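import Cfsg.Agent.Lib.ProgChain
import Cfsg.Agent.Lib.HNLProg0

set_option autoImplicit false

namespace Cfsg.Agent.Lib.HNLTab

open Cfsg.Agent.Lib.ChainCert Cfsg.Agent.Lib.ProgBits Cfsg.Agent.Lib.ProgChain Cfsg.Agent.Lib.PermChain Cfsg.Agent.Lib.TcBits

def sel0_2 (c : ℕ) : List (ℕ × ℕ) := cond (Nat.ble c ((nat_lit 0))) (Cfsg.Agent.Lib.HNLProg0.P0 c) (Cfsg.Agent.Lib.HNLProg0.P1 c)
def sel2_4 (c : ℕ) : List (ℕ × ℕ) := cond (Nat.ble c ((nat_lit 2))) (Cfsg.Agent.Lib.HNLProg0.P2 c) (Cfsg.Agent.Lib.HNLProg0.P3 c)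
def sel0_4 (c : ℕ) : List (ℕ × ℕ) := cond (Nat.ble c ((nat_lit 1))) (sel0_2 c) (sel2_4 c)
def sel4_6 (c : ℕ) : List (ℕ × ℕ) := cond (Nat.ble c ((nat_lit 4))) (Cfsg.Agent.Lib.HNLProg0.P4 c) (Cfsg.Agent.Lib.HNLProg0.P5 c)
def sel6_8 (c : ℕ) : List (ℕ × ℕ) := cond (Nat.ble c ((nat_lit 6))) (Cfsg.Agent.Lib.HNLProg0.P6 c) (Cfsg.Agent.Lib.HNLProg0.P7 c)
def sel4_8 (c : ℕ) : List (ℕ × ℕ) := cond (Nat.ble c ((nat_lit 5))) (sel4_6 c) (sel6_8 c)
def sel0_8 (c : ℕ) : List (ℕ × ℕ) := cond (Nat.ble c ((nat_lit 3))) (sel0_4 c) (sel4_8 c)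
def sel8_10 (c : ℕ) : List (ℕ × ℕ) := cond (Nat.ble c ((nat_lit 8))) (Cfsg.Agent.Lib.HNLProg0.P8 c) (Cfsg.Agent.Lib.HNLProg0.P9 c)
def sel10_12 (c : ℕ) : List (ℕ × ℕ) := cond (Nat.ble c ((nat_lit 10))) (Cfsg.Agent.Lib.HNLProg0.P10 c) (Cfsg.Agent.Lib.HNLProg0.P11 c)
def sel8_12 (c : ℕ) : List (ℕ × ℕ) := cond (Nat.ble c ((nat_lit 9))) (sel8_10 c) (sel10_12 c)
def sel12_14 (c : ℕ) : List (ℕ × ℕ) := cond (Nat.ble c ((nat_lit 12))) (Cfsg.Agent.Lib.HNLProg0.P12 c) (Cfsg.Agent.Lib.HNLProg0.P13 c)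
def sel14_16 (c : ℕ) : List (ℕ × ℕ) := cond (Nat.ble c ((nat_lit 14))) (Cfsg.Agent.Lib.HNLProg0.P14 c) (Cfsg.Agent.Lib.HNLProg0.P15 c)
def sel12_16 (c : ℕ) : List (ℕ × ℕ) := cond (Nat.ble c ((nat_lit 13))) (sel12_14 c) (sel14_16 c)
def sel8_16 (c : ℕ) : List (ℕ × ℕ) := cond (Nat.ble c ((nat_lit 11))) (sel8_12 c) (sel12_16 c)
def sel0_16 (c : ℕ) : List (ℕ × ℕ) := cond (Nat.ble c ((nat_lit 7))) (sel0_8 c) (sel8_16 c)
def sel16_18 (c : ℕ) : List (ℕ × ℕ) := cond (Nat.ble c ((nat_lit 16))) (Cfsg.Agent.Lib.HNLProg0.P16 c) (Cfsg.Agent.Lib.HNLProg0.P17 c)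
def sel18_20 (c : ℕ) : List (ℕ × ℕ) := cond (Nat.ble c ((nat_lit 18))) (Cfsg.Agent.Lib.HNLProg0.P18 c) (Cfsg.Agent.Lib.HNLProg0.P19 c)
def sel16_20 (c : ℕ) : List (ℕ × ℕ) := cond (Nat.ble c ((nat_lit 17))) (sel16_18 c) (sel18_20 c)
def sel20_22 (c : ℕ) : List (ℕ × ℕ) := cond (Nat.ble c ((nat_lit 20))) (Cfsg.Agent.Lib.HNLProg0.P20 c) (Cfsg.Agent.Lib.HNLProg0.P21 c)
def sel22_24 (c : ℕ) : List (ℕ × ℕ) := cond (Nat.ble c ((nat_lit 22))) (Cfsg.Agent.Lib.HNLProg0.P22 c) (Cfsg.Agent.Lib.HNLProg0.P23 c)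
def sel20_24 (c : ℕ) : List (ℕ × ℕ) := cond (Nat.ble c ((nat_lit 21))) (sel20_22 c) (sel22_24 c)
def sel16_24 (c : ℕ) : List (ℕ × ℕ) := cond (Nat.ble c ((nat_lit 19))) (sel16_20 c) (sel20_24 c)
def sel24_26 (c : ℕ) : List (ℕ × ℕ) := cond (Nat.ble c ((nat_lit 24))) (Cfsg.Agent.Lib.HNLProg0.P24 c) (Cfsg.Agent.Lib.HNLProg0.P25 c)
def sel26_28 (c : ℕ) : List (ℕ × ℕ) := cond (Nat.ble c ((nat_lit 26))) (Cfsg.Agent.Lib.HNLProg0.P26 c) (Cfsg.Agent.Lib.HNLProg0.P27 c)
def sel24_28 (c : ℕ) : List (ℕ × ℕ) := cond (Nat.ble c ((nat_lit 25))) (sel24_26 c) (sel26_28 c)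
def sel28_30 (c : ℕ) : List (ℕ × ℕ) := cond (Nat.ble c ((nat_lit 28))) (Cfsg.Agent.Lib.HNLProg0.P28 c) (Cfsg.Agent.Lib.HNLProg0.P29 c)
def sel30_32 (c : ℕ) : List (ℕ × ℕ) := cond (Nat.ble c ((nat_lit 30))) (Cfsg.Agent.Lib.HNLProg0.P30 c) (Cfsg.Agent.Lib.HNLProg0.P31 c)
def sel28_32 (c : ℕ) : List (ℕ × ℕ) := cond (Nat.ble c ((nat_lit 29))) (sel28_30 c) (sel30_32 c)
def sel24_32 (c : ℕ) : List (ℕ × ℕ) := cond (Nat.ble c ((nat_lit 27))) (sel24_28 c) (sel28_32 c)
def sel16_32 (c : ℕ) : List (ℕ × ℕ) := cond (Nat.ble c ((nat_lit 23))) (sel16_24 c) (sel24_32 c)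
def sel0_32 (c : ℕ) : List (ℕ × ℕ) := cond (Nat.ble c ((nat_lit 15))) (sel0_16 c) (sel16_32 c)
def sel32_34 (c : ℕ) : List (ℕ × ℕ) := cond (Nat.ble c ((nat_lit 32))) (Cfsg.Agent.Lib.HNLProg0.P32 c) (Cfsg.Agent.Lib.HNLProg0.P33 c)
def sel34_36 (c : ℕ) : List (ℕ × ℕ) := cond (Nat.ble c ((nat_lit 34))) (Cfsg.Agent.Lib.HNLProg0.P34 c) (Cfsg.Agent.Lib.HNLProg0.P35 c)
def sel32_36 (c : ℕ) : List (ℕ × ℕ) := cond (Nat.ble c ((nat_lit 33))) (sel32_34 c) (sel34_36 c)
def sel36_38 (c : ℕ) : List (ℕ × ℕ) := cond (Nat.ble c ((nat_lit 36))) (Cfsg.Agent.Lib.HNLProg0.P36 c) (Cfsg.Agent.Lib.HNLProg0.P37 c)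
def sel38_40 (c : ℕ) : List (ℕ × ℕ) := cond (Nat.ble c ((nat_lit 38))) (Cfsg.Agent.Lib.HNLProg0.P38 c) (Cfsg.Agent.Lib.HNLProg0.P39 c)
def sel36_40 (c : ℕ) : List (ℕ × ℕ) := cond (Nat.ble c ((nat_lit 37))) (sel36_38 c) (sel38_40 c)
def sel32_40 (c : ℕ) : List (ℕ × ℕ) := cond (Nat.ble c ((nat_lit 35))) (sel32_36 c) (sel36_40 c)
def sel40_42 (c : ℕ) : List (ℕ × ℕ) := cond (Nat.ble c ((nat_lit 40))) (Cfsg.Agent.Lib.HNLProg0.P40 c) (Cfsg.Agent.Lib.HNLProg0.P41 c)
def sel42_44 (c : ℕ) : List (ℕ × ℕ) := cond (Nat.ble c ((nat_lit 42))) (Cfsg.Agent.Lib.HNLProg0.P42 c) (Cfsg.Agent.Lib.HNLProg0.P43 c)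
def sel40_44 (c : ℕ) : List (ℕ × ℕ) := cond (Nat.ble c ((nat_lit 41))) (sel40_42 c) (sel42_44 c)
def sel44_46 (c : ℕ) : List (ℕ × ℕ) := cond (Nat.ble c ((nat_lit 44))) (Cfsg.Agent.Lib.HNLProg0.P44 c) (Cfsg.Agent.Lib.HNLProg0.P45 c)
def sel46_48 (c : ℕ) : List (ℕ × ℕ) := cond (Nat.ble c ((nat_lit 46))) (Cfsg.Agent.Lib.HNLProg0.P46 c) (Cfsg.Agent.Lib.HNLProg0.P47 c)
def sel44_48 (c : ℕ) : List (ℕ × ℕ) := cond (Nat.ble c ((nat_lit 45))) (sel44_46 c) (sel46_48 c)
def sel40_48 (c : ℕ) : List (ℕ × ℕ) := cond (Nat.ble c ((nat_lit 43))) (sel40_44 c) (sel44_48 c)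
def sel32_48 (c : ℕ) : List (ℕ × ℕ) := cond (Nat.ble c ((nat_lit 39))) (sel32_40 c) (sel40_48 c)
def sel48_50 (c : ℕ) : List (ℕ × ℕ) := cond (Nat.ble c ((nat_lit 48))) (Cfsg.Agent.Lib.HNLProg0.P48 c) (Cfsg.Agent.Lib.HNLProg0.P49 c)
def sel50_52 (c : ℕ) : List (ℕ × ℕ) := cond (Nat.ble c ((nat_lit 50))) (Cfsg.Agent.Lib.HNLProg0.P50 c) (Cfsg.Agent.Lib.HNLProg0.P51 c)
def sel48_52 (c : ℕ) : List (ℕ × ℕ) := cond (Nat.ble c ((nat_lit 49))) (sel48_50 c) (sel50_52 c)
def sel52_54 (c : ℕ) : List (ℕ × ℕ) := cond (Nat.ble c ((nat_lit 52))) (Cfsg.Agent.Lib.HNLProg0.P52 c) (Cfsg.Agent.Lib.HNLProg0.P53 c)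
def sel54_56 (c : ℕ) : List (ℕ × ℕ) := cond (Nat.ble c ((nat_lit 54))) (Cfsg.Agent.Lib.HNLProg0.P54 c) (Cfsg.Agent.Lib.HNLProg0.P55 c)
def sel52_56 (c : ℕ) : List (ℕ × ℕ) := cond (Nat.ble c ((nat_lit 53))) (sel52_54 c) (sel54_56 c)
def sel48_56 (c : ℕ) : List (ℕ × ℕ) := cond (Nat.ble c ((nat_lit 51))) (sel48_52 c) (sel52_56 c)
def sel56_58 (c : ℕ) : List (ℕ × ℕ) := cond (Nat.ble c ((nat_lit 56))) (Cfsg.Agent.Lib.HNLProg0.P56 c) (Cfsg.Agent.Lib.HNLProg0.P57 c)
def sel58_60 (c : ℕ) : List (ℕ × ℕ) := cond (Nat.ble c ((nat_lit 58))) (Cfsg.Agent.Lib.HNLProg0.P58 c) (Cfsg.Agent.Lib.HNLProg0.P59 c)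
def sel56_60 (c : ℕ) : List (ℕ × ℕ) := cond (Nat.ble c ((nat_lit 57))) (sel56_58 c) (sel58_60 c)
def sel60_62 (c : ℕ) : List (ℕ × ℕ) := cond (Nat.ble c ((nat_lit 60))) (Cfsg.Agent.Lib.HNLProg0.P60 c) (Cfsg.Agent.Lib.HNLProg0.P61 c)
def sel63_65 (c : ℕ) : List (ℕ × ℕ) := cond (Nat.ble c ((nat_lit 63))) (Cfsg.Agent.Lib.HNLProg0.P63 c) (Cfsg.Agent.Lib.HNLProg0.P64 c)
def sel62_65 (c : ℕ) : List (ℕ × ℕ) := cond (Nat.ble c ((nat_lit 62))) (Cfsg.Agent.Lib.HNLProg0.P62 c) (sel63_65 c)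
def sel60_65 (c : ℕ) : List (ℕ × ℕ) := cond (Nat.ble c ((nat_lit 61))) (sel60_62 c) (sel62_65 c)
def sel56_65 (c : ℕ) : List (ℕ × ℕ) := cond (Nat.ble c ((nat_lit 59))) (sel56_60 c) (sel60_65 c)
def sel48_65 (c : ℕ) : List (ℕ × ℕ) := cond (Nat.ble c ((nat_lit 55))) (sel48_56 c) (sel56_65 c)
def sel32_65 (c : ℕ) : List (ℕ × ℕ) := cond (Nat.ble c ((nat_lit 47))) (sel32_48 c) (sel48_65 c)
def sel0_65 (c : ℕ) : List (ℕ × ℕ) := cond (Nat.ble c ((nat_lit 31))) (sel0_32 c) (sel32_65 c)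
/-- the programs -/
def pr (e : ℕ) : List (ℕ × ℕ) := cond (Nat.ble ((nat_lit 65)) e) [] (sel0_65 e)

/-- the repunit -/
def R : ℕ := nat_lit 0x100000000000000000000000000000000000000000000000000000000000000000000000000000000000000000000000000000000000000000000000000000000000000000000000000000000000000000000000000000000000000000000000000000000000000000000000000000000000000000000000000000000000000000000000000000000000000000000000000000000000000000000000000000000000000000000000000000000000000000000000000000000000000000000000000000000000000000000000000000000000000000000000000000000000000000000000000000000000000000000000000000000000000000000000000000001000000000000000000000000000000000000000000000000000000000000000000000000000000000000000000000000000000000000000000000000000000000000000000000000000000000000000000000000000000000000000000000000000000000000000000000000000000000000000000000000000000000000000000000000000000000000000000000000000000000000000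000000000000000000000000000000000000000000000000000000000000000000000000000000000000000000000000000000000000000000000000000000000000000000000000000000000000000000000000000000000000000000000000000000000000000010000000000000000000000000000000000000000000000000000000000000000000000000000000000000000000000000000000000000000000000000000000000000000000000000000000000000000000000000000000000000000000000000000000000000000000000000000000000000000000000000000000000000000000000000000000000000000000000000000000000000000000000000000000000000000000000000000000000000000000000000000000000000000000000000000000000000000000000000000000000000000000000000000000000000000000000000000000000000000000000000000000000000000000000000000000100000000000000000000000000000000000000000000000000000000000000000000000000000000000000000000000000000000000000000000000000000000000000000000000000000000000000000000000000000000000000000000000000000000000000000000000000000000000000000000000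000000000000000000000000000000000000000000000000000000000000000000000000000000000000000000000000000000000000000000000000000000000000000000000000000000000000000000000000000000000000000000000000000000000000000000000000000000000000000000000000000000000000000000000000000000001000000000000000000000000000000000000000000000000000000000000000000000000000000000000000000000000000000000000000000000000000000000000000000000000000000000000000000000000000000000000000000000000000000000000000000000000000000000000000000000000000000000000000000000000000000000000000000000000000000000000000000000000000000000000000000000000000000000000000000000000000000000000000000000000000000000000000000000000000000000000000000000000000000000000000000000000000000000000000000000000000000000000000000000000000000010000000000000000000000000000000000000000000000000000000000000000000000000000000000000000000000000000000000000000000000000000000000000000000000000000000000000000000000000000000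000000000000000000000000000000000000000000000000000000000000000000000000000000000000000000000000000000000000000000000000000000000000000000000000000000000000000000000000000000000000000000000000000000000000000000000000000000000000000000000000000000000000000000000000000000000000000000000000000000000000000000000000000000000000000000000000100000000000000000000000000000000000000000000000000000000000000000000000000000000000000000000000000000000000000000000000000000000000000000000000000000000000000000000000000000000000000000000000000000000000000000000000000000000000000000000000000000000000000000000000000000000000000000000000000000000000000000000000000000000000000000000000000000000000000000000000000000000000000000000000000000000000000000000000000000000000000000000000000000000000000000000000000000000000000000000000000000000000000000000000000000001000000000000000000000000000000000000000000000000000000000000000000000000000000000000000000000000000000000000000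000000000000000000000000000000000000000000000000000000000000000000000000000000000000000000000000000000000000000000000000000000000000000000000000000000000000000000000000000000000000000000000000000000000000000000000000000000000000000000000000000000000000000000000000000000000000000000000000000000000000000000000000000000000000000000000000000000000000000000000000000000000000000000000000000000000000000010000000000000000000000000000000000000000000000000000000000000000000000000000000000000000000000000000000000000000000000000000000000000000000000000000000000000000000000000000000000000000000000000000000000000000000000000000000000000000000000000000000000000000000000000000000000000000000000000000000000000000000000000000000000000000000000000000000000000000000000000000000000000000000000000000000000000000000000000000000000000000000000000000000000000000000000000000000000000000000000000000000000000000000000000000000100000000000000000000000000000000000000000000000000000000000000000000000000000000000000000000000000000000000000000000000000000000000000000000000000000000000000000000000000000000000000000000000000000000000000000000000000000000000000000000000000000000000000000000000000000000000000000000000000000000000000000000000000000000000000000000000000000000000000000000000000000000000000000000000000000000000000000000000000000000000000000000000000000000000000000000000000000000000000000000000000000000000000000000000000000001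
/-- all the slices of the identity -/
def Y : ℕ := nat_lit 0xffffffffffffffffffffffffffffffffffffffffffffffffffffffffffffffffffffffffffffffffffffffffffffffffffffffffffffffffffffffffffffffffffffffffffffffffffffffffffffffffffffffffffffffffffffffffffffffffffffffffffffffffffffffffffffffffffffffffffffffffffffffffffffffff0000000000000000000000000000000000000000000000000000000000000000000000000000000000000000000000000000000000000000000000000000000000000000000000000000000000000000000000000000000000000000000000000000000000000000000000000000000000000000000000000000000000000000ffffffffffffffffffffffffffffffffffffffffffffffffffffffffffffffffffffffffffffffffffffffffffffffffffffffffffffffffffffffffffffffff00000000000000000000000000000000000000000000000000000000000000000000000000000000000000000000000000000000000000000000000000000000ffffffffffffffffffffffffffffffffffffffffffffffffffffffffffffffffffffffffffffffffffffffffffffffffffffffffffffffffffffffffffffffff00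000000000000000000000000000000000000000000000000000000000000000000000000000000000000000000000000000000000000000000000000000000ffffffffffffffffffffffffffffffffffffffffffffffffffffffffffffffff0000000000000000000000000000000000000000000000000000000000000000ffffffffffffffffffffffffffffffffffffffffffffffffffffffffffffffff0000000000000000000000000000000000000000000000000000000000000000ffffffffffffffffffffffffffffffffffffffffffffffffffffffffffffffff0000000000000000000000000000000000000000000000000000000000000000ffffffffffffffffffffffffffffffffffffffffffffffffffffffffffffffff0000000000000000000000000000000000000000000000000000000000000000ffffffffffffffffffffffffffffffff00000000000000000000000000000000ffffffffffffffffffffffffffffffff00000000000000000000000000000000ffffffffffffffffffffffffffffffff00000000000000000000000000000000ffffffffffffffffffffffffffffffff00000000000000000000000000000000ffffffffffffffffffffffffffffffff00000000000000000000000000000000ff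ffffffffffffffffffffffffffffff00000000000000000000000000000000ffffffffffffffffffffffffffffffff00000000000000000000000000000000ffffffffffffffffffffffffffffffff00000000000000000000000000000000ffffffffffffffff0000000000000000ffffffffffffffff0000000000000000ffffffffffffffff0000000000000000ffffffffffffffff0000000000000000ffffffffffffffff0000000000000000ffffffffffffffff0000000000000000ffffffffffffffff0000000000000000ffffffffffffffff0000000000000000ffffffffffffffff0000000000000000ffffffffffffffff0000000000000000ffffffffffffffff0000000000000000ffffffffffffffff0000000000000000ffffffffffffffff0000000000000000ffffffffffffffff0000000000000000ffffffffffffffff0000000000000000ffffffffffffffff0000000000000000ffffffff00000000ffffffff00000000ffffffff00000000ffffffff00000000ffffffff00000000ffffffff00000000ffffffff00000000ffffffff00000000ffffffff00000000ffffffff00000000ffffffff00000000ffffffff00000000ffffffff00000000ffffffff00000000ffffffff00000000ffffffff00000000ff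ffffff00000000ffffffff00000000ffffffff00000000ffffffff00000000ffffffff00000000ffffffff00000000ffffffff00000000ffffffff00000000ffffffff00000000ffffffff00000000ffffffff00000000ffffffff00000000ffffffff00000000ffffffff00000000ffffffff00000000ffffffff00000000ffff0000ffff0000ffff0000ffff0000ffff0000ffff0000ffff0000ffff0000ffff0000ffff0000ffff0000ffff0000ffff0000ffff0000ffff0000ffff0000ffff0000ffff0000ffff0000ffff0000ffff0000ffff0000ffff0000ffff0000ffff0000ffff0000ffff0000ffff0000ffff0000ffff0000ffff0000ffff0000ffff0000ffff0000ffff0000ffff0000ffff0000ffff0000ffff0000ffff0000ffff0000ffff0000ffff0000ffff0000ffff0000ffff0000ffff0000ffff0000ffff0000ffff0000ffff0000ffff0000ffff0000ffff0000ffff0000ffff0000ffff0000ffff0000ffff0000ffff0000ffff0000ffff0000ffff0000ffff0000ff00ff00ff00ff00ff00ff00ff00ff00ff00ff00ff00ff00ff00ff00ff00ff00ff00ff00ff00ff00ff00ff00ff00ff00ff00ff00ff00ff00ff00ff00ff00ff00ff00ff00ff00ff00ff00ff00ff00ff00ff00ff00ff00ff00ff00ff00ff00ff00ff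00ff00ff00ff00ff00ff00ff00ff00ff00ff00ff00ff00ff00ff00ff00ff00ff00ff00ff00ff00ff00ff00ff00ff00ff00ff00ff00ff00ff00ff00ff00ff00ff00ff00ff00ff00ff00ff00ff00ff00ff00ff00ff00ff00ff00ff00ff00ff00ff00ff00ff00ff00ff00ff00ff00ff00ff00ff00ff00ff00ff00ff00ff00ff00ff00ff00ff00ff00ff00ff00ff00ff00ff00ff00ff00ff00ff00ff00ff00ff00f0f0f0f0f0f0f0f0f0f0f0f0f0f0f0f0f0f0f0f0f0f0f0f0f0f0f0f0f0f0f0f0f0f0f0f0f0f0f0f0f0f0f0f0f0f0f0f0f0f0f0f0f0f0f0f0f0f0f0f0f0f0f0f0f0f0f0f0f0f0f0f0f0f0f0f0f0f0f0f0f0f0f0f0f0f0f0f0f0f0f0f0f0f0f0f0f0f0f0f0f0f0f0f0f0f0f0f0f0f0f0f0f0f0f0f0f0f0f0f0f0f0f0f0f0f0f0f0f0f0f0f0f0f0f0f0f0f0f0f0f0f0f0f0f0f0f0f0f0f0f0f0f0f0f0f0f0f0f0f0f0f0f0f0f0f0f0f0f0f0f0f0f0f0f0f0f0f0f0f0f0f0f0f0f0f0f0f0f0f0f0f0f0f0f0f0f0f0f0f0f0f0f0f0f0f0f0f0f0f0f0f0f0f0f0f0f0f0f0f0f0f0f0f0f0f0f0f0f0f0f0f0f0f0f0f0f0f0f0f0f0f0f0f0f0f0f0f0f0f0f0f0f0f0f0f0cccccccccccccccccccccccccccccccccccccccccccccccccccccccccccccccccccccccccccccccccccccccccccccccccccccccccccccccccccccccccccccccccc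ccccccccccccccccccccccccccccccccccccccccccccccccccccccccccccccccccccccccccccccccccccccccccccccccccccccccccccccccccccccccccccccccccccccccccccccccccccccccccccccccccccccccccccccccccccccccccccccccccccccccccccccccccccccccccccccccccccccccccccccccccccccccccccccccccccccccccccccccccccccccccccccccccccccccccccccccccccccccccccccccccccccccccccccccccccccccccccccccccccccccccccccccccccccccccccccaaaaaaaaaaaaaaaaaaaaaaaaaaaaaaaaaaaaaaaaaaaaaaaaaaaaaaaaaaaaaaaaaaaaaaaaaaaaaaaaaaaaaaaaaaaaaaaaaaaaaaaaaaaaaaaaaaaaaaaaaaaaaaaaaaaaaaaaaaaaaaaaaaaaaaaaaaaaaaaaaaaaaaaaaaaaaaaaaaaaaaaaaaaaaaaaaaaaaaaaaaaaaaaaaaaaaaaaaaaaaaaaaaaaaaaaaaaaaaaaaaaaaaaaaaaaaaaaaaaaaaaaaaaaaaaaaaaaaaaaaaaaaaaaaaaaaaaaaaaaaaaaaaaaaaaaaaaaaaaaaaaaaaaaaaaaaaaaaaaaaaaaaaaaaaaaaaaaaaaaaaaaaaaaaaaaaaaaaaaaaaaaaaaaaaaaaaaaaaaaaaaaaaaaaaaaaaaaaaaaaaaaaaaaaaaaaaaaaaaaaaaaaaaaaaaaaaaaaaaaaaaaaaaaaaaaaaaaaaaaaaaaaaaaaaaaaaaaaaaaaaaaaaaaaaaa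
/-- the mask of the points -/
def M : ℕ := nat_lit 0xfffffffffffffffffffffffffffffffffffffffffffffffffffffffffffffffffffffffffffffffffffffffffffffffffffffffffffffffffffffffffffffffffffffffffffffffffffffffffffffffffffffffffffffffffffffffffffffffffffffffffffffffffffffffffffffffffffffffffffffffffffffffffffffffffffffffffffffffffffffffffffffffffffffffffffffffffffffffffffffffffffffffffffffffffffffffffffffffffffffffffffffffffffffffff

def derT_0 (_ : ℕ) : ℕ := nat_lit 0x3703803503303503403603503403403303300000000000003102f02e03002e02e02e02a02c02d02b02b02b02a00000000000002402702502502402302102402402102002102202002002100000000000001d01a01a01901b01c01a01901a01801601801801801601600000000000000000d00600c00001100000000000a00300700400700b00000c00c009006006000007001003006007007003000002000004001000000000000000000000000000000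
def derT_1 (_ : ℕ) : ℕ := nat_lit 0x0
def derT_s0_2 (c : ℕ) : ℕ := cond (Nat.ble c (nat_lit 0)) (derT_0 c) (derT_1 c)
/-- table lookup -/
def derT (i : ℕ) : ℕ := Nat.land (Nat.shiftRight (derT_s0_2 (Nat.shiftRight i (nat_lit 6))) (Nat.mul (nat_lit 24) (Nat.land i (nat_lit 63)))) (nat_lit 16777215)
def certA_0 (_ : ℕ) : ℕ := nat_lit 0x0
def certA_1 (_ : ℕ) : ℕ := nat_lit 0xe00100a00f00800c00801201000f008000000000000000000000000000000000000000000000000000000000000000000000000000000000000000000000000000000000000000000000000000000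
def certA_2 (_ : ℕ) : ℕ := nat_lit 0x2602802102702902902302902702102a00000000000000000000000000000000000000000000000000000000000000000000000000000000000000000000000000000000000000000000000000000000000000000000000000000000000000000000000000002002001b01701e01700001c01d01f01901801f
def certA_3 (_ : ℕ) : ℕ := nat_lit 0x3f03e03f03e03f03d03c03c03d03d03d03d00003d03d03c03c03c03c00003503a03503903603603503a03403903503603b00000000000000000000000000000000000000000000000000000000000000000000000000000000000000000000000000000000000000000000000000000003203203003202f02f02d00000000000002f02d02d000000000000000000000000000000000000000000000000000000000000000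
def certA_4 (_ : ℕ) : ℕ := nat_lit 0x3e03f03e03e03f
def certA_s0_2 (c : ℕ) : ℕ := cond (Nat.ble c (nat_lit 0)) (certA_0 c) (certA_1 c)
def certA_s3_5 (c : ℕ) : ℕ := cond (Nat.ble c (nat_lit 3)) (certA_3 c) (certA_4 c)
def certA_s2_5 (c : ℕ) : ℕ := cond (Nat.ble c (nat_lit 2)) (certA_2 c) (certA_s3_5 c)
def certA_s0_5 (c : ℕ) : ℕ := cond (Nat.ble c (nat_lit 1)) (certA_s0_2 c) (certA_s2_5 c)
/-- table lookup -/
def certA (i : ℕ) : ℕ := Nat.land (Nat.shiftRight (certA_s0_5 (Nat.shiftRight i (nat_lit 4))) (Nat.mul (nat_lit 84) (Nat.land i (nat_lit 15)))) (nat_lit 19342813113834066795298815)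
def certB_0 (_ : ℕ) : ℕ := nat_lit 0x0
def certB_1 (_ : ℕ) : ℕ := nat_lit 0x7000001000000000000000000000000000000000000
def certB_2 (_ : ℕ) : ℕ := nat_lit 0x2802902602a000000000000000000000000000000000000000000000000000000000018
def certB_3 (_ : ℕ) : ℕ := nat_lit 0x3f00003c00003c03503b03403700000000000000000000000000000000000000002b02c02f000000000000000000
def certB_4 (_ : ℕ) : ℕ := nat_lit 0x0
def certB_s0_2 (c : ℕ) : ℕ := cond (Nat.ble c (nat_lit 0)) (certB_0 c) (certB_1 c)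
def certB_s3_5 (c : ℕ) : ℕ := cond (Nat.ble c (nat_lit 3)) (certB_3 c) (certB_4 c)
def certB_s2_5 (c : ℕ) : ℕ := cond (Nat.ble c (nat_lit 2)) (certB_2 c) (certB_s3_5 c)
def certB_s0_5 (c : ℕ) : ℕ := cond (Nat.ble c (nat_lit 1)) (certB_s0_2 c) (certB_s2_5 c)
/-- table lookup -/
def certB (i : ℕ) : ℕ := Nat.land (Nat.shiftRight (certB_s0_5 (Nat.shiftRight i (nat_lit 4))) (Nat.mul (nat_lit 24) (Nat.land i (nat_lit 15)))) (nat_lit 16777215)
/-- the orbit -/
def Om0 : ℕ := nat_lit 0xfffffffffffffffffffffffff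
def twE0_0 (_ : ℕ) : ℕ := nat_lit 0xd01101500000000701101100000000400e00900000300d00e01100000000d01100700000300e01500400000300e01500300000400e00801100000000d00901500000000d01101100000400e00400e00000400e00400400000000400e00800000000d00900300000400e00400900000000701100700000000700900300000301000900300000000700900400000300d00e00400000000d01100300000000300e01500000000d01500400000000700900700000000400e00400000000000d00900000000701100300000000000700900000000301000900000000300d00e00000000000900700000000000d01100000000d01101200000000000d01500000000100900400000000000400e00000000000701100000000301000400000000301200900000000000900300000000100901200000000300e00300000000000100900000000000000900000000100900900000000000400d00000000301001200000000000301000000000000d00700000000000300d00000000000801100000000000300e00000000000401200000000000800300000000000301200000000000700300000000000000d000000000000008000000000000007000000000000012000000000000004000000000000003000000000000001000000000000000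
def twE0_1 (_ : ℕ) : ℕ := nat_lit 0x400e00901100700400e00901100300301000901500800000400e01501500000400e00901100000700901101100000400e01500700301000901500400000400e00900900300d00e00901200000300d00e00900000700901100400000700901100900000400e01500300000700900701100000301000901500000700901101200000701101100400000400e01500400000000700901100000100901200900000300e01500700000000700901500000400e01500800100900401001200000400e00401200000000d01501100000000400e01500000000400e01100000000701101500000100900401000000400e00900700000400e009015003010009003003000003010009007000003010009012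
def twE0_2 (_ : ℕ) : ℕ := nat_lit 0x0
def twE0_3 (_ : ℕ) : ℕ := nat_lit 0x0
def twE0_4 (_ : ℕ) : ℕ := nat_lit 0x0
def twE0_5 (_ : ℕ) : ℕ := nat_lit 0x0
def twE0_6 (_ : ℕ) : ℕ := nat_lit 0x0
def twE0_7 (_ : ℕ) : ℕ := nat_lit 0x0
def twE0_8 (_ : ℕ) : ℕ := nat_lit 0x0
def twE0_9 (_ : ℕ) : ℕ := nat_lit 0x0
def twE0_10 (_ : ℕ) : ℕ := nat_lit 0x0
def twE0_11 (_ : ℕ) : ℕ := nat_lit 0x0
def twE0_12 (_ : ℕ) : ℕ := nat_lit 0x0
def twE0_13 (_ : ℕ) : ℕ := nat_lit 0x0
def twE0_14 (_ : ℕ) : ℕ := nat_lit 0x0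
def twE0_15 (_ : ℕ) : ℕ := nat_lit 0x0
def twE0_16 (_ : ℕ) : ℕ := nat_lit 0x0
def twE0_17 (_ : ℕ) : ℕ := nat_lit 0x0
def twE0_18 (_ : ℕ) : ℕ := nat_lit 0x0
def twE0_19 (_ : ℕ) : ℕ := nat_lit 0x0
def twE0_20 (_ : ℕ) : ℕ := nat_lit 0x0
def twE0_21 (_ : ℕ) : ℕ := nat_lit 0x0
def twE0_22 (_ : ℕ) : ℕ := nat_lit 0x0
def twE0_23 (_ : ℕ) : ℕ := nat_lit 0x0
def twE0_s1_3 (c : ℕ) : ℕ := cond (Nat.ble c (nat_lit 1)) (twE0_1 c) (twE0_2 c)
def twE0_s0_3 (c : ℕ) : ℕ := cond (Nat.ble c (nat_lit 0)) (twE0_0 c) (twE0_s1_3 c)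
def twE0_s4_6 (c : ℕ) : ℕ := cond (Nat.ble c (nat_lit 4)) (twE0_4 c) (twE0_5 c)
def twE0_s3_6 (c : ℕ) : ℕ := cond (Nat.ble c (nat_lit 3)) (twE0_3 c) (twE0_s4_6 c)
def twE0_s0_6 (c : ℕ) : ℕ := cond (Nat.ble c (nat_lit 2)) (twE0_s0_3 c) (twE0_s3_6 c)
def twE0_s7_9 (c : ℕ) : ℕ := cond (Nat.ble c (nat_lit 7)) (twE0_7 c) (twE0_8 c)
def twE0_s6_9 (c : ℕ) : ℕ := cond (Nat.ble c (nat_lit 6)) (twE0_6 c) (twE0_s7_9 c)
def twE0_s10_12 (c : ℕ) : ℕ := cond (Nat.ble c (nat_lit 10)) (twE0_10 c) (twE0_11 c)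
def twE0_s9_12 (c : ℕ) : ℕ := cond (Nat.ble c (nat_lit 9)) (twE0_9 c) (twE0_s10_12 c)
def twE0_s6_12 (c : ℕ) : ℕ := cond (Nat.ble c (nat_lit 8)) (twE0_s6_9 c) (twE0_s9_12 c)
def twE0_s0_12 (c : ℕ) : ℕ := cond (Nat.ble c (nat_lit 5)) (twE0_s0_6 c) (twE0_s6_12 c)
def twE0_s13_15 (c : ℕ) : ℕ := cond (Nat.ble c (nat_lit 13)) (twE0_13 c) (twE0_14 c)
def twE0_s12_15 (c : ℕ) : ℕ := cond (Nat.ble c (nat_lit 12)) (twE0_12 c) (twE0_s13_15 c)
def twE0_s16_18 (c : ℕ) : ℕ := cond (Nat.ble c (nat_lit 16)) (twE0_16 c) (twE0_17 c)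
def twE0_s15_18 (c : ℕ) : ℕ := cond (Nat.ble c (nat_lit 15)) (twE0_15 c) (twE0_s16_18 c)
def twE0_s12_18 (c : ℕ) : ℕ := cond (Nat.ble c (nat_lit 14)) (twE0_s12_15 c) (twE0_s15_18 c)
def twE0_s19_21 (c : ℕ) : ℕ := cond (Nat.ble c (nat_lit 19)) (twE0_19 c) (twE0_20 c)
def twE0_s18_21 (c : ℕ) : ℕ := cond (Nat.ble c (nat_lit 18)) (twE0_18 c) (twE0_s19_21 c)
def twE0_s22_24 (c : ℕ) : ℕ := cond (Nat.ble c (nat_lit 22)) (twE0_22 c) (twE0_23 c)
def twE0_s21_24 (c : ℕ) : ℕ := cond (Nat.ble c (nat_lit 21)) (twE0_21 c) (twE0_s22_24 c)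
def twE0_s18_24 (c : ℕ) : ℕ := cond (Nat.ble c (nat_lit 20)) (twE0_s18_21 c) (twE0_s21_24 c)
def twE0_s12_24 (c : ℕ) : ℕ := cond (Nat.ble c (nat_lit 17)) (twE0_s12_18 c) (twE0_s18_24 c)
def twE0_s0_24 (c : ℕ) : ℕ := cond (Nat.ble c (nat_lit 11)) (twE0_s0_12 c) (twE0_s12_24 c)
/-- table lookup -/
def twE0 (i : ℕ) : ℕ := Nat.land (Nat.shiftRight (twE0_s0_24 (Nat.shiftRight i (nat_lit 6))) (Nat.mul (nat_lit 60) (Nat.land i (nat_lit 63)))) (nat_lit 1152921504606846975)
/-- transversal words -/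
def tw0 (p : ℕ) : List ℕ := unpW (nat_lit 32) (twE0 p)
def stE0_0 (_ : ℕ) : ℕ := nat_lit 0x3602f02602901801701801e00700000000000000000000000000000000000000000001600000000000000004103602f02602901801701801e00f00000000000000000003602f02602901801701801e00f00000000000000000000000000000003602c02802301400000000000000004103c03403503803302602701801500000000000000000000000000000000000000000000600000000000000000000000000000000000000004101400000000000000000000000000000000000000000001400000000003f03c03403502b02c02801801701801b00a00000000000000000000000000000000000000000000600000004103d03403503803002202602901801b01801300000000000000000000000000000000000000004101200000000000000000000000000000000000000000001200000000000000000003f03d03503602b02b02802600900000000000000000000000000000003f03d03503801100000000000000000000000000000000000000000000500000000000000000000000000000003f03d03503801000000000000000000000000000004103f03d03503801000000000000000000003d03602b02c01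801b01801900e00000000000000000000000000000000000000000000500000000000000000003602f02602901801701801e00f00000000000000000000000000000000000000004100e00000000000000000000000000000000000000000000e00000000000000004103f03d03503602b02b02802600700000000000000000000004103d03602c02f02802800d00000000000000004103d03402602a01801701801d00c00000000000000000000000000000000000000001800400000000000000000000000000000000000004101800400000000000000000000000000000000003d03403700300000000000000000000000000000000000000000000b00000000000000000000000000000000000000000000a00000000000000000000000000000000000000000000300000000000000000000000000000000000000004100300000000000000000000000000004103f03d03503800200000000000000000000000000000000000000000000900000000000000000000000000000000000000000000800000000000000000000000000000000000000000000200000000000000000000000000000000000000004100200000000003f03c03403502b02c02801801701801b00400000000000000000000000000000000000001801800100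000000000000000000000000000000000000000000100000000000000000000000000000000004101801800700000000000000000000000000000000000001801800700000000000000000000000000000000003d03403700600000000000000003d03602b03102802301801b01800200000000000000000000000000000000000000000000000000000000000000000000000000000000000004100600000000000000000000000000000000000000000000600000000000000000000000000004103f03d03503800500000000000000000000000000000000000000000000000000000000000003d03602b03102802301801b01800300000000000000000000000000000000000000004100500000000000000000000000000000000000000000000500000000000000000000000000000003f03d03503600000000000000000000000000000000000000000000000400000000000000000000000000000000000000001800400000000000000000000000000000000000000000000000000000000000000000000000000000000000004100000000000000000000000000000000003f03d035036001000000000000000000000000000000000000000000003000000000000000000000000000000000000000000002000000000000000000000000000000000000000041001000000000000000000000000000000000000000000001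
def stE0_1 (_ : ℕ) : ℕ := nat_lit 0x3503402b02c02202601801701801701100000000000003503803003202802901801701801d02200000000004103503803003202802901801701801d02200000000000000000003d02b02802a01801701801b02100000000000000000000000000000000000000000001400000000000000004103d03503902b02802801801800e00000000000000000000000000000000000000004102100000000000000000000000000000000000000000002100000000000004103f03c03403b03102202701801801e00000000000000000000000000000000000001801801f00000000000004103f03c03403b02f02802801801700d00000000000000000000000000000000000001801802000000000000000000000000000000000004101801802000000000000000000003f03503902c02602901801a02000000000000000000000000000000000000000000000c00000000000000004103602f02602901801701801e01f00000000000000000003602f02602901801701801e01e00000000000000004103602f02602901801701801e01e00000000004103f03d03503b02e02202702a01801700d00000000000000000000000000000000000000000001d00000000000004103f03c03403b02f028028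01801700b00000000000000003f03c03403b02f02802801801700d00000000000004103f03c03403b02f02802801801700d00000000000000000000000000000003602c02802300b00000000000000000000003f03503803003202602701000000000000000000000000000000000000000000001800000000000000000000000000000000000000000000b00000000000000000000000000000000000000004100b00000000000000000000000003d03503403302602701b00000004103d03903402c03202802101801701801e00a00000000000003f03d03503603002902101801b01801d00000004103d03903402c03202802101801701801e01c00000000003d03903402c03202802101801701801e01c00000004103f03c03403502b02c02801801701801b01200000004103d03403503803002202602901801b01800e00000000000000000000000000000003d03403701801a00000000000000000000000000000000000000000000a00000000000000000000000000000000000000004100a00000000003f03403503802d02802701801701801e01c00000000000000000003403503802b02e02601801b01900000000000000000000000000000003f03d03503800900000000000000000000000000004103f03d03503801b000000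00000000000000000000000003f03d03503801b00000000000000004103f03d03503802b02b02802601000000000000000000000000000000000000000000001a00000000000000000000003d03403b02c02f02802801400000000000000000000000000004103f03d03503800900000000000000000000000000000003f03d03503800900000000003c03403b03402e02802901801701801c00c00000000000000004103d03402602a01801701801d00800000000000000000000003c03403503803302602701900000000000000004103d03402602a01801701801d00c00000000000000000003d03402602a01801701801d00c00000000000000000003d03602b02c01801b01801900800003f03d03403503802b02c02802701801701801d01800000004103d03903402c03202802101801701801e01200000000000000000000000000000000000000000000800000000000000000000000000000000000000004100800000000000000000003f03503803003202602701801500000000000000004103c03403503803302602701801700000000000000000000003c03403503803302602700700000000000000004103c03403503803302602701801500000000000000000003c03403503803302602701801500000004103f03c03403b03102602901801701801e00f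
def stE0_2 (_ : ℕ) : ℕ := nat_lit 0x1801d00000000000000000000000000000000000004101801d00000004103f03c03403502b02c02801801701801b02500000000000000000000000000000000000000000001b00000000000000000000000000000000000004103c03100000000000000000000000000000000000000004103000000000000000000000000000000000000000000003000000000003f03c03403502b02c02801801701801b02400000000000000000000000000000000000000000002d00000000000000000000000000000000000000000002f00000000000000000000000000004103f03d03503801a00000000000000000000000000000003f03d03503801a00000000000003f03c03503903102802801801b01801900000000000003c03503402b02e02202602901801802800000000000000000000000000000000000000000002e00000000000000000000000000004103f03d03503802d00000000000000000000000000000003f03d03503802d00000004103c03503802b02c02802701801701801e02d00000000000000000000000000000000000000000002c00000000000000000004103c03402b02e02601801b01b00000000000000000000003c03402b02e02601801b019000000000000000000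04103c03402b02e02601801b01900000000000000000003d02b02802a01801701801b01800000000000000004103902e02802701801c01801902100000000000003f03d03403b02b02c02202701801702100000000000000000000000000000000000000000001800000000000000000000000000000000000000004101800000000004103f03d03402e02802101801b01801901600000000000000004103f03503b02d02202901801b01e00000000000000000000000000000000000000000002b00000000000000000000000000000000000004101801700000000000000000000000000000000000000001801700000000000003f03c02f03002602a01801701801d02a00000000000000000003d03402602a01801701801d01600000000000000000000000000000000000000001801700000000000000000003d03402602a01801701801d02a00000000000000004103d03402602a01801701801d02a00000000004103f03d03602b02802701801701801c01700000000000000000000000000000000000000000002900000000000000000003f03c03502c02602901801a02000000000000000000003d03402602a01801701801d01600000000000000004103d03402602a01801701801d01600000000004103c03503402b02e022026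02901801802800000000000000000000003f03502b02b02802101801300000000000000000000000000000000000000000001500000000000000000000000000000000004101801802600000000000000000000000000000000000001801802600000000000004103d03503902d03002602701801801100000000000000000000000000000000000000000002700000000004103d03403503803002202602901801b02600000000003d03403503803002202602901801b01801300000004103d03403503803002202602901801b01801300000000000000000003f03c03503802b02b02602a01300000000000003503803003202802901801701801d02200000000000000000000000000000000000000000002500000000000000000000000000000003f03d03503801100000000000000000000000000004103f03d03503801100000004103f03c03403502b02c02801801701801b01a00000000004103f03403b03402b02e02802101801801200000000000000000000000000000000000000000001000000000000000000000000000000003f03d03503802400000000000000000000000000004103f03d03503802400000000000004103c03903002602701801701801902300000000000000000000004103d03602c02f02802800f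
def stE0_3 (_ : ℕ) : ℕ := nat_lit 0x4102700000000004103c03503b02c03202602a01801b01803900000000000000000000000000000000000000000002600000004103f03c03403003202802301801b01801904900000000000000000003f03402f03002202601801704800000000000000004103f03402f03002202601801704800000000003d03503602b02c02802701801701801d04700000000000000000000000000000000004103f03d02500000000000000004103503b02f03002202601801803f00000000000000000000000000000000004103f03d04600000000000000000000000000000000000003f03d04600000000003f03c03403502b02c02801801701801b03000000000000000000000003f03c03503402b02c01804500000000000000003c03503b02f03002202601801804400000000000000000000000000000000000000000002500000000000000000000000000000000000000004102500000000000000000000004103f03c03503402b02c026000000000000000000000000000000000000000000024000000000000000000000000000000000000000041043000000000000000000000000000000000000000041028000000000000000000000000000000000000000000028000000000000000000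00000004103f03d03402d02802e00000000000000000000000000000000000000000002300000000000000000000000000000000000000000004200000000000000000000000000000000000000004104100000000000000000000000000000000000000000004100000000000000004103d03902b02e02802901801802200000000000000000000000000000003f03d03503804000000000000000000000000000000000000000000002400000000000000000000000000000003f03d03503802300000000000000000000000000004103f03d03503802300000000000000003c03503902602a01801701801d03a00000003f03d03503b02b02b02902101801701801c03f00000000000000000000000000000000000000000002200000000000000000000003c03402b02e02601801b03e00000000000000000004103c03402b02e02601801b03e00000000000004103c03503402f03002202601801803d00000000000000000000000000000000000000000002000000000000004103d03402b02802901801701801703c00000000000000000000000000000000000000004103b00000000000000000000000000000000000000000003b00000000000000004103602f02602901801701801c01f000000000000000000000000000000000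00000000003a00000000000000000000000000000000000000000003900000000000000000003602f02602901801701801e01f00000000000000004103602f02602901801701801e01f00000000000000000003f03403502c01801c01801903800000000000003d03903402d02602701801c01801903700000000000000000000000000000000000000000001e00000000000000004103f03c03502c02602901801a03600000000000000000003f03c03502c02602901801a03600000000000000000004103f03c03503402b02c01801d00000000004103403503802d02802901801701801d03500000000000000000000003f03c03503402b02c01802300000000000000000000000000000000000000000002f00000000000000000000000000000000000000004102f00000000000000004103f03d03503602b02b02802602700000000000000000000000000000000000000000003400000000000000000000000000000000000000000001c00000000000000000000000000000000000000004103300000000000000000000000000000000000000000003300000000000000000000000000004103c03402b03002f00000000000000000003f03402f03002202601801701c000000000000000000000000000000000000000000032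
def stE0_4 (_ : ℕ) : ℕ := nat_lit 0x4103f03c03403502b02c02801801701801b03f00000003c03403503802b02c02802701801701801d03100000000000004103d03402b02802901801701801702c00000000000000003d03402b02802901801701801703c00000000000004103d03402b02802901801701801703c00000000000000000000000003502d02902101801704f00000000000000000000000000000000000000000005200000000000000000004103603202201801701801705100000000000003503803003202802901801701801d02c00000000004103503803003202802901801701801d02c00000004103d03403502b02c02802701801701801d02b00000000000000003d03403702b02c02202901801b05000000000000000000000003502b02b02202601801803800000000000000000000000000000000000000000004a00000000000000000000000000000000000000004104a00000000000003f03503802b02e02902101801701c03c00000003f03d03503b02b02b02902101801701801c02b00000000000004103f03c03402b03102602901801a03700000003f03d03503b02b02b02902101801701801c03f00004103f03d03503b02b02b02902101801701801c03f00000000000004103c03503402f030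02202601801804a00000000000000000003f03402f03002202601801704c00000000000004103f03c03402f03002202601801703600000000000000000000000000000000000000000002b00000000000000000000000000000000000000004102b00000000000004103f03403503803002601801701802c00000000003f03d03503602c02802601801701801e03900000000000000000000000000000000000000000002a00000004103d03903402c03202802101801701801e04f00000000003d03903402c03202802101801701801e04f00000000003f03503602b02e02802901801701801d03200000000000000000000000000000000000000000002a00000000003f03d03503602c02802601801701801e03a00000000000000000000000000000000000000004104e00000000000000000000000000000000000000000004e00000000000003f03c03503b02d03001801b01801902900000000004103f03903403202602901801b01801903d00000000004103f03903403202602901801b01801904d00000000000003f03903403202602901801b01801904400000000004103f03903403202602901801b01801904400000000003f03c03403502b02c02801801701801b03700000000004103c03503902d02902101801b01801903c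00000004103f03c03403003202802301801b01801902900000000003f03c03403003202802301801b01801904900000004103f03c03403003202802301801b01801904900000000000003f03d03403002802901801701801904400000003f03c03503402c02f02602701801c01801903b00000000000003f03d03402b03002202702a01801b04c00000000000000004103f03503b02d02202901801b02900000000000000000003f03503b02d02202901801b02900000000000000000003f03603002202602901801c03500000000004103f03c03503403102901801b01801904b00000004103d03503b02b03102802a01801701801e02800000000004103f03c03503403102901801b01801904500000000000003f03c03503403102901801b01801904500000000000000003f03c03903402b02802801801804600000000000004103c03503903202602901801701804900000000000000000000000000000000000000000002700000000000000000000000000000000000000004104700000000000000000000000000000000000000000004700000000000000000003f03d03503602b02b02802603300000000000000000000000000000000000000000004a00000000000000000000000000000003d034037018041000000000000000000000000000000000000000000027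
def stE0_5 (_ : ℕ) : ℕ := nat_lit 0x3f03d03402b03002202702a01801b03600000000004103d03403503803002202602901801b03b00000000000000000000000000000000000000000005100000000000000000000000000000000000000004105100000000000000003f03d03503402b03002801801705400000000000000000000000000000000000000000004200000000004103f03c03503403102901801b01801903500000000004103c03503402b02e02202602901801805500000000000003c03503402b02e02202602901801805500000004103d03403502b02c02802701801701801d03b00000000000003f03903403202602901801b01801904400000000000000000000000000000000000000000003300000000000000000000000000000000000000004103d00000000000000000000000000000000000000000003d00000000000000000000000004103f03503802c02f04900000000000003d03903402d02602701801c01801903200000000000000003503402f02202602901801b01803400000000000003d03903402d02602701801c01801903700000000004103d03903402d02602701801c01801903700000000003c03403b03402b02c02901801b01801904e000000000000000000000000000000000000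00000005100000000000000000000000000000000000000000005600000000000003d03403503803002202602901801b03200000000004103d03403503803002202602901801b03200000000000003c03403503802f03002202601801803100000000000000000000000000000000004103f03d04600000000004103f03503902f02802701801701801704600000000000000000000000000000000000000000003400000000000000000000000000000000000000004103400004103f03c03503602b02c02802701801701801d03400000000000000003c03503b02f03002202601801804700000000000000000000000000000000000004103c04700000000000000000000000000000000000000003c03100000000000000000000000000000000000004103c03100000000000000003c03903402b02e02901801b01804500000000003d03903403102202702a01801701801c04100000000000003c03503402b02e02202602901801803000000000000003f03c03503403102901801b01801903500000000004103f03c03503403102901801b01801903500000000000000000004103d03503902202901801b03600000000004103f03503902f02802701801701801703000000000000000000004103502b02b02202601801804a000000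00000000000000003502b02b02202601801803800000000000000000004103502b02b02202601801803800000000000000000000000000000004103d03403704d00000000000000000000000000000000000000004102f00000000000000000000000000000000000000000005300000000000000000000000000000000000000004104d00000000000000000000000000000000000000000004d00000000000000000000000000003d03602b03102905500000000000000000000000000000000000000000002e00000000000000000000000000000000000000000004b00000000000000000000000000000000000000000005400000000000000000000000000000000000000004105400000000000000000000000000003f03d03402d02804100000000004103f03403b03402b02e02802101801803300000000000000003502b02b02802601801c01801e04500000000000000000000000000000000000000000002e00000000000000000000000000000000000000004102e00000000000000000004103403503803003202802905000000000000000000000000000004103f03d03503805300000000000000000000000000000003f03d03503802d00000000000000000000000000004103f03d03503805000000000000000000000000000000003f03d035038050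
def stE0_6 (_ : ℕ) : ℕ := nat_lit 0x3c03403703002802701801701801c05d00000000000000000004103c03402b02e02601801b05200000000000000000000003c03402b02e02601801b05200000000000000004103f03d03503602b02b02802605800000000000004103d03603302802a01801c01801e05700000000000000000000000000000000000000000005000000000003c03503603302202702a01801701801d05f00000004103c03503603302202702a01801701801d05f00000000000000000000003c03403503803102802905700000000000000004103c03502d03001801701801704d00000000000000004103f03902b02801801c01801905800000000000000000003f03902b02801801c01801905e00000000000000004103f03902b02801801c01801905e00000000003f03c03403502b02c02801801701801b05600000000000000000000000000000000000000000004800000000000003c03403b03403102802901801b01805a00000000000000000000000000000000000000004105d00000000000000000000000000000000000000000005d00000000000000000000000003c03403b02b02802804200000000000000000000000004103f03c03403701805400000000004103503402b02c022026018017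01801705c00000000000000000000003f03c03503402b02c01804b00000000000000000004103f03c03503402b02c01804b00000000000000000003d03503b02b02b02802701804b00000000000000000000000000000000000000000005c00000000000000004103f03d03503802802701801805500000000000000000000000000000000000000004104200000000000000000000000000000000000000000004204103f03c03403b02b03002202702a01801701801d05b00000000000000000000000000000000000000000004300000000000000000000000000004103f03d03503804000000000003c03503603302202702a01801701801d05b00000004103c03503603302202702a01801701801d05b00000000000000000003f03d03503602b02b02802605200000000004103503803003202802901801701801d05a00000000000000000000000000000000000000000003e00000000004103503803003202802901801701801d05900000000000003503803003202802901801701801d05900000000000000003f03c03403503803102202602904c00000000000003503602c03202602a01801b01801903e00000000000000000000000000000000000000000004800000000000000000000000000000000000000004104c000000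00000000000000000000000000000000000004c00000000000000000000000004103c03403702c02804000000000000000000000000000000000000000000005800000004103c03503603302202702a01801701801d03d00000000000000000000000000000003f03d03503804000000000000000000000000000004103f03d03503804000000000000000004103f03503402c02901801b01803e00000000000000000000004103603202902101801b04e00000000003f03403502b02202602901801701801c04e00000000003d03403503803002202602901801b01803a00000004103d03403503803002202602901801b01803a00000000004103f03503b03202802301801701801704800000000000004103402d03002202701801701801704f00000000000000000003602b03102801801b01801904f00000000000000000000000000000000000000000003900000000000000000000000000000000000000004103900000000000000000000000000000004103d03403704300000000000000000000003502b02b02202601801803800000000000000000004103c03503902d02802301805700000000000000000000000000000000000000000004300000000000000000000000000000000000000004104300000000000000003f03c034035038031022026029051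
def stE0_7 (_ : ℕ) : ℕ := nat_lit 0x4103f03c03503b02d02602901801b06200000000000000000003903403002801801c01801906000000003f03d03503602c03202602a01801b01801906000000000000000000000000000000000000000000006200000000000000000000000000000000000000004106200000000000004103f03c03503b02d02602901801b06300000000000000000000000000000000000000000005f00000000000000003403b02b02c02202701801701805e00000000000000000000000000000000000000004106300000000000000000000000000000000000000000006300000000000000004103f03d03503802b02b02802606100000000003f03d03503803202202702a01801701c06100000000000004103503802b03002801801701801d06100000000000000000000000000000000000000000005c00000000000000000000000000000000000000004105c00000000000000000003c03503b02c02601801b01805a00004103f03d03403503802d02802901801701801d06300000000000000003f03503b03003202802301801706300000000004103c03403b03403102802901801b01805a00000000000003c03403b03403102802901801b01805a00000000000003f03503802b02e029021018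01701c05f00000003f03c03403503803002202602901801b01805e00000000000000000000000000000000000000000006200000000000000003d03403702b02c02202901801b05800000000000004103d03403702b02c02202901801b05800000000000003f03503802b02e02902101801701c05e00000000000004103503b02f03002802901801701806200000000000004103c03403702f03002202901801a05f00000000000004103d03603302802a01801c01801e05700000000000000003d03603302802a01801c01801e05700000004103f03c03403502b02c02801801701801b05d00000000000000000004103d03903402e02901801805900000000000004103f03c02f02802a01801701801e05b00000000000000000000000000000000000000000005600000000000000000000000000000000000000004105600000000000000000003f03d03503802b02b02802605c00000000000000004103403503802b02e02601801b05500000000000000000000000000000000000000000005400000000000000000000000000000000000000004106100000000000000000000000000000000000000000006100000000004103f03902b02c02802801801701801d05300000000000000000000004103603302602701801705d00000000004103f03503b03003202802301801701805900000000000000003d03403702b02c02202901801b05300000000000004103d03403702b02c02202901801b05300004103f03c03503602c02202702a01801701801a06000000000000004103f03d03403502802801801701805600000000000000000000003c03402b02e02601801b05200000000000004103f03d03403502802801801701806000000000000000003f03d03403502802801801701806000000004103f03c03403502b02c02801801701801b05900004103d03403503802b02c02802601801701801e05b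
def stE0_8 (_ : ℕ) : ℕ := nat_lit 0x0
def stE0_9 (_ : ℕ) : ℕ := nat_lit 0x0
def stE0_10 (_ : ℕ) : ℕ := nat_lit 0x0
def stE0_11 (_ : ℕ) : ℕ := nat_lit 0x0
def stE0_12 (_ : ℕ) : ℕ := nat_lit 0x0
def stE0_13 (_ : ℕ) : ℕ := nat_lit 0x0
def stE0_14 (_ : ℕ) : ℕ := nat_lit 0x0
def stE0_15 (_ : ℕ) : ℕ := nat_lit 0x0
def stE0_16 (_ : ℕ) : ℕ := nat_lit 0x0
def stE0_17 (_ : ℕ) : ℕ := nat_lit 0x0
def stE0_18 (_ : ℕ) : ℕ := nat_lit 0x0
def stE0_19 (_ : ℕ) : ℕ := nat_lit 0x0
def stE0_20 (_ : ℕ) : ℕ := nat_lit 0x0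
def stE0_21 (_ : ℕ) : ℕ := nat_lit 0x0
def stE0_22 (_ : ℕ) : ℕ := nat_lit 0x0
def stE0_23 (_ : ℕ) : ℕ := nat_lit 0x0
def stE0_24 (_ : ℕ) : ℕ := nat_lit 0x0
def stE0_25 (_ : ℕ) : ℕ := nat_lit 0x0
def stE0_26 (_ : ℕ) : ℕ := nat_lit 0x0
def stE0_27 (_ : ℕ) : ℕ := nat_lit 0x0
def stE0_28 (_ : ℕ) : ℕ := nat_lit 0x0
def stE0_29 (_ : ℕ) : ℕ := nat_lit 0x0
def stE0_30 (_ : ℕ) : ℕ := nat_lit 0x0
def stE0_31 (_ : ℕ) : ℕ := nat_lit 0x0
def stE0_32 (_ : ℕ) : ℕ := nat_lit 0x0
def stE0_33 (_ : ℕ) : ℕ := nat_lit 0x0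
def stE0_34 (_ : ℕ) : ℕ := nat_lit 0x0
def stE0_35 (_ : ℕ) : ℕ := nat_lit 0x0
def stE0_36 (_ : ℕ) : ℕ := nat_lit 0x0
def stE0_37 (_ : ℕ) : ℕ := nat_lit 0x0
def stE0_38 (_ : ℕ) : ℕ := nat_lit 0x0
def stE0_39 (_ : ℕ) : ℕ := nat_lit 0x0
def stE0_40 (_ : ℕ) : ℕ := nat_lit 0x0
def stE0_41 (_ : ℕ) : ℕ := nat_lit 0x0
def stE0_42 (_ : ℕ) : ℕ := nat_lit 0x0
def stE0_43 (_ : ℕ) : ℕ := nat_lit 0x0
def stE0_44 (_ : ℕ) : ℕ := nat_lit 0x0
def stE0_45 (_ : ℕ) : ℕ := nat_lit 0x0
def stE0_46 (_ : ℕ) : ℕ := nat_lit 0x0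
def stE0_47 (_ : ℕ) : ℕ := nat_lit 0x0
def stE0_48 (_ : ℕ) : ℕ := nat_lit 0x0
def stE0_49 (_ : ℕ) : ℕ := nat_lit 0x0
def stE0_50 (_ : ℕ) : ℕ := nat_lit 0x0
def stE0_51 (_ : ℕ) : ℕ := nat_lit 0x0
def stE0_52 (_ : ℕ) : ℕ := nat_lit 0x0
def stE0_53 (_ : ℕ) : ℕ := nat_lit 0x0
def stE0_54 (_ : ℕ) : ℕ := nat_lit 0x0
def stE0_55 (_ : ℕ) : ℕ := nat_lit 0x0
def stE0_56 (_ : ℕ) : ℕ := nat_lit 0x0
def stE0_57 (_ : ℕ) : ℕ := nat_lit 0x0
def stE0_58 (_ : ℕ) : ℕ := nat_lit 0x0
def stE0_59 (_ : ℕ) : ℕ := nat_lit 0x0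
def stE0_60 (_ : ℕ) : ℕ := nat_lit 0x0
def stE0_61 (_ : ℕ) : ℕ := nat_lit 0x0
def stE0_62 (_ : ℕ) : ℕ := nat_lit 0x0
def stE0_63 (_ : ℕ) : ℕ := nat_lit 0x0
def stE0_64 (_ : ℕ) : ℕ := nat_lit 0x0
def stE0_65 (_ : ℕ) : ℕ := nat_lit 0x0
def stE0_66 (_ : ℕ) : ℕ := nat_lit 0x0
def stE0_67 (_ : ℕ) : ℕ := nat_lit 0x0
def stE0_68 (_ : ℕ) : ℕ := nat_lit 0x0
def stE0_69 (_ : ℕ) : ℕ := nat_lit 0x0
def stE0_70 (_ : ℕ) : ℕ := nat_lit 0x0
def stE0_71 (_ : ℕ) : ℕ := nat_lit 0x0
def stE0_72 (_ : ℕ) : ℕ := nat_lit 0x0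
def stE0_73 (_ : ℕ) : ℕ := nat_lit 0x0
def stE0_74 (_ : ℕ) : ℕ := nat_lit 0x0
def stE0_75 (_ : ℕ) : ℕ := nat_lit 0x0
def stE0_76 (_ : ℕ) : ℕ := nat_lit 0x0
def stE0_77 (_ : ℕ) : ℕ := nat_lit 0x0
def stE0_78 (_ : ℕ) : ℕ := nat_lit 0x0
def stE0_79 (_ : ℕ) : ℕ := nat_lit 0x0
def stE0_80 (_ : ℕ) : ℕ := nat_lit 0x0
def stE0_81 (_ : ℕ) : ℕ := nat_lit 0x0
def stE0_82 (_ : ℕ) : ℕ := nat_lit 0x0
def stE0_83 (_ : ℕ) : ℕ := nat_lit 0x0
def stE0_84 (_ : ℕ) : ℕ := nat_lit 0x0
def stE0_85 (_ : ℕ) : ℕ := nat_lit 0x0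
def stE0_86 (_ : ℕ) : ℕ := nat_lit 0x0
def stE0_87 (_ : ℕ) : ℕ := nat_lit 0x0
def stE0_88 (_ : ℕ) : ℕ := nat_lit 0x0
def stE0_89 (_ : ℕ) : ℕ := nat_lit 0x0
def stE0_90 (_ : ℕ) : ℕ := nat_lit 0x0
def stE0_91 (_ : ℕ) : ℕ := nat_lit 0x0
def stE0_92 (_ : ℕ) : ℕ := nat_lit 0x0
def stE0_93 (_ : ℕ) : ℕ := nat_lit 0x0
def stE0_94 (_ : ℕ) : ℕ := nat_lit 0x0
def stE0_95 (_ : ℕ) : ℕ := nat_lit 0x0
def stE0_96 (_ : ℕ) : ℕ := nat_lit 0x0
def stE0_97 (_ : ℕ) : ℕ := nat_lit 0x0
def stE0_98 (_ : ℕ) : ℕ := nat_lit 0x0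
def stE0_99 (_ : ℕ) : ℕ := nat_lit 0x0
def stE0_100 (_ : ℕ) : ℕ := nat_lit 0x0
def stE0_101 (_ : ℕ) : ℕ := nat_lit 0x0
def stE0_102 (_ : ℕ) : ℕ := nat_lit 0x0
def stE0_103 (_ : ℕ) : ℕ := nat_lit 0x0
def stE0_104 (_ : ℕ) : ℕ := nat_lit 0x0
def stE0_105 (_ : ℕ) : ℕ := nat_lit 0x0
def stE0_106 (_ : ℕ) : ℕ := nat_lit 0x0
def stE0_107 (_ : ℕ) : ℕ := nat_lit 0x0
def stE0_108 (_ : ℕ) : ℕ := nat_lit 0x0
def stE0_109 (_ : ℕ) : ℕ := nat_lit 0x0
def stE0_110 (_ : ℕ) : ℕ := nat_lit 0x0
def stE0_111 (_ : ℕ) : ℕ := nat_lit 0x0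
def stE0_112 (_ : ℕ) : ℕ := nat_lit 0x0
def stE0_113 (_ : ℕ) : ℕ := nat_lit 0x0
def stE0_114 (_ : ℕ) : ℕ := nat_lit 0x0
def stE0_115 (_ : ℕ) : ℕ := nat_lit 0x0
def stE0_116 (_ : ℕ) : ℕ := nat_lit 0x0
def stE0_117 (_ : ℕ) : ℕ := nat_lit 0x0
def stE0_s1_3 (c : ℕ) : ℕ := cond (Nat.ble c (nat_lit 1)) (stE0_1 c) (stE0_2 c)
def stE0_s0_3 (c : ℕ) : ℕ := cond (Nat.ble c (nat_lit 0)) (stE0_0 c) (stE0_s1_3 c)
def stE0_s3_5 (c : ℕ) : ℕ := cond (Nat.ble c (nat_lit 3)) (stE0_3 c) (stE0_4 c)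
def stE0_s5_7 (c : ℕ) : ℕ := cond (Nat.ble c (nat_lit 5)) (stE0_5 c) (stE0_6 c)
def stE0_s3_7 (c : ℕ) : ℕ := cond (Nat.ble c (nat_lit 4)) (stE0_s3_5 c) (stE0_s5_7 c)
def stE0_s0_7 (c : ℕ) : ℕ := cond (Nat.ble c (nat_lit 2)) (stE0_s0_3 c) (stE0_s3_7 c)
def stE0_s8_10 (c : ℕ) : ℕ := cond (Nat.ble c (nat_lit 8)) (stE0_8 c) (stE0_9 c)
def stE0_s7_10 (c : ℕ) : ℕ := cond (Nat.ble c (nat_lit 7)) (stE0_7 c) (stE0_s8_10 c)
def stE0_s10_12 (c : ℕ) : ℕ := cond (Nat.ble c (nat_lit 10)) (stE0_10 c) (stE0_11 c)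
def stE0_s12_14 (c : ℕ) : ℕ := cond (Nat.ble c (nat_lit 12)) (stE0_12 c) (stE0_13 c)
def stE0_s10_14 (c : ℕ) : ℕ := cond (Nat.ble c (nat_lit 11)) (stE0_s10_12 c) (stE0_s12_14 c)
def stE0_s7_14 (c : ℕ) : ℕ := cond (Nat.ble c (nat_lit 9)) (stE0_s7_10 c) (stE0_s10_14 c)
def stE0_s0_14 (c : ℕ) : ℕ := cond (Nat.ble c (nat_lit 6)) (stE0_s0_7 c) (stE0_s7_14 c)
def stE0_s15_17 (c : ℕ) : ℕ := cond (Nat.ble c (nat_lit 15)) (stE0_15 c) (stE0_16 c)
def stE0_s14_17 (c : ℕ) : ℕ := cond (Nat.ble c (nat_lit 14)) (stE0_14 c) (stE0_s15_17 c)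
def stE0_s17_19 (c : ℕ) : ℕ := cond (Nat.ble c (nat_lit 17)) (stE0_17 c) (stE0_18 c)
def stE0_s19_21 (c : ℕ) : ℕ := cond (Nat.ble c (nat_lit 19)) (stE0_19 c) (stE0_20 c)
def stE0_s17_21 (c : ℕ) : ℕ := cond (Nat.ble c (nat_lit 18)) (stE0_s17_19 c) (stE0_s19_21 c)
def stE0_s14_21 (c : ℕ) : ℕ := cond (Nat.ble c (nat_lit 16)) (stE0_s14_17 c) (stE0_s17_21 c)
def stE0_s21_23 (c : ℕ) : ℕ := cond (Nat.ble c (nat_lit 21)) (stE0_21 c) (stE0_22 c)
def stE0_s23_25 (c : ℕ) : ℕ := cond (Nat.ble c (nat_lit 23)) (stE0_23 c) (stE0_24 c)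
def stE0_s21_25 (c : ℕ) : ℕ := cond (Nat.ble c (nat_lit 22)) (stE0_s21_23 c) (stE0_s23_25 c)
def stE0_s25_27 (c : ℕ) : ℕ := cond (Nat.ble c (nat_lit 25)) (stE0_25 c) (stE0_26 c)
def stE0_s27_29 (c : ℕ) : ℕ := cond (Nat.ble c (nat_lit 27)) (stE0_27 c) (stE0_28 c)
def stE0_s25_29 (c : ℕ) : ℕ := cond (Nat.ble c (nat_lit 26)) (stE0_s25_27 c) (stE0_s27_29 c)
def stE0_s21_29 (c : ℕ) : ℕ := cond (Nat.ble c (nat_lit 24)) (stE0_s21_25 c) (stE0_s25_29 c)
def stE0_s14_29 (c : ℕ) : ℕ := cond (Nat.ble c (nat_lit 20)) (stE0_s14_21 c) (stE0_s21_29 c)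
def stE0_s0_29 (c : ℕ) : ℕ := cond (Nat.ble c (nat_lit 13)) (stE0_s0_14 c) (stE0_s14_29 c)
def stE0_s30_32 (c : ℕ) : ℕ := cond (Nat.ble c (nat_lit 30)) (stE0_30 c) (stE0_31 c)
def stE0_s29_32 (c : ℕ) : ℕ := cond (Nat.ble c (nat_lit 29)) (stE0_29 c) (stE0_s30_32 c)
def stE0_s32_34 (c : ℕ) : ℕ := cond (Nat.ble c (nat_lit 32)) (stE0_32 c) (stE0_33 c)
def stE0_s34_36 (c : ℕ) : ℕ := cond (Nat.ble c (nat_lit 34)) (stE0_34 c) (stE0_35 c)
def stE0_s32_36 (c : ℕ) : ℕ := cond (Nat.ble c (nat_lit 33)) (stE0_s32_34 c) (stE0_s34_36 c)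
def stE0_s29_36 (c : ℕ) : ℕ := cond (Nat.ble c (nat_lit 31)) (stE0_s29_32 c) (stE0_s32_36 c)
def stE0_s36_38 (c : ℕ) : ℕ := cond (Nat.ble c (nat_lit 36)) (stE0_36 c) (stE0_37 c)
def stE0_s38_40 (c : ℕ) : ℕ := cond (Nat.ble c (nat_lit 38)) (stE0_38 c) (stE0_39 c)
def stE0_s36_40 (c : ℕ) : ℕ := cond (Nat.ble c (nat_lit 37)) (stE0_s36_38 c) (stE0_s38_40 c)
def stE0_s40_42 (c : ℕ) : ℕ := cond (Nat.ble c (nat_lit 40)) (stE0_40 c) (stE0_41 c)
def stE0_s42_44 (c : ℕ) : ℕ := cond (Nat.ble c (nat_lit 42)) (stE0_42 c) (stE0_43 c)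
def stE0_s40_44 (c : ℕ) : ℕ := cond (Nat.ble c (nat_lit 41)) (stE0_s40_42 c) (stE0_s42_44 c)
def stE0_s36_44 (c : ℕ) : ℕ := cond (Nat.ble c (nat_lit 39)) (stE0_s36_40 c) (stE0_s40_44 c)
def stE0_s29_44 (c : ℕ) : ℕ := cond (Nat.ble c (nat_lit 35)) (stE0_s29_36 c) (stE0_s36_44 c)
def stE0_s45_47 (c : ℕ) : ℕ := cond (Nat.ble c (nat_lit 45)) (stE0_45 c) (stE0_46 c)
def stE0_s44_47 (c : ℕ) : ℕ := cond (Nat.ble c (nat_lit 44)) (stE0_44 c) (stE0_s45_47 c)
def stE0_s47_49 (c : ℕ) : ℕ := cond (Nat.ble c (nat_lit 47)) (stE0_47 c) (stE0_48 c)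
def stE0_s49_51 (c : ℕ) : ℕ := cond (Nat.ble c (nat_lit 49)) (stE0_49 c) (stE0_50 c)
def stE0_s47_51 (c : ℕ) : ℕ := cond (Nat.ble c (nat_lit 48)) (stE0_s47_49 c) (stE0_s49_51 c)
def stE0_s44_51 (c : ℕ) : ℕ := cond (Nat.ble c (nat_lit 46)) (stE0_s44_47 c) (stE0_s47_51 c)
def stE0_s51_53 (c : ℕ) : ℕ := cond (Nat.ble c (nat_lit 51)) (stE0_51 c) (stE0_52 c)
def stE0_s53_55 (c : ℕ) : ℕ := cond (Nat.ble c (nat_lit 53)) (stE0_53 c) (stE0_54 c)
def stE0_s51_55 (c : ℕ) : ℕ := cond (Nat.ble c (nat_lit 52)) (stE0_s51_53 c) (stE0_s53_55 c)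
def stE0_s55_57 (c : ℕ) : ℕ := cond (Nat.ble c (nat_lit 55)) (stE0_55 c) (stE0_56 c)
def stE0_s57_59 (c : ℕ) : ℕ := cond (Nat.ble c (nat_lit 57)) (stE0_57 c) (stE0_58 c)
def stE0_s55_59 (c : ℕ) : ℕ := cond (Nat.ble c (nat_lit 56)) (stE0_s55_57 c) (stE0_s57_59 c)
def stE0_s51_59 (c : ℕ) : ℕ := cond (Nat.ble c (nat_lit 54)) (stE0_s51_55 c) (stE0_s55_59 c)
def stE0_s44_59 (c : ℕ) : ℕ := cond (Nat.ble c (nat_lit 50)) (stE0_s44_51 c) (stE0_s51_59 c)
def stE0_s29_59 (c : ℕ) : ℕ := cond (Nat.ble c (nat_lit 43)) (stE0_s29_44 c) (stE0_s44_59 c)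
def stE0_s0_59 (c : ℕ) : ℕ := cond (Nat.ble c (nat_lit 28)) (stE0_s0_29 c) (stE0_s29_59 c)
def stE0_s60_62 (c : ℕ) : ℕ := cond (Nat.ble c (nat_lit 60)) (stE0_60 c) (stE0_61 c)
def stE0_s59_62 (c : ℕ) : ℕ := cond (Nat.ble c (nat_lit 59)) (stE0_59 c) (stE0_s60_62 c)
def stE0_s62_64 (c : ℕ) : ℕ := cond (Nat.ble c (nat_lit 62)) (stE0_62 c) (stE0_63 c)
def stE0_s64_66 (c : ℕ) : ℕ := cond (Nat.ble c (nat_lit 64)) (stE0_64 c) (stE0_65 c)
def stE0_s62_66 (c : ℕ) : ℕ := cond (Nat.ble c (nat_lit 63)) (stE0_s62_64 c) (stE0_s64_66 c)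
def stE0_s59_66 (c : ℕ) : ℕ := cond (Nat.ble c (nat_lit 61)) (stE0_s59_62 c) (stE0_s62_66 c)
def stE0_s67_69 (c : ℕ) : ℕ := cond (Nat.ble c (nat_lit 67)) (stE0_67 c) (stE0_68 c)
def stE0_s66_69 (c : ℕ) : ℕ := cond (Nat.ble c (nat_lit 66)) (stE0_66 c) (stE0_s67_69 c)
def stE0_s69_71 (c : ℕ) : ℕ := cond (Nat.ble c (nat_lit 69)) (stE0_69 c) (stE0_70 c)
def stE0_s71_73 (c : ℕ) : ℕ := cond (Nat.ble c (nat_lit 71)) (stE0_71 c) (stE0_72 c)
def stE0_s69_73 (c : ℕ) : ℕ := cond (Nat.ble c (nat_lit 70)) (stE0_s69_71 c) (stE0_s71_73 c)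
def stE0_s66_73 (c : ℕ) : ℕ := cond (Nat.ble c (nat_lit 68)) (stE0_s66_69 c) (stE0_s69_73 c)
def stE0_s59_73 (c : ℕ) : ℕ := cond (Nat.ble c (nat_lit 65)) (stE0_s59_66 c) (stE0_s66_73 c)
def stE0_s74_76 (c : ℕ) : ℕ := cond (Nat.ble c (nat_lit 74)) (stE0_74 c) (stE0_75 c)
def stE0_s73_76 (c : ℕ) : ℕ := cond (Nat.ble c (nat_lit 73)) (stE0_73 c) (stE0_s74_76 c)
def stE0_s76_78 (c : ℕ) : ℕ := cond (Nat.ble c (nat_lit 76)) (stE0_76 c) (stE0_77 c)
def stE0_s78_80 (c : ℕ) : ℕ := cond (Nat.ble c (nat_lit 78)) (stE0_78 c) (stE0_79 c)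
def stE0_s76_80 (c : ℕ) : ℕ := cond (Nat.ble c (nat_lit 77)) (stE0_s76_78 c) (stE0_s78_80 c)
def stE0_s73_80 (c : ℕ) : ℕ := cond (Nat.ble c (nat_lit 75)) (stE0_s73_76 c) (stE0_s76_80 c)
def stE0_s80_82 (c : ℕ) : ℕ := cond (Nat.ble c (nat_lit 80)) (stE0_80 c) (stE0_81 c)
def stE0_s82_84 (c : ℕ) : ℕ := cond (Nat.ble c (nat_lit 82)) (stE0_82 c) (stE0_83 c)
def stE0_s80_84 (c : ℕ) : ℕ := cond (Nat.ble c (nat_lit 81)) (stE0_s80_82 c) (stE0_s82_84 c)
def stE0_s84_86 (c : ℕ) : ℕ := cond (Nat.ble c (nat_lit 84)) (stE0_84 c) (stE0_85 c)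
def stE0_s86_88 (c : ℕ) : ℕ := cond (Nat.ble c (nat_lit 86)) (stE0_86 c) (stE0_87 c)
def stE0_s84_88 (c : ℕ) : ℕ := cond (Nat.ble c (nat_lit 85)) (stE0_s84_86 c) (stE0_s86_88 c)
def stE0_s80_88 (c : ℕ) : ℕ := cond (Nat.ble c (nat_lit 83)) (stE0_s80_84 c) (stE0_s84_88 c)
def stE0_s73_88 (c : ℕ) : ℕ := cond (Nat.ble c (nat_lit 79)) (stE0_s73_80 c) (stE0_s80_88 c)
def stE0_s59_88 (c : ℕ) : ℕ := cond (Nat.ble c (nat_lit 72)) (stE0_s59_73 c) (stE0_s73_88 c)
def stE0_s89_91 (c : ℕ) : ℕ := cond (Nat.ble c (nat_lit 89)) (stE0_89 c) (stE0_90 c)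
def stE0_s88_91 (c : ℕ) : ℕ := cond (Nat.ble c (nat_lit 88)) (stE0_88 c) (stE0_s89_91 c)
def stE0_s91_93 (c : ℕ) : ℕ := cond (Nat.ble c (nat_lit 91)) (stE0_91 c) (stE0_92 c)
def stE0_s93_95 (c : ℕ) : ℕ := cond (Nat.ble c (nat_lit 93)) (stE0_93 c) (stE0_94 c)
def stE0_s91_95 (c : ℕ) : ℕ := cond (Nat.ble c (nat_lit 92)) (stE0_s91_93 c) (stE0_s93_95 c)
def stE0_s88_95 (c : ℕ) : ℕ := cond (Nat.ble c (nat_lit 90)) (stE0_s88_91 c) (stE0_s91_95 c)
def stE0_s95_97 (c : ℕ) : ℕ := cond (Nat.ble c (nat_lit 95)) (stE0_95 c) (stE0_96 c)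
def stE0_s97_99 (c : ℕ) : ℕ := cond (Nat.ble c (nat_lit 97)) (stE0_97 c) (stE0_98 c)
def stE0_s95_99 (c : ℕ) : ℕ := cond (Nat.ble c (nat_lit 96)) (stE0_s95_97 c) (stE0_s97_99 c)
def stE0_s99_101 (c : ℕ) : ℕ := cond (Nat.ble c (nat_lit 99)) (stE0_99 c) (stE0_100 c)
def stE0_s101_103 (c : ℕ) : ℕ := cond (Nat.ble c (nat_lit 101)) (stE0_101 c) (stE0_102 c)
def stE0_s99_103 (c : ℕ) : ℕ := cond (Nat.ble c (nat_lit 100)) (stE0_s99_101 c) (stE0_s101_103 c)
def stE0_s95_103 (c : ℕ) : ℕ := cond (Nat.ble c (nat_lit 98)) (stE0_s95_99 c) (stE0_s99_103 c)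
def stE0_s88_103 (c : ℕ) : ℕ := cond (Nat.ble c (nat_lit 94)) (stE0_s88_95 c) (stE0_s95_103 c)
def stE0_s104_106 (c : ℕ) : ℕ := cond (Nat.ble c (nat_lit 104)) (stE0_104 c) (stE0_105 c)
def stE0_s103_106 (c : ℕ) : ℕ := cond (Nat.ble c (nat_lit 103)) (stE0_103 c) (stE0_s104_106 c)
def stE0_s106_108 (c : ℕ) : ℕ := cond (Nat.ble c (nat_lit 106)) (stE0_106 c) (stE0_107 c)
def stE0_s108_110 (c : ℕ) : ℕ := cond (Nat.ble c (nat_lit 108)) (stE0_108 c) (stE0_109 c)
def stE0_s106_110 (c : ℕ) : ℕ := cond (Nat.ble c (nat_lit 107)) (stE0_s106_108 c) (stE0_s108_110 c)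
def stE0_s103_110 (c : ℕ) : ℕ := cond (Nat.ble c (nat_lit 105)) (stE0_s103_106 c) (stE0_s106_110 c)
def stE0_s110_112 (c : ℕ) : ℕ := cond (Nat.ble c (nat_lit 110)) (stE0_110 c) (stE0_111 c)
def stE0_s112_114 (c : ℕ) : ℕ := cond (Nat.ble c (nat_lit 112)) (stE0_112 c) (stE0_113 c)
def stE0_s110_114 (c : ℕ) : ℕ := cond (Nat.ble c (nat_lit 111)) (stE0_s110_112 c) (stE0_s112_114 c)
def stE0_s114_116 (c : ℕ) : ℕ := cond (Nat.ble c (nat_lit 114)) (stE0_114 c) (stE0_115 c)
def stE0_s116_118 (c : ℕ) : ℕ := cond (Nat.ble c (nat_lit 116)) (stE0_116 c) (stE0_117 c)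
def stE0_s114_118 (c : ℕ) : ℕ := cond (Nat.ble c (nat_lit 115)) (stE0_s114_116 c) (stE0_s116_118 c)
def stE0_s110_118 (c : ℕ) : ℕ := cond (Nat.ble c (nat_lit 113)) (stE0_s110_114 c) (stE0_s114_118 c)
def stE0_s103_118 (c : ℕ) : ℕ := cond (Nat.ble c (nat_lit 109)) (stE0_s103_110 c) (stE0_s110_118 c)
def stE0_s88_118 (c : ℕ) : ℕ := cond (Nat.ble c (nat_lit 102)) (stE0_s88_103 c) (stE0_s103_118 c)
def stE0_s59_118 (c : ℕ) : ℕ := cond (Nat.ble c (nat_lit 87)) (stE0_s59_88 c) (stE0_s88_118 c)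
def stE0_s0_118 (c : ℕ) : ℕ := cond (Nat.ble c (nat_lit 58)) (stE0_s0_59 c) (stE0_s59_118 c)
/-- table lookup -/
def stE0 (i : ℕ) : ℕ := Nat.land (Nat.shiftRight (stE0_s0_118 (Nat.shiftRight i (nat_lit 6))) (Nat.mul (nat_lit 180) (Nat.land i (nat_lit 63)))) (nat_lit 1532495540865888858358347027150309183618739122183602175)
/-- step check -/
def Pst0 : ℕ → Bool := ProgChain.stepChk R Y pr (nat_lit 1508) (nat_lit 0) (nat_lit 5) (nat_lit 22) Om0 tw0 stE0
/-- images -/
def Pimg0 : ℕ → Bool := imgChk pr (nat_lit 0) Om0 tw0 (nat_lit 0)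
/-- derived letters -/
def Pder0 (e : ℕ) : Bool := cond (Nat.ble ((nat_lit 5)) e) (derChk R Y pr (nat_lit 0) derT e) true
/-- next generators -/
def Pcert0 (e : ℕ) : Bool := cond (Nat.ble ((nat_lit 22)) e) (certChk R Y pr (nat_lit 0) (nat_lit 22) certA certB e) true
/-- next generators fix the point -/
def Pfix0 (e : ℕ) : Bool := cond (Nat.ble ((nat_lit 22)) e) (ptChk pr [e] (nat_lit 0) (nat_lit 0)) true
/-- the orbit -/
def Om1 : ℕ := nat_lit 0x4224d31c046000010050a0900
def twE1_0 (_ : ℕ) : ℕ := nat_lit 0x1801b00000000000000000000000000000000000001801b01801901801701801e00000000000000000000000000000000000000000000000000000000000000000000000000000000000000000000000000000000000000000000000000000000000000000000000000000000000000000000000000000000000000000000000000000000000000000000000000000000000000000000000000000000001800000000000000000000000000000000000000000000000000000000000000000000000000000000000000000000000000000000000001801701801900000000000001801701801b00000000000000000000000000000000000000000000000000000001801700000000000000001801b018000000000000000000000000000000000000000000000000000000000000000000018018000000000000000000000000000000000000000000000000000000000000000000000000000000000000000000000000000000000000000000000000000000000000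
def twE1_1 (_ : ℕ) : ℕ := nat_lit 0x1801a00000000000000000000000000000000000000000000000000000001801c00000000000000000000000000000000000000001801c01800000000000000000000000001801c01801900000000000000000000000001801c01801e01801701801c00000000000001801701c01800000000000000000000000000001801701c01801701801a00000000000000000000000000000000000000001801701801801701801701801701801d000000000000000000000000000000000000000000000000000000000000000000000000
def twE1_2 (_ : ℕ) : ℕ := nat_lit 0x0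
def twE1_3 (_ : ℕ) : ℕ := nat_lit 0x0
def twE1_4 (_ : ℕ) : ℕ := nat_lit 0x0
def twE1_5 (_ : ℕ) : ℕ := nat_lit 0x0
def twE1_6 (_ : ℕ) : ℕ := nat_lit 0x0
def twE1_7 (_ : ℕ) : ℕ := nat_lit 0x0
def twE1_8 (_ : ℕ) : ℕ := nat_lit 0x0
def twE1_9 (_ : ℕ) : ℕ := nat_lit 0x0
def twE1_10 (_ : ℕ) : ℕ := nat_lit 0x0
def twE1_11 (_ : ℕ) : ℕ := nat_lit 0x0
def twE1_12 (_ : ℕ) : ℕ := nat_lit 0x0
def twE1_13 (_ : ℕ) : ℕ := nat_lit 0x0
def twE1_14 (_ : ℕ) : ℕ := nat_lit 0x0
def twE1_15 (_ : ℕ) : ℕ := nat_lit 0x0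
def twE1_16 (_ : ℕ) : ℕ := nat_lit 0x0
def twE1_17 (_ : ℕ) : ℕ := nat_lit 0x0
def twE1_18 (_ : ℕ) : ℕ := nat_lit 0x0
def twE1_19 (_ : ℕ) : ℕ := nat_lit 0x0
def twE1_20 (_ : ℕ) : ℕ := nat_lit 0x0
def twE1_21 (_ : ℕ) : ℕ := nat_lit 0x0
def twE1_22 (_ : ℕ) : ℕ := nat_lit 0x0
def twE1_23 (_ : ℕ) : ℕ := nat_lit 0x0
def twE1_s1_3 (c : ℕ) : ℕ := cond (Nat.ble c (nat_lit 1)) (twE1_1 c) (twE1_2 c)
def twE1_s0_3 (c : ℕ) : ℕ := cond (Nat.ble c (nat_lit 0)) (twE1_0 c) (twE1_s1_3 c)
def twE1_s4_6 (c : ℕ) : ℕ := cond (Nat.ble c (nat_lit 4)) (twE1_4 c) (twE1_5 c)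
def twE1_s3_6 (c : ℕ) : ℕ := cond (Nat.ble c (nat_lit 3)) (twE1_3 c) (twE1_s4_6 c)
def twE1_s0_6 (c : ℕ) : ℕ := cond (Nat.ble c (nat_lit 2)) (twE1_s0_3 c) (twE1_s3_6 c)
def twE1_s7_9 (c : ℕ) : ℕ := cond (Nat.ble c (nat_lit 7)) (twE1_7 c) (twE1_8 c)
def twE1_s6_9 (c : ℕ) : ℕ := cond (Nat.ble c (nat_lit 6)) (twE1_6 c) (twE1_s7_9 c)
def twE1_s10_12 (c : ℕ) : ℕ := cond (Nat.ble c (nat_lit 10)) (twE1_10 c) (twE1_11 c)
def twE1_s9_12 (c : ℕ) : ℕ := cond (Nat.ble c (nat_lit 9)) (twE1_9 c) (twE1_s10_12 c)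
def twE1_s6_12 (c : ℕ) : ℕ := cond (Nat.ble c (nat_lit 8)) (twE1_s6_9 c) (twE1_s9_12 c)
def twE1_s0_12 (c : ℕ) : ℕ := cond (Nat.ble c (nat_lit 5)) (twE1_s0_6 c) (twE1_s6_12 c)
def twE1_s13_15 (c : ℕ) : ℕ := cond (Nat.ble c (nat_lit 13)) (twE1_13 c) (twE1_14 c)
def twE1_s12_15 (c : ℕ) : ℕ := cond (Nat.ble c (nat_lit 12)) (twE1_12 c) (twE1_s13_15 c)
def twE1_s16_18 (c : ℕ) : ℕ := cond (Nat.ble c (nat_lit 16)) (twE1_16 c) (twE1_17 c)
def twE1_s15_18 (c : ℕ) : ℕ := cond (Nat.ble c (nat_lit 15)) (twE1_15 c) (twE1_s16_18 c)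
def twE1_s12_18 (c : ℕ) : ℕ := cond (Nat.ble c (nat_lit 14)) (twE1_s12_15 c) (twE1_s15_18 c)
def twE1_s19_21 (c : ℕ) : ℕ := cond (Nat.ble c (nat_lit 19)) (twE1_19 c) (twE1_20 c)
def twE1_s18_21 (c : ℕ) : ℕ := cond (Nat.ble c (nat_lit 18)) (twE1_18 c) (twE1_s19_21 c)
def twE1_s22_24 (c : ℕ) : ℕ := cond (Nat.ble c (nat_lit 22)) (twE1_22 c) (twE1_23 c)
def twE1_s21_24 (c : ℕ) : ℕ := cond (Nat.ble c (nat_lit 21)) (twE1_21 c) (twE1_s22_24 c)
def twE1_s18_24 (c : ℕ) : ℕ := cond (Nat.ble c (nat_lit 20)) (twE1_s18_21 c) (twE1_s21_24 c)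
def twE1_s12_24 (c : ℕ) : ℕ := cond (Nat.ble c (nat_lit 17)) (twE1_s12_18 c) (twE1_s18_24 c)
def twE1_s0_24 (c : ℕ) : ℕ := cond (Nat.ble c (nat_lit 11)) (twE1_s0_12 c) (twE1_s12_24 c)
/-- table lookup -/
def twE1 (i : ℕ) : ℕ := Nat.land (Nat.shiftRight (twE1_s0_24 (Nat.shiftRight i (nat_lit 6))) (Nat.mul (nat_lit 48) (Nat.land i (nat_lit 63)))) (nat_lit 281474976710655)
/-- transversal words -/
def tw1 (p : ℕ) : List ℕ := unpW (nat_lit 32) (twE1 p)
def stE1_0 (_ : ℕ) : ℕ := nat_lit 0x3f02c04d00000000000000000000000000001800000000000000000000000000000000000000000000000000000000000000004103f03902c03202202602901800000000000000000000000000004c00000000000000000000000000000000000000000000000000000000000000000000000000000000000000000000000000000000000000000000000000000000000000000000000000000000000000000000000000000000000000000000000000000000000000000000000000000000000000000000000000000000000000000000000000004800000004103f03d03403b03002200b000000000000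00000000000000000000000000000000000000000000000000000000000003c03402b02602904600000000000003403502b02202703900000000000000000000000000000000000000000000000000000000000000000000000000000000000000000000000000000000000000000000000000000000000000000000000000000000000000000000000000000000000000000000000000000000000000000000000000000000000000000000000000000000000000000000000000000000000000000000000000000000000000000000000000000000000000000800000000000004103d03402202903e00000000000000000000000000000000000000000000000000000000000000000000000000000000000000000000000000000000000000000000000000000000000000000000000000002404103c03403503802c032022026008000000000000000000000000000000000000000000000000000000000000000000000000000000000000000000000000000000000000000000000000000000000000000000000000000000000000000000000000000000000000000000000000000000000000000000000000000000000000000000000000000000000000000000000000000000000000000000000000000000000000000000000000000000000000000000000000000000000000000000000000000000000000000000000000000000000000000000000000000000000000000000000000000000000000000000000000000000000000000000000000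
def stE1_1 (_ : ℕ) : ℕ := nat_lit 0x1100000000000000000000000000006200000000000000000000000000000000000000000000000000000000000000000000000000000000000000000000000000000000000000000000000000000000000000000000000000000000000000000000000000000000000000000000003503602b03002602903a00000000000003403502b02202704800000000004103f03503b03202903900000004103c03403003202802703a000000000000000000000000000000000000000000000000000000000000000000000000000000000000000000000000000000000000000000000000000000000000000000000000000000000000000000000000000000000000000000000000000000000000000000000000000000000000000000000000000000000000000000000000000000000000000000000000000000000000000000000000000000000000000000000000000000000000000000000000000000000000000000000000000000000000000000000000000000000000000000000000000000000000000000000000000000000000000000000000000000000000000000000000000000000000000000000000000000000000000000000000000000000000000000000000000000000000000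00000000000000000000000000000000000000000000000000000000000000000000000000000000000000000000000000000000000000000000000000000000000000000000000000000000000000000000000000000000000000000000000000000000000000000000000000000000000000000000000000000000000000000000000000000000000000000000000000000000000000000000000000000000000000000000000000000000000000000000000000000000000000000000000000000000000000000000000000000000000000000000000000000000000000000000000000000000000000000000000000000000000000000000000000000000000000000000000000000000000000000000000000000000000000000000000000000000000000000000000000000000000000000000000000000000000000b000000000000000000000000000013000000000000000000000000000000000000000000000000000000000000000000000000000000000000000000000000000000000000000000000000000000000000000000000000000000000000000000000000000000000000000000000000000000000000000000000000000000000000000000000000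
def stE1_2 (_ : ℕ) : ℕ := nat_lit 0x5900000000000000000000000000004d00000000000000000000000000000000000000000000000000000000000000000000000000000000000000000000000000000000000000000000000000000000000000000000000000000000000000000000000000000000000000000000000000003902b02802604c00003f03403503803102202702a05000000000000000000000000000000000000000000000000000000000000000000000000000000000000000000000000000000000000000000000000000000004103f03902b02e02802705204103f03d03503802b02b02802901100000000000000000000000000000000000000000000000000000000000000000000000000000000000000000000000000000000000000000000000000000003403b03402c02f02802805600000000003d03503902c02f02804600000003f03d03503b02b03102805300000000004103d03003202902105300000000000000000000000000000000000000000000000000000000000000000000000000000003c03902c01a00000003d03503b02b02b022026056000000000000000000000000000000000000000000000000000000000000000000000000000000000000000000000000000000000000000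00000000000000000000000000000000000005000000000000003f03c03403702e02400000000003403b02c03202602905d00000000000000000000000000005200000000000000000000000000000000000000000000000000000000000000000000000000000000000000000000000000000000000000000000000000000000000000000000000000000000000000000000000000000000000000004103f03403b02f03002802804700000000000000000000000000004700000004103f03403b02f02602701300000000000000000000000000001a00000004103d03403502f02602903e00000000004103d030032029021059000000000000000000000000000000000000000000000000000000000000000000000000000000000000000000000000000000000000000000000000000000000000000000000000000000000000000000000000000000000000000000000000000000000000000000000000000000000000000000000000000000000000000000000000000000000000000000000000000000000000000000000000000000000000000000000000000000000000000000000000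
def stE1_3 (_ : ℕ) : ℕ := nat_lit 0x3d03503903202802106200000000000000000000000000005d000000000000000000000000000000000000000000000000000000000000000000000000000000000000000000000000000000000000000000000000
def stE1_4 (_ : ℕ) : ℕ := nat_lit 0x0
def stE1_5 (_ : ℕ) : ℕ := nat_lit 0x0
def stE1_6 (_ : ℕ) : ℕ := nat_lit 0x0
def stE1_7 (_ : ℕ) : ℕ := nat_lit 0x0
def stE1_8 (_ : ℕ) : ℕ := nat_lit 0x0
def stE1_9 (_ : ℕ) : ℕ := nat_lit 0x0
def stE1_10 (_ : ℕ) : ℕ := nat_lit 0x0
def stE1_11 (_ : ℕ) : ℕ := nat_lit 0x0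
def stE1_12 (_ : ℕ) : ℕ := nat_lit 0x0
def stE1_13 (_ : ℕ) : ℕ := nat_lit 0x0
def stE1_14 (_ : ℕ) : ℕ := nat_lit 0x0
def stE1_15 (_ : ℕ) : ℕ := nat_lit 0x0
def stE1_16 (_ : ℕ) : ℕ := nat_lit 0x0
def stE1_17 (_ : ℕ) : ℕ := nat_lit 0x0
def stE1_18 (_ : ℕ) : ℕ := nat_lit 0x0
def stE1_19 (_ : ℕ) : ℕ := nat_lit 0x0
def stE1_20 (_ : ℕ) : ℕ := nat_lit 0x0
def stE1_21 (_ : ℕ) : ℕ := nat_lit 0x0
def stE1_22 (_ : ℕ) : ℕ := nat_lit 0x0
def stE1_23 (_ : ℕ) : ℕ := nat_lit 0x0
def stE1_24 (_ : ℕ) : ℕ := nat_lit 0x0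
def stE1_25 (_ : ℕ) : ℕ := nat_lit 0x0
def stE1_26 (_ : ℕ) : ℕ := nat_lit 0x0
def stE1_27 (_ : ℕ) : ℕ := nat_lit 0x0
def stE1_28 (_ : ℕ) : ℕ := nat_lit 0x0
def stE1_29 (_ : ℕ) : ℕ := nat_lit 0x0
def stE1_30 (_ : ℕ) : ℕ := nat_lit 0x0
def stE1_31 (_ : ℕ) : ℕ := nat_lit 0x0
def stE1_32 (_ : ℕ) : ℕ := nat_lit 0x0
def stE1_33 (_ : ℕ) : ℕ := nat_lit 0x0
def stE1_34 (_ : ℕ) : ℕ := nat_lit 0x0
def stE1_35 (_ : ℕ) : ℕ := nat_lit 0x0
def stE1_36 (_ : ℕ) : ℕ := nat_lit 0x0
def stE1_37 (_ : ℕ) : ℕ := nat_lit 0x0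
def stE1_38 (_ : ℕ) : ℕ := nat_lit 0x0
def stE1_39 (_ : ℕ) : ℕ := nat_lit 0x0
def stE1_40 (_ : ℕ) : ℕ := nat_lit 0x0
def stE1_41 (_ : ℕ) : ℕ := nat_lit 0x0
def stE1_42 (_ : ℕ) : ℕ := nat_lit 0x0
def stE1_43 (_ : ℕ) : ℕ := nat_lit 0x0
def stE1_44 (_ : ℕ) : ℕ := nat_lit 0x0
def stE1_45 (_ : ℕ) : ℕ := nat_lit 0x0
def stE1_46 (_ : ℕ) : ℕ := nat_lit 0x0
def stE1_47 (_ : ℕ) : ℕ := nat_lit 0x0
def stE1_s1_3 (c : ℕ) : ℕ := cond (Nat.ble c (nat_lit 1)) (stE1_1 c) (stE1_2 c)
def stE1_s0_3 (c : ℕ) : ℕ := cond (Nat.ble c (nat_lit 0)) (stE1_0 c) (stE1_s1_3 c)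
def stE1_s4_6 (c : ℕ) : ℕ := cond (Nat.ble c (nat_lit 4)) (stE1_4 c) (stE1_5 c)
def stE1_s3_6 (c : ℕ) : ℕ := cond (Nat.ble c (nat_lit 3)) (stE1_3 c) (stE1_s4_6 c)
def stE1_s0_6 (c : ℕ) : ℕ := cond (Nat.ble c (nat_lit 2)) (stE1_s0_3 c) (stE1_s3_6 c)
def stE1_s7_9 (c : ℕ) : ℕ := cond (Nat.ble c (nat_lit 7)) (stE1_7 c) (stE1_8 c)
def stE1_s6_9 (c : ℕ) : ℕ := cond (Nat.ble c (nat_lit 6)) (stE1_6 c) (stE1_s7_9 c)
def stE1_s10_12 (c : ℕ) : ℕ := cond (Nat.ble c (nat_lit 10)) (stE1_10 c) (stE1_11 c)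
def stE1_s9_12 (c : ℕ) : ℕ := cond (Nat.ble c (nat_lit 9)) (stE1_9 c) (stE1_s10_12 c)
def stE1_s6_12 (c : ℕ) : ℕ := cond (Nat.ble c (nat_lit 8)) (stE1_s6_9 c) (stE1_s9_12 c)
def stE1_s0_12 (c : ℕ) : ℕ := cond (Nat.ble c (nat_lit 5)) (stE1_s0_6 c) (stE1_s6_12 c)
def stE1_s13_15 (c : ℕ) : ℕ := cond (Nat.ble c (nat_lit 13)) (stE1_13 c) (stE1_14 c)
def stE1_s12_15 (c : ℕ) : ℕ := cond (Nat.ble c (nat_lit 12)) (stE1_12 c) (stE1_s13_15 c)
def stE1_s16_18 (c : ℕ) : ℕ := cond (Nat.ble c (nat_lit 16)) (stE1_16 c) (stE1_17 c)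
def stE1_s15_18 (c : ℕ) : ℕ := cond (Nat.ble c (nat_lit 15)) (stE1_15 c) (stE1_s16_18 c)
def stE1_s12_18 (c : ℕ) : ℕ := cond (Nat.ble c (nat_lit 14)) (stE1_s12_15 c) (stE1_s15_18 c)
def stE1_s19_21 (c : ℕ) : ℕ := cond (Nat.ble c (nat_lit 19)) (stE1_19 c) (stE1_20 c)
def stE1_s18_21 (c : ℕ) : ℕ := cond (Nat.ble c (nat_lit 18)) (stE1_18 c) (stE1_s19_21 c)
def stE1_s22_24 (c : ℕ) : ℕ := cond (Nat.ble c (nat_lit 22)) (stE1_22 c) (stE1_23 c)
def stE1_s21_24 (c : ℕ) : ℕ := cond (Nat.ble c (nat_lit 21)) (stE1_21 c) (stE1_s22_24 c)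
def stE1_s18_24 (c : ℕ) : ℕ := cond (Nat.ble c (nat_lit 20)) (stE1_s18_21 c) (stE1_s21_24 c)
def stE1_s12_24 (c : ℕ) : ℕ := cond (Nat.ble c (nat_lit 17)) (stE1_s12_18 c) (stE1_s18_24 c)
def stE1_s0_24 (c : ℕ) : ℕ := cond (Nat.ble c (nat_lit 11)) (stE1_s0_12 c) (stE1_s12_24 c)
def stE1_s25_27 (c : ℕ) : ℕ := cond (Nat.ble c (nat_lit 25)) (stE1_25 c) (stE1_26 c)
def stE1_s24_27 (c : ℕ) : ℕ := cond (Nat.ble c (nat_lit 24)) (stE1_24 c) (stE1_s25_27 c)
def stE1_s28_30 (c : ℕ) : ℕ := cond (Nat.ble c (nat_lit 28)) (stE1_28 c) (stE1_29 c)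
def stE1_s27_30 (c : ℕ) : ℕ := cond (Nat.ble c (nat_lit 27)) (stE1_27 c) (stE1_s28_30 c)
def stE1_s24_30 (c : ℕ) : ℕ := cond (Nat.ble c (nat_lit 26)) (stE1_s24_27 c) (stE1_s27_30 c)
def stE1_s31_33 (c : ℕ) : ℕ := cond (Nat.ble c (nat_lit 31)) (stE1_31 c) (stE1_32 c)
def stE1_s30_33 (c : ℕ) : ℕ := cond (Nat.ble c (nat_lit 30)) (stE1_30 c) (stE1_s31_33 c)
def stE1_s34_36 (c : ℕ) : ℕ := cond (Nat.ble c (nat_lit 34)) (stE1_34 c) (stE1_35 c)
def stE1_s33_36 (c : ℕ) : ℕ := cond (Nat.ble c (nat_lit 33)) (stE1_33 c) (stE1_s34_36 c)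
def stE1_s30_36 (c : ℕ) : ℕ := cond (Nat.ble c (nat_lit 32)) (stE1_s30_33 c) (stE1_s33_36 c)
def stE1_s24_36 (c : ℕ) : ℕ := cond (Nat.ble c (nat_lit 29)) (stE1_s24_30 c) (stE1_s30_36 c)
def stE1_s37_39 (c : ℕ) : ℕ := cond (Nat.ble c (nat_lit 37)) (stE1_37 c) (stE1_38 c)
def stE1_s36_39 (c : ℕ) : ℕ := cond (Nat.ble c (nat_lit 36)) (stE1_36 c) (stE1_s37_39 c)
def stE1_s40_42 (c : ℕ) : ℕ := cond (Nat.ble c (nat_lit 40)) (stE1_40 c) (stE1_41 c)
def stE1_s39_42 (c : ℕ) : ℕ := cond (Nat.ble c (nat_lit 39)) (stE1_39 c) (stE1_s40_42 c)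
def stE1_s36_42 (c : ℕ) : ℕ := cond (Nat.ble c (nat_lit 38)) (stE1_s36_39 c) (stE1_s39_42 c)
def stE1_s43_45 (c : ℕ) : ℕ := cond (Nat.ble c (nat_lit 43)) (stE1_43 c) (stE1_44 c)
def stE1_s42_45 (c : ℕ) : ℕ := cond (Nat.ble c (nat_lit 42)) (stE1_42 c) (stE1_s43_45 c)
def stE1_s46_48 (c : ℕ) : ℕ := cond (Nat.ble c (nat_lit 46)) (stE1_46 c) (stE1_47 c)
def stE1_s45_48 (c : ℕ) : ℕ := cond (Nat.ble c (nat_lit 45)) (stE1_45 c) (stE1_s46_48 c)
def stE1_s42_48 (c : ℕ) : ℕ := cond (Nat.ble c (nat_lit 44)) (stE1_s42_45 c) (stE1_s45_48 c)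
def stE1_s36_48 (c : ℕ) : ℕ := cond (Nat.ble c (nat_lit 41)) (stE1_s36_42 c) (stE1_s42_48 c)
def stE1_s24_48 (c : ℕ) : ℕ := cond (Nat.ble c (nat_lit 35)) (stE1_s24_36 c) (stE1_s36_48 c)
def stE1_s0_48 (c : ℕ) : ℕ := cond (Nat.ble c (nat_lit 23)) (stE1_s0_24 c) (stE1_s24_48 c)
/-- table lookup -/
def stE1 (i : ℕ) : ℕ := Nat.land (Nat.shiftRight (stE1_s0_48 (Nat.shiftRight i (nat_lit 6))) (Nat.mul (nat_lit 120) (Nat.land i (nat_lit 63)))) (nat_lit 1329227995784915872903807060280344575)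
/-- step check -/
def Pst1 : ℕ → Bool := ProgChain.stepChk R Y pr (nat_lit 1508) (nat_lit 22) (nat_lit 2) (nat_lit 32) Om1 tw1 stE1
/-- images -/
def Pimg1 : ℕ → Bool := imgChk pr (nat_lit 22) Om1 tw1 (nat_lit 8)
/-- derived letters -/
def Pder1 (e : ℕ) : Bool := cond (Nat.ble ((nat_lit 24)) e) (derChk R Y pr (nat_lit 22) derT e) true
/-- next generators -/
def Pcert1 (e : ℕ) : Bool := cond (Nat.ble ((nat_lit 32)) e) (certChk R Y pr (nat_lit 22) (nat_lit 32) certA certB e) true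
/-- next generators fix the point -/
def Pfix1 (e : ℕ) : Bool := cond (Nat.ble ((nat_lit 32)) e) (ptChk pr [e] (nat_lit 8) (nat_lit 8)) true
/-- the orbit -/
def Om2 : ℕ := nat_lit 0x4224d31c046000010050a0800
def twE2_0 (_ : ℕ) : ℕ := nat_lit 0x2202600000000000000000000000000000002602700002802300000000000000000000000000000000000000000000000000000000000000000000000000000000000000000000000000000000000000000000000000000000000000000000000000000000000000000000000000000000000000000002200000000000000000000000000000000000000000000000000000000000000000000000000000000000002602900000000000002802600000000000000000000000000000000000000002802800000000000002602a000000000000000000000000000000000000000000000000000000000000000000000000000000000000000000000000000000000000000000000000000000000000000000000000000000000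
def twE2_1 (_ : ℕ) : ℕ := nat_lit 0x2202602900000000000000000000000000000000000000000002600000000000000000000000000000002802900000000000000000000000002900000000000000000000002902100002202700000000000002802a00000000000000000002202702a000022029000000000000000000000000000000000028000028027000028021000000000000000000000000000000000000000000000000000000
def twE2_2 (_ : ℕ) : ℕ := nat_lit 0x0
def twE2_3 (_ : ℕ) : ℕ := nat_lit 0x0
def twE2_4 (_ : ℕ) : ℕ := nat_lit 0x0
def twE2_5 (_ : ℕ) : ℕ := nat_lit 0x0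
def twE2_6 (_ : ℕ) : ℕ := nat_lit 0x0
def twE2_7 (_ : ℕ) : ℕ := nat_lit 0x0
def twE2_8 (_ : ℕ) : ℕ := nat_lit 0x0
def twE2_9 (_ : ℕ) : ℕ := nat_lit 0x0
def twE2_10 (_ : ℕ) : ℕ := nat_lit 0x0
def twE2_11 (_ : ℕ) : ℕ := nat_lit 0x0
def twE2_12 (_ : ℕ) : ℕ := nat_lit 0x0
def twE2_13 (_ : ℕ) : ℕ := nat_lit 0x0
def twE2_14 (_ : ℕ) : ℕ := nat_lit 0x0
def twE2_15 (_ : ℕ) : ℕ := nat_lit 0x0
def twE2_16 (_ : ℕ) : ℕ := nat_lit 0x0
def twE2_17 (_ : ℕ) : ℕ := nat_lit 0x0
def twE2_18 (_ : ℕ) : ℕ := nat_lit 0x0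
def twE2_19 (_ : ℕ) : ℕ := nat_lit 0x0
def twE2_20 (_ : ℕ) : ℕ := nat_lit 0x0
def twE2_21 (_ : ℕ) : ℕ := nat_lit 0x0
def twE2_22 (_ : ℕ) : ℕ := nat_lit 0x0
def twE2_23 (_ : ℕ) : ℕ := nat_lit 0x0
def twE2_s1_3 (c : ℕ) : ℕ := cond (Nat.ble c (nat_lit 1)) (twE2_1 c) (twE2_2 c)
def twE2_s0_3 (c : ℕ) : ℕ := cond (Nat.ble c (nat_lit 0)) (twE2_0 c) (twE2_s1_3 c)
def twE2_s4_6 (c : ℕ) : ℕ := cond (Nat.ble c (nat_lit 4)) (twE2_4 c) (twE2_5 c)
def twE2_s3_6 (c : ℕ) : ℕ := cond (Nat.ble c (nat_lit 3)) (twE2_3 c) (twE2_s4_6 c)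
def twE2_s0_6 (c : ℕ) : ℕ := cond (Nat.ble c (nat_lit 2)) (twE2_s0_3 c) (twE2_s3_6 c)
def twE2_s7_9 (c : ℕ) : ℕ := cond (Nat.ble c (nat_lit 7)) (twE2_7 c) (twE2_8 c)
def twE2_s6_9 (c : ℕ) : ℕ := cond (Nat.ble c (nat_lit 6)) (twE2_6 c) (twE2_s7_9 c)
def twE2_s10_12 (c : ℕ) : ℕ := cond (Nat.ble c (nat_lit 10)) (twE2_10 c) (twE2_11 c)
def twE2_s9_12 (c : ℕ) : ℕ := cond (Nat.ble c (nat_lit 9)) (twE2_9 c) (twE2_s10_12 c)
def twE2_s6_12 (c : ℕ) : ℕ := cond (Nat.ble c (nat_lit 8)) (twE2_s6_9 c) (twE2_s9_12 c)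
def twE2_s0_12 (c : ℕ) : ℕ := cond (Nat.ble c (nat_lit 5)) (twE2_s0_6 c) (twE2_s6_12 c)
def twE2_s13_15 (c : ℕ) : ℕ := cond (Nat.ble c (nat_lit 13)) (twE2_13 c) (twE2_14 c)
def twE2_s12_15 (c : ℕ) : ℕ := cond (Nat.ble c (nat_lit 12)) (twE2_12 c) (twE2_s13_15 c)
def twE2_s16_18 (c : ℕ) : ℕ := cond (Nat.ble c (nat_lit 16)) (twE2_16 c) (twE2_17 c)
def twE2_s15_18 (c : ℕ) : ℕ := cond (Nat.ble c (nat_lit 15)) (twE2_15 c) (twE2_s16_18 c)
def twE2_s12_18 (c : ℕ) : ℕ := cond (Nat.ble c (nat_lit 14)) (twE2_s12_15 c) (twE2_s15_18 c)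
def twE2_s19_21 (c : ℕ) : ℕ := cond (Nat.ble c (nat_lit 19)) (twE2_19 c) (twE2_20 c)
def twE2_s18_21 (c : ℕ) : ℕ := cond (Nat.ble c (nat_lit 18)) (twE2_18 c) (twE2_s19_21 c)
def twE2_s22_24 (c : ℕ) : ℕ := cond (Nat.ble c (nat_lit 22)) (twE2_22 c) (twE2_23 c)
def twE2_s21_24 (c : ℕ) : ℕ := cond (Nat.ble c (nat_lit 21)) (twE2_21 c) (twE2_s22_24 c)
def twE2_s18_24 (c : ℕ) : ℕ := cond (Nat.ble c (nat_lit 20)) (twE2_s18_21 c) (twE2_s21_24 c)
def twE2_s12_24 (c : ℕ) : ℕ := cond (Nat.ble c (nat_lit 17)) (twE2_s12_18 c) (twE2_s18_24 c)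
def twE2_s0_24 (c : ℕ) : ℕ := cond (Nat.ble c (nat_lit 11)) (twE2_s0_12 c) (twE2_s12_24 c)
/-- table lookup -/
def twE2 (i : ℕ) : ℕ := Nat.land (Nat.shiftRight (twE2_s0_24 (Nat.shiftRight i (nat_lit 6))) (Nat.mul (nat_lit 36) (Nat.land i (nat_lit 63)))) (nat_lit 68719476735)
/-- transversal words -/
def tw2 (p : ℕ) : List ℕ := unpW (nat_lit 32) (twE2 p)
def stE2_0 (_ : ℕ) : ℕ := nat_lit 0x3d03503402b03004600000004103f03c03602b04d00000000000000000000000000000000000000000000000000000003f03503402f03005900000004103403503803103900000000000000000000000000000000000000000000000000000000000000000000000000000000000000000000000000000000000000000000000000000000000000000000000000000000000000000000000000000000000000000000000004103f03d03403b03402e04d00004103d03903403003201100000000000000000000000000000000000000000000000000000000003c03503403201a00000003403503802b02c04c0000000000000000000000000000000000000000000000000000000000000000000000000000000000000000000000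0000000000000000000000000000000000000000000000000000000000000000000000000000000000000000000000000000000000000000000000000000000000000000000000000000000000000000000000002400000004103c03403503200b000000000000000000000000000000000000000000000000000000000000000000000000000000000000000000000000000000000000000000000000000000000000000000000000000000000000000000000000000000000000000000000000000000000000000000000000000000000000000000000000000000000000000000000000000000000000000000000000000000000000000000000000000000000000000000000000000000000000000000000000000000000000000000000000000000000000000000000000000000000000000000000000000000000000000000000000000000000000000000000000000000000000000000000000000000000000000000000000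
def stE2_1 (_ : ℕ) : ℕ := nat_lit 0x4103d03602c02f01300000004103c03503902d05900000000000000000000000000000000000000000000000000000000000000000000000000000000000000000000000000000000000000000000000000000000000000000000000000000000003503402b03004c04103f03c03403702b03001800000000000000000000001800004103f03403b02c03203a000000000000000000000000000000000000000000000000000000000000000000000000000000000000000000000000000000000000000000000000000000000000000000000000000000000000000000000000000000000000000000000000000000000000000000000000000000000000000000000000000000000000000000000000000000000000000000000000000000000000000000000000000000000000000000000000000000000000000000000000000000000000000000000000000000000000000000000000000000000000000000000000000000000000000000000000000000000000000000000000000000000000000000000000000000000000000000000000000000000000000000000000000000000000000000000000000000000000000000000000000000000000000000000000000000000000000000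00000000000000000000000000000000000000000000000000000000000000000000000000000000000000000000000000000000000000000000000000000000000000000000000000000000000000000000000000000000000000000000000000000000000000000000000000000000000000000000000000000000000000000000000000000000000000000000000000000000000000000000000000000004103f03d03503402d03005d00004103f03503802b02b024000000000000000000000000000000000000000000000000000000000000000000000000000000000000000000000000000000000000000000000000000000000000000000000000000000000000000000000000000000000000000000000000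
def stE2_2 (_ : ℕ) : ℕ := nat_lit 0x3503402b03003e00000004103c03502b02c04800000000000000000000000000000000000000000000000000000000000000000000000000000000000000000000000000000000000000000000000000000000000000000000000000000003d03503402f03003a00000004103503802b03104700000000000000000000000000000000000000000000000000000000000000000000000000000000000000000000000000000003d03903402c03204700000000000000000000005300000000000000000000000000000000000000000000000000000000000000000000000000000000000000000000000000004103d03503902b03101104103f03403503803003205204103f03d03503402d03005600004103c03503903003205600000000000000000000000000000000000000000000000000000000000000003d03504800004103c03503402b02b01a00000000000000000000000000000000000000000000000000000000000000000000000000000000000000000000000000000000003f03d03402c06200000000004103d03603005000004103f03d03402c03205000000000004103403b02e013000000000000000000000000000000000000000000000000000000000000000000000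00000000000000000000000000000000000000000000000000000000000000000000000000000000000003f03d03402c05200000000000000000000004600000000004103d03902d05300000000004103f03d02b03e00000000000000000000003900000000000003f03503105d000000000000000000000000000000000000000000000000000000000000000000000000000000000000000000000000000000000000000000000000000000000000000000000000000000000000000000000000000000000000000000000000000000000000000000000000000000000000000000000000000000000000000000000000000000000000000000000000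
def stE2_3 (_ : ℕ) : ℕ := nat_lit 0x4103d03602b03000b00000003f03d03503402b062000000000000000000000000000000000000000000000000000000000000000000000000000000000000000000000000
def stE2_4 (_ : ℕ) : ℕ := nat_lit 0x0
def stE2_5 (_ : ℕ) : ℕ := nat_lit 0x0
def stE2_6 (_ : ℕ) : ℕ := nat_lit 0x0
def stE2_7 (_ : ℕ) : ℕ := nat_lit 0x0
def stE2_8 (_ : ℕ) : ℕ := nat_lit 0x0
def stE2_9 (_ : ℕ) : ℕ := nat_lit 0x0
def stE2_10 (_ : ℕ) : ℕ := nat_lit 0x0
def stE2_11 (_ : ℕ) : ℕ := nat_lit 0x0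
def stE2_12 (_ : ℕ) : ℕ := nat_lit 0x0
def stE2_13 (_ : ℕ) : ℕ := nat_lit 0x0
def stE2_14 (_ : ℕ) : ℕ := nat_lit 0x0
def stE2_15 (_ : ℕ) : ℕ := nat_lit 0x0
def stE2_16 (_ : ℕ) : ℕ := nat_lit 0x0
def stE2_17 (_ : ℕ) : ℕ := nat_lit 0x0
def stE2_18 (_ : ℕ) : ℕ := nat_lit 0x0
def stE2_19 (_ : ℕ) : ℕ := nat_lit 0x0
def stE2_20 (_ : ℕ) : ℕ := nat_lit 0x0
def stE2_21 (_ : ℕ) : ℕ := nat_lit 0x0
def stE2_22 (_ : ℕ) : ℕ := nat_lit 0x0
def stE2_23 (_ : ℕ) : ℕ := nat_lit 0x0
def stE2_24 (_ : ℕ) : ℕ := nat_lit 0x0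
def stE2_25 (_ : ℕ) : ℕ := nat_lit 0x0
def stE2_26 (_ : ℕ) : ℕ := nat_lit 0x0
def stE2_27 (_ : ℕ) : ℕ := nat_lit 0x0
def stE2_28 (_ : ℕ) : ℕ := nat_lit 0x0
def stE2_29 (_ : ℕ) : ℕ := nat_lit 0x0
def stE2_30 (_ : ℕ) : ℕ := nat_lit 0x0
def stE2_31 (_ : ℕ) : ℕ := nat_lit 0x0
def stE2_32 (_ : ℕ) : ℕ := nat_lit 0x0
def stE2_33 (_ : ℕ) : ℕ := nat_lit 0x0
def stE2_34 (_ : ℕ) : ℕ := nat_lit 0x0
def stE2_35 (_ : ℕ) : ℕ := nat_lit 0x0
def stE2_36 (_ : ℕ) : ℕ := nat_lit 0x0
def stE2_37 (_ : ℕ) : ℕ := nat_lit 0x0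
def stE2_38 (_ : ℕ) : ℕ := nat_lit 0x0
def stE2_39 (_ : ℕ) : ℕ := nat_lit 0x0
def stE2_40 (_ : ℕ) : ℕ := nat_lit 0x0
def stE2_41 (_ : ℕ) : ℕ := nat_lit 0x0
def stE2_42 (_ : ℕ) : ℕ := nat_lit 0x0
def stE2_43 (_ : ℕ) : ℕ := nat_lit 0x0
def stE2_44 (_ : ℕ) : ℕ := nat_lit 0x0
def stE2_45 (_ : ℕ) : ℕ := nat_lit 0x0
def stE2_46 (_ : ℕ) : ℕ := nat_lit 0x0
def stE2_47 (_ : ℕ) : ℕ := nat_lit 0x0
def stE2_s1_3 (c : ℕ) : ℕ := cond (Nat.ble c (nat_lit 1)) (stE2_1 c) (stE2_2 c)
def stE2_s0_3 (c : ℕ) : ℕ := cond (Nat.ble c (nat_lit 0)) (stE2_0 c) (stE2_s1_3 c)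
def stE2_s4_6 (c : ℕ) : ℕ := cond (Nat.ble c (nat_lit 4)) (stE2_4 c) (stE2_5 c)
def stE2_s3_6 (c : ℕ) : ℕ := cond (Nat.ble c (nat_lit 3)) (stE2_3 c) (stE2_s4_6 c)
def stE2_s0_6 (c : ℕ) : ℕ := cond (Nat.ble c (nat_lit 2)) (stE2_s0_3 c) (stE2_s3_6 c)
def stE2_s7_9 (c : ℕ) : ℕ := cond (Nat.ble c (nat_lit 7)) (stE2_7 c) (stE2_8 c)
def stE2_s6_9 (c : ℕ) : ℕ := cond (Nat.ble c (nat_lit 6)) (stE2_6 c) (stE2_s7_9 c)
def stE2_s10_12 (c : ℕ) : ℕ := cond (Nat.ble c (nat_lit 10)) (stE2_10 c) (stE2_11 c)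
def stE2_s9_12 (c : ℕ) : ℕ := cond (Nat.ble c (nat_lit 9)) (stE2_9 c) (stE2_s10_12 c)
def stE2_s6_12 (c : ℕ) : ℕ := cond (Nat.ble c (nat_lit 8)) (stE2_s6_9 c) (stE2_s9_12 c)
def stE2_s0_12 (c : ℕ) : ℕ := cond (Nat.ble c (nat_lit 5)) (stE2_s0_6 c) (stE2_s6_12 c)
def stE2_s13_15 (c : ℕ) : ℕ := cond (Nat.ble c (nat_lit 13)) (stE2_13 c) (stE2_14 c)
def stE2_s12_15 (c : ℕ) : ℕ := cond (Nat.ble c (nat_lit 12)) (stE2_12 c) (stE2_s13_15 c)
def stE2_s16_18 (c : ℕ) : ℕ := cond (Nat.ble c (nat_lit 16)) (stE2_16 c) (stE2_17 c)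
def stE2_s15_18 (c : ℕ) : ℕ := cond (Nat.ble c (nat_lit 15)) (stE2_15 c) (stE2_s16_18 c)
def stE2_s12_18 (c : ℕ) : ℕ := cond (Nat.ble c (nat_lit 14)) (stE2_s12_15 c) (stE2_s15_18 c)
def stE2_s19_21 (c : ℕ) : ℕ := cond (Nat.ble c (nat_lit 19)) (stE2_19 c) (stE2_20 c)
def stE2_s18_21 (c : ℕ) : ℕ := cond (Nat.ble c (nat_lit 18)) (stE2_18 c) (stE2_s19_21 c)
def stE2_s22_24 (c : ℕ) : ℕ := cond (Nat.ble c (nat_lit 22)) (stE2_22 c) (stE2_23 c)
def stE2_s21_24 (c : ℕ) : ℕ := cond (Nat.ble c (nat_lit 21)) (stE2_21 c) (stE2_s22_24 c)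
def stE2_s18_24 (c : ℕ) : ℕ := cond (Nat.ble c (nat_lit 20)) (stE2_s18_21 c) (stE2_s21_24 c)
def stE2_s12_24 (c : ℕ) : ℕ := cond (Nat.ble c (nat_lit 17)) (stE2_s12_18 c) (stE2_s18_24 c)
def stE2_s0_24 (c : ℕ) : ℕ := cond (Nat.ble c (nat_lit 11)) (stE2_s0_12 c) (stE2_s12_24 c)
def stE2_s25_27 (c : ℕ) : ℕ := cond (Nat.ble c (nat_lit 25)) (stE2_25 c) (stE2_26 c)
def stE2_s24_27 (c : ℕ) : ℕ := cond (Nat.ble c (nat_lit 24)) (stE2_24 c) (stE2_s25_27 c)
def stE2_s28_30 (c : ℕ) : ℕ := cond (Nat.ble c (nat_lit 28)) (stE2_28 c) (stE2_29 c)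
def stE2_s27_30 (c : ℕ) : ℕ := cond (Nat.ble c (nat_lit 27)) (stE2_27 c) (stE2_s28_30 c)
def stE2_s24_30 (c : ℕ) : ℕ := cond (Nat.ble c (nat_lit 26)) (stE2_s24_27 c) (stE2_s27_30 c)
def stE2_s31_33 (c : ℕ) : ℕ := cond (Nat.ble c (nat_lit 31)) (stE2_31 c) (stE2_32 c)
def stE2_s30_33 (c : ℕ) : ℕ := cond (Nat.ble c (nat_lit 30)) (stE2_30 c) (stE2_s31_33 c)
def stE2_s34_36 (c : ℕ) : ℕ := cond (Nat.ble c (nat_lit 34)) (stE2_34 c) (stE2_35 c)
def stE2_s33_36 (c : ℕ) : ℕ := cond (Nat.ble c (nat_lit 33)) (stE2_33 c) (stE2_s34_36 c)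
def stE2_s30_36 (c : ℕ) : ℕ := cond (Nat.ble c (nat_lit 32)) (stE2_s30_33 c) (stE2_s33_36 c)
def stE2_s24_36 (c : ℕ) : ℕ := cond (Nat.ble c (nat_lit 29)) (stE2_s24_30 c) (stE2_s30_36 c)
def stE2_s37_39 (c : ℕ) : ℕ := cond (Nat.ble c (nat_lit 37)) (stE2_37 c) (stE2_38 c)
def stE2_s36_39 (c : ℕ) : ℕ := cond (Nat.ble c (nat_lit 36)) (stE2_36 c) (stE2_s37_39 c)
def stE2_s40_42 (c : ℕ) : ℕ := cond (Nat.ble c (nat_lit 40)) (stE2_40 c) (stE2_41 c)
def stE2_s39_42 (c : ℕ) : ℕ := cond (Nat.ble c (nat_lit 39)) (stE2_39 c) (stE2_s40_42 c)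
def stE2_s36_42 (c : ℕ) : ℕ := cond (Nat.ble c (nat_lit 38)) (stE2_s36_39 c) (stE2_s39_42 c)
def stE2_s43_45 (c : ℕ) : ℕ := cond (Nat.ble c (nat_lit 43)) (stE2_43 c) (stE2_44 c)
def stE2_s42_45 (c : ℕ) : ℕ := cond (Nat.ble c (nat_lit 42)) (stE2_42 c) (stE2_s43_45 c)
def stE2_s46_48 (c : ℕ) : ℕ := cond (Nat.ble c (nat_lit 46)) (stE2_46 c) (stE2_47 c)
def stE2_s45_48 (c : ℕ) : ℕ := cond (Nat.ble c (nat_lit 45)) (stE2_45 c) (stE2_s46_48 c)
def stE2_s42_48 (c : ℕ) : ℕ := cond (Nat.ble c (nat_lit 44)) (stE2_s42_45 c) (stE2_s45_48 c)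
def stE2_s36_48 (c : ℕ) : ℕ := cond (Nat.ble c (nat_lit 41)) (stE2_s36_42 c) (stE2_s42_48 c)
def stE2_s24_48 (c : ℕ) : ℕ := cond (Nat.ble c (nat_lit 35)) (stE2_s24_36 c) (stE2_s36_48 c)
def stE2_s0_48 (c : ℕ) : ℕ := cond (Nat.ble c (nat_lit 23)) (stE2_s0_24 c) (stE2_s24_48 c)
/-- table lookup -/
def stE2 (i : ℕ) : ℕ := Nat.land (Nat.shiftRight (stE2_s0_48 (Nat.shiftRight i (nat_lit 6))) (Nat.mul (nat_lit 96) (Nat.land i (nat_lit 63)))) (nat_lit 79228162514264337593543950335)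
/-- step check -/
def Pst2 : ℕ → Bool := ProgChain.stepChk R Y pr (nat_lit 1508) (nat_lit 32) (nat_lit 2) (nat_lit 42) Om2 tw2 stE2
/-- images -/
def Pimg2 : ℕ → Bool := imgChk pr (nat_lit 32) Om2 tw2 (nat_lit 11)
/-- derived letters -/
def Pder2 (e : ℕ) : Bool := cond (Nat.ble ((nat_lit 34)) e) (derChk R Y pr (nat_lit 32) derT e) true
/-- next generators -/
def Pcert2 (e : ℕ) : Bool := cond (Nat.ble ((nat_lit 42)) e) (certChk R Y pr (nat_lit 32) (nat_lit 42) certA certB e) true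
/-- next generators fix the point -/
def Pfix2 (e : ℕ) : Bool := cond (Nat.ble ((nat_lit 42)) e) (ptChk pr [e] (nat_lit 11) (nat_lit 11)) true
/-- the orbit -/
def Om3 : ℕ := nat_lit 0x4224d31c046000010050a0000
def twE3_0 (_ : ℕ) : ℕ := nat_lit 0x2b02c00000000000000000002d03000003200000000000000000000000000000000000000000000000000000000000000000000000000000000000000000000000000000000000000000000000002c02f00000000000000000000000000000000000000000000000000000000002f00000000000000000000000000000000000000003300000002b031000000000000000000000000000000000000000000000000000000000000000000000000000000000000000000000000000000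
def twE3_1 (_ : ℕ) : ℕ := nat_lit 0x2d00000000000000000000000002c03200000000000000000002b03000000000000002b02b00000000000000002e03003200000002f03000000000000002b02e00002b00000000000000000000003100003000002c000000000000000000000000000000000000
def twE3_2 (_ : ℕ) : ℕ := nat_lit 0x0
def twE3_3 (_ : ℕ) : ℕ := nat_lit 0x0
def twE3_4 (_ : ℕ) : ℕ := nat_lit 0x0
def twE3_5 (_ : ℕ) : ℕ := nat_lit 0x0
def twE3_6 (_ : ℕ) : ℕ := nat_lit 0x0
def twE3_7 (_ : ℕ) : ℕ := nat_lit 0x0
def twE3_8 (_ : ℕ) : ℕ := nat_lit 0x0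
def twE3_9 (_ : ℕ) : ℕ := nat_lit 0x0
def twE3_10 (_ : ℕ) : ℕ := nat_lit 0x0
def twE3_11 (_ : ℕ) : ℕ := nat_lit 0x0
def twE3_12 (_ : ℕ) : ℕ := nat_lit 0x0
def twE3_13 (_ : ℕ) : ℕ := nat_lit 0x0
def twE3_14 (_ : ℕ) : ℕ := nat_lit 0x0
def twE3_15 (_ : ℕ) : ℕ := nat_lit 0x0
def twE3_16 (_ : ℕ) : ℕ := nat_lit 0x0
def twE3_17 (_ : ℕ) : ℕ := nat_lit 0x0
def twE3_18 (_ : ℕ) : ℕ := nat_lit 0x0
def twE3_19 (_ : ℕ) : ℕ := nat_lit 0x0
def twE3_20 (_ : ℕ) : ℕ := nat_lit 0x0
def twE3_21 (_ : ℕ) : ℕ := nat_lit 0x0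
def twE3_22 (_ : ℕ) : ℕ := nat_lit 0x0
def twE3_23 (_ : ℕ) : ℕ := nat_lit 0x0
def twE3_s1_3 (c : ℕ) : ℕ := cond (Nat.ble c (nat_lit 1)) (twE3_1 c) (twE3_2 c)
def twE3_s0_3 (c : ℕ) : ℕ := cond (Nat.ble c (nat_lit 0)) (twE3_0 c) (twE3_s1_3 c)
def twE3_s4_6 (c : ℕ) : ℕ := cond (Nat.ble c (nat_lit 4)) (twE3_4 c) (twE3_5 c)
def twE3_s3_6 (c : ℕ) : ℕ := cond (Nat.ble c (nat_lit 3)) (twE3_3 c) (twE3_s4_6 c)
def twE3_s0_6 (c : ℕ) : ℕ := cond (Nat.ble c (nat_lit 2)) (twE3_s0_3 c) (twE3_s3_6 c)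
def twE3_s7_9 (c : ℕ) : ℕ := cond (Nat.ble c (nat_lit 7)) (twE3_7 c) (twE3_8 c)
def twE3_s6_9 (c : ℕ) : ℕ := cond (Nat.ble c (nat_lit 6)) (twE3_6 c) (twE3_s7_9 c)
def twE3_s10_12 (c : ℕ) : ℕ := cond (Nat.ble c (nat_lit 10)) (twE3_10 c) (twE3_11 c)
def twE3_s9_12 (c : ℕ) : ℕ := cond (Nat.ble c (nat_lit 9)) (twE3_9 c) (twE3_s10_12 c)
def twE3_s6_12 (c : ℕ) : ℕ := cond (Nat.ble c (nat_lit 8)) (twE3_s6_9 c) (twE3_s9_12 c)
def twE3_s0_12 (c : ℕ) : ℕ := cond (Nat.ble c (nat_lit 5)) (twE3_s0_6 c) (twE3_s6_12 c)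
def twE3_s13_15 (c : ℕ) : ℕ := cond (Nat.ble c (nat_lit 13)) (twE3_13 c) (twE3_14 c)
def twE3_s12_15 (c : ℕ) : ℕ := cond (Nat.ble c (nat_lit 12)) (twE3_12 c) (twE3_s13_15 c)
def twE3_s16_18 (c : ℕ) : ℕ := cond (Nat.ble c (nat_lit 16)) (twE3_16 c) (twE3_17 c)
def twE3_s15_18 (c : ℕ) : ℕ := cond (Nat.ble c (nat_lit 15)) (twE3_15 c) (twE3_s16_18 c)
def twE3_s12_18 (c : ℕ) : ℕ := cond (Nat.ble c (nat_lit 14)) (twE3_s12_15 c) (twE3_s15_18 c)
def twE3_s19_21 (c : ℕ) : ℕ := cond (Nat.ble c (nat_lit 19)) (twE3_19 c) (twE3_20 c)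
def twE3_s18_21 (c : ℕ) : ℕ := cond (Nat.ble c (nat_lit 18)) (twE3_18 c) (twE3_s19_21 c)
def twE3_s22_24 (c : ℕ) : ℕ := cond (Nat.ble c (nat_lit 22)) (twE3_22 c) (twE3_23 c)
def twE3_s21_24 (c : ℕ) : ℕ := cond (Nat.ble c (nat_lit 21)) (twE3_21 c) (twE3_s22_24 c)
def twE3_s18_24 (c : ℕ) : ℕ := cond (Nat.ble c (nat_lit 20)) (twE3_s18_21 c) (twE3_s21_24 c)
def twE3_s12_24 (c : ℕ) : ℕ := cond (Nat.ble c (nat_lit 17)) (twE3_s12_18 c) (twE3_s18_24 c)
def twE3_s0_24 (c : ℕ) : ℕ := cond (Nat.ble c (nat_lit 11)) (twE3_s0_12 c) (twE3_s12_24 c)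
/-- table lookup -/
def twE3 (i : ℕ) : ℕ := Nat.land (Nat.shiftRight (twE3_s0_24 (Nat.shiftRight i (nat_lit 6))) (Nat.mul (nat_lit 24) (Nat.land i (nat_lit 63)))) (nat_lit 16777215)
/-- transversal words -/
def tw3 (p : ℕ) : List ℕ := unpW (nat_lit 32) (twE3 p)
def stE3_0 (_ : ℕ) : ℕ := nat_lit 0x4106200000000000000004700000000000000000000000000000000000000000000000000004600000000000000004c00000000000000000000000000000000000000000000000000000000000000000000000000000000000000000000000000000000000000000000000000000000000000000000000000003f03c03503605200003f03c03903404800000000000000000000000000000000000004103f03c03903405d00000003f03c03603a000000000000000000000000000000000000000000000000000000000000000000000000000000000000000000000000000000000000000000000000000000000000000000000000000000000000000000000000000000000000000000000000000000000000000000000000000000000000000000000000000000000000000000000000000000000000000000000000000000000000000000000000000000000000000000000000000000000000000000000000000000000000000000000000000000000000000000000000000000000000000000000000000000000000000000000000000000000000000000000000000000000000000000000000000000000000000000000000000000000000000000000000000000000000000000000000000000000000000000000000000000000000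
def stE3_1 (_ : ℕ) : ℕ := nat_lit 0x4d00004103f03403703900000000000000000000000000000000000000000000000000000000000000000000000000000000000000000000000000000000000000000000000003504800000000003503402400000000003c03401a00004103f03503b05d000000000000000000000000000000000000000000000000000000000000000000000000000000000000000000000000000000000000000000000000000000000000000000000000000000000000000000000000000000000000000000000000000000000000000000000000000000000000000000000000000000000000000000000000000000000000000000000000000000000000000000000000000000000000000000000000000000000000000000000000000000000000000000000000000000000000000000000000000000000000000000000000000000000000000000000000000000000000000000000000000000000000000000000000000000000000000000000000000000000000000000000000000000000000000000000000000000000000000000000000000000000000000000000000000000000000000000000000000000000000000000000000000000000000000000000000000000000000000000000000000000000041036011000000000000036018000000000000000000000000000000000000000000000000000000000000000000000000000000000000000000000000000000000000000000000000000000000000000000000000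
def stE3_2 (_ : ℕ) : ℕ := nat_lit 0x4103f03c03503402400003f03d03503405200000000000000000000000000000000000000000000000000000000000000000000000000000000000000000000000000000000000000000004103d03503a00004103f03403701a00000000000000000000000000000000000000000000000000000000000000000000000000000003f03c03505600004103f03903404d00000000000000000000000000000000000000000000000000000000000000000000000000000000000004101800000000000003601100000000003c03405000000000003d03603e00000000000000000000000000000000000000004103f03503401304103f03c03903404600000000000000000000000000000000000000000000000000000000000000000000000000000000000004104c00000000003f03505300000000000000003e00000000000000005600000000000000000000000000000000000000000000000000000000000000000000000000000000000000000000000000000000000000000003f03c03605900000000000000005003f03c03403b03404700004103c03503b013000000000000000053000000000000000062000000000000000000000000000000000000000000000000000000000000000000000000000000000000000000000000000000000000000000000000000000000000000000000000000000000000000000000000000000000000000000000000000000000000000000000000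
def stE3_3 (_ : ℕ) : ℕ := nat_lit 0x3c03403900000003f03c036059000000000000000000000000000000000000000000000000000000000000000000000000
def stE3_4 (_ : ℕ) : ℕ := nat_lit 0x0
def stE3_5 (_ : ℕ) : ℕ := nat_lit 0x0
def stE3_6 (_ : ℕ) : ℕ := nat_lit 0x0
def stE3_7 (_ : ℕ) : ℕ := nat_lit 0x0
def stE3_8 (_ : ℕ) : ℕ := nat_lit 0x0
def stE3_9 (_ : ℕ) : ℕ := nat_lit 0x0
def stE3_10 (_ : ℕ) : ℕ := nat_lit 0x0
def stE3_11 (_ : ℕ) : ℕ := nat_lit 0x0
def stE3_12 (_ : ℕ) : ℕ := nat_lit 0x0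
def stE3_13 (_ : ℕ) : ℕ := nat_lit 0x0
def stE3_14 (_ : ℕ) : ℕ := nat_lit 0x0
def stE3_15 (_ : ℕ) : ℕ := nat_lit 0x0
def stE3_16 (_ : ℕ) : ℕ := nat_lit 0x0
def stE3_17 (_ : ℕ) : ℕ := nat_lit 0x0
def stE3_18 (_ : ℕ) : ℕ := nat_lit 0x0
def stE3_19 (_ : ℕ) : ℕ := nat_lit 0x0
def stE3_20 (_ : ℕ) : ℕ := nat_lit 0x0
def stE3_21 (_ : ℕ) : ℕ := nat_lit 0x0
def stE3_22 (_ : ℕ) : ℕ := nat_lit 0x0
def stE3_23 (_ : ℕ) : ℕ := nat_lit 0x0
def stE3_24 (_ : ℕ) : ℕ := nat_lit 0x0
def stE3_25 (_ : ℕ) : ℕ := nat_lit 0x0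
def stE3_26 (_ : ℕ) : ℕ := nat_lit 0x0
def stE3_27 (_ : ℕ) : ℕ := nat_lit 0x0
def stE3_28 (_ : ℕ) : ℕ := nat_lit 0x0
def stE3_29 (_ : ℕ) : ℕ := nat_lit 0x0
def stE3_30 (_ : ℕ) : ℕ := nat_lit 0x0
def stE3_31 (_ : ℕ) : ℕ := nat_lit 0x0
def stE3_32 (_ : ℕ) : ℕ := nat_lit 0x0
def stE3_33 (_ : ℕ) : ℕ := nat_lit 0x0
def stE3_34 (_ : ℕ) : ℕ := nat_lit 0x0
def stE3_35 (_ : ℕ) : ℕ := nat_lit 0x0
def stE3_36 (_ : ℕ) : ℕ := nat_lit 0x0
def stE3_37 (_ : ℕ) : ℕ := nat_lit 0x0
def stE3_38 (_ : ℕ) : ℕ := nat_lit 0x0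
def stE3_39 (_ : ℕ) : ℕ := nat_lit 0x0
def stE3_40 (_ : ℕ) : ℕ := nat_lit 0x0
def stE3_41 (_ : ℕ) : ℕ := nat_lit 0x0
def stE3_42 (_ : ℕ) : ℕ := nat_lit 0x0
def stE3_43 (_ : ℕ) : ℕ := nat_lit 0x0
def stE3_44 (_ : ℕ) : ℕ := nat_lit 0x0
def stE3_45 (_ : ℕ) : ℕ := nat_lit 0x0
def stE3_46 (_ : ℕ) : ℕ := nat_lit 0x0
def stE3_47 (_ : ℕ) : ℕ := nat_lit 0x0
def stE3_s1_3 (c : ℕ) : ℕ := cond (Nat.ble c (nat_lit 1)) (stE3_1 c) (stE3_2 c)
def stE3_s0_3 (c : ℕ) : ℕ := cond (Nat.ble c (nat_lit 0)) (stE3_0 c) (stE3_s1_3 c)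
def stE3_s4_6 (c : ℕ) : ℕ := cond (Nat.ble c (nat_lit 4)) (stE3_4 c) (stE3_5 c)
def stE3_s3_6 (c : ℕ) : ℕ := cond (Nat.ble c (nat_lit 3)) (stE3_3 c) (stE3_s4_6 c)
def stE3_s0_6 (c : ℕ) : ℕ := cond (Nat.ble c (nat_lit 2)) (stE3_s0_3 c) (stE3_s3_6 c)
def stE3_s7_9 (c : ℕ) : ℕ := cond (Nat.ble c (nat_lit 7)) (stE3_7 c) (stE3_8 c)
def stE3_s6_9 (c : ℕ) : ℕ := cond (Nat.ble c (nat_lit 6)) (stE3_6 c) (stE3_s7_9 c)
def stE3_s10_12 (c : ℕ) : ℕ := cond (Nat.ble c (nat_lit 10)) (stE3_10 c) (stE3_11 c)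
def stE3_s9_12 (c : ℕ) : ℕ := cond (Nat.ble c (nat_lit 9)) (stE3_9 c) (stE3_s10_12 c)
def stE3_s6_12 (c : ℕ) : ℕ := cond (Nat.ble c (nat_lit 8)) (stE3_s6_9 c) (stE3_s9_12 c)
def stE3_s0_12 (c : ℕ) : ℕ := cond (Nat.ble c (nat_lit 5)) (stE3_s0_6 c) (stE3_s6_12 c)
def stE3_s13_15 (c : ℕ) : ℕ := cond (Nat.ble c (nat_lit 13)) (stE3_13 c) (stE3_14 c)
def stE3_s12_15 (c : ℕ) : ℕ := cond (Nat.ble c (nat_lit 12)) (stE3_12 c) (stE3_s13_15 c)
def stE3_s16_18 (c : ℕ) : ℕ := cond (Nat.ble c (nat_lit 16)) (stE3_16 c) (stE3_17 c)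
def stE3_s15_18 (c : ℕ) : ℕ := cond (Nat.ble c (nat_lit 15)) (stE3_15 c) (stE3_s16_18 c)
def stE3_s12_18 (c : ℕ) : ℕ := cond (Nat.ble c (nat_lit 14)) (stE3_s12_15 c) (stE3_s15_18 c)
def stE3_s19_21 (c : ℕ) : ℕ := cond (Nat.ble c (nat_lit 19)) (stE3_19 c) (stE3_20 c)
def stE3_s18_21 (c : ℕ) : ℕ := cond (Nat.ble c (nat_lit 18)) (stE3_18 c) (stE3_s19_21 c)
def stE3_s22_24 (c : ℕ) : ℕ := cond (Nat.ble c (nat_lit 22)) (stE3_22 c) (stE3_23 c)
def stE3_s21_24 (c : ℕ) : ℕ := cond (Nat.ble c (nat_lit 21)) (stE3_21 c) (stE3_s22_24 c)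
def stE3_s18_24 (c : ℕ) : ℕ := cond (Nat.ble c (nat_lit 20)) (stE3_s18_21 c) (stE3_s21_24 c)
def stE3_s12_24 (c : ℕ) : ℕ := cond (Nat.ble c (nat_lit 17)) (stE3_s12_18 c) (stE3_s18_24 c)
def stE3_s0_24 (c : ℕ) : ℕ := cond (Nat.ble c (nat_lit 11)) (stE3_s0_12 c) (stE3_s12_24 c)
def stE3_s25_27 (c : ℕ) : ℕ := cond (Nat.ble c (nat_lit 25)) (stE3_25 c) (stE3_26 c)
def stE3_s24_27 (c : ℕ) : ℕ := cond (Nat.ble c (nat_lit 24)) (stE3_24 c) (stE3_s25_27 c)
def stE3_s28_30 (c : ℕ) : ℕ := cond (Nat.ble c (nat_lit 28)) (stE3_28 c) (stE3_29 c)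
def stE3_s27_30 (c : ℕ) : ℕ := cond (Nat.ble c (nat_lit 27)) (stE3_27 c) (stE3_s28_30 c)
def stE3_s24_30 (c : ℕ) : ℕ := cond (Nat.ble c (nat_lit 26)) (stE3_s24_27 c) (stE3_s27_30 c)
def stE3_s31_33 (c : ℕ) : ℕ := cond (Nat.ble c (nat_lit 31)) (stE3_31 c) (stE3_32 c)
def stE3_s30_33 (c : ℕ) : ℕ := cond (Nat.ble c (nat_lit 30)) (stE3_30 c) (stE3_s31_33 c)
def stE3_s34_36 (c : ℕ) : ℕ := cond (Nat.ble c (nat_lit 34)) (stE3_34 c) (stE3_35 c)
def stE3_s33_36 (c : ℕ) : ℕ := cond (Nat.ble c (nat_lit 33)) (stE3_33 c) (stE3_s34_36 c)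
def stE3_s30_36 (c : ℕ) : ℕ := cond (Nat.ble c (nat_lit 32)) (stE3_s30_33 c) (stE3_s33_36 c)
def stE3_s24_36 (c : ℕ) : ℕ := cond (Nat.ble c (nat_lit 29)) (stE3_s24_30 c) (stE3_s30_36 c)
def stE3_s37_39 (c : ℕ) : ℕ := cond (Nat.ble c (nat_lit 37)) (stE3_37 c) (stE3_38 c)
def stE3_s36_39 (c : ℕ) : ℕ := cond (Nat.ble c (nat_lit 36)) (stE3_36 c) (stE3_s37_39 c)
def stE3_s40_42 (c : ℕ) : ℕ := cond (Nat.ble c (nat_lit 40)) (stE3_40 c) (stE3_41 c)
def stE3_s39_42 (c : ℕ) : ℕ := cond (Nat.ble c (nat_lit 39)) (stE3_39 c) (stE3_s40_42 c)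
def stE3_s36_42 (c : ℕ) : ℕ := cond (Nat.ble c (nat_lit 38)) (stE3_s36_39 c) (stE3_s39_42 c)
def stE3_s43_45 (c : ℕ) : ℕ := cond (Nat.ble c (nat_lit 43)) (stE3_43 c) (stE3_44 c)
def stE3_s42_45 (c : ℕ) : ℕ := cond (Nat.ble c (nat_lit 42)) (stE3_42 c) (stE3_s43_45 c)
def stE3_s46_48 (c : ℕ) : ℕ := cond (Nat.ble c (nat_lit 46)) (stE3_46 c) (stE3_47 c)
def stE3_s45_48 (c : ℕ) : ℕ := cond (Nat.ble c (nat_lit 45)) (stE3_45 c) (stE3_s46_48 c)
def stE3_s42_48 (c : ℕ) : ℕ := cond (Nat.ble c (nat_lit 44)) (stE3_s42_45 c) (stE3_s45_48 c)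
def stE3_s36_48 (c : ℕ) : ℕ := cond (Nat.ble c (nat_lit 41)) (stE3_s36_42 c) (stE3_s42_48 c)
def stE3_s24_48 (c : ℕ) : ℕ := cond (Nat.ble c (nat_lit 35)) (stE3_s24_36 c) (stE3_s36_48 c)
def stE3_s0_48 (c : ℕ) : ℕ := cond (Nat.ble c (nat_lit 23)) (stE3_s0_24 c) (stE3_s24_48 c)
/-- table lookup -/
def stE3 (i : ℕ) : ℕ := Nat.land (Nat.shiftRight (stE3_s0_48 (Nat.shiftRight i (nat_lit 6))) (Nat.mul (nat_lit 72) (Nat.land i (nat_lit 63)))) (nat_lit 4722366482869645213695)
/-- step check -/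
def Pst3 : ℕ → Bool := ProgChain.stepChk R Y pr (nat_lit 1508) (nat_lit 42) (nat_lit 2) (nat_lit 51) Om3 tw3 stE3
/-- images -/
def Pimg3 : ℕ → Bool := imgChk pr (nat_lit 42) Om3 tw3 (nat_lit 24)
/-- derived letters -/
def Pder3 (e : ℕ) : Bool := cond (Nat.ble ((nat_lit 44)) e) (derChk R Y pr (nat_lit 42) derT e) true
/-- next generators -/
def Pcert3 (e : ℕ) : Bool := cond (Nat.ble ((nat_lit 51)) e) (certChk R Y pr (nat_lit 42) (nat_lit 51) certA certB e) true
/-- next generators fix the point -/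
def Pfix3 (e : ℕ) : Bool := cond (Nat.ble ((nat_lit 51)) e) (ptChk pr [e] (nat_lit 24) (nat_lit 24)) true
/-- the orbit -/
def Om4 : ℕ := nat_lit 0x42245310046000010040a0000
def twE4_0 (_ : ℕ) : ℕ := nat_lit 0x3403b034000000000000000000000000000000035034000035039000000000000000000000000000000000000000000000000000000000000000000000000000000000000000000000000000000000000000000000000000000000000000000000000000000000000000000000000000000000000000000000000000000000000000000000000000000000000000000000000000000000000000000000000000000000035036000000000000000000000000000000000000000000000000000000000035038000000000000034037000000000000000000000000000000000000000000000000000000000000000000000000000000000000000000000000000000000000000000000000000000000000000000000000000000000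
def twE4_1 (_ : ℕ) : ℕ := nat_lit 0x3900000000000000000000000000000000000000000003500000000000000000000000000003403503800000000000000000000003403500000000000000000000000000000000003400000000000003503b00000000000000000000003403b000039034000000000000000000000000000000000036000000000000000000000000000000000000000000000000000000000000000000000000
def twE4_2 (_ : ℕ) : ℕ := nat_lit 0x0
def twE4_3 (_ : ℕ) : ℕ := nat_lit 0x0
def twE4_4 (_ : ℕ) : ℕ := nat_lit 0x0
def twE4_5 (_ : ℕ) : ℕ := nat_lit 0x0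
def twE4_6 (_ : ℕ) : ℕ := nat_lit 0x0
def twE4_7 (_ : ℕ) : ℕ := nat_lit 0x0
def twE4_8 (_ : ℕ) : ℕ := nat_lit 0x0
def twE4_9 (_ : ℕ) : ℕ := nat_lit 0x0
def twE4_10 (_ : ℕ) : ℕ := nat_lit 0x0
def twE4_11 (_ : ℕ) : ℕ := nat_lit 0x0
def twE4_12 (_ : ℕ) : ℕ := nat_lit 0x0
def twE4_13 (_ : ℕ) : ℕ := nat_lit 0x0
def twE4_14 (_ : ℕ) : ℕ := nat_lit 0x0
def twE4_15 (_ : ℕ) : ℕ := nat_lit 0x0
def twE4_16 (_ : ℕ) : ℕ := nat_lit 0x0
def twE4_17 (_ : ℕ) : ℕ := nat_lit 0x0
def twE4_18 (_ : ℕ) : ℕ := nat_lit 0x0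
def twE4_19 (_ : ℕ) : ℕ := nat_lit 0x0
def twE4_20 (_ : ℕ) : ℕ := nat_lit 0x0
def twE4_21 (_ : ℕ) : ℕ := nat_lit 0x0
def twE4_22 (_ : ℕ) : ℕ := nat_lit 0x0
def twE4_23 (_ : ℕ) : ℕ := nat_lit 0x0
def twE4_s1_3 (c : ℕ) : ℕ := cond (Nat.ble c (nat_lit 1)) (twE4_1 c) (twE4_2 c)
def twE4_s0_3 (c : ℕ) : ℕ := cond (Nat.ble c (nat_lit 0)) (twE4_0 c) (twE4_s1_3 c)
def twE4_s4_6 (c : ℕ) : ℕ := cond (Nat.ble c (nat_lit 4)) (twE4_4 c) (twE4_5 c)
def twE4_s3_6 (c : ℕ) : ℕ := cond (Nat.ble c (nat_lit 3)) (twE4_3 c) (twE4_s4_6 c)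
def twE4_s0_6 (c : ℕ) : ℕ := cond (Nat.ble c (nat_lit 2)) (twE4_s0_3 c) (twE4_s3_6 c)
def twE4_s7_9 (c : ℕ) : ℕ := cond (Nat.ble c (nat_lit 7)) (twE4_7 c) (twE4_8 c)
def twE4_s6_9 (c : ℕ) : ℕ := cond (Nat.ble c (nat_lit 6)) (twE4_6 c) (twE4_s7_9 c)
def twE4_s10_12 (c : ℕ) : ℕ := cond (Nat.ble c (nat_lit 10)) (twE4_10 c) (twE4_11 c)
def twE4_s9_12 (c : ℕ) : ℕ := cond (Nat.ble c (nat_lit 9)) (twE4_9 c) (twE4_s10_12 c)
def twE4_s6_12 (c : ℕ) : ℕ := cond (Nat.ble c (nat_lit 8)) (twE4_s6_9 c) (twE4_s9_12 c)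
def twE4_s0_12 (c : ℕ) : ℕ := cond (Nat.ble c (nat_lit 5)) (twE4_s0_6 c) (twE4_s6_12 c)
def twE4_s13_15 (c : ℕ) : ℕ := cond (Nat.ble c (nat_lit 13)) (twE4_13 c) (twE4_14 c)
def twE4_s12_15 (c : ℕ) : ℕ := cond (Nat.ble c (nat_lit 12)) (twE4_12 c) (twE4_s13_15 c)
def twE4_s16_18 (c : ℕ) : ℕ := cond (Nat.ble c (nat_lit 16)) (twE4_16 c) (twE4_17 c)
def twE4_s15_18 (c : ℕ) : ℕ := cond (Nat.ble c (nat_lit 15)) (twE4_15 c) (twE4_s16_18 c)
def twE4_s12_18 (c : ℕ) : ℕ := cond (Nat.ble c (nat_lit 14)) (twE4_s12_15 c) (twE4_s15_18 c)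
def twE4_s19_21 (c : ℕ) : ℕ := cond (Nat.ble c (nat_lit 19)) (twE4_19 c) (twE4_20 c)
def twE4_s18_21 (c : ℕ) : ℕ := cond (Nat.ble c (nat_lit 18)) (twE4_18 c) (twE4_s19_21 c)
def twE4_s22_24 (c : ℕ) : ℕ := cond (Nat.ble c (nat_lit 22)) (twE4_22 c) (twE4_23 c)
def twE4_s21_24 (c : ℕ) : ℕ := cond (Nat.ble c (nat_lit 21)) (twE4_21 c) (twE4_s22_24 c)
def twE4_s18_24 (c : ℕ) : ℕ := cond (Nat.ble c (nat_lit 20)) (twE4_s18_21 c) (twE4_s21_24 c)
def twE4_s12_24 (c : ℕ) : ℕ := cond (Nat.ble c (nat_lit 17)) (twE4_s12_18 c) (twE4_s18_24 c)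
def twE4_s0_24 (c : ℕ) : ℕ := cond (Nat.ble c (nat_lit 11)) (twE4_s0_12 c) (twE4_s12_24 c)
/-- table lookup -/
def twE4 (i : ℕ) : ℕ := Nat.land (Nat.shiftRight (twE4_s0_24 (Nat.shiftRight i (nat_lit 6))) (Nat.mul (nat_lit 36) (Nat.land i (nat_lit 63)))) (nat_lit 68719476735)
/-- transversal words -/
def tw4 (p : ℕ) : List ℕ := unpW (nat_lit 32) (twE4 p)
def stE4_0 (_ : ℕ) : ℕ := nat_lit 0x3900000004105d00000000000000000000000000000000000000000000000000000000000000000000000000000000000000000000000000000000000000000000000000000000000000000000000004103f03c01a00003f03d06200000000000000000000000000004103c04d00003f03d011000000000000000000000000000000000000000000000000000000000000000000000000000000000000000000000000000000000000000000000000000000000000000000000000000000000000000000000000000000000000000000000000000000000000000000000000000000000000000000000000000000000000000000000000000000000000000000000000000000000000000000000000000000000000000000000000000000000000000000000000000000000000000000000000000000000000000000000000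
def stE4_1 (_ : ℕ) : ℕ := nat_lit 0x3d03a04103f03d05900000000000000000000000000000000000000000000000000000000000000000000000000004103d04c00000000001a00000003c05900004103d05600000000000000000000000000000000000000000000000000000000000000000000000000000000000000000000000000000000000000000000000000000000000000000000000000000000000000000000000000000000000000000000000000000000000000000000000000000000000000000000000000000000000000000000000000000000000000000000000000000000000000000000000000000000000000000000000000000000000000000000000000000000000000000000000000000000000000000000000000000000000000000000000000000000000000000000000000000000000000000000000000000000005d000000000052000000000000000000000000000000000000000000000000000000000000000000000000000000000000000000000000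
def stE4_2 (_ : ℕ) : ℕ := nat_lit 0x4103f03d04800000000003a00000000000000000000000000000000000000000000000000000000000000000000000000000003d01300000003c04d00000000000000000000000000000000000000000000000000000000001104103f03c05000000000000000000000000000000000000000000000000000000000000000000000000000000000005600000000004800000000000000000000000004103f03d03e00000003c03900000000000000000000000000000000000000000000000004103f03d05200000000003e00000003c05000004103c013000000000000000000000000000000000000000000000000000000000000000000000000000000000062000000041024000000000000000000000000000000000000000000000000000000000000000000000000000000000000000000000000000000000000000000000000000000000000000000000000000000000000000000000000000000000000000000000000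
def stE4_3 (_ : ℕ) : ℕ := nat_lit 0x4103c02400000000004c000000000000000000000000000000000000000000000000
def stE4_4 (_ : ℕ) : ℕ := nat_lit 0x0
def stE4_5 (_ : ℕ) : ℕ := nat_lit 0x0
def stE4_6 (_ : ℕ) : ℕ := nat_lit 0x0
def stE4_7 (_ : ℕ) : ℕ := nat_lit 0x0
def stE4_8 (_ : ℕ) : ℕ := nat_lit 0x0
def stE4_9 (_ : ℕ) : ℕ := nat_lit 0x0
def stE4_10 (_ : ℕ) : ℕ := nat_lit 0x0
def stE4_11 (_ : ℕ) : ℕ := nat_lit 0x0
def stE4_12 (_ : ℕ) : ℕ := nat_lit 0x0
def stE4_13 (_ : ℕ) : ℕ := nat_lit 0x0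
def stE4_14 (_ : ℕ) : ℕ := nat_lit 0x0
def stE4_15 (_ : ℕ) : ℕ := nat_lit 0x0
def stE4_16 (_ : ℕ) : ℕ := nat_lit 0x0
def stE4_17 (_ : ℕ) : ℕ := nat_lit 0x0
def stE4_18 (_ : ℕ) : ℕ := nat_lit 0x0
def stE4_19 (_ : ℕ) : ℕ := nat_lit 0x0
def stE4_20 (_ : ℕ) : ℕ := nat_lit 0x0
def stE4_21 (_ : ℕ) : ℕ := nat_lit 0x0
def stE4_22 (_ : ℕ) : ℕ := nat_lit 0x0
def stE4_23 (_ : ℕ) : ℕ := nat_lit 0x0
def stE4_24 (_ : ℕ) : ℕ := nat_lit 0x0
def stE4_25 (_ : ℕ) : ℕ := nat_lit 0x0
def stE4_26 (_ : ℕ) : ℕ := nat_lit 0x0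
def stE4_27 (_ : ℕ) : ℕ := nat_lit 0x0
def stE4_28 (_ : ℕ) : ℕ := nat_lit 0x0
def stE4_29 (_ : ℕ) : ℕ := nat_lit 0x0
def stE4_30 (_ : ℕ) : ℕ := nat_lit 0x0
def stE4_31 (_ : ℕ) : ℕ := nat_lit 0x0
def stE4_32 (_ : ℕ) : ℕ := nat_lit 0x0
def stE4_33 (_ : ℕ) : ℕ := nat_lit 0x0
def stE4_34 (_ : ℕ) : ℕ := nat_lit 0x0
def stE4_35 (_ : ℕ) : ℕ := nat_lit 0x0
def stE4_36 (_ : ℕ) : ℕ := nat_lit 0x0
def stE4_37 (_ : ℕ) : ℕ := nat_lit 0x0
def stE4_38 (_ : ℕ) : ℕ := nat_lit 0x0
def stE4_39 (_ : ℕ) : ℕ := nat_lit 0x0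
def stE4_40 (_ : ℕ) : ℕ := nat_lit 0x0
def stE4_41 (_ : ℕ) : ℕ := nat_lit 0x0
def stE4_42 (_ : ℕ) : ℕ := nat_lit 0x0
def stE4_43 (_ : ℕ) : ℕ := nat_lit 0x0
def stE4_44 (_ : ℕ) : ℕ := nat_lit 0x0
def stE4_45 (_ : ℕ) : ℕ := nat_lit 0x0
def stE4_46 (_ : ℕ) : ℕ := nat_lit 0x0
def stE4_47 (_ : ℕ) : ℕ := nat_lit 0x0
def stE4_s1_3 (c : ℕ) : ℕ := cond (Nat.ble c (nat_lit 1)) (stE4_1 c) (stE4_2 c)
def stE4_s0_3 (c : ℕ) : ℕ := cond (Nat.ble c (nat_lit 0)) (stE4_0 c) (stE4_s1_3 c)
def stE4_s4_6 (c : ℕ) : ℕ := cond (Nat.ble c (nat_lit 4)) (stE4_4 c) (stE4_5 c)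
def stE4_s3_6 (c : ℕ) : ℕ := cond (Nat.ble c (nat_lit 3)) (stE4_3 c) (stE4_s4_6 c)
def stE4_s0_6 (c : ℕ) : ℕ := cond (Nat.ble c (nat_lit 2)) (stE4_s0_3 c) (stE4_s3_6 c)
def stE4_s7_9 (c : ℕ) : ℕ := cond (Nat.ble c (nat_lit 7)) (stE4_7 c) (stE4_8 c)
def stE4_s6_9 (c : ℕ) : ℕ := cond (Nat.ble c (nat_lit 6)) (stE4_6 c) (stE4_s7_9 c)
def stE4_s10_12 (c : ℕ) : ℕ := cond (Nat.ble c (nat_lit 10)) (stE4_10 c) (stE4_11 c)
def stE4_s9_12 (c : ℕ) : ℕ := cond (Nat.ble c (nat_lit 9)) (stE4_9 c) (stE4_s10_12 c)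
def stE4_s6_12 (c : ℕ) : ℕ := cond (Nat.ble c (nat_lit 8)) (stE4_s6_9 c) (stE4_s9_12 c)
def stE4_s0_12 (c : ℕ) : ℕ := cond (Nat.ble c (nat_lit 5)) (stE4_s0_6 c) (stE4_s6_12 c)
def stE4_s13_15 (c : ℕ) : ℕ := cond (Nat.ble c (nat_lit 13)) (stE4_13 c) (stE4_14 c)
def stE4_s12_15 (c : ℕ) : ℕ := cond (Nat.ble c (nat_lit 12)) (stE4_12 c) (stE4_s13_15 c)
def stE4_s16_18 (c : ℕ) : ℕ := cond (Nat.ble c (nat_lit 16)) (stE4_16 c) (stE4_17 c)
def stE4_s15_18 (c : ℕ) : ℕ := cond (Nat.ble c (nat_lit 15)) (stE4_15 c) (stE4_s16_18 c)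
def stE4_s12_18 (c : ℕ) : ℕ := cond (Nat.ble c (nat_lit 14)) (stE4_s12_15 c) (stE4_s15_18 c)
def stE4_s19_21 (c : ℕ) : ℕ := cond (Nat.ble c (nat_lit 19)) (stE4_19 c) (stE4_20 c)
def stE4_s18_21 (c : ℕ) : ℕ := cond (Nat.ble c (nat_lit 18)) (stE4_18 c) (stE4_s19_21 c)
def stE4_s22_24 (c : ℕ) : ℕ := cond (Nat.ble c (nat_lit 22)) (stE4_22 c) (stE4_23 c)
def stE4_s21_24 (c : ℕ) : ℕ := cond (Nat.ble c (nat_lit 21)) (stE4_21 c) (stE4_s22_24 c)
def stE4_s18_24 (c : ℕ) : ℕ := cond (Nat.ble c (nat_lit 20)) (stE4_s18_21 c) (stE4_s21_24 c)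
def stE4_s12_24 (c : ℕ) : ℕ := cond (Nat.ble c (nat_lit 17)) (stE4_s12_18 c) (stE4_s18_24 c)
def stE4_s0_24 (c : ℕ) : ℕ := cond (Nat.ble c (nat_lit 11)) (stE4_s0_12 c) (stE4_s12_24 c)
def stE4_s25_27 (c : ℕ) : ℕ := cond (Nat.ble c (nat_lit 25)) (stE4_25 c) (stE4_26 c)
def stE4_s24_27 (c : ℕ) : ℕ := cond (Nat.ble c (nat_lit 24)) (stE4_24 c) (stE4_s25_27 c)
def stE4_s28_30 (c : ℕ) : ℕ := cond (Nat.ble c (nat_lit 28)) (stE4_28 c) (stE4_29 c)
def stE4_s27_30 (c : ℕ) : ℕ := cond (Nat.ble c (nat_lit 27)) (stE4_27 c) (stE4_s28_30 c)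
def stE4_s24_30 (c : ℕ) : ℕ := cond (Nat.ble c (nat_lit 26)) (stE4_s24_27 c) (stE4_s27_30 c)
def stE4_s31_33 (c : ℕ) : ℕ := cond (Nat.ble c (nat_lit 31)) (stE4_31 c) (stE4_32 c)
def stE4_s30_33 (c : ℕ) : ℕ := cond (Nat.ble c (nat_lit 30)) (stE4_30 c) (stE4_s31_33 c)
def stE4_s34_36 (c : ℕ) : ℕ := cond (Nat.ble c (nat_lit 34)) (stE4_34 c) (stE4_35 c)
def stE4_s33_36 (c : ℕ) : ℕ := cond (Nat.ble c (nat_lit 33)) (stE4_33 c) (stE4_s34_36 c)
def stE4_s30_36 (c : ℕ) : ℕ := cond (Nat.ble c (nat_lit 32)) (stE4_s30_33 c) (stE4_s33_36 c)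
def stE4_s24_36 (c : ℕ) : ℕ := cond (Nat.ble c (nat_lit 29)) (stE4_s24_30 c) (stE4_s30_36 c)
def stE4_s37_39 (c : ℕ) : ℕ := cond (Nat.ble c (nat_lit 37)) (stE4_37 c) (stE4_38 c)
def stE4_s36_39 (c : ℕ) : ℕ := cond (Nat.ble c (nat_lit 36)) (stE4_36 c) (stE4_s37_39 c)
def stE4_s40_42 (c : ℕ) : ℕ := cond (Nat.ble c (nat_lit 40)) (stE4_40 c) (stE4_41 c)
def stE4_s39_42 (c : ℕ) : ℕ := cond (Nat.ble c (nat_lit 39)) (stE4_39 c) (stE4_s40_42 c)
def stE4_s36_42 (c : ℕ) : ℕ := cond (Nat.ble c (nat_lit 38)) (stE4_s36_39 c) (stE4_s39_42 c)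
def stE4_s43_45 (c : ℕ) : ℕ := cond (Nat.ble c (nat_lit 43)) (stE4_43 c) (stE4_44 c)
def stE4_s42_45 (c : ℕ) : ℕ := cond (Nat.ble c (nat_lit 42)) (stE4_42 c) (stE4_s43_45 c)
def stE4_s46_48 (c : ℕ) : ℕ := cond (Nat.ble c (nat_lit 46)) (stE4_46 c) (stE4_47 c)
def stE4_s45_48 (c : ℕ) : ℕ := cond (Nat.ble c (nat_lit 45)) (stE4_45 c) (stE4_s46_48 c)
def stE4_s42_48 (c : ℕ) : ℕ := cond (Nat.ble c (nat_lit 44)) (stE4_s42_45 c) (stE4_s45_48 c)
def stE4_s36_48 (c : ℕ) : ℕ := cond (Nat.ble c (nat_lit 41)) (stE4_s36_42 c) (stE4_s42_48 c)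
def stE4_s24_48 (c : ℕ) : ℕ := cond (Nat.ble c (nat_lit 35)) (stE4_s24_36 c) (stE4_s36_48 c)
def stE4_s0_48 (c : ℕ) : ℕ := cond (Nat.ble c (nat_lit 23)) (stE4_s0_24 c) (stE4_s24_48 c)
/-- table lookup -/
def stE4 (i : ℕ) : ℕ := Nat.land (Nat.shiftRight (stE4_s0_48 (Nat.shiftRight i (nat_lit 6))) (Nat.mul (nat_lit 48) (Nat.land i (nat_lit 63)))) (nat_lit 281474976710655)
/-- step check -/
def Pst4 : ℕ → Bool := ProgChain.stepChk R Y pr (nat_lit 1508) (nat_lit 51) (nat_lit 2) (nat_lit 59) Om4 tw4 stE4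
/-- images -/
def Pimg4 : ℕ → Bool := imgChk pr (nat_lit 51) Om4 tw4 (nat_lit 36)
/-- derived letters -/
def Pder4 (e : ℕ) : Bool := cond (Nat.ble ((nat_lit 53)) e) (derChk R Y pr (nat_lit 51) derT e) true
/-- next generators -/
def Pcert4 (e : ℕ) : Bool := cond (Nat.ble ((nat_lit 59)) e) (certChk R Y pr (nat_lit 51) (nat_lit 59) certA certB e) true
/-- next generators fix the point -/
def Pfix4 (e : ℕ) : Bool := cond (Nat.ble ((nat_lit 59)) e) (ptChk pr [e] (nat_lit 36) (nat_lit 36)) true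
/-- the orbit -/
def Om5 : ℕ := nat_lit 0x800c00000000000000000
def twE5_0 (_ : ℕ) : ℕ := nat_lit 0x0
def twE5_1 (_ : ℕ) : ℕ := nat_lit 0x3d00000000000000000000000000000000000003c000000000000000000
def twE5_2 (_ : ℕ) : ℕ := nat_lit 0x0
def twE5_3 (_ : ℕ) : ℕ := nat_lit 0x0
def twE5_4 (_ : ℕ) : ℕ := nat_lit 0x0
def twE5_5 (_ : ℕ) : ℕ := nat_lit 0x0
def twE5_6 (_ : ℕ) : ℕ := nat_lit 0x0
def twE5_7 (_ : ℕ) : ℕ := nat_lit 0x0
def twE5_8 (_ : ℕ) : ℕ := nat_lit 0x0
def twE5_9 (_ : ℕ) : ℕ := nat_lit 0x0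
def twE5_10 (_ : ℕ) : ℕ := nat_lit 0x0
def twE5_11 (_ : ℕ) : ℕ := nat_lit 0x0
def twE5_12 (_ : ℕ) : ℕ := nat_lit 0x0
def twE5_13 (_ : ℕ) : ℕ := nat_lit 0x0
def twE5_14 (_ : ℕ) : ℕ := nat_lit 0x0
def twE5_15 (_ : ℕ) : ℕ := nat_lit 0x0
def twE5_16 (_ : ℕ) : ℕ := nat_lit 0x0
def twE5_17 (_ : ℕ) : ℕ := nat_lit 0x0
def twE5_18 (_ : ℕ) : ℕ := nat_lit 0x0
def twE5_19 (_ : ℕ) : ℕ := nat_lit 0x0
def twE5_20 (_ : ℕ) : ℕ := nat_lit 0x0
def twE5_21 (_ : ℕ) : ℕ := nat_lit 0x0
def twE5_22 (_ : ℕ) : ℕ := nat_lit 0x0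
def twE5_23 (_ : ℕ) : ℕ := nat_lit 0x0
def twE5_s1_3 (c : ℕ) : ℕ := cond (Nat.ble c (nat_lit 1)) (twE5_1 c) (twE5_2 c)
def twE5_s0_3 (c : ℕ) : ℕ := cond (Nat.ble c (nat_lit 0)) (twE5_0 c) (twE5_s1_3 c)
def twE5_s4_6 (c : ℕ) : ℕ := cond (Nat.ble c (nat_lit 4)) (twE5_4 c) (twE5_5 c)
def twE5_s3_6 (c : ℕ) : ℕ := cond (Nat.ble c (nat_lit 3)) (twE5_3 c) (twE5_s4_6 c)
def twE5_s0_6 (c : ℕ) : ℕ := cond (Nat.ble c (nat_lit 2)) (twE5_s0_3 c) (twE5_s3_6 c)
def twE5_s7_9 (c : ℕ) : ℕ := cond (Nat.ble c (nat_lit 7)) (twE5_7 c) (twE5_8 c)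
def twE5_s6_9 (c : ℕ) : ℕ := cond (Nat.ble c (nat_lit 6)) (twE5_6 c) (twE5_s7_9 c)
def twE5_s10_12 (c : ℕ) : ℕ := cond (Nat.ble c (nat_lit 10)) (twE5_10 c) (twE5_11 c)
def twE5_s9_12 (c : ℕ) : ℕ := cond (Nat.ble c (nat_lit 9)) (twE5_9 c) (twE5_s10_12 c)
def twE5_s6_12 (c : ℕ) : ℕ := cond (Nat.ble c (nat_lit 8)) (twE5_s6_9 c) (twE5_s9_12 c)
def twE5_s0_12 (c : ℕ) : ℕ := cond (Nat.ble c (nat_lit 5)) (twE5_s0_6 c) (twE5_s6_12 c)
def twE5_s13_15 (c : ℕ) : ℕ := cond (Nat.ble c (nat_lit 13)) (twE5_13 c) (twE5_14 c)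
def twE5_s12_15 (c : ℕ) : ℕ := cond (Nat.ble c (nat_lit 12)) (twE5_12 c) (twE5_s13_15 c)
def twE5_s16_18 (c : ℕ) : ℕ := cond (Nat.ble c (nat_lit 16)) (twE5_16 c) (twE5_17 c)
def twE5_s15_18 (c : ℕ) : ℕ := cond (Nat.ble c (nat_lit 15)) (twE5_15 c) (twE5_s16_18 c)
def twE5_s12_18 (c : ℕ) : ℕ := cond (Nat.ble c (nat_lit 14)) (twE5_s12_15 c) (twE5_s15_18 c)
def twE5_s19_21 (c : ℕ) : ℕ := cond (Nat.ble c (nat_lit 19)) (twE5_19 c) (twE5_20 c)
def twE5_s18_21 (c : ℕ) : ℕ := cond (Nat.ble c (nat_lit 18)) (twE5_18 c) (twE5_s19_21 c)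
def twE5_s22_24 (c : ℕ) : ℕ := cond (Nat.ble c (nat_lit 22)) (twE5_22 c) (twE5_23 c)
def twE5_s21_24 (c : ℕ) : ℕ := cond (Nat.ble c (nat_lit 21)) (twE5_21 c) (twE5_s22_24 c)
def twE5_s18_24 (c : ℕ) : ℕ := cond (Nat.ble c (nat_lit 20)) (twE5_s18_21 c) (twE5_s21_24 c)
def twE5_s12_24 (c : ℕ) : ℕ := cond (Nat.ble c (nat_lit 17)) (twE5_s12_18 c) (twE5_s18_24 c)
def twE5_s0_24 (c : ℕ) : ℕ := cond (Nat.ble c (nat_lit 11)) (twE5_s0_12 c) (twE5_s12_24 c)
/-- table lookup -/
def twE5 (i : ℕ) : ℕ := Nat.land (Nat.shiftRight (twE5_s0_24 (Nat.shiftRight i (nat_lit 6))) (Nat.mul (nat_lit 12) (Nat.land i (nat_lit 63)))) (nat_lit 4095)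
/-- transversal words -/
def tw5 (p : ℕ) : List ℕ := unpW (nat_lit 32) (twE5 p)
def stE5_0 (_ : ℕ) : ℕ := nat_lit 0x0
def stE5_1 (_ : ℕ) : ℕ := nat_lit 0x0
def stE5_2 (_ : ℕ) : ℕ := nat_lit 0x4700003f04700000000000000000000000000000000000000000000000000000000000000000000000000000000000000000000000000000000000000000000000000000000000000000000000000000000000000000000000000000000000000000000000000000000000005300000004604103f04604103f053000000000000000000000000000000000000000000000000000000000000000000000000000000000000000000000000000000000000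
def stE5_3 (_ : ℕ) : ℕ := nat_lit 0x0
def stE5_4 (_ : ℕ) : ℕ := nat_lit 0x0
def stE5_5 (_ : ℕ) : ℕ := nat_lit 0x0
def stE5_6 (_ : ℕ) : ℕ := nat_lit 0x0
def stE5_7 (_ : ℕ) : ℕ := nat_lit 0x0
def stE5_8 (_ : ℕ) : ℕ := nat_lit 0x0
def stE5_9 (_ : ℕ) : ℕ := nat_lit 0x0
def stE5_10 (_ : ℕ) : ℕ := nat_lit 0x0
def stE5_11 (_ : ℕ) : ℕ := nat_lit 0x0
def stE5_12 (_ : ℕ) : ℕ := nat_lit 0x0
def stE5_13 (_ : ℕ) : ℕ := nat_lit 0x0
def stE5_14 (_ : ℕ) : ℕ := nat_lit 0x0
def stE5_15 (_ : ℕ) : ℕ := nat_lit 0x0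
def stE5_16 (_ : ℕ) : ℕ := nat_lit 0x0
def stE5_17 (_ : ℕ) : ℕ := nat_lit 0x0
def stE5_18 (_ : ℕ) : ℕ := nat_lit 0x0
def stE5_19 (_ : ℕ) : ℕ := nat_lit 0x0
def stE5_20 (_ : ℕ) : ℕ := nat_lit 0x0
def stE5_21 (_ : ℕ) : ℕ := nat_lit 0x0
def stE5_22 (_ : ℕ) : ℕ := nat_lit 0x0
def stE5_23 (_ : ℕ) : ℕ := nat_lit 0x0
def stE5_24 (_ : ℕ) : ℕ := nat_lit 0x0
def stE5_25 (_ : ℕ) : ℕ := nat_lit 0x0
def stE5_26 (_ : ℕ) : ℕ := nat_lit 0x0
def stE5_27 (_ : ℕ) : ℕ := nat_lit 0x0
def stE5_28 (_ : ℕ) : ℕ := nat_lit 0x0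
def stE5_29 (_ : ℕ) : ℕ := nat_lit 0x0
def stE5_30 (_ : ℕ) : ℕ := nat_lit 0x0
def stE5_31 (_ : ℕ) : ℕ := nat_lit 0x0
def stE5_32 (_ : ℕ) : ℕ := nat_lit 0x0
def stE5_33 (_ : ℕ) : ℕ := nat_lit 0x0
def stE5_34 (_ : ℕ) : ℕ := nat_lit 0x0
def stE5_35 (_ : ℕ) : ℕ := nat_lit 0x0
def stE5_36 (_ : ℕ) : ℕ := nat_lit 0x0
def stE5_37 (_ : ℕ) : ℕ := nat_lit 0x0
def stE5_38 (_ : ℕ) : ℕ := nat_lit 0x0
def stE5_39 (_ : ℕ) : ℕ := nat_lit 0x0
def stE5_40 (_ : ℕ) : ℕ := nat_lit 0x0
def stE5_41 (_ : ℕ) : ℕ := nat_lit 0x0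
def stE5_42 (_ : ℕ) : ℕ := nat_lit 0x0
def stE5_43 (_ : ℕ) : ℕ := nat_lit 0x0
def stE5_44 (_ : ℕ) : ℕ := nat_lit 0x0
def stE5_45 (_ : ℕ) : ℕ := nat_lit 0x0
def stE5_46 (_ : ℕ) : ℕ := nat_lit 0x0
def stE5_47 (_ : ℕ) : ℕ := nat_lit 0x0
def stE5_s1_3 (c : ℕ) : ℕ := cond (Nat.ble c (nat_lit 1)) (stE5_1 c) (stE5_2 c)
def stE5_s0_3 (c : ℕ) : ℕ := cond (Nat.ble c (nat_lit 0)) (stE5_0 c) (stE5_s1_3 c)
def stE5_s4_6 (c : ℕ) : ℕ := cond (Nat.ble c (nat_lit 4)) (stE5_4 c) (stE5_5 c)
def stE5_s3_6 (c : ℕ) : ℕ := cond (Nat.ble c (nat_lit 3)) (stE5_3 c) (stE5_s4_6 c)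
def stE5_s0_6 (c : ℕ) : ℕ := cond (Nat.ble c (nat_lit 2)) (stE5_s0_3 c) (stE5_s3_6 c)
def stE5_s7_9 (c : ℕ) : ℕ := cond (Nat.ble c (nat_lit 7)) (stE5_7 c) (stE5_8 c)
def stE5_s6_9 (c : ℕ) : ℕ := cond (Nat.ble c (nat_lit 6)) (stE5_6 c) (stE5_s7_9 c)
def stE5_s10_12 (c : ℕ) : ℕ := cond (Nat.ble c (nat_lit 10)) (stE5_10 c) (stE5_11 c)
def stE5_s9_12 (c : ℕ) : ℕ := cond (Nat.ble c (nat_lit 9)) (stE5_9 c) (stE5_s10_12 c)
def stE5_s6_12 (c : ℕ) : ℕ := cond (Nat.ble c (nat_lit 8)) (stE5_s6_9 c) (stE5_s9_12 c)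
def stE5_s0_12 (c : ℕ) : ℕ := cond (Nat.ble c (nat_lit 5)) (stE5_s0_6 c) (stE5_s6_12 c)
def stE5_s13_15 (c : ℕ) : ℕ := cond (Nat.ble c (nat_lit 13)) (stE5_13 c) (stE5_14 c)
def stE5_s12_15 (c : ℕ) : ℕ := cond (Nat.ble c (nat_lit 12)) (stE5_12 c) (stE5_s13_15 c)
def stE5_s16_18 (c : ℕ) : ℕ := cond (Nat.ble c (nat_lit 16)) (stE5_16 c) (stE5_17 c)
def stE5_s15_18 (c : ℕ) : ℕ := cond (Nat.ble c (nat_lit 15)) (stE5_15 c) (stE5_s16_18 c)
def stE5_s12_18 (c : ℕ) : ℕ := cond (Nat.ble c (nat_lit 14)) (stE5_s12_15 c) (stE5_s15_18 c)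
def stE5_s19_21 (c : ℕ) : ℕ := cond (Nat.ble c (nat_lit 19)) (stE5_19 c) (stE5_20 c)
def stE5_s18_21 (c : ℕ) : ℕ := cond (Nat.ble c (nat_lit 18)) (stE5_18 c) (stE5_s19_21 c)
def stE5_s22_24 (c : ℕ) : ℕ := cond (Nat.ble c (nat_lit 22)) (stE5_22 c) (stE5_23 c)
def stE5_s21_24 (c : ℕ) : ℕ := cond (Nat.ble c (nat_lit 21)) (stE5_21 c) (stE5_s22_24 c)
def stE5_s18_24 (c : ℕ) : ℕ := cond (Nat.ble c (nat_lit 20)) (stE5_s18_21 c) (stE5_s21_24 c)
def stE5_s12_24 (c : ℕ) : ℕ := cond (Nat.ble c (nat_lit 17)) (stE5_s12_18 c) (stE5_s18_24 c)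
def stE5_s0_24 (c : ℕ) : ℕ := cond (Nat.ble c (nat_lit 11)) (stE5_s0_12 c) (stE5_s12_24 c)
def stE5_s25_27 (c : ℕ) : ℕ := cond (Nat.ble c (nat_lit 25)) (stE5_25 c) (stE5_26 c)
def stE5_s24_27 (c : ℕ) : ℕ := cond (Nat.ble c (nat_lit 24)) (stE5_24 c) (stE5_s25_27 c)
def stE5_s28_30 (c : ℕ) : ℕ := cond (Nat.ble c (nat_lit 28)) (stE5_28 c) (stE5_29 c)
def stE5_s27_30 (c : ℕ) : ℕ := cond (Nat.ble c (nat_lit 27)) (stE5_27 c) (stE5_s28_30 c)
def stE5_s24_30 (c : ℕ) : ℕ := cond (Nat.ble c (nat_lit 26)) (stE5_s24_27 c) (stE5_s27_30 c)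
def stE5_s31_33 (c : ℕ) : ℕ := cond (Nat.ble c (nat_lit 31)) (stE5_31 c) (stE5_32 c)
def stE5_s30_33 (c : ℕ) : ℕ := cond (Nat.ble c (nat_lit 30)) (stE5_30 c) (stE5_s31_33 c)
def stE5_s34_36 (c : ℕ) : ℕ := cond (Nat.ble c (nat_lit 34)) (stE5_34 c) (stE5_35 c)
def stE5_s33_36 (c : ℕ) : ℕ := cond (Nat.ble c (nat_lit 33)) (stE5_33 c) (stE5_s34_36 c)
def stE5_s30_36 (c : ℕ) : ℕ := cond (Nat.ble c (nat_lit 32)) (stE5_s30_33 c) (stE5_s33_36 c)
def stE5_s24_36 (c : ℕ) : ℕ := cond (Nat.ble c (nat_lit 29)) (stE5_s24_30 c) (stE5_s30_36 c)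
def stE5_s37_39 (c : ℕ) : ℕ := cond (Nat.ble c (nat_lit 37)) (stE5_37 c) (stE5_38 c)
def stE5_s36_39 (c : ℕ) : ℕ := cond (Nat.ble c (nat_lit 36)) (stE5_36 c) (stE5_s37_39 c)
def stE5_s40_42 (c : ℕ) : ℕ := cond (Nat.ble c (nat_lit 40)) (stE5_40 c) (stE5_41 c)
def stE5_s39_42 (c : ℕ) : ℕ := cond (Nat.ble c (nat_lit 39)) (stE5_39 c) (stE5_s40_42 c)
def stE5_s36_42 (c : ℕ) : ℕ := cond (Nat.ble c (nat_lit 38)) (stE5_s36_39 c) (stE5_s39_42 c)
def stE5_s43_45 (c : ℕ) : ℕ := cond (Nat.ble c (nat_lit 43)) (stE5_43 c) (stE5_44 c)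
def stE5_s42_45 (c : ℕ) : ℕ := cond (Nat.ble c (nat_lit 42)) (stE5_42 c) (stE5_s43_45 c)
def stE5_s46_48 (c : ℕ) : ℕ := cond (Nat.ble c (nat_lit 46)) (stE5_46 c) (stE5_47 c)
def stE5_s45_48 (c : ℕ) : ℕ := cond (Nat.ble c (nat_lit 45)) (stE5_45 c) (stE5_s46_48 c)
def stE5_s42_48 (c : ℕ) : ℕ := cond (Nat.ble c (nat_lit 44)) (stE5_s42_45 c) (stE5_s45_48 c)
def stE5_s36_48 (c : ℕ) : ℕ := cond (Nat.ble c (nat_lit 41)) (stE5_s36_42 c) (stE5_s42_48 c)
def stE5_s24_48 (c : ℕ) : ℕ := cond (Nat.ble c (nat_lit 35)) (stE5_s24_36 c) (stE5_s36_48 c)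
def stE5_s0_48 (c : ℕ) : ℕ := cond (Nat.ble c (nat_lit 23)) (stE5_s0_24 c) (stE5_s24_48 c)
/-- table lookup -/
def stE5 (i : ℕ) : ℕ := Nat.land (Nat.shiftRight (stE5_s0_48 (Nat.shiftRight i (nat_lit 6))) (Nat.mul (nat_lit 36) (Nat.land i (nat_lit 63)))) (nat_lit 68719476735)
/-- step check -/
def Pst5 : ℕ → Bool := ProgChain.stepChk R Y pr (nat_lit 1508) (nat_lit 59) (nat_lit 2) (nat_lit 61) Om5 tw5 stE5
/-- images -/
def Pimg5 : ℕ → Bool := imgChk pr (nat_lit 59) Om5 tw5 (nat_lit 71)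
/-- derived letters -/
def Pder5 (e : ℕ) : Bool := cond (Nat.ble ((nat_lit 61)) e) (derChk R Y pr (nat_lit 59) derT e) true
/-- next generators -/
def Pcert5 (e : ℕ) : Bool := cond (Nat.ble ((nat_lit 61)) e) (certChk R Y pr (nat_lit 59) (nat_lit 61) certA certB e) true
/-- next generators fix the point -/
def Pfix5 (e : ℕ) : Bool := cond (Nat.ble ((nat_lit 61)) e) (ptChk pr [e] (nat_lit 71) (nat_lit 71)) true
/-- the orbit -/
def Om6 : ℕ := nat_lit 0x1000000000000020000
def twE6_0 (_ : ℕ) : ℕ := nat_lit 0x0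
def twE6_1 (_ : ℕ) : ℕ := nat_lit 0x3f000000000000000000000000
def twE6_2 (_ : ℕ) : ℕ := nat_lit 0x0
def twE6_3 (_ : ℕ) : ℕ := nat_lit 0x0
def twE6_4 (_ : ℕ) : ℕ := nat_lit 0x0
def twE6_5 (_ : ℕ) : ℕ := nat_lit 0x0
def twE6_6 (_ : ℕ) : ℕ := nat_lit 0x0
def twE6_7 (_ : ℕ) : ℕ := nat_lit 0x0
def twE6_8 (_ : ℕ) : ℕ := nat_lit 0x0
def twE6_9 (_ : ℕ) : ℕ := nat_lit 0x0
def twE6_10 (_ : ℕ) : ℕ := nat_lit 0x0
def twE6_11 (_ : ℕ) : ℕ := nat_lit 0x0
def twE6_12 (_ : ℕ) : ℕ := nat_lit 0x0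
def twE6_13 (_ : ℕ) : ℕ := nat_lit 0x0
def twE6_14 (_ : ℕ) : ℕ := nat_lit 0x0
def twE6_15 (_ : ℕ) : ℕ := nat_lit 0x0
def twE6_16 (_ : ℕ) : ℕ := nat_lit 0x0
def twE6_17 (_ : ℕ) : ℕ := nat_lit 0x0
def twE6_18 (_ : ℕ) : ℕ := nat_lit 0x0
def twE6_19 (_ : ℕ) : ℕ := nat_lit 0x0
def twE6_20 (_ : ℕ) : ℕ := nat_lit 0x0
def twE6_21 (_ : ℕ) : ℕ := nat_lit 0x0
def twE6_22 (_ : ℕ) : ℕ := nat_lit 0x0
def twE6_23 (_ : ℕ) : ℕ := nat_lit 0x0
def twE6_s1_3 (c : ℕ) : ℕ := cond (Nat.ble c (nat_lit 1)) (twE6_1 c) (twE6_2 c)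
def twE6_s0_3 (c : ℕ) : ℕ := cond (Nat.ble c (nat_lit 0)) (twE6_0 c) (twE6_s1_3 c)
def twE6_s4_6 (c : ℕ) : ℕ := cond (Nat.ble c (nat_lit 4)) (twE6_4 c) (twE6_5 c)
def twE6_s3_6 (c : ℕ) : ℕ := cond (Nat.ble c (nat_lit 3)) (twE6_3 c) (twE6_s4_6 c)
def twE6_s0_6 (c : ℕ) : ℕ := cond (Nat.ble c (nat_lit 2)) (twE6_s0_3 c) (twE6_s3_6 c)
def twE6_s7_9 (c : ℕ) : ℕ := cond (Nat.ble c (nat_lit 7)) (twE6_7 c) (twE6_8 c)
def twE6_s6_9 (c : ℕ) : ℕ := cond (Nat.ble c (nat_lit 6)) (twE6_6 c) (twE6_s7_9 c)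
def twE6_s10_12 (c : ℕ) : ℕ := cond (Nat.ble c (nat_lit 10)) (twE6_10 c) (twE6_11 c)
def twE6_s9_12 (c : ℕ) : ℕ := cond (Nat.ble c (nat_lit 9)) (twE6_9 c) (twE6_s10_12 c)
def twE6_s6_12 (c : ℕ) : ℕ := cond (Nat.ble c (nat_lit 8)) (twE6_s6_9 c) (twE6_s9_12 c)
def twE6_s0_12 (c : ℕ) : ℕ := cond (Nat.ble c (nat_lit 5)) (twE6_s0_6 c) (twE6_s6_12 c)
def twE6_s13_15 (c : ℕ) : ℕ := cond (Nat.ble c (nat_lit 13)) (twE6_13 c) (twE6_14 c)
def twE6_s12_15 (c : ℕ) : ℕ := cond (Nat.ble c (nat_lit 12)) (twE6_12 c) (twE6_s13_15 c)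
def twE6_s16_18 (c : ℕ) : ℕ := cond (Nat.ble c (nat_lit 16)) (twE6_16 c) (twE6_17 c)
def twE6_s15_18 (c : ℕ) : ℕ := cond (Nat.ble c (nat_lit 15)) (twE6_15 c) (twE6_s16_18 c)
def twE6_s12_18 (c : ℕ) : ℕ := cond (Nat.ble c (nat_lit 14)) (twE6_s12_15 c) (twE6_s15_18 c)
def twE6_s19_21 (c : ℕ) : ℕ := cond (Nat.ble c (nat_lit 19)) (twE6_19 c) (twE6_20 c)
def twE6_s18_21 (c : ℕ) : ℕ := cond (Nat.ble c (nat_lit 18)) (twE6_18 c) (twE6_s19_21 c)
def twE6_s22_24 (c : ℕ) : ℕ := cond (Nat.ble c (nat_lit 22)) (twE6_22 c) (twE6_23 c)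
def twE6_s21_24 (c : ℕ) : ℕ := cond (Nat.ble c (nat_lit 21)) (twE6_21 c) (twE6_s22_24 c)
def twE6_s18_24 (c : ℕ) : ℕ := cond (Nat.ble c (nat_lit 20)) (twE6_s18_21 c) (twE6_s21_24 c)
def twE6_s12_24 (c : ℕ) : ℕ := cond (Nat.ble c (nat_lit 17)) (twE6_s12_18 c) (twE6_s18_24 c)
def twE6_s0_24 (c : ℕ) : ℕ := cond (Nat.ble c (nat_lit 11)) (twE6_s0_12 c) (twE6_s12_24 c)
/-- table lookup -/
def twE6 (i : ℕ) : ℕ := Nat.land (Nat.shiftRight (twE6_s0_24 (Nat.shiftRight i (nat_lit 6))) (Nat.mul (nat_lit 12) (Nat.land i (nat_lit 63)))) (nat_lit 4095)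
/-- transversal words -/
def tw6 (p : ℕ) : List ℕ := unpW (nat_lit 32) (twE6 p)
def stE6_0 (_ : ℕ) : ℕ := nat_lit 0x48041011000000000000000000000000000000000000000000000000000000000000000000000000000000000000000000000000000000000000000000000000000000000000000000000000000000000000000000000000000000000000000000000000000000000000
def stE6_1 (_ : ℕ) : ℕ := nat_lit 0x0
def stE6_2 (_ : ℕ) : ℕ := nat_lit 0x11041048000000000000000000000000000000000000000000000000000000000000000000000000000000000000000000000000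
def stE6_3 (_ : ℕ) : ℕ := nat_lit 0x0
def stE6_4 (_ : ℕ) : ℕ := nat_lit 0x0
def stE6_5 (_ : ℕ) : ℕ := nat_lit 0x0
def stE6_6 (_ : ℕ) : ℕ := nat_lit 0x0
def stE6_7 (_ : ℕ) : ℕ := nat_lit 0x0
def stE6_8 (_ : ℕ) : ℕ := nat_lit 0x0
def stE6_9 (_ : ℕ) : ℕ := nat_lit 0x0
def stE6_10 (_ : ℕ) : ℕ := nat_lit 0x0
def stE6_11 (_ : ℕ) : ℕ := nat_lit 0x0
def stE6_12 (_ : ℕ) : ℕ := nat_lit 0x0
def stE6_13 (_ : ℕ) : ℕ := nat_lit 0x0
def stE6_14 (_ : ℕ) : ℕ := nat_lit 0x0
def stE6_15 (_ : ℕ) : ℕ := nat_lit 0x0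
def stE6_16 (_ : ℕ) : ℕ := nat_lit 0x0
def stE6_17 (_ : ℕ) : ℕ := nat_lit 0x0
def stE6_18 (_ : ℕ) : ℕ := nat_lit 0x0
def stE6_19 (_ : ℕ) : ℕ := nat_lit 0x0
def stE6_20 (_ : ℕ) : ℕ := nat_lit 0x0
def stE6_21 (_ : ℕ) : ℕ := nat_lit 0x0
def stE6_22 (_ : ℕ) : ℕ := nat_lit 0x0
def stE6_23 (_ : ℕ) : ℕ := nat_lit 0x0
def stE6_24 (_ : ℕ) : ℕ := nat_lit 0x0
def stE6_25 (_ : ℕ) : ℕ := nat_lit 0x0
def stE6_26 (_ : ℕ) : ℕ := nat_lit 0x0
def stE6_27 (_ : ℕ) : ℕ := nat_lit 0x0
def stE6_28 (_ : ℕ) : ℕ := nat_lit 0x0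
def stE6_29 (_ : ℕ) : ℕ := nat_lit 0x0
def stE6_30 (_ : ℕ) : ℕ := nat_lit 0x0
def stE6_31 (_ : ℕ) : ℕ := nat_lit 0x0
def stE6_32 (_ : ℕ) : ℕ := nat_lit 0x0
def stE6_33 (_ : ℕ) : ℕ := nat_lit 0x0
def stE6_34 (_ : ℕ) : ℕ := nat_lit 0x0
def stE6_35 (_ : ℕ) : ℕ := nat_lit 0x0
def stE6_36 (_ : ℕ) : ℕ := nat_lit 0x0
def stE6_37 (_ : ℕ) : ℕ := nat_lit 0x0
def stE6_38 (_ : ℕ) : ℕ := nat_lit 0x0
def stE6_39 (_ : ℕ) : ℕ := nat_lit 0x0
def stE6_40 (_ : ℕ) : ℕ := nat_lit 0x0
def stE6_41 (_ : ℕ) : ℕ := nat_lit 0x0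
def stE6_42 (_ : ℕ) : ℕ := nat_lit 0x0
def stE6_43 (_ : ℕ) : ℕ := nat_lit 0x0
def stE6_44 (_ : ℕ) : ℕ := nat_lit 0x0
def stE6_45 (_ : ℕ) : ℕ := nat_lit 0x0
def stE6_46 (_ : ℕ) : ℕ := nat_lit 0x0
def stE6_47 (_ : ℕ) : ℕ := nat_lit 0x0
def stE6_s1_3 (c : ℕ) : ℕ := cond (Nat.ble c (nat_lit 1)) (stE6_1 c) (stE6_2 c)
def stE6_s0_3 (c : ℕ) : ℕ := cond (Nat.ble c (nat_lit 0)) (stE6_0 c) (stE6_s1_3 c)
def stE6_s4_6 (c : ℕ) : ℕ := cond (Nat.ble c (nat_lit 4)) (stE6_4 c) (stE6_5 c)
def stE6_s3_6 (c : ℕ) : ℕ := cond (Nat.ble c (nat_lit 3)) (stE6_3 c) (stE6_s4_6 c)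
def stE6_s0_6 (c : ℕ) : ℕ := cond (Nat.ble c (nat_lit 2)) (stE6_s0_3 c) (stE6_s3_6 c)
def stE6_s7_9 (c : ℕ) : ℕ := cond (Nat.ble c (nat_lit 7)) (stE6_7 c) (stE6_8 c)
def stE6_s6_9 (c : ℕ) : ℕ := cond (Nat.ble c (nat_lit 6)) (stE6_6 c) (stE6_s7_9 c)
def stE6_s10_12 (c : ℕ) : ℕ := cond (Nat.ble c (nat_lit 10)) (stE6_10 c) (stE6_11 c)
def stE6_s9_12 (c : ℕ) : ℕ := cond (Nat.ble c (nat_lit 9)) (stE6_9 c) (stE6_s10_12 c)
def stE6_s6_12 (c : ℕ) : ℕ := cond (Nat.ble c (nat_lit 8)) (stE6_s6_9 c) (stE6_s9_12 c)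
def stE6_s0_12 (c : ℕ) : ℕ := cond (Nat.ble c (nat_lit 5)) (stE6_s0_6 c) (stE6_s6_12 c)
def stE6_s13_15 (c : ℕ) : ℕ := cond (Nat.ble c (nat_lit 13)) (stE6_13 c) (stE6_14 c)
def stE6_s12_15 (c : ℕ) : ℕ := cond (Nat.ble c (nat_lit 12)) (stE6_12 c) (stE6_s13_15 c)
def stE6_s16_18 (c : ℕ) : ℕ := cond (Nat.ble c (nat_lit 16)) (stE6_16 c) (stE6_17 c)
def stE6_s15_18 (c : ℕ) : ℕ := cond (Nat.ble c (nat_lit 15)) (stE6_15 c) (stE6_s16_18 c)
def stE6_s12_18 (c : ℕ) : ℕ := cond (Nat.ble c (nat_lit 14)) (stE6_s12_15 c) (stE6_s15_18 c)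
def stE6_s19_21 (c : ℕ) : ℕ := cond (Nat.ble c (nat_lit 19)) (stE6_19 c) (stE6_20 c)
def stE6_s18_21 (c : ℕ) : ℕ := cond (Nat.ble c (nat_lit 18)) (stE6_18 c) (stE6_s19_21 c)
def stE6_s22_24 (c : ℕ) : ℕ := cond (Nat.ble c (nat_lit 22)) (stE6_22 c) (stE6_23 c)
def stE6_s21_24 (c : ℕ) : ℕ := cond (Nat.ble c (nat_lit 21)) (stE6_21 c) (stE6_s22_24 c)
def stE6_s18_24 (c : ℕ) : ℕ := cond (Nat.ble c (nat_lit 20)) (stE6_s18_21 c) (stE6_s21_24 c)
def stE6_s12_24 (c : ℕ) : ℕ := cond (Nat.ble c (nat_lit 17)) (stE6_s12_18 c) (stE6_s18_24 c)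
def stE6_s0_24 (c : ℕ) : ℕ := cond (Nat.ble c (nat_lit 11)) (stE6_s0_12 c) (stE6_s12_24 c)
def stE6_s25_27 (c : ℕ) : ℕ := cond (Nat.ble c (nat_lit 25)) (stE6_25 c) (stE6_26 c)
def stE6_s24_27 (c : ℕ) : ℕ := cond (Nat.ble c (nat_lit 24)) (stE6_24 c) (stE6_s25_27 c)
def stE6_s28_30 (c : ℕ) : ℕ := cond (Nat.ble c (nat_lit 28)) (stE6_28 c) (stE6_29 c)
def stE6_s27_30 (c : ℕ) : ℕ := cond (Nat.ble c (nat_lit 27)) (stE6_27 c) (stE6_s28_30 c)
def stE6_s24_30 (c : ℕ) : ℕ := cond (Nat.ble c (nat_lit 26)) (stE6_s24_27 c) (stE6_s27_30 c)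
def stE6_s31_33 (c : ℕ) : ℕ := cond (Nat.ble c (nat_lit 31)) (stE6_31 c) (stE6_32 c)
def stE6_s30_33 (c : ℕ) : ℕ := cond (Nat.ble c (nat_lit 30)) (stE6_30 c) (stE6_s31_33 c)
def stE6_s34_36 (c : ℕ) : ℕ := cond (Nat.ble c (nat_lit 34)) (stE6_34 c) (stE6_35 c)
def stE6_s33_36 (c : ℕ) : ℕ := cond (Nat.ble c (nat_lit 33)) (stE6_33 c) (stE6_s34_36 c)
def stE6_s30_36 (c : ℕ) : ℕ := cond (Nat.ble c (nat_lit 32)) (stE6_s30_33 c) (stE6_s33_36 c)
def stE6_s24_36 (c : ℕ) : ℕ := cond (Nat.ble c (nat_lit 29)) (stE6_s24_30 c) (stE6_s30_36 c)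
def stE6_s37_39 (c : ℕ) : ℕ := cond (Nat.ble c (nat_lit 37)) (stE6_37 c) (stE6_38 c)
def stE6_s36_39 (c : ℕ) : ℕ := cond (Nat.ble c (nat_lit 36)) (stE6_36 c) (stE6_s37_39 c)
def stE6_s40_42 (c : ℕ) : ℕ := cond (Nat.ble c (nat_lit 40)) (stE6_40 c) (stE6_41 c)
def stE6_s39_42 (c : ℕ) : ℕ := cond (Nat.ble c (nat_lit 39)) (stE6_39 c) (stE6_s40_42 c)
def stE6_s36_42 (c : ℕ) : ℕ := cond (Nat.ble c (nat_lit 38)) (stE6_s36_39 c) (stE6_s39_42 c)
def stE6_s43_45 (c : ℕ) : ℕ := cond (Nat.ble c (nat_lit 43)) (stE6_43 c) (stE6_44 c)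
def stE6_s42_45 (c : ℕ) : ℕ := cond (Nat.ble c (nat_lit 42)) (stE6_42 c) (stE6_s43_45 c)
def stE6_s46_48 (c : ℕ) : ℕ := cond (Nat.ble c (nat_lit 46)) (stE6_46 c) (stE6_47 c)
def stE6_s45_48 (c : ℕ) : ℕ := cond (Nat.ble c (nat_lit 45)) (stE6_45 c) (stE6_s46_48 c)
def stE6_s42_48 (c : ℕ) : ℕ := cond (Nat.ble c (nat_lit 44)) (stE6_s42_45 c) (stE6_s45_48 c)
def stE6_s36_48 (c : ℕ) : ℕ := cond (Nat.ble c (nat_lit 41)) (stE6_s36_42 c) (stE6_s42_48 c)
def stE6_s24_48 (c : ℕ) : ℕ := cond (Nat.ble c (nat_lit 35)) (stE6_s24_36 c) (stE6_s36_48 c)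
def stE6_s0_48 (c : ℕ) : ℕ := cond (Nat.ble c (nat_lit 23)) (stE6_s0_24 c) (stE6_s24_48 c)
/-- table lookup -/
def stE6 (i : ℕ) : ℕ := Nat.land (Nat.shiftRight (stE6_s0_48 (Nat.shiftRight i (nat_lit 6))) (Nat.mul (nat_lit 24) (Nat.land i (nat_lit 63)))) (nat_lit 16777215)
/-- step check -/
def Pst6 : ℕ → Bool := ProgChain.stepChk R Y pr (nat_lit 1508) (nat_lit 61) (nat_lit 2) (nat_lit 63) Om6 tw6 stE6
/-- images -/
def Pimg6 : ℕ → Bool := imgChk pr (nat_lit 61) Om6 tw6 (nat_lit 17)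
/-- derived letters -/
def Pder6 (e : ℕ) : Bool := cond (Nat.ble ((nat_lit 63)) e) (derChk R Y pr (nat_lit 61) derT e) true
/-- next generators -/
def Pcert6 (e : ℕ) : Bool := cond (Nat.ble ((nat_lit 63)) e) (certChk R Y pr (nat_lit 61) (nat_lit 63) certA certB e) true
/-- next generators fix the point -/
def Pfix6 (e : ℕ) : Bool := cond (Nat.ble ((nat_lit 63)) e) (ptChk pr [e] (nat_lit 17) (nat_lit 17)) true
/-- the orbit -/
def Om7 : ℕ := nat_lit 0x30000000000000000000000000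
def twE7_0 (_ : ℕ) : ℕ := nat_lit 0x0
def twE7_1 (_ : ℕ) : ℕ := nat_lit 0x41000000000000000000000000000000000000000000000000000000000000000000000000000000000000000000000000000000000000000
def twE7_2 (_ : ℕ) : ℕ := nat_lit 0x0
def twE7_3 (_ : ℕ) : ℕ := nat_lit 0x0
def twE7_4 (_ : ℕ) : ℕ := nat_lit 0x0
def twE7_5 (_ : ℕ) : ℕ := nat_lit 0x0
def twE7_6 (_ : ℕ) : ℕ := nat_lit 0x0
def twE7_7 (_ : ℕ) : ℕ := nat_lit 0x0
def twE7_8 (_ : ℕ) : ℕ := nat_lit 0x0
def twE7_9 (_ : ℕ) : ℕ := nat_lit 0x0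
def twE7_10 (_ : ℕ) : ℕ := nat_lit 0x0
def twE7_11 (_ : ℕ) : ℕ := nat_lit 0x0
def twE7_12 (_ : ℕ) : ℕ := nat_lit 0x0
def twE7_13 (_ : ℕ) : ℕ := nat_lit 0x0
def twE7_14 (_ : ℕ) : ℕ := nat_lit 0x0
def twE7_15 (_ : ℕ) : ℕ := nat_lit 0x0
def twE7_16 (_ : ℕ) : ℕ := nat_lit 0x0
def twE7_17 (_ : ℕ) : ℕ := nat_lit 0x0
def twE7_18 (_ : ℕ) : ℕ := nat_lit 0x0
def twE7_19 (_ : ℕ) : ℕ := nat_lit 0x0
def twE7_20 (_ : ℕ) : ℕ := nat_lit 0x0
def twE7_21 (_ : ℕ) : ℕ := nat_lit 0x0
def twE7_22 (_ : ℕ) : ℕ := nat_lit 0x0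
def twE7_23 (_ : ℕ) : ℕ := nat_lit 0x0
def twE7_s1_3 (c : ℕ) : ℕ := cond (Nat.ble c (nat_lit 1)) (twE7_1 c) (twE7_2 c)
def twE7_s0_3 (c : ℕ) : ℕ := cond (Nat.ble c (nat_lit 0)) (twE7_0 c) (twE7_s1_3 c)
def twE7_s4_6 (c : ℕ) : ℕ := cond (Nat.ble c (nat_lit 4)) (twE7_4 c) (twE7_5 c)
def twE7_s3_6 (c : ℕ) : ℕ := cond (Nat.ble c (nat_lit 3)) (twE7_3 c) (twE7_s4_6 c)
def twE7_s0_6 (c : ℕ) : ℕ := cond (Nat.ble c (nat_lit 2)) (twE7_s0_3 c) (twE7_s3_6 c)
def twE7_s7_9 (c : ℕ) : ℕ := cond (Nat.ble c (nat_lit 7)) (twE7_7 c) (twE7_8 c)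
def twE7_s6_9 (c : ℕ) : ℕ := cond (Nat.ble c (nat_lit 6)) (twE7_6 c) (twE7_s7_9 c)
def twE7_s10_12 (c : ℕ) : ℕ := cond (Nat.ble c (nat_lit 10)) (twE7_10 c) (twE7_11 c)
def twE7_s9_12 (c : ℕ) : ℕ := cond (Nat.ble c (nat_lit 9)) (twE7_9 c) (twE7_s10_12 c)
def twE7_s6_12 (c : ℕ) : ℕ := cond (Nat.ble c (nat_lit 8)) (twE7_s6_9 c) (twE7_s9_12 c)
def twE7_s0_12 (c : ℕ) : ℕ := cond (Nat.ble c (nat_lit 5)) (twE7_s0_6 c) (twE7_s6_12 c)
def twE7_s13_15 (c : ℕ) : ℕ := cond (Nat.ble c (nat_lit 13)) (twE7_13 c) (twE7_14 c)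
def twE7_s12_15 (c : ℕ) : ℕ := cond (Nat.ble c (nat_lit 12)) (twE7_12 c) (twE7_s13_15 c)
def twE7_s16_18 (c : ℕ) : ℕ := cond (Nat.ble c (nat_lit 16)) (twE7_16 c) (twE7_17 c)
def twE7_s15_18 (c : ℕ) : ℕ := cond (Nat.ble c (nat_lit 15)) (twE7_15 c) (twE7_s16_18 c)
def twE7_s12_18 (c : ℕ) : ℕ := cond (Nat.ble c (nat_lit 14)) (twE7_s12_15 c) (twE7_s15_18 c)
def twE7_s19_21 (c : ℕ) : ℕ := cond (Nat.ble c (nat_lit 19)) (twE7_19 c) (twE7_20 c)
def twE7_s18_21 (c : ℕ) : ℕ := cond (Nat.ble c (nat_lit 18)) (twE7_18 c) (twE7_s19_21 c)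
def twE7_s22_24 (c : ℕ) : ℕ := cond (Nat.ble c (nat_lit 22)) (twE7_22 c) (twE7_23 c)
def twE7_s21_24 (c : ℕ) : ℕ := cond (Nat.ble c (nat_lit 21)) (twE7_21 c) (twE7_s22_24 c)
def twE7_s18_24 (c : ℕ) : ℕ := cond (Nat.ble c (nat_lit 20)) (twE7_s18_21 c) (twE7_s21_24 c)
def twE7_s12_24 (c : ℕ) : ℕ := cond (Nat.ble c (nat_lit 17)) (twE7_s12_18 c) (twE7_s18_24 c)
def twE7_s0_24 (c : ℕ) : ℕ := cond (Nat.ble c (nat_lit 11)) (twE7_s0_12 c) (twE7_s12_24 c)
/-- table lookup -/
def twE7 (i : ℕ) : ℕ := Nat.land (Nat.shiftRight (twE7_s0_24 (Nat.shiftRight i (nat_lit 6))) (Nat.mul (nat_lit 12) (Nat.land i (nat_lit 63)))) (nat_lit 4095)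
/-- transversal words -/
def tw7 (p : ℕ) : List ℕ := unpW (nat_lit 32) (twE7 p)
def stE7_0 (_ : ℕ) : ℕ := nat_lit 0x0
def stE7_1 (_ : ℕ) : ℕ := nat_lit 0x0
def stE7_2 (_ : ℕ) : ℕ := nat_lit 0x0
def stE7_3 (_ : ℕ) : ℕ := nat_lit 0x64065065064000000000000000000000000
def stE7_4 (_ : ℕ) : ℕ := nat_lit 0x0
def stE7_5 (_ : ℕ) : ℕ := nat_lit 0x0
def stE7_6 (_ : ℕ) : ℕ := nat_lit 0x0
def stE7_7 (_ : ℕ) : ℕ := nat_lit 0x0
def stE7_8 (_ : ℕ) : ℕ := nat_lit 0x0
def stE7_9 (_ : ℕ) : ℕ := nat_lit 0x0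
def stE7_10 (_ : ℕ) : ℕ := nat_lit 0x0
def stE7_11 (_ : ℕ) : ℕ := nat_lit 0x0
def stE7_12 (_ : ℕ) : ℕ := nat_lit 0x0
def stE7_13 (_ : ℕ) : ℕ := nat_lit 0x0
def stE7_14 (_ : ℕ) : ℕ := nat_lit 0x0
def stE7_15 (_ : ℕ) : ℕ := nat_lit 0x0
def stE7_16 (_ : ℕ) : ℕ := nat_lit 0x0
def stE7_17 (_ : ℕ) : ℕ := nat_lit 0x0
def stE7_18 (_ : ℕ) : ℕ := nat_lit 0x0
def stE7_19 (_ : ℕ) : ℕ := nat_lit 0x0
def stE7_20 (_ : ℕ) : ℕ := nat_lit 0x0
def stE7_21 (_ : ℕ) : ℕ := nat_lit 0x0
def stE7_22 (_ : ℕ) : ℕ := nat_lit 0x0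
def stE7_23 (_ : ℕ) : ℕ := nat_lit 0x0
def stE7_24 (_ : ℕ) : ℕ := nat_lit 0x0
def stE7_25 (_ : ℕ) : ℕ := nat_lit 0x0
def stE7_26 (_ : ℕ) : ℕ := nat_lit 0x0
def stE7_27 (_ : ℕ) : ℕ := nat_lit 0x0
def stE7_28 (_ : ℕ) : ℕ := nat_lit 0x0
def stE7_29 (_ : ℕ) : ℕ := nat_lit 0x0
def stE7_30 (_ : ℕ) : ℕ := nat_lit 0x0
def stE7_31 (_ : ℕ) : ℕ := nat_lit 0x0
def stE7_32 (_ : ℕ) : ℕ := nat_lit 0x0
def stE7_33 (_ : ℕ) : ℕ := nat_lit 0x0
def stE7_34 (_ : ℕ) : ℕ := nat_lit 0x0
def stE7_35 (_ : ℕ) : ℕ := nat_lit 0x0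
def stE7_36 (_ : ℕ) : ℕ := nat_lit 0x0
def stE7_37 (_ : ℕ) : ℕ := nat_lit 0x0
def stE7_38 (_ : ℕ) : ℕ := nat_lit 0x0
def stE7_39 (_ : ℕ) : ℕ := nat_lit 0x0
def stE7_40 (_ : ℕ) : ℕ := nat_lit 0x0
def stE7_41 (_ : ℕ) : ℕ := nat_lit 0x0
def stE7_42 (_ : ℕ) : ℕ := nat_lit 0x0
def stE7_43 (_ : ℕ) : ℕ := nat_lit 0x0
def stE7_44 (_ : ℕ) : ℕ := nat_lit 0x0
def stE7_45 (_ : ℕ) : ℕ := nat_lit 0x0
def stE7_46 (_ : ℕ) : ℕ := nat_lit 0x0
def stE7_47 (_ : ℕ) : ℕ := nat_lit 0x0
def stE7_s1_3 (c : ℕ) : ℕ := cond (Nat.ble c (nat_lit 1)) (stE7_1 c) (stE7_2 c)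
def stE7_s0_3 (c : ℕ) : ℕ := cond (Nat.ble c (nat_lit 0)) (stE7_0 c) (stE7_s1_3 c)
def stE7_s4_6 (c : ℕ) : ℕ := cond (Nat.ble c (nat_lit 4)) (stE7_4 c) (stE7_5 c)
def stE7_s3_6 (c : ℕ) : ℕ := cond (Nat.ble c (nat_lit 3)) (stE7_3 c) (stE7_s4_6 c)
def stE7_s0_6 (c : ℕ) : ℕ := cond (Nat.ble c (nat_lit 2)) (stE7_s0_3 c) (stE7_s3_6 c)
def stE7_s7_9 (c : ℕ) : ℕ := cond (Nat.ble c (nat_lit 7)) (stE7_7 c) (stE7_8 c)
def stE7_s6_9 (c : ℕ) : ℕ := cond (Nat.ble c (nat_lit 6)) (stE7_6 c) (stE7_s7_9 c)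
def stE7_s10_12 (c : ℕ) : ℕ := cond (Nat.ble c (nat_lit 10)) (stE7_10 c) (stE7_11 c)
def stE7_s9_12 (c : ℕ) : ℕ := cond (Nat.ble c (nat_lit 9)) (stE7_9 c) (stE7_s10_12 c)
def stE7_s6_12 (c : ℕ) : ℕ := cond (Nat.ble c (nat_lit 8)) (stE7_s6_9 c) (stE7_s9_12 c)
def stE7_s0_12 (c : ℕ) : ℕ := cond (Nat.ble c (nat_lit 5)) (stE7_s0_6 c) (stE7_s6_12 c)
def stE7_s13_15 (c : ℕ) : ℕ := cond (Nat.ble c (nat_lit 13)) (stE7_13 c) (stE7_14 c)
def stE7_s12_15 (c : ℕ) : ℕ := cond (Nat.ble c (nat_lit 12)) (stE7_12 c) (stE7_s13_15 c)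
def stE7_s16_18 (c : ℕ) : ℕ := cond (Nat.ble c (nat_lit 16)) (stE7_16 c) (stE7_17 c)
def stE7_s15_18 (c : ℕ) : ℕ := cond (Nat.ble c (nat_lit 15)) (stE7_15 c) (stE7_s16_18 c)
def stE7_s12_18 (c : ℕ) : ℕ := cond (Nat.ble c (nat_lit 14)) (stE7_s12_15 c) (stE7_s15_18 c)
def stE7_s19_21 (c : ℕ) : ℕ := cond (Nat.ble c (nat_lit 19)) (stE7_19 c) (stE7_20 c)
def stE7_s18_21 (c : ℕ) : ℕ := cond (Nat.ble c (nat_lit 18)) (stE7_18 c) (stE7_s19_21 c)
def stE7_s22_24 (c : ℕ) : ℕ := cond (Nat.ble c (nat_lit 22)) (stE7_22 c) (stE7_23 c)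
def stE7_s21_24 (c : ℕ) : ℕ := cond (Nat.ble c (nat_lit 21)) (stE7_21 c) (stE7_s22_24 c)
def stE7_s18_24 (c : ℕ) : ℕ := cond (Nat.ble c (nat_lit 20)) (stE7_s18_21 c) (stE7_s21_24 c)
def stE7_s12_24 (c : ℕ) : ℕ := cond (Nat.ble c (nat_lit 17)) (stE7_s12_18 c) (stE7_s18_24 c)
def stE7_s0_24 (c : ℕ) : ℕ := cond (Nat.ble c (nat_lit 11)) (stE7_s0_12 c) (stE7_s12_24 c)
def stE7_s25_27 (c : ℕ) : ℕ := cond (Nat.ble c (nat_lit 25)) (stE7_25 c) (stE7_26 c)
def stE7_s24_27 (c : ℕ) : ℕ := cond (Nat.ble c (nat_lit 24)) (stE7_24 c) (stE7_s25_27 c)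
def stE7_s28_30 (c : ℕ) : ℕ := cond (Nat.ble c (nat_lit 28)) (stE7_28 c) (stE7_29 c)
def stE7_s27_30 (c : ℕ) : ℕ := cond (Nat.ble c (nat_lit 27)) (stE7_27 c) (stE7_s28_30 c)
def stE7_s24_30 (c : ℕ) : ℕ := cond (Nat.ble c (nat_lit 26)) (stE7_s24_27 c) (stE7_s27_30 c)
def stE7_s31_33 (c : ℕ) : ℕ := cond (Nat.ble c (nat_lit 31)) (stE7_31 c) (stE7_32 c)
def stE7_s30_33 (c : ℕ) : ℕ := cond (Nat.ble c (nat_lit 30)) (stE7_30 c) (stE7_s31_33 c)
def stE7_s34_36 (c : ℕ) : ℕ := cond (Nat.ble c (nat_lit 34)) (stE7_34 c) (stE7_35 c)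
def stE7_s33_36 (c : ℕ) : ℕ := cond (Nat.ble c (nat_lit 33)) (stE7_33 c) (stE7_s34_36 c)
def stE7_s30_36 (c : ℕ) : ℕ := cond (Nat.ble c (nat_lit 32)) (stE7_s30_33 c) (stE7_s33_36 c)
def stE7_s24_36 (c : ℕ) : ℕ := cond (Nat.ble c (nat_lit 29)) (stE7_s24_30 c) (stE7_s30_36 c)
def stE7_s37_39 (c : ℕ) : ℕ := cond (Nat.ble c (nat_lit 37)) (stE7_37 c) (stE7_38 c)
def stE7_s36_39 (c : ℕ) : ℕ := cond (Nat.ble c (nat_lit 36)) (stE7_36 c) (stE7_s37_39 c)
def stE7_s40_42 (c : ℕ) : ℕ := cond (Nat.ble c (nat_lit 40)) (stE7_40 c) (stE7_41 c)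
def stE7_s39_42 (c : ℕ) : ℕ := cond (Nat.ble c (nat_lit 39)) (stE7_39 c) (stE7_s40_42 c)
def stE7_s36_42 (c : ℕ) : ℕ := cond (Nat.ble c (nat_lit 38)) (stE7_s36_39 c) (stE7_s39_42 c)
def stE7_s43_45 (c : ℕ) : ℕ := cond (Nat.ble c (nat_lit 43)) (stE7_43 c) (stE7_44 c)
def stE7_s42_45 (c : ℕ) : ℕ := cond (Nat.ble c (nat_lit 42)) (stE7_42 c) (stE7_s43_45 c)
def stE7_s46_48 (c : ℕ) : ℕ := cond (Nat.ble c (nat_lit 46)) (stE7_46 c) (stE7_47 c)
def stE7_s45_48 (c : ℕ) : ℕ := cond (Nat.ble c (nat_lit 45)) (stE7_45 c) (stE7_s46_48 c)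
def stE7_s42_48 (c : ℕ) : ℕ := cond (Nat.ble c (nat_lit 44)) (stE7_s42_45 c) (stE7_s45_48 c)
def stE7_s36_48 (c : ℕ) : ℕ := cond (Nat.ble c (nat_lit 41)) (stE7_s36_42 c) (stE7_s42_48 c)
def stE7_s24_48 (c : ℕ) : ℕ := cond (Nat.ble c (nat_lit 35)) (stE7_s24_36 c) (stE7_s36_48 c)
def stE7_s0_48 (c : ℕ) : ℕ := cond (Nat.ble c (nat_lit 23)) (stE7_s0_24 c) (stE7_s24_48 c)
/-- table lookup -/
def stE7 (i : ℕ) : ℕ := Nat.land (Nat.shiftRight (stE7_s0_48 (Nat.shiftRight i (nat_lit 6))) (Nat.mul (nat_lit 12) (Nat.land i (nat_lit 63)))) (nat_lit 4095)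
/-- step check -/
def Pst7 : ℕ → Bool := ProgChain.stepChk R Y pr (nat_lit 1508) (nat_lit 63) (nat_lit 2) (nat_lit 65) Om7 tw7 stE7
/-- images -/
def Pimg7 : ℕ → Bool := imgChk pr (nat_lit 63) Om7 tw7 (nat_lit 100)
/-- derived letters -/
def Pder7 (e : ℕ) : Bool := cond (Nat.ble ((nat_lit 65)) e) (derChk R Y pr (nat_lit 63) derT e) true
/-- next generators -/
def Pcert7 (e : ℕ) : Bool := cond (Nat.ble ((nat_lit 65)) e) (certChk R Y pr (nat_lit 63) (nat_lit 65) certA certB e) true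
/-- next generators fix the point -/
def Pfix7 (e : ℕ) : Bool := cond (Nat.ble ((nat_lit 65)) e) (ptChk pr [e] (nat_lit 100) (nat_lit 100)) true
/-- letters -/
def Plet (e : ℕ) : Bool := letterChk (nat_lit 2048) M (pr e)

end Cfsg.Agent.Lib.HNLTab
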