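import Mathlib
import Cfsg.Agent.TcData.HN.I1539000.Rep0
import Cfsg.Agent.TcData.HN.I1539000.Orb1
import Cfsg.Agent.TcData.HN.I1539000.Orb2
import Cfsg.Agent.TcData.HN.I1539000.Orb3
import Cfsg.Agent.TcData.HN.I1539000.Orb4
import Cfsg.Agent.TcData.HN.I1539000.Orb5
import Cfsg.Agent.TcData.HN.I1539000.Orb6
import Cfsg.Agent.TcData.HN.I1539000.Orb7
import Cfsg.Agent.TcData.HN.I1539000.Orb8
import Cfsg.Agent.Lib.HNOutData

/-!
# The action of the Harada-Norton group on the orbit of length `1408`: the checks on the full set of points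
-/

set_option autoImplicit false
set_option Elab.async false
set_option maxRecDepth 100000
set_option linter.all false

namespace Cfsg.Agent.Lib.HNOutBridge

open Cfsg.Spor Cfsg.Agent.Lib.TcFacts Cfsg.Agent.Lib.TcBits Cfsg.Agent.Lib.TcPres Cfsg.Spor.HN Cfsg.Agent.TcData.HN Cfsg.Agent.TcData.HN.I1539000 Cfsg.Agent.Lib.HNOutData Cfsg.Agent.Lib.PermChain12

/-- Equality of truth values. -/
def bEq (a b : Bool) : Bool := cond a b (not b)

theorem bEq_spec {a b : Bool} (h : bEq a b = true) : a = b := by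
  cases a <;> cases b <;> simp_all [bEq]

/-- The masks of the orbits. -/
noncomputable def Om (l : ℕ) : ℕ :=
  cond (Nat.beq l 0) 1 (cond (Nat.beq l 1) O1 (cond (Nat.beq l 2) O2 (cond (Nat.beq l 3) O3 (cond (Nat.beq l 4) O4
    (cond (Nat.beq l 5) O5 (cond (Nat.beq l 6) O6 (cond (Nat.beq l 7) O7 O8)))))))

theorem gen_x_chk : allB 21 5 (fun j => force (Nat.land (progApply (pr .x) (slice 21 j)) (2 ^ 37251 - 1)) fun Y =>
    allB 1408 11 (fun q => and (Nat.ble (Nat.succ (pts q)) 37251) (bEq (Y.testBit (pts q)) ((pts (tb 0 q)).testBit j)))) = true := by decide +kernel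

theorem gen_y_chk : allB 21 5 (fun j => force (Nat.land (progApply (pr .y) (slice 21 j)) (2 ^ 37251 - 1)) fun Y =>
    allB 1408 11 (fun q => and (Nat.ble (Nat.succ (pts q)) 37251) (bEq (Y.testBit (pts q)) ((pts (tb 2 q)).testBit j)))) = true := by decide +kernel

theorem gen_z_chk : allB 21 5 (fun j => force (Nat.land (progApply (pr .z) (slice 21 j)) (2 ^ 37251 - 1)) fun Y =>
    allB 1408 11 (fun q => and (Nat.ble (Nat.succ (pts q)) 37251) (bEq (Y.testBit (pts q)) ((pts (tb 4 q)).testBit j)))) = true := by decide +kernel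

theorem lab_chk : allB 9 4 (fun l => force (Nat.land (wordApply (sgnProg pr) [(Gen.t, false)] (Om l)) (2 ^ 37251 - 1)) fun Y =>
    allB 1408 11 (fun q => and (Nat.ble (Nat.succ (L0 q)) 9) (or (not (Nat.beq (L0 q) l)) (Y.testBit (pts q))))) = true := by decide +kernel

theorem cl1_chk : ∀ s ∈ [(x : FreeGroup Gen), y, z], wordApply (sgnProg pr) s.toWord O1 = O1 := by decide +kernel

theorem cl2_chk : ∀ s ∈ [(x : FreeGroup Gen), y, z], wordApply (sgnProg pr) s.toWord O2 = O2 := by decide +kernel

theorem cl3_chk : ∀ s ∈ [(x : FreeGroup Gen), y, z], wordApply (sgnProg pr) s.toWord O3 = O3 := by decide +kernel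

theorem cl4_chk : ∀ s ∈ [(x : FreeGroup Gen), y, z], wordApply (sgnProg pr) s.toWord O4 = O4 := by decide +kernel

theorem cl5_chk : ∀ s ∈ [(x : FreeGroup Gen), y, z], wordApply (sgnProg pr) s.toWord O5 = O5 := by decide +kernel

theorem cl6_chk : ∀ s ∈ [(x : FreeGroup Gen), y, z], wordApply (sgnProg pr) s.toWord O6 = O6 := by decide +kernel

theorem cl7_chk : ∀ s ∈ [(x : FreeGroup Gen), y, z], wordApply (sgnProg pr) s.toWord O7 = O7 := by decide +kernel

theorem cl8_chk : ∀ s ∈ [(x : FreeGroup Gen), y, z], wordApply (sgnProg pr) s.toWord O8 = O8 := by decide +kernel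

theorem cover_chk : Nat.lor (Nat.lor (Nat.lor (Nat.lor (Nat.lor (Nat.lor (Nat.lor (Nat.lor 1 O1) O2) O3) O4) O5) O6) O7) O8 = 2 ^ 1539000 - 1 := by decide +kernel

theorem pt_chk1 : (wordApply (sgnProg pr) (t : FreeGroup Gen).toWord (2 ^ 2)).testBit 0 = true := by decide +kernel

theorem pt_chk2 : (wordApply (sgnProg pr) (t * t : FreeGroup Gen).toWord (2 ^ pts 1)).testBit 0 = true := by decide +kernel

theorem pt_chk3 : (wordApply (sgnProg pr) (t * (x * x) * t⁻¹ : FreeGroup Gen).toWord 1).testBit 0 = false := by decide +kernel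

theorem pts0_chk : pts 0 = 2 := by decide +kernel

theorem pts1_chk : pts 1 ≠ 0 := by decide +kernel

theorem cl0_chk : ∀ s ∈ [(x : FreeGroup Gen), y, z], wordApply (sgnProg pr) s.toWord 1 = 1 := by decide +kernel

theorem hO1_chk : O1.testBit (pts 0) = true := by decide +kernel

theorem card0_chk : Cfsg.Agent.Lib.TcLevels.popC 21 1 = 1 := by decide +kernel

theorem so1_chk : O1.testBit 1 = true := by decide +kernel

theorem lt1_chk : O1 < 2 ^ 2 ^ 21 := by decide +kernel

theorem so2_chk : O2.testBit 11 = true := by decide +kernel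

theorem lt2_chk : O2 < 2 ^ 2 ^ 21 := by decide +kernel

theorem so3_chk : O3.testBit 17 = true := by decide +kernel

theorem lt3_chk : O3 < 2 ^ 2 ^ 21 := by decide +kernel

theorem so4_chk : O4.testBit 119 = true := by decide +kernel

theorem lt4_chk : O4 < 2 ^ 2 ^ 21 := by decide +kernel

theorem so5_chk : O5.testBit 207 = true := by decide +kernel

theorem lt5_chk : O5 < 2 ^ 2 ^ 21 := by decide +kernel

theorem so6_chk : O6.testBit 538 = true := by decide +kernel

theorem lt6_chk : O6 < 2 ^ 2 ^ 21 := by decide +kernel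

theorem so7_chk : O7.testBit 3796 = true := by decide +kernel

theorem lt7_chk : O7 < 2 ^ 2 ^ 21 := by decide +kernel

theorem so8_chk : O8.testBit 6967 = true := by decide +kernel

theorem lt8_chk : O8 < 2 ^ 2 ^ 21 := by decide +kernel

theorem x4_0 : chkW ((x : FreeGroup Gen) ^ 4) 0 = true := by decide +kernel

theorem x4_1 : chkW ((x : FreeGroup Gen) ^ 4) 1 = true := by decide +kernel

theorem x4_2 : chkW ((x : FreeGroup Gen) ^ 4) 2 = true := by decide +kernel

theorem x4_3 : chkW ((x : FreeGroup Gen) ^ 4) 3 = true := by decide +kernel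

theorem x4_4 : chkW ((x : FreeGroup Gen) ^ 4) 4 = true := by decide +kernel

theorem x4_5 : chkW ((x : FreeGroup Gen) ^ 4) 5 = true := by decide +kernel

theorem x4_6 : chkW ((x : FreeGroup Gen) ^ 4) 6 = true := by decide +kernel

theorem x4_7 : chkW ((x : FreeGroup Gen) ^ 4) 7 = true := by decide +kernel

theorem x4_8 : chkW ((x : FreeGroup Gen) ^ 4) 8 = true := by decide +kernel

theorem x4_9 : chkW ((x : FreeGroup Gen) ^ 4) 9 = true := by decide +kernel

theorem x4_10 : chkW ((x : FreeGroup Gen) ^ 4) 10 = true := by decide +kernel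

theorem x4_11 : chkW ((x : FreeGroup Gen) ^ 4) 11 = true := by decide +kernel

theorem x4_12 : chkW ((x : FreeGroup Gen) ^ 4) 12 = true := by decide +kernel

theorem x4_13 : chkW ((x : FreeGroup Gen) ^ 4) 13 = true := by decide +kernel

theorem x4_14 : chkW ((x : FreeGroup Gen) ^ 4) 14 = true := by decide +kernel

theorem x4_15 : chkW ((x : FreeGroup Gen) ^ 4) 15 = true := by decide +kernel

theorem x4_16 : chkW ((x : FreeGroup Gen) ^ 4) 16 = true := by decide +kernel

theorem x4_17 : chkW ((x : FreeGroup Gen) ^ 4) 17 = true := by decide +kernel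

theorem x4_18 : chkW ((x : FreeGroup Gen) ^ 4) 18 = true := by decide +kernel

theorem x4_19 : chkW ((x : FreeGroup Gen) ^ 4) 19 = true := by decide +kernel

theorem x4_20 : chkW ((x : FreeGroup Gen) ^ 4) 20 = true := by decide +kernel

theorem r14_0 : chkW ((z * x * x * (t * t) : FreeGroup Gen) ^ 3) 0 = true := by decide +kernel

theorem r14_1 : chkW ((z * x * x * (t * t) : FreeGroup Gen) ^ 3) 1 = true := by decide +kernel

theorem r14_2 : chkW ((z * x * x * (t * t) : FreeGroup Gen) ^ 3) 2 = true := by decide +kernel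

theorem r14_3 : chkW ((z * x * x * (t * t) : FreeGroup Gen) ^ 3) 3 = true := by decide +kernel

theorem r14_4 : chkW ((z * x * x * (t * t) : FreeGroup Gen) ^ 3) 4 = true := by decide +kernel

theorem r14_5 : chkW ((z * x * x * (t * t) : FreeGroup Gen) ^ 3) 5 = true := by decide +kernel

theorem r14_6 : chkW ((z * x * x * (t * t) : FreeGroup Gen) ^ 3) 6 = true := by decide +kernel

theorem r14_7 : chkW ((z * x * x * (t * t) : FreeGroup Gen) ^ 3) 7 = true := by decide +kernel

theorem r14_8 : chkW ((z * x * x * (t * t) : FreeGroup Gen) ^ 3) 8 = true := by decide +kernel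

theorem r14_9 : chkW ((z * x * x * (t * t) : FreeGroup Gen) ^ 3) 9 = true := by decide +kernel

theorem r14_10 : chkW ((z * x * x * (t * t) : FreeGroup Gen) ^ 3) 10 = true := by decide +kernel

theorem r14_11 : chkW ((z * x * x * (t * t) : FreeGroup Gen) ^ 3) 11 = true := by decide +kernel

theorem r14_12 : chkW ((z * x * x * (t * t) : FreeGroup Gen) ^ 3) 12 = true := by decide +kernel

theorem r14_13 : chkW ((z * x * x * (t * t) : FreeGroup Gen) ^ 3) 13 = true := by decide +kernel

theorem r14_14 : chkW ((z * x * x * (t * t) : FreeGroup Gen) ^ 3) 14 = true := by decide +kernel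

theorem r14_15 : chkW ((z * x * x * (t * t) : FreeGroup Gen) ^ 3) 15 = true := by decide +kernel

theorem r14_16 : chkW ((z * x * x * (t * t) : FreeGroup Gen) ^ 3) 16 = true := by decide +kernel

theorem r14_17 : chkW ((z * x * x * (t * t) : FreeGroup Gen) ^ 3) 17 = true := by decide +kernel

theorem r14_18 : chkW ((z * x * x * (t * t) : FreeGroup Gen) ^ 3) 18 = true := by decide +kernel

theorem r14_19 : chkW ((z * x * x * (t * t) : FreeGroup Gen) ^ 3) 19 = true := by decide +kernel

theorem r14_20 : chkW ((z * x * x * (t * t) : FreeGroup Gen) ^ 3) 20 = true := by decide +kernel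

end Cfsg.Agent.Lib.HNOutBridge
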