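import Mathlib
import Cfsg.Agent.Lib.PermChain12
import Cfsg.Agent.Lib.TcBits

/-!
# Automorphisms of a group acting on the conjugates of an involution

Let `G` act on points with `H`, the stabilizer of the point `0`, the centralizer of an involution `j`.
An automorphism fixing `j` acts on the points by `g 0 ↦ α g 0`, and preserves the orbits of `H`
when these have different sizes.
-/

set_option autoImplicit false

namespace Cfsg.Agent.Lib.HNOutCore

variable {G : Type*} [Group G]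

/-- The stabilizer of the point `0` is the centralizer of `j`. -/
structure Sx (Φ : G →* Equiv.Perm ℕ) (H : Subgroup G) (j : G) : Prop where
  stab : ∀ g, Φ g 0 = 0 ↔ g ∈ H
  cent : ∀ g, g ∈ H ↔ g * j = j * g

section hat

variable {Φ : G →* Equiv.Perm ℕ} {H : Subgroup G} {j : G}

theorem Phi_mul (c d : G) (p : ℕ) : Φ (c * d) p = Φ c (Φ d p) := by
  rw [map_mul, Equiv.Perm.mul_apply]

theorem Phi_inv_self (c : G) (p : ℕ) : Φ c⁻¹ (Φ c p) = p := by
  rw [← Phi_mul, inv_mul_cancel, map_one, Equiv.Perm.one_apply]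

theorem Phi_self_inv (c : G) (p : ℕ) : Φ c (Φ c⁻¹ p) = p := by
  rw [← Phi_mul, mul_inv_cancel, map_one, Equiv.Perm.one_apply]

theorem Phi_eq_inv {c : G} {p q : ℕ} (h : Φ c p = q) : Φ c⁻¹ q = p := by
  rw [← h, Phi_inv_self]

theorem Sx.mem_of_eq (S : Sx Φ H j) {a b : G} (h : Φ a 0 = Φ b 0) : b⁻¹ * a ∈ H := by
  rw [← S.stab, Phi_mul, h, Phi_inv_self]

/-- An automorphism fixing `j` preserves `H`. -/
theorem Sx.aut_mem (S : Sx Φ H j) {α : MulAut G} (hα : α j = j) {h : G} (hh : h ∈ H) : α h ∈ H := by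
  rw [S.cent] at hh ⊢
  have := congrArg α hh
  rwa [map_mul, map_mul, hα] at this

theorem inv_fix {α : MulAut G} (hα : α j = j) : α⁻¹ j = j := by
  rw [MulAut.inv_def]
  exact α.symm_apply_eq.mpr hα.symm

/-- A chosen element moving `0` to a point. -/
noncomputable def gOf (Φ : G →* Equiv.Perm ℕ) (i : ℕ) : G :=
  open Classical in if h : ∃ g, Φ g 0 = i then h.choose else 1

theorem gOf_spec (g : G) : Φ (gOf Φ (Φ g 0)) 0 = Φ g 0 := by
  have h : ∃ g', Φ g' 0 = Φ g 0 := ⟨g, rfl⟩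
  rw [gOf, dif_pos h]
  exact h.choose_spec

/-- The action of an automorphism on the points. -/
noncomputable def hat (Φ : G →* Equiv.Perm ℕ) (α : MulAut G) (i : ℕ) : ℕ := Φ (α (gOf Φ i)) 0

theorem Sx.hat_mk (S : Sx Φ H j) {α : MulAut G} (hα : α j = j) (g : G) :
    hat Φ α (Φ g 0) = Φ (α g) 0 := by
  have h1 : g⁻¹ * gOf Φ (Φ g 0) ∈ H := S.mem_of_eq (gOf_spec g)
  have h2 := S.aut_mem hα h1
  rw [map_mul, map_inv] at h2
  have h3 := (S.stab _).mpr h2
  rw [Phi_mul] at h3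
  have h4 := Phi_eq_inv (c := (α g)⁻¹) h3
  rw [inv_inv] at h4
  rw [hat]
  exact h4.symm

theorem Sx.hat_smul (S : Sx Φ H j) {α : MulAut G} (hα : α j = j) (c g : G) :
    hat Φ α (Φ c (Φ g 0)) = Φ (α c) (hat Φ α (Φ g 0)) := by
  rw [← Phi_mul, S.hat_mk hα, S.hat_mk hα, map_mul, Phi_mul]

theorem Sx.hat_comp (S : Sx Φ H j) {α β : MulAut G} (hα : α j = j) (hβ : β j = j) (g : G) :
    hat Φ (β * α) (Φ g 0) = hat Φ β (hat Φ α (Φ g 0)) := by
  have h : (β * α) j = j := by rw [MulAut.mul_apply, hα, hβ]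
  rw [S.hat_mk h, S.hat_mk hα, S.hat_mk hβ, MulAut.mul_apply]

theorem Sx.conj_fix (S : Sx Φ H j) {c : G} (hc : c ∈ H) : MulAut.conj c j = j := by
  rw [MulAut.conj_apply, (S.cent c).mp hc, mul_inv_cancel_right]

theorem Sx.hat_conj (S : Sx Φ H j) {c : G} (hc : c ∈ H) (g : G) :
    hat Φ (MulAut.conj c) (Φ g 0) = Φ c (Φ g 0) := by
  rw [S.hat_mk (S.conj_fix hc), MulAut.conj_apply, Phi_mul, Phi_mul,
    (S.stab c⁻¹).mpr (H.inv_mem hc)]

theorem Sx.hat_inj (S : Sx Φ H j) {α : MulAut G} (hα : α j = j) {g g' : G}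
    (h : hat Φ α (Φ g 0) = hat Φ α (Φ g' 0)) : Φ g 0 = Φ g' 0 := by
  rw [S.hat_mk hα, S.hat_mk hα] at h
  have h1 := S.mem_of_eq h
  have h2 := S.aut_mem (inv_fix hα) h1
  rw [map_mul, map_inv, MulAut.inv_apply_self, MulAut.inv_apply_self] at h2
  have h3 := (S.stab _).mpr h2
  rw [Phi_mul] at h3
  have h4 := Phi_eq_inv (c := g'⁻¹) h3
  rw [inv_inv] at h4
  exact h4.symm

/-- The inverse on points. -/
theorem Sx.hat_inv_apply (S : Sx Φ H j) {α : MulAut G} (hα : α j = j) (g : G) :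
    hat Φ α⁻¹ (hat Φ α (Φ g 0)) = Φ g 0 := by
  rw [S.hat_mk hα, S.hat_mk (inv_fix hα), MulAut.inv_apply_self]

/-- The orbits of `H` given by masks, of different sizes. -/
structure Mx (Φ : G →* Equiv.Perm ℕ) (H : Subgroup G) (Om c : ℕ → ℕ) : Prop where
  closed : ∀ ℓ, ℓ < 9 → ∀ h ∈ H, ∀ i, (Om ℓ).testBit (Φ h i) = (Om ℓ).testBit i
  sound : ∀ ℓ, ℓ < 9 → ∃ p, (∃ g, Φ g 0 = p) ∧ (Om ℓ).testBit p = true ∧
    ∀ i, (Om ℓ).testBit i = true → ∃ h ∈ H, Φ h p = i
  cover : ∀ g, ∃ ℓ, ℓ < 9 ∧ (Om ℓ).testBit (Φ g 0) = true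
  card : ∀ ℓ, ℓ < 9 → {i | (Om ℓ).testBit i = true}.ncard = c ℓ
  cinj : ∀ ℓ ℓ', ℓ < 9 → ℓ' < 9 → c ℓ = c ℓ' → ℓ = ℓ'

variable {Om c : ℕ → ℕ}

theorem Mx.mem_iff (M : Mx Φ H Om c) {ℓ : ℕ} (hℓ : ℓ < 9) {i : ℕ} (hi : (Om ℓ).testBit i = true) (i' : ℕ) :
    (Om ℓ).testBit i' = true ↔ ∃ h ∈ H, Φ h i = i' := by
  obtain ⟨p, -, -, hs⟩ := M.sound ℓ hℓ
  constructor
  · intro h'
    obtain ⟨h1, h1m, rfl⟩ := hs _ hi
    obtain ⟨h2, h2m, rfl⟩ := hs _ h'
    exact ⟨h2 * h1⁻¹, H.mul_mem h2m (H.inv_mem h1m), by rw [Phi_mul, Phi_inv_self]⟩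
  · rintro ⟨h, hm, rfl⟩
    rw [M.closed ℓ hℓ h hm, hi]

theorem Mx.disj (M : Mx Φ H Om c) {ℓ ℓ' i : ℕ} (hℓ : ℓ < 9) (hℓ' : ℓ' < 9) (h1 : (Om ℓ).testBit i = true)
    (h2 : (Om ℓ').testBit i = true) : ℓ = ℓ' := by
  apply M.cinj ℓ ℓ' hℓ hℓ'
  rw [← M.card ℓ hℓ, ← M.card ℓ' hℓ']
  congr 1
  ext i'
  simp only [Set.mem_ofPred_eq]
  rw [M.mem_iff hℓ h1, M.mem_iff hℓ' h2]

theorem Sx.hat_om (S : Sx Φ H j) (M : Mx Φ H Om c) {α : MulAut G} (hα : α j = j) {g : G} {ℓ : ℕ}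
    (hℓ : ℓ < 9) (h : (Om ℓ).testBit (Φ g 0) = true) : (Om ℓ).testBit (Φ (α g) 0) = true := by
  obtain ⟨ℓ', hℓ', h'⟩ := M.cover (α g)
  have e : ℓ' = ℓ := by
    apply M.cinj ℓ' ℓ hℓ' hℓ
    rw [← M.card ℓ hℓ, ← M.card ℓ' hℓ']
    have himg : {i | (Om ℓ').testBit i = true} = hat Φ α '' {i | (Om ℓ).testBit i = true} := by
      ext i'
      simp only [Set.mem_ofPred_eq, Set.mem_image]
      constructor
      · intro hi'
        obtain ⟨h1, h1m, rfl⟩ := (M.mem_iff hℓ' h' i').mp hi'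
        have h2 : α⁻¹ h1 ∈ H := S.aut_mem (inv_fix hα) h1m
        refine ⟨Φ (α⁻¹ h1) (Φ g 0), ?_, ?_⟩
        · exact (M.mem_iff hℓ h _).mpr ⟨_, h2, rfl⟩
        · rw [S.hat_smul hα, S.hat_mk hα, MulAut.apply_inv_self]
      · rintro ⟨i, hi, rfl⟩
        obtain ⟨h1, h1m, rfl⟩ := (M.mem_iff hℓ h i).mp hi
        rw [S.hat_smul hα, S.hat_mk hα]
        exact (M.mem_iff hℓ' h' _).mpr ⟨_, S.aut_mem hα h1m, rfl⟩
    rw [himg]
    apply Set.InjOn.ncard_image
    intro a ha b hb hab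
    obtain ⟨h1, -, rfl⟩ := (M.mem_iff hℓ h a).mp ha
    obtain ⟨h2, -, rfl⟩ := (M.mem_iff hℓ h b).mp hb
    rw [← Phi_mul, ← Phi_mul] at hab ⊢
    exact S.hat_inj hα hab
  rw [← e]
  exact h'

/-- Preservation of the labels. -/
theorem Sx.lab_gen (S : Sx Φ H j) (M : Mx Φ H Om c) {α : MulAut G} (hα : α j = j) {A B g : G}
    (hAB : Φ (α A) 0 = Φ B 0) {ℓ : ℕ} (hℓ : ℓ < 9) (h : (Om ℓ).testBit (Φ A⁻¹ (Φ g 0)) = true) :
    (Om ℓ).testBit (Φ B⁻¹ (Φ (α g) 0)) = true := by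
  rw [← Phi_mul] at h
  have h1 := S.hat_om M hα hℓ h
  have h2 := S.mem_of_eq hAB
  have e : B⁻¹ * α g = (B⁻¹ * α A) * α (A⁻¹ * g) := by
    rw [map_mul, map_inv]
    group
  rw [← Phi_mul, e, Phi_mul, M.closed ℓ hℓ _ h2, h1]

/-- An automorphism fixing the conjugates of `j` at an `H`-invariant set of points is trivial. -/
theorem Sx.eq_one_of_fix (S : Sx Φ H j) [IsSimpleGroup G] (hco : IsCoatom H) (P : Set ℕ)
    (hP : ∀ h ∈ H, ∀ p ∈ P, Φ h p ∈ P) {g₀ : G} (hg₀ : Φ g₀ 0 ∈ P) (hu : g₀ * j * g₀⁻¹ ∉ H)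
    {α : MulAut G} (hα : α j = j) (hfix : ∀ g, Φ g 0 ∈ P → Φ (α g) 0 = Φ g 0) : α = 1 := by
  classical
  set X : Set G := {u | ∃ g, Φ g 0 ∈ P ∧ u = g * j * g⁻¹} with hX
  set W : Subgroup G := Subgroup.closure X with hW
  have hconj : ∀ h ∈ H, ∀ w ∈ W, h * w * h⁻¹ ∈ W := by
    intro h hh w hw
    induction hw using Subgroup.closure_induction with
    | mem u hu' =>
      obtain ⟨g, hg, rfl⟩ := hu'
      apply Subgroup.subset_closure
      refine ⟨h * g, ?_, by group⟩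
      rw [Phi_mul]
      exact hP h hh _ hg
    | one => simp [W.one_mem]
    | mul a b _ _ ha hb =>
      have : h * (a * b) * h⁻¹ = (h * a * h⁻¹) * (h * b * h⁻¹) := by group
      rw [this]
      exact W.mul_mem ha hb
    | inv a _ ha =>
      have : h * a⁻¹ * h⁻¹ = (h * a * h⁻¹)⁻¹ := by group
      rw [this]
      exact W.inv_mem ha
  have hHn : H ≤ Subgroup.normalizer (W : Set G) := by
    intro h hh
    rw [Subgroup.mem_normalizer_iff]
    intro w
    constructor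
    · exact hconj h hh w
    · intro hw
      have := hconj h⁻¹ (H.inv_mem hh) _ hw
      have e : h⁻¹ * (h * w * h⁻¹) * h⁻¹⁻¹ = w := by group
      rwa [e] at this
  have huW : g₀ * j * g₀⁻¹ ∈ W := Subgroup.subset_closure ⟨g₀, hg₀, rfl⟩
  have hWn : W ≤ Subgroup.normalizer (W : Set G) := Subgroup.le_normalizer
  have hlt : H < Subgroup.normalizer (W : Set G) := by
    refine lt_of_le_of_ne hHn ?_
    intro e
    apply hu
    rw [e]
    exact hWn huW
  have htop : Subgroup.normalizer (W : Set G) = ⊤ := hco.2 _ hlt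
  have hnorm : W.Normal := Subgroup.normalizer_eq_top_iff.mp htop
  have hWtop : W = ⊤ := by
    rcases hnorm.eq_bot_or_eq_top with h0 | h0
    · exfalso
      apply hu
      rw [h0, Subgroup.mem_bot] at huW
      rw [huW]
      exact H.one_mem
    · exact h0
  have hall : ∀ w ∈ W, α w = w := by
    intro w hw
    induction hw using Subgroup.closure_induction with
    | mem u hu' =>
      obtain ⟨g, hg, rfl⟩ := hu'
      have h1 := S.mem_of_eq (hfix g hg)
      have h2 := (S.cent _).mp h1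
      have e1 : α g = g * (g⁻¹ * α g) := by group
      rw [map_mul, map_mul, map_inv, hα]
      have h3 : α g * j = g * j * (g⁻¹ * α g) := by
        calc α g * j = g * ((g⁻¹ * α g) * j) := by group
          _ = g * (j * (g⁻¹ * α g)) := by rw [h2]
          _ = _ := by group
      rw [h3]
      group
    | one => simp
    | mul a b _ _ ha hb => rw [map_mul, ha, hb]
    | inv a _ ha => rw [map_inv, ha]
  ext w
  rw [MulAut.one_apply]
  exact hall w (by rw [hWtop]; trivial)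

/-- A step of a stabilizer chain. -/
theorem card_step_G {Φ : G →* Equiv.Perm ℕ} {S S' : Subgroup G} [Finite G] (hle : S' ≤ S) {p : ℕ}
    (hfix : ∀ g ∈ S', Φ g p = p) {T : Finset ℕ} (hT : ∀ i ∈ T, ∃ g ∈ S, Φ g p = i) :
    T.card * Nat.card S' ≤ Nat.card S := by
  classical
  letI : MulAction S ℕ := MulAction.compHom ℕ (Φ.comp S.subtype)
  have hsmul : ∀ (g : S) (i : ℕ), g • i = Φ g.1 i := fun _ _ => rfl
  let St := MulAction.stabilizer S p
  have h1 : Nat.card St * St.index = Nat.card S := Subgroup.card_mul_index St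
  have h2 : St.index = (MulAction.orbit S p).ncard := MulAction.index_stabilizer S p
  have h3 : T.card ≤ (MulAction.orbit S p).ncard := by
    have hsub : (T : Set ℕ) ⊆ MulAction.orbit S p := by
      intro i hi
      obtain ⟨g, hg, rfl⟩ := hT i hi
      exact ⟨⟨g, hg⟩, rfl⟩
    have hfino : (MulAction.orbit S p).Finite := Set.finite_range _
    have := Set.ncard_le_ncard hsub hfino
    rwa [Set.ncard_coe_finset] at this
  have h4 : Nat.card S' ≤ Nat.card St := by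
    let f : S' → St := fun g => ⟨⟨g.1, hle g.2⟩, by
      show Φ g.1 p = p
      exact hfix g.1 g.2⟩
    have hf : Function.Injective f := by
      intro a b hab
      have := congrArg (fun x : St => ((x : S) : G)) hab
      exact Subtype.ext this
    exact Nat.card_le_card_of_injective f hf
  rw [← h1, h2, mul_comm]
  exact Nat.mul_le_mul h4 h3

/-- An element of order `p` fixing a point of an orbit. -/
theorem Mx.div_of_fix (M : Mx Φ H Om c) [Finite G] {ℓ i : ℕ} (hℓ : ℓ < 9) (hi : (Om ℓ).testBit i = true)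
    {b : G} (hb : b ∈ H) (hfix : Φ b i = i) : orderOf b * c ℓ ∣ Nat.card H := by
  classical
  letI : MulAction H ℕ := MulAction.compHom ℕ (Φ.comp H.subtype)
  have hsmul : ∀ (g : H) (k : ℕ), g • k = Φ g.1 k := fun _ _ => rfl
  let St := MulAction.stabilizer H i
  have h1 : Nat.card St * St.index = Nat.card H := Subgroup.card_mul_index St
  have h2 : St.index = (MulAction.orbit H i).ncard := MulAction.index_stabilizer H i
  have h3 : (MulAction.orbit H i).ncard = c ℓ := by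
    rw [← M.card ℓ hℓ]
    congr 1
    ext k
    simp only [Set.mem_ofPred_eq]
    rw [M.mem_iff hℓ hi]
    constructor
    · rintro ⟨⟨h, hh⟩, rfl⟩
      exact ⟨h, hh, rfl⟩
    · rintro ⟨h, hh, rfl⟩
      exact ⟨⟨h, hh⟩, rfl⟩
  have h4 : orderOf b ∣ Nat.card St := by
    let b' : St := ⟨⟨b, hb⟩, hfix⟩
    have e : orderOf b' = orderOf b := by
      have e1 : orderOf b' = orderOf (b' : H) := (Subgroup.orderOf_coe b').symm
      have e2 : orderOf (b' : H) = orderOf ((b' : H) : G) := (Subgroup.orderOf_coe (b' : H)).symm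
      rw [e1, e2]
    rw [← e]
    exact orderOf_dvd_natCard b'
  rw [← h1, h2, h3]
  exact Nat.mul_dvd_mul_right h4 _

end hat

end Cfsg.Agent.Lib.HNOutCore
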