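import Cfsg.Agent.Lib.HNBase
import Cfsg.Agent.Lib.HNOutW

/-!
# `Out` of the Harada-Norton group: the checks on 1539000 points
-/

set_option autoImplicit false
set_option maxRecDepth 100000
set_option Elab.async false

namespace Cfsg.Agent.Lib.HNOutG

open Cfsg.Spor Cfsg.Spor.HN Cfsg.Agent.Lib.TcFacts Cfsg.Agent.Lib.TcBits Cfsg.Agent.Lib.TcPres
  Cfsg.Agent.TcData.HN Cfsg.Agent.TcData.HN.I1539000 Cfsg.Agent.Lib.HNBase Cfsg.Agent.Lib.HNOutW

/-- a word fixing only the point `0` -/
theorem mask_a : Nat.lor (movedMask (wH wa)) 1 = 2 ^ 1539000 - 1 := by decide +kernel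

/-- the common fixed points of `y` and its conjugate -/
theorem mask_y : Nat.lor (movedMask (wH wy)) (Nat.lor (movedMask (wH wY2)) 31) = 2 ^ 1539000 - 1 := by decide +kernel

/-- the points of the orbit of `t` -/
theorem t1_img : imgAt [(Gen.t, true)] 2 0 = true := by decide +kernel
theorem t2_img : imgAt [(Gen.t, true), (Gen.t, true)] 3 0 = true := by decide +kernel
theorem t3_img : imgAt [(Gen.t, true), (Gen.t, true), (Gen.t, true)] 4 0 = true := by decide +kernel
theorem t4_img : imgAt [(Gen.t, true), (Gen.t, true), (Gen.t, true), (Gen.t, true)] 1 0 = true := by decide +kernel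

theorem t_moved : fixAt [(Gen.t, true)] 0 = false := by decide +kernel

/-- the word of `z t²` -/
def wzt2 : List (Gen × Bool) := [(Gen.z, true), (Gen.t, true), (Gen.t, true)]
/-- the word of `z t³` -/
def wzt3 : List (Gen × Bool) := [(Gen.z, true), (Gen.t, true), (Gen.t, true), (Gen.t, true)]

theorem zt2_moved : fixAt (wzt2 ++ wzt2 ++ wzt2) 0 = false := by decide +kernel
theorem zt3_moved : fixAt (wzt3 ++ wzt3 ++ wzt3) 0 = false := by decide +kernel

/-- the word of the last relator of the outer automorphism -/
def wSr : List (Gen × Bool) := [(Gen.z, true), (Gen.x, true), (Gen.x, true), (Gen.t, true), (Gen.t, true),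
  (Gen.z, true), (Gen.x, true), (Gen.x, true), (Gen.t, true), (Gen.t, true),
  (Gen.z, true), (Gen.x, true), (Gen.x, true), (Gen.t, true), (Gen.t, true)]

theorem sr0 : wordApply (sgnProg pr) wSr (slice 21 0) = slice 21 0 := by decide +kernel
theorem sr1 : wordApply (sgnProg pr) wSr (slice 21 1) = slice 21 1 := by decide +kernel
theorem sr2 : wordApply (sgnProg pr) wSr (slice 21 2) = slice 21 2 := by decide +kernel
theorem sr3 : wordApply (sgnProg pr) wSr (slice 21 3) = slice 21 3 := by decide +kernel
theorem sr4 : wordApply (sgnProg pr) wSr (slice 21 4) = slice 21 4 := by decide +kernel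
theorem sr5 : wordApply (sgnProg pr) wSr (slice 21 5) = slice 21 5 := by decide +kernel
theorem sr6 : wordApply (sgnProg pr) wSr (slice 21 6) = slice 21 6 := by decide +kernel
theorem sr7 : wordApply (sgnProg pr) wSr (slice 21 7) = slice 21 7 := by decide +kernel
theorem sr8 : wordApply (sgnProg pr) wSr (slice 21 8) = slice 21 8 := by decide +kernel
theorem sr9 : wordApply (sgnProg pr) wSr (slice 21 9) = slice 21 9 := by decide +kernel
theorem sr10 : wordApply (sgnProg pr) wSr (slice 21 10) = slice 21 10 := by decide +kernel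
theorem sr11 : wordApply (sgnProg pr) wSr (slice 21 11) = slice 21 11 := by decide +kernel
theorem sr12 : wordApply (sgnProg pr) wSr (slice 21 12) = slice 21 12 := by decide +kernel
theorem sr13 : wordApply (sgnProg pr) wSr (slice 21 13) = slice 21 13 := by decide +kernel
theorem sr14 : wordApply (sgnProg pr) wSr (slice 21 14) = slice 21 14 := by decide +kernel
theorem sr15 : wordApply (sgnProg pr) wSr (slice 21 15) = slice 21 15 := by decide +kernel
theorem sr16 : wordApply (sgnProg pr) wSr (slice 21 16) = slice 21 16 := by decide +kernel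
theorem sr17 : wordApply (sgnProg pr) wSr (slice 21 17) = slice 21 17 := by decide +kernel
theorem sr18 : wordApply (sgnProg pr) wSr (slice 21 18) = slice 21 18 := by decide +kernel
theorem sr19 : wordApply (sgnProg pr) wSr (slice 21 19) = slice 21 19 := by decide +kernel
theorem sr20 : wordApply (sgnProg pr) wSr (slice 21 20) = slice 21 20 := by decide +kernel

theorem srS : ∀ j, j < 21 → wordApply (sgnProg pr) wSr (slice 21 j) = slice 21 j := by
  intro j hj
  interval_cases j
  · exact sr0
  · exact sr1
  · exact sr2
  · exact sr3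
  · exact sr4
  · exact sr5
  · exact sr6
  · exact sr7
  · exact sr8
  · exact sr9
  · exact sr10
  · exact sr11
  · exact sr12
  · exact sr13
  · exact sr14
  · exact sr15
  · exact sr16
  · exact sr17
  · exact sr18
  · exact sr19
  · exact sr20

end Cfsg.Agent.Lib.HNOutG
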