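import Cfsg.Agent.Lib.HNOutP
import Cfsg.Agent.Lib.HNBase
import Cfsg.Agent.Lib.PresBridge

/-!
# `Out` of the Harada-Norton group: the subgroup `2.HS:2` is the group on 1508 points
-/

set_option autoImplicit false
set_option maxRecDepth 100000

namespace Cfsg.Agent.Lib.HNOutH

noncomputable section

open Cfsg.Agent.Lib.PermChain Cfsg.Agent.Lib.ProgChain Cfsg.Agent.Lib.SparseDfs
  Cfsg.Agent.Lib.SparseDfs2 Cfsg.Agent.Lib.SparseDfs3 Cfsg.Agent.Lib.HNLMain
  Cfsg.Agent.Lib.HNOutL Cfsg.Agent.Lib.HNOutT Cfsg.Agent.Lib.HNBase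
open Cfsg.Spor Cfsg.Spor.HN Cfsg.Agent.TcData.HN Cfsg.Agent.TcData.HN.I1539000
  Cfsg.Agent.Lib.TcPres Cfsg.Agent.Lib.TcRel Cfsg.Agent.Lib.TcAbs

local notation "P1508" => Equiv.Perm (Fin 1508)

/-- the letters of a signed generator -/
def wL : Gen × Bool → List ℕ
  | (.x, true) => [0]
  | (.x, false) => [1]
  | (.y, true) => [2]
  | (.y, false) => [3]
  | (.z, _) => [4]
  | (.t, _) => []

/-- the letters of a word -/
def expL (L : List (Gen × Bool)) : List ℕ := L.flatMap wL

/-- the values on the generators -/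
def fL (x : Gen) : P1508 := prodW g (wL (x, true))

theorem inv01 : eqW [0, 1] [] = true := by decide +kernel
theorem inv23 : eqW [2, 3] [] = true := by decide +kernel
theorem inv44 : eqW [4, 4] [] = true := by decide +kernel

theorem fL_letter (p : Gen × Bool) : cond p.2 (fL p.1) (fL p.1)⁻¹ = prodW g (wL p) := by
  have h : ∀ {u v : List ℕ}, eqW (u ++ v) [] = true → (prodW g u)⁻¹ = prodW g v := by
    intro u v h
    have h1 := eq_of_eqW h
    rw [prodW_append, prodW_nil] at h1
    exact inv_eq_of_mul_eq_one_right h1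
  obtain ⟨x, b⟩ := p
  cases x <;> cases b
  · exact h inv01
  · rfl
  · exact h inv23
  · rfl
  · exact h inv44
  · rfl
  · show (fL Gen.t)⁻¹ = _
    simp [fL, wL, prodW_nil]
  · rfl

theorem lift_fL (L : List (Gen × Bool)) : FreeGroup.lift fL (FreeGroup.mk L) = prodW g (expL L) := by
  rw [FreeGroup.lift_mk]
  induction L with
  | nil => rfl
  | cons a L ih =>
    have h1 : expL (a :: L) = wL a ++ expL L := List.flatMap_cons ..
    rw [h1, prodW_append, List.map_cons, List.prod_cons, ih, fL_letter]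

/-- the relators of the subgroup hold in the group on 1508 points -/
theorem relsL : ∀ r ∈ Cfsg.Agent.TcData.HNH.extraH, eqW (expL r.toWord) [] = true := by decide +kernel

theorem hrelL : ∀ r ∈ Cfsg.Agent.TcData.HNH.RR, FreeGroup.lift fL r = 1 := by
  rintro r (⟨x, hx, y, hy, rfl⟩ | hr)
  · simp [coxNodes, edges] at hx
  · rw [← FreeGroup.mk_toWord (x := r), lift_fL, eq_of_eqW (relsL r hr)]
    rfl

/-- the map from the group presented by the relators of the subgroup -/
def psiL : PresentedGroup Cfsg.Agent.TcData.HNH.RR →* P1508 := PresentedGroup.toGroup hrelL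

theorem psiL_mk (r : FreeGroup Gen) : psiL (PresentedGroup.mk Cfsg.Agent.TcData.HNH.RR r) = FreeGroup.lift fL r := rfl

theorem expL_wH (w : List ℕ) (hw : ∀ i ∈ w, i < 5) : expL (wH w) = w := by
  induction w with
  | nil => rfl
  | cons i w ih =>
    have h1 := ih (fun j hj => hw j (List.mem_cons_of_mem _ hj))
    have h2 : wH (i :: w) = gOf i :: wH w := rfl
    rw [h2]
    have h3 : expL (gOf i :: wH w) = wL (gOf i) ++ expL (wH w) := List.flatMap_cons ..
    rw [h3, h1]
    have hi := hw i List.mem_cons_self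
    interval_cases i <;> rfl

theorem psiL_wH (w : List ℕ) (hw : ∀ i ∈ w, i < 5) :
    psiL (PresentedGroup.mk Cfsg.Agent.TcData.HNH.RR (FreeGroup.mk (wH w))) = prodW g w := by
  rw [psiL_mk, lift_fL, expL_wH w hw]

theorem hcard_H : Nat.card (subOf RR Cfsg.Agent.TcData.HNH.Ch.SLt) = 177408000 := by
  rw [← Cfsg.Agent.TcData.HN.Fin.hHH]
  exact Cfsg.Agent.TcData.HN.Fin.cardH

theorem exists_theta : ∃ θ : HH →* P1508, Function.Injective θ ∧ (∀ u, θ u ∈ GG) ∧ (∀ v, ∃ u, θ u = v ∨ v ∉ GG) ∧
    ∀ w : List ℕ, (∀ i ∈ w, i < 5) → θ ⟨elt (wH w), elt_wH_mem w⟩ = prodW g w := by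
  obtain ⟨θ₀, hθ₀⟩ := exists_hom hRHRR Cfsg.Agent.TcData.HNH.Ch.SLt Cfsg.Agent.TcData.HNH.Fin.up
    (by rw [hcard_H]) psiL
  let θ : HH →* P1508 := θ₀.comp (MulEquiv.subgroupCongr Cfsg.Agent.TcData.HN.Fin.hHH).toMonoidHom
  have hval : ∀ w : List ℕ, (∀ i ∈ w, i < 5) → θ ⟨elt (wH w), elt_wH_mem w⟩ = prodW g w := by
    intro w hw
    have hL : ∀ p ∈ wH w, p.1 ∈ Cfsg.Agent.TcData.HNH.Ch.SLt := by
      intro p hp
      rw [wH, List.mem_map] at hp
      obtain ⟨i, hi, rfl⟩ := hp
      have := hw i hi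
      interval_cases i <;> decide
    have hk : PresentedGroup.mk Cfsg.Agent.TcData.HNH.RR (FreeGroup.mk (wH w)) ∈
        subOf Cfsg.Agent.TcData.HNH.RR Cfsg.Agent.TcData.HNH.Ch.SLt := mk_mem_subOf hL
    have hk' : piOf hRHRR (PresentedGroup.mk Cfsg.Agent.TcData.HNH.RR (FreeGroup.mk (wH w))) ∈
        subOf RR Cfsg.Agent.TcData.HNH.Ch.SLt := by
      rw [← map_subOf hRHRR Cfsg.Agent.TcData.HNH.Ch.SLt]
      exact Subgroup.mem_map_of_mem _ hk
    have h1 := hθ₀ _ hk hk'
    rw [psiL_wH w hw] at h1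
    rw [← h1]
    show θ₀ _ = θ₀ _
    congr 1
    apply Subtype.ext
    exact (piOf_mk hRHRR _).symm
  -- the values on the generators
  have hgen : ∀ i, i < 5 → θ ⟨elt (wH [i]), elt_wH_mem [i]⟩ = g i := by
    intro i hi
    have := hval [i] (by simpa using hi)
    rw [this, prodW_cons, prodW_nil, mul_one]
  -- the image lies in the group
  have hmem : ∀ u, θ u ∈ GG := by
    let Q : Subgroup HH := GG.comap θ
    have h1 : HH ≤ Q.map HH.subtype := by
      show (Subgroup.closure SS).map (PresentedGroup.mk RR) ≤ _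
      rw [Subgroup.map_le_iff_le_comap, Subgroup.closure_le]
      intro s hs
      have hs' : PresentedGroup.mk RR s ∈ HH := Subgroup.mem_map_of_mem _ (Subgroup.subset_closure hs)
      refine ⟨⟨_, hs'⟩, ?_, rfl⟩
      show θ ⟨_, hs'⟩ ∈ GG
      simp only [SS, Set.mem_insert_iff, Set.mem_singleton_iff] at hs
      rcases hs with rfl | rfl | rfl
      · exact hgen 0 (by norm_num) ▸ lev0.1 0 (Nat.zero_le _)
      · exact hgen 2 (by norm_num) ▸ lev0.1 2 (Nat.zero_le _)
      · exact hgen 4 (by norm_num) ▸ lev0.1 4 (Nat.zero_le _)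
    intro u
    obtain ⟨v, hv, hv2⟩ := h1 u.2
    have : v = u := Subtype.ext hv2
    rw [← this]
    exact hv
  -- surjectivity
  let θ' : HH →* GG := θ.codRestrict GG hmem
  have h2 : (θ.range) = GG := by
    apply le_antisymm
    · rintro _ ⟨u, rfl⟩
      exact hmem u
    · show Subgroup.closure _ ≤ _
      rw [Subgroup.closure_le]
      rintro _ ⟨e, he, rfl⟩
      have he5 : e < 5 := by
        have := (List.mem_range'_1.mp he).2
        simpa using this
      exact ⟨_, hgen e he5⟩
  have hsurj : Function.Surjective θ' := by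
    rintro ⟨z, hz⟩
    rw [← h2] at hz
    obtain ⟨u, hu⟩ := hz
    exact ⟨u, Subtype.ext hu⟩
  have hfinH : Finite HH := inferInstance
  have hcard : Nat.card HH = Nat.card GG := by
    rw [cardH0]
    exact Cfsg.Agent.TcData.HN.Fin.cardH
  have hb : Function.Bijective θ' := (Nat.bijective_iff_surjective_and_card θ').mpr ⟨hsurj, hcard⟩
  refine ⟨θ, ?_, hmem, ?_, hval⟩
  · intro u v huv
    apply hb.1
    exact Subtype.ext huv
  · intro v
    by_cases hv : v ∈ GG
    · obtain ⟨u, hu⟩ := hsurj ⟨v, hv⟩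
      exact ⟨u, Or.inl (congrArg Subtype.val hu)⟩
    · exact ⟨1, Or.inr hv⟩

/-- the isomorphism of the subgroup with its action on 1508 points -/
def theta : HH →* P1508 := Classical.choose exists_theta

theorem theta_inj : Function.Injective theta := (Classical.choose_spec exists_theta).1
theorem theta_mem (u : HH) : theta u ∈ GG := (Classical.choose_spec exists_theta).2.1 u
theorem theta_surj {v : P1508} (hv : v ∈ GG) : ∃ u, theta u = v := by
  obtain ⟨u, hu⟩ := (Classical.choose_spec exists_theta).2.2.1 v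
  exact ⟨u, hu.resolve_right (fun h => h hv)⟩
theorem theta_wH (w : List ℕ) (hw : ∀ i ∈ w, i < 5) : theta ⟨elt (wH w), elt_wH_mem w⟩ = prodW g w :=
  (Classical.choose_spec exists_theta).2.2.2 w hw

/-- the isomorphism, as a map to the group -/
def thetaE : HH ≃* GG :=
  MulEquiv.ofBijective (theta.codRestrict GG theta_mem)
    ⟨fun u v h => theta_inj (congrArg Subtype.val h), fun v => by
      obtain ⟨u, hu⟩ := theta_surj v.2
      exact ⟨u, Subtype.ext hu⟩⟩

theorem thetaE_val (u : HH) : ((thetaE u : GG) : P1508) = theta u := rfl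

/-- the letters are those of the generators of the subgroup -/
def small (w : List ℕ) : Bool := w.all fun i => Nat.ble (Nat.succ i) 5

theorem small_spec {w : List ℕ} (h : small w = true) : ∀ i ∈ w, i < 5 := by
  intro i hi
  have := (List.all_eq_true.mp h) i hi
  exact Nat.le_of_ble_eq_true this

/-- equalities of words of the subgroup are checked on 1508 points -/
theorem elt_eq_of_eqW {w₁ w₂ : List ℕ} (h : eqW w₁ w₂ = true) (h₁ : small w₁ = true) (h₂ : small w₂ = true) :
    elt (wH w₁) = elt (wH w₂) := by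
  have h3 : (⟨elt (wH w₁), elt_wH_mem w₁⟩ : HH) = ⟨elt (wH w₂), elt_wH_mem w₂⟩ := theta_inj (by
    rw [theta_wH _ (small_spec h₁), theta_wH _ (small_spec h₂)]
    exact eq_of_eqW h)
  exact congrArg Subtype.val h3

/-- inequalities of words of the subgroup are checked on 1508 points -/
theorem elt_ne_one {w : List ℕ} (h : prodW g w ≠ 1) (h₁ : small w = true) : elt (wH w) ≠ 1 := by
  intro h2
  apply h
  rw [← theta_wH _ (small_spec h₁)]
  have h3 : (⟨elt (wH w), elt_wH_mem w⟩ : HH) = 1 := Subtype.ext h2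
  rw [h3, map_one]

end

end Cfsg.Agent.Lib.HNOutH
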