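import Cfsg.Agent.Lib.OutNorm

/-!
# Normal forms of automorphisms: an element of prime order with a central involution in its centralizer

An element `x` of prime order `p`, with `p² ∤ |G|`, whose centralizer is generated by `x` and an involution `u`, with
an element `f` commuting with `u` and acting on `⟨x⟩` as a generator of `Aut ⟨x⟩`: up to inner automorphisms any
automorphism fixes `x`, and sends `f` to `f` or `f * u`.
-/

set_option autoImplicit false

namespace Cfsg.Agent.Lib.OutNorm3

open Cfsg Cfsg.Agent.Lib.OutNorm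

universe u

/-- The normal form of an automorphism. -/
theorem normal_form3 {Γ : Type*} [Group Γ] [Finite Γ] {p a b : ℕ} [hp : Fact p.Prime]
    (hp2 : ¬ p ^ 2 ∣ Nat.card Γ) {x f u : Γ} (hx : orderOf x = p) (hfx : f * x * f⁻¹ = x ^ a)
    (hroot : ∀ k, ¬ p ∣ k → ∃ j, k * a ^ j ≡ 1 [MOD p])
    (hb : b * a ≡ b + 1 [MOD p])
    (hC : ∀ y : Γ, y * x = x * y → ∃ k : ℕ, y = x ^ k ∨ y = x ^ k * u)
    (hux : u * x = x * u)
    (α : MulAut Γ) : ∃ c : Γ, (MulAut.conj c * α) x = x ∧
      ((MulAut.conj c * α) f = f ∨ (MulAut.conj c * α) f = f * u) := by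
  have hα : orderOf (α x) = p := by rw [MulEquiv.orderOf_eq, hx]
  obtain ⟨c₀, k, hck, hk⟩ := exists_conj_pow hp2 hx hα
  obtain ⟨j, hj⟩ := hroot k hk
  have hxk : x ^ (k * a ^ j) = x := by
    have : x ^ (k * a ^ j) = x ^ 1 := by
      rw [pow_eq_pow_iff_modEq, hx]
      exact hj
    simpa using this
  set c₁ : Γ := f ^ j * c₀ with hc₁
  have hβx : (MulAut.conj c₁ * α) x = x := by
    have h1 := conj_pow_pow hfx j k
    rw [hxk] at h1
    rw [← hck] at h1
    calc (MulAut.conj c₁ * α) x = f ^ j * (c₀ * α x * c₀⁻¹) * (f ^ j)⁻¹ := by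
          simp only [MulAut.mul_apply, MulAut.conj_apply]
          rw [hc₁]
          group
      _ = x := h1
  set β := MulAut.conj c₁ * α with hβ
  have h2 : β f * x * (β f)⁻¹ = x ^ a := by
    have h1 := congrArg β hfx
    simp only [map_mul, map_inv, map_pow, hβx] at h1
    exact h1
  have h3 : (f⁻¹ * β f) * x = x * (f⁻¹ * β f) := by
    have h4 : β f * x = x ^ a * β f := by rw [← h2]; group
    have h6 : f⁻¹ * x ^ a = x * f⁻¹ := by
      have : x ^ a = f * x * f⁻¹ := hfx.symm
      rw [this]; group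
    calc (f⁻¹ * β f) * x = f⁻¹ * (β f * x) := by group
      _ = f⁻¹ * (x ^ a * β f) := by rw [h4]
      _ = (f⁻¹ * x ^ a) * β f := by group
      _ = x * (f⁻¹ * β f) := by rw [h6]; group
  obtain ⟨e, he⟩ := hC _ h3
  -- the correction by a power of `x`
  set i := b * e with hi
  have h5 : x ^ (i + e) = x ^ (i * a) := by
    rw [pow_eq_pow_iff_modEq, hx]
    have : i * a = (b * a) * e := by rw [hi]; ring
    rw [this]
    have h6 : (b * a) * e ≡ (b + 1) * e [MOD p] := hb.mul_right e
    have h7 : (b + 1) * e = i + e := by rw [hi]; ring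
    rw [h7] at h6
    exact h6.symm
  have h6 : f * x ^ i * f⁻¹ = x ^ (i * a) := by
    rw [← conj_pow, hfx, ← pow_mul, mul_comm]
  set d : Γ := x ^ (i * a) with hd
  have h8 : d * f = f * x ^ i := by rw [← h6]; group
  have h9 : x ^ i * x ^ e = d := by rw [← pow_add, h5]
  have hdu : Commute d u := (show Commute x u from hux.symm).pow_left _
  have h8' : MulAut.conj (d * c₁) * α = MulAut.conj d * β := by
    rw [hβ, map_mul, mul_assoc]
  refine ⟨d * c₁, ?_, ?_⟩
  · rw [h8']
    simp only [MulAut.mul_apply, MulAut.conj_apply]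
    rw [hβx, hd]
    have : Commute (x ^ (i * a)) x := (Commute.refl x).pow_left _
    rw [this.eq]
    group
  · rw [h8']
    simp only [MulAut.mul_apply, MulAut.conj_apply]
    rcases he with he | he
    · left
      have h4 : β f = f * x ^ e := by rw [← he]; group
      rw [h4]
      calc d * (f * x ^ e) * d⁻¹ = (d * f) * x ^ e * d⁻¹ := by group
        _ = f * (x ^ i * x ^ e) * d⁻¹ := by rw [h8]; group
        _ = f := by rw [h9]; group
    · right
      have h4 : β f = f * (x ^ e * u) := by rw [← he]; group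
      rw [h4]
      calc d * (f * (x ^ e * u)) * d⁻¹ = (d * f) * (x ^ e * u) * d⁻¹ := by group
        _ = f * (x ^ i * x ^ e) * u * d⁻¹ := by rw [h8]; group
        _ = f * d * u * d⁻¹ := by rw [h9]
        _ = f * (d * u) * d⁻¹ := by group
        _ = f * (u * d) * d⁻¹ := by rw [hdu.eq]
        _ = f * u := by group

end Cfsg.Agent.Lib.OutNorm3
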