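import Cfsg.Agent.Lib.HNOutH
import Cfsg.Agent.Lib.HNOutG
import Cfsg.Agent.Lib.OutNorm3
import Cfsg.Agent.Lib.PresBridge

/-!
# `Out` of the Harada-Norton group has order 2
-/

set_option autoImplicit false
set_option maxRecDepth 100000

namespace Cfsg.Agent.Lib.HNOutM

open Cfsg Cfsg.Agent.Lib.PermChain Cfsg.Agent.Lib.ProgChain Cfsg.Agent.Lib.SparseDfs
  Cfsg.Agent.Lib.SparseDfs2 Cfsg.Agent.Lib.SparseDfs3 Cfsg.Agent.Lib.HNLMain
  Cfsg.Agent.Lib.HNOutL Cfsg.Agent.Lib.HNOutT Cfsg.Agent.Lib.HNOutW Cfsg.Agent.Lib.HNBase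
  Cfsg.Agent.Lib.HNOutH Cfsg.Agent.Lib.HNOutP Cfsg.Agent.Lib.HNOutG
  Cfsg.Agent.Lib.OutNorm Cfsg.Agent.Lib.OutNorm3
open Cfsg.Spor Cfsg.Spor.HN Cfsg.Agent.TcData.HN Cfsg.Agent.TcData.HN.I1539000
  Cfsg.Agent.Lib.TcPres Cfsg.Agent.Lib.TcBits

local notation "P1508" => Equiv.Perm (Fin 1508)

/-- the element of order 11 -/
noncomputable abbrev aE : GO := elt (wH wa)
/-- the element acting on `a` -/
noncomputable abbrev fE : GO := elt (wH wf)
/-- the central involution of the subgroup -/
noncomputable abbrev uE : GO := elt (wH wu)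
/-- the generator `x` -/
noncomputable abbrev xE : GO := elt (wH [0])
/-- the generator `y` -/
noncomputable abbrev yE : GO := elt (wH [2])
/-- the generator `z` -/
noncomputable abbrev zE : GO := elt (wH [4])
/-- the generator `t` -/
noncomputable abbrev tE : GO := elt [(Gen.t, true)]

theorem small_wa : small wa = true := by decide
theorem small_wf : small wf = true := by decide
theorem small_wu : small wu = true := by decide

theorem mk_rel {r : FreeGroup Gen} (h : r ∈ extra) : PresentedGroup.mk RR r = 1 :=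
  PresentedGroup.one_of_mem (Or.inr h)

theorem xE_eq : xE = PresentedGroup.mk RR (FreeGroup.of Gen.x) := rfl
theorem yE_eq : yE = PresentedGroup.mk RR (FreeGroup.of Gen.y) := rfl
theorem zE_eq : zE = PresentedGroup.mk RR (FreeGroup.of Gen.z) := rfl
theorem tE_eq : tE = PresentedGroup.mk RR (FreeGroup.of Gen.t) := rfl

/-! ### relations of the generator `t` -/

theorem r1 : tE ^ 5 = 1 := by
  have h := mk_rel (r := t ^ 5) (by
    simp only [extra, List.mem_cons, eq_self, true_or, or_true])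
  rw [map_pow] at h
  exact h

theorem r2 : xE⁻¹ * tE * xE * tE ^ 2 = 1 := by
  have h := mk_rel (r := (x⁻¹ * t * x) * (t ^ 2)) (by
    simp only [extra, List.mem_cons, eq_self, true_or, or_true])
  simp only [map_mul, map_pow, map_inv] at h
  exact h

theorem r3 : tE⁻¹ * yE⁻¹ * tE * yE = 1 := by
  have h := mk_rel (r := t⁻¹ * y⁻¹ * t * y) (by
    simp only [extra, List.mem_cons, eq_self, true_or, or_true])
  simp only [map_mul, map_inv] at h
  exact h

theorem r4 : (zE * tE) ^ 3 = 1 := by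
  have h := mk_rel (r := (z * t) ^ 3) (by
    simp only [extra, List.mem_cons, eq_self, true_or, or_true])
  simp only [map_mul, map_pow] at h
  exact h

theorem comm_of_rels {G : Type*} [Group G] {x y T : G} (h5 : T ^ 5 = 1) (h2 : x⁻¹ * T * x * T ^ 2 = 1)
    (h3 : T⁻¹ * y⁻¹ * T * y = 1) : T * y = y * T ∧ T * (x⁻¹ * y * x) = (x⁻¹ * y * x) * T := by
  have h3' : T * y = y * T := by
    have h4 : (y * T)⁻¹ * (T * y) = 1 := by
      rw [← h3]; group
    exact (inv_mul_eq_one.mp h4).symm
  refine ⟨h3', ?_⟩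
  have h6 : x⁻¹ * T * x = (T ^ 2)⁻¹ := eq_inv_of_mul_eq_one_left h2
  have hc : Commute (x⁻¹ * T * x) (x⁻¹ * y * x) := by
    show (x⁻¹ * T * x) * (x⁻¹ * y * x) = (x⁻¹ * y * x) * (x⁻¹ * T * x)
    calc (x⁻¹ * T * x) * (x⁻¹ * y * x) = x⁻¹ * (T * y) * x := by group
      _ = x⁻¹ * (y * T) * x := by rw [h3']
      _ = _ := by group
  rw [h6] at hc
  have hc2 := hc.pow_left 2
  have h7 : ((T ^ 2)⁻¹) ^ 2 = T := by
    have h8 : T ^ 4 = T⁻¹ := by
      apply eq_inv_of_mul_eq_one_left
      rw [← pow_succ]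
      exact h5
    rw [inv_pow, ← pow_mul]
    show (T ^ 4)⁻¹ = T
    rw [h8, inv_inv]
  rw [h7] at hc2
  exact hc2

theorem inv_of_rels {G : Type*} [Group G] {x T : G} (h5 : T ^ 5 = 1) (h2 : x⁻¹ * T * x * T ^ 2 = 1) :
    (x * x)⁻¹ * T * (x * x) = T⁻¹ := by
  have h6 : x⁻¹ * T * x = (T ^ 2)⁻¹ := eq_inv_of_mul_eq_one_left h2
  have h8 : T ^ 4 = T⁻¹ := by
    apply eq_inv_of_mul_eq_one_left
    rw [← pow_succ]
    exact h5
  have h9 : x⁻¹ * (T ^ 2)⁻¹ * x = T ^ 4 := by
    have h10 : x⁻¹ * (T ^ 2)⁻¹ * x = ((x⁻¹ * T * x) ^ 2)⁻¹ := by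
      have h11 : (x⁻¹ * T * x) ^ 2 = x⁻¹ * T ^ 2 * x := by
        rw [pow_two, pow_two]; group
      rw [h11]; group
    rw [h10, h6, inv_pow, inv_inv, ← pow_mul]
  calc (x * x)⁻¹ * T * (x * x) = x⁻¹ * (x⁻¹ * T * x) * x := by group
    _ = x⁻¹ * (T ^ 2)⁻¹ * x := by rw [h6]
    _ = T⁻¹ := by rw [h9, h8]

/-! ### words and identities in the subgroup -/

theorem elt_rep (w : List ℕ) (k : ℕ) : elt (wH (List.flatten (List.replicate k w))) = elt (wH w) ^ k := by
  induction k with
  | zero => exact elt_nil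
  | succ k ih =>
    rw [List.replicate_succ, List.flatten_cons, wH_append, elt_append, ih, pow_succ']

theorem a_pow : aE ^ 11 = 1 := by
  rw [← elt_rep, elt_eq_of_eqW a_ord (by decide) (by decide)]
  exact elt_nil

theorem prodW_a_ne : prodW g wa ≠ 1 := SparseDfs3.ne_one_of_moved rep_lT a_moved.1 _ (by norm_num) a_moved.2
theorem prodW_u_ne : prodW g wu ≠ 1 := SparseDfs3.ne_one_of_moved rep_lT u_moved.1 _ (by norm_num) u_moved.2

theorem a_ne : aE ≠ 1 := elt_ne_one prodW_a_ne small_wa
theorem u_ne : uE ≠ 1 := elt_ne_one prodW_u_ne small_wu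

theorem order_a : orderOf aE = 11 := by
  have : Fact (Nat.Prime 11) := ⟨by norm_num⟩
  exact orderOf_eq_prime a_pow a_ne

theorem f_a_E : fE * aE * fE⁻¹ = aE ^ 2 := by
  have h := elt_eq_of_eqW f_a (by decide) (by decide)
  simp only [wH_append, elt_append] at h
  rw [mul_inv_eq_iff_eq_mul, pow_two]
  exact h

theorem u_sq_E : uE * uE = 1 := by
  have h := elt_eq_of_eqW u_sq (by decide) (by decide)
  simp only [wH_append, elt_append] at h
  rw [h]
  exact elt_nil

theorem uE_inv : uE⁻¹ = uE := inv_eq_of_mul_eq_one_left u_sq_E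

theorem uE_mem : uE ∈ HH := elt_wH_mem wu

/-- the involution commutes with the subgroup -/
theorem u_comm {z : GO} (hz : z ∈ HH) : z * uE = uE * z := by
  have h1 : (⟨z, hz⟩ : HH) * ⟨uE, uE_mem⟩ = ⟨uE, uE_mem⟩ * ⟨z, hz⟩ := theta_inj (by
    rw [map_mul, map_mul, theta_wH wu (small_spec small_wu)]
    exact HNOutP.u_central (theta_mem _))
  exact congrArg Subtype.val h1

theorem uE_eq : uE = xE * xE := by
  show elt (wH [0] ++ wH [0]) = _
  rw [elt_append]

theorem Phi_H {z : GO} (hz : z ∈ HH) : Phi z 0 = 0 := hfix z hz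

theorem testBit_one {k : ℕ} (h : Nat.testBit 1 k = true) : k = 0 := by
  cases k with
  | zero => rfl
  | succ k => simp [Nat.testBit_succ] at h

theorem a_fix0 : wP (wH wa) 0 = 0 := by
  rw [← Phi_elt]
  exact hfix _ (elt_wH_mem wa)

/-- the centralizer of `a` -/
theorem cent_a_E (y : GO) (hc : y * aE = aE * y) : ∃ k : ℕ, y = aE ^ k ∨ y = aE ^ k * uE := by
  have h0 : Phi y 0 = 0 := testBit_one (fixed_mem mask_a (lt_of_image y) (image_fixed a_fix0 hc))
  have hy : y ∈ HH := mem_HH h0
  let aH : HH := ⟨aE, elt_wH_mem wa⟩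
  let uH : HH := ⟨uE, uE_mem⟩
  have hc' : (⟨y, hy⟩ : HH) * aH = aH * ⟨y, hy⟩ := Subtype.ext hc
  have h2 := congrArg theta hc'
  rw [map_mul, map_mul] at h2
  have h3 : theta aH = prodW g wa := theta_wH wa (small_spec small_wa)
  have h3' : theta uH = prodW g wu := theta_wH wu (small_spec small_wu)
  rw [h3] at h2
  obtain ⟨k, hk⟩ := HNOutP.cent_a (theta_mem _) h2
  refine ⟨k, ?_⟩
  rcases hk with hk | hk
  · left
    have h4 : (⟨y, hy⟩ : HH) = aH ^ k := theta_inj (by rw [hk, map_pow, h3])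
    exact congrArg Subtype.val h4
  · right
    have h4 : (⟨y, hy⟩ : HH) = aH ^ k * uH := theta_inj (by rw [hk, map_mul, map_pow, h3, h3'])
    exact congrArg Subtype.val h4

theorem u_a : uE * aE = aE * uE := (u_comm (elt_wH_mem wa)).symm

/-! ### the centralizer of the involution -/

theorem coatom_HH : IsCoatom HH := by
  have h := Cfsg.Agent.TcData.HN.Fin.prim
  have hfin : Finite (GO ⧸ HH) := Nat.finite_of_card_ne_zero (by
    show HH.index ≠ 0
    rw [bij.1]
    norm_num)
  have hnt : Nontrivial (GO ⧸ HH) := by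
    apply Finite.one_lt_card_iff_nontrivial.mp
    show 1 < HH.index
    rw [bij.1]
    norm_num
  have h2 := (MulAction.isCoatom_stabilizer_iff_preprimitive (G := GO) (X := GO ⧸ HH) ((1 : GO) : GO ⧸ HH)).mpr h
  rwa [MulAction.stabilizer_quotient] at h2

/-- elements commuting with the involution are in the subgroup -/
theorem mem_of_comm {z : GO} (hz : z * uE = uE * z) : z ∈ HH := by
  by_contra hz'
  let K : Subgroup GO := Subgroup.centralizer {uE}
  have hK : HH < K := by
    refine lt_of_le_of_ne ?_ ?_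
    · intro w hw
      rw [Subgroup.mem_centralizer_singleton_iff]
      exact u_comm hw
    · intro h
      apply hz'
      rw [h, Subgroup.mem_centralizer_singleton_iff]
      exact hz
  have hT := coatom_HH.2 K hK
  have hcent : ∀ c : GO, uE * c = c * uE := by
    intro c
    have hc : c ∈ K := by rw [hT]; trivial
    rw [Subgroup.mem_centralizer_singleton_iff] at hc
    exact hc.symm
  apply u_ne
  apply Cfsg.Agent.TcData.HN.Fin.faith
  intro q
  induction q using QuotientGroup.induction_on with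
  | H c =>
    show ((uE * c : GO) : GO ⧸ HH) = c
    rw [hcent c]
    apply QuotientGroup.eq.mpr
    have h3 : (c * uE)⁻¹ * c = uE⁻¹ := by group
    rw [h3]
    exact HH.inv_mem uE_mem

/-! ### automorphisms fixing `a` and `f` -/

theorem beta_u (β : MulAut GO) (ha : β aE = aE) : β uE = uE := by
  have h1 : β uE * aE = aE * β uE := by
    have h2 := congrArg β u_a
    simpa only [map_mul, ha] using h2
  obtain ⟨k, hk⟩ := cent_a_E _ h1
  have h2 : β uE * β uE = 1 := by
    rw [← map_mul, u_sq_E, map_one]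
  have h3 : aE ^ (k * 2) = 1 := by
    rcases hk with hk | hk
    · rw [hk] at h2
      rw [mul_two, pow_add]
      exact h2
    · rw [hk] at h2
      have hcomm : Commute uE (aE ^ k) := (show Commute uE aE from u_a).pow_right k
      have h4 : aE ^ k * uE * (aE ^ k * uE) = aE ^ k * aE ^ k * (uE * uE) := by
        calc aE ^ k * uE * (aE ^ k * uE) = aE ^ k * (uE * aE ^ k) * uE := by group
          _ = aE ^ k * (aE ^ k * uE) * uE := by rw [hcomm.eq]
          _ = _ := by group
      rw [h4, u_sq_E, mul_one] at h2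
      rw [mul_two, pow_add]
      exact h2
  have h4 : aE ^ k = 1 := by
    have h5 : 11 ∣ k * 2 := by
      rw [← order_a]
      exact orderOf_dvd_of_pow_eq_one h3
    have h6 : 11 ∣ k := (Nat.Coprime.dvd_of_dvd_mul_right (by norm_num) h5)
    rw [← orderOf_dvd_iff_pow_eq_one, order_a]
    exact h6
  rcases hk with hk | hk
  · exfalso
    rw [h4] at hk
    exact u_ne ((map_eq_one_iff β β.injective).mp hk)
  · rw [hk, h4, one_mul]

/-- an automorphism fixing `a` and `f` is trivial on the subgroup -/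
theorem fix_HH (β : MulAut GO) (ha : β aE = aE) (hf : β fE = fE) {z : GO} (hz : z ∈ HH) : β z = z := by
  have hu := beta_u β ha
  have hH : ∀ w : HH, β w ∈ HH := by
    intro w
    apply mem_of_comm
    have h1 := congrArg β (u_comm w.2)
    simpa only [map_mul, hu] using h1
  let βH : HH →* HH := (β.toMonoidHom.comp HH.subtype).codRestrict HH hH
  let φ : GG →* GG := thetaE.toMonoidHom.comp (βH.comp thetaE.symm.toMonoidHom)
  have hfix' : ∀ (w : List ℕ) (hs : small w = true), β (elt (wH w)) = elt (wH w) →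
      φ ⟨prodW g w, mem_word w⟩ = ⟨prodW g w, mem_word w⟩ := by
    intro w hs h
    have h1 : thetaE ⟨elt (wH w), elt_wH_mem w⟩ = ⟨prodW g w, mem_word w⟩ :=
      Subtype.ext (theta_wH w (small_spec hs))
    have h2 : thetaE.symm ⟨prodW g w, mem_word w⟩ = ⟨elt (wH w), elt_wH_mem w⟩ := by
      rw [← h1, MulEquiv.symm_apply_apply]
    show thetaE (βH (thetaE.symm ⟨prodW g w, mem_word w⟩)) = _
    rw [h2]
    have h3 : βH ⟨elt (wH w), elt_wH_mem w⟩ = ⟨elt (wH w), elt_wH_mem w⟩ := Subtype.ext h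
    rw [h3, h1]
  have hrig := rigid φ (hfix' wa small_wa ha) (hfix' wf small_wf hf)
  have h4 := hrig (thetaE ⟨z, hz⟩)
  have h5 : thetaE (βH ⟨z, hz⟩) = thetaE ⟨z, hz⟩ := by
    have h6 : φ (thetaE ⟨z, hz⟩) = thetaE (βH ⟨z, hz⟩) := by
      show thetaE (βH (thetaE.symm (thetaE ⟨z, hz⟩))) = _
      rw [MulEquiv.symm_apply_apply]
    rw [← h6, h4]
  have h7 := thetaE.injective h5
  exact congrArg Subtype.val h7

/-! ### the image of `t` -/

/-- the word of a power of `t` -/
def tW (j : ℕ) : List (Gen × Bool) := List.replicate j (Gen.t, true)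

theorem elt_tW (j : ℕ) : elt (tW j) = tE ^ j := by
  induction j with
  | zero => exact elt_nil
  | succ j ih =>
    have h1 : tW (j + 1) = [(Gen.t, true)] ++ tW j := by
      simp [tW, List.replicate_succ]
    rw [h1, elt_append, ih, pow_succ']

theorem Phi_tpow {j p : ℕ} (h : wP (tW j) 0 = p) : Phi (tE ^ j) 0 = p := by
  rw [← elt_tW, Phi_elt, h]

theorem hY2 : elt (wH wY2) = xE⁻¹ * yE * xE := by
  have h1 : wH wY2 = invW (wH [0]) ++ wH [2] ++ wH [0] := rfl
  rw [h1, elt_append, elt_append, elt_invW]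

/-- elements commuting with `y` and its conjugate -/
theorem comm_cases {h : GO} (hH : h ∈ HH) (h1 : h * yE = yE * h) (h2 : h * elt (wH wY2) = elt (wH wY2) * h) :
    h = 1 ∨ h = uE := by
  let yH : HH := ⟨yE, elt_wH_mem wy⟩
  let YH : HH := ⟨elt (wH wY2), elt_wH_mem wY2⟩
  let uH : HH := ⟨uE, uE_mem⟩
  have h3 : (⟨h, hH⟩ : HH) * yH = yH * ⟨h, hH⟩ := Subtype.ext h1
  have h4 : (⟨h, hH⟩ : HH) * YH = YH * ⟨h, hH⟩ := Subtype.ext h2
  have h5 := congrArg theta h3
  have h6 := congrArg theta h4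
  rw [map_mul, map_mul] at h5 h6
  have h7 : theta yH = prodW g wy := theta_wH wy (small_spec (by decide))
  have h8 : theta YH = prodW g wY2 := theta_wH wY2 (small_spec (by decide))
  have h9 : theta uH = prodW g wu := theta_wH wu (small_spec small_wu)
  rw [h7] at h5
  rw [h8] at h6
  rcases cent_y (theta_mem _) h5 h6 with h10 | h10
  · left
    have h11 : (⟨h, hH⟩ : HH) = 1 := theta_inj (by rw [h10, map_one])
    exact congrArg Subtype.val h11
  · right
    have h11 : (⟨h, hH⟩ : HH) = uH := theta_inj (by rw [h10, h9])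
    exact congrArg Subtype.val h11

theorem hmoved_t : tE ≠ 1 := ne_one_of_moved t_moved

theorem tE_inv_u : uE * tE * uE = tE⁻¹ := by
  have h := inv_of_rels r1 r2
  rw [← uE_eq, uE_inv] at h
  exact h

theorem elt_wzt2 : elt wzt2 = zE * tE ^ 2 := by
  have h : wzt2 = wH [4] ++ tW 2 := rfl
  rw [h, elt_append, elt_tW]

theorem elt_wzt3 : elt wzt3 = zE * tE ^ 3 := by
  have h : wzt3 = wH [4] ++ tW 3 := rfl
  rw [h, elt_append, elt_tW]

theorem zt2_ne : (zE * tE ^ 2) ^ 3 ≠ 1 := by
  have h := ne_one_of_moved zt2_moved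
  rw [elt_append, elt_append, elt_wzt2] at h
  rwa [pow_three']

theorem zt3_ne : (zE * tE ^ 3) ^ 3 ≠ 1 := by
  have h := ne_one_of_moved zt3_moved
  rw [elt_append, elt_append, elt_wzt3] at h
  rwa [pow_three']

/-- the image of `t` -/
theorem fix_t (β : MulAut GO) (hβ : ∀ z ∈ HH, β z = z) : β tE = tE ∨ β tE = tE ^ 4 := by
  have hT : ∃ T, T = β tE := ⟨_, rfl⟩
  obtain ⟨T, hT⟩ := hT
  rw [← hT]
  have hx : β xE = xE := hβ _ (elt_wH_mem _)
  have hy : β yE = yE := hβ _ (elt_wH_mem _)
  have hz : β zE = zE := hβ _ (elt_wH_mem _)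
  have hT1 : T ≠ 1 := by
    rw [hT]
    intro h
    exact hmoved_t ((map_eq_one_iff β β.injective).mp h)
  have t1 : T ^ 5 = 1 := by rw [hT, ← map_pow, r1, map_one]
  have t2 : xE⁻¹ * T * xE * T ^ 2 = 1 := by
    have h := congrArg β r2
    simpa only [map_mul, map_inv, map_pow, map_one, hx, ← hT] using h
  have t3 : T⁻¹ * yE⁻¹ * T * yE = 1 := by
    have h := congrArg β r3
    simpa only [map_mul, map_inv, map_one, hy, ← hT] using h
  have t4 : (zE * T) ^ 3 = 1 := by
    have h := congrArg β r4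
    simpa only [map_mul, map_pow, map_one, hz, ← hT] using h
  obtain ⟨c1, c2⟩ := comm_of_rels t1 t2 t3
  obtain ⟨d1, d2⟩ := comm_of_rels r1 r2 r3
  have hy0 : wP (wH wy) 0 = 0 := by
    rw [← Phi_elt]
    exact hfix _ (elt_wH_mem wy)
  have hY0 : wP (wH wY2) 0 = 0 := by
    rw [← Phi_elt]
    exact hfix _ (elt_wH_mem wY2)
  have c2' : T * elt (wH wY2) = elt (wH wY2) * T := by
    rw [hY2]
    exact c2
  have d2' : tE * elt (wH wY2) = elt (wH wY2) * tE := by
    rw [hY2]
    exact d2
  have hp := fixed2_mem mask_y (lt_of_image T) (image_fixed hy0 c1) (image_fixed hY0 c2')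
  have hp5 : Phi T 0 < 5 := by
    have h31 : (31 : ℕ) = 2 ^ 5 - 1 := by norm_num
    rw [h31, Nat.testBit_two_pow_sub_one] at hp
    simpa using hp
  have hj : ∃ j, j < 5 ∧ Phi (tE ^ j) 0 = Phi T 0 := by
    have h0 : Phi (tE ^ 0) 0 = 0 := by simp
    have h1 : Phi (tE ^ 1) 0 = 2 := Phi_tpow (wP_of_imgAt t1_img)
    have h2 : Phi (tE ^ 2) 0 = 3 := Phi_tpow (wP_of_imgAt t2_img)
    have h3 : Phi (tE ^ 3) 0 = 4 := Phi_tpow (wP_of_imgAt t3_img)
    have h4 : Phi (tE ^ 4) 0 = 1 := Phi_tpow (wP_of_imgAt t4_img)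
    generalize Phi T 0 = p at hp5 ⊢
    interval_cases p
    · exact ⟨0, by norm_num, h0⟩
    · exact ⟨4, by norm_num, h4⟩
    · exact ⟨1, by norm_num, h1⟩
    · exact ⟨2, by norm_num, h2⟩
    · exact ⟨3, by norm_num, h3⟩
  obtain ⟨j, hj5, hjp⟩ := hj
  have hhH : (tE ^ j)⁻¹ * T ∈ HH := by
    apply mem_HH
    rw [map_mul, map_inv, Equiv.Perm.mul_apply, ← hjp]
    exact (Phi (tE ^ j)).symm_apply_apply 0
  have hSy : Commute (tE ^ j) yE := Commute.pow_left d1 j
  have hSY : Commute (tE ^ j) (elt (wH wY2)) := Commute.pow_left d2' j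
  have hh1 : (tE ^ j)⁻¹ * T * yE = yE * ((tE ^ j)⁻¹ * T) := Commute.mul_left hSy.inv_left c1
  have hh2 : (tE ^ j)⁻¹ * T * elt (wH wY2) = elt (wH wY2) * ((tE ^ j)⁻¹ * T) :=
    Commute.mul_left hSY.inv_left c2'
  rcases comm_cases hhH hh1 hh2 with h | h
  · have hTS : T = tE ^ j := (inv_mul_eq_one.mp h).symm
    rw [hTS] at t4 hT1 ⊢
    interval_cases j
    · exact absurd (pow_zero _) hT1
    · left
      exact pow_one _
    · exact absurd t4 zt2_ne
    · exact absurd t4 zt3_ne
    · right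
      rfl
  · exfalso
    have hTS : T = tE ^ j * uE := by
      rw [← h]
      group
    have hu' : uE * tE ^ j * uE = (tE ^ j)⁻¹ := by
      have h1 : uE * tE ^ j * uE = (uE * tE * uE) ^ j := by
        have h2 : uE * tE * uE = uE * tE * uE⁻¹ := by rw [uE_inv]
        rw [h2, conj_pow, uE_inv]
      rw [h1, tE_inv_u, inv_pow]
    have hT2 : T * T = 1 := by
      rw [hTS]
      calc tE ^ j * uE * (tE ^ j * uE) = tE ^ j * (uE * tE ^ j * uE) := by group
        _ = 1 := by rw [hu', mul_inv_cancel]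
    apply hT1
    calc T = T ^ 5 * ((T * T) * (T * T))⁻¹ := by group
      _ = 1 := by rw [t1, hT2]; simp

/-- automorphisms fixing the generators are trivial -/
theorem gens_eq (β : MulAut GO) (hS : ∀ t : Gen, β (PresentedGroup.of t) = PresentedGroup.of t) : β = 1 := by
  apply MulEquiv.ext
  intro z
  have hz : z ∈ Subgroup.closure (Set.range (PresentedGroup.of : Gen → GO)) := by
    rw [PresentedGroup.closure_range_of]
    trivial
  induction hz using Subgroup.closure_induction with
  | mem y hy =>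
    obtain ⟨t, rfl⟩ := hy
    exact hS t
  | one => simp
  | mul a b _ _ ha hb => rw [map_mul, ha, hb]; rfl
  | inv a _ ha => rw [map_inv, ha]; rfl

/-- automorphisms fixing `a` and `f` are inner -/
theorem rig (β : MulAut GO) (ha : β aE = aE) (hf : β fE = fE) : β ∈ Inn GO := by
  have hH : ∀ z ∈ HH, β z = z := fun z hz => fix_HH β ha hf hz
  rcases fix_t β hH with ht | ht
  · have h1 : β = 1 := by
      apply gens_eq
      intro t
      cases t
      · exact hH _ (elt_wH_mem [0])
      · exact hH _ (elt_wH_mem [2])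
      · exact hH _ (elt_wH_mem [4])
      · exact ht
    rw [h1]
    exact (Inn GO).one_mem
  · have hH' : ∀ z ∈ HH, (MulAut.conj uE * β) z = z := by
      intro z hz
      simp only [MulAut.mul_apply, MulAut.conj_apply]
      rw [hH z hz, ← u_comm hz]
      group
    have h1 : MulAut.conj uE * β = 1 := by
      apply gens_eq
      intro t
      cases t
      · exact hH' _ (elt_wH_mem [0])
      · exact hH' _ (elt_wH_mem [2])
      · exact hH' _ (elt_wH_mem [4])
      · show (MulAut.conj uE * β) tE = tE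
        simp only [MulAut.mul_apply, MulAut.conj_apply]
        rw [ht, ← conj_pow]
        have h2 : uE * tE * uE⁻¹ = tE⁻¹ := by
          rw [uE_inv]
          exact tE_inv_u
        rw [h2, inv_pow]
        have h8 : tE ^ 4 = tE⁻¹ := by
          apply eq_inv_of_mul_eq_one_left
          rw [← pow_succ]
          exact r1
        rw [h8, inv_inv]
    refine ⟨uE⁻¹, ?_⟩
    have h2 : β = (MulAut.conj uE)⁻¹ := eq_inv_of_mul_eq_one_right h1
    rw [h2, map_inv]

/-- the normal form of an automorphism -/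
theorem hnf (α : MulAut GO) : ∃ c : GO, (MulAut.conj c * α) aE = aE ∧
    ((MulAut.conj c * α) fE = fE ∨ (MulAut.conj c * α) fE = fE * uE) := by
  have : Fact (Nat.Prime 11) := ⟨by norm_num⟩
  exact normal_form3 (p := 11) (a := 2) (b := 1) (x := aE) (f := fE) (u := uE) (by rw [card_GO]; norm_num)
    order_a f_a_E
    (by
      intro k hk
      have harith : ∀ r : Fin 11, r.val ≠ 0 → ∃ j : Fin 10, (r.val * 2 ^ j.val) % 11 = 1 % 11 := by
        decide
      have hk' : k % 11 ≠ 0 := fun h => hk (Nat.dvd_of_mod_eq_zero h)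
      obtain ⟨j, hj⟩ := harith ⟨k % 11, Nat.mod_lt _ (by norm_num)⟩ hk'
      exact ⟨j.val, ((Nat.mod_modEq k 11).mul_right _).symm.trans hj⟩)
    (by decide)
    cent_a_E u_a α

/-! ### the outer automorphism -/

/-- the values of the outer automorphism on the generators -/
def wB : Gen → List (Gen × Bool)
  | .x => [(.x, true)]
  | .y => [(.y, true)]
  | .z => [(.z, true), (.x, true), (.x, true)]
  | .t => [(.t, true), (.t, true)]

/-- the image of a word -/
def expandB (L : List (Gen × Bool)) : List (Gen × Bool) := L.flatMap fun p => cond p.2 (wB p.1) (invW (wB p.1))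

theorem lift_expandB (L : List (Gen × Bool)) :
    FreeGroup.lift (fun x => elt (wB x)) (FreeGroup.mk L) = elt (expandB L) := by
  rw [FreeGroup.lift_mk]
  induction L with
  | nil => exact elt_nil.symm
  | cons a L ih =>
    have h1 : expandB (a :: L) = cond a.2 (wB a.1) (invW (wB a.1)) ++ expandB L := List.flatMap_cons ..
    rw [h1, elt_append, List.map_cons, List.prod_cons, ih]
    obtain ⟨x, b⟩ := a
    cases b with
    | true => rfl
    | false =>
      simp only [cond_false]
      rw [elt_invW]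

/-- the letters of a word without `t` -/
def toH : List (Gen × Bool) → List ℕ
  | [] => []
  | (.x, true) :: L => 0 :: toH L
  | (.x, false) :: L => 1 :: toH L
  | (.y, true) :: L => 2 :: toH L
  | (.y, false) :: L => 3 :: toH L
  | (.z, _) :: L => 4 :: toH L
  | (.t, _) :: L => toH L

/-- the word has no letter `t` -/
def noT (L : List (Gen × Bool)) : Bool := L.all fun p => decide (p.1 ≠ Gen.t)

theorem elt_cons (p : Gen × Bool) (L : List (Gen × Bool)) : elt (p :: L) = elt [p] * elt L :=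
  elt_append [p] L

theorem z_inv_E : elt [(Gen.z, false)] = elt [(Gen.z, true)] := by
  have h := Cfsg.Agent.TcData.HN.zinv
  exact h

theorem elt_toH : ∀ L : List (Gen × Bool), noT L = true → elt L = elt (wH (toH L))
  | [], _ => rfl
  | (.x, true) :: L, h => by
    have h1 := elt_toH L (by simpa [noT] using h)
    show elt _ = elt (wH [0] ++ wH (toH L))
    rw [elt_cons, elt_append, h1]
    rfl
  | (.x, false) :: L, h => by
    have h1 := elt_toH L (by simpa [noT] using h)
    show elt _ = elt (wH [1] ++ wH (toH L))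
    rw [elt_cons, elt_append, h1]
    rfl
  | (.y, true) :: L, h => by
    have h1 := elt_toH L (by simpa [noT] using h)
    show elt _ = elt (wH [2] ++ wH (toH L))
    rw [elt_cons, elt_append, h1]
    rfl
  | (.y, false) :: L, h => by
    have h1 := elt_toH L (by simpa [noT] using h)
    show elt _ = elt (wH [3] ++ wH (toH L))
    rw [elt_cons, elt_append, h1]
    rfl
  | (.z, true) :: L, h => by
    have h1 := elt_toH L (by simpa [noT] using h)
    show elt _ = elt (wH [4] ++ wH (toH L))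
    rw [elt_cons, elt_append, h1]
    rfl
  | (.z, false) :: L, h => by
    have h1 := elt_toH L (by simpa [noT] using h)
    show elt _ = elt (wH [4] ++ wH (toH L))
    rw [elt_cons, elt_append, h1, z_inv_E]
    rfl
  | (.t, b) :: L, h => by
    simp [noT] at h

theorem s_relsH : ∀ r ∈ Cfsg.Agent.TcData.HNH.extraH, noT (expandB r.toWord) = true ∧
    eqW (toH (expandB r.toWord)) [] = true ∧ small (toH (expandB r.toWord)) = true := by decide +kernel

theorem hB_x : elt (wB Gen.x) = xE := rfl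
theorem hB_y : elt (wB Gen.y) = yE := rfl
theorem hB_t : elt (wB Gen.t) = tE ^ 2 := elt_tW 2

theorem extra_split : extra = Cfsg.Agent.TcData.HNH.extraH ++
    [t ^ 5, (x⁻¹ * t * x) * (t ^ 2), t⁻¹ * y⁻¹ * t * y, (z * t) ^ 3] := rfl

theorem hrelB : ∀ r ∈ RR, FreeGroup.lift (fun x => elt (wB x)) r = 1 := by
  rintro r (⟨x, hx, y, hy, rfl⟩ | hr)
  · simp [coxNodes, edges] at hx
  · have hr' : r ∈ extra := hr
    rw [extra_split, List.mem_append] at hr'
    rcases hr' with h | h
    · obtain ⟨h1, h2, h3⟩ := s_relsH r h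
      rw [← FreeGroup.mk_toWord (x := r), lift_expandB, elt_toH _ h1, elt_eq_of_eqW h2 h3 (by decide)]
      exact elt_nil
    · simp only [List.mem_cons, List.not_mem_nil, or_false] at h
      have h5 : ∀ {T : GO}, T ^ 5 = 1 → (T ^ 2) ^ 5 = 1 := by
        intro T hT
        rw [← pow_mul, mul_comm, pow_mul, hT, one_pow]
      rcases h with rfl | rfl | rfl | rfl
      · simp only [map_pow, FreeGroup.lift_apply_of]
        rw [hB_t]
        exact h5 r1
      · simp only [map_mul, map_pow, map_inv, FreeGroup.lift_apply_of]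
        rw [hB_t, hB_x]
        have h6 : xE⁻¹ * tE * xE = (tE ^ 2)⁻¹ := eq_inv_of_mul_eq_one_left r2
        have h7 : xE⁻¹ * tE ^ 2 * xE = (xE⁻¹ * tE * xE) ^ 2 := by
          rw [pow_two, pow_two]; group
        rw [h7, h6, inv_pow, inv_mul_cancel]
      · simp only [map_mul, map_pow, map_inv, FreeGroup.lift_apply_of]
        rw [hB_t, hB_y]
        have h6 := (comm_of_rels r1 r2 r3).1
        have h7 : tE ^ 2 * yE = yE * tE ^ 2 := Commute.pow_left h6 2
        calc (tE ^ 2)⁻¹ * yE⁻¹ * tE ^ 2 * yE = (yE * tE ^ 2)⁻¹ * (tE ^ 2 * yE) := by group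
          _ = 1 := by rw [h7, inv_mul_cancel]
      · simp only [map_mul, map_pow, FreeGroup.lift_apply_of]
        have h8 := one_of_slices srS
        have h9 : wSr = (wB Gen.z ++ wB Gen.t) ++ (wB Gen.z ++ wB Gen.t) ++ (wB Gen.z ++ wB Gen.t) := rfl
        rw [h9, elt_append, elt_append, elt_append] at h8
        rw [pow_three']
        exact h8

/-- the homomorphism of the outer automorphism -/
noncomputable def sigma0 : GO →* GO := PresentedGroup.toGroup hrelB

theorem sigma0_elt (L : List (Gen × Bool)) : sigma0 (elt L) = elt (expandB L) := by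
  rw [← lift_expandB]
  rfl

theorem eB_a : expandB (wH wa) = wH (expB wa) := by decide +kernel
theorem eB_f : expandB (wH wf) = wH (expB wf) := by decide +kernel

theorem sigma0_a : sigma0 aE = aE := by
  rw [sigma0_elt, eB_a]
  exact elt_eq_of_eqW s_a (by decide) small_wa

theorem sigma0_f : sigma0 fE = fE * uE := by
  rw [sigma0_elt, eB_f, ← elt_append, ← wH_append]
  exact elt_eq_of_eqW s_f (by decide) (by decide)

theorem simple_GO : IsSimpleGroup GO := Cfsg.Agent.TcData.HN.Fin.final.1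

theorem sigma0_bij : Function.Bijective sigma0 :=
  PresBridge.bijective_of_simple simple_GO le_rfl sigma0 (z := aE) (by rw [sigma0_a]; exact a_ne)

/-- the outer automorphism -/
noncomputable def sigma : MulAut GO := MulEquiv.ofBijective sigma0 sigma0_bij

theorem sigma_a : sigma aE = aE := sigma0_a
theorem sigma_f : sigma fE = fE * uE := sigma0_f

theorem sigma_notMem : sigma ∉ Inn GO := by
  rintro ⟨c, hc⟩
  have h1 : c * aE * c⁻¹ = aE := by
    have := sigma_a
    rw [← hc] at this
    exact this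
  have h2 : c * fE * c⁻¹ = fE * uE := by
    have := sigma_f
    rw [← hc] at this
    exact this
  obtain ⟨k, hk⟩ := cent_a_E c (by rw [mul_inv_eq_iff_eq_mul] at h1; exact h1)
  have huf : uE * fE = fE * uE := (u_comm (elt_wH_mem wf)).symm
  have huA : uE * aE ^ k = aE ^ k * uE := (Commute.pow_right (show Commute uE aE from u_a) k).eq
  have hgen : ∀ A : GO, uE * A = A * uE → fE * A * fE⁻¹ = A ^ 2 → A * fE * A⁻¹ = fE * uE → False := by
    intro A huA hfA h3
    have h4 : fE⁻¹ * A * fE = uE * A := by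
      have h5 : A * fE = fE * uE * A := by
        rw [← h3]; group
      calc fE⁻¹ * A * fE = fE⁻¹ * (A * fE) := by group
        _ = fE⁻¹ * (fE * uE * A) := by rw [h5]
        _ = uE * A := by group
    have h5 : (fE⁻¹ * A * fE) ^ 2 = A := by
      have h6 : (fE⁻¹ * A * fE) ^ 2 = fE⁻¹ * A ^ 2 * fE := by
        rw [pow_two, pow_two]; group
      rw [h6, ← hfA]
      group
    rw [h4, pow_two] at h5
    have h6 : uE * A * (uE * A) = A * A := by
      calc uE * A * (uE * A) = uE * (A * uE) * A := by group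
        _ = uE * (uE * A) * A := by rw [huA]
        _ = (uE * uE) * (A * A) := by group
        _ = A * A := by rw [u_sq_E, one_mul]
    rw [h6] at h5
    have h7 : A = 1 := by
      have := mul_left_cancel (h5.trans (mul_one A).symm)
      exact this
    rw [h7] at h3
    simp only [one_mul, inv_one, mul_one] at h3
    exact u_ne (mul_left_cancel (a := fE) (by rw [mul_one]; exact h3.symm))
  have hfA : fE * aE ^ k * fE⁻¹ = (aE ^ k) ^ 2 := by
    rw [← conj_pow, f_a_E, ← pow_mul, ← pow_mul, mul_comm]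
  rcases hk with hk | hk
  · rw [hk] at h2
    exact hgen _ huA hfA h2
  · rw [hk] at h2
    apply hgen _ huA hfA
    rw [← h2]
    calc aE ^ k * fE * (aE ^ k)⁻¹ = aE ^ k * (fE * (uE * uE)) * (aE ^ k)⁻¹ := by rw [u_sq_E, mul_one]
      _ = aE ^ k * (fE * uE) * uE * (aE ^ k)⁻¹ := by group
      _ = aE ^ k * (uE * fE) * uE * (aE ^ k)⁻¹ := by rw [huf]
      _ = aE ^ k * uE * fE * (aE ^ k * uE)⁻¹ := by rw [show (aE ^ k * uE)⁻¹ = uE⁻¹ * (aE ^ k)⁻¹ by group, uE_inv]; group

/-- The order of `Out(HN)`. -/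
theorem card_out_HN : Nat.card (Out Cfsg.Spor.HN) = 2 := by
  show (Inn GO).index = 2
  rw [Subgroup.index_eq_two_iff_exists_notMem_and]
  refine ⟨sigma⁻¹, fun h => sigma_notMem (by simpa using (Inn GO).inv_mem h), fun α => ?_⟩
  obtain ⟨c, h1, h2⟩ := hnf α
  have hinv : ∀ z, sigma z = z → sigma⁻¹ z = z := fun z hz => by
    have := MulAut.inv_apply_self GO sigma z
    rwa [hz] at this
  have hCinn : MulAut.conj c ∈ Inn GO := ⟨c, rfl⟩
  rcases h2 with h2 | h2
  · right
    have h3 := rig _ h1 h2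
    have h4 : α = (MulAut.conj c)⁻¹ * (MulAut.conj c * α) := by group
    rw [h4]
    exact (Inn GO).mul_mem ((Inn GO).inv_mem hCinn) h3
  · left
    have h3 : sigma⁻¹ * (MulAut.conj c * α) ∈ Inn GO := by
      apply rig
      · show sigma⁻¹ ((MulAut.conj c * α) aE) = aE
        rw [h1]
        exact hinv _ sigma_a
      · show sigma⁻¹ ((MulAut.conj c * α) fE) = fE
        rw [h2, ← sigma_f]
        exact MulAut.inv_apply_self GO sigma fE
    have hN : (Inn GO).Normal := inferInstance
    rw [hN.mem_comm_iff]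
    have h4 : sigma⁻¹ * α = (sigma⁻¹ * (MulAut.conj c)⁻¹ * sigma⁻¹⁻¹) * (sigma⁻¹ * (MulAut.conj c * α)) := by group
    rw [h4]
    exact (Inn GO).mul_mem (hN.conj_mem _ ((Inn GO).inv_mem hCinn) _) h3

end Cfsg.Agent.Lib.HNOutM
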