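import Mathlib
import Cfsg.Prelude.Def_KGroupFacts

/-!
# Outer automorphism groups of order two through an element of prime order

Let `a` be an element of prime order `p` with `p² ∤ |J|`, so that `⟨a⟩` is a Sylow subgroup.  Every automorphism
carries `a` to a conjugate of a power of `a`.  If `α` is a non-inner automorphism, every nontrivial power of `a` is
conjugate to `a` or is carried by `α` to a conjugate of `a`, and every automorphism fixing `a` is inner, then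
`Out J` has order `2`.
-/

set_option autoImplicit false

namespace Cfsg.Agent.Lib.OutCrit

open Subgroup Cfsg

/-- A `p`-element is conjugate into a subgroup whose order is the full power of `p`. -/
theorem exists_conj_mem {G : Type*} [Group G] [Finite G] {p : ℕ} [Fact p.Prime] (P₀ : Subgroup G) {n m : ℕ}
    (hP : Nat.card P₀ = p ^ n) (hG : Nat.card G = p ^ n * m) (hm : ¬ p ∣ m) {t : G} {e : ℕ}
    (ht : t ^ p ^ e = 1) : ∃ g : G, g * t * g⁻¹ ∈ P₀ := by
  have hp : p.Prime := Fact.out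
  have h1 : IsPGroup p (zpowers t) := by
    obtain ⟨k, -, hk⟩ := (Nat.dvd_prime_pow hp).1 (orderOf_dvd_of_pow_eq_one ht)
    exact IsPGroup.of_card (n := k) (by rw [Nat.card_zpowers, hk])
  have h2 : IsPGroup p P₀ := IsPGroup.of_card hP
  obtain ⟨Q₁, hQ₁⟩ := h1.exists_le_sylow
  obtain ⟨Q₂, hQ₂⟩ := h2.exists_le_sylow
  have hQ₂' : (P₀ : Subgroup G) = Q₂ := by
    apply Subgroup.eq_of_le_of_card_ge hQ₂
    obtain ⟨k, hk⟩ := IsPGroup.iff_card.1 Q₂.isPGroup'
    rw [hk, hP]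
    have h3 : p ^ k ∣ p ^ n * m := by
      rw [← hk, ← hG]
      exact Subgroup.card_subgroup_dvd_card _
    have h4 : Nat.Coprime (p ^ k) m := Nat.Coprime.pow_left k ((Nat.Prime.coprime_iff_not_dvd hp).2 hm)
    have h5 : p ^ k ∣ p ^ n := h4.dvd_of_dvd_mul_right h3
    exact Nat.le_of_dvd (pow_pos hp.pos n) h5
  obtain ⟨g, hg⟩ := MulAction.exists_smul_eq G Q₁ Q₂
  refine ⟨g, ?_⟩
  rw [hQ₂', ← hg, Sylow.coe_subgroup_smul]
  have h6 : t ∈ (Q₁ : Subgroup G) := hQ₁ (mem_zpowers t)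
  exact ⟨t, h6, rfl⟩

/-- An element of order `p` is conjugate to a nontrivial power of any other one. -/
theorem exists_conj_pow {J : Type*} [Group J] [Finite J] {p : ℕ} [Fact p.Prime] {a y : J} (ha : orderOf a = p)
    (hy : orderOf y = p) (hp2 : ¬ p ^ 2 ∣ Nat.card J) : ∃ x : J, ∃ k, 0 < k ∧ k < p ∧ x * y * x⁻¹ = a ^ k := by
  classical
  have hp : p.Prime := Fact.out
  have hc : Nat.card (zpowers a) = p ^ 1 := by rw [Nat.card_zpowers, ha, pow_one]
  have hd : p ∣ Nat.card J := by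
    rw [← ha]
    exact orderOf_dvd_natCard a
  obtain ⟨m, hm⟩ := hd
  have hm' : ¬ p ∣ m := by
    rintro ⟨r, rfl⟩
    apply hp2
    rw [hm]
    exact ⟨r, by ring⟩
  obtain ⟨x, hx⟩ := exists_conj_mem (zpowers a) hc (by rw [hm, pow_one]) hm' (t := y) (e := 1)
    (by rw [pow_one, ← hy]; exact pow_orderOf_eq_one y)
  rw [mem_zpowers_iff_mem_range_orderOf, ha] at hx
  simp only [Finset.mem_image, Finset.mem_range] at hx
  obtain ⟨k, hk, he⟩ := hx
  refine ⟨x, k, ?_, hk, he.symm⟩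
  rcases Nat.eq_zero_or_pos k with rfl | h0
  · exfalso
    rw [pow_zero] at he
    have hy1 : y = 1 := by
      have h1 : x * y = x := by
        have h2 : x * y * x⁻¹ * x = x := by rw [← he, one_mul]
        simpa using h2
      simpa using h1
    rw [hy1, orderOf_one] at hy
    exact hp.one_lt.ne hy
  · exact h0

/-- The index criterion. -/
theorem card_out_two {J : Type*} [Group J] (α : MulAut J) (hα : α ∉ Inn J)
    (hall : ∀ φ : MulAut J, φ ∈ Inn J ∨ α * φ ∈ Inn J) : Nat.card (Out J) = 2 := by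
  have h : (Inn J).index = 2 := by
    rw [Subgroup.index_eq_two_iff]
    refine ⟨α, fun b => ?_⟩
    have hc : b * α ∈ Inn J ↔ α * b ∈ Inn J := (innNormal J).mem_comm_iff
    by_cases hb : b ∈ Inn J
    · right
      refine ⟨hb, fun h1 => hα ?_⟩
      have h2 : α = b⁻¹ * (b * α) := by group
      rw [h2]
      exact (Inn J).mul_mem ((Inn J).inv_mem hb) h1
    · left
      refine ⟨?_, hb⟩
      rw [hc]
      exact (hall b).resolve_left hb
  exact h

/-- The main criterion. -/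
theorem card_out_two_of_fix {J : Type*} [Group J] [Finite J] {p : ℕ} [Fact p.Prime] (α : MulAut J) (a : J)
    (ha : orderOf a = p) (hp2 : ¬ p ^ 2 ∣ Nat.card J) (hα : α ∉ Inn J)
    (hk : ∀ k, 0 < k → k < p → (∃ c : J, c * a ^ k * c⁻¹ = a) ∨ (∃ c : J, c * (α a) ^ k * c⁻¹ = a))
    (hfix : ∀ ψ : MulAut J, ψ a = a → ψ ∈ Inn J) : Nat.card (Out J) = 2 := by
  apply card_out_two α hα
  intro φ
  have hord : orderOf (φ a) = p := by
    rw [MulEquiv.orderOf_eq, ha]
  obtain ⟨x, k, h0, hlt, hxk⟩ := exists_conj_pow ha hord hp2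
  have hc1 : ∀ c : J, MulAut.conj c ∈ Inn J := fun c => ⟨c, rfl⟩
  rcases hk k h0 hlt with ⟨c, hc⟩ | ⟨c, hc⟩
  · left
    have h1 : (MulAut.conj c * (MulAut.conj x * φ)) a = a := by
      show c * (x * φ a * x⁻¹) * c⁻¹ = a
      rw [hxk, hc]
    have h2 := hfix _ h1
    have h3 : φ = (MulAut.conj x)⁻¹ * ((MulAut.conj c)⁻¹ * (MulAut.conj c * (MulAut.conj x * φ))) := by group
    rw [h3]
    exact (Inn J).mul_mem ((Inn J).inv_mem (hc1 x)) ((Inn J).mul_mem ((Inn J).inv_mem (hc1 c)) h2)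
  · right
    have h1 : (MulAut.conj c * (α * (MulAut.conj x * φ))) a = a := by
      show c * α (x * φ a * x⁻¹) * c⁻¹ = a
      rw [hxk, map_pow, hc]
    have h2 := hfix _ h1
    have h3 : α * φ = (α * (MulAut.conj x)⁻¹ * α⁻¹) * ((MulAut.conj c)⁻¹ *
        (MulAut.conj c * (α * (MulAut.conj x * φ)))) := by group
    rw [h3]
    refine (Inn J).mul_mem ?_ ((Inn J).mul_mem ((Inn J).inv_mem (hc1 c)) h2)
    exact (innNormal J).conj_mem _ ((Inn J).inv_mem (hc1 x)) α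

/-- A central commutator not fixed by an automorphism: the induced automorphism of the central quotient is not
inner. -/
theorem not_inner_of_comm {G : Type*} [Group G] (f : G ≃* G) {g₁ g₂ s : G} (hs : s ∈ center G)
    (hcomm : g₁ * g₂ = s * (g₂ * g₁)) (hf : f s ≠ s) (α : MulAut (G ⧸ center G))
    (hα : ∀ g : G, α (g : G ⧸ center G) = (f g : G ⧸ center G)) : α ∉ Inn (G ⧸ center G) := by
  rintro ⟨y, hy⟩
  obtain ⟨x, rfl⟩ := QuotientGroup.mk_surjective y
  have key : ∀ g : G, ∃ z ∈ center G, f g = z * (x * g * x⁻¹) := by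
    intro g
    have h1 : ((f g : G) : G ⧸ center G) = ((x * g * x⁻¹ : G) : G ⧸ center G) := by
      rw [← hα, ← hy]
      rfl
    have h2 := QuotientGroup.eq.1 h1.symm
    refine ⟨_, h2, ?_⟩
    rw [← mem_center_iff.1 h2 (x * g * x⁻¹)]
    group
  obtain ⟨z₁, hz₁, e₁⟩ := key g₁
  obtain ⟨z₂, hz₂, e₂⟩ := key g₂
  have c1 := mem_center_iff.1 hz₁
  have c2 := mem_center_iff.1 hz₂
  have c3 := mem_center_iff.1 hs
  have A : f g₁ * f g₂ = z₁ * z₂ * (x * (g₁ * g₂) * x⁻¹) := by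
    rw [e₁, e₂]
    calc z₁ * (x * g₁ * x⁻¹) * (z₂ * (x * g₂ * x⁻¹)) = z₁ * ((x * g₁ * x⁻¹) * z₂) * (x * g₂ * x⁻¹) := by group
      _ = z₁ * (z₂ * (x * g₁ * x⁻¹)) * (x * g₂ * x⁻¹) := by rw [c2]
      _ = _ := by group
  have B : f g₂ * f g₁ = z₁ * z₂ * (x * (g₂ * g₁) * x⁻¹) := by
    rw [e₁, e₂]
    calc z₂ * (x * g₂ * x⁻¹) * (z₁ * (x * g₁ * x⁻¹)) = z₂ * ((x * g₂ * x⁻¹) * z₁) * (x * g₁ * x⁻¹) := by group
      _ = z₂ * (z₁ * (x * g₂ * x⁻¹)) * (x * g₁ * x⁻¹) := by rw [c1]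
      _ = (z₂ * z₁) * (x * (g₂ * g₁) * x⁻¹) := by group
      _ = (z₁ * z₂) * (x * (g₂ * g₁) * x⁻¹) := by rw [← c1 z₂]
  have C : x * (g₁ * g₂) * x⁻¹ = s * (x * (g₂ * g₁) * x⁻¹) := by
    rw [hcomm]
    calc x * (s * (g₂ * g₁)) * x⁻¹ = (x * s) * (g₂ * g₁) * x⁻¹ := by group
      _ = (s * x) * (g₂ * g₁) * x⁻¹ := by rw [c3]
      _ = _ := by group
  have D : f g₁ * f g₂ = f s * (f g₂ * f g₁) := by
    rw [← map_mul, hcomm, map_mul, map_mul]
  rw [A, B, C] at D
  apply hf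
  have E : z₁ * z₂ * s * (x * (g₂ * g₁) * x⁻¹) = f s * (z₁ * z₂) * (x * (g₂ * g₁) * x⁻¹) := by
    simpa [mul_assoc] using D
  have F := mul_right_cancel E
  have G : s * (z₁ * z₂) = f s * (z₁ * z₂) := by
    rw [← F, ← c3 (z₁ * z₂)]
  exact (mul_right_cancel G).symm

universe u v in
/-- The order of the outer automorphism group along an isomorphism. -/
theorem card_out_congr' {A : Type u} {B : Type v} [Group A] [Group B] (e : A ≃* B) :
    Nat.card (Out A) = Nat.card (Out B) := by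
  refine Nat.card_congr (QuotientGroup.congr (Inn A) (Inn B) (MulAut.congr e) ?_).toEquiv
  ext β
  constructor
  · rintro ⟨_, ⟨a, rfl⟩, rfl⟩
    refine ⟨e a, ?_⟩
    ext y
    simp [MulAut.congr, MulAut.conj_apply]
  · rintro ⟨b, rfl⟩
    refine ⟨MulAut.conj (e.symm b), ⟨_, rfl⟩, ?_⟩
    ext y
    simp [MulAut.congr, MulAut.conj_apply]

end Cfsg.Agent.Lib.OutCrit
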