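import Mathlib
import Cfsg.Agent.Lib.HNOutData
import Cfsg.Agent.Lib.HNOutCore
import Cfsg.Agent.Lib.TableIso
import Cfsg.Agent.Lib.OutCrit

/-!
# Automorphisms of the Harada-Norton group through a small orbit

All the statements are given for a group with the data listed in `Hx`.
-/

set_option autoImplicit false
set_option maxRecDepth 100000

namespace Cfsg.Agent.Lib.HNOutSmall

open Cfsg.Agent.Lib.PermChain12 Cfsg.Agent.Lib.HNOutData Cfsg.Agent.Lib.HNOutCore

variable {G : Type*} [Group G]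

/-- The letters. -/
def sl (x y z : G) (l : ℕ) : G :=
  cond (Nat.beq l 0) x (cond (Nat.beq l 1) x⁻¹ (cond (Nat.beq l 2) y (cond (Nat.beq l 3) y⁻¹ z)))

theorem beq_ne {a b : ℕ} (h : a ≠ b) : Nat.beq a b = false := by
  rw [Bool.eq_false_iff]
  intro e
  exact h (Nat.eq_of_beq_eq_true e)

theorem TT_big {l : ℕ} (h : 4 ≤ l) : TT l = T4 := by
  have h0 : Nat.beq l 0 = false := beq_ne (by omega)
  have h1 : Nat.beq l 1 = false := beq_ne (by omega)
  have h2 : Nat.beq l 2 = false := beq_ne (by omega)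
  have h3 : Nat.beq l 3 = false := beq_ne (by omega)
  simp [TT, h0, h1, h2, h3]

theorem sl_big (x y z : G) {l : ℕ} (h : 4 ≤ l) : sl x y z l = z := by
  have h0 : Nat.beq l 0 = false := beq_ne (by omega)
  have h1 : Nat.beq l 1 = false := beq_ne (by omega)
  have h2 : Nat.beq l 2 = false := beq_ne (by omega)
  have h3 : Nat.beq l 3 = false := beq_ne (by omega)
  simp [sl, h0, h1, h2, h3]

theorem tb_lt (l q : ℕ) (hq : q < 1408) : tb l q < 1408 := by
  have h5 : ∀ l', l' < 5 → tb l' q < 1408 := fun l' hl' =>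
    Nat.le_of_ble_eq_true (allB_spec _ _ _ (by norm_num) (allB_spec _ _ _ (by norm_num) tb_lt_chk l' hl') q hq)
  rcases Nat.lt_or_ge l 5 with h | h
  · exact h5 l h
  · have e : tb l q = tb 4 q := by
      have e1 : TT l = T4 := TT_big (by omega)
      have e2 : TT 4 = T4 := rfl
      simp only [tb, e1, e2]
    rw [e]
    exact h5 4 (by norm_num)

theorem ev_lt (w : List ℕ) (q : ℕ) (hq : q < 1408) : ev w q < 1408 := by
  induction w generalizing q with
  | nil => exact hq
  | cons l w ih =>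
    have e : ev (l :: w) q = force (tb l q) (walkF tb w) := rfl
    rw [e, force_eq]
    exact ih _ (tb_lt l q hq)

theorem walkHi_zero (q y : ℕ) : walkHi 0 q y = y := rfl

theorem walkHi_succ (f q y : ℕ) : walkHi (f + 1) q y =
    cond (Nat.beq q 0) y (walkHi f (PP q) (tb (iv (GG q)) y)) := by
  show cond (Nat.beq q 0) y (force (tb (iv (GG q)) y) (fun y' => force (PP q) (fun q' => walkHi f q' y'))) = _
  rw [force_eq, force_eq]

theorem walkHi_lt (f q y : ℕ) (hy : y < 1408) : walkHi f q y < 1408 := by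
  induction f generalizing q y with
  | zero => exact hy
  | succ f ih =>
    rw [walkHi_succ]
    cases Nat.beq q 0
    · exact ih _ _ (tb_lt _ _ hy)
    · exact hy

theorem walkHi_base (y : ℕ) : walkHi 12 0 y = y := by
  rw [walkHi_succ]
  rfl

/-- The element of the walk. -/
noncomputable def hiE (x y z : G) : ℕ → ℕ → G
  | 0, _ => 1
  | f + 1, q => cond (Nat.beq q 0) 1 (hiE x y z f (PP q) * sl x y z (iv (GG q)))

/-- The data of the group. -/
structure Hx (Φ : G →* Equiv.Perm ℕ) (H : Subgroup G) (j : G) (Om c : ℕ → ℕ) (x y z t₀ : G) : Prop where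
  S : Sx Φ H j
  M : Mx Φ H Om c
  hsimple : IsSimpleGroup G
  hco : IsCoatom H
  hxm : x ∈ H
  hym : y ∈ H
  hzm : z ∈ H
  hzinv : z⁻¹ = z
  hact : ∀ l, l = 0 ∨ l = 2 ∨ l = 4 → ∀ q, q < 1408 → Φ (sl x y z l) (pts q) = pts (tb l q)
  hHact : ∀ h ∈ H, ∀ q, q < 1408 → ∃ q', q' < 1408 ∧ Φ h (pts q) = pts q'
  hj : j = x * x
  hj2 : j * j = 1
  ht0 : Φ t₀ 0 = pts 0
  hu : t₀ * j * t₀⁻¹ ∉ H
  hO1 : (Om 1).testBit (pts 0) = true
  hL : ∀ q, q < 1408 → L0 q < 9 ∧ (Om (L0 q)).testBit (Φ t₀⁻¹ (pts q)) = true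

section main

variable {Φ : G →* Equiv.Perm ℕ} {H : Subgroup G} {j : G} {Om c : ℕ → ℕ} {x y z t₀ : G}

theorem tb_inv1 {q : ℕ} (hq : q < 1408) : tb 0 (tb 1 q) = q := by
  have h := allB_spec _ _ _ (by norm_num) tb_inv_chk q hq
  rw [Bool.and_eq_true] at h
  exact Nat.eq_of_beq_eq_true h.1

theorem tb_inv3 {q : ℕ} (hq : q < 1408) : tb 2 (tb 3 q) = q := by
  have h := allB_spec _ _ _ (by norm_num) tb_inv_chk q hq
  rw [Bool.and_eq_true] at h
  exact Nat.eq_of_beq_eq_true h.2

theorem Hx.act (X : Hx Φ H j Om c x y z t₀) (l q : ℕ) (hq : q < 1408) :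
    Φ (sl x y z l) (pts q) = pts (tb l q) := by
  rcases Nat.lt_or_ge l 5 with h | h
  · interval_cases l
    · exact X.hact 0 (by simp) q hq
    · have e := X.hact 0 (by simp) (tb 1 q) (tb_lt _ _ hq)
      rw [tb_inv1 hq] at e
      have e2 : sl x y z 1 = (sl x y z 0)⁻¹ := rfl
      rw [e2, ← e, Phi_inv_self]
    · exact X.hact 2 (by simp) q hq
    · have e := X.hact 2 (by simp) (tb 3 q) (tb_lt _ _ hq)
      rw [tb_inv3 hq] at e
      have e2 : sl x y z 3 = (sl x y z 2)⁻¹ := rfl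
      rw [e2, ← e, Phi_inv_self]
    · exact X.hact 4 (by simp) q hq
  · have e1 : sl x y z l = sl x y z 4 := by rw [sl_big x y z (by omega : 4 ≤ l), sl_big x y z (le_refl 4)]
    have e2 : TT l = TT 4 := by rw [TT_big (by omega : 4 ≤ l), TT_big (le_refl 4)]
    have e3 : tb l q = tb 4 q := by simp only [tb, e2]
    rw [e1, e3]
    exact X.hact 4 (by simp) q hq

theorem Hx.sl_mem (X : Hx Φ H j Om c x y z t₀) (l : ℕ) : sl x y z l ∈ H := by
  unfold sl
  cases Nat.beq l 0
  · cases Nat.beq l 1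
    · cases Nat.beq l 2
      · cases Nat.beq l 3
        · exact X.hzm
        · exact H.inv_mem X.hym
      · exact X.hym
    · exact H.inv_mem X.hxm
  · exact X.hxm

theorem Hx.wval_mem (X : Hx Φ H j Om c x y z t₀) (w : List ℕ) : wval (sl x y z) w ∈ H := by
  induction w with
  | nil => exact H.one_mem
  | cons l w ih => exact H.mul_mem ih (X.sl_mem l)

theorem Hx.wval_act (X : Hx Φ H j Om c x y z t₀) (w : List ℕ) (q : ℕ) (hq : q < 1408) :
    Φ (wval (sl x y z) w) (pts q) = pts (ev w q) := by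
  induction w generalizing q with
  | nil =>
    show Φ 1 (pts q) = pts q
    simp
  | cons l w ih =>
    have e : ev (l :: w) q = force (tb l q) (walkF tb w) := rfl
    rw [e, force_eq]
    show Φ (wval (sl x y z) w * sl x y z l) (pts q) = _
    rw [Phi_mul, X.act l q hq, ih _ (tb_lt l q hq)]

theorem Hx.hiE_mem (X : Hx Φ H j Om c x y z t₀) (f q : ℕ) : hiE x y z f q ∈ H := by
  induction f generalizing q with
  | zero => exact H.one_mem
  | succ f ih =>
    simp only [hiE]
    cases Nat.beq q 0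
    · exact H.mul_mem (ih _) (X.sl_mem _)
    · exact H.one_mem

theorem Hx.hiE_act (X : Hx Φ H j Om c x y z t₀) (f q w : ℕ) (hw : w < 1408) :
    Φ (hiE x y z f q) (pts w) = pts (walkHi f q w) := by
  induction f generalizing q w with
  | zero => simp [hiE, walkHi_zero]
  | succ f ih =>
    rw [walkHi_succ]
    simp only [hiE]
    cases Nat.beq q 0
    · simp only [cond_false]
      rw [Phi_mul, X.act _ _ hw, ih _ _ (tb_lt _ _ hw)]
    · simp

theorem hi_to_zero {q : ℕ} (hq : q < 1408) : walkHi 12 q q = 0 :=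
  Nat.eq_of_beq_eq_true (allB_spec _ _ _ (by norm_num) hi_chk q hq)

/-- The element moving `0` to a point. -/
noncomputable def gP (x y z t₀ : G) (q : ℕ) : G := (hiE x y z 12 q)⁻¹ * t₀

theorem Hx.gP_act (X : Hx Φ H j Om c x y z t₀) {q : ℕ} (hq : q < 1408) : Φ (gP x y z t₀ q) 0 = pts q := by
  have h1 := X.hiE_act 12 q q hq
  rw [hi_to_zero hq] at h1
  rw [gP, Phi_mul, X.ht0, ← h1, Phi_inv_self]

/-- The map on the small orbit. -/
theorem Hx.exists_pi (X : Hx Φ H j Om c x y z t₀) {α : MulAut G} (hα : α j = j) {q : ℕ} (hq : q < 1408) :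
    ∃ q', q' < 1408 ∧ hat Φ α (pts q) = pts q' := by
  have h1 : (Om 1).testBit (pts q) = true := by
    rw [← X.gP_act hq, gP, Phi_mul, X.ht0, X.M.closed 1 (by norm_num) _ (H.inv_mem (X.hiE_mem _ _)), X.hO1]
  rw [← X.gP_act hq] at h1 ⊢
  have h2 := X.S.hat_om X.M hα (by norm_num) h1
  rw [X.S.hat_mk hα]
  obtain ⟨h3, h3m, h4⟩ := (X.M.mem_iff (by norm_num) X.hO1 _).mp h2
  obtain ⟨q', hq', h5⟩ := X.hHact h3 h3m 0 (by norm_num)
  exact ⟨q', hq', by rw [← h4, h5]⟩

/-- The labels are preserved. -/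
theorem Hx.lab (X : Hx Φ H j Om c x y z t₀) {α : MulAut G} (hα : α j = j) {a a' w w' : ℕ} (ha : a < 1408)
    (ha' : a' < 1408) (hw : w < 1408) (hw' : w' < 1408) (h1 : hat Φ α (pts a) = pts a')
    (h2 : hat Φ α (pts w) = pts w') : L0 (walkHi 12 a' w') = L0 (walkHi 12 a w) := by
  rw [← X.gP_act ha, ← X.gP_act ha', X.S.hat_mk hα] at h1
  have h3 := h2
  rw [← X.gP_act hw, X.S.hat_mk hα] at h3
  obtain ⟨hl1, hl2⟩ := X.hL _ (walkHi_lt 12 a w hw)
  obtain ⟨hl3, hl4⟩ := X.hL _ (walkHi_lt 12 a' w' hw')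
  have e1 : Φ (gP x y z t₀ a)⁻¹ (Φ (gP x y z t₀ w) 0) = Φ t₀⁻¹ (pts (walkHi 12 a w)) := by
    rw [X.gP_act hw, gP, mul_inv_rev, inv_inv, Phi_mul, X.hiE_act 12 a w hw]
  have e2 : Φ (gP x y z t₀ a')⁻¹ (pts w') = Φ t₀⁻¹ (pts (walkHi 12 a' w')) := by
    rw [gP, mul_inv_rev, inv_inv, Phi_mul, X.hiE_act 12 a' w' hw']
  rw [← e1] at hl2
  have h5 := X.S.lab_gen X.M hα h1 hl1 hl2
  rw [h3, e2] at h5
  exact X.M.disj hl3 hl1 hl4 h5

theorem walkF_nil' (y : ℕ) : ev [] y = y := rfl

/-- The element of order `11`. -/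
noncomputable def bE (x y z : G) : G := wval (sl x y z) bW

theorem bi_lt {q : ℕ} (hq : q < 1408) : bi q < 1408 := by
  have h := allB_spec _ _ _ (by norm_num) bi_chk q hq
  rw [Bool.and_eq_true] at h
  exact Nat.le_of_ble_eq_true h.1

theorem bi_inv {q : ℕ} (hq : q < 1408) : ev bW (bi q) = q := by
  have h := allB_spec _ _ _ (by norm_num) bi_chk q hq
  rw [Bool.and_eq_true] at h
  exact Nat.eq_of_beq_eq_true h.2

theorem Hx.bE_act (X : Hx Φ H j Om c x y z t₀) {q : ℕ} (hq : q < 1408) :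
    Φ (bE x y z) (pts q) = pts (ev bW q) := X.wval_act bW q hq

theorem Hx.bE_inv_act (X : Hx Φ H j Om c x y z t₀) {q : ℕ} (hq : q < 1408) :
    Φ (bE x y z)⁻¹ (pts q) = pts (bi q) := by
  have h := X.bE_act (bi_lt hq)
  rw [bi_inv hq] at h
  exact Phi_eq_inv h

theorem Hx.pi_bi (X : Hx Φ H j Om c x y z t₀) {α : MulAut G} (hα : α j = j) (hb : α (bE x y z) = bE x y z)
    {w w' : ℕ} (hw : w < 1408) (hw' : w' < 1408) (h : hat Φ α (pts w) = pts w') :
    hat Φ α (pts (bi w)) = pts (bi w') := by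
  rw [← X.bE_inv_act hw, ← X.gP_act hw, X.S.hat_smul hα, X.gP_act hw, h, map_inv, hb, X.bE_inv_act hw']

theorem Hx.pi_b (X : Hx Φ H j Om c x y z t₀) {α : MulAut G} (hα : α j = j) (hb : α (bE x y z) = bE x y z)
    {w w' : ℕ} (hw : w < 1408) (hw' : w' < 1408) (h : hat Φ α (pts w) = pts w') :
    hat Φ α (pts (ev bW w)) = pts (ev bW w') := by
  rw [← X.bE_act hw, ← X.gP_act hw, X.S.hat_smul hα, X.gP_act hw, h, hb, X.bE_act hw']

theorem vecM_cons (q d : ℕ) (ds : List ℕ) (y : ℕ) :
    vecM q (d :: ds) y = and (Nat.beq (L0 (walkHi 12 q y)) d) (vecM q ds (bi y)) := by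
  show and (Nat.beq (L0 (walkHi 12 q y)) d) (force (bi y) (vecM q ds)) = _
  rw [force_eq]

theorem Hx.vec (X : Hx Φ H j Om c x y z t₀) {α : MulAut G} (hα : α j = j) (hb : α (bE x y z) = bE x y z)
    {q : ℕ} (hq : q < 1408) (h0 : hat Φ α (pts 0) = pts q) (ds : List ℕ) {w w' : ℕ} (hw : w < 1408)
    (hw' : w' < 1408) (h : hat Φ α (pts w) = pts w') (hv : vecM 0 ds w = true) : vecM q ds w' = true := by
  induction ds generalizing w w' with
  | nil => rfl
  | cons d ds ih =>
    rw [vecM_cons, Bool.and_eq_true] at hv ⊢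
    have h1 : L0 (walkHi 12 q w') = L0 (walkHi 12 0 w) := X.lab hα (by norm_num) hq hw hw' h0 h
    refine ⟨?_, ih (bi_lt hw) (bi_lt hw') (X.pi_bi hα hb hw hw' h) hv.2⟩
    rw [h1]
    exact hv.1

theorem inL_spec {L : List ℕ} {y : ℕ} (h : inL L y = true) : y ∈ L := by
  induction L with
  | nil => exact absurd h (by simp [inL])
  | cons a L ih =>
    have h' : or (Nat.beq y a) (inL L y) = true := h
    rw [Bool.or_eq_true] at h'
    rcases h' with h1 | h1
    · rw [Nat.eq_of_beq_eq_true h1]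
      exact List.mem_cons_self
    · exact List.mem_cons_of_mem _ (ih h1)

theorem toB_spec (f y : ℕ) (h : toB f y = true) : ∃ m, inL Bs (bi^[m] y) = true := by
  induction f generalizing y with
  | zero => exact ⟨0, h⟩
  | succ f ih =>
    have h' : or (inL Bs y) (force (bi y) (toB f)) = true := h
    rw [force_eq, Bool.or_eq_true] at h'
    rcases h' with h1 | h1
    · exact ⟨0, h1⟩
    · obtain ⟨m, hm⟩ := ih _ h1
      exact ⟨m + 1, hm⟩

theorem allL_spec {L : List ℕ} {f : ℕ → Bool} (h : allL L f = true) : ∀ a ∈ L, f a = true := by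
  induction L with
  | nil => intro a ha; simp at ha
  | cons b L ih =>
    have h' : and (f b) (allL L f) = true := h
    rw [Bool.and_eq_true] at h'
    intro a ha
    rcases List.mem_cons.mp ha with rfl | h1
    · exact h'.1
    · exact ih h'.2 a h1

theorem allL_of {L : List ℕ} {f : ℕ → Bool} (h : ∀ a ∈ L, f a = true) : allL L f = true := by
  induction L with
  | nil => rfl
  | cons b L ih =>
    show and (f b) (allL L f) = true
    rw [Bool.and_eq_true]
    exact ⟨h b List.mem_cons_self, ih (fun a ha => h a (List.mem_cons_of_mem _ ha))⟩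

theorem Hx.j_mem (X : Hx Φ H j Om c x y z t₀) : j ∈ H := by
  rw [X.hj]
  exact H.mul_mem X.hxm X.hxm

theorem Hx.bE_mem (X : Hx Φ H j Om c x y z t₀) : bE x y z ∈ H := X.wval_mem bW

theorem Hx.j_act (X : Hx Φ H j Om c x y z t₀) {q : ℕ} (hq : q < 1408) : Φ j (pts q) = pts (tb 0 (tb 0 q)) := by
  have e1 : sl x y z 0 = x := rfl
  rw [X.hj, Phi_mul, ← e1, X.act 0 q hq, X.act 0 _ (tb_lt _ _ hq)]

/-- The power of the inverse of `b`. -/
theorem Hx.binv_pow_act (X : Hx Φ H j Om c x y z t₀) (m : ℕ) {q : ℕ} (hq : q < 1408) :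
    bi^[m] q < 1408 ∧ Φ ((bE x y z)⁻¹ ^ m) (pts q) = pts (bi^[m] q) := by
  induction m generalizing q with
  | zero => simp [hq]
  | succ m ih =>
    rw [Function.iterate_succ_apply]
    refine ⟨(ih (bi_lt hq)).1, ?_⟩
    rw [pow_succ, Phi_mul, X.bE_inv_act hq, (ih (bi_lt hq)).2]

/-- The normal form of an automorphism fixing `j` and `b`, at the base point. -/
theorem Hx.lemB (X : Hx Φ H j Om c x y z t₀) {α : MulAut G} (hα : α j = j) (hb : α (bE x y z) = bE x y z) :
    ∃ m e : ℕ, hat Φ (MulAut.conj (j ^ e * (bE x y z)⁻¹ ^ m) * α) (pts 0) = pts 0 ∨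
      hat Φ (MulAut.conj (j ^ e * (bE x y z)⁻¹ ^ m) * α) (pts 0) = pts 1 := by
  obtain ⟨q, hq, h0⟩ := X.exists_pi hα (q := 0) (by norm_num)
  have h1 := X.vec hα hb hq h0 V0 (by norm_num) hq h0 V0_chk
  have h2 : toB 10 q = true := by
    have h3 := allB_spec _ _ _ (by norm_num) pat_chk q hq
    rw [Bool.or_eq_true, h1] at h3
    rcases h3 with h3 | h3
    · exact absurd h3 (by simp)
    · exact h3
  obtain ⟨m, hm⟩ := toB_spec _ _ h2
  have hm' := inL_spec hm
  obtain ⟨hlt, hact⟩ := X.binv_pow_act m hq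
  set a := bi^[m] q with ha
  set d := (bE x y z)⁻¹ ^ m with hd
  have hdm : d ∈ H := H.pow_mem (H.inv_mem X.bE_mem) m
  have hpt : hat Φ (MulAut.conj d * α) (pts 0) = pts a := by
    rw [← X.gP_act (q := 0) (by norm_num)]
    rw [X.S.hat_comp hα (X.S.conj_fix hdm), X.gP_act (q := 0) (by norm_num), h0, ← X.gP_act hq,
      X.S.hat_conj hdm, X.gP_act hq, hact]
  have hfj : (MulAut.conj d * α) j = j := by
    rw [MulAut.mul_apply, hα, X.S.conj_fix hdm]
  have hfb : (MulAut.conj d * α) (bE x y z) = bE x y z := by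
    rw [MulAut.mul_apply, hb, MulAut.conj_apply, hd]
    have : Commute ((bE x y z)⁻¹ ^ m) (bE x y z) := ((Commute.refl _).inv_left).pow_left m
    rw [this.eq]
    group
  have hcase : inL [0, 1, 2, 4] a = true ∨ inL Ex a = true := by
    have := allL_spec Bs_chk a hm'
    rwa [Bool.or_eq_true] at this
  rcases hcase with hc | hc
  · have hc' := inL_spec hc
    simp only [List.mem_cons, List.not_mem_nil, or_false] at hc'
    have hmul : ∀ e : ℕ, MulAut.conj (j ^ e * d) * α = MulAut.conj (j ^ e) * (MulAut.conj d * α) := by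
      intro e
      rw [map_mul, mul_assoc]
    have hpj : j ^ 1 = j := pow_one j
    rcases hc' with e | e | e | e
    · exact ⟨m, 0, Or.inl (by rw [pow_zero, one_mul, hpt, e])⟩
    · exact ⟨m, 0, Or.inr (by rw [pow_zero, one_mul, hpt, e])⟩
    · refine ⟨m, 1, Or.inr ?_⟩
      rw [hpj]
      have hmul1 : MulAut.conj (j * d) * α = MulAut.conj j * (MulAut.conj d * α) := by
        rw [map_mul, mul_assoc]
      rw [hmul1, ← X.gP_act (q := 0) (by norm_num), X.S.hat_comp hfj (X.S.conj_fix X.j_mem),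
        X.gP_act (q := 0) (by norm_num), hpt, e, ← X.gP_act (q := 2) (by norm_num), X.S.hat_conj X.j_mem,
        X.gP_act (q := 2) (by norm_num), X.j_act (by norm_num)]
      have : tb 0 (tb 0 2) = 1 := by decide +kernel
      rw [this]
    · refine ⟨m, 1, Or.inl ?_⟩
      rw [hpj]
      have hmul1 : MulAut.conj (j * d) * α = MulAut.conj j * (MulAut.conj d * α) := by
        rw [map_mul, mul_assoc]
      rw [hmul1, ← X.gP_act (q := 0) (by norm_num), X.S.hat_comp hfj (X.S.conj_fix X.j_mem),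
        X.gP_act (q := 0) (by norm_num), hpt, e, ← X.gP_act (q := 4) (by norm_num), X.S.hat_conj X.j_mem,
        X.gP_act (q := 4) (by norm_num), X.j_act (by norm_num)]
      have : tb 0 (tb 0 4) = 0 := by decide +kernel
      rw [this]
  · exfalso
    have hEx := inL_spec hc
    have h5 := allL_spec Ex_chk a hEx
    obtain ⟨y', hy', hpi⟩ := X.exists_pi hfj (q := 3) (by norm_num)
    have h6 := X.vec hfj hfb hlt hpt V3 (by norm_num) hy' hpi V3_chk
    have h7 := allB_spec _ _ _ (by norm_num) h5 y' hy'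
    rw [h6] at h7
    exact absurd h7 (by simp)

/-- A fixed point is determined by the labels. -/
theorem Hx.ext_step (X : Hx Φ H j Om c x y z t₀) {α : MulAut G} (hα : α j = j) {L : List ℕ} {e : ℕ}
    (he : e < 1408) (hchk : allB 1408 11 (fun w => or (not (cmpF L e w)) (Nat.beq w e)) = true)
    (hL : ∀ a ∈ L, a < 1408 ∧ hat Φ α (pts a) = pts a) : hat Φ α (pts e) = pts e := by
  obtain ⟨e', he', h⟩ := X.exists_pi hα he
  have h1 : cmpF L e e' = true := by
    apply allL_of
    intro a ha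
    obtain ⟨h2, h3⟩ := hL a ha
    rw [X.lab hα h2 h2 he he' h3 h]
    exact Nat.beq_refl _
  have h2 := allB_spec _ _ _ (by norm_num) hchk e' he'
  rw [Bool.or_eq_true, h1] at h2
  rcases h2 with h3 | h3
  · exact absurd h3 (by simp)
  · rw [h, Nat.eq_of_beq_eq_true h3]

theorem Hx.code_eq (X : Hx Φ H j Om c x y z t₀) {α : MulAut G} (hα : α j = j) (L : List ℕ)
    (hL : ∀ a ∈ L, a < 1408 ∧ hat Φ α (pts a) = pts a) {w w' : ℕ} (hw : w < 1408) (hw' : w' < 1408)
    (h : hat Φ α (pts w) = pts w') : codeF L w' = codeF L w := by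
  induction L with
  | nil => rfl
  | cons a L ih =>
    show Nat.add (L0 (walkHi 12 a w')) (Nat.mul 16 (codeF L w')) = Nat.add (L0 (walkHi 12 a w)) (Nat.mul 16 (codeF L w))
    obtain ⟨h2, h3⟩ := hL a List.mem_cons_self
    rw [X.lab hα h2 h2 hw hw' h3 h, ih (fun b hb => hL b (List.mem_cons_of_mem _ hb))]

theorem Hx.eq_one_of_pts (X : Hx Φ H j Om c x y z t₀) {α : MulAut G} (hα : α j = j)
    (h : ∀ q, q < 1408 → hat Φ α (pts q) = pts q) : α = 1 := by
  have := X.hsimple
  refine X.S.eq_one_of_fix X.hco {p | ∃ q, q < 1408 ∧ p = pts q} ?_ (g₀ := t₀) ?_ X.hu hα ?_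
  · rintro h1 h1m p ⟨q, hq, rfl⟩
    obtain ⟨q', hq', e⟩ := X.hHact h1 h1m q hq
    exact ⟨q', hq', e⟩
  · exact ⟨0, by norm_num, X.ht0⟩
  · rintro g ⟨q, hq, e⟩
    have := h q hq
    rw [← e, X.S.hat_mk hα] at this
    exact this

/-- The center of the group is trivial. -/
theorem Hx.center_eq (X : Hx Φ H j Om c x y z t₀) {w : G} (hw : ∀ g, w * g = g * w) : w = 1 := by
  have := X.hsimple
  have hc : w ∈ Subgroup.center G := Subgroup.mem_center_iff.mpr (fun g => (hw g).symm)
  rcases (Subgroup.center G).normal_of_characteristic.eq_bot_or_eq_top with h0 | h0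
  · rw [h0] at hc
    exact hc
  · exfalso
    have hj : j ∈ Subgroup.center G := by rw [h0]; trivial
    apply X.hu
    have e : t₀ * j * t₀⁻¹ = j := by
      rw [Subgroup.mem_center_iff.mp hj t₀]
      group
    rw [e]
    exact X.j_mem

/-- Elements of `H` are determined by their action on the small orbit. -/
theorem Hx.eq_of_act (X : Hx Φ H j Om c x y z t₀) {h₁ h₂ : G} (h1 : h₁ ∈ H) (h2 : h₂ ∈ H)
    (h : ∀ q, q < 1408 → Φ h₁ (pts q) = Φ h₂ (pts q)) : h₁ = h₂ := by
  have hm : h₂⁻¹ * h₁ ∈ H := H.mul_mem (H.inv_mem h2) h1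
  have h3 : MulAut.conj (h₂⁻¹ * h₁) = 1 := by
    apply X.eq_one_of_pts (X.S.conj_fix hm)
    intro q hq
    rw [← X.gP_act hq, X.S.hat_conj hm, X.gP_act hq, Phi_mul, h q hq, Phi_inv_self]
  have h4 : h₂⁻¹ * h₁ = 1 := by
    apply X.center_eq
    intro g
    have := congrArg (fun f : MulAut G => f g) h3
    simp only [MulAut.conj_apply, MulAut.one_apply] at this
    exact mul_inv_eq_iff_eq_mul.mp this
  exact (inv_mul_eq_one.mp h4).symm

/-- An automorphism fixing `j`, `b` and the base point is trivial. -/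
theorem Hx.lemC (X : Hx Φ H j Om c x y z t₀) {α : MulAut G} (hα : α j = j) (hb : α (bE x y z) = bE x y z)
    (h0 : hat Φ α (pts 0) = pts 0) : α = 1 := by
  have hcy : ∀ a, a < 1408 → hat Φ α (pts a) = pts a → hat Φ α (pts (ev bW a)) = pts (ev bW a) := fun a ha h =>
    X.pi_b hα hb ha ha h
  have hFlt : ∀ a ∈ FF, a < 1408 := by decide +kernel
  have h11 : ∀ a ∈ FF.take 11, hat Φ α (pts a) = pts a := by
    have e : FF.take 11 = Fc := rfl
    rw [e, Fc_chk]
    have hi : ∀ a, a < 1408 → hat Φ α (pts a) = pts a → ev bW a < 1408 ∧ hat Φ α (pts (ev bW a)) = pts (ev bW a) :=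
      fun a ha h => ⟨ev_lt _ _ ha, hcy a ha h⟩
    have p0 : (0 : ℕ) < 1408 ∧ hat Φ α (pts 0) = pts 0 := ⟨by norm_num, h0⟩
    have p1 := hi _ p0.1 p0.2
    have p2 := hi _ p1.1 p1.2
    have p3 := hi _ p2.1 p2.2
    have p4 := hi _ p3.1 p3.2
    have p5 := hi _ p4.1 p4.2
    have p6 := hi _ p5.1 p5.2
    have p7 := hi _ p6.1 p6.2
    have p8 := hi _ p7.1 p7.2
    have p9 := hi _ p8.1 p8.2
    have p10 := hi _ p9.1 p9.2
    intro a ha
    simp only [List.mem_cons, List.not_mem_nil, or_false] at ha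
    rcases ha with rfl | rfl | rfl | rfl | rfl | rfl | rfl | rfl | rfl | rfl | rfl
    exacts [p0.2, p1.2, p2.2, p3.2, p4.2, p5.2, p6.2, p7.2, p8.2, p9.2, p10.2]
  have h12 : ∀ a ∈ FF.take 12, hat Φ α (pts a) = pts a := by
    have e1 : FF.take 12 = FF.take 11 ++ [191] := by decide +kernel
    intro a ha
    rw [e1, List.mem_append, List.mem_singleton] at ha
    rcases ha with ha | rfl
    · exact h11 a ha
    · exact X.ext_step hα (by norm_num) ext0_chk (fun b hb => ⟨hFlt b (List.mem_of_mem_take hb), h11 b hb⟩)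
  have h13 : ∀ a ∈ FF.take 13, hat Φ α (pts a) = pts a := by
    have e1 : FF.take 13 = FF.take 12 ++ [418] := by decide +kernel
    intro a ha
    rw [e1, List.mem_append, List.mem_singleton] at ha
    rcases ha with ha | rfl
    · exact h12 a ha
    · exact X.ext_step hα (by norm_num) ext1_chk (fun b hb => ⟨hFlt b (List.mem_of_mem_take hb), h12 b hb⟩)
  have h14 : ∀ a ∈ FF.take 14, hat Φ α (pts a) = pts a := by
    have e1 : FF.take 14 = FF.take 13 ++ [826] := by decide +kernel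
    intro a ha
    rw [e1, List.mem_append, List.mem_singleton] at ha
    rcases ha with ha | rfl
    · exact h13 a ha
    · exact X.ext_step hα (by norm_num) ext2_chk (fun b hb => ⟨hFlt b (List.mem_of_mem_take hb), h13 b hb⟩)
  have h15 : ∀ a ∈ FF.take 15, hat Φ α (pts a) = pts a := by
    have e1 : FF.take 15 = FF.take 14 ++ [1122] := by decide +kernel
    intro a ha
    rw [e1, List.mem_append, List.mem_singleton] at ha
    rcases ha with ha | rfl
    · exact h14 a ha
    · exact X.ext_step hα (by norm_num) ext3_chk (fun b hb => ⟨hFlt b (List.mem_of_mem_take hb), h14 b hb⟩)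
  have h16 : ∀ a ∈ FF.take 16, hat Φ α (pts a) = pts a := by
    have e1 : FF.take 16 = FF.take 15 ++ [763] := by decide +kernel
    intro a ha
    rw [e1, List.mem_append, List.mem_singleton] at ha
    rcases ha with ha | rfl
    · exact h15 a ha
    · exact X.ext_step hα (by norm_num) ext4_chk (fun b hb => ⟨hFlt b (List.mem_of_mem_take hb), h15 b hb⟩)
  have h17 : ∀ a ∈ FF.take 17, hat Φ α (pts a) = pts a := by
    have e1 : FF.take 17 = FF.take 16 ++ [8] := by decide +kernel
    intro a ha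
    rw [e1, List.mem_append, List.mem_singleton] at ha
    rcases ha with ha | rfl
    · exact h16 a ha
    · exact X.ext_step hα (by norm_num) ext5_chk (fun b hb => ⟨hFlt b (List.mem_of_mem_take hb), h16 b hb⟩)
  have h18 : ∀ a ∈ FF.take 18, hat Φ α (pts a) = pts a := by
    have e1 : FF.take 18 = FF.take 17 ++ [36] := by decide +kernel
    intro a ha
    rw [e1, List.mem_append, List.mem_singleton] at ha
    rcases ha with ha | rfl
    · exact h17 a ha
    · exact X.ext_step hα (by norm_num) ext6_chk (fun b hb => ⟨hFlt b (List.mem_of_mem_take hb), h17 b hb⟩)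
  have hall : ∀ a ∈ FF, a < 1408 ∧ hat Φ α (pts a) = pts a := by
    have e : FF = FF.take 18 := by decide +kernel
    intro a ha
    exact ⟨hFlt a ha, h18 a (by rw [← e]; exact ha)⟩
  apply X.eq_one_of_pts hα
  intro q hq
  obtain ⟨q', hq', h⟩ := X.exists_pi hα hq
  have h1 := X.code_eq hα FF hall hq hq' h
  have h2 : q' = q := by
    refine Cfsg.Agent.Lib.TableIso.inj_of_sorted (N := 1408) (code := codeF FF) (so := so) ?_ ?_ hq' hq h1
    · intro i hi
      have h3 := allB_spec _ _ _ (by norm_num) so_chk i hi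
      rw [Bool.and_eq_true] at h3
      exact Nat.le_of_ble_eq_true h3.1
    · intro i hi
      have h3 := allB_spec _ _ _ (by norm_num) so_chk i (by omega)
      rw [Bool.and_eq_true, Bool.or_eq_true] at h3
      rcases h3.2 with h4 | h4
      · have := Nat.eq_of_beq_eq_true h4
        omega
      · exact Nat.le_of_ble_eq_true h4
  rw [h, h2]

/-- Automorphisms fixing `j` and `b`. -/
theorem Hx.main_fix (X : Hx Φ H j Om c x y z t₀) {σ : MulAut G} (hσj : σ j = j)
    (hσb : σ (bE x y z) = bE x y z) (hσ0 : hat Φ σ (pts 0) = pts 1)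
    {α : MulAut G} (hα : α j = j) (hb : α (bE x y z) = bE x y z) :
    ∃ m e : ℕ, MulAut.conj (j ^ e * (bE x y z)⁻¹ ^ m) * α = 1 ∨
      MulAut.conj (j ^ e * (bE x y z)⁻¹ ^ m) * α = σ := by
  obtain ⟨m, e, h⟩ := X.lemB hα hb
  refine ⟨m, e, ?_⟩
  set d := j ^ e * (bE x y z)⁻¹ ^ m with hd
  have hcb : Commute j (bE x y z) := by
    have := (X.S.cent _).mp X.bE_mem
    exact this.symm
  have hdm : d ∈ H := H.mul_mem (H.pow_mem X.j_mem _) (H.pow_mem (H.inv_mem X.bE_mem) _)
  have hdb : d * bE x y z = bE x y z * d := by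
    have h1 : Commute (j ^ e) (bE x y z) := hcb.pow_left e
    have h2 : Commute ((bE x y z)⁻¹ ^ m) (bE x y z) := ((Commute.refl _).inv_left).pow_left m
    exact (h1.mul_left h2).eq
  have hfj : (MulAut.conj d * α) j = j := by
    rw [MulAut.mul_apply, hα, X.S.conj_fix hdm]
  have hfb : (MulAut.conj d * α) (bE x y z) = bE x y z := by
    rw [MulAut.mul_apply, hb, MulAut.conj_apply, hdb, mul_inv_cancel_right]
  rcases h with h | h
  · exact Or.inl (X.lemC hfj hfb h)
  · right
    have hfj2 : (σ⁻¹ * (MulAut.conj d * α)) j = j := by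
      rw [MulAut.mul_apply, hfj, inv_fix hσj]
    have hfb2 : (σ⁻¹ * (MulAut.conj d * α)) (bE x y z) = bE x y z := by
      rw [MulAut.mul_apply, hfb, MulAut.inv_def]
      exact σ.symm_apply_eq.mpr hσb.symm
    have h3 : σ⁻¹ * (MulAut.conj d * α) = 1 := by
      apply X.lemC hfj2 hfb2
      rw [← X.gP_act (q := 0) (by norm_num), X.S.hat_comp hfj (inv_fix hσj), X.gP_act (q := 0) (by norm_num), h]
      rw [← hσ0, ← X.gP_act (q := 0) (by norm_num), X.S.hat_inv_apply hσj]
    rw [inv_mul_eq_one] at h3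
    exact h3.symm

/-! ### A stabilizer chain -/

/-- The stabilizer of some points. -/
def Sl (Φ : G →* Equiv.Perm ℕ) (H : Subgroup G) (A : List ℕ) : Subgroup G where
  carrier := {g | g ∈ H ∧ ∀ a ∈ A, Φ g (pts a) = pts a}
  mul_mem' := by
    rintro g g' ⟨h1, h2⟩ ⟨h3, h4⟩
    refine ⟨H.mul_mem h1 h3, fun a ha => ?_⟩
    rw [Phi_mul, h4 a ha, h2 a ha]
  one_mem' := ⟨H.one_mem, fun a _ => by simp⟩
  inv_mem' := by
    rintro g ⟨h1, h2⟩
    refine ⟨H.inv_mem h1, fun a ha => ?_⟩
    exact Phi_eq_inv (h2 a ha)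

theorem Sl_step [Finite G] {A : List ℕ} {a : ℕ} {T : Finset ℕ}
    (hT : ∀ i ∈ T, ∃ g ∈ Sl Φ H A, Φ g (pts a) = i) :
    T.card * Nat.card (Sl Φ H (a :: A)) ≤ Nat.card (Sl Φ H A) := by
  refine card_step_G (Φ := Φ) (p := pts a) ?_ ?_ hT
  · rintro g ⟨h1, h2⟩
    exact ⟨h1, fun b hb => h2 b (List.mem_cons_of_mem _ hb)⟩
  · rintro g ⟨-, h2⟩
    exact h2 a List.mem_cons_self

theorem Hx.Sl_words [Finite G] (X : Hx Φ H j Om c x y z t₀) {A : List ℕ} {a : ℕ} {Ws : List (List ℕ)}
    (h1 : ∀ w ∈ Ws, ∀ b ∈ A, ev w b = b) (hA : ∀ b ∈ A, b < 1408) (ha : a < 1408)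
    (h2 : (Ws.map (fun w => pts (ev w a))).Nodup) :
    Ws.length * Nat.card (Sl Φ H (a :: A)) ≤ Nat.card (Sl Φ H A) := by
  classical
  have h3 : (Ws.map (fun w => pts (ev w a))).toFinset.card = Ws.length := by
    rw [List.toFinset_card_of_nodup h2, List.length_map]
  rw [← h3]
  apply Sl_step
  intro i hi
  rw [List.mem_toFinset, List.mem_map] at hi
  obtain ⟨w, hw, rfl⟩ := hi
  refine ⟨wval (sl x y z) w, ⟨X.wval_mem w, fun b hb => ?_⟩, X.wval_act w a ha⟩
  rw [X.wval_act w b (hA b hb), h1 w hw b hb]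

theorem pts_inj {a b : ℕ} (ha : a < 1408) (hb : b < 1408) (h : pts a = pts b) : a = b := by
  refine Cfsg.Agent.Lib.TableIso.inj_of_sorted (N := 1408) (code := pts) (so := sop) ?_ ?_ ha hb h
  · intro i hi
    have h3 := allB_spec _ _ _ (by norm_num) sop_chk i hi
    rw [Bool.and_eq_true] at h3
    exact Nat.le_of_ble_eq_true h3.1
  · intro i hi
    have h3 := allB_spec _ _ _ (by norm_num) sop_chk i (by omega)
    rw [Bool.and_eq_true, Bool.or_eq_true] at h3
    rcases h3.2 with h4 | h4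
    · have := Nat.eq_of_beq_eq_true h4
      omega
    · exact Nat.le_of_ble_eq_true h4

theorem Hx.Sl_bot [Finite G] (X : Hx Φ H j Om c x y z t₀) (hH : Nat.card H = 177408000) {g : G}
    (hg : g ∈ Sl Φ H [517, 910, 13, 45, 254, 661, 0]) : g = 1 := by
  classical
  have e0 : Sl Φ H [] = H := by
    ext g
    constructor
    · exact fun h => h.1
    · exact fun h => ⟨h, fun a ha => absurd ha (by simp)⟩
  have s0 : 1408 * Nat.card (Sl Φ H [0]) ≤ Nat.card H := by
    have h3 : ((Finset.range 1408).image pts).card = 1408 := by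
      rw [Finset.card_image_of_injOn]
      · simp
      · intro a ha b hb h
        exact pts_inj (by simpa using ha) (by simpa using hb) h
    have step := Sl_step (Φ := Φ) (H := H) (A := []) (a := 0) (T := (Finset.range 1408).image pts) (by
      intro i hi
      rw [Finset.mem_image] at hi
      obtain ⟨q, hq, rfl⟩ := hi
      have hq' : q < 1408 := by simpa using hq
      have h1 := X.hiE_act 12 q q hq'
      rw [hi_to_zero hq'] at h1
      exact ⟨(hiE x y z 12 q)⁻¹, ⟨H.inv_mem (X.hiE_mem _ _), fun a ha => absurd ha (by simp)⟩, Phi_eq_inv h1⟩)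
    rw [h3, e0] at step
    exact step
  have s1 := X.Sl_words (A := [0]) (a := 661) lv1_chk (by decide) (by norm_num) lv1_nd
  have s2 := X.Sl_words (A := [661, 0]) (a := 254) lv2_chk (by decide) (by norm_num) lv2_nd
  have s3 := X.Sl_words (A := [254, 661, 0]) (a := 45) lv3_chk (by decide) (by norm_num) lv3_nd
  have s4 := X.Sl_words (A := [45, 254, 661, 0]) (a := 13) lv4_chk (by decide) (by norm_num) lv4_nd
  have s5 := X.Sl_words (A := [13, 45, 254, 661, 0]) (a := 910) lv5_chk (by decide) (by norm_num) lv5_nd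
  have s6 := X.Sl_words (A := [910, 13, 45, 254, 661, 0]) (a := 517) lv6_chk (by decide) (by norm_num) lv6_nd
  rw [lv1_len] at s1
  rw [lv2_len] at s2
  rw [lv3_len] at s3
  rw [lv4_len] at s4
  rw [lv5_len] at s5
  rw [lv6_len] at s6
  have hfin := Nat.card_pos (α := Sl Φ H [517, 910, 13, 45, 254, 661, 0])
  have hle : Nat.card (Sl Φ H [517, 910, 13, 45, 254, 661, 0]) ≤ 1 := by
    rw [hH] at s0
    omega
  have hsub : Subsingleton (Sl Φ H [517, 910, 13, 45, 254, 661, 0]) :=
    (Finite.card_le_one_iff_subsingleton).mp hle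
  have e := hsub.elim ⟨g, hg⟩ 1
  exact congrArg Subtype.val e

/-! ### The outer automorphism group -/

variable {σ : MulAut G}

theorem sgL_wval (hσx : σ x = x) (hσy : σ y = y) (hσz : σ z = z * x * x) (l : ℕ) :
    σ (sl x y z l) = wval (sl x y z) (sgL l) := by
  rcases Nat.lt_or_ge l 4 with h | h
  · have e : sgL l = [l] := by
      interval_cases l <;> rfl
    rw [e]
    show _ = 1 * sl x y z l
    rw [one_mul]
    interval_cases l
    · exact hσx
    · show σ x⁻¹ = x⁻¹
      rw [map_inv, hσx]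
    · exact hσy
    · show σ y⁻¹ = y⁻¹
      rw [map_inv, hσy]
  · have e : sgL l = [0, 0, 4] := by
      unfold sgL
      rw [Nat.ble_eq_true_of_le h]
      rfl
    rw [e, sl_big x y z h, hσz]
    show _ = 1 * sl x y z 4 * sl x y z 0 * sl x y z 0
    rw [one_mul]
    rfl

theorem sgW_wval (hσx : σ x = x) (hσy : σ y = y) (hσz : σ z = z * x * x) (w : List ℕ) :
    σ (wval (sl x y z) w) = wval (sl x y z) (sgW w) := by
  induction w with
  | nil =>
    show σ 1 = 1
    rw [map_one]
  | cons l w ih =>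
    have e : sgW (l :: w) = sgL l ++ sgW w := rfl
    rw [e, wval_append, ← ih, ← sgL_wval hσx hσy hσz l]
    show σ (wval (sl x y z) w * sl x y z l) = _
    rw [map_mul]

theorem Hx.sigma_not_inner [Finite G] (X : Hx Φ H j Om c x y z t₀) (hH : Nat.card H = 177408000)
    (hσx : σ x = x) (hσy : σ y = y) (hσz : σ z = z * x * x) (hσ0 : hat Φ σ (pts 0) = pts 1) :
    σ ∉ Cfsg.Inn G := by
  rintro ⟨c₁, hc⟩
  have hσj : σ j = j := by rw [X.hj, map_mul, hσx]
  have hcH : c₁ ∈ H := by
    rw [X.S.cent]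
    have h1 : c₁ * j * c₁⁻¹ = j := by
      have hc' : (MulAut.conj c₁ : MulAut G) = σ := hc
      have h2 : (MulAut.conj c₁ : MulAut G) j = j := by rw [hc']; exact hσj
      rwa [MulAut.conj_apply] at h2
    exact mul_inv_eq_iff_eq_mul.mp h1
  set E := wval (sl x y z) hsW with hE
  have key : ∀ i, i < 7 → Φ (E * c₁) (pts (Tu.getD i 0)) = pts (Tu.getD i 0) := by
    intro i hi
    have h := allB_spec _ _ _ (by norm_num) tu_chk i hi
    simp only [Bool.and_eq_true] at h
    obtain ⟨h1, h2, h3, h4⟩ := h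
    have h1' := Nat.eq_of_beq_eq_true h1
    have h2' := Nat.eq_of_beq_eq_true h2
    have h3' := Nat.eq_of_beq_eq_true h3
    have h4' := Nat.le_of_ble_eq_true h4
    have hlt : Tu.getD i 0 < 1408 := by
      interval_cases i <;> decide
    set a := Tu.getD i 0 with ha
    set w := TuW.getD i [] with hw
    set a2 := TuS.getD i 0 with ha2
    have e1 : Φ (wval (sl x y z) w) (pts a) = pts 0 := by
      rw [X.wval_act w a hlt, h1']
    have e2 : hat Φ σ (pts a) = pts a2 := by
      have e3 : hat Φ σ (Φ (wval (sl x y z) w) (pts a)) = Φ (σ (wval (sl x y z) w)) (hat Φ σ (pts a)) := by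
        rw [← X.gP_act hlt, X.S.hat_smul hσj]
      rw [e1, hσ0] at e3
      have e4 : Φ (σ (wval (sl x y z) w)) (pts a2) = pts 1 := by
        rw [sgW_wval hσx hσy hσz, X.wval_act _ _ h4', h2']
      rw [← e4] at e3
      exact ((Φ _).injective e3).symm
    have e5 : hat Φ σ (pts a) = Φ c₁ (pts a) := by
      rw [← X.gP_act hlt, ← hc, X.S.hat_conj hcH]
    rw [Phi_mul, ← e5, e2, hE, X.wval_act _ _ h4', h3']
  have hm : E * c₁ ∈ Sl Φ H [517, 910, 13, 45, 254, 661, 0] := by
    refine ⟨H.mul_mem (X.wval_mem _) hcH, fun a ha => ?_⟩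
    simp only [List.mem_cons, List.not_mem_nil, or_false] at ha
    rcases ha with rfl | rfl | rfl | rfl | rfl | rfl | rfl
    · exact key 6 (by norm_num)
    · exact key 5 (by norm_num)
    · exact key 4 (by norm_num)
    · exact key 3 (by norm_num)
    · exact key 2 (by norm_num)
    · exact key 1 (by norm_num)
    · exact key 0 (by norm_num)
  have h1 := X.Sl_bot hH hm
  have h2 : c₁ = E⁻¹ := (mul_eq_one_iff_eq_inv'.mp h1)
  have h3 : E⁻¹ * x * E = x := by
    have hc' : (MulAut.conj c₁ : MulAut G) = σ := hc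
    have h4 : (MulAut.conj c₁ : MulAut G) x = x := by rw [hc']; exact hσx
    rw [MulAut.conj_apply, h2, inv_inv] at h4
    exact h4
  have h5 : x * E = E * x := by
    calc x * E = E * (E⁻¹ * x * E) := by group
      _ = E * x := by rw [h3]
  have h6 : Φ (x * E) (pts 7) = Φ (E * x) (pts 7) := by rw [h5]
  have e1 : sl x y z 0 = x := rfl
  rw [Phi_mul, Phi_mul, ← e1, X.act 0 _ (by norm_num), hE, X.wval_act _ _ (tb_lt _ _ (by norm_num)),
    X.wval_act _ _ (by norm_num), X.act 0 _ (ev_lt _ _ (by norm_num))] at h6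
  have h7 := pts_inj (tb_lt _ _ (ev_lt _ _ (by norm_num))) (ev_lt _ _ (tb_lt _ _ (by norm_num))) h6
  have h8 := hz_chk
  rw [h7.symm] at h8
  exact absurd (Nat.beq_refl _) (by rw [h8]; simp)

theorem wval_replicate (s : ℕ → G) (w : List ℕ) (n : ℕ) :
    wval s (List.replicate n w).flatten = wval s w ^ n := by
  induction n with
  | zero =>
    rw [pow_zero]
    rfl
  | succ n ih =>
    rw [List.replicate_succ, List.flatten_cons, wval_append, ih, pow_succ]

theorem conj_pow_two {v b : G} (hv : v * b = b * b * v) (k : ℕ) : v * b ^ k * v⁻¹ = b ^ (k * 2) := by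
  have h1 : v * b * v⁻¹ = b ^ 2 := by
    rw [hv, pow_two, mul_inv_cancel_right]
  rw [mul_comm k 2, pow_mul, ← h1, conj_pow]

theorem conj_pow_two_iter {v b : G} (hv : v * b = b * b * v) (e k : ℕ) :
    v ^ e * b ^ k * (v ^ e)⁻¹ = b ^ (k * 2 ^ e) := by
  induction e generalizing k with
  | zero => simp
  | succ e ih =>
    have e1 : v ^ (e + 1) * b ^ k * (v ^ (e + 1))⁻¹ = v ^ e * (v * b ^ k * v⁻¹) * (v ^ e)⁻¹ := by
      rw [pow_succ]
      group
    rw [e1, conj_pow_two hv, ih, pow_succ]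
    congr 1
    ring

theorem exists_exp : ∀ k, k < 11 → 0 < k → ∃ e, e < 10 ∧ (k * 2 ^ e) % 11 = 1 := by decide

/-- The order of the outer automorphism group. -/
theorem Hx.out_two [Finite G] (X : Hx Φ H j Om c x y z t₀) (hG : Nat.card G = 273030912000000)
    (hH : Nat.card H = 177408000) (hσx : σ x = x) (hσy : σ y = y) (hσz : σ z = z * x * x)
    (hσ0 : hat Φ σ (pts 0) = pts 1) (hO0 : ∀ i, (Om 0).testBit i = true → i = 0)
    (hdiv : ∀ ℓ, ℓ < 9 → ℓ ≠ 0 → ¬ (11 * c ℓ ∣ 177408000)) : Nat.card (Cfsg.Out G) = 2 := by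
  have : Fact (Nat.Prime 11) := ⟨by norm_num⟩
  set b := bE x y z with hb
  have hσj : σ j = j := by rw [X.hj, map_mul, hσx]
  have hbm : b ∈ H := X.bE_mem
  have hσb : σ b = b := by
    rw [hb, bE, sgW_wval hσx hσy hσz]
    apply X.eq_of_act (X.wval_mem _) (X.wval_mem _)
    intro q hq
    rw [X.wval_act _ _ hq, X.wval_act _ _ hq, Nat.eq_of_beq_eq_true (allB_spec _ _ _ (by norm_num) bs_chk q hq)]
  have hb11 : b ^ 11 = 1 := by
    apply X.eq_of_act (H.pow_mem hbm _) H.one_mem
    intro q hq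
    rw [hb, bE, ← wval_replicate, X.wval_act _ _ hq, Nat.eq_of_beq_eq_true (allB_spec _ _ _ (by norm_num) b11_chk q hq),
      map_one, Equiv.Perm.one_apply]
  have hb1 : b ≠ 1 := by
    intro h
    have h1 : Φ b (pts 0) = pts 0 := by rw [h, map_one, Equiv.Perm.one_apply]
    rw [hb, X.bE_act (by norm_num)] at h1
    have h2 := pts_inj (ev_lt _ _ (by norm_num)) (by norm_num) h1
    revert h2
    decide +kernel
  have hord : orderOf b = 11 := orderOf_eq_prime hb11 hb1
  set v := wval (sl x y z) vW with hv0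
  have hv : v * b = b * b * v := by
    apply X.eq_of_act (H.mul_mem (X.wval_mem _) hbm) (H.mul_mem (H.mul_mem hbm hbm) (X.wval_mem _))
    intro q hq
    have h1 := Nat.eq_of_beq_eq_true (allB_spec _ _ _ (by norm_num) v_chk q hq)
    have e1 : v * b = wval (sl x y z) (bW ++ vW) := by rw [wval_append]; rfl
    have e2 : b * b * v = wval (sl x y z) (vW ++ bW ++ bW) := by
      rw [wval_append, wval_append, mul_assoc]
      rfl
    rw [e1, e2, X.wval_act _ _ hq, X.wval_act _ _ hq, h1]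
  have hjb : j * b = b * j := ((X.S.cent b).mp hbm).symm
  have hj1 : j ≠ 1 := by
    intro h
    have h1 : Φ j (pts 0) = pts 0 := by rw [h, map_one, Equiv.Perm.one_apply]
    rw [X.j_act (by norm_num)] at h1
    have h2 := pts_inj (tb_lt _ _ (tb_lt _ _ (by norm_num))) (by norm_num) h1
    revert h2
    decide +kernel
  have hni := X.sigma_not_inner hH hσx hσy hσz hσ0
  have hfix : ∀ g, Φ b (Φ g 0) = Φ g 0 → Φ g 0 = 0 := by
    intro g hg
    obtain ⟨ℓ, hℓ, h1⟩ := X.M.cover g
    by_cases h0 : ℓ = 0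
    · subst h0
      exact hO0 _ h1
    · exfalso
      have h2 := X.M.div_of_fix hℓ h1 hbm hg
      rw [hord, hH] at h2
      exact hdiv ℓ hℓ h0 h2
  have hinvol : ∀ i : G, i * i = 1 → i ≠ 1 → i * b = b * i → i = j := by
    intro i hi1 hi2 hib
    have hi0 : Φ i 0 = 0 := by
      apply hfix
      rw [← Phi_mul, ← hib, Phi_mul, (X.S.stab b).mpr hbm]
    have hiH : i ∈ H := (X.S.stab i).mp hi0
    have hαj := X.S.conj_fix hiH
    have hαb : (MulAut.conj i : MulAut G) b = b := by
      rw [MulAut.conj_apply, hib, mul_inv_cancel_right]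
    obtain ⟨m, e, h⟩ := X.main_fix hσj hσb hσ0 hαj hαb
    have hmul : MulAut.conj (j ^ e * (bE x y z)⁻¹ ^ m) * (MulAut.conj i : MulAut G) =
        MulAut.conj (j ^ e * (bE x y z)⁻¹ ^ m * i) := by rw [map_mul (MulAut.conj) (j ^ e * (bE x y z)⁻¹ ^ m) i]
    rw [hmul] at h
    rcases h with h | h
    · have h1 : j ^ e * b⁻¹ ^ m * i = 1 := by
        apply X.center_eq
        intro g
        have h2 := congrArg (fun f : MulAut G => f g) h
        simp only [MulAut.conj_apply, MulAut.one_apply] at h2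
        exact mul_inv_eq_iff_eq_mul.mp h2
      have hi3 : i⁻¹ = i := inv_eq_of_mul_eq_one_left hi1
      have h2 : j ^ e * b⁻¹ ^ m = i := by
        have := mul_eq_one_iff_eq_inv.mp h1
        rwa [hi3] at this
      set u := b⁻¹ ^ m with hu
      have hcj : Commute (j ^ e) u := by
        have h3 : Commute j b := hjb
        exact ((h3.inv_right).pow_right m).pow_left e
      have hjj : j ^ e * j ^ e = 1 := by
        rw [← pow_add, ← two_mul, pow_mul, pow_two, X.hj2, one_pow]
      have huu : u * u = 1 := by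
        have h3 : (j ^ e * u) * (j ^ e * u) = 1 := by rw [h2, hi1]
        have h4 : (j ^ e * u) * (j ^ e * u) = (j ^ e * j ^ e) * (u * u) := by
          calc (j ^ e * u) * (j ^ e * u) = j ^ e * (u * j ^ e) * u := by group
            _ = j ^ e * (j ^ e * u) * u := by rw [hcj.eq]
            _ = _ := by group
        rw [h4, hjj, one_mul] at h3
        exact h3
      have hu1 : u = 1 := by
        have h3 : u ^ 11 = 1 := by
          rw [hu, ← pow_mul, mul_comm, pow_mul, inv_pow, hb11, inv_one, one_pow]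
        have h4 : ∀ w : G, w ^ 11 = w * (w * w) ^ 5 := by
          intro w
          rw [← pow_two, ← pow_mul, ← pow_succ']
        rw [h4 u, huu, one_pow, mul_one] at h3
        exact h3
      rw [hu1, mul_one] at h2
      rcases Nat.even_or_odd' e with ⟨k, rfl | rfl⟩
      · exfalso
        apply hi2
        rw [← h2, pow_mul, pow_two, X.hj2, one_pow]
      · rw [← h2, pow_succ, pow_mul, pow_two, X.hj2, one_pow, one_mul]
    · exact absurd ⟨_, h⟩ hni
  refine Cfsg.Agent.Lib.OutCrit.card_out_two σ⁻¹ (fun h => hni (by simpa using (Cfsg.Inn G).inv_mem h)) ?_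
  intro φ
  have hord' : orderOf (φ b) = 11 := by rw [MulEquiv.orderOf_eq, hord]
  have hp2 : ¬ 11 ^ 2 ∣ Nat.card G := by
    rw [hG]
    norm_num
  obtain ⟨g, k, h0, hlt, hk⟩ := Cfsg.Agent.Lib.OutCrit.exists_conj_pow hord hord' hp2
  obtain ⟨e, -, he⟩ := exists_exp k hlt h0
  set ψ : MulAut G := MulAut.conj (v ^ e * g) * φ with hψ
  have hψb : ψ b = b := by
    rw [hψ, MulAut.mul_apply, MulAut.conj_apply]
    have e1 : v ^ e * g * φ b * (v ^ e * g)⁻¹ = v ^ e * (g * φ b * g⁻¹) * (v ^ e)⁻¹ := by group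
    rw [e1, hk, conj_pow_two_iter hv, ← pow_mod_orderOf, hord, he, pow_one]
  have hψj : ψ j = j := by
    apply hinvol
    · rw [← map_mul, X.hj2, map_one]
    · intro h
      exact hj1 ((map_eq_one_iff ψ ψ.injective).mp h)
    · have := congrArg ψ hjb
      rwa [map_mul, map_mul, hψb] at this
  obtain ⟨m, e', h⟩ := X.main_fix hσj hσb hσ0 hψj hψb
  set d := j ^ e' * (bE x y z)⁻¹ ^ m with hd
  set u := d * (v ^ e * g) with hu
  have hmul : MulAut.conj d * ψ = MulAut.conj u * φ := by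
    rw [hψ, hu, map_mul (MulAut.conj) d (v ^ e * g), mul_assoc]
  rw [hmul] at h
  rcases h with h | h
  · left
    have h1 : φ = MulAut.conj u⁻¹ := by
      rw [map_inv]
      exact (inv_eq_of_mul_eq_one_right h).symm
    rw [h1]
    exact ⟨_, rfl⟩
  · right
    have h1 : φ = (MulAut.conj u)⁻¹ * σ := by
      rw [← h, inv_mul_cancel_left]
    have h2 : σ⁻¹ * φ = σ⁻¹ * MulAut.conj u⁻¹ * σ⁻¹⁻¹ := by
      rw [h1, map_inv, inv_inv, mul_assoc]
    rw [h2]
    exact (Cfsg.innNormal G).conj_mem _ ⟨_, rfl⟩ _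

end main

end Cfsg.Agent.Lib.HNOutSmall
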