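import Mathlib
import Cfsg.Agent.TcData.HN.Fin
import Cfsg.Agent.Lib.HNOutBridge
import Cfsg.Agent.Lib.HNOutSmall

/-!
# The outer automorphism group of the Harada-Norton group has order two
-/

set_option autoImplicit false
set_option maxRecDepth 100000
set_option linter.all false

namespace Cfsg.Agent.Lib.HNOutMain

open Cfsg.Spor Cfsg.Agent.Lib.TcFacts Cfsg.Agent.Lib.TcBits Cfsg.Agent.Lib.TcPres Cfsg.Agent.Lib.TcChain Cfsg.Spor.HN
open Cfsg.Agent.TcData.HN Cfsg.Agent.TcData.HN.I1539000 Cfsg.Agent.TcData.HN.Fin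
open Cfsg.Agent.Lib.HNOutData Cfsg.Agent.Lib.PermChain12 Cfsg.Agent.Lib.HNOutCore Cfsg.Agent.Lib.HNOutSmall
open Cfsg.Agent.Lib.HNOutBridge

/-- The group. -/
abbrev GG := PresentedGroup RR

/-- The generator `x`. -/
noncomputable abbrev gx : GG := PresentedGroup.mk RR x
/-- The generator `y`. -/
noncomputable abbrev gy : GG := PresentedGroup.mk RR y
/-- The generator `z`. -/
noncomputable abbrev gz : GG := PresentedGroup.mk RR z
/-- The generator `t`. -/
noncomputable abbrev gt : GG := PresentedGroup.mk RR t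

/-- The central involution. -/
noncomputable abbrev jj : GG := gx * gx

/-- The sizes of the orbits. -/
def cc (l : ℕ) : ℕ := [1, 1408, 35200, 2200, 123200, 739200, 354816, 277200, 5775].getD l 0

theorem cc_inj : ∀ l, l < 9 → ∀ l', l' < 9 → cc l = cc l' → l = l' := by decide

theorem rel {r : FreeGroup Gen} (hr : r ∈ extra) : PresentedGroup.mk RR r = 1 :=
  (QuotientGroup.eq_one_iff r).mpr (Subgroup.subset_normalClosure (Or.inr hr))

theorem x4 : gx ^ 4 = 1 := by
  refine mk_pow_eq_one hR hv hInjPhi (of_chkW ?_)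
  intro j hj
  interval_cases j
  exacts [x4_0, x4_1, x4_2, x4_3, x4_4, x4_5, x4_6, x4_7, x4_8, x4_9, x4_10, x4_11, x4_12, x4_13, x4_14, x4_15,
    x4_16, x4_17, x4_18, x4_19, x4_20]

theorem r14 : (gz * gx * gx * (gt * gt)) ^ 3 = 1 := by
  have h : (PresentedGroup.mk RR (z * x * x * (t * t))) ^ 3 = 1 := by
    refine mk_pow_eq_one hR hv hInjPhi (of_chkW ?_)
    intro j hj
    interval_cases j
    exacts [r14_0, r14_1, r14_2, r14_3, r14_4, r14_5, r14_6, r14_7, r14_8, r14_9, r14_10, r14_11, r14_12, r14_13,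
      r14_14, r14_15, r14_16, r14_17, r14_18, r14_19, r14_20]
  simpa only [map_mul] using h

theorem jj2 : jj * jj = 1 := by
  have : jj * jj = gx ^ 4 := by
    rw [show (4 : ℕ) = 1 + 1 + 1 + 1 from rfl, pow_succ, pow_succ, pow_succ, pow_one]
    simp only [jj, mul_assoc]
  rw [this, x4]

theorem Phi_high (c : GG) {i : ℕ} (hi : 1539000 ≤ i) : Phi c i = i :=
  fix_above_all hR (fun x => hab x i hi) c

theorem Phi_lt (c : GG) {p : ℕ} (hp : p < 1539000) : Phi c p < 1539000 := by
  by_contra h
  have h1 := Phi_high c (not_lt.mp h)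
  have h2 := (Phi c).injective h1
  omega

theorem pts_lt_two (q : ℕ) : pts q < 2 ^ 16 := by
  have : pts q ≤ 65535 := Nat.and_le_right
  omega

theorem val_of_chk (g : Gen) (l : ℕ) (h : allB 21 5 (fun j => force (Nat.land (progApply (pr g) (slice 21 j)) (2 ^ 37251 - 1)) fun Y =>
    allB 1408 11 (fun q => and (Nat.ble (Nat.succ (pts q)) 37251) (bEq (Y.testBit (pts q)) ((pts (tb l q)).testBit j)))) = true)
    {q : ℕ} (hq : q < 1408) : Phi (PresentedGroup.mk RR (FreeGroup.of g)) (pts q) = pts (tb l q) := by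
  have e : Phi (PresentedGroup.mk RR (FreeGroup.of g)) = progPerm (pr g) := repOf_of hR _
  rw [e]
  apply Nat.eq_of_testBit_eq
  intro j
  have hsmall : pts q < 37251 := by
    have h1 := allB_spec _ _ _ (by norm_num) h 0 (by norm_num)
    rw [force_eq] at h1
    have h2 := allB_spec _ _ _ (by norm_num) h1 q hq
    rw [Bool.and_eq_true] at h2
    exact Nat.le_of_ble_eq_true h2.1
  have hlt : progPerm (pr g) (pts q) < 1539000 := by
    rw [← e]
    exact Phi_lt _ (by omega)
  by_cases hj : j < 21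
  · have h1 := allB_spec _ _ _ (by norm_num) h j hj
    rw [force_eq] at h1
    have h2 := allB_spec _ _ _ (by norm_num) h1 q hq
    rw [Bool.and_eq_true] at h2
    have h3 := bEq_spec h2.2
    have h4 : Nat.land (progApply (pr g) (slice 21 j)) (2 ^ 37251 - 1) = progApply (pr g) (slice 21 j) &&& (2 ^ 37251 - 1) := rfl
    rw [h4, Nat.testBit_and, Nat.testBit_two_pow_sub_one, testBit_progApply (2 ^ 21) _ (hv _), testBit_slice] at h3
    have h5 : decide (pts q < 37251) = true := decide_eq_true hsmall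
    have h6 : decide (progPerm (pr g) (pts q) < 2 ^ 21) = true := by
      rw [decide_eq_true_eq]
      omega
    rw [h5, h6, Bool.true_and, Bool.and_true] at h3
    exact h3
  · have h4 : ∀ y, y < 2 ^ 21 → y.testBit j = false := by
      intro y hy
      apply Nat.testBit_lt_two_pow
      calc y < 2 ^ 21 := hy
        _ ≤ 2 ^ j := Nat.pow_le_pow_right (by norm_num) (by omega)
    rw [h4 _ (by omega), h4 _ (by have := pts_lt_two (tb l q); omega)]

theorem act_x {q : ℕ} (hq : q < 1408) : Phi gx (pts q) = pts (tb 0 q) := val_of_chk .x 0 gen_x_chk hq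
theorem act_y {q : ℕ} (hq : q < 1408) : Phi gy (pts q) = pts (tb 2 q) := val_of_chk .y 2 gen_y_chk hq
theorem act_z {q : ℕ} (hq : q < 1408) : Phi gz (pts q) = pts (tb 4 q) := val_of_chk .z 4 gen_z_chk hq

theorem gx_mem : gx ∈ HH := mem_map_closure (by simp)
theorem gy_mem : gy ∈ HH := mem_map_closure (by simp)
theorem gz_mem : gz ∈ HH := mem_map_closure (by simp)

theorem hHact : ∀ h ∈ HH, ∀ q, q < 1408 → ∃ q', q' < 1408 ∧ Phi h (pts q) = pts q' := by
  intro h hh
  obtain ⟨s, hs, rfl⟩ := Subgroup.mem_map.mp hh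
  clear hh
  induction hs using Subgroup.closure_induction'' with
  | mem s hs =>
    intro q hq
    rcases hs with rfl | rfl | rfl
    · exact ⟨_, tb_lt 0 q hq, act_x hq⟩
    · exact ⟨_, tb_lt 2 q hq, act_y hq⟩
    · exact ⟨_, tb_lt 4 q hq, act_z hq⟩
  | inv_mem s hs =>
    intro q hq
    rcases hs with rfl | rfl | rfl
    · refine ⟨_, tb_lt 1 q hq, ?_⟩
      have h1 := act_x (tb_lt 1 q hq)
      rw [tb_inv1 hq] at h1
      rw [map_inv]
      exact Phi_eq_inv h1
    · refine ⟨_, tb_lt 3 q hq, ?_⟩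
      have h1 := act_y (tb_lt 3 q hq)
      rw [tb_inv3 hq] at h1
      rw [map_inv]
      exact Phi_eq_inv h1
    · refine ⟨_, tb_lt 4 q hq, ?_⟩
      have e : PresentedGroup.mk RR (z⁻¹) = gz := by
        rw [map_inv]
        exact zinv
      rw [e]
      exact act_z hq
  | one =>
    intro q hq
    exact ⟨q, hq, by simp⟩
  | mul a b _ _ ha hb =>
    intro q hq
    obtain ⟨q1, hq1, e1⟩ := hb q hq
    obtain ⟨q2, hq2, e2⟩ := ha q1 hq1
    exact ⟨q2, hq2, by rw [map_mul, Phi_mul, e1, e2]⟩

theorem hu_aux (w : FreeGroup Gen) (hw : (wordApply (sgnProg pr) w.toWord 1).testBit 0 = false) :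
    Phi (PresentedGroup.mk RR w) 0 ≠ 0 := by
  intro h
  rw [testBit_wordApply (2 ^ 21) _ _ (fun a _ => valid_sgnProg hv a), ← repOf_mk hR hv] at hw
  have e : Phi (PresentedGroup.mk RR w) = repOf RR pr hR (PresentedGroup.mk RR w) := rfl
  rw [← e, h] at hw
  exact absurd hw (by decide)

theorem pt_of_chk (w : FreeGroup Gen) (p : ℕ) (hw : (wordApply (sgnProg pr) w.toWord (2 ^ p)).testBit 0 = true) :
    Phi (PresentedGroup.mk RR w) 0 = p := by
  rw [testBit_wordApply (2 ^ 21) _ _ (fun a _ => valid_sgnProg hv a), ← repOf_mk hR hv, Nat.testBit_two_pow] at hw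
  exact (of_decide_eq_true hw).symm

theorem ht0 : Phi gt 0 = pts 0 := by
  rw [pts0_chk]
  exact pt_of_chk t 2 pt_chk1

theorem htt0 : Phi (gt * gt) 0 = pts 1 := by
  have := pt_of_chk (t * t) (pts 1) pt_chk2
  simpa only [map_mul] using this

theorem hu0 : Phi (gt * jj * gt⁻¹) 0 ≠ 0 := by
  have := hu_aux (t * (x * x) * t⁻¹) pt_chk3
  simpa only [map_mul, map_inv] using this

/-- The relations at the central involution. -/
theorem comm_y : gy * jj = jj * gy := by
  have h := rel (r := (x ^ 2) * y * (x ^ 2) * (y⁻¹)) (by decide +kernel)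
  simp only [map_mul, map_pow, map_inv] at h
  have e1 : gx ^ 2 = jj := pow_two gx
  rw [e1] at h
  have h2 : jj * gy * jj = gy := by
    have := mul_inv_eq_one.mp h
    exact this
  calc gy * jj = jj * gy * jj * jj := by rw [h2]
    _ = jj * gy * (jj * jj) := by group
    _ = jj * gy := by rw [jj2, mul_one]

theorem z2 : gz * gz = 1 := by
  have h := rel (r := z ^ 2) (by decide +kernel)
  simp only [map_pow] at h
  rwa [pow_two] at h

theorem comm_z : gz * jj = jj * gz := by
  have h := rel (r := (z * x) ^ 2) (by decide +kernel)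
  simp only [map_pow, map_mul] at h
  rw [pow_two] at h
  have h1 : gx * gz * gx = gz := by
    calc gx * gz * gx = gz * (gz * gx * (gz * gx)) := by
          have : gz * (gz * gx * (gz * gx)) = (gz * gz) * gx * gz * gx := by group
          rw [this, z2, one_mul]
      _ = gz := by rw [h, mul_one]
  calc gz * jj = gx * gz * gx * (gx * gx) := by rw [h1]
    _ = gx * gz * (gx * gx) * gx := by group
    _ = gx * (gz * gx * gx * gx) := by group
    _ = gx * ((gx * gz * gx) * gx * gx * gx) := by rw [h1]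
    _ = gx * gx * gz * (gx * gx) * (gx * gx) := by group
    _ = jj * gz * (jj * jj) := by group
    _ = jj * gz := by rw [jj2, mul_one]

theorem cent_of_mem : ∀ h ∈ HH, h * jj = jj * h := by
  have hle : HH ≤ Subgroup.centralizer {jj} := by
    rw [Subgroup.map_le_iff_le_comap, Subgroup.closure_le]
    rintro s (rfl | rfl | rfl)
    · simp only [Set.mem_ofPred_eq, SetLike.mem_coe, Subgroup.mem_comap, Subgroup.mem_centralizer_iff,
        Set.mem_singleton_iff, forall_eq]
      group
    · simp only [Set.mem_ofPred_eq, SetLike.mem_coe, Subgroup.mem_comap, Subgroup.mem_centralizer_iff,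
        Set.mem_singleton_iff, forall_eq]
      exact comm_y.symm
    · simp only [Set.mem_ofPred_eq, SetLike.mem_coe, Subgroup.mem_comap, Subgroup.mem_centralizer_iff,
        Set.mem_singleton_iff, forall_eq]
      exact comm_z.symm
  intro h hh
  exact (Subgroup.mem_centralizer_iff.mp (hle hh) jj rfl).symm

theorem stab_iff (g : GG) : Phi g 0 = 0 ↔ g ∈ HH := by
  constructor
  · intro h
    have h1 : betaF HH Phi hfix (g : GG ⧸ HH) = betaF HH Phi hfix ((1 : GG) : GG ⧸ HH) := by
      rw [betaF_mk, betaF_mk, h, map_one]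
      rfl
    have h2 := bij.2.1 h1
    have h3 := QuotientGroup.eq.mp h2
    rw [mul_one] at h3
    exact (HH.inv_mem_iff).mp h3
  · exact hfix g

theorem hcoatom : IsCoatom HH := by
  have hcard : Nat.card (GG ⧸ HH) = 1539000 := bij.1
  have : Finite (GG ⧸ HH) := Nat.finite_of_card_ne_zero (by rw [hcard]; norm_num)
  have hnt : Nontrivial (GG ⧸ HH) := Finite.one_lt_card_iff_nontrivial.mp (by rw [hcard]; norm_num)
  have := prim
  have h := (MulAction.isCoatom_stabilizer_iff_preprimitive (G := GG) (X := GG ⧸ HH) ((1 : GG) : GG ⧸ HH)).mpr prim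
  rwa [MulAction.stabilizer_quotient] at h

theorem hu1 : gt * jj * gt⁻¹ ∉ HH := by
  intro h
  exact hu0 (hfix _ h)

theorem mem_of_cent (g : GG) (h : g * jj = jj * g) : g ∈ HH := by
  have hle : HH ≤ Subgroup.centralizer {jj} := by
    intro a ha
    rw [Subgroup.mem_centralizer_iff]
    rintro _ rfl
    exact (cent_of_mem a ha).symm
  have hmem : g ∈ Subgroup.centralizer {jj} := by
    rw [Subgroup.mem_centralizer_iff]
    rintro _ rfl
    exact h.symm
  rcases hcoatom.le_iff.mp hle with h1 | h1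
  · exfalso
    have h2 : gt ∈ Subgroup.centralizer {jj} := by rw [h1]; trivial
    rw [Subgroup.mem_centralizer_iff] at h2
    have h3 := h2 jj rfl
    apply hu1
    have e : gt * jj * gt⁻¹ = jj := by
      rw [← h3]
      group
    rw [e]
    exact HH.mul_mem gx_mem gx_mem
  · rw [← h1]
    exact hmem

theorem hSx : Sx Phi HH jj := ⟨stab_iff, fun g => ⟨cent_of_mem g, mem_of_cent g⟩⟩

/-! ### The orbits -/

theorem closed_l {O : ℕ} (h : ∀ s ∈ [(x : FreeGroup Gen), y, z], wordApply (sgnProg pr) s.toWord O = O) :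
    ∀ h' ∈ HH, ∀ i, O.testBit (Phi h' i) = O.testBit i :=
  closed_of_words hR hv (S := SS) (fun s hs => h s (by simpa using hs))

theorem card_l {O n : ℕ} (hlt : O < 2 ^ 2 ^ 21) (hc : Cfsg.Agent.Lib.TcLevels.popC 21 O = n) :
    {i | O.testBit i = true}.ncard = n := by
  rw [ncard_mask hlt, Cfsg.Agent.Lib.TcLevels.sumRange_eq_popC, hc]

theorem hMx : Mx Phi HH Om cc where
  closed := by
    intro l hl
    interval_cases l
    · exact closed_l cl0_chk
    · exact closed_l cl1_chk
    · exact closed_l cl2_chk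
    · exact closed_l cl3_chk
    · exact closed_l cl4_chk
    · exact closed_l cl5_chk
    · exact closed_l cl6_chk
    · exact closed_l cl7_chk
    · exact closed_l cl8_chk
  sound := by
    intro l hl
    interval_cases l
    · refine ⟨0, ⟨1, by simp⟩, rfl, ?_⟩
      intro i hi
      refine ⟨1, HH.one_mem, ?_⟩
      have : i = 0 := by
        by_contra hne
        obtain ⟨m, rfl⟩ := Nat.exists_eq_succ_of_ne_zero hne
        have h2 : Nat.testBit 1 (m + 1) = true := hi
        simp [Nat.testBit_succ] at h2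
      simp [this]
    · exact ⟨1, hs 1 (by norm_num), so1_chk, O1_sound⟩
    · exact ⟨11, hs 11 (by norm_num), so2_chk, O2_sound⟩
    · exact ⟨17, hs 17 (by norm_num), so3_chk, O3_sound⟩
    · exact ⟨119, hs 119 (by norm_num), so4_chk, O4_sound⟩
    · exact ⟨207, hs 207 (by norm_num), so5_chk, O5_sound⟩
    · exact ⟨538, hs 538 (by norm_num), so6_chk, O6_sound⟩
    · exact ⟨3796, hs 3796 (by norm_num), so7_chk, O7_sound⟩
    · exact ⟨6967, hs 6967 (by norm_num), so8_chk, O8_sound⟩
  cover := by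
    intro g
    have hlt : Phi g 0 < 1539000 := Phi_lt g (by norm_num)
    have h1 : (2 ^ 1539000 - 1 : ℕ).testBit (Phi g 0) = true := by
      rw [Nat.testBit_two_pow_sub_one]
      exact decide_eq_true hlt
    rw [← cover_chk] at h1
    have e : ∀ a b : ℕ, Nat.lor a b = a ||| b := fun _ _ => rfl
    simp only [e, Nat.testBit_or, Bool.or_eq_true] at h1
    rcases h1 with (((((((h | h) | h) | h) | h) | h) | h) | h) | h
    · exact ⟨0, by norm_num, h⟩
    · exact ⟨1, by norm_num, h⟩
    · exact ⟨2, by norm_num, h⟩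
    · exact ⟨3, by norm_num, h⟩
    · exact ⟨4, by norm_num, h⟩
    · exact ⟨5, by norm_num, h⟩
    · exact ⟨6, by norm_num, h⟩
    · exact ⟨7, by norm_num, h⟩
    · exact ⟨8, by norm_num, h⟩
  card := by
    intro l hl
    interval_cases l
    · exact card_l (O := 1) (by decide +kernel) card0_chk
    · exact card_l lt1_chk O1_card
    · exact card_l lt2_chk O2_card
    · exact card_l lt3_chk O3_card
    · exact card_l lt4_chk O4_card
    · exact card_l lt5_chk O5_card
    · exact card_l lt6_chk O6_card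
    · exact card_l lt7_chk O7_card
    · exact card_l lt8_chk O8_card
  cinj := fun l l' hl hl' h => cc_inj l hl l' hl' h

theorem hLab : ∀ q, q < 1408 → L0 q < 9 ∧ (Om (L0 q)).testBit (Phi gt⁻¹ (pts q)) = true := by
  intro q hq
  have h0 := allB_spec _ _ _ (by norm_num) lab_chk 0 (by norm_num)
  rw [force_eq] at h0
  have h1 := allB_spec _ _ _ (by norm_num) h0 q hq
  rw [Bool.and_eq_true] at h1
  have hl : L0 q < 9 := Nat.le_of_ble_eq_true h1.1
  refine ⟨hl, ?_⟩
  have h2 := allB_spec _ _ _ (by norm_num) lab_chk (L0 q) (by omega)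
  rw [force_eq] at h2
  have h3 := allB_spec _ _ _ (by norm_num) h2 q hq
  rw [Bool.and_eq_true, Bool.or_eq_true] at h3
  rcases h3.2 with h4 | h4
  · simp at h4
  · have h4' : (wordApply (sgnProg pr) [(Gen.t, false)] (Om (L0 q)) &&& (2 ^ 37251 - 1)).testBit (pts q) = true := h4
    rw [Nat.testBit_and, Bool.and_eq_true] at h4'
    have h5 := h4'.1
    rw [testBit_wordApply (2 ^ 21) _ _ (fun a _ => valid_sgnProg hv a)] at h5
    have e : Phi gt⁻¹ = wordPerm (sgnProg pr) [(Gen.t, false)] := by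
      rw [← map_inv]
      exact repOf_mk hR hv (t⁻¹)
    rw [e]
    exact h5

theorem hX : Hx Phi HH jj Om cc gx gy gz gt where
  S := hSx
  M := hMx
  hsimple := final.1
  hco := hcoatom
  hxm := gx_mem
  hym := gy_mem
  hzm := gz_mem
  hzinv := zinv
  hact := by
    rintro l (rfl | rfl | rfl) q hq
    · exact act_x hq
    · exact act_y hq
    · exact act_z hq
  hHact := hHact
  hj := rfl
  hj2 := jj2
  ht0 := ht0
  hu := hu1
  hO1 := hO1_chk
  hL := hLab

/-! ### The outer automorphism -/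

/-- The images of the generators. -/
noncomputable def sf : Gen → GG
  | .x => gx
  | .y => gy
  | .z => gz * gx * gx
  | .t => gt * gt

theorem zj : gz * gx * gx = gz * jj := by simp only [jj]; group

theorem comm_H {h : GG} (hh : h ∈ HH) : Commute jj h := (cent_of_mem h hh).symm

theorem sf_rel : ∀ r ∈ RR, FreeGroup.lift sf r = 1 := by
  intro r hr
  rcases hr with ⟨a, ha, -⟩ | hr
  · simp [coxNodes, edges] at ha
  · have hsf : ∀ a, FreeGroup.lift sf (FreeGroup.of a) = sf a := fun a => FreeGroup.lift_apply_of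
    simp only [extra, List.mem_cons, List.not_mem_nil, or_false] at hr
    rcases hr with rfl | rfl | rfl | rfl | rfl | rfl | rfl | rfl | rfl | rfl | rfl | rfl | rfl | rfl
    · have h := rel (r := y ^ 6) (by decide +kernel)
      simp only [map_mul, map_pow, map_inv, hsf] at h ⊢
      exact h
    · have h := rel (r := (x ^ 2) * y * (x ^ 2) * (y⁻¹)) (by decide +kernel)
      simp only [map_mul, map_pow, map_inv, hsf] at h ⊢
      exact h
    · have h := rel (r := (x⁻¹ * y⁻¹ * x * y) ^ 3) (by decide +kernel)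
      simp only [map_mul, map_pow, map_inv, hsf] at h ⊢
      exact h
    · have h := rel (r := ((x⁻¹) * (y ^ 2) * x * (y ^ 3)) ^ 3) (by decide +kernel)
      simp only [map_mul, map_pow, map_inv, hsf] at h ⊢
      exact h
    · have h := rel (r := (x * y) ^ 8) (by decide +kernel)
      simp only [map_mul, map_pow, map_inv, hsf] at h ⊢
      exact h
    · have h := rel (r := (x * y * x * (y ^ 3)) ^ 4) (by decide +kernel)
      simp only [map_mul, map_pow, map_inv, hsf] at h ⊢
      exact h
    · simp only [map_mul, map_pow, map_inv, hsf]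
      show (gz * gx * gx) ^ 2 = 1
      rw [zj, ((comm_H gz_mem).symm).mul_pow, pow_two gz, z2, one_mul, pow_two, jj2]
    · have h := rel (r := (z * x) ^ 2) (by decide +kernel)
      simp only [map_mul, map_pow, map_inv, hsf] at h ⊢
      show (gz * gx * gx * gx) ^ 2 = 1
      have e : gz * gx * gx * gx = (gz * gx) * jj := by
        simp only [jj]
        group
      rw [e, (comm_H (HH.mul_mem gz_mem gx_mem)).symm.mul_pow, h, one_mul, pow_two, jj2]
    · have h := rel (r := (z⁻¹ * (y * x * y * x * (y ^ 2) * x * (y⁻¹))⁻¹ * z * (y * x * y * x * (y ^ 2) * x * (y⁻¹))) * ((x ^ 2)⁻¹))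
        (by decide +kernel)
      simp only [map_mul, map_pow, map_inv, hsf] at h ⊢
      show ((gz * gx * gx)⁻¹ * (gy * gx * gy * gx * gy ^ 2 * gx * gy⁻¹)⁻¹ * (gz * gx * gx) * (gy * gx * gy * gx * gy ^ 2 * gx * gy⁻¹)) * (gx ^ 2)⁻¹ = 1
      set W := gy * gx * gy * gx * gy ^ 2 * gx * gy⁻¹ with hW
      have hWm : W ∈ HH := by
        rw [hW]
        exact HH.mul_mem (HH.mul_mem (HH.mul_mem (HH.mul_mem (HH.mul_mem (HH.mul_mem gy_mem gx_mem) gy_mem) gx_mem)
          (HH.pow_mem gy_mem 2)) gx_mem) (HH.inv_mem gy_mem)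
      rw [zj]
      have hA : gz⁻¹ * W⁻¹ * gz * W ∈ HH :=
        HH.mul_mem (HH.mul_mem (HH.mul_mem (HH.inv_mem gz_mem) (HH.inv_mem hWm)) gz_mem) hWm
      have e : (gz * jj)⁻¹ * W⁻¹ * (gz * jj) * W = gz⁻¹ * W⁻¹ * gz * W := by
        calc (gz * jj)⁻¹ * W⁻¹ * (gz * jj) * W = jj⁻¹ * (gz⁻¹ * W⁻¹ * gz) * (jj * W) := by group
          _ = jj⁻¹ * (gz⁻¹ * W⁻¹ * gz) * (W * jj) := by rw [(comm_H hWm).eq]
          _ = jj⁻¹ * ((gz⁻¹ * W⁻¹ * gz * W) * jj) := by group
          _ = jj⁻¹ * (jj * (gz⁻¹ * W⁻¹ * gz * W)) := by rw [← (comm_H hA).eq]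
          _ = _ := by group
      rw [e]
      exact h
    · have h := rel (r := z * (((((y ^ 3) * x * y * x * y)⁻¹ * z * ((y ^ 3) * x * y * x * y)) * x) ^ 3)) (by decide +kernel)
      simp only [map_mul, map_pow, map_inv, hsf] at h ⊢
      show (gz * gx * gx) * ((((gy ^ 3 * gx * gy * gx * gy)⁻¹ * (gz * gx * gx) * (gy ^ 3 * gx * gy * gx * gy)) * gx) ^ 3) = 1
      set W := gy ^ 3 * gx * gy * gx * gy with hW
      have hWm : W ∈ HH := by
        rw [hW]
        exact HH.mul_mem (HH.mul_mem (HH.mul_mem (HH.mul_mem (HH.pow_mem gy_mem 3) gx_mem) gy_mem) gx_mem) gy_mem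
      rw [zj]
      have hA : W⁻¹ * gz * W * gx ∈ HH := HH.mul_mem (HH.mul_mem (HH.mul_mem (HH.inv_mem hWm) gz_mem) hWm) gx_mem
      have e : W⁻¹ * (gz * jj) * W * gx = (W⁻¹ * gz * W * gx) * jj := by
        calc W⁻¹ * (gz * jj) * W * gx = W⁻¹ * gz * (jj * W) * gx := by group
          _ = W⁻¹ * gz * (W * jj) * gx := by rw [(comm_H hWm).eq]
          _ = W⁻¹ * gz * W * (jj * gx) := by group
          _ = W⁻¹ * gz * W * (gx * jj) := by rw [(comm_H gx_mem).eq]
          _ = _ := by group
      rw [e, (comm_H hA).symm.mul_pow]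
      have hj3 : jj ^ 3 = jj := by
        rw [pow_succ, pow_two, jj2, one_mul]
      rw [hj3]
      calc gz * jj * ((W⁻¹ * gz * W * gx) ^ 3 * jj) = gz * (jj * (W⁻¹ * gz * W * gx) ^ 3) * jj := by group
        _ = gz * ((W⁻¹ * gz * W * gx) ^ 3 * jj) * jj := by rw [((comm_H hA).pow_right 3).eq]
        _ = gz * (W⁻¹ * gz * W * gx) ^ 3 * (jj * jj) := by group
        _ = 1 := by rw [jj2, mul_one]; exact h
    · have h := rel (r := t ^ 5) (by decide +kernel)
      simp only [map_mul, map_pow, map_inv, hsf] at h ⊢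
      show (gt * gt) ^ 5 = 1
      rw [← pow_two, ← pow_mul, mul_comm, pow_mul, h, one_pow]
    · have h := rel (r := (x⁻¹ * t * x) * (t ^ 2)) (by decide +kernel)
      simp only [map_mul, map_pow, map_inv, hsf] at h ⊢
      show gx⁻¹ * (gt * gt) * gx * (gt * gt) ^ 2 = 1
      have e1 : gx⁻¹ * gt * gx = (gt ^ 2)⁻¹ := eq_inv_of_mul_eq_one_left h
      have e2 : gx⁻¹ * (gt * gt) * gx = (gx⁻¹ * gt * gx) * (gx⁻¹ * gt * gx) := by group
      rw [e2, e1, ← pow_two gt]
      group
    · have h := rel (r := t⁻¹ * y⁻¹ * t * y) (by decide +kernel)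
      simp only [map_mul, map_pow, map_inv, hsf] at h ⊢
      show (gt * gt)⁻¹ * gy⁻¹ * (gt * gt) * gy = 1
      have e1 : gt * gy = gy * gt := by
        have h2 : gt⁻¹ * gy⁻¹ * gt * gy = 1 := h
        calc gt * gy = (gy * gt) * (gt⁻¹ * gy⁻¹ * gt * gy) := by group
          _ = gy * gt := by rw [h2, mul_one]
      have e2 : gt * gt * gy = gy * (gt * gt) := by
        calc gt * gt * gy = gt * (gt * gy) := by group
          _ = gt * (gy * gt) := by rw [e1]
          _ = (gt * gy) * gt := by group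
          _ = gy * gt * gt := by rw [e1]
          _ = _ := by group
      calc (gt * gt)⁻¹ * gy⁻¹ * (gt * gt) * gy = (gt * gt)⁻¹ * gy⁻¹ * (gt * gt * gy) := by group
        _ = (gt * gt)⁻¹ * gy⁻¹ * (gy * (gt * gt)) := by rw [e2]
        _ = 1 := by group
    · simp only [map_mul, map_pow, map_inv, hsf]
      exact r14

/-- The endomorphism. -/
noncomputable def sig0 : GG →* GG := PresentedGroup.toGroup sf_rel

theorem sig0_of (a : Gen) : sig0 (PresentedGroup.of a) = sf a := PresentedGroup.toGroup.of sf_rel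

theorem sig_x : sig0 gx = gx := sig0_of .x
theorem sig_y : sig0 gy = gy := sig0_of .y
theorem sig_z : sig0 gz = gz * gx * gx := sig0_of .z
theorem sig_t : sig0 gt = gt * gt := sig0_of .t

theorem sig0_surj : Function.Surjective sig0 := by
  rw [← MonoidHom.range_eq_top]
  rw [eq_top_iff]
  intro g _
  refine PresentedGroup.generated_by RR sig0.range ?_ g
  intro a
  cases a
  · exact ⟨gx, sig_x⟩
  · exact ⟨gy, sig_y⟩
  · refine ⟨gz * jj, ?_⟩
    rw [map_mul, map_mul, sig_x, sig_z]
    show gz * gx * gx * (gx * gx) = gz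
    have : gz * gx * gx * (gx * gx) = gz * (jj * jj) := by
      simp only [jj]
      group
    rw [this, jj2, mul_one]
  · refine ⟨gt ^ 3, ?_⟩
    rw [map_pow, sig_t]
    show (gt * gt) ^ 3 = gt
    have h := rel (r := t ^ 5) (by decide +kernel)
    simp only [map_pow] at h
    have : (gt * gt) ^ 3 = gt ^ 5 * gt := by
      rw [← pow_two, ← pow_mul, ← pow_succ]
    rw [this, h, one_mul]

/-- The outer automorphism. -/
noncomputable def sig : MulAut GG :=
  MulEquiv.ofBijective sig0 ⟨Finite.injective_iff_surjective.mpr sig0_surj, sig0_surj⟩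

theorem sig_apply (g : GG) : sig g = sig0 g := rfl

theorem hat_sig : hat Phi sig (pts 0) = pts 1 := by
  have hj : sig jj = jj := by
    rw [sig_apply, map_mul, sig_x]
  rw [← ht0, hSx.hat_mk hj, sig_apply, sig_t, htt0]

theorem out_two : Nat.card (Cfsg.Out GG) = 2 := by
  refine hX.out_two (σ := sig) final.2 cardH sig_x sig_y sig_z hat_sig ?_ (by decide +kernel)
  intro i hi
  by_contra hne
  obtain ⟨m, rfl⟩ := Nat.exists_eq_succ_of_ne_zero hne
  have h2 : Nat.testBit 1 (m + 1) = true := hi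
  simp [Nat.testBit_succ] at h2

end Cfsg.Agent.Lib.HNOutMain
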