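import Cfsg.Agent.Lib.HNOutS

/-!
# `Out` of the Harada-Norton group: the subgroup `2.HS:2` acting on 1508 points

Centralizers in the subgroup, and the rigidity of the subgroup: an endomorphism fixing two elements is the identity.
-/

set_option autoImplicit false
set_option maxRecDepth 100000

namespace Cfsg.Agent.Lib.HNOutP

open Cfsg.Agent.Lib.PermChain Cfsg.Agent.Lib.ProgChain Cfsg.Agent.Lib.SparseDfs
  Cfsg.Agent.Lib.SparseDfs2 Cfsg.Agent.Lib.SparseDfs3 Cfsg.Agent.Lib.HNLMain
  Cfsg.Agent.Lib.HNOutL Cfsg.Agent.Lib.HNOutT Cfsg.Agent.Lib.HNOutW Cfsg.Agent.Lib.HNOutS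

local notation "P1508" => Equiv.Perm (Fin 1508)

theorem inC2_eq (a : List ℕ) : prodW g (inC2 a) = prodW g wc2 * prodW g a * (prodW g wc2)⁻¹ := by
  have h := eq_of_eqW c2_inv
  rw [prodW_append, prodW_nil] at h
  have h2 : prodW g wc2i = (prodW g wc2)⁻¹ := (inv_eq_of_mul_eq_one_right h).symm
  simp only [inC2, prodW_append, h2]

theorem inC3_eq (a : List ℕ) : prodW g (inC3 a) = prodW g wc3 * prodW g a * (prodW g wc3)⁻¹ := by
  have h := eq_of_eqW c3_inv
  rw [prodW_append, prodW_nil] at h
  have h2 : prodW g wc3i = (prodW g wc3)⁻¹ := (inv_eq_of_mul_eq_one_right h).symm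
  simp only [inC3, prodW_append, h2]

theorem rep_a : RepW WW MM (prodW g wa) aT := rep_of_tabW chk_aT
theorem rep_u : RepW WW MM (prodW g wu) uT := rep_of_tabW chk_uT
theorem rep_a2 : RepW WW MM (prodW g (inC2 wa)) a2T := rep_of_tabW chk_a2T
theorem rep_f2 : RepW WW MM (prodW g (inC2 wf)) f2T := rep_of_tabW chk_f2T
theorem rep_D2 : RepW WW MM (prodW g (inC2 wD)) D2T := rep_of_tabW chk_D2T
theorem rep_D22 : RepW WW MM (prodW g (inC2 (wD ++ wD))) D22T := rep_of_tabW chk_D22T
theorem rep_w2 : RepW WW MM (prodW g (inC2 ww)) w2T := rep_of_tabW chk_w2T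
theorem rep_y3 : RepW WW MM (prodW g (inC3 wy)) y3T := rep_of_tabW chk_y3T
theorem rep_Y3 : RepW WW MM (prodW g (inC3 wY2)) Y3T := rep_of_tabW chk_Y3T

/-- the centralizer of `a` in the subgroup -/
theorem cent_a {y : P1508} (hy : y ∈ GG) (hc : y * prodW g wa = prodW g wa * y) :
    ∃ k : ℕ, y = prodW g wa ^ k ∨ y = prodW g wa ^ k * prodW g wu := by
  have hsat : ∀ eqs ∈ Ea, ∀ e ∈ eqs, SatE WW MM y e := by
    intro eqs he e hee
    obtain ⟨h1, h2⟩ := chkEa eqs he e hee
    obtain ⟨t, p, q⟩ := e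
    simp only at h1 h2
    subst h1
    exact satE_of_comm hc (fun hp hq => Fin.ext (by rw [rep_a]; exact h2)) rep_a
  obtain ⟨L, hL, ht⟩ := dfs_H chainH testA oka hy hsat dA
  have hb := eqB_of hbase hL rep_a rep_a hc
  simp only [testA, hb, Bool.not_true, Bool.false_or, Bool.or_eq_true, List.any_eq_true, powsA, List.mem_map,
    List.mem_range] at ht
  rcases ht with ⟨A, ⟨k, -, rfl⟩, hag⟩ | ⟨A, ⟨k, -, rfl⟩, hag⟩
  · exact ⟨k, Or.inl (eq_of_agree' hy (GG.pow_mem (mem_word _) k) hL (repL_pow rep_a k) hag)⟩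
  · exact ⟨k, Or.inr (eq_of_agree' hy (GG.mul_mem (GG.pow_mem (mem_word _) k) (mem_word _)) hL
      (repL_cons (repL_pow rep_a k) rep_u) hag)⟩

/-- the involution is central -/
theorem u_central {v : P1508} (hv : v ∈ GG) : v * prodW g wu = prodW g wu * v := by
  unfold GG grp genOf at hv
  induction hv using Subgroup.closure_induction with
  | mem x hx =>
    obtain ⟨e, he, rfl⟩ := hx
    have he5 : e < 5 := by
      have := List.mem_range'_1.mp he
      omega
    have h3 := eq_of_eqW (u_gens e he5)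
    simpa [prodW_append, prodW_cons, prodW_nil] using h3
  | one => simp
  | mul a b _ _ ha hb => rw [mul_assoc, hb, ← mul_assoc, ha, mul_assoc]
  | inv a _ ha =>
    rw [inv_mul_eq_iff_eq_mul, ← mul_assoc, ha, mul_assoc, mul_inv_cancel, mul_one]

/-- the centralizer of `y` and its conjugate in the subgroup -/
theorem cent_y {z : P1508} (hz : z ∈ GG) (h1 : z * prodW g wy = prodW g wy * z)
    (h2 : z * prodW g wY2 = prodW g wY2 * z) : z = 1 ∨ z = prodW g wu := by
  set c := prodW g wc3 with hcd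
  set z' := c * z * c⁻¹ with hz'd
  have hz' : z' ∈ GG := GG.mul_mem (GG.mul_mem (mem_word _) hz) (GG.inv_mem (mem_word _))
  have hc1 : z' * prodW g (inC3 wy) = prodW g (inC3 wy) * z' := by
    rw [inC3_eq, ← hcd, hz'd]
    calc c * z * c⁻¹ * (c * prodW g wy * c⁻¹) = c * (z * prodW g wy) * c⁻¹ := by group
      _ = c * (prodW g wy * z) * c⁻¹ := by rw [h1]
      _ = _ := by group
  have hc2 : z' * prodW g (inC3 wY2) = prodW g (inC3 wY2) * z' := by
    rw [inC3_eq, ← hcd, hz'd]
    calc c * z * c⁻¹ * (c * prodW g wY2 * c⁻¹) = c * (z * prodW g wY2) * c⁻¹ := by group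
      _ = c * (prodW g wY2 * z) * c⁻¹ := by rw [h2]
      _ = _ := by group
  have hsat : ∀ eqs ∈ EC, ∀ e ∈ eqs, SatE WW MM z' e := by
    intro eqs he e hee
    obtain ⟨h3, h4⟩ := chkEC eqs he e hee
    obtain ⟨t, p, q⟩ := e
    simp only at h3 h4
    rcases h3 with rfl | rfl
    · exact satE_of_comm hc1 (fun hp hq => Fin.ext (by rw [rep_y3]; exact h4)) rep_y3
    · exact satE_of_comm hc2 (fun hp hq => Fin.ext (by rw [rep_Y3]; exact h4)) rep_Y3
  obtain ⟨L, hL, ht⟩ := dfs_H chainH testC okC hz' hsat dC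
  have hb1 := eqB_of hbase hL rep_y3 rep_y3 hc1
  have hb2 := eqB_of hbase hL rep_Y3 rep_Y3 hc2
  simp only [testC, hb1, hb2, Bool.not_true, Bool.false_or, Bool.or_eq_true] at ht
  have h4 : z = c⁻¹ * z' * c := by
    rw [hz'd]
    group
  rcases ht with ht | ht
  · left
    have h3 : z' = 1 := eq_of_agree' hz' GG.one_mem hL repL_one ht
    rw [h4, h3]
    group
  · right
    have h3 : z' = prodW g wu := eq_of_agree' hz' (mem_word _) hL (repL_of_repW rep_u) ht
    have h5 : prodW g wu * c = c * prodW g wu := (u_central (mem_word wc3)).symm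
    rw [h4, h3]
    calc c⁻¹ * prodW g wu * c = c⁻¹ * (prodW g wu * c) := by group
      _ = c⁻¹ * (c * prodW g wu) := by rw [h5]
      _ = prodW g wu := by group

/-! ### the rigidity -/

/-- the element `a` of the group -/
noncomputable def aG : GG := ⟨prodW g wa, mem_word _⟩
/-- the element `f` of the group -/
noncomputable def fG : GG := ⟨prodW g wf, mem_word _⟩
/-- the element `w` of the group -/
noncomputable def wG : GG := ⟨prodW g ww, mem_word _⟩

theorem wS_mem {F : Subgroup P1508} (ha : prodW g wa ∈ F) (hf : prodW g wf ∈ F) (hw : prodW g ww ∈ F) (e : ℕ) :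
    prodW g (wS e) ∈ F := by
  have hxi : ∀ {u v : List ℕ}, eqW (u ++ v) [] = true → prodW g u = (prodW g v)⁻¹ := by
    intro u v h
    have h1 := eq_of_eqW h
    rw [prodW_append] at h1
    exact eq_inv_of_mul_eq_one_left (by simpa [prodW] using h1)
  have h5 : e = 0 ∨ e = 1 ∨ e = 2 ∨ e = 3 ∨ e = 4 ∨ e = 5 ∨ 6 ≤ e := by omega
  rcases h5 with rfl | rfl | rfl | rfl | rfl | rfl | h5
  · exact ha
  · show prodW g wai ∈ F
    rw [hxi ai_chk]; exact F.inv_mem ha
  · exact hf
  · show prodW g wfi ∈ F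
    rw [hxi fi_chk]; exact F.inv_mem hf
  · exact hw
  · show prodW g wwi ∈ F
    rw [hxi wi_chk]; exact F.inv_mem hw
  · have : wS e = [] := by
      simp only [wS]
      exact List.getD_eq_default _ _ (by simpa using h5)
    rw [this]
    exact F.one_mem

theorem G_le {F : Subgroup P1508} (ha : prodW g wa ∈ F) (hf : prodW g wf ∈ F) (hw : prodW g ww ∈ F) :
    GG ≤ F := by
  have hw' : ∀ r : List ℕ, prodW g (r.flatMap wS) ∈ F := by
    intro r
    rw [← prodG_flatMap]
    apply Subgroup.list_prod_mem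
    intro a ha'
    obtain ⟨e, -, rfl⟩ := List.mem_map.mp ha'
    exact wS_mem ha hf hw e
  unfold GG grp genOf
  rw [Subgroup.closure_le]
  rintro z ⟨e, he, rfl⟩
  have he5 : e < 5 := by
    have := List.mem_range'_1.mp he
    omega
  have h0 : g e = prodW g ((wls.getD e []).flatMap wS) := by
    rw [eq_of_eqW (hls e he5)]; simp [prodW]
  show g e ∈ F
  rw [h0]
  exact hw' _

/-- an endomorphism fixing `a`, `f`, `w` is the identity -/
theorem hgen (β : GG →* GG) (h1 : β aG = aG) (h2 : β fG = fG) (h3 : β wG = wG) (z : GG) : β z = z := by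
  let F : Subgroup GG := MonoidHom.eqLocus β (MonoidHom.id GG)
  have hF : GG ≤ F.map GG.subtype := by
    apply G_le
    · exact ⟨aG, h1, rfl⟩
    · exact ⟨fG, h2, rfl⟩
    · exact ⟨wG, h3, rfl⟩
  obtain ⟨z', hz', hzz⟩ := hF z.2
  have h4 : z' = z := Subtype.ext hzz
  subst h4
  exact hz'

theorem fix_w (β : GG →* GG) (h1 : β aG = aG) (h2 : β fG = fG) : β wG = wG := by
  set z := β wG with hz
  -- the relations of the three elements
  have hP : ∀ r ∈ Rs, prodG (sel3 (prodW g wa) (prodW g wf) (prodW g ww)) r = 1 := by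
    intro r hr
    have h3 := eq_of_eqW ((List.all_eq_true.mp rels_w) r hr)
    rw [← prodG_flatMap] at h3
    have h4 : (fun e => prodW g (sel3 wa wf ww e)) = sel3 (prodW g wa) (prodW g wf) (prodW g ww) := by
      funext e
      exact sel3_map _ _ _ _ _
    rw [h4] at h3
    simpa [prodW] using h3
  have hG : ∀ r ∈ Rs, prodG (sel3 aG fG wG) r = 1 := by
    intro r hr
    apply Subtype.ext
    have h3 := map_prodG GG.subtype (sel3 aG fG wG) r
    have h4 : (fun e => GG.subtype (sel3 aG fG wG e)) = sel3 (prodW g wa) (prodW g wf) (prodW g ww) := by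
      funext e
      exact sel3_map _ _ _ _ _
    rw [h4, hP r hr] at h3
    exact h3
  have hZ : ∀ r ∈ Rs, prodG (sel3 aG fG z) r = 1 := by
    intro r hr
    have h3 := map_prodG β (sel3 aG fG wG) r
    have h4 : (fun e => β (sel3 aG fG wG e)) = sel3 aG fG z := by
      funext e
      have := sel3_map β aG fG wG e
      rw [this]
      show sel3 (β aG) (β fG) (β wG) e = _
      rw [h1, h2]
    rw [h4, hG r hr, map_one] at h3
    exact h3.symm
  set Z : P1508 := (z : P1508) with hZd
  have hZmem : Z ∈ GG := z.2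
  have hZP : ∀ r ∈ Rs, prodG (sel3 (prodW g wa) (prodW g wf) Z) r = 1 := by
    intro r hr
    have h3 := map_prodG GG.subtype (sel3 aG fG z) r
    have h4 : (fun e => GG.subtype (sel3 aG fG z e)) = sel3 (prodW g wa) (prodW g wf) Z := by
      funext e
      exact sel3_map _ _ _ _ _
    rw [h4, hZ r hr, map_one] at h3
    exact h3.symm
  -- commutation with `D`
  have hDD : Z * prodW g wD = prodW g wD * Z := by
    have h3 : wG * (fG * fG) = (fG * fG) * wG := by
      apply Subtype.ext
      have h4 := eq_of_eqW w_D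
      simp only [wD, PermChain.prodW_append] at h4
      exact h4
    have h4 := congrArg β h3
    simp only [map_mul, h2] at h4
    have h5 := congrArg Subtype.val h4
    have h6 : prodW g wD = prodW g wf * prodW g wf := by
      simp only [wD, PermChain.prodW_append]
    rw [h6]
    exact h5
  -- the frame
  set c := prodW g wc2 with hcd
  set z' := c * Z * c⁻¹ with hz'd
  have hz' : z' ∈ GG := GG.mul_mem (GG.mul_mem (mem_word _) hZmem) (GG.inv_mem (mem_word _))
  have hc1 : z' * prodW g (inC2 wD) = prodW g (inC2 wD) * z' := by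
    rw [inC2_eq, ← hcd, hz'd]
    calc c * Z * c⁻¹ * (c * prodW g wD * c⁻¹) = c * (Z * prodW g wD) * c⁻¹ := by group
      _ = c * (prodW g wD * Z) * c⁻¹ := by rw [hDD]
      _ = _ := by group
  have hc2 : z' * prodW g (inC2 (wD ++ wD)) = prodW g (inC2 (wD ++ wD)) * z' := by
    have h3 : prodW g (inC2 (wD ++ wD)) = prodW g (inC2 wD) * prodW g (inC2 wD) := by
      rw [inC2_eq, inC2_eq, PermChain.prodW_append]
      group
    rw [h3, ← mul_assoc, hc1, mul_assoc, hc1, mul_assoc]
  have hsat : ∀ eqs ∈ ED, ∀ e ∈ eqs, SatE WW MM z' e := by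
    intro eqs he e hee
    obtain ⟨h3, h4⟩ := chkED eqs he e hee
    obtain ⟨t, p, q⟩ := e
    simp only at h3 h4
    rcases h3 with rfl | rfl
    · exact satE_of_comm hc1 (fun hp hq => Fin.ext (by rw [rep_D2]; exact h4)) rep_D2
    · exact satE_of_comm hc2 (fun hp hq => Fin.ext (by rw [rep_D22]; exact h4)) rep_D22
  obtain ⟨L, hL, ht⟩ := dfs_H chainH testW okD hz' hsat dW
  have hb := eqB_of hbase hL rep_D2 rep_D2 hc1
  -- the relations in the frame
  have hrel : Rs.all (fun R' => baseL.all fun b => Nat.beq (evalLet WW MM (sel3 [a2T] [f2T] L) R' b) b) = true := by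
    rw [List.all_eq_true]
    intro r hr
    have hS : ∀ e, RepL WW MM (sel3 (prodW g (inC2 wa)) (prodW g (inC2 wf)) z' e) (sel3 [a2T] [f2T] L e) := by
      intro e
      unfold sel3
      split_ifs
      · exact repL_of_repW rep_a2
      · exact repL_of_repW rep_f2
      · exact hL
    refine relsOK_of hS hbase ?_
    have h3 : (fun e => c * sel3 (prodW g wa) (prodW g wf) Z e * c⁻¹) =
        sel3 (prodW g (inC2 wa)) (prodW g (inC2 wf)) z' := by
      funext e
      unfold sel3
      split_ifs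
      · rw [inC2_eq]
      · rw [inC2_eq]
      · rfl
    have h4 := prodG_conj c (sel3 (prodW g wa) (prodW g wf) Z) r
    rw [h3, hZP r hr] at h4
    have h5 : prodG (sel3 (prodW g (inC2 wa)) (prodW g (inC2 wf)) z') r = 1 := by simpa using h4
    exact h5
  simp only [testW, hb, hrel, Bool.not_true, Bool.false_or] at ht
  have h3 : z' = prodW g (inC2 ww) := eq_of_agree' hz' (mem_word _) hL (repL_of_repW rep_w2) ht
  apply Subtype.ext
  show Z = prodW g ww
  rw [inC2_eq, ← hcd, hz'd] at h3
  have h4 : c * Z = c * prodW g ww := by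
    have h5 := congrArg (· * c) h3
    simpa using h5
  exact mul_left_cancel h4

/-- the rigidity of the subgroup -/
theorem rigid (β : GG →* GG) (h1 : β aG = aG) (h2 : β fG = fG) (z : GG) : β z = z :=
  hgen β h1 h2 (fix_w β h1 h2) z

end Cfsg.Agent.Lib.HNOutP
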