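import Cfsg.Agent.Lib.HNOutW

/-!
# `Out` of the Harada-Norton group: the searches in the subgroup
-/

set_option autoImplicit false
set_option maxRecDepth 100000

namespace Cfsg.Agent.Lib.HNOutS

noncomputable section

open Cfsg.Agent.Lib.PermChain Cfsg.Agent.Lib.ProgChain Cfsg.Agent.Lib.ProgBits Cfsg.Agent.Lib.SparseDfs
  Cfsg.Agent.Lib.SparseDfs2 Cfsg.Agent.Lib.SparseDfs3 Cfsg.Agent.Lib.HNLTab Cfsg.Agent.Lib.HNLMain
  Cfsg.Agent.Lib.HNOutL Cfsg.Agent.Lib.HNOutT Cfsg.Agent.Lib.HNOutW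

set_option Elab.async false

theorem dA : dfsE WW MM testA LsH Ea [] = true := by decide +kernel
theorem dW : dfsE WW MM testW LsH ED [] = true := by decide +kernel
theorem dC : dfsE WW MM testC LsH EC [] = true := by decide +kernel

end

end Cfsg.Agent.Lib.HNOutS
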