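import Mathlib

set_option autoImplicit false

namespace Cfsg.Agent.Lib.HallNum

open Nat

/-! ### Digit sums -/

/-- digit sum in base `r` -/
abbrev S (r x : ℕ) : ℕ := (Nat.digits r x).sum

theorem S_le (r x : ℕ) : S r x ≤ x := Nat.digit_sum_le r x

theorem S_zero (r : ℕ) : S r 0 = 0 := by simp [S]

theorem S_rec {r x : ℕ} (hr : 2 ≤ r) (hx : 0 < x) : S r x = x % r + S r (x / r) := by
  have : Nat.digits r x = x % r :: Nat.digits r (x / r) :=
    Nat.digits_def' (by omega) hx
  simp [S, this]

theorem legendre (r : ℕ) [hp : Fact r.Prime] (x : ℕ) :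
    (r - 1) * padicValNat r (x !) = x - S r x :=
  sub_one_mul_padicValNat_factorial x

theorem S_add (r : ℕ) [hp : Fact r.Prime] (x y : ℕ) : S r (x + y) ≤ S r x + S r y := by
  have h1 : x ! * y ! ∣ (x + y)! := Nat.factorial_mul_factorial_dvd_factorial_add x y
  have hne : (x + y)! ≠ 0 := Nat.factorial_ne_zero _
  have h2 : padicValNat r (x ! * y !) ≤ padicValNat r ((x + y)!) :=
    padicValNat_dvd_iff_le hne |>.mp (by
      exact pow_padicValNat_dvd.trans h1)
  rw [padicValNat.mul (Nat.factorial_ne_zero _) (Nat.factorial_ne_zero _)] at h2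
  have h3 := Nat.mul_le_mul_left (r - 1) h2
  rw [mul_add, legendre, legendre, legendre] at h3
  have := S_le r x
  have := S_le r y
  have := S_le r (x + y)
  omega

theorem S_mul_base (r : ℕ) (hr : 2 ≤ r) (x : ℕ) : S r (r * x) = S r x := by
  rcases Nat.eq_zero_or_pos x with rfl | hx
  · simp [S]
  · rw [S_rec hr (by positivity)]
    rw [Nat.mul_mod_right, Nat.mul_div_cancel_left _ (by omega)]
    simp

theorem S_mul_small (r : ℕ) [hp : Fact r.Prime] (x d : ℕ) : S r (x * d) ≤ d * S r x := by
  induction d with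
  | zero => simp [S]
  | succ d ih =>
    rw [Nat.mul_succ, Nat.succ_mul]
    have := S_add r (x * d) x
    omega

theorem S_mul (r : ℕ) [hp : Fact r.Prime] (x y : ℕ) : S r (x * y) ≤ S r x * S r y := by
  have hr : 2 ≤ r := hp.out.two_le
  induction y using Nat.strong_induction_on with
  | _ y ih =>
    rcases Nat.eq_zero_or_pos y with rfl | hy
    · simp [S]
    · have hdiv : y / r < y := Nat.div_lt_self hy (by omega)
      have h1 := ih _ hdiv
      have h2 := S_mul_small r x (y % r)
      have h3 : x * y = r * (x * (y / r)) + x * (y % r) := by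
        conv_lhs => rw [← Nat.div_add_mod y r]
        ring
      rw [h3]
      have h4 := S_add r (r * (x * (y / r))) (x * (y % r))
      rw [S_mul_base r hr] at h4
      rw [S_rec hr hy, Nat.mul_add]
      calc _ ≤ _ := h4
        _ ≤ S r x * S r (y / r) + y % r * S r x := Nat.add_le_add h1 h2
        _ = _ := by ring

theorem S_pos {r x : ℕ} (hr : 2 ≤ r) (hx : 0 < x) : 0 < S r x := by
  induction x using Nat.strong_induction_on with
  | _ x ih =>
    rw [S_rec hr hx]
    by_cases h : x / r = 0
    · have : x % r = x := by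
        rw [Nat.div_eq_zero_iff] at h
        rcases h with h | h
        · omega
        · exact Nat.mod_eq_of_lt h
      omega
    · have := ih _ (Nat.div_lt_self hx (by omega)) (Nat.pos_of_ne_zero h)
      omega

theorem eq_pow_of_S_one {r : ℕ} (hr : 2 ≤ r) {x : ℕ} (h : S r x = 1) : ∃ j, x = r ^ j := by
  induction x using Nat.strong_induction_on with
  | _ x ih =>
    have hx : 0 < x := by
      rcases Nat.eq_zero_or_pos x with rfl | hx
      · simp [S] at h
      · exact hx
    have hrec := S_rec hr hx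
    by_cases h0 : x / r = 0
    · rw [h0, S_zero] at hrec
      have : x % r = x := by
        rw [Nat.div_eq_zero_iff] at h0
        rcases h0 with h0 | h0
        · omega
        · exact Nat.mod_eq_of_lt h0
      exact ⟨0, by simp; omega⟩
    · have hpos := S_pos hr (Nat.pos_of_ne_zero h0)
      have h1 : S r (x / r) = 1 := by omega
      have h2 : x % r = 0 := by omega
      obtain ⟨j, hj⟩ := ih _ (Nat.div_lt_self hx (by omega)) h1
      refine ⟨j + 1, ?_⟩
      have := Nat.div_add_mod x r
      rw [h2, hj] at this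
      rw [pow_succ, ← this]; ring

theorem lt_of_le_S {r : ℕ} (hr : 2 ≤ r) {b : ℕ} (h : b ≤ S r b) : b < r := by
  by_contra hb
  push Not at hb
  have hb0 : 0 < b := by omega
  have h1 := S_rec hr hb0
  have h2 := S_le r (b / r)
  have h3 := Nat.div_add_mod b r
  have h4 : 1 ≤ b / r := (Nat.one_le_div_iff (by omega)).mpr hb
  have h5 : 2 * (b / r) ≤ r * (b / r) := Nat.mul_le_mul_right _ hr
  omega

/-- The arithmetic of a block system `a × b` in a group with a full `r`-part. -/
theorem block_arith (r : ℕ) [hp : Fact r.Prime] (a b : ℕ) (ha : 1 ≤ a)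
    (h : padicValNat r ((a * b)!) ≤ b * padicValNat r (a !) + padicValNat r (b !)) :
    (∃ j, a = r ^ j) ∨ b < r := by
  have hr : 2 ≤ r := hp.out.two_le
  have h1 := Nat.mul_le_mul_left (r - 1) h
  rw [mul_add, mul_left_comm, legendre, legendre, legendre] at h1
  have hSa := S_le r a
  have hSb := S_le r b
  have hSab := S_le r (a * b)
  have hmul := S_mul r a b
  have hSapos := S_pos hr ha
  by_cases hS : S r a = 1
  · exact Or.inl (eq_pow_of_S_one hr hS)
  · right
    apply lt_of_le_S hr
    by_contra hlt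
    push Not at hlt
    have hSa2 : 2 ≤ S r a := by omega
    -- work in integers
    obtain ⟨u, hu⟩ : ∃ u, S r a = u + 2 := ⟨S r a - 2, by omega⟩
    obtain ⟨v, hv⟩ : ∃ v, b = S r b + 1 + v := ⟨b - S r b - 1, by omega⟩
    have h2 : b * (a - S r a) = b * a - b * S r a := by
      rw [Nat.mul_sub]
    have hba : b * S r a ≤ b * a := Nat.mul_le_mul_left _ hSa
    have hab : a * b = b * a := Nat.mul_comm _ _
    rw [h2] at h1
    have h4 : b * S r a + S r b ≤ S r (a * b) + b := by
      have : a * b - S r (a * b) ≤ b * a - b * S r a + (b - S r b) := h1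
      omega
    have h5 : b * S r a + S r b ≤ S r a * S r b + b := by omega
    rw [hu] at h5
    generalize S r b = w at *
    subst hv
    nlinarith


/-! ### Kummer -/

theorem dvd_choose_of_carry {r : ℕ} [hp : Fact r.Prime] {s m i : ℕ} (hi : 1 ≤ i)
    (h : r ^ i ≤ s % r ^ i + m % r ^ i) : r ∣ Nat.choose (s + m) s := by
  have hr : 2 ≤ r := hp.out.two_le
  have hpos : 0 < r ^ i := by positivity
  have hle : r ^ i ≤ s + m := by
    have := Nat.mod_le s (r ^ i)
    have := Nat.mod_le m (r ^ i)
    omega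
  have hlog : i ≤ Nat.log r (s + m) := Nat.le_log_of_pow_le (by omega) hle
  have hkum := padicValNat_choose (p := r) (n := s + m) (k := s) (b := Nat.log r (s + m) + 1)
    (by omega) (by omega)
  have hmem : i ∈ (Finset.Ico 1 (Nat.log r (s + m) + 1)).filter
      (fun i => r ^ i ≤ s % r ^ i + (s + m - s) % r ^ i) := by
    simp only [Finset.mem_filter, Finset.mem_Ico]
    refine ⟨⟨hi, by omega⟩, ?_⟩
    rwa [Nat.add_sub_cancel_left]
  have hcard : 0 < padicValNat r (Nat.choose (s + m) s) := by
    rw [hkum]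
    exact Finset.card_pos.mpr ⟨i, hmem⟩
  exact dvd_of_one_le_padicValNat hcard

/-- A prime not dividing `choose (s+m) s`: the sum has no carry at any level. -/
theorem not_carry {r : ℕ} [hp : Fact r.Prime] {s m : ℕ} (h : ¬ r ∣ Nat.choose (s + m) s) {i : ℕ}
    (hi : 1 ≤ i) : s % r ^ i + m % r ^ i < r ^ i := by
  by_contra hc
  exact h (dvd_choose_of_carry hi (by omega))

/-- For `1 ≤ s ≤ m`: if no prime `≤ m` divides `choose (s+m) s`, then `s + m` is prime. -/
theorem prime_add_of_no_small {s m : ℕ} (hs : 1 ≤ s) (hsm : s ≤ m)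
    (H : ∀ r : ℕ, r.Prime → r ≤ m → ¬ r ∣ Nat.choose (s + m) s) : (s + m).Prime := by
  by_contra hn
  obtain ⟨s', rfl⟩ : ∃ s', s = s' + 1 := ⟨s - 1, by omega⟩
  have hne1 : Nat.choose (s' + 1 + m) (s' + 1) ≠ 0 := (Nat.choose_pos (by omega)).ne'
  have hne2 : Nat.choose (s' + m) s' ≠ 0 := (Nat.choose_pos (by omega)).ne'
  have hdvd : Nat.choose (s' + 1 + m) (s' + 1) ∣ Nat.choose (s' + m) s' := by
    rw [← Nat.factorization_prime_le_iff_dvd hne1 hne2]
    intro r hr
    by_cases hrm : r ≤ m
    · have := H r hr hrm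
      rw [Nat.factorization_eq_zero_of_not_dvd this]
      exact Nat.zero_le _
    · push Not at hrm
      by_cases hrn : r ≤ s' + m
      · have h1 : r ∣ Nat.choose (s' + m) s' :=
          hr.dvd_choose_add (by omega) hrm hrn
        have h2 : 1 ≤ (Nat.choose (s' + m) s').factorization r :=
          (hr.dvd_iff_one_le_factorization hne2).mp h1
        have h3 : (Nat.choose (s' + 1 + m) (s' + 1)).factorization r ≤ Nat.log r (s' + 1 + m) :=
          Nat.factorization_choose_le_log
        have h4 : Nat.log r (s' + 1 + m) < 2 := by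
          apply Nat.log_lt_of_lt_pow (by omega)
          have : 2 ≤ r := hr.two_le
          nlinarith
        omega
      · have hrne : r ≠ s' + 1 + m := by
          rintro rfl
          exact hn hr
        have hlt : s' + 1 + m < r := by omega
        rw [Nat.factorization_choose_eq_zero_of_lt hlt]
        exact Nat.zero_le _
  have hle := Nat.le_of_dvd (Nat.pos_of_ne_zero hne2) hdvd
  have hid : (s' + m + 1) * Nat.choose (s' + m) s' =
      Nat.choose (s' + m + 1) (s' + 1) * (s' + 1) := Nat.add_one_mul_choose_eq _ _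
  have hcomm : s' + 1 + m = s' + m + 1 := by omega
  rw [hcomm] at hle
  have hpos : 0 < Nat.choose (s' + m + 1) (s' + 1) := Nat.choose_pos (by omega)
  have : (s' + m + 1) * Nat.choose (s' + m + 1) (s' + 1) ≤
      Nat.choose (s' + m + 1) (s' + 1) * (s' + 1) := by
    rw [← hid]
    exact Nat.mul_le_mul_left _ hle
  have hm1 : 1 ≤ m := by omega
  nlinarith

/-- For `1 ≤ s ≤ m`: if no prime `≤ m` divides `choose (s+m) s`, then `m + 1` is prime. -/
theorem prime_succ_of_no_small {s m : ℕ} (hs : 1 ≤ s) (hsm : s ≤ m)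
    (H : ∀ r : ℕ, r.Prime → r ≤ m → ¬ r ∣ Nat.choose (s + m) s) : (m + 1).Prime := by
  by_contra hn
  obtain ⟨s', rfl⟩ : ∃ s', s = s' + 1 := ⟨s - 1, by omega⟩
  have hne1 : Nat.choose (s' + 1 + m) (s' + 1) ≠ 0 := (Nat.choose_pos (by omega)).ne'
  have hne2 : Nat.choose (s' + 1 + m) s' ≠ 0 := (Nat.choose_pos (by omega)).ne'
  have hdvd : Nat.choose (s' + 1 + m) (s' + 1) ∣ Nat.choose (s' + 1 + m) s' := by
    rw [← Nat.factorization_prime_le_iff_dvd hne1 hne2]
    intro r hr
    by_cases hrm : r ≤ m
    · have := H r hr hrm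
      rw [Nat.factorization_eq_zero_of_not_dvd this]
      exact Nat.zero_le _
    · push Not at hrm
      have hrne : r ≠ m + 1 := by
        rintro rfl
        exact hn hr
      by_cases hrn : r ≤ s' + 1 + m
      · have h1 : r ∣ Nat.choose (s' + (m + 1)) s' :=
          hr.dvd_choose_add (by omega) (by omega) (by omega)
        have hcomm : s' + (m + 1) = s' + 1 + m := by omega
        rw [hcomm] at h1
        have h2 : 1 ≤ (Nat.choose (s' + 1 + m) s').factorization r :=
          (hr.dvd_iff_one_le_factorization hne2).mp h1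
        have h3 : (Nat.choose (s' + 1 + m) (s' + 1)).factorization r ≤ Nat.log r (s' + 1 + m) :=
          Nat.factorization_choose_le_log
        have h4 : Nat.log r (s' + 1 + m) < 2 := by
          apply Nat.log_lt_of_lt_pow (by omega)
          have : 2 ≤ r := hr.two_le
          nlinarith
        omega
      · have hlt : s' + 1 + m < r := by omega
        rw [Nat.factorization_choose_eq_zero_of_lt hlt]
        exact Nat.zero_le _
  have hle := Nat.le_of_dvd (Nat.pos_of_ne_zero hne2) hdvd
  have hid := Nat.choose_succ_right_eq (s' + 1 + m) s'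
  have hsub : s' + 1 + m - s' = m + 1 := by omega
  rw [hsub] at hid
  have hpos : 0 < Nat.choose (s' + 1 + m) (s' + 1) := Nat.choose_pos (by omega)
  have : Nat.choose (s' + 1 + m) (s' + 1) * (m + 1) ≤
      Nat.choose (s' + 1 + m) (s' + 1) * (s' + 1) := by
    rw [hid]
    exact Nat.mul_le_mul_right _ hle
  nlinarith

/-! ### Finite check -/

def kumAux (s m r : ℕ) : ℕ → ℕ → Bool
  | 0, _ => false
  | f+1, p => Nat.ble p (s + m) && (Nat.ble p (s % p + m % p) || kumAux s m r f (p * r))

theorem kumAux_sound {s m r : ℕ} [Fact r.Prime] : ∀ (f i : ℕ), 1 ≤ i →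
    kumAux s m r f (r ^ i) = true → r ∣ Nat.choose (s + m) s := by
  intro f
  induction f with
  | zero => intro i _ h; simp [kumAux] at h
  | succ f ih =>
    intro i hi h
    simp only [kumAux, Bool.and_eq_true, Bool.or_eq_true] at h
    rcases h.2 with h | h
    · exact dvd_choose_of_carry hi (Nat.le_of_ble_eq_true h)
    · exact ih (i + 1) (by omega) (by rw [pow_succ]; exact h)

def primeTail : List ℕ := [3, 5, 7, 11, 13, 17, 19, 23, 29, 31, 37, 41, 43, 47, 53, 59, 61, 67, 71, 73, 79, 83, 89, 97, 101, 103, 107, 109, 113, 127, 131, 137, 139, 149, 151, 157, 163, 167, 173, 179, 181, 191, 193, 197, 199, 211, 223, 227, 229, 233, 239, 241, 251, 257, 263, 269, 271, 277, 281, 283, 293, 307, 311, 313, 317, 331, 337, 347, 349, 353, 359, 367, 373, 379, 383, 389, 397, 401, 409, 419, 421, 431, 433, 439, 443, 449, 457, 461, 463, 467, 479, 487, 491, 499, 503, 509, 521, 523, 541, 547, 557, 563, 569, 571, 577, 587, 593, 599, 601, 607, 613, 617, 619, 631, 641, 643, 647, 653, 659, 661, 673, 677, 683, 691, 701, 709, 719,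 727, 733, 739, 743, 751, 757, 761, 769, 773, 787, 797, 809, 811, 821, 823, 827, 829, 839, 853, 857, 859, 863, 877, 881, 883, 887, 907, 911, 919, 929, 937, 941, 947, 953, 967, 971, 977, 983, 991, 997, 1009, 1013, 1019, 1021, 1031, 1033, 1039, 1049, 1051, 1061, 1063, 1069, 1087, 1091, 1093, 1097, 1103, 1109, 1117, 1123, 1129, 1151, 1153, 1163, 1171, 1181, 1187, 1193, 1201, 1213, 1217, 1223, 1229, 1231, 1237, 1249, 1259, 1277, 1279, 1283, 1289, 1291, 1297, 1301, 1303, 1307, 1319, 1321, 1327, 1361, 1367, 1373, 1381, 1399, 1409, 1423, 1427, 1429, 1433, 1439, 1447, 1451, 1453, 1459, 1471, 1481, 1483, 1487, 1489, 1493, 1499, 1511, 1523, 1531, 1543, 1549, 1553, 1559, 1567, 1571, 1579, 1583, 1597, 1601, 1607, 1609, 1613, 1619, 1621, 1627, 1637, 1657, 1663, 1667, 1669, 1693, 1697, 1699, 1709, 1721, 1723, 1733, 1741, 1747, 1753, 1759, 1777, 1783, 1787, 1789, 1801, 1811, 1823, 1831, 1847, 1861, 1867, 1871, 1873, 1877, 1879, 1889, 1901, 1907, 1913, 1931, 1933, 1949, 1951, 1973, 1979, 1987, 1993, 1997, 1999]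

def primeList : List ℕ := 2 :: primeTail

def anyWit (s m : ℕ) : List ℕ → Bool
  | [] => false
  | r :: rs => (Nat.ble r m && kumAux s m r 12 r) || anyWit s m rs

def chkPair (n q : ℕ) : Bool :=
  Nat.blt (n + 1) q || Nat.blt (n + 1 - q) 2 || Nat.blt n (2 * (n + 1 - q)) ||
    (Nat.beq n 7 && Nat.beq q 5) || anyWit (n + 1 - q) (q - 1) primeList

def loopQ (n : ℕ) : List ℕ → Bool
  | [] => true
  | q :: qs => chkPair n q && loopQ n qs

def loopP : List ℕ → Bool
  | [] => true
  | n :: ns => loopQ n primeList && loopP ns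

set_option maxRecDepth 100000 in
theorem loopP_ok : loopP primeList = true := by decide +kernel

def smallL : List ℕ := [2,3,5,7,11,13,17,19,23,29,31,37,41,43]

def isPrimeB (r : ℕ) : Bool :=
  Nat.ble 2 r && Nat.blt r 2000 && !(smallL.any (fun d => Nat.blt d r && Nat.beq (r % d) 0))

set_option maxRecDepth 100000 in
theorem primeList_all : primeList.all isPrimeB = true := by decide +kernel

theorem small_prime_mem : ∀ d < 45, d.Prime → d ∈ smallL := by
  intro d hd hp
  interval_cases d <;> first | (simp [smallL]; done) | (exfalso; revert hp; norm_num)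

theorem isPrimeB_sound {r : ℕ} (h : isPrimeB r = true) : r.Prime := by
  simp only [isPrimeB, Bool.and_eq_true, Bool.not_eq_true'] at h
  obtain ⟨⟨h2, h3⟩, h⟩ := h
  have h2 : 2 ≤ r := Nat.le_of_ble_eq_true h2
  have h3 : r < 2000 := Nat.le_of_ble_eq_true h3
  by_contra hnp
  have hmf : (Nat.minFac r).Prime := Nat.minFac_prime (by omega)
  have hsq : Nat.minFac r ^ 2 ≤ r := Nat.minFac_sq_le_self (by omega) hnp
  have hlt : Nat.minFac r < 45 := by
    by_contra hc
    push Not at hc
    nlinarith
  have hmem := small_prime_mem _ hlt hmf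
  have hne : Nat.minFac r ≠ r := fun he => hnp (he ▸ hmf)
  have hle : Nat.minFac r ≤ r := Nat.minFac_le (by omega)
  have hany : (smallL.any fun d => Nat.blt d r && Nat.beq (r % d) 0) = true :=
    List.any_eq_true.mpr ⟨_, hmem, by
      simp only [Bool.and_eq_true]
      refine ⟨Nat.ble_eq_true_of_le (by omega), ?_⟩
      rw [Nat.mod_eq_zero_of_dvd (Nat.minFac_dvd r)]
      rfl⟩
  rw [hany] at h
  exact absurd h (by simp)

/-- consecutive gaps -/
def gapOK (a : ℕ) : ℕ → Bool
  | 0 => true
  | k+1 => smallL.any (fun d => Nat.blt d (a + k + 1) && Nat.beq ((a + k + 1) % d) 0) && gapOK a k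

/-- sorted list of primes with composite gaps up to a bound -/
def sieveL : ℕ → List ℕ → Bool
  | a, [] => Nat.ble 2000 (a + 1)
  | a, b :: bs => Nat.blt a b && gapOK a (b - a - 1) && sieveL b bs

set_option maxRecDepth 100000 in
theorem sieveL_ok : sieveL 2 primeTail = true := by decide +kernel

theorem smallL_gt : ∀ d ∈ smallL, 2 ≤ d := by decide

theorem gapOK_sound {a : ℕ} : ∀ k : ℕ, gapOK a k = true → ∀ x : ℕ, a < x → x ≤ a + k → ¬ x.Prime := by
  intro k
  induction k with
  | zero => intro _ x h1 h2; omega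
  | succ k ih =>
    intro h x h1 h2 hp
    simp only [gapOK, Bool.and_eq_true] at h
    by_cases hx : x ≤ a + k
    · exact ih h.2 x h1 hx hp
    · have hxe : x = a + k + 1 := by omega
      subst hxe
      obtain ⟨d, hd, hd2⟩ := List.any_eq_true.mp h.1
      simp only [Bool.and_eq_true] at hd2
      have hlt : d < a + k + 1 := Nat.le_of_ble_eq_true hd2.1
      have hmod : (a + k + 1) % d = 0 := Nat.eq_of_beq_eq_true hd2.2
      have hdvd : d ∣ a + k + 1 := Nat.dvd_of_mod_eq_zero hmod
      have := (Nat.dvd_prime hp).mp hdvd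
      have := smallL_gt d hd
      omega

theorem sieveL_sound : ∀ (l : List ℕ) (a : ℕ), sieveL a l = true →
    ∀ x : ℕ, a < x → x < 2000 → x.Prime → x ∈ l := by
  intro l
  induction l with
  | nil =>
    intro a h x h1 h2 _
    simp only [sieveL] at h
    have := Nat.le_of_ble_eq_true h
    omega
  | cons b bs ih =>
    intro a h x h1 h2 hp
    simp only [sieveL, Bool.and_eq_true] at h
    obtain ⟨⟨hab, hg⟩, hs⟩ := h
    have hab : a < b := Nat.le_of_ble_eq_true hab
    by_cases hxb : x < b
    · exact absurd hp (gapOK_sound _ hg x h1 (by omega))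
    · by_cases hxe : x = b
      · subst hxe; simp
      · exact List.mem_cons_of_mem _ (ih b hs x (by omega) h2 hp)

theorem mem_primeList {p : ℕ} (hp : p < 2000) (hpp : p.Prime) : p ∈ primeList := by
  by_cases h2 : p = 2
  · subst h2; simp [primeList]
  · have := hpp.two_le
    exact List.mem_cons_of_mem _ (sieveL_sound _ 2 sieveL_ok p (by omega) hp hpp)

theorem prime_of_mem {p : ℕ} (hp : p ∈ primeList) : p.Prime :=
  isPrimeB_sound (List.all_eq_true.mp primeList_all p hp)

theorem anyWit_sound {s m : ℕ} : ∀ l : List ℕ, (∀ r ∈ l, r.Prime) → anyWit s m l = true →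
    ∃ r : ℕ, r.Prime ∧ r ≤ m ∧ r ∣ Nat.choose (s + m) s := by
  intro l
  induction l with
  | nil => intro _ h; simp [anyWit] at h
  | cons r rs ih =>
    intro hl h
    simp only [anyWit, Bool.or_eq_true, Bool.and_eq_true] at h
    rcases h with ⟨h1, h2⟩ | h
    · have hr : r.Prime := hl r (by simp)
      have : Fact r.Prime := ⟨hr⟩
      refine ⟨r, hr, Nat.le_of_ble_eq_true h1, kumAux_sound 12 1 le_rfl (by rw [pow_one]; exact h2)⟩
    · exact ih (fun x hx => hl x (by simp [hx])) h

theorem loopP_sound : ∀ ns : List ℕ, loopP ns = true → ∀ n ∈ ns, ∀ q ∈ primeList, chkPair n q = true := by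
  intro ns
  induction ns with
  | nil => intro _ n hn; simp at hn
  | cons a as ih =>
    intro h n hn q hq
    simp only [loopP, Bool.and_eq_true] at h
    obtain ⟨h1, h2⟩ := h
    rw [List.mem_cons] at hn
    rcases hn with rfl | hn
    · have : ∀ l : List ℕ, loopQ n l = true → ∀ q ∈ l, chkPair n q = true := by
        intro l
        induction l with
        | nil => intro _ q hq; simp at hq
        | cons b bs ihb =>
          intro h q hq
          simp only [loopQ, Bool.and_eq_true] at h
          rw [List.mem_cons] at hq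
          rcases hq with rfl | hq
          · exact h.1
          · exact ihb h.2 q hq
      exact this _ h1 q hq
    · exact ih h2 n hn q hq

/-- The finite part of the theorem on binomial coefficients. -/
theorem small_star {s m : ℕ} (hs : 2 ≤ s) (hsm : s ≤ m) (hn : s + m < 2000)
    (H : ∀ r : ℕ, r.Prime → r ≤ m → ¬ r ∣ Nat.choose (s + m) s) : s = 3 ∧ m = 4 := by
  have h1 := prime_add_of_no_small (by omega) hsm H
  have h2 := prime_succ_of_no_small (by omega) hsm H
  have h3 := loopP_sound primeList loopP_ok (s + m) (mem_primeList hn h1) (m + 1)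
    (mem_primeList (by omega) h2)
  simp only [chkPair, Bool.or_eq_true, Bool.and_eq_true] at h3
  have e1 : s + m + 1 - (m + 1) = s := by omega
  have e2 : m + 1 - 1 = m := by omega
  rw [e1, e2] at h3
  rcases h3 with (((h3 | h3) | h3) | h3) | h3
  · have : s + m + 1 < m + 1 := Nat.le_of_ble_eq_true h3
    omega
  · have : s < 2 := Nat.le_of_ble_eq_true h3
    omega
  · have : s + m < 2 * s := Nat.le_of_ble_eq_true h3
    omega
  · have h7 : s + m = 7 := Nat.eq_of_beq_eq_true h3.1
    have h5 : m + 1 = 5 := Nat.eq_of_beq_eq_true h3.2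
    omega
  · obtain ⟨r, hr, hrm, hd⟩ := anyWit_sound primeList (fun r hr => prime_of_mem hr) h3
    exact absurd hd (H r hr hrm)

end Cfsg.Agent.Lib.HallNum
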