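import Mathlib
import Cfsg.Agent.Lib.BrauerGlobal
import Cfsg.Agent.Lib.Monomial
import Cfsg.Agent.Lib.CharNormalProj
import Cfsg.Agent.Lib.RealChars

/-!
# Hall parts of elements, nilpotent splittings and integrality of inner products

For coprime `m`, `n`, every element of order dividing `m * n` is uniquely the commuting product of
an element killed by `m` and an element killed by `n`.  In a nilpotent group these elements form
normal subgroups.  A class function whose inner products on elementary subgroups are algebraic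
integers has algebraic integer inner products (Brauer).
-/

set_option autoImplicit false
set_option linter.unusedSectionVars false
set_option linter.style.haveILetI false

namespace Cfsg.Agent.Lib.HallParts

open Cfsg Cfsg.Agent.Lib.CharBasic Cfsg.Agent.Lib.CharInd Cfsg.Agent.Lib.BrauerInd
  Cfsg.Agent.Lib.BrauerGlobal
open scoped ComplexConjugate

universe u

section Exp

/-- Exponents projecting on the two parts. -/
theorem exists_exps (m n : ℕ) (h : Nat.Coprime m n) :
    ∃ k k' : ℕ, k ≡ 1 [MOD m] ∧ k ≡ 0 [MOD n] ∧ k' ≡ 0 [MOD m] ∧ k' ≡ 1 [MOD n] := by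
  obtain ⟨k, hk⟩ := Nat.chineseRemainder h 1 0
  obtain ⟨k', hk'⟩ := Nat.chineseRemainder h 0 1
  exact ⟨k, k', hk.1, hk.2, hk'.1, hk'.2⟩

variable {G : Type*} [Group G]

theorem pow_eq_of_modEq {x : G} {N a b : ℕ} (hx : x ^ N = 1) (h : a ≡ b [MOD N]) : x ^ a = x ^ b := by
  rw [pow_eq_pow_mod a hx, pow_eq_pow_mod b hx, h]

variable {m n k k' : ℕ}

/-- The element is the product of its parts. -/
theorem parts_mul (hcop : Nat.Coprime m n) (h1 : k ≡ 1 [MOD m]) (h2 : k ≡ 0 [MOD n])
    (h3 : k' ≡ 0 [MOD m]) (h4 : k' ≡ 1 [MOD n]) {x : G} (hx : x ^ (m * n) = 1) :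
    x ^ k * x ^ k' = x := by
  rw [← pow_add]
  have h5 : k + k' ≡ 1 [MOD m * n] := by
    rw [← Nat.modEq_and_modEq_iff_modEq_mul hcop]
    exact ⟨by simpa using h1.add h3, by simpa using h2.add h4⟩
  rw [pow_eq_of_modEq hx h5, pow_one]

theorem part_pow_left (h2 : k ≡ 0 [MOD n]) {x : G} (hx : x ^ (m * n) = 1) : (x ^ k) ^ m = 1 := by
  have h3 : n ∣ k := (Nat.modEq_zero_iff_dvd).mp h2
  obtain ⟨c, rfl⟩ := h3
  rw [← pow_mul, show n * c * m = m * n * c by ring, pow_mul, hx, one_pow]

theorem part_pow_right (h3 : k' ≡ 0 [MOD m]) {x : G} (hx : x ^ (m * n) = 1) : (x ^ k') ^ n = 1 := by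
  have h4 : m ∣ k' := (Nat.modEq_zero_iff_dvd).mp h3
  obtain ⟨c, rfl⟩ := h4
  rw [← pow_mul, show m * c * n = m * n * c by ring, pow_mul, hx, one_pow]

/-- Uniqueness of the parts. -/
theorem part_left_eq (h1 : k ≡ 1 [MOD m]) (h2 : k ≡ 0 [MOD n]) {u v : G} (hc : Commute u v)
    (hu : u ^ m = 1) (hv : v ^ n = 1) : (u * v) ^ k = u := by
  rw [hc.mul_pow, pow_eq_of_modEq hu h1, pow_eq_of_modEq hv h2, pow_one, pow_zero, mul_one]

theorem part_right_eq (h3 : k' ≡ 0 [MOD m]) (h4 : k' ≡ 1 [MOD n]) {u v : G} (hc : Commute u v)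
    (hu : u ^ m = 1) (hv : v ^ n = 1) : (u * v) ^ k' = v := by
  rw [hc.mul_pow, pow_eq_of_modEq hu h3, pow_eq_of_modEq hv h4, pow_one, pow_zero, one_mul]

theorem eq_one_of_pow_pow (hcop : Nat.Coprime m n) {x : G} (h1 : x ^ m = 1) (h2 : x ^ n = 1) : x = 1 := by
  have h3 := orderOf_dvd_of_pow_eq_one h1
  have h4 := orderOf_dvd_of_pow_eq_one h2
  have h5 : orderOf x = 1 := Nat.Coprime.eq_one_of_dvd (hcop.coprime_dvd_left h3) h4
  exact orderOf_eq_one_iff.mp h5

end Exp

section Nilp

variable {E : Type u} [Group E] [Finite E]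

/-- In a nilpotent group of order dividing `m n`, the elements killed by `m` are closed under
multiplication. -/
theorem pow_mul_eq_one_of_nilpotent [Group.IsNilpotent E] {m n : ℕ} (hcop : Nat.Coprime m n)
    (hcard : Nat.card E ∣ m * n) {a b : E} (ha : a ^ m = 1) (hb : b ^ m = 1) : (a * b) ^ m = 1 := by
  classical
  obtain ⟨e⟩ := (Group.isNilpotent_of_finite_tfae (G := E)).out 0 4 |>.mp ‹_›
  have hcomp : ∀ (c : E) (p : (Nat.card E).primeFactors) (P : Sylow p E), c ^ m = 1 →
      ((e.symm c) p P) ^ m = 1 := by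
    intro c p P hc
    have h1 : (e.symm c) ^ m = 1 := by rw [← map_pow, hc, map_one]
    have h2 := congrFun (congrFun h1 p) P
    simpa using h2
  apply e.symm.injective
  rw [map_pow, map_one]
  funext p P
  haveI hpp : Fact (p : ℕ).Prime := ⟨Nat.prime_of_mem_primeFactors p.2⟩
  show ((e.symm (a * b)) p P) ^ m = 1
  rw [map_mul]
  show ((e.symm a) p P * (e.symm b) p P) ^ m = 1
  by_cases hpm : (p : ℕ) ∣ m
  · -- the order of `P` divides `m`
    obtain ⟨s, hs⟩ := IsPGroup.iff_card.mp P.isPGroup'
    have h1 : Nat.card (P : Subgroup E) ∣ m * n := (Subgroup.card_subgroup_dvd_card _).trans hcard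
    have hpn : Nat.Coprime (p : ℕ) n := Nat.Coprime.coprime_dvd_left hpm hcop
    have h2 : Nat.card (P : Subgroup E) ∣ m := by
      rw [hs] at h1 ⊢
      exact (Nat.Coprime.pow_left s hpn).dvd_of_dvd_mul_right h1
    obtain ⟨c, hc⟩ := h2
    rw [hc, pow_mul, pow_card_eq_one', one_pow]
  · -- the components vanish
    have hzero : ∀ c : E, c ^ m = 1 → (e.symm c) p P = 1 := by
      intro c hc
      have h1 := hcomp c p P hc
      obtain ⟨s, hs⟩ := P.isPGroup' ((e.symm c) p P)
      have h3 : Nat.Coprime (p ^ s) m :=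
        Nat.Coprime.pow_left s ((Nat.Prime.coprime_iff_not_dvd hpp.out).mpr hpm)
      exact eq_one_of_pow_pow h3 hs h1
    rw [hzero a ha, hzero b hb]
    simp

/-- The subgroup of elements killed by `m` in a nilpotent group. -/
def killed [Group.IsNilpotent E] {m n : ℕ} (hcop : Nat.Coprime m n) (hcard : Nat.card E ∣ m * n) :
    Subgroup E where
  carrier := {x | x ^ m = 1}
  one_mem' := one_pow m
  mul_mem' := fun ha hb => pow_mul_eq_one_of_nilpotent hcop hcard ha hb
  inv_mem' := fun {a} ha => by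
    show a⁻¹ ^ m = 1
    rw [inv_pow, show a ^ m = 1 from ha, inv_one]

theorem mem_killed [Group.IsNilpotent E] {m n : ℕ} (hcop : Nat.Coprime m n)
    (hcard : Nat.card E ∣ m * n) (x : E) : x ∈ killed hcop hcard ↔ x ^ m = 1 := Iff.rfl

instance killed_normal [Group.IsNilpotent E] {m n : ℕ} (hcop : Nat.Coprime m n)
    (hcard : Nat.card E ∣ m * n) : (killed hcop hcard).Normal := by
  constructor
  intro x hx g
  rw [mem_killed] at hx ⊢
  rw [conj_pow, hx]
  simp

variable [Group.IsNilpotent E] {m n : ℕ} (hcop : Nat.Coprime m n) (hcard : Nat.card E ∣ m * n)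

/-- The complementary subgroup. -/
abbrev killed' : Subgroup E :=
  killed (m := n) (n := m) hcop.symm (by rwa [mul_comm])

theorem killed_disjoint : Disjoint (killed hcop hcard) (killed' hcop hcard) := by
  rw [Subgroup.disjoint_def]
  intro x h1 h2
  exact eq_one_of_pow_pow hcop h1 h2

theorem killed_commute (a b : E) (ha : a ∈ killed hcop hcard) (hb : b ∈ killed' hcop hcard) :
    Commute a b :=
  Subgroup.commute_of_normal_of_disjoint _ _ inferInstance inferInstance
    (killed_disjoint hcop hcard) a b ha hb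

theorem pow_total {m' n' : ℕ} (hc' : Nat.card E ∣ m' * n') (x : E) : x ^ (m' * n') = 1 := by
  obtain ⟨c, hc⟩ := hc'
  rw [hc, pow_mul, pow_card_eq_one', one_pow]

/-- Sum over a nilpotent group as a double sum over the two parts. -/
theorem sum_split [Fintype E] [Fintype (killed hcop hcard)] [Fintype (killed' hcop hcard)] (f : E → ℂ) :
    ∑ z, f z = ∑ a : killed hcop hcard, ∑ b : killed' hcop hcard, f (a * b) := by
  classical
  obtain ⟨k, k', h1, h2, h3, h4⟩ := exists_exps m n hcop
  have hbij : Function.Bijective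
      (fun q : (killed hcop hcard) × (killed' hcop hcard) => (q.1 : E) * q.2) := by
    constructor
    · intro q q' hq
      have hq' : (q.1 : E) * q.2 = q'.1 * q'.2 := hq
      have h5 : (q'.1 : E)⁻¹ * q.1 = q'.2 * (q.2 : E)⁻¹ := by
        calc (q'.1 : E)⁻¹ * q.1 = (q'.1 : E)⁻¹ * ((q.1 : E) * q.2) * (q.2 : E)⁻¹ := by group
          _ = (q'.1 : E)⁻¹ * ((q'.1 : E) * q'.2) * (q.2 : E)⁻¹ := by rw [hq']
          _ = _ := by group
      have h6 : (q'.1 : E)⁻¹ * q.1 ∈ killed hcop hcard := mul_mem (inv_mem q'.1.2) q.1.2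
      have h7 : (q'.1 : E)⁻¹ * q.1 ∈ killed' hcop hcard := by
        rw [h5]
        exact mul_mem q'.2.2 (inv_mem q.2.2)
      have h8 := Subgroup.disjoint_def.mp (killed_disjoint hcop hcard) h6 h7
      have h9 : (q.1 : E) = q'.1 := by
        rw [inv_mul_eq_one] at h8
        exact h8.symm
      have h10 : (q.2 : E) = q'.2 := by
        rw [h9] at hq'
        exact mul_left_cancel hq'
      exact Prod.ext (Subtype.ext h9) (Subtype.ext h10)
    · intro z
      have hz := pow_total hcard z
      refine ⟨(⟨z ^ k, part_pow_left h2 hz⟩, ⟨z ^ k', part_pow_right h3 hz⟩), ?_⟩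
      exact parts_mul hcop h1 h2 h3 h4 hz
  rw [← Fintype.sum_prod_type']
  exact (Function.Bijective.sum_comp hbij f).symm

/-- The product of the orders. -/
theorem card_killed_mul : Nat.card (killed hcop hcard) * Nat.card (killed' hcop hcard) = Nat.card E := by
  classical
  letI := Fintype.ofFinite E
  letI : Fintype (killed hcop hcard) := Fintype.ofFinite _
  letI : Fintype (killed' hcop hcard) := Fintype.ofFinite _
  have h := sum_split hcop hcard (fun _ => (1 : ℂ))
  simp only [Finset.sum_const, Finset.card_univ, nsmul_eq_mul, mul_one] at h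
  rw [Nat.card_eq_fintype_card, Nat.card_eq_fintype_card, Nat.card_eq_fintype_card]
  exact_mod_cast h.symm

/-- The order of the subgroup of elements killed by `n` divides `n`. -/
theorem card_killed'_dvd : Nat.card (killed' hcop hcard) ∣ n := by
  have h1 : Nat.card (killed' hcop hcard) ∣ m * n :=
    (Subgroup.card_subgroup_dvd_card _).trans hcard
  have h2 : Nat.Coprime (Nat.card (killed' hcop hcard)) m := by
    apply Nat.Coprime.symm
    rw [Nat.coprime_iff_gcd_eq_one] at *
    by_contra hne
    obtain ⟨q, hq, hqd⟩ := Nat.exists_prime_and_dvd hne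
    have hq1 : q ∣ m := hqd.trans (Nat.gcd_dvd_left _ _)
    have hq2 : q ∣ Nat.card (killed' hcop hcard) := hqd.trans (Nat.gcd_dvd_right _ _)
    obtain ⟨y, hy⟩ := exists_prime_orderOf_dvd_card' q hq2 (hp := ⟨hq⟩)
    have h3 : (y : E) ^ n = 1 := y.2
    have h4 : orderOf (y : E) = q := by
      rw [Subgroup.orderOf_coe]
      exact hy
    have h5 : q ∣ n := by
      rw [← h4]
      exact orderOf_dvd_of_pow_eq_one h3
    have h6 := Nat.dvd_gcd hq1 h5
    rw [hcop] at h6
    exact hq.one_lt.ne' (Nat.dvd_one.mp h6)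
  exact h2.dvd_of_dvd_mul_left h1

end Nilp

section Integrality

variable {G : Type u} [Group G] [Fintype G]

/-- Inner products on elementary subgroups control inner products on the group. -/
theorem isIntegral_inner_global {θ : G → ℂ} (hθ : IsClassFunction G θ)
    (hE : ∀ (E : Subgroup G) (p : ℕ), p.Prime → IsElementary p E → ∀ [Fintype E], ∀ ψ : E → ℂ,
      IsCharacter E ψ → IsIntegral ℤ (classInner (fun e : E => θ e) ψ))
    {χ : G → ℂ} (hχ : IsCharacter G χ) : IsIntegral ℤ (classInner θ χ) := by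
  classical
  have key : ∀ f ∈ globalSpan G, ∀ χ : G → ℂ, IsCharacter G χ → IsIntegral ℤ (classInner (f * θ) χ) := by
    intro f hf
    induction hf using AddSubgroup.closure_induction with
    | mem f hf =>
      obtain ⟨p, hp, E, φ, hEl, hφ, rfl⟩ := hf
      intro χ hχ
      letI : Fintype E := Fintype.ofFinite E
      rw [← indFun_mul_restrict E φ hθ, frobenius E _ (isClassFunction_of_isCharacter hχ)]
      have h1 : classInner (φ * fun h : E => θ h) (fun h : E => χ h) =
          classInner (fun e : E => θ e) (fun e : E => conj (φ e) * χ e) := by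
        unfold classInner
        congr 1
        refine Finset.sum_congr rfl fun e _ => ?_
        simp only [Pi.mul_apply, map_mul, Complex.conj_conj]
        ring
      rw [h1]
      apply hE E p hp hEl
      exact isCharacter_mul (χ := fun e : E => conj (φ e)) (ψ := fun e : E => χ e)
        (Cfsg.Agent.Lib.RealChars.isCharacter_conj hφ) (isCharacter_restrict E hχ)
    | zero =>
      intro χ _
      have h0 : (0 : G → ℂ) * θ = 0 := by
        funext g
        simp
      rw [h0, classInner_zero_left]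
      exact isIntegral_zero
    | add a b _ _ ha hb =>
      intro χ hχ
      rw [add_mul, classInner_add_left]
      exact (ha χ hχ).add (hb χ hχ)
    | neg a _ ha =>
      intro χ hχ
      have h1 : (-a) * θ = (-1 : ℂ) • (a * θ) := by
        funext g
        simp
      rw [h1, classInner_smul_left]
      have h2 := (ha χ hχ).neg
      simpa using h2
  have h1 := key _ one_mem_globalSpan χ hχ
  have h2 : (fun _ : G => (1 : ℂ)) * θ = θ := by
    funext g
    simp
  rwa [h2] at h1

end Integrality

section Section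

variable {E : Type u} [Group E] [Fintype E] [Group.IsNilpotent E]

/-- The inner product of a section function with a character of a nilpotent group. -/
theorem isIntegral_inner_section {m n : ℕ} (hcop : Nat.Coprime m n) (hcard : Nat.card E ∣ m * n)
    (τ : E → ℂ) (hτ : ∀ y, IsIntegral ℤ (τ y)) (ϑ : E → ℂ)
    (hϑ : ∀ a b : E, a ^ m = 1 → b ^ n = 1 → Commute a b → ϑ (a * b) = n * τ b) {ψ : E → ℂ}
    (hψ : IsCharacter E ψ) : IsIntegral ℤ (classInner ϑ ψ) := by
  classical
  obtain ⟨r, rfl⟩ := exists_nat_decomp hψ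
  rw [classInner_sum_right]
  refine IsIntegral.sum _ fun i _ => ?_
  rw [← Nat.cast_smul_eq_nsmul ℂ, classInner_smul_right]
  have hc : (conj ((r i : ℕ) : ℂ)) = (r i : ℂ) := by simp
  rw [hc]
  refine IsIntegral.mul (isIntegral_natCast _) ?_
  letI : Fintype (killed hcop hcard) := Fintype.ofFinite _
  letI : Fintype (killed' hcop hcard) := Fintype.ofFinite _
  let A := killed hcop hcard
  let B := killed' hcop hcard
  let ψ' : E → ℂ := fun z => conj ((i : E → ℂ) z)
  have hψ' : IsIrrCharacter E ψ' := Cfsg.Agent.Lib.RealChars.isIrrCharacter_conj i.2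
  have hψ'c := IsIrrCharacter.isCharacter hψ'
  have hint : ∀ y, IsIntegral ℤ (ψ' y) := by
    intro y
    obtain ⟨l, ρ, hρ⟩ := hψ'c
    rw [← hρ]
    exact Cfsg.Agent.Lib.CharValues.isIntegral_character ρ y
  have hAne : (Nat.card A : ℂ) ≠ 0 := natCard_ne_zero'
  have hBne : (Nat.card B : ℂ) ≠ 0 := natCard_ne_zero'
  have hEcard : (Nat.card E : ℂ) = (Nat.card A : ℂ) * Nat.card B := by
    have := card_killed_mul hcop hcard
    rw [← this]
    push_cast
    rfl
  have hexp : classInner ϑ (i : E → ℂ) = (Nat.card E : ℂ)⁻¹ * ∑ a : A, ∑ b : B, (n : ℂ) * τ b * ψ' (a * b) := by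
    unfold classInner
    congr 1
    rw [sum_split hcop hcard]
    refine Finset.sum_congr rfl fun a _ => Finset.sum_congr rfl fun b _ => ?_
    rw [hϑ a b a.2 b.2 (killed_commute hcop hcard a b a.2 b.2)]
  rw [hexp]
  have hswap : ∑ a : A, ∑ b : B, (n : ℂ) * τ b * ψ' (a * b) =
      ∑ b : B, (n : ℂ) * τ b * ∑ a : A, ψ' (a * b) := by
    rw [Finset.sum_comm]
    refine Finset.sum_congr rfl fun b _ => ?_
    rw [Finset.mul_sum]
  rw [hswap]
  obtain ⟨c, hc⟩ := card_killed'_dvd hcop hcard
  have hnB : (n : ℂ) = (Nat.card B : ℂ) * c := by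
    conv_lhs => rw [hc]
    push_cast
    rfl
  rcases Cfsg.Agent.Lib.CharNormalProj.proj_irr hψ' A with h | h
  · simp only [h, mul_zero, Finset.sum_const_zero]
    exact isIntegral_zero
  · simp only [h]
    have h3 : (Nat.card E : ℂ)⁻¹ * ∑ b : B, (n : ℂ) * τ b * ((Nat.card A : ℂ) * ψ' b) =
        ∑ b : B, (c : ℂ) * (τ b * ψ' b) := by
      rw [hEcard, Finset.mul_sum]
      refine Finset.sum_congr rfl fun b _ => ?_
      rw [hnB]
      field_simp
    rw [h3]
    refine IsIntegral.sum _ fun b _ => ?_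
    exact IsIntegral.mul (isIntegral_natCast _) ((hτ b).mul (hint b))

end Section

end Cfsg.Agent.Lib.HallParts
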