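import Cfsg.Agent.Lib.HeDChk
import Cfsg.Agent.Lib.HeDSt0
import Cfsg.Agent.Lib.HeDSt1
import Cfsg.Agent.Lib.HeDSt2
import Cfsg.Agent.Lib.HeDSt3
import Cfsg.Agent.Lib.HeDSt4
import Cfsg.Agent.Lib.HeDSt5
import Cfsg.Agent.Lib.HeDSt6

set_option autoImplicit false
set_option maxRecDepth 100000
set_option linter.unusedSectionVars false

/-! Generated file: the chain and the order of the group. -/

namespace Cfsg.Agent.Lib.HeDMain

open Cfsg.Agent.Lib.ChainCert Cfsg.Agent.Lib.ProgBits Cfsg.Agent.Lib.ProgChain Cfsg.Agent.Lib.PermChain Cfsg.Agent.Lib.TcBits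
open Cfsg.Agent.Lib.HeDTab
open Cfsg.Agent.Lib.HeDChk Cfsg.Agent.Lib.HeDSt0 Cfsg.Agent.Lib.HeDSt1 Cfsg.Agent.Lib.HeDSt2 Cfsg.Agent.Lib.HeDSt3 Cfsg.Agent.Lib.HeDSt4 Cfsg.Agent.Lib.HeDSt5 Cfsg.Agent.Lib.HeDSt6

theorem hN : nat_lit 4096 = 2 ^ 12 := by norm_num
theorem hM : M = 2 ^ 2314 - 1 := by decide +kernel
theorem hR : R = repU 4096 12 := by decide +kernel
theorem hY : Y = yId 12 := by decide +kernel
theorem htot : ∀ e, 47 ≤ e → pr e = [] := by
  intro e he
  rw [pr, show Nat.ble ((nat_lit 47)) e = true from Nat.ble_eq_true_of_le he]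
  rfl

/-- the context -/
theorem ctx : Ctx 2314 12 pr R Y :=
  ctx_mk' (N := (nat_lit 4096)) (M := M) (tot := 47) (by norm_num) hN hM hR hY let_all htot

/-- the letters -/
noncomputable abbrev g : ℕ → Equiv.Perm (Fin 2314) := lp pr 2314

theorem hOb6 : Om6.testBit 2 = true := by decide +kernel
theorem hroot6 : tw6 2 = [] := by decide +kernel
theorem lev6 : (∀ e, 45 ≤ e → g e ∈ grp g 45 2) ∧
    Level (grp g 45 2) (grp g 47 0) ⟨2, by norm_num⟩
      (fun p => prodW g (tw6 p.val)) (orbF 2314 Om6) :=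
  level_bundle ctx (lo := 45) (ns := 2) (hi := 47) (ns' := 0) (b := 2) (Om := Om6) (tw := tw6) (st := stE6) (der := derT) (wA := certA) (wB := certB) (by norm_num)
    der6_all cert6_all fix6_all img6_all hOb6 hroot6 st6_all (letters_bottom ctx htot)
theorem cOm6 : (orbF 2314 Om6).card = 2 := by
  rw [card_orbF]; decide +kernel
theorem hOb5 : Om5.testBit 1 = true := by decide +kernel
theorem hroot5 : tw5 1 = [] := by decide +kernel
theorem lev5 : (∀ e, 43 ≤ e → g e ∈ grp g 43 2) ∧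
    Level (grp g 43 2) (grp g 45 2) ⟨1, by norm_num⟩
      (fun p => prodW g (tw5 p.val)) (orbF 2314 Om5) :=
  level_bundle ctx (lo := 43) (ns := 2) (hi := 45) (ns' := 2) (b := 1) (Om := Om5) (tw := tw5) (st := stE5) (der := derT) (wA := certA) (wB := certB) (by norm_num)
    der5_all cert5_all fix5_all img5_all hOb5 hroot5 st5_all (lev6).1
theorem cOm5 : (orbF 2314 Om5).card = 2 := by
  rw [card_orbF]; decide +kernel
theorem hOb4 : Om4.testBit 18 = true := by decide +kernel
theorem hroot4 : tw4 18 = [] := by decide +kernel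
theorem lev4 : (∀ e, 41 ≤ e → g e ∈ grp g 41 2) ∧
    Level (grp g 41 2) (grp g 43 2) ⟨18, by norm_num⟩
      (fun p => prodW g (tw4 p.val)) (orbF 2314 Om4) :=
  level_bundle ctx (lo := 41) (ns := 2) (hi := 43) (ns' := 2) (b := 18) (Om := Om4) (tw := tw4) (st := stE4) (der := derT) (wA := certA) (wB := certB) (by norm_num)
    der4_all cert4_all fix4_all img4_all hOb4 hroot4 st4_all (lev5).1
theorem cOm4 : (orbF 2314 Om4).card = 3 := by
  rw [card_orbF]; decide +kernel
theorem hOb3 : Om3.testBit 261 = true := by decide +kernel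
theorem hroot3 : tw3 261 = [] := by decide +kernel
theorem lev3 : (∀ e, 39 ≤ e → g e ∈ grp g 39 2) ∧
    Level (grp g 39 2) (grp g 41 2) ⟨261, by norm_num⟩
      (fun p => prodW g (tw3 p.val)) (orbF 2314 Om3) :=
  level_bundle ctx (lo := 39) (ns := 2) (hi := 41) (ns' := 2) (b := 261) (Om := Om3) (tw := tw3) (st := stE3) (der := derT) (wA := certA) (wB := certB) (by norm_num)
    der3_all cert3_all fix3_all img3_all hOb3 hroot3 st3_all (lev4).1
theorem cOm3 : (orbF 2314 Om3).card = 5 := by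
  rw [card_orbF]; decide +kernel
theorem hOb2 : Om2.testBit 2133 = true := by decide +kernel
theorem hroot2 : tw2 2133 = [] := by decide +kernel
theorem lev2 : (∀ e, 37 ≤ e → g e ∈ grp g 37 2) ∧
    Level (grp g 37 2) (grp g 39 2) ⟨2133, by norm_num⟩
      (fun p => prodW g (tw2 p.val)) (orbF 2314 Om2) :=
  level_bundle ctx (lo := 37) (ns := 2) (hi := 39) (ns' := 2) (b := 2133) (Om := Om2) (tw := tw2) (st := stE2) (der := derT) (wA := certA) (wB := certB) (by norm_num)
    der2_all cert2_all fix2_all img2_all hOb2 hroot2 st2_all (lev3).1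
theorem cOm2 : (orbF 2314 Om2).card = 4 := by
  rw [card_orbF]; decide +kernel
theorem hOb1 : Om1.testBit 2075 = true := by decide +kernel
theorem hroot1 : tw1 2075 = [] := by decide +kernel
theorem lev1 : (∀ e, 25 ≤ e → g e ∈ grp g 25 2) ∧
    Level (grp g 25 2) (grp g 37 2) ⟨2075, by norm_num⟩
      (fun p => prodW g (tw1 p.val)) (orbF 2314 Om1) :=
  level_bundle ctx (lo := 25) (ns := 2) (hi := 37) (ns' := 2) (b := 2075) (Om := Om1) (tw := tw1) (st := stE1) (der := derT) (wA := certA) (wB := certB) (by norm_num)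
    der1_all cert1_all fix1_all img1_all hOb1 hroot1 st1_all (lev2).1
theorem cOm1 : (orbF 2314 Om1).card = 30 := by
  rw [card_orbF]; decide +kernel
theorem hOb0 : Om0.testBit 37 = true := by decide +kernel
theorem hroot0 : tw0 37 = [] := by decide +kernel
theorem lev0 : (∀ e, 0 ≤ e → g e ∈ grp g 0 2) ∧
    Level (grp g 0 2) (grp g 25 2) ⟨37, by norm_num⟩
      (fun p => prodW g (tw0 p.val)) (orbF 2314 Om0) :=
  level_bundle ctx (lo := 0) (ns := 2) (hi := 25) (ns' := 2) (b := 37) (Om := Om0) (tw := tw0) (st := stE0) (der := derT) (wA := certA) (wB := certB) (by norm_num)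
    der0_all cert0_all fix0_all img0_all hOb0 hroot0 st0_all (lev1).1
theorem cOm0 : (orbF 2314 Om0).card = 136 := by
  rw [card_orbF]; decide +kernel
theorem cardH7 : Nat.card (grp g 47 0) = 1 := by
  rw [grp_zero]; simp
theorem cardH6 : Nat.card (grp g 45 2) = 2 := by
  rw [(lev6).2.card, cOm6, cardH7]
theorem cardH5 : Nat.card (grp g 43 2) = 4 := by
  rw [(lev5).2.card, cOm5, cardH6]
theorem cardH4 : Nat.card (grp g 41 2) = 12 := by
  rw [(lev4).2.card, cOm4, cardH5]
theorem cardH3 : Nat.card (grp g 39 2) = 60 := by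
  rw [(lev3).2.card, cOm3, cardH4]
theorem cardH2 : Nat.card (grp g 37 2) = 240 := by
  rw [(lev2).2.card, cOm2, cardH3]
theorem cardH1 : Nat.card (grp g 25 2) = 7200 := by
  rw [(lev1).2.card, cOm1, cardH2]
theorem cardH0 : Nat.card (grp g 0 2) = 979200 := by
  rw [(lev0).2.card, cOm0, cardH1]

end Cfsg.Agent.Lib.HeDMain
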