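import Cfsg.Agent.Lib.HeOutW
import Cfsg.Agent.Lib.PresBridge
import Cfsg.Agent.TcData.He.Common

/-!
# `Out` of the Held group: the presentation
-/

set_option autoImplicit false
set_option maxRecDepth 100000

namespace Cfsg.Agent.Lib.HeOutP

noncomputable section

open Cfsg.Agent.Lib.PermChain Cfsg.Agent.Lib.ProgChain Cfsg.Agent.Lib.ProgBits Cfsg.Agent.Lib.SparseDfs
  Cfsg.Agent.Lib.SparseDfs2 Cfsg.Agent.Lib.SparseDfs3 Cfsg.Agent.Lib.HePTab Cfsg.Agent.Lib.HePMain
  Cfsg.Agent.Lib.HeOutL Cfsg.Agent.Lib.HeOutT Cfsg.Agent.Lib.HeOutW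
open Cfsg.Spor Cfsg.Spor.He Cfsg.Agent.TcData.He

/-- the generators as words in the letters -/
def wA : Cfsg.Spor.He.Gen → List ℕ
  | .a => [147]
  | .b => [32, 3, 109, 100, 126, 125, 140, 144, 143, 146, 146, 145, 147]
  | .c => [130, 138, 144, 146, 145]
  | .d => [107, 114, 127, 137, 137, 144, 143, 145, 146, 145]
  | .e => [109, 114, 130, 125, 139, 138, 145, 146, 145]
  | .f => [106, 114, 129, 124, 143]
  | .g => [3, 19, 112, 132, 137, 137, 144, 143, 145]

/-- the images of the generators by the outer automorphism -/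
def wB : Cfsg.Spor.He.Gen → List ℕ
  | .a => [128, 124, 137, 143, 146, 145]
  | .b => [51, 65, 112, 133, 124, 137, 139, 144, 146, 145, 147]
  | .c => [100, 122, 99, 131, 140, 137, 144, 143, 145, 146, 145]
  | .d => [123, 110, 124, 130, 139, 138, 143, 145]
  | .e => [109, 100, 132, 125, 139, 144, 146, 145]
  | .f => [106, 118, 126, 125, 137, 146, 145, 147]
  | .g => [57, 10, 101, 112, 131, 126, 137, 137, 144, 143, 146, 145, 147]

/-- `x` in terms of the generators -/
def vx : List Cfsg.Spor.He.Gen := [.b, .d, .c, .g, .f, .d, .c, .b, .g, .d, .c, .b, .d, .c, .b, .e, .d, .g, .d, .c, .d, .b, .c, .d, .f, .d, .c, .d, .e]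
/-- `f` in terms of the generators -/
def vf : List Cfsg.Spor.He.Gen := [.b, .f, .d, .c, .d, .e, .d, .g, .d, .c, .b, .d, .c, .d, .c, .d, .e, .b, .c, .d, .c, .d, .f, .c, .b, .a]

theorem invA : ∀ x, eqW (wA x ++ wA x) [] = true := by intro x; cases x <;> decide +kernel
theorem invB : ∀ x, eqW (wB x ++ wB x) [] = true := by intro x; cases x <;> decide +kernel
theorem cA : ∀ x ∈ nodesL, ∀ y ∈ nodesL,
    eqW (PresBridge.expand wA ((FreeGroup.of x * FreeGroup.of y) ^ coxLabel edges x y).toWord) [] = true := by decide +kernel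
theorem cB : ∀ x ∈ nodesL, ∀ y ∈ nodesL,
    eqW (PresBridge.expand wB ((FreeGroup.of x * FreeGroup.of y) ^ coxLabel edges x y).toWord) [] = true := by decide +kernel
theorem eA : ∀ r ∈ extra, eqW (PresBridge.expand wA r.toWord) [] = true := by decide +kernel
theorem eB : ∀ r ∈ extra, eqW (PresBridge.expand wB r.toWord) [] = true := by decide +kernel

theorem vxA : eqW (vx.flatMap wA) wx = true := by decide +kernel
theorem vfA : eqW (vf.flatMap wA) wf = true := by decide +kernel
theorem vxB : eqW (vx.flatMap wB) (wx ++ wx ++ wx) = true := by decide +kernel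
theorem vfB : eqW (vf.flatMap wB) wf = true := by decide +kernel

end

end Cfsg.Agent.Lib.HeOutP
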