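import Cfsg.Agent.Lib.HeOutW

/-!
# `Out` of the Held group: the centralizer of `x`
-/

set_option autoImplicit false
set_option maxRecDepth 100000

namespace Cfsg.Agent.Lib.HeOutS1

noncomputable section

open Cfsg.Agent.Lib.PermChain Cfsg.Agent.Lib.ProgChain Cfsg.Agent.Lib.ProgBits Cfsg.Agent.Lib.SparseDfs
  Cfsg.Agent.Lib.SparseDfs2 Cfsg.Agent.Lib.SparseDfs3 Cfsg.Agent.Lib.HePTab Cfsg.Agent.Lib.HePMain
  Cfsg.Agent.Lib.HeOutL Cfsg.Agent.Lib.HeOutT Cfsg.Agent.Lib.HeOutW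

theorem dX : dfsE WW MM testX LsH Ex [] = true := by decide +kernel

end

end Cfsg.Agent.Lib.HeOutS1
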