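import Cfsg.Agent.Lib.HePChk
import Cfsg.Agent.Lib.HePSt0
import Cfsg.Agent.Lib.HePSt1
import Cfsg.Agent.Lib.HePSt2
import Cfsg.Agent.Lib.HePSt3
import Cfsg.Agent.Lib.HePSt4
import Cfsg.Agent.Lib.HePSt5
import Cfsg.Agent.Lib.HePSt6

set_option autoImplicit false
set_option maxRecDepth 100000
set_option linter.unusedSectionVars false

/-! Generated file: the chain and the order of the group. -/

namespace Cfsg.Agent.Lib.HePMain

open Cfsg.Agent.Lib.ChainCert Cfsg.Agent.Lib.ProgBits Cfsg.Agent.Lib.ProgChain Cfsg.Agent.Lib.PermChain Cfsg.Agent.Lib.TcBits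
open Cfsg.Agent.Lib.HePTab
open Cfsg.Agent.Lib.HePChk Cfsg.Agent.Lib.HePSt0 Cfsg.Agent.Lib.HePSt1 Cfsg.Agent.Lib.HePSt2 Cfsg.Agent.Lib.HePSt3 Cfsg.Agent.Lib.HePSt4 Cfsg.Agent.Lib.HePSt5 Cfsg.Agent.Lib.HePSt6

theorem hN : nat_lit 4096 = 2 ^ 12 := by norm_num
theorem hM : M = 2 ^ 2058 - 1 := by decide +kernel
theorem hR : R = repU 4096 12 := by decide +kernel
theorem hY : Y = yId 12 := by decide +kernel
theorem htot : ∀ e, 149 ≤ e → pr e = [] := by
  intro e he
  rw [pr, show Nat.ble ((nat_lit 149)) e = true from Nat.ble_eq_true_of_le he]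
  rfl

/-- the context -/
theorem ctx : Ctx 2058 12 pr R Y :=
  ctx_mk' (N := (nat_lit 4096)) (M := M) (tot := 149) (by norm_num) hN hM hR hY let_all htot

/-- the letters -/
noncomputable abbrev g : ℕ → Equiv.Perm (Fin 2058) := lp pr 2058

theorem hOb6 : Om6.testBit 8 = true := by decide +kernel
theorem hroot6 : tw6 8 = [] := by decide +kernel
theorem lev6 : (∀ e, 147 ≤ e → g e ∈ grp g 147 2) ∧
    Level (grp g 147 2) (grp g 149 0) ⟨8, by norm_num⟩
      (fun p => prodW g (tw6 p.val)) (orbF 2058 Om6) :=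
  level_bundle ctx (lo := 147) (ns := 2) (hi := 149) (ns' := 0) (b := 8) (Om := Om6) (tw := tw6) (st := stE6) (der := derT) (wA := certA) (wB := certB) (by norm_num)
    der6_all cert6_all fix6_all img6_all hOb6 hroot6 st6_all (letters_bottom ctx htot)
theorem cOm6 : (orbF 2058 Om6).card = 2 := by
  rw [card_orbF]; decide +kernel
theorem hOb5 : Om5.testBit 1 = true := by decide +kernel
theorem hroot5 : tw5 1 = [] := by decide +kernel
theorem lev5 : (∀ e, 145 ≤ e → g e ∈ grp g 145 2) ∧
    Level (grp g 145 2) (grp g 147 2) ⟨1, by norm_num⟩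
      (fun p => prodW g (tw5 p.val)) (orbF 2058 Om5) :=
  level_bundle ctx (lo := 145) (ns := 2) (hi := 147) (ns' := 2) (b := 1) (Om := Om5) (tw := tw5) (st := stE5) (der := derT) (wA := certA) (wB := certB) (by norm_num)
    der5_all cert5_all fix5_all img5_all hOb5 hroot5 st5_all (lev6).1
theorem cOm5 : (orbF 2058 Om5).card = 5 := by
  rw [card_orbF]; decide +kernel
theorem hOb4 : Om4.testBit 71 = true := by decide +kernel
theorem hroot4 : tw4 71 = [] := by decide +kernel
theorem lev4 : (∀ e, 143 ≤ e → g e ∈ grp g 143 2) ∧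
    Level (grp g 143 2) (grp g 145 2) ⟨71, by norm_num⟩
      (fun p => prodW g (tw4 p.val)) (orbF 2058 Om4) :=
  level_bundle ctx (lo := 143) (ns := 2) (hi := 145) (ns' := 2) (b := 71) (Om := Om4) (tw := tw4) (st := stE4) (der := derT) (wA := certA) (wB := certB) (by norm_num)
    der4_all cert4_all fix4_all img4_all hOb4 hroot4 st4_all (lev5).1
theorem cOm4 : (orbF 2058 Om4).card = 4 := by
  rw [card_orbF]; decide +kernel
theorem hOb3 : Om3.testBit 44 = true := by decide +kernel
theorem hroot3 : tw3 44 = [] := by decide +kernel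
theorem lev3 : (∀ e, 137 ≤ e → g e ∈ grp g 137 3) ∧
    Level (grp g 137 3) (grp g 143 2) ⟨44, by norm_num⟩
      (fun p => prodW g (tw3 p.val)) (orbF 2058 Om3) :=
  level_bundle ctx (lo := 137) (ns := 3) (hi := 143) (ns' := 2) (b := 44) (Om := Om3) (tw := tw3) (st := stE3) (der := derT) (wA := certA) (wB := certB) (by norm_num)
    der3_all cert3_all fix3_all img3_all hOb3 hroot3 st3_all (lev4).1
theorem cOm3 : (orbF 2058 Om3).card = 10 := by
  rw [card_orbF]; decide +kernel
theorem hOb2 : Om2.testBit 219 = true := by decide +kernel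
theorem hroot2 : tw2 219 = [] := by decide +kernel
theorem lev2 : (∀ e, 124 ≤ e → g e ∈ grp g 124 2) ∧
    Level (grp g 124 2) (grp g 137 3) ⟨219, by norm_num⟩
      (fun p => prodW g (tw2 p.val)) (orbF 2058 Om2) :=
  level_bundle ctx (lo := 124) (ns := 2) (hi := 137) (ns' := 3) (b := 219) (Om := Om2) (tw := tw2) (st := stE2) (der := derT) (wA := certA) (wB := certB) (by norm_num)
    der2_all cert2_all fix2_all img2_all hOb2 hroot2 st2_all (lev3).1
theorem cOm2 : (orbF 2058 Om2).card = 36 := by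
  rw [card_orbF]; decide +kernel
theorem hOb1 : Om1.testBit 37 = true := by decide +kernel
theorem hroot1 : tw1 37 = [] := by decide +kernel
theorem lev1 : (∀ e, 99 ≤ e → g e ∈ grp g 99 2) ∧
    Level (grp g 99 2) (grp g 124 2) ⟨37, by norm_num⟩
      (fun p => prodW g (tw1 p.val)) (orbF 2058 Om1) :=
  level_bundle ctx (lo := 99) (ns := 2) (hi := 124) (ns' := 2) (b := 37) (Om := Om1) (tw := tw1) (st := stE1) (der := derT) (wA := certA) (wB := certB) (by norm_num)
    der1_all cert1_all fix1_all img1_all hOb1 hroot1 st1_all (lev2).1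
theorem cOm1 : (orbF 2058 Om1).card = 136 := by
  rw [card_orbF]; decide +kernel
theorem hOb0 : Om0.testBit 0 = true := by decide +kernel
theorem hroot0 : tw0 0 = [] := by decide +kernel
theorem lev0 : (∀ e, 0 ≤ e → g e ∈ grp g 0 2) ∧
    Level (grp g 0 2) (grp g 99 2) ⟨0, by norm_num⟩
      (fun p => prodW g (tw0 p.val)) (orbF 2058 Om0) :=
  level_bundle ctx (lo := 0) (ns := 2) (hi := 99) (ns' := 2) (b := 0) (Om := Om0) (tw := tw0) (st := stE0) (der := derT) (wA := certA) (wB := certB) (by norm_num)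
    der0_all cert0_all fix0_all img0_all hOb0 hroot0 st0_all (lev1).1
theorem cOm0 : (orbF 2058 Om0).card = 2058 := by
  rw [card_orbF]; decide +kernel
theorem cardH7 : Nat.card (grp g 149 0) = 1 := by
  rw [grp_zero]; simp
theorem cardH6 : Nat.card (grp g 147 2) = 2 := by
  rw [(lev6).2.card, cOm6, cardH7]
theorem cardH5 : Nat.card (grp g 145 2) = 10 := by
  rw [(lev5).2.card, cOm5, cardH6]
theorem cardH4 : Nat.card (grp g 143 2) = 40 := by
  rw [(lev4).2.card, cOm4, cardH5]
theorem cardH3 : Nat.card (grp g 137 3) = 400 := by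
  rw [(lev3).2.card, cOm3, cardH4]
theorem cardH2 : Nat.card (grp g 124 2) = 14400 := by
  rw [(lev2).2.card, cOm2, cardH3]
theorem cardH1 : Nat.card (grp g 99 2) = 1958400 := by
  rw [(lev1).2.card, cOm1, cardH2]
theorem cardH0 : Nat.card (grp g 0 2) = 4030387200 := by
  rw [(lev0).2.card, cOm0, cardH1]

theorem hOm : Om0 = 2 ^ 2058 - 1 := by decide +kernel
theorem hsz : ∀ c, c < 5 → cntB (fun i => Nat.beq (colT i) c) 2058 = szT c := by decide +kernel
theorem hsums : ∀ S ∈ (Finset.range 5).powerset, 0 ∈ S →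
      (∑ c ∈ S, szT c) ∣ 2058 → (∑ c ∈ S, szT c) = 1 ∨ (∑ c ∈ S, szT c) = 2058 := by decide +kernel
theorem hb0 : colT 0 = 0 := by decide +kernel
/-- the conjugating word -/
def Wc : List ℕ := [46, 9, 109, 131, 124, 141, 137, 144]
theorem hconj : ProgBits.wChk R Y pr (Wc ++ [0]) (1 :: Wc) = true := by decide +kernel
theorem hap : ProgBits.wChk R Y pr (List.replicate 7 0) [] = true := by decide +kernel
theorem huv : ptChk pr [0] 1267 0 = true := by decide +kernel

/-- the group is simple -/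
theorem simple_top : IsSimpleGroup (grp g 0 2) :=
  simple_bundle ctx (lo1 := 99) (ns1 := 2) (r := 5) (p := 7) (b := 0) (by norm_num)
    (lev0).2 hOm (lev0).1 (lev1).1 tree_all colc_all hb0 hsz hsums (by norm_num)
    (by rw [cardH1]; norm_num) hconj hap (u := ⟨0, by norm_num⟩) (v := ⟨1267, by norm_num⟩) huv
    (by decide)

end Cfsg.Agent.Lib.HePMain
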