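import Cfsg.Agent.Lib.Hs22Chk
import Cfsg.Agent.Lib.Hs22St0
import Cfsg.Agent.Lib.Hs22St1
import Cfsg.Agent.Lib.Hs22St2
import Cfsg.Agent.Lib.Hs22St3
import Cfsg.Agent.Lib.Hs22St4
import Cfsg.Agent.Lib.Hs22St5
import Cfsg.Agent.Lib.Hs22St6
import Cfsg.Agent.Lib.Hs22St7
import Cfsg.Agent.Lib.Hs22St8

set_option autoImplicit false
set_option maxRecDepth 100000
set_option linter.unusedSectionVars false

/-! Generated file: the chain and the order of the group. -/

namespace Cfsg.Agent.Lib.Hs22Main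

open Cfsg.Agent.Lib.ChainCert Cfsg.Agent.Lib.ProgBits Cfsg.Agent.Lib.ProgChain Cfsg.Agent.Lib.PermChain Cfsg.Agent.Lib.TcBits
open Cfsg.Agent.Lib.Hs22Tab
open Cfsg.Agent.Lib.Hs22Chk Cfsg.Agent.Lib.Hs22St0 Cfsg.Agent.Lib.Hs22St1 Cfsg.Agent.Lib.Hs22St2 Cfsg.Agent.Lib.Hs22St3 Cfsg.Agent.Lib.Hs22St4 Cfsg.Agent.Lib.Hs22St5 Cfsg.Agent.Lib.Hs22St6 Cfsg.Agent.Lib.Hs22St7 Cfsg.Agent.Lib.Hs22St8

theorem hN : nat_lit 128 = 2 ^ 7 := by norm_num
theorem hM : M = 2 ^ 100 - 1 := by decide +kernel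
theorem hR : R = repU 128 7 := by decide +kernel
theorem hY : Y = yId 7 := by decide +kernel
theorem htot : ∀ e, 58 ≤ e → pr e = [] := by
  intro e he
  rw [pr, show Nat.ble ((nat_lit 58)) e = true from Nat.ble_eq_true_of_le he]
  rfl

/-- the context -/
theorem ctx : Ctx 100 7 pr R Y :=
  ctx_mk' (N := (nat_lit 128)) (M := M) (tot := 58) (by norm_num) hN hM hR hY let_all htot

/-- the letters -/
noncomputable abbrev g : ℕ → Equiv.Perm (Fin 100) := lp pr 100

theorem hOb8 : Om8.testBit 4 = true := by decide +kernel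
theorem hroot8 : tw8 4 = [] := by decide +kernel
theorem lev8 : (∀ e, 56 ≤ e → g e ∈ grp g 56 2) ∧
    Level (grp g 56 2) (grp g 58 0) ⟨4, by norm_num⟩
      (fun p => prodW g (tw8 p.val)) (orbF 100 Om8) :=
  level_bundle ctx (lo := 56) (ns := 2) (hi := 58) (ns' := 0) (b := 4) (Om := Om8) (tw := tw8) (st := stE8) (der := derT) (wA := certA) (wB := certB) (by norm_num)
    der8_all cert8_all fix8_all img8_all hOb8 hroot8 st8_all (letters_bottom ctx htot)
theorem cOm8 : (orbF 100 Om8).card = 2 := by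
  rw [card_orbF]; decide +kernel
theorem hOb7 : Om7.testBit 30 = true := by decide +kernel
theorem hroot7 : tw7 30 = [] := by decide +kernel
theorem lev7 : (∀ e, 54 ≤ e → g e ∈ grp g 54 2) ∧
    Level (grp g 54 2) (grp g 56 2) ⟨30, by norm_num⟩
      (fun p => prodW g (tw7 p.val)) (orbF 100 Om7) :=
  level_bundle ctx (lo := 54) (ns := 2) (hi := 56) (ns' := 2) (b := 30) (Om := Om7) (tw := tw7) (st := stE7) (der := derT) (wA := certA) (wB := certB) (by norm_num)
    der7_all cert7_all fix7_all img7_all hOb7 hroot7 st7_all (lev8).1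
theorem cOm7 : (orbF 100 Om7).card = 2 := by
  rw [card_orbF]; decide +kernel
theorem hOb6 : Om6.testBit 23 = true := by decide +kernel
theorem hroot6 : tw6 23 = [] := by decide +kernel
theorem lev6 : (∀ e, 50 ≤ e → g e ∈ grp g 50 4) ∧
    Level (grp g 50 4) (grp g 54 2) ⟨23, by norm_num⟩
      (fun p => prodW g (tw6 p.val)) (orbF 100 Om6) :=
  level_bundle ctx (lo := 50) (ns := 4) (hi := 54) (ns' := 2) (b := 23) (Om := Om6) (tw := tw6) (st := stE6) (der := derT) (wA := certA) (wB := certB) (by norm_num)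
    der6_all cert6_all fix6_all img6_all hOb6 hroot6 st6_all (lev7).1
theorem cOm6 : (orbF 100 Om6).card = 4 := by
  rw [card_orbF]; decide +kernel
theorem hOb5 : Om5.testBit 5 = true := by decide +kernel
theorem hroot5 : tw5 5 = [] := by decide +kernel
theorem lev5 : (∀ e, 47 ≤ e → g e ∈ grp g 47 3) ∧
    Level (grp g 47 3) (grp g 50 4) ⟨5, by norm_num⟩
      (fun p => prodW g (tw5 p.val)) (orbF 100 Om5) :=
  level_bundle ctx (lo := 47) (ns := 3) (hi := 50) (ns' := 4) (b := 5) (Om := Om5) (tw := tw5) (st := stE5) (der := derT) (wA := certA) (wB := certB) (by norm_num)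
    der5_all cert5_all fix5_all img5_all hOb5 hroot5 st5_all (lev6).1
theorem cOm5 : (orbF 100 Om5).card = 3 := by
  rw [card_orbF]; decide +kernel
theorem hOb4 : Om4.testBit 3 = true := by decide +kernel
theorem hroot4 : tw4 3 = [] := by decide +kernel
theorem lev4 : (∀ e, 44 ≤ e → g e ∈ grp g 44 3) ∧
    Level (grp g 44 3) (grp g 47 3) ⟨3, by norm_num⟩
      (fun p => prodW g (tw4 p.val)) (orbF 100 Om4) :=
  level_bundle ctx (lo := 44) (ns := 3) (hi := 47) (ns' := 3) (b := 3) (Om := Om4) (tw := tw4) (st := stE4) (der := derT) (wA := certA) (wB := certB) (by norm_num)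
    der4_all cert4_all fix4_all img4_all hOb4 hroot4 st4_all (lev5).1
theorem cOm4 : (orbF 100 Om4).card = 4 := by
  rw [card_orbF]; decide +kernel
theorem hOb3 : Om3.testBit 24 = true := by decide +kernel
theorem hroot3 : tw3 24 = [] := by decide +kernel
theorem lev3 : (∀ e, 42 ≤ e → g e ∈ grp g 42 2) ∧
    Level (grp g 42 2) (grp g 44 3) ⟨24, by norm_num⟩
      (fun p => prodW g (tw3 p.val)) (orbF 100 Om3) :=
  level_bundle ctx (lo := 42) (ns := 2) (hi := 44) (ns' := 3) (b := 24) (Om := Om3) (tw := tw3) (st := stE3) (der := derT) (wA := certA) (wB := certB) (by norm_num)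
    der3_all cert3_all fix3_all img3_all hOb3 hroot3 st3_all (lev4).1
theorem cOm3 : (orbF 100 Om3).card = 5 := by
  rw [card_orbF]; decide +kernel
theorem hOb2 : Om2.testBit 2 = true := by decide +kernel
theorem hroot2 : tw2 2 = [] := by decide +kernel
theorem lev2 : (∀ e, 32 ≤ e → g e ∈ grp g 32 2) ∧
    Level (grp g 32 2) (grp g 42 2) ⟨2, by norm_num⟩
      (fun p => prodW g (tw2 p.val)) (orbF 100 Om2) :=
  level_bundle ctx (lo := 32) (ns := 2) (hi := 42) (ns' := 2) (b := 2) (Om := Om2) (tw := tw2) (st := stE2) (der := derT) (wA := certA) (wB := certB) (by norm_num)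
    der2_all cert2_all fix2_all img2_all hOb2 hroot2 st2_all (lev3).1
theorem cOm2 : (orbF 100 Om2).card = 21 := by
  rw [card_orbF]; decide +kernel
theorem hOb1 : Om1.testBit 1 = true := by decide +kernel
theorem hroot1 : tw1 1 = [] := by decide +kernel
theorem lev1 : (∀ e, 22 ≤ e → g e ∈ grp g 22 2) ∧
    Level (grp g 22 2) (grp g 32 2) ⟨1, by norm_num⟩
      (fun p => prodW g (tw1 p.val)) (orbF 100 Om1) :=
  level_bundle ctx (lo := 22) (ns := 2) (hi := 32) (ns' := 2) (b := 1) (Om := Om1) (tw := tw1) (st := stE1) (der := derT) (wA := certA) (wB := certB) (by norm_num)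
    der1_all cert1_all fix1_all img1_all hOb1 hroot1 st1_all (lev2).1
theorem cOm1 : (orbF 100 Om1).card = 22 := by
  rw [card_orbF]; decide +kernel
theorem hOb0 : Om0.testBit 0 = true := by decide +kernel
theorem hroot0 : tw0 0 = [] := by decide +kernel
theorem lev0 : (∀ e, 0 ≤ e → g e ∈ grp g 0 2) ∧
    Level (grp g 0 2) (grp g 22 2) ⟨0, by norm_num⟩
      (fun p => prodW g (tw0 p.val)) (orbF 100 Om0) :=
  level_bundle ctx (lo := 0) (ns := 2) (hi := 22) (ns' := 2) (b := 0) (Om := Om0) (tw := tw0) (st := stE0) (der := derT) (wA := certA) (wB := certB) (by norm_num)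
    der0_all cert0_all fix0_all img0_all hOb0 hroot0 st0_all (lev1).1
theorem cOm0 : (orbF 100 Om0).card = 100 := by
  rw [card_orbF]; decide +kernel
theorem cardH9 : Nat.card (grp g 58 0) = 1 := by
  rw [grp_zero]; simp
theorem cardH8 : Nat.card (grp g 56 2) = 2 := by
  rw [(lev8).2.card, cOm8, cardH9]
theorem cardH7 : Nat.card (grp g 54 2) = 4 := by
  rw [(lev7).2.card, cOm7, cardH8]
theorem cardH6 : Nat.card (grp g 50 4) = 16 := by
  rw [(lev6).2.card, cOm6, cardH7]
theorem cardH5 : Nat.card (grp g 47 3) = 48 := by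
  rw [(lev5).2.card, cOm5, cardH6]
theorem cardH4 : Nat.card (grp g 44 3) = 192 := by
  rw [(lev4).2.card, cOm4, cardH5]
theorem cardH3 : Nat.card (grp g 42 2) = 960 := by
  rw [(lev3).2.card, cOm3, cardH4]
theorem cardH2 : Nat.card (grp g 32 2) = 20160 := by
  rw [(lev2).2.card, cOm2, cardH3]
theorem cardH1 : Nat.card (grp g 22 2) = 443520 := by
  rw [(lev1).2.card, cOm1, cardH2]
theorem cardH0 : Nat.card (grp g 0 2) = 44352000 := by
  rw [(lev0).2.card, cOm0, cardH1]

end Cfsg.Agent.Lib.Hs22Main
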