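import Cfsg.Agent.Lib.HsC22Tab

set_option autoImplicit false
set_option maxRecDepth 100000
set_option Elab.async false

namespace Cfsg.Agent.Lib.HsC22St0

open Cfsg.Agent.Lib.ChainCert Cfsg.Agent.Lib.ProgBits Cfsg.Agent.Lib.ProgChain Cfsg.Agent.Lib.PermChain Cfsg.Agent.Lib.TcBits
open Cfsg.Agent.Lib.HsC22Tab

theorem st0_6_0 : allR (guard Pst0 (nat_lit 1408)) 6 (nat_lit 0) = true := by decide +kernel
theorem st0_6_64 : allR (guard Pst0 (nat_lit 1408)) 6 (nat_lit 64) = true := by decide +kernel
theorem st0_6_128 : allR (guard Pst0 (nat_lit 1408)) 6 (nat_lit 128) = true := by decide +kernel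
theorem st0_6_192 : allR (guard Pst0 (nat_lit 1408)) 6 (nat_lit 192) = true := by decide +kernel
theorem st0_6_256 : allR (guard Pst0 (nat_lit 1408)) 6 (nat_lit 256) = true := by decide +kernel
theorem st0_6_320 : allR (guard Pst0 (nat_lit 1408)) 6 (nat_lit 320) = true := by decide +kernel
theorem st0_6_384 : allR (guard Pst0 (nat_lit 1408)) 6 (nat_lit 384) = true := by decide +kernel
theorem st0_6_448 : allR (guard Pst0 (nat_lit 1408)) 6 (nat_lit 448) = true := by decide +kernel
theorem st0_6_512 : allR (guard Pst0 (nat_lit 1408)) 6 (nat_lit 512) = true := by decide +kernel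
theorem st0_6_576 : allR (guard Pst0 (nat_lit 1408)) 6 (nat_lit 576) = true := by decide +kernel
theorem st0_6_640 : allR (guard Pst0 (nat_lit 1408)) 6 (nat_lit 640) = true := by decide +kernel
theorem st0_6_704 : allR (guard Pst0 (nat_lit 1408)) 6 (nat_lit 704) = true := by decide +kernel
theorem st0_6_768 : allR (guard Pst0 (nat_lit 1408)) 6 (nat_lit 768) = true := by decide +kernel
theorem st0_6_832 : allR (guard Pst0 (nat_lit 1408)) 6 (nat_lit 832) = true := by decide +kernel
theorem st0_6_896 : allR (guard Pst0 (nat_lit 1408)) 6 (nat_lit 896) = true := by decide +kernel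
theorem st0_6_960 : allR (guard Pst0 (nat_lit 1408)) 6 (nat_lit 960) = true := by decide +kernel
theorem st0_6_1024 : allR (guard Pst0 (nat_lit 1408)) 6 (nat_lit 1024) = true := by decide +kernel
theorem st0_6_1088 : allR (guard Pst0 (nat_lit 1408)) 6 (nat_lit 1088) = true := by decide +kernel
theorem st0_6_1152 : allR (guard Pst0 (nat_lit 1408)) 6 (nat_lit 1152) = true := by decide +kernel
theorem st0_6_1216 : allR (guard Pst0 (nat_lit 1408)) 6 (nat_lit 1216) = true := by decide +kernel
theorem st0_6_1280 : allR (guard Pst0 (nat_lit 1408)) 6 (nat_lit 1280) = true := by decide +kernel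
theorem st0_6_1344 : allR (guard Pst0 (nat_lit 1408)) 6 (nat_lit 1344) = true := by decide +kernel
theorem st0_6_1408 : allR (guard Pst0 (nat_lit 1408)) 6 (nat_lit 1408) = true := by decide +kernel
theorem st0_6_1472 : allR (guard Pst0 (nat_lit 1408)) 6 (nat_lit 1472) = true := by decide +kernel
theorem st0_6_1536 : allR (guard Pst0 (nat_lit 1408)) 6 (nat_lit 1536) = true := by decide +kernel
theorem st0_6_1600 : allR (guard Pst0 (nat_lit 1408)) 6 (nat_lit 1600) = true := by decide +kernel
theorem st0_6_1664 : allR (guard Pst0 (nat_lit 1408)) 6 (nat_lit 1664) = true := by decide +kernel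
theorem st0_6_1728 : allR (guard Pst0 (nat_lit 1408)) 6 (nat_lit 1728) = true := by decide +kernel
theorem st0_6_1792 : allR (guard Pst0 (nat_lit 1408)) 6 (nat_lit 1792) = true := by decide +kernel
theorem st0_6_1856 : allR (guard Pst0 (nat_lit 1408)) 6 (nat_lit 1856) = true := by decide +kernel
theorem st0_6_1920 : allR (guard Pst0 (nat_lit 1408)) 6 (nat_lit 1920) = true := by decide +kernel
theorem st0_6_1984 : allR (guard Pst0 (nat_lit 1408)) 6 (nat_lit 1984) = true := by decide +kernel
theorem st0_7_0 : allR (guard Pst0 (nat_lit 1408)) 7 (nat_lit 0) = true := allR_join (mid := nat_lit 64) rfl st0_6_0 st0_6_64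
theorem st0_7_128 : allR (guard Pst0 (nat_lit 1408)) 7 (nat_lit 128) = true := allR_join (mid := nat_lit 192) rfl st0_6_128 st0_6_192
theorem st0_7_256 : allR (guard Pst0 (nat_lit 1408)) 7 (nat_lit 256) = true := allR_join (mid := nat_lit 320) rfl st0_6_256 st0_6_320
theorem st0_7_384 : allR (guard Pst0 (nat_lit 1408)) 7 (nat_lit 384) = true := allR_join (mid := nat_lit 448) rfl st0_6_384 st0_6_448
theorem st0_7_512 : allR (guard Pst0 (nat_lit 1408)) 7 (nat_lit 512) = true := allR_join (mid := nat_lit 576) rfl st0_6_512 st0_6_576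
theorem st0_7_640 : allR (guard Pst0 (nat_lit 1408)) 7 (nat_lit 640) = true := allR_join (mid := nat_lit 704) rfl st0_6_640 st0_6_704
theorem st0_7_768 : allR (guard Pst0 (nat_lit 1408)) 7 (nat_lit 768) = true := allR_join (mid := nat_lit 832) rfl st0_6_768 st0_6_832
theorem st0_7_896 : allR (guard Pst0 (nat_lit 1408)) 7 (nat_lit 896) = true := allR_join (mid := nat_lit 960) rfl st0_6_896 st0_6_960
theorem st0_7_1024 : allR (guard Pst0 (nat_lit 1408)) 7 (nat_lit 1024) = true := allR_join (mid := nat_lit 1088) rfl st0_6_1024 st0_6_1088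
theorem st0_7_1152 : allR (guard Pst0 (nat_lit 1408)) 7 (nat_lit 1152) = true := allR_join (mid := nat_lit 1216) rfl st0_6_1152 st0_6_1216
theorem st0_7_1280 : allR (guard Pst0 (nat_lit 1408)) 7 (nat_lit 1280) = true := allR_join (mid := nat_lit 1344) rfl st0_6_1280 st0_6_1344
theorem st0_7_1408 : allR (guard Pst0 (nat_lit 1408)) 7 (nat_lit 1408) = true := allR_join (mid := nat_lit 1472) rfl st0_6_1408 st0_6_1472
theorem st0_7_1536 : allR (guard Pst0 (nat_lit 1408)) 7 (nat_lit 1536) = true := allR_join (mid := nat_lit 1600) rfl st0_6_1536 st0_6_1600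
theorem st0_7_1664 : allR (guard Pst0 (nat_lit 1408)) 7 (nat_lit 1664) = true := allR_join (mid := nat_lit 1728) rfl st0_6_1664 st0_6_1728
theorem st0_7_1792 : allR (guard Pst0 (nat_lit 1408)) 7 (nat_lit 1792) = true := allR_join (mid := nat_lit 1856) rfl st0_6_1792 st0_6_1856
theorem st0_7_1920 : allR (guard Pst0 (nat_lit 1408)) 7 (nat_lit 1920) = true := allR_join (mid := nat_lit 1984) rfl st0_6_1920 st0_6_1984
theorem st0_8_0 : allR (guard Pst0 (nat_lit 1408)) 8 (nat_lit 0) = true := allR_join (mid := nat_lit 128) rfl st0_7_0 st0_7_128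
theorem st0_8_256 : allR (guard Pst0 (nat_lit 1408)) 8 (nat_lit 256) = true := allR_join (mid := nat_lit 384) rfl st0_7_256 st0_7_384
theorem st0_8_512 : allR (guard Pst0 (nat_lit 1408)) 8 (nat_lit 512) = true := allR_join (mid := nat_lit 640) rfl st0_7_512 st0_7_640
theorem st0_8_768 : allR (guard Pst0 (nat_lit 1408)) 8 (nat_lit 768) = true := allR_join (mid := nat_lit 896) rfl st0_7_768 st0_7_896
theorem st0_8_1024 : allR (guard Pst0 (nat_lit 1408)) 8 (nat_lit 1024) = true := allR_join (mid := nat_lit 1152) rfl st0_7_1024 st0_7_1152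
theorem st0_8_1280 : allR (guard Pst0 (nat_lit 1408)) 8 (nat_lit 1280) = true := allR_join (mid := nat_lit 1408) rfl st0_7_1280 st0_7_1408
theorem st0_8_1536 : allR (guard Pst0 (nat_lit 1408)) 8 (nat_lit 1536) = true := allR_join (mid := nat_lit 1664) rfl st0_7_1536 st0_7_1664
theorem st0_8_1792 : allR (guard Pst0 (nat_lit 1408)) 8 (nat_lit 1792) = true := allR_join (mid := nat_lit 1920) rfl st0_7_1792 st0_7_1920
theorem st0_9_0 : allR (guard Pst0 (nat_lit 1408)) 9 (nat_lit 0) = true := allR_join (mid := nat_lit 256) rfl st0_8_0 st0_8_256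
theorem st0_9_512 : allR (guard Pst0 (nat_lit 1408)) 9 (nat_lit 512) = true := allR_join (mid := nat_lit 768) rfl st0_8_512 st0_8_768
theorem st0_9_1024 : allR (guard Pst0 (nat_lit 1408)) 9 (nat_lit 1024) = true := allR_join (mid := nat_lit 1280) rfl st0_8_1024 st0_8_1280
theorem st0_9_1536 : allR (guard Pst0 (nat_lit 1408)) 9 (nat_lit 1536) = true := allR_join (mid := nat_lit 1792) rfl st0_8_1536 st0_8_1792
theorem st0_10_0 : allR (guard Pst0 (nat_lit 1408)) 10 (nat_lit 0) = true := allR_join (mid := nat_lit 512) rfl st0_9_0 st0_9_512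
theorem st0_10_1024 : allR (guard Pst0 (nat_lit 1408)) 10 (nat_lit 1024) = true := allR_join (mid := nat_lit 1536) rfl st0_9_1024 st0_9_1536
theorem st0_11_0 : allR (guard Pst0 (nat_lit 1408)) 11 (nat_lit 0) = true := allR_join (mid := nat_lit 1024) rfl st0_10_0 st0_10_1024
theorem st0_all : ∀ i, i < (nat_lit 1408) → Pst0 i = true := of_guard (k := 11) (by norm_num) st0_11_0

end Cfsg.Agent.Lib.HsC22St0
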