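import Cfsg.Agent.Lib.HsC22Tab

set_option autoImplicit false
set_option maxRecDepth 100000
set_option Elab.async false

namespace Cfsg.Agent.Lib.HsC22St1

open Cfsg.Agent.Lib.ChainCert Cfsg.Agent.Lib.ProgBits Cfsg.Agent.Lib.ProgChain Cfsg.Agent.Lib.PermChain Cfsg.Agent.Lib.TcBits
open Cfsg.Agent.Lib.HsC22Tab

theorem st1_7_0 : allR (guard Pst1 (nat_lit 1408)) 7 (nat_lit 0) = true := by decide +kernel
theorem st1_7_128 : allR (guard Pst1 (nat_lit 1408)) 7 (nat_lit 128) = true := by decide +kernel
theorem st1_7_256 : allR (guard Pst1 (nat_lit 1408)) 7 (nat_lit 256) = true := by decide +kernel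
theorem st1_7_384 : allR (guard Pst1 (nat_lit 1408)) 7 (nat_lit 384) = true := by decide +kernel
theorem st1_7_512 : allR (guard Pst1 (nat_lit 1408)) 7 (nat_lit 512) = true := by decide +kernel
theorem st1_7_640 : allR (guard Pst1 (nat_lit 1408)) 7 (nat_lit 640) = true := by decide +kernel
theorem st1_7_768 : allR (guard Pst1 (nat_lit 1408)) 7 (nat_lit 768) = true := by decide +kernel
theorem st1_7_896 : allR (guard Pst1 (nat_lit 1408)) 7 (nat_lit 896) = true := by decide +kernel
theorem st1_7_1024 : allR (guard Pst1 (nat_lit 1408)) 7 (nat_lit 1024) = true := by decide +kernel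
theorem st1_7_1152 : allR (guard Pst1 (nat_lit 1408)) 7 (nat_lit 1152) = true := by decide +kernel
theorem st1_7_1280 : allR (guard Pst1 (nat_lit 1408)) 7 (nat_lit 1280) = true := by decide +kernel
theorem st1_7_1408 : allR (guard Pst1 (nat_lit 1408)) 7 (nat_lit 1408) = true := by decide +kernel
theorem st1_7_1536 : allR (guard Pst1 (nat_lit 1408)) 7 (nat_lit 1536) = true := by decide +kernel
theorem st1_7_1664 : allR (guard Pst1 (nat_lit 1408)) 7 (nat_lit 1664) = true := by decide +kernel
theorem st1_7_1792 : allR (guard Pst1 (nat_lit 1408)) 7 (nat_lit 1792) = true := by decide +kernel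
theorem st1_7_1920 : allR (guard Pst1 (nat_lit 1408)) 7 (nat_lit 1920) = true := by decide +kernel
theorem st1_8_0 : allR (guard Pst1 (nat_lit 1408)) 8 (nat_lit 0) = true := allR_join (mid := nat_lit 128) rfl st1_7_0 st1_7_128
theorem st1_8_256 : allR (guard Pst1 (nat_lit 1408)) 8 (nat_lit 256) = true := allR_join (mid := nat_lit 384) rfl st1_7_256 st1_7_384
theorem st1_8_512 : allR (guard Pst1 (nat_lit 1408)) 8 (nat_lit 512) = true := allR_join (mid := nat_lit 640) rfl st1_7_512 st1_7_640
theorem st1_8_768 : allR (guard Pst1 (nat_lit 1408)) 8 (nat_lit 768) = true := allR_join (mid := nat_lit 896) rfl st1_7_768 st1_7_896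
theorem st1_8_1024 : allR (guard Pst1 (nat_lit 1408)) 8 (nat_lit 1024) = true := allR_join (mid := nat_lit 1152) rfl st1_7_1024 st1_7_1152
theorem st1_8_1280 : allR (guard Pst1 (nat_lit 1408)) 8 (nat_lit 1280) = true := allR_join (mid := nat_lit 1408) rfl st1_7_1280 st1_7_1408
theorem st1_8_1536 : allR (guard Pst1 (nat_lit 1408)) 8 (nat_lit 1536) = true := allR_join (mid := nat_lit 1664) rfl st1_7_1536 st1_7_1664
theorem st1_8_1792 : allR (guard Pst1 (nat_lit 1408)) 8 (nat_lit 1792) = true := allR_join (mid := nat_lit 1920) rfl st1_7_1792 st1_7_1920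
theorem st1_9_0 : allR (guard Pst1 (nat_lit 1408)) 9 (nat_lit 0) = true := allR_join (mid := nat_lit 256) rfl st1_8_0 st1_8_256
theorem st1_9_512 : allR (guard Pst1 (nat_lit 1408)) 9 (nat_lit 512) = true := allR_join (mid := nat_lit 768) rfl st1_8_512 st1_8_768
theorem st1_9_1024 : allR (guard Pst1 (nat_lit 1408)) 9 (nat_lit 1024) = true := allR_join (mid := nat_lit 1280) rfl st1_8_1024 st1_8_1280
theorem st1_9_1536 : allR (guard Pst1 (nat_lit 1408)) 9 (nat_lit 1536) = true := allR_join (mid := nat_lit 1792) rfl st1_8_1536 st1_8_1792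
theorem st1_10_0 : allR (guard Pst1 (nat_lit 1408)) 10 (nat_lit 0) = true := allR_join (mid := nat_lit 512) rfl st1_9_0 st1_9_512
theorem st1_10_1024 : allR (guard Pst1 (nat_lit 1408)) 10 (nat_lit 1024) = true := allR_join (mid := nat_lit 1536) rfl st1_9_1024 st1_9_1536
theorem st1_11_0 : allR (guard Pst1 (nat_lit 1408)) 11 (nat_lit 0) = true := allR_join (mid := nat_lit 1024) rfl st1_10_0 st1_10_1024
theorem st1_all : ∀ i, i < (nat_lit 1408) → Pst1 i = true := of_guard (k := 11) (by norm_num) st1_11_0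

end Cfsg.Agent.Lib.HsC22St1
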