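import Cfsg.Agent.Lib.HsC22Chk
import Cfsg.Agent.Lib.HsC22St0
import Cfsg.Agent.Lib.HsC22St1
import Cfsg.Agent.Lib.HsC22St2
import Cfsg.Agent.Lib.HsC22St3
import Cfsg.Agent.Lib.HsC22St4
import Cfsg.Agent.Lib.HsC22St5

set_option autoImplicit false
set_option maxRecDepth 100000
set_option linter.unusedSectionVars false

/-! Generated file: the chain and the order of the group. -/

namespace Cfsg.Agent.Lib.HsC22Main

open Cfsg.Agent.Lib.ChainCert Cfsg.Agent.Lib.ProgBits Cfsg.Agent.Lib.ProgChain Cfsg.Agent.Lib.PermChain Cfsg.Agent.Lib.TcBits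
open Cfsg.Agent.Lib.HsC22Tab
open Cfsg.Agent.Lib.HsC22Chk Cfsg.Agent.Lib.HsC22St0 Cfsg.Agent.Lib.HsC22St1 Cfsg.Agent.Lib.HsC22St2 Cfsg.Agent.Lib.HsC22St3 Cfsg.Agent.Lib.HsC22St4 Cfsg.Agent.Lib.HsC22St5

theorem hN : nat_lit 1024 = 2 ^ 10 := by norm_num
theorem hM : M = 2 ^ 704 - 1 := by decide +kernel
theorem hR : R = repU 1024 10 := by decide +kernel
theorem hY : Y = yId 10 := by decide +kernel
theorem htot : ∀ e, 107 ≤ e → pr e = [] := by
  intro e he
  rw [pr, show Nat.ble ((nat_lit 107)) e = true from Nat.ble_eq_true_of_le he]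
  rfl

/-- the context -/
theorem ctx : Ctx 704 10 pr R Y :=
  ctx_mk' (N := (nat_lit 1024)) (M := M) (tot := 107) (by norm_num) hN hM hR hY let_all htot

/-- the letters -/
noncomputable abbrev g : ℕ → Equiv.Perm (Fin 704) := lp pr 704

theorem hOb5 : Om5.testBit 4 = true := by decide +kernel
theorem hroot5 : tw5 4 = [] := by decide +kernel
theorem lev5 : (∀ e, 105 ≤ e → g e ∈ grp g 105 2) ∧
    Level (grp g 105 2) (grp g 107 0) ⟨4, by norm_num⟩
      (fun p => prodW g (tw5 p.val)) (orbF 704 Om5) :=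
  level_bundle ctx (lo := 105) (ns := 2) (hi := 107) (ns' := 0) (b := 4) (Om := Om5) (tw := tw5) (st := stE5) (der := derT) (wA := certA) (wB := certB) (by norm_num)
    der5_all cert5_all fix5_all img5_all hOb5 hroot5 st5_all (letters_bottom ctx htot)
theorem cOm5 : (orbF 704 Om5).card = 3 := by
  rw [card_orbF]; decide +kernel
theorem hOb4 : Om4.testBit 38 = true := by decide +kernel
theorem hroot4 : tw4 38 = [] := by decide +kernel
theorem lev4 : (∀ e, 103 ≤ e → g e ∈ grp g 103 2) ∧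
    Level (grp g 103 2) (grp g 105 2) ⟨38, by norm_num⟩
      (fun p => prodW g (tw4 p.val)) (orbF 704 Om4) :=
  level_bundle ctx (lo := 103) (ns := 2) (hi := 105) (ns' := 2) (b := 38) (Om := Om4) (tw := tw4) (st := stE4) (der := derT) (wA := certA) (wB := certB) (by norm_num)
    der4_all cert4_all fix4_all img4_all hOb4 hroot4 st4_all (lev5).1
theorem cOm4 : (orbF 704 Om4).card = 4 := by
  rw [card_orbF]; decide +kernel
theorem hOb3 : Om3.testBit 22 = true := by decide +kernel
theorem hroot3 : tw3 22 = [] := by decide +kernel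
theorem lev3 : (∀ e, 101 ≤ e → g e ∈ grp g 101 2) ∧
    Level (grp g 101 2) (grp g 103 2) ⟨22, by norm_num⟩
      (fun p => prodW g (tw3 p.val)) (orbF 704 Om3) :=
  level_bundle ctx (lo := 101) (ns := 2) (hi := 103) (ns' := 2) (b := 22) (Om := Om3) (tw := tw3) (st := stE3) (der := derT) (wA := certA) (wB := certB) (by norm_num)
    der3_all cert3_all fix3_all img3_all hOb3 hroot3 st3_all (lev4).1
theorem cOm3 : (orbF 704 Om3).card = 5 := by
  rw [card_orbF]; decide +kernel
theorem hOb2 : Om2.testBit 10 = true := by decide +kernel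
theorem hroot2 : tw2 10 = [] := by decide +kernel
theorem lev2 : (∀ e, 99 ≤ e → g e ∈ grp g 99 2) ∧
    Level (grp g 99 2) (grp g 101 2) ⟨10, by norm_num⟩
      (fun p => prodW g (tw2 p.val)) (orbF 704 Om2) :=
  level_bundle ctx (lo := 99) (ns := 2) (hi := 101) (ns' := 2) (b := 10) (Om := Om2) (tw := tw2) (st := stE2) (der := derT) (wA := certA) (wB := certB) (by norm_num)
    der2_all cert2_all fix2_all img2_all hOb2 hroot2 st2_all (lev3).1
theorem cOm2 : (orbF 704 Om2).card = 6 := by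
  rw [card_orbF]; decide +kernel
theorem hOb1 : Om1.testBit 2 = true := by decide +kernel
theorem hroot1 : tw1 2 = [] := by decide +kernel
theorem lev1 : (∀ e, 58 ≤ e → g e ∈ grp g 58 2) ∧
    Level (grp g 58 2) (grp g 99 2) ⟨2, by norm_num⟩
      (fun p => prodW g (tw1 p.val)) (orbF 704 Om1) :=
  level_bundle ctx (lo := 58) (ns := 2) (hi := 99) (ns' := 2) (b := 2) (Om := Om1) (tw := tw1) (st := stE1) (der := derT) (wA := certA) (wB := certB) (by norm_num)
    der1_all cert1_all fix1_all img1_all hOb1 hroot1 st1_all (lev2).1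
theorem cOm1 : (orbF 704 Om1).card = 350 := by
  rw [card_orbF]; decide +kernel
theorem hOb0 : Om0.testBit 0 = true := by decide +kernel
theorem hroot0 : tw0 0 = [] := by decide +kernel
theorem lev0 : (∀ e, 0 ≤ e → g e ∈ grp g 0 2) ∧
    Level (grp g 0 2) (grp g 58 2) ⟨0, by norm_num⟩
      (fun p => prodW g (tw0 p.val)) (orbF 704 Om0) :=
  level_bundle ctx (lo := 0) (ns := 2) (hi := 58) (ns' := 2) (b := 0) (Om := Om0) (tw := tw0) (st := stE0) (der := derT) (wA := certA) (wB := certB) (by norm_num)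
    der0_all cert0_all fix0_all img0_all hOb0 hroot0 st0_all (lev1).1
theorem cOm0 : (orbF 704 Om0).card = 704 := by
  rw [card_orbF]; decide +kernel
theorem cardH6 : Nat.card (grp g 107 0) = 1 := by
  rw [grp_zero]; simp
theorem cardH5 : Nat.card (grp g 105 2) = 3 := by
  rw [(lev5).2.card, cOm5, cardH6]
theorem cardH4 : Nat.card (grp g 103 2) = 12 := by
  rw [(lev4).2.card, cOm4, cardH5]
theorem cardH3 : Nat.card (grp g 101 2) = 60 := by
  rw [(lev3).2.card, cOm3, cardH4]
theorem cardH2 : Nat.card (grp g 99 2) = 360 := by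
  rw [(lev2).2.card, cOm2, cardH3]
theorem cardH1 : Nat.card (grp g 58 2) = 126000 := by
  rw [(lev1).2.card, cOm1, cardH2]
theorem cardH0 : Nat.card (grp g 0 2) = 88704000 := by
  rw [(lev0).2.card, cOm0, cardH1]

end Cfsg.Agent.Lib.HsC22Main
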