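import Cfsg.Agent.Lib.ProgChain
import Cfsg.Agent.Lib.HsF22Prog0

set_option autoImplicit false

namespace Cfsg.Agent.Lib.HsF22Tab

open Cfsg.Agent.Lib.ChainCert Cfsg.Agent.Lib.ProgBits Cfsg.Agent.Lib.ProgChain Cfsg.Agent.Lib.PermChain Cfsg.Agent.Lib.TcBits

def sel1_3 (c : ℕ) : List (ℕ × ℕ) := cond (Nat.ble c ((nat_lit 1))) (Cfsg.Agent.Lib.HsF22Prog0.P1 c) (Cfsg.Agent.Lib.HsF22Prog0.P2 c)
def sel0_3 (c : ℕ) : List (ℕ × ℕ) := cond (Nat.ble c ((nat_lit 0))) (Cfsg.Agent.Lib.HsF22Prog0.P0 c) (sel1_3 c)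
def sel4_6 (c : ℕ) : List (ℕ × ℕ) := cond (Nat.ble c ((nat_lit 4))) (Cfsg.Agent.Lib.HsF22Prog0.P4 c) (Cfsg.Agent.Lib.HsF22Prog0.P5 c)
def sel3_6 (c : ℕ) : List (ℕ × ℕ) := cond (Nat.ble c ((nat_lit 3))) (Cfsg.Agent.Lib.HsF22Prog0.P3 c) (sel4_6 c)
def sel0_6 (c : ℕ) : List (ℕ × ℕ) := cond (Nat.ble c ((nat_lit 2))) (sel0_3 c) (sel3_6 c)
def sel7_9 (c : ℕ) : List (ℕ × ℕ) := cond (Nat.ble c ((nat_lit 7))) (Cfsg.Agent.Lib.HsF22Prog0.P7 c) (Cfsg.Agent.Lib.HsF22Prog0.P8 c)
def sel6_9 (c : ℕ) : List (ℕ × ℕ) := cond (Nat.ble c ((nat_lit 6))) (Cfsg.Agent.Lib.HsF22Prog0.P6 c) (sel7_9 c)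
def sel9_11 (c : ℕ) : List (ℕ × ℕ) := cond (Nat.ble c ((nat_lit 9))) (Cfsg.Agent.Lib.HsF22Prog0.P9 c) (Cfsg.Agent.Lib.HsF22Prog0.P10 c)
def sel11_13 (c : ℕ) : List (ℕ × ℕ) := cond (Nat.ble c ((nat_lit 11))) (Cfsg.Agent.Lib.HsF22Prog0.P11 c) (Cfsg.Agent.Lib.HsF22Prog0.P12 c)
def sel9_13 (c : ℕ) : List (ℕ × ℕ) := cond (Nat.ble c ((nat_lit 10))) (sel9_11 c) (sel11_13 c)
def sel6_13 (c : ℕ) : List (ℕ × ℕ) := cond (Nat.ble c ((nat_lit 8))) (sel6_9 c) (sel9_13 c)
def sel0_13 (c : ℕ) : List (ℕ × ℕ) := cond (Nat.ble c ((nat_lit 5))) (sel0_6 c) (sel6_13 c)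
/-- the programs -/
def pr (e : ℕ) : List (ℕ × ℕ) := cond (Nat.ble ((nat_lit 13)) e) [] (sel0_13 e)

/-- the repunit -/
def R : ℕ := nat_lit 0x1000000000000000000000000000000010000000000000000000000000000000100000000000000000000000000000001000000000000000000000000000000010000000000000000000000000000000100000000000000000000000000000001
/-- all the slices of the identity -/
def Y : ℕ := nat_lit 0xffffffffffffffff0000000000000000ffffffff00000000ffffffff00000000ffff0000ffff0000ffff0000ffff0000ff00ff00ff00ff00ff00ff00ff00ff00f0f0f0f0f0f0f0f0f0f0f0f0f0f0f0f0ccccccccccccccccccccccccccccccccaaaaaaaaaaaaaaaaaaaaaaaaaaaaaaaa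
/-- the mask of the points -/
def M : ℕ := nat_lit 0xfffffffffffffffffffffffff

def derT_0 (_ : ℕ) : ℕ := nat_lit 0x6007008008007003001004002003000004000003002001000000000000000000
/-- table lookup -/
def derT (i : ℕ) : ℕ := Nat.land (Nat.shiftRight (derT_0 (Nat.shiftRight i (nat_lit 6))) (Nat.mul (nat_lit 24) (Nat.land i (nat_lit 63)))) (nat_lit 16777215)
def certA_0 (_ : ℕ) : ℕ := nat_lit 0x100a00300200b00100000000900300b004000000000000000000000000000000000000000000000000000000000000000000000000000000000000000000000000000000000000000000000000000000000000000000000000000000000000000000000000000000000000000000000000000000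
/-- table lookup -/
def certA (i : ℕ) : ℕ := Nat.land (Nat.shiftRight (certA_0 (Nat.shiftRight i (nat_lit 4))) (Nat.mul (nat_lit 72) (Nat.land i (nat_lit 15)))) (nat_lit 4722366482869645213695)
def certB_0 (_ : ℕ) : ℕ := nat_lit 0x5003000000000000000000000000000000000
/-- table lookup -/
def certB (i : ℕ) : ℕ := Nat.land (Nat.shiftRight (certB_0 (Nat.shiftRight i (nat_lit 4))) (Nat.mul (nat_lit 12) (Nat.land i (nat_lit 15)))) (nat_lit 4095)
/-- the orbit -/
def Om0 : ℕ := nat_lit 0x100003a68a8e82840b4002009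
def twE0_0 (_ : ℕ) : ℕ := nat_lit 0x400200000000000300000000000a00000000000000000000200a00200300900a00000000000b00000000000000000000000000000000000900000000100300000000000000000000000000200100000000000000000000000000000000000000400100000000000200500100000000a005000000000000000000000000000000000000000000000000000000000000000000000000005009000000000000000000000000000000000000000000000000000000000004000000000000000000
def twE0_1 (_ : ℕ) : ℕ := nat_lit 0x200600000000000000000000000000000000000000000000000000000000000000000000000000000000000000000000000000000000000000000800100200300b00000000000100000000000000000500400300000000b001000000000000000000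
def twE0_s0_2 (c : ℕ) : ℕ := cond (Nat.ble c (nat_lit 0)) (twE0_0 c) (twE0_1 c)
/-- table lookup -/
def twE0 (i : ℕ) : ℕ := Nat.land (Nat.shiftRight (twE0_s0_2 (Nat.shiftRight i (nat_lit 6))) (Nat.mul (nat_lit 24) (Nat.land i (nat_lit 63)))) (nat_lit 16777215)
/-- transversal words -/
def tw0 (p : ℕ) : List ℕ := unpW (nat_lit 32) (twE0 p)
def stE0_0 (_ : ℕ) : ℕ := nat_lit 0xd02d00000004500000000000000000000000c04900000002600d00d00d00000d03f00000000000000000000000c01c00000006000000000000000000000000000000000000000000000000000000000000000000000000000000000000000000000000000000000000000000000000000000000000000000000000000000000000000000000000000000000000000000000000000000000000000000000000000000c04b00c00d03300000000000000000000000000000000000000000000000000000000000000000000000000000000000000000000000000000000000000000000000000000000000000000000000000000000000000000000000003f00000001f00000000000000000000000000000000000000000001d000000049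
def stE0_1 (_ : ℕ) : ℕ := nat_lit 0xc01f00000001a00000000000000000000000000300000002b00000000000000000000000003700000004c00000000000000000000000000000000000000000000000000000000c00d04d00d00d03500c00d03b00000d03700d00d06000d00d01d00000000000000000000000c01a00000004300000000000000000000000000000000000000000000000000000000000000000000000000000000000000000000000d03d00d00d00000000000000000000000000004600000c02d00000000000000000000000000000000000000000000000000000000000000000000000000d00d035000000036000000000000000000000000000000000000000000000000000000000000000000000000000000000000000000000000000000000000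
def stE0_2 (_ : ℕ) : ℕ := nat_lit 0xc04500c00d00300000d04300000c00d00c00d03300c00d04d00000000000000000000000004c00000003d00000000000000000000000000000000000000c00d02600000001c00c00d03600d00d04b00000000000000000000000d00000000c03b000000000000000000000000000000000000000000000000000000
def stE0_3 (_ : ℕ) : ℕ := nat_lit 0xd00d02b00c00d046
def stE0_s0_2 (c : ℕ) : ℕ := cond (Nat.ble c (nat_lit 0)) (stE0_0 c) (stE0_1 c)
def stE0_s2_4 (c : ℕ) : ℕ := cond (Nat.ble c (nat_lit 2)) (stE0_2 c) (stE0_3 c)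
def stE0_s0_4 (c : ℕ) : ℕ := cond (Nat.ble c (nat_lit 1)) (stE0_s0_2 c) (stE0_s2_4 c)
/-- table lookup -/
def stE0 (i : ℕ) : ℕ := Nat.land (Nat.shiftRight (stE0_s0_4 (Nat.shiftRight i (nat_lit 6))) (Nat.mul (nat_lit 36) (Nat.land i (nat_lit 63)))) (nat_lit 68719476735)
/-- step check -/
def Pst0 : ℕ → Bool := ProgChain.stepChk R Y pr (nat_lit 100) (nat_lit 0) (nat_lit 2) (nat_lit 11) Om0 tw0 stE0
/-- images -/
def Pimg0 : ℕ → Bool := imgChk pr (nat_lit 0) Om0 tw0 (nat_lit 0)
/-- derived letters -/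
def Pder0 (e : ℕ) : Bool := cond (Nat.ble ((nat_lit 2)) e) (derChk R Y pr (nat_lit 0) derT e) true
/-- next generators -/
def Pcert0 (e : ℕ) : Bool := cond (Nat.ble ((nat_lit 11)) e) (certChk R Y pr (nat_lit 0) (nat_lit 11) certA certB e) true
/-- next generators fix the point -/
def Pfix0 (e : ℕ) : Bool := cond (Nat.ble ((nat_lit 11)) e) (ptChk pr [e] (nat_lit 0) (nat_lit 0)) true
/-- the orbit -/
def Om1 : ℕ := nat_lit 0x105082
def twE1_0 (_ : ℕ) : ℕ := nat_lit 0xd00000000000000000000000000000000d00d00000000c00d00000000000000000000000000000c000000000000000000000000000000000000000000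
def twE1_1 (_ : ℕ) : ℕ := nat_lit 0x0
def twE1_s0_2 (c : ℕ) : ℕ := cond (Nat.ble c (nat_lit 0)) (twE1_0 c) (twE1_1 c)
/-- table lookup -/
def twE1 (i : ℕ) : ℕ := Nat.land (Nat.shiftRight (twE1_s0_2 (Nat.shiftRight i (nat_lit 6))) (Nat.mul (nat_lit 24) (Nat.land i (nat_lit 63)))) (nat_lit 16777215)
/-- transversal words -/
def tw1 (p : ℕ) : List ℕ := unpW (nat_lit 32) (twE1 p)
def stE1_0 (_ : ℕ) : ℕ := nat_lit 0xe00c00000000000000000000000000000000700100000000100e00000000000000000000000000c014000000000000000000000000000000014007000000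
def stE1_1 (_ : ℕ) : ℕ := nat_lit 0x0
def stE1_2 (_ : ℕ) : ℕ := nat_lit 0x0
def stE1_3 (_ : ℕ) : ℕ := nat_lit 0x0
def stE1_s0_2 (c : ℕ) : ℕ := cond (Nat.ble c (nat_lit 0)) (stE1_0 c) (stE1_1 c)
def stE1_s2_4 (c : ℕ) : ℕ := cond (Nat.ble c (nat_lit 2)) (stE1_2 c) (stE1_3 c)
def stE1_s0_4 (c : ℕ) : ℕ := cond (Nat.ble c (nat_lit 1)) (stE1_s0_2 c) (stE1_s2_4 c)
/-- table lookup -/
def stE1 (i : ℕ) : ℕ := Nat.land (Nat.shiftRight (stE1_s0_4 (Nat.shiftRight i (nat_lit 6))) (Nat.mul (nat_lit 12) (Nat.land i (nat_lit 63)))) (nat_lit 4095)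
/-- step check -/
def Pst1 : ℕ → Bool := ProgChain.stepChk R Y pr (nat_lit 100) (nat_lit 11) (nat_lit 2) (nat_lit 13) Om1 tw1 stE1
/-- images -/
def Pimg1 : ℕ → Bool := imgChk pr (nat_lit 11) Om1 tw1 (nat_lit 1)
/-- derived letters -/
def Pder1 (e : ℕ) : Bool := cond (Nat.ble ((nat_lit 13)) e) (derChk R Y pr (nat_lit 11) derT e) true
/-- next generators -/
def Pcert1 (e : ℕ) : Bool := cond (Nat.ble ((nat_lit 13)) e) (certChk R Y pr (nat_lit 11) (nat_lit 13) certA certB e) true
/-- next generators fix the point -/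
def Pfix1 (e : ℕ) : Bool := cond (Nat.ble ((nat_lit 13)) e) (ptChk pr [e] (nat_lit 1) (nat_lit 1)) true
/-- letters -/
def Plet (e : ℕ) : Bool := letterChk (nat_lit 128) M (pr e)

end Cfsg.Agent.Lib.HsF22Tab
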