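import Cfsg.Agent.Lib.ProgChain
import Cfsg.Agent.Lib.HsQ22Prog0

set_option autoImplicit false

namespace Cfsg.Agent.Lib.HsQ22Tab

open Cfsg.Agent.Lib.ChainCert Cfsg.Agent.Lib.ProgBits Cfsg.Agent.Lib.ProgChain Cfsg.Agent.Lib.PermChain Cfsg.Agent.Lib.TcBits

def sel0_2 (c : ℕ) : List (ℕ × ℕ) := cond (Nat.ble c ((nat_lit 0))) (Cfsg.Agent.Lib.HsQ22Prog0.P0 c) (Cfsg.Agent.Lib.HsQ22Prog0.P1 c)
def sel2_4 (c : ℕ) : List (ℕ × ℕ) := cond (Nat.ble c ((nat_lit 2))) (Cfsg.Agent.Lib.HsQ22Prog0.P2 c) (Cfsg.Agent.Lib.HsQ22Prog0.P3 c)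
def sel0_4 (c : ℕ) : List (ℕ × ℕ) := cond (Nat.ble c ((nat_lit 1))) (sel0_2 c) (sel2_4 c)
def sel4_6 (c : ℕ) : List (ℕ × ℕ) := cond (Nat.ble c ((nat_lit 4))) (Cfsg.Agent.Lib.HsQ22Prog0.P4 c) (Cfsg.Agent.Lib.HsQ22Prog0.P5 c)
def sel6_8 (c : ℕ) : List (ℕ × ℕ) := cond (Nat.ble c ((nat_lit 6))) (Cfsg.Agent.Lib.HsQ22Prog0.P6 c) (Cfsg.Agent.Lib.HsQ22Prog0.P7 c)
def sel4_8 (c : ℕ) : List (ℕ × ℕ) := cond (Nat.ble c ((nat_lit 5))) (sel4_6 c) (sel6_8 c)
def sel0_8 (c : ℕ) : List (ℕ × ℕ) := cond (Nat.ble c ((nat_lit 3))) (sel0_4 c) (sel4_8 c)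
/-- the programs -/
def pr (e : ℕ) : List (ℕ × ℕ) := cond (Nat.ble ((nat_lit 8)) e) [] (sel0_8 e)

/-- the repunit -/
def R : ℕ := nat_lit 0x1000000000000000000000000000000010000000000000000000000000000000100000000000000000000000000000001000000000000000000000000000000010000000000000000000000000000000100000000000000000000000000000001
/-- all the slices of the identity -/
def Y : ℕ := nat_lit 0xffffffffffffffff0000000000000000ffffffff00000000ffffffff00000000ffff0000ffff0000ffff0000ffff0000ff00ff00ff00ff00ff00ff00ff00ff00f0f0f0f0f0f0f0f0f0f0f0f0f0f0f0f0ccccccccccccccccccccccccccccccccaaaaaaaaaaaaaaaaaaaaaaaaaaaaaaaa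
/-- the mask of the points -/
def M : ℕ := nat_lit 0xfffffffffffffffffffffffff

def derT_0 (_ : ℕ) : ℕ := nat_lit 0x0
/-- table lookup -/
def derT (i : ℕ) : ℕ := Nat.land (Nat.shiftRight (derT_0 (Nat.shiftRight i (nat_lit 6))) (Nat.mul (nat_lit 24) (Nat.land i (nat_lit 63)))) (nat_lit 16777215)
def certA_0 (_ : ℕ) : ℕ := nat_lit 0x6006005005005006000000006005005006005000000000000003004004003004004003003004003000000000000002001001000002001002002002002000000000000000000000000000000000000000000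
/-- table lookup -/
def certA (i : ℕ) : ℕ := Nat.land (Nat.shiftRight (certA_0 (Nat.shiftRight i (nat_lit 4))) (Nat.mul (nat_lit 84) (Nat.land i (nat_lit 15)))) (nat_lit 19342813113834066795298815)
def certB_0 (_ : ℕ) : ℕ := nat_lit 0x5005000004000001000000
/-- table lookup -/
def certB (i : ℕ) : ℕ := Nat.land (Nat.shiftRight (certB_0 (Nat.shiftRight i (nat_lit 4))) (Nat.mul (nat_lit 12) (Nat.land i (nat_lit 15)))) (nat_lit 4095)
/-- the orbit -/
def Om0 : ℕ := nat_lit 0x4000000000000800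
def twE0_0 (_ : ℕ) : ℕ := nat_lit 0x1000000000000000000000000000000000000000000000000000000000000000000000000000000000000000000000000000000000000000000000000000000000000000000000000000000000000000000000000000000000000000000
def twE0_1 (_ : ℕ) : ℕ := nat_lit 0x0
def twE0_s0_2 (c : ℕ) : ℕ := cond (Nat.ble c (nat_lit 0)) (twE0_0 c) (twE0_1 c)
/-- table lookup -/
def twE0 (i : ℕ) : ℕ := Nat.land (Nat.shiftRight (twE0_s0_2 (Nat.shiftRight i (nat_lit 6))) (Nat.mul (nat_lit 12) (Nat.land i (nat_lit 63)))) (nat_lit 4095)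
/-- transversal words -/
def tw0 (p : ℕ) : List ℕ := unpW (nat_lit 32) (twE0 p)
def stE0_0 (_ : ℕ) : ℕ := nat_lit 0x800b00000003e000000000000000000000000000000000000000000000000000000000000000000000000000000000000000000000000000000000000000000000000000000000000000000000000000000000000000000000000000000000000000000000000000000
def stE0_1 (_ : ℕ) : ℕ := nat_lit 0x403e00800400b000000000000000000000000000000000000000000000000000000000000000000000000000000000000000000000000000000000000000000000000000000000000000000000000000000000000000000000000000000000000000000000000000000000000000000000000000000000000000000000000000000000000000000000000000000000000000000000000000000000000000000000000000000000000000000000000000000000000000000000000000000000000000000000000000000000000000000000000000000000000000000000000000000000000000000000000000000000000000000000000000000000000000000000000000000000000000000000000000000000000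
def stE0_2 (_ : ℕ) : ℕ := nat_lit 0x0
def stE0_3 (_ : ℕ) : ℕ := nat_lit 0x0
def stE0_s0_2 (c : ℕ) : ℕ := cond (Nat.ble c (nat_lit 0)) (stE0_0 c) (stE0_1 c)
def stE0_s2_4 (c : ℕ) : ℕ := cond (Nat.ble c (nat_lit 2)) (stE0_2 c) (stE0_3 c)
def stE0_s0_4 (c : ℕ) : ℕ := cond (Nat.ble c (nat_lit 1)) (stE0_s0_2 c) (stE0_s2_4 c)
/-- table lookup -/
def stE0 (i : ℕ) : ℕ := Nat.land (Nat.shiftRight (stE0_s0_4 (Nat.shiftRight i (nat_lit 6))) (Nat.mul (nat_lit 36) (Nat.land i (nat_lit 63)))) (nat_lit 68719476735)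
/-- step check -/
def Pst0 : ℕ → Bool := ProgChain.stepChk R Y pr (nat_lit 100) (nat_lit 0) (nat_lit 2) (nat_lit 2) Om0 tw0 stE0
/-- images -/
def Pimg0 : ℕ → Bool := imgChk pr (nat_lit 0) Om0 tw0 (nat_lit 11)
/-- derived letters -/
def Pder0 (e : ℕ) : Bool := cond (Nat.ble ((nat_lit 2)) e) (derChk R Y pr (nat_lit 0) derT e) true
/-- next generators -/
def Pcert0 (e : ℕ) : Bool := cond (Nat.ble ((nat_lit 2)) e) (certChk R Y pr (nat_lit 0) (nat_lit 2) certA certB e) true
/-- next generators fix the point -/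
def Pfix0 (e : ℕ) : Bool := cond (Nat.ble ((nat_lit 2)) e) (ptChk pr [e] (nat_lit 11) (nat_lit 11)) true
/-- the orbit -/
def Om1 : ℕ := nat_lit 0x8000000000000100
def twE1_0 (_ : ℕ) : ℕ := nat_lit 0x4000000000000000000000000000000000000000000000000000000000000000000000000000000000000000000000000000000000000000000000000000000000000000000000000000000000000000000000000000000000000000000000
def twE1_1 (_ : ℕ) : ℕ := nat_lit 0x0
def twE1_s0_2 (c : ℕ) : ℕ := cond (Nat.ble c (nat_lit 0)) (twE1_0 c) (twE1_1 c)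
/-- table lookup -/
def twE1 (i : ℕ) : ℕ := Nat.land (Nat.shiftRight (twE1_s0_2 (Nat.shiftRight i (nat_lit 6))) (Nat.mul (nat_lit 12) (Nat.land i (nat_lit 63)))) (nat_lit 4095)
/-- transversal words -/
def tw1 (p : ℕ) : List ℕ := unpW (nat_lit 32) (twE1 p)
def stE1_0 (_ : ℕ) : ℕ := nat_lit 0x3f000008008000000000000000000000000000000000000000000000000000000000000000000000000000000000000000000000000000000000000000000000000000000000000000000000000
def stE1_1 (_ : ℕ) : ℕ := nat_lit 0x800800503f000000000000000000000000000000000000000000000000000000000000000000000000000000000000000000000000000000000000000000000000000000000000000000000000000000000000000000000000000000000000000000000000000000000000000000000000000000000000000000000000000000000000000000000000000000000000000000000000000000000000000000000000000000000000000000000000000000000000000000000000000000000000000000000000000000000000000000000000000000000000000000000000000000000000000000000000000000000000000000000000000000000000000000000000000000000000000000000000000000000000000000000000000000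
def stE1_2 (_ : ℕ) : ℕ := nat_lit 0x0
def stE1_3 (_ : ℕ) : ℕ := nat_lit 0x0
def stE1_s0_2 (c : ℕ) : ℕ := cond (Nat.ble c (nat_lit 0)) (stE1_0 c) (stE1_1 c)
def stE1_s2_4 (c : ℕ) : ℕ := cond (Nat.ble c (nat_lit 2)) (stE1_2 c) (stE1_3 c)
def stE1_s0_4 (c : ℕ) : ℕ := cond (Nat.ble c (nat_lit 1)) (stE1_s0_2 c) (stE1_s2_4 c)
/-- table lookup -/
def stE1 (i : ℕ) : ℕ := Nat.land (Nat.shiftRight (stE1_s0_4 (Nat.shiftRight i (nat_lit 6))) (Nat.mul (nat_lit 36) (Nat.land i (nat_lit 63)))) (nat_lit 68719476735)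
/-- step check -/
def Pst1 : ℕ → Bool := ProgChain.stepChk R Y pr (nat_lit 100) (nat_lit 2) (nat_lit 2) (nat_lit 4) Om1 tw1 stE1
/-- images -/
def Pimg1 : ℕ → Bool := imgChk pr (nat_lit 2) Om1 tw1 (nat_lit 8)
/-- derived letters -/
def Pder1 (e : ℕ) : Bool := cond (Nat.ble ((nat_lit 4)) e) (derChk R Y pr (nat_lit 2) derT e) true
/-- next generators -/
def Pcert1 (e : ℕ) : Bool := cond (Nat.ble ((nat_lit 4)) e) (certChk R Y pr (nat_lit 2) (nat_lit 4) certA certB e) true
/-- next generators fix the point -/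
def Pfix1 (e : ℕ) : Bool := cond (Nat.ble ((nat_lit 4)) e) (ptChk pr [e] (nat_lit 8) (nat_lit 8)) true
/-- the orbit -/
def Om2 : ℕ := nat_lit 0x20000000000000000001
def twE2_0 (_ : ℕ) : ℕ := nat_lit 0x0
def twE2_1 (_ : ℕ) : ℕ := nat_lit 0x5000000000000000000000000000000000000000
def twE2_s0_2 (c : ℕ) : ℕ := cond (Nat.ble c (nat_lit 0)) (twE2_0 c) (twE2_1 c)
/-- table lookup -/
def twE2 (i : ℕ) : ℕ := Nat.land (Nat.shiftRight (twE2_s0_2 (Nat.shiftRight i (nat_lit 6))) (Nat.mul (nat_lit 12) (Nat.land i (nat_lit 63)))) (nat_lit 4095)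
/-- transversal words -/
def tw2 (p : ℕ) : List ℕ := unpW (nat_lit 32) (twE2 p)
def stE2_0 (_ : ℕ) : ℕ := nat_lit 0x800000004d
def stE2_1 (_ : ℕ) : ℕ := nat_lit 0x0
def stE2_2 (_ : ℕ) : ℕ := nat_lit 0x804d000000000000000000000000000000000000000000000000000000000000000000000000000000000000000000000000000000000000000000000000000000000000000000000000000000000000000000
def stE2_3 (_ : ℕ) : ℕ := nat_lit 0x0
def stE2_s0_2 (c : ℕ) : ℕ := cond (Nat.ble c (nat_lit 0)) (stE2_0 c) (stE2_1 c)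
def stE2_s2_4 (c : ℕ) : ℕ := cond (Nat.ble c (nat_lit 2)) (stE2_2 c) (stE2_3 c)
def stE2_s0_4 (c : ℕ) : ℕ := cond (Nat.ble c (nat_lit 1)) (stE2_s0_2 c) (stE2_s2_4 c)
/-- table lookup -/
def stE2 (i : ℕ) : ℕ := Nat.land (Nat.shiftRight (stE2_s0_4 (Nat.shiftRight i (nat_lit 6))) (Nat.mul (nat_lit 24) (Nat.land i (nat_lit 63)))) (nat_lit 16777215)
/-- step check -/
def Pst2 : ℕ → Bool := ProgChain.stepChk R Y pr (nat_lit 100) (nat_lit 4) (nat_lit 2) (nat_lit 6) Om2 tw2 stE2
/-- images -/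
def Pimg2 : ℕ → Bool := imgChk pr (nat_lit 4) Om2 tw2 (nat_lit 0)
/-- derived letters -/
def Pder2 (e : ℕ) : Bool := cond (Nat.ble ((nat_lit 6)) e) (derChk R Y pr (nat_lit 4) derT e) true
/-- next generators -/
def Pcert2 (e : ℕ) : Bool := cond (Nat.ble ((nat_lit 6)) e) (certChk R Y pr (nat_lit 4) (nat_lit 6) certA certB e) true
/-- next generators fix the point -/
def Pfix2 (e : ℕ) : Bool := cond (Nat.ble ((nat_lit 6)) e) (ptChk pr [e] (nat_lit 0) (nat_lit 0)) true
/-- the orbit -/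
def Om3 : ℕ := nat_lit 0x6
def twE3_0 (_ : ℕ) : ℕ := nat_lit 0x8000000
def twE3_1 (_ : ℕ) : ℕ := nat_lit 0x0
def twE3_s0_2 (c : ℕ) : ℕ := cond (Nat.ble c (nat_lit 0)) (twE3_0 c) (twE3_1 c)
/-- table lookup -/
def twE3 (i : ℕ) : ℕ := Nat.land (Nat.shiftRight (twE3_s0_2 (Nat.shiftRight i (nat_lit 6))) (Nat.mul (nat_lit 12) (Nat.land i (nat_lit 63)))) (nat_lit 4095)
/-- transversal words -/
def tw3 (p : ℕ) : List ℕ := unpW (nat_lit 32) (twE3 p)
def stE3_0 (_ : ℕ) : ℕ := nat_lit 0x1002002001000000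
def stE3_1 (_ : ℕ) : ℕ := nat_lit 0x0
def stE3_2 (_ : ℕ) : ℕ := nat_lit 0x0
def stE3_3 (_ : ℕ) : ℕ := nat_lit 0x0
def stE3_s0_2 (c : ℕ) : ℕ := cond (Nat.ble c (nat_lit 0)) (stE3_0 c) (stE3_1 c)
def stE3_s2_4 (c : ℕ) : ℕ := cond (Nat.ble c (nat_lit 2)) (stE3_2 c) (stE3_3 c)
def stE3_s0_4 (c : ℕ) : ℕ := cond (Nat.ble c (nat_lit 1)) (stE3_s0_2 c) (stE3_s2_4 c)
/-- table lookup -/
def stE3 (i : ℕ) : ℕ := Nat.land (Nat.shiftRight (stE3_s0_4 (Nat.shiftRight i (nat_lit 6))) (Nat.mul (nat_lit 12) (Nat.land i (nat_lit 63)))) (nat_lit 4095)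
/-- step check -/
def Pst3 : ℕ → Bool := ProgChain.stepChk R Y pr (nat_lit 100) (nat_lit 6) (nat_lit 2) (nat_lit 8) Om3 tw3 stE3
/-- images -/
def Pimg3 : ℕ → Bool := imgChk pr (nat_lit 6) Om3 tw3 (nat_lit 1)
/-- derived letters -/
def Pder3 (e : ℕ) : Bool := cond (Nat.ble ((nat_lit 8)) e) (derChk R Y pr (nat_lit 6) derT e) true
/-- next generators -/
def Pcert3 (e : ℕ) : Bool := cond (Nat.ble ((nat_lit 8)) e) (certChk R Y pr (nat_lit 6) (nat_lit 8) certA certB e) true
/-- next generators fix the point -/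
def Pfix3 (e : ℕ) : Bool := cond (Nat.ble ((nat_lit 8)) e) (ptChk pr [e] (nat_lit 1) (nat_lit 1)) true
/-- letters -/
def Plet (e : ℕ) : Bool := letterChk (nat_lit 128) M (pr e)

end Cfsg.Agent.Lib.HsQ22Tab
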