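import Mathlib
import Cfsg.Agent.Lib.RankOne3
import Cfsg.Agent.Lib.Kegel

/-!
# Rank-one setup: fourth batch, using Thompson's theorem

With two distinct commuting involutions in `G`: `Q` is nilpotent, the involutions of `G_a` are
central in `Q`, and a product of two involutions of order not two has odd order centraliser.
-/

set_option autoImplicit false
set_option linter.unusedSectionVars false
set_option linter.unusedVariables false

namespace Cfsg.Agent.Lib.RankOne4

open MulAction Cfsg.Agent.Lib.RankOne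

/-- A finite nilpotent group of even order has a central involution. -/
lemma exists_central_invol {M : Type*} [Group M] [Finite M] [Group.IsNilpotent M]
    (h : Even (Nat.card M)) : ∃ x : M, x ≠ 1 ∧ x * x = 1 ∧ ∀ y, x * y = y * x := by
  classical
  have : Fact (Nat.Prime 2) := ⟨Nat.prime_two⟩
  have hn : ∀ (p : ℕ) (_ : Fact p.Prime) (P : Sylow p M), (P : Subgroup M).Normal := by
    intro p hp P
    exact ((Group.isNilpotent_of_finite_tfae (G := M)).out 0 3 rfl rfl).mp ‹_› p hp P
  let P : Sylow 2 M := default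
  have h2 : 2 ∣ Nat.card P := by
    rw [P.card_eq_multiplicity]
    have hf : (Nat.card M).factorization 2 ≠ 0 := by
      have h0 : Nat.card M ≠ 0 := Nat.card_pos.ne'
      rw [← Finsupp.mem_support_iff, Nat.support_factorization, Nat.mem_primeFactors]
      exact ⟨Nat.prime_two, even_iff_two_dvd.mp h, h0⟩
    exact dvd_pow_self 2 hf
  have hnt : Nontrivial P := by
    apply (Finite.one_lt_card_iff_nontrivial).mp
    have := Nat.le_of_dvd Nat.card_pos h2
    omega
  have hpg : IsPGroup 2 P := P.isPGroup'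
  have := hpg.center_nontrivial
  have hzc : 2 ∣ Nat.card (Subgroup.center P) := by
    obtain ⟨n, hn⟩ := (hpg.to_subgroup (Subgroup.center P)).exists_card_eq
    have hne : n ≠ 0 := by
      rintro rfl
      have := Finite.one_lt_card (α := Subgroup.center P)
      omega
    rw [hn]
    exact dvd_pow_self 2 hne
  obtain ⟨z, hz⟩ := exists_prime_orderOf_dvd_card' 2 hzc
  set x : M := ((z : P) : M) with hx
  have hz2 : z ^ 2 = 1 := by
    have h5 := pow_orderOf_eq_one z
    rwa [hz] at h5
  have hx2 : x * x = 1 := by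
    have h3 : z * z = 1 := by rw [← pow_two]; exact hz2
    have := congrArg (fun w : Subgroup.center P => ((w : P) : M)) h3
    simpa using this
  have hx1 : x ≠ 1 := by
    intro h3
    have : z = 1 := by
      apply Subtype.ext
      apply Subtype.ext
      exact h3
    rw [this, orderOf_one] at hz
    omega
  refine ⟨x, hx1, hx2, ?_⟩
  -- the centraliser of `x` contains all Sylow subgroups
  set C : Subgroup M := Subgroup.centralizer {x} with hC
  have hPC : (P : Subgroup M) ≤ C := by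
    intro y hy
    rw [hC, Subgroup.mem_centralizer_singleton_iff]
    have := (Subgroup.mem_center_iff.mp z.2) ⟨y, hy⟩
    have h4 := congrArg Subtype.val this
    exact h4
  have hi : C.index = 1 := by
    by_contra hne
    obtain ⟨q, hq, hqd⟩ := Nat.exists_prime_and_dvd hne
    have : Fact q.Prime := ⟨hq⟩
    by_cases hq2 : q = 2
    · subst hq2
      exact P.not_dvd_index (hqd.trans (Subgroup.index_dvd_of_le hPC))
    · let R : Sylow q M := default
      have hRC : (R : Subgroup M) ≤ C := by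
        intro y hy
        rw [hC, Subgroup.mem_centralizer_singleton_iff]
        have hd : Disjoint (P : Subgroup M) (R : Subgroup M) :=
          IsPGroup.disjoint_of_ne 2 q (Ne.symm hq2) _ _ P.isPGroup' R.isPGroup'
        have := Subgroup.commute_of_normal_of_disjoint _ _ (hn 2 inferInstance P)
          (hn q inferInstance R) hd x y z.1.2 hy
        exact this.eq.symm ▸ rfl
      exact R.not_dvd_index (hqd.trans (Subgroup.index_dvd_of_le hRC))
  have htop : C = ⊤ := Subgroup.index_eq_one.mp hi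
  intro y
  have : y ∈ C := by rw [htop]; trivial
  rw [hC, Subgroup.mem_centralizer_singleton_iff] at this
  exact this.symm

section Setup

variable {G Ω : Type*} [Group G] [MulAction G Ω] {a : Ω} {t : G} {Q : Subgroup G}
  (hS : Cfsg.IsRankOneSetup G Ω a t Q)

include hS

/-- Two distinct commuting involutions yield two distinct involutions in `G_a`. -/
lemma exists_two_invol [Finite G]
    (h2 : ∃ x y : G, x ≠ 1 ∧ y ≠ 1 ∧ x ≠ y ∧ x * x = 1 ∧ y * y = 1 ∧ x * y = y * x) :
    ∃ s ∈ Cfsg.involutionsIn (stabilizer G a : Set G),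
      ∃ s' ∈ Cfsg.involutionsIn (stabilizer G a : Set G), s ≠ s' := by
  obtain ⟨x, y, hx1, hy1, hxy, hx2, hy2, hc⟩ := h2
  obtain ⟨c, hc1⟩ := invol_exists_fixed hS hx2
  have hyc : y • c = c := by
    apply invol_fixed_unique hS hx1 hx2 _ hc1
    rw [smul_smul, hc, mul_smul, hc1]
  obtain ⟨g, hg⟩ := exists_smul_eq' hS c a
  have key : ∀ u : G, u ≠ 1 → u * u = 1 → u • c = c →
      g * u * g⁻¹ ∈ Cfsg.involutionsIn (stabilizer G a : Set G) := by
    intro u hu1 hu2 huc
    refine ⟨?_, ?_, ?_⟩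
    · show g * u * g⁻¹ ∈ stabilizer G a
      rw [mem_stabilizer_iff, mul_smul, mul_smul, ← hg, inv_smul_smul, huc]
    · intro h0
      apply hu1
      have : u = g⁻¹ * (g * u * g⁻¹) * g := by group
      rw [this, h0]; group
    · have : g * u * g⁻¹ * (g * u * g⁻¹) = g * (u * u) * g⁻¹ := by group
      rw [this, hu2]; group
  refine ⟨_, key x hx1 hx2 hc1, _, key y hy1 hy2 hyc, ?_⟩
  intro h0
  apply hxy
  exact mul_left_cancel (mul_right_cancel h0)

/-- `K` contains an element of prime order. -/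
lemma exists_prime_inverted [Finite G]
    (h2 : ∃ x y : G, x ≠ 1 ∧ y ≠ 1 ∧ x ≠ y ∧ x * x = 1 ∧ y * y = 1 ∧ x * y = y * x) :
    ∃ k ∈ Cfsg.invertedBy (DD G a t) t, k ≠ 1 ∧ (orderOf k).Prime := by
  obtain ⟨s, hs, s', hs', hne⟩ := exists_two_invol hS h2
  obtain ⟨k, hk, e⟩ := inverted_trans hS hs hs'
  have hk1 : k ≠ 1 := by
    rintro rfl
    apply hne
    simpa using e
  have hord : orderOf k ≠ 1 := by
    intro h
    exact hk1 (orderOf_eq_one_iff.mp h)
  obtain ⟨p, hp, hpd⟩ := Nat.exists_prime_and_dvd hord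
  have hpos : 0 < orderOf k := orderOf_pos k
  set m := orderOf k / p with hm
  have hmul : orderOf k = p * m := (Nat.mul_div_cancel' hpd).symm
  have hm0 : m ≠ 0 := by
    rintro h0
    rw [h0] at hmul
    omega
  have hom : orderOf (k ^ m) = p := by
    rw [orderOf_pow_of_dvd hm0 ⟨p, by rw [hmul]; ring⟩, hmul]
    exact Nat.mul_div_cancel _ (Nat.pos_of_ne_zero hm0)
  refine ⟨k ^ m, ?_, ?_, ?_⟩
  · have hkK := (inverted_iff hS).mp hk
    refine (inverted_iff hS).mpr ⟨(DD G a t).pow_mem hkK.1 m, ?_⟩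
    have htt := hS.mul_self
    have hti := t_inv hS
    have h3 : t * k ^ m * t = (t * k * t) ^ m := by
      have := conj_pow (a := t) (b := k) (i := m)
      rw [hti] at this
      exact this.symm
    rw [h3, hkK.2, inv_pow]
  · intro h0
    rw [h0, orderOf_one] at hom
    exact hp.one_lt.ne hom
  · rw [hom]; exact hp

/-- `S1129`: `Q` is nilpotent. -/
lemma Q_nilpotent [Finite G]
    (h2 : ∃ x y : G, x ≠ 1 ∧ y ≠ 1 ∧ x ≠ y ∧ x * x = 1 ∧ y * y = 1 ∧ x * y = y * x) :
    Group.IsNilpotent Q := by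
  obtain ⟨k, hk, hk1, hp⟩ := exists_prime_inverted hS h2
  have hkG : k ∈ stabilizer G a := (inverted_mem hS hk).1
  have hkG' : k⁻¹ ∈ stabilizer G a := (stabilizer G a).inv_mem hkG
  let α : MulAut Q :=
    { toFun := fun x => ⟨k * x * k⁻¹, hS.conj_mem k hkG _ x.2⟩
      invFun := fun x => ⟨k⁻¹ * x * k, by
        have := hS.conj_mem k⁻¹ hkG' _ x.2
        simpa using this⟩
      left_inv := fun x => by
        apply Subtype.ext
        show k⁻¹ * (k * x * k⁻¹) * k = x
        group
      right_inv := fun x => by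
        apply Subtype.ext
        show k * (k⁻¹ * x * k) * k⁻¹ = x
        group
      map_mul' := fun x y => by
        apply Subtype.ext
        show k * (x * y : G) * k⁻¹ = (k * x * k⁻¹) * (k * y * k⁻¹)
        group }
  have hαpow : ∀ (n : ℕ) (x : Q), (((α ^ n) x : Q) : G) = k ^ n * x * (k ^ n)⁻¹ := by
    intro n
    induction n with
    | zero => intro x; simp
    | succ n ih =>
      intro x
      rw [pow_succ', MulAut.mul_apply]
      show k * (((α ^ n) x : Q) : G) * k⁻¹ = _
      rw [ih, pow_succ']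
      group
  refine Kegel.nilpotent_of_fpf α ?_ hp ?_
  · intro x hx
    have h3 : k * (x : G) * k⁻¹ = x := congrArg Subtype.val hx
    have h4 : k * (x : G) = x * k := by
      calc k * (x : G) = k * x * k⁻¹ * k := by group
        _ = x * k := by rw [h3]
    apply Subtype.ext
    exact inverted_fpf hS hk hk1 x.2 h4
  · ext x
    rw [hαpow, pow_orderOf_eq_one]
    simp

/-- Central involution of `Q`, then all involutions of `G_a` are central in `Q`. -/
lemma invol_central [Finite G]
    (h2 : ∃ x y : G, x ≠ 1 ∧ y ≠ 1 ∧ x ≠ y ∧ x * x = 1 ∧ y * y = 1 ∧ x * y = y * x)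
    {s : G} (hs : s ∈ Cfsg.involutionsIn (stabilizer G a : Set G)) {x : G} (hx : x ∈ Q) :
    s * x = x * s := by
  have := Q_nilpotent hS h2
  obtain ⟨z, hz1, hz2, hz⟩ := exists_central_invol (M := Q) hS.even_card
  have hz1' : (z : G) ≠ 1 := fun h => hz1 (Subtype.ext h)
  have hz2' : (z : G) * z = 1 := congrArg Subtype.val hz2
  have hzs : (z : G) ∈ Cfsg.involutionsIn (stabilizer G a : Set G) := ⟨hS.le z.2, hz1', hz2'⟩
  obtain ⟨k, hk, e⟩ := inverted_trans hS hzs hs
  have hkG : k ∈ stabilizer G a := (inverted_mem hS hk).1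
  have h3 : k * x * k⁻¹ ∈ Q := hS.conj_mem k hkG x hx
  have h4 : (z : G) * (k * x * k⁻¹) = (k * x * k⁻¹) * z :=
    congrArg Subtype.val (hz ⟨_, h3⟩)
  rw [← e]
  calc k⁻¹ * z * k * x = k⁻¹ * ((z : G) * (k * x * k⁻¹)) * k := by group
    _ = k⁻¹ * ((k * x * k⁻¹) * z) * k := by rw [h4]
    _ = x * (k⁻¹ * z * k) := by group

/-- Two involutions fixing a common point commute. -/
lemma invol_comm_of_fixed [Finite G]
    (h2 : ∃ x y : G, x ≠ 1 ∧ y ≠ 1 ∧ x ≠ y ∧ x * x = 1 ∧ y * y = 1 ∧ x * y = y * x)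
    {u v : G} (hu1 : u ≠ 1) (hu2 : u * u = 1) (hv1 : v ≠ 1) (hv2 : v * v = 1) {c : Ω}
    (huc : u • c = c) (hvc : v • c = c) : u * v = v * u := by
  obtain ⟨g, hg⟩ := exists_smul_eq' hS c a
  have key : ∀ w : G, w ≠ 1 → w * w = 1 → w • c = c →
      g * w * g⁻¹ ∈ Cfsg.involutionsIn (stabilizer G a : Set G) := by
    intro w hu1 hu2 huc
    refine ⟨?_, ?_, ?_⟩
    · show g * w * g⁻¹ ∈ stabilizer G a
      rw [mem_stabilizer_iff, mul_smul, mul_smul, ← hg, inv_smul_smul, huc]
    · intro h0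
      apply hu1
      have : w = g⁻¹ * (g * w * g⁻¹) * g := by group
      rw [this, h0]; group
    · have : g * w * g⁻¹ * (g * w * g⁻¹) = g * (w * w) * g⁻¹ := by group
      rw [this, hu2]; group
  have hu' := key u hu1 hu2 huc
  have hv' := key v hv1 hv2 hvc
  have hvQ : g * v * g⁻¹ ∈ Q := invol_mem_Q hS hv'.1 hv'.2.2
  have h3 := invol_central hS h2 hu' hvQ
  have h4 : g * (u * v) * g⁻¹ = g * (v * u) * g⁻¹ := by
    calc g * (u * v) * g⁻¹ = (g * u * g⁻¹) * (g * v * g⁻¹) := by group
      _ = (g * v * g⁻¹) * (g * u * g⁻¹) := h3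
      _ = g * (v * u) * g⁻¹ := by group
  exact mul_left_cancel (mul_right_cancel h4)

/-- `G_a` acts transitively on the involutions moving `a`. -/
lemma exists_stab_conj [Finite G] {v : G} (hv1 : v ≠ 1) (hv2 : v * v = 1) (hva : v • a ≠ a) :
    ∃ g ∈ stabilizer G a, g * v * g⁻¹ = t := by
  obtain ⟨y, hy, e⟩ := exists_Q_smul hS hva
  have hyG := hS.le hy
  -- `y⁻¹ v y` sends `a` to `t a`
  have h3 : (y⁻¹ * v * y) • a = t • a := by
    have hya : y • a = a := Q_fix hS hy
    rw [mul_smul, mul_smul, hya, ← e, inv_smul_smul]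
  have h4 : (y⁻¹ * v * y) * (y⁻¹ * v * y) = 1 := by
    have : (y⁻¹ * v * y) * (y⁻¹ * v * y) = y⁻¹ * (v * v) * y := by group
    rw [this, hv2]; group
  obtain ⟨l, hl, hl2⟩ := swap_conj_t hS h3 h4
  have hlG := (inverted_mem hS hl).1
  refine ⟨l * y⁻¹, (stabilizer G a).mul_mem hlG ((stabilizer G a).inv_mem hyG), ?_⟩
  have : l * y⁻¹ * v * (l * y⁻¹)⁻¹ = l * (y⁻¹ * v * y) * l⁻¹ := by group
  rw [this, hl2]
  group

/-- `S1135` (first part). -/
lemma conj_to_form [Finite G]
    (h2 : ∃ x y : G, x ≠ 1 ∧ y ≠ 1 ∧ x ≠ y ∧ x * x = 1 ∧ y * y = 1 ∧ x * y = y * x)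
    {u v : G} (hu1 : u ≠ 1) (hu2 : u * u = 1) (hv1 : v ≠ 1) (hv2 : v * v = 1)
    (hx : (u * v) * (u * v) ≠ 1) :
    ∃ g : G, ∃ u' ∈ Cfsg.involutionsIn (stabilizer G a : Set G), g * (u * v) * g⁻¹ = u' * t := by
  obtain ⟨c, hc⟩ := invol_exists_fixed hS hu2
  obtain ⟨g, hg⟩ := exists_smul_eq' hS c a
  have hvc : v • c ≠ c := by
    intro hvc
    apply hx
    have := invol_comm_of_fixed hS h2 hu1 hu2 hv1 hv2 hc hvc
    calc u * v * (u * v) = u * (v * u) * v := by group
      _ = u * (u * v) * v := by rw [this]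
      _ = (u * u) * (v * v) := by group
      _ = 1 := by rw [hu2, hv2, one_mul]
  set v' := g * v * g⁻¹ with hv'
  have hv'1 : v' ≠ 1 := by
    intro h0
    apply hv1
    have : v = g⁻¹ * v' * g := by rw [hv']; group
    rw [this, h0]; group
  have hv'2 : v' * v' = 1 := by
    have : v' * v' = g * (v * v) * g⁻¹ := by rw [hv']; group
    rw [this, hv2]; group
  have hv'a : v' • a ≠ a := by
    intro h0
    apply hvc
    rw [hv', mul_smul, mul_smul, ← hg, inv_smul_smul] at h0
    exact smul_left_cancel g h0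
  obtain ⟨h, hh, e⟩ := exists_stab_conj hS hv'1 hv'2 hv'a
  refine ⟨h * g, h * (g * u * g⁻¹) * h⁻¹, ⟨?_, ?_, ?_⟩, ?_⟩
  · show h * (g * u * g⁻¹) * h⁻¹ ∈ stabilizer G a
    have h3 : g * u * g⁻¹ ∈ stabilizer G a := by
      rw [mem_stabilizer_iff, mul_smul, mul_smul, ← hg, inv_smul_smul, hc]
    exact (stabilizer G a).mul_mem ((stabilizer G a).mul_mem hh h3) ((stabilizer G a).inv_mem hh)
  · intro h0
    apply hu1
    have : u = g⁻¹ * h⁻¹ * (h * (g * u * g⁻¹) * h⁻¹) * h * g := by group
    rw [this, h0]; group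
  · have : h * (g * u * g⁻¹) * h⁻¹ * (h * (g * u * g⁻¹) * h⁻¹) = h * g * (u * u) * g⁻¹ * h⁻¹ := by
      group
    rw [this, hu2]; group
  · rw [← e, hv']
    group

/-- `S1135` (second part), in the form `x = u t`. -/
lemma odd_centralizer_aux [Finite G]
    (h2 : ∃ x y : G, x ≠ 1 ∧ y ≠ 1 ∧ x ≠ y ∧ x * x = 1 ∧ y * y = 1 ∧ x * y = y * x)
    {u : G} (hu1 : u ≠ 1) (hu2 : u * u = 1) (hx : (u * t) * (u * t) ≠ 1)
    {w : G} (hw1 : w ≠ 1) (hw2 : w * w = 1) (hwx : w * (u * t) = (u * t) * w) : False := by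
  have htt := hS.mul_self
  have ht1 := hS.ne_one
  set x := u * t with hxdef
  obtain ⟨e, he⟩ := invol_exists_fixed hS hw2
  have hxe : x • e = e := by
    apply invol_fixed_unique hS hw1 hw2 _ he
    rw [smul_smul, hwx, mul_smul, he]
  have hx1 : x ≠ 1 := by
    intro h0
    apply hx
    rw [h0, one_mul]
  have htinv : t * x * t = x⁻¹ := by
    rw [hxdef, mul_inv_rev, inv_eq_of_mul_eq_one_left htt, inv_eq_of_mul_eq_one_left hu2]
    calc t * (u * t) * t = t * u * (t * t) := by group
      _ = t * u := by rw [htt, mul_one]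
  have hte : t • e ≠ e := by
    intro h0
    apply hx
    -- then `u` also fixes `e`
    have hue : u • e = e := by
      have h3 : u = x * t := by
        rw [hxdef, mul_assoc, htt, mul_one]
      rw [h3, mul_smul, h0, hxe]
    have hc := invol_comm_of_fixed hS h2 hu1 hu2 ht1 htt hue h0
    rw [hxdef]
    calc u * t * (u * t) = u * (t * u) * t := by group
      _ = u * (u * t) * t := by rw [hc]
      _ = (u * u) * (t * t) := by group
      _ = 1 := by rw [hu2, htt, one_mul]
  obtain ⟨g, hg⟩ := exists_smul_eq' hS e a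
  -- conjugate everything so that `e` becomes `a`
  set t' := g * t * g⁻¹ with ht'
  have hcg : ∀ w : G, g * w * g⁻¹ * (g * w * g⁻¹) = g * (w * w) * g⁻¹ := by intro w; group
  have ht'1 : t' ≠ 1 := by
    intro h0
    apply ht1
    have : t = g⁻¹ * t' * g := by rw [ht']; group
    rw [this, h0]; group
  have ht'2 : t' * t' = 1 := by rw [ht', hcg, htt]; group
  have hge : g⁻¹ • a = e := by rw [← hg, inv_smul_smul]
  have ht'a : t' • a ≠ a := by
    intro h0
    apply hte
    rw [ht', mul_smul, mul_smul, hge] at h0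
    have h3 : g • (t • e) = g • e := by rw [h0, hg]
    exact smul_left_cancel g h3
  obtain ⟨h, hh, eh⟩ := exists_stab_conj hS ht'1 ht'2 ht'a
  set f := h * g with hf
  have hfa : f • e = a := by rw [hf, mul_smul, hg]; exact mem_stabilizer_iff.mp hh
  have hft : f * t * f⁻¹ = t := by
    have h7 : f * t * f⁻¹ = h * t' * h⁻¹ := by
      rw [hf, ht']; group
    rw [h7, eh]
  have hfinv : f⁻¹ • a = e := by rw [← hfa, inv_smul_smul]
  -- the conjugate of `x`
  set x' := f * x * f⁻¹ with hx'
  have hx'a : x' • a = a := by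
    rw [hx', mul_smul, mul_smul, hfinv, hxe, hfa]
  have hx't : t * x' * t = x'⁻¹ := by
    have h3 : t * x' * t = (f * t * f⁻¹) * x' * (f * t * f⁻¹) := by rw [hft]
    rw [h3, hx']
    calc f * t * f⁻¹ * (f * x * f⁻¹) * (f * t * f⁻¹) = f * (t * x * t) * f⁻¹ := by group
      _ = f * x⁻¹ * f⁻¹ := by rw [htinv]
      _ = (f * x * f⁻¹)⁻¹ := by group
  have hx'b : x' • (t • a) = t • a := by
    have h3 : x' * t = t * x'⁻¹ := by
      calc x' * t = t * (t * x' * t) := by
            calc x' * t = (t * t) * x' * t := by rw [htt, one_mul]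
              _ = t * (t * x' * t) := by group
        _ = t * x'⁻¹ := by rw [hx't]
    rw [smul_smul, h3, mul_smul]
    have h4 : x'⁻¹ • a = a := by
      conv_lhs => rw [← hx'a]
      exact inv_smul_smul _ _
    rw [h4]
  have hx'D : x' ∈ DD G a t := D_mem hS hx'a hx'b
  have hx'K : x' ∈ Cfsg.invertedBy (DD G a t) t := (inverted_iff hS).mpr ⟨hx'D, hx't⟩
  have hx'1 : x' ≠ 1 := by
    intro h0
    apply hx1
    have : x = f⁻¹ * x' * f := by rw [hx']; group
    rw [this, h0]; group
  -- the conjugate of `w`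
  set w' := f * w * f⁻¹ with hw'
  have hw'S : w' ∈ stabilizer G a := by
    rw [mem_stabilizer_iff, hw', mul_smul, mul_smul, hfinv, he, hfa]
  have hw'2 : w' * w' = 1 := by
    have : w' * w' = f * (w * w) * f⁻¹ := by rw [hw']; group
    rw [this, hw2]; group
  have hw'Q := invol_mem_Q hS hw'S hw'2
  have hcomm : x' * w' = w' * x' := by
    rw [hx', hw']
    calc f * x * f⁻¹ * (f * w * f⁻¹) = f * (x * w) * f⁻¹ := by group
      _ = f * (w * x) * f⁻¹ := by rw [hwx]
      _ = f * w * f⁻¹ * (f * x * f⁻¹) := by group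
  have h0 := inverted_fpf hS hx'K hx'1 hw'Q hcomm
  apply hw1
  have : w = f⁻¹ * w' * f := by rw [hw']; group
  rw [this, h0]; group

end Setup

end Cfsg.Agent.Lib.RankOne4
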