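import Mathlib
import Cfsg.Agent.Lib.HuaG
import Cfsg.Agent.Lib.RankOne4

/-!
# Connection with the rank one set-up
-/

set_option autoImplicit false
set_option linter.unusedSectionVars false
set_option linter.unusedVariables false
set_option linter.style.haveILetI false
set_option linter.unusedSimpArgs false

namespace Cfsg.Agent.Lib.HuaR

open MulAction Cfsg.Agent.Lib.RankOne Cfsg.Agent.Lib.RankOne2 Cfsg.Agent.Lib.RankOne3 Cfsg.Agent.Lib.RankOne4
  Cfsg.Agent.Lib.HuaA Cfsg.Agent.Lib.HuaB Cfsg.Agent.Lib.HuaC Cfsg.Agent.Lib.HuaD1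

universe u v w

section abstract

variable {D : Type u} {A : Type v} [Group D] [Finite D] [AddCommGroup A] [Finite A]
  [DistribMulAction D A] {t : D ≃* D} {s₀ : A}

/-- The group `V` modulo the kernel of the action is cyclic. -/
theorem _root_.Cfsg.Agent.Lib.HuaC.Cfg.exists_V_gen (h : Cfg t s₀) :
    ∃ v₀, IsV t v₀ ∧ ∀ v, IsV t v → ∃ n : ℤ, ∀ k, IsK t k → ((v₀ ^ n)⁻¹ * v) * k = k * ((v₀ ^ n)⁻¹ * v) := by
  classical
  let op : A → A →+ A := fun a => if a = 0 then 0 else DistribSMul.toAddMonoidHom A (h.kk a)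
  have hop0 : ∀ b, op 0 b = 0 := fun b => by simp [op]
  have hopc : ∀ {a : A}, a ≠ 0 → ∀ b, op a b = h.kk a • b := fun {a} ha b => by
    simp only [op, if_neg ha]
    rfl
  have hcomm : ∀ a b : A, op a b = op b a := by
    intro a b
    by_cases ha : a = 0
    · rw [ha, hop0, map_zero]
    by_cases hb : b = 0
    · rw [hb, hop0, map_zero]
    rw [hopc ha, hopc hb]
    calc h.kk a • b = h.kk a • h.kk b • s₀ := by rw [h.kk_smul hb]
      _ = (h.kk a * h.kk b) • s₀ := by rw [mul_smul]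
      _ = (h.kk b * h.kk a) • s₀ := by rw [h.K_comm (h.kk_K a) (h.kk_K b)]
      _ = h.kk b • h.kk a • s₀ := by rw [mul_smul]
      _ = h.kk b • a := by rw [h.kk_smul ha]
  have hop1 : ∀ b, op s₀ b = b := by
    intro b
    rw [hopc h.ne, h.kk_s₀, one_smul]
  have hassoc : ∀ a b c : A, op (op a b) c = op a (op b c) := by
    intro a b c
    by_cases ha : a = 0
    · rw [ha, hop0, hop0, hop0]
    by_cases hb : b = 0
    · rw [hb, map_zero, hop0, map_zero]
    have hab : op a b ≠ 0 := by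
      rw [hopc ha]
      intro e
      apply hb
      have := congrArg (fun x => (h.kk a)⁻¹ • x) e
      simpa using this
    have hab' : op a b = h.kk a • b := hopc ha b
    rw [hopc hab, hab', hopc hb]
    have e1 : h.kk (h.kk a • b) = h.kk a * h.kk b := by
      have h2 : IsK t (h.kk a * h.kk b) :=
        (h.kk_K _).mul_comm_of (h.kk_K _) (h.K_comm (h.kk_K _) (h.kk_K _))
      have h3 : (h.kk a * h.kk b) • s₀ = h.kk a • b := by
        rw [mul_smul, h.kk_smul hb]
      rw [← h3, h.kk_eq h2]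
    rw [e1, hopc ha, mul_smul]
  have hinv : ∀ a : A, a ≠ 0 → ∃ b, op a b = s₀ := by
    intro a ha
    refine ⟨(h.kk a)⁻¹ • s₀, ?_⟩
    rw [hopc ha, smul_inv_smul]
  let V' := VP t (⊤ : Subgroup D)
  have hsm : ∀ (v : V') (x : A), v • x = (v : D) • x := fun v x => rfl
  have hφ : ∀ (v : V') (x y : A), v • op x y = op (v • x) (v • y) := by
    intro v x y
    have hvV : IsV t (v : D) := (mem_VP.mp v.2).2
    by_cases hx : x = 0
    · rw [hx, hop0, smul_zero, hop0]
    have hvx : (v : D) • x ≠ 0 := by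
      intro e
      apply hx
      have := congrArg (fun z => (v : D)⁻¹ • z) e
      simpa using this
    rw [hsm, hsm, hsm, hopc hvx, hopc hx]
    have h3 : h.kk ((v : D) • x) = (v : D) * h.kk x * (v : D)⁻¹ := by
      have h4 : IsK t ((v : D) * h.kk x * (v : D)⁻¹) := hvV.conj_K (h.kk_K _)
      have h5 : ((v : D) * h.kk x * (v : D)⁻¹) • s₀ = (v : D) • x := by
        rw [mul_smul, mul_smul, h.fix _ hvV.inv, h.kk_smul hx]
      rw [← h5, h.kk_eq h4]
    rw [h3, mul_smul, mul_smul, inv_smul_smul]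
  obtain ⟨v₀, hv₀⟩ := Cfsg.Agent.Lib.HuaFld.exists_gen_of_op s₀ op h.ne hop1 hcomm hassoc hinv h.char2 hφ
  refine ⟨v₀, (mem_VP.mp v₀.2).2, ?_⟩
  intro v hv
  obtain ⟨n, hn⟩ := hv₀ ⟨v, mem_VP.mpr ⟨Subgroup.mem_top v, hv⟩⟩
  refine ⟨n, fun k hk => ?_⟩
  have hw : (((v₀ : D) ^ n)⁻¹ * v) ∈ kerAct D A := by
    intro x
    have h1 := hn x
    have h2 : v • x = ((v₀ : D) ^ n) • x := by
      have h3 : ((v₀ ^ n : V') : D) = (v₀ : D) ^ n := by simp
      rw [← h3]
      exact h1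
    rw [mul_smul, h2, inv_smul_smul]
  exact h.kerAct_comm hw hk

end abstract

variable {G : Type u} {Ω : Type v} [Group G] [Finite G] [MulAction G Ω] {a : Ω} {t : G} {Q : Subgroup G}

/-- Conjugation by `t` on `D`. -/
def tD (hS : Cfsg.IsRankOneSetup G Ω a t Q) : ↥(DD G a t) ≃* ↥(DD G a t) where
  toFun x := ⟨t * x * t, t_conj_D hS x.2⟩
  invFun x := ⟨t * x * t, t_conj_D hS x.2⟩
  left_inv x := Subtype.ext (t_conj_t hS x)
  right_inv x := Subtype.ext (t_conj_t hS x)
  map_mul' x y := Subtype.ext (by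
    change t * ((x : G) * y) * t = (t * x * t) * (t * y * t)
    have h1 := hS.mul_self
    calc t * ((x : G) * y) * t = t * x * 1 * y * t := by group
      _ = t * x * (t * t) * y * t := by rw [h1]
      _ = (t * x * t) * (t * y * t) := by group)

lemma tD_coe (hS : Cfsg.IsRankOneSetup G Ω a t Q) (x : ↥(DD G a t)) : ((tD hS x : ↥(DD G a t)) : G) = t * x * t := rfl

lemma oddInv_tD (hS : Cfsg.IsRankOneSetup G Ω a t Q) : OddInv (tD hS) :=
  ⟨inferInstance, hS.odd_card, fun d => Subtype.ext (t_conj_t hS d)⟩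

lemma isK_iff (hS : Cfsg.IsRankOneSetup G Ω a t Q) {k : ↥(DD G a t)} :
    IsK (tD hS) k ↔ (k : G) ∈ Cfsg.invertedBy (DD G a t) t := by
  rw [inverted_iff hS]
  constructor
  · intro e
    exact ⟨k.2, congrArg Subtype.val e⟩
  · rintro ⟨_, e⟩
    exact Subtype.ext e

lemma isV_iff (hS : Cfsg.IsRankOneSetup G Ω a t Q) {k : ↥(DD G a t)} :
    IsV (tD hS) k ↔ t * (k : G) = k * t := by
  have h1 := hS.mul_self
  constructor
  · intro e
    have e' : t * (k : G) * t = k := congrArg Subtype.val e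
    calc t * (k : G) = t * k * t * t := by
          rw [mul_assoc (t * (k : G)), h1, mul_one]
      _ = k * t := by rw [e']
  · intro e
    apply Subtype.ext
    change t * (k : G) * t = k
    rw [e, mul_assoc, h1, mul_one]

/-- The group of involutions of `G_a`, together with `1`. -/
def AA (hS : Cfsg.IsRankOneSetup G Ω a t Q)
    (h2 : ∃ x y : G, x ≠ 1 ∧ y ≠ 1 ∧ x ≠ y ∧ x * x = 1 ∧ y * y = 1 ∧ x * y = y * x) : Subgroup G where
  carrier := {x | x • a = a ∧ x * x = 1}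
  mul_mem' := by
    rintro x y ⟨hx, hx'⟩ ⟨hy, hy'⟩
    refine ⟨by rw [mul_smul, hy, hx], ?_⟩
    by_cases hx1 : x = 1
    · rw [hx1, one_mul, hy']
    by_cases hy1 : y = 1
    · rw [hy1, mul_one, hx']
    have hc := invol_comm_of_fixed hS h2 hx1 hx' hy1 hy' hx hy
    calc x * y * (x * y) = x * (y * x) * y := by group
      _ = x * (x * y) * y := by rw [hc]
      _ = (x * x) * (y * y) := by group
      _ = 1 := by rw [hx', hy', one_mul]
  one_mem' := ⟨one_smul G a, one_mul 1⟩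
  inv_mem' := by
    rintro x ⟨hx, hx'⟩
    have h1 : x⁻¹ = x := inv_eq_of_mul_eq_one_left hx'
    rw [h1]
    exact ⟨hx, hx'⟩

/-- The commutative group structure on `AA`. -/
@[reducible] def AAcomm (hS : Cfsg.IsRankOneSetup G Ω a t Q)
    (h2 : ∃ x y : G, x ≠ 1 ∧ y ≠ 1 ∧ x ≠ y ∧ x * x = 1 ∧ y * y = 1 ∧ x * y = y * x) : CommGroup (AA hS h2) :=
  { (inferInstance : Group (AA hS h2)) with
    mul_comm := by
      rintro ⟨x, hx, hx'⟩ ⟨y, hy, hy'⟩
      apply Subtype.ext
      change x * y = y * x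
      by_cases hx1 : x = 1
      · rw [hx1, one_mul, mul_one]
      by_cases hy1 : y = 1
      · rw [hy1, one_mul, mul_one]
      exact invol_comm_of_fixed hS h2 hx1 hx' hy1 hy' hx hy }

/-- The configuration attached to a rank one set-up. -/
theorem exists_cfg (hS : Cfsg.IsRankOneSetup G Ω a t Q)
    (h2 : ∃ x y : G, x ≠ 1 ∧ y ≠ 1 ∧ x ≠ y ∧ x * x = 1 ∧ y * y = 1 ∧ x * y = y * x) :
    ∃ (A : Type u) (_ : AddCommGroup A) (_ : Finite A) (_ : DistribMulAction ↥(DD G a t) A) (s₀ : A),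
      Cfg (tD hS) s₀ := by
  classical
  letI := AAcomm hS h2
  have hconj : ∀ (d : ↥(DD G a t)) (x : AA hS h2), (d : G) * x * (d : G)⁻¹ ∈ AA hS h2 := by
    intro d x
    refine ⟨?_, ?_⟩
    · have h1 := D_fix_a hS d.2
      have h3 : (d : G)⁻¹ • a = a := by
        rw [inv_smul_eq_iff, h1]
      rw [mul_smul, mul_smul, h3, x.2.1, h1]
    · have h3 : (x : G) * x = 1 := x.2.2
      calc (d : G) * x * (d : G)⁻¹ * ((d : G) * x * (d : G)⁻¹) = (d : G) * ((x : G) * x) * (d : G)⁻¹ := by group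
        _ = 1 := by rw [h3]; group
  let act : DistribMulAction ↥(DD G a t) (Additive (AA hS h2)) :=
    { smul := fun d x => Additive.ofMul ⟨(d : G) * (Additive.toMul x : AA hS h2) * (d : G)⁻¹, hconj d _⟩
      one_smul := fun x => by
        apply Additive.toMul.injective
        apply Subtype.ext
        change (1 : G) * _ * (1 : G)⁻¹ = _
        simp
      mul_smul := fun x y b => by
        apply Additive.toMul.injective
        apply Subtype.ext
        change ((x : G) * y) * _ * ((x : G) * y)⁻¹ = (x : G) * ((y : G) * _ * (y : G)⁻¹) * (x : G)⁻¹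
        group
      smul_zero := fun d => by
        apply Additive.toMul.injective
        apply Subtype.ext
        change (d : G) * 1 * (d : G)⁻¹ = 1
        simp
      smul_add := fun d x y => by
        apply Additive.toMul.injective
        apply Subtype.ext
        change (d : G) * (((Additive.toMul x : AA hS h2) : G) * ((Additive.toMul y : AA hS h2) : G)) * (d : G)⁻¹ =
          ((d : G) * ((Additive.toMul x : AA hS h2) : G) * (d : G)⁻¹) *
            ((d : G) * ((Additive.toMul y : AA hS h2) : G) * (d : G)⁻¹)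
        group }
  obtain ⟨s, hs, r, hr, hsr⟩ := exists_pair hS
  have hsAA : s ∈ AA hS h2 := ⟨hs.1, hs.2.2⟩
  have hinvol : ∀ x : AA hS h2, (x : G) ≠ 1 → (x : G) ∈ Cfsg.involutionsIn (stabilizer G a : Set G) :=
    fun x hx => ⟨x.2.1, hx, x.2.2⟩
  have hsm : ∀ (d : ↥(DD G a t)) (x : Additive (AA hS h2)),
      (((Additive.toMul (act.toSMul.smul d x) : AA hS h2)) : G) = (d : G) * (Additive.toMul x : AA hS h2) * (d : G)⁻¹ :=
    fun d x => rfl
  refine ⟨Additive (AA hS h2), inferInstance, inferInstance, act, Additive.ofMul ⟨s, hsAA⟩, ?_⟩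
  refine
    { inv := oddInv_tD hS
      char2 := ?_
      ne := ?_
      fix := ?_
      reg := ?_
      uniq := ?_ }
  · intro x
    apply Additive.toMul.injective
    apply Subtype.ext
    exact (Additive.toMul x : AA hS h2).2.2
  · intro e
    have h1 : s = 1 := congrArg (fun z : Additive (AA hS h2) => ((Additive.toMul z : AA hS h2) : G)) e
    exact hs.2.1 h1
  · intro v hv
    apply Additive.toMul.injective
    apply Subtype.ext
    change (v : G) * s * (v : G)⁻¹ = s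
    have h1 := comm_s_of_comm_t hS hs hr hsr v.2 ((isV_iff hS).mp hv)
    rw [h1, mul_inv_cancel_right]
  · intro x hx
    have hx1 : ((Additive.toMul x : AA hS h2) : G) ≠ 1 := by
      intro e
      apply hx
      apply Additive.toMul.injective
      exact Subtype.ext e
    obtain ⟨k, hk, hke⟩ := inverted_trans hS hs (hinvol _ hx1)
    have hkD := inverted_mem hS hk
    have hkinv : (⟨k, hkD⟩ : ↥(DD G a t))⁻¹ = ⟨k⁻¹, (DD G a t).inv_mem hkD⟩ := rfl
    refine ⟨⟨k⁻¹, (DD G a t).inv_mem hkD⟩, ?_, ?_⟩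
    · rw [← hkinv]
      exact IsK.inv ((isK_iff hS).mpr hk)
    · apply Additive.toMul.injective
      apply Subtype.ext
      change k⁻¹ * s * k⁻¹⁻¹ = _
      rw [inv_inv]
      exact hke
  · intro k l hk hl e
    have e1 : (k : G) * s * (k : G)⁻¹ = (l : G) * s * (l : G)⁻¹ :=
      congrArg (fun z : Additive (AA hS h2) => ((Additive.toMul z : AA hS h2) : G)) e
    have hk' := (isK_iff hS).mp hk
    have hl' := (isK_iff hS).mp hl
    have hk'' := (isK_iff hS).mp (IsK.inv hk)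
    have hl'' := (isK_iff hS).mp (IsK.inv hl)
    have e2 := inverted_inj hS hs hk'' hl'' (by
      simp only [InvMemClass.coe_inv, inv_inv]
      exact e1)
    have e3 : (k : G)⁻¹ = (l : G)⁻¹ := e2
    exact Subtype.ext (inv_injective e3)

/-- **Inverted elements commute in the rank one set-up.** -/
theorem inverted_commute (hS : Cfsg.IsRankOneSetup G Ω a t Q)
    (h2 : ∃ x y : G, x ≠ 1 ∧ y ≠ 1 ∧ x ≠ y ∧ x * x = 1 ∧ y * y = 1 ∧ x * y = y * x) {k l : G}
    (hk : k ∈ Cfsg.invertedBy (DD G a t) t) (hl : l ∈ Cfsg.invertedBy (DD G a t) t) : k * l = l * k := by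
  obtain ⟨A, _, _, _, s₀, hc⟩ := exists_cfg hS h2
  have hkD := inverted_mem hS hk
  have hlD := inverted_mem hS hl
  have := hc.K_comm (k := ⟨k, hkD⟩) (l := ⟨l, hlD⟩) ((isK_iff hS).mpr hk) ((isK_iff hS).mpr hl)
  exact congrArg Subtype.val this

/-- The subgroup of inverted elements. -/
def KK (hS : Cfsg.IsRankOneSetup G Ω a t Q)
    (h2 : ∃ x y : G, x ≠ 1 ∧ y ≠ 1 ∧ x ≠ y ∧ x * x = 1 ∧ y * y = 1 ∧ x * y = y * x) : Subgroup G where
  carrier := Cfsg.invertedBy (DD G a t) t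
  mul_mem' := by
    intro x y hx hy
    have hxD := inverted_mem hS hx
    have hyD := inverted_mem hS hy
    have h1 := inverted_t_eq hS hx
    have h3 := inverted_t_eq hS hy
    refine (inverted_iff hS).mpr ⟨(DD G a t).mul_mem hxD hyD, ?_⟩
    have htt := hS.mul_self
    calc t * (x * y) * t = t * x * 1 * y * t := by group
      _ = t * x * (t * t) * y * t := by rw [htt]
      _ = (t * x * t) * (t * y * t) := by group
      _ = x⁻¹ * y⁻¹ := by rw [h1, h3]
      _ = (y * x)⁻¹ := by group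
      _ = (x * y)⁻¹ := by rw [inverted_commute hS h2 hy hx]
  one_mem' := by
    refine (inverted_iff hS).mpr ⟨(DD G a t).one_mem, ?_⟩
    rw [mul_one, hS.mul_self, inv_one]
  inv_mem' := by
    intro x hx
    have h1 := inverted_t_eq hS hx
    refine (inverted_iff hS).mpr ⟨(DD G a t).inv_mem (inverted_mem hS hx), ?_⟩
    have htt := hS.mul_self
    have h3 : t * x⁻¹ * t = (t * x * t)⁻¹ := by
      have ht : t⁻¹ = t := inv_eq_of_mul_eq_one_left htt
      calc t * x⁻¹ * t = t⁻¹ * x⁻¹ * t⁻¹ := by rw [ht]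
        _ = (t * x * t)⁻¹ := by group
    rw [h3, h1]

lemma mem_KK (hS : Cfsg.IsRankOneSetup G Ω a t Q)
    (h2 : ∃ x y : G, x ≠ 1 ∧ y ≠ 1 ∧ x ≠ y ∧ x * x = 1 ∧ y * y = 1 ∧ x * y = y * x) {x : G} :
    x ∈ KK hS h2 ↔ x ∈ Cfsg.invertedBy (DD G a t) t := Iff.rfl

theorem isCyclic_KK (hS : Cfsg.IsRankOneSetup G Ω a t Q)
    (h2 : ∃ x y : G, x ≠ 1 ∧ y ≠ 1 ∧ x ≠ y ∧ x * x = 1 ∧ y * y = 1 ∧ x * y = y * x) : IsCyclic (KK hS h2) := by
  obtain ⟨A, _, _, _, s₀, hc⟩ := exists_cfg hS h2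
  let J : Subgroup ↥(DD G a t) := (KK hS h2).subgroupOf (DD G a t)
  haveI hJ : IsCyclic J := hc.isCyclic_K J (fun j hj => (isK_iff hS).mpr hj)
  let f : KK hS h2 →* J :=
    { toFun := fun x => ⟨⟨x, inverted_mem hS x.2⟩, x.2⟩
      map_one' := rfl
      map_mul' := fun _ _ => rfl }
  apply isCyclic_of_injective f
  intro x y e
  apply Subtype.ext
  have := congrArg (fun z : J => ((z : ↥(DD G a t)) : G)) e
  exact this

theorem KK_conj (hS : Cfsg.IsRankOneSetup G Ω a t Q)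
    (h2 : ∃ x y : G, x ≠ 1 ∧ y ≠ 1 ∧ x ≠ y ∧ x * x = 1 ∧ y * y = 1 ∧ x * y = y * x) {d c : G}
    (hd : d ∈ DD G a t) (hc : c ∈ KK hS h2) : d * c * d⁻¹ ∈ KK hS h2 := by
  obtain ⟨v, hv, k, hk, hvt, rfl⟩ := D_decomp hS hd
  have hkc := inverted_commute hS h2 hk hc
  have e : v * k * c * (v * k)⁻¹ = v * c * v⁻¹ := by
    calc v * k * c * (v * k)⁻¹ = v * (k * c) * (k⁻¹ * v⁻¹) := by group
      _ = v * (c * k) * (k⁻¹ * v⁻¹) := by rw [hkc]
      _ = v * c * v⁻¹ := by group
  rw [e]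
  refine (inverted_iff hS).mpr ⟨(DD G a t).mul_mem ((DD G a t).mul_mem hv (inverted_mem hS hc))
    ((DD G a t).inv_mem hv), ?_⟩
  have h1 := inverted_t_eq hS hc
  have hvt' : v⁻¹ * t = t * v⁻¹ := by
    have : Commute t v := hvt
    exact (this.inv_right.eq).symm
  have hts : t * v = v * t := hvt
  have htt := hS.mul_self
  calc t * (v * c * v⁻¹) * t = (t * v) * c * (v⁻¹ * t) := by group
    _ = (v * t) * c * (t * v⁻¹) := by rw [hts, hvt']
    _ = v * (t * c * t) * v⁻¹ := by group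
    _ = v * c⁻¹ * v⁻¹ := by rw [h1]
    _ = (v * c * v⁻¹)⁻¹ := by group

/-- `V` modulo the centraliser of `K` is cyclic. -/
theorem exists_gen_V (hS : Cfsg.IsRankOneSetup G Ω a t Q)
    (h2 : ∃ x y : G, x ≠ 1 ∧ y ≠ 1 ∧ x ≠ y ∧ x * x = 1 ∧ y * y = 1 ∧ x * y = y * x) :
    ∃ v₀ ∈ DD G a t, t * v₀ = v₀ * t ∧ ∀ v ∈ DD G a t, t * v = v * t → ∃ n : ℤ,
      ∀ k ∈ Cfsg.invertedBy (DD G a t) t, ((v₀ ^ n)⁻¹ * v) * k = k * ((v₀ ^ n)⁻¹ * v) := by
  obtain ⟨A, _, _, _, s₀, hc⟩ := exists_cfg hS h2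
  obtain ⟨v₀, hv₀, hgen⟩ := hc.exists_V_gen
  refine ⟨v₀, v₀.2, (isV_iff hS).mp hv₀, ?_⟩
  intro v hv hvt
  obtain ⟨n, hn⟩ := hgen ⟨v, hv⟩ ((isV_iff hS).mpr hvt)
  refine ⟨n, fun k hk => ?_⟩
  have := hn ⟨k, inverted_mem hS hk⟩ ((isK_iff hS).mpr hk)
  have e := congrArg Subtype.val this
  simpa using e

end Cfsg.Agent.Lib.HuaR
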