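import Mathlib
import Cfsg.Agent.Lib.HuaR

/-!
# Sylow `2`-subgroups of `Q` in the rank one set-up
-/

set_option autoImplicit false
set_option linter.unusedSectionVars false
set_option linter.unusedVariables false
set_option linter.style.haveILetI false
set_option linter.unusedSimpArgs false

namespace Cfsg.Agent.Lib.HuaS

open MulAction Cfsg.Agent.Lib.RankOne Cfsg.Agent.Lib.RankOne2 Cfsg.Agent.Lib.RankOne3 Cfsg.Agent.Lib.RankOne4
  Cfsg.Agent.Lib.HuaR

theorem sylow_case {G Ω : Type*} [Group G] [Finite G] [MulAction G Ω] {a : Ω} {t : G} {Q : Subgroup G}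
    (hS : Cfsg.IsRankOneSetup G Ω a t Q)
    (h2 : ∃ x y : G, x ≠ 1 ∧ y ≠ 1 ∧ x ≠ y ∧ x * x = 1 ∧ y * y = 1 ∧ x * y = y * x)
    (S : Sylow 2 ↥Q) : IsMulCommutative (S : Subgroup ↥Q) ∨ Cfsg.IsSuzukiTwoGroup ↥(S : Subgroup ↥Q) := by
  classical
  haveI hQn : Group.IsNilpotent Q := Q_nilpotent hS h2
  have hSn : (S : Subgroup Q).Normal := by
    have hnc := normalizerCondition_of_isNilpotent (G := Q)
    exact Sylow.normal_of_normalizerCondition hnc S
  haveI hsub : Subsingleton (Sylow 2 Q) := (Sylow.unique_of_normal S hSn).instSubsingleton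
  -- elements of `S` are the `2`-elements of `Q`
  have hmemS : ∀ x : Q, (∃ n : ℕ, x ^ (2 ^ n) = 1) → x ∈ (S : Subgroup Q) := by
    rintro x ⟨n, hn⟩
    have hp : IsPGroup 2 (Subgroup.zpowers x) := by
      intro y
      refine ⟨n, ?_⟩
      apply Subtype.ext
      obtain ⟨i, hi⟩ := Subgroup.mem_zpowers_iff.mp y.2
      change (y : Q) ^ (2 ^ n) = 1
      rw [← hi, ← zpow_natCast, ← zpow_mul, mul_comm, zpow_mul, zpow_natCast, hn, one_zpow]
    obtain ⟨P, hP⟩ := hp.exists_le_sylow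
    rw [Subsingleton.elim S P]
    exact hP (Subgroup.mem_zpowers x)
  have hSp : IsPGroup 2 (S : Subgroup Q) := S.isPGroup'
  have hmemS' : ∀ x : (S : Subgroup Q), ∃ n : ℕ, (x : Q) ^ (2 ^ n) = 1 := by
    intro x
    obtain ⟨n, hn⟩ := hSp x
    exact ⟨n, congrArg Subtype.val hn⟩
  -- involutions of `G_a` lie in `S`
  have hinvS : ∀ {s : G} (hs : s ∈ Cfsg.involutionsIn (MulAction.stabilizer G a : Set G)),
      (⟨s, invol_mem_Q hS hs.1 hs.2.2⟩ : Q) ∈ (S : Subgroup Q) := by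
    intro s hs
    apply hmemS
    refine ⟨1, ?_⟩
    apply Subtype.ext
    change s ^ (2 ^ 1) = 1
    rw [pow_one, sq]
    exact hs.2.2
  by_cases hab : ∀ x y : (S : Subgroup Q), x * y = y * x
  · left
    exact ⟨⟨hab⟩⟩
  right
  push Not at hab
  obtain ⟨x₀, y₀, hxy⟩ := hab
  obtain ⟨s, hs, s', hs', hss⟩ := exists_two_invol hS h2
  -- conjugation on `S`
  have hDstab : ∀ {c : G}, c ∈ DD G a t → c ∈ MulAction.stabilizer G a := fun hc => hc.1
  have hQc : ∀ {c : G}, c ∈ DD G a t → ∀ x : Q, c * (x : G) * c⁻¹ ∈ Q :=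
    fun {c} hc x => hS.conj_mem c (hDstab hc) x x.2
  have hSc : ∀ {c : G} (hc : c ∈ DD G a t) (x : (S : Subgroup Q)),
      (⟨c * ((x : Q) : G) * c⁻¹, hQc hc x⟩ : Q) ∈ (S : Subgroup Q) := by
    intro c hc x
    apply hmemS
    obtain ⟨n, hn⟩ := hmemS' x
    refine ⟨n, ?_⟩
    apply Subtype.ext
    change (c * ((x : Q) : G) * c⁻¹) ^ (2 ^ n) = 1
    rw [conj_pow]
    have : (((x : Q) : G)) ^ (2 ^ n) = 1 := congrArg Subtype.val hn
    rw [this, mul_one, mul_inv_cancel]
  let KK' := KK hS h2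
  have hKD : ∀ c : KK', (c : G) ∈ DD G a t := fun c => inverted_mem hS c.2
  let autOf : KK' → MulAut (S : Subgroup Q) := fun c =>
    { toFun := fun x => ⟨⟨(c : G) * ((x : Q) : G) * (c : G)⁻¹, hQc (hKD c) x⟩, hSc (hKD c) x⟩
      invFun := fun x => ⟨⟨(c : G)⁻¹ * ((x : Q) : G) * (c : G)⁻¹⁻¹, hQc ((DD G a t).inv_mem (hKD c)) x⟩,
        hSc ((DD G a t).inv_mem (hKD c)) x⟩
      left_inv := fun x => by
        apply Subtype.ext
        apply Subtype.ext
        change (c : G)⁻¹ * ((c : G) * ((x : Q) : G) * (c : G)⁻¹) * (c : G)⁻¹⁻¹ = _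
        group
      right_inv := fun x => by
        apply Subtype.ext
        apply Subtype.ext
        change (c : G) * ((c : G)⁻¹ * ((x : Q) : G) * (c : G)⁻¹⁻¹) * (c : G)⁻¹ = _
        group
      map_mul' := fun x y => by
        apply Subtype.ext
        apply Subtype.ext
        change (c : G) * (((x : Q) : G) * ((y : Q) : G)) * (c : G)⁻¹ =
          ((c : G) * ((x : Q) : G) * (c : G)⁻¹) * ((c : G) * ((y : Q) : G) * (c : G)⁻¹)
        group }
  have hautOf : ∀ (c : KK') (x : (S : Subgroup Q)), (((autOf c x : (S : Subgroup Q)) : Q) : G) =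
      (c : G) * ((x : Q) : G) * (c : G)⁻¹ := fun c x => rfl
  let φ : KK' →* MulAut (S : Subgroup Q) :=
    { toFun := autOf
      map_one' := by
        apply MulEquiv.ext
        intro x
        apply Subtype.ext
        apply Subtype.ext
        have e1 : (1 : G) * ((x : Q) : G) * (1 : G)⁻¹ = ((x : Q) : G) := by group
        exact e1
      map_mul' := fun c d => by
        apply MulEquiv.ext
        intro x
        apply Subtype.ext
        apply Subtype.ext
        change ((c : G) * d) * ((x : Q) : G) * ((c : G) * d)⁻¹ = (c : G) * ((d : G) * ((x : Q) : G) * (d : G)⁻¹) * (c : G)⁻¹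
        group }
  haveI hKcyc : IsCyclic KK' := isCyclic_KK hS h2
  have hinvol : ∀ {x : (S : Subgroup Q)}, x ≠ 1 → x * x = 1 →
      ((x : Q) : G) ∈ Cfsg.involutionsIn (MulAction.stabilizer G a : Set G) := by
    intro x hx1 hx2
    refine ⟨hS.le (x : Q).2, ?_, ?_⟩
    · intro e
      exact hx1 (Subtype.ext (Subtype.ext e))
    · have := congrArg (fun z : (S : Subgroup Q) => ((z : Q) : G)) hx2
      exact this
  refine ⟨inferInstance, hSp, ⟨x₀, y₀, hxy⟩, ⟨⟨⟨s, invol_mem_Q hS hs.1 hs.2.2⟩, hinvS hs⟩,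
    ⟨⟨s', invol_mem_Q hS hs'.1 hs'.2.2⟩, hinvS hs'⟩, ?_, ?_, ?_, ?_, ?_⟩, φ.range, isCyclic_of_surjective φ.rangeRestrict φ.rangeRestrict_surjective, ?_⟩
  · intro e
    exact hss (congrArg (fun z : (S : Subgroup Q) => ((z : Q) : G)) e)
  · intro e
    exact hs.2.1 (congrArg (fun z : (S : Subgroup Q) => ((z : Q) : G)) e)
  · apply Subtype.ext
    apply Subtype.ext
    exact hs.2.2
  · intro e
    exact hs'.2.1 (congrArg (fun z : (S : Subgroup Q) => ((z : Q) : G)) e)
  · apply Subtype.ext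
    apply Subtype.ext
    exact hs'.2.2
  · intro x y hx1 hx2 hy1 hy2
    have hx := hinvol hx1 hx2
    have hy := hinvol hy1 hy2
    obtain ⟨k, hk, hke⟩ := inverted_trans hS hx hy
    let c : KK' := ⟨k, hk⟩⁻¹
    have hc : (c : G) = k⁻¹ := rfl
    refine ⟨⟨φ c, c, rfl⟩, ?_, ?_⟩
    · apply Subtype.ext
      apply Subtype.ext
      change (c : G) * ((x : Q) : G) * (c : G)⁻¹ = _
      rw [hc, inv_inv]
      exact hke
    · rintro ⟨_, d, rfl⟩ hd
      apply Subtype.ext
      have h1 : (d : G) * ((x : Q) : G) * (d : G)⁻¹ = ((y : Q) : G) :=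
        congrArg (fun z : (S : Subgroup Q) => ((z : Q) : G)) hd
      have h3 : (c : G) * ((x : Q) : G) * (c : G)⁻¹ = ((y : Q) : G) := by
        rw [hc, inv_inv]
        exact hke
      have hd' : (d : G)⁻¹ ∈ Cfsg.invertedBy (DD G a t) t := (KK').inv_mem d.2
      have hc' : (c : G)⁻¹ ∈ Cfsg.invertedBy (DD G a t) t := (KK').inv_mem c.2
      have h4 := inverted_inj hS hx hd' hc' (by
        rw [inv_inv, inv_inv, h1, h3])
      have h5 : d = c := Subtype.ext (inv_injective h4)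
      rw [h5]

end Cfsg.Agent.Lib.HuaS
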