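import Mathlib
import Cfsg.Agent.Lib.Extra3C19

/-!
# The extraspecial group of order `2 ^ 13` from six hyperbolic pairs
-/

set_option autoImplicit false
set_option maxRecDepth 1000000
set_option linter.all false

namespace Cfsg.Agent.Lib.HyperExtra57

open Cfsg.Agent.Lib.Extra3C19

/-- A commutative group of exponent two generated by an `ι`-indexed family has at most `2 ^ |ι|` elements. -/
theorem card_le_of_gen {H : Type*} [Group H] (hcomm : ∀ x y : H, x * y = y * x) {ι : Type*} [Fintype ι]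
    (g : ι → H) (hg : ∀ i, g i * g i = 1) (hgen : Subgroup.closure (Set.range g) = ⊤) :
    Nat.card H ≤ 2 ^ Fintype.card ι := by
  classical
  letI : CommGroup H := { ‹Group H› with mul_comm := hcomm }
  let w : (ι → Bool) → H := fun x => ∏ i, (if x i then g i else 1)
  have hw : Function.Surjective w := by
    intro y
    have hy : y ∈ Subgroup.closure (Set.range g) := by rw [hgen]; trivial
    obtain ⟨n, rfl⟩ := Subgroup.exists_of_mem_closure_range g y hy
    refine ⟨fun i => decide (Odd (n i)), ?_⟩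
    refine Finset.prod_congr rfl fun i _ => ?_
    have h2 : g i ^ (2 : ℤ) = 1 := by
      rw [zpow_two]; exact hg i
    show (if decide (Odd (n i)) = true then g i else 1) = g i ^ n i
    by_cases ho : Odd (n i)
    · obtain ⟨m, hm⟩ := id ho
      rw [if_pos (by simpa using ho), hm, zpow_add, zpow_mul, h2]
      simp
    · have he : Even (n i) := Int.not_odd_iff_even.mp ho
      obtain ⟨m, hm⟩ := he
      rw [if_neg (by simpa using ho), hm, ← two_mul, zpow_mul, h2]
      simp
  calc Nat.card H ≤ Nat.card (ι → Bool) := Nat.card_le_card_of_surjective w hw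
    _ = 2 ^ Fintype.card ι := by simp

theorem generic_aux {Γ : Type*} [Group Γ] [Finite Γ] {ι : Type*} [Fintype ι] [DecidableEq ι] (z : Γ) (hz2 : z * z = 1)
    (hz1 : z ≠ 1) (g : ι → Γ) (σ : ι → ι) (hgz : ∀ i, g i * z = z * g i) (hgg : ∀ i, g i * g i = 1)
    (hc : ∀ i j, g i * g j = g j * g i ∨ g i * g j = z * (g j * g i))
    (hd1 : ∀ i, g (σ i) * g i = z * (g i * g (σ i)))
    (hd2 : ∀ i j, i ≠ j → g (σ i) * g j = g j * g (σ i))
    (T : Set Γ) (hT : T = Set.range g ∪ {z}) (Q : Subgroup Γ) (hQ : Subgroup.closure T = Q) :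
    Nat.card Q = 2 * 2 ^ Fintype.card ι ∧
      ∀ x ∈ Q, (∀ i, x * g i = g i * x) → x ∈ Subgroup.zpowers z := by
  classical
  have hzT0 : z ∈ T := by rw [hT]; exact Or.inr rfl
  have hgT : ∀ i, g i ∈ T := fun i => by rw [hT]; exact Or.inl ⟨i, rfl⟩
  have hTQ : ∀ t ∈ T, t ∈ Q := fun t ht => hQ ▸ Subgroup.subset_closure ht
  have hzQ : z ∈ Q := hTQ z hzT0
  have hgQ : ∀ i, g i ∈ Q := fun i => hTQ _ (hgT i)
  have hozz : orderOf z = 2 := orderOf_eq_prime (by rw [pow_two, hz2]) hz1
  have hcardZ : Nat.card (Subgroup.zpowers z) = 2 := by rw [Nat.card_zpowers, hozz]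
  have memZ : ∀ w, w ∈ Subgroup.zpowers z ↔ w = 1 ∨ w = z := by
    intro w
    have h2 : z ^ (2 : ℤ) = 1 := by rw [zpow_two]; exact hz2
    constructor
    · rintro ⟨k, rfl⟩
      obtain ⟨m, rfl | rfl⟩ := Int.even_or_odd' k
      · left; show z ^ (2 * m) = 1; rw [zpow_mul, h2, one_zpow]
      · right; show z ^ (2 * m + 1) = z; rw [zpow_add, zpow_mul, h2, one_zpow, one_mul, zpow_one]
    · rintro (rfl | rfl)
      · exact one_mem _
      · exact Subgroup.mem_zpowers _
  have hzT : ∀ t ∈ T, z * t = t * z := by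
    intro t ht
    rw [hT] at ht
    rcases ht with ⟨i, rfl⟩ | rfl
    · exact (hgz i).symm
    · rfl
  have hzc : ∀ y ∈ Q, z * y = y * z := by
    intro y hy
    rw [← hQ] at hy
    induction hy using Subgroup.closure_induction with
    | mem y hy => exact hzT y hy
    | one => simp
    | mul u v _ _ iu iv => rw [← mul_assoc, iu, mul_assoc, iv, mul_assoc]
    | inv u _ iu =>
      have : z * u⁻¹ = u⁻¹ * (u * z) * u⁻¹ := by group
      rw [this, ← iu]
      group
  have hcen : ∀ w ∈ Subgroup.zpowers z, ∀ y ∈ Q, y * w * y⁻¹ = w := by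
    intro w hw y hy
    rcases (memZ w).1 hw with rfl | rfl
    · simp
    · rw [← hzc y hy]; group
  have hcT : ∀ u ∈ T, ∀ v ∈ T, u * v * u⁻¹ * v⁻¹ ∈ Subgroup.zpowers z := by
    intro u hu v hv
    rw [hT] at hu hv
    rcases hu with ⟨i, rfl⟩ | rfl
    · rcases hv with ⟨j, rfl⟩ | rfl
      · rcases hc i j with h | h
        · rw [h]; refine (memZ _).2 (Or.inl ?_); group
        · rw [h]; refine (memZ _).2 (Or.inr ?_); group
      · rw [hgz i]; refine (memZ _).2 (Or.inl ?_); group
    · rcases hv with ⟨j, rfl⟩ | rfl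
      · rw [← hgz j]; refine (memZ _).2 (Or.inl ?_); group
      · refine (memZ _).2 (Or.inl ?_); group
  have hcomm : ∀ x ∈ Q, ∀ y ∈ Q, x * y * x⁻¹ * y⁻¹ ∈ Subgroup.zpowers z :=
    fun x hx y hy => comm_step2 hQ hcen hcT hx hy
  have hsq : ∀ x ∈ Q, x * x ∈ Subgroup.zpowers z := by
    intro x hx
    have hxQ := hx
    rw [← hQ] at hx
    induction hx using Subgroup.closure_induction with
    | mem y hy =>
      rw [hT] at hy
      rcases hy with ⟨i, rfl⟩ | rfl
      · rw [hgg]; exact one_mem _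
      · rw [hz2]; exact one_mem _
    | one => simp
    | mul u v hu hv iu iv =>
      have hu' : u ∈ Q := hQ ▸ hu
      have hv' : v ∈ Q := hQ ▸ hv
      have e : (u * v) * (u * v) = (u * u) * (u⁻¹ * v * u⁻¹⁻¹ * v⁻¹) * (v * v) := by group
      rw [e]
      exact mul_mem (mul_mem (iu hu') (hcomm _ (inv_mem hu') _ hv')) (iv hv')
    | inv u hu iu =>
      have hu' : u ∈ Q := hQ ▸ hu
      have e : u⁻¹ * u⁻¹ = (u * u)⁻¹ := by group
      rw [e]
      exact inv_mem (iu hu')
  -- the quotient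
  let N : Subgroup Q := (Subgroup.zpowers z).subgroupOf Q
  have hNmem : ∀ x : Q, x ∈ N ↔ (x : Γ) ∈ Subgroup.zpowers z := fun x => Subgroup.mem_subgroupOf
  haveI hNn : N.Normal := by
    constructor
    intro n hn x
    rw [hNmem] at hn ⊢
    have : ((x * n * x⁻¹ : Q) : Γ) = (n : Γ) := by
      push_cast
      exact hcen _ hn _ x.2
    rw [this]; exact hn
  have hcardN : Nat.card N = 2 := by
    have hle : Subgroup.zpowers z ≤ Q := by
      rw [Subgroup.zpowers_le]; exact hzQ
    rw [← hcardZ]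
    exact Nat.card_congr (Subgroup.subgroupOfEquivOfLe hle).toEquiv
  have hHcomm : ∀ x y : Q ⧸ N, x * y = y * x := by
    intro x y
    induction x using QuotientGroup.induction_on with
    | H x =>
      induction y using QuotientGroup.induction_on with
      | H y =>
        rw [← QuotientGroup.mk_mul, ← QuotientGroup.mk_mul, QuotientGroup.eq, hNmem]
        have e : (((x * y)⁻¹ * (y * x) : Q) : Γ) = (y : Γ)⁻¹ * (x : Γ)⁻¹ * (y : Γ)⁻¹⁻¹ * (x : Γ)⁻¹⁻¹ := by
          push_cast
          group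
        rw [e]
        exact hcomm _ (inv_mem y.2) _ (inv_mem x.2)
  let gb : ι → Q ⧸ N := fun i => ((⟨g i, hgQ i⟩ : Q) : Q ⧸ N)
  have hgb2 : ∀ i, gb i * gb i = 1 := by
    intro i
    show ((⟨g i, hgQ i⟩ : Q) : Q ⧸ N) * ((⟨g i, hgQ i⟩ : Q) : Q ⧸ N) = 1
    rw [← QuotientGroup.mk_mul, QuotientGroup.eq_one_iff, hNmem]
    show g i * g i ∈ _
    rw [hgg]; exact one_mem _
  have hgbgen : Subgroup.closure (Set.range gb) = ⊤ := by
    rw [eq_top_iff]
    rintro x -
    induction x using QuotientGroup.induction_on with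
    | H x =>
      obtain ⟨x, hx⟩ := x
      have hx' := hx
      rw [← hQ] at hx'
      induction hx' using Subgroup.closure_induction with
      | mem y hy =>
        rw [hT] at hy
        rcases hy with ⟨i, rfl⟩ | rfl
        · exact Subgroup.subset_closure ⟨i, rfl⟩
        · have : ((⟨y, hx⟩ : Q) : Q ⧸ N) = 1 := by
            rw [QuotientGroup.eq_one_iff, hNmem]
            exact Subgroup.mem_zpowers _
          rw [this]; exact one_mem _
      | one =>
        have : ((⟨1, hx⟩ : Q) : Q ⧸ N) = 1 := by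
          rw [QuotientGroup.eq_one_iff]; exact one_mem _
        rw [this]; exact one_mem _
      | mul u v hu hv iu iv =>
        have hu' : u ∈ Q := hQ ▸ hu
        have hv' : v ∈ Q := hQ ▸ hv
        have : ((⟨u * v, hx⟩ : Q) : Q ⧸ N) = ((⟨u, hu'⟩ : Q) : Q ⧸ N) * ((⟨v, hv'⟩ : Q) : Q ⧸ N) := rfl
        rw [this]
        exact mul_mem (iu hu') (iv hv')
      | inv u hu iu =>
        have hu' : u ∈ Q := hQ ▸ hu
        have : ((⟨u⁻¹, hx⟩ : Q) : Q ⧸ N) = ((⟨u, hu'⟩ : Q) : Q ⧸ N)⁻¹ := rfl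
        rw [this]
        exact inv_mem (iu hu')
  have hHle : Nat.card (Q ⧸ N) ≤ 2 ^ Fintype.card ι := card_le_of_gen hHcomm gb hgb2 hgbgen
  have hQle : Nat.card Q ≤ 2 * 2 ^ Fintype.card ι := by
    rw [Subgroup.card_eq_card_quotient_mul_card_subgroup N, hcardN, mul_comm]
    exact Nat.mul_le_mul_left 2 hHle
  -- the commutator characters
  let c : ι → (Q →* Subgroup.zpowers z) := fun i =>
    MonoidHom.mk' (fun x => ⟨(x : Γ) * g i * (x : Γ)⁻¹ * (g i)⁻¹, hcomm _ x.2 _ (hgQ i)⟩) (by
      intro x y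
      apply Subtype.ext
      show ((x * y : Q) : Γ) * g i * ((x * y : Q) : Γ)⁻¹ * (g i)⁻¹
        = ((x : Γ) * g i * (x : Γ)⁻¹ * (g i)⁻¹) * ((y : Γ) * g i * (y : Γ)⁻¹ * (g i)⁻¹)
      have h1 := hcen _ (hcomm _ y.2 _ (hgQ i)) _ x.2
      have e : ((x * y : Q) : Γ) * g i * ((x * y : Q) : Γ)⁻¹ * (g i)⁻¹
          = ((x : Γ) * ((y : Γ) * g i * (y : Γ)⁻¹ * (g i)⁻¹) * (x : Γ)⁻¹) * ((x : Γ) * g i * (x : Γ)⁻¹ * (g i)⁻¹) := by
        push_cast; group
      rw [e, h1]
      have h2 := hzc
      -- central elements commute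
      have hm := hcomm _ x.2 _ (hgQ i)
      rcases (memZ _).1 hm with h | h
      · rw [h]; simp
      · rw [h]
        have hm2 := hcomm _ y.2 _ (hgQ i)
        exact (hzc _ (by
          exact mul_mem (mul_mem (mul_mem y.2 (hgQ i)) (inv_mem y.2)) (inv_mem (hgQ i)))).symm)
  have hcv : ∀ i (x : Q), ((c i x : Subgroup.zpowers z) : Γ) = (x : Γ) * g i * (x : Γ)⁻¹ * (g i)⁻¹ := fun i x => rfl
  let Φ : Q →* (ι → Subgroup.zpowers z) := Pi.monoidHom c
  have hΦsurj : Function.Surjective Φ := by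
    intro f
    have key : ∀ s : Finset ι, ∃ x : Q, ∀ i, Φ x i = if i ∈ s then f i else 1 := by
      intro s
      induction s using Finset.induction_on with
      | empty => exact ⟨1, fun i => by simp⟩
      | insert a s ha ih =>
        obtain ⟨x, hx⟩ := ih
        have hfa : (f a : Γ) = 1 ∨ (f a : Γ) = z := (memZ _).1 (f a).2
        rcases hfa with h1 | h1
        · refine ⟨x, fun i => ?_⟩
          rw [hx i]
          by_cases hia : i = a
          · subst hia
            simp [ha]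
            exact Subtype.ext h1.symm
          · simp [hia]
        · refine ⟨x * ⟨g (σ a), hgQ _⟩, fun i => ?_⟩
          rw [map_mul, Pi.mul_apply, hx i]
          by_cases hia : i = a
          · subst hia
            simp only [ha, if_false, Finset.mem_insert, true_or, if_true, one_mul]
            apply Subtype.ext
            show (g (σ i)) * g i * (g (σ i))⁻¹ * (g i)⁻¹ = (f i : Γ)
            rw [h1, hd1]; group
          · have h3 : Φ ⟨g (σ a), hgQ _⟩ i = 1 := by
              apply Subtype.ext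
              show (g (σ a)) * g i * (g (σ a))⁻¹ * (g i)⁻¹ = 1
              rw [hd2 a i (Ne.symm hia)]; group
            rw [h3, mul_one]
            simp [hia]
    obtain ⟨x, hx⟩ := key Finset.univ
    exact ⟨x, funext fun i => by rw [hx i]; simp⟩
  have hcardV : Nat.card (ι → Subgroup.zpowers z) = 2 ^ Fintype.card ι := by
    rw [Nat.card_fun, hcardZ, Nat.card_eq_fintype_card]
  have hrange : Nat.card Φ.range = 2 ^ Fintype.card ι := by
    rw [MonoidHom.range_eq_top.mpr hΦsurj, Subgroup.card_top, hcardV]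
  have hQeq : Nat.card Φ.ker * 2 ^ Fintype.card ι = Nat.card Q := by
    rw [← hrange, ← Subgroup.index_ker, Subgroup.card_mul_index]
  have hNker : N ≤ Φ.ker := by
    intro x hx
    rw [MonoidHom.mem_ker]
    funext i
    apply Subtype.ext
    show (x : Γ) * g i * (x : Γ)⁻¹ * (g i)⁻¹ = 1
    have : (x : Γ) * g i * (x : Γ)⁻¹ = g i := by
      rcases (memZ _).1 ((hNmem x).1 hx) with h | h
      · rw [h]; group
      · rw [h, ← hgz]; group
    rw [this]; group
  have h2pos : 0 < 2 ^ Fintype.card ι := by positivity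
  have hkerle : Nat.card Φ.ker ≤ 2 := by
    have : Nat.card Φ.ker * 2 ^ Fintype.card ι ≤ 2 * 2 ^ Fintype.card ι := hQeq ▸ hQle
    exact Nat.le_of_mul_le_mul_right this h2pos
  have hNeq : N = Φ.ker := Subgroup.eq_of_le_of_card_ge hNker (by rw [hcardN]; exact hkerle)
  have hkercard : Nat.card Φ.ker = 2 := by rw [← hNeq, hcardN]
  refine ⟨?_, ?_⟩
  · rw [← hQeq, hkercard]
  · intro x hx hxc
    have : (⟨x, hx⟩ : Q) ∈ Φ.ker := by
      rw [MonoidHom.mem_ker]
      funext i
      apply Subtype.ext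
      show x * g i * x⁻¹ * (g i)⁻¹ = 1
      rw [hxc i]; group
    rw [← hNeq, hNmem] at this
    exact this

/-- **Six hyperbolic pairs generate the extraspecial group of order `2 ^ 13`.** -/
theorem extra_of_hyperbolic {Γ : Type*} [Group Γ] [Finite Γ] (z : Γ) (hz2 : z * z = 1) (hz1 : z ≠ 1) (a b : Fin 6 → Γ)
    (hza : ∀ i, a i * z = z * a i) (hzb : ∀ i, b i * z = z * b i) (haa : ∀ i, a i * a i = 1)
    (hbb : ∀ i, b i * b i = 1) (hab : ∀ i, a i * b i = z * (b i * a i)) (hcaa : ∀ i j, a i * a j = a j * a i)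
    (hcbb : ∀ i j, b i * b j = b j * b i) (hcab : ∀ i j, i ≠ j → a i * b j = b j * a i) :
    Cfsg.IsExtraspecial 2 ↥(Subgroup.closure (Set.range a ∪ Set.range b ∪ {z})) ∧
      Nat.card ↥(Subgroup.closure (Set.range a ∪ Set.range b ∪ {z})) = 2 ^ 13 := by
  have hba : ∀ i, b i * a i = z * (a i * b i) := by
    intro i
    rw [hab i, ← mul_assoc, hz2, one_mul]
  let g : Fin 6 ⊕ Fin 6 → Γ := Sum.elim a b
  have hT : Set.range a ∪ Set.range b ∪ {z} = Set.range g ∪ {z} := by
    rw [Set.Sum.elim_range]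
  have hgz : ∀ i, g i * z = z * g i := by
    rintro (i | i)
    · exact hza i
    · exact hzb i
  have hgg : ∀ i, g i * g i = 1 := by
    rintro (i | i)
    · exact haa i
    · exact hbb i
  have hc : ∀ i j, g i * g j = g j * g i ∨ g i * g j = z * (g j * g i) := by
    rintro (i | i) (j | j)
    · exact Or.inl (hcaa i j)
    · by_cases h : i = j
      · subst h; exact Or.inr (hab i)
      · exact Or.inl (hcab i j h)
    · by_cases h : i = j
      · subst h; exact Or.inr (hba i)
      · exact Or.inl (hcab j i (Ne.symm h)).symm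
    · exact Or.inl (hcbb i j)
  have hd1 : ∀ i, g (Sum.swap i) * g i = z * (g i * g (Sum.swap i)) := by
    rintro (i | i)
    · exact hba i
    · exact hab i
  have hd2 : ∀ i j, i ≠ j → g (Sum.swap i) * g j = g j * g (Sum.swap i) := by
    rintro (i | i) (j | j) h
    · exact (hcab j i (fun e => h (by rw [e]))).symm
    · exact hcbb i j
    · exact hcaa i j
    · exact hcab i j (fun e => h (by rw [e]))
  obtain ⟨hcard, hcz⟩ := generic_aux z hz2 hz1 g Sum.swap hgz hgg hc hd1 hd2 _ rfl _ rfl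
  have hcard13 : Nat.card ↥(Subgroup.closure (Set.range g ∪ {z})) = 2 ^ 13 := by
    rw [hcard]; simp
  rw [hT]
  refine ⟨?_, hcard13⟩
  have hozz : orderOf z = 2 := orderOf_eq_prime (by rw [pow_two, hz2]) hz1
  haveI : Fact (Nat.Prime 2) := ⟨Nat.prime_two⟩
  have hP : IsPGroup 2 ↥(Subgroup.closure (Set.range g ∪ {z})) := IsPGroup.of_card hcard13
  have memZ1 : (1 : Γ) ∈ Subgroup.zpowers z := one_mem _
  have memZz : z ∈ Subgroup.zpowers z := Subgroup.mem_zpowers _
  refine extra_of (Subgroup.closure (Set.range g ∪ {z})) (Set.range g ∪ {z}) rfl hP z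
    (Subgroup.subset_closure (Or.inr rfl)) ?_ hozz ?_ ?_ ?_ (a₀ := g (Sum.inl 0)) (b₀ := g (Sum.inr 0))
    (Subgroup.subset_closure (Or.inl ⟨_, rfl⟩)) (Subgroup.subset_closure (Or.inl ⟨_, rfl⟩)) ?_
  · rintro t (⟨i, rfl⟩ | ht)
    · exact (hgz i).symm
    · have ht' : t = z := ht
      rw [ht']
  · rintro u (⟨i, rfl⟩ | hu) v (⟨j, rfl⟩ | hv)
    · rcases hc i j with h | h
      · rw [h]
        have : g j * g i * (g i)⁻¹ * (g j)⁻¹ = 1 := by group
        rw [this]; exact memZ1
      · rw [h]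
        have : z * (g j * g i) * (g i)⁻¹ * (g j)⁻¹ = z := by group
        rw [this]; exact memZz
    · have hv' : v = z := hv
      rw [hv', hgz i]
      have : z * g i * (g i)⁻¹ * z⁻¹ = 1 := by group
      rw [this]; exact memZ1
    · have hu' : u = z := hu
      rw [hu', ← hgz j]
      have : g j * z * z⁻¹ * (g j)⁻¹ = 1 := by group
      rw [this]; exact memZ1
    · have hu' : u = z := hu
      have hv' : v = z := hv
      rw [hu', hv']
      have : z * z * z⁻¹ * z⁻¹ = 1 := by group
      rw [this]; exact memZ1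
  · rintro t (⟨i, rfl⟩ | ht)
    · rw [pow_two, hgg]; exact memZ1
    · have ht' : t = z := ht
      rw [ht', pow_two, hz2]; exact memZ1
  · intro x hx hxt
    exact hcz x hx (fun i => hxt _ (Or.inl ⟨i, rfl⟩))
  · show a 0 * b 0 * (a 0)⁻¹ * (b 0)⁻¹ = z
    rw [hab]; group

end Cfsg.Agent.Lib.HyperExtra57
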