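import Mathlib
import Cfsg.Agent.Lib.Inv6Red

/-!
# Involutions with centralizer `2 × S₆`: natural representatives
-/

set_option autoImplicit false

namespace Cfsg.Agent.Lib.Inv6

open Equiv P6 Subgroup

variable {G : Type*} [Group G] {t : G}

theorem cj_comm {n x z : G} (h : x * z = z * x) : cj n x * cj n z = cj n z * cj n x := by
  rw [← map_mul, ← map_mul, h]

theorem comm_of_comm {x u v : G} (h1 : x * (u * v) = (u * v) * x) (h2 : x * v = v * x) :
    x * u = u * x := by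
  have : x * u * v = u * x * v := by
    rw [mul_assoc, h1, mul_assoc, mul_assoc, h2]
  exact mul_right_cancel this

theorem cj_pow' (n x : G) (k : ℕ) : cj n (x ^ k) = (cj n x) ^ k := map_pow _ _ _

namespace Setup6

variable (S : Setup6 t)

theorem comm_t {n : G} {c π : S6} (hnt : cj n t = t * S.ι c) (hnc : cj n (S.ι c) = S.ι c)
    (hπ : π * c = c * π) : cj n (S.ι π) * t = t * cj n (S.ι π) := by
  have h1 : S.ι π * (t * S.ι c) = (t * S.ι c) * S.ι π := S.tι_comm hπ.symm |>.symm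
  have h2 := cj_comm (n := n) (S.ι_t π)
  rw [hnt] at h2
  have h3 := cj_comm (n := n) (S.comm_ι hπ)
  rw [hnc] at h3
  exact comm_of_comm h2 h3

theorem pow3_t (ω : S6) : (t * S.ι ω) ^ 3 = t * S.ι (ω ^ 3) := by
  rw [pow_succ, pow_two, S.tι_mul_tι, S.ι_mul_tι, pow_succ ω 2, pow_two]

theorem pow5_t (ω : S6) : (t * S.ι ω) ^ 5 = t * S.ι (ω ^ 5) := by
  have h : (t * S.ι ω) ^ 5 = (t * S.ι ω) * (t * S.ι ω) * ((t * S.ι ω) * (t * S.ι ω)) * (t * S.ι ω) := by
    simp only [pow_succ, pow_zero, one_mul, mul_assoc]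
  rw [h, S.tι_mul_tι, ← map_mul, S.ι_mul_tι]
  congr 2

theorem form3 {x : G} (hx : x * t = t * x) (h3 : x ^ 3 = 1) : ∃ ω, x = S.ι ω ∧ ω ^ 3 = 1 := by
  obtain ⟨ω, h | h⟩ := S.cases hx
  · refine ⟨ω, h, ?_⟩
    rw [h, ← map_pow] at h3
    exact S.ι_inj (h3.trans (map_one _).symm)
  · exfalso
    rw [h, S.pow3_t] at h3
    exact S.t_ne _ 1 (h3.trans (map_one _).symm)

theorem form5 {x : G} (hx : x * t = t * x) (h3 : x ^ 5 = 1) : ∃ ω, x = S.ι ω ∧ ω ^ 5 = 1 := by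
  obtain ⟨ω, h | h⟩ := S.cases hx
  · refine ⟨ω, h, ?_⟩
    rw [h, ← map_pow] at h3
    exact S.ι_inj (h3.trans (map_one _).symm)
  · exfalso
    rw [h, S.pow5_t] at h3
    exact S.t_ne _ 1 (h3.trans (map_one _).symm)

theorem comm_part {x : G} {ω σ : S6} (h : x = S.ι ω ∨ x = t * S.ι ω)
    (h2 : x * S.ι σ = S.ι σ * x) : ω * σ = σ * ω := by
  rcases h with rfl | rfl
  · exact S.comm_ι' h2
  · rw [S.tι_mul_ι, S.ι_mul_tι] at h2
    exact S.ι_inj (mul_left_cancel h2)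

theorem sq_part {x : G} {ω : S6} (h : x = S.ι ω ∨ x = t * S.ι ω) (h2 : x * x = 1) : ω * ω = 1 := by
  rcases h with rfl | rfl
  · rw [← map_mul] at h2
    exact S.ι_inj (h2.trans (map_one _).symm)
  · rw [S.tι_mul_tι] at h2
    exact S.ι_inj (h2.trans (map_one _).symm)

theorem cj_part {x : G} {ω : S6} (h : x = S.ι ω ∨ x = t * S.ι ω) (σ : S6) :
    cj x (S.ι σ) = S.ι (ω * σ * ω⁻¹) := by
  rcases h with rfl | rfl
  · exact S.cj_ι_ι ω σ
  · exact S.cj_tι_ι ω σ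

theorem cj_part_t {x : G} {ω : S6} (h : x = S.ι ω ∨ x = t * S.ι ω) : cj x t = t := by
  rcases h with rfl | rfl
  · exact S.cj_ι_t ω
  · exact S.cj_tι_t ω

variable [Finite G]

/-- Adjusting by `P₀` to centralize `P₀`. -/
theorem adjust {n : G} (hna : cj n (S.ι a) = S.ι a) (hnb : cj n (S.ι b) = S.ι b)
    (hne : cj n (S.ι e) = S.ι e ∨ cj n (S.ι e) = S.ι e2)
    (hnf : cj n (S.ι f) = S.ι f ∨ cj n (S.ι f) = S.ι f2) :
    ∃ c : S6, (c = 1 ∨ c = e ∨ c = f ∨ c = f * e) ∧ ∀ π ∈ P0F, cj (S.ι c * n) (S.ι π) = S.ι π := by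
  have key : ∀ c : S6, (c * a * c⁻¹ = a) → (c * b * c⁻¹ = b) →
      (cj (S.ι c) (cj n (S.ι e)) = S.ι e) → (cj (S.ι c) (cj n (S.ι f)) = S.ι f) →
      ∀ π ∈ P0F, cj (S.ι c * n) (S.ι π) = S.ι π := by
    intro c h1 h2 h3 h4
    apply P0_induction
    · rw [map_one, map_one]
    · rw [cj_mul, hna, S.cj_ι_ι, h1]
    · rw [cj_mul, hnb, S.cj_ι_ι, h2]
    · rw [cj_mul, h3]
    · rw [cj_mul, h4]
    · intro x y hx hy
      rw [map_mul, map_mul, hx, hy]
  rcases hne with h1 | h1 <;> rcases hnf with h2 | h2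
  · exact ⟨1, Or.inl rfl, key 1 (by decide +kernel) (by decide +kernel)
      (by rw [h1, map_one, cj_one']) (by rw [h2, map_one, cj_one'])⟩
  · exact ⟨e, Or.inr (Or.inl rfl), key e (by decide +kernel) (by decide +kernel)
      (by rw [h1, S.cj_ι_ι, (by decide +kernel : e * e * e⁻¹ = e)])
      (by rw [h2, S.cj_ι_ι, (by decide +kernel : e * f2 * e⁻¹ = f)])⟩
  · exact ⟨f, Or.inr (Or.inr (Or.inl rfl)), key f (by decide +kernel) (by decide +kernel)
      (by rw [h1, S.cj_ι_ι, (by decide +kernel : f * e2 * f⁻¹ = e)])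
      (by rw [h2, S.cj_ι_ι, (by decide +kernel : f * f * f⁻¹ = f)])⟩
  · exact ⟨f * e, Or.inr (Or.inr (Or.inr rfl)), key (f * e) (by decide +kernel) (by decide +kernel)
      (by rw [h1, S.cj_ι_ι, (by decide +kernel : f * e * e2 * (f * e)⁻¹ = e)])
      (by rw [h2, S.cj_ι_ι, (by decide +kernel : f * e * f2 * (f * e)⁻¹ = f)])⟩

/-- The multiplication by `ι c` with `c ∈ P₀` keeps the action on `t`. -/
theorem adjust_t {n : G} {c s : S6} (hc : c ∈ P0F) (hs : s ∈ Z0F) (hnt : cj n t = t * S.ι s) :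
    cj (S.ι c * n) t = t * S.ι s := by
  rw [cj_mul, hnt, map_mul, S.cj_ι_t, S.cj_ι_ι]
  have : c * s * c⁻¹ = s := by
    rw [mul_inv_eq_iff_eq_mul]
    exact Z0_central hs hc
  rw [this]

/-- Choice of an involution. -/
theorem involutive_form {n : G} {c σ₀ : S6} (hc : c ∈ Z0F) (hc1 : c ≠ 1)
    (hnt : cj n t = t * S.ι c) (hnP : ∀ π ∈ P0F, cj n (S.ι π) = S.ι π)
    (hnσ : cj n (S.ι σ₀) = S.ι σ₀)
    (hσ : ∀ s ∈ Z0F, s * σ₀ = σ₀ * s → s = 1 ∨ s = c) :
    ∃ n', n' * n' = 1 ∧ (n' = n ∨ n' = t * n) ∧ cj n' t = t * S.ι c := by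
  have hcP : c ∈ P0F := Z0_sub hc
  have hcc : c * c = 1 := by
    rcases Z0_cases hc with rfl | rfl | rfl | rfl
    · exact absurd rfl hc1
    · decide +kernel
    · decide +kernel
    · decide +kernel
  have hxt : cj (n * n) t = t := by
    rw [cj_mul, hnt, map_mul, hnt, hnP c hcP, S.tι_mul_ι, hcc, map_one, mul_one]
  have hxP : n * n ∈ S.P := by
    refine S.mem_P.2 ⟨cj_fix_iff.1 hxt, ?_, ?_⟩
    · apply cj_fix_iff.1
      rw [cj_mul, hnP a a_mem, hnP a a_mem]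
    · apply cj_fix_iff.1
      rw [cj_mul, hnP b b_mem, hnP b b_mem]
  obtain ⟨π, hπ, h1⟩ := S.P_cases hxP
  have hfixι : ∀ σ, cj n (S.ι σ) = S.ι σ → cj (n * n) (S.ι σ) = S.ι σ := by
    intro σ h
    rw [cj_mul, h, h]
  have hπZ : π ∈ Z0F := by
    apply P0_center hπ
    · exact S.comm_part h1 (cj_fix_iff.1 (hfixι e (hnP e e_mem)))
    · exact S.comm_part h1 (cj_fix_iff.1 (hfixι f (hnP f f_mem)))
  have hπσ : π * σ₀ = σ₀ * π := S.comm_part h1 (cj_fix_iff.1 (hfixι σ₀ hnσ))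
  have hxform : n * n = S.ι π := by
    rcases h1 with h1 | h1
    · exact h1
    · exfalso
      have h2 : cj n (n * n) = n * n := by
        rw [cj_def]; group
      rw [h1, map_mul, hnt, hnP π hπ, S.tι_mul_ι] at h2
      have h3 := S.tι_inj h2
      have h4 : c = 1 := by
        have h5 : c * π * π⁻¹ = π * π⁻¹ := by rw [h3]
        simpa using h5
      exact hc1 h4
  rcases hσ π hπZ hπσ with rfl | rfl
  · refine ⟨n, ?_, Or.inl rfl, hnt⟩
    rw [hxform, map_one]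
  · refine ⟨t * n, ?_, Or.inr rfl, ?_⟩
    · have h5 : n * t = t * S.ι π * n := mul_inv_eq_iff_eq_mul.1 hnt
      calc t * n * (t * n) = t * (n * t) * n := by group
        _ = t * (t * S.ι π * n) * n := by rw [h5]
        _ = (t * t) * S.ι π * (n * n) := by group
        _ = S.ι (π * π) := by rw [S.tt, one_mul, hxform, map_mul]
        _ = 1 := by rw [hcc, map_one]
    · rw [cj_mul, hnt, map_mul, S.cj_t_ι, cj_fix_iff.2 rfl]

end Setup6

end Cfsg.Agent.Lib.Inv6
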