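import Mathlib
import Cfsg.Agent.Lib.Inv6Nat

/-!
# Involutions with centralizer `2 × S₆`: the overgroups of `P`
-/

set_option autoImplicit false

namespace Cfsg.Agent.Lib.Inv6

open Equiv P6 Subgroup

variable {G : Type*} [Group G] {t : G}

namespace Setup6

variable (S : Setup6 t)

/-- Elements fixing `a, b`, preserving `{f, f'}` and moving `t` by an element of `B`. -/
def Acts (B : List S6) (x : G) : Prop :=
  cj x (S.ι a) = S.ι a ∧ cj x (S.ι b) = S.ι b ∧ (cj x (S.ι f) = S.ι f ∨ cj x (S.ι f) = S.ι f2) ∧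
    ∃ β ∈ B, cj x t = t * S.ι β

theorem acts_on_H2 {x : G} (ha : cj x (S.ι a) = S.ι a) (hb : cj x (S.ι b) = S.ι b)
    (hf : cj x (S.ι f) = S.ι f ∨ cj x (S.ι f) = S.ι f2) {h : S6} (hh : h ∈ H2L) :
    cj x (S.ι h) = S.ι h ∨ cj x (S.ι h) = S.ι (e * h * e⁻¹) := by
  rcases hf with hf | hf
  · left
    refine H2_induction (Q := fun h => cj x (S.ι h) = S.ι h) ?_ ha hb hf ?_ h hh
    · rw [map_one, map_one]
    · intro u v hu hv
      simp only [map_mul] at hu hv ⊢
      rw [hu, hv]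
  · right
    refine H2_induction (Q := fun h => cj x (S.ι h) = S.ι (e * h * e⁻¹)) ?_ ?_ ?_ ?_ ?_ h hh
    · rw [map_one, map_one, mul_one, mul_inv_cancel, map_one]
    · rw [ha, (by decide +kernel : e * a * e⁻¹ = a)]
    · rw [hb, (by decide +kernel : e * b * e⁻¹ = b)]
    · rw [hf, (by decide +kernel : e * f * e⁻¹ = f2)]
    · intro u v hu hv
      have h1 : e * (u * v) * e⁻¹ = (e * u * e⁻¹) * (e * v * e⁻¹) := by group
      rw [map_mul S.ι u v, map_mul (cj x), hu, hv, h1, map_mul S.ι (e * u * e⁻¹)]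

theorem Acts_one {B : List S6} (hB : GoodB B) : S.Acts B 1 := by
  refine ⟨cj_one' _, cj_one' _, Or.inl (cj_one' _), 1, hB.one, ?_⟩
  rw [cj_one', map_one, mul_one]

theorem Acts_mul {B : List S6} (hB : GoodB B) {x y : G} (hx : S.Acts B x) (hy : S.Acts B y) :
    S.Acts B (x * y) := by
  obtain ⟨x1, x2, x3, β, hβ, x4⟩ := hx
  obtain ⟨y1, y2, y3, β', hβ', y4⟩ := hy
  refine ⟨by rw [cj_mul, y1, x1], by rw [cj_mul, y2, x2], ?_, ?_⟩
  · rw [cj_mul]
    have hf2 : S.ι f2 = S.ι f * S.ι b := by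
      rw [← map_mul, (by decide +kernel : f * b = f2)]
    have hf3 : S.ι f2 * S.ι b = S.ι f := by
      rw [← map_mul, (by decide +kernel : f2 * b = f)]
    rcases y3 with y3 | y3
    · rw [y3]; exact x3
    · rw [y3, hf2, map_mul, x2]
      rcases x3 with x3 | x3
      · rw [x3]; right; rfl
      · rw [x3]; left; exact hf3
  · rw [cj_mul, y4, map_mul, x4]
    rcases S.acts_on_H2 x1 x2 x3 (hB.sub β' hβ') with h | h
    · refine ⟨β * β', (hB.mulb β hβ β' hβ').1, ?_⟩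
      rw [h, S.tι_mul_ι]
    · refine ⟨β * (e * β' * e⁻¹), (hB.mulb β hβ β' hβ').2, ?_⟩
      rw [h, S.tι_mul_ι]

/-- The overgroup. -/
def ActsSub [Finite G] (B : List S6) (hB : GoodB B) : Subgroup G where
  carrier := {x | S.Acts B x}
  mul_mem' := fun hx hy => S.Acts_mul hB hx hy
  one_mem' := S.Acts_one hB
  inv_mem' := by
    intro x hx
    have h1 : x⁻¹ = x ^ (orderOf x - 1) := by
      apply inv_eq_of_mul_eq_one_right
      rw [← pow_succ', Nat.sub_add_cancel (orderOf_pos x), pow_orderOf_eq_one]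
    change S.Acts B x⁻¹
    rw [h1]
    generalize orderOf x - 1 = k
    induction k with
    | zero => simpa using S.Acts_one hB
    | succ k ih =>
      rw [pow_succ]
      exact S.Acts_mul hB ih hx

variable [Finite G]

theorem mem_ActsSub {B : List S6} {hB : GoodB B} {x : G} :
    x ∈ S.ActsSub B hB ↔ S.Acts B x := Iff.rfl

/-- Two elements moving `t` in the same way differ by an element of `P`. -/
theorem fiber {B : List S6} {x m : G} (hx : S.Acts B x) (hm : S.Acts B m)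
    (h : cj x t = cj m t) : m⁻¹ * x ∈ S.P := by
  obtain ⟨x1, x2, -, -⟩ := hx
  obtain ⟨m1, m2, -, -⟩ := hm
  refine S.mem_P.2 ⟨?_, ?_, ?_⟩
  · apply cj_fix_iff.1
    rw [cj_mul, h, cj_inv_cj]
  · apply cj_fix_iff.1
    rw [cj_mul, x1]
    exact cj_eq_of_fix m1
  · apply cj_fix_iff.1
    rw [cj_mul, x2]
    exact cj_eq_of_fix m2

theorem P_le_Acts {B : List S6} (hB : GoodB B) {x : G} (hx : x ∈ S.P) : S.Acts B x := by
  obtain ⟨π, hπ, h1⟩ := S.P_cases hx
  obtain ⟨x1, x2, x3⟩ := S.mem_P.1 hx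
  refine ⟨cj_fix_iff.2 x2, cj_fix_iff.2 x3, ?_, 1, hB.one, ?_⟩
  · rw [S.cj_part h1]
    have : π * f * π⁻¹ = f ∨ π * f * π⁻¹ = f2 :=
      all_mem P0L (fun π => π * f * π⁻¹ = f ∨ π * f * π⁻¹ = f2) (by decide +kernel) π (mem_P0L.1 hπ)
    rcases this with h | h <;> rw [h]
    · left; rfl
    · right; rfl
  · rw [map_one, mul_one]
    exact cj_fix_iff.2 x1

theorem cj_mul_P {m p : G} (hp : p ∈ S.P) : cj (m * p) t = cj m t := by
  rw [cj_mul, cj_fix_iff.2 (S.mem_P.1 hp).1]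

/-- Order of the overgroup. -/
theorem card_Acts {B : List S6} (hB : GoodB B) (hnd : B.Nodup)
    (hrep : ∀ β ∈ B, ∃ m, S.Acts B m ∧ cj m t = t * S.ι β) :
    Nat.card (S.ActsSub B hB) = B.length * 32 := by
  classical
  choose! rep hrep1 hrep2 using hrep
  have h1 : Nat.card (S.ActsSub B hB) = Nat.card ({β // β ∈ B} × S.P) := by
    symm
    refine Nat.card_congr (Equiv.ofBijective
      (fun p => (⟨rep p.1.1 * p.2.1, ?_⟩ : S.ActsSub B hB)) ⟨?_, ?_⟩)
    · exact S.Acts_mul hB (hrep1 _ p.1.2) (S.P_le_Acts hB p.2.2)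
    · rintro ⟨⟨β, hβ⟩, ⟨p, hp⟩⟩ ⟨⟨β', hβ'⟩, ⟨p', hp'⟩⟩ h
      have h2 : rep β * p = rep β' * p' := congrArg Subtype.val h
      have h3 : cj (rep β * p) t = cj (rep β' * p') t := by rw [h2]
      rw [S.cj_mul_P hp, S.cj_mul_P hp', hrep2 β hβ, hrep2 β' hβ'] at h3
      have h4 := S.tι_inj h3
      subst h4
      have h5 := mul_left_cancel h2
      subst h5
      rfl
    · rintro ⟨x, hx⟩
      obtain ⟨x1, x2, x3, β, hβ, x4⟩ := id hx
      have h2 := S.fiber hx (hrep1 β hβ) (by rw [x4, hrep2 β hβ])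
      refine ⟨(⟨β, hβ⟩, ⟨_, h2⟩), ?_⟩
      apply Subtype.ext
      simp
  rw [h1, Nat.card_prod, S.card_P]
  congr 1
  rw [Nat.card_congr (Equiv.subtypeEquivRight (fun β => (List.mem_toFinset (a := β)).symm)),
    Nat.card_eq_fintype_card, Fintype.card_coe, List.toFinset_card_of_nodup hnd]

end Setup6

end Cfsg.Agent.Lib.Inv6
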