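import Mathlib
import Cfsg.Agent.Lib.Inv6Acts

/-!
# Involutions with centralizer `2 × S₆`: conjugates of `t` in cosets of `P`
-/

set_option autoImplicit false

namespace Cfsg.Agent.Lib.Inv6

open Equiv P6 Subgroup

variable {G : Type*} [Group G] {t : G}

namespace Setup6

variable (S : Setup6 t)

/-- Conjugates of `t` in the coset `m P`. -/
def F (m : G) : Set G := {x | (∃ p ∈ S.P, x = m * p) ∧ IsConj t x}

theorem F_cases {m x : G} (h : x ∈ S.F m) :
    ∃ π ∈ P0F, (x = m * S.ι π ∨ x = m * (t * S.ι π)) ∧ IsConj t x := by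
  obtain ⟨⟨p, hp, rfl⟩, hD⟩ := h
  obtain ⟨π, hπ, h1⟩ := S.P_cases hp
  refine ⟨π, hπ, ?_, hD⟩
  rcases h1 with rfl | rfl
  · left; rfl
  · right; rfl

theorem F_ι {m : G} {π : S6} (hπ : π ∈ P0F) (hD : IsConj t (m * S.ι π)) : m * S.ι π ∈ S.F m :=
  ⟨⟨_, S.ι_mem_P hπ, rfl⟩, hD⟩

theorem F_tι {m : G} {π : S6} (hπ : π ∈ P0F) (hD : IsConj t (m * (t * S.ι π))) :
    m * (t * S.ι π) ∈ S.F m :=
  ⟨⟨_, S.tι_mem_P hπ, rfl⟩, hD⟩

variable [Finite G]

theorem F_move {m x : G} {β : S6} (h : x ∈ S.F m) (hm : cj m t = t * S.ι β) :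
    cj x t = t * S.ι β := by
  obtain ⟨⟨p, hp, rfl⟩, -⟩ := h
  rw [S.cj_mul_P hp, hm]

theorem F_disj {m m' : G} {β β' : S6} (hm : cj m t = t * S.ι β) (hm' : cj m' t = t * S.ι β')
    (hne : β ≠ β') : Disjoint (S.F m) (S.F m') := by
  rw [Set.disjoint_left]
  intro x hx hx'
  apply hne
  have h1 := S.F_move hx hm
  have h2 := S.F_move hx' hm'
  rw [h1] at h2
  exact S.tι_inj h2

/-- The transfer count on overgroups of `P`. -/
theorem tl_acts (hG : ∀ H : Subgroup G, H.index ≠ 2) {B B₀ L : List S6} (hB : GoodB B)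
    (hB₀ : GoodB B₀) (hL : ∀ β, β ∈ B ↔ (β ∈ B₀ ∨ β ∈ L)) (hLd : ∀ β ∈ L, β ∉ B₀)
    (hLL : ∀ β ∈ L, ∀ β' ∈ L, β * β' ∈ B₀ ∧ β * (e * β' * e⁻¹) ∈ B₀)
    (m : S6 → G) (hm : ∀ β ∈ L, S.Acts B (m β) ∧ cj (m β) t = t * S.ι β)
    (hL0 : ∃ β, β ∈ L) :
    ∃ c : ℕ, Even c ∧ c * Nat.card (S.ActsSub B hB) =
      Set.ncard {x | ∃ β ∈ L, x ∈ S.F (m β)} * 1440 := by
  have hKH : S.ActsSub B₀ hB₀ ≤ S.ActsSub B hB := by
    rintro x ⟨x1, x2, x3, β, hβ, x4⟩
    exact ⟨x1, x2, x3, β, (hL β).2 (Or.inl hβ), x4⟩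
  have hβnot : ∀ {x : G}, S.Acts B x → x ∉ S.ActsSub B₀ hB₀ → ∃ β ∈ L, cj x t = t * S.ι β := by
    rintro x ⟨x1, x2, x3, β, hβ, x4⟩ hx
    rcases (hL β).1 hβ with h | h
    · exact absurd ⟨x1, x2, x3, β, h, x4⟩ hx
    · exact ⟨β, h, x4⟩
  have hnot : ∀ {x : G} {β : S6}, β ∈ L → cj x t = t * S.ι β → x ∉ S.ActsSub B₀ hB₀ := by
    rintro x β hβ h1 ⟨-, -, -, β₀, hβ₀, h2⟩
    rw [h1] at h2
    rw [S.tι_inj h2] at hβ
    exact hLd _ hβ hβ₀
  obtain ⟨β₀, hβ₀⟩ := hL0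
  have h0 : ∃ x ∈ S.ActsSub B hB, x ∉ S.ActsSub B₀ hB₀ :=
    ⟨m β₀, (hm β₀ hβ₀).1, hnot hβ₀ (hm β₀ hβ₀).2⟩
  have hK : ∀ x ∈ S.ActsSub B hB, x ∉ S.ActsSub B₀ hB₀ → ∀ y ∈ S.ActsSub B hB,
      y ∉ S.ActsSub B₀ hB₀ → x * y ∈ S.ActsSub B₀ hB₀ := by
    intro x hx hxK y hy hyK
    obtain ⟨β, hβ, h1⟩ := hβnot hx hxK
    obtain ⟨β', hβ', h2⟩ := hβnot hy hyK
    obtain ⟨x1, x2, x3, -⟩ := hx
    have hxy := S.Acts_mul hB ⟨x1, x2, x3, β, (hL β).2 (Or.inr hβ), h1⟩ hy
    obtain ⟨z1, z2, z3, -⟩ := hxy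
    refine ⟨z1, z2, z3, ?_⟩
    rw [cj_mul, h2, map_mul, h1]
    rcases S.acts_on_H2 x1 x2 x3 (hB.sub β' ((hL β').2 (Or.inr hβ'))) with h | h
    · exact ⟨β * β', (hLL β hβ β' hβ').1, by rw [h, S.tι_mul_ι]⟩
    · exact ⟨β * (e * β' * e⁻¹), (hLL β hβ β' hβ').2, by rw [h, S.tι_mul_ι]⟩
  obtain ⟨c, hc, hc2⟩ := Inv7.tl hG t S.tt _ _ hKH h0 hK
  refine ⟨c, hc, ?_⟩
  rw [S.card_C] at hc2
  rw [hc2]
  congr 2
  ext x
  constructor
  · rintro ⟨hx, hxK, hD⟩
    obtain ⟨β, hβ, h1⟩ := hβnot hx hxK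
    refine ⟨β, hβ, ⟨_, S.fiber hx (hm β hβ).1 (by rw [h1, (hm β hβ).2]), by group⟩, hD⟩
  · rintro ⟨β, hβ, ⟨p, hp, rfl⟩, hD⟩
    refine ⟨S.Acts_mul hB (hm β hβ).1 (S.P_le_Acts hB hp), ?_, hD⟩
    apply hnot hβ
    rw [S.cj_mul_P hp, (hm β hβ).2]

section caseB

variable (hL : ∀ π, ¬ IsConj t (S.ι π)) (hT : ∀ π, π * π = 1 → IsConj t (t * S.ι π))

include hT in
/-- Additivity (first form). -/
theorem add1 {d z : G} (hd : IsConj t d) (hz : z * z = 1) (hc : d * z = z * d)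
    (hzD : ¬ IsConj t z) : IsConj t (d * z) := by
  obtain ⟨c, rfl⟩ := isConj_iff.1 hd
  have hcj : cj c⁻¹ (c * t * c⁻¹) = t := by simp [cj_def, mul_assoc]
  have h1 : cj c⁻¹ z * t = t * cj c⁻¹ z := by
    have h2 := cj_comm (n := c⁻¹) hc
    rw [hcj] at h2
    exact h2.symm
  obtain ⟨π, hπ⟩ := S.cases h1
  have hsq : π * π = 1 := S.sq_part hπ (by rw [← map_mul, hz, map_one])
  rcases hπ with hπ | hπ
  · rw [← isConj_cj c⁻¹, map_mul, hcj, hπ]
    exact hT π hsq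
  · exfalso
    apply hzD
    rw [← isConj_cj c⁻¹, hπ]
    exact hT π hsq

include hL in
/-- Additivity (second form). -/
theorem add2 {d d' : G} (hd : IsConj t d) (hd' : IsConj t d') (hc : d * d' = d' * d) :
    ¬ IsConj t (d * d') := by
  obtain ⟨c, rfl⟩ := isConj_iff.1 hd
  have hcj : cj c⁻¹ (c * t * c⁻¹) = t := by simp [cj_def, mul_assoc]
  have h1 : cj c⁻¹ d' * t = t * cj c⁻¹ d' := by
    have h2 := cj_comm (n := c⁻¹) hc
    rw [hcj] at h2
    exact h2.symm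
  obtain ⟨π, hπ⟩ := S.cases h1
  rcases hπ with hπ | hπ
  · exfalso
    apply hL π
    rw [← hπ, isConj_cj]
    exact hd'
  · rw [← isConj_cj c⁻¹, map_mul, hcj, hπ, ← mul_assoc, S.tt, one_mul]
    exact hL π

include hL hT in
/-- Multiplying by a commuting involution of `ι(S₆)` does not change the class. -/
theorem chi {m : G} {π : S6} (hπ : π * π = 1) (hc : m * S.ι π = S.ι π * m) :
    IsConj t (m * S.ι π) ↔ IsConj t m := by
  have hz : S.ι π * S.ι π = 1 := by rw [← map_mul, hπ, map_one]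
  constructor
  · intro h
    have h1 := S.add1 hT h hz ((congrArg (· * S.ι π) hc).trans (mul_assoc _ _ _)) (hL π)
    rwa [mul_assoc, hz, mul_one] at h1
  · intro h
    exact S.add1 hT h hz hc (hL π)

/-- Squares in a coset. -/
theorem sq1 {m : G} {π : S6} (hm2 : m * m = 1) (hc : m * S.ι π = S.ι π * m) :
    (m * S.ι π) * (m * S.ι π) = S.ι (π * π) := by
  calc (m * S.ι π) * (m * S.ι π) = (S.ι π * m) * (m * S.ι π) := by rw [hc]
    _ = S.ι π * (m * m) * S.ι π := by group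
    _ = S.ι (π * π) := by rw [hm2, mul_one, map_mul]

theorem sq2 {m : G} {π c₀ : S6} (hm2 : m * m = 1) (hc : m * S.ι π = S.ι π * m)
    (hmt : cj m t = t * S.ι c₀) :
    (m * (t * S.ι π)) * (m * (t * S.ι π)) = S.ι (c₀ * (π * π)) := by
  have h1 : m * t = t * S.ι c₀ * m := mul_inv_eq_iff_eq_mul.1 hmt
  calc (m * (t * S.ι π)) * (m * (t * S.ι π))
      = (m * t) * S.ι π * m * t * S.ι π := by group
    _ = (t * S.ι c₀ * m) * S.ι π * m * t * S.ι π := by rw [h1]
    _ = (t * S.ι c₀) * (m * S.ι π) * m * t * S.ι π := by group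
    _ = (t * S.ι c₀) * (S.ι π * m) * m * t * S.ι π := by rw [hc]
    _ = (t * S.ι c₀) * S.ι π * (m * m) * (t * S.ι π) := by group
    _ = (t * S.ι (c₀ * π)) * (t * S.ι π) := by rw [hm2, mul_one, S.tι_mul_ι]
    _ = S.ι (c₀ * (π * π)) := by rw [S.tι_mul_tι, mul_assoc]

include hL hT in
/-- The conjugates of `t` in a coset `m P`, where `m` centralizes `P₀`. -/
theorem ncard_F12 {m : G} {c₀ : S6} (hm2 : m * m = 1) (hmP : ∀ π ∈ P0F, cj m (S.ι π) = S.ι π)
    (hmt : cj m t = t * S.ι c₀) (hc : ∀ π ∈ P0F, c₀ * (π * π) ≠ 1) :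
    (IsConj t m → Set.ncard (S.F m) = 12) ∧ (¬ IsConj t m → Set.ncard (S.F m) = 0) := by
  classical
  have hcomm : ∀ π ∈ P0F, m * S.ι π = S.ι π * m := fun π hπ => cj_fix_iff.1 (hmP π hπ)
  have hx : ∀ x ∈ S.F m, ∃ π ∈ P0F, π * π = 1 ∧ x = m * S.ι π := by
    intro x hx
    obtain ⟨π, hπ, h1, hD⟩ := S.F_cases hx
    have hsq := isConj_sq S.tt hD
    rcases h1 with rfl | rfl
    · rw [S.sq1 hm2 (hcomm π hπ)] at hsq
      exact ⟨π, hπ, S.ι_inj (hsq.trans (map_one _).symm), rfl⟩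
    · rw [S.sq2 hm2 (hcomm π hπ) hmt] at hsq
      exact absurd (S.ι_inj (hsq.trans (map_one _).symm)) (hc π hπ)
  constructor
  · intro hD
    have hset : S.F m = ((P0F.filter (fun π => π * π = 1)).image (fun π => m * S.ι π) : Finset G) := by
      ext x
      simp only [Finset.coe_image, Set.mem_image, Finset.coe_filter]
      constructor
      · intro h
        obtain ⟨π, hπ, h1, rfl⟩ := hx x h
        exact ⟨π, ⟨hπ, h1⟩, rfl⟩
      · rintro ⟨π, ⟨hπ, h1⟩, rfl⟩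
        exact S.F_ι hπ ((S.chi hL hT h1 (hcomm π hπ)).2 hD)
    rw [hset, Set.ncard_coe_finset, Finset.card_image_of_injective _
      (fun π σ h => S.ι_inj (mul_left_cancel h)), card_inv12]
  · intro hD
    have hset : S.F m = ∅ := by
      apply Set.eq_empty_of_forall_notMem
      intro x h
      obtain ⟨π, hπ, h1, rfl⟩ := hx x h
      exact hD ((S.chi hL hT h1 (hcomm π hπ)).1 h.2)
    rw [hset, Set.ncard_empty]

include hL hT in
/-- The conjugates of `t` in the coset `y P`. -/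
theorem ncard_Fy {y : G} (hm2 : y * y = 1) (hmP : ∀ π ∈ P0F, cj y (S.ι π) = S.ι π)
    (hmt : cj y t = t * S.ι b) :
    (IsConj t y → Set.ncard (S.F y) = 12) ∧ (¬ IsConj t y → Set.ncard (S.F y) = 4) := by
  classical
  have hcomm : ∀ π ∈ P0F, y * S.ι π = S.ι π * y := fun π hπ => cj_fix_iff.1 (hmP π hπ)
  have hy1 : y * t = t * S.ι b * y := mul_inv_eq_iff_eq_mul.1 hmt
  -- the form of a conjugate
  have hx : ∀ x ∈ S.F y, ∃ π ∈ P0F, (π * π = 1 ∧ x = y * S.ι π) ∨ (π * π = b ∧ x = y * (t * S.ι π)) := by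
    intro x hx
    obtain ⟨π, hπ, h1, hD⟩ := S.F_cases hx
    have hsq := isConj_sq S.tt hD
    rcases h1 with rfl | rfl
    · rw [S.sq1 hm2 (hcomm π hπ)] at hsq
      exact ⟨π, hπ, Or.inl ⟨S.ι_inj (hsq.trans (map_one _).symm), rfl⟩⟩
    · rw [S.sq2 hm2 (hcomm π hπ) hmt] at hsq
      have h2 : b * (π * π) = 1 := S.ι_inj (hsq.trans (map_one _).symm)
      refine ⟨π, hπ, Or.inr ⟨?_, rfl⟩⟩
      have h3 : b⁻¹ = b := by decide +kernel
      have h4 := eq_inv_of_mul_eq_one_right h2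
      rw [h4, h3]
  -- the key relation for the second family
  have hsec : ∀ π ∈ P0F, π * π = b → (IsConj t (y * (t * S.ι π)) ↔ ¬ IsConj t y) := by
    intro π hπ h2
    obtain ⟨z, hz, rfl⟩ := sq4_form hπ h2
    have hbr : b * r ∈ P0F := by decide +kernel
    have hzP := Z0_sub hz
    set n₀ := y * (t * S.ι (b * r)) with hn₀
    have e1 : y * (t * S.ι (b * r * z)) = n₀ * S.ι z := by
      rw [hn₀, map_mul S.ι (b * r) z]; group
    have hn₀z : n₀ * S.ι z = S.ι z * n₀ := by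
      rw [hn₀]
      calc y * (t * S.ι (b * r)) * S.ι z = y * ((t * S.ι (b * r)) * S.ι z) := by group
        _ = y * (S.ι z * (t * S.ι (b * r))) := by rw [S.tι_comm (Z0_central hz hbr)]
        _ = (y * S.ι z) * (t * S.ι (b * r)) := by group
        _ = (S.ι z * y) * (t * S.ι (b * r)) := by rw [hcomm z hzP]
        _ = S.ι z * (y * (t * S.ι (b * r))) := by group
    rw [e1, S.chi hL hT (Z0_sq hz) hn₀z]
    -- `n₀ = (t e) (y f)`
    have e3 : n₀ = (t * S.ι e) * (y * S.ι f) := by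
      have h5 : t * y = y * (t * S.ι b) := by
        have h6 : t * (y * t) * t = t * (t * S.ι b * y) * t := by rw [hy1]
        have h7 : t * (t * S.ι b * y) * t = S.ι b * y * t := by
          calc t * (t * S.ι b * y) * t = (t * t) * S.ι b * y * t := by group
            _ = S.ι b * y * t := by rw [S.tt, one_mul]
        rw [h7] at h6
        have h8 : t * (y * t) * t = t * y * (t * t) := by group
        rw [h8, S.tt, mul_one] at h6
        rw [h6, ← hcomm b b_mem, mul_assoc, ← S.ι_t]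
      rw [hn₀]
      calc y * (t * S.ι (b * r)) = y * (t * S.ι b * S.ι r) := by rw [map_mul S.ι b r, mul_assoc t]
        _ = (y * (t * S.ι b)) * S.ι r := by group
        _ = (t * y) * S.ι r := by rw [h5]
        _ = t * (y * S.ι e) * S.ι f := by rw [show r = e * f from rfl, map_mul]; group
        _ = t * (S.ι e * y) * S.ι f := by rw [hcomm e e_mem]
        _ = (t * S.ι e) * (y * S.ι f) := by group
    rw [e3]
    have hd : IsConj t (t * S.ι e) := hT e (by decide +kernel)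
    have hw : (y * S.ι f) * (y * S.ι f) = 1 := by
      rw [S.sq1 hm2 (hcomm f f_mem), (by decide +kernel : f * f = 1), map_one]
    have hcw : (t * S.ι e) * (y * S.ι f) = (y * S.ι f) * (t * S.ι e) := by
      apply (cj_fix_iff (n := y * S.ι f)).1 ?_ |>.symm
      rw [cj_mul, map_mul, S.cj_ι_t, S.cj_ι_ι, map_mul, hmt, (by decide +kernel : f * e * f⁻¹ = e2),
        hmP e2 e2_mem, S.tι_mul_ι, (by decide +kernel : b * e2 = e)]
    have hchi := S.chi hL hT (π := f) (by decide +kernel) (hcomm f f_mem)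
    by_cases hyD : IsConj t y
    · have h10 : IsConj t (y * S.ι f) := hchi.2 hyD
      simp only [hyD, not_true_eq_false, iff_false]
      exact S.add2 hL hd h10 hcw
    · have h10 : ¬ IsConj t (y * S.ι f) := fun h => hyD (hchi.1 h)
      simp only [hyD, not_false_eq_true, iff_true]
      exact S.add1 hT hd hw hcw h10
  constructor
  · intro hD
    have hset : S.F y = ((P0F.filter (fun π => π * π = 1)).image (fun π => y * S.ι π) : Finset G) := by
      ext x
      simp only [Finset.coe_image, Set.mem_image, Finset.coe_filter]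
      constructor
      · intro h
        obtain ⟨π, hπ, ⟨h1, rfl⟩ | ⟨h1, rfl⟩⟩ := hx x h
        · exact ⟨π, ⟨hπ, h1⟩, rfl⟩
        · exact absurd hD ((hsec π hπ h1).1 h.2)
      · rintro ⟨π, ⟨hπ, h1⟩, rfl⟩
        exact S.F_ι hπ ((S.chi hL hT h1 (hcomm π hπ)).2 hD)
    rw [hset, Set.ncard_coe_finset, Finset.card_image_of_injective _
      (fun π σ h => S.ι_inj (mul_left_cancel h)), card_inv12]
  · intro hD
    have hset : S.F y = ((P0F.filter (fun π => π * π = b)).image (fun π => y * (t * S.ι π)) : Finset G) := by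
      ext x
      simp only [Finset.coe_image, Set.mem_image, Finset.coe_filter]
      constructor
      · intro h
        obtain ⟨π, hπ, ⟨h1, rfl⟩ | ⟨h1, rfl⟩⟩ := hx x h
        · exact absurd ((S.chi hL hT h1 (hcomm π hπ)).1 h.2) hD
        · exact ⟨π, ⟨hπ, h1⟩, rfl⟩
      · rintro ⟨π, ⟨hπ, h1⟩, rfl⟩
        exact S.F_tι hπ ((hsec π hπ h1).2 hD)
    rw [hset, Set.ncard_coe_finset, Finset.card_image_of_injective _
      (fun π σ h => S.tι_inj (mul_left_cancel h)), card_sq4]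

theorem commute_of_sq {β u : G} (h1 : β * β = 1) (h2 : u * u = 1) (h3 : (β * u) * (β * u) = 1) :
    β * u = u * β := by
  have h4 : β⁻¹ = β := inv_eq_of_mul_eq_one_left h1
  have h5 : u⁻¹ = u := inv_eq_of_mul_eq_one_left h2
  have h6 : (β * u)⁻¹ = β * u := inv_eq_of_mul_eq_one_left h3
  rw [mul_inv_rev, h4, h5] at h6
  exact h6.symm

include hL hT in
/-- The conjugates of `t` in a coset `m P`, where `m` centralizes only `H₂`. -/
theorem ncard_F8 {m : G} {c₀ : S6} (hm2 : m * m = 1) (hmH : ∀ k ∈ H2L, cj m (S.ι k) = S.ι k)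
    (hmt : cj m t = t * S.ι c₀) (hc1 : c₀ ≠ 1) (hc2 : e * c₀ * e⁻¹ ≠ c₀) (hD : IsConj t m) :
    Set.ncard (S.F m) = 8 := by
  classical
  have hcomm : ∀ k ∈ H2L, m * S.ι k = S.ι k * m := fun k hk => cj_fix_iff.1 (hmH k hk)
  have hset : S.F m = (H2F.image (fun π => m * S.ι π) : Finset G) := by
    ext x
    simp only [Finset.coe_image, Set.mem_image, Finset.mem_coe]
    constructor
    · intro h
      obtain ⟨π, hπ, h1, hDx⟩ := S.F_cases h
      have hsq := isConj_sq S.tt hDx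
      rcases P0_H2 hπ with h2 | ⟨k, hk, rfl⟩
      · rcases h1 with rfl | rfl
        · exact ⟨π, mem_H2L.2 h2, rfl⟩
        · exfalso
          have hβ : (m * S.ι π) * (m * S.ι π) = 1 := by
            rw [S.sq1 hm2 (hcomm π h2), H2_sq h2, map_one]
          have e1 : m * (t * S.ι π) = (m * S.ι π) * t := by
            rw [mul_assoc, S.ι_t]
          rw [e1] at hsq
          have h3 := commute_of_sq hβ S.tt hsq
          have h4 : cj (m * S.ι π) t = t := cj_fix_iff.2 h3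
          rw [cj_mul, S.cj_ι_t, hmt] at h4
          have h5 : S.ι c₀ = 1 := by
            have : t * S.ι c₀ = t * 1 := by rw [h4, mul_one]
            exact mul_left_cancel this
          exact hc1 (S.ι_inj (h5.trans (map_one _).symm))
      · exfalso
        have hβ : (m * S.ι k) * (m * S.ι k) = 1 := by
          rw [S.sq1 hm2 (hcomm k hk), H2_sq hk, map_one]
        have hcβ : cj (m * S.ι k) t = t * S.ι c₀ := by
          rw [cj_mul, S.cj_ι_t, hmt]
        -- in both cases `x = β u`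
        obtain ⟨u, hu, hut, huι, hxu⟩ : ∃ u : G, u * u = 1 ∧ cj u t = t ∧
            (∀ σ, cj u (S.ι σ) = S.ι (e * σ * e⁻¹)) ∧ x = (m * S.ι k) * u := by
          rcases h1 with rfl | rfl
          · refine ⟨S.ι e, ?_, S.cj_ι_t e, S.cj_ι_ι e, by rw [map_mul, mul_assoc]⟩
            rw [← map_mul, (by decide +kernel : e * e = 1), map_one]
          · refine ⟨t * S.ι e, ?_, S.cj_tι_t e, S.cj_tι_ι e, ?_⟩
            · rw [S.tι_mul_tι, (by decide +kernel : e * e = 1), map_one]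
            · rw [map_mul]
              calc m * (t * (S.ι k * S.ι e)) = m * (t * S.ι k) * S.ι e := by group
                _ = m * (S.ι k * t) * S.ι e := by rw [S.ι_t]
                _ = m * S.ι k * (t * S.ι e) := by group
        rw [hxu] at hsq
        have h3 := commute_of_sq hβ hu hsq
        have h4 : cj (m * S.ι k) (cj u t) = cj u (cj (m * S.ι k) t) := by
          rw [← cj_mul, ← cj_mul, h3]
        rw [hut, hcβ, map_mul, hut, huι] at h4
        have h5 := S.tι_inj h4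
        exact hc2 h5.symm
    · rintro ⟨π, hπ, rfl⟩
      have h2 := mem_H2L.1 hπ
      exact S.F_ι (H2_P0 h2) ((S.chi hL hT (H2_sq h2) (hcomm π h2)).2 hD)
  rw [hset, Set.ncard_coe_finset, Finset.card_image_of_injective _
    (fun π σ h => S.ι_inj (mul_left_cancel h)), card_H2]

end caseB

end Setup6

end Cfsg.Agent.Lib.Inv6
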