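import Mathlib
import Cfsg.Agent.Lib.Inv6Inv

/-!
# Involutions with centralizer `2 × S₆`: the case where `t` is conjugate to `t a`
-/

set_option autoImplicit false

namespace Cfsg.Agent.Lib.Inv6

open Equiv P6 Subgroup

variable {G : Type*} [Group G] {t : G}

namespace P6

/-- Conjugation by `g` preserves `H₂`. -/
theorem H2_g {k : S6} (h : k ∈ H2L) : g⁻¹ * k * g ∈ H2L :=
  all_mem H2L (fun k => g⁻¹ * k * g ∈ H2L) (by decide +kernel) k h

theorem mk_hL (B B₀ L : List S6) (h1 : B.all (fun β => decide (β ∈ B₀ ∨ β ∈ L)) = true)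
    (h2 : B₀.all (fun β => decide (β ∈ B)) = true) (h3 : L.all (fun β => decide (β ∈ B)) = true) :
    ∀ β, β ∈ B ↔ (β ∈ B₀ ∨ β ∈ L) := by
  intro β
  constructor
  · exact all_mem B (fun β => β ∈ B₀ ∨ β ∈ L) h1 β
  · rintro (h | h)
    · exact all_mem B₀ (fun β => β ∈ B) h2 β h
    · exact all_mem L (fun β => β ∈ B) h3 β h

theorem H2_gg {k : S6} (h : k ∈ H2L) : (g * g)⁻¹ * k * (g * g) ∈ H2L :=
  all_mem H2L (fun k => (g * g)⁻¹ * k * (g * g) ∈ H2L) (by decide +kernel) k h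

end P6

namespace Setup6

variable (S : Setup6 t)

theorem Acts_of_P0 {B : List S6} {x : G} {β : S6} (hβ : β ∈ B)
    (hP : ∀ π ∈ P0F, cj x (S.ι π) = S.ι π) (ht : cj x t = t * S.ι β) : S.Acts B x :=
  ⟨hP a a_mem, hP b b_mem, Or.inl (hP f f_mem), β, hβ, ht⟩

theorem Acts_of_H2 {B : List S6} {x : G} {β : S6} (hβ : β ∈ B)
    (hP : ∀ k ∈ H2L, cj x (S.ι k) = S.ι k) (ht : cj x t = t * S.ι β) : S.Acts B x :=
  ⟨hP a (by decide +kernel), hP b (by decide +kernel), Or.inl (hP f (by decide +kernel)), β, hβ, ht⟩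

/-- Conjugate an `H₂`-centralizing element by an element normalizing `H₂`. -/
theorem conj_H2 {x : G} {σ : S6} (hσ : ∀ k ∈ H2L, σ⁻¹ * k * σ ∈ H2L)
    (hx : ∀ k ∈ H2L, cj x (S.ι k) = S.ι k) :
    ∀ k ∈ H2L, cj (cj (S.ι σ) x) (S.ι k) = S.ι k := by
  intro k hk
  have hinv : ∀ τ : S6, cj (S.ι σ)⁻¹ (S.ι τ) = S.ι (σ⁻¹ * τ * σ) := by
    intro τ
    rw [← map_inv, S.cj_ι_ι, inv_inv]
  rw [cj_conj_apply, hinv, hx _ (hσ k hk), S.cj_ι_ι]
  congr 1
  group

theorem conj_t {x : G} {σ β : S6} (ht : cj x t = t * S.ι β) :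
    cj (cj (S.ι σ) x) t = t * S.ι (σ * β * σ⁻¹) := by
  have hinvt : cj (S.ι σ)⁻¹ t = t := by
    rw [← map_inv, S.cj_ι_t]
  rw [cj_conj_apply, hinvt, ht, map_mul, S.cj_ι_t, S.cj_ι_ι]

theorem conj_sq {x : G} {σ : S6} (h : x * x = 1) : cj (S.ι σ) x * cj (S.ι σ) x = 1 := by
  rw [← map_mul, h, map_one]

variable [Finite G]

theorem even_false {c n k : ℕ} (hc : Even c) (h : c * k = n * 1440) (h1 : k = 128 ∨ k = 256)
    (h2 : n = 12 ∨ n = 4 ∨ n = 40) (h3 : k = 256 → n = 40) (h4 : k = 128 → n ≠ 40) : False := by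
  obtain ⟨l, rfl⟩ := hc
  rcases h1 with rfl | rfl
  · rcases h2 with rfl | rfl | rfl
    · omega
    · omega
    · exact h4 rfl rfl
  · have := h3 rfl
    subst this
    omega

section

variable (hG : ∀ H : Subgroup G, H.index ≠ 2)
  (hL : ∀ π, ¬ IsConj t (S.ι π)) (hT : ∀ π, π * π = 1 → IsConj t (t * S.ι π))

include hG hL hT

/-- First branch: the involution moving `t` to `t a b` is not a conjugate of `t`. -/
theorem branch1 {y γ v : G} (hy : y * y = 1) (hyP : ∀ π ∈ P0F, cj y (S.ι π) = S.ι π)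
    (hyt : cj y t = t * S.ι b) (hgP : ∀ π ∈ P0F, cj γ (S.ι π) = S.ι π) (hgt : cj γ t = t * S.ι a)
    (hv : v * v = 1) (hvP : ∀ π ∈ P0F, cj v (S.ι π) = S.ι π) (hvt : cj v t = t * S.ι (a * b))
    (hvD : ¬ IsConj t v) : False := by
  classical
  have hba : b ≠ a * b := by decide +kernel
  let m : S6 → G := fun β => if β = b then y else v
  have hmb : m b = y := if_pos rfl
  have hmab : m (a * b) = v := if_neg (Ne.symm hba)
  have hLL : ∀ β ∈ [b, a * b], S.Acts Bab (m β) ∧ cj (m β) t = t * S.ι β := by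
    intro β hβ
    simp only [List.mem_cons, List.not_mem_nil, or_false] at hβ
    rcases hβ with rfl | rfl
    · rw [hmb]
      exact ⟨S.Acts_of_P0 (by decide +kernel) hyP hyt, hyt⟩
    · rw [hmab]
      exact ⟨S.Acts_of_P0 (by decide +kernel) hvP hvt, hvt⟩
  obtain ⟨c, hc, h⟩ := S.tl_acts hG good_Bab good_Ba (L := [b, a * b])
    (mk_hL _ _ _ (by decide +kernel) (by decide +kernel) (by decide +kernel))
    (all_mem _ (fun β => β ∉ Ba) (by decide +kernel))
    (all_all _ (fun β β' => β * β' ∈ Ba ∧ β * (e * β' * e⁻¹) ∈ Ba) (by decide +kernel)) m hLL ⟨b, by decide +kernel⟩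
  rw [S.card_Acts good_Bab (by decide +kernel) (by
    intro β hβ
    simp only [Bab, List.mem_cons, List.not_mem_nil, or_false] at hβ
    rcases hβ with rfl | rfl | rfl | rfl
    · exact ⟨1, S.Acts_one good_Bab, by rw [cj_one', map_one, mul_one]⟩
    · exact ⟨γ, S.Acts_of_P0 (by decide +kernel) hgP hgt, hgt⟩
    · exact ⟨y, S.Acts_of_P0 (by decide +kernel) hyP hyt, hyt⟩
    · exact ⟨v, S.Acts_of_P0 (by decide +kernel) hvP hvt, hvt⟩)] at h
  rw [S.ncard_L (by decide +kernel) m (fun β hβ => (hLL β hβ).2)] at h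
  simp only [List.map_cons, List.map_nil, List.sum_cons, List.sum_nil, hmb, hmab] at h
  have hv0 := (S.ncard_F12 hL hT hv hvP hvt (c₀ := a * b) (by
    intro π hπ
    exact all_mem P0L (fun π => a * b * (π * π) ≠ 1) (by decide +kernel) π (mem_P0L.1 hπ))).2 hvD
  have hy1 := S.ncard_Fy hL hT hy hyP hyt
  rw [hv0] at h
  obtain ⟨l, rfl⟩ := hc
  by_cases hyD : IsConj t y
  · rw [hy1.1 hyD] at h
    norm_num [Bab] at h
    omega
  · rw [hy1.2 hyD] at h
    norm_num [Bab] at h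
    omega

/-- Second branch: `v` is a conjugate of `t`, but the involution moving `t` to `t a` is not. -/
theorem branch2 {y γ v : G} (hyP : ∀ π ∈ P0F, cj y (S.ι π) = S.ι π)
    (hyt : cj y t = t * S.ι b) (hg : γ * γ = 1) (hgP : ∀ π ∈ P0F, cj γ (S.ι π) = S.ι π)
    (hgt : cj γ t = t * S.ι a)
    (hv : v * v = 1) (hvP : ∀ π ∈ P0F, cj v (S.ι π) = S.ι π) (hvt : cj v t = t * S.ι (a * b))
    (hvD : IsConj t v) (hgD : ¬ IsConj t γ) : False := by
  classical
  have hba : a ≠ a * b := by decide +kernel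
  let m : S6 → G := fun β => if β = a then γ else v
  have hma : m a = γ := if_pos rfl
  have hmab : m (a * b) = v := if_neg (Ne.symm hba)
  have hLL : ∀ β ∈ [a, a * b], S.Acts Bab (m β) ∧ cj (m β) t = t * S.ι β := by
    intro β hβ
    simp only [List.mem_cons, List.not_mem_nil, or_false] at hβ
    rcases hβ with rfl | rfl
    · rw [hma]
      exact ⟨S.Acts_of_P0 (by decide +kernel) hgP hgt, hgt⟩
    · rw [hmab]
      exact ⟨S.Acts_of_P0 (by decide +kernel) hvP hvt, hvt⟩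
  obtain ⟨c, hc, h⟩ := S.tl_acts hG good_Bab good_Bb (L := [a, a * b])
    (mk_hL _ _ _ (by decide +kernel) (by decide +kernel) (by decide +kernel))
    (all_mem _ (fun β => β ∉ Bb) (by decide +kernel))
    (all_all _ (fun β β' => β * β' ∈ Bb ∧ β * (e * β' * e⁻¹) ∈ Bb) (by decide +kernel)) m hLL ⟨a, by decide +kernel⟩
  rw [S.card_Acts good_Bab (by decide +kernel) (by
    intro β hβ
    simp only [Bab, List.mem_cons, List.not_mem_nil, or_false] at hβ
    rcases hβ with rfl | rfl | rfl | rfl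
    · exact ⟨1, S.Acts_one good_Bab, by rw [cj_one', map_one, mul_one]⟩
    · exact ⟨γ, S.Acts_of_P0 (by decide +kernel) hgP hgt, hgt⟩
    · exact ⟨y, S.Acts_of_P0 (by decide +kernel) hyP hyt, hyt⟩
    · exact ⟨v, S.Acts_of_P0 (by decide +kernel) hvP hvt, hvt⟩)] at h
  rw [S.ncard_L (by decide +kernel) m (fun β hβ => (hLL β hβ).2)] at h
  simp only [List.map_cons, List.map_nil, List.sum_cons, List.sum_nil, hma, hmab] at h
  have hv0 := (S.ncard_F12 hL hT hv hvP hvt (c₀ := a * b) (by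
    intro π hπ
    exact all_mem P0L (fun π => a * b * (π * π) ≠ 1) (by decide +kernel) π (mem_P0L.1 hπ))).1 hvD
  have hg0 := (S.ncard_F12 hL hT hg hgP hgt (c₀ := a) (by
    intro π hπ
    exact all_mem P0L (fun π => a * (π * π) ≠ 1) (by decide +kernel) π (mem_P0L.1 hπ))).2 hgD
  rw [hv0, hg0] at h
  obtain ⟨l, rfl⟩ := hc
  norm_num [Bab] at h
  omega

/-- Third branch. -/
theorem branch3 {y γ v : G} (hyP : ∀ π ∈ P0F, cj y (S.ι π) = S.ι π)
    (hyt : cj y t = t * S.ι b) (hg : γ * γ = 1) (hgP : ∀ π ∈ P0F, cj γ (S.ι π) = S.ι π)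
    (hgt : cj γ t = t * S.ι a)
    (hv : v * v = 1) (hvP : ∀ π ∈ P0F, cj v (S.ι π) = S.ι π) (hvt : cj v t = t * S.ι (a * b))
    (hvD : IsConj t v) (hgD : IsConj t γ) : False := by
  classical
  have hvH : ∀ k ∈ H2L, cj v (S.ι k) = S.ι k := fun k hk => hvP k (H2_P0 hk)
  have hyH : ∀ k ∈ H2L, cj y (S.ι k) = S.ι k := fun k hk => hyP k (H2_P0 hk)
  have hgH : ∀ k ∈ H2L, cj γ (S.ι k) = S.ι k := fun k hk => hgP k (H2_P0 hk)
  set v₁ := cj (S.ι g) v with hv₁
  set v₃ := cj (S.ι (g * g)) v with hv₃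
  have hv₁H := S.conj_H2 (fun k hk => H2_g hk) hvH
  have hv₃H := S.conj_H2 (fun k hk => H2_gg hk) hvH
  have hz₂H := S.conj_H2 (fun k hk => H2_g hk) hyH
  have hz₃H := S.conj_H2 (fun k hk => H2_gg hk) hyH
  have hv₁t : cj v₁ t = t * S.ι (a * f) := by
    rw [hv₁, S.conj_t hvt, (by decide +kernel : g * (a * b) * g⁻¹ = a * f)]
  have hv₃t : cj v₃ t = t * S.ι (a * f2) := by
    rw [hv₃, S.conj_t hvt, (by decide +kernel : (g * g) * (a * b) * (g * g)⁻¹ = a * f2)]
  have hz₂t : cj (cj (S.ι g) y) t = t * S.ι f := by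
    rw [S.conj_t hyt, (by decide +kernel : g * b * g⁻¹ = f)]
  have hz₃t : cj (cj (S.ι (g * g)) y) t = t * S.ι f2 := by
    rw [S.conj_t hyt, (by decide +kernel : (g * g) * b * (g * g)⁻¹ = f2)]
  let m : S6 → G := fun β => if β = a then γ else if β = a * b then v else if β = a * f then v₁ else v₃
  have hma : m a = γ := if_pos rfl
  have hmab : m (a * b) = v := by
    change (if a * b = a then γ else if a * b = a * b then v else if a * b = a * f then v₁ else v₃) = v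
    rw [if_neg (by decide +kernel), if_pos rfl]
  have hmaf : m (a * f) = v₁ := by
    change (if a * f = a then γ else if a * f = a * b then v else if a * f = a * f then v₁ else v₃) = v₁
    rw [if_neg (by decide +kernel), if_neg (by decide +kernel), if_pos rfl]
  have hmaf2 : m (a * f2) = v₃ := by
    change (if a * f2 = a then γ else if a * f2 = a * b then v else if a * f2 = a * f then v₁ else v₃) = v₃
    rw [if_neg (by decide +kernel), if_neg (by decide +kernel), if_neg (by decide +kernel)]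
  have hLL : ∀ β ∈ [a, a * b, a * f, a * f2], S.Acts H2L (m β) ∧ cj (m β) t = t * S.ι β := by
    intro β hβ
    simp only [List.mem_cons, List.not_mem_nil, or_false] at hβ
    rcases hβ with rfl | rfl | rfl | rfl
    · rw [hma]
      exact ⟨S.Acts_of_P0 (by decide +kernel) hgP hgt, hgt⟩
    · rw [hmab]
      exact ⟨S.Acts_of_P0 (by decide +kernel) hvP hvt, hvt⟩
    · rw [hmaf]
      exact ⟨S.Acts_of_H2 (by decide +kernel) hv₁H hv₁t, hv₁t⟩
    · rw [hmaf2]
      exact ⟨S.Acts_of_H2 (by decide +kernel) hv₃H hv₃t, hv₃t⟩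
  obtain ⟨c, hc, h⟩ := S.tl_acts hG good_H2 good_V4 (L := [a, a * b, a * f, a * f2])
    (mk_hL _ _ _ (by decide +kernel) (by decide +kernel) (by decide +kernel))
    (all_mem _ (fun β => β ∉ V4) (by decide +kernel))
    (all_all _ (fun β β' => β * β' ∈ V4 ∧ β * (e * β' * e⁻¹) ∈ V4) (by decide +kernel)) m hLL ⟨a, by decide +kernel⟩
  rw [S.card_Acts good_H2 (by decide +kernel) (by
    intro β hβ
    simp only [H2L, List.mem_cons, List.not_mem_nil, or_false] at hβ
    rcases hβ with rfl | rfl | rfl | rfl | rfl | rfl | rfl | rfl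
    · exact ⟨1, S.Acts_one good_H2, by rw [cj_one', map_one, mul_one]⟩
    · exact ⟨γ, S.Acts_of_P0 (by decide +kernel) hgP hgt, hgt⟩
    · exact ⟨y, S.Acts_of_P0 (by decide +kernel) hyP hyt, hyt⟩
    · exact ⟨v, S.Acts_of_P0 (by decide +kernel) hvP hvt, hvt⟩
    · exact ⟨_, S.Acts_of_H2 (by decide +kernel) hz₂H hz₂t, hz₂t⟩
    · exact ⟨_, S.Acts_of_H2 (by decide +kernel) hz₃H hz₃t, hz₃t⟩
    · exact ⟨v₁, S.Acts_of_H2 (by decide +kernel) hv₁H hv₁t, hv₁t⟩
    · exact ⟨v₃, S.Acts_of_H2 (by decide +kernel) hv₃H hv₃t, hv₃t⟩)] at h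
  rw [S.ncard_L (by decide +kernel) m (fun β hβ => (hLL β hβ).2)] at h
  simp only [List.map_cons, List.map_nil, List.sum_cons, List.sum_nil, hma, hmab, hmaf, hmaf2] at h
  have hv0 := (S.ncard_F12 hL hT hv hvP hvt (c₀ := a * b) (by
    intro π hπ
    exact all_mem P0L (fun π => a * b * (π * π) ≠ 1) (by decide +kernel) π (mem_P0L.1 hπ))).1 hvD
  have hg0 := (S.ncard_F12 hL hT hg hgP hgt (c₀ := a) (by
    intro π hπ
    exact all_mem P0L (fun π => a * (π * π) ≠ 1) (by decide +kernel) π (mem_P0L.1 hπ))).1 hgD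
  have hv1 := S.ncard_F8 hL hT (conj_sq S hv) hv₁H hv₁t (by decide +kernel) (by decide +kernel)
    ((isConj_cj _ _).2 hvD)
  have hv3 := S.ncard_F8 hL hT (conj_sq S hv) hv₃H hv₃t (by decide +kernel) (by decide +kernel)
    ((isConj_cj _ _).2 hvD)
  rw [hv0, hg0, hv1, hv3] at h
  obtain ⟨l, rfl⟩ := hc
  norm_num [H2L] at h
  omega

end

end Setup6

end Cfsg.Agent.Lib.Inv6
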