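import Mathlib
import Cfsg.Agent.Lib.Inv7TLP

/-!
# Involutions with centralizer `2 × S₇`: `t` is conjugate to `t b`
-/

set_option autoImplicit false

namespace Cfsg.Agent.Lib.Inv7

open Equiv P7 Subgroup

variable {G : Type*} [Group G] {t : G}

theorem three_cycle {α : Type*} (T : α → α) (hinj : Function.Injective T) (A B C : α)
    (hAB : A ≠ B) (hAC : A ≠ C) (hBC : B ≠ C)
    (hW : ∀ x, (x = A ∨ x = B ∨ x = C) → (T x = A ∨ T x = B ∨ T x = C))
    (hfix : ∀ x, (x = A ∨ x = B ∨ x = C) → T x ≠ x) : T (T (T A)) = A := by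
  have hA := hfix A (Or.inl rfl)
  have hB := hfix B (Or.inr (Or.inl rfl))
  have hC := hfix C (Or.inr (Or.inr rfl))
  have wA := hW A (Or.inl rfl)
  have wB := hW B (Or.inr (Or.inl rfl))
  have wC := hW C (Or.inr (Or.inr rfl))
  rcases wA with h1 | h1 | h1
  · exact absurd h1 hA
  · rcases wB with h2 | h2 | h2
    · rcases wC with h3 | h3 | h3
      · exact absurd (hinj (h3.trans h2.symm)) hBC.symm
      · exact absurd (hinj (h3.trans h1.symm)) hAC.symm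
      · exact absurd h3 hC
    · exact absurd h2 hB
    · rcases wC with h3 | h3 | h3
      · rw [h1, h2, h3]
      · exact absurd (hinj (h3.trans h1.symm)) hAC.symm
      · exact absurd h3 hC
  · rcases wC with h3 | h3 | h3
    · rcases wB with h2 | h2 | h2
      · exact absurd (hinj (h3.trans h2.symm)) hBC.symm
      · exact absurd h2 hB
      · exact absurd (hinj (h2.trans h1.symm)) hAB.symm
    · rcases wB with h2 | h2 | h2
      · rw [h1, h3, h2]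
      · exact absurd h2 hB
      · exact absurd (hinj (h2.trans h1.symm)) hAB.symm
    · exact absurd h3 hC

theorem exists_fix_of_card4 {X : Type*} (T : X → X) (h3 : ∀ x, T (T (T x)) = x) (F : Finset X)
    (hF : F.card = 4) (hcl : ∀ x ∈ F, T x ∈ F) : ∃ x ∈ F, T x = x := by
  classical
  haveI : Fact (Nat.Prime 3) := ⟨Nat.prime_three⟩
  let f : Function.End F := fun x => ⟨T x, hcl x x.2⟩
  have hf : f ^ 3 ^ 1 = 1 := by
    funext x
    apply Subtype.ext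
    exact h3 x
  have h := Equiv.Perm.card_fixedPoints_modEq (p := 3) (n := 1) hf
  rw [Fintype.card_coe, hF] at h
  by_contra hne
  push Not at hne
  have h0 : Fintype.card (Function.fixedPoints f) = 0 := by
    rw [Fintype.card_eq_zero_iff]
    constructor
    rintro ⟨x, hx⟩
    exact hne x x.2 (congrArg Subtype.val hx)
  rw [h0] at h
  exact absurd h (by decide)

namespace Setup7

variable (S : Setup7 t)

theorem not_D_one (S : Setup7 t) : ¬ IsConj t (1 : G) := by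
  intro h
  have h1 : t = 1 := isConj_one_right.1 h.symm
  apply S.t_ne' 1
  rw [map_one]
  exact h1

theorem cls_ι {π : S7} (hπ : π ∈ P0F) (hZ : π ∉ Z0F) [Finite G] (hD : IsConj t (S.ι π)) :
    (IsConj t (S.ι a) ∧ (π = e ∨ π = e2)) ∨ (IsConj t (S.ι (a * b)) ∧ (π = f * a ∨ π = f2 * a)) := by
  have hb := S.not_D_b
  rcases P0_table hπ with h | rfl | rfl | rfl | rfl | rfl | rfl | rfl | rfl | h
  · exact absurd h hZ
  · exact Or.inl ⟨(S.ι_isConj_D conj_a_e).1 hD, Or.inl rfl⟩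
  · exact Or.inl ⟨(S.ι_isConj_D conj_a_e2).1 hD, Or.inr rfl⟩
  · exact absurd ((S.ι_isConj_D conj_b_ea).1 hD) hb
  · exact absurd ((S.ι_isConj_D conj_b_e2a).1 hD) hb
  · exact absurd ((S.ι_isConj_D conj_b_f).1 hD) hb
  · exact absurd ((S.ι_isConj_D conj_b_f2).1 hD) hb
  · exact Or.inr ⟨(S.ι_isConj_D conj_ab_fa).1 hD, Or.inl rfl⟩
  · exact Or.inr ⟨(S.ι_isConj_D conj_ab_f2a).1 hD, Or.inr rfl⟩
  · exact absurd hD (S.not_D_ι_of_sq h)

theorem cls_t {π : S7} (hπ : π ∈ P0F) (hZ : π ∉ Z0F) (hD : IsConj t (t * S.ι π))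
    (hθ : ¬ IsConj t (t * S.ι b)) :
    (IsConj t (t * S.ι a) ∧ (π = e ∨ π = e2)) ∨
      (IsConj t (t * S.ι (a * b)) ∧ (π = f * a ∨ π = f2 * a)) := by
  rcases P0_table hπ with h | rfl | rfl | rfl | rfl | rfl | rfl | rfl | rfl | h
  · exact absurd h hZ
  · exact Or.inl ⟨(S.tι_isConj_D conj_a_e).1 hD, Or.inl rfl⟩
  · exact Or.inl ⟨(S.tι_isConj_D conj_a_e2).1 hD, Or.inr rfl⟩
  · exact absurd ((S.tι_isConj_D conj_b_ea).1 hD) hθ
  · exact absurd ((S.tι_isConj_D conj_b_e2a).1 hD) hθ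
  · exact absurd ((S.tι_isConj_D conj_b_f).1 hD) hθ
  · exact absurd ((S.tι_isConj_D conj_b_f2).1 hD) hθ
  · exact Or.inr ⟨(S.tι_isConj_D conj_ab_fa).1 hD, Or.inl rfl⟩
  · exact Or.inr ⟨(S.tι_isConj_D conj_ab_f2a).1 hD, Or.inr rfl⟩
  · exact absurd hD (S.not_D_tι_of_sq h)

theorem abb : (a * b) * b = a := by decide +kernel

section theta0

variable [Finite G] {s₁ s₂ : S7}

/-- The conjugates of `t` in the centre of `P`. -/
theorem W_cases (hs₁ : s₁ = a ∨ s₁ = a * b) (hs₂ : s₂ = a ∨ s₂ = a * b)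
    (hN₁ : ¬ IsConj t (S.ι (s₁ * b))) (hN₂ : ¬ IsConj t (t * S.ι (s₂ * b)))
    (hθ : ¬ IsConj t (t * S.ι b)) {x : G} (hx : S.InZ x) (hD : IsConj t x) :
    x = t ∨ x = S.ι s₁ ∨ x = t * S.ι s₂ := by
  obtain ⟨s, hs, h⟩ := S.InZ_cases hx
  rcases Z0_cases hs with rfl | rfl | rfl | rfl
  · rcases h with rfl | rfl
    · rw [map_one] at hD
      exact absurd hD S.not_D_one
    · left; simp
  · rcases h with rfl | rfl
    · rcases hs₁ with rfl | rfl
      · right; left; rfl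
      · rw [abb] at hN₁; exact absurd hD hN₁
    · rcases hs₂ with rfl | rfl
      · right; right; rfl
      · rw [abb] at hN₂; exact absurd hD hN₂
  · rcases h with rfl | rfl
    · exact absurd hD S.not_D_b
    · exact absurd hD hθ
  · rcases h with rfl | rfl
    · rcases hs₁ with rfl | rfl
      · exact absurd hD hN₁
      · right; left; rfl
    · rcases hs₂ with rfl | rfl
      · exact absurd hD hN₂
      · right; right; rfl

theorem s_mem_Z {s : S7} (hs : s = a ∨ s = a * b) : s ∈ Z0F := by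
  rcases hs with rfl | rfl
  · exact a_mem_Z0
  · exact ab_mem_Z0

/-- An element normalizing `P` and moving `t` permutes the three conjugates in a cycle. -/
theorem cyc3 (hs₁ : s₁ = a ∨ s₁ = a * b) (hs₂ : s₂ = a ∨ s₂ = a * b)
    (hD₁ : IsConj t (S.ι s₁)) (hN₁ : ¬ IsConj t (S.ι (s₁ * b)))
    (hD₂ : IsConj t (t * S.ι s₂)) (hN₂ : ¬ IsConj t (t * S.ι (s₂ * b)))
    (hθ : ¬ IsConj t (t * S.ι b)) {n : G} (hn : S.Nm n) (hnP : n ∉ S.P) :
    cj n (cj n (cj n t)) = t := by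
  have hz1 := S.InZ_ι (s_mem_Z hs₁)
  have hz2 := S.InZ_tι (s_mem_Z hs₂)
  have hz0 := S.InZ_t
  have hD₀ : IsConj t t := IsConj.refl t
  apply three_cycle (fun x => cj n x) (cj n).injective t (S.ι s₁) (t * S.ι s₂)
  · exact S.t_ne' _
  · intro h
    have : t * S.ι 1 = t * S.ι s₂ := by rw [map_one, mul_one]; exact h
    have h3 := S.tι_inj this
    rw [← h3] at hs₂
    rcases hs₂ with h4 | h4
    · exact absurd h4 (by decide +kernel)
    · exact absurd h4 (by decide +kernel)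
  · intro h; exact S.t_ne _ _ h.symm
  · rintro x (rfl | rfl | rfl)
    · exact S.W_cases hs₁ hs₂ hN₁ hN₂ hθ (S.InZ_map hn hz0) ((isConj_cj n _).2 hD₀)
    · exact S.W_cases hs₁ hs₂ hN₁ hN₂ hθ (S.InZ_map hn hz1) ((isConj_cj n _).2 hD₁)
    · exact S.W_cases hs₁ hs₂ hN₁ hN₂ hθ (S.InZ_map hn hz2) ((isConj_cj n _).2 hD₂)
  · rintro x (rfl | rfl | rfl) h
    · exact hnP (S.free hn hz0 hD₀ h)
    · exact hnP (S.free hn hz1 hD₁ h)
    · exact hnP (S.free hn hz2 hD₂ h)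

/-- `P` has odd index. -/
theorem odd_index (hfree : ∀ u, S.Nm u → (∃ k : ℕ, u ^ (2 ^ k) = 1) → u ∈ S.P) :
    ∃ m, ¬ 2 ∣ m ∧ Nat.card G = 32 * m := by
  classical
  haveI : Fact (Nat.Prime 2) := ⟨Nat.prime_two⟩
  have hp : IsPGroup 2 S.P := IsPGroup.of_card (n := 5) (by rw [S.card_P]; norm_num)
  obtain ⟨Q, hQ⟩ := hp.exists_le_sylow
  have hPQ : S.P = Q := by
    by_contra hne
    let P' : Subgroup (Q : Subgroup G) := S.P.subgroupOf (Q : Subgroup G)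
    have hP' : P' ≠ ⊤ := by
      intro h
      apply hne
      apply le_antisymm hQ
      intro x hx
      have : (⟨x, hx⟩ : (Q : Subgroup G)) ∈ P' := by rw [h]; trivial
      simpa [P', Subgroup.mem_subgroupOf] using this
    haveI : Group.IsNilpotent (Q : Subgroup G) := Q.isPGroup'.isNilpotent
    have hlt : P' < normalizer (P' : Set (Q : Subgroup G)) :=
      normalizerCondition_of_isNilpotent P' (lt_top_iff_ne_top.2 hP')
    obtain ⟨u, hu, huP⟩ := SetLike.exists_of_lt hlt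
    apply huP
    have hk : ∃ k : ℕ, (u : G) ^ (2 ^ k) = 1 := by
      obtain ⟨k, hk⟩ := Q.isPGroup' u
      refine ⟨k, ?_⟩
      have := congrArg Subtype.val hk
      simpa using this
    have hNm : S.Nm (u : G) := by
      intro x hx
      have h1 : (⟨x, hQ hx⟩ : (Q : Subgroup G)) ∈ P' := by
        simpa [P', Subgroup.mem_subgroupOf] using hx
      have h2 := (Subgroup.mem_normalizer_iff.1 hu _).1 h1
      simpa [P', Subgroup.mem_subgroupOf] using h2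
    have := hfree _ hNm hk
    simpa [P', Subgroup.mem_subgroupOf] using this
  have hcard : Nat.card (Q : Subgroup G) = 2 ^ (Nat.card G).factorization 2 :=
    Q.card_eq_multiplicity
  rw [← hPQ, S.card_P] at hcard
  have h5 : (Nat.card G).factorization 2 = 5 := by
    have h32 : (32 : ℕ) = 2 ^ 5 := by norm_num
    rw [h32] at hcard
    exact (Nat.pow_right_injective (le_refl 2) hcard).symm
  refine ⟨ordCompl[2] (Nat.card G), Nat.not_dvd_ordCompl Nat.prime_two Nat.card_pos.ne', ?_⟩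
  have := Nat.ordProj_mul_ordCompl_eq_self (Nat.card G) 2
  generalize ordCompl[2] (Nat.card G) = q at this ⊢
  rw [h5] at this
  norm_num at this
  omega

theorem P_pow4 {x : G} (h : x ∈ S.P) : x ^ 4 = 1 := by
  have h1 : x ^ 4 = (x * x) * (x * x) := by
    rw [show (4 : ℕ) = 2 + 2 from rfl, pow_add, pow_two]
  rw [h1]
  rcases S.sq_P h with h2 | h2
  · rw [h2, one_mul]
  · rw [h2, ← map_mul, (by decide +kernel : b * b = 1), map_one]

/-- The representative of the non-central part of a class. -/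
def Uf (s : S7) : S7 := if s = a then e else f * a

theorem Uf_props {s : S7} (hs : s = a ∨ s = a * b) :
    Uf s ∈ P0F ∧ Uf s * b ∈ P0F ∧ Uf s ∉ Z0F ∧ Uf s * b ∉ Z0F ∧ Uf s ≠ Uf s * b := by
  rcases hs with rfl | rfl
  · rw [Uf, if_pos rfl]; decide +kernel
  · rw [Uf, if_neg (by decide +kernel)]; decide +kernel

theorem Uf_Dι {s : S7} (hs : s = a ∨ s = a * b) (hD : IsConj t (S.ι s)) :
    IsConj t (S.ι (Uf s)) ∧ IsConj t (S.ι (Uf s * b)) := by
  rcases hs with rfl | rfl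
  · rw [Uf, if_pos rfl, (by decide +kernel : e * b = e2)]
    exact ⟨(S.ι_isConj_D conj_a_e).2 hD, (S.ι_isConj_D conj_a_e2).2 hD⟩
  · rw [Uf, if_neg (by decide +kernel), (by decide +kernel : f * a * b = f2 * a)]
    exact ⟨(S.ι_isConj_D conj_ab_fa).2 hD, (S.ι_isConj_D conj_ab_f2a).2 hD⟩

theorem Uf_Dt {s : S7} (hs : s = a ∨ s = a * b) (hD : IsConj t (t * S.ι s)) :
    IsConj t (t * S.ι (Uf s)) ∧ IsConj t (t * S.ι (Uf s * b)) := by
  rcases hs with rfl | rfl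
  · rw [Uf, if_pos rfl, (by decide +kernel : e * b = e2)]
    exact ⟨(S.tι_isConj_D conj_a_e).2 hD, (S.tι_isConj_D conj_a_e2).2 hD⟩
  · rw [Uf, if_neg (by decide +kernel), (by decide +kernel : f * a * b = f2 * a)]
    exact ⟨(S.tι_isConj_D conj_ab_fa).2 hD, (S.tι_isConj_D conj_ab_f2a).2 hD⟩

theorem InZ_ι_iff {π : S7} (h : S.InZ (S.ι π)) : π ∈ Z0F := by
  obtain ⟨s, hs, h1⟩ := S.InZ_cases h
  rcases h1 with h1 | h1
  · rwa [S.ι_inj h1]
  · exact absurd h1.symm (S.t_ne _ _)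

theorem InZ_tι_iff {π : S7} (h : S.InZ (t * S.ι π)) : π ∈ Z0F := by
  obtain ⟨s, hs, h1⟩ := S.InZ_cases h
  rcases h1 with h1 | h1
  · exact absurd h1 (S.t_ne _ _)
  · rwa [S.tι_inj h1]

theorem Uf_a : Uf a = e := by rw [Uf, if_pos rfl]
theorem Uf_a_b : Uf a * b = e2 := by rw [Uf_a]; decide +kernel
theorem Uf_ab : Uf (a * b) = f * a := by rw [Uf, if_neg (by decide +kernel)]
theorem Uf_ab_b : Uf (a * b) * b = f2 * a := by rw [Uf_ab]; decide +kernel

/-- The non-central conjugates in `P`. -/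
theorem S0_table {s₁ s₂ : S7} (hs₁ : s₁ = a ∨ s₁ = a * b) (hs₂ : s₂ = a ∨ s₂ = a * b)
    (hN₁ : ¬ IsConj t (S.ι (s₁ * b))) (hN₂ : ¬ IsConj t (t * S.ι (s₂ * b)))
    (hθ : ¬ IsConj t (t * S.ι b)) {x : G} (hx : x ∈ S.P) (hD : IsConj t x) (hZ : ¬ S.InZ x) :
    x = S.ι (Uf s₁) ∨ x = S.ι (Uf s₁ * b) ∨ x = t * S.ι (Uf s₂) ∨ x = t * S.ι (Uf s₂ * b) := by
  obtain ⟨π, hπ, h1⟩ := S.P_cases hx
  rcases h1 with rfl | rfl
  · have hπZ : π ∉ Z0F := fun h => hZ (S.InZ_ι h)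
    rcases S.cls_ι hπ hπZ hD with ⟨h2, h3⟩ | ⟨h2, h3⟩
    · rcases hs₁ with rfl | rfl
      · rw [Uf_a_b, Uf_a]
        rcases h3 with rfl | rfl
        · left; rfl
        · right; left; rfl
      · exfalso; apply hN₁; rwa [abb]
    · rcases hs₁ with rfl | rfl
      · exact absurd h2 hN₁
      · rw [Uf_ab_b, Uf_ab]
        rcases h3 with rfl | rfl
        · left; rfl
        · right; left; rfl
  · have hπZ : π ∉ Z0F := fun h => hZ (S.InZ_tι h)
    rcases S.cls_t hπ hπZ hD hθ with ⟨h2, h3⟩ | ⟨h2, h3⟩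
    · rcases hs₂ with rfl | rfl
      · rw [Uf_a_b, Uf_a]
        rcases h3 with rfl | rfl
        · right; right; left; rfl
        · right; right; right; rfl
      · exfalso; apply hN₂; rwa [abb]
    · rcases hs₂ with rfl | rfl
      · exact absurd h2 hN₂
      · rw [Uf_ab_b, Uf_ab]
        rcases h3 with rfl | rfl
        · right; right; left; rfl
        · right; right; right; rfl

/-- An element of the centralizer permuting a class with trivial norm lies in the even part. -/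
theorem even_of_rel {v g : G} (hv : v * t = t * v) (hg : g * t = t * g)
    (hrel : v * cj g v * cj g (cj g v) = 1) (hsq : v * v = 1) (hne : v ≠ 1) :
    ∃ c, cj c (S.ι b) = v := by
  obtain ⟨σ, hσ⟩ := S.cases hg
  have hgι : ∀ π, cj g (S.ι π) = S.ι (σ * π * σ⁻¹) := by
    intro π
    rcases hσ with rfl | rfl
    · exact S.cj_ι_ι σ π
    · exact S.cj_tι_ι σ π
  have hgt : cj g t = t := cj_fix_iff.2 hg
  obtain ⟨π, hπ⟩ := S.cases hv
  rcases hπ with rfl | rfl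
  · rw [hgι, hgι, ← map_mul, ← map_mul] at hrel
    have h1 := S.ι_inj (hrel.trans (map_one _).symm)
    have h2 := congrArg Perm.sign h1
    simp only [map_mul, map_inv, map_one, Perm.sign_inv] at h2
    have h3 : Perm.sign π = 1 := by
      rcases Int.units_eq_one_or (Perm.sign π) with h | h
      · exact h
      · exfalso
        rcases Int.units_eq_one_or (Perm.sign σ) with h' | h' <;> rw [h, h'] at h2 <;>
          exact absurd h2 (by decide)
    have h4 : π ^ 2 = 1 := by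
      rw [pow_two]
      apply S.ι_inj
      rw [map_mul, hsq, map_one]
    have h5 : π ≠ 1 := by
      rintro rfl
      exact hne (map_one _)
    rcases inv_class π h4 h5 with ⟨-, h6⟩ | ⟨h6, -⟩
    · obtain ⟨c, rfl⟩ := isConj_iff.1 h6
      exact ⟨S.ι c, S.cj_ι_ι c b⟩
    · rw [h3] at h6
      exact absurd h6 (by decide)
  · exfalso
    have hgtι : ∀ π, cj g (t * S.ι π) = t * S.ι (σ * π * σ⁻¹) := by
      intro π
      rw [map_mul, hgt, hgι]
    rw [hgtι, hgtι, S.tι_mul_tι, S.ι_mul_tι] at hrel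
    exact S.t_ne _ 1 (by rw [hrel, map_one])

/-- If `P` has odd index, `tb` is not conjugate to `b`. -/
theorem burnside_b (hodd : ∃ m, ¬ 2 ∣ m ∧ Nat.card G = 32 * m) {c₁ : G}
    (hc : cj c₁ (S.ι b) = t * S.ι b) : False := by
  obtain ⟨m, hm, hG⟩ := hodd
  let C : Subgroup G := centralizer ({S.ι b} : Set G)
  have hPC : S.P ≤ C := by
    intro x hx
    exact Subgroup.mem_centralizer_singleton_iff.2 (S.mem_P.1 hx).2.2
  let B : Subgroup G := S.P.map (cj c₁⁻¹).toMonoidHom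
  have hcB : Nat.card B = 32 := by
    rw [← S.card_P]
    exact Nat.card_congr (S.P.equivMapOfInjective _ (cj c₁⁻¹).injective).toEquiv.symm
  have hBC : B ≤ C := by
    rintro _ ⟨x, hx, rfl⟩
    apply Subgroup.mem_centralizer_singleton_iff.2
    have hz := (S.InZ_tι b_mem_Z0).2 x hx
    have h3 : cj c₁⁻¹ (x * (t * S.ι b)) = cj c₁⁻¹ ((t * S.ι b) * x) := by rw [hz]
    rw [map_mul, map_mul (cj c₁⁻¹) (t * S.ι b), ← hc, cj_inv_cj] at h3
    exact h3
  obtain ⟨m', hm'⟩ : 32 ∣ Nat.card C := by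
    rw [← S.card_P]
    exact Subgroup.card_dvd_of_le hPC
  have hm'2 : ¬ 2 ∣ m' := by
    intro h
    apply hm
    have h1 : Nat.card C ∣ Nat.card G := Subgroup.card_subgroup_dvd_card C
    rw [hm', hG] at h1
    exact h.trans (Nat.dvd_of_mul_dvd_mul_left (by norm_num) h1)
  obtain ⟨c', hc', hc2⟩ := sylow_conj_in C B S.P hBC hPC hcB S.card_P hm' hm'2
  have hN : S.Nm (c' * c₁⁻¹) := by
    intro x hx
    have := hc2 (cj c₁⁻¹ x) ⟨x, hx, rfl⟩
    simpa [cj_def, mul_assoc] using this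
  have h4 := S.fix_b hN
  have h5 : cj (c' * c₁⁻¹) (t * S.ι b) = S.ι b := by
    rw [cj_mul, ← hc, cj_inv_cj, cj_fix_iff]
    exact Subgroup.mem_centralizer_singleton_iff.1 hc'
  exact S.t_ne _ _ ((cj (c' * c₁⁻¹)).injective (h5.trans h4.symm))

theorem no_theta_core {s₁ s₂ : S7} (hs₁ : s₁ = a ∨ s₁ = a * b) (hs₂ : s₂ = a ∨ s₂ = a * b)
    (hD₁ : IsConj t (S.ι s₁)) (hN₁ : ¬ IsConj t (S.ι (s₁ * b)))
    (hD₂ : IsConj t (t * S.ι s₂)) (hN₂ : ¬ IsConj t (t * S.ι (s₂ * b)))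
    (hθ : ¬ IsConj t (t * S.ι b)) : False := by
  classical
  have hz1 := S.InZ_ι (s_mem_Z hs₁)
  have hz2 := S.InZ_tι (s_mem_Z hs₂)
  obtain ⟨n₁, h1, h2⟩ := S.exists_n hD₁ hz1.2
  have hmemfix : ∀ {p x : G}, p ∈ S.P → S.InZ x → cj p x = x := fun hp hx =>
    cj_fix_iff.2 (hx.2 _ hp)
  have hnP : n₁ ∉ S.P := by
    intro h
    have h3 := hmemfix h S.InZ_t
    rw [h1] at h3
    exact S.t_ne' _ h3.symm
  have hc3 := S.cyc3 hs₁ hs₂ hD₁ hN₁ hD₂ hN₂ hθ h2 hnP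
  have hpow3 : ∀ x, cj (n₁ ^ 3) x = cj n₁ (cj n₁ (cj n₁ x)) := by
    intro x
    rw [pow_succ, pow_two, cj_mul, cj_mul]
  have h3 : n₁ ^ 3 ∈ S.P := S.self_norm (S.Nm_pow h2 3) (by rw [hpow3, hc3])
  have hn1s : cj n₁ (S.ι s₁) = t * S.ι s₂ := by
    rcases S.W_cases hs₁ hs₂ hN₁ hN₂ hθ (S.InZ_map h2 hz1) ((isConj_cj n₁ _).2 hD₁) with h4 | h4 | h4
    · exfalso
      have h5 : cj n₁ (cj n₁ (cj n₁ t)) = cj n₁ t := by rw [h1, h4, h1]
      rw [hc3, h1] at h5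
      exact S.t_ne' _ h5
    · exact absurd (S.free h2 hz1 hD₁ h4) hnP
    · exact h4
  have hn2s : cj n₁ (t * S.ι s₂) = t := by
    rw [← hn1s, ← h1]
    exact hc3
  -- the element of order three
  let g := n₁ ^ 4
  have hg3 : g ^ 3 = 1 := by
    change (n₁ ^ 4) ^ 3 = 1
    rw [← pow_mul, mul_comm, pow_mul]
    exact S.P_pow4 h3
  have hgcj : ∀ x, cj g x = cj (n₁ ^ 3) (cj n₁ x) := by
    intro x
    change cj (n₁ ^ 4) x = _
    rw [pow_succ n₁ 3, cj_mul]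
  have hgt : cj g t = S.ι s₁ := by
    rw [hgcj, h1, hmemfix h3 hz1]
  have hg1 : cj g (S.ι s₁) = t * S.ι s₂ := by
    rw [hgcj, hn1s, hmemfix h3 hz2]
  have hg2 : cj g (t * S.ι s₂) = t := by
    rw [hgcj, hn2s, hmemfix h3 S.InZ_t]
  have hgN : S.Nm g := S.Nm_pow h2 4
  have hg3' : ∀ x, cj g (cj g (cj g x)) = x := by
    intro x
    rw [← cj_mul, ← cj_mul, ← pow_two, ← pow_succ, hg3, cj_one']
  -- the fixed point `f₀`
  obtain ⟨u1, u2, u3, u4, u5⟩ := Uf_props hs₁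
  obtain ⟨v1, v2, v3, v4, v5⟩ := Uf_props hs₂
  obtain ⟨d1, d2⟩ := S.Uf_Dι hs₁ hD₁
  obtain ⟨d3, d4⟩ := S.Uf_Dt hs₂ hD₂
  let F : Finset G := {S.ι (Uf s₁), S.ι (Uf s₁ * b), t * S.ι (Uf s₂), t * S.ι (Uf s₂ * b)}
  have hFmem : ∀ x, x ∈ F ↔ (x = S.ι (Uf s₁) ∨ x = S.ι (Uf s₁ * b) ∨ x = t * S.ι (Uf s₂) ∨
      x = t * S.ι (Uf s₂ * b)) := by
    intro x; simp [F]
  have hF3 : ∀ x ∈ F, x ∈ S.P ∧ IsConj t x ∧ ¬ S.InZ x := by
    intro x hx
    rcases (hFmem x).1 hx with rfl | rfl | rfl | rfl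
    · exact ⟨S.ι_mem_P u1, d1, fun h => u3 (S.InZ_ι_iff h)⟩
    · exact ⟨S.ι_mem_P u2, d2, fun h => u4 (S.InZ_ι_iff h)⟩
    · exact ⟨S.tι_mem_P v1, d3, fun h => v3 (S.InZ_tι_iff h)⟩
    · exact ⟨S.tι_mem_P v2, d4, fun h => v4 (S.InZ_tι_iff h)⟩
  have hFcard : F.card = 4 := by
    have hne1 : S.ι (Uf s₁) ≠ S.ι (Uf s₁ * b) := fun h => u5 (S.ι_inj h)
    have hne2 : t * S.ι (Uf s₂) ≠ t * S.ι (Uf s₂ * b) := fun h => v5 (S.tι_inj h)
    have n1 : ∀ σ τ, S.ι τ ≠ t * S.ι σ := fun σ τ h => S.t_ne _ _ h.symm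
    rw [Finset.card_insert_of_notMem, Finset.card_insert_of_notMem, Finset.card_insert_of_notMem,
      Finset.card_singleton]
    · simp only [Finset.mem_singleton]; exact hne2
    · simp only [Finset.mem_insert, Finset.mem_singleton, not_or]; exact ⟨n1 _ _, n1 _ _⟩
    · simp only [Finset.mem_insert, Finset.mem_singleton, not_or]; exact ⟨hne1, n1 _ _, n1 _ _⟩
  obtain ⟨f₀, hf₀, hf₀g⟩ := exists_fix_of_card4 (fun x => cj g x) hg3' F hFcard (by
    intro x hx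
    obtain ⟨h4, h5, h6⟩ := hF3 x hx
    apply (hFmem _).2
    refine S.S0_table hs₁ hs₂ hN₁ hN₂ hθ (hgN _ h4) ((isConj_cj g _).2 h5) ?_
    intro h7
    apply h6
    have := S.InZ_map (S.Nm_inv hgN) h7
    rwa [cj_inv_cj] at this)
  obtain ⟨hf₀P, hf₀D, -⟩ := hF3 f₀ hf₀
  obtain ⟨h₀, hh₀⟩ := isConj_iff.1 hf₀D
  have hcjf : cj h₀⁻¹ f₀ = t := by
    rw [← hh₀]
    simp [cj_def, mul_assoc]
  -- the vector
  have hw : (s₁ * s₂ = 1 ∧ s₁ * s₂ * s₁ * (s₁ * s₂) * s₂ * (s₁ * s₂) = 1) ∨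
      (s₁ * s₂ = b ∧ s₁ * s₂ * s₁ * (s₁ * s₂) * s₂ * (s₁ * s₂) = 1) := by
    rcases hs₁ with rfl | rfl <;> rcases hs₂ with rfl | rfl <;> decide +kernel
  have hwZ : s₁ * s₂ ∈ Z0F := by
    rcases hw with ⟨h, -⟩ | ⟨h, -⟩ <;> rw [h] <;> decide +kernel
  have hwfix : cj g (S.ι (s₁ * s₂)) = S.ι (s₁ * s₂) := by
    rcases hw with ⟨h, -⟩ | ⟨h, -⟩ <;> rw [h]
    · rw [map_one, map_one]
    · exact S.fix_b hgN
  have hwrel : s₁ * s₂ * s₁ * (s₁ * s₂) * s₂ * (s₁ * s₂) = 1 := by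
    rcases hw with ⟨-, h⟩ | ⟨-, h⟩ <;> exact h
  set v₀ := t * S.ι (s₁ * s₂) with hv₀
  have hv₀Z : S.InZ v₀ := S.InZ_tι hwZ
  have hv₀sq : v₀ * v₀ = 1 := by
    rw [hv₀, S.tι_mul_tι]
    have hsq : (s₁ * s₂) * (s₁ * s₂) = 1 := by
      rcases hs₁ with rfl | rfl <;> rcases hs₂ with rfl | rfl <;> decide +kernel
    rw [hsq, map_one]
  have hv₀ne : v₀ ≠ 1 := by
    intro h
    exact S.t_ne (s₁ * s₂) 1 (by rw [map_one]; exact h)
  have hrel : v₀ * cj g v₀ * cj g (cj g v₀) = 1 := by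
    have e1 : cj g v₀ = S.ι s₁ * S.ι (s₁ * s₂) := by rw [hv₀, map_mul, hgt, hwfix]
    have e2 : cj g (cj g v₀) = (t * S.ι s₂) * S.ι (s₁ * s₂) := by
      rw [e1, map_mul, hg1, hwfix]
    rw [e2, e1, hv₀, ← map_mul, S.tι_mul_ι, S.tι_mul_ι, S.tι_mul_tι, ← mul_assoc (s₁ * s₂) s₁,
      ← mul_assoc, hwrel, map_one]
  have hcomm1 : (cj h₀⁻¹ v₀) * t = t * cj h₀⁻¹ v₀ := by
    have h1 := hv₀Z.2 f₀ hf₀P
    have h2 : cj h₀⁻¹ (f₀ * v₀) = cj h₀⁻¹ (v₀ * f₀) := by rw [h1]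
    rw [map_mul (cj h₀⁻¹) f₀ v₀, map_mul (cj h₀⁻¹) v₀ f₀, hcjf] at h2
    exact h2.symm
  have hcomm2 : (cj h₀⁻¹ g) * t = t * cj h₀⁻¹ g := by
    have h1 : g * f₀ = f₀ * g := cj_fix_iff.1 hf₀g
    have h2 : cj h₀⁻¹ (g * f₀) = cj h₀⁻¹ (f₀ * g) := by rw [h1]
    rw [map_mul (cj h₀⁻¹) g f₀, map_mul (cj h₀⁻¹) f₀ g, hcjf] at h2
    exact h2
  have hcjcj : ∀ x, cj (cj h₀⁻¹ g) (cj h₀⁻¹ x) = cj h₀⁻¹ (cj g x) := by
    intro x
    simp [cj_def, mul_assoc]
  obtain ⟨c, hc⟩ := S.even_of_rel hcomm1 hcomm2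
    (by
      rw [hcjcj, hcjcj, ← map_mul, ← map_mul, hrel, map_one])
    (by rw [← map_mul, hv₀sq, map_one])
    (by
      intro h
      apply hv₀ne
      apply (cj h₀⁻¹).injective
      rw [h, map_one])
  have hv₀c : cj (h₀⁻¹⁻¹ * c) (S.ι b) = v₀ := by
    rw [cj_mul, hc, cj_inv_cj]
  rcases hw with ⟨h, -⟩ | ⟨h, -⟩
  · rw [hv₀, h, map_one, mul_one] at hv₀c
    apply S.not_D_b
    rw [isConj_comm]
    exact isConj_iff.2 ⟨_, hv₀c⟩
  · rw [hv₀, h] at hv₀c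
    refine S.burnside_b (S.odd_index ?_) hv₀c
    intro u hu hk
    by_contra huP
    have hc3u := S.cyc3 hs₁ hs₂ hD₁ hN₁ hD₂ hN₂ hθ hu huP
    have hu3 : u ^ 3 ∈ S.P := by
      apply S.self_norm (S.Nm_pow hu 3)
      rw [pow_succ, pow_two, cj_mul, cj_mul, hc3u]
    obtain ⟨k, hk⟩ := hk
    have hcop : Nat.Coprime 3 (orderOf u) := by
      have h1 : orderOf u ∣ 2 ^ k := orderOf_dvd_of_pow_eq_one hk
      exact Nat.Coprime.coprime_dvd_right h1 (Nat.Coprime.pow_right k (by norm_num))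
    obtain ⟨m, hm⟩ := exists_pow_eq_self_of_coprime hcop
    apply huP
    rw [← hm]
    exact S.P.pow_mem hu3 m

end theta0

end Setup7

end Cfsg.Agent.Lib.Inv7
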