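import Mathlib
import Cfsg.Agent.Lib.Inv7CaseB

/-!
# Involutions with centralizer `2 × S₇`: the case where `t` is not conjugate to `t a`
-/

set_option autoImplicit false

namespace Cfsg.Agent.Lib.Inv7

open Equiv P7 Subgroup

variable {G : Type*} [Group G] {t : G}

namespace P7

/-- `Lb` as a list. -/
def LbL : List S7 :=
  [1, swap 2 3 * swap 5 6, swap 2 3 * swap 4 5, swap 2 3 * swap 4 6, swap 0 1 * swap 5 6,
   swap 0 1 * swap 4 5, swap 0 1 * swap 4 6, b, f, f2]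

theorem mem_LbL {π : S7} : π ∈ Lb ↔ π ∈ LbL := by
  simp [Lb, LbL]

theorem cube_check : ∀ x ∈ LbL, ∀ y ∈ LbL, x * y = y * x → x ≠ 1 → y ≠ 1 → x ≠ b → y ≠ b →
    x * y ≠ 1 → x * y ≠ b → False :=
  all_all LbL (fun x y => x * y = y * x → x ≠ 1 → y ≠ 1 → x ≠ b → y ≠ b → x * y ≠ 1 → x * y ≠ b → False)
    (by decide +kernel)

/-- The alternating group on seven points does not contain `2³`. -/
theorem no_cube {π₁ π₂ π₃ : S7} (h1 : π₁ * π₁ = 1) (h2 : π₂ * π₂ = 1) (h3 : π₃ * π₃ = 1)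
    (s1 : Perm.sign π₁ = 1) (s2 : Perm.sign π₂ = 1) (s3 : Perm.sign π₃ = 1)
    (c12 : π₁ * π₂ = π₂ * π₁) (c13 : π₁ * π₃ = π₃ * π₁) (c23 : π₂ * π₃ = π₃ * π₂)
    (n1 : π₁ ≠ 1) (n2 : π₂ ≠ 1) (n3 : π₃ ≠ 1) (n12 : π₁ * π₂ ≠ 1) (n13 : π₁ * π₃ ≠ 1)
    (n23 : π₂ * π₃ ≠ 1) (n123 : π₁ * π₂ * π₃ ≠ 1) : False := by
  have h3' : π₃ ^ 2 = 1 := by rw [pow_two]; exact h3
  obtain ⟨c, rfl⟩ : ∃ c, π₃ = c * b * c⁻¹ := by
    rcases inv_class π₃ h3' n3 with ⟨-, h⟩ | ⟨h, -⟩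
    · obtain ⟨c, hc⟩ := isConj_iff.1 h
      exact ⟨c, hc.symm⟩
    · rw [s3] at h
      exact absurd h (by decide)
  have hcc : ∀ u v : S7, (c⁻¹ * u * c) * (c⁻¹ * v * c) = c⁻¹ * (u * v) * c := by
    intro u v; group
  have hone : ∀ u : S7, u = 1 → c⁻¹ * u * c = 1 := by
    rintro u rfl; group
  have hb : ∀ u : S7, u * (c * b * c⁻¹) = (c * b * c⁻¹) * u →
      (c⁻¹ * u * c) * b = b * (c⁻¹ * u * c) := by
    intro u hu
    have h4 := congrArg (fun z => c⁻¹ * z * c) hu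
    simpa [mul_assoc] using h4
  have hsign : ∀ u : S7, Perm.sign u = 1 → Perm.sign (c⁻¹ * u * c) = 1 := by
    intro u hu
    rw [map_mul, map_mul, hu, mul_one, map_inv, inv_mul_cancel]
  have hex : ∀ u : S7, c * (c⁻¹ * u * c) * c⁻¹ = u := by
    intro u; group
  set x := c⁻¹ * π₁ * c with hx
  set y := c⁻¹ * π₂ * c with hy
  have hx2 : x * x = 1 := by
    rw [hx, hcc]; exact hone _ h1
  have hy2 : y * y = 1 := by
    rw [hy, hcc]; exact hone _ h2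
  have hxb : x * b = b * x := hb _ c13
  have hyb : y * b = b * y := hb _ c23
  have hxy : x * y = y * x := by
    rw [hx, hy, hcc, hcc, c12]
  have mem : ∀ z : S7, z * b = b * z → z * z = 1 → Perm.sign z = 1 → z ∈ LbL := by
    intro z h4 h5 h6
    rcases ((big z).2.1 h4).2.2 (by rw [pow_two]; exact h5) with h7 | h7
    · exact mem_LbL.1 h7
    · rw [h6] at h7
      exact absurd h7 (by decide)
  have e1 : π₁ = c * x * c⁻¹ := (hex π₁).symm
  have e2 : π₂ = c * y * c⁻¹ := (hex π₂).symm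
  have hbb : c * b * c⁻¹ * (c * b * c⁻¹) = 1 := h3
  refine cube_check x (mem x hxb hx2 (hsign _ s1)) y (mem y hyb hy2 (hsign _ s2)) hxy ?_ ?_ ?_ ?_ ?_ ?_
  · intro h4
    apply n1
    rw [e1, h4]; group
  · intro h4
    apply n2
    rw [e2, h4]; group
  · intro h4
    apply n13
    rw [e1, h4]; exact hbb
  · intro h4
    apply n23
    rw [e2, h4]; exact hbb
  · intro h4
    apply n12
    rw [e1, e2]
    have h5 : c * x * c⁻¹ * (c * y * c⁻¹) = c * (x * y) * c⁻¹ := by group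
    rw [h5, h4]; group
  · intro h4
    apply n123
    rw [e1, e2]
    have h5 : c * x * c⁻¹ * (c * y * c⁻¹) = c * (x * y) * c⁻¹ := by group
    rw [h5, h4]; exact hbb

end P7

/-- The indicator of the conjugacy class of `t`. -/
noncomputable def bit (t x : G) : ℕ := by
  classical
  exact if IsConj t x then 1 else 0

theorem bit_pos {x : G} (h : IsConj t x) : bit t x = 1 := by
  unfold bit
  exact if_pos h

theorem bit_neg {x : G} (h : ¬ IsConj t x) : bit t x = 0 := by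
  unfold bit
  exact if_neg h

theorem bit_cases (x : G) : (bit t x = 1 ∧ IsConj t x) ∨ (bit t x = 0 ∧ ¬ IsConj t x) := by
  by_cases h : IsConj t x
  · exact Or.inl ⟨bit_pos h, h⟩
  · exact Or.inr ⟨bit_neg h, h⟩

theorem bit_cj (n x : G) : bit t (cj n x) = bit t x := by
  by_cases h : IsConj t x
  · rw [bit_pos h, bit_pos ((isConj_cj n x).2 h)]
  · rw [bit_neg h, bit_neg (fun h2 => h ((isConj_cj n x).1 h2))]

namespace Setup7

variable (S : Setup7 t)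

section

variable (hL : ∀ π, ¬ IsConj t (S.ι π))
  (hT : ∀ π, π * π = 1 → (IsConj t (t * S.ι π) ↔ Perm.sign π = 1))

include hL in
theorem bit_ι (π : S7) : bit t (S.ι π) = 0 := bit_neg (hL π)

include hT in
theorem bit_tι {π : S7} (h : π * π = 1) (hs : Perm.sign π = 1) : bit t (t * S.ι π) = 1 :=
  bit_pos ((hT π h).2 hs)

include hT in
theorem bit_tι' {π : S7} (h : π * π = 1) (hs : Perm.sign π ≠ 1) : bit t (t * S.ι π) = 0 :=
  bit_neg (fun h2 => hs ((hT π h).1 h2))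

theorem sign_ne {π : S7} (h : Perm.sign π ≠ 1) : Perm.sign π = -1 := by
  rcases Int.units_eq_one_or (Perm.sign π) with h2 | h2
  · exact absurd h2 h
  · exact h2

theorem sq_mul {π σ : S7} (h1 : π * π = 1) (h2 : σ * σ = 1) (hc : π * σ = σ * π) :
    (π * σ) * (π * σ) = 1 := by
  calc (π * σ) * (π * σ) = π * (σ * π) * σ := by group
    _ = π * (π * σ) * σ := by rw [hc]
    _ = (π * π) * (σ * σ) := by group
    _ = 1 := by rw [h1, h2, mul_one]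

include hL hT in
/-- A counting lemma at `t`. -/
theorem exactly_one_t {z₁ z₂ : G} (h1 : z₁ * t = t * z₁) (h2 : z₂ * t = t * z₂) (h11 : z₁ * z₁ = 1)
    (h22 : z₂ * z₂ = 1) (h12 : z₂ * z₁ = z₁ * z₂) (hD : ¬ IsConj t z₁) (hD2 : ¬ IsConj t (t * z₁)) :
    bit t z₂ + bit t (z₂ * z₁) + bit t (z₂ * t) + bit t (z₂ * z₁ * t) = 1 := by
  obtain ⟨π₁, hπ₁⟩ := S.cases h1
  obtain ⟨π₂, hπ₂⟩ := S.cases h2
  have hq1 := S.sq_part hπ₁ h11
  have hq2 := S.sq_part hπ₂ h22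
  have hc : π₂ * π₁ = π₁ * π₂ := by
    rcases hπ₁ with rfl | rfl
    · exact S.comm_part hπ₂ h12
    · have h3 : z₂ * S.ι π₁ = S.ι π₁ * z₂ := by
        have h4 : t * (z₂ * S.ι π₁) = t * (S.ι π₁ * z₂) := by
          calc t * (z₂ * S.ι π₁) = z₂ * (t * S.ι π₁) := by rw [← mul_assoc, ← h2, mul_assoc]
            _ = (t * S.ι π₁) * z₂ := h12
            _ = t * (S.ι π₁ * z₂) := by group
        exact mul_left_cancel h4
      exact S.comm_part hπ₂ h3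
  have hq3 := sq_mul hq2 hq1 hc
  have hs1 : Perm.sign π₁ ≠ 1 := by
    intro h3
    rcases hπ₁ with rfl | rfl
    · exact hD2 ((hT π₁ hq1).2 h3)
    · exact hD ((hT π₁ hq1).2 h3)
  have hs1' := sign_ne hs1
  have hs3 : Perm.sign (π₂ * π₁) = 1 ↔ Perm.sign π₂ ≠ 1 := by
    rw [map_mul, hs1']
    rcases Int.units_eq_one_or (Perm.sign π₂) with h3 | h3 <;> rw [h3] <;> decide
  have key : bit t (t * S.ι π₂) + bit t (t * S.ι (π₂ * π₁)) = 1 := by
    by_cases h3 : Perm.sign π₂ = 1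
    · rw [S.bit_tι hT hq2 h3, S.bit_tι' hT hq3 (fun h4 => (hs3.1 h4) h3)]
    · rw [S.bit_tι' hT hq2 h3, S.bit_tι hT hq3 (hs3.2 h3)]
  have hι := S.bit_ι hL
  rcases hπ₁ with rfl | rfl <;> rcases hπ₂ with rfl | rfl
  · rw [← map_mul, hι, hι, zero_add, zero_add, S.ι_t, S.ι_t]
    exact key
  · rw [S.tι_mul_ι, mul_assoc t (S.ι π₂) t, S.ι_t, ← mul_assoc t t, S.tt, one_mul, hι,
      mul_assoc t (S.ι (π₂ * π₁)) t, S.ι_t, ← mul_assoc t t, S.tt, one_mul, hι, add_zero, add_zero]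
    exact key
  · rw [S.ι_mul_tι, hι, S.ι_t, zero_add, mul_assoc t (S.ι (π₂ * π₁)) t, S.ι_t, ← mul_assoc t t, S.tt,
      one_mul, hι, add_zero, add_comm]
    exact key
  · rw [S.tι_mul_tι, hι, mul_assoc t (S.ι π₂) t, S.ι_t, ← mul_assoc t t, S.tt, one_mul, hι,
      add_zero, add_zero, S.ι_t]
    exact key

include hL hT in
/-- A counting lemma. -/
theorem exactly_one {d z₁ z₂ : G} (hd : IsConj t d) (h1 : z₁ * d = d * z₁) (h2 : z₂ * d = d * z₂)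
    (h11 : z₁ * z₁ = 1) (h22 : z₂ * z₂ = 1) (h12 : z₂ * z₁ = z₁ * z₂) (hD : ¬ IsConj t z₁)
    (hD2 : ¬ IsConj t (d * z₁)) :
    bit t z₂ + bit t (z₂ * z₁) + bit t (z₂ * d) + bit t (z₂ * z₁ * d) = 1 := by
  obtain ⟨c, rfl⟩ := isConj_iff.1 hd
  set d := c * t * c⁻¹ with hd'
  have hcd : cj c⁻¹ d = t := cj_inv_cj c t
  have hT2 := S.exactly_one_t hL hT (z₁ := cj c⁻¹ z₁) (z₂ := cj c⁻¹ z₂)
    (by
      have e1 : cj c⁻¹ z₁ * t = cj c⁻¹ (z₁ * d) := by rw [map_mul, hcd]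
      have e2 : t * cj c⁻¹ z₁ = cj c⁻¹ (d * z₁) := by rw [map_mul, hcd]
      rw [e1, e2, h1])
    (by
      have e1 : cj c⁻¹ z₂ * t = cj c⁻¹ (z₂ * d) := by rw [map_mul, hcd]
      have e2 : t * cj c⁻¹ z₂ = cj c⁻¹ (d * z₂) := by rw [map_mul, hcd]
      rw [e1, e2, h2])
    (by rw [← map_mul, h11, map_one]) (by rw [← map_mul, h22, map_one])
    (by rw [← map_mul, ← map_mul, h12])
    (fun h => hD ((isConj_cj _ _).1 h))
    (fun h => hD2 (by
      have e1 : t * cj c⁻¹ z₁ = cj c⁻¹ (d * z₁) := by rw [map_mul, hcd]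
      rw [e1] at h
      exact (isConj_cj _ _).1 h))
  have e1 : cj c⁻¹ z₂ * cj c⁻¹ z₁ = cj c⁻¹ (z₂ * z₁) := by rw [map_mul]
  have e2 : cj c⁻¹ z₂ * t = cj c⁻¹ (z₂ * d) := by rw [map_mul, hcd]
  have e3 : cj c⁻¹ (z₂ * z₁) * t = cj c⁻¹ (z₂ * z₁ * d) := by rw [map_mul _ _ d, hcd]
  rw [e2, e1, e3, bit_cj, bit_cj, bit_cj, bit_cj] at hT2
  exact hT2

include hL hT in
/-- A second counting lemma at `t`. -/
theorem even_two_t {u₁ u₂ u₃ : G} (h1 : u₁ * t = t * u₁) (h2 : u₂ * t = t * u₂) (h3 : u₃ * t = t * u₃)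
    (h11 : u₁ * u₁ = 1) (h22 : u₂ * u₂ = 1) (h33 : u₃ * u₃ = 1)
    (c12 : u₁ * u₂ = u₂ * u₁) (c13 : u₁ * u₃ = u₃ * u₁) (c23 : u₂ * u₃ = u₃ * u₂)
    (D1 : ¬ IsConj t u₁) (D2 : ¬ IsConj t u₂) (D12 : ¬ IsConj t (u₁ * u₂))
    (n1 : u₁ ≠ 1) (n2 : u₂ ≠ 1) (n3 : u₃ ≠ 1) (n12 : u₁ * u₂ ≠ 1) (n13 : u₁ * u₃ ≠ 1)
    (n23 : u₂ * u₃ ≠ 1) (n123 : u₁ * u₂ * u₃ ≠ 1) (hD : IsConj t (t * u₃)) :
    bit t (t * u₁) + bit t (t * u₂) + bit t (t * (u₁ * u₂)) = 1 := by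
  have hι := S.bit_ι hL
  obtain ⟨π₃, hπ₃⟩ := S.cases h3
  have hu₃ : u₃ = S.ι π₃ := by
    rcases hπ₃ with h | h
    · exact h
    · exfalso
      rw [h, ← mul_assoc, S.tt, one_mul] at hD
      exact hL _ hD
  subst hu₃
  have hs3 : Perm.sign π₃ = 1 := (hT π₃ (S.sq_part (Or.inl rfl) h33)).1 hD
  obtain ⟨π₁, hπ₁⟩ := S.cases h1
  obtain ⟨π₂, hπ₂⟩ := S.cases h2
  have hq1 := S.sq_part hπ₁ h11
  have hq2 := S.sq_part hπ₂ h22
  rcases hπ₁ with rfl | rfl <;> rcases hπ₂ with rfl | rfl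
  · -- both in `ι S₇`
    have hq12 := sq_mul hq1 hq2 (S.comm_ι' c12)
    by_cases s1 : Perm.sign π₁ = 1 <;> by_cases s2 : Perm.sign π₂ = 1
    · exfalso
      have hne : ∀ {π : S7}, S.ι π ≠ 1 → π ≠ 1 := by
        rintro π h rfl
        exact h (map_one _)
      refine no_cube hq1 hq2 (S.sq_part (Or.inl rfl) h33) s1 s2 hs3 (S.comm_ι' c12) (S.comm_ι' c13)
        (S.comm_ι' c23) (hne n1) (hne n2) (hne n3) (hne ?_) (hne ?_) (hne ?_) (hne ?_)
      · rwa [map_mul]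
      · rwa [map_mul]
      · rwa [map_mul]
      · rwa [map_mul, map_mul]
    · rw [← map_mul, S.bit_tι hT hq1 s1, S.bit_tι' hT hq2 s2, S.bit_tι' hT hq12 (by
        rw [map_mul, s1, one_mul]; exact s2)]
    · rw [← map_mul, S.bit_tι' hT hq1 s1, S.bit_tι hT hq2 s2, S.bit_tι' hT hq12 (by
        rw [map_mul, s2, mul_one]; exact s1)]
    · rw [← map_mul, S.bit_tι' hT hq1 s1, S.bit_tι' hT hq2 s2, S.bit_tι hT hq12 (by
        rw [map_mul, sign_ne s1, sign_ne s2]; decide)]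
  · -- `u₂` in the `t`-coset
    have hc : π₁ * π₂ = π₂ * π₁ := by
      rw [S.ι_mul_tι, S.tι_mul_ι] at c12
      exact S.ι_inj (mul_left_cancel c12)
    have hq12 := sq_mul hq1 hq2 hc
    rw [S.ι_mul_tι] at D12 ⊢
    have s2 : Perm.sign π₂ ≠ 1 := fun h => D2 ((hT π₂ hq2).2 h)
    have s12 : Perm.sign (π₁ * π₂) ≠ 1 := fun h => D12 ((hT _ hq12).2 h)
    have s1 : Perm.sign π₁ = 1 := by
      rw [map_mul, sign_ne s2] at s12
      rcases Int.units_eq_one_or (Perm.sign π₁) with h | h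
      · exact h
      · rw [h] at s12
        exact absurd (by decide) s12
    rw [S.bit_tι hT hq1 s1, ← mul_assoc, ← mul_assoc, S.tt, one_mul, one_mul, hι, hι]
  · -- `u₁` in the `t`-coset
    have hc : π₁ * π₂ = π₂ * π₁ := by
      rw [S.tι_mul_ι, S.ι_mul_tι] at c12
      exact S.ι_inj (mul_left_cancel c12)
    have hq12 := sq_mul hq1 hq2 hc
    rw [S.tι_mul_ι] at D12 ⊢
    have s1 : Perm.sign π₁ ≠ 1 := fun h => D1 ((hT π₁ hq1).2 h)
    have s12 : Perm.sign (π₁ * π₂) ≠ 1 := fun h => D12 ((hT _ hq12).2 h)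
    have s2 : Perm.sign π₂ = 1 := by
      rw [map_mul, sign_ne s1] at s12
      rcases Int.units_eq_one_or (Perm.sign π₂) with h | h
      · exact h
      · rw [h] at s12
        exact absurd (by decide) s12
    rw [S.bit_tι hT hq2 s2, ← mul_assoc, ← mul_assoc, S.tt, one_mul, one_mul, hι, hι]
  · -- both in the `t`-coset
    have hc : π₁ * π₂ = π₂ * π₁ := by
      rw [S.tι_mul_tι, S.tι_mul_tι] at c12
      exact S.ι_inj c12
    have hq12 := sq_mul hq1 hq2 hc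
    have s1 : Perm.sign π₁ ≠ 1 := fun h => D1 ((hT π₁ hq1).2 h)
    have s2 : Perm.sign π₂ ≠ 1 := fun h => D2 ((hT π₂ hq2).2 h)
    rw [S.tι_mul_tι, S.bit_tι hT hq12 (by rw [map_mul, sign_ne s1, sign_ne s2]; decide),
      ← mul_assoc, ← mul_assoc, S.tt, one_mul, one_mul, hι, hι]

include hL hT in
/-- A second counting lemma. -/
theorem even_two {d : G} (hd : IsConj t d) (h1 : d * S.ι a = S.ι a * d) (h2 : d * S.ι e = S.ι e * d)
    (h3 : d * S.ι b = S.ι b * d) (hD : IsConj t (d * S.ι b)) :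
    bit t (d * S.ι a) + bit t (d * S.ι e) + bit t (d * S.ι (a * e)) = 1 := by
  obtain ⟨c, rfl⟩ := isConj_iff.1 hd
  set d := c * t * c⁻¹ with hd'
  have hcd : cj c⁻¹ d = t := cj_inv_cj c t
  have hcomm : ∀ {w : G}, d * w = w * d → cj c⁻¹ w * t = t * cj c⁻¹ w := by
    intro w hw
    have e1 : cj c⁻¹ w * t = cj c⁻¹ (w * d) := by rw [map_mul, hcd]
    have e2 : t * cj c⁻¹ w = cj c⁻¹ (d * w) := by rw [map_mul, hcd]
    rw [e1, e2, hw]
  have hq : ∀ {π : S7}, π * π = 1 → cj c⁻¹ (S.ι π) * cj c⁻¹ (S.ι π) = 1 := by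
    intro π hπ
    rw [← map_mul, ← map_mul, hπ, map_one, map_one]
  have hcι : ∀ {π σ : S7}, π * σ = σ * π →
      cj c⁻¹ (S.ι π) * cj c⁻¹ (S.ι σ) = cj c⁻¹ (S.ι σ) * cj c⁻¹ (S.ι π) := by
    intro π σ h
    rw [← map_mul (cj c⁻¹), ← map_mul (cj c⁻¹), S.comm_ι h]
  have hDι : ∀ π : S7, ¬ IsConj t (cj c⁻¹ (S.ι π)) := fun π h => hL π ((isConj_cj _ _).1 h)
  have hne : ∀ {π : S7}, π ≠ 1 → cj c⁻¹ (S.ι π) ≠ 1 := by
    intro π hπ h
    have h4 : S.ι π = 1 := (cj c⁻¹).injective (by rw [h, map_one])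
    exact hπ (S.ι_inj (h4.trans (map_one _).symm))
  have hmul : ∀ π σ : S7, cj c⁻¹ (S.ι π) * cj c⁻¹ (S.ι σ) = cj c⁻¹ (S.ι (π * σ)) := by
    intro π σ
    rw [← map_mul, ← map_mul]
  have key := S.even_two_t hL hT (u₁ := cj c⁻¹ (S.ι a)) (u₂ := cj c⁻¹ (S.ι e)) (u₃ := cj c⁻¹ (S.ι b))
    (hcomm h1) (hcomm h2) (hcomm h3) (hq (by decide +kernel)) (hq (by decide +kernel))
    (hq (by decide +kernel))
    (hcι (by decide +kernel)) (hcι (by decide +kernel)) (hcι (by decide +kernel))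
    (hDι a) (hDι e) (by rw [hmul]; exact hDι _)
    (hne (by decide +kernel)) (hne (by decide +kernel)) (hne (by decide +kernel))
    (by rw [hmul]; exact hne (by decide +kernel)) (by rw [hmul]; exact hne (by decide +kernel))
    (by rw [hmul]; exact hne (by decide +kernel))
    (by rw [hmul, hmul]; exact hne (by decide +kernel))
    (by
      have e1 : t * cj c⁻¹ (S.ι b) = cj c⁻¹ (d * S.ι b) := by rw [map_mul, hcd]
      rw [e1]
      exact (isConj_cj _ _).2 hD)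
  have e1 : ∀ w : G, t * cj c⁻¹ w = cj c⁻¹ (d * w) := fun w => by rw [map_mul, hcd]
  rw [hmul, e1, e1, e1, bit_cj, bit_cj, bit_cj] at key
  exact key

end

end Setup7

end Cfsg.Agent.Lib.Inv7
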