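import Mathlib
import Cfsg.Agent.Lib.BaerSuzuki
import Cfsg.Agent.Lib.PCore
import Cfsg.Agent.Lib.ControlSec

/-!
# Groups in which no `p`-element is inverted by a `2`-element.

`InvFree p X` says: a `2`-element inverting a `p`-element forces the `p`-element to be trivial.  For odd `p` the
property passes to subgroups and to quotients, and a `2`-element normalizing a `p`-subgroup centralizes it.  If it holds
for every odd prime, the Sylow `2`-subgroups are normal.
-/

set_option autoImplicit false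
set_option linter.style.haveILetI false

open Cfsg
open scoped commutatorElement

namespace Cfsg.Agent.Lib.InvFreeP

open Cfsg.Agent.Lib.PCore Cfsg.Agent.Lib.AlperinControl Cfsg.Agent.Lib.ControlSec

/-- No non-trivial `p`-element is inverted by a `2`-element. -/
def InvFree (p : ℕ) (X : Type*) [Group X] : Prop :=
  ∀ t y : X, (∃ k : ℕ, t ^ 2 ^ k = 1) → (∃ m : ℕ, y ^ p ^ m = 1) → t * y * t⁻¹ = y⁻¹ → y = 1

variable {p : ℕ} {X Y : Type*} [Group X] [Group Y]

theorem InvFree.of_injective (h : InvFree p Y) (f : X →* Y) (hf : Function.Injective f) : InvFree p X := by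
  rintro t y ⟨k, hk⟩ ⟨m, hm⟩ hty
  apply hf
  rw [map_one]
  refine h (f t) (f y) ⟨k, by rw [← map_pow, hk, map_one]⟩ ⟨m, by rw [← map_pow, hm, map_one]⟩ ?_
  rw [← map_inv, ← map_mul, ← map_mul, hty, map_inv]

theorem InvFree.of_equiv (h : InvFree p Y) (f : X ≃* Y) : InvFree p X :=
  h.of_injective f.toMonoidHom f.injective

theorem InvFree.subgroup (h : InvFree p X) (K : Subgroup X) : InvFree p K :=
  h.of_injective K.subtype K.subtype_injective

/-- A subgroup-inclusion form. -/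
theorem InvFree.of_le {K L : Subgroup X} (h : InvFree p L) (hKL : K ≤ L) : InvFree p K :=
  h.of_injective (Subgroup.inclusion hKL) (Subgroup.inclusion_injective hKL)

/-- A `2`-element normalizing a `p`-subgroup centralizes it. -/
theorem InvFree.centralizes (h : InvFree p X) (P : Subgroup X) (hP : IsPGroup p P) (k : ℕ) :
    ∀ t : X, t ^ 2 ^ k = 1 → t ∈ Subgroup.normalizer (P : Set X) → ∀ x ∈ P, t * x * t⁻¹ = x := by
  induction k with
  | zero =>
    intro t ht _ x _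
    rw [pow_zero, pow_one] at ht
    rw [ht]; group
  | succ k ih =>
    intro t ht htN x hx
    have h2 : (t * t) ^ 2 ^ k = 1 := by
      rw [← pow_two, ← pow_mul, ← pow_succ']
      exact ht
    have h3 := ih (t * t) h2 (Subgroup.mul_mem _ htN htN) x hx
    have hx' : t * x * t⁻¹ ∈ P := (Subgroup.mem_normalizer_iff.mp htN x).mp hx
    set w := x⁻¹ * (t * x * t⁻¹) with hw
    have hwP : w ∈ P := P.mul_mem (P.inv_mem hx) hx'
    obtain ⟨m, hm⟩ := hP ⟨w, hwP⟩
    have hm' : w ^ p ^ m = 1 := by simpa using congrArg Subtype.val hm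
    have hinv : t * w * t⁻¹ = w⁻¹ := by
      have e1 : t * w * t⁻¹ = (t * x⁻¹ * t⁻¹) * ((t * t) * x * (t * t)⁻¹) := by
        rw [hw]; group
      rw [e1, h3, hw]
      group
    have h1 := h t w ⟨k + 1, ht⟩ ⟨m, hm'⟩ hinv
    rw [hw] at h1
    have h5 : t * x * t⁻¹ = x := by
      have h6 : x⁻¹ * (t * x * t⁻¹) = 1 := h1
      have h7 : t * x * t⁻¹ = x * (x⁻¹ * (t * x * t⁻¹)) := by group
      rw [h7, h6, mul_one]
    exact h5

/-- The `q`-part of an element. -/
theorem exists_part [Finite X] {q : ℕ} (hq : q.Prime) (g : X) :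
    ∃ e : ℕ, e.Coprime q ∧ (∃ k : ℕ, (g ^ e) ^ q ^ k = 1) ∧ ∀ j : ℕ, q ^ j ∣ orderOf g → e ≡ 1 [MOD q ^ j] := by
  have hpos : orderOf g ≠ 0 := (orderOf_pos g).ne'
  obtain ⟨a, m, hm, hn⟩ := Nat.exists_eq_pow_mul_and_not_dvd hpos q hq.ne_one
  have hmc : m.Coprime q := (Nat.Prime.coprime_iff_not_dvd hq).mpr hm |>.symm
  have hmpos : 0 < q ^ a := pow_pos hq.pos a
  have hφ : 0 < Nat.totient (q ^ a) := Nat.totient_pos.mpr hmpos
  refine ⟨m ^ Nat.totient (q ^ a), Nat.Coprime.pow_left _ hmc, ⟨a, ?_⟩, ?_⟩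
  · rw [← pow_mul]
    have h1 : orderOf g ∣ m ^ Nat.totient (q ^ a) * q ^ a := by
      rw [hn, mul_comm]
      exact mul_dvd_mul (dvd_pow_self m hφ.ne') dvd_rfl
    exact orderOf_dvd_iff_pow_eq_one.mp h1
  · intro j hj
    rw [hn] at hj
    have h1 : q ^ j ∣ q ^ a := by
      have hc : Nat.Coprime (q ^ j) m := Nat.Coprime.pow_left _ hmc.symm
      exact hc.dvd_of_dvd_mul_right hj
    have h2 : m ^ Nat.totient (q ^ a) ≡ 1 [MOD q ^ a] :=
      Nat.ModEq.pow_totient (Nat.Coprime.pow_right _ hmc)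
    exact h2.of_dvd h1

/-- Under a homomorphism, an element whose image is a `q`-element has a `q`-part with the same image. -/
theorem exists_part_map [Finite X] {q : ℕ} (hq : q.Prime) (f : X →* Y) (g : X) :
    ∃ e : ℕ, e.Coprime q ∧ (∃ k : ℕ, (g ^ e) ^ q ^ k = 1) ∧ ((∃ k : ℕ, f g ^ q ^ k = 1) → f (g ^ e) = f g) := by
  obtain ⟨e, he, hk, hj⟩ := exists_part hq g
  refine ⟨e, he, hk, ?_⟩
  rintro ⟨k, hfk⟩
  obtain ⟨j, -, hj'⟩ := (Nat.dvd_prime_pow hq).mp (orderOf_dvd_of_pow_eq_one hfk)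
  have h1 : q ^ j ∣ orderOf g := hj' ▸ orderOf_map_dvd f g
  have h2 := hj j h1
  rw [map_pow]
  have h3 : f g ^ e = f g ^ 1 := by
    apply pow_eq_pow_iff_modEq.mpr
    rw [hj']
    exact h2
  rwa [pow_one] at h3

/-- An odd power of an inverting element inverts. -/
theorem inverts_pow {t y : X} (h : t * y * t⁻¹ = y⁻¹) {e : ℕ} (he : e.Coprime 2) : t ^ e * y * (t ^ e)⁻¹ = y⁻¹ := by
  have hc : Commute (t * t) y := by
    show t * t * y = y * (t * t)
    have h1 : t * y = y⁻¹ * t := by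
      rw [← h]; group
    have h2 : t * y⁻¹ = y * t := by
      have h3 : t * y⁻¹ * t⁻¹ = y := by
        calc t * y⁻¹ * t⁻¹ = (t * y * t⁻¹)⁻¹ := by group
          _ = y := by rw [h]; group
      calc t * y⁻¹ = (t * y⁻¹ * t⁻¹) * t := by group
        _ = y * t := by rw [h3]
    calc t * t * y = t * (t * y) := by group
      _ = t * y⁻¹ * t := by rw [h1]; group
      _ = y * t * t := by rw [h2]
      _ = y * (t * t) := by group
  obtain ⟨r, hr⟩ : ∃ r, e = 2 * r + 1 := by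
    have : Odd e := Nat.Coprime.odd_of_right he
    exact this
  subst hr
  have h2 : Commute (t ^ (2 * r)) y := by
    rw [pow_mul, pow_two]
    exact hc.pow_left r
  calc t ^ (2 * r + 1) * y * (t ^ (2 * r + 1))⁻¹
      = t ^ (2 * r) * (t * y * t⁻¹) * (t ^ (2 * r))⁻¹ := by
        rw [pow_succ]; group
    _ = y⁻¹ := by
        rw [h, (h2.inv_right).eq]; group

/-- A `p`-element of order prime to `2`, which is its own inverse, is trivial. -/
theorem eq_one_of_sq (hp : p.Prime) (hp2 : p ≠ 2) {y : X} (hy : ∃ m : ℕ, y ^ p ^ m = 1) (h : y = y⁻¹) : y = 1 := by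
  obtain ⟨m, hm⟩ := hy
  have h2 : y ^ 2 = 1 := by
    rw [pow_two]
    nth_rw 1 [h]
    exact inv_mul_cancel y
  have hc : Nat.Coprime (p ^ m) 2 := Nat.Coprime.pow_left _ ((Nat.coprime_primes hp Nat.prime_two).mpr hp2)
  have h3 := orderOf_dvd_of_pow_eq_one hm
  have h4 := orderOf_dvd_of_pow_eq_one h2
  have h5 : orderOf y = 1 := Nat.eq_one_of_dvd_coprimes hc h3 h4
  exact orderOf_eq_one_iff.mp h5

/-- The property passes to quotients. -/
theorem InvFree.of_surjective [Finite X] [hpf : Fact p.Prime] (hp2 : p ≠ 2) (h : InvFree p X) (f : X →* Y)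
    (hf : Function.Surjective f) : InvFree p Y := by
  classical
  have hp : p.Prime := hpf.out
  rintro tb wb ⟨k, hk⟩ ⟨m, hm⟩ hinv
  -- lifts
  obtain ⟨t₀, ht₀⟩ := hf tb
  obtain ⟨e, he, ⟨k', hk'⟩, hte⟩ := exists_part_map Nat.prime_two f t₀
  have hte' := hte ⟨k, by rw [ht₀]; exact hk⟩
  set τ := t₀ ^ e with hτ
  obtain ⟨w₀, hw₀⟩ := hf wb
  obtain ⟨e', he', ⟨k₁, hk₁⟩, hwe⟩ := exists_part_map hp f w₀
  have hwe' := hwe ⟨m, by rw [hw₀]; exact hm⟩
  set w := w₀ ^ e' with hw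
  have hfw : f w = wb := hwe'.trans hw₀
  have hfτ : f τ = tb := hte'.trans ht₀
  let L : Subgroup X := (Subgroup.zpowers wb).comap f
  have hwL : w ∈ L := by
    show f w ∈ Subgroup.zpowers wb
    rw [hfw]; exact Subgroup.mem_zpowers _
  have hs : ∀ z : Y, z ∈ Subgroup.zpowers wb → tb * z * tb⁻¹ = z⁻¹ := by
    rintro _ ⟨i, rfl⟩
    have h1 : tb * wb ^ i * tb⁻¹ = (tb * wb * tb⁻¹) ^ i := by
      simp [conj_zpow]
    show tb * wb ^ i * tb⁻¹ = (wb ^ i)⁻¹
    rw [h1, hinv]; simp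
  have hτL : τ ∈ NN L := by
    apply mem_NN_of_forall
    intro x hx
    show f (τ * x * τ⁻¹) ∈ Subgroup.zpowers wb
    rw [map_mul, map_mul, map_inv, hfτ, hs _ hx]
    exact Subgroup.inv_mem _ hx
  have hwp : IsPGroup p (Subgroup.zpowers w) := by
    rintro ⟨_, i, rfl⟩
    refine ⟨k₁, Subtype.ext ?_⟩
    show (w ^ i) ^ p ^ k₁ = 1
    rw [← zpow_natCast, ← zpow_mul, mul_comm, zpow_mul, zpow_natCast, hk₁, one_zpow]
  obtain ⟨P₁, hP₁, hwP₁⟩ := exists_isSyl_ge (H := L) (Subgroup.zpowers_le.mpr hwL) hwp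
  obtain ⟨d, hd, hdn⟩ := frattini hP₁ hτL
  set n := d⁻¹ * τ with hn
  have hfn : f n * wb * (f n)⁻¹ = wb⁻¹ := by
    have hd' : f d ∈ Subgroup.zpowers wb := hd
    have hc : Commute (f d) wb := by
      obtain ⟨i, hi⟩ := hd'
      rw [← hi]
      exact (Commute.refl wb).zpow_left i
    rw [hn, map_mul, map_inv, hfτ]
    calc (f d)⁻¹ * tb * wb * ((f d)⁻¹ * tb)⁻¹ = (f d)⁻¹ * (tb * wb * tb⁻¹) * f d := by group
      _ = (f d)⁻¹ * wb⁻¹ * f d := by rw [hinv]
      _ = wb⁻¹ := by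
        rw [(hc.inv_right.inv_left).eq]; group
  obtain ⟨e₂, he₂, ⟨k₂, hk₂⟩, -⟩ := exists_part Nat.prime_two n
  have h2N : n ^ e₂ ∈ NN P₁ := Subgroup.pow_mem _ hdn e₂
  have hP₁p : IsPGroup p P₁ := hP₁.pgrp
  have hcent := h.centralizes P₁ hP₁p k₂ (n ^ e₂) hk₂ h2N w (hwP₁ (Subgroup.mem_zpowers _))
  have h3 := congrArg f hcent
  rw [map_mul, map_mul, map_inv, map_pow, hfw] at h3
  have h4 := inverts_pow hfn he₂
  rw [h3] at h4
  exact eq_one_of_sq hp hp2 ⟨m, hm⟩ h4

/-- A group with a normal Sylow `2`-subgroup inverts no element of odd prime power order. -/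
theorem invFree_of_normal [hpf : Fact p.Prime] (hp2 : p ≠ 2) (P : Subgroup X) [hPn : P.Normal]
    (hP : ∀ x : X, (∃ k : ℕ, x ^ 2 ^ k = 1) → x ∈ P) (hP2 : IsPGroup 2 P) : InvFree p X := by
  have hp : p.Prime := hpf.out
  rintro t y htw ⟨m, hm⟩ hinv
  have htP := hP t htw
  have h1 : t * (y * t⁻¹ * y⁻¹) ∈ P := P.mul_mem htP (hPn.conj_mem _ (P.inv_mem htP) y)
  have h2 : t * (y * t⁻¹ * y⁻¹) = y⁻¹ * y⁻¹ := by
    calc t * (y * t⁻¹ * y⁻¹) = (t * y * t⁻¹) * y⁻¹ := by group
      _ = y⁻¹ * y⁻¹ := by rw [hinv]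
  rw [h2] at h1
  obtain ⟨k, hk⟩ := hP2 ⟨_, h1⟩
  have hk' : (y⁻¹ * y⁻¹) ^ 2 ^ k = 1 := by simpa using congrArg Subtype.val hk
  have hk2 : (y ^ 2) ^ 2 ^ k = 1 := by
    have : y⁻¹ * y⁻¹ = (y ^ 2)⁻¹ := by rw [pow_two]; group
    rw [this, inv_pow, inv_eq_one] at hk'
    exact hk'
  have hc : Nat.Coprime (p ^ m) (2 ^ (k + 1)) := by
    exact Nat.Coprime.pow _ _ ((Nat.coprime_primes hp Nat.prime_two).mpr hp2)
  have h3 := orderOf_dvd_of_pow_eq_one hm
  have h4 : orderOf y ∣ 2 ^ (k + 1) := by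
    apply orderOf_dvd_of_pow_eq_one
    rw [pow_succ', pow_mul]
    exact hk2
  exact orderOf_eq_one_iff.mp (Nat.eq_one_of_dvd_coprimes hc h3 h4)

/-- Two involutions whose product is a `2`-element generate a `2`-group. -/
theorem isPGroup_two_of_involutions {t t' : X} (ht : t * t = 1) (ht' : t' * t' = 1) {k : ℕ}
    (hr : (t * t') ^ 2 ^ k = 1) : IsPGroup 2 ↥(Subgroup.zpowers t ⊔ Subgroup.zpowers t') := by
  set r := t * t' with hrdef
  have htinv : t⁻¹ = t := inv_eq_of_mul_eq_one_left ht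
  have htinv' : t'⁻¹ = t' := inv_eq_of_mul_eq_one_left ht'
  have hrinv : t * r * t⁻¹ = r⁻¹ := by
    rw [hrdef, htinv, mul_inv_rev, htinv, htinv']
    calc t * (t * t') * t = (t * t) * t' * t := by group
      _ = t' * t := by rw [ht, one_mul]
  have htz : ∀ i : ℤ, t * r ^ i = r ^ (-i) * t := by
    intro i
    have h1 : t * r ^ i * t⁻¹ = (t * r * t⁻¹) ^ i := by simp [conj_zpow]
    rw [hrinv] at h1
    calc t * r ^ i = (t * r ^ i * t⁻¹) * t := by group
      _ = r ^ (-i) * t := by rw [h1]; simp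
  let K : Subgroup X :=
    { carrier := {h | ∃ i : ℤ, h = r ^ i ∨ h = r ^ i * t}
      one_mem' := ⟨0, Or.inl (by simp)⟩
      mul_mem' := by
        rintro a b ⟨i, rfl | rfl⟩ ⟨j, rfl | rfl⟩
        · exact ⟨i + j, Or.inl (zpow_add _ _ _).symm⟩
        · exact ⟨i + j, Or.inr (by rw [zpow_add]; group)⟩
        · refine ⟨i - j, Or.inr ?_⟩
          rw [mul_assoc, htz, ← mul_assoc, ← zpow_add, sub_eq_add_neg]
        · refine ⟨i - j, Or.inl ?_⟩
          calc r ^ i * t * (r ^ j * t) = r ^ i * (t * r ^ j) * t := by group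
            _ = r ^ i * (r ^ (-j) * t) * t := by rw [htz]
            _ = r ^ i * r ^ (-j) * (t * t) := by group
            _ = r ^ (i - j) := by rw [ht, mul_one, ← zpow_add, sub_eq_add_neg]
      inv_mem' := by
        rintro a ⟨i, rfl | rfl⟩
        · exact ⟨-i, Or.inl (by simp)⟩
        · refine ⟨i, Or.inr ?_⟩
          rw [mul_inv_rev, htinv, ← zpow_neg, htz, neg_neg] }
  have hle : Subgroup.zpowers t ⊔ Subgroup.zpowers t' ≤ K := by
    apply sup_le
    · rw [Subgroup.zpowers_le]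
      exact ⟨0, Or.inr (by simp)⟩
    · rw [Subgroup.zpowers_le]
      refine ⟨-1, Or.inr ?_⟩
      rw [zpow_neg, zpow_one, hrdef, mul_inv_rev, htinv, htinv', mul_assoc, ht, mul_one]
  rintro ⟨h, hh⟩
  obtain ⟨i, hi⟩ := hle hh
  have hr' : (r ^ i) ^ 2 ^ k = 1 := by
    rw [← zpow_natCast, ← zpow_mul, mul_comm, zpow_mul, zpow_natCast, hr, one_zpow]
  rcases hi with rfl | rfl
  · exact ⟨k, Subtype.ext hr'⟩
  · refine ⟨1, Subtype.ext ?_⟩
    show (r ^ i * t) ^ 2 ^ 1 = 1
    rw [pow_one, pow_two]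
    calc r ^ i * t * (r ^ i * t) = r ^ i * (t * r ^ i) * t := by group
      _ = r ^ i * (r ^ (-i) * t) * t := by rw [htz]
      _ = r ^ i * r ^ (-i) * (t * t) := by group
      _ = 1 := by rw [ht]; simp

/-- If the group inverts no odd-order element, an involution lies in `O₂`. -/
theorem involution_mem_pCore [Finite X] (h : ∀ q : ℕ, q.Prime → q ≠ 2 → InvFree q X) {t : X} (ht : t * t = 1) :
    t ∈ pCore 2 X := by
  haveI : Fact (Nat.Prime 2) := ⟨Nat.prime_two⟩
  have htinv : t⁻¹ = t := inv_eq_of_mul_eq_one_left ht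
  have hX : IsPGroup 2 (Subgroup.zpowers t) := by
    rintro ⟨_, i, rfl⟩
    refine ⟨1, Subtype.ext ?_⟩
    show (t ^ i) ^ 2 ^ 1 = 1
    have h1 : t ^ (2 : ℕ) = 1 := by rw [pow_two, ht]
    rw [pow_one, ← zpow_natCast, ← zpow_mul, mul_comm, zpow_mul, zpow_natCast, h1, one_zpow]
  have hall : ∀ g : X, IsPGroup 2 ↥(Subgroup.zpowers t ⊔ (Subgroup.zpowers t).map (MulAut.conj g).toMonoidHom) := by
    intro g
    set t' := g * t * g⁻¹ with ht'def
    have ht' : t' * t' = 1 := by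
      rw [ht'def]
      calc g * t * g⁻¹ * (g * t * g⁻¹) = g * (t * t) * g⁻¹ := by group
        _ = 1 := by rw [ht]; group
    have hmap : (Subgroup.zpowers t).map (MulAut.conj g).toMonoidHom = Subgroup.zpowers t' := by
      rw [MonoidHom.map_zpowers]
      rfl
    rw [hmap]
    set r := t * t' with hr
    have hr2 : ∃ k : ℕ, r ^ 2 ^ k = 1 := by
      have hn0 : orderOf r ≠ 0 := (orderOf_pos r).ne'
      by_cases hall : ∀ {d : ℕ}, d.Prime → d ∣ orderOf r → d = 2
      · have h1 := Nat.eq_prime_pow_of_unique_prime_dvd hn0 hall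
        refine ⟨(orderOf r).primeFactorsList.length, ?_⟩
        rw [← h1]
        exact pow_orderOf_eq_one r
      · exfalso
        push Not at hall
        obtain ⟨q, hq, hqd, hq2⟩ := hall
        have hinv : t * r * t⁻¹ = r⁻¹ := by
          have htinv' : t'⁻¹ = t' := inv_eq_of_mul_eq_one_left ht'
          rw [hr, htinv, mul_inv_rev, htinv, htinv']
          calc t * (t * t') * t = (t * t) * t' * t := by group
            _ = t' * t := by rw [ht, one_mul]
        set x := r ^ (orderOf r / q) with hx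
        have hxinv : t * x * t⁻¹ = x⁻¹ := by
          have h1 : t * x * t⁻¹ = (t * r * t⁻¹) ^ (orderOf r / q) := by
            rw [hx]; simp [conj_pow]
          rw [h1, hinv, hx, inv_pow]
        have hxq : x ^ q ^ 1 = 1 := by
          rw [pow_one, hx, ← pow_mul, Nat.div_mul_cancel hqd, pow_orderOf_eq_one]
        have h1 := h q hq hq2 t x ⟨1, by rw [pow_one, pow_two, ht]⟩ ⟨1, hxq⟩ hxinv
        have h2 : orderOf r ∣ orderOf r / q := orderOf_dvd_of_pow_eq_one h1
        have h3 : orderOf r / q < orderOf r := Nat.div_lt_self (orderOf_pos r) hq.one_lt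
        have h4 : 0 < orderOf r / q := Nat.div_pos (Nat.le_of_dvd (orderOf_pos r) hqd) hq.pos
        exact absurd (Nat.le_of_dvd h4 h2) (not_le.mpr h3)
    obtain ⟨k, hk⟩ := hr2
    exact isPGroup_two_of_involutions ht ht' hk
  obtain ⟨N, hNn, hNp, hXN⟩ := Cfsg.Agent.Lib.BaerSuzuki.baer_suzuki (Subgroup.zpowers t) hX hall
  exact le_pCore hNn hNp (hXN (Subgroup.mem_zpowers t))

/-- If the group inverts no odd-order element, all Sylow `2`-subgroups are normal. -/
theorem normal_sylow [Finite X] (h : ∀ q : ℕ, q.Prime → q ≠ 2 → InvFree q X) (P : Sylow 2 X) :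
    (P : Subgroup X).Normal := by
  haveI : Fact (Nat.Prime 2) := ⟨Nat.prime_two⟩
  haveI hOn : (pCore 2 X).Normal := by
    have := pCore_characteristic (G := X) 2
    infer_instance
  have hq : ∀ q : ℕ, q.Prime → q ≠ 2 → InvFree q (X ⧸ pCore 2 X) := fun q hq hq2 => by
    haveI : Fact q.Prime := ⟨hq⟩
    exact (h q hq hq2).of_surjective hq2 _ (QuotientGroup.mk'_surjective _)
  have hbot : pCore 2 (X ⧸ pCore 2 X) = ⊥ := pCore_quotient_pCore 2
  -- a `2`-element of the quotient is trivial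
  have htriv : ∀ (n : ℕ) (y : X ⧸ pCore 2 X), y ^ 2 ^ n = 1 → y = 1 := by
    intro n
    induction n with
    | zero => intro y hy; simpa using hy
    | succ n ih =>
      intro y hy
      have h1 : y ^ 2 ^ n = 1 := by
        have h2 : (y ^ 2 ^ n) * (y ^ 2 ^ n) = 1 := by
          rw [← pow_add, ← two_mul, ← pow_succ']
          exact hy
        have h3 := involution_mem_pCore hq h2
        rw [hbot] at h3
        exact Subgroup.mem_bot.mp h3
      exact ih y h1
  have hle : (P : Subgroup X) ≤ pCore 2 X := by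
    intro x hx
    obtain ⟨k, hk⟩ := P.isPGroup' ⟨x, hx⟩
    have hk' : x ^ 2 ^ k = 1 := by simpa using congrArg Subtype.val hk
    have h1 := htriv k (QuotientGroup.mk x) (by rw [← QuotientGroup.mk_pow, hk']; rfl)
    exact (QuotientGroup.eq_one_iff x).mp h1
  have heq : (P : Subgroup X) = pCore 2 X := le_antisymm hle (pCore_le_sylow 2 P)
  rw [heq]
  exact hOn

end Cfsg.Agent.Lib.InvFreeP
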