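import Mathlib
import Cfsg.Agent.Lib.QuadP
import Cfsg.Agent.Lib.QdPair
import Cfsg.Agent.Lib.InvFreeP

/-!
# Two quadratic elements: a `2`-element normalizing a `p`-subgroup.

If two `p`-elements act quadratically on a `p`-subgroup `V` and do not generate a `p`-group modulo `C(V)`, then by
Dickson's theorem the image of the group they generate in `SL₂(F)` contains `-1`, and a Frattini argument gives a
`2`-element outside `C(V)`, in the group they generate, normalizing a `p`-subgroup containing the first one.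
-/

set_option autoImplicit false
set_option linter.style.haveILetI false
set_option linter.unusedSectionVars false

open TensorProduct
open Cfsg
open scoped commutatorElement

namespace Cfsg.Agent.Lib.InvQuad

open Cfsg.Agent.Lib.QuadSection Cfsg.Agent.Lib.InvFreeP Cfsg.Agent.Lib.AlperinControl Cfsg.Agent.Lib.ControlSec

variable {p : ℕ} [hp : Fact p.Prime]

section Module

variable {Γ : Type*} [Group Γ] [Finite Γ] {W : Type*} [AddCommGroup W] [Finite W]

/-- Two quadratic elements generating a group acting as a non-`p`-group: a central involution in a homomorphic image,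
in which the first generator has order dividing `p`. -/
theorem exists_central_invol (hp2 : p ≠ 2) (hW : ∀ w : W, p • w = 0)
    (ρ : Γ →* AddMonoid.End W) {a b : Γ} (hgen : Subgroup.closure ({a, b} : Set Γ) = ⊤)
    (hX : (ρ a - 1) * (ρ a - 1) = 0) (hY : (ρ b - 1) * (ρ b - 1) = 0) (h : Γ) (hh : ∀ m : ℕ, ρ h ^ p ^ m ≠ 1) :
    ∃ (Z : Type) (_ : Group Z) (φ : Γ →* Z) (y : Γ), (∀ z : Z, φ y * z = z * φ y) ∧ φ y * φ y = 1 ∧ φ y ≠ 1 ∧
      φ a ^ p = 1 := by
  classical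
  have hD := Cfsg.Agent.Lib.QuadP.dicksonProp hp2
  have hpp : p.Prime := hp.out
  haveI : Module (ZMod p) W := AddCommGroup.zmodModule hW
  let f₁ : Γ → Module.End (ZMod p) W := fun g => AddMonoidHom.toZModLinearMap p (show W →+ W from ρ g)
  have hf₁ : ∀ g w, f₁ g w = ρ g w := fun _ _ => rfl
  let ρ₁ : Γ →* Module.End (ZMod p) W :=
    { toFun := f₁
      map_one' := LinearMap.ext fun w => by
        rw [hf₁, map_one, Module.End.one_apply]; rfl
      map_mul' := fun x y => LinearMap.ext fun w => by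
        rw [hf₁, map_mul, Module.End.mul_apply, hf₁, hf₁]; rfl }
  have hρ₁ : ∀ g w, ρ₁ g w = ρ g w := fun _ _ => rfl
  -- the field
  obtain ⟨e, k, hk, hn⟩ := Nat.exists_eq_pow_mul_and_not_dvd (orderOf_pos (a * b)).ne' p hpp.ne_one
  have hkpos : 0 < k := by
    rcases Nat.eq_zero_or_pos k with h0 | h0
    · exact absurd (h0 ▸ dvd_zero p) hk
    · exact h0
  have hkc : Nat.Coprime p k := (Nat.Prime.coprime_iff_not_dvd hpp).mpr hk
  set m := Nat.totient k with hm
  have hm0 : m ≠ 0 := (Nat.totient_pos.mpr hkpos).ne'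
  let K := GaloisField p m
  haveI : Fintype K := Fintype.ofFinite K
  have hcard : Fintype.card K = p ^ m := by
    rw [← Nat.card_eq_fintype_card]; exact GaloisField.card p m hm0
  have hkd : k ∣ Fintype.card K - 1 := by
    rw [hcard]
    have h1 := Nat.ModEq.pow_totient hkc
    exact (Nat.modEq_iff_dvd' (Nat.one_le_pow _ _ hpp.pos)).mp h1.symm
  let bc := Module.End.baseChangeHom (ZMod p) K W
  have hbc : Function.Injective bc := LinearMap.baseChangeHom_injective (ZMod p) W K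
  let ρ₂ : Γ →* Module.End K (K ⊗[ZMod p] W) := (bc.toRingHom.toMonoidHom).comp ρ₁
  have hρ₂ : ∀ g, ρ₂ g = bc (ρ₁ g) := fun _ => rfl
  have hquad : ∀ g, (ρ g - 1) * (ρ g - 1) = 0 → (ρ₂ g - 1) * (ρ₂ g - 1) = 0 := by
    intro g hg
    have h1 : (ρ₁ g - 1) * (ρ₁ g - 1) = 0 := by
      ext w
      have h2 : ((ρ g - 1) * (ρ g - 1)) w = 0 := by rw [hg]; rfl
      have e : ∀ v, (ρ g - 1) v = ρ g v - v := fun v => rfl
      have h3 : (ρ g - 1) ((ρ g - 1) w) = 0 := h2
      rw [e, e] at h3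
      simpa [hρ₁] using h3
    rw [hρ₂, ← map_one bc, ← map_sub bc, ← map_mul bc, h1, map_zero]
  have hord : ρ₂ (a * b) ^ (p ^ e * k) = 1 := by
    rw [← map_pow, ← hn, pow_orderOf_eq_one, map_one]
  have hhne : ∀ m : ℕ, ρ₂ h ^ p ^ m ≠ 1 := by
    intro m hm1
    apply hh m
    rw [hρ₂, ← map_pow, ← map_one bc] at hm1
    have h1 := hbc hm1
    ext w
    have := congrArg (fun f => f w) h1
    have h3 : ∀ (n : ℕ) (w : W), (ρ₁ h ^ n) w = (ρ h ^ n) w := by
      intro n w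
      induction n generalizing w with
      | zero => rw [pow_zero, pow_zero]; rfl
      | succ n ih => rw [pow_succ, pow_succ, Module.End.mul_apply, ih, hρ₁]; rfl
    rw [← h3]
    simpa using this
  obtain ⟨φ, c, hc, hφa, hφb, hφh⟩ := Cfsg.Agent.Lib.QuadPair.exists_sl2_rep (K := K) (p := p) hgen (e := e) (k := k)
    hkd h _ (K ⊗[ZMod p] W) rfl ρ₂ (hquad a hX) (hquad b hY) hord hhne
  -- more than one Sylow subgroup
  have hcharK : ((p : ℕ) : K) = 0 := CharP.cast_eq_zero K p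
  let φ' : Γ →* φ.range := φ.rangeRestrict
  have hφ'surj : Function.Surjective φ' := φ.rangeRestrict_surjective
  have hgen' : Subgroup.closure (φ' '' ({a, b} : Set Γ)) = ⊤ := by
    rw [← MonoidHom.map_closure, hgen, Subgroup.map_top_of_surjective φ' hφ'surj]
  have hone : 1 < Nat.card (Sylow p φ.range) := by
    apply one_lt_card_sylow _ hgen'
    · rintro _ ⟨x, hx, rfl⟩
      refine ⟨1, ?_⟩
      apply Subtype.ext
      show φ x ^ p ^ 1 = 1
      rw [pow_one]
      rcases hx with rfl | hx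
      · exact sl2_pow_upper _ c hφa
      · rw [Set.mem_singleton_iff.mp hx]
        exact sl2_pow_lower _ hφb
    · intro hpg
      obtain ⟨n, hn⟩ := hpg (φ' h)
      exact hφh n (congrArg Subtype.val hn)
  obtain ⟨K', hK', ⟨e'⟩⟩ := hD K φ.range hone
  -- the involution
  let z₀ : K' := e'.symm (Cfsg.Agent.Lib.QdPair.z0 p)
  have hz₀ : z₀ * z₀ = 1 := by
    show e'.symm _ * e'.symm _ = 1
    rw [← map_mul, Cfsg.Agent.Lib.QdPair.z0_sq, map_one]
  have hz₀1 : z₀ ≠ 1 := by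
    intro h0
    have h1 : e' z₀ = 1 := by rw [h0, map_one]
    have h2 : e' z₀ = Cfsg.Agent.Lib.QdPair.z0 p := e'.apply_symm_apply _
    exact Cfsg.Agent.Lib.QdPair.z0_ne hp2 (h2.symm.trans h1)
  have h20 : (2 : K) ≠ 0 := by
    intro h0
    have h1 : ((2 : ℕ) : K) = 0 := by exact_mod_cast h0
    have h2 := (CharP.cast_eq_zero_iff K p 2).mp h1
    exact hp2 ((Nat.prime_dvd_prime_iff_eq hpp Nat.prime_two).mp h2)
  obtain ⟨y, hy⟩ := hK' z₀.2
  have hz₁ : (z₀ : Matrix.SpecialLinearGroup (Fin 2) K) * z₀ = 1 := congrArg Subtype.val hz₀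
  have hz₂ : (z₀ : Matrix.SpecialLinearGroup (Fin 2) K) ≠ 1 := fun h0 => hz₀1 (Subtype.ext h0)
  have hz₃ := Cfsg.Agent.Lib.QdPair.involution_eq h20 hz₁ hz₂
  refine ⟨Matrix.SpecialLinearGroup (Fin 2) K, inferInstance, φ, y, ?_, ?_, ?_, ?_⟩
  · intro z
    apply Subtype.ext
    rw [Matrix.SpecialLinearGroup.coe_mul, Matrix.SpecialLinearGroup.coe_mul, hy, hz₃]
    simp
  · rw [hy]; exact hz₁
  · rw [hy]; exact hz₂
  · exact sl2_pow_upper _ c hφa

end Module

section Main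

variable {G : Type*} [Group G] [Finite G]

/-- A fixed-point computation: a quadratic element fixes its commutators with `V`. -/
theorem quad_fix (V Γ₀ : Subgroup G) (hΓN : Γ₀ ≤ Subgroup.normalizer (V : Set G)) (c : Γ₀)
    (hc : ∀ v ∈ V, ⁅⁅v, (c : G)⁆, (c : G)⁆ = 1) (x : V) :
    conjHom V Γ₀ hΓN c (conjHom V Γ₀ hΓN c x * x⁻¹) = conjHom V Γ₀ hΓN c x * x⁻¹ := by
  apply Subtype.ext
  have h1 := hc x x.2
  rw [commutatorElement_eq_one_iff_mul_comm] at h1
  set y : G := (x : G) with hy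
  set d : G := (c : G) with hd
  have e1 : (((conjHom V Γ₀ hΓN c (conjHom V Γ₀ hΓN c x * x⁻¹)) : V) : G) = d * (d * y * d⁻¹ * y⁻¹) * d⁻¹ := rfl
  have e2 : (((conjHom V Γ₀ hΓN c x * x⁻¹ : V)) : G) = d * y * d⁻¹ * y⁻¹ := rfl
  rw [e1, e2]
  have e3 : ⁅y, d⁆ = (d * y * d⁻¹ * y⁻¹)⁻¹ ^ 1 := by
    rw [commutatorElement_def]; group
  rw [e3, pow_one] at h1
  have h2 : d * (d * y * d⁻¹ * y⁻¹) = (d * y * d⁻¹ * y⁻¹) * d := by
    calc d * (d * y * d⁻¹ * y⁻¹) = (d * y * d⁻¹ * y⁻¹) * (d * y * d⁻¹ * y⁻¹)⁻¹ * d * (d * y * d⁻¹ * y⁻¹) := by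
          group
      _ = (d * y * d⁻¹ * y⁻¹) * ((d * y * d⁻¹ * y⁻¹)⁻¹ * d) * (d * y * d⁻¹ * y⁻¹) := by group
      _ = (d * y * d⁻¹ * y⁻¹) * (d * (d * y * d⁻¹ * y⁻¹)⁻¹) * (d * y * d⁻¹ * y⁻¹) := by rw [h1]
      _ = _ := by group
  rw [h2]
  group

/-- The homomorphism from the group generated by two quadratic elements, trivial on `C(V)`, with a central
involution in its image. -/
theorem exists_hom (hp2 : p ≠ 2) (V : Subgroup G) (hVp : IsPGroup p V) {a b : G}
    (haV : a ∈ Subgroup.normalizer (V : Set G)) (hbV : b ∈ Subgroup.normalizer (V : Set G))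
    (ha : ∀ v ∈ V, ⁅⁅v, a⁆, a⁆ = 1) (hb : ∀ v ∈ V, ⁅⁅v, b⁆, b⁆ = 1)
    (h : G) (hh : h ∈ Subgroup.closure ({a, b} : Set G))
    (hnp : ∀ m : ℕ, h ^ p ^ m ∉ Subgroup.centralizer (V : Set G)) :
    ∃ (Z : Type) (_ : Group Z) (φ : ↥(Subgroup.closure ({a, b} : Set G)) →* Z)
      (y : ↥(Subgroup.closure ({a, b} : Set G))),
      (∀ z : Z, φ y * z = z * φ y) ∧ φ y * φ y = 1 ∧ φ y ≠ 1 ∧
      (∀ x : ↥(Subgroup.closure ({a, b} : Set G)), (x : G) ∈ Subgroup.centralizer (V : Set G) → φ x = 1) ∧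
      φ ⟨a, Subgroup.subset_closure (by simp)⟩ ^ p = 1 := by
  classical
  set Γ₀ := Subgroup.closure ({a, b} : Set G) with hΓ₀
  have hΓN : Γ₀ ≤ Subgroup.normalizer (V : Set G) := by
    rw [hΓ₀, Subgroup.closure_le]
    rintro x (rfl | hx)
    · exact haV
    · rw [Set.mem_singleton_iff.mp hx]; exact hbV
  let Q := ↥V
  let τ : Γ₀ →* MulAut Q := conjHom V Γ₀ hΓN
  let Γ : Subgroup (MulAut Q) := τ.range
  let τ₀ : Γ₀ →* Γ := τ.rangeRestrict
  have hτ₀ : Function.Surjective τ₀ := τ.rangeRestrict_surjective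
  haveI : Finite Q := inferInstance
  have hQ : IsPGroup p Q := hVp
  have hcomm := frattini_quot_comm hQ
  obtain ⟨E, instE, π, hπ, hker⟩ : ∃ (E : Type _) (_ : CommGroup E) (π : Q →* E),
      Function.Surjective π ∧ ∀ x, π x = 1 ↔ x ∈ frattini Q :=
    ⟨Q ⧸ frattini Q, { (inferInstance : Group (Q ⧸ frattini Q)) with mul_comm := hcomm },
      QuotientGroup.mk' (frattini Q), QuotientGroup.mk'_surjective _,
      fun x => QuotientGroup.eq_one_iff x⟩
  have hEfin : Finite E := Finite.of_surjective π hπ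
  have hchar : ∀ (σ : MulAut Q) (x : Q), x ∈ frattini Q → σ x ∈ frattini Q := by
    intro σ x hx
    have h1 := (inferInstance : (frattini Q).Characteristic).fixed σ
    have h2 : σ x ∈ (frattini Q).comap σ.symm.toMonoidHom := by
      show σ.symm (σ x) ∈ frattini Q
      simpa using hx
    rwa [(inferInstance : (frattini Q).Characteristic).fixed σ.symm] at h2
  obtain ⟨ρ, hρ⟩ := exists_induced π hπ Γ.subtype
    (fun g x hx => (hker _).mpr (hchar _ _ ((hker x).mp hx)))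
  have hW : ∀ w : Additive E, p • w = 0 := by
    intro w
    obtain ⟨x, hx⟩ := hπ (Additive.toMul w)
    have hw : w = Additive.ofMul (π x) := by rw [hx]; rfl
    rw [hw, ← ofMul_pow, ← map_pow, (hker _).mpr (Cfsg.Agent.Lib.Frat.pow_mem_frattini hQ x)]
    rfl
  have hWfin : Finite (Additive E) := hEfin
  let a' : Γ₀ := ⟨a, Subgroup.subset_closure (by simp)⟩
  let b' : Γ₀ := ⟨b, Subgroup.subset_closure (by simp)⟩
  have hgen : Subgroup.closure ({a', b'} : Set Γ₀) = ⊤ := by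
    have h1 := Subgroup.closure_closure_coe_preimage (k := ({a, b} : Set G))
    convert h1 using 2
    ext x
    constructor
    · rintro (rfl | hx)
      · simp [a']
      · rw [Set.mem_singleton_iff.mp hx]; simp [b']
    · rintro (hx | hx)
      · left; exact Subtype.ext hx
      · right; exact Subtype.ext hx
  have hgen₁ : Subgroup.closure ({τ₀ a', τ₀ b'} : Set Γ) = ⊤ := by
    have h1 : (Subgroup.closure ({a', b'} : Set Γ₀)).map τ₀ = ⊤ := by
      rw [hgen, Subgroup.map_top_of_surjective τ₀ hτ₀]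
    rw [MonoidHom.map_closure, Set.image_pair] at h1
    exact h1
  have hX := quad_of_fix π hπ (ρ (τ₀ a')) (τ a') (fun x => hρ _ x) (quad_fix V Γ₀ hΓN a' ha)
  have hY := quad_of_fix π hπ (ρ (τ₀ b')) (τ b') (fun x => hρ _ x) (quad_fix V Γ₀ hΓN b' hb)
  let h' : Γ₀ := ⟨h, hh⟩
  have hh' : ∀ m : ℕ, ρ (τ₀ h') ^ p ^ m ≠ 1 := by
    intro m hm
    have h1 : ∀ x, τ (h' ^ p ^ m) x * x⁻¹ ∈ frattini Q := by
      intro x
      have h2 : ρ (τ₀ h' ^ p ^ m) (Additive.ofMul (π x)) = Additive.ofMul (π x) := by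
        rw [map_pow, hm]; rfl
      rw [hρ] at h2
      have h3 : π (τ (h' ^ p ^ m) x) = π x := by
        rw [map_pow]
        exact h2
      apply (hker _).mp
      rw [map_mul, map_inv, h3, mul_inv_cancel]
    obtain ⟨m', hm'⟩ := exists_pow_eq_one_of_frattini hQ (τ (h' ^ p ^ m)) h1
    apply hnp (m + m')
    rw [Subgroup.mem_centralizer_iff]
    intro v hv
    have h4 : τ (h' ^ p ^ (m + m')) = 1 := by
      rw [pow_add, pow_mul, map_pow]
      exact hm'
    have h5 : ((τ (h' ^ p ^ (m + m')) ⟨v, hv⟩ : Q) : G) = v := by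
      rw [h4]; rfl
    have h6 : ((τ (h' ^ p ^ (m + m')) ⟨v, hv⟩ : Q) : G) = h ^ p ^ (m + m') * v * (h ^ p ^ (m + m'))⁻¹ := rfl
    rw [h6] at h5
    rw [eq_comm]
    calc h ^ p ^ (m + m') * v = (h ^ p ^ (m + m') * v * (h ^ p ^ (m + m'))⁻¹) * h ^ p ^ (m + m') := by group
      _ = v * h ^ p ^ (m + m') := by rw [h5]
  obtain ⟨Z, instZ, φ, y, hy1, hy2, hy3, hy4⟩ := exists_central_invol hp2 hW ρ hgen₁ hX hY (τ₀ h') hh'
  obtain ⟨y₀, rfl⟩ := hτ₀ y
  refine ⟨Z, instZ, φ.comp τ₀, y₀, hy1, hy2, hy3, ?_, hy4⟩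
  intro x hx
  have h1 : τ₀ x = 1 := by
    apply Subtype.ext
    apply MulEquiv.ext
    intro v
    apply Subtype.ext
    have h2 : ((τ x v : Q) : G) = (x : G) * v * (x : G)⁻¹ := rfl
    have h3 := (Subgroup.mem_centralizer_iff.mp hx) v v.2
    show ((τ x v : Q) : G) = v
    rw [h2, ← h3]
    group
  show φ (τ₀ x) = 1
  rw [h1, map_one]

/-- **The main lemma.** Two `p`-elements acting quadratically on `V`, generating a group which is not a `p`-group modulo
`C(V)`: their group contains a `2`-element outside `C(V)` normalizing a `p`-subgroup which contains the first one. -/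
theorem exists_two_element (hp2 : p ≠ 2) (V : Subgroup G) (hVp : IsPGroup p V) {a b : G} (hap : ∃ k : ℕ, a ^ p ^ k = 1)
    (haV : a ∈ Subgroup.normalizer (V : Set G)) (hbV : b ∈ Subgroup.normalizer (V : Set G))
    (ha : ∀ v ∈ V, ⁅⁅v, a⁆, a⁆ = 1) (hb : ∀ v ∈ V, ⁅⁅v, b⁆, b⁆ = 1)
    (h : G) (hh : h ∈ Subgroup.closure ({a, b} : Set G))
    (hnp : ∀ m : ℕ, h ^ p ^ m ∉ Subgroup.centralizer (V : Set G)) :
    ∃ n ∈ Subgroup.closure ({a, b} : Set G), (∃ k : ℕ, n ^ 2 ^ k = 1) ∧ n ∉ Subgroup.centralizer (V : Set G) ∧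
      ∃ S : Subgroup G, IsPGroup p S ∧ a ∈ S ∧ n ∈ Subgroup.normalizer (S : Set G) := by
  classical
  have hpp : p.Prime := hp.out
  set Γ₀ := Subgroup.closure ({a, b} : Set G) with hΓ₀
  obtain ⟨Z, instZ, φ, y, hy1, hy2, hy3, hker, hφa⟩ := exists_hom hp2 V hVp haV hbV ha hb h hh hnp
  let a' : Γ₀ := ⟨a, Subgroup.subset_closure (by simp)⟩
  have hφa' : φ a' ^ p = 1 := hφa
  -- the preimage of the group generated by the image of `a`
  let A₀ : Subgroup Γ₀ := (Subgroup.zpowers (φ a')).comap φ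
  let A : Subgroup G := A₀.map Γ₀.subtype
  have hAΓ : A ≤ Γ₀ := Subgroup.map_subtype_le _
  have haA : a ∈ A := ⟨a', by show φ a' ∈ Subgroup.zpowers (φ a'); exact Subgroup.mem_zpowers _, rfl⟩
  have hyA : (y : G) ∈ NN A := by
    apply mem_NN_of_forall
    rintro _ ⟨x, hx, rfl⟩
    refine ⟨y * x * y⁻¹, ?_, rfl⟩
    show φ (y * x * y⁻¹) ∈ Subgroup.zpowers (φ a')
    have e : φ (y * x * y⁻¹) = φ x := by
      rw [map_mul, map_mul, map_inv, hy1]
      group
    rw [e]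
    exact hx
  obtain ⟨k₀, hk₀⟩ := hap
  have hap' : IsPGroup p (Subgroup.zpowers a) := by
    rintro ⟨_, i, rfl⟩
    refine ⟨k₀, Subtype.ext ?_⟩
    show (a ^ i) ^ p ^ k₀ = 1
    rw [← zpow_natCast, ← zpow_mul, mul_comm, zpow_mul, zpow_natCast, hk₀, one_zpow]
  obtain ⟨S, hS, haS⟩ := exists_isSyl_ge (H := A) (Subgroup.zpowers_le.mpr haA) hap'
  obtain ⟨d, hd, hdn⟩ := frattini hS hyA
  obtain ⟨d', hd', rfl⟩ := hd
  -- the element
  set n₀ : Γ₀ := d'⁻¹ * y with hn₀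
  obtain ⟨e, he, ⟨k, hk⟩, -⟩ := exists_part Nat.prime_two n₀
  have hk' : (n₀ ^ e) ^ 2 ^ (k + 1) = 1 := by
    rw [pow_succ, pow_mul, hk, one_pow]
  have hmemN : ((n₀ ^ e : Γ₀) : G) ∈ NN S := by
    rw [Subgroup.coe_pow]
    exact Subgroup.pow_mem _ hdn e
  -- the image of the element
  obtain ⟨i, hi⟩ : φ d' ∈ Subgroup.zpowers (φ a') := hd'
  set u := (φ d')⁻¹ with hu
  have hup : u ^ p = 1 := by
    rw [hu, ← hi, inv_pow, ← zpow_natCast, ← zpow_mul, mul_comm, zpow_mul, zpow_natCast, hφa', one_zpow, inv_one]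
  have hφn₀ : φ n₀ = u * φ y := by
    rw [hn₀, map_mul, map_inv]
  have hzpow : φ y ^ 2 = 1 := by rw [pow_two, hy2]
  have hcomm : Commute u (φ y) := (hy1 u).symm
  have hφne : φ (n₀ ^ e) = u ^ e * φ y := by
    rw [map_pow, hφn₀, hcomm.mul_pow]
    congr 1
    obtain ⟨r, hr⟩ : ∃ r, e = 2 * r + 1 := Nat.Coprime.odd_of_right he
    rw [hr, pow_succ, pow_mul, hzpow, one_pow, one_mul]
  have hue : u ^ e = 1 := by
    have h1 : (u ^ e * φ y) ^ 2 ^ (k + 1) = 1 := by
      rw [← hφne, ← map_pow, hk', map_one]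
    rw [(hcomm.pow_left e).mul_pow, show φ y ^ 2 ^ (k + 1) = 1 by rw [pow_succ', pow_mul, hzpow, one_pow],
      mul_one] at h1
    have h2 : (u ^ e) ^ p = 1 := by
      rw [← pow_mul, mul_comm, pow_mul, hup, one_pow]
    have hc : Nat.Coprime p (2 ^ (k + 1)) :=
      Nat.Coprime.pow_right _ ((Nat.coprime_primes hpp Nat.prime_two).mpr hp2)
    exact orderOf_eq_one_iff.mp (Nat.eq_one_of_dvd_coprimes hc (orderOf_dvd_of_pow_eq_one h2)
      (orderOf_dvd_of_pow_eq_one h1))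
  have hφ1 : φ (n₀ ^ e) = φ y := by rw [hφne, hue, one_mul]
  refine ⟨((n₀ ^ e : Γ₀) : G), (n₀ ^ e).2, ⟨k + 1, ?_⟩, ?_, S, hS.pgrp, haS (Subgroup.mem_zpowers a), hmemN⟩
  · exact congrArg Subtype.val hk'
  · intro hmem
    have h1 := hker _ hmem
    rw [hφ1] at h1
    exact hy3 h1

/-- Baer-Suzuki: a quadratic `p`-element outside the `p`-core modulo the centralizer produces a `2`-element. -/
theorem exists_two_element_of_not_mem (hp2 : p ≠ 2) (V : Subgroup G) [hVn : V.Normal] (hVp : IsPGroup p V) {a : G}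
    (hap : ∃ k : ℕ, a ^ p ^ k = 1) (ha : ∀ v ∈ V, ⁅⁅v, a⁆, a⁆ = 1)
    [hCn : (Subgroup.centralizer (V : Set G)).Normal]
    (hM : (QuotientGroup.mk a : G ⧸ Subgroup.centralizer (V : Set G)) ∉
      Cfsg.pCore p (G ⧸ Subgroup.centralizer (V : Set G))) :
    ∃ n : G, (∃ k : ℕ, n ^ 2 ^ k = 1) ∧ n ∉ Subgroup.centralizer (V : Set G) := by
  classical
  have htop : Subgroup.normalizer (V : Set G) = ⊤ := Subgroup.normalizer_eq_top_iff.mpr hVn
  have hN : ∀ g : G, g ∈ Subgroup.normalizer (V : Set G) := fun g => by rw [htop]; trivial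
  set C := Subgroup.centralizer (V : Set G) with hC
  let π : G →* G ⧸ C := QuotientGroup.mk' C
  have hπ : Function.Surjective π := QuotientGroup.mk'_surjective C
  obtain ⟨k, hk⟩ := exists_pow_mem_centralizer V hVp (hN a) ha
  let X : Subgroup (G ⧸ C) := Subgroup.zpowers (π a)
  have hXp : IsPGroup p X := by
    have hpow : (π a) ^ p ^ k = 1 := by
      rw [← map_pow]
      exact (QuotientGroup.eq_one_iff _).mpr hk
    rintro ⟨_, n, rfl⟩
    refine ⟨k, Subtype.ext ?_⟩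
    show ((π a) ^ n) ^ p ^ k = 1
    rw [← zpow_natCast, ← zpow_mul, mul_comm, zpow_mul, zpow_natCast, hpow, one_zpow]
  by_cases hall : ∀ gb : G ⧸ C, IsPGroup p ↥(X ⊔ X.map (MulAut.conj gb).toMonoidHom)
  · exfalso
    obtain ⟨N, hNn, hNp, hXN⟩ := Cfsg.Agent.Lib.BaerSuzuki.baer_suzuki X hXp hall
    exact hM (Cfsg.Agent.Lib.PCore.le_pCore hNn hNp (hXN (Subgroup.mem_zpowers _)))
  · push Not at hall
    obtain ⟨gb, hgb⟩ := hall
    obtain ⟨g, rfl⟩ := hπ gb
    set Γ₀ := Subgroup.closure ({a, g * a * g⁻¹} : Set G) with hΓ₀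
    have hXle : X ⊔ X.map (MulAut.conj (π g)).toMonoidHom ≤ Γ₀.map π := by
      apply sup_le
      · rw [Subgroup.zpowers_le]
        exact ⟨a, Subgroup.subset_closure (by simp), rfl⟩
      · rw [Subgroup.map_le_iff_le_comap, Subgroup.zpowers_le]
        refine ⟨g * a * g⁻¹, Subgroup.subset_closure (by simp), ?_⟩
        simp [MulAut.conj_apply]
    have hnp : ∃ y ∈ X ⊔ X.map (MulAut.conj (π g)).toMonoidHom, ∀ m : ℕ, y ^ p ^ m ≠ 1 := by
      by_contra hcon
      push Not at hcon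
      apply hgb
      intro y
      obtain ⟨m, hm⟩ := hcon y y.2
      exact ⟨m, Subtype.ext hm⟩
    obtain ⟨y, hy, hym⟩ := hnp
    obtain ⟨h, hhΓ, rfl⟩ := hXle hy
    obtain ⟨n, -, hn2, hnC, -⟩ := exists_two_element hp2 V hVp hap (hN a) (hN _) ha (quad_conj (hN g) ha) h hhΓ (by
      intro m hm
      apply hym m
      rw [← map_pow]
      exact (QuotientGroup.eq_one_iff _).mpr hm)
    exact ⟨n, hn2, hnC⟩

end Main

end Cfsg.Agent.Lib.InvQuad
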