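import Mathlib
import Cfsg.Agent.Lib.InvQuad

/-!
# The chain argument: a `2`-element centralizing the subgroup generated by the quadratic elements.
-/

set_option autoImplicit false
set_option linter.style.haveILetI false
set_option linter.unusedSectionVars false

open Cfsg
open scoped commutatorElement

namespace Cfsg.Agent.Lib.InvChain

open Cfsg.Agent.Lib.QuadSection Cfsg.Agent.Lib.InvFreeP Cfsg.Agent.Lib.AlperinControl Cfsg.Agent.Lib.ControlSec
open Cfsg.Agent.Lib.InvQuad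

variable {p : ℕ} [hp : Fact p.Prime]

section Chain

variable {G : Type*} [Group G] [Finite G]

/-- Induction along a subnormal chain of subgroups generated by subsets of a conjugation-invariant generating set. -/
theorem chain_induction (D₀ : Set G) (Good : Subgroup G → Prop) (hbase : Good ⊤)
    (hstep : ∀ c ∈ D₀, ∀ C₁ : Subgroup G, c ∈ NN C₁ → Good C₁ → Good (C₁ ⊓ Subgroup.centralizer {c})) (n : ℕ) :
    ∀ D : Set G, Nat.card (Subgroup.closure D) = n → D ⊆ D₀ → IsPGroup p (Subgroup.closure D) →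
      (∀ x ∈ Subgroup.closure D, ∀ d ∈ D, x * d * x⁻¹ ∈ D) →
      Good (Subgroup.centralizer (Subgroup.closure D : Set G)) := by
  classical
  induction n using Nat.strong_induction_on with
  | _ n ih =>
  intro D hn hD hpg hinv
  set L := Subgroup.closure D with hLdef
  by_cases hL : L = ⊥
  · rw [hL]
    have : Subgroup.centralizer (((⊥ : Subgroup G) : Set G)) = ⊤ := by
      rw [eq_top_iff]
      intro x _
      rw [Subgroup.mem_centralizer_iff]
      intro h hh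
      have : h = 1 := hh
      rw [this, one_mul, mul_one]
    rw [this]
    exact hbase
  -- the family
  let F : Set (Subgroup G) := {Y | ∃ A : Set G, A ⊆ D ∧ Subgroup.closure A = Y ∧ Y ≠ L}
  have hFne : F.Nonempty := ⟨⊥, ∅, Set.empty_subset _, Subgroup.closure_empty, Ne.symm hL⟩
  obtain ⟨Y, ⟨A, hA, hAY, hYL⟩, hmax⟩ := Set.exists_max_image F (fun Y => Nat.card Y) (Set.toFinite _) hFne
  have hYleL : Y ≤ L := by
    rw [← hAY]
    exact Subgroup.closure_mono hA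
  -- a coatom of `L` above `Y`
  have hYtop : Y.subgroupOf L ≠ ⊤ := by
    intro h
    exact hYL (le_antisymm hYleL (Subgroup.subgroupOf_eq_top.mp h))
  obtain hcase | ⟨M₁, hM₁, hYM₁⟩ := IsCoatomic.eq_top_or_exists_le_coatom (Y.subgroupOf L)
  · exact absurd hcase hYtop
  have hnil : Group.IsNilpotent L := hpg.isNilpotent
  have hM₁n : M₁.Normal := Subgroup.NormalizerCondition.normal_of_coatom M₁
    (Group.normalizerCondition_of_isNilpotent) hM₁
  let M₂ : Subgroup G := M₁.map L.subtype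
  have hM₂L : M₂ ≤ L := Subgroup.map_subtype_le _
  have hM₂ne : M₂ ≠ L := by
    intro h
    apply hM₁.1
    rw [eq_top_iff]
    intro x _
    have hx : (x : G) ∈ M₂ := by rw [h]; exact x.2
    obtain ⟨y, hy, hyx⟩ := hx
    rw [← Subtype.ext hyx]
    exact hy
  have hM₂n : ∀ x ∈ L, ∀ m ∈ M₂, x * m * x⁻¹ ∈ M₂ := by
    rintro x hx _ ⟨m, hm, rfl⟩
    exact ⟨⟨x, hx⟩ * m * ⟨x, hx⟩⁻¹, hM₁n.conj_mem _ hm _, rfl⟩
  have hYM₂ : Y ≤ M₂ := by
    intro y hy
    exact ⟨⟨y, hYleL hy⟩, hYM₁ hy, rfl⟩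
  let D₁ : Set G := {d | d ∈ D ∧ d ∈ M₂}
  let Y₁ : Subgroup G := Subgroup.closure D₁
  have hAD₁ : A ⊆ D₁ := fun a ha => ⟨hA ha, hYM₂ (hAY ▸ Subgroup.subset_closure ha)⟩
  have hYY₁ : Y ≤ Y₁ := by
    rw [← hAY]
    exact Subgroup.closure_mono hAD₁
  have hY₁M₂ : Y₁ ≤ M₂ := (Subgroup.closure_le _).mpr fun d hd => hd.2
  have hY₁L : Y₁ ≤ L := hY₁M₂.trans hM₂L
  have hY₁ne : Y₁ ≠ L := fun h => hM₂ne (le_antisymm hM₂L (h ▸ hY₁M₂))
  have hY₁F : Y₁ ∈ F := ⟨D₁, fun d hd => hd.1, rfl, hY₁ne⟩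
  have hYeq : Y = Y₁ := Subgroup.eq_of_le_of_card_ge hYY₁ (hmax _ hY₁F)
  -- induction hypothesis
  have hcardlt : Nat.card Y₁ < n := by
    rw [← hn]
    by_contra hcon
    exact hY₁ne (Subgroup.eq_of_le_of_card_ge hY₁L (not_lt.mp hcon))
  have hIH := ih _ hcardlt D₁ rfl (fun d hd => hD hd.1) (hpg.to_le hY₁L) (by
    intro x hx d hd
    exact ⟨hinv x (hY₁L hx) d hd.1, hM₂n x (hY₁L hx) d hd.2⟩)
  -- the new generator
  obtain ⟨c, hcD, hcY⟩ : ∃ c ∈ D, c ∉ Y₁ := by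
    by_contra hcon
    push Not at hcon
    exact hY₁ne (le_antisymm hY₁L ((Subgroup.closure_le _).mpr hcon))
  have hcL : c ∈ L := Subgroup.subset_closure hcD
  have hcNY : c ∈ NN Y₁ := by
    apply mem_NN_of_forall
    intro x hx
    induction hx using Subgroup.closure_induction with
    | mem x hx => exact Subgroup.subset_closure ⟨hinv c hcL x hx.1, hM₂n c hcL x hx.2⟩
    | one => simp
    | mul x y _ _ hx hy =>
      have e : c * (x * y) * c⁻¹ = (c * x * c⁻¹) * (c * y * c⁻¹) := by group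
      rw [e]
      exact Y₁.mul_mem hx hy
    | inv x _ hx =>
      have e : c * x⁻¹ * c⁻¹ = (c * x * c⁻¹)⁻¹ := by group
      rw [e]
      exact Y₁.inv_mem hx
  -- `L` is generated by `Y₁` and `c`
  let A' : Set G := D₁ ∪ {c}
  have hA'D : A' ⊆ D := by
    rintro x (hx | hx)
    · exact hx.1
    · rw [Set.mem_singleton_iff.mp hx]; exact hcD
  have hA'eq : Subgroup.closure A' = L := by
    by_contra hne
    have hmem : Subgroup.closure A' ∈ F := ⟨A', hA'D, rfl, hne⟩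
    have h1 := hmax _ hmem
    have h2 : Y₁ ≤ Subgroup.closure A' := Subgroup.closure_mono Set.subset_union_left
    have h3 : Y₁ = Subgroup.closure A' := by
      rw [← hYeq] at h2 ⊢
      exact Subgroup.eq_of_le_of_card_ge h2 h1
    exact hcY (h3 ▸ Subgroup.subset_closure (Or.inr rfl))
  have hcent : Subgroup.centralizer (L : Set G) = Subgroup.centralizer (Y₁ : Set G) ⊓ Subgroup.centralizer {c} := by
    ext x
    simp only [Subgroup.mem_inf, Subgroup.mem_centralizer_iff]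
    constructor
    · intro h
      refine ⟨fun y hy => h y (hY₁L hy), fun y hy => ?_⟩
      rw [Set.mem_singleton_iff.mp hy]
      exact h c hcL
    · rintro ⟨h1, h2⟩ y hy
      have hle : L ≤ Subgroup.centralizer {x} := by
        rw [← hA'eq, Subgroup.closure_le]
        rintro d (hd | hd)
        · exact Subgroup.mem_centralizer_singleton_iff.mpr (h1 d (Subgroup.subset_closure hd))
        · rw [Set.mem_singleton_iff.mp hd]
          exact Subgroup.mem_centralizer_singleton_iff.mpr (h2 c rfl)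
      exact Subgroup.mem_centralizer_singleton_iff.mp (hle hy)
  have hcNC : c ∈ NN (Subgroup.centralizer (Y₁ : Set G)) := by
    apply mem_NN_of_forall
    intro x hx
    rw [Subgroup.mem_centralizer_iff] at hx ⊢
    intro y hy
    have hcinv : c⁻¹ * y * c ∈ Y₁ := by
      have := conj_mem_of_mem_NN (Subgroup.inv_mem _ hcNY) hy
      simpa using this
    have h1 := hx _ hcinv
    calc y * (c * x * c⁻¹) = c * ((c⁻¹ * y * c) * x) * c⁻¹ := by group
      _ = c * (x * (c⁻¹ * y * c)) * c⁻¹ := by rw [h1]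
      _ = c * x * c⁻¹ * y := by group
  rw [hcent]
  exact hstep c (hD hcD) _ hcNC hIH

end Chain

section Elements

variable {X : Type*} [Group X] [Finite X]

/-- A non-trivial `2`-element has an involution among its powers. -/
theorem exists_involution (k : ℕ) : ∀ s : X, s ^ 2 ^ k = 1 → s ≠ 1 → ∃ j : ℕ, s ^ j ≠ 1 ∧ s ^ j * s ^ j = 1 := by
  induction k with
  | zero =>
    intro s hs hs1
    rw [pow_zero, pow_one] at hs
    exact absurd hs hs1
  | succ k ih =>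
    intro s hs hs1
    by_cases h2 : s * s = 1
    · exact ⟨1, by simpa using hs1, by simpa using h2⟩
    · obtain ⟨j, hj1, hj2⟩ := ih (s * s) (by rw [← pow_two, ← pow_mul, ← pow_succ']; exact hs) h2
      refine ⟨2 * j, ?_, ?_⟩
      · rw [pow_mul, pow_two]; exact hj1
      · rw [pow_mul, pow_two]; exact hj2

/-- A `2`-element with a power `p ^ m` in a subgroup lies in the subgroup. -/
theorem mem_of_pow_mem (hp2 : p ≠ 2) {K : Subgroup X} {x : X} {k m : ℕ} (hx : x ^ 2 ^ k = 1) (hm : x ^ p ^ m ∈ K) :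
    x ∈ K := by
  have hpp : p.Prime := hp.out
  have hc : (p ^ m).Coprime (orderOf x) := by
    have h1 : orderOf x ∣ 2 ^ k := orderOf_dvd_of_pow_eq_one hx
    have h2 : Nat.Coprime (p ^ m) (2 ^ k) := Nat.Coprime.pow _ _ ((Nat.coprime_primes hpp Nat.prime_two).mpr hp2)
    exact Nat.Coprime.coprime_dvd_right h1 h2
  obtain ⟨r, hr⟩ := exists_pow_eq_self_of_coprime hc
  rw [← hr]
  exact K.pow_mem hm r

/-- A `2`-element of `C ⟨c⟩`, for a `p`-element `c` normalizing `C`, lies in `C`. -/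
theorem two_element_mem_of_sup (hp2 : p ≠ 2) {C : Subgroup X} {c : X} (hc : c ∈ NN C) {m : ℕ} (hcp : c ^ p ^ m = 1)
    {x : X} (hx : x ∈ C ⊔ Subgroup.zpowers c) {k : ℕ} (hx2 : x ^ 2 ^ k = 1) : x ∈ C := by
  have hzc : ∀ (i : ℤ) (y : X), y ∈ C → c ^ i * y * (c ^ i)⁻¹ ∈ C := fun i y hy =>
    conj_mem_of_mem_NN (Subgroup.zpow_mem _ hc i) hy
  let K : Subgroup X :=
    { carrier := {h | ∃ y ∈ C, ∃ i : ℤ, h = y * c ^ i}
      one_mem' := ⟨1, C.one_mem, 0, by simp⟩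
      mul_mem' := by
        rintro a b ⟨y, hy, i, rfl⟩ ⟨y', hy', j, rfl⟩
        refine ⟨y * (c ^ i * y' * (c ^ i)⁻¹), C.mul_mem hy (hzc i y' hy'), i + j, ?_⟩
        rw [zpow_add]; group
      inv_mem' := by
        rintro a ⟨y, hy, i, rfl⟩
        refine ⟨c ^ (-i) * y⁻¹ * (c ^ (-i))⁻¹, hzc (-i) _ (C.inv_mem hy), -i, ?_⟩
        group }
  have hle : C ⊔ Subgroup.zpowers c ≤ K := by
    apply sup_le
    · intro y hy
      exact ⟨y, hy, 0, by simp⟩
    · rw [Subgroup.zpowers_le]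
      exact ⟨1, C.one_mem, 1, by simp⟩
  obtain ⟨y, hy, i, rfl⟩ := hle hx
  have hpow : ∀ n : ℕ, ∃ y' ∈ C, (y * c ^ i) ^ n = y' * (c ^ i) ^ n := by
    intro n
    induction n with
    | zero => exact ⟨1, C.one_mem, by simp⟩
    | succ n ih =>
      obtain ⟨y', hy', h⟩ := ih
      refine ⟨y' * ((c ^ i) ^ n * y * ((c ^ i) ^ n)⁻¹), C.mul_mem hy' ?_, ?_⟩
      · have := hzc (i * n) y hy
        rwa [zpow_mul, zpow_natCast] at this
      · rw [pow_succ, h, pow_succ]; group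
  obtain ⟨y', hy', h⟩ := hpow (p ^ m)
  have h1 : (c ^ i) ^ p ^ m = 1 := by
    rw [← zpow_natCast, ← zpow_mul, mul_comm, zpow_mul, zpow_natCast, hcp, one_zpow]
  rw [h1, mul_one] at h
  exact mem_of_pow_mem hp2 hx2 (h ▸ hy')

end Elements

section M

variable {X X₁ : Type*} [Group X] [Finite X] [Group X₁]

/-- A subgroup containing a non-trivial `2`-element. -/
def Good (C : Subgroup X₁) : Prop := ∃ s ∈ C, s ≠ 1 ∧ ∃ k : ℕ, s ^ 2 ^ k = 1

/-- The step: a `p`-element acting quadratically on `V` and normalizing a subgroup with a nontrivial `2`-element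
centralizes such an element. -/
theorem step (hp2 : p ≠ 2) (V : Subgroup X) [hVn : V.Normal] (hVp : IsPGroup p V) (f : X →* X₁)
    (hf : Function.Surjective f) (hCf : ∀ x ∈ Subgroup.centralizer (V : Set X), f x = 1)
    (hfM : ∀ x, f x = 1 → ∃ m : ℕ, x ^ p ^ m ∈ Subgroup.centralizer (V : Set X)) (hinv : InvFree p X₁)
    {c : X} (hcp : ∃ k : ℕ, c ^ p ^ k = 1) (hcq : ∀ v ∈ V, ⁅⁅v, c⁆, c⁆ = 1) (C₁ : Subgroup X₁) (hcN : f c ∈ NN C₁)
    (hG : Good C₁) : Good (C₁ ⊓ Subgroup.centralizer {f c}) := by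
  classical
  haveI : Finite X₁ := Finite.of_surjective f hf
  obtain ⟨s, hsC, hs1, k, hk⟩ := hG
  obtain ⟨j, hj1, hj2⟩ := exists_involution k s hk hs1
  set τ := s ^ j with hτ
  have hτC : τ ∈ C₁ := C₁.pow_mem hsC j
  set c₁ := f c with hc₁
  by_cases hcomm : τ * c₁ = c₁ * τ
  · exact ⟨τ, ⟨hτC, Subgroup.mem_centralizer_singleton_iff.mpr hcomm⟩, hj1, 1, by rw [pow_one, pow_two]; exact hj2⟩
  -- lift the involution
  obtain ⟨t₀, ht₀⟩ := hf τ
  obtain ⟨e, he, ⟨k', hk'⟩, hte⟩ := exists_part_map Nat.prime_two f t₀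
  have hfτ : f (t₀ ^ e) = τ := (hte ⟨1, by rw [ht₀, pow_one, pow_two]; exact hj2⟩).trans ht₀
  set t := t₀ ^ e with ht
  set c' := t * c * t⁻¹ with hc'
  have htop : Subgroup.normalizer (V : Set X) = ⊤ := Subgroup.normalizer_eq_top_iff.mpr hVn
  have hN : ∀ g : X, g ∈ Subgroup.normalizer (V : Set X) := fun g => by rw [htop]; trivial
  have hτinv : τ⁻¹ = τ := inv_eq_of_mul_eq_one_left hj2
  have hfc' : f c' = τ * c₁ * τ⁻¹ := by
    rw [hc', map_mul, map_mul, map_inv, hfτ]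
  -- the commutator
  set w := c₁⁻¹ * (τ * c₁ * τ⁻¹) with hw
  have hw1 : w ≠ 1 := by
    intro h
    apply hcomm
    have h1 : τ * c₁ * τ⁻¹ = c₁ := by
      have h2 : τ * c₁ * τ⁻¹ = c₁ * w := by rw [hw]; group
      rw [h2, h, mul_one]
    calc τ * c₁ = (τ * c₁ * τ⁻¹) * τ := by group
      _ = c₁ * τ := by rw [h1]
  have hwinv : τ * w * τ⁻¹ = w⁻¹ := by
    have h1 : τ * τ = 1 := hj2
    have e1 : τ * w * τ⁻¹ = (τ * c₁⁻¹ * τ⁻¹) * ((τ * τ) * c₁ * (τ * τ)⁻¹) := by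
      rw [hw]; group
    rw [e1, h1, hw]
    group
  have hwp : ∀ m : ℕ, w ^ p ^ m ≠ 1 := fun m hm =>
    hw1 (hinv τ w ⟨1, by rw [pow_one, pow_two]; exact hj2⟩ ⟨m, hm⟩ hwinv)
  set h := c⁻¹ * c' with hh
  have hmemc : c ∈ Subgroup.closure ({c, c'} : Set X) := Subgroup.subset_closure (by simp)
  have hmemc' : c' ∈ Subgroup.closure ({c, c'} : Set X) := Subgroup.subset_closure (by simp)
  have hhm : h ∈ Subgroup.closure ({c, c'} : Set X) := Subgroup.mul_mem _ (Subgroup.inv_mem _ hmemc) hmemc'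
  have hfh : f h = w := by
    rw [hh, map_mul, map_inv, hfc']
  have hnp : ∀ m : ℕ, h ^ p ^ m ∉ Subgroup.centralizer (V : Set X) := fun m hm => hwp m (by
    rw [← hfh, ← map_pow]
    exact hCf _ hm)
  obtain ⟨n, hnc, ⟨k₂, hk₂⟩, hnC, S, hSp, hcS, hnS⟩ := exists_two_element hp2 V hVp hcp (hN c) (hN c') hcq
    (quad_conj (hN t) hcq) h hhm hnp
  have hfn2 : f n ^ 2 ^ k₂ = 1 := by rw [← map_pow, hk₂, map_one]
  refine ⟨f n, ⟨?_, ?_⟩, ?_, k₂, hfn2⟩
  · -- `f n` lies in `C₁`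
    have hle : (Subgroup.closure ({c, c'} : Set X)).map f ≤ C₁ ⊔ Subgroup.zpowers c₁ := by
      rw [MonoidHom.map_closure, Subgroup.closure_le]
      rintro _ ⟨x, hx, rfl⟩
      rcases hx with rfl | hx
      · exact Subgroup.mem_sup_right (Subgroup.mem_zpowers _)
      · rw [Set.mem_singleton_iff.mp hx, hfc']
        have e1 : τ * c₁ * τ⁻¹ = (τ * (c₁ * τ⁻¹ * c₁⁻¹)) * c₁ := by group
        rw [e1]
        exact Subgroup.mul_mem_sup (C₁.mul_mem hτC (conj_mem_of_mem_NN hcN (C₁.inv_mem hτC)))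
          (Subgroup.mem_zpowers _)
    obtain ⟨k₀, hk₀⟩ := hcp
    exact two_element_mem_of_sup hp2 hcN (m := k₀) (by rw [hc₁, ← map_pow, hk₀, map_one]) (hle ⟨n, hnc, rfl⟩) hfn2
  · -- `f n` commutes with `c₁`
    apply Subgroup.mem_centralizer_singleton_iff.mpr
    have hSN : f n ∈ NN (S.map f) := by
      apply mem_NN_of_forall
      rintro _ ⟨x, hx, rfl⟩
      refine ⟨n * x * n⁻¹, conj_mem_of_mem_NN hnS hx, ?_⟩
      rw [map_mul, map_mul, map_inv]
    have h1 := hinv.centralizes (S.map f) (hSp.map f) k₂ (f n) hfn2 hSN c₁ ⟨c, hcS, rfl⟩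
    calc f n * c₁ = (f n * c₁ * (f n)⁻¹) * f n := by group
      _ = c₁ * f n := by rw [h1]
  · intro h1
    obtain ⟨m, hm⟩ := hfM n h1
    exact hnC (mem_of_pow_mem hp2 hk₂ hm)

/-- **The module part.** -/
theorem thmM (hp2 : p ≠ 2) (V : Subgroup X) [hVn : V.Normal] (hVp : IsPGroup p V) (f : X →* X₁)
    (hf : Function.Surjective f) (hCf : ∀ x ∈ Subgroup.centralizer (V : Set X), f x = 1)
    (hfM : ∀ x, f x = 1 → ∃ m : ℕ, x ^ p ^ m ∈ Subgroup.centralizer (V : Set X)) (hinv : InvFree p X₁)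
    (T : Subgroup X) (hT : IsPGroup p T) {a : X} (haT : a ∈ T) (ha : ∀ v ∈ V, ⁅⁅v, a⁆, a⁆ = 1) (hfa : f a ≠ 1)
    (hbase : ∃ n : X, (∃ k : ℕ, n ^ 2 ^ k = 1) ∧ n ∉ Subgroup.centralizer (V : Set X)) :
    ∃ s z : X₁, s ≠ 1 ∧ (∃ k : ℕ, s ^ 2 ^ k = 1) ∧ z ≠ 1 ∧ z ∈ T.map f ∧ (∀ y ∈ T.map f, y * z = z * y) ∧
      s * z = z * s := by
  classical
  haveI : Finite X₁ := Finite.of_surjective f hf
  let Q₀ : Set X := {c | c ∈ T ∧ ∀ v ∈ V, ⁅⁅v, c⁆, c⁆ = 1}
  let D : Set X₁ := f '' Q₀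
  have hDT : Subgroup.closure D ≤ T.map f := by
    rw [Subgroup.closure_le]
    rintro _ ⟨c, hc, rfl⟩
    exact ⟨c, hc.1, rfl⟩
  have hLp : IsPGroup p (Subgroup.closure D) := (hT.map f).to_le hDT
  have hTp : ∀ c ∈ T, ∃ k : ℕ, c ^ p ^ k = 1 := by
    intro c hc
    obtain ⟨k, hk⟩ := hT ⟨c, hc⟩
    exact ⟨k, by simpa using congrArg Subtype.val hk⟩
  have htop : Subgroup.normalizer (V : Set X) = ⊤ := Subgroup.normalizer_eq_top_iff.mpr hVn
  have hN : ∀ g : X, g ∈ Subgroup.normalizer (V : Set X) := fun g => by rw [htop]; trivial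
  have hinvD : ∀ y ∈ T.map f, ∀ d ∈ D, y * d * y⁻¹ ∈ D := by
    rintro _ ⟨t, ht, rfl⟩ _ ⟨c, hc, rfl⟩
    refine ⟨t * c * t⁻¹, ⟨T.mul_mem (T.mul_mem ht hc.1) (T.inv_mem ht), quad_conj (hN t) hc.2⟩, ?_⟩
    rw [map_mul, map_mul, map_inv]
  have hGood : Good (Subgroup.centralizer (Subgroup.closure D : Set X₁)) := by
    refine chain_induction (p := p) D Good ?_ ?_ _ D rfl subset_rfl hLp (fun x hx d hd => hinvD x (hDT hx) d hd)
    · obtain ⟨n, ⟨k, hk⟩, hn⟩ := hbase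
      refine ⟨f n, trivial, ?_, k, by rw [← map_pow, hk, map_one]⟩
      intro h1
      obtain ⟨m, hm⟩ := hfM n h1
      exact hn (mem_of_pow_mem hp2 hk hm)
    · rintro _ ⟨c, hc, rfl⟩ C₁ hcN hG
      exact step hp2 V hVp f hf hCf hfM hinv (hTp c hc.1) hc.2 C₁ hcN hG
  obtain ⟨s, hsC, hs1, hs2⟩ := hGood
  -- the central element
  have hnil : Group.IsNilpotent ↥(T.map f) := (hT.map f).isNilpotent
  let N : Subgroup ↥(T.map f) := (Subgroup.closure D).subgroupOf (T.map f)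
  have hNn : N.Normal := by
    constructor
    intro x hx g
    show (g : X₁) * x * (g : X₁)⁻¹ ∈ Subgroup.closure D
    have hmemNN : (g : X₁) ∈ NN (Subgroup.closure D) := by
      apply mem_NN_of_forall
      intro y hy
      induction hy using Subgroup.closure_induction with
      | mem y hy => exact Subgroup.subset_closure (hinvD _ g.2 y hy)
      | one => simp
      | mul x y _ _ hx hy =>
        have e : (g : X₁) * (x * y) * (g : X₁)⁻¹ = ((g : X₁) * x * (g : X₁)⁻¹) * ((g : X₁) * y * (g : X₁)⁻¹) := by group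
        rw [e]
        exact Subgroup.mul_mem _ hx hy
      | inv x _ hx =>
        have e : (g : X₁) * x⁻¹ * (g : X₁)⁻¹ = ((g : X₁) * x * (g : X₁)⁻¹)⁻¹ := by group
        rw [e]
        exact Subgroup.inv_mem _ hx
    exact conj_mem_of_mem_NN hmemNN hx
  have hfaD : f a ∈ Subgroup.closure D := Subgroup.subset_closure ⟨a, ⟨haT, ha⟩, rfl⟩
  have hNbot : N ≠ ⊥ := by
    intro h
    have h1 : (⟨f a, ⟨a, haT, rfl⟩⟩ : ↥(T.map f)) ∈ N := hfaD
    rw [h] at h1
    exact hfa (congrArg Subtype.val (Subgroup.mem_bot.mp h1))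
  obtain ⟨z, hzN, hz1, hzc⟩ := Cfsg.Agent.Lib.ZJCore2.exists_center_of_normal N hNbot
  refine ⟨s, z, hs1, hs2, fun h => hz1 (Subtype.ext h), z.2, ?_, ?_⟩
  · intro y hy
    have h1 := Subgroup.mem_center_iff.mp hzc ⟨y, hy⟩
    exact congrArg Subtype.val h1
  · exact ((Subgroup.mem_centralizer_iff.mp hsC) _ hzN).symm

end M

end Cfsg.Agent.Lib.InvChain
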