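import Mathlib
import Cfsg.Agent.Lib.InvChain
import Cfsg.Agent.Lib.PStab
import Cfsg.Agent.Lib.CentralSylow

/-!
# The local theorem: inverted `p`-elements in the normalizer of a non-trivial normal `p`-subgroup.
-/

set_option autoImplicit false
set_option linter.style.haveILetI false
set_option linter.unusedSectionVars false

open Cfsg
open scoped commutatorElement

namespace Cfsg.Agent.Lib.InvLocal

open Cfsg.Agent.Lib.PCore Cfsg.Agent.Lib.PPrimeP Cfsg.Agent.Lib.PConstr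
open Cfsg.Agent.Lib.QuadSection Cfsg.Agent.Lib.InvFreeP Cfsg.Agent.Lib.AlperinControl Cfsg.Agent.Lib.ControlSec
open Cfsg.Agent.Lib.InvQuad Cfsg.Agent.Lib.InvChain Cfsg.Agent.Lib.PStab

variable {p : ℕ} [hp : Fact p.Prime]

section Aux

variable {G : Type*} [Group G] [Finite G] {K : Type*} [Group K]

theorem mem_NN_centerThompson {P : Subgroup G} {g : G} (hg : g ∈ NN P) : g ∈ NN (centerThompsonAOf P) := by
  have h1 := map_centerThompsonAOf (MulAut.conj g).toMonoidHom (P := P) (by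
    intro x _ hx
    have : g * x * g⁻¹ = 1 := hx
    have h2 : x = g⁻¹ * (g * x * g⁻¹) * g := by group
    rw [h2, this]; group)
  have h2 : P.map (MulAut.conj g).toMonoidHom = P := cj_eq_of_mem_NN hg
  rw [h2] at h1
  apply mem_NN_of_forall
  intro x hx
  rw [← h1]
  exact ⟨x, hx, rfl⟩

theorem centerThompson_ne_bot {D : Subgroup G} (hD : IsPGroup p D) (hne : D ≠ ⊥) : centerThompsonAOf D ≠ ⊥ := by
  rw [← Cfsg.Agent.Lib.ZJControl.WW_zero_eq]
  exact Cfsg.Agent.Lib.ZJControl.WW_ne_bot (dvd_zero p) hD hne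

/-- The property descends from the normalizer of a preimage. -/
theorem invFree_normalizer_of_comap (hp2 : p ≠ 2) (f : G →* K) (hf : Function.Surjective f) (W : Subgroup K)
    (h : InvFree p (NN (W.comap f))) : InvFree p (NN W) := by
  classical
  haveI : Finite K := Finite.of_surjective f hf
  have hmem : ∀ g : NN (W.comap f), f g ∈ NN W := by
    intro g
    apply mem_NN_of_forall
    intro w hw
    obtain ⟨x, rfl⟩ := hf w
    have h1 : (g : G) * x * (g : G)⁻¹ ∈ W.comap f := conj_mem_of_mem_NN g.2 hw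
    have h2 : f ((g : G) * x * (g : G)⁻¹) ∈ W := h1
    rwa [map_mul, map_mul, map_inv] at h2
  let φ : NN (W.comap f) →* NN W := (f.comp (NN (W.comap f)).subtype).codRestrict _ hmem
  refine h.of_surjective hp2 φ ?_
  rintro ⟨y, hy⟩
  obtain ⟨g, rfl⟩ := hf y
  have hg : g ∈ NN (W.comap f) := by
    apply mem_NN_of_forall
    intro x hx
    show f (g * x * g⁻¹) ∈ W
    rw [map_mul, map_mul, map_inv]
    exact conj_mem_of_mem_NN hy hx
  exact ⟨⟨g, hg⟩, Subtype.ext rfl⟩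

theorem invFree_of_forall_mem {L : Subgroup G} (h : InvFree p L) (hL : ∀ x : G, x ∈ L) : InvFree p G :=
  h.of_injective ((MonoidHom.id G).codRestrict L hL) (fun x y hxy => congrArg Subtype.val hxy)

theorem mem_NN_sup {A B : Subgroup G} {n : G} (hA : n ∈ NN A) (hB : n ∈ NN B) : n ∈ NN (A ⊔ B) := by
  apply mem_NN_of_forall
  intro x hx
  have h1 : n * x * n⁻¹ ∈ cj n (A ⊔ B) := conj_mem_cj hx
  rw [cj, Subgroup.map_sup] at h1
  have h2 : A.map (MulAut.conj n).toMonoidHom = A := cj_eq_of_mem_NN hA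
  have h3 : B.map (MulAut.conj n).toMonoidHom = B := cj_eq_of_mem_NN hB
  rwa [h2, h3] at h1

end Aux

section Local

variable {H : Type*} [Group H] [Finite H]

/-- Step 0: the property holds in `H / Q`. -/
theorem quot_invFree (hp2 : p ≠ 2) (Q : Subgroup H) [hQn : Q.Normal] (hQ : IsPGroup p Q) (T : Sylow p H)
    (hQT : Q ≤ T) (hne : (T : Subgroup H) ≠ Q)
    (hA : ∀ R : Subgroup H, R ≤ T → (T : Subgroup H) ≤ NN R → Q < R → InvFree p (NN R))
    (hC : ∀ S : Sylow p (H ⧸ Q), InvFree p (NN (centerThompsonAOf (S : Subgroup (H ⧸ Q)))) → InvFree p (H ⧸ Q)) :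
    InvFree p (H ⧸ Q) := by
  classical
  let π := QuotientGroup.mk' Q
  have hπ : Function.Surjective π := QuotientGroup.mk'_surjective Q
  let S : Sylow p (H ⧸ Q) := T.mapSurjective hπ
  have hS : (S : Subgroup (H ⧸ Q)) = (T : Subgroup H).map π := rfl
  have hker : ∀ x, π x = 1 ↔ x ∈ Q := fun x => QuotientGroup.eq_one_iff x
  have hSne : (S : Subgroup (H ⧸ Q)) ≠ ⊥ := by
    intro h
    apply hne
    apply le_antisymm _ hQT
    intro t ht
    have h1 : π t ∈ (S : Subgroup (H ⧸ Q)) := ⟨t, ht, rfl⟩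
    rw [h] at h1
    exact (hker t).mp (Subgroup.mem_bot.mp h1)
  have hZne := centerThompson_ne_bot (p := p) S.isPGroup' hSne
  set Z := centerThompsonAOf (S : Subgroup (H ⧸ Q)) with hZ
  refine hC S (invFree_normalizer_of_comap hp2 π hπ Z (hA (Z.comap π) ?_ ?_ ?_))
  · intro x hx
    have h1 : π x ∈ (S : Subgroup (H ⧸ Q)) := centerThompsonAOf_le _ hx
    obtain ⟨t, ht, hte⟩ := h1
    have h2 : t⁻¹ * x ∈ Q := QuotientGroup.eq.mp hte
    have e : x = t * (t⁻¹ * x) := by group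
    rw [e]
    exact Subgroup.mul_mem _ ht (hQT h2)
  · intro t ht
    have h1 : π t ∈ NN Z := by
      apply mem_NN_centerThompson
      apply mem_NN_of_forall
      intro y hy
      exact (S : Subgroup (H ⧸ Q)).mul_mem ((S : Subgroup (H ⧸ Q)).mul_mem ⟨t, ht, rfl⟩ hy)
        ((S : Subgroup (H ⧸ Q)).inv_mem ⟨t, ht, rfl⟩)
    apply mem_NN_of_forall
    intro x hx
    show π (t * x * t⁻¹) ∈ Z
    rw [map_mul, map_mul, map_inv]
    exact conj_mem_of_mem_NN h1 hx
  · refine lt_of_le_of_ne ?_ ?_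
    · intro x hx
      show π x ∈ Z
      rw [(hker x).mpr hx]
      exact Z.one_mem
    · intro h
      apply hZne
      rw [eq_bot_iff]
      intro z hz
      obtain ⟨x, rfl⟩ := hπ z
      have h1 : x ∈ Z.comap π := hz
      rw [← h] at h1
      exact (hker x).mpr h1

/-- Step 1: the Sylow subgroup of `C(Q)` lies in `Q`. -/
theorem step_one (Q : Subgroup H) [hQn : Q.Normal] (T : Sylow p H) (hQT : Q ≤ T)
    (hA : ∀ R : Subgroup H, R ≤ T → (T : Subgroup H) ≤ NN R → Q < R → InvFree p (NN R))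
    {t₀ w : H} (ht₀ : ∃ k : ℕ, t₀ ^ 2 ^ k = 1) (hwp : ∃ m : ℕ, w ^ p ^ m = 1) (hinv : t₀ * w * t₀⁻¹ = w⁻¹) (hw1 : w ≠ 1)
    (hwQ : w ∈ Q) : (T : Subgroup H) ⊓ Subgroup.centralizer (Q : Set H) ≤ Q := by
  classical
  by_contra hne
  set C := Subgroup.centralizer (Q : Set H) with hC
  have htop : NN Q = ⊤ := Subgroup.normalizer_eq_top_iff.mpr hQn
  have hNQ : ∀ g : H, g ∈ NN Q := fun g => by rw [htop]; trivial
  have hTC : (T : Subgroup H) ⊓ C ≤ T := inf_le_left
  set Q₂ := Q ⊔ ((T : Subgroup H) ⊓ C) with hQ₂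
  have hT₂ : Q₂ ≤ T := sup_le hQT hTC
  have hTN : (T : Subgroup H) ≤ NN Q₂ := by
    intro t ht
    apply mem_NN_sup (hNQ t)
    apply mem_NN_of_forall
    intro x hx
    exact ⟨(T : Subgroup H).mul_mem ((T : Subgroup H).mul_mem ht hx.1) ((T : Subgroup H).inv_mem ht),
      (inferInstance : C.Normal).conj_mem x hx.2 t⟩
  have hlt : Q < Q₂ := by
    refine lt_of_le_of_ne le_sup_left ?_
    intro h
    exact hne (le_sup_right.trans h.symm.le)
  have hI := hA Q₂ hT₂ hTN hlt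
  obtain ⟨m, hm, n, hn, e⟩ := Cfsg.Agent.Lib.ZJCore2.exists_frattini T C t₀
  have hnN : n ∈ NN Q₂ := mem_NN_sup (hNQ n) hn
  have hmw : m * w = w * m := (Subgroup.mem_centralizer_iff.mp hm w hwQ).symm
  have hninv : n * w * n⁻¹ = w⁻¹ := by
    have h1 : m⁻¹ * t₀ = n := by rw [e]; group
    have h2 : m⁻¹ * w⁻¹ * m = w⁻¹ := by
      have h3 : Commute m w := hmw
      rw [(h3.inv_right.inv_left).eq]; group
    calc n * w * n⁻¹ = m⁻¹ * (t₀ * w * t₀⁻¹) * m := by rw [← h1]; group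
      _ = w⁻¹ := by rw [hinv, h2]
  obtain ⟨e', he', ⟨k, hk⟩, -⟩ := exists_part Nat.prime_two n
  have h3 := inverts_pow hninv he'
  have hwN : w ∈ NN Q₂ := Subgroup.le_normalizer (Subgroup.mem_sup_left hwQ)
  have hn2 : n ^ e' ∈ NN Q₂ := Subgroup.pow_mem _ hnN e'
  obtain ⟨m₁, hm₁⟩ := hwp
  have h4 := hI ⟨n ^ e', hn2⟩ ⟨w, hwN⟩ ⟨k, Subtype.ext hk⟩ ⟨m₁, Subtype.ext hm₁⟩ (Subtype.ext h3)
  exact hw1 (congrArg Subtype.val h4)

/-- Step 5: the final contradiction. -/
theorem step_five {X₁ : Type*} [Group X₁] (Q : Subgroup H) [hQn : Q.Normal] (hQ : IsPGroup p Q) (T : Sylow p H)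
    (hQT : Q ≤ T) (hA : ∀ R : Subgroup H, R ≤ T → (T : Subgroup H) ≤ NN R → Q < R → InvFree p (NN R))
    (P : H →* X₁) (hP : Function.Surjective P) (hCP : ∀ x ∈ Subgroup.centralizer (Q : Set H), P x = 1)
    (hQP : ∀ x ∈ Q, P x = 1) {s z : X₁} (hs1 : s ≠ 1) (hs2 : ∃ k : ℕ, s ^ 2 ^ k = 1) (hz1 : z ≠ 1)
    (hzT : z ∈ (T : Subgroup H).map P) (hzc : ∀ y ∈ (T : Subgroup H).map P, y * z = z * y) (hsz : s * z = z * s) :
    False := by
  classical
  haveI : Finite X₁ := Finite.of_surjective P hP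
  let Z : Subgroup X₁ := Subgroup.zpowers z
  let E : Subgroup H := Z.comap P
  let B : Subgroup H := (NN Z).comap P
  obtain ⟨r, hrT, hrz⟩ := hzT
  have hcz : ∀ y : X₁, y * z = z * y → ∀ x ∈ Z, y * x * y⁻¹ = x := by
    intro y hy x hx
    obtain ⟨i, rfl⟩ := hx
    have h1 : Commute y z := hy
    have h2 : Commute y (z ^ i) := h1.zpow_right i
    show y * z ^ i * y⁻¹ = z ^ i
    rw [h2.eq]; group
  have hTB : (T : Subgroup H) ≤ B := by
    intro t ht
    show P t ∈ NN Z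
    apply mem_NN_of_forall
    intro x hx
    rw [hcz (P t) (hzc _ ⟨t, ht, rfl⟩) x hx]
    exact hx
  have hEB : E ≤ B := by
    intro x hx
    exact Subgroup.le_normalizer hx
  have hBE : B ≤ NN E := by
    intro b hb
    apply mem_NN_of_forall
    intro x hx
    show P (b * x * b⁻¹) ∈ Z
    rw [map_mul, map_mul, map_inv]
    exact conj_mem_of_mem_NN hb hx
  have hSylB : IsSyl p T B := isSyl_of_le (isSyl_of_sylow T) hTB le_top
  have hSyl : IsSyl p ((T : Subgroup H) ⊓ E) E := isSyl_inf hSylB hEB hBE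
  set R := (T : Subgroup H) ⊓ E with hR
  have hRT : R ≤ T := inf_le_left
  have hTR : (T : Subgroup H) ≤ NN R := by
    intro t ht
    apply mem_NN_of_forall
    intro x hx
    exact ⟨(T : Subgroup H).mul_mem ((T : Subgroup H).mul_mem ht hx.1) ((T : Subgroup H).inv_mem ht),
      conj_mem_of_mem_NN (hBE (hTB ht)) hx.2⟩
  have hrR : r ∈ R := by
    refine ⟨hrT, ?_⟩
    show P r ∈ Z
    rw [hrz]
    exact Subgroup.mem_zpowers z
  have hQR : Q < R := by
    refine lt_of_le_of_ne ?_ ?_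
    · intro x hx
      refine ⟨hQT hx, ?_⟩
      show P x ∈ Z
      rw [hQP x hx]
      exact Z.one_mem
    · intro h
      apply hz1
      rw [← hrz]
      exact hQP r (h ▸ hrR)
  have hI := hA R hRT hTR hQR
  obtain ⟨y, hy⟩ := hP s
  have hyE : y ∈ NN E := by
    apply mem_NN_of_forall
    intro x hx
    show P (y * x * y⁻¹) ∈ Z
    rw [map_mul, map_mul, map_inv, hy, hcz s hsz _ hx]
    exact hx
  obtain ⟨d, hd, hdn⟩ := frattini hSyl hyE
  obtain ⟨i, hi⟩ : P d ∈ Z := hd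
  have hrN : r ^ i ∈ NN R := Subgroup.zpow_mem _ (Subgroup.le_normalizer hrR) i
  set n' := r ^ i * (d⁻¹ * y) with hn'
  have hn'N : n' ∈ NN R := Subgroup.mul_mem _ hrN hdn
  have hPn' : P n' = s := by
    rw [hn', map_mul, map_zpow, map_mul, map_inv, hy, hrz, ← hi]
    group
  obtain ⟨e, he, ⟨k, hk⟩, hte⟩ := exists_part_map Nat.prime_two P n'
  have hPe : P (n' ^ e) = s := (hte (by rw [hPn']; exact hs2)).trans hPn'
  have hn2N : n' ^ e ∈ NN R := Subgroup.pow_mem _ hn'N e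
  have hQNR : Q ≤ NN R := hQR.le.trans Subgroup.le_normalizer
  have hQp : IsPGroup p (Q.subgroupOf (NN R)) := hQ.comap_of_injective _ (Subgroup.subtype_injective _)
  have hcent := hI.centralizes (Q.subgroupOf (NN R)) hQp k ⟨n' ^ e, hn2N⟩ (Subtype.ext hk) (by
    have : Subgroup.normalizer ((Q.subgroupOf (NN R) : Subgroup (NN R)) : Set (NN R)) = ⊤ :=
      Subgroup.normalizer_eq_top_iff.mpr inferInstance
    rw [this]; trivial)
  have hmem : n' ^ e ∈ Subgroup.centralizer (Q : Set H) := by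
    rw [Subgroup.mem_centralizer_iff]
    intro x hx
    have h1 := hcent ⟨x, hQNR hx⟩ (Subgroup.mem_subgroupOf.mpr hx)
    have h2 : n' ^ e * x * (n' ^ e)⁻¹ = x := congrArg Subtype.val h1
    calc x * n' ^ e = (n' ^ e * x * (n' ^ e)⁻¹) * n' ^ e := by rw [h2]
      _ = n' ^ e * x := by group
  exact hs1 (hPe ▸ hCP _ hmem)

/-- The failure of stability in the `p`-constrained situation. -/
theorem exists_bad {X : Type*} [Group X] [Finite X] (hp2 : p ≠ 2)
    (hc : Subgroup.centralizer (pCore p X : Set X) ≤ pCore p X) (S : Sylow p X)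
    (hn : ¬ (centerThompsonAOf (S : Subgroup X)).Normal) :
    ∃ (V : Subgroup X) (_ : V.Normal), IsPGroup p V ∧ ∃ a ∈ (S : Subgroup X), (∀ v ∈ V, ⁅⁅v, a⁆, a⁆ = 1) ∧
      (QuotientGroup.mk a : X ⧸ Subgroup.centralizer (V : Set X)) ∉ pCore p (X ⧸ Subgroup.centralizer (V : Set X)) := by
  classical
  by_contra h
  push Not at h
  apply hn
  have hst : ∀ (P : Subgroup X) [P.Normal], IsPGroup p P → IsPStableOn p P := by
    intro P hPn hP a ha
    have htop : Subgroup.normalizer (P : Set X) = ⊤ := Subgroup.normalizer_eq_top_iff.mpr hPn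
    have hN : ∀ g : X, g ∈ Subgroup.normalizer (P : Set X) := fun g => by rw [htop]; trivial
    have hq : ∀ v ∈ P, ⁅⁅v, a⁆, a⁆ = 1 := quad_of_comm ha
    set C := Subgroup.centralizer (P : Set X) with hC
    obtain ⟨k₀, hk₀⟩ := exists_pow_mem_centralizer P hP (hN a) hq
    obtain ⟨e, he, ⟨k, hk⟩, hte⟩ := exists_part_map hp.out (QuotientGroup.mk' C) a
    have hmk : QuotientGroup.mk' C (a ^ e) = QuotientGroup.mk' C a :=
      hte ⟨k₀, by rw [← map_pow]; exact (QuotientGroup.eq_one_iff _).mpr hk₀⟩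
    set u := a ^ e with hu
    have huq : ∀ v ∈ P, ⁅⁅v, u⁆, u⁆ = 1 := by
      intro v hv
      have huz : u ∈ Subgroup.zpowers a := ⟨e, by simp [hu]⟩
      have h1 : ⁅v, u⁆ ∈ ⁅P, Subgroup.zpowers a⁆ := Subgroup.commutator_mem_commutator hv huz
      have h2 := Subgroup.commutator_mem_commutator h1 huz
      rw [ha] at h2
      exact Subgroup.mem_bot.mp h2
    have hup : IsPGroup p (Subgroup.zpowers u) := by
      rintro ⟨_, i, rfl⟩
      refine ⟨k, Subtype.ext ?_⟩
      show (u ^ i) ^ p ^ k = 1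
      rw [← zpow_natCast, ← zpow_mul, mul_comm, zpow_mul, zpow_natCast, hk, one_zpow]
    obtain ⟨g, hg⟩ := Cfsg.Agent.Lib.SylowConjLemmas.exists_conj_mem S (Subgroup.zpowers u) hup
    have hguS : g * u * g⁻¹ ∈ (S : Subgroup X) := hg u (Subgroup.mem_zpowers u)
    have h1 := h P hPn hP (g * u * g⁻¹) hguS (quad_conj (hN g) huq)
    have hnorm : (pCore p (X ⧸ C)).Normal := by
      have := pCore_characteristic (G := X ⧸ C) p
      infer_instance
    have h2 := hnorm.conj_mem _ h1 ((QuotientGroup.mk g⁻¹ : X ⧸ C))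
    have e1 : (QuotientGroup.mk g⁻¹ : X ⧸ C) * QuotientGroup.mk (g * u * g⁻¹) * (QuotientGroup.mk g⁻¹ : X ⧸ C)⁻¹ =
        QuotientGroup.mk u := by
      rw [← QuotientGroup.mk_inv, ← QuotientGroup.mk_mul, ← QuotientGroup.mk_mul]
      congr 1
      group
    rw [e1] at h2
    have e2 : (QuotientGroup.mk a : X ⧸ C) = QuotientGroup.mk u := hmk.symm
    rw [e2]
    exact h2
  have := Cfsg.Agent.S0653.result hp2 hc hst S
  infer_instance

/-- If the `ZJ` of the image of the Sylow subgroup is normal in `H / O_{p'}(H)`, the property holds there. -/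
theorem invFree_of_normal_image (hp2 : p ≠ 2) (T : Sylow p H) (hB : InvFree p (NN (centerThompsonAOf (T : Subgroup H))))
    (h : (centerThompsonAOf ((T : Subgroup H).map (QuotientGroup.mk' (pPrimeCore p H)))).Normal) :
    InvFree p (H ⧸ pPrimeCore p H) := by
  classical
  set π := QuotientGroup.mk' (pPrimeCore p H) with hπdef
  have hπ : Function.Surjective π := QuotientGroup.mk'_surjective _
  have h2 : (centerThompsonAOf (T : Subgroup H)).map π = centerThompsonAOf ((T : Subgroup H).map π) := by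
    apply map_centerThompsonAOf π
    intro x hx hx1
    have h3 : x ∈ (T : Subgroup H) ⊓ pPrimeCore p H := ⟨hx, (QuotientGroup.eq_one_iff x).mp hx1⟩
    rwa [inf_pPrimeCore_eq_bot T.isPGroup'] at h3
  set Z := centerThompsonAOf (T : Subgroup H) with hZ
  have hZp : IsPGroup p Z := T.isPGroup'.to_le (centerThompsonAOf_le _)
  refine hB.of_surjective hp2 (π.comp (NN Z).subtype) ?_
  intro y
  obtain ⟨g, rfl⟩ := hπ y
  obtain ⟨n, hn, hng⟩ := exists_mul_mem_normalizer' hZp g (by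
    intro t ht
    have h4 : π (g * t * g⁻¹) ∈ Z.map π := by
      rw [h2]
      have := h.conj_mem (π t) (by rw [← h2]; exact ⟨t, ht, rfl⟩) (π g)
      rwa [map_mul, map_mul, map_inv]
    obtain ⟨z, hz, hzπ⟩ := h4
    have h5 : z⁻¹ * (g * t * g⁻¹) ∈ pPrimeCore p H := QuotientGroup.eq.mp hzπ
    have e : g * t * g⁻¹ = z * (z⁻¹ * (g * t * g⁻¹)) := by group
    rw [e]
    exact Subgroup.mul_mem_sup hz h5)
  refine ⟨⟨n * g, hng⟩, ?_⟩
  show π (n * g) = π g
  rw [map_mul, show π n = 1 from (QuotientGroup.eq_one_iff n).mpr hn, one_mul]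

/-- The centralizer in the quotient. -/
theorem cent_pCore_le (Q : Subgroup H) [hQn : Q.Normal] (hQ : IsPGroup p Q) (T : Sylow p H)
    (hT₁ : (T : Subgroup H) ⊓ Subgroup.centralizer (Q : Set H) ≤ Q) :
    (∀ x ∈ Subgroup.centralizer (Q : Set H),
      QuotientGroup.mk' (pPrimeCore p H) x ∈ Q.map (QuotientGroup.mk' (pPrimeCore p H))) ∧
    Subgroup.centralizer (pCore p (H ⧸ pPrimeCore p H) : Set (H ⧸ pPrimeCore p H)) ≤ pCore p (H ⧸ pPrimeCore p H) := by
  classical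
  set K := pPrimeCore p H with hK
  set C := Subgroup.centralizer (Q : Set H) with hC
  let π := QuotientGroup.mk' K
  have hπ : Function.Surjective π := QuotientGroup.mk'_surjective _
  have hQK : Q ⊓ K = ⊥ := inf_pPrimeCore_eq_bot hQ
  have hZ : ∀ z ∈ (T : Subgroup H) ⊓ C, ∀ c ∈ C, z * c = c * z := by
    intro z hz c hc
    exact (Subgroup.mem_centralizer_iff.mp hc z (hT₁ hz))
  have hle := Cfsg.Agent.Lib.CentralSylow.central_sylow_le T C hZ
  have hC₁ : ∀ x ∈ C, π x ∈ Q.map π := by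
    intro x hx
    have h1 := hle hx
    obtain ⟨t, ht, k, hk, rfl⟩ := Subgroup.mem_sup_of_normal_right.mp h1
    refine ⟨t, hT₁ ht, ?_⟩
    have h2 : π k = 1 := (QuotientGroup.eq_one_iff k).mpr hk
    show π t = π (t * k)
    rw [map_mul, h2, mul_one]
  refine ⟨hC₁, ?_⟩
  have hQmap : Q.map π ≤ pCore p (H ⧸ K) :=
    le_pCore (Subgroup.Normal.map hQn π hπ) (hQ.map π)
  intro x hx
  obtain ⟨y, rfl⟩ := hπ x
  apply hQmap
  apply hC₁
  rw [Subgroup.mem_centralizer_iff]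
  intro q hq
  have h1 : π q * π y = π y * π q := Subgroup.mem_centralizer_iff.mp hx _ (hQmap ⟨q, hq, rfl⟩)
  have h2 : y * q * y⁻¹ * q⁻¹ ∈ Q := Q.mul_mem (hQn.conj_mem q hq y) (Q.inv_mem hq)
  have h3 : y * q * y⁻¹ * q⁻¹ ∈ K := by
    apply (QuotientGroup.eq_one_iff _).mp
    show π (y * q * y⁻¹ * q⁻¹) = 1
    rw [map_mul, map_mul, map_mul, map_inv, map_inv, ← h1]
    group
  have h4 : y * q * y⁻¹ * q⁻¹ = 1 := by
    have : y * q * y⁻¹ * q⁻¹ ∈ Q ⊓ K := ⟨h2, h3⟩
    rw [hQK] at this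
    exact Subgroup.mem_bot.mp this
  calc q * y = (y * q * y⁻¹ * q⁻¹)⁻¹ * (y * q) := by group
    _ = y * q := by rw [h4]; group

/-- **The local theorem.** -/
theorem thmL (hp2 : p ≠ 2) (Q : Subgroup H) [hQn : Q.Normal] (hQ : IsPGroup p Q) (T : Sylow p H)
    (hA : ∀ R : Subgroup H, R ≤ T → (T : Subgroup H) ≤ NN R → Q < R → InvFree p (NN R))
    (hB : InvFree p (NN (centerThompsonAOf (T : Subgroup H))))
    (hC : ∀ S : Sylow p (H ⧸ Q), InvFree p (NN (centerThompsonAOf (S : Subgroup (H ⧸ Q)))) → InvFree p (H ⧸ Q)) :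
    InvFree p H := by
  classical
  have hpp : p.Prime := hp.out
  have hQT : Q ≤ T := (le_pCore hQn hQ).trans (pCore_le_sylow p T)
  by_cases hTQ : (T : Subgroup H) = Q
  · refine invFree_of_forall_mem hB (fun g => mem_NN_centerThompson ?_)
    rw [hTQ]
    have : Subgroup.normalizer (Q : Set H) = ⊤ := Subgroup.normalizer_eq_top_iff.mpr hQn
    show g ∈ Subgroup.normalizer (Q : Set H)
    rw [this]; trivial
  have hquot := quot_invFree hp2 Q hQ T hQT hTQ hA hC
  intro t₀ w ht₀ hwp hinv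
  by_contra hw1
  have hwQ : w ∈ Q := by
    obtain ⟨k, hk⟩ := ht₀
    obtain ⟨m, hm⟩ := hwp
    have h1 := hquot (QuotientGroup.mk t₀) (QuotientGroup.mk w) ⟨k, by rw [← QuotientGroup.mk_pow, hk]; rfl⟩
      ⟨m, by rw [← QuotientGroup.mk_pow, hm]; rfl⟩ (by
        rw [← QuotientGroup.mk_inv, ← QuotientGroup.mk_inv, ← QuotientGroup.mk_mul, ← QuotientGroup.mk_mul, hinv])
    exact (QuotientGroup.eq_one_iff w).mp h1
  have hT₁ := step_one Q T hQT hA ht₀ hwp hinv hw1 hwQ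
  obtain ⟨hcC, hcp⟩ := cent_pCore_le Q hQ T hT₁
  set K := pPrimeCore p H with hK
  let π := QuotientGroup.mk' K
  have hπ : Function.Surjective π := QuotientGroup.mk'_surjective _
  have hQK : Q ⊓ K = ⊥ := inf_pPrimeCore_eq_bot hQ
  have hnotInv : ¬ InvFree p (H ⧸ K) := by
    intro h
    obtain ⟨k, hk⟩ := ht₀
    obtain ⟨m, hm⟩ := hwp
    have h1 := h (π t₀) (π w) ⟨k, by rw [← map_pow, hk, map_one]⟩ ⟨m, by rw [← map_pow, hm, map_one]⟩ (by
      rw [← map_inv, ← map_inv, ← map_mul, ← map_mul, hinv])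
    have h2 : w ∈ Q ⊓ K := ⟨hwQ, (QuotientGroup.eq_one_iff w).mp h1⟩
    rw [hQK] at h2
    exact hw1 (Subgroup.mem_bot.mp h2)
  let S : Sylow p (H ⧸ K) := T.mapSurjective hπ
  have hn : ¬ (centerThompsonAOf (S : Subgroup (H ⧸ K))).Normal := fun h =>
    hnotInv (invFree_of_normal_image hp2 T hB h)
  obtain ⟨V, hVn, hVp, a, haS, haq, haM⟩ := exists_bad hp2 hcp S hn
  -- the module part
  set C := Subgroup.centralizer (V : Set (H ⧸ K)) with hC
  have hpc : (pCore p ((H ⧸ K) ⧸ C)).Normal := by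
    have := pCore_characteristic (G := (H ⧸ K) ⧸ C) p
    infer_instance
  let M : Subgroup (H ⧸ K) := (pCore p ((H ⧸ K) ⧸ C)).comap (QuotientGroup.mk' C)
  haveI hMn : M.Normal := hpc.comap _
  let f := QuotientGroup.mk' M
  have hf : Function.Surjective f := QuotientGroup.mk'_surjective _
  have hfker : ∀ x, f x = 1 ↔ (QuotientGroup.mk x : (H ⧸ K) ⧸ C) ∈ pCore p ((H ⧸ K) ⧸ C) := fun x =>
    QuotientGroup.eq_one_iff x
  have hCf : ∀ x ∈ C, f x = 1 := by
    intro x hx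
    rw [hfker, (QuotientGroup.eq_one_iff x).mpr hx]
    exact Subgroup.one_mem _
  have hfM : ∀ x, f x = 1 → ∃ m : ℕ, x ^ p ^ m ∈ C := by
    intro x hx
    obtain ⟨m, hm⟩ := isPGroup_pCore p ⟨_, (hfker x).mp hx⟩
    refine ⟨m, ?_⟩
    have h1 : (QuotientGroup.mk x : (H ⧸ K) ⧸ C) ^ p ^ m = 1 := by simpa using congrArg Subtype.val hm
    rw [← QuotientGroup.mk_pow] at h1
    exact (QuotientGroup.eq_one_iff _).mp h1
  have hQf : ∀ x ∈ Q, f (π x) = 1 := by
    intro x hx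
    rw [hfker]
    have h1 : (Q.map π).map (QuotientGroup.mk' C) ≤ pCore p ((H ⧸ K) ⧸ C) :=
      le_pCore (Subgroup.Normal.map (Subgroup.Normal.map hQn π hπ) _ (QuotientGroup.mk'_surjective C))
        ((hQ.map π).map _)
    exact h1 ⟨π x, ⟨x, hx, rfl⟩, rfl⟩
  have hinvX : InvFree p ((H ⧸ K) ⧸ M) := by
    refine hquot.of_surjective hp2 (QuotientGroup.lift Q (f.comp π) ?_) ?_
    · intro x hx
      exact hQf x hx
    · intro y
      obtain ⟨x, rfl⟩ := hf y
      obtain ⟨x, rfl⟩ := hπ x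
      exact ⟨QuotientGroup.mk x, rfl⟩
  have hap : ∃ k : ℕ, a ^ p ^ k = 1 := by
    obtain ⟨k, hk⟩ := S.isPGroup' ⟨a, haS⟩
    exact ⟨k, by simpa using congrArg Subtype.val hk⟩
  have hbase := exists_two_element_of_not_mem hp2 V hVp hap haq haM
  have hfa : f a ≠ 1 := fun h => haM ((hfker a).mp h)
  obtain ⟨s, z, hs1, hs2, hz1, hzT, hzc, hsz⟩ := thmM hp2 V hVp f hf hCf hfM hinvX (S : Subgroup (H ⧸ K)) S.isPGroup' haS haq
    hfa hbase
  have hST : (S : Subgroup (H ⧸ K)).map f = (T : Subgroup H).map (f.comp π) := Subgroup.map_map _ _ _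
  rw [hST] at hzT hzc
  refine step_five Q hQ T hQT hA (f.comp π) (hf.comp hπ) ?_ hQf hs1 hs2 hz1 hzT hzc hsz
  intro x hx
  obtain ⟨q, hq, e⟩ := hcC x hx
  show f (π x) = 1
  have e' : π x = π q := e.symm
  rw [e']
  exact hQf q hq

end Local

end Cfsg.Agent.Lib.InvLocal
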