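import Mathlib
import Cfsg.Agent.Lib.InvLocal

/-!
# `N_G(Z(J(S)))` controls the inversion of `p`-elements by `2`-elements.

**Theorem.** For an odd prime `p` and `S ∈ Syl_p(G)`: if in `N_G(Z(J(S)))` no non-trivial `p`-element is inverted by a
`2`-element, then the same holds in `G`.
-/

set_option autoImplicit false
set_option linter.style.haveILetI false
set_option linter.unusedSectionVars false

open Cfsg
open scoped commutatorElement

namespace Cfsg.Agent.Lib.InvMain

open Cfsg.Agent.Lib.PCore Cfsg.Agent.Lib.InvFreeP Cfsg.Agent.Lib.AlperinControl Cfsg.Agent.Lib.ControlSec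
open Cfsg.Agent.Lib.InvLocal Cfsg.Agent.Lib.PStab

universe u

variable {p : ℕ} [hp : Fact p.Prime]

section Aux

variable {G : Type*} [Group G] [Finite G]

theorem invFree_NN_cj (g : G) (R : Subgroup G) (h : InvFree p (NN (cj g R))) : InvFree p (NN R) := by
  have hmem : ∀ x : NN R, (MulAut.conj g).toMonoidHom (x : G) ∈ NN (cj g R) := by
    intro x
    rw [← cj_NN]
    exact ⟨x, x.2, rfl⟩
  refine h.of_injective (((MulAut.conj g).toMonoidHom.comp (NN R).subtype).codRestrict _ hmem) ?_
  intro x y hxy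
  have h1 : (MulAut.conj g).toMonoidHom (x : G) = (MulAut.conj g).toMonoidHom (y : G) := congrArg Subtype.val hxy
  exact Subtype.ext ((MulAut.conj g).injective h1)

theorem invFree_of_map (H : Subgroup G) (R' : Subgroup H) (h : InvFree p (NN (R'.map H.subtype))) :
    InvFree p (NN R') := by
  have hmem : ∀ x : NN R', (x : H).1 ∈ NN (R'.map H.subtype) := by
    intro x
    apply mem_NN_of_forall
    rintro _ ⟨r, hr, rfl⟩
    exact ⟨(x : H) * r * (x : H)⁻¹, conj_mem_of_mem_NN x.2 hr, rfl⟩
  refine h.of_injective ((H.subtype.comp (NN R').subtype).codRestrict _ hmem) ?_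
  intro x y hxy
  have h1 := congrArg Subtype.val hxy
  exact Subtype.ext (Subtype.ext h1)

theorem card_lt_of_lt {A B : Subgroup G} (h : A < B) : Nat.card A < Nat.card B :=
  lt_of_le_of_ne (Subgroup.card_le_of_le h.le) (fun e => h.ne (Subgroup.eq_of_le_of_card_ge h.le e.ge))

end Aux

/-- **Theorem.** -/
theorem thmT (hp2 : p ≠ 2) (n : ℕ) : ∀ (G : Type u) [Group G] [Finite G], Nat.card G = n → ∀ S : Sylow p G,
    InvFree p (NN (centerThompsonAOf (S : Subgroup G))) → InvFree p G := by
  classical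
  induction n using Nat.strong_induction_on with
  | _ n ih =>
  intro G _ _ hn S hZ
  by_contra hbad
  set N := Nat.card G with hN
  have hNpos : 0 < N := Nat.card_pos
  let F : Set (Subgroup G) := {R | R ≤ S ∧ R ≠ ⊥ ∧ ¬ InvFree p (NN R)}
  have hFne : F.Nonempty := by
    unfold InvFree at hbad
    push Not at hbad
    obtain ⟨t, y, ht, ⟨m, hm⟩, hinv, hy1⟩ := hbad
    have hyp : IsPGroup p (Subgroup.zpowers y) := by
      rintro ⟨_, i, rfl⟩
      refine ⟨m, Subtype.ext ?_⟩
      show (y ^ i) ^ p ^ m = 1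
      rw [← zpow_natCast, ← zpow_mul, mul_comm, zpow_mul, zpow_natCast, hm, one_zpow]
    obtain ⟨g, hg⟩ := Cfsg.Agent.Lib.SylowConjLemmas.exists_conj_mem S (Subgroup.zpowers y) hyp
    set w := g * y * g⁻¹ with hw
    have hwS : w ∈ (S : Subgroup G) := hg y (Subgroup.mem_zpowers y)
    have hw1 : w ≠ 1 := by
      intro h
      apply hy1
      have e : y = g⁻¹ * w * g := by rw [hw]; group
      rw [e, h]; group
    set τ := g * t * g⁻¹ with hτ
    have hτw : τ * w * τ⁻¹ = w⁻¹ := by
      have e : τ * w * τ⁻¹ = g * (t * y * t⁻¹) * g⁻¹ := by rw [hτ, hw]; group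
      rw [e, hinv, hw]; group
    refine ⟨Subgroup.zpowers w, Subgroup.zpowers_le.mpr hwS, ?_, ?_⟩
    · intro h
      exact hw1 (Subgroup.zpowers_eq_bot.mp h)
    · intro hI
      have hτN : τ ∈ NN (Subgroup.zpowers w) := by
        apply mem_NN_of_forall
        rintro _ ⟨i, rfl⟩
        refine ⟨-i, ?_⟩
        have h1 : τ * w ^ i * τ⁻¹ = (τ * w * τ⁻¹) ^ i := by simp [conj_zpow]
        show w ^ (-i) = τ * w ^ i * τ⁻¹
        rw [h1, hτw]; simp
      have hwN : w ∈ NN (Subgroup.zpowers w) := Subgroup.le_normalizer (Subgroup.mem_zpowers w)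
      obtain ⟨k, hk⟩ := ht
      have hτk : τ ^ 2 ^ k = 1 := by
        have : τ ^ 2 ^ k = g * t ^ 2 ^ k * g⁻¹ := by
          rw [hτ]; simp [conj_pow]
        rw [this, hk]; group
      have hwm : w ^ p ^ m = 1 := by
        have : w ^ p ^ m = g * y ^ p ^ m * g⁻¹ := by
          rw [hw]; simp [conj_pow]
        rw [this, hm]; group
      have := hI ⟨τ, hτN⟩ ⟨w, hwN⟩ ⟨k, Subtype.ext hτk⟩ ⟨m, Subtype.ext hwm⟩ (Subtype.ext hτw)
      exact hw1 (congrArg Subtype.val this)
  let f : Subgroup G → ℕ := fun R => Nat.card ↥((S : Subgroup G) ⊓ NN R) * (N + 1) + Nat.card R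
  obtain ⟨Q, ⟨hQS, hQ1, hQI⟩, hmax⟩ := Set.exists_max_image F f (Set.toFinite _) hFne
  set T := (S : Subgroup G) ⊓ NN Q with hTdef
  have hQT : Q ≤ T := le_inf hQS Subgroup.le_normalizer
  have hTp : IsPGroup p T := S.isPGroup'.to_le inf_le_left
  have hcardQ : Nat.card Q ≤ N := by
    rw [hN]; exact Subgroup.card_le_card_group Q
  -- comparison of the values of `f`
  have hcmp : ∀ R : Subgroup G, R ∈ F → Nat.card ↥((S : Subgroup G) ⊓ NN R) ≤ Nat.card T := by
    intro R hR
    have h1 := hmax R hR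
    have h2 : Nat.card R ≤ N := by
      rw [hN]; exact Subgroup.card_le_card_group R
    by_contra hcon
    push Not at hcon
    have h3 : (Nat.card T + 1) * (N + 1) ≤ Nat.card ↥((S : Subgroup G) ⊓ NN R) * (N + 1) :=
      Nat.mul_le_mul_right _ hcon
    have h4 : f R ≤ f Q := h1
    have h5 : f Q = Nat.card T * (N + 1) + Nat.card Q := rfl
    have h6 : f R = Nat.card ↥((S : Subgroup G) ⊓ NN R) * (N + 1) + Nat.card R := rfl
    nlinarith
  -- `T` is a Sylow subgroup of the normalizer
  have hTSyl : IsSyl p T (NN Q) := by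
    obtain ⟨T₁, hT₁, hTT₁⟩ := exists_isSyl_ge (H := NN Q) (inf_le_right) hTp
    obtain ⟨g, hg⟩ := Cfsg.Agent.Lib.SylowConjLemmas.exists_conj_mem S T₁ hT₁.pgrp
    have hQ₁S : cj g Q ≤ S := cj_le_iff.mpr fun a ha => hg a (hTT₁ (hQT ha))
    have hQ₁F : cj g Q ∈ F := by
      refine ⟨hQ₁S, ?_, fun h => hQI (invFree_NN_cj g Q h)⟩
      intro h
      apply hQ1
      rw [eq_bot_iff]
      intro x hx
      have h1 : g * x * g⁻¹ ∈ cj g Q := conj_mem_cj hx
      rw [h, Subgroup.mem_bot] at h1
      have e : x = g⁻¹ * (g * x * g⁻¹) * g := by group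
      rw [e, h1]
      simp
    have h1 := hcmp _ hQ₁F
    have h2 : cj g T₁ ≤ (S : Subgroup G) ⊓ NN (cj g Q) := by
      apply le_inf (cj_le_iff.mpr hg)
      rw [← cj_NN]
      exact Subgroup.map_mono hT₁.le
    have h3 : Nat.card T₁ ≤ Nat.card T := by
      calc Nat.card T₁ = Nat.card (cj g T₁) := (card_cj g T₁).symm
        _ ≤ _ := Subgroup.card_le_of_le h2
        _ ≤ _ := h1
    have h4 : T = T₁ := Subgroup.eq_of_le_of_card_ge hTT₁ h3
    rw [h4]
    exact hT₁
  -- the local group
  let H : Subgroup G := NN Q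
  let Q' : Subgroup H := Q.subgroupOf H
  haveI hQ'n : Q'.Normal := Subgroup.normal_in_normalizer
  have hQ'p : IsPGroup p Q' := (S.isPGroup'.to_le hQS).comap_of_injective _ H.subtype_injective
  obtain ⟨T', hT'⟩ := hTSyl.sylow_exists
  have hT'map : (T' : Subgroup H).map H.subtype = T := by
    rw [hT']
    exact Subgroup.map_subgroupOf_eq_of_le inf_le_right
  have hTne : T ≠ ⊥ := by
    intro h
    exact hQ1 (le_bot_iff.mp (h ▸ hQT))
  refine hQI (thmL hp2 Q' hQ'p T' ?_ ?_ ?_)
  · -- larger subgroups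
    intro R' hR'T hTR' hlt
    apply invFree_of_map H R'
    set R := R'.map H.subtype with hR
    by_contra hI
    have hRT : R ≤ T := by
      rw [← hT'map]
      exact Subgroup.map_mono hR'T
    have hQR : Q < R := by
      obtain ⟨r', hr', hr'Q⟩ := SetLike.exists_of_lt hlt
      refine lt_of_le_of_ne ?_ ?_
      · intro x hx
        exact ⟨⟨x, Subgroup.le_normalizer hx⟩, hlt.le hx, rfl⟩
      · intro h
        apply hr'Q
        have h1 : (r' : G) ∈ R := ⟨r', hr', rfl⟩
        rw [← h] at h1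
        exact h1
    have hRF : R ∈ F := by
      refine ⟨hRT.trans inf_le_left, ?_, hI⟩
      intro h
      exact hQ1 (le_bot_iff.mp (h ▸ hQR.le))
    have hTNR : T ≤ NN R := by
      intro t ht
      have ht' : t ∈ (T' : Subgroup H).map H.subtype := by rw [hT'map]; exact ht
      obtain ⟨t', ht', rfl⟩ := ht'
      apply mem_NN_of_forall
      rintro _ ⟨r, hr, rfl⟩
      exact ⟨t' * r * t'⁻¹, conj_mem_of_mem_NN (hTR' ht') hr, rfl⟩
    have h1 : f R ≤ f Q := hmax R hRF
    have h2 : Nat.card T ≤ Nat.card ↥((S : Subgroup G) ⊓ NN R) :=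
      Subgroup.card_le_of_le (le_inf inf_le_left hTNR)
    have h3 : Nat.card Q < Nat.card R := card_lt_of_lt hQR
    have h5 : f Q = Nat.card T * (N + 1) + Nat.card Q := rfl
    have h6 : f R = Nat.card ↥((S : Subgroup G) ⊓ NN R) * (N + 1) + Nat.card R := rfl
    have h7 := Nat.mul_le_mul_right (N + 1) h2
    omega
  · -- the centre of the Thompson subgroup
    apply invFree_of_map H
    rw [map_centerThompsonAOf H.subtype (fun x _ hx => Subtype.ext hx), hT'map]
    by_cases hTS : T = S
    · rw [hTS]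
      exact hZ
    by_contra hI
    have hZF : centerThompsonAOf T ∈ F :=
      ⟨(centerThompsonAOf_le T).trans inf_le_left, centerThompson_ne_bot hTp hTne, hI⟩
    have h1 := hcmp _ hZF
    have hlt : T < (S : Subgroup G) ⊓ NN T := by
      apply lt_inf_NN S.isPGroup'
      exact lt_of_le_of_ne inf_le_left hTS
    have h2 : (S : Subgroup G) ⊓ NN T ≤ (S : Subgroup G) ⊓ NN (centerThompsonAOf T) :=
      inf_le_inf_left _ (fun g hg => mem_NN_centerThompson hg)
    have h3 := card_lt_of_lt hlt
    have h4 := Subgroup.card_le_of_le h2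
    omega
  · -- the quotient
    intro S' hS'
    have hlt : Nat.card (H ⧸ Q') < n := by
      have h1 : Nat.card H = Nat.card (H ⧸ Q') * Nat.card Q' := Subgroup.card_eq_card_quotient_mul_card_subgroup Q'
      have h2 : Nat.card Q' = Nat.card Q := by
        apply Nat.card_congr
        exact (Subgroup.subgroupOfEquivOfLe (Subgroup.le_normalizer)).toEquiv
      have h3 : 1 < Nat.card Q := by
        have h4 : Nontrivial Q := (Subgroup.nontrivial_iff_ne_bot Q).mpr hQ1
        exact Finite.one_lt_card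
      have h5 : Nat.card H ≤ N := by
        rw [hN]; exact Subgroup.card_le_card_group H
      have h6 : 0 < Nat.card (H ⧸ Q') := Nat.card_pos
      rw [h2] at h1
      rw [← hn]
      nlinarith
    exact ih _ hlt (H ⧸ Q') rfl S' hS'

end Cfsg.Agent.Lib.InvMain
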