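import Mathlib
import Cfsg.Agent.Lib.Frat
import Cfsg.Agent.Lib.OddLocalA
import Cfsg.Agent.Lib.PComplement
import Cfsg.Agent.Lib.TransferEval

/-!
# Ito's lemma: a group without a normal `p`-complement contains a small offending pair.

If `y` is a `p'`-element acting non-trivially on a `p`-subgroup `Q₀`, then there is `Q ≤ Q₀` with `[Q, y] = Q` on
which `y` acts non-trivially, all of whose elements have order dividing `p` (dividing `4` if `p = 2`).
-/

set_option autoImplicit false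

namespace Cfsg.Agent.Lib.Ito

open Cfsg.Agent.Lib.OddLocalA
open scoped commutatorElement

variable {G : Type*} [Group G]

/-- Elements of order dividing `p` (dividing `4` when `p = 2`). -/
def Small (p : ℕ) (a : G) : Prop := a ^ p = 1 ∨ (p = 2 ∧ a ^ 4 = 1)

/-- The subgroup `[Q, y]`. -/
def commY (Q : Subgroup G) (y : G) : Subgroup G := Subgroup.closure {c | ∃ a ∈ Q, c = a⁻¹ * (y * a * y⁻¹)}

theorem commY_le {Q : Subgroup G} {y : G} (h : ∀ x ∈ Q, y * x * y⁻¹ ∈ Q) : commY Q y ≤ Q := by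
  rw [commY, Subgroup.closure_le]
  rintro _ ⟨a, ha, rfl⟩
  exact Q.mul_mem (Q.inv_mem ha) (h a ha)

theorem commY_inv {Q : Subgroup G} {y : G} (h : ∀ x ∈ Q, y * x * y⁻¹ ∈ Q) : ∀ x ∈ commY Q y, y * x * y⁻¹ ∈ commY Q y := by
  intro x hx
  induction hx using Subgroup.closure_induction with
  | mem c hc =>
    obtain ⟨a, ha, rfl⟩ := hc
    exact Subgroup.subset_closure ⟨y * a * y⁻¹, h a ha, by group⟩
  | one => simp [one_mem]
  | mul a b _ _ ha hb =>
    have := mul_mem ha hb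
    convert this using 1
    group
  | inv a _ ha =>
    have := inv_mem ha
    convert this using 1
    group

/-- The power map is a homomorphism in class two. -/
theorem mul_pow_class_two {Q F : Subgroup G} {p e : ℕ} (hcomm : ∀ a ∈ Q, ∀ b ∈ Q, b * a * b⁻¹ * a⁻¹ ∈ F)
    (hpow : ∀ a ∈ Q, a ^ p ∈ F) (hcen : ∀ f ∈ F, ∀ a ∈ Q, a * f = f * a) (hFQ : F ≤ Q)
    (he : ∀ w ∈ F, w ^ p = 1 → w ^ (e.choose 2) = 1) {a b : G} (ha : a ∈ Q) (hb : b ∈ Q) :
    (a * b) ^ e = a ^ e * b ^ e := by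
  set w := b * a * b⁻¹ * a⁻¹ with hw
  have hwF : w ∈ F := hcomm a ha b hb
  have hba : b * a = w * a * b := by
    rw [hw]
    group
  have hwa : Commute w a := (hcen w hwF a ha).symm
  have hwb : Commute w b := (hcen w hwF b hb).symm
  have h1 := mul_pow_of_central_comm a b w hba hwa hwb e
  have h2 := pow_mul_of_central_comm a b w hba hwa hwb p
  have hbp : b ^ p ∈ F := hpow b hb
  have hbpa : b ^ p * a = a * b ^ p := (hcen _ hbp a ha).symm
  have hwp : w ^ p = 1 := by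
    rw [hbpa] at h2
    have h3 : w ^ p * (a * b ^ p) = 1 * (a * b ^ p) := by
      rw [one_mul, ← mul_assoc]
      exact h2.symm
    exact mul_right_cancel h3
  rw [h1, he w hwF hwp, mul_one]

/-- The core: with `Q = [Q, y]`, `y` centralizing the proper invariant subgroups of `Q`. -/
theorem small_of_min [Finite G] {p : ℕ} [hp : Fact p.Prime] {Q : Subgroup G} (hQ : IsPGroup p Q) {y : G}
    (hy : ∀ x ∈ Q, y * x * y⁻¹ ∈ Q) (hne : ∃ x ∈ Q, y * x ≠ x * y)
    (hmin : ∀ R : Subgroup G, R ≤ Q → (∀ x ∈ R, y * x * y⁻¹ ∈ R) → (∃ x ∈ R, y * x ≠ x * y) → R = Q)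
    (hQc : Q = commY Q y) : ∀ a ∈ Q, Small p a := by
  classical
  have hpp : p.Prime := hp.out
  -- the Frattini-type subgroup
  set gens : Set G := {x | ∃ a ∈ Q, x = a ^ p} ∪ {x | ∃ a ∈ Q, ∃ b ∈ Q, x = b * a * b⁻¹ * a⁻¹} with hgens
  set F : Subgroup G := Subgroup.closure gens with hF
  have hgQ : ∀ g ∈ gens, g ∈ Q := by
    rintro _ (⟨a, ha, rfl⟩ | ⟨a, ha, b, hb, rfl⟩)
    · exact Q.pow_mem ha p
    · exact Q.mul_mem (Q.mul_mem (Q.mul_mem hb ha) (Q.inv_mem hb)) (Q.inv_mem ha)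
  have hFQ : F ≤ Q := (Subgroup.closure_le _).mpr hgQ
  -- conjugation by elements normalizing Q preserves F
  have hFconj : ∀ t : G, (∀ x ∈ Q, t * x * t⁻¹ ∈ Q) → ∀ f ∈ F, t * f * t⁻¹ ∈ F := by
    intro t ht f hf
    induction hf using Subgroup.closure_induction with
    | mem c hc =>
      rcases hc with ⟨a, ha, rfl⟩ | ⟨a, ha, b, hb, rfl⟩
      · refine Subgroup.subset_closure (Or.inl ⟨t * a * t⁻¹, ht a ha, ?_⟩)
        rw [conj_pow]
      · refine Subgroup.subset_closure (Or.inr ⟨t * a * t⁻¹, ht a ha, t * b * t⁻¹, ht b hb, ?_⟩)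
        group
    | one => simp [one_mem]
    | mul a b _ _ ha hb =>
      have := mul_mem ha hb
      convert this using 1
      group
    | inv a _ ha =>
      have := inv_mem ha
      convert this using 1
      group
  have hFy : ∀ f ∈ F, y * f * y⁻¹ ∈ F := hFconj y hy
  have hFn : ∀ a ∈ Q, ∀ f ∈ F, a * f * a⁻¹ ∈ F := fun a ha =>
    hFconj a (fun x hx => Q.mul_mem (Q.mul_mem ha hx) (Q.inv_mem ha))
  -- F is proper
  have hFne : F ≠ Q := by
    intro hEq
    obtain ⟨x, hx, hx2⟩ := hne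
    have hnt : Nontrivial Q := by
      refine ⟨⟨⟨x, hx⟩, 1, ?_⟩⟩
      intro h1
      have h2 : x = 1 := congrArg Subtype.val h1
      apply hx2
      rw [h2]
      simp
    obtain ⟨M, hM⟩ : ∃ M : Subgroup Q, IsCoatom M := by
      rcases eq_top_or_exists_le_coatom (⊥ : Subgroup Q) with h | ⟨M, hM, -⟩
      · exact absurd h bot_ne_top
      · exact ⟨M, hM⟩
    haveI : Finite Q := inferInstance
    have hcomm := Cfsg.Agent.Lib.Frat.commutator_and_pow_mem_of_isCoatom hQ hM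
    have hle : F ≤ M.map Q.subtype := by
      rw [hF, Subgroup.closure_le]
      rintro _ (⟨a, ha, rfl⟩ | ⟨a, ha, b, hb, rfl⟩)
      · exact ⟨_, hcomm.2 ⟨a, ha⟩, rfl⟩
      · refine ⟨⁅(⟨b, hb⟩ : Q), (⟨a, ha⟩ : Q)⁆, hcomm.1 (Subgroup.commutator_mem_commutator (Subgroup.mem_top _)
          (Subgroup.mem_top _)), ?_⟩
        rfl
    have htop : M = ⊤ := by
      rw [eq_top_iff]
      rintro ⟨q, hq⟩ _
      have h1 : q ∈ F := by
        rw [hEq]
        exact hq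
      obtain ⟨m, hm, hm2⟩ := hle h1
      have : m = ⟨q, hq⟩ := Subtype.ext hm2
      rwa [← this]
    exact hM.1 htop
  -- y centralizes F
  have hyF : ∀ f ∈ F, y * f = f * y := by
    by_contra hcon
    push_neg at hcon
    exact hFne (hmin F hFQ hFy hcon)
  have hyF' : ∀ f ∈ F, y * f * y⁻¹ = f := fun f hf => by
    rw [hyF f hf]
    group
  -- F is central in Q
  have hcen : ∀ f ∈ F, ∀ a ∈ Q, a * f = f * a := by
    intro f hf
    have hle : Q ≤ Subgroup.centralizer ({f} : Set G) := by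
      rw [hQc, commY, Subgroup.closure_le]
      rintro _ ⟨a, ha, rfl⟩
      rw [SetLike.mem_coe, Subgroup.mem_centralizer_singleton_iff]
      set f₁ := a * f * a⁻¹ with hf₁
      have h1 : y * f₁ * y⁻¹ = f₁ := hyF' _ (hFn a ha f hf)
      have h2 : y⁻¹ * f * y = f := by
        have := hyF' f hf
        calc y⁻¹ * f * y = y⁻¹ * (y * f * y⁻¹) * y := by rw [this]
          _ = f := by group
      have h3 : (y * a * y⁻¹) * f * (y * a * y⁻¹)⁻¹ = f₁ := by
        calc (y * a * y⁻¹) * f * (y * a * y⁻¹)⁻¹ = y * a * (y⁻¹ * f * y) * a⁻¹ * y⁻¹ := by group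
          _ = y * f₁ * y⁻¹ := by
              rw [h2, hf₁]
              group
          _ = f₁ := h1
      have h4 : (y * a * y⁻¹) * f = f₁ * (y * a * y⁻¹) := by
        rw [← h3]
        group
      calc a⁻¹ * (y * a * y⁻¹) * f = a⁻¹ * ((y * a * y⁻¹) * f) := by group
        _ = a⁻¹ * (f₁ * (y * a * y⁻¹)) := by rw [h4]
        _ = f * (a⁻¹ * (y * a * y⁻¹)) := by
            rw [hf₁]
            group
    intro a ha
    exact (Subgroup.mem_centralizer_singleton_iff.mp (hle ha))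
  have hcomm : ∀ a ∈ Q, ∀ b ∈ Q, b * a * b⁻¹ * a⁻¹ ∈ F := fun a ha b hb =>
    Subgroup.subset_closure (Or.inr ⟨a, ha, b, hb, rfl⟩)
  have hpow : ∀ a ∈ Q, a ^ p ∈ F := fun a ha => Subgroup.subset_closure (Or.inl ⟨a, ha, rfl⟩)
  -- the exponent
  have key : ∀ e : ℕ, (∀ a ∈ Q, a ^ e ∈ F) → (∀ w ∈ F, w ^ p = 1 → w ^ (e.choose 2) = 1) → ∀ a ∈ Q, a ^ e = 1 := by
    intro e he1 he2
    have hmul : ∀ a ∈ Q, ∀ b ∈ Q, (a * b) ^ e = a ^ e * b ^ e := fun a ha b hb =>
      mul_pow_class_two hcomm hpow hcen hFQ he2 ha hb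
    let T : Subgroup G :=
      { carrier := {a | a ∈ Q ∧ a ^ e = 1}
        mul_mem' := by
          rintro a b ⟨ha, ha2⟩ ⟨hb, hb2⟩
          refine ⟨Q.mul_mem ha hb, ?_⟩
          rw [hmul a ha b hb, ha2, hb2, one_mul]
        one_mem' := ⟨Q.one_mem, one_pow _⟩
        inv_mem' := by
          rintro a ⟨ha, ha2⟩
          exact ⟨Q.inv_mem ha, by rw [inv_pow, ha2, inv_one]⟩ }
    have hle : Q ≤ T := by
      conv_lhs => rw [hQc, commY]
      rw [Subgroup.closure_le]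
      rintro _ ⟨a, ha, rfl⟩
      refine ⟨Q.mul_mem (Q.inv_mem ha) (hy a ha), ?_⟩
      have hb := hy a ha
      rw [hmul _ (Q.inv_mem ha) _ hb, inv_pow, conj_pow, hyF' _ (he1 a ha), inv_mul_cancel]
    intro a ha
    exact (hle ha).2
  by_cases hp2 : p = 2
  · subst hp2
    intro a ha
    refine Or.inr ⟨rfl, key 4 ?_ ?_ a ha⟩
    · intro b hb
      have : b ^ 4 = (b ^ 2) ^ 2 := by rw [← pow_mul]
      rw [this]
      exact F.pow_mem (hpow b hb) 2
    · intro w _ hw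
      have h6 : Nat.choose 4 2 = 2 * 3 := by decide
      rw [h6, pow_mul, hw, one_pow]
  · intro a ha
    refine Or.inl (key p hpow ?_ a ha)
    intro w _ hw
    obtain ⟨k, hk⟩ : p ∣ p.choose 2 := hpp.dvd_choose_self (by norm_num) (by
      have := hpp.two_le
      omega)
    rw [hk, pow_mul, hw, one_pow]

/-- **Ito's lemma.** -/
theorem exists_small_pair [Finite G] {p : ℕ} [hp : Fact p.Prime] (Q₀ : Subgroup G) (hQ₀ : IsPGroup p Q₀) (y : G)
    (hy : ∀ x ∈ Q₀, y * x * y⁻¹ ∈ Q₀) (hco : (orderOf y).Coprime p) (hne : ∃ x ∈ Q₀, y * x ≠ x * y) :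
    ∃ Q ≤ Q₀, (∀ x ∈ Q, y * x * y⁻¹ ∈ Q) ∧ (∃ x ∈ Q, y * x ≠ x * y) ∧ (∀ a ∈ Q, Small p a) ∧ Q = commY Q y := by
  classical
  let S : Set (Subgroup G) := {R | R ≤ Q₀ ∧ (∀ x ∈ R, y * x * y⁻¹ ∈ R) ∧ ∃ x ∈ R, y * x ≠ x * y}
  obtain ⟨Q, ⟨hQQ₀, hy', hne'⟩, hQmin⟩ := Set.exists_min_image S (fun R => Nat.card R) (Set.toFinite _) ⟨Q₀, le_refl _, hy, hne⟩
  have hQp : IsPGroup p Q := hQ₀.to_le hQQ₀
  have hmin : ∀ R : Subgroup G, R ≤ Q → (∀ x ∈ R, y * x * y⁻¹ ∈ R) → (∃ x ∈ R, y * x ≠ x * y) → R = Q := by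
    intro R hRQ h1 h2
    have h3 := hQmin R ⟨hRQ.trans hQQ₀, h1, h2⟩
    exact Subgroup.eq_of_le_of_card_ge hRQ h3
  have hQc : Q = commY Q y := by
    symm
    apply hmin _ (commY_le hy') (commY_inv hy')
    by_contra hcon
    push_neg at hcon
    obtain ⟨x, hx, hx2⟩ := hne'
    apply hx2
    set d := x⁻¹ * (y * x * y⁻¹) with hd
    have hdmem : d ∈ commY Q y := Subgroup.subset_closure ⟨x, hx, rfl⟩
    have hdQ : d ∈ Q := commY_le hy' hdmem
    have h1 : y * x * y⁻¹ = x * d := by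
      rw [hd]
      group
    have hcop : (orderOf y).Coprime (orderOf d) := by
      obtain ⟨k, hk⟩ := (IsPGroup.iff_orderOf.mp hQp) ⟨d, hdQ⟩
      have h2 : orderOf d = p ^ k := by
        rw [← hk]
        exact (Subgroup.orderOf_mk d hdQ).symm
      rw [h2]
      exact Nat.Coprime.pow_right k hco
    have hd1 := eq_one_of_conj_eq_mul y x d h1 (hcon d hdmem) hcop
    rw [hd1, mul_one] at h1
    calc y * x = (y * x * y⁻¹) * y := by group
      _ = x * y := by rw [h1]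
  exact ⟨Q, hQQ₀, hy', hne', small_of_min hQp hy' hne' hmin hQc, hQc⟩

/-- The hypothesis of Frobenius' criterion fails for some small pair, if there is no normal complement. -/
theorem exists_pair_of_not_npc [Finite G] {p : ℕ} [hp : Fact p.Prime] (P : Sylow p G)
    (h : ¬ Cfsg.HasNormalPComplement p G) :
    ∃ Q : Subgroup G, Q ≤ (P : Subgroup G) ∧ ∃ y : G, (∀ x ∈ Q, y * x * y⁻¹ ∈ Q) ∧ (∃ x ∈ Q, y * x ≠ x * y) ∧
      (∀ a ∈ Q, Small p a) ∧ Q = commY Q y := by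
  rw [Cfsg.Agent.Lib.TransferEval.hasNormalPComplement_iff P, Cfsg.Agent.Lib.PComplement.frobenius_criterion P] at h
  push_neg at h
  obtain ⟨Q₀, hQ₀, g, hg, hco, hgc⟩ := h
  have hy : ∀ x ∈ Q₀, g * x * g⁻¹ ∈ Q₀ := fun x hx => (Subgroup.mem_normalizer_iff.mp hg x).mp hx
  have hne : ∃ x ∈ Q₀, g * x ≠ x * g := by
    by_contra hc
    push_neg at hc
    apply hgc
    rw [Subgroup.mem_centralizer_iff]
    intro x hx
    exact (hc x hx).symm
  obtain ⟨Q, hQ, h1, h2, h3, h4⟩ := exists_small_pair Q₀ (P.2.to_le hQ₀) g hy hco hne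
  exact ⟨Q, hQ.trans hQ₀, g, h1, h2, h3, h4⟩

end Cfsg.Agent.Lib.Ito
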