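import Mathlib
import Cfsg.Prelude.Def_Characters
import Cfsg.Agent.Lib.CharBasic
import Cfsg.Agent.Lib.CharInd
import Cfsg.Agent.Lib.CharValues
import Cfsg.Agent.Lib.CharIntegrality
import Cfsg.Agent.Lib.CharCodegP
import Cfsg.Agent.Lib.BurnsidePQ
import Cfsg.Agent.Lib.PermChar
import Cfsg.Agent.Lib.GenChar

/-!
# A vanishing lemma for a permutation character (used for Ito's conjugate rank three theorem)

Let `B` be a subgroup of a finite group `G` such that every non-identity `u ∈ B` has centralizer
exactly `B`.  Then `B` is abelian and a TI subgroup, and the non-principal linear characters of `B`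
induce to class functions whose differences have norm two when they are not conjugate under the
normalizer.  If `π` is a character of `G` whose restriction to `B` is the regular character, then
every non-principal constituent of `π` has degree prime to `|B|`, at least when `|B|` is a Hall
divisor of `|G|`.

By Burnside's vanishing theorem, in a non-abelian simple group the constituents vanish at
elements with class size `|B|`.
-/

set_option autoImplicit false
set_option linter.unusedSectionVars false
set_option warn.classDefReducibility false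
set_option linter.style.haveILetI false

namespace Cfsg.Agent.Lib.ItoChar

open Cfsg Cfsg.Agent.Lib.CharBasic Cfsg.Agent.Lib.CharInd Cfsg.Agent.Lib.CharIntegrality
open scoped ComplexConjugate

universe u

section TI

variable {G : Type u} [Group G] {B : Subgroup G}

/-- The standing hypothesis on `B`. -/
def IsCB (B : Subgroup G) : Prop := ∀ u ∈ B, u ≠ 1 → Subgroup.centralizer ({u} : Set G) = B

theorem IsCB.comm (h : IsCB B) (a b : B) : a * b = b * a := by
  by_cases ha : (a : G) = 1
  · have : a = 1 := Subtype.ext ha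
    simp [this]
  · have hb : (b : G) ∈ Subgroup.centralizer ({(a : G)} : Set G) := by
      rw [h a a.2 ha]; exact b.2
    rw [Subgroup.mem_centralizer_singleton_iff] at hb
    exact Subtype.ext hb.symm

/-- The normalizer of `B`. -/
abbrev Nz (B : Subgroup G) : Subgroup G := Subgroup.normalizer (B : Set G)

theorem IsCB.mem_nz (h : IsCB B) {u x : G} (hu : u ∈ B) (hu1 : u ≠ 1) (hx : x⁻¹ * u * x ∈ B) :
    x ∈ Nz B := by
  have hv1 : x⁻¹ * u * x ≠ 1 := by
    intro hc
    apply hu1
    have : u = x * (x⁻¹ * u * x) * x⁻¹ := by group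
    rw [this, hc]; group
  rw [Subgroup.mem_normalizer_iff]
  intro y
  constructor
  · intro hy
    have h1 : y ∈ Subgroup.centralizer ({x⁻¹ * u * x} : Set G) := by
      rw [h _ hx hv1]; exact hy
    rw [Subgroup.mem_centralizer_singleton_iff] at h1
    have h2 : x * y * x⁻¹ ∈ Subgroup.centralizer ({u} : Set G) := by
      rw [Subgroup.mem_centralizer_singleton_iff]
      have : u * (x * y * x⁻¹) = x * ((x⁻¹ * u * x) * y) * x⁻¹ := by group
      rw [this, ← h1]
      group
    rwa [h u hu hu1] at h2
  · intro hy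
    have h1 : x * y * x⁻¹ ∈ Subgroup.centralizer ({u} : Set G) := by
      rw [h u hu hu1]; exact hy
    rw [Subgroup.mem_centralizer_singleton_iff] at h1
    have h2 : y ∈ Subgroup.centralizer ({x⁻¹ * u * x} : Set G) := by
      rw [Subgroup.mem_centralizer_singleton_iff]
      have e1 : (x⁻¹ * u * x) * y = x⁻¹ * (u * (x * y * x⁻¹)) * x := by group
      rw [e1, ← h1]
      group
    rwa [h _ hx hv1] at h2

theorem IsCB.le_nz (B : Subgroup G) : B ≤ Nz B := Subgroup.le_normalizer

/-- Twisting a function on `B` by an element of the normalizer. -/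
def tw (x : Nz B) (θ : B → ℂ) : B → ℂ := fun u => θ (B.normalizerMonoidHom x⁻¹ u)

theorem cj_coe (x : Nz B) (u : B) :
    ((B.normalizerMonoidHom x⁻¹ u : B) : G) = (x : G)⁻¹ * u * x := by
  show (x⁻¹ : Nz B).1 * u * ((x⁻¹ : Nz B)⁻¹).1 = _
  simp

variable [Fintype G]

theorem sum_extend_eq [Fintype (Nz B)] (h : IsCB B) (θ : B → ℂ) (u : B) (hu : u ≠ 1) :
    ∑ x : G, extendByZero B θ (x⁻¹ * u * x) = ∑ x : Nz B, tw x θ u := by
  classical
  have hu1 : (u : G) ≠ 1 := fun hc => hu (Subtype.ext hc)
  rw [← Finset.sum_subset (Finset.subset_univ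
    (Finset.univ.map (Function.Embedding.subtype (· ∈ Nz B))))]
  · rw [Finset.sum_map]
    refine Finset.sum_congr rfl fun x _ => ?_
    simp only [Function.Embedding.coe_subtype]
    have hm : (x : G)⁻¹ * u * x ∈ B := by
      rw [← cj_coe]; exact SetLike.coe_mem _
    rw [CharInd.extendByZero_of_mem B θ hm]
    unfold tw
    congr 1
    exact Subtype.ext (cj_coe x u).symm
  · intro x _ hx
    have hxN : x ∉ Nz B := by
      intro hxN
      exact hx (Finset.mem_map.mpr ⟨⟨x, hxN⟩, Finset.mem_univ _, rfl⟩)
    refine CharInd.extendByZero_of_not_mem B θ fun hm => hxN ?_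
    exact h.mem_nz u.2 hu1 hm

/-- The inner product of induced functions, when the left one vanishes at the identity. -/
theorem classInner_ind_ind [Fintype B] [Fintype (Nz B)] (h : IsCB B) (α β : B → ℂ) (hα : α 1 = 0) :
    classInner (indFun B α) (indFun B β) =
      (Nat.card B : ℂ)⁻¹ * ∑ x : Nz B, classInner α (tw x β) := by
  classical
  rw [CharInd.frobenius B α (CharInd.indFun_isClassFunction B β)]
  unfold classInner
  simp only [← Finset.mul_sum]
  congr 1
  have h1 : ∀ u : B, α u * conj (indFun B β (u : G)) =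
      (Nat.card B : ℂ)⁻¹ * ∑ x : Nz B, α u * conj (tw x β u) := by
    intro u
    by_cases hu : u = 1
    · subst hu
      simp [hα]
    · rw [CharInd.indFun_apply, sum_extend_eq h β u hu, map_mul, map_sum, map_inv₀, map_natCast,
        ← Finset.mul_sum]
      ring
  rw [Finset.sum_congr rfl fun u _ => h1 u, ← Finset.mul_sum, Finset.sum_comm]


/-- The action of the normalizer on the irreducible characters of `B`. -/
noncomputable def actN (B : Subgroup G) : MulAction (Nz B) (IrrCharacter B) where
  smul x φ := ⟨tw x φ.1, by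
    have := isIrrCharacter_comp_of_surjective
      ((B.normalizerMonoidHom x⁻¹ : MulAut B) : B →* B) (MulEquiv.surjective _) φ.2
    exact this⟩
  one_smul φ := by
    apply Subtype.ext
    funext u
    show φ.1 _ = φ.1 u
    refine congrArg φ.1 ?_
    simp
  mul_smul x y φ := by
    apply Subtype.ext
    funext u
    show φ.1 _ = φ.1 _
    refine congrArg φ.1 ?_
    apply Subtype.ext
    show ((B.normalizerMonoidHom (x * y)⁻¹ u : B) : G) =
      ((B.normalizerMonoidHom y⁻¹ (B.normalizerMonoidHom x⁻¹ u) : B) : G)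
    rw [cj_coe, cj_coe, cj_coe]
    simp [mul_assoc]

attribute [local instance] actN

theorem smul_val (x : Nz B) (φ : IrrCharacter B) : (x • φ).1 = tw x φ.1 := rfl

theorem smul_apply (x : Nz B) (φ : IrrCharacter B) (u : B) :
    (x • φ).1 u = φ.1 (B.normalizerMonoidHom x⁻¹ u) := rfl

/-- `x` fixes a non-principal `φ` only when `x ∈ B`. -/
theorem smul_eq_self_iff [Fintype B] (h : IsCB B) (φ : IrrCharacter B) (hφ : φ.1 ≠ fun _ => 1)
    (x : Nz B) : x • φ = φ ↔ (x : G) ∈ B := by
  have hc := h.comm
  constructor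
  · intro hx
    by_contra hxB
    obtain ⟨f, hf⟩ := exists_hom_of_degree_one (IsIrrCharacter.isCharacter φ.2)
      (CharCodegP.irr_one_of_comm hc φ.2)
    apply hφ
    -- the commutator map
    obtain ⟨e, he⟩ : ∃ e : MulAut B, e = B.normalizerMonoidHom x⁻¹ := ⟨_, rfl⟩
    let c : B → B := fun u => u⁻¹ * e u
    have hcinj : Function.Injective c := by
      intro u v huv
      have h0 : (v * u⁻¹) * e (u * v⁻¹) = 1 := by
        have e1 : c u = c v := huv
        simp only [c] at e1
        rw [map_mul, map_inv]
        have e2 : v * u⁻¹ * (e u * (e v)⁻¹) =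
            v * (u⁻¹ * e u) * (e v)⁻¹ := by
          group
        rw [e2, e1]
        group
      by_contra huv'
      have hw : (u * v⁻¹ : B) ≠ 1 := by
        intro hc'
        exact huv' (mul_inv_eq_one.mp hc')
      have hw' : ((u * v⁻¹ : B) : G) ≠ 1 := fun hc' => hw (Subtype.ext hc')
      have hmem : (x : G) ∈ Subgroup.centralizer ({((u * v⁻¹ : B) : G)} : Set G) := by
        rw [Subgroup.mem_centralizer_singleton_iff]
        have h3 : ((e (u * v⁻¹) : B) : G) = ((u * v⁻¹ : B) : G) := by
          have h4 : (e (u * v⁻¹) : B) = (v * u⁻¹)⁻¹ :=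
            eq_inv_of_mul_eq_one_right h0
          rw [h4]
          simp
        rw [he, cj_coe] at h3
        have h5 : (x : G)⁻¹ * ((u * v⁻¹ : B) : G) * x = ((u * v⁻¹ : B) : G) := h3
        calc (x : G) * ((u * v⁻¹ : B) : G) 
            = (x : G) * ((x : G)⁻¹ * ((u * v⁻¹ : B) : G) * x) := by rw [h5]
          _ = ((u * v⁻¹ : B) : G) * x := by group
      rw [h _ (SetLike.coe_mem _) hw'] at hmem
      exact hxB hmem
    have hcsurj : Function.Surjective c := Finite.surjective_of_injective hcinj
    funext v
    obtain ⟨u, rfl⟩ := hcsurj v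
    have h6 : φ.1 (e u) = φ.1 u := by
      have := congrFun (congrArg Subtype.val hx) u
      rw [he]
      exact this
    rw [hf, hf] at h6
    rw [hf]
    simp only [c, map_mul, map_inv, Units.val_mul]
    rw [h6]
    simp
  · intro hx
    apply Subtype.ext
    funext u
    show φ.1 _ = φ.1 u
    refine congrArg φ.1 ?_
    apply Subtype.ext
    rw [cj_coe]
    have := hc ⟨x, hx⟩ u
    have h2 : (x : G) * u = u * x := congrArg Subtype.val this
    rw [mul_assoc, ← h2]
    group

theorem card_stab [Fintype B] (h : IsCB B) (φ : IrrCharacter B) (hφ : φ.1 ≠ fun _ => 1) :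
    Nat.card (MulAction.stabilizer (Nz B) φ) = Nat.card B := by
  refine Nat.card_congr ⟨fun x => ⟨x.1.1, (smul_eq_self_iff h φ hφ _).1 x.2⟩,
    fun u => ⟨⟨u.1, Subgroup.le_normalizer u.2⟩, (smul_eq_self_iff h φ hφ _).2 u.2⟩, ?_, ?_⟩
  · intro x
    rfl
  · intro x
    rfl

/-- The norm of a difference of induced non-conjugate linear characters is two. -/
theorem norm_two [Fintype B] [Fintype (Nz B)] (h : IsCB B) (l m : IrrCharacter B)
    (hl : l.1 ≠ fun _ => 1) (hm : m.1 ≠ fun _ => 1) (hnc : ∀ x : Nz B, x • m ≠ l) :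
    classInner (indFun B l.1 - indFun B m.1) (indFun B l.1 - indFun B m.1) = 2 := by
  classical
  have hc := h.comm
  have hl1 := CharCodegP.irr_one_of_comm hc l.2
  have hm1 := CharCodegP.irr_one_of_comm hc m.2
  rw [← CharInd.indFun_sub]
  rw [classInner_ind_ind h _ _ (by simp [hl1, hm1])]
  have hterm : ∀ x : Nz B, classInner (l.1 - m.1) (tw x (l.1 - m.1)) =
      (if x • l = l then 1 else 0) + (if x • m = m then 1 else 0) := by
    intro x
    have e1 : tw x (l.1 - m.1) = (x • l).1 - (x • m).1 := rfl
    rw [e1, classInner_sub_left, classInner_sub_right, classInner_sub_right]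
    have t1 : classInner l.1 (x • m).1 = 0 :=
      classInner_irr_ne l.2 (x • m).2 fun hc' => hnc x (Subtype.ext hc'.symm)
    have t2 : classInner m.1 (x • l).1 = 0 := by
      refine classInner_irr_ne m.2 (x • l).2 fun hc' => hnc x⁻¹ ?_
      have : m = x • l := Subtype.ext hc'
      rw [this, inv_smul_smul]
    have t3 : classInner l.1 (x • l).1 = if x • l = l then 1 else 0 := by
      split_ifs with hx
      · rw [hx]; exact classInner_irr_self l.2
      · exact classInner_irr_ne l.2 (x • l).2 fun hc' => hx (Subtype.ext hc'.symm)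
    have t4 : classInner m.1 (x • m).1 = if x • m = m then 1 else 0 := by
      split_ifs with hx
      · rw [hx]; exact classInner_irr_self m.2
      · exact classInner_irr_ne m.2 (x • m).2 fun hc' => hx (Subtype.ext hc'.symm)
    rw [t1, t2, t3, t4]
    ring
  simp_rw [hterm]
  rw [Finset.sum_add_distrib]
  have hcount : ∀ φ : IrrCharacter B, φ.1 ≠ (fun _ => 1) →
      (∑ x : Nz B, (if x • φ = φ then (1 : ℂ) else 0)) = Nat.card B := by
    intro φ hφ
    rw [Finset.sum_boole, ← card_stab h φ hφ, Nat.card_eq_fintype_card (α := MulAction.stabilizer (Nz B) φ)]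
    congr 1
    rw [Fintype.card_subtype]
    rfl
  rw [hcount l hl, hcount m hm]
  have hB : (Nat.card B : ℂ) ≠ 0 := by exact_mod_cast Nat.card_pos.ne'
  field_simp
  ring

/-- A generalized-character style computation: a function of norm two with inner products `1` and
`-1` with two distinct irreducible characters is their difference. -/
theorem eq_sub_of_norm_two (τ a b : G → ℂ) (ha : IsIrrCharacter G a) (hb : IsIrrCharacter G b)
    (hab : a ≠ b) (hτ : classInner τ τ = 2) (h1 : classInner τ a = 1) (h2 : classInner τ b = -1) :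
    τ = a - b := by
  have h3 : classInner a τ = 1 := by
    rw [← classInner_conj_symm, h1]; simp
  have h4 : classInner b τ = -1 := by
    rw [← classInner_conj_symm, h2]; simp
  have key : classInner (τ - (a - b)) (τ - (a - b)) = 0 := by
    simp only [classInner_sub_left, classInner_sub_right]
    rw [hτ, h1, h2, h3, h4, classInner_irr_self ha, classInner_irr_self hb,
      classInner_irr_ne ha hb hab, classInner_irr_ne hb ha hab.symm]
    ring
  have := classInner_self_eq_zero key
  exact sub_eq_zero.mp this

/-- The multiplicity of an irreducible character of `B` in the restriction of one of `G`. -/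
noncomputable def mult [Fintype B] (i : IrrCharacter G) (φ : IrrCharacter B) : ℕ :=
  Classical.choose
    (classInner_char_irr (isCharacter_restrict B (IsIrrCharacter.isCharacter i.2)) φ.2)

theorem mult_spec [Fintype B] (i : IrrCharacter G) (φ : IrrCharacter B) :
    classInner (fun u : B => (i : G → ℂ) u) φ.1 = mult i φ :=
  Classical.choose_spec
    (classInner_char_irr (isCharacter_restrict B (IsIrrCharacter.isCharacter i.2)) φ.2)

theorem inner_ind_irr [Fintype B] (φ : IrrCharacter B) (i : IrrCharacter G) :
    classInner (indFun B φ.1) i.1 = mult i φ := by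
  rw [CharInd.frobenius B φ.1 (isClassFunction_of_isCharacter (IsIrrCharacter.isCharacter i.2)),
    ← classInner_conj_symm, mult_spec]
  simp

theorem mult_smul [Fintype B] (i : IrrCharacter G) (φ : IrrCharacter B) (x : Nz B) :
    mult i (x • φ) = mult i φ := by
  have h1 : classInner (fun u : B => (i : G → ℂ) u) (x • φ).1 =
      classInner (fun u : B => (i : G → ℂ) u) φ.1 := by
    unfold classInner
    congr 1
    refine Fintype.sum_equiv (B.normalizerMonoidHom x⁻¹).toEquiv _ _ fun u => ?_
    rw [smul_apply]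
    congr 1
    show (i : G → ℂ) u = (i : G → ℂ) ((B.normalizerMonoidHom x⁻¹ u : B) : G)
    rw [cj_coe]
    have := isClassFunction_of_isCharacter (IsIrrCharacter.isCharacter i.2) (u : G) (x : G)⁻¹
    rw [inv_inv] at this
    exact this.symm
  rw [mult_spec, mult_spec] at h1
  exact_mod_cast h1

theorem deg_eq [Fintype B] (h : IsCB B) (i : IrrCharacter G) :
    (i : G → ℂ) 1 = ((∑ φ : IrrCharacter B, mult i φ : ℕ) : ℂ) := by
  obtain ⟨n, hn⟩ := exists_nat_decomp (isCharacter_restrict B (IsIrrCharacter.isCharacter i.2))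
  have hn' : ∀ φ, n φ = mult i φ := by
    intro φ
    have := classInner_nat_decomp n φ.1 φ.2
    rw [← hn, mult_spec] at this
    exact_mod_cast this.symm
  have h1 := congrFun hn 1
  have h2 : ∀ φ : IrrCharacter B, (φ : B → ℂ) 1 = 1 := fun φ =>
    CharCodegP.irr_one_of_comm h.comm φ.2
  simp only [Finset.sum_apply, nsmul_eq_mul, Pi.mul_apply, Pi.natCast_apply, h2, mul_one, hn'] at h1
  push_cast
  exact_mod_cast h1

theorem card_irr_of_comm [Fintype B] (h : IsCB B) : Nat.card (IrrCharacter B) = Nat.card B := by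
  classical
  have h2 : ∀ φ : IrrCharacter B, (φ : B → ℂ) 1 = 1 := fun φ =>
    CharCodegP.irr_one_of_comm h.comm φ.2
  have h3 := sum_irr_degree_sq (G := B)
  simp only [h2, map_one, mul_one, Finset.sum_const, Finset.card_univ, nsmul_eq_mul] at h3
  rw [Nat.card_eq_fintype_card (α := IrrCharacter B)]
  exact_mod_cast h3

/-- The main numerical result: non-principal constituents have degree prime to `|B|`. -/
theorem deg_coprime [Fintype B] [Fintype (Nz B)] (h : IsCB B) (k : ℕ)
    (hk : Nat.card G = k * Nat.card B) (hcop : Nat.Coprime k (Nat.card B))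
    (M : IrrCharacter G → ℕ)
    (hsum : ∀ φ : IrrCharacter B, ∑ i, M i * mult i φ = 1)
    (hone : M ⟨fun _ => 1, isIrrCharacter_one⟩ ≠ 0)
    (χ : IrrCharacter G) (hχ : M χ ≠ 0) (hχ1 : χ.1 ≠ fun _ => 1) (d : ℕ) (hd : χ.1 1 = d) :
    Nat.Coprime d (Nat.card B) := by
  classical
  set one : IrrCharacter G := ⟨fun _ => 1, isIrrCharacter_one⟩ with hone_def
  set oneB : IrrCharacter B := ⟨fun _ => 1, isIrrCharacter_one⟩ with honeB_def
  have huniq : ∀ (φ : IrrCharacter B) (i j : IrrCharacter G), M i ≠ 0 → mult i φ ≠ 0 → M j ≠ 0 →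
      mult j φ ≠ 0 → i = j := by
    intro φ i j h1 h2 h3 h4
    by_contra hij
    have h5 := Finset.sum_le_sum_of_subset (f := fun i => M i * mult i φ)
      (Finset.subset_univ ({i, j} : Finset (IrrCharacter G)))
    rw [Finset.sum_pair hij, hsum φ] at h5
    have h6 : 1 ≤ M i * mult i φ := Nat.one_le_iff_ne_zero.mpr (mul_ne_zero h1 h2)
    have h7 : 1 ≤ M j * mult j φ := Nat.one_le_iff_ne_zero.mpr (mul_ne_zero h3 h4)
    omega
  have hle : ∀ (φ : IrrCharacter B) (i : IrrCharacter G), M i ≠ 0 → mult i φ ≤ 1 := by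
    intro φ i hi
    have h5 := Finset.single_le_sum (f := fun i => M i * mult i φ) (fun _ _ => Nat.zero_le _)
      (Finset.mem_univ i)
    simp only [hsum φ] at h5
    have h6 : 1 ≤ M i := Nat.one_le_iff_ne_zero.mpr hi
    calc mult i φ ≤ M i * mult i φ := Nat.le_mul_of_pos_left _ h6
      _ ≤ 1 := h5
  have hex : ∀ φ : IrrCharacter B, ∃ i, M i ≠ 0 ∧ mult i φ ≠ 0 := by
    intro φ
    have h5 : ∑ i, M i * mult i φ ≠ 0 := by rw [hsum φ]; exact one_ne_zero
    obtain ⟨i, -, hi⟩ := Finset.exists_ne_zero_of_sum_ne_zero h5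
    exact ⟨i, left_ne_zero_of_mul hi, right_ne_zero_of_mul hi⟩
  have hone_one : mult one oneB ≠ 0 := by
    have h5 := mult_spec one oneB
    have h6 : classInner (fun u : B => (one : G → ℂ) u) oneB.1 = 1 :=
      classInner_irr_self oneB.2
    rw [h6] at h5
    intro h0
    rw [h0] at h5
    simp at h5
  have hχone : χ ≠ one := fun hc => hχ1 (congrArg Subtype.val hc)
  have hχoneB : mult χ oneB = 0 := by
    by_contra h0
    exact hχone (huniq oneB χ one hχ h0 hone hone_one)
  -- the degree as a count
  have hdS : d = (Finset.univ.filter fun φ : IrrCharacter B => mult χ φ ≠ 0).card := by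
    have h5 := deg_eq h χ
    rw [hd] at h5
    have h6 : d = ∑ φ : IrrCharacter B, mult χ φ := by exact_mod_cast h5
    rw [h6, Finset.card_filter]
    refine Finset.sum_congr rfl fun φ _ => ?_
    have := hle φ χ hχ
    split_ifs with h7 <;> omega
  have hne1 : ∀ φ : IrrCharacter B, φ.1 ≠ (fun _ => 1) ↔ φ ≠ oneB := by
    intro φ
    constructor
    · intro h5 h6
      exact h5 (congrArg Subtype.val h6)
    · intro h5 h6
      exact h5 (Subtype.ext h6)
  by_cases hall : ∀ m : IrrCharacter B, m.1 ≠ (fun _ => 1) → mult χ m ≠ 0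
  · -- all of the non-principal characters occur
    have hS : (Finset.univ.filter fun φ : IrrCharacter B => mult χ φ ≠ 0) =
        Finset.univ.erase oneB := by
      ext φ
      simp only [Finset.mem_filter, Finset.mem_univ, true_and, Finset.mem_erase, and_true]
      constructor
      · intro h5 h6
        rw [h6] at h5
        exact h5 hχoneB
      · intro h5
        exact hall φ ((hne1 φ).2 h5)
    rw [hS, Finset.card_erase_of_mem (Finset.mem_univ _), Finset.card_univ,
      ← Nat.card_eq_fintype_card, card_irr_of_comm h] at hdS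
    rw [hdS]
    have hpos : 1 ≤ Nat.card B := Nat.card_pos
    have : Nat.Coprime (Nat.card B - 1 + 1) (Nat.card B - 1) := by
      simp
    rw [Nat.sub_add_cancel hpos] at this
    exact this.symm
  · push Not at hall
    obtain ⟨m, hm1, hm0⟩ := hall
    obtain ⟨χ₂, hχ₂, hχ₂m⟩ := hex m
    have hne2 : χ ≠ χ₂ := by
      rintro rfl
      exact hχ₂m hm0
    have hχ₂m1 : mult χ₂ m = 1 := by
      have := hle m χ₂ hχ₂
      omega
    have hkey : ∀ l : IrrCharacter B, mult χ l ≠ 0 →
        (∀ x : Nz B, x • m ≠ l) ∧ indFun B l.1 - indFun B m.1 = χ.1 - χ₂.1 := by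
      intro l hl
      have hnc : ∀ x : Nz B, x • m ≠ l := by
        intro x hx
        apply hl
        rw [← hx, mult_smul, hm0]
      refine ⟨hnc, ?_⟩
      have hl1 : l.1 ≠ fun _ => 1 := by
        rw [hne1]
        rintro rfl
        exact hl hχoneB
      have hn2 := norm_two h l m hl1 hm1 hnc
      have hχ₂l : mult χ₂ l = 0 := by
        by_contra h0
        exact hne2 (huniq l χ χ₂ hχ hl hχ₂ h0)
      have hχl : mult χ l = 1 := by
        have := hle l χ hχ
        omega
      refine eq_sub_of_norm_two _ _ _ χ.2 χ₂.2 (fun hc => hne2 (Subtype.ext hc)) hn2 ?_ ?_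
      · rw [classInner_sub_left, inner_ind_irr, inner_ind_irr, hχl, hm0]
        simp
      · rw [classInner_sub_left, inner_ind_irr, inner_ind_irr, hχ₂l, hχ₂m1]
        simp
    have hconj : ∀ l l' : IrrCharacter B, mult χ l ≠ 0 → mult χ l' ≠ 0 → ∃ x : Nz B, x • l' = l := by
      intro l l' hl hl'
      by_contra hnc
      push Not at hnc
      have hl1 : l.1 ≠ fun _ => 1 := by
        rw [hne1]
        rintro rfl
        exact hl hχoneB
      have hl'1 : l'.1 ≠ fun _ => 1 := by
        rw [hne1]
        rintro rfl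
        exact hl' hχoneB
      have hn2 := norm_two h l l' hl1 hl'1 hnc
      have e1 := (hkey l hl).2
      have e2 := (hkey l' hl').2
      have e3 : indFun B l.1 = indFun B l'.1 := by
        have := e1.trans e2.symm
        exact sub_left_inj.mp this
      rw [e3, sub_self, classInner_zero_left] at hn2
      norm_num at hn2
    -- pick a base point
    have hSne : (Finset.univ.filter fun φ : IrrCharacter B => mult χ φ ≠ 0).Nonempty := by
      rw [Finset.nonempty_iff_ne_empty]
      intro h0
      rw [h0, Finset.card_empty] at hdS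
      have := GenChar.isIrr_one_ne_zero χ.2
      rw [hd, hdS] at this
      simp at this
    obtain ⟨l₀, hl₀⟩ := hSne
    have hl₀' : mult χ l₀ ≠ 0 := (Finset.mem_filter.mp hl₀).2
    have hl₀1 : l₀.1 ≠ fun _ => 1 := by
      rw [hne1]
      rintro rfl
      exact hl₀' hχoneB
    have hSorb : ((Finset.univ.filter fun φ : IrrCharacter B => mult χ φ ≠ 0 :
        Finset (IrrCharacter B)) : Set (IrrCharacter B)) = MulAction.orbit (Nz B) l₀ := by
      ext φ
      simp only [Finset.coe_filter, Finset.mem_univ, true_and, Set.mem_ofPred_eq]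
      constructor
      · intro h5
        obtain ⟨x, hx⟩ := hconj φ l₀ h5 hl₀'
        exact ⟨x, hx⟩
      · rintro ⟨x, rfl⟩
        show mult χ (x • l₀) ≠ 0
        rw [mult_smul]
        exact hl₀'
    have hdorb : d = (MulAction.orbit (Nz B) l₀).ncard := by
      rw [← hSorb, Set.ncard_coe_finset, hdS]
    have hidx := MulAction.index_stabilizer (Nz B) l₀
    have hcardN : d * Nat.card B = Nat.card (Nz B) := by
      rw [hdorb, ← hidx, ← card_stab h l₀ hl₀1, mul_comm]
      exact Subgroup.card_mul_index _
    have hNdvd : Nat.card (Nz B) ∣ Nat.card G := Subgroup.card_subgroup_dvd_card _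
    rw [← hcardN, hk] at hNdvd
    have hBpos : 0 < Nat.card B := Nat.card_pos
    have hdk : d ∣ k := Nat.dvd_of_mul_dvd_mul_right hBpos hNdvd
    exact Nat.Coprime.coprime_dvd_left hdk hcop

/-- **The vanishing lemma.**  Let `G` be a non-abelian simple group with an exact factorisation
`|G| = |A||B|` into coprime parts, where every `u ∈ B#` has centralizer `B`.  Then an element `w ≠ 1`
with class size `|B|` lies in exactly one conjugate of `A`. -/
theorem fix_eq_one [IsSimpleGroup G] (hnab : ∃ a b : G, a * b ≠ b * a) (A B : Subgroup G)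
    (h : IsCB B) (hcop : Nat.Coprime (Nat.card A) (Nat.card B))
    (hcard : Nat.card A * Nat.card B = Nat.card G) (w : G) (hw1 : w ≠ 1)
    (hw : (Subgroup.centralizer ({w} : Set G)).index = Nat.card B) :
    Nat.card (MulAction.fixedBy (G ⧸ A) w) = 1 := by
  classical
  letI : Fintype B := Fintype.ofFinite _
  letI : Fintype (Nz B) := Fintype.ofFinite _
  letI : Fintype (G ⧸ A) := Fintype.ofFinite _
  have hcenter : Subgroup.center G = ⊥ := by
    refine (inferInstance : (Subgroup.center G).Normal).eq_bot_or_eq_top.resolve_right fun hc => ?_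
    obtain ⟨a, b, hab⟩ := hnab
    apply hab
    have : a ∈ Subgroup.center G := by rw [hc]; trivial
    exact (Subgroup.mem_center_iff.mp this b).symm
  set π : G → ℂ := PermChar.pc G (G ⧸ A) with hπ_def
  have hπc : IsCharacter G π := PermChar.isCharacter_pc
  have hπ0 : ∀ u : B, u ≠ 1 → π u = 0 := by
    intro u hu
    rw [hπ_def]
    show ((Nat.card (MulAction.fixedBy (G ⧸ A) (u : G)) : ℕ) : ℂ) = 0
    have : IsEmpty (MulAction.fixedBy (G ⧸ A) (u : G)) := by
      constructor
      rintro ⟨q, hq⟩
      obtain ⟨g, rfl⟩ := QuotientGroup.mk_surjective q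
      have h1 : (u : G) • ((g : G) : G ⧸ A) = ((g : G) : G ⧸ A) := hq
      have h2 : g⁻¹ * (u : G) * g ∈ A := by
        rw [MulAction.Quotient.smul_mk, smul_eq_mul] at h1
        have := QuotientGroup.eq.mp h1
        have e : ((u : G) * g)⁻¹ * g = g⁻¹ * (u : G)⁻¹ * g := by group
        rw [e] at this
        have h3 := A.inv_mem this
        have e2 : (g⁻¹ * (u : G)⁻¹ * g)⁻¹ = g⁻¹ * (u : G) * g := by group
        rwa [e2] at h3
      have h3 : orderOf (g⁻¹ * (u : G) * g) = orderOf (u : G) := by
        have e : g⁻¹ * (u : G) * g = MulAut.conj g⁻¹ (u : G) := by simp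
        rw [e]
        exact orderOf_injective (MulAut.conj g⁻¹).toMonoidHom (MulAut.conj g⁻¹).injective _
      have h4 : orderOf (u : G) ∣ Nat.card A := by
        rw [← h3]
        have := Subgroup.orderOf_dvd_natCard A h2
        exact this
      have h5 : orderOf (u : G) ∣ Nat.card B := Subgroup.orderOf_dvd_natCard B u.2
      have h6 : orderOf (u : G) = 1 := Nat.eq_one_of_dvd_coprimes hcop h4 h5
      exact hu (Subtype.ext (orderOf_eq_one_iff.mp h6))
    rw [Nat.card_of_isEmpty]
    simp
  have hπ1 : π 1 = (Nat.card B : ℂ) := by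
    rw [hπ_def]
    show ((Nat.card (MulAction.fixedBy (G ⧸ A) (1 : G)) : ℕ) : ℂ) = _
    congr 1
    have e1 : Nat.card (MulAction.fixedBy (G ⧸ A) (1 : G)) = Nat.card (G ⧸ A) := by
      rw [MulAction.fixedBy_one_eq_univ]
      exact Nat.card_congr (Equiv.Set.univ _)
    rw [e1]
    have e2 := Subgroup.card_mul_index A
    have hpos : 0 < Nat.card A := Nat.card_pos
    have e3 : A.index = Nat.card B := by
      apply Nat.eq_of_mul_eq_mul_left hpos
      rw [e2, hcard]
    exact e3
  have hinner : ∀ φ : IrrCharacter B, classInner (fun u : B => π u) φ.1 = 1 := by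
    intro φ
    unfold classInner
    rw [Finset.sum_eq_single (1 : B)]
    · have h2 : (φ : B → ℂ) 1 = 1 := CharCodegP.irr_one_of_comm h.comm φ.2
      have hB : (Nat.card B : ℂ) ≠ 0 := by exact_mod_cast Nat.card_pos.ne'
      simp only [Subgroup.coe_one, hπ1, h2, map_one, mul_one]
      field_simp
    · intro u _ hu
      show π u * _ = 0
      rw [hπ0 u hu, zero_mul]
    · intro hc
      exact absurd (Finset.mem_univ _) hc
  obtain ⟨M, hM⟩ := exists_nat_decomp hπc
  have hsum : ∀ φ : IrrCharacter B, ∑ i, M i * mult i φ = 1 := by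
    intro φ
    have h1 := hinner φ
    have h2 : (fun u : B => π u) = ∑ i : IrrCharacter G, M i • (fun u : B => (i : G → ℂ) u) := by
      funext u
      rw [hM]
      simp [Finset.sum_apply]
    rw [h2, classInner_sum_left] at h1
    have h3 : ∀ i : IrrCharacter G, classInner (M i • (fun u : B => (i : G → ℂ) u)) φ.1 =
        ((M i * mult i φ : ℕ) : ℂ) := by
      intro i
      rw [← Nat.cast_smul_eq_nsmul ℂ, classInner_smul_left, mult_spec]
      push_cast
      rfl
    simp only [h3] at h1
    exact_mod_cast h1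
  have hM1 : M ⟨fun _ => 1, isIrrCharacter_one⟩ = 1 := by
    have h1 := classInner_nat_decomp M (fun _ => 1) isIrrCharacter_one
    rw [← hM] at h1
    have h2 : classInner π (fun _ => 1) = Nat.card (MulAction.orbitRel.Quotient G (G ⧸ A)) :=
      PermChar.classInner_pc_one
    rw [h2] at h1
    have h3 : Nat.card (MulAction.orbitRel.Quotient G (G ⧸ A)) = 1 := by
      haveI : Subsingleton (MulAction.orbitRel.Quotient G (G ⧸ A)) :=
        (MulAction.pretransitive_iff_subsingleton_quotient G (G ⧸ A)).mp inferInstance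
      haveI : Nonempty (MulAction.orbitRel.Quotient G (G ⧸ A)) :=
        ⟨Quotient.mk _ ((1 : G) : G ⧸ A)⟩
      exact Nat.card_unique
    rw [h3] at h1
    have h4 : ((M ⟨fun _ => 1, isIrrCharacter_one⟩ : ℕ) : ℂ) = ((1 : ℕ) : ℂ) := by
      rw [← h1]
    exact_mod_cast h4
  have hvan : ∀ χ : IrrCharacter G, M χ ≠ 0 → χ.1 ≠ (fun _ => 1) → χ.1 w = 0 := by
    intro χ hχ hχ1
    obtain ⟨n, ρ, hρ, hρχ⟩ := χ.2
    have hdeg : (χ : G → ℂ) 1 = n := by
      rw [← hρχ, Representation.char_one]
      simp
    have hcd := deg_coprime h (Nat.card A) hcard.symm hcop M hsum (by rw [hM1]; exact one_ne_zero)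
      χ hχ hχ1 n hdeg
    have hcop' : Nat.Coprime (Module.finrank ℂ (Fin n → ℂ))
        (Subgroup.centralizer ({w} : Set G)).index := by
      rw [hw, Module.finrank_fin_fun]
      exact hcd
    have hB := character_eq_zero_or_norm_eq ρ hρ w hcop'
    rw [hρχ] at hB
    refine hB.elim id fun hB' => ?_
    exfalso
    rw [← hρχ] at hB'
    obtain ⟨ω, hω⟩ := (Cfsg.Agent.Lib.CharValues.norm_character_eq_iff ρ w).mp hB'
    have hker := BurnsidePQ.ker_eq_bot_of_simple ρ hρ (by rw [hρχ]; exact hχ1)
    have hinj : Function.Injective ρ := (MonoidHom.ker_eq_bot_iff ρ).mp hker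
    apply hw1
    have hgc : w ∈ Subgroup.center G := by
      rw [Subgroup.mem_center_iff]
      intro x
      apply hinj
      rw [map_mul, map_mul, hω]
      ext v
      simp
    rw [hcenter] at hgc
    exact hgc
  have hπw : π w = 1 := by
    rw [hM]
    simp only [Finset.sum_apply, nsmul_eq_mul, Pi.mul_apply, Pi.natCast_apply]
    rw [Finset.sum_eq_single (⟨fun _ => 1, isIrrCharacter_one⟩ : IrrCharacter G)]
    · rw [hM1]; simp
    · intro i _ hi
      by_cases hMi : M i = 0
      · rw [hMi]; simp
      · rw [hvan i hMi (fun hc => hi (Subtype.ext hc))]; simp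
    · intro hc
      exact absurd (Finset.mem_univ _) hc
  have : ((Nat.card (MulAction.fixedBy (G ⧸ A) w) : ℕ) : ℂ) = ((1 : ℕ) : ℂ) := by
    rw [Nat.cast_one, ← hπw]
  exact_mod_cast this

end TI

end Cfsg.Agent.Lib.ItoChar
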