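import Mathlib
import Cfsg.Agent.Lib.ItoChar
import Cfsg.Agent.Lib.CoprimeClass
import Cfsg.Agent.Lib.PResid
import Cfsg.Agent.Lib.FrobeniusThm

/-!
# Ito's conjugate rank three theorem: the case of a chain of centralizers

Let `G` be a non-abelian simple group with exactly three class sizes `ni, nj, nk` on non-identity
elements, where `ni ∣ nj`, `ni ≠ nj`.  We derive a contradiction.
-/

set_option autoImplicit false
set_option linter.unusedSectionVars false
set_option linter.style.haveILetI false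

namespace Cfsg.Agent.Lib.ItoChain

open Subgroup Cfsg Cfsg.Agent.Lib Cfsg.Agent.Lib.CoprimeClass
open scoped Pointwise

universe u

section Basic

variable {G : Type u} [Group G] [Finite G]

/-- Centralizer of an element. -/
abbrev cz (x : G) : Subgroup G := centralizer ({x} : Set G)

theorem cs_one' : cs (1 : G) = 1 := by
  rw [cs_eq_one_iff]
  exact one_mem _

theorem eq_of_le_of_cs {x y : G} (hle : cz x ≤ cz y) (h : cs x = cs y) : cz x = cz y := by
  have h1 := relIndex_mul_index hle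
  rw [show (cz x).index = cs x from rfl, h] at h1
  have hpos : 0 < cs y := Nat.pos_of_ne_zero index_ne_zero_of_finite
  have h2 : (cz x).relIndex (cz y) = 1 := by
    apply Nat.eq_of_mul_eq_mul_right hpos
    rw [one_mul]
    exact h1
  exact le_antisymm hle (relIndex_eq_one.1 h2)

/-- Each of two commuting elements of coprime orders is a power of the product. -/
theorem exists_zpow_mul {u y : G} (hcomm : u * y = y * u)
    (hc : Nat.Coprime (orderOf u) (orderOf y)) : ∃ k : ℤ, (u * y) ^ k = u := by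
  obtain ⟨a, b, hab⟩ : ∃ a b : ℤ, a * (orderOf u : ℕ) + b * (orderOf y : ℕ) = 1 :=
    Nat.isCoprime_iff_coprime.2 hc
  refine ⟨b * (orderOf y : ℕ), ?_⟩
  rw [(show Commute u y from hcomm).mul_zpow]
  have h1 : y ^ (b * ((orderOf y : ℕ) : ℤ)) = 1 := by
    rw [mul_comm, zpow_mul, zpow_natCast, pow_orderOf_eq_one, one_zpow]
  have h2 : u ^ (b * ((orderOf y : ℕ) : ℤ)) = u := by
    have h3 : b * ((orderOf y : ℕ) : ℤ) = 1 - a * ((orderOf u : ℕ) : ℤ) := by linarith
    rw [h3, zpow_sub, zpow_one, mul_comm a, zpow_mul, zpow_natCast, pow_orderOf_eq_one, one_zpow,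
      inv_one, mul_one]
  rw [h1, h2, mul_one]

theorem cz_le_zpow (x : G) (k : ℤ) : cz x ≤ cz (x ^ k) := by
  intro z hz
  rw [mem_cent] at hz ⊢
  have : Commute z x := hz
  exact (this.zpow_right k)

theorem cz_mul_le_left {u y : G} (hcomm : u * y = y * u)
    (hc : Nat.Coprime (orderOf u) (orderOf y)) : cz (u * y) ≤ cz u := by
  obtain ⟨k, hk⟩ := exists_zpow_mul hcomm hc
  have := cz_le_zpow (u * y) k
  rwa [hk] at this

theorem cz_mul_le_right {u y : G} (hcomm : u * y = y * u)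
    (hc : Nat.Coprime (orderOf u) (orderOf y)) : cz (u * y) ≤ cz y := by
  have h := cz_mul_le_left hcomm.symm hc.symm
  rwa [hcomm]

theorem mul_ne_one_of_coprime {u y : G} (hu : u ≠ 1) (hcomm : u * y = y * u)
    (hc : Nat.Coprime (orderOf u) (orderOf y)) : u * y ≠ 1 := by
  intro h
  obtain ⟨k, hk⟩ := exists_zpow_mul hcomm hc
  rw [h, one_zpow] at hk
  exact hu hk.symm

theorem cz_pow_le (x : G) (k : ℕ) : cz x ≤ cz (x ^ k) := cent_le_pow x k

theorem cs_conj' (g x : G) : cs (g⁻¹ * x * g) = cs x := by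
  have := cs_conj g⁻¹ x
  rwa [inv_inv] at this

theorem mem_cz_conj {g x z : G} : z ∈ cz (g * x * g⁻¹) ↔ g⁻¹ * z * g ∈ cz x := by
  rw [mem_cent, mem_cent]
  constructor
  · intro h
    calc g⁻¹ * z * g * x = g⁻¹ * (z * (g * x * g⁻¹)) * g := by group
      _ = g⁻¹ * ((g * x * g⁻¹) * z) * g := by rw [h]
      _ = x * (g⁻¹ * z * g) := by group
  · intro h
    calc z * (g * x * g⁻¹) = g * (g⁻¹ * z * g * x) * g⁻¹ := by group
      _ = g * (x * (g⁻¹ * z * g)) * g⁻¹ := by rw [h]
      _ = (g * x * g⁻¹) * z := by group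

theorem orderOf_conj (g x : G) : orderOf (g * x * g⁻¹) = orderOf x := by
  have e : g * x * g⁻¹ = MulAut.conj g x := by simp
  rw [e]
  exact orderOf_injective (MulAut.conj g).toMonoidHom (MulAut.conj g).injective _

/-- A prime-order power. -/
theorem exists_pow_prime {x : G} {r : ℕ} (hr : r ∣ orderOf x) :
    orderOf (x ^ (orderOf x / r)) = r :=
  orderOf_pow_orderOf_div (orderOf_pos x).ne' hr

/-- A non-identity `p`-subgroup contains a central element of order `p`. -/
theorem exists_central {r : ℕ} [Fact r.Prime] (P : Subgroup G) (hP : IsPGroup r P) (hne : P ≠ ⊥) :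
    ∃ z ∈ P, orderOf z = r ∧ P ≤ cz z := by
  haveI : Nontrivial P := (Subgroup.nontrivial_iff_ne_bot P).2 hne
  haveI := hP.center_nontrivial
  obtain ⟨z₀, hz₀⟩ := exists_ne (1 : center P)
  have hz₀' : ((z₀ : P) : G) ≠ 1 := by
    intro h
    apply hz₀
    exact Subtype.ext (Subtype.ext h)
  obtain ⟨k, hk⟩ := (IsPGroup.iff_orderOf.1 hP) (z₀ : P)
  have hord : orderOf ((z₀ : P) : G) = r ^ k := by
    rw [Subgroup.orderOf_coe, hk]
  have hk0 : k ≠ 0 := by
    rintro rfl
    rw [pow_zero, orderOf_eq_one_iff] at hord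
    exact hz₀' hord
  have hrd : r ∣ orderOf ((z₀ : P) : G) := by
    rw [hord]
    exact dvd_pow_self r hk0
  refine ⟨((z₀ : P) : G) ^ (orderOf ((z₀ : P) : G) / r), P.pow_mem (z₀ : P).2 _,
    exists_pow_prime hrd, ?_⟩
  intro u hu
  have h1 : (⟨u, hu⟩ : P) * (z₀ : P) = (z₀ : P) * ⟨u, hu⟩ :=
    (Subgroup.mem_center_iff.1 z₀.2 ⟨u, hu⟩)
  have h2 : u * ((z₀ : P) : G) = ((z₀ : P) : G) * u := congrArg Subtype.val h1
  refine cz_pow_le ((z₀ : P) : G) _ ?_
  exact mem_cent.2 h2

/-- A Sylow subgroup centralizing `z` shows that its class size is prime to `r`. -/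
theorem not_dvd_cs_of_sylow {r : ℕ} [Fact r.Prime] (R : Sylow r G) {z : G}
    (h : (R : Subgroup G) ≤ cz z) : ¬ r ∣ cs z := by
  intro hd
  exact R.not_dvd_index (hd.trans (index_dvd_of_le h))

/-- A Sylow subgroup lies in a conjugate of a centralizer of index prime to `r`. -/
theorem exists_conj_le {r : ℕ} [Fact r.Prime] (R : Sylow r G) (H : Subgroup G)
    (hH : ¬ r ∣ H.index) : ∃ g : G, ∀ u ∈ (R : Subgroup G), g⁻¹ * u * g ∈ H := by
  obtain ⟨q, hq⟩ := R.isPGroup'.nonempty_fixed_point_of_prime_not_dvd_card (G ⧸ H) (by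
    rw [← index_eq_card]; exact hH)
  induction q using QuotientGroup.induction_on with | _ g => ?_
  refine ⟨g, fun u hu => ?_⟩
  have h1 := hq ⟨u, hu⟩
  have h2 : ((u * g : G) : G ⧸ H) = (g : G ⧸ H) := by
    have : (u : G) • ((g : G) : G ⧸ H) = (g : G ⧸ H) := h1
    rwa [MulAction.Quotient.smul_coe, smul_eq_mul] at this
  have h3 := QuotientGroup.eq.1 h2.symm
  have h4 : g⁻¹ * (u * g) = g⁻¹ * u * g := by group
  rwa [h4] at h3

/-- A Sylow subgroup centralizes a conjugate of `x` when the class size is prime to `r`. -/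
theorem exists_conj_cz_le {r : ℕ} [Fact r.Prime] (R : Sylow r G) (x : G) (hH : ¬ r ∣ cs x) :
    ∃ g : G, (R : Subgroup G) ≤ cz (g * x * g⁻¹) := by
  obtain ⟨g, hg⟩ := exists_conj_le R (cz x) hH
  exact ⟨g, fun u hu => mem_cz_conj.2 (hg u hu)⟩

/-- In a simple group, a proper subgroup contains no full conjugacy class of a non-identity
element. -/
theorem eq_top_of_conj_mem [IsSimpleGroup G] (H : Subgroup G) {a : G} (ha : a ≠ 1)
    (h : ∀ g : G, g * a * g⁻¹ ∈ H) : H = ⊤ := by
  have hle : normalClosure ({a} : Set G) ≤ H := by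
    unfold normalClosure
    rw [closure_le]
    intro x hx
    rw [Group.mem_conjugatesOfSet_iff] at hx
    obtain ⟨y, hy, hxy⟩ := hx
    rw [Set.mem_singleton_iff] at hy
    subst hy
    obtain ⟨c, rfl⟩ := isConj_iff.1 hxy
    exact h c
  have hN : (normalClosure ({a} : Set G)).Normal := inferInstance
  rcases hN.eq_bot_or_eq_top with h0 | h0
  · exfalso
    apply ha
    have : a ∈ normalClosure ({a} : Set G) := subset_normalClosure rfl
    rw [h0] at this
    exact this
  · rw [h0] at hle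
    exact top_le_iff.1 hle

end Basic

section Hyp

variable {G : Type u} [Group G] [Finite G]

/-- The hypotheses of the chain case. -/
structure Hyp (G : Type u) [Group G] (ni nj nk : ℕ) : Prop where
  nab : ∃ a b : G, a * b ≠ b * a
  all : ∀ z : G, z ≠ 1 → cs z = ni ∨ cs z = nj ∨ cs z = nk
  dvd : ni ∣ nj
  hij : ni ≠ nj
  hki : nk ≠ ni
  hkj : nk ≠ nj
  exi : ∃ z : G, z ≠ 1 ∧ cs z = ni
  exj : ∃ z : G, z ≠ 1 ∧ cs z = nj
  exk : ∃ z : G, z ≠ 1 ∧ cs z = nk

variable [IsSimpleGroup G] {ni nj nk : ℕ}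

theorem center_bot {G : Type u} [Group G] [IsSimpleGroup G] (hnab : ∃ a b : G, a * b ≠ b * a) :
    center G = ⊥ := by
  refine (inferInstance : (center G).Normal).eq_bot_or_eq_top.resolve_right fun hc => ?_
  obtain ⟨a, b, hab⟩ := hnab
  apply hab
  have : a ∈ center G := by rw [hc]; trivial
  exact (mem_center_iff.mp this b).symm

theorem cs_ne_one (hnab : ∃ a b : G, a * b ≠ b * a) {z : G} (hz : z ≠ 1) : cs z ≠ 1 := by
  intro h
  rw [cs_eq_one_iff, center_bot hnab] at h
  exact hz h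

theorem not_prime_pow (hnab : ∃ a b : G, a * b ≠ b * a) {z : G} (hz : z ≠ 1) {p k : ℕ}
    (hp : p.Prime) : cs z ≠ p ^ k := by
  intro h
  have hprime := BurnsidePQ.prime_card_of_class_prime_pow p k hp z hz h
  haveI : Fact (Nat.card G).Prime := ⟨hprime⟩
  haveI := isCyclic_of_prime_card (α := G) rfl
  obtain ⟨a, b, hab⟩ := hnab
  exact hab ((IsCyclic.isMulCommutative (α := G)).is_comm.comm a b)

namespace Hyp

variable (H : Hyp G ni nj nk)
include H

theorem ni_ne_one : ni ≠ 1 := by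
  obtain ⟨z, hz, hzi⟩ := H.exi
  rw [← hzi]; exact cs_ne_one H.nab hz

theorem nj_ne_one : nj ≠ 1 := by
  obtain ⟨z, hz, hzi⟩ := H.exj
  rw [← hzi]; exact cs_ne_one H.nab hz

theorem nk_ne_one : nk ≠ 1 := by
  obtain ⟨z, hz, hzi⟩ := H.exk
  rw [← hzi]; exact cs_ne_one H.nab hz

theorem ne_one_i {a : G} (ha : cs a = ni) : a ≠ 1 := by
  rintro rfl
  rw [cs_one'] at ha
  exact H.ni_ne_one ha.symm

theorem ne_one_j {a : G} (ha : cs a = nj) : a ≠ 1 := by
  rintro rfl
  rw [cs_one'] at ha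
  exact H.nj_ne_one ha.symm

theorem ne_one_k {a : G} (ha : cs a = nk) : a ≠ 1 := by
  rintro rfl
  rw [cs_one'] at ha
  exact H.nk_ne_one ha.symm

/-- The indices `ni` and `nk` are coprime. -/
theorem coprime_ik : Nat.Coprime ni nk := by
  by_contra hc
  obtain ⟨r, hr, hri, hrk⟩ := Nat.Prime.not_coprime_iff_dvd.1 hc
  haveI : Fact r.Prime := ⟨hr⟩
  obtain ⟨z₀, hz₀, hz₀i⟩ := H.exi
  have hrG : r ∣ Nat.card G := by
    refine hri.trans ?_
    rw [← hz₀i]
    exact index_dvd_card _
  let R : Sylow r G := default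
  obtain ⟨z, hzR, hzo, hle⟩ := exists_central (R : Subgroup G) R.isPGroup'
    (R.ne_bot_of_dvd_card hrG)
  have hz1 : z ≠ 1 := by
    rintro rfl
    rw [orderOf_one] at hzo
    exact hr.one_lt.ne hzo
  have hnd := not_dvd_cs_of_sylow R hle
  rcases H.all z hz1 with h | h | h
  · exact hnd (h ▸ hri)
  · exact hnd (h ▸ hri.trans H.dvd)
  · exact hnd (h ▸ hrk)

/-- **L1** -/
theorem not_comm {a b : G} (ha : cs a = ni) (hb : cs b = nk) : a * b ≠ b * a := by
  intro hab
  have ha1 := H.ne_one_i ha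
  have hc : Nat.Coprime (cz b).index (cz a).index := by
    show Nat.Coprime (cs b) (cs a)
    rw [ha, hb]
    exact H.coprime_ik.symm
  have hab' : a ∈ cz b := mem_cent.2 hab
  have htop : cz b = ⊤ := by
    refine eq_top_of_conj_mem _ ha1 fun g => ?_
    obtain ⟨c, hc1, d, hd1, rfl⟩ := exists_mul_of_coprime (cz b) (cz a) hc g
    have h1 : d * a * d⁻¹ = a := by
      have := mem_cent.1 hd1
      rw [this]; group
    have h2 : c * d * a * (c * d)⁻¹ = c * (d * a * d⁻¹) * c⁻¹ := by group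
    rw [h2, h1]
    exact mul_mem (mul_mem hc1 hab') (inv_mem hc1)
  have : cs b = 1 := by
    show (cz b).index = 1
    rw [htop]
    exact index_top
  exact H.nk_ne_one (hb ▸ this)

/-- **M1** -/
theorem m1 {a u : G} (ha : cs a = ni) (hu : u ≠ 1) (hle : cz a ≤ cz u) : cz a = cz u := by
  have hd : cs u ∣ cs a := cs_dvd_of_le hle
  rw [ha] at hd
  refine eq_of_le_of_cs hle ?_
  rcases H.all u hu with h | h | h
  · rw [ha, h]
  · exfalso
    rw [h] at hd
    exact H.hij (Nat.dvd_antisymm H.dvd hd)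
  · exfalso
    rw [h] at hd
    have := Nat.Coprime.eq_one_of_dvd H.coprime_ik.symm hd
    exact H.nk_ne_one this

/-- **M2** -/
theorem m2 {a u : G} (ha : cs a = nk) (hu : u ≠ 1) (hle : cz a ≤ cz u) : cz a = cz u := by
  have hd : cs u ∣ cs a := cs_dvd_of_le hle
  rw [ha] at hd
  refine eq_of_le_of_cs hle ?_
  rcases H.all u hu with h | h | h
  · exfalso
    rw [h] at hd
    have := Nat.Coprime.eq_one_of_dvd H.coprime_ik hd
    exact H.ni_ne_one this
  · exfalso
    rw [h] at hd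
    have := Nat.Coprime.eq_one_of_dvd H.coprime_ik (H.dvd.trans hd)
    exact H.ni_ne_one this
  · rw [ha, h]

/-- **M3** -/
theorem m3 {x u : G} (hx : cs x = nj) (hu : u ≠ 1) (hle : cz u ≤ cz x) : cz u = cz x := by
  have hd : cs x ∣ cs u := cs_dvd_of_le hle
  rw [hx] at hd
  refine eq_of_le_of_cs hle ?_
  rcases H.all u hu with h | h | h
  · exfalso
    rw [h] at hd
    exact H.hij (Nat.dvd_antisymm H.dvd hd)
  · rw [hx, h]
  · exfalso
    rw [h] at hd
    have := Nat.Coprime.eq_one_of_dvd H.coprime_ik (H.dvd.trans hd)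
    exact H.ni_ne_one this

/-- **M3'** -/
theorem m3' {z a : G} (hz : cs z = nj) (ha : a ≠ 1) (hc : a * z = z * a)
    (hco : Nat.Coprime (orderOf a) (orderOf z)) : cz z ≤ cz a := by
  have h1 := H.m3 hz (mul_ne_one_of_coprime ha hc hco) (cz_mul_le_right hc hco)
  rw [← h1]
  exact cz_mul_le_left hc hco

theorem cs_pow_i {a : G} (ha : cs a = ni) {k : ℕ} (hk : a ^ k ≠ 1) : cs (a ^ k) = ni := by
  have := H.m1 ha hk (cz_pow_le a k)
  show (cz (a ^ k)).index = ni
  rw [← this]
  exact ha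

theorem cs_pow_k {a : G} (ha : cs a = nk) {k : ℕ} (hk : a ^ k ≠ 1) : cs (a ^ k) = nk := by
  have := H.m2 ha hk (cz_pow_le a k)
  show (cz (a ^ k)).index = nk
  rw [← this]
  exact ha

/-- **L3** -/
theorem l3 {a : G} (ha : cs a = ni) {r : ℕ} (hr : r.Prime) (hd : r ∣ orderOf a) : r ∣ nk := by
  by_contra hnd
  haveI : Fact r.Prime := ⟨hr⟩
  have ho := exists_pow_prime hd
  set a₀ := a ^ (orderOf a / r) with ha₀
  have ha₀1 : a₀ ≠ 1 := by
    intro h
    rw [h, orderOf_one] at ho
    exact hr.one_lt.ne ho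
  have hc := H.cs_pow_i ha ha₀1
  obtain ⟨b, hb, hbk⟩ := H.exk
  obtain ⟨g, hg⟩ := exists_conj_mem_of_not_dvd (p := r) (cz b) (by
    show ¬ r ∣ cs b
    rw [hbk]; exact hnd) (u := a₀) (k := 1) (by
    rw [pow_one, ← ho]; exact pow_orderOf_eq_one _)
  exact H.not_comm (a := g⁻¹ * a₀ * g) (by rw [cs_conj', hc]) hbk (mem_cent.1 hg)

/-- **L3'** -/
theorem l3' {b : G} (hb : cs b = nk) {r : ℕ} (hr : r.Prime) (hd : r ∣ orderOf b) : r ∣ ni := by
  by_contra hnd
  haveI : Fact r.Prime := ⟨hr⟩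
  have ho := exists_pow_prime hd
  set b₀ := b ^ (orderOf b / r) with hb₀
  have hb₀1 : b₀ ≠ 1 := by
    intro h
    rw [h, orderOf_one] at ho
    exact hr.one_lt.ne ho
  have hc := H.cs_pow_k hb hb₀1
  obtain ⟨a, ha, hai⟩ := H.exi
  obtain ⟨g, hg⟩ := exists_conj_mem_of_not_dvd (p := r) (cz a) (by
    show ¬ r ∣ cs a
    rw [hai]; exact hnd) (u := b₀) (k := 1) (by
    rw [pow_one, ← ho]; exact pow_orderOf_eq_one _)
  exact H.not_comm (b := g⁻¹ * b₀ * g) hai (by rw [cs_conj', hc]) (mem_cent.1 hg).symm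

/-- **L4** -/
theorem l4 {r : ℕ} (hr : r.Prime) (hd : r ∣ Nat.card G) : r ∣ ni ∨ r ∣ nk := by
  by_contra hcon
  push Not at hcon
  obtain ⟨hri, hrk⟩ := hcon
  haveI : Fact r.Prime := ⟨hr⟩
  let R : Sylow r G := default
  obtain ⟨z, hzR, hzo, hle⟩ := exists_central (R : Subgroup G) R.isPGroup'
    (R.ne_bot_of_dvd_card hd)
  have hz1 : z ≠ 1 := by
    rintro rfl
    rw [orderOf_one] at hzo
    exact hr.one_lt.ne hzo
  obtain ⟨a₀, ha₀, ha₀i⟩ := H.exi
  obtain ⟨b₀, hb₀, hb₀k⟩ := H.exk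
  obtain ⟨g, hg⟩ := exists_conj_cz_le R a₀ (by rw [ha₀i]; exact hri)
  obtain ⟨g', hg'⟩ := exists_conj_cz_le R b₀ (by rw [hb₀k]; exact hrk)
  set a' := g * a₀ * g⁻¹ with ha'
  set b' := g' * b₀ * g'⁻¹ with hb'
  have hai : cs a' = ni := by rw [ha', cs_conj, ha₀i]
  have hbk : cs b' = nk := by rw [hb', cs_conj, hb₀k]
  have hza : z * a' = a' * z := mem_cent.1 (hg hzR)
  have hzb : z * b' = b' * z := mem_cent.1 (hg' hzR)
  have hzj : cs z = nj := by
    rcases H.all z hz1 with h | h | h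
    · exact absurd hzb (H.not_comm h hbk)
    · exact h
    · exact absurd hza.symm (H.not_comm hai h)
  have hco1 : Nat.Coprime (orderOf a') (orderOf z) := by
    rw [hzo, Nat.coprime_comm, Nat.Prime.coprime_iff_not_dvd hr]
    intro h
    exact hrk (H.l3 hai hr h)
  have hco2 : Nat.Coprime (orderOf b') (orderOf z) := by
    rw [hzo, Nat.coprime_comm, Nat.Prime.coprime_iff_not_dvd hr]
    intro h
    exact hri (H.l3' hbk hr h)
  have h1 := H.m3' hzj (H.ne_one_i hai) hza.symm hco1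
  have h2 := H.m3' hzj (H.ne_one_k hbk) hzb.symm hco2
  have h3 : a' ∈ cz z := mem_cent.2 hza.symm
  exact H.not_comm hai hbk (mem_cent.1 (h2 h3))

/-- **L5** -/
theorem l5 {r : ℕ} [Fact r.Prime] (hd : r ∣ ni) (R : Sylow r G) {z : G} (hz : z ≠ 1)
    (hle : (R : Subgroup G) ≤ cz z) : cs z = nk := by
  have hnd := not_dvd_cs_of_sylow R hle
  rcases H.all z hz with h | h | h
  · exact absurd (h ▸ hd) hnd
  · exact absurd (h ▸ hd.trans H.dvd) hnd
  · exact h

/-- **L6** -/
theorem l6 {a : G} (ha : cs a = ni) {r : ℕ} (hr : r.Prime) (hd : r ∣ ni) :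
    ¬ r ∣ Nat.card (cz a) := by
  intro hdc
  haveI : Fact r.Prime := ⟨hr⟩
  obtain ⟨w', hw'⟩ := exists_prime_orderOf_dvd_card' (G := cz a) r hdc
  set w : G := (w' : G) with hw
  have hwo : orderOf w = r := by rw [hw, Subgroup.orderOf_coe, hw']
  have hw1 : w ≠ 1 := by
    intro h
    rw [h, orderOf_one] at hwo
    exact hr.one_lt.ne hwo
  have hwa : w * a = a * w := mem_cent.1 w'.2
  have hcoprime := H.coprime_ik
  have hrk : ¬ r ∣ nk := fun h => (Nat.Prime.not_coprime_iff_dvd.2 ⟨r, hr, hd, h⟩) hcoprime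
  have hwj : cs w = nj := by
    rcases H.all w hw1 with h | h | h
    · exact absurd (H.l3 h hr (by rw [hwo])) hrk
    · exact h
    · exact absurd hwa.symm (H.not_comm ha h)
  have hco : Nat.Coprime (orderOf a) (orderOf w) := by
    rw [hwo, Nat.coprime_comm, Nat.Prime.coprime_iff_not_dvd hr]
    intro h
    exact hrk (H.l3 ha hr h)
  have hle := H.m3' hwj (H.ne_one_i ha) hwa.symm hco
  -- a Sylow subgroup through `w`
  have hP : IsPGroup r (zpowers w) := by
    rw [IsPGroup.iff_card, Nat.card_zpowers, hwo]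
    exact ⟨1, (pow_one r).symm⟩
  obtain ⟨R, hR⟩ := hP.exists_le_sylow
  have hrG : r ∣ Nat.card G := by
    refine hd.trans ?_
    rw [← ha]
    exact index_dvd_card _
  obtain ⟨z, hzR, hzo, hzle⟩ := exists_central (R : Subgroup G) R.isPGroup'
    (R.ne_bot_of_dvd_card hrG)
  have hz1 : z ≠ 1 := by
    rintro rfl
    rw [orderOf_one] at hzo
    exact hr.one_lt.ne hzo
  have hzk := H.l5 hd R hz1 hzle
  have hwR : w ∈ (R : Subgroup G) := hR (mem_zpowers w)
  have hzw : w * z = z * w := mem_cent.1 (hzle hwR)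
  have hz2 : z ∈ cz w := mem_cent.2 hzw.symm
  have hz3 : z ∈ cz a := hle hz2
  exact H.not_comm ha hzk (mem_cent.1 hz3).symm

theorem card_cz_mul (x : G) : cs x * Nat.card (cz x) = Nat.card G :=
  index_mul_card _

theorem swap (hd : nk ∣ nj) : Hyp G nk nj ni :=
  { nab := H.nab
    all := fun z hz => by
      rcases H.all z hz with h | h | h
      · exact Or.inr (Or.inr h)
      · exact Or.inr (Or.inl h)
      · exact Or.inl h
    dvd := hd
    hij := H.hkj
    hki := H.hki.symm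
    hkj := H.hij
    exi := H.exk
    exj := H.exj
    exk := H.exi }

/-- **L7** -/
theorem l7 {b x : G} (hb : cs b = nk) (hx : x ≠ 1) (hle : cz x ≤ cz b) : cz x = cz b := by
  have hd : cs b ∣ cs x := cs_dvd_of_le hle
  rw [hb] at hd
  refine eq_of_le_of_cs hle ?_
  rcases H.all x hx with h | h | h
  · exfalso
    rw [h] at hd
    have := Nat.Coprime.eq_one_of_dvd H.coprime_ik.symm hd
    exact H.nk_ne_one this
  · exfalso
    rw [h] at hd
    have H' := H.swap hd
    -- a prime dividing the order of the centralizer of `x`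
    have hxo : orderOf x ≠ 1 := fun h1 => hx (orderOf_eq_one_iff.1 h1)
    obtain ⟨p, hp, hpd⟩ := Nat.exists_prime_and_dvd hxo
    have hpx : p ∣ Nat.card (cz x) := by
      refine hpd.trans ?_
      have : x ∈ cz x := mem_cent.2 rfl
      exact Subgroup.orderOf_dvd_natCard _ this
    have hpb : p ∣ Nat.card (cz b) := hpx.trans (Subgroup.card_dvd_of_le hle)
    have hpk : ¬ p ∣ nk := fun h2 => H'.l6 hb hp h2 hpb
    obtain ⟨a, ha1, hai⟩ := H.exi
    have hpa : p ∣ Nat.card (cz a) := by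
      refine hpx.trans ?_
      obtain ⟨t, ht⟩ := H.dvd
      have e1 := card_cz_mul (G := G) H x
      have e2 := card_cz_mul (G := G) H a
      rw [h, ht] at e1
      rw [hai] at e2
      have hnipos : 0 < ni := Nat.pos_of_ne_zero (by
        rw [← hai]; exact index_ne_zero_of_finite)
      have e3 : Nat.card (cz a) = t * Nat.card (cz x) := by
        apply Nat.eq_of_mul_eq_mul_left hnipos
        rw [e2, ← e1]
        ring
      rw [e3]
      exact Dvd.intro_left _ rfl
    have hpi : ¬ p ∣ ni := fun h2 => H.l6 hai hp h2 hpa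
    have hpG : p ∣ Nat.card G := hpa.trans (Subgroup.card_subgroup_dvd_card _)
    rcases H.l4 hp hpG with h3 | h3
    · exact hpi h3
    · exact hpk h3
  · rw [hb, h]

theorem central_of_base {b y : G} (hb : cs b = nk) (hy : y ∈ cz b)
    (hco : Nat.Coprime (orderOf b) (orderOf y)) : cz b ≤ cz y := by
  have hc : b * y = y * b := (mem_cent.1 hy).symm
  have h1 : cz (b * y) = cz b :=
    H.l7 hb (mul_ne_one_of_coprime (H.ne_one_k hb) hc hco) (cz_mul_le_left hc hco)
  rw [← h1]
  exact cz_mul_le_right hc hco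

/-- Structure of the centralizer of an element with class size `nk`. -/
theorem exists_B : ∃ B : Subgroup G, ItoChar.IsCB B ∧ B.index = nk ∧ Nat.card B = ni ∧
    ∀ a : G, cs a = ni → Nat.card (cz a) = nk := by
  obtain ⟨b₁, hb₁, hb₁k⟩ := H.exk
  have hb₁o : orderOf b₁ ≠ 1 := fun h1 => hb₁ (orderOf_eq_one_iff.1 h1)
  obtain ⟨q, hq, hqd⟩ := Nat.exists_prime_and_dvd hb₁o
  have hbo := exists_pow_prime hqd
  set b := b₁ ^ (orderOf b₁ / q) with hb_def
  have hb1 : b ≠ 1 := by
    intro h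
    rw [h, orderOf_one] at hbo
    exact hq.one_lt.ne hbo
  have hbk : cs b = nk := H.cs_pow_k hb₁k hb1
  -- `ni` is not a power of `q`
  obtain ⟨a₀, ha₀, ha₀i⟩ := H.exi
  have hni0 : ni ≠ 0 := by rw [← ha₀i]; exact index_ne_zero_of_finite
  obtain ⟨r, hr, hrq, hri⟩ : ∃ r : ℕ, r.Prime ∧ r ≠ q ∧ r ∣ ni := by
    by_contra hcon
    push Not at hcon
    have h1 : ∀ {d : ℕ}, d.Prime → d ∣ ni → d = q := by
      intro d hd hdn
      by_contra hne
      exact hcon d hd hne hdn
    have h2 := Nat.eq_prime_pow_of_unique_prime_dvd hni0 h1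
    exact not_prime_pow H.nab ha₀ hq (ha₀i.trans h2)
  haveI : Fact r.Prime := ⟨hr⟩
  haveI : Fact q.Prime := ⟨hq⟩
  have hGi := card_cz_mul (G := G) H a₀
  have hGk := card_cz_mul (G := G) H b
  rw [ha₀i] at hGi
  rw [hbk] at hGk
  have hniB : ni ∣ Nat.card (cz b) := by
    have h1 : ni ∣ nk * Nat.card (cz b) := by
      rw [hGk, ← hGi]
      exact Dvd.intro _ rfl
    exact H.coprime_ik.dvd_of_dvd_mul_left h1
  -- an element of order `r`
  obtain ⟨y', hy'⟩ := exists_prime_orderOf_dvd_card' (G := cz b) r (hri.trans hniB)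
  set y : G := (y' : G) with hy_def
  have hyo : orderOf y = r := by rw [hy_def, Subgroup.orderOf_coe, hy']
  have hy1 : y ≠ 1 := by
    intro h
    rw [h, orderOf_one] at hyo
    exact hr.one_lt.ne hyo
  have hcoprq : Nat.Coprime q r := (Nat.coprime_primes hq hr).2 hrq.symm
  have hle1 : cz b ≤ cz y := H.central_of_base hbk y'.2 (by rw [hbo, hyo]; exact hcoprq)
  have heq1 : cz b = cz y := H.m2 hbk hy1 hle1
  have hyk : cs y = nk := by
    show (cz y).index = nk
    rw [← heq1]
    exact hbk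
  -- `B` is abelian
  have hcent : ∀ v ∈ cz b, cz b ≤ cz v := by
    intro v hv
    obtain ⟨v₁, v₂, hvv, hcomm, ⟨n, hn⟩, hco, hm1, hm2⟩ :=
      PResid.exists_decomp (p := q) v
    have hv₁ : v₁ ∈ cz b := (zpowers_le.2 hv) hm1
    have hv₂ : v₂ ∈ cz b := (zpowers_le.2 hv) hm2
    have h1 : cz b ≤ cz v₂ := H.central_of_base hbk hv₂ (by rw [hbo]; exact hco.symm)
    have h2 : cz b ≤ cz v₁ := by
      rw [heq1]
      refine H.central_of_base hyk (by rw [← heq1]; exact hv₁) ?_
      rw [hyo]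
      have h3 : orderOf v₁ ∣ q ^ n := orderOf_dvd_of_pow_eq_one hn
      exact Nat.Coprime.coprime_dvd_right h3 (Nat.Coprime.pow_right n hcoprq.symm)
    intro u hu
    rw [hvv]
    rw [mem_cent]
    have e1 : u * v₁ = v₁ * u := mem_cent.1 (h2 hu)
    have e2 : u * v₂ = v₂ * u := mem_cent.1 (h1 hu)
    rw [← mul_assoc, e1, mul_assoc, e2, mul_assoc]
  have hCB : ItoChar.IsCB (cz b) := by
    intro u hu hu1
    exact (H.m2 hbk hu1 (hcent u hu)).symm
  have hB_primes : ∀ s : ℕ, s.Prime → s ∣ Nat.card (cz b) → s ∣ ni := by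
    intro s hs hsd
    haveI : Fact s.Prime := ⟨hs⟩
    obtain ⟨u', hu'⟩ := exists_prime_orderOf_dvd_card' (G := cz b) s hsd
    have huo : orderOf (u' : G) = s := by rw [Subgroup.orderOf_coe, hu']
    have hu1 : (u' : G) ≠ 1 := by
      intro h
      rw [h, orderOf_one] at huo
      exact hs.one_lt.ne huo
    have huk : cs (u' : G) = nk := by
      have h9 : centralizer ({(u' : G)} : Set G) = cz b := hCB _ u'.2 hu1
      show (centralizer ({(u' : G)} : Set G)).index = nk
      rw [h9]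
      exact hbk
    exact H.l3' huk hs (by rw [huo])
  obtain ⟨t, ht⟩ := hniB
  have hcza : Nat.card (cz a₀) = nk * t := by
    apply Nat.eq_of_mul_eq_mul_left (Nat.pos_of_ne_zero hni0)
    rw [hGi, ← hGk, ht]
    ring
  have ht1 : t = 1 := by
    by_contra ht1
    obtain ⟨s, hs, hst⟩ := Nat.exists_prime_and_dvd ht1
    have h1 : s ∣ ni := hB_primes s hs (by rw [ht]; exact Dvd.dvd.mul_left hst _)
    exact H.l6 ha₀i hs h1 (by rw [hcza]; exact Dvd.dvd.mul_left hst _)
  subst ht1
  rw [mul_one] at ht hcza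
  refine ⟨cz b, hCB, hbk, ht, ?_⟩
  intro a ha
  have e := card_cz_mul (G := G) H a
  rw [ha, ← hGi, hcza] at e
  exact Nat.eq_of_mul_eq_mul_left (Nat.pos_of_ne_zero hni0) e

/-- Consequence of the character lemma: no two distinct conjugates of `a` commute with a `w` of
the same class size. -/
theorem uniq {B : Subgroup G} (hCB : ItoChar.IsCB B) (hB : Nat.card B = ni)
    (hA : ∀ a : G, cs a = ni → Nat.card (cz a) = nk) {a w g : G} (ha : cs a = ni)
    (hw : cs w = ni) (hwa : w ∈ cz a) (hwg : w ∈ cz (g * a * g⁻¹)) : g * a * g⁻¹ = a := by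
  classical
  letI : Fintype G := Fintype.ofFinite G
  have hfix := ItoChar.fix_eq_one H.nab (cz a) B hCB
    (by rw [hA a ha, hB]; exact H.coprime_ik.symm)
    (by
      have e := card_cz_mul (G := G) H a
      rw [ha, hA a ha] at e
      rw [hA a ha, hB, ← e, mul_comm])
    w (H.ne_one_i hw) (by rw [hB]; exact hw)
  have hg2 : g⁻¹ * w * g ∈ cz a := mem_cz_conj.1 hwg
  have hq0 : (((1 : G) : G ⧸ cz a)) ∈ MulAction.fixedBy (G ⧸ cz a) w := by
    rw [MulAction.mem_fixedBy, MulAction.Quotient.smul_coe, smul_eq_mul, mul_one]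
    rw [QuotientGroup.eq]
    simpa using inv_mem hwa
  have hq1 : (((g : G) : G ⧸ cz a)) ∈ MulAction.fixedBy (G ⧸ cz a) w := by
    rw [MulAction.mem_fixedBy, MulAction.Quotient.smul_coe, smul_eq_mul]
    rw [QuotientGroup.eq]
    have : (w * g)⁻¹ * g = (g⁻¹ * w * g)⁻¹ := by group
    rw [this]
    exact inv_mem hg2
  obtain ⟨_, hun⟩ := (Nat.card_eq_one_iff_unique.1 hfix)
  have h1 : (⟨_, hq0⟩ : MulAction.fixedBy (G ⧸ cz a) w) = ⟨_, hq1⟩ := Subsingleton.elim _ _
  have h2 : ((1 : G) : G ⧸ cz a) = ((g : G) : G ⧸ cz a) := congrArg Subtype.val h1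
  have h3 := QuotientGroup.eq.1 h2
  have h4 : g ∈ cz a := by simpa using h3
  have h5 := mem_cent.1 h4
  rw [h5]
  group

/-- **The chain case is impossible.** -/
theorem false_of_hyp : False := by
  classical
  obtain ⟨B, hCB, hBi, hBc, hA⟩ := H.exists_B
  have hun : ∀ {a w g : G}, cs a = ni → cs w = ni → w ∈ cz a → w ∈ cz (g * a * g⁻¹) →
      g * a * g⁻¹ = a := fun ha hw hwa hwg => H.uniq hCB hBc hA ha hw hwa hwg
  -- a prime order element with class size `ni`
  obtain ⟨a₁, ha₁, ha₁i⟩ := H.exi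
  have ha₁o : orderOf a₁ ≠ 1 := fun h1 => ha₁ (orderOf_eq_one_iff.1 h1)
  obtain ⟨p, hp, hpd⟩ := Nat.exists_prime_and_dvd ha₁o
  have ha₀o := exists_pow_prime hpd
  set a₀ := a₁ ^ (orderOf a₁ / p) with ha₀_def
  have ha₀1 : a₀ ≠ 1 := by
    intro h
    rw [h, orderOf_one] at ha₀o
    exact hp.one_lt.ne ha₀o
  have ha₀i : cs a₀ = ni := H.cs_pow_i ha₁i ha₀1
  haveI : Fact p.Prime := ⟨hp⟩
  -- a second prime dividing `nk`
  obtain ⟨b₀, hb₀, hb₀k⟩ := H.exk
  have hnk0 : nk ≠ 0 := by rw [← hb₀k]; exact index_ne_zero_of_finite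
  obtain ⟨s, hs, hsp, hsk⟩ : ∃ s : ℕ, s.Prime ∧ s ≠ p ∧ s ∣ nk := by
    by_contra hcon
    push Not at hcon
    have h1 : ∀ {d : ℕ}, d.Prime → d ∣ nk → d = p := by
      intro d hd hdn
      by_contra hne
      exact hcon d hd hne hdn
    have h2 := Nat.eq_prime_pow_of_unique_prime_dvd hnk0 h1
    exact not_prime_pow H.nab hb₀ hp (hb₀k.trans h2)
  haveI : Fact s.Prime := ⟨hs⟩
  have hsi : ¬ s ∣ ni := fun h => (Nat.Prime.not_coprime_iff_dvd.2 ⟨s, hs, h, hsk⟩) H.coprime_ik
  have hsG : s ∣ Nat.card G := by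
    refine hsk.trans ?_
    rw [← hb₀k]
    exact index_dvd_card _
  -- a Sylow subgroup and a conjugate of `a₀` centralizing it
  let R : Sylow s G := default
  obtain ⟨g₀, hg₀⟩ := exists_conj_cz_le R a₀ (by rw [ha₀i]; exact hsi)
  set a := g₀ * a₀ * g₀⁻¹ with ha_def
  have hai : cs a = ni := by rw [ha_def, cs_conj, ha₀i]
  have hao : orderOf a = p := by rw [ha_def, orderOf_conj, ha₀o]
  have ha1 : a ≠ 1 := H.ne_one_i hai
  have hconj_o : ∀ g : G, orderOf (g * a * g⁻¹) = p := fun g => by rw [orderOf_conj, hao]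
  have hconj_i : ∀ g : G, cs (g * a * g⁻¹) = ni := fun g => by rw [cs_conj, hai]
  -- D1
  have hD1 : ∀ (y g : G), y ∈ cz a → y ∈ cz (g * a * g⁻¹) → g * a * g⁻¹ ≠ a →
      ∀ t : ℕ, t.Prime → t ∣ orderOf y → t = p := by
    intro y g hya hyg hne t ht htd
    by_contra htp
    have hy₀o := exists_pow_prime htd
    set y₀ := y ^ (orderOf y / t) with hy₀_def
    have hy₀1 : y₀ ≠ 1 := by
      intro h
      rw [h, orderOf_one] at hy₀o
      exact ht.one_lt.ne hy₀o
    have hy₀a : y₀ ∈ cz a := pow_mem hya _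
    have hy₀g : y₀ ∈ cz (g * a * g⁻¹) := pow_mem hyg _
    have hy₀j : cs y₀ = nj := by
      rcases H.all y₀ hy₀1 with h | h | h
      · exact absurd (hun hai h hy₀a hy₀g) hne
      · exact h
      · exact absurd (mem_cent.1 hy₀a).symm (H.not_comm hai h)
    have hcop : Nat.Coprime p t := (Nat.coprime_primes hp ht).2 (Ne.symm htp)
    have h1 : cz y₀ ≤ cz a := H.m3' hy₀j ha1 (mem_cent.1 hy₀a).symm (by rw [hao, hy₀o]; exact hcop)
    have h2 : cz y₀ ≤ cz (g * a * g⁻¹) := H.m3' hy₀j (H.ne_one_i (hconj_i g))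
      (mem_cent.1 hy₀g).symm (by rw [hconj_o, hy₀o]; exact hcop)
    have h3 : a ∈ cz y₀ := mem_cent.2 (mem_cent.1 hy₀a).symm
    have h4 : a ∈ cz (g * a * g⁻¹) := h2 h3
    exact hne (hun hai hai (mem_cent.2 rfl) h4)
  -- D2: `cz a` is not a Frobenius complement
  have hAtop : cz a ≠ ⊤ := by
    intro h
    have : cs a = 1 := by
      show (cz a).index = 1
      rw [h]
      exact index_top
    exact cs_ne_one H.nab ha1 this
  have hAbot : cz a ≠ ⊥ := by
    intro h
    have : a ∈ cz a := mem_cent.2 rfl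
    rw [h] at this
    exact ha1 this
  obtain ⟨g, hgA, y, hy1, hya, hyg⟩ : ∃ g : G, g ∉ cz a ∧ ∃ y : G, y ≠ 1 ∧ y ∈ cz a ∧
      y ∈ cz (g * a * g⁻¹) := by
    by_contra hcon
    push Not at hcon
    have hF : IsFrobeniusComplement (cz a) := by
      refine ⟨hAbot, hAtop, fun g hg => ?_⟩
      rw [eq_bot_iff]
      intro y hy
      obtain ⟨hy1, hy2⟩ := mem_inf.1 hy
      by_contra hy0
      refine hcon g hg y hy0 hy1 (mem_cz_conj.2 ?_)
      have h3 := (Subgroup.mem_pointwise_smul_iff_inv_smul_mem).1 hy2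
      simpa using h3
    obtain ⟨N, -, hNn, hNc⟩ := FrobeniusThm.exists_kernel_subgroup (G := G) hF
    have hcard := hNc.card_mul_card
    rcases hNn.eq_bot_or_eq_top with h0 | h0
    · rw [h0] at hcard
      simp only [Subgroup.card_bot, one_mul] at hcard
      apply hAtop
      exact Subgroup.eq_top_of_card_eq _ hcard
    · rw [h0] at hcard
      simp only [Subgroup.card_top] at hcard
      have hpos : 0 < Nat.card G := Nat.card_pos
      have h1 : Nat.card (cz a) = 1 := by
        apply Nat.eq_of_mul_eq_mul_left hpos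
        rw [hcard, mul_one]
      apply hAbot
      exact Subgroup.eq_bot_of_card_eq _ h1
  have hne : g * a * g⁻¹ ≠ a := by
    intro h
    apply hgA
    rw [mem_cent]
    calc g * a = (g * a * g⁻¹) * g := by group
      _ = a * g := by rw [h]
  have hyo : orderOf y ≠ 1 := fun h1 => hy1 (orderOf_eq_one_iff.1 h1)
  obtain ⟨t, ht, htd⟩ := Nat.exists_prime_and_dvd hyo
  have htp := hD1 y g hya hyg hne t ht htd
  subst htp
  have hwo := exists_pow_prime htd
  set w := y ^ (orderOf y / t) with hw_def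
  have hw1 : w ≠ 1 := by
    intro h
    rw [h, orderOf_one] at hwo
    exact ht.one_lt.ne hwo
  have hwa : w ∈ cz a := pow_mem hya _
  have hwg : w ∈ cz (g * a * g⁻¹) := pow_mem hyg _
  have hwj : cs w = nj := by
    rcases H.all w hw1 with h | h | h
    · exact absurd (hun hai h hwa hwg) hne
    · exact h
    · exact absurd (mem_cent.1 hwa).symm (H.not_comm hai h)
  -- D3
  have hD3 : ∀ r : ℕ, r.Prime → r ∣ Nat.card (cz w) → r = t := by
    intro r hr hrd
    by_contra hrt
    haveI : Fact r.Prime := ⟨hr⟩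
    obtain ⟨v', hv'⟩ := exists_prime_orderOf_dvd_card' (G := cz w) r hrd
    have hvo : orderOf (v' : G) = r := by rw [Subgroup.orderOf_coe, hv']
    have hv1 : (v' : G) ≠ 1 := by
      intro h
      rw [h, orderOf_one] at hvo
      exact hr.one_lt.ne hvo
    have hle : cz w ≤ cz (v' : G) := H.m3' hwj hv1 (mem_cent.1 v'.2)
      (by rw [hvo, hwo]; exact (Nat.coprime_primes hr ht).2 hrt)
    have h1 : a ∈ cz (v' : G) := hle (mem_cent.2 (mem_cent.1 hwa).symm)
    have h2 : g * a * g⁻¹ ∈ cz (v' : G) := hle (mem_cent.2 (mem_cent.1 hwg).symm)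
    have h3 : (v' : G) ∈ cz a := mem_cent.2 (mem_cent.1 h1).symm
    have h4 : (v' : G) ∈ cz (g * a * g⁻¹) := mem_cent.2 (mem_cent.1 h2).symm
    exact hrt (hD1 _ g h3 h4 hne r hr (by rw [hvo]))
  -- D4
  have hRcz : ∀ y ∈ (R : Subgroup G), y ≠ 1 → cz y = cz a := by
    intro y hyR hy1
    obtain ⟨k, hk⟩ := (IsPGroup.iff_orderOf.1 R.isPGroup') ⟨y, hyR⟩
    have hord : orderOf y = s ^ k := by
      rw [← hk, Subgroup.orderOf_mk]
    have hk0 : k ≠ 0 := by
      rintro rfl
      rw [pow_zero, orderOf_eq_one_iff] at hord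
      exact hy1 hord
    have hsd : s ∣ orderOf y := by
      rw [hord]
      exact dvd_pow_self s hk0
    have hya : y ∈ cz a := hg₀ hyR
    have hi : ∀ g : G, y ∈ cz (g * a * g⁻¹) → g * a * g⁻¹ = a := by
      intro g hyg
      by_contra hne
      exact hsp (hD1 y g hya hyg hne s hs hsd)
    have hle : cz y ≤ cz a := by
      intro z hz
      have h1 : y ∈ cz (z * a * z⁻¹) := by
        rw [mem_cz_conj]
        have : z⁻¹ * y * z = y := by
          have := mem_cent.1 hz
          calc z⁻¹ * y * z = z⁻¹ * (y * z) := by group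
            _ = z⁻¹ * (z * y) := by rw [this]
            _ = y := by group
        rw [this]
        exact hya
      have h2 := hi z h1
      rw [mem_cent]
      calc z * a = (z * a * z⁻¹) * z := by group
        _ = a * z := by rw [h2]
    have hyi : cs y = ni := by
      rcases H.all y hy1 with h | h | h
      · exact h
      · exfalso
        have h1 : Nat.card (cz y) = Nat.card (cz w) := by
          have e1 := card_cz_mul (G := G) H y
          have e2 := card_cz_mul (G := G) H w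
          rw [h] at e1
          rw [hwj, ← e1] at e2
          have hpos : 0 < nj := Nat.pos_of_ne_zero (by rw [← h]; exact index_ne_zero_of_finite)
          exact (Nat.eq_of_mul_eq_mul_left hpos e2).symm
        have h2 : s ∣ Nat.card (cz w) := by
          rw [← h1]
          refine hsd.trans ?_
          exact Subgroup.orderOf_dvd_natCard _ (mem_cent.2 rfl)
        exact hsp ((hD3 s hs h2).trans rfl)
      · exact absurd (mem_cent.1 hya).symm (H.not_comm hai h)
    exact eq_of_le_of_cs hle (by rw [hyi, hai])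
  -- D5: Burnside's transfer theorem
  have hRbot : (R : Subgroup G) ≠ ⊥ := R.ne_bot_of_dvd_card hsG
  have hN : normalizer ((R : Subgroup G) : Set G) ≤ centralizer ((R : Subgroup G) : Set G) := by
    intro g hg
    obtain ⟨y, hyR, hy1⟩ := (Subgroup.bot_or_exists_ne_one (R : Subgroup G)).resolve_left hRbot
    have hgy : g * y * g⁻¹ ∈ (R : Subgroup G) := (Subgroup.mem_normalizer_iff.1 hg y).1 hyR
    have hgy1 : g * y * g⁻¹ ≠ 1 := by
      intro h
      apply hy1
      have : y = g⁻¹ * (g * y * g⁻¹) * g := by group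
      rw [this, h]
      group
    have h1 : cz (g * y * g⁻¹) = cz a := hRcz _ hgy hgy1
    have h2 : a ∈ cz (g * y * g⁻¹) := by
      rw [h1]
      exact mem_cent.2 rfl
    have h3 : g⁻¹ * a * g ∈ cz y := mem_cz_conj.1 h2
    rw [hRcz y hyR hy1] at h3
    have h4 : a ∈ cz (g⁻¹ * a * g⁻¹⁻¹) := by
      rw [inv_inv]
      exact mem_cent.2 (mem_cent.1 h3).symm
    have h5 := hun hai hai (mem_cent.2 rfl) h4
    have h6 : g ∈ cz a := by
      rw [mem_cent]
      rw [inv_inv] at h5
      calc g * a = g * (g⁻¹ * a * g) := by rw [h5]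
        _ = a * g := by group
    rw [mem_centralizer_iff]
    intro u hu
    by_cases hu1 : u = 1
    · subst hu1
      simp
    · have h7 : g ∈ cz u := by
        rw [hRcz u hu hu1]
        exact h6
      exact (mem_cent.1 h7).symm
  have hcompl := MonoidHom.ker_transferSylow_isComplement' R hN
  have hkern : (MonoidHom.transferSylow R hN).ker.Normal := inferInstance
  have hcard := hcompl.card_mul_card
  rcases hkern.eq_bot_or_eq_top with h0 | h0
  · rw [h0] at hcard
    simp only [Subgroup.card_bot, one_mul] at hcard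
    have h1 : (R : Subgroup G) = ⊤ := Subgroup.eq_top_of_card_eq _ hcard
    apply hAtop
    have h2 : (R : Subgroup G) ≤ cz a := hg₀
    rw [h1] at h2
    exact top_le_iff.1 h2
  · rw [h0] at hcard
    simp only [Subgroup.card_top] at hcard
    have hpos : 0 < Nat.card G := Nat.card_pos
    have h1 : Nat.card (R : Subgroup G) = 1 := by
      apply Nat.eq_of_mul_eq_mul_left hpos
      rw [hcard, mul_one]
    exact hRbot (Subgroup.eq_bot_of_card_eq _ h1)

end Hyp

end Hyp

end Cfsg.Agent.Lib.ItoChain
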