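import Mathlib
import Cfsg.Prelude.Def_LieExceptional
import Cfsg.Agent.Lib.ItoChain

/-!
# Ito's conjugate rank three theorem: the case without a chain of centralizers

If the centralizers of the non-identity elements of `G` form an antichain, then `G` is a CN-group
and every involution has an abelian centralizer.
-/

set_option autoImplicit false
set_option linter.unusedSectionVars false
set_option linter.style.haveILetI false

namespace Cfsg.Agent.Lib.ItoAnti

open Subgroup Cfsg Cfsg.Agent.Lib Cfsg.Agent.Lib.CoprimeClass Cfsg.Agent.Lib.ItoChain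

universe u

variable {G : Type u} [Group G] [Finite G]

/-- The antichain hypothesis. -/
def Anti (G : Type u) [Group G] : Prop :=
  ∀ x y : G, x ≠ 1 → y ≠ 1 → cz x ≤ cz y → cz x = cz y

theorem central_of_base (A : Anti G) {b y : G} (hb : b ≠ 1) (hy : y ∈ cz b)
    (hco : Nat.Coprime (orderOf b) (orderOf y)) : cz b ≤ cz y := by
  have hc : b * y = y * b := (mem_cent.1 hy).symm
  have h1 : cz (b * y) = cz b :=
    A _ _ (mul_ne_one_of_coprime hb hc hco) hb (cz_mul_le_left hc hco)
  rw [← h1]
  exact cz_mul_le_right hc hco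

/-- In the antichain case, `G` is a CN-group. -/
theorem isCN (A : Anti G) : IsCNGroup G := by
  intro x hx
  have hxo : orderOf x ≠ 1 := fun h1 => hx (orderOf_eq_one_iff.1 h1)
  obtain ⟨p, hp, hpd⟩ := Nat.exists_prime_and_dvd hxo
  haveI : Fact p.Prime := ⟨hp⟩
  have hx₀o := exists_pow_prime hpd
  set x₀ := x ^ (orderOf x / p) with hx₀_def
  have hx₀1 : x₀ ≠ 1 := by
    intro h
    rw [h, orderOf_one] at hx₀o
    exact hp.one_lt.ne hx₀o
  have heq : cz x = cz x₀ := A _ _ hx hx₀1 (cz_pow_le x _)
  show Group.IsNilpotent (cz x)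
  set H := cz x with hH
  refine Group.of_quotient_center_nilpotent ?_
  have hPG : IsPGroup p (H ⧸ center H) := by
    intro q
    obtain ⟨h, rfl⟩ := QuotientGroup.mk_surjective q
    obtain ⟨a, b, hab, -, ⟨n, hn⟩, hco, -, -⟩ := PResid.exists_decomp (p := p) h
    refine ⟨n, ?_⟩
    have hb : b ∈ center H := by
      rw [mem_center_iff]
      intro c
      have h1 : cz x₀ ≤ cz (b : G) := central_of_base A hx₀1 (by rw [← heq]; exact b.2)
        (by
          rw [hx₀o, Subgroup.orderOf_coe]
          exact hco.symm)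
      have h2 : (c : G) ∈ cz (b : G) := h1 (by rw [← heq]; exact c.2)
      exact Subtype.ext (mem_cent.1 h2)
    have h1 : ((b : H) : H ⧸ center H) = 1 := (QuotientGroup.eq_one_iff _).2 hb
    rw [hab]
    have h2 : (((a * b : H) : H) : H ⧸ center H) = (a : H ⧸ center H) * (b : H ⧸ center H) := rfl
    rw [h2, h1, mul_one]
    have h3 : ((a : H) : H ⧸ center H) ^ p ^ n = ((a ^ p ^ n : H) : H ⧸ center H) := rfl
    rw [h3, hn]
    rfl
  exact hPG.isNilpotent

/-- In the antichain case, every involution has an abelian centralizer. -/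
theorem comm_of_invol (A : Anti G) (t : G) (ht : orderOf t = 2) :
    ∀ a ∈ cz t, ∀ b ∈ cz t, a * b = b * a := by
  haveI : Fact (Nat.Prime 2) := ⟨Nat.prime_two⟩
  have ht1 : t ≠ 1 := by
    intro h
    rw [h, orderOf_one] at ht
    omega
  have hdec : ∀ h : G, ∃ a b : G, h = a * b ∧ (∃ n : ℕ, a ^ 2 ^ n = 1) ∧ (orderOf b).Coprime 2 ∧
      a ∈ zpowers h ∧ b ∈ zpowers h := by
    intro h
    obtain ⟨a, b, hab, -, hn, hco, h1, h2⟩ := PResid.exists_decomp (p := 2) h
    exact ⟨a, b, hab, hn, hco, h1, h2⟩
  by_cases hodd : ∃ v ∈ cz t, v ≠ 1 ∧ (orderOf v).Coprime 2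
  · -- the group has an odd central element
    obtain ⟨v, hvt, hv1, hvo⟩ := hodd
    have h1 : cz t ≤ cz v := central_of_base A ht1 hvt (by rw [ht]; exact hvo.symm)
    have h2 : cz t = cz v := A _ _ ht1 hv1 h1
    have hcen : ∀ h ∈ cz t, cz t ≤ cz h := by
      intro h hh
      obtain ⟨a, b, hab, ⟨n, hn⟩, hco, ha, hb⟩ := hdec h
      have ha' : a ∈ cz t := (zpowers_le.2 hh) ha
      have hb' : b ∈ cz t := (zpowers_le.2 hh) hb
      have h3 : cz t ≤ cz b := central_of_base A ht1 hb' (by rw [ht]; exact hco.symm)
      have h4 : cz t ≤ cz a := by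
        rw [h2]
        refine central_of_base A hv1 (by rw [← h2]; exact ha') ?_
        have h5 : orderOf a ∣ 2 ^ n := orderOf_dvd_of_pow_eq_one hn
        exact Nat.Coprime.coprime_dvd_right h5 (Nat.Coprime.pow_right n hvo)
      intro u hu
      rw [hab, mem_cent]
      have e1 : u * a = a * u := mem_cent.1 (h4 hu)
      have e2 : u * b = b * u := mem_cent.1 (h3 hu)
      rw [← mul_assoc, e1, mul_assoc, e2, mul_assoc]
    intro a ha b hb
    exact (mem_cent.1 (hcen b hb ha))
  · push Not at hodd
    -- every element is a `2`-element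
    have h2el : ∀ y ∈ cz t, ∃ k : ℕ, orderOf y = 2 ^ k := by
      intro y hy
      obtain ⟨a, b, hab, ⟨n, hn⟩, hco, ha, hb⟩ := hdec y
      have hb' : b ∈ cz t := (zpowers_le.2 hy) hb
      have hb1 : b = 1 := by
        by_contra hb1
        exact hodd b hb' hb1 hco
      rw [hb1, mul_one] at hab
      rw [hab]
      have h5 : orderOf a ∣ 2 ^ n := orderOf_dvd_of_pow_eq_one hn
      obtain ⟨k, -, hk⟩ := (Nat.dvd_prime_pow Nat.prime_two).1 h5
      exact ⟨k, hk⟩
    have htt : t ^ 2 = 1 := by rw [← ht]; exact pow_orderOf_eq_one t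
    -- elements of order at least four are central
    have hsq : ∀ y ∈ cz t, y ^ 2 ≠ 1 → cz t ≤ cz y := by
      intro y hy hy2
      obtain ⟨k, hk⟩ := h2el y hy
      have hk2 : 2 ≤ k := by
        by_contra hk2
        have : orderOf y ∣ 2 := by
          rw [hk]
          interval_cases k <;> simp
        exact hy2 (orderOf_dvd_iff_pow_eq_one.1 this)
      have hy1 : y ≠ 1 := by
        rintro rfl
        simp at hy2
      obtain ⟨l, rfl⟩ : ∃ l, k = l + 1 := ⟨k - 1, by omega⟩
      have hl1 : 1 ≤ l := by omega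
      have hy₀o : orderOf (y ^ (orderOf y / 2)) = 2 := exists_pow_prime (by
        rw [hk, pow_succ]; exact Dvd.intro_left _ rfl)
      have hdiv : orderOf y / 2 = 2 ^ l := by
        rw [hk, pow_succ]
        simp
      rw [hdiv] at hy₀o
      set y₀ := y ^ 2 ^ l with hy₀_def
      have hy₀1 : y₀ ≠ 1 := by
        intro h
        rw [h, orderOf_one] at hy₀o
        omega
      have hcomm : Commute t y := (mem_cent.1 hy).symm
      set u := t * y with hu_def
      have hup : u ^ 2 ^ l = y₀ := by
        rw [hu_def, hcomm.mul_pow]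
        have h6 : t ^ 2 ^ l = 1 := by
          obtain ⟨l', rfl⟩ : ∃ l', l = l' + 1 := ⟨l - 1, by omega⟩
          rw [pow_succ 2 l', mul_comm, pow_mul, htt, one_pow]
        rw [h6, one_mul]
      have hu1 : u ≠ 1 := by
        intro h
        rw [h, one_pow] at hup
        exact hy₀1 hup.symm
      have h7 : cz y = cz y₀ := A _ _ hy1 hy₀1 (cz_pow_le y _)
      have h8 : cz u ≤ cz y := by
        rw [h7, ← hup]
        exact cz_pow_le u _
      have h9 : cz u = cz y := A _ _ hu1 hy1 h8
      have h10 : cz y ≤ cz t := by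
        intro q hq
        have e1 : q * y = y * q := mem_cent.1 hq
        have e2 : q * u = u * q := mem_cent.1 (show q ∈ cz u by rw [h9]; exact hq)
        rw [mem_cent]
        rw [hu_def] at e2
        have e3 : q * t * y = t * q * y := by
          calc q * t * y = q * (t * y) := by group
            _ = t * y * q := e2
            _ = t * (y * q) := by group
            _ = t * (q * y) := by rw [e1]
            _ = t * q * y := by group
        exact mul_right_cancel e3
      have h11 : cz y = cz t := A _ _ hy1 ht1 h10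
      rw [h11]
    intro a ha b hb
    by_cases hca : cz t ≤ cz a
    · exact (mem_cent.1 (hca hb)).symm
    by_cases hcb : cz t ≤ cz b
    · exact mem_cent.1 (hcb ha)
    have ha2 : a ^ 2 = 1 := by
      by_contra h
      exact hca (hsq a ha h)
    have hb2 : b ^ 2 = 1 := by
      by_contra h
      exact hcb (hsq b hb h)
    have hab : a * b ∈ cz t := mul_mem ha hb
    by_cases hcab : cz t ≤ cz (a * b)
    · have e1 : a * (a * b) = (a * b) * a := mem_cent.1 (hcab ha)
      have e2 : a * b = b * a := by
        have e3 : a * (a * b) = a * (b * a) := by rw [e1]; group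
        exact mul_left_cancel e3
      exact e2
    · have hab2 : (a * b) ^ 2 = 1 := by
        by_contra h
        exact hcab (hsq _ hab h)
      have ea : a⁻¹ = a := by
        rw [inv_eq_iff_mul_eq_one, ← pow_two]
        exact ha2
      have eb : b⁻¹ = b := by
        rw [inv_eq_iff_mul_eq_one, ← pow_two]
        exact hb2
      have e4 : (a * b)⁻¹ = a * b := by
        rw [inv_eq_iff_mul_eq_one, ← pow_two]
        exact hab2
      rw [mul_inv_rev, ea, eb] at e4
      exact e4.symm

end Cfsg.Agent.Lib.ItoAnti
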