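import Mathlib
import Cfsg.Agent.Lib.ItoComp
import Cfsg.Agent.S4035
import Cfsg.Agent.S4037

/-!
# Ito's theorems: constant primes, and the wild case

* `exists_direct`: consequence of `S4035`, a direct factor decomposition;
* `partA`: no two constant primes; `ito`: class sizes `{1, k}` force `k` to be a prime power;
* `PKHyp`: `p`-regular classes of sizes `1`, `k`, giving a centralizer system;
* `no_wild`: with class sizes `{1, n, m}` and at least three primes, all noncentral elements of prime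
  power order are tame.
-/

set_option autoImplicit false
set_option linter.unusedSectionVars false
set_option linter.unusedVariables false

namespace Cfsg.Agent.Lib.ItoWild

open Subgroup
open Cfsg.Agent.Lib.CoprimeClass (cs mem_cent cs_eq_one_iff cs_conj cs_ne_zero eq_top_of_conj_cover
  card_conj)
open Cfsg.Agent.Lib.CentTools (Cn mem_Cn Cn_mul conj_mem_Cn Cn_mul_central conj_mem_center_iff
  exists_special card_mul_card_le ncard_diff)
open Cfsg.Agent.Lib.ItoBasic Cfsg.Agent.Lib.ItoComp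

section Direct

variable {H : Type*} [Group H] [Finite H]

/-- The direct decomposition given by `S4035`. -/
theorem exists_direct {p : ℕ} [hp : Fact p.Prime] (h : ∀ x : H, (orderOf x).Coprime p → ¬ p ∣ cs x) :
    ∃ P K : Subgroup H, IsPGroup p P ∧ ¬ p ∣ Nat.card K ∧ (∀ a ∈ P, ∀ b ∈ K, a * b = b * a) ∧
      (∀ g : H, ∃ a ∈ P, ∃ b ∈ K, g = a * b) ∧ K.index = Nat.card P ∧
      (∀ x : H, QE p x → x ∈ P) ∧ (∀ x : H, (orderOf x).Coprime p → x ∈ K) := by
  classical
  let S : Sylow p H := default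
  obtain ⟨hPn, K, hKn, hKp, hinf, hsup⟩ := Cfsg.Agent.S4035.result (G := H) (p := p) (by
    intro x hx
    rw [← Cfsg.Agent.S4037.index_centralizer_eq_ncard]
    exact h x hx) S
  have hcomm : ∀ a ∈ (S : Subgroup H), ∀ b ∈ K, a * b = b * a := by
    intro a ha b hb
    exact Subgroup.commute_of_normal_of_disjoint _ _ hPn hKn (disjoint_iff.2 hinf) a b ha hb
  have hdec : ∀ g : H, ∃ a ∈ (S : Subgroup H), ∃ b ∈ K, g = a * b := by
    intro g
    have hg : g ∈ K ⊔ (S : Subgroup H) := by rw [sup_comm, hsup]; trivial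
    rw [mem_sup_of_normal_left] at hg
    obtain ⟨b, hb, a, ha, rfl⟩ := hg
    exact ⟨a, ha, b, hb, (hcomm a ha b hb).symm⟩
  have hcard : Nat.card (S : Subgroup H) * Nat.card K = Nat.card H := by
    have hc : IsComplement' (S : Subgroup H) K := by
      apply isComplement'_of_disjoint_and_mul_eq_univ (disjoint_iff.2 hinf)
      ext g
      simp only [Set.mem_mul, SetLike.mem_coe, Set.mem_univ, iff_true]
      obtain ⟨a, ha, b, hb, rfl⟩ := hdec g
      exact ⟨a, ha, b, hb, rfl⟩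
    exact hc.card_mul
  have hidx : K.index = Nat.card (S : Subgroup H) := by
    have h1 := K.card_mul_index
    rw [← hcard, mul_comm] at h1
    exact Nat.eq_of_mul_eq_mul_right Nat.card_pos h1
  have hKq : ∀ b ∈ K, (orderOf b).Coprime p := by
    intro b hb
    have h1 : orderOf b ∣ Nat.card K := by
      have := orderOf_dvd_natCard (⟨b, hb⟩ : K)
      rwa [Subgroup.orderOf_mk] at this
    have h2 : (Nat.card K).Coprime p := by
      rw [Nat.coprime_comm, Nat.Prime.coprime_iff_not_dvd hp.out]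
      exact hKp
    exact Nat.Coprime.coprime_dvd_left h1 h2
  refine ⟨S, K, S.2, hKp, hcomm, hdec, hidx, ?_, ?_⟩
  · intro x hx
    obtain ⟨a, ha, b, hb, rfl⟩ := hdec x
    obtain ⟨e, he⟩ := hx
    have hc : Commute a b := hcomm a ha b hb
    rw [hc.mul_pow] at he
    have h1 : b ^ (p ^ e) = (a ^ (p ^ e))⁻¹ := eq_inv_of_mul_eq_one_right he
    have h2 : b ^ (p ^ e) ∈ (S : Subgroup H) ⊓ K := by
      refine ⟨?_, K.pow_mem hb _⟩
      rw [h1]
      exact S.1.inv_mem (S.1.pow_mem ha _)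
    rw [hinf, mem_bot] at h2
    have h3 : b = 1 := eq_one_of_coprime_orders ((hKq b hb).pow_right e) (pow_orderOf_eq_one b) h2
    rw [h3, mul_one]
    exact ha
  · intro x hx
    obtain ⟨a, ha, b, hb, rfl⟩ := hdec x
    have hc : Commute a b := hcomm a ha b hb
    have h0 := pow_orderOf_eq_one (a * b)
    rw [hc.mul_pow] at h0
    have h1 : b ^ orderOf (a * b) = (a ^ orderOf (a * b))⁻¹ := eq_inv_of_mul_eq_one_right h0
    have h2 : a ^ orderOf (a * b) ∈ (S : Subgroup H) ⊓ K := by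
      refine ⟨S.1.pow_mem ha _, ?_⟩
      have : a ^ orderOf (a * b) = (b ^ orderOf (a * b))⁻¹ := eq_inv_of_mul_eq_one_left h0
      rw [this]
      exact K.inv_mem (K.pow_mem hb _)
    rw [hinf, mem_bot] at h2
    have h3 : a = 1 := QE.eq_one_of_pow hp.out (qe_of_isPGroup S.2 ha) hx h2
    rw [h3, one_mul]
    exact hb

/-- Class sizes in a direct factor. -/
theorem cs_direct (A B : Subgroup H) (hAB : ∀ a ∈ A, ∀ b ∈ B, a * b = b * a)
    (hsup : ∀ g : H, ∃ a ∈ A, ∃ b ∈ B, g = a * b) (x : A) : cs x = cs (x : H) := by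
  classical
  rw [← card_conj x, ← card_conj (x : H)]
  apply Nat.card_congr
  refine Equiv.ofBijective (fun y => ⟨(y.1 : H), ?_⟩) ⟨?_, ?_⟩
  · obtain ⟨c, hc⟩ := isConj_iff.1 y.2
    refine isConj_iff.2 ⟨(c : H), ?_⟩
    rw [← hc]; rfl
  · intro y z hyz
    have h1 : ((y.1 : A) : H) = ((z.1 : A) : H) := by
      have := congrArg (fun u : {a : H // IsConj (x : H) a} => u.1) hyz
      exact this
    exact Subtype.ext (Subtype.ext h1)
  · rintro ⟨y, hy⟩
    obtain ⟨c, rfl⟩ := isConj_iff.1 hy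
    obtain ⟨a, ha, b, hb, rfl⟩ := hsup c
    have h1 : (a * b) * (x : H) * (a * b)⁻¹ = a * x * a⁻¹ := by
      have h2 : b * (x : H) = x * b := (hAB _ x.2 _ hb).symm
      calc (a * b) * (x : H) * (a * b)⁻¹ = a * (b * x) * b⁻¹ * a⁻¹ := by group
        _ = a * (x * b) * b⁻¹ * a⁻¹ := by rw [h2]
        _ = _ := by group
    refine ⟨⟨⟨a * x * a⁻¹, A.mul_mem (A.mul_mem ha x.2) (A.inv_mem ha)⟩, ?_⟩, ?_⟩
    · exact isConj_iff.2 ⟨⟨a, ha⟩, rfl⟩
    · exact Subtype.ext h1.symm

/-- A `p`-element with class size prime to `p` is central, if this holds for `p`-regular elements. -/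
theorem central_of_pelt {p : ℕ} [hp : Fact p.Prime]
    (h : ∀ x : H, (orderOf x).Coprime p → ¬ p ∣ cs x) {t : H} (ht : QE p t) (hc : ¬ p ∣ cs t) :
    t ∈ center H := by
  obtain ⟨P, K, hP, -, hcomm, -, hidx, hPmem, -⟩ := exists_direct h
  have h1 : K ≤ Cn t := fun b hb => mem_Cn.2 (hcomm t (hPmem t ht) b hb).symm
  have h2 : cs t ∣ K.index := index_dvd_of_le h1
  rw [hidx] at h2
  obtain ⟨n, hn⟩ := IsPGroup.iff_card.1 hP
  rw [hn] at h2
  obtain ⟨j, -, hj⟩ := (Nat.dvd_prime_pow hp.out).1 h2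
  rw [← cs_eq_one_iff, hj]
  rcases j with _ | j
  · simp
  · exfalso
    apply hc
    rw [hj]
    exact dvd_pow_self p (Nat.succ_ne_zero j)

/-- If no class size is divisible by `q`, the `q`-elements are central. -/
theorem central_of_not_dvd {q : ℕ} [Fact q.Prime] (h : ∀ x : H, ¬ q ∣ cs x) {t : H} (ht : QE q t) :
    t ∈ center H :=
  central_of_pelt (fun x _ => h x) ht (h t)

/-- Two primes: `s`-elements are central, if `r`-regular classes are prime to `r` and `s`. -/
theorem central_of_two_primes {r s : ℕ} (hr : r.Prime) (hs : s.Prime)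
    (h : ∀ x : H, (orderOf x).Coprime r → ¬ r ∣ cs x ∧ ¬ s ∣ cs x) {t : H} (htr : (orderOf t).Coprime r)
    (ht : QE s t) : t ∈ center H := by
  classical
  haveI : Fact r.Prime := ⟨hr⟩
  haveI : Fact s.Prime := ⟨hs⟩
  obtain ⟨P, K, hP, hKr, hcomm, hdec, hidx, hPmem, hKmem⟩ := exists_direct (H := H) (p := r)
    (fun x hx => (h x hx).1)
  have hKq : ∀ b : K, (orderOf (b : H)).Coprime r := by
    intro b
    have h1 : orderOf b ∣ Nat.card K := orderOf_dvd_natCard b
    rw [Subgroup.orderOf_coe]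
    have h2 : (Nat.card K).Coprime r := by
      rw [Nat.coprime_comm, Nat.Prime.coprime_iff_not_dvd hr]
      exact hKr
    exact Nat.Coprime.coprime_dvd_left h1 h2
  have hcs : ∀ x : K, cs x = cs (x : H) := cs_direct K P
    (fun a ha b hb => (hcomm b hb a ha).symm)
    (fun g => by
      obtain ⟨a, ha, b, hb, rfl⟩ := hdec g
      exact ⟨b, hb, a, ha, (hcomm a ha b hb)⟩)
  let t' : K := ⟨t, hKmem t htr⟩
  have h1 : t' ∈ center K := by
    apply central_of_pelt (p := s)
    · intro x hx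
      rw [hcs]
      exact (h x (hKq x)).2
    · exact qe_subtype.2 ht
    · rw [hcs]
      exact (h t htr).2
  have h2 : cs t' = 1 := cs_eq_one_iff.2 h1
  rw [hcs] at h2
  exact cs_eq_one_iff.1 h2

end Direct

section PartA

variable {H : Type*} [Group H] [Finite H]

theorem partA_central {r s : ℕ} (hr : r.Prime) (hs : s.Prime) (hne : r ≠ s) {a b : ℕ}
    (h : ∀ g : H, g ∉ center H → (cs g).factorization r = a ∧ (cs g).factorization s = b)
    {y t : H} (hy : QE r y) (hyn : y ∉ center H) (htC : t ∈ Cn y) (ht : QE s t) {g : H}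
    (hg : g ∈ Cn y) : g * t = t * g := by
  classical
  have key : ∀ x : Cn y, (orderOf x).Coprime r → ¬ r ∣ cs x ∧ ¬ s ∣ cs x := by
    intro x hx
    have hcx : y * (x : H) = (x : H) * y := (mem_Cn.1 x.2).symm
    have hco : (orderOf y).Coprime (orderOf (x : H)) := by
      apply hy.coprime_right
      rw [Subgroup.orderOf_coe]
      exact hx
    have h1 := relIndex_Cn_mul hcx hco
    have hn := not_mem_center_mul hcx hco hyn
    have h2 := h _ hn
    have h3 := h _ hyn
    rw [← cs_subtype] at h1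
    have hne0 : cs x ≠ 0 := cs_ne_zero x
    have hney : cs y ≠ 0 := cs_ne_zero y
    have h4 : ∀ ρ : ℕ, (cs (y * (x : H))).factorization ρ = (cs x).factorization ρ + (cs y).factorization ρ := by
      intro ρ
      rw [← h1, Nat.factorization_mul hne0 hney]
      rfl
    constructor
    · intro hd
      have h5 := h4 r
      rw [h2.1, h3.1] at h5
      have h6 : 1 ≤ (cs x).factorization r := (hr.dvd_iff_one_le_factorization hne0).1 hd
      omega
    · intro hd
      have h5 := h4 s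
      rw [h2.2, h3.2] at h5
      have h6 : 1 ≤ (cs x).factorization s := (hs.dvd_iff_one_le_factorization hne0).1 hd
      omega
  have htr : (orderOf (⟨t, htC⟩ : Cn y)).Coprime r := by
    rw [Subgroup.orderOf_mk]
    exact ht.coprime_prime hs hr hne.symm
  have h1 := central_of_two_primes hr hs key htr (qe_subtype.2 ht)
  exact (mem_center_subtype _ _).1 h1 g hg

/-- **No two constant primes.** -/
theorem partA {r s : ℕ} (hr : r.Prime) (hs : s.Prime) (hne : r ≠ s) {a b : ℕ} (ha : a ≠ 0)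
    (hb : b ≠ 0)
    (h : ∀ g : H, g ∉ center H → (cs g).factorization r = a ∧ (cs g).factorization s = b)
    {g₀ : H} (hg₀ : g₀ ∉ center H) : False := by
  classical
  haveI : Fact r.Prime := ⟨hr⟩
  haveI : Fact s.Prime := ⟨hs⟩
  have h' : ∀ g : H, g ∉ center H → (cs g).factorization s = b ∧ (cs g).factorization r = a :=
    fun g hg => ⟨(h g hg).2, (h g hg).1⟩
  -- noncentral elements of each prime
  have hex : ∀ (ρ c : ℕ), ρ.Prime → c ≠ 0 → (∀ g : H, g ∉ center H → (cs g).factorization ρ = c) →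
      ∃ e : H, QE ρ e ∧ e ∉ center H := by
    intro ρ c hρ hc hall
    haveI : Fact ρ.Prime := ⟨hρ⟩
    have hd : ρ ∣ cs g₀ := by
      rw [hρ.dvd_iff_one_le_factorization (cs_ne_zero g₀), hall g₀ hg₀]
      omega
    obtain ⟨v, hv, hvn⟩ := exists_qe_not_mem_of_dvd_index hd
    refine ⟨v, hv, fun hz => hvn (mem_Cn.2 (mem_center_iff.1 hz g₀).symm)⟩
  have hval : ∀ (ρ c : ℕ) [Fact ρ.Prime], (∀ g : H, g ∉ center H → (cs g).factorization ρ = c) →
      ∀ u v : H, u ∉ center H → v ∉ center H → vq ρ (Cn u) = vq ρ (Cn v) := by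
    intro ρ c _ hall u v hu hv
    have h1 := vq_Cn_add (q := ρ) u
    have h2 := vq_Cn_add (q := ρ) v
    rw [hall u hu] at h1
    rw [hall v hv] at h2
    omega
  have hvr := hval r a (fun g hg => (h g hg).1)
  have hvs := hval s b (fun g hg => (h g hg).2)
  obtain ⟨er, her, hern⟩ := hex r a hr ha (fun g hg => (h g hg).1)
  obtain ⟨es, hes, hesn⟩ := hex s b hs hb (fun g hg => (h g hg).2)
  -- commuting
  have htwo_s : ∀ u : H, u ∉ center H → ∃ d ∈ Cn u, QE s d ∧ d ∉ center H := fun u hu =>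
    exists_noncentral_of_vq_le hes hesn (hvs es u hesn hu).le
  have htwo_r : ∀ u : H, u ∉ center H → ∃ d ∈ Cn u, QE r d ∧ d ∉ center H := fun u hu =>
    exists_noncentral_of_vq_le her hern (hvr er u hern hu).le
  have hrs : ∀ y d : H, QE r y → QE s d → y ∉ center H → d ∉ center H → y * d = d * y →
      Cn y = Cn d := by
    intro y d hy hd hyn hdn hc
    apply le_antisymm
    · intro g hg
      exact mem_Cn.2 (partA_central hr hs hne h hy hyn (mem_Cn.2 hc.symm) hd hg)
    · intro g hg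
      exact mem_Cn.2 (partA_central hs hr hne.symm h' hd hdn (mem_Cn.2 hc) hy hg)
  let Θ : ℕ → Prop := fun q => q = r ∨ q = s
  have hCS : CS Θ H := by
    refine ⟨?_, ?_, ?_⟩
    · rintro q (rfl | rfl)
      · exact hr
      · exact hs
    · rintro q t u d (rfl | rfl) (rfl | rfl) hu hd hun hdn hc
      · obtain ⟨e, heC, heq, hen⟩ := htwo_s u hun
        have h1 := hrs u e hu heq hun hen (mem_Cn.1 heC).symm
        have h2 : d ∈ Cn e := by rw [← h1]; exact mem_Cn.2 hc.symm
        have h3 := hrs d e hd heq hdn hen (mem_Cn.1 h2)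
        rw [h1, h3]
      · exact hrs u d hu hd hun hdn hc
      · exact (hrs d u hd hu hdn hun hc.symm).symm
      · obtain ⟨e, heC, heq, hen⟩ := htwo_r u hun
        have h1 := hrs e u heq hu hen hun (mem_Cn.1 heC)
        have h2 : d ∈ Cn e := by rw [h1]; exact mem_Cn.2 hc.symm
        have h3 := hrs e d heq hd hen hdn (mem_Cn.1 h2).symm
        rw [← h1, h3]
    · rintro q u (rfl | rfl) hu hun
      · obtain ⟨e, heC, heq, hen⟩ := htwo_s u hun
        exact ⟨s, e, Or.inr rfl, hne.symm, heq, hen, (mem_Cn.1 heC).symm⟩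
      · obtain ⟨e, heC, heq, hen⟩ := htwo_r u hun
        exact ⟨r, e, Or.inl rfl, hne, heq, hen, (mem_Cn.1 heC).symm⟩
  obtain ⟨d, hdC, hdq, hdn⟩ := htwo_s er hern
  exact ending hCS (Or.inl rfl) (Or.inr rfl) hne her hern hdq hdn (mem_Cn.1 hdC).symm
    (fun g hg => ⟨(hvr er g hern hg).le, (hvs er g hern hg).le⟩)

/-- Prime power. -/
def PP (k : ℕ) : Prop := ∃ p e : ℕ, p.Prime ∧ k = p ^ e

/-- **Ito**: class sizes `{1, k}` force `k` to be a prime power. -/
theorem ito {k : ℕ} (h : ∀ g : H, g ∉ center H → cs g = k) {g₀ : H} (hg₀ : g₀ ∉ center H) : PP k := by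
  classical
  have hk0 : k ≠ 0 := by rw [← h g₀ hg₀]; exact cs_ne_zero g₀
  have hk1 : k ≠ 1 := by
    intro h1
    apply hg₀
    rw [← cs_eq_one_iff, h g₀ hg₀, h1]
  have hr : k.minFac.Prime := Nat.minFac_prime hk1
  by_cases hex : ∃ s : ℕ, s.Prime ∧ s ∣ k ∧ s ≠ k.minFac
  · obtain ⟨s, hs, hsk, hne⟩ := hex
    exfalso
    refine partA hr hs hne.symm (a := k.factorization k.minFac) (b := k.factorization s) ?_ ?_ ?_ hg₀
    · have := (hr.dvd_iff_one_le_factorization hk0).1 (Nat.minFac_dvd k)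
      omega
    · have := (hs.dvd_iff_one_le_factorization hk0).1 hsk
      omega
    · intro g hg
      rw [h g hg]
      exact ⟨rfl, rfl⟩
  · push Not at hex
    refine ⟨k.minFac, _, hr, Nat.eq_prime_pow_of_unique_prime_dvd hk0 ?_⟩
    intro d hd hdk
    exact hex d hd hdk

end PartA

section Tame

variable {H : Type*} [Group H] [Finite H]

/-- A centralizer system from tameness. -/
theorem cs_of_tame {Θ : ℕ → Prop} (hprime : ∀ q, Θ q → q.Prime)
    (htame : ∀ (q t : ℕ) (u v : H), Θ q → Θ t → t ≠ q → QE q u → u ∉ center H → QE t v → v ∈ Cn u →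
      ∀ g ∈ Cn u, g * v = v * g)
    (htwo : ∀ (q : ℕ) (u : H), Θ q → QE q u → u ∉ center H →
      ∃ (t : ℕ) (d : H), Θ t ∧ t ≠ q ∧ QE t d ∧ d ∉ center H ∧ u * d = d * u) : CS Θ H := by
  have hne : ∀ (q t : ℕ) (u d : H), Θ q → Θ t → t ≠ q → QE q u → QE t d → u ∉ center H →
      d ∉ center H → u * d = d * u → Cn u = Cn d := by
    intro q t u d hq ht hqt hu hd hun hdn hc
    apply le_antisymm
    · intro g hg
      exact mem_Cn.2 (htame q t u d hq ht hqt hu hun hd (mem_Cn.2 hc.symm) g hg)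
    · intro g hg
      exact mem_Cn.2 (htame t q d u ht hq hqt.symm hd hdn hu (mem_Cn.2 hc) g hg)
  refine ⟨hprime, ?_, htwo⟩
  intro q t u d hq ht hu hd hun hdn hc
  by_cases hqt : t = q
  · subst hqt
    obtain ⟨e, f, he, hne', hf, hfn, huf⟩ := htwo t u hq hu hun
    have h1 := hne t e u f hq he hne' hu hf hun hfn huf
    have h2 : d ∈ Cn f := by rw [← h1]; exact mem_Cn.2 hc.symm
    have h3 := hne t e d f hq he hne' hd hf hdn hfn (mem_Cn.1 h2)
    rw [h1, h3]
  · exact hne q t u d hq ht hqt hu hd hun hdn hc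

/-- Counting a cover. -/
theorem card_le_of_cover {ι : Type*} [Fintype ι] (S : Subgroup H) (A : ι → Subgroup H) (m : ℕ)
    (hA : ∀ j, Nat.card (A j) ≤ m) (hcov : ∀ y ∈ S, ∃ j, y ∈ A j) :
    Nat.card S ≤ Fintype.card ι * m := by
  classical
  letI := Fintype.ofFinite H
  have hcard : ∀ B : Subgroup H, Nat.card B = (Finset.univ.filter (· ∈ B)).card := by
    intro B
    rw [Nat.card_eq_fintype_card, Fintype.card_subtype]
  rw [hcard S]
  have h1 : Finset.univ.filter (· ∈ S) ⊆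
      (Finset.univ : Finset ι).biUnion (fun j => Finset.univ.filter (· ∈ A j)) := by
    intro y hy
    obtain ⟨j, hj⟩ := hcov y (Finset.mem_filter.1 hy).2
    exact Finset.mem_biUnion.2 ⟨j, Finset.mem_univ _, Finset.mem_filter.2 ⟨Finset.mem_univ _, hj⟩⟩
  calc _ ≤ _ := Finset.card_le_card h1
    _ ≤ (Finset.univ : Finset ι).card * m := Finset.card_biUnion_le_card_mul _ _ _ (by
        intro j _
        rw [← hcard]
        exact hA j)
    _ = _ := by rw [Finset.card_univ]

end Tame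

section PK

variable {H : Type*} [Group H] [Finite H] {p k : ℕ} {Θ : ℕ → Prop}

/-- The `p`-regular classes of `H` have sizes `1`, `k`. -/
structure PKHyp (p k : ℕ) (Θ : ℕ → Prop) (H : Type*) [Group H] : Prop where
  hp : p.Prime
  hk : 1 < k
  pk : ∀ v : H, (orderOf v).Coprime p → cs v = 1 ∨ cs v = k
  prime : ∀ q, Θ q → q.Prime
  ne : ∀ q, Θ q → q ≠ p
  ex : ∀ q, Θ q → ∃ v : H, QE q v ∧ v ∉ center H
  more : ∀ q, Θ q → ∃ t, Θ t ∧ t ≠ q
  prk : ∀ s, s.Prime → s ∣ k → s = p ∨ Θ s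

namespace PKHyp

variable (h : PKHyp p k Θ H)

include h

theorem coprime_of_QE {q : ℕ} (hq : Θ q) {v : H} (hv : QE q v) : (orderOf v).Coprime p :=
  hv.coprime_prime (h.prime q hq) h.hp (h.ne q hq)

theorem cs_eq {q : ℕ} (hq : Θ q) {v : H} (hv : QE q v) (hn : v ∉ center H) : cs v = k :=
  (h.pk v (h.coprime_of_QE hq hv)).resolve_left (fun h1 => hn (cs_eq_one_iff.1 h1))

theorem central {q t : ℕ} (hq : Θ q) (ht : Θ t) (hne : t ≠ q) {v u : H} (hv : QE q v)
    (hvn : v ∉ center H) (hu : QE t u) (huC : u ∈ Cn v) {g : H} (hg : g ∈ Cn v) : g * u = u * g := by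
  have hqp := h.prime q hq
  have htp := h.prime t ht
  have hco : (orderOf v).Coprime (orderOf u) := QE.coprime_of_ne hqp htp hne.symm hv hu
  have hcu : v * u = u * v := (mem_Cn.1 huC).symm
  have h1 := relIndex_Cn_mul hcu hco
  have hn := not_mem_center_mul hcu hco hvn
  have hpr : (orderOf (v * u)).Coprime p := by
    have h2 : orderOf (v * u) ∣ orderOf v * orderOf u :=
      Commute.orderOf_mul_dvd_mul_orderOf hcu
    exact Nat.Coprime.coprime_dvd_left h2
      (Nat.Coprime.mul_left (h.coprime_of_QE hq hv) (h.coprime_of_QE ht hu))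
  have h2 : cs (v * u) = k := (h.pk _ hpr).resolve_left (fun h3 => hn (cs_eq_one_iff.1 h3))
  rw [h.cs_eq hq hv hvn, h2] at h1
  have hk0 : 0 < k := by have := h.hk; omega
  have h3 : (Cn u).relIndex (Cn v) = 1 := by
    have : (Cn u).relIndex (Cn v) * k = 1 * k := by rw [h1, one_mul]
    exact Nat.eq_of_mul_eq_mul_right hk0 this
  have h4 := relIndex_eq_one.1 h3
  exact mem_Cn.1 (h4 hg)

theorem two' {q t : ℕ} (hq : Θ q) (ht : Θ t) {v : H} (hv : QE q v) (hvn : v ∉ center H) :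
    ∃ d ∈ Cn v, QE t d ∧ d ∉ center H := by
  haveI : Fact t.Prime := ⟨h.prime t ht⟩
  obtain ⟨e, he, hen⟩ := h.ex t ht
  apply exists_noncentral_of_vq_le he hen
  apply vq_le_of_dvd
  rw [h.cs_eq hq hv hvn, h.cs_eq ht he hen]

theorem toCS : CS Θ H := by
  apply cs_of_tame h.prime
  · intro q t u v hq ht hne hu hun hv hvC g hg
    exact h.central hq ht hne hu hun hv hvC hg
  · intro q u hq hu hun
    obtain ⟨t, ht, hne⟩ := h.more q hq
    obtain ⟨d, hdC, hd, hdn⟩ := h.two' hq ht hu hun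
    exact ⟨t, d, ht, hne, hd, hdn, (mem_Cn.1 hdC).symm⟩

theorem conj_all {q₁ q₂ : ℕ} (hq₁ : Θ q₁) (hq₂ : Θ q₂) {u₁ u₂ : H} (hu₁ : QE q₁ u₁)
    (hn₁ : u₁ ∉ center H) (hu₂ : QE q₂ u₂) (hn₂ : u₂ ∉ center H) : ConjC u₂ u₁ := by
  apply conj_of_card_eq h.toCS hq₁ hq₂ hu₁ hn₁ hu₂ hn₂
  have h1 := (Cn u₁).card_mul_index
  have h2 := (Cn u₂).card_mul_index
  have h3 : (Cn u₁).index = k := h.cs_eq hq₁ hu₁ hn₁
  have h4 : (Cn u₂).index = k := h.cs_eq hq₂ hu₂ hn₂
  rw [h3] at h1
  rw [h4] at h2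
  have hk0 : 0 < k := by have := h.hk; omega
  exact Nat.eq_of_mul_eq_mul_right hk0 (h1.trans h2.symm)

theorem bad {q : ℕ} (hq : Θ q) (hqk : q ∣ k) : Bad q H := by
  haveI : Fact q.Prime := ⟨h.prime q hq⟩
  intro S z hzS hzc
  by_contra hz
  have hzq : QE q z := qe_of_isPGroup S.2 hzS
  have h1 : cs z = k := h.cs_eq hq hzq hz
  have h2 : (S : Subgroup H) ≤ Cn z := fun a ha => mem_Cn.2 (hzc a ha)
  apply not_dvd_index_of_sylow_le S h2
  show q ∣ cs z
  rw [h1]
  exact hqk

theorem val_one {q : ℕ} (hq : Θ q) (hqk : q ∣ k) : k.factorization q = 1 := by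
  classical
  haveI : Fact q.Prime := ⟨h.prime q hq⟩
  let S : Sylow q H := default
  obtain ⟨v, hv, hvn⟩ := h.ex q hq
  obtain ⟨g, hg⟩ := exists_conj_mem_sylow S hv
  have hbad := h.bad hq hqk S
  obtain ⟨w, hwS, hwn, hwc, hwp⟩ := exists_w S hbad hg (by rwa [conj_mem_center_iff])
  have hT : TCond q (S : Subgroup H) w := ⟨hwS, hwn, hwc, hwp, hbad⟩
  have h1 := vq_T h.toCS hT hq
  have h2 := vq_Cn_add (q := q) w
  rw [h.cs_eq hq (hT.qe_of_mem hwS) hwn] at h2
  omega

/-- The number of conjugates of a component is at least `q`. -/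
theorem le_index_of_cover {q : ℕ} (hq : Θ q) (hqk : q ∣ k) {v : H} (hv : QE q v)
    (hvn : v ∉ center H) : q ≤ (normalizer (Cn v : Set H)).index := by
  classical
  haveI : Fact q.Prime := ⟨h.prime q hq⟩
  have hqp := h.prime q hq
  let S : Sylow q H := default
  let N := normalizer (Cn v : Set H)
  letI : Fintype (H ⧸ N) := Fintype.ofFinite _
  let A : (H ⧸ N) → Subgroup H := fun j =>
    ((Cn v).map (MulAut.conj (Quotient.out j)).toMonoidHom) ⊓ (S : Subgroup H)
  have hcov : ∀ y ∈ (S : Subgroup H), ∃ j, y ∈ A j := by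
    intro y hy
    have hyq : QE q y := qe_of_isPGroup S.2 hy
    obtain ⟨g, hg⟩ : ∃ g : H, g * y * g⁻¹ ∈ Cn v := by
      by_cases hyZ : y ∈ center H
      · refine ⟨1, ?_⟩
        simp only [one_mul, inv_one, mul_one]
        exact mem_Cn.2 (mem_center_iff.1 hyZ v).symm
      · obtain ⟨g, hg⟩ := h.conj_all hq hq hv hvn hyq hyZ
        refine ⟨g, ?_⟩
        rw [← hg]
        exact mem_Cn.2 rfl
    refine ⟨((g⁻¹ : H) : H ⧸ N), ?_, hy⟩
    set o : H := Quotient.out ((g⁻¹ : H) : H ⧸ N) with ho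
    have h1 : (o : H ⧸ N) = ((g⁻¹ : H) : H ⧸ N) := QuotientGroup.out_eq' _
    have h2 : o⁻¹ * g⁻¹ ∈ N := QuotientGroup.eq.1 h1
    have h3 : (o⁻¹ * g⁻¹) * (g * y * g⁻¹) * (o⁻¹ * g⁻¹)⁻¹ ∈ Cn v :=
      (mem_normalizer_iff.1 h2 _).1 hg
    refine ⟨o⁻¹ * y * o, ?_, ?_⟩
    · have h4 : (o⁻¹ * g⁻¹) * (g * y * g⁻¹) * (o⁻¹ * g⁻¹)⁻¹ = o⁻¹ * y * o := by group
      rwa [h4] at h3
    · simp [MulAut.conj_apply, mul_assoc]
  have hbd : ∀ j, Nat.card (A j) ≤ q ^ vq q (Cn v) := by
    intro j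
    have h1 : IsPGroup q (A j) := S.2.to_le inf_le_right
    have h2 := card_le_of_isPGroup (inf_le_left : A j ≤ _) h1
    have h3 : Nat.card ((Cn v).map (MulAut.conj (Quotient.out j)).toMonoidHom) = Nat.card (Cn v) :=
      Subgroup.card_map_of_injective (MulAut.conj _).injective
    simpa only [vq, h3] using h2
  have h1 := card_le_of_cover (S : Subgroup H) A _ hbd hcov
  have h2 : Nat.card (S : Subgroup H) = q ^ (vq q (Cn v) + 1) := by
    have h3 := vq_Cn_add (q := q) v
    rw [h.cs_eq hq hv hvn, h.val_one hq hqk] at h3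
    rw [h3]
    exact Sylow.card_eq_multiplicity S
  rw [h2, pow_succ] at h1
  have hpos : 0 < q ^ vq q (Cn v) := pow_pos hqp.pos _
  have h3 : Fintype.card (H ⧸ N) = N.index := by
    rw [index_eq_card, Nat.card_eq_fintype_card]
  rw [h3] at h1
  have h4 : q * q ^ vq q (Cn v) ≤ N.index * q ^ vq q (Cn v) := by
    rw [mul_comm q]; exact h1
  exact Nat.le_of_mul_le_mul_right h4 hpos

theorem final {q : ℕ} (hq : Θ q) (hqk : q ∣ k) (hp1 : k.factorization p ≤ 1) : q ≤ p := by
  classical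
  haveI : Fact q.Prime := ⟨h.prime q hq⟩
  have hqp := h.prime q hq
  obtain ⟨v, hv, hvn⟩ := h.ex q hq
  let N := normalizer (Cn v : Set H)
  have hDN : Cn v ≤ N := le_normalizer
  have hidx : (Cn v).relIndex N * N.index = k := by
    rw [relIndex_mul_index hDN]
    exact h.cs_eq hq hv hvn
  have hk0 : k ≠ 0 := by have := h.hk; omega
  have hc0 : N.index ≠ 0 := index_ne_zero_of_finite
  have hr0 : (Cn v).relIndex N ≠ 0 := by
    intro h0
    rw [h0, zero_mul] at hidx
    exact hk0 hidx.symm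
  have hcdvd : N.index ∣ k := ⟨_, by rw [← hidx, mul_comm]⟩
  have h2 : ∀ q', Θ q' → ¬ q' ∣ N.index := by
    intro q' hq' hd
    have hq'p := h.prime q' hq'
    haveI : Fact q'.Prime := ⟨hq'p⟩
    have hq'k : q' ∣ k := hd.trans hcdvd
    obtain ⟨v', hv'C, hv'q, hv'n⟩ : ∃ v' ∈ Cn v, QE q' v' ∧ v' ∉ center H :=
      h.two' hq hq' hv hvn
    have hCn : Cn v = Cn v' := h.toCS.same q q' v v' hq hq' hv hv'q hvn hv'n (mem_Cn.1 hv'C).symm
    obtain ⟨a, haq, han, hac⟩ := exists_norm_of_bad h.toCS hq' (h.bad hq' hq'k) hv'q hv'n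
    have haN : a ∈ N := by
      apply mem_normalizer_of_forall
      rw [hCn]
      exact hac
    have hdvd : q' ∣ (Cn v).relIndex N := by
      haveI : ((Cn v).subgroupOf N).Normal := Subgroup.normal_in_normalizer
      let a' : N := ⟨a, haN⟩
      let ā : N ⧸ ((Cn v).subgroupOf N) := (a' : N ⧸ ((Cn v).subgroupOf N))
      have h3 : ā ≠ 1 := by
        intro h4
        apply han
        rw [← hCn]
        exact mem_subgroupOf.1 ((QuotientGroup.eq_one_iff a').1 h4)
      obtain ⟨e, he⟩ := haq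
      have h4 : ā ^ (q' ^ e) = 1 := by
        have : a' ^ (q' ^ e) = 1 := Subtype.ext he
        rw [← QuotientGroup.mk_pow, this]
        rfl
      have h5 : orderOf ā ∣ q' ^ e := orderOf_dvd_of_pow_eq_one h4
      obtain ⟨j, -, hj⟩ := (Nat.dvd_prime_pow hq'p).1 h5
      have h6 : orderOf ā ∣ Nat.card (N ⧸ ((Cn v).subgroupOf N)) := orderOf_dvd_natCard ā
      rcases j with _ | j
      · rw [pow_zero] at hj
        exact absurd (orderOf_eq_one_iff.1 hj) h3
      · have h7 : q' ∣ orderOf ā := by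
          rw [hj]; exact dvd_pow_self q' (Nat.succ_ne_zero j)
        exact h7.trans h6
    have h3 := h.val_one hq' hq'k
    rw [← hidx, Nat.factorization_mul hr0 hc0] at h3
    have h4 := (hq'p.dvd_iff_one_le_factorization hr0).1 hdvd
    have h5 := (hq'p.dvd_iff_one_le_factorization hc0).1 hd
    simp only [Finsupp.coe_add, Pi.add_apply] at h3
    omega
  have hcp : ∀ {s : ℕ}, s.Prime → s ∣ N.index → s = p := by
    intro s hs hd
    exact (h.prk s hs (hd.trans hcdvd)).resolve_right (fun h3 => h2 s h3 hd)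
  have h3 := Nat.eq_prime_pow_of_unique_prime_dvd hc0 hcp
  set f := N.index.primeFactorsList.length with hf
  have h4 : q ≤ N.index := h.le_index_of_cover hq hqk hv hvn
  have h5 : f ≤ 1 := by
    have h6 : p ^ f ∣ k := by rw [← h3]; exact hcdvd
    have := (Nat.Prime.pow_dvd_iff_le_factorization h.hp hk0).1 h6
    omega
  interval_cases hf' : f
  · rw [h3, pow_zero] at h4
    have := hqp.two_le
    omega
  · rw [h3, pow_one] at h4
    exact h4

end PKHyp

end PK

section GLevel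

variable {G : Type*} [Group G] [Finite G] {n m : ℕ}

/-- A wild element. -/
def Wild (p : ℕ) (x : G) : Prop :=
  p.Prime ∧ QE p x ∧ x ∉ center G ∧
    ∃ (t : ℕ) (v : G), t.Prime ∧ t ≠ p ∧ QE t v ∧ v ∈ Cn x ∧ ∃ g ∈ Cn x, g * v ≠ v * g

/-- The primes other than `p` with noncentral elements. -/
def ThetaP (G : Type*) [Group G] (p q : ℕ) : Prop :=
  q.Prime ∧ q ≠ p ∧ ∃ u : G, QE q u ∧ u ∉ center G

theorem wild_sizes (hlt : n < m) (hsz : ∀ g : G, g ∉ center G → cs g = n ∨ cs g = m) {p : ℕ} {x : G}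
    (hx : Wild p x) : cs x = n ∧ ∃ k, 1 < k ∧ m = n * k ∧ ∃ y : G, cs y = m := by
  obtain ⟨hp, hxq, hxn, t, v, ht, htp, hv, hvC, g, hg, hgv⟩ := hx
  have hco : (orderOf x).Coprime (orderOf v) := QE.coprime_of_ne hp ht htp.symm hxq hv
  have hc : x * v = v * x := (mem_Cn.1 hvC).symm
  have h1 := relIndex_Cn_mul hc hco
  have hn := not_mem_center_mul hc hco hxn
  set r := (Cn v).relIndex (Cn x) with hr
  have hr1 : r ≠ 1 := by
    intro h2
    exact hgv (mem_Cn.1 (relIndex_eq_one.1 h2 hg))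
  have hr0 : r ≠ 0 := by
    intro h0
    rw [h0, zero_mul] at h1
    exact cs_ne_zero _ h1.symm
  have hr2 : 1 < r := by omega
  have hcsx : 0 < cs x := Nat.pos_of_ne_zero (cs_ne_zero x)
  have hlt2 : cs x < cs (x * v) := by
    rw [← h1]
    nlinarith
  have h2 : cs x = n ∧ cs (x * v) = m := by
    rcases hsz x hxn with h3 | h3 <;> rcases hsz _ hn with h4 | h4 <;> omega
  refine ⟨h2.1, r, hr2, ?_, x * v, h2.2⟩
  rw [← h2.2, ← h1, h2.1, mul_comm]

theorem wild_pk (hlt : n < m) (hsz : ∀ g : G, g ∉ center G → cs g = n ∨ cs g = m) {p k : ℕ} {x : G}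
    (hx : Wild p x) (hm : m = n * k) (v : Cn x) (hv : (orderOf v).Coprime p) :
    cs v = 1 ∨ cs v = k := by
  obtain ⟨hcsx, -⟩ := wild_sizes hlt hsz hx
  obtain ⟨hp, hxq, hxn, -⟩ := hx
  have hv' : (orderOf (v : G)).Coprime p := by rwa [Subgroup.orderOf_coe]
  have hco : (orderOf x).Coprime (orderOf (v : G)) := hxq.coprime_right hv'
  have hc : x * (v : G) = (v : G) * x := (mem_Cn.1 v.2).symm
  have h1 := relIndex_Cn_mul hc hco
  rw [← cs_subtype, hcsx] at h1
  have hn := not_mem_center_mul hc hco hxn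
  have hn0 : 0 < n := by
    rw [← hcsx]; exact Nat.pos_of_ne_zero (cs_ne_zero x)
  rcases hsz _ hn with h2 | h2
  · left
    rw [h2] at h1
    exact Nat.eq_of_mul_eq_mul_right hn0 (by rw [h1, one_mul])
  · right
    rw [h2, hm, mul_comm n k] at h1
    exact Nat.eq_of_mul_eq_mul_right hn0 h1

theorem wild_not_pp (hlt : n < m) (hsz : ∀ g : G, g ∉ center G → cs g = n ∨ cs g = m)
    (h3 : ∀ a b : ℕ, ∃ q, q.Prime ∧ q ≠ a ∧ q ≠ b ∧ ∃ u : G, QE q u ∧ u ∉ center G)
    {k : ℕ} (hn0 : n ≠ 0) (hm : m = n * k) (hk : PP k) : False := by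
  classical
  obtain ⟨t, c, ht, rfl⟩ := hk
  have hval : ∀ q, q.Prime → q ≠ t → ∀ g : G, g ∉ center G →
      (cs g).factorization q = n.factorization q := by
    intro q hq hqt g hg
    rcases hsz g hg with h1 | h1
    · rw [h1]
    · rw [h1, hm, Nat.factorization_mul hn0 (pow_ne_zero _ ht.ne_zero)]
      have h2 : (t ^ c).factorization q = 0 := by
        apply Nat.factorization_eq_zero_of_not_dvd
        intro hd
        exact hqt ((Nat.prime_dvd_prime_iff_eq hq ht).1 (hq.dvd_of_dvd_pow hd))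
      simp only [Finsupp.coe_add, Pi.add_apply, h2, add_zero]
  have hnz : ∀ q, q.Prime → q ≠ t → (∃ u : G, QE q u ∧ u ∉ center G) → n.factorization q ≠ 0 := by
    rintro q hq hqt ⟨u, hu, hun⟩ h0
    haveI : Fact q.Prime := ⟨hq⟩
    have h1 : ¬ q ∣ n := by
      intro hd
      have := (hq.dvd_iff_one_le_factorization hn0).1 hd
      omega
    apply hun
    apply central_of_not_dvd _ hu
    intro g hd
    by_cases hg : g ∈ center G
    · rw [cs_eq_one_iff.2 hg] at hd
      exact hq.one_lt.ne' (Nat.dvd_one.1 hd)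
    · have h2 := hval q hq hqt g hg
      rw [h0] at h2
      have := (hq.dvd_iff_one_le_factorization (cs_ne_zero g)).1 hd
      omega
  obtain ⟨q, hq, hq1, -, hqe⟩ := h3 t t
  obtain ⟨s, hs, hs1, hs2, hse⟩ := h3 t q
  obtain ⟨u, hu, hun⟩ := hqe
  exact partA hq hs hs2.symm (hnz q hq hq1 ⟨u, hu, hun⟩) (hnz s hs hs1 hse)
    (fun g hg => ⟨hval q hq hq1 g hg, hval s hs hs1 g hg⟩) hun

theorem wild_dvd (hlt : n < m) (hsz : ∀ g : G, g ∉ center G → cs g = n ∨ cs g = m) {p k : ℕ} {x : G}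
    (hx : Wild p x) (hm : m = n * k) (hnpp : ¬ PP k) : p ∣ k := by
  classical
  by_contra hpk
  obtain ⟨hp, hxq, hxn, t, v, ht, htp, hv, hvC, g, hg, hgv⟩ := id hx
  haveI : Fact p.Prime := ⟨hp⟩
  have hreg : ∀ y : Cn x, (orderOf y).Coprime p → ¬ p ∣ cs y := by
    intro y hy hd
    rcases wild_pk hlt hsz hx hm y hy with h1 | h1
    · rw [h1] at hd
      exact hp.one_lt.ne' (Nat.dvd_one.1 hd)
    · rw [h1] at hd
      exact hpk hd
  obtain ⟨P, K, hP, hKp, hcomm, hdec, -, -, hKmem⟩ := exists_direct hreg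
  have hKq : ∀ b : K, (orderOf (b : Cn x)).Coprime p := by
    intro b
    have h1 : orderOf b ∣ Nat.card K := orderOf_dvd_natCard b
    rw [Subgroup.orderOf_coe]
    have h2 : (Nat.card K).Coprime p := by
      rw [Nat.coprime_comm, Nat.Prime.coprime_iff_not_dvd hp]
      exact hKp
    exact Nat.Coprime.coprime_dvd_left h1 h2
  have hcs : ∀ z : K, cs z = cs (z : Cn x) := cs_direct K P
    (fun a ha b hb => (hcomm b hb a ha).symm)
    (fun g => by
      obtain ⟨a, ha, b, hb, rfl⟩ := hdec g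
      exact ⟨b, hb, a, ha, (hcomm a ha b hb)⟩)
  have hszK : ∀ z : K, z ∉ center K → cs z = k := by
    intro z hz
    rcases wild_pk hlt hsz hx hm (z : Cn x) (hKq z) with h1 | h1
    · exfalso
      apply hz
      rw [← cs_eq_one_iff, hcs, h1]
    · rw [hcs, h1]
  let v' : Cn x := ⟨v, hvC⟩
  have hv'o : (orderOf v').Coprime p := by
    rw [Subgroup.orderOf_mk]
    exact hv.coprime_prime ht hp htp
  let g₀ : K := ⟨v', hKmem v' hv'o⟩
  have hg₀ : g₀ ∉ center K := by
    intro hz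
    have h1 : cs g₀ = 1 := cs_eq_one_iff.2 hz
    rw [hcs] at h1
    have h2 : v' ∈ center (Cn x) := cs_eq_one_iff.1 h1
    exact hgv ((mem_center_subtype _ _).1 h2 g hg)
  exact hnpp (ito hszK hg₀)

theorem wild_ex (hlt : n < m) (hsz : ∀ g : G, g ∉ center G → cs g = n ∨ cs g = m) {p k : ℕ} {x : G}
    (hx : Wild p x) (hm : m = n * k) (hnpp : ¬ PP k) {q : ℕ} (hq : ThetaP G p q) :
    ∃ v : Cn x, QE q v ∧ v ∉ center (Cn x) := by
  classical
  obtain ⟨hqp, hqne, e, he, hen⟩ := hq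
  by_contra hall
  push Not at hall
  haveI : Fact q.Prime := ⟨hqp⟩
  obtain ⟨hcsx, -⟩ := wild_sizes hlt hsz hx
  have hn0 : n ≠ 0 := by rw [← hcsx]; exact cs_ne_zero x
  have hk0 : k ≠ 0 := by
    rintro rfl
    rw [mul_zero] at hm
    omega
  obtain ⟨hp, hxq, hxn, t, v, ht, htp, hv, hvC, g, hg, hgv⟩ := id hx
  let v₀ : Cn x := ⟨v, hvC⟩
  have hv₀n : v₀ ∉ center (Cn x) := fun hz => hgv ((mem_center_subtype _ _).1 hz g hg)
  have hv₀o : (orderOf v₀).Coprime p := by
    rw [Subgroup.orderOf_mk]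
    exact hv.coprime_prime ht hp htp
  have hv₀k : cs v₀ = k := (wild_pk hlt hsz hx hm v₀ hv₀o).resolve_left
    (fun h1 => hv₀n (cs_eq_one_iff.1 h1))
  by_cases hqk : q ∣ k
  · have := not_dvd_index_of_forall (H := Cn x) (q := q) (A := Cn v₀)
      (fun y hy => mem_Cn.2 (mem_center_iff.1 (hall y hy) v₀).symm)
    apply this
    show q ∣ cs v₀
    rw [hv₀k]
    exact hqk
  · have hval : ∀ g : G, g ∉ center G → (cs g).factorization q = n.factorization q := by
      intro g hg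
      rcases hsz g hg with h1 | h1
      · rw [h1]
      · rw [h1, hm, Nat.factorization_mul hn0 hk0]
        simp only [Finsupp.coe_add, Pi.add_apply, Nat.factorization_eq_zero_of_not_dvd hqk, add_zero]
    have h1 : vq q (Cn e) ≤ vq q (Cn x) := by
      have h2 := vq_Cn_add (q := q) e
      have h3 := vq_Cn_add (q := q) x
      rw [hval e hen] at h2
      rw [hval x hxn] at h3
      omega
    obtain ⟨y, hyC, hyq, hyn⟩ := exists_noncentral_of_vq_le he hen h1
    let y' : Cn x := ⟨y, hyC⟩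
    have hy'c : y' ∈ center (Cn x) := hall y' (qe_subtype.2 hyq)
    have hle : Cn x ≤ Cn y := fun a ha => mem_Cn.2 ((mem_center_subtype _ _).1 hy'c a ha)
    have hdvd : cs y ∣ cs x := index_dvd_of_le hle
    have hn0' : 0 < n := Nat.pos_of_ne_zero hn0
    have hcsy : cs y = n := by
      rcases hsz y hyn with h2 | h2
      · exact h2
      · exfalso
        rw [h2, hcsx] at hdvd
        have := Nat.le_of_dvd hn0' hdvd
        omega
    have hEq : Cn x = Cn y := by
      apply Subgroup.eq_of_le_of_card_ge hle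
      have h2 := (Cn x).card_mul_index
      have h3 := (Cn y).card_mul_index
      have h4 : (Cn x).index = n := hcsx
      have h5 : (Cn y).index = n := hcsy
      rw [h4] at h2
      rw [h5] at h3
      exact (Nat.eq_of_mul_eq_mul_right hn0' (h3.trans h2.symm)).le
    have hall' : ∀ g : Cn x, g ∉ center (Cn x) → cs g = k := by
      intro g hg
      obtain ⟨a, b, hqa, hb, hab⟩ := exists_split hqp g
      have hgac : g ^ a ∈ center (Cn x) := hall _ hqa
      have hcomm : g ^ b * g ^ a = g ^ a * g ^ b := (mem_center_iff.1 hgac _)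
      have hg1 : g ^ b ∉ center (Cn x) := by
        intro hz
        apply hg
        rw [← hab]
        exact (center (Cn x)).mul_mem hgac hz
      have hcsg : cs g = cs (g ^ b) := by
        show (Cn g).index = (Cn (g ^ b)).index
        have : g = g ^ b * g ^ a := by rw [hcomm, hab]
        conv_lhs => rw [this]
        rw [Cn_mul_central hgac]
      rw [hcsg]
      set g₁ : Cn x := g ^ b with hg₁
      have hg₁o : (orderOf (g₁ : G)).Coprime q := by
        rw [Subgroup.orderOf_coe]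
        exact hb
      have hco : (orderOf y).Coprime (orderOf (g₁ : G)) := hyq.coprime_right hg₁o
      have hcg : y * (g₁ : G) = (g₁ : G) * y := (mem_Cn.1 (hle g₁.2)).symm
      have h2 := relIndex_Cn_mul hcg hco
      rw [← hEq, ← cs_subtype, hcsy] at h2
      have hn := not_mem_center_mul hcg hco hyn
      rcases hsz _ hn with h3 | h3
      · exfalso
        rw [h3] at h2
        have h4 : cs g₁ = 1 := Nat.eq_of_mul_eq_mul_right hn0' (by rw [h2, one_mul])
        exact hg1 (cs_eq_one_iff.1 h4)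
      · rw [h3, hm, mul_comm n k] at h2
        exact Nat.eq_of_mul_eq_mul_right hn0' h2
    exact hnpp (ito hall' hv₀n)

theorem wild_hyp (hlt : n < m) (hsz : ∀ g : G, g ∉ center G → cs g = n ∨ cs g = m)
    (h3 : ∀ a b : ℕ, ∃ q, q.Prime ∧ q ≠ a ∧ q ≠ b ∧ ∃ u : G, QE q u ∧ u ∉ center G)
    {p k : ℕ} {x : G} (hx : Wild p x) (hk1 : 1 < k) (hm : m = n * k) (hy₀ : ∃ y : G, cs y = m)
    (hnpp : ¬ PP k) : PKHyp p k (ThetaP G p) (Cn x) where
  hp := hx.1
  hk := hk1
  pk := wild_pk hlt hsz hx hm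
  prime := fun q hq => hq.1
  ne := fun q hq => hq.2.1
  ex := fun q hq => wild_ex hlt hsz hx hm hnpp hq
  more := fun q hq => by
    obtain ⟨t, ht, h1, h2, h4⟩ := h3 p q
    exact ⟨t, ⟨ht, h1, h4⟩, h2⟩
  prk := fun s hs hd => by
    by_cases hsp : s = p
    · exact Or.inl hsp
    · right
      refine ⟨hs, hsp, ?_⟩
      haveI : Fact s.Prime := ⟨hs⟩
      obtain ⟨y₀, hy₀⟩ := hy₀
      have h4 : s ∣ (Cn y₀).index := by
        show s ∣ cs y₀
        rw [hy₀, hm]
        exact hd.trans (dvd_mul_left _ _)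
      obtain ⟨v, hv, hvn⟩ := exists_qe_not_mem_of_dvd_index h4
      exact ⟨v, hv, fun hz => hvn (mem_Cn.2 (mem_center_iff.1 hz y₀).symm)⟩

/-- **No wild elements.** -/
theorem no_wild (hlt : n < m) (hsz : ∀ g : G, g ∉ center G → cs g = n ∨ cs g = m)
    (h3 : ∀ a b : ℕ, ∃ q, q.Prime ∧ q ≠ a ∧ q ≠ b ∧ ∃ u : G, QE q u ∧ u ∉ center G)
    {p : ℕ} {x : G} (hx : Wild p x) : False := by
  classical
  obtain ⟨hcsx, k, hk1, hm, hy₀⟩ := wild_sizes hlt hsz hx
  have hn0 : n ≠ 0 := by rw [← hcsx]; exact cs_ne_zero x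
  have hn0' : 0 < n := Nat.pos_of_ne_zero hn0
  have hnpp : ¬ PP k := fun hk => wild_not_pp hlt hsz h3 hn0 hm hk
  have hPK := wild_hyp hlt hsz h3 hx hk1 hm hy₀ hnpp
  have hpk : p ∣ k := wild_dvd hlt hsz hx hm hnpp
  obtain ⟨hp, hxq, hxn, -⟩ := id hx
  by_cases hother : ∃ (p₂ : ℕ) (x₂ : G), p₂ ≠ p ∧ Wild p₂ x₂
  · obtain ⟨p₂, x₂, hne, hx₂⟩ := hother
    obtain ⟨hcsx₂, k₂, hk₂1, hm₂, hy₂⟩ := wild_sizes hlt hsz hx₂
    obtain rfl : k₂ = k := Nat.eq_of_mul_eq_mul_left hn0' (hm₂.symm.trans hm)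
    have hPK₂ := wild_hyp hlt hsz h3 hx₂ hk1 hm hy₀ hnpp
    have hp₂k : p₂ ∣ k₂ := wild_dvd hlt hsz hx₂ hm hnpp
    obtain ⟨hp₂, hxq₂, hxn₂, -⟩ := id hx₂
    have θ₁ : ThetaP G p p₂ := ⟨hp₂, hne, x₂, hxq₂, hxn₂⟩
    have θ₂ : ThetaP G p₂ p := ⟨hp, hne.symm, x, hxq, hxn⟩
    have a := hPK₂.val_one θ₂ hpk
    have b := hPK.val_one θ₁ hp₂k
    have c := hPK.final θ₁ hp₂k a.le
    have d := hPK₂.final θ₂ hpk b.le
    omega
  · push Not at hother
    have htame : ∀ (q t : ℕ) (y v : G), ThetaP G p q → t.Prime → t ≠ q → QE q y → y ∉ center G →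
        QE t v → v ∈ Cn y → ∀ g ∈ Cn y, g * v = v * g := by
      intro q t y v hq ht htq hy hyn hv hvC g hg
      by_contra hc
      exact hother q y hq.2.1 ⟨hq.1, hy, hyn, t, v, ht, htq, hv, hvC, g, hg, hc⟩
    obtain ⟨q, hqp, hq1, -, hqe⟩ := h3 p p
    have hq : ThetaP G p q := ⟨hqp, hq1, hqe⟩
    obtain ⟨t, ht, htq⟩ := hPK.more q hq
    haveI : Fact q.Prime := ⟨hqp⟩
    haveI : Fact t.Prime := ⟨ht.1⟩
    obtain ⟨v, hv, hvn⟩ := hPK.ex q hq
    obtain ⟨d, hdC, hd, hdn⟩ := hPK.two' hq ht hv hvn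
    have hvG : QE q (v : G) := qe_subtype.1 hv
    have hdG : QE t (d : G) := qe_subtype.1 hd
    have hcen : ∀ z : Cn x, z ∉ center (Cn x) → (z : G) ∉ center G := by
      intro z hz hzc
      apply hz
      rw [mem_center_subtype]
      intro a _
      exact (mem_center_iff.1 hzc a)
    have hvGn := hcen v hvn
    have hdGn := hcen d hdn
    have hco : (orderOf x).Coprime (orderOf (v : G)) := QE.coprime_of_ne hp hqp hq1.symm hxq hvG
    have hcv : x * (v : G) = (v : G) * x := (mem_Cn.1 v.2).symm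
    have hcsm : cs (x * (v : G)) = m := by
      have h1 := relIndex_Cn_mul hcv hco
      rw [← cs_subtype, hPK.cs_eq hq hv hvn, hcsx, mul_comm k n, ← hm] at h1
      exact h1.symm
    have hdvd : ∀ g : G, g ∉ center G → cs g ∣ m := by
      intro g hg
      rcases hsz g hg with h1 | h1
      · rw [h1, hm]; exact dvd_mul_right _ _
      · rw [h1]
    have hZL : center G ≤ Cn (x * (v : G)) := fun a ha => mem_Cn.2 (mem_center_iff.1 ha _).symm
    have hLinf : Cn (x * (v : G)) = Cn x ⊓ Cn (v : G) := Cn_mul hcv hco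
    -- every noncentral element has noncentral elements of each prime in its centralizer
    have keyA : ∀ g : G, g ∉ center G → ∀ ρ, ThetaP G p ρ →
        ∃ f ∈ Cn g, QE ρ f ∧ f ∉ center G := by
      intro g hg ρ hρ
      haveI : Fact ρ.Prime := ⟨hρ.1⟩
      obtain ⟨f, hf, hfq, hfn⟩ : ∃ f ∈ Cn (x * (v : G)), QE ρ f ∧ f ∉ center G := by
        obtain ⟨f, hfC, hfq, hfn⟩ := hPK.two' hq hρ hv hvn
        refine ⟨(f : G), ?_, qe_subtype.1 hfq, hcen f hfn⟩
        rw [hLinf]
        refine ⟨f.2, ?_⟩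
        exact mem_Cn.2 (congrArg Subtype.val (mem_Cn.1 hfC))
      apply exists_noncentral_of_vq_lt
      refine lt_of_lt_of_le (vq_lt_of_noncentral hZL hf hfq hfn) ?_
      apply vq_le_of_dvd
      rw [hcsm]
      exact hdvd g hg
    have hCS : CS (ThetaP G p) G := by
      apply cs_of_tame (fun q hq => hq.1)
      · intro q t u w hq ht htq hu hun hw hwC g hg
        exact htame q t u w hq ht.1 htq hu hun hw hwC g hg
      · intro q u hq hu hun
        obtain ⟨t, ht, htq⟩ := hPK.more q hq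
        obtain ⟨f, hfC, hfq, hfn⟩ := keyA u hun t ht
        exact ⟨t, f, ht, htq, hfq, hfn, (mem_Cn.1 hfC).symm⟩
    have hCv : Cn (v : G) = Cn (x * (v : G)) := by
      rw [hLinf]
      apply le_antisymm
      · intro g hg
        refine ⟨?_, hg⟩
        have := htame q p (v : G) x hq hp hq1.symm hvG hvGn hxq (mem_Cn.2 hcv) g hg
        exact mem_Cn.2 this
      · exact inf_le_right
    have hcd : (v : G) * (d : G) = (d : G) * (v : G) :=
      congrArg Subtype.val (mem_Cn.1 hdC).symm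
    refine ending hCS hq ht htq.symm hvG hvGn hdG hdGn hcd (fun g hg => ?_)
    have h1 : cs g ∣ cs (v : G) := by
      show cs g ∣ (Cn (v : G)).index
      rw [hCv]
      show cs g ∣ cs (x * (v : G))
      rw [hcsm]
      exact hdvd g hg
    exact ⟨vq_le_of_dvd h1, vq_le_of_dvd h1⟩

end GLevel

end Cfsg.Agent.Lib.ItoWild
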