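import Mathlib
import Cfsg.Agent.Lib.PCore
import Cfsg.Agent.Lib.PComplement
import Cfsg.Agent.Lib.Hall
import Cfsg.Agent.Lib.BurnsidePQ
import Cfsg.Agent.Lib.Factorized
import Cfsg.Agent.Lib.Glauberman2
import Cfsg.Agent.S0566
import Cfsg.Agent.S0577

/-!
# Wielandt's theorem on products of nilpotent groups of coprime orders: basics.
-/

set_option autoImplicit false
set_option linter.style.haveILetI false

universe u

open Pointwise

namespace Cfsg.Agent.Lib.Wielandt

open Subgroup Cfsg Cfsg.Agent.Lib.PCore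
open Cfsg.Agent.Lib.Factorized (mem_conj_iff card_mul_card_inf_of_factorization)
open Cfsg.Agent.Lib.PComplement (commute_of_isNilpotent)
open Cfsg.Agent.Lib.Coprime (relIndex_mul_card_of_le)

variable {G : Type u} [Group G]

/-- `H` is the product of its intersections with `A` and `B`. -/
def Fac (A B H : Subgroup G) : Prop :=
  ∀ h ∈ H, ∃ a ∈ A, a ∈ H ∧ ∃ b ∈ B, b ∈ H ∧ h = a * b

theorem Fac.symm {A B H : Subgroup G} (h : Fac A B H) : Fac B A H := by
  intro x hx
  obtain ⟨a, ha, haH, b, hb, hbH, e⟩ := h x⁻¹ (H.inv_mem hx)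
  refine ⟨b⁻¹, B.inv_mem hb, H.inv_mem hbH, a⁻¹, A.inv_mem ha, H.inv_mem haH, ?_⟩
  rw [← mul_inv_rev, ← e, inv_inv]

/-- A subgroup containing one factor is factorized. -/
theorem fac_of_le {A B H : Subgroup G} (hf : ∀ g : G, ∃ a ∈ A, ∃ b ∈ B, g = a * b) (hAH : A ≤ H) :
    Fac A B H := by
  intro h hh
  obtain ⟨a, ha, b, hb, e⟩ := hf h
  refine ⟨a, ha, hAH ha, b, hb, ?_, e⟩
  have : b = a⁻¹ * h := by rw [e]; group
  rw [this]
  exact H.mul_mem (H.inv_mem (hAH ha)) hh

theorem fac_symm {A B : Subgroup G} (hf : ∀ g : G, ∃ a ∈ A, ∃ b ∈ B, g = a * b) :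
    ∀ g : G, ∃ b ∈ B, ∃ a ∈ A, g = b * a := by
  intro g
  obtain ⟨a, ha, b, hb, e⟩ := hf g⁻¹
  refine ⟨b⁻¹, B.inv_mem hb, a⁻¹, A.inv_mem ha, ?_⟩
  rw [← mul_inv_rev, ← e, inv_inv]

/-- The elements of `r`-power order of a nilpotent group `A`. -/
def part (A : Subgroup G) (r : ℕ) : Subgroup G := (pCore r A).map A.subtype

variable [Finite G]

section part

variable {A : Subgroup G}

theorem part_le (r : ℕ) : part A r ≤ A := by
  rintro _ ⟨y, -, rfl⟩
  exact y.2

theorem isPGroup_part (r : ℕ) [Fact r.Prime] : IsPGroup r (part A r) :=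
  (isPGroup_pCore r).map _

theorem pCore_eq_sylow (hA : Group.IsNilpotent A) (r : ℕ) [Fact r.Prime] (P : Sylow r A) :
    pCore r A = (P : Subgroup A) := by
  apply le_antisymm (pCore_le_sylow r P)
  have hN := (Group.isNilpotent_of_finite_tfae (G := A)).out 0 3 rfl rfl
  exact le_pCore (hN.1 hA r inferInstance P) P.isPGroup'

theorem mem_part (hA : Group.IsNilpotent A) {r : ℕ} [Fact r.Prime] {x : G} :
    x ∈ part A r ↔ x ∈ A ∧ ∃ k : ℕ, x ^ r ^ k = 1 := by
  constructor
  · intro hx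
    refine ⟨part_le r hx, ?_⟩
    obtain ⟨k, hk⟩ := isPGroup_part (A := A) r ⟨x, hx⟩
    exact ⟨k, congrArg Subtype.val hk⟩
  · rintro ⟨hx, k, hk⟩
    obtain ⟨P⟩ : Nonempty (Sylow r A) := inferInstance
    have hN := (Group.isNilpotent_of_finite_tfae (G := A)).out 0 3 rfl rfl
    have hPn : (P : Subgroup A).Normal := hN.1 hA r inferInstance P
    have h1 : (⟨x, hx⟩ : A) ∈ (P : Subgroup A) := by
      apply Cfsg.Agent.S0577.mem_sylow_of_pow_eq_one P hPn (k := k)
      exact Subtype.ext hk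
    refine ⟨⟨x, hx⟩, ?_, rfl⟩
    rw [pCore_eq_sylow hA r P]
    exact h1

theorem conj_mem_part (hA : Group.IsNilpotent A) {r : ℕ} [Fact r.Prime] {a x : G} (ha : a ∈ A)
    (hx : x ∈ part A r) : a * x * a⁻¹ ∈ part A r := by
  rw [mem_part hA] at hx ⊢
  obtain ⟨hxA, k, hk⟩ := hx
  refine ⟨A.mul_mem (A.mul_mem ha hxA) (A.inv_mem ha), k, ?_⟩
  rw [conj_pow, hk]
  group

theorem conj_inv_mem_part (hA : Group.IsNilpotent A) {r : ℕ} [Fact r.Prime] {a x : G} (ha : a ∈ A)
    (hx : x ∈ part A r) : a⁻¹ * x * a ∈ part A r := by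
  have := conj_mem_part hA (A.inv_mem ha) hx
  rwa [inv_inv] at this

theorem comm_part (hA : Group.IsNilpotent A) {r : ℕ} [Fact r.Prime] {x y : G}
    (hx : x ∈ part A r) (hy : y ∈ A) (hc : Nat.Coprime (orderOf y) r) : x * y = y * x := by
  obtain ⟨hxA, k, hk⟩ := (mem_part hA).1 hx
  have := commute_of_isNilpotent (G := A) (p := r) (x := ⟨x, hxA⟩) (g := ⟨y, hy⟩)
    ⟨k, Subtype.ext hk⟩ (by rwa [Subgroup.orderOf_mk])
  exact congrArg Subtype.val this

theorem coprime_orderOf_of_part (hA : Group.IsNilpotent A) {r t : ℕ} [Fact r.Prime] [Fact t.Prime]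
    (hne : t ≠ r) {y : G} (hy : y ∈ part A t) : Nat.Coprime (orderOf y) r := by
  obtain ⟨-, k, hk⟩ := (mem_part hA).1 hy
  have h1 : orderOf y ∣ t ^ k := orderOf_dvd_of_pow_eq_one hk
  have h2 : Nat.Coprime (t ^ k) r := Nat.Coprime.pow_left k
    ((Nat.coprime_primes Fact.out Fact.out).2 hne)
  exact Nat.Coprime.coprime_dvd_left h1 h2

theorem comm_part_part (hA : Group.IsNilpotent A) {r t : ℕ} [Fact r.Prime] [Fact t.Prime]
    (hne : t ≠ r) {x y : G} (hx : x ∈ part A r) (hy : y ∈ part A t) : x * y = y * x :=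
  comm_part hA hx (part_le t hy) (coprime_orderOf_of_part hA hne hy)

theorem part_ne_bot {r : ℕ} [Fact r.Prime] (hr : r ∣ Nat.card A) (hA : Group.IsNilpotent A) :
    part A r ≠ ⊥ := by
  intro h
  obtain ⟨x, hx⟩ := exists_prime_orderOf_dvd_card' r hr
  have h1 : (x : G) ∈ part A r := by
    rw [mem_part hA]
    refine ⟨x.2, 1, ?_⟩
    rw [pow_one, ← Subgroup.orderOf_coe] at *
    rw [← hx]
    exact pow_orderOf_eq_one _
  rw [h, Subgroup.mem_bot] at h1
  have h2 : x = 1 := Subtype.ext h1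
  rw [h2, orderOf_one] at hx
  exact (Fact.out : r.Prime).one_lt.ne hx

theorem not_dvd_relIndex_part (hA : Group.IsNilpotent A) (r : ℕ) [Fact r.Prime] :
    ¬ r ∣ (part A r).relIndex A := by
  obtain ⟨P⟩ : Nonempty (Sylow r A) := inferInstance
  have : (part A r).relIndex A = (P : Subgroup A).index := by
    show ((map A.subtype (pCore r A)).comap A.subtype).index = _
    rw [Subgroup.comap_map_eq_self_of_injective A.subtype_injective, pCore_eq_sylow hA r P]
  rw [this]
  exact P.not_dvd_index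

end part

/-- Coprimality gives a trivial intersection. -/
theorem eq_one_of_mem_of_coprime {A B : Subgroup G} (hc : (Nat.card A).Coprime (Nat.card B))
    {x : G} (hA : x ∈ A) (hB : x ∈ B) : x = 1 := by
  have h1 : orderOf x ∣ Nat.card A := by
    have := Subgroup.orderOf_dvd_natCard A hA
    exact this
  have h2 : orderOf x ∣ Nat.card B := Subgroup.orderOf_dvd_natCard B hB
  have := Nat.Coprime.eq_one_of_dvd (Nat.Coprime.coprime_dvd_left h1 hc) h2
  exact orderOf_eq_one_iff.1 this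

theorem card_subgroupOf_dvd (A H : Subgroup G) : Nat.card (A.subgroupOf H) ∣ Nat.card A := by
  have h1 : Nat.card (A.subgroupOf H) = Nat.card ↥(A ⊓ H) := by
    have : (A.subgroupOf H).map H.subtype = A ⊓ H := Subgroup.subgroupOf_map_subtype A H
    rw [← this]
    exact (Subgroup.card_map_of_injective H.subtype_injective).symm
  rw [h1]
  exact Subgroup.card_dvd_of_le inf_le_left

/-- In a factorized subgroup, the index of the `A`-part divides `|B|`. -/
theorem index_subgroupOf_dvd {A B H : Subgroup G} (hc : (Nat.card A).Coprime (Nat.card B))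
    (hH : Fac A B H) : (A.subgroupOf H).index ∣ Nat.card B := by
  have hf : ∀ g : H, ∃ a ∈ A.subgroupOf H, ∃ b ∈ B.subgroupOf H, g = a * b := by
    rintro ⟨g, hg⟩
    obtain ⟨a, ha, haH, b, hb, hbH, e⟩ := hH g hg
    exact ⟨⟨a, haH⟩, ha, ⟨b, hbH⟩, hb, Subtype.ext e⟩
  have h1 := card_mul_card_inf_of_factorization hf
  have hbot : A.subgroupOf H ⊓ B.subgroupOf H = ⊥ := by
    rw [eq_bot_iff]
    rintro ⟨x, hx⟩ ⟨hxA, hxB⟩
    exact Subtype.ext (eq_one_of_mem_of_coprime hc hxA hxB)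
  rw [hbot, Subgroup.card_bot, mul_one] at h1
  have h2 := (A.subgroupOf H).card_mul_index
  rw [h1] at h2
  have h3 : 0 < Nat.card (A.subgroupOf H) := Nat.card_pos
  have h4 := Nat.eq_of_mul_eq_mul_left h3 h2
  rw [h4]
  exact card_subgroupOf_dvd B H

/-- The working context: a minimal counterexample. -/
structure WCtx (A B : Subgroup G) : Prop where
  nilA : Group.IsNilpotent A
  nilB : Group.IsNilpotent B
  cop : (Nat.card A).Coprime (Nat.card B)
  fac : ∀ g : G, ∃ a ∈ A, ∃ b ∈ B, g = a * b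
  simple : IsSimpleGroup G
  ns : ¬ Group.IsSolvable G
  ih : ∀ H : Subgroup G, H ≠ ⊤ → Fac A B H → Group.IsSolvable H

namespace WCtx

variable {A B : Subgroup G}

theorem symm (W : WCtx A B) : WCtx B A where
  nilA := W.nilB
  nilB := W.nilA
  cop := W.cop.symm
  fac := fac_symm W.fac
  simple := W.simple
  ns := W.ns
  ih := fun H hH hf => W.ih H hH hf.symm

theorem eq_one (W : WCtx A B) {x : G} (hA : x ∈ A) (hB : x ∈ B) : x = 1 :=
  eq_one_of_mem_of_coprime W.cop hA hB

theorem card_eq (W : WCtx A B) : Nat.card G = Nat.card A * Nat.card B := by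
  have h1 := card_mul_card_inf_of_factorization W.fac
  have hbot : A ⊓ B = ⊥ := by
    rw [eq_bot_iff]
    rintro x ⟨hxA, hxB⟩
    exact W.eq_one hxA hxB
  rwa [hbot, Subgroup.card_bot, mul_one] at h1

theorem index_eq (W : WCtx A B) : A.index = Nat.card B := by
  have h2 := A.card_mul_index
  rw [W.card_eq] at h2
  exact Nat.eq_of_mul_eq_mul_left Nat.card_pos h2

/-- `A_r` has index prime to `r`. -/
theorem not_dvd_index (W : WCtx A B) {r : ℕ} [Fact r.Prime] (hr : r ∣ Nat.card A) :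
    ¬ r ∣ (part A r).index := by
  intro h
  rw [← Subgroup.relIndex_mul_index (part_le r), W.index_eq] at h
  rcases (Fact.out : r.Prime).dvd_mul.1 h with h | h
  · exact not_dvd_relIndex_part W.nilA r h
  · have := Nat.Coprime.eq_one_of_dvd ((Nat.Coprime.coprime_dvd_left hr W.cop)) h
    exact (Fact.out : r.Prime).one_lt.ne' this

/-- A nontrivial factor. -/
theorem ne_bot_right (W : WCtx A B) : B ≠ ⊥ := by
  rintro rfl
  apply W.ns
  have hs : Function.Surjective A.subtype := by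
    intro g
    obtain ⟨a, ha, b, hb, e⟩ := W.fac g
    rw [Subgroup.mem_bot] at hb
    exact ⟨⟨a, ha⟩, by simp [e, hb]⟩
  haveI := W.nilA
  exact Group.isSolvable_of_surjective hs

theorem ne_bot_left (W : WCtx A B) : A ≠ ⊥ := W.symm.ne_bot_right

theorem not_isSimple_comm (W : WCtx A B) : ¬ (Nat.card G).Prime := by
  intro h
  haveI : Fact (Nat.card G).Prime := ⟨h⟩
  haveI := isCyclic_of_prime_card (α := G) rfl
  letI : CommGroup G := IsCyclic.commGroup
  exact W.ns inferInstance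

/-- Neither factor is a group of prime power order. -/
theorem not_isPGroup (W : WCtx A B) (p : ℕ) [Fact p.Prime] : ¬ IsPGroup p A := by
  intro hp
  haveI := W.nilB
  haveI : Nontrivial B := (Subgroup.nontrivial_iff_ne_bot B).2 W.ne_bot_right
  have hc := Group.IsNilpotent.center_ne_bot (G := B)
  obtain ⟨⟨y, hy⟩, hy1⟩ := (Subgroup.ne_bot_iff_exists_ne_one).1 hc
  have hy2 : (y : B) ≠ 1 := fun h => hy1 (Subtype.ext h)
  have hy3 : (y : G) ≠ 1 := fun h => hy2 (Subtype.ext h)
  obtain ⟨k, hk⟩ := IsPGroup.iff_card.1 hp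
  have hle : B ≤ centralizer ({(y : G)} : Set G) := by
    intro b hb
    rw [mem_centralizer_iff]
    intro z hz
    rw [Set.mem_singleton_iff] at hz
    subst hz
    have := (Subgroup.mem_center_iff.1 hy) ⟨b, hb⟩
    exact (congrArg Subtype.val this).symm
  have hd : (centralizer ({(y : G)} : Set G)).index ∣ p ^ k := by
    rw [← hk, ← W.symm.index_eq]
    exact Subgroup.index_dvd_of_le hle
  obtain ⟨j, -, hj⟩ := (Nat.dvd_prime_pow (Fact.out : p.Prime)).1 hd
  haveI := W.simple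
  exact W.not_isSimple_comm
    (Cfsg.Agent.Lib.BurnsidePQ.prime_card_of_class_prime_pow p j Fact.out (y : G) hy3 hj)

/-- There is a second prime divisor. -/
theorem exists_other_prime (W : WCtx A B) (r : ℕ) [Fact r.Prime] :
    ∃ t : ℕ, t.Prime ∧ t ≠ r ∧ t ∣ Nat.card A := by
  by_contra hcon
  push Not at hcon
  apply W.not_isPGroup r
  rw [IsPGroup.iff_card]
  have hne : Nat.card A ≠ 0 := Nat.card_pos.ne'
  exact ⟨_, Nat.eq_prime_pow_of_unique_prime_dvd hne (fun {d} hd hdA => by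
    by_contra hdr
    exact hcon d hd hdr hdA)⟩

end WCtx

/-! ### Conjugation helpers -/

theorem mem_normalizer_of_forall_conj {H : Subgroup G} {n : G} (h : ∀ x ∈ H, n * x * n⁻¹ ∈ H) :
    n ∈ normalizer (H : Set G) := by
  have hle : MulAut.conj n⁻¹ • H ≥ H := by
    intro x hx
    rw [mem_conj_iff, inv_inv]
    exact h x hx
  have hcard : Nat.card ↥(MulAut.conj n⁻¹ • H) = Nat.card H :=
    Nat.card_congr (Subgroup.equivSMul (MulAut.conj n⁻¹) H).symm.toEquiv
  have heq : H = MulAut.conj n⁻¹ • H := Subgroup.eq_of_le_of_card_ge hle hcard.le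
  rw [Subgroup.mem_normalizer_iff]
  intro x
  constructor
  · exact h x
  · intro hx
    have h2 : n * x * n⁻¹ ∈ MulAut.conj n⁻¹ • H := by rw [← heq]; exact hx
    rw [mem_conj_iff] at h2
    have : x = n⁻¹ * (n * x * n⁻¹) * n := by group
    rw [heq, mem_conj_iff, inv_inv]
    have e : n * x * n⁻¹ ∈ H := hx
    exact e

theorem conj_mem_of_mem_normalizer {H : Subgroup G} {n x : G} (hn : n ∈ normalizer (H : Set G))
    (hx : x ∈ H) : n * x * n⁻¹ ∈ H :=
  (Subgroup.mem_normalizer_iff.1 hn x).1 hx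

theorem conj_inv_mem_of_mem_normalizer {H : Subgroup G} {n x : G} (hn : n ∈ normalizer (H : Set G))
    (hx : x ∈ H) : n⁻¹ * x * n ∈ H := by
  have := conj_mem_of_mem_normalizer (Subgroup.inv_mem _ hn) hx
  rwa [inv_inv] at this

theorem mem_normalizer_of_forall_conj_inv {H : Subgroup G} {n : G} (h : ∀ x ∈ H, n⁻¹ * x * n ∈ H) :
    n ∈ normalizer (H : Set G) := by
  have : n⁻¹ ∈ normalizer (H : Set G) := mem_normalizer_of_forall_conj (by
    intro x hx
    rw [inv_inv]
    exact h x hx)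
  simpa using Subgroup.inv_mem _ this

/-- A `p`-subgroup of `C` can be conjugated inside `C` into a subgroup of `C` of index prime to `p`. -/
theorem exists_conj_in {C T U : Subgroup G} {p : ℕ} [Fact p.Prime] (hU : U ≤ C)
    (hUp : IsPGroup p U) (hd : ¬ p ∣ T.relIndex C) :
    ∃ l ∈ C, ∀ u ∈ U, l⁻¹ * u * l ∈ T := by
  have hU' : IsPGroup p (U.subgroupOf C) := by
    have : U.subgroupOf C ≤ ⊤ := le_top
    have e : U.subgroupOf C ≃* U := Subgroup.subgroupOfEquivOfLe hU
    exact IsPGroup.of_equiv hUp e.symm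
  obtain ⟨g, hg⟩ := Cfsg.Agent.Lib.Hall.exists_conj_le_of_not_dvd_index (H := T.subgroupOf C) hU' hd
  refine ⟨g, g.2, fun u hu => ?_⟩
  have h1 : (⟨u, hU hu⟩ : C) ∈ U.subgroupOf C := hu
  have h2 := hg h1
  rw [mem_conj_iff] at h2
  exact h2

theorem not_dvd_relIndex_of_not_dvd_index {T C : Subgroup G} {p : ℕ} (hT : T ≤ C) (hd : ¬ p ∣ T.index) :
    ¬ p ∣ T.relIndex C := by
  intro h
  apply hd
  rw [← Subgroup.relIndex_mul_index hT]
  exact Dvd.dvd.mul_right h _

/-- `P ⊔ Q` for `P ⊲ A`, `Q ⊲ B`: the normalizer is factorized. -/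
theorem mem_normalizer_sup {A B P Q : Subgroup G}
    (hP : ∀ a ∈ A, ∀ x ∈ P, a * x * a⁻¹ ∈ P) (hQ : ∀ b ∈ B, ∀ y ∈ Q, b⁻¹ * y * b ∈ Q)
    {a b : G} (ha : a ∈ A) (hb : b ∈ B) (hn : a * b ∈ normalizer ((P ⊔ Q : Subgroup G) : Set G)) :
    a ∈ normalizer ((P ⊔ Q : Subgroup G) : Set G) ∧ b ∈ normalizer ((P ⊔ Q : Subgroup G) : Set G) := by
  set H := P ⊔ Q with hH
  have hle : H ≤ MulAut.conj b • H := by
    apply sup_le
    · intro x hx
      rw [mem_conj_iff]
      have h1 : a * x * a⁻¹ ∈ H := Subgroup.mem_sup_left (hP a ha x hx)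
      have h2 := conj_inv_mem_of_mem_normalizer hn h1
      have e : (a * b)⁻¹ * (a * x * a⁻¹) * (a * b) = b⁻¹ * x * b := by group
      rwa [e] at h2
    · intro y hy
      rw [mem_conj_iff]
      exact Subgroup.mem_sup_right (hQ b hb y hy)
  have hcard : Nat.card ↥(MulAut.conj b • H) = Nat.card H :=
    Nat.card_congr (Subgroup.equivSMul (MulAut.conj b) H).symm.toEquiv
  have heq : H = MulAut.conj b • H := Subgroup.eq_of_le_of_card_ge hle hcard.le
  have hbn : b ∈ normalizer (H : Set G) := by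
    apply mem_normalizer_of_forall_conj_inv
    intro x hx
    rw [heq] at hx
    exact mem_conj_iff.1 hx
  refine ⟨?_, hbn⟩
  have : a = a * b * b⁻¹ := by group
  rw [this]
  exact Subgroup.mul_mem _ hn (Subgroup.inv_mem _ hbn)

theorem isSolvable_of_le {H K : Subgroup G} (h : H ≤ K) (hK : Group.IsSolvable K) :
    Group.IsSolvable H :=
  Group.isSolvable_of_isSolvable_injective (f := Subgroup.inclusion h) (Subgroup.inclusion_injective h)

namespace WCtx

variable {A B : Subgroup G}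

theorem normal_cases (W : WCtx A B) {H : Subgroup G} (hH : H.Normal) : H = ⊥ ∨ H = ⊤ := by
  haveI := W.simple
  exact IsSimpleGroup.eq_bot_or_eq_top_of_normal H hH

theorem normalizer_ne_top (W : WCtx A B) {H : Subgroup G} (h1 : H ≠ ⊥) (h2 : H ≠ ⊤) :
    normalizer (H : Set G) ≠ ⊤ := by
  intro h
  rcases W.normal_cases (Subgroup.normalizer_eq_top_iff.1 h) with h' | h'
  · exact h1 h'
  · exact h2 h'

theorem conj_mem_part_left (W : WCtx A B) {r : ℕ} [Fact r.Prime] {a x : G} (ha : a ∈ A)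
    (hx : x ∈ part A r) : a * x * a⁻¹ ∈ part A r := conj_mem_part W.nilA ha hx

/-- **Generation**. -/
theorem gen (W : WCtx A B) {p q : ℕ} [Fact p.Prime] [Fact q.Prime] (hp : p ∣ Nat.card A)
    (hq : q ∣ Nat.card B) : part A p ⊔ part B q = ⊤ := by
  by_contra hne
  have hPne := part_ne_bot hp W.nilA
  have hQne := part_ne_bot hq W.nilB
  set P := part A p with hP
  set Q := part B q with hQ
  set H := P ⊔ Q with hH
  have hHbot : H ≠ ⊥ := by
    intro h
    apply hPne
    rw [eq_bot_iff, ← h]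
    exact le_sup_left
  have hPA : ∀ a ∈ A, ∀ x ∈ P, a * x * a⁻¹ ∈ P := fun a ha x hx => conj_mem_part W.nilA ha hx
  have hQB : ∀ b ∈ B, ∀ y ∈ Q, b⁻¹ * y * b ∈ Q := fun b hb y hy => conj_inv_mem_part W.nilB hb hy
  have hfacN : Fac A B (normalizer (H : Set G)) := by
    intro n hn
    obtain ⟨a, ha, b, hb, e⟩ := W.fac n
    rw [e] at hn
    obtain ⟨h1, h2⟩ := mem_normalizer_sup hPA hQB ha hb hn
    exact ⟨a, ha, h1, b, hb, h2, e⟩
  have hsolN := W.ih _ (W.normalizer_ne_top hHbot hne) hfacN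
  have hsol : Group.IsSolvable H := isSolvable_of_le Subgroup.le_normalizer hsolN
  -- orders
  have hPH : P ≤ H := le_sup_left
  have hQH : Q ≤ H := le_sup_right
  have hPQbot : P ⊓ Q = ⊥ := by
    rw [eq_bot_iff]
    rintro x ⟨hx1, hx2⟩
    exact W.eq_one (part_le p hx1) (part_le q hx2)
  have hpq : p ≠ q := by
    rintro rfl
    have := Nat.Coprime.eq_one_of_dvd (Nat.Coprime.coprime_dvd_left hp W.cop) hq
    exact (Fact.out : p.Prime).one_lt.ne' this
  obtain ⟨i, hi⟩ := IsPGroup.iff_card.1 (isPGroup_part (A := A) p)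
  obtain ⟨j, hj⟩ := IsPGroup.iff_card.1 (isPGroup_part (A := B) q)
  have hcop0 : (Nat.card P).Coprime (Nat.card Q) := by
    rw [hP, hQ, hi, hj]
    exact Nat.Coprime.pow _ _ ((Nat.coprime_primes Fact.out Fact.out).2 hpq)
  have hdP : Nat.card P ∣ Nat.card H := Subgroup.card_dvd_of_le hPH
  have hdQ : Nat.card Q ∣ Nat.card H := Subgroup.card_dvd_of_le hQH
  obtain ⟨n, hn⟩ := Nat.Coprime.mul_dvd_of_dvd_of_dvd hcop0 hdP hdQ
  have hcardPpos : 0 < Nat.card P := Nat.card_pos
  have hcardQpos : 0 < Nat.card Q := Nat.card_pos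
  have hpn : ¬ p ∣ n := by
    intro h
    have h1 := W.not_dvd_index hp
    apply h1
    rw [← hP, ← Subgroup.relIndex_mul_index hPH]
    apply Dvd.dvd.mul_right
    have h2 : P.relIndex H * Nat.card P = Nat.card H := relIndex_mul_card_of_le hPH
    have h3 : P.relIndex H = Nat.card Q * n := by
      apply Nat.eq_of_mul_eq_mul_right hcardPpos
      rw [h2, hn]; ring
    rw [h3]
    exact Dvd.dvd.mul_left h _
  have hqn : ¬ q ∣ n := by
    intro h
    have h1 := W.symm.not_dvd_index hq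
    apply h1
    rw [← hQ, ← Subgroup.relIndex_mul_index hQH]
    apply Dvd.dvd.mul_right
    have h2 : Q.relIndex H * Nat.card Q = Nat.card H := relIndex_mul_card_of_le hQH
    have h3 : Q.relIndex H = Nat.card P * n := by
      apply Nat.eq_of_mul_eq_mul_right hcardQpos
      rw [h2, hn]; ring
    rw [h3]
    exact Dvd.dvd.mul_left h _
  have hcopPn : (Nat.card P).Coprime n := by
    rw [hP, hi]
    exact Nat.Coprime.pow_left _ ((Nat.Prime.coprime_iff_not_dvd Fact.out).2 hpn)
  have hcopQn : (Nat.card Q).Coprime n := by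
    rw [hQ, hj]
    exact Nat.Coprime.pow_left _ ((Nat.Prime.coprime_iff_not_dvd Fact.out).2 hqn)
  obtain ⟨⟨K₀, hK₀⟩, hconj⟩ := Cfsg.Agent.Lib.Hall.hall_main (Nat.card H) H
    (Nat.card P * Nat.card Q) n rfl hn (Nat.Coprime.mul_left hcopPn hcopQn)
  have hP' : (Nat.card (P.subgroupOf H)).Coprime n := by
    rw [Nat.card_congr (Subgroup.subgroupOfEquivOfLe hPH).toEquiv]
    exact hcopPn
  have hQ' : (Nat.card (Q.subgroupOf H)).Coprime n := by
    rw [Nat.card_congr (Subgroup.subgroupOfEquivOfLe hQH).toEquiv]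
    exact hcopQn
  obtain ⟨g, hg⟩ := hconj K₀ _ hK₀ hP'
  set K₁ := MulAut.conj g • K₀ with hK₁
  have hK₁card : Nat.card K₁ = Nat.card P * Nat.card Q := by
    rw [← hK₀]
    exact Nat.card_congr (Subgroup.equivSMul (MulAut.conj g) K₀).symm.toEquiv
  obtain ⟨h, hh⟩ := hconj K₁ _ hK₁card hQ'
  obtain ⟨b, hb, a, ha, e⟩ := fac_symm W.fac (h : G)
  set K₂ := K₁.map H.subtype with hK₂
  have hK₂card : Nat.card K₂ = Nat.card P * Nat.card Q := by
    rw [← hK₁card]
    exact Subgroup.card_map_of_injective H.subtype_injective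
  have hmemK₂ : ∀ z : H, z ∈ K₁ → (z : G) ∈ K₂ := fun z hz => ⟨z, hz, rfl⟩
  have hle : H ≤ MulAut.conj a • K₂ := by
    apply sup_le
    · intro x hx
      rw [mem_conj_iff]
      have hx' : a⁻¹ * x * a ∈ P := conj_inv_mem_part W.nilA ha hx
      have : (⟨_, hPH hx'⟩ : H) ∈ P.subgroupOf H := hx'
      exact hmemK₂ _ (hg this)
    · intro y hy
      rw [mem_conj_iff]
      have hy' : b * y * b⁻¹ ∈ Q := conj_mem_part W.nilB hb hy
      have h1 : (⟨_, hQH hy'⟩ : H) ∈ Q.subgroupOf H := hy'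
      have h2 := hh h1
      rw [mem_conj_iff] at h2
      have h3 := hmemK₂ _ h2
      have e2 : ((h⁻¹ * ⟨_, hQH hy'⟩ * h : H) : G) = a⁻¹ * y * a := by
        push_cast
        rw [e]
        group
      rwa [e2] at h3
  have hcardle : Nat.card H ≤ Nat.card P * Nat.card Q := by
    have h1 := Subgroup.card_le_of_le hle
    have h2 : Nat.card ↥(MulAut.conj a • K₂) = Nat.card K₂ :=
      Nat.card_congr (Subgroup.equivSMul (MulAut.conj a) K₂).symm.toEquiv
    rw [h2, hK₂card] at h1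
    exact h1
  have hset : (H : Set G) = (P : Set G) * (Q : Set G) := by
    have hsub : (P : Set G) * (Q : Set G) ⊆ (H : Set G) := by
      rintro _ ⟨u, hu, v, hv, rfl⟩
      exact H.mul_mem (hPH hu) (hQH hv)
    symm
    apply Set.eq_of_subset_of_ncard_le hsub _ (Set.toFinite _)
    have h1 := Cfsg.Agent.Lib.Factorized.card_mul_mul_card_inf P Q
    rw [hPQbot, Subgroup.card_bot, mul_one] at h1
    rw [← Nat.card_coe_set_eq, ← Nat.card_coe_set_eq, h1]
    exact hcardle
  obtain ⟨N, hNn, hNtop, hN⟩ := Cfsg.Agent.S0566.result P Q hPne hQne (fun x => by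
    obtain ⟨a, ha, b, hb, e⟩ := W.fac x
    refine ⟨MulAut.conj a • H, ?_, ?_⟩
    · intro htop
      apply hne
      rw [eq_top_iff]
      intro z _
      have : a * z * a⁻¹ ∈ MulAut.conj a • H := by rw [htop]; trivial
      rw [mem_conj_iff] at this
      have e2 : a⁻¹ * (a * z * a⁻¹) * a = z := by group
      rwa [e2] at this
    · ext z
      rw [SetLike.mem_coe, mem_conj_iff]
      constructor
      · intro hz
        have : a⁻¹ * z * a ∈ (H : Set G) := hz
        rw [hset] at this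
        obtain ⟨u, hu, v, hv, ev⟩ := this
        refine ⟨a * u * a⁻¹, conj_mem_part W.nilA ha hu, a * v * a⁻¹, ?_, ?_⟩
        · rw [SetLike.mem_coe, mem_conj_iff, e]
          have e2 : (a * b)⁻¹ * (a * v * a⁻¹) * (a * b) = b⁻¹ * v * b := by group
          rw [e2]
          exact conj_inv_mem_part W.nilB hb hv
        · have : z = a * (a⁻¹ * z * a) * a⁻¹ := by group
          rw [this, ← ev]
          group
      · rintro ⟨u, hu, v, hv, rfl⟩
        have h1 : a⁻¹ * u * a ∈ P := conj_inv_mem_part W.nilA ha hu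
        have hv' := mem_conj_iff.1 (SetLike.mem_coe.1 hv)
        rw [e] at hv'
        have h2 : b * ((a * b)⁻¹ * v * (a * b)) * b⁻¹ ∈ Q := conj_mem_part W.nilB hb hv'
        have e3 : b * ((a * b)⁻¹ * v * (a * b)) * b⁻¹ = a⁻¹ * v * a := by group
        rw [e3] at h2
        have : a⁻¹ * (u * v) * a = (a⁻¹ * u * a) * (a⁻¹ * v * a) := by group
        rw [this]
        exact H.mul_mem (hPH h1) (hQH h2))
  rcases W.normal_cases hNn with h | h
  · rcases hN with h' | h'
    · apply hPne; rw [eq_bot_iff, ← h]; exact h'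
    · apply hQne; rw [eq_bot_iff, ← h]; exact h'
  · exact hNtop h

/-- **(N)**: no nontrivial subgroup of `B_q` is normalized by `A_p`. -/
theorem eq_bot_of_le_part (W : WCtx A B) {p q : ℕ} [Fact p.Prime] [Fact q.Prime]
    (hp : p ∣ Nat.card A) {X : Subgroup G} (hX : X ≤ part B q)
    (hn : ∀ u ∈ part A p, ∀ x ∈ X, u * x * u⁻¹ ∈ X) : X = ⊥ := by
  obtain ⟨s, hs, hsq, hsB⟩ := W.symm.exists_other_prime q
  haveI : Fact s.Prime := ⟨hs⟩
  have hg := W.gen hp hsB
  have hnt : normalizer (X : Set G) = ⊤ := by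
    rw [eq_top_iff, ← hg]
    apply sup_le
    · intro u hu
      exact mem_normalizer_of_forall_conj (hn u hu)
    · intro v hv
      apply mem_normalizer_of_forall_conj
      intro x hx
      have := comm_part_part W.nilB hsq (hX hx) hv
      rw [← this]
      simp only [mul_inv_cancel_right]
      exact hx
  rcases W.normal_cases (Subgroup.normalizer_eq_top_iff.1 hnt) with h | h
  · exact h
  · exfalso
    apply W.ne_bot_left
    rw [eq_bot_iff]
    intro a ha
    have h1 : a ∈ X := by rw [h]; trivial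
    exact W.eq_one ha (part_le q (hX h1))

/-- A `q`-subgroup of `G` is conjugate by an element of `A` into `B_q`. -/
theorem exists_conj_le_part (W : WCtx A B) {q : ℕ} [Fact q.Prime] (hq : q ∣ Nat.card B)
    {X : Subgroup G} (hX : IsPGroup q X) : ∃ a ∈ A, ∀ x ∈ X, a⁻¹ * x * a ∈ part B q := by
  obtain ⟨g, hg⟩ := Cfsg.Agent.Lib.Hall.exists_conj_le_of_not_dvd_index hX (W.symm.not_dvd_index hq)
  obtain ⟨a, ha, b, hb, e⟩ := W.fac g
  refine ⟨a, ha, fun x hx => ?_⟩
  have h1 := mem_conj_iff.1 (hg hx)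
  rw [e] at h1
  have h2 := conj_mem_part W.nilB hb h1
  have e2 : b * ((a * b)⁻¹ * x * (a * b)) * b⁻¹ = a⁻¹ * x * a := by group
  rwa [e2] at h2

/-- **(N′)**: no nontrivial `q`-subgroup of `G` is normalized by `A_p`. -/
theorem eq_bot_of_isPGroup (W : WCtx A B) {p q : ℕ} [Fact p.Prime] [Fact q.Prime]
    (hp : p ∣ Nat.card A) (hq : q ∣ Nat.card B) {X : Subgroup G} (hX : IsPGroup q X)
    (hn : ∀ u ∈ part A p, ∀ x ∈ X, u * x * u⁻¹ ∈ X) : X = ⊥ := by
  obtain ⟨a, ha, hax⟩ := W.exists_conj_le_part hq hX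
  have key : (MulAut.conj a⁻¹ • X) = ⊥ := by
    apply W.eq_bot_of_le_part (p := p) (q := q) hp
    · intro z hz
      have h1 := mem_conj_iff.1 hz
      rw [inv_inv] at h1
      have h2 := hax _ h1
      have e : a⁻¹ * (a⁻¹⁻¹ * z * a⁻¹) * a = z := by group
      rw [inv_inv] at e
      rwa [e] at h2
    · intro u hu z hz
      rw [mem_conj_iff, inv_inv] at hz ⊢
      have h1 : a * u * a⁻¹ ∈ part A p := conj_mem_part W.nilA ha hu
      have h2 := hn _ h1 _ hz
      have e : a * u * a⁻¹ * (a * z * a⁻¹) * (a * u * a⁻¹)⁻¹ = a * (u * z * u⁻¹) * a⁻¹ := by group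
      rwa [e] at h2
  rw [eq_bot_iff]
  intro x hx
  have h1 : a⁻¹ * x * a ∈ MulAut.conj a⁻¹ • X := by
    rw [mem_conj_iff, inv_inv]
    have e : a * (a⁻¹ * x * a) * a⁻¹ = x := by group
    rwa [e]
  rw [key, Subgroup.mem_bot] at h1
  have : x = a * (a⁻¹ * x * a) * a⁻¹ := by group
  rw [Subgroup.mem_bot, this, h1]
  group

/-- An element of `G` whose powers are all commuting with `A_p` and which has `q`-power order,
`q | |B|`, is trivial. -/
theorem eq_one_of_comm (W : WCtx A B) {p : ℕ} [Fact p.Prime] (hp : p ∣ Nat.card A) {y : G}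
    (hyB : y ∈ B) (hy : ∀ u ∈ part A p, u * y = y * u) : y = 1 := by
  by_contra hne
  have hord : orderOf y ≠ 1 := fun h => hne (orderOf_eq_one_iff.1 h)
  obtain ⟨q, hq, hqd⟩ := Nat.exists_prime_and_dvd hord
  haveI : Fact q.Prime := ⟨hq⟩
  have hordy : orderOf (y ^ (orderOf y / q)) = q := orderOf_pow_orderOf_div (orderOf_pos y).ne' hqd
  set y' := y ^ (orderOf y / q) with hy'
  have hy'B : y' ∈ B := B.pow_mem hyB _
  have hqB : q ∣ Nat.card B := hordy ▸ Subgroup.orderOf_dvd_natCard B hy'B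
  have hX : IsPGroup q (zpowers y') := by
    rw [IsPGroup.iff_card, Nat.card_zpowers, hordy]
    exact ⟨1, (pow_one q).symm⟩
  have hcomm : ∀ u ∈ part A p, u * y' = y' * u := by
    intro u hu
    exact ((show Commute u y from hy u hu).pow_right _)
  have := W.eq_bot_of_isPGroup hp hqB hX (by
    intro u hu x hx
    obtain ⟨k, rfl⟩ := Subgroup.mem_zpowers_iff.1 hx
    have h1 : Commute u (y' ^ k) := (show Commute u y' from hcomm u hu).zpow_right k
    rw [h1.eq]
    simpa using hx)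
  rw [Subgroup.zpowers_eq_bot] at this
  rw [this, orderOf_one] at hordy
  exact hq.one_lt.ne hordy

/-- **`C_G(A_p) ≤ A`**. -/
theorem centralizer_part_le (W : WCtx A B) {p : ℕ} [Fact p.Prime] (hp : p ∣ Nat.card A) {g : G}
    (hg : ∀ u ∈ part A p, u * g = g * u) : g ∈ A := by
  obtain ⟨a, ha, b, hb, e⟩ := W.fac g
  have hact : ∀ x ∈ part A p, b * x * b⁻¹ = a⁻¹ * x * a := by
    intro x hx
    have := hg x hx
    rw [e] at this
    have e2 : b * x * b⁻¹ = a⁻¹ * (a * b * x) * b⁻¹ := by group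
    rw [e2, ← this]
    group
  have hiter : ∀ n : ℕ, ∀ x ∈ part A p, b ^ n * x * (b ^ n)⁻¹ = (a ^ n)⁻¹ * x * a ^ n := by
    intro n
    induction n with
    | zero => intro x _; simp
    | succ n ih =>
      intro x hx
      have h1 := ih x hx
      have h2 : (a ^ n)⁻¹ * x * a ^ n ∈ part A p :=
        conj_inv_mem_part W.nilA (A.pow_mem ha n) hx
      have h3 := hact _ h2
      rw [← h1] at h3
      calc b ^ (n + 1) * x * (b ^ (n + 1))⁻¹ = b * (b ^ n * x * (b ^ n)⁻¹) * b⁻¹ := by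
            rw [pow_succ', mul_inv_rev]; group
        _ = a⁻¹ * (b ^ n * x * (b ^ n)⁻¹) * a := h3
        _ = a⁻¹ * ((a ^ n)⁻¹ * x * a ^ n) * a := by rw [h1]
        _ = (a ^ (n + 1))⁻¹ * x * a ^ (n + 1) := by
            rw [pow_succ, mul_inv_rev]; group
  have hcop : (orderOf b).Coprime (orderOf a) :=
    Nat.Coprime.coprime_dvd_left (Subgroup.orderOf_dvd_natCard B hb)
      (Nat.Coprime.coprime_dvd_right (Subgroup.orderOf_dvd_natCard A ha) W.cop.symm)
  obtain ⟨n, hn0, hn1⟩ := Nat.chineseRemainder hcop 0 1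
  have hbn : b ^ n = 1 := orderOf_dvd_iff_pow_eq_one.1 ((Nat.modEq_zero_iff_dvd).1 hn0)
  have han : a ^ n = a := by
    have := (pow_eq_pow_iff_modEq (x := a) (n := n) (m := 1)).2 hn1
    rwa [pow_one] at this
  have hcomma : ∀ x ∈ part A p, a⁻¹ * x * a = x := by
    intro x hx
    have := hiter n x hx
    rw [hbn, han] at this
    simpa using this.symm
  have hb1 : b = 1 := by
    apply W.symm.symm.eq_one_of_comm hp hb
    intro u hu
    have h1 := hact u hu
    rw [hcomma u hu] at h1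
    have : b * u = u * b := by
      calc b * u = b * u * b⁻¹ * b := by group
        _ = u * b := by rw [h1]
    exact this.symm
  rw [e, hb1, mul_one]
  exact ha

/-- `N_G(A_p) = N_G(A)`. -/
theorem normalizer_part (W : WCtx A B) {p : ℕ} [Fact p.Prime] (hp : p ∣ Nat.card A) :
    normalizer (part A p : Set G) = normalizer (A : Set G) := by
  apply le_antisymm
  · intro n hn
    apply mem_normalizer_of_forall_conj
    intro a ha
    obtain ⟨u, v, e, hu, hv, ⟨k, hk⟩, hc⟩ := Cfsg.Agent.Lib.PComplement.exists_decomp p a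
    have hz : zpowers a ≤ A := by
      rw [Subgroup.zpowers_le]; exact ha
    have huP : u ∈ part A p := (mem_part W.nilA).2 ⟨hz hu, k, hk⟩
    have hvc : ∀ x ∈ part A p, x * v = v * x := fun x hx => comm_part W.nilA hx (hz hv) hc
    have h1 : n * u * n⁻¹ ∈ part A p := conj_mem_of_mem_normalizer hn huP
    have h2 : n * v * n⁻¹ ∈ A := by
      apply W.centralizer_part_le hp
      intro x hx
      have hx' := conj_inv_mem_of_mem_normalizer hn hx
      have h3 := hvc _ hx'
      calc x * (n * v * n⁻¹) = n * ((n⁻¹ * x * n) * v) * n⁻¹ := by group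
        _ = n * (v * (n⁻¹ * x * n)) * n⁻¹ := by rw [h3]
        _ = n * v * n⁻¹ * x := by group
    have e2 : n * a * n⁻¹ = (n * u * n⁻¹) * (n * v * n⁻¹) := by rw [e]; group
    rw [e2]
    exact A.mul_mem (part_le p h1) h2
  · intro n hn
    apply mem_normalizer_of_forall_conj
    intro x hx
    obtain ⟨hxA, k, hk⟩ := (mem_part W.nilA).1 hx
    rw [mem_part W.nilA]
    refine ⟨conj_mem_of_mem_normalizer hn hxA, k, ?_⟩
    rw [conj_pow, hk]
    group

/-- **Fusion** in `A_r` is controlled by `N_G(A)`. -/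
theorem fusion (W : WCtx A B) {r : ℕ} [Fact r.Prime] {x g : G}
    (hx : x ∈ part A r) (hxg : g⁻¹ * x * g ∈ part A r) :
    ∃ n ∈ normalizer (A : Set G), n⁻¹ * x * n = g⁻¹ * x * g := by
  obtain ⟨p, hp, hpr, hpA⟩ := W.exists_other_prime r
  haveI : Fact p.Prime := ⟨hp⟩
  set x' := g⁻¹ * x * g with hx'
  have hPC : part A p ≤ centralizer ({x'} : Set G) := by
    intro u hu
    rw [mem_centralizer_iff]
    rintro z rfl
    exact (comm_part_part W.nilA hpr hxg hu)
  set U := (part A p).map (MulAut.conj g⁻¹).toMonoidHom with hU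
  have hUC : U ≤ centralizer ({x'} : Set G) := by
    rintro _ ⟨u, hu, rfl⟩
    rw [mem_centralizer_iff]
    rintro z rfl
    have h1 : x * u = u * x := comm_part_part W.nilA hpr hx hu
    simp only [MulEquiv.coe_toMonoidHom, MulAut.conj_apply, inv_inv, hx']
    calc g⁻¹ * x * g * (g⁻¹ * u * g) = g⁻¹ * (x * u) * g := by group
      _ = g⁻¹ * (u * x) * g := by rw [h1]
      _ = g⁻¹ * u * g * (g⁻¹ * x * g) := by group
  have hUp : IsPGroup p U := (isPGroup_part p).map _
  obtain ⟨l, hl, hlu⟩ := exists_conj_in hUC hUp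
    (not_dvd_relIndex_of_not_dvd_index hPC (W.not_dvd_index hpA))
  refine ⟨g * l, ?_, ?_⟩
  · rw [← W.normalizer_part hpA]
    apply mem_normalizer_of_forall_conj_inv
    intro u hu
    have h1 := hlu (g⁻¹ * u * g) ⟨u, hu, by simp⟩
    have e : (g * l)⁻¹ * u * (g * l) = l⁻¹ * (g⁻¹ * u * g) * l := by group
    rw [e]
    exact h1
  · have hl' : x' * l = l * x' := (mem_centralizer_iff.1 hl x' rfl)
    have e : (g * l)⁻¹ * x * (g * l) = l⁻¹ * x' * l := by rw [hx']; group
    rw [e, mul_assoc, hl']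
    group

end WCtx

end Cfsg.Agent.Lib.Wielandt
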