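import Mathlib
import Cfsg.Agent.Lib.Wielandt1

/-!
# Wielandt's theorem: factorized proper subgroups containing `A_p` normalize it.
-/

set_option autoImplicit false
set_option linter.style.haveILetI false

universe u

open Pointwise
open scoped commutatorElement

namespace Cfsg.Agent.Lib.Wielandt2

open Subgroup Cfsg Cfsg.Agent.Lib.PCore Cfsg.Agent.Lib.Wielandt
open Cfsg.Agent.Lib.Factorized (mem_conj_iff card_mul_card_inf_of_factorization)
open Cfsg.Agent.Lib.PComplement (exists_decomp)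
open Cfsg.Agent.Lib.Coprime (relIndex_mul_card_of_le)

section chain

variable {Γ : Type*} [Group Γ]

/-- The stability group of a chain of normal subgroups. -/
def stab (C : ℕ → Subgroup Γ) (hC : ∀ i, (C i).Normal) : Subgroup Γ where
  carrier := {g | ∀ i, ∀ x ∈ C (i + 1), x⁻¹ * g⁻¹ * x * g ∈ C i}
  one_mem' := by
    intro i x _
    simp [(C i).one_mem]
  mul_mem' := by
    intro g h hg hh i x hx
    have e : x⁻¹ * (g * h)⁻¹ * x * (g * h) =
        (x⁻¹ * h⁻¹ * x * h) * (h⁻¹ * (x⁻¹ * g⁻¹ * x * g) * h) := by group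
    rw [e]
    refine (C i).mul_mem (hh i x hx) ?_
    have := (hC i).conj_mem _ (hg i x hx) h⁻¹
    rwa [inv_inv] at this
  inv_mem' := by
    intro g hg i x hx
    have h1 : g * x * g⁻¹ ∈ C (i + 1) := (hC (i + 1)).conj_mem x hx g
    have h2 := (C i).inv_mem (hg i _ h1)
    have e : ((g * x * g⁻¹)⁻¹ * g⁻¹ * (g * x * g⁻¹) * g)⁻¹ = x⁻¹ * g⁻¹⁻¹ * x * g⁻¹ := by group
    rwa [e] at h2

theorem mem_stab {C : ℕ → Subgroup Γ} {hC : ∀ i, (C i).Normal} {g : Γ} :
    g ∈ stab C hC ↔ ∀ i, ∀ x ∈ C (i + 1), x⁻¹ * g⁻¹ * x * g ∈ C i := Iff.rfl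

theorem stab_normal (C : ℕ → Subgroup Γ) (hC : ∀ i, (C i).Normal) : (stab C hC).Normal := by
  constructor
  intro g hg l i x hx
  have h1 : l⁻¹ * x * l ∈ C (i + 1) := by
    have := (hC (i + 1)).conj_mem x hx l⁻¹
    rwa [inv_inv] at this
  have h2 := (hC i).conj_mem _ (hg i _ h1) l
  have e : x⁻¹ * (l * g * l⁻¹)⁻¹ * x * (l * g * l⁻¹) =
      l * ((l⁻¹ * x * l)⁻¹ * g⁻¹ * (l⁻¹ * x * l) * g) * l⁻¹ := by group
  rw [e]
  exact h2

/-- `p'`-elements of the stability group centralize the chain. -/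
theorem stab_coprime {C : ℕ → Subgroup Γ} {hC : ∀ i, (C i).Normal} (h0 : C 0 = ⊥) {p : ℕ}
    (hp : ∀ i, ∀ x ∈ C i, ∃ k : ℕ, x ^ p ^ k = 1) {y : Γ} (hy : y ∈ stab C hC)
    (hc : Nat.Coprime (orderOf y) p) [Finite Γ] : ∀ i, ∀ x ∈ C i, y⁻¹ * x * y = x := by
  intro i
  induction i with
  | zero =>
    intro x hx
    rw [h0, Subgroup.mem_bot] at hx
    simp [hx]
  | succ i ih =>
    intro x hx
    set c := x⁻¹ * y⁻¹ * x * y with hc'
    have hcC : c ∈ C i := hy i x hx
    have hyc : y⁻¹ * c * y = c := ih c hcC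
    have hyx : y⁻¹ * x * y = x * c := by rw [hc']; group
    have hpow : ∀ k : ℕ, (y ^ k)⁻¹ * x * y ^ k = x * c ^ k := by
      intro k
      induction k with
      | zero => simp
      | succ k ihk =>
        have hyck : y⁻¹ * c ^ k * y = c ^ k := by
          have hcomm : Commute y c := by
            have : y * c = c * y := by
              calc y * c = y * (y⁻¹ * c * y) := by rw [hyc]
                _ = c * y := by group
            exact this
          have h2 : Commute y (c ^ k) := hcomm.pow_right k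
          have : y * c ^ k = c ^ k * y := h2
          rw [mul_assoc, ← this]
          group
        calc (y ^ (k + 1))⁻¹ * x * y ^ (k + 1) = y⁻¹ * ((y ^ k)⁻¹ * x * y ^ k) * y := by
              rw [pow_succ, mul_inv_rev]; group
          _ = y⁻¹ * (x * c ^ k) * y := by rw [ihk]
          _ = (y⁻¹ * x * y) * (y⁻¹ * c ^ k * y) := by group
          _ = x * c ^ (k + 1) := by rw [hyx, hyck, pow_succ']; group
    have h1 := hpow (orderOf y)
    rw [pow_orderOf_eq_one] at h1
    simp only [inv_one, one_mul, mul_one] at h1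
    have h2 : c ^ orderOf y = 1 := by
      have : x * 1 = x * c ^ orderOf y := by rw [mul_one]; exact h1
      exact (mul_left_cancel this).symm
    obtain ⟨k, hk⟩ := hp i c hcC
    have h3 : orderOf c ∣ orderOf y := orderOf_dvd_of_pow_eq_one h2
    have h4 : orderOf c ∣ p ^ k := orderOf_dvd_of_pow_eq_one hk
    have h5 : orderOf c = 1 :=
      Nat.eq_one_of_dvd_coprimes (Nat.Coprime.pow_right k hc) h3 h4
    have h6 : c = 1 := orderOf_eq_one_iff.1 h5
    rw [hyx, h6, mul_one]

/-- If all `p'`-elements lie in the normal subgroup `K`, then `K` is supplemented by any subgroup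
of index prime to `p`. -/
theorem exists_mul_of_pPrime_mem [Finite Γ] {p : ℕ} [Fact p.Prime] (P K : Subgroup Γ) [K.Normal]
    (hP : ¬ p ∣ P.index) (hK : ∀ y : Γ, Nat.Coprime (orderOf y) p → y ∈ K) (w : Γ) :
    ∃ u ∈ P, ∃ c ∈ K, w = u * c := by
  have hQ : IsPGroup p (Γ ⧸ K) := by
    intro q
    induction q using QuotientGroup.induction_on with
    | H w =>
      obtain ⟨u, v, e, -, -, ⟨k, hk⟩, hc⟩ := exists_decomp p w
      refine ⟨k, ?_⟩
      have hv : v ∈ K := hK v hc
      have : (w : Γ ⧸ K) = (u : Γ ⧸ K) := by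
        rw [e, QuotientGroup.eq]
        simpa using K.inv_mem hv
      rw [this, ← QuotientGroup.mk_pow, hk, QuotientGroup.mk_one]
  obtain ⟨k, hk⟩ := IsPGroup.iff_card.1 hQ
  have hidx : K.index = p ^ k := by
    rw [Subgroup.index_eq_card]
    exact hk
  set T := P ⊔ K with hT
  have h1 : T.index ∣ p ^ k := hidx ▸ Subgroup.index_dvd_of_le le_sup_right
  have h2 : T.index ∣ P.index := Subgroup.index_dvd_of_le le_sup_left
  obtain ⟨j, -, hj⟩ := (Nat.dvd_prime_pow (Fact.out : p.Prime)).1 h1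
  have hj0 : j = 0 := by
    by_contra hne
    apply hP
    rw [hj] at h2
    exact (dvd_pow_self p hne).trans h2
  rw [hj0, pow_zero, Subgroup.index_eq_one] at hj
  have hw : w ∈ T := by rw [hj]; trivial
  have hw' : w ∈ ((P ⊔ K : Subgroup Γ) : Set Γ) := hw
  rw [Subgroup.mul_normal] at hw'
  obtain ⟨u, hu, c, hc, e⟩ := hw'
  exact ⟨u, hu, c, hc, e.symm⟩

/-- The abstract main lemma: the image of `P` in `Γ / C_Γ(J)` is normal. -/
theorem exists_mul_centralizer [Finite Γ] {p : ℕ} [Fact p.Prime] (P J : Subgroup Γ)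
    (C : ℕ → Subgroup Γ) (hC : ∀ i, (C i).Normal) (h0 : C 0 = ⊥) (c : ℕ) (hc : C c = J)
    (hle : ∀ i, C i ≤ J) (hJ : IsPGroup p J) (hJn : J.Normal) (hP : ¬ p ∣ P.index)
    (hst : ∀ u ∈ P, ∀ i, ∀ x ∈ C (i + 1), x⁻¹ * u⁻¹ * x * u ∈ C i) (u : Γ) (hu : u ∈ P) (g : Γ) :
    ∃ u' ∈ P, ∃ z : Γ, (∀ x ∈ J, x * z = z * x) ∧ g⁻¹ * u * g = u' * z := by
  set St := stab C hC with hSt
  have hPSt : P ≤ St := fun v hv i x hx => hst v hv i x hx
  haveI hStn : St.Normal := stab_normal C hC
  have hw : g⁻¹ * u * g ∈ St := by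
    have := hStn.conj_mem u (hPSt hu) g⁻¹
    rwa [inv_inv] at this
  haveI : (centralizer (J : Set Γ)).Normal := Subgroup.normal_centralizer
  obtain ⟨u', hu', z, hz, e⟩ := exists_mul_of_pPrime_mem (p := p) (P.subgroupOf St)
    ((centralizer (J : Set Γ)).subgroupOf St)
    (not_dvd_relIndex_of_not_dvd_index hPSt hP)
    (by
      intro y hy
      rw [Subgroup.mem_subgroupOf, mem_centralizer_iff]
      intro x hx
      rw [← hc] at hx
      have hp' : ∀ i, ∀ x ∈ C i, ∃ k : ℕ, x ^ p ^ k = 1 := by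
        intro i x hx
        obtain ⟨k, hk⟩ := hJ ⟨x, hle i hx⟩
        exact ⟨k, congrArg Subtype.val hk⟩
      have := stab_coprime (hC := hC) h0 hp' y.2
        (by rwa [Subgroup.orderOf_coe]) c x hx
      calc x * (y : Γ) = y * ((y : Γ)⁻¹ * x * y) := by group
        _ = y * x := by rw [this])
    ⟨_, hw⟩
  refine ⟨u', hu', z, ?_, congrArg Subtype.val e⟩
  intro x hx
  exact (mem_centralizer_iff.1 hz) x hx

end chain

section zs

variable {G : Type u} [Group G] [Finite G]

/-- The upper central series of a subgroup, as subgroups of the ambient group. -/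
def zs (P : Subgroup G) (i : ℕ) : Subgroup G := (Subgroup.upperCentralSeries P i).map P.subtype

theorem mem_zs {P : Subgroup G} {i : ℕ} {x : G} :
    x ∈ zs P i ↔ ∃ h : x ∈ P, (⟨x, h⟩ : P) ∈ Subgroup.upperCentralSeries P i := by
  constructor
  · rintro ⟨y, hy, rfl⟩
    exact ⟨y.2, hy⟩
  · rintro ⟨h, hx⟩
    exact ⟨_, hx, rfl⟩

theorem zs_zero (P : Subgroup G) : zs P 0 = ⊥ := by
  rw [zs, Subgroup.upperCentralSeries_zero, Subgroup.map_bot]

theorem zs_le (P : Subgroup G) (i : ℕ) : zs P i ≤ P := by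
  rintro _ ⟨y, -, rfl⟩
  exact y.2

theorem exists_zs_eq (P : Subgroup G) (h : Group.IsNilpotent P) : ∃ c, zs P c = P := by
  obtain ⟨c, hc⟩ := Group.IsNilpotent.nilpotent P
  refine ⟨c, ?_⟩
  rw [zs, hc, ← MonoidHom.range_eq_map, Subgroup.range_subtype]

theorem comm_zs {P : Subgroup G} {i : ℕ} {x u : G} (hx : x ∈ zs P (i + 1)) (hu : u ∈ P) :
    x⁻¹ * u⁻¹ * x * u ∈ zs P i := by
  obtain ⟨h, hx⟩ := mem_zs.1 hx
  have h1 : (⟨x, h⟩ : P)⁻¹ ∈ Subgroup.upperCentralSeries P (i + 1) := Subgroup.inv_mem _ hx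
  have h2 := Subgroup.mem_upperCentralSeries_succ_iff.1 h1 (⟨u, hu⟩ : P)⁻¹
  refine ⟨_, h2, ?_⟩
  simp [commutatorElement_def]

theorem conj_zs {P : Subgroup G} {n : G} (hn : n ∈ normalizer (P : Set G)) (i : ℕ) :
    ∀ x ∈ zs P i, n⁻¹ * x * n ∈ zs P i := by
  induction i with
  | zero =>
    intro x hx
    rw [zs_zero, Subgroup.mem_bot] at hx ⊢
    simp [hx]
  | succ i ih =>
    intro x hx
    obtain ⟨h, hx2⟩ := mem_zs.1 hx
    have hx' : n⁻¹ * x * n ∈ P := conj_inv_mem_of_mem_normalizer hn h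
    refine mem_zs.2 ⟨hx', ?_⟩
    rw [Subgroup.mem_upperCentralSeries_succ_iff]
    intro y
    have hy' : n * (y : G) * n⁻¹ ∈ P := conj_mem_of_mem_normalizer hn y.2
    have h1 := Subgroup.mem_upperCentralSeries_succ_iff.1 hx2 ⟨_, hy'⟩
    have h2 : ((⁅(⟨x, h⟩ : P), (⟨_, hy'⟩ : P)⁆ : P) : G) ∈ zs P i := ⟨_, h1, rfl⟩
    have h3 := ih _ h2
    obtain ⟨h4, h5⟩ := mem_zs.1 h3
    convert h5 using 1
    apply Subtype.ext
    simp [commutatorElement_def]
    group

end zs

section main

variable {G : Type u} [Group G] [Finite G] {A B : Subgroup G}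

/-- **(L)**: a proper factorized subgroup containing `A_p` normalizes `A`. -/
theorem WCtx.le_normalizer (W : WCtx A B) {p : ℕ} [Fact p.Prime] (hp : p ∣ Nat.card A)
    {H : Subgroup G} (hH : H ≠ ⊤) (hf : Fac A B H) (hPH : part A p ≤ H) :
    H ≤ normalizer (A : Set G) := by
  classical
  haveI hsol : Group.IsSolvable H := W.ih H hH hf
  have hcore : ∀ (t : ℕ) [Fact t.Prime], ∀ x ∈ pCore t H, ((x : H) : G) ∈ part A t := by
    intro t _ x hx
    rw [mem_part W.nilA]
    have hpow : ∃ k : ℕ, (x : G) ^ t ^ k = 1 := by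
      obtain ⟨k, hk⟩ := isPGroup_pCore (G := H) t ⟨x, hx⟩
      exact ⟨k, congrArg (fun z : ↥(pCore t H) => ((z : H) : G)) hk⟩
    refine ⟨?_, hpow⟩
    by_cases htB : t ∣ Nat.card B
    · have hbot : (pCore t H).map H.subtype = ⊥ :=
        W.eq_bot_of_isPGroup hp htB ((isPGroup_pCore t).map _) (by
          rintro u hu _ ⟨y, hy, rfl⟩
          exact ⟨⟨u, hPH hu⟩ * y * (⟨u, hPH hu⟩ : H)⁻¹,
            (pCore_normal t H).conj_mem y hy _, rfl⟩)
      have : (x : G) ∈ (pCore t H).map H.subtype := ⟨x, hx, rfl⟩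
      rw [hbot, Subgroup.mem_bot] at this
      rw [this]
      exact A.one_mem
    · have hle := Cfsg.Agent.Lib.Hall.le_of_normal_of_not_dvd_index (N := pCore t H)
        (H := A.subgroupOf H) (isPGroup_pCore t)
        (fun hd => htB (hd.trans (index_subgroupOf_dvd W.cop hf)))
      exact hle hx
  have hfit : fittingSubgroup H ≤ A.subgroupOf H := by
    rw [fittingSubgroup_eq_iSup_pCore]
    refine iSup_le fun t => ?_
    haveI : Fact (t : ℕ).Prime := ⟨t.2⟩
    intro x hx
    exact part_le (A := A) _ (hcore t x hx)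
  -- the chain
  set P := part A p with hP
  set J := pCore p H with hJ
  have hPn : P.subgroupOf H ≤ ⊤ := le_top
  have hnP : ∀ n ∈ normalizer (A : Set G), n ∈ normalizer (P : Set G) := by
    intro n hn
    rw [hP, W.normalizer_part hp]
    exact hn
  let C : ℕ → Subgroup H := fun i => J ⊓ (zs P i).subgroupOf H
  have hCmem : ∀ i x, x ∈ C i ↔ x ∈ J ∧ (x : G) ∈ zs P i := fun i x => Iff.rfl
  have hCn : ∀ i, (C i).Normal := by
    intro i
    constructor
    intro x hx g
    rw [hCmem] at hx ⊢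
    refine ⟨(pCore_normal p H).conj_mem x hx.1 g, ?_⟩
    have hxP : (x : G) ∈ part A p := hcore p x hx.1
    have hxg : ((g : G)⁻¹)⁻¹ * x * (g : G)⁻¹ ∈ part A p := by
      have := hcore p _ ((pCore_normal p H).conj_mem x hx.1 g)
      simpa using this
    obtain ⟨n, hn, e⟩ := W.fusion hxP hxg
    have h1 := conj_zs (hnP n hn) i _ hx.2
    simp only [Subgroup.coe_mul, Subgroup.coe_inv]
    rw [inv_inv] at e
    rwa [← e]
  have hC0 : C 0 = ⊥ := by
    rw [eq_bot_iff]
    intro x hx
    have := ((hCmem _ _).1 hx).2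
    rw [zs_zero, Subgroup.mem_bot] at this
    exact Subtype.ext this
  obtain ⟨c, hc⟩ := exists_zs_eq P (isPGroup_part (A := A) p).isNilpotent
  have hCc : C c = J := by
    apply le_antisymm inf_le_left
    intro x hx
    refine (hCmem _ _).2 ⟨hx, ?_⟩
    rw [hc]
    exact hcore p x hx
  have hst : ∀ u ∈ P.subgroupOf H, ∀ i, ∀ x ∈ C (i + 1), x⁻¹ * u⁻¹ * x * u ∈ C i := by
    intro u hu i x hx
    rw [hCmem] at hx ⊢
    refine ⟨?_, ?_⟩
    · have h1 := (pCore_normal p H).conj_mem x hx.1 u⁻¹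
      rw [inv_inv] at h1
      have h2 := J.mul_mem (J.inv_mem hx.1) h1
      have e : x⁻¹ * (u⁻¹ * x * u) = x⁻¹ * u⁻¹ * x * u := by group
      rwa [e] at h2
    · exact comm_zs hx.2 hu
  apply fun hh => (show H ≤ normalizer (P : Set G) from hh).trans (W.normalizer_part hp).le
  intro g hg
  apply mem_normalizer_of_forall_conj_inv
  intro u hu
  obtain ⟨u', hu', z, hz, e⟩ := exists_mul_centralizer (p := p) (P.subgroupOf H) J C hCn hC0 c hCc
    (fun i => inf_le_left) (isPGroup_pCore p) (pCore_normal p H)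
    (not_dvd_relIndex_of_not_dvd_index hPH (W.not_dvd_index hp)) hst ⟨u, hPH hu⟩ hu ⟨g, hg⟩
  have e' : g⁻¹ * u * g = (u' : G) * z := by
    have := congrArg Subtype.val e
    simpa using this
  -- `z` centralizes the Fitting subgroup
  have hzF : z ∈ centralizer (fittingSubgroup H : Set H) := by
    have hle : fittingSubgroup H ≤ centralizer ({z} : Set H) := by
      rw [fittingSubgroup_eq_iSup_pCore]
      refine iSup_le fun t => ?_
      haveI : Fact (t : ℕ).Prime := ⟨t.2⟩
      intro x hx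
      rw [mem_centralizer_iff]
      intro w hw
      rw [Set.mem_singleton_iff.1 hw]
      by_cases htp : (t : ℕ) = p
      · have hx' : x ∈ J := by
          rw [hJ, ← htp]
          exact hx
        exact (hz x hx').symm
      · have hxA := hcore t x hx
        have h1 : (u' : G) * x = x * u' :=
          comm_part_part W.nilA htp hu' hxA
        have h2 : g * (x : G) * g⁻¹ ∈ part A t :=
          hcore t _ ((pCore_normal t H).conj_mem x hx ⟨g, hg⟩)
        have h3 : u * (g * (x : G) * g⁻¹) = (g * (x : G) * g⁻¹) * u :=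
          comm_part_part W.nilA htp hu h2
        have h4 : (g⁻¹ * u * g) * (x : G) = x * (g⁻¹ * u * g) := by
          calc (g⁻¹ * u * g) * (x : G) = g⁻¹ * (u * (g * (x : G) * g⁻¹)) * g := by group
            _ = g⁻¹ * ((g * (x : G) * g⁻¹) * u) * g := by rw [h3]
            _ = x * (g⁻¹ * u * g) := by group
        rw [e'] at h4
        have h5 : (z : G) * x = x * z := by
          have h6 : (u' : G) * (z * x) = (u' : G) * (x * z) := by
            calc (u' : G) * (z * x) = (u' : G) * z * x := by group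
              _ = x * (u' * z) := h4
              _ = (x * (u' : G)) * z := by group
              _ = (u' * x) * z := by rw [h1]
              _ = (u' : G) * (x * z) := by group
          exact mul_left_cancel h6
        exact Subtype.ext h5
    rw [mem_centralizer_iff]
    intro x hx
    exact (mem_centralizer_iff.1 (hle hx) z rfl).symm
  have hzA : (z : G) ∈ A := hfit (centralizer_fittingSubgroup_le hzF)
  rw [hP, mem_part W.nilA]
  constructor
  · rw [e']
    exact A.mul_mem (part_le p hu') hzA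
  · obtain ⟨k, hk⟩ := ((mem_part W.nilA).1 hu).2
    refine ⟨k, ?_⟩
    have h1 := conj_pow (a := g⁻¹) (b := u) (i := p ^ k)
    rw [inv_inv] at h1
    rw [h1, hk]
    group

end main

end Cfsg.Agent.Lib.Wielandt2
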