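import Mathlib
import Cfsg.Agent.Lib.Wielandt2

/-!
# Wielandt's theorem: centralizers of elements of `A`.
-/

set_option autoImplicit false
set_option linter.style.haveILetI false

universe u

open Pointwise

namespace Cfsg.Agent.Lib.Wielandt3

open Subgroup Cfsg Cfsg.Agent.Lib.PCore Cfsg.Agent.Lib.Wielandt Cfsg.Agent.Lib.Wielandt2
open Cfsg.Agent.Lib.Factorized (mem_conj_iff card_mul_card_inf_of_factorization)
open Cfsg.Agent.Lib.PComplement (exists_decomp exists_complement_of_control)
open Cfsg.Agent.Lib.Coprime (relIndex_mul_card_of_le)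

variable {G : Type u} [Group G] [Finite G] {A B : Subgroup G}

namespace WCtxX

/-- Centralizer of `y ∈ B` normalizing `A` is factorized. -/
theorem fac_centralizer (W : WCtx A B) {y : G} (hyB : y ∈ B) (hyA : y ∈ normalizer (A : Set G)) :
    Fac A B (centralizer ({y} : Set G)) := by
  intro g hg
  obtain ⟨a, ha, b, hb, e⟩ := W.fac g
  have h1 : y * g = g * y := mem_centralizer_iff.1 hg y rfl
  rw [e] at h1
  have h2 : b * y * b⁻¹ = a⁻¹ * y * a := by
    have e2 : b * y * b⁻¹ = a⁻¹ * (a * b * y) * b⁻¹ := by group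
    rw [e2, ← h1]
    group
  have h3 : y⁻¹ * (b * y * b⁻¹) ∈ B := B.mul_mem (B.inv_mem hyB) (B.mul_mem (B.mul_mem hb hyB) (B.inv_mem hb))
  have h4 : y⁻¹ * (a⁻¹ * y * a) ∈ A := by
    have h5 : y⁻¹ * a⁻¹ * y ∈ A := by
      have := conj_inv_mem_of_mem_normalizer hyA (A.inv_mem ha)
      exact this
    have e2 : y⁻¹ * (a⁻¹ * y * a) = y⁻¹ * a⁻¹ * y * a := by group
    rw [e2]
    exact A.mul_mem h5 ha
  have h6 : y⁻¹ * (b * y * b⁻¹) = 1 := by
    apply W.eq_one _ h3
    rw [h2]
    exact h4
  have h7 : b * y * b⁻¹ = y := by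
    have := congrArg (fun z => y * z) h6
    simpa using this
  have h8 : b * y = y * b := by
    calc b * y = b * y * b⁻¹ * b := by group
      _ = y * b := by rw [h7]
  have h9 : a⁻¹ * y * a = y := by rw [← h2, h7]
  have h10 : y * a = a * y := by
    calc y * a = a * (a⁻¹ * y * a) := by group
      _ = a * y := by rw [h9]
  refine ⟨a, ha, ?_, b, hb, ?_, e⟩
  · rw [mem_centralizer_iff]
    rintro _ rfl
    exact h10
  · rw [mem_centralizer_iff]
    rintro _ rfl
    exact h8.symm

theorem centralizer_ne_top (W : WCtx A B) {y : G} (hy : y ≠ 1) :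
    centralizer ({y} : Set G) ≠ ⊤ := by
  intro h
  have hc : y ∈ center G := by
    rw [Subgroup.mem_center_iff]
    intro g
    have : g ∈ centralizer ({y} : Set G) := by rw [h]; trivial
    exact (mem_centralizer_iff.1 this y rfl).symm
  rcases W.normal_cases (inferInstance : (center G).Normal) with h1 | h1
  · rw [h1, Subgroup.mem_bot] at hc
    exact hy hc
  · apply W.ns
    have hcomm : ∀ a b : G, a * b = b * a := by
      intro a b
      have : a ∈ center G := by rw [h1]; trivial
      exact (Subgroup.mem_center_iff.1 this b).symm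
    letI : CommGroup G := { (inferInstance : Group G) with mul_comm := hcomm }
    infer_instance

/-- Conjugating a centralizer. -/
theorem centralizer_conj (a g : G) :
    centralizer ({g⁻¹ * a * g} : Set G) = MulAut.conj g⁻¹ • centralizer ({a} : Set G) := by
  ext z
  rw [mem_conj_iff, inv_inv, mem_centralizer_iff, mem_centralizer_iff]
  constructor
  · intro h w hw
    rw [Set.mem_singleton_iff.1 hw]
    have h1 := h _ rfl
    calc a * (g * z * g⁻¹) = g * ((g⁻¹ * a * g) * z) * g⁻¹ := by group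
      _ = g * (z * (g⁻¹ * a * g)) * g⁻¹ := by rw [h1]
      _ = g * z * g⁻¹ * a := by group
  · intro h w hw
    rw [Set.mem_singleton_iff.1 hw]
    have h1 := h _ rfl
    calc (g⁻¹ * a * g) * z = g⁻¹ * (a * (g * z * g⁻¹)) * g := by group
      _ = g⁻¹ * ((g * z * g⁻¹) * a) * g := by rw [h1]
      _ = z * (g⁻¹ * a * g) := by group

/-- **Case 1**. -/
theorem centralizer_le_of_exists (W : WCtx A B) {r q : ℕ} [Fact r.Prime] [Fact q.Prime]
    (hq : q ∣ Nat.card B) {a y : G} (ha : a ∈ part A r) (ha1 : a ≠ 1) (hy1 : y ≠ 1)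
    (hyq : IsPGroup q (zpowers y)) (hya : a * y = y * a) (hyS : y ∈ normalizer (A : Set G)) :
    centralizer ({a} : Set G) ≤ normalizer (A : Set G) := by
  obtain ⟨a₀, ha₀, hconj⟩ := W.exists_conj_le_part hq hyq
  have ha₀S : a₀ ∈ normalizer (A : Set G) := Subgroup.le_normalizer ha₀
  set y₁ := a₀⁻¹ * y * a₀ with hy₁
  have hy₁Q : y₁ ∈ part B q := hconj y (Subgroup.mem_zpowers y)
  have hy₁1 : y₁ ≠ 1 := by
    intro h
    apply hy1
    have : y = a₀ * y₁ * a₀⁻¹ := by rw [hy₁]; group
    rw [this, h]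
    group
  have hy₁S : y₁ ∈ normalizer (A : Set G) :=
    Subgroup.mul_mem _ (Subgroup.mul_mem _ (Subgroup.inv_mem _ ha₀S) hyS) ha₀S
  have hf1 := fac_centralizer W (part_le q hy₁Q) hy₁S
  obtain ⟨s, hs, hsq, hsB⟩ := W.symm.exists_other_prime q
  haveI : Fact s.Prime := ⟨hs⟩
  have hle1 : part B s ≤ centralizer ({y₁} : Set G) := by
    intro v hv
    rw [mem_centralizer_iff]
    rintro _ rfl
    exact comm_part_part W.nilB hsq hy₁Q hv
  have h1 := WCtx.le_normalizer W.symm hsB (centralizer_ne_top W hy₁1) hf1.symm hle1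
  set a₁ := a₀⁻¹ * a * a₀ with ha₁
  have ha₁P : a₁ ∈ part A r := conj_inv_mem_part W.nilA ha₀ ha
  have ha₁1 : a₁ ≠ 1 := by
    intro h
    apply ha1
    have : a = a₀ * a₁ * a₀⁻¹ := by rw [ha₁]; group
    rw [this, h]
    group
  have ha₁y : a₁ ∈ centralizer ({y₁} : Set G) := by
    rw [mem_centralizer_iff]
    rintro _ rfl
    calc y₁ * a₁ = a₀⁻¹ * (y * a) * a₀ := by rw [hy₁, ha₁]; group
      _ = a₀⁻¹ * (a * y) * a₀ := by rw [hya]
      _ = a₁ * y₁ := by rw [hy₁, ha₁]; group
  have hf2 := fac_centralizer W.symm (part_le r ha₁P) (h1 ha₁y)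
  obtain ⟨p, hp, hpr, hpA⟩ := W.exists_other_prime r
  haveI : Fact p.Prime := ⟨hp⟩
  have hle2 : part A p ≤ centralizer ({a₁} : Set G) := by
    intro v hv
    rw [mem_centralizer_iff]
    rintro _ rfl
    exact comm_part_part W.nilA hpr ha₁P hv
  have h2 := WCtx.le_normalizer W hpA (centralizer_ne_top W ha₁1) hf2.symm hle2
  intro g hg
  have hg' : a₀⁻¹ * g * a₀ ∈ centralizer ({a₁} : Set G) := by
    rw [mem_centralizer_iff]
    rintro _ rfl
    have h3 := mem_centralizer_iff.1 hg a rfl
    calc a₁ * (a₀⁻¹ * g * a₀) = a₀⁻¹ * (a * g) * a₀ := by rw [ha₁]; group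
      _ = a₀⁻¹ * (g * a) * a₀ := by rw [h3]
      _ = (a₀⁻¹ * g * a₀) * a₁ := by rw [ha₁]; group
  have h3 := h2 hg'
  have : g = a₀ * (a₀⁻¹ * g * a₀) * a₀⁻¹ := by group
  rw [this]
  exact Subgroup.mul_mem _ (Subgroup.mul_mem _ ha₀S h3) (Subgroup.inv_mem _ ha₀S)

/-- Elements normalizing `A` of order prime to `|B|` lie in `A`. -/
theorem mem_of_mem_normalizer (W : WCtx A B) {y : G} (hy : y ∈ normalizer (A : Set G))
    (hc : (orderOf y).Coprime (Nat.card B)) : y ∈ A := by
  set S := normalizer (A : Set G) with hS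
  have hle : A ≤ S := Subgroup.le_normalizer
  haveI : (A.subgroupOf S).Normal := Subgroup.normal_in_normalizer
  set k := (A.subgroupOf S).index with hk
  have h1 : (⟨y, hy⟩ : S) ^ k ∈ A.subgroupOf S := by
    exact Subgroup.pow_index_mem _ _
  have h2 : y ^ k ∈ A := h1
  have hkd : k ∣ Nat.card B := by
    rw [← W.index_eq, ← Subgroup.relIndex_mul_index hle]
    exact Dvd.intro _ rfl
  have hc2 : (orderOf y).Coprime k := Nat.Coprime.coprime_dvd_right hkd hc
  obtain ⟨m, hm⟩ := exists_pow_eq_self_of_coprime hc2.symm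
  rw [← hm]
  exact A.pow_mem h2 m

theorem dvd_card_of_mem_part {r : ℕ} [Fact r.Prime] (hA : Group.IsNilpotent A) {a : G}
    (ha : a ∈ part A r) (ha1 : a ≠ 1) : r ∣ Nat.card A := by
  obtain ⟨haA, k, hk⟩ := (mem_part hA).1 ha
  have h1 : orderOf a ∣ r ^ k := orderOf_dvd_of_pow_eq_one hk
  obtain ⟨j, -, hj⟩ := (Nat.dvd_prime_pow (Fact.out : r.Prime)).1 h1
  have hj0 : j ≠ 0 := by
    rintro rfl
    rw [pow_zero] at hj
    exact ha1 (orderOf_eq_one_iff.1 hj)
  have h2 : r ∣ orderOf a := by
    rw [hj]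
    exact dvd_pow_self r hj0
  exact h2.trans (Subgroup.orderOf_dvd_natCard A haA)

/-- The normalizer of `A` normalizes the center of `A_r`. -/
theorem conj_center_part {P : Subgroup G} {n z : G} (hn : n ∈ normalizer (P : Set G))
    (hz : z ∈ P ⊓ centralizer (P : Set G)) : n⁻¹ * z * n ∈ P ⊓ centralizer (P : Set G) := by
  refine ⟨conj_inv_mem_of_mem_normalizer hn hz.1, mem_centralizer_iff.2 ?_⟩
  intro x hx
  have hx' : n * x * n⁻¹ ∈ P := conj_mem_of_mem_normalizer hn hx
  have h1 := mem_centralizer_iff.1 hz.2 _ hx'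
  calc x * (n⁻¹ * z * n) = n⁻¹ * ((n * x * n⁻¹) * z) * n := by group
    _ = n⁻¹ * (z * (n * x * n⁻¹)) * n := by rw [h1]
    _ = n⁻¹ * z * n * x := by group

/-- **Case 2**. -/
theorem centralizer_le_of_forall (W : WCtx A B) {r : ℕ} [Fact r.Prime] {a : G}
    (ha : a ∈ part A r) (ha1 : a ≠ 1)
    (hT : ¬ r ∣ (part A r ⊓ centralizer ({a} : Set G)).relIndex (centralizer ({a} : Set G)))
    (hno : ∀ (q : ℕ) [Fact q.Prime], q ∣ Nat.card B → ∀ y : G, y ≠ 1 → IsPGroup q (zpowers y) →
      a * y = y * a → y ∈ normalizer (A : Set G) → False) :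
    centralizer ({a} : Set G) ≤ normalizer (A : Set G) := by
  classical
  set K := centralizer ({a} : Set G) with hK
  set S := normalizer (A : Set G) with hS
  set T := part A r ⊓ K with hTdef
  have hr : r ∣ Nat.card A := dvd_card_of_mem_part W.nilA ha ha1
  -- Step a
  have hKS : ∀ y ∈ K, y ∈ S → y ∈ A := by
    intro y hyK hyS
    apply mem_of_mem_normalizer W hyS
    by_contra hnc
    obtain ⟨q, hq, hq1, hq2⟩ := Nat.Prime.not_coprime_iff_dvd.1 hnc
    haveI : Fact q.Prime := ⟨hq⟩
    have hordy : orderOf (y ^ (orderOf y / q)) = q := orderOf_pow_orderOf_div (orderOf_pos y).ne' hq1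
    set y' := y ^ (orderOf y / q) with hy'
    have hne : y' ≠ 1 := by
      intro h
      rw [h, orderOf_one] at hordy
      exact hq.one_lt.ne hordy
    have hX : IsPGroup q (zpowers y') := by
      rw [IsPGroup.iff_card, Nat.card_zpowers, hordy]
      exact ⟨1, (pow_one q).symm⟩
    have hcomm : a * y' = y' * a := by
      have h1 : Commute a y := (mem_centralizer_iff.1 hyK a rfl)
      exact h1.pow_right _
    exact hno q hq2 y' hne hX hcomm (Subgroup.pow_mem _ hyS _)
  obtain ⟨p, hp, hpr, hpA⟩ := W.exists_other_prime r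
  haveI : Fact p.Prime := ⟨hp⟩
  set P := part A p with hP
  have hPK : P ≤ K := by
    intro v hv
    rw [hK, mem_centralizer_iff]
    intro w hw
    rw [Set.mem_singleton_iff.1 hw]
    exact comm_part_part W.nilA hpr ha hv
  have hTr : IsPGroup r T := (isPGroup_part (A := A) r).to_le inf_le_left
  have hnormP : ∀ n ∈ S, n ∈ normalizer (part A r : Set G) := by
    intro n hn
    rw [W.normalizer_part hr]
    exact hn
  -- the center of `A_r`
  set Z := part A r ⊓ centralizer (part A r : Set G) with hZ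
  have hZne : Z ≠ ⊥ := by
    haveI : Nontrivial (part A r) := (Subgroup.nontrivial_iff_ne_bot _).2 (part_ne_bot hr W.nilA)
    have hc := (isPGroup_part (A := A) r).center_nontrivial
    obtain ⟨⟨z, hzc⟩, hz1⟩ := exists_ne (1 : Subgroup.center (part A r))
    intro hbot
    have hz : (z : G) ∈ Z := by
      refine ⟨z.2, mem_centralizer_iff.2 ?_⟩
      intro x hx
      have := (Subgroup.mem_center_iff.1 hzc) ⟨x, hx⟩
      exact congrArg Subtype.val this
    rw [hbot, Subgroup.mem_bot] at hz
    apply hz1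
    exact Subtype.ext (Subtype.ext hz)
  have hZtop : Z ≠ ⊤ := by
    intro h
    apply W.ne_bot_right
    rw [eq_bot_iff]
    intro b hb
    have : b ∈ Z := by rw [h]; trivial
    exact W.eq_one (part_le r this.1) hb
  have hANZ : A ≤ normalizer (Z : Set G) := by
    intro x hx
    apply mem_normalizer_of_forall_conj_inv
    intro z hz
    exact conj_center_part (mem_normalizer_of_forall_conj (fun w hw => conj_mem_part W.nilA hx hw)) hz
  have hNZ : normalizer (Z : Set G) ≤ S :=
    WCtx.le_normalizer W hpA (W.normalizer_ne_top hZne hZtop) (fac_of_le W.fac hANZ)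
      ((part_le p).trans hANZ)
  -- control of fusion
  have hctl : ∀ u ∈ P, ∀ l ∈ K, l⁻¹ * u * l ∈ P → ∃ t ∈ P, t⁻¹ * u * t = l⁻¹ * u * l := by
    intro u hu l hl hv
    set v := l⁻¹ * u * l with hvdef
    set D := K ⊓ centralizer ({v} : Set G) with hD
    have hTD : T ≤ D := by
      intro x hx
      refine ⟨hx.2, mem_centralizer_iff.2 ?_⟩
      intro w hw
      rw [Set.mem_singleton_iff.1 hw]
      exact comm_part_part W.nilA hpr.symm hv hx.1
    set U := T.map (MulAut.conj l⁻¹).toMonoidHom with hU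
    have hUD : U ≤ D := by
      rintro _ ⟨x, hx, rfl⟩
      simp only [MulEquiv.coe_toMonoidHom, MulAut.conj_apply, inv_inv]
      refine ⟨K.mul_mem (K.mul_mem (K.inv_mem hl) hx.2) hl, mem_centralizer_iff.2 ?_⟩
      intro w hw
      rw [Set.mem_singleton_iff.1 hw]
      have h1 : u * x = x * u := comm_part_part W.nilA hpr.symm hu hx.1
      calc v * (l⁻¹ * x * l) = l⁻¹ * (u * x) * l := by rw [hvdef]; group
        _ = l⁻¹ * (x * u) * l := by rw [h1]
        _ = l⁻¹ * x * l * v := by rw [hvdef]; group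
    have hUp : IsPGroup r U := hTr.map _
    have hd : ¬ r ∣ T.relIndex D := by
      intro h
      apply hT
      rw [← Subgroup.relIndex_mul_relIndex T D K hTD (inf_le_left : D ≤ K)]
      exact Dvd.dvd.mul_right h _
    obtain ⟨m, hm, hmu⟩ := exists_conj_in hUD hUp hd
    set n := l * m with hn
    have hnK : n ∈ K := K.mul_mem hl hm.1
    have hnT : ∀ x ∈ T, n⁻¹ * x * n ∈ T := by
      intro x hx
      have h1 := hmu (l⁻¹ * x * l) ⟨x, hx, by simp⟩
      have e : n⁻¹ * x * n = m⁻¹ * (l⁻¹ * x * l) * m := by rw [hn]; group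
      rw [e]
      exact h1
    have hnv : n⁻¹ * u * n = v := by
      have h1 : v * m = m * v := mem_centralizer_iff.1 hm.2 v rfl
      calc n⁻¹ * u * n = m⁻¹ * v * m := by rw [hn, hvdef]; group
        _ = v := by rw [mul_assoc, h1]; group
    have hnZ : n ∈ normalizer (Z : Set G) := by
      apply mem_normalizer_of_forall_conj_inv
      intro z hz
      have hzK : z ∈ K := by
        rw [hK, mem_centralizer_iff]
        intro w hw
        rw [Set.mem_singleton_iff.1 hw]
        exact mem_centralizer_iff.1 hz.2 a ha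
      have h1 := hnT z ⟨hz.1, hzK⟩
      obtain ⟨n', hn', e⟩ := W.fusion hz.1 h1.1
      rw [← e]
      exact conj_center_part (hnormP n' hn') hz
    have hnS : n ∈ S := hNZ hnZ
    have hnA : n ∈ A := hKS n hnK hnS
    obtain ⟨t, s, e, ht, hs, ⟨k, hk⟩, hc⟩ := exists_decomp p n
    have hz : zpowers n ≤ A := by
      rw [Subgroup.zpowers_le]; exact hnA
    have htP : t ∈ P := (mem_part W.nilA).2 ⟨hz ht, k, hk⟩
    refine ⟨t, htP, ?_⟩
    rw [← hnv, e]
    have h2 : t⁻¹ * u * t ∈ P := conj_inv_mem_part W.nilA (hz ht) hu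
    have h3 := comm_part W.nilA h2 (hz hs) hc
    have e2 : (t * s)⁻¹ * u * (t * s) = s⁻¹ * ((t⁻¹ * u * t) * s) := by group
    rw [e2, h3]
    group
  -- the Sylow subgroup in `K`
  have hPg : IsPGroup p (P.subgroupOf K) := by
    have e : P.subgroupOf K ≃* P := Subgroup.subgroupOfEquivOfLe hPK
    exact IsPGroup.of_equiv (isPGroup_part (A := A) p) e.symm
  have hPidx : ¬ p ∣ (P.subgroupOf K).index :=
    not_dvd_relIndex_of_not_dvd_index hPK (W.not_dvd_index hpA)
  set PK : Sylow p K := hPg.toSylow hPidx with hPKdef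
  have hPKcoe : (PK : Subgroup K) = P.subgroupOf K := IsPGroup.toSylow_coe hPg hPidx
  obtain ⟨M, hMn, hMc⟩ := exists_complement_of_control PK (by
    intro x hx g hg
    have hx' : (x : G) ∈ P := by
      have : x ∈ (PK : Subgroup K) := hx
      rw [hPKcoe] at this
      exact this
    have hg' : (g : G)⁻¹ * x * g ∈ P := by
      have : g⁻¹ * x * g ∈ (PK : Subgroup K) := hg
      rw [hPKcoe] at this
      exact this
    obtain ⟨t, ht, e⟩ := hctl x hx' g g.2 hg'
    refine ⟨⟨t, hPK ht⟩, ?_, Subtype.ext e⟩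
    show (⟨t, hPK ht⟩ : K) ∈ (PK : Subgroup K)
    rw [hPKcoe]
    exact ht)
  have hMcard : Nat.card M * Nat.card (P.subgroupOf K) = Nat.card K := by
    have := hMc.card_mul_card
    rw [hPKcoe] at this
    exact this
  have hMidx : Nat.card M = (P.subgroupOf K).index := by
    have h2 := (P.subgroupOf K).card_mul_index
    rw [← hMcard, mul_comm] at h2
    exact (Nat.eq_of_mul_eq_mul_right Nat.card_pos h2.symm).symm ▸ rfl
  have hPMcop : (Nat.card P).Coprime (Nat.card M) := by
    obtain ⟨i, hi⟩ := IsPGroup.iff_card.1 (isPGroup_part (A := A) p)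
    rw [hP, hi, hMidx]
    exact Nat.Coprime.pow_left _ ((Nat.Prime.coprime_iff_not_dvd Fact.out).2 hPidx)
  -- step c
  have hKB : ∀ (q : ℕ), q.Prime → q ∣ Nat.card B → ¬ q ∣ Nat.card K := by
    intro q hq hqB hqK
    haveI : Fact q.Prime := ⟨hq⟩
    have hqp : ¬ q ∣ Nat.card (P.subgroupOf K) := by
      intro h
      have h1 : q ∣ Nat.card P := h.trans (by
        rw [Nat.card_congr (Subgroup.subgroupOfEquivOfLe hPK).toEquiv])
      have h2 : q ∣ Nat.card A := h1.trans (Subgroup.card_dvd_of_le (part_le p))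
      have := Nat.Coprime.eq_one_of_dvd (Nat.Coprime.coprime_dvd_left h2 W.cop) hqB
      exact hq.one_lt.ne' this
    have hqM : q ∣ Nat.card M := by
      rw [← hMcard] at hqK
      exact (hq.dvd_mul.1 hqK).resolve_right hqp
    set M' := M.map K.subtype with hM'
    have hM'card : Nat.card M' = Nat.card M := Subgroup.card_map_of_injective K.subtype_injective
    have hPM' : P ≤ normalizer (M' : Set G) := by
      intro u hu
      apply mem_normalizer_of_forall_conj
      rintro _ ⟨x, hx, rfl⟩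
      exact ⟨_, hMn.conj_mem x hx ⟨u, hPK hu⟩, rfl⟩
    haveI hPsolv : Group.IsSolvable P := by
      haveI := (isPGroup_part (A := A) p).isNilpotent
      infer_instance
    obtain ⟨Q, hQ⟩ := Cfsg.Agent.Lib.Glauberman2.exists_invariant_sylow hPM'
      (by rw [hM'card]; exact hPMcop) (Or.inl hPsolv) q
    have hQbot := W.eq_bot_of_isPGroup hpA hqB
      (X := (Q : Subgroup M').map M'.subtype) (Q.isPGroup'.map _)
      (fun u hu x hx => conj_mem_of_mem_normalizer (hQ hu) hx)
    have hQne := Q.ne_bot_of_dvd_card (by rw [hM'card]; exact hqM)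
    apply hQne
    rw [eq_bot_iff]
    intro x hx
    have : (x : G) ∈ (Q : Subgroup M').map M'.subtype := ⟨x, hx, rfl⟩
    rw [hQbot, Subgroup.mem_bot] at this
    exact Subtype.ext this
  -- step d
  set Pi' := A ⊓ K with hPi
  have hidx1 : Pi'.relIndex K = 1 := by
    by_contra hne
    obtain ⟨t, ht, htd⟩ := Nat.exists_prime_and_dvd hne
    haveI : Fact t.Prime := ⟨ht⟩
    have htK : t ∣ Nat.card K := htd.trans (Subgroup.relIndex_dvd_card _ _)
    have htB := hKB t ht
    have htA : t ∣ Nat.card A := by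
      have h1 : t ∣ Nat.card G := htK.trans (Subgroup.card_subgroup_dvd_card K)
      rw [W.card_eq] at h1
      rcases ht.dvd_mul.1 h1 with h | h
      · exact h
      · exact absurd htK (htB h)
    by_cases htr : t = r
    · subst htr
      apply hT
      have hle : T ≤ Pi' := fun x hx => ⟨part_le t hx.1, hx.2⟩
      exact htd.trans (Subgroup.relIndex_dvd_of_le_left _ hle)
    · have hle0 : part A t ≤ K := by
        intro v hv
        rw [hK, mem_centralizer_iff]
        intro w hw
        rw [Set.mem_singleton_iff.1 hw]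
        exact comm_part_part W.nilA htr ha hv
      have hle : part A t ≤ Pi' := fun x hx => ⟨part_le t hx, hle0 hx⟩
      exact not_dvd_relIndex_of_not_dvd_index hle0 (W.not_dvd_index htA)
        (htd.trans (Subgroup.relIndex_dvd_of_le_left _ hle))
  have hKA : K ≤ Pi' := Subgroup.relIndex_eq_one.1 hidx1
  intro g hg
  exact Subgroup.le_normalizer (hKA hg).1

/-- Reduction to the fully centralized case. -/
theorem exists_fully_centralized (W : WCtx A B) {r : ℕ} [Fact r.Prime] {a : G}
    (ha : a ∈ part A r) (ha1 : a ≠ 1) :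
    ∃ n ∈ normalizer (A : Set G),
      ¬ r ∣ (part A r ⊓ centralizer ({n⁻¹ * a * n} : Set G)).relIndex
        (centralizer ({n⁻¹ * a * n} : Set G)) := by
  classical
  have hr : r ∣ Nat.card A := dvd_card_of_mem_part W.nilA ha ha1
  set K := centralizer ({a} : Set G) with hK
  have haK : a ∈ K := by
    rw [hK, mem_centralizer_iff]
    intro w hw
    rw [Set.mem_singleton_iff.1 hw]
  obtain ⟨R₀⟩ : Nonempty (Sylow r K) := inferInstance
  set R := (R₀ : Subgroup K).map K.subtype with hR
  have hRp : IsPGroup r R := R₀.isPGroup'.map _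
  obtain ⟨g, hg⟩ := Cfsg.Agent.Lib.Hall.exists_conj_le_of_not_dvd_index hRp (W.not_dvd_index hr)
  have haR : a ∈ R := by
    have hN : (zpowers (⟨a, haK⟩ : K)).Normal := by
      constructor
      intro x hx k
      have hc : ∀ y : K, (⟨a, haK⟩ : K) * y = y * ⟨a, haK⟩ := by
        intro y
        exact Subtype.ext (mem_centralizer_iff.1 y.2 a rfl)
      obtain ⟨j, rfl⟩ := Subgroup.mem_zpowers_iff.1 hx
      have h2 : Commute ((⟨a, haK⟩ : K) ^ j) k := (show Commute (⟨a, haK⟩ : K) k from hc k).zpow_left j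
      rw [h2.symm.eq]
      simp [hx]
    have hp : IsPGroup r (zpowers (⟨a, haK⟩ : K)) := by
      obtain ⟨-, k, hk⟩ := (mem_part W.nilA).1 ha
      have h1 : orderOf (⟨a, haK⟩ : K) ∣ r ^ k := by
        apply orderOf_dvd_of_pow_eq_one
        exact Subtype.ext hk
      obtain ⟨j, -, hj⟩ := (Nat.dvd_prime_pow (Fact.out : r.Prime)).1 h1
      rw [IsPGroup.iff_card, Nat.card_zpowers]
      exact ⟨j, hj⟩
    have h1 := le_pCore hN hp
    have h2 := pCore_le_sylow r R₀
    exact ⟨⟨a, haK⟩, h2 (h1 (Subgroup.mem_zpowers _)), rfl⟩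
  have hag : g⁻¹ * a * g ∈ part A r := mem_conj_iff.1 (hg haR)
  obtain ⟨n, hn, e⟩ := W.fusion ha hag
  refine ⟨n, hn, ?_⟩
  rw [e]
  set K₁ := centralizer ({g⁻¹ * a * g} : Set G) with hK₁
  have hK₁c : K₁ = MulAut.conj g⁻¹ • K := centralizer_conj a g
  set U := MulAut.conj g⁻¹ • R with hU
  have hRK : R ≤ K := by
    rintro _ ⟨y, -, rfl⟩
    exact y.2
  have hUK₁ : U ≤ K₁ := by
    rw [hK₁c]
    exact Subgroup.pointwise_smul_le_pointwise_smul_iff.2 hRK
  have hUP : U ≤ part A r := by
    intro x hx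
    have h1 := mem_conj_iff.1 hx
    rw [inv_inv] at h1
    have h2 := mem_conj_iff.1 (hg h1)
    have e2 : g⁻¹ * (g * x * g⁻¹) * g = x := by group
    rwa [e2] at h2
  have hidx : U.relIndex K₁ = R.relIndex K := by
    have h1 := relIndex_mul_card_of_le hUK₁
    have h2 := relIndex_mul_card_of_le hRK
    have hc1 : Nat.card U = Nat.card R :=
      Nat.card_congr (Subgroup.equivSMul (MulAut.conj g⁻¹) R).symm.toEquiv
    have hc2 : Nat.card K₁ = Nat.card K := by
      rw [hK₁c]
      exact Nat.card_congr (Subgroup.equivSMul (MulAut.conj g⁻¹) K).symm.toEquiv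
    rw [hc1, hc2, ← h2] at h1
    exact Nat.eq_of_mul_eq_mul_right Nat.card_pos h1
  have hRidx : R.relIndex K = (R₀ : Subgroup K).index := by
    show ((map K.subtype (R₀ : Subgroup K)).comap K.subtype).index = _
    rw [Subgroup.comap_map_eq_self_of_injective K.subtype_injective]
  intro hd
  apply R₀.not_dvd_index
  rw [← hRidx, ← hidx]
  exact hd.trans (Subgroup.relIndex_dvd_of_le_left _ (le_inf hUP hUK₁))

/-- **(***)**: centralizers of nontrivial elements of `A_r` lie in `N_G(A)`. -/
theorem centralizer_le (W : WCtx A B) {r : ℕ} [Fact r.Prime] {a : G}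
    (ha : a ∈ part A r) (ha1 : a ≠ 1) :
    centralizer ({a} : Set G) ≤ normalizer (A : Set G) := by
  classical
  obtain ⟨n, hn, hd⟩ := exists_fully_centralized W ha ha1
  have hr : r ∣ Nat.card A := dvd_card_of_mem_part W.nilA ha ha1
  have hn' : n ∈ normalizer (part A r : Set G) := by
    rw [W.normalizer_part hr]
    exact hn
  set a₁ := n⁻¹ * a * n with ha₁
  have ha₁P : a₁ ∈ part A r := conj_inv_mem_of_mem_normalizer hn' ha
  have ha₁1 : a₁ ≠ 1 := by
    intro h
    apply ha1
    have : a = n * a₁ * n⁻¹ := by rw [ha₁]; group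
    rw [this, h]
    group
  have key : centralizer ({a₁} : Set G) ≤ normalizer (A : Set G) := by
    by_cases h : ∃ (q : ℕ) (_ : q.Prime) (y : G), q ∣ Nat.card B ∧ y ≠ 1 ∧ IsPGroup q (zpowers y) ∧
        a₁ * y = y * a₁ ∧ y ∈ normalizer (A : Set G)
    · obtain ⟨q, hq, y, hqB, hy1, hyq, hya, hyS⟩ := h
      haveI : Fact q.Prime := ⟨hq⟩
      exact centralizer_le_of_exists W hqB ha₁P ha₁1 hy1 hyq hya hyS
    · apply centralizer_le_of_forall W ha₁P ha₁1 hd
      intro q hq hqB y hy1 hyq hya hyS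
      exact h ⟨q, hq.out, y, hqB, hy1, hyq, hya, hyS⟩
  intro g hg
  have hg' : n⁻¹ * g * n ∈ centralizer ({a₁} : Set G) := by
    rw [mem_centralizer_iff]
    intro w hw
    rw [Set.mem_singleton_iff.1 hw]
    have h3 := mem_centralizer_iff.1 hg a rfl
    calc a₁ * (n⁻¹ * g * n) = n⁻¹ * (a * g) * n := by rw [ha₁]; group
      _ = n⁻¹ * (g * a) * n := by rw [h3]
      _ = (n⁻¹ * g * n) * a₁ := by rw [ha₁]; group
  have h3 := key hg'
  have : g = n * (n⁻¹ * g * n) * n⁻¹ := by group
  rw [this]
  exact Subgroup.mul_mem _ (Subgroup.mul_mem _ hn h3) (Subgroup.inv_mem _ hn)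

/-- An `r`-element of `N_G(A)` lies in `A_r`. -/
theorem mem_part_of_mem_normalizer (W : WCtx A B) {r : ℕ} [Fact r.Prime] (hr : r ∣ Nat.card A)
    {w : G} (hw : w ∈ normalizer (A : Set G)) {j : ℕ} (hj : w ^ r ^ j = 1) : w ∈ part A r := by
  set S := normalizer (A : Set G) with hS
  have hle : part A r ≤ S := (part_le r).trans Subgroup.le_normalizer
  have hn : (part A r).subgroupOf S ⊓ ⊤ = (part A r).subgroupOf S := inf_top_eq _
  have hN : ((part A r).subgroupOf S).Normal :=
    (Subgroup.normal_subgroupOf_iff_le_normalizer hle).2 (W.normalizer_part hr).ge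
  have hPg : IsPGroup r ((part A r).subgroupOf S) := by
    have e : (part A r).subgroupOf S ≃* part A r := Subgroup.subgroupOfEquivOfLe hle
    exact IsPGroup.of_equiv (isPGroup_part (A := A) r) e.symm
  have hPidx : ¬ r ∣ ((part A r).subgroupOf S).index :=
    not_dvd_relIndex_of_not_dvd_index hle (W.not_dvd_index hr)
  set Q : Sylow r S := hPg.toSylow hPidx with hQ
  have hQc : (Q : Subgroup S) = (part A r).subgroupOf S := IsPGroup.toSylow_coe hPg hPidx
  have h1 : (⟨w, hw⟩ : S) ∈ (Q : Subgroup S) :=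
    Cfsg.Agent.S0577.mem_sylow_of_pow_eq_one Q (by rw [hQc]; exact hN) (k := j) (Subtype.ext hj)
  rw [hQc] at h1
  exact h1

/-- **Lemma 10**. -/
theorem mem_normalizer_of_conj_mem (W : WCtx A B) {c g : G} (hc : c ∈ A) (hc1 : c ≠ 1)
    (hg : g * c * g⁻¹ ∈ normalizer (A : Set G)) : g ∈ normalizer (A : Set G) := by
  have hord : orderOf c ≠ 1 := fun h => hc1 (orderOf_eq_one_iff.1 h)
  obtain ⟨r, hr, hrd⟩ := Nat.exists_prime_and_dvd hord
  haveI : Fact r.Prime := ⟨hr⟩
  have hordc : orderOf (c ^ (orderOf c / r)) = r := orderOf_pow_orderOf_div (orderOf_pos c).ne' hrd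
  set d := c ^ (orderOf c / r) with hd
  have hdA : d ∈ A := A.pow_mem hc _
  have hdr : d ^ r ^ 1 = 1 := by
    rw [pow_one, ← hordc]
    exact pow_orderOf_eq_one d
  have hdP : d ∈ part A r := (mem_part W.nilA).2 ⟨hdA, 1, hdr⟩
  have hd1 : d ≠ 1 := by
    intro h
    rw [h, orderOf_one] at hordc
    exact hr.one_lt.ne hordc
  have hrA : r ∣ Nat.card A := dvd_card_of_mem_part W.nilA hdP hd1
  have h1 : g * d * g⁻¹ ∈ normalizer (A : Set G) := by
    have := Subgroup.pow_mem _ hg (orderOf c / r)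
    rwa [conj_pow] at this
  have h2 : g * d * g⁻¹ ∈ part A r := by
    apply mem_part_of_mem_normalizer W hrA h1 (j := 1)
    rw [conj_pow, hdr]
    group
  have h3 : (g⁻¹)⁻¹ * d * g⁻¹ ∈ part A r := by rwa [inv_inv]
  obtain ⟨n, hn, e⟩ := W.fusion hdP h3
  rw [inv_inv] at e
  have h4 : n * g ∈ centralizer ({d} : Set G) := by
    rw [mem_centralizer_iff]
    intro w hw
    rw [Set.mem_singleton_iff.1 hw]
    have e2 : n * g * d = d * (n * g) := by
      calc n * g * d = n * (g * d * g⁻¹) * g := by group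
        _ = n * (n⁻¹ * d * n) * g := by rw [e]
        _ = d * (n * g) := by group
    exact e2.symm
  have h5 := centralizer_le W hdP hd1 h4
  have : g = n⁻¹ * (n * g) := by group
  rw [this]
  exact Subgroup.mul_mem _ (Subgroup.inv_mem _ hn) h5

/-- The final count. -/
theorem card_lt (W : WCtx A B) : Nat.card A < Nat.card B := by
  classical
  set S := normalizer (A : Set G) with hS
  have hAS : A ≤ S := Subgroup.le_normalizer
  have hAtop : A ≠ ⊤ := by
    intro h
    apply W.ne_bot_right
    rw [eq_bot_iff]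
    intro b hb
    exact W.eq_one (by rw [h]; trivial) hb
  have hSne : S ≠ ⊤ := W.normalizer_ne_top W.ne_bot_left hAtop
  obtain ⟨g, hg⟩ : ∃ g : G, g ∉ S := by
    by_contra hcon
    push Not at hcon
    exact hSne (eq_top_iff.2 fun x _ => hcon x)
  let f : Option A → G ⧸ S := fun o => match o with
    | none => ((1 : G) : G ⧸ S)
    | some a => (((a : G) * g : G) : G ⧸ S)
  have hgi : g⁻¹ ∉ S := fun h => hg (by simpa using Subgroup.inv_mem _ h)
  have hsome : ∀ a : A, (((a : G) * g : G) : G ⧸ S) ≠ ((1 : G) : G ⧸ S) := by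
    intro a h
    rw [QuotientGroup.eq] at h
    simp only [mul_inv_rev, mul_one] at h
    apply hgi
    have e : g⁻¹ = g⁻¹ * (a : G)⁻¹ * a := by group
    rw [e]
    exact Subgroup.mul_mem _ h (hAS a.2)
  have hf : Function.Injective f := by
    intro x y hxy
    cases x with
    | none =>
      cases y with
      | none => rfl
      | some b => exact absurd hxy.symm (hsome b)
    | some a =>
      cases y with
      | none => exact absurd hxy (hsome a)
      | some b =>
        have h : (((a : G) * g : G) : G ⧸ S) = (((b : G) * g : G) : G ⧸ S) := hxy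
        rw [QuotientGroup.eq] at h
        have h' : g⁻¹ * ((a : G)⁻¹ * b) * (g⁻¹)⁻¹ ∈ S := by
          have e : g⁻¹ * ((a : G)⁻¹ * b) * (g⁻¹)⁻¹ = ((a : G) * g)⁻¹ * ((b : G) * g) := by group
          rw [e]
          exact h
        by_cases hab : (a : G)⁻¹ * b = 1
        · have : (a : G) = b := by
            have := congrArg (fun z => (a : G) * z) hab
            simpa using this.symm
          rw [Subtype.ext this]
        · exact absurd (mem_normalizer_of_conj_mem W (A.mul_mem (A.inv_mem a.2) b.2) hab h') hgi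
  have h1 := Nat.card_le_card_of_injective f hf
  rw [Finite.card_option] at h1
  have h2 : S.index ≤ A.index :=
    Nat.le_of_dvd (Nat.pos_of_ne_zero Subgroup.FiniteIndex.index_ne_zero) (Subgroup.index_dvd_of_le hAS)
  rw [W.index_eq] at h2
  have h3 : Nat.card (G ⧸ S) = S.index := rfl
  omega

theorem false_of_ctx (W : WCtx A B) : False :=
  lt_asymm (card_lt W) (card_lt W.symm)

end WCtxX

theorem nil_of_subgroupOf (A H : Subgroup G) (hA : Group.IsNilpotent A) :
    Group.IsNilpotent (A.subgroupOf H) := by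
  let f : ↥(A.subgroupOf H) →* ↥A :=
    { toFun := fun x => ⟨x.1.1, x.2⟩, map_one' := rfl, map_mul' := fun _ _ => rfl }
  have hf : Function.Injective f := by
    intro x y hxy
    have h : (f x : G) = (f y : G) := congrArg Subtype.val hxy
    exact Subtype.ext (Subtype.ext h)
  exact Group.nilpotent_of_mulEquiv (MonoidHom.ofInjective hf).symm

/-- **Wielandt's theorem**. -/
theorem solvable_main : ∀ (n : ℕ) (G : Type u) [Group G] [Finite G] (A B : Subgroup G),
    Nat.card G = n → Group.IsNilpotent A → Group.IsNilpotent B →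
    (Nat.card A).Coprime (Nat.card B) → (∀ g : G, ∃ a ∈ A, ∃ b ∈ B, g = a * b) →
    Group.IsSolvable G := by
  intro n
  induction n using Nat.strong_induction_on with
  | _ n ih =>
  intro G _ _ A B hn hA hB hc hf
  -- factorized subgroups
  have hsub : ∀ H : Subgroup G, H ≠ ⊤ → Fac A B H → Group.IsSolvable H := by
    intro H hH hfH
    have hlt : Nat.card H < n := by
      rw [← hn]
      exact lt_of_le_of_ne (Subgroup.card_le_card_group H) (fun h => hH (Subgroup.eq_top_of_card_eq H h))
    refine ih _ hlt H (A.subgroupOf H) (B.subgroupOf H) rfl (nil_of_subgroupOf A H hA)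
      (nil_of_subgroupOf B H hB) ?_ ?_
    · exact Nat.Coprime.coprime_dvd_left (card_subgroupOf_dvd A H)
        (Nat.Coprime.coprime_dvd_right (card_subgroupOf_dvd B H) hc)
    · rintro ⟨g, hg⟩
      obtain ⟨a, ha, haH, b, hb, hbH, e⟩ := hfH g hg
      exact ⟨⟨a, haH⟩, ha, ⟨b, hbH⟩, hb, Subtype.ext e⟩
  by_contra hns
  by_cases hsimp : IsSimpleGroup G
  · exact WCtxX.false_of_ctx (A := A) (B := B) ⟨hA, hB, hc, hf, hsimp, hns, hsub⟩
  · have hex : ∃ N : Subgroup G, N.Normal ∧ N ≠ ⊥ ∧ N ≠ ⊤ := by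
      by_contra hno
      push Not at hno
      apply hsimp
      haveI : Nontrivial G := by
        by_contra hnt
        rw [not_nontrivial_iff_subsingleton] at hnt
        exact hns inferInstance
      exact ⟨fun H hH => by
        by_cases h : H = ⊥
        · exact Or.inl h
        · exact Or.inr (hno H hH h)⟩
    obtain ⟨N, hNn, hNbot, hNtop⟩ := hex
    haveI := hNn
    set f := QuotientGroup.mk' N with hf'
    have hker : f.ker = N := QuotientGroup.ker_mk' N
    have hFac : Fac A B N := by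
      intro g hg
      obtain ⟨a, ha, b, hb, e⟩ := hf g
      have h1 : f a * f b = 1 := by
        rw [← map_mul, ← e, ← MonoidHom.mem_ker, hker]
        exact hg
      have h2 : f a = (f b)⁻¹ := eq_inv_of_mul_eq_one_left h1
      have h3 : orderOf (f a) ∣ Nat.card A :=
        (orderOf_map_dvd f a).trans (Subgroup.orderOf_dvd_natCard A ha)
      have h4 : orderOf (f a) ∣ Nat.card B := by
        rw [h2, orderOf_inv]
        exact (orderOf_map_dvd f b).trans (Subgroup.orderOf_dvd_natCard B hb)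
      have h5 : orderOf (f a) = 1 := Nat.eq_one_of_dvd_coprimes hc h3 h4
      have h6 : a ∈ N := by
        rw [← hker, MonoidHom.mem_ker]
        exact orderOf_eq_one_iff.1 h5
      refine ⟨a, ha, h6, b, hb, ?_, e⟩
      have : b = a⁻¹ * g := by rw [e]; group
      rw [this]
      exact N.mul_mem (N.inv_mem h6) hg
    have hsolN := hsub N hNtop hFac
    have hlt : Nat.card (G ⧸ N) < n := by
      rw [← hn, Subgroup.card_eq_card_quotient_mul_card_subgroup N]
      have h1 : 1 < Nat.card N := by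
        have h2 : Nat.card N ≠ 1 := fun h => hNbot (Subgroup.eq_bot_of_card_eq N h)
        have h3 : 0 < Nat.card N := Nat.card_pos
        omega
      have h2 : 0 < Nat.card (G ⧸ N) := Nat.card_pos
      nlinarith
    have hsolQ := ih _ hlt (G ⧸ N) (A.map f) (B.map f) rfl
      (by
        haveI := hA
        exact Group.nilpotent_of_surjective (f.subgroupMap A) (f.subgroupMap_surjective A))
      (by
        haveI := hB
        exact Group.nilpotent_of_surjective (f.subgroupMap B) (f.subgroupMap_surjective B))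
      (Nat.Coprime.coprime_dvd_left (Subgroup.card_map_dvd A f)
        (Nat.Coprime.coprime_dvd_right (Subgroup.card_map_dvd B f) hc))
      (by
        intro q
        obtain ⟨g, rfl⟩ := QuotientGroup.mk'_surjective N q
        obtain ⟨a, ha, b, hb, e⟩ := hf g
        exact ⟨f a, ⟨a, ha, rfl⟩, f b, ⟨b, hb, rfl⟩, by rw [e, map_mul]⟩)
    apply hns
    apply Group.isSolvable_of_ker_le_range N.subtype f
    rw [hker, Subgroup.range_subtype]

end Cfsg.Agent.Lib.Wielandt3
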