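import Mathlib
import Cfsg.Agent.Lib.Wielandt3
import Cfsg.Agent.S0560
import Cfsg.Agent.S0566

/-!
# The Kegel–Wielandt theorem: a finite product of two nilpotent groups is solvable.
-/

set_option autoImplicit false
set_option linter.style.haveILetI false

universe u

open Pointwise

namespace Cfsg.Agent.Lib.KegelWielandt

open Subgroup Cfsg Cfsg.Agent.Lib.PCore Cfsg.Agent.Lib.Wielandt
open Cfsg.Agent.Lib.Factorized (mem_conj_iff)
open Cfsg.Agent.Lib.PComplement (exists_decomp)

section basics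

variable {G : Type u} [Group G] [Finite G]

/-- `A_t B_t` is a Sylow subgroup. -/
theorem exists_sylow_mul {A B : Subgroup G} (hA : Group.IsNilpotent A) (hB : Group.IsNilpotent B)
    (hf : ∀ g : G, ∃ a ∈ A, ∃ b ∈ B, g = a * b) (t : ℕ) [Fact t.Prime] :
    ∃ R : Sylow t G, ((R : Subgroup G) : Set G) = (part A t : Set G) * (part B t : Set G) := by
  obtain ⟨P, Q, R, e⟩ := Cfsg.Agent.S0560.result A B hf t
  refine ⟨R, ?_⟩
  rw [e, part, part, pCore_eq_sylow hA t P, pCore_eq_sylow hB t Q]

/-- Conjugates of a product. -/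
theorem conj_mul_set {A B : Subgroup G} (hA : Group.IsNilpotent A) (hB : Group.IsNilpotent B)
    {t : ℕ} [Fact t.Prime] {R : Subgroup G}
    (hR : (R : Set G) = (part A t : Set G) * (part B t : Set G)) {a b : G} (ha : a ∈ A) (hb : b ∈ B) :
    ((MulAut.conj a • R : Subgroup G) : Set G) =
      (part A t : Set G) * ((MulAut.conj (a * b) • part B t : Subgroup G) : Set G) := by
  ext z
  rw [SetLike.mem_coe, mem_conj_iff]
  constructor
  · intro hz
    have : a⁻¹ * z * a ∈ (R : Set G) := hz
    rw [hR] at this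
    obtain ⟨u, hu, v, hv, ev⟩ := this
    refine ⟨a * u * a⁻¹, conj_mem_part hA ha hu, a * v * a⁻¹, ?_, ?_⟩
    · rw [SetLike.mem_coe, mem_conj_iff]
      have e2 : (a * b)⁻¹ * (a * v * a⁻¹) * (a * b) = b⁻¹ * v * b := by group
      rw [e2]
      exact conj_inv_mem_part hB hb hv
    · have : z = a * (a⁻¹ * z * a) * a⁻¹ := by group
      rw [this, ← ev]
      group
  · rintro ⟨u, hu, v, hv, rfl⟩
    have h1 : a⁻¹ * u * a ∈ part A t := conj_inv_mem_part hA ha hu
    have hv' := mem_conj_iff.1 (SetLike.mem_coe.1 hv)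
    have h2 : b * ((a * b)⁻¹ * v * (a * b)) * b⁻¹ ∈ part B t := conj_mem_part hB hb hv'
    have e3 : b * ((a * b)⁻¹ * v * (a * b)) * b⁻¹ = a⁻¹ * v * a := by group
    rw [e3] at h2
    have : a⁻¹ * (u * v) * a = (a⁻¹ * u * a) * (a⁻¹ * v * a) := by group
    rw [this]
    have h3 : (a⁻¹ * u * a) * (a⁻¹ * v * a) ∈ (R : Set G) := by
      rw [hR]
      exact ⟨_, h1, _, h2, rfl⟩
    exact h3

theorem mem_pCore_of_pow_eq_one {Γ : Type*} [Group Γ] [Finite Γ] (hΓ : Group.IsNilpotent Γ)
    {t : ℕ} [Fact t.Prime] {y : Γ} {k : ℕ} (hy : y ^ t ^ k = 1) : y ∈ pCore t Γ := by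
  obtain ⟨P⟩ : Nonempty (Sylow t Γ) := inferInstance
  have hN := (Group.isNilpotent_of_finite_tfae (G := Γ)).out 0 3 rfl rfl
  have hPn : (P : Subgroup Γ).Normal := hN.1 hΓ t inferInstance P
  have h1 := Cfsg.Agent.S0577.mem_sylow_of_pow_eq_one P hPn hy
  exact le_pCore hPn P.isPGroup' h1

theorem nil_quot {A N : Subgroup G} [N.Normal] (hA : Group.IsNilpotent A) (hAN : A ⊔ N = ⊤) :
    Group.IsNilpotent (G ⧸ N) := by
  haveI := hA
  let f : A →* G ⧸ N := (QuotientGroup.mk' N).comp A.subtype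
  have hf : Function.Surjective f := by
    intro q
    obtain ⟨x, rfl⟩ := QuotientGroup.mk'_surjective N q
    have hxtop : x ∈ A ⊔ N := by rw [hAN]; trivial
    obtain ⟨a, ha, n, hn, rfl⟩ := Subgroup.mem_sup_of_normal_right.1 hxtop
    refine ⟨⟨a, ha⟩, ?_⟩
    show (QuotientGroup.mk' N) a = _
    rw [map_mul, (QuotientGroup.eq_one_iff n).2 hn |> fun h => (show (QuotientGroup.mk' N) n = 1 from h), mul_one]
  exact Group.nilpotent_of_surjective f hf

/-- The preimage of the `t`-core of a nilpotent quotient. -/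
theorem comap_pCore_le {A N : Subgroup G} [N.Normal] (hA : Group.IsNilpotent A)
    (hAN : A ⊔ N = ⊤) (t : ℕ) [Fact t.Prime] :
    (pCore t (G ⧸ N)).comap (QuotientGroup.mk' N) ≤ part A t ⊔ N := by
  intro x hx
  have hxtop : x ∈ A ⊔ N := by rw [hAN]; trivial
  obtain ⟨a, ha, n, hn, rfl⟩ := Subgroup.mem_sup_of_normal_right.1 hxtop
  obtain ⟨u, v, e, hu, hv, ⟨k, hk⟩, hc⟩ := exists_decomp t a
  have hz : zpowers a ≤ A := by
    rw [Subgroup.zpowers_le]; exact ha
  have huP : u ∈ part A t := (mem_part hA).2 ⟨hz hu, k, hk⟩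
  set π := QuotientGroup.mk' N with hπ
  have hnN : π n = 1 := by
    rw [hπ, ← MonoidHom.mem_ker, QuotientGroup.ker_mk']
    exact hn
  have hx' : π (a * n) ∈ pCore t (G ⧸ N) := hx
  have hπu : π u ∈ pCore t (G ⧸ N) := by
    apply mem_pCore_of_pow_eq_one (nil_quot hA hAN) (k := k)
    rw [← map_pow, hk, map_one]
  have hπv : π v ∈ pCore t (G ⧸ N) := by
    have h1 : π v = (π u)⁻¹ * π (a * n) := by
      rw [map_mul, hnN, mul_one, e, map_mul]
      group
    rw [h1]
    exact Subgroup.mul_mem _ (Subgroup.inv_mem _ hπu) hx'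
  have hv1 : π v = 1 := by
    obtain ⟨m, hm⟩ := isPGroup_pCore (G := G ⧸ N) t ⟨_, hπv⟩
    have h2 : (π v) ^ t ^ m = 1 := congrArg Subtype.val hm
    have h3 : orderOf (π v) ∣ t ^ m := orderOf_dvd_of_pow_eq_one h2
    have h4 : orderOf (π v) ∣ orderOf v := orderOf_map_dvd π v
    have h5 : orderOf (π v) = 1 :=
      Nat.eq_one_of_dvd_coprimes (Nat.Coprime.pow_right m hc) h4 h3
    exact orderOf_eq_one_iff.1 h5
  have hvN : v ∈ N := by
    rw [← QuotientGroup.ker_mk' N, MonoidHom.mem_ker]
    exact hv1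
  rw [e, mul_assoc]
  exact Subgroup.mul_mem _ (Subgroup.mem_sup_left huP)
    (Subgroup.mem_sup_right (N.mul_mem hvN hn))

/-- Descending from a normal subgroup of `L` to a normal subgroup of `G`. -/
theorem le_of_kegel {C N L K : Subgroup G} [N.Normal] (hC : Group.IsNilpotent C) (hCN : C ⊔ N = ⊤)
    (hNL : N ≤ L) (hKL : ∀ u ∈ L, ∀ z ∈ K, u * z * u⁻¹ ∈ K) {t : ℕ} [Fact t.Prime]
    (hCK : part C t ≤ K) (hne : part C t ≠ ⊥) (hmin : ∀ D : Subgroup G, D.Normal → D ≠ ⊥ → N ≤ D)
    (hLsup : L ≤ part C t ⊔ N) : L ≤ K := by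
  set D : Subgroup G := ⨅ c : C, MulAut.conj (c : G) • K with hD
  have hmem : ∀ x, x ∈ D ↔ ∀ c ∈ C, c⁻¹ * x * c ∈ K := by
    intro x
    rw [hD, Subgroup.mem_iInf]
    constructor
    · intro h c hc
      exact mem_conj_iff.1 (h ⟨c, hc⟩)
    · intro h c
      exact mem_conj_iff.2 (h c c.2)
  have hDn : D.Normal := by
    constructor
    intro x hx g
    rw [hmem] at hx ⊢
    intro c hc
    have hg : c⁻¹ * g ∈ C ⊔ N := by rw [hCN]; trivial
    obtain ⟨c', hc', n', hn', e⟩ := Subgroup.mem_sup_of_normal_right.1 hg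
    have h1 := hx c'⁻¹ (C.inv_mem hc')
    rw [inv_inv] at h1
    have h2 : c' * n' * c'⁻¹ ∈ N := Subgroup.Normal.conj_mem inferInstance n' hn' c'
    have h3 := hKL _ (hNL h2) _ h1
    have e2 : c⁻¹ * (g * x * g⁻¹) * c = (c⁻¹ * g) * x * (c⁻¹ * g)⁻¹ := by group
    rw [e2, ← e]
    have e3 : c' * n' * x * (c' * n')⁻¹ = c' * n' * c'⁻¹ * (c' * x * c'⁻¹) * (c' * n' * c'⁻¹)⁻¹ := by
      group
    rw [e3]
    exact h3
  have hPD : part C t ≤ D := by
    intro u hu
    rw [hmem]
    intro c hc
    exact hCK (conj_inv_mem_part hC hc hu)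
  have hDne : D ≠ ⊥ := by
    intro h
    apply hne
    rw [eq_bot_iff, ← h]
    exact hPD
  have hND := hmin D hDn hDne
  have hDK : D ≤ K := by
    intro x hx
    have := (hmem x).1 hx 1 C.one_mem
    simpa using this
  exact hLsup.trans (sup_le hCK (hND.trans hDK))

end basics

/-- **The Kegel–Wielandt theorem.** -/
theorem solvable_main : ∀ (n : ℕ) (G : Type u) [Group G] [Finite G] (A B : Subgroup G),
    Nat.card G = n → Group.IsNilpotent A → Group.IsNilpotent B →
    (∀ g : G, ∃ a ∈ A, ∃ b ∈ B, g = a * b) → Group.IsSolvable G := by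
  intro n
  induction n using Nat.strong_induction_on with
  | _ n ih =>
  intro G _ _ A B hn hA hB hf
  by_contra hns
  have hsub : ∀ H : Subgroup G, H ≠ ⊤ → Fac A B H → Group.IsSolvable H := by
    intro H hH hfH
    have hlt : Nat.card H < n := by
      rw [← hn]
      exact lt_of_le_of_ne (Subgroup.card_le_card_group H) (fun h => hH (Subgroup.eq_top_of_card_eq H h))
    refine ih _ hlt H (A.subgroupOf H) (B.subgroupOf H) rfl
      (Cfsg.Agent.Lib.Wielandt3.nil_of_subgroupOf A H hA)
      (Cfsg.Agent.Lib.Wielandt3.nil_of_subgroupOf B H hB) ?_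
    rintro ⟨g, hg⟩
    obtain ⟨a, ha, haH, b, hb, hbH, e⟩ := hfH g hg
    exact ⟨⟨a, haH⟩, ha, ⟨b, hbH⟩, hb, Subtype.ext e⟩
  have hquot : ∀ (R : Subgroup G) [R.Normal], R ≠ ⊥ → Group.IsSolvable (G ⧸ R) := by
    intro R _ hRbot
    have hlt : Nat.card (G ⧸ R) < n := by
      rw [← hn, Subgroup.card_eq_card_quotient_mul_card_subgroup R]
      have h1 : 1 < Nat.card R := by
        have h2 : Nat.card R ≠ 1 := fun h => hRbot (Subgroup.eq_bot_of_card_eq R h)
        have h3 : 0 < Nat.card R := Nat.card_pos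
        omega
      have h2 : 0 < Nat.card (G ⧸ R) := Nat.card_pos
      nlinarith
    set f := QuotientGroup.mk' R with hf'
    refine ih _ hlt (G ⧸ R) (A.map f) (B.map f) rfl ?_ ?_ ?_
    · haveI := hA
      exact Group.nilpotent_of_surjective (f.subgroupMap A) (f.subgroupMap_surjective A)
    · haveI := hB
      exact Group.nilpotent_of_surjective (f.subgroupMap B) (f.subgroupMap_surjective B)
    · intro q
      obtain ⟨g, rfl⟩ := QuotientGroup.mk'_surjective R q
      obtain ⟨a, ha, b, hb, e⟩ := hf g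
      exact ⟨f a, ⟨a, ha, rfl⟩, f b, ⟨b, hb, rfl⟩, by rw [e, map_mul]⟩
  have hRns : ∀ R : Subgroup G, R.Normal → R ≠ ⊥ → ¬ Group.IsSolvable R := by
    intro R hR hRbot hsol
    haveI := hR
    haveI := hquot R hRbot
    apply hns
    apply Group.isSolvable_of_ker_le_range R.subtype (QuotientGroup.mk' R)
    rw [QuotientGroup.ker_mk', Subgroup.range_subtype]
  have hARtop : ∀ R : Subgroup G, R.Normal → R ≠ ⊥ → A ⊔ R = ⊤ := by
    intro R hR hRbot
    by_contra hne
    exact hRns R hR hRbot (isSolvable_of_le le_sup_right (hsub _ hne (fac_of_le hf le_sup_left)))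
  have hBRtop : ∀ R : Subgroup G, R.Normal → R ≠ ⊥ → B ⊔ R = ⊤ := by
    intro R hR hRbot
    by_contra hne
    exact hRns R hR hRbot
      (isSolvable_of_le le_sup_right (hsub _ hne (fac_of_le (fac_symm hf) le_sup_left).symm))
  -- a minimal normal subgroup
  have hnt : Nontrivial G := by
    by_contra hnt
    rw [not_nontrivial_iff_subsingleton] at hnt
    exact hns inferInstance
  let S : Set (Subgroup G) := {R | R.Normal ∧ R ≠ ⊥}
  have hSne : S.Nonempty := ⟨⊤, inferInstance, top_ne_bot⟩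
  obtain ⟨N, hNS⟩ := S.toFinite.exists_minimal hSne
  obtain ⟨hNn, hNbot⟩ := hNS.1
  haveI := hNn
  have hmin : ∀ D : Subgroup G, D.Normal → D ≠ ⊥ → N ≤ D := by
    intro D hD hDbot
    haveI := hD
    by_cases hinf : D ⊓ N = ⊥
    · exfalso
      haveI := hquot D hDbot
      apply hRns N hNn hNbot
      apply Group.isSolvable_of_isSolvable_injective (f := (QuotientGroup.mk' D).comp N.subtype)
      intro x y hxy
      have h1 : (QuotientGroup.mk' D) (x : G) = (QuotientGroup.mk' D) (y : G) := hxy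
      have h2 : (x : G)⁻¹ * y ∈ D := QuotientGroup.eq.1 h1
      have h3 : (x : G)⁻¹ * y ∈ D ⊓ N := ⟨h2, N.mul_mem (N.inv_mem x.2) y.2⟩
      rw [hinf, Subgroup.mem_bot] at h3
      exact Subtype.ext (inv_mul_eq_one.1 h3)
    · have h1 : D ⊓ N ∈ S := ⟨inferInstance, hinf⟩
      exact (hNS.2 h1 inf_le_right).trans inf_le_left
  -- `G = N`
  have hNtop : N = ⊤ := by
    by_contra hNne
    have hidx : Nat.card (G ⧸ N) ≠ 1 := by
      intro h
      apply hNne
      rw [← Subgroup.index_eq_one]
      exact h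
    obtain ⟨t, ht, htd⟩ := Nat.exists_prime_and_dvd hidx
    haveI : Fact t.Prime := ⟨ht⟩
    have hAN := hARtop N hNn hNbot
    have hBN := hBRtop N hNn hNbot
    have hdvd : ∀ C : Subgroup G, C ⊔ N = ⊤ → t ∣ Nat.card C := by
      intro C hCN
      have h1 : C.map (QuotientGroup.mk' N) = ⊤ := by
        rw [eq_top_iff]
        intro q _
        obtain ⟨x, rfl⟩ := QuotientGroup.mk'_surjective N q
        have hxtop : x ∈ C ⊔ N := by rw [hCN]; trivial
        obtain ⟨a, ha, n, hn, rfl⟩ := Subgroup.mem_sup_of_normal_right.1 hxtop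
        refine ⟨a, ha, ?_⟩
        rw [map_mul, (show (QuotientGroup.mk' N) n = 1 from (QuotientGroup.eq_one_iff n).2 hn), mul_one]
      have h2 := Subgroup.card_map_dvd C (QuotientGroup.mk' N)
      rw [h1, Subgroup.card_top] at h2
      exact htd.trans h2
    have htA := hdvd A hAN
    have htB := hdvd B hBN
    have hQ := nil_quot hA hAN
    set π := QuotientGroup.mk' N with hπ
    set L : Subgroup G := (pCore t (G ⧸ N)).comap π with hL
    have hLn : L.Normal := Subgroup.Normal.comap inferInstance π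
    have hNL : N ≤ L := by
      intro x hx
      have : π x = 1 := by
        rw [hπ, ← MonoidHom.mem_ker, QuotientGroup.ker_mk']
        exact hx
      rw [hL, Subgroup.mem_comap, this]
      exact Subgroup.one_mem _
    have hpartL : ∀ C : Subgroup G, Group.IsNilpotent C → part C t ≤ L := by
      intro C hC x hx
      obtain ⟨-, k, hk⟩ := (mem_part hC).1 hx
      apply mem_pCore_of_pow_eq_one hQ (k := k)
      rw [← map_pow, hk, map_one]
    have hLA : L ≤ part A t ⊔ N := comap_pCore_le hA hAN t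
    have hLB : L ≤ part B t ⊔ N := comap_pCore_le hB hBN t
    obtain ⟨R, hR⟩ := exists_sylow_mul hA hB hf t
    have hAne := part_ne_bot htA hA
    have hBne := part_ne_bot htB hB
    have hLnp : ¬ IsPGroup t L := by
      intro hp
      haveI := hp.isNilpotent
      have hsol : Group.IsSolvable L := inferInstance
      exact hRns N hNn hNbot (isSolvable_of_le hNL hsol)
    have hX : (part A t).subgroupOf L ≠ ⊥ := by
      intro h
      apply hAne
      rw [eq_bot_iff]
      intro x hx
      have : (⟨x, hpartL A hA hx⟩ : L) ∈ (part A t).subgroupOf L := hx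
      rw [h, Subgroup.mem_bot] at this
      simpa using congrArg Subtype.val this
    have hY : (part B t).subgroupOf L ≠ ⊥ := by
      intro h
      apply hBne
      rw [eq_bot_iff]
      intro x hx
      have : (⟨x, hpartL B hB hx⟩ : L) ∈ (part B t).subgroupOf L := hx
      rw [h, Subgroup.mem_bot] at this
      simpa using congrArg Subtype.val this
    obtain ⟨K, hKn, hKtop, hK⟩ := Cfsg.Agent.S0566.result _ _ hX hY (fun x => by
      obtain ⟨a, ha, b, hb, e⟩ := hf (x : G)
      have hset := conj_mul_set hA hB hR ha hb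
      rw [← e] at hset
      refine ⟨(MulAut.conj a • (R : Subgroup G)).subgroupOf L, ?_, ?_⟩
      · intro htop
        apply hLnp
        have hle : L ≤ MulAut.conj a • (R : Subgroup G) := by
          intro z hz
          have : (⟨z, hz⟩ : L) ∈ (MulAut.conj a • (R : Subgroup G)).subgroupOf L := by
            rw [htop]; trivial
          exact this
        have hpp : IsPGroup t ↥(MulAut.conj a • (R : Subgroup G)) :=
          IsPGroup.of_equiv R.isPGroup' (Subgroup.equivSMul (MulAut.conj a) (R : Subgroup G))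
        exact hpp.to_le hle
      · ext z
        constructor
        · intro hz
          have h1 : (z : G) ∈ ((MulAut.conj a • (R : Subgroup G) : Subgroup G) : Set G) := hz
          rw [hset] at h1
          obtain ⟨u, hu, v, hv, euv⟩ := h1
          have hvL : v ∈ L := by
            have : v = u⁻¹ * z := by rw [← euv]; group
            rw [this]
            exact L.mul_mem (L.inv_mem (hpartL A hA hu)) z.2
          refine ⟨⟨u, hpartL A hA hu⟩, hu, ⟨v, hvL⟩, ?_, Subtype.ext euv⟩
          rw [SetLike.mem_coe, mem_conj_iff]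
          have h2 : (x : G)⁻¹ * v * (x : G) ∈ part B t := mem_conj_iff.1 hv
          exact h2
        · rintro ⟨u, hu, v, hv, rfl⟩
          have h1 : ((u * v : L) : G) ∈ ((MulAut.conj a • (R : Subgroup G) : Subgroup G) : Set G) := by
            rw [hset]
            have h2 : x⁻¹ * v * x ∈ (part B t).subgroupOf L := mem_conj_iff.1 hv
            have h3 : (x : G)⁻¹ * v * x ∈ part B t := h2
            exact ⟨u, hu, v, mem_conj_iff.2 h3, rfl⟩
          exact h1)
    set K' := K.map L.subtype with hK'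
    have hKL : ∀ u ∈ L, ∀ z ∈ K', u * z * u⁻¹ ∈ K' := by
      rintro u hu _ ⟨z, hz, rfl⟩
      exact ⟨_, hKn.conj_mem z hz ⟨u, hu⟩, rfl⟩
    have hLK : L ≤ K' := by
      rcases hK with h | h
      · exact le_of_kegel hA hAN hNL hKL (fun x hx => ⟨⟨x, hpartL A hA hx⟩, h hx, rfl⟩) hAne hmin hLA
      · exact le_of_kegel hB hBN hNL hKL (fun x hx => ⟨⟨x, hpartL B hB hx⟩, h hx, rfl⟩) hBne hmin hLB
    apply hKtop
    rw [eq_top_iff]
    intro z _
    obtain ⟨w, hw, e⟩ := hLK z.2
    have : w = z := Subtype.ext e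
    rwa [← this]
  -- `G` is simple
  have hsimple : IsSimpleGroup G := ⟨fun D hD => by
    by_cases h : D = ⊥
    · exact Or.inl h
    · right
      rw [eq_top_iff, ← hNtop]
      exact hmin D hD h⟩
  -- coprime orders
  have hcop : (Nat.card A).Coprime (Nat.card B) := by
    by_contra hnc
    obtain ⟨t, ht, htA, htB⟩ := Nat.Prime.not_coprime_iff_dvd.1 hnc
    haveI : Fact t.Prime := ⟨ht⟩
    obtain ⟨R, hR⟩ := exists_sylow_mul hA hB hf t
    have hAne := part_ne_bot htA hA
    have hBne := part_ne_bot htB hB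
    obtain ⟨K, hKn, hKtop, hK⟩ := Cfsg.Agent.S0566.result _ _ hAne hBne (fun x => by
      obtain ⟨a, ha, b, hb, e⟩ := hf x
      have hset := conj_mul_set hA hB hR ha hb
      rw [← e] at hset
      refine ⟨MulAut.conj a • (R : Subgroup G), ?_, hset⟩
      intro htop
      apply hns
      have hpp : IsPGroup t ↥(MulAut.conj a • (R : Subgroup G)) :=
        IsPGroup.of_equiv R.isPGroup' (Subgroup.equivSMul (MulAut.conj a) (R : Subgroup G))
      rw [htop] at hpp
      haveI := (IsPGroup.of_equiv hpp Subgroup.topEquiv : IsPGroup t G).isNilpotent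
      infer_instance)
    rcases IsSimpleGroup.eq_bot_or_eq_top_of_normal K hKn with h | h
    · rcases hK with h' | h'
      · apply hAne; rw [eq_bot_iff, ← h]; exact h'
      · apply hBne; rw [eq_bot_iff, ← h]; exact h'
    · exact hKtop h
  exact hns (Cfsg.Agent.Lib.Wielandt3.solvable_main _ G A B rfl hA hB hcop hf)

end Cfsg.Agent.Lib.KegelWielandt
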