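import Mathlib
import Cfsg.Agent.Lib.ItoWild
import Cfsg.Agent.Lib.Frobenius
import Cfsg.Agent.Lib.FrobeniusThm
import Cfsg.Agent.Lib.Kegel
import Cfsg.Agent.Lib.KegelWielandt

/-!
# Ito's theorem: the tame world

All noncentral prime power elements are tame. Here: abelian components with the TI property, the
Frobenius case and the count when there is no isolated prime; the Kegel-Wielandt case.
-/

set_option autoImplicit false
set_option linter.unusedSectionVars false
set_option linter.unusedVariables false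

namespace Cfsg.Agent.Lib.ItoTame

open Subgroup
open Cfsg
open Cfsg.Agent.Lib.CoprimeClass (cs mem_cent cs_eq_one_iff cs_conj cs_ne_zero eq_top_of_conj_cover
  card_conj exists_mul_of_coprime)
open Cfsg.Agent.Lib.CentTools (Cn mem_Cn Cn_mul conj_mem_Cn Cn_mul_central conj_mem_center_iff
  exists_special card_mul_card_le ncard_diff)
open Cfsg.Agent.Lib.ItoBasic Cfsg.Agent.Lib.ItoComp Cfsg.Agent.Lib.ItoWild

universe u

variable {G : Type u} [Group G] [Finite G]

/-- All noncentral elements of prime power order are tame. -/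
def Tame (G : Type u) [Group G] : Prop :=
  ∀ (q t : ℕ) (u v : G), q.Prime → t.Prime → t ≠ q → QE q u → u ∉ center G → QE t v → v ∈ Cn u →
    ∀ g ∈ Cn u, g * v = v * g

/-- `q` is an isolated prime. -/
def Iso (G : Type u) [Group G] (q : ℕ) : Prop :=
  ∃ y : G, QE q y ∧ y ∉ center G ∧
    ∀ (t : ℕ) (e : G), t.Prime → t ≠ q → QE t e → e ∈ Cn y → e ∈ center G

section Comp

variable {Θ : ℕ → Prop} (hCS : CS Θ G) (hT : Tame G)

include hCS hT

/-- Components are abelian. -/
theorem abel {q : ℕ} (hq : Θ q) {u : G} (hu : QE q u) (hun : u ∉ center G) {a b : G}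
    (ha : a ∈ Cn u) (hb : b ∈ Cn u) : a * b = b * a := by
  have key : ∀ x ∈ Cn u, x ∈ centralizer (Cn u : Set G) := by
    intro x hx
    apply mem_of_pp_powers _ _ x rfl
    intro i s hs hqe
    have hxi : x ^ i ∈ Cn u := (Cn u).pow_mem hx i
    rw [mem_centralizer_iff]
    intro g hg
    by_cases hsq : s = q
    · subst hsq
      obtain ⟨t, d, ht, hne, hd, hdn, hud⟩ := hCS.two s u hq hu hun
      have hC : Cn u = Cn d := hCS.same s t u d hq ht hu hd hun hdn hud
      have hxi' : x ^ i ∈ Cn d := hC ▸ hxi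
      exact hT t s d (x ^ i) (hCS.prime t ht) hs hne.symm hd hdn hqe hxi' g (hC ▸ hg)
    · exact hT q s u (x ^ i) (hCS.prime q hq) hs hsq hu hun hqe hxi g hg
  exact (mem_centralizer_iff.1 (key b hb)) a ha

/-- Noncentral elements of a component have the component as centralizer. -/
theorem ti {q : ℕ} (hq : Θ q) {u : G} (hu : QE q u) (hun : u ∉ center G) {g : G} (hg : g ∈ Cn u)
    (hgn : g ∉ center G) : Cn g = Cn u := by
  apply le_antisymm
  · obtain ⟨i, s, hs, hqe, hen⟩ := exists_pp_power_not_mem (center G) hgn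
    have h1 : Cn g ≤ Cn (g ^ i) := Cfsg.Agent.Lib.CoprimeClass.cent_le_pow g i
    refine h1.trans ?_
    have hgi : g ^ i ∈ Cn u := (Cn u).pow_mem hg i
    by_cases hsq : s = q
    · subst hsq
      obtain ⟨t, d, ht, hne, hd, hdn, hud⟩ := hCS.two s u hq hu hun
      have hC : Cn u = Cn d := hCS.same s t u d hq ht hu hd hun hdn hud
      have hgi' : g ^ i ∈ Cn d := hC ▸ hgi
      rw [hC]
      intro a ha
      exact mem_Cn.2 (hT s t (g ^ i) d hs (hCS.prime t ht) hne hqe hen hd (mem_Cn.2 (mem_Cn.1 hgi').symm) a ha)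
    · intro a ha
      exact mem_Cn.2 (hT s q (g ^ i) u hs (hCS.prime q hq) (Ne.symm hsq) hqe hen hu (mem_Cn.2 (mem_Cn.1 hgi).symm) a ha)
  · intro a ha
    exact mem_Cn.2 (abel hCS hT hq hu hun ha hg)

/-- Elements of a component: conjugating into the same centralizer normalizes. -/
theorem mem_normalizer_of_conj {q : ℕ} (hq : Θ q) {u : G} (hu : QE q u) (hun : u ∉ center G) {x g : G}
    (hx : x ∈ Cn u) (hxn : x ∉ center G) (hgx : g * x * g⁻¹ ∈ Cn u) :
    g ∈ normalizer (Cn u : Set G) := by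
  have h1 : g * x * g⁻¹ ∉ center G := by rwa [conj_mem_center_iff]
  have h2 := ti hCS hT hq hu hun hgx h1
  have h3 := ti hCS hT hq hu hun hx hxn
  apply mem_normalizer_of_forall
  intro a ha
  rw [← h2]
  apply conj_mem_Cn
  rwa [h3]

end Comp

theorem solvable_of_quot (h : Group.IsSolvable (G ⧸ center G)) : Group.IsSolvable G := by
  haveI : Group.IsSolvable (center G) :=
    isSolvable_of_comm (fun a b => Subtype.ext (mem_center_iff.1 b.2 a))
  refine solvable_of_ker_le_range (center G).subtype (QuotientGroup.mk' (center G)) ?_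
  intro x hx
  rw [MonoidHom.mem_ker, QuotientGroup.mk'_apply, QuotientGroup.eq_one_iff] at hx
  exact ⟨⟨x, hx⟩, rfl⟩

/-- The Frobenius case. -/
theorem frob_solvable (D : Subgroup G) (hZ : center G ≤ D) (habel : ∀ a ∈ D, ∀ b ∈ D, a * b = b * a)
    (hti : ∀ x ∈ D, x ∉ center G → ∀ g : G, g * x * g⁻¹ ∈ D → g ∈ D)
    (hne : ∃ x ∈ D, x ∉ center G) (htop : D ≠ ⊤) : Group.IsSolvable G := by
  classical
  apply solvable_of_quot
  let π := QuotientGroup.mk' (center G)
  let Db := D.map π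
  have hmemD : ∀ g : G, π g ∈ Db → g ∈ D := by
    rintro g ⟨d, hd, he⟩
    have h1 : d⁻¹ * g ∈ center G := QuotientGroup.eq.1 he
    have h2 : g = d * (d⁻¹ * g) := by group
    rw [h2]
    exact D.mul_mem hd (hZ h1)
  obtain ⟨x₀, hx₀D, hx₀n⟩ := hne
  have hx₀b : π x₀ ≠ 1 := fun h => hx₀n ((QuotientGroup.eq_one_iff x₀).1 h)
  have hF : IsFrobeniusComplement Db := by
    refine ⟨?_, ?_, ?_⟩
    · intro h
      have : π x₀ ∈ Db := ⟨x₀, hx₀D, rfl⟩
      rw [h, mem_bot] at this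
      exact hx₀b this
    · intro h
      apply htop
      rw [eq_top_iff]
      intro g _
      apply hmemD
      rw [h]
      trivial
    · intro gb hgb
      rw [eq_bot_iff]
      rintro xb ⟨hx1, hx2⟩
      obtain ⟨g, rfl⟩ := QuotientGroup.mk'_surjective (center G) gb
      obtain ⟨x, hx, rfl⟩ := hx1
      have h3 := Cfsg.Agent.Lib.Frobenius.mem_conj_iff.1 hx2
      rw [mem_bot]
      by_contra hxb
      have hxn : x ∉ center G := fun hz => hxb ((QuotientGroup.eq_one_iff x).2 hz)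
      have h4 : π (g⁻¹ * x * g) ∈ Db := by
        rw [map_mul, map_mul, map_inv]
        exact h3
      have h5 : g⁻¹ * x * g⁻¹⁻¹ ∈ D := by
        simpa using hmemD _ h4
      have h6 : g⁻¹ ∈ D := hti x hx hxn g⁻¹ h5
      apply hgb
      exact ⟨g, by simpa using D.inv_mem h6, rfl⟩
  obtain ⟨K, hKset, hKn, hKc⟩ := Cfsg.Agent.Lib.FrobeniusThm.exists_kernel_subgroup hF
  -- the kernel is nilpotent
  have hDne : Nat.card Db ≠ 1 := by
    intro h
    have h1 := Subgroup.card_eq_one.1 h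
    have : π x₀ ∈ Db := ⟨x₀, hx₀D, rfl⟩
    rw [h1, mem_bot] at this
    exact hx₀b this
  obtain ⟨p, hp, hpd⟩ := Nat.exists_prime_and_dvd hDne
  haveI : Fact p.Prime := ⟨hp⟩
  obtain ⟨d, hd⟩ := exists_prime_orderOf_dvd_card' (G := Db) p hpd
  have hd1 : (d : G ⧸ center G) ≠ 1 := by
    intro h
    have h2 : d = 1 := Subtype.ext h
    rw [h2, orderOf_one] at hd
    exact hp.ne_one hd.symm
  have hdp : (d : G ⧸ center G) ^ p = 1 := by
    have := pow_orderOf_eq_one d
    rw [hd] at this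
    exact congrArg Subtype.val this
  have hKnil : Group.IsNilpotent K := by
    let α : MulAut K := MulAut.conjNormal (d : G ⧸ center G)
    have hα : ∀ k : K, ((α k : K) : G ⧸ center G) = d * k * (d : G ⧸ center G)⁻¹ := fun k => by
      simp [α, MulAut.conjNormal_apply]
    refine Cfsg.Agent.Lib.Kegel.nilpotent_of_fpf α ?_ hp ?_
    · intro k hk
      have h1 := congrArg Subtype.val hk
      rw [hα] at h1
      have h2 : (k : G ⧸ center G)⁻¹ * d * k = d := by
        calc (k : G ⧸ center G)⁻¹ * d * k = (k : G ⧸ center G)⁻¹ * (d * k * (d : G ⧸ center G)⁻¹) * d := by group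
          _ = (k : G ⧸ center G)⁻¹ * k * d := by rw [h1]
          _ = d := by group
      have h3 : (k : G ⧸ center G) ∈ Db :=
        Cfsg.Agent.Lib.Frobenius.mem_of_conj_mem hF d.2 hd1 (by rw [h2]; exact d.2)
      have h4 := hKc.disjoint
      have h5 : (k : G ⧸ center G) = 1 := by
        have : (k : G ⧸ center G) ∈ K ⊓ Db := ⟨k.2, h3⟩
        rw [disjoint_iff.1 h4, mem_bot] at this
        exact this
      exact Subtype.ext h5
    · show (MulAut.conjNormal (d : G ⧸ center G)) ^ p = 1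
      rw [← map_pow, hdp, map_one]
  haveI : Group.IsSolvable K := inferInstance
  haveI : Group.IsSolvable Db := isSolvable_of_comm (by
    rintro ⟨_, a, ha, rfl⟩ ⟨_, b, hb, rfl⟩
    apply Subtype.ext
    show π a * π b = π b * π a
    rw [← map_mul, ← map_mul, habel a ha b hb])
  haveI : K.Normal := hKn
  have hsurj : Function.Surjective ((QuotientGroup.mk' K).comp Db.subtype) := by
    intro q
    obtain ⟨g, rfl⟩ := QuotientGroup.mk'_surjective K q
    obtain ⟨⟨k, b⟩, hkb⟩ := hKc.2 g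
    refine ⟨b, ?_⟩
    have h1 : (k : G ⧸ center G) * (b : G ⧸ center G) = g := hkb
    show ((b : G ⧸ center G) : (G ⧸ center G) ⧸ K) = (g : (G ⧸ center G) ⧸ K)
    rw [← h1]
    apply QuotientGroup.eq_iff_div_mem.2
    have : (b : G ⧸ center G) / ((k : G ⧸ center G) * (b : G ⧸ center G)) = (k : G ⧸ center G)⁻¹ := by
      rw [div_eq_mul_inv, mul_inv_rev, mul_inv_cancel_left]
    rw [this]
    exact K.inv_mem k.2
  haveI : Group.IsSolvable ((G ⧸ center G) ⧸ K) := solvable_of_surjective hsurj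
  refine solvable_of_ker_le_range K.subtype (QuotientGroup.mk' K) ?_
  intro x hx
  rw [MonoidHom.mem_ker, QuotientGroup.mk'_apply, QuotientGroup.eq_one_iff] at hx
  exact ⟨⟨x, hx⟩, rfl⟩

/-- Count of the union of conjugates of a subgroup containing the centre, minus the centre. -/
theorem ncard_conj_le (D : Subgroup G) (hZ : center G ≤ D) :
    ({g | g ∉ center G ∧ ∃ h : G, h * g * h⁻¹ ∈ D} : Set G).ncard ≤
      (normalizer (D : Set G)).index * (Nat.card D - Nat.card (center G)) := by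
  classical
  let N := normalizer (D : Set G)
  letI : Fintype (G ⧸ N) := Fintype.ofFinite _
  let B : Set G := (D : Set G) \ (center G : Set G)
  let A : (G ⧸ N) → Set G := fun j => (fun d => (Quotient.out j : G) * d * (Quotient.out j : G)⁻¹) '' B
  have hsub : ({g | g ∉ center G ∧ ∃ h : G, h * g * h⁻¹ ∈ D} : Set G) ⊆ ⋃ j, A j := by
    rintro g ⟨hg, h, hh⟩
    refine Set.mem_iUnion.2 ⟨((h⁻¹ : G) : G ⧸ N), ?_⟩
    set o : G := Quotient.out ((h⁻¹ : G) : G ⧸ N) with ho
    have h1 : (o : G ⧸ N) = ((h⁻¹ : G) : G ⧸ N) := QuotientGroup.out_eq' _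
    have h2 : o⁻¹ * h⁻¹ ∈ N := QuotientGroup.eq.1 h1
    have h3 : (o⁻¹ * h⁻¹) * (h * g * h⁻¹) * (o⁻¹ * h⁻¹)⁻¹ ∈ D := (mem_normalizer_iff.1 h2 _).1 hh
    have h4 : (o⁻¹ * h⁻¹) * (h * g * h⁻¹) * (o⁻¹ * h⁻¹)⁻¹ = o⁻¹ * g * o := by group
    rw [h4] at h3
    refine ⟨o⁻¹ * g * o, ⟨h3, ?_⟩, ?_⟩
    swap
    · show o * (o⁻¹ * g * o) * o⁻¹ = g
      group
    intro hz
    apply hg
    have h5 : o⁻¹ * g * o⁻¹⁻¹ ∈ center G := by simpa using hz
    exact conj_mem_center_iff.1 h5
  have hB : B.ncard = Nat.card D - Nat.card (center G) := by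
    have h1 : B.ncard = (D : Set G).ncard - (center G : Set G).ncard :=
      Set.ncard_diff (fun x hx => hZ hx) (Set.toFinite _)
    rw [h1, ← Nat.card_coe_set_eq, ← Nat.card_coe_set_eq]
    rfl
  have hA : ∀ j, (A j).ncard = B.ncard := by
    intro j
    apply Set.ncard_image_of_injective
    intro a b hab
    have h1 : (Quotient.out j : G) * a * (Quotient.out j : G)⁻¹ = (Quotient.out j : G) * b * (Quotient.out j : G)⁻¹ := hab
    exact mul_left_cancel (mul_right_cancel h1)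
  calc _ ≤ (⋃ j, A j).ncard := Set.ncard_le_ncard hsub (Set.toFinite _)
    _ ≤ ∑ j, (A j).ncard := Set.ncard_iUnion_le_of_fintype A
    _ = Fintype.card (G ⧸ N) * B.ncard := by
        rw [Finset.sum_congr rfl (fun j _ => hA j), Finset.sum_const, Finset.card_univ, smul_eq_mul]
    _ = _ := by
        rw [hB, ← Nat.card_eq_fintype_card, ← index_eq_card]

theorem count_num (A z c₁ c₂ d₁ d₂ X Y W : ℕ) (h1 : X ≤ c₁ * (d₁ - z)) (h2 : Y ≤ c₂ * (d₂ - z))
    (h3 : W ≤ X + Y) (h5 : z + W = A) (h7 : 2 * (c₁ * d₁) ≤ A) (h8 : 2 * (c₂ * d₂) ≤ A)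
    (hc1 : 1 ≤ c₁) (hc2 : 1 ≤ c₂) (hz : 1 ≤ z) (hd1 : z ≤ d₁) (hd2 : z ≤ d₂) : False := by
  have e1 : c₁ * (d₁ - z) + c₁ * z = c₁ * d₁ := by
    rw [← Nat.mul_add, Nat.sub_add_cancel hd1]
  have e2 : c₂ * (d₂ - z) + c₂ * z = c₂ * d₂ := by
    rw [← Nat.mul_add, Nat.sub_add_cancel hd2]
  have e3 : z ≤ c₁ * z := Nat.le_mul_of_pos_left z hc1
  have e4 : z ≤ c₂ * z := Nat.le_mul_of_pos_left z hc2
  omega

/-- The numerical contradiction of the two-class count. -/
theorem count_contra (D₁ D₂ : Subgroup G) (hZ₁ : center G ≤ D₁) (hZ₂ : center G ≤ D₂)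
    (hN₁ : ¬ normalizer (D₁ : Set G) ≤ D₁) (hN₂ : ¬ normalizer (D₂ : Set G) ≤ D₂)
    (hcov : ∀ g : G, g ∉ center G → (∃ h : G, h * g * h⁻¹ ∈ D₁) ∨ ∃ h : G, h * g * h⁻¹ ∈ D₂) : False := by
  classical
  have h1 := ncard_conj_le D₁ hZ₁
  have h2 := ncard_conj_le D₂ hZ₂
  have hsub : ((center G : Set G)ᶜ) ⊆ ({g | g ∉ center G ∧ ∃ h : G, h * g * h⁻¹ ∈ D₁} : Set G) ∪
      ({g | g ∉ center G ∧ ∃ h : G, h * g * h⁻¹ ∈ D₂} : Set G) := by
    intro g hg
    rcases hcov g hg with h3 | h3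
    · exact Or.inl ⟨hg, h3⟩
    · exact Or.inr ⟨hg, h3⟩
  have h3 := Set.ncard_le_ncard hsub (Set.toFinite _)
  have h4 := Set.ncard_union_le ({g | g ∉ center G ∧ ∃ h : G, h * g * h⁻¹ ∈ D₁} : Set G)
    ({g | g ∉ center G ∧ ∃ h : G, h * g * h⁻¹ ∈ D₂} : Set G)
  have h5 := Set.ncard_add_ncard_compl (center G : Set G)
  have h6 : (center G : Set G).ncard = Nat.card (center G) := by rw [← Nat.card_coe_set_eq]; rfl
  rw [h6] at h5
  -- indices
  have hind : ∀ D : Subgroup G, ¬ normalizer (D : Set G) ≤ D →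
      2 * ((normalizer (D : Set G)).index * Nat.card D) ≤ Nat.card G := by
    intro D hD
    have h7 : D.relIndex (normalizer (D : Set G)) * (normalizer (D : Set G)).index = D.index :=
      relIndex_mul_index le_normalizer
    have h8 := D.card_mul_index
    have h9 : D.relIndex (normalizer (D : Set G)) ≠ 1 := fun h => hD (relIndex_eq_one.1 h)
    have h10 : D.relIndex (normalizer (D : Set G)) ≠ 0 := by
      intro h
      rw [h, zero_mul] at h7
      exact index_ne_zero_of_finite h7.symm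
    have h11 : 2 ≤ D.relIndex (normalizer (D : Set G)) := by omega
    rw [← h8, ← h7]
    calc 2 * ((normalizer (D : Set G)).index * Nat.card D)
        ≤ D.relIndex (normalizer (D : Set G)) * ((normalizer (D : Set G)).index * Nat.card D) :=
          Nat.mul_le_mul_right _ h11
      _ = _ := by ring
  exact count_num _ _ _ _ _ _ _ _ _ h1 h2 (h3.trans h4) h5 (hind D₁ hN₁) (hind D₂ hN₂)
    (Nat.pos_of_ne_zero index_ne_zero_of_finite) (Nat.pos_of_ne_zero index_ne_zero_of_finite)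
    Nat.card_pos (Subgroup.card_le_of_le hZ₁) (Subgroup.card_le_of_le hZ₂)

/-- **No isolated primes.** -/
theorem sit2 {n m : ℕ} (hlt : n < m) (hsz : ∀ g : G, g ∉ center G → cs g = n ∨ cs g = m)
    {x₁ x₂ : G} (hx₁ : cs x₁ = n) (hx₂ : cs x₂ = m) (hn₁ : x₁ ∉ center G) (hn₂ : x₂ ∉ center G)
    (hT : Tame G) (hno : ∀ r, ¬ Iso G r) : Group.IsSolvable G := by
  classical
  let Θ : ℕ → Prop := fun q => q.Prime ∧ ∃ u : G, QE q u ∧ u ∉ center G
  have hCS : CS Θ G := by
    apply cs_of_tame (fun q hq => hq.1)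
    · intro q t u v hq ht hne hu hun hv hvC g hg
      exact hT q t u v hq.1 ht.1 hne hu hun hv hvC g hg
    · intro q u hq hu hun
      have h1 := hno q
      unfold Iso at h1
      push Not at h1
      obtain ⟨t, e, ht, hne, he, heC, hen⟩ := h1 u hu hun
      exact ⟨t, e, ⟨ht, e, he, hen⟩, hne, he, hen, (mem_Cn.1 heC).symm⟩
  have hrep : ∀ g : G, g ∉ center G → ∃ (s : ℕ) (e : G), Θ s ∧ QE s e ∧ e ∉ center G ∧ g ∈ Cn e ∧
      Cn g = Cn e := by
    intro g hg
    obtain ⟨i, s, hs, hqe, hen⟩ := exists_pp_power_not_mem (center G) hg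
    have hge : g ∈ Cn (g ^ i) := mem_Cn.2 ((Commute.refl g).pow_right i).eq
    exact ⟨s, g ^ i, ⟨hs, g ^ i, hqe, hen⟩, hqe, hen, hge, ti hCS hT ⟨hs, g ^ i, hqe, hen⟩ hqe hen hge hg⟩
  have hcard : ∀ a b : G, cs a = cs b → Nat.card (Cn a) = Nat.card (Cn b) := by
    intro a b hab
    have h1 := (Cn a).card_mul_index
    have h2 := (Cn b).card_mul_index
    have h3 : (Cn a).index = (Cn b).index := hab
    rw [h3] at h1
    exact Nat.eq_of_mul_eq_mul_right (Nat.pos_of_ne_zero index_ne_zero_of_finite) (h1.trans h2.symm)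
  have hconj : ∀ g x : G, g ∉ center G → x ∉ center G → cs g = cs x → ∃ h : G, h * g * h⁻¹ ∈ Cn x := by
    intro g x hg hx hgx
    obtain ⟨s, e, hs, he, hen, hge, hCg⟩ := hrep g hg
    obtain ⟨s', e', hs', he', hen', hge', hCx⟩ := hrep x hx
    have h1 : Nat.card (Cn e') = Nat.card (Cn e) := by
      rw [← hCg, ← hCx]
      exact hcard _ _ hgx.symm
    obtain ⟨h, hh⟩ := conj_of_card_eq hCS hs' hs he' hen' he hen h1
    refine ⟨h, ?_⟩
    rw [hCx, ← hh]
    exact conj_mem_Cn hge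
  have hcov : ∀ g : G, g ∉ center G → (∃ h : G, h * g * h⁻¹ ∈ Cn x₁) ∨ ∃ h : G, h * g * h⁻¹ ∈ Cn x₂ := by
    intro g hg
    rcases hsz g hg with h1 | h1
    · exact Or.inl (hconj g x₁ hg hn₁ (h1.trans hx₁.symm))
    · exact Or.inr (hconj g x₂ hg hn₂ (h1.trans hx₂.symm))
  have hZle : ∀ x : G, center G ≤ Cn x := fun x a ha => mem_Cn.2 (mem_center_iff.1 ha x).symm
  have hfrob : ∀ x : G, x ∉ center G → normalizer (Cn x : Set G) ≤ Cn x → Group.IsSolvable G := by
    intro x hx hN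
    obtain ⟨s, e, hs, he, hen, hge, hCx⟩ := hrep x hx
    apply frob_solvable (Cn x) (hZle x)
    · intro a ha b hb
      rw [hCx] at ha hb
      exact abel hCS hT hs he hen ha hb
    · intro y hy hyn g hgy
      apply hN
      rw [hCx] at hy hgy ⊢
      exact mem_normalizer_of_conj hCS hT hs he hen hy hyn hgy
    · exact ⟨x, mem_Cn.2 rfl, hx⟩
    · intro htop
      apply hx
      rw [mem_center_iff]
      intro g
      have : g ∈ Cn x := by rw [htop]; trivial
      exact mem_Cn.1 this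
  by_cases h1 : normalizer (Cn x₁ : Set G) ≤ Cn x₁
  · exact hfrob x₁ hn₁ h1
  · by_cases h2 : normalizer (Cn x₂ : Set G) ≤ Cn x₂
    · exact hfrob x₂ hn₂ h2
    · exact (count_contra _ _ (hZle x₁) (hZle x₂) h1 h2 hcov).elim

/-- **Kegel-Wielandt case.** -/
theorem sit1a {Θ : ℕ → Prop} (hCS : CS Θ G) {r : ℕ} (hr : r.Prime)
    (hΘ : ∀ s, s.Prime → s ≠ r → (∃ u : G, QE s u ∧ u ∉ center G) → Θ s)
    (hconj : ∀ (q₁ q₂ : ℕ) (u₁ u₂ : G), Θ q₁ → Θ q₂ → QE q₁ u₁ → u₁ ∉ center G → QE q₂ u₂ →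
      u₂ ∉ center G → ConjC u₂ u₁)
    (hT : Tame G) (hgood : ∀ q, Θ q → ¬ Bad q G) {q₀ : ℕ} {u₀ : G} (hq₀ : Θ q₀) (hu₀ : QE q₀ u₀)
    (hn₀ : u₀ ∉ center G) : Group.IsSolvable G := by
  classical
  haveI : Fact r.Prime := ⟨hr⟩
  let R : Sylow r G := default
  have hZle : center G ≤ Cn u₀ := fun a ha => mem_Cn.2 (mem_center_iff.1 ha u₀).symm
  have hnd : ∀ s, s.Prime → s ≠ r → ¬ s ∣ (Cn u₀).index := by
    intro s hs hsr
    haveI : Fact s.Prime := ⟨hs⟩
    by_cases hex : ∃ u : G, QE s u ∧ u ∉ center G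
    · have hθ := hΘ s hs hsr hex
      have hng := hgood s hθ
      unfold Bad at hng
      push Not at hng
      obtain ⟨S, z, hzS, hzc, hzn⟩ := hng
      have hzq : QE s z := qe_of_isPGroup S.2 hzS
      obtain ⟨g, hg⟩ := hconj q₀ s u₀ z hq₀ hθ hu₀ hn₀ hzq hzn
      have h1 : ¬ s ∣ (Cn z).index := not_dvd_index_of_sylow_le S (fun a ha => mem_Cn.2 (hzc a ha))
      have h2 : (Cn u₀).index = (Cn z).index := by
        rw [← hg]
        exact cs_conj g z
      rw [h2]
      exact h1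
    · push Not at hex
      exact not_dvd_index_of_forall (fun v hv => hZle (hex v hv))
  have hco : Nat.Coprime (Cn u₀).index (R : Subgroup G).index := by
    apply Nat.coprime_of_dvd
    intro k hk hd1 hd2
    by_cases hkr : k = r
    · subst hkr
      exact R.not_dvd_index hd2
    · exact hnd k hk hkr hd1
  have hfac := exists_mul_of_coprime (Cn u₀) (R : Subgroup G) hco
  haveI : Group.IsNilpotent (R : Subgroup G) := R.2.isNilpotent
  have hCnil : Group.IsNilpotent (Cn u₀) := by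
    letI : CommGroup (Cn u₀) :=
      { (inferInstance : Group (Cn u₀)) with
        mul_comm := fun a b => Subtype.ext (abel hCS hT hq₀ hu₀ hn₀ a.2 b.2) }
    infer_instance
  exact Cfsg.Agent.Lib.KegelWielandt.solvable_main (Nat.card G) G (Cn u₀) (R : Subgroup G) rfl hCnil
    inferInstance hfac

end Cfsg.Agent.Lib.ItoTame
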