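import Mathlib
import Cfsg.Agent.Lib.ItoTame
import Cfsg.Agent.Lib.ItoAct

/-!
# Ito's theorem: the action of the normalizer of a centralizer at a bad prime
-/

set_option autoImplicit false
set_option linter.unusedSectionVars false
set_option linter.unusedVariables false

namespace Cfsg.Agent.Lib.ItoBad

open Subgroup
open Cfsg
open Cfsg.Agent.Lib.CoprimeClass (cs mem_cent cs_eq_one_iff cs_conj cs_ne_zero)
open Cfsg.Agent.Lib.CentTools (Cn mem_Cn Cn_mul conj_mem_Cn Cn_mul_central conj_mem_center_iff)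
open Cfsg.Agent.Lib.ItoBasic Cfsg.Agent.Lib.ItoComp Cfsg.Agent.Lib.ItoWild Cfsg.Agent.Lib.ItoTame
open Cfsg.Agent.Lib.ItoAct

universe u

/-- The standing hypotheses. -/
structure Ctx (Θ : ℕ → Prop) (G : Type u) [Group G] : Prop where
  hCS : CS Θ G
  hT : Tame G
  hconj : ∀ (q₁ q₂ : ℕ) (u₁ u₂ : G), Θ q₁ → Θ q₂ → QE q₁ u₁ → u₁ ∉ center G → QE q₂ u₂ →
    u₂ ∉ center G → ConjC u₂ u₁

section Lifts

variable {A B : Type*} [Group A] [Finite A] [Group B]

theorem exists_lift_qe (f : A →* B) {p : ℕ} (hp : p.Prime) (a : A) (h : QE p (f a)) :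
    ∃ u, f u = f a ∧ QE p u := by
  obtain ⟨k, m, h1, h2, h3⟩ := exists_split hp a
  refine ⟨a ^ k, ?_, h1⟩
  have h4 : f (a ^ m) = 1 := by
    have h5 : QE p (f (a ^ m)) := by
      rw [map_pow]; exact h.pow m
    refine h5.eq_one_of_pow hp h2 ?_
    rw [← map_pow, pow_orderOf_eq_one, map_one]
  have h6 := congrArg f h3
  rw [map_mul, h4, mul_one] at h6
  exact h6

theorem exists_lift_coprime (f : A →* B) {p : ℕ} (hp : p.Prime) (a : A)
    (h : (orderOf (f a)).Coprime p) : ∃ u, f u = f a ∧ (orderOf u).Coprime p := by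
  obtain ⟨k, m, h1, h2, h3⟩ := exists_split hp a
  refine ⟨a ^ m, ?_, h2⟩
  have h4 : f (a ^ k) = 1 := by
    have h5 : QE p (f (a ^ k)) := h1.map f
    refine h5.eq_one_of_pow hp h ?_
    rw [map_pow, ← pow_mul, mul_comm, pow_mul, pow_orderOf_eq_one, one_pow]
  have h6 := congrArg f h3
  rw [map_mul, h4, one_mul] at h6
  exact h6

end Lifts

section LemA

variable {G : Type u} [Group G] [Finite G] {Θ : ℕ → Prop} (X : Ctx Θ G)

include X

/-- **Lemma A**: a `q`-element normalizing `C(w)`, outside of it, has `q`-th power in the centre. -/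
theorem lemA {q t : ℕ} (hq : Θ q) (ht : Θ t) {w x : G} (hw : QE t w) (hwn : w ∉ center G)
    (hx : QE q x) (hxN : x ∈ normalizer (Cn w : Set G)) (hxC : x ∉ Cn w) : x ^ q ∈ center G := by
  classical
  have hqp := X.hCS.prime q hq
  haveI : Fact q.Prime := ⟨hqp⟩
  have hD : ∀ a ∈ Cn w, ∀ b ∈ Cn w, a * b = b * a :=
    fun a ha b hb => abel X.hCS X.hT ht hw hwn ha hb
  have hZC : center G ≤ Cn w := fun a ha => mem_Cn.2 (mem_center_iff.1 ha w).symm
  have hxZ : x ∉ center G := fun h => hxC (hZC h)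
  let P := qp q (Cn w) (fun a ha b hb _ _ => hD a ha b hb)
  have hPq : IsPGroup q P := isPGroup_qp _ _ _
  have hxnorm : zpowers x ≤ normalizer (P : Set G) := by
    rw [zpowers_le]
    apply mem_normalizer_of_forall
    rintro a ⟨ha, haq⟩
    exact ⟨(mem_normalizer_iff.1 hxN a).1 ha, haq.conj x⟩
  have hzp : IsPGroup q (zpowers x) := isPGroup_of_qe (by
    intro a ha
    obtain ⟨i, rfl⟩ := mem_zpowers_iff.1 ha
    exact hx.zpow i)
  have hQ : IsPGroup q (zpowers x ⊔ P : Subgroup G) :=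
    IsPGroup.to_sup_of_normal_right' hzp hPq hxnorm
  obtain ⟨S₃, hS₃⟩ := hQ.exists_le_sylow
  have hPS : P ≤ (S₃ : Subgroup G) := le_sup_right.trans hS₃
  have hxS : x ∈ (S₃ : Subgroup G) := hS₃ (mem_sup_left (mem_zpowers x))
  have hcardP : Nat.card P = q ^ vq q (Cn w) := card_qp _ _
  have hcardS : Nat.card (S₃ : Subgroup G) = q ^ (Nat.card G).factorization q :=
    Sylow.card_eq_multiplicity S₃
  have hbad : ∀ z ∈ (S₃ : Subgroup G), (∀ a ∈ (S₃ : Subgroup G), a * z = z * a) → z ∈ center G := by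
    intro z hzS hzc
    by_contra hzn
    have hzq : QE q z := qe_of_isPGroup S₃.2 hzS
    obtain ⟨g, hg⟩ := X.hconj t q w z ht hq hw hwn hzq hzn
    have h1 : vq q (Cn w) = vq q (Cn z) := by
      rw [← hg]
      exact vq_Cn_conj g z
    have h2 : (S₃ : Subgroup G) ≤ Cn z := fun a ha => mem_Cn.2 (hzc a ha)
    have h3 : vq q (S₃ : Subgroup G) ≤ vq q (Cn z) := vq_le_of_le h2
    have h4 : vq q (S₃ : Subgroup G) = (Nat.card G).factorization q := by
      show (Nat.card (S₃ : Subgroup G)).factorization q = _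
      rw [hcardS, hqp.factorization_pow]
      simp
    have h5 : Nat.card (S₃ : Subgroup G) ≤ Nat.card P := by
      rw [hcardS, hcardP]
      apply Nat.pow_le_pow_right hqp.pos
      omega
    have h6 : P = S₃ := Subgroup.eq_of_le_of_card_ge hPS h5
    apply hxC
    have : x ∈ P := by rw [h6]; exact hxS
    exact this.1
  obtain ⟨w₃, hw₃S, hw₃n, hw₃c, hw₃p⟩ := exists_w S₃ hbad hxS hxZ
  have hT₃ : TCond q (S₃ : Subgroup G) w₃ := ⟨hw₃S, hw₃n, hw₃c, hw₃p, hbad⟩
  have hv₃ := vq_T X.hCS hT₃ hq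
  obtain ⟨g, hg⟩ := X.hconj t q w w₃ ht hq hw hwn (hT₃.qe_of_mem hw₃S) hw₃n
  have h1 : vq q (Cn w) = vq q (Cn w₃) := by
    rw [← hg]
    exact vq_Cn_conj g w₃
  -- index `q`
  have hindex : (P.subgroupOf (S₃ : Subgroup G)).index = q := by
    have h2 := (P.subgroupOf (S₃ : Subgroup G)).index_mul_card
    have h3 : Nat.card (P.subgroupOf (S₃ : Subgroup G)) = Nat.card P :=
      Nat.card_congr (subgroupOfEquivOfLe hPS).toEquiv
    rw [h3, hcardP, hcardS, ← hv₃, ← h1, pow_succ] at h2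
    exact Nat.eq_of_mul_eq_mul_right (pow_pos hqp.pos _) (h2.trans (mul_comm _ _))
  have hmin : (Nat.card (S₃ : Subgroup G)).minFac = q := by
    rw [hcardS, ← hv₃]
    exact hqp.pow_minFac (Nat.succ_ne_zero _)
  haveI hN : (P.subgroupOf (S₃ : Subgroup G)).Normal :=
    normal_of_index_eq_minFac_card (by rw [hindex, hmin])
  have h2 := pow_index_mem (P.subgroupOf (S₃ : Subgroup G)) (⟨x, hxS⟩ : (S₃ : Subgroup G))
  rw [hindex] at h2
  have h3 : x ^ q ∈ P := mem_subgroupOf.1 h2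
  by_contra hxq
  have h4 : Cn w = Cn (x ^ q) :=
    X.hCS.same t q w (x ^ q) ht hq hw (hx.pow q) hwn hxq (mem_Cn.1 h3.1).symm
  apply hxC
  rw [h4]
  exact mem_Cn.2 ((Commute.refl x).pow_right q).eq

end LemA

section Action

variable {G : Type u} [Group G] [Finite G]

/-- The natural map to the central quotient. -/
noncomputable abbrev piZ (G : Type u) [Group G] : G →* G ⧸ center G := QuotientGroup.mk' (center G)

/-- The image of the `s`-elements of `D`. -/
noncomputable def Vq (D : Subgroup G) (hD : ∀ a ∈ D, ∀ b ∈ D, a * b = b * a) (s : ℕ) :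
    Subgroup (G ⧸ center G) :=
  (qp s D (fun x hx y hy _ _ => hD x hx y hy)).map (piZ G)

theorem mem_Vq {D : Subgroup G} {hD : ∀ a ∈ D, ∀ b ∈ D, a * b = b * a} {s : ℕ}
    {v : G ⧸ center G} : v ∈ Vq D hD s ↔ ∃ f, f ∈ D ∧ QE s f ∧ piZ G f = v := by
  constructor
  · rintro ⟨f, hf, rfl⟩
    exact ⟨f, hf.1, hf.2, rfl⟩
  · rintro ⟨f, h1, h2, rfl⟩
    exact ⟨f, ⟨h1, h2⟩, rfl⟩

theorem Vq_comm (D : Subgroup G) (hD : ∀ a ∈ D, ∀ b ∈ D, a * b = b * a) (s : ℕ)
    (a b : Vq D hD s) : a * b = b * a := by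
  obtain ⟨_, f, hf, rfl⟩ := a
  obtain ⟨_, e, he, rfl⟩ := b
  apply Subtype.ext
  show piZ G f * piZ G e = piZ G e * piZ G f
  rw [← map_mul, ← map_mul, hD f hf.1 e he.1]

theorem Vq_conj (D : Subgroup G) (hD : ∀ a ∈ D, ∀ b ∈ D, a * b = b * a) (s : ℕ)
    (u : normalizer (D : Set G)) {v : G ⧸ center G} (hv : v ∈ Vq D hD s) :
    piZ G u * v * (piZ G u)⁻¹ ∈ Vq D hD s := by
  obtain ⟨f, h1, h2, rfl⟩ := mem_Vq.1 hv
  refine mem_Vq.2 ⟨u * f * (u : G)⁻¹, (mem_normalizer_iff.1 u.2 f).1 h1, h2.conj _, ?_⟩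
  simp only [map_mul, map_inv]

/-- The action of the normalizer. -/
noncomputable def rhoN (D : Subgroup G) (hD : ∀ a ∈ D, ∀ b ∈ D, a * b = b * a) (s : ℕ) :
    normalizer (D : Set G) →* MulAut (Vq D hD s) :=
  (Vq D hD s).normalizerMonoidHom.comp
    (((piZ G).comp (normalizer (D : Set G)).subtype).codRestrict (normalizer ((Vq D hD s) : Set (G ⧸ center G)))
      (fun u => mem_normalizer_of_forall _ _ (fun _ hx => Vq_conj D hD s u hx)))

theorem rhoN_apply (D : Subgroup G) (hD : ∀ a ∈ D, ∀ b ∈ D, a * b = b * a) (s : ℕ)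
    (u : normalizer (D : Set G)) (v : Vq D hD s) :
    ((rhoN D hD s u v : Vq D hD s) : G ⧸ center G) = piZ G u * v * (piZ G u)⁻¹ := rfl

/-- The quotient of the normalizer. -/
abbrev Wq (D : Subgroup G) := normalizer (D : Set G) ⧸ (D.subgroupOf (normalizer (D : Set G)))

/-- The action of the quotient of the normalizer. -/
noncomputable def phi (D : Subgroup G) (hD : ∀ a ∈ D, ∀ b ∈ D, a * b = b * a) (s : ℕ) :
    Wq D →* MulAut (Vq D hD s) :=
  QuotientGroup.lift _ (rhoN D hD s) (by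
    rintro u hu
    have huD : (u : G) ∈ D := mem_subgroupOf.1 hu
    ext v
    rw [rhoN_apply]
    obtain ⟨f, h1, h2, h3⟩ := mem_Vq.1 v.2
    show piZ G u * (v : G ⧸ center G) * (piZ G u)⁻¹ = v
    rw [← h3, ← map_inv, ← map_mul, ← map_mul, hD u huD f h1]
    simp)

theorem phi_mk (D : Subgroup G) (hD : ∀ a ∈ D, ∀ b ∈ D, a * b = b * a) (s : ℕ)
    (u : normalizer (D : Set G)) : phi D hD s (QuotientGroup.mk u) = rhoN D hD s u := rfl

/-- The abelian group structure. -/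
noncomputable abbrev Vq.inst (D : Subgroup G) (hD : ∀ a ∈ D, ∀ b ∈ D, a * b = b * a) (s : ℕ) :
    CommGroup (Vq D hD s) :=
  Cfsg.Agent.Lib.FrobAction.commGroupOfComm _ (Vq_comm D hD s)

/-- The norm computation. -/
theorem prod_rho (D : Subgroup G) (hD : ∀ a ∈ D, ∀ b ∈ D, a * b = b * a) (s : ℕ)
    (u : normalizer (D : Set G)) (v : Vq D hD s) {f : G} (hfv : piZ G f = v) (n : ℕ) :
    letI := Vq.inst D hD s
    ((∏ i ∈ Finset.range n, rhoN D hD s (u ^ i) v : Vq D hD s) : G ⧸ center G) =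
      piZ G ((f * u) ^ n * ((u : G) ^ n)⁻¹) := by
  letI := Vq.inst D hD s
  induction n with
  | zero => simp
  | succ n ih =>
    rw [Finset.prod_range_succ]
    have h1 : ∀ A B : Vq D hD s, ((A * B : Vq D hD s) : G ⧸ center G) = (A : G ⧸ center G) * B :=
      fun _ _ => rfl
    rw [h1, ih, rhoN_apply, ← hfv]
    have h2 : (f * (u : G)) ^ (n + 1) * ((u : G) ^ (n + 1))⁻¹ =
        (f * (u : G)) ^ n * ((u : G) ^ n)⁻¹ * (((u ^ n : normalizer (D : Set G)) : G) * f * ((u ^ n : normalizer (D : Set G)) : G)⁻¹) := by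
      rw [show ((u ^ n : normalizer (D : Set G)) : G) = (u : G) ^ n from rfl, pow_succ, pow_succ]
      group
    rw [h2]
    simp only [map_mul, map_inv]

end Action

section Main

variable {G : Type u} [Group G] [Finite G] {Θ : ℕ → Prop} (X : Ctx Θ G)

include X

/-- Elements of order prime to `s` outside `C(w)` act without fixed points. -/
theorem fp_free {t s : ℕ} (ht : Θ t) (hs : Θ s) {w : G} (hw : QE t w) (hwn : w ∉ center G)
    (hD : ∀ a ∈ Cn w, ∀ b ∈ Cn w, a * b = b * a) (u : normalizer (Cn w : Set G))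
    (hu : (u : G) ∉ Cn w) (huo : (orderOf (u : G)).Coprime s) (v : Vq (Cn w) hD s)
    (hv : rhoN (Cn w) hD s u v = v) : v = 1 := by
  obtain ⟨f, h1, h2, h3⟩ := mem_Vq.1 v.2
  have h4 : piZ G u * piZ G f * (piZ G u)⁻¹ = piZ G f := by
    have := congrArg Subtype.val hv
    rw [rhoN_apply, ← h3] at this
    exact this
  have h5 : (u : G) * f * (u : G)⁻¹ * f⁻¹ ∈ center G := by
    rw [← QuotientGroup.eq_one_iff]
    show piZ G _ = 1
    simp only [map_mul, map_inv]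
    rw [h4]
    simp
  have h6 := fix_central X.hCS ht hs hw hwn huo hu h1 h2 h5
  apply Subtype.ext
  show (v : G ⧸ center G) = 1
  rw [← h3]
  exact (QuotientGroup.eq_one_iff f).2 h6

/-- The norm of a `q`-element outside `C(w)` is trivial on the `q`-part. -/
theorem norm_trivial {t q : ℕ} (ht : Θ t) (hq : Θ q) {w : G} (hw : QE t w) (hwn : w ∉ center G)
    (hD : ∀ a ∈ Cn w, ∀ b ∈ Cn w, a * b = b * a) (u : normalizer (Cn w : Set G))
    (hu : (u : G) ∉ Cn w) (huq : QE q (u : G)) (v : Vq (Cn w) hD q) :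
    letI := Vq.inst (Cn w) hD q
    ∏ i ∈ Finset.range q, rhoN (Cn w) hD q (u ^ i) v = 1 := by
  letI := Vq.inst (Cn w) hD q
  obtain ⟨f, h1, h2, h3⟩ := mem_Vq.1 v.2
  apply Subtype.ext
  show ((∏ i ∈ Finset.range q, rhoN (Cn w) hD q (u ^ i) v : Vq (Cn w) hD q) : G ⧸ center G) = 1
  rw [prod_rho (Cn w) hD q u v h3 q]
  have hqp := X.hCS.prime q hq
  haveI : Fact q.Prime := ⟨hqp⟩
  let P := qp q (Cn w) (fun a ha b hb _ _ => hD a ha b hb)
  have hPq : IsPGroup q P := isPGroup_qp _ _ _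
  have hxnorm : zpowers (u : G) ≤ normalizer (P : Set G) := by
    rw [zpowers_le]
    apply mem_normalizer_of_forall
    rintro a ⟨ha, haq⟩
    exact ⟨(mem_normalizer_iff.1 u.2 a).1 ha, haq.conj _⟩
  have hzp : IsPGroup q (zpowers (u : G)) := isPGroup_of_qe (by
    intro a ha
    obtain ⟨i, rfl⟩ := mem_zpowers_iff.1 ha
    exact huq.zpow i)
  have hQ : IsPGroup q (zpowers (u : G) ⊔ P : Subgroup G) :=
    IsPGroup.to_sup_of_normal_right' hzp hPq hxnorm
  have hfu : f * (u : G) ∈ (zpowers (u : G) ⊔ P : Subgroup G) :=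
    mul_mem (mem_sup_right ⟨h1, h2⟩) (mem_sup_left (mem_zpowers _))
  have hfuq : QE q (f * (u : G)) := qe_of_isPGroup hQ hfu
  have hfuN : f * (u : G) ∈ normalizer (Cn w : Set G) :=
    mul_mem (le_normalizer h1) u.2
  have hfuC : f * (u : G) ∉ Cn w := by
    intro h
    apply hu
    have := mul_mem ((Cn w).inv_mem h1) h
    simpa using this
  have h4 := lemA X hq ht hw hwn hfuq hfuN hfuC
  have h5 := lemA X hq ht hw hwn huq u.2 hu
  exact (QuotientGroup.eq_one_iff _).2 (mul_mem h4 (inv_mem h5))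

/-- **The structure of the normalizer.** -/
theorem W_main {ℓ : ℕ} [hℓF : Fact ℓ.Prime] (hℓ : Θ ℓ) {S : Sylow ℓ G} {w : G}
    (T : TCond ℓ (S : Subgroup G) w) {y : G} (hyS : y ∈ (S : Subgroup G)) (hyC : y ∉ Cn w)
    (hyN : y ∈ normalizer (Cn w : Set G)) (x : Wq (Cn w)) :
    x ∈ zpowers (QuotientGroup.mk ⟨y, hyN⟩ : Wq (Cn w)) := by
  classical
  have hℓp : ℓ.Prime := hℓF.out
  have hwq : QE ℓ w := T.qe_of_mem T.memS
  have hwn := T.nc
  have hD : ∀ a ∈ Cn w, ∀ b ∈ Cn w, a * b = b * a := fun a ha b hb => abel X.hCS X.hT hℓ hwq hwn ha hb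
  have hZC : center G ≤ Cn w := fun a ha => mem_Cn.2 (mem_center_iff.1 ha w).symm
  let mk : normalizer (Cn w : Set G) →* Wq (Cn w) := QuotientGroup.mk' _
  have hmk1 : ∀ u : normalizer (Cn w : Set G), mk u = 1 ↔ (u : G) ∈ Cn w := by
    intro u
    rw [QuotientGroup.mk'_apply, QuotientGroup.eq_one_iff, mem_subgroupOf]
  have hmksurj : ∀ c : Wq (Cn w), ∃ a, mk a = c := QuotientGroup.mk'_surjective _
  let y' : normalizer (Cn w : Set G) := ⟨y, hyN⟩
  have hy'ord : orderOf (mk y') = ℓ := by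
    apply orderOf_eq_prime
    · rw [← map_pow, hmk1]
      exact T.pow_mem hyS
    · rw [Ne, hmk1]
      exact hyC
  have hyq : QE ℓ y := T.qe_of_mem hyS
  obtain ⟨s, d, hs, hne, hd, hdn, hwd⟩ := X.hCS.two ℓ w hℓ hwq hwn
  have hsp := X.hCS.prime s hs
  have hdC : d ∈ Cn w := mem_Cn.2 hwd.symm
  letI I₁ : CommGroup (Vq (Cn w) hD s) := Vq.inst _ _ _
  letI I₂ : CommGroup (Vq (Cn w) hD ℓ) := Vq.inst _ _ _
  -- the `ℓ`-part of the order
  have hv : ¬ ℓ ^ 2 ∣ Nat.card (Wq (Cn w)) := by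
    intro hd2
    have h1 := ((Cn w).subgroupOf (normalizer (Cn w : Set G))).index_mul_card
    have h2 : Nat.card ((Cn w).subgroupOf (normalizer (Cn w : Set G))) = Nat.card (Cn w) :=
      Nat.card_congr (subgroupOfEquivOfLe le_normalizer).toEquiv
    have h3 : ((Cn w).subgroupOf (normalizer (Cn w : Set G))).index = Nat.card (Wq (Cn w)) :=
      Subgroup.index_eq_card _
    rw [h2, h3] at h1
    have h4 : ℓ ^ vq ℓ (Cn w) ∣ Nat.card (Cn w) := Nat.ordProj_dvd _ _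
    have h5 : ℓ ^ 2 * ℓ ^ vq ℓ (Cn w) ∣ Nat.card (normalizer (Cn w : Set G)) := by
      rw [← h1]
      exact mul_dvd_mul hd2 h4
    have h6 : Nat.card (normalizer (Cn w : Set G)) ∣ Nat.card G := Subgroup.card_subgroup_dvd_card _
    have h7 := (hℓp.pow_dvd_iff_le_factorization Nat.card_pos.ne').1 (by
      rw [← pow_add] at h5
      exact h5.trans h6)
    have h8 := vq_T X.hCS T hℓ
    omega
  have pairing : ∀ c : Wq (Cn w), c * mk y' = mk y' * c → (orderOf c).Coprime ℓ → c = 1 := by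
    intro c hc hco
    obtain ⟨a, rfl⟩ := hmksurj c
    obtain ⟨u, hu, hou⟩ := exists_lift_coprime mk hℓp a hco
    rw [← hu] at hc ⊢
    have huN := u.2
    have hou' : (orderOf (u : G)).Coprime ℓ := by rwa [Subgroup.orderOf_coe] 
    set U : G := (u : G) with hU
    have hc₁ : y⁻¹ * U⁻¹ * y * U ∈ Cn w := by
      have h1 : mk (u * y') = mk (y' * u) := by rw [map_mul, map_mul, hc]
      have h2 := QuotientGroup.eq.1 h1
      have h3 := mem_subgroupOf.1 h2
      have h4 : ((((u * y')⁻¹ * (y' * u) : normalizer (Cn w : Set G))) : G) = y⁻¹ * U⁻¹ * y * U := by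
        show (U * y)⁻¹ * (y * U) = _
        group
      rwa [h4] at h3
    have hf' : U * w * U⁻¹ ∈ Cn w := (mem_normalizer_iff.1 huN w).1 (mem_Cn.2 rfl)
    have hz : y * w * y⁻¹ * w⁻¹ ∈ center G := T.comm y hyS
    set z := y * w * y⁻¹ * w⁻¹ with hzdef
    have hywy : y * w * y⁻¹ = z * w := by rw [hzdef]; group
    have hzc : ∀ g : G, g * z = z * g := fun g => mem_center_iff.1 hz g
    set c₁ := y⁻¹ * U⁻¹ * y * U with hc₁def
    have hyU : y * U = U * y * c₁ := by rw [hc₁def]; group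
    have hcw : c₁ * w = w * c₁ := hD _ hc₁ _ (mem_Cn.2 rfl)
    have hyf' : y * (U * w * U⁻¹) * y⁻¹ = z * (U * w * U⁻¹) := by
      calc y * (U * w * U⁻¹) * y⁻¹ = (y * U) * w * (y * U)⁻¹ := by group
        _ = (U * y * c₁) * w * (U * y * c₁)⁻¹ := by rw [hyU]
        _ = U * y * (c₁ * w) * c₁⁻¹ * y⁻¹ * U⁻¹ := by group
        _ = U * y * (w * c₁) * c₁⁻¹ * y⁻¹ * U⁻¹ := by rw [hcw]
        _ = U * (y * w * y⁻¹) * U⁻¹ := by group
        _ = U * (z * w) * U⁻¹ := by rw [hywy]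
        _ = (U * z) * w * U⁻¹ := by group
        _ = (z * U) * w * U⁻¹ := by rw [hzc]
        _ = _ := by group
    set f' := U * w * U⁻¹ with hf'def
    have hf'w : f' * w = w * f' := hD _ hf' _ (mem_Cn.2 rfl)
    have hf''C : f' * w⁻¹ ∈ Cn w := mul_mem hf' (inv_mem (mem_Cn.2 rfl))
    have hf''q : QE ℓ (f' * w⁻¹) := by
      refine QE.mul (hwq.conj U) hwq.inv ?_
      exact hD _ hf' _ (inv_mem (mem_Cn.2 rfl))
    have hf''y : (f' * w⁻¹) * y = y * (f' * w⁻¹) := by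
      have h1 : y * w⁻¹ * y⁻¹ = (z * w)⁻¹ := by rw [← hywy]; group
      have h2 : y * (f' * w⁻¹) * y⁻¹ = f' * w⁻¹ := by
        calc y * (f' * w⁻¹) * y⁻¹ = (y * f' * y⁻¹) * (y * w⁻¹ * y⁻¹) := by group
          _ = (z * f') * (z * w)⁻¹ := by rw [hyf', h1]
          _ = z * f' * w⁻¹ * z⁻¹ := by group
          _ = (z * (f' * w⁻¹)) * z⁻¹ := by group
          _ = (f' * w⁻¹) * z * z⁻¹ := by rw [← hzc (f' * w⁻¹)]
          _ = _ := by group
      calc (f' * w⁻¹) * y = (y * (f' * w⁻¹) * y⁻¹) * y := by rw [h2]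
        _ = _ := by group
    have hf''Z := fix_T X.hCS T hℓ hyC hf''C hf''q hf''y
    have hcomm : U * w = w * U := by
      apply comm_of_central_comm (a := U) (d := w)
      · rw [show U * w * U⁻¹ * w⁻¹ = f' * w⁻¹ from rfl]
        exact hf''Z
      · exact (hwq.coprime_right hou').symm
    rw [hmk1]
    exact mem_Cn.2 hcomm
  have hA1 : ∀ v : Vq (Cn w) hD s, phi (Cn w) hD s (mk y') v = v → v = 1 := by
    intro v hv
    exact fp_free X hℓ hs hwq hwn hD y' hyC (QE.coprime_prime hℓp hsp hne.symm hyq) v hv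
  have hlift : ∀ c : Wq (Cn w), (orderOf c).Prime → c ≠ 1 → ∃ u : normalizer (Cn w : Set G),
      mk u = c ∧ QE (orderOf c) (u : G) ∧ (u : G) ∉ Cn w := by
    intro c hc hc1
    obtain ⟨a, rfl⟩ := hmksurj c
    obtain ⟨u, hu, hqu⟩ := exists_lift_qe mk hc a ⟨1, by rw [pow_one, pow_orderOf_eq_one]⟩
    refine ⟨u, hu, qe_subtype.1 hqu, ?_⟩
    intro huC
    apply hc1
    rw [← hu]
    exact (hmk1 u).2 huC
  have hphipow : ∀ (t : ℕ) (u : normalizer (Cn w : Set G)) (i : ℕ),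
      phi (Cn w) hD t (mk u ^ i) = rhoN (Cn w) hD t (u ^ i) := by
    intro t u i
    rw [← map_pow]
    rfl
  have hA2 : ∀ c : Wq (Cn w), (orderOf c).Prime → orderOf c ≠ ℓ →
      (∀ v : Vq (Cn w) hD s, phi (Cn w) hD s c v = v → v = 1) ∨
      ∀ v : Vq (Cn w) hD s, ∏ i ∈ Finset.range (orderOf c), phi (Cn w) hD s (c ^ i) v = 1 := by
    intro c hc hcl
    have hc1 : c ≠ 1 := by
      rintro rfl
      rw [orderOf_one] at hc
      exact Nat.not_prime_one hc
    obtain ⟨u, rfl, hqu, huC⟩ := hlift c hc hc1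
    by_cases hps : orderOf (mk u) = s
    · right
      intro v
      simp only [hphipow]
      have := norm_trivial X hℓ hs hwq hwn hD u huC (hps ▸ hqu) v
      rw [hps]
      exact this
    · left
      intro v hv
      exact fp_free X hℓ hs hwq hwn hD u huC (QE.coprime_prime hc hsp hps hqu) v hv
  have hA3 : ∃ v₀ : Vq (Cn w) hD s, v₀ ≠ 1 ∧ (orderOf v₀).Coprime ℓ := by
    refine ⟨⟨piZ G d, mem_Vq.2 ⟨d, hdC, hd, rfl⟩⟩, ?_, ?_⟩
    · intro h
      have h1 : piZ G d = 1 := congrArg Subtype.val h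
      exact hdn ((QuotientGroup.eq_one_iff d).1 h1)
    · apply QE.coprime_prime hsp hℓp hne
      exact qe_subtype.2 (hd.map (piZ G))
  have hB1 : ∀ c : Wq (Cn w), (orderOf c).Prime → orderOf c ≠ ℓ →
      ∀ v : Vq (Cn w) hD ℓ, phi (Cn w) hD ℓ c v = v → v = 1 := by
    intro c hc hcl v hv
    have hc1 : c ≠ 1 := by
      rintro rfl
      rw [orderOf_one] at hc
      exact Nat.not_prime_one hc
    obtain ⟨u, rfl, hqu, huC⟩ := hlift c hc hc1
    exact fp_free X hℓ hℓ hwq hwn hD u huC (QE.coprime_prime hc hℓp hcl hqu) v hv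
  have hB2 : ∀ v : Vq (Cn w) hD ℓ, ∏ i ∈ Finset.range ℓ, phi (Cn w) hD ℓ (mk y' ^ i) v = 1 := by
    intro v
    simp only [hphipow]
    exact norm_trivial X hℓ hℓ hwq hwn hD y' hyC hyq v
  have hB3 : ∃ v₀ : Vq (Cn w) hD ℓ, v₀ ≠ 1 ∧ QE ℓ v₀ := by
    refine ⟨⟨piZ G w, mem_Vq.2 ⟨w, mem_Cn.2 rfl, hwq, rfl⟩⟩, ?_, ?_⟩
    · intro h
      have h1 : piZ G w = 1 := congrArg Subtype.val h
      exact hwn ((QuotientGroup.eq_one_iff w).1 h1)
    · exact qe_subtype.2 (hwq.map (piZ G))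
  exact W_cyclic (phi (Cn w) hD s) (phi (Cn w) hD ℓ) hℓp (mk y') hy'ord hv pairing hA1 hA2 hA3 hB1 hB2
    hB3 x

end Main

end Cfsg.Agent.Lib.ItoBad
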