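import Mathlib
import Cfsg.Agent.Lib.ItoBad
import Cfsg.Agent.S4037

/-!
# Ito's theorem: the last case
-/

set_option autoImplicit false
set_option linter.unusedSectionVars false
set_option linter.unusedVariables false

namespace Cfsg.Agent.Lib.ItoEnd

open Subgroup
open Cfsg
open Cfsg.Agent.Lib.CoprimeClass (cs mem_cent cs_eq_one_iff cs_conj cs_ne_zero normal_le_of_coprime)
open Cfsg.Agent.Lib.CentTools (Cn mem_Cn Cn_mul conj_mem_Cn Cn_mul_central conj_mem_center_iff)
open Cfsg.Agent.Lib.ItoBasic Cfsg.Agent.Lib.ItoComp Cfsg.Agent.Lib.ItoWild Cfsg.Agent.Lib.ItoTame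
open Cfsg.Agent.Lib.ItoBad

universe u

/-- A nontrivial solvable normal subgroup yields an elementary abelian normal subgroup. -/
theorem exists_elem_abelian_normal {Q : Type*} [Group Q] [Finite Q] (A : Subgroup Q) (hA : A.Normal)
    (hne : A ≠ ⊥) (hs : Group.IsSolvable A) :
    ∃ (ρ : ℕ) (M : Subgroup Q), ρ.Prime ∧ M.Normal ∧ M ≠ ⊥ ∧ (∀ x ∈ M, ∀ y ∈ M, x * y = y * x) ∧
      ∀ x ∈ M, x ^ ρ = 1 := by
  classical
  haveI := hs
  let S : Set (Subgroup Q) := {B | B.Normal ∧ B ≠ ⊥ ∧ B ≤ A}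
  have hSne : S.Nonempty := ⟨A, hA, hne, le_rfl⟩
  obtain ⟨B, hB⟩ := S.toFinite.exists_minimal hSne
  have hBn : B.Normal := hB.1.1
  have hBne : B ≠ ⊥ := hB.1.2.1
  have hBA : B ≤ A := hB.1.2.2
  haveI : Group.IsSolvable B := solvable_of_solvable_injective (f := inclusion hBA) (inclusion_injective _)
  have hab : ⁅B, B⁆ = ⊥ := by
    by_contra hc
    have hle : ⁅B, B⁆ ≤ B := commutator_le_left B B
    have hmem : ⁅B, B⁆ ∈ S := ⟨commutator_normal B B, hc, hle.trans hBA⟩
    have heq : B ≤ ⁅B, B⁆ := hB.2 hmem hle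
    haveI : Nontrivial B := (nontrivial_iff_ne_bot B).2 hBne
    have h1 := Group.IsSolvable.commutator_lt_top_of_nontrivial B
    have h2 : (commutator B).map B.subtype = ⁅B, B⁆ := map_subtype_commutator B
    have h3 : (⊤ : Subgroup B).map B.subtype = B := by
      rw [← MonoidHom.range_eq_map, range_subtype]
    have h4 : commutator B = ⊤ := by
      apply map_injective B.subtype_injective
      rw [h2, h3]
      exact le_antisymm hle heq
    exact h1.ne h4
  have hcomm : ∀ x ∈ B, ∀ y ∈ B, x * y = y * x := by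
    intro x hx y hy
    have h1 := Subgroup.commutator_mem_commutator hx hy
    rw [hab, Subgroup.mem_bot] at h1
    exact commutatorElement_eq_one_iff_mul_comm.1 h1
  have hcard : Nat.card B ≠ 1 := fun h => hBne (Subgroup.card_eq_one.1 h)
  obtain ⟨r, hr, hrd⟩ := Nat.exists_prime_and_dvd hcard
  have : Fact r.Prime := ⟨hr⟩
  obtain ⟨x₀, hx₀⟩ := exists_prime_orderOf_dvd_card' (G := B) r hrd
  let M : Subgroup Q :=
    { carrier := {x | x ∈ B ∧ x ^ r = 1}
      mul_mem' := by
        rintro a b ⟨ha, ha'⟩ ⟨hb, hb'⟩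
        refine ⟨B.mul_mem ha hb, ?_⟩
        have hc : Commute a b := hcomm a ha b hb
        rw [hc.mul_pow, ha', hb', one_mul]
      one_mem' := ⟨B.one_mem, one_pow r⟩
      inv_mem' := by
        rintro a ⟨ha, ha'⟩
        exact ⟨B.inv_mem ha, by rw [inv_pow, ha', inv_one]⟩ }
  refine ⟨r, M, hr, ?_, ?_, ?_, ?_⟩
  · constructor
    rintro a ⟨ha, ha'⟩ g
    refine ⟨hBn.conj_mem a ha g, ?_⟩
    rw [conj_pow, ha']
    simp
  · intro hb
    have h1 : (x₀ : Q) ∈ M := by
      refine ⟨x₀.2, ?_⟩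
      have := pow_orderOf_eq_one x₀
      rw [hx₀] at this
      exact congrArg Subtype.val this
    rw [hb, Subgroup.mem_bot] at h1
    have h2 : x₀ = 1 := Subtype.ext h1
    rw [h2, orderOf_one] at hx₀
    exact hr.ne_one hx₀.symm
  · exact fun x hx y hy => hcomm x hx.1 y hy.1
  · exact fun x hx => hx.2

section End

variable {G : Type u} [Group G] [Finite G] {Θ : ℕ → Prop} (X : Ctx Θ G)

include X

/-- **The last case.** -/
theorem sit1b {r : ℕ} (hr : r.Prime) (hrΘ : ¬ Θ r)
    (hΘ : ∀ s, s.Prime → s ≠ r → (∃ u : G, QE s u ∧ u ∉ center G) → Θ s)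
    {y₀ : G} (hy₀ : QE r y₀) (hy₀n : y₀ ∉ center G)
    (hiso : ∀ (t : ℕ) (e : G), t.Prime → t ≠ r → QE t e → e ∈ Cn y₀ → e ∈ center G)
    {ℓ : ℕ} [hℓF : Fact ℓ.Prime] (hℓ : Θ ℓ) {S : Sylow ℓ G} {w : G}
    (T : TCond ℓ (S : Subgroup G) w) : Group.IsSolvable G := by
  classical
  have hℓp : ℓ.Prime := hℓF.out
  have hrl : r ≠ ℓ := by
    rintro rfl
    exact hrΘ hℓ
  have hwq : QE ℓ w := T.qe_of_mem T.memS
  have hwn := T.nc
  have hD : ∀ a ∈ Cn w, ∀ b ∈ Cn w, a * b = b * a :=
    fun a ha b hb => abel X.hCS X.hT hℓ hwq hwn ha hb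
  have hZC : center G ≤ Cn w := fun a ha => mem_Cn.2 (mem_center_iff.1 ha w).symm
  have hSN : (S : Subgroup G) ≤ normalizer (Cn w : Set G) :=
    fun a ha => mem_normalizer_of_forall _ _ (fun x hx => T.conj_mem ha hx)
  obtain ⟨y, hyS, hyC⟩ := T.exists_not_mem
  have hyN := hSN hyS
  let mk : normalizer (Cn w : Set G) →* Wq (Cn w) := QuotientGroup.mk' _
  have hmk1 : ∀ u : normalizer (Cn w : Set G), mk u = 1 ↔ (u : G) ∈ Cn w := by
    intro u
    rw [QuotientGroup.mk'_apply, QuotientGroup.eq_one_iff, mem_subgroupOf]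
  let y' : normalizer (Cn w : Set G) := ⟨y, hyN⟩
  have hy'ord : orderOf (mk y') = ℓ := by
    apply orderOf_eq_prime
    · rw [← map_pow, hmk1]
      exact T.pow_mem hyS
    · rw [Ne, hmk1]
      exact hyC
  have hyq : QE ℓ y := T.qe_of_mem hyS
  have hWm : ∀ u : normalizer (Cn w : Set G), mk u ∈ zpowers (mk y') :=
    fun u => W_main X hℓ T hyS hyC hyN (mk u)
  have hdec : ∀ u ∈ normalizer (Cn w : Set G), ∃ j : ℤ, ∃ c ∈ Cn w, u = y ^ j * c := by
    intro u hu
    obtain ⟨j, hj⟩ := mem_zpowers_iff.1 (hWm ⟨u, hu⟩)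
    have h1 : mk (y' ^ j) = mk ⟨u, hu⟩ := by rw [map_zpow]; exact hj
    have h2 := QuotientGroup.eq.1 h1
    have h3 := mem_subgroupOf.1 h2
    refine ⟨j, (y ^ j)⁻¹ * u, ?_, by group⟩
    simpa using h3
  have hQ : ∀ p : ℕ, p.Prime → p ≠ ℓ → ∀ u ∈ normalizer (Cn w : Set G), QE p u → u ∈ Cn w := by
    intro p hp hpl u hu hq
    have h1 : (mk ⟨u, hu⟩) ^ ℓ = 1 := by
      obtain ⟨j, hj⟩ := mem_zpowers_iff.1 (hWm ⟨u, hu⟩)
      rw [← hj, ← zpow_natCast, ← zpow_mul, mul_comm, zpow_mul, zpow_natCast, ← hy'ord,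
        pow_orderOf_eq_one, one_zpow]
    have h2 : QE p (mk ⟨u, hu⟩) := (qe_subtype.2 hq).map mk
    have h3 := h2.eq_one_of_pow hp ((Nat.coprime_primes hℓp hp).2 hpl.symm) h1
    exact (hmk1 _).1 h3
  -- `r`-elements in `C` are central
  have hE1 : ∀ h ∈ Cn w, QE r h → h ∈ center G := by
    intro h hh hhq
    by_contra hhn
    haveI : Fact r.Prime := ⟨hr⟩
    let P := qp r (Cn w) (fun a ha b hb _ _ => hD a ha b hb)
    have hPq : IsPGroup r P := isPGroup_qp _ _ _
    obtain ⟨R, hR⟩ := hPq.exists_le_sylow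
    have hhP : h ∈ P := ⟨hh, hhq⟩
    by_cases hPR : P = R
    · obtain ⟨g, hg⟩ := exists_conj_mem_sylow R hy₀
      rw [← hPR] at hg
      obtain ⟨s, d, hs, hne, hd, hdn, hwd⟩ := X.hCS.two ℓ w hℓ hwq hwn
      have hsr : s ≠ r := by
        rintro rfl
        exact hrΘ hs
      have hdC : d ∈ Cn w := mem_Cn.2 hwd.symm
      have h1 : g * y₀ * g⁻¹ * d = d * (g * y₀ * g⁻¹) := hD _ hg.1 _ hdC
      have h2 : g⁻¹ * d * g ∈ Cn y₀ := mem_Cn_conj.1 (mem_Cn.2 h1.symm)
      have h3 := hiso s (g⁻¹ * d * g) (X.hCS.prime s hs) hsr (by simpa using hd.conj g⁻¹) h2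
      apply hdn
      have h4 : g⁻¹ * d * g⁻¹⁻¹ ∈ center G := by simpa using h3
      exact conj_mem_center_iff.1 h4
    · haveI : Group.IsNilpotent (R : Subgroup G) := R.2.isNilpotent
      let P' : Subgroup (R : Subgroup G) := P.subgroupOf (R : Subgroup G)
      have hP'top : P' ≠ ⊤ := by
        intro htop
        apply hPR
        apply le_antisymm hR
        intro a ha
        have h1 : (⟨a, ha⟩ : (R : Subgroup G)) ∈ P' := by rw [htop]; trivial
        exact mem_subgroupOf.1 h1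
      have hlt := normalizerCondition_of_isNilpotent P' (lt_top_iff_ne_top.2 hP'top)
      obtain ⟨a, ha1, ha2⟩ := SetLike.exists_of_lt hlt
      have hhR : (⟨h, hR hhP⟩ : (R : Subgroup G)) ∈ P' := by
        rw [mem_subgroupOf]
        exact hhP
      have h1 : (a : G) * h * (a : G)⁻¹ ∈ P := mem_subgroupOf.1 ((mem_normalizer_iff.1 ha1 _).1 hhR)
      have haN : (a : G) ∈ normalizer (Cn w : Set G) :=
        mem_normalizer_of_conj X.hCS X.hT hℓ hwq hwn hh hhn h1.1
      have haq : QE r (a : G) := qe_of_isPGroup R.2 a.2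
      have haC := hQ r hr hrl _ haN haq
      exact ha2 (mem_subgroupOf.2 ⟨haC, haq⟩)
  -- the index of the normalizer is an `r`-power
  have hE2 : ∀ s : ℕ, s.Prime → s ≠ r → ¬ s ∣ (normalizer (Cn w : Set G)).index := by
    intro s hs hsr
    haveI : Fact s.Prime := ⟨hs⟩
    by_cases hex : ∃ u : G, QE s u ∧ u ∉ center G
    · have hθ := hΘ s hs hsr hex
      by_cases hsl : s = ℓ
      · subst hsl
        exact not_dvd_index_of_sylow_le S hSN
      · by_cases hB : Bad s G
        · exfalso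
          obtain ⟨u, hu, hun⟩ := hex
          obtain ⟨g, hg⟩ := X.hconj ℓ s w u hℓ hθ hwq hwn hu hun
          have hv : QE s (g * u * g⁻¹) := hu.conj g
          have hvn : g * u * g⁻¹ ∉ center G := by rwa [conj_mem_center_iff]
          obtain ⟨a, ha, han, hac⟩ := exists_norm_of_bad X.hCS hθ hB hv hvn
          rw [hg] at han hac
          have haN : a ∈ normalizer (Cn w : Set G) := mem_normalizer_of_forall _ _ hac
          exact han (hQ s hs hsl a haN ha)
        · unfold Bad at hB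
          push Not at hB
          obtain ⟨S', z, hzS, hzc, hzn⟩ := hB
          have hzq : QE s z := qe_of_isPGroup S'.2 hzS
          obtain ⟨g, hg⟩ := X.hconj ℓ s w z hℓ hθ hwq hwn hzq hzn
          have h1 : ¬ s ∣ (Cn z).index :=
            not_dvd_index_of_sylow_le S' (fun a ha => mem_Cn.2 (hzc a ha))
          have h2 : (Cn w).index = (Cn z).index := by
            rw [← hg]
            exact cs_conj g z
          intro hd
          apply h1
          rw [← h2]
          exact hd.trans (index_dvd_of_le le_normalizer)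
    · push Not at hex
      exact not_dvd_index_of_forall (fun v hv => le_normalizer (hZC (hex v hv)))
  obtain ⟨f, hf⟩ : ∃ f, (normalizer (Cn w : Set G)).index = r ^ f :=
    ⟨_, Nat.eq_prime_pow_of_unique_prime_dvd index_ne_zero_of_finite
      (fun {d} hd hdN => by_contra (fun hne => hE2 d hd hne hdN))⟩
  -- the class of the image of `w`
  let π := piZ G
  have hπsurj : Function.Surjective π := QuotientGroup.mk'_surjective _
  have hπ1 : ∀ g, π g = 1 ↔ g ∈ center G := fun g => QuotientGroup.eq_one_iff g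
  have hπwne : π w ≠ 1 := fun h => hwn ((hπ1 w).1 h)
  have hcomy : π y * π w = π w * π y := by
    have h1 : π (y * w * y⁻¹ * w⁻¹) = 1 := (hπ1 _).2 (T.comm y hyS)
    simp only [map_mul, map_inv] at h1
    calc π y * π w = (π y * π w * (π y)⁻¹ * (π w)⁻¹) * (π w * π y) := by group
      _ = π w * π y := by rw [h1, one_mul]
  have hNle : normalizer (Cn w : Set G) ≤ (centralizer ({π w} : Set (G ⧸ center G))).comap π := by
    intro u hu
    obtain ⟨j, c, hc, rfl⟩ := hdec u hu
    rw [mem_comap, mem_centralizer_singleton_iff, map_mul, map_zpow]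
    have h1 : π c * π w = π w * π c := by
      rw [← map_mul, ← map_mul, hD c hc w (mem_Cn.2 rfl)]
    have h2 : Commute (π y ^ j) (π w) := (Commute.zpow_left (show Commute (π y) (π w) from hcomy) j)
    calc π y ^ j * π c * π w = π y ^ j * (π c * π w) := by group
      _ = π y ^ j * (π w * π c) := by rw [h1]
      _ = (π y ^ j * π w) * π c := by group
      _ = (π w * π y ^ j) * π c := by rw [h2.eq]
      _ = _ := by group
  have hidx : (centralizer ({π w} : Set (G ⧸ center G))).index ∣ r ^ f := by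
    rw [← hf, ← index_comap_of_surjective _ hπsurj]
    exact index_dvd_of_le hNle
  obtain ⟨k, -, hk⟩ := (Nat.dvd_prime_pow hr).1 hidx
  have hx : (ConjClasses.mk (π w)).carrier.ncard = r ^ k := by
    rw [← Cfsg.Agent.S4037.index_centralizer_eq_ncard, hk]
  have hsolv := Cfsg.Agent.S4037.result (π w) hr k hx
  have hne : normalClosure ({π w} : Set (G ⧸ center G)) ≠ ⊥ := by
    intro h
    have h1 : π w ∈ normalClosure ({π w} : Set (G ⧸ center G)) :=
      subset_normalClosure (Set.mem_singleton _)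
    rw [h, mem_bot] at h1
    exact hπwne h1
  obtain ⟨ρ, M, hρ, hMn, hMne, hMc, hMe⟩ := exists_elem_abelian_normal _ normalClosure_normal hne hsolv
  -- the normal case
  by_cases hNtop : normalizer (Cn w : Set G) = ⊤
  · haveI hCn : (Cn w).Normal := normalizer_eq_top_iff.1 hNtop
    haveI : Group.IsSolvable (Cn w) :=
      isSolvable_of_comm (fun a b => Subtype.ext (hD a a.2 b b.2))
    haveI : Group.IsSolvable (G ⧸ Cn w) := by
      apply isSolvable_of_comm
      intro a b
      obtain ⟨u₁, rfl⟩ := QuotientGroup.mk'_surjective _ a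
      obtain ⟨u₂, rfl⟩ := QuotientGroup.mk'_surjective _ b
      obtain ⟨j₁, c₁, hc₁, rfl⟩ := hdec u₁ (by rw [hNtop]; trivial)
      obtain ⟨j₂, c₂, hc₂, rfl⟩ := hdec u₂ (by rw [hNtop]; trivial)
      have h1 : QuotientGroup.mk' (Cn w) c₁ = 1 := (QuotientGroup.eq_one_iff c₁).2 hc₁
      have h2 : QuotientGroup.mk' (Cn w) c₂ = 1 := (QuotientGroup.eq_one_iff c₂).2 hc₂
      rw [map_mul, map_mul, h1, h2, mul_one, mul_one, map_zpow, map_zpow]
      exact ((Commute.refl _).zpow_zpow j₁ j₂).eq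
    refine solvable_of_ker_le_range (Cn w).subtype (QuotientGroup.mk' (Cn w)) ?_
    intro x hx
    rw [MonoidHom.mem_ker, QuotientGroup.mk'_apply, QuotientGroup.eq_one_iff] at hx
    exact ⟨⟨x, hx⟩, rfl⟩
  exfalso
  by_cases hρr : ρ = r
  · -- the `r`-case
    have hMe' : ∀ x ∈ M, x ^ r = 1 := fun x hx => hρr ▸ hMe x hx
    have hfix : ∀ g ∈ (S : Subgroup G), g ∉ center G → ∀ x ∈ M, π g * x * (π g)⁻¹ = x → x = 1 := by
      intro g hg hgn x hx hfx
      obtain ⟨a, rfl⟩ := hπsurj x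
      obtain ⟨v, hv, hvq⟩ := exists_lift_qe π hr a ⟨1, by rw [pow_one]; exact hMe' _ hx⟩
      rw [← hv] at hfx ⊢
      have hgq := T.qe_of_mem hg
      have h1 : g * v * g⁻¹ * v⁻¹ ∈ center G := by
        rw [← hπ1]
        simp only [map_mul, map_inv]
        rw [hfx]
        group
      have h2 : g * v = v * g := comm_of_central_comm h1 (QE.coprime_of_ne hℓp hr hrl.symm hgq hvq)
      obtain ⟨h, hh⟩ := X.hconj ℓ ℓ w g hℓ hℓ hwq hwn hgq hgn
      have h3 : h * v * h⁻¹ ∈ Cn w := by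
        rw [← hh]
        exact conj_mem_Cn (mem_Cn.2 h2.symm)
      have h4 := hE1 _ h3 (hvq.conj h)
      exact (hπ1 v).2 (conj_mem_center_iff.1 h4)
    have hyZ : y ∉ center G := fun h => hyC (hZC h)
    have hyℓ : y ^ ℓ ∈ center G := ypow_T X.hCS T hℓ hyS hyC
    have key := no_rank_two M hMc (π w) (π y) (fun x hx => hMn.conj_mem x hx _)
      (fun x hx => hMn.conj_mem x hx _) hℓp
      (by
        intro x hx
        rw [← map_pow, (hπ1 _).2 T.powZ]
        simp)
      (by
        intro x hx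
        rw [← map_pow, (hπ1 _).2 hyℓ]
        simp)
      (by
        intro x hx
        have h1 : π w * π y * (π w)⁻¹ * (π y)⁻¹ = 1 := by
          rw [← hcomy]
          group
        rw [h1]
        simp)
      (by
        intro x hx hfx
        exact hfix y hyS hyZ x hx hfx)
      (by
        intro j x hx hfx
        have hgS : w * y ^ j ∈ (S : Subgroup G) := mul_mem T.memS (zpow_mem hyS j)
        have hgZ : w * y ^ j ∉ center G := by
          intro hz
          have h1 : y ^ j ∈ Cn w := by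
            have h2 : y ^ j = w⁻¹ * (w * y ^ j) := by group
            rw [h2]
            exact mul_mem (inv_mem (mem_Cn.2 rfl)) (hZC hz)
          have h3 : (mk y') ^ j = 1 := by
            rw [← map_zpow, hmk1]
            exact h1
          have h4 : ((orderOf (mk y') : ℕ) : ℤ) ∣ j := orderOf_dvd_iff_zpow_eq_one.2 h3
          rw [hy'ord] at h4
          obtain ⟨m, rfl⟩ := h4
          have h5 : y ^ ((ℓ : ℤ) * m) ∈ center G := by
            rw [zpow_mul, zpow_natCast]
            exact zpow_mem hyℓ m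
          have h6 : w = (w * y ^ ((ℓ : ℤ) * m)) * (y ^ ((ℓ : ℤ) * m))⁻¹ := by group
          apply hwn
          rw [h6]
          exact mul_mem hz (inv_mem h5)
        refine hfix _ hgS hgZ x hx ?_
        rw [map_mul, map_zpow]
        exact hfx)
    apply hMne
    rw [eq_bot_iff]
    intro x hx
    rw [mem_bot]
    exact eq_one_of_coprime_orders ((Nat.coprime_primes hℓp hr).2 hrl.symm) (key x hx) (hMe' x hx)
  · -- the `ρ`-case with `ρ ≠ r`
    haveI hMn' : M.Normal := hMn
    haveI : Fact ρ.Prime := ⟨hρ⟩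
    have hMρ : IsPGroup ρ M := by
      rintro x
      refine ⟨1, Subtype.ext ?_⟩
      simpa using hMe x x.2
    have hle₁ : M ≤ (normalizer (Cn w : Set G)).map π := by
      apply normal_le_of_coprime
      obtain ⟨a, ha⟩ := IsPGroup.iff_card.1 hMρ
      rw [ha]
      have h1 : ((normalizer (Cn w : Set G)).map π).index ∣ r ^ f := by
        rw [← hf]
        exact index_map_dvd _ hπsurj
      obtain ⟨b, -, hb⟩ := (Nat.dvd_prime_pow hr).1 h1
      rw [hb]
      exact Nat.Coprime.pow _ _ ((Nat.coprime_primes hρ hr).2 hρr)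
    let A₁ : Subgroup G := M.comap π
    haveI hA₁n : A₁.Normal := Subgroup.Normal.comap hMn π
    have hA₁N : A₁ ≤ normalizer (Cn w : Set G) := by
      intro a ha
      obtain ⟨n, hn, hna⟩ := hle₁ (show π a ∈ M from ha)
      have h1 : n⁻¹ * a ∈ center G := QuotientGroup.eq.1 hna
      have h2 : a = n * (n⁻¹ * a) := by group
      rw [h2]
      exact mul_mem hn (le_normalizer (hZC h1))
    -- a noncentral `ρ`-element
    obtain ⟨x₀, hx₀, hx₀1⟩ : ∃ x₀ ∈ M, x₀ ≠ 1 := by
      by_contra hcon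
      push Not at hcon
      exact hMne (eq_bot_iff.2 (fun x hx => (mem_bot).2 (hcon x hx)))
    obtain ⟨a₀, rfl⟩ := hπsurj x₀
    obtain ⟨d, hd, hdq⟩ := exists_lift_qe π hρ a₀ ⟨1, by rw [pow_one]; exact hMe _ hx₀⟩
    have hdA : d ∈ A₁ := by
      show π d ∈ M
      rw [hd]
      exact hx₀
    have hdZ : d ∉ center G := by
      intro h
      apply hx₀1
      rw [← hd]
      exact (hπ1 d).2 h
    -- a conjugate of `w` whose centralizer does not contain `d`
    obtain ⟨x, hx⟩ : ∃ x : G, x ∉ normalizer (Cn w : Set G) := by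
      by_contra hcon
      push Not at hcon
      exact hNtop (eq_top_iff.2 (fun x _ => hcon x))
    obtain ⟨g, hgne⟩ : ∃ g : G, Cn (g * w * g⁻¹) ≠ Cn d := by
      by_contra hcon
      push Not at hcon
      apply hx
      apply mem_normalizer_of_forall
      intro c hc
      have h1 := conj_mem_Cn (g := x) hc
      have h2 : Cn (x * w * x⁻¹) = Cn w := by
        have h3 := hcon x
        have h4 := hcon 1
        simp only [one_mul, inv_one, mul_one] at h4
        rw [h3, h4]
      rwa [h2] at h1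
    set u₁ := g * w * g⁻¹ with hu₁
    have hu₁q : QE ℓ u₁ := hwq.conj g
    have hu₁n : u₁ ∉ center G := by rwa [hu₁, conj_mem_center_iff]
    have hD₁ : ∀ a ∈ Cn u₁, ∀ b ∈ Cn u₁, a * b = b * a :=
      fun a ha b hb => abel X.hCS X.hT hℓ hu₁q hu₁n ha hb
    have hA₁N₁ : ∀ a ∈ A₁, ∀ c ∈ Cn u₁, a * c * a⁻¹ ∈ Cn u₁ := by
      intro a ha c hc
      have h1 : g⁻¹ * a * g ∈ A₁ := by
        have := hA₁n.conj_mem a ha g⁻¹
        simpa using this
      have h2 : g⁻¹ * c * g ∈ Cn w := mem_Cn_conj.1 hc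
      have h3 := (mem_normalizer_iff.1 (hA₁N h1) _).1 h2
      rw [hu₁, mem_Cn_conj]
      have h4 : g⁻¹ * (a * c * a⁻¹) * g = g⁻¹ * a * g * (g⁻¹ * c * g) * (g⁻¹ * a * g)⁻¹ := by group
      rw [h4]
      exact h3
    -- a second prime
    obtain ⟨s', v, hs', hρs', hvq, hvn, hvC⟩ : ∃ (s' : ℕ) (v : G), Θ s' ∧ ρ ≠ s' ∧ QE s' v ∧ v ∉ center G ∧
        v ∈ Cn u₁ := by
      by_cases hρℓ : ρ = ℓ
      · obtain ⟨t, e, ht, hne', he, hen, hue⟩ := X.hCS.two ℓ u₁ hℓ hu₁q hu₁n
        exact ⟨t, e, ht, by rw [hρℓ]; exact hne'.symm, he, hen, mem_Cn.2 hue.symm⟩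
      · exact ⟨ℓ, u₁, hℓ, hρℓ, hu₁q, hu₁n, mem_Cn.2 rfl⟩
    have hs'p := X.hCS.prime s' hs'
    set b := d * v * d⁻¹ * v⁻¹ with hb
    have hbC : b ∈ Cn u₁ := mul_mem (hA₁N₁ d hdA v hvC) (inv_mem hvC)
    have hbA : b ∈ A₁ := by
      have h1 : v * d⁻¹ * v⁻¹ ∈ A₁ := hA₁n.conj_mem _ (inv_mem hdA) v
      have h2 : b = d * (v * d⁻¹ * v⁻¹) := by rw [hb]; group
      rw [h2]
      exact mul_mem hdA h1
    have hvb : v * b = b * v := hD₁ _ hvC _ hbC
    have hpow : ∀ n : ℕ, v ^ n * d * (v ^ n)⁻¹ = (b⁻¹) ^ n * d := by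
      intro n
      induction n with
      | zero => simp
      | succ n ih =>
        have h1 : v * d * v⁻¹ = b⁻¹ * d := by rw [hb]; group
        have h2 : Commute v (b⁻¹ ^ n) := by
          apply Commute.pow_right
          exact (show Commute v b from hvb).inv_right
        calc v ^ (n + 1) * d * (v ^ (n + 1))⁻¹ = v * (v ^ n * d * (v ^ n)⁻¹) * v⁻¹ := by
              rw [pow_succ']; group
          _ = v * (b⁻¹ ^ n * d) * v⁻¹ := by rw [ih]
          _ = (v * b⁻¹ ^ n) * d * v⁻¹ := by group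
          _ = (b⁻¹ ^ n * v) * d * v⁻¹ := by rw [h2.eq]
          _ = b⁻¹ ^ n * (v * d * v⁻¹) := by group
          _ = b⁻¹ ^ n * (b⁻¹ * d) := by rw [h1]
          _ = _ := by rw [pow_succ]; group
    obtain ⟨e, he⟩ := hvq
    have hbpow : b ^ (s' ^ e) = 1 := by
      have h1 := hpow (s' ^ e)
      rw [he] at h1
      simp only [one_mul, inv_one, mul_one] at h1
      have h2 : (b⁻¹) ^ (s' ^ e) = 1 := by
        have h3 : 1 * d = (b⁻¹) ^ (s' ^ e) * d := by rw [one_mul]; exact h1
        exact (mul_right_cancel h3).symm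
      rw [inv_pow] at h2
      exact inv_eq_one.1 h2
    have hπb : π b = 1 := by
      apply eq_one_of_coprime_orders (a := ρ) (b := s' ^ e)
      · exact Nat.Coprime.pow_right _ ((Nat.coprime_primes hρ hs'p).2 hρs')
      · exact hMe _ hbA
      · rw [← map_pow, hbpow, map_one]
    have hbZ : b ∈ center G := (hπ1 b).1 hπb
    have hdv : d * v = v * d :=
      comm_of_central_comm hbZ (QE.coprime_of_ne hρ hs'p hρs' hdq ⟨e, he⟩)
    have hCv : Cn v = Cn u₁ := ti X.hCS X.hT hℓ hu₁q hu₁n hvC hvn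
    have hdC₁ : d ∈ Cn u₁ := by
      rw [← hCv]
      exact mem_Cn.2 hdv
    exact hgne (ti X.hCS X.hT hℓ hu₁q hu₁n hdC₁ hdZ).symm

end End

end Cfsg.Agent.Lib.ItoEnd
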