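import Mathlib
import Cfsg.Agent.Lib.ItoGen1
import Cfsg.Agent.Lib.BurnsidePQ
import Cfsg.Agent.Lib.ClassPPow
import Cfsg.Agent.S4146

/-!
# Three class sizes in a chain: elements of type `i` and `k` do not commute

If a group with trivial centre has a chain of class sizes and two commuting elements of class sizes
`ni` and `nk`, then it is solvable.
-/

set_option autoImplicit false
set_option linter.unusedSectionVars false
set_option linter.style.haveILetI false

namespace Cfsg.Agent.Lib.ItoGen

open Subgroup Cfsg Cfsg.Agent.Lib Cfsg.Agent.Lib.CoprimeClass Cfsg.Agent.Lib.ItoChain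

universe u

theorem comm_mul_of {G : Type u} [Group G] {u x y : G} (h1 : u * x = x * u) (h2 : u * y = y * u) :
    u * (x * y) = x * y * u := by
  rw [← mul_assoc, h1, mul_assoc, h2, mul_assoc]

theorem eq_one_of_nilpotent_center_bot {G : Type u} [Group G] (hn : Group.IsNilpotent G)
    (hc : center G = ⊥) (x : G) : x = 1 := by
  have h0 : ∀ n : ℕ, Subgroup.upperCentralSeries G n = ⊥ := by
    intro n
    induction n with
    | zero => exact Subgroup.upperCentralSeries_zero G
    | succ n ih =>
      rw [eq_bot_iff]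
      intro y hy
      rw [Subgroup.mem_upperCentralSeries_succ_iff, ih] at hy
      have : y ∈ center G := by
        rw [mem_center_iff]
        intro z
        have h1 := hy z
        rw [mem_bot, commutatorElement_def] at h1
        have h2 : y * z * y⁻¹ = z := by
          rw [mul_inv_eq_one] at h1
          exact h1
        rw [mul_inv_eq_iff_eq_mul] at h2
        exact h2.symm
      rw [hc] at this
      exact this
  obtain ⟨n, hn⟩ := hn.nilpotent
  rw [h0] at hn
  have : x ∈ (⊥ : Subgroup G) := by rw [hn]; trivial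
  exact this

/-- If every element of order prime to `r` has class size a power of `r`, the group is solvable. -/
theorem isSolvable_of_regular (r : ℕ) [hr : Fact r.Prime] : ∀ (n : ℕ) (G : Type u) [Group G] [Finite G],
    Nat.card G = n → (∀ x : G, Nat.Coprime (orderOf x) r → ∃ k : ℕ, cs x = r ^ k) →
    Group.IsSolvable G := by
  intro n
  induction n using Nat.strong_induction_on with
  | _ n ih =>
  intro G _ _ hn hreg
  have hrp : r.Prime := hr.out
  by_cases hsimple : IsSimpleGroup G
  · -- the simple case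
    by_cases hex : ∃ x : G, x ≠ 1 ∧ Nat.Coprime (orderOf x) r
    · obtain ⟨x, hx1, hx⟩ := hex
      obtain ⟨k, hk⟩ := hreg x hx
      have hprime := BurnsidePQ.prime_card_of_class_prime_pow r k hrp x hx1 hk
      haveI : Fact (Nat.card G).Prime := ⟨hprime⟩
      haveI := isCyclic_of_prime_card (α := G) rfl
      infer_instance
    · push Not at hex
      have hP : IsPGroup r G := by
        rw [IsPGroup.iff_orderOf]
        intro g
        have h0 : orderOf g ≠ 0 := (orderOf_pos g).ne'
        refine ⟨_, Nat.eq_prime_pow_of_unique_prime_dvd h0 (fun {d} hd hdg => ?_)⟩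
        by_contra hne
        have ho := exists_pow_prime hdg
        have h1 : g ^ (orderOf g / d) ≠ 1 := by
          intro h
          rw [h, orderOf_one] at ho
          exact hd.one_lt.ne ho
        refine hex _ h1 ?_
        rw [ho]
        exact (Nat.coprime_primes hd hrp).2 hne
      haveI := hP.isNilpotent
      infer_instance
  · -- the non-simple case
    by_cases htriv : Subsingleton G
    · infer_instance
    · have hnt : Nontrivial G := not_subsingleton_iff_nontrivial.1 htriv
      have hN : ∃ N : Subgroup G, N.Normal ∧ N ≠ ⊥ ∧ N ≠ ⊤ := by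
        by_contra hcon
        push Not at hcon
        apply hsimple
        refine ⟨?_⟩
        intro N hN
        by_cases h : N = ⊥
        · exact Or.inl h
        · exact Or.inr (hcon N hN h)
      obtain ⟨N, hNn, hNb, hNt⟩ := hN
      haveI := hNn
      have hcardN : Nat.card N < n := by
        rw [← hn]
        refine lt_of_le_of_ne (Subgroup.card_le_card_group N) (fun h => hNt ?_)
        exact Subgroup.eq_top_of_card_eq N h
      have hcardQ : Nat.card (G ⧸ N) < n := by
        rw [← hn]
        have h1 := Subgroup.card_eq_card_quotient_mul_card_subgroup N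
        have h2 : 1 < Nat.card N := by
          rw [Subgroup.one_lt_card_iff_ne_bot]
          exact hNb
        have h3 : 0 < Nat.card (G ⧸ N) := Nat.card_pos
        nlinarith
      have hsN : Group.IsSolvable N := by
        refine ih _ hcardN N rfl ?_
        intro y hy
        have hy' : Nat.Coprime (orderOf (y : G)) r := by rwa [Subgroup.orderOf_coe]
        obtain ⟨k, hk⟩ := hreg y hy'
        have hd := ClassPPow.index_centralizer_dvd N y
        have hd' : cs y ∣ r ^ k := by
          rw [← hk]
          exact hd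
        obtain ⟨j, -, hj⟩ := (Nat.dvd_prime_pow hrp).1 hd'
        exact ⟨j, hj⟩
      have hsQ : Group.IsSolvable (G ⧸ N) := by
        refine ih _ hcardQ (G ⧸ N) rfl ?_
        intro y hy
        obtain ⟨g, rfl⟩ := QuotientGroup.mk_surjective y
        obtain ⟨a, b, hab, hcomm, ⟨m, hm⟩, hco, hma, hmb⟩ := PResid.exists_decomp (p := r) g
        have hb' : ((g : G) : G ⧸ N) = ((b : G) : G ⧸ N) := by
          have h1 : ((a : G) : G ⧸ N) = 1 := by
            have h2 : orderOf ((a : G) : G ⧸ N) ∣ r ^ m := by
              apply orderOf_dvd_of_pow_eq_one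
              rw [← QuotientGroup.mk_pow, hm, QuotientGroup.mk_one]
            have h3 : orderOf ((a : G) : G ⧸ N) ∣ orderOf ((g : G) : G ⧸ N) := by
              obtain ⟨t, ht⟩ := Subgroup.mem_zpowers_iff.1 hma
              have h4 : ((a : G) : G ⧸ N) = ((g : G) : G ⧸ N) ^ t := by
                rw [← ht, QuotientGroup.mk_zpow]
              rw [h4]
              exact orderOf_dvd_of_pow_eq_one (by
                rw [← zpow_natCast, ← zpow_mul, mul_comm, zpow_mul, zpow_natCast,
                  pow_orderOf_eq_one, one_zpow])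
            have h5 : Nat.Coprime (r ^ m) (orderOf ((g : G) : G ⧸ N)) :=
              Nat.Coprime.pow_left m hy.symm
            exact orderOf_eq_one_iff.1 (Nat.eq_one_of_dvd_coprimes h5 h2 h3)
          rw [hab, QuotientGroup.mk_mul, h1, one_mul]
        rw [hb']
        obtain ⟨k, hk⟩ := hreg b hco
        have hle : (centralizer ({b} : Set G)).map (QuotientGroup.mk' N) ≤
            centralizer ({((b : G) : G ⧸ N)} : Set (G ⧸ N)) := by
          rintro _ ⟨w, hw, rfl⟩
          rw [mem_cent]
          have := mem_cent.1 hw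
          show ((w : G) : G ⧸ N) * ((b : G) : G ⧸ N) = ((b : G) : G ⧸ N) * ((w : G) : G ⧸ N)
          rw [← QuotientGroup.mk_mul, ← QuotientGroup.mk_mul, this]
        have h2 := Subgroup.index_dvd_of_le hle
        have h3 : ((centralizer ({b} : Set G)).map (QuotientGroup.mk' N)).index ∣
            (centralizer ({b} : Set G)).index := Subgroup.index_map_dvd _ (QuotientGroup.mk'_surjective N)
        have hd' : cs ((b : G) : G ⧸ N) ∣ r ^ k := by
          rw [← hk]
          exact h2.trans h3
        obtain ⟨j, -, hj⟩ := (Nat.dvd_prime_pow hrp).1 hd'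
        exact ⟨j, hj⟩
      exact Group.isSolvable_of_ker_le_range N.subtype (QuotientGroup.mk' N) (by simp)

variable {G : Type u} [Group G] [Finite G] {ni nj nk : ℕ}

namespace HZ

variable (H : HZ G ni nj nk)
include H

/-- Commuting elements of type `i` and `k` cannot have coprime orders. -/
theorem not_comm_coprime {a b : G} (ha : cs a = ni) (hb : cs b = nk) (hab : a * b = b * a)
    (hc : Nat.Coprime (orderOf a) (orderOf b)) : False := by
  have h1 := H.ni_ne_one
  have h2 := H.nk_ne_one
  have hni0 : ni ≠ 0 := by rw [← ha]; exact index_ne_zero_of_finite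
  have hnk0 : nk ≠ 0 := by rw [← hb]; exact index_ne_zero_of_finite
  have hx1 : a * b ≠ 1 := mul_ne_one_of_coprime (H.ne_one_i ha) hab hc
  have hd1 : ni ∣ cs (a * b) := by
    rw [← ha]
    exact cs_dvd_of_le (cz_mul_le_left hab hc)
  have hd2 : nk ∣ cs (a * b) := by
    rw [← hb]
    exact cs_dvd_of_le (cz_mul_le_right hab hc)
  have hd3 : ni * nk ∣ cs (a * b) := H.coprime_ik.mul_dvd_of_dvd_of_dvd hd1 hd2
  have hle : cs (a * b) ≤ ni * nk := by
    have hinf : cz a ⊓ cz b ≤ cz (a * b) := by
      intro z hz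
      obtain ⟨hz1, hz2⟩ := mem_inf.1 hz
      rw [mem_cent] at hz1 hz2 ⊢
      rw [← mul_assoc, hz1, mul_assoc, hz2, mul_assoc]
    have h3 : cs (a * b) ∣ (cz a ⊓ cz b).index := Subgroup.index_dvd_of_le hinf
    have h4 : (cz a ⊓ cz b).index ≤ (cz a).index * (cz b).index := Subgroup.index_inf_le
    have h5 : (cz a ⊓ cz b).index ≠ 0 := index_ne_zero_of_finite
    have h6 := Nat.le_of_dvd (Nat.pos_of_ne_zero h5) h3
    calc cs (a * b) ≤ (cz a ⊓ cz b).index := h6
      _ ≤ (cz a).index * (cz b).index := h4
      _ = ni * nk := by rw [show (cz a).index = cs a from rfl, show (cz b).index = cs b from rfl, ha, hb]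
  have heq : cs (a * b) = ni * nk := le_antisymm hle
    (Nat.le_of_dvd (Nat.pos_of_ne_zero (cs_ne_zero _)) hd3)
  have hni2 : 1 < ni := by omega
  have hnk2 : 1 < nk := by omega
  have hj : nj = ni * nk := by
    rcases H.all _ hx1 with h | h | h
    · rw [heq] at h
      exfalso
      have : nk = 1 := by
        apply Nat.eq_of_mul_eq_mul_left (Nat.pos_of_ne_zero hni0)
        rw [h, mul_one]
      exact h2 this
    · rw [← h, heq]
    · rw [heq] at h
      exfalso
      have : ni = 1 := by
        apply Nat.eq_of_mul_eq_mul_right (Nat.pos_of_ne_zero hnk0)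
        rw [h, one_mul]
      exact h1 this
  have hrange : Set.range (fun x : G => (centralizer ({x} : Set G)).index) =
      ({1, ni, nk, ni * nk} : Set ℕ) := by
    ext m
    simp only [Set.mem_range, Set.mem_insert_iff, Set.mem_singleton_iff]
    constructor
    · rintro ⟨z, rfl⟩
      by_cases hz : z = 1
      · subst hz
        exact Or.inl (cs_one' (G := G))
      · rcases H.all z hz with h | h | h
        · exact Or.inr (Or.inl h)
        · exact Or.inr (Or.inr (Or.inr (h.trans hj)))
        · exact Or.inr (Or.inr (Or.inl h))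
    · rintro (rfl | rfl | rfl | rfl)
      · exact ⟨1, cs_one' (G := G)⟩
      · exact ⟨a, ha⟩
      · exact ⟨b, hb⟩
      · exact ⟨a * b, heq⟩
  obtain ⟨hnil, -, -⟩ := Cfsg.Agent.S4146.result (G := G) ni nk hni2 hnk2 H.coprime_ik hrange
  exact H.ne_one_i ha (eq_one_of_nilpotent_center_bot hnil H.cen a)

/-- Conjugates of commuting elements of type `i` and `k` commute. -/
theorem comm_conj {a b : G} (ha : cs a = ni) (hb : cs b = nk) (hab : a * b = b * a) (g h : G) :
    (g * a * g⁻¹) * (h * b * h⁻¹) = (h * b * h⁻¹) * (g * a * g⁻¹) := by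
  have hc : Nat.Coprime (cz b).index (cz a).index := by
    show Nat.Coprime (cs b) (cs a)
    rw [ha, hb]
    exact H.coprime_ik.symm
  have key : ∀ g : G, (g * a * g⁻¹) * b = b * (g * a * g⁻¹) := by
    intro g
    obtain ⟨c, hc1, d, hd1, rfl⟩ := exists_mul_of_coprime (cz b) (cz a) hc g
    have h1 : d * a * d⁻¹ = a := by
      have := mem_cent.1 hd1
      rw [this]; group
    have h2 : c * d * a * (c * d)⁻¹ = c * (d * a * d⁻¹) * c⁻¹ := by group
    rw [h2, h1]
    have h3 : c * a * c⁻¹ ∈ cz b := mul_mem (mul_mem hc1 (mem_cent.2 hab)) (inv_mem hc1)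
    exact mem_cent.1 h3
  have h1 := key (h⁻¹ * g)
  calc (g * a * g⁻¹) * (h * b * h⁻¹) = h * (((h⁻¹ * g) * a * (h⁻¹ * g)⁻¹) * b) * h⁻¹ := by group
    _ = h * (b * ((h⁻¹ * g) * a * (h⁻¹ * g)⁻¹)) * h⁻¹ := by rw [h1]
    _ = (h * b * h⁻¹) * (g * a * g⁻¹) := by group

/-- **The non-commuting dichotomy.** -/
theorem solvable_or_nc : Group.IsSolvable G ∨ ∀ {a b : G}, cs a = ni → cs b = nk → a * b ≠ b * a := by
  by_cases hall : ∀ {a b : G}, cs a = ni → cs b = nk → a * b ≠ b * a
  · exact Or.inr hall
  left
  push Not at hall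
  obtain ⟨a₁, b₁, ha₁, hb₁, hab₁⟩ := hall
  have ha₁o : orderOf a₁ ≠ 1 := fun h => H.ne_one_i ha₁ (orderOf_eq_one_iff.1 h)
  have hb₁o : orderOf b₁ ≠ 1 := fun h => H.ne_one_k hb₁ (orderOf_eq_one_iff.1 h)
  obtain ⟨r, hr, hra⟩ := Nat.exists_prime_and_dvd ha₁o
  obtain ⟨q₀, hq₀, hqb⟩ := Nat.exists_prime_and_dvd hb₁o
  haveI : Fact r.Prime := ⟨hr⟩
  have hao := exists_pow_prime hra
  have hbo := exists_pow_prime hqb
  set a := a₁ ^ (orderOf a₁ / r) with ha_def
  set b := b₁ ^ (orderOf b₁ / q₀) with hb_def
  have ha1 : a ≠ 1 := by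
    intro h
    rw [h, orderOf_one] at hao
    exact hr.one_lt.ne hao
  have hb1 : b ≠ 1 := by
    intro h
    rw [h, orderOf_one] at hbo
    exact hq₀.one_lt.ne hbo
  have ha : cs a = ni := H.cs_pow_i ha₁ ha1
  have hb : cs b = nk := H.cs_pow_k hb₁ hb1
  have hab : a * b = b * a := (show Commute a₁ b₁ from hab₁).pow_pow _ _
  have hq₀r : q₀ = r := by
    by_contra hne
    refine H.not_comm_coprime ha hb hab ?_
    rw [hao, hbo]
    exact (Nat.coprime_primes hr hq₀).2 (Ne.symm hne)
  subst hq₀r
  have hcomm := H.comm_conj ha hb hab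
  have hcop := H.coprime_ik
  have hnk1 := H.nk_ne_one
  have hni1 := H.ni_ne_one
  have hni0 : ni ≠ 0 := by rw [← ha]; exact index_ne_zero_of_finite
  have hnj0 : nj ≠ 0 := by
    obtain ⟨x, _, hx⟩ := H.exj
    rw [← hx]; exact index_ne_zero_of_finite
  -- step 1
  have step1 : ∀ {q : ℕ}, q.Prime → q ∣ ni → q = q₀ := by
    intro q hq hqi
    by_contra hne
    haveI : Fact q.Prime := ⟨hq⟩
    have hqG : q ∣ Nat.card G := by
      refine hqi.trans ?_
      rw [← ha]
      exact index_dvd_card _
    have hqk : ¬ q ∣ nk := fun h => (Nat.Prime.not_coprime_iff_dvd.2 ⟨q, hq, hqi, h⟩) hcop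
    let Q : Sylow q G := default
    obtain ⟨z, hzQ, hzo, hle⟩ := exists_central (Q : Subgroup G) Q.isPGroup'
      (Q.ne_bot_of_dvd_card hqG)
    have hz1 : z ≠ 1 := by
      rintro rfl
      rw [orderOf_one] at hzo
      exact hq.one_lt.ne hzo
    have hnd := not_dvd_cs_of_sylow Q hle
    have hzk : cs z = nk := by
      rcases H.all z hz1 with h | h | h
      · exact absurd (h ▸ hqi) hnd
      · exact absurd (h ▸ hqi.trans H.dvd) hnd
      · exact h
    obtain ⟨g, hg⟩ := exists_conj_cz_le Q b (by rw [hb]; exact hqk)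
    set b' := g * b * g⁻¹ with hb'
    have hb'k : cs b' = nk := by rw [hb', cs_conj, hb]
    have hb'o : orderOf b' = q₀ := by rw [hb', orderOf_conj, hbo]
    have hzb : z * b' = b' * z := mem_cent.1 (hg hzQ)
    have hco : Nat.Coprime (orderOf z) (orderOf b') := by
      rw [hzo, hb'o]
      exact (Nat.coprime_primes hq hq₀).2 hne
    have hx1 : z * b' ≠ 1 := mul_ne_one_of_coprime hz1 hzb hco
    have hle1 : cz (z * b') ≤ cz z := cz_mul_le_left hzb hco
    have hle2 : cz (z * b') ≤ cz b' := cz_mul_le_right hzb hco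
    have hQx : (Q : Subgroup G) ≤ cz (z * b') := by
      intro u hu
      rw [mem_cent]
      have e1 := mem_cent.1 (hle hu)
      have e2 := mem_cent.1 (hg hu)
      exact comm_mul_of e1 e2
    have hnd2 := not_dvd_cs_of_sylow Q hQx
    have hd : nk ∣ cs (z * b') := by
      rw [← hb'k]
      exact cs_dvd_of_le hle2
    have hxk : cs (z * b') = nk := by
      rcases H.all _ hx1 with h | h | h
      · exfalso
        rw [h] at hd
        exact hnk1 (Nat.Coprime.eq_one_of_dvd hcop.symm hd)
      · exact absurd (h ▸ hqi.trans H.dvd) hnd2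
      · exact h
    have e1 : cz (z * b') = cz b' := eq_of_le_of_cs hle2 (by rw [hxk, hb'k])
    have e2 : cz (z * b') = cz z := eq_of_le_of_cs hle1 (by rw [hxk, hzk])
    -- `a` commutes with `b'`, hence with `z`
    have hab' : a ∈ cz b' := by
      rw [mem_cent]
      have := hcomm 1 g
      simpa [hb'] using this
    have haz : a ∈ cz z := by
      rw [← e2, e1]
      exact hab'
    refine H.not_comm_coprime ha hzk (mem_cent.1 haz) ?_
    rw [hao, hzo]
    exact (Nat.coprime_primes hr hq).2 (Ne.symm hne)
  -- step 2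
  have step2 : ∀ {q : ℕ}, q.Prime → q ∣ nj → q = q₀ := by
    intro q hq hqj
    by_contra hne
    haveI : Fact q.Prime := ⟨hq⟩
    have hqi : ¬ q ∣ ni := fun h => hne (step1 hq h)
    have hqG : q ∣ Nat.card G := by
      refine hqj.trans ?_
      obtain ⟨x, _, hx⟩ := H.exj
      rw [← hx]
      exact index_dvd_card _
    let Q : Sylow q G := default
    obtain ⟨z, hzQ, hzo, hle⟩ := exists_central (Q : Subgroup G) Q.isPGroup'
      (Q.ne_bot_of_dvd_card hqG)
    have hz1 : z ≠ 1 := by
      rintro rfl
      rw [orderOf_one] at hzo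
      exact hq.one_lt.ne hzo
    have hnd := not_dvd_cs_of_sylow Q hle
    obtain ⟨g, hg⟩ := exists_conj_cz_le Q a (by rw [ha]; exact hqi)
    set a' := g * a * g⁻¹ with ha'
    have ha'i : cs a' = ni := by rw [ha', cs_conj, ha]
    have ha'o : orderOf a' = q₀ := by rw [ha', orderOf_conj, hao]
    have hza : z * a' = a' * z := mem_cent.1 (hg hzQ)
    have hco : Nat.Coprime (orderOf z) (orderOf a') := by
      rw [hzo, ha'o]
      exact (Nat.coprime_primes hq hq₀).2 hne
    have hzi : cs z = ni := by
      rcases H.all z hz1 with h | h | h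
      · exact h
      · exact absurd (h ▸ hqj) hnd
      · exfalso
        exact H.not_comm_coprime ha'i h hza.symm hco.symm
    have hx1 : z * a' ≠ 1 := mul_ne_one_of_coprime hz1 hza hco
    have hle1 : cz (z * a') ≤ cz z := cz_mul_le_left hza hco
    have hle2 : cz (z * a') ≤ cz a' := cz_mul_le_right hza hco
    have hQx : (Q : Subgroup G) ≤ cz (z * a') := by
      intro u hu
      rw [mem_cent]
      have e1 := mem_cent.1 (hle hu)
      have e2 := mem_cent.1 (hg hu)
      exact comm_mul_of e1 e2
    have hnd2 := not_dvd_cs_of_sylow Q hQx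
    have hd : ni ∣ cs (z * a') := by
      rw [← ha'i]
      exact cs_dvd_of_le hle2
    have hxi : cs (z * a') = ni := by
      rcases H.all _ hx1 with h | h | h
      · exact h
      · exact absurd (h ▸ hqj) hnd2
      · exfalso
        rw [h] at hd
        exact hni1 (Nat.Coprime.eq_one_of_dvd hcop hd)
    have e1 : cz (z * a') = cz a' := eq_of_le_of_cs hle2 (by rw [hxi, ha'i])
    have e2 : cz (z * a') = cz z := eq_of_le_of_cs hle1 (by rw [hxi, hzi])
    have hab' : b ∈ cz a' := by
      rw [mem_cent]
      have := hcomm g 1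
      simp only [one_mul, inv_one, mul_one] at this
      exact this.symm
    have hbz : b ∈ cz z := by
      rw [← e2, e1]
      exact hab'
    refine H.not_comm_coprime hzi hb (mem_cent.1 hbz).symm ?_
    rw [hzo, hbo]
    exact (Nat.coprime_primes hq hq₀).2 hne
  -- step 3
  refine isSolvable_of_regular q₀ _ G rfl ?_
  intro x hx
  by_cases hx1 : x = 1
  · subst hx1
    exact ⟨0, by rw [pow_zero]; exact cs_one' (G := G)⟩
  rcases H.all x hx1 with h | h | h
  · exact ⟨_, h.trans (Nat.eq_prime_pow_of_unique_prime_dvd hni0 (fun {d} hd hdn => step1 hd hdn))⟩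
  · exact ⟨_, h.trans (Nat.eq_prime_pow_of_unique_prime_dvd hnj0 (fun {d} hd hdn => step2 hd hdn))⟩
  · exfalso
    have hxo : orderOf x ≠ 1 := fun h1 => hx1 (orderOf_eq_one_iff.1 h1)
    obtain ⟨q, hq, hqd⟩ := Nat.exists_prime_and_dvd hxo
    haveI : Fact q.Prime := ⟨hq⟩
    have hyo := exists_pow_prime hqd
    set y := x ^ (orderOf x / q) with hy_def
    have hy1 : y ≠ 1 := by
      intro h'
      rw [h', orderOf_one] at hyo
      exact hq.one_lt.ne hyo
    have hyk : cs y = nk := H.cs_pow_k h hy1
    have hqr : q ≠ q₀ := by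
      rintro rfl
      exact (Nat.Prime.not_coprime_iff_dvd.2 ⟨q, hq, hqd, dvd_rfl⟩) hx
    have hqi : ¬ q ∣ ni := fun h' => hqr (step1 hq h')
    obtain ⟨g, hg⟩ := exists_conj_mem_of_not_dvd (p := q) (cz a) (by
      show ¬ q ∣ cs a
      rw [ha]; exact hqi) (u := y) (k := 1) (by
      rw [pow_one, ← hyo]; exact pow_orderOf_eq_one _)
    refine H.not_comm_coprime ha (b := g⁻¹ * y * g) (by rw [cs_conj', hyk]) (mem_cent.1 hg).symm ?_
    have h5 : orderOf (g⁻¹ * y * g) = q := by
      have := orderOf_conj g⁻¹ y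
      rw [inv_inv] at this
      rw [this, hyo]
    rw [hao, h5]
    exact (Nat.coprime_primes hq₀ hq).2 (Ne.symm hqr)

end HZ

end Cfsg.Agent.Lib.ItoGen
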