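import Mathlib
import Cfsg.Agent.Lib.ItoGen3
import Cfsg.Agent.Lib.Kegel
import Cfsg.Agent.Lib.FrobeniusThm
import Cfsg.Agent.S0042

/-!
# Three class sizes in a chain: the subgroups `B` and `K`

`B` is a TI abelian subgroup of order `ni`, and `K` is the centralizer of all elements of class
size `ni`.
-/

set_option autoImplicit false
set_option linter.unusedSectionVars false
set_option linter.style.haveILetI false

namespace Cfsg.Agent.Lib.ItoGen

open Subgroup Cfsg Cfsg.Agent.Lib Cfsg.Agent.Lib.CoprimeClass Cfsg.Agent.Lib.ItoChain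
open scoped Pointwise

universe u

variable {G : Type u} [Group G] [Finite G] {ni nj nk : ℕ}

/-- The centralizer of the elements of class size `ni`. -/
def KK (G : Type u) [Group G] (ni : ℕ) : Subgroup G := centralizer {w : G | cs w = ni}

theorem mem_KK {x : G} : x ∈ KK G ni ↔ ∀ w : G, cs w = ni → x * w = w * x := by
  unfold KK
  rw [mem_centralizer_iff]
  constructor
  · intro h w hw
    exact (h w hw).symm
  · intro h w hw
    exact (h w hw).symm

instance KK_normal (ni : ℕ) : (KK G ni).Normal := by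
  constructor
  intro x hx g
  rw [mem_KK] at hx ⊢
  intro w hw
  have h1 := hx (g⁻¹ * w * g) (by rw [cs_conj', hw])
  calc g * x * g⁻¹ * w = g * (x * (g⁻¹ * w * g)) * g⁻¹ := by group
    _ = g * ((g⁻¹ * w * g) * x) * g⁻¹ := by rw [h1]
    _ = w * (g * x * g⁻¹) := by group

theorem KK_le {a : G} (ha : cs a = ni) : KK G ni ≤ cz a := by
  intro x hx
  exact mem_cent.2 (mem_KK.1 hx a ha)

theorem solvable_of_normal_quot (N : Subgroup G) [N.Normal] (h1 : Group.IsSolvable N)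
    (h2 : Group.IsSolvable (G ⧸ N)) : Group.IsSolvable G :=
  Group.isSolvable_of_ker_le_range N.subtype (QuotientGroup.mk' N) (by simp)

theorem solvable_of_cover (N A : Subgroup G) [N.Normal] (h1 : Group.IsSolvable N)
    (hA : ∀ x ∈ A, ∀ y ∈ A, x * y = y * x) (hc : ∀ g : G, ∃ a ∈ A, ∃ n ∈ N, g = a * n) :
    Group.IsSolvable G := by
  refine solvable_of_normal_quot N h1 ?_
  refine Group.isSolvable_of_comm ?_
  have hk : ∀ g : G, ∃ a ∈ A, (g : G ⧸ N) = (a : G ⧸ N) := by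
    intro g
    obtain ⟨a, ha, n, hn, rfl⟩ := hc g
    refine ⟨a, ha, ?_⟩
    rw [QuotientGroup.eq]
    simpa [mul_assoc] using (inv_mem hn)
  intro x y
  obtain ⟨x, rfl⟩ := QuotientGroup.mk_surjective x
  obtain ⟨y, rfl⟩ := QuotientGroup.mk_surjective y
  obtain ⟨a, ha, rfl'⟩ := hk x
  obtain ⟨b, hb, rfl''⟩ := hk y
  rw [rfl', rfl'', ← QuotientGroup.mk_mul, ← QuotientGroup.mk_mul, hA a ha b hb]

/-- The subgroup `B` added to the hypotheses. -/
structure HB (G : Type u) [Group G] (ni nj nk : ℕ) (B : Subgroup G) : Prop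
    extends HN G ni nj nk where
  cb : ItoChar.IsCB B
  bi : B.index = nk
  bc : Nat.card B = ni

namespace HB

variable {B : Subgroup G} (H : HB G ni nj nk B)
include H

theorem cz_eq {u : G} (hu : u ∈ B) (hu1 : u ≠ 1) : cz u = B := H.cb u hu hu1

theorem cs_mem {u : G} (hu : u ∈ B) (hu1 : u ≠ 1) : cs u = nk := by
  show (cz u).index = nk
  rw [H.cz_eq hu hu1]
  exact H.bi

theorem comm_B {x y : G} (hx : x ∈ B) (hy : y ∈ B) : x * y = y * x :=
  congrArg Subtype.val (H.cb.comm ⟨x, hx⟩ ⟨y, hy⟩)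

theorem ni_pos : 0 < ni := by
  rw [← H.bc]
  exact Nat.card_pos

theorem nk_pos : 0 < nk := by
  rw [← H.bi]
  exact Nat.pos_of_ne_zero index_ne_zero_of_finite

theorem order_coprime_of_mem_cz {a x : G} (ha : cs a = ni) (hx : x ∈ cz a) :
    Nat.Coprime (orderOf x) ni := by
  have h1 : orderOf x ∣ nk := by
    rw [← H.card_cz_i ha]
    exact Subgroup.orderOf_dvd_natCard _ hx
  exact Nat.Coprime.coprime_dvd_left h1 H.coprime_ik.symm

theorem order_coprime_of_i {a : G} (ha : cs a = ni) : Nat.Coprime (orderOf a) ni :=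
  H.order_coprime_of_mem_cz ha (mem_cent.2 rfl)

theorem eq_one_of_mem_of_coprime {x : G} (hx : x ∈ B) (hc : Nat.Coprime (orderOf x) ni) : x = 1 := by
  have h1 : orderOf x ∣ ni := by
    rw [← H.bc]
    exact Subgroup.orderOf_dvd_natCard _ hx
  exact orderOf_eq_one_iff.1 (Nat.eq_one_of_dvd_coprimes hc (dvd_refl _) h1)

theorem eq_one_of_mem_cz {a x : G} (ha : cs a = ni) (hx : x ∈ cz a) (hB : x ∈ B) : x = 1 :=
  H.eq_one_of_mem_of_coprime hB (H.order_coprime_of_mem_cz ha hx)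

theorem exists_mul {a : G} (ha : cs a = ni) (g : G) : ∃ b ∈ B, ∃ c ∈ cz a, g = b * c :=
  exists_mul_of_coprime B (cz a) (by
    rw [H.bi]
    show Nat.Coprime nk (cs a)
    rw [ha]
    exact H.coprime_ik.symm) g

theorem exists_conj_or_coprime (g : G) : (∃ h : G, h⁻¹ * g * h ∈ B) ∨ Nat.Coprime (orderOf g) ni := by
  by_cases hc : Nat.Coprime (orderOf g) ni
  · exact Or.inr hc
  left
  obtain ⟨r, hr, hrg, hri⟩ := Nat.Prime.not_coprime_iff_dvd.1 hc
  haveI : Fact r.Prime := ⟨hr⟩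
  have hro := exists_pow_prime hrg
  set g₁ := g ^ (orderOf g / r) with hg₁
  have hrk : ¬ r ∣ B.index := by
    rw [H.bi]
    intro h
    exact (Nat.Prime.not_coprime_iff_dvd.2 ⟨r, hr, hri, h⟩) H.coprime_ik
  obtain ⟨h, hh⟩ := exists_conj_mem_of_not_dvd (p := r) B hrk (u := g₁) (k := 1) (by
    rw [pow_one, ← hro]
    exact pow_orderOf_eq_one _)
  have hg₁1 : g₁ ≠ 1 := by
    intro h0
    rw [h0, orderOf_one] at hro
    exact hr.one_lt.ne hro
  have hu1 : h⁻¹ * g₁ * h ≠ 1 := by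
    intro h0
    apply hg₁1
    have : g₁ = h * (h⁻¹ * g₁ * h) * h⁻¹ := by group
    rw [this, h0]
    group
  refine ⟨h, ?_⟩
  rw [← H.cz_eq hh hu1, mem_cent]
  have e : g * g₁ = g₁ * g := by
    rw [hg₁]
    exact (Commute.refl g).pow_right _
  calc h⁻¹ * g * h * (h⁻¹ * g₁ * h) = h⁻¹ * (g * g₁) * h := by group
    _ = h⁻¹ * (g₁ * g) * h := by rw [e]
    _ = _ := by group

theorem cs_of_coprime {x : G} (hx1 : x ≠ 1) (hc : Nat.Coprime (orderOf x) ni) :
    cs x = ni ∨ cs x = nj := by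
  rcases H.all x hx1 with h | h | h
  · exact Or.inl h
  · exact Or.inr h
  · exfalso
    have hxo : orderOf x ≠ 1 := fun h1 => hx1 (orderOf_eq_one_iff.1 h1)
    obtain ⟨r, hr, hrd⟩ := Nat.exists_prime_and_dvd hxo
    exact (Nat.Prime.not_coprime_iff_dvd.2 ⟨r, hr, hrd, H.l3' h hr hrd⟩) hc

theorem exists_i : ∃ a : G, cs a = ni := by
  obtain ⟨a, -, ha⟩ := H.exi
  exact ⟨a, ha⟩

theorem card_KK_dvd : Nat.card (KK G ni) ∣ nk := by
  obtain ⟨a, ha⟩ := H.exists_i
  rw [← H.card_cz_i ha]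
  exact Subgroup.card_dvd_of_le (KK_le ha)

theorem coprime_KK : Nat.Coprime (Nat.card (KK G ni)) ni :=
  Nat.Coprime.coprime_dvd_left H.card_KK_dvd H.coprime_ik.symm

theorem order_coprime_KK {k : G} (hk : k ∈ KK G ni) : Nat.Coprime (orderOf k) ni := by
  obtain ⟨a, ha⟩ := H.exists_i
  exact H.order_coprime_of_mem_cz ha (KK_le ha hk)

theorem le_KK (N : Subgroup G) [N.Normal] (hc : Nat.Coprime (Nat.card N) ni) : N ≤ KK G ni := by
  intro x hx
  rw [mem_KK]
  intro w hw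
  have h1 : N ≤ cz w := le_centralizer_of_coprime N w (by rw [hw]; exact hc)
  exact mem_cent.1 (h1 hx)

theorem mem_KK_of_conj {a x : G} (ha : cs a = ni) (hx : ∀ g : G, g * x * g⁻¹ ∈ cz a) : x ∈ KK G ni := by
  have h1 : (cz a).normalCore ≤ KK G ni := by
    refine H.le_KK _ ?_
    have h2 : Nat.card (cz a).normalCore ∣ nk := by
      rw [← H.card_cz_i ha]
      exact Subgroup.card_dvd_of_le (normalCore_le _)
    exact Nat.Coprime.coprime_dvd_left h2 H.coprime_ik.symm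
  exact h1 hx

theorem eq_one_of_KK_B {x : G} (hK : x ∈ KK G ni) (hB : x ∈ B) : x = 1 :=
  H.eq_one_of_mem_of_coprime hB (H.order_coprime_KK hK)

/-- **The coset lemma.** -/
theorem coset {u k : G} (hu : u ∈ B) (hu1 : u ≠ 1) (hk : k ∈ KK G ni) :
    ∃ k' ∈ KK G ni, u * k = k'⁻¹ * u * k' := by
  set K := KK G ni with hK
  have hmem : ∀ x : K, u⁻¹ * ((x : G)⁻¹ * u * x) ∈ K := by
    intro x
    have h1 : u⁻¹ * (x : G)⁻¹ * u⁻¹⁻¹ ∈ K := (KK_normal ni).conj_mem _ (inv_mem x.2) u⁻¹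
    have h2 := mul_mem h1 x.2
    have e : u⁻¹ * (x : G)⁻¹ * u⁻¹⁻¹ * x = u⁻¹ * ((x : G)⁻¹ * u * x) := by group
    rwa [e] at h2
  let φ : K → K := fun x => ⟨u⁻¹ * ((x : G)⁻¹ * u * x), hmem x⟩
  have hinj : Function.Injective φ := by
    intro x y hxy
    have h1 : u⁻¹ * ((x : G)⁻¹ * u * x) = u⁻¹ * ((y : G)⁻¹ * u * y) := congrArg Subtype.val hxy
    have h2 : (x : G)⁻¹ * u * x = (y : G)⁻¹ * u * y := mul_left_cancel h1
    have h3 : (y : G) * (x : G)⁻¹ ∈ cz u := by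
      rw [mem_cent]
      calc (y : G) * (x : G)⁻¹ * u = y * ((x : G)⁻¹ * u * x) * (x : G)⁻¹ := by group
        _ = y * ((y : G)⁻¹ * u * y) * (x : G)⁻¹ := by rw [h2]
        _ = u * (y * (x : G)⁻¹) := by group
    rw [H.cz_eq hu hu1] at h3
    have h4 : (y : G) * (x : G)⁻¹ = 1 :=
      H.eq_one_of_KK_B (mul_mem y.2 (inv_mem x.2)) h3
    exact Subtype.ext (mul_inv_eq_one.1 h4).symm
  have hsurj : Function.Surjective φ := Finite.surjective_of_injective hinj
  obtain ⟨k', hk'⟩ := hsurj ⟨k, hk⟩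
  refine ⟨k', k'.2, ?_⟩
  have h1 : u⁻¹ * ((k' : G)⁻¹ * u * k') = k := congrArg Subtype.val hk'
  rw [← h1]
  group

/-- If `x` moves `u` in its coset, then `x` lies in `BK`. -/
theorem exists_of_comm_mod {x u : G} (hu : u ∈ B) (hu1 : u ≠ 1)
    (hx : u⁻¹ * (x⁻¹ * u * x) ∈ KK G ni) : ∃ b ∈ B, ∃ k ∈ KK G ni, x = b * k := by
  obtain ⟨k', hk', h1⟩ := H.coset hu hu1 hx
  have h2 : x⁻¹ * u * x = k'⁻¹ * u * k' := by
    rw [← h1]
    group
  refine ⟨x * k'⁻¹, ?_, k', hk', by group⟩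
  rw [← H.cz_eq hu hu1, mem_cent]
  calc x * k'⁻¹ * u = x * (k'⁻¹ * u * k') * k'⁻¹ := by group
    _ = x * (x⁻¹ * u * x) * k'⁻¹ := by rw [h2]
    _ = u * (x * k'⁻¹) := by group

/-- A conjugate of `B` inside `BK` is a `K`-conjugate. -/
theorem exists_KK_mul_mem_nz {u g : G} (hu : u ∈ B) (hu1 : u ≠ 1)
    (hg : g * u * g⁻¹ ∈ B ⊔ KK G ni) : ∃ k ∈ KK G ni, k * g ∈ normalizer (B : Set G) := by
  have hm : g * u * g⁻¹ ∈ ((B : Set G) * (KK G ni : Set G)) := by
    rw [← Subgroup.mul_normal]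
    exact hg
  obtain ⟨b, hb, k₀, hk₀, hbk⟩ := Set.mem_mul.1 hm
  have hbk' : b * k₀ = g * u * g⁻¹ := hbk
  have hb1 : b ≠ 1 := by
    rintro rfl
    rw [one_mul] at hbk'
    have h1 : orderOf (g * u * g⁻¹) = orderOf u := orderOf_conj g u
    have h2 := H.order_coprime_KK hk₀
    rw [hbk', h1] at h2
    exact hu1 (H.eq_one_of_mem_of_coprime hu h2)
  obtain ⟨k', hk', h1⟩ := H.coset hb hb1 hk₀
  refine ⟨k', hk', ?_⟩
  have h2 : (k' * g) * u * (k' * g)⁻¹ = b := by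
    have : k'⁻¹ * b * k' = g * u * g⁻¹ := by rw [← h1, hbk']
    calc (k' * g) * u * (k' * g)⁻¹ = k' * (g * u * g⁻¹) * k'⁻¹ := by group
      _ = k' * (k'⁻¹ * b * k') * k'⁻¹ := by rw [this]
      _ = b := by group
  have h3 : (k' * g)⁻¹ ∈ ItoChar.Nz B := H.cb.mem_nz hu hu1 (x := (k' * g)⁻¹) (by
    rw [inv_inv, h2]
    exact hb)
  have := inv_mem h3
  rwa [inv_inv] at this

theorem normal_of_forall (h : ∀ g : G, ∃ k ∈ KK G ni, k * g ∈ normalizer (B : Set G)) :
    (B ⊔ KK G ni).Normal := by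
  constructor
  intro x hx g
  have hm : x ∈ ((B : Set G) * (KK G ni : Set G)) := by
    rw [← Subgroup.mul_normal]
    exact hx
  obtain ⟨b, hb, k₀, hk₀, hbk⟩ := Set.mem_mul.1 hm
  have hbk' : b * k₀ = x := hbk
  obtain ⟨k, hk, hkg⟩ := h g
  have h1 : (k * g) * b * (k * g)⁻¹ ∈ B := (mem_normalizer_iff.1 hkg b).1 hb
  have h2 : g * x * g⁻¹ =
      k⁻¹ * ((k * g) * b * (k * g)⁻¹) * k * (g * k₀ * g⁻¹) := by
    rw [← hbk']
    group
  rw [h2]
  refine mul_mem (mul_mem ?_ ((le_sup_right : KK G ni ≤ B ⊔ KK G ni) hk)) ?_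
  · refine mul_mem ((le_sup_right : KK G ni ≤ B ⊔ KK G ni) (inv_mem hk)) ?_
    exact (le_sup_left : B ≤ B ⊔ KK G ni) h1
  · exact (le_sup_right : KK G ni ≤ B ⊔ KK G ni) ((KK_normal ni).conj_mem _ hk₀ g)

theorem forall_of_normal (hn : (B ⊔ KK G ni).Normal) (g : G) :
    ∃ k ∈ KK G ni, k * g ∈ normalizer (B : Set G) := by
  obtain ⟨u, hu, hu1⟩ := (Subgroup.bot_or_exists_ne_one B).resolve_left (by
    rintro rfl
    have := H.bc
    rw [Subgroup.card_bot] at this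
    exact H.ni_ne_one this.symm)
  exact H.exists_KK_mul_mem_nz hu hu1 (hn.conj_mem _ ((le_sup_left : B ≤ B ⊔ KK G ni) hu) g)

/-- Elements of `BK` which centralize a type `i` element lie in `K`. -/
theorem mem_KK_of_mem_sup {a x : G} (ha : cs a = ni) (hx : x ∈ cz a) (hs : x ∈ B ⊔ KK G ni) :
    x ∈ KK G ni := by
  have hm : x ∈ ((B : Set G) * (KK G ni : Set G)) := by
    rw [← Subgroup.mul_normal]
    exact hs
  obtain ⟨b, hb, k₀, hk₀, hbk⟩ := Set.mem_mul.1 hm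
  have hbk' : b * k₀ = x := hbk
  have h1 : b ∈ cz a := by
    have : b = x * k₀⁻¹ := by rw [← hbk']; group
    rw [this]
    exact mul_mem hx (inv_mem (KK_le ha hk₀))
  have h2 := H.eq_one_of_mem_cz ha h1 hb
  rw [← hbk', h2, one_mul]
  exact hk₀

/-- If `w` is central modulo `K` and centralizes a type `i` element then `w ∈ K`. -/
theorem mem_KK_of_comm {a w : G} (ha : cs a = ni) (hw : w ∈ cz a)
    (hc : ∀ x : G, w * x * w⁻¹ * x⁻¹ ∈ KK G ni) : w ∈ KK G ni := by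
  obtain ⟨u, hu, hu1⟩ := (Subgroup.bot_or_exists_ne_one B).resolve_left (by
    rintro rfl
    have := H.bc
    rw [Subgroup.card_bot] at this
    exact H.ni_ne_one this.symm)
  have h1 : u⁻¹ * (w⁻¹⁻¹ * u * w⁻¹) ∈ KK G ni := by
    have h2 := (KK_normal ni).conj_mem _ (hc u) u⁻¹
    have e : u⁻¹ * (w * u * w⁻¹ * u⁻¹) * u⁻¹⁻¹ = u⁻¹ * (w⁻¹⁻¹ * u * w⁻¹) := by group
    rwa [e] at h2
  obtain ⟨b, hb, k, hk, hbk⟩ := H.exists_of_comm_mod hu hu1 h1
  have h3 : b ∈ cz a := by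
    have : b = w⁻¹ * k⁻¹ := by rw [hbk]; group
    rw [this]
    exact mul_mem (inv_mem hw) (inv_mem (KK_le ha hk))
  have h4 := H.eq_one_of_mem_cz ha h3 hb
  rw [h4, one_mul] at hbk
  have := inv_mem hk
  rwa [← hbk, inv_inv] at this

/-- The element `f` outside `B` has bijective commutator map on `B`. -/
theorem comm_surj {f : G} (hf : f ∈ normalizer (B : Set G)) (hfB : f ∉ B) {b : G} (hb : b ∈ B) :
    ∃ u ∈ B, f⁻¹ * u⁻¹ * f * u = b := by
  have hmem : ∀ u : B, f⁻¹ * (u : G)⁻¹ * f * u ∈ B := by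
    intro u
    have h1 : f⁻¹ * (u : G)⁻¹ * f⁻¹⁻¹ ∈ B :=
      (mem_normalizer_iff.1 (inv_mem hf) _).1 (inv_mem u.2)
    rw [inv_inv] at h1
    exact mul_mem h1 u.2
  let φ : B → B := fun u => ⟨f⁻¹ * (u : G)⁻¹ * f * u, hmem u⟩
  have hinj : Function.Injective φ := by
    intro x y hxy
    have h1 : f⁻¹ * (x : G)⁻¹ * f * x = f⁻¹ * (y : G)⁻¹ * f * y := congrArg Subtype.val hxy
    by_contra hne
    have hne' : (y : G) * (x : G)⁻¹ ≠ 1 := by
      intro h0
      exact hne (Subtype.ext (mul_inv_eq_one.1 h0).symm)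
    have h2 : f ∈ cz ((y : G) * (x : G)⁻¹) := by
      rw [mem_cent]
      have e : (x : G)⁻¹ * f * x = (y : G)⁻¹ * f * y := by
        have h3 : f⁻¹ * ((x : G)⁻¹ * f * x) = f⁻¹ * ((y : G)⁻¹ * f * y) := by
          calc f⁻¹ * ((x : G)⁻¹ * f * x) = f⁻¹ * (x : G)⁻¹ * f * x := by group
            _ = f⁻¹ * (y : G)⁻¹ * f * y := h1
            _ = _ := by group
        exact mul_left_cancel h3
      calc f * ((y : G) * (x : G)⁻¹) = y * ((y : G)⁻¹ * f * y) * (x : G)⁻¹ := by group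
        _ = y * ((x : G)⁻¹ * f * x) * (x : G)⁻¹ := by rw [e]
        _ = (y : G) * (x : G)⁻¹ * f := by group
    rw [H.cz_eq (mul_mem y.2 (inv_mem x.2)) hne'] at h2
    exact hfB h2
  have hsurj : Function.Surjective φ := Finite.surjective_of_injective hinj
  obtain ⟨u, hu⟩ := hsurj ⟨b, hb⟩
  exact ⟨u, u.2, congrArg Subtype.val hu⟩

/-- **Step 3**: `B` self-normalizing gives a Frobenius group. -/
theorem solvable_of_self_normalizing (hN : normalizer (B : Set G) ≤ B) : Group.IsSolvable G := by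
  have hBbot : B ≠ ⊥ := by
    rintro rfl
    have := H.bc
    rw [Subgroup.card_bot] at this
    exact H.ni_ne_one this.symm
  have hBtop : B ≠ ⊤ := by
    rintro rfl
    have := H.bi
    rw [Subgroup.index_top] at this
    exact H.nk_ne_one this.symm
  have hF : IsFrobeniusComplement B := by
    refine ⟨hBbot, hBtop, fun g hg => ?_⟩
    rw [eq_bot_iff]
    intro y hy
    obtain ⟨hy1, hy2⟩ := mem_inf.1 hy
    rw [mem_bot]
    by_contra hy0
    have h3 : g⁻¹ * y * g ∈ B := PCore.mem_conj_smul_iff.1 hy2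
    exact hg (hN (H.cb.mem_nz hy1 hy0 h3))
  obtain ⟨N, hN₁, hNn, hNc⟩ := FrobeniusThm.exists_kernel_subgroup (G := G) hF
  obtain ⟨N', hN'₁, -, hnil⟩ := Cfsg.Agent.S0042.result B hF
  have hNN : N = N' := SetLike.coe_injective (hN₁.trans hN'₁.symm)
  subst hNN
  haveI := hNn
  have hsol : Group.IsSolvable N := by
    haveI := hnil
    infer_instance
  refine solvable_of_cover N B hsol (fun x hx y hy => H.comm_B hx hy) ?_
  intro g
  obtain ⟨⟨⟨n, hn⟩, ⟨b, hb⟩⟩, hp, -⟩ := hNc.existsUnique g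
  have hp' : n * b = g := hp
  refine ⟨b, hb, b⁻¹ * n * b, ?_, ?_⟩
  · have := hNn.conj_mem n hn b⁻¹
    rwa [inv_inv] at this
  · rw [← hp']
    group

/-- A prime-order element acting fixed-point-freely gives nilpotency. -/
theorem nilpotent_of_prime_act (C : Subgroup G) {u : G} (hu : (orderOf u).Prime)
    (hn : u ∈ normalizer (C : Set G)) (hfp : ∀ x ∈ C, u * x * u⁻¹ = x → x = 1) :
    Group.IsNilpotent C := by
  have hinv : ∀ x ∈ C, (MulAut.conj u) x ∈ C := by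
    intro x hx
    rw [MulAut.conj_apply]
    exact (mem_normalizer_iff.1 hn x).1 hx
  refine Kegel.nilpotent_of_fpf (Kegel.restr (MulAut.conj u) C hinv) ?_ hu ?_
  · intro x hx
    have h1 : u * x * u⁻¹ = x := congrArg Subtype.val hx
    exact Subtype.ext (hfp x x.2 h1)
  · ext x
    rw [Kegel.coe_restr_pow, ← map_pow, pow_orderOf_eq_one]
    simp

/-- `K` is nilpotent. -/
theorem nilpotent_KK : Group.IsNilpotent (KK G ni) := by
  have hBbot : B ≠ ⊥ := by
    rintro rfl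
    have := H.bc
    rw [Subgroup.card_bot] at this
    exact H.ni_ne_one this.symm
  haveI : Nontrivial B := (Subgroup.nontrivial_iff_ne_bot B).2 hBbot
  obtain ⟨r, hr, hrd⟩ := Nat.exists_prime_and_dvd (Finite.one_lt_card (α := B)).ne'
  haveI : Fact r.Prime := ⟨hr⟩
  obtain ⟨h, hh⟩ := exists_prime_orderOf_dvd_card' r hrd
  have hho : orderOf (h : G) = r := by rw [Subgroup.orderOf_coe, hh]
  have hh1 : (h : G) ≠ 1 := by
    intro h0
    rw [h0, orderOf_one] at hho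
    exact hr.one_lt.ne hho
  refine H.nilpotent_of_prime_act (KK G ni) (u := h) (by rw [hho]; exact hr) ?_ ?_
  · rw [normalizer_eq_top_iff.2 (KK_normal ni)]
    trivial
  · intro x hx hc
    have h1 : x ∈ cz (h : G) := by
      rw [mem_cent]
      exact (mul_inv_eq_iff_eq_mul.1 hc).symm
    rw [H.cz_eq h.2 hh1] at h1
    exact H.eq_one_of_KK_B hx h1

theorem solvable_KK : Group.IsSolvable (KK G ni) := by
  haveI := H.nilpotent_KK
  infer_instance

end HB

end Cfsg.Agent.Lib.ItoGen
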