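import Mathlib
import Cfsg.Agent.Lib.ItoGen4

/-!
# Three class sizes in a chain: two criteria for `BK` to be normal
-/

set_option autoImplicit false
set_option linter.unusedSectionVars false
set_option linter.style.haveILetI false

namespace Cfsg.Agent.Lib.ItoGen

open Subgroup Cfsg Cfsg.Agent.Lib Cfsg.Agent.Lib.CoprimeClass Cfsg.Agent.Lib.ItoChain
open scoped Pointwise

universe u

variable {G : Type u} [Group G] [Finite G] {ni nj nk : ℕ}

namespace HB

variable {B : Subgroup G} (H : HB G ni nj nk B)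
include H

/-- **Lemma L**: a normal subgroup not containing `B` lies in `K`, unless `BK` is normal. -/
theorem lemmaL (L : Subgroup G) [hLn : L.Normal] (hBL : ¬ B ≤ L) (hLK : ¬ L ≤ KK G ni) :
    (B ⊔ KK G ni).Normal := by
  classical
  -- a nontrivial element of `L ∩ B`
  obtain ⟨u, huL, huB, hu1⟩ : ∃ u ∈ L, u ∈ B ∧ u ≠ 1 := by
    have hnc : ¬ Nat.Coprime (Nat.card L) ni := fun hc => hLK (H.le_KK L hc)
    obtain ⟨r, hr, hrL, hri⟩ := Nat.Prime.not_coprime_iff_dvd.1 hnc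
    haveI : Fact r.Prime := ⟨hr⟩
    obtain ⟨y, hy⟩ := exists_prime_orderOf_dvd_card' (G := L) r hrL
    have hyo : orderOf (y : G) = r := by rw [Subgroup.orderOf_coe, hy]
    have hy1 : (y : G) ≠ 1 := by
      intro h0
      rw [h0, orderOf_one] at hyo
      exact hr.one_lt.ne hyo
    have hrk : ¬ r ∣ B.index := by
      rw [H.bi]
      intro h
      exact (Nat.Prime.not_coprime_iff_dvd.2 ⟨r, hr, hri, h⟩) H.coprime_ik
    obtain ⟨h, hh⟩ := exists_conj_mem_of_not_dvd (p := r) B hrk (u := (y : G)) (k := 1) (by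
      rw [pow_one, ← hyo]
      exact pow_orderOf_eq_one _)
    refine ⟨h⁻¹ * y * h, ?_, hh, ?_⟩
    · have := hLn.conj_mem _ y.2 h⁻¹
      rwa [inv_inv] at this
    · intro h0
      apply hy1
      have : (y : G) = h * (h⁻¹ * y * h) * h⁻¹ := by group
      rw [this, h0]
      group
  -- `N_L(B) ≤ B`
  have hNL : ∀ f ∈ L, f ∈ normalizer (B : Set G) → f ∈ B := by
    intro f hfL hfN
    by_contra hfB
    apply hBL
    intro b hb
    obtain ⟨v, hv, hvb⟩ := H.comm_surj hfN hfB hb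
    rw [← hvb]
    have h1 : v⁻¹ * f * v⁻¹⁻¹ ∈ L := hLn.conj_mem _ hfL v⁻¹
    rw [inv_inv] at h1
    have h2 := mul_mem (inv_mem hfL) h1
    have e : f⁻¹ * v⁻¹ * f * v = f⁻¹ * (v⁻¹ * f * v) := by group
    rwa [e]
  by_cases hLB : L ≤ B
  · -- `L ≤ B`, so `B` is normal
    have hBn : ∀ g : G, g ∈ normalizer (B : Set G) := by
      intro g
      have h1 : g⁻¹⁻¹ * u * g⁻¹ ∈ B := by
        rw [inv_inv]
        exact hLB (hLn.conj_mem _ huL g)
      have h2 := H.cb.mem_nz huB hu1 (x := g⁻¹) h1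
      have := inv_mem h2
      rwa [inv_inv] at this
    refine H.normal_of_forall fun g => ⟨1, one_mem _, ?_⟩
    rw [one_mul]
    exact hBn g
  -- the Frobenius group `L`
  set D : Subgroup L := B.subgroupOf L with hD
  have hmemD : ∀ x : L, x ∈ D ↔ (x : G) ∈ B := fun x => mem_subgroupOf
  have hF : IsFrobeniusComplement D := by
    refine ⟨?_, ?_, ?_⟩
    · intro h0
      have h1 : (⟨u, huL⟩ : L) ∈ D := (hmemD _).2 huB
      rw [h0, mem_bot] at h1
      exact hu1 (congrArg Subtype.val h1)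
    · intro h0
      apply hLB
      intro x hx
      have h1 : (⟨x, hx⟩ : L) ∈ D := by rw [h0]; trivial
      exact (hmemD _).1 h1
    · intro g hg
      rw [eq_bot_iff]
      intro y hy
      obtain ⟨hy1, hy2⟩ := mem_inf.1 hy
      rw [mem_bot]
      by_contra hy0
      have hy0' : (y : G) ≠ 1 := fun h0 => hy0 (Subtype.ext h0)
      have h3 : g⁻¹ * y * g ∈ D := PCore.mem_conj_smul_iff.1 hy2
      have h4 : (g : G)⁻¹ * y * g ∈ B := (hmemD _).1 h3
      have h5 : (g : G) ∈ normalizer (B : Set G) :=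
        H.cb.mem_nz ((hmemD _).1 hy1) hy0' h4
      exact hg ((hmemD _).2 (hNL _ g.2 h5))
  obtain ⟨N₁, -, hN₁n, hN₁c⟩ := FrobeniusThm.exists_kernel_subgroup (G := L) hF
  haveI := hN₁n
  set N : Subgroup G := N₁.map L.subtype with hN
  have hNL' : N ≤ L := by
    rintro x ⟨n, -, rfl⟩
    exact n.2
  have hmemN : ∀ x : L, x ∈ N₁ ↔ (x : G) ∈ N := by
    intro x
    constructor
    · intro hx
      exact ⟨x, hx, rfl⟩
    · rintro ⟨y, hy, hyx⟩
      have : y = x := Subtype.ext hyx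
      rwa [← this]
  have hNcard : Nat.card N = Nat.card N₁ :=
    Nat.card_congr (Subgroup.equivMapOfInjective N₁ L.subtype L.subtype_injective).symm.toEquiv
  -- the subgroup `L ∩ B` acts fixed-point-freely on `N`
  set D' : Subgroup G := L ⊓ B with hD'
  have hNnorm : D' ≤ normalizer (N : Set G) := by
    intro d hd
    rw [mem_normalizer_iff]
    intro x
    obtain ⟨hdL, hdB⟩ := mem_inf.1 hd
    constructor
    · intro hx
      have hxL := hNL' hx
      have h1 := hN₁n.conj_mem (⟨x, hxL⟩ : L) ((hmemN _).2 hx) (⟨d, hdL⟩ : L)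
      exact (hmemN _).1 h1
    · intro hx
      have hxL := hNL' hx
      have h1 := hN₁n.conj_mem (⟨_, hxL⟩ : L) ((hmemN _).2 hx) (⟨d, hdL⟩ : L)⁻¹
      have h2 := (hmemN _).1 h1
      have e : ((((⟨d, hdL⟩ : L)⁻¹ * ⟨_, hxL⟩ * (⟨d, hdL⟩ : L)⁻¹⁻¹ : L)) : G) = x := by
        show d⁻¹ * (d * x * d⁻¹) * d⁻¹⁻¹ = x
        group
      rwa [e] at h2
  have hDNbot : ∀ x : L, x ∈ N₁ → x ∈ D → x = 1 := by
    intro x hx hxD
    have h1 : x ∈ N₁ ⊓ D := mem_inf.2 ⟨hx, hxD⟩
    rw [disjoint_iff.1 (Subgroup.IsComplement'.disjoint hN₁c), mem_bot] at h1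
    exact h1
  have hfpf : FpfNorm.IsFpf (FpfNorm.conjHom D' N hNnorm) := by
    refine FpfNorm.conjHom_fpf D' N hNnorm ?_
    intro d hd hd1
    rw [eq_bot_iff]
    intro v hv
    obtain ⟨hv1, hv2⟩ := mem_inf.1 hv
    rw [mem_bot]
    obtain ⟨hdL, hdB⟩ := mem_inf.1 hd
    have h1 : v ∈ B := by
      rw [← H.cz_eq hdB hd1]
      exact hv2
    have hvL := hNL' hv1
    have h2 := hDNbot ⟨v, hvL⟩ ((hmemN _).2 hv1) ((hmemD _).2 h1)
    exact congrArg Subtype.val h2
  have hnd : ∀ r : ℕ, r.Prime → r ∣ Nat.card D' → ¬ r ∣ Nat.card N := by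
    intro r hr hrd
    haveI : Fact r.Prime := ⟨hr⟩
    exact FpfNorm.not_dvd_card_of_fpf hfpf hrd
  -- `N` is a `π'`-group
  have hNcop : ∀ x ∈ N, Nat.Coprime (orderOf x) ni := by
    intro x hx
    by_contra hc
    obtain ⟨r, hr, hrx, hri⟩ := Nat.Prime.not_coprime_iff_dvd.1 hc
    haveI : Fact r.Prime := ⟨hr⟩
    have hro := exists_pow_prime hrx
    set y := x ^ (orderOf x / r) with hy
    have hyN : y ∈ N := pow_mem hx _
    have hrk : ¬ r ∣ B.index := by
      rw [H.bi]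
      intro h
      exact (Nat.Prime.not_coprime_iff_dvd.2 ⟨r, hr, hri, h⟩) H.coprime_ik
    obtain ⟨h, hh⟩ := exists_conj_mem_of_not_dvd (p := r) B hrk (u := y) (k := 1) (by
      rw [pow_one, ← hro]
      exact pow_orderOf_eq_one _)
    have hhL : h⁻¹ * y * h ∈ L := by
      have := hLn.conj_mem _ (hNL' hyN) h⁻¹
      rwa [inv_inv] at this
    have h1 : r ∣ Nat.card D' := by
      have h2 : orderOf (h⁻¹ * y * h) = r := by
        have := orderOf_conj h⁻¹ y
        rw [inv_inv] at this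
        rw [this, hro]
      rw [← h2]
      exact Subgroup.orderOf_dvd_natCard _ (mem_inf.2 ⟨hhL, hh⟩)
    refine hnd r hr h1 ?_
    rw [← hro]
    exact Subgroup.orderOf_dvd_natCard _ hyN
  have hNcard2 : Nat.Coprime (Nat.card N) ni := by
    by_contra hc
    obtain ⟨r, hr, hrN, hri⟩ := Nat.Prime.not_coprime_iff_dvd.1 hc
    haveI : Fact r.Prime := ⟨hr⟩
    obtain ⟨y, hy⟩ := exists_prime_orderOf_dvd_card' (G := N) r hrN
    have hyo : orderOf (y : G) = r := by rw [Subgroup.orderOf_coe, hy]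
    exact (Nat.Prime.not_coprime_iff_dvd.2 ⟨r, hr, by rw [hyo], hri⟩) (hNcop _ y.2)
  -- decomposition of elements of `L`
  have hdec : ∀ x : L, ∃ n ∈ N₁, ∃ d ∈ D, n * d = x := by
    intro x
    obtain ⟨⟨⟨n, hn⟩, ⟨d, hd⟩⟩, hp, -⟩ := hN₁c.existsUnique x
    exact ⟨n, hn, d, hd, hp⟩
  -- `N` is normal in `G`
  have hNnormal : N.Normal := by
    constructor
    intro x hx g
    have hxL := hNL' hx
    have hgL : g * x * g⁻¹ ∈ L := hLn.conj_mem _ hxL g
    obtain ⟨n, hn, d, hd, hnd'⟩ := hdec ⟨_, hgL⟩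
    have hor : Nat.Coprime (orderOf (g * x * g⁻¹)) ni := by
      rw [orderOf_conj]
      exact hNcop x hx
    -- `d` has trivial order modulo `N₁`
    set t := orderOf (g * x * g⁻¹) with ht
    have h1 : (⟨_, hgL⟩ : L) ^ t = 1 := by
      apply Subtype.ext
      simp only [SubmonoidClass.mk_pow, OneMemClass.coe_one]
      exact pow_orderOf_eq_one _
    have h2 : ((d : L) : L ⧸ N₁) ^ t = 1 := by
      have e : ((⟨_, hgL⟩ : L) : L ⧸ N₁) = ((d : L) : L ⧸ N₁) := by
        rw [← hnd', QuotientGroup.mk_mul, (QuotientGroup.eq_one_iff n).2 hn, one_mul]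
      rw [← e, ← QuotientGroup.mk_pow, h1]
      rfl
    have h3 : (d : L) ^ t ∈ N₁ := by
      rw [← QuotientGroup.eq_one_iff, QuotientGroup.mk_pow, h2]
    have h4 : (d : L) ^ t = 1 := hDNbot _ h3 (pow_mem hd _)
    have h5 : orderOf (d : L) ∣ t := orderOf_dvd_of_pow_eq_one h4
    have h6 : orderOf ((d : L) : G) ∣ t := by
      rw [Subgroup.orderOf_coe]
      exact h5
    have h7 : d = 1 := by
      have h8 : ((d : L) : G) = 1 := H.eq_one_of_mem_of_coprime ((hmemD _).1 hd)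
        (Nat.Coprime.coprime_dvd_left h6 hor)
      exact Subtype.ext h8
    rw [h7, mul_one] at hnd'
    have h9 : (⟨_, hgL⟩ : L) ∈ N₁ := by
      rw [← hnd']
      exact hn
    exact (hmemN _).1 h9
  haveI := hNnormal
  have hNK : N ≤ KK G ni := H.le_KK N hNcard2
  -- conclusion
  refine H.normal_of_forall fun g => ?_
  have hgL : g * u * g⁻¹ ∈ L := hLn.conj_mem _ huL g
  obtain ⟨n, hn, d, hd, hnd'⟩ := hdec ⟨_, hgL⟩
  refine H.exists_KK_mul_mem_nz huB hu1 ?_
  have e : g * u * g⁻¹ = (d : G) * ((d : G)⁻¹ * n * d) := by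
    have : ((n * d : L) : G) = g * u * g⁻¹ := congrArg Subtype.val hnd'
    rw [← this]
    push_cast
    group
  rw [e]
  refine mul_mem ((le_sup_left : B ≤ B ⊔ KK G ni) ((hmemD _).1 hd)) ?_
  refine (le_sup_right : KK G ni ≤ B ⊔ KK G ni) ?_
  have h1 : ((n : L) : G) ∈ KK G ni := hNK ((hmemN _).1 hn)
  have := (KK_normal ni).conj_mem _ h1 (d : G)⁻¹
  rwa [inv_inv] at this

/-- **Lemma Fr**: Frobenius' theorem for `G / K`. -/
theorem lemmaFr {a : G} (ha : cs a = ni)
    (hyp : ∀ g : G, g ∉ cz a → ∀ x : G, x ∈ cz a → x ∈ cz (g * a * g⁻¹) → x ∈ KK G ni) :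
    (B ⊔ KK G ni).Normal := by
  classical
  set K := KK G ni with hK
  haveI : K.Normal := KK_normal ni
  have hKC : K ≤ cz a := KK_le ha
  by_cases hCK : cz a ≤ K
  · have htop : B ⊔ K = ⊤ := by
      rw [eq_top_iff]
      intro g _
      obtain ⟨b, hb, c, hc, rfl⟩ := H.exists_mul ha g
      exact mul_mem ((le_sup_left : B ≤ B ⊔ K) hb) ((le_sup_right : K ≤ B ⊔ K) (hCK hc))
    rw [htop]
    infer_instance
  set π := QuotientGroup.mk' K with hπ
  have hπs : Function.Surjective π := QuotientGroup.mk'_surjective K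
  set C : Subgroup (G ⧸ K) := (cz a).map π with hC
  have hCtop : cz a ≠ ⊤ := by
    intro h0
    have : cs a = 1 := by
      show (cz a).index = 1
      rw [h0]
      exact index_top
    rw [ha] at this
    exact H.ni_ne_one this
  have hmemC : ∀ x : G, π x ∈ C ↔ x ∈ cz a := by
    intro x
    constructor
    · rintro ⟨y, hy, hyx⟩
      have h1 : y⁻¹ * x ∈ K := by
        have := (QuotientGroup.eq (s := K)).1 hyx
        exact this
      have : x = y * (y⁻¹ * x) := by group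
      rw [this]
      exact mul_mem hy (hKC h1)
    · intro hx
      exact ⟨x, hx, rfl⟩
  have hF : IsFrobeniusComplement C := by
    refine ⟨?_, ?_, ?_⟩
    · intro h0
      apply hCK
      intro x hx
      have h1 : π x ∈ C := (hmemC x).2 hx
      rw [h0, mem_bot] at h1
      exact (QuotientGroup.eq_one_iff x).1 h1
    · intro h0
      apply hCtop
      rw [eq_top_iff]
      intro x _
      exact (hmemC x).1 (by rw [h0]; trivial)
    · intro gq hgq
      obtain ⟨g, rfl⟩ := hπs gq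
      rw [eq_bot_iff]
      intro yq hyq
      obtain ⟨hyq1, hyq2⟩ := mem_inf.1 hyq
      obtain ⟨y, rfl⟩ := hπs yq
      rw [hmemC] at hyq1
      have h3 : (π g)⁻¹ * π y * π g ∈ C := PCore.mem_conj_smul_iff.1 hyq2
      have h4 : π (g⁻¹ * y * g) ∈ C := by simpa using h3
      rw [hmemC] at h4
      have hg : g ∉ cz a := fun h => hgq ((hmemC g).2 h)
      have h5 := hyp g hg y hyq1 (mem_cz_conj.2 h4)
      exact (QuotientGroup.eq_one_iff y).2 h5
  obtain ⟨Nq, -, hNqn, hNqc⟩ := FrobeniusThm.exists_kernel_subgroup (G := G ⧸ K) hF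
  haveI := hNqn
  have hdec : ∀ x : G ⧸ K, ∃ n ∈ Nq, ∃ c ∈ C, n * c = x := by
    intro x
    obtain ⟨⟨⟨n, hn⟩, ⟨c, hc⟩⟩, hp, -⟩ := hNqc.existsUnique x
    exact ⟨n, hn, c, hc, hp⟩
  have hinf : ∀ x : G ⧸ K, x ∈ Nq → x ∈ C → x = 1 := by
    intro x hx hc
    have h1 : x ∈ Nq ⊓ C := mem_inf.2 ⟨hx, hc⟩
    rw [disjoint_iff.1 (Subgroup.IsComplement'.disjoint hNqc), mem_bot] at h1
    exact h1
  -- `B` maps into `Nq`
  have hBN : ∀ u ∈ B, π u ∈ Nq := by
    intro u hu
    obtain ⟨n, hn, c, hc, hnc⟩ := hdec (π u)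
    obtain ⟨c', hc', rfl⟩ := hc
    have h1 : ((π c' : G ⧸ K) : (G ⧸ K) ⧸ Nq) = ((π u : G ⧸ K) : (G ⧸ K) ⧸ Nq) := by
      rw [← hnc, QuotientGroup.mk_mul, (QuotientGroup.eq_one_iff n).2 hn, one_mul]
    have h2 : u ^ ni = 1 := by
      rw [← H.bc]
      have := pow_card_eq_one' (x := (⟨u, hu⟩ : B))
      exact congrArg Subtype.val this
    have h3 : ((π c' : G ⧸ K) : (G ⧸ K) ⧸ Nq) ^ ni = 1 := by
      rw [h1, ← QuotientGroup.mk_pow, ← map_pow, h2, map_one]
      rfl
    have h4 : (π c') ^ ni ∈ Nq := by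
      rw [← QuotientGroup.eq_one_iff, QuotientGroup.mk_pow, h3]
    have h5 : (π c') ^ ni = 1 := hinf _ h4 (pow_mem ((hmemC c').2 hc') _)
    have h6 : c' ^ nk = 1 := by
      rw [← H.card_cz_i ha]
      have := pow_card_eq_one' (x := (⟨c', hc'⟩ : cz a))
      exact congrArg Subtype.val this
    have h7 : (π c') ^ nk = 1 := by rw [← map_pow, h6, map_one]
    have h8 : orderOf (π c') = 1 :=
      Nat.eq_one_of_dvd_coprimes H.coprime_ik (orderOf_dvd_of_pow_eq_one h5)
        (orderOf_dvd_of_pow_eq_one h7)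
    rw [orderOf_eq_one_iff] at h8
    rw [h8, mul_one] at hnc
    rw [← hnc]
    exact hn
  -- `N` is `BK`
  have hEq : B ⊔ K = Nq.comap π := by
    apply le_antisymm
    · rw [sup_le_iff]
      constructor
      · intro u hu
        exact hBN u hu
      · intro k hk
        rw [mem_comap]
        have : π k = 1 := (QuotientGroup.eq_one_iff k).2 hk
        rw [this]
        exact one_mem _
    · intro x hx
      rw [mem_comap] at hx
      obtain ⟨b, hb, c, hc, rfl⟩ := H.exists_mul ha x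
      have h1 : π c ∈ Nq := by
        have h2 : π c = (π b)⁻¹ * π (b * c) := by simp
        rw [h2]
        exact mul_mem (inv_mem (hBN b hb)) hx
      have h3 : π c = 1 := hinf _ h1 ((hmemC c).2 hc)
      have h4 : c ∈ K := (QuotientGroup.eq_one_iff c).1 h3
      exact mul_mem ((le_sup_left : B ≤ B ⊔ K) hb) ((le_sup_right : K ≤ B ⊔ K) h4)
  rw [hEq]
  exact hNqn.comap π

end HB

end Cfsg.Agent.Lib.ItoGen
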