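import Mathlib
import Cfsg.Agent.Lib.ItoChar
import Cfsg.Agent.Lib.ItoGen5

/-!
# Three class sizes in a chain: the vanishing lemma without simplicity
-/

set_option autoImplicit false
set_option linter.unusedSectionVars false
set_option warn.classDefReducibility false
set_option linter.style.haveILetI false

namespace Cfsg.Agent.Lib.ItoGen

open Cfsg Cfsg.Agent.Lib.CharBasic Cfsg.Agent.Lib.CharInd Cfsg.Agent.Lib.CharIntegrality
open Cfsg.Agent.Lib.ItoChar
open scoped ComplexConjugate

universe u

section TI

variable {G : Type u} [Group G] [Fintype G] {B : Subgroup G}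

/-- **The vanishing lemma.**  Let `G` be a non-abelian simple group with an exact factorisation
`|G| = |A||B|` into coprime parts, where every `u ∈ B#` has centralizer `B`.  Then an element `w ≠ 1`
with class size `|B|` lies in exactly one conjugate of `A`. -/
theorem fix_or_ker (A B : Subgroup G)
    (h : IsCB B) (hcop : Nat.Coprime (Nat.card A) (Nat.card B))
    (hcard : Nat.card A * Nat.card B = Nat.card G) (w : G)
    (hw : (Subgroup.centralizer ({w} : Set G)).index = Nat.card B) :
    Nat.card (MulAction.fixedBy (G ⧸ A) w) = 1 ∨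
      ∃ L : Subgroup G, L.Normal ∧ ¬ B ≤ L ∧ ∀ x : G, w * x * w⁻¹ * x⁻¹ ∈ L := by
  classical
  letI : Fintype B := Fintype.ofFinite _
  letI : Fintype (Nz B) := Fintype.ofFinite _
  letI : Fintype (G ⧸ A) := Fintype.ofFinite _
  by_cases hex : ∃ L : Subgroup G, L.Normal ∧ ¬ B ≤ L ∧ ∀ x : G, w * x * w⁻¹ * x⁻¹ ∈ L
  · exact Or.inr hex
  left
  set π : G → ℂ := PermChar.pc G (G ⧸ A) with hπ_def
  have hπc : IsCharacter G π := PermChar.isCharacter_pc
  have hπ0 : ∀ u : B, u ≠ 1 → π u = 0 := by
    intro u hu
    rw [hπ_def]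
    show ((Nat.card (MulAction.fixedBy (G ⧸ A) (u : G)) : ℕ) : ℂ) = 0
    have : IsEmpty (MulAction.fixedBy (G ⧸ A) (u : G)) := by
      constructor
      rintro ⟨q, hq⟩
      obtain ⟨g, rfl⟩ := QuotientGroup.mk_surjective q
      have h1 : (u : G) • ((g : G) : G ⧸ A) = ((g : G) : G ⧸ A) := hq
      have h2 : g⁻¹ * (u : G) * g ∈ A := by
        rw [MulAction.Quotient.smul_mk, smul_eq_mul] at h1
        have := QuotientGroup.eq.mp h1
        have e : ((u : G) * g)⁻¹ * g = g⁻¹ * (u : G)⁻¹ * g := by group
        rw [e] at this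
        have h3 := A.inv_mem this
        have e2 : (g⁻¹ * (u : G)⁻¹ * g)⁻¹ = g⁻¹ * (u : G) * g := by group
        rwa [e2] at h3
      have h3 : orderOf (g⁻¹ * (u : G) * g) = orderOf (u : G) := by
        have e : g⁻¹ * (u : G) * g = MulAut.conj g⁻¹ (u : G) := by simp
        rw [e]
        exact orderOf_injective (MulAut.conj g⁻¹).toMonoidHom (MulAut.conj g⁻¹).injective _
      have h4 : orderOf (u : G) ∣ Nat.card A := by
        rw [← h3]
        have := Subgroup.orderOf_dvd_natCard A h2
        exact this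
      have h5 : orderOf (u : G) ∣ Nat.card B := Subgroup.orderOf_dvd_natCard B u.2
      have h6 : orderOf (u : G) = 1 := Nat.eq_one_of_dvd_coprimes hcop h4 h5
      exact hu (Subtype.ext (orderOf_eq_one_iff.mp h6))
    rw [Nat.card_of_isEmpty]
    simp
  have hπ1 : π 1 = (Nat.card B : ℂ) := by
    rw [hπ_def]
    show ((Nat.card (MulAction.fixedBy (G ⧸ A) (1 : G)) : ℕ) : ℂ) = _
    congr 1
    have e1 : Nat.card (MulAction.fixedBy (G ⧸ A) (1 : G)) = Nat.card (G ⧸ A) := by
      rw [MulAction.fixedBy_one_eq_univ]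
      exact Nat.card_congr (Equiv.Set.univ _)
    rw [e1]
    have e2 := Subgroup.card_mul_index A
    have hpos : 0 < Nat.card A := Nat.card_pos
    have e3 : A.index = Nat.card B := by
      apply Nat.eq_of_mul_eq_mul_left hpos
      rw [e2, hcard]
    exact e3
  have hinner : ∀ φ : IrrCharacter B, classInner (fun u : B => π u) φ.1 = 1 := by
    intro φ
    unfold classInner
    rw [Finset.sum_eq_single (1 : B)]
    · have h2 : (φ : B → ℂ) 1 = 1 := CharCodegP.irr_one_of_comm h.comm φ.2
      have hB : (Nat.card B : ℂ) ≠ 0 := by exact_mod_cast Nat.card_pos.ne'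
      simp only [Subgroup.coe_one, hπ1, h2, map_one, mul_one]
      field_simp
    · intro u _ hu
      show π u * _ = 0
      rw [hπ0 u hu, zero_mul]
    · intro hc
      exact absurd (Finset.mem_univ _) hc
  obtain ⟨M, hM⟩ := exists_nat_decomp hπc
  have hsum : ∀ φ : IrrCharacter B, ∑ i, M i * mult i φ = 1 := by
    intro φ
    have h1 := hinner φ
    have h2 : (fun u : B => π u) = ∑ i : IrrCharacter G, M i • (fun u : B => (i : G → ℂ) u) := by
      funext u
      rw [hM]
      simp [Finset.sum_apply]
    rw [h2, classInner_sum_left] at h1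
    have h3 : ∀ i : IrrCharacter G, classInner (M i • (fun u : B => (i : G → ℂ) u)) φ.1 =
        ((M i * mult i φ : ℕ) : ℂ) := by
      intro i
      rw [← Nat.cast_smul_eq_nsmul ℂ, classInner_smul_left, mult_spec]
      push_cast
      rfl
    simp only [h3] at h1
    exact_mod_cast h1
  have hM1 : M ⟨fun _ => 1, isIrrCharacter_one⟩ = 1 := by
    have h1 := classInner_nat_decomp M (fun _ => 1) isIrrCharacter_one
    rw [← hM] at h1
    have h2 : classInner π (fun _ => 1) = Nat.card (MulAction.orbitRel.Quotient G (G ⧸ A)) :=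
      PermChar.classInner_pc_one
    rw [h2] at h1
    have h3 : Nat.card (MulAction.orbitRel.Quotient G (G ⧸ A)) = 1 := by
      haveI : Subsingleton (MulAction.orbitRel.Quotient G (G ⧸ A)) :=
        (MulAction.pretransitive_iff_subsingleton_quotient G (G ⧸ A)).mp inferInstance
      haveI : Nonempty (MulAction.orbitRel.Quotient G (G ⧸ A)) :=
        ⟨Quotient.mk _ ((1 : G) : G ⧸ A)⟩
      exact Nat.card_unique
    rw [h3] at h1
    have h4 : ((M ⟨fun _ => 1, isIrrCharacter_one⟩ : ℕ) : ℂ) = ((1 : ℕ) : ℂ) := by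
      rw [← h1]
    exact_mod_cast h4
  have hvan : ∀ χ : IrrCharacter G, M χ ≠ 0 → χ.1 ≠ (fun _ => 1) → χ.1 w = 0 := by
    intro χ hχ hχ1
    obtain ⟨n, ρ, hρ, hρχ⟩ := χ.2
    have hdeg : (χ : G → ℂ) 1 = n := by
      rw [← hρχ, Representation.char_one]
      simp
    have hcd := deg_coprime h (Nat.card A) hcard.symm hcop M hsum (by rw [hM1]; exact one_ne_zero)
      χ hχ hχ1 n hdeg
    have hcop' : Nat.Coprime (Module.finrank ℂ (Fin n → ℂ))
        (Subgroup.centralizer ({w} : Set G)).index := by
      rw [hw, Module.finrank_fin_fun]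
      exact hcd
    have hB := character_eq_zero_or_norm_eq ρ hρ w hcop'
    rw [hρχ] at hB
    refine hB.elim id fun hB' => ?_
    exfalso
    rw [← hρχ] at hB'
    obtain ⟨ω, hω⟩ := (Cfsg.Agent.Lib.CharValues.norm_character_eq_iff ρ w).mp hB'
    apply hex
    refine ⟨ρ.ker, ?_, ?_, ?_⟩
    · exact inferInstance
    · intro hBk
      -- `χ` is trivial on `B`, against the multiplicity count
      set oneB : IrrCharacter B := ⟨fun _ => 1, isIrrCharacter_one⟩ with honeB
      have hval : ∀ u : B, (χ : G → ℂ) u = n := by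
        intro u
        have hu : ρ (u : G) = 1 := hBk u.2
        rw [← hdeg, ← hρχ]
        show LinearMap.trace ℂ _ (ρ (u : G)) = LinearMap.trace ℂ _ (ρ 1)
        have hr1 : ρ (1 : G) = 1 := map_one ρ
        rw [hu, hr1]
      have hm1 : mult χ oneB = n := by
        have h5 := mult_spec χ oneB
        have h6 : classInner (fun u : B => (χ : G → ℂ) u) oneB.1 = n := by
          unfold classInner
          have h7 : ∀ u : B, (χ : G → ℂ) u * (starRingEnd ℂ) (oneB.1 u) = n := by
            intro u
            rw [hval u]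
            simp [honeB]
          simp only [h7, Finset.sum_const, Finset.card_univ, nsmul_eq_mul, ← Nat.card_eq_fintype_card]
          have hB0 : (Nat.card B : ℂ) ≠ 0 := by exact_mod_cast Nat.card_pos.ne'
          field_simp
        rw [h6] at h5
        exact_mod_cast h5.symm
      have hn0 : n ≠ 0 := by
        rintro rfl
        have := GenChar.isIrr_one_ne_zero χ.2
        rw [hdeg] at this
        simp at this
      set one : IrrCharacter G := ⟨fun _ => 1, isIrrCharacter_one⟩ with hone_def
      have hone_one : mult one oneB ≠ 0 := by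
        have h5 := mult_spec one oneB
        have h6 : classInner (fun u : B => (one : G → ℂ) u) oneB.1 = 1 :=
          classInner_irr_self oneB.2
        rw [h6] at h5
        intro h0
        rw [h0] at h5
        simp at h5
      have hχone : χ ≠ one := fun hc => hχ1 (congrArg Subtype.val hc)
      have h5 := Finset.sum_le_sum_of_subset (f := fun i => M i * mult i oneB)
        (Finset.subset_univ ({χ, one} : Finset (IrrCharacter G)))
      rw [Finset.sum_pair hχone, hsum oneB] at h5
      have h6 : 1 ≤ M χ * mult χ oneB :=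
        Nat.one_le_iff_ne_zero.mpr (mul_ne_zero hχ (by rw [hm1]; exact hn0))
      have h7 : 1 ≤ M one * mult one oneB :=
        Nat.one_le_iff_ne_zero.mpr (mul_ne_zero (by rw [hM1]; exact one_ne_zero) hone_one)
      omega
    · intro x
      show ρ (w * x * w⁻¹ * x⁻¹) = 1
      have hwinv : ρ w * ρ w⁻¹ = 1 := by rw [← map_mul, mul_inv_cancel, map_one]
      have hxinv : ρ x * ρ x⁻¹ = 1 := by rw [← map_mul, mul_inv_cancel, map_one]
      have hc : ρ w * ρ x = ρ x * ρ w := by
        rw [hω]
        ext v
        simp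
      calc ρ (w * x * w⁻¹ * x⁻¹) = ρ w * ρ x * ρ w⁻¹ * ρ x⁻¹ := by
            simp only [map_mul]
        _ = ρ x * (ρ w * ρ w⁻¹) * ρ x⁻¹ := by rw [hc]; simp only [mul_assoc]
        _ = 1 := by rw [hwinv, mul_one, hxinv]
  have hπw : π w = 1 := by
    rw [hM]
    simp only [Finset.sum_apply, nsmul_eq_mul, Pi.mul_apply, Pi.natCast_apply]
    rw [Finset.sum_eq_single (⟨fun _ => 1, isIrrCharacter_one⟩ : IrrCharacter G)]
    · rw [hM1]; simp
    · intro i _ hi
      by_cases hMi : M i = 0
      · rw [hMi]; simp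
      · rw [hvan i hMi (fun hc => hi (Subtype.ext hc))]; simp
    · intro hc
      exact absurd (Finset.mem_univ _) hc
  have : ((Nat.card (MulAction.fixedBy (G ⧸ A) w) : ℕ) : ℂ) = ((1 : ℕ) : ℂ) := by
    rw [Nat.cast_one, ← hπw]
  exact_mod_cast this


end TI

end Cfsg.Agent.Lib.ItoGen
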