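import Mathlib
import Cfsg.Agent.Lib.ItoGen5
import Cfsg.Agent.Lib.ItoGenChar
import Cfsg.Agent.Lib.KegelWielandt

/-!
# Three class sizes in a chain: the case of a type `i` element outside `K`, and the final step
-/

set_option autoImplicit false
set_option linter.unusedSectionVars false
set_option linter.style.haveILetI false

namespace Cfsg.Agent.Lib.ItoGen

open Subgroup Cfsg Cfsg.Agent.Lib Cfsg.Agent.Lib.CoprimeClass Cfsg.Agent.Lib.ItoChain
open scoped Pointwise

universe u

variable {G : Type u} [Group G] [Finite G] {ni nj nk : ℕ}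

theorem inf_le_cz_mul (x y : G) : cz x ⊓ cz y ≤ cz (x * y) := by
  intro z hz
  obtain ⟨hz1, hz2⟩ := mem_inf.1 hz
  rw [mem_cent] at hz1 hz2 ⊢
  exact comm_mul_of' hz1 hz2

namespace HB

variable {B : Subgroup G} (H : HB G ni nj nk B)
include H

/-- A uniqueness consequence of the character lemma. -/
theorem hun (hnn : ¬ (B ⊔ KK G ni).Normal) {a w g : G} (ha : cs a = ni) (hw : cs w = ni)
    (hwK : w ∉ KK G ni) (hwa : w ∈ cz a) (hwg : w ∈ cz (g * a * g⁻¹)) : g * a * g⁻¹ = a := by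
  classical
  letI : Fintype G := Fintype.ofFinite G
  have hfix := fix_or_ker (cz a) B H.cb
    (by rw [H.card_cz_i ha, H.bc]; exact H.coprime_ik.symm)
    (by rw [H.card_cz_i ha, H.bc, H.card_G, mul_comm])
    w (by rw [H.bc]; exact hw)
  rcases hfix with hfix | ⟨L, hL, hBL, hc⟩
  · have hg2 : g⁻¹ * w * g ∈ cz a := mem_cz_conj.1 hwg
    have hq0 : (((1 : G) : G ⧸ cz a)) ∈ MulAction.fixedBy (G ⧸ cz a) w := by
      rw [MulAction.mem_fixedBy, MulAction.Quotient.smul_coe, smul_eq_mul, mul_one]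
      rw [QuotientGroup.eq]
      simpa using inv_mem hwa
    have hq1 : (((g : G) : G ⧸ cz a)) ∈ MulAction.fixedBy (G ⧸ cz a) w := by
      rw [MulAction.mem_fixedBy, MulAction.Quotient.smul_coe, smul_eq_mul]
      rw [QuotientGroup.eq]
      have : (w * g)⁻¹ * g = (g⁻¹ * w * g)⁻¹ := by group
      rw [this]
      exact inv_mem hg2
    obtain ⟨_, hun⟩ := (Nat.card_eq_one_iff_unique.1 hfix)
    have h1 : (⟨_, hq0⟩ : MulAction.fixedBy (G ⧸ cz a) w) = ⟨_, hq1⟩ := Subsingleton.elim _ _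
    have h2 : ((1 : G) : G ⧸ cz a) = ((g : G) : G ⧸ cz a) := congrArg Subtype.val h1
    have h3 := QuotientGroup.eq.1 h2
    have h4 : g ∈ cz a := by simpa using h3
    have h5 := mem_cent.1 h4
    rw [h5]
    group
  · exfalso
    haveI := hL
    by_cases hLK : L ≤ KK G ni
    · exact hwK (H.mem_KK_of_comm ha hwa (fun x => hLK (hc x)))
    · exact hnn (H.lemmaL L hBL hLK)

/-- A prime dividing `nj` but not `ni`. -/
theorem exists_ell : ∃ l : ℕ, l.Prime ∧ l ∣ nj ∧ ¬ l ∣ ni := by
  obtain ⟨m, hm⟩ := H.dvd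
  have hm1 : m ≠ 1 := by
    rintro rfl
    rw [mul_one] at hm
    exact H.hij hm.symm
  obtain ⟨l, hl, hlm⟩ := Nat.exists_prime_and_dvd hm1
  refine ⟨l, hl, by rw [hm]; exact Dvd.dvd.mul_left hlm _, ?_⟩
  have hmk : m ∣ nk := by
    obtain ⟨x, hx1, hx⟩ := H.exj
    have h1 := csm x
    rw [hx, H.card_G, hm] at h1
    have h2 : m * Nat.card (cz x) = nk := by
      apply Nat.eq_of_mul_eq_mul_left H.ni_pos
      rw [← h1]
      ring
    exact Dvd.intro _ h2
  intro hli
  exact (Nat.Prime.not_coprime_iff_dvd.2 ⟨l, hl, hli, hlm.trans hmk⟩) H.coprime_ik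

/-- Two type `i` elements have conjugates with no product of type `j`. -/
theorem conj_not_j {x y : G} (hx : cs x = ni) (hy : cs y = ni) :
    ∃ g h : G, ∀ z : G, cz (g * x * g⁻¹) ⊓ cz (h * y * h⁻¹) ≤ cz z → cs z ≠ nj := by
  obtain ⟨l, hl, hlj, hli⟩ := H.exists_ell
  haveI : Fact l.Prime := ⟨hl⟩
  let R : Sylow l G := default
  obtain ⟨g, hg⟩ := exists_conj_cz_le R x (by rw [hx]; exact hli)
  obtain ⟨h, hh⟩ := exists_conj_cz_le R y (by rw [hy]; exact hli)
  refine ⟨g, h, fun z hz hzj => ?_⟩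
  have h1 : (R : Subgroup G) ≤ cz z := (le_inf hg hh).trans hz
  exact not_dvd_cs_of_sylow R h1 (by rw [hzj]; exact hlj)

/-- **K1**: if a type `i` element of `p`-power order is outside `K`, then `K` is a `p`-group. -/
theorem KK_isPGroup {a : G} {p n : ℕ} (hp : p.Prime) (ha : cs a = ni) (han : a ^ (p ^ n) = 1)
    (haK : a ∉ KK G ni) : IsPGroup p (KK G ni) := by
  haveI : Fact p.Prime := ⟨hp⟩
  have hcard0 : Nat.card (KK G ni) ≠ 0 := Nat.card_pos.ne'
  refine IsPGroup.of_card (n := _) (Nat.eq_prime_pow_of_unique_prime_dvd hcard0 (fun {t} ht htd => ?_))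
  by_contra htp
  haveI : Fact t.Prime := ⟨ht⟩
  obtain ⟨v', hv'⟩ := exists_prime_orderOf_dvd_card' (G := KK G ni) t htd
  set v : G := (v' : G) with hv_def
  have hvK : v ∈ KK G ni := v'.2
  have hvo : orderOf v = t := by rw [hv_def, Subgroup.orderOf_coe, hv']
  have hv1 : v ≠ 1 := by
    intro h
    rw [h, orderOf_one] at hvo
    exact ht.one_lt.ne hvo
  have ha1 : a ≠ 1 := H.ne_one_i ha
  have hao : orderOf a ∣ p ^ n := orderOf_dvd_of_pow_eq_one han
  have hco : ∀ g : G, Nat.Coprime (orderOf (g * a * g⁻¹)) t := by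
    intro g
    rw [orderOf_conj]
    refine Nat.Coprime.coprime_dvd_left hao (Nat.Coprime.pow_left n ?_)
    exact (Nat.coprime_primes hp ht).2 (Ne.symm htp)
  have hconj : ∀ g : G, cs (g * a * g⁻¹) = ni := fun g => by rw [cs_conj, ha]
  have key : (∀ g : G, a ∈ cz (g * a * g⁻¹)) → False := by
    intro h
    apply haK
    refine H.mem_KK_of_conj ha fun g => ?_
    have h1 := h g
    exact mem_cent.2 (mem_cent.1 h1).symm
  rcases H.cs_of_coprime hv1 (H.order_coprime_KK hvK) with hvi | hvj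
  · -- `v` of type `i`
    have hC : ∀ v₁ : G, v₁ ∈ KK G ni → cs v₁ = ni → orderOf v₁ = t → cs (v₁ * a) = nj := by
      intro v₁ hv₁K hv₁i hv₁o
      have hc : v₁ * a = a * v₁ := mem_KK.1 hv₁K a ha
      have hco' : Nat.Coprime (orderOf v₁) (orderOf a) := by
        rw [hv₁o, Nat.coprime_comm]
        have := hco 1
        simpa using this
      have hx1 : v₁ * a ≠ 1 := mul_ne_one_of_coprime (H.ne_one_i hv₁i) hc hco'
      have hxa : v₁ * a ∈ cz a := mul_mem (KK_le ha hv₁K) (mem_cent.2 rfl)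
      rcases H.cs_of_coprime hx1 (H.order_coprime_of_mem_cz ha hxa) with hxi | hxj
      · exfalso
        have e1 : cz (v₁ * a) = cz a := eq_of_le_of_cs (cz_mul_le_right hc hco') (by rw [hxi, ha])
        have e2 : cz (v₁ * a) = cz v₁ := eq_of_le_of_cs (cz_mul_le_left hc hco') (by rw [hxi, hv₁i])
        refine key fun g => mem_cz_conj.2 ?_
        rw [← e1, e2, mem_cent]
        exact (mem_KK.1 hv₁K _ (by rw [cs_conj', ha])).symm
      · exact hxj
    obtain ⟨g, h, hz⟩ := H.conj_not_j hvi ha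
    refine hz _ (inf_le_cz_mul _ _) ?_
    have e : g * v * g⁻¹ * (h * a * h⁻¹) = h * ((h⁻¹ * (g * v * g⁻¹) * h) * a) * h⁻¹ := by group
    rw [e, cs_conj]
    refine hC _ ?_ ?_ ?_
    · have h1 := (KK_normal ni).conj_mem _ hvK g
      have h2 := (KK_normal ni).conj_mem _ h1 h⁻¹
      rwa [inv_inv] at h2
    · rw [cs_conj', cs_conj, hvi]
    · have := orderOf_conj h⁻¹ (g * v * g⁻¹)
      rw [inv_inv] at this
      rw [this, orderOf_conj, hvo]
  · -- `v` of type `j`
    refine key fun g => ?_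
    have h1 : cz v ≤ cz (g * a * g⁻¹) := H.m3' hvj (H.ne_one_i (hconj g))
      (mem_KK.1 hvK _ (hconj g)).symm (by rw [hvo]; exact hco g)
    exact h1 (mem_cent.2 (mem_KK.1 hvK a ha).symm)

/-- **Case 1**: Burnside's transfer hypothesis for primes different from `p`. -/
theorem case1_sylow (hnn : ¬ (B ⊔ KK G ni).Normal) {a : G} {p n : ℕ} (hp : p.Prime)
    (ha : cs a = ni) (han : a ^ (p ^ n) = 1) (haK : a ∉ KK G ni) {s : ℕ} [hs : Fact s.Prime]
    (hsp : s ≠ p) (R : Sylow s G) (hsG : s ∣ Nat.card G) (hR : (R : Subgroup G) ≤ cz a) :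
    normalizer ((R : Subgroup G) : Set G) ≤ centralizer ((R : Subgroup G) : Set G) := by
  haveI : Fact p.Prime := ⟨hp⟩
  have hKp := H.KK_isPGroup hp ha han haK
  have hun := fun {w g : G} => H.hun hnn (a := a) (w := w) (g := g) ha
  have ha1 : a ≠ 1 := H.ne_one_i ha
  have hconj : ∀ g : G, cs (g * a * g⁻¹) = ni := fun g => by rw [cs_conj, ha]
  have hao : orderOf a ∣ p ^ n := orderOf_dvd_of_pow_eq_one han
  have hconjo : ∀ g : G, orderOf (g * a * g⁻¹) ∣ p ^ n := fun g => by rw [orderOf_conj]; exact hao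
  have hself : ∀ g : G, a ∈ cz (g * a * g⁻¹) → g * a * g⁻¹ = a := fun g h1 =>
    hun ha haK (mem_cent.2 rfl) h1
  -- D1
  have hD1 : ∀ (y g : G), y ∈ cz a → y ∈ cz (g * a * g⁻¹) → g * a * g⁻¹ ≠ a →
      ∀ t : ℕ, t.Prime → t ∣ orderOf y → t = p := by
    intro y g hya hyg hne t ht htd
    by_contra htp
    have hy₀o := exists_pow_prime htd
    set y₀ := y ^ (orderOf y / t) with hy₀_def
    have hy₀1 : y₀ ≠ 1 := by
      intro h
      rw [h, orderOf_one] at hy₀o
      exact ht.one_lt.ne hy₀o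
    have hy₀a : y₀ ∈ cz a := pow_mem hya _
    have hy₀g : y₀ ∈ cz (g * a * g⁻¹) := pow_mem hyg _
    have hy₀K : y₀ ∉ KK G ni := by
      intro h
      obtain ⟨k, hk⟩ := hKp ⟨y₀, h⟩
      have h1 : y₀ ^ (p ^ k) = 1 := by simpa using congrArg Subtype.val hk
      have h2 := orderOf_dvd_of_pow_eq_one h1
      rw [hy₀o] at h2
      exact htp ((Nat.prime_dvd_prime_iff_eq ht hp).1 (ht.dvd_of_dvd_pow h2))
    have hcop : Nat.Coprime p t := (Nat.coprime_primes hp ht).2 (Ne.symm htp)
    rcases H.cs_of_coprime hy₀1 (H.order_coprime_of_mem_cz ha hy₀a) with hy₀i | hy₀j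
    · exact hne (hun hy₀i hy₀K hy₀a hy₀g)
    · have h2 : cz y₀ ≤ cz (g * a * g⁻¹) := H.m3' hy₀j (H.ne_one_i (hconj g))
        (mem_cent.1 hy₀g).symm (by
          rw [hy₀o]
          exact Nat.Coprime.coprime_dvd_left (hconjo g) (Nat.Coprime.pow_left n hcop))
      have h3 : a ∈ cz y₀ := mem_cent.2 (mem_cent.1 hy₀a).symm
      exact hne (hself g (h2 h3))
  -- D2
  obtain ⟨g, hgA, w, hwa, hwg, hwK⟩ : ∃ g : G, g ∉ cz a ∧ ∃ w : G, w ∈ cz a ∧
      w ∈ cz (g * a * g⁻¹) ∧ w ∉ KK G ni := by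
    by_contra hcon
    push Not at hcon
    exact hnn (H.lemmaFr ha (fun g hg x hx hxg => hcon g hg x hx hxg))
  have hne : g * a * g⁻¹ ≠ a := by
    intro h
    apply hgA
    rw [mem_cent]
    calc g * a = (g * a * g⁻¹) * g := by group
      _ = a * g := by rw [h]
  have hw1 : w ≠ 1 := by
    rintro rfl
    exact hwK (one_mem _)
  have hwj : cs w = nj := by
    rcases H.cs_of_coprime hw1 (H.order_coprime_of_mem_cz ha hwa) with h | h
    · exact absurd (hun h hwK hwa hwg) hne
    · exact h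
  -- D3
  have hD3 : ∀ r : ℕ, r.Prime → r ∣ Nat.card (cz w) → r = p := by
    intro r hr hrd
    by_contra hrp
    haveI : Fact r.Prime := ⟨hr⟩
    obtain ⟨v', hv'⟩ := exists_prime_orderOf_dvd_card' (G := cz w) r hrd
    have hvo : orderOf (v' : G) = r := by rw [Subgroup.orderOf_coe, hv']
    have hv1 : (v' : G) ≠ 1 := by
      intro h
      rw [h, orderOf_one] at hvo
      exact hr.one_lt.ne hvo
    have hle : cz w ≤ cz (v' : G) := H.m3' hwj hv1 (mem_cent.1 v'.2) (by
      rw [hvo, Nat.Prime.coprime_iff_not_dvd hr]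
      intro hrw
      exact hrp (hD1 w g hwa hwg hne r hr hrw))
    have h1 : a ∈ cz (v' : G) := hle (mem_cent.2 (mem_cent.1 hwa).symm)
    have h2 : g * a * g⁻¹ ∈ cz (v' : G) := hle (mem_cent.2 (mem_cent.1 hwg).symm)
    have h3 : (v' : G) ∈ cz a := mem_cent.2 (mem_cent.1 h1).symm
    have h4 : (v' : G) ∈ cz (g * a * g⁻¹) := mem_cent.2 (mem_cent.1 h2).symm
    exact hrp (hD1 _ g h3 h4 hne r hr (by rw [hvo]))
  -- D4
  have hRcz : ∀ y ∈ (R : Subgroup G), y ≠ 1 → cz y = cz a := by
    intro y hyR hy1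
    obtain ⟨k, hk⟩ := (IsPGroup.iff_orderOf.1 R.isPGroup') ⟨y, hyR⟩
    have hord : orderOf y = s ^ k := by
      rw [← hk, Subgroup.orderOf_mk]
    have hk0 : k ≠ 0 := by
      rintro rfl
      rw [pow_zero, orderOf_eq_one_iff] at hord
      exact hy1 hord
    have hsd : s ∣ orderOf y := by
      rw [hord]
      exact dvd_pow_self s hk0
    have hya : y ∈ cz a := hR hyR
    have hi : ∀ g : G, y ∈ cz (g * a * g⁻¹) → g * a * g⁻¹ = a := by
      intro g hyg
      by_contra hne
      exact hsp (hD1 y g hya hyg hne s hs.out hsd)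
    have hle : cz y ≤ cz a := by
      intro z hz
      have h1 : y ∈ cz (z * a * z⁻¹) := by
        rw [mem_cz_conj]
        have : z⁻¹ * y * z = y := by
          have := mem_cent.1 hz
          calc z⁻¹ * y * z = z⁻¹ * (y * z) := by group
            _ = z⁻¹ * (z * y) := by rw [this]
            _ = y := by group
        rw [this]
        exact hya
      have h2 := hi z h1
      rw [mem_cent]
      calc z * a = (z * a * z⁻¹) * z := by group
        _ = a * z := by rw [h2]
    have hyi : cs y = ni := by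
      rcases H.cs_of_coprime hy1 (H.order_coprime_of_mem_cz ha hya) with h | h
      · exact h
      · exfalso
        have h1 : Nat.card (cz y) = Nat.card (cz w) := by
          have e1 := csm y
          have e2 := csm w
          rw [h] at e1
          rw [hwj, ← e1] at e2
          have hpos : 0 < nj := Nat.pos_of_ne_zero (by rw [← h]; exact index_ne_zero_of_finite)
          exact (Nat.eq_of_mul_eq_mul_left hpos e2).symm
        have h2 : s ∣ Nat.card (cz w) := by
          rw [← h1]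
          refine hsd.trans ?_
          exact Subgroup.orderOf_dvd_natCard _ (mem_cent.2 rfl)
        exact hsp (hD3 s hs.out h2)
    exact eq_of_le_of_cs hle (by rw [hyi, ha])
  -- D5
  have hRbot : (R : Subgroup G) ≠ ⊥ := R.ne_bot_of_dvd_card hsG
  intro g hg
  obtain ⟨y, hyR, hy1⟩ := (Subgroup.bot_or_exists_ne_one (R : Subgroup G)).resolve_left hRbot
  have hgy : g * y * g⁻¹ ∈ (R : Subgroup G) := (Subgroup.mem_normalizer_iff.1 hg y).1 hyR
  have hgy1 : g * y * g⁻¹ ≠ 1 := by
    intro h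
    apply hy1
    have : y = g⁻¹ * (g * y * g⁻¹) * g := by group
    rw [this, h]
    group
  have h1 : cz (g * y * g⁻¹) = cz a := hRcz _ hgy hgy1
  have h2 : a ∈ cz (g * y * g⁻¹) := by
    rw [h1]
    exact mem_cent.2 rfl
  have h3 : g⁻¹ * a * g ∈ cz y := mem_cz_conj.1 h2
  rw [hRcz y hyR hy1] at h3
  have h4 : a ∈ cz (g⁻¹ * a * g⁻¹⁻¹) := by
    rw [inv_inv]
    exact mem_cent.2 (mem_cent.1 h3).symm
  have h5 := hself _ h4
  have h6 : g ∈ cz a := by
    rw [mem_cent]
    rw [inv_inv] at h5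
    calc g * a = g * (g⁻¹ * a * g) := by rw [h5]
      _ = a * g := by group
  rw [mem_centralizer_iff]
  intro u hu
  by_cases hu1 : u = 1
  · subst hu1
    simp
  · have h7 : g ∈ cz u := by
      rw [hRcz u hu hu1]
      exact h6
    exact (mem_cent.1 h7).symm

/-- **The final step**: normal complements for all primes but one give solvability. -/
theorem finalKW {p : ℕ} (hp : p.Prime)
    (hS : ∀ s : ℕ, s.Prime → s ≠ p → s ∣ nk → ∃ (_ : Fact s.Prime) (R : Sylow s G),
      normalizer ((R : Subgroup G) : Set G) ≤ centralizer ((R : Subgroup G) : Set G)) :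
    Group.IsSolvable G := by
  classical
  haveI : Fact p.Prime := ⟨hp⟩
  have hS' : ∀ s : ℕ, s.Prime → s ≠ p → s ∣ nk →
      ∃ N : Subgroup G, N.Normal ∧ ¬ s ∣ Nat.card N ∧ ∃ k : ℕ, N.index = s ^ k := by
    intro s hs hsp hsk
    obtain ⟨hf, R, hN⟩ := hS s hs hsp hsk
    have hcompl := MonoidHom.ker_transferSylow_isComplement' R hN
    refine ⟨(MonoidHom.transferSylow R hN).ker, inferInstance, ?_, ?_⟩
    · rw [← hcompl.index_eq_card]
      exact R.not_dvd_index
    · have hc2 := hcompl.symm.index_eq_card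
      obtain ⟨k, hk⟩ := IsPGroup.iff_card.1 R.isPGroup'
      exact ⟨k, by rw [hc2, hk]⟩
  choose! N hNn hNs hNp using hS'
  set S : Finset ℕ := nk.primeFactors.erase p with hSdef
  have hmemS : ∀ s ∈ S, s.Prime ∧ s ≠ p ∧ s ∣ nk := by
    intro s hs
    rw [hSdef, Finset.mem_erase, Nat.mem_primeFactors] at hs
    exact ⟨hs.2.1, hs.1, hs.2.2.1⟩
  set O : Subgroup G := ⨅ s ∈ S, N s with hO
  have hmemO : ∀ x : G, x ∈ O ↔ ∀ s ∈ S, x ∈ N s := by
    intro x
    simp only [hO, Subgroup.mem_iInf]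
  haveI hOn : O.Normal := by
    constructor
    intro x hx g
    rw [hmemO] at hx ⊢
    intro s hs
    obtain ⟨h1, h2, h3⟩ := hmemS s hs
    haveI := hNn s h1 h2 h3
    exact (hNn s h1 h2 h3).conj_mem x (hx s hs) g
  -- `G / O` is solvable
  have hder : ∀ s ∈ S, ∃ m : ℕ, derivedSeries G m ≤ N s := by
    intro s hs
    obtain ⟨h1, h2, h3⟩ := hmemS s hs
    haveI : Fact s.Prime := ⟨h1⟩
    haveI := hNn s h1 h2 h3
    haveI : Finite (G ⧸ N s) := inferInstance
    obtain ⟨k, hk⟩ := hNp s h1 h2 h3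
    have hpg : IsPGroup s (G ⧸ N s) := IsPGroup.of_card (n := k) (by
      rw [← Subgroup.index_eq_card, hk])
    haveI : Group.IsNilpotent (G ⧸ N s) := hpg.isNilpotent
    haveI : Group.IsSolvable (G ⧸ N s) := inferInstance
    obtain ⟨m, hm⟩ := (Group.isSolvable_def (G ⧸ N s)).1 inferInstance
    refine ⟨m, ?_⟩
    have h4 := map_derivedSeries_eq (QuotientGroup.mk'_surjective (N s)) m
    rw [hm, Subgroup.map_eq_bot_iff, QuotientGroup.ker_mk'] at h4
    exact h4
  choose! m hm using hder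
  have hGO : Group.IsSolvable (G ⧸ O) := by
    rw [Group.isSolvable_def]
    refine ⟨S.sup m, ?_⟩
    rw [← map_derivedSeries_eq (QuotientGroup.mk'_surjective O) (S.sup m),
      Subgroup.map_eq_bot_iff, QuotientGroup.ker_mk']
    intro x hx
    rw [hmemO]
    intro s hs
    have hanti : derivedSeries G (S.sup m) ≤ derivedSeries G (m s) :=
      derivedSeries_antitone G (Finset.le_sup hs)
    exact hm s hs (hanti hx)
  -- `B ≤ O`
  have hni : Nat.Coprime ni nk := H.coprime_ik
  have hBO : B ≤ O := by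
    intro u hu
    rw [hmemO]
    intro s hs
    obtain ⟨h1, h2, h3⟩ := hmemS s hs
    haveI : Fact s.Prime := ⟨h1⟩
    haveI := hNn s h1 h2 h3
    obtain ⟨k₀, hk₀⟩ := hNp s h1 h2 h3
    have hpg : IsPGroup s (G ⧸ N s) := IsPGroup.of_card (n := k₀) (by
      rw [← Subgroup.index_eq_card, hk₀])
    obtain ⟨k, hk⟩ := hpg ((u : G) : G ⧸ N s)
    have hun : u ^ ni = 1 := by
      rw [← H.bc]
      have := pow_card_eq_one' (x := (⟨u, hu⟩ : B))
      exact congrArg Subtype.val this
    have h4 : ((u : G) : G ⧸ N s) ^ ni = 1 := by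
      rw [← QuotientGroup.mk_pow, hun]
      rfl
    have hsi : ¬ s ∣ ni := fun h => (Nat.Prime.not_coprime_iff_dvd.2 ⟨s, h1, h, h3⟩) hni
    have h5 : orderOf ((u : G) : G ⧸ N s) = 1 :=
      Nat.eq_one_of_dvd_coprimes (Nat.Coprime.pow_left k
        ((Nat.Prime.coprime_iff_not_dvd h1).2 hsi))
        (orderOf_dvd_of_pow_eq_one hk) (orderOf_dvd_of_pow_eq_one h4)
    rw [orderOf_eq_one_iff] at h5
    exact (QuotientGroup.eq_one_iff u).1 h5
  -- `O` has a factorization
  have hOs : ∀ t : ℕ, t.Prime → t ∣ Nat.card O → t ∣ nk → t = p := by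
    intro t ht htO htk
    by_contra htp
    have hmem : t ∈ S := by
      rw [hSdef, Finset.mem_erase, Nat.mem_primeFactors]
      exact ⟨htp, ht, htk, H.nk_pos.ne'⟩
    apply hNs t ht htp htk
    refine htO.trans (Subgroup.card_dvd_of_le ?_)
    intro x hx
    exact (hmemO x).1 hx t hmem
  set B' : Subgroup O := B.subgroupOf O with hB'
  have hB'c : Nat.card B' = ni := by
    rw [← H.bc]
    exact Nat.card_congr (Subgroup.subgroupOfEquivOfLe hBO).toEquiv
  let P : Sylow p O := default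
  have hidx : ∃ c : ℕ, B'.index = p ^ c := by
    refine ⟨_, Nat.eq_prime_pow_of_unique_prime_dvd (index_ne_zero_of_finite) (fun {t} ht htd => ?_)⟩
    have h1 : B'.index * ni = Nat.card O := by
      rw [← hB'c, mul_comm]
      exact B'.card_mul_index
    have h2 : Nat.card O ∣ ni * nk := by
      rw [← H.card_G]
      exact Subgroup.card_subgroup_dvd_card O
    have h3 : B'.index ∣ nk := by
      have h4 : B'.index * ni ∣ ni * nk := by rw [h1]; exact h2
      rw [mul_comm] at h4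
      exact Nat.dvd_of_mul_dvd_mul_left H.ni_pos h4
    refine hOs t ht ?_ (htd.trans h3)
    rw [← h1]
    exact Dvd.dvd.mul_right htd _
  obtain ⟨c, hc⟩ := hidx
  have hcop : Nat.Coprime B'.index (P : Subgroup O).index := by
    rw [hc]
    refine Nat.Coprime.pow_left c ?_
    exact (Nat.Prime.coprime_iff_not_dvd hp).2 P.not_dvd_index
  have hfac : ∀ g : O, ∃ a ∈ B', ∃ b ∈ (P : Subgroup O), g = a * b :=
    exists_mul_of_coprime _ _ hcop
  have hB'nil : Group.IsNilpotent B' := by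
    have hc' : ∀ x y : B', x * y = y * x := by
      intro x y
      apply Subtype.ext
      apply Subtype.ext
      exact H.comm_B (mem_subgroupOf.1 x.2) (mem_subgroupOf.1 y.2)
    letI : CommGroup B' := { (inferInstance : Group B') with mul_comm := hc' }
    infer_instance
  have hPnil : Group.IsNilpotent (P : Subgroup O) := P.isPGroup'.isNilpotent
  have hOsol : Group.IsSolvable O :=
    KegelWielandt.solvable_main _ O B' (P : Subgroup O) rfl hB'nil hPnil hfac
  exact solvable_of_normal_quot O hOsol hGO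

end HB

end Cfsg.Agent.Lib.ItoGen
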