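import Mathlib
import Cfsg.Agent.Lib.ItoGen6
import Cfsg.Agent.Lib.ZStruct

/-!
# Three class sizes in a chain: the case where `BK` is normal
-/

set_option autoImplicit false
set_option linter.unusedSectionVars false
set_option linter.style.haveILetI false

namespace Cfsg.Agent.Lib.ItoGen

open Subgroup Cfsg Cfsg.Agent.Lib Cfsg.Agent.Lib.CoprimeClass Cfsg.Agent.Lib.ItoChain
open Cfsg.Agent.S3378 (X Y Z)
open scoped Pointwise

universe u

variable {G : Type u} [Group G] [Finite G] {ni nj nk : ℕ}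

theorem gamma_facts : X ^ 3 = 1 ∧ X ≠ 1 ∧ Y ≠ 1 ∧ Z ^ 2 = 1 ∧ Z ≠ 1 ∧ X * Y ≠ Y * X ∧ X * Z = Z * X ∧
    Y * Z = Z * Y ∧ ∀ s : ZStruct.Γ, s ^ 3 = 1 → s * Y = Y * s → s = 1 := by
  decide +kernel

/-- Elements of order dividing three in the structure from the non-solvable case lie in `S`. -/
theorem mem_S_of_cube {F : Type*} [Group F] [Finite F] {G₀ S M : Subgroup F} [hG₀ : G₀.Normal]
    (hidx : G₀.index = 1 ∨ G₀.index = 2) (hsup : S ⊔ M = G₀) (hinf : S ⊓ M = ⊥)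
    (hcomm : ∀ s ∈ S, ∀ x ∈ M, s * x = x * s) (hcop : (Nat.card M).Coprime 30) {f : F}
    (hf : f ^ 3 = 1) : f ∈ S := by
  have hq3 : (f : F ⧸ G₀) ^ 3 = 1 := by
    rw [← QuotientGroup.mk_pow, hf]
    rfl
  have hqi : (f : F ⧸ G₀) ^ G₀.index = 1 := by
    rw [Subgroup.index_eq_card]
    exact pow_card_eq_one'
  have hfG : f ∈ G₀ := by
    rw [← QuotientGroup.eq_one_iff]
    have h1 : orderOf (f : F ⧸ G₀) ∣ 3 := orderOf_dvd_of_pow_eq_one hq3
    have h2 : orderOf (f : F ⧸ G₀) ∣ G₀.index := orderOf_dvd_of_pow_eq_one hqi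
    have h3 : Nat.Coprime 3 G₀.index := by
      rcases hidx with h | h <;> rw [h] <;> norm_num
    exact orderOf_eq_one_iff.1 (Nat.eq_one_of_dvd_coprimes h3 h1 h2)
  -- decomposition
  let T : Subgroup F :=
    { carrier := {x | ∃ s ∈ S, ∃ m ∈ M, x = s * m}
      mul_mem' := by
        rintro _ _ ⟨s, hs, m, hm, rfl⟩ ⟨s', hs', m', hm', rfl⟩
        refine ⟨s * s', mul_mem hs hs', m * m', mul_mem hm hm', ?_⟩
        have := hcomm s' hs' m hm
        calc s * m * (s' * m') = s * (m * s') * m' := by group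
          _ = s * (s' * m) * m' := by rw [this]
          _ = _ := by group
      one_mem' := ⟨1, one_mem _, 1, one_mem _, by simp⟩
      inv_mem' := by
        rintro _ ⟨s, hs, m, hm, rfl⟩
        refine ⟨s⁻¹, inv_mem hs, m⁻¹, inv_mem hm, ?_⟩
        rw [mul_inv_rev]
        have := hcomm s⁻¹ (inv_mem hs) m⁻¹ (inv_mem hm)
        exact this.symm }
  have hle : S ⊔ M ≤ T := by
    rw [sup_le_iff]
    constructor
    · intro s hs
      exact ⟨s, hs, 1, one_mem _, by simp⟩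
    · intro m hm
      exact ⟨1, one_mem _, m, hm, by simp⟩
  rw [← hsup] at hfG
  obtain ⟨s, hs, m, hm, rfl⟩ := hle hfG
  have hc : Commute s m := hcomm s hs m hm
  rw [hc.mul_pow] at hf
  have h1 : s ^ 3 = (m ^ 3)⁻¹ := eq_inv_of_mul_eq_one_left hf
  have h2 : s ^ 3 ∈ S ⊓ M := mem_inf.2 ⟨pow_mem hs 3, by
    rw [h1]
    exact inv_mem (pow_mem hm 3)⟩
  rw [hinf, mem_bot] at h2
  have h3 : m ^ 3 = 1 := by
    rw [h2, one_mul] at hf
    exact hf
  have h4 : orderOf m ∣ 3 := orderOf_dvd_of_pow_eq_one h3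
  have h5 : orderOf m ∣ Nat.card M := Subgroup.orderOf_dvd_natCard _ hm
  have h6 : Nat.Coprime (Nat.card M) 3 := Nat.Coprime.coprime_dvd_right (by norm_num) hcop
  have h7 : m = 1 := orderOf_eq_one_iff.1 (Nat.eq_one_of_dvd_coprimes h6 h5 h4)
  rw [h7, mul_one]
  exact hs

/-- The product `A ⊔ N` is solvable when `A` is commutative and `N` is normal and solvable. -/
theorem solvable_sup (A N : Subgroup G) [hN : N.Normal] (hNs : Group.IsSolvable N)
    (hA : ∀ x ∈ A, ∀ y ∈ A, x * y = y * x) : Group.IsSolvable (A ⊔ N : Subgroup G) := by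
  set S : Subgroup G := A ⊔ N with hS
  have hNS : N ≤ S := le_sup_right
  have hAS : A ≤ S := le_sup_left
  haveI hn : (N.subgroupOf S).Normal := Subgroup.normal_subgroupOf
  have hs' : Group.IsSolvable (N.subgroupOf S) := by
    have e := (Subgroup.subgroupOfEquivOfLe hNS)
    exact Group.isSolvable_of_isSolvable_injective (f := e.toMonoidHom) e.injective
  refine solvable_of_cover (N.subgroupOf S) (A.subgroupOf S) hs' ?_ ?_
  · intro x hx y hy
    apply Subtype.ext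
    exact hA _ (mem_subgroupOf.1 hx) _ (mem_subgroupOf.1 hy)
  · intro g
    have hm : (g : G) ∈ ((A : Set G) * (N : Set G)) := by
      rw [← Subgroup.mul_normal]
      exact g.2
    obtain ⟨a, ha, n, hn, hg⟩ := Set.mem_mul.1 hm
    refine ⟨⟨a, hAS ha⟩, mem_subgroupOf.2 ha, ⟨n, hNS hn⟩, mem_subgroupOf.2 hn, ?_⟩
    apply Subtype.ext
    exact hg.symm

namespace HB

variable {B : Subgroup G} (H : HB G ni nj nk B)
include H

theorem B_ne_bot : B ≠ ⊥ := by
  rintro rfl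
  have := H.bc
  rw [Subgroup.card_bot] at this
  exact H.ni_ne_one this.symm

theorem eq_one_of_nz_KK {x : G} (hxN : x ∈ normalizer (B : Set G)) (hxK : x ∈ KK G ni) : x = 1 := by
  obtain ⟨u, hu, hu1⟩ := (Subgroup.bot_or_exists_ne_one B).resolve_left H.B_ne_bot
  have h1 : x⁻¹ * u⁻¹ * x⁻¹⁻¹ ∈ B := (mem_normalizer_iff.1 (inv_mem hxN) _).1 (inv_mem hu)
  rw [inv_inv] at h1
  have h2 : x⁻¹ * u⁻¹ * x * u ∈ B := mul_mem h1 hu
  have h3 : x⁻¹ * u⁻¹ * x * u ∈ KK G ni := by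
    have h4 := (KK_normal ni).conj_mem _ hxK u⁻¹
    rw [inv_inv] at h4
    have h5 := mul_mem (inv_mem hxK) h4
    have e : x⁻¹ * (u⁻¹ * x * u) = x⁻¹ * u⁻¹ * x * u := by group
    rwa [e] at h5
  have h6 := H.eq_one_of_KK_B h3 h2
  have h7 : x ∈ cz u := by
    rw [mem_cent]
    have h8 : x⁻¹ * (u⁻¹ * (x * u)) = 1 := by
      rw [← h6]
      group
    have h9 : u⁻¹ * (x * u) = x := by
      rw [inv_mul_eq_one] at h8
      exact h8.symm
    have h10 : x * u = u * x := by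
      rw [inv_mul_eq_iff_eq_mul] at h9
      exact h9
    exact h10
  rw [H.cz_eq hu hu1] at h7
  exact H.eq_one_of_KK_B hxK h7

theorem cz_le_of_mem_F {a x : G} (ha : cs a = ni) (hxN : x ∈ normalizer (B : Set G)) (hxa : x ∈ cz a)
    (hx1 : x ≠ 1) : cz x ≤ cz a := by
  intro g hg
  obtain ⟨b, hb, c, hc, rfl⟩ := H.exists_mul ha g
  have hcomm := mem_cent.1 hg
  -- `b⁻¹ x b = c x c⁻¹`
  have h1 : b⁻¹ * x * b = c * x * c⁻¹ := by
    have h2 : b * c * x = x * (b * c) := hcomm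
    calc b⁻¹ * x * b = b⁻¹ * (x * (b * c)) * c⁻¹ := by group
      _ = b⁻¹ * (b * c * x) * c⁻¹ := by rw [h2]
      _ = c * x * c⁻¹ := by group
  have h3 : b⁻¹ * x * b ∈ cz a := by
    rw [h1]
    exact mul_mem (mul_mem hc hxa) (inv_mem hc)
  have h4 : x⁻¹ * (b⁻¹ * x * b) ∈ cz a := mul_mem (inv_mem hxa) h3
  have h5 : x⁻¹ * b⁻¹ * x⁻¹⁻¹ ∈ B := (mem_normalizer_iff.1 (inv_mem hxN) _).1 (inv_mem hb)
  rw [inv_inv] at h5
  have h6 : x⁻¹ * b⁻¹ * x * b ∈ B := mul_mem h5 hb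
  have e : x⁻¹ * (b⁻¹ * x * b) = x⁻¹ * b⁻¹ * x * b := by group
  rw [e] at h4
  have h7 := H.eq_one_of_mem_cz ha h4 h6
  have h8 : x ∈ cz b := by
    rw [mem_cent]
    have h9 : x⁻¹ * (b⁻¹ * (x * b)) = 1 := by
      rw [← h7]
      group
    have h10 : b⁻¹ * (x * b) = x := by
      rw [inv_mul_eq_one] at h9
      exact h9.symm
    rw [inv_mul_eq_iff_eq_mul] at h10
    exact h10
  by_cases hb1 : b = 1
  · rw [hb1, one_mul]
    exact hc
  · exfalso
    rw [H.cz_eq hb hb1] at h8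
    exact hx1 (H.eq_one_of_mem_cz ha hxa h8)

theorem cover_F (hn : (B ⊔ KK G ni).Normal) {a : G} (ha : cs a = ni) (g : G) :
    ∃ k ∈ KK G ni, ∃ b ∈ B, ∃ c ∈ normalizer (B : Set G) ⊓ cz a, g = k * b * c := by
  obtain ⟨k, hk, hkg⟩ := H.forall_of_normal hn g
  obtain ⟨b, hb, c, hc, hbc⟩ := H.exists_mul ha (k * g)
  refine ⟨k⁻¹, inv_mem hk, b, hb, c, mem_inf.2 ⟨?_, hc⟩, ?_⟩
  · have : c = b⁻¹ * (k * g) := by rw [hbc]; group
    rw [this]
    exact mul_mem (inv_mem (le_normalizer hb)) hkg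
  · calc g = k⁻¹ * (k * g) := by group
      _ = k⁻¹ * (b * c) := by rw [hbc]
      _ = _ := by group

theorem solvable_of_F_solvable (hn : (B ⊔ KK G ni).Normal) {a : G} (ha : cs a = ni)
    (hF : Group.IsSolvable (normalizer (B : Set G) ⊓ cz a : Subgroup G)) : Group.IsSolvable G := by
  haveI := hn
  haveI : (KK G ni).Normal := KK_normal ni
  refine solvable_of_normal_quot (B ⊔ KK G ni)
    (solvable_sup B (KK G ni) H.solvable_KK (fun x hx y hy => H.comm_B hx hy)) ?_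
  set F : Subgroup G := normalizer (B : Set G) ⊓ cz a with hFdef
  let f : F →* G ⧸ (B ⊔ KK G ni) := (QuotientGroup.mk' (B ⊔ KK G ni)).comp F.subtype
  have hf : Function.Surjective f := by
    intro q
    obtain ⟨g, rfl⟩ := QuotientGroup.mk_surjective q
    obtain ⟨k, hk, b, hb, c, hc, rfl⟩ := H.cover_F hn ha g
    refine ⟨⟨c, hc⟩, ?_⟩
    show ((c : G) : G ⧸ (B ⊔ KK G ni)) = _
    rw [QuotientGroup.eq]
    have h1 : c⁻¹ * (k * b * c) = c⁻¹ * (k * b) * c⁻¹⁻¹ := by group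
    rw [h1]
    refine hn.conj_mem _ ?_ _
    exact mul_mem ((le_sup_right : KK G ni ≤ _) hk) ((le_sup_left : B ≤ _) hb)
  exact Group.isSolvable_of_surjective hf

/-- **Theorem A**: if `BK` is normal, then `G` is solvable. -/
theorem thmA (hn : (B ⊔ KK G ni).Normal) : Group.IsSolvable G := by
  classical
  obtain ⟨a, ha⟩ := H.exists_i
  by_cases hF : Group.IsSolvable (normalizer (B : Set G) ⊓ cz a : Subgroup G)
  · exact H.solvable_of_F_solvable hn ha hF
  exfalso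
  set F : Subgroup G := normalizer (B : Set G) ⊓ cz a with hFdef
  have hFB : F ≤ normalizer (B : Set G) := inf_le_left
  letI cg : CommGroup B := { (inferInstance : Group B) with mul_comm := H.cb.comm }
  haveI : Nontrivial B := (Subgroup.nontrivial_iff_ne_bot B).2 H.B_ne_bot
  have hfpf : FpfNorm.IsFpf (FpfNorm.conjHom F B hFB) := by
    refine FpfNorm.conjHom_fpf F B hFB ?_
    intro f hf hf1
    rw [eq_bot_iff]
    intro v hv
    obtain ⟨hv1, hv2⟩ := mem_inf.1 hv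
    rw [mem_bot]
    by_contra hv0
    have h1 : f ∈ cz v := mem_cent.2 (mem_cent.1 hv2).symm
    rw [H.cz_eq hv1 hv0] at h1
    exact hf1 (H.eq_one_of_mem_cz ha (mem_inf.1 hf).2 h1)
  obtain ⟨G₀, hG₀n, hidx, S, M, hsup, hinf, hcomm, ⟨e⟩, -, hcop⟩ :=
    ZStruct.nonsolv_struct (G := F) (V := B) (φ := FpfNorm.conjHom F B hFB) hF hfpf
  haveI := hG₀n
  let ι : ZStruct.Γ →* G := F.subtype.comp (S.subtype.comp e.symm.toMonoidHom)
  have hιinj : Function.Injective ι := by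
    intro u v huv
    apply e.symm.injective
    apply Subtype.ext
    apply Subtype.ext
    exact huv
  have hιF : ∀ g : ZStruct.Γ, ι g ∈ F := fun g => (e.symm g : S).1.2
  have hιne : ∀ g : ZStruct.Γ, g ≠ 1 → ι g ≠ 1 := by
    intro g hg h0
    exact hg (hιinj (h0.trans (map_one ι).symm))
  have hιcomm : ∀ u v : ZStruct.Γ, ι u * ι v = ι v * ι u → u * v = v * u := by
    intro u v h0
    apply hιinj
    rw [map_mul, map_mul, h0]
  have hmemC : ∀ g : ZStruct.Γ, ι g ∈ cz a := fun g => (mem_inf.1 (hιF g)).2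
  have hmemN : ∀ g : ZStruct.Γ, ι g ∈ normalizer (B : Set G) := fun g => (mem_inf.1 (hιF g)).1
  have hle : ∀ g : ZStruct.Γ, g ≠ 1 → cz (ι g) ≤ cz a := fun g hg =>
    H.cz_le_of_mem_F ha (hmemN g) (hmemC g) (hιne g hg)
  obtain ⟨hX3, hX1, hY1, hZ2, hZ1, hXY, hXZ, hYZ, hnoY⟩ := gamma_facts
  have hj : ∀ u v : ZStruct.Γ, u ≠ 1 → u * v ≠ v * u → cs (ι u) = nj := by
    intro u v hu huv
    rcases H.cs_of_coprime (hιne u hu) (H.order_coprime_of_mem_cz ha (hmemC u)) with h | h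
    · exfalso
      have h1 : cz (ι u) = cz a := eq_of_le_of_cs (hle u hu) (by rw [h, ha])
      have h2 : ι v ∈ cz (ι u) := by
        rw [h1]
        exact hmemC v
      exact huv (hιcomm u v (mem_cent.1 h2).symm)
    · exact h
  have hx3j : cs (ι X) = nj := hj X Y hX1 hXY
  have hx5j : cs (ι Y) = nj := hj Y X hY1 (fun h => hXY h.symm)
  haveI : Fact (Nat.Prime 3) := ⟨by norm_num⟩
  haveI : Fact (Nat.Prime 2) := ⟨Nat.prime_two⟩
  have hx3o : orderOf (ι X) = 3 := orderOf_eq_prime (by rw [← map_pow, hX3, map_one]) (hιne X hX1)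
  have hτo : orderOf (ι Z) = 2 := orderOf_eq_prime (by rw [← map_pow, hZ2, map_one]) (hιne Z hZ1)
  have hτi : cs (ι Z) = ni := by
    rcases H.cs_of_coprime (hιne Z hZ1) (H.order_coprime_of_mem_cz ha (hmemC Z)) with h | h
    · exact h
    · exfalso
      have h1 : cz (ι Z) ≤ cz (ι X) := H.m3' h (hιne X hX1) (by rw [← map_mul, hXZ, map_mul]) (by
        rw [hx3o, hτo]
        norm_num)
      have h2 : ι Y ∈ cz (ι Z) := by
        rw [mem_cent, ← map_mul, hYZ, map_mul]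
      have h3 := mem_cent.1 (h1 h2)
      exact hXY (hιcomm X Y h3.symm)
  have hτK : ι Z ∉ KK G ni := fun h => hιne Z hZ1 (H.eq_one_of_nz_KK (hmemN Z) h)
  have hK2 : IsPGroup 2 (KK G ni) := H.KK_isPGroup (p := 2) (n := 1) Nat.prime_two hτi
    (by rw [pow_one, ← map_pow, hZ2, map_one]) hτK
  -- an element of order three centralizing `ι Y`
  have hcard : Nat.card (cz (ι X)) = Nat.card (cz (ι Y)) := by
    have e1 := csm (ι X)
    have e2 := csm (ι Y)
    rw [hx3j] at e1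
    rw [hx5j, ← e1] at e2
    have hpos : 0 < nj := Nat.pos_of_ne_zero (by rw [← hx3j]; exact index_ne_zero_of_finite)
    exact (Nat.eq_of_mul_eq_mul_left hpos e2).symm
  have h3d : 3 ∣ Nat.card (cz (ι Y)) := by
    rw [← hcard, ← hx3o]
    exact Subgroup.orderOf_dvd_natCard _ (mem_cent.2 rfl)
  obtain ⟨h', hh'⟩ := exists_prime_orderOf_dvd_card' (G := cz (ι Y)) 3 h3d
  set h : G := (h' : G) with hh_def
  have hho : orderOf h = 3 := by rw [hh_def, Subgroup.orderOf_coe, hh']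
  have hhY : h * ι Y = ι Y * h := mem_cent.1 h'.2
  have hha : h ∈ cz a := hle Y hY1 h'.2
  obtain ⟨k, hk, b, hb, c, hc, hg⟩ := H.cover_F hn ha h
  have hcC : c ∈ cz a := (mem_inf.1 hc).2
  have hcN : c ∈ normalizer (B : Set G) := (mem_inf.1 hc).1
  have hb1 : b = 1 := by
    refine H.eq_one_of_mem_cz ha ?_ hb
    have e1 : b = k⁻¹ * h * c⁻¹ := by rw [hg]; group
    rw [e1]
    exact mul_mem (mul_mem (inv_mem (KK_le ha hk)) hha) (inv_mem hcC)
  rw [hb1, mul_one] at hg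
  haveI : (KK G ni).Normal := KK_normal ni
  have hmk : ((c : G) : G ⧸ KK G ni) = ((h : G) : G ⧸ KK G ni) := by
    rw [hg, QuotientGroup.mk_mul, (QuotientGroup.eq_one_iff k).2 hk, one_mul]
  have hc3 : c ^ 3 = 1 := by
    refine H.eq_one_of_nz_KK (pow_mem hcN 3) ?_
    rw [← QuotientGroup.eq_one_iff, QuotientGroup.mk_pow, hmk, ← QuotientGroup.mk_pow, ← hho,
      pow_orderOf_eq_one]
    rfl
  have hcY : c * ι Y = ι Y * c := by
    have ht : c * ι Y * c⁻¹ * (ι Y)⁻¹ = 1 := by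
      refine H.eq_one_of_nz_KK (mul_mem (mul_mem (mul_mem hcN (hmemN Y)) (inv_mem hcN))
        (inv_mem (hmemN Y))) ?_
      rw [← QuotientGroup.eq_one_iff]
      simp only [QuotientGroup.mk_mul, QuotientGroup.mk_inv]
      rw [hmk, ← QuotientGroup.mk_inv, ← QuotientGroup.mk_inv, ← QuotientGroup.mk_mul,
        ← QuotientGroup.mk_mul, ← QuotientGroup.mk_mul, hhY]
      have : ι Y * h * h⁻¹ * (ι Y)⁻¹ = 1 := by group
      rw [this]
      rfl
    rw [mul_inv_eq_one, mul_inv_eq_iff_eq_mul] at ht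
    exact ht
  -- so `c` lies in `S`
  have hcS : (⟨c, hc⟩ : F) ∈ S := mem_S_of_cube hidx hsup hinf hcomm hcop (by
    apply Subtype.ext
    simpa using hc3)
  set g₀ : ZStruct.Γ := e ⟨⟨c, hc⟩, hcS⟩ with hg₀
  have hιg₀ : ι g₀ = c := by
    show ((e.symm (e ⟨⟨c, hc⟩, hcS⟩) : S) : F).1 = c
    rw [MulEquiv.symm_apply_apply]
  have hg₀3 : g₀ ^ 3 = 1 := by
    apply hιinj
    rw [map_pow, hιg₀, hc3, map_one]
  have hg₀Y : g₀ * Y = Y * g₀ := hιcomm g₀ Y (by rw [hιg₀]; exact hcY)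
  have hg₀1 := hnoY g₀ hg₀3 hg₀Y
  have hc1 : c = 1 := by
    rw [← hιg₀, hg₀1, map_one]
  rw [hc1, mul_one] at hg
  -- `h` lies in the `2`-group `K`
  obtain ⟨n, hn'⟩ := hK2 ⟨k, hk⟩
  have h2 : k ^ (2 ^ n) = 1 := by simpa using congrArg Subtype.val hn'
  have h3 : orderOf h ∣ 2 ^ n := by
    rw [hg]
    exact orderOf_dvd_of_pow_eq_one h2
  rw [hho] at h3
  have h4 := (Nat.prime_dvd_prime_iff_eq (by norm_num : Nat.Prime 3) Nat.prime_two).1
    (Nat.Prime.dvd_of_dvd_pow (by norm_num) h3)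
  omega

end HB

end Cfsg.Agent.Lib.ItoGen
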