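import Mathlib
import Cfsg.Agent.Lib.ItoGen7
import Cfsg.Agent.Lib.BrolineGT

/-!
# Three class sizes in a chain: all type `i` elements in `K`, two primes; counting lemmas
-/

set_option autoImplicit false
set_option linter.unusedSectionVars false
set_option linter.style.haveILetI false

namespace Cfsg.Agent.Lib.ItoGen

open Subgroup Cfsg Cfsg.Agent.Lib Cfsg.Agent.Lib.CoprimeClass Cfsg.Agent.Lib.ItoChain
open scoped Pointwise

universe u

variable {G : Type u} [Group G] [Finite G] {ni nj nk : ℕ}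

theorem cz_conj_congr {x y : G} (h : cz x = cz y) (g : G) : cz (g * x * g⁻¹) = cz (g * y * g⁻¹) := by
  ext z
  rw [mem_cz_conj, mem_cz_conj, h]

/-- The number of elements of a union of conjugates of two subgroups. -/
theorem card_cover (H₁ H₂ : Subgroup G)
    (h : ∀ x : G, x ≠ 1 → (∃ g : G, g * x * g⁻¹ ∈ H₁) ∨ (∃ g : G, g * x * g⁻¹ ∈ H₂)) :
    Nat.card G - 1 ≤ (normalizer (H₁ : Set G)).index * (Nat.card H₁ - 1) +
      (normalizer (H₂ : Set G)).index * (Nat.card H₂ - 1) := by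
  classical
  letI : Fintype G := Fintype.ofFinite G
  have key : ∀ H : Subgroup G, ∃ X : Finset G,
      X.card ≤ (normalizer (H : Set G)).index * (Nat.card H - 1) ∧
      ∀ x : G, x ≠ 1 → (∃ g : G, g * x * g⁻¹ ∈ H) → x ∈ X := by
    intro H
    letI : Fintype H := Fintype.ofFinite H
    letI : Fintype (G ⧸ normalizer (H : Set G)) := Fintype.ofFinite _
    set N := normalizer (H : Set G) with hN
    let T : Finset H := Finset.univ.erase 1
    have hT : T.card = Nat.card H - 1 := by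
      rw [Finset.card_erase_of_mem (Finset.mem_univ _), Finset.card_univ,
        Nat.card_eq_fintype_card]
    let f : (G ⧸ N) × H → G := fun p => (p.1.out) * (p.2 : G) * (p.1.out)⁻¹
    refine ⟨((Finset.univ : Finset (G ⧸ N)) ×ˢ T).image f, ?_, ?_⟩
    · refine Finset.card_image_le.trans ?_
      rw [Finset.card_product, Finset.card_univ, hT, ← Nat.card_eq_fintype_card,
        ← Subgroup.index_eq_card]
    · intro x hx ⟨g, hg⟩
      rw [Finset.mem_image]
      set q : G ⧸ N := ((g⁻¹ : G) : G ⧸ N) with hq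
      have h1 : (q.out)⁻¹ * g⁻¹ ∈ N := by
        rw [← QuotientGroup.eq, QuotientGroup.out_eq']
      have h2 : ((q.out)⁻¹ * g⁻¹) * (g * x * g⁻¹) * ((q.out)⁻¹ * g⁻¹)⁻¹ ∈ H :=
        (mem_normalizer_iff.1 h1 _).1 hg
      have hne : ((q.out)⁻¹ * g⁻¹) * (g * x * g⁻¹) * ((q.out)⁻¹ * g⁻¹)⁻¹ ≠ 1 := by
        intro h0
        apply hx
        have e : ((q.out)⁻¹ * g⁻¹) * (g * x * g⁻¹) * ((q.out)⁻¹ * g⁻¹)⁻¹ =
            (q.out)⁻¹ * x * q.out := by group
        rw [e] at h0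
        have : x = q.out * ((q.out)⁻¹ * x * q.out) * (q.out)⁻¹ := by group
        rw [this, h0]
        group
      refine ⟨(q, ⟨_, h2⟩), ?_, ?_⟩
      · rw [Finset.mem_product]
        refine ⟨Finset.mem_univ _, ?_⟩
        rw [Finset.mem_erase]
        refine ⟨?_, Finset.mem_univ _⟩
        intro h0
        exact hne (congrArg Subtype.val h0)
      · show q.out * (((q.out)⁻¹ * g⁻¹) * (g * x * g⁻¹) * ((q.out)⁻¹ * g⁻¹)⁻¹) * (q.out)⁻¹ = x
        group
  obtain ⟨X₁, hX₁, hx₁⟩ := key H₁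
  obtain ⟨X₂, hX₂, hx₂⟩ := key H₂
  have hsub : Finset.univ.erase (1 : G) ⊆ X₁ ∪ X₂ := by
    intro x hx
    rw [Finset.mem_erase] at hx
    rw [Finset.mem_union]
    rcases h x hx.1 with h1 | h1
    · exact Or.inl (hx₁ x hx.1 h1)
    · exact Or.inr (hx₂ x hx.1 h1)
  have h1 := Finset.card_le_card hsub
  rw [Finset.card_erase_of_mem (Finset.mem_univ _), Finset.card_univ,
    ← Nat.card_eq_fintype_card] at h1
  have h2 := Finset.card_union_le X₁ X₂
  omega

/-- A subgroup which is not self-normalizing has at most half of the group in its conjugates. -/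
theorem two_mul_index_le (H : Subgroup G) (hne : ¬ normalizer (H : Set G) ≤ H) :
    2 * ((normalizer (H : Set G)).index * Nat.card H) ≤ Nat.card G := by
  set N := normalizer (H : Set G) with hN
  have hle : H ≤ N := le_normalizer
  obtain ⟨e, he⟩ := Subgroup.card_dvd_of_le hle
  have hpos : 0 < Nat.card H := Nat.card_pos
  have he1 : e ≠ 1 := by
    rintro rfl
    rw [mul_one] at he
    exact hne (Subgroup.eq_of_le_of_card_ge hle he.le).symm.le
  have he0 : e ≠ 0 := by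
    rintro rfl
    rw [mul_zero] at he
    exact Nat.card_pos.ne' he
  have he2 : 2 ≤ e := by omega
  have h1 : N.index * Nat.card N = Nat.card G := N.index_mul_card
  rw [he] at h1
  calc 2 * (N.index * Nat.card H) = N.index * (Nat.card H * 2) := by ring
    _ ≤ N.index * (Nat.card H * e) := Nat.mul_le_mul_left _ (Nat.mul_le_mul_left _ he2)
    _ = Nat.card G := h1

/-- The numerical contradiction from the union bound. -/
theorem selfnorm_of_cover (H₁ H₂ : Subgroup G)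
    (h : ∀ x : G, x ≠ 1 → (∃ g : G, g * x * g⁻¹ ∈ H₁) ∨ (∃ g : G, g * x * g⁻¹ ∈ H₂))
    (h₂ : ¬ normalizer (H₂ : Set G) ≤ H₂) : normalizer (H₁ : Set G) ≤ H₁ := by
  by_contra h₁
  have e0 := card_cover H₁ H₂ h
  have e1 := two_mul_index_le H₁ h₁
  have e2 := two_mul_index_le H₂ h₂
  set c₁ := (normalizer (H₁ : Set G)).index with hc₁
  set c₂ := (normalizer (H₂ : Set G)).index with hc₂
  have hc₁pos : 0 < c₁ := Nat.pos_of_ne_zero index_ne_zero_of_finite
  have hc₂pos : 0 < c₂ := Nat.pos_of_ne_zero index_ne_zero_of_finite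
  have hh₁ : 0 < Nat.card H₁ := Nat.card_pos
  have hh₂ : 0 < Nat.card H₂ := Nat.card_pos
  obtain ⟨a, ha⟩ : ∃ a, Nat.card H₁ = a + 1 := ⟨Nat.card H₁ - 1, by omega⟩
  obtain ⟨b, hb⟩ : ∃ b, Nat.card H₂ = b + 1 := ⟨Nat.card H₂ - 1, by omega⟩
  rw [ha] at e0 e1
  rw [hb] at e0 e2
  simp only [Nat.add_sub_cancel] at e0
  have hg : 0 < Nat.card G := Nat.card_pos
  have e3 : c₁ * (a + 1) = c₁ * a + c₁ := by ring
  have e4 : c₂ * (b + 1) = c₂ * b + c₂ := by ring
  rw [e3] at e1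
  rw [e4] at e2
  omega

namespace HB

variable {B : Subgroup G} (H : HB G ni nj nk B)
include H

/-- `G` factors as `B` times a nilpotent centralizer. -/
theorem solvable_of_nilpotent_cz {a : G} (ha : cs a = ni) (hn : Group.IsNilpotent (cz a)) :
    Group.IsSolvable G := by
  have hBnil : Group.IsNilpotent B := by
    letI : CommGroup B := { (inferInstance : Group B) with mul_comm := H.cb.comm }
    infer_instance
  exact KegelWielandt.solvable_main _ G B (cz a) rfl hBnil hn (H.exists_mul ha)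

/-- An element of prime order in a nontrivial subgroup. -/
theorem exists_prime_power_mem {b : G} (hb1 : b ≠ 1) :
    ∃ k : ℕ, (orderOf (b ^ k)).Prime := by
  have ho : orderOf b ≠ 1 := fun h1 => hb1 (orderOf_eq_one_iff.1 h1)
  obtain ⟨q, hq, hqd⟩ := Nat.exists_prime_and_dvd ho
  have h1 := exists_pow_prime hqd
  exact ⟨_, by rw [h1]; exact hq⟩

/-- **Case 2α**: type `i` elements of two different prime orders, all lying in `K`. -/
theorem case2a (hall : ∀ w : G, cs w = ni → w ∈ KK G ni) (hnn : ¬ (B ⊔ KK G ni).Normal)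
    {a₁ a₂ : G} (h₁ : cs a₁ = ni) (h₂ : cs a₂ = ni) {p₁ p₂ : ℕ} (hp₁ : p₁.Prime) (hp₂ : p₂.Prime)
    (ho₁ : orderOf a₁ = p₁) (ho₂ : orderOf a₂ = p₂) (hne : p₁ ≠ p₂) : Group.IsSolvable G := by
  classical
  have hcop : Nat.Coprime p₁ p₂ := (Nat.coprime_primes hp₁ hp₂).2 hne
  obtain ⟨g₁, g₂, hz⟩ := H.conj_not_j h₁ h₂
  set b₁ := g₁ * a₁ * g₁⁻¹ with hb₁
  set b₂ := g₂ * a₂ * g₂⁻¹ with hb₂
  have hb₁i : cs b₁ = ni := by rw [hb₁, cs_conj, h₁]
  have hb₂i : cs b₂ = ni := by rw [hb₂, cs_conj, h₂]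
  have hb₁o : orderOf b₁ = p₁ := by rw [hb₁, orderOf_conj, ho₁]
  have hb₂o : orderOf b₂ = p₂ := by rw [hb₂, orderOf_conj, ho₂]
  have hcomm : ∀ {x y : G}, cs x = ni → cs y = ni → x * y = y * x := fun hx hy =>
    mem_KK.1 (hall _ hx) _ hy
  have hc₁₂ : b₁ * b₂ = b₂ * b₁ := hcomm hb₁i hb₂i
  have hco : Nat.Coprime (orderOf b₁) (orderOf b₂) := by rw [hb₁o, hb₂o]; exact hcop
  have hz1 : b₁ * b₂ ≠ 1 := mul_ne_one_of_coprime (H.ne_one_i hb₁i) hc₁₂ hco
  have hzi : cs (b₁ * b₂) = ni := by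
    have hm : b₁ * b₂ ∈ cz b₁ := mul_mem (mem_cent.2 rfl) (mem_cent.2 hc₁₂.symm)
    rcases H.cs_of_coprime hz1 (H.order_coprime_of_mem_cz hb₁i hm) with h | h
    · exact h
    · exact absurd h (hz _ (inf_le_cz_mul _ _))
  have he1 : cz (b₁ * b₂) = cz b₁ := eq_of_le_of_cs (cz_mul_le_left hc₁₂ hco) (by rw [hzi, hb₁i])
  have he2 : cz (b₁ * b₂) = cz b₂ := eq_of_le_of_cs (cz_mul_le_right hc₁₂ hco) (by rw [hzi, hb₂i])
  have hCeq : cz b₁ = cz b₂ := he1.symm.trans he2
  -- intersections of conjugates lie in `K`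
  have hinter : ∀ g : G, cz (g * b₁ * g⁻¹) ≠ cz b₁ → ∀ y : G, y ∈ cz b₁ →
      y ∈ cz (g * b₁ * g⁻¹) → y ∈ KK G ni := by
    intro g hg y hy hyg
    by_contra hyK
    obtain ⟨e, r, i, hr, hri, hyeK⟩ := exists_primary_pow_not_mem (KK G ni) y hyK
    set y₀ := y ^ e with hy₀
    have hy₀1 : y₀ ≠ 1 := by
      intro h0
      rw [h0] at hyeK
      exact hyeK (one_mem _)
    have hy₀b : y₀ ∈ cz b₁ := pow_mem hy e
    have hy₀g : y₀ ∈ cz (g * b₁ * g⁻¹) := pow_mem hyg e
    have hy₀j : cs y₀ = nj := by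
      rcases H.cs_of_coprime hy₀1 (H.order_coprime_of_mem_cz hb₁i hy₀b) with h | h
      · exact absurd (hall _ h) hyeK
      · exact h
    have hyo : orderOf y₀ ∣ r ^ i := orderOf_dvd_of_pow_eq_one hri
    -- the commuting elements
    have hle : ∀ {c : G} {q : ℕ}, q.Prime → cs c = ni → orderOf c = q → q ≠ r → cz c = cz b₁ →
        cz y₀ ≤ cz b₁ ⊓ cz (g * b₁ * g⁻¹) := by
      intro c q hq hci hco hqr hce
      have hcopr : Nat.Coprime q r := (Nat.coprime_primes hq hr).2 hqr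
      have h5 : Nat.Coprime q (orderOf y₀) :=
        Nat.Coprime.coprime_dvd_right hyo (Nat.Coprime.pow_right i hcopr)
      refine le_inf ?_ ?_
      · rw [← hce]
        refine H.m3' hy₀j (H.ne_one_i hci) ?_ (by rw [hco]; exact h5)
        have : y₀ ∈ cz c := by rw [hce]; exact hy₀b
        exact (mem_cent.1 this).symm
      · have hcg : cz (g * c * g⁻¹) = cz (g * b₁ * g⁻¹) := cz_conj_congr hce g
        rw [← hcg]
        refine H.m3' hy₀j (H.ne_one_i (by rw [cs_conj, hci])) ?_ (by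
          rw [orderOf_conj, hco]
          exact h5)
        have : y₀ ∈ cz (g * c * g⁻¹) := by rw [hcg]; exact hy₀g
        exact (mem_cent.1 this).symm
    have hle' : cz y₀ ≤ cz b₁ ⊓ cz (g * b₁ * g⁻¹) := by
      by_cases hrp : p₁ = r
      · exact hle hp₂ hb₂i hb₂o (fun h => hne (hrp.trans h.symm)) hCeq.symm
      · exact hle hp₁ hb₁i hb₁o hrp rfl
    -- the product
    set c₂ := g * b₂ * g⁻¹ with hc₂
    have hc₂i : cs c₂ = ni := by rw [hc₂, cs_conj, hb₂i]
    have hc₂o : orderOf c₂ = p₂ := by rw [hc₂, orderOf_conj, hb₂o]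
    have hcz₂ : cz c₂ = cz (g * b₁ * g⁻¹) := (cz_conj_congr hCeq g).symm
    have hwc : b₁ * c₂ = c₂ * b₁ := hcomm hb₁i hc₂i
    have hwco : Nat.Coprime (orderOf b₁) (orderOf c₂) := by rw [hb₁o, hc₂o]; exact hcop
    have hw1 : b₁ * c₂ ≠ 1 := mul_ne_one_of_coprime (H.ne_one_i hb₁i) hwc hwco
    have hwle1 : cz (b₁ * c₂) ≤ cz b₁ := cz_mul_le_left hwc hwco
    have hwle2 : cz (b₁ * c₂) ≤ cz c₂ := cz_mul_le_right hwc hwco
    have hwm : b₁ * c₂ ∈ cz b₁ := mul_mem (mem_cent.2 rfl) (mem_cent.2 hwc.symm)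
    have hwj : cs (b₁ * c₂) = nj := by
      rcases H.cs_of_coprime hw1 (H.order_coprime_of_mem_cz hb₁i hwm) with h | h
      · exfalso
        have e1 : cz (b₁ * c₂) = cz b₁ := eq_of_le_of_cs hwle1 (by rw [h, hb₁i])
        have e2 : cz (b₁ * c₂) = cz c₂ := eq_of_le_of_cs hwle2 (by rw [h, hc₂i])
        exact hg (by rw [← hcz₂, ← e2, e1])
      · exact h
    have hle2 : cz y₀ ≤ cz (b₁ * c₂) := by
      refine hle'.trans ?_
      rw [← hcz₂]
      exact inf_le_cz_mul _ _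
    have heq : cz y₀ = cz (b₁ * c₂) := eq_of_le_of_cs hle2 (by rw [hy₀j, hwj])
    -- so `K` centralizes `y₀`
    apply hyeK
    rw [mem_KK]
    intro w hw
    have hwK := hall w hw
    have h1 : w ∈ cz (b₁ * c₂) := by
      rw [mem_cent]
      exact comm_mul_of' (mem_KK.1 hwK _ hb₁i) (mem_KK.1 hwK _ hc₂i)
    rw [← heq] at h1
    exact (mem_cent.1 h1).symm
  by_cases hfix : ∀ g : G, g ∉ cz b₁ → cz (g * b₁ * g⁻¹) ≠ cz b₁
  · exfalso
    exact hnn (H.lemmaFr hb₁i (fun g hg x hx hxg => hinter g (hfix g hg) x hx hxg))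
  push Not at hfix
  obtain ⟨g, hg, hgeq⟩ := hfix
  obtain ⟨b, hb, c, hc, rfl⟩ := H.exists_mul hb₁i g
  have hb1 : b ≠ 1 := by
    rintro rfl
    rw [one_mul] at hg
    exact hg hc
  have hconj : (b * c) * b₁ * (b * c)⁻¹ = b * b₁ * b⁻¹ := by
    have := mem_cent.1 hc
    calc (b * c) * b₁ * (b * c)⁻¹ = b * (c * b₁) * c⁻¹ * b⁻¹ := by group
      _ = b * (b₁ * c) * c⁻¹ * b⁻¹ := by rw [this]
      _ = _ := by group
  rw [hconj] at hgeq
  -- `b` normalizes the centralizer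
  have hnorm : ∀ x : G, x ∈ cz b₁ → b * x * b⁻¹ ∈ cz b₁ := by
    intro x hx
    rw [← hgeq, mem_cz_conj]
    have e : b⁻¹ * (b * x * b⁻¹) * b = x := by group
    rw [e]
    exact hx
  have hnorm' : ∀ x : G, x ∈ cz b₁ → b⁻¹ * x * b ∈ cz b₁ := by
    intro x hx
    have h1 : x ∈ cz (b * b₁ * b⁻¹) := by rw [hgeq]; exact hx
    exact mem_cz_conj.1 h1
  obtain ⟨k, hk⟩ := H.exists_prime_power_mem hb1
  set u := b ^ k with hu
  have huB : u ∈ B := pow_mem hb k
  have hu1 : u ≠ 1 := by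
    intro h0
    rw [h0, orderOf_one] at hk
    exact Nat.not_prime_one hk
  have hbN : b ∈ normalizer ((cz b₁ : Subgroup G) : Set G) := by
    rw [mem_normalizer_iff]
    intro x
    constructor
    · exact hnorm x
    · intro hx
      have := hnorm' _ hx
      have e : b⁻¹ * (b * x * b⁻¹) * b = x := by group
      rwa [e] at this
  have huN : u ∈ normalizer ((cz b₁ : Subgroup G) : Set G) := pow_mem hbN k
  have hnil := H.nilpotent_of_prime_act (cz b₁) hk huN (by
    intro x hx hxc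
    have h1 : x ∈ cz u := by
      rw [mem_cent]
      exact (mul_inv_eq_iff_eq_mul.1 hxc).symm
    rw [H.cz_eq huB hu1] at h1
    exact H.eq_one_of_mem_cz hb₁i hx h1)
  exact H.solvable_of_nilpotent_cz hb₁i hnil

end HB

end Cfsg.Agent.Lib.ItoGen
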