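import Mathlib
import Cfsg.Agent.Lib.ItoGen8
import Cfsg.Agent.Lib.ItoGen2

/-!
# Three class sizes in a chain: all type `i` elements in `K` and of prime power order
-/

set_option autoImplicit false
set_option linter.unusedSectionVars false
set_option linter.style.haveILetI false

namespace Cfsg.Agent.Lib.ItoGen

open Subgroup Cfsg Cfsg.Agent.Lib Cfsg.Agent.Lib.CoprimeClass Cfsg.Agent.Lib.ItoChain
open scoped Pointwise

universe u

/-- A norm computation for an action of a Frobenius group on an abelian group. -/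
theorem norm_frob {E : Type*} [Group E] {V : Type*} [CommGroup V] (φ : E →* MulAut V)
    (B : Subgroup E) [Fintype B] (f : E) (t : ℕ) (ht0 : 0 < t) (ht : f ^ t = 1)
    (hB : ∃ b ∈ B, b ≠ 1)
    (h3 : ∀ b ∈ B, b ≠ 1 → ∀ v : V, φ b v = v → v = 1)
    (h4 : ∀ u ∈ B, ∀ v : V, φ (u⁻¹ * f * u) v = v → v = 1)
    (hc : ∀ i : ℕ, 0 < i → i < t → ∃ c : B → B, Function.Bijective c ∧
      ∀ u : B, (u : E)⁻¹ * f ^ i * u = f ^ i * (c u : E))
    (v : V) : v ^ Fintype.card B = 1 := by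
  classical
  have hpowconj : ∀ (u : E) (i : ℕ), (u⁻¹ * f * u) ^ i = u⁻¹ * f ^ i * u := by
    intro u i
    have := conj_pow (a := u⁻¹) (b := f) (i := i)
    rwa [inv_inv] at this
  -- the norm over a conjugate of `⟨f⟩` vanishes
  have hN : ∀ u : B, ∏ i ∈ Finset.range t, φ ((u : E)⁻¹ * f ^ i * u) v = 1 := by
    intro u
    apply h4 u u.2
    set x := (u : E)⁻¹ * f * u with hx
    have hxt : x ^ t = 1 := by
      rw [hx, hpowconj, ht]
      simp
    have e1 : ∀ i : ℕ, φ ((u : E)⁻¹ * f ^ i * u) v = φ (x ^ i) v := by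
      intro i
      rw [hx, hpowconj]
    simp_rw [e1]
    rw [map_prod]
    have e2 : ∀ i : ℕ, φ x (φ (x ^ i) v) = φ (x ^ (i + 1)) v := by
      intro i
      rw [pow_succ' x i, map_mul φ x (x ^ i), MulAut.mul_apply]
    simp_rw [e2]
    have e3 := Finset.prod_range_succ (fun i => φ (x ^ i) v) t
    have e4 := Finset.prod_range_succ' (fun i => φ (x ^ i) v) t
    rw [e3] at e4
    simp only [pow_zero, map_one, MulAut.one_apply, hxt] at e4
    exact (mul_right_cancel e4).symm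
  have h0 : ∏ u : B, ∏ i ∈ Finset.range t, φ ((u : E)⁻¹ * f ^ i * u) v = 1 :=
    Finset.prod_eq_one fun u _ => hN u
  rw [Finset.prod_comm] at h0
  -- the norm over `B` vanishes
  have hNB : ∏ b : B, φ (b : E) v = 1 := by
    obtain ⟨b₀, hb₀, hb₀1⟩ := hB
    apply h3 b₀ hb₀ hb₀1
    rw [map_prod]
    have e : ∀ b : B, φ b₀ (φ (b : E) v) = φ (((⟨b₀, hb₀⟩ : B) * b : B) : E) v := by
      intro b
      show φ b₀ (φ (b : E) v) = φ (b₀ * (b : E)) v
      rw [map_mul, MulAut.mul_apply]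
    simp_rw [e]
    exact Fintype.prod_equiv (Equiv.mulLeft (⟨b₀, hb₀⟩ : B)) _ _ (fun b => rfl)
  have hterm : ∀ i ∈ Finset.range t, i ≠ 0 → ∏ u : B, φ ((u : E)⁻¹ * f ^ i * u) v = 1 := by
    intro i hi hi0
    obtain ⟨c, hcb, hcu⟩ := hc i (Nat.pos_of_ne_zero hi0) (Finset.mem_range.1 hi)
    simp_rw [hcu, map_mul, MulAut.mul_apply]
    rw [hcb.prod_comp (fun b : B => φ (f ^ i) (φ (b : E) v)), ← map_prod, hNB, map_one]
  rw [Finset.prod_eq_single 0 (fun i hi hi0 => hterm i hi hi0)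
    (fun h => absurd (Finset.mem_range.2 ht0) h)] at h0
  simp only [pow_zero, mul_one, inv_mul_cancel, map_one, MulAut.one_apply, Finset.prod_const,
    Finset.card_univ] at h0
  exact h0

variable {G : Type u} [Group G] [Finite G] {ni nj nk : ℕ}

/-- A central element of prime order in a nilpotent subgroup. -/
theorem exists_central_of_nilpotent (K : Subgroup G) (hK : Group.IsNilpotent K) {t : ℕ}
    [ht : Fact t.Prime] (htd : t ∣ Nat.card K) :
    ∃ v ∈ K, v ∈ centralizer (K : Set G) ∧ orderOf v = t := by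
  let P : Sylow t K := default
  haveI := hK
  haveI : (P : Subgroup K).Normal := inferInstance
  have hPne : (P : Subgroup K) ≠ ⊥ := P.ne_bot_of_dvd_card htd
  have h1 := BrolineGT.inf_center_ne_bot (P : Subgroup K) hPne
  obtain ⟨z, hz, hz1⟩ := BrolineGT.exists_mem_ne_one h1
  obtain ⟨hzP, hzc⟩ := mem_inf.1 hz
  obtain ⟨k, hk⟩ := (IsPGroup.iff_orderOf.1 P.isPGroup') ⟨z, hzP⟩
  have hord : orderOf z = t ^ k := by
    rw [← hk]
    exact (Subgroup.orderOf_mk z hzP).symm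
  have hk0 : k ≠ 0 := by
    rintro rfl
    rw [pow_zero, orderOf_eq_one_iff] at hord
    exact hz1 hord
  have htd2 : t ∣ orderOf z := by
    rw [hord]
    exact dvd_pow_self t hk0
  have hzo := exists_pow_prime htd2
  set y := z ^ (orderOf z / t) with hy
  have hyc : y ∈ center K := pow_mem hzc _
  refine ⟨(y : G), y.2, ?_, ?_⟩
  · rw [mem_centralizer_iff]
    intro w hw
    have h2 := mem_center_iff.1 hyc ⟨w, hw⟩
    exact congrArg Subtype.val h2
  · rw [Subgroup.orderOf_coe, hzo]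

/-- The elements of order dividing `t` in the centre of `K`. -/
def OmegaZ (K : Subgroup G) (t : ℕ) : Subgroup G where
  carrier := {z | z ∈ K ∧ z ∈ centralizer (K : Set G) ∧ z ^ t = 1}
  mul_mem' := by
    rintro x y ⟨hx1, hx2, hx3⟩ ⟨hy1, hy2, hy3⟩
    refine ⟨mul_mem hx1 hy1, mul_mem hx2 hy2, ?_⟩
    have hc : Commute x y := ((mem_centralizer_iff.1 hy2) x hx1)
    rw [hc.mul_pow, hx3, hy3, one_mul]
  one_mem' := ⟨one_mem _, one_mem _, one_pow _⟩
  inv_mem' := by
    rintro x ⟨hx1, hx2, hx3⟩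
    exact ⟨inv_mem hx1, inv_mem hx2, by rw [inv_pow, hx3, inv_one]⟩

theorem OmegaZ_normal (K : Subgroup G) [hK : K.Normal] (t : ℕ) : (OmegaZ K t).Normal := by
  constructor
  rintro x ⟨hx1, hx2, hx3⟩ g
  refine ⟨hK.conj_mem x hx1 g, ?_, ?_⟩
  · rw [mem_centralizer_iff] at hx2 ⊢
    intro k hk
    have h1 := hx2 (g⁻¹ * k * g) (by
      have := hK.conj_mem k hk g⁻¹
      rwa [inv_inv] at this)
    calc k * (g * x * g⁻¹) = g * ((g⁻¹ * k * g) * x) * g⁻¹ := by group
      _ = g * (x * (g⁻¹ * k * g)) * g⁻¹ := by rw [h1]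
      _ = g * x * g⁻¹ * k := by group
  · rw [conj_pow, hx3]
    simp

namespace HB

variable {B : Subgroup G} (H : HB G ni nj nk B)
include H

/-- An element of prime order in `N(B) ∩ C(a)`. -/
theorem exists_f (hNB : ¬ normalizer (B : Set G) ≤ B) {a : G} (ha : cs a = ni) :
    ∃ f : G, f ∈ normalizer (B : Set G) ∧ f ∈ cz a ∧ (orderOf f).Prime := by
  obtain ⟨g, hgN, hgB⟩ := Set.not_subset.1 hNB
  obtain ⟨b, hb, c, hc, rfl⟩ := H.exists_mul ha g
  have hc1 : c ≠ 1 := by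
    rintro rfl
    rw [mul_one] at hgB
    exact hgB hb
  have hcN : c ∈ normalizer (B : Set G) := by
    have : c = b⁻¹ * (b * c) := by group
    rw [this]
    exact mul_mem (inv_mem (le_normalizer hb)) hgN
  obtain ⟨k, hk⟩ := H.exists_prime_power_mem hc1
  exact ⟨c ^ k, pow_mem hcN k, pow_mem hc k, hk⟩

/-- The commutator map as a bijection. -/
theorem exists_comm_bij {f : G} (hf : f ∈ normalizer (B : Set G)) (hfB : f ∉ B) :
    ∃ c : B → B, Function.Bijective c ∧ ∀ u : B, (u : G)⁻¹ * f * u = f * (c u : G) := by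
  have hmem : ∀ u : B, f⁻¹ * (u : G)⁻¹ * f * u ∈ B := by
    intro u
    have h1 : f⁻¹ * (u : G)⁻¹ * f⁻¹⁻¹ ∈ B :=
      (mem_normalizer_iff.1 (inv_mem hf) _).1 (inv_mem u.2)
    rw [inv_inv] at h1
    exact mul_mem h1 u.2
  refine ⟨fun u => ⟨_, hmem u⟩, ?_, ?_⟩
  · have hs : Function.Surjective (fun u : B => (⟨_, hmem u⟩ : B)) := by
      intro b
      obtain ⟨u, hu, hub⟩ := H.comm_surj hf hfB b.2
      exact ⟨⟨u, hu⟩, Subtype.ext hub⟩
    exact ⟨Finite.injective_iff_surjective.2 hs, hs⟩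
  · intro u
    group

/-- **The key step of Case 2β**: `K` is a `p`-group. -/
theorem KK_isPGroup' (hNB : ¬ normalizer (B : Set G) ≤ B) (hall : ∀ w : G, cs w = ni → w ∈ KK G ni)
    {p : ℕ} (hp : p.Prime) (hpall : ∀ a : G, cs a = ni → ∀ q : ℕ, q.Prime → q ∣ orderOf a → q = p) :
    IsPGroup p (KK G ni) := by
  classical
  haveI : Fact p.Prime := ⟨hp⟩
  have hcard0 : Nat.card (KK G ni) ≠ 0 := Nat.card_pos.ne'
  refine IsPGroup.of_card (n := _) (Nat.eq_prime_pow_of_unique_prime_dvd hcard0 (fun {t} ht htd => ?_))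
  by_contra htp
  haveI : Fact t.Prime := ⟨ht⟩
  set K := KK G ni with hK
  haveI : K.Normal := KK_normal ni
  obtain ⟨v₀, hv₀K, hv₀c, hv₀o⟩ := exists_central_of_nilpotent K H.nilpotent_KK htd
  set V := OmegaZ K t with hV
  haveI hVn : V.Normal := OmegaZ_normal K t
  have hv₀V : v₀ ∈ V := ⟨hv₀K, hv₀c, by rw [← hv₀o]; exact pow_orderOf_eq_one _⟩
  -- fixed points
  have hfp : ∀ x : G, x ∉ K → ∀ v ∈ V, x * v * x⁻¹ = v → v = 1 := by
    intro x hx v hvV hc
    by_contra hv1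
    obtain ⟨hv1K, hv2, hv3⟩ := hvV
    have hvo : orderOf v = t := orderOf_eq_prime hv3 hv1
    have hvj : cs v = nj := by
      rcases H.cs_of_coprime hv1 (H.order_coprime_KK hv1K) with h | h
      · exact absurd (hpall v h t ht (by rw [hvo])) htp
      · exact h
    apply hx
    rw [hK, mem_KK]
    intro w hw
    have hwK := hall w hw
    have hco : Nat.Coprime (orderOf w) (orderOf v) := by
      rw [hvo, Nat.coprime_comm, Nat.Prime.coprime_iff_not_dvd ht]
      intro hd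
      exact htp (hpall w hw t ht hd)
    have hle : cz v ≤ cz w := H.m3' hvj (H.ne_one_i hw)
      ((mem_centralizer_iff.1 hv2) w hwK) hco
    have hxv : x ∈ cz v := by
      rw [mem_cent]
      exact mul_inv_eq_iff_eq_mul.1 hc
    exact mem_cent.1 (hle hxv)
  -- the element `f`
  obtain ⟨a, ha⟩ := H.exists_i
  obtain ⟨f, hfN, hfC, hfo⟩ := H.exists_f hNB ha
  set q := orderOf f with hq
  have hfK : ∀ i : ℕ, 0 < i → i < q → f ^ i ∉ K ∧ f ^ i ∉ B := by
    intro i hi hiq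
    have h1 : f ^ i ≠ 1 := pow_ne_one_of_lt_orderOf hi.ne' hiq
    exact ⟨fun h => h1 (H.eq_one_of_nz_KK (pow_mem hfN i) h),
      fun h => h1 (H.eq_one_of_mem_cz ha (pow_mem hfC i) h)⟩
  have hf1 : f ∉ K := by
    have := (hfK 1 one_pos hfo.one_lt).1
    rwa [pow_one] at this
  letI cg : CommGroup V :=
    { (inferInstance : Group V) with
      mul_comm := fun x y => Subtype.ext ((mem_centralizer_iff.1 y.2.2.1) x x.2.1) }
  letI : Fintype B := Fintype.ofFinite B
  have hnorm := norm_frob (V := V) (MulAut.conjNormal (H := V)) B f q hfo.pos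
    (by rw [hq]; exact pow_orderOf_eq_one f)
    ((Subgroup.bot_or_exists_ne_one B).resolve_left H.B_ne_bot)
    (by
      intro b hb hb1 v hv
      have hbK : b ∉ K := fun h => hb1 (H.eq_one_of_KK_B h hb)
      have h1 := hfp b hbK v v.2 (congrArg Subtype.val hv)
      exact Subtype.ext h1)
    (by
      intro u hu v hv
      have hxK : u⁻¹ * f * u ∉ K := by
        intro h
        apply hf1
        have h2 := (KK_normal ni).conj_mem _ h u
        have e : u * (u⁻¹ * f * u) * u⁻¹ = f := by group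
        rwa [e] at h2
      have h1 := hfp _ hxK v v.2 (congrArg Subtype.val hv)
      exact Subtype.ext h1)
    (by
      intro i hi hiq
      obtain ⟨c, hc, hcu⟩ := H.exists_comm_bij (pow_mem hfN i) (hfK i hi hiq).2
      exact ⟨c, hc, hcu⟩)
    ⟨v₀, hv₀V⟩
  have h1 : v₀ ^ Fintype.card B = 1 := congrArg Subtype.val hnorm
  rw [← Nat.card_eq_fintype_card, H.bc] at h1
  have h2 := orderOf_dvd_of_pow_eq_one h1
  have h3 := H.order_coprime_KK hv₀K
  have h4 : orderOf v₀ = 1 := Nat.eq_one_of_dvd_coprimes h3 (dvd_refl _) h2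
  rw [hv₀o] at h4
  exact ht.one_lt.ne' h4

/-- The abelian type `j` centralizers with the covering property. -/
structure PP (H : HB G ni nj nk B) (y : G) : Prop where
  hj : cs y = nj
  ab : ∀ x ∈ cz y, cz y ≤ cz x
  cov : ∀ z : G, z ≠ 1 → Nat.Coprime (orderOf z) ni → z ∉ KK G ni → ∃ g : G, g * z * g⁻¹ ∈ cz y

theorem PP.conj {y : G} (h : PP H y) (g : G) : PP H (g * y * g⁻¹) := by
  refine ⟨by rw [cs_conj, h.hj], ?_, ?_⟩
  · intro x hx w hw
    have h1 := h.ab _ (mem_cz_conj.1 hx) (mem_cz_conj.1 hw)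
    rw [mem_cent] at h1 ⊢
    calc w * x = g * ((g⁻¹ * w * g) * (g⁻¹ * x * g)) * g⁻¹ := by group
      _ = g * ((g⁻¹ * x * g) * (g⁻¹ * w * g)) * g⁻¹ := by rw [h1]
      _ = x * w := by group
  · intro z hz hc hzK
    obtain ⟨g', hg'⟩ := h.cov z hz hc hzK
    refine ⟨g * g', mem_cz_conj.2 ?_⟩
    have e : g⁻¹ * (g * g' * z * (g * g')⁻¹) * g = g' * z * g'⁻¹ := by group
    rw [e]
    exact hg'

/-- Self-normalizing `cz y ⊔ K`. -/
theorem PP.selfnorm {y : G} (h : PP H y) (hNB : ¬ normalizer (B : Set G) ≤ B) :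
    normalizer ((cz y ⊔ KK G ni : Subgroup G) : Set G) ≤ cz y ⊔ KK G ni := by
  refine selfnorm_of_cover (cz y ⊔ KK G ni) B ?_ hNB
  intro x hx
  rcases H.exists_conj_or_coprime x with ⟨g, hg⟩ | hc
  · exact Or.inr ⟨g⁻¹, by rw [inv_inv]; exact hg⟩
  · left
    by_cases hxK : x ∈ KK G ni
    · exact ⟨1, by
        have : (1 : G) * x * 1⁻¹ = x := by group
        rw [this]
        exact (le_sup_right : KK G ni ≤ _) hxK⟩
    · obtain ⟨g, hg⟩ := h.cov x hx hc hxK
      exact ⟨g, (le_sup_left : cz y ≤ _) hg⟩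

/-- Transfer in Case 2β for a prime `t`. -/
theorem PP.transfer {y : G} (h : PP H y) (hNB : ¬ normalizer (B : Set G) ≤ B) {p t : ℕ}
    [ht : Fact t.Prime] (hKp : IsPGroup p (KK G ni)) (htp : t ≠ p) (hp : p.Prime)
    (hti : ¬ t ∣ ni) (R : Sylow t G) (hRne : (R : Subgroup G) ≠ ⊥)
    (hR : (R : Subgroup G) ≤ cz y) (hall : ∀ w : G, cs w = ni → w ∈ KK G ni) :
    normalizer ((R : Subgroup G) : Set G) ≤ centralizer ((R : Subgroup G) : Set G) := by
  haveI : (KK G ni).Normal := KK_normal ni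
  haveI : Fact p.Prime := ⟨hp⟩
  -- elements of `R` are not in `K`
  have hRK : ∀ u ∈ (R : Subgroup G), u ∈ KK G ni → u = 1 := by
    intro u hu huK
    obtain ⟨k, hk⟩ := (IsPGroup.iff_orderOf.1 R.isPGroup') ⟨u, hu⟩
    have h1 : orderOf u = t ^ k := by rw [← hk, Subgroup.orderOf_mk]
    obtain ⟨l, hl⟩ := (IsPGroup.iff_orderOf.1 hKp) ⟨u, huK⟩
    have h2 : orderOf u = p ^ l := by rw [← hl, Subgroup.orderOf_mk]
    have hcop : Nat.Coprime (t ^ k) (p ^ l) :=
      Nat.Coprime.pow k l ((Nat.coprime_primes ht.out hp).2 htp)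
    rw [← h1, ← h2] at hcop
    exact orderOf_eq_one_iff.1 (by simpa using hcop)
  -- centralizers of elements of `R`
  have hRcz : ∀ u ∈ (R : Subgroup G), u ≠ 1 → cz u = cz y := by
    intro u hu hu1
    have hco : Nat.Coprime (orderOf u) ni := by
      obtain ⟨k, hk⟩ := (IsPGroup.iff_orderOf.1 R.isPGroup') ⟨u, hu⟩
      have h1 : orderOf u = t ^ k := by rw [← hk, Subgroup.orderOf_mk]
      rw [h1]
      exact Nat.Coprime.pow_left k ((Nat.Prime.coprime_iff_not_dvd ht.out).2 hti)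
    have huj : cs u = nj := by
      rcases H.cs_of_coprime hu1 hco with h2 | h2
      · exact absurd (hRK u hu (hall u h2)) hu1
      · exact h2
    have hy1 : y ≠ 1 := H.ne_one_j h.hj
    exact (H.m3 huj hy1 (h.ab u (hR hu))).symm
  obtain ⟨u₀, hu₀, hu₀1⟩ := (Subgroup.bot_or_exists_ne_one (R : Subgroup G)).resolve_left hRne
  intro x hxN
  -- `x` normalizes `cz y`
  have hconj : ∀ x ∈ normalizer ((R : Subgroup G) : Set G), ∀ w ∈ cz y, x * w * x⁻¹ ∈ cz y := by
    intro x hx w hw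
    have h1 : x * u₀ * x⁻¹ ∈ (R : Subgroup G) := (mem_normalizer_iff.1 hx u₀).1 hu₀
    have h2 : x * u₀ * x⁻¹ ≠ 1 := by
      intro h0
      apply hu₀1
      have : u₀ = x⁻¹ * (x * u₀ * x⁻¹) * x := by group
      rw [this, h0]
      group
    rw [← hRcz _ h1 h2, mem_cz_conj]
    have e : x⁻¹ * (x * w * x⁻¹) * x = w := by group
    rw [e, hRcz u₀ hu₀ hu₀1]
    exact hw
  have hxNs : x ∈ normalizer ((cz y ⊔ KK G ni : Subgroup G) : Set G) := by
    have hall' : ∀ x ∈ normalizer ((R : Subgroup G) : Set G), ∀ w ∈ cz y ⊔ KK G ni,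
        x * w * x⁻¹ ∈ cz y ⊔ KK G ni := by
      intro x hx w hw
      have hm : w ∈ ((cz y : Set G) * (KK G ni : Set G)) := by
        rw [← Subgroup.mul_normal]
        exact hw
      obtain ⟨d, hd, k, hk, hdk⟩ := Set.mem_mul.1 hm
      have hdk' : d * k = w := hdk
      rw [← hdk']
      have e : x * (d * k) * x⁻¹ = (x * d * x⁻¹) * (x * k * x⁻¹) := by group
      rw [e]
      exact mul_mem ((le_sup_left : cz y ≤ _) (hconj x hx d hd))
        ((le_sup_right : KK G ni ≤ _) ((KK_normal ni).conj_mem k hk x))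
    rw [mem_normalizer_iff]
    intro w
    constructor
    · exact hall' x hxN w
    · intro hw
      have := hall' x⁻¹ (inv_mem hxN) _ hw
      have e : x⁻¹ * (x * w * x⁻¹) * x⁻¹⁻¹ = w := by group
      rwa [e] at this
  have hxs := h.selfnorm H hNB hxNs
  have hm : x ∈ ((cz y : Set G) * (KK G ni : Set G)) := by
    rw [← Subgroup.mul_normal]
    exact hxs
  obtain ⟨d, hd, k, hk, hdk⟩ := Set.mem_mul.1 hm
  have hdk' : d * k = x := hdk
  have hdR : ∀ u ∈ (R : Subgroup G), u * d = d * u := by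
    intro u hu
    by_cases hu1 : u = 1
    · rw [hu1, one_mul, mul_one]
    · have : d ∈ cz u := by rw [hRcz u hu hu1]; exact hd
      exact (mem_cent.1 this).symm
  rw [mem_centralizer_iff]
  intro u hu
  -- `k` commutes with `u`
  have h1 : k * u * k⁻¹ ∈ (R : Subgroup G) := by
    have h2 : x * u * x⁻¹ ∈ (R : Subgroup G) := (mem_normalizer_iff.1 hxN u).1 hu
    have e : k * u * k⁻¹ = d⁻¹ * (x * u * x⁻¹) * d := by
      rw [← hdk']
      group
    rw [e]
    have h3 := hdR _ h2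
    have e2 : d⁻¹ * (x * u * x⁻¹) * d = x * u * x⁻¹ := by
      rw [mul_assoc, h3]
      group
    rw [e2]
    exact h2
  have h2 : k * u * k⁻¹ * u⁻¹ ∈ (R : Subgroup G) := mul_mem h1 (inv_mem hu)
  have h3 : k * u * k⁻¹ * u⁻¹ ∈ KK G ni := by
    have h4 := (KK_normal ni).conj_mem _ (inv_mem hk) u
    have h5 := mul_mem hk h4
    have e : k * (u * k⁻¹ * u⁻¹) = k * u * k⁻¹ * u⁻¹ := by group
    rwa [e] at h5
  have h4 := hRK _ h2 h3
  have h5 : k * u = u * k := by
    rw [mul_inv_eq_one, mul_inv_eq_iff_eq_mul] at h4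
    exact h4
  rw [← hdk']
  have h6 := hdR u hu
  calc u * (d * k) = d * (u * k) := by rw [← mul_assoc, h6, mul_assoc]
    _ = d * (k * u) := by rw [h5]
    _ = d * k * u := by group

/-- The case when the non-`K` part has order a power of a single prime. -/
theorem solvable_of_quot_pgroup {s : ℕ} [hs : Fact s.Prime] {a : G} (ha : cs a = ni)
    (hc : ∀ c ∈ cz a, ∃ n : ℕ, c ^ (s ^ n) ∈ KK G ni) : Group.IsSolvable G := by
  haveI : (KK G ni).Normal := KK_normal ni
  refine solvable_of_normal_quot (KK G ni) H.solvable_KK ?_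
  set π := QuotientGroup.mk' (KK G ni) with hπ
  have hA : Group.IsNilpotent (B.map π) := by
    have hc' : ∀ x y : B.map π, x * y = y * x := by
      rintro ⟨_, b₁, hb₁, rfl⟩ ⟨_, b₂, hb₂, rfl⟩
      apply Subtype.ext
      show π b₁ * π b₂ = π b₂ * π b₁
      rw [← map_mul, ← map_mul, H.comm_B hb₁ hb₂]
    letI : CommGroup (B.map π) := { (inferInstance : Group (B.map π)) with mul_comm := hc' }
    infer_instance
  have hP : Group.IsNilpotent ((cz a).map π) := by
    have hpg : IsPGroup s ((cz a).map π) := by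
      rintro ⟨_, c, hc₁, rfl⟩
      obtain ⟨n, hn⟩ := hc c hc₁
      refine ⟨n, ?_⟩
      apply Subtype.ext
      show (π c) ^ (s ^ n) = 1
      rw [← map_pow]
      exact (QuotientGroup.eq_one_iff _).2 hn
    exact hpg.isNilpotent
  refine KegelWielandt.solvable_main _ (G ⧸ KK G ni) (B.map π) ((cz a).map π) rfl hA hP ?_
  intro g
  obtain ⟨g, rfl⟩ := QuotientGroup.mk'_surjective (KK G ni) g
  obtain ⟨b, hb, c, hc', rfl⟩ := H.exists_mul ha g
  exact ⟨π b, ⟨b, hb, rfl⟩, π c, ⟨c, hc', rfl⟩, map_mul _ _ _⟩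

/-- **Case 2β**. -/
theorem case2b (hNB : ¬ normalizer (B : Set G) ≤ B) (hall : ∀ w : G, cs w = ni → w ∈ KK G ni)
    {p : ℕ} (hp : p.Prime) (hpall : ∀ a : G, cs a = ni → ∀ q : ℕ, q.Prime → q ∣ orderOf a → q = p) :
    Group.IsSolvable G := by
  classical
  haveI : Fact p.Prime := ⟨hp⟩
  have hKp := H.KK_isPGroup' hNB hall hp hpall
  have hcoprime := H.coprime_ik
  have hkG : nk ∣ Nat.card G := by
    rw [H.card_G]
    exact Dvd.intro_left _ rfl
  obtain ⟨a, ha⟩ := H.exists_i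
  -- elements of prime order different from `p` are of type `j`
  have hnotK : ∀ {u : G} {t n : ℕ}, t.Prime → t ≠ p → u ≠ 1 → u ^ (t ^ n) = 1 → u ∉ KK G ni := by
    intro u t n ht htp hu1 hun huK
    obtain ⟨l, hl⟩ := (IsPGroup.iff_orderOf.1 hKp) ⟨u, huK⟩
    have h2 : orderOf u = p ^ l := by rw [← hl, Subgroup.orderOf_mk]
    have h1 : orderOf u ∣ t ^ n := orderOf_dvd_of_pow_eq_one hun
    have hcop : Nat.Coprime (t ^ n) (p ^ l) :=
      Nat.Coprime.pow n l ((Nat.coprime_primes ht hp).2 htp)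
    rw [← h2] at hcop
    exact hu1 (orderOf_eq_one_iff.1 (Nat.eq_one_of_dvd_coprimes hcop h1 (dvd_refl _)))
  have hjo : ∀ {z : G}, z ≠ 1 → Nat.Coprime (orderOf z) ni → z ∉ KK G ni → cs z = nj := by
    intro z hz hc hzK
    rcases H.cs_of_coprime hz hc with h | h
    · exact absurd (hall z h) hzK
    · exact h
  -- primes other than `p` do not divide `nj`
  have htj : ∀ t : ℕ, t.Prime → t ≠ p → t ∣ nk → ¬ t ∣ nj := by
    intro t ht htp htk
    haveI : Fact t.Prime := ⟨ht⟩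
    let R : Sylow t G := default
    have hRne : (R : Subgroup G) ≠ ⊥ := R.ne_bot_of_dvd_card (htk.trans hkG)
    obtain ⟨z, hzR, hzo, hzle⟩ := exists_central (R : Subgroup G) R.isPGroup' hRne
    have hz1 : z ≠ 1 := by
      rintro rfl
      rw [orderOf_one] at hzo
      exact ht.one_lt.ne hzo
    have hti : ¬ t ∣ ni := fun h => (Nat.Prime.not_coprime_iff_dvd.2 ⟨t, ht, h, htk⟩) hcoprime
    have hzj := hjo hz1 (by rw [hzo]; exact (Nat.Prime.coprime_iff_not_dvd ht).2 hti)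
      (hnotK ht htp hz1 (n := 1) (by rw [pow_one, ← hzo]; exact pow_orderOf_eq_one z))
    have := not_dvd_cs_of_sylow R hzle
    rwa [hzj] at this
  by_cases hexs : ∃ s : ℕ, s.Prime ∧ s ≠ p ∧ s ∣ nk
  swap
  · push Not at hexs
    refine H.finalKW hp fun s hs hsp hsk => ?_
    exact absurd hsk (hexs s hs hsp)
  obtain ⟨s, hs, hsp, hsk⟩ := hexs
  haveI : Fact s.Prime := ⟨hs⟩
  have hsi : ¬ s ∣ ni := fun h => (Nat.Prime.not_coprime_iff_dvd.2 ⟨s, hs, h, hsk⟩) hcoprime
  by_cases hex : ∃ (y : G) (r i : ℕ), r.Prime ∧ r ≠ s ∧ y ^ (r ^ i) = 1 ∧ y ∉ KK G ni ∧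
      Nat.Coprime (orderOf y) ni
  swap
  · -- the quotient `C / K` is an `s`-group
    push Not at hex
    refine H.solvable_of_quot_pgroup (s := s) ha ?_
    intro c hc
    obtain ⟨c₁, c₂, hcc, hcomm, ⟨n, hn⟩, hco, hm1, hm2⟩ := PResid.exists_decomp (p := s) c
    have hc₂C : c₂ ∈ cz a := (zpowers_le.2 hc) hm2
    have hc₂K : c₂ ∈ KK G ni := by
      by_contra hcon
      obtain ⟨e, r, i, hr, hri, hyeK⟩ := exists_primary_pow_not_mem (KK G ni) c₂ hcon
      have hrs : r ≠ s := by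
        rintro rfl
        have h1 : orderOf (c₂ ^ e) ∣ r ^ i := orderOf_dvd_of_pow_eq_one hri
        have h2 : orderOf (c₂ ^ e) ∣ orderOf c₂ := orderOf_pow_dvd e
        have h3 : Nat.Coprime (orderOf c₂) (r ^ i) := Nat.Coprime.pow_right i hco
        have h4 : orderOf (c₂ ^ e) = 1 := Nat.eq_one_of_dvd_coprimes h3 h2 h1
        rw [orderOf_eq_one_iff] at h4
        rw [h4] at hyeK
        exact hyeK (one_mem _)
      exact hex _ r i hr hrs hri hyeK (H.order_coprime_of_mem_cz ha (pow_mem hc₂C e))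
    refine ⟨n, ?_⟩
    rw [hcc, hcomm.mul_pow, hn, one_mul]
    exact pow_mem hc₂K _
  obtain ⟨y₀, r, i, hr, hrs, hri, hy₀K, hy₀c⟩ := hex
  have hy₀1 : y₀ ≠ 1 := by
    rintro rfl
    exact hy₀K (one_mem _)
  have hy₀j := hjo hy₀1 hy₀c hy₀K
  have hy₀o : orderOf y₀ ∣ r ^ i := orderOf_dvd_of_pow_eq_one hri
  have hpos : 0 < nj := Nat.pos_of_ne_zero (by rw [← hy₀j]; exact index_ne_zero_of_finite)
  -- Sylow `s`
  let Rs : Sylow s G := default
  have hRsne : (Rs : Subgroup G) ≠ ⊥ := Rs.ne_bot_of_dvd_card (hsk.trans hkG)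
  obtain ⟨z, hzR, hzo, hzle⟩ := exists_central (Rs : Subgroup G) Rs.isPGroup' hRsne
  have hz1 : z ≠ 1 := by
    rintro rfl
    rw [orderOf_one] at hzo
    exact hs.one_lt.ne hzo
  have hscop : Nat.Coprime s ni := (Nat.Prime.coprime_iff_not_dvd hs).2 hsi
  have hzj := hjo hz1 (by rw [hzo]; exact hscop)
    (hnotK hs hsp hz1 (n := 1) (by rw [pow_one, ← hzo]; exact pow_orderOf_eq_one z))
  have hcard : Nat.card (cz z) = Nat.card (cz y₀) := by
    have e1 := csm z
    have e2 := csm y₀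
    rw [hzj] at e1
    rw [hy₀j, ← e1] at e2
    exact (Nat.eq_of_mul_eq_mul_left hpos e2).symm
  have hsC : s ∣ Nat.card (cz y₀) := by
    rw [← hcard, ← hzo]
    exact Subgroup.orderOf_dvd_natCard _ (mem_cent.2 rfl)
  obtain ⟨h', hh'⟩ := exists_prime_orderOf_dvd_card' (G := cz y₀) s hsC
  set h : G := (h' : G) with hh_def
  have hho : orderOf h = s := by rw [hh_def, Subgroup.orderOf_coe, hh']
  have hh1 : h ≠ 1 := by
    intro h0
    rw [h0, orderOf_one] at hho
    exact hs.one_lt.ne hho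
  have hhj : cs h = nj := hjo hh1 (by rw [hho]; exact hscop)
    (hnotK hs hsp hh1 (n := 1) (by rw [pow_one, ← hho]; exact pow_orderOf_eq_one h))
  have hhy : h * y₀ = y₀ * h := mem_cent.1 h'.2
  have hco_hy : Nat.Coprime (orderOf h) (orderOf y₀) := by
    rw [hho]
    exact Nat.Coprime.coprime_dvd_right hy₀o
      (Nat.Coprime.pow_right i ((Nat.coprime_primes hs hr).2 (Ne.symm hrs)))
  have hczh : cz y₀ = cz h := H.m3 hhj hy₀1 (H.m3' hy₀j hh1 hhy hco_hy) 
  -- `cz y₀` is abelian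
  have hab : ∀ x ∈ cz y₀, cz y₀ ≤ cz x := by
    intro v hv
    obtain ⟨v₁, v₂, hvv, hcomm, ⟨n, hn⟩, hco, hm1, hm2⟩ := PResid.exists_decomp (p := s) v
    have hv₁ : v₁ ∈ cz y₀ := (zpowers_le.2 hv) hm1
    have hv₂ : v₂ ∈ cz y₀ := (zpowers_le.2 hv) hm2
    have h1 : cz y₀ ≤ cz v₁ := by
      by_cases hv₁1 : v₁ = 1
      · rw [hv₁1]
        intro w _
        exact mem_cent.2 (by simp)
      · refine H.m3' hy₀j hv₁1 (mem_cent.1 hv₁) ?_
        have h3 : orderOf v₁ ∣ s ^ n := orderOf_dvd_of_pow_eq_one hn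
        exact Nat.Coprime.coprime_dvd_left h3 (Nat.Coprime.coprime_dvd_right hy₀o
          (Nat.Coprime.pow n i ((Nat.coprime_primes hs hr).2 (Ne.symm hrs))))
    have h2 : cz y₀ ≤ cz v₂ := by
      by_cases hv₂1 : v₂ = 1
      · rw [hv₂1]
        intro w _
        exact mem_cent.2 (by simp)
      · rw [hczh]
        have hv₂h : v₂ ∈ cz h := by rw [← hczh]; exact hv₂
        refine H.m3' hhj hv₂1 (mem_cent.1 hv₂h) ?_
        rw [hho]
        exact hco
    intro w hw
    rw [hvv, mem_cent]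
    exact comm_mul_of' (mem_cent.1 (h1 hw)) (mem_cent.1 (h2 hw))
  -- moving to the Sylow subgroup
  have hsj := htj s hs hsp hsk
  obtain ⟨g₀, hg₀⟩ := exists_conj_cz_le Rs y₀ (by rw [hy₀j]; exact hsj)
  set y := g₀ * y₀ * g₀⁻¹ with hy
  have hyj : cs y = nj := by rw [hy, cs_conj, hy₀j]
  have hy1 : y ≠ 1 := H.ne_one_j hyj
  have hab' : ∀ x ∈ cz y, cz y ≤ cz x := by
    intro x hx w hw
    have h1 := hab _ (mem_cz_conj.1 hx) (mem_cz_conj.1 hw)
    rw [mem_cent] at h1 ⊢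
    calc w * x = g₀ * ((g₀⁻¹ * w * g₀) * (g₀⁻¹ * x * g₀)) * g₀⁻¹ := by group
      _ = g₀ * ((g₀⁻¹ * x * g₀) * (g₀⁻¹ * w * g₀)) * g₀⁻¹ := by rw [h1]
      _ = x * w := by group
  -- the covering property
  have hzcz : cz y = cz z := by
    have hzy : z ∈ cz y := hg₀ hzR
    exact H.m3 hzj hy1 (hab' z hzy)
  have hPP : H.PP y := by
    refine ⟨hyj, hab', ?_⟩
    intro w hw hwc hwK
    have hwj := hjo hw hwc hwK
    obtain ⟨g, hg⟩ := exists_conj_cz_le Rs w (by rw [hwj]; exact hsj)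
    refine ⟨g, ?_⟩
    rw [hzcz]
    exact mem_cent.2 (mem_cent.1 (hg hzR)).symm
  -- transfer for all primes
  refine H.finalKW hp fun t ht htp htk => ?_
  haveI : Fact t.Prime := ⟨ht⟩
  refine ⟨inferInstance, default, ?_⟩
  set R : Sylow t G := default
  have hRne : (R : Subgroup G) ≠ ⊥ := R.ne_bot_of_dvd_card (htk.trans hkG)
  have hti : ¬ t ∣ ni := fun h => (Nat.Prime.not_coprime_iff_dvd.2 ⟨t, ht, h, htk⟩) hcoprime
  obtain ⟨g, hg⟩ := exists_conj_cz_le R y (by rw [hyj]; exact htj t ht htp htk)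
  exact (hPP.conj H g).transfer H hNB hKp htp hp hti R hRne hg hall

/-- **The main theorem of the chain case.** -/
theorem solvable : Group.IsSolvable G := by
  classical
  by_cases hNB : normalizer (B : Set G) ≤ B
  · exact H.solvable_of_self_normalizing hNB
  by_cases hn : (B ⊔ KK G ni).Normal
  · exact H.thmA hn
  by_cases hex : ∃ w : G, cs w = ni ∧ w ∉ KK G ni
  · obtain ⟨w, hw, hwK⟩ := hex
    obtain ⟨e, p, i, hp, hpi, heK⟩ := exists_primary_pow_not_mem (KK G ni) w hwK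
    have he1 : w ^ e ≠ 1 := by
      intro h0
      rw [h0] at heK
      exact heK (one_mem _)
    have hei : cs (w ^ e) = ni := H.cs_pow_i hw he1
    refine H.finalKW hp fun s hs hsp hsk => ?_
    haveI : Fact s.Prime := ⟨hs⟩
    refine ⟨inferInstance, default, ?_⟩
    set R : Sylow s G := default
    have hsi : ¬ s ∣ ni := fun h => (Nat.Prime.not_coprime_iff_dvd.2 ⟨s, hs, h, hsk⟩) H.coprime_ik
    have hsG : s ∣ Nat.card G := by
      rw [H.card_G]
      exact hsk.trans (Dvd.intro_left _ rfl)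
    obtain ⟨g, hg⟩ := exists_conj_cz_le R (w ^ e) (by rw [hei]; exact hsi)
    refine H.case1_sylow hn hp (a := g * w ^ e * g⁻¹) (n := i) (by rw [cs_conj, hei]) ?_ ?_ hsp R hsG hg
    · rw [conj_pow, hpi]
      simp
    · intro h0
      apply heK
      have := (KK_normal ni).conj_mem _ h0 g⁻¹
      have e' : g⁻¹ * (g * w ^ e * g⁻¹) * g⁻¹⁻¹ = w ^ e := by group
      rwa [e'] at this
  push Not at hex
  obtain ⟨a₁, ha₁⟩ := H.exists_i
  have ha₁1 := H.ne_one_i ha₁
  have ha₁o : orderOf a₁ ≠ 1 := fun h1 => ha₁1 (orderOf_eq_one_iff.1 h1)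
  obtain ⟨p, hp, hpd⟩ := Nat.exists_prime_and_dvd ha₁o
  by_cases hall : ∀ a : G, cs a = ni → ∀ q : ℕ, q.Prime → q ∣ orderOf a → q = p
  · exact H.case2b hNB hex hp hall
  push Not at hall
  obtain ⟨a₂, ha₂, q, hq, hqd, hqp⟩ := hall
  have hp1 := exists_pow_prime hpd
  have hq1 := exists_pow_prime hqd
  have hb1 : a₁ ^ (orderOf a₁ / p) ≠ 1 := by
    intro h0
    rw [h0, orderOf_one] at hp1
    exact hp.one_lt.ne hp1
  have hb2 : a₂ ^ (orderOf a₂ / q) ≠ 1 := by
    intro h0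
    rw [h0, orderOf_one] at hq1
    exact hq.one_lt.ne hq1
  exact H.case2a hex hn (H.cs_pow_i ha₁ hb1) (H.cs_pow_i ha₂ hb2) hp hq hp1 hq1 (Ne.symm hqp)

end HB

/-- **The chain case without commuting elements.** -/
theorem HN.solvable (H : HN G ni nj nk) : Group.IsSolvable G := by
  obtain ⟨B, hCB, hBi, hBc⟩ := H.exists_B
  exact (HB.mk H hCB hBi hBc).solvable

/-- **The chain case.** -/
theorem HZ.solvable (H : HZ G ni nj nk) : Group.IsSolvable G := by
  rcases H.solvable_or_nc with h | h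
  · exact h
  · exact (HN.mk H h).solvable

end Cfsg.Agent.Lib.ItoGen
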