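import Mathlib
import Cfsg.Agent.Lib.ClassicalSmall

/-!
# Centralizers in `SL₂(q)`, `q` even

For `x ≠ 1`, the centralizer of `x` in `SL₂(F)` is in bijection with the solutions of
`α² + τ α β + β² = 1`, where `τ` is the trace of `x`.  There are `q`, `q - 1` or `q + 1` of these.
-/

set_option autoImplicit false
set_option linter.unusedSectionVars false
set_option linter.style.haveILetI false

namespace Cfsg.Agent.Lib.ItoSL2

open Matrix Subgroup

variable {F : Type*} [Field F]

/-- The quadratic form. -/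
def Qf (τ : F) (p : F × F) : F := p.1 ^ 2 + τ * p.1 * p.2 + p.2 ^ 2

/-- The commutant of a non-scalar `2 × 2` matrix. -/
theorem comm_form (x y : Matrix (Fin 2) (Fin 2) F)
    (hx : x 0 1 ≠ 0 ∨ x 1 0 ≠ 0 ∨ x 0 0 ≠ x 1 1) (hxy : x * y = y * x) :
    ∃ α β : F, y = α • 1 + β • x := by
  have e00 := congrFun (congrFun hxy 0) 0
  have e01 := congrFun (congrFun hxy 0) 1
  have e10 := congrFun (congrFun hxy 1) 0
  have e11 := congrFun (congrFun hxy 1) 1
  simp only [Matrix.two_mul_expl] at e00 e01 e10 e11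
  have key : ∀ α β : F, y 0 0 = α + β * x 0 0 → y 0 1 = β * x 0 1 → y 1 0 = β * x 1 0 →
      y 1 1 = α + β * x 1 1 → y = α • 1 + β • x := by
    intro α β h1 h2 h3 h4
    ext i j
    fin_cases i <;> fin_cases j <;> simp [h1, h2, h3, h4]
  by_cases hb : x 0 1 = 0
  · by_cases hc : x 1 0 = 0
    · have had : x 0 0 - x 1 1 ≠ 0 := by
        rcases hx with h | h | h
        · exact absurd hb h
        · exact absurd hc h
        · exact sub_ne_zero.2 h
      rw [hb] at e01
      rw [hc] at e10
      refine ⟨y 0 0 - (y 0 0 - y 1 1) / (x 0 0 - x 1 1) * x 0 0,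
        (y 0 0 - y 1 1) / (x 0 0 - x 1 1), key _ _ ?_ ?_ ?_ ?_⟩
      · ring
      · rw [hb, mul_zero]
        have : (x 0 0 - x 1 1) * y 0 1 = 0 := by linear_combination e01
        exact (mul_eq_zero.1 this).resolve_left had
      · rw [hc, mul_zero]
        have : (x 0 0 - x 1 1) * y 1 0 = 0 := by linear_combination -e10
        exact (mul_eq_zero.1 this).resolve_left had
      · field_simp
        ring
    · refine ⟨y 0 0 - y 1 0 / x 1 0 * x 0 0, y 1 0 / x 1 0, key _ _ ?_ ?_ ?_ ?_⟩
      · ring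
      · field_simp
        linear_combination e11
      · field_simp
      · field_simp
        linear_combination -e10
  · refine ⟨y 0 0 - y 0 1 / x 0 1 * x 0 0, y 0 1 / x 0 1, key _ _ ?_ ?_ ?_ ?_⟩
    · ring
    · field_simp
    · field_simp
      linear_combination e00
    · field_simp
      linear_combination e01

section SL

variable [CharP F 2]

omit [CharP F 2] in
/-- The trace. -/
def tr (x : Matrix.SpecialLinearGroup (Fin 2) F) : F :=
  (x : Matrix (Fin 2) (Fin 2) F) 0 0 + (x : Matrix (Fin 2) (Fin 2) F) 1 1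

theorem two_zero : (2 : F) = 0 := by
  have := CharP.cast_eq_zero F 2
  exact_mod_cast this

theorem eq_of_sq_eq {a b : F} (h : a ^ 2 = b ^ 2) : a = b := by
  have h2 : (2 : F) = 0 := two_zero
  have h3 : (a - b) ^ 2 = 0 := by linear_combination h - (a * b - b ^ 2) * h2
  have h4 := pow_eq_zero_iff (two_ne_zero) |>.1 h3
  exact sub_eq_zero.1 h4

theorem det_eq (x : Matrix.SpecialLinearGroup (Fin 2) F) :
    (x : Matrix (Fin 2) (Fin 2) F) 0 0 * (x : Matrix (Fin 2) (Fin 2) F) 1 1 -
      (x : Matrix (Fin 2) (Fin 2) F) 0 1 * (x : Matrix (Fin 2) (Fin 2) F) 1 0 = 1 := by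
  have := x.2
  rwa [Matrix.det_fin_two] at this

theorem not_scalar {x : Matrix.SpecialLinearGroup (Fin 2) F} (hx : x ≠ 1) :
    (x : Matrix (Fin 2) (Fin 2) F) 0 1 ≠ 0 ∨ (x : Matrix (Fin 2) (Fin 2) F) 1 0 ≠ 0 ∨
      (x : Matrix (Fin 2) (Fin 2) F) 0 0 ≠ (x : Matrix (Fin 2) (Fin 2) F) 1 1 := by
  by_contra hcon
  push Not at hcon
  obtain ⟨h1, h2, h3⟩ := hcon
  have hd := det_eq x
  rw [h1, h3] at hd
  have hr : (x : Matrix (Fin 2) (Fin 2) F) 1 1 = 1 := by
    apply eq_of_sq_eq
    linear_combination hd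
  apply hx
  apply Subtype.ext
  ext i j
  fin_cases i <;> fin_cases j <;> simp [h1, h2, h3, hr]

/-- The element `α + β x` of the matrix algebra. -/
def elemMat (x : Matrix.SpecialLinearGroup (Fin 2) F) (p : F × F) : Matrix (Fin 2) (Fin 2) F :=
  p.1 • 1 + p.2 • (x : Matrix (Fin 2) (Fin 2) F)

omit [CharP F 2] in
theorem det_elem (x : Matrix.SpecialLinearGroup (Fin 2) F) (p : F × F) :
    (elemMat x p).det = Qf (tr x) p := by
  have hd : (x : Matrix (Fin 2) (Fin 2) F) 0 0 * (x : Matrix (Fin 2) (Fin 2) F) 1 1 -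
      (x : Matrix (Fin 2) (Fin 2) F) 0 1 * (x : Matrix (Fin 2) (Fin 2) F) 1 0 = 1 := by
    have := x.2
    rwa [Matrix.det_fin_two] at this
  rw [Matrix.det_fin_two]
  simp only [elemMat, Qf, tr, Matrix.add_apply, Matrix.smul_apply, smul_eq_mul, Matrix.one_apply_eq,
    Matrix.one_apply_ne (zero_ne_one : (0 : Fin 2) ≠ 1), Matrix.one_apply_ne (one_ne_zero : (1 : Fin 2) ≠ 0),
    mul_zero, zero_add, mul_one]
  linear_combination (p.2 ^ 2) * hd

omit [CharP F 2] in
/-- The element `α + β x` of the special linear group. -/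
def toS (x : Matrix.SpecialLinearGroup (Fin 2) F) (p : F × F) (hp : Qf (tr x) p = 1) :
    Matrix.SpecialLinearGroup (Fin 2) F :=
  ⟨elemMat x p, by rw [det_elem, hp]⟩

/-- The centralizer of `x ≠ 1` is parametrized by the solutions of the quadratic equation. -/
theorem card_cz {x : Matrix.SpecialLinearGroup (Fin 2) F} (hx : x ≠ 1) :
    Nat.card (centralizer ({x} : Set (Matrix.SpecialLinearGroup (Fin 2) F))) =
      Nat.card {p : F × F // Qf (tr x) p = 1} := by
  symm
  have hmem : ∀ p : {p : F × F // Qf (tr x) p = 1},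
      toS x p.1 p.2 ∈ centralizer ({x} : Set (Matrix.SpecialLinearGroup (Fin 2) F)) := by
    intro p
    rw [mem_centralizer_singleton_iff]
    apply Subtype.ext
    show elemMat x p.1 * (x : Matrix (Fin 2) (Fin 2) F) =
      (x : Matrix (Fin 2) (Fin 2) F) * elemMat x p.1
    simp only [elemMat, add_mul, mul_add, Matrix.smul_mul, Matrix.mul_smul, one_mul, mul_one]
  let f : {p : F × F // Qf (tr x) p = 1} →
      centralizer ({x} : Set (Matrix.SpecialLinearGroup (Fin 2) F)) := fun p =>
    ⟨toS x p.1 p.2, hmem p⟩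
  refine Nat.card_eq_of_bijective f ⟨?_, ?_⟩
  · rintro ⟨⟨a, b⟩, hp⟩ ⟨⟨a', b'⟩, hp'⟩ h
    have h1 : elemMat x (a, b) = elemMat x (a', b') :=
      congrArg (fun z : centralizer ({x} : Set (Matrix.SpecialLinearGroup (Fin 2) F)) =>
        ((z : Matrix.SpecialLinearGroup (Fin 2) F) : Matrix (Fin 2) (Fin 2) F)) h
    have e00 := congrFun (congrFun h1 0) 0
    have e01 := congrFun (congrFun h1 0) 1
    have e10 := congrFun (congrFun h1 1) 0
    have e11 := congrFun (congrFun h1 1) 1
    simp only [elemMat, Matrix.add_apply, Matrix.smul_apply, smul_eq_mul, Matrix.one_apply_eq,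
      Matrix.one_apply_ne (zero_ne_one : (0 : Fin 2) ≠ 1),
      Matrix.one_apply_ne (one_ne_zero : (1 : Fin 2) ≠ 0), mul_zero, zero_add, mul_one] at e00 e01 e10 e11
    have hbb : b = b' := by
      rcases not_scalar hx with h2 | h2 | h2
      · exact mul_right_cancel₀ h2 e01
      · exact mul_right_cancel₀ h2 e10
      · have h3 : (b - b') * ((x : Matrix (Fin 2) (Fin 2) F) 0 0 - (x : Matrix (Fin 2) (Fin 2) F) 1 1) = 0 := by
          linear_combination e00 - e11
        have h4 := (mul_eq_zero.1 h3).resolve_right (sub_ne_zero.2 h2)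
        exact sub_eq_zero.1 h4
    subst hbb
    have haa : a = a' := by
      have := add_right_cancel e00
      exact this
    subst haa
    rfl
  · rintro ⟨y, hy⟩
    rw [mem_centralizer_singleton_iff] at hy
    have hc : (x : Matrix (Fin 2) (Fin 2) F) * (y : Matrix (Fin 2) (Fin 2) F) =
        (y : Matrix (Fin 2) (Fin 2) F) * (x : Matrix (Fin 2) (Fin 2) F) :=
      (congrArg (fun z : Matrix.SpecialLinearGroup (Fin 2) F => (z : Matrix (Fin 2) (Fin 2) F)) hy).symm
    obtain ⟨α, β, h⟩ := comm_form _ _ (not_scalar hx) hc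
    have he : (y : Matrix (Fin 2) (Fin 2) F) = elemMat x (α, β) := h
    have hq : Qf (tr x) (α, β) = 1 := by
      rw [← det_elem, ← he]
      exact y.2
    refine ⟨⟨(α, β), hq⟩, ?_⟩
    apply Subtype.ext
    apply Subtype.ext
    exact he.symm

/-- Trace zero: `q` solutions. -/
theorem count_zero : Nat.card {p : F × F // Qf 0 p = 1} = Nat.card F := by
  have h2 : (2 : F) = 0 := two_zero
  symm
  refine Nat.card_eq_of_bijective (fun a : F => (⟨(a, 1 + a), ?_⟩ : {p : F × F // Qf 0 p = 1})) ⟨?_, ?_⟩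
  · simp only [Qf]
    linear_combination (a ^ 2 + a) * h2
  · intro a b h
    exact congrArg (fun z : {p : F × F // Qf 0 p = 1} => z.1.1) h
  · rintro ⟨⟨a, b⟩, h⟩
    refine ⟨a, ?_⟩
    apply Subtype.ext
    simp only [Prod.mk.injEq, true_and]
    have h3 : (1 + a) ^ 2 = b ^ 2 := by
      simp only [Qf] at h
      linear_combination -h + (a + a ^ 2) * h2
    exact eq_of_sq_eq h3

/-- Non-zero trace, with a root: `q - 1` solutions. -/
theorem count_root {τ ρ : F} (hτ : τ ≠ 0) (hρ : ρ ^ 2 + τ * ρ + 1 = 0) :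
    Nat.card {p : F × F // Qf τ p = 1} = Nat.card F - 1 := by
  have h2 : (2 : F) = 0 := two_zero
  rw [← Nat.card_units]
  set σ := τ + ρ with hσ
  have hρσ : ρ * σ = 1 := by
    rw [hσ]
    linear_combination hρ - h2
  have hfac : ∀ p : F × F, (p.1 + ρ * p.2) * (p.1 + σ * p.2) = Qf τ p := by
    intro p
    simp only [Qf]
    rw [hσ] at hρσ ⊢
    linear_combination (p.2 ^ 2) * hρσ + (p.1 * p.2 * ρ) * h2
  refine Nat.card_eq_of_bijective (fun p : {p : F × F // Qf τ p = 1} =>
    Units.mk (p.1.1 + ρ * p.1.2) (p.1.1 + σ * p.1.2) (by rw [hfac, p.2])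
      (by rw [mul_comm, hfac, p.2])) ⟨?_, ?_⟩
  · rintro ⟨⟨a, b⟩, hp⟩ ⟨⟨a', b'⟩, hp'⟩ h
    have h1 : a + ρ * b = a' + ρ * b' := congrArg Units.val h
    have h3 : a + σ * b = a' + σ * b' := congrArg (fun u : Fˣ => ((u⁻¹ : Fˣ) : F)) h
    have h4 : τ * (b - b') = 0 := by
      rw [hσ] at h3
      linear_combination h3 - h1
    have hb : b = b' := sub_eq_zero.1 ((mul_eq_zero.1 h4).resolve_left hτ)
    subst hb
    have ha : a = a' := add_right_cancel h1
    subst ha
    rfl
  · intro u
    have hu : (u : F) * ((u⁻¹ : Fˣ) : F) = 1 := u.mul_inv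
    set v : F := ((u⁻¹ : Fˣ) : F) with hv
    -- `β = (u + v) / τ`, `α = u + ρ β`
    set β := (u + v) / τ with hβ
    set α := (u : F) + ρ * β with hα
    have e1 : α + ρ * β = u := by
      rw [hα]
      linear_combination (ρ * β) * h2
    have e2 : α + σ * β = v := by
      have h5 : τ * β = u + v := by
        rw [hβ]
        field_simp
      rw [hα, hσ]
      linear_combination h5 + ((u : F) + ρ * β) * h2
    have hq : Qf τ (α, β) = 1 := by
      rw [← hfac]
      simp only
      rw [e1, e2, hu]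
    refine ⟨⟨(α, β), hq⟩, ?_⟩
    apply Units.ext
    exact e1

/-- Non-zero trace, no root: `q + 1` solutions. -/
theorem count_noroot [Finite F] {τ : F} (hτ : ∀ ρ : F, ρ ^ 2 + τ * ρ + 1 ≠ 0) :
    Nat.card {p : F × F // Qf τ p = 1} = Nat.card F + 1 := by
  classical
  letI : Fintype F := Fintype.ofFinite F
  have h2 : (2 : F) = 0 := two_zero
  have hne : ∀ p : F × F, p ≠ 0 → Qf τ p ≠ 0 := by
    rintro ⟨a, b⟩ hp h0
    simp only [Qf] at h0
    by_cases hb : b = 0
    · subst hb
      simp only [mul_zero, add_zero] at h0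
      have ha : a = 0 := by
        have : a ^ 2 = 0 := by
          simpa using h0
        exact pow_eq_zero_iff (two_ne_zero) |>.1 this
      subst ha
      exact hp rfl
    · apply hτ (a / b)
      field_simp
      linear_combination h0
  have hscale : ∀ (s : F) (p : F × F), Qf τ (s * p.1, s * p.2) = s ^ 2 * Qf τ p := by
    intro s p
    simp only [Qf]
    ring
  have hbij : Function.Bijective (fun z : Fˣ × {p : F × F // Qf τ p = 1} =>
      (⟨((z.1 : F) * z.2.1.1, (z.1 : F) * z.2.1.2), by
        intro h0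
        have h3 : Qf τ (((z.1 : F) * z.2.1.1, (z.1 : F) * z.2.1.2) : F × F) = 0 := by
          rw [h0]
          simp [Qf]
        rw [hscale, z.2.2, mul_one] at h3
        exact z.1.ne_zero (pow_eq_zero_iff (two_ne_zero) |>.1 h3)⟩ : {p : F × F // p ≠ 0})) := by
    constructor
    · rintro ⟨s, ⟨⟨a, b⟩, hp⟩⟩ ⟨s', ⟨⟨a', b'⟩, hp'⟩⟩ h
      have h1 := congrArg Subtype.val h
      simp only [Prod.mk.injEq] at h1
      obtain ⟨h3, h4⟩ := h1
      have h5 : ((s : F)) ^ 2 = (s' : F) ^ 2 := by
        have e1 := hscale (s : F) (a, b)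
        have e2 := hscale (s' : F) (a', b')
        simp only at e1 e2
        rw [h3, h4, e2, hp, hp'] at e1
        simpa using e1.symm
      have h6 : (s : F) = s' := eq_of_sq_eq h5
      have h7 : s = s' := Units.ext h6
      subst h7
      have ha : a = a' := mul_left_cancel₀ s.ne_zero h3
      have hb : b = b' := mul_left_cancel₀ s.ne_zero h4
      subst ha hb
      rfl
    · rintro ⟨p, hp⟩
      have hc := hne p hp
      obtain ⟨s, hs⟩ := FiniteField.isSquare_of_char_two
        (by rw [ringChar.eq F 2]) (Qf τ p)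
      have hs0 : s ≠ 0 := by
        rintro rfl
        rw [mul_zero] at hs
        exact hc hs
      refine ⟨⟨Units.mk0 s hs0, ⟨(s⁻¹ * p.1, s⁻¹ * p.2), ?_⟩⟩, ?_⟩
      · rw [hscale, hs]
        field_simp
      · apply Subtype.ext
        apply Prod.ext
        · simp only [Units.val_mk0]
          field_simp
        · simp only [Units.val_mk0]
          field_simp
  have hcard := Nat.card_congr (Equiv.ofBijective _ hbij)
  rw [Nat.card_prod, Nat.card_units] at hcard
  have hc2 : Nat.card {p : F × F // p ≠ 0} = Nat.card F * Nat.card F - 1 := by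
    rw [Nat.card_eq_fintype_card, Fintype.card_subtype_compl, Fintype.card_prod]
    simp only [Fintype.card_unique, Nat.card_eq_fintype_card]
  rw [hc2] at hcard
  have hq : 2 ≤ Nat.card F := by
    rw [Nat.card_eq_fintype_card]
    exact Fintype.one_lt_card
  obtain ⟨k, hk⟩ : ∃ k, Nat.card F = k + 2 := ⟨Nat.card F - 2, by omega⟩
  rw [hk] at hcard ⊢
  have e1 : (k + 2) * (k + 2) - 1 = (k + 2 - 1) * (k + 2 + 1) := by
    have : (k + 2) * (k + 2) = (k + 1) * (k + 3) + 1 := by ring
    rw [this]
    simp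
  rw [e1] at hcard
  exact Nat.eq_of_mul_eq_mul_left (by omega) hcard

/-- A non-zero `τ` with no root exists. -/
theorem exists_noroot [Finite F] : ∃ τ : F, ∀ ρ : F, ρ ^ 2 + τ * ρ + 1 ≠ 0 := by
  have h2 : (2 : F) = 0 := two_zero
  let f : F → F := fun ρ => (ρ ^ 2 + 1) / ρ
  have hf0 : f 0 = 0 := by simp [f]
  have hf1 : f 1 = 0 := by
    simp only [f]
    rw [one_pow, div_one]
    linear_combination h2
  have hni : ¬ Function.Injective f := by
    intro hi
    have := hi (hf0.trans hf1.symm)
    exact zero_ne_one this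
  have hns : ¬ Function.Surjective f := fun hs => hni (Finite.injective_iff_surjective.2 hs)
  simp only [Function.Surjective, not_forall, not_exists] at hns
  obtain ⟨τ, hτ⟩ := hns
  refine ⟨τ, fun ρ h0 => ?_⟩
  have hρ : ρ ≠ 0 := by
    rintro rfl
    simp at h0
  apply hτ ρ
  simp only [f]
  field_simp
  linear_combination h0 - (τ * ρ) * h2

/-- The possible orders of centralizers. -/
theorem card_cz_cases [Finite F] {x : Matrix.SpecialLinearGroup (Fin 2) F} (hx : x ≠ 1) :
    Nat.card (centralizer ({x} : Set (Matrix.SpecialLinearGroup (Fin 2) F))) = Nat.card F ∨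
    Nat.card (centralizer ({x} : Set (Matrix.SpecialLinearGroup (Fin 2) F))) = Nat.card F - 1 ∨
    Nat.card (centralizer ({x} : Set (Matrix.SpecialLinearGroup (Fin 2) F))) = Nat.card F + 1 := by
  rw [card_cz hx]
  by_cases h0 : tr x = 0
  · rw [h0]
    exact Or.inl count_zero
  · by_cases hr : ∃ ρ : F, ρ ^ 2 + tr x * ρ + 1 = 0
    · obtain ⟨ρ, hρ⟩ := hr
      exact Or.inr (Or.inl (count_root h0 hρ))
    · push Not at hr
      exact Or.inr (Or.inr (count_noroot hr))

/-- The three orders are attained. -/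
theorem exists_cz_eq [Finite F] (hq : 3 ≤ Nat.card F) :
    (∃ x : Matrix.SpecialLinearGroup (Fin 2) F, x ≠ 1 ∧
      Nat.card (centralizer ({x} : Set (Matrix.SpecialLinearGroup (Fin 2) F))) = Nat.card F) ∧
    (∃ x : Matrix.SpecialLinearGroup (Fin 2) F, x ≠ 1 ∧
      Nat.card (centralizer ({x} : Set (Matrix.SpecialLinearGroup (Fin 2) F))) = Nat.card F - 1) ∧
    (∃ x : Matrix.SpecialLinearGroup (Fin 2) F, x ≠ 1 ∧
      Nat.card (centralizer ({x} : Set (Matrix.SpecialLinearGroup (Fin 2) F))) = Nat.card F + 1) := by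
  have h2 : (2 : F) = 0 := two_zero
  refine ⟨?_, ?_, ?_⟩
  · -- a transvection
    let x : Matrix.SpecialLinearGroup (Fin 2) F := ⟨!![1, 1; 0, 1], by simp [Matrix.det_fin_two]⟩
    have hx : x ≠ 1 := by
      intro h
      have := congrFun (congrFun (congrArg Subtype.val h) 0) 1
      simp [x] at this
    refine ⟨x, hx, ?_⟩
    rw [card_cz hx]
    have ht : tr x = 0 := by
      simp only [tr, x]
      simp only [Matrix.of_apply, Matrix.cons_val', Matrix.cons_val_zero, Matrix.cons_val_one,
        Matrix.cons_val_fin_one]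
      linear_combination h2
    rw [ht]
    exact count_zero
  · -- a diagonal element
    obtain ⟨μ, hμ0, hμ1⟩ : ∃ μ : F, μ ≠ 0 ∧ μ ≠ 1 := by
      classical
      letI : Fintype F := Fintype.ofFinite F
      by_contra hcon
      push Not at hcon
      have h1 : (Finset.univ : Finset F) ⊆ {0, 1} := by
        intro a _
        by_cases ha : a = 0
        · simp [ha]
        · simp [hcon a ha]
      have h3 := Finset.card_le_card h1
      rw [Finset.card_univ, ← Nat.card_eq_fintype_card] at h3
      have h4 : ({0, 1} : Finset F).card ≤ 2 := Finset.card_le_two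
      omega
    let x : Matrix.SpecialLinearGroup (Fin 2) F := ⟨!![μ, 0; 0, μ⁻¹], by
      simp [Matrix.det_fin_two, hμ0]⟩
    have hx : x ≠ 1 := by
      intro h
      have := congrFun (congrFun (congrArg Subtype.val h) 0) 0
      simp [x] at this
      exact hμ1 this
    refine ⟨x, hx, ?_⟩
    rw [card_cz hx]
    have ht : tr x = μ + μ⁻¹ := by
      simp only [tr, x]
      simp only [Matrix.of_apply, Matrix.cons_val', Matrix.cons_val_zero, Matrix.cons_val_one,
        Matrix.cons_val_fin_one]
    rw [ht]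
    refine count_root (ρ := μ) ?_ ?_
    · intro h0
      apply hμ1
      apply eq_of_sq_eq
      have : μ ^ 2 = 1 := by
        field_simp at h0
        linear_combination h0 - h2
      rw [this, one_pow]
    · field_simp
      linear_combination (μ ^ 2 + 1) * h2
  · obtain ⟨τ, hτ⟩ := exists_noroot (F := F)
    let x : Matrix.SpecialLinearGroup (Fin 2) F := ⟨!![0, 1; 1, τ], by
      simp only [Matrix.det_fin_two, Matrix.of_apply, Matrix.cons_val', Matrix.cons_val_zero,
        Matrix.cons_val_one, Matrix.cons_val_fin_one]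
      linear_combination -h2⟩
    have hx : x ≠ 1 := by
      intro h
      have := congrFun (congrFun (congrArg Subtype.val h) 0) 0
      simp [x] at this
    refine ⟨x, hx, ?_⟩
    rw [card_cz hx]
    have ht : tr x = τ := by
      simp only [tr, x]
      simp only [Matrix.of_apply, Matrix.cons_val', Matrix.cons_val_zero, Matrix.cons_val_one,
        Matrix.cons_val_fin_one]
      simp
    rw [ht]
    exact count_noroot hτ

end SL

end Cfsg.Agent.Lib.ItoSL2
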