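import Mathlib

set_option autoImplicit false

namespace Cfsg.Agent.Lib.J1Mat

/-- A 7×7 matrix with natural number entries, as a flat structure (fast in the kernel). -/
structure M7 where
  (a00 : Nat)
  (a01 : Nat)
  (a02 : Nat)
  (a03 : Nat)
  (a04 : Nat)
  (a05 : Nat)
  (a06 : Nat)
  (a10 : Nat)
  (a11 : Nat)
  (a12 : Nat)
  (a13 : Nat)
  (a14 : Nat)
  (a15 : Nat)
  (a16 : Nat)
  (a20 : Nat)
  (a21 : Nat)
  (a22 : Nat)
  (a23 : Nat)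
  (a24 : Nat)
  (a25 : Nat)
  (a26 : Nat)
  (a30 : Nat)
  (a31 : Nat)
  (a32 : Nat)
  (a33 : Nat)
  (a34 : Nat)
  (a35 : Nat)
  (a36 : Nat)
  (a40 : Nat)
  (a41 : Nat)
  (a42 : Nat)
  (a43 : Nat)
  (a44 : Nat)
  (a45 : Nat)
  (a46 : Nat)
  (a50 : Nat)
  (a51 : Nat)
  (a52 : Nat)
  (a53 : Nat)
  (a54 : Nat)
  (a55 : Nat)
  (a56 : Nat)
  (a60 : Nat)
  (a61 : Nat)
  (a62 : Nat)
  (a63 : Nat)
  (a64 : Nat)
  (a65 : Nat)
  (a66 : Nat)

/-- Dot product modulo 11. -/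
def dot (a0 b0 : Nat) (a1 b1 : Nat) (a2 b2 : Nat) (a3 b3 : Nat) (a4 b4 : Nat) (a5 b5 : Nat) (a6 b6 : Nat) : Nat := Nat.mod (Nat.add (Nat.add (Nat.add (Nat.add (Nat.add (Nat.add (Nat.mul a0 b0) (Nat.mul a1 b1)) (Nat.mul a2 b2)) (Nat.mul a3 b3)) (Nat.mul a4 b4)) (Nat.mul a5 b5)) (Nat.mul a6 b6)) (nat_lit 11)

theorem dot_cast (a0 b0 : Nat) (a1 b1 : Nat) (a2 b2 : Nat) (a3 b3 : Nat) (a4 b4 : Nat) (a5 b5 : Nat) (a6 b6 : Nat) : ((dot a0 b0 a1 b1 a2 b2 a3 b3 a4 b4 a5 b5 a6 b6 : Nat) : ZMod 11) = (a0 : ZMod 11) * (b0 : ZMod 11) + (a1 : ZMod 11) * (b1 : ZMod 11) + (a2 : ZMod 11) * (b2 : ZMod 11) + (a3 : ZMod 11) * (b3 : ZMod 11) + (a4 : ZMod 11) * (b4 : ZMod 11) + (a5 : ZMod 11) * (b5 : ZMod 11) + (a6 : ZMod 11) * (b6 : ZMod 11) := by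
  unfold dot
  rw [show Nat.mod = HMod.hMod from rfl, ZMod.natCast_mod]
  simp [show Nat.add = HAdd.hAdd from rfl, show Nat.mul = HMul.hMul from rfl]

/-- Matrix product, entries reduced modulo 11. -/
def mm : M7 → M7 → M7
  | ⟨a00,a01,a02,a03,a04,a05,a06,a10,a11,a12,a13,a14,a15,a16,a20,a21,a22,a23,a24,a25,a26,a30,a31,a32,a33,a34,a35,a36,a40,a41,a42,a43,a44,a45,a46,a50,a51,a52,a53,a54,a55,a56,a60,a61,a62,a63,a64,a65,a66⟩, ⟨b00,b01,b02,b03,b04,b05,b06,b10,b11,b12,b13,b14,b15,b16,b20,b21,b22,b23,b24,b25,b26,b30,b31,b32,b33,b34,b35,b36,b40,b41,b42,b43,b44,b45,b46,b50,b51,b52,b53,b54,b55,b56,b60,b61,b62,b63,b64,b65,b66⟩ => ⟨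
    (dot a00 b00 a01 b10 a02 b20 a03 b30 a04 b40 a05 b50 a06 b60),
    (dot a00 b01 a01 b11 a02 b21 a03 b31 a04 b41 a05 b51 a06 b61),
    (dot a00 b02 a01 b12 a02 b22 a03 b32 a04 b42 a05 b52 a06 b62),
    (dot a00 b03 a01 b13 a02 b23 a03 b33 a04 b43 a05 b53 a06 b63),
    (dot a00 b04 a01 b14 a02 b24 a03 b34 a04 b44 a05 b54 a06 b64),
    (dot a00 b05 a01 b15 a02 b25 a03 b35 a04 b45 a05 b55 a06 b65),
    (dot a00 b06 a01 b16 a02 b26 a03 b36 a04 b46 a05 b56 a06 b66),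
    (dot a10 b00 a11 b10 a12 b20 a13 b30 a14 b40 a15 b50 a16 b60),
    (dot a10 b01 a11 b11 a12 b21 a13 b31 a14 b41 a15 b51 a16 b61),
    (dot a10 b02 a11 b12 a12 b22 a13 b32 a14 b42 a15 b52 a16 b62),
    (dot a10 b03 a11 b13 a12 b23 a13 b33 a14 b43 a15 b53 a16 b63),
    (dot a10 b04 a11 b14 a12 b24 a13 b34 a14 b44 a15 b54 a16 b64),
    (dot a10 b05 a11 b15 a12 b25 a13 b35 a14 b45 a15 b55 a16 b65),
    (dot a10 b06 a11 b16 a12 b26 a13 b36 a14 b46 a15 b56 a16 b66),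
    (dot a20 b00 a21 b10 a22 b20 a23 b30 a24 b40 a25 b50 a26 b60),
    (dot a20 b01 a21 b11 a22 b21 a23 b31 a24 b41 a25 b51 a26 b61),
    (dot a20 b02 a21 b12 a22 b22 a23 b32 a24 b42 a25 b52 a26 b62),
    (dot a20 b03 a21 b13 a22 b23 a23 b33 a24 b43 a25 b53 a26 b63),
    (dot a20 b04 a21 b14 a22 b24 a23 b34 a24 b44 a25 b54 a26 b64),
    (dot a20 b05 a21 b15 a22 b25 a23 b35 a24 b45 a25 b55 a26 b65),
    (dot a20 b06 a21 b16 a22 b26 a23 b36 a24 b46 a25 b56 a26 b66),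
    (dot a30 b00 a31 b10 a32 b20 a33 b30 a34 b40 a35 b50 a36 b60),
    (dot a30 b01 a31 b11 a32 b21 a33 b31 a34 b41 a35 b51 a36 b61),
    (dot a30 b02 a31 b12 a32 b22 a33 b32 a34 b42 a35 b52 a36 b62),
    (dot a30 b03 a31 b13 a32 b23 a33 b33 a34 b43 a35 b53 a36 b63),
    (dot a30 b04 a31 b14 a32 b24 a33 b34 a34 b44 a35 b54 a36 b64),
    (dot a30 b05 a31 b15 a32 b25 a33 b35 a34 b45 a35 b55 a36 b65),
    (dot a30 b06 a31 b16 a32 b26 a33 b36 a34 b46 a35 b56 a36 b66),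
    (dot a40 b00 a41 b10 a42 b20 a43 b30 a44 b40 a45 b50 a46 b60),
    (dot a40 b01 a41 b11 a42 b21 a43 b31 a44 b41 a45 b51 a46 b61),
    (dot a40 b02 a41 b12 a42 b22 a43 b32 a44 b42 a45 b52 a46 b62),
    (dot a40 b03 a41 b13 a42 b23 a43 b33 a44 b43 a45 b53 a46 b63),
    (dot a40 b04 a41 b14 a42 b24 a43 b34 a44 b44 a45 b54 a46 b64),
    (dot a40 b05 a41 b15 a42 b25 a43 b35 a44 b45 a45 b55 a46 b65),
    (dot a40 b06 a41 b16 a42 b26 a43 b36 a44 b46 a45 b56 a46 b66),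
    (dot a50 b00 a51 b10 a52 b20 a53 b30 a54 b40 a55 b50 a56 b60),
    (dot a50 b01 a51 b11 a52 b21 a53 b31 a54 b41 a55 b51 a56 b61),
    (dot a50 b02 a51 b12 a52 b22 a53 b32 a54 b42 a55 b52 a56 b62),
    (dot a50 b03 a51 b13 a52 b23 a53 b33 a54 b43 a55 b53 a56 b63),
    (dot a50 b04 a51 b14 a52 b24 a53 b34 a54 b44 a55 b54 a56 b64),
    (dot a50 b05 a51 b15 a52 b25 a53 b35 a54 b45 a55 b55 a56 b65),
    (dot a50 b06 a51 b16 a52 b26 a53 b36 a54 b46 a55 b56 a56 b66),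
    (dot a60 b00 a61 b10 a62 b20 a63 b30 a64 b40 a65 b50 a66 b60),
    (dot a60 b01 a61 b11 a62 b21 a63 b31 a64 b41 a65 b51 a66 b61),
    (dot a60 b02 a61 b12 a62 b22 a63 b32 a64 b42 a65 b52 a66 b62),
    (dot a60 b03 a61 b13 a62 b23 a63 b33 a64 b43 a65 b53 a66 b63),
    (dot a60 b04 a61 b14 a62 b24 a63 b34 a64 b44 a65 b54 a66 b64),
    (dot a60 b05 a61 b15 a62 b25 a63 b35 a64 b45 a65 b55 a66 b65),
    (dot a60 b06 a61 b16 a62 b26 a63 b36 a64 b46 a65 b56 a66 b66)⟩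

/-- Transpose. -/
def tr : M7 → M7
  | ⟨a00,a01,a02,a03,a04,a05,a06,a10,a11,a12,a13,a14,a15,a16,a20,a21,a22,a23,a24,a25,a26,a30,a31,a32,a33,a34,a35,a36,a40,a41,a42,a43,a44,a45,a46,a50,a51,a52,a53,a54,a55,a56,a60,a61,a62,a63,a64,a65,a66⟩ => ⟨a00,a10,a20,a30,a40,a50,a60,a01,a11,a21,a31,a41,a51,a61,a02,a12,a22,a32,a42,a52,a62,a03,a13,a23,a33,a43,a53,a63,a04,a14,a24,a34,a44,a54,a64,a05,a15,a25,a35,a45,a55,a65,a06,a16,a26,a36,a46,a56,a66⟩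

/-- A code, injective on matrices modulo 11. -/
def code : M7 → Nat
  | ⟨a00,a01,a02,a03,a04,a05,a06,a10,a11,a12,a13,a14,a15,a16,a20,a21,a22,a23,a24,a25,a26,a30,a31,a32,a33,a34,a35,a36,a40,a41,a42,a43,a44,a45,a46,a50,a51,a52,a53,a54,a55,a56,a60,a61,a62,a63,a64,a65,a66⟩ => (Nat.add (Nat.mul (Nat.add (Nat.mul (Nat.add (Nat.mul (Nat.add (Nat.mul (Nat.add (Nat.mul (Nat.add (Nat.mul (Nat.add (Nat.mul (Nat.add (Nat.mul (Nat.add (Nat.mul (Nat.add (Nat.mul (Nat.add (Nat.mul (Nat.add (Nat.mul (Nat.add (Nat.mul (Nat.add (Nat.mul (Nat.add (Nat.mul (Nat.add (Nat.mul (Nat.add (Nat.mul (Nat.add (Nat.mul (Nat.add (Nat.mul (Nat.add (Nat.mul (Nat.add (Nat.mul (Nat.add (Nat.mul (Nat.add (Nat.mul (Nat.add (Nat.mul (Nat.add (Nat.mul (Nat.add (Nat.mul (Nat.add (Nat.mul (Nat.add (Nat.mul (Nat.add (Nat.mul (Nat.add (Nat.mul (Nat.add (Nat.mul (Nat.add (Nat.mul (Nat.add (Nat.mul (Nat.add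 (Nat.mul (Nat.add (Nat.mul (Nat.add (Nat.mul (Nat.add (Nat.mul (Nat.add (Nat.mul (Nat.add (Nat.mul (Nat.add (Nat.mul (Nat.add (Nat.mul (Nat.add (Nat.mul (Nat.add (Nat.mul (Nat.add (Nat.mul (Nat.add (Nat.mul (Nat.add (Nat.mul (Nat.add (Nat.mul (Nat.add (Nat.mul (Nat.add (Nat.mul (nat_lit 0) (nat_lit 11)) (Nat.mod a66 (nat_lit 11))) (nat_lit 11)) (Nat.mod a65 (nat_lit 11))) (nat_lit 11)) (Nat.mod a64 (nat_lit 11))) (nat_lit 11)) (Nat.mod a63 (nat_lit 11))) (nat_lit 11)) (Nat.mod a62 (nat_lit 11))) (nat_lit 11)) (Nat.mod a61 (nat_lit 11))) (nat_lit 11)) (Nat.mod a60 (nat_lit 11))) (nat_lit 11)) (Nat.mod a56 (nat_lit 11))) (nat_lit 11)) (Nat.mod a55 (nat_lit 11))) (nat_lit 11)) (Nat.mod a54 (nat_lit 11))) (nat_lit 11)) (Nat.mod a53 (nat_lit 11))) (nat_lit 11)) (Nat.mod a52 (nat_lit 11))) (nat_lit 11)) (Nat.mod a51 (nat_lit 11))) (nat_lit 11)) (Nat.mod a50 (nat_lit 11)))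 (nat_lit 11)) (Nat.mod a46 (nat_lit 11))) (nat_lit 11)) (Nat.mod a45 (nat_lit 11))) (nat_lit 11)) (Nat.mod a44 (nat_lit 11))) (nat_lit 11)) (Nat.mod a43 (nat_lit 11))) (nat_lit 11)) (Nat.mod a42 (nat_lit 11))) (nat_lit 11)) (Nat.mod a41 (nat_lit 11))) (nat_lit 11)) (Nat.mod a40 (nat_lit 11))) (nat_lit 11)) (Nat.mod a36 (nat_lit 11))) (nat_lit 11)) (Nat.mod a35 (nat_lit 11))) (nat_lit 11)) (Nat.mod a34 (nat_lit 11))) (nat_lit 11)) (Nat.mod a33 (nat_lit 11))) (nat_lit 11)) (Nat.mod a32 (nat_lit 11))) (nat_lit 11)) (Nat.mod a31 (nat_lit 11))) (nat_lit 11)) (Nat.mod a30 (nat_lit 11))) (nat_lit 11)) (Nat.mod a26 (nat_lit 11))) (nat_lit 11)) (Nat.mod a25 (nat_lit 11))) (nat_lit 11)) (Nat.mod a24 (nat_lit 11))) (nat_lit 11)) (Nat.mod a23 (nat_lit 11))) (nat_lit 11)) (Nat.mod a22 (nat_lit 11))) (nat_lit 11)) (Nat.mod a21 (nat_lit 11))) (nat_lit 11)) (Nat.mod a20 (nat_lit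 11))) (nat_lit 11)) (Nat.mod a16 (nat_lit 11))) (nat_lit 11)) (Nat.mod a15 (nat_lit 11))) (nat_lit 11)) (Nat.mod a14 (nat_lit 11))) (nat_lit 11)) (Nat.mod a13 (nat_lit 11))) (nat_lit 11)) (Nat.mod a12 (nat_lit 11))) (nat_lit 11)) (Nat.mod a11 (nat_lit 11))) (nat_lit 11)) (Nat.mod a10 (nat_lit 11))) (nat_lit 11)) (Nat.mod a06 (nat_lit 11))) (nat_lit 11)) (Nat.mod a05 (nat_lit 11))) (nat_lit 11)) (Nat.mod a04 (nat_lit 11))) (nat_lit 11)) (Nat.mod a03 (nat_lit 11))) (nat_lit 11)) (Nat.mod a02 (nat_lit 11))) (nat_lit 11)) (Nat.mod a01 (nat_lit 11))) (nat_lit 11)) (Nat.mod a00 (nat_lit 11)))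

/-- Entrywise equality modulo 11. -/
def eqM : M7 → M7 → Bool
  | ⟨a00,a01,a02,a03,a04,a05,a06,a10,a11,a12,a13,a14,a15,a16,a20,a21,a22,a23,a24,a25,a26,a30,a31,a32,a33,a34,a35,a36,a40,a41,a42,a43,a44,a45,a46,a50,a51,a52,a53,a54,a55,a56,a60,a61,a62,a63,a64,a65,a66⟩, ⟨b00,b01,b02,b03,b04,b05,b06,b10,b11,b12,b13,b14,b15,b16,b20,b21,b22,b23,b24,b25,b26,b30,b31,b32,b33,b34,b35,b36,b40,b41,b42,b43,b44,b45,b46,b50,b51,b52,b53,b54,b55,b56,b60,b61,b62,b63,b64,b65,b66⟩ => (and (Nat.beq (Nat.mod a00 (nat_lit 11)) (Nat.mod b00 (nat_lit 11))) (and (Nat.beq (Nat.mod a01 (nat_lit 11)) (Nat.mod b01 (nat_lit 11))) (and (Nat.beq (Nat.mod a02 (nat_lit 11)) (Nat.mod b02 (nat_lit 11))) (and (Nat.beq (Nat.mod a03 (nat_lit 11)) (Nat.mod b03 (nat_lit 11))) (and (Nat.beq (Nat.mod a04 (nat_lit 11)) (Nat.mod b04 (nat_lit 11))) (and (Nat.beq (Nat.mod a05 (nat_lit 11)) (Nat.mod b05 (nat_lit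 11))) (and (Nat.beq (Nat.mod a06 (nat_lit 11)) (Nat.mod b06 (nat_lit 11))) (and (Nat.beq (Nat.mod a10 (nat_lit 11)) (Nat.mod b10 (nat_lit 11))) (and (Nat.beq (Nat.mod a11 (nat_lit 11)) (Nat.mod b11 (nat_lit 11))) (and (Nat.beq (Nat.mod a12 (nat_lit 11)) (Nat.mod b12 (nat_lit 11))) (and (Nat.beq (Nat.mod a13 (nat_lit 11)) (Nat.mod b13 (nat_lit 11))) (and (Nat.beq (Nat.mod a14 (nat_lit 11)) (Nat.mod b14 (nat_lit 11))) (and (Nat.beq (Nat.mod a15 (nat_lit 11)) (Nat.mod b15 (nat_lit 11))) (and (Nat.beq (Nat.mod a16 (nat_lit 11)) (Nat.mod b16 (nat_lit 11))) (and (Nat.beq (Nat.mod a20 (nat_lit 11)) (Nat.mod b20 (nat_lit 11))) (and (Nat.beq (Nat.mod a21 (nat_lit 11)) (Nat.mod b21 (nat_lit 11))) (and (Nat.beq (Nat.mod a22 (nat_lit 11)) (Nat.mod b22 (nat_lit 11))) (and (Nat.beq (Nat.mod a23 (nat_lit 11)) (Nat.mod b23 (nat_lit 11))) (and (Nat.beq (Nat.mod a24 (nat_lit 11))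 (Nat.mod b24 (nat_lit 11))) (and (Nat.beq (Nat.mod a25 (nat_lit 11)) (Nat.mod b25 (nat_lit 11))) (and (Nat.beq (Nat.mod a26 (nat_lit 11)) (Nat.mod b26 (nat_lit 11))) (and (Nat.beq (Nat.mod a30 (nat_lit 11)) (Nat.mod b30 (nat_lit 11))) (and (Nat.beq (Nat.mod a31 (nat_lit 11)) (Nat.mod b31 (nat_lit 11))) (and (Nat.beq (Nat.mod a32 (nat_lit 11)) (Nat.mod b32 (nat_lit 11))) (and (Nat.beq (Nat.mod a33 (nat_lit 11)) (Nat.mod b33 (nat_lit 11))) (and (Nat.beq (Nat.mod a34 (nat_lit 11)) (Nat.mod b34 (nat_lit 11))) (and (Nat.beq (Nat.mod a35 (nat_lit 11)) (Nat.mod b35 (nat_lit 11))) (and (Nat.beq (Nat.mod a36 (nat_lit 11)) (Nat.mod b36 (nat_lit 11))) (and (Nat.beq (Nat.mod a40 (nat_lit 11)) (Nat.mod b40 (nat_lit 11))) (and (Nat.beq (Nat.mod a41 (nat_lit 11)) (Nat.mod b41 (nat_lit 11))) (and (Nat.beq (Nat.mod a42 (nat_lit 11)) (Nat.mod b42 (nat_lit 11))) (and (Nat.beq (Nat.mod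 a43 (nat_lit 11)) (Nat.mod b43 (nat_lit 11))) (and (Nat.beq (Nat.mod a44 (nat_lit 11)) (Nat.mod b44 (nat_lit 11))) (and (Nat.beq (Nat.mod a45 (nat_lit 11)) (Nat.mod b45 (nat_lit 11))) (and (Nat.beq (Nat.mod a46 (nat_lit 11)) (Nat.mod b46 (nat_lit 11))) (and (Nat.beq (Nat.mod a50 (nat_lit 11)) (Nat.mod b50 (nat_lit 11))) (and (Nat.beq (Nat.mod a51 (nat_lit 11)) (Nat.mod b51 (nat_lit 11))) (and (Nat.beq (Nat.mod a52 (nat_lit 11)) (Nat.mod b52 (nat_lit 11))) (and (Nat.beq (Nat.mod a53 (nat_lit 11)) (Nat.mod b53 (nat_lit 11))) (and (Nat.beq (Nat.mod a54 (nat_lit 11)) (Nat.mod b54 (nat_lit 11))) (and (Nat.beq (Nat.mod a55 (nat_lit 11)) (Nat.mod b55 (nat_lit 11))) (and (Nat.beq (Nat.mod a56 (nat_lit 11)) (Nat.mod b56 (nat_lit 11))) (and (Nat.beq (Nat.mod a60 (nat_lit 11)) (Nat.mod b60 (nat_lit 11))) (and (Nat.beq (Nat.mod a61 (nat_lit 11)) (Nat.mod b61 (nat_lit 11))) (and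 (Nat.beq (Nat.mod a62 (nat_lit 11)) (Nat.mod b62 (nat_lit 11))) (and (Nat.beq (Nat.mod a63 (nat_lit 11)) (Nat.mod b63 (nat_lit 11))) (and (Nat.beq (Nat.mod a64 (nat_lit 11)) (Nat.mod b64 (nat_lit 11))) (and (Nat.beq (Nat.mod a65 (nat_lit 11)) (Nat.mod b65 (nat_lit 11))) (and (Nat.beq (Nat.mod a66 (nat_lit 11)) (Nat.mod b66 (nat_lit 11))) true)))))))))))))))))))))))))))))))))))))))))))))))))

/-- Decode from a natural number with 4-bit fields. -/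
def dec (c : Nat) : M7 := ⟨(Nat.land (Nat.shiftRight c (nat_lit 0)) (nat_lit 15)),(Nat.land (Nat.shiftRight c (nat_lit 4)) (nat_lit 15)),(Nat.land (Nat.shiftRight c (nat_lit 8)) (nat_lit 15)),(Nat.land (Nat.shiftRight c (nat_lit 12)) (nat_lit 15)),(Nat.land (Nat.shiftRight c (nat_lit 16)) (nat_lit 15)),(Nat.land (Nat.shiftRight c (nat_lit 20)) (nat_lit 15)),(Nat.land (Nat.shiftRight c (nat_lit 24)) (nat_lit 15)),(Nat.land (Nat.shiftRight c (nat_lit 28)) (nat_lit 15)),(Nat.land (Nat.shiftRight c (nat_lit 32)) (nat_lit 15)),(Nat.land (Nat.shiftRight c (nat_lit 36)) (nat_lit 15)),(Nat.land (Nat.shiftRight c (nat_lit 40)) (nat_lit 15)),(Nat.land (Nat.shiftRight c (nat_lit 44)) (nat_lit 15)),(Nat.land (Nat.shiftRight c (nat_lit 48)) (nat_lit 15)),(Nat.land (Nat.shiftRight c (nat_lit 52)) (nat_lit 15)),(Nat.land (Nat.shiftRight c (nat_lit 56)) (nat_lit 15)),(Nat.land (Nat.shiftRight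 c (nat_lit 60)) (nat_lit 15)),(Nat.land (Nat.shiftRight c (nat_lit 64)) (nat_lit 15)),(Nat.land (Nat.shiftRight c (nat_lit 68)) (nat_lit 15)),(Nat.land (Nat.shiftRight c (nat_lit 72)) (nat_lit 15)),(Nat.land (Nat.shiftRight c (nat_lit 76)) (nat_lit 15)),(Nat.land (Nat.shiftRight c (nat_lit 80)) (nat_lit 15)),(Nat.land (Nat.shiftRight c (nat_lit 84)) (nat_lit 15)),(Nat.land (Nat.shiftRight c (nat_lit 88)) (nat_lit 15)),(Nat.land (Nat.shiftRight c (nat_lit 92)) (nat_lit 15)),(Nat.land (Nat.shiftRight c (nat_lit 96)) (nat_lit 15)),(Nat.land (Nat.shiftRight c (nat_lit 100)) (nat_lit 15)),(Nat.land (Nat.shiftRight c (nat_lit 104)) (nat_lit 15)),(Nat.land (Nat.shiftRight c (nat_lit 108)) (nat_lit 15)),(Nat.land (Nat.shiftRight c (nat_lit 112)) (nat_lit 15)),(Nat.land (Nat.shiftRight c (nat_lit 116)) (nat_lit 15)),(Nat.land (Nat.shiftRight c (nat_lit 120)) (nat_lit 15)),(Nat.land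 (Nat.shiftRight c (nat_lit 124)) (nat_lit 15)),(Nat.land (Nat.shiftRight c (nat_lit 128)) (nat_lit 15)),(Nat.land (Nat.shiftRight c (nat_lit 132)) (nat_lit 15)),(Nat.land (Nat.shiftRight c (nat_lit 136)) (nat_lit 15)),(Nat.land (Nat.shiftRight c (nat_lit 140)) (nat_lit 15)),(Nat.land (Nat.shiftRight c (nat_lit 144)) (nat_lit 15)),(Nat.land (Nat.shiftRight c (nat_lit 148)) (nat_lit 15)),(Nat.land (Nat.shiftRight c (nat_lit 152)) (nat_lit 15)),(Nat.land (Nat.shiftRight c (nat_lit 156)) (nat_lit 15)),(Nat.land (Nat.shiftRight c (nat_lit 160)) (nat_lit 15)),(Nat.land (Nat.shiftRight c (nat_lit 164)) (nat_lit 15)),(Nat.land (Nat.shiftRight c (nat_lit 168)) (nat_lit 15)),(Nat.land (Nat.shiftRight c (nat_lit 172)) (nat_lit 15)),(Nat.land (Nat.shiftRight c (nat_lit 176)) (nat_lit 15)),(Nat.land (Nat.shiftRight c (nat_lit 180)) (nat_lit 15)),(Nat.land (Nat.shiftRight c (nat_lit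 184)) (nat_lit 15)),(Nat.land (Nat.shiftRight c (nat_lit 188)) (nat_lit 15)),(Nat.land (Nat.shiftRight c (nat_lit 192)) (nat_lit 15))⟩

/-- Entry access. -/
def ent (A : M7) (i j : Fin 7) : Nat :=
  match i, j with
  | 0, 0 => A.a00
  | 0, 1 => A.a01
  | 0, 2 => A.a02
  | 0, 3 => A.a03
  | 0, 4 => A.a04
  | 0, 5 => A.a05
  | 0, 6 => A.a06
  | 1, 0 => A.a10
  | 1, 1 => A.a11
  | 1, 2 => A.a12
  | 1, 3 => A.a13
  | 1, 4 => A.a14
  | 1, 5 => A.a15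
  | 1, 6 => A.a16
  | 2, 0 => A.a20
  | 2, 1 => A.a21
  | 2, 2 => A.a22
  | 2, 3 => A.a23
  | 2, 4 => A.a24
  | 2, 5 => A.a25
  | 2, 6 => A.a26
  | 3, 0 => A.a30
  | 3, 1 => A.a31
  | 3, 2 => A.a32
  | 3, 3 => A.a33
  | 3, 4 => A.a34
  | 3, 5 => A.a35
  | 3, 6 => A.a36
  | 4, 0 => A.a40
  | 4, 1 => A.a41
  | 4, 2 => A.a42
  | 4, 3 => A.a43
  | 4, 4 => A.a44
  | 4, 5 => A.a45
  | 4, 6 => A.a46
  | 5, 0 => A.a50
  | 5, 1 => A.a51
  | 5, 2 => A.a52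
  | 5, 3 => A.a53
  | 5, 4 => A.a54
  | 5, 5 => A.a55
  | 5, 6 => A.a56
  | 6, 0 => A.a60
  | 6, 1 => A.a61
  | 6, 2 => A.a62
  | 6, 3 => A.a63
  | 6, 4 => A.a64
  | 6, 5 => A.a65
  | 6, 6 => A.a66

/-- The matrix over `ZMod 11`. -/
def toMat (A : M7) : Matrix (Fin 7) (Fin 7) (ZMod 11) := Matrix.of fun i j => (ent A i j : ZMod 11)

theorem toMat_apply (A : M7) (i j : Fin 7) : toMat A i j = (ent A i j : ZMod 11) := rfl

theorem toMat_tr (A : M7) : toMat (tr A) = (toMat A).transpose := by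
  obtain ⟨a00,a01,a02,a03,a04,a05,a06,a10,a11,a12,a13,a14,a15,a16,a20,a21,a22,a23,a24,a25,a26,a30,a31,a32,a33,a34,a35,a36,a40,a41,a42,a43,a44,a45,a46,a50,a51,a52,a53,a54,a55,a56,a60,a61,a62,a63,a64,a65,a66⟩ := A
  ext i j
  fin_cases i <;> fin_cases j <;> rfl

theorem ent_mm (A B : M7) (i j : Fin 7) : ent (mm A B) i j = dot (ent A i 0) (ent B 0 j) (ent A i 1) (ent B 1 j) (ent A i 2) (ent B 2 j) (ent A i 3) (ent B 3 j) (ent A i 4) (ent B 4 j) (ent A i 5) (ent B 5 j) (ent A i 6) (ent B 6 j) := by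
  obtain ⟨a00,a01,a02,a03,a04,a05,a06,a10,a11,a12,a13,a14,a15,a16,a20,a21,a22,a23,a24,a25,a26,a30,a31,a32,a33,a34,a35,a36,a40,a41,a42,a43,a44,a45,a46,a50,a51,a52,a53,a54,a55,a56,a60,a61,a62,a63,a64,a65,a66⟩ := A
  obtain ⟨b00,b01,b02,b03,b04,b05,b06,b10,b11,b12,b13,b14,b15,b16,b20,b21,b22,b23,b24,b25,b26,b30,b31,b32,b33,b34,b35,b36,b40,b41,b42,b43,b44,b45,b46,b50,b51,b52,b53,b54,b55,b56,b60,b61,b62,b63,b64,b65,b66⟩ := B
  fin_cases i <;> fin_cases j <;> rfl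

theorem toMat_mm (A B : M7) : toMat (mm A B) = toMat A * toMat B := by
  ext i j
  rw [toMat_apply, ent_mm, dot_cast, Matrix.mul_apply, Fin.sum_univ_seven]
  rfl

theorem toMat_eq_of_eqM (A B : M7) (h : eqM A B = true) : toMat A = toMat B := by
  obtain ⟨a00,a01,a02,a03,a04,a05,a06,a10,a11,a12,a13,a14,a15,a16,a20,a21,a22,a23,a24,a25,a26,a30,a31,a32,a33,a34,a35,a36,a40,a41,a42,a43,a44,a45,a46,a50,a51,a52,a53,a54,a55,a56,a60,a61,a62,a63,a64,a65,a66⟩ := A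
  obtain ⟨b00,b01,b02,b03,b04,b05,b06,b10,b11,b12,b13,b14,b15,b16,b20,b21,b22,b23,b24,b25,b26,b30,b31,b32,b33,b34,b35,b36,b40,b41,b42,b43,b44,b45,b46,b50,b51,b52,b53,b54,b55,b56,b60,b61,b62,b63,b64,b65,b66⟩ := B
  simp only [eqM, Bool.and_eq_true, Nat.beq_eq_true_eq] at h
  obtain ⟨h00,h01,h02,h03,h04,h05,h06,h10,h11,h12,h13,h14,h15,h16,h20,h21,h22,h23,h24,h25,h26,h30,h31,h32,h33,h34,h35,h36,h40,h41,h42,h43,h44,h45,h46,h50,h51,h52,h53,h54,h55,h56,h60,h61,h62,h63,h64,h65,h66,-⟩ := h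
  replace h00 := Nat.eq_of_beq_eq_true h00
  replace h01 := Nat.eq_of_beq_eq_true h01
  replace h02 := Nat.eq_of_beq_eq_true h02
  replace h03 := Nat.eq_of_beq_eq_true h03
  replace h04 := Nat.eq_of_beq_eq_true h04
  replace h05 := Nat.eq_of_beq_eq_true h05
  replace h06 := Nat.eq_of_beq_eq_true h06
  replace h10 := Nat.eq_of_beq_eq_true h10
  replace h11 := Nat.eq_of_beq_eq_true h11
  replace h12 := Nat.eq_of_beq_eq_true h12
  replace h13 := Nat.eq_of_beq_eq_true h13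
  replace h14 := Nat.eq_of_beq_eq_true h14
  replace h15 := Nat.eq_of_beq_eq_true h15
  replace h16 := Nat.eq_of_beq_eq_true h16
  replace h20 := Nat.eq_of_beq_eq_true h20
  replace h21 := Nat.eq_of_beq_eq_true h21
  replace h22 := Nat.eq_of_beq_eq_true h22
  replace h23 := Nat.eq_of_beq_eq_true h23
  replace h24 := Nat.eq_of_beq_eq_true h24
  replace h25 := Nat.eq_of_beq_eq_true h25
  replace h26 := Nat.eq_of_beq_eq_true h26
  replace h30 := Nat.eq_of_beq_eq_true h30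
  replace h31 := Nat.eq_of_beq_eq_true h31
  replace h32 := Nat.eq_of_beq_eq_true h32
  replace h33 := Nat.eq_of_beq_eq_true h33
  replace h34 := Nat.eq_of_beq_eq_true h34
  replace h35 := Nat.eq_of_beq_eq_true h35
  replace h36 := Nat.eq_of_beq_eq_true h36
  replace h40 := Nat.eq_of_beq_eq_true h40
  replace h41 := Nat.eq_of_beq_eq_true h41
  replace h42 := Nat.eq_of_beq_eq_true h42
  replace h43 := Nat.eq_of_beq_eq_true h43
  replace h44 := Nat.eq_of_beq_eq_true h44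
  replace h45 := Nat.eq_of_beq_eq_true h45
  replace h46 := Nat.eq_of_beq_eq_true h46
  replace h50 := Nat.eq_of_beq_eq_true h50
  replace h51 := Nat.eq_of_beq_eq_true h51
  replace h52 := Nat.eq_of_beq_eq_true h52
  replace h53 := Nat.eq_of_beq_eq_true h53
  replace h54 := Nat.eq_of_beq_eq_true h54
  replace h55 := Nat.eq_of_beq_eq_true h55
  replace h56 := Nat.eq_of_beq_eq_true h56
  replace h60 := Nat.eq_of_beq_eq_true h60
  replace h61 := Nat.eq_of_beq_eq_true h61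
  replace h62 := Nat.eq_of_beq_eq_true h62
  replace h63 := Nat.eq_of_beq_eq_true h63
  replace h64 := Nat.eq_of_beq_eq_true h64
  replace h65 := Nat.eq_of_beq_eq_true h65
  replace h66 := Nat.eq_of_beq_eq_true h66
  ext i j
  rw [toMat_apply, toMat_apply, ZMod.natCast_eq_natCast_iff']
  fin_cases i <;> fin_cases j <;> assumption

theorem code_eq_of_toMat_eq (A B : M7) (h : toMat A = toMat B) : code A = code B := by
  obtain ⟨a00,a01,a02,a03,a04,a05,a06,a10,a11,a12,a13,a14,a15,a16,a20,a21,a22,a23,a24,a25,a26,a30,a31,a32,a33,a34,a35,a36,a40,a41,a42,a43,a44,a45,a46,a50,a51,a52,a53,a54,a55,a56,a60,a61,a62,a63,a64,a65,a66⟩ := A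
  obtain ⟨b00,b01,b02,b03,b04,b05,b06,b10,b11,b12,b13,b14,b15,b16,b20,b21,b22,b23,b24,b25,b26,b30,b31,b32,b33,b34,b35,b36,b40,b41,b42,b43,b44,b45,b46,b50,b51,b52,b53,b54,b55,b56,b60,b61,b62,b63,b64,b65,b66⟩ := B
  have h00 : Nat.mod a00 11 = Nat.mod b00 11 := (ZMod.natCast_eq_natCast_iff' _ _ _).mp (congrFun (congrFun h 0) 0)
  have h01 : Nat.mod a01 11 = Nat.mod b01 11 := (ZMod.natCast_eq_natCast_iff' _ _ _).mp (congrFun (congrFun h 0) 1)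
  have h02 : Nat.mod a02 11 = Nat.mod b02 11 := (ZMod.natCast_eq_natCast_iff' _ _ _).mp (congrFun (congrFun h 0) 2)
  have h03 : Nat.mod a03 11 = Nat.mod b03 11 := (ZMod.natCast_eq_natCast_iff' _ _ _).mp (congrFun (congrFun h 0) 3)
  have h04 : Nat.mod a04 11 = Nat.mod b04 11 := (ZMod.natCast_eq_natCast_iff' _ _ _).mp (congrFun (congrFun h 0) 4)
  have h05 : Nat.mod a05 11 = Nat.mod b05 11 := (ZMod.natCast_eq_natCast_iff' _ _ _).mp (congrFun (congrFun h 0) 5)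
  have h06 : Nat.mod a06 11 = Nat.mod b06 11 := (ZMod.natCast_eq_natCast_iff' _ _ _).mp (congrFun (congrFun h 0) 6)
  have h10 : Nat.mod a10 11 = Nat.mod b10 11 := (ZMod.natCast_eq_natCast_iff' _ _ _).mp (congrFun (congrFun h 1) 0)
  have h11 : Nat.mod a11 11 = Nat.mod b11 11 := (ZMod.natCast_eq_natCast_iff' _ _ _).mp (congrFun (congrFun h 1) 1)
  have h12 : Nat.mod a12 11 = Nat.mod b12 11 := (ZMod.natCast_eq_natCast_iff' _ _ _).mp (congrFun (congrFun h 1) 2)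
  have h13 : Nat.mod a13 11 = Nat.mod b13 11 := (ZMod.natCast_eq_natCast_iff' _ _ _).mp (congrFun (congrFun h 1) 3)
  have h14 : Nat.mod a14 11 = Nat.mod b14 11 := (ZMod.natCast_eq_natCast_iff' _ _ _).mp (congrFun (congrFun h 1) 4)
  have h15 : Nat.mod a15 11 = Nat.mod b15 11 := (ZMod.natCast_eq_natCast_iff' _ _ _).mp (congrFun (congrFun h 1) 5)
  have h16 : Nat.mod a16 11 = Nat.mod b16 11 := (ZMod.natCast_eq_natCast_iff' _ _ _).mp (congrFun (congrFun h 1) 6)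
  have h20 : Nat.mod a20 11 = Nat.mod b20 11 := (ZMod.natCast_eq_natCast_iff' _ _ _).mp (congrFun (congrFun h 2) 0)
  have h21 : Nat.mod a21 11 = Nat.mod b21 11 := (ZMod.natCast_eq_natCast_iff' _ _ _).mp (congrFun (congrFun h 2) 1)
  have h22 : Nat.mod a22 11 = Nat.mod b22 11 := (ZMod.natCast_eq_natCast_iff' _ _ _).mp (congrFun (congrFun h 2) 2)
  have h23 : Nat.mod a23 11 = Nat.mod b23 11 := (ZMod.natCast_eq_natCast_iff' _ _ _).mp (congrFun (congrFun h 2) 3)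
  have h24 : Nat.mod a24 11 = Nat.mod b24 11 := (ZMod.natCast_eq_natCast_iff' _ _ _).mp (congrFun (congrFun h 2) 4)
  have h25 : Nat.mod a25 11 = Nat.mod b25 11 := (ZMod.natCast_eq_natCast_iff' _ _ _).mp (congrFun (congrFun h 2) 5)
  have h26 : Nat.mod a26 11 = Nat.mod b26 11 := (ZMod.natCast_eq_natCast_iff' _ _ _).mp (congrFun (congrFun h 2) 6)
  have h30 : Nat.mod a30 11 = Nat.mod b30 11 := (ZMod.natCast_eq_natCast_iff' _ _ _).mp (congrFun (congrFun h 3) 0)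
  have h31 : Nat.mod a31 11 = Nat.mod b31 11 := (ZMod.natCast_eq_natCast_iff' _ _ _).mp (congrFun (congrFun h 3) 1)
  have h32 : Nat.mod a32 11 = Nat.mod b32 11 := (ZMod.natCast_eq_natCast_iff' _ _ _).mp (congrFun (congrFun h 3) 2)
  have h33 : Nat.mod a33 11 = Nat.mod b33 11 := (ZMod.natCast_eq_natCast_iff' _ _ _).mp (congrFun (congrFun h 3) 3)
  have h34 : Nat.mod a34 11 = Nat.mod b34 11 := (ZMod.natCast_eq_natCast_iff' _ _ _).mp (congrFun (congrFun h 3) 4)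
  have h35 : Nat.mod a35 11 = Nat.mod b35 11 := (ZMod.natCast_eq_natCast_iff' _ _ _).mp (congrFun (congrFun h 3) 5)
  have h36 : Nat.mod a36 11 = Nat.mod b36 11 := (ZMod.natCast_eq_natCast_iff' _ _ _).mp (congrFun (congrFun h 3) 6)
  have h40 : Nat.mod a40 11 = Nat.mod b40 11 := (ZMod.natCast_eq_natCast_iff' _ _ _).mp (congrFun (congrFun h 4) 0)
  have h41 : Nat.mod a41 11 = Nat.mod b41 11 := (ZMod.natCast_eq_natCast_iff' _ _ _).mp (congrFun (congrFun h 4) 1)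
  have h42 : Nat.mod a42 11 = Nat.mod b42 11 := (ZMod.natCast_eq_natCast_iff' _ _ _).mp (congrFun (congrFun h 4) 2)
  have h43 : Nat.mod a43 11 = Nat.mod b43 11 := (ZMod.natCast_eq_natCast_iff' _ _ _).mp (congrFun (congrFun h 4) 3)
  have h44 : Nat.mod a44 11 = Nat.mod b44 11 := (ZMod.natCast_eq_natCast_iff' _ _ _).mp (congrFun (congrFun h 4) 4)
  have h45 : Nat.mod a45 11 = Nat.mod b45 11 := (ZMod.natCast_eq_natCast_iff' _ _ _).mp (congrFun (congrFun h 4) 5)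
  have h46 : Nat.mod a46 11 = Nat.mod b46 11 := (ZMod.natCast_eq_natCast_iff' _ _ _).mp (congrFun (congrFun h 4) 6)
  have h50 : Nat.mod a50 11 = Nat.mod b50 11 := (ZMod.natCast_eq_natCast_iff' _ _ _).mp (congrFun (congrFun h 5) 0)
  have h51 : Nat.mod a51 11 = Nat.mod b51 11 := (ZMod.natCast_eq_natCast_iff' _ _ _).mp (congrFun (congrFun h 5) 1)
  have h52 : Nat.mod a52 11 = Nat.mod b52 11 := (ZMod.natCast_eq_natCast_iff' _ _ _).mp (congrFun (congrFun h 5) 2)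
  have h53 : Nat.mod a53 11 = Nat.mod b53 11 := (ZMod.natCast_eq_natCast_iff' _ _ _).mp (congrFun (congrFun h 5) 3)
  have h54 : Nat.mod a54 11 = Nat.mod b54 11 := (ZMod.natCast_eq_natCast_iff' _ _ _).mp (congrFun (congrFun h 5) 4)
  have h55 : Nat.mod a55 11 = Nat.mod b55 11 := (ZMod.natCast_eq_natCast_iff' _ _ _).mp (congrFun (congrFun h 5) 5)
  have h56 : Nat.mod a56 11 = Nat.mod b56 11 := (ZMod.natCast_eq_natCast_iff' _ _ _).mp (congrFun (congrFun h 5) 6)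
  have h60 : Nat.mod a60 11 = Nat.mod b60 11 := (ZMod.natCast_eq_natCast_iff' _ _ _).mp (congrFun (congrFun h 6) 0)
  have h61 : Nat.mod a61 11 = Nat.mod b61 11 := (ZMod.natCast_eq_natCast_iff' _ _ _).mp (congrFun (congrFun h 6) 1)
  have h62 : Nat.mod a62 11 = Nat.mod b62 11 := (ZMod.natCast_eq_natCast_iff' _ _ _).mp (congrFun (congrFun h 6) 2)
  have h63 : Nat.mod a63 11 = Nat.mod b63 11 := (ZMod.natCast_eq_natCast_iff' _ _ _).mp (congrFun (congrFun h 6) 3)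
  have h64 : Nat.mod a64 11 = Nat.mod b64 11 := (ZMod.natCast_eq_natCast_iff' _ _ _).mp (congrFun (congrFun h 6) 4)
  have h65 : Nat.mod a65 11 = Nat.mod b65 11 := (ZMod.natCast_eq_natCast_iff' _ _ _).mp (congrFun (congrFun h 6) 5)
  have h66 : Nat.mod a66 11 = Nat.mod b66 11 := (ZMod.natCast_eq_natCast_iff' _ _ _).mp (congrFun (congrFun h 6) 6)
  simp only [code, h00, h01, h02, h03, h04, h05, h06, h10, h11, h12, h13, h14, h15, h16, h20, h21, h22, h23, h24, h25, h26, h30, h31, h32, h33, h34, h35, h36, h40, h41, h42, h43, h44, h45, h46, h50, h51, h52, h53, h54, h55, h56, h60, h61, h62, h63, h64, h65, h66]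

end Cfsg.Agent.Lib.J1Mat
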