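import Mathlib
import Cfsg.Prelude.Def_Spor_J1
import Cfsg.Agent.Lib.J1Mat
import Cfsg.Agent.Lib.J1CData

set_option autoImplicit false

namespace Cfsg.Agent.Lib.J1CCore

open Cfsg.Agent.Lib.J1Mat Cfsg.Agent.Lib.J1CData Cfsg Cfsg.Spor

/-- Binary splitting conjunction over `[a, a + 2^k)`. -/
def allR (P : Nat → Bool) (k : Nat) : Nat → Bool :=
  Nat.rec (fun a => P a) (fun k ih a => and (ih a) (ih (Nat.add a (Nat.pow (nat_lit 2) k)))) k

theorem allR_spec (P : Nat → Bool) (k a : Nat) (h : allR P k a = true) (n : Nat) (h1 : a ≤ n)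
    (h2 : n < a + 2 ^ k) : P n = true := by
  induction k generalizing a with
  | zero =>
    have : n = a := by simp at h2; omega
    subst this
    exact h
  | succ k ih =>
    have h' : (allR P k a && allR P k (a + 2 ^ k)) = true := h
    rw [Bool.and_eq_true] at h'
    by_cases hn : n < a + 2 ^ k
    · exact ih a h'.1 h1 hn
    · refine ih (a + 2 ^ k) h'.2 (by omega) ?_
      rw [pow_succ] at h2
      omega

/-- Field `i` of width `w` of a big natural number. -/
def fld (big w mask i : Nat) : Nat := Nat.land (Nat.shiftRight big (Nat.mul w i)) mask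

/-- Mask for the matrices. -/
def mask196 : Nat := 0xfffffffffffffffffffffffffffffffffffffffffffffffff
/-- Mask for the codes. -/
def mask176 : Nat := 0xfffffffffffffffffffffffffffffffffffffffffff

def Tm (i : Nat) : M7 := dec (fld Tbig 196 mask196 i)
def Hm (i : Nat) : M7 := dec (fld Hbig 196 mask196 i)
def codeAt (i : Nat) : Nat := fld codeBig 176 mask176 i
def jX (i : Nat) : Nat := fld jXbig 16 65535 i
def kX (i : Nat) : Nat := fld kXbig 16 65535 i
def jY (i : Nat) : Nat := fld jYbig 16 65535 i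
def kY (i : Nat) : Nat := fld kYbig 16 65535 i
def parT (i : Nat) : Nat := fld parBig 16 65535 i
def genT (i : Nat) : Nat := fld genBig 8 255 i
def depT (i : Nat) : Nat := fld depBig 8 255 i
def lg1 (i : Nat) : Nat := fld lg1Big 8 255 i
def lg2 (i : Nat) : Nat := fld lg2Big 8 255 i
def parH (i : Nat) : Nat := fld parHBig 8 255 i
def genH (i : Nat) : Nat := fld genHBig 8 255 i
def depH (i : Nat) : Nat := fld depHBig 8 255 i

/-- The generator X. -/
def X7 : M7 := ⟨0,1,0,0,0,0,0, 0,0,1,0,0,0,0, 0,0,0,1,0,0,0, 0,0,0,0,1,0,0, 0,0,0,0,0,1,0, 0,0,0,0,0,0,1, 1,0,0,0,0,0,0⟩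
/-- The generator Y. -/
def Y7 : M7 := ⟨8,2,10,10,8,10,8, 9,1,1,3,1,3,3, 10,10,8,10,8,8,2, 10,8,10,8,8,2,10, 8,10,8,8,2,10,10, 1,3,3,9,1,1,3, 3,3,9,1,1,3,1⟩
/-- The identity. -/
def I7 : M7 := ⟨1,0,0,0,0,0,0, 0,1,0,0,0,0,0, 0,0,1,0,0,0,0, 0,0,0,1,0,0,0, 0,0,0,0,1,0,0, 0,0,0,0,0,1,0, 0,0,0,0,0,0,1⟩
/-- The involution t. -/
def t7 : M7 := ⟨10,0,0,0,0,0,0, 0,10,0,0,0,0,0, 0,0,10,0,0,0,0, 0,0,0,1,0,0,0, 0,0,0,0,1,0,0, 0,0,0,0,0,10,0, 0,0,0,0,0,0,1⟩

theorem toMat_X7 : toMat X7 = jankoMatrixX := by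
  ext i j; fin_cases i <;> fin_cases j <;> rfl
theorem toMat_Y7 : toMat Y7 = jankoMatrixY := by
  ext i j; fin_cases i <;> fin_cases j <;> rfl
theorem toMat_I7 : toMat I7 = 1 := by
  ext i j; fin_cases i <;> fin_cases j <;> rfl

/-- Indices. -/
def nT : Nat := 1463
def nH : Nat := 120
def iid : Nat := 193
def hid : Nat := 16
def g1i : Nat := 25
def g2i : Nat := 114

def chkX (i : Nat) : Bool :=
  or (Nat.ble nT i) (and (eqM (mm X7 (Tm i)) (mm (Tm (jX i)) (Hm (kX i))))
    (and (Nat.blt (jX i) nT) (Nat.blt (kX i) nH)))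
def chkY (i : Nat) : Bool :=
  or (Nat.ble nT i) (and (eqM (mm Y7 (Tm i)) (mm (Tm (jY i)) (Hm (kY i))))
    (and (Nat.blt (jY i) nT) (Nat.blt (kY i) nH)))
def chkCode (i : Nat) : Bool :=
  or (Nat.ble nT i) (Nat.beq (code (mm (mm (Tm i) t7) (tr (Tm i)))) (codeAt i))
def chkSorted (i : Nat) : Bool :=
  or (Nat.ble (nT - 1) i) (Nat.blt (codeAt i) (codeAt (i + 1)))
def chkPar (i : Nat) : Bool :=
  or (Nat.ble nT i) (or (Nat.beq i iid)
    (and (Nat.blt (parT i) nT) (and (Nat.blt (depT (parT i)) (depT i))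
      (cond (Nat.beq (genT i) 0)
        (and (Nat.beq (jX (parT i)) i) (Nat.beq (kX (parT i)) hid))
        (and (Nat.beq (jY (parT i)) i) (Nat.beq (kY (parT i)) hid))))))
def chkLg1 (k : Nat) : Bool :=
  or (Nat.ble nH k) (and (eqM (mm (Hm g1i) (Hm k)) (Hm (lg1 k))) (Nat.blt (lg1 k) nH))
def chkLg2 (k : Nat) : Bool :=
  or (Nat.ble nH k) (and (eqM (mm (Hm g2i) (Hm k)) (Hm (lg2 k))) (Nat.blt (lg2 k) nH))
def chkParH (k : Nat) : Bool :=
  or (Nat.ble nH k) (or (Nat.beq k hid)
    (and (Nat.blt (parH k) nH) (and (Nat.blt (depH (parH k)) (depH k))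
      (cond (Nat.beq (genH k) 0)
        (Nat.beq (lg1 (parH k)) k)
        (Nat.beq (lg2 (parH k)) k)))))
def chkHcomm (k : Nat) : Bool :=
  or (Nat.ble nH k) (eqM (mm (Hm k) t7) (mm t7 (Hm k)))
def chkHsorted (k : Nat) : Bool :=
  or (Nat.ble (nH - 1) k) (Nat.blt (code (Hm k)) (code (Hm (k + 1))))

theorem chkX_ok : allR chkX 11 0 = true := by decide +kernel
theorem chkY_ok : allR chkY 11 0 = true := by decide +kernel
theorem chkCode_ok : allR chkCode 11 0 = true := by decide +kernel
theorem chkSorted_ok : allR chkSorted 11 0 = true := by decide +kernel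
theorem chkPar_ok : allR chkPar 11 0 = true := by decide +kernel
theorem chkLg1_ok : allR chkLg1 7 0 = true := by decide +kernel
theorem chkLg2_ok : allR chkLg2 7 0 = true := by decide +kernel
theorem chkParH_ok : allR chkParH 7 0 = true := by decide +kernel
theorem chkHcomm_ok : allR chkHcomm 7 0 = true := by decide +kernel
theorem chkHsorted_ok : allR chkHsorted 7 0 = true := by decide +kernel
theorem Tm_iid : eqM (Tm iid) I7 = true := by decide +kernel
theorem Hm_hid : eqM (Hm hid) I7 = true := by decide +kernel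
theorem kY_93 : (jY 93 < nT ∧ kY 93 = g1i) := by decide +kernel
theorem kY_156 : (jY 156 < nT ∧ kY 156 = g2i) := by decide +kernel

/-! ### From the checks to matrices -/

theorem chkX_spec {i : Nat} (hi : i < nT) :
    toMat X7 * toMat (Tm i) = toMat (Tm (jX i)) * toMat (Hm (kX i)) ∧ jX i < nT ∧ kX i < nH := by
  have h := allR_spec _ _ _ chkX_ok i (Nat.zero_le _) (by have : i < 1463 := hi; norm_num; omega)
  simp only [chkX] at h
  have h1 : Nat.ble nT i = false := by
    rw [Bool.eq_false_iff]; intro hh; exact absurd (Nat.le_of_ble_eq_true hh) (by omega)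
  rw [h1] at h
  simp only [Bool.false_or, Bool.and_eq_true, Nat.blt_eq] at h
  refine ⟨?_, h.2.1, h.2.2⟩
  rw [← toMat_mm, ← toMat_mm]
  exact toMat_eq_of_eqM _ _ h.1

theorem chkY_spec {i : Nat} (hi : i < nT) :
    toMat Y7 * toMat (Tm i) = toMat (Tm (jY i)) * toMat (Hm (kY i)) ∧ jY i < nT ∧ kY i < nH := by
  have h := allR_spec _ _ _ chkY_ok i (Nat.zero_le _) (by have : i < 1463 := hi; norm_num; omega)
  simp only [chkY] at h
  have h1 : Nat.ble nT i = false := by
    rw [Bool.eq_false_iff]; intro hh; exact absurd (Nat.le_of_ble_eq_true hh) (by omega)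
  rw [h1] at h
  simp only [Bool.false_or, Bool.and_eq_true, Nat.blt_eq] at h
  refine ⟨?_, h.2.1, h.2.2⟩
  rw [← toMat_mm, ← toMat_mm]
  exact toMat_eq_of_eqM _ _ h.1

theorem chkLg1_spec {k : Nat} (hk : k < nH) :
    toMat (Hm g1i) * toMat (Hm k) = toMat (Hm (lg1 k)) ∧ lg1 k < nH := by
  have h := allR_spec _ _ _ chkLg1_ok k (Nat.zero_le _) (by have : k < 120 := hk; norm_num; omega)
  simp only [chkLg1] at h
  have h1 : Nat.ble nH k = false := by
    rw [Bool.eq_false_iff]; intro hh; exact absurd (Nat.le_of_ble_eq_true hh) (by omega)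
  rw [h1] at h
  simp only [Bool.false_or, Bool.and_eq_true, Nat.blt_eq] at h
  refine ⟨?_, h.2⟩
  rw [← toMat_mm]
  exact toMat_eq_of_eqM _ _ h.1

theorem chkLg2_spec {k : Nat} (hk : k < nH) :
    toMat (Hm g2i) * toMat (Hm k) = toMat (Hm (lg2 k)) ∧ lg2 k < nH := by
  have h := allR_spec _ _ _ chkLg2_ok k (Nat.zero_le _) (by have : k < 120 := hk; norm_num; omega)
  simp only [chkLg2] at h
  have h1 : Nat.ble nH k = false := by
    rw [Bool.eq_false_iff]; intro hh; exact absurd (Nat.le_of_ble_eq_true hh) (by omega)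
  rw [h1] at h
  simp only [Bool.false_or, Bool.and_eq_true, Nat.blt_eq] at h
  refine ⟨?_, h.2⟩
  rw [← toMat_mm]
  exact toMat_eq_of_eqM _ _ h.1

theorem toMat_Tm_iid : toMat (Tm iid) = 1 := by
  rw [toMat_eq_of_eqM _ _ Tm_iid, toMat_I7]

theorem toMat_Hm_hid : toMat (Hm hid) = 1 := by
  rw [toMat_eq_of_eqM _ _ Hm_hid, toMat_I7]

theorem chkPar_spec {i : Nat} (hi : i < nT) (hne : i ≠ iid) :
    parT i < nT ∧ depT (parT i) < depT i ∧
      ((toMat X7 * toMat (Tm (parT i)) = toMat (Tm i)) ∨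
        (toMat Y7 * toMat (Tm (parT i)) = toMat (Tm i))) := by
  have h := allR_spec _ _ _ chkPar_ok i (Nat.zero_le _) (by have : i < 1463 := hi; norm_num; omega)
  simp only [chkPar] at h
  have h1 : Nat.ble nT i = false := by
    rw [Bool.eq_false_iff]; intro hh; exact absurd (Nat.le_of_ble_eq_true hh) (by omega)
  have h2 : Nat.beq i iid = false := by
    rw [Bool.eq_false_iff]; intro hh; exact hne (Nat.eq_of_beq_eq_true hh)
  rw [h1, h2] at h
  simp only [Bool.false_or, Bool.and_eq_true, Nat.blt_eq] at h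
  obtain ⟨h3, h4, h5⟩ := h
  refine ⟨h3, h4, ?_⟩
  by_cases hg : Nat.beq (genT i) 0 = true
  · rw [hg] at h5
    simp only [cond_true, Bool.and_eq_true] at h5
    left
    have h6 := (chkX_spec h3).1
    rw [Nat.eq_of_beq_eq_true h5.1, Nat.eq_of_beq_eq_true h5.2, toMat_Hm_hid, mul_one] at h6
    exact h6
  · rw [Bool.not_eq_true] at hg
    rw [hg] at h5
    simp only [cond_false, Bool.and_eq_true] at h5
    right
    have h6 := (chkY_spec h3).1
    rw [Nat.eq_of_beq_eq_true h5.1, Nat.eq_of_beq_eq_true h5.2, toMat_Hm_hid, mul_one] at h6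
    exact h6

theorem chkParH_spec {k : Nat} (hk : k < nH) (hne : k ≠ hid) :
    parH k < nH ∧ depH (parH k) < depH k ∧
      ((toMat (Hm g1i) * toMat (Hm (parH k)) = toMat (Hm k)) ∨
        (toMat (Hm g2i) * toMat (Hm (parH k)) = toMat (Hm k))) := by
  have h := allR_spec _ _ _ chkParH_ok k (Nat.zero_le _) (by have : k < 120 := hk; norm_num; omega)
  simp only [chkParH] at h
  have h1 : Nat.ble nH k = false := by
    rw [Bool.eq_false_iff]; intro hh; exact absurd (Nat.le_of_ble_eq_true hh) (by omega)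
  have h2 : Nat.beq k hid = false := by
    rw [Bool.eq_false_iff]; intro hh; exact hne (Nat.eq_of_beq_eq_true hh)
  rw [h1, h2] at h
  simp only [Bool.false_or, Bool.and_eq_true, Nat.blt_eq] at h
  obtain ⟨h3, h4, h5⟩ := h
  refine ⟨h3, h4, ?_⟩
  by_cases hg : Nat.beq (genH k) 0 = true
  · rw [hg] at h5
    simp only [cond_true] at h5
    left
    have h6 := (chkLg1_spec h3).1
    rw [Nat.eq_of_beq_eq_true h5] at h6
    exact h6
  · rw [Bool.not_eq_true] at hg
    rw [hg] at h5
    simp only [cond_false] at h5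
    right
    have h6 := (chkLg2_spec h3).1
    rw [Nat.eq_of_beq_eq_true h5] at h6
    exact h6

/-- The centraliser list is closed under multiplication. -/
theorem Hm_mul_closed {j k : Nat} (hj : j < nH) (hk : k < nH) :
    ∃ l, l < nH ∧ toMat (Hm j) * toMat (Hm k) = toMat (Hm l) := by
  induction hd : depH j using Nat.strong_induction_on generalizing j with
  | _ d ih =>
    by_cases hne : j = hid
    · subst hne
      exact ⟨k, hk, by rw [toMat_Hm_hid, one_mul]⟩
    · obtain ⟨h1, h2, h3⟩ := chkParH_spec hj hne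
      obtain ⟨l, hl, hl'⟩ := ih _ (by omega) h1 rfl
      rcases h3 with h3 | h3
      · refine ⟨lg1 l, (chkLg1_spec hl).2, ?_⟩
        rw [← h3, mul_assoc, hl', (chkLg1_spec hl).1]
      · refine ⟨lg2 l, (chkLg2_spec hl).2, ?_⟩
        rw [← h3, mul_assoc, hl', (chkLg2_spec hl).1]

abbrev GL7 := GL (Fin 7) (ZMod 11)

/-- A matrix is realised by an element of `J1`. -/
def InJ (A : Matrix (Fin 7) (Fin 7) (ZMod 11)) : Prop := ∃ g : GL7, g ∈ J1 ∧ (g : Matrix (Fin 7) (Fin 7) (ZMod 11)) = A

theorem inJ_mul {A B : Matrix (Fin 7) (Fin 7) (ZMod 11)} (hA : InJ A) (hB : InJ B) : InJ (A * B) := by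
  obtain ⟨g, hg, rfl⟩ := hA
  obtain ⟨h, hh, rfl⟩ := hB
  exact ⟨g * h, J1.mul_mem hg hh, rfl⟩

theorem inJ_one : InJ 1 := ⟨1, J1.one_mem, rfl⟩

theorem inJ_X : InJ (toMat X7) :=
  ⟨jankoX, Subgroup.subset_closure (by simp), by rw [toMat_X7]; rfl⟩

theorem inJ_Y : InJ (toMat Y7) :=
  ⟨jankoY, Subgroup.subset_closure (by simp), by rw [toMat_Y7]; rfl⟩

theorem inJ_Tm {i : Nat} (hi : i < nT) : InJ (toMat (Tm i)) := by
  induction hd : depT i using Nat.strong_induction_on generalizing i with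
  | _ d ih =>
    by_cases hne : i = iid
    · subst hne
      rw [toMat_Tm_iid]; exact inJ_one
    · obtain ⟨h1, h2, h3⟩ := chkPar_spec hi hne
      have h4 := ih _ (by omega) h1 rfl
      rcases h3 with h3 | h3
      · rw [← h3]; exact inJ_mul inJ_X h4
      · rw [← h3]; exact inJ_mul inJ_Y h4

/-- If `A`, `B` are realised and `A * M = B` then `M` is realised. -/
theorem inJ_of_mul {A B M : Matrix (Fin 7) (Fin 7) (ZMod 11)} (hA : InJ A) (hB : InJ B)
    (h : A * M = B) : InJ M := by
  obtain ⟨g, hg, rfl⟩ := hA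
  obtain ⟨k, hk, rfl⟩ := hB
  refine ⟨g⁻¹ * k, J1.mul_mem (J1.inv_mem hg) hk, ?_⟩
  rw [Units.val_mul, ← h, ← mul_assoc, Units.inv_mul, one_mul]

theorem inJ_g1 : InJ (toMat (Hm g1i)) := by
  have h93 : (93 : Nat) < nT := by decide
  have h := (chkY_spec h93).1
  rw [kY_93.2] at h
  exact inJ_of_mul (inJ_Tm kY_93.1) (inJ_mul inJ_Y (inJ_Tm h93)) h.symm

theorem inJ_g2 : InJ (toMat (Hm g2i)) := by
  have h156 : (156 : Nat) < nT := by decide
  have h := (chkY_spec h156).1
  rw [kY_156.2] at h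
  exact inJ_of_mul (inJ_Tm kY_156.1) (inJ_mul inJ_Y (inJ_Tm h156)) h.symm

theorem inJ_Hm {k : Nat} (hk : k < nH) : InJ (toMat (Hm k)) := by
  induction hd : depH k using Nat.strong_induction_on generalizing k with
  | _ d ih =>
    by_cases hne : k = hid
    · subst hne
      rw [toMat_Hm_hid]; exact inJ_one
    · obtain ⟨h1, h2, h3⟩ := chkParH_spec hk hne
      have h4 := ih _ (by omega) h1 rfl
      rcases h3 with h3 | h3
      · rw [← h3]; exact inJ_mul inJ_g1 h4
      · rw [← h3]; exact inJ_mul inJ_g2 h4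

/-- Closure lemma: a set containing `1` and stable under left multiplication by the generators
contains the generated subgroup (finite ambient group). -/
theorem closure_subset_of_mul_mem {G : Type*} [Group G] [Finite G] (S : Set G) (T : Set G)
    (h1 : (1 : G) ∈ S) (hT : ∀ s ∈ T, ∀ x ∈ S, s * x ∈ S) :
    ∀ g ∈ Subgroup.closure T, g ∈ S := by
  have key : ∀ g ∈ Subgroup.closure T, ∀ x ∈ S, g * x ∈ S := by
    intro g hg
    induction hg using Subgroup.closure_induction with
    | mem s hs => exact hT s hs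
    | one => intro x hx; simpa using hx
    | mul a b _ _ ha hb =>
      intro x hx
      rw [mul_assoc]
      exact ha _ (hb x hx)
    | inv a _ ha =>
      intro x hx
      have hpow : ∀ n : ℕ, ∀ y ∈ S, a ^ n * y ∈ S := by
        intro n
        induction n with
        | zero => intro y hy; simpa using hy
        | succ n ih =>
          intro y hy
          rw [pow_succ, mul_assoc]
          exact ih _ (ha y hy)
      have hord : a⁻¹ = a ^ (orderOf a - 1) := by
        rw [eq_comm, inv_eq_of_mul_eq_one_right]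
        rw [← pow_succ', Nat.sub_add_cancel (orderOf_pos a), pow_orderOf_eq_one]
      rw [hord]
      exact hpow _ x hx
  intro g hg
  have := key g hg 1 h1
  simpa using this

/-- Every element of `J1` factors through the certificate. -/
theorem factor (g : GL7) (hg : g ∈ J1) :
    ∃ i j, i < nT ∧ j < nH ∧ (g : Matrix (Fin 7) (Fin 7) (ZMod 11)) = toMat (Tm i) * toMat (Hm j) := by
  let S : Set GL7 := {g | ∃ i j, i < nT ∧ j < nH ∧
    (g : Matrix (Fin 7) (Fin 7) (ZMod 11)) = toMat (Tm i) * toMat (Hm j)}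
  have h1 : (1 : GL7) ∈ S := by
    refine ⟨iid, hid, by decide, by decide, ?_⟩
    rw [toMat_Tm_iid, toMat_Hm_hid, one_mul]; rfl
  refine closure_subset_of_mul_mem S {jankoX, jankoY} h1 ?_ g hg
  rintro s hs x ⟨i, j, hi, hj, hx⟩
  rcases hs with rfl | rfl
  · obtain ⟨h2, h3, h4⟩ := chkX_spec hi
    obtain ⟨l, hl, hl'⟩ := Hm_mul_closed h4 hj
    refine ⟨jX i, l, h3, hl, ?_⟩
    have : (jankoX : Matrix (Fin 7) (Fin 7) (ZMod 11)) = toMat X7 := by rw [toMat_X7]; rfl
    rw [Units.val_mul, hx, this, ← mul_assoc, h2, mul_assoc, hl']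
  · obtain ⟨h2, h3, h4⟩ := chkY_spec hi
    obtain ⟨l, hl, hl'⟩ := Hm_mul_closed h4 hj
    refine ⟨jY i, l, h3, hl, ?_⟩
    have : (jankoY : Matrix (Fin 7) (Fin 7) (ZMod 11)) = toMat Y7 := by rw [toMat_Y7]; rfl
    rw [Units.val_mul, hx, this, ← mul_assoc, h2, mul_assoc, hl']

/-- Elements of `J1` are orthogonal. -/
theorem val_inv_eq_transpose (g : GL7) (hg : g ∈ J1) :
    ((g⁻¹ : GL7) : Matrix (Fin 7) (Fin 7) (ZMod 11)) = (g : Matrix (Fin 7) (Fin 7) (ZMod 11)).transpose := by
  induction hg using Subgroup.closure_induction with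
  | mem s hs =>
    rcases hs with rfl | rfl
    · rfl
    · rfl
  | one => simp
  | mul a b _ _ ha hb =>
    rw [mul_inv_rev, Units.val_mul, ha, hb, Units.val_mul, Matrix.transpose_mul]
  | inv a _ ha =>
    rw [inv_inv, ha, Matrix.transpose_transpose]

/-- Strict monotonicity of the codes. -/
theorem codeAt_lt {i j : Nat} (hij : i < j) (hj : j < nT) : codeAt i < codeAt j := by
  induction j with
  | zero => omega
  | succ j ih =>
    have h := allR_spec _ _ _ chkSorted_ok j (Nat.zero_le _) (by have : j + 1 < 1463 := hj; norm_num; omega)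
    simp only [chkSorted] at h
    have h1 : Nat.ble (nT - 1) j = false := by
      rw [Bool.eq_false_iff]; intro hh
      have := Nat.le_of_ble_eq_true hh
      have h2 : j + 1 < 1463 := hj
      have h3 : nT - 1 = 1462 := rfl
      omega
    rw [h1, Bool.false_or, Nat.blt_eq] at h
    by_cases hij' : i = j
    · subst hij'; exact h
    · exact lt_trans (ih (by omega) (by omega)) h

theorem codeAt_injOn {i j : Nat} (hi : i < nT) (hj : j < nT) (h : codeAt i = codeAt j) : i = j := by
  rcases lt_trichotomy i j with hlt | rfl | hgt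
  · exact absurd h (ne_of_lt (codeAt_lt hlt hj))
  · rfl
  · exact absurd h.symm (ne_of_lt (codeAt_lt hgt hi))

theorem code_conj {i : Nat} (hi : i < nT) :
    code (mm (mm (Tm i) t7) (tr (Tm i))) = codeAt i := by
  have h := allR_spec _ _ _ chkCode_ok i (Nat.zero_le _) (by have : i < 1463 := hi; norm_num; omega)
  simp only [chkCode] at h
  have h1 : Nat.ble nT i = false := by
    rw [Bool.eq_false_iff]; intro hh; exact absurd (Nat.le_of_ble_eq_true hh) (by omega)
  rw [h1, Bool.false_or] at h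
  exact Nat.eq_of_beq_eq_true h

theorem Hm_comm {k : Nat} (hk : k < nH) : toMat (Hm k) * toMat t7 = toMat t7 * toMat (Hm k) := by
  have h := allR_spec _ _ _ chkHcomm_ok k (Nat.zero_le _) (by have : k < 120 := hk; norm_num; omega)
  simp only [chkHcomm] at h
  have h1 : Nat.ble nH k = false := by
    rw [Bool.eq_false_iff]; intro hh; exact absurd (Nat.le_of_ble_eq_true hh) (by omega)
  rw [h1, Bool.false_or] at h
  rw [← toMat_mm, ← toMat_mm]
  exact toMat_eq_of_eqM _ _ h

theorem Hm_inj {j k : Nat} (hj : j < nH) (hk : k < nH) (h : toMat (Hm j) = toMat (Hm k)) : j = k := by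
  have hlt : ∀ {a b : Nat}, a < b → b < nH → code (Hm a) < code (Hm b) := by
    intro a b hab hb
    induction b with
    | zero => omega
    | succ b ih =>
      have h := allR_spec _ _ _ chkHsorted_ok b (Nat.zero_le _) (by have : b + 1 < 120 := hb; norm_num; omega)
      simp only [chkHsorted] at h
      have h1 : Nat.ble (nH - 1) b = false := by
        rw [Bool.eq_false_iff]; intro hh
        have := Nat.le_of_ble_eq_true hh
        have h2 : b + 1 < 120 := hb
        have h3 : nH - 1 = 119 := rfl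
        omega
      rw [h1, Bool.false_or, Nat.blt_eq] at h
      by_cases hab' : a = b
      · subst hab'; exact h
      · exact lt_trans (ih (by omega) (by omega)) h
  have hc := code_eq_of_toMat_eq _ _ h
  rcases lt_trichotomy j k with h1 | rfl | h1
  · exact absurd hc (ne_of_lt (hlt h1 hk))
  · rfl
  · exact absurd hc.symm (ne_of_lt (hlt h1 hj))

/-- The involution `t` is in the centraliser list. -/
theorem t7_eq : eqM (Hm 18) t7 = true := by decide +kernel

theorem inJ_t : InJ (toMat t7) := by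
  rw [← toMat_eq_of_eqM _ _ t7_eq]
  exact inJ_Hm (by decide)

/-- The involution as an element of `J1`. -/
noncomputable def tJ : ↥J1 := ⟨Classical.choose inJ_t, (Classical.choose_spec inJ_t).1⟩

theorem tJ_val : ((tJ : GL7) : Matrix (Fin 7) (Fin 7) (ZMod 11)) = toMat t7 :=
  (Classical.choose_spec inJ_t).2

/-- Conjugating `t` by a factorization only depends on the coset representative. -/
theorem conj_val_of_factor (g : GL7) (hg : g ∈ J1) {i j : Nat} (hi : i < nT) (hj : j < nH)
    (h : (g : Matrix (Fin 7) (Fin 7) (ZMod 11)) = toMat (Tm i) * toMat (Hm j)) :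
    ((g * (tJ : GL7) * g⁻¹ : GL7) : Matrix (Fin 7) (Fin 7) (ZMod 11)) =
      toMat (mm (mm (Tm i) t7) (tr (Tm i))) := by
  obtain ⟨a, ha, hav⟩ := inJ_Tm hi
  obtain ⟨b, hb, hbv⟩ := inJ_Hm hj
  have hgab : g = a * b := by
    apply Units.ext
    rw [h, Units.val_mul, hav, hbv]
  have hcomm : b * (tJ : GL7) = (tJ : GL7) * b := by
    apply Units.ext
    rw [Units.val_mul, Units.val_mul, hbv, tJ_val]
    exact Hm_comm hj
  have h1 : g * (tJ : GL7) * g⁻¹ = a * (tJ : GL7) * a⁻¹ := by
    rw [hgab, mul_inv_rev]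
    calc a * b * (tJ : GL7) * (b⁻¹ * a⁻¹) = a * (b * (tJ : GL7)) * b⁻¹ * a⁻¹ := by group
      _ = a * ((tJ : GL7) * b) * b⁻¹ * a⁻¹ := by rw [hcomm]
      _ = a * (tJ : GL7) * a⁻¹ := by group
  rw [h1, Units.val_mul, Units.val_mul, val_inv_eq_transpose a ha, hav, tJ_val, toMat_mm, toMat_mm,
    toMat_tr]

/-- The list of the centraliser as a function to `J1`. -/
noncomputable def hEl (k : Fin 120) : ↥J1 :=
  ⟨Classical.choose (inJ_Hm (k := k.val) k.isLt), (Classical.choose_spec (inJ_Hm (k := k.val) k.isLt)).1⟩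

theorem hEl_val (k : Fin 120) : ((hEl k : GL7) : Matrix (Fin 7) (Fin 7) (ZMod 11)) = toMat (Hm k.val) :=
  (Classical.choose_spec (inJ_Hm (k := k.val) k.isLt)).2

/-- The list of coset representatives as a function to `J1`. -/
noncomputable def tEl (i : Fin 1463) : ↥J1 :=
  ⟨Classical.choose (inJ_Tm (i := i.val) i.isLt), (Classical.choose_spec (inJ_Tm (i := i.val) i.isLt)).1⟩

theorem tEl_val (i : Fin 1463) : ((tEl i : GL7) : Matrix (Fin 7) (Fin 7) (ZMod 11)) = toMat (Tm i.val) :=
  (Classical.choose_spec (inJ_Tm (i := i.val) i.isLt)).2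

/-- `g` commutes with `t` iff it is in the list. -/
theorem mem_centralizer_iff (g : ↥J1) :
    g ∈ Subgroup.centralizer ({tJ} : Set ↥J1) ↔
      ∃ j, j < nH ∧ ((g : GL7) : Matrix (Fin 7) (Fin 7) (ZMod 11)) = toMat (Hm j) := by
  constructor
  · intro hg
    rw [Subgroup.mem_centralizer_singleton_iff] at hg
    obtain ⟨i, j, hi, hj, hfac⟩ := factor g g.2
    have h1 : (g : GL7) * (tJ : GL7) * (g : GL7)⁻¹ = (tJ : GL7) := by
      have := congrArg (fun x : ↥J1 => (x : GL7)) hg
      simp only [Subgroup.coe_mul] at this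
      rw [mul_inv_eq_iff_eq_mul]
      exact this.symm ▸ rfl
    have h2 := conj_val_of_factor g g.2 hi hj hfac
    rw [h1, tJ_val] at h2
    have h3 : toMat t7 = toMat (mm (mm (Tm iid) t7) (tr (Tm iid))) := by
      rw [toMat_mm, toMat_mm, toMat_tr, toMat_Tm_iid]; simp
    have h4 := code_eq_of_toMat_eq _ _ (h3.symm.trans h2)
    rw [code_conj (by decide), code_conj hi] at h4
    have h5 : iid = i := codeAt_injOn (by decide) hi h4
    subst h5
    refine ⟨j, hj, ?_⟩
    rw [hfac, toMat_Tm_iid, one_mul]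
  · rintro ⟨j, hj, hgj⟩
    rw [Subgroup.mem_centralizer_singleton_iff]
    apply Subtype.ext
    apply Units.ext
    simp only [Subgroup.coe_mul, Units.val_mul]
    rw [hgj, tJ_val]
    exact (Hm_comm hj).symm ▸ rfl

theorem hEl_injective : Function.Injective hEl := by
  intro a b hab
  have := congrArg (fun x : ↥J1 => ((x : GL7) : Matrix (Fin 7) (Fin 7) (ZMod 11))) hab
  simp only [hEl_val] at this
  exact Fin.ext (Hm_inj a.isLt b.isLt this)

/-- The order of `J1`. -/
theorem card_J1 : Nat.card ↥J1 = 175560 := by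
  let F : Fin 1463 × Fin 120 → ↥J1 := fun p => tEl p.1 * hEl p.2
  have hF : Function.Bijective F := by
    constructor
    · rintro ⟨i, j⟩ ⟨i', j'⟩ h
      simp only [F] at h
      have hval : ∀ (i : Fin 1463) (j : Fin 120), (((tEl i * hEl j : ↥J1) : GL7) : Matrix (Fin 7) (Fin 7) (ZMod 11))
          = toMat (Tm i.val) * toMat (Hm j.val) := by
        intro i j
        simp [Subgroup.coe_mul, Units.val_mul, tEl_val, hEl_val]
      have h2 := conj_val_of_factor _ (tEl i * hEl j).2 i.isLt j.isLt (hval i j)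
      have h3 := conj_val_of_factor _ (tEl i' * hEl j').2 i'.isLt j'.isLt (hval i' j')
      rw [h] at h2
      have h4 := code_eq_of_toMat_eq _ _ (h2.symm.trans h3)
      rw [code_conj i.isLt, code_conj i'.isLt] at h4
      have h5 : i = i' := Fin.ext (codeAt_injOn i.isLt i'.isLt h4)
      subst h5
      have h6 : hEl j = hEl j' := mul_left_cancel h
      rw [hEl_injective h6]
    · intro g
      obtain ⟨i, j, hi, hj, hfac⟩ := factor g g.2
      refine ⟨(⟨i, hi⟩, ⟨j, hj⟩), ?_⟩
      apply Subtype.ext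
      apply Units.ext
      simp only [F, Subgroup.coe_mul, Units.val_mul, tEl_val, hEl_val]
      exact hfac.symm
  rw [← Nat.card_congr (Equiv.ofBijective F hF)]
  simp

/-- The centraliser has order 120. -/
theorem card_centralizer : Nat.card (Subgroup.centralizer ({tJ} : Set ↥J1)) = 120 := by
  have hmem : ∀ k : Fin 120, hEl k ∈ Subgroup.centralizer ({tJ} : Set ↥J1) := by
    intro k
    rw [mem_centralizer_iff]
    exact ⟨k.val, k.isLt, hEl_val k⟩
  let F : Fin 120 → Subgroup.centralizer ({tJ} : Set ↥J1) := fun k => ⟨hEl k, hmem k⟩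
  have hF : Function.Bijective F := by
    constructor
    · intro a b hab
      exact hEl_injective (congrArg Subtype.val hab)
    · rintro ⟨g, hg⟩
      obtain ⟨j, hj, hgj⟩ := (mem_centralizer_iff g).mp hg
      refine ⟨⟨j, hj⟩, ?_⟩
      apply Subtype.ext
      apply Subtype.ext
      apply Units.ext
      rw [hgj]
      exact hEl_val ⟨j, hj⟩
  rw [← Nat.card_congr (Equiv.ofBijective F hF)]
  simp

theorem orderOf_tJ : orderOf tJ = 2 := by
  apply orderOf_eq_prime
  · apply Subtype.ext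
    apply Units.ext
    rw [pow_two]
    simp only [Subgroup.coe_mul, Units.val_mul, tJ_val, Subgroup.coe_one, Units.val_one]
    rw [← toMat_mm, ← toMat_I7]
    apply toMat_eq_of_eqM
    decide +kernel
  · intro h
    have h1 := congrArg (fun x : ↥J1 => ((x : GL7) : Matrix (Fin 7) (Fin 7) (ZMod 11))) h
    simp only [Subgroup.coe_one, Units.val_one, tJ_val] at h1
    have h2 := congrFun (congrFun h1 0) 0
    revert h2
    decide

end Cfsg.Agent.Lib.J1CCore
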