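/-
Fast kernel arithmetic for 7 × 7 matrices over `ZMod 11`, packed in natural numbers, with soundness
lemmas; closure lemma for subgroups of finite groups.
-/
import Mathlib
import Cfsg.Prelude.Def_Spor_J1

set_option autoImplicit false

namespace Cfsg.Agent.Lib.J1Core

open Cfsg Cfsg.Spor
open scoped MatrixGroups

/-- A subset of a finite group containing `1` and closed under right multiplication by the generators
contains the generated subgroup. -/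
theorem closure_subset_of_mul_closed {G : Type*} [Group G] [Finite G] (S : Set G) (A : G → Prop)
    (h1 : A 1) (hmul : ∀ x, A x → ∀ s ∈ S, A (x * s)) :
    ∀ x ∈ Subgroup.closure S, A x := by
  have key : ∀ x ∈ Submonoid.closure S, A x := by
    intro x hx
    induction hx using Submonoid.closure_induction_right with
    | one => exact h1
    | mul_right y hy s hs ih => exact hmul y ih s hs
  intro x hx
  apply key
  rw [← Subgroup.closure_toSubmonoid_of_finite]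
  exact hx

abbrev M7 : Type := Matrix (Fin 7) (Fin 7) (ZMod 11)

/-- digit `(i,j)` of the packed matrix `n` (base 16) -/
def ext (n i j : ℕ) : ℕ := Nat.mod (Nat.shiftRight n (4 * (7 * i + j))) 16

/-- the matrix coded by `n` -/
def dec (n : ℕ) : M7 := fun i j => ((ext n i j : ℕ) : ZMod 11)

/-- the entry `(i,j)` of the product -/
def entry (a b i j : ℕ) : ℕ :=
  Nat.mod (Nat.add (Nat.add (Nat.add (Nat.add (Nat.add (Nat.add
    (Nat.mul (ext a i 0) (ext b 0 j)) (Nat.mul (ext a i 1) (ext b 1 j)))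
    (Nat.mul (ext a i 2) (ext b 2 j))) (Nat.mul (ext a i 3) (ext b 3 j)))
    (Nat.mul (ext a i 4) (ext b 4 j))) (Nat.mul (ext a i 5) (ext b 5 j)))
    (Nat.mul (ext a i 6) (ext b 6 j))) 11

/-- base 16 packing of a list -/
def packL : List ℕ → ℕ
  | [] => 0
  | e :: l => Nat.add e (Nat.mul 16 (packL l))

theorem packL_digit (L : List ℕ) (hL : ∀ e ∈ L, e < 16) (k : ℕ) (hk : k < L.length) :
    (packL L / 16 ^ k) % 16 = L[k] := by
  induction L generalizing k with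
  | nil => simp at hk
  | cons e l ih =>
    have he : e < 16 := hL e (by simp)
    have hl : ∀ e ∈ l, e < 16 := fun x hx => hL x (by simp [hx])
    have hpack : packL (e :: l) = e + 16 * packL l := rfl
    cases k with
    | zero =>
      rw [hpack]
      simp
      omega
    | succ k =>
      have hk' : k < l.length := by simpa using hk
      rw [hpack, pow_succ', ← Nat.div_div_eq_div_mul]
      have : (e + 16 * packL l) / 16 = packL l := by omega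
      rw [this]
      simpa using ih hl k hk'

/-- the list of the entries of a product -/
def entries (a b : ℕ) : List ℕ :=
  List.ofFn (fun k : Fin 49 => entry a b (k.val / 7) (k.val % 7))

/-- Packed matrix product, spelled out with literal shifts and raw `Nat` operations for the kernel. -/
def mulP (a b : ℕ) : ℕ := (Nat.add (Nat.mod (Nat.add (Nat.add (Nat.add (Nat.add (Nat.add (Nat.add (Nat.mul (Nat.mod a 16) (Nat.mod b 16)) (Nat.mul (Nat.mod (Nat.shiftRight a 4) 16) (Nat.mod (Nat.shiftRight b 28) 16))) (Nat.mul (Nat.mod (Nat.shiftRight a 8) 16) (Nat.mod (Nat.shiftRight b 56) 16))) (Nat.mul (Nat.mod (Nat.shiftRight a 12) 16) (Nat.mod (Nat.shiftRight b 84) 16))) (Nat.mul (Nat.mod (Nat.shiftRight a 16) 16) (Nat.mod (Nat.shiftRight b 112) 16))) (Nat.mul (Nat.mod (Nat.shiftRight a 20) 16) (Nat.mod (Nat.shiftRight b 140) 16))) (Nat.mul (Nat.mod (Nat.shiftRight a 24) 16) (Nat.mod (Nat.shiftRight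 b 168) 16))) 11) (Nat.mul 16 (Nat.add (Nat.mod (Nat.add (Nat.add (Nat.add (Nat.add (Nat.add (Nat.add (Nat.mul (Nat.mod a 16) (Nat.mod (Nat.shiftRight b 4) 16)) (Nat.mul (Nat.mod (Nat.shiftRight a 4) 16) (Nat.mod (Nat.shiftRight b 32) 16))) (Nat.mul (Nat.mod (Nat.shiftRight a 8) 16) (Nat.mod (Nat.shiftRight b 60) 16))) (Nat.mul (Nat.mod (Nat.shiftRight a 12) 16) (Nat.mod (Nat.shiftRight b 88) 16))) (Nat.mul (Nat.mod (Nat.shiftRight a 16) 16) (Nat.mod (Nat.shiftRight b 116) 16))) (Nat.mul (Nat.mod (Nat.shiftRight a 20) 16) (Nat.mod (Nat.shiftRight b 144) 16))) (Nat.mul (Nat.mod (Nat.shiftRight a 24) 16) (Nat.mod (Nat.shiftRight b 172) 16))) 11) (Nat.mul 16 (Nat.add (Nat.mod (Nat.add (Nat.add (Nat.add (Nat.add (Nat.add (Nat.add (Nat.mul (Nat.mod a 16) (Nat.mod (Nat.shiftRight b 8) 16)) (Nat.mul (Nat.mod (Nat.shiftRight a 4) 16) (Nat.mod (Nat.shiftRight b 36) 16))) (Nat.mul (Nat.mod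 (Nat.shiftRight a 8) 16) (Nat.mod (Nat.shiftRight b 64) 16))) (Nat.mul (Nat.mod (Nat.shiftRight a 12) 16) (Nat.mod (Nat.shiftRight b 92) 16))) (Nat.mul (Nat.mod (Nat.shiftRight a 16) 16) (Nat.mod (Nat.shiftRight b 120) 16))) (Nat.mul (Nat.mod (Nat.shiftRight a 20) 16) (Nat.mod (Nat.shiftRight b 148) 16))) (Nat.mul (Nat.mod (Nat.shiftRight a 24) 16) (Nat.mod (Nat.shiftRight b 176) 16))) 11) (Nat.mul 16 (Nat.add (Nat.mod (Nat.add (Nat.add (Nat.add (Nat.add (Nat.add (Nat.add (Nat.mul (Nat.mod a 16) (Nat.mod (Nat.shiftRight b 12) 16)) (Nat.mul (Nat.mod (Nat.shiftRight a 4) 16) (Nat.mod (Nat.shiftRight b 40) 16))) (Nat.mul (Nat.mod (Nat.shiftRight a 8) 16) (Nat.mod (Nat.shiftRight b 68) 16))) (Nat.mul (Nat.mod (Nat.shiftRight a 12) 16) (Nat.mod (Nat.shiftRight b 96) 16))) (Nat.mul (Nat.mod (Nat.shiftRight a 16) 16) (Nat.mod (Nat.shiftRight b 124) 16))) (Nat.mul (Nat.mod (Nat.shiftRight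 a 20) 16) (Nat.mod (Nat.shiftRight b 152) 16))) (Nat.mul (Nat.mod (Nat.shiftRight a 24) 16) (Nat.mod (Nat.shiftRight b 180) 16))) 11) (Nat.mul 16 (Nat.add (Nat.mod (Nat.add (Nat.add (Nat.add (Nat.add (Nat.add (Nat.add (Nat.mul (Nat.mod a 16) (Nat.mod (Nat.shiftRight b 16) 16)) (Nat.mul (Nat.mod (Nat.shiftRight a 4) 16) (Nat.mod (Nat.shiftRight b 44) 16))) (Nat.mul (Nat.mod (Nat.shiftRight a 8) 16) (Nat.mod (Nat.shiftRight b 72) 16))) (Nat.mul (Nat.mod (Nat.shiftRight a 12) 16) (Nat.mod (Nat.shiftRight b 100) 16))) (Nat.mul (Nat.mod (Nat.shiftRight a 16) 16) (Nat.mod (Nat.shiftRight b 128) 16))) (Nat.mul (Nat.mod (Nat.shiftRight a 20) 16) (Nat.mod (Nat.shiftRight b 156) 16))) (Nat.mul (Nat.mod (Nat.shiftRight a 24) 16) (Nat.mod (Nat.shiftRight b 184) 16))) 11) (Nat.mul 16 (Nat.add (Nat.mod (Nat.add (Nat.add (Nat.add (Nat.add (Nat.add (Nat.add (Nat.mul (Nat.mod a 16) (Nat.mod (Nat.shiftRight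 b 20) 16)) (Nat.mul (Nat.mod (Nat.shiftRight a 4) 16) (Nat.mod (Nat.shiftRight b 48) 16))) (Nat.mul (Nat.mod (Nat.shiftRight a 8) 16) (Nat.mod (Nat.shiftRight b 76) 16))) (Nat.mul (Nat.mod (Nat.shiftRight a 12) 16) (Nat.mod (Nat.shiftRight b 104) 16))) (Nat.mul (Nat.mod (Nat.shiftRight a 16) 16) (Nat.mod (Nat.shiftRight b 132) 16))) (Nat.mul (Nat.mod (Nat.shiftRight a 20) 16) (Nat.mod (Nat.shiftRight b 160) 16))) (Nat.mul (Nat.mod (Nat.shiftRight a 24) 16) (Nat.mod (Nat.shiftRight b 188) 16))) 11) (Nat.mul 16 (Nat.add (Nat.mod (Nat.add (Nat.add (Nat.add (Nat.add (Nat.add (Nat.add (Nat.mul (Nat.mod a 16) (Nat.mod (Nat.shiftRight b 24) 16)) (Nat.mul (Nat.mod (Nat.shiftRight a 4) 16) (Nat.mod (Nat.shiftRight b 52) 16))) (Nat.mul (Nat.mod (Nat.shiftRight a 8) 16) (Nat.mod (Nat.shiftRight b 80) 16))) (Nat.mul (Nat.mod (Nat.shiftRight a 12) 16) (Nat.mod (Nat.shiftRight b 108) 16))) (Nat.mul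 (Nat.mod (Nat.shiftRight a 16) 16) (Nat.mod (Nat.shiftRight b 136) 16))) (Nat.mul (Nat.mod (Nat.shiftRight a 20) 16) (Nat.mod (Nat.shiftRight b 164) 16))) (Nat.mul (Nat.mod (Nat.shiftRight a 24) 16) (Nat.mod (Nat.shiftRight b 192) 16))) 11) (Nat.mul 16 (Nat.add (Nat.mod (Nat.add (Nat.add (Nat.add (Nat.add (Nat.add (Nat.add (Nat.mul (Nat.mod (Nat.shiftRight a 28) 16) (Nat.mod b 16)) (Nat.mul (Nat.mod (Nat.shiftRight a 32) 16) (Nat.mod (Nat.shiftRight b 28) 16))) (Nat.mul (Nat.mod (Nat.shiftRight a 36) 16) (Nat.mod (Nat.shiftRight b 56) 16))) (Nat.mul (Nat.mod (Nat.shiftRight a 40) 16) (Nat.mod (Nat.shiftRight b 84) 16))) (Nat.mul (Nat.mod (Nat.shiftRight a 44) 16) (Nat.mod (Nat.shiftRight b 112) 16))) (Nat.mul (Nat.mod (Nat.shiftRight a 48) 16) (Nat.mod (Nat.shiftRight b 140) 16))) (Nat.mul (Nat.mod (Nat.shiftRight a 52) 16) (Nat.mod (Nat.shiftRight b 168) 16))) 11) (Nat.mul 16 (Nat.add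 (Nat.mod (Nat.add (Nat.add (Nat.add (Nat.add (Nat.add (Nat.add (Nat.mul (Nat.mod (Nat.shiftRight a 28) 16) (Nat.mod (Nat.shiftRight b 4) 16)) (Nat.mul (Nat.mod (Nat.shiftRight a 32) 16) (Nat.mod (Nat.shiftRight b 32) 16))) (Nat.mul (Nat.mod (Nat.shiftRight a 36) 16) (Nat.mod (Nat.shiftRight b 60) 16))) (Nat.mul (Nat.mod (Nat.shiftRight a 40) 16) (Nat.mod (Nat.shiftRight b 88) 16))) (Nat.mul (Nat.mod (Nat.shiftRight a 44) 16) (Nat.mod (Nat.shiftRight b 116) 16))) (Nat.mul (Nat.mod (Nat.shiftRight a 48) 16) (Nat.mod (Nat.shiftRight b 144) 16))) (Nat.mul (Nat.mod (Nat.shiftRight a 52) 16) (Nat.mod (Nat.shiftRight b 172) 16))) 11) (Nat.mul 16 (Nat.add (Nat.mod (Nat.add (Nat.add (Nat.add (Nat.add (Nat.add (Nat.add (Nat.mul (Nat.mod (Nat.shiftRight a 28) 16) (Nat.mod (Nat.shiftRight b 8) 16)) (Nat.mul (Nat.mod (Nat.shiftRight a 32) 16) (Nat.mod (Nat.shiftRight b 36) 16))) (Nat.mul (Nat.mod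 (Nat.shiftRight a 36) 16) (Nat.mod (Nat.shiftRight b 64) 16))) (Nat.mul (Nat.mod (Nat.shiftRight a 40) 16) (Nat.mod (Nat.shiftRight b 92) 16))) (Nat.mul (Nat.mod (Nat.shiftRight a 44) 16) (Nat.mod (Nat.shiftRight b 120) 16))) (Nat.mul (Nat.mod (Nat.shiftRight a 48) 16) (Nat.mod (Nat.shiftRight b 148) 16))) (Nat.mul (Nat.mod (Nat.shiftRight a 52) 16) (Nat.mod (Nat.shiftRight b 176) 16))) 11) (Nat.mul 16 (Nat.add (Nat.mod (Nat.add (Nat.add (Nat.add (Nat.add (Nat.add (Nat.add (Nat.mul (Nat.mod (Nat.shiftRight a 28) 16) (Nat.mod (Nat.shiftRight b 12) 16)) (Nat.mul (Nat.mod (Nat.shiftRight a 32) 16) (Nat.mod (Nat.shiftRight b 40) 16))) (Nat.mul (Nat.mod (Nat.shiftRight a 36) 16) (Nat.mod (Nat.shiftRight b 68) 16))) (Nat.mul (Nat.mod (Nat.shiftRight a 40) 16) (Nat.mod (Nat.shiftRight b 96) 16))) (Nat.mul (Nat.mod (Nat.shiftRight a 44) 16) (Nat.mod (Nat.shiftRight b 124) 16))) (Nat.mul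 (Nat.mod (Nat.shiftRight a 48) 16) (Nat.mod (Nat.shiftRight b 152) 16))) (Nat.mul (Nat.mod (Nat.shiftRight a 52) 16) (Nat.mod (Nat.shiftRight b 180) 16))) 11) (Nat.mul 16 (Nat.add (Nat.mod (Nat.add (Nat.add (Nat.add (Nat.add (Nat.add (Nat.add (Nat.mul (Nat.mod (Nat.shiftRight a 28) 16) (Nat.mod (Nat.shiftRight b 16) 16)) (Nat.mul (Nat.mod (Nat.shiftRight a 32) 16) (Nat.mod (Nat.shiftRight b 44) 16))) (Nat.mul (Nat.mod (Nat.shiftRight a 36) 16) (Nat.mod (Nat.shiftRight b 72) 16))) (Nat.mul (Nat.mod (Nat.shiftRight a 40) 16) (Nat.mod (Nat.shiftRight b 100) 16))) (Nat.mul (Nat.mod (Nat.shiftRight a 44) 16) (Nat.mod (Nat.shiftRight b 128) 16))) (Nat.mul (Nat.mod (Nat.shiftRight a 48) 16) (Nat.mod (Nat.shiftRight b 156) 16))) (Nat.mul (Nat.mod (Nat.shiftRight a 52) 16) (Nat.mod (Nat.shiftRight b 184) 16))) 11) (Nat.mul 16 (Nat.add (Nat.mod (Nat.add (Nat.add (Nat.add (Nat.add (Nat.add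 (Nat.add (Nat.mul (Nat.mod (Nat.shiftRight a 28) 16) (Nat.mod (Nat.shiftRight b 20) 16)) (Nat.mul (Nat.mod (Nat.shiftRight a 32) 16) (Nat.mod (Nat.shiftRight b 48) 16))) (Nat.mul (Nat.mod (Nat.shiftRight a 36) 16) (Nat.mod (Nat.shiftRight b 76) 16))) (Nat.mul (Nat.mod (Nat.shiftRight a 40) 16) (Nat.mod (Nat.shiftRight b 104) 16))) (Nat.mul (Nat.mod (Nat.shiftRight a 44) 16) (Nat.mod (Nat.shiftRight b 132) 16))) (Nat.mul (Nat.mod (Nat.shiftRight a 48) 16) (Nat.mod (Nat.shiftRight b 160) 16))) (Nat.mul (Nat.mod (Nat.shiftRight a 52) 16) (Nat.mod (Nat.shiftRight b 188) 16))) 11) (Nat.mul 16 (Nat.add (Nat.mod (Nat.add (Nat.add (Nat.add (Nat.add (Nat.add (Nat.add (Nat.mul (Nat.mod (Nat.shiftRight a 28) 16) (Nat.mod (Nat.shiftRight b 24) 16)) (Nat.mul (Nat.mod (Nat.shiftRight a 32) 16) (Nat.mod (Nat.shiftRight b 52) 16))) (Nat.mul (Nat.mod (Nat.shiftRight a 36) 16) (Nat.mod (Nat.shiftRight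 b 80) 16))) (Nat.mul (Nat.mod (Nat.shiftRight a 40) 16) (Nat.mod (Nat.shiftRight b 108) 16))) (Nat.mul (Nat.mod (Nat.shiftRight a 44) 16) (Nat.mod (Nat.shiftRight b 136) 16))) (Nat.mul (Nat.mod (Nat.shiftRight a 48) 16) (Nat.mod (Nat.shiftRight b 164) 16))) (Nat.mul (Nat.mod (Nat.shiftRight a 52) 16) (Nat.mod (Nat.shiftRight b 192) 16))) 11) (Nat.mul 16 (Nat.add (Nat.mod (Nat.add (Nat.add (Nat.add (Nat.add (Nat.add (Nat.add (Nat.mul (Nat.mod (Nat.shiftRight a 56) 16) (Nat.mod b 16)) (Nat.mul (Nat.mod (Nat.shiftRight a 60) 16) (Nat.mod (Nat.shiftRight b 28) 16))) (Nat.mul (Nat.mod (Nat.shiftRight a 64) 16) (Nat.mod (Nat.shiftRight b 56) 16))) (Nat.mul (Nat.mod (Nat.shiftRight a 68) 16) (Nat.mod (Nat.shiftRight b 84) 16))) (Nat.mul (Nat.mod (Nat.shiftRight a 72) 16) (Nat.mod (Nat.shiftRight b 112) 16))) (Nat.mul (Nat.mod (Nat.shiftRight a 76) 16) (Nat.mod (Nat.shiftRight b 140) 16)))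 (Nat.mul (Nat.mod (Nat.shiftRight a 80) 16) (Nat.mod (Nat.shiftRight b 168) 16))) 11) (Nat.mul 16 (Nat.add (Nat.mod (Nat.add (Nat.add (Nat.add (Nat.add (Nat.add (Nat.add (Nat.mul (Nat.mod (Nat.shiftRight a 56) 16) (Nat.mod (Nat.shiftRight b 4) 16)) (Nat.mul (Nat.mod (Nat.shiftRight a 60) 16) (Nat.mod (Nat.shiftRight b 32) 16))) (Nat.mul (Nat.mod (Nat.shiftRight a 64) 16) (Nat.mod (Nat.shiftRight b 60) 16))) (Nat.mul (Nat.mod (Nat.shiftRight a 68) 16) (Nat.mod (Nat.shiftRight b 88) 16))) (Nat.mul (Nat.mod (Nat.shiftRight a 72) 16) (Nat.mod (Nat.shiftRight b 116) 16))) (Nat.mul (Nat.mod (Nat.shiftRight a 76) 16) (Nat.mod (Nat.shiftRight b 144) 16))) (Nat.mul (Nat.mod (Nat.shiftRight a 80) 16) (Nat.mod (Nat.shiftRight b 172) 16))) 11) (Nat.mul 16 (Nat.add (Nat.mod (Nat.add (Nat.add (Nat.add (Nat.add (Nat.add (Nat.add (Nat.mul (Nat.mod (Nat.shiftRight a 56) 16) (Nat.mod (Nat.shiftRight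 b 8) 16)) (Nat.mul (Nat.mod (Nat.shiftRight a 60) 16) (Nat.mod (Nat.shiftRight b 36) 16))) (Nat.mul (Nat.mod (Nat.shiftRight a 64) 16) (Nat.mod (Nat.shiftRight b 64) 16))) (Nat.mul (Nat.mod (Nat.shiftRight a 68) 16) (Nat.mod (Nat.shiftRight b 92) 16))) (Nat.mul (Nat.mod (Nat.shiftRight a 72) 16) (Nat.mod (Nat.shiftRight b 120) 16))) (Nat.mul (Nat.mod (Nat.shiftRight a 76) 16) (Nat.mod (Nat.shiftRight b 148) 16))) (Nat.mul (Nat.mod (Nat.shiftRight a 80) 16) (Nat.mod (Nat.shiftRight b 176) 16))) 11) (Nat.mul 16 (Nat.add (Nat.mod (Nat.add (Nat.add (Nat.add (Nat.add (Nat.add (Nat.add (Nat.mul (Nat.mod (Nat.shiftRight a 56) 16) (Nat.mod (Nat.shiftRight b 12) 16)) (Nat.mul (Nat.mod (Nat.shiftRight a 60) 16) (Nat.mod (Nat.shiftRight b 40) 16))) (Nat.mul (Nat.mod (Nat.shiftRight a 64) 16) (Nat.mod (Nat.shiftRight b 68) 16))) (Nat.mul (Nat.mod (Nat.shiftRight a 68) 16) (Nat.mod (Nat.shiftRight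 b 96) 16))) (Nat.mul (Nat.mod (Nat.shiftRight a 72) 16) (Nat.mod (Nat.shiftRight b 124) 16))) (Nat.mul (Nat.mod (Nat.shiftRight a 76) 16) (Nat.mod (Nat.shiftRight b 152) 16))) (Nat.mul (Nat.mod (Nat.shiftRight a 80) 16) (Nat.mod (Nat.shiftRight b 180) 16))) 11) (Nat.mul 16 (Nat.add (Nat.mod (Nat.add (Nat.add (Nat.add (Nat.add (Nat.add (Nat.add (Nat.mul (Nat.mod (Nat.shiftRight a 56) 16) (Nat.mod (Nat.shiftRight b 16) 16)) (Nat.mul (Nat.mod (Nat.shiftRight a 60) 16) (Nat.mod (Nat.shiftRight b 44) 16))) (Nat.mul (Nat.mod (Nat.shiftRight a 64) 16) (Nat.mod (Nat.shiftRight b 72) 16))) (Nat.mul (Nat.mod (Nat.shiftRight a 68) 16) (Nat.mod (Nat.shiftRight b 100) 16))) (Nat.mul (Nat.mod (Nat.shiftRight a 72) 16) (Nat.mod (Nat.shiftRight b 128) 16))) (Nat.mul (Nat.mod (Nat.shiftRight a 76) 16) (Nat.mod (Nat.shiftRight b 156) 16))) (Nat.mul (Nat.mod (Nat.shiftRight a 80) 16) (Nat.mod (Nat.shiftRight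 b 184) 16))) 11) (Nat.mul 16 (Nat.add (Nat.mod (Nat.add (Nat.add (Nat.add (Nat.add (Nat.add (Nat.add (Nat.mul (Nat.mod (Nat.shiftRight a 56) 16) (Nat.mod (Nat.shiftRight b 20) 16)) (Nat.mul (Nat.mod (Nat.shiftRight a 60) 16) (Nat.mod (Nat.shiftRight b 48) 16))) (Nat.mul (Nat.mod (Nat.shiftRight a 64) 16) (Nat.mod (Nat.shiftRight b 76) 16))) (Nat.mul (Nat.mod (Nat.shiftRight a 68) 16) (Nat.mod (Nat.shiftRight b 104) 16))) (Nat.mul (Nat.mod (Nat.shiftRight a 72) 16) (Nat.mod (Nat.shiftRight b 132) 16))) (Nat.mul (Nat.mod (Nat.shiftRight a 76) 16) (Nat.mod (Nat.shiftRight b 160) 16))) (Nat.mul (Nat.mod (Nat.shiftRight a 80) 16) (Nat.mod (Nat.shiftRight b 188) 16))) 11) (Nat.mul 16 (Nat.add (Nat.mod (Nat.add (Nat.add (Nat.add (Nat.add (Nat.add (Nat.add (Nat.mul (Nat.mod (Nat.shiftRight a 56) 16) (Nat.mod (Nat.shiftRight b 24) 16)) (Nat.mul (Nat.mod (Nat.shiftRight a 60) 16) (Nat.mod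 (Nat.shiftRight b 52) 16))) (Nat.mul (Nat.mod (Nat.shiftRight a 64) 16) (Nat.mod (Nat.shiftRight b 80) 16))) (Nat.mul (Nat.mod (Nat.shiftRight a 68) 16) (Nat.mod (Nat.shiftRight b 108) 16))) (Nat.mul (Nat.mod (Nat.shiftRight a 72) 16) (Nat.mod (Nat.shiftRight b 136) 16))) (Nat.mul (Nat.mod (Nat.shiftRight a 76) 16) (Nat.mod (Nat.shiftRight b 164) 16))) (Nat.mul (Nat.mod (Nat.shiftRight a 80) 16) (Nat.mod (Nat.shiftRight b 192) 16))) 11) (Nat.mul 16 (Nat.add (Nat.mod (Nat.add (Nat.add (Nat.add (Nat.add (Nat.add (Nat.add (Nat.mul (Nat.mod (Nat.shiftRight a 84) 16) (Nat.mod b 16)) (Nat.mul (Nat.mod (Nat.shiftRight a 88) 16) (Nat.mod (Nat.shiftRight b 28) 16))) (Nat.mul (Nat.mod (Nat.shiftRight a 92) 16) (Nat.mod (Nat.shiftRight b 56) 16))) (Nat.mul (Nat.mod (Nat.shiftRight a 96) 16) (Nat.mod (Nat.shiftRight b 84) 16))) (Nat.mul (Nat.mod (Nat.shiftRight a 100) 16) (Nat.mod (Nat.shiftRight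 b 112) 16))) (Nat.mul (Nat.mod (Nat.shiftRight a 104) 16) (Nat.mod (Nat.shiftRight b 140) 16))) (Nat.mul (Nat.mod (Nat.shiftRight a 108) 16) (Nat.mod (Nat.shiftRight b 168) 16))) 11) (Nat.mul 16 (Nat.add (Nat.mod (Nat.add (Nat.add (Nat.add (Nat.add (Nat.add (Nat.add (Nat.mul (Nat.mod (Nat.shiftRight a 84) 16) (Nat.mod (Nat.shiftRight b 4) 16)) (Nat.mul (Nat.mod (Nat.shiftRight a 88) 16) (Nat.mod (Nat.shiftRight b 32) 16))) (Nat.mul (Nat.mod (Nat.shiftRight a 92) 16) (Nat.mod (Nat.shiftRight b 60) 16))) (Nat.mul (Nat.mod (Nat.shiftRight a 96) 16) (Nat.mod (Nat.shiftRight b 88) 16))) (Nat.mul (Nat.mod (Nat.shiftRight a 100) 16) (Nat.mod (Nat.shiftRight b 116) 16))) (Nat.mul (Nat.mod (Nat.shiftRight a 104) 16) (Nat.mod (Nat.shiftRight b 144) 16))) (Nat.mul (Nat.mod (Nat.shiftRight a 108) 16) (Nat.mod (Nat.shiftRight b 172) 16))) 11) (Nat.mul 16 (Nat.add (Nat.mod (Nat.add (Nat.add (Nat.add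 (Nat.add (Nat.add (Nat.add (Nat.mul (Nat.mod (Nat.shiftRight a 84) 16) (Nat.mod (Nat.shiftRight b 8) 16)) (Nat.mul (Nat.mod (Nat.shiftRight a 88) 16) (Nat.mod (Nat.shiftRight b 36) 16))) (Nat.mul (Nat.mod (Nat.shiftRight a 92) 16) (Nat.mod (Nat.shiftRight b 64) 16))) (Nat.mul (Nat.mod (Nat.shiftRight a 96) 16) (Nat.mod (Nat.shiftRight b 92) 16))) (Nat.mul (Nat.mod (Nat.shiftRight a 100) 16) (Nat.mod (Nat.shiftRight b 120) 16))) (Nat.mul (Nat.mod (Nat.shiftRight a 104) 16) (Nat.mod (Nat.shiftRight b 148) 16))) (Nat.mul (Nat.mod (Nat.shiftRight a 108) 16) (Nat.mod (Nat.shiftRight b 176) 16))) 11) (Nat.mul 16 (Nat.add (Nat.mod (Nat.add (Nat.add (Nat.add (Nat.add (Nat.add (Nat.add (Nat.mul (Nat.mod (Nat.shiftRight a 84) 16) (Nat.mod (Nat.shiftRight b 12) 16)) (Nat.mul (Nat.mod (Nat.shiftRight a 88) 16) (Nat.mod (Nat.shiftRight b 40) 16))) (Nat.mul (Nat.mod (Nat.shiftRight a 92) 16) (Nat.mod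 (Nat.shiftRight b 68) 16))) (Nat.mul (Nat.mod (Nat.shiftRight a 96) 16) (Nat.mod (Nat.shiftRight b 96) 16))) (Nat.mul (Nat.mod (Nat.shiftRight a 100) 16) (Nat.mod (Nat.shiftRight b 124) 16))) (Nat.mul (Nat.mod (Nat.shiftRight a 104) 16) (Nat.mod (Nat.shiftRight b 152) 16))) (Nat.mul (Nat.mod (Nat.shiftRight a 108) 16) (Nat.mod (Nat.shiftRight b 180) 16))) 11) (Nat.mul 16 (Nat.add (Nat.mod (Nat.add (Nat.add (Nat.add (Nat.add (Nat.add (Nat.add (Nat.mul (Nat.mod (Nat.shiftRight a 84) 16) (Nat.mod (Nat.shiftRight b 16) 16)) (Nat.mul (Nat.mod (Nat.shiftRight a 88) 16) (Nat.mod (Nat.shiftRight b 44) 16))) (Nat.mul (Nat.mod (Nat.shiftRight a 92) 16) (Nat.mod (Nat.shiftRight b 72) 16))) (Nat.mul (Nat.mod (Nat.shiftRight a 96) 16) (Nat.mod (Nat.shiftRight b 100) 16))) (Nat.mul (Nat.mod (Nat.shiftRight a 100) 16) (Nat.mod (Nat.shiftRight b 128) 16))) (Nat.mul (Nat.mod (Nat.shiftRight a 104)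 16) (Nat.mod (Nat.shiftRight b 156) 16))) (Nat.mul (Nat.mod (Nat.shiftRight a 108) 16) (Nat.mod (Nat.shiftRight b 184) 16))) 11) (Nat.mul 16 (Nat.add (Nat.mod (Nat.add (Nat.add (Nat.add (Nat.add (Nat.add (Nat.add (Nat.mul (Nat.mod (Nat.shiftRight a 84) 16) (Nat.mod (Nat.shiftRight b 20) 16)) (Nat.mul (Nat.mod (Nat.shiftRight a 88) 16) (Nat.mod (Nat.shiftRight b 48) 16))) (Nat.mul (Nat.mod (Nat.shiftRight a 92) 16) (Nat.mod (Nat.shiftRight b 76) 16))) (Nat.mul (Nat.mod (Nat.shiftRight a 96) 16) (Nat.mod (Nat.shiftRight b 104) 16))) (Nat.mul (Nat.mod (Nat.shiftRight a 100) 16) (Nat.mod (Nat.shiftRight b 132) 16))) (Nat.mul (Nat.mod (Nat.shiftRight a 104) 16) (Nat.mod (Nat.shiftRight b 160) 16))) (Nat.mul (Nat.mod (Nat.shiftRight a 108) 16) (Nat.mod (Nat.shiftRight b 188) 16))) 11) (Nat.mul 16 (Nat.add (Nat.mod (Nat.add (Nat.add (Nat.add (Nat.add (Nat.add (Nat.add (Nat.mul (Nat.mod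 (Nat.shiftRight a 84) 16) (Nat.mod (Nat.shiftRight b 24) 16)) (Nat.mul (Nat.mod (Nat.shiftRight a 88) 16) (Nat.mod (Nat.shiftRight b 52) 16))) (Nat.mul (Nat.mod (Nat.shiftRight a 92) 16) (Nat.mod (Nat.shiftRight b 80) 16))) (Nat.mul (Nat.mod (Nat.shiftRight a 96) 16) (Nat.mod (Nat.shiftRight b 108) 16))) (Nat.mul (Nat.mod (Nat.shiftRight a 100) 16) (Nat.mod (Nat.shiftRight b 136) 16))) (Nat.mul (Nat.mod (Nat.shiftRight a 104) 16) (Nat.mod (Nat.shiftRight b 164) 16))) (Nat.mul (Nat.mod (Nat.shiftRight a 108) 16) (Nat.mod (Nat.shiftRight b 192) 16))) 11) (Nat.mul 16 (Nat.add (Nat.mod (Nat.add (Nat.add (Nat.add (Nat.add (Nat.add (Nat.add (Nat.mul (Nat.mod (Nat.shiftRight a 112) 16) (Nat.mod b 16)) (Nat.mul (Nat.mod (Nat.shiftRight a 116) 16) (Nat.mod (Nat.shiftRight b 28) 16))) (Nat.mul (Nat.mod (Nat.shiftRight a 120) 16) (Nat.mod (Nat.shiftRight b 56) 16))) (Nat.mul (Nat.mod (Nat.shiftRight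 a 124) 16) (Nat.mod (Nat.shiftRight b 84) 16))) (Nat.mul (Nat.mod (Nat.shiftRight a 128) 16) (Nat.mod (Nat.shiftRight b 112) 16))) (Nat.mul (Nat.mod (Nat.shiftRight a 132) 16) (Nat.mod (Nat.shiftRight b 140) 16))) (Nat.mul (Nat.mod (Nat.shiftRight a 136) 16) (Nat.mod (Nat.shiftRight b 168) 16))) 11) (Nat.mul 16 (Nat.add (Nat.mod (Nat.add (Nat.add (Nat.add (Nat.add (Nat.add (Nat.add (Nat.mul (Nat.mod (Nat.shiftRight a 112) 16) (Nat.mod (Nat.shiftRight b 4) 16)) (Nat.mul (Nat.mod (Nat.shiftRight a 116) 16) (Nat.mod (Nat.shiftRight b 32) 16))) (Nat.mul (Nat.mod (Nat.shiftRight a 120) 16) (Nat.mod (Nat.shiftRight b 60) 16))) (Nat.mul (Nat.mod (Nat.shiftRight a 124) 16) (Nat.mod (Nat.shiftRight b 88) 16))) (Nat.mul (Nat.mod (Nat.shiftRight a 128) 16) (Nat.mod (Nat.shiftRight b 116) 16))) (Nat.mul (Nat.mod (Nat.shiftRight a 132) 16) (Nat.mod (Nat.shiftRight b 144) 16))) (Nat.mul (Nat.mod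 (Nat.shiftRight a 136) 16) (Nat.mod (Nat.shiftRight b 172) 16))) 11) (Nat.mul 16 (Nat.add (Nat.mod (Nat.add (Nat.add (Nat.add (Nat.add (Nat.add (Nat.add (Nat.mul (Nat.mod (Nat.shiftRight a 112) 16) (Nat.mod (Nat.shiftRight b 8) 16)) (Nat.mul (Nat.mod (Nat.shiftRight a 116) 16) (Nat.mod (Nat.shiftRight b 36) 16))) (Nat.mul (Nat.mod (Nat.shiftRight a 120) 16) (Nat.mod (Nat.shiftRight b 64) 16))) (Nat.mul (Nat.mod (Nat.shiftRight a 124) 16) (Nat.mod (Nat.shiftRight b 92) 16))) (Nat.mul (Nat.mod (Nat.shiftRight a 128) 16) (Nat.mod (Nat.shiftRight b 120) 16))) (Nat.mul (Nat.mod (Nat.shiftRight a 132) 16) (Nat.mod (Nat.shiftRight b 148) 16))) (Nat.mul (Nat.mod (Nat.shiftRight a 136) 16) (Nat.mod (Nat.shiftRight b 176) 16))) 11) (Nat.mul 16 (Nat.add (Nat.mod (Nat.add (Nat.add (Nat.add (Nat.add (Nat.add (Nat.add (Nat.mul (Nat.mod (Nat.shiftRight a 112) 16) (Nat.mod (Nat.shiftRight b 12)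 16)) (Nat.mul (Nat.mod (Nat.shiftRight a 116) 16) (Nat.mod (Nat.shiftRight b 40) 16))) (Nat.mul (Nat.mod (Nat.shiftRight a 120) 16) (Nat.mod (Nat.shiftRight b 68) 16))) (Nat.mul (Nat.mod (Nat.shiftRight a 124) 16) (Nat.mod (Nat.shiftRight b 96) 16))) (Nat.mul (Nat.mod (Nat.shiftRight a 128) 16) (Nat.mod (Nat.shiftRight b 124) 16))) (Nat.mul (Nat.mod (Nat.shiftRight a 132) 16) (Nat.mod (Nat.shiftRight b 152) 16))) (Nat.mul (Nat.mod (Nat.shiftRight a 136) 16) (Nat.mod (Nat.shiftRight b 180) 16))) 11) (Nat.mul 16 (Nat.add (Nat.mod (Nat.add (Nat.add (Nat.add (Nat.add (Nat.add (Nat.add (Nat.mul (Nat.mod (Nat.shiftRight a 112) 16) (Nat.mod (Nat.shiftRight b 16) 16)) (Nat.mul (Nat.mod (Nat.shiftRight a 116) 16) (Nat.mod (Nat.shiftRight b 44) 16))) (Nat.mul (Nat.mod (Nat.shiftRight a 120) 16) (Nat.mod (Nat.shiftRight b 72) 16))) (Nat.mul (Nat.mod (Nat.shiftRight a 124) 16) (Nat.mod (Nat.shiftRight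 b 100) 16))) (Nat.mul (Nat.mod (Nat.shiftRight a 128) 16) (Nat.mod (Nat.shiftRight b 128) 16))) (Nat.mul (Nat.mod (Nat.shiftRight a 132) 16) (Nat.mod (Nat.shiftRight b 156) 16))) (Nat.mul (Nat.mod (Nat.shiftRight a 136) 16) (Nat.mod (Nat.shiftRight b 184) 16))) 11) (Nat.mul 16 (Nat.add (Nat.mod (Nat.add (Nat.add (Nat.add (Nat.add (Nat.add (Nat.add (Nat.mul (Nat.mod (Nat.shiftRight a 112) 16) (Nat.mod (Nat.shiftRight b 20) 16)) (Nat.mul (Nat.mod (Nat.shiftRight a 116) 16) (Nat.mod (Nat.shiftRight b 48) 16))) (Nat.mul (Nat.mod (Nat.shiftRight a 120) 16) (Nat.mod (Nat.shiftRight b 76) 16))) (Nat.mul (Nat.mod (Nat.shiftRight a 124) 16) (Nat.mod (Nat.shiftRight b 104) 16))) (Nat.mul (Nat.mod (Nat.shiftRight a 128) 16) (Nat.mod (Nat.shiftRight b 132) 16))) (Nat.mul (Nat.mod (Nat.shiftRight a 132) 16) (Nat.mod (Nat.shiftRight b 160) 16))) (Nat.mul (Nat.mod (Nat.shiftRight a 136) 16) (Nat.mod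 (Nat.shiftRight b 188) 16))) 11) (Nat.mul 16 (Nat.add (Nat.mod (Nat.add (Nat.add (Nat.add (Nat.add (Nat.add (Nat.add (Nat.mul (Nat.mod (Nat.shiftRight a 112) 16) (Nat.mod (Nat.shiftRight b 24) 16)) (Nat.mul (Nat.mod (Nat.shiftRight a 116) 16) (Nat.mod (Nat.shiftRight b 52) 16))) (Nat.mul (Nat.mod (Nat.shiftRight a 120) 16) (Nat.mod (Nat.shiftRight b 80) 16))) (Nat.mul (Nat.mod (Nat.shiftRight a 124) 16) (Nat.mod (Nat.shiftRight b 108) 16))) (Nat.mul (Nat.mod (Nat.shiftRight a 128) 16) (Nat.mod (Nat.shiftRight b 136) 16))) (Nat.mul (Nat.mod (Nat.shiftRight a 132) 16) (Nat.mod (Nat.shiftRight b 164) 16))) (Nat.mul (Nat.mod (Nat.shiftRight a 136) 16) (Nat.mod (Nat.shiftRight b 192) 16))) 11) (Nat.mul 16 (Nat.add (Nat.mod (Nat.add (Nat.add (Nat.add (Nat.add (Nat.add (Nat.add (Nat.mul (Nat.mod (Nat.shiftRight a 140) 16) (Nat.mod b 16)) (Nat.mul (Nat.mod (Nat.shiftRight a 144) 16) (Nat.mod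 (Nat.shiftRight b 28) 16))) (Nat.mul (Nat.mod (Nat.shiftRight a 148) 16) (Nat.mod (Nat.shiftRight b 56) 16))) (Nat.mul (Nat.mod (Nat.shiftRight a 152) 16) (Nat.mod (Nat.shiftRight b 84) 16))) (Nat.mul (Nat.mod (Nat.shiftRight a 156) 16) (Nat.mod (Nat.shiftRight b 112) 16))) (Nat.mul (Nat.mod (Nat.shiftRight a 160) 16) (Nat.mod (Nat.shiftRight b 140) 16))) (Nat.mul (Nat.mod (Nat.shiftRight a 164) 16) (Nat.mod (Nat.shiftRight b 168) 16))) 11) (Nat.mul 16 (Nat.add (Nat.mod (Nat.add (Nat.add (Nat.add (Nat.add (Nat.add (Nat.add (Nat.mul (Nat.mod (Nat.shiftRight a 140) 16) (Nat.mod (Nat.shiftRight b 4) 16)) (Nat.mul (Nat.mod (Nat.shiftRight a 144) 16) (Nat.mod (Nat.shiftRight b 32) 16))) (Nat.mul (Nat.mod (Nat.shiftRight a 148) 16) (Nat.mod (Nat.shiftRight b 60) 16))) (Nat.mul (Nat.mod (Nat.shiftRight a 152) 16) (Nat.mod (Nat.shiftRight b 88) 16))) (Nat.mul (Nat.mod (Nat.shiftRight a 156)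 16) (Nat.mod (Nat.shiftRight b 116) 16))) (Nat.mul (Nat.mod (Nat.shiftRight a 160) 16) (Nat.mod (Nat.shiftRight b 144) 16))) (Nat.mul (Nat.mod (Nat.shiftRight a 164) 16) (Nat.mod (Nat.shiftRight b 172) 16))) 11) (Nat.mul 16 (Nat.add (Nat.mod (Nat.add (Nat.add (Nat.add (Nat.add (Nat.add (Nat.add (Nat.mul (Nat.mod (Nat.shiftRight a 140) 16) (Nat.mod (Nat.shiftRight b 8) 16)) (Nat.mul (Nat.mod (Nat.shiftRight a 144) 16) (Nat.mod (Nat.shiftRight b 36) 16))) (Nat.mul (Nat.mod (Nat.shiftRight a 148) 16) (Nat.mod (Nat.shiftRight b 64) 16))) (Nat.mul (Nat.mod (Nat.shiftRight a 152) 16) (Nat.mod (Nat.shiftRight b 92) 16))) (Nat.mul (Nat.mod (Nat.shiftRight a 156) 16) (Nat.mod (Nat.shiftRight b 120) 16))) (Nat.mul (Nat.mod (Nat.shiftRight a 160) 16) (Nat.mod (Nat.shiftRight b 148) 16))) (Nat.mul (Nat.mod (Nat.shiftRight a 164) 16) (Nat.mod (Nat.shiftRight b 176) 16))) 11) (Nat.mul 16 (Nat.add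 (Nat.mod (Nat.add (Nat.add (Nat.add (Nat.add (Nat.add (Nat.add (Nat.mul (Nat.mod (Nat.shiftRight a 140) 16) (Nat.mod (Nat.shiftRight b 12) 16)) (Nat.mul (Nat.mod (Nat.shiftRight a 144) 16) (Nat.mod (Nat.shiftRight b 40) 16))) (Nat.mul (Nat.mod (Nat.shiftRight a 148) 16) (Nat.mod (Nat.shiftRight b 68) 16))) (Nat.mul (Nat.mod (Nat.shiftRight a 152) 16) (Nat.mod (Nat.shiftRight b 96) 16))) (Nat.mul (Nat.mod (Nat.shiftRight a 156) 16) (Nat.mod (Nat.shiftRight b 124) 16))) (Nat.mul (Nat.mod (Nat.shiftRight a 160) 16) (Nat.mod (Nat.shiftRight b 152) 16))) (Nat.mul (Nat.mod (Nat.shiftRight a 164) 16) (Nat.mod (Nat.shiftRight b 180) 16))) 11) (Nat.mul 16 (Nat.add (Nat.mod (Nat.add (Nat.add (Nat.add (Nat.add (Nat.add (Nat.add (Nat.mul (Nat.mod (Nat.shiftRight a 140) 16) (Nat.mod (Nat.shiftRight b 16) 16)) (Nat.mul (Nat.mod (Nat.shiftRight a 144) 16) (Nat.mod (Nat.shiftRight b 44) 16))) (Nat.mul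 (Nat.mod (Nat.shiftRight a 148) 16) (Nat.mod (Nat.shiftRight b 72) 16))) (Nat.mul (Nat.mod (Nat.shiftRight a 152) 16) (Nat.mod (Nat.shiftRight b 100) 16))) (Nat.mul (Nat.mod (Nat.shiftRight a 156) 16) (Nat.mod (Nat.shiftRight b 128) 16))) (Nat.mul (Nat.mod (Nat.shiftRight a 160) 16) (Nat.mod (Nat.shiftRight b 156) 16))) (Nat.mul (Nat.mod (Nat.shiftRight a 164) 16) (Nat.mod (Nat.shiftRight b 184) 16))) 11) (Nat.mul 16 (Nat.add (Nat.mod (Nat.add (Nat.add (Nat.add (Nat.add (Nat.add (Nat.add (Nat.mul (Nat.mod (Nat.shiftRight a 140) 16) (Nat.mod (Nat.shiftRight b 20) 16)) (Nat.mul (Nat.mod (Nat.shiftRight a 144) 16) (Nat.mod (Nat.shiftRight b 48) 16))) (Nat.mul (Nat.mod (Nat.shiftRight a 148) 16) (Nat.mod (Nat.shiftRight b 76) 16))) (Nat.mul (Nat.mod (Nat.shiftRight a 152) 16) (Nat.mod (Nat.shiftRight b 104) 16))) (Nat.mul (Nat.mod (Nat.shiftRight a 156) 16) (Nat.mod (Nat.shiftRight b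 132) 16))) (Nat.mul (Nat.mod (Nat.shiftRight a 160) 16) (Nat.mod (Nat.shiftRight b 160) 16))) (Nat.mul (Nat.mod (Nat.shiftRight a 164) 16) (Nat.mod (Nat.shiftRight b 188) 16))) 11) (Nat.mul 16 (Nat.add (Nat.mod (Nat.add (Nat.add (Nat.add (Nat.add (Nat.add (Nat.add (Nat.mul (Nat.mod (Nat.shiftRight a 140) 16) (Nat.mod (Nat.shiftRight b 24) 16)) (Nat.mul (Nat.mod (Nat.shiftRight a 144) 16) (Nat.mod (Nat.shiftRight b 52) 16))) (Nat.mul (Nat.mod (Nat.shiftRight a 148) 16) (Nat.mod (Nat.shiftRight b 80) 16))) (Nat.mul (Nat.mod (Nat.shiftRight a 152) 16) (Nat.mod (Nat.shiftRight b 108) 16))) (Nat.mul (Nat.mod (Nat.shiftRight a 156) 16) (Nat.mod (Nat.shiftRight b 136) 16))) (Nat.mul (Nat.mod (Nat.shiftRight a 160) 16) (Nat.mod (Nat.shiftRight b 164) 16))) (Nat.mul (Nat.mod (Nat.shiftRight a 164) 16) (Nat.mod (Nat.shiftRight b 192) 16))) 11) (Nat.mul 16 (Nat.add (Nat.mod (Nat.add (Nat.add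 (Nat.add (Nat.add (Nat.add (Nat.add (Nat.mul (Nat.mod (Nat.shiftRight a 168) 16) (Nat.mod b 16)) (Nat.mul (Nat.mod (Nat.shiftRight a 172) 16) (Nat.mod (Nat.shiftRight b 28) 16))) (Nat.mul (Nat.mod (Nat.shiftRight a 176) 16) (Nat.mod (Nat.shiftRight b 56) 16))) (Nat.mul (Nat.mod (Nat.shiftRight a 180) 16) (Nat.mod (Nat.shiftRight b 84) 16))) (Nat.mul (Nat.mod (Nat.shiftRight a 184) 16) (Nat.mod (Nat.shiftRight b 112) 16))) (Nat.mul (Nat.mod (Nat.shiftRight a 188) 16) (Nat.mod (Nat.shiftRight b 140) 16))) (Nat.mul (Nat.mod (Nat.shiftRight a 192) 16) (Nat.mod (Nat.shiftRight b 168) 16))) 11) (Nat.mul 16 (Nat.add (Nat.mod (Nat.add (Nat.add (Nat.add (Nat.add (Nat.add (Nat.add (Nat.mul (Nat.mod (Nat.shiftRight a 168) 16) (Nat.mod (Nat.shiftRight b 4) 16)) (Nat.mul (Nat.mod (Nat.shiftRight a 172) 16) (Nat.mod (Nat.shiftRight b 32) 16))) (Nat.mul (Nat.mod (Nat.shiftRight a 176) 16) (Nat.mod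 (Nat.shiftRight b 60) 16))) (Nat.mul (Nat.mod (Nat.shiftRight a 180) 16) (Nat.mod (Nat.shiftRight b 88) 16))) (Nat.mul (Nat.mod (Nat.shiftRight a 184) 16) (Nat.mod (Nat.shiftRight b 116) 16))) (Nat.mul (Nat.mod (Nat.shiftRight a 188) 16) (Nat.mod (Nat.shiftRight b 144) 16))) (Nat.mul (Nat.mod (Nat.shiftRight a 192) 16) (Nat.mod (Nat.shiftRight b 172) 16))) 11) (Nat.mul 16 (Nat.add (Nat.mod (Nat.add (Nat.add (Nat.add (Nat.add (Nat.add (Nat.add (Nat.mul (Nat.mod (Nat.shiftRight a 168) 16) (Nat.mod (Nat.shiftRight b 8) 16)) (Nat.mul (Nat.mod (Nat.shiftRight a 172) 16) (Nat.mod (Nat.shiftRight b 36) 16))) (Nat.mul (Nat.mod (Nat.shiftRight a 176) 16) (Nat.mod (Nat.shiftRight b 64) 16))) (Nat.mul (Nat.mod (Nat.shiftRight a 180) 16) (Nat.mod (Nat.shiftRight b 92) 16))) (Nat.mul (Nat.mod (Nat.shiftRight a 184) 16) (Nat.mod (Nat.shiftRight b 120) 16))) (Nat.mul (Nat.mod (Nat.shiftRight a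 188) 16) (Nat.mod (Nat.shiftRight b 148) 16))) (Nat.mul (Nat.mod (Nat.shiftRight a 192) 16) (Nat.mod (Nat.shiftRight b 176) 16))) 11) (Nat.mul 16 (Nat.add (Nat.mod (Nat.add (Nat.add (Nat.add (Nat.add (Nat.add (Nat.add (Nat.mul (Nat.mod (Nat.shiftRight a 168) 16) (Nat.mod (Nat.shiftRight b 12) 16)) (Nat.mul (Nat.mod (Nat.shiftRight a 172) 16) (Nat.mod (Nat.shiftRight b 40) 16))) (Nat.mul (Nat.mod (Nat.shiftRight a 176) 16) (Nat.mod (Nat.shiftRight b 68) 16))) (Nat.mul (Nat.mod (Nat.shiftRight a 180) 16) (Nat.mod (Nat.shiftRight b 96) 16))) (Nat.mul (Nat.mod (Nat.shiftRight a 184) 16) (Nat.mod (Nat.shiftRight b 124) 16))) (Nat.mul (Nat.mod (Nat.shiftRight a 188) 16) (Nat.mod (Nat.shiftRight b 152) 16))) (Nat.mul (Nat.mod (Nat.shiftRight a 192) 16) (Nat.mod (Nat.shiftRight b 180) 16))) 11) (Nat.mul 16 (Nat.add (Nat.mod (Nat.add (Nat.add (Nat.add (Nat.add (Nat.add (Nat.add (Nat.mul (Nat.mod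 (Nat.shiftRight a 168) 16) (Nat.mod (Nat.shiftRight b 16) 16)) (Nat.mul (Nat.mod (Nat.shiftRight a 172) 16) (Nat.mod (Nat.shiftRight b 44) 16))) (Nat.mul (Nat.mod (Nat.shiftRight a 176) 16) (Nat.mod (Nat.shiftRight b 72) 16))) (Nat.mul (Nat.mod (Nat.shiftRight a 180) 16) (Nat.mod (Nat.shiftRight b 100) 16))) (Nat.mul (Nat.mod (Nat.shiftRight a 184) 16) (Nat.mod (Nat.shiftRight b 128) 16))) (Nat.mul (Nat.mod (Nat.shiftRight a 188) 16) (Nat.mod (Nat.shiftRight b 156) 16))) (Nat.mul (Nat.mod (Nat.shiftRight a 192) 16) (Nat.mod (Nat.shiftRight b 184) 16))) 11) (Nat.mul 16 (Nat.add (Nat.mod (Nat.add (Nat.add (Nat.add (Nat.add (Nat.add (Nat.add (Nat.mul (Nat.mod (Nat.shiftRight a 168) 16) (Nat.mod (Nat.shiftRight b 20) 16)) (Nat.mul (Nat.mod (Nat.shiftRight a 172) 16) (Nat.mod (Nat.shiftRight b 48) 16))) (Nat.mul (Nat.mod (Nat.shiftRight a 176) 16) (Nat.mod (Nat.shiftRight b 76) 16)))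 (Nat.mul (Nat.mod (Nat.shiftRight a 180) 16) (Nat.mod (Nat.shiftRight b 104) 16))) (Nat.mul (Nat.mod (Nat.shiftRight a 184) 16) (Nat.mod (Nat.shiftRight b 132) 16))) (Nat.mul (Nat.mod (Nat.shiftRight a 188) 16) (Nat.mod (Nat.shiftRight b 160) 16))) (Nat.mul (Nat.mod (Nat.shiftRight a 192) 16) (Nat.mod (Nat.shiftRight b 188) 16))) 11) (Nat.mul 16 (Nat.add (Nat.mod (Nat.add (Nat.add (Nat.add (Nat.add (Nat.add (Nat.add (Nat.mul (Nat.mod (Nat.shiftRight a 168) 16) (Nat.mod (Nat.shiftRight b 24) 16)) (Nat.mul (Nat.mod (Nat.shiftRight a 172) 16) (Nat.mod (Nat.shiftRight b 52) 16))) (Nat.mul (Nat.mod (Nat.shiftRight a 176) 16) (Nat.mod (Nat.shiftRight b 80) 16))) (Nat.mul (Nat.mod (Nat.shiftRight a 180) 16) (Nat.mod (Nat.shiftRight b 108) 16))) (Nat.mul (Nat.mod (Nat.shiftRight a 184) 16) (Nat.mod (Nat.shiftRight b 136) 16))) (Nat.mul (Nat.mod (Nat.shiftRight a 188) 16) (Nat.mod (Nat.shiftRight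 b 164) 16))) (Nat.mul (Nat.mod (Nat.shiftRight a 192) 16) (Nat.mod (Nat.shiftRight b 192) 16))) 11) (Nat.mul 16 0))))))))))))))))))))))))))))))))))))))))))))))))))))))))))))))))))))))))))))))))))))))))))))))))))

theorem mulP_eq (a b : ℕ) : mulP a b = packL (entries a b) := rfl

theorem entry_lt (a b i j : ℕ) : entry a b i j < 11 := Nat.mod_lt _ (by norm_num)

theorem ext_mulP (a b : ℕ) (i j : Fin 7) :
    ext (mulP a b) i j = entry a b i j := by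
  have hL : ∀ e ∈ entries a b, e < 16 := by
    intro e he
    simp only [entries, List.mem_ofFn] at he
    obtain ⟨k, rfl⟩ := he
    exact lt_of_lt_of_le (entry_lt _ _ _ _) (by norm_num)
  have hk : 7 * i.val + j.val < (entries a b).length := by
    have h1 := i.2
    have h2 := j.2
    simp [entries]
    omega
  have h := packL_digit _ hL _ hk
  have hsh : Nat.shiftRight (mulP a b) (4 * (7 * i.val + j.val)) = mulP a b / 16 ^ (7 * i.val + j.val) := by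
    rw [show Nat.shiftRight (mulP a b) (4 * (7 * i.val + j.val)) = (mulP a b) >>> (4 * (7 * i.val + j.val)) from rfl,
      Nat.shiftRight_eq_div_pow, pow_mul]
    norm_num
  unfold ext
  rw [hsh, mulP_eq]
  show (packL (entries a b) / 16 ^ (7 * i.val + j.val)) % 16 = _
  rw [h]
  simp only [entries, List.getElem_ofFn]
  have h1 := i.2
  have h2 := j.2
  have e1 : (7 * i.val + j.val) / 7 = i.val := by omega
  have e2 : (7 * i.val + j.val) % 7 = j.val := by omega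
  rw [e1, e2]

theorem dec_mulP (a b : ℕ) : dec (mulP a b) = dec a * dec b := by
  ext i j
  rw [Matrix.mul_apply, Fin.sum_univ_seven]
  show ((ext (mulP a b) i j : ℕ) : ZMod 11) = _
  rw [ext_mulP]
  unfold entry
  show (((Nat.add (Nat.add (Nat.add (Nat.add (Nat.add (Nat.add _ _) _) _) _) _) _) % 11 : ℕ) : ZMod 11) = _
  rw [ZMod.natCast_mod]
  simp only [dec, Nat.add_eq, Nat.mul_eq, Nat.cast_add, Nat.cast_mul]
  rfl

/-- The element `x` of `GL₇(11)` is coded by `n`. -/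
def Rep (x : GL (Fin 7) (ZMod 11)) (n : ℕ) : Prop := (x : M7) = dec n

theorem Rep.mul {x y : GL (Fin 7) (ZMod 11)} {a b : ℕ} (hx : Rep x a) (hy : Rep y b) :
    Rep (x * y) (mulP a b) := by
  unfold Rep at *
  rw [dec_mulP, Units.val_mul, hx, hy]

/-- the identity matrix, packed -/
def oneP : ℕ := 1 + 16 ^ 8 + 16 ^ 16 + 16 ^ 24 + 16 ^ 32 + 16 ^ 40 + 16 ^ 48

theorem dec_oneP : dec oneP = 1 := by decide +kernel

theorem rep_one : Rep 1 oneP := by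
  unfold Rep
  rw [dec_oneP]
  rfl

theorem eq_one_of_rep {x : GL (Fin 7) (ZMod 11)} (h : Rep x oneP) : x = 1 := by
  apply Units.ext
  rw [h, dec_oneP]
  rfl

theorem ne_one_of_rep {x : GL (Fin 7) (ZMod 11)} {n : ℕ} (h : Rep x n) (hn : dec n ≠ 1) : x ≠ 1 := by
  intro hx
  apply hn
  rw [← h, hx]
  rfl

/-- evaluation forcing the argument to a numeral (for the kernel) -/
def letN {α : Type} (n : ℕ) (k : ℕ → α) : α := Nat.rec (k 0) (fun m _ => k (Nat.succ m)) n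

theorem letN_eq {α : Type} (n : ℕ) (k : ℕ → α) : letN n k = k n := by
  cases n <;> rfl

/-- packing of the rows -/
def packM (L : List (List ℕ)) : ℕ := packL L.flatten

/-- the generator `X` packed -/
def Xp : ℕ := packM [[0, 1, 0, 0, 0, 0, 0], [0, 0, 1, 0, 0, 0, 0], [0, 0, 0, 1, 0, 0, 0], [0, 0, 0, 0, 1, 0, 0],
  [0, 0, 0, 0, 0, 1, 0], [0, 0, 0, 0, 0, 0, 1], [1, 0, 0, 0, 0, 0, 0]]

/-- the generator `Y` packed -/
def Yp : ℕ := packM [[8, 2, 10, 10, 8, 10, 8], [9, 1, 1, 3, 1, 3, 3], [10, 10, 8, 10, 8, 8, 2],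
  [10, 8, 10, 8, 8, 2, 10], [8, 10, 8, 8, 2, 10, 10], [1, 3, 3, 9, 1, 1, 3], [3, 3, 9, 1, 1, 3, 1]]

theorem rep_X : Rep jankoX Xp := by
  unfold Rep
  show jankoMatrixX = dec Xp
  decide +kernel

theorem rep_Y : Rep jankoY Yp := by
  unfold Rep
  show jankoMatrixY = dec Yp
  decide +kernel

end Cfsg.Agent.Lib.J1Core
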