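import Mathlib
import Cfsg.Agent.Lib.J1CCore

/-!
# Local structure of the first Janko group

The elementary abelian subgroup `E0` of order 8, its elements, its normaliser in terms of the cyclic group `⟨X⟩`
and the centraliser list of `J1CCore`.
-/

set_option autoImplicit false

namespace Cfsg.Agent.Lib.J1Local

open Cfsg.Agent.Lib.J1Mat Cfsg.Agent.Lib.J1CData Cfsg.Agent.Lib.J1CCore Cfsg Cfsg.Spor

theorem eqM_of_toMat_eq (A B : M7) (h : toMat A = toMat B) : eqM A B = true := by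
  obtain ⟨a00,a01,a02,a03,a04,a05,a06,a10,a11,a12,a13,a14,a15,a16,a20,a21,a22,a23,a24,a25,a26,a30,a31,a32,a33,a34,a35,a36,a40,a41,a42,a43,a44,a45,a46,a50,a51,a52,a53,a54,a55,a56,a60,a61,a62,a63,a64,a65,a66⟩ := A
  obtain ⟨b00,b01,b02,b03,b04,b05,b06,b10,b11,b12,b13,b14,b15,b16,b20,b21,b22,b23,b24,b25,b26,b30,b31,b32,b33,b34,b35,b36,b40,b41,b42,b43,b44,b45,b46,b50,b51,b52,b53,b54,b55,b56,b60,b61,b62,b63,b64,b65,b66⟩ := B
  have h00 : Nat.mod a00 11 = Nat.mod b00 11 := (ZMod.natCast_eq_natCast_iff' _ _ _).mp (congrFun (congrFun h 0) 0)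
  have h01 : Nat.mod a01 11 = Nat.mod b01 11 := (ZMod.natCast_eq_natCast_iff' _ _ _).mp (congrFun (congrFun h 0) 1)
  have h02 : Nat.mod a02 11 = Nat.mod b02 11 := (ZMod.natCast_eq_natCast_iff' _ _ _).mp (congrFun (congrFun h 0) 2)
  have h03 : Nat.mod a03 11 = Nat.mod b03 11 := (ZMod.natCast_eq_natCast_iff' _ _ _).mp (congrFun (congrFun h 0) 3)
  have h04 : Nat.mod a04 11 = Nat.mod b04 11 := (ZMod.natCast_eq_natCast_iff' _ _ _).mp (congrFun (congrFun h 0) 4)
  have h05 : Nat.mod a05 11 = Nat.mod b05 11 := (ZMod.natCast_eq_natCast_iff' _ _ _).mp (congrFun (congrFun h 0) 5)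
  have h06 : Nat.mod a06 11 = Nat.mod b06 11 := (ZMod.natCast_eq_natCast_iff' _ _ _).mp (congrFun (congrFun h 0) 6)
  have h10 : Nat.mod a10 11 = Nat.mod b10 11 := (ZMod.natCast_eq_natCast_iff' _ _ _).mp (congrFun (congrFun h 1) 0)
  have h11 : Nat.mod a11 11 = Nat.mod b11 11 := (ZMod.natCast_eq_natCast_iff' _ _ _).mp (congrFun (congrFun h 1) 1)
  have h12 : Nat.mod a12 11 = Nat.mod b12 11 := (ZMod.natCast_eq_natCast_iff' _ _ _).mp (congrFun (congrFun h 1) 2)
  have h13 : Nat.mod a13 11 = Nat.mod b13 11 := (ZMod.natCast_eq_natCast_iff' _ _ _).mp (congrFun (congrFun h 1) 3)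
  have h14 : Nat.mod a14 11 = Nat.mod b14 11 := (ZMod.natCast_eq_natCast_iff' _ _ _).mp (congrFun (congrFun h 1) 4)
  have h15 : Nat.mod a15 11 = Nat.mod b15 11 := (ZMod.natCast_eq_natCast_iff' _ _ _).mp (congrFun (congrFun h 1) 5)
  have h16 : Nat.mod a16 11 = Nat.mod b16 11 := (ZMod.natCast_eq_natCast_iff' _ _ _).mp (congrFun (congrFun h 1) 6)
  have h20 : Nat.mod a20 11 = Nat.mod b20 11 := (ZMod.natCast_eq_natCast_iff' _ _ _).mp (congrFun (congrFun h 2) 0)
  have h21 : Nat.mod a21 11 = Nat.mod b21 11 := (ZMod.natCast_eq_natCast_iff' _ _ _).mp (congrFun (congrFun h 2) 1)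
  have h22 : Nat.mod a22 11 = Nat.mod b22 11 := (ZMod.natCast_eq_natCast_iff' _ _ _).mp (congrFun (congrFun h 2) 2)
  have h23 : Nat.mod a23 11 = Nat.mod b23 11 := (ZMod.natCast_eq_natCast_iff' _ _ _).mp (congrFun (congrFun h 2) 3)
  have h24 : Nat.mod a24 11 = Nat.mod b24 11 := (ZMod.natCast_eq_natCast_iff' _ _ _).mp (congrFun (congrFun h 2) 4)
  have h25 : Nat.mod a25 11 = Nat.mod b25 11 := (ZMod.natCast_eq_natCast_iff' _ _ _).mp (congrFun (congrFun h 2) 5)
  have h26 : Nat.mod a26 11 = Nat.mod b26 11 := (ZMod.natCast_eq_natCast_iff' _ _ _).mp (congrFun (congrFun h 2) 6)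
  have h30 : Nat.mod a30 11 = Nat.mod b30 11 := (ZMod.natCast_eq_natCast_iff' _ _ _).mp (congrFun (congrFun h 3) 0)
  have h31 : Nat.mod a31 11 = Nat.mod b31 11 := (ZMod.natCast_eq_natCast_iff' _ _ _).mp (congrFun (congrFun h 3) 1)
  have h32 : Nat.mod a32 11 = Nat.mod b32 11 := (ZMod.natCast_eq_natCast_iff' _ _ _).mp (congrFun (congrFun h 3) 2)
  have h33 : Nat.mod a33 11 = Nat.mod b33 11 := (ZMod.natCast_eq_natCast_iff' _ _ _).mp (congrFun (congrFun h 3) 3)
  have h34 : Nat.mod a34 11 = Nat.mod b34 11 := (ZMod.natCast_eq_natCast_iff' _ _ _).mp (congrFun (congrFun h 3) 4)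
  have h35 : Nat.mod a35 11 = Nat.mod b35 11 := (ZMod.natCast_eq_natCast_iff' _ _ _).mp (congrFun (congrFun h 3) 5)
  have h36 : Nat.mod a36 11 = Nat.mod b36 11 := (ZMod.natCast_eq_natCast_iff' _ _ _).mp (congrFun (congrFun h 3) 6)
  have h40 : Nat.mod a40 11 = Nat.mod b40 11 := (ZMod.natCast_eq_natCast_iff' _ _ _).mp (congrFun (congrFun h 4) 0)
  have h41 : Nat.mod a41 11 = Nat.mod b41 11 := (ZMod.natCast_eq_natCast_iff' _ _ _).mp (congrFun (congrFun h 4) 1)
  have h42 : Nat.mod a42 11 = Nat.mod b42 11 := (ZMod.natCast_eq_natCast_iff' _ _ _).mp (congrFun (congrFun h 4) 2)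
  have h43 : Nat.mod a43 11 = Nat.mod b43 11 := (ZMod.natCast_eq_natCast_iff' _ _ _).mp (congrFun (congrFun h 4) 3)
  have h44 : Nat.mod a44 11 = Nat.mod b44 11 := (ZMod.natCast_eq_natCast_iff' _ _ _).mp (congrFun (congrFun h 4) 4)
  have h45 : Nat.mod a45 11 = Nat.mod b45 11 := (ZMod.natCast_eq_natCast_iff' _ _ _).mp (congrFun (congrFun h 4) 5)
  have h46 : Nat.mod a46 11 = Nat.mod b46 11 := (ZMod.natCast_eq_natCast_iff' _ _ _).mp (congrFun (congrFun h 4) 6)
  have h50 : Nat.mod a50 11 = Nat.mod b50 11 := (ZMod.natCast_eq_natCast_iff' _ _ _).mp (congrFun (congrFun h 5) 0)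
  have h51 : Nat.mod a51 11 = Nat.mod b51 11 := (ZMod.natCast_eq_natCast_iff' _ _ _).mp (congrFun (congrFun h 5) 1)
  have h52 : Nat.mod a52 11 = Nat.mod b52 11 := (ZMod.natCast_eq_natCast_iff' _ _ _).mp (congrFun (congrFun h 5) 2)
  have h53 : Nat.mod a53 11 = Nat.mod b53 11 := (ZMod.natCast_eq_natCast_iff' _ _ _).mp (congrFun (congrFun h 5) 3)
  have h54 : Nat.mod a54 11 = Nat.mod b54 11 := (ZMod.natCast_eq_natCast_iff' _ _ _).mp (congrFun (congrFun h 5) 4)
  have h55 : Nat.mod a55 11 = Nat.mod b55 11 := (ZMod.natCast_eq_natCast_iff' _ _ _).mp (congrFun (congrFun h 5) 5)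
  have h56 : Nat.mod a56 11 = Nat.mod b56 11 := (ZMod.natCast_eq_natCast_iff' _ _ _).mp (congrFun (congrFun h 5) 6)
  have h60 : Nat.mod a60 11 = Nat.mod b60 11 := (ZMod.natCast_eq_natCast_iff' _ _ _).mp (congrFun (congrFun h 6) 0)
  have h61 : Nat.mod a61 11 = Nat.mod b61 11 := (ZMod.natCast_eq_natCast_iff' _ _ _).mp (congrFun (congrFun h 6) 1)
  have h62 : Nat.mod a62 11 = Nat.mod b62 11 := (ZMod.natCast_eq_natCast_iff' _ _ _).mp (congrFun (congrFun h 6) 2)
  have h63 : Nat.mod a63 11 = Nat.mod b63 11 := (ZMod.natCast_eq_natCast_iff' _ _ _).mp (congrFun (congrFun h 6) 3)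
  have h64 : Nat.mod a64 11 = Nat.mod b64 11 := (ZMod.natCast_eq_natCast_iff' _ _ _).mp (congrFun (congrFun h 6) 4)
  have h65 : Nat.mod a65 11 = Nat.mod b65 11 := (ZMod.natCast_eq_natCast_iff' _ _ _).mp (congrFun (congrFun h 6) 5)
  have h66 : Nat.mod a66 11 = Nat.mod b66 11 := (ZMod.natCast_eq_natCast_iff' _ _ _).mp (congrFun (congrFun h 6) 6)
  simp only [eqM, h00, h01, h02, h03, h04, h05, h06, h10, h11, h12, h13, h14, h15, h16, h20, h21, h22, h23, h24, h25, h26, h30, h31, h32, h33, h34, h35, h36, h40, h41, h42, h43, h44, h45, h46, h50, h51, h52, h53, h54, h55, h56, h60, h61, h62, h63, h64, h65, h66]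
  simp

abbrev Mat7 := Matrix (Fin 7) (Fin 7) (ZMod 11)

/-- The underlying matrix. -/
def mat (g : ↥J1) : Mat7 := ((g : GL7) : Mat7)

theorem mat_mul (g h : ↥J1) : mat (g * h) = mat g * mat h := rfl
theorem mat_one : mat 1 = 1 := rfl
theorem mat_inv (g : ↥J1) : mat g⁻¹ = (mat g).transpose := val_inv_eq_transpose g g.2
theorem mat_inj {g h : ↥J1} (H : mat g = mat h) : g = h := Subtype.ext (Units.ext H)

/-- `A` represents `g`. -/
def Rep (g : ↥J1) (A : M7) : Prop := mat g = toMat A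

theorem Rep.mul {g h : ↥J1} {A B : M7} (hg : Rep g A) (hh : Rep h B) : Rep (g * h) (mm A B) := by
  unfold Rep at *; rw [mat_mul, hg, hh, toMat_mm]

theorem Rep.inv {g : ↥J1} {A : M7} (hg : Rep g A) : Rep g⁻¹ (tr A) := by
  unfold Rep at *; rw [mat_inv, hg, toMat_tr]

theorem rep_one : Rep 1 I7 := by unfold Rep; rw [mat_one, toMat_I7]

theorem Rep.congr {g : ↥J1} {A B : M7} (hg : Rep g A) (h : eqM A B = true) : Rep g B :=
  hg.trans (toMat_eq_of_eqM _ _ h)

theorem Rep.ext {g h : ↥J1} {A B : M7} (hg : Rep g A) (hh : Rep h B) (hAB : eqM A B = true) : g = h :=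
  mat_inj (hg.trans ((toMat_eq_of_eqM _ _ hAB).trans hh.symm))

theorem Rep.uniq {g : ↥J1} {A B : M7} (hg : Rep g A) (hh : Rep g B) : eqM A B = true :=
  eqM_of_toMat_eq _ _ (hg.symm.trans hh)

/-- The generator `X`. -/
noncomputable def XJ : ↥J1 := ⟨jankoX, Subgroup.subset_closure (Or.inl rfl)⟩
/-- The generator `Y`. -/
noncomputable def YJ : ↥J1 := ⟨jankoY, Subgroup.subset_closure (Or.inr rfl)⟩

theorem rep_X : Rep XJ X7 := by unfold Rep; rw [toMat_X7]; rfl
theorem rep_Y : Rep YJ Y7 := by unfold Rep; rw [toMat_Y7]; rfl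
theorem rep_t : Rep tJ t7 := tJ_val

/-- Homomorphisms from `J1` are determined on `X`, `Y`: every element is a word in them. -/
theorem J1_induction (P : ↥J1 → Prop) (h1 : P 1) (hX : P XJ) (hY : P YJ)
    (hm : ∀ a b, P a → P b → P (a * b)) (hi : ∀ a, P a → P a⁻¹) (g : ↥J1) : P g := by
  obtain ⟨g, hg⟩ := g
  induction hg using Subgroup.closure_induction with
  | mem s hs =>
    rcases hs with rfl | rfl
    · exact hX
    · exact hY
  | one => exact h1
  | mul a b ha hb iha ihb => exact hm ⟨a, ha⟩ ⟨b, hb⟩ iha ihb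
  | inv a ha iha => exact hi ⟨a, ha⟩ iha

theorem rep_hEl (k : Fin 120) : Rep (hEl k) (Hm k.val) := hEl_val k

/-- Powers of `X`. -/
def Xp (i : Nat) : M7 := Nat.rec I7 (fun _ ih => mm X7 ih) i

theorem rep_Xp (i : Nat) : Rep (XJ ^ i) (Xp i) := by
  induction i with
  | zero => rw [pow_zero]; exact rep_one
  | succ i ih => rw [pow_succ']; exact rep_X.mul ih

theorem XJ_pow_seven : XJ ^ 7 = 1 :=
  (rep_Xp 7).ext rep_one (by decide +kernel)

/-- The conjugates of `t` under the powers of `X`. -/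
noncomputable def aJ (i : Nat) : ↥J1 := XJ ^ i * tJ * (XJ ^ i)⁻¹

theorem aJ_zero : aJ 0 = tJ := by simp [aJ]

theorem aJ_succ (i : Nat) : XJ * aJ i * XJ⁻¹ = aJ (i + 1) := by
  simp only [aJ, pow_succ']; group

theorem aJ_add_seven (i : Nat) : aJ (i + 7) = aJ i := by
  simp only [aJ, pow_add, XJ_pow_seven, mul_one]

theorem rep_aJ_gen (i : Nat) : Rep (aJ i) (mm (mm (Xp i) t7) (tr (Xp i))) :=
  ((rep_Xp i).mul rep_t).mul (rep_Xp i).inv

/-- The index in the centraliser list of the conjugates of `t`. -/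
def aIdx (i : Nat) : Nat :=
  Nat.land (Nat.shiftRight 0x74115 0) 0 + match i with
  | 0 => 18 | 1 => 117 | 2 => 118 | 3 => 119 | 4 => 19 | 5 => 17 | _ => 116

/-- The check that `aIdx` is right. -/
def chkA (i : Nat) : Bool := eqM (mm (mm (Xp i) t7) (tr (Xp i))) (Hm (aIdx i))

theorem chkA_ok : (chkA 0 && chkA 1 && chkA 2 && chkA 3 && chkA 4 && chkA 5 && chkA 6) = true := by
  decide +kernel

theorem rep_aJ {i : Nat} (hi : i < 7) : Rep (aJ i) (Hm (aIdx i)) := by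
  refine (rep_aJ_gen i).congr ?_
  have h := chkA_ok
  simp only [Bool.and_eq_true] at h
  obtain ⟨⟨⟨⟨⟨⟨h0, h1⟩, h2⟩, h3⟩, h4⟩, h5⟩, h6⟩ := h
  interval_cases i
  · exact h0
  · exact h1
  · exact h2
  · exact h3
  · exact h4
  · exact h5
  · exact h6

/-- The implication of booleans. -/
def impB (a b : Bool) : Bool := or (not a) b

theorem impB_spec {a b : Bool} (h : impB a b = true) (ha : a = true) : b = true := by
  subst ha; simpa [impB] using h

/-- A guarded loop over `[0, 120)`. -/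
def guard120 (Q : Nat → Bool) (k : Nat) : Bool := or (Nat.ble 120 k) (Q k)

theorem guard120_spec {Q : Nat → Bool} (h : allR (guard120 Q) 7 0 = true) {k : Nat} (hk : k < 120) :
    Q k = true := by
  have h1 := allR_spec _ _ _ h k (Nat.zero_le _) (by norm_num; omega)
  simp only [guard120] at h1
  have h2 : Nat.ble 120 k = false := by
    rw [Bool.eq_false_iff]; intro hh; exact absurd (Nat.le_of_ble_eq_true hh) (by omega)
  rw [h2, Bool.false_or] at h1
  exact h1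

/-- Members of the centraliser of `t`: the list. -/
theorem exists_rep_of_commute {g : ↥J1} (hg : g * tJ = tJ * g) : ∃ k, k < 120 ∧ Rep g (Hm k) := by
  have h : g ∈ Subgroup.centralizer ({tJ} : Set ↥J1) := by
    rw [Subgroup.mem_centralizer_singleton_iff]; exact hg
  obtain ⟨k, hk, hr⟩ := (mem_centralizer_iff g).mp h
  exact ⟨k, hk, hr⟩

theorem exists_of_lt {k : Nat} (hk : k < 120) : ∃ g : ↥J1, Rep g (Hm k) :=
  ⟨hEl ⟨k, hk⟩, rep_hEl ⟨k, hk⟩⟩

theorem commute_t_of_rep {g : ↥J1} {k : Nat} (hk : k < 120) (hg : Rep g (Hm k)) : g * tJ = tJ * g := by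
  have h : g ∈ Subgroup.centralizer ({tJ} : Set ↥J1) := (mem_centralizer_iff g).mpr ⟨k, hk, hg⟩
  rwa [Subgroup.mem_centralizer_singleton_iff] at h

/-- The elementary abelian subgroup of order 8 as a centraliser. -/
noncomputable def E0 : Subgroup ↥J1 := Subgroup.centralizer {aJ 0, aJ 1}

theorem mem_E0_iff {g : ↥J1} : g ∈ E0 ↔ g * tJ = tJ * g ∧ g * aJ 1 = aJ 1 * g := by
  rw [E0, Subgroup.mem_centralizer_iff]
  constructor
  · intro h
    have h1 := h (aJ 0) (by simp)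
    have h2 := h (aJ 1) (by simp)
    rw [aJ_zero] at h1
    exact ⟨h1.symm, h2.symm⟩
  · rintro ⟨h1, h2⟩ y (rfl | rfl)
    · rw [aJ_zero]; exact h1.symm
    · exact h2.symm

/-- Elements of the centraliser list commuting with `a₁` are those 8. -/
def isE (k : Nat) : Bool :=
  or (Nat.beq k 16) (or (Nat.beq k 18) (or (Nat.beq k 117) (or (Nat.beq k 118) (or (Nat.beq k 119)
    (or (Nat.beq k 19) (or (Nat.beq k 17) (Nat.beq k 116)))))))

def chkE (k : Nat) : Bool := impB (eqM (mm (Hm k) (Hm 117)) (mm (Hm 117) (Hm k))) (isE k)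

theorem chkE_ok : allR (guard120 chkE) 7 0 = true := by decide +kernel

theorem rep_mem_E0 {g : ↥J1} (hg : g ∈ E0) : ∃ k, k < 120 ∧ isE k = true ∧ Rep g (Hm k) := by
  obtain ⟨h1, h2⟩ := mem_E0_iff.mp hg
  obtain ⟨k, hk, hr⟩ := exists_rep_of_commute h1
  refine ⟨k, hk, ?_, hr⟩
  refine impB_spec (guard120_spec chkE_ok hk) ?_
  have ha := rep_aJ (i := 1) (by norm_num)
  have hb : aJ 1 * g = g * aJ 1 := h2.symm
  have h3 : Rep (g * aJ 1) (mm (Hm k) (Hm 117)) := hr.mul ha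
  have h4 : Rep (g * aJ 1) (mm (Hm 117) (Hm k)) := by rw [← hb]; exact ha.mul hr
  exact h3.uniq h4

/-- The list of elements of `E0`. -/
theorem mem_E0_list {g : ↥J1} (hg : g ∈ E0) : g = 1 ∨ ∃ i, i < 7 ∧ g = aJ i := by
  obtain ⟨k, hk, hE, hr⟩ := rep_mem_E0 hg
  simp only [isE, Bool.or_eq_true, Nat.beq_eq] at hE
  have ha : ∀ i, i < 7 → k = aIdx i → g = aJ i := by
    intro i hi hki
    subst hki
    exact mat_inj (hr.trans (rep_aJ hi).symm)
  rcases hE with rfl | rfl | rfl | rfl | rfl | rfl | rfl | rfl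
  · left
    exact hr.ext rep_one (by decide +kernel)
  · exact Or.inr ⟨0, by norm_num, ha 0 (by norm_num) rfl⟩
  · exact Or.inr ⟨1, by norm_num, ha 1 (by norm_num) rfl⟩
  · exact Or.inr ⟨2, by norm_num, ha 2 (by norm_num) rfl⟩
  · exact Or.inr ⟨3, by norm_num, ha 3 (by norm_num) rfl⟩
  · exact Or.inr ⟨4, by norm_num, ha 4 (by norm_num) rfl⟩
  · exact Or.inr ⟨5, by norm_num, ha 5 (by norm_num) rfl⟩
  · exact Or.inr ⟨6, by norm_num, ha 6 (by norm_num) rfl⟩

/-- The conjugates commute with `t` and `a₁`. -/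
def chkComm (i : Nat) : Bool :=
  and (eqM (mm (Hm (aIdx i)) t7) (mm t7 (Hm (aIdx i))))
    (eqM (mm (Hm (aIdx i)) (Hm 117)) (mm (Hm 117) (Hm (aIdx i))))

theorem chkComm_ok : (chkComm 0 && chkComm 1 && chkComm 2 && chkComm 3 && chkComm 4 && chkComm 5 && chkComm 6) = true := by
  decide +kernel

theorem aJ_mem_E0 {i : Nat} (hi : i < 7) : aJ i ∈ E0 := by
  have h := chkComm_ok
  simp only [Bool.and_eq_true] at h
  obtain ⟨⟨⟨⟨⟨⟨h0, h1⟩, h2⟩, h3⟩, h4⟩, h5⟩, h6⟩ := h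
  have hk : chkComm i = true := by
    interval_cases i
    · exact h0
    · exact h1
    · exact h2
    · exact h3
    · exact h4
    · exact h5
    · exact h6
  simp only [chkComm, Bool.and_eq_true] at hk
  have ha := rep_aJ hi
  have hb := rep_aJ (i := 1) (by norm_num)
  rw [mem_E0_iff]
  constructor
  · exact (ha.mul rep_t).ext (rep_t.mul ha) hk.1
  · exact (ha.mul hb).ext (hb.mul ha) hk.2

theorem one_mem_E0' : (1 : ↥J1) ∈ E0 := E0.one_mem

/-- Elements of `E0` commute. -/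
theorem E0_comm {x y : ↥J1} (hx : x ∈ E0) (hy : y ∈ E0) : x * y = y * x := by
  rcases mem_E0_list hy with rfl | ⟨j, hj, rfl⟩
  · simp
  rcases mem_E0_list hx with rfl | ⟨i, hi, rfl⟩
  · simp
  have key : ∀ d, d < 7 → aJ 0 * aJ d = aJ d * aJ 0 := by
    intro d hd
    rw [aJ_zero]
    exact ((mem_E0_iff.mp (aJ_mem_E0 hd)).1).symm
  -- conjugate by a power of `X`
  have hconj : ∀ (n : Nat) (i j : Nat), aJ (n + i) = XJ ^ n * aJ i * (XJ ^ n)⁻¹ := by
    intro n i j
    simp only [aJ, pow_add]; group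
  rcases le_total i j with hij | hij
  · obtain ⟨d, rfl⟩ := Nat.exists_eq_add_of_le hij
    have h1 := hconj i 0 0
    have h2 := hconj i d 0
    rw [add_zero] at h1
    rw [h1, h2]
    have := key d (by omega)
    calc XJ ^ i * aJ 0 * (XJ ^ i)⁻¹ * (XJ ^ i * aJ d * (XJ ^ i)⁻¹)
        = XJ ^ i * (aJ 0 * aJ d) * (XJ ^ i)⁻¹ := by group
      _ = XJ ^ i * (aJ d * aJ 0) * (XJ ^ i)⁻¹ := by rw [this]
      _ = _ := by group
  · obtain ⟨d, rfl⟩ := Nat.exists_eq_add_of_le hij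
    have h1 := hconj j 0 0
    have h2 := hconj j d 0
    rw [add_zero] at h1
    rw [h1, h2]
    have := key d (by omega)
    calc XJ ^ j * aJ d * (XJ ^ j)⁻¹ * (XJ ^ j * aJ 0 * (XJ ^ j)⁻¹)
        = XJ ^ j * (aJ d * aJ 0) * (XJ ^ j)⁻¹ := by group
      _ = XJ ^ j * (aJ 0 * aJ d) * (XJ ^ j)⁻¹ := by rw [this]
      _ = _ := by group

/-- The eight-element index set. -/
def idxE : Finset (Fin 120) := {16, 18, 117, 118, 119, 19, 17, 116}

theorem card_idxE : idxE.card = 8 := by decide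

theorem mem_E0_iff_hEl {g : ↥J1} : g ∈ E0 ↔ ∃ k ∈ idxE, hEl k = g := by
  constructor
  · intro hg
    obtain ⟨k, hk, hE, hr⟩ := rep_mem_E0 hg
    refine ⟨⟨k, hk⟩, ?_, mat_inj ((rep_hEl ⟨k, hk⟩).trans hr.symm)⟩
    simp only [isE, Bool.or_eq_true, Nat.beq_eq] at hE
    rcases hE with rfl | rfl | rfl | rfl | rfl | rfl | rfl | rfl <;> simp [idxE, Fin.ext_iff]
  · rintro ⟨k, hk, rfl⟩
    have h1 : k = 16 ∨ k = 18 ∨ k = 117 ∨ k = 118 ∨ k = 119 ∨ k = 19 ∨ k = 17 ∨ k = 116 := by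
      simpa [idxE] using hk
    have ha : ∀ i (hi : i < 7) (h2 : aIdx i < 120), k = ⟨aIdx i, h2⟩ → hEl k ∈ E0 := by
      intro i hi h2 h3
      have h4 : hEl k = aJ i := by
        subst h3
        exact mat_inj ((rep_hEl _).trans (rep_aJ hi).symm)
      rw [h4]; exact aJ_mem_E0 hi
    rcases h1 with rfl | rfl | rfl | rfl | rfl | rfl | rfl | rfl
    · have : hEl 16 = 1 := (rep_hEl 16).ext rep_one (by decide +kernel)
      rw [this]; exact E0.one_mem
    · exact ha 0 (by norm_num) (by decide) rfl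
    · exact ha 1 (by norm_num) (by decide) rfl
    · exact ha 2 (by norm_num) (by decide) rfl
    · exact ha 3 (by norm_num) (by decide) rfl
    · exact ha 4 (by norm_num) (by decide) rfl
    · exact ha 5 (by norm_num) (by decide) rfl
    · exact ha 6 (by norm_num) (by decide) rfl

theorem card_E0 : Nat.card E0 = 8 := by
  have h1 : (E0 : Set ↥J1) = hEl '' (idxE : Set (Fin 120)) := by
    ext g
    rw [SetLike.mem_coe, mem_E0_iff_hEl]
    simp
  have h2 : Nat.card E0 = Nat.card (E0 : Set ↥J1) := rfl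
  rw [h2, h1, Nat.card_coe_set_eq, Set.ncard_image_of_injective _ hEl_injective, Set.ncard_coe_finset,
    card_idxE]

/-- The relations among the conjugates. -/
theorem rel_a3 : aJ 0 * aJ 1 = aJ 3 :=
  ((rep_aJ (i := 0) (by norm_num)).mul (rep_aJ (i := 1) (by norm_num))).ext
    (rep_aJ (i := 3) (by norm_num)) (by decide +kernel)

theorem rel_a4 : aJ 1 * aJ 2 = aJ 4 :=
  ((rep_aJ (i := 1) (by norm_num)).mul (rep_aJ (i := 2) (by norm_num))).ext
    (rep_aJ (i := 4) (by norm_num)) (by decide +kernel)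

theorem rel_a5 : aJ 0 * aJ 1 * aJ 2 = aJ 5 :=
  (((rep_aJ (i := 0) (by norm_num)).mul (rep_aJ (i := 1) (by norm_num))).mul
    (rep_aJ (i := 2) (by norm_num))).ext (rep_aJ (i := 5) (by norm_num)) (by decide +kernel)

theorem rel_a6 : aJ 0 * aJ 2 = aJ 6 :=
  ((rep_aJ (i := 0) (by norm_num)).mul (rep_aJ (i := 2) (by norm_num))).ext
    (rep_aJ (i := 6) (by norm_num)) (by decide +kernel)

/-- `E0` is generated by three conjugates. -/
theorem E0_le_closure : E0 ≤ Subgroup.closure {aJ 0, aJ 1, aJ 2} := by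
  intro g hg
  have m0 : aJ 0 ∈ Subgroup.closure {aJ 0, aJ 1, aJ 2} := Subgroup.subset_closure (by simp)
  have m1 : aJ 1 ∈ Subgroup.closure {aJ 0, aJ 1, aJ 2} := Subgroup.subset_closure (by simp)
  have m2 : aJ 2 ∈ Subgroup.closure {aJ 0, aJ 1, aJ 2} := Subgroup.subset_closure (by simp)
  rcases mem_E0_list hg with rfl | ⟨i, hi, rfl⟩
  · exact Subgroup.one_mem _
  interval_cases i
  · exact m0
  · exact m1
  · exact m2
  · rw [← rel_a3]; exact Subgroup.mul_mem _ m0 m1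
  · rw [← rel_a4]; exact Subgroup.mul_mem _ m1 m2
  · rw [← rel_a5]; exact Subgroup.mul_mem _ (Subgroup.mul_mem _ m0 m1) m2
  · rw [← rel_a6]; exact Subgroup.mul_mem _ m0 m2

end Cfsg.Agent.Lib.J1Local
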