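import Mathlib
import Cfsg.Agent.Lib.J25Base

set_option autoImplicit false
set_option linter.unusedVariables false
set_option maxRecDepth 100000

/-!
# Fast checks on codes of short vectors of the lattice
-/

namespace Cfsg.Agent.Lib.J25

open Cfsg Cfsg.Agent.Lib.Leech Cfsg.Agent.Lib.CoVec
open Cfsg.Agent.Lib.Golay (bit reduce idxL ofMask)

def K192 : ℕ := 6277101735386680763835789423207666416102355444464034512896

theorem K192_eq : K192 = 2 ^ 192 := by norm_num [K192]

/-- A packed entry. -/
def ent (T r : ℕ) : ℕ := Nat.mod (Nat.shiftRight T (Nat.mul 192 r)) K192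

/-- Evaluation of an argument. -/
noncomputable def withN (n : ℕ) (k : ℕ → Bool) : Bool := Nat.rec (k 0) (fun m _ => k (Nat.succ m)) n

theorem withN_eq (n : ℕ) (k : ℕ → Bool) : withN n k = k n := by
  cases n <;> rfl

/-- The sum. -/
def addc (a b : ℕ) : ℕ := Nat.add a b

theorem addc_eq (a b : ℕ) : addc a b = a + b := rfl

/-- A sum over the coordinates. -/
def sumN (f : ℕ → ℕ) : ℕ :=
  addc (f 0) <| addc (f 1) <| addc (f 2) <| addc (f 3) <| addc (f 4) <| addc (f 5) <| addc (f 6) <| addc (f 7) <| addc (f 8) <| addc (f 9) <| addc (f 10) <| addc (f 11) <| addc (f 12) <| addc (f 13) <| addc (f 14) <| addc (f 15) <| addc (f 16) <| addc (f 17) <| addc (f 18) <| addc (f 19) <| addc (f 20) <| addc (f 21) <| addc (f 22) <| addc (f 23) 0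

/-- A conjunction over the coordinates. -/
def allN (f : ℕ → Bool) : Bool :=
  and (f 0) <| and (f 1) <| and (f 2) <| and (f 3) <| and (f 4) <| and (f 5) <| and (f 6) <| and (f 7) <| and (f 8) <| and (f 9) <| and (f 10) <| and (f 11) <| and (f 12) <| and (f 13) <| and (f 14) <| and (f 15) <| and (f 16) <| and (f 17) <| and (f 18) <| and (f 19) <| and (f 20) <| and (f 21) <| and (f 22) <| and (f 23) true

theorem sum_idxL (f : ℕ → ℕ) : (idxL.map f).sum = sumN f := by
  simp only [sumN, addc_eq, idxL, List.map_cons, List.map_nil, List.sum_cons, List.sum_nil]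

theorem all_idxL (f : ℕ → Bool) : idxL.all f = allN f := rfl

def sqC (n : ℕ) : ℕ := sumN fun i => sqd (byte n i)

def dotC (a b : ℕ) : ℕ := sumN fun i => Nat.mul (byte a i) (byte b i)

def sum2C (a b : ℕ) : ℕ := sumN fun i => Nat.add (byte a i) (byte b i)

def sumC (a : ℕ) : ℕ := sumN (byte a)

theorem sqN_eq (n : ℕ) : sqN n = sqC n := sum_idxL _

theorem dotA_eq (a b : ℕ) : dotA a b = dotC a b + 393216 := by
  show (idxL.map fun i => byte a i * byte b i).sum + 393216 = _
  rw [sum_idxL]
  rfl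

theorem dotB_eq (a b : ℕ) : dotB a b = 128 * sum2C a b := by
  show 128 * (idxL.map fun i => byte a i + byte b i).sum = _
  rw [sum_idxL]
  rfl

/-- The inner product on codes, as a test. -/
def dotEq (a b d : ℕ) : Bool := Nat.beq (Nat.add (dotC a b) d) (Nat.mul 128 (sum2C a b))

theorem dotEq_iff {a b d : ℕ} : dotEq a b d = true ↔ dotInt (dec a) (dec b) = 393216 - (d : ℤ) := by
  rw [dotInt_dec, dotA_eq, dotB_eq]
  unfold dotEq
  have e : (Nat.beq (Nat.add (dotC a b) d) (Nat.mul 128 (sum2C a b)) = true) ↔ dotC a b + d = 128 * sum2C a b :=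
    ⟨Nat.eq_of_beq_eq_true, fun h => by rw [show Nat.add (dotC a b) d = Nat.mul 128 (sum2C a b) from h]; exact Nat.beq_refl _⟩
  rw [e]
  push_cast
  generalize dotC a b = X
  generalize sum2C a b = Y
  omega

/-- The full form test. -/
def memF (n m a : ℕ) : Bool :=
  allN (fun i => Nat.beq (byte n i % 4) ((m + 2 * bit a i) % 4)) && Nat.beq (sumC n % 8) ((4 * m) % 8) && Nat.beq (reduce a) 0 && Nat.blt a (2 ^ 24)

theorem formChk_of_memF {n m a : ℕ} (h : memF n m a = true) : Cfsg.Agent.Lib.CoVec.formChk n m a = true := by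
  unfold Cfsg.Agent.Lib.CoVec.formChk
  rw [all_idxL, sum_idxL]
  exact h

/-- Guess of the code word. -/
def aF1 (x : ℕ) : ℕ := Nat.land (Nat.lor x (Nat.shiftRight x 7)) 287347298484169410109214439148897524197864749117145091
def aF2 (x : ℕ) : ℕ := Nat.land (Nat.lor x (Nat.shiftRight x 14)) 21922524565067779278057771880685530631388738355215
def aF3 (x : ℕ) : ℕ := Nat.land (Nat.lor x (Nat.shiftRight x 28)) 86772003564839308187864444633896829583615
def aF4 (x : ℕ) : ℕ :=
  Nat.lor (Nat.land x 255) (Nat.lor (Nat.land (Nat.shiftRight x 56) 65280) (Nat.land (Nat.shiftRight x 112) 16711680))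

/-- The membership test. -/
noncomputable def memQ (n : ℕ) : Bool :=
  withN (aF1 (Nat.land (Nat.shiftRight n 1) 24616085236810512799356036953755554572950413507702096129)) fun x1 => withN (aF2 x1) fun x2 => withN (aF3 x2) fun x3 =>
    withN (aF4 x3) fun a => memF n (Nat.land n 1) a

theorem mem_of_memQ {n : ℕ} (h : memQ n = true) : dec n ∈ leechLattice := by
  simp only [memQ, withN_eq] at h
  exact mem_leechLattice_iff.2 ⟨_, _, Cfsg.Agent.Lib.CoVec.isForm_of_chk (formChk_of_memF h)⟩

/-- The test of being a state of norm `32`. -/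
noncomputable def minQ (n : ℕ) : Bool := Nat.blt n K192 && memQ n && Nat.beq (sqC n) 32

theorem minQ_spec {n : ℕ} (h : minQ n = true) : St n ∧ sqN n = 32 := by
  simp only [minQ, Bool.and_eq_true] at h
  obtain ⟨⟨h1, h2⟩, h3⟩ := h
  have h4 : sqN n = 32 := by
    rw [sqN_eq]
    exact Nat.eq_of_beq_eq_true h3
  refine ⟨⟨?_, mem_of_memQ h2, ?_⟩, h4⟩
  · rw [← K192_eq]
    simpa [Nat.blt_eq] using h1
  · rw [sqNorm_dec, h4]
    norm_num

/-- The pattern. -/
def patc (n m : ℕ) : Bool := dotEq n m 393232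

/-- The test of an entry of a chunk. -/
noncomputable def elemOk (pa : Bool) (T r : ℕ) : Bool :=
  withN (ent T r) fun n =>
    minQ n && Nat.blt (Nat.mul 2 n) negK && (Nat.beq r 1259 || Nat.blt n (ent T (r + 1))) &&
      withN (fx n) fun m => cond pa (patc n m) (!patc n m)

/-- The test of a chunk. -/
noncomputable def chkE (pa : Bool) (T : ℕ) : Bool := chkN 1260 (elemOk pa T)

end Cfsg.Agent.Lib.J25
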