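import Mathlib
import Cfsg.Agent.Lib.IcoP

set_option autoImplicit false
set_option maxRecDepth 100000

/-!
# The Sylow `2`-subgroup of `J₂`: kernel checked data
-/

namespace Cfsg.Agent.Lib.J2FusData

open Cfsg.Agent.Lib.PermChain12 Cfsg.Agent.Lib.IcoChain Cfsg.Agent.Lib.IcoP

/-- The letters as functions on natural numbers. -/
noncomputable def T (l y : ℕ) : ℕ := GT (0 + l) y

/-- The words of the polycyclic generators. -/
def wdL : List (List ℕ) := [[8, 10, 6, 6, 5, 5, 5], [8, 9, 8, 6, 6, 7], [9, 4, 4, 4, 4, 4, 5], [9, 8, 10, 5, 4, 4, 4, 7, 6], [9, 8, 10, 4, 5, 4, 4, 7], [10, 8, 9, 6, 6, 5, 4], [4, 4, 4, 4, 4]]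

/-- The word of a polycyclic generator. -/
def wd (i : ℕ) : List ℕ := wdL.getD i []

/-- The word of the element of order three. -/
def wW : List ℕ := [9]
/-- The word of the first `2`-element. -/
def u1W : List ℕ := [8, 9, 4, 7, 6, 5, 5, 4]
/-- The word of the second `2`-element. -/
def u2W : List ℕ := [8, 10, 8, 4, 7, 6, 5, 5, 4]
/-- The conjugating word for the first element outside the extraspecial group. -/
def caW : List ℕ := [9, 5, 4, 4, 7, 7, 6, 7, 1, 3, 2, 3, 1]
/-- The conjugating word for the second element outside the extraspecial group. -/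
def cbW : List ℕ := [9, 8, 4, 4, 5, 5, 4, 1, 3, 2, 3, 1]
/-- The conjugating words for the involutions of the extraspecial group. -/
def ciW : List (List ℕ) := [[0, 2, 0, 3, 1, 2], [0, 2, 0, 3, 0, 1], [0, 2, 0, 1, 0, 3, 2, 3, 0], [1, 0, 3, 0, 1]]

/-- The normal form word. -/
def nfW (e : ℕ) : List ℕ :=
  cond (e.testBit 6) (wd 6) [] ++ (cond (e.testBit 5) (wd 5) [] ++ (cond (e.testBit 4) (wd 4) [] ++
    (cond (e.testBit 3) (wd 3) [] ++ (cond (e.testBit 2) (wd 2) [] ++
      (cond (e.testBit 1) (wd 1) [] ++ cond (e.testBit 0) (wd 0) [])))))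

/-- The table of exponents: `e < 128` means the point is the image of the base point under the normal
form `e`, otherwise `e - 128` is the normal form of a nontrivial element fixing the point. -/
def EtL : ℕ := 0x18581c5c5d1d59191e5e1a5a1f5f1b5b357531717434703077377333723276362b6b2f6f6a2a6e2e6d2d692968286c2cdedededeaeaeaeaedddddddd9e9e9e9e99999999afafafaf9a9a9a9a9d9d9d9dd0d0d0d0d0d0d0d090909090909090909d9d9d9d0f4f793954146626622250107d3d0b4b9a9a9a9aafafafaf0e4e783823631151155527677c3c0a4a99999999fcfcfcfcfcfcfcfcbcbcbcbcbcbcbcbc60207b3b4d0d1656125249097f3f64249e9e9e9ee0e0e0e0e0e0e0e0a0a0a0a0a0a0a0a0ddddddddaeaeaeae8888888888888888c8c8c8c8c8c8c8c8dededede0c4c175765253e7e3a7a612113530848dddddddd9e9e9e9ededededeaeaeaeae9d9d9d9d9a9a9a9aafafafaf9999999947074303460642020141054544044000888c8c8c8c8c8c8884848484848484848181838182828183818181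

/-- The table of exponents. -/
noncomputable def Et (p : ℕ) : ℕ := tg 8 255 EtL p

/-- Agreement of two words at a point. -/
noncomputable def agree (w₁ w₂ : List ℕ) (x : ℕ) : Bool := Nat.beq (walkF T w₁ x) (walkF T w₂ x)

/-- Agreement of two words at the base. -/
noncomputable def agreeB (w₁ w₂ : List ℕ) : Bool := and (agree w₁ w₂ 0) (and (agree w₁ w₂ 27) (agree w₁ w₂ 3))

/-- The letters of a word are good. -/
def okW (w : List ℕ) : Bool := w.all (fun l => Nat.ble (Nat.succ l) 11)

theorem ok_wd : allB 7 3 (fun i => okW (wd i)) = true := by decide +kernel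
theorem ok_w : okW wW = true := by decide +kernel
theorem ok_u1 : okW u1W = true := by decide +kernel
theorem ok_u2 : okW u2W = true := by decide +kernel
theorem ok_ca : okW caW = true := by decide +kernel
theorem ok_cb : okW cbW = true := by decide +kernel
theorem ok_ci : allB 4 2 (fun i => okW (ciW.getD i [])) = true := by decide +kernel

/-- Closure of the normal forms under left multiplication by the generators. -/
theorem clos_chk : allB 7 3 (fun i => allB 128 7 (fun e =>
    force (Et (walkF T (nfW e ++ wd i) 27)) (fun e' =>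
      and (Nat.ble (Nat.succ e') 128) (agreeB (nfW e ++ wd i) (nfW e'))))) = true := by decide +kernel

/-- The normal forms have different images of the base point. -/
theorem inj_chk : allB 128 7 (fun e => Nat.beq (Et (walkF T (nfW e) 27)) e) = true := by decide +kernel

/-- The table of exponents is right. -/
theorem et_chk : allB 315 9 (fun p => force (Et p) (fun e =>
    or (and (Nat.ble (Nat.succ e) 128) (Nat.beq (walkF T (nfW e) 27) p))
      (and (Nat.ble 129 e) (and (Nat.ble (Nat.succ e) 256) (Nat.beq (walkF T (nfW (e - 128)) p) p))))) = true := by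
  decide +kernel

/-- The generators fix the point `0`. -/
theorem fix0_chk : allB 7 3 (fun i => Nat.beq (walkF T (wd i) 0) 0) = true := by decide +kernel

/-- The point `0` is the only one fixed by the extraspecial group. -/
theorem fixQ_chk : allB 315 9 (fun p => or (Nat.beq p 0)
    (not (and (Nat.beq (walkF T (wd 2) p) p) (and (Nat.beq (walkF T (wd 3) p) p)
      (and (Nat.beq (walkF T (wd 4) p) p) (and (Nat.beq (walkF T (wd 5) p) p) (Nat.beq (walkF T (wd 6) p) p))))))) = true := by
  decide +kernel

/-- Evaluation of a tree element. -/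
noncomputable def trF (G' : ℕ → ℕ → ℕ) (par gen : ℕ → ℕ) (fuel : ℕ) : ℕ → ℕ → ℕ :=
  Nat.rec (motive := fun _ => ℕ → ℕ → ℕ) (fun _ x => x)
    (fun _ ih y x => cond (Nat.beq y 0) x (force (ih (par y) x) (G' (gen y)))) fuel

/-- The action of the letters of the first level. -/
noncomputable def G1 (l y : ℕ) : ℕ := GT (4 + l) y
/-- The action of the letters of the second level. -/
noncomputable def G2 (l y : ℕ) : ℕ := GT (8 + l) y

/-- The tree elements of the first level. -/
noncomputable def t1E (y x : ℕ) : ℕ := trF G1 P1 Q1 159 y x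
/-- The tree elements of the second level. -/
noncomputable def t2E (y x : ℕ) : ℕ := trF G2 P2 Q2 11 y x

/-- The failure of commuting at the base point. -/
noncomputable def cfail (y x i : ℕ) : Bool :=
  not (Nat.beq (walkF T (wd i) (t1E y (t2E x 27))) (t1E y (t2E x (walkF T (wd i) 27))))

/-- Only `1` and `z` commute with the extraspecial group. -/
theorem cent_chk : allB 160 8 (fun y => allB 12 4 (fun x =>
    or (and (Nat.beq y 0) (Nat.beq x 0)) (or (and (Nat.beq y 54) (Nat.beq x 0))
      (or (cfail y x 2) (or (cfail y x 3) (or (cfail y x 4) (cfail y x 5))))))) = true := by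
  decide +kernel

/-- The tree element for `z`. -/
theorem z_chk : and (Nat.beq (t1E 54 (t2E 0 0)) (walkF T (wd 6) 0))
    (and (Nat.beq (t1E 54 (t2E 0 27)) (walkF T (wd 6) 27))
      (Nat.beq (t1E 54 (t2E 0 3)) (walkF T (wd 6) 3))) = true := by decide +kernel

/-- The test for normalizing at the second level. -/
noncomputable def nfail (x i q : ℕ) : Bool :=
  force (Et (t2E x (walkF T (wd i) 27))) (fun e =>
    or (Nat.ble 128 e) (not (Nat.beq (walkF T (nfW e) (t2E x q)) (t2E x (walkF T (wd i) q)))))

/-- Only three elements of the second level normalize the Sylow subgroup. -/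
theorem norm_chk : allB 12 4 (fun x => or (Nat.beq x 0) (or (Nat.beq x 2) (or (Nat.beq x 3)
    (nfail x 0 3)))) = true := by decide +kernel

/-- The tree elements at the second level which normalize are the powers of `w`. -/
theorem pow_chk : and (and (Nat.beq (t2E 2 0) (walkF T wW 0)) (and (Nat.beq (t2E 2 27) (walkF T wW 27))
      (Nat.beq (t2E 2 3) (walkF T wW 3))))
    (and (Nat.beq (t2E 3 0) (walkF T (wW ++ wW) 0)) (and (Nat.beq (t2E 3 27) (walkF T (wW ++ wW) 27))
      (Nat.beq (t2E 3 3) (walkF T (wW ++ wW) 3)))) = true := by decide +kernel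

/-- `w` acts on the polycyclic generators. -/
def wcL : List ℕ := [2, 71, 4, 80, 60, 32, 64]

/-- `w` normalizes the Sylow subgroup. -/
theorem wconj_chk : allB 7 3 (fun i => and (Nat.ble (Nat.succ (wcL.getD i 0)) 128)
    (agreeB (wW ++ nfW (wcL.getD i 0)) (wd i ++ wW))) = true := by decide +kernel

/-- The conjugation table of the first `2`-element on the extraspecial group. -/
def u1c : List ℕ := [32, 80, 72, 4, 64]
/-- The conjugation table of the second `2`-element on the extraspecial group. -/
def u2c : List ℕ := [32, 8, 60, 4, 64]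

/-- The `2`-elements normalize the extraspecial group. -/
theorem u1_chk : allB 5 3 (fun i => and (Nat.beq ((u1c.getD i 0) % 4) 0) (and (Nat.ble (Nat.succ (u1c.getD i 0)) 128)
    (agreeB (u1W ++ nfW (u1c.getD i 0)) (wd (2 + i) ++ u1W)))) = true := by decide +kernel
theorem u2_chk : allB 5 3 (fun i => and (Nat.beq ((u2c.getD i 0) % 4) 0) (and (Nat.ble (Nat.succ (u2c.getD i 0)) 128)
    (agreeB (u2W ++ nfW (u2c.getD i 0)) (wd (2 + i) ++ u2W)))) = true := by decide +kernel

/-- The product of the `2`-elements is `w`. -/
theorem uu_chk : agreeB (u2W ++ u1W) wW = true := by decide +kernel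
/-- The first `2`-element is an involution. -/
theorem u1_sq : agreeB (u1W ++ u1W) [] = true := by decide +kernel
/-- The second `2`-element is an involution. -/
theorem u2_sq : agreeB (u2W ++ u2W) [] = true := by decide +kernel

/-- The conjugates of `z`. -/
theorem ci_chk : allB 4 2 (fun k => agreeB (wd 6 ++ ciW.getD k []) (ciW.getD k [] ++ wd (2 + k))) = true := by
  decide +kernel

/-- The conjugates of an element of order four. -/
theorem ca_chk : agreeB (wd 3 ++ wd 2 ++ caW) (caW ++ wd 0) = true := by decide +kernel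
theorem cb_chk : agreeB (wd 3 ++ wd 2 ++ cbW) (cbW ++ wd 1) = true := by decide +kernel

end Cfsg.Agent.Lib.J2FusData
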