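import Cfsg.Agent.Lib.J2OutD

/-!
# `Out(J₂)` has order 2: the proof
-/

set_option autoImplicit false
set_option maxRecDepth 100000

namespace Cfsg.Agent.Lib.J2OutM

open Cfsg Cfsg.Agent.Lib.PermChain Cfsg.Agent.Lib.ProgChain Cfsg.Agent.Lib.ProgBits Cfsg.Agent.Lib.SpecDfs
open Cfsg.Agent.Lib.J2PTab Cfsg.Agent.Lib.J2PMain Cfsg.Agent.Lib.J2SpecD Cfsg.Agent.Lib.CentDfs Cfsg.Agent.Lib.OutNorm
open Cfsg.Agent.Lib.J2Out

/-- the element of order 7 -/
noncomputable abbrev xP : Equiv.Perm (Fin 100) := prodW g wx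
/-- the element of order 6 -/
noncomputable abbrev fP : Equiv.Perm (Fin 100) := prodW g wf
/-- an involution commuting with `f²` -/
noncomputable abbrev y0P : Equiv.Perm (Fin 100) := prodW g wy0
/-- an involution commuting with `f²` -/
noncomputable abbrev y1P : Equiv.Perm (Fin 100) := prodW g wy1

theorem rep_x : Rep xP xC := by rw [← hxC]; exact rep_wd ltx
theorem rep_f : Rep fP fC := by rw [← hfC]; exact rep_wd ltf
theorem rep_y0 : Rep y0P y0C := by rw [← hy0C]; exact rep_wd lty0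
theorem rep_y1 : Rep y1P y1C := by rw [← hy1C]; exact rep_wd lty1
theorem rep_w3 : Rep (fP ^ 2) w3C := by rw [← hw3C]; exact rep_pow rep_one rep_f 2
theorem rep_f3 : Rep (fP ^ 3) f3C := by rw [← hf3C]; exact rep_pow rep_one rep_f 3

theorem mem_word (w : List ℕ) : prodW g w ∈ G :=
  prodW_mem (fun e _ => lev0.1 e (Nat.zero_le _)) (List.all_eq_true.mpr fun e _ => Nat.ble_eq.mpr (Nat.zero_le e))

/-- the centralizer of `x` -/
theorem cent_x {y : Equiv.Perm (Fin 100)} (hy : y ∈ G) (hc : y * xP = xP * y) : ∃ k : ℕ, y = xP ^ k := by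
  have h1 : (1 * y) * xP = xP * (1 * y) := by simpa using hc
  obtain ⟨c', x', k, hk, h2, h3, h4⟩ := dfsC_spec rep_x testX chainG idC dfsX 1 rep_one y hy h1
  rw [Subgroup.mem_bot] at hk
  subst hk
  rw [mul_one, one_mul] at h3
  subst h3
  have h5 := commC_of_comm h2 rep_x hc
  simp only [testX, h5, Bool.not_true, Bool.false_or, List.elem_eq_mem, decide_eq_true_eq, List.mem_map] at h4
  obtain ⟨k, -, hk⟩ := h4
  exact ⟨k, rep_unique h2 (hk ▸ rep_pow rep_one rep_x k)⟩

/-- the involutions in the centralizer of `f²` -/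
theorem cent_w {y : Equiv.Perm (Fin 100)} (hy : y ∈ G) (hc : y * fP ^ 2 = fP ^ 2 * y) (h2y : y ^ 2 = 1) :
    y = 1 ∨ y = fP ^ 3 ∨ y = y0P ∨ y = y1P := by
  have h1 : (1 * y) * fP ^ 2 = fP ^ 2 * (1 * y) := by simpa using hc
  obtain ⟨c', x', k, hk, h2, h3, h4⟩ := dfsC_spec rep_w3 testW chainG idC dfsW 1 rep_one y hy h1
  rw [Subgroup.mem_bot] at hk
  subst hk
  rw [mul_one, one_mul] at h3
  subst h3
  have h5 := commC_of_comm h2 rep_w3 hc
  have h6 := sqId_of_sq h2 h2y
  simp only [testW, h5, h6, Bool.not_true, Bool.false_or, List.elem_eq_mem, decide_eq_true_eq, List.mem_cons,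
    List.not_mem_nil, or_false] at h4
  rcases h4 with h | h | h | h
  · exact Or.inl (rep_unique h2 (h ▸ rep_one))
  · exact Or.inr (Or.inl (rep_unique h2 (h ▸ rep_f3)))
  · exact Or.inr (Or.inr (Or.inl (rep_unique h2 (h ▸ rep_y0))))
  · exact Or.inr (Or.inr (Or.inr (rep_unique h2 (h ▸ rep_y1))))

theorem x_pow : xP ^ 7 = 1 := rep_unique (rep_pow rep_one rep_x 7) (by
  have : powC 100 idC xC 7 = idC := by decide +kernel
  rw [this]; exact rep_one)

theorem ne_one_of_moved {x : Equiv.Perm (Fin 100)} {c : ℕ} (hx : Rep x c) (i : Fin 100) (h : Nat.beq (im c i.val) i.val = false) :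
    x ≠ 1 := by
  rintro rfl
  have h1 := rep_im hx i
  rw [Equiv.Perm.one_apply] at h1
  rw [← h1] at h
  simp at h

theorem x_ne : xP ≠ 1 := ne_one_of_moved rep_x ⟨1, by norm_num⟩ (by decide +kernel)

theorem f_x : fP * xP * fP⁻¹ = xP ^ 3 := by
  rw [mul_inv_eq_iff_eq_mul]
  have h1 := rep_mul rep_f rep_x
  have h2 := rep_mul (rep_pow rep_one rep_x 3) rep_f
  have h3 : mulC 100 fC xC = mulC 100 (powC 100 idC xC 3) fC := by decide +kernel
  rw [← h3] at h2
  exact rep_unique h1 h2

theorem y0_w : y0P * fP ^ 2 = fP ^ 2 * y0P := by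
  have h1 := rep_mul rep_y0 rep_w3
  have h2 := rep_mul rep_w3 rep_y0
  have h3 : mulC 100 y0C w3C = mulC 100 w3C y0C := by decide +kernel
  rw [← h3] at h2
  exact rep_unique h1 h2

theorem y0_sq : y0P ^ 2 = 1 := rep_unique (rep_pow rep_one rep_y0 2) (by
  have : powC 100 idC y0C 2 = idC := by decide +kernel
  rw [this]; exact rep_one)

theorem ne_of_code {x y : Equiv.Perm (Fin 100)} {c d : ℕ} (hx : Rep x c) (hy : Rep y d) (i : Fin 100)
    (h : Nat.beq (im c i.val) (im d i.val) = false) : x ≠ y := by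
  rintro rfl
  rw [← rep_im hx, ← rep_im hy] at h
  simp at h

theorem y0_ne : y0P ≠ 1 := by
  obtain ⟨i, hi⟩ : ∃ i : Fin 100, Nat.beq (im y0C i.val) (im idC i.val) = false := by decide +kernel
  exact ne_of_code rep_y0 rep_one i hi

theorem y0_ne_f3 : y0P ≠ fP ^ 3 := by
  obtain ⟨i, hi⟩ : ∃ i : Fin 100, Nat.beq (im y0C i.val) (im f3C i.val) = false := by decide +kernel
  exact ne_of_code rep_y0 rep_f3 i hi

/-- the letters -/
noncomputable def sL (e : ℕ) : Equiv.Perm (Fin 100) := if e = 0 then xP else if e = 1 then fP else y0P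

theorem rep_sL {e : ℕ} (he : e < 3) : Rep (sL e) (sC e) := by
  interval_cases e
  · exact rep_x
  · exact rep_f
  · exact rep_y0

theorem rep_ev : ∀ {w : List ℕ}, (∀ e ∈ w, e < 3) → Rep (prodW sL w) (evC w)
  | [], _ => by simpa [prodW_nil, evC] using rep_one
  | e :: w, h => by
    rw [prodW_cons, evC]
    exact rep_mul (rep_sL (h e (by simp))) (rep_ev fun f hf => h f (by simp [hf]))

theorem g0_eq : prodW sL W0 = g 0 := by
  have h1 : Rep (prodW sL W0) (evC W0) := rep_ev fun e he =>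
    Nat.le_of_ble_eq_true (List.all_eq_true.mp ltW0 e he)
  rw [hW0] at h1
  exact rep_unique h1 (lc_rep (by norm_num))

theorem g1_eq : prodW sL W1 = g 1 := by
  have h1 : Rep (prodW sL W1) (evC W1) := rep_ev fun e he =>
    Nat.le_of_ble_eq_true (List.all_eq_true.mp ltW1 e he)
  rw [hW1] at h1
  exact rep_unique h1 (lc_rep (by norm_num))

/-- the generators of the group in terms of `x`, `f`, `y₀` -/
theorem G_le {F : Subgroup (Equiv.Perm (Fin 100))} (hx : xP ∈ F) (hf : fP ∈ F) (hy : y0P ∈ F) : G ≤ F := by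
  have hs : ∀ e, sL e ∈ F := by
    intro e
    unfold sL
    split_ifs
    · exact hx
    · exact hf
    · exact hy
  have hw : ∀ w, prodW sL w ∈ F := by
    intro w
    apply Subgroup.list_prod_mem
    intro a ha
    obtain ⟨e, -, rfl⟩ := List.mem_map.mp ha
    exact hs e
  unfold G grp genOf
  rw [Subgroup.closure_le]
  rintro y ⟨e, he, rfl⟩
  have he2 : e < 2 := by
    have := List.mem_range'_1.mp he
    omega
  interval_cases e
  · rw [← g0_eq]; exact hw _
  · rw [← g1_eq]; exact hw _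

/-! ### the outer involution -/

theorem tp_lt (k : Fin 100) : im tpC k < 100 := by
  have h := tp_chk
  simp only [List.all_eq_true, List.mem_range, Bool.and_eq_true] at h
  exact Nat.le_of_ble_eq_true (h k k.2).1

theorem tp_inv (k : Fin 100) : im tpC (im tpC k) = k := by
  have h := tp_chk
  simp only [List.all_eq_true, List.mem_range, Bool.and_eq_true] at h
  exact Nat.eq_of_beq_eq_true (h k k.2).2

/-- The outer involution. -/
def tP : Equiv.Perm (Fin 100) :=
  Function.Involutive.toPerm (fun k => ⟨im tpC k, tp_lt k⟩) (fun k => Fin.ext (tp_inv k))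

theorem rep_tP : Rep tP tpC := rep_of_im fun _ => rfl

theorem tP_mul_self : tP * tP = 1 := by
  ext i
  simp only [Equiv.Perm.mul_apply, Equiv.Perm.one_apply]
  rw [rep_im rep_tP, rep_im rep_tP]
  exact tp_inv i

theorem tP_inv : tP⁻¹ = tP := inv_eq_of_mul_eq_one_left tP_mul_self

theorem tP_g0 : tP * g 0 * tP⁻¹ = prodW g v0 := by
  rw [mul_inv_eq_iff_eq_mul]
  have h1 := rep_mul rep_tP (lc_rep (e := 0) (by norm_num))
  have h2 := rep_mul (rep_wd ltv0) rep_tP
  rw [hv0] at h1
  exact rep_unique h1 h2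

theorem tP_g1 : tP * g 1 * tP⁻¹ = prodW g v1 := by
  rw [mul_inv_eq_iff_eq_mul]
  have h1 := rep_mul rep_tP (lc_rep (e := 1) (by norm_num))
  have h2 := rep_mul (rep_wd ltv1) rep_tP
  rw [hv1] at h1
  exact rep_unique h1 h2

theorem conj_mem {z : Equiv.Perm (Fin 100)} (hz : z ∈ G) : tP * z * tP⁻¹ ∈ G := by
  unfold G grp genOf at hz
  induction hz using Subgroup.closure_induction with
  | mem y hy =>
    obtain ⟨e, he, rfl⟩ := hy
    have he2 : e < 2 := by
      have := List.mem_range'_1.mp he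
      omega
    interval_cases e
    · rw [tP_g0]; exact mem_word _
    · rw [tP_g1]; exact mem_word _
  | one => simp
  | mul a b _ _ ha hb =>
    have : tP * (a * b) * tP⁻¹ = (tP * a * tP⁻¹) * (tP * b * tP⁻¹) := by group
    rw [this]
    exact G.mul_mem ha hb
  | inv a _ ha =>
    have : tP * a⁻¹ * tP⁻¹ = (tP * a * tP⁻¹)⁻¹ := by group
    rw [this]
    exact G.inv_mem ha

/-- The outer automorphism. -/
noncomputable def sigma : MulAut G where
  toFun z := ⟨tP * z * tP⁻¹, conj_mem z.2⟩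
  invFun z := ⟨tP * z * tP⁻¹, conj_mem z.2⟩
  left_inv z := by
    apply Subtype.ext
    show tP * (tP * (z : Equiv.Perm (Fin 100)) * tP⁻¹) * tP⁻¹ = z
    rw [tP_inv]
    calc tP * (tP * (z : Equiv.Perm (Fin 100)) * tP) * tP = (tP * tP) * z * (tP * tP) := by group
      _ = z := by rw [tP_mul_self]; group
  right_inv z := by
    apply Subtype.ext
    show tP * (tP * (z : Equiv.Perm (Fin 100)) * tP⁻¹) * tP⁻¹ = z
    rw [tP_inv]
    calc tP * (tP * (z : Equiv.Perm (Fin 100)) * tP) * tP = (tP * tP) * z * (tP * tP) := by group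
      _ = z := by rw [tP_mul_self]; group
  map_mul' a b := by
    apply Subtype.ext
    show tP * ((a : Equiv.Perm (Fin 100)) * b) * tP⁻¹ = (tP * a * tP⁻¹) * (tP * b * tP⁻¹)
    group

theorem H_fix : (List.range 100).all (fun p => Nat.beq p 0 || !Nat.beq (im (lc 22) p) p || !Nat.beq (im (lc 23) p) p) = true := by
  decide +kernel

theorem Om0_all : (List.range 100).all (fun p => Nat.testBit Om0 p) = true := by decide +kernel

/-- the centralizer of the group in the symmetric group is trivial -/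
theorem eq_one_of_comm {u : Equiv.Perm (Fin 100)} (h : ∀ z ∈ G, u * z = z * u) : u = 1 := by
  have h0 : u 0 = 0 := by
    have hfix : ∀ e, 22 ≤ e → g e (0 : Fin 100) = 0 := fun e he => lev0.2.fix _ (lev1.1 e he)
    have hcomm : ∀ e, 22 ≤ e → g e (u 0) = u 0 := by
      intro e he
      have h1 := congrArg (fun z : Equiv.Perm (Fin 100) => z 0) (h (g e) (lev0.1 e (Nat.zero_le _)))
      simp only [Equiv.Perm.mul_apply] at h1
      rw [hfix e he] at h1
      exact h1.symm
    have h2 := H_fix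
    simp only [List.all_eq_true, List.mem_range, Bool.or_eq_true, Bool.not_eq_true'] at h2
    rcases h2 (u 0).val (u 0).isLt with (h3 | h3) | h3
    · exact Fin.ext (Nat.eq_of_beq_eq_true h3)
    · exfalso
      rw [← rep_im (lc_rep (e := 22) (by norm_num)), hcomm 22 (by norm_num)] at h3
      simp at h3
    · exfalso
      rw [← rep_im (lc_rep (e := 23) (by norm_num)), hcomm 23 (by norm_num)] at h3
      simp at h3
  ext p
  have hp : p ∈ orbF 100 Om0 := mem_orbF.mpr (by
    have h2 := Om0_all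
    simp only [List.all_eq_true, List.mem_range] at h2
    exact h2 p.val p.isLt)
  have h3 : prodW g (tw0 p.val) 0 = p := lev0.2.img p hp
  have h4 := congrArg (fun z : Equiv.Perm (Fin 100) => z 0) (h _ (lev0.2.mem p hp))
  simp only [Equiv.Perm.mul_apply] at h4
  rw [h3, h0, h3] at h4
  simp [h4]

theorem z_notMem : tP ∉ G := by
  intro ht
  have hz : tP * prodW g wc ∈ G := G.mul_mem ht (mem_word _)
  have hr : Rep (tP * prodW g wc) zC := rep_mul rep_tP (rep_wd ltwc)
  obtain ⟨h7, h8, h10, h12, h15⟩ := z_chk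
  rcases J2Spec.pow_of_mem hz with h | h | h | h | h
  · exact pow_ne_one_of_not_fixAll hr h7 h
  · exact pow_ne_one_of_not_fixAll hr h8 h
  · exact pow_ne_one_of_not_fixAll hr h10 h
  · exact pow_ne_one_of_not_fixAll hr h12 h
  · exact pow_ne_one_of_not_fixAll hr h15 h

theorem sigma_notMem : sigma ∉ Inn G := by
  rintro ⟨c, hc⟩
  have h1 : ∀ z ∈ G, ((c : Equiv.Perm (Fin 100))⁻¹ * tP) * z = z * ((c : Equiv.Perm (Fin 100))⁻¹ * tP) := by
    intro z hz
    have h2 := congrArg (fun a : MulAut G => ((a ⟨z, hz⟩ : G) : Equiv.Perm (Fin 100))) hc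
    simp only [MulAut.conj_apply] at h2
    have h3 : (c : Equiv.Perm (Fin 100)) * z * (c : Equiv.Perm (Fin 100))⁻¹ = tP * z * tP⁻¹ := h2
    have h4 : tP * z = (c : Equiv.Perm (Fin 100)) * z * (c : Equiv.Perm (Fin 100))⁻¹ * tP := by
      rw [h3]; group
    calc ((c : Equiv.Perm (Fin 100))⁻¹ * tP) * z = (c : Equiv.Perm (Fin 100))⁻¹ * (tP * z) := by group
      _ = z * ((c : Equiv.Perm (Fin 100))⁻¹ * tP) := by rw [h4]; group
  have h2 := eq_one_of_comm h1
  have h3 : tP = c := (inv_mul_eq_one.mp h2).symm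
  apply z_notMem
  rw [h3]
  exact c.2

/-! ### the group level -/

/-- the element `x` of `G` -/
noncomputable def xG : G := ⟨xP, mem_word _⟩
/-- the element `f` of `G` -/
noncomputable def fG : G := ⟨fP, mem_word _⟩
/-- the element `y₀` of `G` -/
noncomputable def y0G : G := ⟨y0P, mem_word _⟩
/-- the element `y₁` of `G` -/
noncomputable def y1G : G := ⟨y1P, mem_word _⟩

theorem hnf (α : MulAut G) : ∃ c : G, (MulAut.conj c * α) xG = xG ∧ (MulAut.conj c * α) fG = fG := by
  have : Fact (Nat.Prime 7) := ⟨by norm_num⟩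
  refine normal_form (p := 7) (a := 3) (b := 4) ?_ ?_ ?_ ?_ (by decide) ?_ α
  · rw [cardH0]; norm_num
  · apply orderOf_eq_prime (Subtype.ext x_pow)
    intro h
    exact x_ne (congrArg Subtype.val h)
  · exact Subtype.ext f_x
  · intro k hk
    have harith : ∀ r : Fin 7, r.val ≠ 0 → ∃ j : Fin 6, (r.val * 3 ^ j.val) % 7 = 1 := by decide
    have hk' : k % 7 ≠ 0 := fun h => hk (Nat.dvd_of_mod_eq_zero h)
    obtain ⟨j, hj⟩ := harith ⟨k % 7, Nat.mod_lt _ (by norm_num)⟩ hk'
    simp only at hj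
    exact ⟨j.val, ((Nat.mod_modEq k 7).mul_right _).symm.trans (by simp [Nat.ModEq, hj])⟩
  · intro y hy
    obtain ⟨k, hk⟩ := cent_x y.2 (congrArg Subtype.val hy)
    exact ⟨k, Subtype.ext hk⟩

theorem hgen (β : MulAut G) (h1 : β xG = xG) (h2 : β fG = fG) (h3 : β y0G = y0G) : β = 1 := by
  let F : Subgroup G := MonoidHom.eqLocus β.toMonoidHom (MonoidHom.id G)
  have hF : G ≤ F.map G.subtype := by
    apply G_le
    · exact ⟨xG, h1, rfl⟩
    · exact ⟨fG, h2, rfl⟩
    · exact ⟨y0G, h3, rfl⟩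
  refine MulEquiv.ext fun z => ?_
  obtain ⟨z', hz', hzz⟩ := hF z.2
  have h4 : z' = z := Subtype.ext hzz
  subst h4
  exact hz'

theorem hcand (β : MulAut G) (_h1 : β xG = xG) (h2 : β fG = fG) : β y0G = y0G ∨ β y0G = y1G := by
  have h3 : β y0G * fG ^ 2 = fG ^ 2 * β y0G := by
    have h4 : y0G * fG ^ 2 = fG ^ 2 * y0G := Subtype.ext y0_w
    have h5 := congrArg β h4
    simpa only [map_mul, map_pow, h2] using h5
  have h4 : (β y0G) ^ 2 = 1 := by
    have h5 : y0G ^ 2 = 1 := Subtype.ext y0_sq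
    rw [← map_pow, h5, map_one]
  have h5 := cent_w (β y0G).2 (congrArg Subtype.val h3) (congrArg Subtype.val h4)
  rcases h5 with h | h | h | h
  · exfalso
    have h6 : β y0G = 1 := Subtype.ext h
    have h7 : y0G = 1 := by simpa using h6
    exact y0_ne (congrArg Subtype.val h7)
  · exfalso
    have h6 : β y0G = β (fG ^ 3) := by
      rw [map_pow, h2]
      exact Subtype.ext h
    have h7 := β.injective h6
    exact y0_ne_f3 (congrArg Subtype.val h7)
  · exact Or.inl (Subtype.ext h)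
  · exact Or.inr (Subtype.ext h)

/-- The order of `Out` of the group on 100 points. -/
theorem card_out_G : Nat.card (Out G) = 2 :=
  card_out_eq_two hnf hgen hcand sigma sigma_notMem

/-- The order of `Out(J₂)`. -/
theorem card_out_J2 : Nat.card (Out Cfsg.Spor.J2) = 2 := by
  rw [card_out_congr J2Iso.j2EquivG]
  exact card_out_G

end Cfsg.Agent.Lib.J2OutM
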