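import Cfsg.Agent.Lib.J3Check
import Cfsg.Prelude.Def_Spor_J3

/-!
# The order of the triple cover of `J₃` over `K4`

`card_G3 : Nat.card G3 = 150698880`, generation by two conjugate elements of order 19.
-/

set_option autoImplicit false
set_option linter.style.haveILetI false

namespace Cfsg.Agent.Lib.J3Chain

open Cfsg.Spor Subgroup
open Cfsg.Agent.Lib.F4Mat Cfsg.Agent.Lib.ChainCert Cfsg.Agent.Lib.J3Code Cfsg.Agent.Lib.J3Data
  Cfsg.Agent.Lib.J3Check

/-- the triple cover over `K4` -/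
abbrev G3 : Subgroup GK := threeJ3 K4 K4.w

/-- code of a generator -/
def gl (i : ℕ) : ℕ := glL.getD i 0
/-- code of an inverse of a generator -/
def gi (i : ℕ) : ℕ := giL.getD i 0
/-- factorization of a generator -/
def gw (i : ℕ) : ℕ := gwL.getD i 0

/-- number of an index -/
def idxF (Z : F9) : ℕ := 3 * Z.1.val + Z.2.val
/-- position of `A_Z` in the list -/
def idxA (Z : F9) : ℕ := if idxF Z = 0 then 0 else 5 * idxF Z - 2

theorem A_eq : ∀ Z : F9, j3A K4 K4.w Z = (dec K4.w (gl (idxA Z))).submatrix e9 e9 := by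
  decide +kernel
theorem E_eq : ∀ Z : F9, j3E K4 K4.w Z = (dec K4.w (gl (idxA Z + 1))).submatrix e9 e9 := by
  decide +kernel
theorem D_eq : ∀ Z : F9, j3D K4 K4.w Z = (dec K4.w (gl (idxA Z + 2))).submatrix e9 e9 := by
  decide +kernel
theorem B_eq : ∀ Z : F9, Z ≠ 0 → j3B K4 Z = (dec K4.w (gl (idxA Z + 3))).submatrix e9 e9 := by
  decide +kernel
theorem C_eq : ∀ Z : F9, Z ≠ 0 → j3C K4 Z = (dec K4.w (gl (idxA Z + 4))).submatrix e9 e9 := by
  decide +kernel

theorem idx_bound : ∀ Z : F9, idxA Z + 2 < 43 ∧ (Z ≠ 0 → idxA Z + 4 < 43) := by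
  decide +kernel

theorem idx_surj : ∀ i : Fin 43, ∃ Z : F9, i.val = idxA Z ∨ i.val = idxA Z + 1 ∨ i.val = idxA Z + 2 ∨
    (Z ≠ 0 ∧ i.val = idxA Z + 3) ∨ (Z ≠ 0 ∧ i.val = idxA Z + 4) := by
  decide +kernel

theorem gens_of_mem {M : Matrix F9 F9 K4} (hM : M ∈ j3Gens K4 K4.w) :
    ∃ i, i < 43 ∧ M = (dec K4.w (gl i)).submatrix e9 e9 := by
  rcases hM with ((((⟨Z, rfl⟩ | ⟨Z, rfl⟩) | ⟨Z, rfl⟩) | ⟨Z, hZ, rfl⟩) | ⟨Z, hZ, rfl⟩)
  · exact ⟨_, by have := (idx_bound Z).1; omega, A_eq Z⟩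
  · exact ⟨_, by have := (idx_bound Z).1; omega, E_eq Z⟩
  · exact ⟨_, (idx_bound Z).1, D_eq Z⟩
  · exact ⟨_, by have := (idx_bound Z).2 hZ; omega, B_eq Z hZ⟩
  · exact ⟨_, (idx_bound Z).2 hZ, C_eq Z hZ⟩

theorem mem_of_idx {i : ℕ} (hi : i < 43) : (dec K4.w (gl i)).submatrix e9 e9 ∈ j3Gens K4 K4.w := by
  obtain ⟨Z, h⟩ := idx_surj ⟨i, hi⟩
  simp only at h
  rcases h with h | h | h | ⟨hZ, h⟩ | ⟨hZ, h⟩ <;> rw [h]
  · rw [← A_eq]; exact Or.inl (Or.inl (Or.inl (Or.inl ⟨Z, rfl⟩)))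
  · rw [← E_eq]; exact Or.inl (Or.inl (Or.inl (Or.inr ⟨Z, rfl⟩)))
  · rw [← D_eq]; exact Or.inl (Or.inl (Or.inr ⟨Z, rfl⟩))
  · rw [← B_eq Z hZ]; exact Or.inl (Or.inr ⟨Z, hZ, rfl⟩)
  · rw [← C_eq Z hZ]; exact Or.inr ⟨Z, hZ, rfl⟩

theorem inv_ok : ∀ i : Fin 43, mulC (gl i) (gi i) = oneC ∧ mulC (gi i) (gl i) = oneC := by
  decide +kernel

theorem gl_in {i : ℕ} (hi : i < 43) : ∃ x ∈ G3, R x (gl i) := by
  obtain ⟨x, hx⟩ := exists_R_of_inv (inv_ok ⟨i, hi⟩).1 (inv_ok ⟨i, hi⟩).2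
  refine ⟨x, ?_, hx⟩
  apply Subgroup.subset_closure
  show (x : Matrix F9 F9 K4) ∈ j3Gens K4 K4.w
  rw [show (x : Matrix F9 F9 K4) = _ from hx]
  exact mem_of_idx hi

/-- code of a word in the generators -/
def wordC (w : List ℕ) : ℕ := w.foldl (fun r i => mulC r (gl i)) oneC

theorem word_in_aux (w : List ℕ) (hw : ∀ i ∈ w, i < 43) (r : ℕ) (hr : ∃ x ∈ G3, R x r) :
    ∃ x ∈ G3, R x (w.foldl (fun r i => mulC r (gl i)) r) := by
  induction w generalizing r with
  | nil => exact hr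
  | cons i w ih =>
    simp only [List.foldl_cons]
    apply ih (fun j hj => hw j (List.mem_cons_of_mem _ hj))
    obtain ⟨x, hx, hxr⟩ := hr
    obtain ⟨y, hy, hyr⟩ := gl_in (hw i List.mem_cons_self)
    exact ⟨x * y, G3.mul_mem hx hy, R_mul hxr hyr⟩

theorem word_in (w : List ℕ) (hw : ∀ i ∈ w, i < 43) : ∃ x ∈ G3, R x (wordC w) :=
  word_in_aux w hw oneC ⟨1, G3.one_mem, R_one⟩

theorem a_in : ∃ x ∈ G3, R x aC := by
  have h : wordC wordA = aC := by decide +kernel
  rw [← h]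
  exact word_in _ (by decide)

theorem u_in : ∃ x ∈ G3, R x uC := by
  have h : wordC wordU = uC := by decide +kernel
  rw [← h]
  exact word_in _ (by decide)

/-- the element of order 19 -/
noncomputable def aE : GK := a_in.choose
/-- the conjugator -/
noncomputable def uE : GK := u_in.choose
/-- the conjugate -/
noncomputable def a2E : GK := uE⁻¹ * (aE * uE)

theorem aE_mem : aE ∈ G3 := a_in.choose_spec.1
theorem aE_R : R aE aC := a_in.choose_spec.2
theorem uE_mem : uE ∈ G3 := u_in.choose_spec.1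
theorem uE_R : R uE uC := u_in.choose_spec.2
theorem a2E_mem : a2E ∈ G3 := G3.mul_mem (G3.inv_mem uE_mem) (G3.mul_mem aE_mem uE_mem)
theorem a2E_R : R a2E a2C := by
  apply R_cancel uE_R
  have h : mulC uC a2C = mulC aC uC := by decide +kernel
  rw [h]
  exact R_mul aE_R uE_R

/-- generators of the chain -/
noncomputable def sxT (g : ℕ) : GK := if g = 0 then aE else a2E

theorem scT_zero : scT 0 = aC := by decide +kernel
theorem scT_one : scT 1 = a2C := by decide +kernel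

theorem hsT : ∀ g, g < 2 → R (sxT g) (scT g) := by
  intro g hg
  interval_cases g
  · rw [scT_zero]; simpa [sxT] using aE_R
  · rw [scT_one]; simpa [sxT] using a2E_R

/-- the group generated by two conjugate elements -/
noncomputable abbrev H : Subgroup GK := gensSub sxT 2

theorem hstT : ∀ m, m < 2 * nT → Pst m = true := fun m hm => st_all m hm

theorem htreeT : ∀ i, i < nT → tg i = oneC ∨
    ∃ p, p < nT ∧ ∃ g, g < 2 ∧ trk p < trk i ∧
      ∀ x y, R x (scT g) → R y (tg p) → R (x * y) (tg i) :=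
  htree_of_treeChkT CS (sc := scT) (nK := nK) hstT (fun i hi => tt_all i hi)

theorem tg_in_H : ∀ i, i < nT → ∃ x ∈ H, R x (tg i) :=
  tree_mem CS H sxT scT 2 (fun _ hg => sx_mem sxT hg) hsT tg nT trk htreeT

/-- the coset representative -/
noncomputable def tE (i : ℕ) (hi : i < nT) : GK := (tg_in_H i hi).choose
theorem tE_mem (i : ℕ) (hi : i < nT) : tE i hi ∈ H := (tg_in_H i hi).choose_spec.1
theorem tE_R (i : ℕ) (hi : i < nT) : R (tE i hi) (tg i) := (tg_in_H i hi).choose_spec.2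

theorem h7016 : 7016 < nT := by decide
theorem h1987 : 1987 < nT := by decide
theorem h17775 : 17775 < nT := by decide
theorem h21349 : 21349 < nT := by decide

/-- the generators of the stabilizer -/
noncomputable def sxK0 : ℕ → GK := fun g =>
  if g = 0 then (tE 7016 h7016)⁻¹ * (sxT 1 * tE 1987 h1987)
  else (tE 17775 h17775)⁻¹ * (sxT 1 * tE 21349 h21349)

theorem hsK : ∀ g, g < 2 → R (sxK0 g) (scK g) := by
  intro g hg
  interval_cases g
  · simp only [sxK0, if_true]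
    apply R_cancel (tE_R _ _)
    have h : mulC (tg 7016) (scK 0) = mulC (scT 1) (tg 1987) := by decide +kernel
    rw [h]
    exact R_mul (hsT 1 (by norm_num)) (tE_R _ _)
  · simp only [sxK0, one_ne_zero, if_false]
    apply R_cancel (tE_R _ _)
    have h : mulC (tg 17775) (scK 1) = mulC (scT 1) (tg 21349) := by decide +kernel
    rw [h]
    exact R_mul (hsT 1 (by norm_num)) (tE_R _ _)

theorem sxK0_mem : ∀ g, g < 2 → sxK0 g ∈ H := by
  intro g hg
  have h1 := sx_mem sxT (ns := 2) (g := 1) (by norm_num)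
  interval_cases g
  · simp only [sxK0, if_true]
    exact H.mul_mem (H.inv_mem (tE_mem _ _)) (H.mul_mem h1 (tE_mem _ _))
  · simp only [sxK0, one_ne_zero, if_false]
    exact H.mul_mem (H.inv_mem (tE_mem _ _)) (H.mul_mem h1 (tE_mem _ _))

/-- the stabilizer of the first basis line -/
noncomputable abbrev KK : Subgroup GK := gensSub sxK0 2

theorem hmk : ∀ i, i + 1 < nK → kg i < kg (i + 1) :=
  of_monoChk (fun i hi => mk_all i hi)

theorem kg_bound : ∀ i, i < nK → kg i < 2 ^ 162 := by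
  intro i hi
  have h := ck_all i hi
  simp only [Pck, letN_eq, Bool.and_eq_true] at h
  have h2 := Nat.le_of_ble_eq_true h.2
  exact h2

theorem kg_col : ∀ i, i < nK → colChk (kg i) = true := by
  intro i hi
  have h := ck_all i hi
  simp only [Pck, letN_eq, Bool.and_eq_true] at h
  exact h.1

theorem klevel_main : Nat.card KK = nK ∧
      (∀ l, l < nK → ∃ k ∈ KK, R k (kg l)) ∧
      (∀ k ∈ KK, ∃ l, l < nK ∧ R k (kg l)) :=
  klevel CS sxK0 scK 2 hsK kg nK krk ⟨rootK, by decide, by decide +kernel⟩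
    (htree_of_treeChkK CS (sc := scK) (cl := kcE) (fun m hm => cl_all m hm) (fun i hi => tk_all i hi))
    (hclos_of_closChk CS (fun m hm => cl_all m hm))
    (by
      intro x i j hi hj h1 h2
      exact eq_of_adjacent hmk i j hi hj (R_fun (kg_bound i hi) (kg_bound j hj) h1 h2))

theorem KK_le_H : KK ≤ H := by
  refine (closure_le _).2 ?_
  rintro _ ⟨g, hg, rfl⟩
  exact sxK0_mem g hg

theorem hmt : ∀ i, i + 1 < nT → keyC (tg i) < keyC (tg (i + 1)) :=
  of_monoChk (f := fun i => keyC (tg i)) (fun i hi => mt_all i hi)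

theorem tlevel_main : Nat.card H = nT * Nat.card KK ∧
      (∀ i, i < nT → ∃ x ∈ H, R x (tg i)) ∧
      (∀ x ∈ H, ∃ i, i < nT ∧ ∃ y ∈ H, R y (tg i) ∧ ∃ k ∈ KK, x = y * k) :=
  tlevel CS sxT scT 2 hsT KK KK_le_H kg nK klevel_main.2.1 tg nT trk ⟨rootT, by decide, by decide +kernel⟩
    htreeT (hstep_of_stepChk CS hstT) keyC
    (by
      intro x k a b hx hk hb
      obtain ⟨l, hl, hr⟩ := klevel_main.2.2 k hk
      exact keyC_mul hx hr (kg_col l hl) hb)
    (fun i j hi hj he => eq_of_adjacent hmt i j hi hj he)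

theorem card_H : Nat.card H = 150698880 := by
  rw [tlevel_main.1, klevel_main.1]
  decide +kernel

theorem H_le : H ≤ G3 := by
  refine (closure_le _).2 ?_
  rintro _ ⟨g, hg, rfl⟩
  have hg' : g < 2 := hg
  interval_cases g
  · simpa [sxT] using aE_mem
  · simpa [sxT] using a2E_mem

theorem gw_ok : ∀ i : Fin 43, Nat.land (gw i) (nat_lit 32767) < nT ∧ Nat.shiftRight (gw i) (nat_lit 15) < nK ∧
    gl i = mulC (tg (Nat.land (gw i) (nat_lit 32767))) (kg (Nat.shiftRight (gw i) (nat_lit 15))) := by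
  decide +kernel

theorem le_H : G3 ≤ H := by
  refine (closure_le _).2 ?_
  intro x hx
  have hx' : (x : Matrix F9 F9 K4) ∈ j3Gens K4 K4.w := hx
  obtain ⟨i, hi, he⟩ := gens_of_mem hx'
  have h1 : R x (gl i) := he
  obtain ⟨h2, h3, h4⟩ := gw_ok ⟨i, hi⟩
  obtain ⟨y, hy, hyr⟩ := tg_in_H _ h2
  obtain ⟨k, hk, hkr⟩ := klevel_main.2.1 _ h3
  have h5 := R_mul hyr hkr
  have h4' : gl i = _ := h4
  rw [← h4'] at h5
  rw [R_inj h1 h5]
  exact H.mul_mem hy (KK_le_H hk)

theorem G3_eq_H : G3 = H := le_antisymm le_H H_le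

theorem card_G3 : Nat.card G3 = 150698880 := by
  rw [G3_eq_H, card_H]

end Cfsg.Agent.Lib.J3Chain
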