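import Cfsg.Prelude.Def_Spor_J3
import Cfsg.Agent.Lib.F4Mat
import Cfsg.Agent.Lib.ChainCert

/-!
The code system for `GL F9 K4`, keys of first columns and checks of columns.
-/

set_option autoImplicit false
set_option linter.style.haveILetI false

namespace Cfsg.Agent.Lib.J3Code

open Cfsg.Spor Cfsg.Agent.Lib.F4Mat Cfsg.Agent.Lib.ChainCert

open scoped MatrixGroups

/-- numbering of `F9` -/
def e9f (z : F9) : Fin 9 := ⟨3 * z.1.val + z.2.val, by
  have h1 := z.1.isLt
  have h2 := z.2.isLt
  show 3 * z.1.val + z.2.val < 9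
  have h1' : z.1.val < 3 := h1
  have h2' : z.2.val < 3 := h2
  omega⟩

/-- inverse numbering -/
def e9b (i : Fin 9) : F9 := (((i.val / 3 : ℕ) : ZMod 3), ((i.val % 3 : ℕ) : ZMod 3))

/-- The numbering `F9 ≃ Fin 9`. -/
def e9 : F9 ≃ Fin 9 where
  toFun := e9f
  invFun := e9b
  left_inv := by decide +kernel
  right_inv := by decide +kernel

theorem e9_zero : e9 (0 : F9) = 0 := by decide +kernel

/-- the code of the identity -/
def oneC : ℕ := nat_lit 1210107565283851686118401

theorem dec_oneC : dec K4.w oneC = 1 := by decide +kernel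

abbrev GK : Type := GL F9 K4

/-- `x` has code `n`. -/
def R (x : GK) (n : ℕ) : Prop :=
  (x : Matrix F9 F9 K4) = (dec K4.w n).submatrix e9 e9

theorem dec_mul (a b : ℕ) : dec K4.w (mulC a b) = dec K4.w a * dec K4.w b :=
  dec_mulC K4.w K4.two_eq_zero K4.w_mul_w a b

theorem sub_mul (a b : ℕ) : (dec K4.w (mulC a b)).submatrix e9 e9 =
    (dec K4.w a).submatrix e9 e9 * (dec K4.w b).submatrix e9 e9 := by
  rw [dec_mul, Matrix.submatrix_mul_equiv]

theorem R_one : R 1 oneC := by
  unfold R
  rw [dec_oneC, Matrix.submatrix_one_equiv]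
  rfl

theorem R_mul {x y : GK} {a b : ℕ} (hx : R x a) (hy : R y b) : R (x * y) (mulC a b) := by
  unfold R at *
  rw [sub_mul, ← hx, ← hy]
  rfl

theorem R_inj {x y : GK} {a : ℕ} (hx : R x a) (hy : R y a) : x = y := by
  apply Units.ext
  unfold R at *
  rw [hx, hy]

theorem R_cancel {x y : GK} {a b : ℕ} (hx : R x a) (hy : R y (mulC a b)) : R (x⁻¹ * y) b := by
  unfold R at *
  rw [sub_mul, ← hx] at hy
  show ((x⁻¹ * y : GK) : Matrix F9 F9 K4) = _
  rw [Units.val_mul, hy, ← mul_assoc]
  have h : ((x⁻¹ : GK) : Matrix F9 F9 K4) * (x : Matrix F9 F9 K4) = 1 := Units.inv_mul x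
  rw [h, one_mul]

theorem R_one_right {y : GK} {a : ℕ} (hy : R y (mulC a oneC)) : R y a := by
  unfold R at *
  rw [sub_mul, dec_oneC, Matrix.submatrix_one_equiv, mul_one] at hy
  exact hy

/-- The code system. -/
def CS : CodeSys GK where
  R := R
  mulC := mulC
  one := oneC
  r_one := R_one
  r_mul := R_mul
  r_inj := R_inj
  r_cancel := R_cancel
  r_one_right := R_one_right

/-- A unit from a pair of inverse codes. -/
theorem exists_R_of_inv {c c' : ℕ} (h1 : mulC c c' = oneC) (h2 : mulC c' c = oneC) :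
    ∃ x : GK, R x c := by
  refine ⟨⟨(dec K4.w c).submatrix e9 e9, (dec K4.w c').submatrix e9 e9, ?_, ?_⟩, rfl⟩
  · rw [← sub_mul, h1, dec_oneC, Matrix.submatrix_one_equiv]
  · rw [← sub_mul, h2, dec_oneC, Matrix.submatrix_one_equiv]

/-! ### codes are unique -/

theorem cb_w_inj (p q r s : Bool) :
    (if p then (1 : K4) else 0) + (if q then 1 else 0) * K4.w =
      (if r then 1 else 0) + (if s then 1 else 0) * K4.w → p = r ∧ q = s := by
  revert p q r s; decide

theorem dec_inj {a b : ℕ} (ha : a < 2 ^ 162) (hb : b < 2 ^ 162)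
    (h : dec K4.w a = dec K4.w b) : a = b := by
  apply Nat.eq_of_testBit_eq
  intro k
  by_cases hk : k < 162
  · have hk2 : ∀ m, m < 81 → a.testBit m = b.testBit m ∧ a.testBit (81 + m) = b.testBit (81 + m) := by
      intro m hm
      have hi : m / 9 < 9 := by omega
      have hj : m % 9 < 9 := Nat.mod_lt _ (by norm_num)
      have h1 := congrFun (congrFun h ⟨m / 9, hi⟩) ⟨m % 9, hj⟩
      have h2 : 9 * (m / 9) + m % 9 = m := Nat.div_add_mod m 9
      simp only [dec] at h1
      unfold cb at h1
      simp only [h2] at h1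
      exact cb_w_inj _ _ _ _ (by simpa using h1)
    by_cases hk3 : k < 81
    · exact (hk2 k hk3).1
    · have := (hk2 (k - 81) (by omega)).2
      rwa [show 81 + (k - 81) = k by omega] at this
  · have h162 : 2 ^ 162 ≤ 2 ^ k := Nat.pow_le_pow_right (by norm_num) (by omega)
    rw [Nat.testBit_lt_two_pow (lt_of_lt_of_le ha h162), Nat.testBit_lt_two_pow (lt_of_lt_of_le hb h162)]

theorem R_fun {x : GK} {a b : ℕ} (ha : a < 2 ^ 162) (hb : b < 2 ^ 162) (h1 : R x a) (h2 : R x b) :
    a = b := by
  apply dec_inj ha hb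
  unfold R at *
  rw [h1] at h2
  ext i j
  have := congrFun (congrFun h2 (e9.symm i)) (e9.symm j)
  simpa using this

/-! ### The key of the first column -/

/-- the bits of the first column in one plane -/
def mask0 : ℕ := nat_lit 4731607904558235517441

theorem mask0_eq : mask0 = 1 + 2 ^ 9 + 2 ^ 18 + 2 ^ 27 + 2 ^ 36 + 2 ^ 45 + 2 ^ 54 + 2 ^ 63 + 2 ^ 72 := by decide +kernel

/-- pairing of planes -/
def pair (u v : ℕ) : ℕ := Nat.lor u (Nat.shiftLeft v (nat_lit 81))

/-- least of three -/
def min3 (a b c : ℕ) : ℕ :=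
  cond (Nat.ble a b) (cond (Nat.ble a c) a c) (cond (Nat.ble b c) b c)

theorem ble_cond {α : Type} (a b : ℕ) (x y : α) : cond (Nat.ble a b) x y = if a ≤ b then x else y := by
  by_cases h : a ≤ b
  · simp [Nat.ble_eq_true_of_le h, h]
  · have : Nat.ble a b = false := by
      rw [← Bool.not_eq_true, Nat.ble_eq]; exact h
    simp [this, h]

theorem min3_cyc (a b c : ℕ) : min3 a b c = min3 b c a := by
  unfold min3
  simp only [ble_cond]
  split_ifs <;> omega

/-- low plane of the first column -/
def colU (c : ℕ) : ℕ := Nat.land c mask0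
/-- high plane of the first column -/
def colV (c : ℕ) : ℕ := Nat.land (Nat.shiftRight c (nat_lit 81)) mask0

/-- The key of a code: invariant under multiplying the first column by a scalar. -/
def keyOf (u v : ℕ) : ℕ :=
  letN (Nat.xor u v) fun x =>
    letN (pair u v) fun p1 => letN (pair v x) fun p2 => letN (pair x u) fun p3 => min3 p1 p2 p3

/-- The key of a code -/
def keyC (c : ℕ) : ℕ := letN (colU c) fun u => letN (colV c) fun v => keyOf u v

theorem keyC_eq (c : ℕ) : keyC c = keyOf (colU c) (colV c) := by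
  unfold keyC
  rw [letN_eq, letN_eq]

theorem keyOf_eq (u v : ℕ) : keyOf u v = min3 (pair u v) (pair v (u ^^^ v)) (pair (u ^^^ v) u) := by
  unfold keyOf
  rw [letN_eq, letN_eq, letN_eq, letN_eq]
  rfl

theorem keyOf_shift (u v : ℕ) : keyOf v (u ^^^ v) = keyOf u v := by
  rw [keyOf_eq, keyOf_eq]
  have h1 : v ^^^ (u ^^^ v) = u := by
    rw [Nat.xor_comm u v, ← Nat.xor_assoc, Nat.xor_self, Nat.zero_xor]
  rw [h1, min3_cyc (pair u v)]

theorem keyOf_shift2 (u v : ℕ) : keyOf (u ^^^ v) u = keyOf u v := by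
  have := keyOf_shift v (u ^^^ v)
  have h1 : v ^^^ (u ^^^ v) = u := by
    rw [Nat.xor_comm u v, ← Nat.xor_assoc, Nat.xor_self, Nat.zero_xor]
  rw [h1] at this
  rw [this, keyOf_shift]

theorem testBit_mask0 (k : ℕ) : mask0.testBit k = true ↔ ∃ i : Fin 9, k = 9 * i.val := by
  by_cases hk : k < 81
  · have : ∀ k : Fin 81, mask0.testBit k.val = true ↔ ∃ i : Fin 9, k.val = 9 * i.val := by
      decide +kernel
    exact this ⟨k, hk⟩
  · have h1 : mask0 < 2 ^ k := by
      refine lt_of_lt_of_le ?_ (Nat.pow_le_pow_right (by norm_num) (by omega : 81 ≤ k))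
      decide +kernel
    rw [Nat.testBit_lt_two_pow h1]
    simp only [Bool.false_eq_true, false_iff, not_exists]
    intro i h
    have := i.2
    omega

theorem testBit_colU (c k : ℕ) : (colU c).testBit k = (decide (∃ i : Fin 9, k = 9 * i.val) && c.testBit k) := by
  have : colU c = c &&& mask0 := rfl
  rw [this, Nat.testBit_and]
  by_cases h : ∃ i : Fin 9, k = 9 * i.val
  · simp [h, (testBit_mask0 k).2 h]
  · have h2 : mask0.testBit k = false := by
      by_contra h3
      exact h ((testBit_mask0 k).1 (by simpa using h3))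
    simp [h, h2]

theorem testBit_colV (c k : ℕ) : (colV c).testBit k = (decide (∃ i : Fin 9, k = 9 * i.val) && c.testBit (81 + k)) := by
  have : colV c = (c >>> 81) &&& mask0 := rfl
  rw [this, Nat.testBit_and, Nat.testBit_shiftRight]
  by_cases h : ∃ i : Fin 9, k = 9 * i.val
  · simp [h, (testBit_mask0 k).2 h]
  · have h2 : mask0.testBit k = false := by
      by_contra h3
      exact h ((testBit_mask0 k).1 (by simpa using h3))
    simp [h, h2]

theorem col_one (p q r s : Bool) :
    (if p then (1 : K4) else 0) + (if q then 1 else 0) * K4.w =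
      1 * ((if r then 1 else 0) + (if s then 1 else 0) * K4.w) → p = r ∧ q = s := by
  revert p q r s; decide

theorem col_w (p q r s : Bool) :
    (if p then (1 : K4) else 0) + (if q then 1 else 0) * K4.w =
      K4.w * ((if r then 1 else 0) + (if s then 1 else 0) * K4.w) → p = s ∧ q = (r ^^ s) := by
  revert p q r s; decide

theorem col_v (p q r s : Bool) :
    (if p then (1 : K4) else 0) + (if q then 1 else 0) * K4.w =
      K4.v * ((if r then 1 else 0) + (if s then 1 else 0) * K4.w) → p = (r ^^ s) ∧ q = r := by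
  revert p q r s; decide

/-- Proportional first columns have equal keys. -/
theorem keyC_eq_of_col {a b : ℕ} {l : K4} (hl : l = 1 ∨ l = K4.w ∨ l = K4.v)
    (h : ∀ i : Fin 9, dec K4.w b i 0 = l * dec K4.w a i 0) : keyC b = keyC a := by
  rw [keyC_eq, keyC_eq]
  have hb : ∀ i : Fin 9, (if b.testBit (9 * i.val) then (1 : K4) else 0) +
      (if b.testBit (81 + 9 * i.val) then 1 else 0) * K4.w =
      l * ((if a.testBit (9 * i.val) then (1 : K4) else 0) +
      (if a.testBit (81 + 9 * i.val) then 1 else 0) * K4.w) := by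
    intro i
    simpa [dec, cb] using h i
  rcases hl with rfl | rfl | rfl
  · have h1 : colU b = colU a := by
      apply Nat.eq_of_testBit_eq
      intro k
      rw [testBit_colU, testBit_colU]
      by_cases hk : ∃ i : Fin 9, k = 9 * i.val
      · obtain ⟨i, rfl⟩ := hk
        simp [(col_one _ _ _ _ (hb i)).1]
      · simp [hk]
    have h2 : colV b = colV a := by
      apply Nat.eq_of_testBit_eq
      intro k
      rw [testBit_colV, testBit_colV]
      by_cases hk : ∃ i : Fin 9, k = 9 * i.val
      · obtain ⟨i, rfl⟩ := hk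
        simp [(col_one _ _ _ _ (hb i)).2]
      · simp [hk]
    rw [h1, h2]
  · have h1 : colU b = colV a := by
      apply Nat.eq_of_testBit_eq
      intro k
      rw [testBit_colU, testBit_colV]
      by_cases hk : ∃ i : Fin 9, k = 9 * i.val
      · obtain ⟨i, rfl⟩ := hk
        simp [(col_w _ _ _ _ (hb i)).1]
      · simp [hk]
    have h2 : colV b = colU a ^^^ colV a := by
      apply Nat.eq_of_testBit_eq
      intro k
      rw [testBit_colV, Nat.testBit_xor, testBit_colU, testBit_colV]
      by_cases hk : ∃ i : Fin 9, k = 9 * i.val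
      · obtain ⟨i, rfl⟩ := hk
        simp [(col_w _ _ _ _ (hb i)).2]
      · simp [hk]
    rw [h1, h2, keyOf_shift]
  · have h1 : colU b = colU a ^^^ colV a := by
      apply Nat.eq_of_testBit_eq
      intro k
      rw [testBit_colU, Nat.testBit_xor, testBit_colU, testBit_colV]
      by_cases hk : ∃ i : Fin 9, k = 9 * i.val
      · obtain ⟨i, rfl⟩ := hk
        simp [(col_v _ _ _ _ (hb i)).1]
      · simp [hk]
    have h2 : colV b = colU a := by
      apply Nat.eq_of_testBit_eq
      intro k
      rw [testBit_colV, testBit_colU]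
      by_cases hk : ∃ i : Fin 9, k = 9 * i.val
      · obtain ⟨i, rfl⟩ := hk
        simp [(col_v _ _ _ _ (hb i)).2]
      · simp [hk]
    rw [h1, h2, keyOf_shift2]

/-! ### Elements stabilizing the first basis line -/

/-- Check: the first column is a scalar multiple of `e_0`. -/
def colChk (c : ℕ) : Bool :=
  Nat.beq (colU c) (nat_lit 1) && Nat.beq (colV c) (nat_lit 0) ||
  Nat.beq (colU c) (nat_lit 0) && Nat.beq (colV c) (nat_lit 1) ||
  Nat.beq (colU c) (nat_lit 1) && Nat.beq (colV c) (nat_lit 1)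

theorem col_of_colChk {c : ℕ} (h : colChk c = true) :
    ∃ l : K4, (l = 1 ∨ l = K4.w ∨ l = K4.v) ∧ ∀ i : Fin 9, dec K4.w c i 0 = if i = 0 then l else 0 := by
  have key : ∀ u v : ℕ, (∀ i : Fin 9, c.testBit (9 * i.val) = u.testBit (9 * i.val)) →
      (∀ i : Fin 9, c.testBit (81 + 9 * i.val) = v.testBit (9 * i.val)) →
      ∀ i : Fin 9, dec K4.w c i 0 = (if u.testBit (9 * i.val) then (1 : K4) else 0) + (if v.testBit (9 * i.val) then 1 else 0) * K4.w := by
    intro u v h1 h2 i
    simp [dec, cb, h1, h2]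
  have hU : ∀ i : Fin 9, c.testBit (9 * i.val) = (colU c).testBit (9 * i.val) := by
    intro i
    rw [testBit_colU]
    simp
  have hV : ∀ i : Fin 9, c.testBit (81 + 9 * i.val) = (colV c).testBit (9 * i.val) := by
    intro i
    rw [testBit_colV]
    simp
  have hk := key _ _ hU hV
  simp only [colChk, Bool.or_eq_true, Bool.and_eq_true] at h
  rcases h with (⟨h1, h2⟩ | ⟨h1, h2⟩) | ⟨h1, h2⟩
  · rw [Nat.eq_of_beq_eq_true h1, Nat.eq_of_beq_eq_true h2] at hk
    refine ⟨1, Or.inl rfl, fun i => ?_⟩
    rw [hk]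
    revert i
    decide +kernel
  · rw [Nat.eq_of_beq_eq_true h1, Nat.eq_of_beq_eq_true h2] at hk
    refine ⟨K4.w, Or.inr (Or.inl rfl), fun i => ?_⟩
    rw [hk]
    revert i
    decide +kernel
  · rw [Nat.eq_of_beq_eq_true h1, Nat.eq_of_beq_eq_true h2] at hk
    refine ⟨K4.v, Or.inr (Or.inr rfl), fun i => ?_⟩
    rw [hk]
    revert i
    decide +kernel

/-- Key preservation on the right by an element stabilizing the first basis line. -/
theorem keyC_mul {x k : GK} {a c b : ℕ} (hx : R x a) (hk : R k c) (hc : colChk c = true)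
    (hb : R (x * k) b) : keyC b = keyC a := by
  obtain ⟨l, hl, hcol⟩ := col_of_colChk hc
  apply keyC_eq_of_col hl
  intro i
  have h1 : ((x * k : GK) : Matrix F9 F9 K4) (e9.symm i) (0 : F9) = dec K4.w b i 0 := by
    unfold R at hb
    rw [hb]
    simp [e9_zero]
  have h2 : ∀ j : F9, (k : Matrix F9 F9 K4) j (0 : F9) = if j = 0 then l else 0 := by
    intro j
    unfold R at hk
    rw [hk]
    simp only [Matrix.submatrix_apply, e9_zero]
    rw [hcol]
    have : e9 j = 0 ↔ j = 0 := by
      rw [← e9_zero]; exact e9.injective.eq_iff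
    simp [this]
  rw [← h1, Units.val_mul, Matrix.mul_apply]
  simp only [h2]
  simp only [mul_ite, mul_zero, Finset.sum_ite_eq', Finset.mem_univ, if_true]
  unfold R at hx
  rw [hx]
  simp [e9_zero, mul_comm]

/-- Stabilizing the first basis line, matrix form. -/
theorem col_of_R {k : GK} {c : ℕ} (hk : R k c) (hc : colChk c = true) :
    ∃ l : K4, (l = 1 ∨ l = K4.w ∨ l = K4.v) ∧ ∀ j : F9, (k : Matrix F9 F9 K4) j (0 : F9) = if j = 0 then l else 0 := by
  obtain ⟨l, hl, hcol⟩ := col_of_colChk hc
  refine ⟨l, hl, fun j => ?_⟩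
  unfold R at hk
  rw [hk]
  simp only [Matrix.submatrix_apply, e9_zero]
  rw [hcol]
  have : e9 j = 0 ↔ j = 0 := by
    rw [← e9_zero]; exact e9.injective.eq_iff
  simp [this]

end Cfsg.Agent.Lib.J3Code
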