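/-
Kernel checks of the `J₃` chain certificate (generated).
-/
import Cfsg.Agent.Lib.J3Code
import Cfsg.Agent.Lib.J3Data

set_option autoImplicit false
set_option maxRecDepth 100000

namespace Cfsg.Agent.Lib.J3Check

open Cfsg.Agent.Lib.F4Mat Cfsg.Agent.Lib.ChainCert Cfsg.Agent.Lib.J3Code Cfsg.Agent.Lib.J3Data

def nT : ℕ := nat_lit 23256
def nK : ℕ := nat_lit 6480

def tpf (i : ℕ) : ℕ := Nat.land (ttE i) (nat_lit 32767)
def tgf (i : ℕ) : ℕ := Nat.land (Nat.shiftRight (ttE i) (nat_lit 15)) (nat_lit 1)
def trk (i : ℕ) : ℕ := Nat.shiftRight (ttE i) (nat_lit 16)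

def kpf (i : ℕ) : ℕ := Nat.land (keE i) (nat_lit 8191)
def kgf (i : ℕ) : ℕ := Nat.land (Nat.shiftRight (keE i) (nat_lit 13)) (nat_lit 3)
def krk (i : ℕ) : ℕ := Nat.shiftRight (keE i) (nat_lit 15)

def stJ (m : ℕ) : ℕ := Nat.land (stE m) (nat_lit 32767)
def stL (m : ℕ) : ℕ := Nat.shiftRight (stE m) (nat_lit 15)

/-- step check -/
def Pst : ℕ → Bool := stepChk CS scT tg kg (nat_lit 2) nT nK stJ stL
/-- closure check -/
def Pcl : ℕ → Bool := closChk CS scK kg (nat_lit 2) nK kcE
/-- tree of `T` -/
def Ptt : ℕ → Bool := treeChkT CS tg kg (nat_lit 2) nT stJ stL tpf tgf trk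
/-- tree of `K` -/
def Ptk : ℕ → Bool := treeChkK CS kg (nat_lit 2) nK kcE kpf kgf krk
/-- keys of `T` are increasing -/
def Pmt : ℕ → Bool := monoChk (fun i => keyC (tg i)) nT
/-- codes of `K` are increasing -/
def Pmk : ℕ → Bool := monoChk kg nK
/-- `K` stabilizes the first basis line, and the codes are bounded -/
def Pck : ℕ → Bool := fun i => letN (kg i) fun x => colChk x && Nat.ble (Nat.succ x) (nat_lit 5846006549323611672814739330865132078623730171904)

theorem tt_15_0 : allR (guard Ptt (nat_lit 23256)) 15 (nat_lit 0) = true := by decide +kernel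
theorem tt_all : ∀ i, i < (nat_lit 23256) → Ptt i = true := of_guard (k := 15) (by norm_num) tt_15_0
theorem tk_13_0 : allR (guard Ptk (nat_lit 6480)) 13 (nat_lit 0) = true := by decide +kernel
theorem tk_all : ∀ i, i < (nat_lit 6480) → Ptk i = true := of_guard (k := 13) (by norm_num) tk_13_0
theorem mt_15_0 : allR (guard Pmt (nat_lit 23256)) 15 (nat_lit 0) = true := by decide +kernel
theorem mt_all : ∀ i, i < (nat_lit 23256) → Pmt i = true := of_guard (k := 15) (by norm_num) mt_15_0
theorem mk_13_0 : allR (guard Pmk (nat_lit 6480)) 13 (nat_lit 0) = true := by decide +kernel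
theorem mk_all : ∀ i, i < (nat_lit 6480) → Pmk i = true := of_guard (k := 13) (by norm_num) mk_13_0
theorem ck_13_0 : allR (guard Pck (nat_lit 6480)) 13 (nat_lit 0) = true := by decide +kernel
theorem ck_all : ∀ i, i < (nat_lit 6480) → Pck i = true := of_guard (k := 13) (by norm_num) ck_13_0
theorem cl_10_0 : allR (guard Pcl (nat_lit 12960)) 10 (nat_lit 0) = true := by decide +kernel
theorem cl_10_1024 : allR (guard Pcl (nat_lit 12960)) 10 (nat_lit 1024) = true := by decide +kernel
theorem cl_10_2048 : allR (guard Pcl (nat_lit 12960)) 10 (nat_lit 2048) = true := by decide +kernel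
theorem cl_10_3072 : allR (guard Pcl (nat_lit 12960)) 10 (nat_lit 3072) = true := by decide +kernel
theorem cl_10_4096 : allR (guard Pcl (nat_lit 12960)) 10 (nat_lit 4096) = true := by decide +kernel
theorem cl_10_5120 : allR (guard Pcl (nat_lit 12960)) 10 (nat_lit 5120) = true := by decide +kernel
theorem cl_10_6144 : allR (guard Pcl (nat_lit 12960)) 10 (nat_lit 6144) = true := by decide +kernel
theorem cl_10_7168 : allR (guard Pcl (nat_lit 12960)) 10 (nat_lit 7168) = true := by decide +kernel
theorem cl_10_8192 : allR (guard Pcl (nat_lit 12960)) 10 (nat_lit 8192) = true := by decide +kernel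
theorem cl_10_9216 : allR (guard Pcl (nat_lit 12960)) 10 (nat_lit 9216) = true := by decide +kernel
theorem cl_10_10240 : allR (guard Pcl (nat_lit 12960)) 10 (nat_lit 10240) = true := by decide +kernel
theorem cl_10_11264 : allR (guard Pcl (nat_lit 12960)) 10 (nat_lit 11264) = true := by decide +kernel
theorem cl_10_12288 : allR (guard Pcl (nat_lit 12960)) 10 (nat_lit 12288) = true := by decide +kernel
theorem cl_10_13312 : allR (guard Pcl (nat_lit 12960)) 10 (nat_lit 13312) = true := by decide +kernel
theorem cl_10_14336 : allR (guard Pcl (nat_lit 12960)) 10 (nat_lit 14336) = true := by decide +kernel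
theorem cl_10_15360 : allR (guard Pcl (nat_lit 12960)) 10 (nat_lit 15360) = true := by decide +kernel
theorem cl_11_0 : allR (guard Pcl (nat_lit 12960)) 11 (nat_lit 0) = true := allR_join (mid := nat_lit 1024) rfl cl_10_0 cl_10_1024
theorem cl_11_2048 : allR (guard Pcl (nat_lit 12960)) 11 (nat_lit 2048) = true := allR_join (mid := nat_lit 3072) rfl cl_10_2048 cl_10_3072
theorem cl_11_4096 : allR (guard Pcl (nat_lit 12960)) 11 (nat_lit 4096) = true := allR_join (mid := nat_lit 5120) rfl cl_10_4096 cl_10_5120
theorem cl_11_6144 : allR (guard Pcl (nat_lit 12960)) 11 (nat_lit 6144) = true := allR_join (mid := nat_lit 7168) rfl cl_10_6144 cl_10_7168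
theorem cl_11_8192 : allR (guard Pcl (nat_lit 12960)) 11 (nat_lit 8192) = true := allR_join (mid := nat_lit 9216) rfl cl_10_8192 cl_10_9216
theorem cl_11_10240 : allR (guard Pcl (nat_lit 12960)) 11 (nat_lit 10240) = true := allR_join (mid := nat_lit 11264) rfl cl_10_10240 cl_10_11264
theorem cl_11_12288 : allR (guard Pcl (nat_lit 12960)) 11 (nat_lit 12288) = true := allR_join (mid := nat_lit 13312) rfl cl_10_12288 cl_10_13312
theorem cl_11_14336 : allR (guard Pcl (nat_lit 12960)) 11 (nat_lit 14336) = true := allR_join (mid := nat_lit 15360) rfl cl_10_14336 cl_10_15360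
theorem cl_12_0 : allR (guard Pcl (nat_lit 12960)) 12 (nat_lit 0) = true := allR_join (mid := nat_lit 2048) rfl cl_11_0 cl_11_2048
theorem cl_12_4096 : allR (guard Pcl (nat_lit 12960)) 12 (nat_lit 4096) = true := allR_join (mid := nat_lit 6144) rfl cl_11_4096 cl_11_6144
theorem cl_12_8192 : allR (guard Pcl (nat_lit 12960)) 12 (nat_lit 8192) = true := allR_join (mid := nat_lit 10240) rfl cl_11_8192 cl_11_10240
theorem cl_12_12288 : allR (guard Pcl (nat_lit 12960)) 12 (nat_lit 12288) = true := allR_join (mid := nat_lit 14336) rfl cl_11_12288 cl_11_14336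
theorem cl_13_0 : allR (guard Pcl (nat_lit 12960)) 13 (nat_lit 0) = true := allR_join (mid := nat_lit 4096) rfl cl_12_0 cl_12_4096
theorem cl_13_8192 : allR (guard Pcl (nat_lit 12960)) 13 (nat_lit 8192) = true := allR_join (mid := nat_lit 12288) rfl cl_12_8192 cl_12_12288
theorem cl_14_0 : allR (guard Pcl (nat_lit 12960)) 14 (nat_lit 0) = true := allR_join (mid := nat_lit 8192) rfl cl_13_0 cl_13_8192
theorem cl_all : ∀ i, i < (nat_lit 12960) → Pcl i = true := of_guard (k := 14) (by norm_num) cl_14_0
theorem st_10_0 : allR (guard Pst (nat_lit 46512)) 10 (nat_lit 0) = true := by decide +kernel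
theorem st_10_1024 : allR (guard Pst (nat_lit 46512)) 10 (nat_lit 1024) = true := by decide +kernel
theorem st_10_2048 : allR (guard Pst (nat_lit 46512)) 10 (nat_lit 2048) = true := by decide +kernel
theorem st_10_3072 : allR (guard Pst (nat_lit 46512)) 10 (nat_lit 3072) = true := by decide +kernel
theorem st_10_4096 : allR (guard Pst (nat_lit 46512)) 10 (nat_lit 4096) = true := by decide +kernel
theorem st_10_5120 : allR (guard Pst (nat_lit 46512)) 10 (nat_lit 5120) = true := by decide +kernel
theorem st_10_6144 : allR (guard Pst (nat_lit 46512)) 10 (nat_lit 6144) = true := by decide +kernel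
theorem st_10_7168 : allR (guard Pst (nat_lit 46512)) 10 (nat_lit 7168) = true := by decide +kernel
theorem st_10_8192 : allR (guard Pst (nat_lit 46512)) 10 (nat_lit 8192) = true := by decide +kernel
theorem st_10_9216 : allR (guard Pst (nat_lit 46512)) 10 (nat_lit 9216) = true := by decide +kernel
theorem st_10_10240 : allR (guard Pst (nat_lit 46512)) 10 (nat_lit 10240) = true := by decide +kernel
theorem st_10_11264 : allR (guard Pst (nat_lit 46512)) 10 (nat_lit 11264) = true := by decide +kernel
theorem st_10_12288 : allR (guard Pst (nat_lit 46512)) 10 (nat_lit 12288) = true := by decide +kernel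
theorem st_10_13312 : allR (guard Pst (nat_lit 46512)) 10 (nat_lit 13312) = true := by decide +kernel
theorem st_10_14336 : allR (guard Pst (nat_lit 46512)) 10 (nat_lit 14336) = true := by decide +kernel
theorem st_10_15360 : allR (guard Pst (nat_lit 46512)) 10 (nat_lit 15360) = true := by decide +kernel
theorem st_10_16384 : allR (guard Pst (nat_lit 46512)) 10 (nat_lit 16384) = true := by decide +kernel
theorem st_10_17408 : allR (guard Pst (nat_lit 46512)) 10 (nat_lit 17408) = true := by decide +kernel
theorem st_10_18432 : allR (guard Pst (nat_lit 46512)) 10 (nat_lit 18432) = true := by decide +kernel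
theorem st_10_19456 : allR (guard Pst (nat_lit 46512)) 10 (nat_lit 19456) = true := by decide +kernel
theorem st_10_20480 : allR (guard Pst (nat_lit 46512)) 10 (nat_lit 20480) = true := by decide +kernel
theorem st_10_21504 : allR (guard Pst (nat_lit 46512)) 10 (nat_lit 21504) = true := by decide +kernel
theorem st_10_22528 : allR (guard Pst (nat_lit 46512)) 10 (nat_lit 22528) = true := by decide +kernel
theorem st_10_23552 : allR (guard Pst (nat_lit 46512)) 10 (nat_lit 23552) = true := by decide +kernel
theorem st_10_24576 : allR (guard Pst (nat_lit 46512)) 10 (nat_lit 24576) = true := by decide +kernel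
theorem st_10_25600 : allR (guard Pst (nat_lit 46512)) 10 (nat_lit 25600) = true := by decide +kernel
theorem st_10_26624 : allR (guard Pst (nat_lit 46512)) 10 (nat_lit 26624) = true := by decide +kernel
theorem st_10_27648 : allR (guard Pst (nat_lit 46512)) 10 (nat_lit 27648) = true := by decide +kernel
theorem st_10_28672 : allR (guard Pst (nat_lit 46512)) 10 (nat_lit 28672) = true := by decide +kernel
theorem st_10_29696 : allR (guard Pst (nat_lit 46512)) 10 (nat_lit 29696) = true := by decide +kernel
theorem st_10_30720 : allR (guard Pst (nat_lit 46512)) 10 (nat_lit 30720) = true := by decide +kernel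
theorem st_10_31744 : allR (guard Pst (nat_lit 46512)) 10 (nat_lit 31744) = true := by decide +kernel
theorem st_10_32768 : allR (guard Pst (nat_lit 46512)) 10 (nat_lit 32768) = true := by decide +kernel
theorem st_10_33792 : allR (guard Pst (nat_lit 46512)) 10 (nat_lit 33792) = true := by decide +kernel
theorem st_10_34816 : allR (guard Pst (nat_lit 46512)) 10 (nat_lit 34816) = true := by decide +kernel
theorem st_10_35840 : allR (guard Pst (nat_lit 46512)) 10 (nat_lit 35840) = true := by decide +kernel
theorem st_10_36864 : allR (guard Pst (nat_lit 46512)) 10 (nat_lit 36864) = true := by decide +kernel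
theorem st_10_37888 : allR (guard Pst (nat_lit 46512)) 10 (nat_lit 37888) = true := by decide +kernel
theorem st_10_38912 : allR (guard Pst (nat_lit 46512)) 10 (nat_lit 38912) = true := by decide +kernel
theorem st_10_39936 : allR (guard Pst (nat_lit 46512)) 10 (nat_lit 39936) = true := by decide +kernel
theorem st_10_40960 : allR (guard Pst (nat_lit 46512)) 10 (nat_lit 40960) = true := by decide +kernel
theorem st_10_41984 : allR (guard Pst (nat_lit 46512)) 10 (nat_lit 41984) = true := by decide +kernel
theorem st_10_43008 : allR (guard Pst (nat_lit 46512)) 10 (nat_lit 43008) = true := by decide +kernel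
theorem st_10_44032 : allR (guard Pst (nat_lit 46512)) 10 (nat_lit 44032) = true := by decide +kernel
theorem st_10_45056 : allR (guard Pst (nat_lit 46512)) 10 (nat_lit 45056) = true := by decide +kernel
theorem st_10_46080 : allR (guard Pst (nat_lit 46512)) 10 (nat_lit 46080) = true := by decide +kernel
theorem st_10_47104 : allR (guard Pst (nat_lit 46512)) 10 (nat_lit 47104) = true := by decide +kernel
theorem st_10_48128 : allR (guard Pst (nat_lit 46512)) 10 (nat_lit 48128) = true := by decide +kernel
theorem st_10_49152 : allR (guard Pst (nat_lit 46512)) 10 (nat_lit 49152) = true := by decide +kernel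
theorem st_10_50176 : allR (guard Pst (nat_lit 46512)) 10 (nat_lit 50176) = true := by decide +kernel
theorem st_10_51200 : allR (guard Pst (nat_lit 46512)) 10 (nat_lit 51200) = true := by decide +kernel
theorem st_10_52224 : allR (guard Pst (nat_lit 46512)) 10 (nat_lit 52224) = true := by decide +kernel
theorem st_10_53248 : allR (guard Pst (nat_lit 46512)) 10 (nat_lit 53248) = true := by decide +kernel
theorem st_10_54272 : allR (guard Pst (nat_lit 46512)) 10 (nat_lit 54272) = true := by decide +kernel
theorem st_10_55296 : allR (guard Pst (nat_lit 46512)) 10 (nat_lit 55296) = true := by decide +kernel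
theorem st_10_56320 : allR (guard Pst (nat_lit 46512)) 10 (nat_lit 56320) = true := by decide +kernel
theorem st_10_57344 : allR (guard Pst (nat_lit 46512)) 10 (nat_lit 57344) = true := by decide +kernel
theorem st_10_58368 : allR (guard Pst (nat_lit 46512)) 10 (nat_lit 58368) = true := by decide +kernel
theorem st_10_59392 : allR (guard Pst (nat_lit 46512)) 10 (nat_lit 59392) = true := by decide +kernel
theorem st_10_60416 : allR (guard Pst (nat_lit 46512)) 10 (nat_lit 60416) = true := by decide +kernel
theorem st_10_61440 : allR (guard Pst (nat_lit 46512)) 10 (nat_lit 61440) = true := by decide +kernel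
theorem st_10_62464 : allR (guard Pst (nat_lit 46512)) 10 (nat_lit 62464) = true := by decide +kernel
theorem st_10_63488 : allR (guard Pst (nat_lit 46512)) 10 (nat_lit 63488) = true := by decide +kernel
theorem st_10_64512 : allR (guard Pst (nat_lit 46512)) 10 (nat_lit 64512) = true := by decide +kernel
theorem st_11_0 : allR (guard Pst (nat_lit 46512)) 11 (nat_lit 0) = true := allR_join (mid := nat_lit 1024) rfl st_10_0 st_10_1024
theorem st_11_2048 : allR (guard Pst (nat_lit 46512)) 11 (nat_lit 2048) = true := allR_join (mid := nat_lit 3072) rfl st_10_2048 st_10_3072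
theorem st_11_4096 : allR (guard Pst (nat_lit 46512)) 11 (nat_lit 4096) = true := allR_join (mid := nat_lit 5120) rfl st_10_4096 st_10_5120
theorem st_11_6144 : allR (guard Pst (nat_lit 46512)) 11 (nat_lit 6144) = true := allR_join (mid := nat_lit 7168) rfl st_10_6144 st_10_7168
theorem st_11_8192 : allR (guard Pst (nat_lit 46512)) 11 (nat_lit 8192) = true := allR_join (mid := nat_lit 9216) rfl st_10_8192 st_10_9216
theorem st_11_10240 : allR (guard Pst (nat_lit 46512)) 11 (nat_lit 10240) = true := allR_join (mid := nat_lit 11264) rfl st_10_10240 st_10_11264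
theorem st_11_12288 : allR (guard Pst (nat_lit 46512)) 11 (nat_lit 12288) = true := allR_join (mid := nat_lit 13312) rfl st_10_12288 st_10_13312
theorem st_11_14336 : allR (guard Pst (nat_lit 46512)) 11 (nat_lit 14336) = true := allR_join (mid := nat_lit 15360) rfl st_10_14336 st_10_15360
theorem st_11_16384 : allR (guard Pst (nat_lit 46512)) 11 (nat_lit 16384) = true := allR_join (mid := nat_lit 17408) rfl st_10_16384 st_10_17408
theorem st_11_18432 : allR (guard Pst (nat_lit 46512)) 11 (nat_lit 18432) = true := allR_join (mid := nat_lit 19456) rfl st_10_18432 st_10_19456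
theorem st_11_20480 : allR (guard Pst (nat_lit 46512)) 11 (nat_lit 20480) = true := allR_join (mid := nat_lit 21504) rfl st_10_20480 st_10_21504
theorem st_11_22528 : allR (guard Pst (nat_lit 46512)) 11 (nat_lit 22528) = true := allR_join (mid := nat_lit 23552) rfl st_10_22528 st_10_23552
theorem st_11_24576 : allR (guard Pst (nat_lit 46512)) 11 (nat_lit 24576) = true := allR_join (mid := nat_lit 25600) rfl st_10_24576 st_10_25600
theorem st_11_26624 : allR (guard Pst (nat_lit 46512)) 11 (nat_lit 26624) = true := allR_join (mid := nat_lit 27648) rfl st_10_26624 st_10_27648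
theorem st_11_28672 : allR (guard Pst (nat_lit 46512)) 11 (nat_lit 28672) = true := allR_join (mid := nat_lit 29696) rfl st_10_28672 st_10_29696
theorem st_11_30720 : allR (guard Pst (nat_lit 46512)) 11 (nat_lit 30720) = true := allR_join (mid := nat_lit 31744) rfl st_10_30720 st_10_31744
theorem st_11_32768 : allR (guard Pst (nat_lit 46512)) 11 (nat_lit 32768) = true := allR_join (mid := nat_lit 33792) rfl st_10_32768 st_10_33792
theorem st_11_34816 : allR (guard Pst (nat_lit 46512)) 11 (nat_lit 34816) = true := allR_join (mid := nat_lit 35840) rfl st_10_34816 st_10_35840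
theorem st_11_36864 : allR (guard Pst (nat_lit 46512)) 11 (nat_lit 36864) = true := allR_join (mid := nat_lit 37888) rfl st_10_36864 st_10_37888
theorem st_11_38912 : allR (guard Pst (nat_lit 46512)) 11 (nat_lit 38912) = true := allR_join (mid := nat_lit 39936) rfl st_10_38912 st_10_39936
theorem st_11_40960 : allR (guard Pst (nat_lit 46512)) 11 (nat_lit 40960) = true := allR_join (mid := nat_lit 41984) rfl st_10_40960 st_10_41984
theorem st_11_43008 : allR (guard Pst (nat_lit 46512)) 11 (nat_lit 43008) = true := allR_join (mid := nat_lit 44032) rfl st_10_43008 st_10_44032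
theorem st_11_45056 : allR (guard Pst (nat_lit 46512)) 11 (nat_lit 45056) = true := allR_join (mid := nat_lit 46080) rfl st_10_45056 st_10_46080
theorem st_11_47104 : allR (guard Pst (nat_lit 46512)) 11 (nat_lit 47104) = true := allR_join (mid := nat_lit 48128) rfl st_10_47104 st_10_48128
theorem st_11_49152 : allR (guard Pst (nat_lit 46512)) 11 (nat_lit 49152) = true := allR_join (mid := nat_lit 50176) rfl st_10_49152 st_10_50176
theorem st_11_51200 : allR (guard Pst (nat_lit 46512)) 11 (nat_lit 51200) = true := allR_join (mid := nat_lit 52224) rfl st_10_51200 st_10_52224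
theorem st_11_53248 : allR (guard Pst (nat_lit 46512)) 11 (nat_lit 53248) = true := allR_join (mid := nat_lit 54272) rfl st_10_53248 st_10_54272
theorem st_11_55296 : allR (guard Pst (nat_lit 46512)) 11 (nat_lit 55296) = true := allR_join (mid := nat_lit 56320) rfl st_10_55296 st_10_56320
theorem st_11_57344 : allR (guard Pst (nat_lit 46512)) 11 (nat_lit 57344) = true := allR_join (mid := nat_lit 58368) rfl st_10_57344 st_10_58368
theorem st_11_59392 : allR (guard Pst (nat_lit 46512)) 11 (nat_lit 59392) = true := allR_join (mid := nat_lit 60416) rfl st_10_59392 st_10_60416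
theorem st_11_61440 : allR (guard Pst (nat_lit 46512)) 11 (nat_lit 61440) = true := allR_join (mid := nat_lit 62464) rfl st_10_61440 st_10_62464
theorem st_11_63488 : allR (guard Pst (nat_lit 46512)) 11 (nat_lit 63488) = true := allR_join (mid := nat_lit 64512) rfl st_10_63488 st_10_64512
theorem st_12_0 : allR (guard Pst (nat_lit 46512)) 12 (nat_lit 0) = true := allR_join (mid := nat_lit 2048) rfl st_11_0 st_11_2048
theorem st_12_4096 : allR (guard Pst (nat_lit 46512)) 12 (nat_lit 4096) = true := allR_join (mid := nat_lit 6144) rfl st_11_4096 st_11_6144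
theorem st_12_8192 : allR (guard Pst (nat_lit 46512)) 12 (nat_lit 8192) = true := allR_join (mid := nat_lit 10240) rfl st_11_8192 st_11_10240
theorem st_12_12288 : allR (guard Pst (nat_lit 46512)) 12 (nat_lit 12288) = true := allR_join (mid := nat_lit 14336) rfl st_11_12288 st_11_14336
theorem st_12_16384 : allR (guard Pst (nat_lit 46512)) 12 (nat_lit 16384) = true := allR_join (mid := nat_lit 18432) rfl st_11_16384 st_11_18432
theorem st_12_20480 : allR (guard Pst (nat_lit 46512)) 12 (nat_lit 20480) = true := allR_join (mid := nat_lit 22528) rfl st_11_20480 st_11_22528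
theorem st_12_24576 : allR (guard Pst (nat_lit 46512)) 12 (nat_lit 24576) = true := allR_join (mid := nat_lit 26624) rfl st_11_24576 st_11_26624
theorem st_12_28672 : allR (guard Pst (nat_lit 46512)) 12 (nat_lit 28672) = true := allR_join (mid := nat_lit 30720) rfl st_11_28672 st_11_30720
theorem st_12_32768 : allR (guard Pst (nat_lit 46512)) 12 (nat_lit 32768) = true := allR_join (mid := nat_lit 34816) rfl st_11_32768 st_11_34816
theorem st_12_36864 : allR (guard Pst (nat_lit 46512)) 12 (nat_lit 36864) = true := allR_join (mid := nat_lit 38912) rfl st_11_36864 st_11_38912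
theorem st_12_40960 : allR (guard Pst (nat_lit 46512)) 12 (nat_lit 40960) = true := allR_join (mid := nat_lit 43008) rfl st_11_40960 st_11_43008
theorem st_12_45056 : allR (guard Pst (nat_lit 46512)) 12 (nat_lit 45056) = true := allR_join (mid := nat_lit 47104) rfl st_11_45056 st_11_47104
theorem st_12_49152 : allR (guard Pst (nat_lit 46512)) 12 (nat_lit 49152) = true := allR_join (mid := nat_lit 51200) rfl st_11_49152 st_11_51200
theorem st_12_53248 : allR (guard Pst (nat_lit 46512)) 12 (nat_lit 53248) = true := allR_join (mid := nat_lit 55296) rfl st_11_53248 st_11_55296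
theorem st_12_57344 : allR (guard Pst (nat_lit 46512)) 12 (nat_lit 57344) = true := allR_join (mid := nat_lit 59392) rfl st_11_57344 st_11_59392
theorem st_12_61440 : allR (guard Pst (nat_lit 46512)) 12 (nat_lit 61440) = true := allR_join (mid := nat_lit 63488) rfl st_11_61440 st_11_63488
theorem st_13_0 : allR (guard Pst (nat_lit 46512)) 13 (nat_lit 0) = true := allR_join (mid := nat_lit 4096) rfl st_12_0 st_12_4096
theorem st_13_8192 : allR (guard Pst (nat_lit 46512)) 13 (nat_lit 8192) = true := allR_join (mid := nat_lit 12288) rfl st_12_8192 st_12_12288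
theorem st_13_16384 : allR (guard Pst (nat_lit 46512)) 13 (nat_lit 16384) = true := allR_join (mid := nat_lit 20480) rfl st_12_16384 st_12_20480
theorem st_13_24576 : allR (guard Pst (nat_lit 46512)) 13 (nat_lit 24576) = true := allR_join (mid := nat_lit 28672) rfl st_12_24576 st_12_28672
theorem st_13_32768 : allR (guard Pst (nat_lit 46512)) 13 (nat_lit 32768) = true := allR_join (mid := nat_lit 36864) rfl st_12_32768 st_12_36864
theorem st_13_40960 : allR (guard Pst (nat_lit 46512)) 13 (nat_lit 40960) = true := allR_join (mid := nat_lit 45056) rfl st_12_40960 st_12_45056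
theorem st_13_49152 : allR (guard Pst (nat_lit 46512)) 13 (nat_lit 49152) = true := allR_join (mid := nat_lit 53248) rfl st_12_49152 st_12_53248
theorem st_13_57344 : allR (guard Pst (nat_lit 46512)) 13 (nat_lit 57344) = true := allR_join (mid := nat_lit 61440) rfl st_12_57344 st_12_61440
theorem st_14_0 : allR (guard Pst (nat_lit 46512)) 14 (nat_lit 0) = true := allR_join (mid := nat_lit 8192) rfl st_13_0 st_13_8192
theorem st_14_16384 : allR (guard Pst (nat_lit 46512)) 14 (nat_lit 16384) = true := allR_join (mid := nat_lit 24576) rfl st_13_16384 st_13_24576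
theorem st_14_32768 : allR (guard Pst (nat_lit 46512)) 14 (nat_lit 32768) = true := allR_join (mid := nat_lit 40960) rfl st_13_32768 st_13_40960
theorem st_14_49152 : allR (guard Pst (nat_lit 46512)) 14 (nat_lit 49152) = true := allR_join (mid := nat_lit 57344) rfl st_13_49152 st_13_57344
theorem st_15_0 : allR (guard Pst (nat_lit 46512)) 15 (nat_lit 0) = true := allR_join (mid := nat_lit 16384) rfl st_14_0 st_14_16384
theorem st_15_32768 : allR (guard Pst (nat_lit 46512)) 15 (nat_lit 32768) = true := allR_join (mid := nat_lit 49152) rfl st_14_32768 st_14_49152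
theorem st_16_0 : allR (guard Pst (nat_lit 46512)) 16 (nat_lit 0) = true := allR_join (mid := nat_lit 32768) rfl st_15_0 st_15_32768
theorem st_all : ∀ i, i < (nat_lit 46512) → Pst i = true := of_guard (k := 16) (by norm_num) st_16_0

end Cfsg.Agent.Lib.J3Check
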