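import Mathlib
import Cfsg.Agent.Lib.J3FusData
import Cfsg.Agent.Lib.J3Transport
import Cfsg.Agent.Lib.FusionCover
import Cfsg.Agent.Lib.PuigBasic

set_option autoImplicit false
set_option maxRecDepth 100000

/-!
# The `2`-fusion system of `J₃` is simple
-/

namespace Cfsg.Agent.Lib.J3Fus

open Cfsg.Spor Subgroup
open Cfsg.Agent.Lib.F4Mat Cfsg.Agent.Lib.ChainCert Cfsg.Agent.Lib.J3Code Cfsg.Agent.Lib.J3Data
  Cfsg.Agent.Lib.J3Check Cfsg.Agent.Lib.J3Chain Cfsg.Agent.Lib.J3Main Cfsg.Agent.Lib.J3FusData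

theorem mulC_lt (a b : ℕ) : mulC a b < 2 ^ 162 := by
  rw [mulC_eq]
  apply Nat.or_lt_two_pow
  · exact lt_of_lt_of_le (Nat.xor_lt_two_pow (mul2_lt _ _) (mul2_lt _ _)) (by norm_num)
  · rw [Nat.shiftLeft_eq]
    have h := Nat.xor_lt_two_pow (mul2_lt ((a &&& maskP) ^^^ (a >>> 81)) ((b &&& maskP) ^^^ (b >>> 81)))
      (mul2_lt (a &&& maskP) (b &&& maskP))
    calc _ < 2 ^ 81 * 2 ^ 81 := Nat.mul_lt_mul_of_pos_right h (by positivity)
      _ = 2 ^ 162 := by norm_num

theorem tb_lt (T i : ℕ) : tb 162 mk T i < 2 ^ 162 := by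
  unfold tb
  exact Nat.and_lt_two_pow _ (by decide +kernel)

theorem kg_lt (i : ℕ) : kg i < 2 ^ 162 := by
  unfold kg
  exact Nat.and_lt_two_pow _ (by decide +kernel)

theorem z0C_lt : z0C < 2 ^ 162 := by decide +kernel

theorem R_cancel_right {x y : GK} {a b : ℕ} (hx : R x b) (hy : R y (mulC a b)) : R (y * x⁻¹) a := by
  unfold R at *
  rw [sub_mul, ← hx] at hy
  show ((y * x⁻¹ : GK) : Matrix F9 F9 K4) = _
  rw [Units.val_mul, hy, mul_assoc]
  have h : (x : Matrix F9 F9 K4) * ((x⁻¹ : GK) : Matrix F9 F9 K4) = 1 := Units.mul_inv x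
  rw [h, mul_one]

/-- A code of an element of the group. -/
def Val (c : ℕ) : Prop := ∃ x ∈ G3, R x c

theorem Val_mul {a b : ℕ} (ha : Val a) (hb : Val b) : Val (mulC a b) := by
  obtain ⟨x, hx, hxr⟩ := ha
  obtain ⟨y, hy, hyr⟩ := hb
  exact ⟨x * y, G3.mul_mem hx hy, R_mul hxr hyr⟩

theorem Val_one : Val oneC := ⟨1, G3.one_mem, R_one⟩

theorem Val_tg {i : ℕ} (hi : i < nT) : Val (tg i) := by
  obtain ⟨x, hx, hxr⟩ := tg_in_H i hi
  exact ⟨x, H_le hx, hxr⟩

theorem Val_kg {l : ℕ} (hl : l < nK) : Val (kg l) := by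
  obtain ⟨x, hx, hxr⟩ := klevel_main.2.1 l hl
  exact ⟨x, H_le (KK_le_H hx), hxr⟩

open Classical in
/-- The element with a code. -/
noncomputable def El (c : ℕ) : GK := if h : Val c then h.choose else 1

theorem El_spec {c : ℕ} (h : Val c) : El c ∈ G3 ∧ R (El c) c := by
  rw [El, dif_pos h]
  exact h.choose_spec

theorem El_mem {c : ℕ} (h : Val c) : El c ∈ G3 := (El_spec h).1

theorem El_R {c : ℕ} (h : Val c) : R (El c) c := (El_spec h).2

theorem El_eq {x : GK} {c : ℕ} (h : R x c) (hx : x ∈ G3) : El c = x :=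
  R_inj (El_R ⟨x, hx, h⟩) h

theorem El_mul {a b : ℕ} (ha : Val a) (hb : Val b) : El (mulC a b) = El a * El b :=
  El_eq (R_mul (El_R ha) (El_R hb)) (G3.mul_mem (El_mem ha) (El_mem hb))

theorem El_one : El oneC = 1 := El_eq R_one G3.one_mem

theorem Val_dec {c t k : ℕ} (ht : t < nT) (hk : k < nK) (h : c = mulC (tg t) (kg k)) : Val c := by
  rw [h]
  exact Val_mul (Val_tg ht) (Val_kg hk)

theorem Val_y {i : ℕ} (hi : i < 7) : Val (yC i) := by
  obtain ⟨h1, h2, h3⟩ := yDec_chk ⟨i, hi⟩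
  exact Val_dec h1 h2 h3

theorem Val_V {i : ℕ} (hi : i < 5) : Val (VC i) := by
  obtain ⟨h1, h2, h3⟩ := vDec_chk ⟨i, hi⟩
  exact Val_dec h1 h2 h3

theorem Val_w : Val wC := Val_dec wDec_chk.1 wDec_chk.2.1 wDec_chk.2.2
theorem Val_u1 : Val u1C := Val_dec u1Dec_chk.1 u1Dec_chk.2.1 u1Dec_chk.2.2
theorem Val_u2 : Val u2C := Val_dec u2Dec_chk.1 u2Dec_chk.2.1 u2Dec_chk.2.2

theorem Val_cs {k : ℕ} (hk : k < 6) : Val (csC k) :=
  Val_dec (cs_chk ⟨k, hk⟩).1 (cs_chk ⟨k, hk⟩).2.1 rfl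

/-! ### The range checks -/

theorem nK_eq : nK = 6480 := rfl
theorem nT_eq : nT = 23256 := rfl

theorem cls_all : ∀ l, l < nK → Pcls l = true := of_guard (k := 13) (by decide) cls_chk
theorem rep_all : ∀ j, j < 45 → Prep j = true := of_guard (k := 6) (by norm_num) rep_chk
theorem fix_all : ∀ i, i < nT → Pfix i = true := of_guard (k := 15) (by decide) fix_chk
theorem phi_all : ∀ j, j < 136 → Pphi j = true := of_guard (k := 8) (by norm_num) phi_chk
theorem wit_all : ∀ m, m < 5760 → Pwit m = true := of_guard (k := 13) (by norm_num) wit_chk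
theorem cent_all : ∀ m, m < 5760 → Pcent m = true := of_guard (k := 13) (by norm_num) cent_chk
theorem sv_all : ∀ e, e < 128 → Psv e = true := of_guard (k := 7) (by norm_num) sv_chk
theorem clos_all : ∀ m, m < 896 → Pclos m = true := of_guard (k := 10) (by norm_num) clos_chk
theorem dist_all : ∀ m, m < 16384 → Pdist m = true := of_guard (k := 14) (by norm_num) dist_chk
theorem six_all : ∀ e, e < 128 → Psix e = true := of_guard (k := 7) (by norm_num) six_chk

/-- The class index is small. -/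
def Pidx (l : ℕ) : Bool := Nat.ble (Nat.succ (idxL l)) 45

theorem idx_chk : allR (guard Pidx nK) 13 0 = true := by decide +kernel

theorem idx_all : ∀ l, l < nK → idxL l < 45 := by
  intro l hl
  exact Nat.le_of_ble_eq_true (of_guard (k := 13) (by decide) idx_chk l hl)

theorem z0_kg : z0C = kg 4 := by decide +kernel
theorem zeta_kg : zetaC = kg scalarIdx := by decide +kernel

theorem z0_comm : ∀ i : Fin 7, mulC z0C (yC i) = mulC (yC i) z0C := by decide +kernel

theorem z0_ne : z0C ≠ oneC := by decide +kernel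

theorem oneC_lt : oneC < 2 ^ 162 := by decide +kernel

/-! ### The central involution -/

theorem Val_z0 : Val z0C := by
  rw [z0_kg]
  exact Val_kg (by decide)

/-- The central involution. -/
noncomputable def zE : GK := El z0C

theorem zE_R : R zE z0C := El_R Val_z0

theorem zE_mem : zE ∈ G3 := El_mem Val_z0

theorem y6_eq : El (yC 6) = zE := by
  rw [z0_eq]
  rfl

theorem zE_KK : zE ∈ KK := by
  obtain ⟨k, hk, hr⟩ := klevel_main.2.1 4 (by decide)
  rw [← z0_kg] at hr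
  have h : zE = k := R_inj zE_R hr
  rwa [h]

theorem zE_ne : zE ≠ 1 := by
  intro h
  have h1 := zE_R
  rw [h] at h1
  exact z0_ne (R_fun z0C_lt oneC_lt h1 R_one)

/-- The centralizer of the involution. -/
theorem cent_z0 {c : GK} (hc : c ∈ G3) (hcomm : c * zE = zE * c) : ∃ m, m < 5760 ∧ R c (cEl m) := by
  rw [G3_eq_H] at hc
  obtain ⟨i, hi, y, hy, hyR, k, hk, rfl⟩ := tlevel_main.2.2 c hc
  obtain ⟨l, hl, hkR⟩ := klevel_main.2.2 k hk
  set x := k * zE * k⁻¹ with hx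
  have hxK : x ∈ KK := KK.mul_mem (KK.mul_mem hk zE_KK) (KK.inv_mem hk)
  have hc1 := cls_all l hl
  simp only [Pcls, letN_eq, Bool.and_eq_true] at hc1
  have e1 : mulC (kg l) z0C = mulC (kg (clsL (idxL l))) (kg l) := Nat.eq_of_beq_eq_true hc1.1
  have hxR : R x (kg (clsL (idxL l))) := by
    apply R_cancel_right hkR
    rw [← e1]
    exact R_mul hkR zE_R
  obtain ⟨l', hl', hxR'⟩ := klevel_main.2.2 x hxK
  have hrel : zE * y = y * x := by
    have h1 : y * x = y * k * zE * k⁻¹ := by rw [hx]; group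
    rw [h1, hcomm]
    group
  have hkey : keyC (mulC z0C (tg i)) = keyC (tg i) := by
    apply keyC_mul hyR hxR' (kg_col l' hl')
    rw [← hrel]
    exact R_mul zE_R hyR
  have hfix := fix_all i hi
  simp only [Pfix, letN_eq, Bool.or_eq_true, Bool.and_eq_true] at hfix
  have hfix' : PhiL (phiPos i) = i ∧ phiPos i < 136 := by
    rcases hfix with h | h
    · exfalso
      rw [hkey] at h
      simp at h
    · exact ⟨Nat.eq_of_beq_eq_true h.1, Nat.le_of_ble_eq_true h.2⟩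
  obtain ⟨hPhi, hj⟩ := hfix'
  set j := phiPos i with hjdef
  have hp := phi_all j hj
  simp only [Pphi, letN_eq, hPhi, Bool.and_eq_true] at hp
  obtain ⟨hp1, hp2⟩ := hp
  have e3 : mulC (tg i) (zpC j) = mulC z0C (tg i) := Nat.eq_of_beq_eq_true hp1
  have hxZ : R x (zpC j) := by
    have h1 : x = y⁻¹ * (zE * y) := by rw [hrel]; group
    rw [h1]
    apply R_cancel hyR
    rw [e3]
    exact R_mul zE_R hyR
  have e4 : zpC j = kg (clsL (idxL l)) := R_fun (tb_lt _ _) (kg_lt _) hxZ hxR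
  by_cases h63 : jcL j = 63
  · exfalso
    rw [h63] at hp2
    have h2 : allR (guard (Pout (zpC j)) 45) 6 0 = true := by simpa using hp2
    have h3 := of_guard (k := 6) (by norm_num) h2 (idxL l) (idx_all l hl)
    simp only [Pout] at h3
    rw [← e4] at h3
    simp at h3
  · have hb : Nat.beq (jcL j) 63 = false := by
      rw [Bool.eq_false_iff]
      intro h
      exact h63 (Nat.eq_of_beq_eq_true h)
    rw [hb] at hp2
    simp only [cond_false, Bool.and_eq_true] at hp2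
    obtain ⟨⟨⟨a1, a2⟩, a3⟩, a4⟩ := hp2
    have e5 : kg (clsL (jcL j)) = zpC j := Nat.eq_of_beq_eq_true a1
    have a2' : jcL j < 45 := Nat.le_of_ble_eq_true a2
    have a3' : iposL j < 40 := Nat.le_of_ble_eq_true a3
    have e6 : tpC (iposL j) = mulC (tg i) (kg (repL (jcL j))) := Nat.eq_of_beq_eq_true a4
    have hrp := rep_all _ a2'
    simp only [Prep, Bool.and_eq_true] at hrp
    have e7 : idxL (repL (jcL j)) = jcL j := Nat.eq_of_beq_eq_true hrp.1
    have hrn : repL (jcL j) < nK := Nat.le_of_ble_eq_true hrp.2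
    obtain ⟨r, hr, hrR⟩ := klevel_main.2.1 _ hrn
    have hc2 := cls_all _ hrn
    simp only [Pcls, letN_eq, Bool.and_eq_true, e7, e5] at hc2
    have e8 : mulC (kg (repL (jcL j))) z0C = mulC (zpC j) (kg (repL (jcL j))) := Nat.eq_of_beq_eq_true hc2.1
    have hrz : r * zE = x * r := by
      apply R_inj (a := mulC (zpC j) (kg (repL (jcL j))))
      · rw [← e8]
        exact R_mul hrR zE_R
      · exact R_mul hxZ hrR
    set h := r⁻¹ * k with hh
    have hhK : h ∈ KK := KK.mul_mem (KK.inv_mem hr) hk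
    have hhz : h * zE * h⁻¹ = zE := by
      have h1 : x = r * zE * r⁻¹ := by rw [hrz]; group
      have h2 : h * zE * h⁻¹ = r⁻¹ * x * r := by rw [hh, hx]; group
      rw [h2, h1]
      group
    obtain ⟨l₀, hl₀, hhR⟩ := klevel_main.2.2 h hhK
    have hc3 := cls_all _ hl₀
    simp only [Pcls, letN_eq, Bool.and_eq_true, Bool.or_eq_true] at hc3
    obtain ⟨c1, c2⟩ := hc3
    have e9' : mulC (kg l₀) z0C = mulC (kg (clsL (idxL l₀))) (kg l₀) := Nat.eq_of_beq_eq_true c1
    have hR0 : R zE (kg (clsL (idxL l₀))) := by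
      rw [← hhz]
      apply R_cancel_right hhR
      rw [← e9']
      exact R_mul hhR zE_R
    have e10 : kg (clsL (idxL l₀)) = z0C := R_fun (kg_lt _) z0C_lt hR0 zE_R
    rw [e10] at c2
    have c3 : Lz (posL l₀) = l₀ ∧ posL l₀ < 144 := by
      rcases c2 with c2 | c2
      · simp at c2
      · exact ⟨Nat.eq_of_beq_eq_true c2.1, Nat.le_of_ble_eq_true c2.2⟩
    obtain ⟨c4, c5⟩ := c3
    refine ⟨iposL j * 144 + posL l₀, by omega, ?_⟩
    have d1 : Nat.div (iposL j * 144 + posL l₀) 144 = iposL j := by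
      show (iposL j * 144 + posL l₀) / 144 = iposL j
      omega
    have d2 : Nat.mod (iposL j * 144 + posL l₀) 144 = posL l₀ := by
      show (iposL j * 144 + posL l₀) % 144 = posL l₀
      omega
    have hk' : y * k = y * r * h := by rw [hh]; group
    rw [hk']
    simp only [cEl, d1, d2, c4, e6]
    exact R_mul (R_mul hyR hrR) hhR

theorem cf_false {c : GK} {a q : ℕ} (hc : R c a) (hq : Val (yC q)) (hcomm : c * El (yC q) = El (yC q) * c) :
    cf a q = false := by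
  have h1 : mulC a (yC q) = mulC (yC q) a := by
    apply R_fun (mulC_lt _ _) (mulC_lt _ _) (x := c * El (yC q)) (R_mul hc (El_R hq))
    rw [hcomm]
    exact R_mul (El_R hq) hc
  simp [cf, h1]

/-- The centralizer of the extraspecial group. -/
theorem cent_R {c : GK} (hc : c ∈ G3) (hcomm : ∀ i, i < 5 → c * El (yC (2 + i)) = El (yC (2 + i)) * c) :
    ∃ k, k < 6 ∧ R c (six k) := by
  have h6 := hcomm 4 (by norm_num)
  rw [show 2 + 4 = 6 from rfl, y6_eq] at h6
  obtain ⟨m, hm, hR⟩ := cent_z0 hc h6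
  have hp := cent_all m hm
  simp only [Pcent, letN_eq, Bool.or_eq_true] at hp
  have f2 := cf_false hR (Val_y (i := 2 + 0) (by norm_num)) (hcomm 0 (by norm_num))
  have f3 := cf_false hR (Val_y (i := 2 + 1) (by norm_num)) (hcomm 1 (by norm_num))
  have f4 := cf_false hR (Val_y (i := 2 + 2) (by norm_num)) (hcomm 2 (by norm_num))
  have f5 := cf_false hR (Val_y (i := 2 + 3) (by norm_num)) (hcomm 3 (by norm_num))
  simp only [Nat.reduceAdd] at f2 f3 f4 f5
  rw [f2, f3, f4, f5] at hp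
  simp only [Bool.false_eq_true, or_false] at hp
  have hh : ∀ k, Nat.beq (cEl m) (six k) = true → R c (six k) := by
    intro k hk
    rw [← Nat.eq_of_beq_eq_true hk]
    exact hR
  rcases hp with (((((h | h) | h) | h) | h) | h)
  · exact ⟨0, by norm_num, hh _ h⟩
  · exact ⟨1, by norm_num, hh _ h⟩
  · exact ⟨2, by norm_num, hh _ h⟩
  · exact ⟨3, by norm_num, hh _ h⟩
  · exact ⟨4, by norm_num, hh _ h⟩
  · exact ⟨5, by norm_num, hh _ h⟩

/-! ### The Sylow subgroup -/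

/-- The Sylow subgroup. -/
noncomputable def S₀ : Subgroup GK := closure ((fun i => El (yC i)) '' Set.Iio 7)

/-- The extraspecial subgroup. -/
noncomputable def R₀ : Subgroup GK := closure ((fun i => El (yC (2 + i))) '' Set.Iio 5)

theorem gen_memS {i : ℕ} (hi : i < 7) : El (yC i) ∈ S₀ := subset_closure ⟨i, hi, rfl⟩

theorem gen_memR {i : ℕ} (hi : i < 5) : El (yC (2 + i)) ∈ R₀ := subset_closure ⟨i, hi, rfl⟩

theorem R_le_S : R₀ ≤ S₀ := by
  rw [R₀, closure_le]
  rintro _ ⟨i, hi, rfl⟩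
  exact gen_memS (by have : i < 5 := hi; omega)

theorem S_le_G3 : S₀ ≤ G3 := by
  rw [S₀, closure_le]
  rintro _ ⟨i, hi, rfl⟩
  exact El_mem (Val_y hi)

theorem zE_memS : zE ∈ S₀ := y6_eq ▸ gen_memS (by norm_num)

theorem zE_memR : zE ∈ R₀ := y6_eq ▸ gen_memR (i := 4) (by norm_num)

theorem mulOpt_spec (T : Subgroup GK) (e k : ℕ) {x : ℕ} (hk : k < 7) (hT : El (yC k) ∈ T) (hx : Val x)
    (hxT : El x ∈ T) : Val (mulOpt e k (yC k) x) ∧ El (mulOpt e k (yC k) x) ∈ T := by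
  unfold mulOpt
  cases Nat.beq (Nat.land (Nat.shiftRight e k) 1) 1
  · exact ⟨hx, hxT⟩
  · refine ⟨Val_mul (Val_y hk) hx, ?_⟩
    show El (mulC (yC k) x) ∈ T
    rw [El_mul (Val_y hk) hx]
    exact T.mul_mem hT hxT

/-- The normal form without the first two letters. -/
def nfX (e : ℕ) : ℕ :=
  mulOpt e 2 (yC 2) (mulOpt e 3 (yC 3) (mulOpt e 4 (yC 4) (mulOpt e 5 (yC 5) (mulOpt e 6 (yC 6) oneC))))

theorem nfX_spec (T : Subgroup GK) (hT : ∀ i, i < 5 → El (yC (2 + i)) ∈ T) (e : ℕ) :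
    Val (nfX e) ∧ El (nfX e) ∈ T := by
  have h0 : El oneC ∈ T := by rw [El_one]; exact T.one_mem
  obtain ⟨v6, m6⟩ := mulOpt_spec T e 6 (by norm_num) (hT 4 (by norm_num)) Val_one h0
  obtain ⟨v5, m5⟩ := mulOpt_spec T e 5 (by norm_num) (hT 3 (by norm_num)) v6 m6
  obtain ⟨v4, m4⟩ := mulOpt_spec T e 4 (by norm_num) (hT 2 (by norm_num)) v5 m5
  obtain ⟨v3, m3⟩ := mulOpt_spec T e 3 (by norm_num) (hT 1 (by norm_num)) v4 m4
  exact mulOpt_spec T e 2 (by norm_num) (hT 0 (by norm_num)) v3 m3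

theorem nfC_eq (e : ℕ) : nfC e = mulOpt e 0 (yC 0) (mulOpt e 1 (yC 1) (nfX e)) := rfl

theorem Sv_eq {e : ℕ} (he : e < 128) : Sv e = nfC e := Nat.eq_of_beq_eq_true (sv_all e he)

theorem nf_spec (e : ℕ) : Val (nfC e) ∧ El (nfC e) ∈ S₀ := by
  obtain ⟨v2, m2⟩ := nfX_spec S₀ (fun i hi => gen_memS (by omega)) e
  obtain ⟨v1, m1⟩ := mulOpt_spec S₀ e 1 (by norm_num) (gen_memS (by norm_num)) v2 m2
  exact mulOpt_spec S₀ e 0 (by norm_num) (gen_memS (by norm_num)) v1 m1

theorem Val_Sv {e : ℕ} (he : e < 128) : Val (Sv e) := by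
  rw [Sv_eq he]
  exact (nf_spec e).1

theorem Sv_memS {e : ℕ} (he : e < 128) : El (Sv e) ∈ S₀ := by
  rw [Sv_eq he]
  exact (nf_spec e).2

theorem Sv_memR {e : ℕ} (he : e < 128) (h4 : e % 4 = 0) : El (Sv e) ∈ R₀ := by
  have hb := bits_of_mod ⟨e, he⟩ h4
  rw [Sv_eq he, nfC_eq]
  have h0 : mulOpt e 0 (yC 0) (mulOpt e 1 (yC 1) (nfX e)) = nfX e := by
    unfold mulOpt
    rw [hb.1, hb.2]
    rfl
  rw [h0]
  exact (nfX_spec R₀ (fun i hi => gen_memR hi) e).2

theorem clos {i e : ℕ} (hi : i < 7) (he : e < 128) :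
    ∃ e', e' < 128 ∧ El (yC i) * El (Sv e) = El (Sv e') := by
  have h := clos_all (i * 128 + e) (by omega)
  have d1 : Nat.div (i * 128 + e) 128 = i := by
    show (i * 128 + e) / 128 = i
    omega
  have d2 : Nat.mod (i * 128 + e) 128 = e := by
    show (i * 128 + e) % 128 = e
    omega
  simp only [Pclos, Bool.and_eq_true, d1, d2] at h
  refine ⟨_, Nat.le_of_ble_eq_true h.2, ?_⟩
  rw [← Nat.eq_of_beq_eq_true h.1, El_mul (Val_y hi) (Val_Sv he)]

theorem S_eq {x : GK} (hx : x ∈ S₀) : ∃ e, e < 128 ∧ x = El (Sv e) := by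
  rw [S₀, ← mem_toSubmonoid, closure_toSubmonoid_of_finite] at hx
  induction hx using Submonoid.closure_induction_left with
  | one => exact ⟨0, by norm_num, by rw [Sv_zero, El_one]⟩
  | mul_left s hs y _ ih =>
    obtain ⟨i, hi, rfl⟩ := hs
    obtain ⟨e, he, rfl⟩ := ih
    obtain ⟨e', he', h⟩ := clos hi he
    exact ⟨e', he', h⟩

theorem Sv_code_inj {a b : ℕ} (ha : a < 128) (hb : b < 128) (h : Sv a = Sv b) : a = b := by
  have key : ∀ a b, a < 128 → b < 128 → b < a → Sv a ≠ Sv b := by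
    intro a b ha hb hlt he
    have h1 := dist_all (a * 128 + b) (by omega)
    have d1 : Nat.div (a * 128 + b) 128 = a := by
      show (a * 128 + b) / 128 = a
      omega
    have d2 : Nat.mod (a * 128 + b) 128 = b := by
      show (a * 128 + b) % 128 = b
      omega
    simp only [Pdist, Bool.or_eq_true, d1, d2] at h1
    rcases h1 with h1 | h1
    · have := Nat.le_of_ble_eq_true h1
      omega
    · rw [he] at h1
      simp at h1
  rcases lt_trichotomy a b with h1 | h1 | h1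
  · exact absurd h.symm (key b a hb ha h1)
  · exact h1
  · exact absurd h (key a b ha hb h1)

theorem Sv_inj {a b : ℕ} (ha : a < 128) (hb : b < 128) (h : El (Sv a) = El (Sv b)) : a = b := by
  apply Sv_code_inj ha hb
  have h1 := El_R (Val_Sv ha)
  rw [h] at h1
  exact R_fun (tb_lt _ _) (tb_lt _ _) h1 (El_R (Val_Sv hb))

/-- The order of the Sylow subgroup. -/
theorem card_S : Nat.card S₀ = 2 ^ 7 := by
  let f : Fin 128 → S₀ := fun e => ⟨El (Sv e.val), Sv_memS e.2⟩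
  have hf : Function.Bijective f := by
    constructor
    · intro a b hab
      exact Fin.ext (Sv_inj a.2 b.2 (congrArg Subtype.val hab))
    · rintro ⟨x, hx⟩
      obtain ⟨e, he, rfl⟩ := S_eq hx
      exact ⟨⟨e, he⟩, rfl⟩
  rw [← Nat.card_eq_of_bijective f hf]
  simp

theorem zE_central {s : GK} (hs : s ∈ S₀) : zE * s = s * zE := by
  have h1 : S₀ ≤ Subgroup.centralizer {zE} := by
    rw [S₀, closure_le]
    rintro _ ⟨i, hi, rfl⟩
    rw [SetLike.mem_coe, Subgroup.mem_centralizer_iff]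
    rintro _ rfl
    apply R_inj (a := mulC z0C (yC i))
    · exact R_mul zE_R (El_R (Val_y hi))
    · have h2 := z0_comm ⟨i, hi⟩
      rw [show mulC z0C (yC i) = mulC (yC i) z0C from h2]
      exact R_mul (El_R (Val_y hi)) zE_R
  have h2 := Subgroup.mem_centralizer_iff.mp (h1 hs) zE rfl
  exact h2

theorem six_cases {x : GK} (hxS : x ∈ S₀) (hc : ∀ i, i < 5 → x * El (yC (2 + i)) = El (yC (2 + i)) * x) :
    x = 1 ∨ x = zE := by
  obtain ⟨k, hk, hR⟩ := cent_R (S_le_G3 hxS) hc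
  obtain ⟨e, he, rfl⟩ := S_eq hxS
  have h1 : Sv e = six k := R_fun (tb_lt _ _) (tb_lt _ _) (El_R (Val_Sv he)) hR
  have h2 := six_all e he
  simp only [Psix, Bool.and_eq_true, Bool.not_eq_true'] at h2
  obtain ⟨⟨⟨b2, b3⟩, b4⟩, b5⟩ := h2
  obtain ⟨s0, s1, -⟩ := six_eq
  interval_cases k
  · left
    rw [h1, s0, El_one]
  · right
    rw [h1, s1]
    rfl
  · rw [h1] at b2
    simp at b2
  · rw [h1] at b3
    simp at b3
  · rw [h1] at b4
    simp at b4
  · rw [h1] at b5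
    simp at b5

/-- The subgroups of `S₀` closed under fusion. -/
theorem closed_dichotomy (Tt : Subgroup GK) (hT : Tt ≤ S₀)
    (hcl : ∀ t ∈ Tt, ∀ g ∈ G3, g * t * g⁻¹ ∈ S₀ → g * t * g⁻¹ ∈ Tt) : Tt = ⊥ ∨ Tt = S₀ := by
  by_cases hb : Tt = ⊥
  · exact Or.inl hb
  right
  have hP : IsPGroup 2 S₀ := IsPGroup.of_card card_S
  have hnorm : (Tt.subgroupOf S₀).Normal := by
    refine ⟨?_⟩
    rintro ⟨t, ht⟩ ht' ⟨g, hg⟩
    rw [Subgroup.mem_subgroupOf] at ht' ⊢
    exact hcl t ht' g (S_le_G3 hg) (S₀.mul_mem (S₀.mul_mem hg ht) (S₀.inv_mem hg))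
  have hne : Tt.subgroupOf S₀ ≠ ⊥ := by
    intro h
    apply hb
    rw [eq_bot_iff]
    intro x hx
    have h1 : (⟨x, hT hx⟩ : S₀) ∈ Tt.subgroupOf S₀ := by
      rw [Subgroup.mem_subgroupOf]
      exact hx
    rw [h, Subgroup.mem_bot] at h1
    rw [Subgroup.mem_bot]
    exact congrArg Subtype.val h1
  obtain ⟨⟨x, hxS⟩, hxT, hx1, hxc⟩ := Cfsg.Agent.Lib.PuigBasic.exists_mem_center_of_normal hP _ hne
  rw [Subgroup.mem_subgroupOf] at hxT
  have hcomm : ∀ i, i < 5 → x * El (yC (2 + i)) = El (yC (2 + i)) * x := by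
    intro i hi
    have h1 := congrArg Subtype.val ((Subgroup.mem_center_iff.mp hxc) ⟨_, gen_memS (i := 2 + i) (by omega)⟩)
    exact h1.symm
  have hzT : zE ∈ Tt := by
    rcases six_cases hxS hcomm with h | h
    · exact absurd (Subtype.ext h) hx1
    · exact h ▸ hxT
  apply le_antisymm hT
  rw [S₀, closure_le]
  rintro _ ⟨i, hi', rfl⟩
  have hi'' : i < 7 := hi'
  show El (yC i) ∈ Tt
  by_cases h6 : i = 6
  · rw [h6, y6_eq]
    exact hzT
  · have hi6 : i < 6 := by omega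
    have hv := Val_cs hi6
    have h1 : mulC (csC i) z0C = mulC (yC i) (csC i) := (cs_chk ⟨i, hi6⟩).2.2
    have h2 : El (csC i) * zE = El (yC i) * El (csC i) := by
      apply R_inj (a := mulC (csC i) z0C)
      · exact R_mul (El_R hv) zE_R
      · rw [h1]
        exact R_mul (El_R (Val_y hi'')) (El_R hv)
    have h3 : El (csC i) * zE * (El (csC i))⁻¹ = El (yC i) := by
      rw [h2]
      group
    rw [← h3]
    apply hcl _ hzT _ (El_mem hv)
    rw [h3]
    exact gen_memS hi''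

/-- The element of order three. -/
noncomputable def w₀ : GK := El wC

theorem w_mem : w₀ ∈ G3 := El_mem Val_w

theorem w_conj : ∀ s ∈ S₀, w₀ * s * w₀⁻¹ ∈ S₀ := by
  have h1 : S₀ ≤ S₀.comap (MulAut.conj w₀).toMonoidHom := by
    rw [S₀, closure_le]
    rintro _ ⟨i, hi, rfl⟩
    have hi' : i < 7 := hi
    obtain ⟨h2, h3⟩ := w_chk ⟨i, hi'⟩
    show w₀ * El (yC i) * w₀⁻¹ ∈ Subgroup.closure _
    have h4 : w₀ * El (yC i) = El (Sv (wcL.getD i 0)) * w₀ := by
      apply R_inj (a := mulC wC (yC i))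
      · exact R_mul (El_R Val_w) (El_R (Val_y hi'))
      · rw [show mulC wC (yC i) = mulC (Sv (wcL.getD i 0)) wC from h3]
        exact R_mul (El_R (Val_Sv h2)) (El_R Val_w)
    rw [h4, mul_inv_cancel_right]
    exact Sv_memS h2
  exact fun s hs => h1 hs

/-- The two `2`-elements normalize the extraspecial group. -/
theorem u_conj {uC : ℕ} {uc : List ℕ} (hu : Val uC)
    (hc : ∀ i : Fin 5, uc.getD i 0 < 128 ∧ uc.getD i 0 % 4 = 0 ∧
      mulC uC (yC (2 + i)) = mulC (Sv (uc.getD i 0)) uC) :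
    ∀ r ∈ R₀, El uC * r * (El uC)⁻¹ ∈ R₀ := by
  have h1 : R₀ ≤ R₀.comap (MulAut.conj (El uC)).toMonoidHom := by
    rw [R₀, closure_le]
    rintro _ ⟨i, hi, rfl⟩
    have hi' : i < 5 := hi
    obtain ⟨h2, h3, h5⟩ := hc ⟨i, hi'⟩
    show El uC * El (yC (2 + i)) * (El uC)⁻¹ ∈ Subgroup.closure _
    have h4 : El uC * El (yC (2 + i)) = El (Sv (uc.getD i 0)) * El uC := by
      apply R_inj (a := mulC uC (yC (2 + i)))
      · exact R_mul (El_R hu) (El_R (Val_y (by omega)))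
      · rw [show mulC uC (yC (2 + i)) = mulC (Sv (uc.getD i 0)) uC from h5]
        exact R_mul (El_R (Val_Sv h2)) (El_R hu)
    rw [h4, mul_inv_cancel_right]
    exact Sv_memR h2 h3
  exact fun s hs => h1 hs

theorem u_sq {uC : ℕ} (hu : Val uC) (h : mulC uC uC = oneC) : El uC ^ 2 ^ 1 = 1 := by
  rw [pow_one, pow_two, ← El_mul hu hu, h, El_one]

theorem w_eq : w₀ = El u1C * El u2C := by
  rw [← El_mul Val_u1 Val_u2, uu_chk.1]
  rfl

/-! ### The scalar -/

theorem zeta_R : R sE zetaC := by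
  unfold R
  rw [zeta_kg, wC_dec, sE_val]
  ext i j
  simp [Matrix.one_apply]

theorem Val_zeta : Val zetaC := ⟨sE, sE_mem, zeta_R⟩

theorem El_zeta : El zetaC = sE := El_eq zeta_R sE_mem

theorem zeta_mem_map : El zetaC ∈ (center ↥G3).map G3.subtype := by
  rw [El_zeta]
  exact ⟨sG, sG_mem_center, rfl⟩

/-- The centralizer of the extraspecial group, in subgroup form. -/
theorem hRc' {c : GK} (hc : c ∈ G3) (hcomm : ∀ r ∈ R₀, c * r = r * c) :
    c ∈ R₀ ⊔ (center ↥G3).map G3.subtype := by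
  have h1 : ∀ i, i < 5 → c * El (yC (2 + i)) = El (yC (2 + i)) * c :=
    fun i hi => hcomm _ (gen_memR hi)
  obtain ⟨k, hk, hR⟩ := cent_R hc h1
  have hcE : El (six k) = c := El_eq hR hc
  rw [← hcE]
  obtain ⟨s0, s1, s2, s3, s4, s5⟩ := six_eq
  have hz : zE ∈ R₀ ⊔ (center ↥G3).map G3.subtype := (le_sup_left : R₀ ≤ _) zE_memR
  have hζ : El zetaC ∈ R₀ ⊔ (center ↥G3).map G3.subtype := (le_sup_right : _ ≤ R₀ ⊔ _) zeta_mem_map
  have hzz : El (mulC zetaC zetaC) = El zetaC * El zetaC := El_mul Val_zeta Val_zeta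
  have hvz : Val (mulC zetaC zetaC) := Val_mul Val_zeta Val_zeta
  interval_cases k
  · rw [s0, El_one]
    exact Subgroup.one_mem _
  · rw [s1]
    exact hz
  · rw [s2]
    exact hζ
  · rw [s3, hzz]
    exact Subgroup.mul_mem _ hζ hζ
  · rw [s4, El_mul Val_zeta Val_z0]
    exact Subgroup.mul_mem _ hζ hz
  · rw [s5, El_mul hvz Val_z0, hzz]
    exact Subgroup.mul_mem _ (Subgroup.mul_mem _ hζ hζ) hz

/-- Powers of `w` times scalars. -/
theorem wz_spec (N : Subgroup GK) (hw : El wC ∈ N) (hz : El zetaC ∈ N) {k : ℕ} (hk : k < 9) :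
    Val (wz k) ∧ El (wz k) ∈ N := by
  obtain ⟨s0, s1, s2, s3, s4, s5, s6, s7, s8⟩ := wz_eq
  have hzz : Val (mulC zetaC zetaC) ∧ El (mulC zetaC zetaC) ∈ N :=
    ⟨Val_mul Val_zeta Val_zeta, by rw [El_mul Val_zeta Val_zeta]; exact N.mul_mem hz hz⟩
  have hww : Val (mulC wC wC) ∧ El (mulC wC wC) ∈ N :=
    ⟨Val_mul Val_w Val_w, by rw [El_mul Val_w Val_w]; exact N.mul_mem hw hw⟩
  have hmul : ∀ {a b : ℕ}, (Val a ∧ El a ∈ N) → (Val b ∧ El b ∈ N) → Val (mulC a b) ∧ El (mulC a b) ∈ N := by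
    intro a b ha hb
    exact ⟨Val_mul ha.1 hb.1, by rw [El_mul ha.1 hb.1]; exact N.mul_mem ha.2 hb.2⟩
  have hW : Val wC ∧ El wC ∈ N := ⟨Val_w, hw⟩
  have hZ : Val zetaC ∧ El zetaC ∈ N := ⟨Val_zeta, hz⟩
  interval_cases k
  · rw [s0]
    exact ⟨Val_one, by rw [El_one]; exact N.one_mem⟩
  · rw [s1]
    exact hZ
  · rw [s2]
    exact hzz
  · rw [s3]
    exact hW
  · rw [s4]
    exact hmul hW hZ
  · rw [s5]
    exact hmul hW hzz
  · rw [s6]
    exact hww
  · rw [s7]
    exact hmul hww hZ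
  · rw [s8]
    exact hmul hww hzz

/-- The normalizer of the Sylow subgroup. -/
theorem norm_closure {g : GK} (hg : g ∈ G3) (hn : ∀ s ∈ S₀, g * s * g⁻¹ ∈ S₀) :
    g ∈ closure ((S₀ : Set GK) ∪ {w₀} ∪ ((center ↥G3).map G3.subtype : Subgroup GK)) := by
  have hN' := Cfsg.Agent.Lib.FusionEmbed.mem_normalizer_of_conj S₀ g hn
  have hinv : ∀ s ∈ S₀, g⁻¹ * s * g ∈ S₀ := by
    intro s hs
    have h1 := (Subgroup.mem_normalizer_iff.mp hN' (g⁻¹ * s * g)).mpr
    apply h1
    have : g * (g⁻¹ * s * g) * g⁻¹ = s := by group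
    rwa [this]
  -- the involution is fixed
  have hz : g * zE = zE * g := by
    have hxS : g * zE * g⁻¹ ∈ S₀ := hn _ zE_memS
    have hc : ∀ i, i < 5 → g * zE * g⁻¹ * El (yC (2 + i)) = El (yC (2 + i)) * (g * zE * g⁻¹) := by
      intro i hi
      have h1 := zE_central (hinv _ (gen_memS (i := 2 + i) (by omega)))
      have h2 : g * zE * g⁻¹ * El (yC (2 + i)) = g * (zE * (g⁻¹ * El (yC (2 + i)) * g)) * g⁻¹ := by group
      rw [h2, h1]
      group
    rcases six_cases hxS hc with h | h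
    · exfalso
      apply zE_ne
      have h2 : zE = g⁻¹ * (g * zE * g⁻¹) * g := by group
      rw [h2, h]
      group
    · exact mul_inv_eq_iff_eq_mul.mp h
  obtain ⟨m, hm, hmR⟩ := cent_z0 hg hz
  have hw := wit_all m hm
  simp only [Pwit, letN_eq, Bool.and_eq_true] at hw
  obtain ⟨⟨⟨⟨h1, h2⟩, h3⟩, h4⟩, h5⟩ := hw
  have hx : Nat.land (witL m) 7 < 5 := Nat.le_of_ble_eq_true h1
  have he : Nat.land (Nat.shiftRight (witL m) 3) 127 < 128 := Nat.le_of_ble_eq_true h2
  have ha : Nat.land (Nat.shiftRight (witL m) 10) 3 < 3 := Nat.le_of_ble_eq_true h3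
  have hb : Nat.land (Nat.shiftRight (witL m) 12) 3 < 3 := Nat.le_of_ble_eq_true h4
  have h6 := Nat.eq_of_beq_eq_true h5
  generalize Nat.land (witL m) 7 = x at hx h6
  generalize Nat.land (Nat.shiftRight (witL m) 3) 127 = e at he h6
  generalize Nat.land (Nat.shiftRight (witL m) 10) 3 = a at ha h6
  generalize Nat.land (Nat.shiftRight (witL m) 12) 3 = b at hb h6
  have hk : Nat.add (Nat.mul a 3) b < 9 := by
    show a * 3 + b < 9
    omega
  generalize Nat.add (Nat.mul a 3) b = k at hk h6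
  set N : Subgroup GK := closure ((S₀ : Set GK) ∪ {w₀} ∪ ((center ↥G3).map G3.subtype : Subgroup GK)) with hNdef
  have hwN : El wC ∈ N := subset_closure (Or.inl (Or.inr rfl))
  have hzN : El zetaC ∈ N := subset_closure (Or.inr zeta_mem_map)
  have hSN : ∀ s ∈ S₀, s ∈ N := fun s hs => subset_closure (Or.inl (Or.inl hs))
  obtain ⟨vk, mk'⟩ := wz_spec N hwN hzN hk
  have hgE : g = El (VC x) * (El (Sv e) * El (wz k)) := by
    rw [← El_mul (Val_Sv he) vk, ← El_mul (Val_V hx) (Val_mul (Val_Sv he) vk), ← h6]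
    exact (El_eq hmR hg).symm
  -- the normalizer
  have hwNorm : El wC ∈ Subgroup.normalizer (S₀ : Set GK) :=
    Cfsg.Agent.Lib.FusionEmbed.mem_normalizer_of_conj S₀ _ w_conj
  have hzNorm : El zetaC ∈ Subgroup.normalizer (S₀ : Set GK) := by
    apply Cfsg.Agent.Lib.FusionEmbed.mem_normalizer_of_conj S₀
    intro s hs
    rw [El_zeta]
    have h7 := mem_center_iff.mp sG_mem_center ⟨s, S_le_G3 hs⟩
    have h8 : s * sE = sE * s := congrArg Subtype.val h7
    rw [← h8, mul_inv_cancel_right]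
    exact hs
  obtain ⟨-, mk2⟩ := wz_spec _ hwNorm hzNorm hk
  have hsNorm : El (Sv e) ∈ Subgroup.normalizer (S₀ : Set GK) :=
    Subgroup.le_normalizer (Sv_memS he)
  have hVNorm : El (VC x) ∈ Subgroup.normalizer (S₀ : Set GK) := by
    have h7 : El (VC x) = g * (El (wz k))⁻¹ * (El (Sv e))⁻¹ := by
      rw [hgE]
      group
    rw [h7]
    exact Subgroup.mul_mem _ (Subgroup.mul_mem _ hN' (Subgroup.inv_mem _ mk2)) (Subgroup.inv_mem _ hsNorm)
  have hx0 : x = 0 := by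
    by_contra hx0
    obtain ⟨x', rfl⟩ : ∃ x', x = x' + 1 := ⟨x - 1, by omega⟩
    have hx' : x' < 4 := by omega
    obtain ⟨n1, n2, n3⟩ := nn_chk ⟨x', hx'⟩
    have hVR := El_R (Val_V hx)
    have hVi : R (El (VC (x' + 1)))⁻¹ (ViC (x' + 1)) := by
      have h8 := R_cancel hVR (y := 1) (by
        rw [show mulC (VC (x' + 1)) (ViC (x' + 1)) = oneC from n1]
        exact R_one)
      rwa [mul_one] at h8
    have hconj := (Subgroup.mem_normalizer_iff.mp hVNorm (El (yC 0))).mp (gen_memS (by norm_num))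
    obtain ⟨e', he', hee⟩ := S_eq hconj
    have hR1 := R_mul (R_mul hVR (El_R (Val_y (i := 0) (by norm_num)))) hVi
    have hR2 := El_R (Val_Sv he')
    rw [← hee] at hR2
    have h9 := R_fun (mulC_lt _ _) (tb_lt _ _) hR1 hR2
    have h10 := of_guard (k := 7) (by norm_num) n3 e' he'
    simp only [Pnn] at h10
    have h11 : mulC (mulC (VC (x' + 1)) (yC 0)) (ViC (x' + 1)) = Sv e' := h9
    rw [show mulC (mulC (VC (↑x' + 1)) (yC 0)) (ViC (↑x' + 1)) = Sv e' from h11] at h10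
    simp at h10
  subst hx0
  rw [hgE, V0_eq, El_one, one_mul]
  exact N.mul_mem (hSN _ (Sv_memS he)) mk'

/-- The main theorem. -/
theorem main {G : Type*} [Group G] [Finite G] (e : G ≃* J3 K4 K4.w) (S : Sylow 2 G) :
    (Cfsg.groupFusionSystem (S : Subgroup G)).IsSimple 2 := by
  have hrange : (G3.subtype).range = G3 := Subgroup.range_subtype _
  have hcardG : Nat.card G = 2 ^ 7 * 392445 := by
    rw [Nat.card_congr e.toEquiv, card_quot]
    norm_num
  refine Cfsg.Agent.Lib.FusionCover.isSimple_of_cover 2 G3.subtype Subtype.val_injective e S₀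
    (by rw [hrange]; exact S_le_G3) 7 392445 card_S hcardG (by norm_num) (by rw [card_center]; norm_num) ?_ ?_
    w₀ (by rw [hrange]; exact w_mem) w_conj R₀ R_le_S ?_ {El u1C, El u2C} ?_ ?_ ?_ ?_ S
  · intro hb
    have h1 := card_S
    rw [hb] at h1
    simp at h1
  · rw [hrange]
    exact closed_dichotomy
  · rw [hrange]
    exact fun c hc hcomm => hRc' hc hcomm
  · rw [hrange]
    rintro _ (rfl | rfl)
    · exact El_mem Val_u1
    · exact El_mem Val_u2
  · rintro _ (rfl | rfl)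
    · exact ⟨u_conj Val_u1 u1_chk, 1, u_sq Val_u1 uu_chk.2.1⟩
    · exact ⟨u_conj Val_u2 u2_chk, 1, u_sq Val_u2 uu_chk.2.2⟩
  · rw [w_eq]
    exact Subgroup.mul_mem _ (subset_closure (Or.inl rfl)) (subset_closure (Or.inr rfl))
  · rw [hrange]
    exact fun g hg hn => norm_closure hg hn

end Cfsg.Agent.Lib.J3Fus
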