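import Mathlib

/-!
# A simplicity criterion by one element of prime order

`normal_eq_top_or_le_center`: `g` of prime order `p`, `p² ∤ |G|`, normal closure of `g` everything,
and `p ∤ r^i - 1` for each prime power `r^i ∣ |G|` with `r ≠ p`, `i ≥ 1`.
Then every normal subgroup is `⊤` or central.
`isSimpleGroup_quotient_center`: hence `G/Z(G)` is simple when `G` is not abelian.
-/

set_option autoImplicit false
set_option linter.style.haveILetI false

namespace Cfsg.Agent.Lib.SimpleCrit

open Subgroup

section
variable {G : Type*} [Group G]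

/-- the subgroup of fixed points of an automorphism -/
def fixSub {N : Type*} [Group N] (c : MulAut N) : Subgroup N where
  carrier := {x | c x = x}
  mul_mem' := by
    intro a b ha hb
    simp only [Set.mem_ofPred_eq] at *
    rw [map_mul, ha, hb]
  one_mem' := by simp
  inv_mem' := by
    intro a ha
    simp only [Set.mem_ofPred_eq] at *
    rw [map_inv, ha]

theorem card_fixedPoints_modEq {α : Type*} [Finite α] {p : ℕ} [Fact p.Prime]
    (f : Function.End α) (hf : f ^ p = 1) :
    Nat.card α ≡ Nat.card f.fixedPoints [MOD p] := by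
  classical
  haveI := Fintype.ofFinite α
  have h := Equiv.Perm.card_fixedPoints_modEq (α := α) (f := f) (p := p) (n := 1)
    (by simpa using hf)
  rw [Nat.card_eq_fintype_card, Nat.card_eq_fintype_card]
  convert h

/-- Coprime automorphism of prime order with the arithmetic condition fixes everything. -/
theorem fixSub_eq_top {N : Type*} [Group N] [Finite N] {p : ℕ} [Fact p.Prime] (c : MulAut N)
    (hc : c ^ p = 1) (hcop : ¬ p ∣ Nat.card N)
    (hr : ∀ r, r.Prime → r ≠ p → ∀ i, 1 ≤ i → r ^ i ∣ Nat.card N → ¬ p ∣ r ^ i - 1) :
    fixSub c = ⊤ := by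
  classical
  have hp : p.Prime := Fact.out
  have key : ∀ r, r.Prime → Nat.card N ∣ Nat.card (fixSub c) ∨ ¬ r ∣ Nat.card N ∨
      r ^ (Nat.card N).factorization r ∣ Nat.card (fixSub c) := by
    intro r hrp
    by_cases hrN : r ∣ Nat.card N
    · right; right
      have hrne : r ≠ p := by
        rintro rfl
        exact hcop hrN
      haveI : Fact r.Prime := ⟨hrp⟩
      -- invariant Sylow
      let f : Function.End (Sylow r N) := fun S => c • S
      have hfpow : ∀ n : ℕ, ∀ S, (f ^ n) S = (c ^ n) • S := by
        intro n
        induction n with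
        | zero => intro S; rw [pow_zero, pow_zero, one_smul]; rfl
        | succ n ih =>
          intro S
          rw [pow_succ, Function.End.mul_def]
          show (f ^ n) (f S) = _
          rw [ih]
          show (c ^ n) • (c • S) = _
          rw [pow_succ, mul_smul]
      have hf : f ^ p = 1 := by
        funext S
        rw [hfpow, hc, one_smul]
        rfl
      have h1 := card_fixedPoints_modEq (p := p) f hf
      have h2 : Nat.card (Sylow r N) ∣ Nat.card N := by
        obtain ⟨S⟩ : Nonempty (Sylow r N) := inferInstance
        exact (S.card_dvd_index).trans (Subgroup.index_dvd_card _)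
      have h3 : ¬ p ∣ Nat.card (Sylow r N) := fun h => hcop (h.trans h2)
      have h4 : Nat.card f.fixedPoints ≠ 0 := by
        intro h0
        rw [h0] at h1
        exact h3 ((Nat.modEq_zero_iff_dvd).1 h1)
      have h5 : Nonempty f.fixedPoints := by
        have : Nat.card f.fixedPoints ≠ 0 := h4
        by_contra hne
        rw [not_nonempty_iff] at hne
        exact this (Nat.card_of_isEmpty)
      obtain ⟨⟨S, hS⟩⟩ := h5
      have hS' : c • S = S := hS
      -- c maps S to S
      have hinv : ∀ x : N, x ∈ (S : Subgroup N) → c x ∈ (S : Subgroup N) := by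
        intro x hx
        have : c x ∈ ((c • S : Sylow r N) : Subgroup N) := by
          rw [Sylow.pointwise_smul_def]
          exact Subgroup.smul_mem_pointwise_smul _ _ _ hx
        rwa [hS'] at this
      let g : Function.End (S : Subgroup N) := fun x => ⟨c x, hinv x x.2⟩
      have hgpow : ∀ n : ℕ, ∀ x : (S : Subgroup N), (((g ^ n) x : (S : Subgroup N)) : N) = (c ^ n) x := by
        intro n
        induction n with
        | zero => intro x; rw [pow_zero, pow_zero]; rfl
        | succ n ih =>
          intro x
          rw [pow_succ, Function.End.mul_def]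
          show (((g ^ n) (g x) : (S : Subgroup N)) : N) = _
          rw [ih, pow_succ]
          rfl
      have hg : g ^ p = 1 := by
        funext x
        apply Subtype.ext
        rw [hgpow, hc]
        rfl
      have h6 := card_fixedPoints_modEq (p := p) g hg
      -- fixed points as a subgroup
      let F : Subgroup (S : Subgroup N) := (fixSub c).subgroupOf (S : Subgroup N)
      have hFg : Nat.card g.fixedPoints = Nat.card F := by
        apply Nat.card_congr
        refine Equiv.subtypeEquivRight ?_
        intro x
        show g x = x ↔ _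
        constructor
        · intro h
          show c x = x
          exact congrArg Subtype.val h
        · intro h
          apply Subtype.ext
          exact h
      rw [hFg] at h6
      have hSp : IsPGroup r (S : Subgroup N) := S.isPGroup'
      obtain ⟨k, hk⟩ := IsPGroup.iff_card.1 hSp
      have hFp : IsPGroup r F := hSp.to_subgroup F
      obtain ⟨j, hj⟩ := IsPGroup.iff_card.1 hFp
      have hFdvd : Nat.card F ∣ Nat.card (S : Subgroup N) := Subgroup.card_subgroup_dvd_card F
      have hjk : j ≤ k := by
        rw [hk, hj] at hFdvd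
        exact (Nat.pow_dvd_pow_iff_le_right hrp.one_lt).1 hFdvd
      have hjk' : j = k := by
        by_contra hne
        have hlt : j < k := lt_of_le_of_ne hjk hne
        have h7 : p ∣ r ^ (k - j) - 1 := by
          rw [hk, hj] at h6
          have h8 : p ∣ r ^ k - r ^ j := (Nat.modEq_iff_dvd' (Nat.pow_le_pow_right hrp.pos hjk)).1 h6.symm
          have h9 : r ^ k - r ^ j = r ^ j * (r ^ (k - j) - 1) := by
            rw [Nat.mul_sub, mul_one, ← pow_add]
            congr 2
            omega
          rw [h9] at h8
          rcases (Nat.Prime.dvd_mul hp).1 h8 with h10 | h10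
          · exact absurd ((Nat.prime_dvd_prime_iff_eq hp hrp).1 (hp.dvd_of_dvd_pow h10)) (Ne.symm hrne)
          · exact h10
        have h11 : r ^ (k - j) ∣ Nat.card N := by
          have : r ^ k ∣ Nat.card N := by
            rw [← hk]
            exact Subgroup.card_subgroup_dvd_card _
          exact (pow_dvd_pow r (Nat.sub_le k j)).trans this
        exact hr r hrp hrne (k - j) (by omega) h11 h7
      have hFS : Nat.card F = Nat.card (S : Subgroup N) := by rw [hk, hj, hjk']
      have hFtop : F = ⊤ := by
        exact Subgroup.eq_top_of_card_eq F hFS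
      have hSle : (S : Subgroup N) ≤ fixSub c := by
        exact Subgroup.subgroupOf_eq_top.1 hFtop
      have hScard : Nat.card (S : Subgroup N) = r ^ (Nat.card N).factorization r := S.card_eq_multiplicity
      rw [← hScard]
      exact Subgroup.card_dvd_of_le hSle
    · right; left; exact hrN
  have hdvd : Nat.card N ∣ Nat.card (fixSub c) := by
    have hN0 : Nat.card N ≠ 0 := Nat.card_pos.ne'
    have hC0 : Nat.card (fixSub c) ≠ 0 := Nat.card_pos.ne'
    rw [← Nat.factorization_le_iff_dvd hN0 hC0]
    intro r
    by_cases hrp : r.Prime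
    · rcases key r hrp with h | h | h
      · exact (Nat.factorization_le_iff_dvd hN0 hC0).2 h r
      · rw [Nat.factorization_eq_zero_of_not_dvd h]
        exact Nat.zero_le _
      · exact (hrp.pow_dvd_iff_le_factorization hC0).1 h
    · rw [Nat.factorization_eq_zero_of_not_prime _ hrp]
      exact Nat.zero_le _
  exact Subgroup.eq_top_of_card_eq _
    (Nat.le_antisymm (Subgroup.card_le_card_group _) (Nat.le_of_dvd Nat.card_pos hdvd))

/-- Main criterion. -/
theorem normal_eq_top_or_le_center [Finite G] {p : ℕ} [Fact p.Prime] (g : G) (hg : orderOf g = p)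
    (hp2 : ¬ p ^ 2 ∣ Nat.card G)
    (hcl : normalClosure {g} = ⊤)
    (hr : ∀ r, r.Prime → r ≠ p → ∀ i, 1 ≤ i → r ^ i ∣ Nat.card G → ¬ p ∣ r ^ i - 1)
    (N : Subgroup G) [hN : N.Normal] : N = ⊤ ∨ N ≤ center G := by
  classical
  have hp : p.Prime := Fact.out
  by_cases hpN : p ∣ Nat.card N
  · left
    obtain ⟨x, hx⟩ := exists_prime_orderOf_dvd_card' p hpN
    have hxG : orderOf (x : G) = p := by
      rw [Subgroup.orderOf_coe]; exact hx
    -- the two cyclic groups of order p are Sylow
    have hcardv : (Nat.card G).factorization p ≤ 1 := by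
      by_contra hh
      push Not at hh
      exact hp2 ((hp.pow_dvd_iff_le_factorization Nat.card_pos.ne').2 hh)
    have hpG : p ∣ Nat.card G := by
      rw [← hg]; exact orderOf_dvd_natCard g
    have hSyl : ∀ y : G, orderOf y = p → ∃ S : Sylow p G, (S : Subgroup G) = zpowers y := by
      intro y hy
      have hpg : IsPGroup p (zpowers y) := by
        rw [IsPGroup.iff_card, Nat.card_zpowers, hy]
        exact ⟨1, (pow_one p).symm⟩
      obtain ⟨S, hS⟩ := hpg.exists_le_sylow
      refine ⟨S, ?_⟩
      symm
      apply Subgroup.eq_of_le_of_card_ge hS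
      have h1 : Nat.card (S : Subgroup G) = p ^ (Nat.card G).factorization p := S.card_eq_multiplicity
      rw [h1, Nat.card_zpowers, hy]
      calc p ^ (Nat.card G).factorization p ≤ p ^ 1 := Nat.pow_le_pow_right hp.pos hcardv
        _ = p := pow_one p
    obtain ⟨S, hS⟩ := hSyl g hg
    obtain ⟨T, hT⟩ := hSyl x hxG
    obtain ⟨h, hh⟩ := MulAction.exists_smul_eq G S T
    have hmem : (x : G) ∈ (T : Subgroup G) := by rw [hT]; exact mem_zpowers _
    have hgN : g ∈ N := by
      -- g is in S, so h g h⁻¹ in T = ⟨x⟩ ≤ N
      have h1 : h * g * h⁻¹ ∈ (T : Subgroup G) := by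
        rw [← hh, Sylow.smul_def, Sylow.pointwise_smul_def]
        have h0 : g ∈ (S : Subgroup G) := by rw [hS]; exact mem_zpowers _
        exact Subgroup.smul_mem_pointwise_smul _ (MulAut.conj h) _ h0
      have h2 : (T : Subgroup G) ≤ N := by
        rw [hT, zpowers_le]; exact x.2
      have h3 := h2 h1
      have h4 := hN.conj_mem _ h3 h⁻¹
      simpa [mul_assoc] using h4
    apply top_le_iff.1
    rw [← hcl]
    exact normalClosure_le_normal (by simpa using hgN)
  · right
    -- conjugation by g on N
    let c : MulAut N := MulAut.conjNormal g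
    have hc : c ^ p = 1 := by
      have : MulAut.conjNormal (g ^ p) = c ^ p := map_pow _ _ _
      rw [← this, ← hg, pow_orderOf_eq_one, map_one]
    have hNr : ∀ r, r.Prime → r ≠ p → ∀ i, 1 ≤ i → r ^ i ∣ Nat.card N → ¬ p ∣ r ^ i - 1 := by
      intro r h1 h2 i h3 h4
      exact hr r h1 h2 i h3 (h4.trans (Subgroup.card_subgroup_dvd_card N))
    have htop := fixSub_eq_top c hc hpN hNr
    have hgc : g ∈ centralizer (N : Set G) := by
      rw [mem_centralizer_iff]
      intro n hn
      have h1 : (⟨n, hn⟩ : N) ∈ fixSub c := by rw [htop]; trivial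
      have h2 : c ⟨n, hn⟩ = ⟨n, hn⟩ := h1
      have h3 : g * n * g⁻¹ = n := by
        have := congrArg Subtype.val h2
        simpa [c, MulAut.conjNormal_apply] using this
      calc n * g = (g * n * g⁻¹) * g := by rw [h3]
        _ = g * n := by group
    have hnorm : (centralizer (N : Set G)).Normal := inferInstance
    have hcen : centralizer (N : Set G) = ⊤ := by
      apply top_le_iff.1
      rw [← hcl]
      exact normalClosure_le_normal (by simpa using hgc)
    intro n hn
    rw [mem_center_iff]
    intro y
    have hy : y ∈ centralizer (N : Set G) := by rw [hcen]; trivial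
    rw [mem_centralizer_iff] at hy
    exact (hy n hn).symm

/-- If every normal subgroup is `⊤` or central and `G` is not abelian then `G/Z(G)` is simple. -/
theorem isSimpleGroup_quotient_center (hne : center G ≠ ⊤)
    (h : ∀ N : Subgroup G, N.Normal → N = ⊤ ∨ N ≤ center G) :
    IsSimpleGroup (G ⧸ center G) := by
  haveI : Nontrivial (G ⧸ center G) := by
    rw [QuotientGroup.nontrivial_iff]
    exact hne
  refine ⟨?_⟩
  intro M hM
  have h1 : (M.comap (QuotientGroup.mk' (center G))).Normal := hM.comap _
  rcases h _ h1 with h2 | h2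
  · right
    rw [eq_top_iff]
    intro x _
    obtain ⟨y, rfl⟩ := QuotientGroup.mk'_surjective _ x
    have : y ∈ M.comap (QuotientGroup.mk' (center G)) := by rw [h2]; trivial
    exact this
  · left
    rw [eq_bot_iff]
    intro x hx
    obtain ⟨y, rfl⟩ := QuotientGroup.mk'_surjective _ x
    have : y ∈ center G := h2 hx
    rw [Subgroup.mem_bot]
    exact (QuotientGroup.eq_one_iff y).2 this

/-- Packaged conclusion. -/
theorem isSimple_of_element [Finite G] {p : ℕ} [Fact p.Prime] (g : G) (hg : orderOf g = p)
    (hne : center G ≠ ⊤)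
    (hp2 : ¬ p ^ 2 ∣ Nat.card G)
    (hcl : normalClosure {g} = ⊤)
    (hr : ∀ r, r.Prime → r ≠ p → ∀ i, 1 ≤ i → r ^ i ∣ Nat.card G → ¬ p ∣ r ^ i - 1) :
    IsSimpleGroup (G ⧸ center G) :=
  isSimpleGroup_quotient_center hne fun N hN => by
    haveI := hN
    exact normal_eq_top_or_le_center g hg hp2 hcl hr N

end

end Cfsg.Agent.Lib.SimpleCrit
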