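import Cfsg.Agent.Lib.J3Chain
import Cfsg.Agent.Lib.SimpleCrit

/-!
# Centre and simplicity for the triple cover of `J₃` over `K4`
-/

set_option autoImplicit false
set_option linter.style.haveILetI false

namespace Cfsg.Agent.Lib.J3Main

open Cfsg.Spor Subgroup Matrix
open Cfsg.Agent.Lib.F4Mat Cfsg.Agent.Lib.ChainCert Cfsg.Agent.Lib.J3Code Cfsg.Agent.Lib.J3Data
  Cfsg.Agent.Lib.J3Check Cfsg.Agent.Lib.J3Chain

abbrev Mat : Type := Matrix F9 F9 K4

theorem exists_A (Z : F9) : ∃ x ∈ G3, (x : Mat) = j3A K4 K4.w Z := by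
  have h : idxA Z < 43 := by have := (idx_bound Z).1; omega
  obtain ⟨x, hx, hr⟩ := gl_in h
  exact ⟨x, hx, by rw [A_eq]; exact hr⟩

theorem exists_D (Z : F9) : ∃ x ∈ G3, (x : Mat) = j3D K4 K4.w Z := by
  have h : idxA Z + 2 < 43 := (idx_bound Z).1
  obtain ⟨x, hx, hr⟩ := gl_in h
  exact ⟨x, hx, by rw [D_eq]; exact hr⟩

theorem commute_of_center {z : ↥G3} (hz : z ∈ center ↥G3) {x : GK} (hx : x ∈ G3) :
    ((z : GK) : Mat) * (x : Mat) = (x : Mat) * ((z : GK) : Mat) := by
  have h := mem_center_iff.1 hz ⟨x, hx⟩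
  have h1 : (x * (z : GK) : GK) = (z : GK) * x := congrArg Subtype.val h
  have h2 := congrArg (fun y : GK => (y : Mat)) h1
  exact h2.symm

theorem chars_sep : ∀ i j : F9, i ≠ j →
    omegaPow K4 K4.w ((1 : ZMod 3) * i.1 + 0 * i.2) ≠ omegaPow K4 K4.w ((1 : ZMod 3) * j.1 + 0 * j.2) ∨
    omegaPow K4 K4.w ((0 : ZMod 3) * i.1 + 1 * i.2) ≠ omegaPow K4 K4.w ((0 : ZMod 3) * j.1 + 1 * j.2) := by
  decide +kernel

theorem zero_of_comm_A (M : Mat) (hM : ∀ Z : F9, M * j3A K4 K4.w Z = j3A K4 K4.w Z * M) (i j : F9)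
    (hij : i ≠ j) : M i j = 0 := by
  have key : ∀ Z : F9, M i j * (omegaPow K4 K4.w (Z.1 * j.1 + Z.2 * j.2) -
      omegaPow K4 K4.w (Z.1 * i.1 + Z.2 * i.2)) = 0 := by
    intro Z
    have h := congrFun (congrFun (hM Z) i) j
    unfold j3A at h
    rw [Matrix.mul_diagonal, Matrix.diagonal_mul] at h
    rw [mul_sub, h, mul_comm (M i j)]
    ring
  rcases chars_sep i j hij with h | h
  · have := key ((1 : ZMod 3), (0 : ZMod 3))
    rcases mul_eq_zero.1 this with h1 | h1
    · exact h1
    · exact absurd (sub_eq_zero.1 h1).symm h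
  · have := key ((0 : ZMod 3), (1 : ZMod 3))
    rcases mul_eq_zero.1 this with h1 | h1
    · exact h1
    · exact absurd (sub_eq_zero.1 h1).symm h

theorem D_col : ∀ Z : F9, j3D K4 K4.w Z Z 0 = 1 ∧ ∀ w : F9, w ≠ Z → j3D K4 K4.w Z w 0 = 0 := by
  decide +kernel

/-- central elements are scalars -/
theorem scalar_of_center {z : ↥G3} (hz : z ∈ center ↥G3) :
    ∀ i j : F9, ((z : GK) : Mat) i j = if i = j then ((z : GK) : Mat) 0 0 else 0 := by
  have hdiag : ∀ i j : F9, i ≠ j → ((z : GK) : Mat) i j = 0 := by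
    apply zero_of_comm_A
    intro Z
    obtain ⟨x, hx, he⟩ := exists_A Z
    rw [← he]
    exact commute_of_center hz hx
  have hd : ∀ Z : F9, ((z : GK) : Mat) Z Z = ((z : GK) : Mat) 0 0 := by
    intro Z
    obtain ⟨x, hx, he⟩ := exists_D Z
    have h := congrFun (congrFun (commute_of_center hz hx) Z) 0
    rw [he, Matrix.mul_apply, Matrix.mul_apply] at h
    rw [Finset.sum_eq_single Z, Finset.sum_eq_single (0 : F9)] at h
    · rw [(D_col Z).1] at h
      simpa using h
    · intro b _ hb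
      rw [hdiag b 0 hb, mul_zero]
    · intro h0; exact absurd (Finset.mem_univ _) h0
    · intro b _ hb
      rw [hdiag Z b (Ne.symm hb), zero_mul]
    · intro h0; exact absurd (Finset.mem_univ _) h0
  intro i j
  by_cases hij : i = j
  · subst hij
    simp [hd]
  · simp [hij, hdiag i j hij]

theorem wC_dec : dec K4.w (kg scalarIdx) = (K4.w : K4) • (1 : Matrix (Fin 9) (Fin 9) K4) := by
  decide +kernel

/-- the scalar -/
theorem exists_scalar : ∃ s ∈ G3, ∀ i j : F9, (s : Mat) i j = if i = j then K4.w else 0 := by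
  have hs : scalarIdx < nK := by decide
  obtain ⟨k, hk, hr⟩ := klevel_main.2.1 _ hs
  refine ⟨k, H_le (KK_le_H hk), fun i j => ?_⟩
  have : (k : Mat) = _ := hr
  rw [this, Matrix.submatrix_apply, wC_dec, Matrix.smul_apply, Matrix.one_apply]
  by_cases h : i = j <;> simp [h, e9.injective.eq_iff]

/-- the scalar -/
noncomputable def sE : GK := exists_scalar.choose
theorem sE_mem : sE ∈ G3 := exists_scalar.choose_spec.1
theorem sE_apply : ∀ i j : F9, (sE : Mat) i j = if i = j then K4.w else 0 :=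
  exists_scalar.choose_spec.2

theorem sE_val : (sE : Mat) = K4.w • (1 : Mat) := by
  ext i j
  rw [sE_apply, Matrix.smul_apply, Matrix.one_apply]
  by_cases h : i = j <;> simp [h]

/-- the scalar in the group -/
noncomputable def sG : ↥G3 := ⟨sE, sE_mem⟩

theorem sG_mem_center : sG ∈ center ↥G3 := by
  rw [mem_center_iff]
  intro y
  apply Subtype.ext
  apply Units.ext
  show ((y : GK) : Mat) * (sE : Mat) = (sE : Mat) * ((y : GK) : Mat)
  rw [sE_val, Matrix.mul_smul, Matrix.smul_mul, mul_one, one_mul]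

/-- the entry map on the centre -/
noncomputable def cenMap (z : center ↥G3) : {c : K4 // c ≠ 0} :=
  ⟨(((z : ↥G3) : GK) : Mat) 0 0, by
    intro h0
    have h1 : (((z : ↥G3) : GK) : Mat) = 0 := by
      ext i j
      rw [scalar_of_center z.2, h0]
      simp
    have h2 : ((z : ↥G3) : GK) * ((z : ↥G3) : GK)⁻¹ = 1 := mul_inv_cancel _
    have h3 := congrArg (fun y : GK => (y : Mat)) h2
    simp only [Units.val_mul, Units.val_one] at h3
    rw [h1, zero_mul] at h3
    exact zero_ne_one h3⟩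

theorem cenMap_bij : Function.Bijective cenMap := by
  constructor
  · intro x y h
    have h1 : (((x : ↥G3) : GK) : Mat) 0 0 = (((y : ↥G3) : GK) : Mat) 0 0 := by
      have := congrArg Subtype.val h
      exact this
    apply Subtype.ext
    apply Subtype.ext
    apply Units.ext
    ext i j
    rw [scalar_of_center x.2, scalar_of_center y.2, h1]
  · rintro ⟨c, hc⟩
    have e1 : ((1 : GK) : Mat) 0 0 = K4.e := rfl
    have e2 : (sE : Mat) 0 0 = K4.w := by rw [sE_apply]; simp
    have e3 : ((sE * sE : GK) : Mat) 0 0 = K4.v := by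
      rw [Units.val_mul, sE_val, Matrix.smul_mul, one_mul, Matrix.smul_apply, Matrix.smul_apply,
        Matrix.one_apply_eq]
      rfl
    cases c with
    | o => exact absurd rfl hc
    | e => exact ⟨⟨1, (center _).one_mem⟩, Subtype.ext (show ((1 : GK) : Mat) 0 0 = K4.e from e1)⟩
    | w => exact ⟨⟨sG, sG_mem_center⟩, Subtype.ext (show (sE : Mat) 0 0 = K4.w from e2)⟩
    | v => exact ⟨⟨sG * sG, (center _).mul_mem sG_mem_center sG_mem_center⟩,
        Subtype.ext (show ((sE * sE : GK) : Mat) 0 0 = K4.v from e3)⟩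

theorem card_nonzero : Nat.card {c : K4 // c ≠ 0} = 3 := by
  rw [Nat.card_eq_fintype_card]
  decide

theorem card_center : Nat.card (center ↥G3) = 3 := by
  rw [Nat.card_congr (Equiv.ofBijective cenMap cenMap_bij), card_nonzero]

theorem card_quot : Nat.card (J3 K4 K4.w) = 50232960 := by
  have h := Subgroup.card_eq_card_quotient_mul_card_subgroup (center ↥G3)
  rw [card_G3, card_center] at h
  have : Nat.card (↥G3 ⧸ center ↥G3) = 50232960 := by omega
  exact this

/-! ### orders and the normal closure -/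

/-- power of a code -/
def powC (a : ℕ) : ℕ → ℕ
  | 0 => oneC
  | n + 1 => mulC (powC a n) a

theorem R_pow {x : GK} {a : ℕ} (hx : R x a) (n : ℕ) : R (x ^ n) (powC a n) := by
  induction n with
  | zero => rw [pow_zero]; exact R_one
  | succ n ih => rw [pow_succ]; exact R_mul ih hx

theorem aE_pow : aE ^ 19 = 1 := by
  have h : powC aC 19 = oneC := by decide +kernel
  have h1 := R_pow aE_R 19
  rw [h] at h1
  exact R_inj h1 R_one

theorem aE_ne : aE ≠ 1 := by
  intro h
  have h1 := aE_R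
  rw [h] at h1
  have h2 : aC = oneC := R_fun (by decide +kernel) (by decide +kernel) h1 R_one
  revert h2
  decide +kernel

theorem orderOf_aE : orderOf aE = 19 := by
  haveI : Fact (Nat.Prime 19) := ⟨by norm_num⟩
  exact orderOf_eq_prime aE_pow aE_ne

/-- the element of order 19 in the group -/
noncomputable def aG : ↥G3 := ⟨aE, aE_mem⟩

theorem orderOf_aG : orderOf aG = 19 := by
  rw [← orderOf_aE]
  exact Subgroup.orderOf_mk aE aE_mem

theorem normalClosure_aG : normalClosure {aG} = ⊤ := by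
  rw [eq_top_iff]
  rintro ⟨x, hx⟩ -
  have h1 : aG ∈ normalClosure ({aG} : Set ↥G3) := subset_normalClosure (Set.mem_singleton _)
  have h2 : (⟨a2E, a2E_mem⟩ : ↥G3) ∈ normalClosure ({aG} : Set ↥G3) := by
    have h3 := (normalClosure_normal (s := ({aG} : Set ↥G3))).conj_mem _ h1 (⟨uE, uE_mem⟩ : ↥G3)⁻¹
    convert h3 using 1
    apply Subtype.ext
    show uE⁻¹ * (aE * uE) = uE⁻¹ * aE * uE⁻¹⁻¹
    simp [mul_assoc]
  rw [G3_eq_H] at hx
  have key : ∀ y ∈ H, ∃ h : y ∈ G3, (⟨y, h⟩ : ↥G3) ∈ normalClosure ({aG} : Set ↥G3) := by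
    intro y hy
    induction hy using closure_induction with
    | mem y hy =>
      obtain ⟨g, hg, rfl⟩ := hy
      have hg' : g < 2 := hg
      interval_cases g
      · exact ⟨by simpa [sxT] using aE_mem, by convert h1 using 1; apply Subtype.ext; simp [sxT, aG]⟩
      · exact ⟨by simpa [sxT] using a2E_mem, by convert h2 using 1; apply Subtype.ext; simp [sxT]⟩
    | one => exact ⟨G3.one_mem, (normalClosure _).one_mem⟩
    | mul u v _ _ hu hv =>
      obtain ⟨h3, h4⟩ := hu
      obtain ⟨h5, h6⟩ := hv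
      exact ⟨G3.mul_mem h3 h5, (normalClosure _).mul_mem h4 h6⟩
    | inv u _ hu =>
      obtain ⟨h3, h4⟩ := hu
      exact ⟨G3.inv_mem h3, (normalClosure _).inv_mem h4⟩
  obtain ⟨_, h⟩ := key x hx
  exact h

theorem arith_hr : ∀ r, r.Prime → r ≠ 19 → ∀ i, 1 ≤ i → r ^ i ∣ 150698880 → ¬ 19 ∣ r ^ i - 1 := by
  intro r hr hr19 i hi hd
  have h0 : r ∣ 150698880 := (dvd_pow_self r (by omega)).trans hd
  have h1 : (150698880 : ℕ) = 2 ^ 7 * 3 ^ 6 * 5 * 17 * 19 := by norm_num
  rw [h1] at h0
  have hcase : r = 2 ∨ r = 3 ∨ r = 5 ∨ r = 17 ∨ r = 19 := by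
    rcases (Nat.Prime.dvd_mul hr).1 h0 with h2 | h2
    · rcases (Nat.Prime.dvd_mul hr).1 h2 with h3 | h3
      · rcases (Nat.Prime.dvd_mul hr).1 h3 with h4 | h4
        · rcases (Nat.Prime.dvd_mul hr).1 h4 with h5 | h5
          · left; exact (Nat.prime_dvd_prime_iff_eq hr (by norm_num)).1 (hr.dvd_of_dvd_pow h5)
          · right; left; exact (Nat.prime_dvd_prime_iff_eq hr (by norm_num)).1 (hr.dvd_of_dvd_pow h5)
        · right; right; left; exact (Nat.prime_dvd_prime_iff_eq hr (by norm_num)).1 h4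
      · right; right; right; left; exact (Nat.prime_dvd_prime_iff_eq hr (by norm_num)).1 h3
    · right; right; right; right; exact (Nat.prime_dvd_prime_iff_eq hr (by norm_num)).1 h2
  rcases hcase with rfl | rfl | rfl | rfl | rfl
  · have hi8 : i < 8 := by
      by_contra h8
      have : 2 ^ 8 ∣ 150698880 := (pow_dvd_pow 2 (by omega)).trans hd
      revert this; norm_num
    interval_cases i <;> norm_num
  · have hi8 : i < 7 := by
      by_contra h8
      have : 3 ^ 7 ∣ 150698880 := (pow_dvd_pow 3 (by omega)).trans hd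
      revert this; norm_num
    interval_cases i <;> norm_num
  · have hi8 : i < 2 := by
      by_contra h8
      have : 5 ^ 2 ∣ 150698880 := (pow_dvd_pow 5 (by omega)).trans hd
      revert this; norm_num
    interval_cases i <;> norm_num
  · have hi8 : i < 2 := by
      by_contra h8
      have : 17 ^ 2 ∣ 150698880 := (pow_dvd_pow 17 (by omega)).trans hd
      revert this; norm_num
    interval_cases i <;> norm_num
  · exact absurd rfl hr19

instance : Fact (Nat.Prime 19) := ⟨by norm_num⟩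

theorem center_ne_top : center ↥G3 ≠ ⊤ := by
  intro h
  have h1 := card_center
  rw [h, Subgroup.card_top, card_G3] at h1
  omega

theorem normal_dichotomy (N : Subgroup ↥G3) [N.Normal] : N = ⊤ ∨ N ≤ center ↥G3 :=
  SimpleCrit.normal_eq_top_or_le_center aG orderOf_aG
    (by rw [card_G3]; norm_num) normalClosure_aG (by rw [card_G3]; exact arith_hr) N

theorem simple_quot : IsSimpleGroup (J3 K4 K4.w) :=
  SimpleCrit.isSimple_of_element aG orderOf_aG center_ne_top
    (by rw [card_G3]; norm_num) normalClosure_aG (by rw [card_G3]; exact arith_hr)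

end Cfsg.Agent.Lib.J3Main
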