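import Mathlib
import Cfsg.Agent.Lib.J3Fus
import Cfsg.Agent.Lib.J3OutData
import Cfsg.Agent.Lib.OutCrit

set_option autoImplicit false
set_option maxRecDepth 100000
set_option linter.style.haveILetI false

/-!
# The outer automorphism group of `J₃` has order two

An automorphism is determined by the images of an element `a` of order 19 and an involution `b`.  Up to inner
automorphisms and the automorphism induced by the Frobenius map (with the conjugation of the index field), `a` is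
fixed.  Then `b` goes to one of the 1377 representatives of the `a`-orbits on the involutions, and the orders of
three words in `a`, `b` leave only `b`.
-/

namespace Cfsg.Agent.Lib.J3Out

open Subgroup Cfsg Cfsg.Spor
open Cfsg.Agent.Lib.F4Mat Cfsg.Agent.Lib.ChainCert Cfsg.Agent.Lib.J3Code Cfsg.Agent.Lib.J3Data
  Cfsg.Agent.Lib.J3Check Cfsg.Agent.Lib.J3Chain Cfsg.Agent.Lib.J3Main Cfsg.Agent.Lib.J3FusData
  Cfsg.Agent.Lib.J3Fus Cfsg.Agent.Lib.J3OutData

/-- The group. -/
abbrev J : Type := J3 K4 K4.w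

theorem ob_all : ∀ i, i < 1377 → Pb i = true := of_guard (k := 11) (by norm_num) b_chk
theorem ocl_all : ∀ k, k < 26163 → J3OutData.Pcl k = true := of_guard (k := 15) (by norm_num) cl_chk
theorem oca_all : ∀ k, k < 26163 → Pca k = true := of_guard (k := 15) (by norm_num) ca_chk
theorem oS_all : ∀ e, e < 128 → PS e = true := of_guard (k := 7) (by norm_num) S_chk
theorem ot_all : ∀ i, i < 1377 → Pt i = true := of_guard (k := 11) (by norm_num) t_chk

/-! ### The elements -/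

theorem Val_a : Val aC := ⟨aE, aE_mem, aE_R⟩

theorem El_a : El aC = aE := El_eq aE_R aE_mem

theorem xC_lt (k : ℕ) : xC k < 2 ^ 162 := by
  unfold xC
  exact Nat.and_lt_two_pow _ (by decide +kernel)

theorem ai_chk : mulC aC aiC = oneC ∧ mulC aiC aC = oneC := by decide +kernel

theorem ai_R : R aE⁻¹ aiC := by
  have h := R_cancel aE_R (y := 1) (b := aiC) (by rw [ai_chk.1]; exact R_one)
  rwa [mul_one] at h

theorem Val_ai : Val aiC := ⟨aE⁻¹, G3.inv_mem aE_mem, ai_R⟩

theorem Val_br {i : ℕ} (hi : i < 1377) : Val (brC i) := by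
  have h := ob_all i hi
  simp only [Pb, Bool.and_eq_true] at h
  obtain ⟨⟨h1, h2⟩, h3⟩ := h
  exact Val_dec (Nat.le_of_ble_eq_true h2) (Nat.le_of_ble_eq_true h3) (Nat.eq_of_beq_eq_true h1)

theorem nxt_eq (k : ℕ) : nxt k = k / 19 * 19 + (k % 19 + 1) % 19 := rfl

theorem nxt_lt {k : ℕ} (hk : k < 26163) : nxt k < 26163 := by
  rw [nxt_eq]
  omega

theorem x_step {k : ℕ} (hk : k < 26163) (hv : Val (xC k)) :
    Val (xC (nxt k)) ∧ El (xC (nxt k)) = aE * El (xC k) * aE⁻¹ := by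
  have h1 : mulC aC (xC k) = mulC (xC (nxt k)) aC := Nat.eq_of_beq_eq_true (oca_all k hk)
  have h2 : R (aE * El (xC k)) (mulC (xC (nxt k)) aC) := by
    rw [← h1]
    exact R_mul aE_R (El_R hv)
  have h3 := R_cancel_right aE_R h2
  have h4 : aE * El (xC k) * aE⁻¹ ∈ G3 := G3.mul_mem (G3.mul_mem aE_mem (El_mem hv)) (G3.inv_mem aE_mem)
  exact ⟨⟨_, h4, h3⟩, El_eq h3 h4⟩

theorem x_form {i : ℕ} (hi : i < 1377) : ∀ j, j < 19 →
    Val (xC (i * 19 + j)) ∧ El (xC (i * 19 + j)) = aE ^ j * El (brC i) * (aE ^ j)⁻¹ := by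
  intro j
  induction j with
  | zero =>
    intro _
    have h : brC i = xC (i * 19 + 0) := rfl
    rw [← h]
    exact ⟨Val_br hi, by simp⟩
  | succ j ih =>
    intro hj
    obtain ⟨h1, h2⟩ := ih (by omega)
    have hk : i * 19 + j < 26163 := by omega
    have hn : nxt (i * 19 + j) = i * 19 + (j + 1) := by
      rw [nxt_eq]
      omega
    obtain ⟨h3, h4⟩ := x_step hk h1
    rw [hn] at h3 h4
    refine ⟨h3, ?_⟩
    rw [h4, h2, pow_succ']
    group

theorem x_dec {k : ℕ} (hk : k < 26163) : ∃ i j, i < 1377 ∧ j < 19 ∧ k = i * 19 + j :=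
  ⟨k / 19, k % 19, by omega, by omega, by omega⟩

theorem Val_x {k : ℕ} (hk : k < 26163) : Val (xC k) := by
  obtain ⟨i, j, hi, hj, rfl⟩ := x_dec hk
  exact (x_form hi j hj).1

theorem br0 : brC 0 = bC := by decide +kernel

theorem Val_b : Val bC := br0 ▸ Val_br (by norm_num)

/-- The involution. -/
noncomputable def bE : GK := El bC

theorem bE_R : R bE bC := El_R Val_b

theorem bE_mem : bE ∈ G3 := El_mem Val_b

theorem bb_chk : mulC bC bC = oneC := by decide +kernel

theorem bE_sq : bE * bE = 1 := by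
  apply R_inj (a := oneC) _ R_one
  rw [← bb_chk]
  exact R_mul bE_R bE_R

/-- The subgroup generated by `a` and `b`. -/
noncomputable def W : Subgroup GK := closure {aE, bE}

theorem a_mem_W : aE ∈ W := subset_closure (Or.inl rfl)

theorem b_mem_W : bE ∈ W := subset_closure (Or.inr rfl)

theorem W_le_G3 : W ≤ G3 := by
  refine (closure_le _).2 ?_
  rintro _ (rfl | h)
  · exact aE_mem
  · rw [Set.mem_singleton_iff] at h
    rw [h]
    exact bE_mem

theorem lt_W {i : ℕ} (hi : i < 3) : ∃ x ∈ W, R x (ltC i) := by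
  interval_cases i
  · exact ⟨aE, a_mem_W, aE_R⟩
  · exact ⟨bE, b_mem_W, bE_R⟩
  · exact ⟨aE⁻¹, W.inv_mem a_mem_W, ai_R⟩

theorem word_W (w : List ℕ) (hw : ∀ i ∈ w, i < 3) (r : ℕ) (hr : ∃ x ∈ W, R x r) :
    ∃ x ∈ W, R x (w.foldl (fun r i => mulC r (ltC i)) r) := by
  induction w generalizing r with
  | nil => exact hr
  | cons i w ih =>
    rw [List.foldl_cons]
    apply ih (fun j hj => hw j (List.mem_cons_of_mem _ hj))
    obtain ⟨x, hx, hxr⟩ := hr
    obtain ⟨y, hy, hyr⟩ := lt_W (hw i List.mem_cons_self)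
    exact ⟨x * y, W.mul_mem hx hy, R_mul hxr hyr⟩

theorem a2_mem_W : a2E ∈ W := by
  have h : wordX wordA2 = a2C := by decide +kernel
  obtain ⟨x, hx, hr⟩ := word_W wordA2 (by decide) oneC ⟨1, W.one_mem, R_one⟩
  have h2 : R x a2C := h ▸ hr
  rw [R_inj a2E_R h2]
  exact hx

theorem G3_le_W : G3 ≤ W := by
  rw [G3_eq_H]
  refine (closure_le _).2 ?_
  rintro _ ⟨g, hg, rfl⟩
  have hg' : g < 2 := hg
  interval_cases g
  · simpa [sxT] using a_mem_W
  · simpa [sxT] using a2_mem_W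

theorem cl_gen_b {k : ℕ} (hk : k < 26163) :
    bE * El (xC k) * bE⁻¹ = El (xC (piC k)) ∧ piC k < 26163 := by
  have h := ocl_all k hk
  simp only [J3OutData.Pcl, Bool.and_eq_true] at h
  have h1 : mulC bC (xC k) = mulC (xC (piC k)) bC := Nat.eq_of_beq_eq_true h.1
  have hp : piC k < 26163 := Nat.le_of_ble_eq_true h.2
  refine ⟨?_, hp⟩
  have e1 := El_mul Val_b (Val_x hk)
  have e2 := El_mul (Val_x hp) Val_b
  rw [h1] at e1
  have e3 : bE * El (xC k) = El (xC (piC k)) * bE := e1.symm.trans e2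
  rw [e3]
  group

theorem cl_G3 {h : GK} (hh : h ∈ G3) {k : ℕ} (hk : k < 26163) :
    ∃ k', k' < 26163 ∧ h * El (xC k) * h⁻¹ = El (xC k') := by
  have hW := G3_le_W hh
  rw [W, ← mem_toSubmonoid, closure_toSubmonoid_of_finite] at hW
  have key : ∀ y ∈ Submonoid.closure ({aE, bE} : Set GK), ∀ k, k < 26163 →
      ∃ k', k' < 26163 ∧ y * El (xC k) * y⁻¹ = El (xC k') := by
    intro y hy
    induction hy using Submonoid.closure_induction_left with
    | one =>
      intro k hk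
      exact ⟨k, hk, by group⟩
    | mul_left s hs y _ ih =>
      intro k hk
      obtain ⟨k1, hk1, e1⟩ := ih k hk
      rcases hs with rfl | hs
      · refine ⟨nxt k1, nxt_lt hk1, ?_⟩
        rw [(x_step hk1 (Val_x hk1)).2, ← e1]
        group
      · rw [Set.mem_singleton_iff] at hs
        subst hs
        refine ⟨piC k1, (cl_gen_b hk1).2, ?_⟩
        rw [← (cl_gen_b hk1).1, ← e1]
        group
  exact key h hW k hk

/-- Every involution of the triple cover is on the list. -/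
theorem invol_G3 {t : GK} (ht : t ∈ G3) (h2 : t * t = 1) (h1 : t ≠ 1) :
    ∃ k, k < 26163 ∧ t = El (xC k) := by
  haveI : Fact (Nat.Prime 2) := ⟨Nat.prime_two⟩
  have hc : Nat.card (S₀.subgroupOf G3) = 2 ^ 7 := by
    rw [Nat.card_congr (subgroupOfEquivOfLe S_le_G3).toEquiv, card_S]
  have hG : Nat.card ↥G3 = 2 ^ 7 * 1177335 := by
    rw [card_G3]
    norm_num
  obtain ⟨g, hg⟩ := Cfsg.Agent.Lib.OutCrit.exists_conj_mem (S₀.subgroupOf G3) hc hG (by norm_num)
    (t := (⟨t, ht⟩ : ↥G3)) (e := 1) (by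
      apply Subtype.ext
      show t ^ 2 ^ 1 = 1
      rw [pow_one, pow_two, h2])
  have hg' : (g : GK) * t * (g : GK)⁻¹ ∈ S₀ := by
    rw [Subgroup.mem_subgroupOf] at hg
    exact hg
  obtain ⟨e, he, hs⟩ := S_eq hg'
  have hsq : El (Sv e) * El (Sv e) = 1 := by
    rw [← hs]
    calc (g : GK) * t * (g : GK)⁻¹ * ((g : GK) * t * (g : GK)⁻¹) = (g : GK) * (t * t) * (g : GK)⁻¹ := by group
      _ = 1 := by rw [h2]; group
  have hc1 : mulC (Sv e) (Sv e) = oneC := by
    apply R_fun (mulC_lt _ _) oneC_lt (x := 1) _ R_one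
    rw [← hsq]
    exact R_mul (El_R (Val_Sv he)) (El_R (Val_Sv he))
  have hPS := oS_all e he
  simp only [PS, Bool.or_eq_true, Bool.and_eq_true, Bool.not_eq_true', hc1] at hPS
  have hs2 : ∃ k, k < 26163 ∧ (g : GK) * t * (g : GK)⁻¹ = El (xC k) := by
    rcases hPS with (h3 | h3) | h3
    · exfalso
      have h4 : e = 0 := Nat.eq_of_beq_eq_true h3
      rw [h4, Sv_zero, El_one] at hs
      apply h1
      have h5 : t = (g : GK)⁻¹ * ((g : GK) * t * (g : GK)⁻¹) * (g : GK) := by group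
      rw [h5, hs]
      group
    · exact absurd h3 (by decide +kernel)
    · exact ⟨sI e, Nat.le_of_ble_eq_true h3.2, by rw [hs, Nat.eq_of_beq_eq_true h3.1]⟩
  obtain ⟨k, hk, hke⟩ := hs2
  obtain ⟨k', hk', e'⟩ := cl_G3 (G3.inv_mem g.2) hk
  refine ⟨k', hk', ?_⟩
  rw [← e', ← hke]
  group

/-! ### The quotient -/

open Classical in
/-- The image of an element in the quotient. -/
noncomputable def tJ (x : GK) : J := if h : x ∈ G3 then ((⟨x, h⟩ : ↥G3) : J) else 1

theorem tJ_of {x : GK} (h : x ∈ G3) : tJ x = ((⟨x, h⟩ : ↥G3) : J) := dif_pos h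

theorem tJ_mul {x y : GK} (hx : x ∈ G3) (hy : y ∈ G3) : tJ (x * y) = tJ x * tJ y := by
  rw [tJ_of (G3.mul_mem hx hy), tJ_of hx, tJ_of hy]
  rfl

theorem tJ_one : tJ 1 = 1 := by
  rw [tJ_of G3.one_mem]
  rfl

theorem tJ_inv {x : GK} (hx : x ∈ G3) : tJ x⁻¹ = (tJ x)⁻¹ := by
  rw [tJ_of (G3.inv_mem hx), tJ_of hx]
  rfl

theorem tJ_pow {x : GK} (hx : x ∈ G3) (n : ℕ) : tJ (x ^ n) = tJ x ^ n := by
  induction n with
  | zero => rw [pow_zero, pow_zero, tJ_one]
  | succ n ih => rw [pow_succ, pow_succ, tJ_mul (G3.pow_mem hx n) hx, ih]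

theorem tJ_surj (y : J) : ∃ x ∈ G3, y = tJ x := by
  obtain ⟨g, rfl⟩ := QuotientGroup.mk_surjective y
  exact ⟨g.1, g.2, by rw [tJ_of g.2]⟩

theorem tJ_eq_one {x : GK} (hx : x ∈ G3) : tJ x = 1 ↔ (⟨x, hx⟩ : ↥G3) ∈ center ↥G3 := by
  rw [tJ_of hx]
  exact QuotientGroup.eq_one_iff _

theorem center_cases {x : GK} (hx : x ∈ G3) (hc : (⟨x, hx⟩ : ↥G3) ∈ center ↥G3) :
    x = 1 ∨ x = sE ∨ x = sE * sE := by
  have hs := scalar_of_center hc
  have hne : (x : Mat) 0 0 ≠ 0 := (cenMap ⟨⟨x, hx⟩, hc⟩).2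
  have hs' : ∀ i j : F9, (x : Mat) i j = if i = j then (x : Mat) 0 0 else 0 := hs
  rcases hv : (x : Mat) 0 0 with _ | _ | _ | _
  · exact absurd hv hne
  · left
    apply Units.ext
    ext i j
    rw [hs', hv]
    by_cases h : i = j
    · subst h
      simp
      rfl
    · simp [h]
  · right; left
    apply Units.ext
    ext i j
    rw [hs', hv, sE_apply]
  · right; right
    apply Units.ext
    ext i j
    rw [hs', hv, Units.val_mul, sE_val, Matrix.smul_mul, one_mul, Matrix.smul_apply, Matrix.smul_apply,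
      Matrix.one_apply]
    by_cases h : i = j
    · simp [h]
      rfl
    · simp [h]

theorem sE_cube : sE ^ 3 = 1 := by
  have h : powC zetaC 3 = oneC := by decide +kernel
  have h1 := R_pow zeta_R 3
  rw [h] at h1
  exact R_inj h1 R_one

theorem sE_tJ : tJ sE = 1 := (tJ_eq_one sE_mem).2 sG_mem_center

theorem z2_eq : zeta2C = mulC zetaC zetaC := by decide +kernel

theorem nsc_false {x : GK} {c : ℕ} (hx : x ∈ G3) (hc : tJ x = 1) (hR : R x c) (hlt : c < 2 ^ 162) :
    nsc c = false := by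
  rcases center_cases hx ((tJ_eq_one hx).1 hc) with rfl | rfl | rfl
  · rw [R_fun hlt oneC_lt hR R_one]
    decide +kernel
  · rw [R_fun hlt (by decide +kernel) hR zeta_R]
    decide +kernel
  · rw [R_fun hlt (by decide +kernel) hR (z2_eq ▸ R_mul zeta_R zeta_R)]
    decide +kernel

theorem tJ_one_of_nsc {x : GK} {c : ℕ} (hx : x ∈ G3) (hR : R x c) (h : nsc c = false) : tJ x = 1 := by
  have h1 : c = oneC ∨ c = zetaC ∨ c = zeta2C := by
    by_contra hcon
    simp only [not_or] at hcon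
    obtain ⟨h2, h3, h4⟩ := hcon
    have h5 : nsc c = true := by
      simp only [nsc, Bool.and_eq_true, Bool.not_eq_true', Bool.eq_false_iff]
      refine ⟨⟨fun h6 => h2 (Nat.eq_of_beq_eq_true h6), fun h6 => h3 (Nat.eq_of_beq_eq_true h6)⟩,
        fun h6 => h4 (Nat.eq_of_beq_eq_true h6)⟩
    rw [h5] at h
    exact Bool.noConfusion h
  rcases h1 with rfl | rfl | rfl
  · rw [R_inj hR R_one, tJ_one]
  · rw [R_inj hR zeta_R, sE_tJ]
  · rw [R_inj hR (z2_eq ▸ R_mul zeta_R zeta_R), tJ_mul sE_mem sE_mem, sE_tJ, one_mul]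

/-- The element of order 19. -/
noncomputable def aJ : J := tJ aE
/-- The involution. -/
noncomputable def bJ : J := tJ bE
/-- The representatives. -/
noncomputable def Bi (i : ℕ) : J := tJ (El (brC i))

theorem invol_J {y : J} (hy : orderOf y = 2) :
    ∃ i j, i < 1377 ∧ j < 19 ∧ y = aJ ^ j * Bi i * (aJ ^ j)⁻¹ := by
  obtain ⟨g, hg, rfl⟩ := tJ_surj y
  have h2 : tJ g ^ 2 = 1 := by
    rw [← hy]
    exact pow_orderOf_eq_one _
  have h1 : tJ g ≠ 1 := by
    intro h
    rw [h, orderOf_one] at hy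
    exact absurd hy (by norm_num)
  have h3 : tJ (g * g) = 1 := by
    rw [tJ_mul hg hg, ← pow_two, h2]
  have h4 : (g * g) ^ 3 = 1 := by
    rcases center_cases (G3.mul_mem hg hg) ((tJ_eq_one (G3.mul_mem hg hg)).1 h3) with h | h | h
    · rw [h, one_pow]
    · rw [h, sE_cube]
    · rw [h, ← pow_two, ← pow_mul, mul_comm, pow_mul, sE_cube, one_pow]
  have ht : g ^ 3 ∈ G3 := G3.pow_mem hg 3
  have h5 : g ^ 3 * g ^ 3 = 1 := by
    rw [← h4, ← pow_add, ← pow_two, ← pow_mul]
  have h6 : tJ (g ^ 3) = tJ g := by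
    rw [tJ_pow hg, pow_succ, h2, one_mul]
  have h7 : g ^ 3 ≠ 1 := by
    intro h
    rw [h, tJ_one] at h6
    exact h1 h6.symm
  obtain ⟨k, hk, he⟩ := invol_G3 ht h5 h7
  obtain ⟨i, j, hi, hj, rfl⟩ := x_dec hk
  refine ⟨i, j, hi, hj, ?_⟩
  have hbr := El_mem (Val_br hi)
  rw [← h6, he, (x_form hi j hj).2, tJ_mul (G3.mul_mem (G3.pow_mem aE_mem j) hbr) (G3.inv_mem (G3.pow_mem aE_mem j)),
    tJ_mul (G3.pow_mem aE_mem j) hbr, tJ_inv (G3.pow_mem aE_mem j), tJ_pow aE_mem]
  rfl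

theorem ap_eq : ∀ j : Fin 19, apC j = powC aC j := by decide +kernel

theorem ap_R {j : ℕ} (hj : j < 19) : R (aE ^ j) (apC j) := by
  rw [ap_eq ⟨j, hj⟩]
  exact R_pow aE_R j

/-- One test. -/
theorem test_one (ψ : MulAut J) (ha : ψ aJ = aJ) {i : ℕ} (hi : i < 1377) (hb : ψ bJ = Bi i) {m : ℕ} (hm : m < 19)
    (n : ℕ) (h0 : nsc (powC (mulC (apC m) bC) n) = false) : nsc (powC (mulC (apC m) (brC i)) n) = false := by
  have hapm : aE ^ m ∈ G3 := G3.pow_mem aE_mem m
  have hR1 : R ((aE ^ m * bE) ^ n) (powC (mulC (apC m) bC) n) := R_pow (R_mul (ap_R hm) bE_R) n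
  have h1 := tJ_one_of_nsc (G3.pow_mem (G3.mul_mem hapm bE_mem) n) hR1 h0
  rw [tJ_pow (G3.mul_mem hapm bE_mem), tJ_mul hapm bE_mem, tJ_pow aE_mem] at h1
  have h2 := congrArg ψ h1
  simp only [map_pow, map_mul, map_one] at h2
  have ha' : ψ (tJ aE) = tJ aE := ha
  have hb' : ψ (tJ bE) = tJ (El (brC i)) := hb
  rw [ha', hb'] at h2
  have hbr := El_mem (Val_br hi)
  rw [← tJ_pow aE_mem, ← tJ_mul hapm hbr, ← tJ_pow (G3.mul_mem hapm hbr)] at h2
  exact nsc_false (G3.pow_mem (G3.mul_mem hapm hbr) n) h2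
    (R_pow (R_mul (ap_R hm) (El_R (Val_br hi))) n) (by
      cases n with
      | zero => exact oneC_lt
      | succ n => exact mulC_lt _ _)

theorem base_1 : nsc (powC (mulC (apC 1) bC) 3) = false := by decide +kernel
theorem base_3 : nsc (powC (mulC (apC 3) bC) 9) = false := by decide +kernel
theorem base_4 : nsc (powC (mulC (apC 4) bC) 17) = false := by decide +kernel

theorem test_all (ψ : MulAut J) (ha : ψ aJ = aJ) {i : ℕ} (hi : i < 1377) (hb : ψ bJ = Bi i) : i = 0 := by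
  have h := ot_all i hi
  simp only [Pt, Bool.or_eq_true] at h
  rcases h with ((h | h) | h) | h
  · exact Nat.eq_of_beq_eq_true h
  · rw [test_one ψ ha hi hb (by norm_num) 3 base_1] at h
    exact Bool.noConfusion h
  · rw [test_one ψ ha hi hb (by norm_num) 9 base_3] at h
    exact Bool.noConfusion h
  · rw [test_one ψ ha hi hb (by norm_num) 17 base_4] at h
    exact Bool.noConfusion h

theorem gen_J : closure ({aJ, bJ} : Set J) = ⊤ := by
  rw [eq_top_iff]
  intro y _
  obtain ⟨x, hx, rfl⟩ := tJ_surj y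
  have key : ∀ x ∈ W, tJ x ∈ closure ({aJ, bJ} : Set J) := by
    intro x hx
    induction hx using closure_induction with
    | mem x hx =>
      rcases hx with rfl | h
      · exact subset_closure (Or.inl rfl)
      · rw [Set.mem_singleton_iff] at h
        rw [h]
        exact subset_closure (Or.inr rfl)
    | one => rw [tJ_one]; exact Subgroup.one_mem _
    | mul u v hu hv h1 h2 =>
      rw [tJ_mul (W_le_G3 hu) (W_le_G3 hv)]
      exact Subgroup.mul_mem _ h1 h2
    | inv u hu h1 =>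
      rw [tJ_inv (W_le_G3 hu)]
      exact Subgroup.inv_mem _ h1
  exact key x (G3_le_W hx)

theorem bJ_order : orderOf bJ = 2 := by
  haveI : Fact (Nat.Prime 2) := ⟨Nat.prime_two⟩
  apply orderOf_eq_prime
  · show tJ bE ^ 2 = 1
    rw [pow_two, ← tJ_mul bE_mem bE_mem, bE_sq, tJ_one]
  · intro h
    have h1 := nsc_false bE_mem h bE_R (by decide +kernel)
    revert h1
    decide +kernel

/-- Automorphisms fixing `a` are inner. -/
theorem fix_inner (ψ : MulAut J) (h : ψ aJ = aJ) : ψ ∈ Inn J := by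
  have hy : orderOf (ψ bJ) = 2 := by
    rw [MulEquiv.orderOf_eq, bJ_order]
  obtain ⟨i, j, hi, hj, he⟩ := invol_J hy
  set c := aJ ^ j with hc
  have h1 : (MulAut.conj c⁻¹ * ψ) aJ = aJ := by
    show c⁻¹ * ψ aJ * c⁻¹⁻¹ = aJ
    rw [h, hc, inv_inv]
    have : aJ ^ j * aJ = aJ * aJ ^ j := (pow_succ _ _).symm.trans (pow_succ' _ _)
    rw [mul_assoc, ← this, ← mul_assoc, inv_mul_cancel, one_mul]
  have h2 : (MulAut.conj c⁻¹ * ψ) bJ = Bi i := by
    show c⁻¹ * ψ bJ * c⁻¹⁻¹ = Bi i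
    rw [he]
    group
  have h0 := test_all _ h1 hi h2
  subst h0
  have hB : Bi 0 = bJ := by
    show tJ (El (brC 0)) = tJ (El bC)
    rw [br0]
  rw [hB] at h2
  have h3 : MulAut.conj c⁻¹ * ψ = 1 := by
    ext y
    have hy : y ∈ closure ({aJ, bJ} : Set J) := by
      rw [gen_J]
      exact mem_top y
    induction hy using closure_induction with
    | mem y hy =>
      rcases hy with rfl | h'
      · exact h1
      · rw [Set.mem_singleton_iff] at h'
        rw [h']
        exact h2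
    | one => simp
    | mul u v _ _ h4 h5 =>
      simp only [map_mul, MulAut.one_apply] at h4 h5 ⊢
      rw [h4, h5]
    | inv u _ h4 =>
      simp only [map_inv, MulAut.one_apply] at h4 ⊢
      rw [h4]
  have h4 : ψ = MulAut.conj c := by
    have h5 : ψ = (MulAut.conj c⁻¹)⁻¹ * (MulAut.conj c⁻¹ * ψ) := by group
    rw [h5, h3, mul_one, map_inv, inv_inv]
  rw [h4]
  exact ⟨c, rfl⟩

/-! ### The outer automorphism -/

/-- The Frobenius map of `K4`. -/
def frobK : K4 ≃+* K4 where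
  toFun x := x * x
  invFun x := x * x
  left_inv := by intro x; cases x <;> rfl
  right_inv := by intro x; cases x <;> rfl
  map_mul' := by intro x y; cases x <;> cases y <;> rfl
  map_add' := by intro x y; cases x <;> cases y <;> rfl

/-- The conjugation of the index field. -/
def cj : F9 ≃ F9 := Equiv.prodCongr (Equiv.refl _) (Equiv.neg _)

/-- The ring automorphism of the matrices. -/
def matE : Mat ≃+* Mat := frobK.mapMatrix.trans (Matrix.reindexAlgEquiv K4 K4 cj).toRingEquiv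

/-- The automorphism of the general linear group. -/
def αGL : GK ≃* GK := Units.mapEquiv matE.toMulEquiv

theorem αGL_val (x : GK) : ((αGL x : GK) : Mat) = matE (x : Mat) := rfl

theorem cj_cj (z : F9) : cj (cj z) = z := by
  revert z
  decide +kernel

theorem cj_symm (z : F9) : cj.symm z = cj z := by
  rw [Equiv.symm_apply_eq, cj_cj]

theorem matE_apply (M : Mat) (i j : F9) : matE M i j = M (cj i) (cj j) * M (cj i) (cj j) := by
  show frobK (M (cj.symm i) (cj.symm j)) = _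
  rw [cj_symm, cj_symm]
  rfl

/-- The Frobenius map as a function. -/
def fx (x : K4) : K4 := x * x

theorem R_alpha {x : GK} {c c' : ℕ} (hx : R x c)
    (h : ∀ i j : F9, dec K4.w c' (e9 i) (e9 j) = fx (dec K4.w c (e9 (cj i)) (e9 (cj j)))) : R (αGL x) c' := by
  unfold R at *
  rw [αGL_val, hx]
  ext i j
  rw [matE_apply]
  exact (h i j).symm

theorem αGL_invol (x : GK) : αGL (αGL x) = x := by
  apply Units.ext
  rw [αGL_val, αGL_val]
  ext i j
  rw [matE_apply, matE_apply, cj_cj, cj_cj]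
  generalize (x : Mat) i j = c
  cases c <;> rfl

theorem ga_chk : ∀ i : Fin 43, ∀ z w : F9,
    dec K4.w (gaL.getD i 0) (e9 z) (e9 w) = fx (dec K4.w (gl i) (e9 (cj z)) (e9 (cj w))) := by
  decide +kernel

theorem ga_dec : ∀ i : Fin 43, (gaD.getD i (0, 0)).1 < nT ∧ (gaD.getD i (0, 0)).2 < nK ∧
    gaL.getD i 0 = mulC (tg (gaD.getD i (0, 0)).1) (kg (gaD.getD i (0, 0)).2) := by
  decide +kernel

theorem α_mem {x : GK} (hx : x ∈ G3) : αGL x ∈ G3 := by
  induction hx using closure_induction with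
  | mem x hx =>
    have hx' : (x : Mat) ∈ j3Gens K4 K4.w := hx
    obtain ⟨i, hi, he⟩ := gens_of_mem hx'
    have h1 : R x (gl i) := he
    have h2 := R_alpha h1 (ga_chk ⟨i, hi⟩)
    obtain ⟨h3, h4, h5⟩ := ga_dec ⟨i, hi⟩
    have hv := Val_dec h3 h4 h5
    rw [R_inj h2 (El_R hv)]
    exact El_mem hv
  | one => rw [map_one]; exact G3.one_mem
  | mul u v _ _ h1 h2 => rw [map_mul]; exact G3.mul_mem h1 h2
  | inv u _ h1 => rw [map_inv]; exact G3.inv_mem h1

/-- The automorphism of the triple cover. -/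
def αG : ↥G3 ≃* ↥G3 where
  toFun x := ⟨αGL x, α_mem x.2⟩
  invFun x := ⟨αGL x, α_mem x.2⟩
  left_inv x := Subtype.ext (αGL_invol x)
  right_inv x := Subtype.ext (αGL_invol x)
  map_mul' x y := Subtype.ext (map_mul αGL _ _)

/-- The outer automorphism of `J₃`. -/
noncomputable def αJ : MulAut J := Cfsg.Agent.Lib.J3Transport.quotEquiv αG

theorem αJ_tJ {x : GK} (hx : x ∈ G3) : αJ (tJ x) = tJ (αGL x) := by
  rw [tJ_of hx, tJ_of (α_mem hx)]
  rfl

theorem comm_chk : mulC (gl p1) (gl p2) = mulC zetaC (mulC (gl p2) (gl p1)) := by decide +kernel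

theorem zeta_alpha : ∀ i j : F9, dec K4.w zeta2C (e9 i) (e9 j) = fx (dec K4.w zetaC (e9 (cj i)) (e9 (cj j))) := by
  decide +kernel

theorem zeta_ne : zeta2C ≠ zetaC := by decide +kernel

theorem αJ_not_inner : αJ ∉ Inn J := by
  have hp1 : p1 < 43 := by decide
  have hp2 : p2 < 43 := by decide
  have v1 : Val (gl p1) := gl_in hp1
  have v2 : Val (gl p2) := gl_in hp2
  refine Cfsg.Agent.Lib.OutCrit.not_inner_of_comm αG (g₁ := ⟨El (gl p1), El_mem v1⟩) (g₂ := ⟨El (gl p2), El_mem v2⟩)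
    (s := sG) sG_mem_center ?_ ?_ αJ (fun g => rfl)
  · apply Subtype.ext
    show El (gl p1) * El (gl p2) = sE * (El (gl p2) * El (gl p1))
    apply R_inj (a := mulC (gl p1) (gl p2)) (R_mul (El_R v1) (El_R v2))
    rw [comm_chk]
    exact R_mul zeta_R (R_mul (El_R v2) (El_R v1))
  · intro h
    have h1 : αGL sE = sE := congrArg Subtype.val h
    have h2 := R_alpha zeta_R zeta_alpha
    rw [h1] at h2
    exact zeta_ne (R_fun (by decide +kernel) (by decide +kernel) h2 zeta_R)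

theorem a1_alpha : ∀ i j : F9, dec K4.w a1C (e9 i) (e9 j) = fx (dec K4.w aC (e9 (cj i)) (e9 (cj j))) := by
  decide +kernel

theorem a1_R : R (αGL aE) a1C := R_alpha aE_R a1_alpha

theorem a1P_eq : ∀ j : Fin 19, a1P j = powC a1C j := by decide +kernel

theorem c_chk : ∀ k : Fin 19, k.val ≠ 0 → (cL.getD k (0, 0)).1 < nT ∧ (cL.getD k (0, 0)).2 < nK ∧
    ((mulC (cC k) (apC k) = mulC aC (cC k)) ∨ (mulC (cC k) (a1P k) = mulC aC (cC k))) := by
  decide +kernel

theorem hk_all (k : ℕ) (h0 : 0 < k) (hk : k < 19) :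
    (∃ c : J, c * aJ ^ k * c⁻¹ = aJ) ∨ (∃ c : J, c * (αJ aJ) ^ k * c⁻¹ = aJ) := by
  obtain ⟨h1, h2, h3⟩ := c_chk ⟨k, hk⟩ (by show k ≠ 0; omega)
  have hv : Val (cC k) := Val_dec h1 h2 rfl
  have hC := El_mem hv
  rcases h3 with h3 | h3
  · left
    refine ⟨tJ (El (cC k)), ?_⟩
    have h4 : El (cC k) * aE ^ k = aE * El (cC k) := by
      apply R_inj (a := mulC (cC k) (apC k)) (R_mul (El_R hv) (ap_R hk))
      have h3' : mulC (cC k) (apC k) = mulC aC (cC k) := h3
      rw [h3']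
      exact R_mul aE_R (El_R hv)
    have h5 : tJ (El (cC k)) * tJ aE ^ k = tJ aE * tJ (El (cC k)) := by
      rw [← tJ_pow aE_mem, ← tJ_mul hC (G3.pow_mem aE_mem k), h4, tJ_mul aE_mem hC]
    show tJ (El (cC k)) * tJ aE ^ k * (tJ (El (cC k)))⁻¹ = tJ aE
    rw [h5]
    group
  · right
    refine ⟨tJ (El (cC k)), ?_⟩
    have hA := α_mem aE_mem
    have h4 : El (cC k) * (αGL aE) ^ k = aE * El (cC k) := by
      apply R_inj (a := mulC (cC k) (a1P k)) _
      · have h3' : mulC (cC k) (a1P k) = mulC aC (cC k) := h3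
        rw [h3']
        exact R_mul aE_R (El_R hv)
      · rw [a1P_eq ⟨k, hk⟩]
        exact R_mul (El_R hv) (R_pow a1_R k)
    have h5 : tJ (El (cC k)) * (αJ aJ) ^ k = tJ aE * tJ (El (cC k)) := by
      have h6 : αJ aJ = tJ (αGL aE) := αJ_tJ aE_mem
      rw [h6, ← tJ_pow hA, ← tJ_mul hC (G3.pow_mem hA k), h4, tJ_mul aE_mem hC]
    show tJ (El (cC k)) * (αJ aJ) ^ k * (tJ (El (cC k)))⁻¹ = tJ aE
    rw [h5]
    group

theorem aJ_order : orderOf aJ = 19 := by
  haveI : Fact (Nat.Prime 19) := ⟨by norm_num⟩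
  apply orderOf_eq_prime
  · show tJ aE ^ 19 = 1
    rw [← tJ_pow aE_mem, aE_pow, tJ_one]
  · intro h
    have h1 := nsc_false aE_mem h aE_R (by decide +kernel)
    revert h1
    decide +kernel

/-- The outer automorphism group of `J₃` has order two. -/
theorem card_out : Nat.card (Out J) = 2 := by
  haveI : Fact (Nat.Prime 19) := ⟨by norm_num⟩
  exact Cfsg.Agent.Lib.OutCrit.card_out_two_of_fix (p := 19) αJ aJ aJ_order
    (by rw [card_quot]; norm_num) αJ_not_inner (fun k h0 hk => hk_all k h0 hk) fix_inner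

end Cfsg.Agent.Lib.J3Out
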