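import Cfsg.Agent.Lib.J3Main

/-!
Transport from `K4` to any field with four elements, in any universe.
-/

set_option autoImplicit false
set_option linter.style.haveILetI false
set_option linter.unnecessarySeqFocus false

namespace Cfsg.Agent.Lib.J3Transp12

open Cfsg.Spor Subgroup Matrix
open Cfsg.Agent.Lib.F4Mat Cfsg.Agent.Lib.J3Code Cfsg.Agent.Lib.J3Chain Cfsg.Agent.Lib.J3Main

section field

variable {F : Type*} [Field F] (ω : F)

/-- the map from `K4` -/
def fMap : K4 → F
  | K4.o => 0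
  | K4.e => 1
  | K4.w => ω
  | K4.v => ω + 1

variable (h2 : (2 : F) = 0) (hw : ω * ω = ω + 1)

include h2 hw

theorem fMap_add (a b : K4) : fMap ω (a + b) = fMap ω a + fMap ω b := by
  cases a <;> cases b
  · show fMap ω K4.o = fMap ω K4.o + fMap ω K4.o; simp only [fMap] <;> linear_combination (-0 - 0 * ω) * h2
  · show fMap ω K4.e = fMap ω K4.o + fMap ω K4.e; simp only [fMap] <;> linear_combination (-0 - 0 * ω) * h2
  · show fMap ω K4.w = fMap ω K4.o + fMap ω K4.w; simp only [fMap] <;> linear_combination (-0 - 0 * ω) * h2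
  · show fMap ω K4.v = fMap ω K4.o + fMap ω K4.v; simp only [fMap] <;> linear_combination (-0 - 0 * ω) * h2
  · show fMap ω K4.e = fMap ω K4.e + fMap ω K4.o; simp only [fMap] <;> linear_combination (-0 - 0 * ω) * h2
  · show fMap ω K4.o = fMap ω K4.e + fMap ω K4.e; simp only [fMap] <;> linear_combination (-1 - 0 * ω) * h2
  · show fMap ω K4.v = fMap ω K4.e + fMap ω K4.w; simp only [fMap] <;> linear_combination (-0 - 0 * ω) * h2
  · show fMap ω K4.w = fMap ω K4.e + fMap ω K4.v; simp only [fMap] <;> linear_combination (-1 - 0 * ω) * h2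
  · show fMap ω K4.w = fMap ω K4.w + fMap ω K4.o; simp only [fMap] <;> linear_combination (-0 - 0 * ω) * h2
  · show fMap ω K4.v = fMap ω K4.w + fMap ω K4.e; simp only [fMap] <;> linear_combination (-0 - 0 * ω) * h2
  · show fMap ω K4.o = fMap ω K4.w + fMap ω K4.w; simp only [fMap] <;> linear_combination (-0 - 1 * ω) * h2
  · show fMap ω K4.e = fMap ω K4.w + fMap ω K4.v; simp only [fMap] <;> linear_combination (-0 - 1 * ω) * h2
  · show fMap ω K4.v = fMap ω K4.v + fMap ω K4.o; simp only [fMap] <;> linear_combination (-0 - 0 * ω) * h2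
  · show fMap ω K4.w = fMap ω K4.v + fMap ω K4.e; simp only [fMap] <;> linear_combination (-1 - 0 * ω) * h2
  · show fMap ω K4.e = fMap ω K4.v + fMap ω K4.w; simp only [fMap] <;> linear_combination (-0 - 1 * ω) * h2
  · show fMap ω K4.o = fMap ω K4.v + fMap ω K4.v; simp only [fMap] <;> linear_combination (-1 - 1 * ω) * h2

theorem fMap_mul (a b : K4) : fMap ω (a * b) = fMap ω a * fMap ω b := by
  cases a <;> cases b
  · show fMap ω K4.o = fMap ω K4.o * fMap ω K4.o; simp only [fMap] <;> linear_combination (-0 - 0 * ω) * h2 - 0 * hw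
  · show fMap ω K4.o = fMap ω K4.o * fMap ω K4.e; simp only [fMap] <;> linear_combination (-0 - 0 * ω) * h2 - 0 * hw
  · show fMap ω K4.o = fMap ω K4.o * fMap ω K4.w; simp only [fMap] <;> linear_combination (-0 - 0 * ω) * h2 - 0 * hw
  · show fMap ω K4.o = fMap ω K4.o * fMap ω K4.v; simp only [fMap] <;> linear_combination (-0 - 0 * ω) * h2 - 0 * hw
  · show fMap ω K4.o = fMap ω K4.e * fMap ω K4.o; simp only [fMap] <;> linear_combination (-0 - 0 * ω) * h2 - 0 * hw
  · show fMap ω K4.e = fMap ω K4.e * fMap ω K4.e; simp only [fMap] <;> linear_combination (-0 - 0 * ω) * h2 - 0 * hw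
  · show fMap ω K4.w = fMap ω K4.e * fMap ω K4.w; simp only [fMap] <;> linear_combination (-0 - 0 * ω) * h2 - 0 * hw
  · show fMap ω K4.v = fMap ω K4.e * fMap ω K4.v; simp only [fMap] <;> linear_combination (-0 - 0 * ω) * h2 - 0 * hw
  · show fMap ω K4.o = fMap ω K4.w * fMap ω K4.o; simp only [fMap] <;> linear_combination (-0 - 0 * ω) * h2 - 0 * hw
  · show fMap ω K4.w = fMap ω K4.w * fMap ω K4.e; simp only [fMap] <;> linear_combination (-0 - 0 * ω) * h2 - 0 * hw
  · show fMap ω K4.v = fMap ω K4.w * fMap ω K4.w; simp only [fMap] <;> linear_combination (-0 - 0 * ω) * h2 - 1 * hw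
  · show fMap ω K4.e = fMap ω K4.w * fMap ω K4.v; simp only [fMap] <;> linear_combination (-0 - 1 * ω) * h2 - 1 * hw
  · show fMap ω K4.o = fMap ω K4.v * fMap ω K4.o; simp only [fMap] <;> linear_combination (-0 - 0 * ω) * h2 - 0 * hw
  · show fMap ω K4.v = fMap ω K4.v * fMap ω K4.e; simp only [fMap] <;> linear_combination (-0 - 0 * ω) * h2 - 0 * hw
  · show fMap ω K4.e = fMap ω K4.v * fMap ω K4.w; simp only [fMap] <;> linear_combination (-0 - 1 * ω) * h2 - 1 * hw
  · show fMap ω K4.w = fMap ω K4.v * fMap ω K4.v; simp only [fMap] <;> linear_combination (-1 - 1 * ω) * h2 - 1 * hw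

/-- the ring hom from `K4` -/
def fHom : K4 →+* F where
  toFun := fMap ω
  map_one' := rfl
  map_zero' := rfl
  map_add' := fMap_add ω h2 hw
  map_mul' := fMap_mul ω h2 hw

end field

section
variable {F : Type*} [Field F] [Fintype F] (hF : Fintype.card F = 4) (ω : F) (hω : ω ^ 2 + ω + 1 = 0)

include hF in
theorem two_eq : (2 : F) = 0 := by
  have h := card_nsmul_eq_zero (G := F) (x := (1 : F))
  rw [hF] at h
  have h4 : (2 : F) * 2 = 0 := by
    have : (4 : ℕ) • (1 : F) = 2 * 2 := by norm_num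
    rw [← this, h]
  exact (mul_self_eq_zero).1 h4

include hF hω in
theorem w_sq : ω * ω = ω + 1 := by
  have h2 := two_eq hF
  linear_combination hω - (ω + 1) * h2

include hF hω in
theorem fMap_inj : Function.Injective (fMap ω) := by
  have h2 := two_eq hF
  have hw := w_sq hF ω hω
  have h1 : (1 : F) ≠ 0 := one_ne_zero
  have h3 : ω ≠ 0 := by
    rintro rfl
    apply h1
    linear_combination hω
  have h4 : ω ≠ 1 := by
    rintro rfl
    apply h1
    linear_combination hω - h2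
  have h5 : ω + 1 ≠ 0 := by
    intro h
    apply h4
    linear_combination h - h2
  have h6 : ω + 1 ≠ 1 := by
    intro h
    apply h3
    linear_combination h
  have h7 : ω + 1 ≠ ω := by
    intro h
    apply h1
    linear_combination h
  intro a b hab
  cases a <;> cases b <;> first
    | rfl
    | (exfalso; simp only [fMap] at hab; first
        | exact h1 hab.symm | exact h1 hab | exact h3 hab.symm | exact h3 hab
        | exact h4 hab.symm | exact h4 hab | exact h5 hab.symm | exact h5 hab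
        | exact h6 hab.symm | exact h6 hab | exact h7 hab.symm | exact h7 hab)

/-- The isomorphism with `K4`. -/
noncomputable def fEquiv : K4 ≃+* F :=
  RingEquiv.ofBijective (fHom ω (two_eq hF) (w_sq hF ω hω))
    ((Fintype.bijective_iff_injective_and_card _).2 ⟨fMap_inj hF ω hω, by rw [hF]; rfl⟩)

theorem fEquiv_w : fEquiv hF ω hω K4.w = ω := rfl

end

section map

variable {F : Type*} [Field F] (φ : K4 ≃+* F) (ω : F) (hφ : φ K4.w = ω)

include hφ

theorem map_omegaPow (n : ZMod 3) : φ (omegaPow K4 K4.w n) = omegaPow F ω n := by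
  simp [omegaPow, hφ]

theorem map_A (Z : F9) : φ.mapMatrix (j3A K4 K4.w Z) = j3A F ω Z := by
  ext i j
  by_cases h : i = j
  · subst h
    simp [j3A, map_omegaPow φ ω hφ]
  · simp [j3A, Matrix.diagonal_apply_ne _ h]

theorem map_E (Z : F9) : φ.mapMatrix (j3E K4 K4.w Z) = j3E F ω Z := by
  ext i j
  by_cases h : i = j
  · subst h
    simp [j3E, map_omegaPow φ ω hφ]
  · simp [j3E, Matrix.diagonal_apply_ne _ h]

theorem map_Lam (Z z : F9) : φ (j3Lam K4 K4.w Z z) = j3Lam F ω Z z := by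
  unfold j3Lam
  split_ifs <;> simp [hφ]

theorem map_D (Z : F9) : φ.mapMatrix (j3D K4 K4.w Z) = j3D F ω Z := by
  ext i j
  simp only [RingEquiv.mapMatrix_apply, Matrix.map_apply, j3D, Matrix.of_apply]
  split_ifs
  · exact map_Lam φ ω hφ Z j
  · simp

omit hφ in
theorem map_B (Z : F9) : φ.mapMatrix (j3B K4 Z) = j3B F Z := by
  ext i j
  simp only [RingEquiv.mapMatrix_apply, Matrix.map_apply, j3B, Matrix.of_apply]
  split_ifs <;> simp

omit hφ in
theorem map_C (Z : F9) : φ.mapMatrix (j3C K4 Z) = j3C F Z := by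
  ext i j
  simp only [RingEquiv.mapMatrix_apply, Matrix.map_apply, j3C, Matrix.of_apply]
  split_ifs <;> simp

theorem map_gens : φ.mapMatrix '' (j3Gens K4 K4.w) = j3Gens F ω := by
  ext M
  constructor
  · rintro ⟨N, ((((⟨Z, rfl⟩ | ⟨Z, rfl⟩) | ⟨Z, rfl⟩) | ⟨Z, hZ, rfl⟩) | ⟨Z, hZ, rfl⟩), rfl⟩
    · rw [map_A φ ω hφ]; exact Or.inl (Or.inl (Or.inl (Or.inl ⟨Z, rfl⟩)))
    · rw [map_E φ ω hφ]; exact Or.inl (Or.inl (Or.inl (Or.inr ⟨Z, rfl⟩)))
    · rw [map_D φ ω hφ]; exact Or.inl (Or.inl (Or.inr ⟨Z, rfl⟩))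
    · rw [map_B φ]; exact Or.inl (Or.inr ⟨Z, hZ, rfl⟩)
    · rw [map_C φ]; exact Or.inr ⟨Z, hZ, rfl⟩
  · rintro ((((⟨Z, rfl⟩ | ⟨Z, rfl⟩) | ⟨Z, rfl⟩) | ⟨Z, hZ, rfl⟩) | ⟨Z, hZ, rfl⟩)
    · exact ⟨_, Or.inl (Or.inl (Or.inl (Or.inl ⟨Z, rfl⟩))), map_A φ ω hφ Z⟩
    · exact ⟨_, Or.inl (Or.inl (Or.inl (Or.inr ⟨Z, rfl⟩))), map_E φ ω hφ Z⟩
    · exact ⟨_, Or.inl (Or.inl (Or.inr ⟨Z, rfl⟩)), map_D φ ω hφ Z⟩
    · exact ⟨_, Or.inl (Or.inr ⟨Z, hZ, rfl⟩), map_B φ Z⟩
    · exact ⟨_, Or.inr ⟨Z, hZ, rfl⟩, map_C φ Z⟩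

omit hφ in
/-- the induced isomorphism of general linear groups -/
def glEquiv : GL F9 K4 ≃* GL F9 F :=
  Units.mapEquiv φ.mapMatrix.toMulEquiv

omit hφ in
theorem glEquiv_val (x : GL F9 K4) : ((glEquiv φ x : GL F9 F) : Matrix F9 F9 F) = φ.mapMatrix (x : Matrix F9 F9 K4) := rfl

theorem map_threeJ3 : (threeJ3 K4 K4.w).map (glEquiv φ).toMonoidHom = threeJ3 F ω := by
  unfold threeJ3
  rw [MonoidHom.map_closure]
  congr 1
  ext y
  constructor
  · rintro ⟨x, hx, rfl⟩
    show ((glEquiv φ x : GL F9 F) : Matrix F9 F9 F) ∈ j3Gens F ω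
    rw [← map_gens φ ω hφ, glEquiv_val]
    exact ⟨_, hx, rfl⟩
  · intro hy
    have hy' : (y : Matrix F9 F9 F) ∈ j3Gens F ω := hy
    rw [← map_gens φ ω hφ] at hy'
    obtain ⟨N, hN, he⟩ := hy'
    refine ⟨(glEquiv φ).symm y, ?_, (glEquiv φ).apply_symm_apply y⟩
    show (((glEquiv φ).symm y : GL F9 K4) : Matrix F9 F9 K4) ∈ j3Gens K4 K4.w
    have h1 : φ.mapMatrix (((glEquiv φ).symm y : GL F9 K4) : Matrix F9 F9 K4) = φ.mapMatrix N := by
      rw [← glEquiv_val, (glEquiv φ).apply_symm_apply, he]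
    rwa [φ.mapMatrix.injective h1]

/-- the isomorphism of the triple covers -/
noncomputable def coverEquiv : threeJ3 K4 K4.w ≃* threeJ3 F ω :=
  ((glEquiv φ).subgroupMap (threeJ3 K4 K4.w)).trans
    (MulEquiv.subgroupCongr (map_threeJ3 φ ω hφ))

end map

theorem map_center_equiv {A B : Type*} [Group A] [Group B] (e : A ≃* B) :
    (center A).map e.toMonoidHom = center B := by
  ext y
  constructor
  · rintro ⟨x, hx, rfl⟩
    rw [mem_center_iff]
    intro b
    have h := mem_center_iff.1 hx (e.symm b)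
    have h2 := congrArg e h
    simpa using h2
  · intro hy
    refine ⟨e.symm y, ?_, e.apply_symm_apply y⟩
    rw [SetLike.mem_coe, mem_center_iff]
    intro a
    have h := mem_center_iff.1 hy (e a)
    apply e.injective
    simpa using h

/-- the induced isomorphism of the central quotients -/
noncomputable def quotEquiv {A B : Type*} [Group A] [Group B] (e : A ≃* B) :
    A ⧸ center A ≃* B ⧸ center B :=
  QuotientGroup.congr (center A) (center B) e (map_center_equiv e)

end Cfsg.Agent.Lib.J3Transp12
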