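import Mathlib
import Cfsg.Agent.Lib.AbConjD
import Cfsg.Agent.Lib.Replacement

/-!
# Maximal abelian subgroups acting on a critical subgroup (I)

Counting lemmas: an abelian subgroup `A` of largest order of `S`, with a largest intersection with `C` among those
outside `P`, and abelian `A`-sections `Z₁` of `C`.
-/

set_option autoImplicit false

namespace Cfsg.Agent.Lib.J7a

open Cfsg.Agent.Lib.AbConj (comm_sup mem_sup_of_commute)
open Cfsg.Agent.Lib.Replacement (card_sup_mul_card_inf mem_normalizer_of_forall eq_bot_of_le_comm_pgroup)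

open scoped commutatorElement

variable {G : Type*} [Group G] [Finite G] {p : ℕ} [hp : Fact p.Prime]

/-- The centre of `C`. -/
abbrev Zc (C : Subgroup G) : Subgroup G := C ⊓ Subgroup.centralizer (C : Set G)

/-- The context. -/
structure Ctx (p : ℕ) (S P C A : Subgroup G) : Prop where
  hS : IsPGroup p S
  hPS : P ≤ S
  hCP : C ≤ P
  hAS : A ≤ S
  hAc : ∀ a ∈ A, ∀ b ∈ A, a * b = b * a
  hAmax : ∀ B : Subgroup G, B ≤ S → (∀ a ∈ B, ∀ b ∈ B, a * b = b * a) → Nat.card B ≤ Nat.card A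
  hAP : ¬ A ≤ P
  hAC : ∀ B : Subgroup G, B ≤ S → (∀ a ∈ B, ∀ b ∈ B, a * b = b * a) → Nat.card B = Nat.card A → ¬ B ≤ P →
    Nat.card ↥(B ⊓ C) ≤ Nat.card ↥(A ⊓ C)
  hCn : ∀ s ∈ S, ∀ x ∈ C, s * x * s⁻¹ ∈ C
  hC2 : ∀ x ∈ C, ∀ y ∈ C, ⁅x, y⁆ ∈ Zc C
  hPC : ∀ x ∈ P, ∀ y ∈ C, ⁅x, y⁆ ∈ Zc C
  hodd : p ≠ 2

/-- An abelian overgroup of `A ∩ C` in `C`. -/
structure Ok (C A Z₁ : Subgroup G) : Prop where
  hab : ∀ a ∈ Z₁, ∀ b ∈ Z₁, a * b = b * a
  hC : Z₁ ≤ C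
  hW : A ⊓ C ≤ Z₁

/-- The fixed points. -/
def cc (Z₁ B : Subgroup G) : Subgroup G := Z₁ ⊓ Subgroup.centralizer (B : Set G)

/-- Tightness. -/
def Tgt (C A Z₁ B : Subgroup G) : Prop :=
  Nat.card B * Nat.card (cc Z₁ B) = Nat.card A * Nat.card ↥(A ⊓ C)

theorem cc_anti (Z₁ : Subgroup G) {B B' : Subgroup G} (h : B ≤ B') : cc Z₁ B' ≤ cc Z₁ B :=
  inf_le_inf_left _ (Subgroup.centralizer_le h)

theorem mem_cc {Z₁ B : Subgroup G} {t : G} : t ∈ cc Z₁ B ↔ t ∈ Z₁ ∧ ∀ b ∈ B, b * t = t * b := by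
  show t ∈ Z₁ ⊓ Subgroup.centralizer (B : Set G) ↔ _
  rw [Subgroup.mem_inf, Subgroup.mem_centralizer_iff]
  rfl

namespace Ctx

variable {S P C A : Subgroup G} (h : Ctx p S P C A)

include h

theorem Z_comm {z x : G} (hz : z ∈ Zc C) (hx : x ∈ C) : z * x = x * z :=
  ((Subgroup.mem_centralizer_iff.mp hz.2) x hx).symm

theorem CS : C ≤ S := h.hCP.trans h.hPS

theorem nC {a x : G} (ha : a ∈ S) (hx : x ∈ C) : ⁅a, x⁆ ∈ C := by
  rw [commutatorElement_def]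
  exact C.mul_mem (h.hCn a ha x hx) (C.inv_mem hx)

theorem conj_Z {a z : G} (ha : a ∈ S) (hz : z ∈ Zc C) : a * z * a⁻¹ ∈ Zc C := by
  refine ⟨h.hCn a ha z hz.1, Subgroup.mem_centralizer_iff.mpr ?_⟩
  intro y hy
  have hy' : a⁻¹ * y * a ∈ C := by
    have := h.hCn a⁻¹ (S.inv_mem ha) y hy
    simpa using this
  have h1 := h.Z_comm hz hy'
  calc y * (a * z * a⁻¹) = a * ((a⁻¹ * y * a) * z) * a⁻¹ := by group
    _ = a * (z * (a⁻¹ * y * a)) * a⁻¹ := by rw [h1]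
    _ = _ := by group

theorem nZ {a z : G} (ha : a ∈ S) (hz : z ∈ Zc C) : ⁅a, z⁆ ∈ Zc C := by
  rw [commutatorElement_def]
  exact (Zc C).mul_mem (h.conj_Z ha hz) ((Zc C).inv_mem hz)

theorem n_A {a w : G} (ha : a ∈ A) (hw : w ∈ A) : ⁅a, w⁆ = 1 :=
  commutatorElement_eq_one_iff_mul_comm.mpr (h.hAc a ha w hw)

/-- `C_S(A) = A`. -/
theorem mem_of_comm {s : G} (hs : s ∈ S) (hc : ∀ a ∈ A, a * s = s * a) : s ∈ A := by
  have hab : ∀ x ∈ A ⊔ Subgroup.zpowers s, ∀ y ∈ A ⊔ Subgroup.zpowers s, x * y = y * x := by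
    refine comm_sup _ _ h.hAc ?_ ?_
    · intro a ha b hb
      obtain ⟨i, rfl⟩ := Subgroup.mem_zpowers_iff.mp ha
      obtain ⟨j, rfl⟩ := Subgroup.mem_zpowers_iff.mp hb
      exact (Commute.refl s).zpow_zpow i j
    · intro a ha b hb
      obtain ⟨j, rfl⟩ := Subgroup.mem_zpowers_iff.mp hb
      exact (Commute.zpow_right (hc a ha : Commute a s) j)
  have h1 := h.hAmax _ (sup_le h.hAS ((Subgroup.zpowers_le).mpr hs)) hab
  have h2 : A = A ⊔ Subgroup.zpowers s := Subgroup.eq_of_le_of_card_ge le_sup_left h1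
  rw [h2]
  exact (le_sup_right : Subgroup.zpowers s ≤ _) (Subgroup.mem_zpowers s)

variable {Z₁ : Subgroup G}

theorem card_O (hZ : Ok C A Z₁) {B : Subgroup G} (hB : B ≤ A) :
    Nat.card B * Nat.card (cc Z₁ B) ≤ Nat.card A * Nat.card ↥(A ⊓ C) := by
  set T := cc Z₁ B with hT
  have hTZ : T ≤ Z₁ := inf_le_left
  have hBT : ∀ b ∈ B, ∀ t ∈ T, b * t = t * b := fun b hb t ht => (mem_cc.mp ht).2 b hb
  have h1 := card_sup_mul_card_inf B T (by
    intro b hb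
    apply mem_normalizer_of_forall
    intro t ht
    rw [hBT b hb t ht]
    simpa using ht)
  have h3 : Nat.card ↥(B ⊔ T) ≤ Nat.card A := by
    refine h.hAmax _ (sup_le (hB.trans h.hAS) (hTZ.trans (hZ.hC.trans h.CS))) ?_
    exact comm_sup _ _ (fun a ha b hb => h.hAc a (hB ha) b (hB hb))
      (fun a ha b hb => hZ.hab a (hTZ ha) b (hTZ hb)) hBT
  have h4 : Nat.card ↥(B ⊓ T) ≤ Nat.card ↥(A ⊓ C) := by
    apply Subgroup.card_le_of_le
    exact inf_le_inf hB (hTZ.trans hZ.hC)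
  rw [← h1]
  exact Nat.mul_le_mul h3 h4

theorem tight_eq (hZ : Ok C A Z₁) {B : Subgroup G} (hB : B ≤ A) (ht : Tgt C A Z₁ B) (hBP : ¬ B ≤ P) : B = A := by
  set T := cc Z₁ B with hT
  have hTZ : T ≤ Z₁ := inf_le_left
  have hBT : ∀ b ∈ B, ∀ t ∈ T, b * t = t * b := fun b hb t ht => (mem_cc.mp ht).2 b hb
  have h1 := card_sup_mul_card_inf B T (by
    intro b hb
    apply mem_normalizer_of_forall
    intro t ht
    rw [hBT b hb t ht]
    simpa using ht)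
  have hab := comm_sup _ _ (fun a ha b hb => h.hAc a (hB ha) b (hB hb))
      (fun a ha b hb => hZ.hab a (hTZ ha) b (hTZ hb)) hBT
  have hle : B ⊔ T ≤ S := sup_le (hB.trans h.hAS) (hTZ.trans (hZ.hC.trans h.CS))
  have h3 : Nat.card ↥(B ⊔ T) ≤ Nat.card A := h.hAmax _ hle hab
  have h4 : Nat.card ↥(B ⊓ T) ≤ Nat.card ↥(A ⊓ C) := by
    apply Subgroup.card_le_of_le
    exact inf_le_inf hB (hTZ.trans hZ.hC)
  have ht' : Nat.card B * Nat.card T = Nat.card A * Nat.card ↥(A ⊓ C) := ht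
  have hW0 : 0 < Nat.card ↥(A ⊓ C) := Nat.card_pos
  have hA0 : 0 < Nat.card A := Nat.card_pos
  have h5 : Nat.card ↥(B ⊔ T) = Nat.card A := by
    apply le_antisymm h3
    by_contra hlt
    push Not at hlt
    have : Nat.card ↥(B ⊔ T) * Nat.card ↥(B ⊓ T) < Nat.card A * Nat.card ↥(A ⊓ C) :=
      lt_of_lt_of_le (Nat.mul_lt_mul_of_pos_right hlt (Nat.card_pos)) (Nat.mul_le_mul_left _ h4)
    rw [h1, ht'] at this
    exact lt_irrefl _ this
  have h6 : ¬ B ⊔ T ≤ P := fun hc => hBP (le_sup_left.trans hc)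
  have h7 := h.hAC _ hle hab h5 h6
  have h8 : Nat.card T ≤ Nat.card ↥(A ⊓ C) := by
    refine le_trans (Subgroup.card_le_of_le ?_) h7
    exact le_inf le_sup_right (hTZ.trans hZ.hC)
  apply (Subgroup.eq_of_le_of_card_ge hB ?_)
  by_contra hlt
  push Not at hlt
  have : Nat.card B * Nat.card T < Nat.card A * Nat.card ↥(A ⊓ C) :=
    lt_of_le_of_lt (Nat.mul_le_mul_left _ h8) (Nat.mul_lt_mul_of_pos_right hlt hW0)
  rw [ht'] at this
  exact lt_irrefl _ this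

theorem cc_top (hZ : Ok C A Z₁) : cc Z₁ A = A ⊓ C := by
  apply le_antisymm
  · intro t ht
    obtain ⟨h1, h2⟩ := mem_cc.mp ht
    exact ⟨h.mem_of_comm (h.CS (hZ.hC h1)) h2, hZ.hC h1⟩
  · intro t ht
    exact mem_cc.mpr ⟨hZ.hW ht, fun b hb => h.hAc b hb t ht.1⟩

theorem tight_top (hZ : Ok C A Z₁) : Tgt C A Z₁ A := by
  unfold Tgt
  rw [h.cc_top hZ]

theorem tight_inf (hZ : Ok C A Z₁) {B₁ B₂ : Subgroup G} (hB₁ : B₁ ≤ A) (hB₂ : B₂ ≤ A)
    (t₁ : Tgt C A Z₁ B₁) (t₂ : Tgt C A Z₁ B₂) :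
    Tgt C A Z₁ (B₁ ⊓ B₂) ∧ cc Z₁ (B₁ ⊓ B₂) = cc Z₁ B₁ ⊔ cc Z₁ B₂ := by
  show Nat.card ↥(B₁ ⊓ B₂) * Nat.card (cc Z₁ (B₁ ⊓ B₂)) = Nat.card A * Nat.card ↥(A ⊓ C) ∧ _
  set T₁ := cc Z₁ B₁ with hT₁
  set T₂ := cc Z₁ B₂ with hT₂
  have hT₁Z : T₁ ≤ Z₁ := inf_le_left
  have hT₂Z : T₂ ≤ Z₁ := inf_le_left
  have h1 := card_sup_mul_card_inf B₁ B₂ (by
    intro b hb
    apply mem_normalizer_of_forall
    intro t ht
    rw [h.hAc b (hB₁ hb) t (hB₂ ht)]
    simpa using ht)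
  have h2 := card_sup_mul_card_inf T₁ T₂ (by
    intro b hb
    apply mem_normalizer_of_forall
    intro t ht
    rw [hZ.hab b (hT₁Z hb) t (hT₂Z ht)]
    simpa using ht)
  have h3 := h.card_O hZ (sup_le hB₁ hB₂)
  have h4 := h.card_O hZ (inf_le_left.trans hB₁ : B₁ ⊓ B₂ ≤ A)
  have h5 : T₁ ⊓ T₂ ≤ cc Z₁ (B₁ ⊔ B₂) := by
    rintro t ⟨ht₁, ht₂⟩
    refine mem_cc.mpr ⟨hT₁Z ht₁, ?_⟩
    have h6 : B₁ ⊔ B₂ ≤ Subgroup.centralizer ({t} : Set G) := by
      refine sup_le ?_ ?_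
      · intro b hb
        rw [Subgroup.mem_centralizer_iff]
        rintro _ rfl
        exact ((mem_cc.mp ht₁).2 b hb).symm
      · intro b hb
        rw [Subgroup.mem_centralizer_iff]
        rintro _ rfl
        exact ((mem_cc.mp ht₂).2 b hb).symm
    intro b hb
    exact (Subgroup.mem_centralizer_iff.mp (h6 hb) t rfl).symm
  have h6 : T₁ ⊔ T₂ ≤ cc Z₁ (B₁ ⊓ B₂) :=
    sup_le (cc_anti _ inf_le_left) (cc_anti _ inf_le_right)
  have h7 := Subgroup.card_le_of_le h5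
  have h8 := Subgroup.card_le_of_le h6
  have t₁' : Nat.card B₁ * Nat.card T₁ = Nat.card A * Nat.card ↥(A ⊓ C) := t₁
  have t₂' : Nat.card B₂ * Nat.card T₂ = Nat.card A * Nat.card ↥(A ⊓ C) := t₂
  generalize hK : Nat.card A * Nat.card ↥(A ⊓ C) = K at *
  have hK0 : 0 < K := by
    rw [← hK]
    exact Nat.mul_pos Nat.card_pos Nat.card_pos
  have hal : 0 < Nat.card ↥(B₁ ⊓ B₂) := Nat.card_pos
  have hbe : 0 < Nat.card ↥(B₁ ⊔ B₂) := Nat.card_pos
  have hsi : 0 < Nat.card ↥(T₁ ⊓ T₂) := Nat.card_pos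
  generalize Nat.card ↥(B₁ ⊓ B₂) = al at *
  generalize Nat.card ↥(B₁ ⊔ B₂) = be at *
  generalize Nat.card ↥(T₁ ⊓ T₂) = si at *
  have hce := Subgroup.eq_of_le_of_card_ge h6
  generalize Nat.card ↥(T₁ ⊔ T₂) = ta at *
  generalize Nat.card ↥(cc Z₁ (B₁ ⊓ B₂)) = ga at *
  generalize Nat.card ↥(cc Z₁ (B₁ ⊔ B₂)) = si' at *
  generalize Nat.card B₁ = b₁ at *
  generalize Nat.card B₂ = b₂ at *
  generalize Nat.card T₁ = t₁ at *
  generalize Nat.card T₂ = t₂ at *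
  have e1 : (al * ta) * (be * si) = K * K := by
    calc (al * ta) * (be * si) = (be * al) * (ta * si) := by ring
      _ = (b₁ * b₂) * (t₁ * t₂) := by rw [h1, h2]
      _ = (b₁ * t₁) * (b₂ * t₂) := by ring
      _ = K * K := by rw [t₁', t₂']
  have e2 : be * si ≤ K := le_trans (Nat.mul_le_mul_left _ h7) h3
  have e3 : K ≤ al * ta := by
    by_contra hlt
    push Not at hlt
    have : (al * ta) * (be * si) < K * K :=
      lt_of_lt_of_le (Nat.mul_lt_mul_of_pos_right hlt (Nat.mul_pos hbe hsi)) (Nat.mul_le_mul_left _ e2)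
    omega
  have e4 : al * ta ≤ al * ga := Nat.mul_le_mul_left _ h8
  have e5 : al * ga = K := le_antisymm h4 (le_trans e3 e4)
  have e6 : ga ≤ ta := by
    have : al * ga ≤ al * ta := by rw [e5]; exact e3
    exact Nat.le_of_mul_le_mul_left this hal
  exact ⟨e5, (hce e6).symm⟩

end Ctx

/-- The subgroup generated by the commutators. -/
def YY (A : Subgroup G) (u : G) : Subgroup G := Subgroup.closure ((fun a => ⁅a, u⁆) '' (A : Set G))

omit [Finite G] in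
theorem n_mem_YY {A : Subgroup G} {a : G} (u : G) (ha : a ∈ A) : ⁅a, u⁆ ∈ YY A u :=
  Subgroup.subset_closure ⟨a, ha, rfl⟩

omit [Finite G] in
theorem conj_YY {A : Subgroup G} {b : G} (u : G) (hb : b ∈ A) {t : G} (ht : t ∈ YY A u) :
    b * t * b⁻¹ ∈ YY A u := by
  have h1 : YY A u ≤ (YY A u).comap (MulAut.conj b).toMonoidHom := by
    unfold YY
    rw [Subgroup.closure_le]
    rintro _ ⟨d, hd, rfl⟩
    change b * ⁅d, u⁆ * b⁻¹ ∈ YY A u
    have e : b * ⁅d, u⁆ * b⁻¹ = ⁅b * d, u⁆ * ⁅b, u⁆⁻¹ := by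
      simp only [commutatorElement_def]
      group
    rw [e]
    exact (YY A u).mul_mem (n_mem_YY u (A.mul_mem hb hd)) ((YY A u).inv_mem (n_mem_YY u hb))
  exact h1 ht

omit [Finite G] in
theorem le_centralizer_YY {A : Subgroup G} {u c : G} (hc : ∀ d ∈ A, c * ⁅d, u⁆ = ⁅d, u⁆ * c) {y : G}
    (hy : y ∈ YY A u) : c * y = y * c := by
  have h1 : YY A u ≤ Subgroup.centralizer ({c} : Set G) := by
    unfold YY
    rw [Subgroup.closure_le]
    rintro _ ⟨d, hd, rfl⟩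
    rw [SetLike.mem_coe, Subgroup.mem_centralizer_iff]
    rintro _ rfl
    exact hc d hd
  exact Subgroup.mem_centralizer_iff.mp (h1 hy) c rfl

namespace Ctx

variable {S P C A : Subgroup G} (h : Ctx p S P C A) {Z₁ : Subgroup G}

include h

/-- **The orbit lemma.** -/
theorem orbit (hZ : Ok C A Z₁) {u : G} (huZ : ∀ a ∈ A, ⁅a, u⁆ ∈ Z₁) :
    Tgt C A Z₁ (A ⊓ Subgroup.centralizer (YY A u : Set G)) ∧
      cc Z₁ (A ⊓ Subgroup.centralizer (YY A u : Set G)) = YY A u ⊔ (A ⊓ C) ∧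
      ∀ t ∈ YY A u, ∃ a ∈ A, (⁅a, u⁆)⁻¹ * t ∈ A ⊓ C := by
  classical
  set Y := YY A u with hY
  set W := A ⊓ C with hW
  set B := A ⊓ Subgroup.centralizer (Y : Set G) with hB
  set H := Y ⊔ W with hH
  have hBA : B ≤ A := inf_le_left
  have hYZ : Y ≤ Z₁ := by
    rw [hY]
    unfold YY
    rw [Subgroup.closure_le]
    rintro _ ⟨d, hd, rfl⟩
    exact huZ d hd
  have hWH : W ≤ H := le_sup_right
  have hHZ : H ≤ Z₁ := sup_le hYZ hZ.hW
  have hHT : H ≤ cc Z₁ B := by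
    refine sup_le ?_ ?_
    · intro y hy
      refine mem_cc.mpr ⟨hYZ hy, fun b hb => ?_⟩
      exact ((Subgroup.mem_centralizer_iff.mp hb.2) y hy).symm
    · intro w hw
      exact mem_cc.mpr ⟨hZ.hW hw, fun b hb => h.hAc b hb.1 w hw.1⟩
  have hO := h.card_O hZ hBA
  have hinj : ∀ x ∈ A, ∀ x' ∈ A, (⁅x, u⁆)⁻¹ * ⁅x', u⁆ ∈ W → x⁻¹ * x' ∈ B := by
    intro x hx x' hx' hxx
    set c := x⁻¹ * x' with hc
    have hcA : c ∈ A := A.mul_mem (A.inv_mem hx) hx'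
    set w := (⁅x, u⁆)⁻¹ * ⁅x', u⁆ with hw
    have hwW : w ∈ W := hxx
    have e0 : ⁅x', u⁆ = ⁅x, u⁆ * w := by rw [hw]; group
    have e2 : ⁅x, u⁆ * w = w * ⁅x, u⁆ := hZ.hab _ (huZ x hx) _ (hZ.hW hwW)
    have e3 : x⁻¹ * w * x = w := by
      have := h.hAc w hwW.1 x hx
      calc x⁻¹ * w * x = x⁻¹ * (w * x) := by group
        _ = x⁻¹ * (x * w) := by rw [this]
        _ = w := by group
    have e4 : c * u * c⁻¹ = w * u := by
      calc c * u * c⁻¹ = x⁻¹ * (⁅x', u⁆ * u) * x := by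
            rw [hc]; simp only [commutatorElement_def]; group
        _ = x⁻¹ * (w * ⁅x, u⁆ * u) * x := by rw [e0, e2]
        _ = (x⁻¹ * w * x) * u := by simp only [commutatorElement_def]; group
        _ = w * u := by rw [e3]
    refine ⟨hcA, Subgroup.mem_centralizer_iff.mpr ?_⟩
    intro y hy
    refine (le_centralizer_YY ?_ hy).symm
    intro d hd
    have e5 : d * w * d⁻¹ = w := by
      rw [h.hAc d hd w hwW.1]
      group
    have e6 : c * d * c⁻¹ = d := by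
      rw [h.hAc c hcA d hd]
      group
    have e7 : c * ⁅d, u⁆ * c⁻¹ = w * ⁅d, u⁆ * w⁻¹ := by
      calc c * ⁅d, u⁆ * c⁻¹ = (c * d * c⁻¹) * (c * u * c⁻¹) * (c * d * c⁻¹)⁻¹ * (c * u * c⁻¹)⁻¹ := by
            simp only [commutatorElement_def]; group
        _ = d * (w * u) * d⁻¹ * (w * u)⁻¹ := by rw [e4, e6]
        _ = (d * w * d⁻¹) * ⁅d, u⁆ * w⁻¹ := by simp only [commutatorElement_def]; group
        _ = w * ⁅d, u⁆ * w⁻¹ := by rw [e5]
    have e8 : w * ⁅d, u⁆ = ⁅d, u⁆ * w := hZ.hab _ (hZ.hW hwW) _ (huZ d hd)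
    calc c * ⁅d, u⁆ = (c * ⁅d, u⁆ * c⁻¹) * c := by group
      _ = (w * ⁅d, u⁆ * w⁻¹) * c := by rw [e7]
      _ = ⁅d, u⁆ * c := by rw [e8]; group
  -- the map on cosets
  have hfH : ∀ x ∈ A, ⁅x, u⁆ ∈ H := fun x hx => (le_sup_left : Y ≤ H) (n_mem_YY u hx)
  let φ : A ⧸ B.subgroupOf A → H ⧸ W.subgroupOf H := fun q =>
    (QuotientGroup.mk (⟨⁅q.out.1, u⁆, hfH _ q.out.2⟩ : H) : H ⧸ W.subgroupOf H)
  have hφi : Function.Injective φ := by
    intro q q' he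
    rw [QuotientGroup.eq, Subgroup.mem_subgroupOf] at he
    have h' : (⁅q.out.1, u⁆)⁻¹ * ⁅q'.out.1, u⁆ ∈ W := by simpa using he
    have h2 := hinj _ q.out.2 _ q'.out.2 h'
    have h3 : (QuotientGroup.mk q.out : A ⧸ B.subgroupOf A) = QuotientGroup.mk q'.out := by
      rw [QuotientGroup.eq, Subgroup.mem_subgroupOf]
      simpa using h2
    simpa using h3
  have h1 : (B.subgroupOf A).index * Nat.card B = Nat.card A := by
    have := Subgroup.index_mul_card (B.subgroupOf A)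
    rwa [show Nat.card (B.subgroupOf A) = Nat.card B from
      Nat.card_congr (Subgroup.subgroupOfEquivOfLe hBA).toEquiv] at this
  have h2 : (W.subgroupOf H).index * Nat.card W = Nat.card H := by
    have := Subgroup.index_mul_card (W.subgroupOf H)
    rwa [show Nat.card (W.subgroupOf H) = Nat.card W from
      Nat.card_congr (Subgroup.subgroupOfEquivOfLe hWH).toEquiv] at this
  have hi1 : (B.subgroupOf A).index ≤ (W.subgroupOf H).index := by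
    rw [Subgroup.index_eq_card, Subgroup.index_eq_card]
    exact Nat.card_le_card_of_injective φ hφi
  have hB0 : 0 < Nat.card B := Nat.card_pos
  have hW0 : 0 < Nat.card W := Nat.card_pos
  have hHT' : Nat.card H ≤ Nat.card (cc Z₁ B) := Subgroup.card_le_of_le hHT
  have hi2 : (W.subgroupOf H).index ≤ (B.subgroupOf A).index := by
    have h3 : Nat.card B * Nat.card H ≤ Nat.card A * Nat.card W :=
      le_trans (Nat.mul_le_mul_left _ hHT') hO
    rw [← h1, ← h2] at h3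
    have h4 : (W.subgroupOf H).index * (Nat.card B * Nat.card W) ≤
        (B.subgroupOf A).index * (Nat.card B * Nat.card W) := by
      calc _ = Nat.card B * ((W.subgroupOf H).index * Nat.card W) := by ring
        _ ≤ _ := h3
        _ = _ := by ring
    exact Nat.le_of_mul_le_mul_right h4 (Nat.mul_pos hB0 hW0)
  have hie := le_antisymm hi1 hi2
  have hφb : Function.Bijective φ := by
    apply Function.Injective.bijective_of_nat_card_le hφi
    rw [← Subgroup.index_eq_card, ← Subgroup.index_eq_card]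
    exact hi2
  have h5 : Nat.card B * Nat.card H = Nat.card A * Nat.card W := by
    rw [← h1, ← h2, hie]
    ring
  have h6 : Nat.card (cc Z₁ B) ≤ Nat.card H := by
    have : Nat.card B * Nat.card (cc Z₁ B) ≤ Nat.card B * Nat.card H := by
      rw [h5]
      exact hO
    exact Nat.le_of_mul_le_mul_left this hB0
  have h7 : H = cc Z₁ B := Subgroup.eq_of_le_of_card_ge hHT h6
  refine ⟨?_, h7.symm, ?_⟩
  · show Nat.card B * Nat.card (cc Z₁ B) = Nat.card A * Nat.card W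
    rw [← h7, h5]
  · intro t ht
    obtain ⟨q, hq⟩ := hφb.2 (QuotientGroup.mk (⟨t, (le_sup_left : Y ≤ H) ht⟩ : H))
    refine ⟨q.out.1, q.out.2, ?_⟩
    have hq' := QuotientGroup.eq.mp hq
    rw [Subgroup.mem_subgroupOf] at hq'
    exact hq'

theorem Q_le_of_le (hZ : Ok C A Z₁) {B : Subgroup G} (hB : B ≤ A) (ht : Tgt C A Z₁ B) (hne : B ≠ A) : B ≤ A ⊓ P := by
  refine le_inf hB ?_
  by_contra hc
  exact hne (h.tight_eq hZ hB ht hc)

/-- The nilpotence argument: if `u ∈ Z₁`, and `A ⊓ P` fixes `u`, then all commutators lie in `A ⊓ C`. -/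
theorem fix_lemma (hZ : Ok C A Z₁) {u : G} (huZ₁ : u ∈ Z₁) (huZ : ∀ a ∈ A, ⁅a, u⁆ ∈ Z₁)
    (hQ : ∀ q ∈ A ⊓ P, q * u = u * q) {a : G} (ha : a ∈ A) : ⁅a, u⁆ ∈ A ⊓ C := by
  obtain ⟨t1, t2, -⟩ := h.orbit hZ huZ
  set Y := YY A u with hY
  set B := A ⊓ Subgroup.centralizer (Y : Set G) with hB
  have hYZ : Y ≤ Z₁ := by
    rw [hY]
    unfold YY
    rw [Subgroup.closure_le]
    rintro _ ⟨d, hd, rfl⟩
    exact huZ d hd
  have hfix : ∀ q ∈ A ⊓ P, ∀ d ∈ A, q * ⁅d, u⁆ = ⁅d, u⁆ * q := by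
    intro q hq d hd
    have e1 : q * u * q⁻¹ = u := by
      rw [hQ q hq]
      group
    have e2 : q * d * q⁻¹ = d := by
      rw [h.hAc q hq.1 d hd]
      group
    have e3 : q * ⁅d, u⁆ * q⁻¹ = ⁅d, u⁆ := by
      calc q * ⁅d, u⁆ * q⁻¹ = (q * d * q⁻¹) * (q * u * q⁻¹) * (q * d * q⁻¹)⁻¹ * (q * u * q⁻¹)⁻¹ := by
            simp only [commutatorElement_def]; group
        _ = ⁅d, u⁆ := by rw [e1, e2]; simp only [commutatorElement_def]
    calc q * ⁅d, u⁆ = (q * ⁅d, u⁆ * q⁻¹) * q := by group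
      _ = _ := by rw [e3]
  have hQB : A ⊓ P ≤ B := by
    intro q hq
    refine ⟨hq.1, Subgroup.mem_centralizer_iff.mpr ?_⟩
    intro y hy
    exact (le_centralizer_YY (hfix q hq) hy).symm
  by_cases hBA : B = A
  · -- `A` centralizes `Y`
    have hq : ⁅a, u⁆ ∈ Y := n_mem_YY u ha
    refine ⟨h.mem_of_comm (h.CS (hZ.hC (hYZ hq))) ?_, hZ.hC (hYZ hq)⟩
    intro b hb
    rw [← hBA] at hb
    exact ((Subgroup.mem_centralizer_iff.mp hb.2) _ hq).symm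
  · have hBQ : B = A ⊓ P := le_antisymm (h.Q_le_of_le hZ inf_le_left t1 hBA) hQB
    have hucc : u ∈ cc Z₁ B := by
      refine mem_cc.mpr ⟨huZ₁, fun b hb => ?_⟩
      rw [hBQ] at hb
      exact hQ b hb
    rw [t2] at hucc
    obtain ⟨y₁, hy₁, w, hw, rfl⟩ := mem_sup_of_commute _ _ (fun y hy w hw =>
      hZ.hab y (hYZ hy) w (hZ.hW hw)) hucc
    -- `Y ≤ [Y, A]`
    have hYb : Y = ⊥ := by
      refine eq_bot_of_le_comm_pgroup (p := p) (P := A) ?_ (h.hS.to_le h.hAS) ?_ ?_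
      · exact h.hS.to_le (hYZ.trans (hZ.hC.trans h.CS))
      · intro b hb
        apply mem_normalizer_of_forall
        intro t ht
        exact conj_YY _ hb ht
      · rw [hY]
        conv_lhs => unfold YY
        rw [Subgroup.closure_le]
        rintro _ ⟨d, hd, rfl⟩
        have e1 : d * w * d⁻¹ = w := by
          rw [h.hAc d hd w hw.1]
          group
        have e2 : ⁅d, y₁ * w⁆ = (⁅y₁, d⁆)⁻¹ := by
          rw [commutatorElement_inv]
          calc ⁅d, y₁ * w⁆ = d * y₁ * d⁻¹ * (d * w * d⁻¹) * w⁻¹ * y₁⁻¹ := by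
                simp only [commutatorElement_def]; group
            _ = _ := by rw [e1]; simp only [commutatorElement_def]; group
        change ⁅d, y₁ * w⁆ ∈ _
        rw [e2]
        exact Subgroup.inv_mem _ (Subgroup.commutator_mem_commutator hy₁ hd)
    have : ⁅a, y₁ * w⁆ ∈ Y := n_mem_YY _ ha
    rw [hYb, Subgroup.mem_bot] at this
    rw [this]
    exact Subgroup.one_mem _

/-- A good tight subgroup. -/
theorem exists_B0 (hZ : Ok C A Z₁) (hZZ : Zc C ≤ Z₁) :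
    ∃ B₀ : Subgroup G, B₀ ≤ A ∧ Tgt C A Z₁ B₀ ∧ cc Z₁ B₀ ≤ (A ⊓ C) ⊔ Zc C ∧
      ∀ z ∈ Zc C, ∀ a ∈ A, ∀ b ∈ B₀, b * ⁅a, z⁆ = ⁅a, z⁆ * b := by
  classical
  let 𝓑 : Set (Subgroup G) := {B | B ≤ A ∧ Tgt C A Z₁ B ∧ cc Z₁ B ≤ (A ⊓ C) ⊔ Zc C}
  have hne : 𝓑.Nonempty := by
    refine ⟨A, le_rfl, h.tight_top hZ, ?_⟩
    rw [h.cc_top hZ]
    exact le_sup_left
  have hfin : 𝓑.Finite := Set.toFinite _
  obtain ⟨B₀, hB₀, hmax⟩ := hfin.exists_maximalFor (fun B => Nat.card (cc Z₁ B)) 𝓑 hne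
  refine ⟨B₀, hB₀.1, hB₀.2.1, hB₀.2.2, ?_⟩
  intro z hz a ha b hb
  have hzZ : ∀ d ∈ A, ⁅d, z⁆ ∈ Z₁ := fun d hd => hZZ (h.nZ (h.hAS hd) hz)
  obtain ⟨t1, t2, -⟩ := h.orbit hZ hzZ
  set Bz := A ⊓ Subgroup.centralizer (YY A z : Set G) with hBz
  have hYZ : YY A z ≤ Zc C := by
    unfold YY
    rw [Subgroup.closure_le]
    rintro _ ⟨d, hd, rfl⟩
    exact h.nZ (h.hAS hd) hz
  obtain ⟨t3, t4⟩ := h.tight_inf hZ hB₀.1 inf_le_left hB₀.2.1 t1
  have hmem : B₀ ⊓ Bz ∈ 𝓑 := by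
    refine ⟨inf_le_left.trans hB₀.1, t3, ?_⟩
    rw [t4, t2]
    refine sup_le hB₀.2.2 (sup_le ?_ le_sup_left)
    exact hYZ.trans le_sup_right
  have hle : cc Z₁ B₀ ≤ cc Z₁ (B₀ ⊓ Bz) := cc_anti _ inf_le_left
  have hcard := hmax hmem (Subgroup.card_le_of_le hle)
  have heq : cc Z₁ B₀ = cc Z₁ (B₀ ⊓ Bz) := Subgroup.eq_of_le_of_card_ge hle hcard
  have hin : ⁅a, z⁆ ∈ cc Z₁ B₀ := by
    rw [heq, t4, t2]
    exact Subgroup.mem_sup_right (Subgroup.mem_sup_left (n_mem_YY z ha))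
  exact (mem_cc.mp hin).2 b hb

end Ctx

end Cfsg.Agent.Lib.J7a
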