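import Mathlib
import Cfsg.Agent.Lib.J7a

/-!
# Maximal abelian subgroups acting on a critical subgroup (II)

Calculus in the class two group `C`; the action of `A` on the centre of `C`.
-/

set_option autoImplicit false

namespace Cfsg.Agent.Lib.J7a

open Cfsg.Agent.Lib.AbConj (comm_sup mem_sup_of_commute)

open scoped commutatorElement

variable {G : Type*} [Group G] [Finite G] {p : ℕ} [hp : Fact p.Prime]

/-- Upper chain predicate. -/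
def KK (A : Subgroup G) : ℕ → G → Prop
  | 0, x => x = 1
  | (k + 1), x => ∀ a ∈ A, KK A k ⁅a, x⁆

omit [Finite G] in
theorem KK_one (A : Subgroup G) (k : ℕ) : KK A k (1 : G) := by
  induction k with
  | zero => rfl
  | succ k ih =>
    intro a _
    rw [commutatorElement_one_right]
    exact ih

omit [Finite G] in
theorem KK_succ (A : Subgroup G) (k : ℕ) : ∀ x : G, KK A k x → KK A (k + 1) x := by
  induction k with
  | zero =>
    intro x hx a _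
    have hx' : x = 1 := hx
    rw [hx', commutatorElement_one_right]
    rfl
  | succ k ih =>
    intro x hx a ha
    exact ih _ (hx a ha)

omit [Finite G] in
theorem KK_mono (A : Subgroup G) {k l : ℕ} (hkl : k ≤ l) (x : G) (h : KK A k x) : KK A l x := by
  induction l, hkl using Nat.le_induction with
  | base => exact h
  | succ l _ ih => exact KK_succ A l x ih

namespace Ctx

variable {S P C A : Subgroup G} (h : Ctx p S P C A)

include h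

theorem comm_Z_right {x z : G} (hx : x ∈ C) (hz : z ∈ Zc C) : ⁅x, z⁆ = 1 :=
  commutatorElement_eq_one_iff_mul_comm.mpr ((h.Z_comm hz hx).symm)

theorem comm_Z_left {x z : G} (hx : x ∈ C) (hz : z ∈ Zc C) : ⁅z, x⁆ = 1 :=
  commutatorElement_eq_one_iff_mul_comm.mpr (h.Z_comm hz hx)

theorem bil_left {r s t : G} (hr : r ∈ C) (hs : s ∈ C) (ht : t ∈ C) : ⁅r * s, t⁆ = ⁅r, t⁆ * ⁅s, t⁆ := by
  have h1 := h.Z_comm (h.hC2 s hs t ht) hr
  have e : ⁅r * s, t⁆ = (r * ⁅s, t⁆ * r⁻¹) * ⁅r, t⁆ := by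
    simp only [commutatorElement_def]; group
  rw [e, ← h1]
  have h2 := h.Z_comm (h.hC2 s hs t ht) (h.hC2 r hr t ht).1
  rw [mul_inv_cancel_right, h2]

theorem bil_right {r s t : G} (hr : r ∈ C) (hs : s ∈ C) (ht : t ∈ C) : ⁅r, s * t⁆ = ⁅r, s⁆ * ⁅r, t⁆ := by
  have h1 := h.Z_comm (h.hC2 r hr t ht) hs
  have e : ⁅r, s * t⁆ = ⁅r, s⁆ * (s * ⁅r, t⁆ * s⁻¹) := by
    simp only [commutatorElement_def]; group
  rw [e, ← h1, mul_inv_cancel_right]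

theorem bil_right_Z {r s z : G} (hr : r ∈ C) (hs : s ∈ C) (hz : z ∈ Zc C) : ⁅r, s * z⁆ = ⁅r, s⁆ := by
  rw [h.bil_right hr hs hz.1, h.comm_Z_right hr hz, mul_one]

/-- The invariance rule. -/
theorem inv_rule {a x v : G} (ha : a ∈ S) (hx : x ∈ C) (hv : v ∈ C) :
    ⁅a, ⁅x, v⁆⁆ = ⁅⁅a, x⁆, ⁅a, v⁆⁆ * ⁅⁅a, x⁆, v⁆ * ⁅x, ⁅a, v⁆⁆ := by
  have hax := h.nC ha hx
  have hav := h.nC ha hv
  have e1 : a * ⁅x, v⁆ * a⁻¹ = ⁅⁅a, x⁆ * x, ⁅a, v⁆ * v⁆ := by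
    have e2 : ⁅a, x⁆ * x = a * x * a⁻¹ := by simp only [commutatorElement_def]; group
    have e3 : ⁅a, v⁆ * v = a * v * a⁻¹ := by simp only [commutatorElement_def]; group
    rw [e2, e3]
    simp only [commutatorElement_def]; group
  have e4 : ⁅⁅a, x⁆ * x, ⁅a, v⁆ * v⁆ = ⁅⁅a, x⁆, ⁅a, v⁆⁆ * ⁅⁅a, x⁆, v⁆ * (⁅x, ⁅a, v⁆⁆ * ⁅x, v⁆) := by
    rw [h.bil_left hax hx (C.mul_mem hav hv), h.bil_right hax hav hv, h.bil_right hx hav hv]
  have e5 : ⁅a, ⁅x, v⁆⁆ = (a * ⁅x, v⁆ * a⁻¹) * (⁅x, v⁆)⁻¹ := by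
    rw [commutatorElement_def]
  rw [e5, e1, e4]
  group

/-- Commutators of `C` are centralized by `P`. -/
theorem comm_fix_P {q x v : G} (hq : q ∈ P) (hx : x ∈ C) (hv : v ∈ C) : ⁅q, ⁅x, v⁆⁆ = 1 := by
  rw [h.inv_rule (h.hPS hq) hx hv, h.comm_Z_left (h.hPC q hq v hv).1 (h.hPC q hq x hx), one_mul,
    h.comm_Z_left hv (h.hPC q hq x hx), one_mul, h.comm_Z_right hx (h.hPC q hq v hv)]

theorem WZ_le : (A ⊓ C) ⊔ Zc C ≤ C := sup_le inf_le_right inf_le_left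

theorem ok_WZ : Ok C A ((A ⊓ C) ⊔ Zc C) := by
  refine ⟨?_, h.WZ_le, le_sup_left⟩
  refine comm_sup _ _ (fun a ha b hb => h.hAc a ha.1 b hb.1) ?_ ?_
  · intro a ha b hb
    exact h.Z_comm ha hb.1
  · intro a ha b hb
    exact (h.Z_comm hb ha.2).symm

theorem N_comm_Z {a b z : G} (ha : a ∈ A) (hb : b ∈ A) (hz : z ∈ Zc C) : ⁅a, ⁅b, z⁆⁆ = ⁅b, ⁅a, z⁆⁆ := by
  have hab := h.hAc a ha b hb
  have e1 : ⁅a, z⁆ = (a * z * a⁻¹) * z⁻¹ := commutatorElement_def _ _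
  have hza := h.conj_Z (h.hAS ha) hz
  have hzb := h.conj_Z (h.hAS hb) hz
  have hzab := (Zc C).mul_mem hza ((Zc C).inv_mem hz)
  have hzba := (Zc C).mul_mem hzb ((Zc C).inv_mem hz)
  -- expand
  have e2 : ⁅a, ⁅b, z⁆⁆ = (a * b * z * (a * b)⁻¹) * (a * z * a⁻¹)⁻¹ * (z * (b * z * b⁻¹)⁻¹) := by
    simp only [commutatorElement_def]; group
  have e3 : ⁅b, ⁅a, z⁆⁆ = (b * a * z * (b * a)⁻¹) * (b * z * b⁻¹)⁻¹ * (z * (a * z * a⁻¹)⁻¹) := by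
    simp only [commutatorElement_def]; group
  rw [e2, e3, hab]
  have hc1 : (a * z * a⁻¹)⁻¹ * (z * (b * z * b⁻¹)⁻¹) = (b * z * b⁻¹)⁻¹ * (z * (a * z * a⁻¹)⁻¹) := by
    have hzz : ∀ u ∈ Zc C, ∀ v ∈ Zc C, u * v = v * u := fun u hu v hv => h.Z_comm hu hv.1
    have h1 := hzz _ ((Zc C).inv_mem hza) _ ((Zc C).mul_mem hz ((Zc C).inv_mem hzb))
    have h2 := hzz _ hz _ ((Zc C).inv_mem hzb)
    rw [h1, h2, mul_assoc]
  rw [mul_assoc (b * a * z * (b * a)⁻¹), hc1, ← mul_assoc]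

/-- Elements of `A ⊓ P` move through. -/
theorem N_q_N {q a v : G} (hq : q ∈ A ⊓ P) (ha : a ∈ A) (hv : v ∈ C) : ⁅q, ⁅a, v⁆⁆ = ⁅a, ⁅q, v⁆⁆ := by
  have hz := h.hPC q hq.2 v hv
  have hqa := h.hAc q hq.1 a ha
  have e1 : q * v * q⁻¹ = ⁅q, v⁆ * v := by simp only [commutatorElement_def]; group
  have e2 : q * ⁅a, v⁆ * q⁻¹ = ⁅a, ⁅q, v⁆⁆ * ⁅a, v⁆ := by
    have e3 : q * ⁅a, v⁆ * q⁻¹ = a * (q * v * q⁻¹) * a⁻¹ * (q * v * q⁻¹)⁻¹ := by
      have e4 : q * a * q⁻¹ = a := by rw [hqa]; group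
      calc q * ⁅a, v⁆ * q⁻¹ = (q * a * q⁻¹) * (q * v * q⁻¹) * (q * a * q⁻¹)⁻¹ * (q * v * q⁻¹)⁻¹ := by
            simp only [commutatorElement_def]; group
        _ = _ := by rw [e4]
    rw [e3, e1]
    have e5 : ⁅q, v⁆ * ⁅a, v⁆ = ⁅a, v⁆ * ⁅q, v⁆ := h.Z_comm hz (h.nC (h.hAS ha) hv)
    have e6 : a * (⁅q, v⁆ * v) * a⁻¹ * (⁅q, v⁆ * v)⁻¹ = ⁅a, ⁅q, v⁆⁆ * (⁅q, v⁆ * ⁅a, v⁆) * (⁅q, v⁆)⁻¹ := by
      simp only [commutatorElement_def]; group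
    rw [e6, e5]
    group
  rw [commutatorElement_def q (⁅a, v⁆), e2]
  group

/-- The fixed-point lemma on the centre. -/
theorem F2 {z : G} (hz : z ∈ Zc C) (hQ : ∀ q ∈ A ⊓ P, q * z = z * q) {a : G} (ha : a ∈ A) : ⁅a, z⁆ ∈ A ⊓ Zc C := by
  have hZ := h.ok_WZ
  have h1 := h.fix_lemma (Z₁ := (A ⊓ C) ⊔ Zc C) hZ (u := z) (Subgroup.mem_sup_right hz)
    (fun d hd => Subgroup.mem_sup_right (h.nZ (h.hAS hd) hz)) hQ ha
  exact ⟨h1.1, h.nZ (h.hAS ha) hz⟩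

/-- On commutators: `N C' ≤ F`. -/
theorem N_comm_mem {a x v : G} (ha : a ∈ A) (hx : x ∈ C) (hv : v ∈ C) : ⁅a, ⁅x, v⁆⁆ ∈ A ⊓ Zc C :=
  h.F2 (h.hC2 x hx v hv) (fun q hq => commutatorElement_eq_one_iff_mul_comm.mp (h.comm_fix_P hq.2 hx hv)) ha

theorem NN_comm {a b x v : G} (ha : a ∈ A) (hb : b ∈ A) (hx : x ∈ C) (hv : v ∈ C) : ⁅b, ⁅a, ⁅x, v⁆⁆⁆ = 1 :=
  h.n_A hb (h.N_comm_mem ha hx hv).1

/-- The main step on the centre. -/
theorem star_level (j : ℕ) : ∀ {z e : G}, z ∈ Zc C → e ∈ A → KK A (j + 3) z → ¬ KK A (j + 2) z →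
    (∃ t f : G, KK A (j + 1) t ∧ f ∈ A ∧ ⁅e, z⁆ = t * f) → e ∈ P := by
  induction j with
  | zero =>
    intro z e hz he h3 h2 ⟨t, f, ht, hf, hef⟩
    have hZ := h.ok_WZ
    have hzZ : ∀ d ∈ A, ⁅d, z⁆ ∈ (A ⊓ C) ⊔ Zc C := fun d hd => Subgroup.mem_sup_right (h.nZ (h.hAS hd) hz)
    obtain ⟨t1, -, -⟩ := h.orbit hZ hzZ
    have hb : ∀ b ∈ A, ⁅b, ⁅e, z⁆⁆ = 1 := by
      intro b hb
      rw [hef]
      have e1 : b * f * b⁻¹ = f := by
        rw [h.hAc b hb f hf]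
        group
      have e2 : ⁅b, t * f⁆ = ⁅b, t⁆ * (t * (b * f * b⁻¹) * f⁻¹ * t⁻¹) := by
        simp only [commutatorElement_def]; group
      rw [e2, e1]
      have e3 : ⁅b, t⁆ = 1 := ht b hb
      rw [e3]
      group
    have heB : e ∈ A ⊓ Subgroup.centralizer (YY A z : Set G) := by
      refine ⟨he, Subgroup.mem_centralizer_iff.mpr ?_⟩
      intro y hy
      refine (le_centralizer_YY ?_ hy).symm
      intro d hd
      rw [← commutatorElement_eq_one_iff_mul_comm, h.N_comm_Z he hd hz]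
      exact hb d hd
    have hne : A ⊓ Subgroup.centralizer (YY A z : Set G) ≠ A := by
      intro heq
      apply h2
      intro a ha b hb
      have hb' : b ∈ A ⊓ Subgroup.centralizer (YY A z : Set G) := by
        rw [heq]
        exact hb
      have h5 := (Subgroup.mem_centralizer_iff.mp hb'.2) _ (n_mem_YY z ha)
      exact commutatorElement_eq_one_iff_mul_comm.mpr h5.symm
    exact (h.Q_le_of_le hZ inf_le_left t1 hne heB).2
  | succ j ih =>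
    intro z e hz he h3 h2 ⟨t, f, ht, hf, hef⟩
    have h4 : ∃ a ∈ A, ¬ KK A (j + 2) ⁅a, z⁆ := by
      by_contra hcon
      push Not at hcon
      exact h2 hcon
    obtain ⟨a, ha, hna⟩ := h4
    have hu := h.nZ (h.hAS ha) hz
    refine ih hu he (h3 a ha) hna ⟨⁅a, t⁆, 1, ht a ha, A.one_mem, ?_⟩
    rw [mul_one, h.N_comm_Z he ha hz, hef]
    have e1 : a * f * a⁻¹ = f := by
      rw [h.hAc a ha f hf]
      group
    have e2 : ⁅a, t * f⁆ = ⁅a, t⁆ * (t * (a * f * a⁻¹) * f⁻¹ * t⁻¹) := by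
      simp only [commutatorElement_def]; group
    rw [e2, e1]
    group

/-- Words vanish. -/
theorem exists_KK : ∃ n, ∀ x ∈ S, KK A n x := by
  obtain ⟨n, hn⟩ := (Subgroup.isNilpotent_iff_lowerCentralSeries S).mp h.hS.isNilpotent
  refine ⟨n, ?_⟩
  have key : ∀ m k : ℕ, k + m = n → ∀ x ∈ S.lowerCentralSeries k, KK A m x := by
    intro m
    induction m with
    | zero =>
      intro k hk x hx
      rw [Nat.add_zero] at hk
      rw [hk, hn, Subgroup.mem_bot] at hx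
      exact hx
    | succ m ih =>
      intro k hk x hx a ha
      have h2 : ⁅x, a⁆ ∈ S.lowerCentralSeries (k + 1) := by
        rw [Subgroup.lowerCentralSeries_succ]
        exact Subgroup.commutator_mem_commutator hx (h.hAS ha)
      have h3 : ⁅a, x⁆ ∈ S.lowerCentralSeries (k + 1) := by
        rw [← commutatorElement_inv]
        exact Subgroup.inv_mem _ h2
      exact ih (k + 1) (by omega) _ h3
  intro x hx
  exact key n 0 (by omega) x (by simpa using hx)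

/-- **The star lemma.** -/
theorem star {z a b : G} (hz : z ∈ Zc C) (ha : a ∈ A) (hb : b ∈ A) :
    ∃ q ∈ A ⊓ P, ∃ f ∈ A ⊓ Zc C, ⁅b, ⁅a, z⁆⁆ = ⁅q, z⁆ * f := by
  classical
  by_cases h2 : KK A 2 z
  · refine ⟨1, Subgroup.one_mem _, 1, Subgroup.one_mem _, ?_⟩
    rw [commutatorElement_one_left, one_mul]
    exact h2 a ha b hb
  · obtain ⟨n₀, hn₀⟩ := h.exists_KK (A := A)
    have hzS : z ∈ S := h.CS hz.1
    have hex : ∃ n, KK A n z := ⟨n₀, hn₀ z hzS⟩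
    set n := Nat.find hex with hn
    have hKn : KK A n z := Nat.find_spec hex
    have hn3 : 3 ≤ n := by
      by_contra hlt
      exact h2 (KK_mono A (by omega) z hKn)
    obtain ⟨j, hj⟩ : ∃ j, n = j + 3 := ⟨n - 3, by omega⟩
    have hmin : ¬ KK A (j + 2) z := Nat.find_min hex (by omega)
    rw [hj] at hKn
    have hZ := h.ok_WZ
    have hzZ : ∀ d ∈ A, ⁅d, z⁆ ∈ (A ⊓ C) ⊔ Zc C := fun d hd => Subgroup.mem_sup_right (h.nZ (h.hAS hd) hz)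
    obtain ⟨-, -, t3⟩ := h.orbit hZ hzZ
    set t := ⁅b, ⁅a, z⁆⁆ with ht
    have htY : t ∈ YY A z := by
      rw [ht, commutatorElement_def]
      exact (YY A z).mul_mem (conj_YY z hb (n_mem_YY z ha)) ((YY A z).inv_mem (n_mem_YY z ha))
    have htZ : t ∈ Zc C := h.nZ (h.hAS hb) (h.nZ (h.hAS ha) hz)
    obtain ⟨e, he, hew⟩ := t3 t htY
    have heZ := h.nZ (h.hAS he) hz
    have hfZ : (⁅e, z⁆)⁻¹ * t ∈ Zc C := (Zc C).mul_mem ((Zc C).inv_mem heZ) htZ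
    have heP : e ∈ P := by
      refine h.star_level j hz he hKn hmin ⟨t, ((⁅e, z⁆)⁻¹ * t)⁻¹, ?_, (A.inv_mem hew.1), ?_⟩
      · exact hKn a ha b hb
      · have := h.Z_comm heZ htZ.1
        rw [mul_inv_rev, inv_inv, ← mul_assoc]
        group
    refine ⟨e, ⟨he, heP⟩, (⁅e, z⁆)⁻¹ * t, ⟨hew.1, hfZ⟩, ?_⟩
    group

/-- Chief factors of the centre. -/
theorem chief_cube {V : Subgroup G} (hVn : ∀ a ∈ A, ∀ v ∈ V, a * v * a⁻¹ ∈ V) {z : G} (hz : z ∈ Zc C)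
    (hq : ∀ q ∈ P, ⁅q, z⁆ ∈ V) {a b c : G} (ha : a ∈ A) (hb : b ∈ A) (hc : c ∈ A) : ⁅c, ⁅b, ⁅a, z⁆⁆⁆ ∈ V := by
  obtain ⟨q, hqq, f, hf, e⟩ := h.star hz ha hb
  rw [e]
  have e1 : c * f * c⁻¹ = f := by
    rw [h.hAc c hc f hf.1]
    group
  have e2 : ⁅c, ⁅q, z⁆ * f⁆ = ⁅c, ⁅q, z⁆⁆ * (⁅q, z⁆ * (c * f * c⁻¹) * f⁻¹ * (⁅q, z⁆)⁻¹) := by
    simp only [commutatorElement_def]; group
  rw [e2, e1]
  have hv := hq q hqq.2
  have e3 : ⁅c, ⁅q, z⁆⁆ * (⁅q, z⁆ * f * f⁻¹ * (⁅q, z⁆)⁻¹) = (c * ⁅q, z⁆ * c⁻¹) * (⁅q, z⁆)⁻¹ := by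
    rw [commutatorElement_def c]
    group
  rw [e3]
  exact V.mul_mem (hVn c hc _ hv) (V.inv_mem hv)

end Ctx

end Cfsg.Agent.Lib.J7a
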