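import Mathlib
import Cfsg.Agent.Lib.J7b

/-!
# Maximal abelian subgroups acting on a critical subgroup (III)

The action of `A` on `C / Z(C)`: the core lemma.
-/

set_option autoImplicit false

namespace Cfsg.Agent.Lib.J7a

open Cfsg.Agent.Lib.AbConj (comm_sup mem_sup_of_commute)

open scoped commutatorElement

variable {G : Type*} [Group G] [Finite G] {p : ℕ} [hp : Fact p.Prime]

/-- `(A ∩ C) Z(C)`. -/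
abbrev WZ (C A : Subgroup G) : Subgroup G := (A ⊓ C) ⊔ Zc C

/-- Chain predicate with a given base. -/
def LL (A T : Subgroup G) : ℕ → G → Prop
  | 0, x => x ∈ T
  | (k + 1), x => ∀ a ∈ A, LL A T k ⁅a, x⁆

omit [Finite G] in
theorem LL_of_KK (A T : Subgroup G) (k : ℕ) : ∀ x : G, KK A k x → LL A T k x := by
  induction k with
  | zero =>
    intro x hx
    have hx' : x = 1 := hx
    rw [hx']
    exact T.one_mem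
  | succ k ih =>
    intro x hx a ha
    exact ih _ (hx a ha)

namespace Ctx

variable {S P C A : Subgroup G} (h : Ctx p S P C A)

include h

theorem mem_WZ {t : G} (ht : t ∈ WZ C A) : ∃ w ∈ A ⊓ C, ∃ z ∈ Zc C, w * z = t :=
  mem_sup_of_commute (A ⊓ C) (Zc C) (fun _ hw _ hz => (h.Z_comm hz (Subgroup.mem_inf.mp hw).2).symm) ht

theorem comm_N_W {a x w : G} (ha : a ∈ A) (hx : x ∈ C) (hw : w ∈ A ⊓ C) : ⁅⁅a, x⁆, w⁆ = ⁅a, ⁅x, w⁆⁆ := by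
  rw [h.inv_rule (h.hAS ha) hx hw.2, h.n_A ha hw.1, commutatorElement_one_right,
    commutatorElement_one_right, one_mul, mul_one]

theorem perp1 {a x t : G} (ha : a ∈ A) (hx : x ∈ C) (ht : t ∈ WZ C A) : ⁅⁅a, x⁆, t⁆ ∈ A ⊓ Zc C := by
  obtain ⟨w, hw, z, hz, rfl⟩ := h.mem_WZ ht
  rw [h.bil_right_Z (h.nC (h.hAS ha) hx) hw.2 hz, h.comm_N_W ha hx hw]
  exact h.N_comm_mem ha hx hw.2

theorem perp2 {a b x t : G} (ha : a ∈ A) (hb : b ∈ A) (hx : x ∈ C) (ht : t ∈ WZ C A) : ⁅⁅b, ⁅a, x⁆⁆, t⁆ = 1 := by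
  obtain ⟨w, hw, z, hz, rfl⟩ := h.mem_WZ ht
  have hax := h.nC (h.hAS ha) hx
  rw [h.bil_right_Z (h.nC (h.hAS hb) hax) hw.2 hz, h.comm_N_W hb hax hw, h.comm_N_W ha hx hw]
  exact h.NN_comm ha hb hx hw.2

theorem zz_comm {s t : G} (hs : s ∈ Zc C) (ht : t ∈ Zc C) : s * t = t * s := h.Z_comm hs ht.1

theorem n_cong {a x x' : G} (ha : a ∈ A) (hx' : x' ∈ C) (hc : x * x'⁻¹ ∈ Zc C) : ⁅a, x⁆ * (⁅a, x'⁆)⁻¹ ∈ Zc C := by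
  set z := x * x'⁻¹ with hz
  have e : x = z * x' := by rw [hz]; group
  have hax' := h.nC (h.hAS ha) hx'
  have e1 : ⁅a, z * x'⁆ = ⁅a, z⁆ * (z * ⁅a, x'⁆ * z⁻¹) := by
    simp only [commutatorElement_def]; group
  rw [e, e1, h.Z_comm hc hax']
  have e2 : ⁅a, z⁆ * (⁅a, x'⁆ * z * z⁻¹) * (⁅a, x'⁆)⁻¹ = ⁅a, z⁆ := by group
  rw [e2]
  exact h.nZ (h.hAS ha) hc

theorem N_swap {a b x : G} (ha : a ∈ A) (hb : b ∈ A) (hx : x ∈ C) : ⁅a, ⁅b, x⁆⁆ * (⁅b, ⁅a, x⁆⁆)⁻¹ ∈ Zc C := by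
  have hab := h.hAc a ha b hb
  have hpC : a * x * a⁻¹ ∈ C := h.hCn a (h.hAS ha) x hx
  have hqC : b * x * b⁻¹ ∈ C := h.hCn b (h.hAS hb) x hx
  have huC : a * b * x * (a * b)⁻¹ ∈ C := by
    have := h.hCn (a * b) (S.mul_mem (h.hAS ha) (h.hAS hb)) x hx
    exact this
  set p' := a * x * a⁻¹ with hp'
  set q' := b * x * b⁻¹ with hq'
  set u := a * b * x * (a * b)⁻¹ with hu
  have e1 : ⁅a, ⁅b, x⁆⁆ = u * p'⁻¹ * (x * q'⁻¹) := by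
    rw [hu, hp', hq']
    simp only [commutatorElement_def]; group
  have e2 : ⁅b, ⁅a, x⁆⁆ = u * q'⁻¹ * (x * p'⁻¹) := by
    have e3 : ⁅b, ⁅a, x⁆⁆ = (b * a) * x * (b * a)⁻¹ * q'⁻¹ * (x * p'⁻¹) := by
      rw [hp', hq']
      simp only [commutatorElement_def]; group
    rw [e3, ← hab]
  rw [e1, e2]
  have e4 : u * p'⁻¹ * (x * q'⁻¹) * (u * q'⁻¹ * (x * p'⁻¹))⁻¹ =
      u * (⁅p'⁻¹ * x, q'⁻¹⁆ * (q'⁻¹ * ⁅p'⁻¹, x⁆ * q')) * u⁻¹ := by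
    simp only [commutatorElement_def]; group
  rw [e4]
  have h1 : ⁅p'⁻¹ * x, q'⁻¹⁆ ∈ Zc C := h.hC2 _ (C.mul_mem (C.inv_mem hpC) hx) _ (C.inv_mem hqC)
  have h2 : ⁅p'⁻¹, x⁆ ∈ Zc C := h.hC2 _ (C.inv_mem hpC) _ hx
  have h3 : q'⁻¹ * ⁅p'⁻¹, x⁆ * q' ∈ Zc C := by
    rw [(h.Z_comm h2 (C.inv_mem hqC)).symm]
    simpa using h2
  have h4 := (Zc C).mul_mem h1 h3
  have h5 := h.Z_comm h4 huC
  rw [← h5]
  simpa using h4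

theorem comm_cong {y v v' : G} (hy : y ∈ C) (hv' : v' ∈ C) (hc : v * v'⁻¹ ∈ Zc C) : ⁅y, v⁆ = ⁅y, v'⁆ := by
  have e : v = (v * v'⁻¹) * v' := by group
  rw [e, h.bil_right hy hc.1 hv', h.comm_Z_right hy hc, one_mul]

theorem swap4 {y a b c d : G} (hy : y ∈ C) (ha : a ∈ A) (hb : b ∈ A) (hc : c ∈ A) (hd : d ∈ A) :
    ⁅y, ⁅d, ⁅c, ⁅b, ⁅a, y⁆⁆⁆⁆⁆ = ⁅y, ⁅a, ⁅b, ⁅c, ⁅d, y⁆⁆⁆⁆⁆ := by
  have hN : ∀ {e x : G}, e ∈ A → x ∈ C → ⁅e, x⁆ ∈ C := fun he hx => h.nC (h.hAS he) hx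
  have s1 : ⁅d, ⁅c, ⁅b, ⁅a, y⁆⁆⁆⁆ * (⁅d, ⁅c, ⁅a, ⁅b, y⁆⁆⁆⁆)⁻¹ ∈ Zc C :=
    h.n_cong hd (hN hc (hN ha (hN hb hy))) (h.n_cong hc (hN ha (hN hb hy)) (h.N_swap hb ha hy))
  have s2 : ⁅d, ⁅c, ⁅a, ⁅b, y⁆⁆⁆⁆ * (⁅d, ⁅a, ⁅c, ⁅b, y⁆⁆⁆⁆)⁻¹ ∈ Zc C :=
    h.n_cong hd (hN ha (hN hc (hN hb hy))) (h.N_swap hc ha (hN hb hy))
  have s3 : ⁅d, ⁅a, ⁅c, ⁅b, y⁆⁆⁆⁆ * (⁅a, ⁅d, ⁅c, ⁅b, y⁆⁆⁆⁆)⁻¹ ∈ Zc C :=
    h.N_swap hd ha (hN hc (hN hb hy))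
  have s4 : ⁅a, ⁅d, ⁅c, ⁅b, y⁆⁆⁆⁆ * (⁅a, ⁅d, ⁅b, ⁅c, y⁆⁆⁆⁆)⁻¹ ∈ Zc C :=
    h.n_cong ha (hN hd (hN hb (hN hc hy))) (h.n_cong hd (hN hb (hN hc hy)) (h.N_swap hc hb hy))
  have s5 : ⁅a, ⁅d, ⁅b, ⁅c, y⁆⁆⁆⁆ * (⁅a, ⁅b, ⁅d, ⁅c, y⁆⁆⁆⁆)⁻¹ ∈ Zc C :=
    h.n_cong ha (hN hb (hN hd (hN hc hy))) (h.N_swap hd hb (hN hc hy))
  have s6 : ⁅a, ⁅b, ⁅d, ⁅c, y⁆⁆⁆⁆ * (⁅a, ⁅b, ⁅c, ⁅d, y⁆⁆⁆⁆)⁻¹ ∈ Zc C :=
    h.n_cong ha (hN hb (hN hc (hN hd hy))) (h.n_cong hb (hN hc (hN hd hy)) (h.N_swap hd hc hy))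
  apply h.comm_cong hy (hN ha (hN hb (hN hc (hN hd hy))))
  have := (Zc C).mul_mem ((Zc C).mul_mem ((Zc C).mul_mem ((Zc C).mul_mem ((Zc C).mul_mem s1 s2) s3) s4) s5) s6
  convert this using 1
  group

theorem mem_of_sq {F : Subgroup G} {t : G} (htS : t ∈ S) (ht : t * t ∈ F) : t ∈ F := by
  obtain ⟨k, hk⟩ := h.hS ⟨t, htS⟩
  have hk' : t ^ p ^ k = 1 := by
    have := congrArg Subtype.val hk
    simpa using this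
  have hodd : Odd (p ^ k) := Odd.pow (hp.out.odd_of_ne_two h.hodd)
  obtain ⟨m, hm⟩ := hodd
  have e : t = (t * t) ^ (m + 1) := by
    have e1 : (t * t) ^ (m + 1) = t ^ (2 * m + 1) * t := by
      rw [← pow_two, ← pow_mul]
      rw [show 2 * (m + 1) = (2 * m + 1) + 1 by ring, pow_succ]
    rw [e1, ← hm, hk', one_mul]
  rw [e]
  exact Subgroup.pow_mem _ ht _

section Core

variable {y : G} (hy : y ∈ C)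
  (h4 : ∀ a ∈ A, ∀ b ∈ A, ∀ c ∈ A, ∀ d ∈ A, ⁅a, ⁅b, ⁅c, ⁅d, y⁆⁆⁆⁆ ∈ WZ C A)

include hy h4

theorem E_star {a b c d : G} (ha : a ∈ A) (hb : b ∈ A) (hc : c ∈ A) (hd : d ∈ A) :
    ⁅⁅b, ⁅a, y⁆⁆, ⁅c, ⁅d, y⁆⁆⁆ * (⁅y, ⁅a, ⁅b, ⁅c, ⁅d, y⁆⁆⁆⁆⁆)⁻¹ ∈ A ⊓ Zc C := by
  have hN : ∀ {e x : G}, e ∈ A → x ∈ C → ⁅e, x⁆ ∈ C := fun he hx => h.nC (h.hAS he) hx
  set s := ⁅c, ⁅d, y⁆⁆ with hs
  set r := ⁅b, s⁆ with hr
  set ya := ⁅a, y⁆ with hya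
  set yba := ⁅b, ya⁆ with hyba
  have hsC : s ∈ C := hN hc (hN hd hy)
  have hrC : r ∈ C := hN hb hsC
  have hyaC : ya ∈ C := hN ha hy
  have hybaC : yba ∈ C := hN hb hyaC
  have hq : ⁅a, r⁆ ∈ WZ C A := h4 a ha b hb c hc d hd
  have hbr : ⁅b, r⁆ ∈ WZ C A := h4 b hb b hb c hc d hd
  -- first step
  have c1 : ⁅ya, r⁆ * ⁅y, ⁅a, r⁆⁆ ∈ A ⊓ Zc C := by
    have e := h.inv_rule (h.hAS ha) hy hrC
    have m1 := h.N_comm_mem ha hy hrC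
    rw [e, mul_assoc] at m1
    exact (Subgroup.mul_mem_cancel_left _ (h.perp1 ha hy hq)).mp m1
  -- the `(2,3)` forms
  have c2 : ⁅yba, r⁆ ∈ A ⊓ Zc C := by
    have e := h.inv_rule (h.hAS hb) hyaC hrC
    have m1 := h.N_comm_mem hb hyaC hrC
    rw [e, show ⁅⁅b, ya⁆, ⁅b, r⁆⁆ = 1 from h.perp2 ha hb hy hbr, one_mul] at m1
    exact (Subgroup.mul_mem_cancel_right _ (h.perp1 ha hy hbr)).mp m1
  have c3 : ⁅yba, s⁆ * ⁅ya, r⁆ ∈ A ⊓ Zc C := by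
    have e := h.inv_rule (h.hAS hb) hyaC hsC
    have m1 := h.N_comm_mem hb hyaC hsC
    rw [e, mul_assoc] at m1
    exact (Subgroup.mul_mem_cancel_left _ c2).mp m1
  set t0 := ⁅y, ⁅a, r⁆⁆ with ht0
  set t1 := ⁅ya, r⁆ with ht1
  set t2 := ⁅yba, s⁆ with ht2
  have ht1Z : t1 ∈ Zc C := h.hC2 _ hyaC _ hrC
  have ht0Z : t0 ∈ Zc C := h.hC2 _ hy _ (hN ha hrC)
  have e : t2 * t0⁻¹ = (t2 * t1) * (t1 * t0)⁻¹ := by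
    have := h.zz_comm ht1Z ((Zc C).inv_mem ht0Z)
    calc t2 * t0⁻¹ = t2 * (t1 * t0⁻¹) * t1⁻¹ := by
          rw [this]; group
      _ = _ := by group
  rw [e]
  exact Subgroup.mul_mem _ c3 (Subgroup.inv_mem _ c1)

/-- Parity. -/
theorem t0_mem {a b c d : G} (ha : a ∈ A) (hb : b ∈ A) (hc : c ∈ A) (hd : d ∈ A) :
    ⁅y, ⁅a, ⁅b, ⁅c, ⁅d, y⁆⁆⁆⁆⁆ ∈ A ⊓ Zc C := by
  have hN : ∀ {e x : G}, e ∈ A → x ∈ C → ⁅e, x⁆ ∈ C := fun he hx => h.nC (h.hAS he) hx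
  have E1 := h.E_star hy h4 ha hb hc hd
  have E2 := h.E_star hy h4 hd hc hb ha
  rw [h.swap4 hy ha hb hc hd, ← commutatorElement_inv (⁅b, ⁅a, y⁆⁆)] at E2
  set t0 := ⁅y, ⁅a, ⁅b, ⁅c, ⁅d, y⁆⁆⁆⁆⁆ with ht0
  set t2 := ⁅⁅b, ⁅a, y⁆⁆, ⁅c, ⁅d, y⁆⁆⁆ with ht2
  have ht2Z : t2 ∈ Zc C := h.hC2 _ (hN hb (hN ha hy)) _ (hN hc (hN hd hy))
  have ht0Z : t0 ∈ Zc C := h.hC2 _ hy _ (hN ha (hN hb (hN hc (hN hd hy))))
  have e : (t2 * t0⁻¹) * (t2⁻¹ * t0⁻¹) = (t0 * t0)⁻¹ := by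
    have := h.zz_comm ((Zc C).inv_mem ht0Z) ((Zc C).inv_mem ht2Z)
    calc (t2 * t0⁻¹) * (t2⁻¹ * t0⁻¹) = t2 * (t0⁻¹ * t2⁻¹) * t0⁻¹ := by group
      _ = (t0 * t0)⁻¹ := by rw [this]; group
  have m := (A ⊓ Zc C).mul_mem E1 E2
  rw [e] at m
  have m' := (Subgroup.inv_mem_iff _).mp m
  exact h.mem_of_sq (h.CS ht0Z.1) m'

/-- The fourth level. -/
theorem perp_N4 {a b c d e : G} (ha : a ∈ A) (hb : b ∈ A) (hc : c ∈ A) (hd : d ∈ A) (he : e ∈ A) :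
    ⁅⁅e, y⁆, ⁅a, ⁅b, ⁅c, ⁅d, y⁆⁆⁆⁆⁆ = 1 := by
  obtain ⟨w, hw, z, hz, hwz⟩ := h.mem_WZ (h4 a ha b hb c hc d hd)
  have hf := h.t0_mem hy h4 ha hb hc hd
  rw [← hwz] at hf ⊢
  rw [h.bil_right_Z hy hw.2 hz] at hf
  rw [h.bil_right_Z (h.nC (h.hAS he) hy) hw.2 hz, h.comm_N_W he hy hw]
  exact h.n_A he hf.1

theorem x_comm {b d e : G} (hb : b ∈ A) (hd : d ∈ A) (he : e ∈ A) :
    ⁅⁅d, ⁅e, y⁆⁆, ⁅b, ⁅d, ⁅e, y⁆⁆⁆⁆ = 1 := by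
  have hN : ∀ {e x : G}, e ∈ A → x ∈ C → ⁅e, x⁆ ∈ C := fun he hx => h.nC (h.hAS he) hx
  set ye := ⁅e, y⁆ with hye
  have hyeC : ye ∈ C := hN he hy
  set x := ⁅d, ye⁆ with hx
  have hxC : x ∈ C := hN hd hyeC
  set x₃ := ⁅b, x⁆ with hx₃
  have hx₃C : x₃ ∈ C := hN hb hxC
  have w1 : ⁅d, x₃⁆ ∈ WZ C A := h4 d hd b hb d hd e he
  have w2 : ⁅e, x₃⁆ ∈ WZ C A := h4 e he b hb d hd e he
  have i1 := h.inv_rule (h.hAS hd) hyeC hx₃C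
  rw [show ⁅⁅d, ye⁆, ⁅d, x₃⁆⁆ = 1 from h.perp2 he hd hy w1, one_mul,
    show ⁅ye, ⁅d, x₃⁆⁆ = 1 from h.perp_N4 hy h4 hd hb hd he he, mul_one] at i1
  have i2 := h.inv_rule (h.hAS he) hy hx₃C
  rw [show ⁅⁅e, y⁆, ⁅e, x₃⁆⁆ = 1 from h.perp_N4 hy h4 he hb hd he he, one_mul] at i2
  have m1 := h.N_comm_mem he hy hx₃C
  rw [i2] at m1
  have m2 : ⁅ye, x₃⁆ ∈ A ⊓ Zc C :=
    (Subgroup.mul_mem_cancel_right _ (h.t0_mem hy h4 he hb hd he)).mp m1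
  rw [← i1]
  exact h.n_A hd m2.1

theorem Yx_comm {a b d e : G} (ha : a ∈ A) (hb : b ∈ A) (hd : d ∈ A) (he : e ∈ A) :
    ⁅⁅a, ⁅d, ⁅e, y⁆⁆⁆, ⁅b, ⁅d, ⁅e, y⁆⁆⁆⁆ = 1 := by
  have hN : ∀ {e x : G}, e ∈ A → x ∈ C → ⁅e, x⁆ ∈ C := fun he hx => h.nC (h.hAS he) hx
  have hyeC : ⁅e, y⁆ ∈ C := hN he hy
  set x := ⁅d, ⁅e, y⁆⁆ with hx
  have hxC : x ∈ C := hN hd hyeC
  have hx₃C : ⁅b, x⁆ ∈ C := hN hb hxC
  have w1 : ⁅a, ⁅b, x⁆⁆ ∈ WZ C A := h4 a ha b hb d hd e he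
  have i1 := h.inv_rule (h.hAS ha) hxC hx₃C
  rw [show ⁅x, ⁅b, x⁆⁆ = 1 from h.x_comm hy h4 hb hd he, commutatorElement_one_right,
    show ⁅⁅a, x⁆, ⁅a, ⁅b, x⁆⁆⁆ = 1 from h.perp2 hd ha hyeC w1, one_mul,
    show ⁅x, ⁅a, ⁅b, x⁆⁆⁆ = 1 from h.perp2 he hd hy w1, mul_one] at i1
  exact i1.symm

/-- **The core lemma.** -/
theorem core {c d e : G} (hc : c ∈ A) (hd : d ∈ A) (he : e ∈ A) : ⁅c, ⁅d, ⁅e, y⁆⁆⁆ ∈ WZ C A := by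
  classical
  have hN : ∀ {e x : G}, e ∈ A → x ∈ C → ⁅e, x⁆ ∈ C := fun he hx => h.nC (h.hAS he) hx
  have hyeC : ⁅e, y⁆ ∈ C := hN he hy
  set x := ⁅d, ⁅e, y⁆⁆ with hx
  have hxC : x ∈ C := hN hd hyeC
  -- the abelian subgroup
  set Y := YY A x with hY
  have hYC : Y ≤ C := by
    rw [hY]
    unfold YY
    rw [Subgroup.closure_le]
    rintro _ ⟨a, ha, rfl⟩
    exact hN ha hxC
  have hYab : ∀ s ∈ Y, ∀ t ∈ Y, s * t = t * s := by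
    intro s hs t ht
    have h1 : ∀ a ∈ A, ∀ t ∈ Y, ⁅a, x⁆ * t = t * ⁅a, x⁆ := by
      intro a ha t ht
      refine le_centralizer_YY ?_ ht
      intro b hb
      exact commutatorElement_eq_one_iff_mul_comm.mp (h.Yx_comm hy h4 ha hb hd he)
    exact (le_centralizer_YY (fun a ha => (h1 a ha t ht).symm) hs).symm
  have hxY : ∀ t ∈ Y, x * t = t * x := by
    intro t ht
    refine le_centralizer_YY ?_ ht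
    intro b hb
    exact commutatorElement_eq_one_iff_mul_comm.mp (h.x_comm hy h4 hb hd he)
  set X₁ := Subgroup.zpowers x ⊔ Y with hX₁
  have hX₁C : X₁ ≤ C := sup_le (Subgroup.zpowers_le.mpr hxC) hYC
  have hX₁ab : ∀ s ∈ X₁, ∀ t ∈ X₁, s * t = t * s := by
    refine comm_sup _ _ ?_ hYab ?_
    · intro a ha b hb
      obtain ⟨i, rfl⟩ := Subgroup.mem_zpowers_iff.mp ha
      obtain ⟨j, rfl⟩ := Subgroup.mem_zpowers_iff.mp hb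
      exact (Commute.refl x).zpow_zpow i j
    · intro a ha b hb
      obtain ⟨i, rfl⟩ := Subgroup.mem_zpowers_iff.mp ha
      exact Commute.zpow_left (hxY b hb) i
  have hX₁W : ∀ s ∈ X₁, ∀ w ∈ A ⊓ C, s * w = w * s := by
    intro s hs w hw
    have hwWZ : w ∈ WZ C A := Subgroup.mem_sup_left hw
    have hle : X₁ ≤ Subgroup.centralizer ({w} : Set G) := by
      refine sup_le ?_ ?_
      · rw [Subgroup.zpowers_le, Subgroup.mem_centralizer_iff]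
        rintro _ rfl
        exact (commutatorElement_eq_one_iff_mul_comm.mp (h.perp2 he hd hy hwWZ)).symm
      · rw [hY]
        unfold YY
        rw [Subgroup.closure_le]
        rintro _ ⟨a, ha, rfl⟩
        rw [SetLike.mem_coe, Subgroup.mem_centralizer_iff]
        rintro _ rfl
        exact (commutatorElement_eq_one_iff_mul_comm.mp (h.perp2 hd ha hyeC hwWZ)).symm
    exact (Subgroup.mem_centralizer_iff.mp (hle hs) w rfl).symm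
  set X₂ := X₁ ⊔ (A ⊓ C) with hX₂
  have hX₂C : X₂ ≤ C := sup_le hX₁C inf_le_right
  have hX₂ab : ∀ s ∈ X₂, ∀ t ∈ X₂, s * t = t * s :=
    comm_sup _ _ hX₁ab (fun a ha b hb => h.hAc a ha.1 b hb.1) hX₁W
  set Z₃ := X₂ ⊔ Zc C with hZ₃
  have hZ₃C : Z₃ ≤ C := sup_le hX₂C inf_le_left
  have hZ₃ab : ∀ s ∈ Z₃, ∀ t ∈ Z₃, s * t = t * s :=
    comm_sup _ _ hX₂ab (fun a ha b hb => h.zz_comm ha hb)
      (fun a ha b hb => (h.Z_comm hb (hX₂C ha)).symm)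
  have hok : Ok C A Z₃ := ⟨hZ₃ab, hZ₃C, le_trans le_sup_right le_sup_left⟩
  have hYZ₃ : ∀ a ∈ A, ⁅a, x⁆ ∈ Z₃ := fun a ha =>
    Subgroup.mem_sup_left (Subgroup.mem_sup_left (Subgroup.mem_sup_right (n_mem_YY x ha)))
  have hxZ₃ : x ∈ Z₃ :=
    Subgroup.mem_sup_left (Subgroup.mem_sup_left (Subgroup.mem_sup_left (Subgroup.mem_zpowers x)))
  have hZZ₃ : Zc C ≤ Z₃ := le_sup_right
  by_cases hcase : ∀ z ∈ Zc C, ∀ a ∈ A, ∀ b ∈ A, ⁅b, ⁅a, z⁆⁆ = 1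
  · -- Case (i)
    have hQ : ∀ q ∈ A ⊓ P, q * x = x * q := by
      intro q hq
      rw [← commutatorElement_eq_one_iff_mul_comm, h.N_q_N hq hd hyeC, h.N_q_N hq he hy]
      exact hcase _ (h.hPC q hq.2 y hy) e he d hd
    have := h.fix_lemma hok hxZ₃ hYZ₃ hQ hc
    exact Subgroup.mem_sup_left this
  · -- Case (ii)
    push Not at hcase
    obtain ⟨z₀, hz₀, a₀, ha₀, b₀, hb₀, hne⟩ := hcase
    obtain ⟨B₀, hB₀, ht, hcc, hB₀c⟩ := h.exists_B0 hok hZZ₃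
    have hB₀ne : B₀ ≠ A := by
      rintro rfl
      exact hne (commutatorElement_eq_one_iff_mul_comm.mpr (hB₀c z₀ hz₀ a₀ ha₀ b₀ hb₀))
    have hB₀Q := h.Q_le_of_le hok hB₀ ht hB₀ne
    refine hcc (mem_cc.mpr ⟨hYZ₃ c hc, ?_⟩)
    intro b hb
    have hbQ := hB₀Q hb
    rw [← commutatorElement_eq_one_iff_mul_comm, h.N_q_N hbQ hc hxC, h.N_q_N hbQ hd hyeC, h.N_q_N hbQ he hy]
    set zb := ⁅b, y⁆ with hzb
    have hzbZ : zb ∈ Zc C := h.hPC b hbQ.2 y hy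
    have hv : ⁅e, zb⁆ ∈ Zc C := h.nZ (h.hAS he) hzbZ
    have hvQ : ∀ q ∈ A ⊓ P, q * ⁅e, zb⁆ = ⁅e, zb⁆ * q := by
      intro q hq
      rw [← commutatorElement_eq_one_iff_mul_comm, h.N_comm_Z hq.1 he hzbZ]
      have e1 : ⁅q, zb⁆ = ⁅b, ⁅q, y⁆⁆ := h.N_q_N hq hbQ.1 hy
      have hzq : ⁅q, y⁆ ∈ Zc C := h.hPC q hq.2 y hy
      have e2 : ⁅b, ⁅q, y⁆⁆ ∈ A := by
        refine h.mem_of_comm (h.CS (h.nZ (h.hAS hbQ.1) hzq).1) ?_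
        intro a' ha'
        rw [← commutatorElement_eq_one_iff_mul_comm, h.N_comm_Z ha' hbQ.1 hzq]
        exact commutatorElement_eq_one_iff_mul_comm.mpr (hB₀c _ hzq a' ha' b hb)
      rw [e1]
      exact h.n_A he e2
    exact h.n_A hc (h.F2 hv hvQ hd).1

end Core

/-- From the core lemma to all `y`. -/
theorem all_three {y : G} (hy : y ∈ C) : LL A (WZ C A) 3 y := by
  have step : ∀ k : ℕ, ∀ y ∈ C, LL A (WZ C A) (k + 4) y → LL A (WZ C A) (k + 3) y := by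
    intro k
    induction k with
    | zero =>
      intro y hy hL a ha b hb c hc
      refine h.core hy ?_ hc hb ha
      intro d hd e he f hf g hg
      exact hL g hg f hf e he d hd
    | succ k ih =>
      intro y hy hL a ha
      exact ih _ (h.nC (h.hAS ha) hy) (hL a ha)
  have down : ∀ k : ℕ, ∀ y ∈ C, LL A (WZ C A) (k + 3) y → LL A (WZ C A) 3 y := by
    intro k
    induction k with
    | zero => exact fun y _ hL => hL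
    | succ k ih =>
      intro y hy hL
      exact ih y hy (step k y hy (by rwa [show k + 4 = k + 1 + 3 by ring]))
  obtain ⟨n, hn⟩ := h.exists_KK (A := A)
  refine down n y hy (LL_of_KK _ _ _ _ ?_)
  exact KK_mono A (by omega) y (hn y (h.CS hy))

end Ctx

end Cfsg.Agent.Lib.J7a
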