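import Mathlib
import Cfsg.Agent.Lib.J7c
import Cfsg.Agent.Lib.KInfLocal
import Cfsg.Agent.Lib.NPCThompson

/-!
# Control of transfer by the Thompson subgroup for `p ≥ 7`
-/

set_option autoImplicit false

universe u

namespace Cfsg.Agent.Lib.J7a

open Cfsg Cfsg.Agent.Lib.EngelChief Cfsg.Agent.Lib.PCore Cfsg.Agent.Lib.SecFunctor Cfsg.Agent.Lib.TransferLocal
open Cfsg.Agent.Lib.KInfLocal Cfsg.Agent.Lib.TransferRed Cfsg.Agent.Lib.NPCThompson
open Cfsg.Agent.Lib.AbConj (comm_sup mem_sup_of_commute)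

open scoped commutatorElement

section Up

variable {G : Type*} [Group G]

/-- Elements whose commutators with `A` fall into `L`. -/
def Up (R L A : Subgroup G) (hn : ∀ x ∈ R, ∀ l ∈ L, x * l * x⁻¹ ∈ L) : Subgroup G where
  carrier := {x | x ∈ R ∧ ∀ a ∈ A, ⁅a, x⁆ ∈ L}
  mul_mem' := by
    rintro x y ⟨hx, hx'⟩ ⟨hy, hy'⟩
    refine ⟨R.mul_mem hx hy, fun a ha => ?_⟩
    have e : ⁅a, x * y⁆ = ⁅a, x⁆ * (x * ⁅a, y⁆ * x⁻¹) := by simp only [commutatorElement_def]; group
    rw [e]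
    exact L.mul_mem (hx' a ha) (hn x hx _ (hy' a ha))
  one_mem' := ⟨R.one_mem, fun a _ => by rw [commutatorElement_one_right]; exact L.one_mem⟩
  inv_mem' := by
    rintro x ⟨hx, hx'⟩
    refine ⟨R.inv_mem hx, fun a ha => ?_⟩
    have e : ⁅a, x⁻¹⁆ = x⁻¹ * (⁅a, x⁆)⁻¹ * x⁻¹⁻¹ := by simp only [commutatorElement_def]; group
    rw [e]
    exact hn _ (R.inv_mem hx) _ (L.inv_mem (hx' a ha))

theorem mem_Up {R L A : Subgroup G} {hn : ∀ x ∈ R, ∀ l ∈ L, x * l * x⁻¹ ∈ L} {x : G} :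
    x ∈ Up R L A hn ↔ x ∈ R ∧ ∀ a ∈ A, ⁅a, x⁆ ∈ L := Iff.rfl

theorem comm_le_Up {R L A N H : Subgroup G} {hn : ∀ x ∈ R, ∀ l ∈ L, x * l * x⁻¹ ∈ L} (hN : N ≤ Up R L A hn)
    (hH : H ≤ A) : ⁅N, H⁆ ≤ L := by
  rw [Subgroup.commutator_le]
  intro n hn' h' hh
  rw [← commutatorElement_inv]
  exact L.inv_mem ((hN hn').2 h' (hH hh))

end Up

namespace Ctx

variable {G : Type*} [Group G] [Finite G] {p : ℕ} [hp : Fact p.Prime]
variable {S P C A : Subgroup G} (h : Ctx p S P C A)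

include h

/-- Conjugation by `C` on overgroups of the centre. -/
theorem conj_C_L {L : Subgroup G} (hZL : Zc C ≤ L) (hLC : L ≤ C) : ∀ x ∈ C, ∀ l ∈ L, x * l * x⁻¹ ∈ L := by
  intro x hx l hl
  have e : x * l * x⁻¹ = ⁅x, l⁆ * l := by simp only [commutatorElement_def]; group
  rw [e]
  exact L.mul_mem (hZL (h.hC2 x hx l (hLC hl))) hl

/-- Overgroups of the centre. -/
theorem Up_C {L : Subgroup G} (hZL : Zc C ≤ L) (hLC : L ≤ C) :
    Zc C ≤ Up C L A (h.conj_C_L hZL hLC) ∧ Up C L A (h.conj_C_L hZL hLC) ≤ C := by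
  refine ⟨fun z hz => ⟨hz.1, fun a ha => hZL (h.nZ (h.hAS ha) hz)⟩, fun x hx => hx.1⟩

/-- **Part I.** -/
theorem iter_four {g : G} (hg : g ∈ A) : iterCommutator C (Subgroup.zpowers g) 4 ≤ Zc C := by
  have hH : Subgroup.zpowers g ≤ A := Subgroup.zpowers_le.mpr hg
  have z0 : Zc C ≤ WZ C A := le_sup_right
  have c0 : WZ C A ≤ C := h.WZ_le
  obtain ⟨z1, c1⟩ := h.Up_C (A := A) z0 c0
  obtain ⟨z2, c2⟩ := h.Up_C (A := A) z1 c1
  obtain ⟨z3, c3⟩ := h.Up_C (A := A) z2 c2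
  set L1 := Up C (WZ C A) A (h.conj_C_L z0 c0) with hL1
  set L2 := Up C L1 A (h.conj_C_L z1 c1) with hL2
  set L3 := Up C L2 A (h.conj_C_L z2 c2) with hL3
  have hC3 : C ≤ L3 := by
    intro y hy
    have hN : ∀ {e x : G}, e ∈ A → x ∈ C → ⁅e, x⁆ ∈ C := fun he hx => h.nC (h.hAS he) hx
    refine ⟨hy, fun a ha => ⟨hN ha hy, fun b hb => ⟨hN hb (hN ha hy), fun c hc => ?_⟩⟩⟩
    exact h.all_three hy a ha b hb c hc
  have i1 : iterCommutator C (Subgroup.zpowers g) 1 ≤ L2 := comm_le_Up hC3 hH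
  have i2 : iterCommutator C (Subgroup.zpowers g) 2 ≤ L1 := comm_le_Up (i1.trans le_rfl) hH
  have i3 : iterCommutator C (Subgroup.zpowers g) 3 ≤ WZ C A := comm_le_Up (i2.trans le_rfl) hH
  have hWZ : WZ C A ≤ Up C (Zc C) A (h.conj_C_L le_rfl inf_le_left) := by
    intro t ht
    refine ⟨c0 ht, fun a ha => ?_⟩
    obtain ⟨w, hw, z, hz, rfl⟩ := h.mem_WZ ht
    have e : ⁅a, w * z⁆ = ⁅a, w⁆ * (w * ⁅a, z⁆ * w⁻¹) := by
      simp only [commutatorElement_def]; group
    rw [e, h.n_A ha hw.1, one_mul]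
    exact h.conj_C_L le_rfl inf_le_left w hw.2 _ (h.nZ (h.hAS ha) hz)
  exact comm_le_Up (i3.trans hWZ) hH

/-- **Part II.** -/
theorem iter_three {U V : Subgroup G} {g : G} (hg : g ∈ A) (hU : U ≤ Zc C) (hV : V ≤ Zc C)
    (hVn : ∀ a ∈ A, ∀ v ∈ V, a * v * a⁻¹ ∈ V) (hq : ∀ q ∈ P, ∀ z ∈ U, ⁅q, z⁆ ∈ V) :
    iterCommutator U (Subgroup.zpowers g) 3 ≤ V := by
  have hH : Subgroup.zpowers g ≤ A := Subgroup.zpowers_le.mpr hg
  have hn : ∀ {L : Subgroup G}, L ≤ Zc C → ∀ x ∈ Zc C, ∀ l ∈ L, x * l * x⁻¹ ∈ L := by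
    intro L hL x hx l hl
    rw [h.zz_comm hx (hL hl)]
    simpa using hl
  set L1 := Up (Zc C) V A (hn hV) with hL1
  have h1 : L1 ≤ Zc C := fun x hx => hx.1
  set L2 := Up (Zc C) L1 A (hn h1) with hL2
  have h2 : L2 ≤ Zc C := fun x hx => hx.1
  set L3 := Up (Zc C) L2 A (hn h2) with hL3
  have hU3 : U ≤ L3 := by
    intro z hz
    have hzZ := hU hz
    have hN : ∀ {e x : G}, e ∈ A → x ∈ Zc C → ⁅e, x⁆ ∈ Zc C := fun he hx => h.nZ (h.hAS he) hx
    refine ⟨hzZ, fun a ha => ⟨hN ha hzZ, fun b hb => ⟨hN hb (hN ha hzZ), fun c hc => ?_⟩⟩⟩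
    exact h.chief_cube hVn hzZ (fun q hq' => hq q hq' z hz) ha hb hc
  have i1 : iterCommutator U (Subgroup.zpowers g) 1 ≤ L2 := comm_le_Up hU3 hH
  have i2 : iterCommutator U (Subgroup.zpowers g) 2 ≤ L1 := comm_le_Up i1 hH
  exact comm_le_Up i2 hH

end Ctx

section Thompson

variable {Q : Type*} [Group Q] [Finite Q]

theorem forall_comm_of {Q : Type*} [Group Q] {A : Subgroup Q} (h : IsMulCommutative A) :
    ∀ a ∈ A, ∀ b ∈ A, a * b = b * a := fun a ha b hb =>
  congrArg Subtype.val (mul_comm' (⟨a, ha⟩ : A) ⟨b, hb⟩)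

theorem exists_maxAb (Q : Type*) [Group Q] [Finite Q] : ∃ A, A ∈ maxAbelianSubgroups Q := by
  let E : Set (Subgroup Q) := {A | IsMulCommutative A}
  have hE : E.Nonempty := ⟨⊥, (inferInstance : IsMulCommutative (⊥ : Subgroup Q))⟩
  obtain ⟨A, hA, hmax⟩ := Set.exists_max_image E (fun A => Nat.card A) (Set.toFinite E) hE
  exact ⟨A, hA, fun B hB => hmax B hB⟩

/-- If all abelian subgroups of largest order lie in `T`, the Thompson subgroups of `Q` and `T` agree. -/
theorem thompson_eq_of_le (T : Subgroup Q) (hT : ∀ A ∈ maxAbelianSubgroups Q, A ≤ T) :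
    thompsonSubgroupA Q = (thompsonSubgroupA T).map T.subtype := by
  have hsubt : ∀ {B : Subgroup T}, IsMulCommutative B → IsMulCommutative (B.map T.subtype) := by
    intro B hB
    refine ⟨⟨?_⟩⟩
    rintro ⟨_, a, ha, rfl⟩ ⟨_, b, hb, rfl⟩
    apply Subtype.ext
    have := forall_comm_of hB a ha b hb
    show (T.subtype a) * (T.subtype b) = (T.subtype b) * (T.subtype a)
    rw [← map_mul, ← map_mul, this]
  have hcardmap : ∀ B : Subgroup T, Nat.card (B.map T.subtype) = Nat.card B := fun B =>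
    Nat.card_congr (Subgroup.equivMapOfInjective B T.subtype T.subtype_injective).symm.toEquiv
  have hof : ∀ {A : Subgroup Q}, IsMulCommutative A → IsMulCommutative (A.subgroupOf T) := by
    intro A hA
    refine ⟨⟨?_⟩⟩
    rintro ⟨a, ha⟩ ⟨b, hb⟩
    apply Subtype.ext
    apply Subtype.ext
    exact forall_comm_of hA _ ha _ hb
  apply le_antisymm
  · unfold thompsonSubgroupA
    refine sSup_le ?_
    intro A hA
    have hAT := hT A hA
    have hmem : A.subgroupOf T ∈ maxAbelianSubgroups T := by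
      refine ⟨hof hA.1, fun B hB => ?_⟩
      have h1 := hA.2 _ (hsubt hB)
      rw [hcardmap] at h1
      rwa [show Nat.card (A.subgroupOf T) = Nat.card A from
        Nat.card_congr (Subgroup.subgroupOfEquivOfLe hAT).toEquiv]
    have h2 : A.subgroupOf T ≤ sSup (maxAbelianSubgroups T) := le_sSup hmem
    have h3 := Subgroup.map_mono (f := T.subtype) h2
    rwa [Subgroup.map_subgroupOf_eq_of_le hAT] at h3
  · rw [Subgroup.map_le_iff_le_comap]
    unfold thompsonSubgroupA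
    refine sSup_le ?_
    intro B hB
    rw [← Subgroup.map_le_iff_le_comap]
    refine le_sSup ⟨hsubt hB.1, fun D hD => ?_⟩
    rw [hcardmap]
    obtain ⟨A₀, hA₀⟩ := exists_maxAb Q
    have hAT := hT A₀ hA₀
    refine (hA₀.2 D hD).trans ?_
    have h1 := hB.2 _ (hof hA₀.1)
    rwa [show Nat.card (A₀.subgroupOf T) = Nat.card A₀ from
      Nat.card_congr (Subgroup.subgroupOfEquivOfLe hAT).toEquiv] at h1

end Thompson

section Main

variable {X : Type u} [Group X] [Finite X] {p : ℕ} [hp : Fact p.Prime]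

/-- The functor. -/
abbrev JJ : ∀ (Q : Type u) [Group Q], Subgroup Q := fun Q _ => thompsonSubgroupA Q

/-- If `J(S)` is not normal, an abelian subgroup of largest order of `S` is not in `O_p`. -/
theorem exists_max_not_le (S : Sylow p X) (hN : ¬ (inducedFunctor (G := X) JJ (S : Subgroup X)).Normal) :
    ∃ A : Subgroup X, A ≤ S ∧ (∀ a ∈ A, ∀ b ∈ A, a * b = b * a) ∧
      (∀ B : Subgroup X, B ≤ S → (∀ a ∈ B, ∀ b ∈ B, a * b = b * a) → Nat.card B ≤ Nat.card A) ∧
      ¬ A ≤ pCore p X := by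
  classical
  have hPS := pCore_le_sylow (G := X) p S
  have hPn : (pCore p X).Normal := inferInstance
  set f : (S : Subgroup X) →* X := (S : Subgroup X).subtype with hf
  have hfi : Function.Injective f := (S : Subgroup X).subtype_injective
  set T' : Subgroup (S : Subgroup X) := (pCore p X).subgroupOf (S : Subgroup X) with hT'
  have hT'm : T'.map f = pCore p X := Subgroup.map_subgroupOf_eq_of_le hPS
  by_cases hall : ∀ A ∈ maxAbelianSubgroups (S : Subgroup X), A ≤ T'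
  · exfalso
    apply hN
    have hTp : IsPGroup p T' := S.isPGroup'.to_subgroup T'
    have hW : IsCharPFunctor.{u} p JJ := isCharPFunctor_thompsonA
    have he := thompson_eq_of_le T' hall
    have h3 : inducedFunctor (G := X) JJ (S : Subgroup X) = inducedFunctor (G := X) JJ (pCore p X) := by
      show (thompsonSubgroupA (S : Subgroup X)).map f = _
      rw [he]
      conv_rhs => rw [← hT'm]
      exact Cfsg.Agent.Lib.NPCFunctor.map_inducedFunctor hW T' hTp f (fun x _ hx => hfi (by simpa using hx))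
    rw [h3]
    apply Subgroup.normalizer_eq_top_iff.mp
    rw [eq_top_iff, ← Subgroup.normalizer_eq_top_iff.mpr hPn]
    exact normalizer_le_induced hW _ (isPGroup_pCore p)
  · push Not at hall
    obtain ⟨A', hA', hnle⟩ := hall
    have hab := forall_comm_of hA'.1
    refine ⟨A'.map f, Subgroup.map_subtype_le _, ?_, ?_, ?_⟩
    · rintro _ ⟨a, ha, rfl⟩ _ ⟨b, hb, rfl⟩
      rw [← map_mul, ← map_mul, hab a ha b hb]
    · intro B hBS hB
      have h1 := hA'.2 (B.subgroupOf (S : Subgroup X)) ⟨⟨by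
        rintro ⟨a, ha⟩ ⟨b, hb⟩
        apply Subtype.ext
        apply Subtype.ext
        exact hB _ ha _ hb⟩⟩
      rw [show Nat.card (B.subgroupOf (S : Subgroup X)) = Nat.card B from
        Nat.card_congr (Subgroup.subgroupOfEquivOfLe hBS).toEquiv] at h1
      rw [show Nat.card (A'.map f) = Nat.card A' from
        Nat.card_congr (Subgroup.equivMapOfInjective A' f hfi).symm.toEquiv]
      exact h1
    · intro hle
      apply hnle
      intro x hx
      exact hle ⟨x, hx, rfl⟩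

/-- **The element.** -/
theorem exists_engel_six (hp7 : 7 ≤ p) (S : Sylow p X)
    (hN : ¬ (inducedFunctor (G := X) JJ (S : Subgroup X)).Normal) :
    ∃ g : X, g ∈ (S : Subgroup X) ∧ g ∉ pCore p X ∧
      ∀ U V : Subgroup X, IsChiefFactor U V → U ≤ pCore p X → iterCommutator U (Subgroup.zpowers g) 6 ≤ V := by
  classical
  obtain ⟨C, hCn, hCP, -, -, -, hC3, hC4⟩ := exists_critical X p
  obtain ⟨A₀, hA₀S, hA₀c, hA₀m, hA₀P⟩ := exists_max_not_le S hN
  have hPS := pCore_le_sylow (G := X) p S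
  let 𝓐 : Set (Subgroup X) := {B | B ≤ S ∧ (∀ a ∈ B, ∀ b ∈ B, a * b = b * a) ∧ Nat.card B = Nat.card A₀ ∧
    ¬ B ≤ pCore p X}
  have hne : 𝓐.Nonempty := ⟨A₀, hA₀S, hA₀c, rfl, hA₀P⟩
  obtain ⟨A, hA, hmax⟩ := Set.exists_max_image 𝓐 (fun B => Nat.card ↥(B ⊓ C)) (Set.toFinite 𝓐) hne
  obtain ⟨hAS, hAc, hAcard, hAP⟩ := hA
  have hPC : ∀ x ∈ pCore p X, ∀ y ∈ C, ⁅x, y⁆ ∈ Zc C := fun x hx y hy =>
    hC3 (Subgroup.commutator_mem_commutator hx hy)
  have hctx : Ctx p (S : Subgroup X) (pCore p X) C A := by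
    refine ⟨S.isPGroup', hPS, hCP, hAS, hAc, ?_, hAP, ?_, ?_, ?_, hPC, by have := hp.out; omega⟩
    · intro B hBS hB
      rw [hAcard]
      exact hA₀m B hBS hB
    · intro B hBS hB hcard hBP
      exact hmax B ⟨hBS, hB, hcard.trans hAcard, hBP⟩
    · intro s _ x hx
      exact hCn.conj_mem x hx s
    · intro x hx y hy
      exact hPC x (hCP hx) y hy
  obtain ⟨g, hgA, hgP⟩ := Set.not_subset.mp hAP
  refine ⟨g, hAS hgA, hgP, ?_⟩
  have hZn : (Zc C).Normal := inferInstance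
  have hzc : ∀ U V : Subgroup X, IsChiefFactor U V → U ≤ Zc C →
      iterCommutator U (Subgroup.zpowers g) 3 ≤ V := by
    intro U V hch hU
    have hVn := hch.2.2.1
    refine hctx.iter_three hgA hU (hch.1.le.trans hU) (fun a _ v hv => hVn.conj_mem v hv a) ?_
    intro q hq z hz
    have h1 := chief_central (isPGroup_pCore p) hch (hU.trans (inf_le_left.trans hCP))
    rw [← commutatorElement_inv]
    exact V.inv_mem (h1 (Subgroup.commutator_mem_commutator hz hq))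
  have hd1 : Deg g 4 C (Zc C) := deg_of_iter_le (hctx.iter_four hgA)
  have hd2 : Deg g 4 (Zc C) ⊥ := by
    intro U V hch _ hU
    have hVn := hch.2.2.1
    exact iter_le_of_le _ (by omega) (hzc U V hch hU)
  have hd4 := deg_ext hd2 hd1 bot_le inf_le_left
  exact degree_of_critical (pCore p X) C (isPGroup_pCore p) hCP hC3 hC4 g 4 3 (by norm_num) (by norm_num)
    (fun U V hch hU => hd4 U V hch bot_le hU) hzc

/-- **Control of transfer by the Thompson subgroup.** -/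
theorem ft_thompson (hp7 : 7 ≤ p) (X : Type u) [Group X] [Finite X] : FT {JJ} p X := by
  have hW : IsCharPFunctor.{u} p JJ := isCharPFunctor_thompsonA
  have h𝓦 : ∀ W' ∈ ({JJ} : Set (∀ (Q : Type u) [Group Q], Subgroup Q)), IsCharPFunctor.{u} p W' := by
    intro W' hW'
    rw [Set.mem_singleton_iff] at hW'
    rw [hW']
    exact hW
  refine ft_of_sec' h𝓦 (Sec := fun _ _ => True) ?_ ?_ ?_ X trivial
  · intro _ _ _ _
    trivial
  · intro _ _ _ _ _
    trivial
  · intro X _ _ _ hsub _ S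
    by_cases hN : (inducedFunctor (G := X) JJ (S : Subgroup X)).Normal
    · rw [TT_singleton, Subgroup.normalizer_eq_top_iff.mpr hN]
      refine inf_le_inf (pCore_le_sylow p S) ?_
      exact le_of_eq rfl
    · obtain ⟨g, hg1, hg2, hg3⟩ := exists_engel_six hp7 S hN
      refine local_theorem h𝓦 ⟨JJ, rfl⟩ hsub S g hg1 hg2 ?_
      intro U V hch hU
      have hVn := hch.2.2.1
      exact iter_le_of_le _ (by omega) (hg3 U V hch hU)

end Main

end Cfsg.Agent.Lib.J7a
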