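import Mathlib
import Cfsg.Prelude.Def_PLocal
import Cfsg.Agent.Lib.Replacement
import Cfsg.Agent.Lib.AbReplace

/-!
# The orbit map of a maximal abelian subgroup: when `{[u, b]}` generates an abelian group
-/

set_option autoImplicit false

namespace Cfsg.Agent.Lib.JConfig4

open Cfsg.Agent.Lib.Replacement Cfsg.Agent.Lib.AbReplace
open scoped commutatorElement

/-- If `Y₂ = ⟨[u,b] : b ∈ A⟩` is abelian, with `A` abelian of largest order in `T` and `u ∈ T`, then every element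
of `Y₂` is `[u,b]` modulo `Y₂ ∩ A`. -/
theorem fiber_onto {G : Type*} [Group G] [Finite G] (T A Y₂ : Subgroup G) (hAT : A ≤ T)
    (hAc : ∀ a ∈ A, ∀ b ∈ A, a * b = b * a)
    (hAmax : ∀ B : Subgroup G, B ≤ T → (∀ a ∈ B, ∀ b ∈ B, a * b = b * a) → Nat.card B ≤ Nat.card A)
    (u : G) (hu : u ∈ T)
    (hY₂ : Y₂ = Subgroup.closure ((fun b => u⁻¹ * (b * u * b⁻¹)) '' (A : Set G)))
    (hY₂c : ∀ x ∈ Y₂, ∀ y ∈ Y₂, x * y = y * x) :
    ∀ y ∈ Y₂, ∃ b ∈ A, (u⁻¹ * (b * u * b⁻¹))⁻¹ * y ∈ A := by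
  classical
  set f : G → G := fun b => u⁻¹ * (b * u * b⁻¹) with hf
  have hfY : ∀ b ∈ A, f b ∈ Y₂ := by
    intro b hb
    rw [hY₂]
    exact Subgroup.subset_closure ⟨b, hb, rfl⟩
  have hY₂T : Y₂ ≤ T := by
    rw [hY₂, Subgroup.closure_le]
    rintro _ ⟨b, hb, rfl⟩
    exact T.mul_mem (T.inv_mem hu) (T.mul_mem (T.mul_mem (hAT hb) hu) (T.inv_mem (hAT hb)))
  set C := A ⊓ Subgroup.centralizer (Y₂ : Set G) with hC
  set Y₀ := Y₂ ⊓ A with hY₀
  have hCA : C ≤ A := inf_le_left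
  have hY₀Y : Y₀ ≤ Y₂ := inf_le_left
  have hCc : ∀ c ∈ C, ∀ y ∈ Y₂, y * c = c * y := fun c hc y hy =>
    Subgroup.mem_centralizer_iff.mp hc.2 y hy
  have hcount : Nat.card Y₂ * Nat.card C ≤ Nat.card A * Nat.card Y₀ := by
    have h1 := card_sup_mul_card_inf Y₂ C (by
      intro y hy
      apply mem_normalizer_of_forall
      intro c hc
      rw [hCc c hc y hy]
      simpa using hc)
    have h2 : Y₂ ⊓ C = Y₀ := by
      apply le_antisymm
      · exact inf_le_inf_left _ hCA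
      · intro y hy
        refine ⟨hy.1, hy.2, ?_⟩
        refine Subgroup.mem_centralizer_iff.mpr ?_
        intro z hz
        exact hY₂c z hz y hy.1
    have h3 : Nat.card ↥(Y₂ ⊔ C) ≤ Nat.card A := by
      apply hAmax
      · exact sup_le hY₂T (hCA.trans hAT)
      · apply comm_sup _ _ hY₂c
        · exact fun a ha b hb => hAc a (hCA ha) b (hCA hb)
        · exact fun a ha b hb => hCc b hb a ha
    rw [h2] at h1
    rw [← h1]
    exact Nat.mul_le_mul_right _ h3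
  have hinj : ∀ x ∈ A, ∀ x' ∈ A, (f x)⁻¹ * f x' ∈ Y₀ → x⁻¹ * x' ∈ C := by
    intro x hx x' hx' hxx
    set c := x⁻¹ * x' with hc
    have hcA : c ∈ A := A.mul_mem (A.inv_mem hx) hx'
    have hx'c : x' = x * c := by rw [hc]; group
    set z := f c with hz
    have hzY : z ∈ Y₂ := hfY c hcA
    have h1 : (f x)⁻¹ * f x' = x * z * x⁻¹ := by
      rw [hx'c, hz]
      simp only [hf]
      group
    rw [h1] at hxx
    have hzA : z ∈ A := by
      have h2 : z = x⁻¹ * (x * z * x⁻¹) * x := by group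
      rw [h2]
      exact A.mul_mem (A.mul_mem (A.inv_mem hx) hxx.2) hx
    refine ⟨hcA, ?_⟩
    -- `c` centralizes `Y₂`
    have h2 : Y₂ ≤ Subgroup.centralizer ({c} : Set G) := by
      rw [hY₂, Subgroup.closure_le]
      rintro _ ⟨d, hd, rfl⟩
      rw [SetLike.mem_coe, Subgroup.mem_centralizer_iff]
      rintro _ rfl
      have hcu : c * u * c⁻¹ = u * z := by
        rw [hz]; simp only [hf]; group
      have h3 : c * (f d) * c⁻¹ = z⁻¹ * f d * z := by
        have h4 : c * f d * c⁻¹ = (c * u * c⁻¹)⁻¹ * (c * d * c⁻¹) * (c * u * c⁻¹) * (c * d⁻¹ * c⁻¹) := by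
          simp only [hf]; group
        have hcd : c * d * c⁻¹ = d := by
          rw [hAc c hcA d hd]; group
        have hcd' : c * d⁻¹ * c⁻¹ = d⁻¹ := by
          rw [hAc c hcA d⁻¹ (A.inv_mem hd)]; group
        rw [h4, hcu, hcd, hcd']
        have hzd : z * d⁻¹ = d⁻¹ * z := hAc z hzA _ (A.inv_mem hd)
        simp only [hf]
        calc (u * z)⁻¹ * d * (u * z) * d⁻¹ = z⁻¹ * u⁻¹ * d * u * (z * d⁻¹) := by group
          _ = z⁻¹ * u⁻¹ * d * u * (d⁻¹ * z) := by rw [hzd]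
          _ = _ := by group
      have h5 : z⁻¹ * f d * z = f d := by
        rw [hY₂c (z⁻¹ * f d) (Y₂.mul_mem (Y₂.inv_mem hzY) (hfY d hd)) z hzY]
        group
      rw [h5] at h3
      have h6 : c * f d = f d * c := mul_inv_eq_iff_eq_mul.mp h3
      exact h6
    refine Subgroup.mem_centralizer_iff.mpr ?_
    intro y hy
    have h3 := Subgroup.mem_centralizer_iff.mp (h2 hy) c rfl
    exact h3.symm
  -- the map on cosets
  let φ : A ⧸ C.subgroupOf A → Y₂ ⧸ Y₀.subgroupOf Y₂ := fun q =>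
    (QuotientGroup.mk (⟨f q.out.1, hfY _ q.out.2⟩ : Y₂) : Y₂ ⧸ Y₀.subgroupOf Y₂)
  have hφi : Function.Injective φ := by
    intro q q' h
    rw [QuotientGroup.eq, Subgroup.mem_subgroupOf] at h
    have h' : (f q.out.1)⁻¹ * f q'.out.1 ∈ Y₀ := by simpa using h
    have h2 := hinj _ q.out.2 _ q'.out.2 h'
    have h3 : (QuotientGroup.mk q.out : A ⧸ C.subgroupOf A) = QuotientGroup.mk q'.out := by
      rw [QuotientGroup.eq, Subgroup.mem_subgroupOf]
      simpa using h2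
    simpa using h3
  have hidx : (Y₀.subgroupOf Y₂).index ≤ (C.subgroupOf A).index := by
    have h1 : (C.subgroupOf A).index * Nat.card C = Nat.card A := by
      have := Subgroup.index_mul_card (C.subgroupOf A)
      rwa [show Nat.card (C.subgroupOf A) = Nat.card C from
        Nat.card_congr (Subgroup.subgroupOfEquivOfLe hCA).toEquiv] at this
    have h2 : (Y₀.subgroupOf Y₂).index * Nat.card Y₀ = Nat.card Y₂ := by
      have := Subgroup.index_mul_card (Y₀.subgroupOf Y₂)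
      rwa [show Nat.card (Y₀.subgroupOf Y₂) = Nat.card Y₀ from
        Nat.card_congr (Subgroup.subgroupOfEquivOfLe hY₀Y).toEquiv] at this
    rw [← h1, ← h2] at hcount
    have hC0 : 0 < Nat.card C := Nat.card_pos
    have hY0 : 0 < Nat.card Y₀ := Nat.card_pos
    have h3 : (Y₀.subgroupOf Y₂).index * (Nat.card Y₀ * Nat.card C) ≤
        (C.subgroupOf A).index * (Nat.card Y₀ * Nat.card C) := by
      calc _ = (Y₀.subgroupOf Y₂).index * Nat.card Y₀ * Nat.card C := by ring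
        _ ≤ (C.subgroupOf A).index * Nat.card C * Nat.card Y₀ := hcount
        _ = _ := by ring
    exact Nat.le_of_mul_le_mul_right h3 (Nat.mul_pos hY0 hC0)
  have hφb : Function.Bijective φ := by
    apply Function.Injective.bijective_of_nat_card_le hφi
    rw [← Subgroup.index_eq_card, ← Subgroup.index_eq_card]
    exact hidx
  intro y hy
  obtain ⟨q, hq⟩ := hφb.2 (QuotientGroup.mk (⟨y, hy⟩ : Y₂))
  refine ⟨q.out.1, q.out.2, ?_⟩
  have hq' := QuotientGroup.eq.mp hq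
  rw [Subgroup.mem_subgroupOf] at hq'
  exact hq'.2

/-- Expansion of a commutator in a group of class at most two. -/
theorem comm4 {G : Type*} [Group G] {X Y : Subgroup G}
    (hZ : ∀ x ∈ X, ∀ y ∈ Y, x * y = y * x) (hc : ∀ a ∈ X, ∀ b ∈ X, ⁅a, b⁆ ∈ Y) {a b c d : G}
    (ha : a ∈ X) (hb : b ∈ X) (hcX : c ∈ X) (hd : d ∈ X) :
    ⁅a * b, c * d⁆ = ⁅a, c⁆ * ⁅a, d⁆ * ⁅b, c⁆ * ⁅b, d⁆ := by
  have h1 : ∀ {r s t : G}, r ∈ X → s ∈ X → t ∈ X → ⁅r * s, t⁆ = ⁅r, t⁆ * ⁅s, t⁆ := by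
    intro r s t hr hs ht
    have h2 := hZ r hr _ (hc s hs t ht)
    have h3 : ⁅r * s, t⁆ = r * ⁅s, t⁆ * t * r⁻¹ * t⁻¹ := by
      simp only [commutatorElement_def]; group
    rw [h3, h2]
    have h4 := hZ (r * t * r⁻¹ * t⁻¹) (X.mul_mem (X.mul_mem (X.mul_mem hr ht) (X.inv_mem hr)) (X.inv_mem ht)) _ (hc s hs t ht)
    calc ⁅s, t⁆ * r * t * r⁻¹ * t⁻¹ = ⁅s, t⁆ * (r * t * r⁻¹ * t⁻¹) := by group
      _ = (r * t * r⁻¹ * t⁻¹) * ⁅s, t⁆ := h4.symm
      _ = ⁅r, t⁆ * ⁅s, t⁆ := by rw [commutatorElement_def r t]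
  have h2 : ∀ {r s t : G}, r ∈ X → s ∈ X → t ∈ X → ⁅r, s * t⁆ = ⁅r, s⁆ * ⁅r, t⁆ := by
    intro r s t hr hs ht
    have h3 : ⁅r, s * t⁆ = ⁅s * t, r⁆⁻¹ := (commutatorElement_inv _ _).symm
    rw [h3, h1 hs ht hr, mul_inv_rev, commutatorElement_inv, commutatorElement_inv]
    have h4 := hZ _ (X.mul_mem (X.mul_mem (X.mul_mem hr ht) (X.inv_mem hr)) (X.inv_mem ht)) _ (hc r hr s hs)
    rw [commutatorElement_def r t]
    exact h4
  rw [h1 ha hb (X.mul_mem hcX hd), h2 ha hcX hd, h2 hb hcX hd]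
  group

end Cfsg.Agent.Lib.JConfig4
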