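import Mathlib
import Cfsg.Prelude.Def_LocalEven
import Cfsg.Agent.Lib.JConfig3
import Cfsg.Agent.Lib.JConfig4
import Cfsg.Agent.Lib.NPCConfig
import Cfsg.Agent.Lib.Replacement

/-!
# Chief factors and the class two computation for the Thompson subgroup in a configuration
-/

set_option autoImplicit false

namespace Cfsg.Agent.Lib.JConfig5

open Cfsg Cfsg.Agent.Lib.PCore Cfsg.Agent.Lib.JConfig3 Cfsg.Agent.Lib.JConfig4
open scoped commutatorElement

/-- The class two computation: the elements `g x g⁻¹ · g⁻¹ x g` commute when `g` runs over a subgroup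
which centralizes `Y` and is abelian modulo the kernel of its action on `X / Y`. -/
theorem x_comm {G : Type*} [Group G] {X Y K₁ L : Subgroup G}
    (hZ : ∀ x ∈ X, ∀ y ∈ Y, x * y = y * x) (hc : ∀ a ∈ X, ∀ b ∈ X, ⁅a, b⁆ ∈ Y)
    (hKX : ∀ k ∈ K₁, ∀ x ∈ X, k * x * k⁻¹ ∈ X)
    (hKY : ∀ k ∈ K₁, ∀ y ∈ Y, k * y = y * k)
    (hLX : ∀ l ∈ L, ∀ x ∈ X, l * x * l⁻¹ * x⁻¹ ∈ Y)
    (hKL : ∀ k ∈ K₁, ∀ l ∈ K₁, k * l * k⁻¹ * l⁻¹ ∈ L)
    {x : G} (hx : x ∈ X) {k l : G} (hk : k ∈ K₁) (hl : l ∈ K₁) :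
    ((k * x * k⁻¹) * (k⁻¹ * x * k)) * ((l * x * l⁻¹) * (l⁻¹ * x * l)) =
      ((l * x * l⁻¹) * (l⁻¹ * x * l)) * ((k * x * k⁻¹) * (k⁻¹ * x * k)) := by
  set c : G → G := fun g => g * x * g⁻¹ with hcdef
  have hcX : ∀ g ∈ K₁, c g ∈ X := fun g hg => hKX g hg x hx
  set h : G → G := fun g => ⁅x, c g⁆ with hh
  have hhY : ∀ g ∈ K₁, h g ∈ Y := fun g hg => hc x hx _ (hcX g hg)
  -- (i)
  have h1 : ∀ s ∈ K₁, ∀ t ∈ K₁, ⁅c s, c t⁆ = h (s⁻¹ * t) := by
    intro s hs t ht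
    have hst : s⁻¹ * t ∈ K₁ := K₁.mul_mem (K₁.inv_mem hs) ht
    have h2 : ⁅c s, c t⁆ = s * h (s⁻¹ * t) * s⁻¹ := by
      simp only [hcdef, hh, commutatorElement_def]
      group
    rw [h2, hKY s hs _ (hhY _ hst)]
    group
  -- (ii)
  have h2 : ∀ g ∈ K₁, h g⁻¹ = (h g)⁻¹ := by
    intro g hg
    have h3 : h g⁻¹ = g⁻¹ * (h g)⁻¹ * g := by
      simp only [hcdef, hh, commutatorElement_def]
      group
    rw [h3, hKY _ (K₁.inv_mem hg) _ (Y.inv_mem (hhY g hg))]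
    group
  -- (iii)
  have h3 : ∀ g ∈ K₁, ∀ m ∈ L, h (g * m) = h g := by
    intro g hg m hm
    set y := m * x * m⁻¹ * x⁻¹ with hy
    have hyY : y ∈ Y := hLX m hm x hx
    have h4 : c (g * m) = g * y * g⁻¹ * c g := by
      simp only [hcdef, hy]
      group
    have h5 : g * y * g⁻¹ = y := by
      rw [hKY g hg y hyY]; group
    simp only [hh]
    rw [h4, h5]
    have h6 : ⁅x, y * c g⁆ = x * y * c g * x⁻¹ * (c g)⁻¹ * y⁻¹ := by
      simp only [commutatorElement_def]; group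
    rw [h6, hZ x hx y hyY]
    have h7 := hZ (x * c g * x⁻¹ * (c g)⁻¹)
      (X.mul_mem (X.mul_mem (X.mul_mem hx (hcX g hg)) (X.inv_mem hx)) (X.inv_mem (hcX g hg))) y hyY
    rw [commutatorElement_def]
    calc y * x * c g * x⁻¹ * (c g)⁻¹ * y⁻¹ = y * (x * c g * x⁻¹ * (c g)⁻¹) * y⁻¹ := by group
      _ = (x * c g * x⁻¹ * (c g)⁻¹) * y * y⁻¹ := by rw [← h7]
      _ = _ := by group
  have hkI := K₁.inv_mem hk
  have hlI := K₁.inv_mem hl
  have hexp := comm4 hZ hc (hcX k hk) (hcX k⁻¹ hkI) (hcX l hl) (hcX l⁻¹ hlI)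
  rw [h1 k hk l hl, h1 k hk l⁻¹ hlI, h1 k⁻¹ hkI l hl, h1 k⁻¹ hkI l⁻¹ hlI, inv_inv] at hexp
  have e1 : h (k * l) = (h (k⁻¹ * l⁻¹))⁻¹ := by
    have h4 := h2 (k⁻¹ * l⁻¹) (K₁.mul_mem hkI hlI)
    have h5 : (k⁻¹ * l⁻¹)⁻¹ = l * k := by group
    rw [h5] at h4
    rw [← h4]
    have h6 : k * l = l * k * (k⁻¹ * l⁻¹ * k⁻¹⁻¹ * l⁻¹⁻¹) := by group
    rw [h6]
    exact h3 _ (K₁.mul_mem hl hk) _ (hKL _ hkI _ hlI)
  have e2 : h (k * l⁻¹) = (h (k⁻¹ * l))⁻¹ := by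
    have h4 := h2 (k⁻¹ * l) (K₁.mul_mem hkI hl)
    have h5 : (k⁻¹ * l)⁻¹ = l⁻¹ * k := by group
    rw [h5] at h4
    rw [← h4]
    have h6 : k * l⁻¹ = l⁻¹ * k * (k⁻¹ * l * k⁻¹⁻¹ * l⁻¹) := by group
    rw [h6]
    exact h3 _ (K₁.mul_mem hlI hk) _ (hKL _ hkI _ hl)
  rw [e1, e2] at hexp
  have hexp1 : ⁅c k * c k⁻¹, c l * c l⁻¹⁆ = 1 := by
    rw [hexp]
    group
  have h5 := commutatorElement_eq_one_iff_mul_comm.mp hexp1
  simpa only [hcdef, inv_inv] using h5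

/-- A chief factor below a normal `p`-subgroup `L` is central for `L` and of exponent `p`. -/
theorem chief_props {X : Type*} [Group X] [Finite X] {p : ℕ} [hp : Fact p.Prime] {L U V : Subgroup X}
    (hLn : L.Normal) (hLp : IsPGroup p L) (hch : IsChiefFactor U V) (hU : U ≤ L) :
    (∀ u ∈ U, ∀ l ∈ L, u * l * u⁻¹ * l⁻¹ ∈ V) ∧ (∀ u ∈ U, u ^ p ∈ V) := by
  classical
  obtain ⟨hVU, hUn, hVn, hmin⟩ := hch
  haveI := hUn
  haveI := hVn
  haveI := hLn
  let π : X →* X ⧸ V := QuotientGroup.mk' V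
  have hπs : Function.Surjective π := QuotientGroup.mk'_surjective V
  have hπ1 : ∀ x, π x = 1 ↔ x ∈ V := fun x => QuotientGroup.eq_one_iff x
  set Y := U.map π with hY
  haveI hYn : Y.Normal := hUn.map π hπs
  set Λ := L.map π with hΛ
  haveI hΛn : Λ.Normal := hLn.map π hπs
  have hΛp : IsPGroup p Λ := hLp.map π
  have hYΛ : Y ≤ Λ := Subgroup.map_mono hU
  have hYp : IsPGroup p Y := hΛp.to_le hYΛ
  -- minimality
  have hchief : ∀ W : Subgroup (X ⧸ V), W.Normal → W ≤ Y → W = ⊥ ∨ W = Y := by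
    intro W hW hWY
    have h1 : V ≤ W.comap π := by
      intro v hv
      show π v ∈ W
      rw [(hπ1 v).mpr hv]
      exact W.one_mem
    have h2 : W.comap π ≤ U := by
      intro x hx
      obtain ⟨u, hu, hux⟩ := hWY hx
      have h3 : u⁻¹ * x ∈ V := by
        rw [← hπ1, map_mul, map_inv, ← hux, inv_mul_cancel]
      have h4 : x = u * (u⁻¹ * x) := by group
      rw [h4]
      exact U.mul_mem hu (hVU.le h3)
    have hmap : (W.comap π).map π = W := Subgroup.map_comap_eq_self_of_surjective hπs W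
    rcases hmin _ (hW.comap π) h1 h2 with h3 | h3
    · left
      rw [← hmap, h3, eq_bot_iff]
      rintro _ ⟨v, hv, rfl⟩
      rw [Subgroup.mem_bot, hπ1]
      exact hv
    · right
      rw [← hmap, h3]
  have hYne : Y ≠ ⊥ := by
    intro h0
    obtain ⟨u, hu, huV⟩ := SetLike.exists_of_lt hVU
    have h1 : π u ∈ Y := ⟨u, hu, rfl⟩
    rw [h0, Subgroup.mem_bot, hπ1] at h1
    exact huV h1
  -- `Λ` centralizes `Y`
  have hYΛc : ⁅Y, Λ⁆ = ⊥ := by
    rcases hchief _ (Subgroup.commutator_normal Y Λ) (Subgroup.commutator_le_left Y Λ) with h | h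
    · exact h
    · exfalso
      apply hYne
      apply Cfsg.Agent.Lib.Replacement.eq_bot_of_le_comm_pgroup hYp hΛp
      · rw [Subgroup.normalizer_eq_top_iff.mpr hYn]; exact le_top
      · rw [h]
  have hΛc : ∀ y ∈ Y, ∀ l ∈ Λ, y * l = l * y := by
    intro y hy l hl
    have h1 : ⁅y, l⁆ ∈ ⁅Y, Λ⁆ := Subgroup.commutator_mem_commutator hy hl
    rw [hYΛc, Subgroup.mem_bot, commutatorElement_eq_one_iff_mul_comm] at h1
    exact h1
  have hYc : ∀ x ∈ Y, ∀ y ∈ Y, x * y = y * x := fun x hx y hy => hΛc x hx y (hYΛ hy)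
  -- exponent `p`
  have hYexp : ∀ y ∈ Y, y ^ p = 1 := by
    let Yp : Subgroup (X ⧸ V) :=
      { carrier := {z | ∃ y ∈ Y, z = y ^ p}
        one_mem' := ⟨1, Y.one_mem, by simp⟩
        mul_mem' := by
          rintro _ _ ⟨y₁, hy₁, rfl⟩ ⟨y₂, hy₂, rfl⟩
          exact ⟨y₁ * y₂, Y.mul_mem hy₁ hy₂, (Commute.mul_pow (hYc y₁ hy₁ y₂ hy₂) p).symm⟩
        inv_mem' := by
          rintro _ ⟨y, hy, rfl⟩
          exact ⟨y⁻¹, Y.inv_mem hy, by simp⟩ }
    have hYpn : Yp.Normal := by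
      constructor
      rintro _ ⟨y, hy, rfl⟩ γ
      exact ⟨γ * y * γ⁻¹, hYn.conj_mem y hy γ, by simp [conj_pow]⟩
    have hYple : Yp ≤ Y := by
      rintro _ ⟨y, hy, rfl⟩
      exact Y.pow_mem hy p
    rcases hchief Yp hYpn hYple with h | h
    · intro y hy
      have h1 : y ^ p ∈ Yp := ⟨y, hy, rfl⟩
      rw [h, Subgroup.mem_bot] at h1
      exact h1
    · exfalso
      -- `y ↦ y^p` would be bijective on `Y`
      haveI : Nontrivial Y := (Subgroup.nontrivial_iff_ne_bot Y).2 hYne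
      obtain ⟨j, hj⟩ := IsPGroup.iff_card.mp hYp
      have hj0 : j ≠ 0 := by
        rintro rfl
        rw [pow_zero] at hj
        exact (Finite.one_lt_card (α := Y)).ne' hj
      have hpd : p ∣ Nat.card Y := by
        rw [hj]
        exact dvd_pow_self p hj0
      obtain ⟨y₀, hy₀⟩ := exists_prime_orderOf_dvd_card' p hpd
      let f : Y → Y := fun y => ⟨(y : X ⧸ V) ^ p, hYple ⟨y, y.2, rfl⟩⟩
      have hfs : Function.Surjective f := by
        intro y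
        have h1 : (y : X ⧸ V) ∈ Yp := by rw [h]; exact y.2
        obtain ⟨z, hz, hzy⟩ := h1
        exact ⟨⟨z, hz⟩, Subtype.ext hzy.symm⟩
      have hfi : Function.Injective f := Finite.injective_iff_surjective.mpr hfs
      have h2 : f y₀ = f 1 := by
        apply Subtype.ext
        have h3 : y₀ ^ p = 1 := by
          rw [← hy₀]
          exact pow_orderOf_eq_one y₀
        have h4 : (y₀ : X ⧸ V) ^ p = 1 := congrArg Subtype.val h3
        show (y₀ : X ⧸ V) ^ p = ((1 : Y) : X ⧸ V) ^ p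
        rw [h4]
        simp
      have h3 := hfi h2
      rw [h3, orderOf_one] at hy₀
      exact hp.out.one_lt.ne hy₀
  constructor
  · intro u hu l hl
    rw [← hπ1]
    have h1 := hΛc (π u) ⟨u, hu, rfl⟩ (π l) ⟨l, hl, rfl⟩
    simp only [map_mul, map_inv]
    rw [h1]
    group
  · intro u hu
    rw [← hπ1, map_pow]
    exact hYexp _ ⟨u, hu, rfl⟩

end Cfsg.Agent.Lib.JConfig5
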