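import Mathlib
import Cfsg.Agent.Lib.JConfig5

/-!
# In a configuration with `p ≥ 5`, abelian subgroups of the Sylow subgroup of maximal order lie in `O_p`
-/

set_option autoImplicit false

namespace Cfsg.Agent.Lib.JConfig6

open Cfsg Cfsg.Agent.Lib.PCore Cfsg.Agent.Lib.NPCConfig Cfsg.Agent.Lib.CharTwoLocal
open Cfsg.Agent.Lib.JConfig3 Cfsg.Agent.Lib.JConfig4 Cfsg.Agent.Lib.JConfig5
open scoped commutatorElement

universe u

theorem final_eq {C : Type*} [Group C] {a b c : C} (hab : a * b = b * a) :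
    b * b = a * c * ((a⁻¹ * c)⁻¹ * ((a⁻¹ * b) * (a⁻¹ * b))) := by
  have h1 : a * c * ((a⁻¹ * c)⁻¹ * ((a⁻¹ * b) * (a⁻¹ * b))) = (a * b) * a⁻¹ * b := by group
  rw [h1, hab]
  group

theorem config_le {G : Type u} [Group G] [Finite G] {p : ℕ} [hp : Fact p.Prime] (hp5 : 5 ≤ p) {T K : Subgroup G}
    (hC : Config p G T K) (hTp : IsPGroup p T) (A : Subgroup G) (hAT : A ≤ T)
    (hAc : ∀ a ∈ A, ∀ b ∈ A, a * b = b * a)
    (hAmax : ∀ B : Subgroup G, B ≤ T → (∀ a ∈ B, ∀ b ∈ B, a * b = b * a) → Nat.card B ≤ Nat.card A) :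
    A ≤ pCore p G := by
  classical
  by_contra hAL
  obtain ⟨a₀, ha₀, ha₀L⟩ := SetLike.not_le_iff_exists.mp hAL
  haveI hKn := hC.normal
  set L := pCore p G with hL
  have hLT : L ≤ T := by rw [hL, ← hC.inf_eq]; exact inf_le_right
  have hLK : L ≤ K := by rw [hL, ← hC.inf_eq]; exact inf_le_left
  have hLp : IsPGroup p L := isPGroup_pCore p
  have hLn : L.Normal := inferInstance
  obtain ⟨n, hn, hpow⟩ := hC.pow
  -- `p'`-elements
  let P' : Set G := {k | k ∈ K ∧ ∃ m : ℕ, m.Coprime p ∧ k ^ m = 1}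
  have hP'conj : ∀ k ∈ P', ∀ g : G, g * k * g⁻¹ ∈ P' := by
    rintro k ⟨hk, m, hm, hkm⟩ g
    exact ⟨hKn.conj_mem k hk g, m, hm, by rw [conj_pow, hkm]; group⟩
  set K₁ := Subgroup.closure P' with hK₁
  have hK₁n : K₁.Normal := by
    constructor
    intro x hx g
    induction hx using Subgroup.closure_induction with
    | mem x hx => exact Subgroup.subset_closure (hP'conj x hx g)
    | one => simp
    | mul a b _ _ ha hb =>
      have : g * (a * b) * g⁻¹ = (g * a * g⁻¹) * (g * b * g⁻¹) := by group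
      rw [this]; exact K₁.mul_mem ha hb
    | inv a _ ha =>
      have : g * a⁻¹ * g⁻¹ = (g * a * g⁻¹)⁻¹ := by group
      rw [this]; exact K₁.inv_mem ha
  have hK₁K : K₁ ≤ K := (Subgroup.closure_le _).mpr (fun k hk => hk.1)
  have hP'K₁ : ∀ k ∈ P', k ∈ K₁ := fun k hk => Subgroup.subset_closure hk
  -- representatives
  have hrep : ∀ k ∈ K, ∃ k' ∈ P', k'⁻¹ * k ∈ L := by
    intro k hk
    obtain ⟨e, m, hm, hem⟩ := Nat.exists_eq_pow_mul_and_not_dvd (orderOf_pos k).ne' p hp.out.ne_one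
    have hmc : m.Coprime p := ((Nat.Prime.coprime_iff_not_dvd hp.out).mpr hm).symm
    have hcop : Nat.gcd (p ^ e) m = 1 := Nat.Coprime.pow_left e hmc.symm
    have hbez : (p ^ e : ℤ) * Nat.gcdA (p ^ e) m + (m : ℤ) * Nat.gcdB (p ^ e) m = 1 := by
      have := Nat.gcd_eq_gcd_ab (p ^ e) m
      rw [hcop] at this
      push_cast at this
      exact this.symm
    have hk1 : k ^ (((p ^ e * m : ℕ) : ℤ)) = 1 := by
      rw [zpow_natCast, ← hem, pow_orderOf_eq_one]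
    set α := Nat.gcdA (p ^ e) m with hα
    set β := Nat.gcdB (p ^ e) m with hβ
    set k' := k ^ ((p ^ e : ℤ) * α) with hk'
    have hk'K : k' ∈ K := K.zpow_mem hk _
    have hk'm : k' ^ m = 1 := by
      rw [hk', ← zpow_natCast, ← zpow_mul]
      have : (p ^ e : ℤ) * α * (m : ℤ) = ((p ^ e * m : ℕ) : ℤ) * α := by push_cast; ring
      rw [this, zpow_mul, hk1, one_zpow]
    refine ⟨k', ⟨hk'K, m, hmc, hk'm⟩, ?_⟩
    have h1 : k'⁻¹ * k = k ^ ((m : ℤ) * β) := by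
      have h2 : (m : ℤ) * β = - ((p ^ e : ℤ) * α) + 1 := by linarith
      rw [h2, zpow_add, zpow_neg, zpow_one]
    have hmem : k'⁻¹ * k ∈ K := K.mul_mem (K.inv_mem hk'K) hk
    have h2 : (k'⁻¹ * k) ^ (p ^ e) = 1 := by
      rw [h1, ← zpow_natCast, ← zpow_mul]
      have : (m : ℤ) * β * ((p ^ e : ℕ) : ℤ) = ((p ^ e * m : ℕ) : ℤ) * β := by push_cast; ring
      rw [this, zpow_mul, hk1, one_zpow]
    apply mem_of_pow_mem_of_coprime (hpow _ hmem)
    have h3 : orderOf (k'⁻¹ * k) ∣ p ^ e := orderOf_dvd_of_pow_eq_one h2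
    exact Nat.Coprime.coprime_dvd_left h3 (Nat.Coprime.pow_left e hn.symm)
  -- `K₁` does not centralize `L`
  have hnc : ¬ ∀ l ∈ L, ∀ k ∈ K₁, k * l = l * k := by
    intro h
    have h1 : ∀ k ∈ P', k = 1 := by
      rintro k ⟨hk, m, hm, hkm⟩
      have h2 : k ∈ L := hC.cent (Subgroup.mem_centralizer_iff.mpr fun l hl =>
        (h l hl k (hP'K₁ k ⟨hk, m, hm, hkm⟩)).symm)
      exact eq_one_of_pow_eq_one_of_coprime hLp h2 hm hkm
    have h2 : K ≤ L := by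
      intro k hk
      obtain ⟨k', hk', h3⟩ := hrep k hk
      rw [h1 k' hk'] at h3
      simpa using h3
    apply hC.coatom.1
    have h3 := hC.sup_eq
    rw [sup_eq_right.mpr (h2.trans hLT)] at h3
    exact h3
  let 𝓢 : Set (Subgroup G) := {X | X.Normal ∧ X ≤ L ∧ ∃ x ∈ X, ∃ k ∈ K₁, k * x ≠ x * k}
  have h𝓢L : L ∈ 𝓢 := by
    refine ⟨hLn, le_refl _, ?_⟩
    by_contra hcon
    push Not at hcon
    exact hnc hcon
  obtain ⟨X, hX𝓢, hXmin⟩ := Set.exists_min_image 𝓢 (fun X => Nat.card X) (Set.toFinite _) ⟨L, h𝓢L⟩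
  obtain ⟨hXn, hXL, x₀, hx₀, k₀, hk₀, hk₀x₀⟩ := hX𝓢
  have hsmall : ∀ Z : Subgroup G, Z.Normal → Z ≤ X → Z ≠ X → ∀ z ∈ Z, ∀ k ∈ K₁, k * z = z * k := by
    intro Z hZn hZX hZne z hz k hk
    by_contra hne
    have := hXmin Z ⟨hZn, hZX.trans hXL, z, hz, k, hk, hne⟩
    exact hZne (Subgroup.eq_of_le_of_card_ge hZX this)
  have hXeq : ⁅X, K₁⁆ = X := by
    by_contra hne
    have hZn : (⁅X, K₁⁆).Normal := Subgroup.commutator_normal X K₁
    have hZX : ⁅X, K₁⁆ ≤ X := Subgroup.commutator_le_left X K₁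
    have h1 := hsmall _ hZn hZX hne
    have h2 : ∀ x ∈ X, ∀ k ∈ P', x * k = k * x := by
      rintro x hx k ⟨hkK, m, hm, hkm⟩
      have hk := hP'K₁ k ⟨hkK, m, hm, hkm⟩
      set c := x⁻¹ * (k * x * k⁻¹) with hc
      have hcZ : c ∈ ⁅X, K₁⁆ := by
        have h3 := Subgroup.commutator_mem_commutator (X.inv_mem hx) hk
        rw [commutatorElement_def, inv_inv] at h3
        convert h3 using 1
        rw [hc]; group
      have hck := h1 c hcZ k hk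
      have h3 : k * x * k⁻¹ = x * c := by rw [hc]; group
      have h4 := pow_orderOf_eq_one_of_conj h3 hck
      have h5 : (orderOf k).Coprime p := by
        have h6 : orderOf k ∣ m := orderOf_dvd_of_pow_eq_one hkm
        exact Nat.Coprime.coprime_dvd_left h6 hm
      have h6 : c = 1 := eq_one_of_pow_eq_one_of_coprime hLp (hXL (hZX hcZ)) h5 h4
      rw [h6, mul_one] at h3
      exact (mul_inv_eq_iff_eq_mul.mp h3).symm
    have h3 : ∀ x ∈ X, ∀ k ∈ K₁, k * x = x * k := by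
      intro x hx k hk
      have h4 : K₁ ≤ Subgroup.centralizer ({x} : Set G) := by
        rw [hK₁, Subgroup.closure_le]
        intro k' hk'
        exact Subgroup.mem_centralizer_iff.mpr (fun y hy => by
          rw [Set.mem_singleton_iff.mp hy]; exact h2 x hx k' hk')
      exact (Subgroup.mem_centralizer_iff.mp (h4 hk) x rfl).symm
    exact hk₀x₀ (h3 x₀ hx₀ k₀ hk₀)
  have hXK₁ : X ≤ K₁ := by
    calc X = ⁅X, K₁⁆ := hXeq.symm
      _ ≤ K₁ := Subgroup.commutator_le_right X K₁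
  -- `Y`
  have hbotX : (⊥ : Subgroup G) < X := by
    rw [bot_lt_iff_ne_bot]
    rintro rfl
    rw [Subgroup.mem_bot] at hx₀
    subst hx₀
    simp at hk₀x₀
  obtain ⟨Y, hY, hYmax⟩ := Set.exists_max_image {Z : Subgroup G | Z.Normal ∧ Z < X} (fun Z => Nat.card Z)
    (Set.toFinite _) ⟨⊥, inferInstance, hbotX⟩
  obtain ⟨hYn, hYX⟩ := hY
  have hch : IsChiefFactor X Y := by
    refine ⟨hYX, hXn, hYn, fun N hNn hYN hNX => ?_⟩
    by_cases h : N = X
    · exact Or.inr h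
    · exact Or.inl (Subgroup.eq_of_le_of_card_ge hYN (hYmax N ⟨hNn, lt_of_le_of_ne hNX h⟩)).symm
  have hYc : ∀ y ∈ Y, ∀ k ∈ K₁, k * y = y * k := hsmall Y hYn hYX.le hYX.ne
  have hZ : ∀ x ∈ X, ∀ y ∈ Y, x * y = y * x := fun x hx y hy => hYc y hy x (hXK₁ hx)
  obtain ⟨hXLc, hXexp⟩ := chief_props hLn hLp hch hXL
  have hXX : ∀ a ∈ X, ∀ b ∈ X, ⁅a, b⁆ ∈ Y := fun a ha b hb => by
    have := hXLc a ha b (hXL hb)
    rwa [commutatorElement_def]
  have hLX : ∀ l ∈ L, ∀ x ∈ X, l * x * l⁻¹ * x⁻¹ ∈ Y := by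
    intro l hl x hx
    have h1 := Y.inv_mem (hXLc x hx l hl)
    have h2 : (x * l * x⁻¹ * l⁻¹)⁻¹ = l * x * l⁻¹ * x⁻¹ := by group
    rwa [h2] at h1
  have hKL : ∀ k ∈ K₁, ∀ l ∈ K₁, k * l * k⁻¹ * l⁻¹ ∈ L := fun k hk l hl => hC.comm k (hK₁K hk) l (hK₁K hl)
  -- the quotient
  haveI := hYn
  let π : G →* G ⧸ Y := QuotientGroup.mk' Y
  have hπs : Function.Surjective π := QuotientGroup.mk'_surjective Y
  have hπ1 : ∀ x, π x = 1 ↔ x ∈ Y := fun x => QuotientGroup.eq_one_iff x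
  set V := X.map π with hV
  haveI hVn : V.Normal := hXn.map π hπs
  have hVc : ∀ v ∈ V, ∀ w ∈ V, v * w = w * v := by
    rintro _ ⟨a, ha, rfl⟩ _ ⟨b, hb, rfl⟩
    have h1 := (hπ1 _).mpr (hXX a ha b hb)
    rw [map_commutatorElement, commutatorElement_eq_one_iff_mul_comm] at h1
    exact h1
  have hVp : ∀ v ∈ V, v ^ p = 1 := by
    rintro _ ⟨a, ha, rfl⟩
    rw [← map_pow, hπ1]
    exact hXexp a ha
  have hVL : ∀ v ∈ V, ∀ l ∈ L, v * π l = π l * v := by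
    rintro _ ⟨a, ha, rfl⟩ l hl
    have h1 := (hπ1 _).mpr (hXLc a ha l hl)
    simp only [map_mul, map_inv] at h1
    have h2 : π a * π l * (π a)⁻¹ = π l := mul_inv_eq_one.mp h1
    exact mul_inv_eq_iff_eq_mul.mp h2
  -- the action of `K` modulo `L`
  have hne : ∃ a ∈ A.map π, ∃ k ∈ K₁.map π, ∃ v ∈ V, (a * k * a⁻¹) * v * (a * k * a⁻¹)⁻¹ ≠ k * v * k⁻¹ := by
    by_contra hcon
    push Not at hcon
    let Kw : Subgroup G := K ⊓ (Subgroup.centralizer (V : Set (G ⧸ Y))).comap π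
    have hmemKw : ∀ k, k ∈ Kw ↔ k ∈ K ∧ ∀ v ∈ V, v * π k = π k * v := by
      intro k
      constructor
      · intro h
        exact ⟨h.1, fun v hv => Subgroup.mem_centralizer_iff.mp h.2 v hv⟩
      · intro h
        exact ⟨h.1, Subgroup.mem_centralizer_iff.mpr h.2⟩
    haveI hCn : (Subgroup.centralizer (V : Set (G ⧸ Y))).Normal := Subgroup.normal_centralizer
    haveI hKwn : Kw.Normal := Subgroup.normal_inf_normal _ _
    have hLKw : L ≤ Kw := fun l hl => (hmemKw l).mpr ⟨hLK hl, fun v hv => hVL v hv l hl⟩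
    have hKwL : Kw ≤ L := by
      by_contra hcon2
      obtain ⟨w, hw, hwL⟩ := SetLike.not_le_iff_exists.mp hcon2
      have hwT : w ∉ T := by
        intro h
        apply hwL
        rw [hL, ← hC.inf_eq]
        exact ⟨((hmemKw w).mp hw).1, h⟩
      have hlt : T < Kw ⊔ T := by
        refine lt_of_le_of_ne le_sup_right ?_
        intro h
        apply hwT
        rw [h]
        exact Subgroup.mem_sup_left hw
      have htop := hC.coatom.2 _ hlt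
      have hKKw : K ≤ Kw := by
        intro k hk
        have h1 : k ∈ Kw ⊔ T := by rw [htop]; trivial
        obtain ⟨w', hw', t, ht, rfl⟩ := Subgroup.mem_sup_of_normal_left.mp h1
        have h2 : t ∈ K := by
          have h3 : t = w'⁻¹ * (w' * t) := by group
          rw [h3]
          exact K.mul_mem (K.inv_mem ((hmemKw w').mp hw').1) hk
        have h3 : t ∈ L := by
          rw [hL, ← hC.inf_eq]
          exact ⟨h2, ht⟩
        exact Kw.mul_mem hw' (hLKw h3)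
      have h1 : ⁅X, K₁⁆ ≤ Y := by
        rw [Subgroup.commutator_le]
        intro x hx k hk
        rw [← hπ1, map_commutatorElement, commutatorElement_eq_one_iff_mul_comm]
        exact ((hmemKw k).mp (hKKw (hK₁K hk))).2 _ ⟨x, hx, rfl⟩
      rw [hXeq] at h1
      exact (lt_irrefl _ (hYX.trans_le h1))
    -- `a₀` centralizes `K` modulo `L`
    have h1 : ∀ k ∈ P', a₀ * k * a₀⁻¹ * k⁻¹ ∈ L := by
      intro k hk
      have hkK := hk.1
      apply hKwL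
      refine (hmemKw _).mpr ⟨K.mul_mem (hKn.conj_mem k hkK a₀) (K.inv_mem hkK), ?_⟩
      intro v hv
      have hv' : (π k)⁻¹ * v * π k ∈ V := by simpa using hVn.conj_mem v hv (π k)⁻¹
      have h2 := hcon (π a₀) ⟨a₀, ha₀, rfl⟩ (π k) ⟨k, hP'K₁ k hk, rfl⟩ _ hv'
      simp only [map_mul, map_inv]
      set c := π a₀ * π k * (π a₀)⁻¹ with hc
      have h3 : π k * ((π k)⁻¹ * v * π k) * (π k)⁻¹ = v := by group
      rw [h3] at h2
      have h4 : v * (c * (π k)⁻¹) = (c * (π k)⁻¹) * v := by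
        have h5 : c * ((π k)⁻¹ * v * π k) = v * c := mul_inv_eq_iff_eq_mul.mp h2
        calc v * (c * (π k)⁻¹) = (v * c) * (π k)⁻¹ := by group
          _ = c * ((π k)⁻¹ * v * π k) * (π k)⁻¹ := by rw [h5]
          _ = _ := by group
      exact h4
    have h2 : ∀ k ∈ K, a₀ * k * a₀⁻¹ * k⁻¹ ∈ L := by
      intro k hk
      obtain ⟨k', hk', hl⟩ := hrep k hk
      set l := k'⁻¹ * k with hldef
      have hkl : k = k' * l := by rw [hldef]; group
      have h3 : a₀ * k * a₀⁻¹ * k⁻¹ = (a₀ * k' * a₀⁻¹ * k'⁻¹) * (k' * ((a₀ * l * a₀⁻¹) * l⁻¹) * k'⁻¹) := by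
        rw [hkl]; group
      rw [h3]
      exact L.mul_mem (h1 k' hk') (hLn.conj_mem _ (L.mul_mem (hLn.conj_mem l hl a₀) (L.inv_mem hl)) k')
    have ha₀T := hAT ha₀
    have h3 : ∀ g : G, g * a₀ * g⁻¹ ∈ T := by
      intro g
      have hg : g ∈ K ⊔ T := by rw [hC.sup_eq]; trivial
      obtain ⟨k, hk, t, ht, rfl⟩ := Subgroup.mem_sup_of_normal_left.mp hg
      set b := t * a₀ * t⁻¹ with hb
      have hbT : b ∈ T := T.mul_mem (T.mul_mem ht ha₀T) (T.inv_mem ht)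
      have h4 : b * k * b⁻¹ * k⁻¹ ∈ L := by
        have h5 : b * k * b⁻¹ * k⁻¹ = t * (a₀ * (t⁻¹ * k * t⁻¹⁻¹) * a₀⁻¹ * (t⁻¹ * k * t⁻¹⁻¹)⁻¹) * t⁻¹ := by
          rw [hb]; group
        rw [h5]
        exact hLn.conj_mem _ (h2 _ (hKn.conj_mem k hk t⁻¹)) t
      have h5 : (k * t) * a₀ * (k * t)⁻¹ = (b * k * b⁻¹ * k⁻¹)⁻¹ * b := by
        rw [hb]; group
      rw [h5]
      exact T.mul_mem (T.inv_mem (hLT h4)) hbT
    have hF : Subgroup.normalClosure ({a₀} : Set G) ≤ T := by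
      show Subgroup.closure _ ≤ _
      rw [Subgroup.closure_le]
      intro c hc
      rw [Group.mem_conjugatesOfSet_iff] at hc
      obtain ⟨a₁, ha₁, hconj₁⟩ := hc
      rw [Set.mem_singleton_iff] at ha₁
      subst ha₁
      rw [isConj_iff] at hconj₁
      obtain ⟨γ, rfl⟩ := hconj₁
      exact h3 γ
    have hFL : Subgroup.normalClosure ({a₀} : Set G) ≤ L :=
      le_pCore (Subgroup.normalClosure_normal) (hTp.to_le hF)
    exact ha₀L (hFL (Subgroup.subset_normalClosure (Set.mem_singleton a₀)))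
  obtain ⟨x, hx, k₂, hk₂, b, hb, hfix, hmain⟩ := module_step (p := p) hp5 V hVn hVc hVp (A.map π) (K₁.map π)
    ((hTp.to_le hAT).map π)
    (by
      rintro _ ⟨a, ha, rfl⟩ _ ⟨b, hb, rfl⟩ v hv
      rw [← map_mul, ← map_mul, hAc a ha b hb])
    (by
      rintro _ ⟨a, ha, rfl⟩ _ ⟨b, hb, rfl⟩ v hv
      set l := a * b * a⁻¹ * b⁻¹ with hl
      have hlL : l ∈ L := hKL a ha b hb
      have hab : π a * π b = π l * (π b * π a) := by
        rw [← map_mul, ← map_mul, ← map_mul, hl]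
        congr 1
        group
      have h2 : (π b * π a) * v * (π b * π a)⁻¹ ∈ V := hVn.conj_mem _ hv _
      have h3 := hVL _ h2 l hlL
      rw [hab]
      calc π l * (π b * π a) * v * (π l * (π b * π a))⁻¹
          = π l * ((π b * π a) * v * (π b * π a)⁻¹) * (π l)⁻¹ := by group
        _ = ((π b * π a) * v * (π b * π a)⁻¹) * π l * (π l)⁻¹ := by rw [h3]
        _ = _ := by group)
    hn
    (by
      rintro _ ⟨k, hk, rfl⟩ v hv
      have h2 := hVL v hv (k ^ n) (hpow k (hK₁K hk))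
      rw [← map_pow, ← h2]
      group)
    (by
      rintro _ ⟨a, _, rfl⟩ _ ⟨k, hk, rfl⟩
      exact ⟨a * k * a⁻¹, hK₁n.conj_mem k hk a, by simp only [map_mul, map_inv]⟩)
    hne
  obtain ⟨xh, hxh, rfl⟩ := hx
  obtain ⟨kh, hkh, rfl⟩ := hk₂
  obtain ⟨bh, hbh, rfl⟩ := hb
  obtain ⟨u, hu⟩ : ∃ u, u = (kh * xh * kh⁻¹) * (kh⁻¹ * xh * kh) := ⟨_, rfl⟩
  have hKX : ∀ k ∈ K₁, ∀ x ∈ X, k * x * k⁻¹ ∈ X := fun k _ x hx => hXn.conj_mem x hx k
  have hxkX : ∀ k ∈ K₁, (k * xh * k⁻¹) * (k⁻¹ * xh * k) ∈ X := fun k hk => by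
    refine X.mul_mem (hKX k hk xh hxh) ?_
    simpa using hKX k⁻¹ (K₁.inv_mem hk) xh hxh
  have huX : u ∈ X := by rw [hu]; exact hxkX kh hkh
  have hπu : π u = (π kh * π xh * (π kh)⁻¹) * ((π kh)⁻¹ * π xh * π kh) := by
    rw [hu]; simp only [map_mul, map_inv]
  rw [← hπu] at hmain
  let S : Set G := {z | ∃ k ∈ K₁, ∃ y ∈ Y, z = y * ((k * xh * k⁻¹) * (k⁻¹ * xh * k))}
  have hSc : ∀ a ∈ S, ∀ b ∈ S, a * b = b * a := by
    rintro _ ⟨k, hk, y, hy, rfl⟩ _ ⟨l, hl, y', hy', rfl⟩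
    have h1 := x_comm hZ hXX hKX (fun k hk y hy => hYc y hy k hk) hLX hKL hxh hk hl
    set xk := (k * xh * k⁻¹) * (k⁻¹ * xh * k)
    set xl := (l * xh * l⁻¹) * (l⁻¹ * xh * l)
    have h2 : y * y' = y' * y := hZ y (hYX.le hy) y' hy'
    have h3 : xk * y' = y' * xk := hZ _ (hxkX k hk) y' hy'
    have h4 : xl * y = y * xl := hZ _ (hxkX l hl) y hy
    calc y * xk * (y' * xl) = y * (xk * y') * xl := by group
      _ = y * y' * (xk * xl) := by rw [h3]; group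
      _ = y' * y * (xl * xk) := by rw [h1, h2]
      _ = y' * (y * xl) * xk := by group
      _ = y' * (xl * y) * xk := by rw [h4]
      _ = _ := by group
  have hSX : ∀ z ∈ S, z ∈ X := by
    rintro _ ⟨k, hk, y, hy, rfl⟩
    exact X.mul_mem (hYX.le hy) (hxkX k hk)
  set LL := Subgroup.closure S with hLL
  have hLLc : ∀ a ∈ LL, ∀ b ∈ LL, a * b = b * a := by
    exact Cfsg.Agent.Lib.AbReplace.forall_of_isMulCommutative (Subgroup.isMulCommutative_closure hSc)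
  have huS : u ∈ S := ⟨kh, hkh, 1, Y.one_mem, by rw [hu, one_mul]⟩
  have hdS : ∀ d ∈ A, d * u * d⁻¹ ∈ S := by
    intro d hd
    set yd := d * xh * d⁻¹ * xh⁻¹ with hyd
    have hydY : yd ∈ Y := by
      rw [← hπ1]
      have h1 := hfix (π d) ⟨d, hd, rfl⟩
      simp only [hyd, map_mul, map_inv]
      rw [h1]
      group
    set k₁ := d * kh * d⁻¹ with hk₁
    have hk₁K : k₁ ∈ K₁ := hK₁n.conj_mem kh hkh d
    have e1 : d * (kh * xh * kh⁻¹) * d⁻¹ = yd * (k₁ * xh * k₁⁻¹) := by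
      have h1 : d * (kh * xh * kh⁻¹) * d⁻¹ = (k₁ * yd * k₁⁻¹) * (k₁ * xh * k₁⁻¹) := by
        simp only [hk₁, hyd]; group
      rw [h1, hYc yd hydY k₁ hk₁K]
      group
    have e2 : d * (kh⁻¹ * xh * kh) * d⁻¹ = yd * (k₁⁻¹ * xh * k₁) := by
      have h1 : d * (kh⁻¹ * xh * kh) * d⁻¹ = (k₁⁻¹ * yd * k₁⁻¹⁻¹) * (k₁⁻¹ * xh * k₁) := by
        simp only [hk₁, hyd]; group
      rw [h1, hYc yd hydY _ (K₁.inv_mem hk₁K)]
      group
    refine ⟨k₁, hk₁K, yd * yd, Y.mul_mem hydY hydY, ?_⟩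
    have h3 : d * u * d⁻¹ = (d * (kh * xh * kh⁻¹) * d⁻¹) * (d * (kh⁻¹ * xh * kh) * d⁻¹) := by
      rw [hu]; group
    rw [h3, e1, e2]
    have h4 := hZ _ (hKX k₁ hk₁K xh hxh) yd hydY
    calc yd * (k₁ * xh * k₁⁻¹) * (yd * (k₁⁻¹ * xh * k₁))
        = yd * ((k₁ * xh * k₁⁻¹) * yd) * (k₁⁻¹ * xh * k₁) := by group
      _ = _ := by rw [h4]; group
  set Y₂ := Subgroup.closure ((fun b => u⁻¹ * (b * u * b⁻¹)) '' (A : Set G)) with hY₂
  have hY₂LL : Y₂ ≤ LL := by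
    rw [hY₂, Subgroup.closure_le]
    rintro _ ⟨d, hd, rfl⟩
    exact LL.mul_mem (LL.inv_mem (Subgroup.subset_closure huS)) (Subgroup.subset_closure (hdS d hd))
  have hY₂c : ∀ a ∈ Y₂, ∀ b ∈ Y₂, a * b = b * a := fun a ha b hb => hLLc a (hY₂LL ha) b (hY₂LL hb)
  have hfY : ∀ d ∈ A, u⁻¹ * (d * u * d⁻¹) ∈ Y₂ := fun d hd => Subgroup.subset_closure ⟨d, hd, rfl⟩
  obtain ⟨b', hb', ht⟩ := fiber_onto T A Y₂ hAT hAc hAmax u (hLT (hXL huX)) hY₂ hY₂c
    ((u⁻¹ * (bh * u * bh⁻¹)) * (u⁻¹ * (bh * u * bh⁻¹))) (Y₂.mul_mem (hfY bh hbh) (hfY bh hbh))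
  set t := (u⁻¹ * (b' * u * b'⁻¹))⁻¹ * ((u⁻¹ * (bh * u * bh⁻¹)) * (u⁻¹ * (bh * u * bh⁻¹))) with htdef
  have htY : t ∈ Y₂ := Y₂.mul_mem (Y₂.inv_mem (hfY b' hb')) (Y₂.mul_mem (hfY bh hbh) (hfY bh hbh))
  have hw₀ : π t ∈ Subgroup.closure {v | ∃ a ∈ A.map π, v = a * π u * a⁻¹} := by
    have h1 : Y₂ ≤ (Subgroup.closure {v | ∃ a ∈ A.map π, v = a * π u * a⁻¹}).comap π := by
      rw [hY₂, Subgroup.closure_le]
      rintro _ ⟨d, hd, rfl⟩
      change π (u⁻¹ * (d * u * d⁻¹)) ∈ Subgroup.closure _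
      rw [map_mul, map_inv]
      refine Subgroup.mul_mem _ (Subgroup.inv_mem _ (Subgroup.subset_closure ⟨1, Subgroup.one_mem _, by simp⟩)) ?_
      exact Subgroup.subset_closure ⟨π d, ⟨d, hd, rfl⟩, by simp only [map_mul, map_inv]⟩
    exact h1 htY
  refine hmain (π b') ⟨b', hb', rfl⟩ (π t) hw₀ ?_ ?_
  · rintro _ ⟨d, hd, rfl⟩
    rw [← map_inv, ← map_mul, ← map_mul, hAc d hd t ht]
    simp
  · have huV : π u ∈ V := ⟨u, huX, rfl⟩
    have hbV : π bh * π u * (π bh)⁻¹ ∈ V := hVn.conj_mem _ huV _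
    have h1 := final_eq (c := π b' * π u * (π b')⁻¹) (hVc _ huV _ hbV)
    rw [h1]
    simp only [htdef, map_mul, map_inv]

end Cfsg.Agent.Lib.JConfig6
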