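import Mathlib
import Cfsg.Agent.Lib.JConfig6
import Cfsg.Agent.Lib.NPCThompson
import Cfsg.Agent.Lib.CentralSylow
import Cfsg.Agent.Lib.AbReplace

/-!
# Normal `p`-complements and `N(J_A(S)) / C(J_A(S))`, `p ≥ 5`
-/

set_option autoImplicit false

namespace Cfsg.Agent.Lib.JConfig7

open Cfsg Cfsg.Agent.Lib.PCore Cfsg.Agent.Lib.NPCBasic Cfsg.Agent.Lib.NPCConfig Cfsg.Agent.Lib.CharTwoLocal
open Cfsg.Agent.Lib.NPCFunctor Cfsg.Agent.Lib.NPCThompson Cfsg.Agent.Lib.JConfig6
open Cfsg.Agent.Lib.AbReplace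

universe u

variable {p : ℕ} [hp : Fact p.Prime]

/-- In a configuration, `J_A(T)` is normal when `p ≥ 5`. -/
theorem config_thompson_normal {X : Type u} [Group X] [Finite X] (hp5 : 5 ≤ p) (T : Sylow p X) {K : Subgroup X}
    (hC : Config p X T K) : (thompsonSubgroupAOf (T : Subgroup X)).Normal := by
  classical
  have hTp : IsPGroup p (T : Subgroup X) := T.isPGroup'
  have hLT : pCore p X ≤ (T : Subgroup X) := by
    rw [← hC.inf_eq]; exact inf_le_right
  -- Members of `𝔸(T)` and subgroups of `X`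
  have hmax1 : ∀ A ∈ maxAbelianSubgroups (T : Subgroup X), ∀ B : Subgroup X, B ≤ (T : Subgroup X) →
      (∀ a ∈ B, ∀ b ∈ B, a * b = b * a) → Nat.card B ≤ Nat.card (A.map (T : Subgroup X).subtype) := by
    intro A hA B hBT hBc
    have h1 : Nat.card (A.map (T : Subgroup X).subtype) = Nat.card A :=
      Subgroup.card_map_of_injective (T : Subgroup X).subtype_injective
    have h2 : Nat.card (B.subgroupOf (T : Subgroup X)) = Nat.card B :=
      Nat.card_congr (Subgroup.subgroupOfEquivOfLe hBT).toEquiv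
    rw [h1, ← h2]
    apply hA.2
    apply isMulCommutative_of_forall
    intro a ha b hb
    exact Subtype.ext (hBc _ ha _ hb)
  have hle : ∀ A ∈ maxAbelianSubgroups (T : Subgroup X), A.map (T : Subgroup X).subtype ≤ pCore p X := by
    intro A hA
    apply config_le hp5 hC hTp (A.map (T : Subgroup X).subtype)
    · rintro _ ⟨a, -, rfl⟩
      exact a.2
    · rintro _ ⟨a, ha, rfl⟩ _ ⟨b, hb, rfl⟩
      exact congrArg Subtype.val (forall_of_isMulCommutative hA.1 a ha b hb)
    · exact hmax1 A hA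
  constructor
  intro j hj g
  obtain ⟨j₁, hj₁, rfl⟩ := hj
  -- it is enough to consider one member
  have hJ : thompsonSubgroupA (T : Subgroup X) ≤
      ((thompsonSubgroupAOf (T : Subgroup X)).comap (MulAut.conj g).toMonoidHom).subgroupOf (T : Subgroup X) := by
    refine sSup_le fun A hA => ?_
    intro a ha
    rw [Subgroup.mem_subgroupOf, Subgroup.mem_comap]
    -- the conjugate of `A`
    set B := (A.map (T : Subgroup X).subtype).map (MulAut.conj g).toMonoidHom with hB
    have hBL : B ≤ pCore p X := by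
      rintro _ ⟨x, hx, rfl⟩
      exact (inferInstance : (pCore p X).Normal).conj_mem x (hle A hA hx) g
    have hBT : B ≤ (T : Subgroup X) := hBL.trans hLT
    have hcardB : Nat.card B = Nat.card A := by
      rw [hB, Subgroup.card_map_of_injective (MulAut.conj g).injective,
        Subgroup.card_map_of_injective (T : Subgroup X).subtype_injective]
    have hBmem : B.subgroupOf (T : Subgroup X) ∈ maxAbelianSubgroups (T : Subgroup X) := by
      refine ⟨?_, ?_⟩
      · have hBc : ∀ u ∈ B, ∀ v ∈ B, u * v = v * u := by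
          rintro _ ⟨_, ⟨x₁, hx₁, rfl⟩, rfl⟩ _ ⟨_, ⟨y₁, hy₁, rfl⟩, rfl⟩
          have h3 := forall_of_isMulCommutative hA.1 x₁ hx₁ y₁ hy₁
          have h4 : (x₁ : X) * y₁ = y₁ * x₁ := congrArg Subtype.val h3
          show (MulAut.conj g).toMonoidHom (x₁ : X) * (MulAut.conj g).toMonoidHom (y₁ : X) =
            (MulAut.conj g).toMonoidHom (y₁ : X) * (MulAut.conj g).toMonoidHom (x₁ : X)
          rw [← map_mul, ← map_mul, h4]
        apply isMulCommutative_of_forall
        intro x hx y hy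
        exact Subtype.ext (hBc _ hx _ hy)
      · intro C hC'
        have h1 : Nat.card (B.subgroupOf (T : Subgroup X)) = Nat.card B :=
          Nat.card_congr (Subgroup.subgroupOfEquivOfLe hBT).toEquiv
        rw [h1, hcardB]
        exact hA.2 C hC'
    have h5 : (MulAut.conj g).toMonoidHom (a : X) ∈ B := ⟨a, ⟨a, ha, rfl⟩, rfl⟩
    refine ⟨⟨_, hBT h5⟩, ?_, rfl⟩
    have h6 : B.subgroupOf (T : Subgroup X) ≤ thompsonSubgroupA (T : Subgroup X) := le_sSup hBmem
    exact h6 h5
  have h1 := hJ hj₁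
  rw [Subgroup.mem_subgroupOf, Subgroup.mem_comap] at h1
  exact h1

/-- The hypothesis on `N(J)/C(J)` gives a normal `p`-complement of `N(J)`. -/
theorem hasNPC_normalizer {G : Type u} [Group G] [Finite G] (S : Sylow p G)
    (h : ∀ g ∈ Subgroup.normalizer (thompsonSubgroupAOf (S : Subgroup G) : Set G), (orderOf g).Coprime p →
        g ∈ Subgroup.centralizer (thompsonSubgroupAOf (S : Subgroup G) : Set G)) :
    HasNormalPComplement p (Subgroup.normalizer (thompsonSubgroupAOf (S : Subgroup G) : Set G)) := by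
  classical
  set J := thompsonSubgroupAOf (S : Subgroup G) with hJ
  set N := Subgroup.normalizer (J : Set G) with hN
  have hCN : Subgroup.centralizer (J : Set G) ≤ N := Subgroup.centralizer_le_normalizer _
  have hJS : J ≤ (S : Subgroup G) := by
    rintro _ ⟨a, -, rfl⟩
    exact a.2
  -- `S` normalizes `J`
  have hSN : (S : Subgroup G) ≤ N := by
    intro s hs
    apply Cfsg.Agent.Lib.Replacement.mem_normalizer_of_forall
    rintro _ ⟨y, hy, rfl⟩
    have h1 := (isCharPFunctor_thompsonA (p := p)).2 (S : Subgroup G) (S : Subgroup G) S.isPGroup'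
      (MulAut.conj (⟨s, hs⟩ : (S : Subgroup G)))
    have h2 : (MulAut.conj (⟨s, hs⟩ : (S : Subgroup G))).toMonoidHom y ∈ thompsonSubgroupA (S : Subgroup G) :=
      (SetLike.ext_iff.mp h1 _).mp ⟨y, hy, rfl⟩
    exact ⟨_, h2, rfl⟩
  -- `C_S(J) ≤ J`
  have hCS : ∀ z ∈ (S : Subgroup G), z ∈ Subgroup.centralizer (J : Set G) → z ∈ J := by
    intro z hz hzc
    let E : Set (Subgroup (S : Subgroup G)) := {A | IsMulCommutative A}
    have hE : E.Nonempty := ⟨⊥, (inferInstance : IsMulCommutative (⊥ : Subgroup (S : Subgroup G)))⟩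
    obtain ⟨A, hA, hmax⟩ := Set.exists_max_image E (fun A => Nat.card A) (Set.toFinite E) hE
    have hAm : A ∈ maxAbelianSubgroups (S : Subgroup G) := ⟨hA, fun B hB => hmax B hB⟩
    have hAJ : A ≤ thompsonSubgroupA (S : Subgroup G) := le_sSup hAm
    have h1 : Subgroup.zpowers (⟨z, hz⟩ : (S : Subgroup G)) ≤ A := by
      apply le_of_centralizes hAm
      · intro a ha b hb
        obtain ⟨i, rfl⟩ := Subgroup.mem_zpowers_iff.mp ha
        obtain ⟨j, rfl⟩ := Subgroup.mem_zpowers_iff.mp hb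
        rw [← zpow_add, ← zpow_add, add_comm]
      · intro a ha b hb
        have h2 : Subgroup.zpowers (⟨z, hz⟩ : (S : Subgroup G)) ≤
            Subgroup.centralizer ({a} : Set (S : Subgroup G)) := by
          rw [Subgroup.zpowers_le]
          refine Subgroup.mem_centralizer_iff.mpr fun y hy => ?_
          rw [Set.mem_singleton_iff.mp hy]
          apply Subtype.ext
          exact (Subgroup.mem_centralizer_iff.mp hzc (a : G) ⟨a, hAJ ha, rfl⟩)
        exact Subgroup.mem_centralizer_iff.mp (h2 hb) a rfl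
    have h2 := hAJ (h1 (Subgroup.mem_zpowers _))
    exact ⟨_, h2, rfl⟩
  let S' : Sylow p N := S.subtype hSN
  have hS' : ∀ x : N, x ∈ (S' : Subgroup N) ↔ (x : G) ∈ (S : Subgroup G) := fun x => by
    rw [Sylow.coe_subtype, Subgroup.mem_subgroupOf]
  set C' := (Subgroup.centralizer (J : Set G)).subgroupOf N with hC'
  have hC'mem : ∀ x : N, x ∈ C' ↔ (x : G) ∈ Subgroup.centralizer (J : Set G) := fun x => Subgroup.mem_subgroupOf
  haveI hC'n : C'.Normal := by
    constructor
    intro c hc n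
    rw [hC'mem] at hc ⊢
    refine Subgroup.mem_centralizer_iff.mpr fun j hj => ?_
    have h1 : (n : G)⁻¹ * j * n ∈ J := by
      have h2 := Subgroup.mem_normalizer_iff.mp (n⁻¹ : N).2 j
      have h3 := h2.mp hj
      simpa using h3
    have h2 := Subgroup.mem_centralizer_iff.mp hc _ h1
    have h3 : j = (n : G) * ((n : G)⁻¹ * j * n) * (n : G)⁻¹ := by group
    show j * ((n : G) * c * (n : G)⁻¹) = ((n : G) * c * (n : G)⁻¹) * j
    calc j * ((n : G) * c * (n : G)⁻¹) = (n : G) * (((n : G)⁻¹ * j * n) * c) * (n : G)⁻¹ := by group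
      _ = (n : G) * (c * ((n : G)⁻¹ * j * n)) * (n : G)⁻¹ := by rw [h2]
      _ = _ := by group
  have hcent := Cfsg.Agent.Lib.CentralSylow.central_sylow_le S' C' (by
    rintro z ⟨hz1, hz2⟩ c hc
    have h1 : (z : G) ∈ J := hCS _ ((hS' z).mp hz1) ((hC'mem z).mp hz2)
    apply Subtype.ext
    exact Subgroup.mem_centralizer_iff.mp ((hC'mem c).mp hc) _ h1)
  set O := pPrimeCore p N with hO
  let π : N →* N ⧸ O := QuotientGroup.mk' O
  have hπ1 : ∀ x, π x = 1 ↔ x ∈ O := fun x => QuotientGroup.eq_one_iff x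
  have hpel : ∀ x : N, (orderOf x).Coprime p → x ∈ O := by
    intro x hx
    have h1 : x ∈ C' := by
      rw [hC'mem]
      apply h _ x.2
      rwa [Subgroup.orderOf_coe]
    obtain ⟨s, hs, o, ho, rfl⟩ := Subgroup.mem_sup_of_normal_right.mp (hcent h1)
    rw [← hπ1]
    have h2 : π (s * o) = π s := by
      rw [map_mul, (hπ1 o).mpr ho, mul_one]
    rw [h2]
    have h3 : orderOf (π s) ∣ orderOf (s * o) := by
      rw [← h2]
      exact orderOf_map_dvd π _
    have h4 : (orderOf (π s)).Coprime p := Nat.Coprime.coprime_dvd_left h3 hx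
    have hSp : IsPGroup p (S' : Subgroup N) := S'.isPGroup'
    obtain ⟨k, hk⟩ := hSp ⟨s, hs.1⟩
    have hk' : s ^ p ^ k = 1 := by
      have := congrArg Subtype.val hk
      simpa using this
    have h5 : (π s) ^ p ^ k = 1 := by rw [← map_pow, hk', map_one]
    have h6 : orderOf (π s) ∣ p ^ k := orderOf_dvd_of_pow_eq_one h5
    have h7 : orderOf (π s) = 1 := by
      have h8 : Nat.gcd (orderOf (π s)) (p ^ k) = 1 := Nat.Coprime.pow_right k h4
      rw [Nat.gcd_eq_left h6] at h8
      exact h8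
    exact orderOf_eq_one_iff.mp h7
  have hQp : IsPGroup p (N ⧸ O) := by
    intro q
    obtain ⟨x, rfl⟩ := QuotientGroup.mk'_surjective O q
    obtain ⟨a, m, hm, hord⟩ := Nat.exists_eq_pow_mul_and_not_dvd (orderOf_pos x).ne' p hp.out.ne_one
    have hcop : m.Coprime p := ((Nat.Prime.coprime_iff_not_dvd hp.out).mpr hm).symm
    have hord2 : orderOf (x ^ p ^ a) = m := by
      rw [orderOf_pow' _ (pow_ne_zero _ hp.out.ne_zero), hord]
      rw [Nat.gcd_eq_right (Dvd.intro _ rfl)]
      exact Nat.mul_div_cancel_left _ (pow_pos hp.out.pos _)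
    refine ⟨a, ?_⟩
    have h1 := hpel (x ^ p ^ a) (by rw [hord2]; exact hcop)
    rw [← map_pow]
    exact (hπ1 _).mpr h1
  obtain ⟨k, hk⟩ := IsPGroup.iff_card.mp hQp
  refine hasNPC_iff.mpr ⟨O, inferInstance, card_pPrimeCore_coprime p, k, ?_⟩
  rw [Subgroup.index_eq_card]
  exact hk

/-- The theorem. -/
theorem hasNPC_iff_thompson {G : Type u} [Group G] [Finite G] (hp5 : 5 ≤ p) (S : Sylow p G) :
    HasNormalPComplement p G ↔
      ∀ g ∈ Subgroup.normalizer (thompsonSubgroupAOf (S : Subgroup G) : Set G), (orderOf g).Coprime p →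
        g ∈ Subgroup.centralizer (thompsonSubgroupAOf (S : Subgroup G) : Set G) := by
  classical
  constructor
  · intro h g hg hgc
    obtain ⟨M, hMn, hMc, k, hk⟩ := hasNPC_iff.mp h
    have h1 : g ^ p ^ k ∈ M := by
      rw [← hk]
      exact Subgroup.pow_index_mem M g
    have h2 : g ∈ M := mem_of_pow_mem_of_coprime h1 (Nat.Coprime.pow_right k hgc)
    refine Subgroup.mem_centralizer_iff.mpr fun j hj => ?_
    set J := thompsonSubgroupAOf (S : Subgroup G) with hJ
    have hJp : IsPGroup p J := by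
      apply S.isPGroup'.to_le
      rintro _ ⟨a, -, rfl⟩
      exact a.2
    have h3 : g * j * g⁻¹ ∈ J := (Subgroup.mem_normalizer_iff.mp hg j).mp hj
    have h4 : g * j * g⁻¹ * j⁻¹ ∈ J := J.mul_mem h3 (J.inv_mem hj)
    have h5 : g * j * g⁻¹ * j⁻¹ ∈ M := by
      have h6 := hMn.conj_mem g⁻¹ (M.inv_mem h2) j
      have h7 : g * j * g⁻¹ * j⁻¹ = g * (j * g⁻¹ * j⁻¹) := by group
      rw [h7]
      exact M.mul_mem h2 h6
    have h6 : g * j * g⁻¹ * j⁻¹ = 1 := by
      obtain ⟨a, ha⟩ := hJp ⟨_, h4⟩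
      have ha' : (g * j * g⁻¹ * j⁻¹) ^ p ^ a = 1 := by
        have := congrArg Subtype.val ha
        simpa using this
      have h8 : (g * j * g⁻¹ * j⁻¹) ^ Nat.card M = 1 := by
        have h9 : (⟨_, h5⟩ : M) ^ Nat.card M = 1 := pow_card_eq_one'
        exact congrArg Subtype.val h9
      have h10 : orderOf (g * j * g⁻¹ * j⁻¹) ∣ Nat.gcd (Nat.card M) (p ^ a) :=
        Nat.dvd_gcd (orderOf_dvd_of_pow_eq_one h8) (orderOf_dvd_of_pow_eq_one ha')
      rw [Nat.Coprime.pow_right a hMc, Nat.dvd_one, orderOf_eq_one_iff] at h10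
      exact h10
    have h7 : g * j * g⁻¹ = j := mul_inv_eq_one.mp h6
    exact (mul_inv_eq_iff_eq_mul.mp h7).symm
  · intro h
    have hW := isCharPFunctor_thompsonA.{u} (p := p)
    refine functor_reduction hW (Sec := fun _ _ => True) (fun _ _ _ _ => trivial) (fun _ _ _ _ _ => trivial)
      ?_ trivial S (hasNPC_normalizer S h)
    intro X _ _ T K _ hK
    exact config_thompson_normal hp5 T hK

end Cfsg.Agent.Lib.JConfig7
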