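import Mathlib

/-!
# Finite computations in the group `2 × A₅` (Janko's first group, order recognition)
-/

set_option autoImplicit false
set_option maxRecDepth 100000
set_option maxHeartbeats 4000000

namespace Cfsg.Agent.Lib.JOrdA

/-- The group `2 × A₅`. -/
abbrev CJ := Multiplicative (ZMod 2) × alternatingGroup (Fin 5)

/-- A `3`-cycle. -/
def a3 : alternatingGroup (Fin 5) :=
  ⟨Equiv.swap 0 1 * Equiv.swap 1 2, by rw [Equiv.Perm.mem_alternatingGroup]; decide⟩

/-- A `5`-cycle. -/
def a5 : alternatingGroup (Fin 5) :=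
  ⟨Equiv.swap 0 1 * Equiv.swap 1 2 * Equiv.swap 2 3 * Equiv.swap 3 4, by
    rw [Equiv.Perm.mem_alternatingGroup]; decide⟩

/-- The central involution. -/
def cz : CJ := (Multiplicative.ofAdd 1, 1)

/-- An element of order three. -/
def xx : CJ := (1, a3)

/-- An element of order five. -/
def zz : CJ := (1, a5)

/-- An element of order six. -/
def w6 : CJ := cz * xx

/-- An element of order ten. -/
def w10 : CJ := cz * zz

/-- Another element of order ten. -/
def w30 : CJ := cz * zz ^ 3

/-- Involutions. -/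
def isInv (y : CJ) : Prop := y ^ 2 = 1 ∧ y ≠ 1

/-- Elements of order three. -/
def is3 (y : CJ) : Prop := y ^ 3 = 1 ∧ y ≠ 1

/-- Elements of order six. -/
def is6 (y : CJ) : Prop := y ^ 6 = 1 ∧ y ^ 2 ≠ 1 ∧ y ^ 3 ≠ 1

instance : DecidablePred isInv := fun y => by unfold isInv; infer_instance
instance : DecidablePred is3 := fun y => by unfold is3; infer_instance
instance : DecidablePred is6 := fun y => by unfold is6; infer_instance

theorem center : ∀ y : CJ, (∀ w : CJ, y * w = w * y) → y ≠ 1 → y = cz := by decide +kernel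

theorem noncomm : ∃ x y : CJ, x * y ≠ y * x := by decide +kernel

theorem cz_sq : cz ^ 2 = 1 := by decide +kernel

theorem cz_ne : cz ≠ 1 := by decide +kernel

theorem card_all : Fintype.card CJ = 120 := by decide +kernel

theorem card_inv : Fintype.card {y : CJ // isInv y} = 31 := by decide +kernel

theorem w6_three : w6 ^ 3 = cz := by decide +kernel

theorem w10_five : w10 ^ 5 = cz := by decide +kernel

theorem w30_five : w30 ^ 5 = cz := by decide +kernel

theorem w6_real : ∃ g : CJ, g * w6 * g⁻¹ = w6⁻¹ := by decide +kernel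

theorem w10_real : ∃ g : CJ, g * w10 * g⁻¹ = w10⁻¹ := by decide +kernel

theorem w30_real : ∃ g : CJ, g * w30 * g⁻¹ = w30⁻¹ := by decide +kernel

theorem card_w6 : Fintype.card {y : CJ // y * w6 = w6 * y} = 6 := by decide +kernel

theorem card_w10 : Fintype.card {y : CJ // y * w10 = w10 * y} = 10 := by decide +kernel

theorem card_w30 : Fintype.card {y : CJ // y * w30 = w30 * y} = 10 := by decide +kernel

theorem card_PP_cz : Fintype.card {y : CJ // (y ^ 2 = 1 ∧ y ≠ 1) ∧ ((y⁻¹ * cz) ^ 2 = 1 ∧ y⁻¹ * cz ≠ 1)} = 30 := by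
  decide +kernel

theorem card_PP_w6 : Fintype.card {y : CJ // (y ^ 2 = 1 ∧ y ≠ 1) ∧ ((y⁻¹ * w6) ^ 2 = 1 ∧ y⁻¹ * w6 ≠ 1)} = 6 := by
  decide +kernel

theorem card_PP_w10 : Fintype.card {y : CJ // (y ^ 2 = 1 ∧ y ≠ 1) ∧ ((y⁻¹ * w10) ^ 2 = 1 ∧ y⁻¹ * w10 ≠ 1)} = 10 := by
  decide +kernel

theorem card_PP_w30 : Fintype.card {y : CJ // (y ^ 2 = 1 ∧ y ≠ 1) ∧ ((y⁻¹ * w30) ^ 2 = 1 ∧ y⁻¹ * w30 ≠ 1)} = 10 := by
  decide +kernel

theorem not_conj_w10 : ∀ g : CJ, g * w10 * g⁻¹ ≠ w30 := by decide +kernel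

theorem conj_is3 : ∀ y : CJ, is3 y → ∃ g : CJ, g * xx * g⁻¹ = y := by decide +kernel

theorem conj_is6 : ∀ y : CJ, is6 y → ∃ g : CJ, g * w6 * g⁻¹ = y := by decide +kernel

/-- The subgroup `V`. -/
def inV (y : CJ) : Prop := y.1 = 1 ∧ y.2.1 4 = 4 ∧ y ^ 2 = 1

/-- The Sylow subgroup `T`. -/
def inT (y : CJ) : Prop := y.2.1 4 = 4 ∧ y ^ 2 = 1

/-- The subgroup `2 × A₄`. -/
def inA (y : CJ) : Prop := y.2.1 4 = 4

/-- The subgroup `2 × 3`. -/
def inL (y : CJ) : Prop := y.2.1 3 = 3 ∧ y.2.1 4 = 4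

/-- The subgroup `2 × S₃`. -/
def inS (y : CJ) : Prop := (y.2.1 3 = 3 ∧ y.2.1 4 = 4) ∨ (y.2.1 3 = 4 ∧ y.2.1 4 = 3)

instance : DecidablePred inV := fun y => by unfold inV; infer_instance
instance : DecidablePred inT := fun y => by unfold inT; infer_instance
instance : DecidablePred inA := fun y => by unfold inA; infer_instance
instance : DecidablePred inL := fun y => by unfold inL; infer_instance
instance : DecidablePred inS := fun y => by unfold inS; infer_instance

theorem inV_mul : ∀ x : CJ, inV x → ∀ y : CJ, inV y → inV (x * y) := by decide +kernel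
theorem inT_mul : ∀ x : CJ, inT x → ∀ y : CJ, inT y → inT (x * y) := by decide +kernel
theorem inA_mul : ∀ x : CJ, inA x → ∀ y : CJ, inA y → inA (x * y) := by decide +kernel
theorem inL_mul : ∀ x : CJ, inL x → ∀ y : CJ, inL y → inL (x * y) := by decide +kernel
theorem inS_mul : ∀ x : CJ, inS x → ∀ y : CJ, inS y → inS (x * y) := by decide +kernel

theorem inV_one : inV 1 := by decide +kernel
theorem inT_one : inT 1 := by decide +kernel
theorem inA_one : inA 1 := by decide +kernel
theorem inL_one : inL 1 := by decide +kernel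
theorem inS_one : inS 1 := by decide +kernel

theorem inV_inv : ∀ x : CJ, inV x → inV x⁻¹ := by decide +kernel
theorem inT_inv : ∀ x : CJ, inT x → inT x⁻¹ := by decide +kernel
theorem inA_inv : ∀ x : CJ, inA x → inA x⁻¹ := by decide +kernel
theorem inL_inv : ∀ x : CJ, inL x → inL x⁻¹ := by decide +kernel
theorem inS_inv : ∀ x : CJ, inS x → inS x⁻¹ := by decide +kernel

/-- The subgroup `V`. -/
def subV : Subgroup CJ where
  carrier := {y | inV y}
  mul_mem' := fun {a b} ha hb => inV_mul a ha b hb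
  one_mem' := inV_one
  inv_mem' := fun {a} ha => inV_inv a ha

/-- The subgroup `T`. -/
def subT : Subgroup CJ where
  carrier := {y | inT y}
  mul_mem' := fun {a b} ha hb => inT_mul a ha b hb
  one_mem' := inT_one
  inv_mem' := fun {a} ha => inT_inv a ha

/-- The subgroup `2 × A₄`. -/
def subA : Subgroup CJ where
  carrier := {y | inA y}
  mul_mem' := fun {a b} ha hb => inA_mul a ha b hb
  one_mem' := inA_one
  inv_mem' := fun {a} ha => inA_inv a ha

/-- The subgroup `2 × 3`. -/
def subL : Subgroup CJ where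
  carrier := {y | inL y}
  mul_mem' := fun {a b} ha hb => inL_mul a ha b hb
  one_mem' := inL_one
  inv_mem' := fun {a} ha => inL_inv a ha

/-- The subgroup `2 × S₃`. -/
def subS : Subgroup CJ where
  carrier := {y | inS y}
  mul_mem' := fun {a b} ha hb => inS_mul a ha b hb
  one_mem' := inS_one
  inv_mem' := fun {a} ha => inS_inv a ha

theorem card_inV : Fintype.card {y : CJ // inV y} = 4 := by decide +kernel
theorem card_inT : Fintype.card {y : CJ // inT y} = 8 := by decide +kernel
theorem card_inA : Fintype.card {y : CJ // inA y} = 24 := by decide +kernel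
theorem card_inL : Fintype.card {y : CJ // inL y} = 6 := by decide +kernel
theorem card_inS : Fintype.card {y : CJ // inS y} = 12 := by decide +kernel

theorem T_le_A : ∀ y : CJ, inT y → inA y := fun _ h => h.1
theorem L_le_S : ∀ y : CJ, inL y → inS y := fun _ h => Or.inl h

/-- A nontrivial element of `V`. -/
def vv : CJ := (1, ⟨Equiv.swap 0 1 * Equiv.swap 2 3, by rw [Equiv.Perm.mem_alternatingGroup]; decide⟩)

theorem vv_inV : inV vv := by decide +kernel

theorem vv_ne : vv ≠ 1 := by decide +kernel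

/-- All nontrivial elements of `V` are conjugate. -/
theorem conj_V : ∀ v : CJ, (inV v ∧ v ≠ 1) → ∃ g : CJ, g * vv * g⁻¹ = v := by
  decide +kernel

theorem cover_T : ∀ y : CJ, inT y → y = 1 ∨ isInv y := by decide +kernel
theorem cover_A : ∀ y : CJ, inA y → y = 1 ∨ isInv y ∨ is3 y ∨ is6 y := by decide +kernel
theorem cover_L : ∀ y : CJ, inL y → y = 1 ∨ isInv y ∨ is3 y ∨ is6 y := by decide +kernel
theorem cover_S : ∀ y : CJ, inS y → y = 1 ∨ isInv y ∨ is3 y ∨ is6 y := by decide +kernel

theorem cnt_T : Fintype.card {y : CJ // inT y ∧ isInv y} = 7 := by decide +kernel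
theorem cnt_A : Fintype.card {y : CJ // inA y ∧ isInv y} = 7 ∧ Fintype.card {y : CJ // inA y ∧ is3 y} = 8 ∧
    Fintype.card {y : CJ // inA y ∧ is6 y} = 8 := by decide +kernel
theorem cnt_L : Fintype.card {y : CJ // inL y ∧ isInv y} = 1 ∧ Fintype.card {y : CJ // inL y ∧ is3 y} = 2 ∧
    Fintype.card {y : CJ // inL y ∧ is6 y} = 2 := by decide +kernel
theorem cnt_S : Fintype.card {y : CJ // inS y ∧ isInv y} = 7 ∧ Fintype.card {y : CJ // inS y ∧ is3 y} = 2 ∧
    Fintype.card {y : CJ // inS y ∧ is6 y} = 2 := by decide +kernel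

end Cfsg.Agent.Lib.JOrdA
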