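import Mathlib
import Cfsg.Agent.Lib.JOrdA
import Cfsg.Agent.Lib.D8CentGroup
import Cfsg.Agent.Lib.CharInd

/-!
# Groups with an involution whose centralizer is `2 × A₅`: the group theory
-/

set_option autoImplicit false
set_option linter.unusedVariables false
set_option linter.unusedSectionVars false

namespace Cfsg.Agent.Lib.JOrdB

open Subgroup Cfsg.Agent.Lib.JOrdA
open scoped commutatorElement
open Cfsg.Agent.Lib.D8CentGroup (PP PP_invert exists_conj_mem)

section

variable {G : Type*} [Group G] [Finite G] {t : G} (e : centralizer ({t} : Set G) ≃* CJ)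

/-- The inverse of the isomorphism as a homomorphism into the whole group. -/
def inH : CJ →* G := (centralizer ({t} : Set G)).subtype.comp e.symm.toMonoidHom

theorem inH_apply (x : CJ) : inH e x = ((e.symm x : centralizer ({t} : Set G)) : G) := rfl

theorem inH_inj : Function.Injective (inH e) := by
  intro x y h
  exact e.symm.injective (Subtype.ext h)

theorem inH_eq_one_iff {x : CJ} : inH e x = 1 ↔ x = 1 := by
  rw [← map_one (inH e), (inH_inj e).eq_iff]

theorem inH_mem (x : CJ) : inH e x ∈ centralizer ({t} : Set G) := (e.symm x).2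

theorem inH_comm (x : CJ) : inH e x * t = t * inH e x := by
  have := inH_mem e x
  rw [mem_centralizer_singleton_iff] at this
  exact this

theorem exists_inH {g : G} (hg : g ∈ centralizer ({t} : Set G)) : ∃ x, g = inH e x :=
  ⟨e ⟨g, hg⟩, by simp [inH]⟩

theorem mem_tS : t ∈ centralizer ({t} : Set G) := by
  rw [mem_centralizer_singleton_iff]

omit e in
theorem t_ne_one (ht : orderOf t = 2) : t ≠ 1 := by
  rintro rfl
  simp at ht

omit e in
theorem t_sq (ht : orderOf t = 2) : t ^ 2 = 1 := by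
  rw [← ht]; exact pow_orderOf_eq_one t

omit e in
theorem t_inv (ht : orderOf t = 2) : t⁻¹ = t := by
  rw [eq_comm, ← mul_eq_one_iff_eq_inv, ← pow_two, t_sq ht]

variable (ht : orderOf t = 2)
include ht

/-- `t` corresponds to the central involution. -/
theorem inH_cz : inH e cz = t := by
  obtain ⟨x, hx⟩ := exists_inH e (mem_tS (t := t))
  have hc : ∀ y : CJ, x * y = y * x := by
    intro y
    apply inH_inj e
    rw [map_mul, map_mul, ← hx]
    exact (inH_comm e y).symm
  have hne : x ≠ 1 := by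
    rintro rfl
    rw [map_one] at hx
    exact t_ne_one ht hx
  rw [center x hc hne] at hx
  exact hx.symm

omit ht e in
/-- Elements of the centralizer of an element having `t` as a power. -/
theorem mem_of_comm_pow {x g : G} {k : ℕ} (hk : x ^ k = t) (hg : g * x = x * g) :
    g ∈ centralizer ({t} : Set G) := by
  rw [mem_centralizer_singleton_iff, ← hk]
  exact ((Commute.pow_right (show Commute g x from hg) k)).eq

omit ht in
/-- Transport of counting problems into the group `2 × A₅`. -/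
theorem card_transport (P : G → Prop) (hP : ∀ g, P g → g ∈ centralizer ({t} : Set G)) :
    Nat.card {g // P g} = Nat.card {x : CJ // P (inH e x)} := by
  refine Nat.card_congr ⟨fun g => ⟨e ⟨g.1, hP _ g.2⟩, ?_⟩, fun x => ⟨inH e x.1, x.2⟩, ?_, ?_⟩
  · have : inH e (e ⟨g.1, hP _ g.2⟩) = g.1 := by simp [inH]
    rw [this]
    exact g.2
  · rintro ⟨g, hg⟩
    simp [inH]
  · rintro ⟨x, hx⟩
    simp [inH]

/-- Size of the centralizer of an element having `t` as a power. -/
theorem card_centralizer (x : CJ) (k : ℕ) (hk : x ^ k = cz) :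
    Nat.card (centralizer ({inH e x} : Set G)) = Fintype.card {y : CJ // y * x = x * y} := by
  classical
  have h1 : Nat.card (centralizer ({inH e x} : Set G)) = Nat.card {g : G // g * inH e x = inH e x * g} := by
    refine Nat.card_congr (Equiv.subtypeEquivRight fun g => ?_)
    rw [mem_centralizer_singleton_iff]
  have hk' : (inH e x) ^ k = t := by rw [← map_pow, hk, inH_cz e ht]
  rw [h1, card_transport e (fun g => g * inH e x = inH e x * g)
    (fun g hg => mem_of_comm_pow hk' hg), ← Nat.card_eq_fintype_card]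
  refine Nat.card_congr (Equiv.subtypeEquivRight fun y => ?_)
  rw [← map_mul, ← map_mul, (inH_inj e).eq_iff]

/-- `PP` forces membership in the centralizer. -/
theorem PP_mem {x u : G} {k : ℕ} (hk : x ^ k = t) (h : PP x u) : u ∈ centralizer ({t} : Set G) := by
  have h1 := PP_invert h
  rw [mem_centralizer_singleton_iff]
  have h2 : u * t * u⁻¹ = t := by
    have h3 : u * x ^ k * u⁻¹ = (u * x * u⁻¹) ^ k := by
      rw [conj_pow]
    rw [← hk, h3, h1, inv_pow, hk, t_inv ht]
  calc u * t = u * t * u⁻¹ * u := by group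
    _ = t * u := by rw [h2]

omit ht in
theorem PP_inH_iff (x w : CJ) :
    PP (inH e w) (inH e x) ↔ (x ^ 2 = 1 ∧ x ≠ 1) ∧ ((x⁻¹ * w) ^ 2 = 1 ∧ x⁻¹ * w ≠ 1) := by
  unfold PP
  rw [← map_inv, ← map_mul, ← map_pow, ← map_pow, ← map_one (inH e), (inH_inj e).eq_iff, (inH_inj e).eq_iff]
  simp only [ne_eq, map_one, inH_eq_one_iff]

/-- Count of the factorizations. -/
theorem card_PP (x : CJ) (k : ℕ) (hk : x ^ k = cz) :
    Nat.card {u : G // PP (inH e x) u} = Fintype.card {y : CJ //
      (y ^ 2 = 1 ∧ y ≠ 1) ∧ ((y⁻¹ * x) ^ 2 = 1 ∧ y⁻¹ * x ≠ 1)} := by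
  classical
  have hk' : (inH e x) ^ k = t := by rw [← map_pow, hk, inH_cz e ht]
  rw [card_transport e (PP (inH e x)) (fun g hg => PP_mem ht hk' hg), ← Nat.card_eq_fintype_card]
  refine Nat.card_congr (Equiv.subtypeEquivRight fun y => ?_)
  rw [PP_inH_iff e]

omit ht in
include e in
theorem card_C_t : Nat.card (centralizer ({t} : Set G)) = 120 := by
  rw [Nat.card_congr e.toEquiv, Nat.card_eq_fintype_card, card_all]

omit ht in
include e in
/-- The fibres of the conjugation map. -/
theorem card_fiber {u a₀ : G} (ha₀ : a₀ * t * a₀⁻¹ = u) :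
    Nat.card {a : G // a * t * a⁻¹ = u} = 120 := by
  rw [← card_C_t e]
  refine Nat.card_congr ⟨fun a => ⟨a₀⁻¹ * a.1, ?_⟩, fun s => ⟨a₀ * s.1, ?_⟩, ?_, ?_⟩
  · rw [mem_centralizer_singleton_iff]
    have h : a.1 * t * a.1⁻¹ = a₀ * t * a₀⁻¹ := a.2.trans ha₀.symm
    have h1 : a.1 * t = a₀ * t * a₀⁻¹ * a.1 := by rw [← h]; group
    calc a₀⁻¹ * a.1 * t = a₀⁻¹ * (a.1 * t) := by group
      _ = t * (a₀⁻¹ * a.1) := by rw [h1]; group
  · have h2 := s.2
    rw [mem_centralizer_singleton_iff] at h2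
    rw [← ha₀]
    calc a₀ * s.1 * t * (a₀ * s.1)⁻¹ = a₀ * (s.1 * t) * (a₀ * s.1)⁻¹ := by group
      _ = a₀ * t * a₀⁻¹ := by rw [h2]; group
  · rintro ⟨a, ha⟩
    simp
  · rintro ⟨s, hs⟩
    simp

end

section Main

variable {G : Type*} [Group G] [Finite G] {t : G} (e : centralizer ({t} : Set G) ≃* CJ)
  (ht : orderOf t = 2)

/-- A simple group with such an involution is perfect. -/
theorem perfect [IsSimpleGroup G] (e : centralizer ({t} : Set G) ≃* CJ) : commutator G = ⊤ := by
  rcases IsSimpleGroup.eq_bot_or_eq_top_of_normal (commutator G) inferInstance with h | h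
  · exfalso
    obtain ⟨x, y, hxy⟩ := noncomm
    apply hxy
    apply inH_inj e
    rw [map_mul, map_mul]
    have h1 : ⁅inH e x, inH e y⁆ ∈ commutator G :=
      Subgroup.commutator_mem_commutator (mem_top _) (mem_top _)
    rw [h, Subgroup.mem_bot, commutatorElement_eq_one_iff_mul_comm] at h1
    exact h1
  · exact h

theorem card_map (K : Subgroup CJ) : Nat.card (K.map (inH e)) = Nat.card K :=
  Subgroup.card_map_of_injective (inH_inj e)

theorem card_subV : Nat.card subV = 4 := by
  rw [← card_inV, ← Nat.card_eq_fintype_card]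
  rfl

theorem card_subT : Nat.card subT = 8 := by
  rw [← card_inT, ← Nat.card_eq_fintype_card]
  rfl

include ht in
/-- Conjugating an involution into `V`. -/
theorem conj_vv (hperf : commutator G = ⊤) {k : ℕ} (hk : Odd k) (hG : Nat.card G = 8 * k) {u : G}
    (hu2 : u ^ 2 = 1) (hu1 : u ≠ 1) : ∃ g, g * inH e vv * g⁻¹ = u := by
  let M : Subgroup G := subV.map (inH e)
  have hM : Nat.card M = 4 := by rw [card_map, card_subV]
  have hidx : M.index = 2 * k := by
    have h1 := Subgroup.card_mul_index M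
    rw [hM, hG] at h1
    omega
  obtain ⟨g, hg⟩ := exists_conj_mem hperf M k hk hidx u hu2
  obtain ⟨v, hv, hvg⟩ := hg
  have hv1 : v ≠ 1 := by
    rintro rfl
    rw [map_one] at hvg
    apply hu1
    have : u = g * (g⁻¹ * u * g) * g⁻¹ := by group
    rw [this, ← hvg]
    group
  obtain ⟨a, ha⟩ := conj_V v ⟨hv, hv1⟩
  refine ⟨g * inH e a, ?_⟩
  have h2 : inH e a * inH e vv * (inH e a)⁻¹ = inH e v := by
    rw [← ha, map_mul, map_mul, map_inv]
  calc g * inH e a * inH e vv * (g * inH e a)⁻¹ = g * (inH e a * inH e vv * (inH e a)⁻¹) * g⁻¹ := by group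
    _ = g * (g⁻¹ * u * g) * g⁻¹ := by rw [h2, hvg]
    _ = u := by group

include e ht in
/-- Every involution is conjugate to `t`. -/
theorem inv_conj_t (hperf : commutator G = ⊤) {k : ℕ} (hk : Odd k) (hG : Nat.card G = 8 * k) {u : G}
    (hu2 : u ^ 2 = 1) (hu1 : u ≠ 1) : ∃ g, g * t * g⁻¹ = u := by
  obtain ⟨a, ha⟩ := conj_vv e ht hperf hk hG (t_sq ht) (t_ne_one ht)
  obtain ⟨b, hb⟩ := conj_vv e ht hperf hk hG hu2 hu1
  refine ⟨b * a⁻¹, ?_⟩
  rw [← hb]
  calc b * a⁻¹ * t * (b * a⁻¹)⁻¹ = b * (a⁻¹ * t * a) * b⁻¹ := by group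
    _ = b * (a⁻¹ * (a * (inH e) vv * a⁻¹) * a) * b⁻¹ := by rw [ha]
    _ = _ := by group

section Count

variable [Fintype G]

open scoped Classical in
include e ht in
/-- The count of pairs of conjugates of `t` with product `z`. -/
theorem count_eq (hperf : commutator G = ⊤) {k : ℕ} (hk : Odd k) (hG : Nat.card G = 8 * k)
    (z : G) (n : ℕ) (hz : Nat.card {u : G // PP z u} = n) :
    ∑ a : G, ∑ b : G, (if z⁻¹ * (a * t * a⁻¹) * (b * t * b⁻¹) = 1 then 1 else 0) = n * 120 * 120 := by
  have ht1 := t_ne_one ht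
  have ht2 := t_sq ht
  have hconj : ∀ a : G, ((a * t * a⁻¹) ^ 2 = 1 ∧ a * t * a⁻¹ ≠ 1) := by
    intro a
    constructor
    · have : (a * t * a⁻¹) ^ 2 = a * t ^ 2 * a⁻¹ := by simp [pow_two, mul_assoc]
      rw [this, ht2]; group
    · intro h
      apply ht1
      have : t = a⁻¹ * (a * t * a⁻¹) * a := by group
      rw [this, h]; group
  -- inner sum
  have hinner : ∀ a : G, ∑ b : G, (if z⁻¹ * (a * t * a⁻¹) * (b * t * b⁻¹) = 1 then 1 else 0) =
      if PP z (a * t * a⁻¹) then 120 else 0 := by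
    intro a
    set u := a * t * a⁻¹ with hu
    have h1 : ∀ b : G, z⁻¹ * u * (b * t * b⁻¹) = 1 ↔ b * t * b⁻¹ = u⁻¹ * z := by
      intro b
      constructor
      · intro h
        calc b * t * b⁻¹ = (z⁻¹ * u)⁻¹ * (z⁻¹ * u * (b * t * b⁻¹)) := by group
          _ = u⁻¹ * z := by rw [h]; group
      · intro h
        rw [h]; group
    simp only [h1]
    rw [Finset.sum_boole]
    by_cases hP : PP z u
    · rw [if_pos hP]
      obtain ⟨b₀, hb₀⟩ := inv_conj_t e ht hperf hk hG hP.2.1 hP.2.2
      have := card_fiber e hb₀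
      rw [Nat.card_eq_fintype_card, Fintype.card_subtype] at this
      rw [this]
      rfl
    · rw [if_neg hP]
      have h0 : Finset.univ.filter (fun b : G => b * t * b⁻¹ = u⁻¹ * z) = ∅ := by
        rw [Finset.filter_eq_empty_iff]
        intro b _ hb
        apply hP
        refine ⟨hconj a, ?_⟩
        rw [← hb]
        exact hconj b
      rw [h0]
      rfl
  simp only [hinner]
  rw [Finset.sum_ite, Finset.sum_const_zero, add_zero, Finset.sum_const, smul_eq_mul]
  -- the number of `a`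
  have hcard : (Finset.univ.filter fun a : G => PP z (a * t * a⁻¹)).card = n * 120 := by
    have hpp : (Finset.univ.filter (PP z)).card = n := by
      rw [← Fintype.card_subtype, ← Nat.card_eq_fintype_card]
      exact hz
    rw [Finset.card_eq_sum_card_fiberwise (f := fun a : G => a * t * a⁻¹)
      (t := Finset.univ.filter (PP z))]
    · have : ∀ u ∈ Finset.univ.filter (PP z),
          ((Finset.univ.filter fun a : G => PP z (a * t * a⁻¹)).filter
            (fun a => a * t * a⁻¹ = u)).card = 120 := by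
        intro u hu
        have hPu : PP z u := by simpa using hu
        obtain ⟨a₀, ha₀⟩ := inv_conj_t e ht hperf hk hG hPu.1.1 hPu.1.2
        have h8 := card_fiber e ha₀
        rw [Nat.card_eq_fintype_card, Fintype.card_subtype] at h8
        rw [← h8]
        congr 1
        ext a
        simp only [Finset.mem_filter, Finset.mem_univ, true_and]
        constructor
        · exact fun h => h.2
        · intro h
          exact ⟨by rw [h]; exact hPu, h⟩
      rw [Finset.sum_congr rfl this, Finset.sum_const, hpp]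
      rfl
    · intro a ha
      simpa using ha
  rw [hcard]

end Count

omit [Finite G] in
theorem not_conj_of_pow {a b : G} (k : ℕ) (ha : a ^ k = 1) (hb : b ^ k ≠ 1) : ¬ IsConj a b := by
  intro h
  have h2 := h.pow k
  rw [ha, isConj_one_right] at h2
  exact hb h2

omit [Finite G] in
theorem real_of (w : CJ) (h : ∃ g : CJ, g * w * g⁻¹ = w⁻¹) : IsConj (inH e w) (inH e w)⁻¹ := by
  obtain ⟨g, hg⟩ := h
  rw [isConj_iff]
  refine ⟨inH e g, ?_⟩
  rw [← map_inv, ← map_inv, ← map_mul, ← map_mul, hg]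

omit [Finite G] in
theorem conj_of {w y : CJ} (h : ∃ g : CJ, g * w * g⁻¹ = y) : IsConj (inH e w) (inH e y) := by
  obtain ⟨g, hg⟩ := h
  rw [isConj_iff]
  refine ⟨inH e g, ?_⟩
  rw [← map_inv, ← map_mul, ← map_mul, hg]

include ht in
/-- The classes of elements of order ten are different. -/
theorem not_conj_w10_w30 : ¬ IsConj (inH e w10) (inH e w30) := by
  intro h
  obtain ⟨g, hg⟩ := isConj_iff.mp h
  have h5 : (inH e w10) ^ 5 = t := by rw [← map_pow, w10_five, inH_cz e ht]
  have h6 : (inH e w30) ^ 5 = t := by rw [← map_pow, w30_five, inH_cz e ht]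
  have h1 : g * t * g⁻¹ = t := by
    calc g * t * g⁻¹ = g * (inH e w10) ^ 5 * g⁻¹ := by rw [h5]
      _ = (g * inH e w10 * g⁻¹) ^ 5 := (conj_pow).symm
      _ = t := by rw [hg, h6]
  have hgC : g ∈ centralizer ({t} : Set G) := by
    rw [mem_centralizer_singleton_iff]
    calc g * t = (g * t * g⁻¹) * g := by group
      _ = t * g := by rw [h1]
  obtain ⟨z, rfl⟩ := exists_inH e hgC
  apply not_conj_w10 z
  apply inH_inj e
  rw [map_mul, map_mul, map_inv]
  exact hg

/-- The involutions. -/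
abbrev Om (G : Type*) [Group G] := {u : G // u ^ 2 = 1 ∧ u ≠ 1}

include e ht in
/-- The order of the group in terms of the number of involutions. -/
theorem card_eq_inv (hperf : commutator G = ⊤) {k : ℕ} (hk : Odd k) (hG : Nat.card G = 8 * k) :
    Nat.card G = Nat.card (Om G) * 120 := by
  classical
  letI := Fintype.ofFinite G
  have h1 := Cfsg.Agent.Lib.CharInd.card_conj_mul_card_centralizer t
  rw [card_C_t e] at h1
  rw [← h1]
  congr 1
  refine Nat.card_congr (Equiv.subtypeEquivRight fun x => ?_)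
  constructor
  · intro h
    obtain ⟨g, hg⟩ := isConj_iff.mp h
    rw [← hg]
    constructor
    · have : (g * t * g⁻¹) ^ 2 = g * t ^ 2 * g⁻¹ := by simp [pow_two, mul_assoc]
      rw [this, t_sq ht]; group
    · intro h2
      apply t_ne_one ht
      have : t = g⁻¹ * (g * t * g⁻¹) * g := by group
      rw [this, h2]; group
  · rintro ⟨h2, h3⟩
    obtain ⟨g, hg⟩ := inv_conj_t e ht hperf hk hG h2 h3
    rw [isConj_iff]
    exact ⟨g, hg⟩

omit [Finite G] in
theorem conj_sq_eq (g u : G) : (g * u * g⁻¹) ^ 2 = g * u ^ 2 * g⁻¹ := by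
  simp [pow_two, mul_assoc]

omit [Finite G] in
theorem conj_eq_one_iff (g u : G) : g * u * g⁻¹ = 1 ↔ u = 1 := by
  constructor
  · intro h
    have : u = g⁻¹ * (g * u * g⁻¹) * g := by group
    rw [this, h]; group
  · rintro rfl; group

include e ht in
/-- Involutions of the group commuting with a given one. -/
theorem card_comm_inv (hperf : commutator G = ⊤) {k : ℕ} (hk : Odd k) (hG : Nat.card G = 8 * k) {v : G}
    (hv2 : v ^ 2 = 1) (hv1 : v ≠ 1) :
    Nat.card {u : Om G // v * u.1 * v⁻¹ = u.1} = 31 := by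
  classical
  obtain ⟨g, rfl⟩ := inv_conj_t e ht hperf hk hG hv2 hv1
  have h1 : Nat.card {u : Om G // (g * t * g⁻¹) * u.1 * (g * t * g⁻¹)⁻¹ = u.1} =
      Nat.card {u : G // (u ^ 2 = 1 ∧ u ≠ 1) ∧ u * t = t * u} := by
    refine Nat.card_congr ⟨fun u => ⟨g⁻¹ * u.1.1 * g, ⟨?_, ?_⟩, ?_⟩,
      fun u => ⟨⟨g * u.1 * g⁻¹, ?_, ?_⟩, ?_⟩, ?_, ?_⟩
    · have h2 := conj_sq_eq g⁻¹ u.1.1
      rw [inv_inv] at h2
      rw [h2, u.1.2.1]; group
    · intro h2
      have h3 := (conj_eq_one_iff g⁻¹ u.1.1).mp (by rw [inv_inv]; exact h2)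
      exact u.1.2.2 h3
    · have h2 : (g * t * g⁻¹) * u.1.1 * (g * t * g⁻¹)⁻¹ = u.1.1 := u.2
      have h3 : (g * t * g⁻¹) * u.1.1 = u.1.1 * (g * t * g⁻¹) := by
        calc (g * t * g⁻¹) * u.1.1 = (g * t * g⁻¹) * u.1.1 * (g * t * g⁻¹)⁻¹ * (g * t * g⁻¹) := by group
          _ = _ := by rw [h2]
      calc g⁻¹ * u.1.1 * g * t = g⁻¹ * (u.1.1 * (g * t * g⁻¹)) * g := by group
        _ = g⁻¹ * ((g * t * g⁻¹) * u.1.1) * g := by rw [h3]
        _ = _ := by group
    · rw [conj_sq_eq, u.2.1.1]; group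
    · intro h2
      exact u.2.1.2 ((conj_eq_one_iff g u.1).mp h2)
    · show (g * t * g⁻¹) * (g * u.1 * g⁻¹) * (g * t * g⁻¹)⁻¹ = g * u.1 * g⁻¹
      have h6 : t * u.1 = u.1 * t := u.2.2.symm
      calc g * t * g⁻¹ * (g * u.1 * g⁻¹) * (g * t * g⁻¹)⁻¹ = g * (t * u.1) * t⁻¹ * g⁻¹ := by group
        _ = g * (u.1 * t) * t⁻¹ * g⁻¹ := by rw [h6]
        _ = _ := by group
    · rintro ⟨⟨u, hu⟩, hu2⟩
      apply Subtype.ext
      apply Subtype.ext
      show g * (g⁻¹ * u * g) * g⁻¹ = u
      group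
    · rintro ⟨u, hu⟩
      apply Subtype.ext
      show g⁻¹ * (g * u * g⁻¹) * g = u
      group
  have h2 : Nat.card {u : G // (u ^ 2 = 1 ∧ u ≠ 1) ∧ u * t = t * u} = Nat.card {x : CJ // isInv x} := by
    rw [card_transport e _ (fun u hu => by
      rw [mem_centralizer_singleton_iff]; exact hu.2)]
    refine Nat.card_congr (Equiv.subtypeEquivRight fun x => ?_)
    unfold isInv
    rw [← map_pow, Ne, Ne, ← map_one (inH e), (inH_inj e).eq_iff, (inH_inj e).eq_iff]
    constructor
    · exact fun h => h.1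
    · exact fun h => ⟨h, inH_comm e x⟩
  rw [h1, h2, Nat.card_eq_fintype_card, card_inv]

end Main

end Cfsg.Agent.Lib.JOrdB
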