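import Mathlib

/-!
# Janko's first group, order recognition: the Diophantine part (star pattern)
-/

set_option autoImplicit false
set_option maxRecDepth 100000
set_option linter.unusedVariables false
set_option linter.unusedSectionVars false

namespace Cfsg.Agent.Lib.JOrdD

/-- Finite check, first type. -/
def Chk1 (h P : ℕ) : Prop :=
  9 * h < P → ((h + 1) * (P - 9 * h)) ∣ 1200 * h * P → (27 * h + 2 * P) ∣ 125 * h * P → h = 209 ∧ P = 10241

instance (h P : ℕ) : Decidable (Chk1 h P) := by unfold Chk1; infer_instance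

theorem chk1 : ∀ j < 65, ∀ l < 65, 2 ≤ j → 2 ≤ l → Chk1 (8 * j + 8 * l + 9) ((8 * j + 5) * (8 * l + 5)) := by
  decide +kernel

/-- Finite check, second type. -/
def Chk2 (h P : ℕ) : Prop :=
  ((h + 1) * (P + 9 * h)) ∣ 1200 * h * P → ((27 * h - 2 * P) ∣ 125 * h * P ∨ (2 * P - 27 * h) ∣ 125 * h * P) → False

instance (h P : ℕ) : Decidable (Chk2 h P) := by unfold Chk2; infer_instance

theorem chk2 : ∀ j < 48, ∀ m < 48, 1 ≤ j → 1 ≤ m → Chk2 (8 * m + 1) ((8 * j + 3) * (8 * j + 8 * m + 5)) := by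
  decide +kernel

/-- Finite check, third type. -/
def Chk3 (h P : ℕ) : Prop :=
  9 * h < P → ((h - 1) * (P - 9 * h)) ∣ 1200 * h * P → (27 * h + 2 * P) ∣ 125 * h * P →
    (h = 7 ∧ P = 567) ∨ (h = 15 ∧ P = 735)

instance (h P : ℕ) : Decidable (Chk3 h P) := by unfold Chk3; infer_instance

theorem chk3 : ∀ l < 68, ∀ m < 68, 2 ≤ l → 1 ≤ m → Chk3 (8 * m - 1) ((8 * l + 8 * m + 3) * (8 * l + 5)) := by
  decide +kernel

/-- Finite check, fourth type. -/
def Chk4 (h P : ℕ) : Prop :=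
  ((h - 1) * (P + 9 * h)) ∣ 1200 * h * P → ((27 * h - 2 * P) ∣ 125 * h * P ∨ (2 * P - 27 * h) ∣ 125 * h * P) → False

instance (h P : ℕ) : Decidable (Chk4 h P) := by unfold Chk4; infer_instance

theorem chk4 : ∀ j < 52, ∀ l < 52, 1 ≤ j → 1 ≤ l → Chk4 (8 * j + 8 * l + 7) ((8 * j + 3) * (8 * l + 3)) := by
  decide +kernel

/-- A number strictly between consecutive squares is not a square. -/
theorem no_sq (k d r : ℤ) (hk : 0 ≤ k) (h1 : k ^ 2 < d) (h2 : d < (k + 1) ^ 2) (h : r ^ 2 = d) : False := by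
  have h3 : |r| ^ 2 = d := by rw [sq_abs]; exact h
  have h4 : 0 ≤ |r| := abs_nonneg r
  have h5 : k < |r| := by
    by_contra hc
    push Not at hc
    nlinarith
  have h6 : |r| < k + 1 := by
    by_contra hc
    push Not at hc
    nlinarith
  omega

/-- Type one: `e = 1`, both signs negative. -/
theorem star1 (h a b n : ℤ) (ha21 : 21 ≤ a) (hb21 : 21 ≤ b) (hn : 0 < n) (ca : a % 8 = 5) (cb : b % 8 = 5)
    (hl : a + b = h + 1) (hh : h ^ 2 < 120 * n)
    (E2 : n * (h + 1) * (a * b - 9 * h) = 1200 * h * (a * b))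
    (G : (27 * h + 2 * (a * b)) ∣ 125 * h * (a * b)) : n = 1463 := by
  have hh41 : 41 ≤ h := by omega
  have hP : 441 ≤ a * b := by nlinarith
  have h9 : 9 * h < a * b := by
    by_contra hc
    push Not at hc
    have h1 : n * (h + 1) * (a * b - 9 * h) ≤ 0 := by
      apply mul_nonpos_of_nonneg_of_nonpos
      · positivity
      · linarith
    have h2 : 0 < 1200 * h * (a * b) := by positivity
    linarith
  have hlt : h < 520 := by
    by_contra hc
    push Not at hc
    have h1 : (a - 21) * (b - 21) ≥ 0 := mul_nonneg (by linarith) (by linarith)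
    have h2 : a * b ≥ 20 * h := by nlinarith
    have h3 : 20 * (a * b - 9 * h) ≥ 11 * (a * b) := by nlinarith
    have h4 : h ^ 2 * (h + 1) * (a * b - 9 * h) < 120 * n * ((h + 1) * (a * b - 9 * h)) := by
      have h5 : 0 < (h + 1) * (a * b - 9 * h) := mul_pos (by linarith) (by linarith)
      nlinarith
    have h6 : h ^ 2 * (h + 1) * (a * b - 9 * h) < 144000 * h * (a * b) := by nlinarith
    have h7 : h * (h + 1) * (a * b - 9 * h) < 144000 * (a * b) := by
      have : h * (h * (h + 1) * (a * b - 9 * h)) < h * (144000 * (a * b)) := by nlinarith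
      exact lt_of_mul_lt_mul_left this (by linarith)
    have h8 : h * (h + 1) * (11 * (a * b)) < 20 * (144000 * (a * b)) := by
      have h10 : 0 < h * (h + 1) := by positivity
      nlinarith
    have h11 : 11 * (h * (h + 1)) < 2880000 := by
      have : (a * b) * (11 * (h * (h + 1))) < (a * b) * 2880000 := by nlinarith
      exact lt_of_mul_lt_mul_left this (by linarith)
    nlinarith
  obtain ⟨j, hj⟩ : ∃ j : ℕ, a = 8 * (j : ℤ) + 5 := ⟨((a - 5) / 8).toNat, by omega⟩
  obtain ⟨l, hl'⟩ : ∃ l : ℕ, b = 8 * (l : ℤ) + 5 := ⟨((b - 5) / 8).toNat, by omega⟩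
  have hj2 : 2 ≤ j := by omega
  have hl2 : 2 ≤ l := by omega
  have hjl : h = 8 * (j : ℤ) + 8 * l + 9 := by omega
  have hj65 : j < 65 := by omega
  have hl65 : l < 65 := by omega
  have hc := chk1 j hj65 l hl65 hj2 hl2
  have hP' : ((8 * j + 5) * (8 * l + 5) : ℕ) = (a * b : ℤ) := by rw [hj, hl']; push_cast; ring
  have hh' : ((8 * j + 8 * l + 9 : ℕ) : ℤ) = h := by rw [hjl]; push_cast; ring
  set H : ℕ := 8 * j + 8 * l + 9 with hH
  set P : ℕ := (8 * j + 5) * (8 * l + 5) with hPP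
  rw [← hP', ← hh'] at E2 G h9
  have h9' : 9 * H < P := by exact_mod_cast h9
  have hn' : ∃ n' : ℕ, n = n' := ⟨n.toNat, by omega⟩
  obtain ⟨n', rfl⟩ := hn'
  have E2' : n' * ((H + 1) * (P - 9 * H)) = 1200 * H * P := by
    zify [h9'.le]
    rw [← E2]
    ring
  have d1 : ((H + 1) * (P - 9 * H)) ∣ 1200 * H * P := Dvd.intro_left n' E2'
  have d2 : (27 * H + 2 * P) ∣ 125 * H * P := by
    have : ((27 * H + 2 * P : ℕ) : ℤ) ∣ ((125 * H * P : ℕ) : ℤ) := by
      push_cast
      exact G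
    exact Int.natCast_dvd_natCast.mp this
  obtain ⟨h1, h2⟩ := hc h9' d1 d2
  rw [h1, h2] at E2'
  have : n' = 1463 := by omega
  rw [this]
  norm_num

/-- Type two: `e = 1`, signs `+, -`. -/
theorem star2 (h a b n : ℤ) (ha11 : 11 ≤ a) (hn : 0 < n) (ca : a % 8 = 3) (cb : b % 8 = 5)
    (hl : b = a + h + 1) (hh9 : 9 ≤ h) (ch : h % 8 = 1) (hb : b ^ 2 < 120 * n)
    (E2 : n * (h + 1) * (a * b + 9 * h) = 1200 * h * (a * b))
    (G : ∃ P3 : ℤ, P3 * (27 * h - 2 * (a * b)) = 125 * h * (a * b) ∨ P3 * (27 * h - 2 * (a * b)) = - (125 * h * (a * b))) :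
    False := by
  have hb0 : 0 < b := by omega
  have hP : 0 < a * b := by positivity
  have hn1200 : n < 1200 := by
    have h1 : n * (h + 1) * (a * b) ≤ 1200 * h * (a * b) := by
      have : 0 ≤ n * (h + 1) * (9 * h) := by positivity
      nlinarith
    have h2 : n * (h + 1) ≤ 1200 * h := le_of_mul_le_mul_right h1 hP
    nlinarith
  have hb380 : b < 380 := by nlinarith
  obtain ⟨j, hj⟩ : ∃ j : ℕ, a = 8 * (j : ℤ) + 3 := ⟨((a - 3) / 8).toNat, by omega⟩
  obtain ⟨m, hm⟩ : ∃ m : ℕ, h = 8 * (m : ℤ) + 1 := ⟨((h - 1) / 8).toNat, by omega⟩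
  have hj1 : 1 ≤ j := by omega
  have hm1 : 1 ≤ m := by omega
  have hj48 : j < 48 := by omega
  have hm48 : m < 48 := by omega
  have hc := chk2 j hj48 m hm48 hj1 hm1
  have hb' : b = 8 * (j : ℤ) + 8 * m + 5 := by omega
  have hP' : ((8 * j + 3) * (8 * j + 8 * m + 5) : ℕ) = (a * b : ℤ) := by rw [hj, hb']; push_cast; ring
  have hh' : ((8 * m + 1 : ℕ) : ℤ) = h := by rw [hm]; push_cast; ring
  set H : ℕ := 8 * m + 1 with hH
  set P : ℕ := (8 * j + 3) * (8 * j + 8 * m + 5) with hPP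
  rw [← hP', ← hh'] at E2 G
  obtain ⟨n', rfl⟩ : ∃ n' : ℕ, n = n' := ⟨n.toNat, by omega⟩
  have E2' : n' * ((H + 1) * (P + 9 * H)) = 1200 * H * P := by
    zify
    rw [← E2]
    ring
  have d1 : ((H + 1) * (P + 9 * H)) ∣ 1200 * H * P := Dvd.intro_left n' E2'
  obtain ⟨P3, hP3⟩ := G
  have d2 : (27 * H - 2 * P) ∣ 125 * H * P ∨ (2 * P - 27 * H) ∣ 125 * H * P := by
    rcases le_total (2 * P) (27 * H) with hle | hle
    · left
      have : ((27 * H - 2 * P : ℕ) : ℤ) ∣ ((125 * H * P : ℕ) : ℤ) := by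
        rw [Nat.cast_sub hle]
        push_cast
        rcases hP3 with h3 | h3
        · exact Dvd.intro_left _ h3
        · refine Dvd.intro_left (-P3) ?_
          linear_combination -h3
      exact Int.natCast_dvd_natCast.mp this
    · right
      have : ((2 * P - 27 * H : ℕ) : ℤ) ∣ ((125 * H * P : ℕ) : ℤ) := by
        rw [Nat.cast_sub hle]
        push_cast
        rcases hP3 with h3 | h3
        · refine Dvd.intro_left (-P3) ?_
          linear_combination h3
        · refine Dvd.intro_left P3 ?_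
          linear_combination -h3
      exact Int.natCast_dvd_natCast.mp this
  exact hc d1 d2

/-- Type three: `e = -1`, signs `+, -`. The conclusion lists the two surviving cases. -/
theorem star3 (h a b n : ℤ) (hb21 : 21 ≤ b) (hn : 0 < n) (ca : a % 8 = 3) (cb : b % 8 = 5)
    (hl : a = b + h - 1) (hh7 : 7 ≤ h) (ch : h % 8 = 7) (ha : a ^ 2 < 120 * n)
    (E2 : n * (h - 1) * (a * b - 9 * h) = 1200 * h * (a * b))
    (G : (27 * h + 2 * (a * b)) ∣ 125 * h * (a * b)) :
    (h = 7 ∧ a * b = 567 ∧ n = 1575) ∨ (h = 15 ∧ a * b = 735 ∧ n = 1575) := by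
  have ha0 : 0 < a := by omega
  have hP : 21 * h ≤ a * b := by nlinarith
  have hP0 : 0 < a * b := by positivity
  have hn2450 : n ≤ 2450 := by
    have h1 : 7 * (a * b - 9 * h) ≥ 4 * (a * b) := by nlinarith
    have h2 : n * (h - 1) * (4 * (a * b)) ≤ 7 * (1200 * h * (a * b)) := by
      have h3 : 0 ≤ n * (h - 1) := mul_nonneg hn.le (by linarith)
      nlinarith
    have h3 : n * (h - 1) * 4 ≤ 7 * (1200 * h) := by
      have : (a * b) * (n * (h - 1) * 4) ≤ (a * b) * (7 * (1200 * h)) := by nlinarith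
      exact le_of_mul_le_mul_left this hP0
    nlinarith
  have ha543 : a < 543 := by nlinarith
  have h9 : 9 * h < a * b := by nlinarith
  obtain ⟨l, hl'⟩ : ∃ l : ℕ, b = 8 * (l : ℤ) + 5 := ⟨((b - 5) / 8).toNat, by omega⟩
  obtain ⟨m, hm⟩ : ∃ m : ℕ, h = 8 * (m : ℤ) - 1 := ⟨((h + 1) / 8).toNat, by omega⟩
  have hl2 : 2 ≤ l := by omega
  have hm1 : 1 ≤ m := by omega
  have hl68 : l < 68 := by omega
  have hm68 : m < 68 := by omega
  have hc := chk3 l hl68 m hm68 hl2 hm1
  have ha' : a = 8 * (l : ℤ) + 8 * m + 3 := by omega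
  have hP' : ((8 * l + 8 * m + 3) * (8 * l + 5) : ℕ) = (a * b : ℤ) := by rw [ha', hl']; push_cast; ring
  have hh' : ((8 * m - 1 : ℕ) : ℤ) = h := by
    rw [Nat.cast_sub (by omega), hm]
    push_cast
    ring
  set H : ℕ := 8 * m - 1 with hH
  set P : ℕ := (8 * l + 8 * m + 3) * (8 * l + 5) with hPP
  rw [← hP', ← hh'] at E2 G h9 ⊢
  have h9' : 9 * H < P := by exact_mod_cast h9
  have hH7 : 7 ≤ H := by omega
  obtain ⟨n', rfl⟩ : ∃ n' : ℕ, n = n' := ⟨n.toNat, by omega⟩
  have E2' : n' * ((H - 1) * (P - 9 * H)) = 1200 * H * P := by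
    zify [h9'.le, (by omega : 1 ≤ H)]
    rw [← E2]
    ring
  have d1 : ((H - 1) * (P - 9 * H)) ∣ 1200 * H * P := Dvd.intro_left n' E2'
  have d2 : (27 * H + 2 * P) ∣ 125 * H * P := by
    have : ((27 * H + 2 * P : ℕ) : ℤ) ∣ ((125 * H * P : ℕ) : ℤ) := by
      push_cast
      exact G
    exact Int.natCast_dvd_natCast.mp this
  rcases hc h9' d1 d2 with ⟨h1, h2⟩ | ⟨h1, h2⟩
  · left
    rw [h1, h2] at E2'
    have : n' = 1575 := by omega
    rw [h1, h2, this]
    norm_num
  · right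
    rw [h1, h2] at E2'
    have : n' = 1575 := by omega
    rw [h1, h2, this]
    norm_num

/-- Type four: `e = -1`, signs `+, +`. -/
theorem star4 (h a b n : ℤ) (ha11 : 11 ≤ a) (hb11 : 11 ≤ b) (hn : 0 < n) (ca : a % 8 = 3) (cb : b % 8 = 3)
    (hl : a + b = h - 1) (hh : h ^ 2 < 120 * n)
    (E2 : n * (h - 1) * (a * b + 9 * h) = 1200 * h * (a * b))
    (G : ∃ P3 : ℤ, P3 * (27 * h - 2 * (a * b)) = 125 * h * (a * b) ∨ P3 * (27 * h - 2 * (a * b)) = - (125 * h * (a * b))) :
    False := by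
  have hh23 : 23 ≤ h := by omega
  have hP : 0 < a * b := by positivity
  have hn1400 : n ≤ 1400 := by
    have h1 : n * (h - 1) * (a * b) ≤ 1200 * h * (a * b) := by
      have : 0 ≤ n * (h - 1) * (9 * h) := by
        have : 0 < h - 1 := by linarith
        positivity
      nlinarith
    have h2 : n * (h - 1) ≤ 1200 * h := le_of_mul_le_mul_right h1 hP
    nlinarith
  have hh410 : h < 410 := by nlinarith
  obtain ⟨j, hj⟩ : ∃ j : ℕ, a = 8 * (j : ℤ) + 3 := ⟨((a - 3) / 8).toNat, by omega⟩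
  obtain ⟨l, hl'⟩ : ∃ l : ℕ, b = 8 * (l : ℤ) + 3 := ⟨((b - 3) / 8).toNat, by omega⟩
  have hj1 : 1 ≤ j := by omega
  have hl1 : 1 ≤ l := by omega
  have hj52 : j < 52 := by omega
  have hl52 : l < 52 := by omega
  have hc := chk4 j hj52 l hl52 hj1 hl1
  have hP' : ((8 * j + 3) * (8 * l + 3) : ℕ) = (a * b : ℤ) := by rw [hj, hl']; push_cast; ring
  have hh' : ((8 * j + 8 * l + 7 : ℕ) : ℤ) = h := by push_cast; omega
  set H : ℕ := 8 * j + 8 * l + 7 with hH
  set P : ℕ := (8 * j + 3) * (8 * l + 3) with hPP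
  rw [← hP', ← hh'] at E2 G
  obtain ⟨n', rfl⟩ : ∃ n' : ℕ, n = n' := ⟨n.toNat, by omega⟩
  have hH1 : 1 ≤ H := by omega
  have E2' : n' * ((H - 1) * (P + 9 * H)) = 1200 * H * P := by
    zify [hH1]
    rw [← E2]
    ring
  have d1 : ((H - 1) * (P + 9 * H)) ∣ 1200 * H * P := Dvd.intro_left n' E2'
  obtain ⟨P3, hP3⟩ := G
  have d2 : (27 * H - 2 * P) ∣ 125 * H * P ∨ (2 * P - 27 * H) ∣ 125 * H * P := by
    rcases le_total (2 * P) (27 * H) with hle | hle
    · left
      have : ((27 * H - 2 * P : ℕ) : ℤ) ∣ ((125 * H * P : ℕ) : ℤ) := by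
        rw [Nat.cast_sub hle]
        push_cast
        rcases hP3 with h3 | h3
        · exact Dvd.intro_left _ h3
        · refine Dvd.intro_left (-P3) ?_
          linear_combination -h3
      exact Int.natCast_dvd_natCast.mp this
    · right
      have : ((2 * P - 27 * H : ℕ) : ℤ) ∣ ((125 * H * P : ℕ) : ℤ) := by
        rw [Nat.cast_sub hle]
        push_cast
        rcases hP3 with h3 | h3
        · refine Dvd.intro_left (-P3) ?_
          linear_combination h3
        · refine Dvd.intro_left P3 ?_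
          linear_combination -h3
      exact Int.natCast_dvd_natCast.mp this
  exact hc d1 d2

/-- The last step of the third type. -/
theorem star_tail (a b h n a3 b3 ea3 eb3 σ3 : ℤ) (hσ3 : σ3 = -(ea3 * eb3 * (-1)))
    (hea3 : ea3 = 1 ∨ ea3 = -1) (heb3 : eb3 = 1 ∨ eb3 = -1)
    (hh1 : 1 < h) (ha30 : 0 < a3) (hb30 : 0 < b3)
    (L3 : 1 + (-1) * h + ea3 * a3 + eb3 * b3 = 0)
    (hG : (a3 * b3) * (27 * (-1) * h - 2 * (a * b)) = 125 * σ3 * h * (a * b))
    (hs : (h = 7 ∧ a * b = 567 ∧ n = 1575) ∨ (h = 15 ∧ a * b = 735 ∧ n = 1575)) :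
    (-1 : ℤ) = -1 ∧ h = 15 ∧ ((ea3 = 1 ∧ eb3 = -1 ∧ a3 = 35 ∧ b3 = 21) ∨
      (ea3 = -1 ∧ eb3 = 1 ∧ a3 = 21 ∧ b3 = 35)) := by
  have hP : 0 < a3 * b3 := by positivity
  rcases hs with ⟨rfl, hab, -⟩ | ⟨rfl, hab, -⟩
  · exfalso
    rw [hab] at hG
    rcases hea3 with rfl | rfl <;> rcases heb3 with rfl | rfl <;> rw [hσ3] at hG <;> norm_num at hG
    · nlinarith
    · have h1 : a3 = b3 + 6 := by linarith
      subst h1
      exact no_sq 19 384 (b3 + 3) (by norm_num) (by norm_num) (by norm_num) (by nlinarith)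
    · have h1 : b3 = a3 + 6 := by linarith
      subst h1
      exact no_sq 19 384 (a3 + 3) (by norm_num) (by norm_num) (by norm_num) (by nlinarith)
    · nlinarith
  · refine ⟨rfl, rfl, ?_⟩
    rw [hab] at hG
    rcases hea3 with rfl | rfl <;> rcases heb3 with rfl | rfl <;> rw [hσ3] at hG <;> norm_num at hG
    · exfalso; nlinarith
    · left
      have h1 : a3 = b3 + 14 := by linarith
      subst h1
      have h2 : (b3 - 21) * (b3 + 35) = 0 := by nlinarith
      have h3 : b3 = 21 := by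
        rcases mul_eq_zero.mp h2 with h4 | h4 <;> omega
      subst h3
      norm_num
    · right
      have h1 : b3 = a3 + 14 := by linarith
      subst h1
      have h2 : (a3 - 21) * (a3 + 35) = 0 := by nlinarith
      have h3 : a3 = 21 := by
        rcases mul_eq_zero.mp h2 with h4 | h4 <;> omega
      subst h3
      norm_num
    · exfalso; nlinarith

/-- The moment equation along a line, in integers. -/
theorem line_eq (e ea eb h a b n K C : ℤ) (he : e = 1 ∨ e = -1) (hea : ea = 1 ∨ ea = -1) (heb : eb = 1 ∨ eb = -1)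
    (hh : h ≠ 0) (ha : a ≠ 0) (hb : b ≠ 0) (L : 1 + e * h + ea * a + eb * b = 0)
    (E : (n : ℚ) * (1 + (e : ℚ) / h + K * ((ea : ℚ) / a + (eb : ℚ) / b)) = C) :
    n * (h + e) * (a * b + K * (-(ea * eb * e)) * h) = C * h * (a * b) := by
  have h1 : ea * b + eb * a = (-(ea * eb * e)) * (h + e) := by
    rcases he with rfl | rfl <;> rcases hea with rfl | rfl <;> rcases heb with rfl | rfl <;> linarith
  have h1' : (ea : ℚ) * b + eb * a = (-(ea * eb * e)) * (h + e) := by exact_mod_cast h1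
  have hh' : (h : ℚ) ≠ 0 := by exact_mod_cast hh
  have ha' : (a : ℚ) ≠ 0 := by exact_mod_cast ha
  have hb' : (b : ℚ) ≠ 0 := by exact_mod_cast hb
  have h2 : (n : ℚ) * (1 + (e : ℚ) / h + K * ((ea : ℚ) / a + (eb : ℚ) / b)) * (h * a * b) =
      n * (h + e) * (a * b + K * (-(ea * eb * e)) * h) := by
    field_simp
    linear_combination (n : ℚ) * K * h * h1'
  rw [E] at h2
  have h3 : ((n * (h + e) * (a * b + K * (-(ea * eb * e)) * h) : ℤ) : ℚ) = ((C * h * (a * b) : ℤ) : ℚ) := by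
    push_cast
    rw [← h2]
    ring
  exact_mod_cast h3

/-- The main consequence for the star pattern. -/
theorem star_main (e ea eb ea3 eb3 h a b a3 b3 n : ℤ)
    (he : e = 1 ∨ e = -1) (hea : ea = 1 ∨ ea = -1) (heb : eb = 1 ∨ eb = -1)
    (hea3 : ea3 = 1 ∨ ea3 = -1) (heb3 : eb3 = 1 ∨ eb3 = -1)
    (hh1 : 1 < h) (ha0 : 0 < a) (hb0 : 0 < b) (ha30 : 0 < a3) (hb30 : 0 < b3) (hn : 0 < n)
    (L1 : 1 + e * h + ea * a + eb * b = 0) (L3 : 1 + e * h + ea3 * a3 + eb3 * b3 = 0)
    (E1 : (n : ℚ) * (1 + (e : ℚ) / h + (25 : ℤ) * ((ea3 : ℚ) / a3 + (eb3 : ℚ) / b3)) = (720 : ℤ))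
    (E2 : (n : ℚ) * (1 + (e : ℚ) / h + (9 : ℤ) * ((ea : ℚ) / a + (eb : ℚ) / b)) = (1200 : ℤ))
    (ch : (h - e) % 8 = 0) (ca : (a - 3 * ea) % 8 = 0) (cb : (b - 3 * eb) % 8 = 0)
    (fa : 0 ≤ a + 21 * ea) (fb : 0 ≤ b + 21 * eb) (na : 3 * ea ≠ a) (nb : 3 * eb ≠ b)
    (sh : h ^ 2 < 120 * n) (sa : a ^ 2 < 120 * n) (sb : b ^ 2 < 120 * n) :
    n = 1463 ∨ (e = -1 ∧ h = 15 ∧ ((ea3 = 1 ∧ eb3 = -1 ∧ a3 = 35 ∧ b3 = 21) ∨
      (ea3 = -1 ∧ eb3 = 1 ∧ a3 = 21 ∧ b3 = 35))) := by
  have E2' := line_eq e ea eb h a b n 9 1200 he hea heb (by omega) (by omega) (by omega) L1 E2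
  have E1' := line_eq e ea3 eb3 h a3 b3 n 25 720 he hea3 heb3 (by omega) (by omega) (by omega) L3 E1
  set σ : ℤ := -(ea * eb * e) with hσ
  set σ3 : ℤ := -(ea3 * eb3 * e) with hσ3
  have hc : 0 < h + e := by rcases he with rfl | rfl <;> omega
  have hP3 : 0 < a3 * b3 := by positivity
  have hG : (a3 * b3) * (27 * σ * h - 2 * (a * b)) = 125 * σ3 * h * (a * b) := by
    have h1 : n * (h + e) * (5 * (a3 * b3 + 25 * σ3 * h) * (a * b) - 3 * (a * b + 9 * σ * h) * (a3 * b3)) = 0 := by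
      linear_combination 5 * (a * b) * E1' - 3 * (a3 * b3) * E2'
    have h2 : n * (h + e) ≠ 0 := (mul_pos hn hc).ne'
    have h3 := (mul_eq_zero.mp h1).resolve_left h2
    linear_combination -h3
  have hs3 : σ3 = 1 ∨ σ3 = -1 := by
    rw [hσ3]
    rcases he with rfl | rfl <;> rcases hea3 with rfl | rfl <;> rcases heb3 with rfl | rfl <;> simp
  have hGG : ∃ P3 : ℤ, P3 * (27 * σ * h - 2 * (a * b)) = 125 * h * (a * b) ∨
      P3 * (27 * σ * h - 2 * (a * b)) = - (125 * h * (a * b)) := by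
    refine ⟨a3 * b3, ?_⟩
    rcases hs3 with h3 | h3 <;> rw [hG, h3]
    · left; ring
    · right; ring
  rcases he with rfl | rfl <;> rcases hea with rfl | rfl <;> rcases heb with rfl | rfl
  · exfalso; omega
  · exfalso
    have hσ1 : σ = 1 := by rw [hσ]; norm_num
    rw [hσ1] at E2' hGG
    refine star2 h a b n (by omega) hn (by omega) (by omega) (by omega) (by omega) (by omega) sb ?_ ?_
    · linear_combination E2'
    · obtain ⟨P3, hP⟩ := hGG
      refine ⟨P3, ?_⟩
      rcases hP with hP | hP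
      · left; linear_combination hP
      · right; linear_combination hP
  · exfalso
    have hσ1 : σ = 1 := by rw [hσ]; norm_num
    rw [hσ1] at E2' hGG
    refine star2 h b a n (by omega) hn (by omega) (by omega) (by omega) (by omega) (by omega) sa ?_ ?_
    · linear_combination E2'
    · obtain ⟨P3, hP⟩ := hGG
      refine ⟨P3, ?_⟩
      rcases hP with hP | hP
      · left; linear_combination hP
      · right; linear_combination hP
  · left
    have hσ1 : σ = -1 := by rw [hσ]; norm_num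
    rw [hσ1] at E2' hGG
    refine star1 h a b n (by omega) (by omega) hn (by omega) (by omega) (by omega) sh ?_ ?_
    · linear_combination E2'
    · obtain ⟨P3, hP⟩ := hGG
      rcases hP with hP | hP
      · exact Dvd.intro_left (-P3) (by linear_combination hP)
      · exact Dvd.intro_left P3 (by linear_combination -hP)
  · -- e = -1, both positive
    exfalso
    have hσ1 : σ = 1 := by rw [hσ]; norm_num
    rw [hσ1] at E2' hGG
    refine star4 h a b n (by omega) (by omega) hn (by omega) (by omega) (by omega) sh ?_ ?_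
    · linear_combination E2'
    · obtain ⟨P3, hP⟩ := hGG
      refine ⟨P3, ?_⟩
      rcases hP with hP | hP
      · left; linear_combination hP
      · right; linear_combination hP
  · -- e = -1, signs + -
    have hσ1 : σ = -1 := by rw [hσ]; norm_num
    rw [hσ1] at E2' hG hGG
    have hs := star3 h a b n (by omega) hn (by omega) (by omega) (by omega) (by omega) (by omega) sa
      (by linear_combination E2') (by
        obtain ⟨P3, hP⟩ := hGG
        rcases hP with hP | hP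
        · exact Dvd.intro_left (-P3) (by linear_combination hP)
        · exact Dvd.intro_left P3 (by linear_combination -hP))
    exact Or.inr (star_tail a b h n a3 b3 ea3 eb3 σ3 hσ3 hea3 heb3 hh1 ha30 hb30 L3 hG hs)
  · -- e = -1, signs - +
    have hσ1 : σ = -1 := by rw [hσ]; norm_num
    rw [hσ1] at E2' hG hGG
    have hs := star3 h b a n (by omega) hn (by omega) (by omega) (by omega) (by omega) (by omega) sb
      (by linear_combination E2') (by
        obtain ⟨P3, hP⟩ := hGG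
        rcases hP with hP | hP
        · exact Dvd.intro_left (-P3) (by linear_combination hP)
        · exact Dvd.intro_left P3 (by linear_combination -hP))
    have hG' : (a3 * b3) * (27 * (-1) * h - 2 * (b * a)) = 125 * σ3 * h * (b * a) := by
      linear_combination hG
    exact Or.inr (star_tail b a h n a3 b3 ea3 eb3 σ3 hσ3 hea3 heb3 hh1 ha30 hb30 L3 hG' hs)
  · exfalso; omega

end Cfsg.Agent.Lib.JOrdD
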