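import Mathlib
import Cfsg.Agent.Lib.JOrdD

/-!
# Janko's first group, order recognition: the Diophantine part (triangle pattern)
-/

set_option autoImplicit false
set_option maxRecDepth 100000
set_option linter.unusedVariables false
set_option linter.unusedSectionVars false

namespace Cfsg.Agent.Lib.JOrdF

open Cfsg.Agent.Lib.JOrdD (no_sq)

/-- Finite check, type A. -/
def ChkA (B C F : ℕ) : Prop :=
  (B * C * F + 4 * C * F + 4 * B * F - 25 * B * C) ∣ 720 * B * C * F →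
  (720 * B * C * F / (B * C * F + 4 * C * F + 4 * B * F - 25 * B * C)) % 8 = 7 →
  F ^ 2 < 120 * (720 * B * C * F / (B * C * F + 4 * C * F + 4 * B * F - 25 * B * C)) →
  (B = 14 ∧ C = 14) ∨ (B = 30 ∧ C = 62) ∨ (B = 62 ∧ C = 30) ∨ (B = 62 ∧ C = 62)

instance (B C F : ℕ) : Decidable (ChkA B C F) := by unfold ChkA; infer_instance

theorem chkA : ∀ j < 99, ∀ l < 99, 1 ≤ j → 1 ≤ l → ChkA (8 * j + 6) (8 * l + 6) (8 * j + 8 * l + 13) := by
  decide +kernel

/-- Finite check, type B. -/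
def ChkB (B C F : ℕ) : Prop :=
  (B * C * F + 4 * C * F + 25 * B * C - 4 * B * F) ∣ 720 * B * C * F →
  (720 * B * C * F / (B * C * F + 4 * C * F + 25 * B * C - 4 * B * F)) % 8 = 7 →
  C ^ 2 < 120 * (720 * B * C * F / (B * C * F + 4 * C * F + 25 * B * C - 4 * B * F)) →
  7 * B * C ≤ B ^ 2 + C ^ 2 → False

instance (B C F : ℕ) : Decidable (ChkB B C F) := by unfold ChkB; infer_instance

theorem chkB : ∀ j < 37, ∀ l < 37, 1 ≤ j → 4 ≤ l → ChkB (8 * j + 6) (8 * j + 8 * l + 10) (8 * l + 3) := by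
  decide +kernel

/-- Finite check, type C. -/
def ChkC (B C F : ℕ) : Prop :=
  (B * C * F + 4 * C * F - (4 * B * F + 25 * B * C)) ∣ 720 * B * C * F →
  (720 * B * C * F / (B * C * F + 4 * C * F - (4 * B * F + 25 * B * C))) % 8 = 7 →
  B ^ 2 < 120 * (720 * B * C * F / (B * C * F + 4 * C * F - (4 * B * F + 25 * B * C))) →
  7 * B * C ≤ B ^ 2 + C ^ 2 → False

instance (B C F : ℕ) : Decidable (ChkC B C F) := by unfold ChkC; infer_instance

theorem chkC : ∀ j < 107, ∀ l < 107, 1 ≤ j → 1 ≤ l → ChkC (8 * j + 8 * l + 6) (8 * j + 2) (8 * l + 5) := by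
  decide +kernel

/-- Finite check, type D. -/
def ChkD (B C F : ℕ) : Prop :=
  (B * C * F + 25 * B * C - (4 * C * F + 4 * B * F)) ∣ 720 * B * C * F →
  (720 * B * C * F / (B * C * F + 25 * B * C - (4 * C * F + 4 * B * F))) % 8 = 7 →
  F ^ 2 < 120 * (720 * B * C * F / (B * C * F + 25 * B * C - (4 * C * F + 4 * B * F))) →
  B = 18 ∧ C = 18

instance (B C F : ℕ) : Decidable (ChkD B C F) := by unfold ChkD; infer_instance

theorem chkD : ∀ j < 83, ∀ l < 83, 1 ≤ j → 1 ≤ l → 35 ≤ 8 * j + 8 * l + 3 →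
    ChkD (8 * j + 2) (8 * l + 2) (8 * j + 8 * l + 3) := by
  decide +kernel

/-- Getting the quotient in natural numbers. -/
theorem quot_of (n den num : ℕ) (hden : 0 < den) (h : n * den = num) : den ∣ num ∧ num / den = n :=
  ⟨Dvd.intro_left n h, by rw [← h]; exact Nat.mul_div_cancel _ hden⟩

theorem triA (B C F n : ℤ) (hB : 14 ≤ B) (hC : 14 ≤ C) (cB : B % 8 = 6) (cC : C % 8 = 6) (hF : F = B + C + 1)
    (hn : 0 < n) (sF : F ^ 2 < 120 * n) (n8 : n % 8 = 7)
    (T : n * (B * C * F + 4 * C * F + 4 * B * F - 25 * B * C) = 720 * B * C * F) :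
    (B = 14 ∧ C = 14 ∧ n = 1015) ∨ (B = 30 ∧ C = 62 ∧ n = 775) ∨ (B = 62 ∧ C = 30 ∧ n = 775) ∨
      (B = 62 ∧ C = 62 ∧ n = 775) := by
  have hF29 : 29 ≤ F := by omega
  have hBC : 0 < B * C := by positivity
  have hBCF : 0 < B * C * F := by positivity
  have hle : n ≤ 5220 := by
    have h1 : n * (B * C * (F - 25)) ≤ 720 * B * C * F := by
      rw [← T]
      have h2 : 0 ≤ n * (4 * C * F + 4 * B * F) := by positivity
      nlinarith
    have h2 : n * (F - 25) ≤ 720 * F := by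
      have : (B * C) * (n * (F - 25)) ≤ (B * C) * (720 * F) := by nlinarith
      exact le_of_mul_le_mul_left this hBC
    have h3 : 4 * F ≤ 29 * (F - 25) := by linarith
    have h4 : n * (4 * F) ≤ n * (29 * (F - 25)) := mul_le_mul_of_nonneg_left h3 hn.le
    have h5 : F * (4 * n) ≤ F * 20880 := by nlinarith
    have h6 := le_of_mul_le_mul_left h5 (by linarith)
    linarith
  have hF792 : F < 792 := by nlinarith
  obtain ⟨j, hj⟩ : ∃ j : ℕ, B = 8 * (j : ℤ) + 6 := ⟨((B - 6) / 8).toNat, by omega⟩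
  obtain ⟨l, hl⟩ : ∃ l : ℕ, C = 8 * (l : ℤ) + 6 := ⟨((C - 6) / 8).toNat, by omega⟩
  have hj1 : 1 ≤ j := by omega
  have hl1 : 1 ≤ l := by omega
  have hj99 : j < 99 := by omega
  have hl99 : l < 99 := by omega
  have hFe : F = 8 * (j : ℤ) + 8 * l + 13 := by omega
  have hc := chkA j hj99 l hl99 hj1 hl1
  set B' : ℕ := 8 * j + 6 with hB'
  set C' : ℕ := 8 * l + 6 with hC'
  set F' : ℕ := 8 * j + 8 * l + 13 with hF'
  have eB : B = B' := by rw [hj, hB']; push_cast; ring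
  have eC : C = C' := by rw [hl, hC']; push_cast; ring
  have eF : F = F' := by rw [hFe, hF']; push_cast; ring
  obtain ⟨n', rfl⟩ : ∃ n' : ℕ, n = n' := ⟨n.toNat, by omega⟩
  have hd : 25 * B' * C' ≤ B' * C' * F' + 4 * C' * F' + 4 * B' * F' := by
    have : 29 ≤ F' := by omega
    nlinarith [Nat.zero_le (B' * C'), Nat.zero_le (C' * F'), Nat.zero_le (B' * F'), Nat.mul_le_mul_left (B' * C') this]
  rw [eB, eC, eF] at T
  have hT : n' * (B' * C' * F' + 4 * C' * F' + 4 * B' * F' - 25 * B' * C') = 720 * B' * C' * F' := by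
    zify [hd]
    exact T
  have hdpos : 0 < B' * C' * F' + 4 * C' * F' + 4 * B' * F' - 25 * B' * C' := by
    rcases Nat.eq_zero_or_pos (B' * C' * F' + 4 * C' * F' + 4 * B' * F' - 25 * B' * C') with h0 | h0
    · rw [h0] at hT
      have : 0 < 720 * B' * C' * F' := by positivity
      omega
    · exact h0
  obtain ⟨d1, d2⟩ := quot_of _ _ _ hdpos hT
  have n8' : n' % 8 = 7 := by omega
  have sF' : F' ^ 2 < 120 * n' := by
    rw [eF] at sF
    exact_mod_cast sF
  have hres := hc d1 (by rw [d2]; exact n8') (by rw [d2]; exact sF')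
  rcases hres with ⟨h1, h2⟩ | ⟨h1, h2⟩ | ⟨h1, h2⟩ | ⟨h1, h2⟩
  · left
    rw [eB, eC, h1, h2]
    refine ⟨rfl, rfl, ?_⟩
    have hF3 : F' = 29 := by omega
    rw [h1, h2, hF3] at hT
    omega
  · right; left
    rw [eB, eC, h1, h2]
    refine ⟨rfl, rfl, ?_⟩
    have hF3 : F' = 93 := by omega
    rw [h1, h2, hF3] at hT
    omega
  · right; right; left
    rw [eB, eC, h1, h2]
    refine ⟨rfl, rfl, ?_⟩
    have hF3 : F' = 93 := by omega
    rw [h1, h2, hF3] at hT
    omega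
  · right; right; right
    rw [eB, eC, h1, h2]
    refine ⟨rfl, rfl, ?_⟩
    have hF3 : F' = 125 := by omega
    rw [h1, h2, hF3] at hT
    omega

theorem triB (B C F n : ℤ) (hB : 14 ≤ B) (cB : B % 8 = 6) (hF : 35 ≤ F) (cF : F % 8 = 3) (hC : C = B + F + 1)
    (hn : 0 < n) (sC : C ^ 2 < 120 * n) (n8 : n % 8 = 7)
    (T : n * (B * C * F + 4 * C * F - 4 * B * F + 25 * B * C) = 720 * B * C * F)
    (hm : 7 * B * C ≤ B ^ 2 + C ^ 2) : False := by
  have hC0 : 0 < C := by omega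
  have hBCF : 0 < B * C * F := by positivity
  have hle : n ≤ 720 := by
    have h1 : n * (B * C * F) ≤ 720 * B * C * F := by
      rw [← T]
      have h2 : 0 ≤ n * (4 * (C - B) * F + 25 * B * C) := by
        have : 0 ≤ C - B := by omega
        positivity
      nlinarith
    have h2 : (B * C * F) * n ≤ (B * C * F) * 720 := by nlinarith
    exact le_of_mul_le_mul_left h2 hBCF
  have hC294 : C < 294 := by nlinarith
  obtain ⟨j, hj⟩ : ∃ j : ℕ, B = 8 * (j : ℤ) + 6 := ⟨((B - 6) / 8).toNat, by omega⟩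
  obtain ⟨l, hl⟩ : ∃ l : ℕ, F = 8 * (l : ℤ) + 3 := ⟨((F - 3) / 8).toNat, by omega⟩
  have hj1 : 1 ≤ j := by omega
  have hl4 : 4 ≤ l := by omega
  have hj37 : j < 37 := by omega
  have hl37 : l < 37 := by omega
  have hCe : C = 8 * (j : ℤ) + 8 * l + 10 := by omega
  have hc := chkB j hj37 l hl37 hj1 hl4
  set B' : ℕ := 8 * j + 6 with hB'
  set C' : ℕ := 8 * j + 8 * l + 10 with hC'
  set F' : ℕ := 8 * l + 3 with hF'
  have eB : B = B' := by rw [hj, hB']; push_cast; ring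
  have eC : C = C' := by rw [hCe, hC']; push_cast; ring
  have eF : F = F' := by rw [hl, hF']; push_cast; ring
  obtain ⟨n', rfl⟩ : ∃ n' : ℕ, n = n' := ⟨n.toNat, by omega⟩
  have hd : 4 * B' * F' ≤ B' * C' * F' + 4 * C' * F' + 25 * B' * C' := by
    have : B' ≤ C' := by omega
    nlinarith [Nat.zero_le (B' * C' * F'), Nat.zero_le (B' * C'), Nat.mul_le_mul_right F' this]
  rw [eB, eC, eF] at T
  rw [eB, eC] at hm
  have hT : n' * (B' * C' * F' + 4 * C' * F' + 25 * B' * C' - 4 * B' * F') = 720 * B' * C' * F' := by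
    zify [hd]
    linear_combination T
  have hdpos : 0 < B' * C' * F' + 4 * C' * F' + 25 * B' * C' - 4 * B' * F' := by
    rcases Nat.eq_zero_or_pos (B' * C' * F' + 4 * C' * F' + 25 * B' * C' - 4 * B' * F') with h0 | h0
    · rw [h0] at hT
      have : 0 < 720 * B' * C' * F' := by positivity
      omega
    · exact h0
  obtain ⟨d1, d2⟩ := quot_of _ _ _ hdpos hT
  have n8' : n' % 8 = 7 := by omega
  have sC' : C' ^ 2 < 120 * n' := by
    rw [eC] at sC
    exact_mod_cast sC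
  have hm' : 7 * B' * C' ≤ B' ^ 2 + C' ^ 2 := by exact_mod_cast hm
  exact hc d1 (by rw [d2]; exact n8') (by rw [d2]; exact sC') hm'

theorem triC (B C F n : ℤ) (hC : 10 ≤ C) (cC : C % 8 = 2) (hF : 13 ≤ F) (cF : F % 8 = 5) (hB : B = C + F - 1)
    (hn : 0 < n) (sB : B ^ 2 < 120 * n) (n8 : n % 8 = 7)
    (T : n * (B * C * F + 4 * C * F - 4 * B * F - 25 * B * C) = 720 * B * C * F)
    (hm : 7 * B * C ≤ B ^ 2 + C ^ 2) : False := by
  have hB0 : 0 < B := by omega
  have hBCF : 0 < B * C * F := by positivity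
  have hBC : 0 < B * C := by positivity
  have hX : B * C * F + 4 * C * F - 4 * B * F - 25 * B * C = B * C * (F - 25) - 4 * F * (F - 1) := by
    rw [hB]; ring
  rw [hX] at T
  have hXpos : 0 < B * C * (F - 25) - 4 * F * (F - 1) := by
    by_contra hc
    push Not at hc
    have h1 : n * (B * C * (F - 25) - 4 * F * (F - 1)) ≤ 0 := mul_nonpos_of_nonneg_of_nonpos hn.le hc
    nlinarith
  have hF29 : 29 ≤ F := by
    by_contra hc
    push Not at hc
    have h1 : F - 25 ≤ 0 := by omega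
    have h2 : B * C * (F - 25) ≤ 0 := mul_nonpos_of_nonneg_of_nonpos hBC.le h1
    have h3 : 0 < 4 * F * (F - 1) := by
      have : 0 < F - 1 := by omega
      positivity
    linarith
  have hCB : C < B := by omega
  have hB850 : B < 850 := by
    by_cases h53 : 53 ≤ F
    · have h1 : B * C ≥ 10 * (F + 9) := by nlinarith
      have h2 : 265 * (B * C * (F - 25) - 4 * F * (F - 1)) ≥ 34 * (B * C * F) := by
        have h3 : 231 * F - 6625 ≥ 0 := by linarith
        nlinarith [mul_le_mul_of_nonneg_right h1 h3]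
      have h3 : n * (34 * (B * C * F)) ≤ n * (265 * (B * C * (F - 25) - 4 * F * (F - 1))) :=
        mul_le_mul_of_nonneg_left h2 hn.le
      have h4 : (B * C * F) * (34 * n) ≤ (B * C * F) * 190800 := by nlinarith
      have h5 := le_of_mul_le_mul_left h4 hBCF
      nlinarith
    · have hF3 : F = 29 ∨ F = 37 ∨ F = 45 := by omega
      have h6 : (B * C * (F - 25) - 4 * F * (F - 1)) * B ^ 2 < 86400 * (B * C * F) := by
        have h7 : (B * C * (F - 25) - 4 * F * (F - 1)) * B ^ 2 <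
            (B * C * (F - 25) - 4 * F * (F - 1)) * (120 * n) := mul_lt_mul_of_pos_left sB hXpos
        nlinarith
      have h7 : (B * C * (F - 25) - 4 * F * (F - 1)) * B < 86400 * (C * F) := by
        have : B * ((B * C * (F - 25) - 4 * F * (F - 1)) * B) < B * (86400 * (C * F)) := by nlinarith
        exact lt_of_mul_lt_mul_left this hB0.le
      have h8 : (B * C * (F - 25) - 4 * F * (F - 1)) * C < 86400 * (C * F) :=
        lt_trans (mul_lt_mul_of_pos_left hCB hXpos) h7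
      have h9 : B * C * (F - 25) - 4 * F * (F - 1) < 86400 * F := by
        have : C * (B * C * (F - 25) - 4 * F * (F - 1)) < C * (86400 * F) := by nlinarith
        exact lt_of_mul_lt_mul_left this (by linarith)
      rcases hF3 with rfl | rfl | rfl
      · nlinarith
      · nlinarith
      · nlinarith
  obtain ⟨j, hj⟩ : ∃ j : ℕ, C = 8 * (j : ℤ) + 2 := ⟨((C - 2) / 8).toNat, by omega⟩
  obtain ⟨l, hl⟩ : ∃ l : ℕ, F = 8 * (l : ℤ) + 5 := ⟨((F - 5) / 8).toNat, by omega⟩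
  have hj1 : 1 ≤ j := by omega
  have hl1 : 1 ≤ l := by omega
  have hj107 : j < 107 := by omega
  have hl107 : l < 107 := by omega
  have hBe : B = 8 * (j : ℤ) + 8 * l + 6 := by omega
  have hc := chkC j hj107 l hl107 hj1 hl1
  set B' : ℕ := 8 * j + 8 * l + 6 with hB'
  set C' : ℕ := 8 * j + 2 with hC'
  set F' : ℕ := 8 * l + 5 with hF'
  have eB : B = B' := by rw [hBe, hB']; push_cast; ring
  have eC : C = C' := by rw [hj, hC']; push_cast; ring
  have eF : F = F' := by rw [hl, hF']; push_cast; ring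
  obtain ⟨n', rfl⟩ : ∃ n' : ℕ, n = n' := ⟨n.toNat, by omega⟩
  rw [← hX] at T hXpos
  rw [eB, eC, eF] at T hXpos
  rw [eB, eC] at hm
  have hd : 4 * B' * F' + 25 * B' * C' ≤ B' * C' * F' + 4 * C' * F' := by
    have : (4 * (B' : ℤ) * F' + 25 * B' * C') < B' * C' * F' + 4 * C' * F' := by linarith
    exact_mod_cast this.le
  have hT : n' * (B' * C' * F' + 4 * C' * F' - (4 * B' * F' + 25 * B' * C')) = 720 * B' * C' * F' := by
    zify [hd]
    linear_combination T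
  have hdpos : 0 < B' * C' * F' + 4 * C' * F' - (4 * B' * F' + 25 * B' * C') := by
    rcases Nat.eq_zero_or_pos (B' * C' * F' + 4 * C' * F' - (4 * B' * F' + 25 * B' * C')) with h0 | h0
    · rw [h0] at hT
      have : 0 < 720 * B' * C' * F' := by positivity
      omega
    · exact h0
  obtain ⟨d1, d2⟩ := quot_of _ _ _ hdpos hT
  have n8' : n' % 8 = 7 := by omega
  have sB' : B' ^ 2 < 120 * n' := by
    rw [eB] at sB
    exact_mod_cast sB
  have hm' : 7 * B' * C' ≤ B' ^ 2 + C' ^ 2 := by exact_mod_cast hm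
  exact hc d1 (by rw [d2]; exact n8') (by rw [d2]; exact sB') hm'

theorem triD (B C F n : ℤ) (hB : 10 ≤ B) (hC : 10 ≤ C) (cB : B % 8 = 2) (cC : C % 8 = 2) (hF : F = B + C - 1)
    (hF35 : 35 ≤ F) (hn : 0 < n) (sF : F ^ 2 < 120 * n) (n8 : n % 8 = 7)
    (T : n * (B * C * F - 4 * C * F - 4 * B * F + 25 * B * C) = 720 * B * C * F) :
    B = 18 ∧ C = 18 ∧ n = 567 := by
  have hBC : 0 < B * C := by positivity
  have hBCF : 0 < B * C * F := by positivity
  have hle : n ≤ 3600 := by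
    have h1 : 5 * (B * C * F - 4 * C * F - 4 * B * F) ≥ B * C * F := by
      have h2 : (C * F) * (B - 10) ≥ 0 := mul_nonneg (by positivity) (by linarith)
      have h3 : (B * F) * (C - 10) ≥ 0 := mul_nonneg (by positivity) (by linarith)
      nlinarith
    have h2 : n * (B * C * F) ≤ n * (5 * (B * C * F - 4 * C * F - 4 * B * F)) :=
      mul_le_mul_of_nonneg_left h1 hn.le
    have h3 : 0 ≤ n * (25 * B * C) := by positivity
    have h4 : (B * C * F) * n ≤ (B * C * F) * 3600 := by nlinarith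
    exact le_of_mul_le_mul_left h4 hBCF
  have hF658 : F < 658 := by nlinarith
  obtain ⟨j, hj⟩ : ∃ j : ℕ, B = 8 * (j : ℤ) + 2 := ⟨((B - 2) / 8).toNat, by omega⟩
  obtain ⟨l, hl⟩ : ∃ l : ℕ, C = 8 * (l : ℤ) + 2 := ⟨((C - 2) / 8).toNat, by omega⟩
  have hj1 : 1 ≤ j := by omega
  have hl1 : 1 ≤ l := by omega
  have hj83 : j < 83 := by omega
  have hl83 : l < 83 := by omega
  have hFe : F = 8 * (j : ℤ) + 8 * l + 3 := by omega
  have hc := chkD j hj83 l hl83 hj1 hl1 (by omega)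
  set B' : ℕ := 8 * j + 2 with hB'
  set C' : ℕ := 8 * l + 2 with hC'
  set F' : ℕ := 8 * j + 8 * l + 3 with hF'
  have eB : B = B' := by rw [hj, hB']; push_cast; ring
  have eC : C = C' := by rw [hl, hC']; push_cast; ring
  have eF : F = F' := by rw [hFe, hF']; push_cast; ring
  obtain ⟨n', rfl⟩ : ∃ n' : ℕ, n = n' := ⟨n.toNat, by omega⟩
  rw [eB, eC, eF] at T
  have hZ : (0 : ℤ) < (B' : ℤ) * C' * F' - 4 * C' * F' - 4 * B' * F' + 25 * B' * C' := by
    by_contra hc'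
    push Not at hc'
    have h1 := mul_nonpos_of_nonneg_of_nonpos (Int.natCast_nonneg n') hc'
    rw [T] at h1
    have : (0 : ℤ) < 720 * B' * C' * F' := by
      rw [← eB, ← eC, ← eF]
      positivity
    linarith
  have hd : 4 * C' * F' + 4 * B' * F' ≤ B' * C' * F' + 25 * B' * C' := by
    have : (4 * (C' : ℤ) * F' + 4 * B' * F') < B' * C' * F' + 25 * B' * C' := by linarith
    exact_mod_cast this.le
  have hT : n' * (B' * C' * F' + 25 * B' * C' - (4 * C' * F' + 4 * B' * F')) = 720 * B' * C' * F' := by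
    zify [hd]
    linear_combination T
  have hdpos : 0 < B' * C' * F' + 25 * B' * C' - (4 * C' * F' + 4 * B' * F') := by
    rcases Nat.eq_zero_or_pos (B' * C' * F' + 25 * B' * C' - (4 * C' * F' + 4 * B' * F')) with h0 | h0
    · rw [h0] at hT
      have : 0 < 720 * B' * C' * F' := by positivity
      omega
    · exact h0
  obtain ⟨d1, d2⟩ := quot_of _ _ _ hdpos hT
  have n8' : n' % 8 = 7 := by omega
  have sF' : F' ^ 2 < 120 * n' := by
    rw [eF] at sF
    exact_mod_cast sF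
  obtain ⟨h1, h2⟩ := hc d1 (by rw [d2]; exact n8') (by rw [d2]; exact sF')
  rw [eB, eC, h1, h2]
  refine ⟨rfl, rfl, ?_⟩
  have hF3 : F' = 35 := by omega
  rw [h1, h2, hF3] at hT
  omega

/-- Signed denominators. -/
theorem e_div (e A : ℤ) (he : e = 1 ∨ e = -1) : (e : ℚ) / A = 1 / ((e * A : ℤ) : ℚ) := by
  rcases he with rfl | rfl
  · simp
  · simp
    ring

theorem t3_eq (x u w n : ℤ) (hx : x ≠ 0) (hu : u ≠ 0) (hw : w ≠ 0)
    (T : (n : ℚ) * (2 + 72 * (1 / (x : ℚ)) + 4 * (1 / (w : ℚ)) + 4 * (1 / (w : ℚ)) + 9 * (1 / (u : ℚ)) + 9 * (1 / (u : ℚ))) = 2400) :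
    n * (2 * x * u * w + 72 * u * w + 8 * x * u + 18 * x * w) = 2400 * x * u * w := by
  have hx' : (x : ℚ) ≠ 0 := by exact_mod_cast hx
  have hu' : (u : ℚ) ≠ 0 := by exact_mod_cast hu
  have hw' : (w : ℚ) ≠ 0 := by exact_mod_cast hw
  have h2 : (n : ℚ) * (2 + 72 * (1 / (x : ℚ)) + 4 * (1 / (w : ℚ)) + 4 * (1 / (w : ℚ)) + 9 * (1 / (u : ℚ)) + 9 * (1 / (u : ℚ))) * (x * u * w) =
      n * (2 * x * u * w + 72 * u * w + 8 * x * u + 18 * x * w) := by
    field_simp
    ring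
  rw [T] at h2
  have h3 : ((n * (2 * x * u * w + 72 * u * w + 8 * x * u + 18 * x * w) : ℤ) : ℚ) = ((2400 * x * u * w : ℤ) : ℚ) := by
    push_cast
    rw [← h2]
    ring
  exact_mod_cast h3

theorem cand14 (x u : ℤ) (h1 : x + u = -15)
    (h2 : 1015 * (2 * x * u * 14 + 72 * u * 14 + 8 * x * u + 18 * x * 14) = 2400 * x * u * 14) : False := by
  have hu : u = -15 - x := by linarith
  subst hu
  exact no_sq 117 13824 (x + 138) (by norm_num) (by norm_num) (by norm_num) (by nlinarith)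

theorem cand62 (x u : ℤ) (h1 : x + u = -63)
    (h2 : 775 * (2 * x * u * 62 + 72 * u * 62 + 8 * x * u + 18 * x * 62) = 2400 * x * u * 62) : False := by
  have hu : u = -63 - x := by linarith
  subst hu
  exact no_sq 342 117504 (5 * x + 18) (by norm_num) (by norm_num) (by norm_num) (by nlinarith)

theorem cand18 (x u : ℤ) (h1 : x + u = 17)
    (h2 : 567 * (2 * x * u * (-18) + 72 * u * (-18) + 8 * x * u + 18 * x * (-18)) = 2400 * x * u * (-18)) : False := by
  have hu : u = 17 - x := by linarith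
  subst hu
  nlinarith [sq_nonneg (506 * x - 9404)]

theorem m3_eq (u v w w' : ℤ) (hu : u ≠ 0) (hv : v ≠ 0) (hw : w ≠ 0) (hw' : w' ≠ 0) (huv : u - v = w - w')
    (M : (4 : ℚ) * (1 / (w' : ℚ) - 1 / (w : ℚ)) + 9 * (1 / (u : ℚ) - 1 / (v : ℚ)) = 0) :
    (w - w') * (4 * u * v - 9 * w * w') = 0 := by
  have hu' : (u : ℚ) ≠ 0 := by exact_mod_cast hu
  have hv' : (v : ℚ) ≠ 0 := by exact_mod_cast hv
  have hw1 : (w : ℚ) ≠ 0 := by exact_mod_cast hw
  have hw2 : (w' : ℚ) ≠ 0 := by exact_mod_cast hw'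
  have huv' : (u : ℚ) - v = w - w' := by exact_mod_cast huv
  have h2 : ((4 : ℚ) * (1 / (w' : ℚ) - 1 / (w : ℚ)) + 9 * (1 / (u : ℚ) - 1 / (v : ℚ))) * (w * w' * u * v) =
      (w - w') * (4 * u * v - 9 * w * w') := by
    field_simp
    linear_combination (-9 : ℚ) * w * w' * huv'
  rw [M, zero_mul] at h2
  have h3 : (((w - w') * (4 * u * v - 9 * w * w') : ℤ) : ℚ) = 0 := by
    push_cast
    exact h2.symm
  exact_mod_cast h3

theorem t2_eq (eB eC eF B C F n : ℤ) (hB : B ≠ 0) (hC : C ≠ 0) (hF : F ≠ 0)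
    (T : (n : ℚ) * (1 + 4 * ((eB : ℚ) / B) + 4 * ((eC : ℚ) / C) + 25 * ((eF : ℚ) / F)) = 720) :
    n * (B * C * F + 4 * eB * C * F + 4 * eC * B * F + 25 * eF * B * C) = 720 * B * C * F := by
  have hB' : (B : ℚ) ≠ 0 := by exact_mod_cast hB
  have hC' : (C : ℚ) ≠ 0 := by exact_mod_cast hC
  have hF' : (F : ℚ) ≠ 0 := by exact_mod_cast hF
  have h2 : (n : ℚ) * (1 + 4 * ((eB : ℚ) / B) + 4 * ((eC : ℚ) / C) + 25 * ((eF : ℚ) / F)) * (B * C * F) =
      n * (B * C * F + 4 * eB * C * F + 4 * eC * B * F + 25 * eF * B * C) := by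
    field_simp
  rw [T] at h2
  have h3 : ((n * (B * C * F + 4 * eB * C * F + 4 * eC * B * F + 25 * eF * B * C) : ℤ) : ℚ) = ((720 * B * C * F : ℤ) : ℚ) := by
    push_cast
    rw [← h2]
    ring
  exact_mod_cast h3

theorem cand30 (u : ℤ) (h7 : 4 * u * (u + 32) - 9 * 30 * 62 = 0) : False := by
  have h1 : 4 * (u + 16) ^ 2 = 4 * 4441 := by linear_combination h7
  exact no_sq 66 4441 (u + 16) (by norm_num) (by norm_num) (by norm_num) (by linarith)

theorem cand30' (v : ℤ) (h7 : 4 * (v + 32) * v - 9 * 62 * 30 = 0) : False := by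
  have h1 : 4 * (v + 16) ^ 2 = 4 * 4441 := by linear_combination h7
  exact no_sq 66 4441 (v + 16) (by norm_num) (by norm_num) (by norm_num) (by linarith)

set_option maxHeartbeats 1000000 in
/-- The triangle pattern does not occur (core case). -/
theorem tri_core (eA eB eC eD eE eF A B C D E F n : ℤ)
    (hA : eA = 1 ∨ eA = -1) (hB : eB = 1 ∨ eB = -1) (hC : eC = 1 ∨ eC = -1) (hD : eD = 1 ∨ eD = -1)
    (hE : eE = 1 ∨ eE = -1) (hF : eF = 1 ∨ eF = -1)
    (pA : 0 < A) (pB : 0 < B) (pC : 0 < C) (pD : 0 < D) (pE : 0 < E) (pF : 0 < F) (hn : 0 < n)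
    (Lp : 1 + eA * A + eC * C + eD * D = 0) (Lq : 1 + eA * A + eB * B + eE * E = 0)
    (Lr : 1 + eB * B + eC * C + eF * F = 0)
    (M3 : (4 : ℚ) * ((eC : ℚ) / C - (eB : ℚ) / B) + 9 * ((eD : ℚ) / D - (eE : ℚ) / E) = 0)
    (T2 : (n : ℚ) * (1 + 4 * ((eB : ℚ) / B) + 4 * ((eC : ℚ) / C) + 25 * ((eF : ℚ) / F)) = 720)
    (T3 : (n : ℚ) * (2 + 72 * ((eA : ℚ) / A) + 4 * ((eB : ℚ) / B) + 4 * ((eC : ℚ) / C) + 9 * ((eD : ℚ) / D) +
      9 * ((eE : ℚ) / E)) = 2400)
    (cB : (B + 2 * eB) % 8 = 0) (cC : (C + 2 * eC) % 8 = 0) (cF : (F + 5 * eF) % 8 = 0)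
    (fB : 0 ≤ B - 14 * eB) (fC : 0 ≤ C - 14 * eC) (fF : 0 ≤ F - 35 * eF)
    (nB : -2 * eB ≠ B) (nC : -2 * eC ≠ C) (nF : -5 * eF ≠ F)
    (sB : B ^ 2 < 120 * n) (sC : C ^ 2 < 120 * n) (sF : F ^ 2 < 120 * n) (n8 : n % 8 = 7)
    (hmix : ¬ (eB = -1 ∧ eC = 1)) : False := by
  have T2i := t2_eq eB eC eF B C F n pB.ne' pC.ne' pF.ne' T2
  have hx0 : eA * A ≠ 0 := mul_ne_zero (by rcases hA with rfl | rfl <;> norm_num) pA.ne'
  have hw0 : eB * B ≠ 0 := mul_ne_zero (by rcases hB with rfl | rfl <;> norm_num) pB.ne'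
  have hw'0 : eC * C ≠ 0 := mul_ne_zero (by rcases hC with rfl | rfl <;> norm_num) pC.ne'
  have hu0 : eD * D ≠ 0 := mul_ne_zero (by rcases hD with rfl | rfl <;> norm_num) pD.ne'
  have hv0 : eE * E ≠ 0 := mul_ne_zero (by rcases hE with rfl | rfl <;> norm_num) pE.ne'
  rw [e_div eC C hC, e_div eB B hB, e_div eD D hD, e_div eE E hE] at M3
  rw [e_div eA A hA, e_div eB B hB, e_div eC C hC, e_div eD D hD, e_div eE E hE] at T3
  obtain ⟨x, hx⟩ : ∃ x, x = eA * A := ⟨_, rfl⟩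
  obtain ⟨w, hw⟩ : ∃ w, w = eB * B := ⟨_, rfl⟩
  obtain ⟨w', hw'⟩ : ∃ w', w' = eC * C := ⟨_, rfl⟩
  obtain ⟨u, hu⟩ : ∃ u, u = eD * D := ⟨_, rfl⟩
  obtain ⟨v, hv⟩ : ∃ v, v = eE * E := ⟨_, rfl⟩
  rw [← hx] at hx0 T3
  rw [← hw] at hw0 M3 T3
  rw [← hw'] at hw'0 M3 T3
  rw [← hu] at hu0 M3 T3
  rw [← hv] at hv0 M3 T3
  have huv : u - v = w - w' := by rw [hu, hv, hw, hw']; linarith
  have M3i := m3_eq u v w w' hu0 hv0 hw0 hw'0 huv M3
  have hL : 1 + x + w' + u = 0 := by rw [hx, hw', hu]; exact Lp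
  -- the case `w = w'`
  have rest : w = w' → (w = 14 ∧ n = 1015) ∨ (w = 62 ∧ n = 775) ∨ (w = -18 ∧ n = 567) → False := by
    intro hww hcase
    have huv' : u = v := by linarith
    rw [← hww, ← huv'] at T3
    have T3i := t3_eq x u w n hx0 hu0 hw0 T3
    rw [← hww] at hL
    rcases hcase with ⟨h1, h2⟩ | ⟨h1, h2⟩ | ⟨h1, h2⟩
    · rw [h1] at T3i hL
      rw [h2] at T3i
      exact cand14 x u (by linarith) T3i
    · rw [h1] at T3i hL
      rw [h2] at T3i
      exact cand62 x u (by linarith) T3i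
    · rw [h1] at T3i hL
      rw [h2] at T3i
      exact cand18 x u (by linarith) T3i
  -- the mixed case
  have mixed : eB = 1 → eC = -1 → 7 * B * C ≤ B ^ 2 + C ^ 2 := by
    intro h1 h2
    have h3 : w = B := by rw [hw, h1, one_mul]
    have h4 : w' = -C := by rw [hw', h2]; ring
    rw [h3, h4] at M3i huv
    have h5 : B - -C ≠ 0 := by omega
    have h6 := (mul_eq_zero.mp M3i).resolve_left h5
    nlinarith [sq_nonneg (u + v)]
  have hlist : (eB = 1 ∧ eC = 1 ∧ eF = -1) ∨ (eB = 1 ∧ eC = -1 ∧ eF = 1) ∨ (eB = 1 ∧ eC = -1 ∧ eF = -1) ∨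
      (eB = -1 ∧ eC = -1 ∧ eF = 1) := by
    rcases hB with h1 | h1 <;> rcases hC with h2 | h2 <;> rcases hF with h3 | h3
    · exfalso; subst h1 h2 h3; omega
    · exact Or.inl ⟨h1, h2, h3⟩
    · exact Or.inr (Or.inl ⟨h1, h2, h3⟩)
    · exact Or.inr (Or.inr (Or.inl ⟨h1, h2, h3⟩))
    · exact absurd ⟨h1, h2⟩ hmix
    · exact absurd ⟨h1, h2⟩ hmix
    · exact Or.inr (Or.inr (Or.inr ⟨h1, h2, h3⟩))
    · exfalso; subst h1 h2 h3; omega
  rcases hlist with ⟨h1, h2, h3⟩ | ⟨h1, h2, h3⟩ | ⟨h1, h2, h3⟩ | ⟨h1, h2, h3⟩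
  · -- type A
    subst h1 h2 h3
    have hw1 : w = B := by rw [hw, one_mul]
    have hw2 : w' = C := by rw [hw', one_mul]
    have hres := triA B C F n (by omega) (by omega) (by omega) (by omega) (by omega) hn sF n8 (by linear_combination T2i)
    rcases hres with ⟨h4, h5, h6⟩ | ⟨h4, h5, h6⟩ | ⟨h4, h5, h6⟩ | ⟨h4, h5, h6⟩
    · exact rest (by omega) (Or.inl ⟨by omega, h6⟩)
    · rw [hw1, hw2, h4, h5] at M3i huv
      have h7 : 4 * u * v - 9 * 30 * 62 = 0 := by
        rcases mul_eq_zero.mp M3i with h8 | h8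
        · norm_num at h8
        · exact h8
      have h8 : v = u + 32 := by linarith
      rw [h8] at h7
      exact cand30 u h7
    · rw [hw1, hw2, h4, h5] at M3i huv
      have h7 : 4 * u * v - 9 * 62 * 30 = 0 := by
        rcases mul_eq_zero.mp M3i with h8 | h8
        · norm_num at h8
        · exact h8
      have h8 : u = v + 32 := by linarith
      rw [h8] at h7
      exact cand30' v h7
    · exact rest (by omega) (Or.inr (Or.inl ⟨by omega, h6⟩))
  · -- type B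
    have hm := mixed h1 h2
    subst h1 h2 h3
    exact triB B C F n (by omega) (by omega) (by omega) (by omega) (by omega) hn sC n8 (by linear_combination T2i) hm
  · -- type C
    have hm := mixed h1 h2
    subst h1 h2 h3
    exact triC B C F n (by omega) (by omega) (by omega) (by omega) (by omega) hn sB n8 (by linear_combination T2i) hm
  · -- type D
    subst h1 h2 h3
    have hw1 : w = -B := by rw [hw]; ring
    have hw2 : w' = -C := by rw [hw']; ring
    obtain ⟨h4, h5, h6⟩ := triD B C F n (by omega) (by omega) (by omega) (by omega) (by omega) (by omega) hn sF n8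
      (by linear_combination T2i)
    exact rest (by omega) (Or.inr (Or.inr ⟨by omega, h6⟩))

/-- The triangle pattern does not occur. -/
theorem tri_main (eA eB eC eD eE eF A B C D E F n : ℤ)
    (hA : eA = 1 ∨ eA = -1) (hB : eB = 1 ∨ eB = -1) (hC : eC = 1 ∨ eC = -1) (hD : eD = 1 ∨ eD = -1)
    (hE : eE = 1 ∨ eE = -1) (hF : eF = 1 ∨ eF = -1)
    (pA : 0 < A) (pB : 0 < B) (pC : 0 < C) (pD : 0 < D) (pE : 0 < E) (pF : 0 < F) (hn : 0 < n)
    (Lp : 1 + eA * A + eC * C + eD * D = 0) (Lq : 1 + eA * A + eB * B + eE * E = 0)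
    (Lr : 1 + eB * B + eC * C + eF * F = 0)
    (M3 : (4 : ℚ) * ((eC : ℚ) / C - (eB : ℚ) / B) + 9 * ((eD : ℚ) / D - (eE : ℚ) / E) = 0)
    (T2 : (n : ℚ) * (1 + 4 * ((eB : ℚ) / B) + 4 * ((eC : ℚ) / C) + 25 * ((eF : ℚ) / F)) = 720)
    (T3 : (n : ℚ) * (2 + 72 * ((eA : ℚ) / A) + 4 * ((eB : ℚ) / B) + 4 * ((eC : ℚ) / C) + 9 * ((eD : ℚ) / D) +
      9 * ((eE : ℚ) / E)) = 2400)
    (cB : (B + 2 * eB) % 8 = 0) (cC : (C + 2 * eC) % 8 = 0) (cF : (F + 5 * eF) % 8 = 0)
    (fB : 0 ≤ B - 14 * eB) (fC : 0 ≤ C - 14 * eC) (fF : 0 ≤ F - 35 * eF)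
    (nB : -2 * eB ≠ B) (nC : -2 * eC ≠ C) (nF : -5 * eF ≠ F)
    (sB : B ^ 2 < 120 * n) (sC : C ^ 2 < 120 * n) (sF : F ^ 2 < 120 * n) (n8 : n % 8 = 7) : False := by
  by_cases hmix : eB = -1 ∧ eC = 1
  · refine tri_core eA eC eB eE eD eF A C B E D F n hA hC hB hE hD hF pA pC pB pE pD pF hn Lq Lp
      (by linarith) (by linarith) (by linarith) (by linarith) cC cB cF fC fB fF nC nB nF sC sB sF n8 ?_
    rintro ⟨h1, h2⟩
    rw [hmix.1] at h2
    norm_num at h2
  · exact tri_core eA eB eC eD eE eF A B C D E F n hA hB hC hD hE hF pA pB pC pD pE pF hn Lp Lq Lr M3 T2 T3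
      cB cC cF fB fC fF nB nC nF sB sC sF n8 hmix

end Cfsg.Agent.Lib.JOrdF
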