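import Mathlib
import Cfsg.Agent.Lib.GL23Pattern
import Cfsg.Agent.Lib.JOrdD
import Cfsg.Agent.Lib.JOrdF

/-!
# Janko's first group, order recognition: the integer rows
-/

set_option autoImplicit false
set_option maxRecDepth 100000
set_option linter.unusedVariables false
set_option linter.unusedSectionVars false

namespace Cfsg.Agent.Lib.JOrdE

open Finset
open Cfsg.Agent.Lib.GL23Pattern (norm_three norm_two pair_n3 eq_on_pair pm_of_sq zero_outside)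

/-- A term of a moment. -/
theorem mterm (a b x ε c d : ℤ) (hε : ε = 1 ∨ ε = -1) (ha : a = c * ε) (hb : b = d * ε) :
    ((a : ℤ) : ℚ) ^ 2 * (b : ℚ) / (x : ℚ) = ((c ^ 2 * d : ℤ) : ℚ) * ((ε : ℚ) / (x : ℚ)) := by
  subst ha hb
  have h1 : (ε : ℚ) ^ 2 = 1 := by
    rcases hε with rfl | rfl <;> norm_num
  push_cast
  linear_combination ((c : ℚ) ^ 2 * d * (ε : ℚ) / (x : ℚ)) * h1

section

variable {I : Type*} [Fintype I] [DecidableEq I]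

theorem sum_of_list {K : Type*} [AddCommMonoid K] (L : List I) (hL : L.Nodup) (F : I → K)
    (h : ∀ i, i ∉ L → F i = 0) : ∑ i, F i = (L.map F).sum := by
  have h1 : ∑ i, F i = ∑ i ∈ L.toFinset, F i :=
    (Finset.sum_subset (Finset.subset_univ _) (fun i _ hi => h i (by simpa using hi))).symm
  rw [h1, List.sum_toFinset _ hL]

/-- The bilinear sums. -/
theorem gram_eq (α β S D : I → ℤ) (hαα : ∑ i, α i ^ 2 = 120) (hββ : ∑ i, β i ^ 2 = 6) (hSS : ∑ i, S i ^ 2 = 20)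
    (hDD : ∑ i, D i ^ 2 = 4) (hαβ : ∑ i, α i * β i = 0) (hαS : ∑ i, α i * S i = 0) (hαD : ∑ i, α i * D i = 0)
    (hβS : ∑ i, β i * S i = 0) (hβD : ∑ i, β i * D i = 0) (hSD : ∑ i, S i * D i = 0)
    (a1 a2 a3 a4 b1 b2 b3 b4 : ℤ) :
    ∑ i, (a1 * α i + a2 * β i + a3 * S i + a4 * D i) * (b1 * α i + b2 * β i + b3 * S i + b4 * D i) =
      120 * a1 * b1 + 6 * a2 * b2 + 20 * a3 * b3 + 4 * a4 * b4 := by
  have h1 : ∀ i, (a1 * α i + a2 * β i + a3 * S i + a4 * D i) * (b1 * α i + b2 * β i + b3 * S i + b4 * D i) =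
      a1 * b1 * α i ^ 2 + a2 * b2 * β i ^ 2 + a3 * b3 * S i ^ 2 + a4 * b4 * D i ^ 2 +
      (a1 * b2 + a2 * b1) * (α i * β i) + (a1 * b3 + a3 * b1) * (α i * S i) + (a1 * b4 + a4 * b1) * (α i * D i) +
      (a2 * b3 + a3 * b2) * (β i * S i) + (a2 * b4 + a4 * b2) * (β i * D i) + (a3 * b4 + a4 * b3) * (S i * D i) := by
    intro i; ring
  simp only [h1, Finset.sum_add_distrib, ← Finset.mul_sum, hαα, hββ, hSS, hDD, hαβ, hαS, hαD, hβS, hβD, hSD]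
  ring

/-- The sums with the degree row. -/
theorem deg_eq (δ α β S D : I → ℤ) (hα : ∑ i, δ i * α i = 0) (hβ : ∑ i, δ i * β i = 0) (hS : ∑ i, δ i * S i = 0)
    (hD : ∑ i, δ i * D i = 0) (a1 a2 a3 a4 : ℤ) :
    ∑ i, δ i * (a1 * α i + a2 * β i + a3 * S i + a4 * D i) = 0 := by
  have h1 : ∀ i, δ i * (a1 * α i + a2 * β i + a3 * S i + a4 * D i) =
      a1 * (δ i * α i) + a2 * (δ i * β i) + a3 * (δ i * S i) + a4 * (δ i * D i) := by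
    intro i; ring
  simp only [h1, Finset.sum_add_distrib, ← Finset.mul_sum, hα, hβ, hS, hD]
  ring

/-- Three nonzero entries of size one, besides `i₀`. -/
structure IsTri (f : I → ℤ) (i₀ a b c : I) : Prop where
  h0a : i₀ ≠ a
  h0b : i₀ ≠ b
  h0c : i₀ ≠ c
  hab : a ≠ b
  hac : a ≠ c
  hbc : b ≠ c
  fa : f a = 1 ∨ f a = -1
  fb : f b = 1 ∨ f b = -1
  fc : f c = 1 ∨ f c = -1
  zero : ∀ i, i ≠ i₀ → i ≠ a → i ≠ b → i ≠ c → f i = 0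

theorem exists_tri (f : I → ℤ) (i₀ : I) (hf : ∑ i, f i ^ 2 = 4) (f0 : f i₀ = 1) :
    ∃ a b c, IsTri f i₀ a b c := by
  have h1 : f i₀ ^ 2 + ∑ i ∈ Finset.univ.erase i₀, f i ^ 2 = ∑ i, f i ^ 2 :=
    Finset.add_sum_erase Finset.univ (fun i => f i ^ 2) (Finset.mem_univ i₀)
  have h2 : ∑ i ∈ Finset.univ.erase i₀, f i ^ 2 = 3 := by
    rw [f0] at h1
    linarith
  obtain ⟨a, ha, b, hb, c, hc, hab, hac, hbc, h3, h4, h5, h6⟩ := norm_three _ f h2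
  have ha' := Finset.mem_erase.mp ha
  have hb' := Finset.mem_erase.mp hb
  have hc' := Finset.mem_erase.mp hc
  exact ⟨a, b, c, ha'.1.symm, hb'.1.symm, hc'.1.symm, hab, hac, hbc, pm_of_sq h3, pm_of_sq h4, pm_of_sq h5,
    fun i h0 h7 h8 h9 => h6 i (Finset.mem_erase.mpr ⟨h0, Finset.mem_univ _⟩) h7 h8 h9⟩

theorem IsTri.swap12 {f : I → ℤ} {i₀ a b c : I} (h : IsTri f i₀ a b c) : IsTri f i₀ b a c :=
  ⟨h.h0b, h.h0a, h.h0c, h.hab.symm, h.hbc, h.hac, h.fb, h.fa, h.fc, fun i h0 h1 h2 h3 => h.zero i h0 h2 h1 h3⟩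

theorem IsTri.swap23 {f : I → ℤ} {i₀ a b c : I} (h : IsTri f i₀ a b c) : IsTri f i₀ a c b :=
  ⟨h.h0a, h.h0c, h.h0b, h.hac, h.hab, h.hbc.symm, h.fa, h.fc, h.fb, fun i h0 h1 h2 h3 => h.zero i h0 h1 h3 h2⟩

theorem IsTri.val {f : I → ℤ} {i₀ a b c : I} (h : IsTri f i₀ a b c) (w : I) (hw : w ≠ i₀) :
    f w = 0 ∨ f w = 1 ∨ f w = -1 := by
  by_cases h1 : w = a
  · subst h1; exact Or.inr h.fa
  by_cases h2 : w = b
  · subst h2; exact Or.inr h.fb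
  by_cases h3 : w = c
  · subst h3; exact Or.inr h.fc
  exact Or.inl (h.zero w hw h1 h2 h3)

theorem IsTri.mem {f : I → ℤ} {i₀ a b c : I} (h : IsTri f i₀ a b c) {w : I} (hw : w ≠ i₀) (hf : f w ≠ 0) :
    w = a ∨ w = b ∨ w = c := by
  by_contra hc
  push Not at hc
  exact hf (h.zero w hw hc.1 hc.2.1 hc.2.2)

theorem IsTri.sum {f : I → ℤ} {i₀ a b c : I} (h : IsTri f i₀ a b c) (g : I → ℤ) :
    ∑ i, g i * f i = g i₀ * f i₀ + g a * f a + g b * f b + g c * f c := by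
  rw [sum_of_list [i₀, a, b, c] (by
    simp [h.h0a, h.h0b, h.h0c, h.hab, h.hac, h.hbc]) (fun i => g i * f i) (fun i hi => by
    simp only [List.mem_cons, List.not_mem_nil, or_false, not_or] at hi
    simp [h.zero i hi.1 hi.2.1 hi.2.2.1 hi.2.2.2])]
  simp only [List.map_cons, List.map_nil, List.sum_cons, List.sum_nil]
  ring

theorem abs_case (pa pb pc ga gb gc da db dc : ℤ) (hpa : pa = 1 ∨ pa = -1) (hpb : pb = 1 ∨ pb = -1)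
    (hpc : pc = 1 ∨ pc = -1) (hga : ga = 0 ∨ ga = 1 ∨ ga = -1) (hgb : gb = 0 ∨ gb = 1 ∨ gb = -1)
    (hgc : gc = 0 ∨ gc = 1 ∨ gc = -1) (hs : ga * pa + gb * pb + gc * pc = 1)
    (hda : 0 < da) (hdb : 0 < db) (hdc : 0 < dc)
    (key : ga ≠ 0 → gb ≠ 0 → gc ≠ 0 → da * (pa - ga) + db * (pb - gb) + dc * (pc - gc) = 0) :
    (ga = pa ∧ gb = 0 ∧ gc = 0) ∨ (gb = pb ∧ ga = 0 ∧ gc = 0) ∨ (gc = pc ∧ ga = 0 ∧ gb = 0) := by
  rcases hpa with rfl | rfl <;> rcases hpb with rfl | rfl <;> rcases hpc with rfl | rfl <;>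
    rcases hga with rfl | rfl | rfl <;> rcases hgb with rfl | rfl | rfl <;> rcases hgc with rfl | rfl | rfl <;>
    simp at hs key ⊢ <;> omega

/-- Two rows of norm four with inner product two have exactly one common nonzero entry besides `i₀`. -/
theorem common (δ p g : I → ℤ) {i₀ a b c d e f : I} (hδ : ∀ i, 0 < δ i) (hp : IsTri p i₀ a b c)
    (hg : IsTri g i₀ d e f) (p0 : p i₀ = 1) (g0 : g i₀ = 1) (gg : ∑ i, g i ^ 2 = 4) (hpg : ∑ i, g i * p i = 2)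
    (dp : ∑ i, δ i * p i = 0) (dg : ∑ i, δ i * g i = 0) :
    ∃ x, x ≠ i₀ ∧ p x ≠ 0 ∧ g x = p x ∧ ∀ w, w ≠ i₀ → p w ≠ 0 → g w ≠ 0 → w = x := by
  have h1 := hp.sum g
  rw [hpg, p0, g0] at h1
  have h2 : ∀ w, w = a ∨ w = b ∨ w = c → w ≠ i₀ := by
    rintro w (rfl | rfl | rfl)
    · exact hp.h0a.symm
    · exact hp.h0b.symm
    · exact hp.h0c.symm
  have hva := hg.val a hp.h0a.symm
  have hvb := hg.val b hp.h0b.symm
  have hvc := hg.val c hp.h0c.symm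
  have hne : ∀ {u : ℤ}, (u = 1 ∨ u = -1) → u ≠ 0 := by
    rintro u (rfl | rfl) <;> norm_num
  have key : g a ≠ 0 → g b ≠ 0 → g c ≠ 0 →
      δ a * (p a - g a) + δ b * (p b - g b) + δ c * (p c - g c) = 0 := by
    intro h3 h4 h5
    have h6 : ∀ w, w ≠ a → w ≠ b → w ≠ c → w ≠ i₀ → g w = 0 := by
      intro w h7 h8 h9 h10
      have h11 : ∀ u, u ≠ 0 → u = 1 ∨ u = -1 → u ^ 2 = 1 := by
        rintro u _ (rfl | rfl) <;> norm_num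
      have h12 : ∑ i, g i ^ 2 ≤ ∑ i ∈ ({i₀, a, b, c} : Finset I), g i ^ 2 := by
        rw [gg, Finset.sum_insert (by simp [hp.h0a, hp.h0b, hp.h0c]), Finset.sum_insert (by simp [hp.hab, hp.hac]),
          Finset.sum_pair hp.hbc, g0]
        have ha1 := h11 (g a) h3 (by omega)
        have hb1 := h11 (g b) h4 (by omega)
        have hc1 := h11 (g c) h5 (by omega)
        rw [ha1, hb1, hc1]
        norm_num
      exact zero_outside g _ h12 w (by simp [h7, h8, h9, h10])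
    have h7 : ∑ i, δ i * (p i - g i) = 0 := by
      simp only [mul_sub, Finset.sum_sub_distrib, dp, dg]
      ring
    rw [sum_of_list [i₀, a, b, c] (by
      simp [hp.h0a, hp.h0b, hp.h0c, hp.hab, hp.hac, hp.hbc]) (fun i => δ i * (p i - g i)) (fun i hi => by
      simp only [List.mem_cons, List.not_mem_nil, or_false, not_or] at hi
      simp [hp.zero i hi.1 hi.2.1 hi.2.2.1 hi.2.2.2, h6 i hi.2.1 hi.2.2.1 hi.2.2.2 hi.1])] at h7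
    simp only [List.map_cons, List.map_nil, List.sum_cons, List.sum_nil] at h7
    rw [p0, g0] at h7
    linarith
  have hor := abs_case (p a) (p b) (p c) (g a) (g b) (g c) (δ a) (δ b) (δ c) hp.fa hp.fb hp.fc hva hvb hvc
    (by linarith) (hδ a) (hδ b) (hδ c) key
  rcases hor with ⟨h3, h4, h5⟩ | ⟨h3, h4, h5⟩ | ⟨h3, h4, h5⟩
  · refine ⟨a, hp.h0a.symm, hne hp.fa, h3, fun w h6 h7 h8 => ?_⟩
    rcases hp.mem h6 h7 with rfl | rfl | rfl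
    · rfl
    · exact absurd h4 h8
    · exact absurd h5 h8
  · refine ⟨b, hp.h0b.symm, hne hp.fb, h3, fun w h6 h7 h8 => ?_⟩
    rcases hp.mem h6 h7 with rfl | rfl | rfl
    · exact absurd h4 h8
    · rfl
    · exact absurd h5 h8
  · refine ⟨c, hp.h0c.symm, hne hp.fc, h3, fun w h6 h7 h8 => ?_⟩
    rcases hp.mem h6 h7 with rfl | rfl | rfl
    · exact absurd h4 h8
    · exact absurd h5 h8
    · rfl


theorem ne_of_val (f : I → ℤ) {u v : I} (hu : f u = 0) (hv : f v ≠ 0) : u ≠ v :=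
  fun e => hv (e ▸ hu)

theorem nz_of_pm {u : ℤ} (h : u = 1 ∨ u = -1) : u ≠ 0 := by
  rcases h with rfl | rfl <;> norm_num

theorem IsTri.reorder {f : I → ℤ} {i₀ a b c w : I} (h : IsTri f i₀ a b c) (hw : w ≠ i₀) (hf : f w ≠ 0) :
    ∃ u v, IsTri f i₀ w u v := by
  rcases h.mem hw hf with rfl | rfl | rfl
  · exact ⟨_, _, h⟩
  · exact ⟨_, _, h.swap12⟩
  · exact ⟨_, _, h.swap23.swap12⟩

theorem IsTri.reorder2 {f : I → ℤ} {i₀ a b c w w' : I} (h : IsTri f i₀ a b c) (hw : w ≠ i₀) (hf : f w ≠ 0)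
    (hw' : w' ≠ i₀) (hf' : f w' ≠ 0) (hne : w ≠ w') : ∃ u, IsTri f i₀ w w' u := by
  obtain ⟨u, v, h1⟩ := h.reorder hw hf
  rcases h1.mem hw' hf' with rfl | rfl | rfl
  · exact absurd rfl hne
  · exact ⟨_, h1⟩
  · exact ⟨_, h1.swap23⟩

/-- The data collected on the integer rows. -/
structure Rows (δ α β S Dd m p q r s : I → ℤ) (i₀ X Y : I) (n : ℤ) : Prop where
  hn : 0 < n
  hδ : ∀ i, 0 < δ i
  hδ1 : ∀ i, δ i = 1 → i = i₀
  δ0 : δ i₀ = 1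
  p0 : p i₀ = 1
  q0 : q i₀ = 1
  r0 : r i₀ = 1
  s0 : s i₀ = 0
  m0 : m i₀ = 1
  eα : ∀ i, α i = 4 * s i + 3 * (p i + q i) - 5 * r i
  eβ : ∀ i, β i = s i + r i
  eS : ∀ i, S i = p i + q i - 2 * s i
  eD : ∀ i, Dd i = p i - q i
  c8 : ∀ i, (8 : ℤ) ∣ δ i - α i
  hfix : ∀ i, 0 ≤ δ i + 7 * α i
  hne : ∀ i, i ≠ i₀ → α i ≠ δ i
  M1 : (n : ℚ) * ∑ i, (α i : ℚ) ^ 2 * (β i : ℚ) / (δ i : ℚ) = 720
  M2 : (n : ℚ) * ∑ i, (α i : ℚ) ^ 2 * (S i : ℚ) / (δ i : ℚ) = 2400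
  M3 : ∑ i, (α i : ℚ) ^ 2 * (Dd i : ℚ) / (δ i : ℚ) = 0
  n8 : n % 8 = 7
  hδδ : ∑ i, δ i ^ 2 = 120 * n
  hm0 : ∀ i, 0 ≤ m i
  hm1 : ∀ i, 8 * m i ≤ δ i + 7 * α i
  hm2 : ∀ i, 9 * α i - δ i ≤ 8 * m i
  hmr : ∑ i, m i * r i = -1
  dp : ∑ i, δ i * p i = 0
  dq : ∑ i, δ i * q i = 0
  dr : ∑ i, δ i * r i = 0
  hXY : X ≠ Y
  sX : s X = 1
  sY : s Y = -1
  δXY : δ X = δ Y
  szero : ∀ i, i ≠ X → i ≠ Y → s i = 0
  pX : p X = 0
  qX : q X = 0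
  rX : r X = 0
  pY : p Y = 0
  qY : q Y = 0
  rY : r Y = 0

theorem Rows.sq_lt {δ α β S Dd m p q r s : I → ℤ} {i₀ X Y : I} {n : ℤ}
    (R : Rows δ α β S Dd m p q r s i₀ X Y n) (w : I) (hw : w ≠ i₀) : δ w ^ 2 < 120 * n := by
  have h1 : ∑ i ∈ ({i₀, w} : Finset I), δ i ^ 2 ≤ ∑ i, δ i ^ 2 :=
    Finset.sum_le_sum_of_subset_of_nonneg (Finset.subset_univ _) (fun i _ _ => sq_nonneg _)
  rw [Finset.sum_pair hw.symm, R.hδδ, R.δ0] at h1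
  linarith

theorem Rows.gt_one {δ α β S Dd m p q r s : I → ℤ} {i₀ X Y : I} {n : ℤ}
    (R : Rows δ α β S Dd m p q r s i₀ X Y n) (w : I) (hw : w ≠ i₀) : 1 < δ w := by
  have h1 := R.hδ w
  have h2 : δ w ≠ 1 := fun h => hw (R.hδ1 w h)
  omega

theorem Rows.cong {δ α β S Dd m p q r s : I → ℤ} {i₀ X Y : I} {n : ℤ}
    (R : Rows δ α β S Dd m p q r s i₀ X Y n) (w : I) (c : ℤ) (hc : α w = c) : (δ w - c) % 8 = 0 := by
  have h1 := R.c8 w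
  rw [hc] at h1
  omega


theorem star_case {δ α β S Dd m p q r s : I → ℤ} {i₀ X Y : I} {n : ℤ}
    (R : Rows δ α β S Dd m p q r s i₀ X Y n) {h a1 b1 a2 b2 a3 b3 : I}
    (tp : IsTri p i₀ h a1 b1) (tq : IsTri q i₀ h a2 b2) (tr : IsTri r i₀ h a3 b3)
    (hqp : q h = p h) (hrp : r h = p h)
    (upq : ∀ w, w ≠ i₀ → p w ≠ 0 → q w ≠ 0 → w = h)
    (upr : ∀ w, w ≠ i₀ → p w ≠ 0 → r w ≠ 0 → w = h)
    (uqr : ∀ w, w ≠ i₀ → q w ≠ 0 → r w ≠ 0 → w = h) : n = 1463 := by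
  have nz_p_h : p h ≠ 0 := nz_of_pm tp.fa
  have nz_q_h : q h ≠ 0 := nz_of_pm tq.fa
  have nz_r_h : r h ≠ 0 := nz_of_pm tr.fa
  have nz_p_a1 : p a1 ≠ 0 := nz_of_pm tp.fb
  have nz_p_b1 : p b1 ≠ 0 := nz_of_pm tp.fc
  have nz_q_a2 : q a2 ≠ 0 := nz_of_pm tq.fb
  have nz_q_b2 : q b2 ≠ 0 := nz_of_pm tq.fc
  have nz_r_a3 : r a3 ≠ 0 := nz_of_pm tr.fb
  have nz_r_b3 : r b3 ≠ 0 := nz_of_pm tr.fc
  have z_q_a1 : q a1 = 0 := by
    by_contra hh; exact tp.hab (upq a1 tp.h0b.symm nz_p_a1 hh).symm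
  have z_q_b1 : q b1 = 0 := by
    by_contra hh; exact tp.hac (upq b1 tp.h0c.symm nz_p_b1 hh).symm
  have z_r_a1 : r a1 = 0 := by
    by_contra hh; exact tp.hab (upr a1 tp.h0b.symm nz_p_a1 hh).symm
  have z_r_b1 : r b1 = 0 := by
    by_contra hh; exact tp.hac (upr b1 tp.h0c.symm nz_p_b1 hh).symm
  have z_p_a2 : p a2 = 0 := by
    by_contra hh; exact tq.hab (upq a2 tq.h0b.symm hh nz_q_a2).symm
  have z_p_b2 : p b2 = 0 := by
    by_contra hh; exact tq.hac (upq b2 tq.h0c.symm hh nz_q_b2).symm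
  have z_r_a2 : r a2 = 0 := by
    by_contra hh; exact tq.hab (uqr a2 tq.h0b.symm nz_q_a2 hh).symm
  have z_r_b2 : r b2 = 0 := by
    by_contra hh; exact tq.hac (uqr b2 tq.h0c.symm nz_q_b2 hh).symm
  have z_p_a3 : p a3 = 0 := by
    by_contra hh; exact tr.hab (upr a3 tr.h0b.symm hh nz_r_a3).symm
  have z_p_b3 : p b3 = 0 := by
    by_contra hh; exact tr.hac (upr b3 tr.h0c.symm hh nz_r_b3).symm
  have z_q_a3 : q a3 = 0 := by
    by_contra hh; exact tr.hab (uqr a3 tr.h0b.symm hh nz_r_a3).symm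
  have z_q_b3 : q b3 = 0 := by
    by_contra hh; exact tr.hac (uqr b3 tr.h0c.symm hh nz_r_b3).symm
  have z_s_h : s h = 0 := R.szero h (ne_of_val p R.pX nz_p_h).symm (ne_of_val p R.pY nz_p_h).symm
  have z_s_a1 : s a1 = 0 := R.szero a1 (ne_of_val p R.pX nz_p_a1).symm (ne_of_val p R.pY nz_p_a1).symm
  have z_s_b1 : s b1 = 0 := R.szero b1 (ne_of_val p R.pX nz_p_b1).symm (ne_of_val p R.pY nz_p_b1).symm
  have z_s_a2 : s a2 = 0 := R.szero a2 (ne_of_val q R.qX nz_q_a2).symm (ne_of_val q R.qY nz_q_a2).symm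
  have z_s_b2 : s b2 = 0 := R.szero b2 (ne_of_val q R.qX nz_q_b2).symm (ne_of_val q R.qY nz_q_b2).symm
  have z_s_a3 : s a3 = 0 := R.szero a3 (ne_of_val r R.rX nz_r_a3).symm (ne_of_val r R.rY nz_r_a3).symm
  have z_s_b3 : s b3 = 0 := R.szero b3 (ne_of_val r R.rX nz_r_b3).symm (ne_of_val r R.rY nz_r_b3).symm
  have nz_s_X : s X ≠ 0 := by rw [R.sX]; norm_num
  have nz_s_Y : s Y ≠ 0 := by rw [R.sY]; norm_num
  have nz_p_i0 : p i₀ ≠ 0 := by rw [R.p0]; norm_num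
  have nz_q_i0 : q i₀ ≠ 0 := by rw [R.q0]; norm_num
  have nz_r_i0 : r i₀ ≠ 0 := by rw [R.r0]; norm_num
  have z_s_i0 : s i₀ = 0 := R.s0
  have c_α_h : α h = (1:ℤ) * (p h) := by
    rw [R.eα h]; omega
  have c_β_h : β h = (1:ℤ) * (p h) := by
    rw [R.eβ h]; omega
  have c_S_h : S h = (2:ℤ) * (p h) := by
    rw [R.eS h]; omega
  have c_Dd_h : Dd h = (0:ℤ) * (p h) := by
    rw [R.eD h]; omega
  have c_α_a1 : α a1 = (3:ℤ) * (p a1) := by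
    rw [R.eα a1]; omega
  have c_β_a1 : β a1 = (0:ℤ) * (p a1) := by
    rw [R.eβ a1]; omega
  have c_S_a1 : S a1 = (1:ℤ) * (p a1) := by
    rw [R.eS a1]; omega
  have c_Dd_a1 : Dd a1 = (1:ℤ) * (p a1) := by
    rw [R.eD a1]; omega
  have c_α_b1 : α b1 = (3:ℤ) * (p b1) := by
    rw [R.eα b1]; omega
  have c_β_b1 : β b1 = (0:ℤ) * (p b1) := by
    rw [R.eβ b1]; omega
  have c_S_b1 : S b1 = (1:ℤ) * (p b1) := by
    rw [R.eS b1]; omega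
  have c_Dd_b1 : Dd b1 = (1:ℤ) * (p b1) := by
    rw [R.eD b1]; omega
  have c_α_a2 : α a2 = (3:ℤ) * (q a2) := by
    rw [R.eα a2]; omega
  have c_β_a2 : β a2 = (0:ℤ) * (q a2) := by
    rw [R.eβ a2]; omega
  have c_S_a2 : S a2 = (1:ℤ) * (q a2) := by
    rw [R.eS a2]; omega
  have c_Dd_a2 : Dd a2 = (-1:ℤ) * (q a2) := by
    rw [R.eD a2]; omega
  have c_α_b2 : α b2 = (3:ℤ) * (q b2) := by
    rw [R.eα b2]; omega
  have c_β_b2 : β b2 = (0:ℤ) * (q b2) := by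
    rw [R.eβ b2]; omega
  have c_S_b2 : S b2 = (1:ℤ) * (q b2) := by
    rw [R.eS b2]; omega
  have c_Dd_b2 : Dd b2 = (-1:ℤ) * (q b2) := by
    rw [R.eD b2]; omega
  have c_α_a3 : α a3 = (-5:ℤ) * (r a3) := by
    rw [R.eα a3]; omega
  have c_β_a3 : β a3 = (1:ℤ) * (r a3) := by
    rw [R.eβ a3]; omega
  have c_S_a3 : S a3 = (0:ℤ) * (r a3) := by
    rw [R.eS a3]; omega
  have c_Dd_a3 : Dd a3 = (0:ℤ) * (r a3) := by
    rw [R.eD a3]; omega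
  have c_α_b3 : α b3 = (-5:ℤ) * (r b3) := by
    rw [R.eα b3]; omega
  have c_β_b3 : β b3 = (1:ℤ) * (r b3) := by
    rw [R.eβ b3]; omega
  have c_S_b3 : S b3 = (0:ℤ) * (r b3) := by
    rw [R.eS b3]; omega
  have c_Dd_b3 : Dd b3 = (0:ℤ) * (r b3) := by
    rw [R.eD b3]; omega
  have v_α_i0 : α i₀ = 1 := by
    have := R.eα i₀; have := R.p0; have := R.q0; have := R.r0; have := R.s0; omega
  have v_α_X : α X = (4:ℤ) * (s X) := by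
    have := R.eα X; have := R.pX; have := R.qX; have := R.rX; have := R.sX; omega
  have v_α_Y : α Y = (4:ℤ) * (s Y) := by
    have := R.eα Y; have := R.pY; have := R.qY; have := R.rY; have := R.sY; omega
  have v_β_i0 : β i₀ = 1 := by
    have := R.eβ i₀; have := R.p0; have := R.q0; have := R.r0; have := R.s0; omega
  have v_β_X : β X = (1:ℤ) * (s X) := by
    have := R.eβ X; have := R.pX; have := R.qX; have := R.rX; have := R.sX; omega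
  have v_β_Y : β Y = (1:ℤ) * (s Y) := by
    have := R.eβ Y; have := R.pY; have := R.qY; have := R.rY; have := R.sY; omega
  have v_S_i0 : S i₀ = 2 := by
    have := R.eS i₀; have := R.p0; have := R.q0; have := R.r0; have := R.s0; omega
  have v_S_X : S X = (-2:ℤ) * (s X) := by
    have := R.eS X; have := R.pX; have := R.qX; have := R.rX; have := R.sX; omega
  have v_S_Y : S Y = (-2:ℤ) * (s Y) := by
    have := R.eS Y; have := R.pY; have := R.qY; have := R.rY; have := R.sY; omega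
  have v_Dd_i0 : Dd i₀ = 0 := by
    have := R.eD i₀; have := R.p0; have := R.q0; have := R.r0; have := R.s0; omega
  have v_Dd_X : Dd X = (0:ℤ) * (s X) := by
    have := R.eD X; have := R.pX; have := R.qX; have := R.rX; have := R.sX; omega
  have v_Dd_Y : Dd Y = (0:ℤ) * (s Y) := by
    have := R.eD Y; have := R.pY; have := R.qY; have := R.rY; have := R.sY; omega
  have ne_i0_h : i₀ ≠ h := tp.h0a
  have ne_i0_a1 : i₀ ≠ a1 := (ne_of_val q z_q_a1 nz_q_i0).symm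
  have ne_i0_b1 : i₀ ≠ b1 := (ne_of_val q z_q_b1 nz_q_i0).symm
  have ne_i0_a2 : i₀ ≠ a2 := (ne_of_val p z_p_a2 nz_p_i0).symm
  have ne_i0_b2 : i₀ ≠ b2 := (ne_of_val p z_p_b2 nz_p_i0).symm
  have ne_i0_a3 : i₀ ≠ a3 := (ne_of_val p z_p_a3 nz_p_i0).symm
  have ne_i0_b3 : i₀ ≠ b3 := (ne_of_val p z_p_b3 nz_p_i0).symm
  have ne_i0_X : i₀ ≠ X := (ne_of_val p R.pX nz_p_i0).symm
  have ne_i0_Y : i₀ ≠ Y := (ne_of_val p R.pY nz_p_i0).symm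
  have ne_h_a1 : h ≠ a1 := (ne_of_val q z_q_a1 nz_q_h).symm
  have ne_h_b1 : h ≠ b1 := (ne_of_val q z_q_b1 nz_q_h).symm
  have ne_h_a2 : h ≠ a2 := (ne_of_val p z_p_a2 nz_p_h).symm
  have ne_h_b2 : h ≠ b2 := (ne_of_val p z_p_b2 nz_p_h).symm
  have ne_h_a3 : h ≠ a3 := (ne_of_val p z_p_a3 nz_p_h).symm
  have ne_h_b3 : h ≠ b3 := (ne_of_val p z_p_b3 nz_p_h).symm
  have ne_h_X : h ≠ X := (ne_of_val p R.pX nz_p_h).symm
  have ne_h_Y : h ≠ Y := (ne_of_val p R.pY nz_p_h).symm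
  have ne_a1_b1 : a1 ≠ b1 := tp.hbc
  have ne_a1_a2 : a1 ≠ a2 := (ne_of_val p z_p_a2 nz_p_a1).symm
  have ne_a1_b2 : a1 ≠ b2 := (ne_of_val p z_p_b2 nz_p_a1).symm
  have ne_a1_a3 : a1 ≠ a3 := (ne_of_val p z_p_a3 nz_p_a1).symm
  have ne_a1_b3 : a1 ≠ b3 := (ne_of_val p z_p_b3 nz_p_a1).symm
  have ne_a1_X : a1 ≠ X := (ne_of_val p R.pX nz_p_a1).symm
  have ne_a1_Y : a1 ≠ Y := (ne_of_val p R.pY nz_p_a1).symm
  have ne_b1_a2 : b1 ≠ a2 := (ne_of_val p z_p_a2 nz_p_b1).symm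
  have ne_b1_b2 : b1 ≠ b2 := (ne_of_val p z_p_b2 nz_p_b1).symm
  have ne_b1_a3 : b1 ≠ a3 := (ne_of_val p z_p_a3 nz_p_b1).symm
  have ne_b1_b3 : b1 ≠ b3 := (ne_of_val p z_p_b3 nz_p_b1).symm
  have ne_b1_X : b1 ≠ X := (ne_of_val p R.pX nz_p_b1).symm
  have ne_b1_Y : b1 ≠ Y := (ne_of_val p R.pY nz_p_b1).symm
  have ne_a2_b2 : a2 ≠ b2 := tq.hbc
  have ne_a2_a3 : a2 ≠ a3 := (ne_of_val q z_q_a3 nz_q_a2).symm
  have ne_a2_b3 : a2 ≠ b3 := (ne_of_val q z_q_b3 nz_q_a2).symm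
  have ne_a2_X : a2 ≠ X := (ne_of_val q R.qX nz_q_a2).symm
  have ne_a2_Y : a2 ≠ Y := (ne_of_val q R.qY nz_q_a2).symm
  have ne_b2_a3 : b2 ≠ a3 := (ne_of_val q z_q_a3 nz_q_b2).symm
  have ne_b2_b3 : b2 ≠ b3 := (ne_of_val q z_q_b3 nz_q_b2).symm
  have ne_b2_X : b2 ≠ X := (ne_of_val q R.qX nz_q_b2).symm
  have ne_b2_Y : b2 ≠ Y := (ne_of_val q R.qY nz_q_b2).symm
  have ne_a3_b3 : a3 ≠ b3 := tr.hbc
  have ne_a3_X : a3 ≠ X := (ne_of_val r R.rX nz_r_a3).symm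
  have ne_a3_Y : a3 ≠ Y := (ne_of_val r R.rY nz_r_a3).symm
  have ne_b3_X : b3 ≠ X := (ne_of_val r R.rX nz_r_b3).symm
  have ne_b3_Y : b3 ≠ Y := (ne_of_val r R.rY nz_r_b3).symm
  have ne_X_Y : X ≠ Y := R.hXY
  have hL : List.Nodup [i₀, h, a1, b1, a2, b2, a3, b3, X, Y] := by
    simp only [List.nodup_cons, List.mem_cons, List.not_mem_nil, or_false, not_or, List.nodup_nil, not_false_eq_true, and_true, true_and]
    exact ⟨⟨ne_i0_h, ne_i0_a1, ne_i0_b1, ne_i0_a2, ne_i0_b2, ne_i0_a3, ne_i0_b3, ne_i0_X, ne_i0_Y⟩, ⟨ne_h_a1, ne_h_b1, ne_h_a2, ne_h_b2, ne_h_a3, ne_h_b3, ne_h_X, ne_h_Y⟩, ⟨ne_a1_b1, ne_a1_a2, ne_a1_b2, ne_a1_a3, ne_a1_b3, ne_a1_X, ne_a1_Y⟩, ⟨ne_b1_a2, ne_b1_b2, ne_b1_a3, ne_b1_b3, ne_b1_X, ne_b1_Y⟩, ⟨ne_a2_b2, ne_a2_a3, ne_a2_b3, ne_a2_X, ne_a2_Y⟩, ⟨ne_b2_a3, ne_b2_b3, ne_b2_X, ne_b2_Y⟩, ⟨ne_a3_b3, ne_a3_X, ne_a3_Y⟩, ⟨ne_b3_X, ne_b3_Y⟩, ne_X_Y⟩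
  have hout : ∀ i, i ∉ [i₀, h, a1, b1, a2, b2, a3, b3, X, Y] → α i = 0 := by
    intro i hi
    simp only [List.mem_cons, List.not_mem_nil, or_false, not_or] at hi
    obtain ⟨h0, h1, h2, h3, h4, h5, h6, h7, h8, h9⟩ := hi
    have hp := tp.zero i h0 h1 h2 h3
    have hq := tq.zero i h0 h1 h4 h5
    have hr := tr.zero i h0 h1 h6 h7
    have hs := R.szero i h8 h9
    rw [R.eα, hp, hq, hr, hs]; norm_num
  have sg_h : p h = 1 ∨ p h = -1 := tp.fa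
  have sg_a1 := tp.fb
  have sg_b1 := tp.fc
  have sg_a2 := tq.fb
  have sg_b2 := tq.fc
  have sg_a3 := tr.fb
  have sg_b3 := tr.fc
  have t_1_i0 : (α i₀ : ℚ) ^ 2 * (β i₀ : ℚ) / (δ i₀ : ℚ) = 1 := by
    rw [v_α_i0, v_β_i0, R.δ0]; norm_num
  have t_1_h := mterm (α h) (β h) (δ h) (p h) (1:ℤ) (1:ℤ) sg_h c_α_h c_β_h
  have t_1_a1 := mterm (α a1) (β a1) (δ a1) (p a1) (3:ℤ) (0:ℤ) sg_a1 c_α_a1 c_β_a1
  have t_1_b1 := mterm (α b1) (β b1) (δ b1) (p b1) (3:ℤ) (0:ℤ) sg_b1 c_α_b1 c_β_b1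
  have t_1_a2 := mterm (α a2) (β a2) (δ a2) (q a2) (3:ℤ) (0:ℤ) sg_a2 c_α_a2 c_β_a2
  have t_1_b2 := mterm (α b2) (β b2) (δ b2) (q b2) (3:ℤ) (0:ℤ) sg_b2 c_α_b2 c_β_b2
  have t_1_a3 := mterm (α a3) (β a3) (δ a3) (r a3) (-5:ℤ) (1:ℤ) sg_a3 c_α_a3 c_β_a3
  have t_1_b3 := mterm (α b3) (β b3) (δ b3) (r b3) (-5:ℤ) (1:ℤ) sg_b3 c_α_b3 c_β_b3
  have t_1_X := mterm (α X) (β X) (δ X) (s X) (4:ℤ) (1:ℤ) (Or.inl R.sX) v_α_X v_β_X
  have t_1_Y := mterm (α Y) (β Y) (δ Y) (s Y) (4:ℤ) (1:ℤ) (Or.inr R.sY) v_α_Y v_β_Y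
  have s_1 : ∑ i, (α i : ℚ) ^ 2 * (β i : ℚ) / (δ i : ℚ) = _ := sum_of_list [i₀, h, a1, b1, a2, b2, a3, b3, X, Y] hL (fun i => (α i : ℚ) ^ 2 * (β i : ℚ) / (δ i : ℚ)) (fun i hi => by simp [hout i hi])
  simp only [List.map_cons, List.map_nil, List.sum_cons, List.sum_nil, t_1_i0, t_1_h, t_1_a1, t_1_b1, t_1_a2, t_1_b2, t_1_a3, t_1_b3, t_1_X, t_1_Y, R.sX, R.sY] at s_1
  simp only [← R.δXY] at s_1
  have t_2_i0 : (α i₀ : ℚ) ^ 2 * (S i₀ : ℚ) / (δ i₀ : ℚ) = 2 := by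
    rw [v_α_i0, v_S_i0, R.δ0]; norm_num
  have t_2_h := mterm (α h) (S h) (δ h) (p h) (1:ℤ) (2:ℤ) sg_h c_α_h c_S_h
  have t_2_a1 := mterm (α a1) (S a1) (δ a1) (p a1) (3:ℤ) (1:ℤ) sg_a1 c_α_a1 c_S_a1
  have t_2_b1 := mterm (α b1) (S b1) (δ b1) (p b1) (3:ℤ) (1:ℤ) sg_b1 c_α_b1 c_S_b1
  have t_2_a2 := mterm (α a2) (S a2) (δ a2) (q a2) (3:ℤ) (1:ℤ) sg_a2 c_α_a2 c_S_a2
  have t_2_b2 := mterm (α b2) (S b2) (δ b2) (q b2) (3:ℤ) (1:ℤ) sg_b2 c_α_b2 c_S_b2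
  have t_2_a3 := mterm (α a3) (S a3) (δ a3) (r a3) (-5:ℤ) (0:ℤ) sg_a3 c_α_a3 c_S_a3
  have t_2_b3 := mterm (α b3) (S b3) (δ b3) (r b3) (-5:ℤ) (0:ℤ) sg_b3 c_α_b3 c_S_b3
  have t_2_X := mterm (α X) (S X) (δ X) (s X) (4:ℤ) (-2:ℤ) (Or.inl R.sX) v_α_X v_S_X
  have t_2_Y := mterm (α Y) (S Y) (δ Y) (s Y) (4:ℤ) (-2:ℤ) (Or.inr R.sY) v_α_Y v_S_Y
  have s_2 : ∑ i, (α i : ℚ) ^ 2 * (S i : ℚ) / (δ i : ℚ) = _ := sum_of_list [i₀, h, a1, b1, a2, b2, a3, b3, X, Y] hL (fun i => (α i : ℚ) ^ 2 * (S i : ℚ) / (δ i : ℚ)) (fun i hi => by simp [hout i hi])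
  simp only [List.map_cons, List.map_nil, List.sum_cons, List.sum_nil, t_2_i0, t_2_h, t_2_a1, t_2_b1, t_2_a2, t_2_b2, t_2_a3, t_2_b3, t_2_X, t_2_Y, R.sX, R.sY] at s_2
  simp only [← R.δXY] at s_2
  have t_3_i0 : (α i₀ : ℚ) ^ 2 * (Dd i₀ : ℚ) / (δ i₀ : ℚ) = 0 := by
    rw [v_α_i0, v_Dd_i0, R.δ0]; norm_num
  have t_3_h := mterm (α h) (Dd h) (δ h) (p h) (1:ℤ) (0:ℤ) sg_h c_α_h c_Dd_h
  have t_3_a1 := mterm (α a1) (Dd a1) (δ a1) (p a1) (3:ℤ) (1:ℤ) sg_a1 c_α_a1 c_Dd_a1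
  have t_3_b1 := mterm (α b1) (Dd b1) (δ b1) (p b1) (3:ℤ) (1:ℤ) sg_b1 c_α_b1 c_Dd_b1
  have t_3_a2 := mterm (α a2) (Dd a2) (δ a2) (q a2) (3:ℤ) (-1:ℤ) sg_a2 c_α_a2 c_Dd_a2
  have t_3_b2 := mterm (α b2) (Dd b2) (δ b2) (q b2) (3:ℤ) (-1:ℤ) sg_b2 c_α_b2 c_Dd_b2
  have t_3_a3 := mterm (α a3) (Dd a3) (δ a3) (r a3) (-5:ℤ) (0:ℤ) sg_a3 c_α_a3 c_Dd_a3
  have t_3_b3 := mterm (α b3) (Dd b3) (δ b3) (r b3) (-5:ℤ) (0:ℤ) sg_b3 c_α_b3 c_Dd_b3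
  have t_3_X := mterm (α X) (Dd X) (δ X) (s X) (4:ℤ) (0:ℤ) (Or.inl R.sX) v_α_X v_Dd_X
  have t_3_Y := mterm (α Y) (Dd Y) (δ Y) (s Y) (4:ℤ) (0:ℤ) (Or.inr R.sY) v_α_Y v_Dd_Y
  have s_3 : ∑ i, (α i : ℚ) ^ 2 * (Dd i : ℚ) / (δ i : ℚ) = _ := sum_of_list [i₀, h, a1, b1, a2, b2, a3, b3, X, Y] hL (fun i => (α i : ℚ) ^ 2 * (Dd i : ℚ) / (δ i : ℚ)) (fun i hi => by simp [hout i hi])
  simp only [List.map_cons, List.map_nil, List.sum_cons, List.sum_nil, t_3_i0, t_3_h, t_3_a1, t_3_b1, t_3_a2, t_3_b2, t_3_a3, t_3_b3, t_3_X, t_3_Y, R.sX, R.sY] at s_3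
  simp only [← R.δXY] at s_3
  have M1 := R.M1
  have M2 := R.M2
  have M3 := R.M3
  rw [s_1] at M1
  rw [s_2] at M2
  rw [s_3] at M3
  push_cast at M1 M2 M3
  have hne0 : ∀ i, (δ i : ℚ) ≠ 0 := fun i => by exact_mod_cast (R.hδ i).ne'
  have E1 : (n : ℚ) * (1 + ((p h : ℤ) : ℚ) / (δ h : ℚ) + (25 : ℤ) * (((r a3 : ℤ) : ℚ) / (δ a3 : ℚ) + ((r b3 : ℤ) : ℚ) / (δ b3 : ℚ))) = (720 : ℤ) := by
    push_cast
    linear_combination M1
  have E2 : (n : ℚ) * (1 + ((p h : ℤ) : ℚ) / (δ h : ℚ) + (9 : ℤ) * (((p a1 : ℤ) : ℚ) / (δ a1 : ℚ) + ((p b1 : ℤ) : ℚ) / (δ b1 : ℚ))) = (1200 : ℤ) := by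
    push_cast
    linear_combination (1 / 2 : ℚ) * M2 + ((n : ℚ) / 2) * M3
  have L1 : 1 + p h * δ h + p a1 * δ a1 + p b1 * δ b1 = 0 := by
    have h1 := tp.sum δ
    rw [R.dp, R.p0, R.δ0] at h1
    linarith
  have L3 : 1 + p h * δ h + r a3 * δ a3 + r b3 * δ b3 = 0 := by
    have h1 := tr.sum δ
    rw [R.dr, R.r0, R.δ0, hrp] at h1
    linarith
  have hstar := Cfsg.Agent.Lib.JOrdD.star_main (p h) (p a1) (p b1) (r a3) (r b3) (δ h) (δ a1) (δ b1) (δ a3) (δ b3) n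
    sg_h sg_a1 sg_b1 sg_a3 sg_b3 (R.gt_one h tp.h0a.symm) (R.hδ _) (R.hδ _) (R.hδ _) (R.hδ _) R.hn L1 L3 E1 E2
    (R.cong h _ (by rw [c_α_h]; ring)) (R.cong a1 _ (by rw [c_α_a1])) (R.cong b1 _ (by rw [c_α_b1]))
    (by have := R.hfix a1; rw [c_α_a1] at this; linarith) (by have := R.hfix b1; rw [c_α_b1] at this; linarith)
    (by have := R.hne a1 tp.h0b.symm; rw [c_α_a1] at this; exact this)
    (by have := R.hne b1 tp.h0c.symm; rw [c_α_b1] at this; exact this)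
    (R.sq_lt h tp.h0a.symm) (R.sq_lt a1 tp.h0b.symm) (R.sq_lt b1 tp.h0c.symm)
  rcases hstar with h1 | ⟨h1, h2, h3⟩
  · exact h1
  exfalso
  have h4 := tr.sum m
  rw [R.hmr, R.r0, hrp, h1, R.m0] at h4
  have h5 := R.hm0 h
  rcases h3 with ⟨h6, h7, h8, h9⟩ | ⟨h6, h7, h8, h9⟩
  · have h10 := R.hm1 a3
    have h11 := R.hm0 a3
    have h12 := R.hm2 b3
    rw [c_α_a3, h6, h8] at h10
    rw [c_α_b3, h7, h9] at h12
    rw [h6, h7] at h4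
    omega
  · have h10 := R.hm1 b3
    have h11 := R.hm0 b3
    have h12 := R.hm2 a3
    rw [c_α_b3, h7, h9] at h10
    rw [c_α_a3, h6, h8] at h12
    rw [h6, h7] at h4
    omega


theorem tri_case {δ α β S Dd m p q r s : I → ℤ} {i₀ X Y : I} {n : ℤ}
    (R : Rows δ α β S Dd m p q r s i₀ X Y n) {A B C DD EE FF : I}
    (tp : IsTri p i₀ A C DD) (tq : IsTri q i₀ A B EE) (tr : IsTri r i₀ C B FF)
    (hqA : q A = p A) (hrC : r C = p C) (hrB : r B = q B)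
    (upq : ∀ w, w ≠ i₀ → p w ≠ 0 → q w ≠ 0 → w = A)
    (upr : ∀ w, w ≠ i₀ → p w ≠ 0 → r w ≠ 0 → w = C)
    (uqr : ∀ w, w ≠ i₀ → q w ≠ 0 → r w ≠ 0 → w = B) (hAC : A ≠ C) (hAB : A ≠ B) (hBC : B ≠ C) : False := by
  have nz_p_A : p A ≠ 0 := nz_of_pm tp.fa
  have nz_q_A : q A ≠ 0 := nz_of_pm tq.fa
  have nz_p_C : p C ≠ 0 := nz_of_pm tp.fb
  have nz_r_C : r C ≠ 0 := nz_of_pm tr.fa
  have nz_q_B : q B ≠ 0 := nz_of_pm tq.fb
  have nz_r_B : r B ≠ 0 := nz_of_pm tr.fb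
  have nz_p_DD : p DD ≠ 0 := nz_of_pm tp.fc
  have nz_q_EE : q EE ≠ 0 := nz_of_pm tq.fc
  have nz_r_FF : r FF ≠ 0 := nz_of_pm tr.fc
  have z_r_A : r A = 0 := by
    by_contra hh; exact hAC (upr A tp.h0a.symm nz_p_A hh)
  have z_q_C : q C = 0 := by
    by_contra hh; exact hAC (upq C tp.h0b.symm nz_p_C hh).symm
  have z_p_B : p B = 0 := by
    by_contra hh; exact hAB (upq B tq.h0b.symm hh nz_q_B).symm
  have z_q_DD : q DD = 0 := by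
    by_contra hh; exact tp.hac (upq DD tp.h0c.symm nz_p_DD hh).symm
  have z_r_DD : r DD = 0 := by
    by_contra hh; exact tp.hbc (upr DD tp.h0c.symm nz_p_DD hh).symm
  have z_p_EE : p EE = 0 := by
    by_contra hh; exact tq.hac (upq EE tq.h0c.symm hh nz_q_EE).symm
  have z_r_EE : r EE = 0 := by
    by_contra hh; exact tq.hbc (uqr EE tq.h0c.symm nz_q_EE hh).symm
  have z_p_FF : p FF = 0 := by
    by_contra hh; exact tr.hac (upr FF tr.h0c.symm hh nz_r_FF).symm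
  have z_q_FF : q FF = 0 := by
    by_contra hh; exact tr.hbc (uqr FF tr.h0c.symm hh nz_r_FF).symm
  have z_s_A : s A = 0 := R.szero A (ne_of_val p R.pX nz_p_A).symm (ne_of_val p R.pY nz_p_A).symm
  have z_s_B : s B = 0 := R.szero B (ne_of_val q R.qX nz_q_B).symm (ne_of_val q R.qY nz_q_B).symm
  have z_s_C : s C = 0 := R.szero C (ne_of_val p R.pX nz_p_C).symm (ne_of_val p R.pY nz_p_C).symm
  have z_s_DD : s DD = 0 := R.szero DD (ne_of_val p R.pX nz_p_DD).symm (ne_of_val p R.pY nz_p_DD).symm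
  have z_s_EE : s EE = 0 := R.szero EE (ne_of_val q R.qX nz_q_EE).symm (ne_of_val q R.qY nz_q_EE).symm
  have z_s_FF : s FF = 0 := R.szero FF (ne_of_val r R.rX nz_r_FF).symm (ne_of_val r R.rY nz_r_FF).symm
  have nz_s_X : s X ≠ 0 := by rw [R.sX]; norm_num
  have nz_s_Y : s Y ≠ 0 := by rw [R.sY]; norm_num
  have nz_p_i0 : p i₀ ≠ 0 := by rw [R.p0]; norm_num
  have nz_q_i0 : q i₀ ≠ 0 := by rw [R.q0]; norm_num
  have nz_r_i0 : r i₀ ≠ 0 := by rw [R.r0]; norm_num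
  have z_s_i0 : s i₀ = 0 := R.s0
  have c_α_A : α A = (6:ℤ) * (p A) := by
    rw [R.eα A]; omega
  have c_β_A : β A = (0:ℤ) * (p A) := by
    rw [R.eβ A]; omega
  have c_S_A : S A = (2:ℤ) * (p A) := by
    rw [R.eS A]; omega
  have c_Dd_A : Dd A = (0:ℤ) * (p A) := by
    rw [R.eD A]; omega
  have c_α_B : α B = (-2:ℤ) * (q B) := by
    rw [R.eα B]; omega
  have c_β_B : β B = (1:ℤ) * (q B) := by
    rw [R.eβ B]; omega
  have c_S_B : S B = (1:ℤ) * (q B) := by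
    rw [R.eS B]; omega
  have c_Dd_B : Dd B = (-1:ℤ) * (q B) := by
    rw [R.eD B]; omega
  have c_α_C : α C = (-2:ℤ) * (p C) := by
    rw [R.eα C]; omega
  have c_β_C : β C = (1:ℤ) * (p C) := by
    rw [R.eβ C]; omega
  have c_S_C : S C = (1:ℤ) * (p C) := by
    rw [R.eS C]; omega
  have c_Dd_C : Dd C = (1:ℤ) * (p C) := by
    rw [R.eD C]; omega
  have c_α_DD : α DD = (3:ℤ) * (p DD) := by
    rw [R.eα DD]; omega
  have c_β_DD : β DD = (0:ℤ) * (p DD) := by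
    rw [R.eβ DD]; omega
  have c_S_DD : S DD = (1:ℤ) * (p DD) := by
    rw [R.eS DD]; omega
  have c_Dd_DD : Dd DD = (1:ℤ) * (p DD) := by
    rw [R.eD DD]; omega
  have c_α_EE : α EE = (3:ℤ) * (q EE) := by
    rw [R.eα EE]; omega
  have c_β_EE : β EE = (0:ℤ) * (q EE) := by
    rw [R.eβ EE]; omega
  have c_S_EE : S EE = (1:ℤ) * (q EE) := by
    rw [R.eS EE]; omega
  have c_Dd_EE : Dd EE = (-1:ℤ) * (q EE) := by
    rw [R.eD EE]; omega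
  have c_α_FF : α FF = (-5:ℤ) * (r FF) := by
    rw [R.eα FF]; omega
  have c_β_FF : β FF = (1:ℤ) * (r FF) := by
    rw [R.eβ FF]; omega
  have c_S_FF : S FF = (0:ℤ) * (r FF) := by
    rw [R.eS FF]; omega
  have c_Dd_FF : Dd FF = (0:ℤ) * (r FF) := by
    rw [R.eD FF]; omega
  have v_α_i0 : α i₀ = 1 := by
    have := R.eα i₀; have := R.p0; have := R.q0; have := R.r0; have := R.s0; omega
  have v_α_X : α X = (4:ℤ) * (s X) := by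
    have := R.eα X; have := R.pX; have := R.qX; have := R.rX; have := R.sX; omega
  have v_α_Y : α Y = (4:ℤ) * (s Y) := by
    have := R.eα Y; have := R.pY; have := R.qY; have := R.rY; have := R.sY; omega
  have v_β_i0 : β i₀ = 1 := by
    have := R.eβ i₀; have := R.p0; have := R.q0; have := R.r0; have := R.s0; omega
  have v_β_X : β X = (1:ℤ) * (s X) := by
    have := R.eβ X; have := R.pX; have := R.qX; have := R.rX; have := R.sX; omega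
  have v_β_Y : β Y = (1:ℤ) * (s Y) := by
    have := R.eβ Y; have := R.pY; have := R.qY; have := R.rY; have := R.sY; omega
  have v_S_i0 : S i₀ = 2 := by
    have := R.eS i₀; have := R.p0; have := R.q0; have := R.r0; have := R.s0; omega
  have v_S_X : S X = (-2:ℤ) * (s X) := by
    have := R.eS X; have := R.pX; have := R.qX; have := R.rX; have := R.sX; omega
  have v_S_Y : S Y = (-2:ℤ) * (s Y) := by
    have := R.eS Y; have := R.pY; have := R.qY; have := R.rY; have := R.sY; omega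
  have v_Dd_i0 : Dd i₀ = 0 := by
    have := R.eD i₀; have := R.p0; have := R.q0; have := R.r0; have := R.s0; omega
  have v_Dd_X : Dd X = (0:ℤ) * (s X) := by
    have := R.eD X; have := R.pX; have := R.qX; have := R.rX; have := R.sX; omega
  have v_Dd_Y : Dd Y = (0:ℤ) * (s Y) := by
    have := R.eD Y; have := R.pY; have := R.qY; have := R.rY; have := R.sY; omega
  have ne_i0_A : i₀ ≠ A := (ne_of_val r z_r_A nz_r_i0).symm
  have ne_i0_B : i₀ ≠ B := (ne_of_val p z_p_B nz_p_i0).symm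
  have ne_i0_C : i₀ ≠ C := (ne_of_val q z_q_C nz_q_i0).symm
  have ne_i0_DD : i₀ ≠ DD := (ne_of_val q z_q_DD nz_q_i0).symm
  have ne_i0_EE : i₀ ≠ EE := (ne_of_val p z_p_EE nz_p_i0).symm
  have ne_i0_FF : i₀ ≠ FF := (ne_of_val p z_p_FF nz_p_i0).symm
  have ne_i0_X : i₀ ≠ X := (ne_of_val p R.pX nz_p_i0).symm
  have ne_i0_Y : i₀ ≠ Y := (ne_of_val p R.pY nz_p_i0).symm
  have ne_A_B : A ≠ B := (ne_of_val p z_p_B nz_p_A).symm
  have ne_A_C : A ≠ C := (ne_of_val q z_q_C nz_q_A).symm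
  have ne_A_DD : A ≠ DD := (ne_of_val q z_q_DD nz_q_A).symm
  have ne_A_EE : A ≠ EE := (ne_of_val p z_p_EE nz_p_A).symm
  have ne_A_FF : A ≠ FF := (ne_of_val p z_p_FF nz_p_A).symm
  have ne_A_X : A ≠ X := (ne_of_val p R.pX nz_p_A).symm
  have ne_A_Y : A ≠ Y := (ne_of_val p R.pY nz_p_A).symm
  have ne_B_C : B ≠ C := ne_of_val p z_p_B nz_p_C
  have ne_B_DD : B ≠ DD := ne_of_val p z_p_B nz_p_DD
  have ne_B_EE : B ≠ EE := (ne_of_val r z_r_EE nz_r_B).symm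
  have ne_B_FF : B ≠ FF := (ne_of_val q z_q_FF nz_q_B).symm
  have ne_B_X : B ≠ X := (ne_of_val q R.qX nz_q_B).symm
  have ne_B_Y : B ≠ Y := (ne_of_val q R.qY nz_q_B).symm
  have ne_C_DD : C ≠ DD := (ne_of_val r z_r_DD nz_r_C).symm
  have ne_C_EE : C ≠ EE := (ne_of_val p z_p_EE nz_p_C).symm
  have ne_C_FF : C ≠ FF := (ne_of_val p z_p_FF nz_p_C).symm
  have ne_C_X : C ≠ X := (ne_of_val p R.pX nz_p_C).symm
  have ne_C_Y : C ≠ Y := (ne_of_val p R.pY nz_p_C).symm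
  have ne_DD_EE : DD ≠ EE := (ne_of_val p z_p_EE nz_p_DD).symm
  have ne_DD_FF : DD ≠ FF := (ne_of_val p z_p_FF nz_p_DD).symm
  have ne_DD_X : DD ≠ X := (ne_of_val p R.pX nz_p_DD).symm
  have ne_DD_Y : DD ≠ Y := (ne_of_val p R.pY nz_p_DD).symm
  have ne_EE_FF : EE ≠ FF := (ne_of_val q z_q_FF nz_q_EE).symm
  have ne_EE_X : EE ≠ X := (ne_of_val q R.qX nz_q_EE).symm
  have ne_EE_Y : EE ≠ Y := (ne_of_val q R.qY nz_q_EE).symm
  have ne_FF_X : FF ≠ X := (ne_of_val r R.rX nz_r_FF).symm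
  have ne_FF_Y : FF ≠ Y := (ne_of_val r R.rY nz_r_FF).symm
  have ne_X_Y : X ≠ Y := R.hXY
  have hL : List.Nodup [i₀, A, B, C, DD, EE, FF, X, Y] := by
    simp only [List.nodup_cons, List.mem_cons, List.not_mem_nil, or_false, not_or, List.nodup_nil, not_false_eq_true, and_true, true_and]
    exact ⟨⟨ne_i0_A, ne_i0_B, ne_i0_C, ne_i0_DD, ne_i0_EE, ne_i0_FF, ne_i0_X, ne_i0_Y⟩, ⟨ne_A_B, ne_A_C, ne_A_DD, ne_A_EE, ne_A_FF, ne_A_X, ne_A_Y⟩, ⟨ne_B_C, ne_B_DD, ne_B_EE, ne_B_FF, ne_B_X, ne_B_Y⟩, ⟨ne_C_DD, ne_C_EE, ne_C_FF, ne_C_X, ne_C_Y⟩, ⟨ne_DD_EE, ne_DD_FF, ne_DD_X, ne_DD_Y⟩, ⟨ne_EE_FF, ne_EE_X, ne_EE_Y⟩, ⟨ne_FF_X, ne_FF_Y⟩, ne_X_Y⟩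
  have hout : ∀ i, i ∉ [i₀, A, B, C, DD, EE, FF, X, Y] → α i = 0 := by
    intro i hi
    simp only [List.mem_cons, List.not_mem_nil, or_false, not_or] at hi
    obtain ⟨h0, h1, h2, h3, h4, h5, h6, h7, h8⟩ := hi
    have hp := tp.zero i h0 h1 h3 h4
    have hq := tq.zero i h0 h1 h2 h5
    have hr := tr.zero i h0 h3 h2 h6
    have hs := R.szero i h7 h8
    rw [R.eα, hp, hq, hr, hs]; norm_num
  have sg_A : p A = 1 ∨ p A = -1 := tp.fa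
  have sg_B : q B = 1 ∨ q B = -1 := tq.fb
  have sg_C : p C = 1 ∨ p C = -1 := tp.fb
  have sg_DD := tp.fc
  have sg_EE := tq.fc
  have sg_FF := tr.fc
  have t_1_i0 : (α i₀ : ℚ) ^ 2 * (β i₀ : ℚ) / (δ i₀ : ℚ) = 1 := by
    rw [v_α_i0, v_β_i0, R.δ0]; norm_num
  have t_1_A := mterm (α A) (β A) (δ A) (p A) (6:ℤ) (0:ℤ) sg_A c_α_A c_β_A
  have t_1_B := mterm (α B) (β B) (δ B) (q B) (-2:ℤ) (1:ℤ) sg_B c_α_B c_β_B
  have t_1_C := mterm (α C) (β C) (δ C) (p C) (-2:ℤ) (1:ℤ) sg_C c_α_C c_β_C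
  have t_1_DD := mterm (α DD) (β DD) (δ DD) (p DD) (3:ℤ) (0:ℤ) sg_DD c_α_DD c_β_DD
  have t_1_EE := mterm (α EE) (β EE) (δ EE) (q EE) (3:ℤ) (0:ℤ) sg_EE c_α_EE c_β_EE
  have t_1_FF := mterm (α FF) (β FF) (δ FF) (r FF) (-5:ℤ) (1:ℤ) sg_FF c_α_FF c_β_FF
  have t_1_X := mterm (α X) (β X) (δ X) (s X) (4:ℤ) (1:ℤ) (Or.inl R.sX) v_α_X v_β_X
  have t_1_Y := mterm (α Y) (β Y) (δ Y) (s Y) (4:ℤ) (1:ℤ) (Or.inr R.sY) v_α_Y v_β_Y
  have s_1 : ∑ i, (α i : ℚ) ^ 2 * (β i : ℚ) / (δ i : ℚ) = _ := sum_of_list [i₀, A, B, C, DD, EE, FF, X, Y] hL (fun i => (α i : ℚ) ^ 2 * (β i : ℚ) / (δ i : ℚ)) (fun i hi => by simp [hout i hi])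
  simp only [List.map_cons, List.map_nil, List.sum_cons, List.sum_nil, t_1_i0, t_1_A, t_1_B, t_1_C, t_1_DD, t_1_EE, t_1_FF, t_1_X, t_1_Y, R.sX, R.sY] at s_1
  simp only [← R.δXY] at s_1
  have t_2_i0 : (α i₀ : ℚ) ^ 2 * (S i₀ : ℚ) / (δ i₀ : ℚ) = 2 := by
    rw [v_α_i0, v_S_i0, R.δ0]; norm_num
  have t_2_A := mterm (α A) (S A) (δ A) (p A) (6:ℤ) (2:ℤ) sg_A c_α_A c_S_A
  have t_2_B := mterm (α B) (S B) (δ B) (q B) (-2:ℤ) (1:ℤ) sg_B c_α_B c_S_B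
  have t_2_C := mterm (α C) (S C) (δ C) (p C) (-2:ℤ) (1:ℤ) sg_C c_α_C c_S_C
  have t_2_DD := mterm (α DD) (S DD) (δ DD) (p DD) (3:ℤ) (1:ℤ) sg_DD c_α_DD c_S_DD
  have t_2_EE := mterm (α EE) (S EE) (δ EE) (q EE) (3:ℤ) (1:ℤ) sg_EE c_α_EE c_S_EE
  have t_2_FF := mterm (α FF) (S FF) (δ FF) (r FF) (-5:ℤ) (0:ℤ) sg_FF c_α_FF c_S_FF
  have t_2_X := mterm (α X) (S X) (δ X) (s X) (4:ℤ) (-2:ℤ) (Or.inl R.sX) v_α_X v_S_X
  have t_2_Y := mterm (α Y) (S Y) (δ Y) (s Y) (4:ℤ) (-2:ℤ) (Or.inr R.sY) v_α_Y v_S_Y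
  have s_2 : ∑ i, (α i : ℚ) ^ 2 * (S i : ℚ) / (δ i : ℚ) = _ := sum_of_list [i₀, A, B, C, DD, EE, FF, X, Y] hL (fun i => (α i : ℚ) ^ 2 * (S i : ℚ) / (δ i : ℚ)) (fun i hi => by simp [hout i hi])
  simp only [List.map_cons, List.map_nil, List.sum_cons, List.sum_nil, t_2_i0, t_2_A, t_2_B, t_2_C, t_2_DD, t_2_EE, t_2_FF, t_2_X, t_2_Y, R.sX, R.sY] at s_2
  simp only [← R.δXY] at s_2
  have t_3_i0 : (α i₀ : ℚ) ^ 2 * (Dd i₀ : ℚ) / (δ i₀ : ℚ) = 0 := by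
    rw [v_α_i0, v_Dd_i0, R.δ0]; norm_num
  have t_3_A := mterm (α A) (Dd A) (δ A) (p A) (6:ℤ) (0:ℤ) sg_A c_α_A c_Dd_A
  have t_3_B := mterm (α B) (Dd B) (δ B) (q B) (-2:ℤ) (-1:ℤ) sg_B c_α_B c_Dd_B
  have t_3_C := mterm (α C) (Dd C) (δ C) (p C) (-2:ℤ) (1:ℤ) sg_C c_α_C c_Dd_C
  have t_3_DD := mterm (α DD) (Dd DD) (δ DD) (p DD) (3:ℤ) (1:ℤ) sg_DD c_α_DD c_Dd_DD
  have t_3_EE := mterm (α EE) (Dd EE) (δ EE) (q EE) (3:ℤ) (-1:ℤ) sg_EE c_α_EE c_Dd_EE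
  have t_3_FF := mterm (α FF) (Dd FF) (δ FF) (r FF) (-5:ℤ) (0:ℤ) sg_FF c_α_FF c_Dd_FF
  have t_3_X := mterm (α X) (Dd X) (δ X) (s X) (4:ℤ) (0:ℤ) (Or.inl R.sX) v_α_X v_Dd_X
  have t_3_Y := mterm (α Y) (Dd Y) (δ Y) (s Y) (4:ℤ) (0:ℤ) (Or.inr R.sY) v_α_Y v_Dd_Y
  have s_3 : ∑ i, (α i : ℚ) ^ 2 * (Dd i : ℚ) / (δ i : ℚ) = _ := sum_of_list [i₀, A, B, C, DD, EE, FF, X, Y] hL (fun i => (α i : ℚ) ^ 2 * (Dd i : ℚ) / (δ i : ℚ)) (fun i hi => by simp [hout i hi])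
  simp only [List.map_cons, List.map_nil, List.sum_cons, List.sum_nil, t_3_i0, t_3_A, t_3_B, t_3_C, t_3_DD, t_3_EE, t_3_FF, t_3_X, t_3_Y, R.sX, R.sY] at s_3
  simp only [← R.δXY] at s_3
  have M1 := R.M1
  have M2 := R.M2
  have M3 := R.M3
  rw [s_1] at M1
  rw [s_2] at M2
  rw [s_3] at M3
  push_cast at M1 M2 M3
  have Lp : 1 + p A * δ A + p C * δ C + p DD * δ DD = 0 := by
    have h1 := tp.sum δ
    rw [R.dp, R.p0, R.δ0] at h1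
    linarith
  have Lq : 1 + p A * δ A + q B * δ B + q EE * δ EE = 0 := by
    have h1 := tq.sum δ
    rw [R.dq, R.q0, R.δ0, hqA] at h1
    linarith
  have Lr : 1 + q B * δ B + p C * δ C + r FF * δ FF = 0 := by
    have h1 := tr.sum δ
    rw [R.dr, R.r0, R.δ0, hrC, hrB] at h1
    linarith
  exact Cfsg.Agent.Lib.JOrdF.tri_main (p A) (q B) (p C) (p DD) (q EE) (r FF) (δ A) (δ B) (δ C) (δ DD) (δ EE) (δ FF) n
    sg_A sg_B sg_C sg_DD sg_EE sg_FF (R.hδ _) (R.hδ _) (R.hδ _) (R.hδ _) (R.hδ _) (R.hδ _) R.hn Lp Lq Lr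
    (by linear_combination M3) (by linear_combination M1) (by linear_combination M2)
    (by have := R.cong B _ (c_α_B); rw [sub_eq_add_neg] at this; have h2 : δ B + -(-2 * q B) = δ B + 2 * q B := by ring
        rw [h2] at this; exact this)
    (by have := R.cong C _ (c_α_C); have h2 : δ C - -2 * p C = δ C + 2 * p C := by ring
        rw [h2] at this; exact this)
    (by have := R.cong FF _ (c_α_FF); have h2 : δ FF - -5 * r FF = δ FF + 5 * r FF := by ring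
        rw [h2] at this; exact this)
    (by have := R.hfix B; rw [c_α_B] at this; linarith) (by have := R.hfix C; rw [c_α_C] at this; linarith)
    (by have := R.hfix FF; rw [c_α_FF] at this; linarith)
    (by have := R.hne B tq.h0b.symm; rw [c_α_B] at this; exact this)
    (by have := R.hne C tp.h0b.symm; rw [c_α_C] at this; exact this)
    (by have := R.hne FF tr.h0c.symm; rw [c_α_FF] at this; exact this)
    (R.sq_lt B tq.h0b.symm) (R.sq_lt C tp.h0b.symm) (R.sq_lt FF tr.h0c.symm) R.n8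


theorem gram_of (α β S D : I → ℤ) (hαα : ∑ i, α i ^ 2 = 120) (hββ : ∑ i, β i ^ 2 = 6) (hSS : ∑ i, S i ^ 2 = 20)
    (hDD : ∑ i, D i ^ 2 = 4) (hαβ : ∑ i, α i * β i = 0) (hαS : ∑ i, α i * S i = 0) (hαD : ∑ i, α i * D i = 0)
    (hβS : ∑ i, β i * S i = 0) (hβD : ∑ i, β i * D i = 0) (hSD : ∑ i, S i * D i = 0)
    (u v : I → ℤ) (c d a1 a2 a3 a4 b1 b2 b3 b4 val : ℤ) (hc : c * d ≠ 0)
    (hu : ∀ i, c * u i = a1 * α i + a2 * β i + a3 * S i + a4 * D i)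
    (hv : ∀ i, d * v i = b1 * α i + b2 * β i + b3 * S i + b4 * D i)
    (hval : 120 * a1 * b1 + 6 * a2 * b2 + 20 * a3 * b3 + 4 * a4 * b4 = c * d * val) :
    ∑ i, u i * v i = val := by
  have h1 : c * d * ∑ i, u i * v i =
      ∑ i, (a1 * α i + a2 * β i + a3 * S i + a4 * D i) * (b1 * α i + b2 * β i + b3 * S i + b4 * D i) := by
    rw [Finset.mul_sum]
    refine Finset.sum_congr rfl fun i _ => ?_
    rw [← hu, ← hv]; ring
  rw [gram_eq α β S D hαα hββ hSS hDD hαβ hαS hαD hβS hβD hSD, hval] at h1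
  exact mul_left_cancel₀ hc h1

theorem deg_of (δ α β S D : I → ℤ) (hα : ∑ i, δ i * α i = 0) (hβ : ∑ i, δ i * β i = 0) (hS : ∑ i, δ i * S i = 0)
    (hD : ∑ i, δ i * D i = 0) (u : I → ℤ) (c a1 a2 a3 a4 : ℤ) (hc : c ≠ 0)
    (hu : ∀ i, c * u i = a1 * α i + a2 * β i + a3 * S i + a4 * D i) : ∑ i, δ i * u i = 0 := by
  have h1 : c * ∑ i, δ i * u i = ∑ i, δ i * (a1 * α i + a2 * β i + a3 * S i + a4 * D i) := by
    rw [Finset.mul_sum]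
    refine Finset.sum_congr rfl fun i _ => ?_
    rw [← hu]; ring
  rw [deg_eq δ α β S D hα hβ hS hD] at h1
  exact (mul_eq_zero.mp h1).resolve_left hc

/-- The integer rows. -/
theorem rows_main (δ α β S Dd m : I → ℤ) (i₀ : I) (n : ℤ) (hn : 0 < n) (hδ : ∀ i, 0 < δ i)
    (hδ1 : ∀ i, δ i = 1 → i = i₀)
    (δ0 : δ i₀ = 1) (α0 : α i₀ = 1) (β0 : β i₀ = 1) (S0 : S i₀ = 2) (D0 : Dd i₀ = 0) (m0 : m i₀ = 1)
    (c3 : ∀ i, (3 : ℤ) ∣ β i - α i) (c2 : ∀ i, (2 : ℤ) ∣ S i - Dd i) (c5 : ∀ i, (5 : ℤ) ∣ S i - 2 * α i)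
    (c8 : ∀ i, (8 : ℤ) ∣ δ i - α i) (hfix : ∀ i, 0 ≤ δ i + 7 * α i) (hne : ∀ i, i ≠ i₀ → α i ≠ δ i)
    (hαα : ∑ i, α i ^ 2 = 120) (hββ : ∑ i, β i ^ 2 = 6) (hSS : ∑ i, S i ^ 2 = 20)
    (hDD : ∑ i, Dd i ^ 2 = 4) (hαβ : ∑ i, α i * β i = 0) (hαS : ∑ i, α i * S i = 0) (hαD : ∑ i, α i * Dd i = 0)
    (hβS : ∑ i, β i * S i = 0) (hβD : ∑ i, β i * Dd i = 0) (hSD : ∑ i, S i * Dd i = 0)
    (dα : ∑ i, δ i * α i = 0) (dβ : ∑ i, δ i * β i = 0) (dS : ∑ i, δ i * S i = 0) (dD : ∑ i, δ i * Dd i = 0)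
    (M1 : (n : ℚ) * ∑ i, (α i : ℚ) ^ 2 * (β i : ℚ) / (δ i : ℚ) = 720)
    (M2 : (n : ℚ) * ∑ i, (α i : ℚ) ^ 2 * (S i : ℚ) / (δ i : ℚ) = 2400)
    (M3 : ∑ i, (α i : ℚ) ^ 2 * (Dd i : ℚ) / (δ i : ℚ) = 0)
    (M4 : (n : ℚ) * ∑ i, (α i : ℚ) ^ 2 * (α i : ℚ) / (δ i : ℚ) = 3600)
    (n8 : n % 8 = 7) (hδδ : ∑ i, δ i ^ 2 = 120 * n) (hm0 : ∀ i, 0 ≤ m i)
    (hm1 : ∀ i, 8 * m i ≤ δ i + 7 * α i) (hm2 : ∀ i, 9 * α i - δ i ≤ 8 * m i)
    (hmr : ∑ i, m i * (-α i + 10 * β i + 3 * S i) = -15) : n = 1463 := by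
  have hex : ∀ i, ∃ p q r s : ℤ, 30 * p = 2 * α i + 10 * β i + 9 * S i + 15 * Dd i ∧
      30 * q = 2 * α i + 10 * β i + 9 * S i + (-15) * Dd i ∧
      15 * r = (-1) * α i + 10 * β i + 3 * S i + 0 * Dd i ∧
      15 * s = 1 * α i + 5 * β i + (-3) * S i + 0 * Dd i := by
    intro i
    have h1 := c3 i
    have h2 := c2 i
    have h3 := c5 i
    refine ⟨(2 * α i + 10 * β i + 9 * S i + 15 * Dd i) / 30, (2 * α i + 10 * β i + 9 * S i + (-15) * Dd i) / 30,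
      ((-1) * α i + 10 * β i + 3 * S i + 0 * Dd i) / 15, (1 * α i + 5 * β i + (-3) * S i + 0 * Dd i) / 15,
      ?_, ?_, ?_, ?_⟩ <;> omega
  choose p q r s hp hq hr hs using hex
  have G := gram_of α β S Dd hαα hββ hSS hDD hαβ hαS hαD hβS hβD hSD
  have Dg := deg_of δ α β S Dd dα dβ dS dD
  have pp : ∑ i, p i ^ 2 = 4 := by
    simpa only [sq] using G p p 30 30 2 10 9 15 2 10 9 15 4 (by norm_num) hp hp (by norm_num)
  have qq : ∑ i, q i ^ 2 = 4 := by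
    simpa only [sq] using G q q 30 30 2 10 9 (-15) 2 10 9 (-15) 4 (by norm_num) hq hq (by norm_num)
  have rr : ∑ i, r i ^ 2 = 4 := by
    simpa only [sq] using G r r 15 15 (-1) 10 3 0 (-1) 10 3 0 4 (by norm_num) hr hr (by norm_num)
  have ss : ∑ i, s i ^ 2 = 2 := by
    simpa only [sq] using G s s 15 15 1 5 (-3) 0 1 5 (-3) 0 2 (by norm_num) hs hs (by norm_num)
  have qp : ∑ i, q i * p i = 2 := G q p 30 30 2 10 9 (-15) 2 10 9 15 2 (by norm_num) hq hp (by norm_num)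
  have rp : ∑ i, r i * p i = 2 := G r p 15 30 (-1) 10 3 0 2 10 9 15 2 (by norm_num) hr hp (by norm_num)
  have rq : ∑ i, r i * q i = 2 := G r q 15 30 (-1) 10 3 0 2 10 9 (-15) 2 (by norm_num) hr hq (by norm_num)
  have ps : ∑ i, p i * s i = 0 := G p s 30 15 2 10 9 15 1 5 (-3) 0 0 (by norm_num) hp hs (by norm_num)
  have qs : ∑ i, q i * s i = 0 := G q s 30 15 2 10 9 (-15) 1 5 (-3) 0 0 (by norm_num) hq hs (by norm_num)
  have rs : ∑ i, r i * s i = 0 := G r s 15 15 (-1) 10 3 0 1 5 (-3) 0 0 (by norm_num) hr hs (by norm_num)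
  have dp : ∑ i, δ i * p i = 0 := Dg p 30 2 10 9 15 (by norm_num) hp
  have dq : ∑ i, δ i * q i = 0 := Dg q 30 2 10 9 (-15) (by norm_num) hq
  have dr : ∑ i, δ i * r i = 0 := Dg r 15 (-1) 10 3 0 (by norm_num) hr
  have ds : ∑ i, δ i * s i = 0 := Dg s 15 1 5 (-3) 0 (by norm_num) hs
  have p0 : p i₀ = 1 := by have := hp i₀; omega
  have q0 : q i₀ = 1 := by have := hq i₀; omega
  have r0 : r i₀ = 1 := by have := hr i₀; omega
  have s0 : s i₀ = 0 := by have := hs i₀; omega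
  have eα : ∀ i, α i = 4 * s i + 3 * (p i + q i) - 5 * r i := by
    intro i; have := hp i; have := hq i; have := hr i; have := hs i; omega
  have eβ : ∀ i, β i = s i + r i := by
    intro i; have := hp i; have := hq i; have := hr i; have := hs i; omega
  have eS : ∀ i, S i = p i + q i - 2 * s i := by
    intro i; have := hp i; have := hq i; have := hr i; have := hs i; omega
  have eD : ∀ i, Dd i = p i - q i := by
    intro i; have := hp i; have := hq i; have := hr i; have := hs i; omega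
  obtain ⟨a1, b1, c1, tp0⟩ := exists_tri p i₀ pp p0
  obtain ⟨a2, b2, c2', tq0⟩ := exists_tri q i₀ qq q0
  obtain ⟨a3, b3, c3', tr0⟩ := exists_tri r i₀ rr r0
  obtain ⟨x12, x12ne, hp12, hq12, u12⟩ := common δ p q hδ tp0 tq0 p0 q0 qq qp dp dq
  obtain ⟨x13, x13ne, hp13, hr13, u13⟩ := common δ p r hδ tp0 tr0 p0 r0 rr rp dp dr
  obtain ⟨x23, x23ne, hq23, hr23, u23⟩ := common δ q r hδ tq0 tr0 q0 r0 rr rq dq dr
  obtain ⟨X, Y, hXY, sX, sY, δXY, szero⟩ := pair_n3 δ s hδ ss ds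
  have pXY : p X = p Y := eq_on_pair p s hXY sX sY szero ps
  have qXY : q X = q Y := eq_on_pair q s hXY sX sY szero qs
  have rXY : r X = r Y := eq_on_pair r s hXY sX sY szero rs
  have hX0 : X ≠ i₀ := by
    intro he; rw [he] at sX; omega
  have hnq : (n : ℚ) ≠ 0 := by exact_mod_cast hn.ne'
  have hsm : ∑ i, (α i : ℚ) ^ 2 * (s i : ℚ) / (δ i : ℚ) = 0 := by
    have h1 : ∀ i, (α i : ℚ) ^ 2 * (s i : ℚ) / (δ i : ℚ) =
        (1 / 15 : ℚ) * ((α i : ℚ) ^ 2 * (α i : ℚ) / (δ i : ℚ)) + (1 / 3 : ℚ) * ((α i : ℚ) ^ 2 * (β i : ℚ) / (δ i : ℚ)) -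
          (1 / 5 : ℚ) * ((α i : ℚ) ^ 2 * (S i : ℚ) / (δ i : ℚ)) := by
      intro i
      have h2 : (15 : ℚ) * (s i : ℚ) = (α i : ℚ) + 5 * (β i : ℚ) - 3 * (S i : ℚ) := by
        have := hs i
        have h3 : 15 * s i = α i + 5 * β i - 3 * S i := by omega
        exact_mod_cast h3
      have h3 : (s i : ℚ) = ((α i : ℚ) + 5 * (β i : ℚ) - 3 * (S i : ℚ)) / 15 := by linarith
      rw [h3]; ring
    simp only [h1, Finset.sum_add_distrib, Finset.sum_sub_distrib, ← Finset.mul_sum]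
    apply mul_left_cancel₀ hnq
    linear_combination (1 / 15 : ℚ) * M4 + (1 / 3 : ℚ) * M1 - (1 / 5 : ℚ) * M2
  have hαXY : α X ^ 2 = α Y ^ 2 := by
    rw [sum_of_list [X, Y] (by simp [hXY]) (fun i => (α i : ℚ) ^ 2 * (s i : ℚ) / (δ i : ℚ)) (fun i hi => by
      simp only [List.mem_cons, List.not_mem_nil, or_false, not_or] at hi
      simp [szero i hi.1 hi.2])] at hsm
    simp only [List.map_cons, List.map_nil, List.sum_cons, List.sum_nil, sX, sY, ← δXY] at hsm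
    have hd : (δ X : ℚ) ≠ 0 := by exact_mod_cast (hδ X).ne'
    field_simp at hsm
    have h2 : (α X : ℚ) ^ 2 = (α Y : ℚ) ^ 2 := by
      push_cast at hsm
      linarith
    exact_mod_cast h2
  have hA0 : 3 * (p X + q X) - 5 * r X = 0 := by
    have h1 := eα X
    have h2 := eα Y
    rw [sX] at h1
    rw [sY, ← pXY, ← qXY, ← rXY] at h2
    rw [h1, h2] at hαXY
    linarith
  have vpX := tp0.val X hX0
  have vqX := tq0.val X hX0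
  have vrX := tr0.val X hX0
  have rX : r X = 0 := by omega
  have hpq : p X + q X = 0 := by omega
  have pX : p X = 0 := by
    by_contra hh
    have h1 : q X ≠ 0 := by omega
    have h2 := u12 X hX0 hh h1
    rw [← h2] at hq12
    omega
  have qX : q X = 0 := by omega
  have hmr' : ∑ i, m i * r i = -1 := by
    have h1 : 15 * ∑ i, m i * r i = ∑ i, m i * (-α i + 10 * β i + 3 * S i) := by
      rw [Finset.mul_sum]
      refine Finset.sum_congr rfl fun i _ => ?_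
      have := hr i
      linear_combination (m i) * this
    rw [hmr] at h1
    omega
  have R : Rows δ α β S Dd m p q r s i₀ X Y n :=
    { hn := hn, hδ := hδ, hδ1 := hδ1, δ0 := δ0, p0 := p0, q0 := q0, r0 := r0, s0 := s0, m0 := m0,
      eα := eα, eβ := eβ, eS := eS, eD := eD, c8 := c8, hfix := hfix, hne := hne, M1 := M1, M2 := M2, M3 := M3,
      n8 := n8, hδδ := hδδ, hm0 := hm0, hm1 := hm1, hm2 := hm2, hmr := hmr', dp := dp, dq := dq, dr := dr,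
      hXY := hXY, sX := sX, sY := sY, δXY := δXY, szero := szero, pX := pX, qX := qX, rX := rX,
      pY := by omega, qY := by omega, rY := by omega }
  have hq12' : q x12 ≠ 0 := by rw [hq12]; exact hp12
  have hr13' : r x13 ≠ 0 := by rw [hr13]; exact hp13
  have hr23' : r x23 ≠ 0 := by rw [hr23]; exact hq23
  by_cases h12 : x12 = x13
  · subst h12
    obtain ⟨u1, v1, tp⟩ := tp0.reorder x12ne hp12
    obtain ⟨u2, v2, tq⟩ := tq0.reorder x12ne hq12'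
    obtain ⟨u3, v3, tr⟩ := tr0.reorder x12ne hr13'
    refine star_case R tp tq tr hq12 hr13 u12 u13 ?_
    intro w h1 h2 h3
    have h4 := u23 w h1 h2 h3
    have h5 := u23 x12 x12ne hq12' hr13'
    rw [h4, h5]
  · have hAB : x12 ≠ x23 := by
      intro he
      apply h12
      apply u13 x12 x12ne hp12
      rw [he]; exact hr23'
    have hBC : x23 ≠ x13 := by
      intro he
      apply h12
      symm
      apply u12 x13 x13ne hp13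
      rw [← he]; exact hq23
    obtain ⟨d1, tp⟩ := tp0.reorder2 x12ne hp12 x13ne hp13 h12
    obtain ⟨d2, tq⟩ := tq0.reorder2 x12ne hq12' x23ne hq23 hAB
    obtain ⟨d3, tr⟩ := tr0.reorder2 x13ne hr13' x23ne hr23' hBC.symm
    exact (tri_case R tp tq tr hq12 hr13 hr23 u12 u13 u23 h12 hAB hBC).elim
end

end Cfsg.Agent.Lib.JOrdE
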