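import Mathlib
import Cfsg.Agent.Lib.CharBasic
import Cfsg.Agent.Lib.CharValues
import Cfsg.Agent.Lib.GL23Roots
import Cfsg.Agent.Lib.JOrdA

/-!
# Janko's first group, order recognition: character values
-/

set_option autoImplicit false
set_option maxRecDepth 100000
set_option linter.unusedVariables false
set_option linter.unusedSectionVars false

namespace Cfsg.Agent.Lib.JOrdG

open Cfsg Cfsg.Agent.Lib.CharBasic Cfsg.Agent.Lib.GL23Roots Cfsg.Agent.Lib.JOrdA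
open scoped ComplexConjugate

/-- A primitive tenth root of unity. -/
noncomputable def z10 : ℂ := Complex.exp (2 * Real.pi * Complex.I / (10 : ℕ))

theorem z10_prim : IsPrimitiveRoot z10 10 := Complex.isPrimitiveRoot_exp 10 (by norm_num)

theorem z_five : z10 ^ 5 = -1 := by
  have h1 : (z10 ^ 5 - 1) * (z10 ^ 5 + 1) = 0 := by
    have := z10_prim.pow_eq_one
    linear_combination this
  have h2 : z10 ^ 5 ≠ 1 := z10_prim.pow_ne_one_of_pos_of_lt (by norm_num) (by norm_num)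
  rcases mul_eq_zero.mp h1 with h | h
  · exact absurd (sub_eq_zero.mp h) h2
  · linear_combination h

theorem z_ne : z10 ≠ -1 := by
  intro h
  have h2 : z10 ^ 2 ≠ 1 := z10_prim.pow_ne_one_of_pos_of_lt (by norm_num) (by norm_num)
  apply h2
  rw [h]
  norm_num

theorem z_four : z10 ^ 4 = z10 ^ 3 - z10 ^ 2 + z10 - 1 := by
  have h1 : (z10 + 1) * (z10 ^ 4 - z10 ^ 3 + z10 ^ 2 - z10 + 1) = 0 := by
    linear_combination z_five
  rcases mul_eq_zero.mp h1 with h | h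
  · exact absurd (eq_neg_of_add_eq_zero_left h) z_ne
  · linear_combination h

theorem zr (q r : ℕ) : z10 ^ (10 * q + r) = z10 ^ r := by
  rw [pow_add, pow_mul, z10_prim.pow_eq_one, one_pow, one_mul]

/-- The square root of five in the cyclotomic field. -/
noncomputable def s5 : ℂ := 2 * z10 ^ 2 - 2 * z10 ^ 3 + 1

theorem s5_sq : s5 ^ 2 = 5 := by
  unfold s5
  have h5 := z_five
  have h4 := z_four
  have h6 : z10 ^ 6 = -z10 := by linear_combination z10 * h5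
  linear_combination (4 : ℂ) * h4 + (4 : ℂ) * h6 - (8 : ℂ) * h5

theorem conj_z : conj z10 = -z10 ^ 3 + z10 ^ 2 - z10 + 1 := by
  have h1 : ‖z10‖ = 1 := Cfsg.Agent.Lib.CharValues.norm_eq_one_of_pow_eq_one (by norm_num) z10_prim.pow_eq_one
  rw [← Cfsg.Agent.Lib.CharValues.inv_eq_conj_of_norm_eq_one h1]
  have h2 : z10 ≠ 0 := by
    intro h
    have := z10_prim.pow_eq_one
    rw [h] at this
    norm_num at this
  have h3 : z10 * (-z10 ^ 3 + z10 ^ 2 - z10 + 1) = 1 := by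
    linear_combination - z_four
  exact (eq_inv_of_mul_eq_one_right h3).symm

theorem s5_conj : conj s5 = s5 := by
  unfold s5
  simp only [map_add, map_sub, map_mul, map_pow, map_one, conj_z, map_ofNat]
  have h5 := z_five
  have h4 := z_four
  linear_combination ((0:ℂ) * z10 ^ 0 + (2:ℂ) * z10 ^ 1 + (-6:ℂ) * z10 ^ 2 + (6:ℂ) * z10 ^ 3 + (-4:ℂ) * z10 ^ 4 + (2:ℂ) * z10 ^ 5) * h4

theorem s5_ne : s5 ≠ 0 := by
  intro h
  have := s5_sq
  rw [h] at this
  norm_num at this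

/-- Separation over the rationals. -/
theorem sep_s5 (a b : ℚ) (h : (a : ℂ) + (b : ℂ) * s5 = 0) : a = 0 ∧ b = 0 := by
  by_cases hb : b = 0
  · subst hb
    simp at h
    exact ⟨h, rfl⟩
  exfalso
  have hb' : (b : ℂ) ≠ 0 := by exact_mod_cast hb
  have h1 : (a : ℂ) ^ 2 = 5 * (b : ℂ) ^ 2 := by
    have h2 : (a : ℂ) = -((b : ℂ) * s5) := by linear_combination h
    rw [h2]
    linear_combination (b : ℂ) ^ 2 * s5_sq
  have h3 : a ^ 2 = 5 * b ^ 2 := by exact_mod_cast h1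
  have h4 : (a / b) ^ 2 = 5 := by
    rw [div_pow, h3]
    field_simp
  have hirr := Nat.Prime.irrational_sqrt Nat.prime_five
  apply hirr
  refine ⟨|a / b|, ?_⟩
  have h5 : ((a / b : ℚ) : ℝ) ^ 2 = ((5 : ℕ) : ℝ) := by exact_mod_cast h4
  rw [← h5, Real.sqrt_sq_eq_abs]
  push_cast
  rfl

theorem sep_int (a b : ℤ) (h : (a : ℂ) + (b : ℂ) * s5 = 0) : a = 0 ∧ b = 0 := by
  have h1 := sep_s5 (a : ℚ) (b : ℚ) (by exact_mod_cast h)
  exact ⟨by exact_mod_cast h1.1, by exact_mod_cast h1.2⟩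

/-- A rational algebraic integer is an integer. -/
theorem int_of_integral (q : ℚ) (h : IsIntegral ℤ (q : ℂ)) : ∃ y : ℤ, q = y := by
  have h1 : (q : ℂ) = algebraMap ℚ ℂ q := by simp
  rw [h1, isIntegral_algebraMap_iff (algebraMap ℚ ℂ).injective] at h
  obtain ⟨y, hy⟩ := IsIntegrallyClosed.isIntegral_iff.mp h
  exact ⟨y, by simpa using hy.symm⟩

/-- The values of a character on a real element of order ten. -/
theorem char_values10 {G : Type*} [Group G] [Finite G] {χ : G → ℂ} (hχ : IsCharacter G χ) {w : G}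
    (hw : w ^ 10 = 1) (hreal : IsConj w w⁻¹) :
    ∃ S D α : ℤ, 2 * χ w = (S : ℂ) + (D : ℂ) * s5 ∧ 2 * χ (w ^ 3) = (S : ℂ) - (D : ℂ) * s5 ∧
      χ (w ^ 5) = α ∧ (2 : ℤ) ∣ S - D ∧ (5 : ℤ) ∣ S - 2 * α := by
  have : NeZero 10 := ⟨by norm_num⟩
  obtain ⟨m, hm⟩ := root_counts hχ z10_prim hw
  have p4 : z10 ^ 4 = z10 ^ 3 - z10 ^ 2 + z10 - 1 := by
    rw [show 4 = 10 * 0 + 4 from rfl, zr]
    linear_combination z_four
  have p5 : z10 ^ 5 = -1 := by
    rw [show 5 = 10 * 0 + 5 from rfl, zr]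
    linear_combination z_five
  have p6 : z10 ^ 6 = -z10 := by
    rw [show 6 = 10 * 0 + 6 from rfl, zr]
    linear_combination z10 * z_five
  have p7 : z10 ^ 7 = -z10 ^ 2 := by
    rw [show 7 = 10 * 0 + 7 from rfl, zr]
    linear_combination z10 ^ 2 * z_five
  have p8 : z10 ^ 8 = -z10 ^ 3 := by
    rw [show 8 = 10 * 0 + 8 from rfl, zr]
    linear_combination z10 ^ 3 * z_five
  have p9 : z10 ^ 9 = -z10 ^ 3 + z10 ^ 2 - z10 + 1 := by
    rw [show 9 = 10 * 0 + 9 from rfl, zr]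
    linear_combination z10 ^ 4 * z_five - z_four
  have p10 : z10 ^ 10 = 1 := by
    rw [show 10 = 10 * 1 + 0 from rfl, zr]
    ring
  have p12 : z10 ^ 12 = z10 ^ 2 := by
    rw [show 12 = 10 * 1 + 2 from rfl, zr]
  have p14 : z10 ^ 14 = z10 ^ 3 - z10 ^ 2 + z10 - 1 := by
    rw [show 14 = 10 * 1 + 4 from rfl, zr]
    linear_combination z_four
  have p15 : z10 ^ 15 = -1 := by
    rw [show 15 = 10 * 1 + 5 from rfl, zr]
    linear_combination z_five
  have p18 : z10 ^ 18 = -z10 ^ 3 := by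
    rw [show 18 = 10 * 1 + 8 from rfl, zr]
    linear_combination z10 ^ 3 * z_five
  have p20 : z10 ^ 20 = 1 := by
    rw [show 20 = 10 * 2 + 0 from rfl, zr]
    ring
  have p21 : z10 ^ 21 = z10 := by
    rw [show 21 = 10 * 2 + 1 from rfl, zr]
    ring
  have p24 : z10 ^ 24 = z10 ^ 3 - z10 ^ 2 + z10 - 1 := by
    rw [show 24 = 10 * 2 + 4 from rfl, zr]
    linear_combination z_four
  have p25 : z10 ^ 25 = -1 := by
    rw [show 25 = 10 * 2 + 5 from rfl, zr]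
    linear_combination z_five
  have p27 : z10 ^ 27 = -z10 ^ 2 := by
    rw [show 27 = 10 * 2 + 7 from rfl, zr]
    linear_combination z10 ^ 2 * z_five
  have p28 : z10 ^ 28 = -z10 ^ 3 := by
    rw [show 28 = 10 * 2 + 8 from rfl, zr]
    linear_combination z10 ^ 3 * z_five
  have p30 : z10 ^ 30 = 1 := by
    rw [show 30 = 10 * 3 + 0 from rfl, zr]
    ring
  have p35 : z10 ^ 35 = -1 := by
    rw [show 35 = 10 * 3 + 5 from rfl, zr]
    linear_combination z_five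
  have p36 : z10 ^ 36 = -z10 := by
    rw [show 36 = 10 * 3 + 6 from rfl, zr]
    linear_combination z10 * z_five
  have p40 : z10 ^ 40 = 1 := by
    rw [show 40 = 10 * 4 + 0 from rfl, zr]
    ring
  have p42 : z10 ^ 42 = z10 ^ 2 := by
    rw [show 42 = 10 * 4 + 2 from rfl, zr]
  have p45 : z10 ^ 45 = -1 := by
    rw [show 45 = 10 * 4 + 5 from rfl, zr]
    linear_combination z_five
  have p49 : z10 ^ 49 = -z10 ^ 3 + z10 ^ 2 - z10 + 1 := by
    rw [show 49 = 10 * 4 + 9 from rfl, zr]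
    linear_combination z10 ^ 4 * z_five - z_four
  have p54 : z10 ^ 54 = z10 ^ 3 - z10 ^ 2 + z10 - 1 := by
    rw [show 54 = 10 * 5 + 4 from rfl, zr]
    linear_combination z_four
  have p56 : z10 ^ 56 = -z10 := by
    rw [show 56 = 10 * 5 + 6 from rfl, zr]
    linear_combination z10 * z_five
  have p63 : z10 ^ 63 = z10 ^ 3 := by
    rw [show 63 = 10 * 6 + 3 from rfl, zr]
  have p72 : z10 ^ 72 = z10 ^ 2 := by
    rw [show 72 = 10 * 7 + 2 from rfl, zr]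
  have p81 : z10 ^ 81 = z10 := by
    rw [show 81 = 10 * 8 + 1 from rfl, zr]
    ring
  have H1 := hm 1
  have H3 := hm 3
  have H5 := hm 5
  have H7 := hm 7
  have H9 := hm 9
  simp only [Finset.sum_range_succ, Finset.sum_range_zero, zero_add, Nat.reduceMul, zero_mul, mul_one,
    pow_zero, pow_one, p4, p5, p6, p7, p8, p9, p10, p12, p14, p15, p18, p20, p21, p24, p25, p27, p28, p30, p35, p36, p40, p42, p45, p49, p54, p56, p63, p72, p81] at H1 H3 H5 H7 H9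
  have hcl := isClassFunction_of_isCharacter hχ
  have hr1 : χ (w ^ 9) = χ w := by
    have h1 : w ^ 9 = w⁻¹ := by
      apply eq_inv_of_mul_eq_one_left
      rw [← pow_succ, hw]
    obtain ⟨h, hh⟩ := isConj_iff.mp hreal
    rw [h1, ← hh]
    exact hcl w h
  have hr3 : χ (w ^ 7) = χ (w ^ 3) := by
    have h1 : w ^ 7 = (w ^ 3)⁻¹ := by
      apply eq_inv_of_mul_eq_one_left
      rw [← pow_add, hw]
    have hreal3 : IsConj (w ^ 3) (w ^ 3)⁻¹ := by
      have := hreal.pow 3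
      rwa [inv_pow] at this
    obtain ⟨h, hh⟩ := isConj_iff.mp hreal3
    rw [h1, ← hh]
    exact hcl (w ^ 3) h
  rw [hr1] at H9
  rw [hr3] at H7
  obtain ⟨N, ρ, hρ⟩ := id hχ
  have hint : ∀ g, IsIntegral ℤ (χ g) := by
    intro g
    rw [← hρ]
    exact Cfsg.Agent.Lib.CharValues.isIntegral_character ρ g
  -- integer abbreviations
  obtain ⟨A1, hA1⟩ : ∃ A1 : ℤ, A1 = (m 1 : ℤ) + m 9 := ⟨_, rfl⟩
  obtain ⟨A2, hA2⟩ : ∃ A2 : ℤ, A2 = (m 2 : ℤ) + m 8 := ⟨_, rfl⟩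
  obtain ⟨A3, hA3⟩ : ∃ A3 : ℤ, A3 = (m 3 : ℤ) + m 7 := ⟨_, rfl⟩
  obtain ⟨A4, hA4⟩ : ∃ A4 : ℤ, A4 = (m 4 : ℤ) + m 6 := ⟨_, rfl⟩
  obtain ⟨x, hx⟩ : ∃ x : ℤ, x = (m 0 : ℤ) - m 5 := ⟨_, rfl⟩
  have hA1c : (A1 : ℂ) = (m 1 : ℂ) + m 9 := by rw [hA1]; push_cast; rfl
  have hA2c : (A2 : ℂ) = (m 2 : ℂ) + m 8 := by rw [hA2]; push_cast; rfl
  have hA3c : (A3 : ℂ) = (m 3 : ℂ) + m 7 := by rw [hA3]; push_cast; rfl
  have hA4c : (A4 : ℂ) = (m 4 : ℂ) + m 6 := by rw [hA4]; push_cast; rfl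
  have hxc : (x : ℂ) = (m 0 : ℂ) - m 5 := by rw [hx]; push_cast; rfl
  have E1 : 2 * χ w = 2 * (x : ℂ) + (A1 : ℂ) * (1 + z10 ^ 2 - z10 ^ 3) + (A2 : ℂ) * (z10 ^ 2 - z10 ^ 3) -
      (A3 : ℂ) * (z10 ^ 2 - z10 ^ 3) - (A4 : ℂ) * (1 + z10 ^ 2 - z10 ^ 3) := by
    rw [hA1c, hA2c, hA3c, hA4c, hxc]
    linear_combination H1 + H9
  have E3 : 2 * χ (w ^ 3) = 2 * (x : ℂ) - (A1 : ℂ) * (z10 ^ 2 - z10 ^ 3) - (A2 : ℂ) * (1 + z10 ^ 2 - z10 ^ 3) +
      (A3 : ℂ) * (1 + z10 ^ 2 - z10 ^ 3) + (A4 : ℂ) * (z10 ^ 2 - z10 ^ 3) := by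
    rw [hA1c, hA2c, hA3c, hA4c, hxc]
    linear_combination H3 + H7
  have E5 : χ (w ^ 5) = ((x - A1 + A2 - A3 + A4 : ℤ) : ℂ) := by
    push_cast
    rw [hA1c, hA2c, hA3c, hA4c, hxc, H5]
    ring
  -- the integer `S`
  have hU : IsIntegral ℤ (χ w + χ (w ^ 3)) := (hint _).add (hint _)
  have hU2 : χ w + χ (w ^ 3) = (((2 * (2 * x) + (A1 - A2 + A3 - A4) : ℤ) : ℚ) / 2 : ℚ) := by
    push_cast
    linear_combination (1 / 2 : ℂ) * E1 + (1 / 2 : ℂ) * E3
  rw [hU2] at hU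
  obtain ⟨S, hS⟩ := int_of_integral _ hU
  have hS1 : 2 * S = 2 * (2 * x) + (A1 - A2 + A3 - A4) := by
    have h1 : ((2 * (2 * x) + (A1 - A2 + A3 - A4) : ℤ) : ℚ) = ((2 * S : ℤ) : ℚ) := by
      push_cast
      push_cast at hS
      field_simp at hS
      linarith
    exact_mod_cast h1.symm
  have hSc : χ w + χ (w ^ 3) = (S : ℂ) := by
    rw [hU2, hS]
    push_cast
    rfl
  obtain ⟨D, hD⟩ : ∃ D : ℤ, A1 + A2 - A3 - A4 = 2 * D := ⟨(A1 + A2 - A3 - A4) / 2, by omega⟩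
  have hDc : (A1 : ℂ) + A2 - A3 - A4 = 2 * (D : ℂ) := by exact_mod_cast hD
  have hS1c : 2 * (S : ℂ) = 2 * (2 * (x : ℂ)) + ((A1 : ℂ) - A2 + A3 - A4) := by exact_mod_cast hS1
  have E1' : 2 * χ w = (S : ℂ) + (D : ℂ) * s5 := by
    unfold s5
    have h1 : 2 * (2 * χ w) = 2 * (S : ℂ) + 2 * ((D : ℂ) * (2 * z10 ^ 2 - 2 * z10 ^ 3 + 1)) := by
      rw [← hSc]
      linear_combination E1 - E3 + (2 * z10 ^ 2 - 2 * z10 ^ 3 + 1) * hDc
    linear_combination (1 / 2 : ℂ) * h1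
  have E3' : 2 * χ (w ^ 3) = (S : ℂ) - (D : ℂ) * s5 := by
    linear_combination 2 * hSc - E1'
  have hP : IsIntegral ℤ (χ w * χ (w ^ 3)) := (hint _).mul (hint _)
  have hP2 : χ w * χ (w ^ 3) = (((S ^ 2 - 5 * D ^ 2 : ℤ) : ℚ) / 4 : ℚ) := by
    push_cast
    have h1 := s5_sq
    have h2 : 4 * (χ w * χ (w ^ 3)) = ((S : ℂ) + (D : ℂ) * s5) * ((S : ℂ) - (D : ℂ) * s5) := by
      rw [← E1', ← E3']
      ring
    linear_combination (1 / 4 : ℂ) * h2 - (1 / 4 : ℂ) * (D : ℂ) ^ 2 * h1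
  rw [hP2] at hP
  obtain ⟨P, hPe⟩ := int_of_integral _ hP
  have hP3 : S ^ 2 - 5 * D ^ 2 = 4 * P := by
    have h1 : ((S ^ 2 - 5 * D ^ 2 : ℤ) : ℚ) = ((4 * P : ℤ) : ℚ) := by
      push_cast
      push_cast at hPe
      field_simp at hPe
      linarith
    exact_mod_cast h1
  refine ⟨S, D, x - A1 + A2 - A3 + A4, E1', E3', E5, ?_, by omega⟩
  rcases Int.even_or_odd' S with ⟨u, hu | hu⟩ <;> rcases Int.even_or_odd' D with ⟨v, hv | hv⟩ <;>
    subst hu hv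
  · omega
  · exfalso
    ring_nf at hP3
    omega
  · exfalso
    ring_nf at hP3
    omega
  · omega

/-- Averages of a character over a subgroup and a bigger subgroup. -/
theorem avg_mono {Q : Type*} [Group Q] {ψ : Q → ℂ} (hψ : IsCharacter Q ψ) (K H : Subgroup Q) [Fintype K] [Fintype H]
    (hKH : K ≤ H) :
    ∃ mK mH : ℕ, mH ≤ mK ∧ ∑ y : K, ψ y = (Nat.card K : ℂ) * mK ∧ ∑ y : H, ψ y = (Nat.card H : ℂ) * mH := by
  obtain ⟨N, ρ, rfl⟩ := hψ
  let ρK : Representation ℂ K (Fin N → ℂ) := ρ.comp K.subtype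
  let ρH : Representation ℂ H (Fin N → ℂ) := ρ.comp H.subtype
  have hK0 : (Nat.card K : ℂ) ≠ 0 := by exact_mod_cast Nat.card_pos.ne'
  have hH0 : (Nat.card H : ℂ) ≠ 0 := by exact_mod_cast Nat.card_pos.ne'
  let _ : Invertible (Nat.card K : ℂ) := invertibleOfNonzero hK0
  let _ : Invertible (Nat.card H : ℂ) := invertibleOfNonzero hH0
  have h1 := Representation.card_inv_mul_sum_char_eq_finrank ρK
  have h2 := Representation.card_inv_mul_sum_char_eq_finrank ρH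
  refine ⟨Module.finrank ℂ (Representation.invariants ρK), Module.finrank ℂ (Representation.invariants ρH),
    ?_, ?_, ?_⟩
  · apply Submodule.finrank_mono
    intro v hv
    rw [Representation.mem_invariants] at hv ⊢
    intro g
    exact hv ⟨g.1, hKH g.2⟩
  · rw [← h1]
    have h3 : ∀ y : K, ρK.character y = ρ.character (y : Q) := fun _ => rfl
    simp only [h3]
    field_simp
  · rw [← h2]
    have h3 : ∀ y : H, ρH.character y = ρ.character (y : Q) := fun _ => rfl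
    simp only [h3]
    field_simp

theorem excl : ∀ y : CJ, (y = 1 → ¬ isInv y ∧ ¬ is3 y ∧ ¬ is6 y) ∧ (isInv y → ¬ is3 y ∧ ¬ is6 y) ∧ (is3 y → ¬ is6 y) := by
  decide +kernel

/-- Label counting over a subgroup of `2 × A₅`. -/
theorem sum_K (inK : CJ → Prop) [DecidablePred inK] (K : Subgroup CJ) (hK : ∀ y, y ∈ K ↔ inK y) [Fintype K]
    (ψ : CJ → ℂ) (d a x b : ℂ) (h1 : ψ 1 = d) (hinv : ∀ y, isInv y → ψ y = a) (h3 : ∀ y, is3 y → ψ y = x)
    (h6 : ∀ y, is6 y → ψ y = b) (cover : ∀ y, inK y → y = 1 ∨ isInv y ∨ is3 y ∨ is6 y)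
    (ci c3 c6 : ℕ) (hci : Fintype.card {y : CJ // inK y ∧ isInv y} = ci)
    (hc3 : Fintype.card {y : CJ // inK y ∧ is3 y} = c3) (hc6 : Fintype.card {y : CJ // inK y ∧ is6 y} = c6) :
    ∑ y : K, ψ y = d + (ci : ℂ) * a + (c3 : ℂ) * x + (c6 : ℂ) * b := by
  have h1K : inK 1 := (hK 1).mp K.one_mem
  have h2 : ∑ y : K, ψ y = ∑ y ∈ Finset.univ.filter inK, ψ y := by
    refine (Finset.sum_subtype _ (fun y => ?_) _).symm
    simp [hK]
  rw [h2, Finset.sum_filter]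
  have h4 : ∀ y : CJ, (if inK y then ψ y else 0) = (if y = 1 then d else 0) + (if inK y ∧ isInv y then a else 0) +
      (if inK y ∧ is3 y then x else 0) + (if inK y ∧ is6 y then b else 0) := by
    intro y
    obtain ⟨e1, e2, e3⟩ := excl y
    by_cases hy : inK y
    · rw [if_pos hy]
      rcases cover y hy with rfl | h | h | h
      · obtain ⟨e4, e5, e6⟩ := e1 rfl
        simp [e4, e5, e6, h1]
      · have hy1 : y ≠ 1 := fun h0 => (e1 h0).1 h
        obtain ⟨e4, e5⟩ := e2 h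
        simp [hy1, h, e4, e5, hy, hinv y h]
      · have hy1 : y ≠ 1 := fun h0 => (e1 h0).2.1 h
        have e4 : ¬ isInv y := fun h0 => (e2 h0).1 h
        simp [hy1, h, e4, e3 h, hy, h3 y h]
      · have hy1 : y ≠ 1 := fun h0 => (e1 h0).2.2 h
        have e4 : ¬ isInv y := fun h0 => (e2 h0).2 h
        have e5 : ¬ is3 y := fun h0 => e3 h0 h
        simp [hy1, h, e4, e5, hy, h6 y h]
    · have hy1 : y ≠ 1 := fun h0 => hy (h0 ▸ h1K)
      simp [hy, hy1]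
  simp only [h4, Finset.sum_add_distrib, Finset.sum_ite_eq', Finset.mem_univ, if_true]
  have h5 : ∀ (P : CJ → Prop) [DecidablePred P] (c : ℂ), (∑ y : CJ, if P y then c else 0) = (Fintype.card {y // P y} : ℂ) * c := by
    intro P _ c
    rw [← Finset.sum_filter, Finset.sum_const, nsmul_eq_mul, Fintype.card_subtype]
  rw [h5, h5, h5, hci, hc3, hc6]

end Cfsg.Agent.Lib.JOrdG
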