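import Mathlib
import Cfsg.Agent.Lib.CharBasic
import Cfsg.Agent.Lib.CharInd
import Cfsg.Agent.Lib.CharAvg
import Cfsg.Agent.Lib.CharKernel
import Cfsg.Agent.Lib.D8CentChar
import Cfsg.Agent.Lib.GL23Roots
import Cfsg.Agent.Lib.JOrdA
import Cfsg.Agent.Lib.JOrdB
import Cfsg.Agent.Lib.JOrdE
import Cfsg.Agent.Lib.JOrdG

/-!
# Janko's first group, order recognition: the character table argument
-/

set_option autoImplicit false
set_option maxRecDepth 100000
set_option linter.unusedVariables false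
set_option linter.unusedSectionVars false

namespace Cfsg.Agent.Lib.JOrdC

open Subgroup Cfsg Cfsg.Agent.Lib.CharBasic Cfsg.Agent.Lib.CharInd Cfsg.Agent.Lib.GL23Roots
  Cfsg.Agent.Lib.JOrdA Cfsg.Agent.Lib.JOrdB Cfsg.Agent.Lib.JOrdG
open scoped ComplexConjugate commutatorElement

theorem cT3 : Fintype.card {y : CJ // inT y ∧ is3 y} = 0 := by decide +kernel
theorem cT6 : Fintype.card {y : CJ // inT y ∧ is6 y} = 0 := by decide +kernel
theorem w10_cube : w10 ^ 3 = w30 := by decide +kernel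

theorem card_subA : Nat.card subA = 24 := by
  rw [← card_inA, ← Nat.card_eq_fintype_card]
  rfl

theorem card_subL : Nat.card subL = 6 := by
  rw [← card_inL, ← Nat.card_eq_fintype_card]
  rfl

theorem card_subS : Nat.card subS = 12 := by
  rw [← card_inS, ← Nat.card_eq_fintype_card]
  rfl

section Burnside

variable {G : Type*} [Group G] [Finite G] {t : G} (e : centralizer ({t} : Set G) ≃* CJ)

/-- The conjugation action of `T` on the involutions. -/
@[reducible] def actT : MulAction subT (Om G) where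
  smul a u := ⟨inH e a.1 * u.1 * (inH e a.1)⁻¹, by rw [conj_sq_eq, u.2.1]; simp, by
    rw [Ne, _root_.conj_eq_one_iff]; exact u.2.2⟩
  one_smul u := by
    apply Subtype.ext
    show inH e (1 : subT).1 * u.1 * (inH e (1 : subT).1)⁻¹ = u.1
    simp
  mul_smul a b u := by
    apply Subtype.ext
    show inH e (a * b : subT).1 * u.1 * (inH e (a * b : subT).1)⁻¹ =
      inH e a.1 * (inH e b.1 * u.1 * (inH e b.1)⁻¹) * (inH e a.1)⁻¹
    simp [mul_assoc]

variable (ht : orderOf t = 2)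

include e ht in
/-- The number of involutions modulo eight. -/
theorem n_mod (hperf : commutator G = ⊤) {k : ℕ} (hk : Odd k) (hG : Nat.card G = 8 * k) :
    Nat.card (Om G) % 8 = 7 := by
  classical
  let A : MulAction subT (Om G) := actT e
  let _ : Fintype subT := Fintype.ofFinite _
  let _ : Fintype (Om G) := Fintype.ofFinite _
  let _ : ∀ g : subT, Fintype (MulAction.fixedBy (Om G) g) := fun g => Fintype.ofFinite _
  let _ : Fintype (MulAction.orbitRel.Quotient subT (Om G)) := Fintype.ofFinite _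
  have hb := MulAction.sum_card_fixedBy_eq_card_orbits_mul_card_group subT (Om G)
  have hc8 : Fintype.card subT = 8 := by
    rw [← Nat.card_eq_fintype_card]; exact card_subT
  rw [hc8] at hb
  have hf : ∀ a : subT, a ≠ 1 → Fintype.card (MulAction.fixedBy (Om G) a) = 31 := by
    intro a ha
    have hv2 : (inH e a.1) ^ 2 = 1 := by
      rw [← map_pow]
      have : a.1 ^ 2 = 1 := a.2.2
      rw [this, map_one]
    have hv1 : inH e a.1 ≠ 1 := by
      rw [Ne, inH_eq_one_iff]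
      intro h
      exact ha (Subtype.ext h)
    rw [← Nat.card_eq_fintype_card, ← card_comm_inv e ht hperf hk hG hv2 hv1]
    refine Nat.card_congr (Equiv.subtypeEquivRight fun u => ?_)
    rw [MulAction.mem_fixedBy]
    exact Subtype.ext_iff
  have h1 : Fintype.card (MulAction.fixedBy (Om G) (1 : subT)) = Nat.card (Om G) := by
    rw [← Nat.card_eq_fintype_card]
    refine Nat.card_congr (Equiv.subtypeUnivEquiv fun u => ?_)
    rw [MulAction.mem_fixedBy]
    exact one_smul _ u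
  have h2 := Finset.add_sum_erase Finset.univ (fun a : subT => Fintype.card (MulAction.fixedBy (Om G) a))
    (Finset.mem_univ (1 : subT))
  have h3 : ∑ a ∈ Finset.univ.erase (1 : subT), Fintype.card (MulAction.fixedBy (Om G) a) = 7 * 31 := by
    rw [Finset.sum_congr rfl (fun a ha => hf a (Finset.ne_of_mem_erase ha)), Finset.sum_const,
      Finset.card_erase_of_mem (Finset.mem_univ _), Finset.card_univ, hc8]
    rfl
  rw [h1, h3, hb] at h2
  omega

end Burnside

section Sums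

variable {G : Type*} [Group G] [Finite G] {t : G} (e : centralizer ({t} : Set G) ≃* CJ)
  (ht : orderOf t = 2)

include ht in
/-- The averages of a character over four subgroups. -/
theorem char_sums (hperf : commutator G = ⊤) {k : ℕ} (hk : Odd k) (hG : Nat.card G = 8 * k) {χ : G → ℂ}
    (hχ : IsCharacter G χ) :
    ∃ mT mA mL mS : ℕ, mA ≤ mT ∧ mS ≤ mL ∧ 8 * (mT : ℂ) = χ 1 + 7 * χ t ∧
      24 * (mA : ℂ) = χ 1 + 7 * χ t + 8 * χ (inH e xx) + 8 * χ (inH e w6) ∧
      6 * (mL : ℂ) = χ 1 + χ t + 2 * χ (inH e xx) + 2 * χ (inH e w6) ∧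
      12 * (mS : ℂ) = χ 1 + 7 * χ t + 2 * χ (inH e xx) + 2 * χ (inH e w6) := by
  classical
  let ψ : CJ → ℂ := χ ∘ inH e
  have hψ : IsCharacter CJ ψ := isCharacter_comp (inH e) hχ
  have cl := isClassFunction_of_isCharacter hχ
  have a1 : ψ 1 = χ 1 := by simp [ψ]
  have ainv : ∀ y, isInv y → ψ y = χ t := by
    intro y hy
    obtain ⟨g, hg⟩ := inv_conj_t e ht hperf hk hG (u := inH e y) (by rw [← map_pow, hy.1, map_one])
      (by rw [Ne, inH_eq_one_iff]; exact hy.2)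
    show χ (inH e y) = _
    rw [← hg]
    exact cl t g
  have a3 : ∀ y, is3 y → ψ y = χ (inH e xx) := by
    intro y hy
    obtain ⟨g, hg⟩ := conj_is3 y hy
    show χ (inH e y) = _
    rw [← hg, map_mul, map_mul, map_inv]
    exact cl _ _
  have a6 : ∀ y, is6 y → ψ y = χ (inH e w6) := by
    intro y hy
    obtain ⟨g, hg⟩ := conj_is6 y hy
    show χ (inH e y) = _
    rw [← hg, map_mul, map_mul, map_inv]
    exact cl _ _
  obtain ⟨mT, mA, h1, h2, h3⟩ := avg_mono hψ subT subA (fun y hy => T_le_A y hy)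
  obtain ⟨mL, mS, h4, h5, h6⟩ := avg_mono hψ subL subS (fun y hy => L_le_S y hy)
  have sT := sum_K inT subT (fun _ => Iff.rfl) ψ _ _ _ _ a1 ainv a3 a6 (fun y hy => Or.imp_right Or.inl (cover_T y hy))
    7 0 0 cnt_T cT3 cT6
  have sA := sum_K inA subA (fun _ => Iff.rfl) ψ _ _ _ _ a1 ainv a3 a6 cover_A 7 8 8 cnt_A.1 cnt_A.2.1 cnt_A.2.2
  have sL := sum_K inL subL (fun _ => Iff.rfl) ψ _ _ _ _ a1 ainv a3 a6 cover_L 1 2 2 cnt_L.1 cnt_L.2.1 cnt_L.2.2
  have sS := sum_K inS subS (fun _ => Iff.rfl) ψ _ _ _ _ a1 ainv a3 a6 cover_S 7 2 2 cnt_S.1 cnt_S.2.1 cnt_S.2.2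
  rw [h2, card_subT] at sT
  rw [h3, card_subA] at sA
  rw [h5, card_subL] at sL
  rw [h6, card_subS] at sS
  push_cast at sT sA sL sS
  refine ⟨mT, mA, mL, mS, h1, h4, ?_, ?_, ?_, ?_⟩
  · linear_combination sT
  · linear_combination sA
  · linear_combination sL
  · linear_combination sS

end Sums

section Ker

variable {G : Type*} [Group G] [Fintype G] [IsSimpleGroup G]

theorem ne_of_ker {t : G} (ht1 : t ≠ 1) {χ : G → ℂ} (hχ : IsIrrCharacter G χ) (hne : χ ≠ fun _ => 1)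
    (h : χ t = χ 1) : False := by
  have hc := IsIrrCharacter.isCharacter hχ
  have hmem : t ∈ Cfsg.Agent.Lib.CharKernel.charKer hc := (Cfsg.Agent.Lib.CharKernel.mem_charKer hc).mpr h
  rcases IsSimpleGroup.eq_bot_or_eq_top_of_normal (Cfsg.Agent.Lib.CharKernel.charKer hc) inferInstance with h1 | h1
  · rw [h1] at hmem
    exact ht1 (Subgroup.mem_bot.mp hmem)
  · have h2 : ∀ g, χ g = χ 1 := by
      intro g
      have : g ∈ Cfsg.Agent.Lib.CharKernel.charKer hc := by rw [h1]; exact mem_top g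
      exact (Cfsg.Agent.Lib.CharKernel.mem_charKer hc).mp this
    have h3 := classInner_irr_ne hχ (isIrrCharacter_one (G := G)) hne
    unfold classInner at h3
    have h4 : ∑ g : G, χ g * conj ((fun _ => (1 : ℂ)) g) = (Nat.card G : ℂ) * χ 1 := by
      simp only [h2, map_one, mul_one, Finset.sum_const, Finset.card_univ, nsmul_eq_mul, Nat.card_eq_fintype_card]
    rw [h4] at h3
    have h5 : (Nat.card G : ℂ) ≠ 0 := by exact_mod_cast Nat.card_pos.ne'
    have h6 : χ 1 = 0 := by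
      field_simp at h3
      exact h3
    exact Cfsg.Agent.Lib.CharAvg.irr_one_ne_zero hχ h6

end Ker


section OrthBasic

variable {G : Type*} [Group G] [Fintype G]

theorem hom_trivial' (hperf : commutator G = ⊤) (f : G →* ℂˣ) (g : G) : f g = 1 := by
  have h1 : commutator G ≤ f.ker := by
    rw [commutator_def, Subgroup.commutator_le]
    intro a _ b _
    rw [MonoidHom.mem_ker, map_commutatorElement, commutatorElement_eq_one_iff_commute]
    exact Commute.all _ _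
  rw [hperf] at h1
  exact h1 (mem_top g)

/-- Orthogonality for two classes with integer values, conjugate case. -/
theorem orth_pos (x y : G) (f h : IrrCharacter G → ℤ) (A : ℕ)
    (hf : ∀ χ : IrrCharacter G, (χ : G → ℂ) x = f χ) (hh : ∀ χ : IrrCharacter G, (χ : G → ℂ) y = h χ)
    (hA : Nat.card (centralizer ({y} : Set G)) = A) (hc : IsConj x y) :
    ∑ χ, f χ * h χ = A := by
  have h1 := sum_irr_mul_conj x y
  rw [if_pos hc, hA] at h1
  have h2 : ((∑ χ, f χ * h χ : ℤ) : ℂ) = ((A : ℤ) : ℂ) := by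
    push_cast
    rw [← h1]
    refine Finset.sum_congr rfl fun χ _ => ?_
    rw [hf, hh]
    simp
  exact_mod_cast h2

/-- Orthogonality for two classes with integer values, non-conjugate case. -/
theorem orth_neg (x y : G) (f h : IrrCharacter G → ℤ)
    (hf : ∀ χ : IrrCharacter G, (χ : G → ℂ) x = f χ) (hh : ∀ χ : IrrCharacter G, (χ : G → ℂ) y = h χ)
    (hc : ¬ IsConj x y) : ∑ χ, f χ * h χ = 0 := by
  have h1 := sum_irr_mul_conj x y
  rw [if_neg hc] at h1
  have h2 : ((∑ χ, f χ * h χ : ℤ) : ℂ) = ((0 : ℤ) : ℂ) := by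
    push_cast
    rw [← h1]
    refine Finset.sum_congr rfl fun χ _ => ?_
    rw [hf, hh]
    simp
  exact_mod_cast h2

end OrthBasic

section Orth

variable {G : Type*} [Group G] [Fintype G]

/-- Orthogonality against a class with values in the quadratic field. -/
theorem orth_s5 (x c : G) (f R H : IrrCharacter G → ℤ)
    (hf : ∀ χ : IrrCharacter G, (χ : G → ℂ) x = f χ)
    (hc : ∀ χ : IrrCharacter G, 2 * (χ : G → ℂ) c = (R χ : ℂ) + (H χ : ℂ) * s5)
    (hn : ¬ IsConj x c) : ∑ χ, f χ * R χ = 0 ∧ ∑ χ, f χ * H χ = 0 := by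
  have h1 := sum_irr_mul_conj x c
  rw [if_neg hn] at h1
  have h3 : 2 * ∑ χ : IrrCharacter G, (χ : G → ℂ) x * conj ((χ : G → ℂ) c) =
      ∑ χ : IrrCharacter G, (((f χ : ℂ) * (R χ : ℂ)) + ((f χ : ℂ) * (H χ : ℂ)) * s5) := by
    rw [Finset.mul_sum]
    refine Finset.sum_congr rfl fun χ _ => ?_
    have h4 : 2 * conj ((χ : G → ℂ) c) = (R χ : ℂ) + (H χ : ℂ) * s5 := by
      have := congrArg conj (hc χ)
      simp only [map_add, map_mul, map_ofNat, s5_conj, map_intCast] at this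
      exact this
    rw [hf]
    linear_combination (f χ : ℂ) * h4
  rw [h1, mul_zero, Finset.sum_add_distrib, ← Finset.sum_mul] at h3
  have h2 : ((∑ χ, f χ * R χ : ℤ) : ℂ) + ((∑ χ, f χ * H χ : ℤ) : ℂ) * s5 = 0 := by
    push_cast
    exact h3.symm
  exact sep_int _ _ h2

/-- Orthogonality against a complex valued class. -/
theorem orth_cx (x c : G) (F : IrrCharacter G → ℂ)
    (hc : ∀ χ : IrrCharacter G, 2 * conj ((χ : G → ℂ) c) = F χ)
    (hn : ¬ IsConj x c) : ∑ χ : IrrCharacter G, (χ : G → ℂ) x * F χ = 0 := by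
  have h1 := sum_irr_mul_conj x c
  rw [if_neg hn] at h1
  have h3 : 2 * ∑ χ : IrrCharacter G, (χ : G → ℂ) x * conj ((χ : G → ℂ) c) =
      ∑ χ : IrrCharacter G, (χ : G → ℂ) x * F χ := by
    rw [Finset.mul_sum]
    refine Finset.sum_congr rfl fun χ _ => ?_
    rw [← hc]
    ring
  rw [← h3, h1, mul_zero]

end Orth

section Final

variable {G : Type*} [Group G] [Finite G] {t : G}

theorem nc (e : centralizer ({t} : Set G) ≃* CJ) (x y : CJ) (k : ℕ) (hx : x ^ k = 1) (hy : y ^ k ≠ 1) :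
    ¬ IsConj (inH e x) (inH e y) :=
  not_conj_of_pow k (by rw [← map_pow, hx, map_one]) (by
    rw [← map_pow]; exact fun h => hy ((inH_eq_one_iff e).mp h))

variable [IsSimpleGroup G]

/-- The order of the group. -/
theorem card_main (ht : orderOf t = 2) (e : centralizer ({t} : Set G) ≃* CJ) {k : ℕ} (hk : Odd k)
    (hG : Nat.card G = 8 * k) : Nat.card G = 175560 := by
  classical
  let _ : Fintype G := Fintype.ofFinite G
  have hperf : commutator G = ⊤ := perfect e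
  have hN := card_eq_inv e ht hperf hk hG
  have hn8 := n_mod e ht hperf hk hG
  obtain ⟨N0, hN0⟩ : ∃ N0 : ℕ, N0 = Nat.card (Om G) := ⟨_, rfl⟩
  rw [← hN0] at hN hn8
  have htz := inH_cz e ht
  have h63 : (inH e w6) ^ 3 = t := by rw [← map_pow, w6_three, htz]
  have h66 : (inH e w6) ^ 6 = 1 := by rw [show 6 = 3 * 2 from rfl, pow_mul, h63, t_sq ht]
  have h105 : (inH e w10) ^ 5 = t := by rw [← map_pow, w10_five, htz]
  have h1010 : (inH e w10) ^ 10 = 1 := by rw [show 10 = 5 * 2 from rfl, pow_mul, h105, t_sq ht]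
  have h103 : (inH e w10) ^ 3 = inH e w30 := by rw [← map_pow, w10_cube]
  have r6 := real_of e w6 w6_real
  have r10 := real_of e w10 w10_real
  have hv10 := fun χ : IrrCharacter G => char_values10 (IsIrrCharacter.isCharacter χ.2) h1010 r10
  choose S Dd α h1 h2 h3 c2 c5 using hv10
  simp only [h103, h105] at h2 h3
  have hv6 := fun χ : IrrCharacter G => char_values6 (IsIrrCharacter.isCharacter χ.2) h66 r6
  choose β c h6 h7 using hv6
  simp only [h63] at h7
  have hdeg := fun χ : IrrCharacter G => Cfsg.Agent.Lib.CharAvg.irr_one_eq χ.2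
  choose d hd0 hd1 using hdeg
  obtain ⟨δ, hδd⟩ : ∃ δ : IrrCharacter G → ℤ, ∀ χ, δ χ = (d χ : ℤ) := ⟨_, fun _ => rfl⟩
  have vδ : ∀ χ : IrrCharacter G, (χ : G → ℂ) 1 = δ χ := by
    intro χ; rw [hd1, hδd]; simp
  have hc3 : ∀ χ, (3 : ℤ) ∣ β χ - α χ := by
    intro χ
    have h8 := h7 χ
    rw [h3] at h8
    have h9 : α χ = β χ + 3 * c χ := by exact_mod_cast h8
    rw [h9]
    exact ⟨- c χ, by ring⟩
  have hCt : Nat.card (centralizer ({t} : Set G)) = 120 := card_C_t e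
  have hC6 : Nat.card (centralizer ({inH e w6} : Set G)) = 6 := by
    rw [card_centralizer e ht w6 3 w6_three, card_w6]
  have hC10 : Nat.card (centralizer ({inH e w10} : Set G)) = 10 := by
    rw [card_centralizer e ht w10 5 w10_five, card_w10]
  have ht1 : t ≠ 1 := t_ne_one ht
  have n_t6 : ¬ IsConj t (inH e w6) := by
    have h8 := nc e cz w6 2 (by decide +kernel) (by decide +kernel)
    rwa [htz] at h8
  have n_t10 : ¬ IsConj t (inH e w10) := by
    have h8 := nc e cz w10 2 (by decide +kernel) (by decide +kernel)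
    rwa [htz] at h8
  have n_610 : ¬ IsConj (inH e w6) (inH e w10) := nc e w6 w10 6 (by decide +kernel) (by decide +kernel)
  have n_1t : ¬ IsConj (1 : G) t := not_conj_of_pow 1 (by simp) (by rw [pow_one]; exact ht1)
  have n_16 : ¬ IsConj (1 : G) (inH e w6) := not_conj_of_pow 1 (by simp) (by
    rw [pow_one, Ne, inH_eq_one_iff]; decide +kernel)
  have n_110 : ¬ IsConj (1 : G) (inH e w10) := not_conj_of_pow 1 (by simp) (by
    rw [pow_one, Ne, inH_eq_one_iff]; decide +kernel)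
  have n_xt : ¬ IsConj (inH e xx) t := by
    have h8 := nc e xx cz 3 (by decide +kernel) (by decide +kernel)
    rwa [htz] at h8
  have n_x6 : ¬ IsConj (inH e xx) (inH e w6) := nc e xx w6 3 (by decide +kernel) (by decide +kernel)
  have n_x10 : ¬ IsConj (inH e xx) (inH e w10) := nc e xx w10 3 (by decide +kernel) (by decide +kernel)
  have n_x30 : ¬ IsConj (inH e xx) (inH e w30) := nc e xx w30 3 (by decide +kernel) (by decide +kernel)
  have αα := orth_pos t t α α 120 h3 h3 hCt (IsConj.refl t)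
  have ββ := orth_pos (inH e w6) (inH e w6) β β 6 h6 h6 hC6 (IsConj.refl _)
  have αβ := orth_neg t (inH e w6) α β h3 h6 n_t6
  have dα := orth_neg 1 t δ α vδ h3 n_1t
  have dβ := orth_neg 1 (inH e w6) δ β vδ h6 n_16
  obtain ⟨αS, αD⟩ := orth_s5 t (inH e w10) α S Dd h3 h1 n_t10
  obtain ⟨βS, βD⟩ := orth_s5 (inH e w6) (inH e w10) β S Dd h6 h1 n_610
  obtain ⟨dS, dD⟩ := orth_s5 1 (inH e w10) δ S Dd vδ h1 n_110
  have c10 : ∀ χ : IrrCharacter G, 2 * conj ((χ : G → ℂ) (inH e w10)) = (S χ : ℂ) + (Dd χ : ℂ) * s5 := by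
    intro χ
    have := congrArg conj (h1 χ)
    simp only [map_add, map_mul, map_ofNat, s5_conj, map_intCast] at this
    exact this
  have c30 : ∀ χ : IrrCharacter G, 2 * conj ((χ : G → ℂ) (inH e w30)) = (S χ : ℂ) - (Dd χ : ℂ) * s5 := by
    intro χ
    have := congrArg conj (h2 χ)
    simp only [map_sub, map_mul, map_ofNat, s5_conj, map_intCast] at this
    exact this
  -- the class of elements of order ten
  have S1 : (∑ χ, (S χ ^ 2 + 5 * Dd χ ^ 2) = 40) ∧ (∑ χ, 2 * (S χ * Dd χ) = 0) := by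
    have h8 := sum_irr_mul_conj (inH e w10) (inH e w10)
    rw [if_pos (IsConj.refl _), hC10] at h8
    have h10 : 4 * ∑ χ : IrrCharacter G, (χ : G → ℂ) (inH e w10) * conj ((χ : G → ℂ) (inH e w10)) =
        ∑ χ : IrrCharacter G, (((S χ ^ 2 + 5 * Dd χ ^ 2 : ℤ) : ℂ) + ((2 * (S χ * Dd χ) : ℤ) : ℂ) * s5) := by
      rw [Finset.mul_sum]
      refine Finset.sum_congr rfl fun χ _ => ?_
      push_cast
      linear_combination (2 * conj ((χ : G → ℂ) (inH e w10))) * h1 χ +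
        ((S χ : ℂ) + (Dd χ : ℂ) * s5) * c10 χ + (Dd χ : ℂ) ^ 2 * s5_sq
    rw [h8, Finset.sum_add_distrib, ← Finset.sum_mul] at h10
    have h11 := sep_int ((∑ χ, (S χ ^ 2 + 5 * Dd χ ^ 2)) - 40) (∑ χ, 2 * (S χ * Dd χ)) (by
      push_cast
      push_cast at h10
      linear_combination - h10)
    exact ⟨by omega, h11.2⟩
  have S2 : ∑ χ, (S χ ^ 2 - 5 * Dd χ ^ 2) = 0 := by
    have h8 := sum_irr_mul_conj (inH e w10) (inH e w30)
    rw [if_neg (not_conj_w10_w30 e ht)] at h8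
    have h10 : 4 * ∑ χ : IrrCharacter G, (χ : G → ℂ) (inH e w10) * conj ((χ : G → ℂ) (inH e w30)) =
        ∑ χ : IrrCharacter G, ((S χ ^ 2 - 5 * Dd χ ^ 2 : ℤ) : ℂ) := by
      rw [Finset.mul_sum]
      refine Finset.sum_congr rfl fun χ _ => ?_
      push_cast
      linear_combination (2 * conj ((χ : G → ℂ) (inH e w30))) * h1 χ +
        ((S χ : ℂ) + (Dd χ : ℂ) * s5) * c30 χ - (Dd χ : ℂ) ^ 2 * s5_sq
    rw [h8, mul_zero] at h10
    have h11 : ((∑ χ, (S χ ^ 2 - 5 * Dd χ ^ 2) : ℤ) : ℂ) = ((0 : ℤ) : ℂ) := by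
      push_cast
      push_cast at h10
      exact h10.symm
    exact_mod_cast h11
  have hSS : ∑ χ, S χ ^ 2 = 20 := by
    have h8 := S1.1
    rw [Finset.sum_add_distrib, ← Finset.mul_sum] at h8
    rw [Finset.sum_sub_distrib, ← Finset.mul_sum] at S2
    linarith
  have hDD : ∑ χ, Dd χ ^ 2 = 4 := by
    have h8 := S1.1
    rw [Finset.sum_add_distrib, ← Finset.mul_sum] at h8
    rw [Finset.sum_sub_distrib, ← Finset.mul_sum] at S2
    linarith
  have hSD : ∑ χ, S χ * Dd χ = 0 := by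
    have h8 := S1.2
    rw [← Finset.mul_sum] at h8
    linarith
  -- the elements of order three
  have ξα : ∑ χ : IrrCharacter G, (χ : G → ℂ) (inH e xx) * (α χ : ℂ) = 0 := by
    have h8 := sum_irr_mul_conj (inH e xx) t
    rw [if_neg n_xt] at h8
    rw [← h8]
    refine Finset.sum_congr rfl fun χ _ => ?_
    rw [h3, map_intCast]
  have ξβ : ∑ χ : IrrCharacter G, (χ : G → ℂ) (inH e xx) * (β χ : ℂ) = 0 := by
    have h8 := sum_irr_mul_conj (inH e xx) (inH e w6)
    rw [if_neg n_x6] at h8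
    rw [← h8]
    refine Finset.sum_congr rfl fun χ _ => ?_
    rw [h6, map_intCast]
  have ξS : ∑ χ : IrrCharacter G, (χ : G → ℂ) (inH e xx) * (S χ : ℂ) = 0 := by
    have h8 := orth_cx (inH e xx) (inH e w10) _ c10 n_x10
    have h9 := orth_cx (inH e xx) (inH e w30) _ c30 n_x30
    have h10 : 2 * ∑ χ : IrrCharacter G, (χ : G → ℂ) (inH e xx) * (S χ : ℂ) =
        ∑ χ : IrrCharacter G, (χ : G → ℂ) (inH e xx) * ((S χ : ℂ) + (Dd χ : ℂ) * s5) +
          ∑ χ : IrrCharacter G, (χ : G → ℂ) (inH e xx) * ((S χ : ℂ) - (Dd χ : ℂ) * s5) := by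
      rw [Finset.mul_sum, ← Finset.sum_add_distrib]
      refine Finset.sum_congr rfl fun χ _ => ?_
      ring
    rw [h8, h9, add_zero] at h10
    exact (mul_eq_zero.mp h10).resolve_left (by norm_num)
  -- the averages
  have hcs := fun χ : IrrCharacter G => char_sums e ht hperf hk hG (IsIrrCharacter.isCharacter χ.2)
  choose mT mA mL mS e1 e2 e3 e4 e5 e6 using hcs
  simp only [vδ, h3, h6] at e3 e4 e5 e6
  have i3 : ∀ χ, 8 * (mT χ : ℤ) = δ χ + 7 * α χ := by
    intro χ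
    have := e3 χ
    exact_mod_cast this
  have i4 : ∀ χ, 24 * (mA χ : ℤ) - 48 * (mS χ : ℤ) = - 3 * δ χ - 21 * α χ := by
    intro χ
    have h8 : ((24 * (mA χ : ℤ) - 48 * (mS χ : ℤ) : ℤ) : ℂ) = ((- 3 * δ χ - 21 * α χ : ℤ) : ℂ) := by
      push_cast
      linear_combination e4 χ - 4 * e6 χ
    exact_mod_cast h8
  have i5 : ∀ χ, 12 * (mS χ : ℤ) - 6 * (mL χ : ℤ) = 6 * α χ := by
    intro χ
    have h8 : ((12 * (mS χ : ℤ) - 6 * (mL χ : ℤ) : ℤ) : ℂ) = ((6 * α χ : ℤ) : ℂ) := by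
      push_cast
      linear_combination e6 χ - e5 χ
    exact_mod_cast h8
  have c8 : ∀ χ, (8 : ℤ) ∣ δ χ - α χ := by
    intro χ
    have := i3 χ
    omega
  have hfix : ∀ χ, 0 ≤ δ χ + 7 * α χ := by
    intro χ
    have := i3 χ
    omega
  obtain ⟨m, hmd⟩ : ∃ m : IrrCharacter G → ℤ, ∀ χ, m χ = (mA χ : ℤ) := ⟨_, fun _ => rfl⟩
  have hm0 : ∀ χ, 0 ≤ m χ := by
    intro χ; rw [hmd]; omega
  have hm1 : ∀ χ, 8 * m χ ≤ δ χ + 7 * α χ := by
    intro χ
    rw [hmd]
    have := i3 χ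
    have := e1 χ
    omega
  have hm2 : ∀ χ, 9 * α χ - δ χ ≤ 8 * m χ := by
    intro χ
    rw [hmd]
    have := i4 χ
    have := i5 χ
    have := e2 χ
    omega
  -- the principal character
  let i₀ : IrrCharacter G := ⟨fun _ => 1, isIrrCharacter_one⟩
  have hi₀ : ∀ g : G, (i₀ : G → ℂ) g = 1 := fun _ => rfl
  have δ0 : δ i₀ = 1 := by
    have h' : ((δ i₀ : ℤ) : ℂ) = ((1 : ℤ) : ℂ) := by rw [← vδ i₀, hi₀]; simp
    exact_mod_cast h'
  have α0 : α i₀ = 1 := by
    have h' : ((α i₀ : ℤ) : ℂ) = ((1 : ℤ) : ℂ) := by rw [← h3 i₀, hi₀]; simp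
    exact_mod_cast h'
  have β0 : β i₀ = 1 := by
    have h' : ((β i₀ : ℤ) : ℂ) = ((1 : ℤ) : ℂ) := by rw [← h6 i₀, hi₀]; simp
    exact_mod_cast h'
  obtain ⟨S0, D0⟩ : S i₀ = 2 ∧ Dd i₀ = 0 := by
    have h8 := h1 i₀
    rw [hi₀] at h8
    have h9 := sep_int (S i₀ - 2) (Dd i₀) (by push_cast; linear_combination -h8)
    exact ⟨by omega, h9.2⟩
  have m0 : m i₀ = 1 := by
    have h8 := e4 i₀
    rw [hi₀, δ0, α0, β0] at h8
    have h9 : ((24 * m i₀ : ℤ) : ℂ) = ((24 : ℤ) : ℂ) := by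
      rw [hmd]
      push_cast
      push_cast at h8
      rw [h8]
      norm_num
    have h10 : 24 * m i₀ = 24 := by exact_mod_cast h9
    omega
  have hδ : ∀ χ, 0 < δ χ := by
    intro χ
    rw [hδd]
    have := hd0 χ
    omega
  have hδ1 : ∀ χ, δ χ = 1 → χ = i₀ := by
    intro χ h8
    have h9 : (χ : G → ℂ) 1 = 1 := by rw [vδ, h8]; simp
    obtain ⟨f, hf⟩ := exists_hom_of_degree_one (IsIrrCharacter.isCharacter χ.2) h9
    apply Subtype.ext
    funext g
    rw [hf, hom_trivial' hperf f g]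
    simp [i₀]
  have hne : ∀ χ, χ ≠ i₀ → α χ ≠ δ χ := by
    intro χ h8 h9
    refine ne_of_ker ht1 χ.2 (fun h10 => h8 (Subtype.ext h10)) ?_
    rw [h3, vδ, h9]
  have hNc : (Nat.card G : ℂ) = (N0 : ℂ) * 120 := by
    rw [hN]; push_cast; rfl
  have hN0pos : 0 < N0 := by
    have h8 : 0 < Nat.card G := Nat.card_pos
    rw [hN] at h8
    omega
  have hδδ : ∑ χ, δ χ ^ 2 = 120 * (N0 : ℤ) := by
    have h8 := sum_irr_degree_sq (G := G)
    simp only [vδ, map_intCast] at h8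
    have h9 : ((∑ χ, δ χ ^ 2 : ℤ) : ℂ) = ((120 * (N0 : ℤ) : ℤ) : ℂ) := by
      push_cast
      rw [mul_comm, ← hNc, ← h8]
      refine Finset.sum_congr rfl fun χ _ => ?_
      ring
    exact_mod_cast h9
  -- the moments
  have hNne : (Nat.card G : ℂ) ≠ 0 := by
    exact_mod_cast (Nat.card_pos (α := G)).ne'
  have hN0c : (N0 : ℂ) ≠ 0 := by exact_mod_cast hN0pos.ne'
  have hmain : ∀ (z : G) (n : ℕ), Nat.card {u : G // Cfsg.Agent.Lib.D8CentGroup.PP z u} = n →
      (Nat.card G : ℂ) * ∑ χ : IrrCharacter G, (χ : G → ℂ) t ^ 2 * (χ : G → ℂ) z⁻¹ / (χ : G → ℂ) 1 =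
        (n : ℂ) * 14400 := by
    intro z n hz
    have h8 := Cfsg.Agent.Lib.D8CentChar.struct_formula t z
    have h9 := count_eq e ht hperf hk hG z n hz
    rw [h9] at h8
    push_cast at h8
    have h10 : (Nat.card G : ℂ) * ((Nat.card G : ℂ) * ∑ χ : IrrCharacter G,
        (χ : G → ℂ) t ^ 2 * (χ : G → ℂ) z⁻¹ / (χ : G → ℂ) 1) = (Nat.card G : ℂ) * ((n : ℂ) * 14400) := by
      have h11 : (Nat.card G : ℂ) * ((n : ℂ) * 14400) = (Nat.card G : ℂ) * ((n : ℂ) * 120 * 120) := by ring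
      rw [h11, h8]
      ring
    exact mul_left_cancel₀ hNne h10
  have hPt : Nat.card {u : G // Cfsg.Agent.Lib.D8CentGroup.PP t u} = 30 := by
    have h := card_PP e ht cz 1 (pow_one _)
    rw [card_PP_cz, htz] at h
    exact h
  have hP6 : Nat.card {u : G // Cfsg.Agent.Lib.D8CentGroup.PP (inH e w6) u} = 6 := by
    have h := card_PP e ht w6 3 w6_three
    rw [card_PP_w6] at h
    exact h
  have hP10 : Nat.card {u : G // Cfsg.Agent.Lib.D8CentGroup.PP (inH e w10) u} = 10 := by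
    have h := card_PP e ht w10 5 w10_five
    rw [card_PP_w10] at h
    exact h
  have vαinv : ∀ χ : IrrCharacter G, (χ : G → ℂ) t⁻¹ = α χ := by
    intro χ
    rw [← char_conj_eq_inv (IsIrrCharacter.isCharacter χ.2), h3, map_intCast]
  have vβinv : ∀ χ : IrrCharacter G, (χ : G → ℂ) (inH e w6)⁻¹ = β χ := by
    intro χ
    rw [← char_conj_eq_inv (IsIrrCharacter.isCharacter χ.2), h6, map_intCast]
  have v10inv : ∀ χ : IrrCharacter G, (χ : G → ℂ) (inH e w10)⁻¹ = ((S χ : ℂ) + (Dd χ : ℂ) * s5) / 2 := by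
    intro χ
    rw [← char_conj_eq_inv (IsIrrCharacter.isCharacter χ.2)]
    linear_combination (1 / 2 : ℂ) * c10 χ
  have M4 : ((N0 : ℤ) : ℚ) * ∑ χ, (α χ : ℚ) ^ 2 * (α χ : ℚ) / (δ χ : ℚ) = 3600 := by
    have h := hmain t 30 hPt
    simp only [h3, vαinv, vδ] at h
    rw [hNc] at h
    have h' : ((((N0 : ℤ) : ℚ) * ∑ χ, (α χ : ℚ) ^ 2 * (α χ : ℚ) / (δ χ : ℚ) : ℚ) : ℂ) = ((3600 : ℚ) : ℂ) := by
      push_cast
      push_cast at h
      linear_combination (1 / 120 : ℂ) * h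
    exact_mod_cast h'
  have M1 : ((N0 : ℤ) : ℚ) * ∑ χ, (α χ : ℚ) ^ 2 * (β χ : ℚ) / (δ χ : ℚ) = 720 := by
    have h := hmain (inH e w6) 6 hP6
    simp only [h3, vβinv, vδ] at h
    rw [hNc] at h
    have h' : ((((N0 : ℤ) : ℚ) * ∑ χ, (α χ : ℚ) ^ 2 * (β χ : ℚ) / (δ χ : ℚ) : ℚ) : ℂ) = ((720 : ℚ) : ℂ) := by
      push_cast
      push_cast at h
      linear_combination (1 / 120 : ℂ) * h
    exact_mod_cast h'
  obtain ⟨M2', M3'⟩ : (((N0 : ℚ) * ∑ χ, (α χ : ℚ) ^ 2 * (S χ : ℚ) / (δ χ : ℚ)) - 2400 = 0) ∧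
      ((N0 : ℚ) * ∑ χ, (α χ : ℚ) ^ 2 * (Dd χ : ℚ) / (δ χ : ℚ) = 0) := by
    have h := hmain (inH e w10) 10 hP10
    simp only [h3, v10inv, vδ] at h
    rw [hNc] at h
    apply sep_s5
    push_cast
    have h9 : ∑ χ : IrrCharacter G, (α χ : ℂ) ^ 2 * (((S χ : ℂ) + (Dd χ : ℂ) * s5) / 2) / (δ χ : ℂ) =
        (1 / 2 : ℂ) * ∑ χ : IrrCharacter G, (α χ : ℂ) ^ 2 * (S χ : ℂ) / (δ χ : ℂ) +
          (1 / 2 : ℂ) * s5 * ∑ χ : IrrCharacter G, (α χ : ℂ) ^ 2 * (Dd χ : ℂ) / (δ χ : ℂ) := by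
      rw [Finset.mul_sum, Finset.mul_sum, ← Finset.sum_add_distrib]
      refine Finset.sum_congr rfl fun χ _ => ?_
      ring
    rw [h9] at h
    push_cast at h
    linear_combination (1 / 60 : ℂ) * h
  have hN0q : (N0 : ℚ) ≠ 0 := by exact_mod_cast hN0pos.ne'
  have M2 : ((N0 : ℤ) : ℚ) * ∑ χ, (α χ : ℚ) ^ 2 * (S χ : ℚ) / (δ χ : ℚ) = 2400 := by
    push_cast
    linarith
  have M3 : ∑ χ, (α χ : ℚ) ^ 2 * (Dd χ : ℚ) / (δ χ : ℚ) = 0 :=
    (mul_eq_zero.mp M3').resolve_left hN0q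
  -- the last relation
  have hmr : ∑ χ, m χ * (-α χ + 10 * β χ + 3 * S χ) = -15 := by
    have hI : ∑ χ, (δ χ + 7 * α χ + 8 * β χ) * (-α χ + 10 * β χ + 3 * S χ) = -360 := by
      have h8 : ∀ χ, (δ χ + 7 * α χ + 8 * β χ) * (-α χ + 10 * β χ + 3 * S χ) =
          -(δ χ * α χ) + 10 * (δ χ * β χ) + 3 * (δ χ * S χ) - 7 * (α χ * α χ) + 62 * (α χ * β χ) + 21 * (α χ * S χ) +
            80 * (β χ * β χ) + 24 * (β χ * S χ) := by
        intro χ; ring
      simp only [h8, Finset.sum_add_distrib, Finset.sum_sub_distrib, Finset.sum_neg_distrib, ← Finset.mul_sum]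
      rw [dα, dβ, dS, αα, αβ, αS, ββ, βS]
      norm_num
    have hξR : ∑ χ : IrrCharacter G, (χ : G → ℂ) (inH e xx) * (-(α χ : ℂ) + 10 * (β χ : ℂ) + 3 * (S χ : ℂ)) = 0 := by
      have h8 : ∑ χ : IrrCharacter G, (χ : G → ℂ) (inH e xx) * (-(α χ : ℂ) + 10 * (β χ : ℂ) + 3 * (S χ : ℂ)) =
          -∑ χ : IrrCharacter G, (χ : G → ℂ) (inH e xx) * (α χ : ℂ) +
          10 * ∑ χ : IrrCharacter G, (χ : G → ℂ) (inH e xx) * (β χ : ℂ) +
          3 * ∑ χ : IrrCharacter G, (χ : G → ℂ) (inH e xx) * (S χ : ℂ) := by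
        rw [Finset.mul_sum, Finset.mul_sum, ← Finset.sum_neg_distrib, ← Finset.sum_add_distrib,
          ← Finset.sum_add_distrib]
        refine Finset.sum_congr rfl fun χ _ => ?_
        ring
      rw [h8, ξα, ξβ, ξS]
      norm_num
    have hC : (24 : ℂ) * ((∑ χ, m χ * (-α χ + 10 * β χ + 3 * S χ) : ℤ) : ℂ) = ((-360 : ℤ) : ℂ) := by
      rw [← hI]
      push_cast
      have h8 : (24 : ℂ) * ∑ χ : IrrCharacter G, (m χ : ℂ) * (-(α χ : ℂ) + 10 * (β χ : ℂ) + 3 * (S χ : ℂ)) =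
          ∑ χ : IrrCharacter G, ((δ χ : ℂ) + 7 * (α χ : ℂ) + 8 * (β χ : ℂ)) * (-(α χ : ℂ) + 10 * (β χ : ℂ) + 3 * (S χ : ℂ)) +
            8 * ∑ χ : IrrCharacter G, (χ : G → ℂ) (inH e xx) * (-(α χ : ℂ) + 10 * (β χ : ℂ) + 3 * (S χ : ℂ)) := by
        rw [Finset.mul_sum, Finset.mul_sum, ← Finset.sum_add_distrib]
        refine Finset.sum_congr rfl fun χ _ => ?_
        rw [hmd]
        have h9 := e4 χ
        push_cast
        linear_combination (-(α χ : ℂ) + 10 * (β χ : ℂ) + 3 * (S χ : ℂ)) * h9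
      rw [h8, hξR]
      ring
    have h10 : 24 * (∑ χ, m χ * (-α χ + 10 * β χ + 3 * S χ)) = -360 := by
      exact_mod_cast hC
    omega
  have hfin := Cfsg.Agent.Lib.JOrdE.rows_main δ α β S Dd m i₀ (N0 : ℤ) (by exact_mod_cast hN0pos) hδ hδ1 δ0 α0 β0 S0 D0 m0
    hc3 c2 c5 c8 hfix hne
    (by simp only [pow_two]; exact_mod_cast αα) (by simp only [pow_two]; exact_mod_cast ββ) hSS hDD αβ αS αD βS βD hSD
    dα dβ dS dD M1 M2 M3 M4 (by omega) hδδ hm0 hm1 hm2 hmr
  have h1463 : N0 = 1463 := by exact_mod_cast hfin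
  rw [hN, h1463]

end Final

section Sylow

variable {G : Type*} [Group G] [Finite G] {t : G}

/-- The two-part of the order. -/
theorem two_part (e : centralizer ({t} : Set G) ≃* CJ) (P : Sylow 2 G) (hP : ∀ x ∈ P, x * t = t * x) :
    ∃ k, Odd k ∧ Nat.card G = 8 * k := by
  have hle : (P : Subgroup G) ≤ centralizer ({t} : Set G) := by
    intro x hx
    rw [mem_centralizer_singleton_iff]
    exact hP x hx
  have hdvd : Nat.card P ∣ 120 := by
    have := Subgroup.card_dvd_of_le hle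
    rwa [card_C_t e] at this
  -- the image of `T` is a `2`-group of order eight
  let M : Subgroup G := subT.map (inH e)
  have hM : Nat.card M = 8 := by rw [card_map, card_subT]
  have hMp : IsPGroup 2 M := by
    rw [IsPGroup.iff_card]
    exact ⟨3, hM⟩
  obtain ⟨Q, hQ⟩ := hMp.exists_le_sylow
  have h8Q : 8 ∣ Nat.card Q := by
    have := Subgroup.card_dvd_of_le hQ
    rwa [hM] at this
  have : Fact (Nat.Prime 2) := ⟨Nat.prime_two⟩
  have hQP : Nat.card Q = Nat.card P := Nat.card_congr (Q.equiv P).toEquiv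
  rw [hQP] at h8Q
  have hpg : IsPGroup 2 P := P.isPGroup'
  obtain ⟨m, hm⟩ := IsPGroup.iff_card.mp hpg
  have hm3 : m ≤ 3 := by
    by_contra h
    have h1 : (2 : ℕ) ^ 4 ∣ 2 ^ m := pow_dvd_pow 2 (by omega)
    rw [← hm] at h1
    have h2 := h1.trans hdvd
    norm_num at h2
  have hcard : Nat.card P = 8 := by
    rw [hm] at h8Q ⊢
    interval_cases m <;> simp_all
  have hnot := P.not_dvd_index
  refine ⟨(P : Subgroup G).index, ?_, ?_⟩
  · rw [← Nat.not_even_iff_odd, even_iff_two_dvd]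
    exact hnot
  · have := Subgroup.card_mul_index (P : Subgroup G)
    rw [hcard] at this
    exact this.symm

end Sylow

end Cfsg.Agent.Lib.JOrdC
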