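import Mathlib
import Cfsg.Agent.Lib.JOrdB
import Cfsg.Agent.Lib.InvolutionIndexTwo
import Cfsg.Agent.Lib.BrauerFowler2

/-!
# Uniqueness of the first Janko group: generic lemmas and the centralizer of an element of order `5`
-/

set_option autoImplicit false
set_option linter.unusedVariables false
set_option linter.unusedSectionVars false
set_option maxRecDepth 100000

namespace Cfsg.Agent.Lib.JUG1

open Subgroup Cfsg.Agent.Lib.JOrdA Cfsg.Agent.Lib.JOrdB

section Gen

variable {G : Type*} [Group G]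

theorem mem_map_conj {g x : G} {P : Subgroup G} :
    x ∈ P.map (MulAut.conj g).toMonoidHom ↔ g⁻¹ * x * g ∈ P := by
  rw [Subgroup.mem_map_equiv, MulAut.conj_symm_apply]

variable [Finite G]

/-- Orbit counting for an element `t` under a subgroup `N`. -/
theorem card_orbit (N : Subgroup G) {t : G} (ht : t ∈ N) (Y : Set G)
    (hY : ∀ u, u ∈ Y ↔ ∃ n ∈ N, n * t * n⁻¹ = u) :
    Nat.card N = Nat.card Y * Nat.card ↥(N ⊓ centralizer ({t} : Set G)) := by
  classical
  letI := Fintype.ofFinite N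
  have h1 := Cfsg.Agent.Lib.CharInd.card_conj_mul_card_centralizer (⟨t, ht⟩ : N)
  rw [← h1]
  congr 1
  · refine Nat.card_congr ⟨fun u => ⟨u.1.1, ?_⟩, fun u => ⟨⟨u.1, ?_⟩, ?_⟩, ?_, ?_⟩
    · obtain ⟨c, hc⟩ := isConj_iff.mp u.2
      rw [hY]
      refine ⟨c.1, c.2, ?_⟩
      have := congrArg Subtype.val hc
      simpa using this
    · obtain ⟨n, hn, h⟩ := (hY u.1).mp u.2
      rw [← h]
      exact N.mul_mem (N.mul_mem hn ht) (N.inv_mem hn)
    · obtain ⟨n, hn, h⟩ := (hY u.1).mp u.2
      rw [isConj_iff]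
      refine ⟨⟨n, hn⟩, Subtype.ext ?_⟩
      simpa using h
    · rintro ⟨⟨u, hu⟩, h⟩
      rfl
    · rintro ⟨u, hu⟩
      rfl
  · refine Nat.card_congr ⟨fun u => ⟨u.1.1, ?_⟩, fun u => ⟨⟨u.1, ?_⟩, ?_⟩, ?_, ?_⟩
    · refine ⟨u.1.2, ?_⟩
      have h2 := u.2
      rw [mem_centralizer_singleton_iff] at h2
      show u.1.1 ∈ centralizer ({t} : Set G)
      rw [mem_centralizer_singleton_iff]
      have := congrArg Subtype.val h2
      simpa using this
    · exact u.2.1
    · have h2 : u.1 ∈ centralizer ({t} : Set G) := u.2.2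
      rw [mem_centralizer_singleton_iff] at h2
      rw [mem_centralizer_singleton_iff]
      exact Subtype.ext h2
    · rintro ⟨⟨u, hu⟩, h⟩
      rfl
    · rintro ⟨u, hu⟩
      rfl

omit [Finite G] in
theorem conj_mem_of_smul {p : ℕ} (P Q : Sylow p G) (g : G) (hg : g • P = Q) {x : G}
    (hx : x ∈ (P : Subgroup G)) : g * x * g⁻¹ ∈ (Q : Subgroup G) := by
  rw [← hg, Sylow.coe_subgroup_smul]
  exact ⟨x, hx, rfl⟩

/-- Sylow subgroups are conjugate, in elements. -/
theorem sylow_conj_mem {p : ℕ} [Fact p.Prime] (P Q : Sylow p G) :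
    ∃ g : G, ∀ x ∈ (P : Subgroup G), g * x * g⁻¹ ∈ (Q : Subgroup G) := by
  obtain ⟨g, hg⟩ := MulAction.exists_smul_eq G P Q
  exact ⟨g, fun x hx => conj_mem_of_smul P Q g hg hx⟩

omit [Finite G] in
theorem fact_of {p k m : ℕ} (hp : p.Prime) (hm : ¬ p ∣ m) : (p ^ k * m).factorization p = k := by
  have hm0 : m ≠ 0 := by
    rintro rfl
    exact hm (dvd_zero _)
  rw [Nat.factorization_mul (pow_ne_zero _ hp.ne_zero) hm0, Nat.factorization_pow]
  simp [Nat.factorization_eq_zero_of_not_dvd hm, hp.factorization_self]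

/-- A subgroup of the right order is Sylow. -/
noncomputable def sylowOf {p k m : ℕ} [hp : Fact p.Prime] (H : Subgroup G) (hH : Nat.card H = p ^ k)
    (hG : Nat.card G = p ^ k * m) (hm : ¬ p ∣ m) : Sylow p G :=
  Sylow.ofCard H (by rw [hG, fact_of hp.out hm, hH])

theorem coe_sylowOf {p k m : ℕ} [hp : Fact p.Prime] (H : Subgroup G) (hH : Nat.card H = p ^ k)
    (hG : Nat.card G = p ^ k * m) (hm : ¬ p ∣ m) : (sylowOf H hH hG hm : Subgroup G) = H :=
  Sylow.coe_ofCard _ _

/-- Fixed points of an involution on a set of odd size. -/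
theorem odd_fix {α : Type*} [Finite α] (hodd : Odd (Nat.card α)) (f : α → α) (hf : ∀ a, f (f a) = a) :
    Odd (Nat.card {a // f a = a}) := by
  classical
  letI := Fintype.ofFinite α
  have hF : (show Function.End α from f) ^ 2 ^ 1 = 1 := by
    funext a
    show f (f a) = a
    exact hf a
  haveI : Fact (Nat.Prime 2) := ⟨Nat.prime_two⟩
  have h := Equiv.Perm.card_fixedPoints_modEq (f := (show Function.End α from f)) (p := 2) (n := 1) hF
  rw [Nat.card_eq_fintype_card] at hodd
  have h2 : Nat.card {a // f a = a} = Fintype.card (Function.fixedPoints f) := by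
    rw [Nat.card_eq_fintype_card]
    apply Fintype.card_congr
    exact Equiv.subtypeEquivRight (fun a => by simp [Function.fixedPoints, Function.IsFixedPt])
  rw [h2]
  have h3 : (Fintype.card α) % 2 = Fintype.card (Function.fixedPoints f) % 2 := h
  rw [Nat.odd_iff] at hodd ⊢
  omega

/-- Commuting involutions on a set of odd size have a common fixed point. -/
theorem exists_common_fix {α : Type*} [Finite α] (hodd : Odd (Nat.card α)) (f g : α → α)
    (hf : ∀ a, f (f a) = a) (hg : ∀ a, g (g a) = a) (hc : ∀ a, f (g a) = g (f a)) :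
    ∃ a, f a = a ∧ g a = a := by
  have h1 := odd_fix hodd f hf
  let g' : {a // f a = a} → {a // f a = a} := fun a => ⟨g a.1, by rw [hc, a.2]⟩
  have h2 := odd_fix h1 g' (fun a => Subtype.ext (hg a.1))
  have h3 : Nat.card {a // g' a = a} ≠ 0 := h2.pos.ne'
  haveI : Finite {a // g' a = a} := inferInstance
  have h4 : Nonempty {a // g' a = a} := (Nat.card_pos_iff.mp (Nat.pos_of_ne_zero h3)).1
  obtain ⟨⟨a, ha⟩⟩ := h4
  exact ⟨a.1, a.2, congrArg Subtype.val ha⟩

omit [Finite G] in
/-- An involution normalizing a group of order five acts as `±1`. -/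
theorem inv_or_fix {z g : G} (hz : orderOf z = 5) (hg : g ^ 2 = 1) (hgz : g * z * g⁻¹ ∈ zpowers z) :
    g * z * g⁻¹ = z ∨ g * z * g⁻¹ = z⁻¹ := by
  have hz5 : z ^ 5 = 1 := by rw [← hz]; exact pow_orderOf_eq_one z
  have hfin : IsOfFinOrder z := by
    rw [← orderOf_pos_iff, hz]; norm_num
  obtain ⟨i, hi⟩ : ∃ i : ℕ, i < 5 ∧ z ^ i = g * z * g⁻¹ := by
    obtain ⟨k, hk⟩ := mem_zpowers_iff.mp hgz
    have h5 : (0 : ℤ) ≤ k % 5 := Int.emod_nonneg _ (by norm_num)
    have h6 : k % 5 < 5 := Int.emod_lt_of_pos _ (by norm_num)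
    refine ⟨(k % 5).toNat, by omega, ?_⟩
    rw [← zpow_natCast, Int.toNat_of_nonneg h5, ← hk]
    have := zpow_mod_orderOf z k
    rwa [hz] at this
  obtain ⟨hi5, hi⟩ := hi
  have h2 : z ^ (i * i) = z := by
    have h3 : g * (z ^ i) * g⁻¹ = z ^ (i * i) := by
      rw [pow_mul, hi]
      have : ∀ n : ℕ, (g * z * g⁻¹) ^ n = g * z ^ n * g⁻¹ := by
        intro n
        induction n with
        | zero => simp
        | succ n ih =>
          rw [pow_succ, ih, pow_succ]
          group
      rw [this, ← hi]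
    rw [← h3, hi]
    have hgg : g * g = 1 := by rw [← pow_two, hg]
    have hgi : g⁻¹ = g := by
      rw [eq_comm, ← mul_eq_one_iff_eq_inv]
      exact hgg
    rw [hgi]
    calc g * (g * z * g) * g = (g * g) * z * (g * g) := by group
      _ = z := by rw [hgg]; group
  have hne : ∀ m : ℕ, 0 < m → m < 5 → z ^ m ≠ 1 := by
    intro m hm hm5 h
    have := orderOf_le_of_pow_eq_one hm h
    omega
  interval_cases i
  · exfalso
    simp only [mul_zero, pow_zero] at h2
    exact hne 1 (by norm_num) (by norm_num) (by simpa using h2.symm)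
  · left
    rw [← hi]; simp
  · exfalso
    have h3 : z ^ 3 = 1 := by
      have : z ^ 4 = z ^ 3 * z := by rw [pow_succ]
      have h4 : z ^ (2 * 2) = z := h2
      rw [show 2 * 2 = 4 from rfl, this] at h4
      exact mul_eq_right.mp h4
    exact hne 3 (by norm_num) (by norm_num) h3
  · exfalso
    have h3 : z ^ 3 = 1 := by
      have h4 : z ^ (3 * 3) = z := h2
      have h5 : z ^ 9 = z ^ 4 * z ^ 5 := by rw [← pow_add]
      rw [show 3 * 3 = 9 from rfl, h5, hz5, mul_one] at h4
      have : z ^ 4 = z ^ 3 * z := by rw [pow_succ]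
      rw [this] at h4
      exact mul_eq_right.mp h4
    exact hne 3 (by norm_num) (by norm_num) h3
  · right
    rw [← hi, eq_inv_iff_mul_eq_one, ← pow_succ]
    exact hz5

end Gen

end Cfsg.Agent.Lib.JUG1
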