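import Mathlib
import Cfsg.Agent.Lib.JUG1

/-!
# Uniqueness of the first Janko group: centralizers of elements of order `3` and `5`
-/

set_option autoImplicit false
set_option linter.unusedVariables false
set_option linter.unusedSectionVars false
set_option linter.style.haveILetI false
set_option maxRecDepth 100000
set_option maxHeartbeats 1000000

namespace Cfsg.Agent.Lib.JUG2

open Subgroup Cfsg.Agent.Lib.JOrdA Cfsg.Agent.Lib.JOrdB Cfsg.Agent.Lib.JUG1

theorem inT_comm : ∀ x : CJ, inT x → ∀ y : CJ, inT y → x * y = y * x := by decide +kernel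

theorem zz_two : ∀ q : CJ, q * zz = zz * q → q ^ 2 = 1 → q = 1 ∨ q = cz := by decide +kernel

theorem card_comm_zz : Fintype.card {c : CJ // c * zz = zz * c} = 10 := by decide +kernel

theorem zz_pow : zz ^ 5 = 1 := by decide +kernel

theorem zz_ne : zz ≠ 1 := by decide +kernel

theorem num_m (m : ℕ) (h1 : m % 5 = 3) (h2 : m % 2 = 1) (h3 : 10 * m ∣ 175560) : 3 ∣ m ∨ m = 133 ∨ m = 1463 := by
  have h4 : m ∣ 17556 := by
    have : 10 * m ∣ 10 * 17556 := by simpa using h3
    exact Nat.dvd_of_mul_dvd_mul_left (by norm_num) this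
  have h5 : m ∈ Nat.divisors 17556 := Nat.mem_divisors.mpr ⟨h4, by norm_num⟩
  simp only [Nat.divisors_ofNat] at h5
  simp only [Finset.mem_insert, Finset.mem_singleton] at h5
  rcases h5 with h | h | h | h | h | h | h | h | h | h | h | h | h | h | h | h | h | h | h | h | h | h | h | h | h | h | h | h | h | h | h | h | h | h | h | h | h | h | h | h | h | h | h | h | h | h | h | h <;> subst h <;> omega

section

variable {G : Type*} [Group G] [Finite G] {t : G} (e : centralizer ({t} : Set G) ≃* CJ)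

/-- The Sylow subgroup. -/
def TT : Subgroup G := subT.map (inH e)

theorem card_TT : Nat.card (TT e) = 8 := by rw [TT, card_map, card_subT]

theorem mem_TT_iff {c : CJ} : inH e c ∈ TT e ↔ inT c := by
  constructor
  · rintro ⟨d, hd, h⟩
    have := inH_inj e h
    rw [← this]
    exact hd
  · intro h
    exact ⟨c, h, rfl⟩

variable (hG : Nat.card G = 175560)

/-- The Sylow subgroup, as such. -/
noncomputable def T0 : Sylow 2 G :=
  sylowOf (k := 3) (m := 21945) (TT e) (by rw [card_TT]; norm_num) (by rw [hG]; norm_num) (by norm_num)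

include e hG

theorem two_sub {Q : Subgroup G} (hQ : IsPGroup 2 Q) :
    (∀ q ∈ Q, q ^ 2 = 1) ∧ ∀ x ∈ Q, ∀ y ∈ Q, x * y = y * x := by
  obtain ⟨P, hP⟩ := hQ.exists_le_sylow
  obtain ⟨g, hg⟩ := sylow_conj_mem P (T0 e hG)
  have hT : ∀ x ∈ Q, ∃ c, inT c ∧ g * x * g⁻¹ = inH e c := by
    intro x hx
    have h1 := hg x (hP hx)
    have h2 : (T0 e hG : Subgroup G) = TT e := coe_sylowOf _ _ _ _
    rw [h2] at h1
    obtain ⟨c, hc, h3⟩ := h1
    exact ⟨c, hc, h3.symm⟩
  constructor
  · intro q hq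
    obtain ⟨c, hc, h⟩ := hT q hq
    have h1 : c ^ 2 = 1 := hc.2
    have h2 : g * q ^ 2 * g⁻¹ = 1 := by
      rw [← conj_sq_eq, h, ← map_pow, h1, map_one]
    exact (conj_eq_one_iff g _).mp h2
  · intro x hx y hy
    obtain ⟨c, hc, h⟩ := hT x hx
    obtain ⟨d, hd, h'⟩ := hT y hy
    have h1 : (g * x * g⁻¹) * (g * y * g⁻¹) = (g * y * g⁻¹) * (g * x * g⁻¹) := by
      rw [h, h', ← map_mul, ← map_mul, inT_comm c hc d hd]
    have h2 : g * (x * y) * g⁻¹ = g * (y * x) * g⁻¹ := by
      calc g * (x * y) * g⁻¹ = (g * x * g⁻¹) * (g * y * g⁻¹) := by group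
        _ = (g * y * g⁻¹) * (g * x * g⁻¹) := h1
        _ = _ := by group
    simpa using h2

/-- The centralizer of an element of `2 × A₅`. -/
abbrev Dy (y : CJ) : Subgroup G := centralizer ({inH e y} : Set G)

omit hG in
theorem t_mem_Dy (ht : orderOf t = 2) (y : CJ) : t ∈ Dy e y := by
  rw [mem_centralizer_singleton_iff]
  exact (inH_comm e y).symm

theorem elts_Q (ht : orderOf t = 2) {y : CJ} (hy : ∀ q : CJ, q * y = y * q → q ^ 2 = 1 → q = 1 ∨ q = cz)
    {Q : Subgroup G} (hQ : IsPGroup 2 Q) (htQ : t ∈ Q) (hQD : Q ≤ Dy e y) :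
    ∀ q ∈ Q, q = 1 ∨ q = t := by
  intro q hq
  obtain ⟨h1, h2⟩ := two_sub e hG hQ
  have h3 := h2 q hq t htQ
  have h4 : q ∈ centralizer ({t} : Set G) := by
    rw [mem_centralizer_singleton_iff]
    exact h3
  obtain ⟨c, rfl⟩ := exists_inH e h4
  have h5 := hQD hq
  rw [mem_centralizer_singleton_iff, ← map_mul, ← map_mul] at h5
  have h6 := inH_inj e h5
  have h7 : c ^ 2 = 1 := by
    apply inH_inj e
    rw [map_pow, h1 _ hq, map_one]
  rcases hy c h6 h7 with rfl | rfl
  · left; rw [map_one]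
  · right; exact inH_cz e ht

section D

variable (ht : orderOf t = 2) {y : CJ} (hy : ∀ q : CJ, q * y = y * q → q ^ 2 = 1 → q = 1 ∨ q = cz)

include ht hy

theorem exists_sylow_D : ∃ Q : Sylow 2 ↥(Dy e y), (⟨t, t_mem_Dy e ht y⟩ : Dy e y) ∈ (Q : Subgroup ↥(Dy e y)) ∧ Nat.card Q = 2 := by
  haveI : Fact (Nat.Prime 2) := ⟨Nat.prime_two⟩
  let tD : Dy e y := ⟨t, t_mem_Dy e ht y⟩
  have hord : orderOf tD = 2 := by
    rw [← ht]
    exact Subgroup.orderOf_mk _ _
  have hp : IsPGroup 2 (zpowers tD) := IsPGroup.of_card (n := 1) (by rw [Nat.card_zpowers, hord]; norm_num)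
  obtain ⟨Q, hQ⟩ := hp.exists_le_sylow
  have htQ : tD ∈ (Q : Subgroup ↥(Dy e y)) := hQ (mem_zpowers tD)
  refine ⟨Q, htQ, ?_⟩
  have hE := elts_Q e hG ht hy (Q := (Q : Subgroup ↥(Dy e y)).map (Dy e y).subtype)
    (Q.isPGroup'.map _) ⟨tD, htQ, rfl⟩
    (by
      rintro _ ⟨a, ha, rfl⟩
      exact a.2)
  rw [Nat.card_eq_two_iff]
  have hne : (1 : (Q : Subgroup ↥(Dy e y))) ≠ ⟨tD, htQ⟩ := by
    intro h
    have := congrArg (fun a : (Q : Subgroup ↥(Dy e y)) => (a.1.1 : G)) h
    exact t_ne_one ht this.symm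
  refine ⟨1, ⟨tD, htQ⟩, hne, ?_⟩
  ext ⟨a, ha⟩
  simp only [Set.mem_insert_iff, Set.mem_singleton_iff, Set.mem_univ, iff_true]
  rcases hE a.1 ⟨a, ha, rfl⟩ with h | h
  · left
    exact Subtype.ext (Subtype.ext h)
  · right
    exact Subtype.ext (Subtype.ext h)

theorem card_sylow_D (P : Sylow 2 ↥(Dy e y)) : Nat.card P = 2 := by
  haveI : Fact (Nat.Prime 2) := ⟨Nat.prime_two⟩
  obtain ⟨Q, -, hQ⟩ := exists_sylow_D e hG ht hy
  rw [P.card_eq_multiplicity, ← Q.card_eq_multiplicity]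
  exact hQ

theorem card_D_two : ∃ m, Odd m ∧ Nat.card (Dy e y) = 2 * m := by
  haveI : Fact (Nat.Prime 2) := ⟨Nat.prime_two⟩
  obtain ⟨Q, -, hQ⟩ := exists_sylow_D e hG ht hy
  have h1 := Q.card_eq_multiplicity
  rw [hQ] at h1
  have hn : Nat.card (Dy e y) ≠ 0 := Nat.card_pos.ne'
  have h2 := Nat.ordProj_mul_ordCompl_eq_self (Nat.card (Dy e y)) 2
  refine ⟨Nat.card (Dy e y) / 2 ^ (Nat.card (Dy e y)).factorization 2, ?_, ?_⟩
  · rw [← Nat.not_even_iff_odd, even_iff_two_dvd]
    exact Nat.not_dvd_ordCompl Nat.prime_two hn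
  · exact h2.symm.trans (by rw [← h1])

theorem inv_conj_D {u : G} (huD : u ∈ Dy e y) (hu2 : u ^ 2 = 1) (hu1 : u ≠ 1) :
    ∃ d ∈ Dy e y, d * t * d⁻¹ = u := by
  haveI : Fact (Nat.Prime 2) := ⟨Nat.prime_two⟩
  obtain ⟨Q, htQ, hQ⟩ := exists_sylow_D e hG ht hy
  let uD : Dy e y := ⟨u, huD⟩
  have hord : orderOf uD = 2 := by
    have : orderOf u = 2 := orderOf_eq_prime hu2 hu1
    rw [← this]
    exact Subgroup.orderOf_mk _ _
  have hp : IsPGroup 2 (zpowers uD) := IsPGroup.of_card (n := 1) (by rw [Nat.card_zpowers, hord]; norm_num)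
  obtain ⟨Q', hQ'⟩ := hp.exists_le_sylow
  have huQ : uD ∈ (Q' : Subgroup ↥(Dy e y)) := hQ' (mem_zpowers uD)
  obtain ⟨d, hd⟩ := sylow_conj_mem Q Q'
  have h1 := hd _ htQ
  refine ⟨d.1, d.2, ?_⟩
  have hc := card_sylow_D e hG ht hy Q'
  obtain ⟨a, -, ha⟩ := (Nat.card_eq_two_iff' (1 : (Q' : Subgroup ↥(Dy e y)))).mp hc
  have h2 : (⟨_, h1⟩ : (Q' : Subgroup ↥(Dy e y))) = a := by
    apply ha
    intro h
    have h3 := congrArg (fun a : (Q' : Subgroup ↥(Dy e y)) => (a.1.1 : G)) h
    simp only [Subgroup.coe_mul, OneMemClass.coe_one, Subgroup.coe_inv] at h3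
    exact t_ne_one ht ((conj_eq_one_iff d.1 t).mp h3)
  have h4 : (⟨uD, huQ⟩ : (Q' : Subgroup ↥(Dy e y))) = a := by
    apply ha
    intro h
    have h3 := congrArg (fun a : (Q' : Subgroup ↥(Dy e y)) => (a.1.1 : G)) h
    exact hu1 h3
  have h5 := congrArg (fun a : (Q' : Subgroup ↥(Dy e y)) => (a.1.1 : G)) (h2.trans h4.symm)
  simpa using h5

omit hG ht hy in
theorem card_inf_centralizer (N : Subgroup G) :
    Nat.card ↥(N ⊓ centralizer ({t} : Set G)) = Nat.card {c : CJ // inH e c ∈ N} := by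
  refine Nat.card_congr ⟨fun g => ⟨e ⟨g.1, g.2.2⟩, ?_⟩, fun c => ⟨inH e c.1, c.2, inH_mem e c.1⟩, ?_, ?_⟩
  · have : inH e (e ⟨g.1, g.2.2⟩) = g.1 := by simp [inH]
    rw [this]
    exact g.2.1
  · rintro ⟨g, hg⟩
    apply Subtype.ext
    show inH e (e ⟨g, hg.2⟩) = g
    simp [inH]
  · rintro ⟨c, hc⟩
    apply Subtype.ext
    show e ⟨inH e c, _⟩ = c
    simp [inH]

theorem card_D_eq : Nat.card (Dy e y) =
    Nat.card {u : Om G // inH e y * u.1 * (inH e y)⁻¹ = u.1} * Nat.card {c : CJ // c * y = y * c} := by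
  have h1 := card_orbit (Dy e y) (t_mem_Dy e ht y) {u | u ^ 2 = 1 ∧ u ≠ 1 ∧ u ∈ Dy e y} (by
    intro u
    constructor
    · rintro ⟨h1, h2, h3⟩
      exact inv_conj_D e hG ht hy h3 h1 h2
    · rintro ⟨n, hn, rfl⟩
      refine ⟨?_, ?_, ?_⟩
      · rw [conj_sq_eq, t_sq ht]; group
      · intro h
        exact t_ne_one ht ((conj_eq_one_iff n t).mp h)
      · exact (Dy e y).mul_mem ((Dy e y).mul_mem hn (t_mem_Dy e ht y)) ((Dy e y).inv_mem hn))
  rw [h1]
  congr 1
  · refine Nat.card_congr ⟨fun u => ⟨⟨u.1, u.2.1, u.2.2.1⟩, ?_⟩, fun u => ⟨u.1.1, u.1.2.1, u.1.2.2, ?_⟩, ?_, ?_⟩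
    · have h2 := u.2.2.2
      rw [mem_centralizer_singleton_iff] at h2
      show inH e y * u.1 * (inH e y)⁻¹ = u.1
      rw [← h2]
      group
    · rw [mem_centralizer_singleton_iff]
      have h2 := u.2
      calc u.1.1 * inH e y = (inH e y * u.1.1 * (inH e y)⁻¹) * inH e y := by rw [h2]
        _ = _ := by group
    · rintro ⟨u, hu⟩
      rfl
    · rintro ⟨⟨u, hu⟩, h⟩
      rfl
  · rw [card_inf_centralizer e (Dy e y)]
    refine Nat.card_congr (Equiv.subtypeEquivRight fun c => ?_)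
    rw [mem_centralizer_singleton_iff, ← map_mul, ← map_mul, (inH_inj e).eq_iff]

end D

end

section Simple

variable {G : Type*} [Group G] [Finite G] [IsSimpleGroup G] {t : G} (e : centralizer ({t} : Set G) ≃* CJ)
  (ht : orderOf t = 2) (hG : Nat.card G = 175560)

include hG

theorem no1330 (D : Subgroup G) (hD : Nat.card D = 1330) : False := by
  haveI : Fact (Nat.Prime 19) := ⟨by norm_num⟩
  have hf : (Nat.card D).factorization 19 = 1 := by
    rw [hD, show 1330 = 19 ^ 1 * 70 by norm_num]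
    exact fact_of (by norm_num) (by norm_num)
  let R : Sylow 19 D := default
  have hR : Nat.card R = 19 := by
    rw [R.card_eq_multiplicity, hf]; norm_num
  have hidx : (R : Subgroup D).index = 70 := by
    have := Subgroup.card_mul_index (R : Subgroup D)
    rw [hR, hD] at this
    omega
  have h1 : Nat.card (Sylow 19 D) ∣ 70 := hidx ▸ R.card_dvd_index
  have h2 : Nat.card (Sylow 19 D) % 19 = 1 := card_sylow_modEq_one 19 D
  have h3 : Nat.card (Sylow 19 D) = 1 := by
    have h4 : Nat.card (Sylow 19 D) ≤ 70 := Nat.le_of_dvd (by norm_num) h1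
    have h5 : ∀ n : ℕ, n ≤ 70 → n ∣ 70 → n % 19 = 1 → n = 1 := by decide
    exact h5 _ h4 h1 h2
  haveI : Subsingleton (Sylow 19 D) := (Nat.card_eq_one_iff_unique.mp h3).1
  have hn : (R : Subgroup D).Normal := Sylow.normal_of_subsingleton R
  -- the image in the group
  let R0 : Subgroup G := (R : Subgroup D).map D.subtype
  have hR0 : Nat.card R0 = 19 := by
    rw [Subgroup.card_map_of_injective D.subtype_injective, hR]
  let S0 : Sylow 19 G := sylowOf (k := 1) (m := 9240) R0 (by rw [hR0]; norm_num) (by rw [hG]; norm_num) (by norm_num)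
  have hS0 : (S0 : Subgroup G) = R0 := coe_sylowOf _ _ _ _
  have hle : D ≤ normalizer (S0 : Subgroup G) := by
    intro d hd
    rw [Subgroup.mem_normalizer_iff, hS0]
    have key : ∀ d : D, ∀ r ∈ R0, (d : G) * r * (d : G)⁻¹ ∈ R0 := by
      rintro d _ ⟨a, ha, rfl⟩
      refine ⟨d * a * d⁻¹, hn.conj_mem a ha d, ?_⟩
      simp
    intro r
    constructor
    · intro hr
      exact key ⟨d, hd⟩ r hr
    · intro hr
      have := key ⟨d, hd⟩⁻¹ _ hr
      simpa [mul_assoc] using this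
  have hidxD : D.index = 132 := by
    have := Subgroup.card_mul_index D
    rw [hD, hG] at this
    omega
  have h6 : Nat.card (Sylow 19 G) ∣ 132 := by
    rw [Sylow.card_eq_index_normalizer S0, ← hidxD]
    exact Subgroup.index_dvd_of_le hle
  have h7 : Nat.card (Sylow 19 G) % 19 = 1 := card_sylow_modEq_one 19 G
  have h8 : Nat.card (Sylow 19 G) = 1 := by
    have h4 : Nat.card (Sylow 19 G) ≤ 132 := Nat.le_of_dvd (by norm_num) h6
    have h5 : ∀ n : ℕ, n ≤ 132 → n ∣ 132 → n % 19 = 1 → n = 1 := by decide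
    exact h5 _ h4 h6 h7
  haveI : Subsingleton (Sylow 19 G) := (Nat.card_eq_one_iff_unique.mp h8).1
  have hn2 : (S0 : Subgroup G).Normal := Sylow.normal_of_subsingleton S0
  rcases hn2.eq_bot_or_eq_top with h | h
  · rw [hS0] at h
    rw [h] at hR0
    simp at hR0
  · rw [hS0] at h
    rw [h, Nat.card_congr Subgroup.topEquiv.toEquiv, hG] at hR0
    omega

omit [IsSimpleGroup G] in
theorem fix_mod (z : G) (p : ℕ) [hp : Fact p.Prime] (hz : z ^ p = 1) :
    Nat.card (Om G) ≡ Nat.card {u : Om G // z * u.1 * z⁻¹ = u.1} [MOD p] := by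
  classical
  letI := Fintype.ofFinite (Om G)
  let f : Function.End (Om G) := fun u => ⟨z * u.1 * z⁻¹, by rw [conj_sq_eq, u.2.1]; group,
    fun h => u.2.2 ((conj_eq_one_iff z u.1).mp h)⟩
  have hf : ∀ n : ℕ, ∀ u, ((f ^ n) u).1 = z ^ n * u.1 * (z ^ n)⁻¹ := by
    intro n
    induction n with
    | zero =>
      intro u
      rw [pow_zero]
      show u.1 = _
      simp
    | succ n ih =>
      intro u
      rw [pow_succ']
      show (f ((f ^ n) u)).1 = _
      show z * ((f ^ n) u).1 * z⁻¹ = _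
      rw [ih u, pow_succ']
      group
  have hF : f ^ p ^ 1 = 1 := by
    funext u
    apply Subtype.ext
    show ((f ^ p ^ 1) u).1 = u.1
    rw [pow_one, hf p u, hz]
    simp
  have h := Equiv.Perm.card_fixedPoints_modEq (f := f) hF
  rw [Nat.card_eq_fintype_card]
  have h2 : Nat.card {u : Om G // z * u.1 * z⁻¹ = u.1} = Fintype.card (Function.fixedPoints f) := by
    rw [Nat.card_eq_fintype_card]
    apply Fintype.card_congr
    refine Equiv.subtypeEquivRight (fun u => ?_)
    show _ ↔ f u = u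
    constructor
    · intro h
      exact Subtype.ext h
    · intro h
      exact congrArg Subtype.val h
  rw [h2]
  exact h

include e ht

theorem card_Om : Nat.card (Om G) = 1463 := by
  have h := card_eq_inv e ht (perfect e) (k := 21945) (by decide) (by rw [hG])
  rw [hG] at h
  omega

theorem three_dvd : 3 ∣ Nat.card (Dy e zz) := by
  have h1 := card_D_eq e hG ht zz_two
  set m := Nat.card {u : Om G // inH e zz * u.1 * (inH e zz)⁻¹ = u.1} with hm
  have h2 : Nat.card {c : CJ // c * zz = zz * c} = 10 := by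
    rw [Nat.card_eq_fintype_card, card_comm_zz]
  rw [h2] at h1
  haveI : Fact (Nat.Prime 5) := ⟨by norm_num⟩
  have h3 := fix_mod hG (inH e zz) 5 (by rw [← map_pow, zz_pow, map_one])
  rw [card_Om e ht hG, ← hm] at h3
  have h4 : m % 5 = 3 := by
    have : 1463 % 5 = m % 5 := h3
    omega
  obtain ⟨m', hm', h5⟩ := card_D_two e hG ht zz_two
  have h6 : m % 2 = 1 := by
    rw [Nat.odd_iff] at hm'
    omega
  have h7 : 10 * m ∣ 175560 := by
    rw [← hG, mul_comm, ← h1]
    exact Subgroup.card_subgroup_dvd_card _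
  rcases num_m m h4 h6 h7 with h | h | h
  · rw [h1]
    exact Dvd.dvd.mul_right h 10
  · exfalso
    exact no1330 hG (Dy e zz) (by rw [h1, h])
  · exfalso
    have hidx : (Dy e zz).index = 12 := by
      have := Subgroup.card_mul_index (Dy e zz)
      rw [h1, h, hG] at this
      omega
    have hne : Dy e zz ≠ ⊤ := by
      intro hh
      rw [hh, Subgroup.index_top] at hidx
      omega
    have h9 := Cfsg.Agent.Lib.BrauerFowler2.card_dvd_factorial_index (Dy e zz) hne
    rw [hidx, hG] at h9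
    revert h9
    decide +kernel

theorem exists_five (x : CJ) (hx3 : x ^ 3 = 1) (hx1 : x ≠ 1) : 5 ∣ Nat.card (Dy e x) := by
  haveI : Fact (Nat.Prime 3) := ⟨by norm_num⟩
  haveI : Fact (Nat.Prime 5) := ⟨by norm_num⟩
  obtain ⟨y', hy'⟩ := exists_prime_orderOf_dvd_card' 3 (three_dvd e ht hG)
  have hy3 : orderOf (y' : G) = 3 := by rw [← hy']; exact Subgroup.orderOf_coe y'
  have hx0 : orderOf (inH e x) = 3 := by
    apply orderOf_eq_prime
    · rw [← map_pow, hx3, map_one]
    · rwa [Ne, inH_eq_one_iff]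
  let A : Subgroup G := zpowers (y' : G)
  let B : Subgroup G := zpowers (inH e x)
  have hA : Nat.card A = 3 := by rw [Nat.card_zpowers, hy3]
  have hB : Nat.card B = 3 := by rw [Nat.card_zpowers, hx0]
  let A0 : Sylow 3 G := sylowOf (k := 1) (m := 58520) A (by rw [hA]; norm_num) (by rw [hG]; norm_num) (by norm_num)
  let B0 : Sylow 3 G := sylowOf (k := 1) (m := 58520) B (by rw [hB]; norm_num) (by rw [hG]; norm_num) (by norm_num)
  have hA0 : (A0 : Subgroup G) = A := coe_sylowOf _ _ _ _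
  have hB0 : (B0 : Subgroup G) = B := coe_sylowOf _ _ _ _
  obtain ⟨g, hg⟩ := sylow_conj_mem A0 B0
  have h1 := hg (y' : G) (by rw [hA0]; exact mem_zpowers _)
  rw [hB0] at h1
  set y1 := g * (y' : G) * g⁻¹ with hy1
  have hy1o : orderOf y1 = 3 := by
    rw [hy1, ← hy3]
    have : y1 = MulAut.conj g (y' : G) := by simp [hy1]
    rw [hy1] at this
    rw [this]
    exact MulEquiv.orderOf_eq _ _
  have hle : zpowers y1 = B := by
    apply Subgroup.eq_of_le_of_card_ge
    · rwa [Subgroup.zpowers_le]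
    · rw [hB, Nat.card_zpowers, hy1o]
  have hxy : inH e x ∈ zpowers y1 := by
    rw [hle]
    exact mem_zpowers _
  let z1 := g * inH e zz * g⁻¹
  have hz1y : y1 ∈ centralizer ({z1} : Set G) := by
    rw [mem_centralizer_singleton_iff]
    have h2 : (y' : G) * inH e zz = inH e zz * (y' : G) := by
      have := y'.2
      rw [mem_centralizer_singleton_iff] at this
      exact this
    calc y1 * z1 = g * ((y' : G) * inH e zz) * g⁻¹ := by
          simp only [hy1, z1]; group
      _ = g * (inH e zz * (y' : G)) * g⁻¹ := by rw [h2]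
      _ = z1 * y1 := by
          simp only [hy1, z1]; group
  have hxz : inH e x ∈ centralizer ({z1} : Set G) := by
    have : zpowers y1 ≤ centralizer ({z1} : Set G) := by
      rw [Subgroup.zpowers_le]
      exact hz1y
    exact this hxy
  have hz1 : z1 ∈ Dy e x := by
    rw [mem_centralizer_singleton_iff] at hxz ⊢
    exact hxz.symm
  have hz1o : orderOf z1 = 5 := by
    apply orderOf_eq_prime
    · simp only [z1]
      have : (g * inH e zz * g⁻¹) ^ 5 = g * (inH e zz) ^ 5 * g⁻¹ := by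
        simp [pow_succ, mul_assoc]
      rw [this, ← map_pow, zz_pow, map_one]
      group
    · intro h
      have h3 := (conj_eq_one_iff g _).mp h
      rw [inH_eq_one_iff] at h3
      exact zz_ne h3
  have h5 : orderOf (⟨z1, hz1⟩ : Dy e x) = 5 := by
    rw [← hz1o]
    exact Subgroup.orderOf_mk _ _
  rw [← h5]
  exact orderOf_dvd_natCard _

end Simple

end Cfsg.Agent.Lib.JUG2
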