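import Mathlib
import Cfsg.Agent.Lib.JUG2

/-!
# Uniqueness of the first Janko group: a four-group normalizes a subgroup of order five
-/

set_option autoImplicit false
set_option linter.unusedVariables false
set_option linter.unusedSectionVars false
set_option linter.style.haveILetI false
set_option maxRecDepth 100000

namespace Cfsg.Agent.Lib.JUG3

open Subgroup Cfsg.Agent.Lib.JOrdA Cfsg.Agent.Lib.JOrdB Cfsg.Agent.Lib.JUG1 Cfsg.Agent.Lib.JUG2

section

variable {G : Type*} [Group G] [Finite G]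

/-- Subgroups of order five of a given subgroup. -/
abbrev SS (D : Subgroup G) := {P : Subgroup G // P ≤ D ∧ Nat.card P = 5}

/-- Conjugation on subgroups of order five. -/
def cS {D : Subgroup G} (g : G) (hg : ∀ d ∈ D, g * d * g⁻¹ ∈ D) (P : SS D) : SS D :=
  ⟨P.1.map (MulAut.conj g).toMonoidHom, by
    rintro _ ⟨p, hp, rfl⟩
    exact hg p (P.2.1 hp), by
    rw [Subgroup.card_map_of_injective (MulAut.conj g).injective]
    exact P.2.2⟩

theorem cS_cS {D : Subgroup G} (g : G) (hg : ∀ d ∈ D, g * d * g⁻¹ ∈ D) (hg2 : g ^ 2 = 1) (P : SS D) :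
    cS g hg (cS g hg P) = P := by
  apply Subtype.ext
  ext x
  show x ∈ (P.1.map (MulAut.conj g).toMonoidHom).map (MulAut.conj g).toMonoidHom ↔ _
  rw [mem_map_conj, mem_map_conj]
  have hgi : g⁻¹ = g := by
    rw [eq_comm, ← mul_eq_one_iff_eq_inv, ← pow_two, hg2]
  have : g⁻¹ * (g⁻¹ * x * g) * g = x := by
    rw [hgi]
    have hgg : g * g = 1 := by rw [← pow_two, hg2]
    calc g * (g * x * g) * g = (g * g) * x * (g * g) := by group
      _ = x := by rw [hgg]; group
  rw [this]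

theorem cS_comm {D : Subgroup G} (g h : G) (hg : ∀ d ∈ D, g * d * g⁻¹ ∈ D) (hh : ∀ d ∈ D, h * d * h⁻¹ ∈ D)
    (hc : g * h = h * g) (P : SS D) : cS g hg (cS h hh P) = cS h hh (cS g hg P) := by
  apply Subtype.ext
  ext x
  show x ∈ (P.1.map (MulAut.conj h).toMonoidHom).map (MulAut.conj g).toMonoidHom ↔
    x ∈ (P.1.map (MulAut.conj g).toMonoidHom).map (MulAut.conj h).toMonoidHom
  rw [mem_map_conj, mem_map_conj, mem_map_conj, mem_map_conj]
  have : h⁻¹ * (g⁻¹ * x * g) * h = g⁻¹ * (h⁻¹ * x * h) * g := by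
    have h1 : g⁻¹ * h⁻¹ = h⁻¹ * g⁻¹ := by
      rw [← mul_inv_rev, ← mul_inv_rev, hc]
    calc h⁻¹ * (g⁻¹ * x * g) * h = (h⁻¹ * g⁻¹) * x * (g * h) := by group
      _ = (g⁻¹ * h⁻¹) * x * (h * g) := by rw [h1, hc]
      _ = _ := by group
  rw [this]

/-- The number of subgroups of order five is odd in a group of twice odd order. -/
theorem odd_SS {D : Subgroup G} {m : ℕ} (hm : Odd m) (hD : Nat.card D = 2 * m) (h5 : 5 ∣ m) (h25 : ¬ 25 ∣ m)
    (hK : ∃ K : Subgroup D, K.index = 2) : Odd (Nat.card (SS D)) := by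
  haveI : Fact (Nat.Prime 5) := ⟨by norm_num⟩
  obtain ⟨K, hK⟩ := hK
  let K0 : Subgroup G := K.map D.subtype
  have hK0 : Nat.card K0 = m := by
    rw [Subgroup.card_map_of_injective D.subtype_injective]
    have := Subgroup.card_mul_index K
    rw [hK, hD] at this
    omega
  obtain ⟨m', rfl⟩ := h5
  have hm' : ¬ 5 ∣ m' := by
    rintro ⟨a, rfl⟩
    exact h25 ⟨a, by ring⟩
  have hf : (Nat.card K0).factorization 5 = 1 := by
    rw [hK0, show 5 * m' = 5 ^ 1 * m' by ring]
    exact fact_of (by norm_num) hm'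
  have hcard : ∀ Q : Sylow 5 K0, Nat.card Q = 5 := by
    intro Q
    rw [Q.card_eq_multiplicity, hf]; norm_num
  have hK0D : K0 ≤ D := by
    rintro _ ⟨a, -, rfl⟩
    exact a.2
  let φ : Sylow 5 K0 → SS D := fun Q => ⟨(Q : Subgroup K0).map K0.subtype, by
    rintro _ ⟨a, -, rfl⟩
    exact hK0D a.2, by
    rw [Subgroup.card_map_of_injective K0.subtype_injective]
    exact hcard Q⟩
  have hφ : Function.Bijective φ := by
    constructor
    · intro Q Q' h
      have h1 := congrArg Subtype.val h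
      exact Sylow.ext (Subgroup.map_injective K0.subtype_injective h1)
    · rintro ⟨P, hPD, hP5⟩
      have hPK : P ≤ K0 := by
        intro p hp
        have hp5 : p ^ 5 = 1 := by
          have := pow_card_eq_one' (x := (⟨p, hp⟩ : P))
          rw [hP5] at this
          have h2 := congrArg Subtype.val this
          simpa using h2
        have hd : p ∈ D := hPD hp
        have h2 := Subgroup.sq_mem_of_index_two hK ((⟨p, hd⟩ : D) ^ 3)
        refine ⟨_, h2, ?_⟩
        show (((⟨p, hd⟩ : D) ^ 3) ^ 2 : D).1 = p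
        simp only [Subgroup.coe_pow]
        calc (p ^ 3) ^ 2 = p ^ 5 * p := by
              rw [← pow_mul, ← pow_succ]
          _ = p := by rw [hp5, one_mul]
      have hc : Nat.card (P.subgroupOf K0) = 5 ^ (Nat.card K0).factorization 5 := by
        rw [hf, pow_one, ← hP5]
        exact Nat.card_congr (Subgroup.subgroupOfEquivOfLe hPK).toEquiv
      refine ⟨Sylow.ofCard (P.subgroupOf K0) hc, ?_⟩
      apply Subtype.ext
      show ((Sylow.ofCard (P.subgroupOf K0) hc : Sylow 5 K0) : Subgroup K0).map K0.subtype = P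
      rw [Sylow.coe_ofCard, Subgroup.map_subgroupOf_eq_of_le hPK]
  rw [← Nat.card_congr (Equiv.ofBijective φ hφ)]
  have h1 : Nat.card (Sylow 5 K0) ∣ Nat.card K0 := by
    let Q : Sylow 5 K0 := default
    exact Q.card_dvd_index.trans (Subgroup.index_dvd_card _)
  rw [hK0] at h1
  exact hm.of_dvd_nat h1

end

section Simple

variable {G : Type*} [Group G] [Finite G] [IsSimpleGroup G] {t : G} (e : centralizer ({t} : Set G) ≃* CJ)
  (ht : orderOf t = 2) (hG : Nat.card G = 175560)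

include ht hG

/-- The main consequence of the counting. -/
theorem exists_z5 (x : CJ) (hx3 : x ^ 3 = 1) (hx1 : x ≠ 1)
    (hx2 : ∀ q : CJ, q * x = x * q → q ^ 2 = 1 → q = 1 ∨ q = cz)
    (hx5 : ∀ c : CJ, c ^ 5 = 1 → c * x = x * c → c = 1)
    (w : G) (hw2 : w ^ 2 = 1) (hwt : w * t = t * w) (hwx : w * inH e x * w⁻¹ = (inH e x)⁻¹) :
    ∃ z' : G, z' ^ 5 = 1 ∧ z' ≠ 1 ∧ z' * inH e x = inH e x * z' ∧ t * z' * t⁻¹ = z'⁻¹ ∧
      (w * z' * w⁻¹ = z' ∨ (t * w) * z' * (t * w)⁻¹ = z') := by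
  haveI : Fact (Nat.Prime 2) := ⟨Nat.prime_two⟩
  haveI : Fact (Nat.Prime 5) := ⟨by norm_num⟩
  obtain ⟨m, hm, hD⟩ := card_D_two e hG ht hx2
  have h5 : 5 ∣ m := by
    have := exists_five e ht hG x hx3 hx1
    rw [hD] at this
    exact (Nat.Coprime.dvd_of_dvd_mul_left (by norm_num) this)
  have h25 : ¬ 25 ∣ m := by
    intro h
    have h1 : 2 * m ∣ 175560 := by
      rw [← hD, ← hG]
      exact Subgroup.card_subgroup_dvd_card _
    have h2 : 25 ∣ 175560 := (h.trans (Dvd.intro_left 2 rfl)).trans h1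
    omega
  have hK : ∃ K : Subgroup (Dy e x), K.index = 2 := by
    apply Cfsg.Agent.Lib.InvolutionIndexTwo.exists_index_two_of_isCyclic_sylow (T := default)
    · rw [hD]; exact even_two_mul m
    · exact isCyclic_of_prime_card (p := 2) (card_sylow_D e hG ht hx2 default)
  have hodd := odd_SS hm hD h5 h25 hK
  have htD : ∀ d ∈ Dy e x, t * d * t⁻¹ ∈ Dy e x := by
    intro d hd
    exact (Dy e x).mul_mem ((Dy e x).mul_mem (t_mem_Dy e ht x) hd) ((Dy e x).inv_mem (t_mem_Dy e ht x))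
  have hwD : ∀ d ∈ Dy e x, w * d * w⁻¹ ∈ Dy e x := by
    intro d hd
    rw [mem_centralizer_singleton_iff] at hd ⊢
    have h1 : (w * d * w⁻¹) * (inH e x)⁻¹ = (inH e x)⁻¹ * (w * d * w⁻¹) := by
      rw [← hwx]
      calc w * d * w⁻¹ * (w * inH e x * w⁻¹) = w * (d * inH e x) * w⁻¹ := by group
        _ = w * (inH e x * d) * w⁻¹ := by rw [hd]
        _ = _ := by group
    calc w * d * w⁻¹ * inH e x = inH e x * ((w * d * w⁻¹) * (inH e x)⁻¹) * inH e x := by
          rw [h1]; group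
      _ = inH e x * (w * d * w⁻¹) := by
          group
  have ht2 := t_sq ht
  obtain ⟨P, hPt, hPw⟩ := exists_common_fix hodd (cS t htD) (cS w hwD) (cS_cS t htD ht2) (cS_cS w hwD hw2)
    (cS_comm t w htD hwD hwt.symm)
  obtain ⟨P, hPD, hP5⟩ := P
  have hnorm : ∀ g (hg : ∀ d ∈ Dy e x, g * d * g⁻¹ ∈ Dy e x),
      cS g hg ⟨P, hPD, hP5⟩ = ⟨P, hPD, hP5⟩ → ∀ p ∈ P, g * p * g⁻¹ ∈ P := by
    intro g hg h p hp
    have h1 := congrArg Subtype.val h
    have h2 : P.map (MulAut.conj g).toMonoidHom = P := h1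
    rw [← h2]
    exact ⟨p, hp, rfl⟩
  haveI : Nontrivial P := Finite.one_lt_card_iff_nontrivial.mp (by omega)
  obtain ⟨⟨z', hz'⟩, hne⟩ := exists_ne (1 : P)
  have hz1 : z' ≠ 1 := fun h => hne (Subtype.ext h)
  have hz5 : z' ^ 5 = 1 := by
    have := pow_card_eq_one' (x := (⟨z', hz'⟩ : P))
    rw [hP5] at this
    have h2 := congrArg Subtype.val this
    simpa using h2
  have hzo : orderOf z' = 5 := orderOf_eq_prime hz5 hz1
  have hPz : P = zpowers z' := by
    symm
    apply Subgroup.eq_of_le_of_card_ge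
    · rwa [Subgroup.zpowers_le]
    · rw [hP5, Nat.card_zpowers, hzo]
  have hzD : z' * inH e x = inH e x * z' := by
    have := hPD hz'
    rw [mem_centralizer_singleton_iff] at this
    exact this
  have hact : ∀ g (hg : ∀ d ∈ Dy e x, g * d * g⁻¹ ∈ Dy e x), g ^ 2 = 1 →
      cS g hg ⟨P, hPD, hP5⟩ = ⟨P, hPD, hP5⟩ → g * z' * g⁻¹ = z' ∨ g * z' * g⁻¹ = z'⁻¹ := by
    intro g hg hg2 h
    apply inv_or_fix hzo hg2
    rw [← hPz]
    exact hnorm g hg h z' hz'
  have htinv : t * z' * t⁻¹ = z'⁻¹ := by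
    rcases hact t htD ht2 hPt with h | h
    · exfalso
      have h1 : z' ∈ centralizer ({t} : Set G) := by
        rw [mem_centralizer_singleton_iff]
        calc z' * t = (t * z' * t⁻¹) * t := by rw [h]
          _ = t * z' := by group
      obtain ⟨c, rfl⟩ := exists_inH e h1
      have h2 : c ^ 5 = 1 := by
        apply inH_inj e
        rw [map_pow, hz5, map_one]
      have h3 : c * x = x * c := by
        apply inH_inj e
        rw [map_mul, map_mul, hzD]
      rw [hx5 c h2 h3, map_one] at hz1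
      exact hz1 rfl
    · exact h
  refine ⟨z', hz5, hz1, hzD, htinv, ?_⟩
  rcases hact w hwD hw2 hPw with h | h
  · exact Or.inl h
  · right
    calc (t * w) * z' * (t * w)⁻¹ = t * (w * z' * w⁻¹) * t⁻¹ := by group
      _ = t * z'⁻¹ * t⁻¹ := by rw [h]
      _ = (t * z' * t⁻¹)⁻¹ := by group
      _ = z' := by rw [htinv, inv_inv]

end Simple

end Cfsg.Agent.Lib.JUG3
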