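import Mathlib
import Cfsg.Agent.Lib.JUG2

/-!
# Uniqueness of the first Janko group: the normalizer of the Sylow `2`-subgroup
-/

set_option autoImplicit false
set_option linter.unusedVariables false
set_option linter.unusedSectionVars false
set_option linter.style.haveILetI false
set_option maxRecDepth 100000

namespace Cfsg.Agent.Lib.JUG4

open Subgroup Cfsg.Agent.Lib.JOrdA Cfsg.Agent.Lib.JOrdB Cfsg.Agent.Lib.JUG1 Cfsg.Agent.Lib.JUG2

theorem norm_A : ∀ c : CJ, inA c → ∀ y : CJ, inT y → inT (c * y * c⁻¹) := by decide +kernel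
theorem norm_A' : ∀ c : CJ, (∀ y : CJ, inT y → inT (c * y * c⁻¹)) → inA c := by decide +kernel
theorem no_seven : ∀ c : CJ, c ^ 7 = 1 → c = 1 := by decide +kernel
theorem inT_cz : inT cz := by decide +kernel
theorem inA_xx : inA xx := by decide +kernel
theorem xx_cube : xx ^ 3 = 1 := by decide +kernel
theorem xx_vv : inV vv ∧ vv ≠ 1 ∧ vv ≠ cz ∧ xx * vv ≠ vv * xx := by decide +kernel
theorem inT_vv : inT vv := by decide +kernel
theorem inV_inT : ∀ y : CJ, inV y → inT y := by decide +kernel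
theorem cz_not_inV : ¬ inV cz := by decide +kernel
theorem xx_inv_eq : ∀ c : CJ, (c = xx ∨ c = xx⁻¹) → ∀ y : CJ, inV y → inV (c⁻¹ * y * c) := by decide +kernel
theorem line_V : ∀ c : CJ, (c = xx ∨ c = xx⁻¹) → ∀ y : CJ, inV y → y ≠ 1 →
    y * (c⁻¹ * y * c) = c⁻¹ * (c⁻¹ * y * c) * c := by decide +kernel

section Gen

variable {N : Type*} [Group N] [Finite N]

theorem exists_sylow7_fix (hN : Nat.card N = 168) (m : N) (hm : m ^ 3 = 1) :
    ∃ s : N, s ^ 7 = 1 ∧ s ≠ 1 ∧ ∃ j : ℕ, m⁻¹ * s * m = s ^ j := by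
  classical
  haveI : Fact (Nat.Prime 7) := ⟨by norm_num⟩
  haveI : Fact (Nat.Prime 3) := ⟨by norm_num⟩
  have hf : (Nat.card N).factorization 7 = 1 := by
    rw [hN, show 168 = 7 ^ 1 * 24 by norm_num]
    exact fact_of (by norm_num) (by norm_num)
  have hcard : ∀ P : Sylow 7 N, Nat.card P = 7 := by
    intro P
    rw [P.card_eq_multiplicity, hf]; norm_num
  have hidx : ((default : Sylow 7 N) : Subgroup N).index = 24 := by
    have := Subgroup.card_mul_index ((default : Sylow 7 N) : Subgroup N)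
    rw [hcard, hN] at this
    omega
  have h1 : Nat.card (Sylow 7 N) ∣ 24 := hidx ▸ (default : Sylow 7 N).card_dvd_index
  have h2 : Nat.card (Sylow 7 N) % 7 = 1 := card_sylow_modEq_one 7 N
  have h3 : Nat.card (Sylow 7 N) % 3 ≠ 0 := by
    have h4 : Nat.card (Sylow 7 N) ≤ 24 := Nat.le_of_dvd (by norm_num) h1
    have h5 : ∀ n : ℕ, n ≤ 24 → n ∣ 24 → n % 7 = 1 → n % 3 ≠ 0 := by decide
    exact h5 _ h4 h1 h2
  -- the fixed point
  letI := Fintype.ofFinite (Sylow 7 N)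
  let f : Function.End (Sylow 7 N) := fun P => m⁻¹ • P
  have hfn : ∀ n : ℕ, ∀ P, (f ^ n) P = (m⁻¹) ^ n • P := by
    intro n
    induction n with
    | zero => intro P; simp; rfl
    | succ n ih =>
      intro P
      rw [pow_succ']
      show f ((f ^ n) P) = _
      rw [ih P, pow_succ', mul_smul]
  have hF : f ^ 3 ^ 1 = 1 := by
    funext P
    rw [pow_one, hfn 3 P, inv_pow, hm]
    simp
    rfl
  have hmod := Equiv.Perm.card_fixedPoints_modEq (f := f) hF
  have hne : Fintype.card (Function.fixedPoints f) ≠ 0 := by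
    intro h0
    rw [h0] at hmod
    apply h3
    rw [Nat.card_eq_fintype_card]
    exact hmod
  obtain ⟨⟨P, hP⟩⟩ := Fintype.card_pos_iff.mp (Nat.pos_of_ne_zero hne)
  have hP' : m⁻¹ • P = P := hP
  have hc := hcard P
  haveI : Nontrivial (P : Subgroup N) := Finite.one_lt_card_iff_nontrivial.mp (by omega)
  obtain ⟨⟨s, hs⟩, hne2⟩ := exists_ne (1 : (P : Subgroup N))
  have hs1 : s ≠ 1 := fun h => hne2 (Subtype.ext h)
  have hs7 : s ^ 7 = 1 := by
    have := pow_card_eq_one' (x := (⟨s, hs⟩ : (P : Subgroup N)))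
    rw [hc] at this
    have h5 := congrArg Subtype.val this
    simpa using h5
  have hso : orderOf s = 7 := orderOf_eq_prime hs7 hs1
  have hPz : (P : Subgroup N) = zpowers s := by
    symm
    apply Subgroup.eq_of_le_of_card_ge
    · rwa [Subgroup.zpowers_le]
    · rw [hc, Nat.card_zpowers, hso]
  refine ⟨s, hs7, hs1, ?_⟩
  have h6 := conj_mem_of_smul P P m⁻¹ hP' hs
  rw [inv_inv, hPz] at h6
  obtain ⟨k, hk⟩ := mem_zpowers_iff.mp h6
  have h5 : (0 : ℤ) ≤ k % 7 := Int.emod_nonneg _ (by norm_num)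
  refine ⟨(k % 7).toNat, ?_⟩
  rw [← zpow_natCast, Int.toNat_of_nonneg h5, ← hk]
  have := zpow_mod_orderOf s k
  rw [hso] at this
  exact_mod_cast this.symm

theorem mem_norm_of_conj (H : Subgroup N) (g : N) (h : ∀ y ∈ H, g * y * g⁻¹ ∈ H) : g ∈ normalizer H := by
  have h1 : H.map (MulAut.conj g).toMonoidHom = H := by
    apply Subgroup.eq_of_le_of_card_ge
    · rintro _ ⟨y, hy, rfl⟩
      exact h y hy
    · rw [Subgroup.card_map_of_injective (MulAut.conj g).injective]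
  rw [Subgroup.mem_normalizer_iff]
  intro y
  constructor
  · exact h y
  · intro hy
    rw [← h1] at hy
    obtain ⟨a, ha, h2⟩ := hy
    have h3 : (MulAut.conj g) a = g * a * g⁻¹ := rfl
    have h4 : g * a * g⁻¹ = g * y * g⁻¹ := h2
    have : a = y := by simpa using h4
    rwa [← this]

omit [Finite N] in
/-- Conjugates of a fixed element by powers. -/
def tau (s t : N) (i : ℕ) : N := (s ^ i)⁻¹ * t * s ^ i

omit [Finite N] in
theorem tau_zero (s t : N) : tau s t 0 = t := by simp [tau]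

omit [Finite N] in
theorem tau_succ (s t : N) (i : ℕ) : tau s t (i + 1) = s⁻¹ * tau s t i * s := by
  simp only [tau, pow_succ]
  group

omit [Finite N] in
theorem tau_mod {s : N} (t : N) (hs : s ^ 7 = 1) (i : ℕ) : tau s t i = tau s t (i % 7) := by
  simp only [tau]
  rw [← pow_eq_pow_mod i hs]

omit [Finite N] in
theorem conj_pow (m s : N) (k i : ℕ) (h : m⁻¹ * s * m = s ^ k) : m⁻¹ * s ^ i * m = s ^ (k * i) := by
  induction i with
  | zero => simp
  | succ i ih =>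
    calc m⁻¹ * s ^ (i + 1) * m = (m⁻¹ * s ^ i * m) * (m⁻¹ * s * m) := by
          rw [pow_succ]; group
      _ = s ^ (k * i) * s ^ k := by rw [ih, h]
      _ = _ := by rw [← pow_add]; ring_nf

omit [Finite N] in
theorem conj_tau (m s t : N) (k i : ℕ) (h : m⁻¹ * s * m = s ^ k) (hmt : m * t = t * m) :
    m⁻¹ * tau s t i * m = tau s t (k * i) := by
  have h1 := conj_pow m s k i h
  have h2 : m⁻¹ * t * m = t := by
    calc m⁻¹ * t * m = m⁻¹ * (t * m) := by group
      _ = m⁻¹ * (m * t) := by rw [hmt]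
      _ = t := by group
  simp only [tau]
  rw [← h1]
  calc m⁻¹ * ((s ^ i)⁻¹ * t * s ^ i) * m = (m⁻¹ * (s ^ i)⁻¹ * m) * (m⁻¹ * t * m) * (m⁻¹ * s ^ i * m) := by group
    _ = (m⁻¹ * (s ^ i)⁻¹ * m) * t * (m⁻¹ * s ^ i * m) := by rw [h2]
    _ = _ := by group

end Gen

section Main

variable {G : Type*} [Group G] [Finite G] [IsSimpleGroup G] {t : G} (e : centralizer ({t} : Set G) ≃* CJ)
  (ht : orderOf t = 2) (hG : Nat.card G = 175560)

omit [IsSimpleGroup G] in
include ht in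
theorem t_mem_TT : t ∈ TT e := by
  have h := (mem_TT_iff e).mpr inT_cz
  rwa [inH_cz e ht] at h

omit [IsSimpleGroup G] in
theorem TT_le : TT e ≤ centralizer ({t} : Set G) := by
  rintro _ ⟨c, -, rfl⟩
  exact inH_mem e c

omit [IsSimpleGroup G] in
theorem TT_sq {u : G} (hu : u ∈ TT e) : u ^ 2 = 1 := by
  obtain ⟨c, hc, rfl⟩ := hu
  have h : c ^ 2 = 1 := hc.2
  show inH e c ^ 2 = 1
  rw [← map_pow, h, map_one]

omit [IsSimpleGroup G] in
theorem TT_comm {u v : G} (hu : u ∈ TT e) (hv : v ∈ TT e) : u * v = v * u := by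
  obtain ⟨c, hc, rfl⟩ := hu
  obtain ⟨d, hd, rfl⟩ := hv
  show inH e c * inH e d = inH e d * inH e c
  rw [← map_mul, ← map_mul, inT_comm c hc d hd]

omit [IsSimpleGroup G] in
theorem inH_mem_norm_iff {c : CJ} : inH e c ∈ normalizer (TT e) ↔ inA c := by
  constructor
  · intro h
    apply norm_A'
    intro y hy
    rw [Subgroup.mem_normalizer_iff] at h
    have h1 := (h (inH e y)).mp ((mem_TT_iff e).mpr hy)
    rw [← map_inv, ← map_mul, ← map_mul] at h1
    exact (mem_TT_iff e).mp h1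
  · intro h
    apply mem_norm_of_conj
    rintro _ ⟨y, hy, rfl⟩
    show inH e c * inH e y * (inH e c)⁻¹ ∈ _
    rw [← map_inv, ← map_mul, ← map_mul]
    exact (mem_TT_iff e).mpr (norm_A c h y hy)

omit [IsSimpleGroup G] in
theorem card_subgroupOf_le {H K : Subgroup G} (h : H ≤ K) : Nat.card (H.subgroupOf K) = Nat.card H :=
  Nat.card_congr (Subgroup.subgroupOfEquivOfLe h).toEquiv

include ht hG

/-- Every nontrivial element of the Sylow subgroup is conjugate to `t` in its normalizer. -/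
theorem conj_in_norm {u : G} (hu : u ∈ TT e) (hu1 : u ≠ 1) : ∃ n ∈ normalizer (TT e), n * t * n⁻¹ = u := by
  haveI : Fact (Nat.Prime 2) := ⟨Nat.prime_two⟩
  obtain ⟨g, rfl⟩ := inv_conj_t e ht (perfect e) (k := 21945) (by decide) (by rw [hG]) (TT_sq e hu) hu1
  let C := centralizer ({t} : Set G)
  let T' : Subgroup G := (TT e).map (MulAut.conj g⁻¹).toMonoidHom
  have hT' : T' ≤ C := by
    rintro _ ⟨y, hy, rfl⟩
    rw [mem_centralizer_singleton_iff]
    have h1 := TT_comm e hy hu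
    show g⁻¹ * y * g⁻¹⁻¹ * t = t * (g⁻¹ * y * g⁻¹⁻¹)
    have h2 : y * (g * t * g⁻¹) * g = (g * t * g⁻¹) * y * g := by rw [h1]
    calc g⁻¹ * y * g⁻¹⁻¹ * t = g⁻¹ * (y * (g * t * g⁻¹) * g) := by group
      _ = g⁻¹ * ((g * t * g⁻¹) * y * g) := by rw [h2]
      _ = _ := by group
  have hC : Nat.card C = 2 ^ 3 * 15 := by
    rw [show Nat.card C = 120 from card_C_t e]; norm_num
  have hc1 : Nat.card ((TT e).subgroupOf C) = 2 ^ 3 := by
    rw [card_subgroupOf_le (TT_le e), card_TT]; norm_num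
  have hc2 : Nat.card (T'.subgroupOf C) = 2 ^ 3 := by
    rw [card_subgroupOf_le hT', Subgroup.card_map_of_injective (MulAut.conj g⁻¹).injective, card_TT]; norm_num
  let A1 : Sylow 2 C := sylowOf _ hc1 hC (by norm_num)
  let A2 : Sylow 2 C := sylowOf _ hc2 hC (by norm_num)
  have hA1 : (A1 : Subgroup C) = (TT e).subgroupOf C := coe_sylowOf _ _ _ _
  have hA2 : (A2 : Subgroup C) = T'.subgroupOf C := coe_sylowOf _ _ _ _
  obtain ⟨d, hd⟩ := sylow_conj_mem A2 A1
  refine ⟨g * (d : G)⁻¹, ?_, ?_⟩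
  · rw [← Subgroup.inv_mem_iff]
    apply mem_norm_of_conj
    intro y hy
    have h1 : g⁻¹ * y * g ∈ T' := by
      refine ⟨y, hy, ?_⟩
      show g⁻¹ * y * g⁻¹⁻¹ = _
      rw [inv_inv]
    have h2 : (⟨g⁻¹ * y * g, hT' h1⟩ : C) ∈ (A2 : Subgroup C) := by
      rw [hA2]
      exact h1
    have h3 := hd _ h2
    rw [hA1] at h3
    have h4 : (d : G) * (g⁻¹ * y * g) * (d : G)⁻¹ ∈ TT e := h3
    have h5 : (g * (d : G)⁻¹)⁻¹ * y * (g * (d : G)⁻¹)⁻¹⁻¹ = (d : G) * (g⁻¹ * y * g) * (d : G)⁻¹ := by group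
    rwa [h5]
  · have hdt : (d : G) * t = t * (d : G) := by
      have := d.2
      rw [mem_centralizer_singleton_iff] at this
      exact this
    have h2 : (d : G)⁻¹ * t * (d : G) = t := by
      calc (d : G)⁻¹ * t * (d : G) = (d : G)⁻¹ * (t * (d : G)) := by group
        _ = (d : G)⁻¹ * ((d : G) * t) := by rw [hdt]
        _ = t := by group
    calc g * (d : G)⁻¹ * t * (g * (d : G)⁻¹)⁻¹ = g * ((d : G)⁻¹ * t * (d : G)) * g⁻¹ := by group
      _ = g * t * g⁻¹ := by rw [h2]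

theorem card_norm : Nat.card ↥(normalizer ((TT e : Subgroup G) : Set G)) = 168 := by
  have htN : t ∈ normalizer (TT e) := by
    have h := (inH_mem_norm_iff e (c := cz)).mpr (by decide +kernel)
    rwa [inH_cz e ht] at h
  have h1 := card_orbit (normalizer (TT e)) htN {u | u ∈ TT e ∧ u ≠ 1} (by
    intro u
    constructor
    · rintro ⟨h1, h2⟩
      exact conj_in_norm e ht hG h1 h2
    · rintro ⟨n, hn, rfl⟩
      refine ⟨?_, ?_⟩
      · rw [Subgroup.mem_normalizer_iff] at hn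
        exact (hn t).mp (t_mem_TT e ht)
      · intro h
        exact t_ne_one ht ((conj_eq_one_iff n t).mp h))
  have h2 : Nat.card ({u | u ∈ TT e ∧ u ≠ 1} : Set G) = 7 := by
    have h3 : ({u | u ∈ TT e ∧ u ≠ 1} : Set G) = (TT e : Set G) \ {1} := by
      ext u
      simp
    rw [h3, Nat.card_coe_set_eq, Set.ncard_sdiff_singleton_of_mem (by simp)]
    have h4 : (TT e : Set G).ncard = 8 := by
      rw [← Nat.card_coe_set_eq]
      exact card_TT e
    rw [h4]
  have h3 : Nat.card ↥(normalizer (TT e) ⊓ centralizer ({t} : Set G)) = 24 := by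
    rw [card_inf_centralizer e (normalizer (TT e)) , Nat.card_congr (Equiv.subtypeEquivRight (fun c => inH_mem_norm_iff e)),
      Nat.card_eq_fintype_card]
    exact card_inA
  rw [h1, h2, h3]

/-- The first step: an element of order seven. -/
theorem exists_s0 : ∃ s : G, s ∈ normalizer (TT e) ∧ s ^ 7 = 1 ∧ s ≠ 1 ∧ ∃ j : ℕ, (inH e xx)⁻¹ * s * inH e xx = s ^ j := by
  have hm : inH e xx ∈ normalizer (TT e) := (inH_mem_norm_iff e).mpr inA_xx
  obtain ⟨s, hs7, hs1, j, hj⟩ := exists_sylow7_fix (card_norm e ht hG) ⟨inH e xx, hm⟩ (by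
    apply Subtype.ext
    show inH e xx ^ 3 = 1
    rw [← map_pow, xx_cube, map_one])
  refine ⟨s.1, s.2, ?_, ?_, j, ?_⟩
  · have := congrArg Subtype.val hs7
    simpa using this
  · exact fun h => hs1 (Subtype.ext h)
  · have := congrArg Subtype.val hj
    simpa using this

section S

variable {s : G} (hsN : s ∈ normalizer (TT e)) (hs7 : s ^ 7 = 1) (hs1 : s ≠ 1)

include hsN hs7 hs1

omit hG [IsSimpleGroup G] in
theorem s_not_mem : s ∉ centralizer ({t} : Set G) := by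
  intro h
  obtain ⟨c, rfl⟩ := exists_inH e h
  apply hs1
  rw [no_seven c (by
    apply inH_inj e
    rw [map_pow, hs7, map_one]), map_one]

omit hG [IsSimpleGroup G] in
theorem tau_mem (i : ℕ) : tau s t i ∈ TT e := by
  induction i with
  | zero => rw [tau_zero]; exact t_mem_TT e ht
  | succ i ih =>
    rw [tau_succ]
    have h1 : s⁻¹ ∈ normalizer (TT e) := Subgroup.inv_mem _ hsN
    rw [Subgroup.mem_normalizer_iff] at h1
    have := (h1 _).mp ih
    rwa [inv_inv] at this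

omit hG [IsSimpleGroup G] in
theorem tau_ne (i : ℕ) : tau s t i ≠ 1 := by
  intro h
  apply t_ne_one ht
  have h1 : (s ^ i)⁻¹ * t * (s ^ i)⁻¹⁻¹ = 1 := by
    rw [inv_inv]; exact h
  exact (conj_eq_one_iff _ t).mp h1

omit hG [IsSimpleGroup G] in
theorem tau_inj {i j : ℕ} (hi : i < 7) (hj : j < 7) (h : tau s t i = tau s t j) : i = j := by
  wlog hij : i ≤ j generalizing i j
  · exact (this hj hi h.symm (by omega)).symm
  by_contra hne
  obtain ⟨d, rfl⟩ := Nat.exists_eq_add_of_le hij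
  have hd0 : 0 < d := by omega
  have hd7 : d < 7 := by omega
  have h1 : s ^ d * t = t * s ^ d := by
    have h' : (s ^ i)⁻¹ * t * s ^ i = (s ^ i)⁻¹ * ((s ^ d)⁻¹ * t * s ^ d) * s ^ i := by
      have h5 := h
      simp only [tau] at h5
      rw [add_comm i d, pow_add] at h5
      rw [h5]
      group
    have h3 : t = (s ^ d)⁻¹ * t * s ^ d := mul_left_cancel (mul_right_cancel h')
    calc s ^ d * t = s ^ d * ((s ^ d)⁻¹ * t * s ^ d) := by rw [← h3]
      _ = t * s ^ d := by group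
  have h2 : s ^ d ∈ centralizer ({t} : Set G) := by
    rw [mem_centralizer_singleton_iff]
    exact h1
  have hk : ∃ k : ℕ, (d * k) % 7 = 1 := by
    interval_cases d
    · exact ⟨1, rfl⟩
    · exact ⟨4, rfl⟩
    · exact ⟨5, rfl⟩
    · exact ⟨2, rfl⟩
    · exact ⟨3, rfl⟩
    · exact ⟨6, rfl⟩
  obtain ⟨k, hk⟩ := hk
  have h3 : s ^ (d * k) ∈ centralizer ({t} : Set G) := by
    rw [pow_mul]
    exact Subgroup.pow_mem _ h2 k
  rw [pow_eq_pow_mod _ hs7, hk, pow_one] at h3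
  exact s_not_mem e ht hsN hs7 hs1 h3

omit hG [IsSimpleGroup G] in
theorem tau_surj {u : G} (hu : u ∈ TT e) (hu1 : u ≠ 1) : ∃ i < 7, tau s t i = u := by
  let f : Fin 7 → ({u | u ∈ TT e ∧ u ≠ 1} : Set G) := fun i => ⟨tau s t i.1, tau_mem e ht hsN hs7 hs1 _, tau_ne e ht hsN hs7 hs1 _⟩
  have hf : Function.Injective f := by
    intro i j h
    exact Fin.ext (tau_inj e ht hsN hs7 hs1 i.2 j.2 (congrArg Subtype.val h))
  have h2 : Nat.card ({u | u ∈ TT e ∧ u ≠ 1} : Set G) = 7 := by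
    have h3 : ({u | u ∈ TT e ∧ u ≠ 1} : Set G) = (TT e : Set G) \ {1} := by
      ext u
      simp
    rw [h3, Nat.card_coe_set_eq, Set.ncard_sdiff_singleton_of_mem (by simp)]
    have h4 : (TT e : Set G).ncard = 8 := by
      rw [← Nat.card_coe_set_eq]
      exact card_TT e
    rw [h4]
  have hb : Function.Bijective f := by
    refine (Nat.bijective_iff_injective_and_card _).mpr ⟨hf, ?_⟩
    rw [h2]; simp
  obtain ⟨i, hi⟩ := hb.2 ⟨u, hu, hu1⟩
  exact ⟨i.1, i.2, congrArg Subtype.val hi⟩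

end S

/-- The second step: the action of the element of order three. -/
theorem exists_s1 : ∃ (s : G) (c : CJ), s ∈ normalizer (TT e) ∧ s ^ 7 = 1 ∧ s ≠ 1 ∧ (c = xx ∨ c = xx⁻¹) ∧
    (inH e c)⁻¹ * s * inH e c = s ^ 2 := by
  haveI : Fact (Nat.Prime 7) := ⟨by norm_num⟩
  obtain ⟨s, hsN, hs7, hs1, j, hj⟩ := exists_s0 e ht hG
  have hso : orderOf s = 7 := orderOf_eq_prime hs7 hs1
  -- we may reduce the exponent
  have hj' : (inH e xx)⁻¹ * s * inH e xx = s ^ (j % 7) := by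
    rw [hj, ← pow_eq_pow_mod j hs7]
  have hjlt : j % 7 < 7 := Nat.mod_lt _ (by norm_num)
  generalize j % 7 = i at hj' hjlt
  clear hj j
  have hm3 : (inH e xx) ^ 3 = 1 := by rw [← map_pow, xx_cube, map_one]
  have hcube : s ^ (i * (i * (i * 1))) = s := by
    have h1 := conj_pow _ _ _ 1 hj'
    have h2 := conj_pow _ _ _ (i * 1) hj'
    have h3 := conj_pow _ _ _ (i * (i * 1)) hj'
    rw [← h3, ← h2, ← h1, pow_one]
    have : (inH e xx)⁻¹ * ((inH e xx)⁻¹ * ((inH e xx)⁻¹ * s * inH e xx) * inH e xx) * inH e xx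
        = ((inH e xx) ^ 3)⁻¹ * s * (inH e xx) ^ 3 := by
      simp only [pow_succ, pow_zero, one_mul]
      group
    rw [this, hm3]
    group
  have hmod : (i * (i * (i * 1))) % 7 = 1 := by
    have h1 := pow_eq_pow_mod (i * (i * (i * 1))) hs7
    rw [hcube] at h1
    have h2 : s ^ ((i * (i * (i * 1))) % 7) = s ^ 1 := by rw [← h1, pow_one]
    have h3 := (pow_eq_pow_iff_modEq).mp h2
    rw [hso] at h3
    have h4 : (i * (i * (i * 1))) % 7 % 7 = 1 % 7 := h3
    omega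
  have hi : i = 1 ∨ i = 2 ∨ i = 4 := by
    interval_cases i <;> simp_all
  rcases hi with rfl | rfl | rfl
  · exfalso
    -- the element of order three centralizes the Sylow subgroup
    rw [pow_one] at hj'
    have hcm : inH e xx * t = t * inH e xx := inH_comm e xx
    have hcomm : ∀ k, (inH e xx)⁻¹ * tau s t k * inH e xx = tau s t k := by
      intro k
      have := conj_tau (inH e xx) s t 1 k (by rw [pow_one]; exact hj') hcm
      rwa [one_mul] at this
    have hv := tau_surj e ht hsN hs7 hs1 (u := inH e vv) ((mem_TT_iff e).mpr inT_vv) (by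
      rw [Ne, inH_eq_one_iff]; exact xx_vv.2.1)
    obtain ⟨k, -, hk⟩ := hv
    have h1 := hcomm k
    rw [hk, ← map_inv, ← map_mul, ← map_mul] at h1
    have h2 := inH_inj e h1
    apply xx_vv.2.2.2
    calc xx * vv = xx * (xx⁻¹ * vv * xx) := by rw [h2]
      _ = vv * xx := by group
  · exact ⟨s, xx, hsN, hs7, hs1, Or.inl rfl, hj'⟩
  · refine ⟨s, xx⁻¹, hsN, hs7, hs1, Or.inr rfl, ?_⟩
    rw [map_inv, inv_inv]
    have h1 : s ^ 4 = (inH e xx)⁻¹ * s * inH e xx := hj'.symm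
    have h2 : s = inH e xx * s ^ 4 * (inH e xx)⁻¹ := by
      rw [h1]; group
    have h3 : inH e xx * s ^ 4 * (inH e xx)⁻¹ = (inH e xx * s * (inH e xx)⁻¹) ^ 4 := by
      simp only [pow_succ, pow_zero, one_mul]
      group
    set y := inH e xx * s * (inH e xx)⁻¹ with hy
    have h4 : y ^ 7 = 1 := by
      rw [hy]
      have : (inH e xx * s * (inH e xx)⁻¹) ^ 7 = inH e xx * s ^ 7 * (inH e xx)⁻¹ := by
        simp only [pow_succ, pow_zero, one_mul]
        group
      rw [this, hs7]; group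
    have h5 : s = y ^ 4 := by rw [h2]; exact h3
    rw [h5, ← pow_mul]
    have h6 : y ^ (4 * 2) = y ^ 7 * y := by
      rw [← pow_succ]
    rw [h6, h4, one_mul]
    

/-- The third step: the final form of the relations. -/
theorem finish_s {s : G} {c y : CJ} (hsN : s ∈ normalizer (TT e)) (hs7 : s ^ 7 = 1) (hs1 : s ≠ 1)
    (hc : c = xx ∨ c = xx⁻¹) (hm : (inH e c)⁻¹ * s * inH e c = s ^ 2) (hy : inV y)
    (h1 : tau s t 1 = inH e y) :
    y ≠ 1 ∧ s⁻¹ * t * s = inH e y ∧ s⁻¹ * inH e y * s = inH e (c⁻¹ * y * c) ∧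
      s⁻¹ * inH e (c⁻¹ * y * c) * s = t * inH e y := by
  have hy1 : y ≠ 1 := by
    rintro rfl
    rw [map_one] at h1
    exact tau_ne e ht hsN hs7 hs1 1 h1
  have hmt := inH_comm e c
  have hconj : ∀ d : CJ, (inH e c)⁻¹ * inH e d * inH e c = inH e (c⁻¹ * d * c) := by
    intro d
    rw [map_mul, map_mul, map_inv]
  have h01 : s⁻¹ * t * s = inH e y := by
    rw [← h1, tau_succ, tau_zero]
  have h2 : tau s t 2 = inH e (c⁻¹ * y * c) := by
    have := conj_tau (inH e c) s t 2 1 hm hmt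
    rw [h1, hconj] at this
    exact this.symm
  have h12 : s⁻¹ * inH e y * s = inH e (c⁻¹ * y * c) := by
    rw [← h2, ← h1, tau_succ s t 1]
  have h4 : tau s t 4 = inH e (c⁻¹ * (c⁻¹ * y * c) * c) := by
    have := conj_tau (inH e c) s t 2 2 hm hmt
    rw [h2, hconj] at this
    exact this.symm
  have h14 : inH e y * inH e (c⁻¹ * y * c) = tau s t 4 := by
    rw [h4, ← map_mul, line_V c hc y hy hy1]
  refine ⟨hy1, h01, h12, ?_⟩
  have h3 : s⁻¹ * inH e (c⁻¹ * y * c) * s = tau s t 3 := by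
    rw [← h2, tau_succ s t 2]
  rw [h3]
  have h5 : s⁻¹ * (t * inH e y) * s = s⁻¹ * tau s t 3 * s := by
    rw [← tau_succ s t 3, ← h14]
    calc s⁻¹ * (t * inH e y) * s = (s⁻¹ * t * s) * (s⁻¹ * inH e y * s) := by group
      _ = _ := by rw [h01, h12]
  have h6 := mul_left_cancel (mul_right_cancel h5)
  exact h6.symm

/-- The final form of the relations. -/
theorem exists_s2 : ∃ (s : G) (c c1 : CJ), (c = xx ∨ c = xx⁻¹) ∧ inV c1 ∧ c1 ≠ 1 ∧ s ^ 7 = 1 ∧
    (inH e c)⁻¹ * s * inH e c = s ^ 2 ∧ s⁻¹ * t * s = inH e c1 ∧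
    s⁻¹ * inH e c1 * s = inH e (c⁻¹ * c1 * c) ∧ s⁻¹ * inH e (c⁻¹ * c1 * c) * s = t * inH e c1 := by
  obtain ⟨s, c, hsN, hs7, hs1, hc, hm⟩ := exists_s1 e ht hG
  have hmt := inH_comm e c
  have hconj : ∀ d : CJ, (inH e c)⁻¹ * inH e d * inH e c = inH e (c⁻¹ * d * c) := by
    intro d
    rw [map_mul, map_mul, map_inv]
  have step : ∀ i y, inV y → tau s t i = inH e y → inV (c⁻¹ * y * c) ∧ tau s t ((2 * i) % 7) = inH e (c⁻¹ * y * c) := by
    intro i y hy h
    refine ⟨xx_inv_eq c hc y hy, ?_⟩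
    rw [← tau_mod t hs7, ← conj_tau (inH e c) s t 2 i hm hmt, h, hconj]
  obtain ⟨i, hi, hv⟩ := tau_surj e ht hsN hs7 hs1 (u := inH e vv) ((mem_TT_iff e).mpr inT_vv) (by
    rw [Ne, inH_eq_one_iff]; exact xx_vv.2.1)
  have hcase : (∃ y, inV y ∧ tau s t 1 = inH e y) ∨ (∃ y, inV y ∧ tau s t 6 = inH e y) := by
    have hv0 := xx_vv.1
    interval_cases i
    · exfalso
      rw [tau_zero] at hv
      have h := (inH_cz e ht).trans hv
      exact xx_vv.2.2.1 (inH_inj e h).symm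
    · exact Or.inl ⟨_, hv0, hv⟩
    · obtain ⟨h1, h2⟩ := step 2 _ hv0 hv
      obtain ⟨h3, h4⟩ := step _ _ h1 h2
      exact Or.inl ⟨_, h3, h4⟩
    · obtain ⟨h1, h2⟩ := step 3 _ hv0 hv
      exact Or.inr ⟨_, h1, h2⟩
    · obtain ⟨h1, h2⟩ := step 4 _ hv0 hv
      exact Or.inl ⟨_, h1, h2⟩
    · obtain ⟨h1, h2⟩ := step 5 _ hv0 hv
      obtain ⟨h3, h4⟩ := step _ _ h1 h2
      exact Or.inr ⟨_, h3, h4⟩
    · exact Or.inr ⟨_, hv0, hv⟩
  rcases hcase with ⟨y, hy, h1⟩ | ⟨y, hy, h1⟩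
  · obtain ⟨h2, h3, h4, h5⟩ := finish_s e ht hG hsN hs7 hs1 hc hm hy h1
    exact ⟨s, c, y, hc, hy, h2, hs7, hm, h3, h4, h5⟩
  · -- replace `s` by its inverse
    have hsN' : s⁻¹ ∈ normalizer (TT e) := Subgroup.inv_mem _ hsN
    have hs7' : s⁻¹ ^ 7 = 1 := by rw [inv_pow, hs7, inv_one]
    have hs1' : s⁻¹ ≠ 1 := by
      rwa [Ne, inv_eq_one]
    have hm' : (inH e c)⁻¹ * s⁻¹ * inH e c = s⁻¹ ^ 2 := by
      have : (inH e c)⁻¹ * s⁻¹ * inH e c = ((inH e c)⁻¹ * s * inH e c)⁻¹ := by group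
      rw [this, hm, inv_pow]
    have h1' : tau s⁻¹ t 1 = inH e y := by
      rw [← h1]
      simp only [tau]
      have h6 : s ^ 6 = s⁻¹ := by
        rw [eq_inv_iff_mul_eq_one, ← pow_succ]
        exact hs7
      rw [h6, pow_one]
    obtain ⟨h2, h3, h4, h5⟩ := finish_s e ht hG hsN' hs7' hs1' hc hm' hy h1'
    rw [inv_inv] at h3 h4 h5
    refine ⟨s⁻¹, c, y, hc, hy, h2, hs7', hm', ?_, ?_, ?_⟩
    · rw [inv_inv]; exact h3
    · rw [inv_inv]; exact h4
    · rw [inv_inv]; exact h5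

end Main

end Cfsg.Agent.Lib.JUG4
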