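import Mathlib
import Cfsg.Agent.Lib.JOrdA

/-!
# Uniqueness of the first Janko group: the configuration in `2 × A₅`
-/

set_option autoImplicit false
set_option maxRecDepth 100000
set_option maxHeartbeats 4000000
set_option synthInstance.maxHeartbeats 4000000
set_option synthInstance.maxSize 100000

namespace Cfsg.Agent.Lib.JUG5a

open Cfsg.Agent.Lib.JOrdA

/-- a word -/ def wMu (a b : CJ) : CJ := a * b * a * b⁻¹ * a * b⁻¹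
/-- a word -/ def wV1 (a b : CJ) : CJ := b * a * b⁻¹ * a * b * a * b⁻¹ * a * b
/-- a word -/ def wX (a b : CJ) : CJ := a * b⁻¹ * a * b * a * b⁻¹
/-- a word -/ def wZT (a b : CJ) : CJ := b * a * b⁻¹ * a * b * a * b⁻¹ * a
/-- a word -/ def wZF (a b : CJ) : CJ := b⁻¹ * a * b * a
/-- a word -/ def wZ3 (a b : CJ) : CJ := a * b * a * b * a
/-- a word -/ def wZ4 (a b : CJ) : CJ := b * a * b

/-- The configuration in `2 × A₅`. -/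
def Cfg (c c1 a b : CJ) : Prop :=
  wMu a b = c ∧ wV1 a b = c1 ∧ a ^ 2 = 1 ∧ b ^ 3 = 1 ∧ (a * b) ^ 5 = 1 ∧
    (wX a b) ^ 3 = 1 ∧ wX a b ≠ 1 ∧ c1 * wX a b * c1⁻¹ = (wX a b)⁻¹ ∧
    (∀ y : CJ, y ^ 5 = 1 → y ≠ 1 → a * y * a⁻¹ = y⁻¹ →
      (∃ i : Fin 5, wZT a b = y ^ (i : ℕ)) ∨ (∃ i : Fin 5, wZF a b = y ^ (i : ℕ))) ∧
    (∀ y : CJ, y ^ 5 = 1 → y ≠ 1 → (c1 * a) * y * (c1 * a)⁻¹ = y⁻¹ →
      (∃ i : Fin 5, wZ3 a b = y ^ (i : ℕ)) ∨ (∃ i : Fin 5, wZ4 a b = y ^ (i : ℕ)))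

instance (c c1 a b : CJ) : Decidable (Cfg c c1 a b) := by
  unfold Cfg; infer_instance

theorem exists_cfg : ∀ c : CJ, (c = xx ∨ c = xx⁻¹) → ∀ c1 : CJ, inV c1 → c1 ≠ 1 →
    ∃ b : CJ, Cfg c c1 (c⁻¹ * c1 * c) b := by decide +kernel

theorem x3_two : ∀ x : CJ, x ^ 3 = 1 → x ≠ 1 → ∀ q : CJ, q * x = x * q → q ^ 2 = 1 → q = 1 ∨ q = cz := by
  decide +kernel

theorem x3_five : ∀ x : CJ, x ^ 3 = 1 → x ≠ 1 → ∀ q : CJ, q ^ 5 = 1 → q * x = x * q → q = 1 := by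
  decide +kernel

theorem inV_sq : ∀ y : CJ, inV y → y ^ 2 = 1 := fun _ h => h.2.2

theorem cz_ne_inV : ∀ y : CJ, inV y → y ≠ cz := by decide +kernel

end Cfsg.Agent.Lib.JUG5a
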