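import Mathlib
import Cfsg.Agent.Lib.TcPres

/-!
# Homomorphisms between presented groups, from words and bit programs

Let `Φ : PresentedGroup R →* Equiv.Perm ℕ` be a faithful representation given by programs on `2 ^ k`
points. Words in the generators of `R` for the generators of another presented group give a
homomorphism as soon as the relators of the second group act trivially on the `k` slices.
-/

set_option autoImplicit false

namespace Cfsg.Agent.Lib.PresEmb

open Cfsg.Agent.Lib.TcBits Cfsg.Agent.Lib.TcPres

variable {β : Type} {γ : Type} [DecidableEq β] [DecidableEq γ]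

/-- substitution of words for generators -/
def substW (A : γ → List (β × Bool)) : List (γ × Bool) → List (β × Bool)
  | [] => []
  | (g, true) :: l => A g ++ substW A l
  | (g, false) :: l => FreeGroup.invRev (A g) ++ substW A l

theorem lift_mk_substW (A : γ → List (β × Bool)) (L : List (γ × Bool)) :
    FreeGroup.lift (fun g => FreeGroup.mk (A g)) (FreeGroup.mk L) = FreeGroup.mk (substW A L) := by
  induction L with
  | nil => simp [substW]; rfl
  | cons p L ih =>
    rcases p with ⟨g, b⟩
    have e : (FreeGroup.mk ((g, b) :: L) : FreeGroup γ) = FreeGroup.mk [(g, b)] * FreeGroup.mk L := by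
      rw [FreeGroup.mul_mk]; rfl
    rw [e, map_mul, ih]
    cases b
    · have e2 : (FreeGroup.mk [(g, false)] : FreeGroup γ) = (FreeGroup.of g)⁻¹ := by
        rw [FreeGroup.of, FreeGroup.inv_mk]; rfl
      rw [e2, map_inv, FreeGroup.lift_apply_of, FreeGroup.inv_mk, FreeGroup.mul_mk]
      rfl
    · have e2 : (FreeGroup.mk [(g, true)] : FreeGroup γ) = FreeGroup.of g := rfl
      rw [e2, FreeGroup.lift_apply_of, FreeGroup.mul_mk]
      rfl

theorem lift_of_mk {R : Set (FreeGroup β)} {pr : β → List (ℕ × ℕ)}
    (hR : ∀ r ∈ R, FreeGroup.lift (genPerm pr) r = 1) {N : ℕ} (hv : ∀ x, validProg N (pr x) = true)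
    (w : List (β × Bool)) :
    repOf R pr hR (PresentedGroup.mk R (FreeGroup.mk w)) = wordPerm (sgnProg pr) w := by
  rw [wordPerm_sgn hv]
  show FreeGroup.lift (genPerm pr) (FreeGroup.mk w) = _
  rw [FreeGroup.lift_mk]

/-- The relators of `R'` hold for words in the generators of a faithfully represented group. -/
theorem rel_of_slices {R : Set (FreeGroup β)} {pr : β → List (ℕ × ℕ)}
    (hR : ∀ r ∈ R, FreeGroup.lift (genPerm pr) r = 1) {k : ℕ} (hv : ∀ x, validProg (2 ^ k) (pr x) = true)
    (hΦ : Function.Injective (repOf R pr hR)) (A : γ → List (β × Bool)) (r : FreeGroup γ)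
    (h : ∀ j, j < k → wordApply (sgnProg pr) (substW A r.toWord) (slice k j) = slice k j) :
    FreeGroup.lift (fun g => PresentedGroup.mk R (FreeGroup.mk (A g))) r = 1 := by
  have e1 : (fun g => PresentedGroup.mk R (FreeGroup.mk (A g))) =
      (fun g => (PresentedGroup.mk R) ((fun g => (FreeGroup.mk (A g) : FreeGroup β)) g)) := rfl
  have e2 : FreeGroup.lift (fun g => PresentedGroup.mk R (FreeGroup.mk (A g))) r =
      PresentedGroup.mk R (FreeGroup.lift (fun g => (FreeGroup.mk (A g) : FreeGroup β)) r) := by
    have : (FreeGroup.lift (fun g => PresentedGroup.mk R (FreeGroup.mk (A g)))) =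
        (PresentedGroup.mk R).comp (FreeGroup.lift (fun g => (FreeGroup.mk (A g) : FreeGroup β))) := by
      ext g
      simp
    rw [this]
    rfl
  rw [e2]
  conv_lhs => rw [← FreeGroup.mk_toWord (x := r)]
  rw [lift_mk_substW]
  apply hΦ
  rw [lift_of_mk hR hv, map_one]
  exact wordPerm_eq_one k _ _ (fun a _ => valid_sgnProg hv a) h

/-- a word acts non trivially if it moves a slice -/
theorem ne_one_of_slice {R : Set (FreeGroup β)} {pr : β → List (ℕ × ℕ)}
    (hR : ∀ r ∈ R, FreeGroup.lift (genPerm pr) r = 1) {k : ℕ} (hv : ∀ x, validProg (2 ^ k) (pr x) = true)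
    (w : List (β × Bool)) {X : ℕ} (h : wordApply (sgnProg pr) w X ≠ X) :
    PresentedGroup.mk R (FreeGroup.mk w) ≠ 1 := by
  intro h1
  apply h
  have h2 : wordPerm (sgnProg pr) w = 1 := by
    rw [← lift_of_mk hR hv, h1, map_one]
  apply Nat.eq_of_testBit_eq
  intro i
  rw [testBit_wordApply _ _ _ (fun a _ => valid_sgnProg hv a) X i, h2]
  rfl

end Cfsg.Agent.Lib.PresEmb
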