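import Mathlib
import Cfsg.Agent.S0457
import Cfsg.Agent.TcData.JU0.I1463.Up
import Cfsg.Agent.TcData.JU1.I1.Up
import Cfsg.Agent.TcData.JU2.I1.Up
import Cfsg.Agent.TcData.JU3.I1.Up
import Cfsg.Agent.TcData.JUC.I120.Up
import Cfsg.Agent.Lib.PresEmb

/-!
# A presentation of the first Janko group on four generators
-/

set_option autoImplicit false
set_option maxRecDepth 100000
set_option Elab.async false

namespace Cfsg.Agent.Lib.JUJ1

open Cfsg Cfsg.Spor Cfsg.Agent.Lib.TcFacts Cfsg.Agent.Lib.TcBits Cfsg.Agent.Lib.TcPres Cfsg.Agent.Lib.PresEmb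
open Cfsg.Agent.Lib.J1Mat Cfsg.Agent.Lib.J1Local Cfsg.Agent.Lib.J1CCore Cfsg.Agent.S0457

/-- the presented group -/
abbrev PJ : Type := PresentedGroup Cfsg.Agent.TcData.JU0.RR
/-- the presented subgroup -/
abbrev PC : Type := PresentedGroup Cfsg.Agent.TcData.JUC.RR

/-! ### The order -/

instance : Finite PC := by
  have h := Cfsg.Agent.TcData.JUC.I120.index_le'
  have e : Cfsg.Agent.TcData.JUC.I120.HH = ⊥ := by
    simp [Cfsg.Agent.TcData.JUC.I120.HH, Cfsg.Agent.TcData.JUC.I120.SS]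
  rw [e, Subgroup.index_bot] at h
  exact Nat.finite_of_card_ne_zero h.1

theorem card_PC : Nat.card PC ≤ 120 := by
  have h := Cfsg.Agent.TcData.JUC.I120.index_le'
  have e : Cfsg.Agent.TcData.JUC.I120.HH = ⊥ := by
    simp [Cfsg.Agent.TcData.JUC.I120.HH, Cfsg.Agent.TcData.JUC.I120.SS]
  rw [e, Subgroup.index_bot] at h
  exact h.2

/-- the words of the generators of the subgroup -/
def AL : Cfsg.Agent.Lib.JUPresC.Gen → List (Cfsg.Agent.Lib.JUPres.Gen × Bool)
  | .a => [(.a, true)]
  | .b => [(.b, true)]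
  | .t => [(.t, true)]

theorem rel_chk : ∀ r ∈ Cfsg.Agent.Lib.JUPresC.C.extra,
    (FreeGroup.mk (substW AL r.toWord) : FreeGroup Cfsg.Agent.Lib.JUPres.Gen) ∈ Cfsg.Agent.Lib.JUPres.P0.extra := by
  decide +kernel

theorem hLR : ∀ r ∈ Cfsg.Agent.TcData.JUC.RR,
    FreeGroup.lift (fun g => PresentedGroup.mk Cfsg.Agent.TcData.JU0.RR (FreeGroup.mk (AL g))) r = 1 := by
  rintro r (⟨x, hx, y, hy, rfl⟩ | hr)
  · exact absurd hx (by simp [coxNodes, Cfsg.Agent.Lib.JUPresC.edges])
  · have h1 := rel_chk r hr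
    have e2 : FreeGroup.lift (fun g => PresentedGroup.mk Cfsg.Agent.TcData.JU0.RR (FreeGroup.mk (AL g))) r =
        PresentedGroup.mk Cfsg.Agent.TcData.JU0.RR (FreeGroup.lift (fun g => (FreeGroup.mk (AL g) : FreeGroup _)) r) := by
      have : (FreeGroup.lift (fun g => PresentedGroup.mk Cfsg.Agent.TcData.JU0.RR (FreeGroup.mk (AL g)))) =
          (PresentedGroup.mk Cfsg.Agent.TcData.JU0.RR).comp (FreeGroup.lift (fun g => (FreeGroup.mk (AL g) : FreeGroup _))) := by
        ext g
        simp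
      rw [this]
      rfl
    rw [e2]
    conv_lhs => rw [← FreeGroup.mk_toWord (x := r)]
    rw [lift_mk_substW]
    exact PresentedGroup.one_of_mem (Or.inr h1)

/-- the homomorphism -/
noncomputable def theta : PC →* PJ := PresentedGroup.toGroup hLR

theorem HH_le : Cfsg.Agent.TcData.JU0.I1463.HH ≤ theta.range := by
  rw [Subgroup.map_le_iff_le_comap, Subgroup.closure_le]
  intro s hs
  rcases hs with rfl | rfl | rfl
  · exact ⟨PresentedGroup.of .a, by simp [theta]; rfl⟩
  · exact ⟨PresentedGroup.of .b, by simp [theta]; rfl⟩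
  · exact ⟨PresentedGroup.of .t, by simp [theta]; rfl⟩

instance : Finite (theta.range) := by
  exact Finite.of_surjective theta.rangeRestrict theta.rangeRestrict_surjective

theorem card_HH : Nat.card Cfsg.Agent.TcData.JU0.I1463.HH ≠ 0 ∧ Nat.card Cfsg.Agent.TcData.JU0.I1463.HH ≤ 120 := by
  have h1 : Nat.card Cfsg.Agent.TcData.JU0.I1463.HH ≤ Nat.card theta.range :=
    Subgroup.card_le_of_le HH_le
  have h2 : Nat.card theta.range ≤ Nat.card PC :=
    Nat.card_le_card_of_surjective _ theta.rangeRestrict_surjective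
  haveI : Finite Cfsg.Agent.TcData.JU0.I1463.HH := Finite.of_injective (Subgroup.inclusion HH_le) (Subgroup.inclusion_injective _)
  exact ⟨Nat.card_pos.ne', h1.trans (h2.trans card_PC)⟩

theorem card_PJ : Nat.card PJ ≠ 0 ∧ Nat.card PJ ≤ 175560 := by
  have h := Subgroup.card_mul_index Cfsg.Agent.TcData.JU0.I1463.HH
  have h1 := Cfsg.Agent.TcData.JU0.I1463.index_le'
  have h2 := card_HH
  rw [← h]
  exact ⟨mul_ne_zero h2.1 h1.1, (Nat.mul_le_mul h2.2 h1.2).trans (by norm_num)⟩

instance : Finite PJ := Nat.finite_of_card_ne_zero card_PJ.1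

/-! ### The map to the matrix group -/

/-- matrix words -/
def wM : Cfsg.Agent.Lib.JUPres.Gen → List ℕ
  | .a => [1, 0, 0, 1, 0, 0, 0, 1, 1]
  | .b => [3, 2, 3, 2, 2, 3, 3, 0, 0, 3]
  | .t => [0, 1, 1, 0, 1, 0, 1, 2, 3, 0, 3, 3, 2]
  | .s => [3, 2, 2, 1, 2, 1, 1, 0, 1, 0]

/-- the images of the generators -/
noncomputable def fJ (g : Cfsg.Agent.Lib.JUPres.Gen) : ↥J1 := evW (wM g)

/-- the matrix of a word -/
def evR : List (Cfsg.Agent.Lib.JUPres.Gen × Bool) → M7
  | [] => I7
  | (g, true) :: l => mm (evM (wM g)) (evR l)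
  | (g, false) :: l => mm (tr (evM (wM g))) (evR l)

theorem rep_evR (L : List (Cfsg.Agent.Lib.JUPres.Gen × Bool)) :
    Rep (L.map fun x => cond x.2 (fJ x.1) (fJ x.1)⁻¹).prod (evR L) := by
  induction L with
  | nil => exact rep_one
  | cons p L ih =>
    rcases p with ⟨g, b⟩
    cases b
    · exact (rep_evW (wM g)).inv.mul ih
    · exact (rep_evW (wM g)).mul ih

theorem rep_lift (r : FreeGroup Cfsg.Agent.Lib.JUPres.Gen) : Rep (FreeGroup.lift fJ r) (evR r.toWord) := by
  conv_lhs => rw [← FreeGroup.mk_toWord (x := r)]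
  rw [FreeGroup.lift_mk]
  exact rep_evR _

theorem extra_chk : ∀ r ∈ Cfsg.Agent.Lib.JUPres.P0.extra, eqM (evR r.toWord) I7 = true := by decide +kernel

theorem hJR : ∀ r ∈ Cfsg.Agent.TcData.JU0.RR, FreeGroup.lift fJ r = 1 := by
  rintro r (⟨x, hx, y, hy, rfl⟩ | hr)
  · exact absurd hx (by simp [coxNodes, Cfsg.Agent.Lib.JUPres.edges])
  · exact Rep.ext (rep_lift r) rep_one (extra_chk r hr)

/-- the map to the matrix group -/
noncomputable def psi : PJ →* ↥J1 := PresentedGroup.toGroup hJR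

theorem psi_lift (r : FreeGroup Cfsg.Agent.Lib.JUPres.Gen) : psi (PresentedGroup.mk _ r) = FreeGroup.lift fJ r := rfl

/-- a word for the first matrix -/
def XW : List (Cfsg.Agent.Lib.JUPres.Gen × Bool) := [(.a, true), (.s, false), (.b, true), (.s, false), (.b, true), (.t, true), (.s, false)]
/-- a word for the second matrix -/
def YW : List (Cfsg.Agent.Lib.JUPres.Gen × Bool) := [(.a, true), (.s, true), (.b, false), (.s, false), (.b, false), (.s, false), (.b, true), (.s, true), (.t, true), (.s, true), (.b, true)]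

theorem psi_X : psi (PresentedGroup.mk _ (FreeGroup.mk XW)) = XJ := by
  rw [psi_lift, FreeGroup.lift_mk]
  exact Rep.ext (rep_evR XW) rep_X (by decide +kernel)

theorem psi_Y : psi (PresentedGroup.mk _ (FreeGroup.mk YW)) = YJ := by
  rw [psi_lift, FreeGroup.lift_mk]
  exact Rep.ext (rep_evR YW) rep_Y (by decide +kernel)

theorem psi_surj : Function.Surjective psi := by
  rintro ⟨g, hg⟩
  induction hg using Subgroup.closure_induction with
  | mem x hx =>
    rcases hx with rfl | hx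
    · exact ⟨_, psi_X⟩
    · rw [Set.mem_singleton_iff] at hx
      subst hx
      exact ⟨_, psi_Y⟩
  | one => exact ⟨1, map_one _⟩
  | mul x y hx hy ih1 ih2 =>
    obtain ⟨a, ha⟩ := ih1
    obtain ⟨b, hb⟩ := ih2
    exact ⟨a * b, by rw [map_mul, ha, hb]; rfl⟩
  | inv x hx ih =>
    obtain ⟨a, ha⟩ := ih
    exact ⟨a⁻¹, by rw [map_inv, ha]; rfl⟩

theorem psi_bij : Function.Bijective psi := by
  refine (Nat.bijective_iff_surjective_and_card _).mpr ⟨psi_surj, ?_⟩
  rw [card_J1]
  apply le_antisymm card_PJ.2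
  have := Nat.card_le_card_of_surjective _ psi_surj
  rwa [card_J1] at this

/-- the presented group is the matrix group -/
noncomputable def PJ_equiv : PJ ≃* ↥J1 := MulEquiv.ofBijective psi psi_bij

theorem card_PJ_eq : Nat.card PJ = 175560 := by
  rw [Nat.card_congr PJ_equiv.toEquiv, card_J1]

theorem simple_PJ : IsSimpleGroup PJ := by
  haveI := J1_simple
  exact PJ_equiv.isSimpleGroup

/-- A group of the right order satisfying the relators of the presentation, with a nontrivial image, is the matrix group. -/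
theorem iso_of_rel {Γ : Type*} [Group Γ] [Finite Γ] (hΓ : Nat.card Γ = 175560)
    (f : Cfsg.Agent.Lib.JUPres.Gen → Γ)
    (hf : ∀ r ∈ Cfsg.Agent.Lib.JUPres.P0.extra, FreeGroup.lift f r = 1)
    (hne : f .t ≠ 1) : Nonempty (Γ ≃* ↥J1) := by
  have hR : ∀ r ∈ Cfsg.Agent.TcData.JU0.RR, FreeGroup.lift f r = 1 := by
    rintro r (⟨x, hx, y, hy, rfl⟩ | hr)
    · exact absurd hx (by simp [coxNodes, Cfsg.Agent.Lib.JUPres.edges])
    · exact hf r hr
  let F : PJ →* Γ := PresentedGroup.toGroup hR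
  haveI := simple_PJ
  have hk : F.ker = ⊥ ∨ F.ker = ⊤ := IsSimpleGroup.eq_bot_or_eq_top_of_normal _ inferInstance
  have hinj : Function.Injective F := by
    rcases hk with hk | hk
    · exact (MonoidHom.ker_eq_bot_iff _).mp hk
    · exfalso
      apply hne
      have h1 : F (PresentedGroup.of .t) = 1 := by
        have : PresentedGroup.of .t ∈ F.ker := by rw [hk]; trivial
        exact this
      simpa [F] using h1
  have hbij : Function.Bijective F := by
    refine (Nat.bijective_iff_injective_and_card _).mpr ⟨hinj, ?_⟩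
    rw [card_PJ_eq, hΓ]
  exact ⟨(MulEquiv.ofBijective F hbij).symm.trans PJ_equiv⟩

/-! ### The three false relations collapse the presentation -/

theorem collapse1 {Γ : Type*} [Group Γ] (f : Cfsg.Agent.Lib.JUPres.Gen → Γ)
    (hf : ∀ r ∈ Cfsg.Agent.Lib.JUPres.P1.extra, FreeGroup.lift f r = 1) :
    f .s ∈ Subgroup.closure {f .a, f .b, f .t} := by
  have hR : ∀ r ∈ Cfsg.Agent.TcData.JU1.RR, FreeGroup.lift f r = 1 := by
    rintro r (⟨x, hx, y, hy, rfl⟩ | hr)
    · exact absurd hx (by simp [coxNodes, Cfsg.Agent.Lib.JUPres.edges])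
    · exact hf r hr
  let F : PresentedGroup Cfsg.Agent.TcData.JU1.RR →* Γ := PresentedGroup.toGroup hR
  have hF : ∀ g, F (PresentedGroup.of g) = f g := fun g => PresentedGroup.toGroup.of hR
  have h := Cfsg.Agent.TcData.JU1.I1.index_le'
  have h1 : Cfsg.Agent.TcData.JU1.I1.HH = ⊤ := by
    rw [← Subgroup.index_eq_one]
    omega
  have h2 : (PresentedGroup.of .s : PresentedGroup Cfsg.Agent.TcData.JU1.RR) ∈ Cfsg.Agent.TcData.JU1.I1.HH := by
    rw [h1]; trivial
  have h3 : Cfsg.Agent.TcData.JU1.I1.HH ≤ (Subgroup.closure {f .a, f .b, f .t}).comap F := by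
    rw [Subgroup.map_le_iff_le_comap, Subgroup.closure_le]
    intro s hs
    rcases hs with rfl | rfl | rfl
    · show F (PresentedGroup.of .a) ∈ Subgroup.closure ({f .a, f .b, f .t} : Set Γ)
      rw [hF]
      exact Subgroup.subset_closure (by simp)
    · show F (PresentedGroup.of .b) ∈ Subgroup.closure ({f .a, f .b, f .t} : Set Γ)
      rw [hF]
      exact Subgroup.subset_closure (by simp)
    · show F (PresentedGroup.of .t) ∈ Subgroup.closure ({f .a, f .b, f .t} : Set Γ)
      rw [hF]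
      exact Subgroup.subset_closure (by simp)
  have h4 := h3 h2
  have h5 : F (PresentedGroup.of .s) ∈ Subgroup.closure {f .a, f .b, f .t} := h4
  rwa [hF] at h5

theorem collapse2 {Γ : Type*} [Group Γ] (f : Cfsg.Agent.Lib.JUPres.Gen → Γ)
    (hf : ∀ r ∈ Cfsg.Agent.Lib.JUPres.P2.extra, FreeGroup.lift f r = 1) :
    f .s ∈ Subgroup.closure {f .a, f .b, f .t} := by
  have hR : ∀ r ∈ Cfsg.Agent.TcData.JU2.RR, FreeGroup.lift f r = 1 := by
    rintro r (⟨x, hx, y, hy, rfl⟩ | hr)
    · exact absurd hx (by simp [coxNodes, Cfsg.Agent.Lib.JUPres.edges])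
    · exact hf r hr
  let F : PresentedGroup Cfsg.Agent.TcData.JU2.RR →* Γ := PresentedGroup.toGroup hR
  have hF : ∀ g, F (PresentedGroup.of g) = f g := fun g => PresentedGroup.toGroup.of hR
  have h := Cfsg.Agent.TcData.JU2.I1.index_le'
  have h1 : Cfsg.Agent.TcData.JU2.I1.HH = ⊤ := by
    rw [← Subgroup.index_eq_one]
    omega
  have h2 : (PresentedGroup.of .s : PresentedGroup Cfsg.Agent.TcData.JU2.RR) ∈ Cfsg.Agent.TcData.JU2.I1.HH := by
    rw [h1]; trivial
  have h3 : Cfsg.Agent.TcData.JU2.I1.HH ≤ (Subgroup.closure {f .a, f .b, f .t}).comap F := by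
    rw [Subgroup.map_le_iff_le_comap, Subgroup.closure_le]
    intro s hs
    rcases hs with rfl | rfl | rfl
    · show F (PresentedGroup.of .a) ∈ Subgroup.closure ({f .a, f .b, f .t} : Set Γ)
      rw [hF]
      exact Subgroup.subset_closure (by simp)
    · show F (PresentedGroup.of .b) ∈ Subgroup.closure ({f .a, f .b, f .t} : Set Γ)
      rw [hF]
      exact Subgroup.subset_closure (by simp)
    · show F (PresentedGroup.of .t) ∈ Subgroup.closure ({f .a, f .b, f .t} : Set Γ)
      rw [hF]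
      exact Subgroup.subset_closure (by simp)
  have h4 := h3 h2
  have h5 : F (PresentedGroup.of .s) ∈ Subgroup.closure {f .a, f .b, f .t} := h4
  rwa [hF] at h5

theorem collapse3 {Γ : Type*} [Group Γ] (f : Cfsg.Agent.Lib.JUPres.Gen → Γ)
    (hf : ∀ r ∈ Cfsg.Agent.Lib.JUPres.P3.extra, FreeGroup.lift f r = 1) :
    f .s ∈ Subgroup.closure {f .a, f .b, f .t} := by
  have hR : ∀ r ∈ Cfsg.Agent.TcData.JU3.RR, FreeGroup.lift f r = 1 := by
    rintro r (⟨x, hx, y, hy, rfl⟩ | hr)
    · exact absurd hx (by simp [coxNodes, Cfsg.Agent.Lib.JUPres.edges])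
    · exact hf r hr
  let F : PresentedGroup Cfsg.Agent.TcData.JU3.RR →* Γ := PresentedGroup.toGroup hR
  have hF : ∀ g, F (PresentedGroup.of g) = f g := fun g => PresentedGroup.toGroup.of hR
  have h := Cfsg.Agent.TcData.JU3.I1.index_le'
  have h1 : Cfsg.Agent.TcData.JU3.I1.HH = ⊤ := by
    rw [← Subgroup.index_eq_one]
    omega
  have h2 : (PresentedGroup.of .s : PresentedGroup Cfsg.Agent.TcData.JU3.RR) ∈ Cfsg.Agent.TcData.JU3.I1.HH := by
    rw [h1]; trivial
  have h3 : Cfsg.Agent.TcData.JU3.I1.HH ≤ (Subgroup.closure {f .a, f .b, f .t}).comap F := by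
    rw [Subgroup.map_le_iff_le_comap, Subgroup.closure_le]
    intro s hs
    rcases hs with rfl | rfl | rfl
    · show F (PresentedGroup.of .a) ∈ Subgroup.closure ({f .a, f .b, f .t} : Set Γ)
      rw [hF]
      exact Subgroup.subset_closure (by simp)
    · show F (PresentedGroup.of .b) ∈ Subgroup.closure ({f .a, f .b, f .t} : Set Γ)
      rw [hF]
      exact Subgroup.subset_closure (by simp)
    · show F (PresentedGroup.of .t) ∈ Subgroup.closure ({f .a, f .b, f .t} : Set Γ)
      rw [hF]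
      exact Subgroup.subset_closure (by simp)
  have h4 := h3 h2
  have h5 : F (PresentedGroup.of .s) ∈ Subgroup.closure {f .a, f .b, f .t} := h4
  rwa [hF] at h5

end Cfsg.Agent.Lib.JUJ1
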