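import Mathlib
import Cfsg.Agent.Lib.JUG3
import Cfsg.Agent.Lib.JUG4
import Cfsg.Agent.Lib.JUJ1
import Cfsg.Agent.Lib.JUG5a

/-!
# Uniqueness of the first Janko group: the relations hold in the group
-/

set_option autoImplicit false
set_option linter.unusedVariables false
set_option linter.unusedSectionVars false
set_option linter.style.haveILetI false
set_option maxRecDepth 100000
set_option maxHeartbeats 4000000

namespace Cfsg.Agent.Lib.JUG5

open Subgroup Cfsg.Agent.Lib.JOrdA Cfsg.Agent.Lib.JOrdB Cfsg.Agent.Lib.JUG1 Cfsg.Agent.Lib.JUG2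
open Cfsg.Agent.Lib.JUG3 Cfsg.Agent.Lib.JUG4 Cfsg.Agent.Lib.JUG5a

section Rel

open Cfsg.Agent.Lib.JUPres

variable {G : Type*} [Group G]

/-- The images of the generators. -/
def fF (A B T S : G) : Cfsg.Agent.Lib.JUPres.Gen → G
  | .a => A
  | .b => B
  | .t => T
  | .s => S

section

variable {A B T S : G} (h1 : A ^ 2 = 1) (h2 : B ^ 3 = 1) (h3 : (A * B) ^ 5 = 1) (h4 : T ^ 2 = 1)
  (h5 : T⁻¹ * A⁻¹ * T * A = 1) (h6 : T⁻¹ * B⁻¹ * T * B = 1) (h7 : S ^ 7 = 1)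
  (h8 : (A * B * A * B⁻¹ * A * B⁻¹)⁻¹ * S * (A * B * A * B⁻¹ * A * B⁻¹) * S⁻¹ * S⁻¹ = 1)
  (h9 : S⁻¹ * T * S * (B * A * B⁻¹ * A * B * A * B⁻¹ * A * B)⁻¹ = 1)
  (h10 : S⁻¹ * (B * A * B⁻¹ * A * B * A * B⁻¹ * A * B) * S * A⁻¹ = 1)
  (h11 : S⁻¹ * A * S * (B * A * B⁻¹ * A * B * A * B⁻¹ * A * B)⁻¹ * T⁻¹ = 1)

include h1 h2 h3 h4 h5 h6 h7 h8 h9 h10 h11

theorem rel_P0 (h12 : (A * B⁻¹ * A * B * A * B⁻¹)⁻¹ * (S⁻¹ * (B * A * B⁻¹ * A * B * A * B⁻¹ * A) * S)⁻¹ *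
      (A * B⁻¹ * A * B * A * B⁻¹) * (S⁻¹ * (B * A * B⁻¹ * A * B * A * B⁻¹ * A) * S) = 1) :
    ∀ r ∈ P0.extra, FreeGroup.lift (fF A B T S) r = 1 := by
  intro r hr
  simp only [P0.extra, List.mem_cons, List.not_mem_nil, or_false] at hr
  rcases hr with rfl | rfl | rfl | rfl | rfl | rfl | rfl | rfl | rfl | rfl | rfl | rfl <;>
    simp only [map_mul, map_inv, map_pow, FreeGroup.lift_apply_of, fF] <;> assumption

theorem rel_P1 (h12 : (A * B⁻¹ * A * B * A * B⁻¹)⁻¹ * (S⁻¹ * (B⁻¹ * A * B * A) * S)⁻¹ *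
      (A * B⁻¹ * A * B * A * B⁻¹) * (S⁻¹ * (B⁻¹ * A * B * A) * S) = 1) :
    ∀ r ∈ P1.extra, FreeGroup.lift (fF A B T S) r = 1 := by
  intro r hr
  simp only [P1.extra, List.mem_cons, List.not_mem_nil, or_false] at hr
  rcases hr with rfl | rfl | rfl | rfl | rfl | rfl | rfl | rfl | rfl | rfl | rfl | rfl <;>
    simp only [map_mul, map_inv, map_pow, FreeGroup.lift_apply_of, fF] <;> assumption

theorem rel_P2 (h12 : (A * B⁻¹ * A * B * A * B⁻¹)⁻¹ * ((S ^ 3)⁻¹ * (A * B * A * B * A) * S ^ 3)⁻¹ *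
      (A * B⁻¹ * A * B * A * B⁻¹) * ((S ^ 3)⁻¹ * (A * B * A * B * A) * S ^ 3) = 1) :
    ∀ r ∈ P2.extra, FreeGroup.lift (fF A B T S) r = 1 := by
  intro r hr
  simp only [P2.extra, List.mem_cons, List.not_mem_nil, or_false] at hr
  rcases hr with rfl | rfl | rfl | rfl | rfl | rfl | rfl | rfl | rfl | rfl | rfl | rfl <;>
    simp only [map_mul, map_inv, map_pow, FreeGroup.lift_apply_of, fF] <;> assumption

theorem rel_P3 (h12 : (A * B⁻¹ * A * B * A * B⁻¹)⁻¹ * ((S ^ 3)⁻¹ * (B * A * B) * S ^ 3)⁻¹ *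
      (A * B⁻¹ * A * B * A * B⁻¹) * ((S ^ 3)⁻¹ * (B * A * B) * S ^ 3) = 1) :
    ∀ r ∈ P3.extra, FreeGroup.lift (fF A B T S) r = 1 := by
  intro r hr
  simp only [P3.extra, List.mem_cons, List.not_mem_nil, or_false] at hr
  rcases hr with rfl | rfl | rfl | rfl | rfl | rfl | rfl | rfl | rfl | rfl | rfl | rfl <;>
    simp only [map_mul, map_inv, map_pow, FreeGroup.lift_apply_of, fF] <;> assumption

end

theorem comm_rel {X Y : G} (h : Y * X = X * Y) : X⁻¹ * Y⁻¹ * X * Y = 1 := by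
  calc X⁻¹ * Y⁻¹ * X * Y = X⁻¹ * Y⁻¹ * (X * Y) := by group
    _ = X⁻¹ * Y⁻¹ * (Y * X) := by rw [h]
    _ = 1 := by group

end Rel

section Main

variable {G : Type*} [Group G] [Finite G] {t : G} (e : centralizer ({t} : Set G) ≃* CJ) (ht : orderOf t = 2)

theorem conj_pow_eq (g a : G) (n : ℕ) : (g * a * g⁻¹) ^ n = g * a ^ n * g⁻¹ := by
  induction n with
  | zero => simp
  | succ n ih =>
    rw [pow_succ, ih, pow_succ]
    group

include e ht in
/-- One step: an element of order five conjugated into the centralizer of `t`. -/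
theorem key_case (g z' x0 : G) (v : CJ) (hz5 : z' ^ 5 = 1) (hz1 : z' ≠ 1) (hzx : z' * x0 = x0 * z')
    (htz : t * z' * t⁻¹ = z'⁻¹) (hgt : z' * (g⁻¹ * t * g) = (g⁻¹ * t * g) * z')
    (hv : g * t * g⁻¹ = inH e v * t ∨ g * t * g⁻¹ = inH e v) :
    ∃ y : CJ, y ^ 5 = 1 ∧ y ≠ 1 ∧ v * y * v⁻¹ = y⁻¹ ∧
      ∀ (r : CJ) (i : ℕ), r = y ^ i → (g⁻¹ * inH e r * g) * x0 = x0 * (g⁻¹ * inH e r * g) := by
  have h0 : (g * z' * g⁻¹) ∈ centralizer ({t} : Set G) := by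
    rw [mem_centralizer_singleton_iff]
    have h1 : z' * (g⁻¹ * t * g) * g⁻¹ = (g⁻¹ * t * g) * z' * g⁻¹ := by rw [hgt]
    calc g * z' * g⁻¹ * t = g * (z' * (g⁻¹ * t * g) * g⁻¹) := by group
      _ = g * ((g⁻¹ * t * g) * z' * g⁻¹) := by rw [h1]
      _ = _ := by group
  obtain ⟨y, hy⟩ := exists_inH e h0
  have hy5 : y ^ 5 = 1 := by
    apply inH_inj e
    rw [map_pow, ← hy, conj_pow_eq, hz5, map_one]
    group
  have hy1 : y ≠ 1 := by
    rintro rfl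
    rw [map_one] at hy
    exact hz1 ((conj_eq_one_iff g z').mp hy)
  have htc : inH e y * t = t * inH e y := inH_comm e y
  have hinv0 : (g * t * g⁻¹) * (g * z' * g⁻¹) * (g * t * g⁻¹)⁻¹ = (g * z' * g⁻¹)⁻¹ := by
    calc (g * t * g⁻¹) * (g * z' * g⁻¹) * (g * t * g⁻¹)⁻¹ = g * (t * z' * t⁻¹) * g⁻¹ := by group
      _ = g * z'⁻¹ * g⁻¹ := by rw [htz]
      _ = _ := by group
  rw [hy] at hinv0
  have hinv1 : inH e v * inH e y * (inH e v)⁻¹ = (inH e y)⁻¹ := by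
    rcases hv with hv | hv
    · rw [hv] at hinv0
      have h2 : t * inH e y * t⁻¹ = inH e y := by
        rw [← htc]; group
      rw [← hinv0]
      calc inH e v * inH e y * (inH e v)⁻¹ = inH e v * (t * inH e y * t⁻¹) * (inH e v)⁻¹ := by rw [h2]
        _ = _ := by group
    · rw [hv] at hinv0
      exact hinv0
  refine ⟨y, hy5, hy1, ?_, ?_⟩
  · apply inH_inj e
    rw [map_mul, map_mul, map_inv, map_inv]
    exact hinv1
  · rintro r i rfl
    have h3 : g⁻¹ * inH e (y ^ i) * g = z' ^ i := by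
      rw [map_pow, ← hy, conj_pow_eq]
      group
    rw [h3]
    exact (Commute.pow_left (show Commute z' x0 from hzx) i).eq

variable [IsSimpleGroup G] (hG : Nat.card G = 175560)

include e ht hG

/-- The main theorem: the group is isomorphic to the matrix group. -/
theorem main_iso : Nonempty (G ≃* ↥Cfsg.Spor.J1) := by
  obtain ⟨s, c, c1, hc, hc1V, hc1, hs7, hm, h1, h2, h3⟩ := exists_s2 e ht hG
  obtain ⟨b, hμ, hV, ha2, hb3, hab5, hx3, hx1, hxi, hZ1, hZ2⟩ := exists_cfg c hc c1 hc1V hc1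
  set a := c⁻¹ * c1 * c with ha
  set A := inH e a with hA
  set B := inH e b with hB
  set W := inH e c1 with hW
  set x := wX a b with hx
  have hxA : inH e x = A * B⁻¹ * A * B * A * B⁻¹ := by
    simp only [hx, wX, map_mul, map_inv, hA, hB]
  have hμA : inH e c = A * B * A * B⁻¹ * A * B⁻¹ := by
    rw [← hμ]
    simp only [wMu, map_mul, map_inv, hA, hB]
  have hVA : W = B * A * B⁻¹ * A * B * A * B⁻¹ * A * B := by
    rw [hW, ← hV]
    simp only [wV1, map_mul, map_inv, hA, hB]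
  have hZT : inH e (wZT a b) = B * A * B⁻¹ * A * B * A * B⁻¹ * A := by
    simp only [wZT, map_mul, map_inv, hA, hB]
  have hZF : inH e (wZF a b) = B⁻¹ * A * B * A := by
    simp only [wZF, map_mul, map_inv, hA, hB]
  have hZ3 : inH e (wZ3 a b) = A * B * A * B * A := by
    simp only [wZ3, map_mul, map_inv, hA, hB]
  have hZ4 : inH e (wZ4 a b) = B * A * B := by
    simp only [wZ4, map_mul, map_inv, hA, hB]
  -- the relators
  have r1 : A ^ 2 = 1 := by rw [hA, ← map_pow, ha2, map_one]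
  have r2 : B ^ 3 = 1 := by rw [hB, ← map_pow, hb3, map_one]
  have r3 : (A * B) ^ 5 = 1 := by rw [hA, hB, ← map_mul, ← map_pow, hab5, map_one]
  have r4 : t ^ 2 = 1 := t_sq ht
  have r5 : t⁻¹ * A⁻¹ * t * A = 1 := comm_rel (inH_comm e a)
  have r6 : t⁻¹ * B⁻¹ * t * B = 1 := comm_rel (inH_comm e b)
  have r7 : s ^ 7 = 1 := hs7
  have r8 : (A * B * A * B⁻¹ * A * B⁻¹)⁻¹ * s * (A * B * A * B⁻¹ * A * B⁻¹) * s⁻¹ * s⁻¹ = 1 := by
    rw [← hμA, hm, pow_two]; group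
  have r9 : s⁻¹ * t * s * (B * A * B⁻¹ * A * B * A * B⁻¹ * A * B)⁻¹ = 1 := by
    rw [← hVA, h1, mul_inv_cancel]
  have r10 : s⁻¹ * (B * A * B⁻¹ * A * B * A * B⁻¹ * A * B) * s * A⁻¹ = 1 := by
    rw [← hVA, h2, mul_inv_cancel]
  have r11 : s⁻¹ * A * s * (B * A * B⁻¹ * A * B * A * B⁻¹ * A * B)⁻¹ * t⁻¹ = 1 := by
    rw [← hVA, h3]; group
  -- no collapse
  have hno : s ∉ closure ({A, B, t} : Set G) := by
    intro hs
    have hle : closure ({A, B, t} : Set G) ≤ centralizer ({t} : Set G) := by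
      rw [Subgroup.closure_le]
      rintro _ (rfl | rfl | rfl)
      · exact inH_mem e a
      · exact inH_mem e b
      · exact mem_tS
    have hst := hle hs
    rw [mem_centralizer_singleton_iff] at hst
    have h4 : W = t := by
      rw [← h1]
      calc s⁻¹ * t * s = s⁻¹ * (t * s) := by group
        _ = s⁻¹ * (s * t) := by rw [hst]
        _ = t := by group
    have h5 : inH e c1 = inH e cz := h4.trans (inH_cz e ht).symm
    exact cz_ne_inV c1 hc1V (inH_inj e h5)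
  have hP1 : (A * B⁻¹ * A * B * A * B⁻¹)⁻¹ * (s⁻¹ * (B⁻¹ * A * B * A) * s)⁻¹ *
      (A * B⁻¹ * A * B * A * B⁻¹) * (s⁻¹ * (B⁻¹ * A * B * A) * s) = 1 → False := by
    intro h
    exact hno (Cfsg.Agent.Lib.JUJ1.collapse1 (fF A B t s) (rel_P1 r1 r2 r3 r4 r5 r6 r7 r8 r9 r10 r11 h))
  have hP2 : (A * B⁻¹ * A * B * A * B⁻¹)⁻¹ * ((s ^ 3)⁻¹ * (A * B * A * B * A) * s ^ 3)⁻¹ *
      (A * B⁻¹ * A * B * A * B⁻¹) * ((s ^ 3)⁻¹ * (A * B * A * B * A) * s ^ 3) = 1 → False := by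
    intro h
    exact hno (Cfsg.Agent.Lib.JUJ1.collapse2 (fF A B t s) (rel_P2 r1 r2 r3 r4 r5 r6 r7 r8 r9 r10 r11 h))
  have hP3 : (A * B⁻¹ * A * B * A * B⁻¹)⁻¹ * ((s ^ 3)⁻¹ * (B * A * B) * s ^ 3)⁻¹ *
      (A * B⁻¹ * A * B * A * B⁻¹) * ((s ^ 3)⁻¹ * (B * A * B) * s ^ 3) = 1 → False := by
    intro h
    exact hno (Cfsg.Agent.Lib.JUJ1.collapse3 (fF A B t s) (rel_P3 r1 r2 r3 r4 r5 r6 r7 r8 r9 r10 r11 h))
  -- the element of order five
  have hwx : W * inH e x * W⁻¹ = (inH e x)⁻¹ := by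
    rw [hW, ← map_inv, ← map_mul, ← map_mul, hxi, map_inv]
  have hw2 : W ^ 2 = 1 := by
    rw [hW, ← map_pow, inV_sq c1 hc1V, map_one]
  obtain ⟨z', hz5, hz1, hzx, htz, hcase⟩ := exists_z5 e ht hG x hx3 hx1 (x3_two x hx3 hx1)
    (x3_five x hx3 hx1) W hw2 (inH_comm e c1) hwx
  rw [hxA] at hzx
  have ht1 : t⁻¹ = t := t_inv ht
  rcases hcase with hcase | hcase
  · -- the first case
    have hst : s * t * s⁻¹ = A * t := by
      have h4 : s * W * s⁻¹ = t := by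
        rw [← h1]; group
      have h5 : A = (s * t * s⁻¹) * t := by
        have h6 : s * (s⁻¹ * A * s) * s⁻¹ = A := by group
        rw [← h6, h3]
        calc s * (t * W) * s⁻¹ = (s * t * s⁻¹) * (s * W * s⁻¹) := by group
          _ = _ := by rw [h4]
      rw [h5]
      have ht2 : t * t = 1 := by rw [← pow_two, r4]
      calc s * t * s⁻¹ = (s * t * s⁻¹) * (t * t) := by rw [ht2, mul_one]
        _ = _ := by group
    have hgt : z' * (s⁻¹ * t * s) = (s⁻¹ * t * s) * z' := by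
      rw [h1]
      calc z' * W = (W * z' * W⁻¹) * W := by rw [hcase]
        _ = W * z' := by group
    obtain ⟨y, hy5, hy1, hyi, hyc⟩ := key_case e ht s z' _ a hz5 hz1 hzx htz hgt (Or.inl hst)
    rcases hZ1 y hy5 hy1 hyi with ⟨i, hi⟩ | ⟨i, hi⟩
    · have h6 := hyc _ _ hi
      rw [hZT] at h6
      have h7 := rel_P0 r1 r2 r3 r4 r5 r6 r7 r8 r9 r10 r11 (comm_rel h6)
      exact Cfsg.Agent.Lib.JUJ1.iso_of_rel hG (fF A B t s) h7 (t_ne_one ht)
    · have h6 := hyc _ _ hi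
      rw [hZF] at h6
      exact (hP1 (comm_rel h6)).elim
  · -- the second case
    have h7' : s ^ 7 = 1 := hs7
    have htau3 : (s ^ 3)⁻¹ * t * s ^ 3 = t * W := by
      rw [← h3, ← h2, ← h1]
      simp only [pow_succ, pow_zero, one_mul]
      group
    have htau4 : s ^ 3 * t * (s ^ 3)⁻¹ = W * A := by
      have h4 : s ^ 3 = (s ^ 4)⁻¹ := by
        rw [eq_inv_iff_mul_eq_one, ← pow_add]
        exact h7'
      have h5 : (s ^ 3)⁻¹ = s ^ 4 := by
        rw [h4, inv_inv]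
      rw [h5, h4]
      have h6 : s ^ 4 = s ^ 3 * s := pow_succ s 3
      calc (s ^ 4)⁻¹ * t * s ^ 4 = s⁻¹ * ((s ^ 3)⁻¹ * t * s ^ 3) * s := by rw [h6]; group
        _ = s⁻¹ * (t * W) * s := by rw [htau3]
        _ = (s⁻¹ * t * s) * (s⁻¹ * W * s) := by group
        _ = W * A := by rw [h1, h2]
    have hgt : z' * ((s ^ 3)⁻¹ * t * s ^ 3) = ((s ^ 3)⁻¹ * t * s ^ 3) * z' := by
      rw [htau3]
      calc z' * (t * W) = ((t * W) * z' * (t * W)⁻¹) * (t * W) := by rw [hcase]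
        _ = (t * W) * z' := by group
    obtain ⟨y, hy5, hy1, hyi, hyc⟩ := key_case e ht (s ^ 3) z' _ (c1 * a) hz5 hz1 hzx htz hgt
      (Or.inr (by rw [htau4, map_mul]))
    rcases hZ2 y hy5 hy1 hyi with ⟨i, hi⟩ | ⟨i, hi⟩
    · have h6 := hyc _ _ hi
      rw [hZ3] at h6
      exact (hP2 (comm_rel h6)).elim
    · have h6 := hyc _ _ hi
      rw [hZ4] at h6
      exact (hP3 (comm_rel h6)).elim

end Main

end Cfsg.Agent.Lib.JUG5
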