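import Cfsg.Prelude.Def_SporCoxeter

/-! Presentations on four generators used for the uniqueness of the first Janko group. -/

set_option autoImplicit false

namespace Cfsg.Agent.Lib.JUPres

/-- The generators. -/
inductive Gen
  | a
  | b
  | t
  | s
  deriving DecidableEq

/-- the first generator as a word -/ abbrev a : FreeGroup Gen := FreeGroup.of Gen.a
/-- the second generator as a word -/ abbrev b : FreeGroup Gen := FreeGroup.of Gen.b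
/-- the third generator as a word -/ abbrev t : FreeGroup Gen := FreeGroup.of Gen.t
/-- the fourth generator as a word -/ abbrev s : FreeGroup Gen := FreeGroup.of Gen.s

/-- no graph -/
def edges : List (Gen × ℕ × Gen) := []

/-- the element of order three normalising the element of order seven -/
def mu : FreeGroup Gen := a * b * a * b⁻¹ * a * b⁻¹

/-- the involution `s⁻¹ t s` -/
def v1 : FreeGroup Gen := b * a * b⁻¹ * a * b * a * b⁻¹ * a * b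

/-- the element of order three -/
def xw : FreeGroup Gen := a * b⁻¹ * a * b * a * b⁻¹

/-- the four candidates for the element of order five -/
def zT : FreeGroup Gen := b * a * b⁻¹ * a * b * a * b⁻¹ * a
/-- the four candidates for the element of order five -/
def zF : FreeGroup Gen := b⁻¹ * a * b * a
/-- the four candidates for the element of order five -/
def z3 : FreeGroup Gen := a * b * a * b * a
/-- the four candidates for the element of order five -/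
def z4 : FreeGroup Gen := b * a * b

namespace P0
/-- the relators -/
def extra : List (FreeGroup Gen) := [
  a ^ 2,
  b ^ 3,
  (a * b) ^ 5,
  t ^ 2,
  t⁻¹ * a⁻¹ * t * a,
  t⁻¹ * b⁻¹ * t * b,
  s ^ 7,
  (a * b * a * b⁻¹ * a * b⁻¹)⁻¹ * s * (a * b * a * b⁻¹ * a * b⁻¹) * s⁻¹ * s⁻¹,
  s⁻¹ * t * s * (b * a * b⁻¹ * a * b * a * b⁻¹ * a * b)⁻¹,
  s⁻¹ * (b * a * b⁻¹ * a * b * a * b⁻¹ * a * b) * s * a⁻¹,
  s⁻¹ * a * s * (b * a * b⁻¹ * a * b * a * b⁻¹ * a * b)⁻¹ * t⁻¹,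
  (a * b⁻¹ * a * b * a * b⁻¹)⁻¹ * (s⁻¹ * (b * a * b⁻¹ * a * b * a * b⁻¹ * a) * s)⁻¹ * (a * b⁻¹ * a * b * a * b⁻¹) * (s⁻¹ * (b * a * b⁻¹ * a * b * a * b⁻¹ * a) * s) ]
end P0

namespace P1
/-- the relators -/
def extra : List (FreeGroup Gen) := [
  a ^ 2,
  b ^ 3,
  (a * b) ^ 5,
  t ^ 2,
  t⁻¹ * a⁻¹ * t * a,
  t⁻¹ * b⁻¹ * t * b,
  s ^ 7,
  (a * b * a * b⁻¹ * a * b⁻¹)⁻¹ * s * (a * b * a * b⁻¹ * a * b⁻¹) * s⁻¹ * s⁻¹,
  s⁻¹ * t * s * (b * a * b⁻¹ * a * b * a * b⁻¹ * a * b)⁻¹,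
  s⁻¹ * (b * a * b⁻¹ * a * b * a * b⁻¹ * a * b) * s * a⁻¹,
  s⁻¹ * a * s * (b * a * b⁻¹ * a * b * a * b⁻¹ * a * b)⁻¹ * t⁻¹,
  (a * b⁻¹ * a * b * a * b⁻¹)⁻¹ * (s⁻¹ * (b⁻¹ * a * b * a) * s)⁻¹ * (a * b⁻¹ * a * b * a * b⁻¹) * (s⁻¹ * (b⁻¹ * a * b * a) * s) ]
end P1

namespace P2
/-- the relators -/
def extra : List (FreeGroup Gen) := [
  a ^ 2,
  b ^ 3,
  (a * b) ^ 5,
  t ^ 2,
  t⁻¹ * a⁻¹ * t * a,
  t⁻¹ * b⁻¹ * t * b,
  s ^ 7,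
  (a * b * a * b⁻¹ * a * b⁻¹)⁻¹ * s * (a * b * a * b⁻¹ * a * b⁻¹) * s⁻¹ * s⁻¹,
  s⁻¹ * t * s * (b * a * b⁻¹ * a * b * a * b⁻¹ * a * b)⁻¹,
  s⁻¹ * (b * a * b⁻¹ * a * b * a * b⁻¹ * a * b) * s * a⁻¹,
  s⁻¹ * a * s * (b * a * b⁻¹ * a * b * a * b⁻¹ * a * b)⁻¹ * t⁻¹,
  (a * b⁻¹ * a * b * a * b⁻¹)⁻¹ * ((s ^ 3)⁻¹ * (a * b * a * b * a) * s ^ 3)⁻¹ * (a * b⁻¹ * a * b * a * b⁻¹) * ((s ^ 3)⁻¹ * (a * b * a * b * a) * s ^ 3) ]
end P2

namespace P3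
/-- the relators -/
def extra : List (FreeGroup Gen) := [
  a ^ 2,
  b ^ 3,
  (a * b) ^ 5,
  t ^ 2,
  t⁻¹ * a⁻¹ * t * a,
  t⁻¹ * b⁻¹ * t * b,
  s ^ 7,
  (a * b * a * b⁻¹ * a * b⁻¹)⁻¹ * s * (a * b * a * b⁻¹ * a * b⁻¹) * s⁻¹ * s⁻¹,
  s⁻¹ * t * s * (b * a * b⁻¹ * a * b * a * b⁻¹ * a * b)⁻¹,
  s⁻¹ * (b * a * b⁻¹ * a * b * a * b⁻¹ * a * b) * s * a⁻¹,
  s⁻¹ * a * s * (b * a * b⁻¹ * a * b * a * b⁻¹ * a * b)⁻¹ * t⁻¹,
  (a * b⁻¹ * a * b * a * b⁻¹)⁻¹ * ((s ^ 3)⁻¹ * (b * a * b) * s ^ 3)⁻¹ * (a * b⁻¹ * a * b * a * b⁻¹) * ((s ^ 3)⁻¹ * (b * a * b) * s ^ 3) ]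
end P3

end Cfsg.Agent.Lib.JUPres

namespace Cfsg.Agent.Lib.JUPresC

/-- generators of the central product -/
inductive Gen
  | a
  | b
  | t
  deriving DecidableEq

/-- first generator -/ abbrev a : FreeGroup Gen := FreeGroup.of Gen.a
/-- second generator -/ abbrev b : FreeGroup Gen := FreeGroup.of Gen.b
/-- third generator -/ abbrev t : FreeGroup Gen := FreeGroup.of Gen.t
/-- no graph -/
def edges : List (Gen × ℕ × Gen) := []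

namespace C
/-- the relators -/
def extra : List (FreeGroup Gen) := [
  a ^ 2,
  b ^ 3,
  (a * b) ^ 5,
  t ^ 2,
  t⁻¹ * a⁻¹ * t * a,
  t⁻¹ * b⁻¹ * t * b ]
end C

end Cfsg.Agent.Lib.JUPresC
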