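import Mathlib
import Cfsg.Agent.S1011
import Cfsg.Agent.S0813
import Cfsg.Agent.Lib.PSL2Max

/-! A group of order 1512 with a self-centralising simple normal subgroup of order 504 is
`Aut (PSL₂(8))` (piece of S3285). -/

set_option autoImplicit false

namespace Cfsg.Agent.Lib.JZAut

theorem iso_of_index_three {G : Type*} [Group G] [Finite G] (hG : Nat.card G = 1512)
    (L : Subgroup G) (hL : L.Normal) (hS : IsSimpleGroup L) (hLc : Nat.card L = 504)
    (hcent : ∀ g : G, (∀ l ∈ L, g * l = l * g) → g = 1) :
    ∃ (F : Type) (_ : Field F) (_ : Fintype F), Fintype.card F = 8 ∧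
      Nonempty (G ≃* MulAut (Matrix.ProjectiveSpecialLinearGroup (Fin 2) F)) := by
  classical
  have : Fact (Nat.Prime 2) := ⟨Nat.prime_two⟩
  have hcardGF : Nat.card (GaloisField 2 3) = 8 := by
    rw [GaloisField.card 2 3 (by norm_num)]
    norm_num
  haveI : Finite (GaloisField 2 3) := Nat.finite_of_card_ne_zero (by rw [hcardGF]; norm_num)
  letI instF : Fintype (GaloisField 2 3) := Fintype.ofFinite _
  have hF : Fintype.card (GaloisField 2 3) = 8 := by
    rw [← Nat.card_eq_fintype_card, hcardGF]
  refine ⟨GaloisField 2 3, inferInstance, instF, hF, ?_⟩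
  set P := Matrix.ProjectiveSpecialLinearGroup (Fin 2) (GaloisField 2 3) with hP
  obtain ⟨e⟩ := Cfsg.Agent.S1011.result (G := ↥L) hLc (F := GaloisField 2 3) hF
  have hcardAut : Nat.card (MulAut P) = 1512 := by
    have h1 := Cfsg.Agent.S0813.result (F := GaloisField 2 3) 2 3 (by norm_num)
      (by rw [hF]; norm_num) 2 (le_refl 2) (fun _ => by norm_num)
    rw [h1, Cfsg.Agent.Lib.PSL2Max.card_PGL2_form, hF]
    norm_num
  -- the homomorphism
  let φ : G →* MulAut P :=
    { toFun := fun g =>
        { toFun := fun x => e ⟨g * (e.symm x : G) * g⁻¹, hL.conj_mem _ (e.symm x).2 g⟩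
          invFun := fun x => e ⟨g⁻¹ * (e.symm x : G) * g, by
            have := hL.conj_mem _ (e.symm x).2 g⁻¹
            simpa using this⟩
          left_inv := by
            intro x
            apply e.symm.injective
            apply Subtype.ext
            simp [mul_assoc]
          right_inv := by
            intro x
            apply e.symm.injective
            apply Subtype.ext
            simp [mul_assoc]
          map_mul' := by
            intro x y
            rw [← map_mul]
            congr 1
            apply Subtype.ext
            simp [mul_assoc] }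
      map_one' := by
        ext x
        simp
      map_mul' := by
        intro a b
        apply MulEquiv.ext
        intro x
        show e _ = e _
        congr 1
        apply Subtype.ext
        simp [mul_assoc] }
  have hinj : Function.Injective φ := by
    rw [injective_iff_map_eq_one]
    intro g hg
    apply hcent
    intro l hl
    have h1 : φ g (e ⟨l, hl⟩) = e ⟨l, hl⟩ := by rw [hg]; rfl
    have h2 := e.injective h1
    have h3 : g * l * g⁻¹ = l := by
      have h4 := congrArg Subtype.val h2
      simpa using h4
    calc g * l = g * l * g⁻¹ * g := by group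
      _ = l * g := by rw [h3]
  have hbij : Function.Bijective φ :=
    hinj.bijective_of_nat_card_le (by rw [hcardAut, hG])
  exact ⟨MulEquiv.ofBijective φ hbij⟩

end Cfsg.Agent.Lib.JZAut
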