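import Mathlib
import Cfsg.Agent.Lib.JZF
import Cfsg.Agent.Lib.JZAut

/-!
# Groups with the local structure `E8Str`: the subgroup `L` is simple, and `G` is `Aut (PSL₂(8))`.
-/

set_option autoImplicit false
set_option linter.unusedVariables false
set_option linter.unusedSectionVars false
set_option linter.style.haveILetI false

namespace Cfsg.Agent.Lib.JZG

open Subgroup Cfsg.Agent.Lib.JZB Cfsg.Agent.Lib.JZC Cfsg.Agent.Lib.JZD Cfsg.Agent.Lib.JZE Cfsg.Agent.Lib.JZF
open Cfsg.Agent.Lib.SmallGroups2 (mem_smul_sylow_iff)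

variable {G : Type*} [Group G] [Finite G]

variable {A B : Sylow 2 G} {s z a w : G} (h : E8Str G) (c : Cfg A B s z a w)

include h c

/-- Every involution is conjugate into `A` under `L`. -/
theorem conj_into_A {v : G} (hv : v ^ 2 = 1) (hv1 : v ≠ 1) :
    ∃ l ∈ LA A s w, l * v * l⁻¹ ∈ (A : Subgroup G) := by
  obtain ⟨E, hE⟩ := exists_mem hv hv1
  by_cases hEA : E = A
  · subst hEA
    exact ⟨1, one_mem _, by simpa using hE⟩
  · obtain ⟨x₀, hx₀, hx₀E⟩ := A_trans h c.hAB (Ne.symm hEA)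
    have hE' : (x₀ * w) • A = E := by rw [mul_smul, c.hwA, hx₀E]
    refine ⟨(x₀ * w)⁻¹, inv_mem (mul_mem (A_le hx₀) w_mem), ?_⟩
    have h1 : v ∈ (((x₀ * w) • A : Sylow 2 G) : Subgroup G) := by rw [hE']; exact hE
    rw [mem_smul_sylow_iff] at h1
    rwa [inv_inv]

/-- A subgroup of `L`, normalized by `L`, containing an involution, contains `L`. -/
theorem big_case {K : Subgroup G} (hnorm : ∀ l ∈ LA A s w, ∀ k ∈ K, l * k * l⁻¹ ∈ K) {x : G} (hx : x ∈ K)
    (hx2 : x ^ 2 = 1) (hx1 : x ≠ 1) : LA A s w ≤ K := by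
  have hatr' := hatr h c
  have hne : ∀ {l v : G}, v ≠ 1 → l * v * l⁻¹ ≠ 1 := by
    intro l v hv h5
    apply hv
    have : v = l⁻¹ * (l * v * l⁻¹) * l := by group
    rw [this, h5]
    group
  have hallinv : ∀ v : G, v ^ 2 = 1 → v ≠ 1 → v ∈ K := by
    intro v hv hv1
    obtain ⟨l₁, hl₁, hx₁⟩ := conj_into_A h c hx2 hx1
    obtain ⟨l₂, hl₂, hv₁⟩ := conj_into_A h c hv hv1
    obtain ⟨t₁, ht₁, e₁⟩ := hatr' _ hx₁ (hne hx1)
    obtain ⟨t₂, ht₂, e₂⟩ := hatr' _ hv₁ (hne hv1)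
    have ht₁L : t₁ ∈ LA A s w := (zpowers_le.2 s_mem) ht₁
    have ht₂L : t₂ ∈ LA A s w := (zpowers_le.2 s_mem) ht₂
    have hg : l₂⁻¹ * t₂ * t₁⁻¹ * l₁ ∈ LA A s w :=
      mul_mem (mul_mem (mul_mem (inv_mem hl₂) ht₂L) (inv_mem ht₁L)) hl₁
    have h1 := hnorm _ hg x hx
    have h2 : l₂⁻¹ * t₂ * t₁⁻¹ * l₁ * x * (l₂⁻¹ * t₂ * t₁⁻¹ * l₁)⁻¹ = v := by
      have h3 : a = t₁⁻¹ * (l₁ * x * l₁⁻¹) * t₁ := by rw [e₁]; group
      have h4 : v = l₂⁻¹ * (t₂ * a * t₂⁻¹) * l₂ := by rw [← e₂]; group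
      rw [h4, h3]
      group
    rwa [h2] at h1
  have hAK : (A : Subgroup G) ≤ K := by
    intro y hy
    by_cases hy1 : y = 1
    · rw [hy1]; exact one_mem _
    · exact hallinv y (h.elem A y hy) hy1
  have hwK : w ∈ K := hallinv w c.hw2 c.hw1
  have hww' := hww c
  have hwi := inv_eq_of_sq c.hw2
  have hws' : w * s * w = s⁻¹ := by
    have := c.hws
    rwa [hwi] at this
  have hwsK : w * s ∈ K := by
    refine hallinv _ ?_ ?_
    · rw [pow_two]
      calc w * s * (w * s) = (w * s * w) * s := by group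
        _ = 1 := by rw [hws']; group
    · intro h5
      have h6 : s = w⁻¹ := eq_inv_of_mul_eq_one_right h5
      rw [hwi] at h6
      have h7 := c.ho
      rw [h6] at h7
      have h8 := orderOf_dvd_of_pow_eq_one c.hw2
      rw [h7] at h8
      omega
  have hsK : s ∈ K := by
    have h1 := mul_mem hwK hwsK
    have h2 : w * (w * s) = s := by rw [← mul_assoc, hww', one_mul]
    rwa [h2] at h1
  refine (closure_le _).2 ?_
  rintro y (hy | hy | hy)
  · exact hAK hy
  · have hy' : y = s := hy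
    rw [hy']; exact hsK
  · have hy' : y = w := hy
    rw [hy']; exact hwK

/-- A subgroup of `L`, normalized by `L`, without involutions, is trivial. -/
theorem small_case {K : Subgroup G} (hKL : K ≤ LA A s w) (hnorm : ∀ l ∈ LA A s w, ∀ k ∈ K, l * k * l⁻¹ ∈ K)
    (hinv : ∀ x ∈ K, x ^ 2 = 1 → x = 1) : K = ⊥ := by
  classical
  haveI : Fact (Nat.Prime 7) := ⟨by norm_num⟩
  haveI : Fact (Nat.Prime 2) := ⟨by norm_num⟩
  have htriv : ∀ u ∈ K, u ∈ NN A → u = 1 := by
    intro u hu huN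
    have hcomm : ∀ x ∈ (A : Subgroup G), u * x = x * u := by
      intro x hx
      have h1 : u * x * u⁻¹ * x⁻¹ ∈ (A : Subgroup G) :=
        mul_mem ((Subgroup.mem_normalizer_iff.1 huN x).1 hx) (inv_mem hx)
      have h2 : u * x * u⁻¹ * x⁻¹ ∈ K := by
        have h3 := mul_mem hu (hnorm x (A_le hx) u⁻¹ (inv_mem hu))
        have h4 : u * (x * u⁻¹ * x⁻¹) = u * x * u⁻¹ * x⁻¹ := by group
        rwa [h4] at h3
      have h3 := hinv _ h2 (h.elem A _ h1)
      calc u * x = (u * x * u⁻¹ * x⁻¹) * (x * u) := by group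
        _ = x * u := by rw [h3, one_mul]
    exact hinv u hu (h.elem A u (h.self_cent A u hcomm))
  have hle9 : Nat.card K ≤ 9 := by
    rw [← card_nine h]
    refine Nat.card_le_card_of_injective (fun k : K => (k : G) • A) ?_
    rintro ⟨k, hk⟩ ⟨k', hk'⟩ hkk
    have h1 : k • A = k' • A := hkk
    have h2 : k'⁻¹ * k ∈ NN A := by
      rw [mem_NN_iff, mul_smul, h1, inv_smul_smul]
    have h3 := htriv _ (mul_mem (inv_mem hk') hk) h2
    apply Subtype.ext
    show k = k'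
    have h4 : k' * (k'⁻¹ * k) = k' := by rw [h3, mul_one]
    simpa using h4
  have hodd : ¬ 2 ∣ Nat.card K := by
    intro h2
    obtain ⟨t, ht⟩ := exists_prime_orderOf_dvd_card' (G := K) 2 h2
    have ht2 : (t : G) ^ 2 = 1 := by
      have : (t : G) ^ 2 = ((t ^ 2 : K) : G) := by simp
      rw [this, ← ht, pow_orderOf_eq_one]
      rfl
    have h3 := hinv t t.2 ht2
    have h4 : orderOf (t : G) = 2 := by rw [Subgroup.orderOf_coe]; exact ht
    rw [h3, orderOf_one] at h4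
    omega
  have hsN : s ∈ normalizer ((K : Subgroup G) : Set G) := by
    rw [Subgroup.mem_normalizer_iff]
    intro y
    constructor
    · exact hnorm s s_mem y
    · intro h1
      have h2 := hnorm s⁻¹ (inv_mem s_mem) _ h1
      have h3 : s⁻¹ * (s * y * s⁻¹) * s⁻¹⁻¹ = y := by group
      rwa [h3] at h2
  have hs7 : s ^ 7 = 1 := by rw [← c.ho]; exact pow_orderOf_eq_one s
  have hmod := conj_mod hsN hs7
  have hfix : K ⊓ centralizer ({s} : Set G) = ⊥ := by
    rw [Subgroup.eq_bot_iff_forall]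
    rintro k ⟨hk, hks⟩
    have hks' : k * s = s * k := mem_centralizer_singleton_iff.1 hks
    by_contra hk1
    have hkA : k • A ≠ A := by
      intro h1
      exact hk1 (htriv k hk (mem_NN_iff.2 h1))
    have hsfix : ∀ y : G, y * s = s * y → s ∈ NN (y • A) := by
      intro y hy
      rw [mem_NN_iff, smul_smul, ← hy, mul_smul, mem_NN_iff.1 c.hsA]
    have h1 : k • A = B := by
      rcases fix_two h c.hAB c.hsA c.hsB (hsfix k hks') c.ho with h2 | h2
      · exact absurd h2 hkA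
      · exact h2
    have hk2 : k * k ≠ 1 := by
      intro h2
      exact hk1 (hinv k hk (by rw [pow_two]; exact h2))
    have hkkA : (k * k) • A ≠ A := by
      intro h2
      exact hk2 (htriv _ (mul_mem hk hk) (mem_NN_iff.2 h2))
    have hcomm2 : (k * k) * s = s * (k * k) := by
      rw [mul_assoc, hks', ← mul_assoc, hks', mul_assoc]
    have h2 : (k * k) • A = B := by
      rcases fix_two h c.hAB c.hsA c.hsB (hsfix _ hcomm2) c.ho with h3 | h3
      · exact absurd h3 hkkA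
      · exact h3
    apply hkA
    have h3 : k • (k • A) = k • A := by
      rw [smul_smul, h2, h1]
    exact smul_left_cancel k h3
  rw [hfix, Subgroup.card_bot] at hmod
  have hone : Nat.card K = 1 := by omega
  exact Subgroup.eq_bot_of_card_eq _ hone

/-- `L` is simple. -/
theorem simple_L : IsSimpleGroup (LA A s w) := by
  haveI : Nontrivial (LA A s w) := ⟨⟨⟨a, A_le c.ha⟩, 1, fun h5 => c.ha1 (congrArg Subtype.val h5)⟩⟩
  refine { eq_bot_or_eq_top_of_normal := ?_ }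
  intro K hK
  let K' : Subgroup G := K.map (LA A s w).subtype
  have hKL : K' ≤ LA A s w := by
    rintro _ ⟨y, _, rfl⟩
    exact y.2
  have hnorm : ∀ l ∈ LA A s w, ∀ k ∈ K', l * k * l⁻¹ ∈ K' := by
    rintro l hl _ ⟨y, hy, rfl⟩
    exact ⟨⟨l, hl⟩ * y * ⟨l, hl⟩⁻¹, hK.conj_mem y hy ⟨l, hl⟩, rfl⟩
  by_cases hinv : ∀ x ∈ K', x ^ 2 = 1 → x = 1
  · left
    have h1 := small_case h c hKL hnorm hinv
    rw [Subgroup.eq_bot_iff_forall]
    intro y hy
    have h2 : (y : G) ∈ K' := ⟨y, hy, rfl⟩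
    rw [h1] at h2
    exact Subtype.ext h2
  · right
    push Not at hinv
    obtain ⟨x, hx, hx2, hx1⟩ := hinv
    have h1 := big_case h c hnorm hx hx2 hx1
    rw [eq_top_iff]
    rintro ⟨l, hl⟩ -
    obtain ⟨y, hy, hyl⟩ := h1 hl
    have : y = ⟨l, hl⟩ := Subtype.ext hyl
    rwa [← this]

end Cfsg.Agent.Lib.JZG

namespace Cfsg.Agent.Lib.JZG

/-- The final identification. -/
theorem final {G : Type*} [Group G] [Finite G] (h : Cfsg.Agent.Lib.JZB.E8Str G) :
    ∃ (F : Type) (_ : Field F) (_ : Fintype F), Fintype.card F = 8 ∧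
      Nonempty (G ≃* MulAut (Matrix.ProjectiveSpecialLinearGroup (Fin 2) F)) := by
  obtain ⟨A, B, s, z, a, w, c⟩ := Cfsg.Agent.Lib.JZF.exists_cfg h
  exact Cfsg.Agent.Lib.JZAut.iso_of_index_three (Cfsg.Agent.Lib.JZC.card_G h) _
    (Cfsg.Agent.Lib.JZF.L_normal h c) (simple_L h c) (Cfsg.Agent.Lib.JZF.card_L h c)
    (Cfsg.Agent.Lib.JZF.cent_triv h c)

end Cfsg.Agent.Lib.JZG
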