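import Mathlib
import Cfsg.Agent.Lib.JZM5c
import Cfsg.Agent.Lib.JOrdC
import Cfsg.Agent.Lib.JUG5

/-!
# Centralizer `2 × A₅`: recognition of the first Janko group
-/

set_option autoImplicit false
set_option linter.unusedVariables false
set_option linter.unusedSectionVars false
set_option linter.style.haveILetI false

namespace Cfsg.Agent.Lib.JZM5

open Subgroup Cfsg.Agent.Lib.JZA

variable {G : Type*} [Group G] [Finite G] {J : G} {T : Subgroup G}

theorem m5_final (hJ : orderOf J = 2)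
    (hd : Cfsg.IsInternalDirectProduct (zpowers J) T (centralizer ({J} : Set G))) (e₀ : T ≃* A5)
    (P : Sylow 2 G) (hJP : J ∈ P) (hc : ∀ x ∈ P, x * J = J * x) (h8 : Nat.card P = 8)
    (hel : ∀ x ∈ P, x ^ 2 = 1)
    (horb : ∀ u ∈ P, u ≠ 1 → ∃ n ∈ normalizer ((P : Subgroup G) : Set G), n * J * n⁻¹ = u) :
    Cfsg.Spor.IsoJ1 G := by
  haveI := simple_of hJ hd e₀ P hJP hc h8 hel horb
  haveI : Fact (Nat.Prime 2) := ⟨Nat.prime_two⟩
  have h1 := P.card_eq_multiplicity
  rw [h8] at h1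
  have hn : Nat.card G ≠ 0 := Nat.card_pos.ne'
  have h2 := Nat.ordProj_mul_ordCompl_eq_self (Nat.card G) 2
  have h3 : ¬ 2 ∣ Nat.card G / 2 ^ (Nat.card G).factorization 2 :=
    Nat.not_dvd_ordCompl Nat.prime_two hn
  have hk : Odd (Nat.card G / 2 ^ (Nat.card G).factorization 2) := by
    rw [← Nat.not_even_iff_odd, even_iff_two_dvd]
    exact h3
  have hG : Nat.card G = 8 * (Nat.card G / 2 ^ (Nat.card G).factorization 2) :=
    h2.symm.trans (by rw [← h1])
  have e := eCJ hJ hd e₀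
  have hG' := Cfsg.Agent.Lib.JOrdC.card_main hJ e hk hG
  exact Cfsg.Agent.Lib.JUG5.main_iso e hJ hG'

end Cfsg.Agent.Lib.JZM5
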