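import Mathlib
import Cfsg.Agent.Lib.JZM5d
import Cfsg.Agent.Lib.JZOrb

/-!
# Centralizer `2 × A₅` of a two-central involution: the group is the first Janko group
-/

set_option autoImplicit false
set_option linter.unusedVariables false
set_option linter.unusedSectionVars false

namespace Cfsg.Agent.Lib.JZM5

open Subgroup Cfsg.Agent.Lib.JZA

theorem m5_iso {G : Type*} [Group G] [Finite G] (h2 : ∀ N : Subgroup G, N.Normal → N.index ≠ 2)
    {J : G} (hJ : Cfsg.IsTwoCentralInvolution J) {T : Subgroup G}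
    (hT : Nonempty (↥T ≃* ↥(alternatingGroup (Fin 5))))
    (hd : Cfsg.IsInternalDirectProduct (zpowers J) T (centralizer ({J} : Set G))) :
    Cfsg.Spor.IsoJ1 G := by
  obtain ⟨hJ2, P, hJP, hc⟩ := hJ
  obtain ⟨e₀⟩ := hT
  have hP : (P : Subgroup G) ≤ centralizer ({J} : Set G) := fun x hx => by
    rw [mem_centralizer_singleton_iff]; exact hc x hx
  have e := eCJ hJ2 hd e₀
  have h8 := card_sylow8 e P hP
  have hel := sq_of_mem e P hP h8
  have horb := Cfsg.Agent.Lib.JZOrb.orbit_all h2 hJ2 hd P hJP hc h8 hel (tau_T e₀)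
  exact m5_final hJ2 hd e₀ P hJP hc h8 hel horb

end Cfsg.Agent.Lib.JZM5
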