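import Mathlib

/-!
# Jordan-type theorem: primitive groups containing a prime cycle of small support

`alternatingGroup_le_of_cycle`: a primitive subgroup of `Perm α` containing a cycle of prime length `q`
with `2 * q ≤ |α|` (in fact `2 * q - 1 ≤ |α|`) contains the alternating group.  (Mathlib has it only for
`q = 3`; the general case for large degree follows by making a three-cycle as a commutator.)
-/

set_option autoImplicit false
set_option linter.style.haveILetI false
set_option linter.unusedSectionVars false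
set_option linter.unusedVariables false

namespace Cfsg.Agent.Lib.JordanPrimeCycle

open Equiv Equiv.Perm MulAction
open scoped Pointwise

variable {α : Type*} [DecidableEq α]

theorem ais (e : Perm α) (m : α) : e (e⁻¹ m) = m := e.apply_symm_apply m

theorem ias (e : Perm α) (m : α) : e⁻¹ (e m) = m := e.symm_apply_apply m

/-- Commutator of two permutations whose supports meet exactly in `a`. -/
theorem commutator_eq_of_support_inter (x y : Perm α) (a : α) (hxa : x a ≠ a) (hya : y a ≠ a)
    (h : ∀ w, x w ≠ w → y w ≠ w → w = a) :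
    x * y * x⁻¹ * y⁻¹ = swap a (y a) * swap a (x a) := by
  have hxx : x (x a) ≠ x a := fun h' => hxa (x.injective h')
  have hyy : y (y a) ≠ y a := fun h' => hya (y.injective h')
  -- `x a` is not moved by `y`, and `y a` is not moved by `x`
  have hy_xa : y (x a) = x a := by
    by_contra hne
    exact hxa (h _ hxx hne)
  have hx_ya : x (y a) = y a := by
    by_contra hne
    exact hya (h _ hne hyy)
  have hne : x a ≠ y a := by
    intro he
    apply hxx
    rw [he]
    exact hx_ya
  ext w
  simp only [Perm.mul_apply]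
  -- cases for `w`
  by_cases hwa : w = a
  · subst hwa
    -- `c w = x w`
    have h1 : x⁻¹ (y⁻¹ w) = y⁻¹ w := by
      rw [inv_eq_iff_eq]
      by_contra hne2
      have h2 : y (y⁻¹ w) ≠ y⁻¹ w := by
        rw [ais]
        intro h3
        rw [eq_inv_iff_eq] at h3
        exact hya h3
      have h3 := h _ (fun h4 => hne2 h4.symm) h2
      rw [inv_eq_iff_eq] at h3
      exact hya h3.symm
    rw [h1, ais]
    rw [swap_apply_left, swap_apply_of_ne_of_ne hxa hne]
  by_cases hwy : w = y a
  · subst hwy
    have h1 : y⁻¹ (y a) = a := ias y a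
    rw [h1]
    have h2 : x⁻¹ a ≠ a := by
      intro h3
      rw [inv_eq_iff_eq] at h3
      exact hxa h3.symm
    have h3 : y (x⁻¹ a) = x⁻¹ a := by
      by_contra hne2
      have h4 : x (x⁻¹ a) ≠ x⁻¹ a := by
        rw [ais]
        exact fun h5 => h2 h5.symm
      exact h2 (h _ h4 hne2)
    rw [h3, ais]
    rw [swap_apply_of_ne_of_ne hya hne.symm, swap_apply_right]
  by_cases hwx : w = x a
  · subst hwx
    have h1 : y⁻¹ (x a) = x a := by
      rw [inv_eq_iff_eq]; exact hy_xa.symm
    rw [h1, ias, swap_apply_right, swap_apply_left, hx_ya]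
  · -- `w` is moved by at most one
    rw [swap_apply_of_ne_of_ne hwa hwx, swap_apply_of_ne_of_ne hwa hwy]
    by_cases hyw : y⁻¹ w = w
    · rw [hyw]
      have hxw : x⁻¹ w ≠ a := by
        intro h3
        rw [inv_eq_iff_eq] at h3
        exact hwx h3
      have hyw2 : y (x⁻¹ w) = x⁻¹ w := by
        by_contra hne2
        have h4 : x (x⁻¹ w) ≠ x⁻¹ w := by
          intro h5
          rw [ais] at h5
          apply hne2
          rw [← h5]
          have h8 := hyw
          rw [inv_eq_iff_eq] at h8
          exact h8.symm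
        exact hxw (h _ h4 hne2)
      rw [hyw2, ais]
    · -- `y` moves `w`, thus `x` fixes `w`, `x` fixes `y⁻¹ w` as well
      have hyw' : y w ≠ w := by
        intro h3
        apply hyw
        rw [inv_eq_iff_eq]
        exact h3.symm
      have hxw : x w = w := by
        by_contra hne2
        exact hwa (h _ hne2 hyw')
      have hyy' : y (y⁻¹ w) ≠ y⁻¹ w := by
        rw [ais]
        exact fun h3 => hyw h3.symm
      have hxyw : x (y⁻¹ w) = y⁻¹ w := by
        by_contra hne2
        have h3 := h _ hne2 hyy'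
        rw [inv_eq_iff_eq] at h3
        exact hwy h3
      have h1 : x⁻¹ (y⁻¹ w) = y⁻¹ w := by
        rw [inv_eq_iff_eq]; exact hxyw.symm
      rw [h1, ais, hxw]

/-- A primitive group containing a prime cycle with small support contains the alternating group. -/
theorem alternatingGroup_le_of_cycle [Fintype α] {G : Subgroup (Perm α)} (hG : IsPreprimitive G α)
    {t : Perm α} (htc : t.IsCycle) (htq : t.support.card.Prime)
    (hcard : 2 * t.support.card ≤ Nat.card α) (ht : t ∈ G) : alternatingGroup α ≤ G := by
  classical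
  set q := t.support.card with hq
  have hq2 : 2 ≤ q := htq.two_le
  have hcardF : Nat.card α = Fintype.card α := Nat.card_eq_fintype_card
  -- complement of the support
  have hcompl : ((t.support : Set α)ᶜ).ncard = Nat.card α - q := by
    rw [← Set.ncard_coe_finset t.support] at hq
    rw [Set.ncard_compl, ← hq]
  obtain ⟨m, hm⟩ : ∃ m, Nat.card α - q = m + 1 := ⟨Nat.card α - q - 1, by omega⟩
  have hprim : IsPreprimitive (fixingSubgroup G ((t.support : Set α)ᶜ))
      (SubMulAction.ofFixingSubgroup G ((t.support : Set α)ᶜ)) := by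
    haveI := isPretransitive_of_isCycle_mem htc ht
    apply IsPreprimitive.of_prime_card
    convert htq
    rw [Nat.card_eq_fintype_card, Fintype.card_subtype]
    apply congr_arg
    ext x
    simp [SubMulAction.mem_ofFixingSubgroup_iff]
  have hmp : IsMultiplyPreprimitive G α (m + 2) :=
    hG.isMultiplyPreprimitive (s := ((t.support : Set α)ᶜ)) (n := m) (by rw [hcompl, hm]) (by omega) hprim
  haveI hmt : IsMultiplyPretransitive G α (m + 2) := IsMultiplyPreprimitive.isMultiplyPretransitive ..
  haveI hqt : IsMultiplyPretransitive G α q :=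
    isMultiplyPretransitive_of_le (n := m + 2) (by omega) (by omega)
  -- choose the set
  obtain ⟨a, ha⟩ : t.support.Nonempty := by
    rw [← Finset.card_pos, ← hq]
    omega
  obtain ⟨S₀, hS₀, hS₀c⟩ : ∃ S₀ ⊆ t.supportᶜ, S₀.card = q - 1 := by
    apply Finset.exists_subset_card_eq
    rw [Finset.card_compl, ← hq, ← hcardF]
    omega
  have haS₀ : a ∉ S₀ := by
    intro h
    have := hS₀ h
    rw [Finset.mem_compl] at this
    exact this ha
  let S' : Finset α := insert a S₀
  have hS'c : S'.card = q := by
    rw [Finset.card_insert_of_notMem haS₀, hS₀c]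
    omega
  -- enumerations
  let e : Fin q ≃ ↥t.support := (Finset.equivFinOfCardEq (hq.symm)).symm
  let e' : Fin q ≃ ↥S' := (Finset.equivFinOfCardEq hS'c).symm
  let u : Fin q ↪ α := ⟨fun i => (e i : α), fun i j hij => e.injective (Subtype.ext hij)⟩
  let u' : Fin q ↪ α := ⟨fun i => (e' i : α), fun i j hij => e'.injective (Subtype.ext hij)⟩
  obtain ⟨g, hg⟩ := (isMultiplyPretransitive_iff.1 hqt) u u'
  have hgu : ∀ i, (g : Perm α) (u i) = u' i := by
    intro i
    have := DFunLike.congr_fun hg i
    exact this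
  have hsup : ∀ w, t w ≠ w ↔ ∃ i, u i = w := by
    intro w
    constructor
    · intro hw
      refine ⟨e.symm ⟨w, by simpa using hw⟩, ?_⟩
      show ((e (e.symm ⟨w, _⟩) : ↥t.support) : α) = w
      rw [Equiv.apply_symm_apply]
    · rintro ⟨i, rfl⟩
      exact Equiv.Perm.mem_support.1 (e i).2
  have hS' : ∀ w, w ∈ S' ↔ ∃ i, u' i = w := by
    intro w
    constructor
    · intro hw
      refine ⟨e'.symm ⟨w, hw⟩, ?_⟩
      show ((e' (e'.symm ⟨w, _⟩) : ↥S') : α) = w
      rw [Equiv.apply_symm_apply]
    · rintro ⟨i, rfl⟩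
      exact (e' i).2
  let t₁ : Perm α := (g : Perm α) * t * (g : Perm α)⁻¹
  have ht₁ : t₁ ∈ G := G.mul_mem (G.mul_mem g.2 ht) (G.inv_mem g.2)
  have ht₁w : ∀ w, t₁ w ≠ w → w ∈ S' := by
    intro w hw
    rw [hS']
    have h1 : t ((g : Perm α)⁻¹ w) ≠ (g : Perm α)⁻¹ w := by
      intro h2
      apply hw
      show (g : Perm α) (t ((g : Perm α)⁻¹ w)) = w
      rw [h2, ais]
    obtain ⟨i, hi⟩ := (hsup _).1 h1
    refine ⟨i, ?_⟩
    rw [← hgu, hi, ais]
  have hta : t a ≠ a := by simpa using ha
  have haS' : a ∈ S' := Finset.mem_insert_self _ _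
  have ht₁a : t₁ a ≠ a := by
    obtain ⟨i, hi⟩ := (hS' a).1 haS'
    have h1 : (g : Perm α) (u i) = a := by rw [hgu, hi]
    have h2 : (g : Perm α)⁻¹ a = u i := by rw [inv_eq_iff_eq]; exact h1.symm
    intro h3
    have h4 : (g : Perm α) (t ((g : Perm α)⁻¹ a)) = a := h3
    rw [h2] at h4
    have h5 : t (u i) = u i := by
      apply (g : Perm α).injective
      rw [h4, h1]
    exact (hsup _).2 ⟨i, rfl⟩ h5
  have hinter : ∀ w, t w ≠ w → t₁ w ≠ w → w = a := by
    intro w h1 h2
    have h3 := ht₁w w h2
    rcases Finset.mem_insert.1 h3 with h4 | h4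
    · exact h4
    · exfalso
      have h5 := hS₀ h4
      rw [Finset.mem_compl] at h5
      exact h5 (by simpa using h1)
  have hcomm := commutator_eq_of_support_inter t t₁ a hta ht₁a hinter
  have hmem : swap a (t₁ a) * swap a (t a) ∈ G := by
    rw [← hcomm]
    exact G.mul_mem (G.mul_mem (G.mul_mem ht ht₁) (G.inv_mem ht)) (G.inv_mem ht₁)
  have hne : t₁ a ≠ t a := by
    intro he
    have h1 : t (t a) ≠ t a := fun h2 => hta (t.injective h2)
    have h2 : t₁ (t a) ≠ t a := by
      rw [← he]
      exact fun h3 => ht₁a (t₁.injective h3)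
    exact hta (hinter _ h1 h2)
  have h3 : IsThreeCycle (swap a (t₁ a) * swap a (t a)) :=
    isThreeCycle_swap_mul_swap_same ht₁a.symm hta.symm hne
  exact alternatingGroup_le_of_isPreprimitive_of_isThreeCycle_mem hG h3 hmem

end Cfsg.Agent.Lib.JordanPrimeCycle
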