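import Mathlib
import Cfsg.Agent.Lib.CharTwoLocal
import Cfsg.Agent.Lib.CoprimeHyper
import Cfsg.Agent.Lib.CoprimeInv

/-!
# Klinger-Mason rank bound: basic tools

`Ea q E`: elementary abelian subgroups in the ambient group; adjoining an element; inverted
elements of `p`-groups; the structure lemma for a 2-group with two commuting odd automorphisms and no
invariant four-group.
-/

set_option autoImplicit false

open Cfsg
open Cfsg.Agent.Lib.CharTwoLocal
open Subgroup (normalizer centralizer zpowers)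

namespace Cfsg.Agent.Lib.KM

variable {G : Type*} [Group G]

/-- Elementary abelian subgroups, elementwise. -/
def Ea (q : ℕ) (E : Subgroup G) : Prop :=
  (∀ a ∈ E, ∀ b ∈ E, a * b = b * a) ∧ ∀ a ∈ E, a ^ q = 1

theorem Ea.mono {q : ℕ} {E F : Subgroup G} (h : Ea q E) (hF : F ≤ E) : Ea q F :=
  ⟨fun a ha b hb => h.1 a (hF ha) b (hF hb), fun a ha => h.2 a (hF ha)⟩

theorem Ea.isPGroup {q : ℕ} [hq : Fact q.Prime] {E : Subgroup G} (h : Ea q E) : IsPGroup q E := by
  rintro ⟨a, ha⟩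
  exact ⟨1, Subtype.ext (by simpa using h.2 a ha)⟩

theorem mem_zpowers_sq {w y : G} (hw : w * w = 1) (hy : y ∈ zpowers w) : y = 1 ∨ y = w := by
  obtain ⟨k, rfl⟩ := Subgroup.mem_zpowers_iff.mp hy
  have h2 : w ^ (2 : ℤ) = 1 := by rw [zpow_two, hw]
  rcases Int.even_or_odd' k with ⟨m, rfl | rfl⟩
  · left
    rw [zpow_mul, h2, one_zpow]
  · right
    rw [zpow_add, zpow_mul, h2, one_zpow, one_mul, zpow_one]

theorem Ea.sup_zpowers [Finite G] {q : ℕ} [hq : Fact q.Prime] {E : Subgroup G} {b : G}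
    (hE : Ea q E) (hb : b ^ q = 1) (hc : ∀ a ∈ E, a * b = b * a) (hbE : b ∉ E) :
    Ea q (E ⊔ zpowers b) ∧ Nat.card ↥(E ⊔ zpowers b) = q * Nat.card E ∧
      ∀ x ∈ E ⊔ zpowers b, ∃ a ∈ E, ∃ k : ℕ, x = a * b ^ k := by
  have hnorm : E ≤ normalizer (zpowers b : Set G) := by
    intro a ha
    apply mem_normalizer_of_commute
    intro y hy
    obtain ⟨k, rfl⟩ := Subgroup.mem_zpowers_iff.mp hy
    have : Commute b a := (show Commute a b from hc a ha).symm
    exact (this.zpow_left k).eq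
  have hmem : ∀ x ∈ E ⊔ zpowers b, ∃ a ∈ E, ∃ k : ℕ, x = a * b ^ k := by
    intro x hx
    obtain ⟨a, ha, y, hy, rfl⟩ := exists_mul_of_mem_sup hnorm hx
    have hy' : y ∈ Submonoid.powers b := (mem_powers_iff_mem_zpowers).mpr hy
    obtain ⟨k, rfl⟩ := hy'
    exact ⟨a, ha, k, rfl⟩
  refine ⟨⟨?_, ?_⟩, ?_, hmem⟩
  · intro x hx y hy
    obtain ⟨a, ha, k, rfl⟩ := hmem x hx
    obtain ⟨a', ha', k', rfl⟩ := hmem y hy
    have h1 : Commute a a' := hE.1 a ha a' ha'
    have h2 : Commute a b := hc a ha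
    have h3 : Commute a' b := hc a' ha'
    have h4 : Commute (a * b ^ k) (a' * b ^ k') := by
      apply Commute.mul_left
      · exact h1.mul_right (h2.pow_right k')
      · exact (h3.symm.pow_left k).mul_right (Commute.pow_pow (Commute.refl b) k k')
    exact h4.eq
  · intro x hx
    obtain ⟨a, ha, k, rfl⟩ := hmem x hx
    have h2 : Commute a (b ^ k) := (show Commute a b from hc a ha).pow_right k
    rw [h2.mul_pow, hE.2 a ha, one_mul, ← pow_mul, mul_comm, pow_mul, hb, one_pow]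
  · have hb1 : b ≠ 1 := by
      rintro rfl
      exact hbE E.one_mem
    have hord : orderOf b = q := orderOf_eq_prime hb hb1
    have hK : Nat.card (zpowers b) = q := by rw [Nat.card_zpowers, hord]
    have hinf : E ⊓ zpowers b = ⊥ := by
      have hd : Nat.card ↥(E ⊓ zpowers b) ∣ q := by
        rw [← hK]
        exact Subgroup.card_dvd_of_le inf_le_right
      rcases (Nat.dvd_prime hq.out).mp hd with h | h
      · exact Subgroup.eq_bot_of_card_eq _ h
      · exfalso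
        have hle : (E ⊓ zpowers b : Subgroup G) = zpowers b :=
          Subgroup.eq_of_le_of_card_ge inf_le_right (by rw [hK, h])
        have : b ∈ E ⊓ zpowers b := by rw [hle]; exact Subgroup.mem_zpowers b
        exact hbE this.1
    have key := Cfsg.Agent.Lib.CoprimeInv.card_sup_mul_card_inf hnorm
    rw [hinf, Subgroup.card_bot, mul_one, hK] at key
    rw [key, mul_comm]

/-! ## Normalizers -/

theorem nconj {c x : G} {X : Subgroup G} (h : c ∈ normalizer (X : Set G)) (hx : x ∈ X) :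
    c * x * c⁻¹ ∈ X := (Subgroup.mem_normalizer_iff.mp h x).mp hx

theorem nconj' {c x : G} {X : Subgroup G} (h : c ∈ normalizer (X : Set G)) (hx : x ∈ X) :
    c⁻¹ * x * c ∈ X := by
  have := nconj (Subgroup.inv_mem _ h) hx
  simpa using this

theorem n_inf {c : G} {X Y : Subgroup G} (h : c ∈ normalizer (X : Set G))
    (h' : c ∈ normalizer (Y : Set G)) : c ∈ normalizer ((X ⊓ Y : Subgroup G) : Set G) :=
  mem_normalizer_of_forall
    (fun _ ha => ⟨nconj h ha.1, nconj h' ha.2⟩) (fun _ ha => ⟨nconj' h ha.1, nconj' h' ha.2⟩)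

theorem n_cent {c : G} {F : Subgroup G} (h : c ∈ normalizer (F : Set G)) :
    c ∈ normalizer ((centralizer (F : Set G) : Subgroup G) : Set G) := by
  apply mem_normalizer_of_forall
  · intro a ha
    rw [Subgroup.mem_centralizer_iff] at ha ⊢
    intro f hf
    have h1 := ha _ (show c⁻¹ * f * c ∈ (F : Set G) from nconj' h hf)
    have h2 : c * (c⁻¹ * f * c * a) * c⁻¹ = f * (c * a * c⁻¹) := by group
    have h3 : c * (a * (c⁻¹ * f * c)) * c⁻¹ = (c * a * c⁻¹) * f := by group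
    rw [← h2, h1, h3]
  · intro a ha
    rw [Subgroup.mem_centralizer_iff] at ha ⊢
    intro f hf
    have h1 := ha _ (show c * f * c⁻¹ ∈ (F : Set G) from nconj h hf)
    have h2 : c⁻¹ * (c * f * c⁻¹ * a) * c = f * (c⁻¹ * a * c) := by group
    have h3 : c⁻¹ * (a * (c * f * c⁻¹)) * c = (c⁻¹ * a * c) * f := by group
    rw [← h2, h1, h3]

theorem n_comm {c : G} {F : Subgroup G} (h : ∀ f ∈ F, c * f = f * c) :
    c ∈ normalizer (F : Set G) :=
  mem_normalizer_of_commute (fun a ha => (h a ha).symm)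

theorem conj_eq_of_comm {c x : G} (h : c * x = x * c) : c * x * c⁻¹ = x := by
  rw [h, mul_inv_cancel_right]

theorem comm_of_conj_eq {c x : G} (h : c * x * c⁻¹ = x) : c * x = x * c := by
  calc c * x = c * x * c⁻¹ * c := by group
    _ = x * c := by rw [h]

theorem conj_comm_of_comm {c g x : G} (hg : g * c = c * g) (hx : x * c = c * x) :
    (g * x * g⁻¹) * c = c * (g * x * g⁻¹) := by
  have h1 : Commute g c := hg
  have h2 : Commute x c := hx
  exact ((h1.mul_left h2).mul_left h1.inv_left).eq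

/-! ## Orders -/

theorem coprime_of_pow_prime {q p : ℕ} [hq : Fact q.Prime] [hp : Fact p.Prime] (h : q ≠ p)
    {c : G} (hc : c ^ q = 1) : (orderOf c).Coprime p := by
  have h1 : orderOf c ∣ q := orderOf_dvd_of_pow_eq_one hc
  rcases (Nat.dvd_prime hq.out).mp h1 with h2 | h2
  · rw [h2]; exact Nat.coprime_one_left p
  · rw [h2]; exact (Nat.coprime_primes hq.out hp.out).mpr h

theorem sq_of_mul_self {b : G} (h : b * b = 1) : b ^ 2 = 1 := by rw [pow_two, h]

theorem eq_one_of_sq_of_pow {p : ℕ} [hp : Fact p.Prime] (hp2 : p ≠ 2) {b : G} (h : b * b = 1)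
    (h' : b ^ p = 1) : b = 1 := by
  haveI : Fact (Nat.Prime 2) := ⟨Nat.prime_two⟩
  have h1 : (orderOf b).Coprime 2 := coprime_of_pow_prime hp2 h'
  have h2 : orderOf b ∣ 2 := orderOf_dvd_of_pow_eq_one (sq_of_mul_self h)
  have h3 : orderOf b ∣ Nat.gcd (orderOf b) 2 := Nat.dvd_gcd dvd_rfl h2
  rw [h1] at h3
  exact orderOf_eq_one_iff.mp (Nat.dvd_one.mp h3)

/-- An element with `b ^ p = 1` inverted by `x` is moved by `x`, when `b ≠ 1` and `p` is odd. -/
theorem moved_of_inverted {p : ℕ} [hp : Fact p.Prime] (hp2 : p ≠ 2) {x b : G} (hb : b ≠ 1)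
    (hbp : b ^ p = 1) (hx : x * b * x⁻¹ = b⁻¹) : x * b ≠ b * x := by
  intro h
  apply hb
  apply eq_one_of_sq_of_pow hp2 _ hbp
  have h1 := conj_eq_of_comm h
  rw [hx] at h1
  calc b * b = b⁻¹ * b := by rw [h1]
    _ = 1 := by group

/-! ## Inverted elements -/

theorem inverted {p : ℕ} [hp : Fact p.Prime] {R : Subgroup G} {x w : G} (hR : IsPGroup p R)
    (hx : x * x = 1) (hxN : x ∈ normalizer (R : Set G)) (hwR : w ∈ R) (hw : x * w ≠ w * x) :
    ∃ b ∈ R, b ≠ 1 ∧ b ^ p = 1 ∧ x * b * x⁻¹ = b⁻¹ := by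
  set y := w⁻¹ * (x * w * x⁻¹) with hy
  have hyR : y ∈ R := R.mul_mem (R.inv_mem hwR) (nconj hxN hwR)
  have hy1 : y ≠ 1 := by
    intro h
    apply hw
    apply comm_of_conj_eq
    have : w⁻¹ * (x * w * x⁻¹) = 1 := h
    calc x * w * x⁻¹ = w * (w⁻¹ * (x * w * x⁻¹)) := by group
      _ = w := by rw [this]; simp
  have hxi : x⁻¹ = x := inv_eq_of_mul_eq_one_left hx
  have hconj : x * y * x⁻¹ = y⁻¹ := by
    rw [hy, hxi]
    have : x * (w⁻¹ * (x * w * x)) * x = (x * w⁻¹ * x) * (w * (x * x)) := by group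
    rw [this, hx, mul_one]
    have h2 : x * w⁻¹ * x = (x * w * x)⁻¹ := by
      rw [mul_inv_rev, mul_inv_rev, hxi]; group
    rw [h2]; group
  obtain ⟨k, hk⟩ := hR ⟨y, hyR⟩
  have hk' : y ^ p ^ k = 1 := by
    have := congrArg Subtype.val hk
    simpa using this
  obtain ⟨j, -, hj⟩ := (Nat.dvd_prime_pow hp.out).mp (orderOf_dvd_of_pow_eq_one hk')
  have hj0 : j ≠ 0 := by
    rintro rfl
    apply hy1
    rw [pow_zero] at hj
    exact orderOf_eq_one_iff.mp hj
  obtain ⟨i, rfl⟩ := Nat.exists_eq_succ_of_ne_zero hj0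
  refine ⟨y ^ p ^ i, R.pow_mem hyR _, ?_, ?_, ?_⟩
  · apply pow_ne_one_of_lt_orderOf
    · exact (pow_pos hp.out.pos i).ne'
    · rw [hj]
      exact Nat.pow_lt_pow_right hp.out.one_lt (Nat.lt_succ_self i)
  · rw [← pow_mul, ← pow_succ, ← hj, pow_orderOf_eq_one]
  · rw [← conj_pow, hconj, inv_pow]

/-! ## Generation -/

theorem relIndex_cases {q : ℕ} [hq : Fact q.Prime] [Finite G] {A B : Subgroup G} (hA : Ea q A)
    (hB : B ≤ A) (hi : B.relIndex A ≤ q) : B = A ∨ q * Nat.card B = Nat.card A := by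
  have h1 : Nat.card B * B.relIndex A = Nat.card A := by
    have := Subgroup.relIndex_mul_relIndex ⊥ B A bot_le hB
    simpa [Subgroup.relIndex_bot_left] using this
  obtain ⟨n, hn⟩ := IsPGroup.iff_card.mp hA.isPGroup
  have h2 : B.relIndex A ∣ q ^ n := by
    rw [← hn, ← h1]; exact dvd_mul_left _ _
  obtain ⟨j, -, hj⟩ := (Nat.dvd_prime_pow hq.out).mp h2
  have hj1 : j ≤ 1 := by
    by_contra hc
    push Not at hc
    have : q ^ 2 ≤ q ^ j := Nat.pow_le_pow_right hq.out.pos hc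
    have h3 : q < q ^ 2 := by
      have := hq.out.two_le
      nlinarith
    rw [hj] at hi
    omega
  interval_cases j
  · left
    rw [pow_zero] at hj
    rw [hj, mul_one] at h1
    exact Subgroup.eq_of_le_of_card_ge hB h1.ge
  · right
    rw [pow_one] at hj
    rw [hj] at h1
    rw [mul_comm, h1]

theorem gen_mem {q : ℕ} [hq : Fact q.Prime] [Finite G] {A X L : Subgroup G} (hA : Ea q A)
    (hX : ¬ q ∣ Nat.card X) (hAX : A ≤ normalizer (X : Set G)) (h : ¬ X ≤ L) :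
    ∃ B ≤ A, (B = A ∨ q * Nat.card B = Nat.card A) ∧
      ∃ x ∈ X, (∀ b ∈ B, x * b = b * x) ∧ x ∉ L := by
  by_contra hc
  push Not at hc
  apply h
  haveI : IsMulCommutative ↥A :=
    ⟨⟨fun a b => Subtype.ext (hA.1 a a.2 b b.2)⟩⟩
  rw [Cfsg.Agent.Lib.CoprimeHyper.eq_iSup_inf_centralizer A X inferInstance hA.2 hX hAX]
  apply iSup_le
  rintro ⟨B, hBA, hBi⟩ x ⟨hxX, hxB⟩
  refine hc B hBA (relIndex_cases hA hBA hBi) x hxX ?_
  intro b hb
  exact ((Subgroup.mem_centralizer_iff.mp hxB) b hb).symm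

theorem gen_moved {q : ℕ} [hq : Fact q.Prime] [Finite G] {A X : Subgroup G} {y : G} (hA : Ea q A)
    (hX : ¬ q ∣ Nat.card X) (hAX : A ≤ normalizer (X : Set G))
    (hm : ∃ x ∈ X, y * x ≠ x * y)
    (hfix : ∀ x ∈ X, (∀ b ∈ A, x * b = b * x) → y * x = x * y) :
    ∃ B ≤ A, q * Nat.card B = Nat.card A ∧
      ∃ x ∈ X, (∀ b ∈ B, x * b = b * x) ∧ y * x ≠ x * y := by
  have hL : ¬ X ≤ centralizer ({y} : Set G) := by
    intro hle
    obtain ⟨x, hx, hxy⟩ := hm
    apply hxy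
    have := Subgroup.mem_centralizer_iff.mp (hle hx) y rfl
    exact this
  obtain ⟨B, hB, hcases, x, hx, hxB, hxL⟩ := gen_mem hA hX hAX hL
  have hmv : y * x ≠ x * y := by
    intro hh
    apply hxL
    rw [Subgroup.mem_centralizer_iff]
    rintro z rfl
    exact hh
  rcases hcases with rfl | hcard
  · exact absurd (hfix x hx hxB) hmv
  · exact ⟨B, hB, hcard, x, hx, hxB, hmv⟩

/-! ## Hyperplanes -/

theorem hyper_sup {q : ℕ} [hq : Fact q.Prime] [Finite G] {A K : Subgroup G} {c : G} (hA : Ea q A)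
    (hK : K ≤ A) (h : q * Nat.card K = Nat.card A) (hc : c ∈ A) (hcK : c ∉ K) :
    K ⊔ zpowers c = A := by
  have h1 := Ea.sup_zpowers (hA.mono hK) (hA.2 c hc) (fun a ha => hA.1 a (hK ha) c hc) hcK
  apply Subgroup.eq_of_le_of_card_ge
  · exact sup_le hK (by simpa using hc)
  · rw [h1.2.1, h]

theorem two_hyp {q : ℕ} [hq : Fact q.Prime] [Finite G] {A K₁ K₂ : Subgroup G} {c : G} (hA : Ea q A)
    (hK₁ : K₁ ≤ A) (hK₂ : K₂ ≤ A) (h₂ : q * Nat.card K₂ = Nat.card A)
    (hc : c ∈ K₁) (hc' : c ∉ K₂) :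
    q * Nat.card ↥(K₁ ⊓ K₂) = Nat.card K₁ ∧ (K₁ ⊓ K₂) ⊔ zpowers c = K₁ := by
  have hsup := hyper_sup hA hK₂ h₂ (hK₁ hc) hc'
  have hF : Ea q (K₁ ⊓ K₂) := hA.mono (inf_le_left.trans hK₁)
  have hcF : c ∉ K₁ ⊓ K₂ := fun h => hc' h.2
  have h1 := Ea.sup_zpowers hF (hA.2 c (hK₁ hc))
    (fun a ha => hA.1 a (hK₁ ha.1) c (hK₁ hc)) hcF
  have heq : (K₁ ⊓ K₂) ⊔ zpowers c = K₁ := by
    apply le_antisymm
    · exact sup_le inf_le_left (by simpa using hc)
    · intro x hx
      have hxA : x ∈ K₂ ⊔ zpowers c := by rw [hsup]; exact hK₁ hx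
      have h2 := (Ea.sup_zpowers (hA.mono hK₂) (hA.2 c (hK₁ hc))
        (fun a ha => hA.1 a (hK₂ ha) c (hK₁ hc)) hc').2.2 x hxA
      obtain ⟨a, ha, k, rfl⟩ := h2
      have ha1 : a ∈ K₁ := by
        have := K₁.mul_mem hx (K₁.inv_mem (K₁.pow_mem hc k))
        simpa using this
      exact Subgroup.mul_mem _ (Subgroup.mem_sup_left ⟨ha1, ha⟩)
        (Subgroup.mem_sup_right (Subgroup.pow_mem _ (Subgroup.mem_zpowers c) k))
  refine ⟨?_, heq⟩
  rw [← h1.2.1, heq]

end Cfsg.Agent.Lib.KM
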