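import Mathlib
import Cfsg.Agent.Lib.KMa

/-!
# Klinger-Mason rank bound: a 2-group with two commuting odd automorphisms

`LD T c₁ c₂ v z`: the 2-group `T` with automorphisms `c₁`, `c₂` of odd order, such that every
elementary abelian subgroup of `T` normalized by them lies in `⟨z⟩`. A minimal subgroup with the same
properties has commutators and squares in `⟨z⟩` and contains two pairs of noncommuting elements of
square `z`.
-/

set_option autoImplicit false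

open Cfsg
open Cfsg.Agent.Lib.CharTwoLocal
open Subgroup (normalizer centralizer zpowers)

open scoped commutatorElement

namespace Cfsg.Agent.Lib.KM

variable {G : Type*} [Group G]

/-- An element of `X` fixed by `a` and moved by `b`. -/
def Mv (X : Subgroup G) (a b : G) : Prop := ∃ x ∈ X, x * a = a * x ∧ b * x ≠ x * b

/-- The data of the structure lemma. -/
structure LD (T : Subgroup G) (c₁ c₂ v z : G) : Prop where
  hT : IsPGroup 2 T
  n1 : c₁ ∈ normalizer (T : Set G)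
  n2 : c₂ ∈ normalizer (T : Set G)
  nv : v ∈ normalizer (T : Set G)
  comm : c₁ * c₂ = c₂ * c₁
  o1 : (orderOf c₁).Coprime 2
  o2 : (orderOf c₂).Coprime 2
  zT : z ∈ T
  zc : ∀ t ∈ T, z * t = t * z
  zz : z * z = 1
  z1 : z ≠ 1
  zc1 : z * c₁ = c₁ * z
  zc2 : z * c₂ = c₂ * z
  zv : z * v = v * z
  HT : ∀ E : Subgroup G, E ≤ T → Ea 2 E → c₁ ∈ normalizer (E : Set G) →
    c₂ ∈ normalizer (E : Set G) → E ≤ zpowers z
  m12 : Mv T c₁ c₂
  m21 : Mv T c₂ c₁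

variable {X T : Subgroup G} {c₁ c₂ v z : G}

theorem LD.swap (h : LD T c₁ c₂ v z) : LD T c₂ c₁ v z :=
  { hT := h.hT, n1 := h.n2, n2 := h.n1, nv := h.nv, comm := h.comm.symm, o1 := h.o2, o2 := h.o1
    zT := h.zT, zc := h.zc, zz := h.zz, z1 := h.z1, zc1 := h.zc2, zc2 := h.zc1, zv := h.zv
    HT := fun E a b c d => h.HT E a b d c, m12 := h.m21, m21 := h.m12 }

theorem LD.of_le (h : LD T c₁ c₂ v z) {Y : Subgroup G} (hY : Y ≤ T) (hz : z ∈ Y)
    (n1 : c₁ ∈ normalizer (Y : Set G)) (n2 : c₂ ∈ normalizer (Y : Set G))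
    (nv : v ∈ normalizer (Y : Set G)) (m12 : Mv Y c₁ c₂) (m21 : Mv Y c₂ c₁) : LD Y c₁ c₂ v z :=
  { hT := h.hT.to_le hY, n1 := n1, n2 := n2, nv := nv, comm := h.comm, o1 := h.o1, o2 := h.o2
    zT := hz, zc := fun t ht => h.zc t (hY ht), zz := h.zz, z1 := h.z1, zc1 := h.zc1, zc2 := h.zc2
    zv := h.zv, HT := fun E a b c d => h.HT E (a.trans hY) b c d, m12 := m12, m21 := m21 }

/-- Minimal subgroups with the data. -/
def LDmin (X : Subgroup G) (c₁ c₂ v z : G) : Prop :=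
  LD X c₁ c₂ v z ∧ ∀ Y : Subgroup G, Y ≤ X → LD Y c₁ c₂ v z → Y = X

theorem LDmin.swap (h : LDmin X c₁ c₂ v z) : LDmin X c₂ c₁ v z :=
  ⟨h.1.swap, fun Y a b => h.2 Y a b.swap⟩

theorem exists_LDmin [Finite G] (h : LD T c₁ c₂ v z) : ∃ X ≤ T, LDmin X c₁ c₂ v z := by
  obtain ⟨X, ⟨hXT, hX⟩, hmin⟩ := (wellFounded_lt (α := Subgroup G)).has_min
    {Y : Subgroup G | Y ≤ T ∧ LD Y c₁ c₂ v z} ⟨T, le_rfl, h⟩
  refine ⟨X, hXT, hX, fun Y hYX hY => ?_⟩
  by_contra hne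
  exact hmin Y ⟨hYX.trans hXT, hY⟩ (lt_of_le_of_ne hYX hne)

/-! ## Elementary facts -/

theorem zp_comm {z c a : G} (hc : z * c = c * z) (ha : a ∈ zpowers z) : c * a = a * c := by
  obtain ⟨k, rfl⟩ := Subgroup.mem_zpowers_iff.mp ha
  exact ((show Commute z c from hc).zpow_left k).symm.eq

theorem exists_omega {D : Subgroup G} (hab : ∀ a ∈ D, ∀ b ∈ D, a * b = b * a) :
    ∃ E : Subgroup G, ∀ d, d ∈ E ↔ d ∈ D ∧ d * d = 1 := by
  refine ⟨{ carrier := {d | d ∈ D ∧ d * d = 1}, mul_mem' := ?_, one_mem' := ?_, inv_mem' := ?_ },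
    fun _ => Iff.rfl⟩
  · rintro a b ⟨ha, ha'⟩ ⟨hb, hb'⟩
    refine ⟨D.mul_mem ha hb, ?_⟩
    calc a * b * (a * b) = a * (b * a) * b := by group
      _ = a * (a * b) * b := by rw [hab b hb a ha]
      _ = (a * a) * (b * b) := by group
      _ = 1 := by rw [ha', hb', one_mul]
  · exact ⟨D.one_mem, one_mul 1⟩
  · rintro a ⟨ha, ha'⟩
    refine ⟨D.inv_mem ha, ?_⟩
    rw [← mul_inv_rev, ha', inv_one]

theorem omega_n {D E : Subgroup G} {c : G} (hE : ∀ d, d ∈ E ↔ d ∈ D ∧ d * d = 1)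
    (hc : c ∈ normalizer (D : Set G)) : c ∈ normalizer (E : Set G) := by
  apply mem_normalizer_of_forall
  · intro a ha
    obtain ⟨h1, h2⟩ := (hE a).mp ha
    refine (hE _).mpr ⟨nconj hc h1, ?_⟩
    calc c * a * c⁻¹ * (c * a * c⁻¹) = c * (a * a) * c⁻¹ := by group
      _ = 1 := by rw [h2]; group
  · intro a ha
    obtain ⟨h1, h2⟩ := (hE a).mp ha
    refine (hE _).mpr ⟨nconj' hc h1, ?_⟩
    calc c⁻¹ * a * c * (c⁻¹ * a * c) = c⁻¹ * (a * a) * c := by group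
      _ = 1 := by rw [h2]; group

theorem LD.center_sq (h : LD X c₁ c₂ v z) {C : Subgroup G} (hC : C ≤ X)
    (n1 : c₁ ∈ normalizer (C : Set G)) (n2 : c₂ ∈ normalizer (C : Set G)) {d : G} (hd : d ∈ C)
    (hc : ∀ g ∈ C, d * g = g * d) (dd : d * d = 1) : d ∈ zpowers z := by
  have hK : ∀ a ∈ C ⊓ centralizer (C : Set G), ∀ b ∈ C ⊓ centralizer (C : Set G),
      a * b = b * a := fun a ha b hb =>
    ((Subgroup.mem_centralizer_iff.mp hb.2) a ha.1)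
  obtain ⟨E, hE⟩ := exists_omega hK
  have hdE : d ∈ E := (hE d).mpr ⟨⟨hd, Subgroup.mem_centralizer_iff.mpr
    (fun g hg => (hc g hg).symm)⟩, dd⟩
  refine h.HT E ?_ ?_ ?_ ?_ hdE
  · intro a ha
    exact hC ((hE a).mp ha).1.1
  · refine ⟨fun a ha b hb => hK a ((hE a).mp ha).1 b ((hE b).mp hb).1, fun a ha => ?_⟩
    exact sq_of_mul_self ((hE a).mp ha).2
  · exact omega_n hE (n_inf n1 (n_cent n1))
  · exact omega_n hE (n_inf n2 (n_cent n2))

theorem exists_two_pow [Finite G] {X : Subgroup G} (hX : IsPGroup 2 X) {d : G} (hd : d ∈ X) :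
    ∃ k : ℕ, d ^ 2 ^ k = 1 := by
  obtain ⟨k, hk⟩ := hX ⟨d, hd⟩
  refine ⟨k, ?_⟩
  have := congrArg Subtype.val hk
  simpa using this

theorem pow_two_succ' {d : G} {k : ℕ} (h : d ^ 2 ^ (k + 1) = 1) : (d * d) ^ 2 ^ k = 1 := by
  rw [← pow_two, ← pow_mul, ← pow_succ']
  exact h

/-- Abelian invariant subgroups are fixed elementwise. -/
theorem LD.fix_abelian [Finite G] (h : LD X c₁ c₂ v z) {D : Subgroup G} (hDX : D ≤ X)
    (hab : ∀ a ∈ D, ∀ b ∈ D, a * b = b * a) (n1 : c₁ ∈ normalizer (D : Set G))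
    (n2 : c₂ ∈ normalizer (D : Set G)) : ∀ d ∈ D, c₁ * d = d * c₁ := by
  obtain ⟨E, hE⟩ := exists_omega hab
  have hEz : E ≤ zpowers z := by
    apply h.HT E
    · intro a ha
      exact hDX ((hE a).mp ha).1
    · refine ⟨fun a ha b hb => hab a ((hE a).mp ha).1 b ((hE b).mp hb).1, fun a ha => ?_⟩
      exact sq_of_mul_self ((hE a).mp ha).2
    · exact omega_n hE n1
    · exact omega_n hE n2
  have key : ∀ k : ℕ, ∀ d ∈ D, d ^ 2 ^ k = 1 → c₁ * d = d * c₁ := by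
    intro k
    induction k with
    | zero =>
      intro d _ hd
      have : d = 1 := by simpa using hd
      rw [this]; simp
    | succ k ih =>
      intro d hd hk
      have hdd := ih (d * d) (D.mul_mem hd hd) (pow_two_succ' hk)
      set i := d⁻¹ * (c₁ * d * c₁⁻¹) with hi
      have hiD : i ∈ D := D.mul_mem (D.inv_mem hd) (nconj n1 hd)
      have hii : i * i = 1 := by
        have h1 : (c₁ * d * c₁⁻¹) * d⁻¹ = d⁻¹ * (c₁ * d * c₁⁻¹) :=
          hab _ (nconj n1 hd) _ (D.inv_mem hd)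
        have h2 : c₁ * (d * d) * c₁⁻¹ = d * d := conj_eq_of_comm hdd
        calc i * i = d⁻¹ * ((c₁ * d * c₁⁻¹) * d⁻¹) * (c₁ * d * c₁⁻¹) := by rw [hi]; group
          _ = d⁻¹ * (d⁻¹ * (c₁ * d * c₁⁻¹)) * (c₁ * d * c₁⁻¹) := by rw [h1]
          _ = (d * d)⁻¹ * (c₁ * (d * d) * c₁⁻¹) := by group
          _ = 1 := by rw [h2]; group
      have hiz : i ∈ zpowers z := hEz ((hE i).mpr ⟨hiD, hii⟩)
      have hic : c₁ * i = i * c₁ := zp_comm h.zc1 hiz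
      have heq : c₁ * d * c₁⁻¹ = d * i := by rw [hi]; group
      exact commute_of_conj_eq_mul h.hT (hDX hiD) h.o1 heq hic
  intro d hd
  obtain ⟨k, hk⟩ := exists_two_pow h.hT (hDX hd)
  exact key k d hd hk

/-- The difference of `x` and its conjugate by `c`. -/
def wd (c x : G) : G := x⁻¹ * (c * x * c⁻¹)

theorem LD.moved_wd (h : LD X c₁ c₂ v z) {x : G} (hx : x ∈ X) (h1 : x * c₁ = c₁ * x)
    (hm : c₂ * x ≠ x * c₂) :
    wd c₂ x ∈ X ∧ wd c₂ x * c₁ = c₁ * wd c₂ x ∧ c₂ * wd c₂ x ≠ wd c₂ x * c₂ := by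
  have hwX : wd c₂ x ∈ X := X.mul_mem (X.inv_mem hx) (nconj h.n2 hx)
  refine ⟨hwX, ?_, ?_⟩
  · have a1 : Commute x c₁ := h1
    have a2 : Commute c₂ c₁ := h.comm.symm
    have : Commute (wd c₂ x) c₁ :=
      (a1.inv_left).mul_left (((a2.mul_left a1).mul_left a2.inv_left))
    exact this
  · intro hc
    apply hm
    refine commute_of_conj_eq_mul h.hT hwX h.o2 ?_ hc
    unfold wd
    group

/-- `wd c x` commutes with a `c`-fixed element whose `x`-conjugate is `c`-fixed too. -/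
theorem wd_comm {c x d : G} (hd : c * d = d * c) (hd' : c * (x * d * x⁻¹) = (x * d * x⁻¹) * c) :
    wd c x * d = d * wd c x := by
  have h1 : c⁻¹ * d * c = d := by
    rw [mul_assoc, ← hd]; group
  have h2 : c * (x * d * x⁻¹) * c⁻¹ = x * d * x⁻¹ := conj_eq_of_comm hd'
  have h3 : (c * x * c⁻¹) * d * (c * x * c⁻¹)⁻¹ = x * d * x⁻¹ := by
    calc (c * x * c⁻¹) * d * (c * x * c⁻¹)⁻¹
        = c * (x * (c⁻¹ * d * c) * x⁻¹) * c⁻¹ := by group
      _ = x * d * x⁻¹ := by rw [h1, h2]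
  have h4 : (c * x * c⁻¹) * d = x * d * x⁻¹ * (c * x * c⁻¹) := by
    rw [← h3]; group
  unfold wd
  calc x⁻¹ * (c * x * c⁻¹) * d = x⁻¹ * ((c * x * c⁻¹) * d) := by group
    _ = x⁻¹ * (x * d * x⁻¹ * (c * x * c⁻¹)) := by rw [h4]
    _ = d * (x⁻¹ * (c * x * c⁻¹)) := by group

/-- Invariant abelian subgroups are central. -/
theorem LDmin.central_of_invariant [Finite G] (hm : LDmin X c₁ c₂ v z) {D : Subgroup G}
    (hDX : D ≤ X) (hab : ∀ a ∈ D, ∀ b ∈ D, a * b = b * a)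
    (hXN : ∀ x ∈ X, x ∈ normalizer (D : Set G)) (n1 : c₁ ∈ normalizer (D : Set G))
    (n2 : c₂ ∈ normalizer (D : Set G)) (nv : v ∈ normalizer (D : Set G)) :
    ∀ d ∈ D, ∀ x ∈ X, d * x = x * d := by
  have h := hm.1
  have key : ∀ {c₁ c₂ : G}, LD X c₁ c₂ v z → c₁ ∈ normalizer (D : Set G) →
      c₂ ∈ normalizer (D : Set G) → Mv (X ⊓ centralizer (D : Set G)) c₁ c₂ := by
    intro c₁ c₂ h n1 n2
    obtain ⟨x, hx, hx1, hx2⟩ := h.m12
    obtain ⟨hw, hw1, hw2⟩ := h.moved_wd hx hx1 hx2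
    refine ⟨wd c₂ x, Subgroup.mem_inf.mpr ⟨hw, Subgroup.mem_centralizer_iff.mpr ?_⟩, hw1, hw2⟩
    intro d hd
    have hfix := h.swap.fix_abelian hDX hab n2 n1
    exact (wd_comm (hfix d hd) (hfix _ (nconj (hXN x hx) hd))).symm
  have hY : LD (X ⊓ centralizer (D : Set G)) c₁ c₂ v z := by
    refine h.of_le inf_le_left (Subgroup.mem_inf.mpr ⟨h.zT, Subgroup.mem_centralizer_iff.mpr ?_⟩)
      (n_inf h.n1 (n_cent n1)) (n_inf h.n2 (n_cent n2))
      (n_inf h.nv (n_cent nv)) (key h n1 n2) (key h.swap n2 n1)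
    intro d hd
    exact (h.zc d (hDX hd)).symm
  have heq := hm.2 _ inf_le_left hY
  intro d hd x hx
  have : x ∈ X ⊓ centralizer (D : Set G) := by rw [heq]; exact hx
  exact (Subgroup.mem_centralizer_iff.mp this.2) d hd

/-! ## The lower central series, in the ambient group -/

/-- Lower central series of `X` in the ambient group, shifted. -/
def gam (X : Subgroup G) : ℕ → Subgroup G
  | 0 => X
  | n + 1 => ⁅gam X n, X⁆

theorem gam_le (X : Subgroup G) (n : ℕ) : gam X n ≤ X := by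
  induction n with
  | zero => exact le_rfl
  | succ n ih =>
    rw [gam, Subgroup.commutator_le]
    intro a ha b hb
    have ha' := ih ha
    rw [commutatorElement_def]
    exact X.mul_mem (X.mul_mem (X.mul_mem ha' hb) (X.inv_mem ha')) (X.inv_mem hb)

theorem gam_conj {X : Subgroup G} {c : G} (h : ∀ a ∈ X, c * a * c⁻¹ ∈ X) (n : ℕ) :
    ∀ a ∈ gam X n, c * a * c⁻¹ ∈ gam X n := by
  induction n with
  | zero => exact h
  | succ n ih =>
    have hle : ⁅gam X n, X⁆ ≤ (⁅gam X n, X⁆).comap (MulAut.conj c).toMonoidHom := by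
      rw [Subgroup.commutator_le]
      intro a ha b hb
      rw [Subgroup.mem_comap]
      have : (MulAut.conj c).toMonoidHom ⁅a, b⁆ = ⁅c * a * c⁻¹, c * b * c⁻¹⁆ := by
        simp only [MulEquiv.toMonoidHom_eq_coe, MonoidHom.coe_coe, MulAut.conj_apply,
          commutatorElement_def]
        group
      rw [this]
      exact Subgroup.commutator_mem_commutator (ih a ha) (h b hb)
    intro a ha
    exact hle ha

theorem gam_n {X : Subgroup G} {c : G} (h : c ∈ normalizer (X : Set G)) (n : ℕ) :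
    c ∈ normalizer ((gam X n : Subgroup G) : Set G) :=
  mem_normalizer_of_forall (gam_conj (fun _ ha => nconj h ha) n)
    (by
      have := gam_conj (X := X) (c := c⁻¹) (fun _ ha => by simpa using nconj' h ha) n
      simpa using this)

theorem gam_eq_map (X : Subgroup G) (n : ℕ) :
    gam X n = ((⊤ : Subgroup ↥X).lowerCentralSeries n).map X.subtype := by
  induction n with
  | zero =>
    rw [gam, Subgroup.lowerCentralSeries_zero, ← MonoidHom.range_eq_map, Subgroup.range_subtype]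
  | succ n ih =>
    rw [gam, Subgroup.lowerCentralSeries_succ, Subgroup.map_commutator, ← ih,
      ← MonoidHom.range_eq_map, Subgroup.range_subtype]

theorem gam_bot [Finite G] {X : Subgroup G} (hX : IsPGroup 2 X) : ∃ n, gam X (n + 1) = ⊥ := by
  haveI : Fact (Nat.Prime 2) := ⟨Nat.prime_two⟩
  haveI : Group.IsNilpotent ↥X := hX.isNilpotent
  obtain ⟨n, hn⟩ :=
    Subgroup.nilpotent_iff_lowerCentralSeries.mp (inferInstance : Group.IsNilpotent ↥X)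
  refine ⟨n, ?_⟩
  rw [gam, gam_eq_map, hn]
  simp

theorem gam_le_comm (X : Subgroup G) (m : ℕ) : gam X (m + 1) ≤ ⁅X, X⁆ :=
  Subgroup.commutator_mono (gam_le X m) le_rfl

/-- The commutator group of a minimal subgroup is central. -/
theorem LDmin.class_two [Finite G] (hm : LDmin X c₁ c₂ v z) :
    ∀ a ∈ ⁅X, X⁆, ∀ g ∈ X, a * g = g * a := by
  have h := hm.1
  obtain ⟨n, hn⟩ := gam_bot h.hT
  have key : ∀ k m : ℕ, m + k = n → ∀ a ∈ gam X (m + 1), ∀ g ∈ X, a * g = g * a := by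
    intro k
    induction k with
    | zero =>
      intro m hm' a ha g _
      have hm'' : m = n := by omega
      rw [hm'', hn] at ha
      have : a = 1 := by simpa using ha
      rw [this]; simp
    | succ k ih =>
      intro m hm'
      have hnext := ih (m + 1) (by omega)
      have hb1 : ⁅gam X (m + 1 + 1), X⁆ = ⊥ := by
        rw [Subgroup.commutator_eq_bot_iff_le_centralizer]
        intro a ha
        rw [Subgroup.mem_centralizer_iff]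
        intro b hb
        exact (hnext a ha b hb).symm
      have hab : ∀ a ∈ gam X (m + 1), ∀ b ∈ gam X (m + 1), a * b = b * a := by
        have hb2 : ⁅⁅X, X⁆, gam X (m + 1)⁆ = ⊥ := by
          apply Subgroup.commutator_commutator_eq_bot_of_rotate
          · rw [Subgroup.commutator_comm X]
            exact hb1
          · exact hb1
        intro a ha b hb
        have h3 : ⁅a, b⁆ ∈ ⁅⁅X, X⁆, gam X (m + 1)⁆ :=
          Subgroup.commutator_mem_commutator (gam_le_comm X m ha) hb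
        rw [hb2, Subgroup.mem_bot, commutatorElement_eq_one_iff_mul_comm] at h3
        exact h3
      exact hm.central_of_invariant (gam_le X _) hab
        (fun x hx => gam_n (Subgroup.le_normalizer hx) _) (gam_n h.n1 _) (gam_n h.n2 _)
        (gam_n h.nv _)
  have := key n 0 (by omega)
  simpa [gam] using this

/-! ## Commutator identities -/

/-- Commutators are central in `X`. -/
def H2 (X : Subgroup G) : Prop := ∀ x ∈ X, ∀ y ∈ X, ∀ g ∈ X, ⁅x, y⁆ * g = g * ⁅x, y⁆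

theorem cm_mem {X : Subgroup G} {x y : G} (hx : x ∈ X) (hy : y ∈ X) : ⁅x, y⁆ ∈ X := by
  rw [commutatorElement_def]
  exact X.mul_mem (X.mul_mem (X.mul_mem hx hy) (X.inv_mem hx)) (X.inv_mem hy)

theorem cm_mul_left (hc : H2 X) {x y w : G} (hx : x ∈ X) (hy : y ∈ X) (hw : w ∈ X) :
    ⁅x * y, w⁆ = ⁅x, w⁆ * ⁅y, w⁆ := by
  have h1 : ⁅x * y, w⁆ = x * ⁅y, w⁆ * x⁻¹ * ⁅x, w⁆ := by
    simp only [commutatorElement_def]; group
  have h2 : x * ⁅y, w⁆ * x⁻¹ = ⁅y, w⁆ := by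
    rw [← hc y hy w hw x hx]; group
  rw [h1, h2]
  exact hc y hy w hw _ (cm_mem hx hw)

theorem cm_mul_right (hc : H2 X) {x y w : G} (hx : x ∈ X) (hy : y ∈ X) (hw : w ∈ X) :
    ⁅x, y * w⁆ = ⁅x, y⁆ * ⁅x, w⁆ := by
  have h1 : ⁅x, y * w⁆ = ⁅x, y⁆ * (y * ⁅x, w⁆ * y⁻¹) := by
    simp only [commutatorElement_def]; group
  have h2 : y * ⁅x, w⁆ * y⁻¹ = ⁅x, w⁆ := by
    rw [← hc x hx w hw y hy]; group
  rw [h1, h2]

theorem cm_inv_left (hc : H2 X) {x w : G} (hx : x ∈ X) (hw : w ∈ X) : ⁅x⁻¹, w⁆ = ⁅x, w⁆⁻¹ := by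
  have h := cm_mul_left hc (X.inv_mem hx) hx hw
  rw [inv_mul_cancel, commutatorElement_one_left] at h
  exact eq_inv_of_mul_eq_one_left h.symm

theorem cm_inv_right (hc : H2 X) {x w : G} (hx : x ∈ X) (hw : w ∈ X) : ⁅x, w⁻¹⁆ = ⁅x, w⁆⁻¹ := by
  have h := cm_mul_right hc hx (X.inv_mem hw) hw
  rw [inv_mul_cancel, commutatorElement_one_right] at h
  exact eq_inv_of_mul_eq_one_left h.symm

theorem cm_conj (c x y : G) : c * ⁅x, y⁆ * c⁻¹ = ⁅c * x * c⁻¹, c * y * c⁻¹⁆ := by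
  simp only [commutatorElement_def]; group

theorem cm_eq_one {x y : G} : ⁅x, y⁆ = 1 ↔ x * y = y * x := commutatorElement_eq_one_iff_mul_comm

theorem cm_inv (x y : G) : ⁅x, y⁆⁻¹ = ⁅y, x⁆ := commutatorElement_inv x y

/-- The square of the difference of `x` and `x'` when `x` and `x'` have the same square. -/
theorem wd_sq (hc : H2 X) {x x' : G} (hx : x ∈ X) (hx' : x' ∈ X) (hsq : x' * x' = x * x) :
    (x⁻¹ * x') * (x⁻¹ * x') = ⁅x', x⁻¹⁆ := by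
  set d := ⁅x', x⁻¹⁆ with hd
  have h1 : x' * x⁻¹ = d * (x⁻¹ * x') := by
    rw [hd, commutatorElement_def]; group
  have h2 : x⁻¹ * d = d * x⁻¹ := (hc x' hx' x⁻¹ (X.inv_mem hx) x⁻¹ (X.inv_mem hx)).symm
  calc (x⁻¹ * x') * (x⁻¹ * x') = x⁻¹ * (x' * x⁻¹) * x' := by group
    _ = x⁻¹ * (d * (x⁻¹ * x')) * x' := by rw [h1]
    _ = (x⁻¹ * d) * x⁻¹ * (x' * x') := by group
    _ = d * x⁻¹ * x⁻¹ * (x * x) := by rw [h2, hsq]
    _ = d := by group

theorem wd_sq_sq (hc : H2 X) {x x' : G} (hx : x ∈ X) (hx' : x' ∈ X) (hsq : x' * x' = x * x) :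
    ⁅x', x⁻¹⁆ * ⁅x', x⁻¹⁆ = 1 := by
  rw [← cm_mul_left hc hx' hx' (X.inv_mem hx), hsq, cm_eq_one]
  group

/-! ## Squares and commutators lie in `⟨z⟩` -/

theorem LD.exists_sq_mem [Finite G] (h : LD X c₁ c₂ v z) (hc : H2 X) :
    ∃ w ∈ X, w * w ∈ zpowers z ∧ w * c₁ = c₁ * w ∧ c₂ * w ≠ w * c₂ := by
  have key : ∀ k : ℕ, ∀ x ∈ X, x ^ 2 ^ k = 1 → x * c₁ = c₁ * x → c₂ * x ≠ x * c₂ →
      ∃ w ∈ X, w * w ∈ zpowers z ∧ w * c₁ = c₁ * w ∧ c₂ * w ≠ w * c₂ := by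
    intro k
    induction k with
    | zero =>
      intro x _ hk _ hm
      have : x = 1 := by simpa using hk
      rw [this] at hm
      simp at hm
    | succ k ih =>
      intro x hx hk h1 hm
      by_cases hxx : c₂ * (x * x) = (x * x) * c₂
      · obtain ⟨hw, hw1, hw2⟩ := h.moved_wd hx h1 hm
        refine ⟨wd c₂ x, hw, ?_, hw1, hw2⟩
        have hx' : c₂ * x * c₂⁻¹ ∈ X := nconj h.n2 hx
        have hsq : (c₂ * x * c₂⁻¹) * (c₂ * x * c₂⁻¹) = x * x := by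
          calc (c₂ * x * c₂⁻¹) * (c₂ * x * c₂⁻¹) = c₂ * (x * x) * c₂⁻¹ := by group
            _ = x * x := conj_eq_of_comm hxx
        have e1 := wd_sq hc hx hx' hsq
        have e2 := wd_sq_sq hc hx hx' hsq
        have e3 : wd c₂ x * wd c₂ x = x⁻¹ * (c₂ * x * c₂⁻¹) * (x⁻¹ * (c₂ * x * c₂⁻¹)) := rfl
        rw [e3, e1]
        refine h.center_sq le_rfl h.n1 h.n2 (cm_mem hx' (X.inv_mem hx)) ?_ e2
        intro g hg
        exact hc _ hx' _ (X.inv_mem hx) g hg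
      · have h1' : (x * x) * c₁ = c₁ * (x * x) := by
          have a : Commute x c₁ := h1
          exact (a.mul_left a).eq
        exact ih (x * x) (X.mul_mem hx hx) (pow_two_succ' hk) h1' hxx
  obtain ⟨x, hx, hx1, hx2⟩ := h.m12
  obtain ⟨k, hk⟩ := exists_two_pow h.hT hx
  exact key k x hx hk hx1 hx2

theorem LDmin.comm_mem_of_sq [Finite G] (hm : LDmin X c₁ c₂ v z) (hc : H2 X) {x y : G}
    (hx : x ∈ X) (hy : y ∈ X) (hxx : x * x ∈ zpowers z) : ⁅x, y⁆ ∈ zpowers z := by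
  have h := hm.1
  refine h.center_sq le_rfl h.n1 h.n2 (cm_mem hx hy) (fun g hg => hc x hx y hy g hg) ?_
  rw [← cm_mul_left hc hx hx hy, cm_eq_one]
  exact zp_comm (h.zc y hy) hxx |>.symm

theorem LDmin.sq_mem [Finite G] (hm : LDmin X c₁ c₂ v z) (hc : H2 X) :
    ∀ x ∈ X, x * x ∈ zpowers z := by
  have h := hm.1
  let S : Subgroup G :=
    { carrier := {x | x ∈ X ∧ x * x ∈ zpowers z}
      mul_mem' := by
        rintro a b ⟨ha, ha'⟩ ⟨hb, hb'⟩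
        refine ⟨X.mul_mem ha hb, ?_⟩
        have hd : ⁅b, a⁆ ∈ zpowers z := hm.comm_mem_of_sq hc hb ha hb'
        have e2 : a * (b * a) * b = ⁅b, a⁆ * (a * a * (b * b)) := by
          have h1 : b * a = ⁅b, a⁆ * (a * b) := by
            rw [commutatorElement_def]; group
          have h2 : a * ⁅b, a⁆ = ⁅b, a⁆ * a := (hc b hb a ha a ha).symm
          calc a * (b * a) * b = a * (⁅b, a⁆ * (a * b)) * b := by rw [← h1]
            _ = (a * ⁅b, a⁆) * (a * b) * b := by group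
            _ = (⁅b, a⁆ * a) * (a * b) * b := by rw [h2]
            _ = ⁅b, a⁆ * (a * a * (b * b)) := by group
        have e3 : a * b * (a * b) = a * (b * a) * b := by group
        rw [e3, e2]
        exact Subgroup.mul_mem _ hd (Subgroup.mul_mem _ ha' hb')
      one_mem' := ⟨X.one_mem, by simp⟩
      inv_mem' := by
        rintro a ⟨ha, ha'⟩
        refine ⟨X.inv_mem ha, ?_⟩
        rw [← mul_inv_rev]
        exact Subgroup.inv_mem _ ha' }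
  have hS : ∀ x, x ∈ S ↔ x ∈ X ∧ x * x ∈ zpowers z := fun _ => Iff.rfl
  have hnS : ∀ c : G, c ∈ normalizer (X : Set G) → z * c = c * z → c ∈ normalizer (S : Set G) := by
    intro c hc1 hc2
    apply mem_normalizer_of_forall
    · intro a ha
      obtain ⟨h1, h2⟩ := (hS a).mp ha
      refine (hS _).mpr ⟨nconj hc1 h1, ?_⟩
      have e : c * a * c⁻¹ * (c * a * c⁻¹) = c * (a * a) * c⁻¹ := by group
      rw [e, conj_eq_of_comm (zp_comm hc2 h2)]
      exact h2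
    · intro a ha
      obtain ⟨h1, h2⟩ := (hS a).mp ha
      refine (hS _).mpr ⟨nconj' hc1 h1, ?_⟩
      have e : c⁻¹ * a * c * (c⁻¹ * a * c) = c⁻¹ * (a * a) * c := by group
      have h3 : c⁻¹ * (a * a) = (a * a) * c⁻¹ := by
        have := zp_comm (c := c) hc2 h2
        have a1 : Commute c (a * a) := this
        exact a1.inv_left.eq
      rw [e, h3, mul_assoc, inv_mul_cancel, mul_one]
      exact h2
  have hSLD : LD S c₁ c₂ v z := by
    refine h.of_le (fun x hx => ((hS x).mp hx).1) ⟨h.zT, ?_⟩ (hnS _ h.n1 h.zc1) (hnS _ h.n2 h.zc2)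
      (hnS _ h.nv h.zv) ?_ ?_
    · show z * z ∈ zpowers z
      rw [h.zz]; exact Subgroup.one_mem _
    · obtain ⟨w, hw, hw1, hw2, hw3⟩ := h.exists_sq_mem hc
      exact ⟨w, ⟨hw, hw1⟩, hw2, hw3⟩
    · obtain ⟨w, hw, hw1, hw2, hw3⟩ := h.swap.exists_sq_mem hc
      exact ⟨w, ⟨hw, hw1⟩, hw2, hw3⟩
  have heq := hm.2 S (fun x hx => ((hS x).mp hx).1) hSLD
  intro x hx
  have : x ∈ S := by rw [heq]; exact hx
  exact this.2

/-! ## Two noncommuting elements of square `z` -/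

theorem exists_fix (X : Subgroup G) (c : G) : ∃ C : Subgroup G, ∀ g, g ∈ C ↔ g ∈ X ∧ g * c = c * g := by
  refine ⟨{ carrier := {g | g ∈ X ∧ g * c = c * g}, mul_mem' := ?_, one_mem' := ?_, inv_mem' := ?_ },
    fun _ => Iff.rfl⟩
  · rintro a b ⟨ha, ha'⟩ ⟨hb, hb'⟩
    have a1 : Commute a c := ha'
    have a2 : Commute b c := hb'
    exact ⟨X.mul_mem ha hb, (a1.mul_left a2).eq⟩
  · exact ⟨X.one_mem, by simp⟩
  · rintro a ⟨ha, ha'⟩
    have a1 : Commute a c := ha'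
    exact ⟨X.inv_mem ha, a1.inv_left.eq⟩

theorem H2_of_comm_mem (h : LD X c₁ c₂ v z)
    (P3 : ∀ x ∈ X, ∀ y ∈ X, ⁅x, y⁆ ∈ zpowers z) : H2 X :=
  fun x hx y hy g hg => (zp_comm (h.zc g hg) (P3 x hx y hy)).symm

theorem odd_pow_eq {c : G} (hc : (orderOf c).Coprime 2) : ∃ m : ℕ, c ^ (2 * m) = c := by
  have h1 : Odd (orderOf c) := Nat.Coprime.odd_of_right hc
  obtain ⟨m, hm⟩ := h1
  refine ⟨m + 1, ?_⟩
  have : 2 * (m + 1) = orderOf c + 1 := by omega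
  rw [this, pow_succ, pow_orderOf_eq_one, one_mul]

theorem LD.stepA (h : LD X c₁ c₂ v z) (P2 : ∀ x ∈ X, x * x ∈ zpowers z)
    (P3 : ∀ x ∈ X, ∀ y ∈ X, ⁅x, y⁆ ∈ zpowers z) :
    ∃ x₀ ∈ X, x₀ * c₁ = c₁ * x₀ ∧ ⁅x₀, c₂ * x₀ * c₂⁻¹⁆ ≠ 1 := by
  by_contra hcon
  push Not at hcon
  have hc2 : H2 X := H2_of_comm_mem h P3
  obtain ⟨C, hC⟩ := exists_fix X c₁
  have hCX : C ≤ X := fun g hg => ((hC g).mp hg).1
  have hn1 : c₁ ∈ normalizer (C : Set G) := by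
    apply mem_normalizer_of_forall
    · intro a ha
      obtain ⟨h1, h2⟩ := (hC a).mp ha
      rw [conj_eq_of_comm h2.symm]
      exact ha
    · intro a ha
      obtain ⟨h1, h2⟩ := (hC a).mp ha
      have a1 : Commute a c₁ := h2
      have : c₁⁻¹ * a * c₁ = a := by
        rw [← a1.inv_right.eq]; group
      rw [this]
      exact ha
  have hcj : ∀ g ∈ C, c₂ * g * c₂⁻¹ ∈ C := by
    intro g hg
    obtain ⟨h1, h2⟩ := (hC g).mp hg
    refine (hC _).mpr ⟨nconj h.n2 h1, conj_comm_of_comm h.comm.symm h2⟩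
  have hcj' : ∀ g ∈ C, c₂⁻¹ * g * c₂ ∈ C := by
    intro g hg
    obtain ⟨h1, h2⟩ := (hC g).mp hg
    refine (hC _).mpr ⟨nconj' h.n2 h1, ?_⟩
    have a1 : Commute c₂ c₁ := h.comm.symm
    have := conj_comm_of_comm (c := c₁) (g := c₂⁻¹) (x := g) a1.inv_left.eq h2
    simpa using this
  have hn2 : c₂ ∈ normalizer (C : Set G) := mem_normalizer_of_forall hcj hcj'
  have hfix : ∀ x ∈ X, ∀ y ∈ X, c₂ * ⁅x, y⁆ = ⁅x, y⁆ * c₂ := fun x hx y hy =>
    zp_comm h.zc2 (P3 x hx y hy)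
  -- polarization
  have hA : ∀ x ∈ C, ⁅x, c₂ * x * c₂⁻¹⁆ = 1 := fun x hx =>
    hcon x (hCX hx) ((hC x).mp hx).2
  have pol : ∀ x ∈ C, ∀ y ∈ C, ⁅x, c₂ * y * c₂⁻¹⁆ * ⁅y, c₂ * x * c₂⁻¹⁆ = 1 := by
    intro x hx y hy
    have hx' := hCX (hcj x hx)
    have hy' := hCX (hcj y hy)
    have h1 := hA (x * y) (C.mul_mem hx hy)
    have e : c₂ * (x * y) * c₂⁻¹ = (c₂ * x * c₂⁻¹) * (c₂ * y * c₂⁻¹) := by group
    rw [e, cm_mul_left hc2 (hCX hx) (hCX hy) (X.mul_mem hx' hy'),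
      cm_mul_right hc2 (hCX hx) hx' hy', cm_mul_right hc2 (hCX hy) hx' hy', hA x hx, hA y hy,
      one_mul, mul_one] at h1
    exact h1
  have star : ∀ x ∈ C, ∀ y ∈ C, ⁅x, c₂ * y * c₂⁻¹⁆ = ⁅x, c₂⁻¹ * y * c₂⁆ := by
    intro x hx y hy
    have h1 := pol x hx y hy
    have h2 : ⁅y, c₂ * x * c₂⁻¹⁆ = ⁅c₂⁻¹ * y * c₂, x⁆ := by
      have e := cm_conj c₂ (c₂⁻¹ * y * c₂) x
      have e1 : c₂ * (c₂⁻¹ * y * c₂) * c₂⁻¹ = y := by group
      rw [e1] at e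
      rw [← e]
      exact conj_eq_of_comm (hfix _ (hCX (hcj' y hy)) x (hCX hx))
    rw [h2, ← cm_inv x] at h1
    exact mul_inv_eq_one.mp h1
  have dbl : ∀ x ∈ C, ∀ t ∈ C, ⁅x, c₂ * (c₂ * t * c₂⁻¹) * c₂⁻¹⁆ = ⁅x, t⁆ := by
    intro x hx t ht
    rw [star x hx _ (hcj t ht)]
    congr 1
    group
  have iter : ∀ k : ℕ, ∀ x ∈ C, ∀ t ∈ C, ⁅x, c₂ ^ (2 * k) * t * (c₂ ^ (2 * k))⁻¹⁆ = ⁅x, t⁆ ∧
      c₂ ^ (2 * k) * t * (c₂ ^ (2 * k))⁻¹ ∈ C := by
    intro k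
    induction k with
    | zero =>
      intro x _ t ht
      simpa using ht
    | succ k ih =>
      intro x hx t ht
      obtain ⟨i1, i2⟩ := ih x hx t ht
      have e : c₂ ^ (2 * (k + 1)) * t * (c₂ ^ (2 * (k + 1)))⁻¹ =
          c₂ * (c₂ * (c₂ ^ (2 * k) * t * (c₂ ^ (2 * k))⁻¹) * c₂⁻¹) * c₂⁻¹ := by
        have : 2 * (k + 1) = 2 * k + 1 + 1 := by omega
        rw [this, pow_succ', pow_succ']
        group
      rw [e]
      refine ⟨?_, hcj _ (hcj _ i2)⟩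
      rw [dbl x hx _ i2, i1]
  obtain ⟨m, hm⟩ := odd_pow_eq h.o2
  have single : ∀ x ∈ C, ∀ t ∈ C, ⁅x, c₂ * t * c₂⁻¹⁆ = ⁅x, t⁆ := by
    intro x hx t ht
    have := (iter m x hx t ht).1
    rwa [hm] at this
  obtain ⟨t, ht, ht1, ht2⟩ := h.m12
  have htC : t ∈ C := (hC t).mpr ⟨ht, ht1⟩
  obtain ⟨hw, hw1, hw2⟩ := h.moved_wd ht ht1 ht2
  have hwC : wd c₂ t ∈ C := (hC _).mpr ⟨hw, hw1⟩
  apply hw2
  refine zp_comm h.zc2 (h.center_sq hCX hn1 hn2 hwC ?_ ?_)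
  · intro g hg
    have : ⁅g, wd c₂ t⁆ = 1 := by
      have hg' := hCX hg
      have ht' := hCX (hcj t htC)
      unfold wd
      rw [cm_mul_right hc2 hg' (X.inv_mem ht) ht', cm_inv_right hc2 hg' ht, single g hg t htC]
      group
    exact (cm_eq_one.mp this).symm
  · have e1 : Commute t (c₂ * t * c₂⁻¹) := cm_eq_one.mp (hA t htC)
    have e2 : c₂ * (t * t) * c₂⁻¹ = t * t := conj_eq_of_comm (zp_comm h.zc2 (P2 t ht))
    have e3 : (t⁻¹ * (c₂ * t * c₂⁻¹)) * (t⁻¹ * (c₂ * t * c₂⁻¹)) =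
        (t * t)⁻¹ * (c₂ * (t * t) * c₂⁻¹) := by
      calc (t⁻¹ * (c₂ * t * c₂⁻¹)) * (t⁻¹ * (c₂ * t * c₂⁻¹))
          = t⁻¹ * ((c₂ * t * c₂⁻¹) * t⁻¹) * (c₂ * t * c₂⁻¹) := by group
        _ = t⁻¹ * (t⁻¹ * (c₂ * t * c₂⁻¹)) * (c₂ * t * c₂⁻¹) := by rw [← e1.inv_left.eq]
        _ = (t * t)⁻¹ * (c₂ * (t * t) * c₂⁻¹) := by group
    unfold wd
    rw [e3, e2]
    group

theorem comm_closure {S : Set G} (h : ∀ a ∈ S, ∀ b ∈ S, a * b = b * a) :
    ∀ a ∈ Subgroup.closure S, ∀ b ∈ Subgroup.closure S, a * b = b * a := by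
  have h1 : Subgroup.closure S ≤ centralizer S := by
    rw [Subgroup.closure_le]
    intro a ha
    exact Subgroup.mem_centralizer_iff.mpr (fun b hb => h b hb a ha)
  have h2 : Subgroup.closure S ≤ centralizer ((Subgroup.closure S : Subgroup G) : Set G) := by
    rw [Subgroup.closure_le]
    intro a ha
    refine Subgroup.mem_centralizer_iff.mpr (fun b hb => ?_)
    exact ((Subgroup.mem_centralizer_iff.mp (h1 hb)) a ha).symm
  intro a ha b hb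
  exact (Subgroup.mem_centralizer_iff.mp (h2 hb)) a ha

theorem conj_mem_closure {S : Set G} {n : G} (h : ∀ s ∈ S, n * s * n⁻¹ ∈ S) :
    ∀ a ∈ Subgroup.closure S, n * a * n⁻¹ ∈ Subgroup.closure S := by
  have : Subgroup.closure S ≤ (Subgroup.closure S).comap (MulAut.conj n).toMonoidHom := by
    rw [Subgroup.closure_le]
    intro s hs
    exact Subgroup.subset_closure (h s hs)
  intro a ha
  exact this ha

/-- One half of the structure lemma. -/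
theorem LD.half [Finite G] (h : LD X c₁ c₂ v z) (P2 : ∀ x ∈ X, x * x ∈ zpowers z)
    (P3 : ∀ x ∈ X, ∀ y ∈ X, ⁅x, y⁆ ∈ zpowers z) :
    ∃ x₁ ∈ X, ∃ y₁ ∈ X, x₁ * c₁ = c₁ * x₁ ∧ y₁ * c₁ = c₁ * y₁ ∧ x₁ * x₁ = z ∧ y₁ * y₁ = z ∧
      ⁅x₁, y₁⁆ = z ∧ ∀ g ∈ X, g * c₂ = c₂ * g → g * x₁ = x₁ * g ∧ g * y₁ = y₁ * g := by
  have hc2 : H2 X := H2_of_comm_mem h P3
  obtain ⟨x₀, hx₀, hx₁, hne⟩ := h.stepA P2 P3
  have hmoved : c₂ * x₀ ≠ x₀ * c₂ := by
    intro he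
    apply hne
    rw [conj_eq_of_comm he, cm_eq_one]
  obtain ⟨hw, hw1, hw2⟩ := h.moved_wd hx₀ hx₁ hmoved
  set w₀ := wd c₂ x₀ with hw₀
  -- square of `w₀`
  have hx₀' : c₂ * x₀ * c₂⁻¹ ∈ X := nconj h.n2 hx₀
  have hsq : (c₂ * x₀ * c₂⁻¹) * (c₂ * x₀ * c₂⁻¹) = x₀ * x₀ := by
    calc (c₂ * x₀ * c₂⁻¹) * (c₂ * x₀ * c₂⁻¹) = c₂ * (x₀ * x₀) * c₂⁻¹ := by group
      _ = x₀ * x₀ := conj_eq_of_comm (zp_comm h.zc2 (P2 x₀ hx₀))
  have hww : w₀ * w₀ = z := by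
    have e1 := wd_sq hc2 hx₀ hx₀' hsq
    have e3 : w₀ * w₀ = ⁅c₂ * x₀ * c₂⁻¹, x₀⁻¹⁆ := e1
    have h1 : w₀ * w₀ ∈ zpowers z := P2 _ hw
    rcases mem_zpowers_sq h.zz h1 with h2 | h2
    · exfalso
      rw [e3, cm_inv_right hc2 hx₀' hx₀, inv_eq_one, ← cm_inv, inv_eq_one] at h2
      exact hne h2
    · exact h2
  -- a noncommuting conjugate
  have hex : ∃ i : ℤ, ¬ Commute w₀ (c₂ ^ i * w₀ * (c₂ ^ i)⁻¹) := by
    by_contra hcon
    push Not at hcon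
    let S : Set G := Set.range (fun i : ℤ => c₂ ^ i * w₀ * (c₂ ^ i)⁻¹)
    have hSab : ∀ a ∈ S, ∀ b ∈ S, a * b = b * a := by
      rintro _ ⟨i, rfl⟩ _ ⟨j, rfl⟩
      have h1 := hcon (j - i)
      have h2 : Commute (c₂ ^ i * w₀ * (c₂ ^ i)⁻¹)
          (c₂ ^ i * (c₂ ^ (j - i) * w₀ * (c₂ ^ (j - i))⁻¹) * (c₂ ^ i)⁻¹) :=
        (Commute.conj_iff (c₂ ^ i)).mpr h1
      have e : c₂ ^ i * (c₂ ^ (j - i) * w₀ * (c₂ ^ (j - i))⁻¹) * (c₂ ^ i)⁻¹ =
          c₂ ^ j * w₀ * (c₂ ^ j)⁻¹ := by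
        have : j = i + (j - i) := by omega
        conv_rhs => rw [this, zpow_add]
        group
      rw [e] at h2
      exact h2.eq
    have hS2 : ∀ s ∈ S, c₂ * s * c₂⁻¹ ∈ S := by
      rintro _ ⟨i, rfl⟩
      refine ⟨1 + i, ?_⟩
      simp only [zpow_add, zpow_one]
      group
    have hS2' : ∀ s ∈ S, c₂⁻¹ * s * c₂⁻¹⁻¹ ∈ S := by
      rintro _ ⟨i, rfl⟩
      refine ⟨-1 + i, ?_⟩
      simp only [zpow_add, zpow_neg, zpow_one]
      group
    have hS1 : ∀ s ∈ S, s * c₁ = c₁ * s := by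
      rintro _ ⟨i, rfl⟩
      have a1 : Commute c₂ c₁ := h.comm.symm
      have a2 : Commute w₀ c₁ := hw1
      have a3 : Commute (c₂ ^ i) c₁ := a1.zpow_left i
      exact ((a3.mul_left a2).mul_left a3.inv_left).eq
    have hD : ∀ a ∈ Subgroup.closure S, a * c₁ = c₁ * a := by
      intro a ha
      have hle : Subgroup.closure S ≤ centralizer ({c₁} : Set G) := by
        rw [Subgroup.closure_le]
        intro s hs
        refine Subgroup.mem_centralizer_iff.mpr ?_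
        rintro _ rfl
        exact (hS1 s hs).symm
      exact ((Subgroup.mem_centralizer_iff.mp (hle ha)) c₁ rfl).symm
    have hDX : Subgroup.closure S ≤ X := by
      rw [Subgroup.closure_le]
      rintro _ ⟨i, rfl⟩
      exact nconj (Subgroup.zpow_mem _ h.n2 i) hw
    have hw₀S : w₀ ∈ Subgroup.closure S := Subgroup.subset_closure ⟨0, by simp⟩
    have := h.swap.fix_abelian hDX (comm_closure hSab)
      (mem_normalizer_of_forall (conj_mem_closure hS2)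
        (fun a ha => by simpa using conj_mem_closure hS2' a ha))
      (mem_normalizer_of_commute (fun a ha => hD a ha)) w₀ hw₀S
    exact hw2 this
  obtain ⟨i, hi⟩ := hex
  have hcfix : ∀ g : G, g * c₂ = c₂ * g → c₂ ^ i * g * (c₂ ^ i)⁻¹ = g := by
    intro g hg
    have a1 : Commute c₂ g := hg.symm
    have a2 : Commute (c₂ ^ i) g := a1.zpow_left i
    rw [a2.eq]
    group
  have hzi : c₂ ^ i * z * (c₂ ^ i)⁻¹ = z := hcfix z h.zc2
  have hy₁X : c₂ ^ i * w₀ * (c₂ ^ i)⁻¹ ∈ X := nconj (Subgroup.zpow_mem _ h.n2 i) hw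
  refine ⟨w₀, hw, c₂ ^ i * w₀ * (c₂ ^ i)⁻¹, hy₁X, hw1, ?_, hww, ?_, ?_, ?_⟩
  · have a1 : Commute c₂ c₁ := h.comm.symm
    have a2 : Commute w₀ c₁ := hw1
    have a3 : Commute (c₂ ^ i) c₁ := a1.zpow_left i
    exact ((a3.mul_left a2).mul_left a3.inv_left).eq
  · calc (c₂ ^ i * w₀ * (c₂ ^ i)⁻¹) * (c₂ ^ i * w₀ * (c₂ ^ i)⁻¹)
        = c₂ ^ i * (w₀ * w₀) * (c₂ ^ i)⁻¹ := by group
      _ = z := by rw [hww, hzi]
  · rcases mem_zpowers_sq h.zz (P3 _ hw _ hy₁X) with h1 | h1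
    · exact absurd (cm_eq_one.mp h1) hi
    · exact h1
  · intro g hg hgc
    have hcomm : g * w₀ = w₀ * g := by
      have hone : ⁅w₀, g⁆ = 1 := by
        rw [hw₀]
        unfold wd
        rw [cm_mul_left hc2 (X.inv_mem hx₀) hx₀' hg, cm_inv_left hc2 hx₀ hg]
        have e := cm_conj c₂ x₀ g
        rw [conj_eq_of_comm hgc.symm] at e
        rw [← e, conj_eq_of_comm (zp_comm h.zc2 (P3 _ hx₀ _ hg))]
        group
      exact (cm_eq_one.mp hone).symm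
    refine ⟨hcomm, ?_⟩
    have e := hcfix g hgc
    have h2 : Commute (c₂ ^ i * g * (c₂ ^ i)⁻¹) (c₂ ^ i * w₀ * (c₂ ^ i)⁻¹) :=
      (Commute.conj_iff (c₂ ^ i)).mpr hcomm
    rw [e] at h2
    exact h2.eq

/-- The structure lemma. -/
theorem LD.main [Finite G] (h : LD T c₁ c₂ v z) :
    ∃ X ≤ T, v ∈ normalizer (X : Set G) ∧
      ∃ x₁ ∈ X, ∃ y₁ ∈ X, ∃ x₂ ∈ X, ∃ y₂ ∈ X,
        x₁ * c₁ = c₁ * x₁ ∧ y₁ * c₁ = c₁ * y₁ ∧ x₂ * c₂ = c₂ * x₂ ∧ y₂ * c₂ = c₂ * y₂ ∧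
        x₁ * x₁ = z ∧ y₁ * y₁ = z ∧ x₂ * x₂ = z ∧ y₂ * y₂ = z ∧ ⁅x₁, y₁⁆ = z ∧ ⁅x₂, y₂⁆ = z ∧
        (∀ g ∈ X, g * c₂ = c₂ * g → g * x₁ = x₁ * g ∧ g * y₁ = y₁ * g) ∧
        (∀ g ∈ X, g * c₁ = c₁ * g → g * x₂ = x₂ * g ∧ g * y₂ = y₂ * g) := by
  obtain ⟨X, hXT, hm⟩ := exists_LDmin h
  have hX := hm.1
  have hc2 : H2 X := fun x hx y hy g hg =>
    hm.class_two _ (Subgroup.commutator_mem_commutator hx hy) g hg
  have P2 := hm.sq_mem hc2
  have P3 : ∀ x ∈ X, ∀ y ∈ X, ⁅x, y⁆ ∈ zpowers z := fun x hx y hy =>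
    hm.comm_mem_of_sq hc2 hx hy (P2 x hx)
  obtain ⟨x₁, hx₁, y₁, hy₁, a1, a2, a3, a4, a5, a6⟩ := hX.half P2 P3
  obtain ⟨x₂, hx₂, y₂, hy₂, b1, b2, b3, b4, b5, b6⟩ := hX.swap.half P2 P3
  exact ⟨X, hXT, hX.nv, x₁, hx₁, y₁, hy₁, x₂, hx₂, y₂, hy₂, a1, a2, b1, b2, a3, a4, b3, b4, a5, b5,
    a6, b6⟩

end Cfsg.Agent.Lib.KM
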