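import Mathlib
import Cfsg.Agent.Lib.KMb

/-!
# Klinger-Mason rank bound: local analysis

Under the hypothesis that normalizers of nontrivial `p`-subgroups and of nontrivial `2`-subgroups have
characteristic `p` and `2`: rank restrictions on commuting elementary abelian `2`-groups and
`p`-groups.
-/

set_option autoImplicit false

open Cfsg
open Cfsg.Agent.Lib.CharTwoLocal
open Subgroup (normalizer centralizer zpowers)
open scoped commutatorElement

namespace Cfsg.Agent.Lib.KM

variable {G : Type*} [Group G]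

/-- The standing hypothesis. -/
structure KH (p : ℕ) (G : Type*) [Group G] : Prop where
  hp2 : p ≠ 2
  hCp : ∀ T : Subgroup G, IsPGroup p T → T ≠ ⊥ → CT p (normalizer (T : Set G))
  hC2 : ∀ T : Subgroup G, IsPGroup 2 T → T ≠ ⊥ → CT 2 (normalizer (T : Set G))

/-! ## Small facts -/

theorem exists_mem_ne_one {U : Subgroup G} (h : 1 < Nat.card U) : ∃ x ∈ U, x ≠ 1 := by
  by_contra hc
  push Not at hc
  have : U = ⊥ := (Subgroup.eq_bot_iff_forall U).mpr hc
  rw [this, Subgroup.card_bot] at h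
  exact lt_irrefl _ h

theorem not_dvd_card [Finite G] {p q : ℕ} [hp : Fact p.Prime] [hq : Fact q.Prime] {X : Subgroup G}
    (hX : IsPGroup p X) (hne : q ≠ p) : ¬ q ∣ Nat.card X := by
  obtain ⟨n, hn⟩ := IsPGroup.iff_card.mp hX
  rw [hn]
  intro h
  have := hq.out.dvd_of_dvd_pow h
  exact hne ((Nat.prime_dvd_prime_iff_eq hq.out hp.out).mp this)

theorem eq_one_of_mem_two {p q : ℕ} [hp : Fact p.Prime] [hq : Fact q.Prime] [Finite G]
    {P Q : Subgroup G} (hP : IsPGroup p P) (hQ : IsPGroup q Q) (hne : q ≠ p) {d : G}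
    (h1 : d ∈ P) (h2 : d ∈ Q) : d = 1 := by
  obtain ⟨k, hk⟩ := hQ ⟨d, h2⟩
  have hk' : d ^ q ^ k = 1 := by
    have := congrArg Subtype.val hk
    simpa using this
  exact eq_one_of_pow_eq_one_of_coprime hP h1
    (Nat.Coprime.pow_left k ((Nat.coprime_primes hq.out hp.out).mpr hne)) hk'

theorem card_gt_one_of_pow {p f : ℕ} [hp : Fact p.Prime] {E : Subgroup G}
    (h : Nat.card E = p ^ f) (hf : 1 ≤ f) : 1 < Nat.card E := by
  rw [h]
  exact Nat.one_lt_pow (by omega) hp.out.one_lt

theorem ne_bot_of_card {E : Subgroup G} (h : 1 < Nat.card E) : E ≠ ⊥ := by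
  rintro rfl
  rw [Subgroup.card_bot] at h
  exact lt_irrefl _ h

theorem n_zp {c u : G} (h : c * u = u * c) : c ∈ normalizer (zpowers u : Set G) := by
  apply mem_normalizer_of_commute
  intro a ha
  obtain ⟨k, rfl⟩ := Subgroup.mem_zpowers_iff.mp ha
  have : Commute c u := h
  exact (this.zpow_right k).symm.eq

theorem n_Oc {p : ℕ} {g : G} {H : Subgroup G} (hg : g ∈ H) :
    g ∈ normalizer ((Oc p H : Subgroup G) : Set G) :=
  mem_normalizer_of_forall (fun _ ha => conj_mem_Oc hg ha)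
    (fun _ ha => by simpa using conj_mem_Oc (H.inv_mem hg) ha)

theorem n_sup {c : G} {X Y : Subgroup G} (h : c ∈ normalizer (X : Set G))
    (h' : c ∈ normalizer (Y : Set G)) : c ∈ normalizer ((X ⊔ Y : Subgroup G) : Set G) := by
  have key : ∀ {d : G}, d ∈ normalizer (X : Set G) → d ∈ normalizer (Y : Set G) →
      X ⊔ Y ≤ (X ⊔ Y).comap (MulAut.conj d).toMonoidHom := by
    intro d h1 h2
    apply sup_le
    · intro a ha
      exact Subgroup.mem_sup_left (nconj h1 ha)
    · intro a ha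
      exact Subgroup.mem_sup_right (nconj h2 ha)
  apply mem_normalizer_of_forall
  · intro a ha
    exact key h h' ha
  · intro a ha
    have := key (Subgroup.inv_mem _ h) (Subgroup.inv_mem _ h') ha
    simpa using this

theorem comm_sup_zp {E : Subgroup G} {c b : G} (h1 : ∀ a ∈ E, a * b = b * a) (h2 : c * b = b * c) :
    ∀ a ∈ E ⊔ zpowers c, a * b = b * a := by
  have hle : E ⊔ zpowers c ≤ centralizer ({b} : Set G) := by
    apply sup_le
    · intro a ha
      exact Subgroup.mem_centralizer_iff.mpr (by rintro _ rfl; exact (h1 a ha).symm)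
    · rw [Subgroup.zpowers_le]
      exact Subgroup.mem_centralizer_iff.mpr (by rintro _ rfl; exact h2.symm)
  intro a ha
  exact ((Subgroup.mem_centralizer_iff.mp (hle ha)) b rfl).symm

theorem ea_zp {q : ℕ} {u : G} (hu : u ^ q = 1) : Ea q (zpowers u) := by
  constructor
  · intro a ha b hb
    obtain ⟨k, rfl⟩ := Subgroup.mem_zpowers_iff.mp ha
    obtain ⟨l, rfl⟩ := Subgroup.mem_zpowers_iff.mp hb
    exact (Commute.zpow_zpow (Commute.refl u) k l).eq
  · intro a ha
    obtain ⟨k, rfl⟩ := Subgroup.mem_zpowers_iff.mp ha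
    rw [← zpow_natCast, ← zpow_mul, mul_comm, zpow_mul, zpow_natCast, hu, one_zpow]

theorem card_zp {q : ℕ} [hq : Fact q.Prime] {u : G} (hu : u ^ q = 1) (hu1 : u ≠ 1) :
    Nat.card (zpowers u) = q := by
  rw [Nat.card_zpowers, orderOf_eq_prime hu hu1]

theorem isP2_zp {u : G} (hu : u * u = 1) : IsPGroup 2 (zpowers u) :=
  (ea_zp (sq_of_mul_self hu)).isPGroup

theorem zp_ne_bot {u : G} (hu1 : u ≠ 1) : zpowers u ≠ ⊥ := by
  intro h
  rw [Subgroup.zpowers_eq_bot] at h
  exact hu1 h

theorem mem_zp_of_prime [Finite G] {p : ℕ} [hp : Fact p.Prime] {a b : G} (ha : a ^ p = 1)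
    (hb : b ∈ zpowers a) (hb1 : b ≠ 1) : a ∈ zpowers b := by
  have ha1 : a ≠ 1 := by
    rintro rfl
    apply hb1
    simpa using hb
  have hbp : b ^ p = 1 := (ea_zp ha).2 b hb
  have : zpowers b = zpowers a := by
    apply Subgroup.eq_of_le_of_card_ge
    · rwa [Subgroup.zpowers_le]
    · rw [card_zp ha ha1, card_zp hbp hb1]
  rw [this]
  exact Subgroup.mem_zpowers a

theorem ea_sup {q : ℕ} [hq : Fact q.Prime] [Finite G] {E : Subgroup G} {b : G} (hE : Ea q E)
    (hb : b ^ q = 1) (hc : ∀ a ∈ E, a * b = b * a) : Ea q (E ⊔ zpowers b) := by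
  by_cases hbE : b ∈ E
  · have : E ⊔ zpowers b = E := sup_eq_left.mpr (by rwa [Subgroup.zpowers_le])
    rwa [this]
  · exact (Ea.sup_zpowers hE hb hc hbE).1

/-! ## `O_p` and `O_2` -/

section localpart

variable [Finite G] {p : ℕ} [hp : Fact p.Prime]

/-- `O_2` of the centralizer of an involution. -/
abbrev QQ (u : G) : Subgroup G := Oc 2 (normalizer (zpowers u : Set G))

theorem isP_QQ (u : G) : IsPGroup 2 (QQ u) := isPGroup_Oc 2 _

theorem QQ_comm {u x : G} (hu : u * u = 1) (hu1 : u ≠ 1) (hx : x ∈ QQ u) : x * u = u * x := by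
  have h1 : x ∈ normalizer (zpowers u : Set G) := Oc_le _ _ hx
  have h2 : x * u * x⁻¹ ∈ zpowers u := nconj h1 (Subgroup.mem_zpowers u)
  rcases mem_zpowers_sq hu h2 with h3 | h3
  · exfalso
    apply hu1
    have : x⁻¹ * (x * u * x⁻¹) * x = u := by group
    rw [← this, h3]; group
  · exact comm_of_conj_eq h3

theorem mem_QQ {u : G} (hu : u * u = 1) : u ∈ QQ u := by
  have : zpowers u ≤ QQ u := by
    apply le_Oc (Subgroup.le_normalizer) (isP2_zp hu)
    intro h hh x hx
    exact nconj hh hx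
  exact this (Subgroup.mem_zpowers u)

theorem n_QQ {u c : G} (h : c * u = u * c) : c ∈ normalizer ((QQ u : Subgroup G) : Set G) :=
  n_Oc (n_zp h)

/-- Thompson's lemma gives an element of `O_p(N(E)) ∩ C(E)` moved by `u`. -/
theorem moved_P (hK : KH p G) {E : Subgroup G} (hE : IsPGroup p E) (hE1 : E ≠ ⊥) {u : G} (hu : u ≠ 1)
    (huc : (orderOf u).Coprime p) (hcomm : ∀ e ∈ E, u * e = e * u) :
    ∃ x ∈ Oc p (normalizer (E : Set G)), (∀ e ∈ E, x * e = e * x) ∧ u * x ≠ x * u := by
  by_contra hc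
  push Not at hc
  have huN : u ∈ normalizer (E : Set G) := n_comm hcomm
  have h1 := thompson_AB_elem (isPGroup_Oc p (normalizer (E : Set G))) hE
    (fun e he => n_Oc (Subgroup.le_normalizer he)) (n_Oc huN) hcomm huc hc
  have h2 : u ∈ Oc p (normalizer (E : Set G)) := hK.hCp E hE hE1 u huN h1
  obtain ⟨k, hk⟩ := isPGroup_Oc p (normalizer (E : Set G)) ⟨u, h2⟩
  have hk' : u ^ p ^ k = 1 := by
    have := congrArg Subtype.val hk
    simpa using this
  have h3 : orderOf u ∣ p ^ k := orderOf_dvd_of_pow_eq_one hk'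
  have h4 : Nat.gcd (orderOf u) (p ^ k) = 1 := Nat.Coprime.pow_right k huc
  have h5 : orderOf u ∣ 1 := by
    rw [← h4]; exact Nat.dvd_gcd dvd_rfl h3
  exact hu (orderOf_eq_one_iff.mp (Nat.dvd_one.mp h5))

/-- An element of odd order centralizing `u` moves `O_2(C(u))`. -/
theorem moved_Q (hK : KH p G) {u y : G} (hu : u * u = 1) (hu1 : u ≠ 1) (hy : y ≠ 1)
    (hyo : (orderOf y).Coprime 2) (hc : y * u = u * y) : ∃ x ∈ QQ u, y * x ≠ x * y := by
  by_contra hcon
  push Not at hcon
  have h2 : y ∈ QQ u := hK.hC2 (zpowers u) (isP2_zp hu) (zp_ne_bot hu1) y (n_zp hc) hcon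
  apply hy
  obtain ⟨k, hk⟩ := isP_QQ u ⟨y, h2⟩
  have hk' : y ^ 2 ^ k = 1 := by
    have := congrArg Subtype.val hk
    simpa using this
  have h3 : orderOf y ∣ 2 ^ k := orderOf_dvd_of_pow_eq_one hk'
  have h4 : Nat.gcd (orderOf y) (2 ^ k) = 1 := Nat.Coprime.pow_right k hyo
  have h5 : orderOf y ∣ 1 := by
    rw [← h4]; exact Nat.dvd_gcd dvd_rfl h3
  exact orderOf_eq_one_iff.mp (Nat.dvd_one.mp h5)

/-- Commutation of `O_p(N(F)) ∩ C(u)` with `O_2(C(u)) ∩ C(F)`. -/
theorem comm_R_Q (hK : KH p G) {F : Subgroup G} {u a s : G}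
    (ha : a ∈ Oc p (normalizer (F : Set G))) (hau : a * u = u * a) (hs : s ∈ QQ u)
    (hsF : ∀ f ∈ F, s * f = f * s) : a * s = s * a := by
  have e : a * s * a⁻¹ * s⁻¹ = a * (s * a⁻¹ * s⁻¹) := by group
  have h1 : a * s * a⁻¹ * s⁻¹ ∈ QQ u :=
    (QQ u).mul_mem (conj_mem_Oc (n_zp hau) hs) ((QQ u).inv_mem hs)
  have h2 : a * s * a⁻¹ * s⁻¹ ∈ Oc p (normalizer (F : Set G)) := by
    rw [e]
    exact Subgroup.mul_mem _ ha (conj_mem_Oc (n_comm hsF) (Subgroup.inv_mem _ ha))
  have h3 := eq_one_of_mem_two (isPGroup_Oc p (normalizer (F : Set G))) (isP_QQ u) hK.hp2.symm h2 h1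
  have h4 : a * s * a⁻¹ * s⁻¹ * s = 1 * s := by rw [h3]
  have h5 : a * s * a⁻¹ * a = s * a := by
    rw [show a * s * a⁻¹ * s⁻¹ * s = a * s * a⁻¹ by group, one_mul] at h4
    rw [h4]
  rw [← h5]; group

theorem le_Oc_self {E : Subgroup G} (hE : IsPGroup p E) : E ≤ Oc p (normalizer (E : Set G)) :=
  le_Oc Subgroup.le_normalizer hE (fun _ hh _ hx => nconj hh hx)

/-! ## Configurations -/

/-- An involution commuting with an elementary abelian `p`-group of order `p ^ m`. -/
def Conf (p : ℕ) (G : Type*) [Group G] (m : ℕ) : Prop :=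
  ∃ (t : G) (A : Subgroup G), t * t = 1 ∧ t ≠ 1 ∧ Ea p A ∧ Nat.card A = p ^ m ∧ ∀ a ∈ A, a * t = t * a

theorem exists_r (p : ℕ) [hp : Fact p.Prime] (G : Type*) [Group G] [Finite G] :
    ∃ r, (∀ m, Conf p G m → m ≤ r) ∧ (r ≠ 0 → Conf p G r) := by
  classical
  refine ⟨Nat.findGreatest (Conf p G) (Nat.card G), ?_, ?_⟩
  · intro m hm
    apply Nat.le_findGreatest _ hm
    obtain ⟨t, A, -, -, -, hc, -⟩ := hm
    have h1 : Nat.card A ≤ Nat.card G := Subgroup.card_le_card_group A
    have h2 : m < p ^ m := Nat.lt_pow_self hp.out.one_lt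
    rw [hc] at h1
    omega
  · intro h0
    exact Nat.findGreatest_of_ne_zero rfl h0

theorem card_half {q n c : ℕ} [hq : Fact q.Prime] (h : q * c = q ^ (n + 1)) : c = q ^ n := by
  have : q * c = q * q ^ n := by rw [h, pow_succ']
  exact Nat.eq_of_mul_eq_mul_left hq.out.pos this

/-- The rank restriction. -/
theorem forbid (hK : KH p G) {r : ℕ} (hr : ∀ m, Conf p G m → m ≤ r) :
    ∀ (k f : ℕ) (U E : Subgroup G), Ea 2 U → Nat.card U = 2 ^ (k + 1) → Ea p E → Nat.card E = p ^ f →
      1 ≤ f → (∀ u ∈ U, ∀ e ∈ E, u * e = e * u) → f + k ≤ r := by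
  intro k
  induction k with
  | zero =>
    intro f U E hU hUc hE hEc _ hcomm
    obtain ⟨x, hx, hx1⟩ := exists_mem_ne_one (U := U) (by rw [hUc]; norm_num)
    have hxx : x * x = 1 := by
      have := hU.2 x hx
      rwa [pow_two] at this
    exact hr f ⟨x, E, hxx, hx1, hE, hEc, fun a ha => (hcomm x hx a ha).symm⟩
  | succ k ih =>
    intro f U E hU hUc hE hEc hf hcomm
    obtain ⟨x, hx, hx1⟩ := exists_mem_ne_one (U := U)
      (by rw [hUc]; exact Nat.one_lt_pow (by omega) (by norm_num))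
    have hxx : x * x = 1 := by
      have := hU.2 x hx
      rwa [pow_two] at this
    have hE1 : E ≠ ⊥ := ne_bot_of_card (card_gt_one_of_pow hEc hf)
    have hxo : (orderOf x).Coprime p := coprime_of_pow_prime hK.hp2.symm (hU.2 x hx)
    obtain ⟨x', hx'R, hx'E, hx'm⟩ := moved_P hK hE.isPGroup hE1 hx1 hxo (hcomm x hx)
    let P : Subgroup G := Oc p (normalizer (E : Set G)) ⊓ centralizer (E : Set G)
    have hPp : IsPGroup p P := (isPGroup_Oc p _).to_le inf_le_left
    have hUN : ∀ u ∈ U, u ∈ normalizer (P : Set G) := fun u hu =>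
      n_inf (n_Oc (n_comm (hcomm u hu))) (n_cent (n_comm (hcomm u hu)))
    obtain ⟨B, hB, hBc, x'', hx'', hx''B, hx''m⟩ := gen_moved (q := 2) (A := U) (X := P) (y := x) hU
      (not_dvd_card hPp hK.hp2.symm) hUN
      ⟨x', ⟨hx'R, Subgroup.mem_centralizer_iff.mpr (fun e he => (hx'E e he).symm)⟩, hx'm⟩
      (fun z _ hz => (hz x hx).symm)
    have hBc' : Nat.card B = 2 ^ (k + 1) := by
      rw [hUc] at hBc
      exact card_half hBc
    let P' : Subgroup G := P ⊓ centralizer (B : Set G)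
    have hP'p : IsPGroup p P' := hPp.to_le inf_le_left
    have hxN : x ∈ normalizer (P' : Set G) :=
      n_inf (hUN x hx) (n_cent (n_comm (fun b hb => hU.1 x hx b (hB hb))))
    obtain ⟨b, hbP', hb1, hbp, hbi⟩ := inverted hP'p hxx hxN
      (⟨hx'', Subgroup.mem_centralizer_iff.mpr (fun e he => (hx''B e he).symm)⟩ : x'' ∈ P') hx''m
    have hbm := moved_of_inverted hK.hp2 hb1 hbp hbi
    have hbE : b ∉ E := fun h => hbm (hcomm x hx b h)
    have hbc : ∀ a ∈ E, a * b = b * a := fun a ha =>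
      (Subgroup.mem_centralizer_iff.mp hbP'.1.2) a ha
    obtain ⟨h1, h2, h3⟩ := Ea.sup_zpowers hE hbp hbc hbE
    have hcomm' : ∀ u ∈ B, ∀ e ∈ E ⊔ zpowers b, u * e = e * u := by
      intro u hu e he
      have key := comm_sup_zp (b := u) (E := E) (c := b)
        (fun a ha => (hcomm u (hB hu) a ha).symm)
        ((Subgroup.mem_centralizer_iff.mp hbP'.2) u hu).symm
      exact (key e he).symm
    have := ih (f + 1) B (E ⊔ zpowers b) (hU.mono hB) hBc' h1
      (by rw [h2, hEc, pow_succ']) (by omega) hcomm'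
    omega

/-- An elementary abelian 2-group normalized by a maximal elementary `p`-group of the centralizer of
`u` lies in `⟨u⟩`. -/
theorem inv_elem_le (hK : KH p G) {r : ℕ} (hr : ∀ m, Conf p G m → m ≤ r) {u : G}
    {A E₃ : Subgroup G} (hu : u * u = 1) (hu1 : u ≠ 1) (hA : Ea p A) (hAc : Nat.card A = p ^ r)
    (hr2 : 2 ≤ r) (huA : ∀ a ∈ A, a * u = u * a) (hE : Ea 2 E₃) (hEu : ∀ e ∈ E₃, e * u = u * e)
    (hn : A ≤ normalizer (E₃ : Set G)) : E₃ ≤ zpowers u := by
  by_contra hne
  have hu2 : u ^ 2 = 1 := sq_of_mul_self hu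
  let X : Subgroup G := E₃ ⊔ zpowers u
  have hX : Ea 2 X := ea_sup hE hu2 hEu
  have hXne : ¬ X ≤ zpowers u := fun h => hne (le_sup_left.trans h)
  have hAX : A ≤ normalizer (X : Set G) := fun a ha => n_sup (hn ha) (n_zp (huA a ha))
  have hnd : ¬ p ∣ Nat.card X := not_dvd_card hX.isPGroup hK.hp2
  obtain ⟨B, hB, hBc, e, heX, heB, heu⟩ := gen_mem hA hnd hAX hXne
  have he2 : e ^ 2 = 1 := hX.2 e heX
  have hee : e * e = 1 := by rwa [pow_two] at he2
  have huX : u ∈ X := Subgroup.mem_sup_right (Subgroup.mem_zpowers u)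
  have heuc : u * e = e * u := hX.1 u huX e heX
  have hU1 : Ea 2 (zpowers u) := ea_zp hu2
  have hc1 : ∀ a ∈ zpowers u, a * e = e * a := comm_sup_zp (E := ⊥) (c := u)
    (fun a ha => by simp [Subgroup.mem_bot.mp ha]) heuc |> fun h a ha =>
      h a (Subgroup.mem_sup_right ha)
  obtain ⟨s1, s2, s3⟩ := Ea.sup_zpowers hU1 he2 hc1 heu
  have hcard2 : Nat.card ↥(zpowers u ⊔ zpowers e) = 2 ^ (1 + 1) := by
    rw [s2, card_zp hu2 hu1]; norm_num
  by_cases hfix : ∀ c ∈ A, c * e = e * c
  · -- `A` fixes `e`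
    have := forbid hK hr 1 r (zpowers u ⊔ zpowers e) A s1 hcard2 hA hAc (by omega) (by
      intro x hx a ha
      have := comm_sup_zp (E := zpowers u) (b := a) (c := e)
        (fun y hy => by
          obtain ⟨k, rfl⟩ := Subgroup.mem_zpowers_iff.mp hy
          have : Commute u a := (huA a ha).symm
          exact (this.zpow_left k).eq)
        (hfix a ha).symm
      exact this x hx)
    omega
  · push Not at hfix
    obtain ⟨c, hc, hcm⟩ := hfix
    have hBne : B ≠ A := by
      rintro rfl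
      exact hcm (heB c hc).symm
    have hBc' : p * Nat.card B = p ^ r := by
      rcases hBc with h | h
      · exact absurd h hBne
      · rw [h, hAc]
    have hcardB : Nat.card B = p ^ (r - 1) := by
      have e1 : r = (r - 1) + 1 := by omega
      rw [e1] at hBc'
      exact card_half hBc'
    set e' := c * e * c⁻¹ with he'
    have he'X : e' ∈ X := nconj (hAX hc) heX
    have he'2 : e' ^ 2 = 1 := hX.2 _ he'X
    have hcodd : (orderOf c).Coprime 2 := coprime_of_pow_prime hK.hp2 (hA.2 c hc)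
    have hcu : c * u = u * c := huA c hc
    have he'notin : e' ∉ zpowers u ⊔ zpowers e := by
      intro hmem
      obtain ⟨a, ha, k, hk⟩ := s3 _ hmem
      have hek : e ^ k ∈ zpowers e := Subgroup.pow_mem _ (Subgroup.mem_zpowers e) k
      have hacu : c * a = a * c := zp_comm hcu.symm ha
      rcases mem_zpowers_sq hee hek with h1 | h1
      · -- `e' = a`
        rw [h1, mul_one] at hk
        apply heu
        have : e = c⁻¹ * e' * c := by rw [he']; group
        rw [this, hk]
        have h2 : c⁻¹ * a * c = a := by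
          rw [mul_assoc, ← hacu]; group
        rw [h2]
        exact ha
      · -- `e' = a e`
        rw [h1] at hk
        apply hcm
        have ha2 : a * e = e * a := hc1 a ha
        refine commute_of_conj_eq_mul (isP2_zp hu) ha hcodd ?_ hacu
        rw [← he', hk, ha2]
    have hc2 : ∀ a ∈ zpowers u ⊔ zpowers e, a * e' = e' * a := by
      intro a ha
      exact s1.1 a ha |> fun _ => hX.1 a (sup_le (Subgroup.zpowers_le.mpr huX)
        (Subgroup.zpowers_le.mpr heX) ha) _ he'X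
    obtain ⟨t1, t2, -⟩ := Ea.sup_zpowers s1 he'2 hc2 he'notin
    have hbc : ∀ b ∈ B, e' * b = b * e' := by
      intro b hb
      have a1 : Commute c b := hA.1 c hc b (hB hb)
      have a2 : Commute e b := heB b hb
      exact ((a1.mul_left a2).mul_left a1.inv_left).eq
    have := forbid hK hr 2 (r - 1) (zpowers u ⊔ zpowers e ⊔ zpowers e') B t1
      (by rw [t2, hcard2]; norm_num) (hA.mono hB) hcardB (by omega) (by
        intro x hx b hb
        have k1 := comm_sup_zp (E := zpowers u) (b := b) (c := e)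
          (fun y hy => by
            obtain ⟨k, rfl⟩ := Subgroup.mem_zpowers_iff.mp hy
            have : Commute u b := (huA b (hB hb)).symm
            exact (this.zpow_left k).eq)
          (heB b hb)
        have k2 := comm_sup_zp (E := zpowers u ⊔ zpowers e) (b := b) (c := e') k1 (hbc b hb)
        exact k2 x hx)
    omega

end localpart

end Cfsg.Agent.Lib.KM
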