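import Mathlib
import Cfsg.Agent.Lib.KMc

/-!
# Klinger-Mason rank bound: the contradiction

Starting from an involution centralizing an elementary abelian `p`-group of maximal rank `r ≥ 3`.
-/

set_option autoImplicit false

open Cfsg
open Cfsg.Agent.Lib.CharTwoLocal
open Subgroup (normalizer centralizer zpowers)
open scoped commutatorElement

namespace Cfsg.Agent.Lib.KM

variable {G : Type*} [Group G] [Finite G] {p : ℕ} [hp : Fact p.Prime]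

theorem mem_cent_zp {x a : G} (h : x * a = a * x) :
    x ∈ centralizer ((zpowers a : Subgroup G) : Set G) := by
  rw [Subgroup.mem_centralizer_iff]
  intro b hb
  obtain ⟨k, rfl⟩ := Subgroup.mem_zpowers_iff.mp hb
  have : Commute x a := h
  exact (this.zpow_right k).symm.eq

theorem comm_of_cent_zp {x a : G} (h : x ∈ centralizer ((zpowers a : Subgroup G) : Set G)) :
    x * a = a * x :=
  ((Subgroup.mem_centralizer_iff.mp h) a (Subgroup.mem_zpowers a)).symm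

theorem mem_cent {x : G} {F : Subgroup G} (h : ∀ f ∈ F, x * f = f * x) :
    x ∈ centralizer (F : Set G) :=
  Subgroup.mem_centralizer_iff.mpr (fun f hf => (h f hf).symm)

theorem comm_of_cent {x f : G} {F : Subgroup G} (h : x ∈ centralizer (F : Set G)) (hf : f ∈ F) :
    x * f = f * x :=
  ((Subgroup.mem_centralizer_iff.mp h) f hf).symm

/-- Step: from a four-dimensional commuting 2-group... an inverted element in `O_p(N(F)) ∩ C(F)`. -/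
theorem levelB (hK : KH p G) {F U : Subgroup G} (hF : Ea p F) (hFne : F ≠ ⊥) (hU : Ea 2 U)
    (hUc : Nat.card U = 2 ^ 3) (hUF : ∀ u ∈ U, ∀ f ∈ F, u * f = f * u) :
    ∃ (h₀ v₀ y : G) (M : Subgroup G), h₀ * h₀ = 1 ∧ h₀ ≠ 1 ∧ v₀ * v₀ = 1 ∧ h₀ * v₀ = v₀ * h₀ ∧
      Ea p M ∧ F ≤ M ∧ Nat.card M = p * Nat.card F ∧
      (∀ m ∈ M, m * h₀ = h₀ * m ∧ m * v₀ = v₀ * m ∧ m ∈ Oc p (normalizer (F : Set G))) ∧
      y ≠ 1 ∧ y ^ p = 1 ∧ y ∉ M ∧ (∀ m ∈ M, m * y = y * m) ∧ y * h₀ = h₀ * y ∧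
      v₀ * y * v₀⁻¹ = y⁻¹ ∧ y ∈ Oc p (normalizer (F : Set G)) := by
  obtain ⟨t, ht, ht1⟩ := exists_mem_ne_one (U := U) (by rw [hUc]; norm_num)
  have hinv : ∀ u ∈ U, u * u = 1 := fun u hu => by
    have := hU.2 u hu
    rwa [pow_two] at this
  have hodd : ∀ u ∈ U, (orderOf u).Coprime p := fun u hu =>
    coprime_of_pow_prime hK.hp2.symm (hU.2 u hu)
  let R : Subgroup G := Oc p (normalizer (F : Set G))
  let P : Subgroup G := R ⊓ centralizer (F : Set G)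
  have hPp : IsPGroup p P := (isPGroup_Oc p _).to_le inf_le_left
  have hUN : ∀ u ∈ U, u ∈ normalizer (P : Set G) := fun u hu =>
    n_inf (n_Oc (n_comm (hUF u hu))) (n_cent (n_comm (hUF u hu)))
  have hmoved : ∀ u ∈ U, u ≠ 1 → ∃ x ∈ P, u * x ≠ x * u := by
    intro u hu hu1
    obtain ⟨x, hx, hxF, hxm⟩ := moved_P hK hF.isPGroup hFne hu1 (hodd u hu) (hUF u hu)
    exact ⟨x, ⟨hx, mem_cent hxF⟩, hxm⟩
  have hnd : ¬ 2 ∣ Nat.card P := not_dvd_card hPp hK.hp2.symm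
  obtain ⟨B₁, hB₁, hB₁c, x₁, hx₁, hx₁B, hx₁m⟩ := gen_moved (q := 2) (A := U) (X := P) (y := t) hU
    hnd hUN (hmoved t ht ht1) (fun z _ hz => (hz t ht).symm)
  have cB₁ : Nat.card B₁ = 2 ^ 2 := by
    rw [hUc] at hB₁c
    exact card_half hB₁c
  obtain ⟨x₀, hx₀, hx₀1⟩ := exists_mem_ne_one (U := B₁) (by rw [cB₁]; norm_num)
  have hx₀U := hB₁ hx₀
  obtain ⟨B₂, hB₂, hB₂c, x₂, hx₂, hx₂B, hx₂m⟩ := gen_moved (q := 2) (A := U) (X := P) (y := x₀) hU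
    hnd hUN (hmoved x₀ hx₀U hx₀1) (fun z _ hz => (hz x₀ hx₀U).symm)
  have hx₀B₂ : x₀ ∉ B₂ := fun h => hx₂m (hx₂B x₀ h).symm
  obtain ⟨k1, -⟩ := two_hyp hU hB₁ hB₂ hB₂c hx₀ hx₀B₂
  have cinf : Nat.card ↥(B₁ ⊓ B₂) = 2 ^ 1 := by
    rw [cB₁] at k1
    exact card_half k1
  obtain ⟨h₀, hh₀, hh₀1⟩ := exists_mem_ne_one (U := B₁ ⊓ B₂) (by rw [cinf]; norm_num)
  have hh₀U : h₀ ∈ U := hB₁ hh₀.1
  -- the first inverted element
  let P₁ : Subgroup G := P ⊓ centralizer (B₁ : Set G)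
  have htN : t ∈ normalizer (P₁ : Set G) :=
    n_inf (hUN t ht) (n_cent (n_comm (fun b hb => hU.1 t ht b (hB₁ hb))))
  obtain ⟨b₁, hb₁P, hb₁1, hb₁p, hb₁i⟩ := inverted (hPp.to_le inf_le_left) (hinv t ht) htN
    (⟨hx₁, mem_cent hx₁B⟩ : x₁ ∈ P₁) hx₁m
  have hb₁m := moved_of_inverted hK.hp2 hb₁1 hb₁p hb₁i
  have hb₁F : b₁ ∉ F := fun h => hb₁m (hUF t ht b₁ h)
  have hb₁c : ∀ a ∈ F, a * b₁ = b₁ * a := fun a ha => (comm_of_cent hb₁P.1.2 ha).symm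
  obtain ⟨m1, m2, -⟩ := Ea.sup_zpowers hF hb₁p hb₁c hb₁F
  -- Thompson
  let P' : Subgroup G := P ⊓ centralizer ((zpowers h₀ : Subgroup G) : Set G)
  have hP'p : IsPGroup p P' := hPp.to_le inf_le_left
  have hb₁P' : b₁ ∈ P' := ⟨hb₁P.1, mem_cent_zp (comm_of_cent hb₁P.2 hh₀.1)⟩
  have hx₂P' : x₂ ∈ P' := ⟨hx₂, mem_cent_zp (hx₂B h₀ hh₀.2)⟩
  have hx₀N : x₀ ∈ normalizer (P' : Set G) :=
    n_inf (hUN x₀ hx₀U) (n_cent (n_zp (hU.1 x₀ hx₀U h₀ hh₀U)))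
  have hx₀b₁ : x₀ * b₁ = b₁ * x₀ := (comm_of_cent hb₁P.2 hx₀).symm
  have hex : ∃ c ∈ P', (∀ r ∈ zpowers b₁, c * r = r * c) ∧ x₀ * c ≠ c * x₀ := by
    by_contra hcon
    push Not at hcon
    have hb₁zp : zpowers b₁ ≤ normalizer (P' : Set G) := by
      rw [Subgroup.zpowers_le]
      exact Subgroup.le_normalizer hb₁P'
    have := thompson_AB_elem hP'p (ea_zp hb₁p).isPGroup hb₁zp hx₀N
      (fun r hr => ((mem_cent_zp hx₀b₁.symm |> fun _ => zp_comm hx₀b₁.symm hr)))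
      (hodd x₀ hx₀U) hcon
    exact hx₂m (this x₂ hx₂P')
  obtain ⟨c, hc, hcb, hcm⟩ := hex
  let P'' : Subgroup G := P' ⊓ centralizer ((zpowers b₁ : Subgroup G) : Set G)
  have hx₀N'' : x₀ ∈ normalizer (P'' : Set G) := n_inf hx₀N (n_cent (n_zp hx₀b₁))
  obtain ⟨y, hyP, hy1, hyp, hyi⟩ := inverted (hP'p.to_le inf_le_left) (hinv x₀ hx₀U) hx₀N''
    (⟨hc, mem_cent hcb⟩ : c ∈ P'') hcm
  have hym := moved_of_inverted hK.hp2 hy1 hyp hyi
  have hyR : y ∈ Oc p (normalizer (F : Set G)) := hyP.1.1.1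
  have hyFc : ∀ f ∈ F, f * y = y * f := fun f hf => (comm_of_cent hyP.1.1.2 hf).symm
  have hyb : b₁ * y = y * b₁ := (comm_of_cent_zp hyP.2).symm
  have hMh₀ : ∀ m ∈ F ⊔ zpowers b₁, m * h₀ = h₀ * m :=
    comm_sup_zp (fun f hf => (hUF h₀ hh₀U f hf).symm) (comm_of_cent hb₁P.2 hh₀.1)
  have hMx₀ : ∀ m ∈ F ⊔ zpowers b₁, m * x₀ = x₀ * m :=
    comm_sup_zp (fun f hf => (hUF x₀ hx₀U f hf).symm) hx₀b₁.symm
  have hMy : ∀ m ∈ F ⊔ zpowers b₁, m * y = y * m := comm_sup_zp hyFc hyb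
  have hMR : F ⊔ zpowers b₁ ≤ Oc p (normalizer (F : Set G)) :=
    sup_le (le_Oc_self hF.isPGroup) ((Subgroup.zpowers_le).mpr hb₁P.1.1)
  refine ⟨h₀, x₀, y, F ⊔ zpowers b₁, hinv h₀ hh₀U, hh₀1, hinv x₀ hx₀U, hU.1 h₀ hh₀U x₀ hx₀U, m1,
    le_sup_left, m2, fun m hm => ⟨hMh₀ m hm, hMx₀ m hm, hMR hm⟩, hy1, hyp, ?_, hMy,
    comm_of_cent_zp hyP.1.2, hyi, hyR⟩
  intro hyM
  exact hym (hMx₀ y hyM).symm

/-- The final contradiction. -/
theorem levelCD (hK : KH p G) {r : ℕ} (hr : ∀ m, Conf p G m → m ≤ r) (hr3 : 3 ≤ r)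
    {F M : Subgroup G} {h₀ v₀ y : G} (hh₀ : h₀ * h₀ = 1) (hh₀1 : h₀ ≠ 1) (hv₀ : v₀ * v₀ = 1)
    (hh₀v₀ : h₀ * v₀ = v₀ * h₀) (hM : Ea p M) (hFM : F ≤ M) (hMc : Nat.card M = p ^ (r - 1))
    (hMp : ∀ m ∈ M, m * h₀ = h₀ * m ∧ m * v₀ = v₀ * m ∧ m ∈ Oc p (normalizer (F : Set G)))
    (hy1 : y ≠ 1) (hyp : y ^ p = 1) (hyM : y ∉ M) (hMy : ∀ m ∈ M, m * y = y * m)
    (hyh₀ : y * h₀ = h₀ * y) (hv₀y : v₀ * y * v₀⁻¹ = y⁻¹)
    (hyR : y ∈ Oc p (normalizer (F : Set G))) : False := by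
  have hp2 := hK.hp2
  have hv₀i : v₀⁻¹ = v₀ := inv_eq_of_mul_eq_one_left hv₀
  obtain ⟨a1, a2, -⟩ := Ea.sup_zpowers hM hyp hMy hyM
  have hA'c : Nat.card ↥(M ⊔ zpowers y) = p ^ r := by
    rw [a2, hMc, ← pow_succ']
    congr 1
    omega
  have hA'h : ∀ a ∈ M ⊔ zpowers y, a * h₀ = h₀ * a := comm_sup_zp (fun m hm => (hMp m hm).1) hyh₀
  have hFy : ∀ s ∈ QQ h₀, (∀ f ∈ F, s * f = f * s) → y * s = s * y := fun s hs hsF =>
    comm_R_Q hK hyR hyh₀ hs hsF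
  have hyo : (orderOf y).Coprime 2 := coprime_of_pow_prime hp2 hyp
  have hmv := moved_Q hK hh₀ hh₀1 hy1 hyo hyh₀
  have hMN : M ≤ normalizer ((QQ h₀ : Subgroup G) : Set G) := fun m hm => n_QQ (hMp m hm).1
  have hndQ : ¬ p ∣ Nat.card (QQ h₀) := not_dvd_card (isP_QQ h₀) hp2
  obtain ⟨Z₀, hZ₀, hZ₀c, x, hx, hxZ, hxm⟩ := gen_moved hM hndQ hMN hmv
    (fun x hx hxM => hFy x hx (fun f hf => hxM f (hFM hf)))
  have cZ₀ : Nat.card Z₀ = p ^ (r - 2) := by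
    have e1 : r - 1 = (r - 2) + 1 := by omega
    rw [hMc, e1] at hZ₀c
    exact card_half hZ₀c
  have hex : ∃ z₁ ∈ M, z₁ ∉ Z₀ := by
    by_contra hcon
    push Not at hcon
    have : Nat.card M ≤ Nat.card Z₀ := Subgroup.card_le_of_le hcon
    rw [← hZ₀c] at this
    have hpos : 0 < Nat.card Z₀ := Nat.card_pos
    have h2 := hp.out.two_le
    nlinarith
  obtain ⟨z₁, hz₁M, hz₁Z⟩ := hex
  have hMsup : Z₀ ⊔ zpowers z₁ = M := hyper_sup hM hZ₀ hZ₀c hz₁M hz₁Z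
  have hz₁1 : z₁ ≠ 1 := by
    rintro rfl
    exact hz₁Z Z₀.one_mem
  have hz₁p : z₁ ^ p = 1 := hM.2 z₁ hz₁M
  let T₀ : Subgroup G := QQ h₀ ⊓ centralizer (Z₀ : Set G)
  have hT₀Q : T₀ ≤ QQ h₀ := inf_le_left
  have hT₀p : IsPGroup 2 T₀ := (isP_QQ h₀).to_le hT₀Q
  have hA'Z : ∀ a ∈ M ⊔ zpowers y, ∀ f ∈ Z₀, a * f = f * a := fun a ha f hf =>
    a1.1 a ha f (le_sup_left (a := M) (hZ₀ hf))
  have hNT₀ : ∀ a : G, a * h₀ = h₀ * a → (∀ f ∈ Z₀, a * f = f * a) →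
      a ∈ normalizer (T₀ : Set G) := fun a h1 h2 => n_inf (n_QQ h1) (n_cent (n_comm h2))
  have hxT₀ : x ∈ T₀ := ⟨hx, mem_cent hxZ⟩
  -- the two-dimensional group `W`
  have hzM : zpowers z₁ ≤ M := (Subgroup.zpowers_le).mpr hz₁M
  have hyz₁ : y ∉ zpowers z₁ := fun h => hyM (hzM h)
  obtain ⟨w1, w2, w3⟩ := Ea.sup_zpowers (ea_zp hz₁p) hyp (fun a ha => hMy a (hzM ha)) hyz₁
  have hWA : zpowers z₁ ⊔ zpowers y ≤ M ⊔ zpowers y := sup_le_sup_right hzM _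
  have hWN : zpowers z₁ ⊔ zpowers y ≤ normalizer (T₀ : Set G) := fun a ha =>
    hNT₀ a (hA'h a (hWA ha)) (fun f hf => hA'Z a (hWA ha) f hf)
  have hyW : y ∈ zpowers z₁ ⊔ zpowers y := Subgroup.mem_sup_right (Subgroup.mem_zpowers y)
  obtain ⟨B, hB, hBc, x', hx', hx'B, hx'm⟩ := gen_moved w1 (not_dvd_card hT₀p hp2) hWN
    ⟨x, hxT₀, hxm⟩ (fun z _ hz => (hz y hyW).symm)
  have cB : Nat.card B = p ^ 1 := by
    rw [w2, card_zp hz₁p hz₁1] at hBc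
    have : p * Nat.card B = p ^ (1 + 1) := by rw [hBc]; ring
    exact card_half this
  obtain ⟨w, hw, hw1⟩ := exists_mem_ne_one (U := B) (by rw [cB]; simpa using hp.out.one_lt)
  have hwW := hB hw
  obtain ⟨a, ha, k, hwk⟩ := w3 w hwW
  have hx'w : x' * w = w * x' := hx'B w hw
  have hy'z : y ^ k ∈ zpowers y := Subgroup.pow_mem _ (Subgroup.mem_zpowers y) k
  have hy'p : (y ^ k) ^ p = 1 := (ea_zp hyp).2 _ hy'z
  have hap : a ^ p = 1 := (ea_zp hz₁p).2 _ ha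
  have haM : a ∈ M := hzM ha
  have hay : a * y ^ k = y ^ k * a := by
    have : Commute a y := hMy a haM
    exact (this.pow_right k).eq
  -- `a ≠ 1`
  have ha1 : a ≠ 1 := by
    rintro rfl
    rw [one_mul] at hwk
    apply hx'm
    have hw' : w ∈ zpowers y := by rw [hwk]; exact hy'z
    have hyw : y ∈ zpowers w := mem_zp_of_prime hyp hw' hw1
    exact (zp_comm hx'w.symm hyw).symm |> fun h => h
  -- `y ^ k ≠ 1`
  have hy'1 : y ^ k ≠ 1 := by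
    intro hk
    rw [hk, mul_one] at hwk
    rw [hwk] at hx'w hw1
    have hz₁w : z₁ ∈ zpowers a := mem_zp_of_prime hz₁p ha hw1
    have hx'z₁ : x' * z₁ = z₁ * x' := zp_comm hx'w.symm hz₁w
    have hx'Z : ∀ f ∈ Z₀, x' * f = f * x' := fun f hf => comm_of_cent hx'.2 hf
    have hle : M ≤ centralizer ((zpowers x' : Subgroup G) : Set G) := by
      rw [← hMsup]
      apply sup_le
      · intro f hf
        exact mem_cent_zp (hx'Z f hf).symm
      · rw [Subgroup.zpowers_le]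
        exact mem_cent_zp hx'z₁.symm
    apply hx'm
    exact hFy x' hx'.1 (fun f hf => (comm_of_cent_zp (hle (hFM hf))).symm)
  -- the two generators
  obtain ⟨y', hy'⟩ : ∃ y', y' = y ^ k := ⟨_, rfl⟩
  rw [← hy'] at hy'z hy'p hay hy'1 hwk
  have hva : v₀ * a * v₀⁻¹ = a := conj_eq_of_comm (hMp a haM).2.1.symm
  have hvy' : v₀ * y' * v₀⁻¹ = y'⁻¹ := by
    rw [hy', ← conj_pow, hv₀y, inv_pow]
  obtain ⟨c₂, hc₂⟩ : ∃ c₂, c₂ = a * y'⁻¹ := ⟨_, rfl⟩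
  have hvw : v₀ * w * v₀⁻¹ = c₂ := by
    rw [hwk, hc₂]
    calc v₀ * (a * y') * v₀⁻¹ = (v₀ * a * v₀⁻¹) * (v₀ * y' * v₀⁻¹) := by group
      _ = a * y'⁻¹ := by rw [hva, hvy']
  have hcomm1 : Commute a y' := hay
  have hprod1 : w * c₂⁻¹ = y' * y' := by
    rw [hwk, hc₂]
    calc a * y' * (a * y'⁻¹)⁻¹ = a * y' * y' * a⁻¹ := by group
      _ = y' * a * y' * a⁻¹ := by rw [hay]
      _ = y' * (a * y') * a⁻¹ := by group
      _ = y' * (y' * a) * a⁻¹ := by rw [hay]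
      _ = y' * y' := by group
  have hprod2 : w * c₂ = a * a := by
    rw [hwk, hc₂]
    calc a * y' * (a * y'⁻¹) = a * (y' * a) * y'⁻¹ := by group
      _ = a * (a * y') * y'⁻¹ := by rw [hay]
      _ = a * a := by group
  have hyy : y' * y' ≠ 1 := fun h => hy'1 (eq_one_of_sq_of_pow hp2 h hy'p)
  have haa : a * a ≠ 1 := fun h => ha1 (eq_one_of_sq_of_pow hp2 h hap)
  have hymem : y ∈ zpowers (y' * y') :=
    mem_zp_of_prime hyp (Subgroup.mul_mem _ hy'z hy'z) hyy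
  have hzmem : z₁ ∈ zpowers (a * a) :=
    mem_zp_of_prime hz₁p (Subgroup.mul_mem _ ha ha) haa
  have hgenK : ∀ K : Subgroup G, Z₀ ≤ K → w ∈ K → c₂ ∈ K → y ∈ K ∧ M ⊔ zpowers y ≤ K := by
    intro K h1 h2 h3
    have hyK : y ∈ K := by
      have : y' * y' ∈ K := by
        rw [← hprod1]
        exact K.mul_mem h2 (K.inv_mem h3)
      exact (Subgroup.zpowers_le.mpr this) hymem
    have hzK : z₁ ∈ K := by
      have : a * a ∈ K := by
        rw [← hprod2]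
        exact K.mul_mem h2 h3
      exact (Subgroup.zpowers_le.mpr this) hzmem
    refine ⟨hyK, sup_le ?_ (Subgroup.zpowers_le.mpr hyK)⟩
    rw [← hMsup]
    exact sup_le h1 (Subgroup.zpowers_le.mpr hzK)
  have hwA : w ∈ M ⊔ zpowers y := hWA hwW
  have hc₂A : c₂ ∈ M ⊔ zpowers y := by
    rw [hc₂]
    exact Subgroup.mul_mem _ (Subgroup.mem_sup_left haM)
      (Subgroup.mem_sup_right (Subgroup.inv_mem _ hy'z))
  have hnv : v₀ ∈ normalizer (T₀ : Set G) :=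
    hNT₀ v₀ hh₀v₀.symm (fun f hf => ((hMp f (hZ₀ hf)).2.1).symm)
  have hm12 : c₂ * x' ≠ x' * c₂ := by
    intro hcon
    have hK1 := (hgenK (centralizer ((zpowers x' : Subgroup G) : Set G))
      (fun f hf => mem_cent_zp (comm_of_cent hx'.2 hf).symm) (mem_cent_zp hx'w.symm)
      (mem_cent_zp hcon)).1
    exact hx'm (comm_of_cent_zp hK1)
  have hm21 : w * (v₀ * x' * v₀⁻¹) ≠ (v₀ * x' * v₀⁻¹) * w := by
    intro hcon
    have h1 : Commute w (v₀ * x' * v₀⁻¹) := hcon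
    have h2 := (Commute.conj_iff v₀).mpr h1
    rw [hvw] at h2
    have h3 : v₀ * (v₀ * x' * v₀⁻¹) * v₀⁻¹ = x' := by
      rw [hv₀i]
      calc v₀ * (v₀ * x' * v₀) * v₀ = (v₀ * v₀) * x' * (v₀ * v₀) := by group
        _ = x' := by rw [hv₀]; group
    rw [h3] at h2
    exact hm12 h2.eq
  have hLD : LD T₀ w c₂ v₀ h₀ :=
    { hT := hT₀p
      n1 := hNT₀ w (hA'h w hwA) (fun f hf => hA'Z w hwA f hf)
      n2 := hNT₀ c₂ (hA'h c₂ hc₂A) (fun f hf => hA'Z c₂ hc₂A f hf)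
      nv := hnv
      comm := a1.1 w hwA c₂ hc₂A
      o1 := coprime_of_pow_prime hp2 (a1.2 w hwA)
      o2 := coprime_of_pow_prime hp2 (a1.2 c₂ hc₂A)
      zT := ⟨mem_QQ hh₀, mem_cent (fun f hf => ((hMp f (hZ₀ hf)).1).symm)⟩
      zc := fun t ht => (QQ_comm hh₀ hh₀1 (hT₀Q ht)).symm
      zz := hh₀
      z1 := hh₀1
      zc1 := (hA'h w hwA).symm
      zc2 := (hA'h c₂ hc₂A).symm
      zv := hh₀v₀
      HT := by
        intro E hET hE n1 n2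
        refine inv_elem_le hK hr hh₀ hh₀1 a1 hA'c (by omega) hA'h hE
          (fun e he => QQ_comm hh₀ hh₀1 (hT₀Q (hET he))) ?_
        refine (hgenK (normalizer (E : Set G)) ?_ n1 n2).2
        intro f hf
        exact n_comm (fun e he => (comm_of_cent (hET he).2 hf).symm)
      m12 := ⟨x', hx', hx'w, hm12⟩
      m21 := by
        refine ⟨v₀ * x' * v₀⁻¹, nconj hnv hx', ?_, hm21⟩
        have h1 : Commute x' w := hx'w
        have h2 := (Commute.conj_iff v₀).mpr h1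
        rw [hvw] at h2
        exact h2.eq }
  obtain ⟨X, hXT, hvX, x₁, hx₁, y₁, hy₁, -, -, -, -, e1, e2, -, -, e5, e6, -, -, e9, -, e11, -⟩ :=
    hLD.main
  -- the conjugates
  obtain ⟨g, hg⟩ : ∃ g, g = v₀ * x₁ * v₀⁻¹ := ⟨_, rfl⟩
  obtain ⟨g', hg'⟩ : ∃ g', g' = v₀ * y₁ * v₀⁻¹ := ⟨_, rfl⟩
  have hgX : g ∈ X := by rw [hg]; exact nconj hvX hx₁
  have hg'X : g' ∈ X := by rw [hg']; exact nconj hvX hy₁
  have hgc : g * c₂ = c₂ * g := by
    have h1 : Commute x₁ w := e1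
    have h2 := (Commute.conj_iff v₀).mpr h1
    rw [hvw, ← hg] at h2
    exact h2.eq
  have hg'c : g' * c₂ = c₂ * g' := by
    have h1 : Commute y₁ w := e2
    have h2 := (Commute.conj_iff v₀).mpr h1
    rw [hvw, ← hg'] at h2
    exact h2.eq
  obtain ⟨g1, g2⟩ := e11 g hgX hgc
  obtain ⟨g'1, g'2⟩ := e11 g' hg'X hg'c
  have hvh : v₀ * h₀ * v₀⁻¹ = h₀ := conj_eq_of_comm hh₀v₀.symm
  have hgsq : g * g = h₀ := by
    rw [hg]
    calc v₀ * x₁ * v₀⁻¹ * (v₀ * x₁ * v₀⁻¹) = v₀ * (x₁ * x₁) * v₀⁻¹ := by group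
      _ = h₀ := by rw [e5, hvh]
  have hg'sq : g' * g' = h₀ := by
    rw [hg']
    calc v₀ * y₁ * v₀⁻¹ * (v₀ * y₁ * v₀⁻¹) = v₀ * (y₁ * y₁) * v₀⁻¹ := by group
      _ = h₀ := by rw [e6, hvh]
  have hcg : ⁅g, g'⁆ = h₀ := by
    rw [hg, hg', ← cm_conj, e9, hvh]
  have hxy : x₁ * y₁ = h₀ * (y₁ * x₁) := by
    rw [← e9, commutatorElement_def]; group
  have hgg : g * g' = h₀ * (g' * g) := by
    rw [← hcg, commutatorElement_def]; group
  have hX' : ∀ t ∈ X, h₀ * t = t * h₀ := fun t ht => (QQ_comm hh₀ hh₀1 (hT₀Q (hXT ht))).symm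
  obtain ⟨u₁, hu₁⟩ : ∃ u₁, u₁ = x₁ * g := ⟨_, rfl⟩
  obtain ⟨u₂, hu₂⟩ : ∃ u₂, u₂ = y₁ * g' := ⟨_, rfl⟩
  have hu₁X : u₁ ∈ X := by rw [hu₁]; exact X.mul_mem hx₁ hgX
  have hu₂X : u₂ ∈ X := by rw [hu₂]; exact X.mul_mem hy₁ hg'X
  have hu₁u₁ : u₁ * u₁ = 1 := by
    rw [hu₁]
    calc x₁ * g * (x₁ * g) = x₁ * (g * x₁) * g := by group
      _ = x₁ * (x₁ * g) * g := by rw [g1]
      _ = (x₁ * x₁) * (g * g) := by group
      _ = 1 := by rw [e5, hgsq, hh₀]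
  have hu₂u₂ : u₂ * u₂ = 1 := by
    rw [hu₂]
    calc y₁ * g' * (y₁ * g') = y₁ * (g' * y₁) * g' := by group
      _ = y₁ * (y₁ * g') * g' := by rw [g'2]
      _ = (y₁ * y₁) * (g' * g') := by group
      _ = 1 := by rw [e6, hg'sq, hh₀]
  have hu₁u₂ : u₁ * u₂ = u₂ * u₁ := by
    rw [hu₁, hu₂]
    calc (x₁ * g) * (y₁ * g') = x₁ * (g * y₁) * g' := by group
      _ = x₁ * (y₁ * g) * g' := by rw [g2]
      _ = (x₁ * y₁) * (g * g') := by group
      _ = (h₀ * (y₁ * x₁)) * (h₀ * (g' * g)) := by rw [hxy, hgg]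
      _ = h₀ * ((y₁ * x₁) * h₀) * (g' * g) := by group
      _ = h₀ * (h₀ * (y₁ * x₁)) * (g' * g) := by rw [hX' _ (X.mul_mem hy₁ hx₁)]
      _ = (h₀ * h₀) * ((y₁ * x₁) * (g' * g)) := by group
      _ = (y₁ * x₁) * (g' * g) := by rw [hh₀, one_mul]
      _ = y₁ * (x₁ * g') * g := by group
      _ = y₁ * (g' * x₁) * g := by rw [g'1]
      _ = (y₁ * g') * (x₁ * g) := by group
  have hvv : ∀ t : G, v₀ * (v₀ * t * v₀⁻¹) * v₀⁻¹ = t := by
    intro t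
    rw [hv₀i]
    calc v₀ * (v₀ * t * v₀) * v₀ = (v₀ * v₀) * t * (v₀ * v₀) := by group
      _ = t := by rw [hv₀]; group
  have hu₁v : u₁ * v₀ = v₀ * u₁ := by
    have : v₀ * u₁ * v₀⁻¹ = u₁ := by
      rw [hu₁]
      calc v₀ * (x₁ * g) * v₀⁻¹ = (v₀ * x₁ * v₀⁻¹) * (v₀ * g * v₀⁻¹) := by group
        _ = g * x₁ := by rw [← hg, hg, hvv]
        _ = x₁ * g := g1
    exact (comm_of_conj_eq this).symm
  have hu₂v : u₂ * v₀ = v₀ * u₂ := by
    have : v₀ * u₂ * v₀⁻¹ = u₂ := by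
      rw [hu₂]
      calc v₀ * (y₁ * g') * v₀⁻¹ = (v₀ * y₁ * v₀⁻¹) * (v₀ * g' * v₀⁻¹) := by group
        _ = g' * y₁ := by rw [← hg', hg', hvv]
        _ = y₁ * g' := g'2
    exact (comm_of_conj_eq this).symm
  -- independence
  have hne : ¬ Commute x₁ y₁ := by
    intro hc
    have : ⁅x₁, y₁⁆ = 1 := cm_eq_one.mpr hc
    rw [e9] at this
    exact hh₀1 this
  have hu₁Z : u₁ ∉ zpowers h₀ := by
    intro hm
    have h1 : Commute y₁ u₁ := zp_comm (hX' y₁ hy₁) hm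
    have h2 : Commute g y₁ := g2
    have h3 : x₁ = u₁ * g⁻¹ := by rw [hu₁]; group
    apply hne
    rw [h3]
    exact (h1.symm.mul_left h2.inv_left)
  have hu₁x : u₁ * x₁ = x₁ * u₁ := by
    rw [hu₁]
    calc x₁ * g * x₁ = x₁ * (g * x₁) := by group
      _ = x₁ * (x₁ * g) := by rw [g1]
  have hu₂Z : u₂ ∉ zpowers h₀ ⊔ zpowers u₁ := by
    intro hm
    have h0 := comm_sup_zp (E := zpowers h₀) (c := u₁) (b := x₁)
      (fun c hc => (zp_comm (hX' x₁ hx₁) hc).symm) hu₁x u₂ hm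
    have h1 : Commute u₂ x₁ := h0
    have h2 : Commute g' x₁ := g'1
    have h3 : y₁ = u₂ * g'⁻¹ := by rw [hu₂]; group
    apply hne
    rw [h3]
    exact (h1.mul_left h2.inv_left).symm
  have hvQ : v₀ ∉ QQ h₀ := by
    intro hm
    have h1 : y * v₀ * y⁻¹ ∈ QQ h₀ := conj_mem_Oc (n_zp hyh₀) hm
    have h2 : y * v₀ * y⁻¹ * v₀⁻¹ ∈ QQ h₀ := Subgroup.mul_mem _ h1 (Subgroup.inv_mem _ hm)
    have h3 : y * v₀ * y⁻¹ * v₀⁻¹ = y * y := by
      have : v₀ * y⁻¹ * v₀⁻¹ = y := by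
        have e : v₀ * y⁻¹ * v₀⁻¹ = (v₀ * y * v₀⁻¹)⁻¹ := by group
        rw [e, hv₀y, inv_inv]
      calc y * v₀ * y⁻¹ * v₀⁻¹ = y * (v₀ * y⁻¹ * v₀⁻¹) := by group
        _ = y * y := by rw [this]
    rw [h3] at h2
    have h4 : (y * y) ^ p = 1 := by
      have hc : Commute y y := Commute.refl y
      rw [hc.mul_pow, hyp, one_mul]
    have h5 := eq_one_of_pow_eq_one_of_coprime (isP_QQ h₀) h2
      ((Nat.coprime_primes hp.out Nat.prime_two).mpr hp2) h4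
    exact hy1 (eq_one_of_sq_of_pow hp2 h5 hyp)
  have hT₀h₀ : h₀ ∈ QQ h₀ := mem_QQ hh₀
  have hv₀Z : v₀ ∉ (zpowers h₀ ⊔ zpowers u₁) ⊔ zpowers u₂ := by
    intro hm
    apply hvQ
    have hle : (zpowers h₀ ⊔ zpowers u₁) ⊔ zpowers u₂ ≤ QQ h₀ :=
      sup_le (sup_le (Subgroup.zpowers_le.mpr hT₀h₀)
        (Subgroup.zpowers_le.mpr (hT₀Q (hXT hu₁X))))
        (Subgroup.zpowers_le.mpr (hT₀Q (hXT hu₂X)))
    exact hle hm
  have hc1 : ∀ c ∈ zpowers h₀, c * u₁ = u₁ * c := fun c hc => (zp_comm (hX' u₁ hu₁X) hc).symm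
  have hc2 : ∀ c ∈ zpowers h₀ ⊔ zpowers u₁, c * u₂ = u₂ * c :=
    comm_sup_zp (fun c hc => (zp_comm (hX' u₂ hu₂X) hc).symm) hu₁u₂
  have hc3 : ∀ c ∈ (zpowers h₀ ⊔ zpowers u₁) ⊔ zpowers u₂, c * v₀ = v₀ * c :=
    comm_sup_zp (comm_sup_zp (fun c hc => (zp_comm hh₀v₀ hc).symm) hu₁v) hu₂v
  obtain ⟨s1, s2, -⟩ := Ea.sup_zpowers (ea_zp (sq_of_mul_self hh₀)) (sq_of_mul_self hu₁u₁) hc1 hu₁Z
  obtain ⟨t1, t2, -⟩ := Ea.sup_zpowers s1 (sq_of_mul_self hu₂u₂) hc2 hu₂Z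
  obtain ⟨q1, q2, -⟩ := Ea.sup_zpowers t1 (sq_of_mul_self hv₀) hc3 hv₀Z
  have hcard : Nat.card ↥((zpowers h₀ ⊔ zpowers u₁) ⊔ zpowers u₂ ⊔ zpowers v₀) = 2 ^ (3 + 1) := by
    rw [q2, t2, s2, card_zp (sq_of_mul_self hh₀) hh₀1]; norm_num
  have hfin := forbid hK hr 3 (r - 2) _ Z₀ q1 hcard (hM.mono hZ₀) cZ₀ (by omega) (by
    intro u hu f hf
    have hfc : ∀ t ∈ X, t * f = f * t := fun t ht => comm_of_cent (hXT ht).2 hf
    have k1 : ∀ c ∈ zpowers h₀, c * f = f * c := fun c hc =>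
      (zp_comm ((hMp f (hZ₀ hf)).1).symm hc).symm
    have k2 := comm_sup_zp k1 (hfc u₁ hu₁X)
    have k3 := comm_sup_zp k2 (hfc u₂ hu₂X)
    have k4 := comm_sup_zp k3 (hMp f (hZ₀ hf)).2.1.symm
    exact k4 u hu)
  omega

/-- No maximal configuration of rank at least three. -/
theorem levelA (hK : KH p G) {r : ℕ} (hr : ∀ m, Conf p G m → m ≤ r) (hr3 : 3 ≤ r)
    (hconf : Conf p G r) : False := by
  obtain ⟨t, A, htt, ht1, hA, hAc, hAt⟩ := hconf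
  have hp2 := hK.hp2
  have hmv : ∀ c ∈ A, c ≠ 1 → ∃ x ∈ QQ t, c * x ≠ x * c := fun c hc hc1 =>
    moved_Q hK htt ht1 hc1 (coprime_of_pow_prime hp2 (hA.2 c hc)) (hAt c hc)
  have hAN : A ≤ normalizer ((QQ t : Subgroup G) : Set G) := fun a ha => n_QQ (hAt a ha)
  have hnd : ¬ p ∣ Nat.card (QQ t) := not_dvd_card (isP_QQ t) hp2
  obtain ⟨c, hc, hc1⟩ := exists_mem_ne_one (U := A) (card_gt_one_of_pow hAc (by omega))
  obtain ⟨K₁, hK₁, hK₁c, x₁, hx₁, hx₁K, hx₁m⟩ := gen_moved hA hnd hAN (hmv c hc hc1)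
    (fun z _ hz => (hz c hc).symm)
  have cK₁ : Nat.card K₁ = p ^ (r - 1) := by
    have e1 : r = (r - 1) + 1 := by omega
    rw [hAc, e1] at hK₁c
    exact card_half hK₁c
  obtain ⟨c₁, hc₁, hc₁1⟩ := exists_mem_ne_one (U := K₁) (card_gt_one_of_pow cK₁ (by omega))
  have hc₁A := hK₁ hc₁
  obtain ⟨K₂, hK₂, hK₂c, x₂, hx₂, hx₂K, hx₂m⟩ := gen_moved hA hnd hAN (hmv c₁ hc₁A hc₁1)
    (fun z _ hz => (hz c₁ hc₁A).symm)
  have hc₁K₂ : c₁ ∉ K₂ := fun h => hx₂m (hx₂K c₁ h).symm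
  obtain ⟨k1, k2⟩ := two_hyp hA hK₁ hK₂ hK₂c hc₁ hc₁K₂
  obtain ⟨F, hFdef⟩ : ∃ F, F = K₁ ⊓ K₂ := ⟨_, rfl⟩
  rw [← hFdef] at k1 k2
  have hFK₁ : F ≤ K₁ := by rw [hFdef]; exact inf_le_left
  have hFK₂ : F ≤ K₂ := by rw [hFdef]; exact inf_le_right
  have hFA : F ≤ A := hFK₁.trans hK₁
  have cF : Nat.card F = p ^ (r - 2) := by
    have e1 : r - 1 = (r - 2) + 1 := by omega
    rw [cK₁, e1] at k1
    exact card_half k1
  have hex : ∃ c₂ ∈ K₂, c₂ ∉ K₁ := by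
    by_contra hcon
    push Not at hcon
    have heq : K₂ = K₁ := by
      apply Subgroup.eq_of_le_of_card_ge hcon
      have : p * Nat.card K₁ = p * Nat.card K₂ := by rw [hK₁c, hK₂c]
      rw [Nat.eq_of_mul_eq_mul_left hp.out.pos this]
    rw [heq] at hc₁K₂
    exact hc₁K₂ hc₁
  obtain ⟨c₂, hc₂, hc₂K₁⟩ := hex
  have hc₂A := hK₂ hc₂
  have hAsup : K₁ ⊔ zpowers c₂ = A := hyper_sup hA hK₁ hK₁c hc₂A hc₂K₁
  let T : Subgroup G := QQ t ⊓ centralizer (F : Set G)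
  have hTQ : T ≤ QQ t := inf_le_left
  have hNT : ∀ a ∈ A, a ∈ normalizer (T : Set G) := fun a ha =>
    n_inf (n_QQ (hAt a ha)) (n_cent (n_comm (fun f hf => hA.1 a ha f (hFA hf))))
  have hLD : LD T c₁ c₂ 1 t :=
    { hT := (isP_QQ t).to_le hTQ
      n1 := hNT c₁ hc₁A
      n2 := hNT c₂ hc₂A
      nv := Subgroup.one_mem _
      comm := hA.1 c₁ hc₁A c₂ hc₂A
      o1 := coprime_of_pow_prime hp2 (hA.2 c₁ hc₁A)
      o2 := coprime_of_pow_prime hp2 (hA.2 c₂ hc₂A)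
      zT := ⟨mem_QQ htt, mem_cent (fun f hf => (hAt f (hFA hf)).symm)⟩
      zc := fun x hx => (QQ_comm htt ht1 (hTQ hx)).symm
      zz := htt
      z1 := ht1
      zc1 := (hAt c₁ hc₁A).symm
      zc2 := (hAt c₂ hc₂A).symm
      zv := by simp
      HT := by
        intro E hET hE n1 n2
        refine inv_elem_le hK hr htt ht1 hA hAc (by omega) hAt hE
          (fun e he => QQ_comm htt ht1 (hTQ (hET he))) ?_
        rw [← hAsup, ← k2]
        refine sup_le (sup_le ?_ (Subgroup.zpowers_le.mpr n1)) (Subgroup.zpowers_le.mpr n2)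
        intro f hf
        exact n_comm (fun e he => (comm_of_cent (hET he).2 hf).symm)
      m12 := by
        refine ⟨x₁, ⟨hx₁, mem_cent (fun f hf => hx₁K f (hFK₁ hf))⟩, hx₁K c₁ hc₁, ?_⟩
        intro hcon
        apply hx₁m
        have hle : A ≤ centralizer ((zpowers x₁ : Subgroup G) : Set G) := by
          rw [← hAsup]
          apply sup_le
          · intro f hf
            exact mem_cent_zp (hx₁K f hf).symm
          · rw [Subgroup.zpowers_le]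
            exact mem_cent_zp hcon
        exact comm_of_cent_zp (hle hc)
      m21 := ⟨x₂, ⟨hx₂, mem_cent (fun f hf => hx₂K f (hFK₂ hf))⟩, hx₂K c₂ hc₂, hx₂m⟩ }
  obtain ⟨X, hXT, -, x, hx, y, hy, u, hu, w, hw, -, -, e3, e4, e5, e6, e7, e8, e9, e10, e11, -⟩ :=
    hLD.main
  obtain ⟨a1, a2⟩ := e11 u hu e3
  obtain ⟨b1, b2⟩ := e11 w hw e4
  have hX' : ∀ s ∈ X, t * s = s * t := fun s hs => (QQ_comm htt ht1 (hTQ (hXT hs))).symm
  have hne : ¬ Commute x y := by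
    intro hc
    have : ⁅x, y⁆ = 1 := cm_eq_one.mpr hc
    rw [e9] at this
    exact ht1 this
  have hxy : x * y = t * (y * x) := by
    rw [← e9, commutatorElement_def]; group
  have huw : u * w = t * (w * u) := by
    rw [← e10, commutatorElement_def]; group
  obtain ⟨h, hh⟩ : ∃ h, h = x * u := ⟨_, rfl⟩
  obtain ⟨k, hk⟩ : ∃ k, k = y * w := ⟨_, rfl⟩
  have hhX : h ∈ X := by rw [hh]; exact X.mul_mem hx hu
  have hkX : k ∈ X := by rw [hk]; exact X.mul_mem hy hw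
  have hhh : h * h = 1 := by
    rw [hh]
    calc x * u * (x * u) = x * (u * x) * u := by group
      _ = x * (x * u) * u := by rw [a1]
      _ = (x * x) * (u * u) := by group
      _ = 1 := by rw [e5, e7, htt]
  have hkk : k * k = 1 := by
    rw [hk]
    calc y * w * (y * w) = y * (w * y) * w := by group
      _ = y * (y * w) * w := by rw [b2]
      _ = (y * y) * (w * w) := by group
      _ = 1 := by rw [e6, e8, htt]
  have hhk : h * k = k * h := by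
    rw [hh, hk]
    calc x * u * (y * w) = x * (u * y) * w := by group
      _ = x * (y * u) * w := by rw [a2]
      _ = (x * y) * (u * w) := by group
      _ = (t * (y * x)) * (t * (w * u)) := by rw [hxy, huw]
      _ = t * ((y * x) * t) * (w * u) := by group
      _ = t * (t * (y * x)) * (w * u) := by rw [hX' _ (X.mul_mem hy hx)]
      _ = (t * t) * ((y * x) * (w * u)) := by group
      _ = (y * x) * (w * u) := by rw [htt, one_mul]
      _ = y * (x * w) * u := by group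
      _ = y * (w * x) * u := by rw [b1]
      _ = (y * w) * (x * u) := by group
  have hhZ : h ∉ zpowers t := by
    intro hm
    have h1 : Commute y h := zp_comm (hX' y hy) hm
    have h2 : Commute u y := a2
    have h3 : x = h * u⁻¹ := by rw [hh]; group
    apply hne
    rw [h3]
    exact h1.symm.mul_left h2.inv_left
  have hhx : h * x = x * h := by
    rw [hh]
    calc x * u * x = x * (u * x) := by group
      _ = x * (x * u) := by rw [a1]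
  have hkZ : k ∉ zpowers t ⊔ zpowers h := by
    intro hm
    have h0 := comm_sup_zp (E := zpowers t) (c := h) (b := x)
      (fun c hc => (zp_comm (hX' x hx) hc).symm) hhx k hm
    have h1 : Commute k x := h0
    have h2 : Commute w x := b1
    have h3 : y = k * w⁻¹ := by rw [hk]; group
    apply hne
    rw [h3]
    exact (h1.mul_left h2.inv_left).symm
  have hc1 : ∀ c ∈ zpowers t, c * h = h * c := fun c hc => (zp_comm (hX' h hhX) hc).symm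
  have hc2 : ∀ c ∈ zpowers t ⊔ zpowers h, c * k = k * c :=
    comm_sup_zp (fun c hc => (zp_comm (hX' k hkX) hc).symm) hhk
  obtain ⟨s1, s2, -⟩ := Ea.sup_zpowers (ea_zp (sq_of_mul_self htt)) (sq_of_mul_self hhh) hc1 hhZ
  obtain ⟨t1, t2, -⟩ := Ea.sup_zpowers s1 (sq_of_mul_self hkk) hc2 hkZ
  have hcard : Nat.card ↥((zpowers t ⊔ zpowers h) ⊔ zpowers k) = 2 ^ 3 := by
    rw [t2, s2, card_zp (sq_of_mul_self htt) ht1]; norm_num
  have hFne : F ≠ ⊥ := ne_bot_of_card (card_gt_one_of_pow cF (by omega))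
  have hUF : ∀ v ∈ (zpowers t ⊔ zpowers h) ⊔ zpowers k, ∀ f ∈ F, v * f = f * v := by
    intro v hv f hf
    have hfc : ∀ s ∈ X, s * f = f * s := fun s hs => comm_of_cent (hXT hs).2 hf
    have k1 : ∀ c ∈ zpowers t, c * f = f * c := fun c hc =>
      (zp_comm (hAt f (hFA hf)).symm hc).symm
    exact comm_sup_zp (comm_sup_zp k1 (hfc h hhX)) (hfc k hkX) v hv
  obtain ⟨h₀, v₀, y₀, M, r1, r2, r3, r4, r5, r6, r7, r8, r9, r10, r11, r12, r13, r14, r15⟩ :=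
    levelB hK (hA.mono hFA) hFne t1 hcard hUF
  refine levelCD hK hr hr3 r1 r2 r3 r4 r5 r6 ?_ r8 r9 r10 r11 r12 r13 r14 r15
  rw [r7, cF, ← pow_succ']
  congr 1
  omega

theorem exists_sq_eq_one_of_two_pow {d : G} (hd : d ≠ 1) {k : ℕ} (hk : d ^ 2 ^ k = 1) :
    ∃ i : ℕ, d ^ 2 ^ i ≠ 1 ∧ d ^ 2 ^ i * d ^ 2 ^ i = 1 := by
  induction k with
  | zero =>
    exact absurd (by simpa using hk) hd
  | succ k ih =>
    by_cases h : d ^ 2 ^ k = 1
    · exact ih h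
    · refine ⟨k, h, ?_⟩
      rw [← pow_add, ← two_mul, ← pow_succ']
      exact hk

/-- The rank bound on elementary abelian `p`-subgroups of 2-local subgroups. -/
theorem rank_le_two (hK : KH p G) {T₁ A₀ : Subgroup G} (hT₁ : IsPGroup 2 T₁) (hT₁1 : T₁ ≠ ⊥)
    (hA₀ : Ea p A₀) (hN : A₀ ≤ normalizer (T₁ : Set G)) : Nat.card A₀ ≤ p ^ 2 := by
  by_contra hcon
  push Not at hcon
  obtain ⟨n, hn⟩ := IsPGroup.iff_card.mp hA₀.isPGroup
  have hn3 : 3 ≤ n := by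
    rw [hn] at hcon
    have := (Nat.pow_lt_pow_iff_right hp.out.one_lt).mp hcon
    omega
  obtain ⟨r, hr, hr0⟩ := exists_r p G
  have hp2 := hK.hp2
  suffices hnr : n ≤ r from levelA hK hr (by omega) (hr0 (by omega))
  -- an involution in the center of `T₁`
  let D : Subgroup G := T₁ ⊓ centralizer (T₁ : Set G)
  have hDab : ∀ a ∈ D, ∀ b ∈ D, a * b = b * a := fun a ha b hb =>
    (Subgroup.mem_centralizer_iff.mp hb.2) a ha.1
  obtain ⟨V, hV⟩ := exists_omega hDab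
  have hVT : V ≤ T₁ := fun a ha => ((hV a).mp ha).1.1
  have hVp : IsPGroup 2 V := hT₁.to_le hVT
  have hAV : A₀ ≤ normalizer (V : Set G) := fun a ha =>
    omega_n hV (n_inf (hN ha) (n_cent (hN ha)))
  have hVne : ¬ V ≤ ⊥ := by
    haveI : Nontrivial ↥T₁ := (Subgroup.nontrivial_iff_ne_bot T₁).mpr hT₁1
    haveI := hT₁.center_nontrivial
    obtain ⟨⟨⟨d, hd⟩, hdc⟩, hne⟩ := exists_ne (1 : Subgroup.center ↥T₁)
    have hd1 : d ≠ 1 := by
      rintro rfl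
      exact hne rfl
    have hdD : d ∈ D := by
      refine ⟨hd, Subgroup.mem_centralizer_iff.mpr ?_⟩
      intro t ht
      have := (Subgroup.mem_center_iff.mp hdc) ⟨t, ht⟩
      exact congrArg Subtype.val this
    obtain ⟨k, hk⟩ := exists_two_pow hT₁ hd
    obtain ⟨i, hi1, hi2⟩ := exists_sq_eq_one_of_two_pow hd1 hk
    intro hle
    have : d ^ 2 ^ i ∈ V := (hV _).mpr ⟨D.pow_mem hdD _, hi2⟩
    exact hi1 (Subgroup.mem_bot.mp (hle this))
  obtain ⟨B, hB, hcases, v, hv, hvB, hv1⟩ := gen_mem hA₀ (not_dvd_card hVp hp2) hAV hVne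
  have hv1' : v ≠ 1 := fun h => hv1 (Subgroup.mem_bot.mpr h)
  have hvv : v * v = 1 := ((hV v).mp hv).2
  by_cases hfix : ∀ c ∈ A₀, c * v = v * c
  · exact hr n ⟨v, A₀, hvv, hv1', hA₀, hn, hfix⟩
  · push Not at hfix
    obtain ⟨c, hc, hcm⟩ := hfix
    have hBne : B ≠ A₀ := by
      rintro rfl
      exact hcm (hvB c hc).symm
    have hBc : p * Nat.card B = p ^ n := by
      rcases hcases with h | h
      · exact absurd h hBne
      · rw [h, hn]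
    have hcardB : Nat.card B = p ^ (n - 1) := by
      have e1 : n = (n - 1) + 1 := by omega
      rw [e1] at hBc
      exact card_half hBc
    have hv'V : c * v * c⁻¹ ∈ V := nconj (hAV hc) hv
    have hv'v' : (c * v * c⁻¹) * (c * v * c⁻¹) = 1 := ((hV _).mp hv'V).2
    have hvz : c * v * c⁻¹ ∉ zpowers v := by
      intro hm
      rcases mem_zpowers_sq hvv hm with h | h
      · apply hv1'
        have e : v = c⁻¹ * (c * v * c⁻¹) * c := by group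
        rw [e, h]; group
      · exact hcm (comm_of_conj_eq h)
    have hvD : v ∈ D := ((hV v).mp hv).1
    have hv'D : c * v * c⁻¹ ∈ D := ((hV _).mp hv'V).1
    have hc1 : ∀ a ∈ zpowers v, a * (c * v * c⁻¹) = (c * v * c⁻¹) * a := fun a ha =>
      (zp_comm (hDab v hvD _ hv'D) ha).symm
    obtain ⟨s1, s2, -⟩ := Ea.sup_zpowers (ea_zp (sq_of_mul_self hvv)) (sq_of_mul_self hv'v') hc1 hvz
    have hcard : Nat.card ↥(zpowers v ⊔ zpowers (c * v * c⁻¹)) = 2 ^ (1 + 1) := by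
      rw [s2, card_zp (sq_of_mul_self hvv) hv1']; norm_num
    have hbc : ∀ b ∈ B, (c * v * c⁻¹) * b = b * (c * v * c⁻¹) := by
      intro b hb
      have a1 : Commute c b := hA₀.1 c hc b (hB hb)
      have a2 : Commute v b := hvB b hb
      exact ((a1.mul_left a2).mul_left a1.inv_left).eq
    have := forbid hK hr 1 (n - 1) _ B s1 hcard (hA₀.mono hB) hcardB (by omega) (by
      intro u hu b hb
      have k1 : ∀ a ∈ zpowers v, a * b = b * a := fun a ha =>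
        (zp_comm (hvB b hb) ha).symm
      exact comm_sup_zp k1 (hbc b hb) u hu)
    omega

end Cfsg.Agent.Lib.KM
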