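import Mathlib
import Cfsg.Prelude.Def_Transfer

/-!
Counting conjugacy classes of `p`-elements: weights on a Sylow subgroup.
-/

set_option autoImplicit false

namespace Cfsg.Agent.Lib.PClasses

open scoped Pointwise

/-- A weighted count: if `φ : X → Y` has fibres of size `n(x)`, and `1 ≤ w x * n x`, then the
size of any subset of the image of `φ` is at most the sum of the weights. -/
theorem card_le_sum_weights {X Y : Type*} [Fintype X] [DecidableEq Y] (φ : X → Y) (T : Finset Y)
    (hT : ∀ t ∈ T, ∃ x, φ x = t) (w : X → ℚ) (hw0 : ∀ x, 0 ≤ w x)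
    (hw : ∀ x, 1 ≤ w x * ((Finset.univ.filter (fun x' => φ x' = φ x)).card : ℚ)) :
    (T.card : ℚ) ≤ ∑ x, w x := by
  classical
  have h1 : ∑ x ∈ Finset.univ.filter (fun x => φ x ∈ T), w x ≤ ∑ x, w x :=
    Finset.sum_le_sum_of_subset_of_nonneg (Finset.filter_subset _ _) (fun x _ _ => hw0 x)
  have h2 : ∑ t ∈ T, ∑ x ∈ (Finset.univ.filter (fun x => φ x ∈ T)).filter (fun x => φ x = t), w x
      = ∑ x ∈ Finset.univ.filter (fun x => φ x ∈ T), w x :=
    Finset.sum_fiberwise_of_maps_to (fun x hx => (Finset.mem_filter.mp hx).2) _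
  have h3 : ∀ t ∈ T, (1 : ℚ) ≤ ∑ x ∈ (Finset.univ.filter (fun x => φ x ∈ T)).filter
      (fun x => φ x = t), w x := by
    intro t ht
    obtain ⟨x₀, hx₀⟩ := hT t ht
    subst hx₀
    have hset : (Finset.univ.filter (fun x => φ x ∈ T)).filter (fun x => φ x = φ x₀)
        = Finset.univ.filter (fun x' => φ x' = φ x₀) := by
      ext x
      simp only [Finset.mem_filter, Finset.mem_univ, true_and]
      constructor
      · exact fun h => h.2
      · exact fun h => ⟨h ▸ ht, h⟩
    rw [hset]
    set S := Finset.univ.filter (fun x' => φ x' = φ x₀) with hS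
    have hcard : (0 : ℚ) < (S.card : ℚ) := by
      have : 0 < S.card := Finset.card_pos.mpr ⟨x₀, by simp [hS]⟩
      exact_mod_cast this
    have h4 : ∀ x ∈ S, (S.card : ℚ)⁻¹ ≤ w x := by
      intro x hx
      have hxφ : φ x = φ x₀ := (Finset.mem_filter.mp hx).2
      have := hw x
      rw [hxφ] at this
      rw [inv_le_iff_one_le_mul₀ hcard, mul_comm]
      simpa [hS, mul_comm] using this
    calc (1 : ℚ) = ∑ _x ∈ S, (S.card : ℚ)⁻¹ := by
          rw [Finset.sum_const, nsmul_eq_mul, mul_inv_cancel₀ hcard.ne']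
      _ ≤ ∑ x ∈ S, w x := Finset.sum_le_sum h4
  calc (T.card : ℚ) = ∑ _t ∈ T, (1 : ℚ) := by simp
    _ ≤ ∑ t ∈ T, ∑ x ∈ (Finset.univ.filter (fun x => φ x ∈ T)).filter (fun x => φ x = t), w x :=
        Finset.sum_le_sum h3
    _ = ∑ x ∈ Finset.univ.filter (fun x => φ x ∈ T), w x := h2
    _ ≤ ∑ x, w x := h1

variable {G : Type*} [Group G]

/-- conjugate elements have the same order -/
theorem orderOf_eq_of_isConj {a b : G} (h : IsConj a b) : orderOf a = orderOf b := by
  obtain ⟨c, rfl⟩ := isConj_iff.mp h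
  have := MulEquiv.orderOf_eq (MulAut.conj c) a
  simpa [MulAut.conj_apply] using this.symm

/-- the classes of `p`-elements. -/
abbrev PClassSet (p : ℕ) (G : Type*) [Group G] : Type _ :=
  {c : ConjClasses G // ∀ x ∈ c.carrier, ∃ k : ℕ, orderOf x = p ^ k}

/-- an element of `p`-power order is conjugate into a given Sylow subgroup -/
theorem exists_conj_mem_sylow [Finite G] {p : ℕ} [Fact p.Prime] (P : Sylow p G) (g : G) {k : ℕ}
    (hg : orderOf g = p ^ k) : ∃ h : G, h * g * h⁻¹ ∈ (P : Subgroup G) := by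
  have hp : IsPGroup p (Subgroup.zpowers g) := by
    rw [IsPGroup.iff_card, Nat.card_zpowers, hg]
    exact ⟨k, rfl⟩
  obtain ⟨Q, hQ⟩ := hp.exists_le_sylow
  obtain ⟨h, rfl⟩ := MulAction.exists_smul_eq G Q P
  refine ⟨h, ?_⟩
  have hgQ : g ∈ (Q : Subgroup G) := hQ (Subgroup.mem_zpowers g)
  have : MulAut.conj h • g ∈ ((h • Q : Sylow p G) : Subgroup G) := by
    rw [Sylow.coe_subgroup_smul]
    exact Subgroup.smul_mem_pointwise_smul _ _ _ hgQ
  simpa [MulAut.smul_def, MulAut.conj_apply] using this

/-- Every class of `p`-elements meets `P`. -/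
theorem pClasses_rep [Finite G] {p : ℕ} [Fact p.Prime] (P : Sylow p G) (c : PClassSet p G) :
    ∃ x : ↥(P : Subgroup G), ConjClasses.mk (x : G) = c.1 := by
  obtain ⟨c, hc⟩ := c
  obtain ⟨g, rfl⟩ := ConjClasses.exists_rep c
  obtain ⟨k, hk⟩ := hc g (ConjClasses.mem_carrier_mk)
  obtain ⟨h, hh⟩ := exists_conj_mem_sylow P g hk
  refine ⟨⟨_, hh⟩, ?_⟩
  rw [ConjClasses.mk_eq_mk_iff_isConj]
  exact (isConj_iff.mpr ⟨h, rfl⟩).symm

/-- The main weighted inequality: the number of `p`-classes is at most the sum over `P` of any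
weights that dominate the inverses of the numbers of conjugates within `P`. -/
theorem pClasses_card_le_sum [Finite G] {p : ℕ} [Fact p.Prime] (P : Sylow p G)
    [Fintype ↥(P : Subgroup G)] [DecidableEq (ConjClasses G)]
    (w : ↥(P : Subgroup G) → ℚ) (hw0 : ∀ x, 0 ≤ w x)
    (hw : ∀ x : ↥(P : Subgroup G), 1 ≤ w x * ((Finset.univ.filter (fun x' : ↥(P : Subgroup G) =>
      ConjClasses.mk (x' : G) = ConjClasses.mk (x : G))).card : ℚ)) :
    (Nat.card (PClassSet p G) : ℚ) ≤ ∑ x, w x := by
  classical
  have : Fintype (ConjClasses G) := Fintype.ofFinite _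
  let T : Finset (ConjClasses G) := Finset.univ.filter
    (fun c => ∀ x ∈ c.carrier, ∃ k : ℕ, orderOf x = p ^ k)
  have hcard : Nat.card (PClassSet p G) = T.card := by
    rw [Nat.card_eq_fintype_card, Fintype.card_subtype]
  rw [hcard]
  refine card_le_sum_weights (fun x : ↥(P : Subgroup G) => ConjClasses.mk (x : G)) T ?_ w hw0 hw
  intro t ht
  have htT : ∀ x ∈ t.carrier, ∃ k : ℕ, orderOf x = p ^ k := (Finset.mem_filter.mp ht).2
  exact pClasses_rep P ⟨t, htT⟩

/-- The key estimate: an element normalizing but not centralizing a Sylow `p`-subgroup forces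
few classes of `p`-elements. -/
theorem two_mul_pClasses_le [Finite G] {p : ℕ} [hpp : Fact p.Prime] (P : Sylow p G) (t : G)
    (htN : t ∈ Subgroup.normalizer ((P : Subgroup G) : Set G))
    (htC : t ∉ Subgroup.centralizer ((P : Subgroup G) : Set G)) :
    2 * p * Nat.card (PClassSet p G) ≤ (p + 1) * Nat.card ↥(P : Subgroup G) := by
  classical
  have : Fintype ↥(P : Subgroup G) := Fintype.ofFinite _
  -- the subgroup of fixed points
  let F : Subgroup ↥(P : Subgroup G) :=
    { carrier := {x | t * (x : G) * t⁻¹ = x}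
      mul_mem' := by
        intro a b ha hb
        simp only [Set.mem_setOf_eq, Subgroup.coe_mul] at *
        calc t * (a * b) * t⁻¹ = (t * a * t⁻¹) * (t * b * t⁻¹) := by group
          _ = a * b := by rw [ha, hb]
      one_mem' := by simp
      inv_mem' := by
        intro a ha
        simp only [Set.mem_setOf_eq, Subgroup.coe_inv] at *
        calc t * (a : G)⁻¹ * t⁻¹ = (t * a * t⁻¹)⁻¹ := by group
          _ = (a : G)⁻¹ := by rw [ha] }
  have hFmem : ∀ x : ↥(P : Subgroup G), x ∈ F ↔ t * (x : G) * t⁻¹ = x := fun x => Iff.rfl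
  have hFtop : F ≠ ⊤ := by
    intro h
    apply htC
    rw [Subgroup.mem_centralizer_iff]
    intro x hx
    have : (⟨x, hx⟩ : ↥(P : Subgroup G)) ∈ F := by rw [h]; trivial
    rw [hFmem] at this
    simp only at this
    calc x * t = t * x * t⁻¹ * t := by rw [this]
      _ = t * x := by group
  -- index estimate
  have hPp : IsPGroup p ↥(P : Subgroup G) := P.isPGroup'
  have hidx : p * Nat.card F ≤ Nat.card ↥(P : Subgroup G) := by
    obtain ⟨k, hk⟩ := hPp.index F
    have hk0 : k ≠ 0 := by
      rintro rfl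
      rw [pow_zero, Subgroup.index_eq_one] at hk
      exact hFtop hk
    have hle : p ≤ F.index := by
      rw [hk]
      exact Nat.le_self_pow hk0 p
    calc p * Nat.card F ≤ F.index * Nat.card F := Nat.mul_le_mul_right _ hle
      _ = Nat.card F * F.index := Nat.mul_comm _ _
      _ = Nat.card ↥(P : Subgroup G) := Subgroup.card_mul_index F
  -- weights
  let w : ↥(P : Subgroup G) → ℚ := fun x => if x ∈ F then 1 else 1 / 2
  have hw0 : ∀ x, 0 ≤ w x := by
    intro x
    simp only [w]
    split_ifs <;> norm_num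
  have hw : ∀ x : ↥(P : Subgroup G), 1 ≤ w x * ((Finset.univ.filter (fun x' : ↥(P : Subgroup G) =>
      ConjClasses.mk (x' : G) = ConjClasses.mk (x : G))).card : ℚ) := by
    intro x
    have hx1 : 1 ≤ (Finset.univ.filter (fun x' : ↥(P : Subgroup G) =>
      ConjClasses.mk (x' : G) = ConjClasses.mk (x : G))).card :=
      Finset.card_pos.mpr ⟨x, by simp⟩
    by_cases hxF : x ∈ F
    · simp only [w, if_pos hxF, one_mul]
      exact_mod_cast hx1
    · simp only [w, if_neg hxF]
      have hmem : t * (x : G) * t⁻¹ ∈ (P : Subgroup G) := by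
        have := (Subgroup.mem_normalizer_iff.mp htN (x : G)).mp (by simpa using x.2)
        simpa using this
      let y : ↥(P : Subgroup G) := ⟨_, hmem⟩
      have hne : y ≠ x := by
        intro h
        apply hxF
        rw [hFmem]
        exact congrArg Subtype.val h
      have h2 : 2 ≤ (Finset.univ.filter (fun x' : ↥(P : Subgroup G) =>
          ConjClasses.mk (x' : G) = ConjClasses.mk (x : G))).card := by
        have hsub : ({y, x} : Finset ↥(P : Subgroup G)) ⊆ Finset.univ.filter
            (fun x' : ↥(P : Subgroup G) => ConjClasses.mk (x' : G) = ConjClasses.mk (x : G)) := by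
          intro z hz
          simp only [Finset.mem_insert, Finset.mem_singleton] at hz
          simp only [Finset.mem_filter, Finset.mem_univ, true_and]
          rcases hz with rfl | rfl
          · rw [ConjClasses.mk_eq_mk_iff_isConj]
            exact (isConj_iff.mpr ⟨t, rfl⟩).symm
          · rfl
        calc 2 = ({y, x} : Finset ↥(P : Subgroup G)).card := (Finset.card_pair hne).symm
          _ ≤ _ := Finset.card_le_card hsub
      have h2' : (2 : ℚ) ≤ _ := Nat.cast_le.mpr h2
      have := mul_le_mul_of_nonneg_left h2' (by norm_num : (0 : ℚ) ≤ 1 / 2)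
      refine le_trans ?_ this
      norm_num
  have hmain := pClasses_card_le_sum (p := p) P w hw0 hw
  -- evaluate the sum
  have hsum : ∑ x, w x = ((Nat.card ↥(P : Subgroup G) : ℚ) + (Nat.card F : ℚ)) / 2 := by
    have h1 : ∀ x : ↥(P : Subgroup G), w x = 1 / 2 + (if x ∈ F then (1 / 2 : ℚ) else 0) := by
      intro x
      simp only [w]
      split_ifs <;> norm_num
    rw [Finset.sum_congr rfl (fun x _ => h1 x), Finset.sum_add_distrib, Finset.sum_const,
      Finset.sum_ite, Finset.sum_const_zero, add_zero, Finset.sum_const, Finset.card_univ,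
      nsmul_eq_mul, nsmul_eq_mul]
    have hF : ((Finset.univ.filter (fun x : ↥(P : Subgroup G) => x ∈ F)).card : ℚ)
        = (Nat.card F : ℚ) := by
      rw [Nat.card_eq_fintype_card (α := F)]
      rw [Fintype.card_subtype]
    rw [hF]
    simp only [Nat.card_eq_fintype_card]
    ring
  rw [hsum] at hmain
  have hq : (2 * p * Nat.card (PClassSet p G) : ℚ) ≤ ((p : ℚ) + 1) * Nat.card ↥(P : Subgroup G) := by
    have hidx' : (p : ℚ) * Nat.card F ≤ Nat.card ↥(P : Subgroup G) := by exact_mod_cast hidx
    have hp0 : (0 : ℚ) ≤ p := by positivity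
    have := mul_le_mul_of_nonneg_left hmain hp0
    nlinarith
  exact_mod_cast hq

/-- Burnside: if every element normalizing `P` centralizes it, there is a normal complement. -/
theorem hasNormalPComplement_of_normalizer_le {p : ℕ} [Fact p.Prime] [Finite G] (P : Sylow p G)
    (h : Subgroup.normalizer ((P : Subgroup G) : Set G) ≤ Subgroup.centralizer ((P : Subgroup G) : Set G)) :
    Cfsg.HasNormalPComplement p G := by
  classical
  have : (P : Subgroup G).FiniteIndex := inferInstance
  refine ⟨P, (MonoidHom.transferSylow P h).ker, inferInstance, ?_⟩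
  exact MonoidHom.ker_transferSylow_isComplement' P h

/-- If `N` is a normal complement to one Sylow subgroup it is a complement to each. -/
theorem isComplement'_of_normal_complement {p : ℕ} [Fact p.Prime] [Finite G] (P₀ P : Sylow p G)
    (N : Subgroup G) (hN : N.IsComplement' (P₀ : Subgroup G)) :
    N.IsComplement' (P : Subgroup G) := by
  obtain ⟨g, rfl⟩ := MulAction.exists_smul_eq G P₀ P
  have hcard : Nat.card (g • P₀ : Sylow p G) = Nat.card P₀ := by
    rw [Sylow.card_eq_multiplicity, Sylow.card_eq_multiplicity]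
  have hcp : Nat.Coprime (Nat.card N) (Nat.card P₀) := by
    have h1 : Nat.card N = (P₀ : Subgroup G).index := hN.index_eq_card.symm
    rw [h1]
    have h2 := P₀.card_coprime_index
    exact h2.symm
  refine Subgroup.isComplement'_of_coprime ?_ ?_
  · have := hN.card_mul_card
    rw [← this]
    congr 1
  · have : Nat.card ((g • P₀ : Sylow p G) : Subgroup G) = Nat.card P₀ := hcard
    rw [this]
    exact hcp

/-- Conversely: a normal `p`-complement and an abelian Sylow subgroup yields at least `|P|`
`p`-classes. -/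
theorem card_le_pClasses {p : ℕ} [Fact p.Prime] [Finite G] (P : Sylow p G)
    (hN : Cfsg.HasNormalPComplement p G) (hab : IsMulCommutative ↥(P : Subgroup G)) :
    Nat.card ↥(P : Subgroup G) ≤ Nat.card (PClassSet p G) := by
  classical
  obtain ⟨P₀, N, hNn, hcompl⟩ := hN
  have hc := isComplement'_of_normal_complement P₀ P N hcompl
  have hPp : IsPGroup p ↥(P : Subgroup G) := P.isPGroup'
  let f : ↥(P : Subgroup G) → PClassSet p G := fun x =>
    ⟨ConjClasses.mk (x : G), by
      intro y hy
      rw [ConjClasses.mem_carrier_iff_mk_eq, ConjClasses.mk_eq_mk_iff_isConj] at hy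
      obtain ⟨n, hn⟩ := hPp x
      have h1 : orderOf (x : G) ∣ p ^ n := by
        apply orderOf_dvd_of_pow_eq_one
        have := congrArg Subtype.val hn
        simpa using this
      obtain ⟨m, -, hm⟩ := (Nat.dvd_prime_pow (Fact.out : p.Prime)).mp h1
      refine ⟨m, ?_⟩
      rw [← hm]
      exact orderOf_eq_of_isConj hy⟩
  have hf : Function.Injective f := by
    intro x y hxy
    have h1 : ConjClasses.mk (x : G) = ConjClasses.mk (y : G) := congrArg Subtype.val hxy
    rw [ConjClasses.mk_eq_mk_iff_isConj] at h1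
    obtain ⟨g, hg⟩ := isConj_iff.mp h1
    -- decompose `g`
    have hsup : N ⊔ (P : Subgroup G) = ⊤ := hc.sup_eq_top
    have hg' : g ∈ N ⊔ (P : Subgroup G) := by rw [hsup]; trivial
    obtain ⟨n, hn, q, hq, rfl⟩ := Subgroup.mem_sup_of_normal_left.mp hg'
    -- `q` commutes with `x` inside `P`
    have hcomm : q * (x : G) * q⁻¹ = (x : G) := by
      have h2 : (⟨q, hq⟩ : ↥(P : Subgroup G)) * x = x * ⟨q, hq⟩ := hab.is_comm.comm _ _
      have h3 : q * (x : G) = (x : G) * q := congrArg Subtype.val h2
      rw [h3]; group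
    have h4 : n * (x : G) * n⁻¹ = (y : G) := by
      rw [← hg]
      calc n * (x : G) * n⁻¹ = n * (q * (x : G) * q⁻¹) * n⁻¹ := by rw [hcomm]
        _ = n * q * (x : G) * (n * q)⁻¹ := by group
    -- so `y x⁻¹ ∈ N ∩ P`
    have h5 : (y : G) * (x : G)⁻¹ ∈ N := by
      rw [← h4]
      have : n * (x : G) * n⁻¹ * (x : G)⁻¹ = n * ((x : G) * n⁻¹ * (x : G)⁻¹) := by group
      rw [this]
      exact N.mul_mem hn (hNn.conj_mem _ (N.inv_mem hn) _)
    have h6 : (y : G) * (x : G)⁻¹ ∈ (P : Subgroup G) :=
      (P : Subgroup G).mul_mem y.2 ((P : Subgroup G).inv_mem x.2)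
    have h7 : (y : G) * (x : G)⁻¹ = 1 := by
      have hdisj := hc.disjoint
      exact Subgroup.disjoint_def.mp hdisj h5 h6
    apply Subtype.ext
    exact (mul_inv_eq_one.mp h7).symm
  exact Nat.card_le_card_of_injective f hf

end Cfsg.Agent.Lib.PClasses
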