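import Mathlib
import Cfsg.Prelude.Def_Transfer
import Cfsg.Prelude.Def_OddOrderLocal
import Cfsg.Agent.Lib.PClasses

/-!
Counting conjugacy classes of `π`-elements: `k_π(G) ≤ k_r(G) |G|_{π∖r}` and
`k_π(G) ≤ |G|_π`; normal `π`-complements and abelian Hall subgroups from per-prime data.
-/

set_option autoImplicit false

namespace Cfsg.Agent.Lib.PiClasses

open Cfsg.Agent.Lib.PClasses

universe u

/-- the classes of `π`-elements. -/
abbrev PiClassSet (π : Finset ℕ) (G : Type*) [Group G] : Type _ :=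
  {c : ConjClasses G // ∀ x ∈ c.carrier, ∀ r : ℕ, r.Prime → r ∣ orderOf x → r ∈ π}

/-- the `π`-part of a number -/
def piPart (π : Finset ℕ) (n : ℕ) : ℕ := π.prod (fun r => r ^ n.factorization r)

theorem piPart_pos (π : Finset ℕ) (hπ : ∀ r ∈ π, r.Prime) (n : ℕ) : 0 < piPart π n :=
  Finset.prod_pos fun r hr => pow_pos (hπ r hr).pos _

theorem piPart_mono (π : Finset ℕ) (hπ : ∀ r ∈ π, r.Prime) {d n : ℕ} (hd : d ≠ 0) (hn : n ≠ 0)
    (h : d ∣ n) : piPart π d ≤ piPart π n := by
  refine Finset.prod_le_prod (fun _ _ => Nat.zero_le _) fun r hr => ?_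
  exact Nat.pow_le_pow_right (hπ r hr).pos ((Nat.factorization_le_iff_dvd hd hn).2 h r)

/-- decomposition into the `r`-part and the `r'`-part -/
theorem exists_part_decomp {G : Type*} [Group G] [Finite G] (r : ℕ) (hr : r.Prime) (x : G) :
    ∃ y z : G, x = y * z ∧ y * z = z * y ∧ (∃ k : ℕ, orderOf y = r ^ k) ∧ ¬ r ∣ orderOf z ∧
      orderOf z ∣ orderOf x ∧ orderOf y ∣ orderOf x := by
  have hn : orderOf x ≠ 0 := (orderOf_pos x).ne'
  obtain ⟨e, m, hm, hnm⟩ := Nat.exists_eq_pow_mul_and_not_dvd hn r hr.ne_one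
  have hcop : Nat.Coprime (r ^ e) m := Nat.Coprime.pow_left e ((Nat.Prime.coprime_iff_not_dvd hr).2 hm)
  have hbez := Nat.gcd_eq_gcd_ab (r ^ e) m
  rw [hcop.gcd_eq_one] at hbez
  set a := Nat.gcdA (r ^ e) m
  set b := Nat.gcdB (r ^ e) m
  have hx1 : x ^ ((r ^ e : ℕ) * (m : ℤ)) = 1 := by
    have : (((r ^ e : ℕ) : ℤ) * (m : ℤ)) = ((orderOf x : ℕ) : ℤ) := by rw [hnm]; push_cast; ring
    rw [this, zpow_natCast, pow_orderOf_eq_one]
  refine ⟨x ^ ((m : ℤ) * b), x ^ (((r ^ e : ℕ) : ℤ) * a), ?_, ?_, ?_, ?_, ?_, ?_⟩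
  · rw [← zpow_add]
    have : ((m : ℤ) * b + ((r ^ e : ℕ) : ℤ) * a) = 1 := by
      have h := hbez
      push_cast at h ⊢
      linarith
    rw [this, zpow_one]
  · exact (Commute.refl x).zpow_zpow _ _
  · have hpow : (x ^ ((m : ℤ) * b)) ^ (r ^ e) = 1 := by
      rw [← zpow_natCast, ← zpow_mul]
      have : (m : ℤ) * b * ((r ^ e : ℕ) : ℤ) = (((r ^ e : ℕ) : ℤ) * (m : ℤ)) * b := by ring
      rw [this, zpow_mul, hx1, one_zpow]
    obtain ⟨k, -, hk⟩ := (Nat.dvd_prime_pow hr).mp (orderOf_dvd_of_pow_eq_one hpow)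
    exact ⟨k, hk⟩
  · have hpow : (x ^ (((r ^ e : ℕ) : ℤ) * a)) ^ m = 1 := by
      rw [← zpow_natCast, ← zpow_mul]
      have : ((r ^ e : ℕ) : ℤ) * a * (m : ℤ) = (((r ^ e : ℕ) : ℤ) * (m : ℤ)) * a := by ring
      rw [this, zpow_mul, hx1, one_zpow]
    intro hd
    exact hm (hd.trans (orderOf_dvd_of_pow_eq_one hpow))
  · have hpow : (x ^ (((r ^ e : ℕ) : ℤ) * a)) ^ m = 1 := by
      rw [← zpow_natCast, ← zpow_mul]
      have : ((r ^ e : ℕ) : ℤ) * a * (m : ℤ) = (((r ^ e : ℕ) : ℤ) * (m : ℤ)) * a := by ring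
      rw [this, zpow_mul, hx1, one_zpow]
    exact (orderOf_dvd_of_pow_eq_one hpow).trans (hnm ▸ Nat.dvd_mul_left _ _)
  · have hpow : (x ^ ((m : ℤ) * b)) ^ (r ^ e) = 1 := by
      rw [← zpow_natCast, ← zpow_mul]
      have : (m : ℤ) * b * ((r ^ e : ℕ) : ℤ) = (((r ^ e : ℕ) : ℤ) * (m : ℤ)) * b := by ring
      rw [this, zpow_mul, hx1, one_zpow]
    exact (orderOf_dvd_of_pow_eq_one hpow).trans (hnm ▸ Nat.dvd_mul_right _ _)

/-- `k_{r ∪ τ}(G) ≤ k_r(G) * B` if `B` bounds `k_τ` of all centralizers. -/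
theorem card_piClasses_insert_le (r : ℕ) (hr : r.Prime) (τ : Finset ℕ) (G : Type*) [Group G]
    [Finite G] (hrτ : r ∉ τ) (B : ℕ)
    (hB : ∀ y : G, Nat.card (PiClassSet τ (Subgroup.centralizer ({y} : Set G))) ≤ B) :
    Nat.card (PiClassSet (insert r τ) G) ≤ Nat.card (PClassSet r G) * B := by
  classical
  have : Fintype (PClassSet r G) := Fintype.ofFinite _
  choose repc hrepc using (fun c : PClassSet r G => ConjClasses.exists_rep c.1)
  choose repd hrepd using (fun (c : PClassSet r G)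
    (d : PiClassSet τ (Subgroup.centralizer ({repc c} : Set G))) => ConjClasses.exists_rep d.1)
  let Ψ : (Σ c : PClassSet r G, PiClassSet τ (Subgroup.centralizer ({repc c} : Set G))) →
      ConjClasses G := fun s => ConjClasses.mk (repc s.1 * (repd s.1 s.2 : G))
  have hsurj : ∀ c' : PiClassSet (insert r τ) G, ∃ s, Ψ s = c'.1 := by
    rintro ⟨c, hc⟩
    obtain ⟨x, rfl⟩ := ConjClasses.exists_rep c
    have hx := hc x ConjClasses.mem_carrier_mk
    obtain ⟨y, z, rfl, hyz, ⟨k, hk⟩, hrz, hzx, -⟩ := exists_part_decomp r hr x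
    -- the class of the `r`-part
    let c₀ : PClassSet r G := ⟨ConjClasses.mk y, by
      intro w hw
      rw [ConjClasses.mem_carrier_iff_mk_eq, ConjClasses.mk_eq_mk_iff_isConj] at hw
      exact ⟨k, by rw [orderOf_eq_of_isConj hw, hk]⟩⟩
    have h₀ : ConjClasses.mk (repc c₀) = ConjClasses.mk y := hrepc c₀
    rw [ConjClasses.mk_eq_mk_iff_isConj] at h₀
    obtain ⟨g, hg⟩ := isConj_iff.mp h₀.symm
    -- `z` moved into the centralizer
    have hz'mem : g * z * g⁻¹ ∈ Subgroup.centralizer ({repc c₀} : Set G) := by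
      rw [Subgroup.mem_centralizer_singleton_iff, ← hg]
      calc g * z * g⁻¹ * (g * y * g⁻¹) = g * (z * y) * g⁻¹ := by group
        _ = g * (y * z) * g⁻¹ := by rw [hyz]
        _ = g * y * g⁻¹ * (g * z * g⁻¹) := by group
    let z' : Subgroup.centralizer ({repc c₀} : Set G) := ⟨_, hz'mem⟩
    have hz'order : orderOf z' = orderOf z := by
      rw [← Subgroup.orderOf_coe z']
      have := MulEquiv.orderOf_eq (MulAut.conj g) z
      simpa [MulAut.conj_apply, z'] using this
    let d : PiClassSet τ (Subgroup.centralizer ({repc c₀} : Set G)) := ⟨ConjClasses.mk z', by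
      intro w hw s hs hsw
      rw [ConjClasses.mem_carrier_iff_mk_eq, ConjClasses.mk_eq_mk_iff_isConj] at hw
      rw [orderOf_eq_of_isConj hw, hz'order] at hsw
      have h1 : s ∈ insert r τ := hx s hs (hsw.trans hzx)
      rcases Finset.mem_insert.mp h1 with rfl | h2
      · exact absurd hsw hrz
      · exact h2⟩
    refine ⟨⟨c₀, d⟩, ?_⟩
    have h₁ : ConjClasses.mk (repd c₀ d) = ConjClasses.mk z' := hrepd c₀ d
    rw [ConjClasses.mk_eq_mk_iff_isConj] at h₁
    obtain ⟨u, hu⟩ := isConj_iff.mp h₁.symm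
    have hu' : (u : G) * (g * z * g⁻¹) * (u : G)⁻¹ = (repd c₀ d : G) := by
      have := congrArg Subtype.val hu
      simpa [z'] using this
    have hucomm : (u : G) * repc c₀ = repc c₀ * (u : G) :=
      (Subgroup.mem_centralizer_singleton_iff.mp u.2)
    show ConjClasses.mk (repc c₀ * (repd c₀ d : G)) = ConjClasses.mk (y * z)
    rw [ConjClasses.mk_eq_mk_iff_isConj]
    refine IsConj.symm (isConj_iff.mpr ⟨(u : G) * g, ?_⟩)
    rw [← hu']
    have hucomm' : (u : G) * (g * y * g⁻¹) = (g * y * g⁻¹) * (u : G) := by rw [hg]; exact hucomm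
    calc (u : G) * g * (y * z) * ((u : G) * g)⁻¹
        = (u : G) * (g * y * g⁻¹) * (g * z * g⁻¹) * (u : G)⁻¹ := by group
      _ = (g * y * g⁻¹) * (u : G) * (g * z * g⁻¹) * (u : G)⁻¹ := by rw [hucomm']
      _ = g * y * g⁻¹ * ((u : G) * (g * z * g⁻¹) * (u : G)⁻¹) := by group
      _ = repc c₀ * ((u : G) * (g * z * g⁻¹) * (u : G)⁻¹) := by rw [hg]
  choose f hf using hsurj
  have hinj : Function.Injective f := by
    intro a b hab
    apply Subtype.ext
    rw [← hf a, ← hf b, hab]
  calc Nat.card (PiClassSet (insert r τ) G)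
      ≤ Nat.card (Σ c : PClassSet r G, PiClassSet τ (Subgroup.centralizer ({repc c} : Set G))) :=
        Nat.card_le_card_of_injective f hinj
    _ = ∑ c : PClassSet r G, Nat.card (PiClassSet τ (Subgroup.centralizer ({repc c} : Set G))) :=
        Nat.card_sigma
    _ ≤ ∑ _c : PClassSet r G, B := Finset.sum_le_sum fun c _ => hB _
    _ = Nat.card (PClassSet r G) * B := by
        rw [Finset.sum_const, Finset.card_univ, smul_eq_mul, Nat.card_eq_fintype_card]

/-- `k_r(G) ≤ |G|_r` -/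
theorem card_pClasses_le (r : ℕ) [hr : Fact r.Prime] (G : Type*) [Group G] [Finite G] :
    Nat.card (PClassSet r G) ≤ r ^ (Nat.card G).factorization r := by
  classical
  obtain ⟨P⟩ : Nonempty (Sylow r G) := inferInstance
  choose f hf using pClasses_rep (p := r) P
  have hinj : Function.Injective f := by
    intro a b hab
    apply Subtype.ext
    rw [← hf a, ← hf b, hab]
  calc Nat.card (PClassSet r G) ≤ Nat.card ↥(P : Subgroup G) := Nat.card_le_card_of_injective f hinj
    _ = _ := P.card_eq_multiplicity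

/-- `k_π(G) ≤ |G|_π` -/
theorem card_piClasses_le (τ : Finset ℕ) (hτ : ∀ r ∈ τ, r.Prime) :
    ∀ (H : Type u) [Group H] [Finite H], Nat.card (PiClassSet τ H) ≤ piPart τ (Nat.card H) := by
  classical
  induction τ using Finset.induction_on with
  | empty =>
    intro H _ _
    have : Subsingleton (PiClassSet ∅ H) := by
      constructor
      rintro ⟨c, hc⟩ ⟨d, hd⟩
      apply Subtype.ext
      have key : ∀ (e : ConjClasses H), (∀ x ∈ e.carrier, ∀ r : ℕ, r.Prime → r ∣ orderOf x → r ∈ (∅ : Finset ℕ)) →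
          e = ConjClasses.mk 1 := by
        intro e he
        obtain ⟨x, rfl⟩ := ConjClasses.exists_rep e
        have h1 : orderOf x = 1 := by
          by_contra hne
          obtain ⟨s, hs, hsd⟩ := Nat.exists_prime_and_dvd hne
          exact (Finset.notMem_empty _) (he x ConjClasses.mem_carrier_mk s hs hsd)
        rw [orderOf_eq_one_iff] at h1
        rw [h1]
      exact (key c hc).trans (key d hd).symm
    calc Nat.card (PiClassSet ∅ H) ≤ 1 := Finite.card_le_one_iff_subsingleton.mpr this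
      _ = _ := by simp [piPart]
  | insert r τ' hrτ ih =>
    intro H _ _
    have hr : r.Prime := hτ r (Finset.mem_insert_self _ _)
    have hτ' : ∀ s ∈ τ', s.Prime := fun s hs => hτ s (Finset.mem_insert_of_mem hs)
    have : Fact r.Prime := ⟨hr⟩
    have h1 := card_piClasses_insert_le r hr τ' H hrτ (piPart τ' (Nat.card H)) (by
      intro y
      refine (ih hτ' _).trans ?_
      exact piPart_mono τ' hτ' Nat.card_pos.ne' Nat.card_pos.ne' (Subgroup.card_subgroup_dvd_card _))
    have h2 := card_pClasses_le r H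
    calc Nat.card (PiClassSet (insert r τ') H)
        ≤ Nat.card (PClassSet r H) * piPart τ' (Nat.card H) := h1
      _ ≤ r ^ (Nat.card H).factorization r * piPart τ' (Nat.card H) := Nat.mul_le_mul_right _ h2
      _ = piPart (insert r τ') (Nat.card H) := by
        simp only [piPart]
        rw [Finset.prod_insert hrτ]

/-- `k_π(G) ≤ k_r(G) |G|_{π∖r}` for a prime `r ∈ π`. -/
theorem card_piClasses_le_erase (π : Finset ℕ) (hπ : ∀ r ∈ π, r.Prime) {r : ℕ} (hr : r ∈ π)
    (G : Type u) [Group G] [Finite G] :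
    Nat.card (PiClassSet π G) ≤ Nat.card (PClassSet r G) * piPart (π.erase r) (Nat.card G) := by
  classical
  have hsub : ∀ s ∈ π.erase r, s.Prime := fun s hs => hπ s (Finset.mem_of_mem_erase hs)
  have := card_piClasses_insert_le r (hπ r hr) (π.erase r) G (Finset.notMem_erase r π)
    (piPart (π.erase r) (Nat.card G)) (by
      intro y
      refine (card_piClasses_le _ hsub _).trans ?_
      exact piPart_mono _ hsub Nat.card_pos.ne' Nat.card_pos.ne' (Subgroup.card_subgroup_dvd_card _))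
  rwa [Finset.insert_erase hr] at this

theorem piPart_eq_mul_erase (π : Finset ℕ) {r : ℕ} (hr : r ∈ π) (n : ℕ) :
    piPart π n = r ^ n.factorization r * piPart (π.erase r) n := by
  classical
  simp only [piPart]
  exact (Finset.mul_prod_erase π (fun r => r ^ n.factorization r) hr).symm

/-- From `k_π(G) > c |G|_π` to `k_r(G) > c |G|_r` with a rational constant `a/b`. -/
theorem lt_of_lt_piClasses (π : Finset ℕ) (hπ : ∀ r ∈ π, r.Prime) {r : ℕ} (hr : r ∈ π)
    (G : Type u) [Group G] [Finite G] (a b : ℕ)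
    (h : a * piPart π (Nat.card G) < b * Nat.card (PiClassSet π G)) :
    a * r ^ (Nat.card G).factorization r < b * Nat.card (PClassSet r G) := by
  have hsub : ∀ s ∈ π.erase r, s.Prime := fun s hs => hπ s (Finset.mem_of_mem_erase hs)
  have hpos := piPart_pos (π.erase r) hsub (Nat.card G)
  have h1 := card_piClasses_le_erase π hπ hr G
  rw [piPart_eq_mul_erase π hr] at h
  have h2 : a * (r ^ (Nat.card G).factorization r * piPart (π.erase r) (Nat.card G))
      < b * (Nat.card (PClassSet r G) * piPart (π.erase r) (Nat.card G)) :=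
    lt_of_lt_of_le h (Nat.mul_le_mul_left _ h1)
  have h3 : (a * r ^ (Nat.card G).factorization r) * piPart (π.erase r) (Nat.card G)
      < (b * Nat.card (PClassSet r G)) * piPart (π.erase r) (Nat.card G) := by
    calc _ = a * (r ^ (Nat.card G).factorization r * piPart (π.erase r) (Nat.card G)) := by ring
      _ < _ := h2
      _ = _ := by ring
  exact Nat.lt_of_mul_lt_mul_right h3

section Complements

variable {G : Type*} [Group G] [Finite G]

/-- Intersecting normal complements; `C` is a subgroup that all of them contain. -/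
theorem exists_piComplement (π : Finset ℕ) (C : Subgroup G)
    (h : ∀ r ∈ π, ∃ N : Subgroup G, N.Normal ∧ ¬ r ∣ Nat.card ↥N ∧
      (∀ s : ℕ, s.Prime → s ∣ N.index → s = r) ∧ C ≤ N) :
    ∃ N : Subgroup G, N.Normal ∧ (∀ r : ℕ, r.Prime → r ∣ Nat.card ↥N → r ∉ π) ∧
      (∀ r : ℕ, r.Prime → r ∣ N.index → r ∈ π) ∧ C ≤ N := by
  classical
  induction π using Finset.induction_on with
  | empty =>
    refine ⟨⊤, inferInstance, ?_, ?_, le_top⟩
    · intro r _ _
      simp
    · intro r hr hd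
      rw [Subgroup.index_top] at hd
      exact absurd (Nat.dvd_one.mp hd) hr.ne_one
  | insert r τ hrτ ih =>
    obtain ⟨N₁, hN₁, hC₁, hI₁, hCN₁⟩ := ih (fun s hs => h s (Finset.mem_insert_of_mem hs))
    obtain ⟨N₂, hN₂, hC₂, hI₂, hCN₂⟩ := h r (Finset.mem_insert_self _ _)
    refine ⟨N₁ ⊓ N₂, inferInstance, ?_, ?_, le_inf hCN₁ hCN₂⟩
    · intro s hs hd hmem
      rcases Finset.mem_insert.mp hmem with rfl | h3
      · exact hC₂ (hd.trans (Subgroup.card_dvd_of_le inf_le_right))
      · exact hC₁ s hs (hd.trans (Subgroup.card_dvd_of_le inf_le_left)) h3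
    · intro s hs hd
      have h1 : (N₁ ⊓ N₂).index = N₂.relIndex N₁ * N₁.index := by
        rw [← Subgroup.relIndex_mul_index (inf_le_left : N₁ ⊓ N₂ ≤ N₁), Subgroup.inf_relIndex_left]
      rw [h1] at hd
      rcases (Nat.Prime.dvd_mul hs).mp hd with h2 | h2
      · have h3 : s ∣ N₂.index := h2.trans (Subgroup.relIndex_dvd_index_of_normal N₂ N₁)
        rw [hI₂ s hs h3]
        exact Finset.mem_insert_self _ _
      · exact Finset.mem_insert_of_mem (hI₁ s hs h2)

/-- From a normal `π`-complement with abelian quotient to an abelian Hall `π`-subgroup. -/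
theorem exists_abelian_hall (π : Set ℕ) (N : Subgroup G) [N.Normal]
    (h1 : ∀ r : ℕ, r.Prime → r ∣ Nat.card ↥N → r ∉ π) (h2 : ∀ r : ℕ, r.Prime → r ∣ N.index → r ∈ π)
    (h3 : commutator G ≤ N) :
    ∃ H : Subgroup G, Cfsg.IsPiHall π H ∧ IsMulCommutative ↥H := by
  have hcop : Nat.Coprime (Nat.card ↥N) N.index := by
    apply Nat.coprime_of_dvd
    intro k hk hd1 hd2
    exact h1 k hk hd1 (h2 k hk hd2)
  obtain ⟨H, hH⟩ := Subgroup.exists_right_complement'_of_coprime hcop
  refine ⟨H, ⟨?_, ?_⟩, ⟨⟨fun a b => ?_⟩⟩⟩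
  · intro p hp hd
    apply h2 p hp
    rwa [← hH.symm.index_eq_card] at hd
  · intro p hp hmem hd
    rw [hH.index_eq_card] at hd
    exact h1 p hp hd hmem
  · apply Subtype.ext
    have h4 : (a : G) * b * (a : G)⁻¹ * (b : G)⁻¹ ∈ N := by
      have := h3 (Subgroup.commutator_mem_commutator (Subgroup.mem_top (a : G)) (Subgroup.mem_top (b : G)))
      rwa [commutatorElement_def] at this
    have h5 : (a : G) * b * (a : G)⁻¹ * (b : G)⁻¹ ∈ H :=
      H.mul_mem (H.mul_mem (H.mul_mem a.2 b.2) (H.inv_mem a.2)) (H.inv_mem b.2)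
    have h6 := Subgroup.disjoint_def.mp hH.disjoint h4 h5
    have h7 : (a : G) * b = b * a := by
      have h8 : (a : G) * b * (a : G)⁻¹ = b := mul_inv_eq_one.mp h6
      exact mul_inv_eq_iff_eq_mul.mp h8
    exact h7

/-- The data from a normal `r`-complement. -/
theorem normal_data_of_complement {r : ℕ} [hr : Fact r.Prime]
    (hN : Cfsg.HasNormalPComplement r G) :
    ∃ N : Subgroup G, N.Normal ∧ ¬ r ∣ Nat.card ↥N ∧ (∀ s : ℕ, s.Prime → s ∣ N.index → s = r) ∧
      ∀ P : Sylow r G, N.IsComplement' (P : Subgroup G) := by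
  obtain ⟨P₀, N, hNn, hc⟩ := hN
  refine ⟨N, hNn, ?_, ?_, fun P => isComplement'_of_normal_complement P₀ P N hc⟩
  · rw [← hc.index_eq_card]
    exact P₀.not_dvd_index
  · intro s hs hd
    have h1 : N.index = Nat.card ↥(P₀ : Subgroup G) := hc.symm.index_eq_card
    rw [h1, P₀.card_eq_multiplicity] at hd
    exact (Nat.prime_dvd_prime_iff_eq hs hr.out).mp (hs.dvd_of_dvd_pow hd)

/-- if a normal subgroup complements an abelian subgroup then it contains the commutator subgroup -/
theorem commutator_le_of_isComplement' {N K : Subgroup G} [hN : N.Normal] (hc : N.IsComplement' K)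
    (hab : IsMulCommutative ↥K) : commutator G ≤ N := by
  rw [commutator_def, Subgroup.commutator_le]
  intro g _ h _
  have hsup : N ⊔ K = ⊤ := hc.sup_eq_top
  have hg : g ∈ N ⊔ K := by rw [hsup]; trivial
  have hh : h ∈ N ⊔ K := by rw [hsup]; trivial
  obtain ⟨n, hn, q, hq, rfl⟩ := Subgroup.mem_sup_of_normal_left.mp hg
  obtain ⟨n', hn', q', hq', rfl⟩ := Subgroup.mem_sup_of_normal_left.mp hh
  rw [← QuotientGroup.eq_one_iff, commutatorElement_def]
  have e1 : ((n : G) : G ⧸ N) = 1 := (QuotientGroup.eq_one_iff n).mpr hn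
  have e2 : ((n' : G) : G ⧸ N) = 1 := (QuotientGroup.eq_one_iff n').mpr hn'
  have e3 : q * q' = q' * q := by
    have := hab.is_comm.comm (⟨q, hq⟩ : ↥K) ⟨q', hq'⟩
    exact congrArg Subtype.val this
  simp only [QuotientGroup.mk_mul, QuotientGroup.mk_inv, e1, e2, one_mul, inv_one, mul_one]
  have e4 : ((q : G) : G ⧸ N) * ((q' : G) : G ⧸ N) = ((q' : G) : G ⧸ N) * ((q : G) : G ⧸ N) := by
    rw [← QuotientGroup.mk_mul, e3, QuotientGroup.mk_mul]
  rw [e4]
  group

end Complements

end Cfsg.Agent.Lib.PiClasses
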