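import Mathlib
import Cfsg.Agent.S4106
import Cfsg.Agent.Lib.PiClasses
import Cfsg.Agent.Lib.AbelianHall
import Cfsg.Agent.Lib.CharKernel
import Cfsg.Agent.Lib.CharInd
import Cfsg.Agent.S0154

/-!
Counting classes of `π`-elements, part one: covering bounds, conjugating elements into abelian
Hall subgroups, the commuting-probability bounds for `p`-groups.
-/

set_option autoImplicit false

namespace Cfsg.Agent.Lib.KPi

open Cfsg.Agent.Lib.PClasses Cfsg.Agent.Lib.PiClasses

universe u

variable {G : Type u} [Group G]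

/-- Covering bound for a set of classes. -/
theorem ncard_le_of_cover [Finite G] (A : Set (ConjClasses G)) (Q : Finset G) (τ : Finset ℕ) (B : ℕ)
    (hB : ∀ y ∈ Q, Nat.card (PiClassSet τ (Subgroup.centralizer ({y} : Set G))) ≤ B)
    (hcov : ∀ c ∈ A, ∃ y ∈ Q, ∃ z : Subgroup.centralizer ({y} : Set G),
      (∀ r : ℕ, r.Prime → r ∣ orderOf (z : G) → r ∈ τ) ∧ ConjClasses.mk (y * (z : G)) = c) :
    A.ncard ≤ Q.card * B := by
  classical
  choose repd hrepd using (fun (y : Q) (d : PiClassSet τ (Subgroup.centralizer ({(y : G)} : Set G))) =>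
    ConjClasses.exists_rep d.1)
  let Ψ : (Σ y : Q, PiClassSet τ (Subgroup.centralizer ({(y : G)} : Set G))) → ConjClasses G :=
    fun s => ConjClasses.mk ((s.1 : G) * (repd s.1 s.2 : G))
  have hsub : A ⊆ Set.range Ψ := by
    intro c hc
    obtain ⟨y, hy, z, hz, rfl⟩ := hcov c hc
    let d : PiClassSet τ (Subgroup.centralizer ({y} : Set G)) := ⟨ConjClasses.mk z, by
      intro w hw s hs hsw
      rw [ConjClasses.mem_carrier_iff_mk_eq, ConjClasses.mk_eq_mk_iff_isConj] at hw
      rw [orderOf_eq_of_isConj hw] at hsw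
      exact hz s hs (by rwa [Subgroup.orderOf_coe])⟩
    refine ⟨⟨⟨y, hy⟩, d⟩, ?_⟩
    have h₁ : ConjClasses.mk (repd ⟨y, hy⟩ d) = ConjClasses.mk z := hrepd ⟨y, hy⟩ d
    rw [ConjClasses.mk_eq_mk_iff_isConj] at h₁
    obtain ⟨u, hu⟩ := isConj_iff.mp h₁.symm
    have hu' : (u : G) * (z : G) * (u : G)⁻¹ = (repd ⟨y, hy⟩ d : G) := by
      have := congrArg Subtype.val hu
      simpa using this
    have hucomm : (u : G) * y = y * (u : G) := Subgroup.mem_centralizer_singleton_iff.mp u.2
    show ConjClasses.mk (y * (repd ⟨y, hy⟩ d : G)) = ConjClasses.mk (y * (z : G))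
    rw [ConjClasses.mk_eq_mk_iff_isConj]
    refine IsConj.symm (isConj_iff.mpr ⟨(u : G), ?_⟩)
    rw [← hu']
    calc (u : G) * (y * (z : G)) * (u : G)⁻¹ = ((u : G) * y) * (z : G) * (u : G)⁻¹ := by group
      _ = (y * (u : G)) * (z : G) * (u : G)⁻¹ := by rw [hucomm]
      _ = y * ((u : G) * (z : G) * (u : G)⁻¹) := by group
  haveI : Finite (ConjClasses G) := inferInstance
  have h1 : A.ncard ≤ (Set.range Ψ).ncard := Set.ncard_le_ncard hsub (Set.toFinite _)
  have h2 : (Set.range Ψ).ncard ≤ Nat.card (Σ y : Q, PiClassSet τ (Subgroup.centralizer ({(y : G)} : Set G))) := by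
    rw [← Set.image_univ, ← Set.ncard_univ]
    exact Set.ncard_image_le (Set.toFinite _)
  have h3 : Nat.card (Σ y : Q, PiClassSet τ (Subgroup.centralizer ({(y : G)} : Set G))) ≤ Q.card * B := by
    rw [Nat.card_sigma]
    calc ∑ y : Q, Nat.card (PiClassSet τ (Subgroup.centralizer ({(y : G)} : Set G)))
        ≤ ∑ _y : Q, B := Finset.sum_le_sum fun y _ => hB y y.2
      _ = Q.card * B := by simp
  omega

/-- The `r`-part and the `r'`-part, powers of the element. -/
theorem exists_parts [Finite G] (r : ℕ) (hr : r.Prime) (τ : Finset ℕ) (x : G)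
    (hx : ∀ s : ℕ, s.Prime → s ∣ orderOf x → s ∈ insert r τ) :
    ∃ y z : G, x = y * z ∧ y * z = z * y ∧ (∃ k : ℕ, orderOf y = r ^ k) ∧
      (∀ s : ℕ, s.Prime → s ∣ orderOf z → s ∈ τ) := by
  obtain ⟨y, z, h1, h2, h3, h4, h5, -⟩ := exists_part_decomp r hr x
  refine ⟨y, z, h1, h2, h3, ?_⟩
  intro s hs hd
  rcases Finset.mem_insert.mp (hx s hs (hd.trans h5)) with rfl | h
  · exact absurd hd h4
  · exact h

/-- `k_{r ∪ τ}(G) ≤ k_τ(G) |G|_r`. -/
theorem card_piClasses_insert_le_swap [Finite G] (r : ℕ) (hr : r.Prime) (τ : Finset ℕ)  :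
    Nat.card (PiClassSet (insert r τ) G) ≤
      Nat.card (PiClassSet τ G) * r ^ (Nat.card G).factorization r := by
  classical
  haveI : Fact r.Prime := ⟨hr⟩
  haveI : Fintype (PiClassSet τ G) := Fintype.ofFinite _
  choose repc hrepc using (fun c : PiClassSet τ G => ConjClasses.exists_rep c.1)
  let Q : Finset G := Finset.univ.image repc
  have hQ : Q.card ≤ Nat.card (PiClassSet τ G) := by
    rw [Nat.card_eq_fintype_card]
    exact Finset.card_image_le
  have hcard : Nat.card (PiClassSet (insert r τ) G)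
      = {c : ConjClasses G | ∀ x ∈ c.carrier, ∀ s : ℕ, s.Prime → s ∣ orderOf x → s ∈ insert r τ}.ncard := by
    rw [← Nat.card_coe_set_eq]; rfl
  rw [hcard]
  have hB : ∀ y ∈ Q, Nat.card (PiClassSet ({r} : Finset ℕ) (Subgroup.centralizer ({y} : Set G))) ≤
      r ^ (Nat.card G).factorization r := by
    intro y _
    refine (card_piClasses_le {r} (by simpa using hr) _).trans ?_
    simp only [piPart, Finset.prod_singleton]
    exact Nat.pow_le_pow_right hr.pos ((Nat.factorization_le_iff_dvd Nat.card_pos.ne' Nat.card_pos.ne').2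
      (Subgroup.card_subgroup_dvd_card _) r)
  refine (ncard_le_of_cover _ Q {r} _ hB ?_).trans (Nat.mul_le_mul_right _ hQ)
  intro c hc
  obtain ⟨x, rfl⟩ := ConjClasses.exists_rep c
  obtain ⟨y, z, rfl, hyz, ⟨k, hk⟩, hz⟩ := exists_parts r hr τ x (hc x ConjClasses.mem_carrier_mk)
  let c₀ : PiClassSet τ G := ⟨ConjClasses.mk z, by
    intro w hw s hs hsw
    rw [ConjClasses.mem_carrier_iff_mk_eq, ConjClasses.mk_eq_mk_iff_isConj] at hw
    rw [orderOf_eq_of_isConj hw] at hsw
    exact hz s hs hsw⟩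
  have h₀ : ConjClasses.mk (repc c₀) = ConjClasses.mk z := hrepc c₀
  rw [ConjClasses.mk_eq_mk_iff_isConj] at h₀
  obtain ⟨g, hg⟩ := isConj_iff.mp h₀.symm
  have hmem : g * y * g⁻¹ ∈ Subgroup.centralizer ({repc c₀} : Set G) := by
    rw [Subgroup.mem_centralizer_singleton_iff, ← hg]
    calc g * y * g⁻¹ * (g * z * g⁻¹) = g * (y * z) * g⁻¹ := by group
      _ = g * (z * y) * g⁻¹ := by rw [hyz]
      _ = g * z * g⁻¹ * (g * y * g⁻¹) := by group
  refine ⟨repc c₀, Finset.mem_image_of_mem _ (Finset.mem_univ _), ⟨_, hmem⟩, ?_, ?_⟩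
  · intro s hs hd
    have h1 : orderOf (g * y * g⁻¹) = orderOf y := by
      simpa [MulAut.conj_apply] using MulEquiv.orderOf_eq (MulAut.conj g) y
    have : s ∣ orderOf (g * y * g⁻¹) := hd
    rw [h1, hk] at this
    have := (Nat.prime_dvd_prime_iff_eq hs hr).mp (hs.dvd_of_dvd_pow this)
    simp [this]
  · rw [ConjClasses.mk_eq_mk_iff_isConj]
    refine IsConj.symm (isConj_iff.mpr ⟨g, ?_⟩)
    show g * (y * z) * g⁻¹ = repc c₀ * (g * y * g⁻¹)
    rw [← hg, hyz]
    group

/-- A `q`-element is conjugate into a subgroup of index prime to `q`. -/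
theorem conj_into [Finite G] {q : ℕ} [Fact q.Prime] {U X : Subgroup G} (hUX : U ≤ X) {y : G} (hy : y ∈ X)
    {k : ℕ} (hk : orderOf y = q ^ k) (hq : ¬ q ∣ U.relIndex X) : ∃ c ∈ X, c * y * c⁻¹ ∈ U := by
  let y' : X := ⟨y, hy⟩
  have hp : IsPGroup q (Subgroup.zpowers y') := by
    rw [IsPGroup.iff_card, Nat.card_zpowers, Subgroup.orderOf_mk, hk]
    exact ⟨k, rfl⟩
  have hcard : Nat.card (X ⧸ U.subgroupOf X) = U.relIndex X := rfl
  obtain ⟨b, hb⟩ := hp.nonempty_fixed_point_of_prime_not_dvd_card (X ⧸ U.subgroupOf X)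
    (by rwa [hcard])
  obtain ⟨c, rfl⟩ := QuotientGroup.mk_surjective b
  have h1 := hb ⟨y', Subgroup.mem_zpowers y'⟩
  have h2 : ((y' * c : X) : X ⧸ U.subgroupOf X) = (c : X ⧸ U.subgroupOf X) := h1
  rw [QuotientGroup.eq] at h2
  refine ⟨(c : G)⁻¹, X.inv_mem c.2, ?_⟩
  have h3 : ((y' * c)⁻¹ * c : X) ∈ U.subgroupOf X := h2
  have h4 := U.inv_mem (Subgroup.mem_subgroupOf.mp h3)
  have h5 : (c : G)⁻¹ * y * ((c : G)⁻¹)⁻¹ = (((y' * c)⁻¹ * c : X) : G)⁻¹ := by
    simp [y']
    group
  rw [h5]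
  exact h4

/-- Elements whose order is prime to the index of an abelian subgroup are conjugate into it. -/
theorem conj_into_abelian [Finite G] {U : Subgroup G} (hU : ∀ a ∈ U, ∀ b ∈ U, a * b = b * a) :
    ∀ (n : ℕ) (X : Subgroup G) (w : G), orderOf w = n → U ≤ X → w ∈ X →
      (orderOf w).Coprime U.index → ∃ c ∈ X, c * w * c⁻¹ ∈ U := by
  intro n
  induction n using Nat.strong_induction_on with
  | _ n ih =>
    intro X w hn hUX hw hcop
    by_cases h1 : orderOf w = 1
    · refine ⟨1, X.one_mem, ?_⟩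
      rw [orderOf_eq_one_iff.mp h1]
      simp [U.one_mem]
    set q := (orderOf w).minFac with hq
    have hqp : q.Prime := Nat.minFac_prime h1
    haveI : Fact q.Prime := ⟨hqp⟩
    have hqd : q ∣ orderOf w := Nat.minFac_dvd _
    obtain ⟨y, z, hw', hcomm, ⟨k, hk⟩, hqz, hdz, hyz, hzz⟩ :=
      Cfsg.Agent.S4106.primary_decomp q hqp w
    have hyX : y ∈ X := (Subgroup.zpowers_le.mpr hw) hyz
    have hzX : z ∈ X := (Subgroup.zpowers_le.mpr hw) hzz
    have hqU : ¬ q ∣ U.index := fun h =>
      hqp.one_lt.ne' (Nat.eq_one_of_dvd_coprimes hcop hqd h)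
    have hqrel : ¬ q ∣ U.relIndex X := by
      intro h
      apply hqU
      rw [← Subgroup.relIndex_mul_index hUX]
      exact h.trans (dvd_mul_right _ _)
    obtain ⟨c, hc, hcy⟩ := conj_into hUX hyX hk hqrel
    set u := c * y * c⁻¹ with hu
    set z' := c * z * c⁻¹ with hz'
    have hord : orderOf z' = orderOf z := by
      simpa [MulAut.conj_apply, hz'] using MulEquiv.orderOf_eq (MulAut.conj c) z
    have hlt : orderOf z' < n := by
      rw [hord, ← hn]
      refine lt_of_le_of_ne (Nat.le_of_dvd (orderOf_pos _) hdz) ?_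
      intro h
      exact hqz (h ▸ hqd)
    have hUX1 : U ≤ X ⊓ Subgroup.centralizer ({u} : Set G) := by
      refine le_inf hUX ?_
      intro a ha
      rw [Subgroup.mem_centralizer_singleton_iff]
      exact hU a ha u hcy
    have hz'X : z' ∈ X ⊓ Subgroup.centralizer ({u} : Set G) := by
      refine ⟨X.mul_mem (X.mul_mem hc hzX) (X.inv_mem hc), ?_⟩
      show z' ∈ Subgroup.centralizer ({u} : Set G)
      rw [Subgroup.mem_centralizer_singleton_iff, hz', hu]
      have : z * y = y * z := hcomm.eq.symm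
      calc c * z * c⁻¹ * (c * y * c⁻¹) = c * (z * y) * c⁻¹ := by group
        _ = c * (y * z) * c⁻¹ := by rw [this]
        _ = c * y * c⁻¹ * (c * z * c⁻¹) := by group
    have hcop' : (orderOf z').Coprime U.index := by
      rw [hord]
      exact Nat.Coprime.coprime_dvd_left hdz hcop
    obtain ⟨c', hc', hc'z⟩ := ih _ hlt (X ⊓ Subgroup.centralizer ({u} : Set G)) z' rfl hUX1 hz'X hcop'
    refine ⟨c' * c, X.mul_mem hc'.1 hc, ?_⟩
    have hcu : c' * u = u * c' := Subgroup.mem_centralizer_singleton_iff.mp hc'.2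
    have : c' * c * w * (c' * c)⁻¹ = u * (c' * z' * c'⁻¹) := by
      have e1 : c * w * c⁻¹ = u * z' := by
        rw [hu, hz', hw']; group
      calc c' * c * w * (c' * c)⁻¹ = c' * (c * w * c⁻¹) * c'⁻¹ := by group
        _ = c' * (u * z') * c'⁻¹ := by rw [e1]
        _ = (c' * u) * z' * c'⁻¹ := by group
        _ = (u * c') * z' * c'⁻¹ := by rw [hcu]
        _ = u * (c' * z' * c'⁻¹) := by group
    rw [this]
    exact U.mul_mem hcy hc'z

/-- The class bound in a `p`-group: `p k(R) ≤ |R| + (p - 1)|Z(R)|`. -/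
theorem mul_card_classes_le {R : Type u} [Group R] [Finite R] {p : ℕ} (hp : p.Prime) (hR : IsPGroup p R) :
    p * Nat.card (ConjClasses R) + Nat.card (Subgroup.center R) ≤ Nat.card R + p * Nat.card (Subgroup.center R) := by
  classical
  haveI := Fintype.ofFinite R
  haveI := Fintype.ofFinite (ConjClasses R)
  haveI : Fact p.Prime := ⟨hp⟩
  -- for each class
  have hsum : ∑ c : ConjClasses R, c.carrier.toFinset.card = Fintype.card R :=
    sum_conjClasses_card_eq_card R
  let T : Finset (ConjClasses R) := Finset.univ.filter (fun c => c.carrier.toFinset.card = 1)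
  have hT : T.card ≤ Nat.card (Subgroup.center R) := by
    have hrep : ∀ c : T, ∃ z : Subgroup.center R, ConjClasses.mk (z : R) = (c : ConjClasses R) := by
      rintro ⟨c, hc⟩
      obtain ⟨x, rfl⟩ := ConjClasses.exists_rep c
      have h1 := (Finset.mem_filter.mp hc).2
      have hz : x ∈ Subgroup.center R := by
        rw [Subgroup.mem_center_iff]
        intro g
        obtain ⟨a, ha⟩ := Finset.card_eq_one.mp h1
        have hx : x ∈ (ConjClasses.mk x).carrier.toFinset := by
          simp [ConjClasses.mem_carrier_mk]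
        have hg : g * x * g⁻¹ ∈ (ConjClasses.mk x).carrier.toFinset := by
          simp only [Set.mem_toFinset, ConjClasses.mem_carrier_iff_mk_eq]
          rw [ConjClasses.mk_eq_mk_iff_isConj]
          exact (isConj_iff.mpr ⟨g, rfl⟩).symm
        rw [ha, Finset.mem_singleton] at hx hg
        have : g * x * g⁻¹ = x := hg.trans hx.symm
        exact mul_inv_eq_iff_eq_mul.mp this
      exact ⟨⟨x, hz⟩, rfl⟩
    choose f hf using hrep
    have hinj : Function.Injective f := by
      intro a b hab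
      apply Subtype.ext
      rw [← hf a, ← hf b, hab]
    have := Nat.card_le_card_of_injective f hinj
    simpa using this
  have hlarge : ∀ c : ConjClasses R, c ∉ T → p ≤ c.carrier.toFinset.card := by
    intro c hc
    obtain ⟨x, rfl⟩ := ConjClasses.exists_rep c
    have hne : (ConjClasses.mk x).carrier.toFinset.card ≠ 1 := fun h => hc (Finset.mem_filter.mpr ⟨Finset.mem_univ _, h⟩)
    obtain ⟨n, hn⟩ := IsPGroup.iff_card.mp hR
    have hd : (ConjClasses.mk x).carrier.toFinset.card ∣ p ^ n := by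
      rw [Set.toFinset_card, ConjClasses.card_carrier x, ← hn, Nat.card_eq_fintype_card]
      apply Nat.div_dvd_of_dvd
      have h2 := Subgroup.card_subgroup_dvd_card (MulAction.stabilizer (ConjAct R) x)
      rw [Nat.card_eq_fintype_card, Nat.card_eq_fintype_card] at h2
      have h3 : Fintype.card (ConjAct R) = Fintype.card R := Fintype.card_congr ConjAct.toConjAct.toEquiv.symm
      rwa [h3] at h2
    obtain ⟨m, -, hm⟩ := (Nat.dvd_prime_pow hp).mp hd
    rw [hm]
    rcases m with _ | m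
    · rw [hm] at hne; simp at hne
    · exact Nat.le_self_pow (by omega) p
  -- summation
  have h1 : ∑ c : ConjClasses R, p ≤ ∑ c : ConjClasses R, (c.carrier.toFinset.card + if c ∈ T then p - 1 else 0) := by
    refine Finset.sum_le_sum fun c _ => ?_
    by_cases hc : c ∈ T
    · rw [if_pos hc, (Finset.mem_filter.mp hc).2]
      have := hp.pos
      omega
    · rw [if_neg hc]
      exact Nat.le_add_right_of_le (hlarge c hc)
  rw [Finset.sum_add_distrib, hsum, Finset.sum_const, Finset.card_univ, smul_eq_mul, Finset.sum_ite_mem,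
    Finset.univ_inter, Finset.sum_const, smul_eq_mul] at h1
  have h2 : T.card * (p - 1) + T.card = T.card * p := by
    obtain ⟨q, rfl⟩ : ∃ q, p = q + 1 := ⟨p - 1, by have := hp.pos; omega⟩
    simp; ring
  have e1 : Nat.card R = Fintype.card R := Nat.card_eq_fintype_card
  have e2 : Nat.card (ConjClasses R) = Fintype.card (ConjClasses R) := Nat.card_eq_fintype_card
  have h5 : T.card * (p - 1) ≤ Nat.card (Subgroup.center R) * (p - 1) := Nat.mul_le_mul_right _ hT
  have h4 : Nat.card (Subgroup.center R) * (p - 1) + Nat.card (Subgroup.center R) = Nat.card (Subgroup.center R) * p := by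
    obtain ⟨q, rfl⟩ : ∃ q, p = q + 1 := ⟨p - 1, by have := hp.pos; omega⟩
    simp; ring
  rw [e1, e2, Nat.mul_comm p, Nat.mul_comm p]
  omega

/-- Non-abelian `p`-groups: `p³ k(R) ≤ (p² + p - 1)|R|`. -/
theorem card_classes_of_nonabelian {R : Type u} [Group R] [Finite R] {p : ℕ} (hp : p.Prime) (hR : IsPGroup p R)
    (hna : ¬ ∀ a b : R, a * b = b * a) :
    p ^ 3 * Nat.card (ConjClasses R) + Nat.card R ≤ (p ^ 2 + p) * Nat.card R := by
  have h1 := mul_card_classes_le hp hR
  -- `R/Z` is not cyclic, so its order is at least `p²`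
  have h2 : p ^ 2 * Nat.card (Subgroup.center R) ≤ Nat.card R := by
    haveI : Fact p.Prime := ⟨hp⟩
    have hcard : (Subgroup.center R).index * Nat.card (Subgroup.center R) = Nat.card R :=
      Subgroup.index_mul_card _
    have hidx : p ^ 2 ≤ (Subgroup.center R).index := by
      obtain ⟨n, hn⟩ := IsPGroup.iff_card.mp hR
      have hd : (Subgroup.center R).index ∣ p ^ n := hn ▸ Subgroup.index_dvd_card _
      obtain ⟨m, -, hm⟩ := (Nat.dvd_prime_pow hp).mp hd
      by_contra hlt
      have hm2 : m < 2 := by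
        by_contra h
        push Not at h
        exact hlt (hm ▸ Nat.pow_le_pow_right hp.pos h)
      have hcyc : IsCyclic (R ⧸ Subgroup.center R) := by
        apply isCyclic_of_card_dvd_prime (p := p)
        have h5 : Nat.card (R ⧸ Subgroup.center R) = (Subgroup.center R).index := rfl
        rw [h5, hm]
        exact pow_dvd_pow p (by omega : m ≤ 1) |>.trans (by simp)
      have hc := MonoidHom.isMulCommutative_of_isCyclic_of_ker_le_center (QuotientGroup.mk' (Subgroup.center R))
        (by simp)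
      exact hna hc.is_comm.comm
    calc p ^ 2 * Nat.card (Subgroup.center R) ≤ (Subgroup.center R).index * Nat.card (Subgroup.center R) :=
          Nat.mul_le_mul_right _ hidx
      _ = _ := hcard
  have hp1 := hp.pos
  nlinarith

/-- `p`-groups with many classes: `|R| < p k(R)` gives `|R'| ≤ p`. -/
theorem card_commutator_le {R : Type u} [Group R] [Finite R] {p : ℕ} (hp : p.Prime) (hR : IsPGroup p R)
    (hk : Nat.card R < p * Nat.card (ConjClasses R)) : Nat.card (commutator R) ≤ p := by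
  classical
  haveI := Fintype.ofFinite R
  haveI : Fintype (IrrCharacter R) := Fintype.ofFinite _
  haveI : Fact p.Prime := ⟨hp⟩
  have hsq : ∑ χ : IrrCharacter R, Cfsg.charDegree (χ : R → ℂ) ^ 2 = Nat.card R := by
    convert Cfsg.Agent.Lib.CharKernel.sum_charDegree_sq (G := R)
  have hirr : Nat.card (IrrCharacter R) = Nat.card (ConjClasses R) :=
    Cfsg.Agent.Lib.CharInd.card_irr_eq_card_conjClasses
  have hlin : Nat.card {χ : IrrCharacter R // (χ : R → ℂ) 1 = 1} = (commutator R).index :=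
    Cfsg.Agent.S0154.result
  -- the number of linear characters
  let L : Finset (IrrCharacter R) := Finset.univ.filter (fun χ => (χ : R → ℂ) 1 = 1)
  have hL : L.card = (commutator R).index := by
    rw [← hlin, Nat.card_eq_fintype_card, Fintype.card_subtype]
  have hdeg : ∀ χ : IrrCharacter R, χ ∉ L → p ^ 2 ≤ Cfsg.charDegree (χ : R → ℂ) ^ 2 := by
    intro χ hχ
    have h1 : Cfsg.charDegree (χ : R → ℂ) ≠ 1 := by
      intro h
      apply hχ
      refine Finset.mem_filter.mpr ⟨Finset.mem_univ _, ?_⟩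
      rw [Cfsg.Agent.Lib.CharKernel.one_eq_charDegree (Cfsg.Agent.Lib.CharBasic.IsIrrCharacter.isCharacter χ.2), h]
      simp
    have h2 := Cfsg.Agent.Lib.CharKernel.charDegree_dvd_card χ.2
    obtain ⟨n, hn⟩ := IsPGroup.iff_card.mp hR
    rw [hn] at h2
    obtain ⟨m, -, hm⟩ := (Nat.dvd_prime_pow hp).mp h2
    rw [hm] at h1 ⊢
    rcases m with _ | m
    · simp at h1
    · exact Nat.pow_le_pow_left (Nat.le_self_pow (by omega) p) 2
  have hdeg1 : ∀ χ : IrrCharacter R, 1 ≤ Cfsg.charDegree (χ : R → ℂ) ^ 2 := fun χ =>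
    Nat.one_le_pow _ _ (Cfsg.Agent.Lib.CharKernel.charDegree_pos χ.2)
  -- counting
  have hcount : L.card + p ^ 2 * (Nat.card (ConjClasses R) - L.card) ≤ Nat.card R := by
    rw [← hsq, ← Finset.sum_add_sum_compl L]
    have hc : Lᶜ.card = Nat.card (ConjClasses R) - L.card := by
      rw [Finset.card_compl, ← hirr, Nat.card_eq_fintype_card]
    have e1 : L.card ≤ ∑ χ ∈ L, Cfsg.charDegree (χ : R → ℂ) ^ 2 := by
      calc L.card = ∑ _χ ∈ L, 1 := by simp
        _ ≤ _ := Finset.sum_le_sum fun χ _ => hdeg1 χ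
    have e2 : p ^ 2 * (Nat.card (ConjClasses R) - L.card) ≤ ∑ χ ∈ Lᶜ, Cfsg.charDegree (χ : R → ℂ) ^ 2 := by
      rw [← hc]
      calc p ^ 2 * Lᶜ.card = ∑ _χ ∈ Lᶜ, p ^ 2 := by simp [mul_comm]
        _ ≤ _ := Finset.sum_le_sum fun χ hχ => hdeg χ (Finset.mem_compl.mp hχ)
    exact Nat.add_le_add e1 e2
  -- conclude
  by_contra hcon
  push Not at hcon
  have hmul : (commutator R).index * Nat.card (commutator R) = Nat.card R := Subgroup.index_mul_card _
  have hp2 : p ^ 2 ≤ Nat.card (commutator R) := by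
    obtain ⟨n, hn⟩ := IsPGroup.iff_card.mp hR
    have hd : Nat.card (commutator R) ∣ p ^ n := hn ▸ Subgroup.card_subgroup_dvd_card _
    obtain ⟨m, -, hm⟩ := (Nat.dvd_prime_pow hp).mp hd
    rw [hm] at hcon ⊢
    rcases m with _ | _ | m
    · simp at hcon; have := hp.pos; omega
    · simp at hcon
    · exact Nat.pow_le_pow_right hp.pos (by omega)
  have hLp : p ^ 2 * L.card ≤ Nat.card R := by
    rw [hL, ← hmul, mul_comm]
    exact Nat.mul_le_mul_left _ hp2
  have hk2 : 2 ≤ p := hp.two_le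
  set k := Nat.card (ConjClasses R) with hkdef
  set l := L.card with hldef
  set n := Nat.card R with hndef
  -- `p²(k - l) ≤ n - l`, `p² l ≤ n`, `n < p k`
  have h1 : p ^ 2 * k ≤ n + p ^ 2 * l := by
    have h2 : p ^ 2 * (k - l) ≤ n := le_trans (Nat.le_add_left _ _) hcount
    have h3 : k ≤ (k - l) + l := by omega
    calc p ^ 2 * k ≤ p ^ 2 * ((k - l) + l) := Nat.mul_le_mul_left _ h3
      _ = p ^ 2 * (k - l) + p ^ 2 * l := by ring
      _ ≤ n + p ^ 2 * l := by omega
  have h2 : p ^ 3 * n < p ^ 4 * k := by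
    calc p ^ 3 * n < p ^ 3 * (p * k) := Nat.mul_lt_mul_of_pos_left hk (by positivity)
      _ = p ^ 4 * k := by ring
  have h3 : p ^ 4 * k ≤ p ^ 2 * n + p ^ 2 * n := by
    calc p ^ 4 * k = p ^ 2 * (p ^ 2 * k) := by ring
      _ ≤ p ^ 2 * (n + p ^ 2 * l) := Nat.mul_le_mul_left _ h1
      _ = p ^ 2 * n + p ^ 2 * (p ^ 2 * l) := by ring
      _ ≤ p ^ 2 * n + p ^ 2 * n := by
        exact Nat.add_le_add_left (Nat.mul_le_mul_left _ hLp) _
  have h4 : p ^ 2 * n + p ^ 2 * n ≤ p ^ 3 * n := by
    calc p ^ 2 * n + p ^ 2 * n = 2 * (p ^ 2 * n) := by ring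
      _ ≤ p * (p ^ 2 * n) := Nat.mul_le_mul_right _ hk2
      _ = p ^ 3 * n := by ring
  omega

end Cfsg.Agent.Lib.KPi
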