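import Mathlib
import Cfsg.Agent.Lib.KPi

/-!
Counting classes of `π`-elements, part two: the set `A` of classes meeting `P₀ U`, and the main
covering inequality.
-/

set_option autoImplicit false

namespace Cfsg.Agent.Lib.KPiCount

open Cfsg.Agent.Lib.PClasses Cfsg.Agent.Lib.PiClasses Cfsg.Agent.Lib.KPi

universe u

variable {G : Type u} [Group G] [Finite G]

/-- The classes meeting `P₀ U`. -/
def AA (P₀ U : Subgroup G) : Set (ConjClasses G) :=
  Set.range (fun x : ↥P₀ × ↥U => ConjClasses.mk ((x.1 : G) * (x.2 : G)))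

theorem ncard_AA_le (P₀ U : Subgroup G) : (AA P₀ U).ncard ≤ Nat.card P₀ * Nat.card U := by
  unfold AA
  rw [← Set.image_univ]
  refine (Set.ncard_image_le (Set.toFinite _)).trans ?_
  rw [Set.ncard_univ, Nat.card_prod]

/-- The orbit count for `A`: an element `a` normalizing `P₀` and `U`, whose iterates move points
of `U` not fixed by `a` to at least `ℓ` different points. -/
theorem ncard_AA_orbit (P₀ U : Subgroup G) (a : G) (ha1 : ∀ y ∈ P₀, a * y * a⁻¹ ∈ P₀)
    (ha2 : ∀ v ∈ U, a * v * a⁻¹ ∈ U) (ℓ : ℕ)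
    (hit : ∀ v ∈ U, a * v * a⁻¹ ≠ v → ∀ i < ℓ, ∀ j < ℓ, a ^ i * v * (a ^ i)⁻¹ = a ^ j * v * (a ^ j)⁻¹ → i = j) :
    ℓ * (AA P₀ U).ncard + Nat.card P₀ * Nat.card ↥(U ⊓ Subgroup.centralizer ({a} : Set G)) ≤
      Nat.card P₀ * Nat.card U + ℓ * (Nat.card P₀ * Nat.card ↥(U ⊓ Subgroup.centralizer ({a} : Set G))) := by
  classical
  haveI := Fintype.ofFinite G
  haveI : Fintype ↥P₀ := Fintype.ofFinite _
  haveI : Fintype ↥U := Fintype.ofFinite _
  haveI : Fintype ↥(U ⊓ Subgroup.centralizer ({a} : Set G)) := Fintype.ofFinite _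
  haveI := Fintype.ofFinite (ConjClasses G)
  let Ψ : ↥P₀ × ↥U → ConjClasses G := fun x => ConjClasses.mk ((x.1 : G) * (x.2 : G))
  let Ω₁ : Finset (↥P₀ × ↥U) := Finset.univ.filter (fun x => a * (x.2 : G) * a⁻¹ ≠ x.2)
  let Ω₂ : Finset (↥P₀ × ↥U) := Finset.univ.filter (fun x => a * (x.2 : G) * a⁻¹ = x.2)
  have hcard : Ω₁.card + Ω₂.card = Nat.card P₀ * Nat.card U := by
    have := Finset.card_filter_add_card_filter_not (α := ↥P₀ × ↥U) (s := Finset.univ)
      (fun x => a * (x.2 : G) * a⁻¹ = x.2)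
    have h2 : (Finset.univ : Finset (↥P₀ × ↥U)).card = Nat.card P₀ * Nat.card U := by
      rw [Finset.card_univ, Fintype.card_prod, Nat.card_eq_fintype_card, Nat.card_eq_fintype_card]
    rw [← h2, ← this, add_comm]
  have hΩ₂ : Ω₂.card = Nat.card P₀ * Nat.card ↥(U ⊓ Subgroup.centralizer ({a} : Set G)) := by
    rw [← Nat.card_prod, Nat.card_eq_fintype_card, ← Finset.card_univ]
    refine Finset.card_bij' (s := Ω₂) (t := (Finset.univ : Finset (↥P₀ × ↥(U ⊓ Subgroup.centralizer ({a} : Set G)))))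
      (fun x hx => (x.1, ⟨x.2, x.2.2, by
        show (x.2 : G) ∈ Subgroup.centralizer ({a} : Set G)
        rw [Subgroup.mem_centralizer_singleton_iff]
        have := (Finset.mem_filter.mp hx).2
        exact (mul_inv_eq_iff_eq_mul.mp this).symm⟩))
      (fun x _ => (x.1, ⟨x.2, x.2.2.1⟩))
      (fun _ _ => Finset.mem_univ _)
      (fun x _ => Finset.mem_filter.mpr ⟨Finset.mem_univ _, by
        have := Subgroup.mem_centralizer_singleton_iff.mp x.2.2.2
        exact mul_inv_eq_iff_eq_mul.mpr this.symm⟩)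
      (fun x _ => rfl) (fun x _ => rfl)
  have hA : AA P₀ U ⊆ ((Ω₁.image Ψ ∪ Ω₂.image Ψ : Finset (ConjClasses G)) : Set (ConjClasses G)) := by
    rintro _ ⟨x, rfl⟩
    by_cases hx : a * (x.2 : G) * a⁻¹ = x.2
    · exact Finset.mem_coe.mpr (Finset.mem_union_right _ (Finset.mem_image_of_mem _ (Finset.mem_filter.mpr ⟨Finset.mem_univ _, hx⟩)))
    · exact Finset.mem_coe.mpr (Finset.mem_union_left _ (Finset.mem_image_of_mem _ (Finset.mem_filter.mpr ⟨Finset.mem_univ _, hx⟩)))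
  have hn : (AA P₀ U).ncard ≤ (Ω₁.image Ψ).card + (Ω₂.image Ψ).card := by
    have h1 := Set.ncard_le_ncard hA (Finset.finite_toSet _)
    rw [Set.ncard_coe_finset] at h1
    exact h1.trans (Finset.card_union_le _ _)
  have h2 : (Ω₂.image Ψ).card ≤ Ω₂.card := Finset.card_image_le
  -- iterates
  have hpowP : ∀ (i : ℕ), ∀ y ∈ P₀, a ^ i * y * (a ^ i)⁻¹ ∈ P₀ := by
    intro i
    induction i with
    | zero => intro y hy; simpa using hy
    | succ i ih =>
      intro y hy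
      have := ih _ (ha1 y hy)
      have e : a ^ (i + 1) * y * (a ^ (i + 1))⁻¹ = a ^ i * (a * y * a⁻¹) * (a ^ i)⁻¹ := by
        rw [pow_succ]; group
      rw [e]; exact this
  have hpowU : ∀ (i : ℕ), ∀ y ∈ U, a ^ i * y * (a ^ i)⁻¹ ∈ U := by
    intro i
    induction i with
    | zero => intro y hy; simpa using hy
    | succ i ih =>
      intro y hy
      have := ih _ (ha2 y hy)
      have e : a ^ (i + 1) * y * (a ^ (i + 1))⁻¹ = a ^ i * (a * y * a⁻¹) * (a ^ i)⁻¹ := by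
        rw [pow_succ]; group
      rw [e]; exact this
  have h1 : ℓ * (Ω₁.image Ψ).card ≤ Ω₁.card := by
    apply Finset.mul_card_image_le_card
    intro b hb
    obtain ⟨x, hx, rfl⟩ := Finset.mem_image.mp hb
    have hx' : a * (x.2 : G) * a⁻¹ ≠ x.2 := (Finset.mem_filter.mp hx).2
    let φ : ℕ → ↥P₀ × ↥U := fun i => (⟨a ^ i * x.1 * (a ^ i)⁻¹, hpowP i _ x.1.2⟩, ⟨a ^ i * x.2 * (a ^ i)⁻¹, hpowU i _ x.2.2⟩)
    have : (Finset.range ℓ).card ≤ (Finset.filter (fun y => Ψ y = Ψ x) Ω₁).card := by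
      refine Finset.card_le_card_of_injOn φ ?_ ?_
      · intro i _
        refine Finset.mem_coe.mpr (Finset.mem_filter.mpr ⟨Finset.mem_filter.mpr ⟨Finset.mem_univ _, ?_⟩, ?_⟩)
        · intro h
          apply hx'
          have h3 : a * (a ^ i * (x.2 : G) * (a ^ i)⁻¹) * a⁻¹ = a ^ i * (x.2 : G) * (a ^ i)⁻¹ := h
          have h4 : a ^ i * (a * (x.2 : G) * a⁻¹) * (a ^ i)⁻¹ = a ^ i * (x.2 : G) * (a ^ i)⁻¹ := by
            rw [← h3]
            have : a ^ i * a = a * a ^ i := (pow_succ a i).symm.trans (pow_succ' a i)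
            calc a ^ i * (a * (x.2 : G) * a⁻¹) * (a ^ i)⁻¹ = (a ^ i * a) * (x.2 : G) * (a ^ i * a)⁻¹ := by group
              _ = (a * a ^ i) * (x.2 : G) * (a * a ^ i)⁻¹ := by rw [this]
              _ = _ := by group
          have h5 := mul_right_cancel h4
          exact mul_left_cancel h5
        · show ConjClasses.mk ((a ^ i * x.1 * (a ^ i)⁻¹) * (a ^ i * x.2 * (a ^ i)⁻¹)) = ConjClasses.mk ((x.1 : G) * (x.2 : G))
          rw [ConjClasses.mk_eq_mk_iff_isConj]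
          refine IsConj.symm (isConj_iff.mpr ⟨a ^ i, by group⟩)
      · intro i hi j hj hij
        have h3 : a ^ i * (x.2 : G) * (a ^ i)⁻¹ = a ^ j * (x.2 : G) * (a ^ j)⁻¹ :=
          congrArg (fun z : ↥P₀ × ↥U => (z.2 : G)) hij
        exact hit _ x.2.2 hx' i (Finset.mem_range.mp (Finset.mem_coe.mp hi)) j (Finset.mem_range.mp (Finset.mem_coe.mp hj)) h3
    simpa using this
  rw [← hΩ₂]
  rw [← hcard]
  have h3 : ℓ * (AA P₀ U).ncard ≤ ℓ * (Ω₁.image Ψ).card + ℓ * (Ω₂.image Ψ).card := by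
    rw [← Nat.mul_add]
    exact Nat.mul_le_mul_left _ hn
  have h4 : ℓ * (Ω₂.image Ψ).card ≤ ℓ * Ω₂.card := Nat.mul_le_mul_left _ h2
  omega

/-- A class `mk (y z)` with `y ∈ P₀` and `z ∈ C(y)` an `s`-element lies in `A`. -/
theorem mem_AA_of (P₀ U : Subgroup G) (hUab : ∀ a ∈ U, ∀ b ∈ U, a * b = b * a)
    (hP₀ : P₀ ≤ Subgroup.centralizer (U : Set G)) {y z : G} (hy : y ∈ P₀) (hz : y * z = z * y)
    (hcop : (orderOf z).Coprime U.index) : ConjClasses.mk (y * z) ∈ AA P₀ U := by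
  have hUX : U ≤ Subgroup.centralizer ({y} : Set G) := by
    intro u hu
    rw [Subgroup.mem_centralizer_singleton_iff]
    exact Subgroup.mem_centralizer_iff.mp (hP₀ hy) u hu
  have hzX : z ∈ Subgroup.centralizer ({y} : Set G) := by
    rw [Subgroup.mem_centralizer_singleton_iff]
    exact hz.symm
  obtain ⟨c, hc, hcz⟩ := conj_into_abelian hUab _ _ z rfl hUX hzX hcop
  refine ⟨(⟨y, hy⟩, ⟨_, hcz⟩), ?_⟩
  show ConjClasses.mk (y * (c * z * c⁻¹)) = ConjClasses.mk (y * z)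
  rw [ConjClasses.mk_eq_mk_iff_isConj]
  refine IsConj.symm (isConj_iff.mpr ⟨c, ?_⟩)
  have hcy : c * y = y * c := Subgroup.mem_centralizer_singleton_iff.mp hc
  calc c * (y * z) * c⁻¹ = (c * y) * z * c⁻¹ := by group
    _ = (y * c) * z * c⁻¹ := by rw [hcy]
    _ = y * (c * z * c⁻¹) := by group

/-- The covering inequality. -/
theorem count_core (p : ℕ) [hp : Fact p.Prime] (s : Finset ℕ) (U P₀ P : Subgroup G)
    (hPp : ¬ p ∣ P.index) (hP₀p : IsPGroup p P₀)
    (hUab : ∀ a ∈ U, ∀ b ∈ U, a * b = b * a)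
    (hP₀C : P₀ ≤ Subgroup.centralizer (U : Set G)) (hP₀s : ¬ p ∣ P₀.relIndex (Subgroup.centralizer (U : Set G)))
    (hUhall : ∀ w : G, (∀ r : ℕ, r.Prime → r ∣ orderOf w → r ∈ s) → (orderOf w).Coprime U.index)
    (Q : Finset G) (hQ : ∀ x ∈ P, x ∉ P₀ → ∃ y ∈ Q, IsConj x y) (B : ℕ)
    (hB : ∀ y : G, (∀ g : G, ¬ (U.map (MulAut.conj g).toMonoidHom ≤ Subgroup.centralizer ({y} : Set G))) →
      Nat.card (PiClassSet s (Subgroup.centralizer ({y} : Set G))) ≤ B) :
    Nat.card (PiClassSet (insert p s) G) ≤ (AA P₀ U).ncard + Q.card * B := by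
  classical
  let S : Set (ConjClasses G) := {c | ∀ x ∈ c.carrier, ∀ r : ℕ, r.Prime → r ∣ orderOf x → r ∈ insert p s}
  have hcard : Nat.card (PiClassSet (insert p s) G) = S.ncard := by
    rw [← Nat.card_coe_set_eq]; rfl
  rw [hcard]
  let Q' : Finset G := Q.filter (fun y => ∀ g : G, ¬ (U.map (MulAut.conj g).toMonoidHom ≤ Subgroup.centralizer ({y} : Set G)))
  have hcover : (S \ AA P₀ U).ncard ≤ Q'.card * B := by
    refine ncard_le_of_cover _ Q' s B (fun y hy => hB y (Finset.mem_filter.mp hy).2) ?_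
    rintro c ⟨hcS, hcA⟩
    obtain ⟨x, rfl⟩ := ConjClasses.exists_rep c
    obtain ⟨y, z, rfl, hyz, ⟨k, hk⟩, hz⟩ := exists_parts p hp.out s x (hcS x ConjClasses.mem_carrier_mk)
    -- conjugate `y` into `P`
    have hordg : ∀ (g w : G), orderOf (g * w * g⁻¹) = orderOf w := by
      intro g w
      simpa [MulAut.conj_apply] using MulEquiv.orderOf_eq (MulAut.conj g) w
    have hconjmk : ∀ (g a b : G), ConjClasses.mk (a * b) = ConjClasses.mk ((g * a * g⁻¹) * (g * b * g⁻¹)) := by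
      intro g a b
      rw [ConjClasses.mk_eq_mk_iff_isConj]
      exact isConj_iff.mpr ⟨g, by group⟩
    have hcommg : ∀ (g a b : G), a * b = b * a → (g * a * g⁻¹) * (g * b * g⁻¹) = (g * b * g⁻¹) * (g * a * g⁻¹) := by
      intro g a b hab
      calc (g * a * g⁻¹) * (g * b * g⁻¹) = g * (a * b) * g⁻¹ := by group
        _ = g * (b * a) * g⁻¹ := by rw [hab]
        _ = _ := by group
    -- a conjugate of `y` in `P₀` gives a contradiction
    have hnoP₀ : ∀ g : G, g * y * g⁻¹ ∉ P₀ := by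
      intro g hg
      apply hcA
      rw [hconjmk g y z]
      refine mem_AA_of P₀ U hUab hP₀C hg (hcommg g y z hyz) ?_
      rw [hordg]
      exact hUhall z hz
    have hpow : orderOf (1 * y * (1:G)⁻¹) = p ^ k := by simpa using hk
    obtain ⟨g₁, -, hg₁⟩ := conj_into (X := ⊤) (U := P) le_top (Subgroup.mem_top y) hk (by
      rw [Subgroup.relIndex_top_right]; exact hPp)
    have hy₁ := hnoP₀ g₁
    obtain ⟨y₂, hy₂, hc₂⟩ := hQ _ hg₁ hy₁
    obtain ⟨g₂, hg₂⟩ := isConj_iff.mp hc₂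
    have hy₂e : y₂ = (g₂ * g₁) * y * (g₂ * g₁)⁻¹ := by rw [← hg₂]; group
    set g := g₂ * g₁ with hg
    have hmem : g * z * g⁻¹ ∈ Subgroup.centralizer ({y₂} : Set G) := by
      rw [Subgroup.mem_centralizer_singleton_iff, hy₂e]
      exact (hcommg g y z hyz).symm
    refine ⟨y₂, Finset.mem_filter.mpr ⟨hy₂, ?_⟩, ⟨_, hmem⟩, ?_, ?_⟩
    · intro h hle
      -- a conjugate of `y₂` centralizes `U`
      have hy₃ : h⁻¹ * y₂ * h ∈ Subgroup.centralizer (U : Set G) := by
        rw [Subgroup.mem_centralizer_iff]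
        intro u hu
        have h1 : h * u * h⁻¹ ∈ Subgroup.centralizer ({y₂} : Set G) := hle ⟨u, hu, rfl⟩
        rw [Subgroup.mem_centralizer_singleton_iff] at h1
        have h2 : u * (h⁻¹ * y₂ * h) = h⁻¹ * (h * u * h⁻¹ * y₂) * h := by group
        rw [h2, h1]
        group
      have hord3 : orderOf (h⁻¹ * y₂ * h) = p ^ k := by
        have := hordg h⁻¹ y₂
        rw [inv_inv] at this
        rw [this, hy₂e, hordg, hk]
      obtain ⟨t, -, ht⟩ := conj_into hP₀C hy₃ hord3 hP₀s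
      apply hnoP₀ (t * h⁻¹ * g)
      have e : t * h⁻¹ * g * y * (t * h⁻¹ * g)⁻¹ = t * (h⁻¹ * y₂ * h) * t⁻¹ := by
        rw [hy₂e]; group
      rw [e]
      exact ht
    · intro r hr hd
      apply hz r hr
      have h1 : orderOf (g * z * g⁻¹) = orderOf z := hordg g z
      have h2 : r ∣ orderOf (g * z * g⁻¹) := hd
      rwa [h1] at h2
    · show ConjClasses.mk (y₂ * (g * z * g⁻¹)) = ConjClasses.mk (y * z)
      rw [hy₂e]
      exact (hconjmk g y z).symm
  have hsub : S ⊆ AA P₀ U ∪ (S \ AA P₀ U) := by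
    intro c hc
    by_cases h : c ∈ AA P₀ U
    · exact Or.inl h
    · exact Or.inr ⟨hc, h⟩
  have h1 := Set.ncard_le_ncard hsub (Set.toFinite _)
  have h2 := Set.ncard_union_le (AA P₀ U) (S \ AA P₀ U)
  have h3 : Q'.card ≤ Q.card := Finset.card_filter_le _ _
  have h4 : Q'.card * B ≤ Q.card * B := Nat.mul_le_mul_right _ h3
  omega

end Cfsg.Agent.Lib.KPiCount
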