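import Mathlib
import Cfsg.Agent.Lib.KPi
import Cfsg.Agent.Lib.Glauberman2
import Cfsg.Agent.Lib.ExtraGlue

/-!
Counting classes of `π`-elements, part three: if an abelian Hall subgroup `U` (with large primes)
has `N(U) = C(U)` and `C(U)` contains a `p`-subgroup of index at most `p` in a Sylow, then `C(U)`
contains a Sylow `p`-subgroup.
-/

set_option autoImplicit false

namespace Cfsg.Agent.Lib.KPiFix

open Subgroup Cfsg.Agent.Lib.KPi

universe u

/-- A noncentral element has a noncentral power of prime power order. -/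
theorem exists_prime_pow_noncentral {G : Type u} [Group G] [Finite G] :
    ∀ (n : ℕ) (u : G), orderOf u = n → u ∉ center G →
      ∃ (s k : ℕ) (u' : G), s.Prime ∧ orderOf u' = s ^ k ∧ u' ∈ zpowers u ∧ u' ∉ center G := by
  intro n
  induction n using Nat.strong_induction_on with
  | _ n ih =>
    intro u hn hu
    have h1 : orderOf u ≠ 1 := by
      intro h
      apply hu
      rw [orderOf_eq_one_iff.mp h]
      exact one_mem _
    set q := (orderOf u).minFac with hq
    have hqp : q.Prime := Nat.minFac_prime h1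
    have hqd : q ∣ orderOf u := Nat.minFac_dvd _
    obtain ⟨y, z, hw', -, ⟨k, hk⟩, hqz, hdz, hyz, hzz⟩ :=
      Cfsg.Agent.S4106.primary_decomp q hqp u
    by_cases hy : y ∈ center G
    · have hz : z ∉ center G := by
        intro hz
        apply hu
        rw [hw']
        exact mul_mem hy hz
      have hlt : orderOf z < n := by
        rw [← hn]
        refine lt_of_le_of_ne (Nat.le_of_dvd (orderOf_pos _) hdz) ?_
        intro h
        exact hqz (h ▸ hqd)
      obtain ⟨s, k', u', h2, h3, h4, h5⟩ := ih _ hlt z rfl hz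
      exact ⟨s, k', u', h2, h3, (zpowers_le.mpr hzz) h4, h5⟩
    · exact ⟨q, k, y, hqp, hk, hyz, hy⟩

variable {G : Type u} [Group G] [Finite G]

theorem pow_eq_one_of_coprime {x : G} {a b : ℕ} (h1 : x ^ a = 1) (h2 : x ^ b = 1) (hc : a.Coprime b) : x = 1 := by
  have h3 : orderOf x ∣ a := orderOf_dvd_of_pow_eq_one h1
  have h4 : orderOf x ∣ b := orderOf_dvd_of_pow_eq_one h2
  exact orderOf_eq_one_iff.mp (Nat.eq_one_of_dvd_coprimes hc h3 h4)

/-- The main step, for a Sylow subgroup `S` of `U`. -/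
theorem fix_step {U S P₀ : Subgroup G} (hUab : ∀ a ∈ U, ∀ b ∈ U, a * b = b * a)
    (hcop : (Nat.card U).Coprime U.index) {p s : ℕ} [hpf : Fact p.Prime] [hsf : Fact s.Prime] (hps : p < s)
    (hSU : S ≤ U) (hSp : IsPGroup s S) (hSi : ¬ s ∣ S.index)
    (hN : normalizer (U : Set G) ≤ centralizer (U : Set G))
    (hP₀ : IsPGroup p P₀) (hP₀C : P₀ ≤ centralizer (U : Set G)) (hidx : ¬ p ^ 2 ∣ P₀.index) :
    ∃ T : Subgroup G, IsPGroup p T ∧ ¬ p ∣ T.index ∧ T ≤ centralizer (S : Set G) := by
  classical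
  have hp := hpf.out
  have hs := hsf.out
  set C := centralizer (S : Set G) with hC
  have hUC : U ≤ C := by
    intro u hu
    rw [hC, mem_centralizer_iff]
    intro x hx
    exact hUab x (hSU hx) u hu
  have hCU : centralizer (U : Set G) ≤ C := centralizer_le hSU
  -- step 1 : `N(S) = C(S)`
  have hNS : normalizer (S : Set G) ≤ centralizer (S : Set G) := by
    intro g hg
    have hconjS : ∀ x ∈ S, g⁻¹ * x * g ∈ S := by
      intro x hx
      have := (mem_normalizer_iff.mp hg (g⁻¹ * x * g)).mp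
      have h2 := (mem_normalizer_iff.mp hg (g⁻¹ * x * g)).mpr (by simpa [mul_assoc] using hx)
      exact h2
    let U' := U.map (MulAut.conj g).toMonoidHom
    have hU'C : U' ≤ C := by
      rintro _ ⟨u, hu, rfl⟩
      rw [hC, mem_centralizer_iff]
      intro x hx
      have h3 : u * (g⁻¹ * x * g) = (g⁻¹ * x * g) * u := hUab _ hu _ (hSU (hconjS x hx))
      show x * (g * u * g⁻¹) = g * u * g⁻¹ * x
      calc x * (g * u * g⁻¹) = g * ((g⁻¹ * x * g) * u) * g⁻¹ := by group
        _ = g * (u * (g⁻¹ * x * g)) * g⁻¹ := by rw [h3]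
        _ = _ := by group
    have hU'ab : ∀ a ∈ U', ∀ b ∈ U', a * b = b * a := by
      rintro _ ⟨a, ha, rfl⟩ _ ⟨b, hb, rfl⟩
      show g * a * g⁻¹ * (g * b * g⁻¹) = g * b * g⁻¹ * (g * a * g⁻¹)
      calc g * a * g⁻¹ * (g * b * g⁻¹) = g * (a * b) * g⁻¹ := by group
        _ = g * (b * a) * g⁻¹ := by rw [hUab a ha b hb]
        _ = _ := by group
    have hcard : Nat.card U = Nat.card U' :=
      (Subgroup.card_map_of_injective (MulAut.conj g).injective).symm
    have hm : Nat.card C = Nat.card U * U.relIndex C := by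
      have h1 : (U.subgroupOf C).index * Nat.card (U.subgroupOf C) = Nat.card C := Subgroup.index_mul_card _
      rw [Nat.card_congr (Subgroup.subgroupOfEquivOfLe hUC).toEquiv] at h1
      rw [← h1]
      exact Nat.mul_comm _ _
    have hcop' : (Nat.card U).Coprime (U.relIndex C) :=
      Nat.Coprime.coprime_dvd_right (relIndex_dvd_index_of_le hUC) hcop
    obtain ⟨c, hc, hcU⟩ := Cfsg.Agent.Lib.AbelianHall.abelian_hall_conj _ C U U' rfl hUC hU'C hUab hU'ab hcard _ hm hcop'
    have hcg : c⁻¹ * g ∈ normalizer (U : Set G) := by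
      apply Cfsg.Agent.Lib.ExtraGlue.mem_normalizer_of_forall'
      intro x hx
      have h4 : g * x * g⁻¹ ∈ U.map (MulAut.conj c).toMonoidHom := by
        rw [hcU]
        exact ⟨x, hx, rfl⟩
      obtain ⟨w, hw, hwe⟩ := h4
      have h5 : c * w * c⁻¹ = g * x * g⁻¹ := hwe
      have h6 : c⁻¹ * g * x * (c⁻¹ * g)⁻¹ = w := by
        calc c⁻¹ * g * x * (c⁻¹ * g)⁻¹ = c⁻¹ * (g * x * g⁻¹) * c := by group
          _ = c⁻¹ * (c * w * c⁻¹) * c := by rw [h5]
          _ = w := by group
      rw [h6]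
      exact hw
    have h7 : g = c * (c⁻¹ * g) := by group
    rw [h7]
    exact C.mul_mem hc (hCU (hN hcg))
  -- step 2 : Burnside
  let S' : Sylow s G := hSp.toSylow hSi
  have hS'coe : (S' : Subgroup G) = S := rfl
  have hNS' : normalizer ((S' : Subgroup G) : Set G) ≤ centralizer ((S' : Subgroup G) : Set G) := hNS
  let φ := MonoidHom.transferSylow S' hNS'
  have hcompl := MonoidHom.ker_transferSylow_isComplement' S' hNS'
  set K := φ.ker with hK
  have hKn : K.Normal := MonoidHom.normal_ker _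
  have hKidx : K.index = Nat.card S := hcompl.symm.index_eq_card
  have hKs : ¬ s ∣ Nat.card K := MonoidHom.not_dvd_card_ker_transferSylow S' hNS'
  obtain ⟨i, hi⟩ := IsPGroup.iff_card.mp hSp
  have hpsne : p ≠ s := hps.ne
  have hcopps : p.Coprime s := (Nat.coprime_primes hp hs).mpr hpsne
  -- step 3
  have hP₀K : P₀ ≤ K := by
    intro x hx
    obtain ⟨n, hn⟩ := hP₀ ⟨x, hx⟩
    have hn' : x ^ (p ^ n) = 1 := by
      have := congrArg Subtype.val hn
      simpa using this
    obtain ⟨m, hm⟩ := hSp (φ x)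
    rw [hK, MonoidHom.mem_ker]
    refine pow_eq_one_of_coprime (a := p ^ n) (b := s ^ m) ?_ hm (Nat.Coprime.pow _ _ hcopps)
    rw [← map_pow, hn', map_one]
  have hSsolv : Group.IsSolvable S := by
    haveI : Group.IsNilpotent S := hSp.isNilpotent
    infer_instance
  have hSC : ∀ a ∈ S, ∀ y ∈ P₀, a * y * a⁻¹ = y := by
    intro a ha y hy
    have := mem_centralizer_iff.mp (hP₀C hy) a (hSU ha)
    rw [this]
    group
  have hSN : S ≤ normalizer (P₀ : Set G) := by
    intro a ha
    apply Cfsg.Agent.Lib.ExtraGlue.mem_normalizer_of_forall'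
    intro x hx
    rwa [hSC a ha x hx]
  have hcopSK : (Nat.card S).Coprime (Nat.card K) := by
    rw [hi]
    exact Nat.Coprime.pow_left _ ((Nat.Prime.coprime_iff_not_dvd hs).mpr hKs)
  have hSKn : S ≤ normalizer (K : Set G) := by
    rw [Subgroup.normalizer_eq_top_iff.mpr hKn]
    exact le_top
  -- step 4
  obtain ⟨T₀, hT₀, hT₀N⟩ := Cfsg.Agent.Lib.Glauberman2.exists_invariant_sylow_containing hSKn hcopSK (Or.inl hSsolv) p hP₀K hP₀ hSN
  set T := (T₀ : Subgroup K).map K.subtype with hT
  have hTp : IsPGroup p T := T₀.2.map _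
  have hTidx : ¬ p ∣ T.index := by
    rw [hT, index_map_subtype, hKidx, hi]
    intro h
    rcases (Nat.Prime.dvd_mul hp).mp h with h1 | h1
    · exact T₀.not_dvd_index h1
    · have := (Nat.prime_dvd_prime_iff_eq hp hs).mp (hp.dvd_of_dvd_pow h1)
      exact hpsne this
  refine ⟨T, hTp, hTidx, ?_⟩
  -- step 6: `S` acts on `T`
  by_contra hTC
  letI act : MulAction ↥S ↥T :=
    { smul := fun a x => ⟨(a : G) * x * (a : G)⁻¹, (mem_normalizer_iff.mp (hT₀N a.2) x).mp x.2⟩
      one_smul := by
        intro x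
        apply Subtype.ext
        show ((1 : S) : G) * x * ((1 : S) : G)⁻¹ = x
        simp
      mul_smul := by
        intro a b x
        apply Subtype.ext
        show ((a * b : S) : G) * x * ((a * b : S) : G)⁻¹ = a * (b * x * (b : G)⁻¹) * (a : G)⁻¹
        simp only [Subgroup.coe_mul]
        group }
  have hmod := hSp.card_modEq_card_fixedPoints ↥T
  have hfix : Nat.card (MulAction.fixedPoints ↥S ↥T) = Nat.card ↥(T ⊓ C) := by
    refine Nat.card_congr ⟨fun x => ⟨x.1, x.1.2, ?_⟩, fun x => ⟨⟨x.1, x.2.1⟩, ?_⟩, ?_, ?_⟩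
    · show ((x.1 : T) : G) ∈ C
      rw [hC, mem_centralizer_iff]
      intro a ha
      have h1 : ((⟨a, ha⟩ : S) • x.1 : T) = x.1 := x.2 ⟨a, ha⟩
      have h2 : a * (x.1 : G) * a⁻¹ = x.1 := congrArg Subtype.val h1
      exact mul_inv_eq_iff_eq_mul.mp h2
    · rintro a
      apply Subtype.ext
      show (a : G) * x.1 * (a : G)⁻¹ = x.1
      have h1 := mem_centralizer_iff.mp x.2.2 a a.2
      rw [h1]
      group
    · intro x; rfl
    · intro x; rfl
  rw [hfix] at hmod
  -- arithmetic: `|T| = p |T ∩ C|`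
  have hP₀le : P₀ ≤ T ⊓ C := le_inf hT₀ (hP₀C.trans hCU)
  have hle : T ⊓ C ≤ T := inf_le_left
  have hlt : T ⊓ C < T := lt_of_le_of_ne hle (fun h => hTC (inf_eq_left.mp h))
  have hr1 : (T ⊓ C).relIndex T * Nat.card ↥(T ⊓ C) = Nat.card T := by
    have h1 : ((T ⊓ C).subgroupOf T).index * Nat.card ((T ⊓ C).subgroupOf T) = Nat.card T := Subgroup.index_mul_card _
    rwa [Nat.card_congr (Subgroup.subgroupOfEquivOfLe hle).toEquiv] at h1
  have hr2 : (T ⊓ C).relIndex T ≠ 1 := by
    intro h
    have : T ≤ T ⊓ C := by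
      rw [Subgroup.relIndex_eq_one] at h
      exact h
    exact absurd (le_antisymm hle this) hlt.ne
  obtain ⟨e, he⟩ := IsPGroup.iff_card.mp hTp
  have hr3 : (T ⊓ C).relIndex T ∣ p ^ e := by
    rw [← he, ← hr1]
    exact dvd_mul_right _ _
  obtain ⟨d, -, hd⟩ := (Nat.dvd_prime_pow hp).mp hr3
  have hd0 : d ≠ 0 := by
    rintro rfl
    exact hr2 (by simpa using hd)
  have hd1 : d = 1 := by
    by_contra h
    apply hidx
    have h2 : p ^ 2 ∣ (T ⊓ C).relIndex T := by
      rw [hd]
      exact pow_dvd_pow p (by omega)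
    have h3 : (T ⊓ C).relIndex T ∣ P₀.relIndex T := by
      have := Subgroup.relIndex_mul_relIndex P₀ (T ⊓ C) T hP₀le hle
      rw [← this]
      exact dvd_mul_left _ _
    have h4 : P₀.relIndex T ∣ P₀.index := relIndex_dvd_index_of_le hT₀
    exact h2.trans (h3.trans h4)
  subst hd1
  rw [pow_one] at hd
  rw [hd] at hr1
  -- `p c ≡ c (mod s)`
  have hcs : ¬ s ∣ Nat.card ↥(T ⊓ C) := by
    intro h
    have h1 : s ∣ p ^ e := by
      rw [← he, ← hr1]
      exact h.trans (dvd_mul_left _ _)
    exact hpsne ((Nat.prime_dvd_prime_iff_eq hs hp).mp (hs.dvd_of_dvd_pow h1)).symm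
  rw [← hr1] at hmod
  have h5 : s ∣ (p - 1) * Nat.card ↥(T ⊓ C) := by
    have h6 := (Nat.modEq_iff_dvd' (by nlinarith [hp.two_le, Nat.card_pos (α := ↥(T ⊓ C))] : Nat.card ↥(T ⊓ C) ≤ p * Nat.card ↥(T ⊓ C))).mp hmod.symm
    have h7 : p * Nat.card ↥(T ⊓ C) - Nat.card ↥(T ⊓ C) = (p - 1) * Nat.card ↥(T ⊓ C) := by
      rw [Nat.sub_mul, one_mul]
    rwa [h7] at h6
  have h8 : s ∣ p - 1 := (Nat.Coprime.dvd_of_dvd_mul_right ((Nat.Prime.coprime_iff_not_dvd hs).mpr hcs) h5)
  have h9 := Nat.le_of_dvd (by have := hp.two_le; omega) h8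
  omega

/-- **`C(U)` contains a Sylow `p`-subgroup.** -/
theorem fix_sylow {p : ℕ} [hpf : Fact p.Prime] : ∀ (n : ℕ) (G : Type u) [Group G] [Finite G], Nat.card G = n →
    ∀ (U P₀ : Subgroup G), (∀ a ∈ U, ∀ b ∈ U, a * b = b * a) → (Nat.card U).Coprime U.index →
      (∀ r : ℕ, r.Prime → r ∣ Nat.card U → p < r) →
      normalizer (U : Set G) ≤ centralizer (U : Set G) → IsPGroup p P₀ →
      P₀ ≤ centralizer (U : Set G) → ¬ p ^ 2 ∣ P₀.index →
      ∃ T : Subgroup G, IsPGroup p T ∧ ¬ p ∣ T.index ∧ T ≤ centralizer (U : Set G) := by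
  intro n
  induction n using Nat.strong_induction_on with
  | _ n ih =>
    intro G _ _ hn U P₀ hUab hcop hpr hN hP₀ hP₀C hidx
    classical
    by_cases hcen : U ≤ center G
    · obtain ⟨P⟩ : Nonempty (Sylow p G) := inferInstance
      refine ⟨P, P.2, P.not_dvd_index, ?_⟩
      intro x _
      rw [mem_centralizer_iff]
      intro u hu
      exact (mem_center_iff.mp (hcen hu) x).symm
    -- a noncentral element of prime power order in `U`
    obtain ⟨u, hu, hnc⟩ := not_forall₂.mp (fun h => hcen (fun x hx => h x hx)) 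
    obtain ⟨s, k, u', hs, hk, hu'z, hu'c⟩ := exists_prime_pow_noncentral _ u rfl hnc
    haveI hsf : Fact s.Prime := ⟨hs⟩
    have hu'U : u' ∈ U := (zpowers_le.mpr hu) hu'z
    -- the Sylow `s`-subgroup of `U` through `u'`
    have hk0 : k ≠ 0 := by
      rintro rfl
      rw [pow_zero, orderOf_eq_one_iff] at hk
      exact hu'c (hk ▸ one_mem _)
    have hsdU : s ∣ Nat.card U := by
      have h1 : orderOf (⟨u', hu'U⟩ : U) ∣ Nat.card U := orderOf_dvd_natCard _
      rw [Subgroup.orderOf_mk, hk] at h1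
      exact (dvd_pow_self s hk0).trans h1
    have hzp : IsPGroup s (zpowers (⟨u', hu'U⟩ : U)) := by
      rw [IsPGroup.iff_card, Nat.card_zpowers, Subgroup.orderOf_mk, hk]
      exact ⟨k, rfl⟩
    obtain ⟨S₀, hS₀⟩ := hzp.exists_le_sylow
    set S := (S₀ : Subgroup U).map U.subtype with hS
    have hSU : S ≤ U := map_subtype_le _
    have hSp : IsPGroup s S := S₀.2.map _
    have hSi : ¬ s ∣ S.index := by
      rw [hS, index_map_subtype]
      intro h
      rcases (Nat.Prime.dvd_mul hs).mp h with h1 | h1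
      · exact S₀.not_dvd_index h1
      · exact hs.one_lt.ne' (Nat.eq_one_of_dvd_coprimes hcop hsdU h1)
    have hu'S : u' ∈ S := ⟨⟨u', hu'U⟩, hS₀ (mem_zpowers _), rfl⟩
    have hps : p < s := hpr s hs hsdU
    obtain ⟨T, hTp, hTi, hTC⟩ := fix_step hUab hcop hps hSU hSp hSi hN hP₀ hP₀C hidx
    -- pass to `X = C(S)`
    set X := centralizer (S : Set G) with hX
    have hXlt : Nat.card X < n := by
      rw [← hn]
      refine lt_of_le_of_ne (Subgroup.card_le_card_group X) (fun h1 => ?_)
      have h := Subgroup.eq_top_of_card_eq X h1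
      apply hu'c
      rw [mem_center_iff]
      intro g
      have hg : g ∈ X := by rw [h]; trivial
      exact (mem_centralizer_iff.mp hg u' hu'S).symm
    have hUX : U ≤ X := by
      intro a ha
      rw [hX, mem_centralizer_iff]
      intro x hx
      exact hUab x (hSU hx) a ha
    have hCX : centralizer (U : Set G) ≤ X := centralizer_le hSU
    have hcardU : Nat.card (U.subgroupOf X) = Nat.card U :=
      Nat.card_congr (Subgroup.subgroupOfEquivOfLe hUX).toEquiv
    have hmemU : ∀ (x : X), x ∈ U.subgroupOf X ↔ (x : G) ∈ U := fun x => Subgroup.mem_subgroupOf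
    obtain ⟨R, hRp, hRi, hRC⟩ := ih _ hXlt X rfl (U.subgroupOf X) (P₀.subgroupOf X)
      (by
        intro a ha b hb
        apply Subtype.ext
        exact hUab _ ((hmemU a).mp ha) _ ((hmemU b).mp hb))
      (by
        rw [hcardU]
        exact Nat.Coprime.coprime_dvd_right (relIndex_dvd_index_of_le hUX) hcop)
      (by
        intro r hr hd
        rw [hcardU] at hd
        exact hpr r hr hd)
      (by
        intro x hx
        have h1 : (x : G) ∈ normalizer (U : Set G) := by
          apply Cfsg.Agent.Lib.ExtraGlue.mem_normalizer_of_forall'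
          intro y hy
          have h2 := (mem_normalizer_iff.mp hx ⟨y, hUX hy⟩).mp ((hmemU _).mpr hy)
          exact (hmemU _).mp h2
        have h3 := hN h1
        rw [mem_centralizer_iff]
        intro y hy
        apply Subtype.ext
        exact mem_centralizer_iff.mp h3 y ((hmemU y).mp hy))
      hP₀.comap_subtype
      (by
        intro x hx
        rw [mem_centralizer_iff]
        intro y hy
        apply Subtype.ext
        exact mem_centralizer_iff.mp (hP₀C (Subgroup.mem_subgroupOf.mp hx)) y ((hmemU y).mp hy))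
      (by
        intro h
        exact hidx (h.trans (relIndex_dvd_index_of_le (hP₀C.trans hCX))))
    refine ⟨R.map X.subtype, hRp.map _, ?_, ?_⟩
    · rw [index_map_subtype]
      intro h
      rcases (Nat.Prime.dvd_mul hpf.out).mp h with h1 | h1
      · exact hRi h1
      · exact hTi (h1.trans (index_dvd_of_le hTC))
    · rintro _ ⟨x, hx, rfl⟩
      rw [mem_centralizer_iff]
      intro y hy
      have h1 := mem_centralizer_iff.mp (hRC hx) ⟨y, hUX hy⟩ ((hmemU _).mpr hy)
      exact congrArg Subtype.val h1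

end Cfsg.Agent.Lib.KPiFix
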