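import Mathlib

/-!
# Quotients of the normalizer of a subgroup

For a subgroup `V` of `X`, the quotient `N_X(V)/V` with the maps `bar` (image of a subgroup
of `X`) and `tilde` (preimage of a subgroup of the quotient, in `X`).
-/

set_option autoImplicit false

namespace Cfsg.Agent.Lib.NormQuot

open Subgroup

variable {X : Type*} [Group X] (V : Subgroup X)

/-- The quotient `N_X(V)/V`. -/
abbrev Q : Type _ := ↥(normalizer (V : Set X)) ⧸ (V.subgroupOf (normalizer (V : Set X)))

instance normal_aux : (V.subgroupOf (normalizer (V : Set X))).Normal :=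
  normal_subgroupOf_of_le_normalizer le_rfl

/-- The projection `N_X(V) → N_X(V)/V`. -/
abbrev f : ↥(normalizer (V : Set X)) →* Q V :=
  QuotientGroup.mk' (V.subgroupOf (normalizer (V : Set X)))

/-- The image of a subgroup in `N_X(V)/V`. -/
def bar (T : Subgroup X) : Subgroup (Q V) := (T.subgroupOf (normalizer (V : Set X))).map (f V)

/-- The preimage in `X` of a subgroup of `N_X(V)/V`. -/
def tilde (S : Subgroup (Q V)) : Subgroup X := (S.comap (f V)).map (normalizer (V : Set X)).subtype

variable {V}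

theorem f_surjective : Function.Surjective (f V) := QuotientGroup.mk'_surjective _

theorem f_eq_one_iff {x : ↥(normalizer (V : Set X))} : f V x = 1 ↔ (x : X) ∈ V := by
  rw [← MonoidHom.mem_ker, QuotientGroup.ker_mk', mem_subgroupOf]

theorem mem_bar {T : Subgroup X} {x : ↥(normalizer (V : Set X))} (hx : (x : X) ∈ T) : f V x ∈ bar V T :=
  ⟨x, hx, rfl⟩

theorem tilde_le_normalizer (S : Subgroup (Q V)) : tilde V S ≤ normalizer (V : Set X) :=
  map_subtype_le _

theorem mem_tilde {S : Subgroup (Q V)} {x : X} :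
    x ∈ tilde V S ↔ ∃ h : x ∈ normalizer (V : Set X), f V ⟨x, h⟩ ∈ S := by
  constructor
  · rintro ⟨⟨y, hy⟩, hm, rfl⟩
    exact ⟨hy, hm⟩
  · rintro ⟨h, hm⟩
    exact ⟨⟨x, h⟩, hm, rfl⟩

theorem le_tilde_iff {T : Subgroup X} {S : Subgroup (Q V)} (hT : T ≤ normalizer (V : Set X)) :
    T ≤ tilde V S ↔ bar V T ≤ S := by
  constructor
  · rintro h _ ⟨x, hx, rfl⟩
    obtain ⟨_, hm⟩ := mem_tilde.mp (h hx)
    exact hm
  · intro h x hx
    exact mem_tilde.mpr ⟨hT hx, h (mem_bar hx)⟩

theorem le_tilde (S : Subgroup (Q V)) : V ≤ tilde V S := by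
  intro x hx
  have hxN : x ∈ normalizer (V : Set X) := le_normalizer hx
  refine mem_tilde.mpr ⟨hxN, ?_⟩
  rw [f_eq_one_iff.mpr hx]
  exact S.one_mem

theorem bar_tilde (S : Subgroup (Q V)) : bar V (tilde V S) = S := by
  apply le_antisymm
  · exact (le_tilde_iff (tilde_le_normalizer S)).mp le_rfl
  · intro y hy
    obtain ⟨x, rfl⟩ := f_surjective y
    have h1 : (x : X) ∈ tilde V S := mem_tilde.mpr ⟨x.2, hy⟩
    exact mem_bar h1

theorem tilde_bar {T : Subgroup X} (hT : T ≤ normalizer (V : Set X)) (hVT : V ≤ T) :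
    tilde V (bar V T) = T := by
  apply le_antisymm
  · intro x hx
    obtain ⟨h, t, ht, hte⟩ := mem_tilde.mp hx
    have h1 : f V (t⁻¹ * ⟨x, h⟩) = 1 := by
      rw [map_mul, map_inv, hte, inv_mul_cancel]
    have h2 : (t⁻¹ * ⟨x, h⟩ : ↥(normalizer (V : Set X))).1 ∈ V := f_eq_one_iff.mp h1
    have h3 : (t : X)⁻¹ * x ∈ T := hVT h2
    have h4 : x = (t : X) * ((t : X)⁻¹ * x) := by group
    rw [h4]
    exact T.mul_mem ht h3
  · exact (le_tilde_iff hT).mpr le_rfl

theorem tilde_mono {S S' : Subgroup (Q V)} (h : S ≤ S') : tilde V S ≤ tilde V S' :=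
  Subgroup.map_mono (Subgroup.comap_mono h)

theorem bar_mono {T T' : Subgroup X} (h : T ≤ T') : bar V T ≤ bar V T' := by
  rintro _ ⟨x, hx, rfl⟩
  exact ⟨x, h hx, rfl⟩

section card

variable [Finite X]

omit [Finite X] in
theorem card_subgroupOf_eq {T : Subgroup X} (hT : T ≤ normalizer (V : Set X)) :
    Nat.card (T.subgroupOf (normalizer (V : Set X))) = Nat.card T :=
  Nat.card_congr (Subgroup.subgroupOfEquivOfLe hT).toEquiv

theorem card_tilde (S : Subgroup (Q V)) : Nat.card (tilde V S) = Nat.card S * Nat.card V := by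
  have h1 : Nat.card (tilde V S) = Nat.card (S.comap (f V)) :=
    Subgroup.card_map_of_injective (Subgroup.subtype_injective _)
  have h2 : Nat.card (S.comap (f V)) = Nat.card S * Nat.card (f V).ker := by
    have : Finite (Q V) := inferInstance
    have h3 : (S.comap (f V)).index = S.index :=
      Subgroup.index_comap_of_surjective S f_surjective
    have h4 := Subgroup.card_mul_index (S.comap (f V))
    have h5 := Subgroup.card_mul_index S
    have h6 := Subgroup.card_mul_index (f V).ker
    have h7 : (f V).ker.index = Nat.card (Q V) := by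
      rw [Subgroup.index_ker, (MonoidHom.range_eq_top.mpr f_surjective)]
      simp
    rw [h7] at h6
    have hpos : 0 < S.index := Nat.pos_of_ne_zero (Subgroup.index_ne_zero_of_finite)
    apply Nat.eq_of_mul_eq_mul_right hpos
    rw [← h3, h4, h3, mul_assoc, mul_comm (Nat.card (f V).ker), ← mul_assoc, h5, mul_comm, h6]
  rw [h1, h2, QuotientGroup.ker_mk', card_subgroupOf_eq (le_normalizer)]

theorem card_eq_of_ge {T : Subgroup X} (hT : T ≤ normalizer (V : Set X)) (hVT : V ≤ T) :
    Nat.card T = Nat.card (bar V T) * Nat.card V := by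
  have := card_tilde (bar V T)
  rwa [tilde_bar hT hVT] at this

theorem card_bar_dvd {T : Subgroup X} (hT : T ≤ normalizer (V : Set X)) :
    Nat.card (bar V T) ∣ Nat.card T := by
  have h1 : Nat.card (bar V T) ∣ Nat.card (T.subgroupOf (normalizer (V : Set X))) :=
    Subgroup.card_map_dvd _ _
  rwa [card_subgroupOf_eq hT] at h1

theorem relIndex_mul_card' {G : Type*} [Group G] [Finite G] {H T : Subgroup G} (h : H ≤ T) :
    H.relIndex T * Nat.card H = Nat.card T := by
  have h3 : (H.subgroupOf T).index * Nat.card (H.subgroupOf T) = Nat.card T :=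
    Subgroup.index_mul_card _
  rwa [Nat.card_congr (Subgroup.subgroupOfEquivOfLe h).toEquiv] at h3

/-- The relative index is unchanged by passing to the quotient. -/
theorem relIndex_tilde {S S' : Subgroup (Q V)} (h : S ≤ S') :
    (tilde V S).relIndex (tilde V S') = S.relIndex S' := by
  have hle : tilde V S ≤ tilde V S' := tilde_mono h
  have h1 := relIndex_mul_card' hle
  rw [card_tilde, card_tilde] at h1
  have h2 := relIndex_mul_card' h
  rw [← h2] at h1
  have hpos : 0 < Nat.card S * Nat.card V := Nat.mul_pos Nat.card_pos Nat.card_pos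
  apply Nat.eq_of_mul_eq_mul_right hpos
  rw [h1]
  ring

end card

/-- Normalization is inherited by images. -/
theorem bar_le_normalizer {T₁ T₂ : Subgroup X}
    (h : T₁ ≤ normalizer (T₂ : Set X)) : bar V T₁ ≤ normalizer (bar V T₂ : Set (Q V)) := by
  rintro _ ⟨x, hx, rfl⟩
  have h1 : x ∈ normalizer ((T₂.subgroupOf (normalizer (V : Set X))) : Set ↥(normalizer (V : Set X))) := by
    rw [mem_normalizer_iff]
    intro y
    have h2 := mem_normalizer_iff.mp (h hx) (y : X)
    simp only [mem_subgroupOf]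
    exact h2
  exact Subgroup.le_normalizer_map (f V) ⟨x, h1, rfl⟩

/-- Normalization is inherited by preimages. -/
theorem le_normalizer_tilde [Finite X] {T : Subgroup X} {S : Subgroup (Q V)}
    (hT : T ≤ normalizer (V : Set X)) (h : bar V T ≤ normalizer (S : Set (Q V))) :
    T ≤ normalizer (tilde V S : Set X) := by
  intro x hx
  have key : ∀ y ∈ tilde V S, x * y * x⁻¹ ∈ tilde V S := by
    intro y hy
    obtain ⟨hyN, hyS⟩ := mem_tilde.mp hy
    have hxN := hT hx
    refine mem_tilde.mpr ⟨mul_mem (mul_mem hxN hyN) (inv_mem hxN), ?_⟩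
    have h1 := mem_normalizer_iff.mp (h (mem_bar (x := ⟨x, hxN⟩) hx)) _ |>.mp hyS
    have h2 : f V ⟨x * y * x⁻¹, mul_mem (mul_mem hxN hyN) (inv_mem hxN)⟩ =
        f V ⟨x, hxN⟩ * f V ⟨y, hyN⟩ * (f V ⟨x, hxN⟩)⁻¹ := by
      rw [← map_inv, ← map_mul, ← map_mul]
      rfl
    rw [h2]
    exact h1
  have hinj : Function.Injective (fun d : tilde V S => (⟨x * d * x⁻¹, key d d.2⟩ : tilde V S)) := by
    intro a b hab
    have := congrArg Subtype.val hab
    simpa using this
  have hsurj := (Finite.injective_iff_surjective).1 hinj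
  rw [mem_normalizer_iff]
  intro y
  constructor
  · exact key y
  · intro hy
    obtain ⟨d, hd⟩ := hsurj ⟨_, hy⟩
    have h1 : x * (d : X) * x⁻¹ = x * y * x⁻¹ := congrArg Subtype.val hd
    have h2 : (d : X) = y := by
      have h3 : x * (d : X) = x * y := mul_right_cancel h1
      exact mul_left_cancel h3
    rw [← h2]
    exact d.2

end Cfsg.Agent.Lib.NormQuot
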