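import Mathlib
import Cfsg.Agent.Lib.KPiFix
import Cfsg.Agent.Lib.NormQuot
import Cfsg.Agent.Lib.ExtraBasics

/-!
Counting classes of `π`-elements, part four: when no `p`-element outside `P₀` normalizes `U`,
some element normalizing `P` and `P₀` acts nontrivially on `P/P₀` (`|P/P₀| = p`).
-/

set_option autoImplicit false

namespace Cfsg.Agent.Lib.KPiFus

open Subgroup Cfsg.Agent.Lib.KPi Cfsg.Agent.Lib.KPiFix Cfsg.Agent.Lib.NormQuot

universe u

variable {G : Type u} [Group G] [Finite G]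

theorem le_normalizer_of_card {p : ℕ} [hp : Fact p.Prime] {P₀ P : Subgroup G} (hle : P₀ ≤ P) (hPp : IsPGroup p P)
    (hcard : Nat.card P = p * Nat.card P₀) : P ≤ normalizer (P₀ : Set G) := by
  have hidx : (P₀.subgroupOf P).index = p := by
    have h1 : (P₀.subgroupOf P).index * Nat.card (P₀.subgroupOf P) = Nat.card P := Subgroup.index_mul_card _
    rw [Nat.card_congr (Subgroup.subgroupOfEquivOfLe hle).toEquiv, hcard] at h1
    exact Nat.eq_of_mul_eq_mul_right Nat.card_pos h1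
  have hn : (P₀.subgroupOf P).Normal := Cfsg.Agent.Lib.ExtraBasics.normal_of_index_eq_prime hPp _ hidx
  intro x hx
  apply Cfsg.Agent.Lib.ExtraGlue.mem_normalizer_of_forall'
  intro y hy
  have h2 := hn.conj_mem ⟨y, hle hy⟩ (Subgroup.mem_subgroupOf.mpr hy) ⟨x, hx⟩
  exact Subgroup.mem_subgroupOf.mp h2

theorem pow_card_mem (U : Subgroup G) {u : G} (hu : u ∈ U) : u ^ Nat.card U = 1 := by
  have h : (⟨u, hu⟩ : U) ^ Nat.card U = 1 := pow_card_eq_one'
  exact congrArg Subtype.val h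

/-- The fusion element. -/
theorem exists_fusing {p : ℕ} [hpf : Fact p.Prime] {U P₀ P : Subgroup G} (hUab : ∀ a ∈ U, ∀ b ∈ U, a * b = b * a)
    (hcop : (Nat.card U).Coprime U.index) (hpU : ¬ p ∣ Nat.card U)
    (hUP₀ : ∀ u ∈ U, ∀ y ∈ P₀, u * y = y * u) (hP₀p : IsPGroup p P₀) (hPp : IsPGroup p P)
    (hPi : ¬ p ∣ P.index) (hle : P₀ ≤ P) (hcard : Nat.card P = p * Nat.card P₀)
    (hnoL : ∀ L : Subgroup G, IsPGroup p L → P₀ ≤ L → L ≤ normalizer (U : Set G) → L = P₀) :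
    ∃ g ∈ normalizer (P : Set G), g ∈ normalizer (P₀ : Set G) ∧ ∃ x ∈ P, g * x * g⁻¹ * x⁻¹ ∉ P₀ := by
  classical
  by_contra hcon
  push Not at hcon
  have hp := hpf.out
  have hPN : P ≤ normalizer (P₀ : Set G) := le_normalizer_of_card hle hPp hcard
  have hbarcard : Nat.card (bar P₀ P) = p := by
    have h1 := card_eq_of_ge hPN hle
    rw [hcard] at h1
    exact (Nat.eq_of_mul_eq_mul_right Nat.card_pos h1).symm
  have htilde_top : tilde P₀ (⊤ : Subgroup (Q P₀)) = normalizer (P₀ : Set G) := by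
    ext x
    rw [mem_tilde]
    constructor
    · rintro ⟨h, -⟩; exact h
    · intro h; exact ⟨h, trivial⟩
  have hbarind : ∀ {T : Subgroup G}, T ≤ normalizer (P₀ : Set G) → P₀ ≤ T → (bar P₀ T).index = T.relIndex (normalizer (P₀ : Set G)) := by
    intro T hT hVT
    have h1 := relIndex_tilde (le_top : bar P₀ T ≤ ⊤)
    rw [tilde_bar hT hVT, htilde_top, Subgroup.relIndex_top_right] at h1
    exact h1.symm
  have hbarp : IsPGroup p (bar P₀ P) := by
    rw [IsPGroup.iff_card, hbarcard]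
    exact ⟨1, by simp⟩
  have hbari : ¬ p ∣ (bar P₀ P).index := by
    rw [hbarind hPN hle]
    exact fun h => hPi (h.trans (relIndex_dvd_index_of_le hPN))
  let S : Sylow p (Q P₀) := hbarp.toSylow hbari
  have hScoe : (S : Subgroup (Q P₀)) = bar P₀ P := rfl
  have hNC : normalizer ((S : Subgroup (Q P₀)) : Set (Q P₀)) ≤ centralizer ((S : Subgroup (Q P₀)) : Set (Q P₀)) := by
    intro w hw
    obtain ⟨g, rfl⟩ := f_surjective w
    rw [mem_centralizer_iff]
    rintro _ ⟨x, hx, rfl⟩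
    -- `g` normalizes `P`
    have hgP : (g : G) ∈ normalizer (P : Set G) := by
      apply Cfsg.Agent.Lib.ExtraGlue.mem_normalizer_of_forall'
      intro y hy
      have hyN := hPN hy
      have h1 : f P₀ ⟨y, hyN⟩ ∈ bar P₀ P := mem_bar hy
      have h2 := (mem_normalizer_iff.mp hw (f P₀ ⟨y, hyN⟩)).mp h1
      have h3 : f P₀ g * f P₀ ⟨y, hyN⟩ * (f P₀ g)⁻¹ = f P₀ (g * ⟨y, hyN⟩ * g⁻¹) := by
        rw [map_mul, map_mul, map_inv]
      rw [h3] at h2
      have h4 : (g * ⟨y, hyN⟩ * g⁻¹ : ↥(normalizer (P₀ : Set G))).1 ∈ tilde P₀ (bar P₀ P) :=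
        mem_tilde.mpr ⟨_, h2⟩
      rw [tilde_bar hPN hle] at h4
      exact h4
    have h5 := hcon g hgP g.2 x.1 hx
    have h6 : f P₀ (g * x * g⁻¹ * x⁻¹) = 1 := f_eq_one_iff.mpr h5
    rw [map_mul, map_mul, map_mul, map_inv, map_inv] at h6
    have h7 := mul_inv_eq_one.mp h6
    exact (mul_inv_eq_iff_eq_mul.mp h7).symm
  let φ := MonoidHom.transferSylow S hNC
  have hcompl := MonoidHom.ker_transferSylow_isComplement' S hNC
  set K := φ.ker with hK
  have hKn : K.Normal := MonoidHom.normal_ker _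
  -- `Ũ`
  have hUN : U ≤ normalizer (P₀ : Set G) := by
    intro u hu
    apply Cfsg.Agent.Lib.ExtraGlue.mem_normalizer_of_forall'
    intro y hy
    have : u * y * u⁻¹ = y := by rw [hUP₀ u hu y hy]; group
    rwa [this]
  set Ũ := bar P₀ U with hŨ
  set T := tilde P₀ Ũ with hT
  have hTN : T ≤ normalizer (P₀ : Set G) := tilde_le_normalizer _
  have hP₀T : P₀ ≤ T := le_tilde _
  have hUT : U ≤ T := (le_tilde_iff hUN).mpr le_rfl
  have hŨab : ∀ a ∈ Ũ, ∀ b ∈ Ũ, a * b = b * a := by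
    rintro _ ⟨a, ha, rfl⟩ _ ⟨b, hb, rfl⟩
    rw [← map_mul, ← map_mul]
    congr 1
    apply Subtype.ext
    exact hUab _ ha _ hb
  have hŨcard : Nat.card Ũ ∣ Nat.card U := card_bar_dvd hUN
  have hŨidx : Ũ.index ∣ U.index := by
    have h1 : Ũ.index = T.relIndex (normalizer (P₀ : Set G)) := by
      have h2 := hbarind hTN hP₀T
      rw [hT, bar_tilde] at h2
      exact h2
    rw [h1]
    exact (relIndex_dvd_index_of_le hTN).trans (index_dvd_of_le hUT)
  have hŨcop : (Nat.card Ũ).Coprime Ũ.index := Nat.Coprime.coprime_dvd_left hŨcard (Nat.Coprime.coprime_dvd_right hŨidx hcop)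
  -- `Ũ ≤ K`
  have hcardS : Nat.card S = p := hbarcard
  have hcopp : (Nat.card U).Coprime p := ((Nat.Prime.coprime_iff_not_dvd hp).mpr hpU).symm
  have hŨK : Ũ ≤ K := by
    rintro _ ⟨a, ha, rfl⟩
    rw [hK, MonoidHom.mem_ker]
    have h1 : (f P₀ a) ^ Nat.card U = 1 := by
      rw [← map_pow]
      have h2 : ((a : G)) ^ Nat.card U = 1 := pow_card_mem U ha
      have h3 : a ^ Nat.card U = 1 := Subtype.ext (by simpa using h2)
      rw [h3, map_one]
    refine pow_eq_one_of_coprime (a := Nat.card U) (b := p) ?_ ?_ hcopp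
    · rw [← map_pow, h1, map_one]
    · have := pow_card_eq_one' (x := φ (f P₀ a))
      rwa [hcardS] at this
  -- a nontrivial element of `S`
  have hScard2 : 1 < Nat.card S := by rw [hcardS]; exact hp.one_lt
  haveI : Nontrivial S := Finite.one_lt_card_iff_nontrivial.mp hScard2
  obtain ⟨t, ht⟩ := exists_ne (1 : S)
  have htK : (t : Q P₀) ∉ K := by
    intro h
    have h1 := Subgroup.disjoint_def.mp hcompl.disjoint h t.2
    exact ht (Subtype.ext h1)
  let Ũ' := Ũ.map (MulAut.conj (t : Q P₀)).toMonoidHom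
  have hŨ'K : Ũ' ≤ K := by
    rintro _ ⟨a, ha, rfl⟩
    exact hKn.conj_mem _ (hŨK ha) _
  have hŨ'ab : ∀ a ∈ Ũ', ∀ b ∈ Ũ', a * b = b * a := by
    rintro _ ⟨a, ha, rfl⟩ _ ⟨b, hb, rfl⟩
    rw [← map_mul, ← map_mul, hŨab a ha b hb]
  have hcard' : Nat.card Ũ = Nat.card Ũ' :=
    (Subgroup.card_map_of_injective (MulAut.conj (t : Q P₀)).injective).symm
  have hm : Nat.card K = Nat.card Ũ * Ũ.relIndex K := by
    have h1 : (Ũ.subgroupOf K).index * Nat.card (Ũ.subgroupOf K) = Nat.card K := Subgroup.index_mul_card _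
    rw [Nat.card_congr (Subgroup.subgroupOfEquivOfLe hŨK).toEquiv] at h1
    rw [← h1]
    exact Nat.mul_comm _ _
  have hcop' : (Nat.card Ũ).Coprime (Ũ.relIndex K) :=
    Nat.Coprime.coprime_dvd_right (relIndex_dvd_index_of_le hŨK) hŨcop
  obtain ⟨k, hk, hkU⟩ := Cfsg.Agent.Lib.AbelianHall.abelian_hall_conj _ K Ũ Ũ' rfl hŨK hŨ'K hŨab hŨ'ab hcard' _ hm hcop'
  -- `n = k⁻¹ t`
  let n : Q P₀ := k⁻¹ * t
  have hn : n ∈ normalizer (Ũ : Set (Q P₀)) := by
    apply Cfsg.Agent.Lib.ExtraGlue.mem_normalizer_of_forall'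
    intro x hx
    have h4 : (t : Q P₀) * x * (t : Q P₀)⁻¹ ∈ Ũ.map (MulAut.conj k).toMonoidHom := by
      rw [hkU]
      exact ⟨x, hx, rfl⟩
    obtain ⟨w, hw, hwe⟩ := h4
    have h5 : k * w * k⁻¹ = (t : Q P₀) * x * (t : Q P₀)⁻¹ := hwe
    have h6 : n * x * n⁻¹ = w := by
      show k⁻¹ * t * x * (k⁻¹ * t)⁻¹ = w
      calc k⁻¹ * t * x * (k⁻¹ * t)⁻¹ = k⁻¹ * ((t : Q P₀) * x * (t : Q P₀)⁻¹) * k := by group
        _ = k⁻¹ * (k * w * k⁻¹) * k := by rw [h5]
        _ = w := by group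
    rw [h6]
    exact hw
  have hφn : φ n ≠ 1 := by
    intro h
    have h1 : n ∈ K := by rw [hK, MonoidHom.mem_ker]; exact h
    have h2 : (t : Q P₀) = k * n := by
      show (t : Q P₀) = k * (k⁻¹ * t)
      group
    apply htK
    rw [h2]
    exact K.mul_mem hk h1
  have hord : p ∣ orderOf n := by
    have h1 : orderOf (φ n) ∣ Nat.card S := orderOf_dvd_natCard _
    rw [hcardS] at h1
    have h2 : orderOf (φ n) ≠ 1 := fun h => hφn (orderOf_eq_one_iff.mp h)
    have h3 : orderOf (φ n) = p := ((Nat.dvd_prime hp).mp h1).resolve_left h2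
    rw [← h3]
    exact orderOf_map_dvd φ n
  let n₁ := n ^ (orderOf n / p)
  have hn₁ : orderOf n₁ = p := orderOf_pow_orderOf_div (orderOf_pos n).ne' hord
  let L := tilde P₀ (zpowers n₁)
  have hLcard : Nat.card L = p * Nat.card P₀ := by
    rw [card_tilde, Nat.card_zpowers, hn₁]
  have hLp : IsPGroup p L := by
    obtain ⟨j, hj⟩ := IsPGroup.iff_card.mp hP₀p
    rw [IsPGroup.iff_card, hLcard, hj]
    exact ⟨j + 1, by ring⟩
  have hP₀L : P₀ ≤ L := le_tilde _
  have hLN : L ≤ normalizer (T : Set G) := by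
    apply le_normalizer_tilde (tilde_le_normalizer _)
    rw [bar_tilde, zpowers_le]
    exact pow_mem hn _
  have hLU : L ≤ normalizer (U : Set G) := by
    intro g hg
    apply Cfsg.Agent.Lib.ExtraGlue.mem_normalizer_of_forall'
    intro u hu
    have h1 : g * u * g⁻¹ ∈ T := (mem_normalizer_iff.mp (hLN hg) u).mp (hUT hu)
    obtain ⟨h2, u', hu', he⟩ := mem_tilde.mp h1
    -- `g u g⁻¹ = u' y`, with `y ∈ P₀`
    have hy : (u'.1)⁻¹ * (g * u * g⁻¹) ∈ P₀ := by
      have h3 : f P₀ (u'⁻¹ * ⟨g * u * g⁻¹, h2⟩) = 1 := by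
        rw [map_mul, map_inv, he, inv_mul_cancel]
      exact f_eq_one_iff.mp h3
    set y := (u'.1)⁻¹ * (g * u * g⁻¹) with hydef
    have hgu : g * u * g⁻¹ = u'.1 * y := by rw [hydef]; group
    have hcomm : Commute (u'.1 : G) y := hUP₀ _ hu' _ hy
    have hN1 : (g * u * g⁻¹) ^ Nat.card U = 1 := by
      have h4 : u ^ Nat.card U = 1 := pow_card_mem U hu
      rw [conj_pow, h4]
      group
    have hN2 : (u'.1 : G) ^ Nat.card U = 1 := pow_card_mem U hu'
    have hN3 : y ^ Nat.card U = 1 := by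
      rw [hgu, hcomm.mul_pow, hN2, one_mul] at hN1
      exact hN1
    obtain ⟨j, hj⟩ := hP₀p ⟨y, hy⟩
    have hj' : y ^ p ^ j = 1 := by
      have := congrArg Subtype.val hj
      simpa using this
    have hy1 : y = 1 := pow_eq_one_of_coprime hN3 hj' (Nat.Coprime.pow_right _ hcopp)
    rw [hgu, hy1, mul_one]
    exact hu'
  have hL := hnoL L hLp hP₀L hLU
  rw [hL] at hLcard
  have h10 : 1 * Nat.card P₀ = p * Nat.card P₀ := by rw [one_mul]; exact hLcard
  have := Nat.eq_of_mul_eq_mul_right Nat.card_pos h10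
  exact hp.one_lt.ne this

end Cfsg.Agent.Lib.KPiFus
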