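import Mathlib
import Cfsg.Agent.Lib.KPiCount
import Cfsg.Agent.Lib.KPiFus
import Cfsg.Agent.Lib.CoprimeInv

/-!
Counting classes of `π`-elements, part five: the key lemma. If `U` is an abelian Hall `s`-subgroup
with all primes larger than `p`, and the `(s ∪ {p})`-classes are many, then a Sylow `p`-subgroup
centralizes `U`.
-/

set_option autoImplicit false

namespace Cfsg.Agent.Lib.KPiKey

open Subgroup Cfsg.Agent.Lib.PiClasses Cfsg.Agent.Lib.KPi Cfsg.Agent.Lib.KPiCount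
  Cfsg.Agent.Lib.KPiFix Cfsg.Agent.Lib.KPiFus Cfsg.Agent.Lib.CoprimeInv Cfsg.Agent.Lib.NormQuot

universe u

/-- Arithmetic, first case. -/
theorem arith1 {a u k A Qc B b p s₀ r : ℕ} (h1 : k ≤ A + Qc * B) (h2 : A ≤ a * u) (h3 : Qc + a = b)
    (h4 : s₀ * B ≤ u) (h5 : b = r * a) (h6 : p ^ 2 ≤ r) (h7 : p < s₀) (h8 : b * u < p * k) (ha : 0 < a)
    (hu : 0 < u) (hp : 0 < p) : False := by
  have hs : 0 < s₀ := by omega
  have hr : 0 < r := lt_of_lt_of_le (by positivity) h6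
  obtain ⟨q, rfl⟩ : ∃ q, r = q + 1 := ⟨r - 1, by omega⟩
  have hQ : Qc = q * a := by
    rw [h5] at h3
    have : (q + 1) * a = q * a + a := by ring
    omega
  subst hQ
  have e1 : s₀ * (p * k) ≤ s₀ * p * (a * u) + p * (q * a) * u := by
    calc s₀ * (p * k) = s₀ * p * k := by ring
      _ ≤ s₀ * p * (A + q * a * B) := Nat.mul_le_mul_left _ h1
      _ = s₀ * p * A + p * (q * a) * (s₀ * B) := by ring
      _ ≤ s₀ * p * (a * u) + p * (q * a) * u :=
        Nat.add_le_add (Nat.mul_le_mul_left _ h2) (Nat.mul_le_mul_left _ h4)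
  have e2 : s₀ * (b * u) < s₀ * (p * k) := Nat.mul_lt_mul_of_pos_left h8 hs
  subst h5
  have e3 : (s₀ * (q + 1)) * (a * u) < (s₀ * p + p * q) * (a * u) := by
    calc (s₀ * (q + 1)) * (a * u) = s₀ * ((q + 1) * a * u) := by ring
      _ < s₀ * (p * k) := e2
      _ ≤ s₀ * p * (a * u) + p * (q * a) * u := e1
      _ = (s₀ * p + p * q) * (a * u) := by ring
  have e4 : s₀ * (q + 1) < s₀ * p + p * q := Nat.lt_of_mul_lt_mul_right e3
  obtain ⟨x, rfl⟩ : ∃ x, s₀ = p + 1 + x := ⟨s₀ - p - 1, by omega⟩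
  zify at e4 h6 hp
  have hxn : (0 : ℤ) ≤ x := by positivity
  have hqn : (0 : ℤ) ≤ q := by positivity
  -- `(q + 1) ≥ p²`, so `q + 1 ≥ p`
  have h9 : (p : ℤ) ≤ q + 1 := by nlinarith
  nlinarith [mul_nonneg hxn (by linarith : (0 : ℤ) ≤ (q : ℤ) + 1 - p)]

/-- Arithmetic, second case. -/
theorem arith2 {a u k A Qc B b p s₀ F : ℕ} (h1 : k ≤ A + Qc * B) (h2 : p * A + a * F ≤ a * u + p * (a * F))
    (h3 : Qc + a = b) (h4 : s₀ * B ≤ u) (h5 : b = p * a) (h6 : s₀ * F ≤ u) (h7 : p < s₀) (h8 : b * u < p * k)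
    (ha : 0 < a) (hu : 0 < u) (hp : 0 < p) : False := by
  have hs : 0 < s₀ := by omega
  obtain ⟨q, rfl⟩ : ∃ q, p = q + 1 := ⟨p - 1, by omega⟩
  have hQ : Qc = q * a := by
    rw [h5] at h3
    have : (q + 1) * a = q * a + a := by ring
    omega
  subst hQ
  subst h5
  set X := a * u with hX
  have hXpos : 0 < X := Nat.mul_pos ha hu
  have e0 : X < k := by
    have : (q + 1) * X < (q + 1) * k := by
      calc (q + 1) * X = (q + 1) * a * u := by rw [hX]; ring
        _ < _ := h8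
    exact Nat.lt_of_mul_lt_mul_left this
  have e1 : (q + 1) * A + a * F ≤ X + (q + 1) * (a * F) := h2
  have e2 : (q + 1) * A ≤ X + q * (a * F) := by
    have : (q + 1) * (a * F) = q * (a * F) + a * F := by ring
    omega
  have e3 : s₀ * (a * F) ≤ X := by
    calc s₀ * (a * F) = a * (s₀ * F) := by ring
      _ ≤ a * u := Nat.mul_le_mul_left _ h6
  have e4 : s₀ * ((q + 1) * A) ≤ s₀ * X + q * X := by
    calc s₀ * ((q + 1) * A) ≤ s₀ * (X + q * (a * F)) := Nat.mul_le_mul_left _ e2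
      _ = s₀ * X + q * (s₀ * (a * F)) := by ring
      _ ≤ s₀ * X + q * X := by
        exact Nat.add_le_add_left (Nat.mul_le_mul_left _ e3) _
  have e5 : s₀ * ((q + 1) * k) ≤ s₀ * X + q * X + (q + 1) * q * X := by
    calc s₀ * ((q + 1) * k) ≤ s₀ * ((q + 1) * (A + q * a * B)) :=
          Nat.mul_le_mul_left _ (Nat.mul_le_mul_left _ h1)
      _ = s₀ * ((q + 1) * A) + (q + 1) * q * a * (s₀ * B) := by ring
      _ ≤ (s₀ * X + q * X) + (q + 1) * q * a * u :=
          Nat.add_le_add e4 (Nat.mul_le_mul_left _ h4)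
      _ = _ := by rw [hX]; ring
  have e6 : s₀ * ((q + 1) * X) < s₀ * ((q + 1) * k) :=
    Nat.mul_lt_mul_of_pos_left (Nat.mul_lt_mul_of_pos_left e0 (by omega)) hs
  have e7 : (s₀ * (q + 1)) * X < (s₀ + q + (q + 1) * q) * X := by
    calc (s₀ * (q + 1)) * X = s₀ * ((q + 1) * X) := by ring
      _ < _ := lt_of_lt_of_le e6 e5
      _ = _ := by ring
  have e8 : s₀ * (q + 1) < s₀ + q + (q + 1) * q := Nat.lt_of_mul_lt_mul_right e7
  have h7' : q + 2 ≤ s₀ := h7
  nlinarith [Nat.mul_le_mul_right q h7']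

/-- Arithmetic, third case. -/
theorem arith3 {a u k A Qc B b p s₀ F : ℕ} (h1 : k ≤ A + Qc * B) (h2 : 2 * A + a * F ≤ a * u + 2 * (a * F))
    (h3 : 2 * Qc + a ≤ b) (h4 : s₀ * B ≤ u) (h5 : b = p * a) (h6 : s₀ * F ≤ u) (h7 : p < s₀) (h8 : b * u < p * k)
    (ha : 0 < a) (hu : 0 < u) (hp : 0 < p) : False := by
  have hs : 0 < s₀ := by omega
  obtain ⟨q, rfl⟩ : ∃ q, p = q + 1 := ⟨p - 1, by omega⟩
  subst h5
  have hQ : 2 * Qc ≤ q * a := by
    have : (q + 1) * a = q * a + a := by ring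
    omega
  set X := a * u with hX
  have hXpos : 0 < X := Nat.mul_pos ha hu
  have e0 : X < k := by
    have : (q + 1) * X < (q + 1) * k := by
      calc (q + 1) * X = (q + 1) * a * u := by rw [hX]; ring
        _ < _ := h8
    exact Nat.lt_of_mul_lt_mul_left this
  have e2 : 2 * A ≤ X + a * F := by omega
  have e3 : s₀ * (a * F) ≤ X := by
    calc s₀ * (a * F) = a * (s₀ * F) := by ring
      _ ≤ a * u := Nat.mul_le_mul_left _ h6
  have e5 : 2 * (s₀ * k) ≤ s₀ * X + X + q * X := by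
    calc 2 * (s₀ * k) ≤ 2 * (s₀ * (A + Qc * B)) := Nat.mul_le_mul_left _ (Nat.mul_le_mul_left _ h1)
      _ = s₀ * (2 * A) + (2 * Qc) * (s₀ * B) := by ring
      _ ≤ s₀ * (X + a * F) + (q * a) * u :=
        Nat.add_le_add (Nat.mul_le_mul_left _ e2) (Nat.mul_le_mul hQ h4)
      _ = s₀ * X + s₀ * (a * F) + q * X := by rw [hX]; ring
      _ ≤ s₀ * X + X + q * X := by omega
  have e6 : 2 * (s₀ * X) < 2 * (s₀ * k) :=
    Nat.mul_lt_mul_of_pos_left (Nat.mul_lt_mul_of_pos_left e0 hs) (by omega)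
  have e7 : (2 * s₀) * X < (s₀ + 1 + q) * X := by
    calc (2 * s₀) * X = 2 * (s₀ * X) := by ring
      _ < _ := lt_of_lt_of_le e6 e5
      _ = _ := by ring
  have e8 : 2 * s₀ < s₀ + 1 + q := Nat.lt_of_mul_lt_mul_right e7
  omega

variable {G : Type u} [Group G] [Finite G]

/-- Powers of `τ` moving a point of `U`. -/
theorem hit_of {τ v : G} {p : ℕ} (hp : p.Prime) (hτp : τ ^ p * v = v * τ ^ p) (hne : τ * v * τ⁻¹ ≠ v) :
    ∀ i < p, ∀ j < p, τ ^ i * v * (τ ^ i)⁻¹ = τ ^ j * v * (τ ^ j)⁻¹ → i = j := by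
  have key : ∀ i j : ℕ, i < j → j < p → τ ^ i * v * (τ ^ i)⁻¹ ≠ τ ^ j * v * (τ ^ j)⁻¹ := by
    intro i j hij hj h
    apply hne
    -- `τ^(j-i)` commutes with `v`
    have hd : τ ^ (j - i) ∈ Subgroup.centralizer ({v} : Set G) := by
      rw [Subgroup.mem_centralizer_singleton_iff]
      have e : τ ^ j = τ ^ i * τ ^ (j - i) := by rw [← pow_add]; congr 1; omega
      rw [e] at h
      have h1 : v = τ ^ (j - i) * v * (τ ^ (j - i))⁻¹ := by
        have h2 : τ ^ i * v * (τ ^ i)⁻¹ = τ ^ i * (τ ^ (j - i) * v * (τ ^ (j - i))⁻¹) * (τ ^ i)⁻¹ := by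
          rw [h]; group
        exact mul_left_cancel (mul_right_cancel h2)
      exact (mul_inv_eq_iff_eq_mul.mp h1.symm)
    have hpp : τ ^ p ∈ Subgroup.centralizer ({v} : Set G) := by
      rw [Subgroup.mem_centralizer_singleton_iff]
      exact hτp
    have hcop : (j - i).Coprime p := by
      apply Nat.Coprime.symm
      apply (Nat.Prime.coprime_iff_not_dvd hp).mpr
      intro hdvd
      have := Nat.le_of_dvd (by omega) hdvd
      omega
    have hbez := Nat.gcd_eq_gcd_ab (j - i) p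
    rw [hcop] at hbez
    have hτ : τ ∈ Subgroup.centralizer ({v} : Set G) := by
      have e : τ = (τ ^ (j - i)) ^ (Nat.gcdA (j - i) p) * (τ ^ p) ^ (Nat.gcdB (j - i) p) := by
        rw [← zpow_natCast, ← zpow_natCast, ← zpow_mul, ← zpow_mul, ← zpow_add, ← hbez]
        simp
      rw [e]
      exact mul_mem (zpow_mem hd _) (zpow_mem hpp _)
    have := Subgroup.mem_centralizer_singleton_iff.mp hτ
    rw [this]
    group
  intro i hi j hj h
  rcases lt_trichotomy i j with h1 | h1 | h1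
  · exact absurd h (key i j h1 hj)
  · exact h1
  · exact absurd h.symm (key j i h1 hi)

/-- A proper overgroup of `P₀` in `P`, `|P| = p|P₀|`, equals `P`. -/
theorem eq_of_index_prime {p : ℕ} (hp : p.Prime) {P₀ D P : Subgroup G} (h1 : P₀ ≤ D) (h2 : D ≤ P) (hne : D ≠ P₀)
    (hcard : Nat.card P = p * Nat.card P₀) : D = P := by
  have h3 : P₀.relIndex D * D.relIndex P = P₀.relIndex P := Subgroup.relIndex_mul_relIndex _ _ _ h1 h2
  have hr : ∀ {A B : Subgroup G}, A ≤ B → A.relIndex B * Nat.card A = Nat.card B := by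
    intro A B hAB
    have h4 : (A.subgroupOf B).index * Nat.card (A.subgroupOf B) = Nat.card B := Subgroup.index_mul_card _
    rwa [Nat.card_congr (Subgroup.subgroupOfEquivOfLe hAB).toEquiv] at h4
  have h5 : P₀.relIndex P = p := by
    have h6 := hr (h1.trans h2)
    rw [hcard] at h6
    exact Nat.eq_of_mul_eq_mul_right Nat.card_pos h6
  have h7 : P₀.relIndex D ≠ 1 := by
    intro h
    rw [Subgroup.relIndex_eq_one] at h
    exact hne (le_antisymm h h1)
  rw [h5] at h3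
  have h8 : P₀.relIndex D ∣ p := ⟨_, h3.symm⟩
  have h9 := ((Nat.dvd_prime hp).mp h8).resolve_left h7
  rw [h9] at h3
  have h10 : D.relIndex P = 1 := Nat.eq_of_mul_eq_mul_left hp.pos (by rw [h3, mul_one])
  rw [Subgroup.relIndex_eq_one] at h10
  exact le_antisymm h2 h10

/-- The set `P \ P₀`. -/
noncomputable def diffSet (P P₀ : Subgroup G) : Finset G := by
  classical
  haveI := Fintype.ofFinite G
  exact Finset.univ.filter (fun x => x ∈ P ∧ x ∉ P₀)

theorem mem_diffSet {P P₀ : Subgroup G} {x : G} : x ∈ diffSet P P₀ ↔ x ∈ P ∧ x ∉ P₀ := by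
  classical
  simp [diffSet]

theorem card_diffSet {P P₀ : Subgroup G} (h : P₀ ≤ P) : (diffSet P P₀).card + Nat.card P₀ = Nat.card P := by
  classical
  haveI := Fintype.ofFinite G
  have h1 : Nat.card P = (Finset.univ.filter (fun x : G => x ∈ P)).card := by
    rw [Nat.card_eq_fintype_card, Fintype.card_subtype]
  have h2 : Nat.card P₀ = (Finset.univ.filter (fun x : G => x ∈ P₀)).card := by
    rw [Nat.card_eq_fintype_card, Fintype.card_subtype]
  rw [h1, h2]
  have h3 : Finset.univ.filter (fun x : G => x ∈ P) =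
      diffSet P P₀ ∪ Finset.univ.filter (fun x : G => x ∈ P₀) := by
    ext x
    simp only [Finset.mem_filter, Finset.mem_univ, true_and, Finset.mem_union, mem_diffSet]
    constructor
    · intro hx
      by_cases h4 : x ∈ P₀
      · exact Or.inr h4
      · exact Or.inl ⟨hx, h4⟩
    · rintro (h4 | h4)
      · exact h4.1
      · exact h h4
  rw [h3, Finset.card_union_of_disjoint]
  rw [Finset.disjoint_left]
  intro x hx hx2
  exact (mem_diffSet.mp hx).2 (Finset.mem_filter.mp hx2).2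

/-- A set of class representatives for `P \ P₀` when each class has at least two elements there. -/
theorem exists_reps {P P₀ : Subgroup G} {g : G} (hgP : g ∈ normalizer (P : Set G)) (hgP₀ : g ∈ normalizer (P₀ : Set G))
    (hne : ∀ x ∈ P, x ∉ P₀ → g * x * g⁻¹ ≠ x) :
    ∃ Q : Finset G, 2 * Q.card ≤ (diffSet P P₀).card ∧ ∀ x ∈ P, x ∉ P₀ → ∃ y ∈ Q, IsConj x y := by
  classical
  haveI := Fintype.ofFinite (ConjClasses G)
  let R := diffSet P P₀
  let Ψ : G → ConjClasses G := fun x => ConjClasses.mk x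
  have hrep : ∀ c ∈ R.image Ψ, ∃ x ∈ R, Ψ x = c := fun c hc => Finset.mem_image.mp hc
  choose! rep hrep1 hrep2 using hrep
  let Q := (R.image Ψ).image rep
  refine ⟨Q, ?_, ?_⟩
  · have h1 : 2 * (R.image Ψ).card ≤ R.card := by
      apply Finset.mul_card_image_le_card
      intro b hb
      obtain ⟨x, hx, rfl⟩ := Finset.mem_image.mp hb
      have hx' := mem_diffSet.mp hx
      have hgx : g * x * g⁻¹ ∈ R := by
        refine mem_diffSet.mpr ⟨(mem_normalizer_iff.mp hgP x).mp hx'.1, fun h => hx'.2 ?_⟩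
        exact (mem_normalizer_iff.mp hgP₀ x).mpr h
      have : 1 < (R.filter (fun y => Ψ y = Ψ x)).card := by
        refine Finset.one_lt_card.mpr ⟨x, Finset.mem_filter.mpr ⟨hx, rfl⟩, g * x * g⁻¹, Finset.mem_filter.mpr ⟨hgx, ?_⟩, (hne x hx'.1 hx'.2).symm⟩
        show ConjClasses.mk (g * x * g⁻¹) = ConjClasses.mk x
        rw [ConjClasses.mk_eq_mk_iff_isConj]
        exact (isConj_iff.mpr ⟨g, rfl⟩).symm
      exact this
    have h2 : Q.card ≤ (R.image Ψ).card := Finset.card_image_le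
    show 2 * Q.card ≤ R.card
    omega
  · intro x hx hx0
    have hxR : x ∈ R := mem_diffSet.mpr ⟨hx, hx0⟩
    have hc : Ψ x ∈ R.image Ψ := Finset.mem_image_of_mem _ hxR
    refine ⟨rep (Ψ x), Finset.mem_image_of_mem _ hc, ?_⟩
    have := hrep2 _ hc
    exact (ConjClasses.mk_eq_mk_iff_isConj.mp this).symm

/-- Elements of `P \ P₀` are moved by a nontrivial automorphism of `P/P₀`. -/
theorem ne_of_fusing {p : ℕ} [hpf : Fact p.Prime] {P P₀ : Subgroup G} {g x₀ : G} (hle : P₀ ≤ P) (hPp : IsPGroup p P)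
    (hcard : Nat.card P = p * Nat.card P₀) (hgP : g ∈ normalizer (P : Set G))
    (hgP₀ : g ∈ normalizer (P₀ : Set G)) (hx₀ : x₀ ∈ P) (hgx₀ : g * x₀ * g⁻¹ * x₀⁻¹ ∉ P₀) :
    ∀ x ∈ P, x ∉ P₀ → g * x * g⁻¹ ≠ x := by
  intro x hx hx0 hfix
  have hPN : P ≤ normalizer (P₀ : Set G) := le_normalizer_of_card hle hPp hcard
  have hconj : ∀ y ∈ P, ∀ w ∈ P₀, y * w * y⁻¹ ∈ P₀ := fun y hy w hw =>
    (mem_normalizer_iff.mp (hPN hy) w).mp hw
  let D : Subgroup G :=
    { carrier := {y | y ∈ P ∧ g * y * g⁻¹ * y⁻¹ ∈ P₀}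
      one_mem' := ⟨P.one_mem, by simp [P₀.one_mem]⟩
      mul_mem' := by
        rintro a b ⟨ha, ha'⟩ ⟨hb, hb'⟩
        refine ⟨P.mul_mem ha hb, ?_⟩
        have e : g * (a * b) * g⁻¹ * (a * b)⁻¹ = (g * a * g⁻¹ * a⁻¹) * (a * (g * b * g⁻¹ * b⁻¹) * a⁻¹) := by group
        rw [e]
        exact P₀.mul_mem ha' (hconj a ha _ hb')
      inv_mem' := by
        rintro a ⟨ha, ha'⟩
        refine ⟨P.inv_mem ha, ?_⟩
        have e : g * a⁻¹ * g⁻¹ * a⁻¹⁻¹ = a⁻¹ * (g * a * g⁻¹ * a⁻¹)⁻¹ * a⁻¹⁻¹ := by group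
        rw [e]
        exact hconj _ (P.inv_mem ha) _ (P₀.inv_mem ha') }
  have hP₀D : P₀ ≤ D := fun y hy =>
    ⟨hle hy, P₀.mul_mem ((mem_normalizer_iff.mp hgP₀ y).mp hy) (P₀.inv_mem hy)⟩
  have hDP : D ≤ P := fun y hy => hy.1
  have hxD : x ∈ D := ⟨hx, by rw [hfix]; simp [P₀.one_mem]⟩
  have hne : D ≠ P₀ := fun h => hx0 (h ▸ hxD)
  have h1 := eq_of_index_prime hpf.out hP₀D hDP hne hcard
  have h2 : x₀ ∈ D := h1 ▸ hx₀
  exact hgx₀ h2.2

/-- Numerical facts on an abelian Hall subgroup. -/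
theorem prime_mem_of_dvd {s : Finset ℕ} (hs : ∀ t ∈ s, t.Prime) {n r : ℕ} (hr : r.Prime)
    (hd : r ∣ piPart s n) : r ∈ s := by
  unfold piPart at hd
  obtain ⟨t, ht, h2⟩ := (Prime.dvd_finsetProd_iff hr.prime _).mp hd
  have := (Nat.prime_dvd_prime_iff_eq hr (hs t ht)).mp (hr.dvd_of_dvd_pow h2)
  rwa [this]

theorem pow_dvd_piPart {s : Finset ℕ} {t : ℕ} (ht : t ∈ s) (n : ℕ) : t ^ n.factorization t ∣ piPart s n :=
  Finset.dvd_prod_of_mem (fun r => r ^ n.factorization r) ht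

theorem not_dvd_index {s : Finset ℕ} (hs : ∀ t ∈ s, t.Prime) {U : Subgroup G}
    (hU : Nat.card U = piPart s (Nat.card G)) {t : ℕ} (ht : t ∈ s) : ¬ t ∣ U.index := by
  intro h
  have h1 := pow_dvd_piPart ht (Nat.card G)
  rw [← hU] at h1
  have h2 : t ^ ((Nat.card G).factorization t + 1) ∣ Nat.card G := by
    have h3 : t ^ (Nat.card G).factorization t * t ∣ Nat.card U * U.index := Nat.mul_dvd_mul h1 h
    rwa [Subgroup.card_mul_index U, ← pow_succ] at h3
  exact Nat.pow_succ_factorization_not_dvd Nat.card_pos.ne' (hs t ht) h2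

/-- **The key lemma.** -/
theorem key {p : ℕ} [hpf : Fact p.Prime] (s : Finset ℕ) (hs : ∀ t ∈ s, t.Prime) (hps : ∀ t ∈ s, p < t)
    (s₀ : ℕ) (hs₀ : p < s₀) (hs₀s : ∀ t ∈ s, s₀ ≤ t) (U : Subgroup G)
    (hUab : ∀ a ∈ U, ∀ b ∈ U, a * b = b * a) (hUcard : Nat.card U = piPart s (Nat.card G))
    (hNonY : ∀ y : G, (∀ g : G, ¬ (U.map (MulAut.conj g).toMonoidHom ≤ Subgroup.centralizer ({y} : Set G))) →
      s₀ * Nat.card (PiClassSet s (Subgroup.centralizer ({y} : Set G))) ≤ Nat.card U)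
    (hcount : piPart (insert p s) (Nat.card G) < p * Nat.card (PiClassSet (insert p s) G)) :
    ∃ T : Subgroup G, IsPGroup p T ∧ ¬ p ∣ T.index ∧ T ≤ centralizer (U : Set G) := by
  classical
  have hp := hpf.out
  have hps' : p ∉ s := fun h => lt_irrefl _ (hps p h)
  set u := Nat.card U with hu
  have hupos : 0 < u := Nat.card_pos
  have hUhall : ∀ w : G, (∀ r : ℕ, r.Prime → r ∣ orderOf w → r ∈ s) → (orderOf w).Coprime U.index := by
    intro w hw
    apply Nat.coprime_of_dvd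
    intro r hr h1 h2
    exact not_dvd_index hs hUcard (hw r hr h1) h2
  have hmemU : ∀ r : ℕ, r.Prime → r ∣ u → r ∈ s := by
    intro r hr hd
    exact prime_mem_of_dvd hs hr (n := Nat.card G) (by rw [← hUcard]; exact hd)
  have hcop : (Nat.card U).Coprime U.index := by
    apply Nat.coprime_of_dvd
    intro r hr h1 h2
    exact not_dvd_index hs hUcard (hmemU r hr h1) h2
  have hprimes : ∀ r : ℕ, r.Prime → r ∣ Nat.card U → p < r := fun r hr hd => hps r (hmemU r hr hd)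
  have hpU : ¬ p ∣ Nat.card U := fun h => lt_irrefl _ (hprimes p hp h)
  have hU1 : ∀ V : Subgroup G, V ≤ U → V ≠ U → s₀ * Nat.card V ≤ u := by
    intro V hV hne
    have h1 : (V.subgroupOf U).index * Nat.card (V.subgroupOf U) = Nat.card U := Subgroup.index_mul_card _
    rw [Nat.card_congr (Subgroup.subgroupOfEquivOfLe hV).toEquiv] at h1
    have h2 : (V.subgroupOf U).index ≠ 1 := by
      intro h
      rw [Subgroup.index_eq_one, Subgroup.subgroupOf_eq_top] at h
      exact hne (le_antisymm hV h)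
    obtain ⟨r, hr, hrd⟩ := Nat.exists_prime_and_dvd h2
    have h3 : r ∣ Nat.card U := by
      rw [← h1]
      exact hrd.trans (dvd_mul_right _ _)
    have h4 : s₀ ≤ r := hs₀s r (hmemU r hr h3)
    have h5 : r ≤ (V.subgroupOf U).index := Nat.le_of_dvd (Nat.pos_of_ne_zero Subgroup.index_ne_zero_of_finite) hrd
    calc s₀ * Nat.card V ≤ (V.subgroupOf U).index * Nat.card V := Nat.mul_le_mul_right _ (h4.trans h5)
      _ = u := h1
  -- the number `B`
  have hs₀pos : 0 < s₀ := by omega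
  set B := u / s₀ with hBdef
  have hB : ∀ y : G, (∀ g : G, ¬ (U.map (MulAut.conj g).toMonoidHom ≤ Subgroup.centralizer ({y} : Set G))) →
      Nat.card (PiClassSet s (Subgroup.centralizer ({y} : Set G))) ≤ B := by
    intro y hy
    rw [hBdef, Nat.le_div_iff_mul_le hs₀pos, mul_comm]
    exact hNonY y hy
  have hs₀B : s₀ * B ≤ u := Nat.mul_div_le _ _
  -- `P₀`
  set C := centralizer (U : Set G) with hC
  obtain ⟨P₀, hP₀⟩ := exists_isSylowIn p C
  have hP₀C : P₀ ≤ C := hP₀.1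
  have hP₀p : IsPGroup p P₀ := hP₀.2.1
  have hP₀s : ¬ p ∣ P₀.relIndex C := hP₀.toSylow.not_dvd_index
  obtain ⟨P, hP₀P⟩ := hP₀p.exists_le_sylow
  have hapos : 0 < Nat.card P₀ := Nat.card_pos
  by_contra hno
  push Not at hno
  have hPcard : Nat.card P = p ^ (Nat.card G).factorization p := P.card_eq_multiplicity
  have hpart : piPart (insert p s) (Nat.card G) = Nat.card P * u := by
    simp only [piPart]
    rw [Finset.prod_insert hps', hPcard]
    congr 1
    exact hUcard.symm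
  rw [hpart] at hcount
  -- relative index
  have hrel : P₀.relIndex P * Nat.card P₀ = Nat.card P := relIndex_mul_card' hP₀P
  have hrd : P₀.relIndex P ∣ p ^ (Nat.card G).factorization p := by
    rw [← hPcard, ← hrel]
    exact dvd_mul_right _ _
  obtain ⟨d, -, hd⟩ := (Nat.dvd_prime_pow hp).mp hrd
  -- general count for a Sylow containing `P₀`
  have hcore : ∀ (P' : Sylow p G), (P₀ : Subgroup G) ≤ P' → ∀ Q : Finset G,
      (∀ x ∈ (P' : Subgroup G), x ∉ P₀ → ∃ y ∈ Q, IsConj x y) →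
      Nat.card (PiClassSet (insert p s) G) ≤ (AA P₀ U).ncard + Q.card * B := by
    intro P' _ Q hQ
    exact count_core p s U P₀ P' P'.not_dvd_index hP₀p hUab hP₀C hP₀s hUhall Q hQ B hB
  rcases d with _ | _ | d
  · -- `P₀ = P`
    rw [pow_zero, Subgroup.relIndex_eq_one] at hd
    exact hno P P.2 P.not_dvd_index (hd.trans hP₀C)
  swap
  · -- index at least `p²`
    have h1 := hcore P hP₀P (diffSet P P₀) (fun x hx hx0 => ⟨x, mem_diffSet.mpr ⟨hx, hx0⟩, IsConj.refl x⟩)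
    refine arith1 (r := P₀.relIndex P) h1 (ncard_AA_le P₀ U) (card_diffSet hP₀P) hs₀B ?_ ?_ hs₀ hcount hapos hupos hp.pos
    · rw [← hrel]
    · rw [hd]
      exact Nat.pow_le_pow_right hp.pos (by omega)
  -- index `p`
  rw [zero_add, pow_one] at hd
  have hPpa : Nat.card P = p * Nat.card P₀ := by rw [← hrel, hd]
  by_cases hL : ∃ L : Subgroup G, IsPGroup p L ∧ P₀ ≤ L ∧ L ≤ normalizer (U : Set G) ∧ L ≠ P₀
  · -- Case A
    obtain ⟨L, hLp, hP₀L, hLN, hLne⟩ := hL
    obtain ⟨P', hLP'⟩ := hLp.exists_le_sylow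
    have hP'card : Nat.card P' = p * Nat.card P₀ := by
      rw [← hPpa]
      exact Sylow.card_eq_multiplicity P' |>.trans hPcard.symm
    have hLP'eq : L = P' := eq_of_index_prime hp hP₀L hLP' hLne hP'card
    have hP'N : (P' : Subgroup G) ≤ normalizer (U : Set G) := hLP'eq ▸ hLN
    have hP₀P' : P₀ ≤ P' := hP₀L.trans hLP'
    obtain ⟨τ, hτ, hτ0⟩ : ∃ τ ∈ (P' : Subgroup G), τ ∉ P₀ := by
      by_contra hcon
      push Not at hcon
      exact hLne (le_antisymm (hLP'.trans hcon) hP₀L)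
    have hτC : τ ∉ C := by
      intro h
      have h1 := hP₀.2.2 ((P' : Subgroup G) ⊓ C) inf_le_right
        (P'.2.to_le inf_le_left) (le_inf hP₀P' hP₀C)
      exact hτ0 (h1 ▸ ⟨hτ, h⟩)
    have hP'Nor := le_normalizer_of_card hP₀P' P'.2 hP'card
    have hha1 : ∀ y ∈ P₀, τ * y * τ⁻¹ ∈ P₀ := fun y hy => (mem_normalizer_iff.mp (hP'Nor hτ) y).mp hy
    have hha2 : ∀ v ∈ U, τ * v * τ⁻¹ ∈ U := fun y hy => (mem_normalizer_iff.mp (hP'N hτ) y).mp hy
    -- `τ^p ∈ P₀`
    have hτpow : τ ^ p ∈ P₀ := by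
      have hidx : (P₀.subgroupOf P').index = p := by
        have h1 : (P₀.subgroupOf P').index * Nat.card (P₀.subgroupOf P') = Nat.card P' := Subgroup.index_mul_card _
        rw [Nat.card_congr (Subgroup.subgroupOfEquivOfLe hP₀P').toEquiv, hP'card] at h1
        exact Nat.eq_of_mul_eq_mul_right Nat.card_pos h1
      have hn : (P₀.subgroupOf P').Normal := Cfsg.Agent.Lib.ExtraBasics.normal_of_index_eq_prime P'.2 _ hidx
      have h2 := Subgroup.pow_index_mem (P₀.subgroupOf (P' : Subgroup G)) (⟨τ, hτ⟩ : (P' : Subgroup G))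
      rw [hidx] at h2
      exact Subgroup.mem_subgroupOf.mp h2
    have hit : ∀ v ∈ U, τ * v * τ⁻¹ ≠ v → ∀ i < p, ∀ j < p, τ ^ i * v * (τ ^ i)⁻¹ = τ ^ j * v * (τ ^ j)⁻¹ → i = j := by
      intro v hv hne
      refine hit_of hp ?_ hne
      exact (mem_centralizer_iff.mp (hP₀C hτpow) v hv).symm
    have h2 := ncard_AA_orbit P₀ U τ hha1 hha2 p hit
    have hF : s₀ * Nat.card ↥(U ⊓ centralizer ({τ} : Set G)) ≤ u := by
      refine hU1 _ inf_le_left ?_
      intro h
      apply hτC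
      rw [hC, mem_centralizer_iff]
      intro v hv
      have hv' : v ∈ U ⊓ centralizer ({τ} : Set G) := by rw [h]; exact hv
      exact mem_centralizer_singleton_iff.mp hv'.2
    have h1 := hcore P' hP₀P' (diffSet P' P₀) (fun x hx hx0 => ⟨x, mem_diffSet.mpr ⟨hx, hx0⟩, IsConj.refl x⟩)
    have hcount' : Nat.card P' * u < p * Nat.card (PiClassSet (insert p s) G) := by
      rwa [hP'card, ← hPpa]
    exact arith2 h1 h2 (card_diffSet hP₀P') hs₀B hP'card hF hs₀ hcount' hapos hupos hp.pos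
  · -- Case B
    push Not at hL
    -- (i)
    have hN : ¬ normalizer (U : Set G) ≤ C := by
      intro hN
      have hidx : ¬ p ^ 2 ∣ P₀.index := by
        rw [← Subgroup.relIndex_mul_index hP₀P, hd, pow_two]
        intro h
        exact P.not_dvd_index (Nat.dvd_of_mul_dvd_mul_left hp.pos h)
      obtain ⟨T, h1, h2, h3⟩ := fix_sylow _ G rfl U P₀ hUab hcop hprimes hN hP₀p hP₀C hidx
      exact hno T h1 h2 h3
    obtain ⟨a₀, ha₀, ha₀C⟩ := Set.not_subset.mp hN
    have ha₀N : a₀ ∈ normalizer (C : Set G) := by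
      apply Cfsg.Agent.Lib.ExtraGlue.mem_normalizer_of_forall'
      intro x hx
      rw [hC, mem_centralizer_iff]
      intro v hv
      have h1 : a₀⁻¹ * v * a₀ ∈ U := by
        have := (mem_normalizer_iff.mp ha₀ (a₀⁻¹ * v * a₀)).mpr (by simpa [mul_assoc] using hv)
        exact this
      have h2 := mem_centralizer_iff.mp hx _ h1
      calc v * (a₀ * x * a₀⁻¹) = a₀ * ((a₀⁻¹ * v * a₀) * x) * a₀⁻¹ := by group
        _ = a₀ * (x * (a₀⁻¹ * v * a₀)) * a₀⁻¹ := by rw [h2]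
        _ = _ := by group
    obtain ⟨c, hc, hcP⟩ := (hP₀.cj_of_normalizer ha₀N).exists_conj hP₀
    set a := c * a₀ with ha
    have hha1 : ∀ y ∈ P₀, a * y * a⁻¹ ∈ P₀ := by
      intro y hy
      rw [hcP]
      refine ⟨a₀ * y * a₀⁻¹, ⟨y, hy, rfl⟩, ?_⟩
      show c * (a₀ * y * a₀⁻¹) * c⁻¹ = a * y * a⁻¹
      rw [ha]; group
    have hha2 : ∀ v ∈ U, a * v * a⁻¹ ∈ U := by
      intro v hv
      have h1 := (mem_normalizer_iff.mp ha₀ v).mp hv
      have h2 : c * (a₀ * v * a₀⁻¹) * c⁻¹ = a₀ * v * a₀⁻¹ := by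
        rw [(mem_centralizer_iff.mp hc _ h1).symm]
        group
      have h3 : a * v * a⁻¹ = c * (a₀ * v * a₀⁻¹) * c⁻¹ := by rw [ha]; group
      rw [h3, h2]
      exact h1
    have haC : a ∉ C := by
      intro h
      apply ha₀C
      have : a₀ = c⁻¹ * a := by rw [ha]; group
      show a₀ ∈ C
      rw [this]
      exact C.mul_mem (C.inv_mem hc) h
    have hit : ∀ v ∈ U, a * v * a⁻¹ ≠ v → ∀ i < 2, ∀ j < 2, a ^ i * v * (a ^ i)⁻¹ = a ^ j * v * (a ^ j)⁻¹ → i = j := by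
      intro v _ hne i hi j hj h
      interval_cases i <;> interval_cases j
      · rfl
      · exact absurd (by simpa using h.symm) hne
      · exact absurd (by simpa using h) hne
      · rfl
    have h2 := ncard_AA_orbit P₀ U a hha1 hha2 2 hit
    have hF : s₀ * Nat.card ↥(U ⊓ centralizer ({a} : Set G)) ≤ u := by
      refine hU1 _ inf_le_left ?_
      intro h
      apply haC
      rw [hC, mem_centralizer_iff]
      intro v hv
      have hv' : v ∈ U ⊓ centralizer ({a} : Set G) := by rw [h]; exact hv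
      exact mem_centralizer_singleton_iff.mp hv'.2
    -- (ii)
    have hUP₀ : ∀ u ∈ U, ∀ y ∈ P₀, u * y = y * u := fun u hu y hy => (mem_centralizer_iff.mp (hP₀C hy) u hu)
    obtain ⟨g, hgP, hgP₀, x₀, hx₀, hgx₀⟩ := exists_fusing (U := U) (P₀ := P₀) (P := P) hUab hcop hpU hUP₀ hP₀p P.2 P.not_dvd_index hP₀P hPpa
      (fun L hLp hP₀L hLN => hL L hLp hP₀L hLN)
    have hne := ne_of_fusing hP₀P P.2 hPpa hgP hgP₀ hx₀ hgx₀
    obtain ⟨Q, hQ1, hQ2⟩ := exists_reps hgP hgP₀ hne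
    have h1 := hcore P hP₀P Q hQ2
    have h3 : 2 * Q.card + Nat.card P₀ ≤ Nat.card P := by
      have := card_diffSet hP₀P
      omega
    exact arith3 h1 h2 h3 hs₀B hPpa hF hs₀ hcount hapos hupos hp.pos

end Cfsg.Agent.Lib.KPiKey
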