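import Mathlib
import Cfsg.Agent.Lib.KPiKey

/-!
Counting classes of `π`-elements, part six: many classes force a nilpotent Hall subgroup.
-/

set_option autoImplicit false

namespace Cfsg.Agent.Lib.KPiMain

open Subgroup Cfsg.Agent.Lib.PClasses Cfsg.Agent.Lib.PiClasses Cfsg.Agent.Lib.KPi Cfsg.Agent.Lib.KPiKey

universe u

section helpers

variable {G : Type u} [Group G]

theorem exists_mul_of_commuting {H K : Subgroup G} (hc : ∀ h ∈ H, ∀ k ∈ K, h * k = k * h) :
    ∀ x ∈ H ⊔ K, ∃ h ∈ H, ∃ k ∈ K, x = h * k := by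
  let T : Subgroup G :=
    { carrier := {x | ∃ h ∈ H, ∃ k ∈ K, x = h * k}
      one_mem' := ⟨1, H.one_mem, 1, K.one_mem, by simp⟩
      mul_mem' := by
        rintro _ _ ⟨h₁, h1, k₁, k1, rfl⟩ ⟨h₂, h2, k₂, k2, rfl⟩
        refine ⟨h₁ * h₂, H.mul_mem h1 h2, k₁ * k₂, K.mul_mem k1 k2, ?_⟩
        calc h₁ * k₁ * (h₂ * k₂) = h₁ * (k₁ * h₂) * k₂ := by group
          _ = h₁ * (h₂ * k₁) * k₂ := by rw [hc h₂ h2 k₁ k1]
          _ = _ := by group
      inv_mem' := by
        rintro _ ⟨h, h1, k, k1, rfl⟩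
        refine ⟨h⁻¹, H.inv_mem h1, k⁻¹, K.inv_mem k1, ?_⟩
        have : h⁻¹ * k⁻¹ = k⁻¹ * h⁻¹ := by
          have e := hc h h1 k k1
          calc h⁻¹ * k⁻¹ = (k * h)⁻¹ := by group
            _ = (h * k)⁻¹ := by rw [e]
            _ = _ := by group
        rw [this]
        group }
  have h1 : H ⊔ K ≤ T := by
    refine sup_le (fun x hx => ⟨x, hx, 1, K.one_mem, by simp⟩) (fun x hx => ⟨1, H.one_mem, x, hx, by simp⟩)
  exact fun x hx => h1 hx

theorem abelian_sup {H K : Subgroup G} (hc : ∀ h ∈ H, ∀ k ∈ K, h * k = k * h)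
    (hH : ∀ a ∈ H, ∀ b ∈ H, a * b = b * a) (hK : ∀ a ∈ K, ∀ b ∈ K, a * b = b * a) :
    ∀ a ∈ H ⊔ K, ∀ b ∈ H ⊔ K, a * b = b * a := by
  intro a ha b hb
  obtain ⟨h₁, h1, k₁, k1, rfl⟩ := exists_mul_of_commuting hc a ha
  obtain ⟨h₂, h2, k₂, k2, rfl⟩ := exists_mul_of_commuting hc b hb
  calc h₁ * k₁ * (h₂ * k₂) = h₁ * (k₁ * h₂) * k₂ := by group
    _ = h₁ * (h₂ * k₁) * k₂ := by rw [hc h₂ h2 k₁ k1]
    _ = (h₁ * h₂) * (k₁ * k₂) := by group
    _ = (h₂ * h₁) * (k₂ * k₁) := by rw [hH _ h1 _ h2, hK _ k1 _ k2]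
    _ = h₂ * (h₁ * k₂) * k₁ := by group
    _ = h₂ * (k₂ * h₁) * k₁ := by rw [hc h₁ h1 k₂ k2]
    _ = _ := by group

theorem card_sup_of_commuting [Finite G] {H K : Subgroup G} (hc : ∀ h ∈ H, ∀ k ∈ K, h * k = k * h)
    (hcop : (Nat.card H).Coprime (Nat.card K)) : Nat.card ↥(H ⊔ K) = Nat.card H * Nat.card K := by
  have hbot : H ⊓ K = ⊥ := (Subgroup.disjoint_of_coprime_natCard hcop).eq_bot
  rw [← Nat.card_prod]
  symm
  refine Nat.card_congr (Equiv.ofBijective
    (fun x : ↥H × ↥K => (⟨(x.1 : G) * x.2, Subgroup.mul_mem_sup x.1.2 x.2.2⟩ : ↥(H ⊔ K))) ⟨?_, ?_⟩)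
  · rintro ⟨a, b⟩ ⟨c, d⟩ h
    have h1 : (a : G) * b = c * d := congrArg Subtype.val h
    have h2 : (c : G)⁻¹ * a = d * (b : G)⁻¹ := by
      calc (c : G)⁻¹ * a = (c : G)⁻¹ * ((a : G) * b) * (b : G)⁻¹ := by group
        _ = (c : G)⁻¹ * (c * d) * (b : G)⁻¹ := by rw [h1]
        _ = _ := by group
    have h3 : (c : G)⁻¹ * a ∈ H ⊓ K := ⟨H.mul_mem (H.inv_mem c.2) a.2, h2 ▸ K.mul_mem d.2 (K.inv_mem b.2)⟩
    rw [hbot, Subgroup.mem_bot] at h3
    have h4 : (a : G) = c := by
      have e : (a : G) = c * ((c : G)⁻¹ * a) := by group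
      rw [e, h3, mul_one]
    have h5 : (b : G) = d := by
      rw [h4] at h1
      exact mul_left_cancel h1
    exact Prod.ext (Subtype.ext h4) (Subtype.ext h5)
  · rintro ⟨x, hx⟩
    obtain ⟨h, h1, k, k1, rfl⟩ := exists_mul_of_commuting hc x hx
    exact ⟨(⟨h, h1⟩, ⟨k, k1⟩), rfl⟩

theorem piPart_insert {a : ℕ} {s : Finset ℕ} (h : a ∉ s) (n : ℕ) :
    piPart (insert a s) n = a ^ n.factorization a * piPart s n := by
  simp only [piPart]
  rw [Finset.prod_insert h]

theorem piPart_dvd (s : Finset ℕ) {d n : ℕ} (hd : d ≠ 0) (hn : n ≠ 0) (h : d ∣ n) : piPart s d ∣ piPart s n := by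
  refine Finset.prod_dvd_prod_of_dvd _ _ fun r _ => pow_dvd_pow r ?_
  exact (Nat.factorization_le_iff_dvd hd hn).2 h r

/-- `k_a(G) ≤ k(R)` for a Sylow subgroup `R`. -/
theorem card_pClass_le_classes [Finite G] {a : ℕ} [Fact a.Prime] (R : Sylow a G) :
    Nat.card (PClassSet a G) ≤ Nat.card (ConjClasses R) := by
  classical
  haveI : Fintype (ConjClasses R) := Fintype.ofFinite _
  choose f hf using pClasses_rep (p := a) R
  let g : PClassSet a G → ConjClasses R := fun c => ConjClasses.mk (f c)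
  have hg : Function.Injective g := by
    intro c d h
    have h1 : IsConj (f c) (f d) := ConjClasses.mk_eq_mk_iff_isConj.mp h
    have h2 : IsConj ((f c : R) : G) ((f d : R) : G) := by
      obtain ⟨u, hu⟩ := isConj_iff.mp h1
      refine isConj_iff.mpr ⟨(u : G), ?_⟩
      rw [← hu]
      rfl
    apply Subtype.ext
    rw [← hf c, ← hf d]
    exact ConjClasses.mk_eq_mk_iff_isConj.mpr h2
  exact Nat.card_le_card_of_injective g hg

end helpers

/-- The inductive statement. -/
def MM (s : Finset ℕ) : Prop :=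
  (∀ t ∈ s, t.Prime) → ∀ p : ℕ, p.Prime → (∀ t ∈ s, p < t) → ∀ (G : Type u) [Group G] [Finite G],
    piPart (insert p s) (Nat.card G) < p * Nat.card (PiClassSet (insert p s) G) →
    ∃ U : Subgroup G, (∀ a ∈ U, ∀ b ∈ U, a * b = b * a) ∧ Nat.card U = piPart s (Nat.card G) ∧
      ∃ P : Subgroup G, IsPGroup p P ∧ ¬ p ∣ P.index ∧ P ≤ centralizer (U : Set G)

theorem abelian_of_equiv {A B : Type*} [Group A] [Group B] (e : A ≃* B) (h : ∀ a b : A, a * b = b * a) (x y : B) :
    x * y = y * x := by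
  apply e.symm.injective
  rw [map_mul, map_mul, h]

/-- The inductive step. -/
theorem MM_step {a : ℕ} {s' : Finset ℕ} (hmin : ∀ x ∈ s', a < x) (ih : MM.{u} s') : MM.{u} (insert a s') := by
  intro hs p hp hps G _ _ hcount
  classical
  haveI : Fact p.Prime := ⟨hp⟩
  have haP : a.Prime := hs a (Finset.mem_insert_self _ _)
  haveI : Fact a.Prime := ⟨haP⟩
  have hs' : ∀ t ∈ s', t.Prime := fun t ht => hs t (Finset.mem_insert_of_mem ht)
  have has' : a ∉ s' := fun h => lt_irrefl _ (hmin a h)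
  set s := insert a s' with hsdef
  have hpa : p < a := hps a (Finset.mem_insert_self _ _)
  have hps' : p ∉ s := fun h => lt_irrefl _ (hps p h)
  -- step (a)
  have h1 := card_piClasses_insert_le_swap (G := G) p hp s
  have hcount0 := hcount
  rw [piPart_insert hps'] at hcount
  have hpv : 0 < p ^ (Nat.card G).factorization p := pow_pos hp.pos _
  have hms : piPart s (Nat.card G) < p * Nat.card (PiClassSet s G) := by
    have h2 : p ^ (Nat.card G).factorization p * piPart s (Nat.card G) <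
        p ^ (Nat.card G).factorization p * (p * Nat.card (PiClassSet s G)) := by
      calc _ < p * Nat.card (PiClassSet (insert p s) G) := hcount
        _ ≤ p * (Nat.card (PiClassSet s G) * p ^ (Nat.card G).factorization p) := Nat.mul_le_mul_left _ h1
        _ = _ := by ring
    exact Nat.lt_of_mul_lt_mul_left h2
  have hms' : piPart (insert a s') (Nat.card G) < a * Nat.card (PiClassSet (insert a s') G) :=
    lt_of_lt_of_le hms (Nat.mul_le_mul_right _ hpa.le)
  obtain ⟨U', hU'ab, hU'card, P', hP'p, hP'i, hP'C⟩ := ih hs' a haP hmin G hms'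
  -- orders
  have hm' : piPart s' (Nat.card G) ≠ 0 := (piPart_pos s' hs' _).ne'
  let R : Sylow a G := hP'p.toSylow hP'i
  have hRcoe : (R : Subgroup G) = P' := rfl
  have hP'card : Nat.card P' = a ^ (Nat.card G).factorization a := R.card_eq_multiplicity
  have hmsplit : piPart s (Nat.card G) = Nat.card P' * Nat.card U' := by
    rw [hsdef, piPart_insert has', hP'card, hU'card]
  -- `P'` is abelian
  have hk1 : Nat.card (PiClassSet s G) ≤ Nat.card (PClassSet a G) * piPart s' (Nat.card G) :=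
    card_piClasses_insert_le a haP s' G has' _ (fun y => (card_piClasses_le s' hs' _).trans
      (piPart_mono _ hs' Nat.card_pos.ne' Nat.card_pos.ne' (Subgroup.card_subgroup_dvd_card _)))
  have hk2 : Nat.card (PClassSet a G) ≤ Nat.card (ConjClasses R) := card_pClass_le_classes R
  have hu'pos : 0 < Nat.card U' := Nat.card_pos
  have hlt : Nat.card P' < p * Nat.card (ConjClasses R) := by
    have h2 : Nat.card P' * Nat.card U' < (p * Nat.card (ConjClasses R)) * Nat.card U' := by
      rw [← hmsplit]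
      calc _ < p * Nat.card (PiClassSet s G) := hms
        _ ≤ p * (Nat.card (PClassSet a G) * piPart s' (Nat.card G)) := Nat.mul_le_mul_left _ hk1
        _ ≤ p * (Nat.card (ConjClasses R) * piPart s' (Nat.card G)) :=
          Nat.mul_le_mul_left _ (Nat.mul_le_mul_right _ hk2)
        _ = _ := by rw [hU'card]; ring
    exact Nat.lt_of_mul_lt_mul_right h2
  have hP'ab' : ∀ x y : R, x * y = y * x := by
    by_contra hna
    have h3 := card_classes_of_nonabelian haP R.2 hna
    have hnpos : 0 < Nat.card R := Nat.card_pos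
    have hlt' : Nat.card R < p * Nat.card (ConjClasses R) := hlt
    set K := Nat.card (ConjClasses R)
    set n := Nat.card R
    have h4 : a ^ 3 * n + p * n < p * (a ^ 2 + a) * n := by
      calc a ^ 3 * n + p * n < a ^ 3 * (p * K) + p * n := by
            exact Nat.add_lt_add_right (Nat.mul_lt_mul_of_pos_left hlt' (by have := haP.pos; positivity)) _
        _ = p * (a ^ 3 * K + n) := by ring
        _ ≤ p * ((a ^ 2 + a) * n) := Nat.mul_le_mul_left _ h3
        _ = _ := by ring
    have h5 : a ^ 3 + p < p * (a ^ 2 + a) := by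
      have : (a ^ 3 + p) * n < (p * (a ^ 2 + a)) * n := by
        calc _ = a ^ 3 * n + p * n := by ring
          _ < _ := h4
      exact Nat.lt_of_mul_lt_mul_right this
    obtain ⟨x, rfl⟩ : ∃ x, a = p + 1 + x := ⟨a - p - 1, by omega⟩
    zify at h5
    have hx : (0 : ℤ) ≤ x := by positivity
    have hp0 : (0 : ℤ) ≤ p := by positivity
    nlinarith [mul_nonneg hx hp0, mul_nonneg (mul_nonneg hx hp0) hp0, mul_nonneg hx hx,
      mul_nonneg (mul_nonneg hx hx) hp0, mul_nonneg (mul_nonneg hx hx) hx, mul_nonneg (mul_nonneg hp0 hp0) hp0]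
  have hP'ab : ∀ x ∈ P', ∀ y ∈ P', x * y = y * x := by
    intro x hx y hy
    exact congrArg Subtype.val (hP'ab' ⟨x, hx⟩ ⟨y, hy⟩)
  have hcommP'U' : ∀ h ∈ P', ∀ k ∈ U', h * k = k * h := fun h hh k hk =>
    (mem_centralizer_iff.mp (hP'C hh) k hk).symm
  -- coprimality
  have hcopgen : ∀ (x y : ℕ), (a ^ x).Coprime (piPart s' y) := by
    intro x y
    apply Nat.Coprime.pow_left
    apply Nat.Coprime.prod_right
    intro t ht
    apply Nat.Coprime.pow_right
    exact (Nat.coprime_primes haP (hs' t ht)).mpr (fun h => has' (h ▸ ht))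
  have hcopP'U' : (Nat.card P').Coprime (Nat.card U') := by
    rw [hP'card, hU'card]
    exact hcopgen _ _
  set U := P' ⊔ U' with hU
  have hUab : ∀ x ∈ U, ∀ y ∈ U, x * y = y * x := abelian_sup hcommP'U' hP'ab hU'ab
  have hUcard : Nat.card U = piPart s (Nat.card G) := by
    rw [hmsplit, hU]
    exact card_sup_of_commuting hcommP'U' hcopP'U'
  have hcopU : (Nat.card U).Coprime U.index := by
    apply Nat.coprime_of_dvd
    intro r hr h2 h3
    have h4 : r ∈ s := prime_mem_of_dvd hs hr (n := Nat.card G) (by rw [← hUcard]; exact h2)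
    exact not_dvd_index hs hUcard h4 h3
  refine ⟨U, hUab, hUcard, ?_⟩
  refine key s hs hps a hpa ?_ U hUab hUcard ?_ hcount0
  · intro t ht
    rcases Finset.mem_insert.mp ht with rfl | h
    · exact le_rfl
    · exact (hmin t h).le
  -- the hypothesis on centralizers
  intro y hy
  by_contra hcon
  push Not at hcon
  set X := centralizer ({y} : Set G) with hX
  have hkX : Nat.card (PiClassSet s X) ≤ piPart s (Nat.card X) := card_piClasses_le s hs X
  have hdvd : piPart s (Nat.card X) ∣ piPart s (Nat.card G) :=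
    piPart_dvd s Nat.card_pos.ne' Nat.card_pos.ne' (Subgroup.card_subgroup_dvd_card X)
  have hDeq : piPart s (Nat.card X) = piPart s (Nat.card G) := by
    by_contra hne
    obtain ⟨c, hc⟩ := hdvd
    have hDpos : 0 < piPart s (Nat.card X) := piPart_pos s hs _
    have hc1 : c ≠ 1 := by
      rintro rfl
      rw [mul_one] at hc
      exact hne hc.symm
    have hNpos : 0 < piPart s (Nat.card G) := piPart_pos s hs _
    have hc0 : 0 < c := by
      rcases Nat.eq_zero_or_pos c with rfl | h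
      · rw [mul_zero] at hc; omega
      · exact h
    obtain ⟨r, hr, hrc⟩ := Nat.exists_prime_and_dvd hc1
    have hrN : r ∣ piPart s (Nat.card G) := by
      rw [hc]
      exact hrc.trans (dvd_mul_left _ _)
    have hrs : r ∈ s := prime_mem_of_dvd hs hr hrN
    have har : a ≤ r := by
      rcases Finset.mem_insert.mp hrs with rfl | h
      · exact le_rfl
      · exact (hmin r h).le
    have hrle : r ≤ c := Nat.le_of_dvd hc0 hrc
    have h6 : a * piPart s (Nat.card X) ≤ piPart s (Nat.card G) := by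
      rw [hc, mul_comm]
      exact Nat.mul_le_mul_left _ (har.trans hrle)
    have h7 : a * Nat.card (PiClassSet s X) ≤ a * piPart s (Nat.card X) := Nat.mul_le_mul_left _ hkX
    rw [hUcard] at hcon
    omega
  have hXcount : piPart (insert a s') (Nat.card X) < a * Nat.card (PiClassSet (insert a s') X) := by
    show piPart s (Nat.card X) < a * Nat.card (PiClassSet s X)
    rw [hDeq, ← hUcard]
    exact hcon
  obtain ⟨U₁, hU₁ab, hU₁card, P₁, hP₁p, hP₁i, hP₁C⟩ := ih hs' a haP hmin X hXcount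
  -- exponents
  let R₁ : Sylow a X := hP₁p.toSylow hP₁i
  have hP₁card : Nat.card P₁ = a ^ (Nat.card X).factorization a := R₁.card_eq_multiplicity
  have hvle : (Nat.card X).factorization a ≤ (Nat.card G).factorization a :=
    (Nat.factorization_le_iff_dvd Nat.card_pos.ne' Nat.card_pos.ne').2 (Subgroup.card_subgroup_dvd_card X) a
  have hvs' : piPart s' (Nat.card X) ≤ piPart s' (Nat.card G) :=
    piPart_mono _ hs' Nat.card_pos.ne' Nat.card_pos.ne' (Subgroup.card_subgroup_dvd_card _)
  have hveq : (Nat.card X).factorization a = (Nat.card G).factorization a := by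
    by_contra hne
    have hlt2 : (Nat.card X).factorization a < (Nat.card G).factorization a := lt_of_le_of_ne hvle hne
    have h8 : a ^ (Nat.card X).factorization a < a ^ (Nat.card G).factorization a :=
      Nat.pow_lt_pow_right haP.one_lt hlt2
    have h9 := hDeq
    rw [hsdef, piPart_insert has', piPart_insert has'] at h9
    have hpos : 0 < piPart s' (Nat.card G) := piPart_pos s' hs' _
    have h10 : a ^ (Nat.card X).factorization a * piPart s' (Nat.card X) <
        a ^ (Nat.card G).factorization a * piPart s' (Nat.card G) :=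
      Nat.mul_lt_mul_of_lt_of_le h8 hvs' hpos
    omega
  -- the subgroups in `G`
  set P₂ := P₁.map X.subtype with hP₂
  set U₂ := U₁.map X.subtype with hU₂
  have hP₂card : Nat.card P₂ = a ^ (Nat.card G).factorization a := by
    rw [hP₂, Subgroup.card_map_of_injective X.subtype_injective, hP₁card, hveq]
  have hU₂card : Nat.card U₂ = piPart s' (Nat.card X) := by
    rw [hU₂, Subgroup.card_map_of_injective X.subtype_injective, hU₁card]
  let R₂ : Sylow a G := Sylow.ofCard P₂ hP₂card
  have hP₂ab : ∀ x ∈ P₂, ∀ y ∈ P₂, x * y = y * x := by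
    intro x hx y hy
    have := abelian_of_equiv (Sylow.equiv R R₂) hP'ab' ⟨x, hx⟩ ⟨y, hy⟩
    exact congrArg Subtype.val this
  have hU₂ab : ∀ x ∈ U₂, ∀ y ∈ U₂, x * y = y * x := by
    rintro _ ⟨x, hx, rfl⟩ _ ⟨y, hy, rfl⟩
    exact congrArg Subtype.val (hU₁ab x hx y hy)
  have hcomm₂ : ∀ h ∈ P₂, ∀ k ∈ U₂, h * k = k * h := by
    rintro _ ⟨x, hx, rfl⟩ _ ⟨y, hy, rfl⟩
    exact congrArg Subtype.val (mem_centralizer_iff.mp (hP₁C hx) y hy).symm
  have hcop₂ : (Nat.card P₂).Coprime (Nat.card U₂) := by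
    rw [hP₂card, hU₂card]
    exact hcopgen _ _
  set V := P₂ ⊔ U₂ with hV
  have hVab : ∀ x ∈ V, ∀ y ∈ V, x * y = y * x := abelian_sup hcomm₂ hP₂ab hU₂ab
  have hVcard : Nat.card U = Nat.card V := by
    rw [hV, card_sup_of_commuting hcomm₂ hcop₂, hP₂card, hU₂card, hUcard, ← hDeq, hsdef, piPart_insert has', hveq]
  have hVX : V ≤ X := sup_le (map_subtype_le _) (map_subtype_le _)
  have htop : Nat.card (⊤ : Subgroup G) = Nat.card U * U.index := by
    rw [Subgroup.card_top, Subgroup.card_mul_index]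
  obtain ⟨g, -, hg⟩ := Cfsg.Agent.Lib.AbelianHall.abelian_hall_conj _ ⊤ U V rfl le_top le_top hUab hVab hVcard _ htop hcopU
  exact hy g (hg ▸ hVX)

theorem MM_all (s : Finset ℕ) : MM.{u} s := by
  induction s using Finset.induction_on_min with
  | empty =>
    intro _ p hp _ G _ _ _
    haveI : Fact p.Prime := ⟨hp⟩
    obtain ⟨P⟩ : Nonempty (Sylow p G) := inferInstance
    refine ⟨⊥, ?_, ?_, P, P.2, P.not_dvd_index, ?_⟩
    · intro a ha b hb
      rw [Subgroup.mem_bot] at ha hb
      rw [ha, hb]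
    · simp [piPart]
    · intro x _
      rw [mem_centralizer_iff]
      intro h hh
      have : h = 1 := hh
      rw [this]; simp
  | insert a s hmin ih => exact MM_step hmin ih

end Cfsg.Agent.Lib.KPiMain
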