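import Mathlib
import Cfsg.Agent.Lib.KPiMain

/-!
The data extracted from many conjugacy classes of `π`-elements: a Sylow subgroup for the
least prime, centralized by an abelian Hall subgroup for the other primes.
-/

set_option autoImplicit false

namespace Cfsg.Agent.Lib.KPiFinal

open Subgroup Cfsg.Agent.Lib.PClasses Cfsg.Agent.Lib.PiClasses Cfsg.Agent.Lib.KPi Cfsg.Agent.Lib.KPiMain

universe u

variable {G : Type u} [Group G] [Finite G]

theorem hall_data (π : Set ℕ) (hπ : ∀ q ∈ π, q.Prime) (p : ℕ) (hp : p ∈ π) (hmin : ∀ q ∈ π, p ≤ q)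
    (m : ℕ) (hm : m ∣ Nat.card G) (hmπ : ∀ q : ℕ, q.Prime → q ∣ m → q ∈ π)
    (hm' : ∀ q ∈ π, ¬ q ∣ Nat.card G / m)
    (k : ℕ) (hk : k = Nat.card {C : ConjClasses G // ∀ q : ℕ, q.Prime →
      (∃ g : G, ConjClasses.mk g = C ∧ q ∣ orderOf g) → q ∈ π})
    (hmany : m < p * k) :
    ∃ U P : Subgroup G, (∀ a ∈ U, ∀ b ∈ U, a * b = b * a) ∧ IsPGroup p P ∧
      P ≤ centralizer (U : Set G) ∧ Nat.card P * Nat.card U = m ∧
      (Nat.card P).Coprime (Nat.card U) ∧ k ≤ Nat.card (ConjClasses P) * Nat.card U := by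
  classical
  have hpp : p.Prime := hπ p hp
  haveI : Fact p.Prime := ⟨hpp⟩
  let s₁ : Finset ℕ := (Nat.card G).primeFactors.filter (· ∈ π)
  have hs1 : ∀ t ∈ s₁, t.Prime := fun t ht => Nat.prime_of_mem_primeFactors (Finset.mem_filter.mp ht).1
  have hs1π : ∀ t ∈ s₁, t ∈ π := fun t ht => (Finset.mem_filter.mp ht).2
  have hs1d : ∀ t ∈ s₁, t ∣ Nat.card G := fun t ht => Nat.dvd_of_mem_primeFactors (Finset.mem_filter.mp ht).1
  have hGne : Nat.card G ≠ 0 := Nat.card_pos.ne'
  have hmne : m ≠ 0 := by
    rintro rfl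
    exact hGne (Nat.eq_zero_of_zero_dvd hm)
  have hmem : ∀ t : ℕ, t.Prime → t ∣ Nat.card G → t ∈ π → t ∈ s₁ := fun t ht hd hti =>
    Finset.mem_filter.mpr ⟨Nat.mem_primeFactors.mpr ⟨ht, hd, hGne⟩, hti⟩
  -- `m` is the `π`-part
  have hms : m = piPart s₁ (Nat.card G) := by
    apply Nat.dvd_antisymm
    · conv_lhs => rw [← Nat.prod_factorization_pow_eq_self hmne]
      unfold piPart
      rw [Finsupp.prod, Nat.support_factorization]
      refine dvd_trans (Finset.prod_dvd_prod_of_dvd _ (fun r => r ^ (Nat.card G).factorization r) ?_)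
        (Finset.prod_dvd_prod_of_subset _ _ _ ?_)
      · intro r _
        exact pow_dvd_pow r ((Nat.factorization_le_iff_dvd hmne hGne).2 hm r)
      · intro r hr
        have hrp := Nat.prime_of_mem_primeFactors hr
        have hrd := Nat.dvd_of_mem_primeFactors hr
        exact hmem r hrp (hrd.trans hm) (hmπ r hrp hrd)
    · unfold piPart
      apply Finset.prod_dvd_of_isRelPrime
      · intro a ha b hb hab
        exact Nat.coprime_iff_isRelPrime.mp (Nat.Coprime.pow _ _ ((Nat.coprime_primes (hs1 a ha) (hs1 b hb)).mpr hab))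
      · intro t ht
        have htp := hs1 t ht
        have h1 := hm' t (hs1π t ht)
        have h2 : t ^ (Nat.card G).factorization t ∣ Nat.card G := Nat.ordProj_dvd _ _
        have h3 : Nat.card G = m * (Nat.card G / m) := (Nat.mul_div_cancel' hm).symm
        have h4 : Nat.Coprime (t ^ (Nat.card G).factorization t) (Nat.card G / m) :=
          Nat.Coprime.pow_left _ ((Nat.Prime.coprime_iff_not_dvd htp).mpr h1)
        have h5 : t ^ (Nat.card G).factorization t ∣ m * (Nat.card G / m) := by
          rw [← h3]; exact h2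
        exact h4.dvd_of_dvd_mul_right h5
  -- `k` is the number of classes
  have hks : k = Nat.card (PiClassSet s₁ G) := by
    rw [hk]
    refine Nat.card_congr (Equiv.subtypeEquivRight fun C => ?_)
    constructor
    · intro h x hx r hr hd
      have hx' : ConjClasses.mk x = C := ConjClasses.mem_carrier_iff_mk_eq.mp hx
      exact hmem r hr (hd.trans (orderOf_dvd_natCard x)) (h r hr ⟨x, hx', hd⟩)
    · rintro h q hq ⟨g, hg, hd⟩
      have hg' : g ∈ C.carrier := ConjClasses.mem_carrier_iff_mk_eq.mpr hg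
      exact hs1π q (h g hg' q hq hd)
  by_cases hpG : p ∣ Nat.card G
  · -- the main case
    have hps : p ∈ s₁ := hmem p hpp hpG hp
    have hins : insert p (s₁.erase p) = s₁ := Finset.insert_erase hps
    have hlt : ∀ t ∈ s₁.erase p, p < t := by
      intro t ht
      have h1 := Finset.mem_of_mem_erase ht
      exact lt_of_le_of_ne (hmin t (hs1π t h1)) (Finset.ne_of_mem_erase ht).symm
    have hMM := MM_all.{u} (s₁.erase p) (fun t ht => hs1 t (Finset.mem_of_mem_erase ht)) p hpp hlt G
      (by rw [hins, ← hms, ← hks]; exact hmany)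
    obtain ⟨U, hUab, hUcard, P, hPp, hPidx, hPC⟩ := hMM
    refine ⟨U, P, hUab, hPp, hPC, ?_, ?_, ?_⟩
    · rw [hUcard, hms, piPart_eq_mul_erase s₁ hps]
      congr 1
      exact (hPp.toSylow hPidx).card_eq_multiplicity
    · have hPc : Nat.card P = p ^ (Nat.card G).factorization p :=
        (hPp.toSylow hPidx).card_eq_multiplicity
      rw [hPc, hUcard]
      refine Nat.Coprime.pow_left _ ?_
      unfold piPart
      refine Nat.Coprime.prod_right fun t ht => Nat.Coprime.pow_right _ ?_
      exact (Nat.coprime_primes hpp (hs1 t (Finset.mem_of_mem_erase ht))).mpr (Finset.ne_of_mem_erase ht).symm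
    · rw [hks, hUcard]
      refine (card_piClasses_le_erase s₁ hs1 hps G).trans (Nat.mul_le_mul_right _ ?_)
      exact card_pClass_le_classes (hPp.toSylow hPidx)
  · -- `p` does not divide the order
    have hps : p ∉ s₁ := fun h => hpG (hs1d p h)
    have hlt : ∀ t ∈ s₁, p < t := by
      intro t ht
      refine lt_of_le_of_ne (hmin t (hs1π t ht)) ?_
      rintro rfl
      exact hps ht
    have hle : k ≤ Nat.card (PiClassSet (insert p s₁) G) := by
      rw [hks]
      refine Nat.card_le_card_of_injective (fun c => ⟨c.1, fun x hx r hr hd =>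
        Finset.mem_insert_of_mem (c.2 x hx r hr hd)⟩) ?_
      intro c d h
      exact Subtype.ext (congrArg (fun e => e.1) h)
    have hpart : piPart (insert p s₁) (Nat.card G) = m := by
      rw [piPart_insert hps, Nat.factorization_eq_zero_of_not_dvd hpG, pow_zero, one_mul, ← hms]
    have hMM := MM_all.{u} s₁ hs1 p hpp hlt G (by
      rw [hpart]
      exact lt_of_lt_of_le hmany (Nat.mul_le_mul_left _ hle))
    obtain ⟨U, hUab, hUcard, -⟩ := hMM
    refine ⟨U, ⊥, hUab, IsPGroup.of_bot, ?_, ?_, ?_, ?_⟩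
    · intro x hx
      rw [Subgroup.mem_bot] at hx
      rw [hx]
      exact Subgroup.one_mem _
    · rw [Subgroup.card_bot, one_mul, hUcard, ← hms]
    · rw [Subgroup.card_bot]
      exact Nat.coprime_one_left _
    · have h1 : k ≤ m := by
        rw [hks, hms]
        exact card_piClasses_le s₁ hs1 G
      rw [hUcard, ← hms]
      have h2 : 1 ≤ Nat.card (ConjClasses (⊥ : Subgroup G)) := Nat.card_pos
      nlinarith

end Cfsg.Agent.Lib.KPiFinal
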