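import Mathlib
import Cfsg.Prelude.Def_LocalStructure
import Cfsg.Agent.Lib.PCore
import Cfsg.Agent.Lib.PResid
import Cfsg.Agent.Lib.LocalTools
import Cfsg.Agent.Lib.LocalTools2
import Cfsg.Agent.Lib.PClosed
import Cfsg.Agent.Lib.SubnormalP
import Cfsg.Agent.Lib.PLocalTools
import Cfsg.Agent.Lib.CharTwoLocal

/-!
# `p`-reduced normal subgroups

The criterion without quotients: `V` normal elementary abelian is `p`-reduced iff every normal subgroup
all of whose elements have a `p`-power in `C(V)` centralizes `V`.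
-/

set_option autoImplicit false
set_option linter.unusedSectionVars false
set_option linter.style.haveILetI false

open Cfsg
open scoped commutatorElement

namespace Cfsg.Agent.Lib.PReduced

open Cfsg.Agent.Lib.PCore Cfsg.Agent.Lib.PResid Cfsg.Agent.Lib.LocalTools
  Cfsg.Agent.Lib.LocalTools2 Cfsg.Agent.Lib.PClosed Cfsg.Agent.Lib.SubnormalP

variable {L : Type*} [Group L] {p : ℕ}

theorem isElementaryAbelian_iff {V : Subgroup L} :
    IsElementaryAbelian p V ↔ (∀ a ∈ V, ∀ b ∈ V, a * b = b * a) ∧ ∀ a ∈ V, a ^ p = 1 := by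
  constructor
  · rintro ⟨h1, h2⟩
    refine ⟨fun a ha b hb => ?_, h2⟩
    exact congrArg Subtype.val (h1.is_comm.comm ⟨a, ha⟩ ⟨b, hb⟩)
  · rintro ⟨h1, h2⟩
    exact ⟨⟨⟨fun a b => Subtype.ext (h1 a a.2 b b.2)⟩⟩, h2⟩

theorem isPGroup_of_pow_eq_one {V : Subgroup L} (h : ∀ a ∈ V, a ^ p = 1) : IsPGroup p V := by
  intro x
  refine ⟨1, Subtype.ext ?_⟩
  simpa using h x x.2

variable [Finite L] [hp : Fact p.Prime]

/-- **Criterion**: `V` is `p`-reduced iff every normal subgroup acting on `V` as a `p`-group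
centralizes `V`. -/
theorem isPReducedNormal_iff {V : Subgroup L} :
    IsPReducedNormal p V ↔ V.Normal ∧ IsElementaryAbelian p V ∧
      ∀ D : Subgroup L, D.Normal →
        (∀ d ∈ D, ∃ n : ℕ, d ^ p ^ n ∈ Subgroup.centralizer (V : Set L)) →
          D ≤ Subgroup.centralizer (V : Set L) := by
  constructor
  · rintro ⟨hn, he, hC, hbot⟩
    refine ⟨hn, he, ?_⟩
    intro D hD hpow
    set π : L →* L ⧸ Subgroup.centralizer (V : Set L) :=
      QuotientGroup.mk' (Subgroup.centralizer (V : Set L)) with hπ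
    have hsurj : Function.Surjective π := QuotientGroup.mk'_surjective _
    have h1 : D.map π ≤ pCore p (L ⧸ Subgroup.centralizer (V : Set L)) := by
      apply le_pCore (hD.map π hsurj)
      rintro ⟨_, d, hd, rfl⟩
      obtain ⟨n, hn⟩ := hpow d hd
      refine ⟨n, Subtype.ext ?_⟩
      show π d ^ p ^ n = 1
      rw [← map_pow]
      exact (QuotientGroup.eq_one_iff _).mpr hn
    rw [hbot] at h1
    intro d hd
    have h2 : π d ∈ (⊥ : Subgroup (L ⧸ Subgroup.centralizer (V : Set L))) := h1 ⟨d, hd, rfl⟩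
    exact (QuotientGroup.eq_one_iff _).mp ((Subgroup.mem_bot).mp h2)
  · rintro ⟨hn, he, h⟩
    have hC : (Subgroup.centralizer (V : Set L)).Normal := inferInstance
    refine ⟨hn, he, hC, ?_⟩
    set π : L →* L ⧸ Subgroup.centralizer (V : Set L) :=
      QuotientGroup.mk' (Subgroup.centralizer (V : Set L)) with hπ
    have hsurj : Function.Surjective π := QuotientGroup.mk'_surjective _
    have h1 : (pCore p (L ⧸ Subgroup.centralizer (V : Set L))).comap π ≤
        Subgroup.centralizer (V : Set L) := by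
      apply h _ (Subgroup.Normal.comap (pCore_normal p _) π)
      intro d hd
      obtain ⟨n, hn⟩ := exists_pow_eq_one_of_isPGroup (isPGroup_pCore p) hd
      refine ⟨n, (QuotientGroup.eq_one_iff _).mp ?_⟩
      have e : ((d ^ p ^ n : L) : L ⧸ Subgroup.centralizer (V : Set L)) = π d ^ p ^ n := by
        rw [← map_pow]; rfl
      rw [e]
      exact hn
    rw [eq_bot_iff]
    intro x hx
    obtain ⟨y, rfl⟩ := hsurj x
    exact (Subgroup.mem_bot).mpr ((QuotientGroup.eq_one_iff _).mpr (h1 hx))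

theorem pr_normal {V : Subgroup L} (h : IsPReducedNormal p V) : V.Normal := h.1

theorem pr_comm {V : Subgroup L} (h : IsPReducedNormal p V) :
    ∀ a ∈ V, ∀ b ∈ V, a * b = b * a := (isElementaryAbelian_iff.mp h.2.1).1

theorem pr_pow {V : Subgroup L} (h : IsPReducedNormal p V) :
    ∀ a ∈ V, a ^ p = 1 := h.2.1.2

theorem pr_isPGroup {V : Subgroup L} (h : IsPReducedNormal p V) : IsPGroup p V :=
  isPGroup_of_pow_eq_one (pr_pow h)

/-- Reducedness as a function. -/
theorem pr_le_centralizer {V : Subgroup L} (h : IsPReducedNormal p V)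
    {D : Subgroup L} (hD : D.Normal)
    (hpow : ∀ d ∈ D, ∃ n : ℕ, d ^ p ^ n ∈ Subgroup.centralizer (V : Set L)) :
    D ≤ Subgroup.centralizer (V : Set L) :=
  (isPReducedNormal_iff.mp h).2.2 D hD hpow

theorem pr_pCore_le {V : Subgroup L} (h : IsPReducedNormal p V) :
    pCore p L ≤ Subgroup.centralizer (V : Set L) :=
  pr_le_centralizer h (pCore_normal p L) (fun d hd => by
    obtain ⟨n, hn⟩ := exists_pow_eq_one_of_isPGroup (isPGroup_pCore p) hd
    exact ⟨n, by rw [hn]; exact Subgroup.one_mem _⟩)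

theorem pr_le_pCore {V : Subgroup L} (h : IsPReducedNormal p V) : V ≤ pCore p L :=
  Cfsg.Agent.Lib.PCore.le_pCore (pr_normal h) (pr_isPGroup h)

theorem isPReducedNormal_bot : IsPReducedNormal p (⊥ : Subgroup L) := by
  rw [isPReducedNormal_iff]
  refine ⟨inferInstance, ?_, ?_⟩
  · rw [isElementaryAbelian_iff]
    constructor
    · intro a ha b hb
      rw [Subgroup.mem_bot] at ha hb
      rw [ha, hb]
    · intro a ha
      rw [Subgroup.mem_bot] at ha
      rw [ha, one_pow]
  · intro D _ _ d _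
    rw [Subgroup.mem_centralizer_iff]
    intro x hx
    have hx' : x = 1 := by simpa using hx
    rw [hx']; group

/-- The join of two `p`-reduced normal subgroups is `p`-reduced. -/
theorem pr_sup {V₁ V₂ : Subgroup L} (h₁ : IsPReducedNormal p V₁)
    (h₂ : IsPReducedNormal p V₂) : IsPReducedNormal p (V₁ ⊔ V₂) := by
  have hcomm : V₁ ≤ Subgroup.centralizer (V₂ : Set L) := (pr_le_pCore h₁).trans (pr_pCore_le h₂)
  have hV2n := pr_normal h₂
  have hV1n := pr_normal h₁
  have hCC : Subgroup.centralizer ((V₁ ⊔ V₂ : Subgroup L) : Set L) ≤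
      Subgroup.centralizer (V₁ : Set L) ⊓ Subgroup.centralizer (V₂ : Set L) :=
    le_inf (Subgroup.centralizer_le (by exact_mod_cast (le_sup_left : V₁ ≤ V₁ ⊔ V₂)))
      (Subgroup.centralizer_le (by exact_mod_cast (le_sup_right : V₂ ≤ V₁ ⊔ V₂)))
  have hCC' : Subgroup.centralizer (V₁ : Set L) ⊓ Subgroup.centralizer (V₂ : Set L) ≤
      Subgroup.centralizer ((V₁ ⊔ V₂ : Subgroup L) : Set L) := by
    rw [Subgroup.le_centralizer_iff, sup_le_iff]
    constructor
    · rw [← Subgroup.le_centralizer_iff]; exact inf_le_left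
    · rw [← Subgroup.le_centralizer_iff]; exact inf_le_right
  rw [isPReducedNormal_iff]
  refine ⟨Subgroup.sup_normal V₁ V₂, ?_, ?_⟩
  · rw [isElementaryAbelian_iff]
    have hmem : ∀ x ∈ V₁ ⊔ V₂, ∃ a ∈ V₁, ∃ b ∈ V₂, x = a * b := fun x hx => by
      obtain ⟨a, ha, b, hb, rfl⟩ := Subgroup.mem_sup_of_normal_left.mp hx
      exact ⟨a, ha, b, hb, rfl⟩
    constructor
    · intro x hx y hy
      obtain ⟨a, ha, b, hb, rfl⟩ := hmem x hx
      obtain ⟨c, hc, d, hd, rfl⟩ := hmem y hy
      have h1 : a * c = c * a := pr_comm h₁ a ha c hc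
      have h2 : b * d = d * b := pr_comm h₂ b hb d hd
      have h3 : b * c = c * b := (Subgroup.mem_centralizer_iff.mp (hcomm hc) b hb)
      have h4 : a * d = d * a := (Subgroup.mem_centralizer_iff.mp (hcomm ha) d hd).symm
      calc a * b * (c * d) = a * (b * c) * d := by group
        _ = a * (c * b) * d := by rw [h3]
        _ = (a * c) * (b * d) := by group
        _ = (c * a) * (d * b) := by rw [h1, h2]
        _ = c * (a * d) * b := by group
        _ = c * (d * a) * b := by rw [h4]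
        _ = c * d * (a * b) := by group
    · intro x hx
      obtain ⟨a, ha, b, hb, rfl⟩ := hmem x hx
      have hc : Commute a b := (Subgroup.mem_centralizer_iff.mp (hcomm ha) b hb).symm
      rw [hc.mul_pow, pr_pow h₁ a ha, pr_pow h₂ b hb, one_mul]
  · intro D hD hpow
    apply le_trans _ hCC'
    apply le_inf
    · exact pr_le_centralizer h₁ hD (fun d hd => by
        obtain ⟨n, hn⟩ := hpow d hd
        exact ⟨n, (hCC hn).1⟩)
    · exact pr_le_centralizer h₂ hD (fun d hd => by
        obtain ⟨n, hn⟩ := hpow d hd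
        exact ⟨n, (hCC hn).2⟩)

/-- `Y_L` is `p`-reduced. -/
theorem isPReducedNormal_largest : IsPReducedNormal p (largestPReduced p L) :=
  sSup_mem_of_sup_closed {V : Subgroup L | IsPReducedNormal p V} isPReducedNormal_bot
    (fun _ hA _ hB => pr_sup hA hB)

theorem le_largest {V : Subgroup L} (h : IsPReducedNormal p V) : V ≤ largestPReduced p L :=
  le_sSup h

/-- If `D` normal acts as a `p`-group on `C` (normal) and `T` is Sylow: `D ≤ (T ∩ D)(C ∩ D)`. -/
theorem exists_mul_of_pow_mem (T : Sylow p L) {D C : Subgroup L} [hD : D.Normal]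
    (hpow : ∀ d ∈ D, ∃ n : ℕ, d ^ p ^ n ∈ C) {d : L} (hd : d ∈ D) :
    ∃ s ∈ (T : Subgroup L) ⊓ D, ∃ c ∈ C ⊓ D, d = s * c := by
  obtain ⟨S, hS⟩ := exists_sylow_inf_of_normal T D
  obtain ⟨t, ht, n, hn, hdt⟩ := exists_sylow_mul_pResidual S ⟨d, hd⟩
  have hres : (pResidual p D).map D.subtype ≤ C ⊓ D := by
    rw [map_pResidual_eq_closure, Subgroup.closure_le]
    rintro x ⟨hx1, hx2⟩
    obtain ⟨k, hk⟩ := hpow x hx1
    refine ⟨?_, hx1⟩
    exact Cfsg.Agent.Lib.CharTwoLocal.mem_of_pow_mem_of_coprime hk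
      (Nat.Coprime.pow_right k hx2)
  have h1 : (t : L) ∈ (T : Subgroup L) ⊓ D := by
    rw [← hS]
    exact ⟨t, ht, rfl⟩
  exact ⟨t, h1, n, hres ⟨n, hn, rfl⟩, congrArg Subtype.val hdt⟩

/-- The normal closure of a `p`-reduced subgroup of a subgroup containing a Sylow subgroup, when
`C_L(O_p(L)) ≤ O_p(L)`, is `p`-reduced. -/
theorem normalClosure_isPReducedNormal
    (hchar : Subgroup.centralizer (pCore p L : Set L) ≤ pCore p L) (T : Sylow p L) (R : Subgroup L)
    (hTR : (T : Subgroup L) ≤ R) (X : Subgroup R) (hX : IsPReducedNormal p X) :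
    IsPReducedNormal p (Subgroup.normalClosure ((X.map R.subtype : Subgroup L) : Set L)) := by
  set X' : Subgroup L := X.map R.subtype with hX'
  set V : Subgroup L := Subgroup.normalClosure (X' : Set L) with hV
  have hXV : X' ≤ V := Subgroup.subset_normalClosure
  have hOR : pCore p L ≤ R := (pCore_le_sylow p T).trans hTR
  -- a subgroup normal in `L`, acting as a `p`-group on `V`: its intersection with `R` centralizes `X`
  have hkey : ∀ D : Subgroup L, D.Normal → (∀ d ∈ D, ∃ n : ℕ, d ^ p ^ n ∈ Subgroup.centralizer (X' : Set L)) →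
      ∀ d ∈ D, d ∈ R → d ∈ Subgroup.centralizer (X' : Set L) := by
    intro D hD hpow d hd hdR
    have h1 : D.subgroupOf R ≤ Subgroup.centralizer (X : Set R) := by
      apply pr_le_centralizer hX (hD.subgroupOf R)
      intro x hx
      obtain ⟨n, hn⟩ := hpow x hx
      refine ⟨n, ?_⟩
      rw [Subgroup.mem_centralizer_iff]
      intro y hy
      apply Subtype.ext
      have h2 := Subgroup.mem_centralizer_iff.mp hn y ⟨y, hy, rfl⟩
      simpa using h2
    have h3 := h1 (show (⟨d, hdR⟩ : R) ∈ D.subgroupOf R from hd)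
    rw [Subgroup.mem_centralizer_iff]
    rintro _ ⟨y, hy, rfl⟩
    have h4 := Subgroup.mem_centralizer_iff.mp h3 y hy
    exact congrArg Subtype.val h4
  have hOX : pCore p L ≤ Subgroup.centralizer (X' : Set L) := by
    intro o ho
    apply hkey _ (pCore_normal p L) _ o ho (hOR ho)
    intro d hd
    obtain ⟨n, hn⟩ := exists_pow_eq_one_of_isPGroup (isPGroup_pCore p) hd
    exact ⟨n, by rw [hn]; exact Subgroup.one_mem _⟩
  have hXO : X' ≤ Subgroup.centralizer (pCore p L : Set L) := by
    rwa [Subgroup.le_centralizer_iff] at hOX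
  have hVC : V ≤ Subgroup.centralizer (pCore p L : Set L) := by
    haveI := pCore_normal p L
    exact Subgroup.normalClosure_le_normal hXO
  have hVO : V ≤ pCore p L := hVC.trans hchar
  have hVcomm : ∀ a ∈ V, ∀ b ∈ V, a * b = b * a := fun a ha b hb =>
    (Subgroup.mem_centralizer_iff.mp (hVC hb) a (hVO ha)).symm ▸ rfl
  have hpowV : ∀ a ∈ V, a ^ p = 1 := by
    -- the subgroup of elements of order dividing `p`
    let E : Subgroup L :=
      { carrier := {a | a ∈ V ∧ a ^ p = 1}
        one_mem' := ⟨V.one_mem, one_pow _⟩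
        inv_mem' := fun {a} ha => ⟨V.inv_mem ha.1, by rw [inv_pow, ha.2, inv_one]⟩
        mul_mem' := fun {a b} ha hb => ⟨V.mul_mem ha.1 hb.1, by
          have hc : Commute a b := hVcomm a ha.1 b hb.1
          rw [hc.mul_pow, ha.2, hb.2, one_mul]⟩ }
    have hEn : E.Normal := by
      constructor
      rintro a ⟨ha1, ha2⟩ g
      refine ⟨(inferInstance : V.Normal).conj_mem a ha1 g, ?_⟩
      rw [conj_pow, ha2]; group
    have hXE : X' ≤ E := by
      rintro _ ⟨x, hx, rfl⟩
      refine ⟨hXV ⟨x, hx, rfl⟩, ?_⟩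
      have := pr_pow hX x hx
      simpa using congrArg Subtype.val this
    have hVE : V ≤ E := Subgroup.normalClosure_le_normal hXE
    exact fun a ha => (hVE ha).2
  rw [isPReducedNormal_iff]
  refine ⟨inferInstance, isElementaryAbelian_iff.mpr ⟨hVcomm, hpowV⟩, ?_⟩
  intro D hD hpow
  -- the centralizers
  have hCX : Subgroup.centralizer (V : Set L) ≤ Subgroup.centralizer (X' : Set L) :=
    Subgroup.centralizer_le (by exact_mod_cast hXV)
  have hDX : D ≤ Subgroup.centralizer (X' : Set L) := by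
    intro d hd
    obtain ⟨s, hs, c, hc, rfl⟩ := exists_mul_of_pow_mem (D := D) T hpow hd
    refine Subgroup.mul_mem _ ?_ (hCX hc.1)
    apply hkey D hD (fun x hx => by
      obtain ⟨n, hn⟩ := hpow x hx
      exact ⟨n, hCX hn⟩) s hs.2 (hTR hs.1)
  -- `C(D)` is normal and contains `X'`
  have hXD : X' ≤ Subgroup.centralizer (D : Set L) := by
    rwa [Subgroup.le_centralizer_iff] at hDX
  have hVD : V ≤ Subgroup.centralizer (D : Set L) := Subgroup.normalClosure_le_normal hXD
  rwa [Subgroup.le_centralizer_iff] at hVD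

end Cfsg.Agent.Lib.PReduced
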