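import Mathlib
import Cfsg.Agent.Lib.PReduced

/-!
# `p`-reduced normal subgroups, part 2: subnormal subgroups, transfer along `L = R C(V)`,
the structure of `L_T = N_L(C_T(Y))`
-/

set_option autoImplicit false
set_option linter.unusedSectionVars false
set_option linter.style.haveILetI false

open Cfsg
open scoped commutatorElement

namespace Cfsg.Agent.Lib.PReduced2

open Cfsg.Agent.Lib.PCore Cfsg.Agent.Lib.PResid Cfsg.Agent.Lib.LocalTools
  Cfsg.Agent.Lib.LocalTools2 Cfsg.Agent.Lib.PClosed Cfsg.Agent.Lib.SubnormalP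
  Cfsg.Agent.Lib.PReduced

variable {L : Type*} [Group L] [Finite L] {p : ℕ} [hp : Fact p.Prime]

/-- The `O_p(L/C(V)) = 1` clause. -/
theorem pCore_quot_eq_bot {V : Subgroup L} [hn : V.Normal] (hV : IsPReducedNormal p V) :
    pCore p (L ⧸ Subgroup.centralizer (V : Set L)) = ⊥ := by
  obtain ⟨_, hb⟩ := hV.2.2
  exact hb

/-- A subnormal subgroup, all of whose elements act as `p`-elements modulo `C(V)`, lies in `C(V)`. -/
theorem le_centralizer_of_subnormal {V D : Subgroup L} (hV : IsPReducedNormal p V)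
    (hD : D.IsSubnormal) (hpow : ∀ d ∈ D, ∃ n : ℕ, d ^ p ^ n ∈ Subgroup.centralizer (V : Set L)) :
    D ≤ Subgroup.centralizer (V : Set L) := by
  have hVn := pr_normal hV
  set π : L →* L ⧸ Subgroup.centralizer (V : Set L) :=
    QuotientGroup.mk' (Subgroup.centralizer (V : Set L)) with hπ
  have hsurj : Function.Surjective π := QuotientGroup.mk'_surjective _
  have h1 : (D.map π).IsSubnormal := hD.map hsurj
  have h2 : IsPGroup p (D.map π) := by
    rintro ⟨_, d, hd, rfl⟩
    obtain ⟨n, hn⟩ := hpow d hd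
    refine ⟨n, Subtype.ext ?_⟩
    show π d ^ p ^ n = 1
    rw [← map_pow]
    exact (QuotientGroup.eq_one_iff _).mpr hn
  have h3 := eq_bot_of_isSubnormal_of_isPGroup (pCore_quot_eq_bot hV) h1 h2
  intro d hd
  have h4 : π d ∈ D.map π := ⟨d, hd, rfl⟩
  rw [h3] at h4
  exact (QuotientGroup.eq_one_iff _).mp ((Subgroup.mem_bot).mp h4)

/-- The action is a `p`-action as soon as `p'`-elements act trivially. -/
theorem exists_pow_mem_of_coprime_mem {D C : Subgroup L}
    (h : ∀ e ∈ D, (orderOf e).Coprime p → e ∈ C) [hC : C.Normal] :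
    ∀ d ∈ D, ∃ n : ℕ, d ^ p ^ n ∈ C := by
  intro d hd
  obtain ⟨a, b, hab, hcomm, ⟨n, hn⟩, hb, ha', hb'⟩ := exists_decomp (p := p) d
  refine ⟨n, ?_⟩
  have hbD : b ∈ D := (Subgroup.zpowers_le.mpr hd) hb'
  have hbC := h b hbD hb
  rw [hab, hcomm.mul_pow, hn, one_mul]
  exact C.pow_mem hbC _

/-- Core lemma. `U ≤ V`, `[V, O^p(K)] ≤ U`, `D ≤ K` subnormal in `L` acting on `U` as a `p`-group. -/
theorem le_centralizer_of_subnormal_of_commutator_le {V U K D : Subgroup L}
    (hV : IsPReducedNormal p V) (hUV : U ≤ V)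
    (hcomm : ⁅V, (pResidual p K).map K.subtype⁆ ≤ U) (hDK : D ≤ K) (hDs : D.IsSubnormal)
    (hpow : ∀ d ∈ D, ∃ n : ℕ, d ^ p ^ n ∈ Subgroup.centralizer (U : Set L)) :
    D ≤ Subgroup.centralizer (V : Set L) := by
  have hVn := pr_normal hV
  apply le_centralizer_of_subnormal hV hDs
  apply exists_pow_mem_of_coprime_mem
  intro e he hec
  have heP : e ∈ (pResidual p K).map K.subtype := by
    rw [map_pResidual_eq_closure]
    exact Subgroup.subset_closure ⟨hDK he, hec⟩
  obtain ⟨n, hn⟩ := hpow e he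
  have heU : e ∈ Subgroup.centralizer (U : Set L) :=
    Cfsg.Agent.Lib.CharTwoLocal.mem_of_pow_mem_of_coprime hn (Nat.Coprime.pow_right n hec)
  rw [Subgroup.mem_centralizer_iff]
  intro v hv
  have hc : ⁅v⁻¹, e⁆ ∈ U := hcomm (Subgroup.commutator_mem_commutator (V.inv_mem hv) heP)
  have hc1 : v⁻¹ * (e * v * e⁻¹) = ⁅v⁻¹, e⁆ := by rw [commutatorElement_def]; group
  have h1 : e * v * e⁻¹ = v * ⁅v⁻¹, e⁆ := by rw [← hc1]; group
  have hcp : ⁅v⁻¹, e⁆ ^ p ^ 1 = 1 := by
    rw [pow_one]
    exact pr_pow hV _ (hUV hc)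
  have hce : Commute ⁅v⁻¹, e⁆ e := (Subgroup.mem_centralizer_iff.mp heU _ hc)
  have h2 := eq_one_of_conj_eq_mul hec ⟨1, hcp⟩ hce h1
  rw [h2, mul_one] at h1
  calc v * e = (e * v * e⁻¹) * e := by rw [h1]
    _ = e * v := by group

/-- `U` between `[V, O^p(K)]` and `V`, normal in `K`, is `p`-reduced in `K`. -/
theorem isPReducedNormal_subgroupOf {V U K : Subgroup L} (hV : IsPReducedNormal p V)
    (hK : K.IsSubnormal) (hUV : U ≤ V) (hUK : U ≤ K)
    (hKU : K ≤ Subgroup.normalizer (U : Set L))
    (hcomm : ⁅V, (pResidual p K).map K.subtype⁆ ≤ U) : IsPReducedNormal p (U.subgroupOf K) := by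
  rw [isPReducedNormal_iff]
  refine ⟨(Subgroup.normal_subgroupOf_iff_le_normalizer hUK).mpr hKU, ?_, ?_⟩
  · rw [isElementaryAbelian_iff]
    constructor
    · intro a ha b hb
      exact Subtype.ext (pr_comm hV a (hUV ha) b (hUV hb))
    · intro a ha
      exact Subtype.ext (pr_pow hV a (hUV ha))
  · intro D hD hpow
    have hDs : (D.map K.subtype).IsSubnormal := hD.isSubnormal.trans' hK
    have h1 := le_centralizer_of_subnormal_of_commutator_le hV hUV hcomm
      (Subgroup.map_subtype_le D) hDs (by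
        rintro _ ⟨d, hd, rfl⟩
        obtain ⟨n, hn⟩ := hpow d hd
        refine ⟨n, ?_⟩
        rw [Subgroup.mem_centralizer_iff]
        intro u hu
        have h2 := Subgroup.mem_centralizer_iff.mp hn ⟨u, hUK hu⟩ hu
        simpa using congrArg Subtype.val h2)
    intro d hd
    rw [Subgroup.mem_centralizer_iff]
    intro u hu
    apply Subtype.ext
    have h2 := Subgroup.mem_centralizer_iff.mp (h1 ⟨d, hd, rfl⟩) (u : L) (hUV hu)
    simpa using h2

/-- `V` normalizes `O^p(K)`, so that `[V, O^p(K)] ≤ O^p(K)`. -/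
theorem commutator_le_map_pResidual {V K : Subgroup L} (hV : IsPReducedNormal p V)
    (hK : K.IsSubnormal) :
    ⁅V, (pResidual p K).map K.subtype⁆ ≤ (pResidual p K).map K.subtype := by
  rw [← Subgroup.le_normalizer_iff_commutator_le_right]
  exact le_normalizer_of_subnormal (pr_normal hV).isSubnormal (pr_isPGroup hV)
    (isSubnormal_map_of_characteristic hK (pResidual_characteristic p))
    (map_pResidual_le_closure K)

/-- `K` normalizes `O^p(K)`. -/
theorem le_normalizer_map_pResidual (K : Subgroup L) :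
    K ≤ Subgroup.normalizer (((pResidual p K).map K.subtype : Subgroup L) : Set L) := by
  have h := (Subgroup.normal_subgroupOf_iff_le_normalizer (G := L)
    (H := (pResidual p K).map K.subtype) (K := K) (Subgroup.map_subtype_le _))
  apply h.mp
  have h2 : ((pResidual p K).map K.subtype).subgroupOf K = pResidual p K :=
    Subgroup.comap_map_eq_self_of_injective (Subgroup.subtype_injective K) _
  rw [h2]
  exact pResidual_normal p

/-- **S2804**. -/
theorem commutator_isPReducedNormal {V K : Subgroup L} (hV : IsPReducedNormal p V)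
    (hK : K.IsSubnormal) :
    ⁅V, (pResidual p K).map K.subtype⁆ ≤ K ∧
      IsPReducedNormal p ((⁅V, (pResidual p K).map K.subtype⁆).subgroupOf K) := by
  have hVn := pr_normal hV
  have h1 := commutator_le_map_pResidual hV hK
  have h2 : ⁅V, (pResidual p K).map K.subtype⁆ ≤ K := h1.trans (Subgroup.map_subtype_le _)
  refine ⟨h2, isPReducedNormal_subgroupOf hV hK (Subgroup.commutator_le_left _ _) h2 ?_ le_rfl⟩
  intro k hk
  exact mem_normalizer_commutator (by
    rw [Subgroup.normalizer_eq_top_iff.mpr hVn]; trivial) (le_normalizer_map_pResidual K hk)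

/-- Transfer: if `R C(V) = L` then a normal subgroup of `R` acting on `V` as a `p`-group centralizes `V`. -/
theorem map_le_centralizer_of_sup_eq_top {V R : Subgroup L} (hV : IsPReducedNormal p V)
    (hR : R ⊔ Subgroup.centralizer (V : Set L) = ⊤) {E : Subgroup R} (hE : E.Normal)
    (hpow : ∀ e ∈ E, ∃ n : ℕ, (e : L) ^ p ^ n ∈ Subgroup.centralizer (V : Set L)) :
    E.map R.subtype ≤ Subgroup.centralizer (V : Set L) := by
  have hVn := pr_normal hV
  set π : L →* L ⧸ Subgroup.centralizer (V : Set L) :=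
    QuotientGroup.mk' (Subgroup.centralizer (V : Set L)) with hπ
  have hsurj : Function.Surjective π := QuotientGroup.mk'_surjective _
  have hfac : ∀ g : L, ∃ r ∈ R, π g = π r := by
    intro g
    have hg : g ∈ R ⊔ Subgroup.centralizer (V : Set L) := by rw [hR]; trivial
    obtain ⟨r, hr, c, hc, rfl⟩ := Subgroup.mem_sup_of_normal_right.mp hg
    refine ⟨r, hr, ?_⟩
    rw [map_mul]
    have : π c = 1 := (QuotientGroup.eq_one_iff _).mpr hc
    rw [this, mul_one]
  have h1 : ((E.map R.subtype).map π).Normal := by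
    constructor
    rintro _ ⟨_, ⟨e, he, rfl⟩, rfl⟩ g
    obtain ⟨x, rfl⟩ := hsurj g
    obtain ⟨r, hr, hrx⟩ := hfac x
    refine ⟨_, ⟨(⟨r, hr⟩ : R) * e * (⟨r, hr⟩ : R)⁻¹, hE.conj_mem e he _, rfl⟩, ?_⟩
    rw [hrx]
    simp [map_mul, map_inv]
  have h2 : IsPGroup p ((E.map R.subtype).map π) := by
    rintro ⟨_, _, ⟨e, he, rfl⟩, rfl⟩
    obtain ⟨n, hn⟩ := hpow e he
    refine ⟨n, Subtype.ext ?_⟩
    show π e ^ p ^ n = 1
    rw [← map_pow]
    exact (QuotientGroup.eq_one_iff _).mpr hn
  have h3 := Cfsg.Agent.Lib.PCore.le_pCore h1 h2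
  rw [pCore_quot_eq_bot hV] at h3
  intro x hx
  have h4 : π x ∈ (⊥ : Subgroup (L ⧸ Subgroup.centralizer (V : Set L))) := h3 ⟨x, hx, rfl⟩
  exact (QuotientGroup.eq_one_iff _).mp ((Subgroup.mem_bot).mp h4)

/-- A `p`-element of `C` normalizing `T ⊓ C` lies in it. -/
theorem mem_inf_of_mem_normalizer (T : Sylow p L) {C : Subgroup L}
    (hT : (T : Subgroup L) ≤ Subgroup.normalizer (C : Set L)) {a : L} (haC : a ∈ C)
    (haN : a ∈ Subgroup.normalizer (((T : Subgroup L) ⊓ C : Subgroup L) : Set L))
    (hap : ∃ n : ℕ, a ^ p ^ n = 1) : a ∈ (T : Subgroup L) ⊓ C := by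
  obtain ⟨S, hS⟩ := exists_sylow_inf_of_le_normalizer T C hT
  obtain ⟨n, hn⟩ := hap
  have hA : IsPGroup p (Subgroup.zpowers a) := by
    rintro ⟨_, k, rfl⟩
    refine ⟨n, Subtype.ext ?_⟩
    show (a ^ k) ^ p ^ n = 1
    rw [← zpow_natCast, ← zpow_mul, mul_comm, zpow_mul, zpow_natCast, hn, one_zpow]
  have hAN : Subgroup.zpowers a ≤ Subgroup.normalizer (((T : Subgroup L) ⊓ C : Subgroup L) : Set L) :=
    Subgroup.zpowers_le.mpr haN
  have hP : IsPGroup p (Subgroup.zpowers a ⊔ ((T : Subgroup L) ⊓ C) : Subgroup L) :=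
    IsPGroup.to_sup_of_normal_right' hA (T.isPGroup'.to_le inf_le_left) hAN
  have hle : (Subgroup.zpowers a ⊔ ((T : Subgroup L) ⊓ C) : Subgroup L) ≤ C :=
    sup_le (Subgroup.zpowers_le.mpr haC) inf_le_right
  have hP' : IsPGroup p ((Subgroup.zpowers a ⊔ ((T : Subgroup L) ⊓ C) : Subgroup L).subgroupOf C) :=
    hP.comap_of_injective _ (Subgroup.subtype_injective _)
  have hSle : (S : Subgroup C) ≤
      (Subgroup.zpowers a ⊔ ((T : Subgroup L) ⊓ C) : Subgroup L).subgroupOf C := by
    intro x hx
    apply Subgroup.mem_sup_right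
    rw [← hS]
    exact ⟨x, hx, rfl⟩
  have h1 := S.is_maximal' hP' hSle
  have h2 : (⟨a, haC⟩ : C) ∈ (S : Subgroup C) := by
    rw [← h1]
    exact Subgroup.mem_sup_left (Subgroup.mem_zpowers a)
  rw [← hS]
  exact ⟨_, h2, rfl⟩

/-- Elements normalizing two subgroups normalize their intersection. -/
theorem mem_normalizer_inf {A B : Subgroup L} {g : L} (hA : g ∈ Subgroup.normalizer (A : Set L))
    (hB : g ∈ Subgroup.normalizer (B : Set L)) :
    g ∈ Subgroup.normalizer ((A ⊓ B : Subgroup L) : Set L) := by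
  rw [Subgroup.mem_normalizer_iff]
  intro x
  constructor
  · rintro ⟨h1, h2⟩
    exact ⟨(Subgroup.mem_normalizer_iff.mp hA x).mp h1, (Subgroup.mem_normalizer_iff.mp hB x).mp h2⟩
  · rintro ⟨h1, h2⟩
    exact ⟨(Subgroup.mem_normalizer_iff.mp hA x).mpr h1, (Subgroup.mem_normalizer_iff.mp hB x).mpr h2⟩

/-- **S2803** -/
theorem structure_of_normalizer
    (hchar : Subgroup.centralizer (pCore p L : Set L) ≤ pCore p L) (T : Sylow p L) {Y : Subgroup L}
    (hY : IsPReducedNormal p Y ∧ ∀ V : Subgroup L, IsPReducedNormal p V → V ≤ Y) :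
    (∀ g : L, ∃ a ∈ Subgroup.normalizer (((T : Subgroup L) ⊓ Subgroup.centralizer (Y : Set L) : Subgroup L) : Set L),
        ∃ c ∈ Subgroup.centralizer (Y : Set L), g = a * c) ∧
      (pCore p ↥(Subgroup.normalizer (((T : Subgroup L) ⊓ Subgroup.centralizer (Y : Set L) : Subgroup L) : Set L))).map
          (Subgroup.normalizer (((T : Subgroup L) ⊓ Subgroup.centralizer (Y : Set L) : Subgroup L) : Set L)).subtype =
        (T : Subgroup L) ⊓ Subgroup.centralizer (Y : Set L) ∧
      Y = omegaOne p (((T : Subgroup L) ⊓ Subgroup.centralizer (Y : Set L)) ⊓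
        Subgroup.centralizer (((T : Subgroup L) ⊓ Subgroup.centralizer (Y : Set L) : Subgroup L) : Set L)) := by
  obtain ⟨hYr, hYmax⟩ := hY
  have hYn := pr_normal hYr
  set C : Subgroup L := Subgroup.centralizer (Y : Set L) with hC
  have hCn : C.Normal := inferInstance
  set TL : Subgroup L := (T : Subgroup L) ⊓ C with hTL
  set R : Subgroup L := Subgroup.normalizer (TL : Set L) with hR
  obtain ⟨S, hS⟩ := exists_sylow_inf_of_normal T C
  have hfrat : R ⊔ C = ⊤ := by
    have := Sylow.normalizer_sup_eq_top S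
    rw [hS] at this
    exact this
  have hCtop : ∀ g : L, g ∈ Subgroup.normalizer (C : Set L) := by
    rw [Subgroup.normalizer_eq_top_iff.mpr hCn]; exact fun _ => trivial
  have hTR : (T : Subgroup L) ≤ R := fun t ht =>
    mem_normalizer_inf (Subgroup.le_normalizer ht) (hCtop t)
  have hTLR : TL ≤ R := Subgroup.le_normalizer
  have hTLp : IsPGroup p TL := T.isPGroup'.to_le inf_le_left
  refine ⟨?_, ?_, ?_⟩
  · intro g
    have hg : g ∈ R ⊔ C := by rw [hfrat]; trivial
    obtain ⟨a, ha, c, hc, rfl⟩ := Subgroup.mem_sup_of_normal_right.mp hg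
    exact ⟨a, ha, c, hc, rfl⟩
  · apply le_antisymm
    · apply le_inf
      · rintro _ ⟨o, ho, rfl⟩
        have h1 := pCore_le_sylow p (T.subtype hTR) ho
        rw [Sylow.coe_subtype] at h1
        exact h1
      · apply map_le_centralizer_of_sup_eq_top hYr hfrat (pCore_normal p R)
        intro e he
        obtain ⟨n, hn⟩ := exists_pow_eq_one_of_isPGroup (isPGroup_pCore p) he
        refine ⟨n, ?_⟩
        have : (e : L) ^ p ^ n = 1 := by simpa using congrArg Subtype.val hn
        rw [this]
        exact Subgroup.one_mem _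
    · intro x hx
      have h1 : TL.subgroupOf R ≤ pCore p R := by
        apply Cfsg.Agent.Lib.PCore.le_pCore
        · exact (Subgroup.normal_subgroupOf_iff_le_normalizer hTLR).mpr le_rfl
        · exact hTLp.comap_of_injective _ (Subgroup.subtype_injective _)
      exact ⟨⟨x, hTLR hx⟩, h1 hx, rfl⟩
  · set W : Subgroup L := omegaOne p (TL ⊓ Subgroup.centralizer (TL : Set L)) with hW
    have hYT : Y ≤ (T : Subgroup L) := (pr_le_pCore hYr).trans (pCore_le_sylow p T)
    have hYC : Y ≤ C := by
      intro y hy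
      rw [hC, Subgroup.mem_centralizer_iff]
      intro z hz
      exact pr_comm hYr z hz y hy
    have hYTL : Y ≤ TL := le_inf hYT hYC
    have hTLC : TL ≤ C := inf_le_right
    have hYCT : Y ≤ Subgroup.centralizer (TL : Set L) := by
      rw [Subgroup.le_centralizer_iff]
      exact hTLC
    have hWle : W ≤ TL ⊓ Subgroup.centralizer (TL : Set L) :=
      Cfsg.Agent.Lib.PLocalTools.omegaOne_le p _
    have hYW : Y ≤ W := fun y hy =>
      Cfsg.Agent.Lib.PLocalTools.mem_omegaOne ⟨hYTL hy, hYCT hy⟩ (pr_pow hYr y hy)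
    have hWea : IsElementaryAbelian p W :=
      Cfsg.Agent.Lib.PLocalTools.omegaOne_ea (fun x hx y hy =>
        (Subgroup.mem_centralizer_iff.mp hy.2 x hx.1))
    have hWR : W ≤ R := hWle.trans (inf_le_left.trans hTLR)
    have hWCT : TL ≤ Subgroup.centralizer (W : Set L) := by
      rw [Subgroup.le_centralizer_iff]
      exact hWle.trans inf_le_right
    have hCW : Subgroup.centralizer (W : Set L) ≤ C :=
      Subgroup.centralizer_le (by exact_mod_cast hYW)
    set X : Subgroup R := W.subgroupOf R with hX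
    have hXmap : X.map R.subtype = W := Subgroup.map_subgroupOf_eq_of_le hWR
    have hXr : IsPReducedNormal p X := by
      rw [isPReducedNormal_iff]
      refine ⟨?_, ?_, ?_⟩
      · apply (Subgroup.normal_subgroupOf_iff_le_normalizer hWR).mpr
        intro r hr
        apply mem_normalizer_of_conj_le
        have hle : W ≤ W.comap (MulAut.conj r).toMonoidHom := by
          rw [hW, omegaOne, Subgroup.closure_le]
          rintro x ⟨⟨hx1, hx2⟩, hx3⟩
          apply Subgroup.subset_closure
          have hr' := Subgroup.mem_normalizer_iff.mp hr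
          refine ⟨⟨(hr' x).mp hx1, ?_⟩, ?_⟩
          · show (MulAut.conj r) x ∈ Subgroup.centralizer (TL : Set L)
            rw [Subgroup.mem_centralizer_iff]
            intro t ht
            have h1 : r⁻¹ * t * r ∈ TL := by
              apply (hr' (r⁻¹ * t * r)).mpr
              have e : r * (r⁻¹ * t * r) * r⁻¹ = t := by group
              rw [e]
              exact ht
            have h2 : (r⁻¹ * t * r) * x = x * (r⁻¹ * t * r) :=
              Subgroup.mem_centralizer_iff.mp hx2 _ h1
            show t * (r * x * r⁻¹) = r * x * r⁻¹ * t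
            calc t * (r * x * r⁻¹) = r * ((r⁻¹ * t * r) * x) * r⁻¹ := by group
              _ = r * (x * (r⁻¹ * t * r)) * r⁻¹ := by rw [h2]
              _ = r * x * r⁻¹ * t := by group
          · show (MulAut.conj r) x ^ p = 1
            rw [← map_pow, hx3, map_one]
        exact fun x hx => hle hx
      · rw [isElementaryAbelian_iff]
        have := isElementaryAbelian_iff.mp hWea
        exact ⟨fun a ha b hb => Subtype.ext (this.1 a ha b hb), fun a ha => Subtype.ext (this.2 a ha)⟩
      · intro D hD hpow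
        have hpow' : ∀ d ∈ D, ∃ n : ℕ, (d : L) ^ p ^ n ∈ Subgroup.centralizer (W : Set L) := by
          intro d hd
          obtain ⟨n, hn⟩ := hpow d hd
          refine ⟨n, ?_⟩
          rw [Subgroup.mem_centralizer_iff]
          intro w hw
          have h2 := Subgroup.mem_centralizer_iff.mp hn ⟨w, hWR hw⟩ hw
          simpa using congrArg Subtype.val h2
        have hD1 : D.map R.subtype ≤ C :=
          map_le_centralizer_of_sup_eq_top hYr hfrat hD (fun e he => by
            obtain ⟨n, hn⟩ := hpow' e he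
            exact ⟨n, hCW hn⟩)
        intro d hd
        obtain ⟨a, b, hab, hcomm, hap, hb, ha', hb'⟩ := exists_decomp (p := p) d
        have haD : a ∈ D := (Subgroup.zpowers_le.mpr hd) ha'
        have hbD : b ∈ D := (Subgroup.zpowers_le.mpr hd) hb'
        have haTL : (a : L) ∈ TL := by
          apply mem_inf_of_mem_normalizer T (by
            intro t _
            exact hCtop t) (hD1 ⟨a, haD, rfl⟩) a.2
          obtain ⟨n, hn⟩ := hap
          exact ⟨n, by simpa using congrArg Subtype.val hn⟩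
        have haW := hWCT haTL
        obtain ⟨n, hn⟩ := hpow' b hbD
        have hbW : (b : L) ∈ Subgroup.centralizer (W : Set L) :=
          Cfsg.Agent.Lib.CharTwoLocal.mem_of_pow_mem_of_coprime hn (by
            rw [Subgroup.orderOf_coe]
            exact Nat.Coprime.pow_right n hb)
        have hdW : (d : L) ∈ Subgroup.centralizer (W : Set L) := by
          rw [hab]
          exact Subgroup.mul_mem _ haW hbW
        rw [Subgroup.mem_centralizer_iff]
        intro x hx
        apply Subtype.ext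
        have h2 := Subgroup.mem_centralizer_iff.mp hdW (x : L) hx
        simpa using h2
    have h3 := normalClosure_isPReducedNormal hchar T R hTR X hXr
    have h4 := hYmax _ h3
    rw [hXmap] at h4
    exact le_antisymm hYW ((Subgroup.subset_normalClosure).trans h4)

end Cfsg.Agent.Lib.PReduced2
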