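import Mathlib
import Cfsg.Agent.Lib.PReduced2
import Cfsg.Agent.Lib.Averaging
import Cfsg.Agent.Lib.CoprimeInv

/-!
# `p`-reduced normal subgroups, part 3: `Z_L`, averaging, comparison of `Y_L`, `Y_M`.
-/

set_option autoImplicit false
set_option linter.unusedSectionVars false
set_option linter.style.haveILetI false

open Cfsg
open scoped commutatorElement

namespace Cfsg.Agent.Lib.PReduced3

open Cfsg.Agent.Lib.PCore Cfsg.Agent.Lib.PResid Cfsg.Agent.Lib.LocalTools
  Cfsg.Agent.Lib.LocalTools2 Cfsg.Agent.Lib.PClosed Cfsg.Agent.Lib.SubnormalP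
  Cfsg.Agent.Lib.PReduced Cfsg.Agent.Lib.PReduced2 Cfsg.Agent.Lib.PLocalTools
  Cfsg.Agent.Lib.Averaging

variable {G : Type*} [Group G] [Finite G] {p : ℕ} [hp : Fact p.Prime]

/-- Elements normalizing `A` normalize `C(A)`. -/
theorem mem_normalizer_centralizer {A : Subgroup G} {g : G}
    (hg : g ∈ Subgroup.normalizer (A : Set G)) :
    g ∈ Subgroup.normalizer ((Subgroup.centralizer (A : Set G) : Subgroup G) : Set G) := by
  rw [Subgroup.mem_normalizer_iff]
  intro x
  rw [Subgroup.mem_centralizer_iff, Subgroup.mem_centralizer_iff]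
  have hn := Subgroup.mem_normalizer_iff.mp hg
  constructor
  · intro h a ha
    have h1 : g⁻¹ * a * g ∈ A := by
      apply (hn _).mpr
      have e : g * (g⁻¹ * a * g) * g⁻¹ = a := by group
      rw [e]
      exact ha
    have h2 := h _ h1
    calc a * (g * x * g⁻¹) = g * ((g⁻¹ * a * g) * x) * g⁻¹ := by group
      _ = g * (x * (g⁻¹ * a * g)) * g⁻¹ := by rw [h2]
      _ = g * x * g⁻¹ * a := by group
  · intro h a ha
    have h1 := h _ ((hn a).mp ha)
    have h2 : g * (a * x) * g⁻¹ = g * (x * a) * g⁻¹ := by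
      calc g * (a * x) * g⁻¹ = (g * a * g⁻¹) * (g * x * g⁻¹) := by group
        _ = (g * x * g⁻¹) * (g * a * g⁻¹) := h1
        _ = g * (x * a) * g⁻¹ := by group
    exact mul_left_cancel (mul_right_cancel h2)

/-- Elements normalizing `A`, `B` normalize `A ⊔ B`. -/
theorem mem_normalizer_sup {A B : Subgroup G} {g : G} (hA : g ∈ Subgroup.normalizer (A : Set G))
    (hB : g ∈ Subgroup.normalizer (B : Set G)) :
    g ∈ Subgroup.normalizer ((A ⊔ B : Subgroup G) : Set G) := by
  apply mem_normalizer_of_conj_le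
  have hle : A ⊔ B ≤ (A ⊔ B).comap (MulAut.conj g).toMonoidHom :=
    sup_le (fun a ha => Subgroup.mem_sup_left ((Subgroup.mem_normalizer_iff.mp hA a).mp ha))
      (fun a ha => Subgroup.mem_sup_right ((Subgroup.mem_normalizer_iff.mp hB a).mp ha))
  exact fun x hx => hle hx

/-- Powers modulo a normalized subgroup. -/
theorem pow_mul_mem {C : Subgroup G} {d c : G} (hd : d ∈ Subgroup.normalizer (C : Set G))
    (hc : c ∈ C) (k : ℕ) : ∃ c' ∈ C, (d * c) ^ k = d ^ k * c' := by
  induction k with
  | zero => exact ⟨1, C.one_mem, by simp⟩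
  | succ k ih =>
    obtain ⟨c', hc', e⟩ := ih
    refine ⟨(d⁻¹ * c' * d) * c, C.mul_mem ?_ hc, ?_⟩
    · have := (Subgroup.mem_normalizer_iff.mp (Subgroup.inv_mem _ hd) c').mp hc'
      simpa using this
    · rw [pow_succ, e, pow_succ]
      group

/-- The `Ω₁(Z(S))` lie in `Y`, when `C(O_p) ≤ O_p`. -/
theorem sylow_omega_le_largest (hchar : Subgroup.centralizer (pCore p G : Set G) ≤ pCore p G)
    (S : Sylow p G) :
    omegaOne p ((S : Subgroup G) ⊓ Subgroup.centralizer ((S : Subgroup G) : Set G)) ≤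
      largestPReduced p G := by
  set R : Subgroup G := (S : Subgroup G) with hR
  set W : Subgroup G := omegaOne p (R ⊓ Subgroup.centralizer (R : Set G)) with hW
  have hWle : W ≤ R ⊓ Subgroup.centralizer (R : Set G) := omegaOne_le p _
  have hWR : W ≤ R := hWle.trans inf_le_left
  have hWea : IsElementaryAbelian p W :=
    omegaOne_ea (fun x hx y hy => Subgroup.mem_centralizer_iff.mp hy.2 x hx.1)
  have hcomm : ∀ r ∈ R, ∀ w ∈ W, r * w = w * r := fun r hr w hw =>
    Subgroup.mem_centralizer_iff.mp (hWle hw).2 r hr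
  have hX : IsPReducedNormal p (W.subgroupOf R) := by
    rw [isPReducedNormal_iff]
    refine ⟨?_, ?_, ?_⟩
    · apply (Subgroup.normal_subgroupOf_iff_le_normalizer hWR).mpr
      intro r hr
      apply mem_normalizer_of_conj_le
      intro x hx
      have : r * x * r⁻¹ = x := by rw [hcomm r hr x hx]; group
      rw [this]
      exact hx
    · rw [isElementaryAbelian_iff]
      have := isElementaryAbelian_iff.mp hWea
      exact ⟨fun a ha b hb => Subtype.ext (this.1 a ha b hb), fun a ha => Subtype.ext (this.2 a ha)⟩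
    · intro D _ _ d _
      rw [Subgroup.mem_centralizer_iff]
      intro x hx
      exact Subtype.ext (hcomm d d.2 x hx).symm
  have h1 := normalClosure_isPReducedNormal hchar S R le_rfl _ hX
  have h2 := le_largest h1
  rw [Subgroup.map_subgroupOf_eq_of_le hWR] at h2
  exact (Subgroup.subset_normalClosure).trans h2

/-- Averaging, for a Sylow subgroup `T`. -/
theorem exists_central_mul_comm {V : Subgroup G} [V.Normal]
    (hVab : ∀ a ∈ V, ∀ b ∈ V, a * b = b * a) (hVp : ∀ a ∈ V, a ^ p = 1) (T : Sylow p G) {w : G}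
    (hw : w ∈ V) (hwT : ∀ t ∈ (T : Subgroup G), t * w * t⁻¹ = w) :
    ∃ c ∈ V, (∀ g : G, g * c * g⁻¹ = c) ∧ ∃ u ∈ ⁅V, pResidual p G⁆, w = c * u := by
  apply exists_fixed_mul_comm hVab hVp T.not_dvd_index _ hw hwT
  intro g
  obtain ⟨t, ht, n, hn, e⟩ := exists_sylow_mul_pResidual T g⁻¹
  refine ⟨n⁻¹, Subgroup.inv_mem _ hn, t⁻¹, Subgroup.inv_mem _ ht, ?_⟩
  have : g = (g⁻¹)⁻¹ := by simp
  rw [this, e]
  group

/-- A central element with `x^p = 1` lies in `Ω₁(Z(S))`. -/
theorem mem_omega_of_central (S : Sylow p G) {x : G} (hx : ∀ g : G, g * x * g⁻¹ = x)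
    (hxp : x ^ p = 1) :
    x ∈ omegaOne p ((S : Subgroup G) ⊓ Subgroup.centralizer ((S : Subgroup G) : Set G)) := by
  have hcomm : ∀ g : G, g * x = x * g := fun g => by
    have := hx g
    calc g * x = g * x * g⁻¹ * g := by group
      _ = x * g := by rw [this]
  apply mem_omegaOne _ hxp
  refine ⟨?_, ?_⟩
  · -- `⟨x⟩` is a normal `p`-subgroup
    have hzn : (Subgroup.zpowers x).Normal := by
      constructor
      rintro _ ⟨k, rfl⟩ g
      refine ⟨k, ?_⟩
      show x ^ k = g * x ^ k * g⁻¹
      rw [← conj_zpow, hx]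
    have hzp : IsPGroup p (Subgroup.zpowers x) := by
      rintro ⟨_, k, rfl⟩
      refine ⟨1, Subtype.ext ?_⟩
      show (x ^ k) ^ p ^ 1 = 1
      rw [pow_one, ← zpow_natCast, ← zpow_mul, mul_comm, zpow_mul, zpow_natCast, hxp, one_zpow]
    exact pCore_le_sylow p S (le_pCore hzn hzp (Subgroup.mem_zpowers x))
  · show x ∈ Subgroup.centralizer _
    rw [Subgroup.mem_centralizer_iff]
    intro g _
    exact hcomm g

/-- The `Z_L` of a group: `Z = Ω₁(Z(G)) [Z, O^p(G)]` and `[Z, G] = [Z, O^p(G)]`. -/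
theorem omegaSup_eq (hchar : Subgroup.centralizer (pCore p G : Set G) ≤ pCore p G) :
    omegaSup p G = omegaOne p ((⊤ : Subgroup G) ⊓ Subgroup.centralizer ((⊤ : Subgroup G) : Set G)) ⊔
        ⁅omegaSup p G, pResidual p G⁆ ∧
      ⁅omegaSup p G, (⊤ : Subgroup G)⁆ = ⁅omegaSup p G, pResidual p G⁆ := by
  set V : Subgroup G := omegaSup p G with hV
  have hVn : V.Normal := omegaSup_normal p
  have hOn : (pResidual p G).Normal := pResidual_normal p
  have hVY : V ≤ largestPReduced p G := iSup_le fun S => sylow_omega_le_largest hchar S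
  have hY : IsPReducedNormal p (largestPReduced p G) := isPReducedNormal_largest
  have hVab : ∀ a ∈ V, ∀ b ∈ V, a * b = b * a := fun a ha b hb => pr_comm hY a (hVY ha) b (hVY hb)
  have hVp : ∀ a ∈ V, a ^ p = 1 := fun a ha => pr_pow hY a (hVY ha)
  set Z₁ : Subgroup G := omegaOne p ((⊤ : Subgroup G) ⊓ Subgroup.centralizer ((⊤ : Subgroup G) : Set G))
    with hZ₁
  set U : Subgroup G := ⁅V, pResidual p G⁆ with hU
  have hUn : U.Normal := inferInstance
  have hUV : U ≤ V := Subgroup.commutator_le_left _ _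
  have hZ₁central : ∀ x ∈ Z₁, ∀ g : G, g * x = x * g := by
    intro x hx g
    have h1 : x ∈ (⊤ : Subgroup G) ⊓ Subgroup.centralizer ((⊤ : Subgroup G) : Set G) :=
      omegaOne_le p _ hx
    exact Subgroup.mem_centralizer_iff.mp h1.2 g (Subgroup.mem_top g)
  have hZ₁V : Z₁ ≤ V := by
    rw [hZ₁, omegaOne, Subgroup.closure_le]
    rintro x ⟨⟨_, hx⟩, hxp⟩
    have hcomm : ∀ g : G, g * x = x * g := fun g =>
      Subgroup.mem_centralizer_iff.mp hx g (Subgroup.mem_top g)
    have hS : Nonempty (Sylow p G) := inferInstance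
    obtain ⟨S⟩ := hS
    exact Subgroup.mem_iSup_of_mem S
      (mem_omega_of_central S (fun g => by rw [hcomm g]; group) hxp)
  have hle : V ≤ Z₁ ⊔ U := by
    apply iSup_le
    intro S
    rw [omegaOne, Subgroup.closure_le]
    rintro w ⟨⟨hw1, hw2⟩, hwp⟩
    have hwV : w ∈ V := Subgroup.mem_iSup_of_mem S (mem_omegaOne ⟨hw1, hw2⟩ hwp)
    obtain ⟨c, hc, hfix, u, hu, rfl⟩ := exists_central_mul_comm hVab hVp S hwV (fun t ht => by
      rw [Subgroup.mem_centralizer_iff.mp hw2 t ht]; group)
    refine Subgroup.mul_mem _ (Subgroup.mem_sup_left ?_) (Subgroup.mem_sup_right hu)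
    apply mem_omegaOne _ (hVp c hc)
    refine ⟨Subgroup.mem_top c, ?_⟩
    show c ∈ Subgroup.centralizer _
    rw [Subgroup.mem_centralizer_iff]
    intro g _
    have := hfix g
    calc g * c = g * c * g⁻¹ * g := by group
      _ = c * g := by rw [this]
  have heq : V = Z₁ ⊔ U := le_antisymm hle (sup_le hZ₁V hUV)
  refine ⟨heq, ?_⟩
  apply le_antisymm
  · rw [Subgroup.commutator_le]
    intro v hv g _
    have hv' := hle hv
    obtain ⟨c, hc, u, hu, rfl⟩ := Subgroup.mem_sup_of_normal_right.mp hv'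
    have hcg := hZ₁central c hc
    have e : ⁅c * u, g⁆ = u * (g * u⁻¹ * g⁻¹) := by
      rw [commutatorElement_def]
      have h1 : c * u * g * (c * u)⁻¹ * g⁻¹ = c * (u * g * u⁻¹) * c⁻¹ * g⁻¹ := by group
      rw [h1, ← hcg (u * g * u⁻¹)]
      group
    rw [e]
    exact U.mul_mem hu (hUn.conj_mem _ (U.inv_mem hu) g)
  · exact Subgroup.commutator_mono le_rfl le_top

/-- **S2826** core. -/
theorem centralizer_omega_eq (T : Sylow p G) {V : Subgroup G} [hV : V.Normal]
    (hVea : IsElementaryAbelian p V)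
    (hZV : omegaOne p ((T : Subgroup G) ⊓ Subgroup.centralizer ((T : Subgroup G) : Set G)) ≤ V) :
    Subgroup.centralizer ((omegaOne p ((T : Subgroup G) ⊓ Subgroup.centralizer ((T : Subgroup G) : Set G))) : Set G) =
      Subgroup.centralizer (((⁅V, pResidual p G⁆ ⊓ (omegaOne p ((T : Subgroup G) ⊓ Subgroup.centralizer ((T : Subgroup G) : Set G)))) : Subgroup G) : Set G) := by
  obtain ⟨hVab, hVp⟩ := isElementaryAbelian_iff.mp hVea
  set W : Subgroup G := omegaOne p ((T : Subgroup G) ⊓ Subgroup.centralizer ((T : Subgroup G) : Set G))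
    with hW
  apply le_antisymm
  · exact Subgroup.centralizer_le (by exact_mod_cast (inf_le_right : _ ⊓ W ≤ W))
  · intro g hg
    rw [Subgroup.mem_centralizer_iff] at hg ⊢
    intro w hw
    have hw' : w ∈ (T : Subgroup G) ⊓ Subgroup.centralizer ((T : Subgroup G) : Set G) :=
      omegaOne_le p _ hw
    obtain ⟨c, hc, hfix, u, hu, rfl⟩ := exists_central_mul_comm hVab hVp T (hZV hw) (fun t ht => by
      rw [Subgroup.mem_centralizer_iff.mp hw'.2 t ht]; group)
    have hcW : c ∈ W := mem_omega_of_central T hfix (hVp c hc)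
    have huW : u ∈ W := by
      have : u = c⁻¹ * (c * u) := by group
      rw [this]
      exact W.mul_mem (W.inv_mem hcW) hw
    have h1 : u * g = g * u := hg u ⟨hu, huW⟩
    have h2 : g * c = c * g := by
      have := hfix g
      calc g * c = g * c * g⁻¹ * g := by group
        _ = c * g := by rw [this]
    calc c * u * g = c * (g * u) := by rw [mul_assoc, h1]
      _ = (c * g) * u := by group
      _ = (g * c) * u := by rw [h2]
      _ = g * (c * u) := by group

/-- Transfer of `p`-reducedness along `L C(Y) = M C(Y)`. -/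
theorem isPReducedNormal_of_sup_eq {Y L M : Subgroup G} (hYL : Y ≤ L) (hYM : Y ≤ M)
    (hM : IsPReducedNormal p (Y.subgroupOf M))
    (hsup : L ⊔ Subgroup.centralizer (Y : Set G) = M ⊔ Subgroup.centralizer (Y : Set G)) :
    IsPReducedNormal p (Y.subgroupOf L) := by
  set C : Subgroup G := Subgroup.centralizer (Y : Set G) with hC
  have hMN : M ≤ Subgroup.normalizer (Y : Set G) :=
    (Subgroup.normal_subgroupOf_iff_le_normalizer hYM).mp (pr_normal hM)
  have hCN : C ≤ Subgroup.normalizer (Y : Set G) := by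
    intro c hc
    apply mem_normalizer_of_conj_le
    intro y hy
    have : c * y * c⁻¹ = y := by
      rw [← Subgroup.mem_centralizer_iff.mp hc y hy]; group
    rw [this]
    exact hy
  have hLN : L ≤ Subgroup.normalizer (Y : Set G) :=
    (le_sup_left.trans hsup.le).trans (sup_le hMN hCN)
  have hLC : L ≤ Subgroup.normalizer (C : Set G) := fun l hl => mem_normalizer_centralizer (hLN hl)
  have hMC : M ≤ Subgroup.normalizer (C : Set G) := fun l hl => mem_normalizer_centralizer (hMN hl)
  obtain ⟨hab, hpw⟩ := isElementaryAbelian_iff.mp hM.2.1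
  rw [isPReducedNormal_iff]
  refine ⟨(Subgroup.normal_subgroupOf_iff_le_normalizer hYL).mpr hLN, ?_, ?_⟩
  · rw [isElementaryAbelian_iff]
    refine ⟨fun a ha b hb => Subtype.ext ?_, fun a ha => Subtype.ext ?_⟩
    · have := congrArg Subtype.val (hab ⟨a, hYM ha⟩ ha ⟨b, hYM hb⟩ hb)
      exact this
    · have := congrArg Subtype.val (hpw ⟨a, hYM ha⟩ ha)
      exact this
  · intro D hD hpow
    set D' : Subgroup G := D.map L.subtype with hD'
    have hD'p : ∀ d ∈ D', ∃ n : ℕ, d ^ p ^ n ∈ C := by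
      rintro _ ⟨d, hd, rfl⟩
      obtain ⟨n, hn⟩ := hpow d hd
      refine ⟨n, ?_⟩
      rw [hC, Subgroup.mem_centralizer_iff]
      intro y hy
      have h2 := Subgroup.mem_centralizer_iff.mp hn ⟨y, hYL hy⟩ hy
      simpa using congrArg Subtype.val h2
    have hD'L : D' ≤ L := Subgroup.map_subtype_le _
    set K : Subgroup G := D' ⊔ C with hK
    have hD'N : L ≤ Subgroup.normalizer (D' : Set G) := by
      intro l hl
      apply mem_normalizer_of_conj_le
      rintro _ ⟨d, hd, rfl⟩
      exact ⟨(⟨l, hl⟩ : L) * d * (⟨l, hl⟩ : L)⁻¹, hD.conj_mem d hd _, rfl⟩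
    have hKL : L ≤ Subgroup.normalizer (K : Set G) := fun l hl =>
      mem_normalizer_sup (hD'N hl) (hLC hl)
    have hKC : C ≤ Subgroup.normalizer (K : Set G) :=
      (le_sup_right : C ≤ K).trans Subgroup.le_normalizer
    have hKM : M ≤ Subgroup.normalizer (K : Set G) :=
      (le_sup_left.trans hsup.ge).trans (sup_le hKL hKC)
    have hEn : (K.subgroupOf M).Normal := by
      constructor
      intro e he m
      exact (Subgroup.mem_normalizer_iff.mp (hKM m.2) e).mp he
    have hEp : ∀ e ∈ K.subgroupOf M, ∃ n : ℕ,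
        e ^ p ^ n ∈ Subgroup.centralizer ((Y.subgroupOf M : Subgroup M) : Set M) := by
      intro e he
      have he' : (e : G) ∈ D' ⊔ C := he
      obtain ⟨d, hd, c, hc, hdc⟩ :=
        (mem_sup_of_le_normalizer (hD'L.trans hLC)).mp he'
      obtain ⟨n, hn⟩ := hD'p d hd
      refine ⟨n, ?_⟩
      obtain ⟨c', hc', e1⟩ := pow_mul_mem (hLC (hD'L hd)) hc (p ^ n)
      have h3 : ((e ^ p ^ n : M) : G) ∈ C := by
        rw [Subgroup.coe_pow, hdc, e1]
        exact C.mul_mem hn hc'
      rw [Subgroup.mem_centralizer_iff]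
      intro y hy
      apply Subtype.ext
      exact Subgroup.mem_centralizer_iff.mp h3 (y : G) hy
    have hE := pr_le_centralizer hM hEn hEp
    have hfin : D' ≤ C := by
      intro d hd
      have h1 : d ∈ M ⊔ C := by rw [← hsup]; exact Subgroup.mem_sup_left (hD'L hd)
      obtain ⟨m, hm, c, hc, rfl⟩ := (mem_sup_of_le_normalizer hMC).mp h1
      have hmK : m ∈ K := by
        have : m = (m * c) * c⁻¹ := by group
        rw [this]
        exact K.mul_mem (Subgroup.mem_sup_left hd) (Subgroup.mem_sup_right (C.inv_mem hc))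
      have h2 := hE (show (⟨m, hm⟩ : M) ∈ K.subgroupOf M from hmK)
      have h3 : m ∈ C := by
        rw [hC, Subgroup.mem_centralizer_iff]
        intro y hy
        have h4 := Subgroup.mem_centralizer_iff.mp h2 ⟨y, hYM hy⟩ hy
        simpa using congrArg Subtype.val h4
      exact C.mul_mem h3 hc
    intro d hd
    rw [Subgroup.mem_centralizer_iff]
    intro y hy
    apply Subtype.ext
    exact Subgroup.mem_centralizer_iff.mp (hfin ⟨d, hd, rfl⟩) (y : G) hy

section ofsub

variable {L : Subgroup G}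

theorem isPReducedNormal_of : IsPReducedNormal p ((largestPReducedOf p L).subgroupOf L) := by
  have : (largestPReducedOf p L).subgroupOf L = largestPReduced p L :=
    Subgroup.comap_map_eq_self_of_injective (Subgroup.subtype_injective L) _
  rw [this]
  exact isPReducedNormal_largest

theorem le_largestPReducedOf {Y : Subgroup G} (hYL : Y ≤ L)
    (h : IsPReducedNormal p (Y.subgroupOf L)) : Y ≤ largestPReducedOf p L := by
  intro y hy
  exact ⟨⟨y, hYL hy⟩, le_largest h hy, rfl⟩

theorem largestPReducedOf_le : largestPReducedOf p L ≤ L := Subgroup.map_subtype_le _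

theorem largestPReducedOf_comm : ∀ a ∈ largestPReducedOf p L, ∀ b ∈ largestPReducedOf p L,
    a * b = b * a := by
  rintro _ ⟨a, ha, rfl⟩ _ ⟨b, hb, rfl⟩
  exact congrArg Subtype.val (pr_comm isPReducedNormal_largest a ha b hb)

theorem largestPReducedOf_pow : ∀ a ∈ largestPReducedOf p L, a ^ p = 1 := by
  rintro _ ⟨a, ha, rfl⟩
  exact congrArg Subtype.val (pr_pow isPReducedNormal_largest a ha)

theorem le_normalizer_largestPReducedOf :
    L ≤ Subgroup.normalizer ((largestPReducedOf p L : Subgroup G) : Set G) :=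
  (Subgroup.normal_subgroupOf_iff_le_normalizer largestPReducedOf_le).mp
    (pr_normal (isPReducedNormal_of))

theorem pCoreOf_le_sylow (T : Sylow p G) (hTL : (T : Subgroup G) ≤ L) :
    pCoreOf p L ≤ (T : Subgroup G) := by
  rintro _ ⟨o, ho, rfl⟩
  have h1 := pCore_le_sylow p (T.subtype hTL) ho
  rw [Sylow.coe_subtype] at h1
  exact h1

theorem largestPReducedOf_le_pCoreOf : largestPReducedOf p L ≤ pCoreOf p L := by
  apply Subgroup.map_mono
  exact pr_le_pCore isPReducedNormal_largest

theorem pCoreOf_le_centralizer :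
    pCoreOf p L ≤ Subgroup.centralizer ((largestPReducedOf p L : Subgroup G) : Set G) := by
  rintro _ ⟨o, ho, rfl⟩
  rw [Subgroup.mem_centralizer_iff]
  rintro _ ⟨y, hy, rfl⟩
  have h1 := pr_pCore_le (isPReducedNormal_largest (p := p) (L := L)) ho
  have h2 := Subgroup.mem_centralizer_iff.mp h1 y hy
  exact congrArg Subtype.val h2

theorem largestPReducedOf_le_centralizer :
    largestPReducedOf p L ≤ Subgroup.centralizer ((largestPReducedOf p L : Subgroup G) : Set G) := by
  intro a ha
  rw [Subgroup.mem_centralizer_iff]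
  intro b hb
  exact largestPReducedOf_comm b hb a ha

end ofsub

/-- **S2822** -/
theorem largestPReducedOf_le_of_sup_eq (T : Sylow p G) {L M : Subgroup G}
    (hTL : (T : Subgroup G) ≤ L) (hTM : (T : Subgroup G) ≤ M)
    (h : L ⊔ Subgroup.centralizer ((largestPReducedOf p M : Subgroup G) : Set G) =
      M ⊔ Subgroup.centralizer ((largestPReducedOf p M : Subgroup G) : Set G)) :
    largestPReducedOf p M ≤ largestPReducedOf p L := by
  have hYT : largestPReducedOf p M ≤ (T : Subgroup G) :=
    largestPReducedOf_le_pCoreOf.trans (pCoreOf_le_sylow T hTM)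
  exact le_largestPReducedOf (hYT.trans hTL)
    (isPReducedNormal_of_sup_eq (hYT.trans hTL) largestPReducedOf_le isPReducedNormal_of h)

/-- Subgroups of `L`: `A ⊓ C_L(A)` in `G`. -/
theorem map_inf_centralizer_subtype {L : Subgroup G} (A : Subgroup L) :
    (A ⊓ Subgroup.centralizer (A : Set L)).map L.subtype =
      A.map L.subtype ⊓ Subgroup.centralizer ((A.map L.subtype : Subgroup G) : Set G) := by
  ext x
  constructor
  · rintro ⟨a, ⟨ha1, ha2⟩, rfl⟩
    refine ⟨⟨a, ha1, rfl⟩, ?_⟩
    show (a : G) ∈ Subgroup.centralizer _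
    rw [Subgroup.mem_centralizer_iff]
    rintro _ ⟨b, hb, rfl⟩
    exact congrArg Subtype.val (Subgroup.mem_centralizer_iff.mp ha2 b hb)
  · rintro ⟨⟨a, ha, rfl⟩, h⟩
    refine ⟨a, ⟨ha, ?_⟩, rfl⟩
    show a ∈ Subgroup.centralizer _
    rw [Subgroup.mem_centralizer_iff]
    intro b hb
    apply Subtype.ext
    exact Subgroup.mem_centralizer_iff.mp h _ ⟨b, hb, rfl⟩

/-- `Z_L` as an image. -/
theorem sylowCenterClosure_eq (L : Subgroup G) :
    sylowCenterClosure p L = (omegaSup p L).map L.subtype := by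
  unfold sylowCenterClosure omegaSup
  rw [Subgroup.map_iSup]
  apply iSup_congr
  intro S
  rw [map_omegaOne p _ _ (Subgroup.subtype_injective L), map_inf_centralizer_subtype]

/-- **S2823** -/
theorem sylowCenterClosure_facts {L : Subgroup G}
    (hL : Subgroup.centralizer (pCore p ↥L : Set ↥L) ≤ pCore p ↥L) :
    sylowCenterClosure p L = (omegaOne p (L ⊓ Subgroup.centralizer ((L : Subgroup G) : Set G))) ⊔
        ⁅sylowCenterClosure p L, (pResidual p ↥L).map L.subtype⁆ ∧
      ⁅sylowCenterClosure p L, L⁆ = ⁅sylowCenterClosure p L, (pResidual p ↥L).map L.subtype⁆ := by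
  obtain ⟨h1, h2⟩ := omegaSup_eq hL
  have hT : (⊤ : Subgroup L).map L.subtype = L := by
    rw [← MonoidHom.range_eq_map, Subgroup.range_subtype]
  rw [sylowCenterClosure_eq]
  constructor
  · have h3 := congrArg (Subgroup.map L.subtype) h1
    rw [Subgroup.map_sup, map_omegaOne p _ _ (Subgroup.subtype_injective L),
      map_inf_centralizer_subtype, hT, Subgroup.map_commutator] at h3
    exact h3
  · have h3 := congrArg (Subgroup.map L.subtype) h2
    rw [Subgroup.map_commutator, Subgroup.map_commutator, hT] at h3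
    exact h3

theorem centralizer_le_normalizer (Y : Subgroup G) :
    Subgroup.centralizer (Y : Set G) ≤ Subgroup.normalizer (Y : Set G) := by
  intro c hc
  apply mem_normalizer_of_conj_le
  intro y hy
  have : c * y * c⁻¹ = y := by
    rw [← Subgroup.mem_centralizer_iff.mp hc y hy]; group
  rw [this]
  exact hy

/-- **S2821** -/
theorem largestPReducedOf_facts (T : Sylow p G) {L : Subgroup G} (hTL : (T : Subgroup G) ≤ L)
    (hL : Subgroup.centralizer (pCore p ↥L : Set ↥L) ≤ pCore p ↥L) :
    (∃ P : Sylow p ↥(Subgroup.centralizer ((largestPReducedOf p L : Subgroup G) : Set G)),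
        (P : Subgroup ↥(Subgroup.centralizer ((largestPReducedOf p L : Subgroup G) : Set G))) =
        ((T : Subgroup G) ⊓ Subgroup.centralizer ((largestPReducedOf p L : Subgroup G) : Set G)).subgroupOf
          (Subgroup.centralizer ((largestPReducedOf p L : Subgroup G) : Set G))) ∧
      pCoreOf p L ≤ (T : Subgroup G) ⊓ Subgroup.centralizer ((largestPReducedOf p L : Subgroup G) : Set G) ∧
      omegaOne p ((T : Subgroup G) ⊓ Subgroup.centralizer ((T : Subgroup G) : Set G)) ≤ sylowCenterClosure p L ∧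
      sylowCenterClosure p L ≤ largestPReducedOf p L ∧
      largestPReducedOf p L ≤
        omegaOne p (pCoreOf p L ⊓ Subgroup.centralizer ((pCoreOf p L : Subgroup G) : Set G)) := by
  set Y : Subgroup G := largestPReducedOf p L with hY
  set C : Subgroup G := Subgroup.centralizer (Y : Set G) with hC
  have hTC : (T : Subgroup G) ≤ Subgroup.normalizer (C : Set G) := fun t ht =>
    mem_normalizer_centralizer (le_normalizer_largestPReducedOf (hTL ht))
  refine ⟨?_, ?_, ?_, ?_, ?_⟩
  · obtain ⟨S, hS⟩ := exists_sylow_inf_of_le_normalizer T C hTC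
    refine ⟨S, ?_⟩
    rw [← hS]
    exact (Subgroup.comap_map_eq_self_of_injective (Subgroup.subtype_injective C) _).symm
  · exact le_inf (pCoreOf_le_sylow T hTL) pCoreOf_le_centralizer
  · rw [sylowCenterClosure_eq]
    have h1 : ((T.subtype hTL : Sylow p L) : Subgroup L).map L.subtype = (T : Subgroup G) := by
      rw [Sylow.coe_subtype]
      exact Subgroup.map_subgroupOf_eq_of_le hTL
    have h2 : omegaOne p ((T.subtype hTL : Subgroup L) ⊓
        Subgroup.centralizer ((T.subtype hTL : Subgroup L) : Set L)) ≤ omegaSup p L :=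
      le_iSup (fun S : Sylow p L => omegaOne p ((S : Subgroup L) ⊓
        Subgroup.centralizer ((S : Subgroup L) : Set L))) (T.subtype hTL)
    have h3 := Subgroup.map_mono (f := L.subtype) h2
    rw [map_omegaOne p _ _ (Subgroup.subtype_injective L), map_inf_centralizer_subtype, h1] at h3
    exact h3
  · rw [sylowCenterClosure_eq]
    exact Subgroup.map_mono (iSup_le fun S => sylow_omega_le_largest hL S)
  · intro y hy
    apply mem_omegaOne _ (largestPReducedOf_pow y hy)
    refine ⟨largestPReducedOf_le_pCoreOf hy, ?_⟩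
    have h1 : pCoreOf p L ≤ Subgroup.centralizer ((largestPReducedOf p L : Subgroup G) : Set G) :=
      pCoreOf_le_centralizer
    rw [Subgroup.le_centralizer_iff] at h1
    exact h1 hy

/-- Frattini, elementwise. -/
theorem frattini_elem {N T₀ : Subgroup G} (h : Cfsg.Agent.Lib.CoprimeInv.IsSylowIn p T₀ N) {m : G}
    (hm : m ∈ Subgroup.normalizer (N : Set G)) :
    ∃ g ∈ N, g⁻¹ * m ∈ Subgroup.normalizer (T₀ : Set G) := by
  open Cfsg.Agent.Lib.CoprimeInv in
  have h1 := h.cj_of_normalizer hm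
  obtain ⟨g, hg, e⟩ := h.exists_conj h1
  refine ⟨g, hg, mem_normalizer_of_cj_eq ?_⟩
  rw [← cj_cj, e, cj_cj]
  simp [cj_one]

/-- `Ω₁(Z(C_T(Y_L))) ≤ Y_L`. -/
theorem omega_le_largestPReducedOf (T : Sylow p G) {L : Subgroup G} (hTL : (T : Subgroup G) ≤ L)
    (hL : Subgroup.centralizer (pCore p ↥L : Set ↥L) ≤ pCore p ↥L) :
    omegaOne p (((T : Subgroup G) ⊓ Subgroup.centralizer ((largestPReducedOf p L : Subgroup G) : Set G)) ⊓
      Subgroup.centralizer (((T : Subgroup G) ⊓
        Subgroup.centralizer ((largestPReducedOf p L : Subgroup G) : Set G) : Subgroup G) : Set G)) ≤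
      largestPReducedOf p L := by
  set Y : Subgroup L := largestPReduced p L with hY
  have hYpr : IsPReducedNormal p Y := isPReducedNormal_largest
  set T' : Sylow p L := T.subtype hTL with hT'
  have hT'c : (T' : Subgroup L) = (T : Subgroup G).subgroupOf L := Sylow.coe_subtype _ _
  have h1 := (structure_of_normalizer hL T' (Y := Y) ⟨hYpr, fun V hV => le_largest hV⟩).2.2
  set TL : Subgroup L := (T' : Subgroup L) ⊓ Subgroup.centralizer (Y : Set L) with hTLdef
  set T₀ : Subgroup G := (T : Subgroup G) ⊓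
    Subgroup.centralizer ((largestPReducedOf p L : Subgroup G) : Set G) with hT₀
  have hT₀L : T₀ ≤ L := inf_le_left.trans hTL
  have hmem : ∀ x (hx : x ∈ T₀), (⟨x, hT₀L hx⟩ : L) ∈ TL := by
    intro x hx
    refine ⟨?_, ?_⟩
    · show (⟨x, hT₀L hx⟩ : L) ∈ (T' : Subgroup L)
      rw [hT'c]
      exact hx.1
    · show (⟨x, hT₀L hx⟩ : L) ∈ Subgroup.centralizer (Y : Set L)
      rw [Subgroup.mem_centralizer_iff]
      intro y hy
      apply Subtype.ext
      exact Subgroup.mem_centralizer_iff.mp hx.2 (y : G) ⟨y, hy, rfl⟩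
  have hmem' : ∀ x : L, x ∈ TL → (x : G) ∈ T₀ := by
    intro x hx
    refine ⟨?_, ?_⟩
    · have h2 : x ∈ (T' : Subgroup L) := hx.1
      rw [hT'c] at h2
      exact h2
    · show (x : G) ∈ Subgroup.centralizer _
      rw [Subgroup.mem_centralizer_iff]
      rintro _ ⟨y, hy, rfl⟩
      exact congrArg Subtype.val (Subgroup.mem_centralizer_iff.mp hx.2 y hy)
  rw [omegaOne, Subgroup.closure_le]
  rintro x ⟨⟨hx1, hx2⟩, hx3⟩
  have hxY : (⟨x, hT₀L hx1⟩ : L) ∈ Y := by
    rw [h1]
    apply mem_omegaOne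
    · refine ⟨hmem x hx1, ?_⟩
      show (⟨x, hT₀L hx1⟩ : L) ∈ Subgroup.centralizer _
      rw [Subgroup.mem_centralizer_iff]
      intro t ht
      apply Subtype.ext
      exact Subgroup.mem_centralizer_iff.mp hx2 (t : G) (hmem' t ht)
    · exact Subtype.ext hx3
  exact ⟨_, hxY, rfl⟩

/-- **S2824** -/
theorem largestPReducedOf_normalizer_facts (T : Sylow p G) {L M : Subgroup G}
    (hTL : (T : Subgroup G) ≤ L) (hTM : (T : Subgroup G) ≤ M)
    (hL : Subgroup.centralizer (pCore p ↥L : Set ↥L) ≤ pCore p ↥L)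
    (hfac : M ⊔ Subgroup.centralizer ((largestPReducedOf p L : Subgroup G) : Set G) =
      L ⊔ Subgroup.centralizer ((largestPReducedOf p L : Subgroup G) : Set G)) :
    largestPReducedOf p (M ⊓ Subgroup.normalizer (((T : Subgroup G) ⊓
        Subgroup.centralizer ((largestPReducedOf p L : Subgroup G) : Set G) : Subgroup G) : Set G)) =
        largestPReducedOf p L ∧
      L ⊔ Subgroup.centralizer ((largestPReducedOf p L : Subgroup G) : Set G) =
        (M ⊓ Subgroup.normalizer (((T : Subgroup G) ⊓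
          Subgroup.centralizer ((largestPReducedOf p L : Subgroup G) : Set G) : Subgroup G) : Set G)) ⊔
          Subgroup.centralizer ((largestPReducedOf p L : Subgroup G) : Set G) := by
  have homega := omega_le_largestPReducedOf T hTL hL
  set Y : Subgroup G := largestPReducedOf p L with hY
  set C : Subgroup G := Subgroup.centralizer (Y : Set G) with hC
  set T₀ : Subgroup G := (T : Subgroup G) ⊓ C with hT₀
  set Ls : Subgroup G := M ⊓ Subgroup.normalizer (T₀ : Set G) with hLs
  have hYT : Y ≤ (T : Subgroup G) := largestPReducedOf_le_pCoreOf.trans (pCoreOf_le_sylow T hTL)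
  have hYC : Y ≤ C := largestPReducedOf_le_centralizer
  have hYT₀ : Y ≤ T₀ := le_inf hYT hYC
  have hLN : L ≤ Subgroup.normalizer (Y : Set G) := le_normalizer_largestPReducedOf
  have hCN : C ≤ Subgroup.normalizer (Y : Set G) := centralizer_le_normalizer Y
  have hMN : M ≤ Subgroup.normalizer (Y : Set G) :=
    (le_sup_left.trans hfac.le).trans (sup_le hLN hCN)
  have hMC : M ≤ Subgroup.normalizer (C : Set G) := fun m hm => mem_normalizer_centralizer (hMN hm)
  have hTLs : (T : Subgroup G) ≤ Ls := fun t ht =>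
    ⟨hTM ht, mem_normalizer_inf (Subgroup.le_normalizer ht) (hMC (hTM ht))⟩
  have hYLs : Y ≤ Ls := hYT.trans hTLs
  have hT₀Ls : T₀ ≤ Ls := inf_le_left.trans hTLs
  have hN₁ : Cfsg.Agent.Lib.CoprimeInv.IsSylowIn p T₀ (M ⊓ C) := by
    obtain ⟨S, hS⟩ := exists_sylow_inf_of_le_normalizer T (M ⊓ C) (fun t ht =>
      mem_normalizer_inf (Subgroup.le_normalizer (hTM ht)) (hMC (hTM ht)))
    have h1 := Cfsg.Agent.Lib.CoprimeInv.isSylowIn_map S
    rw [hS] at h1
    have h2 : (T : Subgroup G) ⊓ (M ⊓ C) = T₀ := by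
      rw [hT₀, ← inf_assoc, inf_of_le_left hTM]
    rwa [h2] at h1
  have hsup : Ls ⊔ C = M ⊔ C := by
    apply le_antisymm
    · exact sup_le_sup_right inf_le_left C
    · apply sup_le _ le_sup_right
      intro m hm
      obtain ⟨g, hg, hgm⟩ := frattini_elem hN₁ (m := m)
        (mem_normalizer_inf (Subgroup.le_normalizer hm) (hMC hm))
      have e : m = g * (g⁻¹ * m) := by group
      rw [e]
      refine Subgroup.mul_mem _ (Subgroup.mem_sup_right hg.2) (Subgroup.mem_sup_left ⟨?_, hgm⟩)
      exact M.mul_mem (M.inv_mem hg.1) hm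
  have hLLs : L ⊔ C = Ls ⊔ C := hfac.symm.trans hsup.symm
  refine ⟨?_, hLLs⟩
  have hYr : IsPReducedNormal p (Y.subgroupOf Ls) :=
    isPReducedNormal_of_sup_eq hYLs largestPReducedOf_le isPReducedNormal_of hLLs.symm
  apply le_antisymm _ (le_largestPReducedOf hYLs hYr)
  -- the other inclusion
  have hO : pCoreOf p Ls ≤ T₀ := by
    refine le_inf (pCoreOf_le_sylow T hTLs) ?_
    rintro _ ⟨o, ho, rfl⟩
    rw [hC, Subgroup.mem_centralizer_iff]
    intro y hy
    have h1 := Subgroup.mem_centralizer_iff.mp (pr_pCore_le hYr ho) ⟨y, hYLs hy⟩ hy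
    exact congrArg Subtype.val h1
  have hT₀O : T₀ ≤ pCoreOf p Ls := by
    intro x hx
    have h1 : T₀.subgroupOf Ls ≤ pCore p Ls := by
      apply Cfsg.Agent.Lib.PCore.le_pCore
      · exact (Subgroup.normal_subgroupOf_iff_le_normalizer hT₀Ls).mpr inf_le_right
      · exact (T.isPGroup'.to_le inf_le_left).comap_of_injective _ (Subgroup.subtype_injective _)
    exact ⟨⟨x, hT₀Ls hx⟩, h1 hx, rfl⟩
  refine le_trans ?_ homega
  intro v hv
  apply mem_omegaOne _ (largestPReducedOf_pow v hv)
  refine ⟨hO (largestPReducedOf_le_pCoreOf hv), ?_⟩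
  have h1 : T₀ ≤ Subgroup.centralizer ((largestPReducedOf p Ls : Subgroup G) : Set G) :=
    hT₀O.trans pCoreOf_le_centralizer
  rw [Subgroup.le_centralizer_iff] at h1
  exact h1 hv

end Cfsg.Agent.Lib.PReduced3
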