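import Mathlib

/-!
# The relative trace (transfer) on an abelian subgroup

`tr x = ∏_{q ∈ K / K₀} q x q⁻¹`, for `x` in an abelian subgroup `V` normalized by `K`, fixed by `K₀`.
-/

set_option autoImplicit false
set_option linter.unusedSectionVars false
set_option linter.style.haveILetI false

open scoped commutatorElement

namespace Cfsg.Agent.Lib.RelTrace

section abstract

variable {K A : Type*} [Group K] [CommGroup A] [MulDistribMulAction K A] [Finite K]

/-- The relative trace. -/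
noncomputable def tr (K₀ : Subgroup K) (x : A) : A :=
  letI : Fintype (K ⧸ K₀) := Fintype.ofFinite _
  ∏ q : K ⧸ K₀, ((Quotient.out q : K) • x)

theorem out_smul (K₀ : Subgroup K) {x : A} (hx : ∀ k ∈ K₀, k • x = x) (a : K) :
    (Quotient.out (a : K ⧸ K₀) : K) • x = a • x := by
  have h1 : ((Quotient.out (a : K ⧸ K₀) : K) : K ⧸ K₀) = a := Quotient.out_eq' _
  rw [QuotientGroup.eq] at h1
  have h2 := hx _ h1
  have e : a = (Quotient.out (a : K ⧸ K₀) : K) * ((Quotient.out (a : K ⧸ K₀) : K)⁻¹ * a) := by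
    group
  conv_rhs => rw [e, mul_smul, h2]

theorem tr_mul (K₀ : Subgroup K) (x y : A) : tr K₀ (x * y) = tr K₀ x * tr K₀ y := by
  classical
  letI : Fintype (K ⧸ K₀) := Fintype.ofFinite _
  unfold tr
  simp only [smul_mul']
  rw [Finset.prod_mul_distrib]

theorem tr_one (K₀ : Subgroup K) : tr K₀ (1 : A) = 1 := by
  unfold tr
  simp

theorem tr_inv (K₀ : Subgroup K) (x : A) : tr K₀ x⁻¹ = (tr K₀ x)⁻¹ := by
  have h := tr_mul K₀ x⁻¹ x
  rw [inv_mul_cancel, tr_one] at h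
  exact eq_inv_of_mul_eq_one_left h.symm

theorem tr_pow (K₀ : Subgroup K) (x : A) (n : ℕ) : tr K₀ (x ^ n) = (tr K₀ x) ^ n := by
  induction n with
  | zero => simp [tr_one]
  | succ n ih => rw [pow_succ, pow_succ, tr_mul, ih]

theorem smul_tr (K₀ : Subgroup K) {x : A} (hx : ∀ k ∈ K₀, k • x = x) (g : K) :
    g • tr K₀ x = tr K₀ x := by
  classical
  letI : Fintype (K ⧸ K₀) := Fintype.ofFinite _
  unfold tr
  rw [show g • (∏ q : K ⧸ K₀, (Quotient.out q : K) • x) =
    (MulDistribMulAction.toMonoidHom A g) (∏ q : K ⧸ K₀, (Quotient.out q : K) • x) from rfl, map_prod]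
  simp only [MulDistribMulAction.toMonoidHom_apply]
  have h1 : ∀ q : K ⧸ K₀, g • ((Quotient.out q : K) • x) =
      (Quotient.out (g • q) : K) • x := by
    intro q
    have e : g • q = ((g * (Quotient.out q : K) : K) : K ⧸ K₀) := by
      conv_lhs => rw [← Quotient.out_eq' q]
      rfl
    rw [e, out_smul K₀ hx, mul_smul]
  rw [Finset.prod_congr rfl (fun q _ => h1 q)]
  exact Equiv.prod_comp (MulAction.toPerm g) (fun q : K ⧸ K₀ => (Quotient.out q : K) • x)

theorem tr_of_fixed (K₀ : Subgroup K) {x : A} (hx : ∀ k : K, k • x = x) :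
    tr K₀ x = x ^ K₀.index := by
  classical
  letI : Fintype (K ⧸ K₀) := Fintype.ofFinite _
  unfold tr
  simp only [hx]
  rw [Finset.prod_const, Finset.card_univ, Subgroup.index_eq_card, Nat.card_eq_fintype_card]

theorem tr_equivariant (K₀ : Subgroup K) (σ : K ≃* K) (hσ : ∀ k, k ∈ K₀ ↔ σ k ∈ K₀) (τ : A ≃* A)
    (hτ : ∀ (k : K) (a : A), τ (k • a) = σ k • τ a) {x : A} (hx : ∀ k ∈ K₀, k • x = x) :
    τ (tr K₀ x) = tr K₀ (τ x) := by
  classical
  letI : Fintype (K ⧸ K₀) := Fintype.ofFinite _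
  have hx' : ∀ k ∈ K₀, k • τ x = τ x := by
    intro k hk
    have h1 : σ (σ.symm k) = k := by simp
    have h2 : σ.symm k ∈ K₀ := (hσ _).mpr (by rw [h1]; exact hk)
    rw [← h1, ← hτ, hx _ h2]
  unfold tr
  rw [map_prod]
  simp only [hτ]
  let φ : K ⧸ K₀ → K ⧸ K₀ := fun q => ((σ (Quotient.out q) : K) : K ⧸ K₀)
  have hφinj : Function.Injective φ := by
    intro q₁ q₂ h
    have h1 : ((σ (Quotient.out q₁) : K) : K ⧸ K₀) = ((σ (Quotient.out q₂) : K) : K ⧸ K₀) := h
    rw [QuotientGroup.eq, ← map_inv, ← map_mul] at h1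
    have h2 := (hσ _).mpr h1
    have h3 : ((Quotient.out q₁ : K) : K ⧸ K₀) = ((Quotient.out q₂ : K) : K ⧸ K₀) :=
      QuotientGroup.eq.mpr h2
    have h4 : ∀ q : K ⧸ K₀, ((Quotient.out q : K) : K ⧸ K₀) = q := fun q => Quotient.out_eq' q
    rwa [h4, h4] at h3
  have hφ : Function.Bijective φ := Finite.injective_iff_bijective.mp hφinj
  have h2 : ∀ q : K ⧸ K₀, σ (Quotient.out q) • τ x = (Quotient.out (φ q) : K) • τ x := by
    intro q
    exact (out_smul K₀ hx' _).symm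
  rw [Finset.prod_congr rfl (fun q _ => h2 q)]
  exact hφ.prod_comp (fun q : K ⧸ K₀ => (Quotient.out q : K) • τ x)

end abstract

section ambient

variable {G : Type*} [Group G] [Finite G]

/-- Conjugation as an automorphism of a normalized subgroup. -/
noncomputable def conjEquiv {K : Subgroup G} {t : G} (ht : t ∈ Subgroup.normalizer (K : Set G)) :
    K ≃* K where
  toFun k := ⟨t * k * t⁻¹, (Subgroup.mem_normalizer_iff.mp ht k).mp k.2⟩
  invFun k := ⟨t⁻¹ * k * t, by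
    have := (Subgroup.mem_normalizer_iff.mp (Subgroup.inv_mem _ ht) k).mp k.2
    simpa using this⟩
  left_inv k := Subtype.ext (by simp [mul_assoc])
  right_inv k := Subtype.ext (by simp [mul_assoc])
  map_mul' a b := Subtype.ext (by
    show t * ((a : G) * b) * t⁻¹ = t * a * t⁻¹ * (t * b * t⁻¹)
    group)

@[simp] theorem coe_conjEquiv {K : Subgroup G} {t : G} (ht : t ∈ Subgroup.normalizer (K : Set G))
    (k : K) : ((conjEquiv ht k : K) : G) = t * k * t⁻¹ := rfl

/-- **The relative trace, packaged.** -/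
theorem exists_trace {V K K₀ : Subgroup G} (hK₀ : K₀ ≤ K)
    (hVab : ∀ a ∈ V, ∀ b ∈ V, a * b = b * a) (hKV : K ≤ Subgroup.normalizer (V : Set G)) :
    ∃ tr : G → G,
      (∀ x ∈ V, (∀ k ∈ K₀, k * x * k⁻¹ = x) → tr x ∈ V) ∧
      (∀ x ∈ V, (∀ k ∈ K₀, k * x * k⁻¹ = x) → ∀ k ∈ K, k * tr x * k⁻¹ = tr x) ∧
      (∀ x ∈ V, ∀ y ∈ V, tr (x * y) = tr x * tr y) ∧
      (∀ x ∈ V, (∀ k ∈ K, k * x * k⁻¹ = x) → tr x = x ^ K₀.relIndex K) ∧
      (∀ t ∈ Subgroup.normalizer (K : Set G), t ∈ Subgroup.normalizer (K₀ : Set G) →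
        t ∈ Subgroup.normalizer (V : Set G) → ∀ x ∈ V, (∀ k ∈ K₀, k * x * k⁻¹ = x) →
          t * tr x * t⁻¹ = tr (t * x * t⁻¹)) ∧
      (∀ x ∈ V, (∀ k ∈ K₀, k * x * k⁻¹ = x) → ∀ W : Subgroup G,
        (∀ k ∈ K, k * x * k⁻¹ * x⁻¹ ∈ W) → tr x * (x ^ K₀.relIndex K)⁻¹ ∈ W) := by
  classical
  letI iV : CommGroup V :=
    { (inferInstance : Group V) with mul_comm := fun a b => Subtype.ext (hVab a a.2 b b.2) }
  letI act : MulDistribMulAction K V :=
    { smul := fun k v => ⟨(k : G) * v * (k : G)⁻¹, (Subgroup.mem_normalizer_iff.mp (hKV k.2) v).mp v.2⟩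
      one_smul := fun v => Subtype.ext (by
        show ((1 : K) : G) * v * ((1 : K) : G)⁻¹ = v
        simp)
      mul_smul := fun a b v => Subtype.ext (by
        show ((a * b : K) : G) * v * ((a * b : K) : G)⁻¹ =
          (a : G) * ((b : G) * v * (b : G)⁻¹) * (a : G)⁻¹
        simp only [Subgroup.coe_mul]
        group)
      smul_mul := fun k a b => Subtype.ext (by
        show (k : G) * ((a : G) * b) * (k : G)⁻¹ = (k : G) * a * (k : G)⁻¹ * ((k : G) * b * (k : G)⁻¹)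
        group)
      smul_one := fun k => Subtype.ext (by
        show (k : G) * ((1 : V) : G) * (k : G)⁻¹ = 1
        simp) }
  have hsmul : ∀ (k : K) (v : V), ((k • v : V) : G) = (k : G) * v * (k : G)⁻¹ := fun _ _ => rfl
  let K₀' : Subgroup K := K₀.subgroupOf K
  have hfix : ∀ x : V, (∀ k ∈ K₀, k * (x : G) * k⁻¹ = x) → ∀ k ∈ K₀', k • x = x := by
    intro x hx k hk
    apply Subtype.ext
    rw [hsmul]
    exact hx k hk
  have hreal : K₀'.index = K₀.relIndex K := rfl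
  let trV : V → V := tr K₀'
  let f : G → G := fun x => if h : x ∈ V then ((trV ⟨x, h⟩ : V) : G) else 1
  have hf : ∀ x (h : x ∈ V), f x = ((trV ⟨x, h⟩ : V) : G) := fun x h => dif_pos h
  refine ⟨f, ?_, ?_, ?_, ?_, ?_, ?_⟩
  · intro x hx _
    rw [hf x hx]
    exact (trV ⟨x, hx⟩).2
  · intro x hx h0 k hk
    rw [hf x hx]
    have h1 := smul_tr K₀' (hfix ⟨x, hx⟩ h0) (⟨k, hk⟩ : K)
    have h2 := congrArg Subtype.val h1
    rw [hsmul] at h2
    exact h2
  · intro x hx y hy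
    rw [hf (x * y) (V.mul_mem hx hy), hf x hx, hf y hy]
    have h1 : (⟨x * y, V.mul_mem hx hy⟩ : V) = ⟨x, hx⟩ * ⟨y, hy⟩ := rfl
    rw [h1]
    have h2 : trV (⟨x, hx⟩ * ⟨y, hy⟩) = trV ⟨x, hx⟩ * trV ⟨y, hy⟩ := tr_mul K₀' _ _
    rw [h2]
    rfl
  · intro x hx h0
    rw [hf x hx]
    have h1 : trV ⟨x, hx⟩ = (⟨x, hx⟩ : V) ^ K₀'.index := tr_of_fixed K₀' (fun k => by
      apply Subtype.ext
      rw [hsmul]
      exact h0 k k.2)
    rw [h1]
    rfl
  · intro t htK htK₀ htV x hx h0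
    have hcx : t * x * t⁻¹ ∈ V := (Subgroup.mem_normalizer_iff.mp htV x).mp hx
    rw [hf x hx, hf _ hcx]
    let σ : K ≃* K := conjEquiv htK
    let τ : V ≃* V :=
      { toFun := fun v => ⟨t * v * t⁻¹, (Subgroup.mem_normalizer_iff.mp htV v).mp v.2⟩
        invFun := fun v => ⟨t⁻¹ * v * t, by
          have := (Subgroup.mem_normalizer_iff.mp (Subgroup.inv_mem _ htV) v).mp v.2
          simpa using this⟩
        left_inv := fun k => Subtype.ext (by simp [mul_assoc])
        right_inv := fun k => Subtype.ext (by simp [mul_assoc])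
        map_mul' := fun a b => Subtype.ext (by
          show t * ((a : G) * b) * t⁻¹ = t * a * t⁻¹ * (t * b * t⁻¹)
          group) }
    have hτ : ∀ (k : K) (a : V), τ (k • a) = σ k • τ a := by
      intro k a
      apply Subtype.ext
      show t * ((k : G) * a * (k : G)⁻¹) * t⁻¹ =
        (t * (k : G) * t⁻¹) * (t * a * t⁻¹) * (t * (k : G) * t⁻¹)⁻¹
      group
    have hσ : ∀ k : K, k ∈ K₀' ↔ σ k ∈ K₀' := by
      intro k
      exact Subgroup.mem_normalizer_iff.mp htK₀ (k : G)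
    have h1 := tr_equivariant K₀' σ hσ τ hτ (x := (⟨x, hx⟩ : V)) (hfix ⟨x, hx⟩ h0)
    have h2 := congrArg Subtype.val h1
    exact h2
  · intro x hx h0 W hW
    letI : Fintype (K ⧸ K₀') := Fintype.ofFinite _
    rw [hf x hx]
    let X : V := ⟨x, hx⟩
    have hprod : ∀ q ∈ (Finset.univ : Finset (K ⧸ K₀')), ((Quotient.out q : K) • X * X⁻¹ : V) ∈ W.subgroupOf V := by
      intro q _
      show ((Quotient.out q : K) : G) * x * ((Quotient.out q : K) : G)⁻¹ * x⁻¹ ∈ W
      exact hW _ (Quotient.out q : K).2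
    have h1 := Subgroup.prod_mem (W.subgroupOf V) hprod
    rw [Finset.prod_mul_distrib, Finset.prod_const, Finset.card_univ] at h1
    have h2 : Fintype.card (K ⧸ K₀') = K₀.relIndex K := by
      rw [← Nat.card_eq_fintype_card]
      rfl
    rw [h2] at h1
    have h3 : ∏ q : K ⧸ K₀', (Quotient.out q : K) • X = trV X := rfl
    rw [h3] at h1
    have h4 : ((trV X * (X⁻¹) ^ (K₀.relIndex K) : V) : G) ∈ W := h1
    have h5 : ((trV X * (X⁻¹) ^ (K₀.relIndex K) : V) : G) = (trV X : G) * (x ^ (K₀.relIndex K))⁻¹ := by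
      rw [Subgroup.coe_mul, Subgroup.coe_pow, Subgroup.coe_inv, inv_pow]
    rw [← h5]
    exact h4

end ambient

end Cfsg.Agent.Lib.RelTrace
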