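import Mathlib
import Cfsg.Agent.Lib.PReduced3
import Cfsg.Agent.Lib.RelTrace
import Cfsg.Agent.Lib.CharPLocal
import Cfsg.Agent.Lib.CharTwoLocal2
import Cfsg.Agent.Lib.SubnormalSylow

/-!
# Kieler's Lemma: `C_L(Ω₁(Z(T))) = C_L(Ω₁(Z(T ∩ L)))`
-/

set_option autoImplicit false
set_option linter.unusedSectionVars false
set_option linter.style.haveILetI false

open Cfsg
open scoped commutatorElement

namespace Cfsg.Agent.Lib.Kieler

open Cfsg.Agent.Lib.PCore Cfsg.Agent.Lib.PResid Cfsg.Agent.Lib.LocalTools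
  Cfsg.Agent.Lib.LocalTools2 Cfsg.Agent.Lib.PReduced Cfsg.Agent.Lib.PReduced2
  Cfsg.Agent.Lib.PReduced3 Cfsg.Agent.Lib.PLocalTools Cfsg.Agent.Lib.RelTrace

variable {G : Type*} [Group G] [Finite G] {p : ℕ} [hp : Fact p.Prime]

/-- `x = (x^m)^{m'}`, if `x^p = 1` and `m` is prime to `p`. -/
theorem mem_of_pow_mem {x : G} (hx : x ^ p = 1) {m : ℕ} (hm : ¬ p ∣ m) {W : Subgroup G}
    (h : x ^ m ∈ W) : x ∈ W := by
  have hp' : p.Prime := Fact.out
  apply Cfsg.Agent.Lib.CharTwoLocal.mem_of_pow_mem_of_coprime h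
  have h1 : orderOf x ∣ p := orderOf_dvd_of_pow_eq_one hx
  exact Nat.Coprime.coprime_dvd_left h1 ((Nat.Prime.coprime_iff_not_dvd hp').mpr hm)

/-- The `C_L(Ω₁Z(T ∩ L)) ≤ C_L(Ω₁Z(T))` half. -/
theorem inf_centralizer_le_aux (hH : Subgroup.centralizer (pCore p G : Set G) ≤ pCore p G)
    (T : Sylow p G) {L : Subgroup G} (hL : L.Normal) :
    L ⊓ Subgroup.centralizer ((omegaOne p (((T : Subgroup G) ⊓ L) ⊓
        Subgroup.centralizer ((((T : Subgroup G) ⊓ L) : Subgroup G) : Set G))) : Set G) ≤
      Subgroup.centralizer ((omegaOne p ((T : Subgroup G) ⊓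
        Subgroup.centralizer ((T : Subgroup G) : Set G))) : Set G) := by
  set A : Subgroup G := omegaOne p ((T : Subgroup G) ⊓
        Subgroup.centralizer ((T : Subgroup G) : Set G)) with hA
  set R : Subgroup G := (T : Subgroup G) ⊓ L with hR
  set B : Subgroup G := omegaOne p (R ⊓ Subgroup.centralizer (R : Set G)) with hB
  set V : Subgroup G := largestPReduced p G with hV
  have hVr : IsPReducedNormal p V := isPReducedNormal_largest
  have hVn : V.Normal := pr_normal hVr
  have hAV : A ≤ V := sylow_omega_le_largest hH T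
  have hVT : V ≤ (T : Subgroup G) := (pr_le_pCore hVr).trans (pCore_le_sylow p T)
  obtain ⟨tr, h1, h2, h3, h4, h5, h6⟩ := exists_trace (V := V) (K := L) (K₀ := R) inf_le_right
    (pr_comm hVr) (by rw [Subgroup.normalizer_eq_top_iff.mpr hVn]; exact le_top)
  obtain ⟨S, hS⟩ := exists_sylow_inf_of_normal T L
  have hSeq : (S : Subgroup L) = R.subgroupOf L := by
    rw [← hR] at hS
    rw [← hS]
    exact (Subgroup.comap_map_eq_self_of_injective (Subgroup.subtype_injective L) _).symm
  have hm : ¬ p ∣ R.relIndex L := by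
    have := S.not_dvd_index
    rw [hSeq] at this
    exact this
  rintro x ⟨hxL, hxB⟩
  rw [Subgroup.mem_centralizer_iff]
  intro a ha
  have haT : a ∈ (T : Subgroup G) ⊓ Subgroup.centralizer ((T : Subgroup G) : Set G) :=
    omegaOne_le p _ ha
  have hap : a ^ p = 1 := pr_pow hVr a (hAV ha)
  have haR : ∀ k ∈ R, k * a * k⁻¹ = a := fun k hk => by
    rw [Subgroup.mem_centralizer_iff.mp haT.2 k hk.1]; group
  have hcV := h1 a (hAV ha) haR
  have hcfix := h2 a (hAV ha) haR
  have hu := h6 a (hAV ha) haR L (fun k hk => by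
    have e : k * a * k⁻¹ * a⁻¹ = k * (a * k⁻¹ * a⁻¹) := by group
    rw [e]
    exact L.mul_mem hk (hL.conj_mem _ (L.inv_mem hk) a))
  set c := tr a with hc
  set m := R.relIndex L with hmdef
  set u := c * (a ^ m)⁻¹ with hudef
  have huV : u ∈ V := V.mul_mem hcV (V.inv_mem (V.pow_mem (hAV ha) _))
  have huB : u ∈ B := by
    apply mem_omegaOne _ (pr_pow hVr u huV)
    refine ⟨⟨hVT huV, hu⟩, ?_⟩
    show u ∈ Subgroup.centralizer _
    rw [Subgroup.mem_centralizer_iff]
    intro k hk
    have h7 := hcfix k hk.2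
    have h8 : k * c = c * k := by
      calc k * c = k * c * k⁻¹ * k := by group
        _ = c * k := by rw [h7]
    have h9 : k * a = a * k := Subgroup.mem_centralizer_iff.mp haT.2 k hk.1
    have h10 : Commute k (a ^ m) := Commute.pow_right h9 m
    have h11 : k * (a ^ m)⁻¹ = (a ^ m)⁻¹ * k := (h10.inv_right).eq
    rw [hudef]
    calc k * (c * (a ^ m)⁻¹) = (k * c) * (a ^ m)⁻¹ := by group
      _ = c * (k * (a ^ m)⁻¹) := by rw [h8]; group
      _ = c * ((a ^ m)⁻¹ * k) := by rw [h11]
      _ = _ := by group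
  have hxu : u * x = x * u := Subgroup.mem_centralizer_iff.mp hxB u huB
  have hxc : x * c = c * x := by
    have h7 := hcfix x hxL
    calc x * c = x * c * x⁻¹ * x := by group
      _ = c * x := by rw [h7]
  have hma : a ^ m = u⁻¹ * c := by rw [hudef]; group
  have hW : a ^ m ∈ Subgroup.centralizer ({x} : Set G) := by
    rw [hma, Subgroup.mem_centralizer_singleton_iff]
    have h12 : u⁻¹ * x = x * u⁻¹ := ((Commute.inv_left (show Commute u x from hxu)).eq)
    calc u⁻¹ * c * x = u⁻¹ * (c * x) := by group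
      _ = u⁻¹ * (x * c) := by rw [hxc]
      _ = (u⁻¹ * x) * c := by group
      _ = (x * u⁻¹) * c := by rw [h12]
      _ = x * (u⁻¹ * c) := by group
  have h13 := mem_of_pow_mem hap hm hW
  exact Subgroup.mem_centralizer_singleton_iff.mp h13

/-- The `C_L(Ω₁Z(T)) ≤ C_L(Ω₁Z(T ∩ L))` half. -/
theorem inf_centralizer_le_aux' (hH : Subgroup.centralizer (pCore p G : Set G) ≤ pCore p G)
    (T : Sylow p G) {L : Subgroup G} (hL : L.Normal) :
    L ⊓ Subgroup.centralizer ((omegaOne p ((T : Subgroup G) ⊓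
        Subgroup.centralizer ((T : Subgroup G) : Set G))) : Set G) ≤
      Subgroup.centralizer ((omegaOne p (((T : Subgroup G) ⊓ L) ⊓
        Subgroup.centralizer ((((T : Subgroup G) ⊓ L) : Subgroup G) : Set G))) : Set G) := by
  set A : Subgroup G := omegaOne p ((T : Subgroup G) ⊓
        Subgroup.centralizer ((T : Subgroup G) : Set G)) with hA
  set R : Subgroup G := (T : Subgroup G) ⊓ L with hR
  set B : Subgroup G := omegaOne p (R ⊓ Subgroup.centralizer (R : Set G)) with hB
  set L' : Subgroup G := L ⊓ Subgroup.centralizer (A : Set G) with hL'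
  have hAle : A ≤ (T : Subgroup G) ⊓ Subgroup.centralizer ((T : Subgroup G) : Set G) := omegaOne_le p _
  have hBle : B ≤ R ⊓ Subgroup.centralizer (R : Set G) := omegaOne_le p _
  have hTCA : (T : Subgroup G) ≤ Subgroup.centralizer (A : Set G) := by
    rw [Subgroup.le_centralizer_iff]
    exact hAle.trans inf_le_right
  have hCN : Subgroup.centralizer (A : Set G) ≤
      Subgroup.normalizer ((Subgroup.centralizer (A : Set G) : Subgroup G) : Set G) :=
    Subgroup.le_normalizer
  have hRL' : R ≤ L' := le_inf inf_le_right (inf_le_left.trans hTCA)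
  have hLtop : ∀ g : G, g ∈ Subgroup.normalizer (L : Set G) := by
    rw [Subgroup.normalizer_eq_top_iff.mpr hL]; exact fun _ => trivial
  have hTL' : (T : Subgroup G) ≤ Subgroup.normalizer (L' : Set G) := fun t ht =>
    mem_normalizer_inf (hLtop t) (hCN (hTCA ht))
  have hOT : pCore p G ≤ (T : Subgroup G) := pCore_le_sylow p T
  have hL'char : Subgroup.centralizer (pCore p ↥L' : Set ↥L') ≤ pCore p ↥L' :=
    Cfsg.Agent.Lib.CharPLocal.charP_of_le_normalizer hH L' (hOT.trans hTL')
  have hTinf : (T : Subgroup G) ⊓ L' = R := by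
    apply le_antisymm
    · exact le_inf inf_le_left (inf_le_right.trans inf_le_left)
    · exact le_inf inf_le_left hRL'
  obtain ⟨S, hS⟩ := exists_sylow_inf_of_le_normalizer T L' hTL'
  rw [hTinf] at hS
  have hSeq : (S : Subgroup L') = R.subgroupOf L' := by
    rw [← hS]
    exact (Subgroup.comap_map_eq_self_of_injective (Subgroup.subtype_injective L') _).symm
  have hm : ¬ p ∣ R.relIndex L' := by
    have := S.not_dvd_index
    rw [hSeq] at this
    exact this
  set Q : Subgroup G := pCoreOf p L' with hQ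
  have hQR : Q ≤ R := by
    rintro _ ⟨o, ho, rfl⟩
    have h1 := pCore_le_sylow p S ho
    rw [hSeq] at h1
    exact h1
  have hZQ : R ⊓ Subgroup.centralizer (R : Set G) ≤ Q := by
    rintro z ⟨hz1, hz2⟩
    have hzL' : z ∈ L' := hRL' hz1
    have h1 : (⟨z, hzL'⟩ : L') ∈ Subgroup.centralizer (pCore p ↥L' : Set ↥L') := by
      rw [Subgroup.mem_centralizer_iff]
      intro o ho
      apply Subtype.ext
      exact Subgroup.mem_centralizer_iff.mp hz2 (o : G) (hQR ⟨o, ho, rfl⟩)
    exact ⟨_, hL'char h1, rfl⟩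
  set V : Subgroup G := Q ⊓ Subgroup.centralizer (Q : Set G) with hV
  have hVab : ∀ a ∈ V, ∀ b ∈ V, a * b = b * a := fun a ha b hb =>
    (Subgroup.mem_centralizer_iff.mp hb.2 a ha.1)
  have hBV : B ≤ V := by
    intro b hb
    have hb' := hBle hb
    refine ⟨hZQ hb', ?_⟩
    show b ∈ Subgroup.centralizer _
    rw [Subgroup.mem_centralizer_iff]
    intro q hq
    exact Subgroup.mem_centralizer_iff.mp hb'.2 q (hQR hq)
  have hQnorm : Subgroup.normalizer (L' : Set G) ≤ Subgroup.normalizer (Q : Set G) :=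
    normalizer_le_normalizer_of_characteristic (pCore_characteristic p)
  have hVnorm : Subgroup.normalizer (L' : Set G) ≤ Subgroup.normalizer (V : Set G) := fun t ht =>
    mem_normalizer_inf (hQnorm ht) (mem_normalizer_centralizer (hQnorm ht))
  have hL'V : L' ≤ Subgroup.normalizer (V : Set G) := Subgroup.le_normalizer.trans hVnorm
  have hTV : (T : Subgroup G) ≤ Subgroup.normalizer (V : Set G) := hTL'.trans hVnorm
  have hTR : (T : Subgroup G) ≤ Subgroup.normalizer (R : Set G) := fun t ht =>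
    mem_normalizer_inf (Subgroup.le_normalizer ht) (hLtop t)
  have hBpow : ∀ b ∈ B, b ^ p = 1 :=
    (Cfsg.Agent.Lib.PLocalTools.omegaOne_ea (p := p) (H := R ⊓ Subgroup.centralizer (R : Set G))
      (fun x hx y hy => Subgroup.mem_centralizer_iff.mp hy.2 x hx.1)).2
  have hTB : ∀ t ∈ (T : Subgroup G), ∀ b ∈ B, t * b * t⁻¹ ∈ B := by
    intro t ht b hb
    have hle : B ≤ B.comap (MulAut.conj t).toMonoidHom := by
      rw [hB, omegaOne, Subgroup.closure_le]
      rintro x ⟨⟨hx1, hx2⟩, hx3⟩
      apply Subgroup.subset_closure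
      have hr' := Subgroup.mem_normalizer_iff.mp (hTR ht)
      refine ⟨⟨(hr' x).mp hx1, ?_⟩, ?_⟩
      · show (MulAut.conj t) x ∈ Subgroup.centralizer (R : Set G)
        rw [Subgroup.mem_centralizer_iff]
        intro r hr
        have h1 : t⁻¹ * r * t ∈ R := by
          apply (hr' (t⁻¹ * r * t)).mpr
          have e : t * (t⁻¹ * r * t) * t⁻¹ = r := by group
          rw [e]
          exact hr
        have h2 : (t⁻¹ * r * t) * x = x * (t⁻¹ * r * t) :=
          Subgroup.mem_centralizer_iff.mp hx2 _ h1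
        show r * (t * x * t⁻¹) = t * x * t⁻¹ * r
        calc r * (t * x * t⁻¹) = t * ((t⁻¹ * r * t) * x) * t⁻¹ := by group
          _ = t * (x * (t⁻¹ * r * t)) * t⁻¹ := by rw [h2]
          _ = t * x * t⁻¹ * r := by group
      · show (MulAut.conj t) x ^ p = 1
        rw [← map_pow, hx3, map_one]
    exact hle hb
  obtain ⟨tr, h1, h2, h3, h4, h5, h6⟩ := exists_trace (V := V) (K := L') (K₀ := R) hRL' hVab hL'V
  set m := R.relIndex L' with hmdef
  have hfixB : ∀ b ∈ B, ∀ k ∈ R, k * b * k⁻¹ = b := fun b hb k hk => by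
    rw [Subgroup.mem_centralizer_iff.mp (hBle hb).2 k hk]; group
  have htr1 : tr 1 = 1 := by
    have := h4 1 V.one_mem (fun k _ => by simp)
    rw [this, one_pow]
  have htrinv : ∀ b ∈ V, tr b⁻¹ = (tr b)⁻¹ := by
    intro b hb
    have h7 := h3 b⁻¹ (V.inv_mem hb) b hb
    rw [inv_mul_cancel, htr1] at h7
    exact eq_inv_of_mul_eq_one_left h7.symm
  have htrpow : ∀ b ∈ V, ∀ n : ℕ, tr (b ^ n) = (tr b) ^ n := by
    intro b hb n
    induction n with
    | zero => simpa using htr1
    | succ n ih =>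
      rw [pow_succ, pow_succ, h3 _ (V.pow_mem hb n) b hb, ih]
  -- the kernel of the trace on `B`
  let B₁ : Subgroup G :=
    { carrier := {y | y ∈ B ∧ tr y = 1}
      one_mem' := ⟨B.one_mem, htr1⟩
      inv_mem' := fun {y} hy => ⟨B.inv_mem hy.1, by
        rw [htrinv y (hBV hy.1), hy.2, inv_one]⟩
      mul_mem' := fun {a b} ha hb => ⟨B.mul_mem ha.1 hb.1, by
        rw [h3 a (hBV ha.1) b (hBV hb.1), ha.2, hb.2, one_mul]⟩ }
  have hB₁ : B₁ = ⊥ := by
    by_contra hne
    have hB₁p : IsPGroup p B₁ := isPGroup_of_pow_eq_one (fun a ha => hBpow a ha.1)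
    obtain ⟨w, hw, hw1, hwT⟩ := Cfsg.Agent.Lib.CharTwoLocal2.exists_fixed_of_normalized T.isPGroup'
      hB₁p (by
        intro t ht y hy
        refine ⟨hTB t ht y hy.1, ?_⟩
        have h7 := h5 t (hTL' ht) (hTR ht) (hTV ht) y (hBV hy.1) (hfixB y hy.1)
        rw [← h7, hy.2]
        group) hne
    have hwA : w ∈ A := by
      apply mem_omegaOne _ (hBpow w hw.1)
      refine ⟨(hBle hw.1).1.1, ?_⟩
      show w ∈ Subgroup.centralizer _
      rw [Subgroup.mem_centralizer_iff]
      intro t ht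
      exact hwT t ht
    have hwm := h4 w (hBV hw.1) (fun k hk => by
      have : k * w = w * k := (Subgroup.mem_centralizer_iff.mp hk.2 w hwA).symm
      rw [this]; group)
    rw [hw.2] at hwm
    apply hw1
    have h8 : w ∈ (⊥ : Subgroup G) := by
      apply mem_of_pow_mem (hBpow w hw.1) hm
      rw [← hwm]
      exact Subgroup.one_mem _
    exact (Subgroup.mem_bot).mp h8
  rintro l hl
  rw [Subgroup.mem_centralizer_iff]
  intro x hx
  -- `tr x ∈ B`
  have hxV := hBV hx
  have htrV := h1 x hxV (hfixB x hx)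
  have htrfix := h2 x hxV (hfixB x hx)
  have htrB : tr x ∈ B := by
    apply mem_omegaOne _
    · rw [← htrpow x hxV, hBpow x hx, htr1]
    · refine ⟨hQR htrV.1, ?_⟩
      show tr x ∈ Subgroup.centralizer _
      rw [Subgroup.mem_centralizer_iff]
      intro k hk
      have h7 := htrfix k (hRL' hk)
      calc k * tr x = k * tr x * k⁻¹ * k := by group
        _ = tr x * k := by rw [h7]
  have hy : x ^ m * (tr x)⁻¹ ∈ B₁ := by
    refine ⟨B.mul_mem (B.pow_mem hx _) (B.inv_mem htrB), ?_⟩
    rw [h3 _ (V.pow_mem hxV _) _ (V.inv_mem htrV), htrinv _ htrV, htrpow x hxV,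
      h4 (tr x) htrV htrfix, mul_inv_cancel]
  rw [hB₁] at hy
  have hxm : x ^ m = tr x := by
    have := (Subgroup.mem_bot).mp hy
    exact mul_inv_eq_one.mp this
  have hW : x ^ m ∈ Subgroup.centralizer ({l} : Set G) := by
    rw [hxm, Subgroup.mem_centralizer_singleton_iff]
    have h7 := htrfix l hl
    calc tr x * l = (l * tr x * l⁻¹) * l := by rw [h7]
      _ = l * tr x := by group
  have h13 := mem_of_pow_mem (hBpow x hx) hm hW
  exact Subgroup.mem_centralizer_singleton_iff.mp h13

/-- Kieler's Lemma for a normal subgroup. -/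
theorem inf_centralizer_eq_of_normal (hH : Subgroup.centralizer (pCore p G : Set G) ≤ pCore p G)
    (T : Sylow p G) {L : Subgroup G} (hL : L.Normal) :
    L ⊓ Subgroup.centralizer ((omegaOne p ((T : Subgroup G) ⊓
        Subgroup.centralizer ((T : Subgroup G) : Set G))) : Set G) =
      L ⊓ Subgroup.centralizer ((omegaOne p (((T : Subgroup G) ⊓ L) ⊓
        Subgroup.centralizer ((((T : Subgroup G) ⊓ L) : Subgroup G) : Set G))) : Set G) :=
  le_antisymm (le_inf inf_le_left (inf_centralizer_le_aux' hH T hL))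
    (le_inf inf_le_left (inf_centralizer_le_aux hH T hL))

/-- `Ω₁Z` of a subgroup in the subgroup, transported. -/
theorem map_omega_subtype {K : Subgroup G} (A : Subgroup K) :
    (omegaOne p (A ⊓ Subgroup.centralizer (A : Set K))).map K.subtype =
      omegaOne p (A.map K.subtype ⊓ Subgroup.centralizer ((A.map K.subtype : Subgroup G) : Set G)) := by
  rw [map_omegaOne p _ _ (Subgroup.subtype_injective K), map_inf_centralizer_subtype]

/-- Centralizer of an image. -/
theorem mem_centralizer_map_iff {K : Subgroup G} (A : Subgroup K) (x : K) :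
    (x : G) ∈ Subgroup.centralizer ((A.map K.subtype : Subgroup G) : Set G) ↔
      x ∈ Subgroup.centralizer (A : Set K) := by
  rw [Subgroup.mem_centralizer_iff, Subgroup.mem_centralizer_iff]
  constructor
  · intro h a ha
    exact Subtype.ext (h _ ⟨a, ha, rfl⟩)
  · rintro h _ ⟨a, ha, rfl⟩
    exact congrArg Subtype.val (h a ha)

/-- **Kieler's Lemma**. -/
theorem inf_centralizer_eq_of_subnormal (hH : Subgroup.centralizer (pCore p G : Set G) ≤ pCore p G)
    (T : Sylow p G) {L : Subgroup G} (hL : L.IsSubnormal) :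
    L ⊓ Subgroup.centralizer ((omegaOne p ((T : Subgroup G) ⊓
        Subgroup.centralizer ((T : Subgroup G) : Set G))) : Set G) =
      L ⊓ Subgroup.centralizer ((omegaOne p (((T : Subgroup G) ⊓ L) ⊓
        Subgroup.centralizer ((((T : Subgroup G) ⊓ L) : Subgroup G) : Set G))) : Set G) := by
  induction hL with
  | top => simp
  | step M K hMK hK hMn ih =>
    have hKchar := Cfsg.Agent.Lib.CharPLocal.charP_of_isSubnormal hH K hK
    obtain ⟨S, hS⟩ := Cfsg.Agent.Lib.SubnormalSylow.exists_sylow_inf_of_isSubnormal T K hK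
    have h1 := inf_centralizer_eq_of_normal hKchar S hMn
    -- transport
    have hSM : ((S : Subgroup K) ⊓ M.subgroupOf K).map K.subtype = (T : Subgroup G) ⊓ M := by
      rw [Subgroup.map_inf _ _ _ (Subgroup.subtype_injective K), hS,
        Subgroup.map_subgroupOf_eq_of_le hMK, inf_assoc, inf_of_le_right hMK]
    have key : ∀ x (hx : x ∈ M),
        (x ∈ Subgroup.centralizer ((omegaOne p (((T : Subgroup G) ⊓ K) ⊓
          Subgroup.centralizer ((((T : Subgroup G) ⊓ K) : Subgroup G) : Set G))) : Set G) ↔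
        x ∈ Subgroup.centralizer ((omegaOne p (((T : Subgroup G) ⊓ M) ⊓
          Subgroup.centralizer ((((T : Subgroup G) ⊓ M) : Subgroup G) : Set G))) : Set G)) := by
      intro x hx
      have hxK := hMK hx
      have h2 : (⟨x, hxK⟩ : K) ∈ M.subgroupOf K := hx
      have h3 : ((⟨x, hxK⟩ : K) ∈ M.subgroupOf K ⊓ Subgroup.centralizer (omegaOne p ((S : Subgroup K) ⊓
          Subgroup.centralizer ((S : Subgroup K) : Set K)) : Set K)) ↔
          ((⟨x, hxK⟩ : K) ∈ M.subgroupOf K ⊓ Subgroup.centralizer (omegaOne p (((S : Subgroup K) ⊓ M.subgroupOf K) ⊓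
          Subgroup.centralizer ((((S : Subgroup K) ⊓ M.subgroupOf K) : Subgroup K) : Set K)) : Set K)) := by
        rw [h1]
      have h4 := fun h => (h3.mp ⟨h2, h⟩).2
      have h5 := fun h => (h3.mpr ⟨h2, h⟩).2
      constructor
      · intro h
        have h6 : x ∈ Subgroup.centralizer (((omegaOne p ((S : Subgroup K) ⊓
          Subgroup.centralizer ((S : Subgroup K) : Set K))).map K.subtype : Subgroup G) : Set G) := by
          rw [map_omega_subtype, hS]
          exact h
        have h7 := h4 ((mem_centralizer_map_iff _ ⟨x, hxK⟩).mp h6)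
        have h8 := (mem_centralizer_map_iff _ ⟨x, hxK⟩).mpr h7
        rw [map_omega_subtype, hSM] at h8
        exact h8
      · intro h
        have h6 : x ∈ Subgroup.centralizer (((omegaOne p (((S : Subgroup K) ⊓ M.subgroupOf K) ⊓
          Subgroup.centralizer ((((S : Subgroup K) ⊓ M.subgroupOf K) : Subgroup K) : Set K))).map K.subtype : Subgroup G) : Set G) := by
          rw [map_omega_subtype, hSM]
          exact h
        have h7 := h5 ((mem_centralizer_map_iff _ ⟨x, hxK⟩).mp h6)
        have h8 := (mem_centralizer_map_iff _ ⟨x, hxK⟩).mpr h7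
        rw [map_omega_subtype, hS] at h8
        exact h8
    ext x
    constructor
    · rintro ⟨hxM, hxC⟩
      have h2 : x ∈ K ⊓ Subgroup.centralizer ((omegaOne p ((T : Subgroup G) ⊓
        Subgroup.centralizer ((T : Subgroup G) : Set G))) : Set G) := ⟨hMK hxM, hxC⟩
      rw [ih] at h2
      exact ⟨hxM, (key x hxM).mp h2.2⟩
    · rintro ⟨hxM, hxC⟩
      have h2 : x ∈ K ⊓ Subgroup.centralizer ((omegaOne p (((T : Subgroup G) ⊓ K) ⊓
        Subgroup.centralizer ((((T : Subgroup G) ⊓ K) : Subgroup G) : Set G))) : Set G) :=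
        ⟨hMK hxM, (key x hxM).mpr hxC⟩
      rw [← ih] at h2
      exact ⟨hxM, h2.2⟩

end Cfsg.Agent.Lib.Kieler
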