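import Mathlib
import Cfsg.Agent.Lib.SubCount

set_option autoImplicit false
set_option linter.unusedSectionVars false
set_option linter.unusedSimpArgs false
set_option linter.unusedVariables false

/-!
# Klein four-subgroups of a finite group and pairs of commuting involutions
-/

namespace Cfsg.Agent.Lib.KleinGroup

open Cfsg.Agent.Lib.SubCount

variable {G : Type*} [Group G]

/-- Pairs of distinct commuting involutions. -/
def IsPair (x y : G) : Prop := orderOf x = 2 ∧ orderOf y = 2 ∧ x ≠ y ∧ x * y = y * x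

theorem sq_of_order {x : G} (h : orderOf x = 2) : x * x = 1 := by
  have := pow_orderOf_eq_one x
  rw [h, sq] at this
  exact this

theorem ne_one_of_order {x : G} (h : orderOf x = 2) : x ≠ 1 := by
  rintro rfl
  simp at h

theorem order_of_sq {x : G} (h : x * x = 1) (h1 : x ≠ 1) : orderOf x = 2 :=
  orderOf_eq_prime (by rw [sq, h]) h1

/-- The subgroup `{1, x, y, xy}` of a pair of commuting elements of order dividing two. -/
def klein (x y : G) (hx : x * x = 1) (hy : y * y = 1) (hxy : x * y = y * x) : Subgroup G where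
  carrier := {1, x, y, x * y}
  mul_mem' := by
    have e1 : x * (x * y) = y := by rw [← mul_assoc, hx, one_mul]
    have e2 : y * (x * y) = x := by rw [← mul_assoc, ← hxy, mul_assoc, hy, mul_one]
    have e3 : x * y * x = y := by rw [hxy, mul_assoc, hx, mul_one]
    have e4 : x * y * y = x := by rw [mul_assoc, hy, mul_one]
    have e5 : x * y * (x * y) = 1 := by rw [mul_assoc, e2, hx]
    have e6 : y * x = x * y := hxy.symm
    rintro a b (rfl | rfl | rfl | rfl) (rfl | rfl | rfl | rfl) <;>
      simp only [one_mul, mul_one, hx, hy, e1, e2, e3, e4, e5, e6, Set.mem_insert_iff, Set.mem_singleton_iff, true_or, or_true]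
  one_mem' := by simp
  inv_mem' := by
    have e5 : x * y * (x * y) = 1 := by
      rw [mul_assoc, ← mul_assoc y x y, ← hxy, mul_assoc, hy, mul_one, hx]
    rintro a (rfl | rfl | rfl | rfl)
    · simp
    · rw [inv_eq_of_mul_eq_one_left hx]
      simp
    · rw [inv_eq_of_mul_eq_one_left hy]
      simp
    · rw [inv_eq_of_mul_eq_one_left e5]
      simp

theorem mem_klein {x y : G} {hx : x * x = 1} {hy : y * y = 1} {hxy : x * y = y * x} {a : G} :
    a ∈ klein x y hx hy hxy ↔ a = 1 ∨ a = x ∨ a = y ∨ a = x * y := Iff.rfl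

theorem klein_ne {x y : G} (hx : orderOf x = 2) (hy : orderOf y = 2) (hne : x ≠ y) :
    x ≠ 1 ∧ y ≠ 1 ∧ x * y ≠ 1 ∧ x * y ≠ x ∧ x * y ≠ y := by
  refine ⟨ne_one_of_order hx, ne_one_of_order hy, ?_, ?_, ?_⟩
  · intro h
    apply hne
    have h3 : y * y = 1 := sq_of_order hy
    calc x = x * (y * y) := by rw [h3, mul_one]
      _ = y := by rw [← mul_assoc, h, one_mul]
  · intro h
    exact ne_one_of_order hy (by simpa using h)
  · intro h
    exact ne_one_of_order hx (by simpa using h)

theorem card_klein {x y : G} (hP : IsPair x y) :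
    Nat.card (klein x y (sq_of_order hP.1) (sq_of_order hP.2.1) hP.2.2.2) = 4 := by
  classical
  obtain ⟨hx, hy, hne, hc⟩ := hP
  obtain ⟨h1, h2, h3, h4, h5⟩ := klein_ne hx hy hne
  have e : ((klein x y (sq_of_order hx) (sq_of_order hy) hc : Subgroup G) : Set G) = (({1, x, y, x * y} : Finset G) : Set G) := by
    ext a
    simp [mem_klein]
  have : Nat.card (klein x y (sq_of_order hx) (sq_of_order hy) hc) = Nat.card ((klein x y (sq_of_order hx) (sq_of_order hy) hc : Subgroup G) : Set G) := rfl
  rw [this, e, Nat.card_coe_set_eq, Set.ncard_coe_finset, Finset.card_insert_of_notMem, Finset.card_insert_of_notMem, Finset.card_insert_of_notMem, Finset.card_singleton]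
  · simp [hne, h5.symm]
  · simp [h1.symm, h2.symm, h3.symm]
    exact ⟨hne, h2⟩
  · simp [h1.symm, h2.symm, h3.symm]

theorem isKlein_klein {x y : G} (hP : IsPair x y) :
    IsKleinFour (klein x y (sq_of_order hP.1) (sq_of_order hP.2.1) hP.2.2.2) := by
  refine ⟨card_klein hP, ?_⟩
  have hsq : ∀ a ∈ klein x y (sq_of_order hP.1) (sq_of_order hP.2.1) hP.2.2.2, a * a = 1 := by
    have e5 : x * y * (x * y) = 1 := by
      rw [mul_assoc, ← mul_assoc y x y, ← hP.2.2.2, mul_assoc, sq_of_order hP.2.1, mul_one, sq_of_order hP.1]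
    rintro a (rfl | rfl | rfl | rfl)
    · simp
    · exact sq_of_order hP.1
    · exact sq_of_order hP.2.1
    · exact e5
  have hx1 : x ∈ klein x y (sq_of_order hP.1) (sq_of_order hP.2.1) hP.2.2.2 := Or.inr (Or.inl rfl)
  have hnt : Nontrivial (klein x y (sq_of_order hP.1) (sq_of_order hP.2.1) hP.2.2.2) :=
    nontrivial_of_ne ⟨x, hx1⟩ 1 (fun h => ne_one_of_order hP.1 (congrArg Subtype.val h))
  rw [Monoid.exponent_eq_prime_iff Nat.prime_two]
  rintro ⟨a, ha⟩ ha1
  apply order_of_sq
  · exact Subtype.ext (hsq a ha)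
  · exact ha1

/-- Elements of a Klein subgroup. -/
theorem klein_sq {V : Subgroup G} [hV : IsKleinFour V] {a : G} (ha : a ∈ V) : a * a = 1 := by
  have := Monoid.pow_exponent_eq_one (⟨a, ha⟩ : V)
  rw [IsKleinFour.exponent_two, sq] at this
  exact congrArg Subtype.val this

theorem klein_comm {V : Subgroup G} [hV : IsKleinFour V] {a b : G} (ha : a ∈ V) (hb : b ∈ V) : a * b = b * a := by
  have h1 := klein_sq (V := V) (mul_mem ha hb)
  have h2 := klein_sq (V := V) ha
  have h3 := klein_sq (V := V) hb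
  calc a * b = a * b * (b * a) * (b * a) := by
        have : b * a * (b * a) = 1 := klein_sq (V := V) (mul_mem hb ha)
        rw [mul_assoc, this, mul_one]
    _ = b * a := by
        have : a * b * (b * a) = 1 := by
          rw [mul_assoc, ← mul_assoc b b a, h3, one_mul, h2]
        rw [this, one_mul]

theorem eq_klein {V : Subgroup G} [Finite G] [hV : IsKleinFour V] {x y : G} (hP : IsPair x y) (hx : x ∈ V) (hy : y ∈ V) :
    V = klein x y (sq_of_order hP.1) (sq_of_order hP.2.1) hP.2.2.2 := by
  symm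
  apply Subgroup.eq_of_le_of_card_ge
  · rintro a (rfl | rfl | rfl | rfl)
    · exact one_mem V
    · exact hx
    · exact hy
    · exact mul_mem hx hy
  · rw [card_klein hP, IsKleinFour.card_four]

/-- `6` pairs in a Klein four-subgroup. -/
theorem card_pairs_in [Finite G] (V : Subgroup G) [hV : IsKleinFour V] :
    Nat.card {p : {p : G × G // IsPair p.1 p.2} // p.1.1 ∈ V ∧ p.1.2 ∈ V} = 6 := by
  classical
  have := Fintype.ofFinite G
  let s : Finset G := (Finset.univ.filter (fun a => a ∈ V)).erase 1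
  have hV4 : (Finset.univ.filter (fun a : G => a ∈ V)).card = 4 := by
    rw [← Nat.subtype_card (p := fun a => a ∈ V) _ (by simp)]
    exact IsKleinFour.card_four
  have hs : s.card = 3 := by
    rw [Finset.card_erase_of_mem (by simp [one_mem]), hV4]
  have h1 : Nat.card {p : {p : G × G // IsPair p.1 p.2} // p.1.1 ∈ V ∧ p.1.2 ∈ V} = s.offDiag.card := by
    have e : {p : {p : G × G // IsPair p.1 p.2} // p.1.1 ∈ V ∧ p.1.2 ∈ V} ≃ {p : G × G // p ∈ s.offDiag} :=
      { toFun := fun p => ⟨p.1.1, by
          have hP := p.1.2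
          simp only [Finset.mem_offDiag, s, Finset.mem_erase, Finset.mem_filter, Finset.mem_univ, true_and]
          exact ⟨⟨ne_one_of_order hP.1, p.2.1⟩, ⟨ne_one_of_order hP.2.1, p.2.2⟩, hP.2.2.1⟩⟩
        invFun := fun p => by
          have hp := p.2
          simp only [Finset.mem_offDiag, s, Finset.mem_erase, Finset.mem_filter, Finset.mem_univ, true_and] at hp
          exact ⟨⟨p.1, order_of_sq (klein_sq (V := V) hp.1.2) hp.1.1, order_of_sq (klein_sq (V := V) hp.2.1.2) hp.2.1.1, hp.2.2,
            klein_comm (V := V) hp.1.2 hp.2.1.2⟩, hp.1.2, hp.2.1.2⟩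
        left_inv := fun p => rfl
        right_inv := fun p => rfl }
    rw [Nat.card_congr e, Nat.subtype_card s.offDiag (by simp)]
  rw [h1, Finset.offDiag_card, hs]

/-- Ordered pairs of commuting involutions count six times the Klein four-subgroups. -/
theorem card_pairs [Finite G] :
    Nat.card {p : G × G // IsPair p.1 p.2} = Nat.card {V : Subgroup G // IsKleinFour V} * 6 := by
  have : Finite (Subgroup G) := Finite.of_injective (fun V => (V : Set G)) SetLike.coe_injective
  have hdc := double_count (α := {p : G × G // IsPair p.1 p.2}) (β := {V : Subgroup G // IsKleinFour V})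
    (fun p V => p.1.1 ∈ V.1 ∧ p.1.2 ∈ V.1) 1 6 ?_ ?_
  · rwa [mul_one] at hdc
  · rintro ⟨⟨x, y⟩, hP⟩
    rw [Nat.card_eq_one_iff_unique]
    refine ⟨⟨?_⟩, ⟨⟨⟨klein x y (sq_of_order hP.1) (sq_of_order hP.2.1) hP.2.2.2, isKlein_klein hP⟩, ?_, ?_⟩⟩⟩
    · rintro ⟨⟨V, hV⟩, hV1, hV2⟩ ⟨⟨W, hW⟩, hW1, hW2⟩
      apply Subtype.ext
      apply Subtype.ext
      show V = W
      rw [@eq_klein _ _ V _ hV x y hP hV1 hV2, @eq_klein _ _ W _ hW x y hP hW1 hW2]
    · exact Or.inr (Or.inl rfl)
    · exact Or.inr (Or.inr (Or.inl rfl))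
  · rintro ⟨V, hV⟩
    exact card_pairs_in V

end Cfsg.Agent.Lib.KleinGroup
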