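import Cfsg.Agent.Lib.InvolutionFusion2

/-!
# Finite groups with a Klein four Sylow 2-subgroup: classes of involutions
-/

set_option linter.style.haveILetI false
set_option linter.unusedSectionVars false

namespace Cfsg.Agent.Lib.KleinSylow

open Cfsg.Agent.Lib.InvolutionPairs Cfsg.Agent.Lib.InvolutionFusion
open Cfsg.Agent.Lib.InvolutionFusion2

variable {G : Type*} [Group G]

/-- The elements of a Klein four Sylow subgroup. -/
theorem exists_abc [Finite G] (P : Sylow 2 G) (hP : IsKleinFour (P : Subgroup G)) :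
    ∃ a b c : G, a ∈ P ∧ b ∈ P ∧ c ∈ P ∧ a ≠ 1 ∧ b ≠ 1 ∧ c ≠ 1 ∧ a ≠ b ∧ a ≠ c ∧ b ≠ c ∧
      c = a * b ∧ (∀ y ∈ P, y = 1 ∨ y = a ∨ y = b ∨ y = c) := by
  classical
  haveI := Fintype.ofFinite (P : Subgroup G)
  have hcard : Fintype.card (P : Subgroup G) = 4 := IsKleinFour.card_four'
  have h1 : ∃ a : (P : Subgroup G), a ≠ 1 := by
    by_contra h
    push Not at h
    have : Fintype.card (P : Subgroup G) ≤ 1 := Fintype.card_le_one_iff.2
      (fun x y => (h x).trans (h y).symm)
    omega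
  obtain ⟨a, ha⟩ := h1
  have h2 : ∃ b : (P : Subgroup G), b ∉ ({1, a} : Finset (P : Subgroup G)) := by
    by_contra h
    push Not at h
    have h3 : (Finset.univ : Finset (P : Subgroup G)) ⊆ {1, a} := fun x _ => h x
    have h4 := Finset.card_le_card h3
    have h5 : ({1, a} : Finset (P : Subgroup G)).card ≤ 2 := Finset.card_le_two
    rw [Finset.card_univ] at h4
    omega
  obtain ⟨b, hb⟩ := h2
  simp only [Finset.mem_insert, Finset.mem_singleton, not_or] at hb
  obtain ⟨hb1, hb2⟩ := hb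
  have hab : a ≠ b := fun h => hb2 h.symm
  have huniv := IsKleinFour.eq_finset_univ (G := (P : Subgroup G)) ha hb1 hab
  have hc1 : a * b ≠ 1 := by
    intro h
    apply hab
    have h2 := IsKleinFour.inv_eq_self (G := (P : Subgroup G)) a
    rw [← h2]
    exact inv_eq_of_mul_eq_one_right h
  have hca : a ≠ a * b := fun h => hb1 (by simpa using h.symm)
  have hcb : b ≠ a * b := fun h => ha (by simpa using h.symm)
  refine ⟨a, b, (a * b : (P : Subgroup G)), a.2, b.2, (a * b).2, ?_, ?_, ?_, ?_, ?_, ?_, rfl, ?_⟩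
  · exact fun h => ha (Subtype.ext h)
  · exact fun h => hb1 (Subtype.ext h)
  · exact fun h => hc1 (Subtype.ext h)
  · exact fun h => hab (Subtype.ext h)
  · exact fun h => hca (Subtype.ext h)
  · exact fun h => hcb (Subtype.ext h)
  · intro y hy
    have h3 : (⟨y, hy⟩ : (P : Subgroup G)) ∈ (Finset.univ : Finset (P : Subgroup G)) :=
      Finset.mem_univ _
    rw [← huniv] at h3
    simp only [Finset.mem_insert, Finset.mem_singleton] at h3
    rcases h3 with h | h | h | h
    · right; right; right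
      exact congrArg Subtype.val h
    · right; left
      exact congrArg Subtype.val h
    · right; right; left
      exact congrArg Subtype.val h
    · left
      exact congrArg Subtype.val h

/-- No element normalizing a Sylow subgroup with abelian ... swaps two of its elements. -/
theorem no_swap [Finite G] (P : Sylow 2 G) (hcomm : ∀ x ∈ P, ∀ y ∈ P, x * y = y * x) (g : G)
    (hg : g ∈ Subgroup.normalizer ((P : Subgroup G) : Set G)) (y y' : G) (hy : y ∈ P) (hy' : y' ∈ P)
    (hne : y ≠ y') (h1 : g * y * g⁻¹ = y') (h2 : g * y' * g⁻¹ = y) : False := by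
  haveI : Fact (Nat.Prime 2) := ⟨Nat.prime_two⟩
  obtain ⟨s, o, ho, hord⟩ := Nat.exists_eq_two_pow_mul_odd (orderOf_pos g).ne'
  -- `g ^ 2` centralizes `y`
  have hsq : (g ^ 2) * y * (g ^ 2)⁻¹ = y := by
    rw [pow_two]
    calc (g * g) * y * (g * g)⁻¹ = g * (g * y * g⁻¹) * g⁻¹ := by group
      _ = y := by rw [h1, h2]
  have hcomm' : Commute (g ^ 2) y := mul_inv_eq_iff_eq_mul.1 hsq
  have hodd : ∀ k : ℕ, g ^ (2 * k + 1) * y * (g ^ (2 * k + 1))⁻¹ = y' := by
    intro k
    have e : g ^ (2 * k + 1) = (g ^ 2) ^ k * g := by rw [pow_succ, pow_mul]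
    have hc2 : Commute ((g ^ 2) ^ k) y' := by
      have hc3 : Commute (g ^ 2) y' := by
        have hsq' : (g ^ 2) * y' * (g ^ 2)⁻¹ = y' := by
          rw [pow_two]
          calc (g * g) * y' * (g * g)⁻¹ = g * (g * y' * g⁻¹) * g⁻¹ := by group
            _ = y' := by rw [h2, h1]
        exact mul_inv_eq_iff_eq_mul.1 hsq'
      exact hc3.pow_left k
    rw [e]
    calc (g ^ 2) ^ k * g * y * ((g ^ 2) ^ k * g)⁻¹
        = (g ^ 2) ^ k * (g * y * g⁻¹) * ((g ^ 2) ^ k)⁻¹ := by group
      _ = (g ^ 2) ^ k * y' * ((g ^ 2) ^ k)⁻¹ := by rw [h1]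
      _ = y' := by rw [hc2.eq, mul_inv_cancel_right]
  obtain ⟨k, hk⟩ := ho
  subst hk
  set g' := g ^ (2 * k + 1) with hg'
  have hg'2 : g' ^ (2 ^ s) = 1 := by
    rw [hg', ← pow_mul, mul_comm, ← hord, pow_orderOf_eq_one]
  have hZ : IsPGroup 2 (Subgroup.zpowers g') := by
    rw [IsPGroup.iff_card]
    have h3 : orderOf g' ∣ 2 ^ s := orderOf_dvd_of_pow_eq_one hg'2
    obtain ⟨j, _, hj⟩ := (Nat.dvd_prime_pow Nat.prime_two).1 h3
    exact ⟨j, by rw [Nat.card_zpowers, hj]⟩
  have hg'N : g' ∈ Subgroup.normalizer ((P : Subgroup G) : Set G) :=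
    Subgroup.pow_mem _ hg _
  have hle : Subgroup.zpowers g' ≤ Subgroup.normalizer ((P : Subgroup G) : Set G) := by
    rw [Subgroup.zpowers_le]
    exact hg'N
  have hsup := P.isPGroup'.to_sup_of_normal_left' hZ hle
  have hmax := P.is_maximal' hsup le_sup_left
  have hg'P : g' ∈ P := by
    have h3 : g' ∈ (P : Subgroup G) ⊔ Subgroup.zpowers g' :=
      (le_sup_right : Subgroup.zpowers g' ≤ _) (Subgroup.mem_zpowers g')
    rw [hmax] at h3
    exact h3
  have h4 := hodd k
  rw [← hg', hcomm g' hg'P y hy, mul_inv_cancel_right] at h4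
  exact hne h4

/-- The fusion step: two conjugate involutions of the Klein four Sylow subgroup force all three to be
conjugate. -/
theorem isConj_third [Finite G] (P : Sylow 2 G) (hP : IsKleinFour (P : Subgroup G)) (u v w : G)
    (hu : u ∈ P) (hv : v ∈ P) (hv1 : v ≠ 1) (huv : u ≠ v)
    (hall : ∀ y ∈ P, y = 1 ∨ y = u ∨ y = v ∨ y = w) (hc : IsConj u v) : IsConj v w := by
  classical
  haveI : Fact (Nat.Prime 2) := ⟨Nat.prime_two⟩
  haveI : IsMulCommutative (P : Subgroup G) := IsKleinFour.isMulCommutative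
  have hcomm : ∀ x ∈ P, ∀ y ∈ P, x * y = y * x := by
    intro x hx y hy
    have : (⟨x, hx⟩ : (P : Subgroup G)) * ⟨y, hy⟩ = ⟨y, hy⟩ * ⟨x, hx⟩ :=
      (IsMulCommutative.is_comm (M := (P : Subgroup G))).comm _ _
    exact congrArg Subtype.val this
  obtain ⟨g, hg⟩ := isConj_iff.1 hc
  have hv' : g * u * g⁻¹ ∈ P := by rw [hg]; exact hv
  have hy : g⁻¹⁻¹ * u * g⁻¹ ∈ P := by rwa [inv_inv]
  obtain ⟨n, hn, hne⟩ := P.conj_eq_normalizer_conj_of_mem u g⁻¹ hu hy
  rw [inv_inv, hg] at hne
  -- `m = n⁻¹`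
  have hm : n⁻¹ ∈ Subgroup.normalizer ((P : Subgroup G) : Set G) := Subgroup.inv_mem _ hn
  have hmu : n⁻¹ * u * (n⁻¹)⁻¹ = v := by
    rw [inv_inv]; exact hne.symm
  have hmv : n⁻¹ * v * (n⁻¹)⁻¹ ∈ P := (Subgroup.mem_normalizer_iff.1 hm v).1 hv
  have hconj : IsConj v (n⁻¹ * v * (n⁻¹)⁻¹) := isConj_iff.2 ⟨_, rfl⟩
  rcases hall _ hmv with h | h | h | h
  · exfalso
    apply hv1
    have := mul_inv_eq_iff_eq_mul.1 h
    rw [one_mul] at this
    exact mul_left_cancel (this.trans (mul_one _).symm)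
  · exfalso
    exact no_swap P hcomm n⁻¹ hm u v hu hv huv hmu h
  · exfalso
    apply huv
    rw [← h] at hmu
    have := mul_right_cancel hmu
    exact mul_left_cancel this
  · rwa [h] at hconj

/-- Every involution of `G` is conjugate into the Sylow subgroup. -/
theorem exists_conj_mem [Finite G] (P : Sylow 2 G) (t : G) (ht : orderOf t = 2) :
    ∃ y ∈ P, IsConj y t := by
  have hZ : IsPGroup 2 (Subgroup.zpowers t) := by
    rw [IsPGroup.iff_card]
    exact ⟨1, by rw [Nat.card_zpowers, ht, pow_one]⟩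
  obtain ⟨Q, hQ⟩ := hZ.exists_le_sylow
  obtain ⟨a, rfl⟩ := MulAction.exists_smul_eq G P Q
  have h1 : t ∈ a • P := hQ (Subgroup.mem_zpowers t)
  rw [mem_smul_sylow_iff] at h1
  exact ⟨_, h1, isConj_iff.2 ⟨a, by group⟩⟩

/-- The set of classes of involutions. -/
theorem card_classes [Finite G] (P : Sylow 2 G) (hP : IsKleinFour (P : Subgroup G)) :
    ∃ a b c : G, a ∈ P ∧ b ∈ P ∧ c ∈ P ∧ a ≠ 1 ∧ b ≠ 1 ∧ c ≠ 1 ∧ a ≠ b ∧ a ≠ c ∧ b ≠ c ∧
      (∀ y ∈ P, y = 1 ∨ y = a ∨ y = b ∨ y = c) ∧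
      ((IsConj a b ∧ IsConj b c ∧
          Nat.card {C : ConjClasses G // ∃ t : G, orderOf t = 2 ∧ ConjClasses.mk t = C} = 1) ∨
        (¬ IsConj a b ∧ ¬ IsConj a c ∧ ¬ IsConj b c ∧
          Nat.card {C : ConjClasses G // ∃ t : G, orderOf t = 2 ∧ ConjClasses.mk t = C} = 3)) := by
  classical
  obtain ⟨a, b, c, haP, hbP, hcP, ha1, hb1, hc1, hab, hac, hbc, hcab, hall⟩ := exists_abc P hP
  refine ⟨a, b, c, haP, hbP, hcP, ha1, hb1, hc1, hab, hac, hbc, hall, ?_⟩
  have hsq : ∀ y ∈ P, y * y = 1 := by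
    intro y hy
    have := IsKleinFour.mul_self (G := (P : Subgroup G)) ⟨y, hy⟩
    exact congrArg Subtype.val this
  have hord : ∀ y ∈ P, y ≠ 1 → orderOf y = 2 := fun y hy h1 =>
    orderOf_eq_two_iff'.2 ⟨hsq y hy, h1⟩
  have hS : {C : ConjClasses G | ∃ t : G, orderOf t = 2 ∧ ConjClasses.mk t = C} =
      {ConjClasses.mk a, ConjClasses.mk b, ConjClasses.mk c} := by
    ext C
    simp only [Set.mem_ofPred_eq, Set.mem_insert_iff, Set.mem_singleton_iff]
    constructor
    · rintro ⟨t, ht, rfl⟩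
      obtain ⟨y, hy, hyt⟩ := exists_conj_mem P t ht
      have he : ConjClasses.mk y = ConjClasses.mk t := ConjClasses.mk_eq_mk_iff_isConj.2 hyt
      rcases hall y hy with h | h | h | h
      · exfalso
        rw [h] at hyt
        rw [isConj_one_right] at hyt
        exact ne_one_of_orderOf ht hyt
      · left; rw [← he, h]
      · right; left; rw [← he, h]
      · right; right; rw [← he, h]
    · rintro (rfl | rfl | rfl)
      · exact ⟨a, hord a haP ha1, rfl⟩
      · exact ⟨b, hord b hbP hb1, rfl⟩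
      · exact ⟨c, hord c hcP hc1, rfl⟩
  have hcardS : Nat.card {C : ConjClasses G // ∃ t : G, orderOf t = 2 ∧ ConjClasses.mk t = C} =
      ({ConjClasses.mk a, ConjClasses.mk b, ConjClasses.mk c} : Set (ConjClasses G)).ncard := by
    rw [← hS, ← Nat.card_coe_set_eq]
    rfl
  by_cases hcase : IsConj a b ∨ IsConj a c ∨ IsConj b c
  · left
    -- all three conjugate
    have hall1 : ∀ y ∈ P, y = 1 ∨ y = b ∨ y = a ∨ y = c := by
      intro y hy
      rcases hall y hy with h | h | h | h <;> simp [h]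
    have hall2 : ∀ y ∈ P, y = 1 ∨ y = a ∨ y = c ∨ y = b := by
      intro y hy
      rcases hall y hy with h | h | h | h <;> simp [h]
    have hall3 : ∀ y ∈ P, y = 1 ∨ y = c ∨ y = a ∨ y = b := by
      intro y hy
      rcases hall y hy with h | h | h | h <;> simp [h]
    have hall4 : ∀ y ∈ P, y = 1 ∨ y = b ∨ y = c ∨ y = a := by
      intro y hy
      rcases hall y hy with h | h | h | h <;> simp [h]
    have hall5 : ∀ y ∈ P, y = 1 ∨ y = c ∨ y = b ∨ y = a := by
      intro y hy
      rcases hall y hy with h | h | h | h <;> simp [h]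
    have hboth : IsConj a b ∧ IsConj b c := by
      rcases hcase with h | h | h
      · exact ⟨h, isConj_third P hP a b c haP hbP hb1 hab hall h⟩
      · have h2 := isConj_third P hP a c b haP hcP hc1 hac hall2 h
        exact ⟨h.trans h2.symm.symm, h2.symm⟩
      · have h2 := isConj_third P hP b c a hbP hcP hc1 hbc hall4 h
        exact ⟨(h.trans h2).symm, h⟩
    refine ⟨hboth.1, hboth.2, ?_⟩
    rw [hcardS]
    have e1 : ConjClasses.mk a = ConjClasses.mk b := ConjClasses.mk_eq_mk_iff_isConj.2 hboth.1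
    have e2 : ConjClasses.mk b = ConjClasses.mk c := ConjClasses.mk_eq_mk_iff_isConj.2 hboth.2
    rw [← e2, ← e1]
    simp
  · right
    push Not at hcase
    obtain ⟨h1, h2, h3⟩ := hcase
    refine ⟨h1, h2, h3, ?_⟩
    rw [hcardS, Set.ncard_eq_three]
    refine ⟨_, _, _, ?_, ?_, ?_, rfl⟩
    · exact fun h => h1 (ConjClasses.mk_eq_mk_iff_isConj.1 h)
    · exact fun h => h2 (ConjClasses.mk_eq_mk_iff_isConj.1 h)
    · exact fun h => h3 (ConjClasses.mk_eq_mk_iff_isConj.1 h)

/-- S0202. -/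
theorem card_classes_eq [Finite G] (P : Sylow 2 G) (hP : IsKleinFour (P : Subgroup G)) :
    Nat.card {C : ConjClasses G // ∃ t : G, orderOf t = 2 ∧ ConjClasses.mk t = C} = 1 ∨
      Nat.card {C : ConjClasses G // ∃ t : G, orderOf t = 2 ∧ ConjClasses.mk t = C} = 3 := by
  obtain ⟨a, b, c, _, _, _, _, _, _, _, _, _, _, h⟩ := card_classes P hP
  rcases h with h | h
  · exact Or.inl h.2.2
  · exact Or.inr h.2.2.2

/-- S0203. -/
theorem card_classes_eq_three_iff [Finite G] (P : Sylow 2 G) (hP : IsKleinFour (P : Subgroup G)) :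
    Nat.card {C : ConjClasses G // ∃ t : G, orderOf t = 2 ∧ ConjClasses.mk t = C} = 3 ↔
      ∃ N : Subgroup G, N.Normal ∧ Subgroup.IsComplement' N (P : Subgroup G) := by
  classical
  haveI : Fact (Nat.Prime 2) := ⟨Nat.prime_two⟩
  haveI : IsMulCommutative (P : Subgroup G) := IsKleinFour.isMulCommutative
  have hcomm : ∀ x ∈ P, ∀ y ∈ P, x * y = y * x := by
    intro x hx y hy
    have : (⟨x, hx⟩ : (P : Subgroup G)) * ⟨y, hy⟩ = ⟨y, hy⟩ * ⟨x, hx⟩ :=
      (IsMulCommutative.is_comm (M := (P : Subgroup G))).comm _ _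
    exact congrArg Subtype.val this
  obtain ⟨a, b, c, haP, hbP, hcP, ha1, hb1, hc1, hab, hac, hbc, hall, hcase⟩ := card_classes P hP
  constructor
  · intro h3
    rcases hcase with ⟨_, _, h⟩ | ⟨h1, h2, h4, _⟩
    · omega
    have hN : Subgroup.normalizer ((P : Subgroup G) : Set G) ≤
        Subgroup.centralizer ((P : Subgroup G) : Set G) := by
      intro g hg
      rw [Subgroup.mem_centralizer_iff]
      intro y hy
      -- `g y g⁻¹ = y`
      have hmem : g * y * g⁻¹ ∈ P := (Subgroup.mem_normalizer_iff.1 hg y).1 hy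
      have hconj : IsConj y (g * y * g⁻¹) := isConj_iff.2 ⟨g, rfl⟩
      have hclass : ∀ u v, (u = a ∨ u = b ∨ u = c) → (v = a ∨ v = b ∨ v = c) → IsConj u v → u = v := by
        rintro u v (rfl | rfl | rfl) (rfl | rfl | rfl) huv
        · rfl
        · exact absurd huv h1
        · exact absurd huv h2
        · exact absurd huv.symm h1
        · rfl
        · exact absurd huv h4
        · exact absurd huv.symm h2
        · exact absurd huv.symm h4
        · rfl
      have key : g * y * g⁻¹ = y := by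
        rcases hall y hy with hy1 | hy1 | hy1 | hy1
        · rw [hy1]; group
        · rcases hall _ hmem with hy2 | hy2 | hy2 | hy2
          · exfalso
            rw [hy2, isConj_one_left] at hconj
            exact ha1 (hy1 ▸ hconj)
          · exact (hclass _ _ (Or.inl hy1) (Or.inl hy2) hconj).symm
          · exact (hclass _ _ (Or.inl hy1) (Or.inr (Or.inl hy2)) hconj).symm
          · exact (hclass _ _ (Or.inl hy1) (Or.inr (Or.inr hy2)) hconj).symm
        · rcases hall _ hmem with hy2 | hy2 | hy2 | hy2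
          · exfalso
            rw [hy2, isConj_one_left] at hconj
            exact hb1 (hy1 ▸ hconj)
          · exact (hclass _ _ (Or.inr (Or.inl hy1)) (Or.inl hy2) hconj).symm
          · exact (hclass _ _ (Or.inr (Or.inl hy1)) (Or.inr (Or.inl hy2)) hconj).symm
          · exact (hclass _ _ (Or.inr (Or.inl hy1)) (Or.inr (Or.inr hy2)) hconj).symm
        · rcases hall _ hmem with hy2 | hy2 | hy2 | hy2
          · exfalso
            rw [hy2, isConj_one_left] at hconj
            exact hc1 (hy1 ▸ hconj)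
          · exact (hclass _ _ (Or.inr (Or.inr hy1)) (Or.inl hy2) hconj).symm
          · exact (hclass _ _ (Or.inr (Or.inr hy1)) (Or.inr (Or.inl hy2)) hconj).symm
          · exact (hclass _ _ (Or.inr (Or.inr hy1)) (Or.inr (Or.inr hy2)) hconj).symm
      have e : y * g = g * y := by
        have := (mul_inv_eq_iff_eq_mul.1 key)
        exact this.symm
      exact e
    exact ⟨_, MonoidHom.normal_ker _, MonoidHom.ker_transferSylow_isComplement' P hN⟩
  · rintro ⟨N, hNn, hNc⟩
    rcases hcase with ⟨hconj, _, _⟩ | ⟨_, _, _, h⟩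
    · exfalso
      -- conjugate elements of `P` are equal modulo `N`
      obtain ⟨g, hg⟩ := isConj_iff.1 hconj
      obtain ⟨⟨⟨n, hn⟩, ⟨p, hp⟩⟩, hnp⟩ := hNc.2 g
      have hnp' : n * p = g := hnp
      have h1 : g * a * g⁻¹ = n * a * n⁻¹ := by
        rw [← hnp']
        calc n * p * a * (n * p)⁻¹ = n * (p * a) * p⁻¹ * n⁻¹ := by group
          _ = n * (a * p) * p⁻¹ * n⁻¹ := by rw [hcomm p hp a haP]
          _ = n * a * n⁻¹ := by group
      have h2 : b * a⁻¹ ∈ N := by
        rw [← hg, h1]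
        have e : n * a * n⁻¹ * a⁻¹ = n * (a * n⁻¹ * a⁻¹) := by group
        rw [e]
        exact N.mul_mem hn (hNn.conj_mem _ (N.inv_mem hn) a)
      have h3 : b * a⁻¹ ∈ P := P.1.mul_mem hbP (P.1.inv_mem haP)
      have h4 : b * a⁻¹ ∈ N ⊓ (P : Subgroup G) := Subgroup.mem_inf.2 ⟨h2, h3⟩
      rw [hNc.disjoint.eq_bot, Subgroup.mem_bot] at h4
      exact hab (mul_inv_eq_one.1 h4).symm
    · exact h

end Cfsg.Agent.Lib.KleinSylow
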