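import Mathlib
import Cfsg.Agent.S0948
import Cfsg.Agent.Lib.IsolatedInvol
import Cfsg.Agent.Lib.KleinSylow
import Cfsg.Agent.Lib.KleinTools
import Cfsg.Agent.Lib.RealChars
import Cfsg.Agent.Lib.BlockExt
import Cfsg.Agent.Lib.FSForm

/-!
# The principal `2`-block of a group with a Klein four Sylow `2`-subgroup and one class of involutions

Group theory: the subgroups `Ko t = O(C(t))`, the count of involutions commuting with `J`, the count of
involutions `j` with `j J` of even order.  Characters: the function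
`F = ∑_{χ ∈ B₀} conj (χ J) χ` equals `4` on `2`-singular elements and `0` on `2`-regular elements.
-/

set_option autoImplicit false
set_option linter.unusedSectionVars false
set_option linter.unusedVariables false
set_option linter.style.haveILetI false

namespace Cfsg.Agent.Lib.KleinPrincipal

open Cfsg Cfsg.Agent.Lib.CharBasic Cfsg.Agent.Lib.BlockLocal Cfsg.Agent.Lib.BlockIdem
open Cfsg.Agent.Lib.BlockNormal Cfsg.Agent.Lib.BlockQ
open scoped ComplexConjugate

universe u

section Groups

variable {G : Type u} [Group G] [Fintype G] {P : Sylow 2 G}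

/-- The standing hypotheses. -/
structure KSet (P : Sylow 2 G) : Prop where
  klein : IsKleinFour (P : Subgroup G)
  one : ∀ s t : G, orderOf s = 2 → orderOf t = 2 → IsConj s t

theorem KSet.card_four (h : KSet P) : Nat.card (P : Subgroup G) = 4 := by
  haveI := h.klein
  exact IsKleinFour.card_four

theorem KSet.mul_self_of_mem (h : KSet P) {x : G} (hx : x ∈ (P : Subgroup G)) : x * x = 1 := by
  haveI := h.klein
  exact congrArg Subtype.val (IsKleinFour.mul_self (⟨x, hx⟩ : (P : Subgroup G)))

theorem KSet.mul_self_of_two_element (h : KSet P) {x : G} (hx : ∃ k : ℕ, orderOf x = 2 ^ k) :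
    x * x = 1 := by
  obtain ⟨k, hk⟩ := hx
  have hZ : IsPGroup 2 (Subgroup.zpowers x) := by
    apply IsPGroup.of_card (n := k)
    rw [Nat.card_zpowers, hk]
  obtain ⟨Q, hQ⟩ := hZ.exists_le_sylow
  obtain ⟨a, rfl⟩ := MulAction.exists_smul_eq G P Q
  have h1 : x ∈ a • P := hQ (Subgroup.mem_zpowers x)
  rw [Cfsg.Agent.Lib.InvolutionFusion2.mem_smul_sylow_iff] at h1
  have h2 := h.mul_self_of_mem h1
  have h3 : a⁻¹ * (x * x) * a = 1 := by
    calc a⁻¹ * (x * x) * a = (a⁻¹ * x * a) * (a⁻¹ * x * a) := by group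
      _ = 1 := h2
  have h4 : x * x = a * (a⁻¹ * (x * x) * a) * a⁻¹ := by group
  rw [h4, h3]
  group

theorem KSet.isKlein (h : KSet P) (Q : Sylow 2 G) : IsKleinFour (Q : Subgroup G) := by
  have hc : Nat.card (Q : Subgroup G) = 4 := by
    rw [Sylow.card_eq_multiplicity, ← Sylow.card_eq_multiplicity P]
    exact h.card_four
  have hmul : ∀ x ∈ (Q : Subgroup G), x * x = 1 := by
    intro x hx
    apply h.mul_self_of_two_element
    have h1 : orderOf x ∣ 2 ^ 2 := by
      have h2 : orderOf (⟨x, hx⟩ : (Q : Subgroup G)) ∣ Nat.card (Q : Subgroup G) :=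
        orderOf_dvd_natCard _
      rw [hc] at h2
      have h3 : orderOf (⟨x, hx⟩ : (Q : Subgroup G)) = orderOf x := Subgroup.orderOf_mk x hx
      rwa [h3] at h2
    obtain ⟨k, -, hk⟩ := (Nat.dvd_prime_pow Nat.prime_two).1 h1
    exact ⟨k, hk⟩
  haveI : Nontrivial (Q : Subgroup G) := Finite.one_lt_card_iff_nontrivial.mp (by rw [hc]; norm_num)
  refine ⟨hc, ?_⟩
  rw [Monoid.exponent_eq_prime_iff Nat.prime_two]
  intro g hg
  exact orderOf_eq_prime (by rw [sq]; exact Subtype.ext (hmul g g.2)) hg

theorem exists_sylow_mem {t : G} (ht : orderOf t = 2) : ∃ Q : Sylow 2 G, t ∈ (Q : Subgroup G) := by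
  have hZ : IsPGroup 2 (Subgroup.zpowers t) := by
    apply IsPGroup.of_card (n := 1)
    rw [Nat.card_zpowers, ht, pow_one]
  obtain ⟨Q, hQ⟩ := hZ.exists_le_sylow
  exact ⟨Q, hQ (Subgroup.mem_zpowers t)⟩

theorem ne_one_of_order {t : G} (ht : orderOf t = 2) : t ≠ 1 := by
  rintro rfl
  simp at ht

theorem mul_self_of_order {t : G} (ht : orderOf t = 2) : t * t = 1 := by
  rw [← sq, ← ht]
  exact pow_orderOf_eq_one t

theorem order_of_mul_self {t : G} (h : t * t = 1) (h1 : t ≠ 1) : orderOf t = 2 :=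
  orderOf_eq_prime (by rw [sq]; exact h) h1

/-- Facts about the centralizer of an involution. -/
theorem KSet.core_facts (h : KSet P) {t : G} (ht : orderOf t = 2) :
    (∃ k : ℕ, (pPrimeCore 2 (Subgroup.centralizer ({t} : Set G))).index = 2 ^ k) ∧
      (Nat.card (Subgroup.centralizer ({t} : Set G))).factorization 2 = 2 := by
  obtain ⟨Q, hQ⟩ := exists_sylow_mem ht
  exact Cfsg.Agent.S0948.exists_index_pPrimeCore Q (h.isKlein Q) hQ (ne_one_of_order ht)

/-- `O(C(t))`, as a subgroup of `G`. -/
noncomputable def Ko (t : G) : Subgroup G :=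
  (pPrimeCore 2 (Subgroup.centralizer ({t} : Set G))).map (Subgroup.centralizer ({t} : Set G)).subtype

theorem KSet.mem_Ko (h : KSet P) {t : G} (ht : orderOf t = 2) {y : G} :
    y ∈ Ko t ↔ y * t = t * y ∧ ¬ 2 ∣ orderOf y := by
  classical
  obtain ⟨⟨k, hk⟩, -⟩ := h.core_facts ht
  set C := Subgroup.centralizer ({t} : Set G) with hC
  set K := pPrimeCore 2 C with hK
  haveI hKn : K.Normal := inferInstance
  have hKp : ¬ 2 ∣ Nat.card K := Cfsg.Agent.Lib.PCore.not_dvd_card_pPrimeCore 2
  constructor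
  · rintro ⟨y', hy', rfl⟩
    refine ⟨Subgroup.mem_centralizer_singleton_iff.1 y'.2, ?_⟩
    intro h2
    apply hKp
    have h3 : orderOf (⟨y', hy'⟩ : K) ∣ Nat.card K := orderOf_dvd_natCard _
    have h4 : orderOf (⟨y', hy'⟩ : K) = orderOf (y' : G) := by
      rw [Subgroup.orderOf_mk, Subgroup.orderOf_coe]
    rw [h4] at h3
    exact dvd_trans h2 h3
  · rintro ⟨h1, h2⟩
    have hyC : y ∈ C := Subgroup.mem_centralizer_singleton_iff.2 h1
    refine ⟨⟨y, hyC⟩, ?_, rfl⟩
    have h3 : orderOf ((⟨y, hyC⟩ : C) : C ⧸ K) ∣ 2 ^ k := by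
      rw [← hk, Subgroup.index_eq_card]
      exact orderOf_dvd_natCard _
    have h4 : orderOf ((⟨y, hyC⟩ : C) : C ⧸ K) ∣ orderOf (⟨y, hyC⟩ : C) :=
      orderOf_map_dvd (QuotientGroup.mk' K) _
    have h5 : orderOf (⟨y, hyC⟩ : C) = orderOf y := Subgroup.orderOf_mk y hyC
    rw [h5] at h4
    have h6 : Nat.Coprime (2 ^ k) (orderOf y) :=
      ((Nat.Prime.coprime_iff_not_dvd Nat.prime_two).2 h2).pow_left k
    have h7 := Nat.eq_one_of_dvd_coprimes h6 h3 h4
    exact (QuotientGroup.eq_one_iff _).1 (orderOf_eq_one_iff.1 h7)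

theorem KSet.odd_of_mem_Ko (h : KSet P) {t : G} (ht : orderOf t = 2) {y : G} (hy : y ∈ Ko t) :
    Odd (orderOf y) := by
  have := ((h.mem_Ko ht).1 hy).2
  exact Nat.odd_iff.mpr (by omega)

theorem KSet.four_mul_card_Ko (h : KSet P) {t : G} (ht : orderOf t = 2) :
    Nat.card (Ko t) * 4 = Nat.card (Subgroup.centralizer ({t} : Set G)) := by
  classical
  obtain ⟨⟨k, hk⟩, hf⟩ := h.core_facts ht
  set C := Subgroup.centralizer ({t} : Set G) with hC
  set K := pPrimeCore 2 C with hK
  have hKp : ¬ 2 ∣ Nat.card K := Cfsg.Agent.Lib.PCore.not_dvd_card_pPrimeCore 2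
  have hcard : Nat.card K * 2 ^ k = Nat.card C := by
    rw [← hk]
    exact Subgroup.card_mul_index K
  have hk2 : k = 2 := by
    rw [← hcard, Nat.factorization_mul (Nat.card_pos (α := K)).ne' (pow_pos Nat.prime_two.pos k).ne',
      Finsupp.add_apply, Nat.factorization_eq_zero_of_not_dvd hKp, Nat.factorization_pow] at hf
    simpa [Nat.prime_two.factorization_self] using hf
  subst hk2
  have h1 : Nat.card (Ko t) = Nat.card K :=
    Subgroup.card_map_of_injective (Subgroup.subtype_injective _)
  rw [h1, ← hcard]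
  norm_num

theorem KSet.mul_self_of_sylow (h : KSet P) (Q : Sylow 2 G) {x : G} (hx : x ∈ (Q : Subgroup G)) :
    x * x = 1 := by
  haveI := h.isKlein Q
  exact congrArg Subtype.val (IsKleinFour.mul_self (⟨x, hx⟩ : (Q : Subgroup G)))

theorem KSet.comm_of_sylow (h : KSet P) (Q : Sylow 2 G) {a b : G} (ha : a ∈ (Q : Subgroup G))
    (hb : b ∈ (Q : Subgroup G)) : a * b = b * a :=
  Cfsg.Agent.S0948.comm_of_exp_two (fun _ hx => h.mul_self_of_sylow Q hx) ha hb

/-- A Sylow subgroup with prescribed elements. -/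
theorem KSet.exists_sylow_pair (h : KSet P) {w J : G} (hw : orderOf w = 2) (hJ : orderOf J = 2)
    (hne : w ≠ J) (hc : w * J = J * w) :
    ∃ Q : Sylow 2 G, ∀ x, x ∈ (Q : Subgroup G) ↔ x = 1 ∨ x = w ∨ x = J ∨ x = w * J := by
  classical
  have hww := mul_self_of_order hw
  have hJJ := mul_self_of_order hJ
  have hw2 : w ^ 2 = 1 := by rw [sq]; exact hww
  have hJ2 : J ^ 2 = 1 := by rw [sq]; exact hJJ
  set L := Cfsg.Agent.Lib.KleinTools.kleinOf w J hw2 hJ2 hc with hL
  have hLk := Cfsg.Agent.Lib.KleinTools.isKleinFour_kleinOf hw2 hJ2 hc (ne_one_of_order hw)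
    (ne_one_of_order hJ) hne
  have hLc : Nat.card L = 4 := hLk.card_four
  have hLp : IsPGroup 2 L := by
    apply IsPGroup.of_card (n := 2)
    rw [hLc]
    norm_num
  obtain ⟨Q, hQ⟩ := hLp.exists_le_sylow
  have hQc : Nat.card (Q : Subgroup G) = 4 := (h.isKlein Q).card_four
  have hLQ : (L : Set G) = (Q : Subgroup G) := by
    apply Set.eq_of_subset_of_ncard_le hQ
    · rw [← Nat.card_coe_set_eq, ← Nat.card_coe_set_eq]
      show Nat.card (Q : Subgroup G) ≤ Nat.card L
      rw [hQc, hLc]
  refine ⟨Q, fun x => ?_⟩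
  rw [← SetLike.mem_coe, ← hLQ]
  exact Iff.rfl

/-- All Sylow subgroups have centralizers of the same order. -/
theorem card_centralizer_sylow (P Q : Sylow 2 G) :
    Nat.card (Subgroup.centralizer ((P : Subgroup G) : Set G)) =
      Nat.card (Subgroup.centralizer ((Q : Subgroup G) : Set G)) := by
  obtain ⟨a, rfl⟩ := MulAction.exists_smul_eq G P Q
  refine Nat.card_congr ⟨fun x => ⟨a * x * a⁻¹, ?_⟩, fun x => ⟨a⁻¹ * x * a, ?_⟩, ?_, ?_⟩
  · rw [Subgroup.mem_centralizer_iff]
    intro y hy
    have hy' : a⁻¹ * y * a ∈ (P : Subgroup G) :=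
      (Cfsg.Agent.Lib.InvolutionFusion2.mem_smul_sylow_iff P a y).1 hy
    have hx := (Subgroup.mem_centralizer_iff.1 x.2) _ hy'
    calc y * (a * x * a⁻¹) = a * ((a⁻¹ * y * a) * x) * a⁻¹ := by group
      _ = a * (x * (a⁻¹ * y * a)) * a⁻¹ := by rw [hx]
      _ = a * x * a⁻¹ * y := by group
  · rw [Subgroup.mem_centralizer_iff]
    intro y hy
    have hy' : a * y * a⁻¹ ∈ (a • P : Sylow 2 G) := by
      rw [Cfsg.Agent.Lib.InvolutionFusion2.mem_smul_sylow_iff]
      have : a⁻¹ * (a * y * a⁻¹) * a = y := by group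
      rw [this]
      exact hy
    have hx := (Subgroup.mem_centralizer_iff.1 x.2) _ hy'
    calc y * (a⁻¹ * x * a) = a⁻¹ * ((a * y * a⁻¹) * x) * a := by group
      _ = a⁻¹ * (x * (a * y * a⁻¹)) * a := by rw [hx]
      _ = a⁻¹ * x * a * y := by group
  · intro x
    apply Subtype.ext
    show a⁻¹ * (a * x * a⁻¹) * a = x
    group
  · intro x
    apply Subtype.ext
    show a * (a⁻¹ * x * a) * a⁻¹ = x
    group

/-- An element of odd order with square one is trivial. -/
theorem eq_one_of_odd_of_mul_self {d : G} (h1 : ¬ 2 ∣ orderOf d) (h2 : d * d = 1) : d = 1 := by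
  by_contra hne
  exact h1 (by rw [order_of_mul_self h2 hne])

/-- The centralizer of two commuting involutions. -/
theorem KSet.card_Ko_inf (h : KSet P) {w J : G} (hw : orderOf w = 2) (hJ : orderOf J = 2)
    (hne : w ≠ J) (hc : w * J = J * w) :
    Nat.card (Ko w ⊓ Subgroup.centralizer ({J} : Set G) : Subgroup G) * 4 =
      Nat.card (Subgroup.centralizer ((P : Subgroup G) : Set G)) := by
  classical
  haveI := Fact.mk Nat.prime_two
  obtain ⟨Q, hmemQ⟩ := h.exists_sylow_pair hw hJ hne hc
  have hQc : Nat.card (Q : Subgroup G) = 4 := (h.isKlein Q).card_four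
  have hwQ : w ∈ (Q : Subgroup G) := (hmemQ w).2 (Or.inr (Or.inl rfl))
  have hJQ : J ∈ (Q : Subgroup G) := (hmemQ J).2 (Or.inr (Or.inr (Or.inl rfl)))
  -- the centralizer of `Q`
  have hcen : ∀ x, x ∈ Subgroup.centralizer ((Q : Subgroup G) : Set G) ↔ x * w = w * x ∧ x * J = J * x := by
    intro x
    rw [Subgroup.mem_centralizer_iff]
    constructor
    · intro hx
      exact ⟨(hx w hwQ).symm, (hx J hJQ).symm⟩
    · rintro ⟨h1, h2⟩ y hy
      rcases (hmemQ y).1 hy with rfl | rfl | rfl | rfl
      · simp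
      · exact h1.symm
      · exact h2.symm
      · calc w * J * x = w * (J * x) := by group
          _ = w * (x * J) := by rw [h2]
          _ = (w * x) * J := by group
          _ = (x * w) * J := by rw [h1]
          _ = x * (w * J) := by group
  rw [card_centralizer_sylow P Q, ← hQc, ← Nat.card_prod]
  -- the bijection
  set W := (Ko w ⊓ Subgroup.centralizer ({J} : Set G) : Subgroup G) with hW
  have hWmem : ∀ y, y ∈ W ↔ (y * w = w * y ∧ ¬ 2 ∣ orderOf y) ∧ y * J = J * y := by
    intro y
    rw [hW, Subgroup.mem_inf, h.mem_Ko hw, Subgroup.mem_centralizer_singleton_iff]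
  have hmap : ∀ p : W × (Q : Subgroup G), (p.1 : G) * (p.2 : G) ∈
      Subgroup.centralizer ((Q : Subgroup G) : Set G) := by
    rintro ⟨y, s⟩
    have hy := (hWmem y).1 y.2
    have h1 : (s : G) * w = w * s := h.comm_of_sylow Q s.2 hwQ
    have h2 : (s : G) * J = J * s := h.comm_of_sylow Q s.2 hJQ
    rw [hcen]
    constructor
    · show (y : G) * s * w = w * (y * s)
      calc (y : G) * s * w = y * (s * w) := by group
        _ = y * (w * s) := by rw [h1]
        _ = (y * w) * s := by group
        _ = (w * y) * s := by rw [hy.1.1]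
        _ = _ := by group
    · show (y : G) * s * J = J * (y * s)
      calc (y : G) * s * J = y * (s * J) := by group
        _ = y * (J * s) := by rw [h2]
        _ = (y * J) * s := by group
        _ = (J * y) * s := by rw [hy.2]
        _ = _ := by group
  refine Nat.card_congr (Equiv.ofBijective
    (fun p : W × (Q : Subgroup G) => (⟨(p.1 : G) * (p.2 : G), hmap p⟩ :
      Subgroup.centralizer ((Q : Subgroup G) : Set G))) ⟨?_, ?_⟩)
  · rintro ⟨y, s⟩ ⟨y', s'⟩ heq
    have h1 : (y : G) * s = y' * s' := congrArg Subtype.val heq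
    set d : G := (y' : G)⁻¹ * y with hd
    have hdW : d ∈ W := W.mul_mem (W.inv_mem y'.2) y.2
    have hdQ : d ∈ (Q : Subgroup G) := by
      have : d = s' * (s : G)⁻¹ := by
        rw [hd]
        calc (y' : G)⁻¹ * y = (y' : G)⁻¹ * ((y : G) * s) * (s : G)⁻¹ := by group
          _ = (y' : G)⁻¹ * ((y' : G) * s') * (s : G)⁻¹ := by rw [h1]
          _ = _ := by group
      rw [this]
      exact (Q : Subgroup G).mul_mem s'.2 ((Q : Subgroup G).inv_mem s.2)
    have hd1 : d = 1 := eq_one_of_odd_of_mul_self ((hWmem d).1 hdW).1.2 (h.mul_self_of_sylow Q hdQ)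
    have hyy : (y : G) = y' := by
      have : (y : G) = y' * d := by rw [hd]; group
      rw [this, hd1, mul_one]
    have hss : (s : G) = s' := by
      have : (y' : G) * s = y' * s' := by
        rw [← h1, hyy]
      exact mul_left_cancel this
    exact Prod.ext (Subtype.ext hyy) (Subtype.ext hss)
  · rintro ⟨x, hx⟩
    obtain ⟨x₂, y, hxy, hcomm, hx2, hy⟩ := Cfsg.Agent.Lib.BlkOrth.exists_isPPart Nat.prime_two x
    obtain ⟨N, hN⟩ := Cfsg.Agent.Lib.BlkOrth.pPart_exists_pow Nat.prime_two ⟨y, hxy, hcomm, hx2, hy⟩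
    have hx₂C : x₂ ∈ Subgroup.centralizer ((Q : Subgroup G) : Set G) := by
      rw [← hN]
      exact Subgroup.pow_mem _ hx N
    have hyC : y ∈ Subgroup.centralizer ((Q : Subgroup G) : Set G) := by
      have : y = x₂⁻¹ * x := by rw [← hxy]; group
      rw [this]
      exact Subgroup.mul_mem _ (Subgroup.inv_mem _ hx₂C) hx
    have hx₂Q : x₂ ∈ (Q : Subgroup G) := by
      obtain ⟨k, hk⟩ := hx2
      have hZ : IsPGroup 2 (Subgroup.zpowers x₂) := by
        apply IsPGroup.of_card (n := k)
        rw [Nat.card_zpowers, hk]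
      have h3 := hZ.inf_normalizer_sylow Q
      have h4 : x₂ ∈ Subgroup.zpowers x₂ ⊓ Subgroup.normalizer (Q : Set G) :=
        ⟨Subgroup.mem_zpowers x₂, Subgroup.centralizer_le_normalizer _ hx₂C⟩
      rw [h3] at h4
      exact h4.2
    have hyW : y ∈ W := by
      rw [hWmem]
      have := (hcen y).1 hyC
      exact ⟨⟨this.1, hy⟩, this.2⟩
    refine ⟨(⟨y, hyW⟩, ⟨x₂, hx₂Q⟩), ?_⟩
    apply Subtype.ext
    show y * x₂ = x
    rw [← hxy]
    exact hcomm.eq.symm

theorem KSet.card_centralizer_eq (h : KSet P) {s t : G} (hs : orderOf s = 2) (ht : orderOf t = 2) :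
    Nat.card (Subgroup.centralizer ({s} : Set G)) = Nat.card (Subgroup.centralizer ({t} : Set G)) := by
  obtain ⟨c, hc⟩ := isConj_iff.1 (h.one s t hs ht)
  rw [← hc]
  exact (Cfsg.Agent.Lib.RealChars.card_centralizer_conj c s).symm

/-- The count of inverted elements. -/
theorem KSet.card_inverted (h : KSet P) {w J : G} (hw : orderOf w = 2) (hJ : orderOf J = 2)
    (hne : w ≠ J) (hc : w * J = J * w) :
    Nat.card {x : G // x ∈ Ko w ∧ J * x * J⁻¹ = x⁻¹} *
        Nat.card (Subgroup.centralizer ((P : Subgroup G) : Set G)) =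
      Nat.card (Subgroup.centralizer ({J} : Set G)) := by
  classical
  have hJJ := mul_self_of_order hJ
  have hodd : ∀ x ∈ Ko w, Odd (orderOf x) := fun x hx => h.odd_of_mem_Ko hw hx
  have hzP : ∀ x ∈ Ko w, J * x * J⁻¹ ∈ Ko w := by
    intro x hx
    rw [h.mem_Ko hw] at hx ⊢
    constructor
    · have hJw : J * w = w * J := hc.symm
      calc J * x * J⁻¹ * w = J * x * (J⁻¹ * w * J) * J⁻¹ := by group
        _ = J * x * w * J⁻¹ := by
            have : J⁻¹ * w * J = w := by
              rw [mul_assoc, hc]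
              group
            rw [this]
        _ = J * (w * x) * J⁻¹ := by rw [mul_assoc J, hx.1]
        _ = (J * w) * x * J⁻¹ := by group
        _ = (w * J) * x * J⁻¹ := by rw [hJw]
        _ = _ := by group
    · rw [Cfsg.Agent.Lib.BlockPrincipal.orderOf_conj_eq]
      exact hx.2
  have h1 := Cfsg.Agent.Lib.IsolatedInvol.relIndex_eq_card_inverted hodd hJJ hzP
  have h2 := h.card_Ko_inf hw hJ hne hc
  have h3 := h.four_mul_card_Ko hw
  rw [← h.card_centralizer_eq hw hJ, ← h1, ← h2, ← h3]
  have hle : (Ko w ⊓ Subgroup.centralizer ({J} : Set G) : Subgroup G) ≤ Ko w := inf_le_left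
  have h4 : Nat.card ((Ko w ⊓ Subgroup.centralizer ({J} : Set G) : Subgroup G).subgroupOf (Ko w)) =
      Nat.card (Ko w ⊓ Subgroup.centralizer ({J} : Set G) : Subgroup G) :=
    Nat.card_congr (Subgroup.subgroupOfEquivOfLe hle).toEquiv
  have h5 := Subgroup.card_mul_index ((Ko w ⊓ Subgroup.centralizer ({J} : Set G) : Subgroup G).subgroupOf (Ko w))
  rw [h4] at h5
  rw [← h5]
  unfold Subgroup.relIndex
  ring

open Classical in
/-- Involutions other than `J` commuting with `J`. -/
noncomputable def Tset (J : G) : Finset G :=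
  Finset.univ.filter (fun w => orderOf w = 2 ∧ w ≠ J ∧ w * J = J * w)

open Classical in
/-- The elements of `O(C(w))` inverted by `J`. -/
noncomputable def Yset (J w : G) : Finset G :=
  Finset.univ.filter (fun y => y ∈ Ko w ∧ J * y * J⁻¹ = y⁻¹)

open Classical in
/-- Involutions `j` with `j J` of even order. -/
noncomputable def Nset (J : G) : Finset G :=
  Finset.univ.filter (fun j => orderOf j = 2 ∧ 2 ∣ orderOf (j * J))

theorem mem_Tset {J w : G} : w ∈ Tset J ↔ orderOf w = 2 ∧ w ≠ J ∧ w * J = J * w := by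
  simp [Tset]

theorem mem_Yset {J w y : G} : y ∈ Yset J w ↔ y ∈ Ko w ∧ J * y * J⁻¹ = y⁻¹ := by
  simp [Yset]

theorem mem_Nset {J j : G} : j ∈ Nset J ↔ orderOf j = 2 ∧ 2 ∣ orderOf (j * J) := by
  simp [Nset]

theorem KSet.card_Yset (h : KSet P) {w J : G} (hw : orderOf w = 2) (hJ : orderOf J = 2)
    (hne : w ≠ J) (hc : w * J = J * w) :
    (Yset J w).card * Nat.card (Subgroup.centralizer ((P : Subgroup G) : Set G)) =
      Nat.card (Subgroup.centralizer ({J} : Set G)) := by
  classical
  have h1 := h.card_inverted hw hJ hne hc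
  rw [Nat.card_eq_fintype_card (α := {x : G // x ∈ Ko w ∧ J * x * J⁻¹ = x⁻¹}),
    Fintype.card_subtype] at h1
  rw [← h1]
  congr 2

/-- `C(J) = O(C(J)) Q` for any Sylow subgroup `Q` containing `J`. -/
theorem KSet.exists_mul_of_comm (h : KSet P) {J : G} (hJ : orderOf J = 2) (Q : Sylow 2 G)
    (hJQ : J ∈ (Q : Subgroup G)) {x : G} (hx : x * J = J * x) :
    ∃ y ∈ Ko J, ∃ s ∈ (Q : Subgroup G), x = y * s := by
  classical
  have hQc : Nat.card (Q : Subgroup G) = 4 := (h.isKlein Q).card_four
  have hcard := h.four_mul_card_Ko hJ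
  have hmap : ∀ p : Ko J × (Q : Subgroup G), (p.1 : G) * (p.2 : G) ∈
      Subgroup.centralizer ({J} : Set G) := by
    rintro ⟨y, s⟩
    have hy := ((h.mem_Ko hJ).1 y.2).1
    have hs : (s : G) * J = J * s := h.comm_of_sylow Q s.2 hJQ
    rw [Subgroup.mem_centralizer_singleton_iff]
    show (y : G) * s * J = J * (y * s)
    calc (y : G) * s * J = y * (s * J) := by group
      _ = y * (J * s) := by rw [hs]
      _ = (y * J) * s := by group
      _ = (J * y) * s := by rw [hy]
      _ = _ := by group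
  have hinj : Function.Injective (fun p : Ko J × (Q : Subgroup G) =>
      (⟨(p.1 : G) * (p.2 : G), hmap p⟩ : Subgroup.centralizer ({J} : Set G))) := by
    rintro ⟨y, s⟩ ⟨y', s'⟩ heq
    have h1 : (y : G) * s = y' * s' := congrArg Subtype.val heq
    set d : G := (y' : G)⁻¹ * y with hd
    have hdW : d ∈ Ko J := (Ko J).mul_mem ((Ko J).inv_mem y'.2) y.2
    have hdQ : d ∈ (Q : Subgroup G) := by
      have : d = s' * (s : G)⁻¹ := by
        rw [hd]
        calc (y' : G)⁻¹ * y = (y' : G)⁻¹ * ((y : G) * s) * (s : G)⁻¹ := by group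
          _ = (y' : G)⁻¹ * ((y' : G) * s') * (s : G)⁻¹ := by rw [h1]
          _ = _ := by group
      rw [this]
      exact (Q : Subgroup G).mul_mem s'.2 ((Q : Subgroup G).inv_mem s.2)
    have hd1 : d = 1 := eq_one_of_odd_of_mul_self ((h.mem_Ko hJ).1 hdW).2 (h.mul_self_of_sylow Q hdQ)
    have hyy : (y : G) = y' := by
      have : (y : G) = y' * d := by rw [hd]; group
      rw [this, hd1, mul_one]
    have hss : (s : G) = s' := by
      have : (y' : G) * s = y' * s' := by
        rw [← h1, hyy]
      exact mul_left_cancel this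
    exact Prod.ext (Subtype.ext hyy) (Subtype.ext hss)
  have hbij := hinj.bijective_of_nat_card_le (by
    rw [Nat.card_prod, hQc, hcard])
  obtain ⟨⟨y, s⟩, hys⟩ := hbij.2 ⟨x, Subgroup.mem_centralizer_singleton_iff.2 hx⟩
  exact ⟨y, y.2, s, s.2, (congrArg Subtype.val hys).symm⟩

/-- The number of involutions `≠ J` commuting with `J`. -/
theorem KSet.card_Tset (h : KSet P) {J : G} (hJ : orderOf J = 2) :
    (Tset J).card * Nat.card (Subgroup.centralizer ((P : Subgroup G) : Set G)) =
      2 * Nat.card (Subgroup.centralizer ({J} : Set G)) := by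
  classical
  have hJJ := mul_self_of_order hJ
  have hJinv : J⁻¹ = J := inv_eq_of_mul_eq_one_left hJJ
  -- an involution `a ≠ J` commuting with `J`
  obtain ⟨Q₀, hJQ₀⟩ := exists_sylow_mem hJ
  obtain ⟨a, haQ₀, ha1, haJ⟩ : ∃ a ∈ (Q₀ : Subgroup G), a ≠ 1 ∧ a ≠ J := by
    by_contra hcon
    push Not at hcon
    have h1 : ((Q₀ : Subgroup G) : Set G) ⊆ {1, J} := by
      intro x hx
      by_cases hx1 : x = 1
      · exact Or.inl hx1
      · exact Or.inr (hcon x hx hx1)
    have h2 : Nat.card (Q₀ : Subgroup G) ≤ 2 := by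
      have h3 := Set.ncard_le_ncard h1 (Set.toFinite _)
      have h4 := Set.ncard_insert_le (1 : G) ({J} : Set G)
      rw [Set.ncard_singleton] at h4
      rw [← Nat.card_coe_set_eq] at h3
      exact h3.trans h4
    have h3 := (h.isKlein Q₀).card_four
    omega
  have haa : a * a = 1 := h.mul_self_of_sylow Q₀ haQ₀
  have hao : orderOf a = 2 := order_of_mul_self haa ha1
  have haJc : a * J = J * a := h.comm_of_sylow Q₀ haQ₀ hJQ₀
  obtain ⟨Q, hmemQ⟩ := h.exists_sylow_pair hao hJ haJ haJc
  have hJQ : J ∈ (Q : Subgroup G) := (hmemQ J).2 (Or.inr (Or.inr (Or.inl rfl)))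
  have haQ : a ∈ (Q : Subgroup G) := (hmemQ a).2 (Or.inr (Or.inl rfl))
  set b := a * J with hb
  have hbQ : b ∈ (Q : Subgroup G) := (hmemQ b).2 (Or.inr (Or.inr (Or.inr rfl)))
  have hbb : b * b = 1 := h.mul_self_of_sylow Q hbQ
  have hb1 : b ≠ 1 := by
    intro hb1
    apply haJ
    have : a = a * (J * J) := by rw [hJJ, mul_one]
    rw [this, ← mul_assoc, ← hb, hb1, one_mul]
  have hbo : orderOf b = 2 := order_of_mul_self hbb hb1
  have hbJ : b ≠ J := by
    intro hbJ
    apply ha1
    rw [hb] at hbJ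
    exact mul_eq_right.mp hbJ
  have hbJc : b * J = J * b := h.comm_of_sylow Q hbQ hJQ
  have hbab : a * b = J := by
    rw [hb, ← mul_assoc, haa, one_mul]
  -- the pieces
  have hpiece : ∀ t : G, t ∈ (Q : Subgroup G) → orderOf t = 2 → t ≠ J →
      ((Tset J).filter (fun w => w * t ∈ Ko J)).card = (Yset t J).card := by
    intro t htQ hto htJ
    have htt : t * t = 1 := mul_self_of_order hto
    have htJc : t * J = J * t := h.comm_of_sylow Q htQ hJQ
    have htinv : t⁻¹ = t := inv_eq_of_mul_eq_one_left htt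
    refine Finset.card_nbij' (fun w => w * t) (fun x => x * t) ?_ ?_ ?_ ?_
    · intro w hw
      have hw' := Finset.mem_coe.1 hw
      rw [Finset.mem_filter, mem_Tset] at hw'
      obtain ⟨⟨hwo, hwJ, hwc⟩, hwk⟩ := hw'
      have hww := mul_self_of_order hwo
      rw [Finset.mem_coe, mem_Yset]
      refine ⟨hwk, ?_⟩
      rw [htinv, mul_inv_rev, htinv, inv_eq_of_mul_eq_one_left hww]
      calc t * (w * t) * t = t * w * (t * t) := by group
        _ = t * w := by rw [htt, mul_one]
    · intro x hx
      have hx' := Finset.mem_coe.1 hx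
      rw [mem_Yset] at hx'
      obtain ⟨hxk, hxi⟩ := hx'
      have hxm := (h.mem_Ko hJ).1 hxk
      rw [Finset.mem_coe, Finset.mem_filter, mem_Tset]
      have hxtt : x * t * t = x := by rw [mul_assoc, htt, mul_one]
      have hmm : (x * t) * (x * t) = 1 := by
        have h1 : t * x * t⁻¹ = x⁻¹ := hxi
        rw [htinv] at h1
        calc (x * t) * (x * t) = x * (t * x * t) := by group
          _ = 1 := by rw [h1]; group
      have hne1 : x * t ≠ 1 := by
        intro h1
        have h2 : x = t := by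
          calc x = x * t * t := hxtt.symm
            _ = t := by rw [h1, one_mul]
        apply hxm.2
        rw [h2, hto]
      refine ⟨⟨order_of_mul_self hmm hne1, ?_, ?_⟩, ?_⟩
      · intro h1
        have h1' : x * t = J := h1
        have h2 : x = J * t := by
          rw [← h1', hxtt]
        have h3 : x ∈ (Q : Subgroup G) := by
          rw [h2]
          exact (Q : Subgroup G).mul_mem hJQ htQ
        have h4 := eq_one_of_odd_of_mul_self hxm.2 (h.mul_self_of_sylow Q h3)
        rw [h4, one_mul] at h1'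
        exact htJ h1'
      · calc x * t * J = x * (t * J) := by group
          _ = x * (J * t) := by rw [htJc]
          _ = (x * J) * t := by group
          _ = (J * x) * t := by rw [hxm.1]
          _ = _ := by group
      · rw [hxtt]
        exact hxk
    · intro w _
      show w * t * t = w
      rw [mul_assoc, htt, mul_one]
    · intro x _
      show x * t * t = x
      rw [mul_assoc, htt, mul_one]
  have hYa := h.card_Yset hJ hao haJ.symm haJc.symm
  have hYb := h.card_Yset hJ hbo hbJ.symm hbJc.symm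
  have hca := h.card_centralizer_eq hao hJ
  have hcb := h.card_centralizer_eq hbo hJ
  -- the union
  have hunion : Tset J = (Tset J).filter (fun w => w * a ∈ Ko J) ∪
      (Tset J).filter (fun w => w * b ∈ Ko J) := by
    ext w
    simp only [Finset.mem_union, Finset.mem_filter]
    constructor
    · intro hw
      have hw' := mem_Tset.1 hw
      obtain ⟨y, hy, s, hs, hws⟩ := h.exists_mul_of_comm hJ Q hJQ hw'.2.2
      have hym := (h.mem_Ko hJ).1 hy
      rcases (hmemQ s).1 hs with hs1 | hs1 | hs1 | hs1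
      · exfalso
        rw [hs1, mul_one] at hws
        apply hym.2
        rw [← hws, hw'.1]
      · left
        refine ⟨hw, ?_⟩
        have : w * a = y := by
          rw [hws, hs1, mul_assoc, haa, mul_one]
        rw [this]
        exact hy
      · exfalso
        have hyJ : y = w * J := by
          rw [hws, hs1, mul_assoc, hJJ, mul_one]
        have hww := mul_self_of_order hw'.1
        have hyy : y * y = 1 := by
          rw [hyJ]
          calc w * J * (w * J) = w * (J * w) * J := by group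
            _ = w * (w * J) * J := by rw [hw'.2.2]
            _ = (w * w) * (J * J) := by group
            _ = 1 := by rw [hww, hJJ, one_mul]
        have hy1 := eq_one_of_odd_of_mul_self hym.2 hyy
        rw [hy1, one_mul, hs1] at hws
        exact hw'.2.1 hws
      · right
        refine ⟨hw, ?_⟩
        have : w * b = y := by
          rw [hws, hs1, mul_assoc, hbb, mul_one]
        rw [this]
        exact hy
    · rintro (⟨h1, -⟩ | ⟨h1, -⟩) <;> exact h1
  have hdisj : Disjoint ((Tset J).filter (fun w => w * a ∈ Ko J))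
      ((Tset J).filter (fun w => w * b ∈ Ko J)) := by
    rw [Finset.disjoint_left]
    intro w h1 h2
    have h1' := (Finset.mem_filter.1 h1).2
    have h2' := (Finset.mem_filter.1 h2).2
    have hww := mul_self_of_order (mem_Tset.1 (Finset.mem_filter.1 h1).1).1
    have h3 : (w * a)⁻¹ * (w * b) ∈ Ko J := (Ko J).mul_mem ((Ko J).inv_mem h1') h2'
    have h4 : (w * a)⁻¹ * (w * b) = a * b := by
      have ha' : a⁻¹ = a := inv_eq_of_mul_eq_one_left haa
      have hw' : w⁻¹ * w = 1 := inv_mul_cancel w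
      calc (w * a)⁻¹ * (w * b) = a⁻¹ * (w⁻¹ * w) * b := by group
        _ = a * b := by rw [hw', mul_one, ha']
    rw [h4, hbab] at h3
    apply ((h.mem_Ko hJ).1 h3).2
    rw [hJ]
  rw [hunion, Finset.card_union_of_disjoint hdisj, hpiece a haQ hao haJ, hpiece b hbQ hbo hbJ,
    add_mul, hYa, hYb, hca, hcb]
  ring

/-- The number of involutions `j` with `j J` of even order. -/
theorem KSet.card_Nset (h : KSet P) {J : G} (hJ : orderOf J = 2) :
    (Nset J).card * Nat.card (Subgroup.centralizer ((P : Subgroup G) : Set G)) =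
      (Tset J).card * Nat.card (Subgroup.centralizer ({J} : Set G)) := by
  classical
  have hJJ := mul_self_of_order hJ
  have hJinv : J⁻¹ = J := inv_eq_of_mul_eq_one_left hJJ
  have htwo := Nat.prime_two
  have hsig : (Nset J).card = ((Tset J).sigma (fun w => Yset J w)).card := by
    symm
    apply Finset.card_bij (fun (p : Σ _ : G, G) _ => p.1 * p.2 * J)
    · rintro ⟨w, y⟩ hp
      rw [Finset.mem_sigma] at hp
      obtain ⟨hw, hy⟩ := hp
      have hw' := mem_Tset.1 hw
      have hy' := mem_Yset.1 hy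
      have hym := (h.mem_Ko hw'.1).1 hy'.1
      have hww := mul_self_of_order hw'.1
      have hwy : Commute w y := hym.1.symm
      have hPart : IsPPart 2 (w * y) w :=
        Cfsg.Agent.Lib.BlkOrth.pPart_of_mul hwy ⟨1, by rw [hw'.1]; norm_num⟩ hym.2
      have hinvJ : J * y * J = y⁻¹ := by
        have := hy'.2
        rwa [hJinv] at this
      show w * y * J ∈ Nset J
      rw [mem_Nset]
      constructor
      · apply order_of_mul_self
        · calc w * y * J * (w * y * J) = w * y * (J * w) * y * J := by group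
            _ = w * y * (w * J) * y * J := by rw [hw'.2.2]
            _ = w * y * w * (J * y * J) := by group
            _ = w * y * w * y⁻¹ := by rw [hinvJ]
            _ = w * (y * w) * y⁻¹ := by group
            _ = w * (w * y) * y⁻¹ := by rw [hym.1]
            _ = (w * w) * (y * y⁻¹) := by group
            _ = 1 := by rw [hww, mul_inv_cancel, one_mul]
        · intro h1
          have h2 : w * y = J := by
            calc w * y = w * y * J * J := by rw [mul_assoc (w * y), hJJ, mul_one]
              _ = J := by rw [h1, one_mul]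
          rw [h2] at hPart
          have h3 := Cfsg.Agent.Lib.BlkOrth.pPart_unique htwo hPart
            (Cfsg.Agent.Lib.BlkOrth.isPPart_self ⟨1, by rw [hJ]; norm_num⟩ htwo)
          exact hw'.2.1 h3
      · have h1 : w * y * J * J = w * y := by rw [mul_assoc (w * y), hJJ, mul_one]
        rw [h1]
        by_contra h2
        have h3 := (Cfsg.Agent.Lib.BlkOrth.pPart_regular_iff htwo hPart).1 h2
        exact ne_one_of_order hw'.1 h3
    · rintro ⟨w, y⟩ hp ⟨w', y'⟩ hp' heq
      rw [Finset.mem_sigma] at hp hp'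
      obtain ⟨hw, hy⟩ := hp
      obtain ⟨hw₁, hy₁⟩ := hp'
      have hw' := mem_Tset.1 hw
      have hy' := mem_Yset.1 hy
      have hym := (h.mem_Ko hw'.1).1 hy'.1
      have hw₁' := mem_Tset.1 hw₁
      have hy₁' := mem_Yset.1 hy₁
      have hym₁ := (h.mem_Ko hw₁'.1).1 hy₁'.1
      have h1 : w * y = w' * y' := mul_right_cancel heq
      have hPart : IsPPart 2 (w * y) w :=
        Cfsg.Agent.Lib.BlkOrth.pPart_of_mul hym.1.symm ⟨1, by rw [hw'.1]; norm_num⟩ hym.2
      have hPart₁ : IsPPart 2 (w * y) w' := by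
        rw [h1]
        exact Cfsg.Agent.Lib.BlkOrth.pPart_of_mul hym₁.1.symm ⟨1, by rw [hw₁'.1]; norm_num⟩ hym₁.2
      have h2 := Cfsg.Agent.Lib.BlkOrth.pPart_unique htwo hPart hPart₁
      subst h2
      have h3 := mul_left_cancel h1
      subst h3
      rfl
    · intro j hj
      have hj' := mem_Nset.1 hj
      have hjj := mul_self_of_order hj'.1
      have hjinv : j⁻¹ = j := inv_eq_of_mul_eq_one_left hjj
      obtain ⟨w, hw⟩ := Cfsg.Agent.Lib.BlkOrth.exists_isPPart htwo (j * J)
      have hw₀ := hw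
      obtain ⟨y, hwy, hcomm, hw2, hy⟩ := hw
      have hwne : w ≠ 1 := by
        intro h1
        exact ((Cfsg.Agent.Lib.BlkOrth.pPart_regular_iff htwo hw₀).2 h1) hj'.2
      have hww : w * w = 1 := h.mul_self_of_two_element hw2
      have hwo : orderOf w = 2 := order_of_mul_self hww hwne
      have hwinv : w⁻¹ = w := inv_eq_of_mul_eq_one_left hww
      -- conjugation by `J` inverts `j J`
      have hconj : J * (j * J) * J⁻¹ = (j * J)⁻¹ := by
        rw [hJinv, mul_inv_rev, hJinv, hjinv, mul_assoc, mul_assoc, hJJ, mul_one]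
      have h1 := Cfsg.Agent.Lib.BlkOrth.pPart_conj hw₀ J
      rw [hconj] at h1
      -- the `2`-part of the inverse
      have h2 : IsPPart 2 (j * J)⁻¹ w := by
        refine ⟨y⁻¹, ?_, hcomm.inv_right, hw2, ?_⟩
        · rw [← hwy, mul_inv_rev, hwinv]
          exact hcomm.inv_right.eq
        · rwa [orderOf_inv]
      have h3 := Cfsg.Agent.Lib.BlkOrth.pPart_unique htwo h1 h2
      have hwJc : w * J = J * w := by
        calc w * J = (J * w * J⁻¹) * J := by rw [h3]
          _ = J * w := by group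
      have hyinv : J * y * J⁻¹ = y⁻¹ := by
        have h4 : J * (w * y) * J⁻¹ = (w * y)⁻¹ := by rw [hwy]; exact hconj
        have h5 : J * (w * y) * J⁻¹ = (J * w * J⁻¹) * (J * y * J⁻¹) := by group
        rw [h5, h3, mul_inv_rev, hwinv, ← hcomm.inv_right.eq] at h4
        exact mul_left_cancel h4
      have hwJne : w ≠ J := by
        intro h4
        apply hy
        have h5 : j = y⁻¹ := by
          rw [← hyinv]
          have h6 : j * J = J * y := by rw [← hwy, h4]
          calc j = j * J * J⁻¹ := by group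
            _ = J * y * J⁻¹ := by rw [h6]
        have h6 : orderOf y = 2 := by
          rw [← orderOf_inv, ← h5]
          exact hj'.1
        rw [h6]
      refine ⟨⟨w, y⟩, ?_, ?_⟩
      · rw [Finset.mem_sigma]
        refine ⟨mem_Tset.2 ⟨hwo, hwJne, hwJc⟩, mem_Yset.2 ⟨?_, hyinv⟩⟩
        rw [h.mem_Ko hwo]
        exact ⟨hcomm.eq.symm, hy⟩
      · show w * y * J = j
        rw [hwy, mul_assoc, hJJ, mul_one]
  rw [hsig, Finset.card_sigma, Finset.sum_mul]
  rw [Finset.sum_congr rfl (g := fun _ => Nat.card (Subgroup.centralizer ({J} : Set G)))]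
  · rw [Finset.sum_const, smul_eq_mul]
  · intro w hw
    have hw' := mem_Tset.1 hw
    exact h.card_Yset hw'.1 hJ hw'.2.1 hw'.2.2

end Groups

end Cfsg.Agent.Lib.KleinPrincipal
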