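import Mathlib
import Cfsg.Agent.Lib.KleinPrincipal

/-!
# Characters of the principal `2`-block with a Klein four Sylow subgroup and one class of involutions

The function `∑_{χ ∈ B₀} χ(g) conj χ(g')` equals `4` for `2`-singular `g, g'`, and it vanishes if exactly
one of the elements is `2`-regular.  Consequences: a quarter of the elements are `2`-singular, the block
has rank three, and the order formula.
-/

set_option autoImplicit false
set_option linter.unusedSectionVars false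
set_option linter.unusedVariables false
set_option linter.style.haveILetI false

namespace Cfsg.Agent.Lib.KleinPrincipalChar

open Cfsg Cfsg.Agent.Lib.CharBasic Cfsg.Agent.Lib.BlockLocal Cfsg.Agent.Lib.BlockIdem
open Cfsg.Agent.Lib.BlockNormal Cfsg.Agent.Lib.BlockQ Cfsg.Agent.Lib.KleinPrincipal
open Cfsg.Agent.Lib.BlkOrth
open scoped ComplexConjugate

universe u

variable {G : Type u} [Group G] [Fintype G] {P : Sylow 2 G}

theorem exists_section (h : KSet P) {J g : G} (hJ : orderOf J = 2) (hg : 2 ∣ orderOf g) :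
    ∃ y ∈ Ko J, ∀ χ : IrrCharacter G, (χ : G → ℂ) g = (χ : G → ℂ) (J * y) := by
  obtain ⟨x, hx⟩ := exists_isPPart Nat.prime_two g
  have hx₀ := hx
  obtain ⟨y, hxy, hcomm, hx2, hy⟩ := hx
  have hx1 : x ≠ 1 := fun h1 => ((pPart_regular_iff Nat.prime_two hx₀).2 h1) hg
  have hxx := h.mul_self_of_two_element hx2
  have hxo := order_of_mul_self hxx hx1
  obtain ⟨c, hc⟩ := isConj_iff.1 (h.one x J hxo hJ)
  refine ⟨c * y * c⁻¹, ?_, fun χ => ?_⟩
  · rw [h.mem_Ko hJ]
    refine ⟨?_, by rwa [Cfsg.Agent.Lib.BlockPrincipal.orderOf_conj_eq]⟩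
    rw [← hc]
    calc c * y * c⁻¹ * (c * x * c⁻¹) = c * (y * x) * c⁻¹ := by group
      _ = c * (x * y) * c⁻¹ := by rw [hcomm.eq]
      _ = _ := by group
  · have : J * (c * y * c⁻¹) = c * g * c⁻¹ := by rw [← hc, ← hxy]; group
    rw [this]
    exact Cfsg.Agent.S0948.value_eq_of_conj χ (isConj_iff.2 ⟨c, rfl⟩)

theorem sum_section (h : KSet P) (M : Ideal AlgInt) (hM : IsPModular 2 M) {J : G}
    (hJ : orderOf J = 2) {y y' : G} (hy : y ∈ Ko J) (hy' : y' ∈ Ko J) :
    ∑ χ ∈ bF (principalBlock M G), (χ : G → ℂ) (J * y) * conj ((χ : G → ℂ) (J * y')) = 4 := by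
  classical
  haveI : Fact (Nat.Prime 2) := ⟨Nat.prime_two⟩
  haveI := hM.2.1.isPrime
  letI : Fintype (Subgroup.centralizer ({J} : Set G)) := Fintype.ofFinite _
  obtain ⟨hk, hf⟩ := h.core_facts hJ
  have hy0 := (h.mem_Ko hJ).1 hy
  have hy0' := (h.mem_Ko hJ).1 hy'
  have hyC : y ∈ Subgroup.centralizer ({J} : Set G) :=
    Subgroup.mem_centralizer_singleton_iff.2 hy0.1
  have hyC' : y' ∈ Subgroup.centralizer ({J} : Set G) :=
    Subgroup.mem_centralizer_singleton_iff.2 hy0'.1
  have h1 := Cfsg.Agent.S0947.sum_principal G 2 M hM J ⟨1, by simpa using hJ⟩ ⟨y, hyC⟩ ⟨y', hyC'⟩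
    (by rw [Subgroup.orderOf_mk]; exact hy0.2) (by rw [Subgroup.orderOf_mk]; exact hy0'.2)
  rw [finsum_mem_eq_sum_bF] at h1
  simp only at h1
  rw [h1]
  have hKp : ¬ 2 ∣ Nat.card (pPrimeCore 2 (Subgroup.centralizer ({J} : Set G))) :=
    Cfsg.Agent.Lib.PCore.not_dvd_card_pPrimeCore 2
  have hyK : (⟨y, hyC⟩ : Subgroup.centralizer ({J} : Set G)) ∈
      pPrimeCore 2 (Subgroup.centralizer ({J} : Set G)) := by
    obtain ⟨z, hz, hzy⟩ := hy
    have : (⟨y, hyC⟩ : Subgroup.centralizer ({J} : Set G)) = z := Subtype.ext hzy.symm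
    rw [this]
    exact hz
  have hyK' : (⟨y', hyC'⟩ : Subgroup.centralizer ({J} : Set G)) ∈
      pPrimeCore 2 (Subgroup.centralizer ({J} : Set G)) := by
    obtain ⟨z, hz, hzy⟩ := hy'
    have : (⟨y', hyC'⟩ : Subgroup.centralizer ({J} : Set G)) = z := Subtype.ext hzy.symm
    rw [this]
    exact hz
  have h2 := Cfsg.Agent.S0947.sum_norm_sq_of_complement (Subgroup.centralizer ({J} : Set G)) 2 M hM hk
    1 (by simp)
  rw [hf] at h2
  have h3 := congrArg Complex.ofReal h2
  rw [Cfsg.Agent.S0947.finsum_norm_sq_cast] at h3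
  have h4 : ∑ᶠ ψ ∈ principalBlock M (Subgroup.centralizer ({J} : Set G)),
      (ψ : Subgroup.centralizer ({J} : Set G) → ℂ) ⟨y, hyC⟩ *
        conj ((ψ : Subgroup.centralizer ({J} : Set G) → ℂ) ⟨y', hyC'⟩) =
      ∑ᶠ ψ ∈ principalBlock M (Subgroup.centralizer ({J} : Set G)),
      (ψ : Subgroup.centralizer ({J} : Set G) → ℂ) 1 *
        conj ((ψ : Subgroup.centralizer ({J} : Set G) → ℂ) 1) := by
    refine finsum_mem_congr rfl fun ψ hψ => ?_
    rw [eq_of_mem_principalBlock hM _ hKp ψ hψ _ hyK, eq_of_mem_principalBlock hM _ hKp ψ hψ _ hyK']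
  rw [h4, h3]
  norm_num

theorem sum_sing_sing (h : KSet P) (M : Ideal AlgInt) (hM : IsPModular 2 M) {g g' : G}
    (hg : 2 ∣ orderOf g) (hg' : 2 ∣ orderOf g') :
    ∑ χ ∈ bF (principalBlock M G), (χ : G → ℂ) g * conj ((χ : G → ℂ) g') = 4 := by
  obtain ⟨x, hx⟩ := exists_isPPart Nat.prime_two g
  have hx₀ := hx
  obtain ⟨y, hxy, hcomm, hx2, hy⟩ := hx
  have hx1 : x ≠ 1 := fun h1 => ((pPart_regular_iff Nat.prime_two hx₀).2 h1) hg
  have hxx := h.mul_self_of_two_element hx2
  have hxo := order_of_mul_self hxx hx1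
  obtain ⟨u, hu, hgu⟩ := exists_section h hxo hg
  obtain ⟨v, hv, hgv⟩ := exists_section h hxo hg'
  rw [← sum_section h M hM hxo hu hv]
  refine Finset.sum_congr rfl fun χ _ => ?_
  rw [hgu χ, hgv χ]

theorem sum_reg_sing (M : Ideal AlgInt) (hM : IsPModular 2 M) {g g' : G}
    (hg : ¬ 2 ∣ orderOf g) (hg' : 2 ∣ orderOf g') :
    ∑ χ ∈ bF (principalBlock M G), (χ : G → ℂ) g * conj ((χ : G → ℂ) g') = 0 := by
  have h1 := Cfsg.Agent.Lib.BlockOrth.weak_block_orthogonality hM (isPBlock_principalBlock M) hg hg'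
  rw [finsum_mem_eq_sum_bF] at h1
  rw [← h1]
  refine Finset.sum_congr rfl fun χ _ => ?_
  rw [char_conj_eq_inv (IsIrrCharacter.isCharacter χ.2)]

/-- The sum of the values of an irreducible character. -/
theorem sum_irr (χ : IrrCharacter G) :
    ∑ g : G, (χ : G → ℂ) g = if χ = irrOne G then (Nat.card G : ℂ) else 0 := by
  classical
  have hG : (Nat.card G : ℂ) ≠ 0 := natCard_ne_zero'
  by_cases hχ : χ = irrOne G
  · rw [if_pos hχ, hχ]
    show ∑ g : G, (1 : ℂ) = _
    simp
  · rw [if_neg hχ]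
    have h1 := classInner_irr_ne χ.2 (isIrrCharacter_one (G := G)) (fun h2 => hχ (Subtype.ext h2))
    unfold classInner at h1
    simp only [map_one, mul_one] at h1
    exact (mul_eq_zero.1 h1).resolve_left (inv_ne_zero hG)

theorem exists_invol (h : KSet P) : ∃ J : G, orderOf J = 2 ∧ J ∈ (P : Subgroup G) := by
  haveI := h.klein
  have hP4 : Nat.card (P : Subgroup G) = 4 := IsKleinFour.card_four
  haveI : Nontrivial (P : Subgroup G) :=
    Finite.one_lt_card_iff_nontrivial.mp (by rw [hP4]; norm_num)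
  obtain ⟨z₀, hz₀⟩ := exists_ne (1 : (P : Subgroup G))
  have hz1 : (z₀ : G) ≠ 1 := fun h => hz₀ (Subtype.ext h)
  exact ⟨z₀, order_of_mul_self (h.mul_self_of_mem z₀.2) hz1, z₀.2⟩

open Classical in
/-- The `2`-singular elements. -/
noncomputable def Sing (G : Type u) [Group G] [Fintype G] : Finset G :=
  Finset.univ.filter (fun g => 2 ∣ orderOf g)

theorem mem_Sing {g : G} : g ∈ Sing G ↔ 2 ∣ orderOf g := by
  simp [Sing]

/-- The value of the sum over the block, in a uniform way. -/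
theorem sum_block_eq (h : KSet P) (M : Ideal AlgInt) (hM : IsPModular 2 M) {J : G}
    (hJ : orderOf J = 2) (g : G) :
    ∑ χ ∈ bF (principalBlock M G), (χ : G → ℂ) g * conj ((χ : G → ℂ) J) =
      if 2 ∣ orderOf g then 4 else 0 := by
  have hJ2 : 2 ∣ orderOf J := by rw [hJ]
  by_cases hg : 2 ∣ orderOf g
  · rw [if_pos hg]
    exact sum_sing_sing h M hM hg hJ2
  · rw [if_neg hg]
    exact sum_reg_sing M hM hg hJ2

theorem irrOne_mem_bF (M : Ideal AlgInt) (hM : IsPModular 2 M) : irrOne G ∈ bF (principalBlock M G) := by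
  haveI := hM.2.1.isPrime
  exact mem_bF.mpr (irrOne_mem_principalBlock M)

/-- Four times the number of `2`-singular elements is the group order. -/
theorem four_mul_card_sing (h : KSet P) (M : Ideal AlgInt) (hM : IsPModular 2 M) :
    4 * (Sing G).card = Nat.card G := by
  classical
  obtain ⟨J, hJ, -⟩ := exists_invol h
  have h1 : ∑ g : G, ∑ χ ∈ bF (principalBlock M G), (χ : G → ℂ) g * conj ((χ : G → ℂ) J) =
      (Nat.card G : ℂ) := by
    rw [Finset.sum_comm]
    simp_rw [← Finset.sum_mul, sum_irr]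
    rw [Finset.sum_eq_single (irrOne G)]
    · rw [if_pos rfl]
      show _ * conj (1 : ℂ) = _
      simp
    · intro χ _ hχ
      rw [if_neg hχ, zero_mul]
    · intro hne
      exact absurd (irrOne_mem_bF M hM) hne
  have h2 : ∑ g : G, ∑ χ ∈ bF (principalBlock M G), (χ : G → ℂ) g * conj ((χ : G → ℂ) J) =
      (4 : ℂ) * ((Sing G).card : ℂ) := by
    simp_rw [sum_block_eq h M hM hJ]
    rw [← Finset.sum_filter, Finset.sum_const, nsmul_eq_mul, mul_comm]
    rfl
  rw [h2] at h1
  exact_mod_cast h1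

/-- The block has four characters. -/
theorem card_bF (h : KSet P) (M : Ideal AlgInt) (hM : IsPModular 2 M) :
    (bF (principalBlock M G)).card = 4 := by
  classical
  obtain ⟨J, hJ, -⟩ := exists_invol h
  obtain ⟨ζ₂, ζ₃, ζ₄, ε, hε, h2, h3, h23, h24, h34, hB, hval, -⟩ :=
    Cfsg.Agent.S0948.main M hM P h.klein h.one
  have hB' : bF (principalBlock M G) = {irrOne G, ζ₂, ζ₃, ζ₄} := by
    ext χ
    rw [mem_bF, hB]
    simp only [Set.mem_ofPred_eq, Finset.mem_insert, Finset.mem_singleton]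
    constructor
    · rintro (h1 | h1 | h1 | h1)
      · exact Or.inl (Subtype.ext h1)
      · exact Or.inr (Or.inl h1)
      · exact Or.inr (Or.inr (Or.inl h1))
      · exact Or.inr (Or.inr (Or.inr h1))
    · rintro (h1 | h1 | h1 | h1)
      · left
        rw [h1]
        rfl
      · exact Or.inr (Or.inl h1)
      · exact Or.inr (Or.inr (Or.inl h1))
      · exact Or.inr (Or.inr (Or.inr h1))
  have he2 : irrOne G ≠ ζ₂ := fun h1 => h2 (by rw [← h1]; rfl)
  have he3 : irrOne G ≠ ζ₃ := fun h1 => h3 (by rw [← h1]; rfl)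
  have he4 : irrOne G ≠ ζ₄ := by
    intro h1
    have h5 := (hval J hJ).2.2
    rw [← h1] at h5
    have h6 : (1 : ℂ) = -1 := h5
    norm_num at h6
  rw [hB']
  rw [Finset.card_insert_of_notMem (by simp [he2, he3, he4]),
    Finset.card_insert_of_notMem (by simp [h23, h24]), Finset.card_insert_of_notMem (by simp [h34]),
    Finset.card_singleton]

/-- The rank of the block. -/
theorem blockRank_eq (h : KSet P) (M : Ideal AlgInt) (hM : IsPModular 2 M) :
    blockRank 2 (principalBlock M G) = 3 := by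
  classical
  haveI := hM.2.1.isPrime
  have hG : (Nat.card G : ℂ) ≠ 0 := natCard_ne_zero'
  have h1 := Cfsg.Agent.Lib.BlockOrtho.card_mul_blockRank hM (isPBlock_principalBlock (G := G) M)
  have hterm : ∀ g : G, ∑ χ : IrrCharacter G, Cfsg.Agent.Lib.BlockOrtho.indB (principalBlock M G) χ *
      (pRegularPart 2 (χ : G → ℂ) g * conj ((χ : G → ℂ) g)) =
      ∑ χ ∈ bF (principalBlock M G), (χ : G → ℂ) g * conj ((χ : G → ℂ) g) -
        if 2 ∣ orderOf g then 4 else 0 := by
    intro g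
    have h2 : ∑ χ : IrrCharacter G, Cfsg.Agent.Lib.BlockOrtho.indB (principalBlock M G) χ *
        (pRegularPart 2 (χ : G → ℂ) g * conj ((χ : G → ℂ) g)) =
        ∑ χ ∈ bF (principalBlock M G), pRegularPart 2 (χ : G → ℂ) g * conj ((χ : G → ℂ) g) := by
      rw [← Cfsg.Agent.Lib.BlockOrtho.finsum_mem_eq_sum_indB, finsum_mem_eq_sum_bF]
    rw [h2]
    by_cases hg : 2 ∣ orderOf g
    · rw [if_pos hg, sum_sing_sing h M hM hg hg, sub_self]
      refine Finset.sum_eq_zero fun χ _ => ?_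
      rw [Cfsg.Agent.Lib.BlockOrtho.pRegularPart_of_sing _ hg, zero_mul]
    · rw [if_neg hg, sub_zero]
      refine Finset.sum_congr rfl fun χ _ => ?_
      rw [Cfsg.Agent.Lib.BlockOrtho.pRegularPart_of_reg _ hg]
  simp_rw [hterm] at h1
  rw [Finset.sum_sub_distrib, Finset.sum_comm] at h1
  have h3 : ∀ χ : IrrCharacter G, ∑ g : G, (χ : G → ℂ) g * conj ((χ : G → ℂ) g) = (Nat.card G : ℂ) := by
    intro χ
    have h4 := classInner_irr_self χ.2
    unfold classInner at h4
    field_simp at h4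
    exact h4
  simp_rw [h3] at h1
  rw [Finset.sum_const, card_bF h M hM, ← Finset.sum_filter, Finset.sum_const, nsmul_eq_mul,
    nsmul_eq_mul] at h1
  have h5 : (Finset.univ.filter (fun g : G => 2 ∣ orderOf g)).card = (Sing G).card := by
    unfold Sing
    congr
  rw [h5] at h1
  have h6 : ((Nat.card G : ℕ) : ℂ) = 4 * ((Sing G).card : ℂ) := by
    rw [← four_mul_card_sing h M hM]
    push_cast
    rfl
  have h7 : (Nat.card G : ℂ) * (blockRank 2 (principalBlock M G) : ℂ) = (Nat.card G : ℂ) * 3 := by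
    rw [h1]
    nth_rewrite 2 [h6]
    push_cast
    rw [h6]
    ring
  have h8 := mul_left_cancel₀ hG h7
  exact_mod_cast h8

end Cfsg.Agent.Lib.KleinPrincipalChar
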