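import Mathlib
import Cfsg.Agent.Lib.KleinPrincipalChar
import Cfsg.Agent.Lib.FSSkew

/-!
# The order formula from the principal `2`-block (Klein four Sylow subgroup, no normal complement)
-/

set_option autoImplicit false
set_option linter.unusedSectionVars false
set_option linter.unusedVariables false
set_option linter.style.haveILetI false

namespace Cfsg.Agent.Lib.KleinOrderBlock

open Cfsg Cfsg.Agent.Lib.CharBasic Cfsg.Agent.Lib.BlockLocal Cfsg.Agent.Lib.BlockIdem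
open Cfsg.Agent.Lib.BlockNormal Cfsg.Agent.Lib.BlockQ Cfsg.Agent.Lib.KleinPrincipal
open Cfsg.Agent.Lib.KleinPrincipalChar Cfsg.Agent.Lib.BlkOrth
open scoped ComplexConjugate

universe u

variable {G : Type u} [Group G] [Fintype G] {P : Sylow 2 G}

/-- The hypotheses on the order and on complements give the standing setting. -/
theorem kset_of_hyps (g₀ : ℕ) (hg₀ : Odd g₀) (hG : Nat.card G = 4 * g₀)
    (hnc : ¬ ∃ N : Subgroup G, N.Normal ∧ Nat.card N = g₀) (P : Sylow 2 G) : KSet P := by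
  classical
  haveI : Fact (Nat.Prime 2) := ⟨Nat.prime_two⟩
  have hg₀0 : g₀ ≠ 0 := hg₀.pos.ne'
  have hnd : ¬ 2 ∣ g₀ := fun h2 => (Nat.not_even_iff_odd.mpr hg₀) (even_iff_two_dvd.mpr h2)
  have hfac : (Nat.card G).factorization 2 = 2 := by
    rw [hG, Nat.factorization_mul (by norm_num) hg₀0, Finsupp.add_apply,
      Nat.factorization_eq_zero_of_not_dvd hnd]
    have : (4 : ℕ) = 2 ^ 2 := by norm_num
    rw [this, Nat.factorization_pow]
    simp [Nat.prime_two.factorization_self]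
  have hPc : Nat.card (P : Subgroup G) = 4 := by
    have h3 := Sylow.card_eq_multiplicity P
    rw [hfac] at h3
    exact h3
  have hmulcard : ∀ N : Subgroup G, Subgroup.IsComplement' N (P : Subgroup G) → Nat.card N = g₀ := by
    intro N hN
    have h1 := hN.card_mul_card
    rw [hPc, hG] at h1
    omega
  have hk : IsKleinFour (P : Subgroup G) := by
    by_contra hnk
    have hne : ∃ x : (P : Subgroup G), x * x ≠ 1 := by
      by_contra hcon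
      push Not at hcon
      apply hnk
      haveI : Nontrivial (P : Subgroup G) :=
        Finite.one_lt_card_iff_nontrivial.mp (by rw [hPc]; norm_num)
      refine ⟨hPc, ?_⟩
      rw [Monoid.exponent_eq_prime_iff Nat.prime_two]
      intro g hg
      exact orderOf_eq_prime (by rw [sq]; exact hcon g) hg
    obtain ⟨x, hx⟩ := hne
    have h4 : orderOf x ∣ 2 ^ 2 := by
      have := orderOf_dvd_natCard x
      rw [hPc] at this
      exact this
    obtain ⟨k, hk2, hk⟩ := (Nat.dvd_prime_pow Nat.prime_two).1 h4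
    have hk' : k = 2 := by
      interval_cases k
      · exfalso
        apply hx
        rw [pow_zero, orderOf_eq_one_iff] at hk
        rw [hk, one_mul]
      · exfalso
        apply hx
        rw [pow_one] at hk
        rw [← sq]
        have h6 := pow_orderOf_eq_one x
        rwa [hk] at h6
      · rfl
    have hcyc : IsCyclic (P : Subgroup G) := by
      apply isCyclic_of_orderOf_eq_card x
      rw [hk, hk', hPc]
      norm_num
    have hmin : (Nat.card G).minFac = 2 := by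
      rw [Nat.minFac_eq_two_iff, hG]
      exact ⟨2 * g₀, by ring⟩
    have h5 := IsCyclic.isComplement' hmin hcyc
    exact hnc ⟨_, inferInstance, hmulcard _ h5⟩
  refine ⟨hk, ?_⟩
  intro s t hs ht
  rcases Cfsg.Agent.Lib.KleinSylow.card_classes_eq P hk with h1 | h3
  · haveI := (Nat.card_eq_one_iff_unique.1 h1).1
    have h2 : (⟨ConjClasses.mk s, s, hs, rfl⟩ : {C : ConjClasses G // ∃ t : G, orderOf t = 2 ∧ ConjClasses.mk t = C}) =
      ⟨ConjClasses.mk t, t, ht, rfl⟩ := Subsingleton.elim _ _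
    exact ConjClasses.mk_eq_mk_iff_isConj.1 (congrArg Subtype.val h2)
  · obtain ⟨N, hNn, hN⟩ := (Cfsg.Agent.Lib.KleinSylow.card_classes_eq_three_iff P hk).1 h3
    exact absurd ⟨N, hNn, hmulcard N hN⟩ hnc

open Classical in
/-- The involutions. -/
noncomputable def Inv (G : Type u) [Group G] [Fintype G] : Finset G :=
  Finset.univ.filter (fun j => orderOf j = 2)

theorem mem_Inv {j : G} : j ∈ Inv G ↔ orderOf j = 2 := by
  simp [Inv]

theorem card_Inv_mul (h : KSet P) {J : G} (hJ : orderOf J = 2) :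
    (Inv G).card * Nat.card (Subgroup.centralizer ({J} : Set G)) = Nat.card G := by
  classical
  have h1 := Cfsg.Agent.Lib.InvolutionFusion.card_conj_mul_card_centralizer J
  rw [← h1]
  congr 1
  rw [Nat.card_eq_fintype_card, Fintype.card_subtype]
  congr 1
  ext u
  simp only [mem_Inv, Finset.mem_filter, Finset.mem_univ, true_and]
  constructor
  · intro hu
    exact h.one J u hJ hu
  · intro hu
    obtain ⟨c, hc⟩ := isConj_iff.1 hu
    rw [← hc, Cfsg.Agent.Lib.BlockPrincipal.orderOf_conj_eq]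
    exact hJ

/-- The key computation: counting `j` with `j J` of even order through characters. -/
theorem four_mul_card_Nset (h : KSet P) (M : Ideal AlgInt) (hM : IsPModular 2 M) {J : G}
    (hJ : orderOf J = 2) :
    (4 : ℂ) * ((Nset J).card : ℂ) = ((Inv G).card : ℂ) *
      ∑ χ ∈ bF (principalBlock M G),
        conj ((χ : G → ℂ) J) * ((χ : G → ℂ) J * (χ : G → ℂ) J / (χ : G → ℂ) 1) := by
  classical
  have h1 : ∑ j ∈ Inv G, ∑ χ ∈ bF (principalBlock M G), (χ : G → ℂ) (j * J) * conj ((χ : G → ℂ) J) =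
      (4 : ℂ) * ((Nset J).card : ℂ) := by
    simp_rw [sum_block_eq h M hM hJ]
    have h5 : (Inv G).filter (fun j => 2 ∣ orderOf (j * J)) = Nset J := by
      ext j
      simp [mem_Inv, mem_Nset]
    rw [← Finset.sum_filter, h5, Finset.sum_const, nsmul_eq_mul, mul_comm]
  rw [← h1, Finset.sum_comm, Finset.mul_sum]
  refine Finset.sum_congr rfl fun χ _ => ?_
  rw [← Finset.sum_mul, mul_comm, mul_left_comm, ← mul_div_assoc]
  congr 1
  -- the sum over involutions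
  set f : G → ℂ := fun x => if orderOf x = 2 then 1 else 0 with hf
  have hfc : IsClassFunction G f := by
    intro g c
    simp only [hf, Cfsg.Agent.Lib.BlockPrincipal.orderOf_conj_eq]
  have h2 := Cfsg.Agent.Lib.BlockExt.sum_mul_char hfc χ J
  have hval : ∀ j ∈ Inv G, (χ : G → ℂ) j = (χ : G → ℂ) J := by
    intro j hj
    exact Cfsg.Agent.S0948.value_eq_of_conj χ (h.one j J (mem_Inv.1 hj) hJ)
  have h3 : ∑ x : G, f x * (χ : G → ℂ) x = ((Inv G).card : ℂ) * (χ : G → ℂ) J := by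
    have h4 : ∀ x : G, f x * (χ : G → ℂ) x = if x ∈ Inv G then (χ : G → ℂ) J else 0 := by
      intro x
      by_cases hx : x ∈ Inv G
      · rw [if_pos hx, hval x hx, hf]
        simp [mem_Inv.1 hx]
      · rw [if_neg hx, hf]
        simp only [mem_Inv] at hx
        simp [hx]
    simp_rw [h4]
    rw [Finset.sum_ite_mem, Finset.univ_inter, Finset.sum_const, nsmul_eq_mul]
  have h4 : ∑ x : G, f x * (χ : G → ℂ) (J * x) = ∑ j ∈ Inv G, (χ : G → ℂ) (j * J) := by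
    have h5 : ∀ x : G, f x * (χ : G → ℂ) (J * x) = if x ∈ Inv G then (χ : G → ℂ) (x * J) else 0 := by
      intro x
      have h6 : (χ : G → ℂ) (J * x) = (χ : G → ℂ) (x * J) := by
        apply Cfsg.Agent.S0948.value_eq_of_conj χ
        rw [isConj_iff]
        refine ⟨J⁻¹, ?_⟩
        group
      by_cases hx : x ∈ Inv G
      · rw [if_pos hx, h6, hf]
        simp [mem_Inv.1 hx]
      · rw [if_neg hx, hf]
        simp only [mem_Inv] at hx
        simp [hx]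
    simp_rw [h5]
    rw [Finset.sum_ite_mem, Finset.univ_inter]
  rw [← h4, h2]
  unfold omega
  rw [h3]
  ring

/-- Pure algebra: the order relation. -/
theorem int_rel {g i n t cJ cP x₁ x₂ x₃ ε₁ ε₂ ε₃ : ℤ}
    (e₁ : ε₁ * ε₁ = 1) (e₂ : ε₂ * ε₂ = 1) (e₃ : ε₃ * ε₃ = 1)
    (hR : 1 + ε₁ * x₁ + ε₂ * x₂ + ε₃ * x₃ = 0)
    (hN : 4 * n * (x₁ * x₂ * x₃) = i * (x₁ * x₂ * x₃ + ε₁ * x₂ * x₃ + ε₂ * x₁ * x₃ + ε₃ * x₁ * x₂))
    (hI : i * cJ = g) (hT : n * cP = t * cJ) (hT' : t * cP = 2 * cJ) :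
    g * ((x₁ + ε₁) * (x₂ + ε₂) * (x₃ + ε₃)) * cP ^ 2 = 8 * (x₁ * x₂ * x₃) * cJ ^ 3 := by
  have hA : (x₁ + ε₁) * (x₂ + ε₂) * (x₃ + ε₃) =
      x₁ * x₂ * x₃ + ε₁ * x₂ * x₃ + ε₂ * x₁ * x₃ + ε₃ * x₁ * x₂ := by
    linear_combination ε₁ * ε₂ * ε₃ * hR - ε₂ * ε₃ * x₁ * e₁ - ε₁ * ε₃ * x₂ * e₂ - ε₁ * ε₂ * x₃ * e₃
  rw [hA, ← hI]
  calc i * cJ * (x₁ * x₂ * x₃ + ε₁ * x₂ * x₃ + ε₂ * x₁ * x₃ + ε₃ * x₁ * x₂) * cP ^ 2
      = cJ * cP ^ 2 * (i * (x₁ * x₂ * x₃ + ε₁ * x₂ * x₃ + ε₂ * x₁ * x₃ + ε₃ * x₁ * x₂)) := by ring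
    _ = cJ * cP ^ 2 * (4 * n * (x₁ * x₂ * x₃)) := by rw [hN]
    _ = 4 * (x₁ * x₂ * x₃) * cJ * cP * (n * cP) := by ring
    _ = 4 * (x₁ * x₂ * x₃) * cJ * cP * (t * cJ) := by rw [hT]
    _ = 4 * (x₁ * x₂ * x₃) * cJ ^ 2 * (t * cP) := by ring
    _ = 4 * (x₁ * x₂ * x₃) * cJ ^ 2 * (2 * cJ) := by rw [hT']
    _ = _ := by ring

section Block

variable {M : Ideal AlgInt} {χ₁ χ₂ χ₃ : IrrCharacter G}

theorem bF_eq (hB : principalBlock M G = {χ : IrrCharacter G |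
      (χ : G → ℂ) = (fun _ => 1) ∨ χ = χ₁ ∨ χ = χ₂ ∨ χ = χ₃}) :
    bF (principalBlock M G) = {irrOne G, χ₁, χ₂, χ₃} := by
  ext χ
  rw [mem_bF, hB]
  simp only [Set.mem_ofPred_eq, Finset.mem_insert, Finset.mem_singleton]
  constructor
  · rintro (h1 | h1 | h1 | h1)
    · exact Or.inl (Subtype.ext h1)
    · exact Or.inr (Or.inl h1)
    · exact Or.inr (Or.inr (Or.inl h1))
    · exact Or.inr (Or.inr (Or.inr h1))
  · rintro (h1 | h1 | h1 | h1)
    · left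
      rw [h1]
      rfl
    · exact Or.inr (Or.inl h1)
    · exact Or.inr (Or.inr (Or.inl h1))
    · exact Or.inr (Or.inr (Or.inr h1))

theorem sum_bF (hB : principalBlock M G = {χ : IrrCharacter G |
      (χ : G → ℂ) = (fun _ => 1) ∨ χ = χ₁ ∨ χ = χ₂ ∨ χ = χ₃})
    (hdist : (χ₁ : G → ℂ) ≠ (fun _ => 1) ∧ (χ₂ : G → ℂ) ≠ (fun _ => 1) ∧ (χ₃ : G → ℂ) ≠ (fun _ => 1) ∧
      χ₁ ≠ χ₂ ∧ χ₁ ≠ χ₃ ∧ χ₂ ≠ χ₃) (f : IrrCharacter G → ℂ) :
    ∑ χ ∈ bF (principalBlock M G), f χ = f (irrOne G) + f χ₁ + f χ₂ + f χ₃ := by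
  classical
  obtain ⟨h1, h2, h3, h12, h13, h23⟩ := hdist
  have he1 : irrOne G ≠ χ₁ := fun h => h1 (by rw [← h]; rfl)
  have he2 : irrOne G ≠ χ₂ := fun h => h2 (by rw [← h]; rfl)
  have he3 : irrOne G ≠ χ₃ := fun h => h3 (by rw [← h]; rfl)
  rw [bF_eq hB, Finset.sum_insert (by simp [he1, he2, he3]), Finset.sum_insert (by simp [h12, h13]),
    Finset.sum_insert (by simp [h23]), Finset.sum_singleton]
  ring

/-- The relations between degrees, signs and orders. -/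
theorem rel_main (h : KSet P) (hM : IsPModular 2 M) {J : G} (hJ : orderOf J = 2)
    (hB : principalBlock M G = {χ : IrrCharacter G |
      (χ : G → ℂ) = (fun _ => 1) ∨ χ = χ₁ ∨ χ = χ₂ ∨ χ = χ₃})
    (hdist : (χ₁ : G → ℂ) ≠ (fun _ => 1) ∧ (χ₂ : G → ℂ) ≠ (fun _ => 1) ∧ (χ₃ : G → ℂ) ≠ (fun _ => 1) ∧
      χ₁ ≠ χ₂ ∧ χ₁ ≠ χ₃ ∧ χ₂ ≠ χ₃) {ε₁ ε₂ ε₃ : ℤ}
    (hε : (ε₁ = 1 ∨ ε₁ = -1) ∧ (ε₂ = 1 ∨ ε₂ = -1) ∧ (ε₃ = 1 ∨ ε₃ = -1))
    (hval : (χ₁ : G → ℂ) J = ε₁ ∧ (χ₂ : G → ℂ) J = ε₂ ∧ (χ₃ : G → ℂ) J = ε₃) :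
    (1 + ε₁ * (charDegree (χ₁ : G → ℂ) : ℤ) + ε₂ * (charDegree (χ₂ : G → ℂ) : ℤ) +
        ε₃ * (charDegree (χ₃ : G → ℂ) : ℤ) = 0) ∧
    (Nat.card G : ℤ) * (((charDegree (χ₁ : G → ℂ) : ℤ) + ε₁) * ((charDegree (χ₂ : G → ℂ) : ℤ) + ε₂) *
        ((charDegree (χ₃ : G → ℂ) : ℤ) + ε₃)) *
        (Nat.card (Subgroup.centralizer ((P : Subgroup G) : Set G)) : ℤ) ^ 2 =
      8 * ((charDegree (χ₁ : G → ℂ) : ℤ) * (charDegree (χ₂ : G → ℂ) : ℤ) * (charDegree (χ₃ : G → ℂ) : ℤ)) *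
        (Nat.card (Subgroup.centralizer ({J} : Set G)) : ℤ) ^ 3 := by
  classical
  have hdeg : ∀ ζ : IrrCharacter G, (ζ : G → ℂ) 1 = (charDegree (ζ : G → ℂ) : ℂ) := fun ζ =>
    Cfsg.Agent.Lib.CharKernel.one_eq_charDegree (IsIrrCharacter.isCharacter ζ.2)
  have hdne : ∀ ζ : IrrCharacter G, (charDegree (ζ : G → ℂ) : ℂ) ≠ 0 := fun ζ => by
    exact_mod_cast Cfsg.Agent.Lib.CharKernel.charDegree_ne_zero ζ.2
  have heps : ∀ e : ℤ, (e = 1 ∨ e = -1) → e * e = 1 := by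
    rintro e (rfl | rfl) <;> norm_num
  obtain ⟨he1, he2, he3⟩ := hε
  have e₁ := heps _ he1
  have e₂ := heps _ he2
  have e₃ := heps _ he3
  have e₁c : (ε₁ : ℂ) * ε₁ = 1 := by exact_mod_cast e₁
  have e₂c : (ε₂ : ℂ) * ε₂ = 1 := by exact_mod_cast e₂
  have e₃c : (ε₃ : ℂ) * ε₃ = 1 := by exact_mod_cast e₃
  have hconj : ∀ e : ℤ, conj (e : ℂ) = e := fun e => map_intCast _ e
  have hJ2 : 2 ∣ orderOf J := by rw [hJ]
  obtain ⟨v1, v2, v3⟩ := hval
  have hR : 1 + ε₁ * (charDegree (χ₁ : G → ℂ) : ℤ) + ε₂ * (charDegree (χ₂ : G → ℂ) : ℤ) +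
        ε₃ * (charDegree (χ₃ : G → ℂ) : ℤ) = 0 := by
    have h1 := sum_reg_sing M hM (g := (1 : G)) (g' := J) (by simp) hJ2
    rw [sum_bF hB hdist] at h1
    simp only [hdeg, v1, v2, v3, hconj] at h1
    have h2 : (irrOne G : G → ℂ) 1 = 1 := rfl
    have h3 : (irrOne G : G → ℂ) J = 1 := rfl
    simp only [hdeg] at h2
    rw [h2, h3, map_one, mul_one] at h1
    have h4 : ((1 + ε₁ * (charDegree (χ₁ : G → ℂ) : ℤ) + ε₂ * (charDegree (χ₂ : G → ℂ) : ℤ) +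
        ε₃ * (charDegree (χ₃ : G → ℂ) : ℤ) : ℤ) : ℂ) = 0 := by
      push_cast
      rw [← h1]
      ring
    exact_mod_cast h4
  refine ⟨hR, ?_⟩
  have hN := four_mul_card_Nset h M hM hJ
  rw [sum_bF hB hdist] at hN
  simp only [hdeg, v1, v2, v3, hconj] at hN
  have h2 : (irrOne G : G → ℂ) 1 = 1 := rfl
  have h3 : (irrOne G : G → ℂ) J = 1 := rfl
  simp only [hdeg] at h2
  rw [h2, h3, map_one] at hN
  have hN' : (4 : ℤ) * ((Nset J).card : ℤ) * ((charDegree (χ₁ : G → ℂ) : ℤ) * (charDegree (χ₂ : G → ℂ) : ℤ) *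
        (charDegree (χ₃ : G → ℂ) : ℤ)) =
      ((Inv G).card : ℤ) * ((charDegree (χ₁ : G → ℂ) : ℤ) * (charDegree (χ₂ : G → ℂ) : ℤ) *
        (charDegree (χ₃ : G → ℂ) : ℤ) + ε₁ * (charDegree (χ₂ : G → ℂ) : ℤ) * (charDegree (χ₃ : G → ℂ) : ℤ) +
        ε₂ * (charDegree (χ₁ : G → ℂ) : ℤ) * (charDegree (χ₃ : G → ℂ) : ℤ) +
        ε₃ * (charDegree (χ₁ : G → ℂ) : ℤ) * (charDegree (χ₂ : G → ℂ) : ℤ)) := by
    have h5 := hdne χ₁
    have h6 := hdne χ₂
    have h7 := hdne χ₃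
    have h8 : ((4 : ℂ) * ((Nset J).card : ℂ)) * ((charDegree (χ₁ : G → ℂ) : ℂ) * (charDegree (χ₂ : G → ℂ) : ℂ) *
        (charDegree (χ₃ : G → ℂ) : ℂ)) =
      ((Inv G).card : ℂ) * ((charDegree (χ₁ : G → ℂ) : ℂ) * (charDegree (χ₂ : G → ℂ) : ℂ) *
        (charDegree (χ₃ : G → ℂ) : ℂ) + ε₁ * (charDegree (χ₂ : G → ℂ) : ℂ) * (charDegree (χ₃ : G → ℂ) : ℂ) +
        ε₂ * (charDegree (χ₁ : G → ℂ) : ℂ) * (charDegree (χ₃ : G → ℂ) : ℂ) +
        ε₃ * (charDegree (χ₁ : G → ℂ) : ℂ) * (charDegree (χ₂ : G → ℂ) : ℂ)) := by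
      rw [hN]
      simp only [e₁c, e₂c, e₃c]
      field_simp
    exact_mod_cast h8
  have hI := card_Inv_mul h hJ
  have hT := h.card_Nset hJ
  have hT' := h.card_Tset hJ
  exact int_rel e₁ e₂ e₃ hR hN' (by exact_mod_cast hI) (t := ((Tset J).card : ℤ))
    (by exact_mod_cast hT) (by exact_mod_cast hT')

end Block

end Cfsg.Agent.Lib.KleinOrderBlock
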