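import Mathlib
import Cfsg.Agent.Lib.BrolineGT

/-!
# Four-groups acting on a group with commuting involutions: the 2-group part

Structure of a 2-group `Q` with a normal subgroup `T` whose involutions are restricted by
a "no small orbit" condition: either `T` has at most one involution, or there is an element
`w` of order 4 with `⟨w⟩` normal, with unique involution in `C_T(w)`.
-/

set_option autoImplicit false
set_option linter.style.haveILetI false

namespace Cfsg.Agent.Lib.KleinRankOne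

section TwoGroup

variable {Q : Type*} [Group Q] [Finite Q]

/-- A non-trivial subgroup of a finite 2-group contains an element of order 2. -/
theorem exists_order_two (hQ : IsPGroup 2 Q) (K : Subgroup Q) (hK : K ≠ ⊥) :
    ∃ x ∈ K, orderOf x = 2 := by
  obtain ⟨x, hxK, hx1⟩ := (Subgroup.bot_or_exists_ne_one K).resolve_left hK
  obtain ⟨k, hk⟩ := (IsPGroup.iff_orderOf.mp hQ) x
  have hk0 : k ≠ 0 := by
    rintro rfl
    exact hx1 (orderOf_eq_one_iff.mp (by simpa using hk))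
  have hd : 2 ∣ orderOf x := by rw [hk]; exact dvd_pow_self 2 hk0
  refine ⟨x ^ (orderOf x / 2), K.pow_mem hxK _, ?_⟩
  exact orderOf_pow_orderOf_div (orderOf_pos x).ne' hd

/-- One step up a central series relative to `N` inside `P`. -/
theorem exists_step (hQ : IsPGroup 2 Q) (N P : Subgroup Q) [hN : N.Normal] [hP : P.Normal]
    (h : ¬ P ≤ N) :
    ∃ c ∈ P, c ∉ N ∧ c ^ 2 ∈ N ∧ ∀ q : Q, q * c * q⁻¹ * c⁻¹ ∈ N := by
  classical
  let π : Q →* Q ⧸ N := QuotientGroup.mk' N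
  have hπ : Function.Surjective π := QuotientGroup.mk'_surjective N
  have hker : ∀ x, π x = 1 ↔ x ∈ N := fun x => QuotientGroup.eq_one_iff x
  have hQ' : IsPGroup 2 (Q ⧸ N) := hQ.to_quotient N
  haveI : Fact (Nat.Prime 2) := ⟨Nat.prime_two⟩
  haveI : Group.IsNilpotent (Q ⧸ N) := hQ'.isNilpotent
  let M : Subgroup (Q ⧸ N) := P.map π
  haveI hMn : M.Normal := hP.map π hπ
  have hMne : M ≠ ⊥ := by
    intro hb
    apply h
    intro x hx
    have : π x ∈ M := ⟨x, hx, rfl⟩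
    rw [hb, Subgroup.mem_bot] at this
    exact (hker x).mp this
  have hne := Cfsg.Agent.Lib.BrolineGT.inf_center_ne_bot M hMne
  obtain ⟨m, hm, hm2⟩ := exists_order_two hQ' _ hne
  obtain ⟨c, hc, rfl⟩ := hm.1
  refine ⟨c, hc, ?_, ?_, ?_⟩
  · intro hcN
    have : π c = 1 := (hker c).mpr hcN
    rw [this, orderOf_one] at hm2
    omega
  · rw [← hker, map_pow, ← hm2]
    exact pow_orderOf_eq_one _
  · intro q
    rw [← hker]
    have hcen := Subgroup.mem_center_iff.mp hm.2 (π q)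
    simp only [map_mul, map_inv]
    rw [hcen]
    group

/-- An element of a cyclic group generated by an element of square one. -/
theorem eq_of_mem_zpowers_of_sq {X : Type*} [Group X] {a y : X} (ha : a ^ 2 = 1)
    (hy : y ∈ Subgroup.zpowers a) : y = 1 ∨ y = a := by
  obtain ⟨k, rfl⟩ := Subgroup.mem_zpowers_iff.mp hy
  have ha' : a ^ (2 : ℤ) = 1 := by exact_mod_cast ha
  rcases Int.even_or_odd' k with ⟨m, rfl | rfl⟩
  · left
    rw [zpow_mul, ha', one_zpow]
  · right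
    rw [zpow_add, zpow_mul, ha', one_zpow, one_mul, zpow_one]

/-- If the quotient by `N₂` has no room for a `Q`-invariant subgroup below `Q₀` avoiding `x`, then
all the `Q`-conjugates of `x` are congruent to `x` modulo `N₂`. -/
theorem step_max (hQ : IsPGroup 2 Q) (N₂ Q₀ : Subgroup Q) [hN₂ : N₂.Normal] [hQ₀ : Q₀.Normal]
    (x : Q) (hxQ : x ∈ Q₀) (hxN : x ∉ N₂) (hle : N₂ ≤ Q₀)
    (hmax : ∀ K : Subgroup Q, K.Normal → N₂ ≤ K → K ≤ Q₀ → x ∉ K → K ≤ N₂) (q : Q) :
    x⁻¹ * (q * x * q⁻¹) ∈ N₂ := by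
  classical
  obtain ⟨c, hcQ, hcN, hc2, hcq⟩ := exists_step hQ N₂ Q₀ (fun h => hxN (h hxQ))
  let π : Q →* Q ⧸ N₂ := QuotientGroup.mk' N₂
  have hπs : Function.Surjective π := QuotientGroup.mk'_surjective N₂
  have hker : ∀ y, π y = 1 ↔ y ∈ N₂ := fun y => QuotientGroup.eq_one_iff y
  have hc2' : (π c) ^ 2 = 1 := by rw [← map_pow]; exact (hker _).mpr hc2
  have hcen : ∀ y, π y * π c = π c * π y := by
    intro y
    have h1 := (hker _).mpr (hcq y)
    simp only [map_mul, map_inv] at h1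
    have h2 : π y * π c * (π y)⁻¹ = π c := by
      have := mul_inv_eq_one.mp h1
      exact this
    rw [mul_inv_eq_iff_eq_mul] at h2
    exact h2
  let K : Subgroup Q := (Subgroup.zpowers (π c)).comap π
  have hKmem : ∀ y, y ∈ K ↔ π y = 1 ∨ π y = π c := by
    intro y
    constructor
    · intro hy
      exact eq_of_mem_zpowers_of_sq hc2' hy
    · rintro (h | h)
      · show π y ∈ Subgroup.zpowers (π c)
        rw [h]; exact Subgroup.one_mem _
      · show π y ∈ Subgroup.zpowers (π c)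
        rw [h]; exact Subgroup.mem_zpowers _
  have hKn : K.Normal := by
    constructor
    intro y hy g
    rw [hKmem] at hy ⊢
    rcases hy with h | h
    · left
      simp [h]
    · right
      simp only [map_mul, map_inv, h]
      rw [hcen g]
      group
  have hNK : N₂ ≤ K := fun y hy => (hKmem y).mpr (Or.inl ((hker y).mpr hy))
  have hKQ : K ≤ Q₀ := by
    intro y hy
    rcases (hKmem y).mp hy with h | h
    · exact hle ((hker y).mp h)
    · have h1 : c⁻¹ * y ∈ N₂ := by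
        rw [← hker]; simp [h]
      have := Q₀.mul_mem hcQ (hle h1)
      simpa using this
  have hcK : c ∈ K := (hKmem c).mpr (Or.inr rfl)
  have hxK : x ∈ K := by
    by_contra hxK
    exact hcN (hmax K hKn hNK hKQ hxK hcK)
  have hπx : π x = π c := by
    rcases (hKmem x).mp hxK with h | h
    · exact absurd ((hker x).mp h) hxN
    · exact h
  have hxq : q * x * q⁻¹ ∈ K := hKn.conj_mem x hxK q
  have hxqN : q * x * q⁻¹ ∉ N₂ := by
    intro h
    apply hxN
    have := hN₂.conj_mem _ h q⁻¹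
    simpa [mul_assoc] using this
  have hπxq : π (q * x * q⁻¹) = π c := by
    rcases (hKmem _).mp hxq with h | h
    · exact absurd ((hker _).mp h) hxqN
    · exact h
  rw [← hker, map_mul, map_inv, hπx, hπxq]
  group

/-- If all involutions of `M` are `1, w²` for central `w` of order 4, any element of `M` of order
greater than 2 has `w` among its powers. -/
theorem w_mem_zpowers (hQ : IsPGroup 2 Q) (M : Subgroup Q) (w n : Q) (hwM : w ∈ M)
    (hw4 : orderOf w = 4) (hcen : ∀ x ∈ M, x * w = w * x)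
    (hinv : ∀ x ∈ M, x ^ 2 = 1 → x = 1 ∨ x = w ^ 2) (hn : n ∈ M) (hn2 : n ^ 2 ≠ 1) :
    w ∈ Subgroup.zpowers n := by
  classical
  obtain ⟨k, hk⟩ := (IsPGroup.iff_orderOf.mp hQ) n
  have hk2 : 2 ≤ k := by
    by_contra hlt
    apply hn2
    have : orderOf n ∣ 2 := by
      rw [hk]
      interval_cases k <;> simp
    exact orderOf_dvd_iff_pow_eq_one.mp this
  have hd : 4 ∣ orderOf n := by
    rw [hk]
    obtain ⟨j, rfl⟩ := Nat.exists_eq_add_of_le hk2
    exact ⟨2 ^ j, by rw [pow_add]; norm_num⟩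
  set n₁ := n ^ (orderOf n / 4) with hn₁
  have h1 : orderOf n₁ = 4 := orderOf_pow_orderOf_div (orderOf_pos n).ne' hd
  have hn₁M : n₁ ∈ M := M.pow_mem hn _
  have h2 : n₁ ^ 4 = 1 := by rw [← h1]; exact pow_orderOf_eq_one _
  have h3 : n₁ ^ 2 ≠ 1 := by
    intro h
    have := orderOf_dvd_of_pow_eq_one h
    rw [h1] at this
    omega
  have hw4' : w ^ 4 = 1 := by rw [← hw4]; exact pow_orderOf_eq_one _
  have h4 : n₁ ^ 2 = w ^ 2 := by
    rcases hinv (n₁ ^ 2) (M.pow_mem hn₁M 2) (by rw [← pow_mul]; exact h2) with h | h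
    · exact absurd h h3
    · exact h
  have hcomm : Commute n₁ w := hcen _ hn₁M
  have h5 : (n₁ * w⁻¹) ^ 2 = 1 := by
    rw [(hcomm.inv_right).mul_pow, h4, inv_pow, mul_inv_cancel]
  have hm := M.mul_mem hn₁M (M.inv_mem hwM)
  have hsub : Subgroup.zpowers n₁ ≤ Subgroup.zpowers n :=
    (Subgroup.zpowers_le).mpr (Subgroup.npow_mem_zpowers n _)
  apply hsub
  rcases hinv _ hm h5 with h | h
  · have : n₁ = w := by rwa [mul_inv_eq_one] at h
    rw [this]; exact Subgroup.mem_zpowers _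
  · have h6 : n₁ = w ^ 3 := by
      rw [mul_inv_eq_iff_eq_mul] at h
      rw [h, ← pow_succ]
    have h7 : w = n₁ ^ 3 := by
      rw [h6, ← pow_mul]
      calc w = w ^ 1 * (w ^ 4) ^ 2 := by rw [hw4']; simp
        _ = w ^ (3 * 3) := by rw [← pow_mul, ← pow_add]
    rw [h7]
    exact Subgroup.npow_mem_zpowers _ _

/-- Involutions of a cyclic group of order 4. -/
theorem eq_of_mem_zpowers_of_order_four {X : Type*} [Group X] {w x : X} (hw4 : orderOf w = 4)
    (hx : x ∈ Subgroup.zpowers w) (hx2 : x ^ 2 = 1) : x = 1 ∨ x = w ^ 2 := by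
  obtain ⟨k, rfl⟩ := Subgroup.mem_zpowers_iff.mp hx
  have h1 : (w ^ k) ^ (2 : ℤ) = 1 := by exact_mod_cast hx2
  rw [← zpow_mul] at h1
  have h2 := orderOf_dvd_iff_zpow_eq_one.mpr h1
  rw [hw4] at h2
  have hw4' : w ^ (4 : ℤ) = 1 := by
    have : w ^ 4 = 1 := by rw [← hw4]; exact pow_orderOf_eq_one _
    exact_mod_cast this
  have h3 : (2 : ℤ) ∣ k := by omega
  obtain ⟨j, rfl⟩ := h3
  rcases Int.even_or_odd' j with ⟨m, rfl | rfl⟩
  · left
    rw [show (2 : ℤ) * (2 * m) = 4 * m by ring, zpow_mul, hw4', one_zpow]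
  · right
    rw [show (2 : ℤ) * (2 * m + 1) = 4 * m + 2 by ring, zpow_add, zpow_mul, hw4', one_zpow,
      one_mul]
    exact_mod_cast rfl

/-- Uniqueness of the involution in a normal subgroup centralizing a quasi-normal element of order 4. -/
theorem unique_inv (hQ : IsPGroup 2 Q) (N : Subgroup Q) [hN : N.Normal] (w : Q) (hwN : w ∈ N)
    (hw4 : orderOf w = 4) (hcen : ∀ x ∈ N, x * w = w * x)
    (hnorm : ∀ q : Q, q * w * q⁻¹ = w ∨ q * w * q⁻¹ = w⁻¹)
    (hNoE : ∀ x ∈ N, x ^ 2 = 1 → x ≠ 1 → x ≠ w ^ 2 →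
      (∀ q : Q, q * x * q⁻¹ = x ∨ q * x * q⁻¹ = x * w ^ 2) → False) :
    ∀ x ∈ N, x ^ 2 = 1 → x = 1 ∨ x = w ^ 2 := by
  classical
  have hw2 : w ≠ w⁻¹ := by
    intro h
    have h1 : w ^ 2 = 1 := by
      rw [pow_two]
      nth_rewrite 1 [h]
      simp
    have := orderOf_dvd_of_pow_eq_one h1
    rw [hw4] at this
    omega
  let W : Subgroup Q := Subgroup.zpowers w
  have hWn : W.Normal := by
    constructor
    intro y hy g
    obtain ⟨k, rfl⟩ := Subgroup.mem_zpowers_iff.mp hy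
    have : g * w ^ k * g⁻¹ = (g * w * g⁻¹) ^ k := conj_zpow.symm
    rw [this]
    rcases hnorm g with h | h <;> rw [h]
    · exact Subgroup.zpow_mem_zpowers _ _
    · exact W.zpow_mem (W.inv_mem (Subgroup.mem_zpowers w)) _
  have hWN : W ≤ N := (Subgroup.zpowers_le).mpr hwN
  have key : ∀ m : ℕ, ∀ Q₀ : Subgroup Q, Q₀.Normal → W ≤ Q₀ → Q₀ ≤ N → Nat.card Q₀ = m →
      ∀ x ∈ Q₀, x ^ 2 = 1 → x = 1 ∨ x = w ^ 2 := by
    intro m
    induction m using Nat.strong_induction_on with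
    | _ m ih =>
      intro Q₀ hQ₀n hWQ hQN hcard x hxQ hx2
      by_contra hbad
      push Not at hbad
      obtain ⟨hx1, hxw⟩ := hbad
      have hxW : x ∉ W := fun h =>
        (eq_of_mem_zpowers_of_order_four hw4 h hx2).elim hx1 hxw
      let 𝒮 : Set (Subgroup Q) := {K | K.Normal ∧ W ≤ K ∧ K ≤ Q₀ ∧ x ∉ K}
      have h𝒮 : W ∈ 𝒮 := ⟨hWn, le_rfl, hWQ, hxW⟩
      obtain ⟨N₂, -, hmaxN⟩ := (Set.toFinite 𝒮).exists_le_maximal h𝒮
      obtain ⟨hN₂n, hWN₂, hN₂Q, hxN₂⟩ := hmaxN.prop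
      have hlt : Nat.card N₂ < m := by
        rw [← hcard]
        by_contra hge
        have heq := Subgroup.eq_of_le_of_card_ge hN₂Q (by omega)
        exact hxN₂ (heq ▸ hxQ)
      have hN₂inv := ih _ hlt N₂ hN₂n hWN₂ (hN₂Q.trans hQN) rfl
      have hxx : x * x = 1 := by rw [← pow_two]; exact hx2
      have hxi : x⁻¹ = x := inv_eq_of_mul_eq_one_left hxx
      apply hNoE x (hQN hxQ) hx2 hx1 hxw
      intro q
      have hstep := step_max hQ N₂ Q₀ x hxQ hxN₂ hN₂Q (fun K hKn hNK hKQ hxK => by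
        exact hmaxN.le_of_ge ⟨hKn, hWN₂.trans hNK, hKQ, hxK⟩ hNK) q
      set x' := q * x * q⁻¹ with hx'
      have hx'2 : x' * x' = 1 := by
        rw [hx']
        calc q * x * q⁻¹ * (q * x * q⁻¹) = q * (x * x) * q⁻¹ := by group
          _ = 1 := by rw [hxx]; group
      have hx'i : x'⁻¹ = x' := inv_eq_of_mul_eq_one_left hx'2
      set n := x⁻¹ * x' with hn
      have hconj : x * n * x⁻¹ = n⁻¹ := by
        rw [hn, mul_inv_rev, inv_inv, hx'i, hxi]
        calc x * (x * x') * x = (x * x) * x' * x := by group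
          _ = x' * x := by rw [hxx, one_mul]
      by_cases hn2 : n ^ 2 = 1
      · rcases hN₂inv n hstep hn2 with h | h
        · left
          have : x' = x := by
            rw [hn, inv_mul_eq_one] at h
            exact h.symm
          exact this
        · right
          rw [← h, hn]
          group
      · exfalso
        have hwz := w_mem_zpowers hQ N₂ w n (hWN₂ (Subgroup.mem_zpowers w)) hw4
          (fun y hy => hcen y (hQN (hN₂Q hy))) hN₂inv hstep hn2
        obtain ⟨k, hk⟩ := Subgroup.mem_zpowers_iff.mp hwz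
        have h1 : x * w * x⁻¹ = w⁻¹ := by
          rw [← hk]
          have : x * n ^ k * x⁻¹ = (x * n * x⁻¹) ^ k := conj_zpow.symm
          rw [this, hconj, inv_zpow]
        have h2 : x * w * x⁻¹ = w := by
          rw [hcen x (hQN hxQ)]
          group
        exact hw2 (h2.symm.trans h1)
  exact key _ N hN hWN le_rfl rfl

/-- The element `w` of order 4. -/
theorem exists_w (hQ : IsPGroup 2 Q) (T : Subgroup Q) [hT : T.Normal]
    (hNoE : ∀ z ∈ T, ∀ x ∈ T, z ^ 2 = 1 → x ^ 2 = 1 → z ≠ 1 → x ≠ 1 → x ≠ z →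
      (∀ q : Q, q * z * q⁻¹ = z ∧ (q * x * q⁻¹ = x ∨ q * x * q⁻¹ = x * z)) → False)
    (a b : Q) (ha : a ∈ T) (hb : b ∈ T) (ha1 : a ≠ 1) (hb1 : b ≠ 1) (hne : a ≠ b) :
    ∃ w ∈ T, orderOf w = 4 ∧ (∀ q : Q, q * w * q⁻¹ = w ∨ q * w * q⁻¹ = w⁻¹) ∧
      (∀ x ∈ T, x ^ 2 = 1 → x * w = w * x → x = 1 ∨ x = w ^ 2) ∧
      (∀ n ∈ T, n * w = w * n → n ^ 2 ≠ 1 → w ∈ Subgroup.zpowers n) := by
  classical
  haveI : Fact (Nat.Prime 2) := ⟨Nat.prime_two⟩
  haveI : Group.IsNilpotent Q := hQ.isNilpotent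
  have hTne : T ≠ ⊥ := by
    intro h
    rw [h, Subgroup.mem_bot] at ha
    exact ha1 ha
  obtain ⟨z, hz, hz2⟩ := exists_order_two hQ _ (Cfsg.Agent.Lib.BrolineGT.inf_center_ne_bot T hTne)
  have hzT : z ∈ T := hz.1
  have hzc : ∀ q : Q, q * z = z * q := fun q => Subgroup.mem_center_iff.mp hz.2 q
  have hzz : z ^ 2 = 1 := by rw [← hz2]; exact pow_orderOf_eq_one _
  have hz1 : z ≠ 1 := by
    rintro rfl
    simp at hz2
  let Z : Subgroup Q := Subgroup.zpowers z
  have hZmem : ∀ y, y ∈ Z ↔ y = 1 ∨ y = z := by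
    intro y
    constructor
    · exact eq_of_mem_zpowers_of_sq hzz
    · rintro (rfl | rfl)
      · exact Z.one_mem
      · exact Subgroup.mem_zpowers _
  have hZn : Z.Normal := by
    constructor
    intro y hy g
    rw [hZmem] at hy ⊢
    rcases hy with rfl | rfl
    · left; group
    · right; rw [hzc g]; group
  have hTZ : ¬ T ≤ Z := by
    intro h
    have h1 : ∀ y ∈ T, y ≠ 1 → y = z := fun y hy hy1 =>
      ((hZmem y).mp (h hy)).resolve_left hy1
    exact hne ((h1 a ha ha1).trans (h1 b hb hb1).symm)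
  obtain ⟨c, hcT, hcZ, hc2, hcq⟩ := exists_step hQ Z T hTZ
  have hc1 : c ≠ 1 := fun h => hcZ (h ▸ Z.one_mem)
  have hcz : c ≠ z := fun h => hcZ (h ▸ Subgroup.mem_zpowers z)
  have hconj : ∀ q : Q, q * c * q⁻¹ = c ∨ q * c * q⁻¹ = c * z := by
    intro q
    rcases (hZmem _).mp (hcq q) with h | h
    · left; exact mul_inv_eq_one.mp h
    · right
      rw [mul_inv_eq_iff_eq_mul] at h
      rw [h, hzc]
  have hc2z : c ^ 2 = z := by
    rcases (hZmem _).mp hc2 with h | h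
    · exfalso
      exact hNoE z hzT c hcT hzz h hz1 hc1 hcz (fun q => ⟨by rw [hzc]; group, hconj q⟩)
    · exact h
  have hc4 : c ^ 4 = 1 := by
    rw [show 4 = 2 * 2 by norm_num, pow_mul, hc2z, hzz]
  have hc4' : orderOf c = 4 := by
    have h1 : orderOf c ∣ 2 ^ 2 := orderOf_dvd_of_pow_eq_one (by simpa using hc4)
    have h2 : ¬ c ^ 2 ^ 1 = 1 := by
      rw [pow_one, hc2z]; exact hz1
    simpa using orderOf_eq_prime_pow h2 (by simpa using hc4)
  have hczi : c * z = c⁻¹ := by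
    rw [← hc2z, eq_inv_iff_mul_eq_one]
    calc c * c ^ 2 * c = c ^ 4 := by group
      _ = 1 := hc4
  have hnorm : ∀ q : Q, q * c * q⁻¹ = c ∨ q * c * q⁻¹ = c⁻¹ := by
    intro q
    rcases hconj q with h | h
    · exact Or.inl h
    · exact Or.inr (h.trans hczi)
  let N : Subgroup Q := T ⊓ Subgroup.centralizer {c}
  have hNmem : ∀ y, y ∈ N ↔ y ∈ T ∧ y * c = c * y := by
    intro y
    show y ∈ T ⊓ Subgroup.centralizer {c} ↔ _
    rw [Subgroup.mem_inf, Subgroup.mem_centralizer_singleton_iff]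
  have hNn : N.Normal := by
    constructor
    intro y hy g
    rw [hNmem] at hy ⊢
    refine ⟨hT.conj_mem y hy.1 g, ?_⟩
    have hy' : y * (g⁻¹ * c * g) = (g⁻¹ * c * g) * y := by
      have h := hnorm g⁻¹
      rw [inv_inv] at h
      rcases h with h | h
      · rw [h]; exact hy.2
      · rw [h]
        calc y * c⁻¹ = c⁻¹ * (c * y) * c⁻¹ := by group
          _ = c⁻¹ * (y * c) * c⁻¹ := by rw [hy.2]
          _ = c⁻¹ * y := by group
    calc g * y * g⁻¹ * c = g * (y * (g⁻¹ * c * g)) * g⁻¹ := by group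
      _ = g * ((g⁻¹ * c * g) * y) * g⁻¹ := by rw [hy']
      _ = c * (g * y * g⁻¹) := by group
  have hcN : c ∈ N := (hNmem c).mpr ⟨hcT, rfl⟩
  have hcen : ∀ x ∈ N, x * c = c * x := fun x hx => ((hNmem x).mp hx).2
  have hz' : c ^ 2 = z := hc2z
  have huniq := unique_inv hQ N c hcN hc4' hcen hnorm (by
    intro x hxN hx2 hx1 hxz hq
    rw [hc2z] at hxz hq
    exact hNoE z hzT x ((hNmem x).mp hxN).1 hzz hx2 hz1 hx1 hxz
      (fun q => ⟨by rw [hzc]; group, hq q⟩))
  refine ⟨c, hcT, hc4', hnorm, ?_, ?_⟩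
  · intro x hx hx2 hxc
    exact huniq x ((hNmem x).mpr ⟨hx, hxc⟩) hx2
  · intro n hn hnc hn2
    exact w_mem_zpowers hQ N c n hcN hc4' hcen huniq ((hNmem n).mpr ⟨hn, hnc⟩) hn2

end TwoGroup

section Relative

variable {G : Type*} [Group G] [Finite G]

/-- The element `w` for subgroups of an ambient group. -/
theorem exists_w' (S T : Subgroup G) (hS : IsPGroup 2 S) (hTS : T ≤ S)
    (hTn : ∀ q ∈ S, ∀ t ∈ T, q * t * q⁻¹ ∈ T)
    (hNoE : ∀ z ∈ T, ∀ x ∈ T, z ^ 2 = 1 → x ^ 2 = 1 → z ≠ 1 → x ≠ 1 → x ≠ z →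
      (∀ q ∈ S, q * z * q⁻¹ = z ∧ (q * x * q⁻¹ = x ∨ q * x * q⁻¹ = x * z)) → False)
    (a b : G) (ha : a ∈ T) (hb : b ∈ T) (ha1 : a ≠ 1) (hb1 : b ≠ 1) (hne : a ≠ b) :
    ∃ w ∈ T, orderOf w = 4 ∧ (∀ q ∈ S, q * w * q⁻¹ = w ∨ q * w * q⁻¹ = w⁻¹) ∧
      (∀ x ∈ T, x ^ 2 = 1 → x * w = w * x → x = 1 ∨ x = w ^ 2) ∧
      (∀ n ∈ T, n * w = w * n → n ^ 2 ≠ 1 → w ∈ Subgroup.zpowers n) := by
  classical
  let T' : Subgroup S := T.subgroupOf S
  have hT'mem : ∀ x : S, x ∈ T' ↔ (x : G) ∈ T := fun x => Subgroup.mem_subgroupOf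
  haveI hT'n : T'.Normal := by
    constructor
    intro y hy g
    rw [hT'mem] at hy ⊢
    exact hTn g g.2 y hy
  have hne' : (⟨a, hTS ha⟩ : S) ≠ ⟨b, hTS hb⟩ := fun h => hne (congrArg Subtype.val h)
  have hone : ∀ x : S, (x : G) ≠ 1 → x ≠ 1 := fun x hx h => hx (by rw [h]; rfl)
  obtain ⟨w, hwT, hw4, hnorm, hinv, hn⟩ := exists_w hS T' (by
    intro z hz x hx hz2 hx2 hz1 hx1 hxz hq
    refine hNoE z ((hT'mem z).mp hz) x ((hT'mem x).mp hx) ?_ ?_ ?_ ?_ ?_ ?_
    · exact_mod_cast congrArg Subtype.val hz2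
    · exact_mod_cast congrArg Subtype.val hx2
    · exact fun h => hz1 (Subtype.ext h)
    · exact fun h => hx1 (Subtype.ext h)
    · exact fun h => hxz (Subtype.ext h)
    · intro q hq'
      obtain ⟨h1, h2⟩ := hq ⟨q, hq'⟩
      refine ⟨congrArg Subtype.val h1, ?_⟩
      rcases h2 with h2 | h2
      · exact Or.inl (congrArg Subtype.val h2)
      · exact Or.inr (congrArg Subtype.val h2))
    ⟨a, hTS ha⟩ ⟨b, hTS hb⟩ ((hT'mem _).mpr ha) ((hT'mem _).mpr hb)
    (hone _ ha1) (hone _ hb1) hne'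
  refine ⟨w, (hT'mem w).mp hwT, ?_, ?_, ?_, ?_⟩
  · rw [← hw4]; exact (Subgroup.orderOf_coe w)
  · intro q hq
    rcases hnorm ⟨q, hq⟩ with h | h
    · exact Or.inl (congrArg Subtype.val h)
    · exact Or.inr (congrArg Subtype.val h)
  · intro x hx hx2 hxw
    have h1 := hinv ⟨x, hTS hx⟩ ((hT'mem _).mpr hx) (Subtype.ext (by simpa using hx2))
      (Subtype.ext hxw)
    rcases h1 with h1 | h1
    · exact Or.inl (congrArg Subtype.val h1)
    · exact Or.inr (by simpa using congrArg Subtype.val h1)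
  · intro n hn' hnw hn2
    have h1 := hn ⟨n, hTS hn'⟩ ((hT'mem _).mpr hn') (Subtype.ext hnw)
      (fun h => hn2 (by simpa using congrArg Subtype.val h))
    obtain ⟨k, hk⟩ := Subgroup.mem_zpowers_iff.mp h1
    refine Subgroup.mem_zpowers_iff.mpr ⟨k, ?_⟩
    simpa using congrArg Subtype.val hk

end Relative

end Cfsg.Agent.Lib.KleinRankOne
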