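import Mathlib
import Cfsg.Agent.Lib.NormalKlein
import Cfsg.Agent.Lib.StronglyEmbedded
import Cfsg.Agent.Lib.KleinSylow

/-!
# Involutions and elementary abelian subgroups of order 8

If a finite group has no subgroup of index 2 and contains an elementary abelian subgroup of
order 8, then every involution lies in an elementary abelian subgroup of order 8.
-/

set_option autoImplicit false
set_option linter.style.haveILetI false
set_option linter.unusedSectionVars false

universe u

namespace Cfsg.Agent.Lib.NormalKlein2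

open Cfsg.Agent.Lib.KleinTools Cfsg.Agent.Lib.NormalKlein

lemma comm_of_exp_two {R : Type*} [Group R] (K : Subgroup R) (h : ∀ k ∈ K, k ^ 2 = 1) {a b : R}
    (ha : a ∈ K) (hb : b ∈ K) : a * b = b * a := by
  have h1 : (a * b) * (a * b) = 1 := by
    rw [← pow_two]; exact h _ (K.mul_mem ha hb)
  have h2 : a * a = 1 := by rw [← pow_two]; exact h _ ha
  have h3 : b * b = 1 := by rw [← pow_two]; exact h _ hb
  calc a * b = a * (a * b * (a * b)) * b := by rw [h1]; group
    _ = (a * a) * b * a * (b * b) := by group
    _ = b * a := by rw [h2, h3]; group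

/-- Adjoining an involution centralizing an elementary abelian subgroup of order 4. -/
lemma extend_klein {R : Type*} [Group R] [Finite R] (A : Subgroup R) (hA : Nat.card A = 4)
    (hA2 : ∀ a ∈ A, a ^ 2 = 1) (y : R) (hy : y ∉ A) (hy2 : y ^ 2 = 1)
    (hc : ∀ a ∈ A, a * y = y * a) :
    ∃ K : Subgroup R, A ≤ K ∧ y ∈ K ∧ Nat.card K = 8 ∧ ∀ k ∈ K, k ^ 2 = 1 := by
  classical
  have hyy : y * y = 1 := by rw [← pow_two]; exact hy2
  have hyi : y⁻¹ = y := inv_eq_of_mul_eq_one_left hyy
  -- if `g * y ∈ A` then `g` commutes with `y`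
  have hc' : ∀ g : R, g * y ∈ A → g * y = y * g := by
    intro g hg
    have h1 := hc _ hg
    have h2 : g * y * y = g := by rw [mul_assoc, hyy, mul_one]
    rw [h2] at h1
    calc g * y = (y * y) * (g * y) := by rw [hyy, one_mul]
      _ = y * (y * (g * y)) := by group
      _ = y * g := by rw [← h1]
  let K : Subgroup R :=
    { carrier := {g | g ∈ A ∨ g * y ∈ A}
      one_mem' := Or.inl A.one_mem
      mul_mem' := by
        rintro g h (hg | hg) (hh | hh)
        · exact Or.inl (A.mul_mem hg hh)
        · right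
          rw [mul_assoc]
          exact A.mul_mem hg hh
        · right
          have : g * h * y = g * y * h := by
            rw [mul_assoc, hc h hh, mul_assoc]
          rw [this]
          exact A.mul_mem hg hh
        · left
          have : g * h = g * y * (h * y) := by
            calc g * h = g * (y * y) * h := by rw [hyy, mul_one]
              _ = g * y * (y * h) := by group
              _ = g * y * (h * y) := by rw [hc' h hh]
          rw [this]
          exact A.mul_mem hg hh
      inv_mem' := by
        rintro g (hg | hg)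
        · exact Or.inl (A.inv_mem hg)
        · right
          have h1 := hc' g hg
          have : g⁻¹ * y = (g * y)⁻¹ := by
            rw [mul_inv_rev, hyi]
            calc g⁻¹ * y = g⁻¹ * y * (g * g⁻¹) := by group
              _ = g⁻¹ * (y * g) * g⁻¹ := by group
              _ = g⁻¹ * (g * y) * g⁻¹ := by rw [h1]
              _ = y * g⁻¹ := by group
          rw [this]
          exact A.inv_mem hg }
  have hmem : ∀ g, g ∈ K ↔ g ∈ A ∨ g * y ∈ A := fun g => Iff.rfl
  refine ⟨K, fun a ha => Or.inl ha, Or.inr ?_, ?_, ?_⟩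
  · rw [hyy]; exact A.one_mem
  · -- cardinality
    let f : A ⊕ A → K := fun s => match s with
      | Sum.inl a => ⟨a, Or.inl a.2⟩
      | Sum.inr a => ⟨a * y, Or.inr (by
          have : (a : R) * y * y = a := by rw [mul_assoc, hyy, mul_one]
          rw [this]
          exact a.2)⟩
    have hf : Function.Bijective f := by
      constructor
      · rintro (a | a) (b | b) h
        · have := congrArg Subtype.val h
          exact congrArg Sum.inl (Subtype.ext this)
        · exfalso
          have h1 : (a : R) = b * y := congrArg Subtype.val h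
          apply hy
          have h2 : y = (b : R)⁻¹ * a := by rw [h1]; group
          rw [h2]
          exact A.mul_mem (A.inv_mem b.2) a.2
        · exfalso
          have h1 : (a : R) * y = b := congrArg Subtype.val h
          apply hy
          have h2 : y = (a : R)⁻¹ * b := by rw [← h1]; group
          rw [h2]
          exact A.mul_mem (A.inv_mem a.2) b.2
        · have h1 : (a : R) * y = b * y := congrArg Subtype.val h
          exact congrArg Sum.inr (Subtype.ext (mul_right_cancel h1))
      · rintro ⟨g, hg | hg⟩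
        · exact ⟨Sum.inl ⟨g, hg⟩, rfl⟩
        · refine ⟨Sum.inr ⟨g * y, hg⟩, Subtype.ext ?_⟩
          show g * y * y = g
          rw [mul_assoc, hyy, mul_one]
    rw [← Nat.card_congr (Equiv.ofBijective f hf), Nat.card_sum, hA]
  · rintro g (hg | hg)
    · exact hA2 g hg
    · have h1 := hA2 _ hg
      have h2 := hc' g hg
      rw [pow_two] at h1 ⊢
      calc g * g = g * (y * y) * g := by rw [hyy, mul_one]
        _ = g * y * (y * g) := by group
        _ = g * y * (g * y) := by rw [h2]
        _ = 1 := h1

/-- In a 2-group with a normal elementary abelian subgroup of order 4, and an elementary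
abelian subgroup of order 8, there is a subgroup of index at most two each of whose involutions
lies in an elementary abelian subgroup of order 8. -/
theorem exists_big_subgroup {R : Type*} [Group R] [Finite R] (hR : IsPGroup 2 R) (A : Subgroup R)
    (hAn : A.Normal) (hA : Nat.card A = 4) (hA2 : ∀ a ∈ A, a ^ 2 = 1) (E : Subgroup R)
    (hE : Nat.card E = 8) (hE2 : ∀ e ∈ E, e ^ 2 = 1) :
    ∃ M : Subgroup R, (M = ⊤ ∨ M.index = 2) ∧ ∀ w ∈ M, w ^ 2 = 1 →
      ∃ K : Subgroup R, w ∈ K ∧ Nat.card K = 8 ∧ ∀ k ∈ K, k ^ 2 = 1 := by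
  classical
  haveI : Fact (Nat.Prime 2) := ⟨Nat.prime_two⟩
  have hAne : A ≠ ⊥ := by
    rintro rfl
    rw [Subgroup.card_bot] at hA
    omega
  obtain ⟨z, hzA, hz1, hzc⟩ := exists_central_of_normal hR A hAn hAne
  obtain ⟨a, haA, has⟩ := exists_mem_notMem_finset A {1, z} (by
    rw [hA]
    exact lt_of_le_of_lt Finset.card_le_two (by norm_num))
  simp only [Finset.mem_insert, Finset.mem_singleton, not_or] at has
  obtain ⟨ha1, haz⟩ := has
  have hzc' : ∀ g : R, g * z = z * g := fun g => (Subgroup.mem_center_iff.1 hzc g)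
  have ha2 : a ^ 2 = 1 := hA2 a haA
  have hz2 : z ^ 2 = 1 := hA2 z hzA
  have hzz : z * z = 1 := by rw [← pow_two]; exact hz2
  have haz' : a * z = z * a := hzc' a
  have hK4 := isKleinFour_kleinOf ha2 hz2 haz' ha1 hz1 haz
  have hAeq : kleinOf a z ha2 hz2 haz' = A := by
    apply Subgroup.eq_of_le_of_card_ge
    · intro x hx
      rw [mem_kleinOf] at hx
      rcases hx with rfl | rfl | rfl | rfl
      · exact A.one_mem
      · exact haA
      · exact hzA
      · exact A.mul_mem haA hzA
    · rw [hK4.card_four, hA]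
  have hAmem : ∀ x ∈ A, x = 1 ∨ x = a ∨ x = z ∨ x = a * z := by
    intro x hx
    rw [← hAeq, mem_kleinOf] at hx
    exact hx
  -- conjugates of `a`
  have hconj : ∀ g : R, g * a * g⁻¹ = a ∨ g * a * g⁻¹ = a * z := by
    intro g
    have h1 : g * a * g⁻¹ ∈ A := hAn.conj_mem a haA g
    rcases hAmem _ h1 with h | h | h | h
    · exfalso
      apply ha1
      have := mul_inv_eq_one.1 h
      exact mul_eq_left.1 this
    · exact Or.inl h
    · exfalso
      apply haz
      have h2 : g * a = z * g := mul_inv_eq_iff_eq_mul.1 h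
      rw [← hzc' g] at h2
      exact mul_left_cancel h2
    · exact Or.inr h
  let M : Subgroup R := Subgroup.centralizer ({a} : Set R)
  have hMmem : ∀ g : R, g ∈ M ↔ g * a * g⁻¹ = a := by
    intro g
    rw [Subgroup.mem_centralizer_singleton_iff, mul_inv_eq_iff_eq_mul]
  have hMA : ∀ m ∈ M, ∀ b ∈ A, b * m = m * b := by
    intro m hm b hb
    have h1 : m * a = a * m := mul_inv_eq_iff_eq_mul.1 ((hMmem m).1 hm)
    rcases hAmem b hb with rfl | rfl | rfl | rfl
    · group
    · exact h1.symm
    · exact (hzc' m).symm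
    · calc a * z * m = a * (z * m) := by group
        _ = a * (m * z) := by rw [hzc' m]
        _ = (a * m) * z := by group
        _ = (m * a) * z := by rw [h1]
        _ = m * (a * z) := by group
  have hMcase : M = ⊤ ∨ M.index = 2 := by
    by_cases htop : M = ⊤
    · exact Or.inl htop
    · right
      obtain ⟨g, hg⟩ : ∃ g, g ∉ M := by
        by_contra hcon
        push Not at hcon
        exact htop ((Subgroup.eq_top_iff' M).2 hcon)
      have hg' : g * a * g⁻¹ = a * z := by
        rcases hconj g with h | h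
        · exact absurd ((hMmem g).2 h) hg
        · exact h
      rw [Subgroup.index_eq_two_iff_exists_notMem_and]
      refine ⟨g, hg, ?_⟩
      intro b
      by_cases hb : b ∈ M
      · exact Or.inr hb
      · left
        rw [hMmem]
        have h1 : b * a * b⁻¹ = a * z := by
          rcases hconj b with h | h
          · exact absurd ((hMmem b).2 h) hb
          · exact h
        calc b * g * a * (b * g)⁻¹ = b * (g * a * g⁻¹) * b⁻¹ := by group
          _ = b * (a * z) * b⁻¹ := by rw [hg']
          _ = (b * a * b⁻¹) * (b * z * b⁻¹) := by group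
          _ = a * z * z := by rw [h1, hzc' b, mul_inv_cancel_right]
          _ = a := by rw [mul_assoc, hzz, mul_one]
  refine ⟨M, hMcase, ?_⟩
  intro w hwM hw2
  by_cases hwA : w ∈ A
  · by_cases hex : ∃ e ∈ E, e ∈ M ∧ e ∉ A
    · obtain ⟨e, heE, heM, heA⟩ := hex
      obtain ⟨K, hAK, -, hK8, hK2⟩ := extend_klein A hA hA2 e heA (hE2 e heE) (hMA e heM)
      exact ⟨K, hAK hwA, hK8, hK2⟩
    · push Not at hex
      -- `E ⊓ M` has order at least four, so it equals `A`
      have hrel : (M ⊓ E).relIndex E ≤ 2 := by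
        rw [Subgroup.inf_relIndex_right]
        rcases hMcase with h | h
        · rw [h]
          simp
        · haveI : M.Normal := Subgroup.normal_of_index_eq_two h
          have h1 : M.relIndex E ∣ M.index := Subgroup.relIndex_dvd_index_of_normal M E
          rw [h] at h1
          exact Nat.le_of_dvd (by norm_num) h1
      have hcard : Nat.card (M ⊓ E : Subgroup R) * (M ⊓ E).relIndex E = 8 := by
        have h1 := Subgroup.relIndex_mul_relIndex (⊥ : Subgroup R) (M ⊓ E) E bot_le inf_le_right
        rw [Subgroup.relIndex_bot_left, Subgroup.relIndex_bot_left, hE] at h1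
        exact h1
      have hle : M ⊓ E ≤ A := by
        intro x hx
        exact hex x hx.2 hx.1
      have hge : Nat.card A ≤ Nat.card (M ⊓ E : Subgroup R) := by
        rw [hA]
        by_contra hlt
        have h3 : Nat.card (M ⊓ E : Subgroup R) ≤ 3 := by omega
        have : Nat.card (M ⊓ E : Subgroup R) * (M ⊓ E).relIndex E ≤ 3 * 2 :=
          Nat.mul_le_mul h3 hrel
        omega
      have heq : M ⊓ E = A := Subgroup.eq_of_le_of_card_ge hle hge
      refine ⟨E, ?_, hE, hE2⟩
      rw [← heq] at hwA
      exact hwA.2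
  · obtain ⟨K, -, hwK, hK8, hK2⟩ := extend_klein A hA hA2 w hwA hw2 (hMA w hwM)
    exact ⟨K, hwK, hK8, hK2⟩

/-- A fixed-point-free permutation of order two on a set of size twice an odd number is odd. -/
lemma sign_of_fpf_involution {α : Type*} [Fintype α] [DecidableEq α] (σ : Equiv.Perm α)
    (h2 : σ * σ = 1) (hfree : ∀ a, σ a ≠ a) (k : ℕ) (hα : Fintype.card α = 2 * (2 * k + 1)) :
    Equiv.Perm.sign σ = -1 := by
  have hne : Nonempty α := by
    rw [← Fintype.card_pos_iff, hα]
    omega
  have hσ1 : σ ≠ 1 := by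
    intro h
    obtain ⟨a⟩ := hne
    apply hfree a
    rw [h]
    rfl
  have ho : orderOf σ = 2 := orderOf_eq_prime (by rw [pow_two]; exact h2) hσ1
  haveI : Fact (orderOf σ).Prime := by
    rw [ho]
    exact ⟨Nat.prime_two⟩
  obtain ⟨n, hn⟩ := Equiv.Perm.cycleType_prime_order (σ := σ) (Fact.out)
  have hsum := Equiv.Perm.sum_cycleType σ
  have hsupp : σ.support = Finset.univ := by
    ext a
    simp [Equiv.Perm.mem_support, hfree a]
  rw [hsupp, Finset.card_univ, hα, hn, Multiset.sum_replicate, ho] at hsum
  have hn' : n + 1 = 2 * k + 1 := by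
    simp only [smul_eq_mul] at hsum
    omega
  rw [Equiv.Perm.sign_of_cycleType, hn, ho, Multiset.sum_replicate, Multiset.card_replicate]
  apply Odd.neg_one_pow
  rw [hn', smul_eq_mul]
  exact ⟨2 * k + 1 + k, by ring⟩

/-- **Thompson transfer** in the form: if a finite group has no subgroup of index two and
`M` has index twice an odd number, then `M` contains a conjugate of each involution. -/
theorem exists_conj_mem_of_no_index_two {G : Type*} [Group G] [Finite G]
    (hno : ∀ H : Subgroup G, H.index ≠ 2) (M : Subgroup G) (k : ℕ)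
    (hM : M.index = 2 * (2 * k + 1)) (x : G) (hx : x ^ 2 = 1) :
    ∃ g : G, g⁻¹ * x * g ∈ M := by
  classical
  by_contra hcon
  push Not at hcon
  haveI : Fintype (G ⧸ M) := Fintype.ofFinite _
  let σ : Equiv.Perm (G ⧸ M) := MulAction.toPermHom G (G ⧸ M) x
  have hfree : ∀ a, σ a ≠ a := by
    intro a
    induction a using QuotientGroup.induction_on with
    | H g =>
      intro h
      exact hcon g ((Cfsg.Agent.Lib.StronglyEmbedded.smul_coe_eq_iff M x g).1 h)
  have hσ2 : σ * σ = 1 := by
    have : σ * σ = MulAction.toPermHom G (G ⧸ M) (x * x) := by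
      rw [map_mul]
    rw [this, ← pow_two, hx, map_one]
  have hcard : Fintype.card (G ⧸ M) = 2 * (2 * k + 1) := by
    rw [← Nat.card_eq_fintype_card]
    exact hM
  have hsign := sign_of_fpf_involution σ hσ2 hfree k hcard
  let f : G →* ℤˣ := (Equiv.Perm.sign).comp (MulAction.toPermHom G (G ⧸ M))
  have hfs : Function.Surjective f := by
    intro u
    rcases Int.units_eq_one_or u with rfl | rfl
    · exact ⟨1, map_one f⟩
    · exact ⟨x, hsign⟩
  apply hno f.ker
  rw [Subgroup.index_ker, MonoidHom.range_eq_top.2 hfs]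
  simp

/-- If a finite group has no subgroup of index two and has an elementary abelian subgroup of order
8, then each involution lies in an elementary abelian subgroup of order 8. -/
theorem exists_klein_eight_of_no_index_two {G : Type u} [Group G] [Finite G]
    (hno : ∀ H : Subgroup G, H.index ≠ 2) (E₀ : Subgroup G) (hE₀ : Nat.card E₀ = 8)
    (hE₀2 : ∀ e ∈ E₀, e ^ 2 = 1) (x : G) (hx : orderOf x = 2) :
    ∃ K : Subgroup G, x ∈ K ∧ Nat.card K = 8 ∧ ∀ k ∈ K, k ^ 2 = 1 := by
  classical
  haveI : Fact (Nat.Prime 2) := ⟨Nat.prime_two⟩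
  have hE₀p : IsPGroup 2 E₀ := by
    rw [IsPGroup.iff_card]
    exact ⟨3, by rw [hE₀]; norm_num⟩
  obtain ⟨T, hET⟩ := hE₀p.exists_le_sylow
  have hTp : IsPGroup 2 (T : Subgroup G) := T.isPGroup'
  have hx2 : x ^ 2 = 1 := by rw [← hx]; exact pow_orderOf_eq_one x
  -- the subgroup of `T`
  let E : Subgroup (T : Subgroup G) := E₀.subgroupOf (T : Subgroup G)
  have hEc : Nat.card E = 8 := by
    rw [← hE₀]
    exact Nat.card_congr (Subgroup.subgroupOfEquivOfLe hET).toEquiv
  have hE2 : ∀ e ∈ E, e ^ 2 = 1 := by
    intro e he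
    apply Subtype.ext
    exact hE₀2 _ he
  obtain ⟨A, hAn, hAc, hA2⟩ := exists_normal_klein hTp E hEc hE2
  obtain ⟨M, hMc, hM⟩ := exists_big_subgroup hTp A hAn hAc hA2 E hEc hE2
  -- a conjugate of `x` lying in `M`
  have hconj : ∃ g : G, ∃ hg : g⁻¹ * x * g ∈ (T : Subgroup G),
      (⟨_, hg⟩ : (T : Subgroup G)) ∈ M := by
    rcases hMc with h | h
    · obtain ⟨y, hyT, hyx⟩ := Cfsg.Agent.Lib.KleinSylow.exists_conj_mem T x hx
      obtain ⟨c, hc⟩ := isConj_iff.1 hyx.symm
      have : c * x * c⁻¹ = c⁻¹⁻¹ * x * c⁻¹ := by rw [inv_inv]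
      refine ⟨c⁻¹, ?_, ?_⟩
      · rw [← this, hc]; exact hyT
      · rw [h]; trivial
    · let M' : Subgroup G := M.map (T : Subgroup G).subtype
      have hM'index : ∃ k : ℕ, M'.index = 2 * (2 * k + 1) := by
        have h1 : M'.index = M.index * (T : Subgroup G).index := by
          rw [Subgroup.index_map_subtype]
        have h2 : Odd (T : Subgroup G).index := by
          have : ¬ 2 ∣ (T : Subgroup G).index := T.not_dvd_index
          exact Nat.odd_iff.2 (by omega)
        obtain ⟨m, hm⟩ := h2
        refine ⟨m, ?_⟩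
        rw [h1, h, hm]
      obtain ⟨k, hk⟩ := hM'index
      obtain ⟨g, hg⟩ := exists_conj_mem_of_no_index_two hno M' k hk x hx2
      obtain ⟨m, hm, hmg⟩ := hg
      refine ⟨g, ?_, ?_⟩
      · rw [← hmg]; exact m.2
      · have hmem2 : g⁻¹ * x * g ∈ (T : Subgroup G) := by rw [← hmg]; exact m.2
        have hmeq : (⟨_, hmem2⟩ : (T : Subgroup G)) = m := Subtype.ext hmg.symm
        rw [hmeq]
        exact hm
  obtain ⟨g, hgT, hgM⟩ := hconj
  set w : (T : Subgroup G) := ⟨_, hgT⟩ with hw
  have hw2 : w ^ 2 = 1 := by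
    apply Subtype.ext
    show (g⁻¹ * x * g) ^ 2 = 1
    rw [show g⁻¹ * x * g = g⁻¹ * x * g⁻¹⁻¹ by rw [inv_inv], _root_.conj_pow, hx2]
    group
  obtain ⟨K, hwK, hK8, hK2⟩ := hM w hgM hw2
  -- conjugate back
  let φ : (T : Subgroup G) →* G := (MulAut.conj g).toMonoidHom.comp (T : Subgroup G).subtype
  have hφ : Function.Injective φ := by
    intro a b hab
    apply Subtype.ext
    exact (MulAut.conj g).injective hab
  refine ⟨K.map φ, ⟨w, hwK, ?_⟩, ?_, ?_⟩
  · show g * (g⁻¹ * x * g) * g⁻¹ = x
    group
  · rw [← hK8]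
    exact Nat.card_congr (Subgroup.equivMapOfInjective K φ hφ).symm.toEquiv
  · rintro _ ⟨k, hk, rfl⟩
    rw [← map_pow, hK2 k hk, map_one]

end Cfsg.Agent.Lib.NormalKlein2
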