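import Mathlib
import Cfsg.Agent.Lib.KleinRankOne
import Cfsg.Agent.Lib.NormalKlein2
import Cfsg.Agent.Lib.SylowConjLemmas
import Cfsg.Agent.Lib.PResid

/-!
# A four-group acting on a group without subgroups of index 2

If `U` is a four-group normalizing `A`, `A` has no subgroup of index 2 and every nonidentity element
of `U` centralizes at most one involution in each elementary abelian subgroup of `A`, then
commuting involutions of `A` agree.
-/

set_option autoImplicit false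
set_option linter.style.haveILetI false
set_option linter.unusedSectionVars false

namespace Cfsg.Agent.Lib.KleinRankOne

section Core

variable {G : Type*} [Group G] [Finite G]

/-- A four-group with at most two images of `x` has a nonidentity element fixing `x`. -/
theorem pigeon (U : Subgroup G) (hU : Nat.card U = 4) (x p r : G)
    (h : ∀ u ∈ U, u * x * u⁻¹ = p ∨ u * x * u⁻¹ = r) : ∃ i ∈ U, i ≠ 1 ∧ i * x * i⁻¹ = x := by
  classical
  haveI : Fintype U := Fintype.ofFinite U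
  let f : U → Bool := fun u => decide ((u : G) * x * (u : G)⁻¹ = p)
  have hc : Fintype.card Bool < Fintype.card U := by
    rw [Fintype.card_bool, ← Nat.card_eq_fintype_card, hU]; norm_num
  obtain ⟨u, v, huv, hf⟩ := Fintype.exists_ne_map_eq_of_card_lt f hc
  have hfiff : ((u : G) * x * (u : G)⁻¹ = p) ↔ ((v : G) * x * (v : G)⁻¹ = p) := by
    simpa [f] using hf
  have heq : (u : G) * x * (u : G)⁻¹ = (v : G) * x * (v : G)⁻¹ := by
    by_cases h1 : (u : G) * x * (u : G)⁻¹ = p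
    · rw [h1, hfiff.mp h1]
    · have h2 : (v : G) * x * (v : G)⁻¹ ≠ p := fun h3 => h1 (hfiff.mpr h3)
      rw [(h u u.2).resolve_left h1, (h v v.2).resolve_left h2]
  refine ⟨(v : G)⁻¹ * u, U.mul_mem (U.inv_mem v.2) u.2, ?_, ?_⟩
  · intro h1
    apply huv
    apply Subtype.ext
    have := inv_mul_eq_one.mp h1
    exact this.symm
  · calc (v : G)⁻¹ * u * x * ((v : G)⁻¹ * u)⁻¹ = (v : G)⁻¹ * ((u : G) * x * (u : G)⁻¹) * v := by
          group
      _ = (v : G)⁻¹ * ((v : G) * x * (v : G)⁻¹) * v := by rw [heq]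
      _ = x := by group

/-- The cyclic group generated by an element with a 2-power order. -/
theorem isPGroup_zpowers {X : Type*} [Group X] (x : X) (n : ℕ) (h : x ^ 2 ^ n = 1) :
    IsPGroup 2 (Subgroup.zpowers x) := by
  intro y
  obtain ⟨e, he⟩ := Subgroup.mem_zpowers_iff.mp y.2
  refine ⟨n, Subtype.ext ?_⟩
  show (y : X) ^ 2 ^ n = 1
  rw [← he, ← zpow_natCast, ← zpow_mul, mul_comm, zpow_mul, zpow_natCast, h, one_zpow]

/-- The Thompson transfer step. -/
theorem conj_to_centralizer (A T : Subgroup G) (TA : Sylow 2 A)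
    (hTAmem : ∀ x : A, x ∈ (TA : Subgroup A) ↔ (x : G) ∈ T) (hTA : T ≤ A)
    (hno : ∀ H : Subgroup A, H.index ≠ 2) (w s₀ : G) (hwT : w ∈ T)
    (hnorm : ∀ t ∈ T, t * w * t⁻¹ = w ∨ t * w * t⁻¹ = w⁻¹) (hw2ne : w ≠ w⁻¹)
    (hs₀T : s₀ ∈ T) (hs₀w : s₀ * w * s₀⁻¹ = w⁻¹) (hs₀2 : s₀ ^ 2 = 1) :
    ∃ g ∈ A, g * s₀ * g⁻¹ ∈ T ∧ (g * s₀ * g⁻¹) * w = w * (g * s₀ * g⁻¹) := by
  classical
  haveI : Fact (Nat.Prime 2) := ⟨Nat.prime_two⟩
  let w' : A := ⟨w, hTA hwT⟩
  let s' : A := ⟨s₀, hTA hs₀T⟩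
  let M : Subgroup A := (TA : Subgroup A) ⊓ Subgroup.centralizer {w'}
  have hMle : M ≤ (TA : Subgroup A) := inf_le_left
  have hMmem : ∀ x : A, x ∈ M ↔ (x : G) ∈ T ∧ (x : G) * w = w * x := by
    intro x
    show x ∈ (TA : Subgroup A) ⊓ Subgroup.centralizer {w'} ↔ _
    rw [Subgroup.mem_inf, Subgroup.mem_centralizer_singleton_iff, hTAmem]
    refine and_congr_right (fun _ => ?_)
    constructor
    · intro h
      exact congrArg Subtype.val h
    · intro h
      exact Subtype.ext h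
  have hcomm_iff : ∀ x : G, x * w = w * x ↔ x * w * x⁻¹ = w := fun x =>
    ⟨fun h => by rw [h]; group, fun h => mul_inv_eq_iff_eq_mul.mp h⟩
  have hrel : (M.subgroupOf (TA : Subgroup A)).index = 2 := by
    rw [Subgroup.index_eq_two_iff]
    refine ⟨⟨s', (hTAmem s').mpr hs₀T⟩, fun b => ?_⟩
    have hbT : ((b : A) : G) ∈ T := (hTAmem _).mp b.2
    rw [Subgroup.mem_subgroupOf, Subgroup.mem_subgroupOf, hMmem, hMmem]
    have hbs : (((b * ⟨s', (hTAmem s').mpr hs₀T⟩ : (TA : Subgroup A)) : A) : G) = ((b : A) : G) * s₀ :=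
      rfl
    rw [hbs, hcomm_iff, hcomm_iff]
    have hbsT : ((b : A) : G) * s₀ ∈ T := T.mul_mem hbT hs₀T
    have hact : ((b : A) : G) * s₀ * w * (((b : A) : G) * s₀)⁻¹ =
        ((b : A) : G) * w⁻¹ * ((b : A) : G)⁻¹ := by
      calc ((b : A) : G) * s₀ * w * (((b : A) : G) * s₀)⁻¹
          = ((b : A) : G) * (s₀ * w * s₀⁻¹) * ((b : A) : G)⁻¹ := by group
        _ = _ := by rw [hs₀w]
    have hbi : ((b : A) : G) * w⁻¹ * ((b : A) : G)⁻¹ = (((b : A) : G) * w * ((b : A) : G)⁻¹)⁻¹ := by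
      group
    rw [hact, hbi]
    rcases hnorm _ hbT with h | h
    · rw [h]
      right
      exact ⟨⟨hbT, rfl⟩, fun h' => hw2ne h'.2.symm⟩
    · rw [h, inv_inv]
      left
      exact ⟨⟨hbsT, rfl⟩, fun h' => hw2ne h'.2.symm⟩
  have hodd : ¬ 2 ∣ (TA : Subgroup A).index := TA.not_dvd_index
  obtain ⟨k, hk⟩ : ∃ k, (TA : Subgroup A).index = 2 * k + 1 := by
    have := Nat.odd_iff.mpr (Nat.mod_two_ne_zero.mp (fun h => hodd (Nat.dvd_of_mod_eq_zero h)))
    exact this
  have hidx : M.index = 2 * (2 * k + 1) := by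
    rw [← Subgroup.relIndex_mul_index hMle, hk]
    show (M.subgroupOf (TA : Subgroup A)).index * _ = _
    rw [hrel]
  have hs'2 : s' ^ 2 = 1 := Subtype.ext hs₀2
  obtain ⟨g, hg⟩ := Cfsg.Agent.Lib.NormalKlein2.exists_conj_mem_of_no_index_two hno M k hidx s' hs'2
  obtain ⟨h1, h2⟩ := (hMmem _).mp hg
  refine ⟨(g : G)⁻¹, A.inv_mem g.2, ?_, ?_⟩
  · rw [inv_inv]
    exact h1
  · rw [inv_inv]
    exact h2

/-- Conjugating an involution of `C_A(z)` into the Sylow subgroup `T ≤ C_A(z)`. -/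
theorem conj_into_T (A T : Subgroup G) (TA : Sylow 2 A)
    (hTAmem : ∀ x : A, x ∈ (TA : Subgroup A) ↔ (x : G) ∈ T) (z x : G) (hzA : z ∈ A) (hxA : x ∈ A)
    (hTz : ∀ t ∈ T, t * z = z * t) (hx2 : x ^ 2 = 1) (hxz : x * z = z * x) :
    ∃ c ∈ A, c * z = z * c ∧ c * x * c⁻¹ ∈ T := by
  classical
  haveI : Fact (Nat.Prime 2) := ⟨Nat.prime_two⟩
  let z' : A := ⟨z, hzA⟩
  let x' : A := ⟨x, hxA⟩
  let K : Subgroup A := Subgroup.centralizer {z'}
  have hKmem : ∀ y : A, y ∈ K ↔ (y : G) * z = z * y := by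
    intro y
    show y ∈ Subgroup.centralizer {z'} ↔ _
    rw [Subgroup.mem_centralizer_singleton_iff]
    constructor
    · intro h
      exact congrArg Subtype.val h
    · intro h
      exact Subtype.ext h
  have hTK : (TA : Subgroup A) ≤ K := fun y hy => (hKmem y).mpr (hTz _ ((hTAmem y).mp hy))
  have hXp : IsPGroup 2 (Subgroup.zpowers x') :=
    isPGroup_zpowers x' 1 (Subtype.ext (by simpa using hx2))
  have hXK : Subgroup.zpowers x' ≤ K := (Subgroup.zpowers_le).mpr ((hKmem x').mpr hxz)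
  obtain ⟨c, hcK, hc⟩ := Cfsg.Agent.Lib.SylowConjLemmas.exists_conj_mem_of_le TA K hTK _ hXp hXK
  refine ⟨c, c.2, (hKmem c).mp hcK, ?_⟩
  have := hc x' (Subgroup.mem_zpowers x')
  exact (hTAmem _).mp this

/-- Main contradiction, for two distinct involutions in a Sylow 2-subgroup of `A`, with `A` normal
in the ambient group. -/
theorem core_in_T (A U : Subgroup G) [hAn : A.Normal]
    (hUcard : Nat.card U = 4) (hU2 : ∀ u ∈ U, u ^ 2 = 1)
    (hno : ∀ H : Subgroup A, H.index ≠ 2)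
    (hR : ∀ u ∈ U, u ≠ 1 → ∀ a ∈ A, ∀ b ∈ A, a ^ 2 = 1 → b ^ 2 = 1 → a ≠ 1 → b ≠ 1 →
      a * b = b * a → a * u = u * a → b * u = u * b → a = b)
    (Sy : Sylow 2 G) (hUS : U ≤ (Sy : Subgroup G))
    (a b : G) (ha : a ∈ (Sy : Subgroup G) ⊓ A) (hb : b ∈ (Sy : Subgroup G) ⊓ A)
    (ha2 : a ^ 2 = 1) (hb2 : b ^ 2 = 1) (ha1 : a ≠ 1) (hb1 : b ≠ 1) (hne : a ≠ b) : False := by
  classical
  haveI : Fact (Nat.Prime 2) := ⟨Nat.prime_two⟩
  set S : Subgroup G := (Sy : Subgroup G) with hS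
  set T : Subgroup G := S ⊓ A with hT
  have hTS : T ≤ S := inf_le_left
  have hTA : T ≤ A := inf_le_right
  have hTn : ∀ q ∈ S, ∀ t ∈ T, q * t * q⁻¹ ∈ T := fun q hq t ht =>
    ⟨S.mul_mem (S.mul_mem hq ht.1) (S.inv_mem hq), hAn.conj_mem t ht.2 q⟩
  have hSp : IsPGroup 2 S := Sy.isPGroup'
  obtain ⟨w, hwT, hw4, hnorm, hinv, hn⟩ := exists_w' S T hSp hTS hTn (by
    intro z hz x hx hz2 hx2 hz1 hx1 hxz hq
    obtain ⟨i, hiU, hi1, hix⟩ := pigeon U hUcard x x (x * z)
      (fun u hu => (hq u (hUS hu)).2)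
    have hiz := (hq i (hUS hiU)).1
    have hxzc := (hq x hx.1).1
    exact hxz (hR i hiU hi1 x hx.2 z hz.2 hx2 hz2 hx1 hz1 (mul_inv_eq_iff_eq_mul.mp hxzc)
      (mul_inv_eq_iff_eq_mul.mp hix).symm (mul_inv_eq_iff_eq_mul.mp hiz).symm))
    a b ha hb ha1 hb1 hne
  have hw4' : w ^ 4 = 1 := by rw [← hw4]; exact pow_orderOf_eq_one _
  have hw2ne : w ≠ w⁻¹ := by
    intro h
    have h1 : w ^ 2 = 1 := by
      rw [pow_two]
      nth_rewrite 1 [h]
      simp
    have := orderOf_dvd_of_pow_eq_one h1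
    rw [hw4] at this
    omega
  set z : G := w ^ 2 with hz
  have hzT : z ∈ T := T.pow_mem hwT 2
  have hz2 : z ^ 2 = 1 := by rw [hz, ← pow_mul]; exact hw4'
  have hzz : z * z = 1 := by rw [← pow_two]; exact hz2
  have hz1 : z ≠ 1 := by
    intro h
    have := orderOf_dvd_of_pow_eq_one h
    rw [hw4] at this
    omega
  have hwi2 : w⁻¹ ^ 2 = z := by
    rw [hz, inv_pow]
    rw [inv_eq_iff_mul_eq_one, ← pow_add]
    exact hw4'
  have hzcen : ∀ q ∈ S, q * z = z * q := by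
    intro q hq
    have h1 : q * z * q⁻¹ = (q * w * q⁻¹) ^ 2 := by
      rw [hz]
      exact conj_pow.symm
    have h2 : q * z * q⁻¹ = z := by
      rw [h1]
      rcases hnorm q hq with h | h
      · rw [h]
      · rw [h, hwi2]
    exact mul_inv_eq_iff_eq_mul.mp h2
  have hzw : z * w = w * z := by
    rw [hz, pow_two]; group
  obtain ⟨s₀, hs₀T, hs₀2, hs₀1, hs₀z⟩ : ∃ s₀ ∈ T, s₀ ^ 2 = 1 ∧ s₀ ≠ 1 ∧ s₀ ≠ z := by
    by_cases haz : a = z
    · exact ⟨b, hb, hb2, hb1, fun h => hne (haz.trans h.symm)⟩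
    · exact ⟨a, ha, ha2, ha1, haz⟩
  have hinvert : ∀ t ∈ T, t ^ 2 = 1 → t ≠ 1 → t ≠ z → t * w * t⁻¹ = w⁻¹ := by
    intro t ht ht2 ht1 htz
    rcases hnorm t (hTS ht) with h | h
    · exfalso
      rcases hinv t ht ht2 (mul_inv_eq_iff_eq_mul.mp h) with h' | h'
      · exact ht1 h'
      · exact htz h'
    · exact h
  have hs₀w := hinvert s₀ hs₀T hs₀2 hs₀1 hs₀z
  have hs₀s : s₀ * s₀ = 1 := by rw [← pow_two]; exact hs₀2
  have hs₀i : s₀⁻¹ = s₀ := inv_eq_of_mul_eq_one_left hs₀s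
  have hzi : z⁻¹ = z := inv_eq_of_mul_eq_one_left hzz
  -- the Sylow subgroup of `A`
  obtain ⟨TA, hTAeq⟩ := Cfsg.Agent.Lib.PResid.exists_sylow_inf_of_normal Sy A
  have hTAmem : ∀ x : A, x ∈ (TA : Subgroup A) ↔ (x : G) ∈ T := by
    intro x
    rw [hT, hS, ← hTAeq]
    constructor
    · intro h
      exact ⟨x, h, rfl⟩
    · rintro ⟨y, hy, hyx⟩
      have : y = x := Subtype.ext hyx
      exact this ▸ hy
  -- the transfer
  obtain ⟨g₀, hg₀A, hg₀T, hg₀w⟩ := conj_to_centralizer A T TA hTAmem hTA hno w s₀ hwT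
    (fun t ht => hnorm t (hTS ht)) hw2ne hs₀T hs₀w hs₀2
  have hg₀z : g₀ * s₀ * g₀⁻¹ = z := by
    rcases hinv _ hg₀T (by rw [conj_pow, hs₀2]; group) hg₀w with h | h
    · exfalso
      apply hs₀1
      have h1 : g₀⁻¹ * (g₀ * s₀ * g₀⁻¹) * g₀ = s₀ := by group
      rw [← h1, h]
      group
    · exact h
  -- the conjugate of `z` commuting with `z`
  have hzs₀ : s₀ * z = z * s₀ := hzcen s₀ (hTS hs₀T)
  have hq₀z : (g₀ * z * g₀⁻¹) * z = z * (g₀ * z * g₀⁻¹) := by
    calc g₀ * z * g₀⁻¹ * z = g₀ * z * g₀⁻¹ * (g₀ * s₀ * g₀⁻¹) := by rw [hg₀z]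
      _ = g₀ * (z * s₀) * g₀⁻¹ := by group
      _ = g₀ * (s₀ * z) * g₀⁻¹ := by rw [hzs₀]
      _ = (g₀ * s₀ * g₀⁻¹) * (g₀ * z * g₀⁻¹) := by group
      _ = z * (g₀ * z * g₀⁻¹) := by rw [hg₀z]
  obtain ⟨c, hcA, hcz, hcT⟩ := conj_into_T A T TA hTAmem z (g₀ * z * g₀⁻¹) (hTA hzT)
    (hAn.conj_mem z (hTA hzT) g₀) (fun t ht => hzcen t (hTS ht))
    (by rw [conj_pow, hz2]; group) hq₀z
  set g₁ : G := c * g₀ with hg₁
  have hg₁s : g₁ * s₀ * g₁⁻¹ = z := by
    calc g₁ * s₀ * g₁⁻¹ = c * (g₀ * s₀ * g₀⁻¹) * c⁻¹ := by rw [hg₁]; group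
      _ = c * z * c⁻¹ := by rw [hg₀z]
      _ = z := by rw [hcz]; group
  have hg₁z : g₁ * z * g₁⁻¹ ∈ T := by
    have : g₁ * z * g₁⁻¹ = c * (g₀ * z * g₀⁻¹) * c⁻¹ := by rw [hg₁]; group
    rw [this]
    exact hcT
  -- the element `i`
  obtain ⟨i, hiU, hi1, hiw⟩ := pigeon U hUcard w w w⁻¹ (fun u hu => hnorm u (hUS hu))
  have hii : i * i = 1 := by rw [← pow_two]; exact hU2 i hiU
  have hiinv : i⁻¹ = i := inv_eq_of_mul_eq_one_left hii
  have hiS : i ∈ S := hUS hiU
  have hiw' : i * w = w * i := mul_inv_eq_iff_eq_mul.mp hiw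
  have hiz : i * z = z * i := hzcen i hiS
  -- the action of `i` on involutions inverting `w`
  have hact : ∀ t ∈ T, t ^ 2 = 1 → t * w * t⁻¹ = w⁻¹ → i * t * i⁻¹ = z * t := by
    intro t ht ht2 htw
    have htt : t * t = 1 := by rw [← pow_two]; exact ht2
    have hti : t⁻¹ = t := inv_eq_of_mul_eq_one_left htt
    rw [hti] at htw
    have htw' : t * w = w⁻¹ * t := by
      rw [← htw]
      calc t * w = t * w * (t * t) := by rw [htt]; group
        _ = t * w * t * t := by group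
    rw [hiinv]
    set t' : G := i * t * i with ht'
    have ht'T : t' ∈ T := by
      have := hTn i hiS t ht
      rwa [hiinv] at this
    have ht't' : t' * t' = 1 := by
      calc t' * t' = i * t * (i * i) * t * i := by rw [ht']; group
        _ = i * (t * t) * i := by rw [hii]; group
        _ = 1 := by rw [htt, mul_one, hii]
    have hiiw : ∀ y : G, i * (i * y) = y := fun y => by rw [← mul_assoc, hii, one_mul]
    have hiwi : i * w⁻¹ = w⁻¹ * i := by
      calc i * w⁻¹ = w⁻¹ * (w * i) * w⁻¹ := by group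
        _ = w⁻¹ * (i * w) * w⁻¹ := by rw [hiw']
        _ = w⁻¹ * i := by group
    have ht'w : t' * w = w⁻¹ * t' := by
      calc t' * w = i * t * (i * w) := by rw [ht']; group
        _ = i * (t * w) * i := by rw [hiw']; group
        _ = i * (w⁻¹ * t) * i := by rw [htw']
        _ = (i * w⁻¹) * t * i := by group
        _ = w⁻¹ * t' := by rw [hiwi, ht']; group
    have ht'wi : t' * w⁻¹ = w * t' := by
      calc t' * w⁻¹ = (w * (w⁻¹ * t')) * w⁻¹ := by group
        _ = w * (t' * w) * w⁻¹ := by rw [← ht'w]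
        _ = w * t' := by group
    set n : G := t' * t with hndef
    have hnT : n ∈ T := T.mul_mem ht'T ht
    have hnw : n * w = w * n := by
      calc n * w = t' * (t * w) := by rw [hndef]; group
        _ = t' * (w⁻¹ * t) := by rw [htw']
        _ = (t' * w⁻¹) * t := by group
        _ = w * t' * t := by rw [ht'wi]
        _ = w * n := by rw [hndef]; group
    by_cases hn2 : n ^ 2 = 1
    · rcases hinv n hnT hn2 hnw with h | h
      · exfalso
        -- `i` centralizes `t`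
        have ht'eq : t' = t := by
          have := h
          rw [hndef] at this
          calc t' = t' * (t * t) := by rw [htt, mul_one]
            _ = (t' * t) * t := by group
            _ = t := by rw [this, one_mul]
        have hit : t * i = i * t := by
          calc t * i = (i * i) * (t * i) := by rw [hii, one_mul]
            _ = i * t' := by rw [ht']; group
            _ = i * t := by rw [ht'eq]
        have ht1 : t ≠ 1 := by
          rintro rfl
          apply hw2ne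
          rw [← htw]; group
        have htz : t = z := hR i hiU hi1 t (hTA ht) z (hTA hzT) ht2 hz2 ht1 hz1
          (hzcen t (hTS ht)) hit hiz.symm
        apply hw2ne
        rw [← htw, htz, hzw, mul_assoc, hzz, mul_one]
      · have h3 : t' = n * t := by
          rw [hndef, mul_assoc, htt, mul_one]
        calc t' = n * t := h3
          _ = z * t := by rw [h]
    · exfalso
      obtain ⟨e, he⟩ := Subgroup.mem_zpowers_iff.mp (hn n hnT hnw hn2)
      have h1 : i * n * i⁻¹ = t * n * t⁻¹ := by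
        rw [hiinv, hti, hndef, ht']
        calc i * (i * t * i * t) * i = (i * i) * t * (i * t * i) := by group
          _ = t * (i * t * i) := by rw [hii, one_mul]
          _ = t * (i * t * i * t) * t := by
            rw [show t * (i * t * i * t) * t = t * (i * t * i) * (t * t) by group, htt, mul_one]
      have h2 : i * w * i⁻¹ = t * w * t⁻¹ := by
        rw [← he, ← conj_zpow, ← conj_zpow, h1]
      apply hw2ne
      calc w = i * w * i⁻¹ := hiw.symm
        _ = t * w * t⁻¹ := h2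
        _ = w⁻¹ := by rw [hti]; exact htw
  -- the element `y`
  set y : G := i * w⁻¹ with hy
  have hyS : y ∈ S := S.mul_mem hiS (S.inv_mem (hTS hwT))
  have hy2 : y ^ 2 = z := by
    rw [← hwi2, hy, (show Commute i w⁻¹ from ?_).mul_pow, pow_two i, hii, one_mul]
    show i * w⁻¹ = w⁻¹ * i
    calc i * w⁻¹ = w⁻¹ * (w * i) * w⁻¹ := by group
      _ = w⁻¹ * (i * w) * w⁻¹ := by rw [hiw']
      _ = w⁻¹ * i := by group
  have hyfix : ∀ t ∈ T, t ^ 2 = 1 → y * t * y⁻¹ = t := by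
    intro t ht ht2
    by_cases ht1 : t = 1
    · rw [ht1]; group
    by_cases htz : t = z
    · rw [htz, hzcen y hyS]; group
    have htw := hinvert t ht ht2 ht1 htz
    have hi := hact t ht ht2 htw
    have htt : t * t = 1 := by rw [← pow_two]; exact ht2
    have hti : t⁻¹ = t := inv_eq_of_mul_eq_one_left htt
    have h1 : w⁻¹ * t * w = t * z := by
      rw [hti] at htw
      have h2 : w⁻¹ * t = t * w := by
        rw [← htw]
        calc (t * w * t) * t = t * w * (t * t) := by group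
          _ = t * w := by rw [htt, mul_one]
      rw [h2, hz, pow_two]
      group
    calc y * t * y⁻¹ = i * (w⁻¹ * t * w) * i⁻¹ := by rw [hy]; group
      _ = i * (t * z) * i⁻¹ := by rw [h1]
      _ = (i * t * i⁻¹) * z := by
        calc i * (t * z) * i⁻¹ = i * t * (z * i⁻¹) := by group
          _ = i * t * (i⁻¹ * z) := by
            have : z * i⁻¹ = i⁻¹ * z := by
              rw [hiinv]; exact hiz.symm
            rw [this]
          _ = _ := by group
      _ = z * t * z := by rw [hi]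
      _ = t * (z * z) := by
        have : z * t = t * z := (hzcen t (hTS ht)).symm
        rw [this]; group
      _ = t := by rw [hzz, mul_one]
  -- the conjugate
  set y₁ : G := g₁⁻¹ * y * g₁ with hy₁
  have hy₁2 : y₁ ^ 2 = s₀ := by
    have : y₁ ^ 2 = g₁⁻¹ * y ^ 2 * g₁ := by
      have := (conj_pow (a := g₁⁻¹) (b := y) (i := 2))
      rw [inv_inv] at this
      exact this
    rw [this, hy2, ← hg₁s]
    group
  have hy₁z : y₁ * z = z * y₁ := by
    have hq : y * (g₁ * z * g₁⁻¹) * y⁻¹ = g₁ * z * g₁⁻¹ :=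
      hyfix _ hg₁z (by rw [conj_pow, hz2]; group)
    have h1 : y₁ * z * y₁⁻¹ = z := by
      calc y₁ * z * y₁⁻¹ = g₁⁻¹ * (y * (g₁ * z * g₁⁻¹) * y⁻¹) * g₁ := by rw [hy₁]; group
        _ = g₁⁻¹ * (g₁ * z * g₁⁻¹) * g₁ := by rw [hq]
        _ = z := by group
    exact mul_inv_eq_iff_eq_mul.mp h1
  have hy₁4 : y₁ ^ 2 ^ 2 = 1 := by
    rw [show (2 : ℕ) ^ 2 = 2 * 2 by norm_num, pow_mul, hy₁2, hs₀2]
  let K : Subgroup G := Subgroup.centralizer {z}
  have hKmem : ∀ x, x ∈ K ↔ x * z = z * x := fun x => Subgroup.mem_centralizer_singleton_iff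
  have hSK : S ≤ K := fun x hx => (hKmem x).mpr (hzcen x hx)
  obtain ⟨h, hhK, hh⟩ := Cfsg.Agent.Lib.SylowConjLemmas.exists_conj_mem_of_le Sy K hSK
    (Subgroup.zpowers y₁) (isPGroup_zpowers y₁ 2 hy₁4)
    ((Subgroup.zpowers_le).mpr ((hKmem y₁).mpr hy₁z))
  have hy' := hh y₁ (Subgroup.mem_zpowers y₁)
  set y' : G := h * y₁ * h⁻¹ with hy'def
  have hv : y' ^ 2 = h * s₀ * h⁻¹ := by
    rw [hy'def, conj_pow, hy₁2]
  have hvT : y' ^ 2 ∈ T := by
    refine ⟨S.pow_mem hy' 2, ?_⟩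
    rw [hv]
    exact hAn.conj_mem s₀ (hTA hs₀T) h
  have hvw : y' ^ 2 * w = w * y' ^ 2 := by
    rcases hnorm y' hy' with h1 | h1
    · have h2 : y' * w = w * y' := mul_inv_eq_iff_eq_mul.mp h1
      rw [pow_two]
      calc y' * y' * w = y' * (y' * w) := by group
        _ = y' * (w * y') := by rw [h2]
        _ = (y' * w) * y' := by group
        _ = w * (y' * y') := by rw [h2]; group
    · have h2 : y' * w = w⁻¹ * y' := mul_inv_eq_iff_eq_mul.mp h1
      have h3 : y' * w⁻¹ = w * y' := by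
        have h4 : y' * w⁻¹ * y'⁻¹ = w := by
          calc y' * w⁻¹ * y'⁻¹ = (y' * w * y'⁻¹)⁻¹ := by group
            _ = w := by rw [h1, inv_inv]
        exact mul_inv_eq_iff_eq_mul.mp h4
      rw [pow_two]
      calc y' * y' * w = y' * (y' * w) := by group
        _ = y' * (w⁻¹ * y') := by rw [h2]
        _ = (y' * w⁻¹) * y' := by group
        _ = w * (y' * y') := by rw [h3]; group
  have hv2 : (y' ^ 2) ^ 2 = 1 := by
    rw [hv, conj_pow, hs₀2]; group
  rcases hinv _ hvT hv2 hvw with h1 | h1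
  · apply hs₀1
    rw [hv] at h1
    have : h⁻¹ * (h * s₀ * h⁻¹) * h = s₀ := by group
    rw [← this, h1]
    group
  · apply hs₀z
    rw [hv] at h1
    have hhz : h * z = z * h := (hKmem h).mp hhK
    have : s₀ = h⁻¹ * (h * s₀ * h⁻¹) * h := by group
    rw [this, h1]
    calc h⁻¹ * z * h = h⁻¹ * (z * h) := by group
      _ = h⁻¹ * (h * z) := by rw [hhz]
      _ = z := by group

/-- The exponent of the group generated by two commuting involutions. -/
theorem closure_pair_exp (a b : G) (ha2 : a ^ 2 = 1) (hb2 : b ^ 2 = 1) (hab : a * b = b * a) :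
    ∀ x ∈ Subgroup.closure {a, b}, x ^ 2 = 1 := by
  let C : Subgroup G := Subgroup.closure {a, b}
  have hcomm : ∀ x ∈ ({a, b} : Set G), ∀ y ∈ ({a, b} : Set G), x * y = y * x := by
    rintro x (rfl | rfl) y (rfl | rfl)
    · rfl
    · exact hab
    · exact hab.symm
    · rfl
  letI cg : CommGroup C := Subgroup.closureCommGroupOfComm hcomm
  have h1 : ∀ (y : C), (y : G) ^ 2 = 1 → ∀ (z : C), (z : G) ^ 2 = 1 → ((y * z : C) : G) ^ 2 = 1 := by
    intro y hy z hz
    have hc : (y : G) * z = z * y := congrArg Subtype.val (mul_comm y z)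
    show ((y : G) * z) ^ 2 = 1
    rw [(show Commute (y : G) z from hc).mul_pow, hy, hz, one_mul]
  intro x hx
  have hxC : ∀ (x : G) (hx : x ∈ C), (⟨x, hx⟩ : C).1 ^ 2 = 1 := by
    intro x hx
    induction hx using Subgroup.closure_induction with
    | mem x hx =>
      rcases hx with rfl | rfl
      · exact ha2
      · exact hb2
    | one => simp
    | mul x y hx hy h2 h3 => exact h1 ⟨x, hx⟩ h2 ⟨y, hy⟩ h3
    | inv x hx h2 =>
      show x⁻¹ ^ 2 = 1
      rw [inv_pow, h2, inv_one]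
  exact hxC x hx

/-- The result when `A` is normal. -/
theorem inner_core (A U : Subgroup G) [hAn : A.Normal]
    (hUcard : Nat.card U = 4) (hU2 : ∀ u ∈ U, u ^ 2 = 1)
    (hno : ∀ H : Subgroup A, H.index ≠ 2)
    (hR : ∀ u ∈ U, u ≠ 1 → ∀ a ∈ A, ∀ b ∈ A, a ^ 2 = 1 → b ^ 2 = 1 → a ≠ 1 → b ≠ 1 →
      a * b = b * a → a * u = u * a → b * u = u * b → a = b)
    (a b : G) (ha : a ∈ A) (hb : b ∈ A) (ha2 : a ^ 2 = 1) (hb2 : b ^ 2 = 1) (ha1 : a ≠ 1)
    (hb1 : b ≠ 1) (hab : a * b = b * a) : a = b := by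
  classical
  haveI : Fact (Nat.Prime 2) := ⟨Nat.prime_two⟩
  by_contra hne
  have hUp : IsPGroup 2 U := by
    intro u
    exact ⟨1, Subtype.ext (by simpa using hU2 u u.2)⟩
  obtain ⟨Sy, hUS⟩ := hUp.exists_le_sylow
  have hXp : IsPGroup 2 (Subgroup.closure {a, b}) := by
    intro x
    exact ⟨1, Subtype.ext (by simpa using closure_pair_exp a b ha2 hb2 hab x x.2)⟩
  obtain ⟨g, hg⟩ := Cfsg.Agent.Lib.SylowConjLemmas.exists_conj_mem Sy _ hXp
  have hinj : ∀ x : G, x ≠ 1 → g * x * g⁻¹ ≠ 1 := by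
    intro x hx h
    apply hx
    have : g⁻¹ * (g * x * g⁻¹) * g = x := by group
    rw [← this, h]
    group
  refine core_in_T A U hUcard hU2 hno hR Sy hUS (g * a * g⁻¹) (g * b * g⁻¹)
    ⟨hg a (Subgroup.subset_closure (Or.inl rfl)), hAn.conj_mem a ha g⟩
    ⟨hg b (Subgroup.subset_closure (Or.inr rfl)), hAn.conj_mem b hb g⟩
    (by rw [conj_pow, ha2]; group) (by rw [conj_pow, hb2]; group) (hinj a ha1) (hinj b hb1) ?_
  intro h
  apply hne
  have h1 : g⁻¹ * (g * a * g⁻¹) * g = a := by group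
  have h2 : g⁻¹ * (g * b * g⁻¹) * g = b := by group
  rw [← h1, h, h2]

/-- The result in general. -/
theorem commuting_eq (A U : Subgroup G) (hUA : U ≤ Subgroup.normalizer (A : Set G))
    (hUcard : Nat.card U = 4) (hU2 : ∀ u ∈ U, u ^ 2 = 1)
    (hno : ∀ H : Subgroup A, H.index ≠ 2)
    (hR : ∀ u ∈ U, u ≠ 1 → ∀ a ∈ A, ∀ b ∈ A, a ^ 2 = 1 → b ^ 2 = 1 → a ≠ 1 → b ≠ 1 →
      a * b = b * a → a * u = u * a → b * u = u * b → a = b)
    (a b : G) (ha : a ∈ A) (hb : b ∈ A) (ha2 : a ^ 2 = 1) (hb2 : b ^ 2 = 1) (ha1 : a ≠ 1)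
    (hb1 : b ≠ 1) (hab : a * b = b * a) : a = b := by
  classical
  let B : Subgroup G := Subgroup.normalizer (A : Set G)
  have hAB : A ≤ B := Subgroup.le_normalizer
  let A' : Subgroup B := A.subgroupOf B
  let U' : Subgroup B := U.subgroupOf B
  haveI hA'n : A'.Normal := Subgroup.normal_in_normalizer
  let e : A' ≃* A := Subgroup.subgroupOfEquivOfLe hAB
  have hone : ∀ x : B, (x : G) ≠ 1 → x ≠ 1 := fun x hx h => hx (by rw [h]; rfl)
  have hoff : ∀ x : B, x ≠ 1 → (x : G) ≠ 1 := fun x hx h => hx (Subtype.ext h)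
  have h := inner_core A' U'
    (by rw [← hUcard]; exact Nat.card_congr (Subgroup.subgroupOfEquivOfLe hUA).toEquiv)
    (by
      intro u hu
      exact Subtype.ext (by simpa using hU2 u (Subgroup.mem_subgroupOf.mp hu)))
    (by
      intro H
      have := hno (H.comap e.symm.toMonoidHom)
      rwa [Subgroup.index_comap_of_surjective _ e.symm.surjective] at this)
    (by
      intro u hu hu1 x hx y hy hx2 hy2 hx1 hy1 hxy hxu hyu
      apply Subtype.ext
      exact hR u (Subgroup.mem_subgroupOf.mp hu) (hoff u hu1) x (Subgroup.mem_subgroupOf.mp hx) y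
        (Subgroup.mem_subgroupOf.mp hy) (by simpa using congrArg Subtype.val hx2)
        (by simpa using congrArg Subtype.val hy2) (hoff x hx1) (hoff y hy1)
        (congrArg Subtype.val hxy) (congrArg Subtype.val hxu) (congrArg Subtype.val hyu))
    ⟨a, hAB ha⟩ ⟨b, hAB hb⟩ (Subgroup.mem_subgroupOf.mpr ha) (Subgroup.mem_subgroupOf.mpr hb)
    (Subtype.ext (by simpa using ha2)) (Subtype.ext (by simpa using hb2)) (hone _ ha1) (hone _ hb1)
    (Subtype.ext hab)
  exact congrArg Subtype.val h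

end Core

end Cfsg.Agent.Lib.KleinRankOne
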