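import Mathlib
import Cfsg.Agent.S3975
import Cfsg.Agent.Lib.OddLocalA
import Cfsg.Agent.Lib.NormalKlein
import Cfsg.Agent.Lib.ExtPrim2
import Cfsg.Agent.Lib.Frat

/-!
Counting subgroups of order `p^k` modulo `p²` (Kulakoff, odd `p`).
-/

set_option autoImplicit false
set_option linter.style.haveILetI false

namespace Cfsg.Agent.Lib.KulakoffOdd

open Subgroup

universe u

/-- The number of subgroups of order `n`. -/
noncomputable def cnt (P : Type*) [Group P] (n : ℕ) : ℕ := Nat.card {H : Subgroup P // Nat.card H = n}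

/-- The number of subgroups of order `n` inside `B`. -/
noncomputable def cntIn {P : Type*} [Group P] (B : Subgroup P) (n : ℕ) : ℕ :=
  Nat.card {H : Subgroup P // H ≤ B ∧ Nat.card H = n}

lemma cnt_coe {P : Type*} [Group P] (B : Subgroup P) (n : ℕ) : cnt B n = cntIn B n := by
  apply Nat.card_congr
  exact
    { toFun := fun H => ⟨H.1.map B.subtype, map_subtype_le _, by
        rw [Subgroup.card_subtype]; exact H.2⟩
      invFun := fun H => ⟨H.1.subgroupOf B,
        (Nat.card_congr (Subgroup.subgroupOfEquivOfLe H.2.1).toEquiv).trans H.2.2⟩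
      left_inv := fun H => Subtype.ext
        (Subgroup.comap_map_eq_self_of_injective B.subtype_injective _)
      right_inv := fun H => Subtype.ext (by
        show (H.1.subgroupOf B).map B.subtype = H.1
        rw [Subgroup.subgroupOf_map_subtype]
        exact inf_eq_left.mpr H.2.1) }

lemma cntIn_top {P : Type*} [Group P] (n : ℕ) : cntIn (⊤ : Subgroup P) n = cnt P n := by
  apply Nat.card_congr
  exact Equiv.subtypeEquivRight (fun H => by simp)

/-! ### The plane -/

/-- The plane `C_p × C_p`. -/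
abbrev Pl (p : ℕ) := Multiplicative (ZMod p × ZMod p)

section plane

variable {p : ℕ} [hp : Fact p.Prime]

lemma card_Pl : Nat.card (Pl p) = p ^ 2 := by
  have : Nat.card (Pl p) = Nat.card (ZMod p × ZMod p) := rfl
  rw [this, Nat.card_prod, Nat.card_zmod, sq]

lemma pow_p_Pl (v : Pl p) : v ^ p = 1 := by
  show Multiplicative.ofAdd (p • Multiplicative.toAdd v) = 1
  have : p • Multiplicative.toAdd v = 0 := by
    ext <;> simp
  rw [this]; rfl

lemma Pl_isPGroup : IsPGroup p (Pl p) := fun v => ⟨1, by simpa using pow_p_Pl v⟩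

/-- The lines of the plane. -/
noncomputable def lines (p : ℕ) [Fact p.Prime] : Finset (Subgroup (Pl p)) := by
  classical
  haveI : Fintype (Subgroup (Pl p)) := Fintype.ofFinite _
  exact Finset.univ.filter (fun L => Nat.card L = p)

lemma mem_lines {L : Subgroup (Pl p)} : L ∈ lines p ↔ Nat.card L = p := by
  classical
  simp [lines]

lemma orderOf_Pl {v : Pl p} (hv : v ≠ 1) : orderOf v = p :=
  orderOf_eq_prime (pow_p_Pl v) hv

lemma card_zpowers_Pl {v : Pl p} (hv : v ≠ 1) : Nat.card (zpowers v) = p := by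
  rw [Nat.card_zpowers, orderOf_Pl hv]

lemma eq_zpowers_of_line {L : Subgroup (Pl p)} (hL : Nat.card L = p) {v : Pl p} (hv : v ∈ L)
    (hv1 : v ≠ 1) : L = zpowers v := by
  symm
  apply Subgroup.eq_of_le_of_card_ge
  · exact (zpowers_le).mpr hv
  · rw [hL, card_zpowers_Pl hv1]

/-- The number of lines of the plane is `p + 1`. -/
lemma card_lines : (lines p).card = p + 1 := by
  classical
  haveI : Fintype (Pl p) := Fintype.ofFinite _
  -- double count pairs
  have h1 : ∑ L ∈ lines p, (Nat.card L - 1) = p ^ 2 - 1 := by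
    -- the nontrivial vectors are partitioned by their lines
    have hpart : (Finset.univ.filter (fun v : Pl p => v ≠ 1)).card = ∑ L ∈ lines p,
        ((Finset.univ.filter (fun v : Pl p => v ≠ 1)).filter (fun v => zpowers v = L)).card := by
      apply Finset.card_eq_sum_card_fiberwise
      intro v hv
      have hv' : v ≠ 1 := (Finset.mem_filter.mp (Finset.mem_coe.mp hv)).2
      exact Finset.mem_coe.mpr (mem_lines.mpr (card_zpowers_Pl hv'))
    have hl : (Finset.univ.filter (fun v : Pl p => v ≠ 1)).card = p ^ 2 - 1 := by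
      rw [Finset.filter_ne', Finset.card_erase_of_mem (Finset.mem_univ _), Finset.card_univ,
        ← Nat.card_eq_fintype_card, card_Pl]
    rw [← hl, hpart]
    apply Finset.sum_congr rfl
    intro L hL
    have hLc := mem_lines.mp hL
    have : ((Finset.univ.filter (fun v : Pl p => v ≠ 1)).filter (fun v => zpowers v = L)) =
        (Finset.univ.filter (fun v : Pl p => v ∈ L)).erase 1 := by
      ext v
      simp only [Finset.mem_filter, Finset.mem_univ, true_and, Finset.mem_erase]
      constructor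
      · rintro ⟨h1, h2⟩
        refine ⟨h1, ?_⟩
        rw [← h2]
        exact mem_zpowers v
      · rintro ⟨h1, h2⟩
        exact ⟨h1, (eq_zpowers_of_line hLc h2 h1).symm⟩
    rw [this, Finset.card_erase_of_mem (by simp [L.one_mem])]
    congr 1
    rw [← Fintype.card_subtype, ← Nat.card_eq_fintype_card]
  have h2 : ∑ L ∈ lines p, (Nat.card L - 1) = (lines p).card * (p - 1) := by
    rw [Finset.sum_congr rfl (fun L hL => by rw [mem_lines.mp hL]), Finset.sum_const, smul_eq_mul]
  rw [h2] at h1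
  have hp1 : 0 < p - 1 := by have := hp.out.two_le; omega
  have h3 : p ^ 2 - 1 = (p + 1) * (p - 1) := by
    obtain ⟨q, rfl⟩ : ∃ q, p = q + 1 := ⟨p - 1, by omega⟩
    simp only [Nat.add_sub_cancel]
    have : (q + 1) ^ 2 = (q + 1 + 1) * q + 1 := by ring
    rw [this]; simp
  rw [h3] at h1
  exact Nat.eq_of_mul_eq_mul_right hp1 h1

/-- A subgroup of the plane is trivial, a line or the plane. -/
lemma subgroup_Pl_cases (B : Subgroup (Pl p)) : B = ⊥ ∨ B ∈ lines p ∨ B = ⊤ := by
  have h1 : Nat.card B ∣ p ^ 2 := by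
    rw [← card_Pl]
    exact Subgroup.card_subgroup_dvd_card B
  obtain ⟨i, hi, hi2⟩ := (Nat.dvd_prime_pow hp.out).mp h1
  have : i = 0 ∨ i = 1 ∨ i = 2 := by omega
  rcases this with rfl | rfl | rfl
  · left
    rw [← Subgroup.card_eq_one]
    simpa using hi2
  · right; left
    rw [mem_lines]
    simpa using hi2
  · right; right
    apply Subgroup.eq_top_of_card_eq
    rw [hi2, card_Pl]

lemma line_ne_bot {L : Subgroup (Pl p)} (hL : L ∈ lines p) : L ≠ ⊥ := by
  rintro rfl
  have := mem_lines.mp hL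
  rw [Subgroup.card_bot] at this
  exact hp.out.one_lt.ne this

lemma line_ne_top {L : Subgroup (Pl p)} (hL : L ∈ lines p) : L ≠ ⊤ := by
  rintro rfl
  have := mem_lines.mp hL
  rw [Subgroup.card_top, card_Pl] at this
  have h2 := hp.out.two_le
  nlinarith

lemma le_line_cases {L B : Subgroup (Pl p)} (hL : L ∈ lines p) (hB : B ≤ L) : B = ⊥ ∨ B = L := by
  have h1 : Nat.card B ∣ Nat.card L := Subgroup.card_dvd_of_le hB
  rw [mem_lines.mp hL] at h1
  rcases (Nat.dvd_prime hp.out).mp h1 with h | h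
  · left; exact Subgroup.card_eq_one.mp h
  · right
    apply Subgroup.eq_of_le_of_card_ge hB
    rw [h, mem_lines.mp hL]

end plane

/-! ### The counting formula -/

section formula

variable {p : ℕ} [hp : Fact p.Prime] {P : Type*} [Group P] [Finite P]

/-- Number of subgroups of order `n` with given image. -/
noncomputable def img (f : P →* Pl p) (n : ℕ) (B : Subgroup (Pl p)) : ℕ :=
  Nat.card {H : Subgroup P // Nat.card H = n ∧ H.map f = B}

lemma cnt_eq_sum_img (f : P →* Pl p) (n : ℕ) :
    cnt P n = ∑ B : Subgroup (Pl p), img f n B := by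
  classical
  have e : {H : Subgroup P // Nat.card H = n} ≃
      Σ B : Subgroup (Pl p), {H : Subgroup P // Nat.card H = n ∧ H.map f = B} :=
    { toFun := fun H => ⟨H.1.map f, ⟨H.1, H.2, rfl⟩⟩
      invFun := fun s => ⟨s.2.1, s.2.2.1⟩
      left_inv := fun _ => rfl
      right_inv := by
        rintro ⟨B, H, h1, rfl⟩
        rfl }
  unfold cnt img
  rw [Nat.card_congr e, Nat.card_sigma]

open scoped Classical in
lemma cntIn_comap_eq_sum (f : P →* Pl p) (n : ℕ) (B₀ : Subgroup (Pl p)) :
    cntIn (B₀.comap f) n = ∑ B ∈ Finset.univ.filter (fun B : Subgroup (Pl p) => B ≤ B₀), img f n B := by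
  classical
  have e : {H : Subgroup P // H ≤ B₀.comap f ∧ Nat.card H = n} ≃
      Σ B : {B : Subgroup (Pl p) // B ≤ B₀}, {H : Subgroup P // Nat.card H = n ∧ H.map f = B.1} :=
    { toFun := fun H => ⟨⟨H.1.map f, (Subgroup.map_le_iff_le_comap).mpr H.2.1⟩, ⟨H.1, H.2.2, rfl⟩⟩
      invFun := fun s => ⟨s.2.1, by
        rw [← Subgroup.map_le_iff_le_comap, s.2.2.2]
        exact s.1.2, s.2.2.1⟩
      left_inv := fun _ => rfl
      right_inv := by
        rintro ⟨⟨B, hB⟩, H, h1, h2⟩
        have h2' : H.map f = B := h2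
        subst h2'
        rfl }
  unfold cntIn
  rw [Nat.card_congr e, Nat.card_sigma]
  unfold img
  rw [Finset.sum_subtype (Finset.univ.filter (fun B : Subgroup (Pl p) => B ≤ B₀))
    (p := fun B => B ≤ B₀) (by simp)]

lemma cntIn_line (f : P →* Pl p) (n : ℕ) {L : Subgroup (Pl p)} (hL : L ∈ lines p) :
    cntIn (L.comap f) n = img f n ⊥ + img f n L := by
  classical
  rw [cntIn_comap_eq_sum]
  have : Finset.univ.filter (fun B : Subgroup (Pl p) => B ≤ L) = {⊥, L} := by
    ext B
    simp only [Finset.mem_filter, Finset.mem_univ, true_and, Finset.mem_insert, Finset.mem_singleton]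
    constructor
    · exact le_line_cases hL
    · rintro (rfl | rfl)
      · exact bot_le
      · exact le_rfl
  rw [this, Finset.sum_pair (line_ne_bot hL).symm]

lemma cntIn_ker (f : P →* Pl p) (n : ℕ) : cntIn f.ker n = img f n ⊥ := by
  apply Nat.card_congr
  apply Equiv.subtypeEquivRight
  intro H
  rw [and_comm, Subgroup.map_eq_bot_iff]

/-- The counting formula. -/
theorem counting_formula (f : P →* Pl p) (n : ℕ) :
    cnt P n + p * cntIn f.ker n =
      ∑ L ∈ lines p, cntIn (L.comap f) n + img f n ⊤ := by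
  classical
  have h1 := cnt_eq_sum_img f n
  have huniv : (Finset.univ : Finset (Subgroup (Pl p))) = insert ⊥ (insert ⊤ (lines p)) := by
    ext B
    simp only [Finset.mem_univ, Finset.mem_insert, true_iff]
    rcases subgroup_Pl_cases B with h | h | h
    · exact Or.inl h
    · exact Or.inr (Or.inr h)
    · exact Or.inr (Or.inl h)
  have hbt : (⊥ : Subgroup (Pl p)) ≠ ⊤ := by
    intro h
    have h2 := congrArg (fun B : Subgroup (Pl p) => Nat.card B) h
    simp only [Subgroup.card_bot, Subgroup.card_top, card_Pl] at h2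
    have h3 := hp.out.two_le
    nlinarith
  have hnb : ⊥ ∉ insert ⊤ (lines p) := by
    rw [Finset.mem_insert]
    rintro (h | h)
    · exact hbt h
    · exact line_ne_bot h rfl
  have hnt : ⊤ ∉ lines p := fun h => line_ne_top h rfl
  rw [h1, huniv, Finset.sum_insert hnb, Finset.sum_insert hnt, cntIn_ker,
    Finset.sum_congr rfl (fun L hL => cntIn_line f n hL), Finset.sum_add_distrib, Finset.sum_const,
    card_lines, smul_eq_mul]
  ring

end formula

/-! ### Supplements of the kernel -/

section supplement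

variable {p : ℕ} [hp : Fact p.Prime] {P : Type*} [Group P]

/-- `ι c = z ^ c.val` -/
private def iot (z : P) (c : ZMod p) : P := z ^ c.val

private lemma iot_add {z : P} (hz : z ^ p = 1) (c d : ZMod p) : iot z (c + d) = iot z c * iot z d := by
  unfold iot
  rw [← pow_add, ZMod.val_add]
  exact (pow_eq_pow_mod _ hz).symm

private lemma iot_zero (z : P) : iot z (0 : ZMod p) = 1 := by
  simp [iot]

private lemma iot_mem_center {z : P} (hz : z ∈ center P) (c : ZMod p) : iot z c ∈ center P :=
  Subgroup.pow_mem _ hz _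

private lemma iot_f {z : P} (f : P →* Pl p) (hzf : f z = 1) (c : ZMod p) : f (iot z c) = 1 := by
  unfold iot
  rw [map_pow, hzf, one_pow]

/-- The linear forms on the plane. -/
private def chi (ξ : ZMod p × ZMod p) (v : Pl p) : ZMod p :=
  ξ.1 * (Multiplicative.toAdd v).1 + ξ.2 * (Multiplicative.toAdd v).2

private lemma chi_mul (ξ : ZMod p × ZMod p) (v w : Pl p) : chi ξ (v * w) = chi ξ v + chi ξ w := by
  show ξ.1 * ((Multiplicative.toAdd v).1 + (Multiplicative.toAdd w).1) +
    ξ.2 * ((Multiplicative.toAdd v).2 + (Multiplicative.toAdd w).2) = _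
  unfold chi
  ring

private lemma chi_add (ξ η : ZMod p × ZMod p) (v : Pl p) : chi (ξ + η) v = chi ξ v + chi η v := by
  unfold chi
  simp only [Prod.fst_add, Prod.snd_add]
  ring

private lemma chi_zero (v : Pl p) : chi (0 : ZMod p × ZMod p) v = 0 := by
  unfold chi
  simp

/-- The central automorphism attached to `ξ`. -/
private def alp (f : P →* Pl p) (z : P) (hz : z ∈ center P) (hzp : z ^ p = 1)
    (ξ : ZMod p × ZMod p) : P →* P where
  toFun x := x * iot z (chi ξ (f x))
  map_one' := by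
    have : chi ξ (f 1) = 0 := by
      rw [map_one]
      unfold chi
      simp
    rw [this, iot_zero, one_mul]
  map_mul' x y := by
    rw [map_mul, chi_mul, iot_add hzp]
    have h1 := Subgroup.mem_center_iff.mp (iot_mem_center hz (chi ξ (f x))) y
    calc x * y * (iot z (chi ξ (f x)) * iot z (chi ξ (f y)))
        = x * (y * iot z (chi ξ (f x))) * iot z (chi ξ (f y)) := by group
      _ = x * (iot z (chi ξ (f x)) * y) * iot z (chi ξ (f y)) := by rw [h1]
      _ = _ := by group

private lemma alp_apply (f : P →* Pl p) (z : P) (hz : z ∈ center P) (hzp : z ^ p = 1)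
    (ξ : ZMod p × ZMod p) (x : P) : alp f z hz hzp ξ x = x * iot z (chi ξ (f x)) := rfl

private lemma f_alp (f : P →* Pl p) (z : P) (hz : z ∈ center P) (hzp : z ^ p = 1) (hzf : f z = 1)
    (ξ : ZMod p × ZMod p) (x : P) : f (alp f z hz hzp ξ x) = f x := by
  rw [alp_apply, map_mul, iot_f f hzf, mul_one]

private lemma alp_add (f : P →* Pl p) (z : P) (hz : z ∈ center P) (hzp : z ^ p = 1) (hzf : f z = 1)
    (ξ η : ZMod p × ZMod p) (x : P) :
    alp f z hz hzp (ξ + η) x = alp f z hz hzp ξ (alp f z hz hzp η x) := by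
  rw [alp_apply f z hz hzp ξ (alp f z hz hzp η x), f_alp f z hz hzp hzf, alp_apply, alp_apply, chi_add,
    add_comm (chi ξ (f x)), iot_add hzp, mul_assoc]

private lemma alp_zero (f : P →* Pl p) (z : P) (hz : z ∈ center P) (hzp : z ^ p = 1) (x : P) :
    alp f z hz hzp 0 x = x := by
  rw [alp_apply, chi_zero, iot_zero, mul_one]

/-- `alp` as an automorphism. -/
private def aut (f : P →* Pl p) (z : P) (hz : z ∈ center P) (hzp : z ^ p = 1) (hzf : f z = 1)
    (ξ : ZMod p × ZMod p) : P ≃* P :=
  { alp f z hz hzp ξ with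
    invFun := alp f z hz hzp (-ξ)
    left_inv := fun x => by
      show alp f z hz hzp (-ξ) (alp f z hz hzp ξ x) = x
      rw [← alp_add f z hz hzp hzf, neg_add_cancel, alp_zero]
    right_inv := fun x => by
      show alp f z hz hzp ξ (alp f z hz hzp (-ξ) x) = x
      rw [← alp_add f z hz hzp hzf, add_neg_cancel, alp_zero] }

/-- Subgroups surjecting on the plane and avoiding `z`: a free action of a group of order `p²`. -/
private lemma sq_dvd_avoid [Finite P] (f : P →* Pl p) (z : P) (hz : z ∈ center P) (hzp : z ^ p = 1)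
    (hzf : f z = 1) (n : ℕ) :
    p ^ 2 ∣ Nat.card {H : Subgroup P // Nat.card H = n ∧ H.map f = ⊤ ∧ z ∉ H} := by
  classical
  let Y := {H : Subgroup P // Nat.card H = n ∧ H.map f = ⊤ ∧ z ∉ H}
  let a := aut f z hz hzp hzf
  have ha : ∀ ξ x, a ξ x = x * iot z (chi ξ (f x)) := fun _ _ => rfl
  have hfa : ∀ ξ x, f (a ξ x) = f x := fun ξ x => f_alp f z hz hzp hzf ξ x
  have haz : ∀ ξ, a ξ z = z := by
    intro ξ
    rw [ha, hzf]
    have : chi ξ (1 : Pl p) = 0 := by
      unfold chi
      simp
    rw [this, iot_zero, mul_one]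
  have hsmul : ∀ (ξ : ZMod p × ZMod p) (H : Y), Nat.card (H.1.map (a ξ).toMonoidHom) = n ∧
      (H.1.map (a ξ).toMonoidHom).map f = ⊤ ∧ z ∉ H.1.map (a ξ).toMonoidHom := by
    intro ξ H
    refine ⟨?_, ?_, ?_⟩
    · exact (Nat.card_congr (Subgroup.equivMapOfInjective H.1 _ (a ξ).injective).toEquiv.symm).trans H.2.1
    · refine Eq.trans ?_ H.2.2.1
      rw [Subgroup.map_map]
      congr 1
      exact MonoidHom.ext (fun x => hfa ξ x)
    · rintro ⟨x, hx, hxz⟩
      have : x = z := by
        apply (a ξ).injective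
        rw [haz]
        exact hxz
      exact H.2.2.2 (this ▸ hx)
  letI : MulAction (Pl p) Y :=
    { smul := fun ξ H => ⟨H.1.map (a (Multiplicative.toAdd ξ)).toMonoidHom, hsmul _ H⟩
      one_smul := fun H => by
        apply Subtype.ext
        show H.1.map (a (0 : ZMod p × ZMod p)).toMonoidHom = H.1
        ext x
        constructor
        · rintro ⟨y, hy, rfl⟩
          have : a 0 y = y := alp_zero f z hz hzp y
          show a 0 y ∈ H.1
          rwa [this]
        · intro hx
          exact ⟨x, hx, alp_zero f z hz hzp x⟩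
      mul_smul := fun ξ η H => by
        apply Subtype.ext
        show H.1.map (a (Multiplicative.toAdd ξ + Multiplicative.toAdd η)).toMonoidHom =
          (H.1.map (a (Multiplicative.toAdd η)).toMonoidHom).map (a (Multiplicative.toAdd ξ)).toMonoidHom
        rw [Subgroup.map_map]
        congr 1
        ext x
        exact alp_add f z hz hzp hzf _ _ x }
  have hsmuldef : ∀ (ξ : Pl p) (H : Y), (ξ • H).1 = H.1.map (a (Multiplicative.toAdd ξ)).toMonoidHom :=
    fun _ _ => rfl
  have hfree : ∀ (H : Y) (ξ : Pl p), ξ • H = H → ξ = 1 := by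
    intro H ξ hξ
    -- the form vanishes on `f H`, hence everywhere
    have h1 : ∀ h ∈ H.1, chi (Multiplicative.toAdd ξ) (f h) = 0 := by
      intro h hh
      have h2 : a (Multiplicative.toAdd ξ) h ∈ H.1 := by
        have : a (Multiplicative.toAdd ξ) h ∈ (ξ • H).1 := by
          rw [hsmuldef]
          exact ⟨h, hh, rfl⟩
        rwa [hξ] at this
      rw [ha] at h2
      have h3 : iot z (chi (Multiplicative.toAdd ξ) (f h)) ∈ H.1 :=
        (Subgroup.mul_mem_cancel_left _ hh).mp h2
      by_contra hne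
      set c := chi (Multiplicative.toAdd ξ) (f h) with hc
      -- `z` is a power of `z ^ c.val`
      have h4 : z ∈ H.1 := by
        have h5 : z = (iot z c) ^ (c⁻¹).val := by
          unfold iot
          rw [← pow_mul]
          have h6 : (c.val * (c⁻¹).val) % p = 1 % p := by
            have h7 : ((c.val * (c⁻¹).val : ℕ) : ZMod p) = ((1 : ℕ) : ZMod p) := by
              push_cast
              rw [ZMod.natCast_zmod_val, ZMod.natCast_zmod_val, mul_inv_cancel₀ hne]
            exact (ZMod.natCast_eq_natCast_iff' _ _ _).mp h7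
          rw [pow_eq_pow_mod _ hzp, h6, ← pow_eq_pow_mod _ hzp, pow_one]
        have h6 := Subgroup.pow_mem _ h3 (c⁻¹).val
        rwa [← h5] at h6
      exact H.2.2.2 h4
    have h2 : ∀ v : Pl p, chi (Multiplicative.toAdd ξ) v = 0 := by
      intro v
      have : v ∈ H.1.map f := by
        rw [H.2.2.1]
        exact Subgroup.mem_top v
      obtain ⟨h, hh, rfl⟩ := this
      exact h1 h hh
    have h3 := h2 (Multiplicative.ofAdd (1, 0))
    have h4 := h2 (Multiplicative.ofAdd (0, 1))
    simp only [chi, toAdd_ofAdd, mul_one, mul_zero, add_zero, zero_add] at h3 h4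
    apply Multiplicative.toAdd.injective
    exact Prod.ext h3 h4
  have hdvd := Cfsg.Agent.Lib.ExtPrim2.card_dvd_of_free (A := Pl p) (X := Y) hfree
  rwa [card_Pl] at hdvd

/-- Subgroups surjecting on the plane and containing a central element `z` of the kernel. -/
private lemma card_contain [Finite P] (f : P →* Pl p) (z : P) (hzo : orderOf z = p)
    (n : ℕ) [hN : (zpowers z).Normal] (hle : zpowers z ≤ f.ker) :
    Nat.card {H : Subgroup P // Nat.card H = p * n ∧ H.map f = ⊤ ∧ z ∈ H} =
      img (QuotientGroup.lift (zpowers z) f hle) n ⊤ := by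
  classical
  set N := zpowers z with hNdef
  have hNcard : Nat.card N = p := by rw [hNdef, Nat.card_zpowers, hzo]
  set fb : P ⧸ N →* Pl p := QuotientGroup.lift N f hle with hfb
  have hfbmk : ∀ x : P, fb (x : P ⧸ N) = f x := fun x => rfl
  have hA : ∀ H : Subgroup (P ⧸ N), Nat.card H = n → H.map fb = ⊤ →
      Nat.card (H.comap (QuotientGroup.mk' N)) = p * n ∧ (H.comap (QuotientGroup.mk' N)).map f = ⊤ ∧
        z ∈ H.comap (QuotientGroup.mk' N) := by
    intro H h1 h2
    refine ⟨?_, ?_, ?_⟩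
    · rw [Cfsg.Agent.Lib.NormalKlein.card_comap_mk N H, h1, hNcard]
    · rw [← h2]
      ext v
      constructor
      · rintro ⟨x, hx, rfl⟩
        exact ⟨(x : P ⧸ N), hx, rfl⟩
      · rintro ⟨y, hy, rfl⟩
        obtain ⟨x, rfl⟩ := QuotientGroup.mk_surjective y
        exact ⟨x, hy, rfl⟩
    · show ((z : P) : P ⧸ N) ∈ H
      have : ((z : P) : P ⧸ N) = 1 :=
        (QuotientGroup.eq_one_iff z).mpr (Subgroup.mem_zpowers z)
      rw [this]
      exact H.one_mem
  have hC : ∀ H : Subgroup P, z ∈ H → (H.map (QuotientGroup.mk' N)).comap (QuotientGroup.mk' N) = H := by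
    intro H hzH
    rw [Subgroup.comap_map_eq, QuotientGroup.ker_mk']
    exact sup_eq_left.mpr ((Subgroup.zpowers_le).mpr hzH)
  have hB : ∀ H : Subgroup P, Nat.card H = p * n → H.map f = ⊤ → z ∈ H →
      Nat.card (H.map (QuotientGroup.mk' N)) = n ∧ (H.map (QuotientGroup.mk' N)).map fb = ⊤ := by
    intro H h1 h2 h3
    refine ⟨?_, ?_⟩
    · have h4 := Cfsg.Agent.Lib.NormalKlein.card_comap_mk N (H.map (QuotientGroup.mk' N))
      rw [hC H h3, h1, hNcard] at h4
      exact (Nat.eq_of_mul_eq_mul_left hp.out.pos h4).symm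
    · rw [← h2, Subgroup.map_map]
      congr 1
  apply Nat.card_congr
  symm
  exact
    { toFun := fun H => ⟨H.1.comap (QuotientGroup.mk' N), hA H.1 H.2.1 H.2.2⟩
      invFun := fun H => ⟨H.1.map (QuotientGroup.mk' N), hB H.1 H.2.1 H.2.2.1 H.2.2.2⟩
      left_inv := fun H => Subtype.ext (Subgroup.map_comap_eq_self_of_surjective
        (QuotientGroup.mk'_surjective N) _)
      right_inv := fun H => Subtype.ext (hC H.1 H.2.2.2) }

lemma card_split {α : Type*} [Finite α] (A Q : α → Prop) :
    Nat.card {x // A x} = Nat.card {x // A x ∧ Q x} + Nat.card {x // A x ∧ ¬ Q x} := by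
  classical
  cases nonempty_fintype α
  simp only [Nat.card_eq_fintype_card, Fintype.card_subtype]
  rw [← Finset.card_filter_add_card_filter_not (s := Finset.univ.filter A) Q, Finset.filter_filter,
    Finset.filter_filter]

/-- `p²` divides the number of proper subgroups of order `p^k` which surject onto the plane. -/
theorem sq_dvd_img_top : ∀ (m : ℕ) (P : Type u) [Group P] [Finite P], IsPGroup p P → Nat.card P = m →
    ∀ f : P →* Pl p, Function.Surjective f → ∀ k, p ^ k < m → p ^ 2 ∣ img f (p ^ k) ⊤ := by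
  intro m
  induction m using Nat.strong_induction_on with
  | _ m ih =>
  intro P _ _ hP hm f hf k hk
  by_cases hker : f.ker = ⊥
  · have : IsEmpty {H : Subgroup P // Nat.card H = p ^ k ∧ H.map f = ⊤} := ⟨by
      rintro ⟨H, h1, h2⟩
      have h3 : H = ⊤ := by
        have := Subgroup.comap_map_eq_self_of_injective ((MonoidHom.ker_eq_bot_iff f).mp hker) H
        rw [h2] at this
        simpa using this.symm
      rw [h3, Subgroup.card_top, hm] at h1
      omega⟩
    unfold img
    rw [Nat.card_of_isEmpty]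
    simp
  · obtain ⟨z₀, hzK, hz1, hzc⟩ := Cfsg.Agent.Lib.NormalKlein.exists_central_of_normal hP f.ker inferInstance hker
    -- a central element of order `p`
    have hdz : p ∣ orderOf z₀ := by
      obtain ⟨s, hs⟩ := IsPGroup.iff_orderOf.1 hP z₀
      rcases s with _ | s
      · rw [pow_zero] at hs
        exact absurd (orderOf_eq_one_iff.1 hs) hz1
      · rw [hs]; exact dvd_pow_self p (by omega)
    set z := z₀ ^ (orderOf z₀ / p) with hzdef
    have hzo : orderOf z = p := orderOf_pow_orderOf_div (orderOf_pos z₀).ne' hdz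
    have hz : z ∈ center P := Subgroup.pow_mem _ hzc _
    have hzf : f z = 1 := Subgroup.pow_mem _ hzK _
    have hzp : z ^ p = 1 := by rw [← hzo]; exact pow_orderOf_eq_one z
    haveI hN : (zpowers z).Normal := by
      constructor
      intro a ha g
      have := Subgroup.mem_center_iff.mp ((Subgroup.zpowers_le).mpr hz ha) g
      rw [this]
      simpa using ha
    have hle : zpowers z ≤ f.ker := (Subgroup.zpowers_le).mpr hzf
    have hNcard : Nat.card (zpowers z) = p := by rw [Nat.card_zpowers, hzo]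
    have hQcard : Nat.card P = p * Nat.card (P ⧸ zpowers z) := by
      rw [Subgroup.card_eq_card_quotient_mul_card_subgroup (zpowers z), hNcard, mul_comm]
    unfold img
    rw [card_split _ (fun H : Subgroup P => z ∈ H)]
    apply Nat.dvd_add
    · rcases k with _ | k
      · -- no subgroup of order one contains `z`
        have : IsEmpty {H : Subgroup P // (Nat.card H = p ^ 0 ∧ H.map f = ⊤) ∧ z ∈ H} := ⟨by
          rintro ⟨H, ⟨h1, -⟩, h2⟩
          have h3 : H = ⊥ := by
            rw [← Subgroup.card_eq_one]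
            simpa using h1
          rw [h3, Subgroup.mem_bot] at h2
          rw [h2, orderOf_one] at hzo
          exact hp.out.one_lt.ne hzo⟩
        rw [Nat.card_of_isEmpty]
        simp
      · have e : {H : Subgroup P // (Nat.card H = p ^ (k + 1) ∧ H.map f = ⊤) ∧ z ∈ H} ≃
            {H : Subgroup P // Nat.card H = p * p ^ k ∧ H.map f = ⊤ ∧ z ∈ H} :=
          Equiv.subtypeEquivRight (fun H => by rw [pow_succ']; tauto)
        rw [Nat.card_congr e, card_contain f z hzo (p ^ k) hle]
        have hlt : Nat.card (P ⧸ zpowers z) < m := by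
          rw [← hm, hQcard]
          have h1 : 0 < Nat.card (P ⧸ zpowers z) := Nat.card_pos
          have h2 := hp.out.two_le
          nlinarith
        refine ih _ hlt (P ⧸ zpowers z) (hP.to_quotient _) rfl _ ?_ k ?_
        · intro v
          obtain ⟨x, rfl⟩ := hf v
          exact ⟨(x : P ⧸ zpowers z), rfl⟩
        · have h1 : p * p ^ k < p * Nat.card (P ⧸ zpowers z) := by
            rw [← hQcard, hm, ← pow_succ']
            exact hk
          exact Nat.lt_of_mul_lt_mul_left h1
    · have e : {H : Subgroup P // (Nat.card H = p ^ k ∧ H.map f = ⊤) ∧ ¬ z ∈ H} ≃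
          {H : Subgroup P // Nat.card H = p ^ k ∧ H.map f = ⊤ ∧ z ∉ H} :=
        Equiv.subtypeEquivRight (fun H => by tauto)
      rw [Nat.card_congr e]
      exact sq_dvd_avoid f z hz hzp hzf _

end supplement


/-! ### Basic counting -/

section basics

variable {p : ℕ} [hp : Fact p.Prime]

lemma cyclic_sub_unique {C : Type*} [Group C] [Finite C] [IsCyclic C] (A B : Subgroup C)
    (h : Nat.card A = Nat.card B) : A = B := by
  classical
  cases nonempty_fintype C
  have hA : ∀ D : Subgroup C, (D : Set C) = {x : C | x ^ Nat.card D = 1} := by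
    intro D
    refine Set.eq_of_subset_of_ncard_le ?_ ?_ (Set.toFinite _)
    · intro x hx
      have h0 := pow_card_eq_one' (x := (⟨x, hx⟩ : D))
      have h0' := congrArg Subtype.val h0
      exact h0'
    · have h1 := IsCyclic.card_pow_eq_one_le (α := C) (n := Nat.card D) Nat.card_pos
      have h2 : ({x : C | x ^ Nat.card D = 1} : Set C).ncard = (Finset.univ.filter (fun x : C => x ^ Nat.card D = 1)).card := by
        rw [← Set.ncard_coe_finset]
        congr 1
        ext x
        simp
      have h3 : ((D : Set C)).ncard = Nat.card D := (Nat.card_coe_set_eq (D : Set C)).symm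
      rw [h2, h3]
      exact h1
  apply SetLike.coe_injective
  rw [hA A, hA B, h]

lemma cnt_cyclic {C : Type*} [Group C] [Finite C] [IsCyclic C] {k : ℕ} (hk : p ^ k ∣ Nat.card C) :
    cnt C (p ^ k) = 1 := by
  obtain ⟨H, hH⟩ := Sylow.exists_subgroup_card_pow_prime p hk
  unfold cnt
  rw [Nat.card_eq_one_iff_unique]
  refine ⟨⟨?_⟩, ⟨⟨H, hH⟩⟩⟩
  rintro ⟨A, hA⟩ ⟨B, hB⟩
  exact Subtype.ext (cyclic_sub_unique A B (hA.trans hB.symm))

/-- Cardinality of a preimage under a surjection. -/
lemma card_comap_surj {P Q : Type*} [Group P] [Group Q] [Finite P] (f : P →* Q)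
    (hf : Function.Surjective f) (B : Subgroup Q) :
    Nat.card (B.comap f) = Nat.card f.ker * Nat.card B := by
  haveI : Finite Q := Finite.of_surjective f hf
  have h1 : (B.comap f).index = B.index := Subgroup.index_comap_of_surjective B hf
  have h2 := Subgroup.card_mul_index (B.comap f)
  have h3 := Subgroup.card_mul_index B
  have h4 := Subgroup.card_eq_card_quotient_mul_card_subgroup f.ker
  have h5 : Nat.card (P ⧸ f.ker) = Nat.card Q :=
    Nat.card_congr (QuotientGroup.quotientKerEquivOfSurjective f hf).toEquiv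
  rw [h5, ← h3] at h4
  rw [h1, h4] at h2
  have hi : 0 < B.index := Nat.pos_of_ne_zero Subgroup.index_ne_zero_of_finite
  have h6 : Nat.card (B.comap f) * B.index = Nat.card f.ker * Nat.card B * B.index := by
    rw [h2]; ring
  exact Nat.eq_of_mul_eq_mul_right hi h6

lemma card_ker {P : Type*} [Group P] [Finite P] (f : P →* Pl p) (hf : Function.Surjective f) {m : ℕ}
    (hm : Nat.card P = p ^ (m + 2)) : Nat.card f.ker = p ^ m := by
  have h4 := Subgroup.card_eq_card_quotient_mul_card_subgroup f.ker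
  have h5 : Nat.card (P ⧸ f.ker) = Nat.card (Pl p) :=
    Nat.card_congr (QuotientGroup.quotientKerEquivOfSurjective f hf).toEquiv
  rw [h5, card_Pl, hm, pow_add, mul_comm] at h4
  exact (Nat.eq_of_mul_eq_mul_left (pow_pos hp.out.pos _) h4).symm

lemma card_comap_line {P : Type*} [Group P] [Finite P] (f : P →* Pl p) (hf : Function.Surjective f)
    {m : ℕ} (hm : Nat.card P = p ^ (m + 2)) {L : Subgroup (Pl p)} (hL : L ∈ lines p) :
    Nat.card (L.comap f) = p ^ (m + 1) := by
  rw [card_comap_surj f hf, card_ker f hf hm, mem_lines.mp hL, pow_succ]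

/-- A noncyclic `p`-group maps onto the plane. -/
lemma exists_surj_plane {P : Type*} [Group P] [Finite P] (hP : IsPGroup p P) (hnc : ¬ IsCyclic P) :
    ∃ f : P →* Pl p, Function.Surjective f := by
  classical
  haveI : Nontrivial P := by
    by_contra h
    rw [not_nontrivial_iff_subsingleton] at h
    exact hnc inferInstance
  obtain ⟨M₁, hM₁⟩ : ∃ M : Subgroup P, IsCoatom M := by
    obtain h | ⟨M, hM, -⟩ := eq_top_or_exists_le_coatom (⊥ : Subgroup P)
    · exact absurd h bot_ne_top
    · exact ⟨M, hM⟩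
  obtain ⟨x, hx⟩ : ∃ x, x ∉ M₁ := by
    by_contra h
    push Not at h
    exact hM₁.1 (eq_top_iff.mpr (fun y _ => h y))
  have hzx : zpowers x ≠ ⊤ := by
    intro h
    exact hnc ⟨⟨x, fun y => by
      have : y ∈ zpowers x := h ▸ Subgroup.mem_top y
      exact this⟩⟩
  obtain ⟨M₂, hM₂, hxM₂⟩ : ∃ M : Subgroup P, IsCoatom M ∧ zpowers x ≤ M := by
    obtain h | ⟨M, hM, hle⟩ := eq_top_or_exists_le_coatom (zpowers x)
    · exact absurd h hzx
    · exact ⟨M, hM, hle⟩
  have hne : M₁ ≠ M₂ := by
    rintro rfl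
    exact hx (hxM₂ (mem_zpowers x))
  have hn₁ : M₁.Normal := Cfsg.Agent.Lib.Frat.normal_of_commutator_le
    ((Cfsg.Agent.Lib.Frat.commutator_le_frattini hP).trans (frattini_le_coatom hM₁))
  have hn₂ : M₂.Normal := Cfsg.Agent.Lib.Frat.normal_of_commutator_le
    ((Cfsg.Agent.Lib.Frat.commutator_le_frattini hP).trans (frattini_le_coatom hM₂))
  have hi₁ := Cfsg.Agent.Lib.Frat.index_eq_of_isCoatom hP hM₁
  have hi₂ := Cfsg.Agent.Lib.Frat.index_eq_of_isCoatom hP hM₂
  have hsup : M₁ ⊔ M₂ = ⊤ := (hM₁.codisjoint_of_ne hM₂ hne).eq_top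
  let e₁ : P ⧸ M₁ ≃* Multiplicative (ZMod p) := mulEquivOfPrimeCardEq (p := p) hi₁ (by simp)
  let e₂ : P ⧸ M₂ ≃* Multiplicative (ZMod p) := mulEquivOfPrimeCardEq (p := p) hi₂ (by simp)
  let g₁ : P →* Multiplicative (ZMod p) := e₁.toMonoidHom.comp (QuotientGroup.mk' M₁)
  let g₂ : P →* Multiplicative (ZMod p) := e₂.toMonoidHom.comp (QuotientGroup.mk' M₂)
  have hg₁ : Function.Surjective g₁ := e₁.surjective.comp (QuotientGroup.mk'_surjective M₁)
  have hg₂ : Function.Surjective g₂ := e₂.surjective.comp (QuotientGroup.mk'_surjective M₂)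
  have hk₁ : ∀ y ∈ M₁, g₁ y = 1 := by
    intro y hy
    show e₁ ((y : P) : P ⧸ M₁) = 1
    rw [(QuotientGroup.eq_one_iff y).mpr hy, map_one]
  have hk₂ : ∀ y ∈ M₂, g₂ y = 1 := by
    intro y hy
    show e₂ ((y : P) : P ⧸ M₂) = 1
    rw [(QuotientGroup.eq_one_iff y).mpr hy, map_one]
  let f : P →* Pl p :=
    { toFun := fun y => Multiplicative.ofAdd (Multiplicative.toAdd (g₁ y), Multiplicative.toAdd (g₂ y))
      map_one' := by simp
      map_mul' := fun a b => by simp; rfl }
  refine ⟨f, ?_⟩
  intro v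
  obtain ⟨u, hu⟩ := hg₁ (Multiplicative.ofAdd (Multiplicative.toAdd v).1)
  obtain ⟨w, hw⟩ := hg₂ (Multiplicative.ofAdd (Multiplicative.toAdd v).2)
  obtain ⟨a, ha, b, hb, hab⟩ := Subgroup.mem_sup_of_normal_right.mp (show u ∈ M₁ ⊔ M₂ from hsup ▸ Subgroup.mem_top u)
  obtain ⟨a', ha', b', hb', hab'⟩ := Subgroup.mem_sup_of_normal_right.mp (show w ∈ M₁ ⊔ M₂ from hsup ▸ Subgroup.mem_top w)
  refine ⟨b * a', ?_⟩
  have h1 : g₁ b = Multiplicative.ofAdd (Multiplicative.toAdd v).1 := by
    rw [← hu, ← hab, map_mul, hk₁ a ha, one_mul]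
  have h2 : g₂ a' = Multiplicative.ofAdd (Multiplicative.toAdd v).2 := by
    rw [← hw, ← hab', map_mul, hk₂ b' hb', mul_one]
  have e1 : g₁ (b * a') = Multiplicative.ofAdd (Multiplicative.toAdd v).1 := by
    rw [map_mul, hk₁ a' ha', mul_one, h1]
  have e2 : g₂ (b * a') = Multiplicative.ofAdd (Multiplicative.toAdd v).2 := by
    rw [map_mul, hk₂ b hb, one_mul, h2]
  show Multiplicative.ofAdd (Multiplicative.toAdd (g₁ (b * a')), Multiplicative.toAdd (g₂ (b * a'))) = v
  rw [e1, e2]
  rfl

end basics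


/-! ### Groups with a cyclic maximal subgroup -/

section lemmaC

variable {p : ℕ} [hp : Fact p.Prime]

/-- Distinct lines span the plane. -/
lemma exists_zpow_of_ne {v u : Pl p} (hv : v ≠ 1) (hu : u ≠ 1) (hne : zpowers v ≠ zpowers u)
    (w : Pl p) : ∃ i j : ℤ, w = v ^ i * u ^ j := by
  have hsup : zpowers v ⊔ zpowers u = ⊤ := by
    rcases subgroup_Pl_cases (zpowers v ⊔ zpowers u) with h | h | h
    · have h1 : v ∈ zpowers v ⊔ zpowers u := (le_sup_left : zpowers v ≤ _) (mem_zpowers v)
      rw [h, Subgroup.mem_bot] at h1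
      exact absurd h1 hv
    · have hc := mem_lines.mp h
      have e1 := eq_zpowers_of_line hc ((le_sup_left : zpowers v ≤ _) (mem_zpowers v)) hv
      have e2 := eq_zpowers_of_line hc ((le_sup_right : zpowers u ≤ _) (mem_zpowers u)) hu
      exact absurd (e1.symm.trans e2) hne
    · exact h
  have hw : w ∈ zpowers v ⊔ zpowers u := hsup ▸ Subgroup.mem_top w
  obtain ⟨a, ha, b, hb, rfl⟩ := Subgroup.mem_sup.mp hw
  obtain ⟨i, rfl⟩ := Subgroup.mem_zpowers_iff.mp ha
  obtain ⟨j, rfl⟩ := Subgroup.mem_zpowers_iff.mp hb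
  exact ⟨i, j, rfl⟩

/-- The congruence `r ≡ 1 mod p^(m+1)` from `r^p ≡ 1 mod p^(m+2)`, `p` odd. -/
lemma exists_of_pow_modEq (hp2 : p ≠ 2) {r m : ℕ} (h : r ^ p ≡ 1 [MOD p ^ (m + 2)]) :
    ∃ t : ℕ, r = 1 + p ^ (m + 1) * t := by
  have hodd : Odd p := hp.out.odd_of_ne_two hp2
  have h1 : r ^ p ≡ 1 [MOD p] := h.of_dvd (dvd_pow_self p (by omega))
  have h2 : (r : ZMod p) = 1 := by
    have h3 : ((r ^ p : ℕ) : ZMod p) = ((1 : ℕ) : ZMod p) := (ZMod.natCast_eq_natCast_iff _ _ _).mpr h1
    push_cast at h3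
    rwa [ZMod.pow_card] at h3
  have h2' : r ≡ 1 [MOD p] := (ZMod.natCast_eq_natCast_iff _ _ _).mp (by simpa using h2)
  have hr1 : 1 ≤ r := by
    rcases Nat.eq_zero_or_pos r with rfl | h'
    · exfalso
      have : (0 : ZMod p) = 1 := by simpa using h2
      exact zero_ne_one this
    · exact h'
  by_cases hr : r = 1
  · exact ⟨0, by simp [hr]⟩
  have hlt : 1 < r := by omega
  have hdvd : p ∣ r - 1 := (Nat.modEq_iff_dvd' hr1).mp h2'.symm
  have hnd : ¬ p ∣ r := by
    intro h3
    have h4 : (r : ZMod p) = 0 := (ZMod.natCast_eq_zero_iff _ _).mpr h3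
    rw [h2] at h4
    exact one_ne_zero h4
  have hlte := padicValNat.pow_sub_pow (p := p) hodd hlt hdvd hnd (n := p) hp.out.ne_zero
  rw [one_pow, padicValNat_self] at hlte
  have hrp1 : 1 ≤ r ^ p := Nat.one_le_pow _ _ (by omega)
  have hne : r ^ p - 1 ≠ 0 := by
    have : 1 < r ^ p := Nat.one_lt_pow hp.out.ne_zero hlt
    omega
  have hdvd2 : p ^ (m + 2) ∣ r ^ p - 1 := (Nat.modEq_iff_dvd' hrp1).mp h.symm
  have hle := (padicValNat_dvd_iff_le hne).mp hdvd2
  have hle2 : m + 1 ≤ padicValNat p (r - 1) := by omega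
  have hne2 : r - 1 ≠ 0 := by omega
  have hdvd3 := (padicValNat_dvd_iff_le hne2).mpr hle2
  obtain ⟨t, ht⟩ := hdvd3
  exact ⟨t, by omega⟩

variable {P : Type*} [Group P] [Finite P]

/-- Structure of a noncyclic `p`-group (`p` odd) with a cyclic maximal subgroup. -/
theorem lemmaC (hp2 : p ≠ 2) {m : ℕ} (hm : Nat.card P = p ^ (m + 3)) (f : P →* Pl p)
    (hf : Function.Surjective f) (hnc : ¬ IsCyclic P) {L₀ : Subgroup (Pl p)} (hL₀ : L₀ ∈ lines p)
    (hcyc : IsCyclic (L₀.comap f)) :
    ∃ L₁ ∈ lines p, ¬ IsCyclic (L₁.comap f) ∧ ∀ L ∈ lines p, L ≠ L₁ → IsCyclic (L.comap f) := by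
  classical
  have hP : IsPGroup p P := IsPGroup.of_card hm
  have hpo := hp.out
  set Z := L₀.comap f with hZdef
  have hZcard : Nat.card Z = p ^ (m + 2) := card_comap_line f hf (m := m + 1) hm hL₀
  obtain ⟨g₀, hg₀⟩ := IsCyclic.exists_generator (α := Z)
  set z : P := (g₀ : P) with hzdef
  have hzo : orderOf z = p ^ (m + 2) := by
    rw [hzdef, Subgroup.orderOf_coe, orderOf_eq_card_of_forall_mem_zpowers hg₀, hZcard]
  have hzZ : z ∈ Z := g₀.2
  have hZz : Z = zpowers z := by
    symm
    apply Subgroup.eq_of_le_of_card_ge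
    · exact (Subgroup.zpowers_le).mpr hzZ
    · rw [hZcard, Nat.card_zpowers, hzo]
  set K := f.ker with hKdef
  have hKcard : Nat.card K = p ^ (m + 1) := card_ker f hf (m := m + 1) hm
  have hKpow : ∀ x : P, x ^ p ∈ K := by
    intro x
    rw [hKdef, MonoidHom.mem_ker, map_pow]
    exact pow_p_Pl _
  have hKZ : K ≤ Z := by
    intro x hx
    show f x ∈ L₀
    rw [(MonoidHom.mem_ker).mp hx]
    exact L₀.one_mem
  have hzpo : orderOf (z ^ p) = p ^ (m + 1) := by
    rw [orderOf_pow_of_dvd hpo.ne_zero (by rw [hzo]; exact dvd_pow_self p (by omega)), hzo]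
    rw [pow_succ p (m + 1)]
    exact Nat.mul_div_cancel _ hpo.pos
  have hKz : K = zpowers (z ^ p) := by
    symm
    apply Subgroup.eq_of_le_of_card_ge
    · exact (Subgroup.zpowers_le).mpr (hKpow z)
    · rw [hKcard, Nat.card_zpowers, hzpo]
  -- the central element of order `p`
  set ω : P := z ^ p ^ (m + 1) with hωdef
  have hωo : orderOf ω = p := by
    rw [hωdef, orderOf_pow_of_dvd (pow_ne_zero _ hpo.ne_zero) (by rw [hzo]; exact pow_dvd_pow p (by omega)), hzo]
    rw [pow_succ p (m + 1)]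
    exact Nat.mul_div_cancel_left _ (pow_pos hpo.pos _)
  have hωp : ω ^ p = 1 := by rw [← hωo]; exact pow_orderOf_eq_one ω
  have hωK : ω ∈ K := by
    rw [hKz, hωdef, pow_succ' p m, pow_mul]
    exact Subgroup.pow_mem _ (mem_zpowers _) _
  have hZn : Z.Normal := by
    rw [hZdef]
    exact Subgroup.Normal.comap inferInstance f
  -- conjugation on `z`
  have hconj : ∀ g : P, ∃ t : ℕ, g * z * g⁻¹ = z * ω ^ t := by
    intro g
    have h1 : g * z * g⁻¹ ∈ zpowers z := by
      rw [← hZz]
      exact hZn.conj_mem z hzZ g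
    have h1' := (mem_powers_iff_mem_zpowers).mpr h1
    obtain ⟨r, hr⟩ := (Submonoid.mem_powers_iff _ _).mp h1'
    have hiter : ∀ i : ℕ, g ^ i * z * (g ^ i)⁻¹ = z ^ (r ^ i) := by
      intro i
      induction i with
      | zero => simp
      | succ i ih =>
        calc g ^ (i + 1) * z * (g ^ (i + 1))⁻¹ = g * (g ^ i * z * (g ^ i)⁻¹) * g⁻¹ := by
              rw [pow_succ']; group
          _ = g * z ^ (r ^ i) * g⁻¹ := by rw [ih]
          _ = (g * z * g⁻¹) ^ (r ^ i) := by rw [conj_pow]
          _ = z ^ (r ^ (i + 1)) := by rw [← hr, ← pow_mul, pow_succ']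
    have h2 : g ^ p * z * (g ^ p)⁻¹ = z := by
      have h3 : g ^ p ∈ zpowers z := by
        rw [← hZz]; exact hKZ (hKpow g)
      obtain ⟨i, hi⟩ := Subgroup.mem_zpowers_iff.mp h3
      rw [← hi]
      have : Commute (z ^ i) z := (Commute.refl z).zpow_left i
      rw [this.eq]
      group
    have h3 := hiter p
    rw [h2] at h3
    have h4 : r ^ p ≡ 1 [MOD p ^ (m + 2)] := by
      rw [← hzo, ← pow_eq_pow_iff_modEq, pow_one]
      exact h3.symm
    obtain ⟨t, ht⟩ := exists_of_pow_modEq hp2 h4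
    refine ⟨t, ?_⟩
    rw [← hr, ht, pow_add, pow_one, pow_mul]
  have hωc : ω ∈ center P := by
    rw [Subgroup.mem_center_iff]
    intro g
    obtain ⟨t, ht⟩ := hconj g
    have hcomm : Commute z (ω ^ t) := ((Commute.refl z).pow_right _).pow_right t
    have h1 : g * ω * g⁻¹ = ω := by
      rw [hωdef, ← conj_pow, ht, hcomm.mul_pow, ← hωdef, ← pow_mul, mul_comm, pow_mul]
      rw [show p ^ (m + 1) = p * p ^ m from pow_succ' p m, pow_mul, hωp, one_pow, one_pow, mul_one]
    calc g * ω = g * ω * g⁻¹ * g := by group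
      _ = ω * g := by rw [h1]
  have hΩc : zpowers ω ≤ center P := (Subgroup.zpowers_le).mpr hωc
  haveI hΩn : (zpowers ω).Normal := by
    constructor
    intro a ha g
    have := Subgroup.mem_center_iff.mp (hΩc ha) g
    rw [this]
    simpa using ha
  -- commutators with `Z` lie in `zpowers ω`
  have hcommZ : ∀ (g u : P), u ∈ Z → g * u * g⁻¹ * u⁻¹ ∈ zpowers ω := by
    intro g u hu
    rw [hZz] at hu
    obtain ⟨i, rfl⟩ := Subgroup.mem_zpowers_iff.mp hu
    obtain ⟨t, ht⟩ := hconj g
    have hcomm : Commute z (ω ^ t) := ((Commute.refl z).pow_right _).pow_right t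
    rw [← conj_zpow, ht, hcomm.mul_zpow]
    have : z ^ i * (ω ^ t) ^ i * (z ^ i)⁻¹ = (ω ^ t) ^ i := by
      have h2 : Commute (z ^ i) ((ω ^ t) ^ i) := hcomm.zpow_zpow i i
      rw [h2.eq]
      group
    rw [this]
    exact Subgroup.zpow_mem _ (Subgroup.pow_mem _ (mem_zpowers _) _) _
  -- the quotient by `zpowers ω` is abelian
  have hψ : zpowers ω ≤ ((QuotientGroup.mk' L₀).comp f).ker := by
    rw [Subgroup.zpowers_le, MonoidHom.mem_ker]
    show ((f ω : Pl p) : Pl p ⧸ L₀) = 1
    rw [(MonoidHom.mem_ker).mp hωK]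
    rfl
  let ψ : P ⧸ zpowers ω →* Pl p ⧸ L₀ := QuotientGroup.lift _ ((QuotientGroup.mk' L₀).comp f) hψ
  haveI hcycQ : IsCyclic (Pl p ⧸ L₀) := by
    have h1 : Nat.card (Pl p ⧸ L₀) = p := by
      have h2 := Subgroup.card_eq_card_quotient_mul_card_subgroup L₀
      rw [card_Pl, mem_lines.mp hL₀, sq] at h2
      exact (Nat.eq_of_mul_eq_mul_right hpo.pos h2).symm
    haveI : Fact (Nat.Prime (Nat.card (Pl p ⧸ L₀))) := ⟨by rw [h1]; exact hpo⟩
    exact isCyclic_of_prime_card rfl
  have hψker : ψ.ker ≤ center (P ⧸ zpowers ω) := by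
    intro q hq
    obtain ⟨x, rfl⟩ := QuotientGroup.mk_surjective q
    have hxZ : x ∈ Z := by
      have h1 : ((f x : Pl p) : Pl p ⧸ L₀) = 1 := hq
      exact (QuotientGroup.eq_one_iff (f x)).mp h1
    rw [Subgroup.mem_center_iff]
    intro q'
    obtain ⟨y, rfl⟩ := QuotientGroup.mk_surjective q'
    have h2 := hcommZ y x hxZ
    have h3 : ((y * x * y⁻¹ * x⁻¹ : P) : P ⧸ zpowers ω) = 1 := (QuotientGroup.eq_one_iff _).mpr h2
    have h4 : (y : P ⧸ zpowers ω) * (x : P ⧸ zpowers ω) * (y : P ⧸ zpowers ω)⁻¹ * (x : P ⧸ zpowers ω)⁻¹ = 1 := h3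
    have h5 : (y : P ⧸ zpowers ω) * (x : P ⧸ zpowers ω) = (x : P ⧸ zpowers ω) * (y : P ⧸ zpowers ω) := by
      calc (y : P ⧸ zpowers ω) * (x : P ⧸ zpowers ω)
          = ((y : P ⧸ zpowers ω) * (x : P ⧸ zpowers ω) * (y : P ⧸ zpowers ω)⁻¹ * (x : P ⧸ zpowers ω)⁻¹) * ((x : P ⧸ zpowers ω) * (y : P ⧸ zpowers ω)) := by group
        _ = _ := by rw [h4, one_mul]
    exact h5
  have hcommQ := commutative_of_cyclic_center_quotient ψ hψker
  have hcommAll : ∀ x y : P, y * x * y⁻¹ * x⁻¹ ∈ zpowers ω := by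
    intro x y
    rw [← QuotientGroup.eq_one_iff]
    show (y : P ⧸ zpowers ω) * (x : P ⧸ zpowers ω) * (y : P ⧸ zpowers ω)⁻¹ * (x : P ⧸ zpowers ω)⁻¹ = 1
    rw [hcommQ (y : P ⧸ zpowers ω) (x : P ⧸ zpowers ω)]
    group
  -- the `p`-power map is a homomorphism
  have hpow : ∀ x y : P, (x * y) ^ p = x ^ p * y ^ p := by
    intro x y
    set w := y * x * y⁻¹ * x⁻¹ with hw
    have hwm : w ∈ zpowers ω := hcommAll x y
    have hwc : w ∈ center P := hΩc hwm
    have hwx : Commute w x := Subgroup.mem_center_iff.mp hwc x |>.symm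
    have hwy : Commute w y := Subgroup.mem_center_iff.mp hwc y |>.symm
    have hyx : y * x = w * x * y := by rw [hw]; group
    have h1 := Cfsg.Agent.Lib.OddLocalA.mul_pow_of_central_comm x y w hyx hwx hwy p
    have hwp : w ^ p = 1 := by
      obtain ⟨i, hi⟩ := Subgroup.mem_zpowers_iff.mp hwm
      rw [← hi, ← zpow_natCast, ← zpow_mul, mul_comm, zpow_mul, zpow_natCast, hωp, one_zpow]
    have hdvd : p ∣ p.choose 2 := by
      refine hpo.dvd_choose_self (by norm_num) ?_
      have := hpo.two_le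
      omega
    obtain ⟨c, hc⟩ := hdvd
    rw [h1, hc, pow_mul, hwp, one_pow, mul_one]
  let π : P →* P :=
    { toFun := fun x => x ^ p
      map_one' := one_pow p
      map_mul' := hpow }
  have hπ : ∀ x, π x = x ^ p := fun _ => rfl
  -- an element of order `p` outside `Z`
  obtain ⟨y, hy⟩ : ∃ y, y ∉ Z := by
    by_contra h
    push Not at h
    have : Z = ⊤ := eq_top_iff.mpr (fun x _ => h x)
    rw [this, Subgroup.card_top, hm] at hZcard
    have h1 := Nat.pow_right_injective hpo.two_le hZcard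
    omega
  have hy1 : y ^ p ∈ zpowers (z ^ p) := by rw [← hKz]; exact hKpow y
  obtain ⟨s, hs⟩ := Subgroup.mem_zpowers_iff.mp hy1
  set e := y * (z ^ s)⁻¹ with hedef
  have hzsZ : z ^ s ∈ Z := by rw [hZz]; exact Subgroup.zpow_mem _ (mem_zpowers z) s
  have heZ : e ∉ Z := by
    intro h
    apply hy
    have : y = e * z ^ s := by rw [hedef]; group
    rw [this]
    exact Z.mul_mem h hzsZ
  have hep : e ^ p = 1 := by
    have h2 : π e = π y * (π (z ^ s))⁻¹ := by rw [hedef, map_mul, map_inv]
    have h3 : (z ^ s) ^ p = (z ^ p) ^ s := by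
      rw [← zpow_natCast, ← zpow_natCast, ← zpow_mul, ← zpow_mul, mul_comm]
    rw [hπ, hπ, hπ, h3, ← hs] at h2
    rw [h2]
    group
  have he1 : e ≠ 1 := by
    rintro h
    apply heZ
    rw [h]
    exact Z.one_mem
  have heo : orderOf e = p := orderOf_eq_prime hep he1
  have hfe : f e ≠ 1 := by
    intro h
    exact heZ (hKZ ((MonoidHom.mem_ker).mpr h))
  set u := f e with hudef
  have hL₁ : zpowers u ∈ lines p := mem_lines.mpr (card_zpowers_Pl hfe)
  refine ⟨zpowers u, hL₁, ?_, ?_⟩
  · -- this preimage is not cyclic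
    intro hcy
    have hem : e ∈ (zpowers u).comap f := mem_zpowers u
    have hωm : ω ∈ (zpowers u).comap f := by
      show f ω ∈ zpowers u
      rw [(MonoidHom.mem_ker).mp hωK]
      exact Subgroup.one_mem _
    have h1 := cyclic_sub_unique (zpowers (⟨e, hem⟩ : (zpowers u).comap f))
      (zpowers (⟨ω, hωm⟩ : (zpowers u).comap f)) (by
        rw [Nat.card_zpowers, Nat.card_zpowers]
        have h1 : orderOf (⟨e, hem⟩ : (zpowers u).comap f) = p := by
          rw [← Subgroup.orderOf_coe]; exact heo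
        have h2 : orderOf (⟨ω, hωm⟩ : (zpowers u).comap f) = p := by
          rw [← Subgroup.orderOf_coe]; exact hωo
        rw [h1, h2])
    have h2 : (⟨e, hem⟩ : (zpowers u).comap f) ∈ zpowers (⟨ω, hωm⟩ : (zpowers u).comap f) := by
      rw [← h1]
      exact mem_zpowers _
    obtain ⟨i, hi⟩ := Subgroup.mem_zpowers_iff.mp h2
    have h3 : ω ^ i = e := congrArg Subtype.val hi
    apply heZ
    rw [← h3]
    exact Subgroup.zpow_mem _ (hKZ hωK) i
  · -- the other preimages are cyclic
    intro L hL hne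
    have hLc := mem_lines.mp hL
    obtain ⟨v, hvL, hv1⟩ : ∃ v ∈ L, v ≠ 1 := by
      by_contra h
      push Not at h
      have : L = ⊥ := (Subgroup.eq_bot_iff_forall L).mpr h
      exact line_ne_bot hL this
    obtain ⟨x, rfl⟩ := hf v
    have hLv : L = zpowers (f x) := eq_zpowers_of_line hLc hvL hv1
    obtain ⟨i, j, hij⟩ := exists_zpow_of_ne hv1 hfe (by rw [← hLv]; exact hne) (f z)
    -- `x ^ p` is outside the subgroup generated by `z ^ (p * p)`
    have hnot : x ^ p ∉ zpowers ((z ^ p) ^ p) := by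
      intro hx
      set k := (x ^ i * e ^ j)⁻¹ * z with hk
      have hkK : k ∈ K := by
        rw [hKdef, MonoidHom.mem_ker, hk, map_mul, map_inv, map_mul, map_zpow, map_zpow, hij]
        exact inv_mul_cancel _
      have hzeq : z = x ^ i * e ^ j * k := by rw [hk]; group
      have hπz : z ^ p = (x ^ p) ^ i * (k ^ p) := by
        have := congrArg π hzeq
        rw [map_mul, map_mul, map_zpow, map_zpow, hπ, hπ, hπ, hπ, hep, one_zpow, mul_one] at this
        exact this
      have hkp : k ^ p ∈ zpowers ((z ^ p) ^ p) := by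
        rw [hKz] at hkK
        obtain ⟨c, hc⟩ := Subgroup.mem_zpowers_iff.mp hkK
        have h9 : ((z ^ p) ^ c) ^ p = ((z ^ p) ^ p) ^ c := by
          rw [← zpow_natCast ((z ^ p) ^ c) p, ← zpow_mul, mul_comm, zpow_mul, zpow_natCast]
        rw [← hc, h9]
        exact Subgroup.zpow_mem _ (mem_zpowers _) _
      have hmem : z ^ p ∈ zpowers ((z ^ p) ^ p) := by
        have h9 := Subgroup.mul_mem _ (Subgroup.zpow_mem _ hx i) hkp
        rwa [← hπz] at h9
      have h5 := orderOf_dvd_of_mem_zpowers hmem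
      rw [hzpo, orderOf_pow_of_dvd hpo.ne_zero (by rw [hzpo]; exact dvd_pow_self p (by omega)), hzpo,
        pow_succ, Nat.mul_div_cancel _ hpo.pos] at h5
      have h6 := Nat.le_of_dvd (pow_pos hpo.pos _) h5
      have h7 : 0 < p ^ m := pow_pos hpo.pos _
      have h8 := hpo.two_le
      nlinarith
    -- so `x` has full order
    have hx1 : x ^ p ∈ zpowers (z ^ p) := by rw [← hKz]; exact hKpow x
    have hx2 := (mem_powers_iff_mem_zpowers).mpr hx1
    obtain ⟨s', hs'⟩ := (Submonoid.mem_powers_iff _ _).mp hx2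
    have hps' : ¬ p ∣ s' := by
      rintro ⟨c, rfl⟩
      apply hnot
      rw [← hs', pow_mul]
      exact Subgroup.pow_mem _ (mem_zpowers _) _
    have hs'0 : s' ≠ 0 := by
      rintro rfl
      exact hps' (dvd_zero p)
    have hxpo : orderOf (x ^ p) = p ^ (m + 1) := by
      rw [← hs', orderOf_pow' _ hs'0, hzpo]
      have : Nat.gcd (p ^ (m + 1)) s' = 1 :=
        Nat.Coprime.pow_left _ ((Nat.Prime.coprime_iff_not_dvd hpo).mpr hps')
      rw [this, Nat.div_one]
    obtain ⟨c, hc⟩ := IsPGroup.iff_orderOf.mp hP x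
    have hxo : orderOf x = p ^ (m + 2) := by
      rw [orderOf_pow' _ hpo.ne_zero, hc] at hxpo
      rcases c with _ | c
      · have h1 : 1 < p ^ (m + 1) := Nat.one_lt_pow (by omega) hpo.one_lt
        simp at hxpo
        omega
      · have h1 : Nat.gcd (p ^ (c + 1)) p = p := Nat.gcd_eq_right (dvd_pow_self p (by omega))
        rw [h1, pow_succ, Nat.mul_div_cancel _ hpo.pos] at hxpo
        have h2 := Nat.pow_right_injective hpo.two_le hxpo
        rw [hc, h2]
    have hmem : x ∈ L.comap f := by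
      show f x ∈ L
      exact hvL
    have heq : zpowers x = L.comap f := by
      apply Subgroup.eq_of_le_of_card_ge
      · exact (Subgroup.zpowers_le).mpr hmem
      · rw [card_comap_line f hf (m := m + 1) hm hL, Nat.card_zpowers, hxo]
    rw [← heq]
    infer_instance

end lemmaC


/-! ### Kulakoff's theorem for odd primes -/

section main

variable {p : ℕ} [hp : Fact p.Prime]

lemma modEq_sum {ι : Type*} (s : Finset ι) (a b : ι → ℕ) (n : ℕ) (h : ∀ i ∈ s, a i ≡ b i [MOD n]) :
    ∑ i ∈ s, a i ≡ ∑ i ∈ s, b i [MOD n] := by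
  classical
  induction s using Finset.induction_on with
  | empty => simp [Nat.ModEq.refl]
  | insert x s hx ih =>
    rw [Finset.sum_insert hx, Finset.sum_insert hx]
    exact (h x (Finset.mem_insert_self _ _)).add (ih (fun i hi => h i (Finset.mem_insert_of_mem hi)))

lemma cnt_modEq_one (Q : Type*) [Group Q] [Finite Q] {k : ℕ} (hk : p ^ k ∣ Nat.card Q) :
    cnt Q (p ^ k) ≡ 1 [MOD p] :=
  Cfsg.Agent.S3975.result p k hp.out hk

/-- **Kulakoff's theorem** for odd primes. -/
theorem kulakoff_odd (hp2 : p ≠ 2) : ∀ (m : ℕ) (P : Type u) [Group P] [Finite P], Nat.card P = p ^ m →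
    ¬ IsCyclic P → ∀ k, 1 ≤ k → k < m → cnt P (p ^ k) ≡ 1 + p [MOD p ^ 2] := by
  classical
  intro m
  induction m using Nat.strong_induction_on with
  | _ m ih =>
  intro P _ _ hm hnc k hk1 hkm
  have hpo := hp.out
  have hP : IsPGroup p P := IsPGroup.of_card hm
  obtain ⟨f, hf⟩ := exists_surj_plane hP hnc
  obtain ⟨m', rfl⟩ : ∃ m', m = m' + 2 := ⟨m - 2, by omega⟩
  have hform := counting_formula f (p ^ k)
  have hS := sq_dvd_img_top (Nat.card P) P hP rfl f hf k (by
    rw [hm]; exact Nat.pow_lt_pow_right hpo.one_lt hkm)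
  have hS' : img f (p ^ k) ⊤ ≡ 0 [MOD p ^ 2] := (Nat.modEq_zero_iff_dvd).mpr hS
  have hKcard : Nat.card f.ker = p ^ m' := card_ker f hf hm
  have hLcard : ∀ L ∈ lines p, Nat.card (L.comap f) = p ^ (m' + 1) := fun L hL => card_comap_line f hf hm hL
  by_cases hkt : k = m' + 1
  · -- top layer
    subst hkt
    have hK0 : cntIn f.ker (p ^ (m' + 1)) = 0 := by
      unfold cntIn
      have : IsEmpty {H : Subgroup P // H ≤ f.ker ∧ Nat.card H = p ^ (m' + 1)} := ⟨by
        rintro ⟨H, h1, h2⟩
        have h3 := Subgroup.card_dvd_of_le h1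
        rw [h2, hKcard] at h3
        have h4 := (Nat.pow_dvd_pow_iff_le_right hpo.one_lt).mp h3
        omega⟩
      exact Nat.card_of_isEmpty
    have hL1 : ∀ L ∈ lines p, cntIn (L.comap f) (p ^ (m' + 1)) = 1 := by
      intro L hL
      unfold cntIn
      rw [Nat.card_eq_one_iff_unique]
      refine ⟨⟨?_⟩, ⟨⟨L.comap f, le_rfl, hLcard L hL⟩⟩⟩
      rintro ⟨A, hA1, hA2⟩ ⟨B, hB1, hB2⟩
      apply Subtype.ext
      have e1 : A = L.comap f := Subgroup.eq_of_le_of_card_ge hA1 (by rw [hA2, hLcard L hL])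
      have e2 : B = L.comap f := Subgroup.eq_of_le_of_card_ge hB1 (by rw [hB2, hLcard L hL])
      exact e1.trans e2.symm
    rw [hK0, mul_zero, add_zero, Finset.sum_congr rfl hL1, Finset.sum_const, card_lines, smul_eq_mul,
      mul_one] at hform
    rw [hform, add_comm 1 p]
    simpa using hS'.add_left (p + 1)
  · -- lower layers
    obtain ⟨m'', rfl⟩ : ∃ m'', m' = m'' + 1 := ⟨m' - 1, by omega⟩
    have hKmod : cntIn f.ker (p ^ k) ≡ 1 [MOD p] := by
      rw [← cnt_coe]
      apply cnt_modEq_one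
      rw [hKcard]
      exact pow_dvd_pow p (by omega)
    have hKmod2 : p * cntIn f.ker (p ^ k) ≡ p * 1 [MOD p * p] := hKmod.mul_left' p
    rw [mul_one, ← sq] at hKmod2
    -- each line
    have hLmod : ∀ L ∈ lines p, cntIn (L.comap f) (p ^ k) ≡
        (if IsCyclic (L.comap f) then 1 else 1 + p) [MOD p ^ 2] := by
      intro L hL
      rw [← cnt_coe]
      split_ifs with hc
      · rw [cnt_cyclic (p := p) (k := k) (by rw [hLcard L hL]; exact pow_dvd_pow p (by omega))]
      · exact ih (m'' + 1 + 1) (by omega) (L.comap f) (hLcard L hL) hc k hk1 (by omega)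
    have hsum := modEq_sum _ _ _ _ hLmod
    have hsum2 : ∑ L ∈ lines p, (if IsCyclic (L.comap f) then 1 else 1 + p) ≡ 1 + 2 * p [MOD p ^ 2] := by
      have hsplit : ∑ L ∈ lines p, (if IsCyclic (L.comap f) then 1 else 1 + p) =
          (p + 1) + p * ((lines p).filter (fun L => ¬ IsCyclic (L.comap f))).card := by
        have h1 : ∀ L ∈ lines p, (if IsCyclic (L.comap f) then 1 else 1 + p) =
            1 + (if ¬ IsCyclic (L.comap f) then p else 0) := by
          intro L _
          by_cases h : IsCyclic (L.comap f) <;> simp [h]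
        rw [Finset.sum_congr rfl h1, Finset.sum_add_distrib, Finset.sum_const, card_lines, smul_eq_mul,
          mul_one, ← Finset.sum_filter, Finset.sum_const, smul_eq_mul, mul_comm p]
      rw [hsplit]
      by_cases hex : ∃ L₀ ∈ lines p, IsCyclic (L₀.comap f)
      · obtain ⟨L₀, hL₀, hcy⟩ := hex
        obtain ⟨L₁, hL₁, hnc₁, huni⟩ := lemmaC hp2 hm f hf hnc hL₀ hcy
        have : (lines p).filter (fun L => ¬ IsCyclic (L.comap f)) = {L₁} := by
          ext L
          simp only [Finset.mem_filter, Finset.mem_singleton]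
          constructor
          · rintro ⟨h1, h2⟩
            by_contra h3
            exact h2 (huni L h1 h3)
          · rintro rfl
            exact ⟨hL₁, hnc₁⟩
        rw [this, Finset.card_singleton, mul_one]
        have : p + 1 + p = 1 + 2 * p := by ring
        rw [this]
      · push Not at hex
        have : (lines p).filter (fun L => ¬ IsCyclic (L.comap f)) = lines p := by
          rw [Finset.filter_eq_self]
          exact fun L hL => hex L hL
        rw [this, card_lines]
        have h2 : p + 1 + p * (p + 1) = 1 + 2 * p + p ^ 2 := by ring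
        rw [h2]
        simp [Nat.ModEq]
    -- assemble
    have h3 : cnt P (p ^ k) + p ≡ 1 + p + p [MOD p ^ 2] := by
      have h4 : cnt P (p ^ k) + p * cntIn f.ker (p ^ k) ≡ cnt P (p ^ k) + p [MOD p ^ 2] :=
        hKmod2.add_left _
      have h5 : ∑ L ∈ lines p, cntIn (L.comap f) (p ^ k) + img f (p ^ k) ⊤ ≡ (1 + 2 * p) + 0 [MOD p ^ 2] :=
        (hsum.trans hsum2).add hS'
      rw [hform] at h4
      have h6 := h4.symm.trans h5
      have e : 1 + p + p = 1 + 2 * p + 0 := by ring
      rw [e]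
      exact h6
    exact Nat.ModEq.add_right_cancel' p h3

end main

end Cfsg.Agent.Lib.KulakoffOdd
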