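import Mathlib
import Cfsg.Agent.Lib.HHE6

set_option autoImplicit false
set_option linter.unusedSectionVars false
set_option linter.unusedVariables false
set_option linter.style.haveILetI false

/-!
Pairs of "plane elements" in a `2`-group acting on a vector space in odd characteristic.
-/

namespace Cfsg.Agent.Lib.L2Mod

open Module Cfsg.Agent.Lib.HHCrit Cfsg.Agent.Lib.HHB2

section Op

variable {F : Type*} [Field F] {M : Type*} [AddCommGroup M] [Module F M]

/-- The subspace where `Y ^ 2` is `-1`. -/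
def TT (Y : End F M) : Submodule F M := LinearMap.ker (Y ^ 2 + 1)

theorem mem_TT {Y : End F M} {v : M} : v ∈ TT Y ↔ (Y ^ 2) v = -v := by
  rw [TT, LinearMap.mem_ker, LinearMap.add_apply, Module.End.one_apply, add_eq_zero_iff_eq_neg]

/-- A plane element. -/
structure PT (Y : End F M) : Prop where
  h4 : Y ^ 4 = 1
  hfix : ∀ v, (Y ^ 2) v = v → Y v = v
  hirr : ∀ I : Submodule F M, (∀ v ∈ I, Y v ∈ I) → I ≤ TT Y → I = ⊥ ∨ TT Y ≤ I

theorem Z_sq {Y : End F M} (h : PT Y) (v : M) : (Y ^ 2) ((Y ^ 2) v) = v := by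
  have h1 := LinearMap.congr_fun h.h4 v
  have h2 : (Y ^ 4) v = (Y ^ 2) ((Y ^ 2) v) := by
    rw [show (4 : ℕ) = 2 + 2 from rfl, pow_add, Module.End.mul_apply]
  rw [← h2, h1]
  rfl

theorem Y_mem_TT {Y : End F M} {v : M} (h : v ∈ TT Y) : Y v ∈ TT Y := by
  rw [mem_TT] at h ⊢
  have h1 : (Y ^ 2) (Y v) = Y ((Y ^ 2) v) := by
    rw [pow_two, Module.End.mul_apply, Module.End.mul_apply]
  rw [h1, h, map_neg]

theorem no_neg (h2 : (2 : F) ≠ 0) {Y : End F M} (h : PT Y) {v : M} (hv : Y v = -v) : v = 0 := by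
  have h1 : (Y ^ 2) v = v := by
    rw [pow_two, Module.End.mul_apply, hv, map_neg, hv, neg_neg]
  have h3 := h.hfix v h1
  rw [hv] at h3
  have h4 : (2 : F) • v = 0 := by
    rw [two_smul]
    nth_rw 1 [← h3]
    simp
  exact (smul_eq_zero.mp h4).resolve_left h2

theorem neg_part_mem {Y : End F M} (h : PT Y) (v : M) : v - (Y ^ 2) v ∈ TT Y := by
  rw [mem_TT, map_sub, Z_sq h, neg_sub]

theorem pos_part_fix {Y : End F M} (h : PT Y) (v : M) : (Y ^ 2) (v + (Y ^ 2) v) = v + (Y ^ 2) v := by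
  rw [map_add, Z_sq h, add_comm]

/-- `(Y - 1)` maps into `T`. -/
theorem sub_mem_TT (h2 : (2 : F) ≠ 0) {Y : End F M} (h : PT Y) (v : M) : Y v - v ∈ TT Y := by
  have h3 := neg_part_mem h v
  have h4 := h.hfix _ (pos_part_fix h v)
  have h5 : (2 : F) • (Y v - v) = Y (v - (Y ^ 2) v) - (v - (Y ^ 2) v) := by
    have e1 : (2 : F) • Y v = Y (v + (Y ^ 2) v) + Y (v - (Y ^ 2) v) := by
      rw [map_add, map_sub, two_smul]
      abel
    have e2 : (2 : F) • v = (v + (Y ^ 2) v) + (v - (Y ^ 2) v) := by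
      rw [two_smul]
      abel
    rw [smul_sub, e1, e2, h4]
    abel
  have h6 : (2 : F) • (Y v - v) ∈ TT Y := by
    rw [h5]
    exact Submodule.sub_mem _ (Y_mem_TT h3) h3
  have h7 := Submodule.smul_mem (TT Y) (2 : F)⁻¹ h6
  rwa [smul_smul, inv_mul_cancel₀ h2, one_smul] at h7

/-- The second lemma of the dichotomy. -/
theorem dichotomy_of_comm [FiniteDimensional F M] (h2 : (2 : F) ≠ 0) {Y Y' : End F M} (hY : PT Y) (hY' : PT Y')
    (hdim : finrank F (TT Y) = finrank F (TT Y')) (hc : Y' * Y ^ 2 = Y ^ 2 * Y') :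
    Y' ^ 2 = Y ^ 2 ∨ (Y * Y' = Y' * Y ∧ (∀ v, (Y' ^ 2) v = -v → Y v = v) ∧ (∀ v, (Y ^ 2) v = -v → Y' v = v)) := by
  have hcapp : ∀ v, Y' ((Y ^ 2) v) = (Y ^ 2) (Y' v) := fun v => by
    have := LinearMap.congr_fun hc v
    simpa using this
  have hc2 : Y' ^ 2 * Y ^ 2 = Y ^ 2 * Y' ^ 2 := by
    rw [pow_two Y', mul_assoc, hc, ← mul_assoc, hc, mul_assoc]
  have hc2app : ∀ v, (Y' ^ 2) ((Y ^ 2) v) = (Y ^ 2) ((Y' ^ 2) v) := fun v => by
    have := LinearMap.congr_fun hc2 v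
    simpa using this
  have hTT' : ∀ v ∈ TT Y ⊓ TT Y', Y' v ∈ TT Y ⊓ TT Y' := by
    rintro v ⟨hv1, hv2⟩
    refine ⟨?_, Y_mem_TT hv2⟩
    have hv1' : (Y ^ 2) v = -v := mem_TT.mp hv1
    show Y' v ∈ TT Y
    rw [mem_TT, ← hcapp, hv1', map_neg]
  rcases hY'.hirr (TT Y ⊓ TT Y') hTT' inf_le_right with hbot | hle
  · -- disjoint
    right
    have hfixT' : ∀ v, (Y' ^ 2) v = -v → Y v = v := by
      intro v hv
      have hvT : v ∈ TT Y' := mem_TT.mpr hv
      have h3 : v - (Y ^ 2) v ∈ TT Y ⊓ TT Y' := by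
        refine ⟨neg_part_mem hY v, ?_⟩
        rw [SetLike.mem_coe, mem_TT, map_sub, hc2app, hv, map_neg]
        abel
      rw [hbot, Submodule.mem_bot, sub_eq_zero] at h3
      exact hY.hfix v h3.symm
    have hfixT : ∀ v, (Y ^ 2) v = -v → Y' v = v := by
      intro v hv
      have hvT : v ∈ TT Y := mem_TT.mpr hv
      have h3 : Y' v - v ∈ TT Y ⊓ TT Y' := by
        refine ⟨?_, sub_mem_TT h2 hY' v⟩
        rw [SetLike.mem_coe, mem_TT, map_sub, ← hcapp, hv, map_neg]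
        abel
      rw [hbot, Submodule.mem_bot, sub_eq_zero] at h3
      exact h3
    refine ⟨?_, hfixT', hfixT⟩
    ext v
    simp only [Module.End.mul_apply]
    -- decompose
    have h3 : Y (Y' (v + (Y ^ 2) v)) = Y' (Y (v + (Y ^ 2) v)) := by
      have h4 := pos_part_fix hY v
      rw [hY.hfix _ h4, hY.hfix]
      rw [← hcapp, h4]
    have h5 : Y (Y' (v - (Y ^ 2) v)) = Y' (Y (v - (Y ^ 2) v)) := by
      have h4 := neg_part_mem hY v
      rw [hfixT _ (mem_TT.mp h4), hfixT _ (mem_TT.mp (Y_mem_TT h4))]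
    have h6 : (2 : F) • Y (Y' v) = (2 : F) • Y' (Y v) := by
      have e1 : (2 : F) • v = (v + (Y ^ 2) v) + (v - (Y ^ 2) v) := by
        rw [two_smul]
        abel
      calc (2 : F) • Y (Y' v) = Y (Y' ((2 : F) • v)) := by simp only [map_smul]
        _ = Y (Y' (v + (Y ^ 2) v)) + Y (Y' (v - (Y ^ 2) v)) := by rw [e1, map_add, map_add]
        _ = Y' (Y (v + (Y ^ 2) v)) + Y' (Y (v - (Y ^ 2) v)) := by rw [h3, h5]
        _ = Y' (Y ((v + (Y ^ 2) v) + (v - (Y ^ 2) v))) := by rw [← map_add, ← map_add]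
        _ = Y' (Y ((2 : F) • v)) := by rw [e1]
        _ = (2 : F) • Y' (Y v) := by simp only [map_smul]
    exact smul_right_injective M h2 h6
  · -- contained
    left
    have hle' : TT Y' ≤ TT Y := hle.trans inf_le_left
    have heq : TT Y' = TT Y := Submodule.eq_of_le_of_finrank_eq hle' hdim.symm
    ext v
    -- on `C`
    have hC : ∀ u, (Y ^ 2) u = u → (Y' ^ 2) u = u := by
      intro u hu
      have h3 : Y' u - u ∈ TT Y ⊓ TT Y' := by
        refine ⟨?_, sub_mem_TT h2 hY' u⟩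
        rw [← heq]
        exact sub_mem_TT h2 hY' u
      have h4 : (Y ^ 2) (Y' u) = Y' u := by
        rw [← hcapp, hu]
      have h5 : Y' u - u ∈ TT Y := h3.1
      rw [mem_TT, map_sub, h4, hu] at h5
      have h6 : (2 : F) • (Y' u - u) = 0 := by
        rw [two_smul]
        nth_rw 1 [h5]
        simp
      have h7 := (smul_eq_zero.mp h6).resolve_left h2
      rw [sub_eq_zero] at h7
      rw [pow_two, Module.End.mul_apply, h7, h7]
    have e1 : (2 : F) • v = (v + (Y ^ 2) v) + (v - (Y ^ 2) v) := by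
      rw [two_smul]
      abel
    have h3 := hC _ (pos_part_fix hY v)
    have h4 : v - (Y ^ 2) v ∈ TT Y' := by
      rw [heq]
      exact neg_part_mem hY v
    have h5 : (Y' ^ 2) (v - (Y ^ 2) v) = -(v - (Y ^ 2) v) := mem_TT.mp h4
    have h6 : (2 : F) • (Y' ^ 2) v = (2 : F) • (Y ^ 2) v := by
      calc (2 : F) • (Y' ^ 2) v = (Y' ^ 2) ((2 : F) • v) := by rw [map_smul]
        _ = (Y' ^ 2) (v + (Y ^ 2) v) + (Y' ^ 2) (v - (Y ^ 2) v) := by rw [e1, map_add]
        _ = (v + (Y ^ 2) v) + -(v - (Y ^ 2) v) := by rw [h3, h5]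
        _ = (2 : F) • (Y ^ 2) v := by
          rw [two_smul]
          abel
    exact smul_right_injective M h2 h6

end Op

section Group

variable {F : Type*} [Field F] {M : Type*} [AddCommGroup M] [Module F M] [FiniteDimensional F M]
  {B : Type*} [Group B] [Fintype B]

theorem card_ne_zero_of_two (h2 : (2 : F) ≠ 0) (hB : IsPGroup 2 B) : (Fintype.card B : F) ≠ 0 := by
  obtain ⟨k, hk⟩ := IsPGroup.iff_card.mp hB
  rw [← Nat.card_eq_fintype_card, hk]
  push_cast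
  exact pow_ne_zero _ h2

/-- An operator in the commutant, squaring to one, is `±1`. -/
theorem eq_one_or_neg {I : Type*} [AddCommGroup I] [Module F I] {ρ : B →* End F I} (hρ : Irr ρ) (e : End F I)
    (hc : ∀ g, e * ρ g = ρ g * e) (he : e ^ 2 = 1) : e = 1 ∨ e = -1 := by
  have h1 := hρ (LinearMap.ker (e - 1)) (by
    intro g w hw
    rw [LinearMap.mem_ker, LinearMap.sub_apply, Module.End.one_apply, sub_eq_zero] at hw ⊢
    have := LinearMap.congr_fun (hc g) w
    simp only [Module.End.mul_apply] at this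
    rw [this, hw])
  rcases h1 with h1 | h1
  · right
    have h3 : (e - 1) * (e + 1) = 0 := by
      have : (e - 1) * (e + 1) = e ^ 2 - 1 := by noncomm_ring
      rw [this, he, sub_self]
    have h4 : e + 1 = 0 := by
      ext v
      have h5 := LinearMap.congr_fun h3 v
      simp only [Module.End.mul_apply, LinearMap.zero_apply] at h5
      have h6 : (e + 1) v ∈ LinearMap.ker (e - 1) := h5
      rw [h1, Submodule.mem_bot] at h6
      rw [h6]
      rfl
    exact eq_neg_of_add_eq_zero_left h4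
  · left
    ext v
    have h2 : v ∈ LinearMap.ker (e - 1) := by rw [h1]; trivial
    rw [LinearMap.mem_ker, LinearMap.sub_apply, Module.End.one_apply, sub_eq_zero] at h2
    rw [h2]
    rfl

/-- The commuting-on-`I` subgroup: the preimage of the centre. -/
def zI {I : Type*} [AddCommGroup I] [Module F I] (ρ : B →* End F I) : Subgroup B where
  carrier := {g | ∀ h, ρ g * ρ h = ρ h * ρ g}
  one_mem' := by
    intro h
    simp
  mul_mem' := by
    intro a b ha hb h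
    rw [map_mul, mul_assoc, hb, ← mul_assoc, ha, mul_assoc]
  inv_mem' := by
    intro a ha h
    have h1 := ha h
    have h2 : ρ a⁻¹ * ρ a = 1 := by rw [← map_mul, inv_mul_cancel, map_one]
    have h3 : ρ a * ρ a⁻¹ = 1 := by rw [← map_mul, mul_inv_cancel, map_one]
    calc ρ a⁻¹ * ρ h = ρ a⁻¹ * ρ h * (ρ a * ρ a⁻¹) := by rw [h3, mul_one]
      _ = ρ a⁻¹ * (ρ h * ρ a) * ρ a⁻¹ := by noncomm_ring
      _ = ρ a⁻¹ * (ρ a * ρ h) * ρ a⁻¹ := by rw [h1]
      _ = (ρ a⁻¹ * ρ a) * ρ h * ρ a⁻¹ := by noncomm_ring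
      _ = ρ h * ρ a⁻¹ := by rw [h2, one_mul]

theorem mem_zI {I : Type*} [AddCommGroup I] [Module F I] {ρ : B →* End F I} {g : B} :
    g ∈ zI ρ ↔ ∀ h, ρ g * ρ h = ρ h * ρ g := Iff.rfl

instance zI_normal {I : Type*} [AddCommGroup I] [Module F I] (ρ : B →* End F I) : (zI ρ).Normal := by
  constructor
  intro n hn g h
  have h1 : ρ (g * n * g⁻¹) = ρ g * ρ n * ρ g⁻¹ := by simp only [map_mul]
  rw [h1]
  have h2 : ρ g⁻¹ * ρ g = 1 := by rw [← map_mul, inv_mul_cancel, map_one]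
  have h3 := hn (g⁻¹ * h * g)
  simp only [map_mul] at h3
  have h4 : ρ g * ρ g⁻¹ = 1 := by rw [← map_mul, mul_inv_cancel, map_one]
  calc ρ g * ρ n * ρ g⁻¹ * ρ h = ρ g * (ρ n * (ρ g⁻¹ * ρ h * ρ g)) * ρ g⁻¹ := by
        have : ρ g * (ρ n * (ρ g⁻¹ * ρ h * ρ g)) * ρ g⁻¹ =
          ρ g * ρ n * ρ g⁻¹ * ρ h * (ρ g * ρ g⁻¹) := by noncomm_ring
        rw [this, h4, mul_one]
    _ = ρ g * ((ρ g⁻¹ * ρ h * ρ g) * ρ n) * ρ g⁻¹ := by rw [h3]
    _ = ρ h * ρ g * ρ n * ρ g⁻¹ := by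
        have : ρ g * ((ρ g⁻¹ * ρ h * ρ g) * ρ n) * ρ g⁻¹ =
          (ρ g * ρ g⁻¹) * ρ h * ρ g * ρ n * ρ g⁻¹ := by noncomm_ring
        rw [this, h4, one_mul]
    _ = ρ h * (ρ g * ρ n * ρ g⁻¹) := by noncomm_ring

/-- The subgroup commuting with a fixed element in the representation. -/
def cI {I : Type*} [AddCommGroup I] [Module F I] (ρ : B →* End F I) (z : B) : Subgroup B where
  carrier := {t | ρ t * ρ z = ρ z * ρ t}
  one_mem' := by simp
  mul_mem' := by
    intro a b ha hb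
    simp only [Set.mem_ofPred_eq] at *
    rw [map_mul, mul_assoc, hb, ← mul_assoc, ha, mul_assoc]
  inv_mem' := by
    intro a ha
    simp only [Set.mem_ofPred_eq] at *
    have h2 : ρ a⁻¹ * ρ a = 1 := by rw [← map_mul, inv_mul_cancel, map_one]
    have h3 : ρ a * ρ a⁻¹ = 1 := by rw [← map_mul, mul_inv_cancel, map_one]
    calc ρ a⁻¹ * ρ z = ρ a⁻¹ * ρ z * (ρ a * ρ a⁻¹) := by rw [h3, mul_one]
      _ = ρ a⁻¹ * (ρ z * ρ a) * ρ a⁻¹ := by noncomm_ring
      _ = ρ a⁻¹ * (ρ a * ρ z) * ρ a⁻¹ := by rw [ha]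
      _ = (ρ a⁻¹ * ρ a) * ρ z * ρ a⁻¹ := by noncomm_ring
      _ = ρ z * ρ a⁻¹ := by rw [h2, one_mul]

/-- The key lemma on an irreducible constituent: a noncommuting pair of generators has one of them
anticommuting with an invertible operator. -/
theorem exists_anti {I : Type*} [AddCommGroup I] [Module F I] (hB : IsPGroup 2 B) {ρ : B →* End F I}
    (hρ : Irr ρ) {y y' : B} (hgen : Subgroup.closure ({y, y'} : Set B) = ⊤)
    (hne : ρ y * ρ y' ≠ ρ y' * ρ y) :
    ∃ t : B, (t = y ∨ t = y') ∧ ∃ z : B, ρ t * ρ z = - (ρ z * ρ t) := by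
  classical
  have hZ : zI ρ ≠ ⊤ := by
    intro h
    apply hne
    exact (h ▸ Subgroup.mem_top y : y ∈ zI ρ) y'
  have hFact : Fact (Nat.Prime 2) := ⟨Nat.prime_two⟩
  let Qt := B ⧸ zI ρ
  have hQ2 : IsPGroup 2 Qt := hB.of_surjective (QuotientGroup.mk' (zI ρ)) (QuotientGroup.mk'_surjective _)
  have hQnt : Nontrivial Qt := QuotientGroup.nontrivial_iff.mpr hZ
  have hcn := hQ2.center_nontrivial
  have hcp : IsPGroup 2 (Subgroup.center Qt) := hQ2.to_subgroup _
  obtain ⟨k, hk⟩ := IsPGroup.iff_card.mp hcp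
  have hk0 : k ≠ 0 := by
    rintro rfl
    have h1 : Nat.card (Subgroup.center Qt) = 1 := by simpa using hk
    have := Finite.one_lt_card_iff_nontrivial.mpr hcn
    omega
  have hd : 2 ∣ Nat.card (Subgroup.center Qt) := by
    rw [hk]
    exact dvd_pow_self 2 hk0
  obtain ⟨c, hc⟩ := exists_prime_orderOf_dvd_card' 2 hd
  obtain ⟨z, hz⟩ := QuotientGroup.mk_surjective (c : Qt)
  have hzc : ((z : B) : Qt) = (c : Qt) := hz
  have hz1 : z ∉ zI ρ := by
    intro h
    have h1 : (c : Qt) = 1 := by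
      rw [← hzc]
      exact (QuotientGroup.eq_one_iff z).mpr h
    have h2 : c = 1 := Subtype.ext h1
    rw [h2, orderOf_one] at hc
    omega
  have hz2 : z ^ 2 ∈ zI ρ := by
    apply (QuotientGroup.eq_one_iff _).mp
    have h1 : c ^ 2 = 1 := by
      rw [← hc]
      exact pow_orderOf_eq_one c
    have h2 : (c : Qt) ^ 2 = 1 := by
      have := congrArg Subtype.val h1
      simpa using this
    rw [QuotientGroup.mk_pow, hzc, h2]
  have hzt : ∀ t : B, t * z * t⁻¹ * z⁻¹ ∈ zI ρ := by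
    intro t
    apply (QuotientGroup.eq_one_iff _).mp
    have h1 : ((t : B) : Qt) * (c : Qt) = (c : Qt) * ((t : B) : Qt) :=
      Subgroup.mem_center_iff.mp c.2 _
    have e1 : ((t * z * t⁻¹ * z⁻¹ : B) : Qt) = ((t : B) : Qt) * (c : Qt) * ((t : B) : Qt)⁻¹ * (c : Qt)⁻¹ := by
      rw [← hzc]
      rfl
    rw [e1, h1]
    group
  have hinv : ∀ g : B, ρ g⁻¹ * ρ g = 1 := fun g => by rw [← map_mul, inv_mul_cancel, map_one]
  have hinv' : ∀ g : B, ρ g * ρ g⁻¹ = 1 := fun g => by rw [← map_mul, mul_inv_cancel, map_one]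
  have key : ∀ t : B, ρ t * ρ z = ρ z * ρ t ∨ ρ t * ρ z = - (ρ z * ρ t) := by
    intro t
    set u := t * z * t⁻¹ * z⁻¹ with hu
    have hu' : u ∈ zI ρ := hzt t
    have h1 : ρ t * ρ z = ρ u * ρ z * ρ t := by
      rw [← map_mul, ← map_mul, ← map_mul]
      congr 1
      rw [hu]
      group
    have h2 : ρ t * ρ z ^ 2 = ρ z ^ 2 * ρ t := by
      have := hz2 t
      rw [map_pow] at this
      exact this.symm
    have huz : ρ u * ρ z = ρ z * ρ u := hu' z
    have h3 : ρ u ^ 2 = 1 := by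
      have h4 : ρ t * ρ z ^ 2 = ρ u ^ 2 * ρ z ^ 2 * ρ t := by
        calc ρ t * ρ z ^ 2 = (ρ t * ρ z) * ρ z := by rw [pow_two, mul_assoc]
          _ = ρ u * ρ z * (ρ t * ρ z) := by nth_rw 1 [h1]; noncomm_ring
          _ = ρ u * ρ z * (ρ u * ρ z * ρ t) := by rw [h1]
          _ = ρ u * (ρ z * ρ u) * ρ z * ρ t := by noncomm_ring
          _ = ρ u * (ρ u * ρ z) * ρ z * ρ t := by rw [huz]
          _ = ρ u ^ 2 * ρ z ^ 2 * ρ t := by noncomm_ring
      rw [h2] at h4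
      have h5 : ρ z ^ 2 * ρ t * (ρ t⁻¹ * ρ (z⁻¹) ^ 2) = 1 := by
        have e : ρ z ^ 2 * ρ t * (ρ t⁻¹ * ρ (z⁻¹) ^ 2) = ρ z ^ 2 * (ρ t * ρ t⁻¹) * ρ (z⁻¹) ^ 2 := by noncomm_ring
        rw [e, hinv', mul_one, ← map_pow, ← map_pow, ← map_mul]
        simp
      calc ρ u ^ 2 = ρ u ^ 2 * (ρ z ^ 2 * ρ t * (ρ t⁻¹ * ρ (z⁻¹) ^ 2)) := by rw [h5, mul_one]
        _ = (ρ u ^ 2 * ρ z ^ 2 * ρ t) * (ρ t⁻¹ * ρ (z⁻¹) ^ 2) := by noncomm_ring
        _ = 1 := by rw [← h4, h5]
    rcases eq_one_or_neg hρ (ρ u) (fun g => hu' g) h3 with h4 | h4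
    · left
      rw [h1, h4, one_mul]
    · right
      rw [h1, h4]
      noncomm_ring
  by_cases hy : ρ y * ρ z = ρ z * ρ y
  · by_cases hy' : ρ y' * ρ z = ρ z * ρ y'
    · exfalso
      apply hz1
      have h1 : (⊤ : Subgroup B) ≤ cI ρ z := by
        rw [← hgen, Subgroup.closure_le]
        rintro t (rfl | rfl)
        · exact hy
        · exact hy'
      intro h
      have h2 : h ∈ cI ρ z := h1 (Subgroup.mem_top h)
      exact h2.symm
    · exact ⟨y', Or.inr rfl, z, (key y').resolve_left hy'⟩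
  · exact ⟨y, Or.inl rfl, z, (key y).resolve_left hy⟩

theorem irr_case (h2 : (2 : F) ≠ 0) (hB : IsPGroup 2 B) (ρ : B →* End F M) {I : Submodule F M} (hinv : Inv ρ I)
    (hne : I ≠ ⊥) (hmin : ∀ W' ≤ I, Inv ρ W' → W' = ⊥ ∨ W' = I) {y y' : B}
    (hgen : Subgroup.closure ({y, y'} : Set B) = ⊤) (hY : PT (ρ y)) (hY' : PT (ρ y'))
    (hnc : ∃ v ∈ I, ρ y (ρ y' v) ≠ ρ y' (ρ y v)) :
    (TT (ρ y) ≤ I ∧ I ≤ TT (ρ y)) ∨ (TT (ρ y') ≤ I ∧ I ≤ TT (ρ y')) := by
  let ρ₀ := HHChar.restrictRep ρ I hinv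
  have hirr : Irr ρ₀ := irr_restrict ρ I hinv hmin
  have hne' : ρ₀ y * ρ₀ y' ≠ ρ₀ y' * ρ₀ y := by
    intro h
    obtain ⟨v, hv, hv2⟩ := hnc
    apply hv2
    have := LinearMap.congr_fun h (⟨v, hv⟩ : I)
    exact congrArg Subtype.val this
  obtain ⟨t, ht, z, hz⟩ := exists_anti hB hirr hgen hne'
  have hfin : ∀ t : B, PT (ρ t) → (∃ z : B, ρ₀ t * ρ₀ z = - (ρ₀ z * ρ₀ t)) → TT (ρ t) ≤ I ∧ I ≤ TT (ρ t) := by
    rintro t hT ⟨z, hz⟩
    have hle : I ≤ TT (ρ t) := by
      intro v hv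
      rw [mem_TT]
      set vp := v + (ρ t ^ 2) v with hvp
      have hvpI : vp ∈ I := by
        refine Submodule.add_mem _ hv ?_
        rw [← map_pow]
        exact hinv _ _ hv
      have h3 := hT.hfix _ (pos_part_fix hT v)
      rw [← hvp] at h3
      have h4 := LinearMap.congr_fun hz (⟨vp, hvpI⟩ : I)
      have h5 : ρ t (ρ z vp) = - ρ z (ρ t vp) := congrArg Subtype.val h4
      rw [h3] at h5
      have h6 := no_neg h2 hT h5
      have h7 : vp = 0 := by
        have h8 := congrArg (ρ z⁻¹) h6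
        rw [← Module.End.mul_apply, ← map_mul, inv_mul_cancel, map_one, map_zero] at h8
        exact h8
      rw [hvp] at h7
      exact (eq_neg_of_add_eq_zero_right h7)
    refine ⟨?_, hle⟩
    have h3 := hT.hirr I (fun v hv => hinv t v hv) hle
    exact h3.resolve_left hne
  rcases ht with rfl | rfl
  · exact Or.inl (hfin _ hY ⟨z, hz⟩)
  · exact Or.inr (hfin _ hY' ⟨z, hz⟩)

theorem central_of_inv (h2 : (2 : F) ≠ 0) (hB : IsPGroup 2 B) (ρ : B →* End F M) {y : B} (hY : PT (ρ y))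
    (hinv : Inv ρ (TT (ρ y))) (g : B) : ρ g * ρ y ^ 2 = ρ y ^ 2 * ρ g := by
  obtain ⟨C, hCinv, hC⟩ := exists_inv_compl ρ (card_ne_zero_of_two h2 hB) (TT (ρ y)) hinv
  have hCfix : ∀ v ∈ C, (ρ y ^ 2) v = v := by
    intro v hv
    have h3 : ρ y v - v ∈ C := Submodule.sub_mem _ (hCinv y v hv) hv
    have h4 := sub_mem_TT h2 hY v
    have h5 := (Submodule.disjoint_def.mp hC.disjoint) _ h4 h3
    rw [sub_eq_zero] at h5
    rw [pow_two, Module.End.mul_apply, h5, h5]
  ext v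
  have hv : v ∈ TT (ρ y) ⊔ C := by rw [hC.sup_eq_top]; trivial
  obtain ⟨t, ht, c, hc, rfl⟩ := Submodule.mem_sup.mp hv
  simp only [Module.End.mul_apply, map_add]
  rw [hCfix c hc, hCfix _ (hCinv g c hc), mem_TT.mp ht, mem_TT.mp (hinv g t ht), map_neg]

theorem plane_core (h2 : (2 : F) ≠ 0) (hB : IsPGroup 2 B) (ρ : B →* End F M) {y y' : B}
    (hgen : Subgroup.closure ({y, y'} : Set B) = ⊤) (hY : PT (ρ y)) (hY' : PT (ρ y'))
    (hdim : finrank F (TT (ρ y)) = finrank F (TT (ρ y'))) :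
    ρ y' ^ 2 = ρ y ^ 2 ∨ (ρ y * ρ y' = ρ y' * ρ y ∧ (∀ v, (ρ y' ^ 2) v = -v → ρ y v = v) ∧
      (∀ v, (ρ y ^ 2) v = -v → ρ y' v = v)) := by
  by_cases hcomm : ρ y * ρ y' = ρ y' * ρ y
  · refine dichotomy_of_comm h2 hY hY' hdim ?_
    rw [pow_two, ← mul_assoc, ← hcomm, mul_assoc, ← hcomm, mul_assoc]
  · have hex : ∃ I : Submodule F M, Inv ρ I ∧ I ≠ ⊥ ∧ (∀ W' ≤ I, Inv ρ W' → W' = ⊥ ∨ W' = I) ∧
        ∃ v ∈ I, ρ y (ρ y' v) ≠ ρ y' (ρ y v) := by
      by_contra hcon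
      push Not at hcon
      apply hcomm
      have h3 := Cfsg.Agent.Lib.HHE5.eq_one_of_irr ρ (card_ne_zero_of_two h2 hB) (y * y' * y⁻¹ * y'⁻¹) (by
        intro I hI hne hmin v hv
        have hv' : ρ y⁻¹ (ρ y'⁻¹ v) ∈ I := hI _ _ (hI _ _ hv)
        have h4 := hcon I hI hne hmin _ hv'
        simp only [map_mul, Module.End.mul_apply]
        rw [h4]
        have e1 : ρ y (ρ y⁻¹ (ρ y'⁻¹ v)) = ρ y'⁻¹ v := by
          rw [← Module.End.mul_apply, ← map_mul, mul_inv_cancel, map_one]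
          rfl
        rw [e1, ← Module.End.mul_apply, ← map_mul, mul_inv_cancel, map_one]
        rfl)
      have h4 : ρ (y * y') = ρ (y' * y) := by
        have e : y * y' = (y * y' * y⁻¹ * y'⁻¹) * (y' * y) := by group
        conv_lhs => rw [e, map_mul, h3, one_mul]
      simpa only [map_mul] using h4
    obtain ⟨I, hI, hne, hmin, hnc⟩ := hex
    rcases irr_case h2 hB ρ hI hne hmin hgen hY hY' hnc with ⟨h3, h4⟩ | ⟨h3, h4⟩
    · have heq : TT (ρ y) = I := le_antisymm h3 h4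
      refine dichotomy_of_comm h2 hY hY' hdim ?_
      exact central_of_inv h2 hB ρ hY (heq ▸ hI) y'
    · have heq : TT (ρ y') = I := le_antisymm h3 h4
      have h5 := dichotomy_of_comm h2 hY' hY hdim.symm (central_of_inv h2 hB ρ hY' (heq ▸ hI) y)
      rcases h5 with h5 | ⟨h5, h6, h7⟩
      · exact Or.inl h5.symm
      · exact Or.inr ⟨h5.symm, h7, h6⟩

end Group

section Wrapper

variable {F : Type*} [Field F] {M : Type*} [AddCommGroup M] [Module F M] [FiniteDimensional F M]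
  {B : Type*} [Group B] [Fintype B]

theorem plane_gen (h2 : (2 : F) ≠ 0) (hB : IsPGroup 2 B) (ρ : B →* End F M) (y y' : B)
    (hY : PT (ρ y)) (hY' : PT (ρ y'))
    (hdim : finrank F (TT (ρ y)) = finrank F (TT (ρ y'))) :
    ρ y' ^ 2 = ρ y ^ 2 ∨ (ρ y * ρ y' = ρ y' * ρ y ∧ (∀ v, (ρ y' ^ 2) v = -v → ρ y v = v) ∧
      (∀ v, (ρ y ^ 2) v = -v → ρ y' v = v)) := by
  classical
  let B₁ := Subgroup.closure ({y, y'} : Set B)
  have hy : y ∈ B₁ := Subgroup.subset_closure (by simp)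
  have hy' : y' ∈ B₁ := Subgroup.subset_closure (by simp)
  let _ : Fintype B₁ := Fintype.ofFinite _
  have hgen : Subgroup.closure ({(⟨y, hy⟩ : B₁), ⟨y', hy'⟩} : Set B₁) = ⊤ := by
    have h1 := Subgroup.closure_closure_coe_preimage (k := ({y, y'} : Set B))
    have h2 : ((↑) : B₁ → B) ⁻¹' ({y, y'} : Set B) = ({(⟨y, hy⟩ : B₁), ⟨y', hy'⟩} : Set B₁) := by
      ext x
      simp only [Set.mem_preimage, Set.mem_insert_iff, Set.mem_singleton_iff, Subtype.ext_iff]
    rw [h2] at h1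
    exact h1
  exact plane_core h2 (hB.to_subgroup B₁) (ρ.comp B₁.subtype) hgen hY hY' hdim

end Wrapper

section Add

variable {N' : Type*} [AddCommGroup N'] {q : ℕ} [hq : Fact q.Prime] [Module (ZMod q) N'] [Finite N']
  {B : Type*} [Group B] [Finite B]

theorem plane_add (hq2 : q ≠ 2) (hq4 : q % 4 = 3)
    (hB : IsPGroup 2 B) (ψ' : B →* AddMonoid.End N') (y y' : B)
    (hy4 : ψ' y ^ 4 = 1) (hyfix : ∀ b, (ψ' y ^ 2) b = b → ψ' y b = b)
    (hyT : Nat.card {b : N' // (ψ' y ^ 2) b = -b} = q ^ 2)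
    (hy'4 : ψ' y' ^ 4 = 1) (hy'fix : ∀ b, (ψ' y' ^ 2) b = b → ψ' y' b = b)
    (hy'T : Nat.card {b : N' // (ψ' y' ^ 2) b = -b} = q ^ 2) :
    ψ' y' ^ 2 = ψ' y ^ 2 ∨ (ψ' y * ψ' y' = ψ' y' * ψ' y ∧ ∀ b, (ψ' y' ^ 2) b = -b → ψ' y b = b) := by
  classical
  have hfd : FiniteDimensional (ZMod q) N' := Module.Finite.of_finite
  let _ : Fintype B := Fintype.ofFinite B
  have h2 : (2 : ZMod q) ≠ 0 := by
    intro h
    have h3 : ((2 : ℕ) : ZMod q) = 0 := by exact_mod_cast h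
    have h4 := (CharP.cast_eq_zero_iff (ZMod q) q 2).mp h3
    have h5 := (Nat.prime_dvd_prime_iff_eq hq.out Nat.prime_two).mp h4
    exact hq2 h5
  let ρ : B →* End (ZMod q) N' := (Cfsg.Agent.Lib.HHE6.toE q N').comp ψ'
  have hρ : ∀ (t : B) (b : N'), ρ t b = ψ' t b := fun _ _ => rfl
  have hρ2 : ∀ (t : B) (b : N'), (ρ t ^ 2) b = (ψ' t ^ 2) b := by
    intro t b
    rw [← map_pow, ← map_pow, hρ]
  have hPT : ∀ t : B, ψ' t ^ 4 = 1 → (∀ b, (ψ' t ^ 2) b = b → ψ' t b = b) →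
      Nat.card {b : N' // (ψ' t ^ 2) b = -b} = q ^ 2 → PT (ρ t) ∧ finrank (ZMod q) (TT (ρ t)) = 2 := by
    intro t h4 hfx hT
    have hf2 : finrank (ZMod q) (TT (ρ t)) = 2 := by
      have h3 : Nat.card (TT (ρ t)) = q ^ 2 := by
        rw [← hT]
        refine Nat.card_congr ?_
        refine
          { toFun := fun v => ⟨(v : N'), ?_⟩
            invFun := fun b => ⟨(b : N'), ?_⟩
            left_inv := ?_
            right_inv := ?_ }
        · have h5 := mem_TT.mp v.2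
          rw [hρ2] at h5
          exact h5
        · rw [mem_TT, hρ2, b.2]
        · intro v
          rfl
        · intro b
          rfl
      have h4 : Nat.card (TT (ρ t)) = Nat.card (ZMod q) ^ finrank (ZMod q) (TT (ρ t)) :=
        Module.natCard_eq_pow_finrank
      rw [h3, Nat.card_zmod] at h4
      exact (Nat.pow_right_injective hq.out.two_le h4).symm
    refine ⟨⟨?_, ?_, ?_⟩, hf2⟩
    · have e4 : ρ t ^ 4 = ρ (t ^ 4) := (map_pow ρ t 4).symm
      rw [e4]
      refine LinearMap.ext fun v => ?_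
      show ψ' (t ^ 4) v = v
      rw [map_pow, h4]
      rfl
    · intro v hv
      rw [hρ2] at hv
      exact hfx v hv
    · intro I hIinv hIT
      have hle : finrank (ZMod q) I ≤ 2 := by
        rw [← hf2]
        exact Submodule.finrank_mono hIT
      have hcases : finrank (ZMod q) I = 0 ∨ finrank (ZMod q) I = 1 ∨ finrank (ZMod q) I = 2 := by omega
      rcases hcases with h0 | h0 | h0
      · left
        exact Submodule.finrank_eq_zero.mp h0
      · exfalso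
        obtain ⟨v, hv0, hv⟩ := finrank_eq_one_iff'.mp h0
        obtain ⟨c, hc⟩ := hv ⟨ρ t v, hIinv v v.2⟩
        have hc' : c • (v : N') = ρ t v := congrArg Subtype.val hc
        have h5 : (ρ t ^ 2) (v : N') = - (v : N') := mem_TT.mp (hIT v.2)
        have h6 : (ρ t ^ 2) (v : N') = (c * c) • (v : N') := by
          rw [pow_two, Module.End.mul_apply, ← hc', map_smul, ← hc', smul_smul]
        rw [h6] at h5
        have h7 : (c * c + 1) • (v : N') = 0 := by
          rw [add_smul, h5, one_smul]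
          simp
        have hv0' : (v : N') ≠ 0 := fun h => hv0 (Subtype.ext h)
        have h8 := (smul_eq_zero.mp h7).resolve_right hv0'
        have h9 : IsSquare (-1 : ZMod q) := ⟨c, (eq_neg_of_add_eq_zero_left h8).symm⟩
        exact (ZMod.exists_sq_eq_neg_one_iff.mp h9) hq4
      · right
        have := Submodule.eq_of_le_of_finrank_eq hIT (h0.trans hf2.symm)
        rw [this]
  obtain ⟨hY, hf⟩ := hPT y hy4 hyfix hyT
  obtain ⟨hY', hf'⟩ := hPT y' hy'4 hy'fix hy'T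
  rcases plane_gen h2 hB ρ y y' hY hY' (hf.trans hf'.symm) with h5 | ⟨h5, h6, h7⟩
  · left
    ext b
    have h8 := LinearMap.congr_fun h5 b
    rw [hρ2, hρ2] at h8
    exact h8
  · right
    constructor
    · ext b
      exact LinearMap.congr_fun h5 b
    · intro b hb
      exact h6 b (by rw [hρ2, hb])

end Add

section Mul

variable {U : Type*} [hU : Group U] [Finite U] {q : ℕ} [hq : Fact q.Prime]
  {B : Type*} [Group B] [Finite B]

/-- The multiplicative form of the dichotomy. -/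
theorem plane_mul (hcomm : ∀ a b : U, a * b = b * a) (hq2 : q ≠ 2) (hq4 : q % 4 = 3) (hexp : ∀ a : U, a ^ q = 1)
    (hB : IsPGroup 2 B) (Θ : B →* MulAut U) (y y' : B)
    (hy4 : Θ y ^ 4 = 1) (hyfix : ∀ b, (Θ y ^ 2) b = b → Θ y b = b) (hyT : Nat.card {b : U // (Θ y ^ 2) b = b⁻¹} = q ^ 2)
    (hy'4 : Θ y' ^ 4 = 1) (hy'fix : ∀ b, (Θ y' ^ 2) b = b → Θ y' b = b)
    (hy'T : Nat.card {b : U // (Θ y' ^ 2) b = b⁻¹} = q ^ 2) :
    Θ y' ^ 2 = Θ y ^ 2 ∨ (Θ y * Θ y' = Θ y' * Θ y ∧ ∀ b, (Θ y' ^ 2) b = b⁻¹ → Θ y b = b) := by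
  classical
  letI iU : CommGroup U := { hU with mul_comm := hcomm }
  have hexp' : ∀ x : Additive U, q • x = 0 := by
    intro x
    have h3 : q • x = Additive.ofMul ((Additive.toMul x) ^ q) := rfl
    rw [h3, hexp]
    rfl
  letI iMod : Module (ZMod q) (Additive U) := AddCommGroup.zmodModule hexp'
  have hfin : Finite (Additive U) := inferInstanceAs (Finite U)
  let ψ' : B →* AddMonoid.End (Additive U) :=
    { toFun := fun y => MonoidHom.toAdditive ((Θ y : U ≃* U) : U →* U)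
      map_one' := by
        ext v
        show Additive.ofMul (Θ 1 (Additive.toMul (Additive.ofMul v))) = Additive.ofMul v
        rw [map_one]
        rfl
      map_mul' := by
        intro a a'
        ext v
        show Additive.ofMul (Θ (a * a') (Additive.toMul (Additive.ofMul v))) =
          Additive.ofMul (Θ a (Θ a' (Additive.toMul (Additive.ofMul v))))
        rw [map_mul]
        rfl }
  have hψ : ∀ (t : B) (b : U), ψ' t (Additive.ofMul b) = Additive.ofMul (Θ t b) := fun _ _ => rfl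
  have hψ2 : ∀ (t : B) (k : ℕ) (b : U), (ψ' t ^ k) (Additive.ofMul b) = Additive.ofMul ((Θ t ^ k) b) := by
    intro t k b
    rw [← map_pow, ← map_pow, hψ]
  have hpw : ∀ t : B, Θ t ^ 4 = 1 → ψ' t ^ 4 = 1 := by
    intro t h
    ext v
    have h3 := hψ2 t 4 (Additive.toMul (Additive.ofMul v))
    rw [h] at h3
    exact h3
  have hfx : ∀ t : B, (∀ b, (Θ t ^ 2) b = b → Θ t b = b) → ∀ b, (ψ' t ^ 2) b = b → ψ' t b = b := by
    intro t h b hb
    have h3 := hψ2 t 2 (Additive.toMul b)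
    rw [ofMul_toMul, hb] at h3
    have h4 := congrArg Additive.toMul h3
    have h5 := h (Additive.toMul b) h4.symm
    have h6 := hψ t (Additive.toMul b)
    rw [h5, ofMul_toMul] at h6
    exact h6
  have hcd : ∀ t : B, Nat.card {b : U // (Θ t ^ 2) b = b⁻¹} = q ^ 2 →
      Nat.card {b : Additive U // (ψ' t ^ 2) b = -b} = q ^ 2 := by
    intro t h
    rw [← h]
    refine Nat.card_congr ?_
    refine
      { toFun := fun v => ⟨Additive.toMul (v : Additive U), ?_⟩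
        invFun := fun b => ⟨Additive.ofMul (b : U), ?_⟩
        left_inv := ?_
        right_inv := ?_ }
    · have h5 := v.2
      have h6 := hψ2 t 2 (Additive.toMul (v : Additive U))
      rw [ofMul_toMul, h5] at h6
      have h7 := congrArg Additive.toMul h6
      exact h7.symm
    · rw [hψ2, b.2]
      rfl
    · intro v
      rfl
    · intro b
      rfl
  rcases @plane_add (Additive U) _ q hq iMod hfin B _ _ hq2 hq4 hB ψ' y y' (hpw y hy4) (hfx y hyfix) (hcd y hyT)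
    (hpw y' hy'4) (hfx y' hy'fix) (hcd y' hy'T) with h5 | ⟨h5, h6⟩
  · left
    ext b
    have h8 := congrArg (fun f : AddMonoid.End (Additive U) => f (Additive.ofMul b)) h5
    simp only [hψ2] at h8
    exact Additive.ofMul.injective h8
  · right
    constructor
    · ext b
      have h8 := congrArg (fun f : AddMonoid.End (Additive U) => f (Additive.ofMul b)) h5
      have h9 : Additive.ofMul (Θ y (Θ y' b)) = Additive.ofMul (Θ y' (Θ y b)) := h8
      exact Additive.ofMul.injective h9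
    · intro b hb
      have h8 := h6 (Additive.ofMul b) (by rw [hψ2, hb]; rfl)
      rw [hψ] at h8
      exact Additive.ofMul.injective h8

/-- The abelian case excluded. -/
theorem no_comm_mul {X Y : MulAut U} (hno : ∀ b, Y b = b⁻¹ → b = 1)
    (hfix : ∀ b, (Y ^ 2) (X b) = (X b)⁻¹ → Y b = b) (hc : X * (Y⁻¹ * X * Y) = (Y⁻¹ * X * Y) * X)
    {r : U} (hr : (Y ^ 2) r = r⁻¹) : r = 1 := by
  have hYr : (Y ^ 2) (Y r) = (Y r)⁻¹ := by
    have e : (Y ^ 2) (Y r) = Y ((Y ^ 2) r) := by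
      rw [pow_two, MulAut.mul_apply, MulAut.mul_apply]
    rw [e, hr, map_inv]
  set u := X⁻¹ (Y r) with hu
  have hXu : X u = Y r := by rw [hu, MulAut.apply_inv_self]
  have hYu : Y u = u := by
    apply hfix
    rw [hXu]
    exact hYr
  have h1 := congrArg (fun f : MulAut U => f u) hc
  simp only [MulAut.mul_apply] at h1
  have e2 : Y (Y r) = r⁻¹ := by rw [← MulAut.mul_apply, ← pow_two, hr]
  rw [hYu, hXu, MulAut.inv_apply_self, e2] at h1
  have h2 : Y (X r) = (X r)⁻¹ := by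
    calc Y (X r) = Y (Y⁻¹ (X r⁻¹)) := by rw [← h1]
      _ = X r⁻¹ := MulAut.apply_inv_self _ _ _
      _ = (X r)⁻¹ := map_inv _ _
  have h3 := hno _ h2
  exact (map_eq_one_iff X X.injective).mp h3

end Mul

end Cfsg.Agent.Lib.L2Mod
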