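import Mathlib
import Cfsg.Agent.Lib.L2Mod
import Cfsg.Agent.Lib.HHE3

set_option autoImplicit false
set_option linter.unusedSectionVars false
set_option linter.unusedVariables false
set_option linter.style.haveILetI false

/-!
The counting step for the `2`-length bound: a top power of a `2`-element acts on `Γ / scalars`
as the inversion on a subgroup of order `q ^ 2`, with `q = 2 ^ (n + 1) - 1`, and trivially on its
fixed points, together with its root.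
-/

namespace Cfsg.Agent.Lib.L2Count

open Module Cfsg.Agent.Lib.HHCrit Cfsg.Agent.Lib.HHB2 Cfsg.Agent.Lib.HHB3 Cfsg.Agent.Lib.HHE2
  Cfsg.Agent.Lib.HHE3 Cfsg.Agent.Lib.Kegel

section Dec

variable {A : Type*} [Group A] [Finite A]

/-- Elements inverted by `z` (in a commutative group). -/
def Ti (z : MulAut A) (hc : ∀ a b : A, a * b = b * a) : Subgroup A where
  carrier := {b | z b = b⁻¹}
  one_mem' := by simp
  mul_mem' := by
    intro a b ha hb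
    simp only [Set.mem_ofPred_eq] at *
    rw [map_mul, ha, hb, mul_inv_rev, hc]
  inv_mem' := by
    intro a ha
    simp only [Set.mem_ofPred_eq] at *
    rw [map_inv, ha]

theorem mem_Ti {z : MulAut A} {hc : ∀ a b : A, a * b = b * a} {b : A} : b ∈ Ti z hc ↔ z b = b⁻¹ := Iff.rfl

theorem eq_one_of_sq {q : ℕ} (hq : Odd q) (hexp : ∀ a : A, a ^ q = 1) {b : A} (h : b * b = 1) : b = 1 := by
  obtain ⟨k, hk⟩ := hq
  have h1 := hexp b
  rw [hk, pow_succ, pow_mul, pow_two, h, one_pow, one_mul] at h1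
  exact h1

/-- The decomposition of an element. -/
theorem exists_decomp {q : ℕ} (hq : Odd q) (hexp : ∀ a : A, a ^ q = 1) (hc : ∀ a b : A, a * b = b * a)
    {z : MulAut A} (hz : z ^ 2 = 1) (b : A) : ∃ t c : A, z t = t⁻¹ ∧ z c = c ∧ t * c = b := by
  obtain ⟨k, hk⟩ := hq
  have hzz : ∀ a, z (z a) = a := fun a => by
    have := congrArg (fun f : MulAut A => f a) hz
    simpa [pow_two] using this
  have hcc : ∀ a b : A, Commute a b := fun a b => hc a b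
  refine ⟨(b * (z b)⁻¹) ^ (k + 1), (b * z b) ^ (k + 1), ?_, ?_, ?_⟩
  · rw [map_pow, map_mul, map_inv, hzz, ← inv_pow, mul_inv_rev, inv_inv]
  · rw [map_pow, map_mul, hzz, hc]
  · rw [← (hcc _ _).mul_pow]
    have e1 : b * (z b)⁻¹ * (b * z b) = b * b := by
      rw [hc b (z b), mul_assoc]
      simp [hc]
    rw [e1, ← pow_two, ← pow_mul]
    have e2 : 2 * (k + 1) = q + 1 := by omega
    rw [e2, pow_succ, hexp, one_mul]

theorem card_Ti_mul_fx {q : ℕ} (hq : Odd q) (hexp : ∀ a : A, a ^ q = 1) (hc : ∀ a b : A, a * b = b * a)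
    {z : MulAut A} (hz : z ^ 2 = 1) : Nat.card (Ti z hc) * Nat.card (fx z) = Nat.card A := by
  rw [← Nat.card_prod]
  refine Nat.card_congr (Equiv.ofBijective (fun x => ((x.1 : A) * (x.2 : A))) ⟨?_, ?_⟩)
  · rintro ⟨⟨t, ht⟩, ⟨c, hc'⟩⟩ ⟨⟨t', ht'⟩, ⟨c', hc''⟩⟩ h
    have h' : t * c = t' * c' := h
    have hT : z t = t⁻¹ := ht
    have hT' : z t' = t'⁻¹ := ht'
    have hC : z c = c := hc'
    have hC' : z c' = c' := hc''
    have e1 : z (t * c) = z (t' * c') := by rw [h']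
    rw [map_mul, map_mul, hT, hT', hC, hC'] at e1
    have key : ∀ a b : A, (a * b) * (a⁻¹ * b) = b * b := by
      intro a b
      calc (a * b) * (a⁻¹ * b) = a * (b * a⁻¹) * b := by group
        _ = a * (a⁻¹ * b) * b := by rw [hc b a⁻¹]
        _ = b * b := by group
    have hcc : c * c = c' * c' := by
      rw [← key t c, ← key t' c', h', e1]
    have hd : (c * c'⁻¹) * (c * c'⁻¹) = 1 := by
      calc (c * c'⁻¹) * (c * c'⁻¹) = c * (c'⁻¹ * c) * c'⁻¹ := by group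
        _ = c * (c * c'⁻¹) * c'⁻¹ := by rw [hc c'⁻¹ c]
        _ = (c * c) * c'⁻¹ * c'⁻¹ := by group
        _ = (c' * c') * c'⁻¹ * c'⁻¹ := by rw [hcc]
        _ = 1 := by group
    have hd1 := eq_one_of_sq hq hexp hd
    have hcce : c = c' := mul_inv_eq_one.mp hd1
    subst hcce
    have hte : t = t' := mul_right_cancel h'
    subst hte
    rfl
  · intro b
    obtain ⟨t, c, h1, h2, h3⟩ := exists_decomp hq hexp hc hz b
    exact ⟨(⟨t, h1⟩, ⟨c, h2⟩), h3⟩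

end Dec

section Arith

/-- Mersenne arithmetic: `q ^ i + 1 = 2 ^ (n + 1)` with `n ≥ 1` forces `i = 1`. -/
theorem mersenne_exp {q i n : ℕ} (hq : q.Prime) (hq2 : q ≠ 2) (hi : 1 ≤ i) (hn : 1 ≤ n)
    (h : q ^ i + 1 = 2 ^ (n + 1)) : i = 1 := by
  have hodd : Odd q := hq.odd_of_ne_two hq2
  have hq1 : 1 ≤ q := hq.one_lt.le
  have h4 : 4 ∣ q ^ i + 1 := by
    rw [h]
    have : n + 1 = 2 + (n - 1) := by omega
    rw [this, pow_add]
    exact Dvd.intro _ rfl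
  -- `i` is odd
  have hiodd : Odd i := by
    by_contra hne
    rw [Nat.not_odd_iff_even] at hne
    obtain ⟨j, rfl⟩ := hne
    have h5 : (q ^ (j + j)) % 4 = 1 := by
      rw [← two_mul, pow_mul]
      have h6 : q ^ 2 % 4 = 1 := by
        obtain ⟨k, rfl⟩ := hodd
        have : (2 * k + 1) ^ 2 = 4 * (k ^ 2 + k) + 1 := by ring
        omega
      rw [Nat.pow_mod, h6]
      simp
    omega
  obtain ⟨j, rfl⟩ := hiodd
  have hind : ∀ j : ℕ, ∃ m : ℕ, Odd m ∧ q ^ (2 * j + 1) + 1 = (q + 1) * m := by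
    intro j
    induction j with
    | zero => exact ⟨1, odd_one, by simp⟩
    | succ j ih =>
      obtain ⟨m, hm, hm'⟩ := ih
      obtain ⟨a, rfl⟩ := hodd
      obtain ⟨b, rfl⟩ := hm
      refine ⟨(2 * a + 1) ^ 2 * (2 * b + 1) - 2 * a, ?_, ?_⟩
      · have h1 : 2 * a ≤ (2 * a + 1) ^ 2 * (2 * b + 1) := by nlinarith
        obtain ⟨c, hc⟩ : ∃ c, (2 * a + 1) ^ 2 * (2 * b + 1) = 2 * a + c := ⟨_, (Nat.add_sub_of_le h1).symm⟩
        rw [hc, Nat.add_sub_cancel_left]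
        have h2 : Odd ((2 * a + 1) ^ 2 * (2 * b + 1)) := by
          apply Odd.mul
          · exact Odd.pow ⟨a, rfl⟩
          · exact ⟨b, rfl⟩
        rw [hc] at h2
        have h3 : Even (2 * a) := even_two_mul a
        exact (Nat.even_add.not.mp (Nat.not_even_iff_odd.mpr h2)) |> fun h4 => by
          by_contra h5
          rw [Nat.not_odd_iff_even] at h5
          exact h4 (by simp [h3, h5])
      · have h1 : 2 * a ≤ (2 * a + 1) ^ 2 * (2 * b + 1) := by nlinarith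
        zify [h1]
        zify at hm'
        have e : ((2 * (a : ℤ) + 1) ^ (2 * (j + 1) + 1)) = (2 * (a : ℤ) + 1) ^ 2 * (2 * (a : ℤ) + 1) ^ (2 * j + 1) := by
          rw [← pow_add]
          congr 1
          omega
        rw [e]
        have h2 : ((2 * (a : ℤ) + 1) ^ (2 * j + 1)) = (2 * (a : ℤ) + 1 + 1) * (2 * (b : ℤ) + 1) - 1 := by
          linarith
        rw [h2]
        ring
  obtain ⟨m, hm, hm'⟩ := hind j
  have h5 : m ∣ 2 ^ (n + 1) := by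
    rw [← h, hm']
    exact Dvd.intro_left _ rfl
  obtain ⟨t, -, rfl⟩ := (Nat.dvd_prime_pow Nat.prime_two).mp h5
  have ht : t = 0 := by
    by_contra ht
    have : Even (2 ^ t) := (Nat.even_pow.mpr ⟨even_two, ht⟩)
    exact (Nat.not_even_iff_odd.mpr hm) this
  subst ht
  rw [pow_zero, mul_one] at hm'
  have h6 : q ^ (2 * j + 1) = q ^ 1 := by
    rw [pow_one]
    omega
  have h7 := Nat.pow_right_injective hq.two_le h6
  exact h7

end Arith

section Rep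

variable {K : Type*} [Field K] {W : Type*} [AddCommGroup W] [Module K W] [FiniteDimensional K W] [Nontrivial W]
  {Γ : Type*} [Group Γ] [Fintype Γ]

theorem scal_eq_one {c : K} (h : c • (1 : End K W) = 1) : c = 1 := by
  obtain ⟨v, hv⟩ := exists_ne (0 : W)
  have h1 := LinearMap.congr_fun h v
  simp only [LinearMap.smul_apply, Module.End.one_apply] at h1
  have h2 : (c - 1) • v = 0 := by
    rw [sub_smul, h1, one_smul, sub_self]
  exact sub_eq_zero.mp ((smul_eq_zero.mp h2).resolve_right hv)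

theorem sq_finrank_le_card [IsAlgClosed K] {ρ₀ : Γ →* End K W} (hρ : Irr ρ₀) (hcard : (Fintype.card Γ : K) ≠ 0) :
    (finrank K W) ^ 2 ≤ Nat.card (Γ ⧸ scal ρ₀) := by
  classical
  let _ : Fintype (Γ ⧸ scal ρ₀) := Fintype.ofFinite _
  let l : (Γ ⧸ scal ρ₀) → Γ := Quotient.out
  have hl : ∀ b, ((l b : Γ) : Γ ⧸ scal ρ₀) = b := fun b => QuotientGroup.out_eq' b
  let b : (Γ ⧸ scal ρ₀) → End K W := fun x => ρ₀ (l x)
  have hS : Submodule.span K (Set.range b) = ⊤ := by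
    rw [eq_top_iff]
    intro a _
    have hg : ∀ g : Γ, ρ₀ g ∈ Submodule.span K (Set.range b) := by
      intro g
      have h1 : (l (g : Γ ⧸ scal ρ₀))⁻¹ * g ∈ scal ρ₀ := QuotientGroup.eq.mp (hl _)
      obtain ⟨μ, hμ⟩ := h1
      have h2 : ρ₀ g = μ • b (g : Γ ⧸ scal ρ₀) := by
        have e : g = l (g : Γ ⧸ scal ρ₀) * ((l (g : Γ ⧸ scal ρ₀))⁻¹ * g) := by group
        conv_lhs => rw [e, map_mul, hμ]
        rw [mul_smul_comm, mul_one]
      rw [h2]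
      exact Submodule.smul_mem _ _ (Submodule.subset_span ⟨_, rfl⟩)
    have h3 := fourier hρ a
    have h4 : (Fintype.card Γ : K) • a ∈ Submodule.span K (Set.range b) := by
      rw [h3]
      refine Submodule.smul_mem _ _ (Submodule.sum_mem _ fun g _ => Submodule.smul_mem _ _ (hg g))
    have h5 := Submodule.smul_mem _ (Fintype.card Γ : K)⁻¹ h4
    rwa [smul_smul, inv_mul_cancel₀ hcard, one_smul] at h5
  have h1 := finrank_range_le_card (R := K) b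
  rw [Set.finrank, hS, finrank_top, Module.finrank_linearMap] at h1
  rw [pow_two, Nat.card_eq_fintype_card]
  exact h1

theorem card_ne_zero_of_isP {q : ℕ} [CharP K 2] (hq : q.Prime) (hq2 : q ≠ 2) {X : Type*} [Group X] [Fintype X]
    (hX : IsPGroup q X) : (Fintype.card X : K) ≠ 0 := by
  haveI : Fact q.Prime := ⟨hq⟩
  obtain ⟨k, hk⟩ := IsPGroup.iff_card.mp hX
  rw [← Nat.card_eq_fintype_card, hk]
  intro h
  have h1 := (CharP.cast_eq_zero_iff K 2 _).mp h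
  have h2 := Nat.prime_two.dvd_of_dvd_pow h1
  exact hq2 ((Nat.prime_dvd_prime_iff_eq Nat.prime_two hq).mp h2).symm

/-- An element inverted modulo scalars and one fixed modulo scalars commute. -/
theorem comm_of_inv_fix [IsAlgClosed K] [CharP K 2] {ρ₀ : Γ →* End K W} (hρ : Irr ρ₀)
    (hsc : ∀ g h : Γ, g * h * g⁻¹ * h⁻¹ ∈ scal ρ₀) {τz : MulAut Γ} {cz : End K W} (hcz0 : cz ≠ 0)
    (hcz : ∀ g, cz * ρ₀ g = ρ₀ (τz g) * cz) {b g : Γ} (hb : τz b * b ∈ scal ρ₀) (hg : τz g * g⁻¹ ∈ scal ρ₀) :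
    ρ₀ b * ρ₀ g = ρ₀ g * ρ₀ b := by
  set x := b * g * b⁻¹ * g⁻¹ with hx
  obtain ⟨lam, hlam⟩ := hsc b g
  rw [← hx] at hlam
  have h1 := Cfsg.Agent.Lib.HHE5.tw_scal hρ ⟨cz, hcz0, hcz⟩ (hsc b g)
  rw [← hx] at h1
  obtain ⟨s, hs⟩ : ∃ s, s = τz b * b := ⟨_, rfl⟩
  obtain ⟨t, ht⟩ : ∃ t, t = τz g * g⁻¹ := ⟨_, rfl⟩
  have hsm : s ∈ scal ρ₀ := hs ▸ hb
  have htm : t ∈ scal ρ₀ := ht ▸ hg
  obtain ⟨μ, hμ⟩ := hsm
  obtain ⟨ν, hν⟩ := htm
  obtain ⟨μ', hμ'⟩ := (scal ρ₀).inv_mem (⟨μ, hμ⟩ : s ∈ scal ρ₀)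
  obtain ⟨ν', hν'⟩ := (scal ρ₀).inv_mem (⟨ν, hν⟩ : t ∈ scal ρ₀)
  have h2 : μ * μ' = 1 := by
    apply scal_eq_one (W := W)
    have : ρ₀ (s * s⁻¹) = 1 := by simp
    rw [map_mul, hμ, hμ', smul_mul_smul_comm, mul_one] at this
    exact this
  have h3 : ν * ν' = 1 := by
    apply scal_eq_one (W := W)
    have : ρ₀ (t * t⁻¹) = 1 := by simp
    rw [map_mul, hν, hν', smul_mul_smul_comm, mul_one] at this
    exact this
  have e1 : τz b = s * b⁻¹ := by rw [hs]; group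
  have e2 : τz g = t * g := by rw [ht]; group
  have h4 : ρ₀ (τz x) = ρ₀ (b⁻¹ * g * b * g⁻¹) := by
    have e3 : τz x = s * b⁻¹ * (t * g) * (b * s⁻¹) * (g⁻¹ * t⁻¹) := by
      rw [hx, map_mul, map_mul, map_mul, map_inv, map_inv, e1, e2]
      group
    rw [e3]
    simp only [map_mul]
    rw [hμ, hν, hμ', hν']
    simp only [smul_mul_assoc, mul_smul_comm, one_mul, mul_one, smul_smul]
    have e4 : ν' * (μ' * (ν * μ)) = 1 := by
      calc ν' * (μ' * (ν * μ)) = (μ * μ') * (ν * ν') := by ring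
        _ = 1 := by rw [h2, h3, one_mul]
    rw [e4, one_smul]
  rw [h1, hlam] at h4
  have h5 : ρ₀ x⁻¹ = lam • 1 := by
    have e3 : x⁻¹ = b * (b⁻¹ * g * b * g⁻¹) * b⁻¹ := by
      rw [hx]
      group
    rw [e3, map_mul, map_mul, ← h4, mul_smul_comm, mul_one, smul_mul_assoc, ← map_mul]
    simp
  have h6 : lam * lam = 1 := by
    apply scal_eq_one (W := W)
    have : ρ₀ (x * x⁻¹) = 1 := by simp
    rw [map_mul, hlam, h5, smul_mul_smul_comm, mul_one] at this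
    exact this
  have h7 : lam = 1 := by
    have h8 : (lam - 1) ^ 2 = 0 := by
      have h9 : (2 : K) = 0 := by
        have := CharP.cast_eq_zero K 2
        exact_mod_cast this
      have : (lam - 1) ^ 2 = lam * lam - 1 - 2 * (lam - 1) := by ring
      rw [this, h6, h9]
      ring
    exact sub_eq_zero.mp (pow_eq_zero_iff (two_ne_zero) |>.mp h8)
  rw [h7, one_smul] at hlam
  have e5 : b * g = x * (g * b) := by rw [hx]; group
  rw [← map_mul, e5, map_mul, hlam, one_mul, map_mul]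

/-- The lower bound for the size of the inverted part. -/
theorem lower_bound [IsAlgClosed K] [CharP K 2] {q : ℕ} [hqf : Fact q.Prime] (hq2 : q ≠ 2) (hΓ : IsPGroup q Γ)
    {ρ₀ : Γ →* End K W} (hρ : Irr ρ₀) (hsc : ∀ g h : Γ, g * h * g⁻¹ * h⁻¹ ∈ scal ρ₀)
    (hpow : ∀ g : Γ, g ^ q ∈ scal ρ₀) {c : End K W} {τ : MulAut Γ} (hc : ∀ g, c * ρ₀ g = ρ₀ (τ g) * c)
    (hτ : ∀ x ∈ scal ρ₀, τ x ∈ scal ρ₀) {n : ℕ} (hc1 : (c - 1) ^ (2 ^ (n + 1) - 1) = 0)
    (hσN : (quot τ (scal ρ₀) hτ) ^ 2 ^ (n + 1) = 1) (hz : (quot τ (scal ρ₀) hτ) ^ 2 ^ n ≠ 1)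
    (hB : ∀ a b : Γ ⧸ scal ρ₀, a * b = b * a) :
    (2 ^ (n + 1) - 1) ^ 2 ≤ Nat.card (Ti ((quot τ (scal ρ₀) hτ) ^ 2 ^ n) hB) := by
  classical
  have hq := hqf.out
  obtain ⟨N, hN⟩ : ∃ N, N = 2 ^ (n + 1) := ⟨_, rfl⟩
  rw [← hN] at hc1 hσN ⊢
  have hN1 : 1 ≤ N := by rw [hN]; exact Nat.one_le_two_pow
  have hN2 : 2 ≤ N := by
    rw [hN, pow_succ]
    have := Nat.one_le_two_pow (n := n)
    omega
  have hNn : N = 2 ^ n * 2 := by rw [hN, pow_succ]
  set σ := quot τ (scal ρ₀) hτ with hσ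
  obtain ⟨z, hzdef⟩ : ∃ z, z = σ ^ 2 ^ n := ⟨_, rfl⟩
  rw [← hzdef] at hz ⊢
  let π : Γ →* Γ ⧸ scal ρ₀ := QuotientGroup.mk' _
  have hπs : Function.Surjective π := QuotientGroup.mk'_surjective _
  have hπker : ∀ g, π g = 1 ↔ g ∈ scal ρ₀ := fun g => QuotientGroup.eq_one_iff g
  have hπσ : ∀ (i : ℕ) (g : Γ), (σ ^ i) (π g) = π ((τ ^ i) g) := fun i g => quot_pow_mk τ (scal ρ₀) hτ i g
  have hπz : ∀ g : Γ, z (π g) = π ((τ ^ 2 ^ n) g) := fun g => by rw [hzdef, hπσ]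
  have hqodd : Odd q := hq.odd_of_ne_two hq2
  have hBq : ∀ a : Γ ⧸ scal ρ₀, a ^ q = 1 := by
    intro a
    obtain ⟨g, rfl⟩ := hπs a
    rw [← map_pow]
    exact (hπker _).mpr (hpow g)
  have hz2 : z ^ 2 = 1 := by
    rw [hzdef, ← pow_mul, ← hNn]
    exact hσN
  have hzσ : ∀ b, z (σ b) = σ (z b) := by
    intro b
    rw [← MulAut.mul_apply, ← MulAut.mul_apply, hzdef, ← pow_succ, ← pow_succ']
  have hzσi : ∀ b, z (σ⁻¹ b) = σ⁻¹ (z b) := by
    intro b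
    apply σ.injective
    rw [← hzσ]
    simp
  let T := Ti z hB
  let ΓT : Subgroup Γ := T.comap π
  let ΓC : Subgroup Γ := (fx z).comap π
  have hT : ∀ g, g ∈ ΓT ↔ z (π g) = (π g)⁻¹ := fun g => Iff.rfl
  have hC : ∀ g, g ∈ ΓC ↔ z (π g) = π g := fun g => Iff.rfl
  have hτT : ∀ g ∈ ΓT, τ g ∈ ΓT := by
    intro g hg
    rw [hT] at hg ⊢
    have e : π (τ g) = σ (π g) := rfl
    rw [e, hzσ, hg, map_inv]
  have hπτi : ∀ g, π (τ⁻¹ g) = σ⁻¹ (π g) := by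
    intro g
    apply σ.injective
    rw [MulAut.apply_inv_self]
    show π (τ (τ⁻¹ g)) = π g
    rw [MulAut.apply_inv_self]
  have hτT' : ∀ g ∈ ΓT, τ⁻¹ g ∈ ΓT := by
    intro g hg
    rw [hT] at hg ⊢
    rw [hπτi, hzσi, hg, map_inv]
  -- the twist
  have hcpow : ∀ (i : ℕ) (g : Γ), c ^ i * ρ₀ g = ρ₀ ((τ ^ i) g) * c ^ i := fun i g => pow_mul_rho hc i g
  have hcN : c ^ N = 1 := by
    have h1 := sub_one_pow_char_pow (K := K) 2 (n + 1) c
    rw [← hN] at h1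
    have h2 : (c - 1) ^ N = 0 := by
      have e1 : N = (N - 1) + 1 := by omega
      rw [e1, pow_succ, hc1, zero_mul]
    rw [h2] at h1
    exact (sub_eq_zero.mp h1.symm)
  have hcinv : ∀ v, c v = 0 → v = 0 := by
    intro v hv
    have h1 := LinearMap.congr_fun hcN v
    rw [Module.End.one_apply] at h1
    have e1 : N = (N - 1) + 1 := by omega
    rw [e1, pow_succ, Module.End.mul_apply, hv, map_zero] at h1
    exact h1.symm
  have hcz0 : c ^ 2 ^ n ≠ 0 := by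
    intro h0
    have h1 : c ^ N = 0 := by
      rw [hNn, pow_mul, h0]
      simp
    rw [hcN] at h1
    exact one_ne_zero h1
  -- commuting
  have hTC : ∀ b ∈ ΓT, ∀ g ∈ ΓC, ρ₀ b * ρ₀ g = ρ₀ g * ρ₀ b := by
    intro b hb g hg
    refine comm_of_inv_fix hρ hsc hcz0 (hcpow _) ?_ ?_
    · rw [← hπker, map_mul, ← hπz, (hT b).mp hb, inv_mul_cancel]
    · rw [← hπker, map_mul, ← hπz, (hC g).mp hg, map_inv, mul_inv_cancel]
  have hdec : ∀ γ : Γ, ∃ b ∈ ΓT, ∃ g ∈ ΓC, γ = b * g := by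
    intro γ
    obtain ⟨t, c', h1, h2, h3⟩ := exists_decomp hqodd hBq hB hz2 (π γ)
    obtain ⟨b, rfl⟩ := hπs t
    refine ⟨b, h1, b⁻¹ * γ, ?_, by group⟩
    show z (π (b⁻¹ * γ)) = π (b⁻¹ * γ)
    have e1 : π (b⁻¹ * γ) = c' := by
      rw [map_mul, map_inv, ← h3]
      group
    rw [e1, h2]
  -- the subgroup
  let G₁ := ↥ΓT
  let τ₁ : MulAut G₁ := resAut τ ΓT hτT hτT'
  have hτ₁ : ∀ g : G₁, ((τ₁ g : G₁) : Γ) = τ g := fun _ => rfl
  let ρT : G₁ →* End K W := ρ₀.comp ΓT.subtype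
  have hρT : ∀ g : G₁, ρT g = ρ₀ (g : Γ) := fun _ => rfl
  let _ : Fintype G₁ := Fintype.ofFinite _
  have hG₁q : IsPGroup q G₁ := hΓ.to_subgroup _
  have hcard₁ : (Fintype.card G₁ : K) ≠ 0 := card_ne_zero_of_isP hq hq2 hG₁q
  obtain ⟨W₁, -, hinv₁, hne₁, hmin₁⟩ := exists_irr ρT ⊤ (fun _ _ _ => trivial) top_ne_bot
  have hirr₁ := irr_restrict ρT W₁ hinv₁ hmin₁
  let ρ' := HHChar.restrictRep ρT W₁ hinv₁
  have hρ' : ∀ (g : G₁) (v : W₁), ((ρ' g v : W₁) : W) = ρ₀ (g : Γ) v := fun _ _ => rfl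
  haveI hW₁nt : Nontrivial W₁ := Submodule.nontrivial_iff_ne_bot.mpr hne₁
  obtain ⟨C₁, hC₁inv, hC₁⟩ := exists_inv_compl ρT hcard₁ W₁ hinv₁
  let π₁ : W →ₗ[K] W₁ := Submodule.linearProjOfIsCompl W₁ C₁ hC₁
  have hπ₁w : ∀ w : W₁, π₁ w = w := fun w => Submodule.linearProjOfIsCompl_apply_left hC₁ w
  have hπ₁r : ∀ u ∈ C₁, π₁ u = 0 := fun u hu => Submodule.linearProjOfIsCompl_apply_right' hC₁ hu
  have hπ₁eq : ∀ (x : G₁) (v : W), π₁ (ρ₀ (x : Γ) v) = ρ' x (π₁ v) := by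
    intro x v
    have hv : v ∈ W₁ ⊔ C₁ := by rw [hC₁.sup_eq_top]; trivial
    obtain ⟨w, hw, u, hu, rfl⟩ := Submodule.mem_sup.mp hv
    have e1 : π₁ (w + u) = ⟨w, hw⟩ := by
      rw [map_add, hπ₁r u hu, add_zero]
      exact hπ₁w ⟨w, hw⟩
    have e2 : ρ₀ (x : Γ) (w + u) = ρT x w + ρT x u := map_add _ _ _
    rw [e1, e2, map_add π₁, hπ₁r _ (hC₁inv x u hu), add_zero]
    exact hπ₁w ⟨ρT x w, hinv₁ x w hw⟩
  -- the twist on `W₁`
  let φ : Γ → End K W₁ := fun g => π₁ ∘ₗ ρ₀ g ∘ₗ c ∘ₗ W₁.subtype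
  have hφ : ∀ (g : Γ) (v : W₁), φ g v = π₁ (ρ₀ g (c v)) := fun _ _ => rfl
  have hφeq : ∀ g ∈ ΓC, ∀ x : G₁, φ g * ρ' x = ρ' (τ₁ x) * φ g := by
    intro g hg x
    refine LinearMap.ext fun v => ?_
    simp only [Module.End.mul_apply]
    rw [hφ, hφ, ← hπ₁eq]
    congr 1
    have h1 := LinearMap.congr_fun (hc (x : Γ)) (v : W)
    simp only [Module.End.mul_apply] at h1
    have e1 : ((ρ' x v : W₁) : W) = ρ₀ (x : Γ) v := rfl
    rw [e1, h1]
    have h2 := LinearMap.congr_fun (hTC _ (τ₁ x).2 g hg) (c (v : W))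
    simp only [Module.End.mul_apply] at h2
    rw [hτ₁] at h2
    rw [hτ₁]
    exact h2.symm
  have hex : ∃ g ∈ ΓC, φ g ≠ 0 := by
    by_contra hcon
    push Not at hcon
    let X : Submodule K W :=
      { carrier := {v | ∀ γ : Γ, π₁ (ρ₀ γ v) = 0}
        add_mem' := by
          intro a b ha hb γ
          rw [map_add, map_add, ha, hb, add_zero]
        zero_mem' := by
          intro γ
          simp
        smul_mem' := by
          intro r a ha γ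
          rw [map_smul, map_smul, ha, smul_zero] }
    obtain ⟨w, hw⟩ := exists_ne (0 : W₁)
    have hcw : c (w : W) ∈ X := by
      intro γ
      obtain ⟨b, hb, g, hg, rfl⟩ := hdec γ
      rw [map_mul, Module.End.mul_apply]
      have h1 := hπ₁eq ⟨b, hb⟩ (ρ₀ g (c (w : W)))
      have h2 : π₁ (ρ₀ g (c (w : W))) = 0 := by
        have := LinearMap.congr_fun (hcon g hg) w
        exact this
      rw [h2, map_zero] at h1
      exact h1
    have hXinv : X = ⊥ ∨ X = ⊤ := hρ X (by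
      intro a v hv γ
      have h1 := hv (γ * a)
      rw [map_mul, Module.End.mul_apply] at h1
      exact h1)
    rcases hXinv with h0 | h0
    · have h1 : c (w : W) = 0 := by
        rw [h0] at hcw
        exact hcw
      exact hw (Subtype.ext (hcinv _ h1))
    · have h1 : (w : W) ∈ X := by rw [h0]; trivial
      have h2 := h1 1
      rw [map_one, Module.End.one_apply, hπ₁w] at h2
      exact hw h2
  have hTw : Tw ρ' τ₁ := by
    obtain ⟨g, hg, hne⟩ := hex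
    exact ⟨φ g, hne, hφeq g hg⟩
  -- a stable copy
  have hA : ∀ g : G₁, c * ρT g = ρT (τ₁ g) * c := fun g => hc g
  obtain ⟨φ₀, hφ₀, hinj, hstable⟩ := exists_stable_copy ρT ρ' hirr₁ c τ₁ hA (tw_inv hirr₁ hTw) W₁.subtype (by
      intro h
      obtain ⟨v, hv⟩ := exists_ne (0 : W₁)
      apply hv
      have := LinearMap.congr_fun h v
      exact Subtype.ext (by simpa using this)) (fun g v => rfl)
  let W₂ : Submodule K W := LinearMap.range φ₀
  have hS : Inv ρT W₂ := by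
    rintro g _ ⟨w, rfl⟩
    exact ⟨ρ' g w, hφ₀ g w⟩
  have hstable' : ∀ u ∈ W₂, c u ∈ W₂ := by
    rintro _ ⟨w, rfl⟩
    exact hstable w
  let ρ₂ := HHChar.restrictRep ρT W₂ hS
  have hρ₂ : ∀ (g : G₁) (v : W₂), ((ρ₂ g v : W₂) : W) = ρ₀ (g : Γ) v := fun _ _ => rfl
  let E : W₁ ≃ₗ[K] W₂ := LinearEquiv.ofInjective φ₀ hinj
  have hE : ∀ g v, E (ρ' g v) = ρ₂ g (E v) := by
    intro g v
    apply Subtype.ext
    exact hφ₀ g v
  have hirr₂ : Irr ρ₂ := irr_of_equiv E hE hirr₁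
  haveI hW₂nt : Nontrivial W₂ := E.injective.nontrivial
  let c₂ : End K W₂ := c.restrict hstable'
  have hc₂ : ∀ g, c₂ * ρ₂ g = ρ₂ (τ₁ g) * c₂ := by
    intro g
    ext v
    exact LinearMap.congr_fun (hA g) (v : W)
  have hpw : ∀ (k : ℕ) (v : W₂), (((c₂ ^ k) v : W₂) : W) = (c ^ k) v := by
    intro k v
    induction k generalizing v with
    | zero => simp
    | succ k ih =>
      rw [pow_succ', Module.End.mul_apply, pow_succ', Module.End.mul_apply, ← ih]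
      rfl
  have hc₂N : c₂ ^ N = 1 := by
    ext v
    rw [hpw, hcN]
    rfl
  have hc₂1 : (c₂ - 1) ^ (N - 1) = 0 := by
    ext w
    rw [restrict_pow_sub_one c W₂ hstable' (N - 1) w, hc1]
    rfl
  obtain ⟨Q, hQ⟩ : ∃ Q, Q = finrank K W₂ := ⟨_, rfl⟩
  have hnil : (c₂ - 1) ^ Q = 0 := by
    have h1 := Module.End.ker_pow_le_ker_pow_finrank (c₂ - 1) (N - 1)
    rw [hc₂1, LinearMap.ker_zero, top_le_iff, ← hQ, LinearMap.ker_eq_top] at h1
    exact h1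
  have h1 := Cfsg.Agent.Lib.HHE1.sq_finrank_le Q (c₂ - 1) hnil
  rw [comm_sub_one, ← hQ] at h1
  have hcc : c₂ * c₂ ^ (N - 1) = 1 := by
    rw [← pow_succ', Nat.sub_add_cancel hN1, hc₂N]
  have hcc' : c₂ ^ (N - 1) * c₂ = 1 := by
    rw [← pow_succ, Nat.sub_add_cancel hN1, hc₂N]
  have hc₂0 : c₂ ≠ 0 := by
    intro h0
    rw [h0, zero_mul] at hcc
    exact zero_ne_one hcc
  have hτ₂ : ∀ x ∈ scal ρ₂, τ₁ x ∈ scal ρ₂ := by
    intro x hx
    have h := Cfsg.Agent.Lib.HHE5.tw_scal hirr₂ ⟨c₂, hc₂0, hc₂⟩ hx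
    obtain ⟨lam, hlam⟩ := hx
    exact ⟨lam, by rw [h, hlam]⟩
  have h3 := finrank_comm_le hirr₂ hcard₁ hcc hcc' hc₂ hτ₂
  -- the quotient of `G₁`
  have hscal₂ : ∀ g : G₁, (g : Γ) ∈ scal ρ₀ → g ∈ scal ρ₂ := by
    rintro g ⟨μ, hμ⟩
    refine ⟨μ, ?_⟩
    ext v
    show ρ₀ (g : Γ) (v : W) = _
    rw [hμ]
    rfl
  have hsc₂ : ∀ g h : G₁, g * h * g⁻¹ * h⁻¹ ∈ scal ρ₂ := fun g h => hscal₂ _ (hsc g h)
  obtain ⟨σ₂, hσ₂⟩ : ∃ σ₂, σ₂ = quot τ₁ (scal ρ₂) hτ₂ := ⟨_, rfl⟩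
  rw [← hσ₂] at h3
  have hπσ₂ : ∀ (i : ℕ) (g : G₁), (σ₂ ^ i) ((g : G₁) : G₁ ⧸ scal ρ₂) = (((τ₁ ^ i) g : G₁) : G₁ ⧸ scal ρ₂) := by
    intro i g
    rw [hσ₂]
    exact quot_pow_mk τ₁ (scal ρ₂) hτ₂ i g
  have hτ₁pow : ∀ (i : ℕ) (g : G₁), (((τ₁ ^ i) g : G₁) : Γ) = (τ ^ i) (g : Γ) := fun i g => resAut_pow τ ΓT hτT hτT' i g
  have hz₂inv : ∀ b : G₁ ⧸ scal ρ₂, (σ₂ ^ 2 ^ n) b = b⁻¹ := by
    intro b
    obtain ⟨g, rfl⟩ := QuotientGroup.mk_surjective b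
    rw [hπσ₂]
    apply eq_inv_of_mul_eq_one_left
    have hm : ((τ₁ ^ 2 ^ n) g * g : G₁) ∈ scal ρ₂ := by
      apply hscal₂
      rw [Subgroup.coe_mul, hτ₁pow, ← hπker, map_mul, ← hπz, (hT _).mp g.2, inv_mul_cancel]
    exact (QuotientGroup.eq_one_iff _).mpr hm
  have hσ₂N : σ₂ ^ 2 ^ (n + 1) = 1 := by
    ext b
    obtain ⟨g, rfl⟩ := QuotientGroup.mk_surjective b
    rw [hπσ₂]
    show (((τ₁ ^ 2 ^ (n + 1)) g : G₁) : G₁ ⧸ scal ρ₂) = ((g : G₁) : G₁ ⧸ scal ρ₂)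
    apply QuotientGroup.eq.mpr
    apply hscal₂
    rw [Subgroup.coe_mul, Subgroup.coe_inv, hτ₁pow, ← hπker, map_mul, map_inv, ← hπσ, ← hN, hσN]
    simp
  have hB₂q : ∀ a : G₁ ⧸ scal ρ₂, a ^ q = 1 := by
    intro a
    obtain ⟨g, rfl⟩ := QuotientGroup.mk_surjective a
    rw [← QuotientGroup.mk_pow]
    exact (QuotientGroup.eq_one_iff _).mpr (hscal₂ _ (hpow g))
  -- nontriviality
  have hB₂nt : Nontrivial (G₁ ⧸ scal ρ₂) := by
    by_contra hcon
    rw [not_nontrivial_iff_subsingleton] at hcon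
    have hall : ∀ g : G₁, g ∈ scal ρ₂ := fun g =>
      (QuotientGroup.eq_one_iff g).mp (Subsingleton.elim _ _)
    have hcomm₁ : ∀ g h : G₁, ρ₀ (g : Γ) * ρ₀ (h : Γ) = ρ₀ (h : Γ) * ρ₀ (g : Γ) := by
      intro g h
      obtain ⟨lam, hlam⟩ := hsc (g : Γ) (h : Γ)
      obtain ⟨μ, hμ⟩ := hall g
      obtain ⟨μ', hμ'⟩ := hall (g⁻¹)
      obtain ⟨ν, hν⟩ := hall h
      obtain ⟨ν', hν'⟩ := hall (h⁻¹)
      obtain ⟨v, hv⟩ := exists_ne (0 : W₂)
      have hm2 : (ρ₂ (g * h * g⁻¹ * h⁻¹)) = ρ₂ (g * g⁻¹ * (h * h⁻¹)) := by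
        simp only [map_mul]
        rw [hμ, hν, hμ', hν']
        simp only [smul_mul_assoc, mul_smul_comm, one_mul, mul_one, smul_smul]
        congr 1
        ring
      have hm3 : ρ₂ (g * h * g⁻¹ * h⁻¹) = 1 := by
        rw [hm2]
        rw [mul_inv_cancel, mul_inv_cancel, one_mul, map_one]
      have h5 : ((ρ₂ (g * h * g⁻¹ * h⁻¹) v : W₂) : W) = ρ₀ ((g : Γ) * h * (g : Γ)⁻¹ * (h : Γ)⁻¹) v := rfl
      rw [hm3, hlam] at h5
      have h6 : (v : W) = lam • (v : W) := h5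
      have h7 : (1 - lam) • (v : W) = 0 := by
        rw [sub_smul, one_smul, ← h6, sub_self]
      have hv' : (v : W) ≠ 0 := fun h => hv (Subtype.ext h)
      have h8 : lam = 1 := (sub_eq_zero.mp ((smul_eq_zero.mp h7).resolve_right hv')).symm
      rw [h8, one_smul] at hlam
      have e5 : (g : Γ) * h = ((g : Γ) * h * (g : Γ)⁻¹ * (h : Γ)⁻¹) * (h * g) := by group
      rw [← map_mul, e5, map_mul, hlam, one_mul, map_mul]
    apply hz
    ext b
    obtain ⟨t, c', h5, h6, h7⟩ := exists_decomp hqodd hBq hB hz2 b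
    obtain ⟨g, rfl⟩ := hπs t
    have hg : g ∈ ΓT := h5
    have hgs : g ∈ scal ρ₀ := by
      refine schur hρ (ρ₀ g) ?_
      intro γ
      obtain ⟨b', hb', g', hg', rfl⟩ := hdec γ
      rw [map_mul, ← mul_assoc, hcomm₁ ⟨g, hg⟩ ⟨b', hb'⟩, mul_assoc, hTC g hg g' hg', mul_assoc]
    have h8 : π g = 1 := (hπker g).mpr hgs
    rw [h8, one_mul] at h7
    rw [MulAut.one_apply, ← h7]
    exact h6
  have hFact2 : Fact (Nat.Prime 2) := ⟨Nat.prime_two⟩
  have hz₂ne : σ₂ ^ 2 ^ n ≠ 1 := by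
    intro h0
    obtain ⟨b, hb⟩ := exists_ne (1 : G₁ ⧸ scal ρ₂)
    have h5 := hz₂inv b
    rw [h0, MulAut.one_apply] at h5
    apply hb
    apply eq_one_of_sq hqodd hB₂q
    nth_rw 1 [h5]
    simp
  have hord : orderOf σ₂ = N := by
    rw [hN]
    exact orderOf_eq_prime_pow hz₂ne hσ₂N
  have hbs := burnside_nat σ₂
  rw [hord] at hbs
  obtain ⟨m, hm⟩ : ∃ m, N = m + 1 := ⟨N - 1, by omega⟩
  rw [hm, Finset.sum_range_succ'] at hbs
  have hf0 : Nat.card (fx (σ₂ ^ 0)) = Nat.card (G₁ ⧸ scal ρ₂) := by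
    rw [pow_zero]
    have : fx (1 : MulAut (G₁ ⧸ scal ρ₂)) = ⊤ := by
      ext b
      simp [mem_fx]
    rw [this]
    exact Nat.card_congr Subgroup.topEquiv.toEquiv
  have hf1 : ∀ i ∈ Finset.range m, Nat.card (fx (σ₂ ^ (i + 1))) = 1 := by
    intro i hi
    have him : i + 1 < N := by
      have := Finset.mem_range.mp hi
      omega
    have hd : Nat.gcd (i + 1) (orderOf σ₂) ∣ 2 ^ n := by
      rw [hord]
      have h5 : Nat.gcd (i + 1) N ∣ 2 ^ (n + 1) := by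
        rw [← hN]
        exact Nat.gcd_dvd_right _ _
      obtain ⟨k, hk, hk'⟩ := (Nat.dvd_prime_pow Nat.prime_two).mp h5
      rw [hk']
      apply pow_dvd_pow
      by_contra hkn
      have hk1 : k = n + 1 := by omega
      rw [hk1, ← hN] at hk'
      have h6 : N ∣ i + 1 := by
        rw [← hk']
        exact Nat.gcd_dvd_left _ _
      have := Nat.le_of_dvd (by omega) h6
      omega
    have hle := fx_pow_le_of_gcd σ₂ (i := i + 1) rfl hd
    have hbot : fx (σ₂ ^ (i + 1)) = ⊥ := by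
      rw [eq_bot_iff]
      intro b hb
      have h5 : (σ₂ ^ 2 ^ n) b = b := hle hb
      have h6 := hz₂inv b
      rw [h5] at h6
      rw [Subgroup.mem_bot]
      apply eq_one_of_sq hqodd hB₂q
      nth_rw 1 [h6]
      simp
    rw [hbot]
    simp
  rw [Finset.sum_congr rfl hf1, hf0] at hbs
  simp only [Finset.sum_const, Finset.card_range, smul_eq_mul, mul_one] at hbs
  have hQ2 : Q ^ 2 ≤ Nat.card (G₁ ⧸ scal ρ₂) := by
    rw [hQ]
    exact sq_finrank_le_card hirr₂ hcard₁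
  have hQ3 : Nat.card (G₁ ⧸ scal ρ₂) ≤ Q ^ 2 := by
    rw [hQ]
    exact card_quot_le hirr₂ hcard₁ hsc₂
  have hcardgt : 1 < Nat.card (G₁ ⧸ scal ρ₂) := Finite.one_lt_card_iff_nontrivial.mpr hB₂nt
  have hQge : 2 ≤ Q := by
    by_contra hlt
    have : Q ≤ 1 := by omega
    have h5 : Q ^ 2 ≤ 1 := by
      calc Q ^ 2 ≤ 1 ^ 2 := Nat.pow_le_pow_left this 2
        _ = 1 := by norm_num
    omega
  obtain ⟨o, ho⟩ : ∃ o, o = Nat.card (Orb σ₂) := ⟨_, rfl⟩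
  rw [← ho] at hbs h3
  have hQo : Q ≤ o := by
    have h5 : Q * Q ≤ Q * o := by
      calc Q * Q = Q ^ 2 := (pow_two Q).symm
        _ ≤ Q * finrank K (Cfsg.Agent.Lib.HHE1.comm c₂) := h1
        _ ≤ Q * o := Nat.mul_le_mul_left _ h3
    exact Nat.le_of_mul_le_mul_left h5 (by omega)
  have hNQ : N - 1 ≤ Q := by
    have h5 : Q * N ≤ m + Q ^ 2 := by
      calc Q * N ≤ o * N := Nat.mul_le_mul_right _ hQo
        _ = m + Nat.card (G₁ ⧸ scal ρ₂) := by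
            rw [hm]
            exact hbs.symm
        _ ≤ m + Q ^ 2 := Nat.add_le_add_left hQ3 _
    have hmN : N - 1 = m := by omega
    rw [hmN]
    by_contra hlt
    push Not at hlt
    rw [hm] at h5
    nlinarith
  -- the surjection
  have hsurj : Nat.card (G₁ ⧸ scal ρ₂) ≤ Nat.card T := by
    choose l hl using fun t : T => hπs (t : Γ ⧸ scal ρ₀)
    have hlT : ∀ t : T, l t ∈ ΓT := by
      intro t
      show π (l t) ∈ T
      rw [hl]
      exact t.2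
    let f : T → G₁ ⧸ scal ρ₂ := fun t => ((⟨l t, hlT t⟩ : G₁) : G₁ ⧸ scal ρ₂)
    refine Nat.card_le_card_of_surjective f ?_
    intro y
    obtain ⟨g, rfl⟩ := QuotientGroup.mk_surjective y
    refine ⟨⟨π (g : Γ), g.2⟩, ?_⟩
    apply QuotientGroup.eq.mpr
    apply hscal₂
    show (l ⟨π (g : Γ), g.2⟩)⁻¹ * (g : Γ) ∈ scal ρ₀
    rw [← hπker, map_mul, map_inv, hl]
    simp
  calc (N - 1) ^ 2 ≤ Q ^ 2 := Nat.pow_le_pow_left hNQ 2
    _ ≤ Nat.card (G₁ ⧸ scal ρ₂) := hQ2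
    _ ≤ Nat.card T := hsurj

theorem quot_comm {ρ₀ : Γ →* End K W} (hsc : ∀ g h : Γ, g * h * g⁻¹ * h⁻¹ ∈ scal ρ₀) (a b : Γ ⧸ scal ρ₀) :
    a * b = b * a := by
  obtain ⟨g, rfl⟩ := QuotientGroup.mk_surjective a
  obtain ⟨h, rfl⟩ := QuotientGroup.mk_surjective b
  have h1 : ((g * h * g⁻¹ * h⁻¹ : Γ) : Γ ⧸ scal ρ₀) = 1 := (QuotientGroup.eq_one_iff _).mpr (hsc g h)
  have h2 : ((g : Γ) : Γ ⧸ scal ρ₀) * ((h : Γ) : Γ ⧸ scal ρ₀) * ((g : Γ) : Γ ⧸ scal ρ₀)⁻¹ * ((h : Γ) : Γ ⧸ scal ρ₀)⁻¹ = 1 := h1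
  have h3 := mul_inv_eq_one.mp h2
  exact mul_inv_eq_iff_eq_mul.mp h3

/-- **The local structure of a top power.** -/
theorem ls_main [IsAlgClosed K] [CharP K 2] {q : ℕ} [hqf : Fact q.Prime] (hq2 : q ≠ 2) (hΓ : IsPGroup q Γ)
    {ρ₀ : Γ →* End K W} (hρ : Irr ρ₀) (hsc : ∀ g h : Γ, g * h * g⁻¹ * h⁻¹ ∈ scal ρ₀)
    (hpow : ∀ g : Γ, g ^ q ∈ scal ρ₀) {c : End K W} {τ : MulAut Γ} (hc : ∀ g, c * ρ₀ g = ρ₀ (τ g) * c)
    (hτ : ∀ x ∈ scal ρ₀, τ x ∈ scal ρ₀) {n : ℕ} (hc1 : (c - 1) ^ (2 ^ (n + 1) - 1) = 0)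
    (hσN : (quot τ (scal ρ₀) hτ) ^ 2 ^ (n + 1) = 1) (hz : (quot τ (scal ρ₀) hτ) ^ 2 ^ n ≠ 1) :
    1 ≤ n ∧ q = 2 ^ (n + 1) - 1 ∧
      (∀ b, ((quot τ (scal ρ₀) hτ) ^ 2 ^ n) b = b → (quot τ (scal ρ₀) hτ) b = b) ∧
      Nat.card {b // ((quot τ (scal ρ₀) hτ) ^ 2 ^ n) b = b⁻¹} = q ^ 2 := by
  classical
  have hq := hqf.out
  have hqodd : Odd q := hq.odd_of_ne_two hq2
  have hB := quot_comm hsc
  have hlow := lower_bound hq2 hΓ hρ hsc hpow hc hτ hc1 hσN hz hB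
  have hcard : (Fintype.card Γ : K) ≠ 0 := card_ne_zero_of_isP hq hq2 hΓ
  obtain ⟨N, hN⟩ : ∃ N, N = 2 ^ (n + 1) := ⟨_, rfl⟩
  rw [← hN] at hc1 hσN hlow
  have hN1 : 1 ≤ N := by rw [hN]; exact Nat.one_le_two_pow
  set σ := quot τ (scal ρ₀) hτ with hσ
  obtain ⟨z, hzdef⟩ : ∃ z, z = σ ^ 2 ^ n := ⟨_, rfl⟩
  rw [← hzdef] at hz hlow ⊢
  have hBq : ∀ a : Γ ⧸ scal ρ₀, a ^ q = 1 := by
    intro a
    obtain ⟨g, rfl⟩ := QuotientGroup.mk_surjective a
    rw [← QuotientGroup.mk_pow]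
    exact (QuotientGroup.eq_one_iff _).mpr (hpow g)
  have hz2 : z ^ 2 = 1 := by
    have hNn : N = 2 ^ n * 2 := by rw [hN, pow_succ]
    rw [hzdef, ← pow_mul, ← hNn]
    exact hσN
  have hcN : c ^ N = 1 := by
    have h1 := sub_one_pow_char_pow (K := K) 2 (n + 1) c
    rw [← hN] at h1
    have h2 : (c - 1) ^ N = 0 := by
      have e1 : N = (N - 1) + 1 := by omega
      rw [e1, pow_succ, hc1, zero_mul]
    rw [h2] at h1
    exact (sub_eq_zero.mp h1.symm)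
  have hcc : c * c ^ (N - 1) = 1 := by
    rw [← pow_succ', Nat.sub_add_cancel hN1, hcN]
  have hcc' : c ^ (N - 1) * c = 1 := by
    rw [← pow_succ, Nat.sub_add_cancel hN1, hcN]
  have hcount := card_quot_le_mul_orb hρ hcard hsc hcc hcc' hc hτ hc1
  rw [← hσ] at hcount
  have hFact2 : Fact (Nat.Prime 2) := ⟨Nat.prime_two⟩
  have hord : orderOf σ = N := by
    have h0 : σ ^ 2 ^ (n + 1) = 1 := by
      rw [← hN]
      exact hσN
    rw [hN]
    rw [hzdef] at hz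
    exact orderOf_eq_prime_pow hz h0
  have hbs := burnside_nat σ
  rw [hord] at hbs
  obtain ⟨m, hm⟩ : ∃ m, N = m + 1 := ⟨N - 1, by omega⟩
  have hmN : N - 1 = m := by omega
  rw [hmN] at hcount hlow
  -- fixed points
  have hfxle : ∀ i, i + 1 < N → fx (σ ^ (i + 1)) ≤ fx z := by
    intro i him
    have hd : Nat.gcd (i + 1) (orderOf σ) ∣ 2 ^ n := by
      rw [hord]
      have h5 : Nat.gcd (i + 1) N ∣ 2 ^ (n + 1) := by
        rw [← hN]
        exact Nat.gcd_dvd_right _ _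
      obtain ⟨k, hk, hk'⟩ := (Nat.dvd_prime_pow Nat.prime_two).mp h5
      rw [hk']
      apply pow_dvd_pow
      by_contra hkn
      have hk1 : k = n + 1 := by omega
      rw [hk1, ← hN] at hk'
      have h6 : N ∣ i + 1 := by
        rw [← hk']
        exact Nat.gcd_dvd_left _ _
      have := Nat.le_of_dvd (by omega) h6
      omega
    rw [hzdef]
    exact fx_pow_le_of_gcd σ (i := i + 1) rfl hd
  have hfle : ∀ i, i + 1 < N → Nat.card (fx (σ ^ (i + 1))) ≤ Nat.card (fx z) :=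
    fun i hi => Subgroup.card_le_of_le (hfxle i hi)
  have hf0 : Nat.card (fx (σ ^ 0)) = Nat.card (Γ ⧸ scal ρ₀) := by
    rw [pow_zero]
    have : fx (1 : MulAut (Γ ⧸ scal ρ₀)) = ⊤ := by
      ext b
      simp [mem_fx]
    rw [this]
    exact Nat.card_congr Subgroup.topEquiv.toEquiv
  have hdec := card_Ti_mul_fx hqodd hBq hB hz2
  obtain ⟨Tc, hTc⟩ : ∃ Tc, Tc = Nat.card (Ti z hB) := ⟨_, rfl⟩
  obtain ⟨C, hC⟩ : ∃ C, C = Nat.card (fx z) := ⟨_, rfl⟩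
  rw [← hTc, ← hC] at hdec
  rw [← hTc] at hlow
  rw [← hC] at hfle
  have hCpos : 0 < C := by
    rw [hC]
    exact Nat.card_pos
  -- `T` is nontrivial
  have hTnt : Tc ≠ 1 := by
    intro h1
    apply hz
    ext b
    obtain ⟨t, c', h5, h6, h7⟩ := exists_decomp hqodd hBq hB hz2 b
    have h8 : t ∈ Ti z hB := h5
    have h9 : Nat.card (Ti z hB) = 1 := by rw [← hTc, h1]
    have h10 : (⟨t, h8⟩ : Ti z hB) = 1 := by
      have := (Nat.card_eq_one_iff_unique.mp h9).1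
      exact Subsingleton.elim _ _
    have h11 : t = 1 := congrArg Subtype.val h10
    rw [h11, one_mul] at h7
    rw [MulAut.one_apply, ← h7]
    exact h6
  -- the main count
  rw [hm, Finset.sum_range_succ', hf0] at hbs
  obtain ⟨S, hS⟩ : ∃ S, S = ∑ i ∈ Finset.range m, Nat.card (fx (σ ^ (i + 1))) := ⟨_, rfl⟩
  rw [← hS] at hbs
  obtain ⟨o, ho⟩ : ∃ o, o = Nat.card (Orb σ) := ⟨_, rfl⟩
  rw [← ho] at hbs hcount
  obtain ⟨Bc, hBc⟩ : ∃ Bc, Bc = Nat.card (Γ ⧸ scal ρ₀) := ⟨_, rfl⟩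
  rw [← hBc] at hbs hcount hdec
  have h1 : Bc ≤ m * S := by
    have h2 : (m + 1) * Bc ≤ m * (S + Bc) := by
      rw [hbs]
      calc (m + 1) * Bc ≤ (m + 1) * (m * o) := Nat.mul_le_mul_left _ hcount
        _ = m * (o * (m + 1)) := by ring
    nlinarith
  have hm1 : 1 ≤ m := by
    by_contra h0
    have hm0 : m = 0 := by omega
    rw [hm0] at hm
    rw [hN] at hm
    have : 2 ≤ 2 ^ (n + 1) := by
      rw [pow_succ]
      have := Nat.one_le_two_pow (n := n)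
      omega
    omega
  obtain ⟨m', hm'⟩ : ∃ m', m = m' + 1 := ⟨m - 1, by omega⟩
  have hS1 : S ≤ Nat.card (fx σ) + m' * C := by
    rw [hS, hm', Finset.sum_range_succ']
    have h3 : ∑ k ∈ Finset.range m', Nat.card (fx (σ ^ (k + 1 + 1))) ≤ m' * C := by
      calc ∑ k ∈ Finset.range m', Nat.card (fx (σ ^ (k + 1 + 1))) ≤ ∑ k ∈ Finset.range m', C := by
            refine Finset.sum_le_sum fun k hk => hfle (k + 1) ?_
            have := Finset.mem_range.mp hk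
            omega
        _ = m' * C := by simp
    simp only [zero_add, pow_one]
    omega
  have hf1le : Nat.card (fx σ) ≤ C := by
    have := hfle 0 (by omega)
    simpa using this
  obtain ⟨f₁, hf₁⟩ : ∃ f₁, f₁ = Nat.card (fx σ) := ⟨_, rfl⟩
  rw [← hf₁] at hS1 hf1le
  have h4 : Tc * C ≤ m * (f₁ + m' * C) := by
    rw [hdec]
    exact h1.trans (Nat.mul_le_mul_left _ hS1)
  -- equality
  have hCf : C ≤ f₁ := by
    have h5 : m * (m * C) ≤ m * (f₁ + m' * C) := by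
      calc m * (m * C) = m ^ 2 * C := by ring
        _ ≤ Tc * C := Nat.mul_le_mul_right _ hlow
        _ ≤ _ := h4
    have h6 := Nat.le_of_mul_le_mul_left h5 (by omega)
    rw [hm'] at h6
    nlinarith
  have hTle : Tc ≤ m ^ 2 := by
    have h5 : Tc * C ≤ m ^ 2 * C := by
      calc Tc * C ≤ m * (f₁ + m' * C) := h4
        _ ≤ m * (C + m' * C) := Nat.mul_le_mul_left _ (Nat.add_le_add_right hf1le _)
        _ = m ^ 2 * C := by
          rw [hm']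
          ring
    exact Nat.le_of_mul_le_mul_right h5 hCpos
  have hTeq : Tc = m ^ 2 := le_antisymm hTle hlow
  have hfix : ∀ b, z b = b → σ b = b := by
    intro b hb
    have hfeq : fx σ = fx z := by
      apply Subgroup.eq_of_le_of_card_ge
      · have := hfxle 0 (by omega)
        simpa using this
      · rw [← hC, ← hf₁]
        exact hCf
    have h5 : b ∈ fx σ := by
      rw [hfeq]
      exact hb
    exact h5
  -- arithmetic
  have hTp : IsPGroup q (Ti z hB) := by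
    intro x
    refine ⟨1, ?_⟩
    apply Subtype.ext
    rw [pow_one]
    exact hBq _
  obtain ⟨j, hj⟩ := IsPGroup.iff_card.mp hTp
  rw [← hTc, hTeq] at hj
  have hmd : m ∣ q ^ j := by
    rw [← hj]
    exact dvd_pow_self m two_ne_zero
  obtain ⟨i, -, hi⟩ := (Nat.dvd_prime_pow hq).mp hmd
  have hi1 : 1 ≤ i := by
    by_contra h0
    have hi0 : i = 0 := by omega
    rw [hi0, pow_zero] at hi
    apply hTnt
    rw [hTeq, hi, one_pow]
  have hmN2 : q ^ i + 1 = 2 ^ (n + 1) := by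
    rw [← hi, ← hm, hN]
  have hn1 : 1 ≤ n := by
    by_contra h0
    have hn0 : n = 0 := by omega
    rw [hn0] at hmN2
    have h5 : 1 ≤ q ^ i := Nat.one_le_pow _ _ hq.pos
    have h6 : q ^ 1 ≤ q ^ i := Nat.pow_le_pow_right hq.pos hi1
    have h7 := hq.two_le
    simp at hmN2
    omega
  have hi1' : i = 1 := mersenne_exp hq hq2 hi1 hn1 hmN2
  have hmq : m = q := by
    rw [hi, hi1', pow_one]
  refine ⟨hn1, ?_, hfix, ?_⟩
  · rw [← hN, hm, ← hmq]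
    simp
  · have e : Nat.card {b // z b = b⁻¹} = Nat.card (Ti z hB) := rfl
    rw [e, ← hTc, hTeq, hmq]

end Rep

end Cfsg.Agent.Lib.L2Count
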