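import Mathlib
import Cfsg.Agent.Lib.L2Count

set_option autoImplicit false
set_option linter.unusedSectionVars false
set_option linter.unusedVariables false
set_option linter.style.haveILetI false

/-!
The local step for the `2`-length bound: the commutators of a top power with a normal `2`-subgroup
act on `Γ / scalars` through squares of elements of that subgroup.
-/

namespace Cfsg.Agent.Lib.L2Local

open Module Cfsg.Agent.Lib.HHCrit Cfsg.Agent.Lib.HHB2 Cfsg.Agent.Lib.HHB3 Cfsg.Agent.Lib.HHE2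
  Cfsg.Agent.Lib.HHE3 Cfsg.Agent.Lib.HHE5 Cfsg.Agent.Lib.Kegel Cfsg.Agent.Lib.L2Mod Cfsg.Agent.Lib.L2Count

section Stab

variable {K : Type*} [Field K] {W : Type*} [AddCommGroup W] [Module K W] [FiniteDimensional K W] [Nontrivial W]
  {Γ : Type*} [Group Γ] [Fintype Γ] {𝒩 : Type*} [Group 𝒩] {ρ₀ : Γ →* End K W}

/-- The stabilizer of the constituent. -/
def A0 (hρ : Irr ρ₀) (θ : 𝒩 →* MulAut Γ) : Subgroup 𝒩 where
  carrier := {t | Tw ρ₀ (θ t)}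
  one_mem' := by
    show Tw ρ₀ (θ 1)
    rw [map_one]
    exact tw_one ρ₀
  mul_mem' := by
    intro a b ha hb
    show Tw ρ₀ (θ (a * b))
    rw [map_mul]
    exact tw_mul hρ ha hb
  inv_mem' := by
    intro a ha
    show Tw ρ₀ (θ a⁻¹)
    rw [map_inv]
    exact tw_inv hρ ha

theorem mem_A0 {hρ : Irr ρ₀} {θ : 𝒩 →* MulAut Γ} {t : 𝒩} : t ∈ A0 hρ θ ↔ Tw ρ₀ (θ t) := Iff.rfl

variable [IsAlgClosed K]

theorem A0_scal (hρ : Irr ρ₀) (θ : 𝒩 →* MulAut Γ) (t : A0 hρ θ) : ∀ x ∈ scal ρ₀, θ (t : 𝒩) x ∈ scal ρ₀ := by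
  intro x hx
  have h1 := tw_scal hρ t.2 hx
  obtain ⟨lam, hlam⟩ := hx
  exact ⟨lam, by rw [h1, hlam]⟩

/-- The action of the stabilizer on `Γ / scalars`. -/
noncomputable def Th (hρ : Irr ρ₀) (θ : 𝒩 →* MulAut Γ) : A0 hρ θ →* MulAut (Γ ⧸ scal ρ₀) :=
  MonoidHom.mk' (fun t => quot (θ (t : 𝒩)) (scal ρ₀) (A0_scal hρ θ t)) (by
    intro a b
    ext v
    obtain ⟨u, rfl⟩ := QuotientGroup.mk_surjective v
    rw [MulAut.mul_apply, quot_mk, quot_mk, quot_mk]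
    simp only [Subgroup.coe_mul, map_mul, MulAut.mul_apply])

theorem Th_mk (hρ : Irr ρ₀) (θ : 𝒩 →* MulAut Γ) (t : A0 hρ θ) (g : Γ) :
    Th hρ θ t (g : Γ ⧸ scal ρ₀) = ((θ (t : 𝒩) g : Γ) : Γ ⧸ scal ρ₀) := rfl

variable [CharP K 2]

/-- The structure of a top power acting nontrivially. -/
theorem top_struct {q : ℕ} [hqf : Fact q.Prime] (hq2 : q ≠ 2) (hΓ : IsPGroup q Γ) (hρ : Irr ρ₀)
    (hsc : ∀ g h : Γ, g * h * g⁻¹ * h⁻¹ ∈ scal ρ₀) (hpow : ∀ g : Γ, g ^ q ∈ scal ρ₀) (θ : 𝒩 →* MulAut Γ) {e : ℕ}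
    {y : 𝒩} (hy : y ^ 2 ^ (e + 1) = 1)
    (hdata : ∃ a n : ℕ, a + n = e ∧ ∃ c : End K W, c ≠ 0 ∧ (∀ g, c * ρ₀ g = ρ₀ ((θ y ^ 2 ^ a) g) * c) ∧
      (c - 1) ^ (2 ^ (n + 1) - 1) = 0)
    (hm : y ^ 2 ^ e ∈ A0 hρ θ) (hne : Th hρ θ ⟨y ^ 2 ^ e, hm⟩ ≠ 1) :
    ∃ (he : 1 ≤ e) (h₁ : y ^ 2 ^ (e - 1) ∈ A0 hρ θ),
      (Th hρ θ ⟨y ^ 2 ^ (e - 1), h₁⟩) ^ 2 = Th hρ θ ⟨y ^ 2 ^ e, hm⟩ ∧
      (Th hρ θ ⟨y ^ 2 ^ (e - 1), h₁⟩) ^ 4 = 1 ∧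
      (∀ b, ((Th hρ θ ⟨y ^ 2 ^ (e - 1), h₁⟩) ^ 2) b = b → Th hρ θ ⟨y ^ 2 ^ (e - 1), h₁⟩ b = b) ∧
      Nat.card {b // ((Th hρ θ ⟨y ^ 2 ^ (e - 1), h₁⟩) ^ 2) b = b⁻¹} = q ^ 2 ∧ q % 4 = 3 := by
  obtain ⟨a, n, han, c, hc0, hc, hc1⟩ := hdata
  have hma : y ^ 2 ^ a ∈ A0 hρ θ := ⟨c, hc0, by rw [map_pow]; exact hc⟩
  have hc' : ∀ g, c * ρ₀ g = ρ₀ (θ (y ^ 2 ^ a) g) * c := by
    intro g
    rw [map_pow]
    exact hc g
  set X := Th hρ θ ⟨y ^ 2 ^ a, hma⟩ with hX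
  have hXdef : X = quot (θ (y ^ 2 ^ a)) (scal ρ₀) (A0_scal hρ θ ⟨y ^ 2 ^ a, hma⟩) := rfl
  have hpowe : ∀ k, X ^ k = Th hρ θ ⟨(y ^ 2 ^ a) ^ k, pow_mem hma k⟩ := by
    intro k
    rw [hX, ← map_pow]
    rfl
  have hN : X ^ 2 ^ (n + 1) = 1 := by
    rw [hpowe]
    have e1 : (⟨(y ^ 2 ^ a) ^ 2 ^ (n + 1), pow_mem hma _⟩ : A0 hρ θ) = 1 := by
      apply Subtype.ext
      show (y ^ 2 ^ a) ^ 2 ^ (n + 1) = 1
      have e2 : a + (n + 1) = e + 1 := by omega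
      rw [← pow_mul, ← pow_add, e2]
      exact hy
    rw [e1, map_one]
  have hz : X ^ 2 ^ n = Th hρ θ ⟨y ^ 2 ^ e, hm⟩ := by
    rw [hpowe]
    congr 1
    apply Subtype.ext
    show (y ^ 2 ^ a) ^ 2 ^ n = y ^ 2 ^ e
    rw [← pow_mul, ← pow_add, han]
  have hzne : X ^ 2 ^ n ≠ 1 := by
    rw [hz]
    exact hne
  obtain ⟨hn1, hqe, hfix, hcard⟩ :=
    ls_main hq2 hΓ hρ hsc hpow hc' (A0_scal hρ θ ⟨y ^ 2 ^ a, hma⟩) hc1 hN hzne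
  rw [← hXdef] at hfix hcard
  obtain ⟨n', rfl⟩ : ∃ n', n = n' + 1 := ⟨n - 1, by omega⟩
  have he : 1 ≤ e := by omega
  have e1 : e - 1 = a + n' := by omega
  have h₁ : y ^ 2 ^ (e - 1) ∈ A0 hρ θ := by
    rw [e1, pow_add, pow_mul]
    exact pow_mem hma _
  have hY : Th hρ θ ⟨y ^ 2 ^ (e - 1), h₁⟩ = X ^ 2 ^ n' := by
    rw [hpowe]
    congr 1
    apply Subtype.ext
    show y ^ 2 ^ (e - 1) = (y ^ 2 ^ a) ^ 2 ^ n'
    rw [← pow_mul, ← pow_add, e1]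
  have e2 : (X ^ 2 ^ n') ^ 2 = X ^ 2 ^ (n' + 1) := by
    rw [← pow_mul, ← pow_succ]
  have e4 : (X ^ 2 ^ n') ^ 4 = X ^ 2 ^ (n' + 1 + 1) := by
    rw [← pow_mul]
    congr 1
    rw [pow_succ, pow_succ]
    ring
  refine ⟨he, h₁, ?_⟩
  rw [hY]
  refine ⟨?_, ?_, ?_, ?_, ?_⟩
  · rw [e2, hz]
  · rw [e4, hN]
  · intro b hb
    rw [e2] at hb
    have h3 := hfix b hb
    have h4 : ∀ k : ℕ, (X ^ k) b = b := by
      intro k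
      induction k with
      | zero => simp
      | succ k ih => rw [pow_succ, MulAut.mul_apply, h3, ih]
    exact h4 _
  · rw [e2]
    exact hcard
  · have h5 : 2 ^ (n' + 1 + 1) = 4 * 2 ^ n' := by
      rw [pow_succ, pow_succ]
      ring
    have h6 : 1 ≤ 2 ^ n' := Nat.one_le_two_pow
    omega

theorem scal_of_Th_one (hρ : Irr ρ₀) (θ : 𝒩 →* MulAut Γ) (t : A0 hρ θ) (h : Th hρ θ t = 1) (g : Γ) :
    θ (t : 𝒩) g * g⁻¹ ∈ scal ρ₀ := by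
  have h1 := Th_mk hρ θ t g
  rw [h] at h1
  have h2 : ((g : Γ) : Γ ⧸ scal ρ₀) = ((θ (t : 𝒩) g : Γ) : Γ ⧸ scal ρ₀) := h1
  have h3 := QuotientGroup.eq_iff_div_mem.mp h2.symm
  rw [div_eq_mul_inv] at h3
  exact h3

/-- The dichotomy for one element of `Q`. -/
theorem local_pair {q : ℕ} [hqf : Fact q.Prime] (hq2 : q ≠ 2) (hΓ : IsPGroup q Γ) (hρ : Irr ρ₀)
    (hsc : ∀ g h : Γ, g * h * g⁻¹ * h⁻¹ ∈ scal ρ₀) (hpow : ∀ g : Γ, g ^ q ∈ scal ρ₀) [Finite 𝒩] (θ : 𝒩 →* MulAut Γ)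
    {e : ℕ} {y : 𝒩} (hy : y ^ 2 ^ (e + 1) = 1)
    (hdata : ∃ a n : ℕ, a + n = e ∧ ∃ c : End K W, c ≠ 0 ∧ (∀ g, c * ρ₀ g = ρ₀ ((θ y ^ 2 ^ a) g) * c) ∧
      (c - 1) ^ (2 ^ (n + 1) - 1) = 0)
    (hm : y ^ 2 ^ e ∈ A0 hρ θ) (Q : Subgroup 𝒩) [hQn : Q.Normal] (hQ2 : IsPGroup 2 Q) (hQA : Q ≤ A0 hρ θ)
    {x : 𝒩} (hx : x ∈ Q) :
    ∃ hu : x⁻¹ * (y ^ 2 ^ e)⁻¹ * x * y ^ 2 ^ e ∈ A0 hρ θ,
      Th hρ θ ⟨_, hu⟩ = 1 ∨ ((∃ d ∈ Q, ∃ hd : d ^ 2 ∈ A0 hρ θ, Th hρ θ ⟨_, hu⟩ = Th hρ θ ⟨d ^ 2, hd⟩) ∧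
        ¬ (x * ((y ^ 2 ^ (e - 1))⁻¹ * x * y ^ 2 ^ (e - 1)) = ((y ^ 2 ^ (e - 1))⁻¹ * x * y ^ 2 ^ (e - 1)) * x)) := by
  classical
  have hq := hqf.out
  have hqodd : Odd q := hq.odd_of_ne_two hq2
  have hFact2 : Fact (Nat.Prime 2) := ⟨Nat.prime_two⟩
  have hxA := hQA hx
  have hu : x⁻¹ * (y ^ 2 ^ e)⁻¹ * x * y ^ 2 ^ e ∈ A0 hρ θ :=
    mul_mem (mul_mem (mul_mem (inv_mem hxA) (inv_mem hm)) hxA) hm
  refine ⟨hu, ?_⟩
  set X := Th hρ θ ⟨x, hxA⟩ with hX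
  set Z := Th hρ θ ⟨y ^ 2 ^ e, hm⟩ with hZ
  have hTu : Th hρ θ ⟨_, hu⟩ = X⁻¹ * Z⁻¹ * X * Z := by
    rw [hX, hZ, ← map_inv, ← map_inv, ← map_mul, ← map_mul, ← map_mul]
    rfl
  by_cases hne : Z = 1
  · left
    rw [hTu, hne]
    simp
  obtain ⟨he, h₁, hY2, hY4, hYfix, hYcard, hq4⟩ := top_struct hq2 hΓ hρ hsc hpow θ hy hdata hm hne
  set y₁ := y ^ 2 ^ (e - 1) with hy₁
  set Y := Th hρ θ ⟨y₁, h₁⟩ with hY
  rw [← hZ] at hY2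
  have hU : ∀ a b : Γ ⧸ scal ρ₀, a * b = b * a := quot_comm hsc
  have hUq : ∀ a : Γ ⧸ scal ρ₀, a ^ q = 1 := by
    intro a
    obtain ⟨g, rfl⟩ := QuotientGroup.mk_surjective a
    rw [← QuotientGroup.mk_pow]
    exact (QuotientGroup.eq_one_iff _).mpr (hpow g)
  -- the 2-group
  have hy2 : IsPGroup 2 (Subgroup.zpowers y) := by
    intro t
    obtain ⟨t, k, rfl⟩ := t
    refine ⟨e + 1, ?_⟩
    apply Subtype.ext
    show (y ^ k) ^ 2 ^ (e + 1) = 1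
    rw [← zpow_natCast, ← zpow_mul, mul_comm, zpow_mul, zpow_natCast, hy, one_zpow]
  have hS2 : IsPGroup 2 ↥(Q ⊔ Subgroup.zpowers y) := IsPGroup.to_sup_of_normal_left hQ2 hy2
  let S := Q ⊔ Subgroup.zpowers y
  let B := ↥(S.subgroupOf (A0 hρ θ))
  have hB : IsPGroup 2 B := by
    intro t
    obtain ⟨k, hk⟩ := hS2 ⟨((t : A0 hρ θ) : 𝒩), t.2⟩
    refine ⟨k, ?_⟩
    have h1 : ((t : A0 hρ θ) : 𝒩) ^ 2 ^ k = 1 := congrArg Subtype.val hk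
    apply Subtype.ext
    apply Subtype.ext
    exact h1
  have hy₁S : y₁ ∈ S := Subgroup.mem_sup_right (pow_mem (Subgroup.mem_zpowers y) _)
  have hxS : x ∈ S := Subgroup.mem_sup_left hx
  let ΘB : B →* MulAut (Γ ⧸ scal ρ₀) := (Th hρ θ).comp (S.subgroupOf (A0 hρ θ)).subtype
  have hh₂ : x⁻¹ * y₁ * x ∈ A0 hρ θ := mul_mem (mul_mem (inv_mem hxA) h₁) hxA
  have hh₂S : x⁻¹ * y₁ * x ∈ S := mul_mem (mul_mem (inv_mem hxS) hy₁S) hxS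
  let y_B : B := ⟨⟨y₁, h₁⟩, hy₁S⟩
  let z_B : B := ⟨⟨x⁻¹ * y₁ * x, hh₂⟩, hh₂S⟩
  have hΘy : ΘB y_B = Y := rfl
  have hΘz : ΘB z_B = X⁻¹ * Y * X := by
    show Th hρ θ ⟨x⁻¹ * y₁ * x, hh₂⟩ = X⁻¹ * Y * X
    rw [hX, hY, ← map_inv, ← map_mul, ← map_mul]
    rfl
  have hŶk : ∀ k : ℕ, (X⁻¹ * Y * X) ^ k = X⁻¹ * Y ^ k * X := by
    intro k
    have := conj_pow (a := X⁻¹) (b := Y) (i := k)
    simpa using this
  have hq2' : 2 ≤ q := hq.two_le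
  have hcardT : Nat.card {b // ((X⁻¹ * Y * X) ^ 2) b = b⁻¹} = q ^ 2 := by
    rw [← hYcard]
    refine Nat.card_congr ?_
    refine
      { toFun := fun b => ⟨X b, ?_⟩
        invFun := fun b => ⟨X⁻¹ b, ?_⟩
        left_inv := ?_
        right_inv := ?_ }
    · have h1 : (X⁻¹ * Y ^ 2 * X) (b : Γ ⧸ scal ρ₀) = (b : Γ ⧸ scal ρ₀)⁻¹ := by
        rw [← hŶk]
        exact b.2
      have h2 := congrArg X h1
      simp only [MulAut.mul_apply, MulAut.apply_inv_self, map_inv] at h2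
      exact h2
    · have h1 : (Y ^ 2) (b : Γ ⧸ scal ρ₀) = (b : Γ ⧸ scal ρ₀)⁻¹ := b.2
      show ((X⁻¹ * Y * X) ^ 2) (X⁻¹ (b : Γ ⧸ scal ρ₀)) = (X⁻¹ (b : Γ ⧸ scal ρ₀))⁻¹
      rw [hŶk]
      simp only [MulAut.mul_apply, MulAut.apply_inv_self, h1, map_inv]
    · intro b
      apply Subtype.ext
      simp
    · intro b
      apply Subtype.ext
      simp
  have hpl := plane_mul hU hq2 hq4 hUq hB ΘB y_B z_B (by rw [hΘy]; exact hY4) (by rw [hΘy]; exact hYfix)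
    (by rw [hΘy]; exact hYcard)
    (by
      rw [hΘz, hŶk, hY4]
      simp)
    (by
      rw [hΘz]
      intro b hb
      rw [hŶk] at hb
      simp only [MulAut.mul_apply] at hb ⊢
      have h2 := congrArg X hb
      rw [MulAut.apply_inv_self] at h2
      rw [hYfix _ h2, MulAut.inv_apply_self])
    (by rw [hΘz]; exact hcardT)
  rw [hΘy, hΘz] at hpl
  rcases hpl with h5 | ⟨h5, h6⟩
  · left
    rw [hŶk, hY2] at h5
    rw [hTu]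
    have h7 : X⁻¹ * Z⁻¹ * X = (X⁻¹ * Z * X)⁻¹ := by group
    rw [h7, h5]
    simp
  · right
    constructor
    · have hdQ : x⁻¹ * (y₁⁻¹ * x * y₁) ∈ Q := by
        refine mul_mem (inv_mem hx) ?_
        have := hQn.conj_mem x hx y₁⁻¹
        simpa using this
      refine ⟨x⁻¹ * (y₁⁻¹ * x * y₁), hdQ, pow_mem (hQA hdQ) 2, ?_⟩
      rw [hTu]
      have e1 : Th hρ θ ⟨(x⁻¹ * (y₁⁻¹ * x * y₁)) ^ 2, pow_mem (hQA hdQ) 2⟩ =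
          (X⁻¹ * (Y⁻¹ * X * Y)) ^ 2 := by
        rw [hX, hY, ← map_inv, ← map_inv, ← map_mul, ← map_mul, ← map_mul, ← map_pow]
        rfl
      rw [e1]
      -- in terms of the commuting pair
      obtain ⟨H, hH⟩ : ∃ H, H = X⁻¹ * Y * X := ⟨_, rfl⟩
      rw [← hH] at h5
      have e2 : X⁻¹ * (Y⁻¹ * X * Y) = H⁻¹ * Y := by
        rw [hH]
        group
      have e3 : X⁻¹ * Z⁻¹ * X = (H ^ 2)⁻¹ := by
        rw [hH, hŶk, hY2]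
        group
      rw [e2, e3, ← hY2]
      have hcm : Commute Y H := h5
      have e4 : H⁻¹ * Y = Y * H⁻¹ := (hcm.inv_right).symm.eq
      rw [pow_two (H⁻¹ * Y)]
      calc (H ^ 2)⁻¹ * Y ^ 2 = H⁻¹ * H⁻¹ * (Y * Y) := by
            rw [pow_two, pow_two, mul_inv_rev]
        _ = H⁻¹ * (H⁻¹ * Y) * Y := by group
        _ = H⁻¹ * (Y * H⁻¹) * Y := by rw [e4]
        _ = H⁻¹ * Y * (H⁻¹ * Y) := by group
    · intro hcomm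
      have hc : X * (Y⁻¹ * X * Y) = (Y⁻¹ * X * Y) * X := by
        have h8 : Th hρ θ (⟨x, hxA⟩ * ⟨y₁⁻¹ * x * y₁, mul_mem (mul_mem (inv_mem h₁) hxA) h₁⟩) =
            Th hρ θ (⟨y₁⁻¹ * x * y₁, mul_mem (mul_mem (inv_mem h₁) hxA) h₁⟩ * ⟨x, hxA⟩) := by
          congr 1
          exact Subtype.ext hcomm
        rw [map_mul, map_mul] at h8
        have e1 : Th hρ θ ⟨y₁⁻¹ * x * y₁, mul_mem (mul_mem (inv_mem h₁) hxA) h₁⟩ = Y⁻¹ * X * Y := by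
          rw [hX, hY, ← map_inv, ← map_mul, ← map_mul]
          rfl
        rw [e1] at h8
        exact h8
      have hno : ∀ b, Y b = b⁻¹ → b = 1 := by
        intro b hb
        have h9 : (Y ^ 2) b = b := by
          rw [pow_two, MulAut.mul_apply, hb, map_inv, hb, inv_inv]
        have h10 := hYfix b h9
        rw [h10] at hb
        apply eq_one_of_sq hqodd hUq
        nth_rw 1 [hb]
        simp
      have hfix2 : ∀ b, (Y ^ 2) (X b) = (X b)⁻¹ → Y b = b := by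
        intro b hb
        apply h6
        rw [hŶk]
        simp only [MulAut.mul_apply]
        rw [hb, map_inv, MulAut.inv_apply_self]
      have hall : ∀ r, (Y ^ 2) r = r⁻¹ → r = 1 := fun r hr => no_comm_mul hno hfix2 hc hr
      have hcard1 : Nat.card {b // (Y ^ 2) b = b⁻¹} = 1 := by
        rw [Nat.card_eq_one_iff_unique]
        refine ⟨⟨?_⟩, ⟨⟨1, by simp⟩⟩⟩
        rintro ⟨a, ha⟩ ⟨b, hb⟩
        apply Subtype.ext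
        show a = b
        exact (hall a ha).trans (hall b hb).symm
      rw [hYcard] at hcard1
      have : 2 ^ 2 ≤ q ^ 2 := Nat.pow_le_pow_left hq2' 2
      omega

end Stab

end Cfsg.Agent.Lib.L2Local
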