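import Mathlib
import Cfsg.Agent.Lib.L2Local

set_option autoImplicit false
set_option linter.unusedSectionVars false
set_option linter.unusedVariables false
set_option linter.style.haveILetI false

/-!
The global representation step for the `2`-length bound.
-/

namespace Cfsg.Agent.Lib.L2Rep

open Module Cfsg.Agent.Lib.HHCrit Cfsg.Agent.Lib.HHB2 Cfsg.Agent.Lib.HHB3 Cfsg.Agent.Lib.HHE2
  Cfsg.Agent.Lib.HHE3 Cfsg.Agent.Lib.HHE5 Cfsg.Agent.Lib.Kegel Cfsg.Agent.Lib.L2Mod Cfsg.Agent.Lib.L2Count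
  Cfsg.Agent.Lib.L2Local

variable {K : Type*} [Field K] {V : Type*} [AddCommGroup V] [Module K V] [FiniteDimensional K V]
  {Γ : Type*} [Group Γ] [Fintype Γ] {𝒩 : Type*} [Group 𝒩] [Finite 𝒩]

/-- The top powers. -/
def topSet (𝒩 : Type*) [Group 𝒩] (e : ℕ) : Set 𝒩 := {t | ∃ y : 𝒩, (∃ k : ℕ, y ^ 2 ^ k = 1) ∧ t = y ^ 2 ^ e}

/-- The local statement at an irreducible constituent. -/
theorem local_final [IsAlgClosed K] [CharP K 2] {q : ℕ} [hqf : Fact q.Prime] (hq2 : q ≠ 2) (hΓ : IsPGroup q Γ)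
    (hcen : ∀ a b : Γ, a * b * a⁻¹ * b⁻¹ ∈ Subgroup.center Γ) (hpow : ∀ a : Γ, a ^ q ∈ Subgroup.center Γ)
    (ρ : Γ →* End K V) (R : 𝒩 →* End K V) (θ : 𝒩 →* MulAut Γ) (hRρ : ∀ y g, R y * ρ g = ρ (θ y g) * R y) {e : ℕ}
    (hexp : ∀ y : 𝒩, (∃ k : ℕ, y ^ 2 ^ k = 1) → y ^ 2 ^ (e + 1) = 1)
    (hsum : ∀ y : 𝒩, (∃ k : ℕ, y ^ 2 ^ k = 1) → ∑ i ∈ Finset.range (2 ^ (e + 1)), R y ^ i = 0)
    (Q : Subgroup 𝒩) [hQn : Q.Normal] (hQ2 : IsPGroup 2 Q) (hQsq : ∀ d ∈ Q, ∀ x ∈ Q, d ^ 2 * x = x * d ^ 2)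
    (hQD : Q ≤ Subgroup.closure (topSet 𝒩 e))
    {W₀ : Submodule K V} (hinv : Inv ρ W₀) (hne : W₀ ≠ ⊥) (hmin : ∀ W' ≤ W₀, Inv ρ W' → W' = ⊥ ∨ W' = W₀) :
    (∀ t ∈ Q, Tw (HHChar.restrictRep ρ W₀ hinv) (θ t)) ∧
    (∀ y : 𝒩, (∃ k : ℕ, y ^ 2 ^ k = 1) → ∀ x₁ ∈ Q, ∀ x₂ ∈ Q, ∀ g : Γ,
      θ ((x₁⁻¹ * (y ^ 2 ^ e)⁻¹ * x₁ * y ^ 2 ^ e) * x₂ * (x₁⁻¹ * (y ^ 2 ^ e)⁻¹ * x₁ * y ^ 2 ^ e)⁻¹ * x₂⁻¹) g * g⁻¹ ∈
        scal (HHChar.restrictRep ρ W₀ hinv)) ∧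
    ((∀ x ∈ Q, ∀ x' ∈ Q, x * x' = x' * x) → ∀ y : 𝒩, (∃ k : ℕ, y ^ 2 ^ k = 1) → ∀ x₁ ∈ Q, ∀ g : Γ,
      θ (x₁⁻¹ * (y ^ 2 ^ e)⁻¹ * x₁ * y ^ 2 ^ e) g * g⁻¹ ∈ scal (HHChar.restrictRep ρ W₀ hinv)) := by
  classical
  have hq := hqf.out
  have hFact2 : Fact (Nat.Prime 2) := ⟨Nat.prime_two⟩
  have hcardK : (Fintype.card Γ : K) ≠ 0 := card_ne_zero_of_isP hq hq2 hΓ
  let ρ₀ := HHChar.restrictRep ρ W₀ hinv
  have hirr₀ : Irr ρ₀ := irr_restrict ρ W₀ hinv hmin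
  haveI hW₀nt : Nontrivial W₀ := Submodule.nontrivial_iff_ne_bot.mpr hne
  have hcens : ∀ z ∈ Subgroup.center Γ, z ∈ scal ρ₀ := by
    intro z hz
    refine schur hirr₀ _ ?_
    intro g
    rw [← map_mul, ← map_mul, (Subgroup.mem_center_iff.mp hz g)]
  have hsc : ∀ g h : Γ, g * h * g⁻¹ * h⁻¹ ∈ scal ρ₀ := fun g h => hcens _ (hcen g h)
  have hpw : ∀ g : Γ, g ^ q ∈ scal ρ₀ := fun g => hcens _ (hpow g)
  have hdata : ∀ y : 𝒩, (∃ k : ℕ, y ^ 2 ^ k = 1) → ∃ a n : ℕ, a + n = e ∧ ∃ c : End K W₀, c ≠ 0 ∧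
      (∀ g, c * ρ₀ g = ρ₀ ((θ y ^ 2 ^ a) g) * c) ∧ (c - 1) ^ (2 ^ (n + 1) - 1) = 0 := by
    intro y hy
    exact twist_data 2 hcardK ρ (hRρ y) (by rw [← map_pow, hexp y hy, map_one]) (hsum y hy) hinv hne hmin
  have htop : ∀ y : 𝒩, (∃ k : ℕ, y ^ 2 ^ k = 1) → y ^ 2 ^ e ∈ A0 hirr₀ θ := by
    intro y hy
    obtain ⟨a, n, han, c, hc0, hc, -⟩ := hdata y hy
    have hm : y ^ 2 ^ a ∈ A0 hirr₀ θ := ⟨c, hc0, by rw [map_pow]; exact hc⟩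
    have e1 : y ^ 2 ^ e = (y ^ 2 ^ a) ^ 2 ^ n := by
      rw [← pow_mul, ← pow_add, han]
    rw [e1]
    exact pow_mem hm _
  have hQA : Q ≤ A0 hirr₀ θ := by
    refine hQD.trans ?_
    rw [Subgroup.closure_le]
    rintro _ ⟨y, hy, rfl⟩
    exact htop y hy
  refine ⟨fun t ht => hQA ht, ?_, ?_⟩
  · intro y hy x₁ hx₁ x₂ hx₂ g
    have hp := local_pair hq2 hΓ hirr₀ hsc hpw θ (hexp y hy) (hdata y hy) (htop y hy) Q hQ2 hQA hx₁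
    obtain ⟨hu, hp⟩ := hp
    set u := x₁⁻¹ * (y ^ 2 ^ e)⁻¹ * x₁ * y ^ 2 ^ e with hu'
    have hx₂A := hQA hx₂
    have hcA : u * x₂ * u⁻¹ * x₂⁻¹ ∈ A0 hirr₀ θ :=
      mul_mem (mul_mem (mul_mem hu hx₂A) (inv_mem hu)) (inv_mem hx₂A)
    refine scal_of_Th_one hirr₀ θ ⟨_, hcA⟩ ?_ g
    have e1 : Th hirr₀ θ ⟨u * x₂ * u⁻¹ * x₂⁻¹, hcA⟩ =
        Th hirr₀ θ ⟨u, hu⟩ * Th hirr₀ θ ⟨x₂, hx₂A⟩ * (Th hirr₀ θ ⟨u, hu⟩)⁻¹ * (Th hirr₀ θ ⟨x₂, hx₂A⟩)⁻¹ := by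
      rw [← map_inv, ← map_inv, ← map_mul, ← map_mul, ← map_mul]
      rfl
    rw [e1]
    rcases hp with hp | ⟨⟨d, hd, hdA, hp⟩, -⟩
    · rw [hp]
      simp
    · rw [hp]
      have e2 : Th hirr₀ θ ⟨d ^ 2, hdA⟩ * Th hirr₀ θ ⟨x₂, hx₂A⟩ = Th hirr₀ θ ⟨x₂, hx₂A⟩ * Th hirr₀ θ ⟨d ^ 2, hdA⟩ := by
        rw [← map_mul, ← map_mul]
        congr 1
        exact Subtype.ext (hQsq d hd x₂ hx₂)
      rw [e2]
      group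
  · intro hab y hy x₁ hx₁ g
    have hp := local_pair hq2 hΓ hirr₀ hsc hpw θ (hexp y hy) (hdata y hy) (htop y hy) Q hQ2 hQA hx₁
    obtain ⟨hu, hp⟩ := hp
    refine scal_of_Th_one hirr₀ θ ⟨_, hu⟩ ?_ g
    rcases hp with hp | ⟨-, hp⟩
    · exact hp
    · exfalso
      apply hp
      refine hab _ hx₁ _ ?_
      have := hQn.conj_mem x₁ hx₁ (y ^ 2 ^ (e - 1))⁻¹
      simpa using this

theorem triv_of_local [IsAlgClosed K] [CharP K 2] {q : ℕ} [hqf : Fact q.Prime] (hq2 : q ≠ 2) (hΓ : IsPGroup q Γ)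
    (ρ : Γ →* End K V) (hρ : Function.Injective ρ) (θ : 𝒩 →* MulAut Γ) {c : 𝒩} (hc2 : ∃ k : ℕ, c ^ 2 ^ k = 1)
    (hcz : ∀ g ∈ Subgroup.center Γ, θ c g = g)
    (hloc : ∀ {W₀ : Submodule K V} (hinv : Inv ρ W₀), W₀ ≠ ⊥ → (∀ W' ≤ W₀, Inv ρ W' → W' = ⊥ ∨ W' = W₀) →
      ∀ g : Γ, θ c g * g⁻¹ ∈ scal (HHChar.restrictRep ρ W₀ hinv)) : θ c = 1 := by
  classical
  have hq := hqf.out
  have hcardK : (Fintype.card Γ : K) ≠ 0 := card_ne_zero_of_isP hq hq2 hΓ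
  have hcfix : ∀ g, θ c g = g := by
    intro g
    set d := θ c g * g⁻¹ with hd
    have hdc : d ∈ Subgroup.center Γ := by
      rw [Subgroup.mem_center_iff]
      intro x
      have h1 : ρ (x * d * x⁻¹ * d⁻¹) = 1 := by
        refine eq_one_of_irr ρ hcardK _ ?_
        intro W₀ hinv hne hmin v hv
        have h2 : d ∈ scal (HHChar.restrictRep ρ W₀ hinv) := hloc hinv hne hmin g
        obtain ⟨lam, hlam⟩ := h2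
        set ρ₀ := HHChar.restrictRep ρ W₀ hinv with hρ₀
        have hcm : ρ₀ x * ρ₀ d = ρ₀ d * ρ₀ x := by
          rw [hlam]
          simp
        have h5 : ρ₀ (x * d * x⁻¹ * d⁻¹) = 1 := by
          rw [map_mul, map_mul, map_mul, hcm, mul_assoc (ρ₀ d), ← map_mul ρ₀ x, mul_inv_cancel, map_one, mul_one,
            ← map_mul, mul_inv_cancel, map_one]
        have h6 := LinearMap.congr_fun h5 (⟨v, hv⟩ : W₀)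
        have h7 := congrArg Subtype.val h6
        exact h7
      have h3 := hρ (h1.trans (map_one ρ).symm)
      have h4 : x * d * x⁻¹ = d := mul_inv_eq_one.mp h3
      exact (mul_inv_eq_iff_eq_mul.mp h4)
    have hpowc : ∀ k : ℕ, (θ c ^ k) g = d ^ k * g := by
      intro k
      induction k with
      | zero => simp
      | succ k ih =>
        rw [pow_succ', MulAut.mul_apply, ih, map_mul, map_pow, hcz d hdc, pow_succ]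
        have e1 : θ c g = d * g := by rw [hd]; group
        rw [e1]
        group
    obtain ⟨m, hm⟩ := hc2
    have h1 := hpowc (2 ^ m)
    rw [← map_pow, hm, map_one, MulAut.one_apply] at h1
    have h2 : d ^ 2 ^ m = 1 := mul_eq_right.mp h1.symm
    obtain ⟨j, hj⟩ := hΓ d
    have hcop : Nat.Coprime (q ^ j) (2 ^ m) := by
      apply Nat.Coprime.pow
      exact (Nat.coprime_primes hq Nat.prime_two).mpr hq2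
    have h3 := Nat.eq_one_of_dvd_coprimes hcop (orderOf_dvd_of_pow_eq_one hj) (orderOf_dvd_of_pow_eq_one h2)
    have h6 := orderOf_eq_one_iff.mp h3
    exact mul_inv_eq_one.mp h6
  ext g
  exact hcfix g

/-- **The global representation statement.** -/
theorem top_rep [IsAlgClosed K] [CharP K 2] {q : ℕ} [hqf : Fact q.Prime] (hq2 : q ≠ 2) (hΓ : IsPGroup q Γ)
    (hcen : ∀ a b : Γ, a * b * a⁻¹ * b⁻¹ ∈ Subgroup.center Γ) (hpow : ∀ a : Γ, a ^ q ∈ Subgroup.center Γ)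
    (ρ : Γ →* End K V) (hρ : Function.Injective ρ) (R : 𝒩 →* End K V) (θ : 𝒩 →* MulAut Γ)
    (hRρ : ∀ y g, R y * ρ g = ρ (θ y g) * R y) {e : ℕ}
    (hexp : ∀ y : 𝒩, (∃ k : ℕ, y ^ 2 ^ k = 1) → y ^ 2 ^ (e + 1) = 1)
    (hsum : ∀ y : 𝒩, (∃ k : ℕ, y ^ 2 ^ k = 1) → ∑ i ∈ Finset.range (2 ^ (e + 1)), R y ^ i = 0)
    (Q : Subgroup 𝒩) [hQn : Q.Normal] (hQ2 : IsPGroup 2 Q) (hQsq : ∀ d ∈ Q, ∀ x ∈ Q, d ^ 2 * x = x * d ^ 2)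
    (hQD : Q ≤ Subgroup.closure (topSet 𝒩 e)) :
    (∀ y : 𝒩, (∃ k : ℕ, y ^ 2 ^ k = 1) → ∀ x₁ ∈ Q, ∀ x₂ ∈ Q,
      θ ((x₁⁻¹ * (y ^ 2 ^ e)⁻¹ * x₁ * y ^ 2 ^ e) * x₂ * (x₁⁻¹ * (y ^ 2 ^ e)⁻¹ * x₁ * y ^ 2 ^ e)⁻¹ * x₂⁻¹) = 1) ∧
    ((∀ x ∈ Q, ∀ x' ∈ Q, x * x' = x' * x) → ∀ y : 𝒩, (∃ k : ℕ, y ^ 2 ^ k = 1) → ∀ x₁ ∈ Q,
      θ (x₁⁻¹ * (y ^ 2 ^ e)⁻¹ * x₁ * y ^ 2 ^ e) = 1) := by
  classical
  have hq := hqf.out
  have hcardK : (Fintype.card Γ : K) ≠ 0 := card_ne_zero_of_isP hq hq2 hΓ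
  have hloc : ∀ {W₀ : Submodule K V} (hinv : Inv ρ W₀), W₀ ≠ ⊥ → (∀ W' ≤ W₀, Inv ρ W' → W' = ⊥ ∨ W' = W₀) → _ :=
    fun {W₀} hinv hne hmin => local_final hq2 hΓ hcen hpow ρ R θ hRρ hexp hsum Q hQ2 hQsq hQD hinv hne hmin
  have hcentfix : ∀ t ∈ Q, ∀ g ∈ Subgroup.center Γ, θ t g = g := by
    intro t ht g hg
    have h1 : ρ (θ t g * g⁻¹) = 1 := by
      refine eq_one_of_irr ρ hcardK _ ?_
      intro W₀ hinv hne hmin v hv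
      have hW₀nt : Nontrivial W₀ := Submodule.nontrivial_iff_ne_bot.mpr hne
      have hirr₀ := irr_restrict ρ W₀ hinv hmin
      have h2 := (hloc hinv hne hmin).1 t ht
      have h3 : g ∈ scal (HHChar.restrictRep ρ W₀ hinv) := by
        refine schur hirr₀ _ ?_
        intro b
        rw [← map_mul, ← map_mul, (Subgroup.mem_center_iff.mp hg b)]
      have h4 := tw_scal hirr₀ h2 h3
      have h5 := LinearMap.congr_fun h4 (⟨ρ g⁻¹ v, hinv _ _ hv⟩ : W₀)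
      have h6 := congrArg Subtype.val h5
      have h7 : ρ (θ t g) (ρ g⁻¹ v) = ρ g (ρ g⁻¹ v) := h6
      rw [map_mul, Module.End.mul_apply, h7, ← Module.End.mul_apply, ← map_mul, mul_inv_cancel, map_one]
      rfl
    have h2 := hρ (h1.trans (map_one ρ).symm)
    exact mul_inv_eq_one.mp h2
  have hQ2e : ∀ c ∈ Q, ∃ k : ℕ, c ^ 2 ^ k = 1 := by
    intro c hc
    obtain ⟨k, hk⟩ := hQ2 ⟨c, hc⟩
    exact ⟨k, congrArg Subtype.val hk⟩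
  have huQ : ∀ (a x : 𝒩), x ∈ Q → x⁻¹ * a⁻¹ * x * a ∈ Q := by
    intro a x hx
    have h1 : x⁻¹ * a⁻¹ * x * a = x⁻¹ * (a⁻¹ * x * a⁻¹⁻¹) := by group
    rw [h1]
    exact mul_mem (inv_mem hx) (hQn.conj_mem x hx a⁻¹)
  constructor
  · intro y hy x₁ hx₁ x₂ hx₂
    have hu := huQ (y ^ 2 ^ e) x₁ hx₁
    have hc : (x₁⁻¹ * (y ^ 2 ^ e)⁻¹ * x₁ * y ^ 2 ^ e) * x₂ * (x₁⁻¹ * (y ^ 2 ^ e)⁻¹ * x₁ * y ^ 2 ^ e)⁻¹ * x₂⁻¹ ∈ Q :=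
      mul_mem (mul_mem (mul_mem hu hx₂) (inv_mem hu)) (inv_mem hx₂)
    refine triv_of_local hq2 hΓ ρ hρ θ (hQ2e _ hc) (hcentfix _ hc) ?_
    intro W₀ hinv hne hmin g
    exact (hloc hinv hne hmin).2.1 y hy x₁ hx₁ x₂ hx₂ g
  · intro hab y hy x₁ hx₁
    have hu := huQ (y ^ 2 ^ e) x₁ hx₁
    refine triv_of_local hq2 hΓ ρ hρ θ (hQ2e _ hu) (hcentfix _ hu) ?_
    intro W₀ hinv hne hmin g
    exact (hloc hinv hne hmin).2.2 hab y hy x₁ hx₁ g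

end Cfsg.Agent.Lib.L2Rep
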