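import Mathlib
import Cfsg.Agent.Lib.L2Rep
import Cfsg.Agent.Lib.HHB4
import Cfsg.Agent.Lib.FrattAct
import Cfsg.Agent.Lib.Frat
import Cfsg.Agent.Lib.PCore

set_option autoImplicit false
set_option linter.unusedSectionVars false
set_option linter.unusedVariables false
set_option linter.style.haveILetI false

/-!
Group theory for the `2`-length bound: minimal invariant sections.
-/

namespace Cfsg.Agent.Lib.L2Grp

open Cfsg Cfsg.Agent.Lib.HHB4 Cfsg.Agent.Lib.PCore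
open scoped commutatorElement

variable {G : Type*} [Group G] [Finite G]

theorem normalizer_closure (𝔑 : Subgroup G) (S : Set G) (h : ∀ g ∈ 𝔑, ∀ s ∈ S, g * s * g⁻¹ ∈ S) :
    𝔑 ≤ Subgroup.normalizer (Subgroup.closure S : Set G) := by
  have key : ∀ g ∈ 𝔑, ∀ x ∈ Subgroup.closure S, g * x * g⁻¹ ∈ Subgroup.closure S := by
    intro g hg x hx
    induction hx using Subgroup.closure_induction with
    | mem x hx => exact Subgroup.subset_closure (h g hg x hx)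
    | one => simp
    | mul x y _ _ hx hy =>
      have e1 : g * (x * y) * g⁻¹ = (g * x * g⁻¹) * (g * y * g⁻¹) := by group
      rw [e1]
      exact mul_mem hx hy
    | inv x _ hx =>
      have e1 : g * x⁻¹ * g⁻¹ = (g * x * g⁻¹)⁻¹ := by group
      rw [e1]
      exact inv_mem hx
  intro g hg
  refine mem_normalizer_of_conj (key g hg) ?_
  intro x hx
  have := key g⁻¹ (inv_mem hg) x hx
  simpa using this

theorem conj_mem_of_normalizer {𝔑 F : Subgroup G} (h : 𝔑 ≤ Subgroup.normalizer (F : Set G)) {g x : G} (hg : g ∈ 𝔑)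
    (hx : x ∈ F) : g * x * g⁻¹ ∈ F := (Subgroup.mem_normalizer_iff.mp (h hg) x).mp hx

/-- A coprime element centralizes a `p`-group when it centralizes all commutators. -/
theorem comm_of_comm_commutator {p : ℕ} [hp : Fact p.Prime] {w x : G} (hw : (orderOf w).Coprime p)
    (hxp : ∃ k : ℕ, (x * w * x⁻¹ * w⁻¹) ^ p ^ k = 1)
    (hw1 : w * (x * w * x⁻¹ * w⁻¹) = (x * w * x⁻¹ * w⁻¹) * w)
    (hw2 : x⁻¹ * (x * w * x⁻¹ * w⁻¹) = (x * w * x⁻¹ * w⁻¹) * x⁻¹ ∨ True) :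
    x * w = w * x := by
  set c := x * w * x⁻¹ * w⁻¹ with hc
  have e1 : x * w * x⁻¹ = c * w := by rw [hc]; group
  have e2 : ∀ n : ℕ, x * w ^ n * x⁻¹ = c ^ n * w ^ n := by
    intro n
    induction n with
    | zero => simp
    | succ n ih =>
      have e3 : x * w ^ (n + 1) * x⁻¹ = (x * w ^ n * x⁻¹) * (x * w * x⁻¹) := by
        rw [pow_succ]; group
      rw [e3, ih, e1, pow_succ c, pow_succ w]
      have hcm : Commute (w ^ n) c := (Commute.pow_left (show Commute w c from hw1) n)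
      calc c ^ n * w ^ n * (c * w) = c ^ n * (w ^ n * c) * w := by group
        _ = c ^ n * (c * w ^ n) * w := by rw [hcm.eq]
        _ = c ^ n * c * (w ^ n * w) := by group
  have e3 := e2 (orderOf w)
  rw [pow_orderOf_eq_one, mul_one, mul_one, mul_inv_cancel] at e3
  obtain ⟨k, hk⟩ := hxp
  have h1 : orderOf c ∣ orderOf w := orderOf_dvd_of_pow_eq_one e3.symm
  have h2 : orderOf c ∣ p ^ k := orderOf_dvd_of_pow_eq_one hk
  have h3 : Nat.Coprime (orderOf w) (p ^ k) := Nat.Coprime.pow_right k hw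
  have h4 := Nat.Coprime.eq_one_of_dvd (Nat.Coprime.coprime_dvd_left h1 h3) h2
  rw [orderOf_eq_one_iff] at h4
  have h5 : x * w * x⁻¹ = w := by rw [e1, h4, one_mul]
  rw [mul_inv_eq_iff_eq_mul] at h5
  exact h5

theorem min_special {p : ℕ} [hp : Fact p.Prime] (𝔑 O : Subgroup G) (hO : O ≤ 𝔑)
    (hOn : 𝔑 ≤ Subgroup.normalizer (O : Set G)) (S : Set G) (hS : O = Subgroup.closure S)
    (hScop : ∀ w ∈ S, (orderOf w).Coprime p) (P : Subgroup G) (hP : IsPGroup p P)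
    (hPn : 𝔑 ≤ Subgroup.normalizer (P : Set G)) (hnc : ¬ P ≤ Subgroup.centralizer (O : Set G)) :
    ∃ Q ≤ P, 𝔑 ≤ Subgroup.normalizer (Q : Set G) ∧ ¬ Q ≤ Subgroup.centralizer (O : Set G) ∧
      ⁅Q, O⁆ = Q ∧ ∀ z ∈ (frattini Q).map Q.subtype, ∀ x ∈ Q, x * z = z * x := by
  obtain ⟨Q, ⟨hQP, hQn, hQc⟩, hQmin⟩ := (wellFounded_lt (α := Subgroup G)).has_min
    {Q | Q ≤ P ∧ 𝔑 ≤ Subgroup.normalizer (Q : Set G) ∧ ¬ Q ≤ Subgroup.centralizer (O : Set G)}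
    ⟨P, le_rfl, hPn, hnc⟩
  have hmin : ∀ Q' ≤ Q, 𝔑 ≤ Subgroup.normalizer (Q' : Set G) → Q' ≠ Q → Q' ≤ Subgroup.centralizer (O : Set G) := by
    intro Q' hle hn hne
    by_contra hcon
    exact hQmin Q' ⟨hle.trans hQP, hn, hcon⟩ (lt_of_le_of_ne hle hne)
  have hQ2 : ∀ x ∈ Q, ∃ k : ℕ, x ^ p ^ k = 1 := by
    intro x hx
    obtain ⟨k, hk⟩ := hP ⟨x, hQP hx⟩
    exact ⟨k, congrArg Subtype.val hk⟩
  -- the commutator is invariant and contained in `Q`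
  have hCQ : ⁅Q, O⁆ ≤ Q := by
    rw [Subgroup.commutator_le]
    intro x hx w hw
    rw [commutatorElement_def]
    have h1 : w * x⁻¹ * w⁻¹ ∈ Q := conj_mem_of_normalizer hQn (hO hw) (inv_mem hx)
    have e1 : x * w * x⁻¹ * w⁻¹ = x * (w * x⁻¹ * w⁻¹) := by group
    rw [e1]
    exact mul_mem hx h1
  have hCn : 𝔑 ≤ Subgroup.normalizer ((⁅Q, O⁆ : Subgroup G) : Set G) := by
    have h0 : (⁅Q, O⁆ : Subgroup G) = Subgroup.closure {g | ∃ x ∈ Q, ∃ w ∈ O, ⁅x, w⁆ = g} := rfl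
    rw [h0]
    refine normalizer_closure 𝔑 _ ?_
    rintro g hg _ ⟨x, hx, w, hw, rfl⟩
    refine ⟨g * x * g⁻¹, conj_mem_of_normalizer hQn hg hx, g * w * g⁻¹, conj_mem_of_normalizer hOn hg hw, ?_⟩
    simp only [commutatorElement_def]
    group
  have hCeq : ⁅Q, O⁆ = Q := by
    by_contra hne
    have hC := hmin _ hCQ hCn hne
    apply hQc
    intro x hx
    rw [Subgroup.mem_centralizer_iff]
    -- it suffices to check the generators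
    have hO' : O ≤ Subgroup.centralizer {x} := by
      rw [hS, Subgroup.closure_le]
      intro w hw
      have hwO : w ∈ O := by
        rw [hS]
        exact Subgroup.subset_closure hw
      rw [SetLike.mem_coe, Subgroup.mem_centralizer_singleton_iff]
      have hc : x * w * x⁻¹ * w⁻¹ ∈ ⁅Q, O⁆ := by
        have := Subgroup.commutator_mem_commutator hx hwO
        rwa [commutatorElement_def] at this
      have h1 : x * w = w * x := by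
        refine comm_of_comm_commutator (hScop w hw) (hQ2 _ (hCQ hc)) ?_ (Or.inr trivial)
        have := Subgroup.mem_centralizer_iff.mp (hC hc) w hwO
        exact this
      exact h1.symm
    intro w hw
    have := Subgroup.mem_centralizer_singleton_iff.mp (hO' hw)
    exact this
  refine ⟨Q, hQP, hQn, hQc, hCeq, ?_⟩
  -- the Frattini subgroup
  let θ : 𝔑 →* MulAut Q := Q.normalizerMonoidHom.comp (Subgroup.inclusion hQn)
  let Fr : Subgroup G := (frattini Q).map Q.subtype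
  have hFrQ : Fr ≤ Q := by
    rintro _ ⟨x, _, rfl⟩
    exact x.2
  have hFrn : 𝔑 ≤ Subgroup.normalizer (Fr : Set G) := by
    intro a ha
    have key : ∀ a' (ha' : a' ∈ 𝔑), ∀ x ∈ Fr, a' * x * a'⁻¹ ∈ Fr := by
      rintro a' ha' _ ⟨f, hf, rfl⟩
      exact ⟨θ ⟨a', ha'⟩ f, Cfsg.Agent.Lib.FrattAct.char_mem _ _ hf, rfl⟩
    refine mem_normalizer_of_conj (key a ha) ?_
    intro x hx
    have := key a⁻¹ (inv_mem ha) x hx
    simpa using this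
  have hFrne : Fr ≠ Q := by
    intro he
    apply hQc
    have h1 : frattini Q = ⊤ := by
      rw [eq_top_iff]
      intro x _
      have h2 : (x : G) ∈ Fr := by
        rw [he]
        exact x.2
      obtain ⟨y, hy, hye⟩ := h2
      have h3 : y = x := Subtype.ext hye
      rwa [← h3]
    have h2 : (⊥ : Subgroup Q) ⊔ frattini Q = ⊤ := by rw [h1, sup_top_eq]
    have h3 : (⊥ : Subgroup Q) = ⊤ := frattini_nongenerating h2
    intro x hx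
    have h4 : (⟨x, hx⟩ : Q) ∈ (⊥ : Subgroup Q) := by
      rw [h3]
      trivial
    have h5 : (⟨x, hx⟩ : Q) = 1 := Subgroup.mem_bot.mp h4
    have h6 : x = 1 := congrArg Subtype.val h5
    rw [h6]
    exact one_mem _
  have hFrc := hmin Fr hFrQ hFrn hFrne
  intro z hz x hx
  have hzc : ∀ w ∈ O, ∀ f ∈ Fr, w * f = f * w := by
    intro w hw f hf
    have := Subgroup.mem_centralizer_iff.mp (hFrc hf) w hw
    exact this
  have hQz : Q ≤ Subgroup.centralizer {z} := by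
    rw [← hCeq, Subgroup.commutator_le]
    intro a ha w hw
    rw [Subgroup.mem_centralizer_singleton_iff, commutatorElement_def]
    have h1 : a⁻¹ * z * a ∈ Fr := by
      obtain ⟨f, hf, rfl⟩ := hz
      have hfn : (frattini Q).Normal := inferInstance
      have h2 := hfn.conj_mem f hf (⟨a, ha⟩ : Q)⁻¹
      refine ⟨_, h2, ?_⟩
      simp
    have h2 := hzc w hw _ h1
    have h3 := hzc w hw z hz
    have h3' : w⁻¹ * z = z * w⁻¹ := (Commute.inv_left (show Commute w z from h3)).eq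
    calc a * w * a⁻¹ * w⁻¹ * z = a * w * a⁻¹ * (w⁻¹ * z) := by group
      _ = a * w * a⁻¹ * (z * w⁻¹) := by rw [h3']
      _ = a * (w * (a⁻¹ * z * a)) * a⁻¹ * w⁻¹ := by group
      _ = a * ((a⁻¹ * z * a) * w) * a⁻¹ * w⁻¹ := by rw [h2]
      _ = z * (a * w * a⁻¹ * w⁻¹) := by group
  exact Subgroup.mem_centralizer_singleton_iff.mp (hQz hx)

theorem all_trivial [Group.IsSolvable G] (hcore : pCore 2 G = ⊥) (𝔑 : Subgroup G) (𝔠 : Set G)
    (hC2 : IsPGroup 2 (Subgroup.closure 𝔠)) (hCN : Subgroup.closure 𝔠 ≤ 𝔑)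
    (hCn : 𝔑 ≤ Subgroup.normalizer (Subgroup.closure 𝔠 : Set G))
    (hE : ∀ (q : ℕ) [Fact q.Prime], q ≠ 2 → ∀ E : Subgroup G, IsPGroup q E →
      𝔑 ≤ Subgroup.normalizer (E : Set G) → (∀ a b : E, a * b * a⁻¹ * b⁻¹ ∈ Subgroup.center E) →
      (∀ a : E, a ^ q ∈ Subgroup.center E) → ∀ c ∈ 𝔠, ∀ g ∈ E, c * g = g * c) :
    Subgroup.closure 𝔠 = ⊥ := by
  haveI hF2 : Fact (Nat.Prime 2) := ⟨Nat.prime_two⟩
  by_contra hne
  set C := Subgroup.closure 𝔠 with hC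
  have h1 : ¬ C ≤ Subgroup.centralizer (fittingSubgroup G : Set G) := by
    intro hle
    apply hne
    have h2 : C ≤ pPrimeCore 2 G := by
      intro c hc
      have h3 := fittingSubgroup_le_sup (G := G) 2 (centralizer_fittingSubgroup_le (hle hc))
      rw [hcore, bot_sup_eq] at h3
      exact h3
    exact eq_bot_of_isPGroup_of_coprime hC2
      (Nat.Coprime.coprime_dvd_left (Subgroup.card_dvd_of_le h2) (card_pPrimeCore_coprime 2))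
  have h2 : ∃ q : Nat.Primes, ¬ C ≤ Subgroup.centralizer (pCore (q : ℕ) G : Set G) := by
    by_contra hcon
    push Not at hcon
    apply h1
    intro c hc
    rw [Subgroup.mem_centralizer_iff]
    have h3 : fittingSubgroup G ≤ Subgroup.centralizer {c} := by
      rw [fittingSubgroup_eq_iSup_pCore]
      refine iSup_le fun q => ?_
      intro x hx
      rw [Subgroup.mem_centralizer_singleton_iff]
      exact (Subgroup.mem_centralizer_iff.mp (hcon q hc) x hx)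
    intro x hx
    exact Subgroup.mem_centralizer_singleton_iff.mp (h3 hx)
  obtain ⟨⟨q, hq⟩, hnc⟩ := h2
  haveI hqf : Fact q.Prime := ⟨hq⟩
  have hq2 : q ≠ 2 := by
    rintro rfl
    apply hnc
    rw [hcore]
    intro c hc
    rw [Subgroup.mem_centralizer_iff]
    intro x hx
    have hx1 : x = 1 := Subgroup.mem_bot.mp hx
    rw [hx1, one_mul, mul_one]
  have hScop : ∀ w ∈ 𝔠, (orderOf w).Coprime q := by
    intro w hw
    obtain ⟨k, hk⟩ := hC2 ⟨w, Subgroup.subset_closure hw⟩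
    have h3 : w ^ 2 ^ k = 1 := congrArg Subtype.val hk
    have h4 : orderOf w ∣ 2 ^ k := orderOf_dvd_of_pow_eq_one h3
    refine Nat.Coprime.coprime_dvd_left h4 (Nat.Coprime.pow_left k ?_)
    exact (Nat.coprime_primes Nat.prime_two hq).mpr (Ne.symm hq2)
  obtain ⟨E, hEle, hEn, hEnc, -, hfrat⟩ := min_special (p := q) 𝔑 C hCN hCn 𝔠 hC hScop (pCore q G)
    (isPGroup_pCore q) (by rw [Subgroup.normalizer_eq_top]; exact le_top) (mt Subgroup.le_centralizer_iff.mp hnc)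
  have hEq : IsPGroup q E := (isPGroup_pCore q).to_le hEle
  have hFrZ : ∀ f ∈ frattini E, f ∈ Subgroup.center E := by
    intro f hf
    rw [Subgroup.mem_center_iff]
    intro a
    exact Subtype.ext (hfrat f ⟨f, hf, rfl⟩ a a.2)
  have hcen : ∀ a b' : E, a * b' * a⁻¹ * b'⁻¹ ∈ Subgroup.center E := by
    intro a b'
    apply hFrZ
    apply Cfsg.Agent.Lib.Frat.commutator_le_frattini hEq
    exact Subgroup.commutator_mem_commutator (Subgroup.mem_top _) (Subgroup.mem_top _)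
  have hpow : ∀ a : E, a ^ q ∈ Subgroup.center E := fun a =>
    hFrZ _ (Cfsg.Agent.Lib.Frat.pow_mem_frattini hEq a)
  have hc := hE q hq2 E hEq hEn hcen hpow
  apply hEnc
  intro g hg
  rw [Subgroup.mem_centralizer_iff]
  have h3 : C ≤ Subgroup.centralizer {g} := by
    rw [hC, Subgroup.closure_le]
    intro c hc'
    exact Subgroup.mem_centralizer_singleton_iff.mpr (hc c hc' g hg)
  intro c hc'
  exact Subgroup.mem_centralizer_singleton_iff.mp (h3 hc')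

/-- The elements of `𝔠` are trivial. -/
theorem sub_trivial [Group.IsSolvable G] (hcore : pCore 2 G = ⊥) (𝔑 Q : Subgroup G) (hQ2 : IsPGroup 2 Q)
    (hQ𝔑 : Q ≤ 𝔑) (𝔠 : Set G) (h𝔠Q : 𝔠 ⊆ Q) (h𝔠n : ∀ g ∈ 𝔑, ∀ c ∈ 𝔠, g * c * g⁻¹ ∈ 𝔠)
    (hE : ∀ (q : ℕ) [Fact q.Prime], q ≠ 2 → ∀ E : Subgroup G, IsPGroup q E →
      𝔑 ≤ Subgroup.normalizer (E : Set G) → (∀ a b : E, a * b * a⁻¹ * b⁻¹ ∈ Subgroup.center E) →
      (∀ a : E, a ^ q ∈ Subgroup.center E) → ∀ c ∈ 𝔠, ∀ g ∈ E, c * g = g * c) :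
    ∀ c ∈ 𝔠, c = 1 := by
  have hle : Subgroup.closure 𝔠 ≤ Q := (Subgroup.closure_le _).mpr h𝔠Q
  have h := all_trivial hcore 𝔑 𝔠 (hQ2.to_le hle) (hle.trans hQ𝔑) (normalizer_closure 𝔑 𝔠 h𝔠n) hE
  intro c hc
  have h1 : c ∈ Subgroup.closure 𝔠 := Subgroup.subset_closure hc
  rw [h] at h1
  exact Subgroup.mem_bot.mp h1

/-- Elements acting trivially on `Q` modulo `Zc`. -/
def trivMod (𝔑 Q Zc : Subgroup G) (hQ : 𝔑 ≤ Subgroup.normalizer (Q : Set G)) : Subgroup G where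
  carrier := {t | t ∈ 𝔑 ∧ ∀ x ∈ Q, x⁻¹ * t⁻¹ * x * t ∈ Zc}
  one_mem' := by
    refine ⟨one_mem _, ?_⟩
    intro x hx
    simp
  mul_mem' := by
    rintro t₁ t₂ ⟨h1, h2⟩ ⟨h3, h4⟩
    refine ⟨mul_mem h1 h3, ?_⟩
    intro x hx
    have hx' : t₁⁻¹ * x * t₁ ∈ Q := by
      have := conj_mem_of_normalizer hQ (inv_mem h1) hx
      simpa using this
    have e1 : x⁻¹ * (t₁ * t₂)⁻¹ * x * (t₁ * t₂) =
        (x⁻¹ * t₁⁻¹ * x * t₁) * ((t₁⁻¹ * x * t₁)⁻¹ * t₂⁻¹ * (t₁⁻¹ * x * t₁) * t₂) := by group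
    rw [e1]
    exact mul_mem (h2 x hx) (h4 _ hx')
  inv_mem' := by
    rintro t ⟨h1, h2⟩
    refine ⟨inv_mem h1, ?_⟩
    intro x hx
    have hy : t * x * t⁻¹ ∈ Q := conj_mem_of_normalizer hQ h1 hx
    have e1 : x⁻¹ * t⁻¹⁻¹ * x * t⁻¹ = ((t * x * t⁻¹)⁻¹ * t⁻¹ * (t * x * t⁻¹) * t)⁻¹ := by group
    rw [e1]
    exact inv_mem (h2 _ hy)

theorem mem_trivMod {𝔑 Q Zc : Subgroup G} {hQ : 𝔑 ≤ Subgroup.normalizer (Q : Set G)} {t : G} :
    t ∈ trivMod 𝔑 Q Zc hQ ↔ t ∈ 𝔑 ∧ ∀ x ∈ Q, x⁻¹ * t⁻¹ * x * t ∈ Zc := Iff.rfl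

/-- The top powers, in the ambient group. -/
def topG (𝔑 : Subgroup G) (e : ℕ) : Set G := {a | ∃ y ∈ 𝔑, (∃ k : ℕ, y ^ 2 ^ k = 1) ∧ a = y ^ 2 ^ e}

theorem topG_conj {𝔑 : Subgroup G} {e : ℕ} {g a : G} (hg : g ∈ 𝔑) (ha : a ∈ topG 𝔑 e) : g * a * g⁻¹ ∈ topG 𝔑 e := by
  obtain ⟨y, hy, ⟨k, hk⟩, rfl⟩ := ha
  refine ⟨g * y * g⁻¹, mul_mem (mul_mem hg hy) (inv_mem hg), ⟨k, ?_⟩, ?_⟩
  · rw [conj_pow, hk]
    group
  · rw [conj_pow]

theorem topG_le {𝔑 : Subgroup G} {e : ℕ} : topG 𝔑 e ⊆ 𝔑 := by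
  rintro _ ⟨y, hy, -, rfl⟩
  exact pow_mem hy _

theorem closure_topG (𝔑 : Subgroup G) (e : ℕ) :
    Subgroup.closure (topG 𝔑 e) = (Subgroup.closure (L2Rep.topSet 𝔑 e)).map 𝔑.subtype := by
  rw [MonoidHom.map_closure]
  congr 1
  ext a
  constructor
  · rintro ⟨y, hy, ⟨k, hk⟩, rfl⟩
    refine ⟨⟨y, hy⟩ ^ 2 ^ e, ⟨⟨y, hy⟩, ⟨k, Subtype.ext hk⟩, rfl⟩, rfl⟩
  · rintro ⟨_, ⟨y, ⟨k, hk⟩, rfl⟩, rfl⟩
    exact ⟨y, y.2, ⟨k, congrArg Subtype.val hk⟩, rfl⟩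

section Rep

open Module

variable {K : Type*} [Field K] [IsAlgClosed K] [CharP K 2] {V : Type*} [AddCommGroup V] [Module K V]
  [FiniteDimensional K V]

theorem rep_on_E (ρ : G →* End K V) (hρ : Function.Injective ρ) {e : ℕ}
    (hexp : ∀ y : G, (∃ k : ℕ, y ^ 2 ^ k = 1) → y ^ 2 ^ (e + 1) = 1)
    (hsum : ∀ y : G, (∃ k : ℕ, y ^ 2 ^ k = 1) → ∑ i ∈ Finset.range (2 ^ (e + 1)), ρ y ^ i = 0)
    (𝔑 Q : Subgroup G) (hQ𝔑 : Q ≤ 𝔑) (hQn : 𝔑 ≤ Subgroup.normalizer (Q : Set G)) (hQ2 : IsPGroup 2 Q)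
    (hQsq : ∀ d ∈ Q, ∀ x ∈ Q, d ^ 2 * x = x * d ^ 2) (hQD : Q ≤ Subgroup.closure (topG 𝔑 e))
    {q : ℕ} [Fact q.Prime] (hq2 : q ≠ 2) (E : Subgroup G) (hE : IsPGroup q E)
    (hEn : 𝔑 ≤ Subgroup.normalizer (E : Set G))
    (hcen : ∀ a b : E, a * b * a⁻¹ * b⁻¹ ∈ Subgroup.center E) (hpow : ∀ a : E, a ^ q ∈ Subgroup.center E) :
    (∀ a ∈ topG 𝔑 e, ∀ x₁ ∈ Q, ∀ x₂ ∈ Q, ∀ g ∈ E,
      ((x₁⁻¹ * a⁻¹ * x₁ * a) * x₂ * (x₁⁻¹ * a⁻¹ * x₁ * a)⁻¹ * x₂⁻¹) * g =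
        g * ((x₁⁻¹ * a⁻¹ * x₁ * a) * x₂ * (x₁⁻¹ * a⁻¹ * x₁ * a)⁻¹ * x₂⁻¹)) ∧
    ((∀ x ∈ Q, ∀ x' ∈ Q, x * x' = x' * x) → ∀ a ∈ topG 𝔑 e, ∀ x₁ ∈ Q, ∀ g ∈ E,
      (x₁⁻¹ * a⁻¹ * x₁ * a) * g = g * (x₁⁻¹ * a⁻¹ * x₁ * a)) := by
  classical
  letI : Fintype E := Fintype.ofFinite E
  let θ : 𝔑 →* MulAut E := E.normalizerMonoidHom.comp (Subgroup.inclusion hEn)
  have hθ : ∀ (y : 𝔑) (g : E), ((θ y g : E) : G) = y * g * (y : G)⁻¹ := fun y g => rfl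
  haveI hQ' : (Q.subgroupOf 𝔑).Normal := by
    constructor
    intro n hn g
    rw [Subgroup.mem_subgroupOf] at hn ⊢
    exact conj_mem_of_normalizer hQn g.2 hn
  have hθ1 : ∀ (t : 𝔑), θ t = 1 → ∀ g ∈ E, (t : G) * g = g * t := by
    intro t ht g hg
    have h1 := DFunLike.congr_fun ht ⟨g, hg⟩
    have h2 : ((θ t ⟨g, hg⟩ : E) : G) = g := congrArg Subtype.val h1
    rw [hθ] at h2
    calc (t : G) * g = ((t : G) * g * (t : G)⁻¹) * t := by group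
      _ = g * t := by rw [h2]
  have hmain := L2Rep.top_rep (Γ := E) (𝒩 := 𝔑) hq2 hE hcen hpow (ρ.comp E.subtype) (hρ.comp Subtype.val_injective)
    (ρ.comp 𝔑.subtype) θ ?_ (e := e) ?_ ?_ (Q.subgroupOf 𝔑) (hQ2.comap_of_injective 𝔑.subtype 𝔑.subtype_injective) ?_ ?_
  · obtain ⟨h1, h2⟩ := hmain
    constructor
    · rintro a ⟨y, hy, ⟨k, hk⟩, rfl⟩ x₁ hx₁ x₂ hx₂ g hg
      have hyk : (⟨y, hy⟩ : 𝔑) ^ 2 ^ k = 1 := Subtype.ext hk
      exact hθ1 _ (h1 ⟨y, hy⟩ ⟨k, hyk⟩ ⟨x₁, hQ𝔑 hx₁⟩ hx₁ ⟨x₂, hQ𝔑 hx₂⟩ hx₂) g hg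
    · rintro hab a ⟨y, hy, ⟨k, hk⟩, rfl⟩ x₁ hx₁ g hg
      have hyk : (⟨y, hy⟩ : 𝔑) ^ 2 ^ k = 1 := Subtype.ext hk
      refine hθ1 _ (h2 ?_ ⟨y, hy⟩ ⟨k, hyk⟩ ⟨x₁, hQ𝔑 hx₁⟩ hx₁) g hg
      intro x hx x' hx'
      exact Subtype.ext (hab x hx x' hx')
  · intro y g
    show ρ y * ρ g = ρ ((θ y g : E) : G) * ρ y
    rw [hθ, ← map_mul, ← map_mul]
    congr 1
    group
  · rintro y ⟨k, hk⟩
    exact Subtype.ext (hexp y ⟨k, congrArg Subtype.val hk⟩)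
  · rintro y ⟨k, hk⟩
    exact hsum y ⟨k, congrArg Subtype.val hk⟩
  · intro d hd x hx
    exact Subtype.ext (hQsq d hd x hx)
  · intro x hx
    have h1 := hQD hx
    rw [closure_topG] at h1
    obtain ⟨y, hy, hyx⟩ := h1
    have : y = x := Subtype.ext hyx
    rwa [← this]

/-- **The odd part of the top powers centralizes `R`.** -/
theorem top_acts [Group.IsSolvable G] (hcore : pCore 2 G = ⊥) (ρ : G →* End K V) (hρ : Function.Injective ρ) {e : ℕ}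
    (hexp : ∀ y : G, (∃ k : ℕ, y ^ 2 ^ k = 1) → y ^ 2 ^ (e + 1) = 1)
    (hsum : ∀ y : G, (∃ k : ℕ, y ^ 2 ^ k = 1) → ∑ i ∈ Finset.range (2 ^ (e + 1)), ρ y ^ i = 0)
    (R : Subgroup G) (hR : IsPGroup 2 R) {w : G}
    (hw : w ∈ Subgroup.closure (topG (Subgroup.normalizer (R : Set G)) e)) (hwo : (orderOf w).Coprime 2) :
    ∀ x ∈ R, w * x = x * w := by
  classical
  haveI hF2 : Fact (Nat.Prime 2) := ⟨Nat.prime_two⟩
  by_contra hnc
  set 𝔑 := Subgroup.normalizer (R : Set G) with h𝔑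
  have hR𝔑 : R ≤ 𝔑 := Subgroup.le_normalizer
  set D₀ := Subgroup.closure (topG 𝔑 e) with hD₀
  let Sw : Set G := {w | w ∈ D₀ ∧ (orderOf w).Coprime 2}
  set O := Subgroup.closure Sw with hO
  have hOD : O ≤ D₀ := (Subgroup.closure_le _).mpr fun w hw => hw.1
  have hD𝔑 : D₀ ≤ 𝔑 := (Subgroup.closure_le _).mpr topG_le
  have hDn : 𝔑 ≤ Subgroup.normalizer (D₀ : Set G) :=
    normalizer_closure 𝔑 _ fun g hg s hs => topG_conj hg hs
  have hOn : 𝔑 ≤ Subgroup.normalizer (O : Set G) := by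
    refine normalizer_closure 𝔑 _ ?_
    rintro g hg s ⟨hs1, hs2⟩
    refine ⟨conj_mem_of_normalizer hDn hg hs1, ?_⟩
    have := (MulAut.conj g).orderOf_eq s
    rw [MulAut.conj_apply] at this
    rwa [this]
  have hncO : ¬ R ≤ Subgroup.centralizer (O : Set G) := by
    intro hle
    apply hnc
    intro x hx
    have := Subgroup.mem_centralizer_iff.mp (hle hx) w (Subgroup.subset_closure ⟨hw, hwo⟩)
    exact this
  obtain ⟨Q, hQR, hQn, hQc, hQeq, hfrat⟩ := min_special (p := 2) 𝔑 O (hOD.trans hD𝔑) hOn Sw rfl (fun w hw => hw.2) R hR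
    (le_refl _) hncO
  have hQ2 : IsPGroup 2 Q := hR.to_le hQR
  have hQ𝔑 : Q ≤ 𝔑 := hQR.trans hR𝔑
  have hQD : Q ≤ D₀ := by
    rw [← hQeq, Subgroup.commutator_le]
    intro x hx w' hw'
    rw [commutatorElement_def]
    exact mul_mem (conj_mem_of_normalizer hDn (hQ𝔑 hx) (hOD hw')) (inv_mem (hOD hw'))
  have hQsq : ∀ d ∈ Q, ∀ x ∈ Q, d ^ 2 * x = x * d ^ 2 := by
    intro d hd x hx
    have h1 := Cfsg.Agent.Lib.Frat.pow_mem_frattini hQ2 (⟨d, hd⟩ : Q)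
    have h2 := hfrat _ ⟨_, h1, rfl⟩ x hx
    exact h2.symm
  have hrep := fun (q : ℕ) [Fact q.Prime] (hq2 : q ≠ 2) (E : Subgroup G) (hE : IsPGroup q E)
    (hEn : 𝔑 ≤ Subgroup.normalizer (E : Set G))
    (hcen : ∀ a b : E, a * b * a⁻¹ * b⁻¹ ∈ Subgroup.center E) (hpow : ∀ a : E, a ^ q ∈ Subgroup.center E) =>
      rep_on_E ρ hρ hexp hsum 𝔑 Q hQ𝔑 hQn hQ2 hQsq hQD hq2 E hE hEn hcen hpow
  have huQ : ∀ a ∈ 𝔑, ∀ x ∈ Q, x⁻¹ * a⁻¹ * x * a ∈ Q := by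
    intro a ha x hx
    have e1 : x⁻¹ * a⁻¹ * x * a = x⁻¹ * (a⁻¹ * x * a⁻¹⁻¹) := by group
    rw [e1]
    exact mul_mem (inv_mem hx) (conj_mem_of_normalizer hQn (inv_mem ha) hx)
  -- Step I: the elements `u` are central in `Q`
  have hI := sub_trivial hcore 𝔑 Q hQ2 hQ𝔑
    {c | ∃ a ∈ topG 𝔑 e, ∃ x₁ ∈ Q, ∃ x₂ ∈ Q, c = (x₁⁻¹ * a⁻¹ * x₁ * a) * x₂ * (x₁⁻¹ * a⁻¹ * x₁ * a)⁻¹ * x₂⁻¹}
    (by
      rintro c ⟨a, ha, x₁, hx₁, x₂, hx₂, rfl⟩
      have hu := huQ a (topG_le ha) x₁ hx₁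
      exact mul_mem (mul_mem (mul_mem hu hx₂) (inv_mem hu)) (inv_mem hx₂))
    (by
      rintro g hg c ⟨a, ha, x₁, hx₁, x₂, hx₂, rfl⟩
      refine ⟨g * a * g⁻¹, topG_conj hg ha, g * x₁ * g⁻¹, conj_mem_of_normalizer hQn hg hx₁,
        g * x₂ * g⁻¹, conj_mem_of_normalizer hQn hg hx₂, ?_⟩
      group)
    (by
      rintro q _ hq2 E hE hEn hcen hpow c ⟨a, ha, x₁, hx₁, x₂, hx₂, rfl⟩ g hg
      exact (hrep q hq2 E hE hEn hcen hpow).1 a ha x₁ hx₁ x₂ hx₂ g hg)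
  have hucen : ∀ a ∈ topG 𝔑 e, ∀ x₁ ∈ Q, ∀ x₂ ∈ Q, (x₁⁻¹ * a⁻¹ * x₁ * a) * x₂ = x₂ * (x₁⁻¹ * a⁻¹ * x₁ * a) := by
    intro a ha x₁ hx₁ x₂ hx₂
    have h1 := hI _ ⟨a, ha, x₁, hx₁, x₂, hx₂, rfl⟩
    rw [mul_inv_eq_one, mul_inv_eq_iff_eq_mul] at h1
    exact h1
  -- general principle: the top powers act trivially modulo `Zc` implies `[Q, O] ≤ Zc`
  have hprinc : ∀ Zc : Subgroup G, (∀ a ∈ topG 𝔑 e, ∀ x ∈ Q, x⁻¹ * a⁻¹ * x * a ∈ Zc) → Q ≤ Zc := by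
    intro Zc hZc
    have h1 : D₀ ≤ trivMod 𝔑 Q Zc hQn := by
      rw [hD₀, Subgroup.closure_le]
      intro a ha
      exact ⟨topG_le ha, hZc a ha⟩
    rw [← hQeq, Subgroup.commutator_le]
    intro x hx w' hw'
    rw [commutatorElement_def]
    have h2 := (h1 (hOD (inv_mem hw'))).2 x⁻¹ (inv_mem hx)
    have e1 : x * w' * x⁻¹ * w'⁻¹ = x⁻¹⁻¹ * w'⁻¹⁻¹ * x⁻¹ * w'⁻¹ := by group
    rw [e1]
    exact h2
  -- Step II: `Q` is abelian
  have hQab : ∀ x ∈ Q, ∀ x' ∈ Q, x * x' = x' * x := by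
    have h1 := hprinc (Subgroup.centralizer (Q : Set G)) (by
      intro a ha x hx
      rw [Subgroup.mem_centralizer_iff]
      intro x₂ hx₂
      exact (hucen a ha x hx x₂ hx₂).symm)
    intro x hx x' hx'
    exact Subgroup.mem_centralizer_iff.mp (h1 hx') x hx
  -- Step III: the elements `u` are trivial
  have hIII := sub_trivial hcore 𝔑 Q hQ2 hQ𝔑
    {c | ∃ a ∈ topG 𝔑 e, ∃ x₁ ∈ Q, c = x₁⁻¹ * a⁻¹ * x₁ * a}
    (by
      rintro c ⟨a, ha, x₁, hx₁, rfl⟩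
      exact huQ a (topG_le ha) x₁ hx₁)
    (by
      rintro g hg c ⟨a, ha, x₁, hx₁, rfl⟩
      refine ⟨g * a * g⁻¹, topG_conj hg ha, g * x₁ * g⁻¹, conj_mem_of_normalizer hQn hg hx₁, ?_⟩
      group)
    (by
      rintro q _ hq2 E hE hEn hcen hpow c ⟨a, ha, x₁, hx₁, rfl⟩ g hg
      exact (hrep q hq2 E hE hEn hcen hpow).2 hQab a ha x₁ hx₁ g hg)
  have hQbot : Q ≤ ⊥ := hprinc ⊥ (by
    intro a ha x hx
    rw [Subgroup.mem_bot]
    exact hIII _ ⟨a, ha, x, hx, rfl⟩)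
  apply hQc
  intro x hx
  have hx1 : x = 1 := Subgroup.mem_bot.mp (hQbot hx)
  rw [hx1]
  exact one_mem _

/-- **The top powers lie in `O_{2',2}`.** -/
theorem top_in_core [Group.IsSolvable G] (hcore : pCore 2 G = ⊥) (ρ : G →* End K V) (hρ : Function.Injective ρ) {e : ℕ}
    (hexp : ∀ y : G, (∃ k : ℕ, y ^ 2 ^ k = 1) → y ^ 2 ^ (e + 1) = 1)
    (hsum : ∀ y : G, (∃ k : ℕ, y ^ 2 ^ k = 1) → ∑ i ∈ Finset.range (2 ^ (e + 1)), ρ y ^ i = 0)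
    (S : Sylow 2 G) {h : G} (hh : h ∈ (S : Subgroup G)) :
    (QuotientGroup.mk' (pPrimeCore 2 G) (h ^ 2 ^ e)) ∈ pCore 2 (G ⧸ pPrimeCore 2 G) := by
  classical
  haveI hF2 : Fact (Nat.Prime 2) := ⟨Nat.prime_two⟩
  set T := pPrimeCore 2 G with hT
  let π₂ : G →* G ⧸ T := QuotientGroup.mk' T
  have hπ : Function.Surjective π₂ := QuotientGroup.mk'_surjective T
  set R₂ := pCore 2 (G ⧸ T) with hR₂
  have hR₂n : R₂.Normal := inferInstance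
  let M : Subgroup G := R₂.comap π₂
  haveI hMn : M.Normal := hR₂n.comap π₂
  obtain ⟨P₀⟩ : Nonempty (Sylow 2 M) := inferInstance
  let R₀ : Subgroup G := (P₀ : Subgroup M).map M.subtype
  have hR₀ : IsPGroup 2 R₀ := P₀.isPGroup'.map _
  have hR₀M : R₀ ≤ M := by
    rintro _ ⟨x, _, rfl⟩
    exact x.2
  obtain ⟨S₀, hS₀⟩ := hR₀.exists_le_sylow
  have hS₀M : ∀ x ∈ (S₀ : Subgroup G), x ∈ M → x ∈ R₀ := by
    intro x hx hxM
    have h1 : IsPGroup 2 ((S₀ : Subgroup G).subgroupOf M) :=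
      S₀.isPGroup'.comap_of_injective M.subtype M.subtype_injective
    have h2 : (P₀ : Subgroup M) ≤ (S₀ : Subgroup G).subgroupOf M := by
      intro y hy
      rw [Subgroup.mem_subgroupOf]
      exact hS₀ ⟨y, hy, rfl⟩
    have h3 := P₀.is_maximal' h1 h2
    have h4 : (⟨x, hxM⟩ : M) ∈ (S₀ : Subgroup G).subgroupOf M := by
      rw [Subgroup.mem_subgroupOf]
      exact hx
    rw [h3] at h4
    exact ⟨_, h4, rfl⟩
  set 𝔑 := Subgroup.normalizer (R₀ : Set G) with h𝔑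
  have hS₀𝔑 : (S₀ : Subgroup G) ≤ 𝔑 := by
    have key : ∀ a ∈ (S₀ : Subgroup G), ∀ x ∈ R₀, a * x * a⁻¹ ∈ R₀ := by
      intro a ha x hx
      exact hS₀M _ (mul_mem (mul_mem ha (hS₀ hx)) (inv_mem ha)) (hMn.conj_mem x (hR₀M hx) a)
    intro a ha
    refine mem_normalizer_of_conj (key a ha) ?_
    intro x hx
    have := key a⁻¹ (inv_mem ha) x hx
    simpa using this
  have hR₂le : ∀ r ∈ R₂, ∃ s ∈ R₀, π₂ s = r := by
    intro r hr
    have h1 : r ∈ ((S₀.mapSurjective hπ : Sylow 2 (G ⧸ T)) : Subgroup (G ⧸ T)) :=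
      pCore_le_sylow 2 _ hr
    rw [Sylow.coe_mapSurjective] at h1
    obtain ⟨s, hs, rfl⟩ := h1
    exact ⟨s, hS₀M s hs hr, rfl⟩
  have hπ𝔑 : ∀ g : G ⧸ T, ∃ n ∈ 𝔑, π₂ n = g := by
    intro g
    obtain ⟨x, rfl⟩ := hπ g
    have h1 : x ∈ 𝔑 ⊔ M := by
      have h2 := Sylow.normalizer_sup_eq_top P₀
      have h3 : (𝔑 ⊔ M) = ⊤ := h2
      rw [h3]
      trivial
    obtain ⟨n, hn, m, hm, rfl⟩ := Subgroup.mem_sup_of_normal_right.mp h1
    obtain ⟨r, hr, hrm⟩ := hR₂le _ hm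
    refine ⟨n * r, mul_mem hn (Subgroup.le_normalizer hr), ?_⟩
    rw [map_mul, map_mul, hrm]
  set D₀ := Subgroup.closure (topG 𝔑 e) with hD₀
  have hDn : 𝔑 ≤ Subgroup.normalizer (D₀ : Set G) :=
    normalizer_closure 𝔑 _ fun g hg s hs => topG_conj hg hs
  have hcen := centralizer_pCore_le (G := G ⧸ T) 2 (pPrimeCore_quotient_pPrimeCore 2)
  -- elements of the image are `2`-elements
  have h2elt : ∀ t ∈ D₀, ∃ j : ℕ, (π₂ t) ^ 2 ^ j = 1 := by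
    intro t ht
    have hord : orderOf t ≠ 0 := (orderOf_pos t).ne'
    obtain ⟨j, r, hr, hjr⟩ := Nat.exists_eq_two_pow_mul_odd hord
    refine ⟨j, ?_⟩
    set w := t ^ 2 ^ j with hw
    have hwo : orderOf w = r := by
      rw [hw, orderOf_pow_of_dvd (by positivity) ⟨r, hjr⟩, hjr]
      exact Nat.mul_div_cancel_left r (by positivity)
    have hwc : (orderOf w).Coprime 2 := by
      rw [hwo]
      exact hr.coprime_two_right
    have hact := top_acts hcore ρ hρ hexp hsum R₀ hR₀ (pow_mem ht _) hwc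
    have hπw : π₂ w ∈ R₂ := by
      apply hcen
      rw [Subgroup.mem_centralizer_iff]
      intro r' hr'
      obtain ⟨s, hs, rfl⟩ := hR₂le r' hr'
      rw [← map_mul, ← map_mul, hact s hs]
    obtain ⟨k, hk⟩ := (isPGroup_pCore (G := G ⧸ T) 2) ⟨π₂ w, hπw⟩
    have hk' : (π₂ w) ^ 2 ^ k = 1 := congrArg Subtype.val hk
    have h1 : orderOf (π₂ w) ∣ 2 ^ k := orderOf_dvd_of_pow_eq_one hk'
    have h2 : orderOf (π₂ w) ∣ r := by
      rw [← hwo]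
      exact orderOf_map_dvd π₂ w
    have h3 : Nat.Coprime r (2 ^ k) := Nat.Coprime.pow_right k hr.coprime_two_right
    have h4 := Nat.Coprime.eq_one_of_dvd (Nat.Coprime.coprime_dvd_left h2 h3) h1
    rw [orderOf_eq_one_iff, hw, map_pow] at h4
    exact h4
  -- the image is a normal `2`-subgroup
  have hDbar : D₀.map π₂ ≤ R₂ := by
    apply le_pCore
    · constructor
      rintro _ ⟨t, ht, rfl⟩ g
      obtain ⟨n, hn, rfl⟩ := hπ𝔑 g
      exact ⟨n * t * n⁻¹, conj_mem_of_normalizer hDn hn ht, by simp⟩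
    · rintro ⟨_, t, ht, rfl⟩
      obtain ⟨j, hj⟩ := h2elt t ht
      exact ⟨j, Subtype.ext hj⟩
  have hS₀top : ∀ x ∈ (S₀ : Subgroup G), π₂ (x ^ 2 ^ e) ∈ R₂ := by
    intro x hx
    apply hDbar
    refine ⟨_, Subgroup.subset_closure ⟨x, hS₀𝔑 hx, ?_, rfl⟩, rfl⟩
    obtain ⟨k, hk⟩ := S₀.isPGroup' ⟨x, hx⟩
    exact ⟨k, congrArg Subtype.val hk⟩
  obtain ⟨g, rfl⟩ := MulAction.exists_smul_eq G S₀ S
  rw [Sylow.coe_subgroup_smul, mem_conj_smul_iff] at hh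
  have h1 := hS₀top _ hh
  have h2 := hR₂n.conj_mem _ h1 (π₂ g)
  have e1 : π₂ g * π₂ ((g⁻¹ * h * g) ^ 2 ^ e) * (π₂ g)⁻¹ = π₂ (h ^ 2 ^ e) := by
    rw [← map_inv, ← map_mul, ← map_mul]
    congr 1
    rw [← conj_pow]
    group
  rw [e1] at h2
  exact h2

end Rep

end Cfsg.Agent.Lib.L2Grp
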