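import Mathlib
import Cfsg.Agent.Lib.L2Grp
import Cfsg.Agent.Lib.HHE6

set_option autoImplicit false
set_option linter.unusedSectionVars false
set_option linter.unusedVariables false
set_option linter.style.haveILetI false

/-!
Extension of scalars, additive and multiplicative forms of the top power statement.
-/

namespace Cfsg.Agent.Lib.L2Wrap

open Module Cfsg Cfsg.Agent.Lib.L2Grp Cfsg.Agent.Lib.HHE6 Cfsg.Agent.Lib.Kegel Cfsg.Agent.Lib.PCore
open scoped TensorProduct

variable {H : Type*} [Group H] [Finite H]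

theorem top_in_core_field {K : Type*} [Field K] [CharP K 2] {V : Type*} [AddCommGroup V] [Module K V]
    [FiniteDimensional K V] [Group.IsSolvable H] (hcore : pCore 2 H = ⊥) (ρ : H →* End K V)
    (hρ : Function.Injective ρ) {e : ℕ}
    (hexp : ∀ y : H, (∃ k : ℕ, y ^ 2 ^ k = 1) → y ^ 2 ^ (e + 1) = 1)
    (hsum : ∀ y : H, (∃ k : ℕ, y ^ 2 ^ k = 1) → ∑ i ∈ Finset.range (2 ^ (e + 1)), ρ y ^ i = 0)
    (S : Sylow 2 H) {h : H} (hh : h ∈ (S : Subgroup H)) :
    (QuotientGroup.mk' (pPrimeCore 2 H) (h ^ 2 ^ e)) ∈ pCore 2 (H ⧸ pPrimeCore 2 H) := by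
  let L := AlgebraicClosure K
  let φ : End K V →ₐ[K] End L (L ⊗[K] V) := Module.End.baseChangeHom K L V
  have hφinj : Function.Injective φ := LinearMap.baseChangeHom_injective K V L
  let ρ' : H →* End L (L ⊗[K] V) := (φ : End K V →* End L (L ⊗[K] V)).comp ρ
  have hρ' : ∀ y, ρ' y = φ (ρ y) := fun y => rfl
  refine top_in_core (K := L) hcore ρ' (hφinj.comp hρ) hexp ?_ S hh
  intro y hy
  have h1 : ∑ i ∈ Finset.range (2 ^ (e + 1)), ρ' y ^ i = φ (∑ i ∈ Finset.range (2 ^ (e + 1)), ρ y ^ i) := by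
    rw [map_sum]
    refine Finset.sum_congr rfl fun i _ => ?_
    rw [map_pow, hρ']
  rw [h1, hsum y hy, map_zero]

theorem top_in_core_add {N' : Type*} [AddCommGroup N'] [hp : Fact (Nat.Prime 2)] [Module (ZMod 2) N'] [Finite N']
    [Group.IsSolvable H] (hcore : pCore 2 H = ⊥) (ψ : H →* AddMonoid.End N') (hψ : Function.Injective ψ) {e : ℕ}
    (hexp : ∀ y : H, (∃ k : ℕ, y ^ 2 ^ k = 1) → y ^ 2 ^ (e + 1) = 1)
    (hsum : ∀ y : H, (∃ k : ℕ, y ^ 2 ^ k = 1) → ∀ m, ∑ i ∈ Finset.range (2 ^ (e + 1)), (ψ y ^ i) m = 0)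
    (S : Sylow 2 H) {h : H} (hh : h ∈ (S : Subgroup H)) :
    (QuotientGroup.mk' (pPrimeCore 2 H) (h ^ 2 ^ e)) ∈ pCore 2 (H ⧸ pPrimeCore 2 H) := by
  have : FiniteDimensional (ZMod 2) N' := Module.Finite.of_finite
  refine top_in_core_field (K := ZMod 2) hcore ((toE 2 N').comp ψ) (toE_injective.comp hψ) hexp ?_ S hh
  intro y hy
  ext v
  rw [MonoidHom.comp_apply, toE_sum_apply, hsum y hy]
  rfl

theorem top_in_core_mul {M : Type*} [hM : Group M] [Finite M] (hcomm : ∀ a b : M, a * b = b * a)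
    (hexpM : ∀ a : M, a ^ 2 = 1) [Group.IsSolvable H] (hcore : pCore 2 H = ⊥) (ψ : H →* MulAut M)
    (hψ : Function.Injective ψ) {e : ℕ}
    (hexp : ∀ y : H, (∃ k : ℕ, y ^ 2 ^ k = 1) → y ^ 2 ^ (e + 1) = 1)
    (hnm : ∀ y : H, (∃ k : ℕ, y ^ 2 ^ k = 1) → ∀ m, nm (ψ y) (2 ^ (e + 1)) m = 1)
    (S : Sylow 2 H) {h : H} (hh : h ∈ (S : Subgroup H)) :
    (QuotientGroup.mk' (pPrimeCore 2 H) (h ^ 2 ^ e)) ∈ pCore 2 (H ⧸ pPrimeCore 2 H) := by
  haveI hp : Fact (Nat.Prime 2) := ⟨Nat.prime_two⟩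
  letI iM : CommGroup M := { hM with mul_comm := hcomm }
  have hexp' : ∀ x : Additive M, 2 • x = 0 := by
    intro x
    have h3 : 2 • x = Additive.ofMul ((Additive.toMul x) ^ 2) := rfl
    rw [h3, hexpM]
    rfl
  letI iMod : Module (ZMod 2) (Additive M) := AddCommGroup.zmodModule hexp'
  have hfin : Finite (Additive M) := inferInstanceAs (Finite M)
  let ψ' : H →* AddMonoid.End (Additive M) :=
    { toFun := fun y => MonoidHom.toAdditive ((ψ y : M ≃* M) : M →* M)
      map_one' := by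
        ext v
        show Additive.ofMul (ψ 1 (Additive.toMul (Additive.ofMul v))) = Additive.ofMul v
        rw [map_one]
        rfl
      map_mul' := by
        intro a a'
        ext v
        show Additive.ofMul (ψ (a * a') (Additive.toMul (Additive.ofMul v))) =
          Additive.ofMul (ψ a (ψ a' (Additive.toMul (Additive.ofMul v))))
        rw [map_mul]
        rfl }
  have hψ'app : ∀ (y : H) (m : M), ψ' y (Additive.ofMul m) = Additive.ofMul (ψ y m) := fun _ _ => rfl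
  have hpow : ∀ (y : H) (i : ℕ) (v : M), (ψ' y ^ i) (Additive.ofMul v) = Additive.ofMul ((ψ y ^ i) v) := by
    intro y i v
    rw [← map_pow, ← map_pow, hψ'app]
  have hψ'inj : Function.Injective ψ' := by
    intro a a' haa
    apply hψ
    ext v
    have h3 : ψ' a (Additive.ofMul v) = ψ' a' (Additive.ofMul v) := by rw [haa]
    exact Additive.ofMul.injective h3
  have hsumf : ∀ (y : H) (n : ℕ) (v : M),
      ∑ i ∈ Finset.range n, (ψ' y ^ i) (Additive.ofMul v) = Additive.ofMul (nm (ψ y) n v) := by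
    intro y n v
    induction n with
    | zero => simp [nm_zero]
    | succ n ih =>
      rw [Finset.sum_range_succ, ih, nm_succ, hpow, ofMul_mul]
  refine @top_in_core_add H _ _ (Additive M) _ hp iMod hfin _ hcore ψ' hψ'inj e hexp ?_ S h hh
  intro y hy m
  have h3 := hsumf y (2 ^ (e + 1)) (Additive.toMul m)
  rw [hnm y hy] at h3
  exact h3

end Cfsg.Agent.Lib.L2Wrap
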