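-- Shared library: labelled coset systems for central extensions, with a retraction that is a power on the kernel.
import Mathlib
import Cfsg.Prelude.Def_KGroupFacts
import Cfsg.Agent.Lib.SchurCoset46

set_option autoImplicit false

namespace Cfsg.Agent.Lib.SchurModA

open Cfsg Subgroup Cfsg.Agent.Lib.SchurCoset46
open scoped commutatorElement

section Coset

variable {Γ G X : Type*} [Group Γ] [Group G] [MulAction G X]

/-- The coset system of a stem extension, for a homomorphism on the preimage of a subgroup which extends a given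
homomorphism on the kernel. -/
theorem coset_system' {σ : Γ →* G} (hσ : IsStemExtension σ)
    {Ht : Subgroup Γ} {x0 : X} (hHt : ∀ y, y ∈ Ht ↔ σ y • x0 = x0)
    {B : Type*} [CommGroup B] (ρ : Ht →* B) (ψ : σ.ker →* B)
    (hρ : ∀ k (hk : k ∈ σ.ker) (h : k ∈ Ht), ρ ⟨k, h⟩ = ψ ⟨k, hk⟩)
    {n m : ℕ} {T : ℕ → ℕ → ℕ} {par : ℕ → ℕ × ℕ} (hT : Tab n m T par) {mask : ℕ → X} (hm0 : mask 0 = x0)
    (hmne : ∀ c, c < n → mask c = x0 → c = 0)
    {s : ℕ → G} (hms : ∀ c, c < n → ∀ i, i < m → s i • mask (T c (2 * i)) = mask c)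
    (hgen : closure (s '' Set.Iio m) = ⊤)
    {x : ℕ → Γ} (hx : ∀ i, σ (x i) = s i)
    {rels : ℕ → List ℕ} {R : ℕ} (hrels : ∀ j, j < R → ∀ l ∈ rels j, l < 2 * m)
    (hrel : ∀ j, j < R → evW s (rels j) = 1) :
    ∃ Φ : ℕ → B,
      (∀ c, c < n → 0 < c → Φ (treeVar m par c) = 1) ∧
      (∀ j, j < R → ∀ c, c < n → endV T c (rels j) = c → prodT Φ (rowT m T (n * m + j) c (rels j)) = 1) ∧
      (∀ j, j < R → ∀ (h : evW x (rels j) ∈ σ.ker), Φ (n * m + j) = ψ ⟨evW x (rels j), h⟩) ∧
      (∀ W : Subgroup B, (∀ c, c < n → ∀ i, i < m → Φ (c * m + i) ∈ W) → ∀ k, ψ k ∈ W) := by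
  classical
  have hK : σ.ker ≤ Ht := by
    intro k hk
    rw [hHt, MonoidHom.mem_ker.mp hk, one_smul]
  set t := tOf x par with ht
  have hlx : ∀ l, σ (lett x l) = lett s l := by
    intro l
    rw [map_lett]
    simp only [hx]
  have hlet : ∀ c, c < n → ∀ l, l < 2 * m → (lett s l)⁻¹ • mask c = mask (T c l) := by
    intro c hc l hl
    rcases Nat.mod_two_eq_zero_or_one l with h | h
    · have hi : l / 2 < m := by omega
      have h2 : l = 2 * (l / 2) := by omega
      have h3 := hms c hc _ hi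
      rw [← h2] at h3
      rw [lett, if_pos h, inv_smul_eq_iff, h3]
    · have hi : l / 2 < m := by omega
      have h2 : l = 2 * (l / 2) + 1 := by omega
      have hc' := hT.T_lt c hc l hl
      have h3 := hms _ hc' _ hi
      have h4 := hT.T_odd c hc _ hi
      rw [← h2] at h4
      rw [h4] at h3
      rw [lett, if_neg (by omega), inv_inv, h3]
  have hmt : ∀ c, c < n → (σ (t c))⁻¹ • x0 = mask c := by
    intro c
    induction c using Nat.strong_induction_on with
    | _ c ih =>
      intro hc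
      rcases Nat.eq_zero_or_pos c with rfl | hpos
      · rw [ht, tOf_zero, map_one, inv_one, one_smul, hm0]
      · obtain ⟨h1, h2, h3⟩ := hT.par_lt c hc hpos
        rw [ht, tOf_pos x par hpos h1, map_mul, mul_inv_rev, mul_smul, ← ht, ih _ h1 (h1.trans hc), hlx,
          hlet _ (h1.trans hc) _ h2, h3]
  have hg : ∀ c, c < n → ∀ l, l < 2 * m → t c * lett x l * (t (T c l))⁻¹ ∈ Ht := by
    intro c hc l hl
    rw [hHt, map_mul, map_mul, map_inv, hlx, mul_smul, mul_smul, hmt _ (hT.T_lt c hc l hl),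
      ← hlet c hc l hl, smul_inv_smul, ← hmt c hc, smul_inv_smul]
  have hinj : ∀ c, c < n → t c ∈ Ht → c = 0 := by
    intro c hc h
    apply hmne c hc
    rw [← hmt c hc]
    rw [hHt] at h
    rw [inv_smul_eq_iff, h]
  have ht0 : t 0 = 1 := tOf_zero x par
  -- the variables
  set r := rt Ht ρ with hr
  let Φ : ℕ → B := fun e =>
    if e < n * m then (r (t (e / m) * x (e % m) * (t (T (e / m) (2 * (e % m))))⁻¹))
    else (r (evW x (rels (e - n * m))))
  have hΦe : ∀ c, c < n → ∀ i, i < m → Φ (c * m + i) = (r (t c * x i * (t (T c (2 * i)))⁻¹)) := by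
    intro c hc i hi
    have hlt : c * m + i < n * m := by
      calc c * m + i < c * m + m := by omega
        _ = (c + 1) * m := by ring
        _ ≤ n * m := Nat.mul_le_mul_right _ hc
    have hm : 0 < m := by omega
    have h1 : (c * m + i) / m = c := by
      rw [Nat.add_comm, Nat.add_mul_div_right _ _ hm, Nat.div_eq_of_lt hi, zero_add]
    have h2 : (c * m + i) % m = i := by
      rw [Nat.add_comm, Nat.add_mul_mod_self_right, Nat.mod_eq_of_lt hi]
    simp only [Φ, if_pos hlt, h1, h2]
  have hΦr : ∀ j, Φ (n * m + j) = (r (evW x (rels j))) := by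
    intro j
    have h1 : ¬ n * m + j < n * m := by omega
    simp only [Φ, if_neg h1, Nat.add_sub_cancel_left]
  -- letters
  have hle : ∀ c, c < n → ∀ l, l < 2 * m → l % 2 = 0 →
      (r (t c * lett x l * (t (T c l))⁻¹)) = Φ (c * m + l / 2) := by
    intro c hc l hl h
    rw [hΦe c hc _ (by omega)]
    have h2 : 2 * (l / 2) = l := by omega
    rw [h2, lett, if_pos h]
  have hlo : ∀ c, c < n → ∀ l, l < 2 * m → l % 2 = 1 →
      (r (t c * lett x l * (t (T c l))⁻¹)) = (Φ (T c l * m + l / 2))⁻¹ := by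
    intro c hc l hl h
    have hc' := hT.T_lt c hc l hl
    rw [hΦe _ hc' _ (by omega)]
    have h2 : 2 * (l / 2) + 1 = l := by omega
    have h3 := hT.T_odd c hc (l / 2) (by omega)
    rw [h2] at h3
    have h5 := hg _ hc' (2 * (l / 2)) (by omega)
    rw [h3, lett_even] at h5
    rw [h3, hr, ← rt_inv ρ h5]
    congr 1
    rw [lett, if_neg (by omega)]
    group
  -- paths
  have hpath : ∀ (w : List ℕ) (c : ℕ), c < n → (∀ l ∈ w, l < 2 * m) →
      t c * evW x w * (t (endV T c w))⁻¹ ∈ Ht ∧
        (r (t c * evW x w * (t (endV T c w))⁻¹)) = prodT Φ (pathT m T c w) := by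
    intro w
    induction w with
    | nil =>
      intro c _ _
      simp only [evW, endV, pathT, prodT_nil, mul_one, mul_inv_cancel]
      exact ⟨Ht.one_mem, by rw [hr, rt_one]⟩
    | cons l w ih =>
      intro c hc hw
      have hl := hw l List.mem_cons_self
      have hc' := hT.T_lt c hc l hl
      obtain ⟨h1, h2⟩ := ih _ hc' (fun a ha => hw a (List.mem_cons_of_mem _ ha))
      have h3 := hg c hc l hl
      have e1 : t c * evW x (l :: w) * (t (endV T c (l :: w)))⁻¹
          = (t c * lett x l * (t (T c l))⁻¹) * (t (T c l) * evW x w * (t (endV T (T c l) w))⁻¹) := by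
        simp only [evW, endV]
        group
      rw [e1]
      refine ⟨Ht.mul_mem h3 h1, ?_⟩
      rw [hr, rt_mul ρ h3 h1, ← hr, h2, pathT, prodT_cons]
      congr 1
      rcases Nat.mod_two_eq_zero_or_one l with h | h
      · have hb : Nat.beq (l % 2) 0 = true := by rw [h]; rfl
        rw [hle c hc l hl h, hb]
        simp
      · have hb : Nat.beq (l % 2) 0 = false := by rw [h]; rfl
        rw [hlo c hc l hl h, hb]
        simp
  have hrk : ∀ k (hk : k ∈ σ.ker), r k = ψ ⟨k, hk⟩ := by
    intro k hk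
    rw [hr, rt_of_mem ρ (hK hk)]
    exact hρ k hk _
  refine ⟨Φ, ?_, ?_, ?_, ?_⟩
  · -- tree variables
    intro c hc hpos
    obtain ⟨h1, h2, h3⟩ := hT.par_lt c hc hpos
    rw [treeVar]
    rcases Nat.mod_two_eq_zero_or_one (par c).2 with h | h
    · have hb : Nat.beq ((par c).2 % 2) 0 = true := by rw [h]; rfl
      rw [hb, cond_true, ← hle _ (h1.trans hc) _ h2 h, h3, ht, tOf_pos x par hpos h1]
      simp [hr, rt_one]
    · have hb : Nat.beq ((par c).2 % 2) 0 = false := by rw [h]; rfl
      rw [hb, cond_false, hΦe c hc _ (by omega)]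
      have h4 := hT.T_odd _ (h1.trans hc) ((par c).2 / 2) (by omega)
      have h5 : 2 * ((par c).2 / 2) + 1 = (par c).2 := by omega
      rw [h5, h3] at h4
      rw [h4]
      have h6 : t c = t (par c).1 * (x ((par c).2 / 2))⁻¹ := by
        rw [ht, tOf_pos x par hpos h1, lett, if_neg (by omega)]
      rw [h6]
      simp [hr, rt_one]
  · -- rows
    intro j hj c hc hend
    obtain ⟨h1, h2⟩ := hpath (rels j) c hc (hrels j hj)
    have h3 : evW x (rels j) ∈ σ.ker := by
      rw [MonoidHom.mem_ker, map_evW]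
      simp only [hx]
      exact hrel j hj
    rw [hend] at h1 h2
    have h4 : t c * evW x (rels j) * (t c)⁻¹ = evW x (rels j) := by
      have := Subgroup.mem_center_iff.mp (hσ.2.1 h3) (t c)
      rw [this]
      group
    rw [h4] at h2
    rw [rowT, prodT_append, ← h2, prodT_cons, prodT_nil, mul_one, hΦr]
    simp
  · -- relators
    intro j _ h
    rw [hΦr]
    exact hrk _ h
  · -- the bound
    intro W hW k
    -- the set
    let Z : Set Γ := {y | ∃ c, c < n ∧ y * (t c)⁻¹ ∈ Ht ∧ (r (y * (t c)⁻¹)) ∈ W}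
    have hZstep : ∀ y ∈ Z, ∀ l, l < 2 * m → y * lett x l ∈ Z := by
      rintro y ⟨c, hc, h1, h2⟩ l hl
      refine ⟨T c l, hT.T_lt c hc l hl, ?_⟩
      have e1 : y * lett x l * (t (T c l))⁻¹ = (y * (t c)⁻¹) * (t c * lett x l * (t (T c l))⁻¹) := by group
      rw [e1]
      have h3 := hg c hc l hl
      refine ⟨Ht.mul_mem h1 h3, ?_⟩
      rw [hr, rt_mul ρ h1 h3, ← hr]
      refine W.mul_mem h2 ?_
      rcases Nat.mod_two_eq_zero_or_one l with h | h
      · rw [hle c hc l hl h]
        exact hW _ hc _ (by omega)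
      · rw [hlo c hc l hl h]
        exact W.inv_mem (hW _ (hT.T_lt c hc l hl) _ (by omega))
    have hcl : ∀ y ∈ closure (x '' Set.Iio m), y ∈ Z := by
      intro y hy
      induction hy using Subgroup.closure_induction_right with
      | one =>
        refine ⟨0, hT.n_pos, ?_⟩
        rw [ht0]
        simp only [inv_one, mul_one]
        refine ⟨Ht.one_mem, ?_⟩
        rw [hr, rt_one]
        exact W.one_mem
      | mul_right a b _ hb ha =>
        obtain ⟨i, hi, rfl⟩ := hb
        have hi' : i < m := hi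
        have := hZstep a ha (2 * i) (by omega)
        rwa [lett_even] at this
      | mul_inv_cancel a b _ hb ha =>
        obtain ⟨i, hi, rfl⟩ := hb
        have hi' : i < m := hi
        have := hZstep a ha (2 * i + 1) (by omega)
        rwa [lett_odd] at this
    obtain ⟨c, hc, h1, h2⟩ := hcl _ (ker_le_closure hσ hgen hx k.2)
    have h3 : t c ∈ Ht := by
      have h4 := Ht.mul_mem (Ht.inv_mem h1) (hK k.2)
      have e : (↑k * (t c)⁻¹)⁻¹ * ↑k = t c := by group
      rwa [e] at h4
    have h5 := hinj c hc h3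
    subst h5
    rw [ht0, inv_one, mul_one, hrk _ k.2] at h2
    exact h2

end Coset

end Cfsg.Agent.Lib.SchurModA
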