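-- Shared library: data for PSL(3,2): a certificate for the two-part of the kernel of a stem extension.
import Mathlib
import Cfsg.Agent.Lib.SchurPackD

set_option autoImplicit false
set_option maxRecDepth 100000

namespace Cfsg.Agent.Lib.L32PackData

open Cfsg.Agent.Lib.SchurPack Cfsg.Agent.Lib.SchurPackD

def tT : ℕ := 0x946f79c2d67d251abded859ae8dd95bcaa8b4dc7a54f432e70616932b532718c5491092294c38e2a1a20f5b86b6b1625244141c26080a40088310400
def tPar : ℕ := 0x8b837a696860413938322b2a2923221b1a18110908030200
def tP : ℕ := 0x400008000000000000000000000000000000000000000001000000000000040000018040000048040000000000400000000000020080000010000000000000800000000c00020080000000000000010040000000000000000000000000000800008000000018000000000000000000000000000000000000000000000000000000000000000000000000000600000000000010040000000000000000000600000000000000000000000000000000000400000000000000000000000000000000000000000000000000000000000000000008000000000000000000000000000000000000000200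
def tQ : ℕ := 0x8040000000000000000000000000000000000000000000000000000000000000000000000000400000000c000180400000000000000000008000000004000200800000300c0001000000800000000000000000400000000000000000000028000000000000000000000400000000000000000000000000000000000000008000000000000000000000000010040000000000000000000200000000000018080000000000000000000000000000000008000000000000000000000000000000000000000000000000000000000000000000000000000400000000000000000000000000000000000000
def tPrm : ℕ := 0x76c02e
def tSt : ℕ := 0x85d1e6e7238d783ac8ee878ee10d74bdd015df60177f5d30a51b0fb00d1103e50cc59910f02a4059830f2e8ce7f4b242a104d21b38115ecb75a1bee6a0191e5ec1632531536747ad08a3c74da53104acb25787f61a205160eb423d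
def mkSlot : ℕ := 0xfffffffff

def relsL : List (List ℕ) := [[0,0,0,0,0,0,0],[2,2,2],[0,0,3,0,0,3],[0,3,0,3,0,3,0,3]]
def rowQL : List (ℕ × ℕ) := [(0,23),(0,0),(0,22)]
def rowAL : List ℕ := [0x7,0xe00,0x1c0000]
def rowCL : List ℕ := [0x0,0x0,0x0]
def gL : List ℕ := [0x8000000]
def ordsL : List (ℕ × ℕ × List ℕ) := [(0,2,[0,0,0])]
def elimL : List (List ℕ × List ℕ) := [([0],[1,0,0]),([0],[0,1,0]),([0],[0,0,1]),([1],[])]

/-- The certificate. -/
def cert : CertP where
  n := 24
  m := 2
  R := 4
  K := 4
  M := 2
  W := 9
  w := 4
  Dr := 135
  T := fun c l => fld tT 5 31 (c * 4 + l)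
  par := fun c => (Nat.shiftRight (fld tPar 8 255 c) 3, Nat.land (fld tPar 8 255 c) 7)
  rels := fun j => relsL.getD j []
  normal := fun j => Nat.ble (j + 1) 2
  P := fun e => fld tP 36 mkSlot e
  Q := fun e => fld tQ 36 mkSlot e
  hm := 0xf87c3e1f0
  prm := fun p => fld tPrm 6 63 p
  steps := unpackL 14 16383 52 tSt
  rowQ := rowQL
  rowA := rowAL
  rowC := rowCL
  G := gL
  elim := fun v => elimL.getD v ([], [])
  ords := ordsL

theorem cert_ok : cert.check = true := by decide +kernel

end Cfsg.Agent.Lib.L32PackData
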