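-- Shared library: data for PSL(3,2): a coset enumeration proving the order of the group with the relators.
import Mathlib
import Cfsg.Agent.Lib.SchurTc

set_option autoImplicit false
set_option Elab.async false
set_option maxRecDepth 100000
set_option linter.all false

namespace Cfsg.Agent.Lib.L32TcData

open Subgroup Cfsg.Agent.Lib.TcFacts Cfsg.Agent.Lib.TcPres Cfsg.Agent.Lib.SchurCoset46 Cfsg.Agent.Lib.SchurTc

/-- The relators. -/
def relsL : List (List ℕ) := [[0,0,0,0,0,0,0],
  [2,2,2],
  [0,0,3,0,0,3],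
  [0,3,0,3,0,3,0,3]]

/-- The relators, inverses and trivial relators, as words in letters. -/
def Rels : List (List ℕ) := [
  [0, 0, 0, 0, 0, 0, 0],
  [2, 2, 2],
  [0, 0, 3, 0, 0, 3],
  [0, 3, 0, 3, 0, 3, 0, 3],
  [1, 1, 1, 1, 1, 1, 1],
  [3, 3, 3],
  [2, 1, 1, 2, 1, 1],
  [2, 1, 2, 1, 2, 1, 2, 1],
  [0, 1],
  [1, 0],
  [2, 3],
  [3, 2]]

/-- The table. -/
noncomputable def T : Tr := (.node (.node (.node (.node (.leaf (nat_lit 0x1d0008190cecdac882a3a344006600205e56ae21a382b041400190008150ccc08e56c53d04c006200206837a759d2a8e90c6001580080f954708544249d428005400203432a022cf096b0cd001180080b95058847609214ac00440020283218225b822d41000100008140d8c40f242226330003200205a0729035181840c3000880080d816640a1a718c308002000202a049302050844407000580080394418811e030e3140014002008308820c580a240400000008028060c020420810840000000000000000000000000)) (.leaf (nat_lit 0x0))) (.node (.leaf (nat_lit 0x0)) (.leaf (nat_lit 0x0)))) (.node (.node (.leaf (nat_lit 0x0)) (.leaf (nat_lit 0x0))) (.node (.leaf (nat_lit 0x0)) (.leaf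 (nat_lit 0x0))))) (.node (.node (.node (.leaf (nat_lit 0x1260020ba59dc24afc7180d8004580082b9695891b31bda35c010400209c38516d67b2750d200388008290ed2d7092a84833800e000208b08d825e109d0def003400081fba578987c26d035800920020b60c4024e99ecf0c9002080082a82f18947277b832000800020983acd059b09128d5)) (.leaf (nat_lit 0x0))) (.node (.leaf (nat_lit 0x0)) (.leaf (nat_lit 0x0)))) (.node (.node (.leaf (nat_lit 0x0)) (.leaf (nat_lit 0x0))) (.node (.leaf (nat_lit 0x0)) (.leaf (nat_lit 0x0))))))

/-- The words. -/
noncomputable def WT : Tr := (.node (.node (.node (.node (.leaf (nat_lit 0xa)) (.leaf (nat_lit 0x92492))) (.node (.leaf (nat_lit 0x11)) (.leaf (nat_lit 0x984c)))) (.node (.node (.leaf (nat_lit 0x23)) (.leaf (nat_lit 0x1a4d2))) (.node (.leaf (nat_lit 0x861861)) (.leaf (nat_lit 0x30c30c))))) (.node (.node (.node (.leaf (nat_lit 0x1c)) (.leaf (nat_lit 0x12693))) (.node (.leaf (nat_lit 0x1349a)) (.leaf (nat_lit 0xc261)))) (.node (.node (.leaf (nat_lit 0x124)) (.leaf (nat_lit 0xdb))) (.node (.leaf (nat_lit 0x21309))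 (.leaf (nat_lit 0x69a69a))))))

/-- Side data. -/
noncomputable def ST : Tr := (.leaf (nat_lit 0x0))

/-- Hints for the words. -/
noncomputable def HT : Tr := (.node (.node (.node (.node (.leaf (nat_lit 0x1008)) (.leaf (nat_lit 0x4))) (.node (.leaf (nat_lit 0x8)) (.leaf (nat_lit 0x2002)))) (.node (.node (.leaf (nat_lit 0xa)) (.leaf (nat_lit 0x1006))) (.node (.leaf (nat_lit 0x3)) (.leaf (nat_lit 0x1003))))) (.node (.node (.node (.leaf (nat_lit 0x100a)) (.leaf (nat_lit 0x6))) (.node (.leaf (nat_lit 0x2006)) (.leaf (nat_lit 0x1002)))) (.node (.node (.leaf (nat_lit 0x5)) (.leaf (nat_lit 0x1))) (.node (.leaf (nat_lit 0x2)) (.leaf (nat_lit 0x1007))))))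

/-- An entry of the table. -/
noncomputable def ent (u a : ℕ) : ℕ :=
  Nat.land
    (Nat.shiftRight
      (Nat.rec (motive := fun _ => ℕ) (Tr.get T 0) (fun m _ => Tr.get T (Nat.succ m))
        (Nat.shiftRight u 4))
      (Nat.add (Nat.mul (Nat.land u 15) 102) (Nat.mul a 17)))
    131071

/-- The parent of a label. -/
noncomputable def pa (v : ℕ) : ℕ := ent v 5

/-- A word. -/
noncomputable def wd (k : ℕ) : ℕ := Tr.get WT k

/-- Side data. -/
noncomputable def side (k : ℕ) : ℕ :=
  Nat.land
    (Nat.shiftRight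
      (Nat.rec (motive := fun _ => ℕ) (Tr.get ST 0) (fun m _ => Tr.get ST (Nat.succ m))
        (Nat.shiftRight k 5))
      (Nat.mul (Nat.land k 31) 14))
    16383

/-- A hint. -/
noncomputable def hint (k : ℕ) : ℕ := Tr.get HT k

/-- The letters of the subgroup. -/
def baseL : List ℕ := [0]

/-- Is a letter in the subgroup. -/
noncomputable def base (a : ℕ) : Bool := baseL.contains a

/-- The check of a row. -/
noncomputable def F : ℕ → Bool :=
  rowF ent pa wd side base 4 31 5 10 255 3 7 8 8 31 16 32 128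

/-- Being alive. -/
noncomputable def al : ℕ → Bool := aliveB ent 4 32

theorem b0 : Block F al 0 256 24 :=
  block_of_check (k := 8) rfl (by decide +kernel)

theorem c0 : Block F al 0 256 24 := b0


theorem hRels1 : ∀ B ∈ Rels, ∀ l ∈ B, l < 4 := by decide +kernel

theorem hRels2 : Rels = relsL ++ relsL.map invWd ++ (List.range 2).flatMap (fun i => [[2 * i, 2 * i + 1], [2 * i + 1, 2 * i]]) := by decide +kernel

theorem hwd : ∀ k, k < 16 →
    rotOK Rels 4 (decW 3 7 (8 + 1) (wd k)) (hint k) = true := by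
  decide +kernel

theorem h1alive : aliveB ent 4 32 1 = true := by decide +kernel

theorem hbase : ∀ a, base a = true → a ∈ baseL := by
  intro a h
  simpa [base] using h

/-- The index of a subgroup containing the given letters. -/
theorem index_le {W : Type*} [Group W] (x : ℕ → W) (hgen : closure (x '' Set.Iio 2) = ⊤)
    (hrel : ∀ r ∈ relsL, evW x r = 1) (H : Subgroup W) (hH : ∀ a ∈ baseL, lett x a ∈ H) :
    H.index ≠ 0 ∧ H.index ≤ 24 := by
  refine index_le_tc (m := 2) x hgen (by norm_num) Rels hRels1 ?_ H ent pa wd side base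
    31 5 10 255 3 7 8 8 31 16 32 128 24
    (by norm_num) ?_ hint hwd (by norm_num) c0 h1alive
  · intro B hB
    rw [hRels2] at hB
    rw [List.mem_append, List.mem_append, List.mem_map, List.mem_flatMap] at hB
    rcases hB with (hB | ⟨r, hr, rfl⟩) | ⟨i, hi, hB⟩
    · exact hrel B hB
    · rw [evW_invWd, hrel r hr, inv_one]
    · simp only [List.mem_cons, List.not_mem_nil, or_false] at hB
      rcases hB with rfl | rfl
      · simp [evW, lett_even, lett_odd]
      · simp [evW, lett_even, lett_odd]
  · intro a _ ha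
    have h2 := hbase a ha
    refine ⟨?_, hH a h2⟩
    revert a
    decide

end Cfsg.Agent.Lib.L32TcData
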