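import Mathlib
import Cfsg.Agent.Lib.L33Simple
import Cfsg.Agent.Lib.SmallGroups2
import Cfsg.Agent.Lib.SmallGroups3
import Cfsg.Agent.Lib.A7Ord7
import Cfsg.Agent.Lib.J1Ord4

/-!
# Groups of order `5616` with an involution whose centralizer is `GL(2,3)`: first local facts
-/

set_option autoImplicit false
set_option linter.unusedVariables false
set_option linter.unusedSectionVars false
set_option linter.style.haveILetI false
set_option maxRecDepth 100000

namespace Cfsg.Agent.Lib.L33Loc

open Subgroup Cfsg.Agent.Lib.GL23Dec Cfsg.Agent.Lib.GL23Group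
open scoped commutatorElement

/-- The upper unitriangular generator. -/
def U : GL23 := ⟨!![1, 1; 0, 1], !![1, 2; 0, 1], by decide, by decide⟩
/-- The lower unitriangular generator. -/
def L : GL23 := ⟨!![1, 0; 1, 1], !![1, 0; 2, 1], by decide, by decide⟩
/-- The diagonal involution. -/
def D : GL23 := ⟨!![1, 0; 0, 2], !![1, 0; 0, 2], by decide, by decide⟩
/-- The permutation matrix. -/
def Sw : GL23 := ⟨!![0, 1; 1, 0], !![0, 1; 1, 0], by decide, by decide⟩

theorem U_cube : U ^ 3 = 1 := by decide +kernel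
theorem L_cube : L ^ 3 = 1 := by decide +kernel
theorem U_ne : U ≠ 1 := by decide +kernel
theorem L_ne : L ≠ 1 := by decide +kernel
theorem D_sq : D ^ 2 = 1 := by decide +kernel
theorem D_ne : D ≠ 1 := by decide +kernel
theorem D_ne' : D ≠ -1 := by decide +kernel
theorem mD_sq : (-1 * D) ^ 2 = 1 := by decide +kernel
theorem mD_ne : -1 * D ≠ 1 := by decide +kernel
theorem D_U : D * U * D⁻¹ = U⁻¹ := by decide +kernel
theorem D_L : D * L * D⁻¹ = L⁻¹ := by decide +kernel
theorem conj_U : ∀ x : GL23, x ^ 3 = 1 → x ≠ 1 → ∃ c : GL23, c * x * c⁻¹ = U := by decide +kernel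
theorem invol_conj : ∀ x : GL23, x ^ 2 = 1 → x ≠ 1 → x ≠ -1 → ∃ c : GL23, c * x * c⁻¹ = D := by
  decide +kernel
theorem Sw_D : Sw * D * Sw⁻¹ = -1 * D := by decide +kernel
theorem cent_D : ∀ x : GL23, x * D = D * x → x = 1 ∨ x = -1 ∨ x = D ∨ x = -1 * D := by decide +kernel
theorem pull : ∀ x : GL23, x ^ 3 = 1 → x ≠ 1 → (D * x * D⁻¹ = x ∨ D * x * D⁻¹ = x⁻¹) →
    x = U ∨ x = U⁻¹ ∨ x = L ∨ x = L⁻¹ := by decide +kernel
theorem UL_four : (U * L) ^ 4 = 1 := by decide +kernel
theorem UL_ne : U * L ≠ 1 := by decide +kernel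
theorem mU_cube : (-1 * U) ^ 3 = -1 := by decide +kernel
theorem card_mU : Fintype.card {y : GL23 // y * (-1 * U) = (-1 * U) * y} = 6 := by decide +kernel
theorem U_ne_inv : U ≠ U⁻¹ := by decide +kernel

/-- The context: a simple group of order `5616` with all involutions conjugate to `t`, whose
centralizer is `GL(2,3)`. -/
structure Ctx (G : Type*) [Group G] where
  t : G
  ht : orderOf t = 2
  e : centralizer ({t} : Set G) ≃* GL23
  hc : Nat.card G = 5616
  hs : IsSimpleGroup G
  hI : ∀ {u : G}, u ^ 2 = 1 → u ≠ 1 → ∃ g, g * t * g⁻¹ = u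

variable {G : Type*} [Group G] [Finite G] (h : Ctx G)
include h

theorem Ctx.not_comm : ¬ IsMulCommutative G := by
  intro hc
  obtain ⟨x, y, hxy⟩ := noncomm
  apply hxy
  apply inG_inj h.e
  rw [inG_mul, inG_mul]
  exact hc.is_comm.comm _ _

/-- The centralizer of an element of order thirteen. -/
theorem Ctx.card_cent13 {r : G} (hr : orderOf r = 13) :
    Nat.card (centralizer ({r} : Set G)) = 13 := by
  classical
  haveI := h.hs
  haveI : Fact (Nat.Prime 13) := ⟨by norm_num⟩
  haveI : Fact (Nat.Prime 2) := ⟨Nat.prime_two⟩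
  obtain ⟨Q, hQ⟩ := Cfsg.Agent.Lib.SmallGroups2.exists_sylow_mem_of_orderOf hr
  have hG : Nat.card G = 13 ^ 1 * 432 := by rw [h.hc]; norm_num
  have hcQ : Nat.card (Q : Subgroup G) = 13 := by
    have := Cfsg.Agent.Lib.SmallGroups2.sylow_card_of_card_eq (p := 13) hG (by norm_num) Q
    simpa using this
  have hr1 : r ≠ 1 := by
    rintro rfl
    simp at hr
  have hz : zpowers r = (Q : Subgroup G) :=
    Cfsg.Agent.Lib.SmallGroups2.zpowers_eq_of_mem_of_ne_one (by norm_num) hcQ hQ hr1
  have hn := Cfsg.Agent.Lib.SmallGroups2.card_sylow_mem_filter (p := 13) hG (by norm_num) (by norm_num)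
  have hf : (Nat.divisors 432).filter (fun n => n % 13 = 1 % 13) = {1, 27, 144} := by decide +kernel
  rw [hf] at hn
  have hn1 := Cfsg.Agent.Lib.SmallGroups2.card_sylow_ne_one h.not_comm (p := 13) (by rw [h.hc]; norm_num)
  have hN := Cfsg.Agent.Lib.SmallGroups2.card_normalizer_mul_card_sylow Q
  rw [h.hc] at hN
  have hB := Cfsg.Agent.Lib.SmallGroups2.not_normalizer_le_centralizer h.not_comm (p := 13)
    (by rw [h.hc]; norm_num) Q
  have hd := Cfsg.Agent.Lib.SmallGroups2.relIndex_dvd_of_prime_card Q hcQ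
  have hle : centralizer ((Q : Subgroup G) : Set G) ≤ normalizer ((Q : Subgroup G) : Set G) :=
    Subgroup.centralizer_le_normalizer _
  have hCN := Cfsg.Agent.Lib.J1Ord.card_eq_mul_relIndex hle
  have hd1 : (centralizer ((Q : Subgroup G) : Set G)).relIndex (normalizer ((Q : Subgroup G) : Set G)) ≠ 1 := by
    intro h1
    exact hB (Subgroup.relIndex_eq_one.1 h1)
  have hcent : centralizer ((Q : Subgroup G) : Set G) = centralizer ({r} : Set G) := by
    rw [← hz]
    exact Cfsg.Agent.Lib.A7Ord.centralizer_zpowers_eq r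
  rw [hcent] at hle hCN hd hd1 hB
  set d := (centralizer ({r} : Set G)).relIndex (normalizer ((Q : Subgroup G) : Set G)) with hdd
  set c := Nat.card (centralizer ({r} : Set G)) with hcc
  set nn := Nat.card (normalizer ((Q : Subgroup G) : Set G)) with hnn
  have h12 : d ∣ 12 := by simpa using hd
  have hd0 : d ∈ Nat.divisors 12 := Nat.mem_divisors.2 ⟨h12, by norm_num⟩
  have hddiv : d ∈ ({1, 2, 3, 4, 6, 12} : Finset ℕ) := by
    have : Nat.divisors 12 = {1, 2, 3, 4, 6, 12} := by decide +kernel
    rwa [this] at hd0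
  -- an involution cannot commute with `r`
  have hno2 : ¬ 2 ∣ c := by
    intro h2
    obtain ⟨x, hx⟩ := exists_prime_orderOf_dvd_card' (G := centralizer ({r} : Set G)) 2 h2
    have hx2 : (x : G) ^ 2 = 1 := by
      have := pow_orderOf_eq_one x
      rw [hx] at this
      exact congrArg Subtype.val this
    have hx1 : (x : G) ≠ 1 := by
      intro hh
      have : x = 1 := Subtype.ext hh
      rw [this, orderOf_one] at hx
      omega
    obtain ⟨g, hg⟩ := h.hI hx2 hx1
    have hxr : (x : G) * r = r * (x : G) := mem_centralizer_singleton_iff.1 x.2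
    have h3 : (g⁻¹ * r * g) * h.t = h.t * (g⁻¹ * r * g) := by
      have hxt : (x : G) = g * h.t * g⁻¹ := hg.symm
      calc (g⁻¹ * r * g) * h.t = g⁻¹ * (r * (g * h.t * g⁻¹)) * g := by group
        _ = g⁻¹ * (r * (x : G)) * g := by rw [hxt]
        _ = g⁻¹ * ((x : G) * r) * g := by rw [hxr]
        _ = g⁻¹ * ((g * h.t * g⁻¹) * r) * g := by rw [hxt]
        _ = h.t * (g⁻¹ * r * g) := by group
    obtain ⟨y, hy⟩ := exists_inG h.e (mem_centralizer_singleton_iff.2 h3)
    have h4 : orderOf (g⁻¹ * r * g) = 13 := by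
      have := Cfsg.Agent.Lib.J1Ord.orderOf_conj' g⁻¹ r
      rw [inv_inv] at this
      rw [this, hr]
    have h5 : (inG h.e y) ^ 48 = 1 := by
      rw [← inG_pow, Cfsg.Agent.Lib.L33Simple.pow48, inG_one]
    rw [← hy] at h5
    have h6 := orderOf_dvd_of_pow_eq_one h5
    rw [h4] at h6
    omega
  have hcases : c = 13 := by
    simp only [Finset.mem_insert, Finset.mem_singleton] at hn hddiv
    rcases hn with hn | hn | hn
    · exact absurd hn hn1
    · rw [hn] at hN
      have h208 : nn = 208 := by omega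
      rw [h208] at hCN
      rcases hddiv with hdv | hdv | hdv | hdv | hdv | hdv
      · exact absurd hdv hd1
      · exfalso; apply hno2; rw [hdv] at hCN; omega
      · exfalso; rw [hdv] at hCN; omega
      · exfalso; apply hno2; rw [hdv] at hCN; omega
      · exfalso; rw [hdv] at hCN; omega
      · exfalso; rw [hdv] at hCN; omega
    · rw [hn] at hN
      have h39 : nn = 39 := by omega
      rw [h39] at hCN
      rcases hddiv with hdv | hdv | hdv | hdv | hdv | hdv
      · exact absurd hdv hd1
      · exfalso; rw [hdv] at hCN; omega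
      · rw [hdv] at hCN; omega
      · exfalso; rw [hdv] at hCN; omega
      · exfalso; rw [hdv] at hCN; omega
      · exfalso; rw [hdv] at hCN; omega
  exact hcases

/-- An element commuting with an element of order thirteen has order dividing thirteen. -/
theorem Ctx.pow13_of_comm {r x : G} (hr : orderOf r = 13) (hx : x * r = r * x) : x ^ 13 = 1 := by
  have h1 : x ∈ centralizer ({r} : Set G) := mem_centralizer_singleton_iff.2 hx
  have h2 := pow_card_eq_one' (G := centralizer ({r} : Set G)) (x := ⟨x, h1⟩)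
  rw [h.card_cent13 hr] at h2
  exact congrArg Subtype.val h2

end Cfsg.Agent.Lib.L33Loc
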