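import Mathlib
import Cfsg.Agent.Lib.L33Loc1
import Cfsg.Agent.Lib.L33Pres

/-!
# Elements of order three commuting with an involution
-/

set_option autoImplicit false
set_option linter.unusedVariables false
set_option linter.unusedSectionVars false
set_option linter.style.haveILetI false
set_option maxRecDepth 100000

namespace Cfsg.Agent.Lib.L33Loc

open Subgroup Cfsg.Agent.Lib.GL23Dec Cfsg.Agent.Lib.GL23Group
open scoped commutatorElement

section gen

variable {G : Type*} [Group G]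

/-- An element of order three commuting with an involution. -/
def IsA (y : G) : Prop := y ^ 3 = 1 ∧ y ≠ 1 ∧ ∃ τ : G, τ ^ 2 = 1 ∧ τ ≠ 1 ∧ y * τ = τ * y

theorem IsA.conj {y : G} (hy : IsA y) (g : G) : IsA (g * y * g⁻¹) := by
  obtain ⟨h3, h1, τ, hτ2, hτ1, hc⟩ := hy
  refine ⟨by rw [conj_pow, h3]; group, ?_, g * τ * g⁻¹, by rw [conj_pow, hτ2]; group, ?_, ?_⟩
  · intro hh
    apply h1
    have : y = g⁻¹ * (g * y * g⁻¹) * g := by group
    rw [this, hh]; group
  · intro hh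
    apply hτ1
    have : τ = g⁻¹ * (g * τ * g⁻¹) * g := by group
    rw [this, hh]; group
  · calc g * y * g⁻¹ * (g * τ * g⁻¹) = g * (y * τ) * g⁻¹ := by group
      _ = g * (τ * y) * g⁻¹ := by rw [hc]
      _ = g * τ * g⁻¹ * (g * y * g⁻¹) := by group

theorem IsA.inv {y : G} (hy : IsA y) : IsA y⁻¹ := by
  obtain ⟨h3, h1, τ, hτ2, hτ1, hc⟩ := hy
  refine ⟨by rw [inv_pow, h3, inv_one], by simpa using h1, τ, hτ2, hτ1, ?_⟩
  calc y⁻¹ * τ = y⁻¹ * (τ * y) * y⁻¹ := by group
    _ = y⁻¹ * (y * τ) * y⁻¹ := by rw [hc]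
    _ = τ * y⁻¹ := by group

theorem isA_of_conj {y : G} (g : G) (hy : IsA (g * y * g⁻¹)) : IsA y := by
  have := hy.conj g⁻¹
  have h2 : g⁻¹ * (g * y * g⁻¹) * g⁻¹⁻¹ = y := by group
  rwa [h2] at this

end gen

variable {G : Type*} [Group G] [Finite G]

/-- The first root element. -/
def Ctx.x12 (h : Ctx G) : G := inG h.e U
/-- The opposite root element. -/
def Ctx.x21 (h : Ctx G) : G := inG h.e L

variable (h : Ctx G)
include h

theorem Ctx.t_sq' : h.t ^ 2 = 1 := t_sq h.ht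

theorem Ctx.t_ne : h.t ≠ 1 := t_ne_one h.ht

theorem Ctx.x12_cube : h.x12 ^ 3 = 1 := by
  rw [Ctx.x12, ← inG_pow, U_cube, inG_one]

theorem Ctx.x21_cube : h.x21 ^ 3 = 1 := by
  rw [Ctx.x21, ← inG_pow, L_cube, inG_one]

theorem Ctx.x12_ne : h.x12 ≠ 1 := by
  rw [Ctx.x12, Ne, inG_eq_one_iff]; exact U_ne

theorem Ctx.x21_ne : h.x21 ≠ 1 := by
  rw [Ctx.x21, Ne, inG_eq_one_iff]; exact L_ne

theorem Ctx.isA_x12 : IsA h.x12 :=
  ⟨h.x12_cube, h.x12_ne, h.t, h.t_sq', h.t_ne, inG_comm h.e U⟩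

theorem Ctx.isA_x21 : IsA h.x21 :=
  ⟨h.x21_cube, h.x21_ne, h.t, h.t_sq', h.t_ne, inG_comm h.e L⟩

/-- A pair (involution, element of order three) commuting is conjugate to the standard one. -/
theorem Ctx.key_conj {τ y : G} (hτ2 : τ ^ 2 = 1) (hτ1 : τ ≠ 1) (hy3 : y ^ 3 = 1) (hy1 : y ≠ 1)
    (hc : y * τ = τ * y) : ∃ g, g * τ * g⁻¹ = h.t ∧ g * y * g⁻¹ = h.x12 := by
  obtain ⟨g, hg⟩ := h.hI hτ2 hτ1
  have h1 : (g⁻¹ * y * g) * h.t = h.t * (g⁻¹ * y * g) := by
    have ht' : τ = g * h.t * g⁻¹ := hg.symm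
    calc (g⁻¹ * y * g) * h.t = g⁻¹ * (y * (g * h.t * g⁻¹)) * g := by group
      _ = g⁻¹ * (y * τ) * g := by rw [ht']
      _ = g⁻¹ * (τ * y) * g := by rw [hc]
      _ = g⁻¹ * ((g * h.t * g⁻¹) * y) * g := by rw [ht']
      _ = h.t * (g⁻¹ * y * g) := by group
  obtain ⟨x, hx⟩ := exists_inG h.e (mem_centralizer_singleton_iff.2 h1)
  have hx3 : x ^ 3 = 1 := by
    apply inG_inj h.e
    have h5 : (g⁻¹ * y * g) ^ 3 = g⁻¹ * y ^ 3 * g := by
      have := conj_pow (a := g⁻¹) (b := y) (i := 3)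
      simpa only [inv_inv] using this
    rw [inG_pow, ← hx, inG_one, h5, hy3]
    group
  have hx1 : x ≠ 1 := by
    rintro rfl
    rw [inG_one] at hx
    apply hy1
    have : y = g * (g⁻¹ * y * g) * g⁻¹ := by group
    rw [this, hx]
    group
  obtain ⟨c, hcx⟩ := conj_U x hx3 hx1
  refine ⟨inG h.e c * g⁻¹, ?_, ?_⟩
  · have hcc := inG_comm h.e c
    calc inG h.e c * g⁻¹ * τ * (inG h.e c * g⁻¹)⁻¹ = inG h.e c * (g⁻¹ * τ * g) * (inG h.e c)⁻¹ := by group
      _ = inG h.e c * h.t * (inG h.e c)⁻¹ := by rw [← hg]; group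
      _ = h.t := by rw [hcc]; group
  · calc inG h.e c * g⁻¹ * y * (inG h.e c * g⁻¹)⁻¹ = inG h.e c * (g⁻¹ * y * g) * (inG h.e c)⁻¹ := by group
      _ = inG h.e (c * x * c⁻¹) := by rw [hx, inG_mul, inG_mul, inG_inv]
      _ = h.x12 := by rw [hcx]; rfl

/-- All elements of the class are conjugate to the standard one. -/
theorem Ctx.conj_x12 {y : G} (hy : IsA y) : ∃ g, g * y * g⁻¹ = h.x12 := by
  obtain ⟨h3, h1, τ, hτ2, hτ1, hc⟩ := hy
  obtain ⟨g, -, hg⟩ := h.key_conj hτ2 hτ1 h3 h1 hc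
  exact ⟨g, hg⟩

theorem Ctx.card_cent_eq {y : G} (hy : IsA y) :
    Nat.card (centralizer ({y} : Set G)) = Nat.card (centralizer ({h.x12} : Set G)) := by
  obtain ⟨g, hg⟩ := h.conj_x12 hy
  rw [← hg]
  exact (Cfsg.Agent.Lib.J1Ord.card_cent_conj g y).symm

theorem Ctx.two_dvd {y : G} (hy : IsA y) : 2 ∣ Nat.card (centralizer ({y} : Set G)) := by
  obtain ⟨h3, h1, τ, hτ2, hτ1, hc⟩ := hy
  have hm : τ ∈ centralizer ({y} : Set G) := mem_centralizer_singleton_iff.2 hc.symm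
  have : orderOf (⟨τ, hm⟩ : centralizer ({y} : Set G)) = 2 := by
    rw [Subgroup.orderOf_mk]
    haveI : Fact (Nat.Prime 2) := ⟨Nat.prime_two⟩
    exact orderOf_eq_prime hτ2 hτ1
  rw [← this]
  exact orderOf_dvd_natCard _

theorem Ctx.not_13_dvd {y : G} (hy : IsA y) : ¬ 13 ∣ Nat.card (centralizer ({y} : Set G)) := by
  intro h13
  obtain ⟨h3, h1, -⟩ := hy
  haveI : Fact (Nat.Prime 13) := ⟨by norm_num⟩
  obtain ⟨x, hx⟩ := exists_prime_orderOf_dvd_card' (G := centralizer ({y} : Set G)) 13 h13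
  have hx' : orderOf (x : G) = 13 := by rwa [Subgroup.orderOf_coe]
  have hc : y * (x : G) = (x : G) * y := (mem_centralizer_singleton_iff.1 x.2).symm
  have h4 := h.pow13_of_comm hx' hc
  exact h1 (Cfsg.Agent.Lib.A7Ord.eq_one_of_coprime_pows h3 h4 (by norm_num))

/-- The centralizer of the element of order six. -/
theorem Ctx.card_cent6 : Nat.card (centralizer ({h.t * h.x12} : Set G)) = 6 := by
  have h1 : h.t * h.x12 = inG h.e (-1 * U) := by
    rw [inG_mul, inG_neg_one h.e h.ht]; rfl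
  rw [h1, card_centralizer h.e h.ht (-1 * U) 3 mU_cube, card_mU]

theorem Ctx.not_four_dvd {y : G} (hy : IsA y) : ¬ 4 ∣ Nat.card (centralizer ({y} : Set G)) := by
  classical
  intro h4
  haveI : Fact (Nat.Prime 2) := ⟨Nat.prime_two⟩
  obtain ⟨h3, h1, -⟩ := hy
  obtain ⟨Q, hQ⟩ := Sylow.exists_subgroup_card_pow_prime (G := centralizer ({y} : Set G)) 2 (n := 2)
    (by simpa using h4)
  have hQ2 : 2 ∣ Nat.card Q := by rw [hQ]; norm_num
  obtain ⟨τ, hτ⟩ := exists_prime_orderOf_dvd_card' (G := Q) 2 hQ2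
  let τ' : G := ((τ : centralizer ({y} : Set G)) : G)
  have hτ2 : τ' ^ 2 = 1 := by
    have := pow_orderOf_eq_one τ
    rw [hτ] at this
    exact congrArg (fun z : Q => ((z : centralizer ({y} : Set G)) : G)) this
  have hτ1 : τ' ≠ 1 := by
    intro hh
    have : τ = 1 := Subtype.ext (Subtype.ext hh)
    rw [this, orderOf_one] at hτ
    omega
  have hc : y * τ' = τ' * y := (mem_centralizer_singleton_iff.1 (τ : centralizer ({y} : Set G)).2).symm
  obtain ⟨g, hg1, hg2⟩ := h.key_conj hτ2 hτ1 h3 h1 hc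
  -- commutativity of `Q`
  have hcomm : ∀ a b : Q, a * b = b * a :=
    fun a b => (IsPGroup.isMulCommutative_of_card_eq_prime_sq (p := 2) (by rw [hQ])).is_comm.comm a b
  let φ : Q →* centralizer ({h.t * h.x12} : Set G) :=
    { toFun := fun q => ⟨g * ((q : centralizer ({y} : Set G)) : G) * g⁻¹, by
        rw [mem_centralizer_singleton_iff]
        have hq1 : ((q : centralizer ({y} : Set G)) : G) * y = y * ((q : centralizer ({y} : Set G)) : G) :=
          mem_centralizer_singleton_iff.1 (q : centralizer ({y} : Set G)).2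
        have hq2 : ((q : centralizer ({y} : Set G)) : G) * τ' = τ' * ((q : centralizer ({y} : Set G)) : G) :=
          congrArg (fun z : Q => ((z : centralizer ({y} : Set G)) : G)) (hcomm q τ)
        rw [← hg1, ← hg2]
        set q' : G := ((q : centralizer ({y} : Set G)) : G)
        calc g * q' * g⁻¹ * (g * τ' * g⁻¹ * (g * y * g⁻¹)) = g * (q' * τ') * y * g⁻¹ := by group
          _ = g * (τ' * q') * y * g⁻¹ := by rw [hq2]
          _ = g * τ' * (q' * y) * g⁻¹ := by group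
          _ = g * τ' * (y * q') * g⁻¹ := by rw [hq1]
          _ = g * τ' * g⁻¹ * (g * y * g⁻¹) * (g * q' * g⁻¹) := by group⟩
      map_one' := by
        apply Subtype.ext
        simp
      map_mul' := by
        intro a b
        apply Subtype.ext
        simp only [MulMemClass.coe_mul]
        group }
  have hφ : Function.Injective φ := by
    intro a b hab
    have h5 : g * ((a : centralizer ({y} : Set G)) : G) * g⁻¹ = g * ((b : centralizer ({y} : Set G)) : G) * g⁻¹ :=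
      congrArg Subtype.val hab
    have h6 : ((a : centralizer ({y} : Set G)) : G) = ((b : centralizer ({y} : Set G)) : G) := by
      exact mul_left_cancel (mul_right_cancel h5)
    exact Subtype.ext (Subtype.ext h6)
  have h7 := Subgroup.card_dvd_of_injective φ hφ
  rw [hQ, h.card_cent6] at h7
  omega

/-- The order of the centralizer from the divisibility by `27`. -/
theorem Ctx.card_of_dvd27 {y : G} (hy : IsA y) (h27 : 27 ∣ Nat.card (centralizer ({y} : Set G))) :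
    Nat.card (centralizer ({y} : Set G)) = 54 := by
  have hd : Nat.card (centralizer ({y} : Set G)) ∣ 5616 := by
    rw [← h.hc]; exact Subgroup.card_subgroup_dvd_card _
  have h2 := h.two_dvd hy
  have h4 := h.not_four_dvd hy
  have h13 := h.not_13_dvd hy
  set c := Nat.card (centralizer ({y} : Set G))
  have hm : c ∈ (Nat.divisors 5616).filter (fun n => 2 ∣ n ∧ ¬ 4 ∣ n ∧ ¬ 13 ∣ n ∧ 27 ∣ n) :=
    Finset.mem_filter.2 ⟨Nat.mem_divisors.2 ⟨hd, by norm_num⟩, h2, h4, h13, h27⟩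
  have hf : (Nat.divisors 5616).filter (fun n => 2 ∣ n ∧ ¬ 4 ∣ n ∧ ¬ 13 ∣ n ∧ 27 ∣ n) = {54} := by
    decide +kernel
  rw [hf] at hm
  simpa using hm

end Cfsg.Agent.Lib.L33Loc
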