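import Mathlib
import Cfsg.Agent.Lib.L33Loc2
import Cfsg.Agent.Lib.TwoLocal2

/-!
# The centralizer of an element of order three commuting with an involution has order `54`
-/

set_option autoImplicit false
set_option linter.unusedVariables false
set_option linter.unusedSectionVars false
set_option linter.style.haveILetI false
set_option maxRecDepth 100000

namespace Cfsg.Agent.Lib.L33Loc

open Subgroup Cfsg.Agent.Lib.GL23Dec Cfsg.Agent.Lib.GL23Group
open scoped commutatorElement

section X

variable {X : Type*} [Group X] [Finite X]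

/-- In a group of order `27`, commutators lie in the subgroup generated by a central element of
order three. -/
theorem comm_mem_of_card27 (hX : Nat.card X = 27) {y : X} (hy : ∀ a : X, a * y = y * a)
    (hyo : orderOf y = 3) (a b : X) : a * b * a⁻¹ * b⁻¹ ∈ zpowers y := by
  haveI : (zpowers y).Normal := by
    constructor
    intro n hn g
    obtain ⟨k, rfl⟩ := mem_zpowers_iff.1 hn
    have : g * y ^ k * g⁻¹ = y ^ k := by
      rw [← conj_zpow]
      have h1 : g * y * g⁻¹ = y := by rw [hy g]; group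
      rw [h1]
    rw [this]
    exact zpow_mem_zpowers y k
  have hcard : Nat.card (X ⧸ zpowers y) = 9 := by
    have := Subgroup.card_eq_card_quotient_mul_card_subgroup (zpowers y)
    rw [hX, Nat.card_zpowers, hyo] at this
    omega
  haveI : Fact (Nat.Prime 3) := ⟨by norm_num⟩
  have hc := (IsPGroup.isMulCommutative_of_card_eq_prime_sq (p := 3) (G := X ⧸ zpowers y)
    (by rw [hcard]; norm_num)).is_comm.comm (a : X ⧸ zpowers y) (b : X ⧸ zpowers y)
  have h1 : ((a * b * a⁻¹ * b⁻¹ : X) : X ⧸ zpowers y) = 1 := by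
    simp only [QuotientGroup.mk_mul, QuotientGroup.mk_inv]
    rw [hc]
    group
  rwa [QuotientGroup.eq_one_iff] at h1

/-- The centre of a nonabelian group of order `27` has order three. -/
theorem card_center_of_27 (hX : Nat.card X = 27) (hna : ∃ a b : X, a * b ≠ b * a) :
    Nat.card (center X) = 3 := by
  haveI : Fact (Nat.Prime 3) := ⟨by norm_num⟩
  have hp : IsPGroup 3 X := IsPGroup.of_card (n := 3) (by rw [hX]; norm_num)
  haveI : Nontrivial X := by
    rw [← Finite.one_lt_card_iff_nontrivial, hX]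
    norm_num
  have hnt := hp.center_nontrivial
  have hd : Nat.card (center X) ∣ 27 := by
    rw [← hX]; exact Subgroup.card_subgroup_dvd_card _
  have hne1 : Nat.card (center X) ≠ 1 := by
    have := Finite.one_lt_card_iff_nontrivial.2 hnt
    omega
  obtain ⟨a, b, hab⟩ := hna
  have hne27 : Nat.card (center X) ≠ 27 := by
    intro h27
    have htop : center X = ⊤ := by
      apply Subgroup.eq_top_of_card_eq
      rw [h27, hX]
    have : a ∈ center X := by rw [htop]; trivial
    exact hab ((Subgroup.mem_center_iff.1 this) b).symm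
  have hne9 : Nat.card (center X) ≠ 9 := by
    intro h9
    have hq : Nat.card (X ⧸ center X) = 3 := by
      have := Subgroup.card_eq_card_quotient_mul_card_subgroup (center X)
      rw [hX, h9] at this
      omega
    haveI : IsCyclic (X ⧸ center X) := isCyclic_of_prime_card hq
    apply hab
    have hcm := MonoidHom.isMulCommutative_of_isCyclic_of_ker_le_center (QuotientGroup.mk' (center X))
      (by rw [QuotientGroup.ker_mk'])
    exact hcm.is_comm.comm a b
  have hm : Nat.card (center X) ∈ Nat.divisors 27 := Nat.mem_divisors.2 ⟨hd, by norm_num⟩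
  have h27 : Nat.divisors 27 = {1, 3, 9, 27} := by decide +kernel
  rw [h27] at hm
  simp only [Finset.mem_insert, Finset.mem_singleton] at hm
  omega

end X

section P

variable {G : Type*} [Group G] [Finite G]

/-- A subgroup of order `27` has a central element of order three. -/
theorem exists_central (P : Subgroup G) (hP : Nat.card P = 27) :
    ∃ z ∈ P, orderOf z = 3 ∧ ∀ p ∈ P, p * z = z * p := by
  haveI : Fact (Nat.Prime 3) := ⟨by norm_num⟩
  have hp : IsPGroup 3 P := IsPGroup.of_card (n := 3) (by rw [hP]; norm_num)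
  haveI : Nontrivial P := by
    rw [← Finite.one_lt_card_iff_nontrivial, hP]
    norm_num
  have hnt := hp.center_nontrivial
  have h1 : 1 < Nat.card (center P) := Finite.one_lt_card_iff_nontrivial.2 hnt
  have hd : Nat.card (center P) ∣ 27 := by
    rw [← hP]; exact Subgroup.card_subgroup_dvd_card _
  have h3 : 3 ∣ Nat.card (center P) := by
    have hm : Nat.card (center P) ∈ Nat.divisors 27 := Nat.mem_divisors.2 ⟨hd, by norm_num⟩
    have h27 : Nat.divisors 27 = {1, 3, 9, 27} := by decide +kernel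
    rw [h27] at hm
    simp only [Finset.mem_insert, Finset.mem_singleton] at hm
    rcases hm with h | h | h | h <;> rw [h] <;> omega
  obtain ⟨z, hz⟩ := exists_prime_orderOf_dvd_card' (G := center P) 3 h3
  refine ⟨((z : P) : G), (z : P).2, ?_, ?_⟩
  · rw [Subgroup.orderOf_coe, Subgroup.orderOf_coe]
    exact hz
  · intro p hp'
    have := (Subgroup.mem_center_iff.1 z.2) ⟨p, hp'⟩
    exact congrArg (fun w : P => (w : G)) this

/-- Commutators in a subgroup of order `27` lie in the cyclic subgroup of a central element. -/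
theorem comm_mem (P : Subgroup G) (hP : Nat.card P = 27) {z : G} (hzP : z ∈ P) (hzo : orderOf z = 3)
    (hzc : ∀ p ∈ P, p * z = z * p) {a b : G} (ha : a ∈ P) (hb : b ∈ P) :
    a * b * a⁻¹ * b⁻¹ ∈ zpowers z := by
  have h1 := comm_mem_of_card27 hP (y := ⟨z, hzP⟩)
    (fun a => Subtype.ext (hzc _ a.2)) (by rw [Subgroup.orderOf_mk]; exact hzo) ⟨a, ha⟩ ⟨b, hb⟩
  obtain ⟨k, hk⟩ := mem_zpowers_iff.1 h1
  have h2 := congrArg (fun w : P => (w : G)) hk
  simp only [Subgroup.coe_zpow, MulMemClass.coe_mul, InvMemClass.coe_inv] at h2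
  rw [← h2]
  exact zpow_mem_zpowers z k

/-- A central element of a nonabelian subgroup of order `27` is a power of any nontrivial central
element. -/
theorem center_mem (P : Subgroup G) (hP : Nat.card P = 27) (hna : ∃ a ∈ P, ∃ b ∈ P, a * b ≠ b * a)
    {z : G} (hzP : z ∈ P) (hz1 : z ≠ 1) (hzc : ∀ p ∈ P, p * z = z * p) {c : G} (hcP : c ∈ P)
    (hcc : ∀ p ∈ P, p * c = c * p) : c ∈ zpowers z := by
  obtain ⟨a, ha, b, hb, hab⟩ := hna
  have h3 := card_center_of_27 hP ⟨⟨a, ha⟩, ⟨b, hb⟩, fun h => hab (congrArg (fun w : P => (w : G)) h)⟩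
  have hzm : (⟨z, hzP⟩ : P) ∈ center P :=
    Subgroup.mem_center_iff.2 (fun g => Subtype.ext (hzc _ g.2))
  have hcm : (⟨c, hcP⟩ : P) ∈ center P :=
    Subgroup.mem_center_iff.2 (fun g => Subtype.ext (hcc _ g.2))
  have hz2 : zpowers (⟨z, hzP⟩ : P) = center P :=
    Cfsg.Agent.Lib.SmallGroups2.zpowers_eq_of_mem_of_ne_one (by norm_num) h3 hzm
      (fun h => hz1 (congrArg (fun w : P => (w : G)) h))
  rw [← hz2] at hcm
  obtain ⟨k, hk⟩ := mem_zpowers_iff.1 hcm
  have h2 := congrArg (fun w : P => (w : G)) hk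
  simp only [Subgroup.coe_zpow] at h2
  rw [← h2]
  exact zpow_mem_zpowers z k

end P

variable {G : Type*} [Group G] [Finite G] (h : Ctx G)
include h

theorem Ctx.dvd27 {y : G} (hy : IsA y) : 27 ∣ Nat.card (centralizer ({y} : Set G)) := by
  classical
  by_contra hn
  haveI : Fact (Nat.Prime 3) := ⟨by norm_num⟩
  obtain ⟨hy3, hy1, τ, hτ2, hτ1, hyτ⟩ := id hy
  have hyo : orderOf y = 3 := orderOf_eq_prime hy3 hy1
  obtain ⟨S, hS⟩ := Cfsg.Agent.Lib.SmallGroups2.exists_sylow_mem_of_orderOf hyo
  have hPc : Nat.card (S : Subgroup G) = 27 := by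
    have := Cfsg.Agent.Lib.SmallGroups2.sylow_card_of_card_eq (p := 3) (a := 3) (m := 208)
      (by rw [h.hc]; norm_num) (by norm_num) S
    simpa using this
  obtain ⟨z, hzP, hzo, hzc⟩ := exists_central (S : Subgroup G) hPc
  have hz3 : z ^ 3 = 1 := by rw [← hzo]; exact pow_orderOf_eq_one z
  have hz1 : z ≠ 1 := by
    rintro rfl
    simp at hzo
  have hyz : y * z = z * y := hzc y hS
  have hPle : ∀ {x : G}, (∀ p ∈ (S : Subgroup G), p * x = x * p) →
      27 ∣ Nat.card (centralizer ({x} : Set G)) := by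
    intro x hx
    rw [← hPc]
    apply Subgroup.card_dvd_of_le
    intro p hp
    exact mem_centralizer_singleton_iff.2 (hx p hp)
  -- `z` is not in the class
  have hzA : ¬ IsA z := by
    intro hA
    apply hn
    rw [h.card_cent_eq hy, ← h.card_cent_eq hA]
    exact hPle hzc
  obtain ⟨p, hp, hpy⟩ : ∃ p ∈ (S : Subgroup G), p * y ≠ y * p := by
    by_contra hall
    push Not at hall
    exact hn (hPle hall)
  have hna : ∃ a ∈ (S : Subgroup G), ∃ b ∈ (S : Subgroup G), a * b ≠ b * a := ⟨p, hp, y, hS, hpy⟩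
  -- the centralizer of `z`
  have hCz : centralizer ({z} : Set G) = (S : Subgroup G) := by
    have hd : Nat.card (centralizer ({z} : Set G)) ∣ 5616 := by
      rw [← h.hc]; exact Subgroup.card_subgroup_dvd_card _
    have h2 : ¬ 2 ∣ Nat.card (centralizer ({z} : Set G)) := by
      intro h2
      haveI : Fact (Nat.Prime 2) := ⟨Nat.prime_two⟩
      obtain ⟨x, hx⟩ := exists_prime_orderOf_dvd_card' (G := centralizer ({z} : Set G)) 2 h2
      apply hzA
      refine ⟨hz3, hz1, (x : G), ?_, ?_, (mem_centralizer_singleton_iff.1 x.2).symm⟩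
      · have := pow_orderOf_eq_one x
        rw [hx] at this
        exact congrArg Subtype.val this
      · intro hh
        have : x = 1 := Subtype.ext hh
        rw [this, orderOf_one] at hx
        omega
    have h13 : ¬ 13 ∣ Nat.card (centralizer ({z} : Set G)) := by
      intro h13
      haveI : Fact (Nat.Prime 13) := ⟨by norm_num⟩
      obtain ⟨x, hx⟩ := exists_prime_orderOf_dvd_card' (G := centralizer ({z} : Set G)) 13 h13
      have hx' : orderOf (x : G) = 13 := by rwa [Subgroup.orderOf_coe]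
      have h4 := h.pow13_of_comm hx' (x := z) (mem_centralizer_singleton_iff.1 x.2).symm
      exact hz1 (Cfsg.Agent.Lib.A7Ord.eq_one_of_coprime_pows hz3 h4 (by norm_num))
    have h27 := hPle hzc
    have hm : Nat.card (centralizer ({z} : Set G)) ∈
        (Nat.divisors 5616).filter (fun n => ¬ 2 ∣ n ∧ ¬ 13 ∣ n ∧ 27 ∣ n) :=
      Finset.mem_filter.2 ⟨Nat.mem_divisors.2 ⟨hd, by norm_num⟩, h2, h13, h27⟩
    have hf : (Nat.divisors 5616).filter (fun n => ¬ 2 ∣ n ∧ ¬ 13 ∣ n ∧ 27 ∣ n) = {27} := by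
      decide +kernel
    rw [hf] at hm
    have hcz : Nat.card (centralizer ({z} : Set G)) = 27 := by simpa using hm
    refine (Subgroup.eq_of_le_of_card_ge (fun p hp => mem_centralizer_singleton_iff.2 (hzc p hp)) ?_).symm
    rw [hcz, hPc]
  -- the conjugates of `y`
  set c : G := p * y * p⁻¹ * y⁻¹ with hc
  have hcm : c ∈ zpowers z := comm_mem (S : Subgroup G) hPc hzP hzo hzc hp hS
  have hc1 : c ≠ 1 := by
    intro hh
    apply hpy
    rw [hc] at hh
    have h1 : p * y = (p * y * p⁻¹ * y⁻¹) * (y * p) := by group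
    rw [h1, hh, one_mul]
  have hcz : zpowers c = zpowers z :=
    Cfsg.Agent.Lib.SmallGroups2.zpowers_eq_of_mem_of_ne_one (p := 3) (by norm_num)
      (by rw [Nat.card_zpowers, hzo]) hcm hc1
  have hcp : p * c = c * p := by
    obtain ⟨k, hk⟩ := mem_zpowers_iff.1 hcm
    rw [← hk]
    exact ((Commute.zpow_right (show Commute p z from hzc p hp) k)).eq
  have hcy : y * c = c * y := by
    obtain ⟨k, hk⟩ := mem_zpowers_iff.1 hcm
    rw [← hk]
    exact ((Commute.zpow_right (show Commute y z from hzc y hS) k)).eq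
  have hpc : p * y * p⁻¹ = c * y := by rw [hc]; group
  have hconj : ∀ m : ℕ, p ^ m * y * (p ^ m)⁻¹ = c ^ m * y := by
    intro m
    induction m with
    | zero => simp
    | succ m ih =>
      have h1 : p ^ (m + 1) * y * (p ^ (m + 1))⁻¹ = p * (p ^ m * y * (p ^ m)⁻¹) * p⁻¹ := by
        rw [pow_succ']
        group
      rw [h1, ih]
      have h2 : p * c ^ m = c ^ m * p := ((Commute.pow_right (show Commute p c from hcp) m)).eq
      calc p * (c ^ m * y) * p⁻¹ = (p * c ^ m) * y * p⁻¹ := by group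
        _ = c ^ m * (p * y * p⁻¹) := by rw [h2]; group
        _ = c ^ m * (c * y) := by rw [hpc]
        _ = c ^ (m + 1) * y := by rw [pow_succ]; group
  have hA1 : ∀ j : ℕ, IsA (z ^ j * y) := by
    intro j
    have h1 : z ^ j ∈ zpowers c := by
      rw [hcz]; exact npow_mem_zpowers z j
    obtain ⟨m, hm⟩ := (mem_powers_iff_mem_zpowers).2 h1
    have hm' : c ^ m = z ^ j := hm
    rw [← hm', ← hconj m]
    exact hy.conj _
  -- the subgroup `E`
  let E : Subgroup G := (S : Subgroup G) ⊓ centralizer ({y} : Set G)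
  have hyE : y ∈ E := Subgroup.mem_inf.2 ⟨hS, mem_centralizer_singleton_iff.2 rfl⟩
  have hzE : z ∈ E := Subgroup.mem_inf.2 ⟨hzP, mem_centralizer_singleton_iff.2 hyz.symm⟩
  have hynz : y ∉ zpowers z := by
    intro hm
    obtain ⟨k, hk⟩ := mem_zpowers_iff.1 hm
    apply hpy
    rw [← hk]
    exact ((Commute.zpow_right (show Commute p z from hzc p hp) k)).eq
  have hlt3 : ∀ Q : Subgroup G, z ∈ Q → y ∈ Q → Nat.card Q ≠ 3 := by
    intro Q h1 h2 h3
    have := Cfsg.Agent.Lib.SmallGroups2.zpowers_eq_of_mem_of_ne_one (by norm_num) h3 h1 hz1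
    rw [← this] at h2
    exact hynz h2
  have hne1 : ∀ Q : Subgroup G, z ∈ Q → Nat.card Q ≠ 1 := by
    intro Q h1 h2
    have : Subsingleton Q := (Nat.card_eq_one_iff_unique.1 h2).1
    have h3 : (⟨z, h1⟩ : Q) = 1 := Subsingleton.elim _ _
    exact hz1 (congrArg Subtype.val h3)
  have h27d : Nat.divisors 27 = {1, 3, 9, 27} := by decide +kernel
  have hEc : Nat.card E = 9 := by
    have hd : Nat.card E ∣ 27 := by
      rw [← hPc]
      exact Subgroup.card_dvd_of_le inf_le_left
    have hm : Nat.card E ∈ Nat.divisors 27 := Nat.mem_divisors.2 ⟨hd, by norm_num⟩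
    rw [h27d] at hm
    simp only [Finset.mem_insert, Finset.mem_singleton] at hm
    rcases hm with h1 | h1 | h1 | h1
    · exact absurd h1 (hne1 E hzE)
    · exact absurd h1 (hlt3 E hzE hyE)
    · exact h1
    · exfalso
      have h2 : E = (S : Subgroup G) :=
        Subgroup.eq_of_le_of_card_ge inf_le_left (by rw [h1, hPc])
      have h3 : p ∈ E := by rw [h2]; exact hp
      exact hpy (mem_centralizer_singleton_iff.1 (Subgroup.mem_inf.1 h3).2)
  have hC18 : Nat.card (centralizer ({y} : Set G)) = 18 := by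
    have hd : Nat.card (centralizer ({y} : Set G)) ∣ 5616 := by
      rw [← h.hc]; exact Subgroup.card_subgroup_dvd_card _
    have h9 : 9 ∣ Nat.card (centralizer ({y} : Set G)) := by
      rw [← hEc]
      exact Subgroup.card_dvd_of_le inf_le_right
    have h2 := h.two_dvd hy
    have h4 := h.not_four_dvd hy
    have h13 := h.not_13_dvd hy
    have hm : Nat.card (centralizer ({y} : Set G)) ∈
        (Nat.divisors 5616).filter (fun n => 2 ∣ n ∧ ¬ 4 ∣ n ∧ ¬ 13 ∣ n ∧ ¬ 27 ∣ n ∧ 9 ∣ n) :=
      Finset.mem_filter.2 ⟨Nat.mem_divisors.2 ⟨hd, by norm_num⟩, h2, h4, h13, hn, h9⟩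
    have hf : (Nat.divisors 5616).filter (fun n => 2 ∣ n ∧ ¬ 4 ∣ n ∧ ¬ 13 ∣ n ∧ ¬ 27 ∣ n ∧ 9 ∣ n) = {18} := by
      decide +kernel
    rw [hf] at hm
    simpa using hm
  -- `E` is generated by `y` and `z`
  let Q := Cfsg.Agent.Lib.L33Pres.pairH y z hy3 hz3 hyz
  have hyQ : y ∈ Q := ⟨1, 0, by simp⟩
  have hzQ : z ∈ Q := ⟨0, 1, by simp⟩
  have hQE : Q ≤ E := by
    rintro _ ⟨i, j, rfl⟩
    exact E.mul_mem (E.pow_mem hyE i) (E.pow_mem hzE j)
  have hQc : Q = E := by
    apply Subgroup.eq_of_le_of_card_ge hQE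
    rw [hEc]
    have hd : Nat.card Q ∣ 9 := by
      rw [← hEc]
      exact Subgroup.card_dvd_of_le hQE
    have hm : Nat.card Q ∈ Nat.divisors 9 := Nat.mem_divisors.2 ⟨hd, by norm_num⟩
    have h9d : Nat.divisors 9 = {1, 3, 9} := by decide +kernel
    rw [h9d] at hm
    simp only [Finset.mem_insert, Finset.mem_singleton] at hm
    rcases hm with h1 | h1 | h1
    · exact absurd h1 (hne1 Q hzQ)
    · exact absurd h1 (hlt3 Q hzQ hyQ)
    · omega
  -- the action of `τ` on `z`
  have hτ' : τ⁻¹ = τ := by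
    rw [inv_eq_iff_mul_eq_one, ← pow_two, hτ2]
  have hz'C : τ * z * τ⁻¹ ∈ centralizer ({y} : Set G) := by
    rw [mem_centralizer_singleton_iff]
    have h1 : τ * y = y * τ := hyτ.symm
    calc τ * z * τ⁻¹ * y = τ * z * (τ⁻¹ * y * τ) * τ⁻¹ := by group
      _ = τ * z * y * τ⁻¹ := by
        have h2 : τ⁻¹ * y * τ = y := by rw [hτ', mul_assoc, ← h1, ← mul_assoc, ← pow_two, hτ2, one_mul]
        rw [h2]
      _ = τ * y * z * τ⁻¹ := by rw [mul_assoc τ z y, ← hyz, ← mul_assoc]
      _ = y * (τ * z * τ⁻¹) := by rw [h1]; group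
  have hz'E : τ * z * τ⁻¹ ∈ E := by
    have hrel : E.relIndex (centralizer ({y} : Set G)) = 2 := by
      have h1 : Nat.card (centralizer ({y} : Set G)) = Nat.card E * E.relIndex (centralizer ({y} : Set G)) :=
        Cfsg.Agent.Lib.J1Ord.card_eq_mul_relIndex (inf_le_right : E ≤ centralizer ({y} : Set G))
      rw [hC18, hEc] at h1
      omega
    have hsq := Subgroup.sq_mem_of_index_two (H := E.subgroupOf (centralizer ({y} : Set G))) hrel ⟨_, hz'C⟩
    have hsq' : (τ * z * τ⁻¹) ^ 2 ∈ E := by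
      have := Subgroup.mem_subgroupOf.1 hsq
      simpa using this
    have h3 : (τ * z * τ⁻¹) ^ 3 = 1 := by rw [conj_pow, hz3]; group
    have h4 : τ * z * τ⁻¹ = ((τ * z * τ⁻¹) ^ 2)⁻¹ := by
      apply eq_inv_of_mul_eq_one_left
      rw [← pow_succ', h3]
    rw [h4]
    exact E.inv_mem hsq'
  have hz'A : ¬ IsA (τ * z * τ⁻¹) := fun hh => hzA (isA_of_conj τ hh)
  have hτz : τ * z * τ⁻¹ = z⁻¹ := by
    rw [← hQc] at hz'E
    obtain ⟨i, j, hij⟩ := hz'E
    rw [pow_eq_pow_mod i hy3, pow_eq_pow_mod j hz3] at hij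
    have hi : i % 3 < 3 := Nat.mod_lt _ (by norm_num)
    have hj : j % 3 < 3 := Nat.mod_lt _ (by norm_num)
    have hyz' : ∀ k : ℕ, y * z ^ k = z ^ k * y := fun k =>
      ((Commute.pow_right (show Commute y z from hyz) k)).eq
    have hzinv : z⁻¹ = z ^ 2 := by
      apply inv_eq_of_mul_eq_one_left
      rw [← pow_succ, hz3]
    generalize hi' : i % 3 = i₀ at hij hi
    generalize hj' : j % 3 = j₀ at hij hj
    interval_cases i₀
    · interval_cases j₀
      · exfalso
        apply hz1
        simp only [pow_zero, mul_one] at hij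
        have : z = τ⁻¹ * (τ * z * τ⁻¹) * τ := by group
        rw [this, hij]
        group
      · exfalso
        simp only [pow_zero, pow_one, one_mul] at hij
        apply hzA
        refine ⟨hz3, hz1, τ, hτ2, hτ1, ?_⟩
        have : z = τ * z * τ⁻¹ := hij.symm
        calc z * τ = (τ * z * τ⁻¹) * τ := by rw [hij]
          _ = τ * z := by group
      · simp only [pow_zero, one_mul] at hij
        rw [hij, hzinv]
    · exfalso
      apply hz'A
      rw [hij, pow_one, hyz']
      exact hA1 _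
    · exfalso
      apply hz'A
      -- the inverse of the element has the standard form
      have h5 : (y ^ 2 * z ^ j₀)⁻¹ = z ^ (2 * j₀) * y := by
        apply inv_eq_of_mul_eq_one_right
        have h6 : z ^ j₀ * (z ^ (2 * j₀) * y) = y * z ^ (3 * j₀) := by
          rw [hyz', ← mul_assoc, ← pow_add]
          congr 2
          ring
        rw [mul_assoc, h6, pow_mul, hz3, one_pow, mul_one, ← pow_succ, hy3]
      have h7 := (hA1 (2 * j₀)).inv
      rw [← h5, inv_inv] at h7
      rw [hij]
      exact h7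
  -- `τ` normalizes `S`
  have hτN : τ ∈ normalizer ((S : Subgroup G) : Set G) := by
    apply Cfsg.Agent.Lib.TwoLocal2.mem_normalizer_of_conj_le
    intro a ha
    rw [← hCz] at ha ⊢
    rw [mem_centralizer_singleton_iff] at ha ⊢
    have h1 : τ⁻¹ * z * τ = z⁻¹ := by
      rw [← hτz, hτ']
    have ha' : a * z⁻¹ = z⁻¹ * a := by
      calc a * z⁻¹ = z⁻¹ * (z * a) * z⁻¹ := by group
        _ = z⁻¹ * (a * z) * z⁻¹ := by rw [ha]
        _ = z⁻¹ * a := by group
    calc τ * a * τ⁻¹ * z = τ * a * (τ⁻¹ * z * τ) * τ⁻¹ := by group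
      _ = τ * (a * z⁻¹) * τ⁻¹ := by rw [h1]; group
      _ = τ * (z⁻¹ * a) * τ⁻¹ := by rw [ha']
      _ = τ * (τ⁻¹ * z * τ) * a * τ⁻¹ := by rw [h1]; group
      _ = z * (τ * a * τ⁻¹) := by group
  have hzinv : z⁻¹ = z ^ 2 := by
    apply inv_eq_of_mul_eq_one_left
    rw [← pow_succ, hz3]
  have hNz : ∀ b ∈ normalizer ((S : Subgroup G) : Set G), b * z * b⁻¹ = z ∨ b * z * b⁻¹ = z⁻¹ := by
    intro b hb
    have hb' := mem_normalizer_iff.1 hb
    have h1 : b * z * b⁻¹ ∈ (S : Subgroup G) := (hb' z).1 hzP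
    have h2 : ∀ p ∈ (S : Subgroup G), p * (b * z * b⁻¹) = (b * z * b⁻¹) * p := by
      intro q hq
      have h3 : b⁻¹ * q * b ∈ (S : Subgroup G) := by
        rw [hb']
        convert hq using 1
        group
      have h4 := hzc _ h3
      calc q * (b * z * b⁻¹) = b * (b⁻¹ * q * b * z) * b⁻¹ := by group
        _ = b * (z * (b⁻¹ * q * b)) * b⁻¹ := by rw [h4]
        _ = (b * z * b⁻¹) * q := by group
    have h5 := center_mem (S : Subgroup G) hPc hna hzP hz1 hzc h1 h2
    obtain ⟨m, hm⟩ := (mem_powers_iff_mem_zpowers).2 h5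
    have hm' : z ^ m = b * z * b⁻¹ := hm
    rw [pow_eq_pow_mod m hz3] at hm'
    have hm3 : m % 3 < 3 := Nat.mod_lt _ (by norm_num)
    generalize m % 3 = m₀ at hm' hm3
    interval_cases m₀
    · exfalso
      apply hz1
      have : z = b⁻¹ * (b * z * b⁻¹) * b := by group
      rw [this, ← hm']
      group
    · left
      rw [← hm', pow_one]
    · right
      rw [← hm', hzinv]
  have hτS : τ ∉ (S : Subgroup G) := by
    intro hm
    have h1 := pow_card_eq_one' (G := (S : Subgroup G)) (x := ⟨τ, hm⟩)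
    rw [hPc] at h1
    have h2 : τ ^ 27 = 1 := congrArg Subtype.val h1
    exact hτ1 (Cfsg.Agent.Lib.A7Ord.eq_one_of_coprime_pows hτ2 h2 (by norm_num))
  have hrel : ((S : Subgroup G)).relIndex (normalizer ((S : Subgroup G) : Set G)) = 2 := by
    show (((S : Subgroup G)).subgroupOf (normalizer ((S : Subgroup G) : Set G))).index = 2
    rw [Subgroup.index_eq_two_iff]
    refine ⟨⟨τ, hτN⟩, ?_⟩
    rintro ⟨b, hb⟩
    rw [Subgroup.mem_subgroupOf, Subgroup.mem_subgroupOf]
    show Xor (b * τ ∈ (S : Subgroup G)) (b ∈ (S : Subgroup G))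
    rcases hNz b hb with h1 | h1
    · right
      have hbS : b ∈ (S : Subgroup G) := by
        rw [← hCz, mem_centralizer_singleton_iff]
        calc b * z = (b * z * b⁻¹) * b := by group
          _ = z * b := by rw [h1]
      refine ⟨hbS, fun hh => hτS ?_⟩
      have : τ = b⁻¹ * (b * τ) := by group
      rw [this]
      exact (S : Subgroup G).mul_mem ((S : Subgroup G).inv_mem hbS) hh
    · left
      constructor
      · rw [← hCz, mem_centralizer_singleton_iff]
        have h2 : b * τ * z * (b * τ)⁻¹ = z := by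
          calc b * τ * z * (b * τ)⁻¹ = b * (τ * z * τ⁻¹) * b⁻¹ := by group
            _ = (b * z * b⁻¹)⁻¹ := by rw [hτz]; group
            _ = z := by rw [h1, inv_inv]
        calc b * τ * z = (b * τ * z * (b * τ)⁻¹) * (b * τ) := by group
          _ = z * (b * τ) := by rw [h2]
      · intro hbS
        rw [← hCz, mem_centralizer_singleton_iff] at hbS
        have h3 : b * z * b⁻¹ = z := by rw [hbS]; group
        rw [h3] at h1
        have h4 : z ^ 2 = 1 := by
          rw [pow_two]
          nth_rewrite 2 [h1]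
          exact mul_inv_cancel z
        exact hz1 (Cfsg.Agent.Lib.A7Ord.eq_one_of_coprime_pows h4 hz3 (by norm_num))
  have hN54 : Nat.card (normalizer ((S : Subgroup G) : Set G)) = 54 := by
    have h1 : Nat.card (normalizer ((S : Subgroup G) : Set G)) = Nat.card (S : Subgroup G) *
        ((S : Subgroup G)).relIndex (normalizer ((S : Subgroup G) : Set G)) :=
      Cfsg.Agent.Lib.J1Ord.card_eq_mul_relIndex le_normalizer
    rw [h1, hPc, hrel]
  have h1 := Cfsg.Agent.Lib.SmallGroups2.card_normalizer_mul_card_sylow S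
  rw [hN54, h.hc] at h1
  have h2 := Cfsg.Agent.Lib.SmallGroups2.card_sylow_mod (G := G) (p := 3)
  omega

/-- The order of the centralizer. -/
theorem Ctx.card_cent54 {y : G} (hy : IsA y) : Nat.card (centralizer ({y} : Set G)) = 54 :=
  h.card_of_dvd27 hy (h.dvd27 hy)

/-- The Sylow subgroup of the centralizer. -/
theorem Ctx.exists_K {y : G} (hy : IsA y) :
    ∃ K : Subgroup G, Nat.card K = 27 ∧ ∀ a, a ∈ K ↔ (a * y = y * a ∧ a ^ 27 = 1) := by
  classical
  haveI : Fact (Nat.Prime 3) := ⟨by norm_num⟩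
  have hc := h.card_cent54 hy
  obtain ⟨K, hK⟩ := Sylow.exists_subgroup_card_pow_prime (G := centralizer ({y} : Set G)) 3 (n := 3)
    (by rw [hc]; norm_num)
  have hidx : K.index = 2 := by
    have := K.card_mul_index
    rw [hK, hc] at this
    omega
  refine ⟨K.map (centralizer ({y} : Set G)).subtype, ?_, ?_⟩
  · rw [Subgroup.card_map_of_injective (Subtype.val_injective), hK]
    norm_num
  · intro a
    constructor
    · rintro ⟨b, hb, rfl⟩
      refine ⟨mem_centralizer_singleton_iff.1 b.2, ?_⟩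
      have h1 := pow_card_eq_one' (G := K) (x := ⟨b, hb⟩)
      rw [hK] at h1
      have h2 := congrArg (fun w : K => ((w : centralizer ({y} : Set G)) : G)) h1
      simpa using h2
    · rintro ⟨h1, h2⟩
      have ha : a ∈ centralizer ({y} : Set G) := mem_centralizer_singleton_iff.2 h1
      refine ⟨⟨a, ha⟩, ?_, rfl⟩
      have h3 := Subgroup.sq_mem_of_index_two hidx ⟨a, ha⟩
      have h4 : (⟨a, ha⟩ : centralizer ({y} : Set G)) ^ 27 = 1 := Subtype.ext h2
      have h5 : (⟨a, ha⟩ : centralizer ({y} : Set G)) =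
          (⟨a, ha⟩ : centralizer ({y} : Set G)) ^ 27 * (((⟨a, ha⟩ : centralizer ({y} : Set G)) ^ 2) ^ 13)⁻¹ := by
        rw [← pow_mul]
        group
      rw [h5, h4, one_mul]
      exact K.inv_mem (K.pow_mem h3 13)

end Cfsg.Agent.Lib.L33Loc
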