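import Mathlib
import Cfsg.Agent.Lib.L33Loc3

/-!
# The four-group and the rotation; fixed points on a subgroup of order `27`
-/

set_option autoImplicit false
set_option linter.unusedVariables false
set_option linter.unusedSectionVars false
set_option linter.style.haveILetI false
set_option maxRecDepth 100000

namespace Cfsg.Agent.Lib.L33Loc

open Subgroup Cfsg.Agent.Lib.GL23Dec Cfsg.Agent.Lib.GL23Group
open scoped commutatorElement

section fix

variable {G : Type*} [Group G] [Finite G]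

/-- A noncyclic four-group acting on a subgroup of order `27`: the fixed points of one involution are
nontrivial if those of two others have order at most three. -/
theorem exists_fix (P : Subgroup G) (hP : Nat.card P = 27) {a b : G} (ha2 : a * a = 1) (hb2 : b * b = 1)
    (hab : a * b = b * a) (haP : ∀ p ∈ P, a * p * a⁻¹ ∈ P) (hbP : ∀ p ∈ P, b * p * b⁻¹ ∈ P)
    (hCa : Nat.card (centralizer ({a} : Set G)) = 48)
    (hCab : Nat.card (centralizer ({a * b} : Set G)) = 48) :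
    ∃ x ∈ P, x ≠ 1 ∧ x * b = b * x := by
  classical
  by_contra hno
  push Not at hno
  have hinv : ∀ x ∈ P, b * x * b⁻¹ = x⁻¹ := by
    apply Cfsg.Agent.Lib.BSW.fpf_inverts P hb2 hbP
    intro x hx hh
    by_contra hne
    apply hno x hx hne
    calc x * b = (b * x * b⁻¹) * b := by rw [hh]
      _ = b * x := by group
  have hcomm : ∀ x ∈ P, ∀ y ∈ P, x * y = y * x := by
    intro x hx y hy
    have h1 := hinv _ (P.mul_mem hx hy)
    have h2 : b * (x * y) * b⁻¹ = (b * x * b⁻¹) * (b * y * b⁻¹) := by group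
    rw [h2, hinv x hx, hinv y hy] at h1
    have h3 : x⁻¹ * y⁻¹ = (x * y)⁻¹ := h1
    have h4 : (y * x)⁻¹ = (x * y)⁻¹ := by rw [mul_inv_rev]; exact h3
    exact (inv_injective h4).symm
  have hdvd : ∀ (c : G), Nat.card (centralizer ({c} : Set G)) = 48 →
      Nat.card ↥(P ⊓ centralizer ({c} : Set G)) ≤ 3 := by
    intro c hc
    have h1 : Nat.card ↥(P ⊓ centralizer ({c} : Set G)) ∣ 27 := by
      rw [← hP]; exact Subgroup.card_dvd_of_le inf_le_left
    have h2 : Nat.card ↥(P ⊓ centralizer ({c} : Set G)) ∣ 48 := by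
      rw [← hc]; exact Subgroup.card_dvd_of_le inf_le_right
    have h3 := Nat.dvd_gcd h1 h2
    have h4 : Nat.gcd 27 48 = 3 := by norm_num
    rw [h4] at h3
    exact Nat.le_of_dvd (by norm_num) h3
  let F1 := P ⊓ centralizer ({a} : Set G)
  let F2 := P ⊓ centralizer ({a * b} : Set G)
  have hainv : a⁻¹ = a := inv_eq_of_mul_eq_one_left ha2
  have hm1 : ∀ p : P, (p : G) * (a * p * a⁻¹) ∈ F1 := by
    intro p
    refine Subgroup.mem_inf.2 ⟨P.mul_mem p.2 (haP _ p.2), ?_⟩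
    rw [mem_centralizer_singleton_iff]
    have h1 : (a * (p : G) * a⁻¹) * p = p * (a * p * a⁻¹) := hcomm _ (haP _ p.2) _ p.2
    calc (p : G) * (a * p * a⁻¹) * a = p * a * (p : G) := by rw [hainv]; simp only [mul_assoc, ha2, mul_one]
      _ = a * (a * (p : G) * a⁻¹ * p) * a⁻¹ * a := by
          rw [hainv]
          simp only [← mul_assoc, ha2, one_mul]
          simp only [mul_assoc, ha2, mul_one]
      _ = a * ((p : G) * (a * p * a⁻¹)) := by rw [h1]; group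
  have hm2 : ∀ p : P, (p : G)⁻¹ * (a * p * a⁻¹) ∈ F2 := by
    intro p
    have hq : (p : G)⁻¹ * (a * p * a⁻¹) ∈ P := P.mul_mem (P.inv_mem p.2) (haP _ p.2)
    refine Subgroup.mem_inf.2 ⟨hq, ?_⟩
    rw [mem_centralizer_singleton_iff]
    set q : G := (p : G)⁻¹ * (a * p * a⁻¹) with hqd
    have h1 : a * q * a⁻¹ = q⁻¹ := by
      have h2 : (a * (p : G) * a⁻¹) * (p : G)⁻¹ = (p : G)⁻¹ * (a * p * a⁻¹) :=
        hcomm _ (haP _ p.2) _ (P.inv_mem p.2)
      calc a * q * a⁻¹ = a * (p : G)⁻¹ * a⁻¹ * (a * (a * p * a⁻¹) * a⁻¹) := by rw [hqd]; group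
        _ = a * (p : G)⁻¹ * a⁻¹ * p := by
            congr 1
            rw [hainv]
            simp only [← mul_assoc, ha2, one_mul]
            simp only [mul_assoc, ha2, mul_one]
        _ = (a * p * a⁻¹)⁻¹ * p := by group
        _ = q⁻¹ := by
            rw [hqd]
            group
    have h3 : b * q * b⁻¹ = q⁻¹ := hinv q hq
    have h4 : (a * b) * q * (a * b)⁻¹ = q := by
      calc (a * b) * q * (a * b)⁻¹ = a * (b * q * b⁻¹) * a⁻¹ := by group
        _ = (a * q * a⁻¹)⁻¹ := by rw [h3]; group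
        _ = q := by rw [h1, inv_inv]
    calc q * (a * b) = ((a * b) * q * (a * b)⁻¹) * (a * b) := by rw [h4]
      _ = (a * b) * q := by group
  let φ : P → F1 × F2 := fun p => (⟨_, hm1 p⟩, ⟨_, hm2 p⟩)
  have hφ : Function.Injective φ := by
    intro p p' hpp
    have h1 : (p : G) * (a * p * a⁻¹) = (p' : G) * (a * p' * a⁻¹) :=
      congrArg (fun z : F1 × F2 => ((z.1 : F1) : G)) hpp
    have h2 : (p : G)⁻¹ * (a * p * a⁻¹) = (p' : G)⁻¹ * (a * p' * a⁻¹) :=
      congrArg (fun z : F1 × F2 => ((z.2 : F2) : G)) hpp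
    have h3 : (p : G) * p = (p' : G) * p' := by
      calc (p : G) * p = ((p : G) * (a * p * a⁻¹)) * ((p : G)⁻¹ * (a * p * a⁻¹))⁻¹ := by group
        _ = ((p' : G) * (a * p' * a⁻¹)) * ((p' : G)⁻¹ * (a * p' * a⁻¹))⁻¹ := by rw [h1, h2]
        _ = (p' : G) * p' := by group
    have hpow : ∀ x : P, (x : G) ^ 27 = 1 := by
      intro x
      have := pow_card_eq_one' (G := P) (x := x)
      rw [hP] at this
      exact congrArg Subtype.val this
    have h4 : ∀ x : P, (x : G) = ((x : G) * x) ^ 14 := by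
      intro x
      have h5 : ((x : G) * x) ^ 14 = (x : G) ^ 27 * x := by
        rw [← pow_two, ← pow_mul, ← pow_succ]
      rw [h5, hpow, one_mul]
    apply Subtype.ext
    rw [h4 p, h4 p', h3]
  have h5 := Nat.card_le_card_of_injective φ hφ
  rw [Nat.card_prod, hP] at h5
  have h6 := hdvd a hCa
  have h7 := hdvd (a * b) hCab
  have h8 : Nat.card F1 * Nat.card F2 ≤ 3 * 3 := Nat.mul_le_mul h6 h7
  omega

/-- The fixed points of an involution on a subgroup of order `27`. -/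
theorem fix_data (P : Subgroup G) (hP : Nat.card P = 27) {b c x : G}
    (hCb : Nat.card (centralizer ({b} : Set G)) = 48) (hbc : b * c = c * b)
    (hcP : ∀ p ∈ P, c * p * c⁻¹ ∈ P) (hx : x ∈ P) (hx1 : x ≠ 1) (hxb : x * b = b * x) :
    x ^ 3 = 1 ∧ (c * x * c⁻¹ = x ∨ c * x * c⁻¹ = x⁻¹) := by
  let F := P ⊓ centralizer ({b} : Set G)
  have hxF : x ∈ F := Subgroup.mem_inf.2 ⟨hx, mem_centralizer_singleton_iff.2 hxb⟩
  have hF3 : Nat.card F = 3 := by
    have h1 : Nat.card F ∣ 27 := by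
      rw [← hP]; exact Subgroup.card_dvd_of_le inf_le_left
    have h2 : Nat.card F ∣ 48 := by
      rw [← hCb]; exact Subgroup.card_dvd_of_le inf_le_right
    have h3 := Nat.dvd_gcd h1 h2
    have h4 : Nat.gcd 27 48 = 3 := by norm_num
    rw [h4] at h3
    rcases (Nat.dvd_prime (by norm_num)).1 h3 with h5 | h5
    · exfalso
      have : Subsingleton F := (Nat.card_eq_one_iff_unique.1 h5).1
      have h6 : (⟨x, hxF⟩ : F) = 1 := Subsingleton.elim _ _
      exact hx1 (congrArg Subtype.val h6)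
    · exact h5
  have hz : zpowers x = F :=
    Cfsg.Agent.Lib.SmallGroups2.zpowers_eq_of_mem_of_ne_one (p := 3) (by norm_num) hF3 hxF hx1
  have ho : orderOf x = 3 :=
    Cfsg.Agent.Lib.SmallGroups2.orderOf_eq_of_mem_of_ne_one (p := 3) (by norm_num) hF3 hxF hx1
  have hx3 : x ^ 3 = 1 := by rw [← ho]; exact pow_orderOf_eq_one x
  refine ⟨hx3, ?_⟩
  have hcF : c * x * c⁻¹ ∈ F := by
    refine Subgroup.mem_inf.2 ⟨hcP x hx, ?_⟩
    rw [mem_centralizer_singleton_iff]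
    calc c * x * c⁻¹ * b = c * x * (c⁻¹ * b * c) * c⁻¹ := by group
      _ = c * x * b * c⁻¹ := by
          have : c⁻¹ * b * c = b := by rw [mul_assoc, hbc]; group
          rw [this]
      _ = c * b * x * c⁻¹ := by rw [mul_assoc c x b, hxb]; group
      _ = b * (c * x * c⁻¹) := by rw [← hbc]; group
  rw [← hz] at hcF
  obtain ⟨m, hm⟩ := (mem_powers_iff_mem_zpowers).2 hcF
  have hm' : x ^ m = c * x * c⁻¹ := hm
  rw [pow_eq_pow_mod m hx3] at hm'
  have hm3 : m % 3 < 3 := Nat.mod_lt _ (by norm_num)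
  generalize m % 3 = m₀ at hm' hm3
  interval_cases m₀
  · exfalso
    apply hx1
    have : x = c⁻¹ * (c * x * c⁻¹) * c := by group
    rw [this, ← hm']
    group
  · left
    rw [← hm', pow_one]
  · right
    rw [← hm']
    symm
    apply inv_eq_of_mul_eq_one_left
    rw [← pow_succ, hx3]

end fix

variable {G : Type*} [Group G] [Finite G]

/-- The second involution of the four-group. -/
def Ctx.u (h : Ctx G) : G := inG h.e D

variable (h : Ctx G)
include h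

theorem Ctx.u_sq : h.u ^ 2 = 1 := by rw [Ctx.u, ← inG_pow, D_sq, inG_one]

theorem Ctx.u_ne : h.u ≠ 1 := by rw [Ctx.u, Ne, inG_eq_one_iff]; exact D_ne

theorem Ctx.u_ne_t : h.u ≠ h.t := by
  intro hh
  apply D_ne'
  apply inG_inj h.e
  rw [inG_neg_one h.e h.ht]
  exact hh

theorem Ctx.tu_eq : h.t * h.u = inG h.e (-1 * D) := by
  rw [inG_mul, inG_neg_one h.e h.ht]; rfl

theorem Ctx.tu_comm : h.t * h.u = h.u * h.t := (inG_comm h.e D).symm

theorem Ctx.t_inv' : h.t⁻¹ = h.t := t_inv h.ht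

theorem Ctx.u_inv' : h.u⁻¹ = h.u := by
  rw [inv_eq_iff_mul_eq_one, ← pow_two, h.u_sq]

theorem Ctx.tt : h.t * h.t = 1 := by rw [← pow_two, h.t_sq']

theorem Ctx.uu : h.u * h.u = 1 := by rw [← pow_two, h.u_sq]

/-- The centralizer of any involution has order `48`. -/
theorem Ctx.card_cent48 {x : G} (h2 : x ^ 2 = 1) (h1 : x ≠ 1) :
    Nat.card (centralizer ({x} : Set G)) = 48 := by
  obtain ⟨g, rfl⟩ := h.hI h2 h1
  rw [Cfsg.Agent.Lib.J1Ord.card_cent_conj]
  exact card_C_t h.e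

theorem Ctx.tu_sq : (h.t * h.u) ^ 2 = 1 := by
  rw [h.tu_eq, ← inG_pow, mD_sq, inG_one]

theorem Ctx.tu_ne : h.t * h.u ≠ 1 := by
  rw [h.tu_eq, Ne, inG_eq_one_iff]; exact mD_ne

/-- The rotation of the four-group. -/
theorem Ctx.exists_w : ∃ w : G, w ^ 3 = 1 ∧ w * h.t * w⁻¹ = h.u ∧ w * h.u * w⁻¹ = h.t * h.u := by
  obtain ⟨g, hg⟩ := h.hI h.u_sq h.u_ne
  have hcomm := h.tu_comm
  have ht2 := h.tt
  have hu2 := h.uu
  have hv : (g⁻¹ * h.t * g) * h.t = h.t * (g⁻¹ * h.t * g) := by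
    have h1 : h.t * (g * h.t * g⁻¹) = (g * h.t * g⁻¹) * h.t := by rw [hg]; exact hcomm
    calc (g⁻¹ * h.t * g) * h.t = g⁻¹ * (h.t * (g * h.t * g⁻¹)) * g := by group
      _ = g⁻¹ * ((g * h.t * g⁻¹) * h.t) * g := by rw [h1]
      _ = h.t * (g⁻¹ * h.t * g) := by group
  obtain ⟨v, hvv⟩ := exists_inG h.e (mem_centralizer_singleton_iff.2 hv)
  have hv2 : v ^ 2 = 1 := by
    apply inG_inj h.e
    rw [inG_pow, ← hvv, inG_one, pow_two]
    calc g⁻¹ * h.t * g * (g⁻¹ * h.t * g) = g⁻¹ * (h.t * h.t) * g := by group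
      _ = 1 := by rw [ht2]; group
  have hv1 : v ≠ 1 := by
    rintro rfl
    rw [inG_one] at hvv
    apply h.t_ne
    have : h.t = g * (g⁻¹ * h.t * g) * g⁻¹ := by group
    rw [this, hvv]
    group
  have hvm : v ≠ -1 := by
    rintro rfl
    rw [inG_neg_one h.e h.ht] at hvv
    apply h.u_ne_t
    rw [← hg]
    calc g * h.t * g⁻¹ = g * (g⁻¹ * h.t * g) * g⁻¹ := by rw [hvv]
      _ = h.t := by group
  obtain ⟨c, hc⟩ := invol_conj v hv2 hv1 hvm
  set k : G := inG h.e c * g⁻¹ with hk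
  have hkt : k * h.t * k⁻¹ = h.u := by
    calc k * h.t * k⁻¹ = inG h.e c * (g⁻¹ * h.t * g) * (inG h.e c)⁻¹ := by rw [hk]; group
      _ = inG h.e (c * v * c⁻¹) := by rw [hvv, inG_mul, inG_mul, inG_inv]
      _ = h.u := by rw [hc]; rfl
  have hku : k * h.u * k⁻¹ = h.t := by
    have hcc := inG_comm h.e c
    calc k * h.u * k⁻¹ = inG h.e c * (g⁻¹ * (g * h.t * g⁻¹) * g) * (inG h.e c)⁻¹ := by
          rw [hk, hg]; group
      _ = inG h.e c * h.t * (inG h.e c)⁻¹ := by group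
      _ = h.t := by rw [hcc]; group
  set s0 : G := inG h.e Sw with hs0
  have hst : s0 * h.t * s0⁻¹ = h.t := by
    rw [hs0, inG_comm h.e Sw]; group
  have hsu : s0 * h.u * s0⁻¹ = h.t * h.u := by
    rw [h.tu_eq, hs0, Ctx.u, ← inG_inv, ← inG_mul, ← inG_mul, Sw_D]
  set w0 : G := k * s0 with hw0
  have h1 : w0 * h.t * w0⁻¹ = h.u := by
    calc w0 * h.t * w0⁻¹ = k * (s0 * h.t * s0⁻¹) * k⁻¹ := by rw [hw0]; group
      _ = h.u := by rw [hst, hkt]
  have h2 : w0 * h.u * w0⁻¹ = h.t * h.u := by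
    calc w0 * h.u * w0⁻¹ = k * (s0 * h.u * s0⁻¹) * k⁻¹ := by rw [hw0]; group
      _ = k * (h.t * h.u) * k⁻¹ := by rw [hsu]
      _ = (k * h.t * k⁻¹) * (k * h.u * k⁻¹) := by group
      _ = h.u * h.t := by rw [hkt, hku]
      _ = h.t * h.u := hcomm.symm
  have h3 : w0 * (h.t * h.u) * w0⁻¹ = h.t := by
    calc w0 * (h.t * h.u) * w0⁻¹ = (w0 * h.t * w0⁻¹) * (w0 * h.u * w0⁻¹) := by group
      _ = h.u * (h.t * h.u) := by rw [h1, h2]
      _ = h.t * (h.u * h.u) := by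
          rw [← mul_assoc, ← hcomm, mul_assoc]
      _ = h.t := by rw [hu2, mul_one]
  have hcube : ∀ x : G, w0 ^ 3 * x * (w0 ^ 3)⁻¹ = w0 * (w0 * (w0 * x * w0⁻¹) * w0⁻¹) * w0⁻¹ := by
    intro x
    rw [pow_succ, pow_two]
    group
  have h3t : w0 ^ 3 * h.t * (w0 ^ 3)⁻¹ = h.t := by
    rw [hcube, h1, h2, h3]
  have h3u : w0 ^ 3 * h.u * (w0 ^ 3)⁻¹ = h.u := by
    rw [hcube, h2, h3, h1]
  have hmem : (w0 ^ 3) * h.t = h.t * (w0 ^ 3) := by
    calc w0 ^ 3 * h.t = (w0 ^ 3 * h.t * (w0 ^ 3)⁻¹) * w0 ^ 3 := by group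
      _ = h.t * w0 ^ 3 := by rw [h3t]
  obtain ⟨y, hy⟩ := exists_inG h.e (mem_centralizer_singleton_iff.2 hmem)
  have hyD : y * D = D * y := by
    apply inG_inj h.e
    rw [inG_mul, inG_mul, ← hy]
    calc w0 ^ 3 * h.u = (w0 ^ 3 * h.u * (w0 ^ 3)⁻¹) * w0 ^ 3 := by group
      _ = h.u * w0 ^ 3 := by rw [h3u]
  have hy2 : y ^ 2 = 1 := by
    rcases cent_D y hyD with rfl | rfl | rfl | rfl
    · exact one_pow 2
    · exact Cfsg.Agent.Lib.GL23Dec.neg_one_sq
    · exact D_sq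
    · exact mD_sq
  have hw6 : (w0 ^ 3) ^ 2 = 1 := by
    rw [hy, ← inG_pow, hy2, inG_one]
  have hw12 : (w0 ^ 4) ^ 3 = 1 := by
    have : (w0 ^ 4) ^ 3 = ((w0 ^ 3) ^ 2) ^ 2 := by
      simp only [← pow_mul]
    rw [this, hw6, one_pow]
  have h4 : ∀ x : G, w0 ^ 4 * x * (w0 ^ 4)⁻¹ = w0 * (w0 ^ 3 * x * (w0 ^ 3)⁻¹) * w0⁻¹ := by
    intro x
    rw [pow_succ' w0 3]
    group
  refine ⟨w0 ^ 4, hw12, ?_, ?_⟩
  · rw [h4, h3t, h1]
  · rw [h4, h3u, h2]

/-- Facts on the Sylow subgroup of the centralizer. -/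
theorem Ctx.K_facts {y a b : G} (hy : IsA y) (ha : a * y = y * a) (hb : b * y = y * b)
    (ha3 : a ^ 3 = 1) (hb3 : b ^ 3 = 1) :
    (a * b) ^ 27 = 1 ∧ a * b * a⁻¹ * b⁻¹ ∈ zpowers y := by
  obtain ⟨K, hK, hmem⟩ := h.exists_K hy
  have ha' : a ∈ K := (hmem a).2 ⟨ha, by
    rw [show (27 : ℕ) = 3 * 9 by norm_num, pow_mul, ha3, one_pow]⟩
  have hb' : b ∈ K := (hmem b).2 ⟨hb, by
    rw [show (27 : ℕ) = 3 * 9 by norm_num, pow_mul, hb3, one_pow]⟩
  have hab : a * b ∈ K := K.mul_mem ha' hb'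
  have hy' : y ∈ K := (hmem y).2 ⟨rfl, by
    rw [show (27 : ℕ) = 3 * 9 by norm_num, pow_mul, hy.1, one_pow]⟩
  have hyo : orderOf y = 3 := by
    haveI : Fact (Nat.Prime 3) := ⟨by norm_num⟩
    exact orderOf_eq_prime hy.1 hy.2.1
  refine ⟨((hmem _).1 hab).2, ?_⟩
  exact comm_mem K hK hy' hyo (fun p hp => ((hmem p).1 hp).1) ha' hb'

end Cfsg.Agent.Lib.L33Loc
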