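import Mathlib
import Cfsg.Agent.Lib.L33Loc4

/-!
# The root elements and their rotations
-/

set_option autoImplicit false
set_option linter.unusedVariables false
set_option linter.unusedSectionVars false
set_option linter.style.haveILetI false
set_option maxRecDepth 100000

namespace Cfsg.Agent.Lib.L33Loc

open Subgroup Cfsg.Agent.Lib.GL23Dec Cfsg.Agent.Lib.GL23Group
open scoped commutatorElement

variable {G : Type*} [Group G] [Finite G]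

/-- The rotation. -/
structure Rot (h : Ctx G) where
  w : G
  hw3 : w ^ 3 = 1
  hwt : w * h.t * w⁻¹ = h.u
  hwu : w * h.u * w⁻¹ = h.t * h.u

variable {h : Ctx G} (r : Rot h)

/-- The automorphism given by the rotation. -/
def Rot.ρ (r : Rot h) : G ≃* G := MulAut.conj r.w

theorem Rot.ρ_apply (x : G) : r.ρ x = r.w * x * r.w⁻¹ := rfl

theorem Rot.ρ3 (x : G) : r.ρ (r.ρ (r.ρ x)) = x := by
  simp only [Rot.ρ_apply]
  have h1 : r.w * (r.w * (r.w * x * r.w⁻¹) * r.w⁻¹) * r.w⁻¹ = r.w ^ 3 * x * (r.w ^ 3)⁻¹ := by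
    simp only [pow_succ, pow_zero, one_mul, mul_inv_rev]
    group
  rw [h1, r.hw3]
  group

theorem Rot.ρ_t : r.ρ h.t = h.u := r.hwt

theorem Rot.ρ_u : r.ρ h.u = h.t * h.u := r.hwu

theorem Rot.ρ_v : r.ρ (h.t * h.u) = h.t := by
  rw [map_mul, r.ρ_t, r.ρ_u, ← mul_assoc, ← h.tu_comm, mul_assoc, h.uu, mul_one]

/-- The other root elements. -/
def Rot.x23 (r : Rot h) : G := r.ρ h.x12
def Rot.x31 (r : Rot h) : G := r.ρ (r.ρ h.x12)
def Rot.x32 (r : Rot h) : G := r.ρ h.x21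
def Rot.x13 (r : Rot h) : G := r.ρ (r.ρ h.x21)

theorem Rot.ρ_x12 : r.ρ h.x12 = r.x23 := rfl
theorem Rot.ρ_x23 : r.ρ r.x23 = r.x31 := rfl
theorem Rot.ρ_x31 : r.ρ r.x31 = h.x12 := r.ρ3 _
theorem Rot.ρ_x21 : r.ρ h.x21 = r.x32 := rfl
theorem Rot.ρ_x32 : r.ρ r.x32 = r.x13 := rfl
theorem Rot.ρ_x13 : r.ρ r.x13 = h.x21 := r.ρ3 _

theorem Rot.rot_comm {a b : G} (hab : a * b = b * a) : r.ρ a * r.ρ b = r.ρ b * r.ρ a := by
  rw [← map_mul, ← map_mul, hab]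

theorem Rot.rot_conj {a b c : G} (hab : a * b * a⁻¹ = c) : r.ρ a * r.ρ b * (r.ρ a)⁻¹ = r.ρ c := by
  rw [← hab]
  simp only [map_mul, map_inv]

/-- The basic actions. -/
theorem Ctx.t_x12 (h : Ctx G) : h.t * h.x12 * h.t⁻¹ = h.x12 := by
  have := inG_comm h.e U
  rw [Ctx.x12, ← this]
  group

theorem Ctx.t_x21 (h : Ctx G) : h.t * h.x21 * h.t⁻¹ = h.x21 := by
  have := inG_comm h.e L
  rw [Ctx.x21, ← this]
  group

theorem Ctx.u_x12 (h : Ctx G) : h.u * h.x12 * h.u⁻¹ = h.x12⁻¹ := by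
  rw [Ctx.u, Ctx.x12, ← inG_inv, ← inG_inv, ← inG_mul, ← inG_mul, D_U]

theorem Ctx.u_x21 (h : Ctx G) : h.u * h.x21 * h.u⁻¹ = h.x21⁻¹ := by
  rw [Ctx.u, Ctx.x21, ← inG_inv, ← inG_inv, ← inG_mul, ← inG_mul, D_L]

theorem Ctx.v_of_t_u (h : Ctx G) {a b : G} (h1 : h.t * a * h.t⁻¹ = a) (h2 : h.u * a * h.u⁻¹ = b)
    (h3 : h.t * b * h.t⁻¹ = b) : (h.t * h.u) * a * (h.t * h.u)⁻¹ = b := by
  calc (h.t * h.u) * a * (h.t * h.u)⁻¹ = h.t * (h.u * a * h.u⁻¹) * h.t⁻¹ := by group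
    _ = b := by rw [h2, h3]

theorem Ctx.v_x12 (h : Ctx G) : (h.t * h.u) * h.x12 * (h.t * h.u)⁻¹ = h.x12⁻¹ :=
  h.v_of_t_u h.t_x12 h.u_x12 (by
    have h5 : h.t * h.x12⁻¹ * h.t⁻¹ = (h.t * h.x12 * h.t⁻¹)⁻¹ := by group
    rw [h5, h.t_x12])

theorem Ctx.v_x21 (h : Ctx G) : (h.t * h.u) * h.x21 * (h.t * h.u)⁻¹ = h.x21⁻¹ :=
  h.v_of_t_u h.t_x21 h.u_x21 (by
    have h5 : h.t * h.x21⁻¹ * h.t⁻¹ = (h.t * h.x21 * h.t⁻¹)⁻¹ := by group
    rw [h5, h.t_x21])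

/-- Rotated actions. -/
theorem Rot.u_x23 : h.u * r.x23 * h.u⁻¹ = r.x23 := by
  have := r.rot_conj h.t_x12
  rwa [r.ρ_t] at this

theorem Rot.v_x23 : (h.t * h.u) * r.x23 * (h.t * h.u)⁻¹ = r.x23⁻¹ := by
  have := r.rot_conj h.u_x12
  rwa [r.ρ_u, map_inv] at this

theorem Rot.t_x23 : h.t * r.x23 * h.t⁻¹ = r.x23⁻¹ := by
  have := r.rot_conj h.v_x12
  rwa [r.ρ_v, map_inv] at this

theorem Rot.u_x32 : h.u * r.x32 * h.u⁻¹ = r.x32 := by
  have := r.rot_conj h.t_x21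
  rwa [r.ρ_t] at this

theorem Rot.t_x32 : h.t * r.x32 * h.t⁻¹ = r.x32⁻¹ := by
  have := r.rot_conj h.v_x21
  rwa [r.ρ_v, map_inv] at this

theorem Rot.t_x31 : h.t * r.x31 * h.t⁻¹ = r.x31⁻¹ := by
  have := r.rot_conj r.v_x23
  rwa [r.ρ_v, map_inv] at this

theorem Rot.u_x31 : h.u * r.x31 * h.u⁻¹ = r.x31⁻¹ := by
  have := r.rot_conj r.t_x23
  rwa [r.ρ_t, map_inv] at this

theorem Rot.v_x31 : (h.t * h.u) * r.x31 * (h.t * h.u)⁻¹ = r.x31 := by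
  have := r.rot_conj r.u_x23
  rwa [r.ρ_u] at this

theorem Rot.v_x13 : (h.t * h.u) * r.x13 * (h.t * h.u)⁻¹ = r.x13 := by
  have := r.rot_conj r.u_x32
  rwa [r.ρ_u] at this

theorem Rot.t_x13 : h.t * r.x13 * h.t⁻¹ = r.x13⁻¹ := by
  have := r.rot_conj (a := h.t * h.u) (b := r.x32) (c := r.x32⁻¹) (by
    have h1 : r.x32 = r.ρ h.x21 := rfl
    have := r.rot_conj h.u_x21
    rw [r.ρ_u, map_inv] at this
    exact this)
  rwa [r.ρ_v, map_inv] at this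

theorem Rot.x23_cube : r.x23 ^ 3 = 1 := by
  rw [Rot.x23, ← map_pow, h.x12_cube, map_one]

theorem Rot.x31_cube : r.x31 ^ 3 = 1 := by
  rw [Rot.x31, ← map_pow, ← map_pow, h.x12_cube, map_one, map_one]

theorem Rot.x32_cube : r.x32 ^ 3 = 1 := by
  rw [Rot.x32, ← map_pow, h.x21_cube, map_one]

theorem Rot.x13_cube : r.x13 ^ 3 = 1 := by
  rw [Rot.x13, ← map_pow, ← map_pow, h.x21_cube, map_one, map_one]

theorem Rot.isA_x23 : IsA r.x23 := h.isA_x12.conj r.w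
theorem Rot.isA_x31 : IsA r.x31 := (h.isA_x12.conj r.w).conj r.w
theorem Rot.isA_x32 : IsA r.x32 := h.isA_x21.conj r.w
theorem Rot.isA_x13 : IsA r.x13 := (h.isA_x21.conj r.w).conj r.w

theorem Rot.w_ne : r.w ≠ 1 := by
  intro hh
  have := r.hwt
  rw [hh] at this
  apply h.u_ne_t
  rw [← this]
  group

theorem Rot.orderOf_w : orderOf r.w = 3 := by
  haveI : Fact (Nat.Prime 3) := ⟨by norm_num⟩
  exact orderOf_eq_prime r.hw3 r.w_ne

/-- The fixed point argument gives commuting elements. -/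
theorem Ctx.pull_u (h : Ctx G) {a : G} (h3 : a ^ 3 = 1) (h1 : a ≠ 1) (hat : a * h.t = h.t * a)
    (hu : h.u * a * h.u⁻¹ = a ∨ h.u * a * h.u⁻¹ = a⁻¹) :
    a = h.x12 ∨ a = h.x12⁻¹ ∨ a = h.x21 ∨ a = h.x21⁻¹ := by
  obtain ⟨x, rfl⟩ := exists_inG h.e (mem_centralizer_singleton_iff.2 hat)
  have hx3 : x ^ 3 = 1 := by
    apply inG_inj h.e
    rw [inG_pow, h3, inG_one]
  have hx1 : x ≠ 1 := by
    rintro rfl
    exact h1 (inG_one h.e)
  have hd : D * x * D⁻¹ = x ∨ D * x * D⁻¹ = x⁻¹ := by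
    rcases hu with hu | hu
    · left
      apply inG_inj h.e
      rw [inG_mul, inG_mul, inG_inv]
      exact hu
    · right
      apply inG_inj h.e
      rw [inG_mul, inG_mul, inG_inv, inG_inv]
      exact hu
  rcases pull x hx3 hx1 hd with rfl | rfl | rfl | rfl
  · left; rfl
  · right; left; rw [inG_inv]; rfl
  · right; right; left; rfl
  · right; right; right; rw [inG_inv]; rfl

section P

variable (P : Subgroup G) (hP : Nat.card P = 27)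
  (hmem : ∀ a, a ∈ P ↔ (a * h.x12 = h.x12 * a ∧ a ^ 27 = 1))

include hmem

theorem norm_of_conj {g : G} (hg : g * h.x12 * g⁻¹ = h.x12 ∨ g * h.x12 * g⁻¹ = h.x12⁻¹) :
    ∀ p ∈ P, g * p * g⁻¹ ∈ P := by
  intro p hp
  obtain ⟨h1, h2⟩ := (hmem p).1 hp
  refine (hmem _).2 ⟨?_, by rw [conj_pow, h2]; group⟩
  have h3 : (g * p * g⁻¹) * (g * h.x12 * g⁻¹) = (g * h.x12 * g⁻¹) * (g * p * g⁻¹) := by
    calc (g * p * g⁻¹) * (g * h.x12 * g⁻¹) = g * (p * h.x12) * g⁻¹ := by group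
      _ = g * (h.x12 * p) * g⁻¹ := by rw [h1]
      _ = (g * h.x12 * g⁻¹) * (g * p * g⁻¹) := by group
  rcases hg with hg | hg
  · rwa [hg] at h3
  · rw [hg] at h3
    set q := g * p * g⁻¹
    calc q * h.x12 = h.x12 * (h.x12⁻¹ * q) * h.x12 := by group
      _ = h.x12 * (q * h.x12⁻¹) * h.x12 := by rw [h3]
      _ = h.x12 * q := by group

include hP r

/-- Commuting with `x12` on the first hexagon side. -/
theorem comm_A : r.x23 * h.x12 = h.x12 * r.x23 ∨ r.x32 * h.x12 = h.x12 * r.x32 := by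
  have hnt := norm_of_conj P hmem (g := h.t) (Or.inl h.t_x12)
  have hnu := norm_of_conj P hmem (g := h.u) (Or.inr h.u_x12)
  obtain ⟨x, hx, hx1, hxu⟩ := exists_fix P hP (a := h.t) (b := h.u) h.tt h.uu h.tu_comm hnt hnu
    (card_C_t h.e) (h.card_cent48 h.tu_sq h.tu_ne)
  obtain ⟨hx3, hxt⟩ := fix_data P hP (b := h.u) (c := h.t) (h.card_cent48 h.u_sq h.u_ne) h.tu_comm.symm
    hnt hx hx1 hxu
  -- pull back
  set x₀ : G := r.w⁻¹ * x * r.w with hx₀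
  have hx₀x : r.ρ x₀ = x := by
    rw [r.ρ_apply, hx₀]; group
  have hwt' : r.w⁻¹ * h.u * r.w = h.t := by
    rw [← r.hwt]; group
  have hwv' : r.w⁻¹ * h.t * r.w = h.t * h.u := by
    have h1 : r.w * (h.t * h.u) * r.w⁻¹ = h.t := r.ρ_v
    calc r.w⁻¹ * h.t * r.w = r.w⁻¹ * (r.w * (h.t * h.u) * r.w⁻¹) * r.w := by rw [h1]
      _ = h.t * h.u := by group
  have h3' : x₀ ^ 3 = 1 := by
    rw [← map_eq_one_iff r.ρ r.ρ.injective, map_pow, hx₀x, hx3]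
  have h1' : x₀ ≠ 1 := by
    intro hh
    rw [hh, map_one] at hx₀x
    exact hx1 hx₀x.symm
  have hat : x₀ * h.t = h.t * x₀ := by
    rw [← hwt', hx₀]
    calc r.w⁻¹ * x * r.w * (r.w⁻¹ * h.u * r.w) = r.w⁻¹ * (x * h.u) * r.w := by group
      _ = r.w⁻¹ * (h.u * x) * r.w := by rw [hxu]
      _ = r.w⁻¹ * h.u * r.w * (r.w⁻¹ * x * r.w) := by group
  have hv : (h.t * h.u) * x₀ * (h.t * h.u)⁻¹ = x₀ ∨ (h.t * h.u) * x₀ * (h.t * h.u)⁻¹ = x₀⁻¹ := by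
    rw [← hwv', hx₀]
    have h4 : (r.w⁻¹ * h.t * r.w) * (r.w⁻¹ * x * r.w) * (r.w⁻¹ * h.t * r.w)⁻¹ =
        r.w⁻¹ * (h.t * x * h.t⁻¹) * r.w := by group
    rw [h4]
    rcases hxt with hh | hh
    · left; rw [hh]
    · right; rw [hh]; group
  have hu : h.u * x₀ * h.u⁻¹ = x₀ ∨ h.u * x₀ * h.u⁻¹ = x₀⁻¹ := by
    have h5 : (h.t * h.u) * x₀ * (h.t * h.u)⁻¹ = h.t * (h.u * x₀ * h.u⁻¹) * h.t⁻¹ := by group
    rw [h5] at hv
    have hcom : h.t * (h.u * x₀ * h.u⁻¹) * h.t⁻¹ = h.u * x₀ * h.u⁻¹ := by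
      have h6 : h.t * h.u = h.u * h.t := h.tu_comm
      have h7 : h.t * x₀ = x₀ * h.t := hat.symm
      calc h.t * (h.u * x₀ * h.u⁻¹) * h.t⁻¹ = (h.t * h.u) * x₀ * (h.u⁻¹ * h.t⁻¹) := by group
        _ = (h.u * h.t) * x₀ * (h.t⁻¹ * h.u⁻¹) := by
            rw [h6, ← mul_inv_rev, ← mul_inv_rev, h6]
        _ = h.u * (h.t * x₀) * h.t⁻¹ * h.u⁻¹ := by group
        _ = h.u * (x₀ * h.t) * h.t⁻¹ * h.u⁻¹ := by rw [h7]
        _ = h.u * x₀ * h.u⁻¹ := by group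
    rwa [hcom] at hv
  have hxc : x * h.x12 = h.x12 * x := ((hmem x).1 hx).1
  have hinvc : ∀ {y : G}, y⁻¹ * h.x12 = h.x12 * y⁻¹ → y * h.x12 = h.x12 * y := by
    intro y hy
    calc y * h.x12 = y * (h.x12 * y⁻¹) * y := by group
      _ = y * (y⁻¹ * h.x12) * y := by rw [hy]
      _ = h.x12 * y := by group
  rcases h.pull_u h3' h1' hat hu with hh | hh | hh | hh
  · left
    rw [← hx₀x, hh] at hxc
    exact hxc
  · left
    rw [← hx₀x, hh, map_inv] at hxc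
    exact hinvc hxc
  · right
    rw [← hx₀x, hh] at hxc
    exact hxc
  · right
    rw [← hx₀x, hh, map_inv] at hxc
    exact hinvc hxc

/-- Commuting with `x12` on the other hexagon side. -/
theorem comm_B : r.x31 * h.x12 = h.x12 * r.x31 ∨ r.x13 * h.x12 = h.x12 * r.x13 := by
  have hnt := norm_of_conj P hmem (g := h.t) (Or.inl h.t_x12)
  have hnv := norm_of_conj P hmem (g := h.t * h.u) (Or.inr h.v_x12)
  have htv : h.t * (h.t * h.u) = (h.t * h.u) * h.t := by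
    rw [mul_assoc h.t h.u h.t, ← h.tu_comm]
  have hvv : (h.t * h.u) * (h.t * h.u) = 1 := by rw [← pow_two, h.tu_sq]
  have hC : Nat.card (centralizer ({h.t * (h.t * h.u)} : Set G)) = 48 := by
    have : h.t * (h.t * h.u) = h.u := by rw [← mul_assoc, h.tt, one_mul]
    rw [this]
    exact h.card_cent48 h.u_sq h.u_ne
  obtain ⟨x, hx, hx1, hxu⟩ := exists_fix P hP (a := h.t) (b := h.t * h.u) h.tt hvv htv hnt hnv
    (card_C_t h.e) hC
  obtain ⟨hx3, hxt⟩ := fix_data P hP (b := h.t * h.u) (c := h.t) (h.card_cent48 h.tu_sq h.tu_ne) htv.symm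
    hnt hx hx1 hxu
  -- pull forward
  set x₀ : G := r.ρ x with hx₀
  have hx₀x : r.ρ (r.ρ x₀) = x := r.ρ3 x
  have h3' : x₀ ^ 3 = 1 := by
    rw [hx₀, ← map_pow, hx3, map_one]
  have h1' : x₀ ≠ 1 := by
    intro hh
    rw [hx₀] at hh
    exact hx1 (map_eq_one_iff r.ρ r.ρ.injective |>.1 hh)
  have hat : x₀ * h.t = h.t * x₀ := by
    have := r.rot_comm hxu
    rwa [r.ρ_v] at this
  have hu : h.u * x₀ * h.u⁻¹ = x₀ ∨ h.u * x₀ * h.u⁻¹ = x₀⁻¹ := by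
    rcases hxt with hh | hh
    · left
      have := r.rot_conj hh
      rwa [r.ρ_t] at this
    · right
      have := r.rot_conj hh
      rwa [r.ρ_t, map_inv] at this
  have hxc : x * h.x12 = h.x12 * x := ((hmem x).1 hx).1
  have hinvc : ∀ {y : G}, y⁻¹ * h.x12 = h.x12 * y⁻¹ → y * h.x12 = h.x12 * y := by
    intro y hy
    calc y * h.x12 = y * (h.x12 * y⁻¹) * y := by group
      _ = y * (y⁻¹ * h.x12) * y := by rw [hy]
      _ = h.x12 * y := by group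
  rcases h.pull_u h3' h1' hat hu with hh | hh | hh | hh
  · left
    rw [← hx₀x, hh] at hxc
    exact hxc
  · left
    rw [← hx₀x, hh, map_inv, map_inv] at hxc
    exact hinvc hxc
  · right
    rw [← hx₀x, hh] at hxc
    exact hxc
  · right
    rw [← hx₀x, hh, map_inv, map_inv] at hxc
    exact hinvc hxc

end P

end Cfsg.Agent.Lib.L33Loc
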