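import Mathlib
import Cfsg.Agent.Lib.L33Loc5

/-!
# The Steinberg relations in a group of order `5616`
-/

set_option autoImplicit false
set_option linter.unusedVariables false
set_option linter.unusedSectionVars false
set_option linter.style.haveILetI false
set_option maxRecDepth 100000

namespace Cfsg.Agent.Lib.L33Loc

open Subgroup Cfsg.Agent.Lib.GL23Dec Cfsg.Agent.Lib.GL23Group
open Cfsg.Agent.Lib.L33Pres (StRel)

section alg

variable {G : Type*} [Group G]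

theorem prod_abc {A B C : G} (hAB : A * B = B * A) (hAC : A * C = C * A) (hBC : B * C = C * B) :
    (A * B * C) * (A * B⁻¹ * C⁻¹) = A * A := by
  have h1 : C * A = A * C := hAC.symm
  have h2 : B * A = A * B := hAB.symm
  have h3 : C * B⁻¹ = B⁻¹ * C := by
    calc C * B⁻¹ = B⁻¹ * (B * C) * B⁻¹ := by group
      _ = B⁻¹ * (C * B) * B⁻¹ := by rw [hBC]
      _ = B⁻¹ * C := by group
  calc (A * B * C) * (A * B⁻¹ * C⁻¹) = A * B * (C * A) * B⁻¹ * C⁻¹ := by group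
    _ = A * (B * A) * C * B⁻¹ * C⁻¹ := by rw [h1]; group
    _ = A * A * B * (C * B⁻¹) * C⁻¹ := by rw [h2]; group
    _ = A * A := by rw [h3]; group

theorem prod_bac {A B C : G} (hAB : A * B = B * A) (hAC : A * C = C * A) (hBC : B * C = C * B) :
    (A * B * C) * (A⁻¹ * B * C⁻¹) = B * B := by
  have h1 : C * A⁻¹ = A⁻¹ * C := by
    calc C * A⁻¹ = A⁻¹ * (A * C) * A⁻¹ := by group
      _ = A⁻¹ * (C * A) * A⁻¹ := by rw [hAC]
      _ = A⁻¹ * C := by group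
  have h2 : B * A⁻¹ = A⁻¹ * B := by
    calc B * A⁻¹ = A⁻¹ * (A * B) * A⁻¹ := by group
      _ = A⁻¹ * (B * A) * A⁻¹ := by rw [hAB]
      _ = A⁻¹ * B := by group
  have h3 : C * B = B * C := hBC.symm
  calc (A * B * C) * (A⁻¹ * B * C⁻¹) = A * B * (C * A⁻¹) * B * C⁻¹ := by group
    _ = A * (B * A⁻¹) * C * B * C⁻¹ := by rw [h1]; group
    _ = B * (C * B) * C⁻¹ := by rw [h2]; group
    _ = B * B := by rw [h3]; group

/-- Sign. -/
def sg (b : Bool) (x : G) : G := if b then x else x⁻¹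

@[simp] theorem sg_true (x : G) : sg true x = x := rfl
@[simp] theorem sg_false (x : G) : sg false x = x⁻¹ := rfl

theorem sg_pow {x : G} (hx : x ^ 3 = 1) (b : Bool) : sg b x ^ 3 = 1 := by
  cases b
  · simp [hx]
  · exact hx

theorem sg_commute {x y : G} (hxy : x * y = y * x) (a b : Bool) : sg a x * sg b y = sg b y * sg a x := by
  have hc : Commute x y := hxy
  cases a <;> cases b
  · exact (hc.inv_inv).eq
  · exact (hc.inv_left).eq
  · exact (hc.inv_right).eq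
  · exact hxy

theorem comm_one {a b : G} (h : a * b = b * a) : a * b * a⁻¹ * b⁻¹ = 1 := by
  rw [h]; group

theorem sg_comm_val {x y c : G} (hcx : c * x = x * c) (hcy : c * y = y * c)
    (hc : x * y * x⁻¹ * y⁻¹ = c) (b : Bool) :
    sg b x * sg b y * (sg b x)⁻¹ * (sg b y)⁻¹ = c := by
  cases b
  · simp only [sg_false, inv_inv]
    have h1 : x * y = c * (y * x) := by rw [← hc]; group
    calc x⁻¹ * y⁻¹ * x * y = x⁻¹ * y⁻¹ * (x * y) := by group
      _ = x⁻¹ * y⁻¹ * (c * (y * x)) := by rw [h1]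
      _ = x⁻¹ * (y⁻¹ * c * y) * x := by group
      _ = x⁻¹ * c * x := by
          have : y⁻¹ * c * y = c := by rw [mul_assoc, hcy]; group
          rw [this]
      _ = c := by rw [mul_assoc, hcx]; group
  · exact hc

theorem sg_comm_sym {x c : G} (h : c * x = x * c) (b : Bool) : sg b c * x = x * sg b c := by
  have := sg_commute h b true
  simpa using this

theorem stRel_of_signs (ε δ : Bool) {x12 x13 x23 x21 x31 x32 : G}
    (p12 : x12 ^ 3 = 1) (p13 : x13 ^ 3 = 1) (p23 : x23 ^ 3 = 1) (p21 : x21 ^ 3 = 1)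
    (p31 : x31 ^ 3 = 1) (p32 : x32 ^ 3 = 1)
    (c1 : x12 * x13 = x13 * x12) (c2 : x12 * x32 = x32 * x12) (c3 : x23 * x13 = x13 * x23)
    (c4 : x23 * x21 = x21 * x23) (c5 : x31 * x21 = x21 * x31) (c6 : x31 * x32 = x32 * x31)
    (s1 : x12 * x23 * x12⁻¹ * x23⁻¹ = sg ε x13) (s2 : x23 * x31 * x23⁻¹ * x31⁻¹ = sg ε x21)
    (s3 : x31 * x12 * x31⁻¹ * x12⁻¹ = sg ε x32) (s4 : x13 * x32 * x13⁻¹ * x32⁻¹ = sg δ x12)
    (s5 : x21 * x13 * x21⁻¹ * x13⁻¹ = sg δ x23) (s6 : x32 * x21 * x32⁻¹ * x21⁻¹ = sg δ x31) :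
    StRel (sg δ x12) (sg ε x13) (sg δ x23) (sg ε x21) (sg δ x31) (sg ε x32) where
  p12 := sg_pow p12 _
  p13 := sg_pow p13 _
  p23 := sg_pow p23 _
  p21 := sg_pow p21 _
  p31 := sg_pow p31 _
  p32 := sg_pow p32 _
  c1 := comm_one (sg_commute c1 _ _)
  c2 := comm_one (sg_commute c2 _ _)
  c3 := comm_one (sg_commute c3 _ _)
  c4 := comm_one (sg_commute c4 _ _)
  c5 := comm_one (sg_commute c5 _ _)
  c6 := comm_one (sg_commute c6 _ _)
  s1 := sg_comm_val (sg_comm_sym c1.symm _) (sg_comm_sym c3.symm _) s1 _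
  s2 := sg_comm_val (sg_comm_sym c4.symm _) (sg_comm_sym c5.symm _) s2 _
  s3 := sg_comm_val (sg_comm_sym c6.symm _) (sg_comm_sym c2.symm _) s3 _
  s4 := sg_comm_val (sg_comm_sym c1 _) (sg_comm_sym c2 _) s4 _
  s5 := sg_comm_val (sg_comm_sym c4 _) (sg_comm_sym c3 _) s5 _
  s6 := sg_comm_val (sg_comm_sym c6 _) (sg_comm_sym c5 _) s6 _

theorem val_of_mem [Finite G] {c y : G} (hc : c ∈ zpowers y) (hy : y ^ 3 = 1) (hc1 : c ≠ 1) :
    ∃ b : Bool, c = sg b y := by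
  obtain ⟨m, hm⟩ := (mem_powers_iff_mem_zpowers).2 hc
  have hm' : y ^ m = c := hm
  rw [pow_eq_pow_mod m hy] at hm'
  have hm3 : m % 3 < 3 := Nat.mod_lt _ (by norm_num)
  generalize m % 3 = m₀ at hm' hm3
  interval_cases m₀
  · exact absurd (by rw [← hm', pow_zero]) hc1
  · exact ⟨true, by rw [← hm', pow_one]; rfl⟩
  · refine ⟨false, ?_⟩
    rw [← hm', sg_false]
    symm
    apply inv_eq_of_mul_eq_one_left
    rw [← pow_succ, hy]

theorem map_sg {H : Type*} [Group H] (f : G →* H) (b : Bool) (x : G) : f (sg b x) = sg b (f x) := by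
  cases b <;> simp

end alg

variable {G : Type*} [Group G] [Finite G]

variable {h : Ctx G} (r : Rot h)

section P

variable (P : Subgroup G) (hP : Nat.card P = 27)
  (hmem : ∀ a, a ∈ P ↔ (a * h.x12 = h.x12 * a ∧ a ^ 27 = 1))

include hP hmem r

theorem not_comm_x23 : r.x23 * h.x12 ≠ h.x12 * r.x23 := by
  classical
  intro hc
  have pow27 : ∀ {x : G}, x ^ 3 = 1 → x ^ 27 = 1 := by
    intro x hx
    rw [show (27 : ℕ) = 3 * 9 by norm_num, pow_mul, hx, one_pow]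
  have hc1 : r.x31 * r.x23 = r.x23 * r.x31 := r.rot_comm hc
  have hc2 : h.x12 * r.x31 = r.x31 * h.x12 := by
    have := r.rot_comm hc1
    rwa [r.ρ_x31, r.ρ_x23] at this
  have hb : r.x23 ∈ P := (hmem _).2 ⟨hc, pow27 r.x23_cube⟩
  have hc' : r.x31 ∈ P := (hmem _).2 ⟨hc2.symm, pow27 r.x31_cube⟩
  have ha : h.x12 ∈ P := (hmem _).2 ⟨rfl, pow27 h.x12_cube⟩
  haveI : Fact (Nat.Prime 3) := ⟨by norm_num⟩
  have oa : orderOf h.x12 = 3 := orderOf_eq_prime h.x12_cube h.x12_ne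
  have ob : orderOf r.x23 = 3 := orderOf_eq_prime r.x23_cube r.isA_x23.2.1
  have oc : orderOf r.x31 = 3 := orderOf_eq_prime r.x31_cube r.isA_x31.2.1
  let M : ℕ → ℕ → ℕ → G := fun i j k => h.x12 ^ i * r.x23 ^ j * r.x31 ^ k
  have hMP : ∀ i j k, M i j k ∈ P := fun i j k =>
    P.mul_mem (P.mul_mem (P.pow_mem ha i) (P.pow_mem hb j)) (P.pow_mem hc' k)
  have hAB : ∀ i j, h.x12 ^ i * r.x23 ^ j = r.x23 ^ j * h.x12 ^ i := fun i j =>
    ((Commute.pow_pow (show Commute h.x12 r.x23 from hc.symm) i j)).eq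
  have hAC : ∀ i j, h.x12 ^ i * r.x31 ^ j = r.x31 ^ j * h.x12 ^ i := fun i j =>
    ((Commute.pow_pow (show Commute h.x12 r.x31 from hc2) i j)).eq
  have hBC : ∀ i j, r.x23 ^ i * r.x31 ^ j = r.x31 ^ j * r.x23 ^ i := fun i j =>
    ((Commute.pow_pow (show Commute r.x23 r.x31 from hc1.symm) i j)).eq
  have ht : ∀ i j k, h.t * M i j k * h.t⁻¹ = h.x12 ^ i * (r.x23 ^ j)⁻¹ * (r.x31 ^ k)⁻¹ := by
    intro i j k
    have h1 : h.t * M i j k * h.t⁻¹ = (h.t * h.x12 * h.t⁻¹) ^ i * (h.t * r.x23 * h.t⁻¹) ^ j *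
        (h.t * r.x31 * h.t⁻¹) ^ k := by
      simp only [conj_pow, M]
      group
    rw [h1, h.t_x12, r.t_x23, r.t_x31, inv_pow, inv_pow]
  have hu : ∀ i j k, h.u * M i j k * h.u⁻¹ = (h.x12 ^ i)⁻¹ * r.x23 ^ j * (r.x31 ^ k)⁻¹ := by
    intro i j k
    have h1 : h.u * M i j k * h.u⁻¹ = (h.u * h.x12 * h.u⁻¹) ^ i * (h.u * r.x23 * h.u⁻¹) ^ j *
        (h.u * r.x31 * h.u⁻¹) ^ k := by
      simp only [conj_pow, M]
      group
    rw [h1, h.u_x12, r.u_x23, r.u_x31, inv_pow, inv_pow]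
  have key1 : ∀ i j k, M i j k * (h.t * M i j k * h.t⁻¹) = h.x12 ^ i * h.x12 ^ i := by
    intro i j k
    rw [ht]
    exact prod_abc (hAB i j) (hAC i k) (hBC j k)
  have key2 : ∀ i j k, M i j k * (h.u * M i j k * h.u⁻¹) = r.x23 ^ j * r.x23 ^ j := by
    intro i j k
    rw [hu]
    exact prod_bac (hAB i j) (hAC i k) (hBC j k)
  have hsq : ∀ {y : G}, y ^ 3 = 1 → y = (y * y) * (y * y) := by
    intro y hy
    have : (y * y) * (y * y) = y ^ 3 * y := by
      simp only [pow_succ, pow_zero, one_mul]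
      group
    rw [this, hy, one_mul]
  have hpow3 : ∀ {y : G} (n : ℕ), y ^ 3 = 1 → (y ^ n) ^ 3 = 1 := by
    intro y n hy
    rw [← pow_mul, mul_comm, pow_mul, hy, one_pow]
  have hinj : ∀ {y : G}, orderOf y = 3 → ∀ {a b : Fin 3}, y ^ (a : ℕ) = y ^ (b : ℕ) → a = b := by
    intro y hy a b hab
    have h1 : (a : ℕ) ∈ Set.Iio (orderOf y) := by rw [hy]; exact a.2
    have h2 : (b : ℕ) ∈ Set.Iio (orderOf y) := by rw [hy]; exact b.2
    exact Fin.ext (pow_injOn_Iio_orderOf h1 h2 hab)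
  let F : Fin 3 × Fin 3 × Fin 3 → P := fun q => ⟨M q.1 q.2.1 q.2.2, hMP _ _ _⟩
  have hF : Function.Injective F := by
    rintro ⟨i, j, k⟩ ⟨i', j', k'⟩ hq
    have hM : M i j k = M i' j' k' := congrArg Subtype.val hq
    have h1 : h.x12 ^ (i : ℕ) = h.x12 ^ (i' : ℕ) := by
      rw [hsq (hpow3 i h.x12_cube), hsq (hpow3 i' h.x12_cube), ← key1 i j k, ← key1 i' j' k', hM]
    have h2 : r.x23 ^ (j : ℕ) = r.x23 ^ (j' : ℕ) := by
      rw [hsq (hpow3 j r.x23_cube), hsq (hpow3 j' r.x23_cube), ← key2 i j k, ← key2 i' j' k', hM]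
    have h3 : r.x31 ^ (k : ℕ) = r.x31 ^ (k' : ℕ) := by
      have h4 : M i j k = M i j k' := by
        rw [hM]
        simp only [M]
        rw [h1, h2]
      exact mul_left_cancel h4
    rw [hinj oa h1, hinj ob h2, hinj oc h3]
  have hFs : Function.Surjective F := by
    have hb' := hF.bijective_of_nat_card_le (by rw [hP]; simp)
    exact hb'.2
  -- `w` normalizes `P`
  have hN : ∀ p ∈ P, r.w * p * r.w⁻¹ ∈ P := by
    intro p hp
    obtain ⟨⟨i, j, k⟩, hq⟩ := hFs ⟨p, hp⟩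
    have hp' : p = M i j k := (congrArg Subtype.val hq).symm
    have h1 : r.w * p * r.w⁻¹ = r.ρ (M i j k) := by rw [hp']; rfl
    have h2 : r.ρ (M i j k) = r.x23 ^ (i : ℕ) * r.x31 ^ (j : ℕ) * h.x12 ^ (k : ℕ) := by
      simp only [M, map_mul, map_pow, r.ρ_x12, r.ρ_x23, r.ρ_x31]
    rw [h1, h2]
    exact P.mul_mem (P.mul_mem (P.pow_mem hb _) (P.pow_mem hc' _)) (P.pow_mem ha _)
  -- the Sylow subgroup
  have hp3 : IsPGroup 3 P := IsPGroup.of_card (n := 3) (by rw [hP]; norm_num)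
  obtain ⟨S, hS⟩ := hp3.exists_le_sylow
  have hPS : P = (S : Subgroup G) := by
    apply Subgroup.eq_of_le_of_card_ge hS
    have := Cfsg.Agent.Lib.SmallGroups2.sylow_card_of_card_eq (p := 3) (a := 3) (m := 208)
      (by rw [h.hc]; norm_num) (by norm_num) S
    rw [this, hP]
    norm_num
  have hwN : r.w ∈ normalizer ((S : Subgroup G) : Set G) := by
    rw [← hPS]
    exact Cfsg.Agent.Lib.TwoLocal2.mem_normalizer_of_conj_le hN
  have hwS := Cfsg.Agent.Lib.SmallGroups3.mem_of_orderOf_of_mem_normalizer S r.orderOf_w hwN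
  rw [← hPS] at hwS
  have hwx : r.w * h.x12 = h.x12 * r.w := ((hmem _).1 hwS).1
  have hx23 : r.x23 = h.x12 := by
    rw [Rot.x23, r.ρ_apply, hwx]
    group
  have h5 := r.t_x23
  rw [hx23, h.t_x12] at h5
  have h6 : h.x12 ^ 2 = 1 := by
    rw [pow_two]
    nth_rewrite 2 [h5]
    exact mul_inv_cancel _
  exact h.x12_ne (Cfsg.Agent.Lib.A7Ord.eq_one_of_coprime_pows h6 h.x12_cube (by norm_num))

end P

theorem Ctx.exists_stRel (h : Ctx G) : ∃ a b c d e f : G, StRel a b c d e f ∧ a ≠ 1 := by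
  obtain ⟨w, hw3, hwt, hwu⟩ := h.exists_w
  let r : Rot h := ⟨w, hw3, hwt, hwu⟩
  obtain ⟨P, hP, hmem⟩ := h.exists_K h.isA_x12
  have hA := comm_A r P hP hmem
  have hB := comm_B r P hP hmem
  have hN1 := not_comm_x23 r P hP hmem
  have c2 : r.x32 * h.x12 = h.x12 * r.x32 := hA.resolve_left hN1
  have hN1' : ¬ (r.x31 * h.x12 = h.x12 * r.x31) := by
    intro hc
    have := r.rot_comm hc
    rw [r.ρ_x31, r.ρ_x12] at this
    exact hN1 this.symm
  have c1 : r.x13 * h.x12 = h.x12 * r.x13 := hB.resolve_left hN1'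
  have c3 : r.x13 * r.x23 = r.x23 * r.x13 := r.rot_comm c2
  have c4 : h.x21 * r.x23 = r.x23 * h.x21 := by
    have := r.rot_comm c1
    rwa [r.ρ_x13, r.ρ_x12] at this
  have c5 : r.x32 * r.x31 = r.x31 * r.x32 := by
    have := r.rot_comm c4
    rwa [r.ρ_x21, r.ρ_x23] at this
  have c6 : h.x21 * r.x31 = r.x31 * h.x21 := by
    have := r.rot_comm c3
    rwa [r.ρ_x13, r.ρ_x23] at this
  -- the second noncommuting pair
  have hN2 : ¬ (r.x13 * r.x32 = r.x32 * r.x13) := by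
    intro hc
    have h1 : h.x21 * r.x13 = r.x13 * h.x21 := by
      have := r.rot_comm hc
      rwa [r.ρ_x13, r.ρ_x32] at this
    obtain ⟨h27, -⟩ := h.K_facts r.isA_x13 (a := h.x12) (b := h.x21) c1.symm h1
      h.x12_cube h.x21_cube
    have h4 : (h.x12 * h.x21) ^ 4 = 1 := by
      rw [Ctx.x12, Ctx.x21, ← inG_mul, ← inG_pow, UL_four, inG_one]
    have h5 := Cfsg.Agent.Lib.A7Ord.eq_one_of_coprime_pows h4 h27 (by norm_num)
    rw [Ctx.x12, Ctx.x21, ← inG_mul, inG_eq_one_iff] at h5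
    exact UL_ne h5
  -- the commutators
  obtain ⟨-, m1⟩ := h.K_facts r.isA_x13 (a := h.x12) (b := r.x23) c1.symm c3.symm
    h.x12_cube r.x23_cube
  have n1 : h.x12 * r.x23 * h.x12⁻¹ * r.x23⁻¹ ≠ 1 := by
    intro hh
    apply hN1
    have h1 : h.x12 * r.x23 = (h.x12 * r.x23 * h.x12⁻¹ * r.x23⁻¹) * (r.x23 * h.x12) := by group
    rw [hh, one_mul] at h1
    exact h1.symm
  obtain ⟨ε, s1⟩ := val_of_mem m1 r.x13_cube n1
  obtain ⟨-, m2⟩ := h.K_facts h.isA_x12 (a := r.x13) (b := r.x32) c1 c2 r.x13_cube r.x32_cube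
  have n2 : r.x13 * r.x32 * r.x13⁻¹ * r.x32⁻¹ ≠ 1 := by
    intro hh
    apply hN2
    have h1 : r.x13 * r.x32 = (r.x13 * r.x32 * r.x13⁻¹ * r.x32⁻¹) * (r.x32 * r.x13) := by group
    rw [hh, one_mul] at h1
    exact h1
  obtain ⟨δ, s4⟩ := val_of_mem m2 h.x12_cube n2
  have hrot : ∀ {a b c : G}, a * b * a⁻¹ * b⁻¹ = c →
      r.ρ a * r.ρ b * (r.ρ a)⁻¹ * (r.ρ b)⁻¹ = r.ρ c := by
    intro a b c hh
    rw [← hh]
    simp only [map_mul, map_inv]
  have s2 : r.x23 * r.x31 * r.x23⁻¹ * r.x31⁻¹ = sg ε h.x21 := by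
    have := hrot s1
    have h7 := map_sg r.ρ.toMonoidHom ε r.x13
    simp only [MulEquiv.coe_toMonoidHom] at h7
    rw [h7, r.ρ_x13, r.ρ_x12, r.ρ_x23] at this
    exact this
  have s3 : r.x31 * h.x12 * r.x31⁻¹ * h.x12⁻¹ = sg ε r.x32 := by
    have := hrot s2
    have h7 := map_sg r.ρ.toMonoidHom ε h.x21
    simp only [MulEquiv.coe_toMonoidHom] at h7
    rw [h7, r.ρ_x21, r.ρ_x31, r.ρ_x23] at this
    exact this
  have s5 : h.x21 * r.x13 * h.x21⁻¹ * r.x13⁻¹ = sg δ r.x23 := by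
    have := hrot s4
    have h7 := map_sg r.ρ.toMonoidHom δ h.x12
    simp only [MulEquiv.coe_toMonoidHom] at h7
    rw [h7, r.ρ_x12, r.ρ_x13, r.ρ_x32] at this
    exact this
  have s6 : r.x32 * h.x21 * r.x32⁻¹ * h.x21⁻¹ = sg δ r.x31 := by
    have := hrot s5
    have h7 := map_sg r.ρ.toMonoidHom δ r.x23
    simp only [MulEquiv.coe_toMonoidHom] at h7
    rw [h7, r.ρ_x23, r.ρ_x21, r.ρ_x13] at this
    exact this
  refine ⟨_, _, _, _, _, _, stRel_of_signs ε δ h.x12_cube r.x13_cube r.x23_cube h.x21_cube r.x31_cube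
    r.x32_cube c1.symm c2.symm c3.symm c4.symm c6.symm c5.symm s1 s2 s3 s4 s5 s6, ?_⟩
  cases δ
  · simpa using h.x12_ne
  · exact h.x12_ne

/-- The final identification. -/
theorem Ctx.equiv (h : Ctx G) : Nonempty (G ≃* Cfsg.Agent.Lib.Psl33Data.SL3) := by
  obtain ⟨a, b, c, d, e, f, hr, hne⟩ := h.exists_stRel
  exact Cfsg.Agent.Lib.L33Pres.exists_equiv_of_rel h.hc hr hne

end Cfsg.Agent.Lib.L33Loc
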