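import Mathlib
import Cfsg.Agent.Lib.PCore
import Cfsg.Prelude.Def_Amalgam

set_option autoImplicit false
set_option linter.unusedSectionVars false

open Cfsg

namespace Cfsg.Agent.Lib.LLemma

open Cfsg.Agent.Lib.PCore

variable {G : Type*} [Group G]

/-- The conjugate `g K g⁻¹`. -/
abbrev cg (g : G) (K : Subgroup G) : Subgroup G := K.map (MulAut.conj g).toMonoidHom

theorem mem_cg {g x : G} {K : Subgroup G} : x ∈ cg g K ↔ g⁻¹ * x * g ∈ K := by
  constructor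
  · rintro ⟨y, hy, rfl⟩
    have : g⁻¹ * (MulAut.conj g).toMonoidHom y * g = y := by
      show g⁻¹ * (g * y * g⁻¹) * g = y
      group
    rw [this]; exact hy
  · intro h
    refine ⟨_, h, ?_⟩
    show g * (g⁻¹ * x * g) * g⁻¹ = x
    group

theorem conj_mem_cg {g x : G} {K : Subgroup G} (hx : x ∈ K) : g * x * g⁻¹ ∈ cg g K := ⟨x, hx, rfl⟩

theorem cg_mono {g : G} {K K' : Subgroup G} (h : K ≤ K') : cg g K ≤ cg g K' := Subgroup.map_mono h

theorem cg_one (K : Subgroup G) : cg 1 K = K := by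
  ext x; rw [mem_cg]; simp

theorem cg_mul (g h : G) (K : Subgroup G) : cg (g * h) K = cg g (cg h K) := by
  ext x
  simp only [mem_cg]
  have : (g * h)⁻¹ * x * (g * h) = h⁻¹ * (g⁻¹ * x * g) * h := by group
  rw [this]

theorem cg_inv_cg (g : G) (K : Subgroup G) : cg g⁻¹ (cg g K) = K := by
  rw [← cg_mul, inv_mul_cancel, cg_one]

theorem cg_cg_inv (g : G) (K : Subgroup G) : cg g (cg g⁻¹ K) = K := by
  rw [← cg_mul, mul_inv_cancel, cg_one]

theorem cg_le_iff {g : G} {K K' : Subgroup G} : cg g K ≤ K' ↔ K ≤ cg g⁻¹ K' := by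
  constructor
  · intro h
    have := cg_mono (g := g⁻¹) h
    rwa [cg_inv_cg] at this
  · intro h
    have := cg_mono (g := g) h
    rwa [cg_cg_inv] at this

theorem le_cg_iff {g : G} {K K' : Subgroup G} : K ≤ cg g K' ↔ cg g⁻¹ K ≤ K' := by
  rw [cg_le_iff, inv_inv]

theorem cg_eq_of_mem {Y : Subgroup G} {g : G} (hg : g ∈ Y) : cg g Y = Y := by
  ext x
  rw [mem_cg]
  constructor
  · intro h
    have := Y.mul_mem (Y.mul_mem hg h) (Y.inv_mem hg)
    have e : g * (g⁻¹ * x * g) * g⁻¹ = x := by group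
    rwa [e] at this
  · intro h
    exact Y.mul_mem (Y.mul_mem (Y.inv_mem hg) h) hg

theorem cg_inf (g : G) (K K' : Subgroup G) : cg g (K ⊓ K') = cg g K ⊓ cg g K' := by
  ext x
  simp only [mem_cg, Subgroup.mem_inf]

theorem cg_sup (g : G) (K K' : Subgroup G) : cg g (K ⊔ K') = cg g K ⊔ cg g K' :=
  Subgroup.map_sup _ _ _

theorem card_cg (g : G) (K : Subgroup G) : Nat.card (cg g K) = Nat.card K :=
  Subgroup.card_map_of_injective (MulAut.conj g).injective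

theorem isPGroup_cg {p : ℕ} {g : G} {K : Subgroup G} (h : IsPGroup p K) : IsPGroup p (cg g K) :=
  h.map _

theorem eq_of_le_of_card_eq [Finite G] {K K' : Subgroup G} (h : K ≤ K')
    (hc : Nat.card K = Nat.card K') : K = K' :=
  Subgroup.eq_of_le_of_card_ge h hc.ge

theorem cg_eq_of_cg_le [Finite G] {g : G} {K : Subgroup G} (h : cg g K ≤ K) : cg g K = K :=
  eq_of_le_of_card_eq h (card_cg g K)

theorem mem_normalizer_iff_cg [Finite G] {g : G} {K : Subgroup G} :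
    g ∈ Subgroup.normalizer (K : Set G) ↔ cg g K = K := by
  rw [Subgroup.mem_normalizer_iff]
  constructor
  · intro h
    ext x
    rw [mem_cg]
    have := h (g⁻¹ * x * g)
    have e : g * (g⁻¹ * x * g) * g⁻¹ = x := by group
    rw [e] at this
    exact this
  · intro h x
    constructor
    · intro hx
      rw [← h]
      exact conj_mem_cg hx
    · intro hx
      rw [← h, mem_cg] at hx
      have e : g⁻¹ * (g * x * g⁻¹) * g = x := by group
      rwa [e] at hx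

theorem cg_eq_of_mem_normalizer {g : G} {K : Subgroup G}
    (hg : g ∈ Subgroup.normalizer (K : Set G)) : cg g K = K := by
  rw [Subgroup.mem_normalizer_iff] at hg
  ext x
  rw [mem_cg]
  have := hg (g⁻¹ * x * g)
  have e : g * (g⁻¹ * x * g) * g⁻¹ = x := by group
  rw [e] at this
  exact this

theorem mem_normalizer_of_cg_eq {g : G} {K : Subgroup G} (h : cg g K = K) :
    g ∈ Subgroup.normalizer (K : Set G) := by
  rw [Subgroup.mem_normalizer_iff]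
  intro x
  constructor
  · intro hx
    rw [← h]
    exact conj_mem_cg hx
  · intro hx
    rw [← h, mem_cg] at hx
    have e : g⁻¹ * (g * x * g⁻¹) * g = x := by group
    rwa [e] at hx

theorem normalizer_cg_le {g : G} {K X : Subgroup G} (h : X ≤ Subgroup.normalizer (K : Set G)) :
    cg g X ≤ Subgroup.normalizer ((cg g K : Subgroup G) : Set G) := by
  intro x hx
  apply mem_normalizer_of_cg_eq
  rw [mem_cg] at hx
  have h1 := cg_eq_of_mem_normalizer (h hx)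
  have e : x = g * (g⁻¹ * x * g) * g⁻¹ := by group
  rw [e, cg_mul, cg_mul]
  rw [cg_inv_cg, h1]

section pCoreOf

theorem pCoreOf_le (p : ℕ) (X : Subgroup G) : pCoreOf p X ≤ X := Subgroup.map_subtype_le _

theorem isPGroup_pCoreOf [Finite G] (p : ℕ) [Fact p.Prime] (X : Subgroup G) : IsPGroup p (pCoreOf p X) :=
  (isPGroup_pCore p).map X.subtype

theorem le_normalizer_pCoreOf (p : ℕ) (X : Subgroup G) :
    X ≤ Subgroup.normalizer (pCoreOf p X : Set G) := by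
  intro x hx
  have hn : (pCore p X).Normal := @Subgroup.normal_of_characteristic _ _ _ (pCore_characteristic p)
  have h1 : (⟨x, hx⟩ : X) ∈ Subgroup.normalizer ((pCore p X : Subgroup X) : Set X) := by
    rw [Subgroup.normalizer_eq_top_iff.mpr hn]; trivial
  exact Subgroup.le_normalizer_map (H := pCore p X) X.subtype (Subgroup.mem_map_of_mem _ h1)

theorem le_pCoreOf {p : ℕ} [Finite G] [Fact p.Prime] {Y X : Subgroup G} (hYX : Y ≤ X)
    (hXY : X ≤ Subgroup.normalizer (Y : Set G))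
    (hY : IsPGroup p Y) : Y ≤ pCoreOf p X := by
  have hnormal : (Y.subgroupOf X).Normal := Subgroup.normal_subgroupOf_of_le_normalizer hXY
  have h1 : Y.subgroupOf X ≤ pCore p X := le_pCore hnormal hY.comap_subtype
  intro y hy
  exact ⟨⟨y, hYX hy⟩, h1 hy, rfl⟩

theorem pCoreOf_top [Finite G] (p : ℕ) [Fact p.Prime] : pCoreOf p (⊤ : Subgroup G) = pCore p G := by
  apply le_antisymm
  · have hn : (pCoreOf p (⊤ : Subgroup G)).Normal := by
      rw [← Subgroup.normalizer_eq_top_iff]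
      exact top_le_iff.mp (le_normalizer_pCoreOf p ⊤)
    exact le_pCore hn (isPGroup_pCoreOf p ⊤)
  · apply le_pCoreOf le_top _ (isPGroup_pCore p)
    have hn : (pCore p G).Normal := @Subgroup.normal_of_characteristic _ _ _ (pCore_characteristic p)
    rw [Subgroup.normalizer_eq_top_iff.mpr hn]

end pCoreOf


section MaxP

variable [Finite G] {p : ℕ} [Fact p.Prime]

/-- `S` is a maximal `p`-subgroup of `Y`. -/
def IsMaxP (p : ℕ) (Y S : Subgroup G) : Prop :=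
  S ≤ Y ∧ IsPGroup p S ∧ ∀ P : Subgroup G, P ≤ Y → IsPGroup p P → S ≤ P → P ≤ S

theorem exists_isMaxP {Y P : Subgroup G} (hPY : P ≤ Y) (hP : IsPGroup p P) :
    ∃ S, P ≤ S ∧ IsMaxP p Y S := by
  let F : Set (Subgroup G) := {Q | Q ≤ Y ∧ IsPGroup p Q}
  obtain ⟨S, hPS, hS⟩ := (Set.toFinite F).exists_le_maximal (a := P) ⟨hPY, hP⟩
  exact ⟨S, hPS, hS.1.1, hS.1.2, fun Q hQY hQ hSQ => hS.2 ⟨hQY, hQ⟩ hSQ⟩

theorem IsMaxP.mono {Y Z S : Subgroup G} (h : IsMaxP p Y S) (hSZ : S ≤ Z) (hZY : Z ≤ Y) :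
    IsMaxP p Z S :=
  ⟨hSZ, h.2.1, fun Q hQ hQp hSQ => h.2.2 Q (hQ.trans hZY) hQp hSQ⟩

theorem IsMaxP.cg {Y S : Subgroup G} (h : IsMaxP p Y S) {y : G} (hy : y ∈ Y) :
    IsMaxP p Y (cg y S) := by
  refine ⟨?_, isPGroup_cg h.2.1, fun Q hQ hQp hSQ => ?_⟩
  · have := cg_mono (g := y) h.1
    rwa [cg_eq_of_mem hy] at this
  · have h1 : Subgroup.map (MulAut.conj y⁻¹).toMonoidHom Q ≤ Y := by
      have := cg_mono (g := y⁻¹) hQ
      rwa [cg_eq_of_mem (Y.inv_mem hy)] at this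
    have h2 : S ≤ Subgroup.map (MulAut.conj y⁻¹).toMonoidHom Q := by
      rw [show Subgroup.map (MulAut.conj y⁻¹).toMonoidHom Q = LLemma.cg y⁻¹ Q from rfl, le_cg_iff, inv_inv]
      exact hSQ
    have := h.2.2 _ h1 (isPGroup_cg hQp) h2
    have h3 : LLemma.cg y (LLemma.cg y⁻¹ Q) ≤ LLemma.cg y S := cg_mono this
    rwa [cg_cg_inv] at h3

/-- A normal `p`-subgroup of `Y` lies in every maximal `p`-subgroup of `Y`. -/
theorem IsMaxP.le_of_normal {Y S Q : Subgroup G} (h : IsMaxP p Y S) (hQY : Q ≤ Y)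
    (hYQ : Y ≤ Subgroup.normalizer (Q : Set G)) (hQ : IsPGroup p Q) : Q ≤ S := by
  have h1 : IsPGroup p (S ⊔ Q : Subgroup G) :=
    IsPGroup.to_sup_of_normal_right' h.2.1 hQ (h.1.trans hYQ)
  exact le_sup_right.trans (h.2.2 _ (sup_le h.1 hQY) h1 le_sup_left)

/-- Sylow conjugacy for maximal `p`-subgroups of `Y`. -/
theorem IsMaxP.exists_conj {Y S₁ S₂ : Subgroup G} (h₁ : IsMaxP p Y S₁) (h₂ : IsMaxP p Y S₂) :
    ∃ y ∈ Y, S₂ = LLemma.cg y S₁ := by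
  have key : ∀ S : Subgroup G, IsMaxP p Y S → ∃ Q : Sylow p Y, S = (Q : Subgroup Y).map Y.subtype := by
    intro S hS
    have h0 : IsPGroup p (S.subgroupOf Y) := hS.2.1.comap_of_injective Y.subtype Y.subtype_injective
    obtain ⟨Q, hQ⟩ := h0.exists_le_sylow
    refine ⟨Q, le_antisymm ?_ ?_⟩
    · intro s hs
      exact ⟨⟨s, hS.1 hs⟩, hQ (Subgroup.mem_subgroupOf.mpr hs), rfl⟩
    · apply hS.2.2 _ (Subgroup.map_subtype_le _) (Q.isPGroup'.map _)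
      intro s hs
      exact ⟨⟨s, hS.1 hs⟩, hQ (Subgroup.mem_subgroupOf.mpr hs), rfl⟩
  obtain ⟨Q₁, rfl⟩ := key S₁ h₁
  obtain ⟨Q₂, rfl⟩ := key S₂ h₂
  obtain ⟨u, hu⟩ := MulAction.exists_smul_eq Y Q₁ Q₂
  refine ⟨u, u.2, ?_⟩
  rw [← hu]
  ext x
  rw [mem_cg]
  constructor
  · rintro ⟨⟨a, ha⟩, hamem, rfl⟩
    rw [Sylow.smul_def, Sylow.pointwise_smul_def] at hamem
    obtain ⟨b, hb, hbe⟩ := hamem
    refine ⟨b, hb, ?_⟩
    have e : (⟨a, ha⟩ : Y) = u * b * u⁻¹ := hbe.symm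
    have e2 : a = (u : G) * (b : G) * (u : G)⁻¹ := by
      have := congrArg Subtype.val e
      simpa using this
    show (b : G) = (u : G)⁻¹ * a * (u : G)
    rw [e2]; group
  · rintro ⟨b, hb, hbe⟩
    refine ⟨u * b * u⁻¹, ?_, ?_⟩
    · rw [Sylow.smul_def, Sylow.pointwise_smul_def]
      exact ⟨b, hb, rfl⟩
    · have e : (b : G) = (u : G)⁻¹ * x * (u : G) := hbe
      show ((u * b * u⁻¹ : Y) : G) = x
      simp only [Subgroup.coe_mul, Subgroup.coe_inv]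
      rw [e]; group

theorem card_lt_of_le_of_ne {X Y : Subgroup G} (h : X ≤ Y) (hne : X ≠ Y) :
    Nat.card X < Nat.card Y := by
  by_contra hc
  exact hne (Subgroup.eq_of_le_of_card_ge h (not_lt.mp hc))

/-- `Y` is `S`-minimal with the unique maximal overgroup `N` of the maximal `p`-subgroup `S`. -/
structure TMin (p : ℕ) (Y S N : Subgroup G) : Prop where
  maxp : IsMaxP p Y S
  N_le : N ≤ Y
  N_ne : N ≠ Y
  S_le : S ≤ N
  uniq : ∀ X : Subgroup G, X ≤ Y → S ≤ X → X ≠ Y → X ≤ N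
  gen : ∀ K : Subgroup G, K ≤ Y → S ≤ K → Y ≤ Subgroup.normalizer (K : Set G) → K = Y

theorem TMin.cg {Y S N : Subgroup G} (h : TMin p Y S N) {d : G} (hd : d ∈ Y) :
    TMin p Y (LLemma.cg d S) (LLemma.cg d N) := by
  refine ⟨h.maxp.cg hd, ?_, ?_, cg_mono h.S_le, ?_, ?_⟩
  · have := cg_mono (g := d) h.N_le
    rwa [cg_eq_of_mem hd] at this
  · intro he
    apply h.N_ne
    have := congrArg (LLemma.cg d⁻¹) he
    rwa [cg_inv_cg, cg_eq_of_mem (Y.inv_mem hd)] at this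
  · intro X hX hSX hne
    rw [le_cg_iff]
    apply h.uniq
    · have := cg_mono (g := d⁻¹) hX
      rwa [cg_eq_of_mem (Y.inv_mem hd)] at this
    · exact cg_le_iff.mp hSX
    · intro he
      apply hne
      have := congrArg (LLemma.cg d) he
      rwa [cg_cg_inv, cg_eq_of_mem hd] at this
  · intro K hK hSK hYK
    have h1 : LLemma.cg d⁻¹ K = Y := by
      apply h.gen
      · have := cg_mono (g := d⁻¹) hK
        rwa [cg_eq_of_mem (Y.inv_mem hd)] at this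
      · exact cg_le_iff.mp hSK
      · have := normalizer_cg_le (g := d⁻¹) hYK
        rwa [cg_eq_of_mem (Y.inv_mem hd)] at this
    have := congrArg (LLemma.cg d) h1
    rwa [cg_cg_inv, cg_eq_of_mem hd] at this

theorem TMin.norm_self {Y S N : Subgroup G} (h : TMin p Y S N) {y : G} (hy : y ∈ Y)
    (he : LLemma.cg y N = N) : y ∈ N := by
  have hyn : y ∈ Subgroup.normalizer (N : Set G) := mem_normalizer_of_cg_eq he
  by_cases hX : Y ⊓ Subgroup.normalizer (N : Set G) = Y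
  · exfalso
    apply h.N_ne
    apply h.gen N h.N_le h.S_le
    exact inf_eq_left.mp hX
  · exact h.uniq _ inf_le_left (le_inf (h.maxp.1) (h.S_le.trans Subgroup.le_normalizer)) hX ⟨hy, hyn⟩

theorem TMin.norm_S {Y S N : Subgroup G} (h : TMin p Y S N) {y : G} (hy : y ∈ Y)
    (he : LLemma.cg y S = S) : y ∈ N := by
  have hyn : y ∈ Subgroup.normalizer (S : Set G) := mem_normalizer_of_cg_eq he
  by_cases hX : Y ⊓ Subgroup.normalizer (S : Set G) = Y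
  · exfalso
    apply h.N_ne
    have h1 : S = Y := h.gen S h.maxp.1 le_rfl (inf_eq_left.mp hX)
    exact le_antisymm h.N_le (h1 ▸ h.S_le)
  · exact h.uniq _ inf_le_left (le_inf (h.maxp.1) Subgroup.le_normalizer) hX ⟨hy, hyn⟩

theorem TMin.fix_unique {Y S N : Subgroup G} (h : TMin p Y S N) {g : G} (hg : g ∈ Y)
    (hS : S ≤ LLemma.cg g N) : g ∈ N := by
  have h1 : IsMaxP p N S := h.maxp.mono h.S_le h.N_le
  have h2 : IsMaxP p N (LLemma.cg g⁻¹ S) := by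
    refine (h.maxp.cg (Y.inv_mem hg)).mono ?_ h.N_le
    rwa [cg_le_iff, inv_inv]
  obtain ⟨m, hm, hme⟩ := h1.exists_conj h2
  have h3 : LLemma.cg (g * m) S = S := by
    rw [cg_mul, ← hme, cg_cg_inv]
  have h4 := h.norm_S (Y.mul_mem hg (h.N_le hm)) h3
  have := N.mul_mem h4 (N.inv_mem hm)
  rwa [mul_inv_cancel_right] at this

theorem TMin.exists_conj_S {Y S N P : Subgroup G} (h : TMin p Y S N) (hP : P ≤ Y)
    (hPp : IsPGroup p P) : ∃ g ∈ Y, P ≤ LLemma.cg g S := by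
  obtain ⟨S', hS', hmax⟩ := exists_isMaxP hP hPp
  obtain ⟨g, hg, rfl⟩ := h.maxp.exists_conj hmax
  exact ⟨g, hg, hS'⟩

theorem TMin.exists_point {Y S N P : Subgroup G} (h : TMin p Y S N) {g : G} (hg : g ∈ Y)
    (hP : P ≤ LLemma.cg g N) (hPp : IsPGroup p P) :
    ∃ g' ∈ Y, LLemma.cg g' N = LLemma.cg g N ∧ P ≤ LLemma.cg g' S := by
  have h1 : LLemma.cg g⁻¹ P ≤ N := by
    rwa [cg_le_iff, inv_inv]
  obtain ⟨S', hS', hmax⟩ := exists_isMaxP h1 (isPGroup_cg (g := g⁻¹) hPp)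
  obtain ⟨m, hm, rfl⟩ := (h.maxp.mono h.S_le h.N_le).exists_conj hmax
  refine ⟨g * m, Y.mul_mem hg (h.N_le hm), ?_, ?_⟩
  · rw [cg_mul, cg_eq_of_mem hm]
  · rw [cg_mul]
    rwa [cg_le_iff, inv_inv] at hS'

/-- The conclusion of the L-lemma, relative to `Y`. -/
def Concl (p : ℕ) (Y N A : Subgroup G) : Prop :=
  ∃ L : Subgroup G, L ≤ Y ∧ A ⊔ pCoreOf p Y ≤ L ∧ ∃ L₀ : Subgroup G, A ⊔ pCoreOf p L ≤ L₀ ∧ L₀ < L ∧
    (∀ X : Subgroup G, A ⊔ pCoreOf p L ≤ X → X < L → X ≤ L₀) ∧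
    (∃ g ∈ Y, L₀ = L ⊓ LLemma.cg g N) ∧
    ∀ x ∈ L, x ∉ L₀ → A ⊔ LLemma.cg x A ⊔ pCoreOf p L = L

theorem Concl.of_conj {Y N A : Subgroup G} {d : G} (hd : d ∈ Y) (h : Concl p Y (LLemma.cg d N) A) :
    Concl p Y N A := by
  obtain ⟨L, hLY, hAL, L₀, h1, h2, h3, ⟨g, hg, hgL⟩, h5⟩ := h
  refine ⟨L, hLY, hAL, L₀, h1, h2, h3, ⟨g * d, Y.mul_mem hg hd, ?_⟩, h5⟩
  rw [cg_mul]; exact hgL

/-- Reduction to `A ≥ O_p(Y)`. -/
theorem Concl.of_sup {Y N A : Subgroup G} (h : Concl p Y N (A ⊔ pCoreOf p Y)) : Concl p Y N A := by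
  obtain ⟨L, hLY, hAL, L₀, h1, h2, h3, h4, h5⟩ := h
  have hOL : pCoreOf p Y ≤ pCoreOf p L := by
    apply le_pCoreOf
    · exact (le_sup_right.trans le_sup_left).trans hAL
    · exact hLY.trans (le_normalizer_pCoreOf p Y)
    · exact isPGroup_pCoreOf p Y
  have he : A ⊔ pCoreOf p Y ⊔ pCoreOf p L = A ⊔ pCoreOf p L := by
    rw [sup_assoc, sup_eq_right.mpr hOL]
  refine ⟨L, hLY, ?_, L₀, ?_, h2, ?_, h4, ?_⟩
  · refine sup_le ((le_sup_left.trans le_sup_left).trans hAL) ((le_sup_right.trans le_sup_left).trans hAL)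
  · rw [← he]; exact h1
  · intro X hX hXL
    exact h3 X (by rw [he]; exact hX) hXL
  · intro x hx hxL
    have := h5 x hx hxL
    refine Eq.trans ?_ this
    have hc : LLemma.cg x (pCoreOf p Y) = pCoreOf p Y :=
      cg_eq_of_mem_normalizer (le_normalizer_pCoreOf p Y (hLY hx))
    rw [cg_sup, hc]
    apply le_antisymm
    · refine sup_le (sup_le ?_ ?_) ?_
      · exact le_sup_of_le_left (le_sup_of_le_left le_sup_left)
      · exact le_sup_of_le_left (le_sup_of_le_right le_sup_left)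
      · exact le_sup_right
    · refine sup_le (sup_le (sup_le ?_ ?_) (sup_le ?_ ?_)) ?_
      · exact le_sup_of_le_left le_sup_left
      · exact hOL.trans le_sup_right
      · exact le_sup_of_le_left le_sup_right
      · exact hOL.trans le_sup_right
      · exact le_sup_right

/-- Base case: `A O_p(Y)` lies in a unique maximal subgroup of `Y`. -/
theorem concl_base {Y S N A : Subgroup G} (h : TMin p Y S N) (hAS : A ≤ S)
    (hu : ∀ X : Subgroup G, X ≤ Y → A ⊔ pCoreOf p Y ≤ X → X ≠ Y → X ≤ N) : Concl p Y N A := by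
  have hOS : pCoreOf p Y ≤ S :=
    h.maxp.le_of_normal (pCoreOf_le p Y) (le_normalizer_pCoreOf p Y) (isPGroup_pCoreOf p Y)
  have hBN : A ⊔ pCoreOf p Y ≤ N := (sup_le hAS hOS).trans h.S_le
  refine ⟨Y, le_rfl, sup_le (hAS.trans h.maxp.1) (pCoreOf_le p Y), N, hBN,
    lt_of_le_of_ne h.N_le h.N_ne, ?_, ⟨1, Y.one_mem, ?_⟩, ?_⟩
  · intro X hX hXY
    exact hu X hXY.le hX hXY.ne
  · rw [cg_one, inf_eq_right.mpr h.N_le]
  · intro x hx hxN
    by_contra hne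
    have hxA : A ≤ Y := hAS.trans h.maxp.1
    have hle : A ⊔ LLemma.cg x A ⊔ pCoreOf p Y ≤ Y := by
      refine sup_le (sup_le hxA ?_) (pCoreOf_le p Y)
      have := cg_mono (g := x) hxA
      rwa [cg_eq_of_mem hx] at this
    have h1 := hu _ hle (sup_le (le_sup_of_le_left le_sup_left) le_sup_right) hne
    have h2 : LLemma.cg x A ≤ N := (le_sup_of_le_left le_sup_right).trans h1
    -- so `A O_p(Y) ≤ x⁻¹ N x`
    have h3 : A ⊔ pCoreOf p Y ≤ LLemma.cg x⁻¹ N := by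
      refine sup_le (cg_le_iff.mp h2) ?_
      rw [le_cg_iff, inv_inv, cg_eq_of_mem_normalizer (le_normalizer_pCoreOf p Y hx)]
      exact hOS.trans h.S_le
    have h4 : LLemma.cg x⁻¹ N ≤ Y := by
      have := cg_mono (g := x⁻¹) h.N_le
      rwa [cg_eq_of_mem (Y.inv_mem hx)] at this
    have h5 : LLemma.cg x⁻¹ N ≠ Y := by
      intro he
      apply h.N_ne
      have := congrArg (LLemma.cg x) he
      rwa [cg_cg_inv, cg_eq_of_mem hx] at this
    have h6 := hu _ h4 h3 h5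
    have h7 : LLemma.cg x⁻¹ N = N := cg_eq_of_cg_le h6
    apply hxN
    have := h.norm_self (Y.inv_mem hx) h7
    simpa using N.inv_mem this

/-- The descent step. -/
theorem stepZ {Y S N B V X : Subgroup G}
    (IH : ∀ Y' S' N' A' : Subgroup G, Nat.card Y' < Nat.card Y → TMin p Y' S' N' → A' ≤ S' →
      ¬ A' ≤ pCoreOf p Y' → Concl p Y' N' A')
    (h : TMin p Y S N) (hXY : X ≤ Y) (hXne : X ≠ Y) (hVX : V ≤ X)
    (hXV : X ≤ Subgroup.normalizer (V : Set G)) (hVp : IsPGroup p V) (hBX : B ≤ X)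
    (hBp : IsPGroup p B) (hOB : pCoreOf p Y ≤ B)
    (huniq : ∀ g ∈ Y, V ⊔ B ≤ LLemma.cg g N → LLemma.cg g N = N) (hXN : ¬ X ≤ N) :
    Concl p Y N B := by
  have hRp : IsPGroup p (V ⊔ B : Subgroup G) :=
    IsPGroup.to_sup_of_normal_left' hVp hBp (hBX.trans hXV)
  have hRX : V ⊔ B ≤ X := sup_le hVX hBX
  obtain ⟨S', hRS', hS'⟩ := exists_isMaxP hRX hRp
  have hfix : ∀ z ∈ Y, V ⊔ B ≤ LLemma.cg z N → z ∈ N := fun z hz hle =>
    h.norm_self hz (huniq z hz hle)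
  have hS'N : S' ≤ N := by
    obtain ⟨g, hg, hle⟩ := h.exists_conj_S (hS'.1.trans hXY) hS'.2.1
    have h1 : V ⊔ B ≤ LLemma.cg g N := hRS'.trans (hle.trans (cg_mono h.S_le))
    have h3 : LLemma.cg g N = N := huniq g hg (hRS'.trans (hle.trans (cg_mono h.S_le)))
    rw [← h3]
    exact hle.trans (cg_mono h.S_le)
  let F : Set (Subgroup G) := {Z | S' ≤ Z ∧ Z ≤ X ∧ ¬ Z ≤ N}
  have hF : F.Nonempty := ⟨X, hS'.1, le_rfl, hXN⟩
  obtain ⟨Z₀, hZ₀⟩ := (Set.toFinite F).exists_minimal hF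
  have hZS : S' ≤ Z₀ := hZ₀.1.1
  have hZX : Z₀ ≤ X := hZ₀.1.2.1
  have hZN : ¬ Z₀ ≤ N := hZ₀.1.2.2
  have hmin : ∀ X' : Subgroup G, X' ≤ Z₀ → S' ≤ X' → X' ≠ Z₀ → X' ≤ N := by
    intro X' hX' hSX' hne
    by_contra hcon
    have : X' ∈ F := ⟨hSX', hX'.trans hZX, hcon⟩
    exact hne (le_antisymm hX' (hZ₀.2 this hX'))
  have hT : TMin p Z₀ S' (Z₀ ⊓ N) := by
    refine ⟨hS'.mono hZS hZX, inf_le_left, ?_, le_inf hZS hS'N, ?_, ?_⟩
    · intro he
      exact hZN (inf_eq_left.mp he)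
    · intro X' hX' hSX' hne
      exact le_inf hX' (hmin X' hX' hSX' hne)
    · intro K hK hSK hZK
      by_contra hne
      apply hZN
      have hKN := hmin K hK hSK hne
      intro z hz
      have hmax : IsMaxP p Z₀ S' := hS'.mono hZS hZX
      have h1 : IsMaxP p K S' := hmax.mono hSK hK
      have h2 : IsMaxP p K (LLemma.cg z S') := by
        refine (hmax.cg hz).mono ?_ hK
        have := cg_mono (g := z) hSK
        rwa [cg_eq_of_mem_normalizer (hZK hz)] at this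
      obtain ⟨k, hk, hke⟩ := h1.exists_conj h2
      -- `w = k⁻¹ z` normalizes `S'`
      have hw : LLemma.cg (k⁻¹ * z) S' = S' := by
        rw [cg_mul, hke, cg_inv_cg]
      have hwY : k⁻¹ * z ∈ Y :=
        hXY (hZX (Z₀.mul_mem (Z₀.inv_mem (hK hk)) hz))
      have h3 : k⁻¹ * z ∈ N := by
        apply hfix _ hwY
        have := hRS'.trans (cg_mono (g := k⁻¹ * z) hS'N |>.trans' (le_of_eq hw.symm))
        exact this
      have := N.mul_mem (hKN hk) h3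
      rwa [mul_inv_cancel_left] at this
  have hBS' : B ≤ S' := (le_sup_right).trans hRS'
  have hnB : ¬ B ≤ pCoreOf p Z₀ := by
    intro hBQ
    apply hZN
    have hVQ : V ≤ pCoreOf p Z₀ :=
      le_pCoreOf ((le_sup_left.trans hRS').trans hZS) (hZX.trans hXV) hVp
    have hRQ : V ⊔ B ≤ pCoreOf p Z₀ := sup_le hVQ hBQ
    have hQS : pCoreOf p Z₀ ≤ S' :=
      (hS'.mono hZS hZX).le_of_normal (pCoreOf_le p Z₀) (le_normalizer_pCoreOf p Z₀)
        (isPGroup_pCoreOf p Z₀)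
    intro z hz
    apply hfix z (hXY (hZX hz))
    have h1 : LLemma.cg z (pCoreOf p Z₀) = pCoreOf p Z₀ :=
      cg_eq_of_mem_normalizer (le_normalizer_pCoreOf p Z₀ hz)
    refine hRQ.trans ?_
    rw [← h1]
    exact cg_mono (hQS.trans hS'N)
  have hcard : Nat.card Z₀ < Nat.card Y :=
    card_lt_of_le_of_ne (hZX.trans hXY) (fun he => hXne (le_antisymm hXY (he ▸ hZX)))
  obtain ⟨L, hLZ, hAL, L₀, h1, h2, h3, ⟨g, hg, hgL⟩, h5⟩ := IH Z₀ S' (Z₀ ⊓ N) B hcard hT hBS' hnB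
  refine ⟨L, hLZ.trans (hZX.trans hXY), ?_, L₀, h1, h2, h3, ⟨g, hXY (hZX hg), ?_⟩, h5⟩
  · exact sup_le (le_sup_left.trans hAL) (hOB.trans (le_sup_left.trans hAL))
  · rw [hgL, cg_inf, cg_eq_of_mem hg, ← inf_assoc, inf_eq_left.mpr hLZ]

/-- A `p`-group has the normalizer condition. -/
theorem exists_mem_normalizer_of_lt' {R T : Subgroup G}
    (hT : IsPGroup p T) (hlt : R < T) : ∃ t ∈ T, t ∉ R ∧ t ∈ Subgroup.normalizer (R : Set G) := by
  have hnil : Group.IsNilpotent T := hT.isNilpotent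
  have hcond := Group.normalizerCondition_of_isNilpotent (G := T)
  have hlt' : R.subgroupOf T < ⊤ := by
    rw [lt_top_iff_ne_top]
    intro h
    apply hlt.not_ge
    intro x hx
    have : (⟨x, hx⟩ : T) ∈ R.subgroupOf T := by rw [h]; trivial
    exact Subgroup.mem_subgroupOf.mp this
  have h1 := hcond _ hlt'
  obtain ⟨t, ht, ht'⟩ := SetLike.exists_of_lt h1
  refine ⟨t, t.2, fun htR => ht' (Subgroup.mem_subgroupOf.mpr htR), ?_⟩
  rw [Subgroup.mem_normalizer_iff] at ht ⊢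
  intro r
  constructor
  · intro hr
    have hrT : r ∈ T := hlt.le hr
    have := (ht ⟨r, hrT⟩).mp (Subgroup.mem_subgroupOf.mpr hr)
    exact Subgroup.mem_subgroupOf.mp this
  · intro hr
    have hrT : r ∈ T := by
      have h2 : (t : G) * r * (t : G)⁻¹ ∈ T := hlt.le hr
      have h3 := T.mul_mem (T.mul_mem (T.inv_mem t.2) h2) t.2
      have e : (t : G)⁻¹ * ((t : G) * r * (t : G)⁻¹) * (t : G) = r := by group
      rwa [e] at h3
    have := (ht ⟨r, hrT⟩).mpr (Subgroup.mem_subgroupOf.mpr hr)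
    exact Subgroup.mem_subgroupOf.mp this

/-- If no member of `𝒜` in the `p`-group `Q` outside `V` normalizes the `𝒜`-generated subgroup `V`
then `Q` normalizes `V`. -/
theorem classic {Q V : Subgroup G} {𝒜 : Set (Subgroup G)} (hQp : IsPGroup p Q) (hVQ : V ≤ Q)
    (hgen : V ≤ sSup {C | C ∈ 𝒜 ∧ C ≤ V})
    (hinv : ∀ C ∈ 𝒜, ∀ x ∈ Q, LLemma.cg x C ∈ 𝒜)
    (hno : ∀ C ∈ 𝒜, C ≤ Q → C ≤ Subgroup.normalizer (V : Set G) → C ≤ V) :
    Q ≤ Subgroup.normalizer (V : Set G) := by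
  by_contra hne
  have hlt : Q ⊓ Subgroup.normalizer (V : Set G) < Q :=
    lt_of_le_of_ne inf_le_left (fun he => hne (inf_eq_left.mp he))
  obtain ⟨x, hxQ, hxP, hxN⟩ := exists_mem_normalizer_of_lt' hQp hlt
  apply hxP
  refine ⟨hxQ, mem_normalizer_of_cg_eq (cg_eq_of_cg_le ?_)⟩
  have hVP : V ≤ Q ⊓ Subgroup.normalizer (V : Set G) := le_inf hVQ Subgroup.le_normalizer
  have h1 : LLemma.cg x V ≤ Q ⊓ Subgroup.normalizer (V : Set G) := by
    have := cg_mono (g := x) hVP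
    rwa [cg_eq_of_mem_normalizer hxN] at this
  have h2 : sSup {C | C ∈ 𝒜 ∧ C ≤ V} ≤ LLemma.cg x⁻¹ V := by
    apply sSup_le
    rintro C ⟨hC, hCV⟩
    rw [le_cg_iff, inv_inv]
    have hle : LLemma.cg x C ≤ LLemma.cg x V := cg_mono hCV
    exact hno _ (hinv C hC x hxQ) (hle.trans (h1.trans inf_le_left)) (hle.trans (h1.trans inf_le_right))
  exact (cg_le_iff.mpr (hgen.trans h2))

theorem case2b {Y S N B : Subgroup G}
    (IH : ∀ Y' S' N' A' : Subgroup G, Nat.card Y' < Nat.card Y → TMin p Y' S' N' → A' ≤ S' →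
      ¬ A' ≤ pCoreOf p Y' → Concl p Y' N' A')
    (h : TMin p Y S N) (hBS : B ≤ S) (hOB : pCoreOf p Y ≤ B) (hnB : ¬ B ≤ pCoreOf p Y)
    {g₁ g₂ : G} (hg₁ : g₁ ∈ Y) (hg₂ : g₂ ∈ Y) (h1 : B ≤ LLemma.cg g₁ N) (h2 : B ≤ LLemma.cg g₂ N)
    (hne : LLemma.cg g₁ N ≠ LLemma.cg g₂ N) : Concl p Y N B := by
  have hBY : B ≤ Y := hBS.trans h.maxp.1
  have hBp : IsPGroup p B := h.maxp.2.1.to_le hBS
  let 𝒜 : Set (Subgroup G) := {C | ∃ g ∈ Y, C = LLemma.cg g B}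
  have h𝒜 : ∀ C ∈ 𝒜, ∀ x ∈ Y, LLemma.cg x C ∈ 𝒜 := by
    rintro C ⟨g, hg, rfl⟩ x hx
    exact ⟨x * g, Y.mul_mem hx hg, (cg_mul x g B).symm⟩
  have h𝒜Y : ∀ C ∈ 𝒜, C ≤ Y := by
    rintro C ⟨g, hg, rfl⟩
    have := cg_mono (g := g) hBY
    rwa [cg_eq_of_mem hg] at this
  let 𝒱 : Set (Subgroup G) := {V | V ≤ Y ∧ IsPGroup p V ∧ V ≤ sSup {C | C ∈ 𝒜 ∧ C ≤ V} ∧
    (∃ C ∈ 𝒜, C ≤ V) ∧ ∃ d₁ ∈ Y, ∃ d₂ ∈ Y, V ≤ LLemma.cg d₁ N ∧ V ≤ LLemma.cg d₂ N ∧
      LLemma.cg d₁ N ≠ LLemma.cg d₂ N}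
  have hB𝒜 : B ∈ 𝒜 := ⟨1, Y.one_mem, (cg_one B).symm⟩
  have hB𝒱 : B ∈ 𝒱 := ⟨hBY, hBp, le_sSup ⟨hB𝒜, le_rfl⟩, ⟨B, hB𝒜, le_rfl⟩, g₁, hg₁, g₂, hg₂, h1, h2, hne⟩
  obtain ⟨V, -, hV⟩ := (Set.toFinite 𝒱).exists_le_maximal hB𝒱
  obtain ⟨⟨hVY, hVp, hVgen, ⟨C₀, hC₀, hC₀V⟩, d₁, hd₁, d₂, hd₂, hVd₁, hVd₂, hdne⟩, hVmax⟩ := hV
  -- the normalizer is proper
  have hNV : Y ⊓ Subgroup.normalizer (V : Set G) ≠ Y := by
    intro he
    have hVO : V ≤ pCoreOf p Y := le_pCoreOf hVY (inf_eq_left.mp he) hVp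
    obtain ⟨g, hg, rfl⟩ := hC₀
    apply hnB
    have := cg_le_iff.mp (hC₀V.trans hVO)
    rwa [cg_eq_of_mem_normalizer (le_normalizer_pCoreOf p Y (Y.inv_mem hg))] at this
  -- bigger subgroups fix at most one point
  have hext : ∀ C ∈ 𝒜, ¬ C ≤ V → IsPGroup p (V ⊔ C : Subgroup G) → ∀ e₁ ∈ Y, ∀ e₂ ∈ Y,
      V ⊔ C ≤ LLemma.cg e₁ N → V ⊔ C ≤ LLemma.cg e₂ N → LLemma.cg e₁ N = LLemma.cg e₂ N := by
    intro C hC hCV hp e₁ he₁ e₂ he₂ hle₁ hle₂
    by_contra hcon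
    have hmem : V ⊔ C ∈ 𝒱 := by
      refine ⟨sup_le hVY (h𝒜Y C hC), hp, ?_, ⟨C, hC, le_sup_right⟩, e₁, he₁, e₂, he₂, hle₁, hle₂, hcon⟩
      apply sup_le
      · refine hVgen.trans (sSup_le_sSup ?_)
        rintro D ⟨hD, hDV⟩
        exact ⟨hD, hDV.trans le_sup_left⟩
      · exact le_sSup ⟨hC, le_sup_right⟩
    exact hCV (le_sup_right.trans (hVmax hmem le_sup_left))
  -- the key claim at every point
  have key : ∀ d ∈ Y, ∀ d' ∈ Y, V ≤ LLemma.cg d N → V ≤ LLemma.cg d' N →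
      LLemma.cg d N ≠ LLemma.cg d' N →
      ∃ e ∈ Y, LLemma.cg e N = LLemma.cg d N ∧ V ≤ LLemma.cg e S ∧ ∃ C ∈ 𝒜, C ≤ LLemma.cg e S ∧
        ¬ C ≤ V ∧ C ≤ Subgroup.normalizer (V : Set G) := by
    intro d hd d' hd' hVd hVd' hdd
    obtain ⟨e, he, heN, hVe⟩ := h.exists_point hd hVd hVp
    obtain ⟨e', he', heN', hVe'⟩ := h.exists_point hd' hVd' hVp
    refine ⟨e, he, heN, hVe, ?_⟩
    by_contra hcon
    push Not at hcon
    have hT := h.cg he
    have hQ : IsPGroup p (LLemma.cg e S) := isPGroup_cg h.maxp.2.1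
    have hQY : LLemma.cg e S ≤ Y := hT.maxp.1
    have hQn : LLemma.cg e S ≤ Subgroup.normalizer (V : Set G) := by
      apply classic hQ hVe hVgen (fun C hC x hx => h𝒜 C hC x (hQY hx))
      intro C hC hCQ hCN
      by_contra hCV
      exact hCV (by_contra fun hh => (hcon C hC hCQ hh) hCN)
    have hNd : Y ⊓ Subgroup.normalizer (V : Set G) ≤ LLemma.cg e N :=
      hT.uniq _ inf_le_left (le_inf hQY hQn) hNV
    -- now look at the other point
    have hT' := h.cg he'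
    have hQ' : IsPGroup p (LLemma.cg e' S) := isPGroup_cg h.maxp.2.1
    have hQ'Y : LLemma.cg e' S ≤ Y := hT'.maxp.1
    by_cases hex : ∃ C ∈ 𝒜, C ≤ LLemma.cg e' S ∧ ¬ C ≤ V ∧ C ≤ Subgroup.normalizer (V : Set G)
    · obtain ⟨C, hC, hCQ, hCV, hCN⟩ := hex
      have hCe : C ≤ LLemma.cg e N := (le_inf (hCQ.trans hQ'Y) hCN).trans hNd
      have hp : IsPGroup p (V ⊔ C : Subgroup G) := hQ'.to_le (sup_le hVe' hCQ)
      have := hext C hC hCV hp e he e' he' (sup_le (heN ▸ hVd) hCe)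
        (sup_le (hVe'.trans (cg_mono h.S_le)) (hCQ.trans (cg_mono h.S_le)))
      apply hdd
      rw [← heN, ← heN', this]
    · push Not at hex
      have hQ'n : LLemma.cg e' S ≤ Subgroup.normalizer (V : Set G) := by
        apply classic hQ' hVe' hVgen (fun C hC x hx => h𝒜 C hC x (hQ'Y hx))
        intro C hC hCQ hCN
        by_contra hCV
        exact hex C hC hCQ hCV hCN
      have h3 : LLemma.cg e' S ≤ LLemma.cg e N := (le_inf hQ'Y hQ'n).trans hNd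
      -- `S ≤ (e'⁻¹ e) N`
      have h4 : S ≤ LLemma.cg (e'⁻¹ * e) N := by
        rw [cg_mul]
        exact cg_le_iff.mp h3
      have h5 : e'⁻¹ * e ∈ N := h.fix_unique (Y.mul_mem (Y.inv_mem he') he) h4
      apply hdd
      rw [← heN, ← heN']
      have e6 : e = e' * (e'⁻¹ * e) := by group
      rw [e6, cg_mul, cg_eq_of_mem h5]
  obtain ⟨d₁', hd₁', hN₁, hVS₁, C₁, hC₁, hC₁S, hC₁V, hC₁N⟩ := key d₁ hd₁ d₂ hd₂ hVd₁ hVd₂ hdne
  obtain ⟨d₂', hd₂', hN₂, hVS₂, C₂, hC₂, hC₂S, hC₂V, hC₂N⟩ := key d₂ hd₂ d₁ hd₁ hVd₂ hVd₁ hdne.symm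
  have hp₁ : IsPGroup p (V ⊔ C₁ : Subgroup G) :=
    (isPGroup_cg (g := d₁') h.maxp.2.1).to_le (sup_le hVS₁ hC₁S)
  have hp₂ : IsPGroup p (V ⊔ C₂ : Subgroup G) :=
    (isPGroup_cg (g := d₂') h.maxp.2.1).to_le (sup_le hVS₂ hC₂S)
  have hR₁ : V ⊔ C₁ ≤ LLemma.cg d₁' N := (sup_le hVS₁ hC₁S).trans (cg_mono h.S_le)
  have hR₂ : V ⊔ C₂ ≤ LLemma.cg d₂' N := (sup_le hVS₂ hC₂S).trans (cg_mono h.S_le)
  have hne' : LLemma.cg d₁' N ≠ LLemma.cg d₂' N := by rw [hN₁, hN₂]; exact hdne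
  let X : Subgroup G := Y ⊓ Subgroup.normalizer (V : Set G)
  have hVX : V ≤ X := le_inf hVY Subgroup.le_normalizer
  have hR₁X : V ⊔ C₁ ≤ X := sup_le hVX (le_inf (h𝒜Y C₁ hC₁) hC₁N)
  have hR₂X : V ⊔ C₂ ≤ X := sup_le hVX (le_inf (h𝒜Y C₂ hC₂) hC₂N)
  obtain ⟨S₁, hS₁, hm₁⟩ := exists_isMaxP hR₁X hp₁
  obtain ⟨S₂, hS₂, hm₂⟩ := exists_isMaxP hR₂X hp₂
  obtain ⟨n, hn, hne₂⟩ := hm₁.exists_conj hm₂
  have hnY : n ∈ Y := hn.1
  have hS₁N : S₁ ≤ LLemma.cg d₁' N := by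
    obtain ⟨g, hg, hle⟩ := h.exists_conj_S (hm₁.1.trans inf_le_left) hm₁.2.1
    have h3 := hext C₁ hC₁ hC₁V hp₁ g hg d₁' hd₁' (hS₁.trans (hle.trans (cg_mono h.S_le))) hR₁
    rw [← h3]
    exact hle.trans (cg_mono h.S_le)
  have hX : ¬ X ≤ LLemma.cg d₁' N := by
    intro hle
    have hnN := hle hn
    have h3 : S₂ ≤ LLemma.cg (n * d₁') N := by
      rw [hne₂, cg_mul]
      exact cg_mono hS₁N
    have h4 := hext C₂ hC₂ hC₂V hp₂ (n * d₁') (Y.mul_mem hnY hd₁') d₂' hd₂' (hS₂.trans h3) hR₂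
    rw [cg_mul, cg_eq_of_mem hnN] at h4
    exact hne' h4
  -- conjugate by `y⁻¹` where `C₁ = y B y⁻¹`
  obtain ⟨y, hy, hyC⟩ := id hC₁
  have hyi : y⁻¹ ∈ Y := Y.inv_mem hy
  have hN'm : y⁻¹ * d₁' ∈ Y := Y.mul_mem hyi hd₁'
  apply Concl.of_conj hN'm
  have hT' := h.cg hN'm
  have hXY : LLemma.cg y⁻¹ X ≤ Y := by
    have := cg_mono (g := y⁻¹) (inf_le_left : X ≤ Y)
    rwa [cg_eq_of_mem hyi] at this
  refine stepZ (V := LLemma.cg y⁻¹ V) (X := LLemma.cg y⁻¹ X) IH hT' hXY ?_ (cg_mono hVX)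
    (normalizer_cg_le inf_le_right) (isPGroup_cg hVp) ?_ hBp hOB ?_ ?_
  · intro he
    apply hNV
    have := congrArg (LLemma.cg y) he
    rwa [cg_cg_inv, cg_eq_of_mem hy] at this
  · rw [le_cg_iff, inv_inv, ← hyC]
    exact le_inf (h𝒜Y _ ⟨y, hy, hyC⟩) hC₁N
  · intro g hg hle
    have e1 : LLemma.cg y⁻¹ V ⊔ B = LLemma.cg y⁻¹ (V ⊔ C₁) := by
      rw [cg_sup, hyC, cg_inv_cg]
    rw [e1] at hle
    have h3 : V ⊔ C₁ ≤ LLemma.cg (y * (g * (y⁻¹ * d₁'))) N := by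
      have := cg_le_iff.mp hle
      rw [inv_inv] at this
      rw [cg_mul y, cg_mul g]
      exact this
    have h4 := hext C₁ hC₁ hC₁V hp₁ _ (Y.mul_mem hy (Y.mul_mem hg hN'm)) d₁' hd₁' h3 hR₁
    have h5 := congrArg (LLemma.cg y⁻¹) h4
    rw [cg_mul y, cg_inv_cg, cg_mul g] at h5
    rw [h5, cg_mul]
  · intro hle
    apply hX
    have := cg_le_iff.mp hle
    rwa [inv_inv, ← cg_mul, mul_inv_cancel_left] at this

theorem main_aux (n : ℕ) : ∀ Y S N A : Subgroup G, Nat.card Y = n → TMin p Y S N → A ≤ S →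
    ¬ A ≤ pCoreOf p Y → Concl p Y N A := by
  induction n using Nat.strong_induction_on with
  | _ n ih =>
    intro Y S N A hn h hAS hnA
    have IH : ∀ Y' S' N' A' : Subgroup G, Nat.card Y' < Nat.card Y → TMin p Y' S' N' → A' ≤ S' →
        ¬ A' ≤ pCoreOf p Y' → Concl p Y' N' A' :=
      fun Y' S' N' A' hc h' h2 h3 => ih (Nat.card Y') (hn ▸ hc) Y' S' N' A' rfl h' h2 h3
    apply Concl.of_sup
    have hOS : pCoreOf p Y ≤ S :=
      h.maxp.le_of_normal (pCoreOf_le p Y) (le_normalizer_pCoreOf p Y) (isPGroup_pCoreOf p Y)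
    have hBS : A ⊔ pCoreOf p Y ≤ S := sup_le hAS hOS
    have hOB : pCoreOf p Y ≤ A ⊔ pCoreOf p Y := le_sup_right
    have hnB : ¬ A ⊔ pCoreOf p Y ≤ pCoreOf p Y := fun hle => hnA (le_sup_left.trans hle)
    generalize A ⊔ pCoreOf p Y = B at hBS hOB hnB
    by_cases hu : ∀ X : Subgroup G, X ≤ Y → B ≤ X → X ≠ Y → X ≤ N
    · apply concl_base h hBS
      intro X hX hBX hne
      exact hu X hX (le_sup_left.trans hBX) hne
    · push Not at hu
      obtain ⟨X, hXY, hBX, hXne, hXN⟩ := hu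
      by_cases h2 : ∃ g₁ ∈ Y, ∃ g₂ ∈ Y, B ≤ LLemma.cg g₁ N ∧ B ≤ LLemma.cg g₂ N ∧
          LLemma.cg g₁ N ≠ LLemma.cg g₂ N
      · obtain ⟨g₁, hg₁, g₂, hg₂, h3, h4, h5⟩ := h2
        exact case2b IH h hBS hOB hnB hg₁ hg₂ h3 h4 h5
      · push Not at h2
        refine stepZ (V := ⊥) (X := X) IH h hXY hXne bot_le ?_ IsPGroup.of_bot hBX
          (h.maxp.2.1.to_le hBS) hOB ?_ hXN
        · intro x _
          apply mem_normalizer_of_cg_eq
          exact Subgroup.map_bot _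
        · intro g hg hle
          rw [bot_sup_eq] at hle
          have h3 := h2 g hg 1 Y.one_mem hle (by rw [cg_one]; exact hBS.trans h.S_le)
          rwa [cg_one] at h3

theorem main {Y S N A : Subgroup G} (h : TMin p Y S N) (hAS : A ≤ S) (hnA : ¬ A ≤ pCoreOf p Y) :
    Concl p Y N A := main_aux _ Y S N A rfl h hAS hnA

end MaxP

end Cfsg.Agent.Lib.LLemma
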