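import Mathlib
import Cfsg.Agent.Lib.LinPoly

/-!
# Equivariant biadditive maps over a finite field of characteristic two
-/

set_option autoImplicit false
set_option linter.unusedSectionVars false
set_option linter.unusedVariables false
set_option linter.style.haveILetI false

namespace Cfsg.Agent.Lib.LinPair

open Cfsg.Agent.Lib.LinPoly

variable {F : Type*} [Field F] [Fintype F] [CharP F 2] {n : ℕ}

lemma lin_coef_add (c d : ℕ → F) (x : F) :
    lin n (fun k => c k + d k) x = lin n c x + lin n d x := by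
  unfold lin
  rw [← Finset.sum_add_distrib]
  refine Finset.sum_congr rfl fun a _ => ?_
  ring

lemma lin_scale (c : ℕ → F) (l x : F) : lin n c (l * x) = lin n (fun k => c k * l ^ 2 ^ k) x := by
  unfold lin
  refine Finset.sum_congr rfl fun a _ => ?_
  rw [mul_pow]; ring

lemma lin_mul_left (c : ℕ → F) (l x : F) : l * lin n c x = lin n (fun k => l * c k) x := by
  unfold lin
  rw [Finset.mul_sum]
  refine Finset.sum_congr rfl fun a _ => ?_
  ring

lemma lin_mul_right (c : ℕ → F) (m x : F) : lin n c x * m = lin n (fun k => c k * m) x := by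
  unfold lin
  rw [Finset.sum_mul]
  refine Finset.sum_congr rfl fun a _ => ?_
  ring

/-- An element different from one. -/
lemma exists_ne_one (hF : Fintype.card F = 2 ^ n) (hn : 2 ≤ n) : ∃ u : Fˣ, u ≠ 1 := by
  classical
  by_contra hne
  push Not at hne
  have h1 : Fintype.card Fˣ = 1 := Fintype.card_eq_one_iff.mpr ⟨1, hne⟩
  rw [Fintype.card_units, hF] at h1
  have : 2 ^ 2 ≤ 2 ^ n := Nat.pow_le_pow_right (by norm_num) hn
  omega

/-- An alternating equivariant biadditive map vanishes. -/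
theorem alt_eq_zero (hF : Fintype.card F = 2 ^ n) (hn : 2 ≤ n) (B : F → F → F)
    (h1 : ∀ x y z, B (x + y) z = B x z + B y z) (h2 : ∀ x y z, B x (y + z) = B x y + B x z)
    (h3 : ∀ l x y, l ≠ 0 → B (l * x) (l * y) = l * B x y) (h4 : ∀ x, B x x = 0) :
    ∀ x y, B x y = 0 := by
  classical
  have hex : ∀ y, ∃ c : ℕ → F, ∀ x, B x y = lin n c x := fun y =>
    exists_lin hF (fun x => B x y) (fun a b => h1 a b y)
  choose C hC using hex
  have hadd : ∀ y z, ∀ k < n, C (y + z) k = C y k + C z k := by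
    intro y z k hk
    exact lin_inj hF (c := C (y + z)) (d := fun k => C y k + C z k) (fun x => by
      rw [lin_coef_add, ← hC, ← hC, ← hC, h2]) k hk
  have heq : ∀ l : F, l ≠ 0 → ∀ y, ∀ k < n, C (l * y) k * l ^ 2 ^ k = l * C y k := by
    intro l hl y k hk
    exact lin_inj hF (c := fun k => C (l * y) k * l ^ 2 ^ k) (d := fun k => l * C y k) (fun x => by
      have e1 := h3 l x y hl
      rw [hC, hC, lin_scale, lin_mul_left] at e1
      exact e1) k hk
  have hex2 : ∀ k, ∃ d : ℕ → F, k < n → ∀ y, C y k = lin n d y := by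
    intro k
    by_cases hk : k < n
    · obtain ⟨d, hd⟩ := exists_lin hF (fun y => C y k) (fun a b => hadd a b k hk)
      exact ⟨d, fun _ => hd⟩
    · exact ⟨0, fun h => absurd h hk⟩
  choose D hD using hex2
  -- the only possible coefficient
  have hcoef : ∀ k < n, ∀ b < n, D k b ≠ 0 → b = n - 1 ∧ k = n - 1 := by
    intro k hk b hb hne
    apply sum_eq_one hn hb hk
    have hx : ∀ l : F, l ≠ 0 → l ^ (2 ^ b + 2 ^ k) = l ^ 1 := by
      intro l hl
      have e1 := lin_inj hF (c := fun b => D k b * l ^ 2 ^ b * l ^ 2 ^ k) (d := fun b => l * D k b)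
        (fun y => by
          have e2 := heq l hl y k hk
          rw [hD k hk, hD k hk, lin_scale, lin_mul_right, lin_mul_left] at e2
          exact e2) b hb
      have e3 : D k b * (l ^ 2 ^ b * l ^ 2 ^ k) = D k b * l := by
        calc D k b * (l ^ 2 ^ b * l ^ 2 ^ k) = D k b * l ^ 2 ^ b * l ^ 2 ^ k := by ring
          _ = l * D k b := e1
          _ = D k b * l := by ring
      have e4 := mul_left_cancel₀ hne e3
      rw [pow_add, e4, pow_one]
    exact modEq_of_pow_eq hF hx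
  have hn1 : n - 1 < n := by omega
  -- the formula
  have hform : ∀ x y, B x y = D (n - 1) (n - 1) * y ^ 2 ^ (n - 1) * x ^ 2 ^ (n - 1) := by
    intro x y
    rw [hC]
    unfold lin
    rw [Finset.sum_eq_single (n - 1)]
    · rw [hD _ hn1]
      unfold lin
      rw [Finset.sum_eq_single (n - 1)]
      · intro b hb hne
        by_cases h0 : D (n - 1) b = 0
        · rw [h0, zero_mul]
        · exact absurd (hcoef _ hn1 b (Finset.mem_range.mp hb) h0).1 hne
      · intro h0
        exact absurd (Finset.mem_range.mpr hn1) h0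
    · intro k hk hne
      rw [hD _ (Finset.mem_range.mp hk)]
      have : lin n (D k) y = 0 := by
        unfold lin
        refine Finset.sum_eq_zero fun b hb => ?_
        by_cases h0 : D k b = 0
        · rw [h0, zero_mul]
        · exact absurd (hcoef _ (Finset.mem_range.mp hk) b (Finset.mem_range.mp hb) h0).2 hne
      rw [this, zero_mul]
    · intro h0
      exact absurd (Finset.mem_range.mpr hn1) h0
  have h0 : D (n - 1) (n - 1) = 0 := by
    have := hform 1 1
    rw [h4] at this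
    simpa using this.symm
  intro x y
  rw [hform, h0]
  ring

section monomial

variable {A P : Type*} [CommGroup A] [Group P] [MulDistribMulAction A P]

/-- Main lemma: an equivariant biadditive pairing of a type-one module with an irreducible section
is a monomial, so has no zero divisors. -/
theorem monomial (hF : Fintype.card F = 2 ^ n) (hn : 2 ≤ n) (χ : A →* Fˣ)
    (hχ : Function.Bijective χ) (f : P → F → F) (M F₀ : Subgroup P) (hMF : M ≤ F₀)
    (hMinv : ∀ a : A, ∀ g ∈ M, a • g ∈ M)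
    (hF₀ : ∀ a : A, ∀ g ∈ F₀, a • g ∈ F₀)
    (add1 : ∀ g ∈ F₀, ∀ x y, f g (x + y) = f g x + f g y)
    (add2 : ∀ g ∈ F₀, ∀ h ∈ F₀, ∀ x, f (g * h) x = f g x + f h x)
    (fM : ∀ g ∈ M, ∀ x, f g x = 0)
    (feq : ∀ a : A, ∀ g ∈ F₀, ∀ y, f (a • g) ((χ a : F) * y) = (χ a : F) * f g y)
    (hmax : ∀ L : Subgroup P, (∀ a : A, ∀ x ∈ L, a • x ∈ L) → M ≤ L → L ≤ F₀ → L = M ∨ L = F₀)
    (hfree : ∀ a : A, a ≠ 1 → ∀ g ∈ F₀, (a • g) * g⁻¹ ∈ M → g ∈ M)
    (hne : ∃ g ∈ F₀, ∃ x, f g x ≠ 0) :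
    ∃ k, 0 < k ∧ k < n ∧ ∃ c : P → F, (∀ g ∈ F₀, ∀ y, f g y = c g * y ^ 2 ^ k) ∧
      (∀ g ∈ F₀, g ∉ M → c g ≠ 0) ∧ (∀ g ∈ F₀, ∀ h ∈ F₀, c (g * h) = c g + c h) ∧
      (∀ u, ∃ g ∈ F₀, c g = u) ∧
      (∀ a : A, ∀ g ∈ F₀, c (a • g) * (χ a : F) ^ 2 ^ k = (χ a : F) * c g) := by
  classical
  have hex : ∀ g : P, ∃ c : ℕ → F, g ∈ F₀ → ∀ x, f g x = lin n c x := by
    intro g
    by_cases hg : g ∈ F₀
    · obtain ⟨c, hc⟩ := exists_lin hF (f g) (add1 g hg)
      exact ⟨c, fun _ => hc⟩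
    · exact ⟨0, fun h => absurd h hg⟩
  choose C hC using hex
  have hadd : ∀ g ∈ F₀, ∀ h ∈ F₀, ∀ k < n, C (g * h) k = C g k + C h k := by
    intro g hg h hh k hk
    exact lin_inj hF (c := C (g * h)) (d := fun k => C g k + C h k) (fun x => by
      rw [lin_coef_add, ← hC _ hg, ← hC _ hh, ← hC _ (F₀.mul_mem hg hh), add2 g hg h hh]) k hk
  have hCM : ∀ g ∈ M, ∀ k < n, C g k = 0 := by
    intro g hg k hk
    exact lin_eq_zero hF (C g) (fun x => by rw [← hC _ (hMF hg), fM g hg]) k hk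
  have heq : ∀ a : A, ∀ g ∈ F₀, ∀ k < n, C (a • g) k * (χ a : F) ^ 2 ^ k = (χ a : F) * C g k := by
    intro a g hg k hk
    exact lin_inj hF (c := fun k => C (a • g) k * (χ a : F) ^ 2 ^ k) (d := fun k => (χ a : F) * C g k)
      (fun x => by
        have e1 := feq a g hg x
        rw [hC _ (hF₀ a g hg), hC _ hg, lin_scale, lin_mul_left] at e1
        exact e1) k hk
  have hinv : ∀ g ∈ F₀, ∀ k < n, C g⁻¹ k = - C g k := by
    intro g hg k hk
    have h1 := hadd g hg g⁻¹ (F₀.inv_mem hg) k hk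
    rw [mul_inv_cancel, hCM 1 M.one_mem k hk] at h1
    exact (neg_eq_of_add_eq_zero_right h1.symm).symm
  -- the kernels
  let L : ∀ k, k < n → Subgroup P := fun k hk =>
    { carrier := {g | g ∈ F₀ ∧ C g k = 0}
      one_mem' := ⟨F₀.one_mem, hCM 1 M.one_mem k hk⟩
      mul_mem' := by
        rintro g h ⟨hg, hg0⟩ ⟨hh, hh0⟩
        exact ⟨F₀.mul_mem hg hh, by rw [hadd g hg h hh k hk, hg0, hh0, add_zero]⟩
      inv_mem' := by
        rintro g ⟨hg, hg0⟩
        exact ⟨F₀.inv_mem hg, by rw [hinv g hg k hk, hg0, neg_zero]⟩ }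
  have hLinv : ∀ k (hk : k < n), ∀ a : A, ∀ x ∈ L k hk, a • x ∈ L k hk := by
    rintro k hk a x ⟨hx, hx0⟩
    refine ⟨hF₀ a x hx, ?_⟩
    have h1 := heq a x hx k hk
    rw [hx0, mul_zero] at h1
    rcases mul_eq_zero.mp h1 with h2 | h2
    · exact h2
    · exact absurd h2 (pow_ne_zero _ (χ a).ne_zero)
  have hML : ∀ k (hk : k < n), M ≤ L k hk := fun k hk g hg => ⟨hMF hg, hCM g hg k hk⟩
  have hLF : ∀ k (hk : k < n), L k hk ≤ F₀ := fun k hk g hg => hg.1
  have hcase : ∀ k (hk : k < n), L k hk = M ∨ L k hk = F₀ := fun k hk =>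
    hmax _ (hLinv k hk) (hML k hk) (hLF k hk)
  -- consequences
  have hCeqM : ∀ k (hk : k < n), L k hk = M → ∀ g ∈ F₀, C g k = 0 → g ∈ M := by
    intro k hk h g hg h0
    rw [← h]
    exact ⟨hg, h0⟩
  have hCvan : ∀ k (hk : k < n), L k hk = F₀ → ∀ g ∈ F₀, C g k = 0 := by
    intro k hk h g hg
    rw [← h] at hg
    exact hg.2
  obtain ⟨u₀, hu₀⟩ := exists_ne_one hF hn
  obtain ⟨a₀, ha₀⟩ := hχ.2 u₀
  have ha₀1 : a₀ ≠ 1 := by
    rintro rfl
    rw [map_one] at ha₀
    exact hu₀ ha₀.symm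
  -- no zero exponent
  have hnz : ∀ k (hk : k < n), L k hk = M → ∀ g ∈ F₀, g ∉ M → k ≠ 0 := by
    rintro k hk hL g hg hgM rfl
    have h1 := heq a₀ g hg 0 hk
    simp only [pow_zero, pow_one] at h1
    have h2 : C (a₀ • g) 0 = C g 0 := by
      rw [mul_comm] at h1
      exact mul_left_cancel₀ (χ a₀).ne_zero h1
    apply hgM
    apply hfree a₀ ha₀1 g hg
    apply hCeqM 0 hk hL _ (F₀.mul_mem (hF₀ a₀ g hg) (F₀.inv_mem hg))
    rw [hadd _ (hF₀ a₀ g hg) _ (F₀.inv_mem hg) 0 hk, hinv g hg 0 hk, h2, add_neg_cancel]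
  -- some exponent
  obtain ⟨g₀, hg₀, x₀, hx₀⟩ := hne
  rw [hC _ hg₀] at hx₀
  obtain ⟨k, hkm, hk0⟩ : ∃ k ∈ Finset.range n, C g₀ k * x₀ ^ 2 ^ k ≠ 0 :=
    Finset.exists_ne_zero_of_sum_ne_zero hx₀
  have hk : k < n := Finset.mem_range.mp hkm
  have hCk : C g₀ k ≠ 0 := fun h => hk0 (by rw [h, zero_mul])
  have hLk : L k hk = M := by
    rcases hcase k hk with h | h
    · exact h
    · exact absurd (hCvan k hk h g₀ hg₀) hCk
  have hg₀M : g₀ ∉ M := fun h => hCk (hCM g₀ h k hk)
  have hk0' := hnz k hk hLk g₀ hg₀ hg₀M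
  -- surjectivity
  have hMsm : ∀ a : A, ∀ g, a • g ∈ M → g ∈ M := by
    intro a g h
    have := hMinv a⁻¹ _ h
    simpa using this
  have hsurj : ∀ u, ∃ g ∈ F₀, C g k = u := by
    intro u
    by_cases hu : u = 0
    · exact ⟨1, F₀.one_mem, by rw [hu]; exact hCM 1 M.one_mem k hk⟩
    let e : A ≃ Fˣ := Equiv.ofBijective χ hχ
    have hnzg : ∀ a : A, C (a • g₀) k ≠ 0 := fun a h =>
      hg₀M (hMsm a _ (hCeqM k hk hLk _ (hF₀ a g₀ hg₀) h))
    let φ : Fˣ → Fˣ := fun v => Units.mk0 (C (e.symm v • g₀) k) (hnzg _)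
    have hφ : Function.Injective φ := by
      intro v w h
      have h1 : C (e.symm v • g₀) k = C (e.symm w • g₀) k := congrArg Units.val h
      by_contra hvw
      have hne' : e.symm v ≠ e.symm w := fun h => hvw (e.symm.injective h)
      set a := e.symm v
      set b := e.symm w
      have hab : a * b⁻¹ ≠ 1 := fun h => hne' (mul_inv_eq_one.mp h)
      have hbg : b • g₀ ∈ F₀ := hF₀ b g₀ hg₀
      have h2 : ((a * b⁻¹) • (b • g₀)) * (b • g₀)⁻¹ ∈ M := by
        apply hCeqM k hk hLk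
        · exact F₀.mul_mem (hF₀ _ _ hbg) (F₀.inv_mem hbg)
        · rw [hadd _ (hF₀ _ _ hbg) _ (F₀.inv_mem hbg) k hk, hinv _ hbg k hk, smul_smul,
            inv_mul_cancel_right, h1, add_neg_cancel]
      exact hg₀M (hMsm b _ (hfree _ hab _ hbg h2))
    have hφs : Function.Surjective φ := Finite.surjective_of_injective hφ
    obtain ⟨v, hv⟩ := hφs (Units.mk0 u hu)
    refine ⟨e.symm v • g₀, hF₀ _ _ hg₀, ?_⟩
    exact congrArg Units.val hv
  choose σ hσF hσ using hsurj
  -- uniqueness of the exponent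
  have huniq : ∀ k' (hk' : k' < n), k' ≠ k → ∀ g ∈ F₀, C g k' = 0 := by
    intro k' hk' hne' g hg
    rcases hcase k' hk' with h | h
    swap
    · exact hCvan k' hk' h g hg
    exfalso
    have hk'0 := hnz k' hk' h g₀ hg₀ hg₀M
    -- the transition function
    have hwell : ∀ g ∈ F₀, C (σ (C g k)) k' = C g k' := by
      intro g hg
      have hm : σ (C g k) * g⁻¹ ∈ M := by
        apply hCeqM k hk hLk _ (F₀.mul_mem (hσF _) (F₀.inv_mem hg))
        rw [hadd _ (hσF _) _ (F₀.inv_mem hg) k hk, hinv g hg k hk, hσ, add_neg_cancel]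
      have h1 := hCM _ hm k' hk'
      rw [hadd _ (hσF _) _ (F₀.inv_mem hg) k' hk', hinv g hg k' hk'] at h1
      exact (add_neg_eq_zero.mp h1)
    let tr : F → F := fun u => C (σ u) k'
    have htr : ∀ x y, tr (x + y) = tr x + tr y := by
      intro x y
      have h1 := hwell (σ x * σ y) (F₀.mul_mem (hσF x) (hσF y))
      rw [hadd _ (hσF x) _ (hσF y) k hk, hσ, hσ, hadd _ (hσF x) _ (hσF y) k' hk'] at h1
      exact h1
    obtain ⟨d, hd⟩ := exists_lin hF tr htr
    -- the transition function is nonzero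
    have hgne : ∃ g ∈ F₀, C g k' ≠ 0 := by
      by_contra hall
      push Not at hall
      have : F₀ ≤ M := fun g hg => by
        rw [← h]
        exact ⟨hg, hall g hg⟩
      exact hg₀M (this hg₀)
    obtain ⟨g', hg', hg'0⟩ := hgne
    have htr0 : tr (C g' k) ≠ 0 := by
      show C (σ (C g' k)) k' ≠ 0
      rw [hwell g' hg']
      exact hg'0
    rw [hd] at htr0
    unfold lin at htr0
    obtain ⟨b, hbm, hb0⟩ := Finset.exists_ne_zero_of_sum_ne_zero htr0
    have hb : b < n := Finset.mem_range.mp hbm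
    have hdb : d b ≠ 0 := fun h => hb0 (by rw [h, zero_mul])
    apply hne'
    apply unique_exp hn (Nat.pos_of_ne_zero hk0') hk (Nat.pos_of_ne_zero hk'0) hk'
    apply modEq_of_pow_eq hF
    intro l hl
    -- the unit
    obtain ⟨a, ha⟩ := hχ.2 (Units.mk0 l hl)
    have hal : (χ a : F) = l := by rw [ha]; rfl
    have hl2 : l ^ 2 ^ k ≠ 0 := pow_ne_zero _ hl
    set μ : F := l * (l ^ 2 ^ k)⁻¹ with hμ
    have hcoef : ∀ u : F, tr (μ * u) * l ^ 2 ^ k' = l * tr u := by
      intro u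
      have hg := hσF u
      have h1 := heq a _ hg k hk
      have h2 := heq a _ hg k' hk'
      rw [hal, hσ] at h1
      rw [hal] at h2
      have h3 : C (a • σ u) k = μ * u := by
        rw [hμ]
        field_simp
        linear_combination h1
      have h4 := hwell _ (hF₀ a _ hg)
      rw [h3] at h4
      show C (σ (μ * u)) k' * l ^ 2 ^ k' = l * C (σ u) k'
      rw [h4, h2]
    have h5 := lin_inj hF (c := fun b => d b * μ ^ 2 ^ b * l ^ 2 ^ k') (d := fun b => l * d b)
      (fun u => by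
        have e2 := hcoef u
        rw [hd, hd, lin_scale, lin_mul_right, lin_mul_left] at e2
        exact e2) b hb
    have h6 : μ ^ 2 ^ b * l ^ 2 ^ k' = l := by
      apply mul_left_cancel₀ hdb
      calc d b * (μ ^ 2 ^ b * l ^ 2 ^ k') = d b * μ ^ 2 ^ b * l ^ 2 ^ k' := by ring
        _ = l * d b := h5
        _ = d b * l := by ring
    have h7 : μ ^ 2 ^ b = l ^ 2 ^ b * (l ^ 2 ^ (k + b))⁻¹ := by
      rw [hμ, mul_pow, inv_pow, ← pow_mul, ← pow_add]
    rw [h7] at h6
    have hl3 : l ^ 2 ^ (k + b) ≠ 0 := pow_ne_zero _ hl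
    have h8 : l ^ (2 ^ b + 2 ^ k') = l ^ (1 + 2 ^ (k + b)) := by
      rw [pow_add, pow_add, pow_one]
      field_simp at h6
      linear_combination h6
    exact h8
  refine ⟨k, Nat.pos_of_ne_zero hk0', hk, fun g => C g k, ?_, ?_, ?_, ?_, ?_⟩
  · intro g hg y
    rw [hC g hg]
    unfold lin
    rw [Finset.sum_eq_single k]
    · intro k' hk' hne'
      rw [huniq k' (Finset.mem_range.mp hk') hne' g hg, zero_mul]
    · intro h0
      exact absurd hkm h0
  · intro g hg hgM h0
    exact hgM (hCeqM k hk hLk g hg h0)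
  · intro g hg h hh
    exact hadd g hg h hh k hk
  · intro u
    exact ⟨σ u, hσF u, hσ u⟩
  · intro a g hg
    exact heq a g hg k hk

end monomial

end Cfsg.Agent.Lib.LinPair
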