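import Mathlib
import Cfsg.Agent.Lib.ChevG25
import Cfsg.Agent.Lib.TcChain
import Cfsg.Agent.TcData.Ly.R1.Up
import Cfsg.Agent.TcData.Ly.R2.Up
import Cfsg.Agent.TcData.Ly.R3.Up
import Cfsg.Agent.S1059
import Cfsg.Agent.S1055

/-!
# The subgroup `⟨a, b, c, d⟩` of the presented Lyons group

The group presented by the relators on `a, b, c, d, e, c1, …, c5` has order at most `|G₂(5)|` (three coset enumerations) and maps onto `G₂(5)`,
which is simple; so it is `G₂(5)`, and so is each of its nontrivial quotients.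
-/

set_option autoImplicit false
set_option maxRecDepth 100000
set_option linter.all false

namespace Cfsg.Agent.Lib.LyG25

open Cfsg Cfsg.Spor Cfsg.Lie Cfsg.Agent.Lib.TcFacts Cfsg.Agent.Lib.TcBits Cfsg.Agent.Lib.TcPres Cfsg.Agent.Lib.TcRel
  Cfsg.Agent.Lib.TcChain Cfsg.Spor.Ly Cfsg.Agent.Lib.ChevG25 Cfsg.Agent.Lib.FpVec

/-- The relators on `a, b, c, d, e, c1, …, c5`. -/
abbrev RS : Set (FreeGroup Gen) := coxRelators edges ∪ {r | r ∈ Cfsg.Agent.TcData.Ly.R1.extraS}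

theorem relS_of_mem {r : FreeGroup Gen} (h : r ∈ Cfsg.Agent.TcData.Ly.R1.relLS) : PresentedGroup.mk RS r = 1 :=
  relAll_spec (by decide) r h

theorem mem_R1 (r : FreeGroup Gen) (h : r ∈ Cfsg.Agent.TcData.Ly.R1.relLS) : r ∈ Cfsg.Agent.TcData.Ly.R1.relLS := h
theorem mem_R2 : ∀ r ∈ Cfsg.Agent.TcData.Ly.R2.relLS, r ∈ Cfsg.Agent.TcData.Ly.R1.relLS := by decide +kernel
theorem mem_R3 : ∀ r ∈ Cfsg.Agent.TcData.Ly.R3.relLS, r ∈ Cfsg.Agent.TcData.Ly.R1.relLS := by decide +kernel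

theorem hb_R1 : ∀ a, a ≤ 20 → Cfsg.Agent.TcData.Ly.R1.base a = true →
    a < 20 ∧ PresentedGroup.mk RS (Cfsg.Agent.TcData.Ly.R1.gLS.getD a 1) ∈ subOf RS Cfsg.Agent.TcData.Ly.R1.TL := by
  intro a _ h
  have h2 : a ∈ Cfsg.Agent.TcData.Ly.R1.baseL := by simpa [Cfsg.Agent.TcData.Ly.R1.base] using h
  simp only [Cfsg.Agent.TcData.Ly.R1.baseL, List.mem_cons, List.not_mem_nil, or_false] at h2
  rcases h2 with rfl | rfl | rfl | rfl | rfl | rfl | rfl | rfl
  exacts [⟨by decide, Subgroup.subset_closure ⟨.a, by simp [Cfsg.Agent.TcData.Ly.R1.TL], rfl⟩⟩,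
      ⟨by decide, Subgroup.subset_closure ⟨.b, by simp [Cfsg.Agent.TcData.Ly.R1.TL], rfl⟩⟩,
      ⟨by decide, Subgroup.subset_closure ⟨.c, by simp [Cfsg.Agent.TcData.Ly.R1.TL], rfl⟩⟩,
      ⟨by decide, Subgroup.subset_closure ⟨.c1, by simp [Cfsg.Agent.TcData.Ly.R1.TL], rfl⟩⟩,
      ⟨by decide, Subgroup.subset_closure ⟨.c2, by simp [Cfsg.Agent.TcData.Ly.R1.TL], rfl⟩⟩,
      ⟨by decide, Subgroup.subset_closure ⟨.c3, by simp [Cfsg.Agent.TcData.Ly.R1.TL], rfl⟩⟩,
      ⟨by decide, Subgroup.subset_closure ⟨.c4, by simp [Cfsg.Agent.TcData.Ly.R1.TL], rfl⟩⟩,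
      ⟨by decide, Subgroup.subset_closure ⟨.c5, by simp [Cfsg.Agent.TcData.Ly.R1.TL], rfl⟩⟩]

theorem hl_R1 : ∀ x ∈ Cfsg.Agent.TcData.Ly.R1.SL, ∀ b, letter RS Cfsg.Agent.TcData.Ly.R1.gLS Cfsg.Agent.TcData.Ly.R1.macros (Cfsg.Agent.TcData.Ly.R1.encS x b) =
    cond b (PresentedGroup.of x) (PresentedGroup.of x)⁻¹ := by
  intro x hx b
  simp only [Cfsg.Agent.TcData.Ly.R1.SL, List.mem_cons, List.not_mem_nil, or_false] at hx
  rcases hx with rfl | rfl | rfl | rfl | rfl | rfl | rfl | rfl | rfl | rfl <;> cases b <;>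
    first
      | rfl
      | exact map_inv _ _
      | exact (inv_of_node (by decide)).symm

theorem rel_R1 : ∀ r ∈ Cfsg.Agent.TcData.Ly.R1.relLS, PresentedGroup.mk RS r = 1 := fun r hr => relS_of_mem (mem_R1 r hr)

theorem ix_R1 : (subOf RS Cfsg.Agent.TcData.Ly.R1.TL).relIndex (subOf RS Cfsg.Agent.TcData.Ly.R1.SL) ≠ 0 ∧
    (subOf RS Cfsg.Agent.TcData.Ly.R1.TL).relIndex (subOf RS Cfsg.Agent.TcData.Ly.R1.SL) ≤ 3906 :=
  relIndex_le (subOf RS Cfsg.Agent.TcData.Ly.R1.TL) Cfsg.Agent.TcData.Ly.R1.SL (subOf_mono (by decide)) Cfsg.Agent.TcData.Ly.R1.gLS Cfsg.Agent.TcData.Ly.R1.macros Cfsg.Agent.TcData.Ly.R1.relLS Cfsg.Agent.TcData.Ly.R1.encS hl_R1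
    Cfsg.Agent.TcData.Ly.R1.hLS rel_R1 Cfsg.Agent.TcData.Ly.R1.hrelW (by simp [Cfsg.Agent.TcData.Ly.R1.macros]) (by intro s hs; simp [Cfsg.Agent.TcData.Ly.R1.macros] at hs)
    Cfsg.Agent.TcData.Ly.R1.ent Cfsg.Agent.TcData.Ly.R1.pa Cfsg.Agent.TcData.Ly.R1.wd Cfsg.Agent.TcData.Ly.R1.side Cfsg.Agent.TcData.Ly.R1.base
    20 8191 13 24 4607 5 31 8 19 2047 732 8192 131072 3906 rfl
    (by norm_num) hb_R1 Cfsg.Agent.TcData.Ly.R1.Rels Cfsg.Agent.TcData.Ly.R1.hRels Cfsg.Agent.TcData.Ly.R1.hint Cfsg.Agent.TcData.Ly.R1.hw (by norm_num) Cfsg.Agent.TcData.Ly.R1.c17 Cfsg.Agent.TcData.Ly.R1.h1alive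

theorem hb_R2 : ∀ a, a ≤ 16 → Cfsg.Agent.TcData.Ly.R2.base a = true →
    a < 16 ∧ PresentedGroup.mk RS (Cfsg.Agent.TcData.Ly.R2.gLS.getD a 1) ∈ subOf RS Cfsg.Agent.TcData.Ly.R2.TL := by
  intro a _ h
  have h2 : a ∈ Cfsg.Agent.TcData.Ly.R2.baseL := by simpa [Cfsg.Agent.TcData.Ly.R2.base] using h
  simp only [Cfsg.Agent.TcData.Ly.R2.baseL, List.mem_cons, List.not_mem_nil, or_false] at h2
  rcases h2 with rfl | rfl
  exacts [⟨by decide, Subgroup.subset_closure ⟨.a, by simp [Cfsg.Agent.TcData.Ly.R2.TL], rfl⟩⟩,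
      ⟨by decide, Subgroup.subset_closure ⟨.b, by simp [Cfsg.Agent.TcData.Ly.R2.TL], rfl⟩⟩]

theorem hl_R2 : ∀ x ∈ Cfsg.Agent.TcData.Ly.R2.SL, ∀ b, letter RS Cfsg.Agent.TcData.Ly.R2.gLS Cfsg.Agent.TcData.Ly.R2.macros (Cfsg.Agent.TcData.Ly.R2.encS x b) =
    cond b (PresentedGroup.of x) (PresentedGroup.of x)⁻¹ := by
  intro x hx b
  simp only [Cfsg.Agent.TcData.Ly.R2.SL, List.mem_cons, List.not_mem_nil, or_false] at hx
  rcases hx with rfl | rfl | rfl | rfl | rfl | rfl | rfl | rfl <;> cases b <;>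
    first
      | rfl
      | exact map_inv _ _
      | exact (inv_of_node (by decide)).symm

theorem rel_R2 : ∀ r ∈ Cfsg.Agent.TcData.Ly.R2.relLS, PresentedGroup.mk RS r = 1 := fun r hr => relS_of_mem (mem_R2 r hr)

theorem ix_R2 : (subOf RS Cfsg.Agent.TcData.Ly.R2.TL).relIndex (subOf RS Cfsg.Agent.TcData.Ly.R2.SL) ≠ 0 ∧
    (subOf RS Cfsg.Agent.TcData.Ly.R2.TL).relIndex (subOf RS Cfsg.Agent.TcData.Ly.R2.SL) ≤ 3125 :=
  relIndex_le (subOf RS Cfsg.Agent.TcData.Ly.R2.TL) Cfsg.Agent.TcData.Ly.R2.SL (subOf_mono (by decide)) Cfsg.Agent.TcData.Ly.R2.gLS Cfsg.Agent.TcData.Ly.R2.macros Cfsg.Agent.TcData.Ly.R2.relLS Cfsg.Agent.TcData.Ly.R2.encS hl_R2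
    Cfsg.Agent.TcData.Ly.R2.hLS rel_R2 Cfsg.Agent.TcData.Ly.R2.hrelW (by simp [Cfsg.Agent.TcData.Ly.R2.macros]) (by intro s hs; simp [Cfsg.Agent.TcData.Ly.R2.macros] at hs)
    Cfsg.Agent.TcData.Ly.R2.ent Cfsg.Agent.TcData.Ly.R2.pa Cfsg.Agent.TcData.Ly.R2.wd Cfsg.Agent.TcData.Ly.R2.side Cfsg.Agent.TcData.Ly.R2.base
    16 4095 12 21 3327 5 31 8 12 511 322 4096 65536 3125 rfl
    (by norm_num) hb_R2 Cfsg.Agent.TcData.Ly.R2.Rels Cfsg.Agent.TcData.Ly.R2.hRels Cfsg.Agent.TcData.Ly.R2.hint Cfsg.Agent.TcData.Ly.R2.hw (by norm_num) Cfsg.Agent.TcData.Ly.R2.c12 Cfsg.Agent.TcData.Ly.R2.h1alive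

theorem hb_R3 : ∀ a, a ≤ 4 → Cfsg.Agent.TcData.Ly.R3.base a = true →
    a < 4 ∧ PresentedGroup.mk RS (Cfsg.Agent.TcData.Ly.R3.gLS.getD a 1) ∈ subOf RS Cfsg.Agent.TcData.Ly.R3.TL := by
  intro a _ h
  have h2 : a ∈ Cfsg.Agent.TcData.Ly.R3.baseL := by simpa [Cfsg.Agent.TcData.Ly.R3.base] using h
  simp [Cfsg.Agent.TcData.Ly.R3.baseL] at h2

theorem hl_R3 : ∀ x ∈ Cfsg.Agent.TcData.Ly.R3.SL, ∀ b, letter RS Cfsg.Agent.TcData.Ly.R3.gLS Cfsg.Agent.TcData.Ly.R3.macros (Cfsg.Agent.TcData.Ly.R3.encS x b) =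
    cond b (PresentedGroup.of x) (PresentedGroup.of x)⁻¹ := by
  intro x hx b
  simp only [Cfsg.Agent.TcData.Ly.R3.SL, List.mem_cons, List.not_mem_nil, or_false] at hx
  rcases hx with rfl | rfl <;> cases b <;>
    first
      | rfl
      | exact map_inv _ _
      | exact (inv_of_node (by decide)).symm

theorem rel_R3 : ∀ r ∈ Cfsg.Agent.TcData.Ly.R3.relLS, PresentedGroup.mk RS r = 1 := fun r hr => relS_of_mem (mem_R3 r hr)

theorem ix_R3 : (subOf RS Cfsg.Agent.TcData.Ly.R3.TL).relIndex (subOf RS Cfsg.Agent.TcData.Ly.R3.SL) ≠ 0 ∧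
    (subOf RS Cfsg.Agent.TcData.Ly.R3.TL).relIndex (subOf RS Cfsg.Agent.TcData.Ly.R3.SL) ≤ 480 :=
  relIndex_le (subOf RS Cfsg.Agent.TcData.Ly.R3.TL) Cfsg.Agent.TcData.Ly.R3.SL (subOf_mono (by decide)) Cfsg.Agent.TcData.Ly.R3.gLS Cfsg.Agent.TcData.Ly.R3.macros Cfsg.Agent.TcData.Ly.R3.relLS Cfsg.Agent.TcData.Ly.R3.encS hl_R3
    Cfsg.Agent.TcData.Ly.R3.hLS rel_R3 Cfsg.Agent.TcData.Ly.R3.hrelW (by simp [Cfsg.Agent.TcData.Ly.R3.macros]) (by intro s hs; simp [Cfsg.Agent.TcData.Ly.R3.macros] at hs)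
    Cfsg.Agent.TcData.Ly.R3.ent Cfsg.Agent.TcData.Ly.R3.pa Cfsg.Agent.TcData.Ly.R3.wd Cfsg.Agent.TcData.Ly.R3.side Cfsg.Agent.TcData.Ly.R3.base
    4 511 9 16 511 3 7 8 13 127 40 512 2048 480 rfl
    (by norm_num) hb_R3 Cfsg.Agent.TcData.Ly.R3.Rels Cfsg.Agent.TcData.Ly.R3.hRels Cfsg.Agent.TcData.Ly.R3.hint Cfsg.Agent.TcData.Ly.R3.hw (by norm_num) Cfsg.Agent.TcData.Ly.R3.c1 Cfsg.Agent.TcData.Ly.R3.h1alive


theorem t0 : Nat.card (subOf RS ([] : List Gen)) ≠ 0 ∧ Nat.card (subOf RS ([] : List Gen)) ≤ 1 := tower_nil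

theorem t1 : Nat.card (subOf RS Cfsg.Agent.TcData.Ly.R3.SL) ≠ 0 ∧ Nat.card (subOf RS Cfsg.Agent.TcData.Ly.R3.SL) ≤ 1 * 480 :=
  tower_step (subOf_mono (by decide)) t0 ix_R3

theorem t2 : Nat.card (subOf RS Cfsg.Agent.TcData.Ly.R2.SL) ≠ 0 ∧ Nat.card (subOf RS Cfsg.Agent.TcData.Ly.R2.SL) ≤ 1 * 480 * 3125 :=
  tower_step (subOf_mono (by decide)) t1 ix_R2

theorem t3 : Nat.card (subOf RS Cfsg.Agent.TcData.Ly.R1.SL) ≠ 0 ∧ Nat.card (subOf RS Cfsg.Agent.TcData.Ly.R1.SL) ≤ 1 * 480 * 3125 * 3906 :=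
  tower_step (subOf_mono (by decide)) t2 ix_R1

/-- A subgroup of order at most that of a simple group it maps onto is isomorphic to it, and to all of its nontrivial images. -/
theorem iso_of_surj_simple {P Q G : Type*} [Group P] [Group Q] [Group G] [IsSimpleGroup G] (T : Subgroup P) (H : Subgroup Q)
    (π : P →* Q) (φ : P →* G) (hπ : T.map π = H) (hφ : T.map φ = ⊤) {N : ℕ}
    (hT0 : Nat.card T ≠ 0) (hT : Nat.card T ≤ N) (hG : Nat.card G = N) (hH : H ≠ ⊥) :
    Nonempty (H ≃* G) := by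
  classical
  haveI : Finite T := Nat.finite_of_card_ne_zero hT0
  have hN : N ≠ 0 := by
    intro h
    rw [h] at hT
    exact hT0 (Nat.le_zero.mp hT)
  haveI : Finite G := Nat.finite_of_card_ne_zero (by rw [hG]; exact hN)
  let π' : T →* H := (π.comp T.subtype).codRestrict H (by
    intro x
    rw [← hπ]
    exact Subgroup.mem_map_of_mem π x.2)
  have hπs : Function.Surjective π' := by
    rintro ⟨y, hy⟩
    rw [← hπ] at hy
    obtain ⟨x, hx, rfl⟩ := hy
    exact ⟨⟨x, hx⟩, rfl⟩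
  let φ' : T →* G := φ.comp T.subtype
  have hφs : Function.Surjective φ' := by
    intro y
    have hy : y ∈ T.map φ := by rw [hφ]; trivial
    obtain ⟨x, hx, rfl⟩ := hy
    exact ⟨⟨x, hx⟩, rfl⟩
  have hφb : Function.Bijective φ' := hφs.bijective_of_nat_card_le (by omega)
  let e : T ≃* G := MulEquiv.ofBijective φ' hφb
  haveI : IsSimpleGroup T := e.isSimpleGroup
  have hinj : Function.Injective π' := by
    rw [injective_iff_map_eq_one]
    have hk := (IsSimpleGroup.eq_bot_or_eq_top_of_normal π'.ker inferInstance)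
    rcases hk with hk | hk
    · intro x hx
      have : x ∈ π'.ker := hx
      rw [hk] at this
      exact (Subgroup.mem_bot.1 this)
    · exfalso
      apply hH
      rw [eq_bot_iff]
      intro y hy
      obtain ⟨x, hx⟩ := hπs ⟨y, hy⟩
      have h2 : x ∈ π'.ker := by rw [hk]; trivial
      have h3 : π' x = 1 := h2
      rw [hx] at h3
      exact Subgroup.mem_bot.2 (congrArg Subtype.val h3)
  exact ⟨((MulEquiv.ofBijective π' ⟨hinj, hπs⟩).symm).trans e⟩

abbrev GG := chevG2.group K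

/-- The code of a generator. -/
def cP : Gen → List ℕ
  | .a => LL.getD 0 idC
  | .b => LL.getD 1 idC
  | .c => LL.getD 2 idC
  | .d => LL.getD 3 idC
  | .z => idC
  | .e => LL.getD 4 idC
  | .a1 => idC
  | .a2 => idC
  | .a3 => idC
  | .a4 => idC
  | .c1 => LL.getD 5 idC
  | .c2 => LL.getD 6 idC
  | .c3 => LL.getD 7 idC
  | .c4 => LL.getD 8 idC
  | .c5 => LL.getD 9 idC
  | .u => idC
  | .x23 => idC
  | .x24 => idC
  | .x25 => idC
  | .x29 => idC
  | .x47 => idC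
  | .x96 => idC
  | .x129 => idC
  | .x162 => idC
  | .x163 => idC
  | .x164 => idC
  | .x165 => idC
  | .x166 => idC
  | .x167 => idC
  | .x168 => idC
  | .x169 => idC
  | .x364 => idC
  | .x365 => idC
  | .x366 => idC
  | .x367 => idC
  | .x368 => idC
  | .x369 => idC
  | .x370 => idC
  | .x371 => idC

/-- The code of the inverse of a generator. -/
def cM : Gen → List ℕ
  | .a => LI.getD 0 idC
  | .b => LI.getD 1 idC
  | .c => LI.getD 2 idC
  | .d => LI.getD 3 idC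
  | .z => idC
  | .e => LI.getD 4 idC
  | .a1 => idC
  | .a2 => idC
  | .a3 => idC
  | .a4 => idC
  | .c1 => LI.getD 5 idC
  | .c2 => LI.getD 6 idC
  | .c3 => LI.getD 7 idC
  | .c4 => LI.getD 8 idC
  | .c5 => LI.getD 9 idC
  | .u => idC
  | .x23 => idC
  | .x24 => idC
  | .x25 => idC
  | .x29 => idC
  | .x47 => idC
  | .x96 => idC
  | .x129 => idC
  | .x162 => idC
  | .x163 => idC
  | .x164 => idC
  | .x165 => idC
  | .x166 => idC
  | .x167 => idC
  | .x168 => idC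
  | .x169 => idC
  | .x364 => idC
  | .x365 => idC
  | .x366 => idC
  | .x367 => idC
  | .x368 => idC
  | .x369 => idC
  | .x370 => idC
  | .x371 => idC

theorem inH_xc (r : Fin chevG2.nroots) (t : K) : InH GG (xc r.val t) := ⟨xG r t, xG_mem r t, xG_rep r t⟩

theorem inH_run : ∀ c ∈ runM XG.reverse prog2, InH GG c := by
  apply runM_spec
  intro c hc
  obtain ⟨q, rfl⟩ := XG_mem c (List.mem_reverse.mp hc)
  exact inH_xc q.1 q.2

theorem inH_LL : ∀ c ∈ LL, InH GG c := by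
  intro c hc
  apply inH_run
  have := List.all_eq_true.1 prog2_ok c hc
  simpa using this

theorem cP_mem (x : Gen) : cP x = idC ∨ cP x ∈ LL := by
  cases x <;> first | (left; rfl) | (right; decide +kernel)

theorem cM_good (x : Gen) : Good 256 5 14 (cM x) := by
  have h : cM x = idC ∨ cM x ∈ LI := by
    cases x <;> first | (left; rfl) | (right; decide +kernel)
  rcases h with h | h
  · rw [h]; exact good_idC
  · exact good_of_valid par (List.all_eq_true.1 LI_valid _ h)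

theorem cG_in (x : Gen) : InH GG (cP x) := by
  rcases cP_mem x with h | h
  · rw [h]; exact InH.idC _
  · exact inH_LL _ h

theorem cP_cM (x : Gen) : mulC (cP x) (cM x) = idC := by
  cases x <;> decide +kernel

/-- The images of the generators. -/
noncomputable def fG (x : Gen) : GG := ⟨Classical.choose (cG_in x), (Classical.choose_spec (cG_in x)).1⟩

theorem fG_rep (x : Gen) : Rep (fG x : GL IdG K) (cP x) := (Classical.choose_spec (cG_in x)).2

theorem fG_inv_rep (x : Gen) : Rep ((fG x)⁻¹ : GG).1 (cM x) := (fG_rep x).inv (cM_good x) (cP_cM x)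

/-- The code of a signed letter. -/
def cL (p : Gen × Bool) : List ℕ := cond p.2 (cP p.1) (cM p.1)

/-- The code of a word. -/
def evC : List (Gen × Bool) → List ℕ
  | [] => idC
  | p :: w => mulC (cL p) (evC w)

theorem rep_lift (w : List (Gen × Bool)) :
    Rep ((FreeGroup.lift fG (FreeGroup.mk w) : GG) : GL IdG K) (evC w) := by
  induction w with
  | nil =>
    have : FreeGroup.lift fG (FreeGroup.mk ([] : List (Gen × Bool))) = 1 := map_one _
    rw [this]
    exact rep_one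
  | cons p w ih =>
    have h1 : (FreeGroup.mk (p :: w) : FreeGroup Gen) = FreeGroup.mk [p] * FreeGroup.mk w := by
      rw [FreeGroup.mul_mk]; rfl
    rw [h1, map_mul]
    rcases p with ⟨x, b⟩
    cases b
    · have h2 : FreeGroup.lift fG (FreeGroup.mk [(x, false)]) = (fG x)⁻¹ := by
        rw [FreeGroup.lift_mk]
        simp
      rw [h2]
      exact (fG_inv_rep x).mul ih
    · have h2 : FreeGroup.lift fG (FreeGroup.mk [(x, true)]) = fG x := by
        rw [FreeGroup.lift_mk]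
        simp
      rw [h2]
      exact (fG_rep x).mul ih

theorem lift_eq_one' {r : FreeGroup Gen} (h : evC r.toWord = idC) : FreeGroup.lift fG r = 1 := by
  have h1 := rep_lift r.toWord
  rw [FreeGroup.mk_toWord, h] at h1
  exact Subtype.ext (eq_one_of_rep h1)

theorem check_extra : ∀ r ∈ Cfsg.Agent.TcData.Ly.R1.extraS, evC r.toWord = idC := by
  decide +kernel

theorem hphi : ∀ r ∈ RS, FreeGroup.lift fG r = 1 := by
  rintro r (⟨x, hx, y, hy, rfl⟩ | hr)
  · simp [edges, coxNodes] at hx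
  · exact lift_eq_one' (check_extra r hr)

/-- The map to `G₂(5)`. -/
noncomputable def phi : PresentedGroup RS →* GG := PresentedGroup.toGroup hphi

/-- The subgroup on `a, b, c, d, e, c1, …, c5`. -/
abbrev TT : Subgroup (PresentedGroup RS) := subOf RS Cfsg.Agent.TcData.Ly.R1.SL

theorem phi_of (x : Gen) : phi (PresentedGroup.of x) = fG x := PresentedGroup.toGroup.of hphi

theorem phi_surj : TT.map phi = ⊤ := by
  rw [eq_top_iff]
  rintro ⟨y, hy⟩ -
  let J : Subgroup (GL IdG K) := (TT.map phi).map GG.subtype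
  have hgen : ∀ x ∈ Cfsg.Agent.TcData.Ly.R1.SL, InH J (cP x) := by
    intro x hx
    refine ⟨(fG x : GL IdG K), ?_, fG_rep x⟩
    refine ⟨fG x, ⟨PresentedGroup.of x, Subgroup.subset_closure ⟨x, hx, rfl⟩, phi_of x⟩, rfl⟩
  have hrun : ∀ c ∈ runM LL.reverse prog1, InH J c := by
    apply runM_spec
    intro c hc
    have h2 : ∀ c ∈ LL, ∃ x ∈ Cfsg.Agent.TcData.Ly.R1.SL, c = cP x := by decide +kernel
    obtain ⟨x, hx, rfl⟩ := h2 c (List.mem_reverse.mp hc)
    exact hgen x hx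
  have hXL : ∀ c ∈ XL, InH J c := by
    intro c hc
    have := List.all_eq_true.1 prog1_ok c hc
    simp only [Bool.or_eq_true, beq_iff_eq, List.contains_iff_mem] at this
    rcases this with h | h
    · rw [h]; exact InH.idC _
    · exact hrun c h
  have hle : GG ≤ J := by
    apply (Subgroup.closure_le _).2
    rintro g ⟨r, t, hg⟩
    have h3 : Rep g (xc r.val t) := rep_of_gen hg
    have h4 : InH J (xc r.val t) := by
      rcases xc_cases r.val t with h | h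
      · rw [h]; exact InH.idC _
      · exact hXL _ h
    obtain ⟨g', hg', h7⟩ := h4
    have : g = g' := rep_unique h3 h7
    rw [this]
    exact hg'
  obtain ⟨z, hz, hz2⟩ := hle hy
  have : z = ⟨y, hy⟩ := Subtype.ext hz2
  rw [← this]
  exact hz

/-- The relators of the big group. -/
abbrev RB : Set (FreeGroup Gen) := Cfsg.Agent.TcData.Ly.RR

theorem lift_of_eq (r : FreeGroup Gen) :
    FreeGroup.lift (fun x => (PresentedGroup.of x : PresentedGroup RB)) r = PresentedGroup.mk RB r := by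
  have : FreeGroup.lift (fun x => (PresentedGroup.of x : PresentedGroup RB)) = PresentedGroup.mk RB := by
    apply FreeGroup.ext_hom
    intro x
    simp [PresentedGroup.of]
  rw [this]

theorem hpi : ∀ r ∈ RS, FreeGroup.lift (fun x => (PresentedGroup.of x : PresentedGroup RB)) r = 1 := by
  intro r hr
  rw [lift_of_eq]
  apply Cfsg.Agent.TcData.Ly.R1.hrelS
  unfold Cfsg.Agent.TcData.Ly.R1.relLS relAll
  rcases hr with ⟨x, hx, y, hy, rfl⟩ | hr
  · simp [edges, coxNodes] at hx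
  · exact List.mem_append_right _ (List.mem_append_left _ hr)

/-- The map to the Lyons group. -/
noncomputable def pi : PresentedGroup RS →* PresentedGroup RB := PresentedGroup.toGroup hpi

theorem pi_of (x : Gen) : pi (PresentedGroup.of x) = PresentedGroup.of x := PresentedGroup.toGroup.of hpi

theorem pi_map {S : List Gen} : (subOf RS S).map pi = subOf RB S := by
  rw [subOf, MonoidHom.map_closure, Set.image_image, subOf]
  congr 1

theorem card_GG : Nat.card GG = 5859000000 := by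
  rw [Cfsg.Agent.S1059.result (F := K) (q := 5) (by simp [ZMod.card])]
  norm_num

instance : IsSimpleGroup GG :=
  (Cfsg.Agent.S1055.result (F := K) ⟨2, by decide, by decide⟩).1

theorem main_iso (hne : (PresentedGroup.of Gen.a : PresentedGroup RB) ≠ 1) : Nonempty (subOf RB Cfsg.Agent.TcData.Ly.R1.SL ≃* GG) := by
  refine iso_of_surj_simple TT _ pi phi pi_map phi_surj t3.1 (N := 5859000000) ?_ card_GG ?_
  · have := t3.2
    norm_num at this
    exact this
  · intro h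
    apply hne
    have : (PresentedGroup.of Gen.a : PresentedGroup RB) ∈ subOf RB Cfsg.Agent.TcData.Ly.R1.SL :=
      Subgroup.subset_closure ⟨Gen.a, by decide, rfl⟩
    rw [h] at this
    exact Subgroup.mem_bot.1 this

/-- The subgroup generated by the four generators is generated by all ten. -/
theorem closure_eq : (Subgroup.closure ({a, b, c, d} : Set (FreeGroup Gen))).map (PresentedGroup.mk RB) = subOf RB Cfsg.Agent.TcData.Ly.R1.SL := by
  set H := (Subgroup.closure ({a, b, c, d} : Set (FreeGroup Gen))).map (PresentedGroup.mk RB) with hH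
  let K : Subgroup (FreeGroup Gen) := H.comap (PresentedGroup.mk RB)
  have hK : ∀ x ∈ ({a, b, c, d} : Set (FreeGroup Gen)), x ∈ K := fun x hx =>
    Subgroup.mem_map_of_mem _ (Subgroup.subset_closure hx)
  have ha : a ∈ K := hK _ (by simp)
  have hb : b ∈ K := hK _ (by simp)
  have hc : c ∈ K := hK _ (by simp)
  have hd : d ∈ K := hK _ (by simp)
  have hstep : ∀ x w : FreeGroup Gen, x * w⁻¹ ∈ extra → w ∈ K → x ∈ K := by
    intro x w hr hw
    have h1 : PresentedGroup.mk RB (x * w⁻¹) = 1 :=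
      Cfsg.Agent.TcData.Ly.hrel _ (List.mem_append_right _ (List.mem_append_left _ hr))
    rw [map_mul, map_inv, mul_inv_eq_one] at h1
    show PresentedGroup.mk RB x ∈ H
    rw [h1]
    exact hw
  have h1 : c1 ∈ K := hstep c1 c (by decide +kernel) hc
  have h2 : c2 ∈ K := hstep c2 (a⁻¹ * c * a) (by decide +kernel) (K.mul_mem (K.mul_mem (K.inv_mem ha) hc) ha)
  have h3 : c3 ∈ K := hstep c3 (b⁻¹ * c * b) (by decide +kernel) (K.mul_mem (K.mul_mem (K.inv_mem hb) hc) hb)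
  have h4 : c4 ∈ K := hstep c4 ((b⁻¹)⁻¹ * c * (b⁻¹)) (by decide +kernel)
    (K.mul_mem (K.mul_mem (K.inv_mem (K.inv_mem hb)) hc) (K.inv_mem hb))
  have h5 : c5 ∈ K := hstep c5 (c1⁻¹ * c2⁻¹ * c1 * c2) (by decide +kernel)
    (K.mul_mem (K.mul_mem (K.mul_mem (K.inv_mem h1) (K.inv_mem h2)) h1) h2)
  have he : e ∈ K := hstep e (((b ^ 2)⁻¹) * (a⁻¹ * c1⁻¹ * a * c1) * (a⁻¹) * c1 * a * d * c1 * b * a * (b⁻¹) * d * c1 * d)
    (by decide +kernel) (by
      repeat' first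
        | apply K.mul_mem
        | apply K.inv_mem
        | apply K.pow_mem
        | assumption)
  apply le_antisymm
  · rw [hH, Subgroup.map_le_iff_le_comap, Subgroup.closure_le]
    intro x hx
    simp only [Set.mem_insert_iff, Set.mem_singleton_iff] at hx
    rcases hx with rfl | rfl | rfl | rfl <;>
      exact Subgroup.subset_closure ⟨_, by decide, rfl⟩
  · rw [subOf, Subgroup.closure_le]
    rintro _ ⟨x, hx, rfl⟩
    simp only [Cfsg.Agent.TcData.Ly.R1.SL, List.mem_cons, List.not_mem_nil, or_false] at hx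
    rcases hx with rfl | rfl | rfl | rfl | rfl | rfl | rfl | rfl | rfl | rfl
    exacts [ha, hb, hc, hd, he, h1, h2, h3, h4, h5]

end Cfsg.Agent.Lib.LyG25
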