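import Mathlib

/-!
# Tables of vectors: spanning trees, checked by the kernel

A table lists codes of vectors in strictly increasing order, each with a parent and a generator.  Every code is
reached from the root by the generators, and the codes are distinct.
-/

set_option autoImplicit false

namespace Cfsg.Agent.Lib.VecOrb

/-- All the checks on `[s, s + 2 ^ d)`. -/
noncomputable def allR (F : ℕ → Bool) (d : ℕ) : ℕ → Bool :=
  Nat.rec (motive := fun _ => ℕ → Bool) F
    (fun k ih s => Bool.and (ih s) (ih (Nat.add s (Nat.pow 2 k)))) d

theorem allR_spec (F : ℕ → Bool) (d s : ℕ) (h : allR F d s = true) : ∀ i, s ≤ i → i < s + 2 ^ d → F i = true := by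
  induction d generalizing s with
  | zero =>
    intro i h1 h2
    have : i = s := by simp at h2; omega
    subst this
    exact h
  | succ k ih =>
    intro i h1 h2
    have h3 : Bool.and (allR F k s) (allR F k (Nat.add s (Nat.pow 2 k))) = true := h
    simp only [Bool.and_eq_true] at h3
    by_cases hi : i < s + 2 ^ k
    · exact ih s h3.1 i h1 hi
    · have h4 : Nat.add s (Nat.pow 2 k) = s + 2 ^ k := rfl
      rw [h4] at h3
      refine ih _ h3.2 i (by omega) ?_
      rw [pow_succ] at h2
      omega

section table

variable (key par gen dep : ℕ → ℕ) (act : ℕ → ℕ → ℕ) (v0 n : ℕ)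

/-- The check of a row of a table. -/
noncomputable def rowOK (i : ℕ) : Bool :=
  Bool.or (Nat.ble n i)
    (Bool.and
      (cond (Nat.beq (gen i) 0) (Nat.beq (key i) v0)
        (Bool.and (Nat.blt (par i) n)
          (Bool.and (Nat.blt (dep (par i)) (dep i))
            (Nat.beq (key i) (act (Nat.pred (gen i)) (key (par i)))))))
      (Bool.or (Nat.beq (Nat.succ i) n) (Nat.blt (key i) (key (Nat.succ i)))))

variable {key par gen dep act v0 n}

theorem row_parts {i : ℕ} (h : rowOK key par gen dep act v0 n i = true) (hi : i < n) :
    (gen i = 0 → key i = v0) ∧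
    (gen i ≠ 0 → par i < n ∧ dep (par i) < dep i ∧ key i = act (gen i - 1) (key (par i))) ∧
    (i + 1 < n → key i < key (i + 1)) := by
  have h1 : Nat.ble n i = false := by
    rw [← Bool.not_eq_true, Nat.ble_eq]
    omega
  have h2 : Bool.and
      (cond (Nat.beq (gen i) 0) (Nat.beq (key i) v0)
        (Bool.and (Nat.blt (par i) n)
          (Bool.and (Nat.blt (dep (par i)) (dep i))
            (Nat.beq (key i) (act (Nat.pred (gen i)) (key (par i)))))))
      (Bool.or (Nat.beq (Nat.succ i) n) (Nat.blt (key i) (key (Nat.succ i)))) = true := by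
    have := h
    unfold rowOK at this
    rw [h1] at this
    simpa using this
  simp only [Bool.and_eq_true] at h2
  obtain ⟨h3, h4⟩ := h2
  refine ⟨?_, ?_, ?_⟩
  · intro h0
    have h5 : Nat.beq (gen i) 0 = true := by rw [h0]; rfl
    rw [h5] at h3
    exact Nat.eq_of_beq_eq_true h3
  · intro h0
    have h5 : Nat.beq (gen i) 0 = false := Bool.eq_false_iff.mpr fun h => h0 (Nat.eq_of_beq_eq_true h)
    rw [h5] at h3
    simp only [cond_false, Bool.and_eq_true] at h3
    obtain ⟨h6, h7, h8⟩ := h3
    refine ⟨?_, ?_, ?_⟩
    · simpa [Nat.blt_eq] using h6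
    · simpa [Nat.blt_eq] using h7
    · have := Nat.eq_of_beq_eq_true h8
      simpa using this
  · intro h0
    have h5 : Nat.beq (Nat.succ i) n = false := Bool.eq_false_iff.mpr fun h => by
      have := Nat.eq_of_beq_eq_true h
      omega
    rw [h5] at h4
    simpa [Nat.blt_eq] using h4

/-- Every code of a table has the property kept by the generators. -/
theorem reach_all (h : ∀ i, i < n → rowOK key par gen dep act v0 n i = true) (P : ℕ → Prop) (h0 : P v0)
    (hact : ∀ g x, P x → P (act g x)) : ∀ i, i < n → P (key i) := by
  have main : ∀ m i, dep i ≤ m → i < n → P (key i) := by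
    intro m
    induction m with
    | zero =>
      intro i hd hi
      obtain ⟨h1, h2, -⟩ := row_parts (h i hi) hi
      by_cases hg : gen i = 0
      · rw [h1 hg]
        exact h0
      · obtain ⟨-, h3, -⟩ := h2 hg
        omega
    | succ m ih =>
      intro i hd hi
      obtain ⟨h1, h2, -⟩ := row_parts (h i hi) hi
      by_cases hg : gen i = 0
      · rw [h1 hg]
        exact h0
      · obtain ⟨h3, h4, h5⟩ := h2 hg
        rw [h5]
        exact hact _ _ (ih _ (by omega) h3)
  exact fun i hi => main _ i le_rfl hi

/-- The codes of a table increase strictly. -/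
theorem key_lt (h : ∀ i, i < n → rowOK key par gen dep act v0 n i = true) {i j : ℕ} (hij : i < j) (hj : j < n) :
    key i < key j := by
  induction j, hij using Nat.le_induction with
  | base => exact (row_parts (h i (by omega)) (by omega)).2.2 hj
  | succ m hm ih =>
    exact lt_trans (ih (by omega)) ((row_parts (h m (by omega)) (by omega)).2.2 hj)

theorem key_inj (h : ∀ i, i < n → rowOK key par gen dep act v0 n i = true) {i j : ℕ} (hi : i < n) (hj : j < n)
    (e : key i = key j) : i = j := by
  rcases lt_trichotomy i j with h1 | h1 | h1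
  · exact absurd e (ne_of_lt (key_lt h h1 hj))
  · exact h1
  · exact absurd e.symm (ne_of_lt (key_lt h h1 hi))

end table

/-- The parts of a packed row: the code in the low bits, then the parent, the generator, the depth. -/
noncomputable def rKey (kb r : ℕ) : ℕ := Nat.land r (Nat.pred (Nat.pow 2 kb))

noncomputable def rPar (kb r : ℕ) : ℕ := Nat.land (Nat.shiftRight r kb) 65535

noncomputable def rGen (kb r : ℕ) : ℕ := Nat.land (Nat.shiftRight r (Nat.add kb 16)) 255

noncomputable def rDep (kb r : ℕ) : ℕ := Nat.shiftRight r (Nat.add kb 24)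

end Cfsg.Agent.Lib.VecOrb
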