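import Mathlib

set_option autoImplicit false
set_option maxRecDepth 100000

/-!
# Literal data: generators of `M11`, words for the transversals, normaliser of the Sylow 11-subgroup
-/

namespace Cfsg.Agent.Lib.M11Out

/-- an element of order 11 of `M11` -/
def ac : ℕ := 217659858509939740509415197420686400

/-- the normaliser of `⟨ac⟩` in `M11` -/
def NL : List ℕ := [984818244535754528103549039458486304,735586561504953295002855977750269984,486338753864131570254606920598427680,320196066093926728989117417752145952,444812819678590652113461448697727008,217659858509939740509415197420686400,633028519240202760149887882011875392,716109308457391321162419294529135680,425350936448359011732562749649662016,799193731845777106346166320468374592,648617174979822242176596399540995168,939366254568539647725840894332702816,482466833726210196688113141476827232,607065998716858042792181241937932384,731676731375921966290244210321044576,596697290067317507838478951651772544,305927866646537916048205451843999872,638231273828011967448521039383928960,845920656477327533658039014532920448,430521525187311603533690915237511296,844607330954052259307440166106336448,969234461222701878378615456566386880,803071198218627287081861625179189440,595384083604718430608930318682505408,720013315576896255791500594629462208,226736197265158427175452106104702208,849806955947328693386401861988681984,309823436266682695662245213821314304,932893670442511423803815022420963584,725190875732897330012543120018325760,838127774253295018847781861836522784,422735535809085382242349462262779168,796601069844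336476137945521680814368,921206407250744346275161681106114848,464286505917246626205111706699874592,978329933299122975683446603816964480,646004032441405216789140035476858240,479865891511387669496238565052659072,230629627852887861593450679822762368,853700069631636226304745659612383616,601884992176901219344900133745984928,228024486672130215531863130286168480,435721467827719512751916320039641504,975727604893413485538214946332091808,934192853287010975632840686382959008,816049245997110653099158325282604544,940676014974039805684421173300300288,982209221711482302101473885277130240,317596313242427414142629801144563200,649910733493999034156021420620302848,487657981833673334353105777942792768,321502142478767045389085072648736320,238421796250510743319063731155505728,819950044497881774599467193420096064,612264712909796727831356222512080448]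

def WT1 : List (List Bool) := [[],[true,false,true,false,true,true,false,true,false,true,true,false,true,true,false,true,true],[false,true,true,false,true,true,true,false,true,false,true,true,true,true,true,true,true,true,true],[false,true,true,false,true,false,true,true,true,true,true,false,true,false,true,true],[false,true,true,true,true,true,true,true,true,true,true],[true,false,true,false,true,true,false,true,true,false,true,true,false,true,true,true,true],[true,true,true,true,true,true,true,true,true,true],[true,true,false,true,false,true,true,true,true,true,false,true,false,true,true],[false,true,true,true,true,true,false,true,false,true,true,true,true,true,true],[true,false,true,false,true,true,true,true,false,true,false,true,false,true,true,true,false],[true,true,true,true,true,false,true,false,true,true,true,true,true,true]]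

def WT2 : List (List Bool) := [[],[true,false,true,true,false,true,true,true,false,true,false,true,true,false,true,true,true,true,true],[true,true,false,true,true,false,true,true,true,true,true,false,true,true,false,true],[true,false,true,true,false,true,false,true,true,false,true,true,false,true,true],[true,false,true,true,true,true,true,false,true,false,true,true,true,true,true],[false,true,false,true,true,false,true,false,true,true,false,true,true,false,true,true],[true,true,true,true,false,true,true,true,false,true,false,true,false,true,false],[false,true,false,true,false,true,true,false,true,true,true,false,true,true],[false,true,false,true,true,true,true,true,false,true,false,true,true,true,true,true],[true,false,true,false,true,true,false,true,true,true,false,true,true]]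

def WT3 : List (List Bool) := [[],[false,true,true,true,false,true,false,true,true,true,true,false,true,true,false,true],[true,false,true,true,true,false,true,false,true,false,true,true,false,true,false,true],[false,true,false,true,false,true,true,false,true,false,true,false,true,false,true,true,false,true],[true,false,true,true,false,true,true,true,false,true,true,true,false,true,false],[true,true,true,false,true,false,true,true,true,true,false,true,true,false,true],[true,true,true,false,true,true,true,false,true,false,true,false,true,false,true,true],[true,false,true,false,true,true,false,true,false,true,false,true,false,true,true,false,true],[true,false,true,false,true,true,true,true,true,false,true,false,true,true,true,true]]

def WT4 : List (List Bool) := [[],[false,true,true,false,true,false,true,true,true,true,true,false,true,false,true,true,true],[false,true,true,true,true,true,false,true,false,true,true,true,true,true,true,true],[true,true,false,true,false,true,true,true,true,true,false,true,false,true,true,true],[false],[true,false,true,false,true,true,true,true,false,true,false,true,false,true,true,true,false,true],[true,true,true,true,true,false,true,false,true,true,true,true,true,true,true],[true,false,true,false,true,true,false,true,true,false,true,true,false,true,true,true,true,true]]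

end Cfsg.Agent.Lib.M11Out
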