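import Mathlib
import Cfsg.Agent.Lib.M11Enum
import Cfsg.Agent.Lib.M11OutData

set_option autoImplicit false

/-!
# The computation behind `Out(M11) = 1`
-/

namespace Cfsg.Agent.Lib.M11Out

open Cfsg Cfsg.Spor Cfsg.Agent.Lib.M11Data Cfsg.Agent.Lib.M11Chain Cfsg.Agent.Lib.M11Enum
open Cfsg.Agent.Lib.Golay hiding T1 T2 T3 T4 L1 L2 L3 L4

/-- the relations, as a test on words -/
def relChecks (X Y : List ℕ) : Bool :=
  wordEq (rep 5 (X ++ X ++ X ++ Y)) [] && wordEq (rep 8 (X ++ X ++ Y)) [] && wordEq (rep 8 (X ++ Y)) [] &&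
    wordEq (rep 8 (X ++ Y ++ X ++ X ++ Y ++ X ++ X ++ X ++ X ++ Y)) []

/-- the test of a candidate -/
def candOK (t1 t2 t3 t4 : ℕ) : Bool :=
  !(wordEq ([t1, t2, t3, t4] ++ [t1, t2, t3, t4]) []) || wordEq [t1, t2, t3, t4] [] ||
    [1,2,3,4,5,6,7,8,9,10].all (fun k => !(relChecks (List.replicate k ac) [t1, t2, t3, t4]) ||
      NL.any (fun d => wordEq (List.replicate k ac ++ [d]) [d, ac] && wordEq ([t1, t2, t3, t4] ++ [d]) [d, tau]))

theorem check : T1.all (fun t1 => T2.all fun t2 => T3.all fun t3 =>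
    T4.all fun t4 => candOK t1 t2 t3 t4) = true := by decide +kernel

end Cfsg.Agent.Lib.M11Out
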