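import Mathlib
import Cfsg.Prelude.Def_Sporadic_a

/-!
# Concrete data for the Mathieu group of degree 11 (generated)
-/

set_option autoImplicit false

namespace Cfsg.Agent.Lib.M11TabData

/-- The first generator: an 11-cycle. -/
def gen0 : Equiv.Perm (Fin 11) where
  toFun := ![1,2,3,4,5,6,7,8,9,10,0]
  invFun := ![10,0,1,2,3,4,5,6,7,8,9]
  left_inv := by decide
  right_inv := by decide

/-- The second generator. -/
def gen1 : Equiv.Perm (Fin 11) where
  toFun := ![0,1,6,9,5,3,10,2,8,4,7]
  invFun := ![0,1,7,5,9,4,2,10,8,3,6]
  left_inv := by decide
  right_inv := by decide

/-- A generator selected by a Boolean. -/
def gen : Bool → Equiv.Perm (Fin 11)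
  | false => gen0
  | true => gen1

/-- Evaluation of a word. -/
def evalWord : List Bool → Equiv.Perm (Fin 11)
  | [] => 1
  | b :: w => gen b * evalWord w

/-- Reading off the image of `i` from the code `n`. -/
def ap (n i : ℕ) : ℕ := Nat.land (Nat.shiftRight n (Nat.mul 4 i)) 15

/-- First transversal. -/
def L1 : List (ℕ × List Bool) := [
  (11649936536080,[]),
  (728121033505,[false]),
  (1145019192370,[false,false]),
  (2270586955075,[false,false,false]),
  (3440446568020,[false,false,false,false]),
  (4613074421605,[false,false,false,false,false]),
  (1130787124630,[true,false,false]),
  (2303598806695,[false,true,false,false]),
  (3476411209480,[false,false,true,false,false]),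
  (6667743961945,[true,false,false,false]),
  (1109584745290,[true,true,false,false])]

/-- Second transversal. -/
def L2 : List (ℕ × List Bool) := [
  (11649936536080,[]),
  (9441587303200,[true,false,false,true,false,false,false]),
  (6707198063920,[true,false,true,true,false,false]),
  (7787373947200,[true,true,true,false,true,true,false,false]),
  (2282397148240,[false,true,true,false,false]),
  (9033008652640,[false,true,false,true,false,false,false,false]),
  (9013368722800,[false,false,true,false,false,false]),
  (10386142241920,[false,true,false,true,true,true,false,false,false]),
  (11082985382800,[true,true,false,true,true,false,false]),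
  (9215241700000,[false,false,true,false,false,true,false])]

/-- Third transversal. -/
def L3 : List (ℕ × List Bool) := [
  (11649936536080,[]),
  (8339291775760,[false,true,false,false,false,false,false,true,false,true]),
  (3815431087120,[false,true,true,false,true,false,false,true,true,false,false]),
  (8399117370640,[false,true,false,true,false,true,false,true,true,false,false,false]),
  (8006527194640,[true]),
  (6840310650640,[true,true,true]),
  (5031187666960,[false,false,true,false,true,true,false,true,false,false,true,false]),
  (2488758069520,[true,false,true,false,false,false,false,false,true,false,true]),
  (2578718083600,[true,true])]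

/-- Fourth transversal. -/
def L4 : List (ℕ × List Bool) := [
  (11649936536080,[]),
  (6005346353680,[false,false,false,true,true,false,true,false,true,false,true,false,true,false,false]),
  (8128286052880,[false,false,false,true,true,false,true,false,true,false,false,true,false]),
  (4774547710480,[true,false,false,true,true,false,true,false,false,false,true,false,false]),
  (6895983358480,[true,false,false,false,false,true,false,true,false,true,false,true,false,true,false]),
  (4026069778960,[true,true,false,true,false,false,false,false,false,true,false]),
  (9046365540880,[true,true,false,true,false,false,false,false,true,false,true,false,false]),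
  (10459709612560,[false,true,false,true,false,true,false,true,true,false,false,false,true])]

/-- Class representatives. -/
def repsL : List (ℕ × List Bool) := [
  (11649936536080,[]),
  (7084990018180,[true,false,false,true,false,false,true,false,false,true,false,false]),
  (161169880225,[true,true,false]),
  (10327908495880,[true,false,false,true,false,false]),
  (6667743961945,[true,false,false,false]),
  (1126231591255,[true,true,true,false,false]),
  (1130787124630,[true,false,false]),
  (4494685844905,[true,true,false,true,true,false,false,true,true,false,true]),
  (728121033505,[false]),
  (10477124133130,[true,true,false,true,true,false,true,true])]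

/-- Conjugating element for the class of order 8. -/
def t8 : List Bool := [false,true,false,false,false,true,false,false,false,false,true,false]

/-- Conjugating element for the class of order 11. -/
def t11 : List Bool := [true,true,false,true,false,true,false,false,false,true]

/-- The blocks as bit masks. -/
def masks : List ℕ := [527,151,103,1287,283,171,1099,1075,595,803,451,1667,61,333,1165,1109,789,421,1573,709,217,1561,617,1321,905,369,689,1425,1249,1857,1054,302,206,566,342,1190,1606,902,122,666,1578,842,1418,434,1234,1810,738,1378,604,412,1132,684,1804,244,1332,1684,868,1476,1208,824,1368,488,1736,1648,976,1952]

end Cfsg.Agent.Lib.M11TabData
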