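import Mathlib
import Cfsg.Agent.Lib.M22Tab
import Cfsg.Agent.Lib.CycRoots

/-!
# The characters of the Mathieu group of degree 22
-/

set_option autoImplicit false
set_option maxRecDepth 100000
set_option linter.style.haveILetI false
set_option linter.unusedVariables false
set_option linter.unusedSectionVars false

namespace Cfsg.Agent.Lib.M22Chars

open Cfsg Cfsg.Agent.Lib.Golay Cfsg.Agent.Lib.GolaySearch Cfsg.Agent.Lib.ClassTab Cfsg.Agent.Lib.GolayTab
open Cfsg.Agent.Lib.M22Tab Cfsg.Agent.Lib.CycRoots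
open scoped ComplexConjugate

local notation "PRE" => ([0, 23] : List ℕ)


noncomputable def z7 : ℂ := zr 7
noncomputable def z11 : ℂ := zr 11
theorem z7_pow : z7 ^ 7 = 1 := zr_pow (by norm_num)
theorem z11_pow : z11 ^ 11 = 1 := zr_pow (by norm_num)
theorem z7_sum : 1 + z7 + z7 ^ 2 + z7 ^ 3 + z7 ^ 4 + z7 ^ 5 + z7 ^ 6 = 0 := by
  have h := geom_zero (m := 7) (by norm_num)
  simp only [Finset.sum_range_succ, Finset.sum_range_zero] at h
  simpa [z7, z11] using h
theorem z11_sum : 1 + z11 + z11 ^ 2 + z11 ^ 3 + z11 ^ 4 + z11 ^ 5 + z11 ^ 6 + z11 ^ 7 + z11 ^ 8 +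
    z11 ^ 9 + z11 ^ 10 = 0 := by
  have h := geom_zero (m := 11) (by norm_num)
  simp only [Finset.sum_range_succ, Finset.sum_range_zero] at h
  simpa [z7, z11] using h
theorem conj_z7 : conj z7 = z7 ^ 6 := conj_zr (by norm_num)
theorem conj_z11 : conj z11 = z11 ^ 10 := conj_zr (by norm_num)
noncomputable def w7 : ℂ := z7 + z7 ^ 2 + z7 ^ 4
noncomputable def w11 : ℂ := z11 + z11 ^ 3 + z11 ^ 4 + z11 ^ 5 + z11 ^ 9

theorem w7_trace : w7 + conj w7 = ((-1 : ℤ) : ℂ) := by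
  unfold w7
  simp only [map_add, map_pow, conj_z7]
  push_cast
  linear_combination ((1) + (-1) * z7 ^ 3 + (1) * z7 ^ 4 + (-1) * z7 ^ 5 + (1) * z7 ^ 6 + (-1) * z7 ^ 10 + (1) * z7 ^ 11 + (-1) * z7 ^ 17 + (1) * z7 ^ 18) * z7_sum
theorem w7_norm : w7 * conj w7 = ((2 : ℤ) : ℂ) := by
  unfold w7
  simp only [map_add, map_pow, conj_z7]
  push_cast
  linear_combination ((-2) + (2) * z7 + (-1) * z7 ^ 7 + (2) * z7 ^ 8 + (-1) * z7 ^ 9 + (1) * z7 ^ 10 + (-1) * z7 ^ 11 + (1) * z7 ^ 13 + (-1) * z7 ^ 14 + (1) * z7 ^ 15 + (-1) * z7 ^ 18 + (1) * z7 ^ 20 + (-1) * z7 ^ 21 + (1) * z7 ^ 22) * z7_sum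
theorem w7_int : IsIntegral ℤ w7 := by
  have hz : IsIntegral ℤ z7 := zr_integral (by norm_num)
  unfold w7
  exact by
    repeat' first | exact hz | apply IsIntegral.add | apply IsIntegral.pow
theorem w7_im : w7.im ≠ 0 := im_ne_of_trace_norm w7_trace w7_norm (by norm_num)

theorem w11_trace : w11 + conj w11 = ((-1 : ℤ) : ℂ) := by
  unfold w11
  simp only [map_add, map_pow, conj_z11]
  push_cast
  linear_combination ((1) + (-1) * z11 ^ 2 + (1) * z11 ^ 3 + (-1) * z11 ^ 6 + (1) * z11 ^ 9 + (-1) * z11 ^ 13 + (1) * z11 ^ 14 + (-1) * z11 ^ 17 + (1) * z11 ^ 20 + (-1) * z11 ^ 24 + (1) * z11 ^ 25 + (-1) * z11 ^ 28 + (1) * z11 ^ 30 + (-1) * z11 ^ 35 + (1) * z11 ^ 36 + (-1) * z11 ^ 39 + (1) * z11 ^ 40 + (-1) * z11 ^ 46 + (1) * z11 ^ 47 + (-1) * z11 ^ 57 + (1) * z11 ^ 58 + (-1) * z11 ^ 68 + (1) * z11 ^ 69 + (-1) * z11 ^ 79 + (1) * z11 ^ 80) * z11_sum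
theorem w11_norm : w11 * conj w11 = ((3 : ℤ) : ℂ) := by
  unfold w11
  simp only [map_add, map_pow, conj_z11]
  push_cast
  linear_combination ((-3) + (3) * z11 + (-2) * z11 ^ 11 + (2) * z11 ^ 12 + (1) * z11 ^ 13 + (-1) * z11 ^ 16 + (1) * z11 ^ 19 + (-1) * z11 ^ 20 + (-2) * z11 ^ 22 + (2) * z11 ^ 23 + (1) * z11 ^ 24 + (-1) * z11 ^ 27 + (1) * z11 ^ 30 + (-1) * z11 ^ 32 + (-1) * z11 ^ 33 + (2) * z11 ^ 34 + (1) * z11 ^ 35 + (-1) * z11 ^ 36 + (-1) * z11 ^ 38 + (1) * z11 ^ 39 + (-1) * z11 ^ 40 + (2) * z11 ^ 41 + (-1) * z11 ^ 42 + (-1) * z11 ^ 44 + (2) * z11 ^ 45 + (-1) * z11 ^ 47 + (1) * z11 ^ 52 + (-1) * z11 ^ 55 + (1) * z11 ^ 56 + (-1) * z11 ^ 58 + (1) * z11 ^ 59 + (-1) * z11 ^ 60 + (1) * z11 ^ 63 + (-1) * z11 ^ 66 + (1) * z11 ^ 67 + (-1) * z11 ^ 69 + (1) * z11 ^ 70 + (-1) * z11 ^ 71 + (1) * z11 ^ 74 + (-1) * z11 ^ 77 + (1) * z11 ^ 78 + (-1) * z11 ^ 80 + (1) * z11 ^ 81 + (-1) * z11 ^ 82 + (1) * z11 ^ 85 + (-1) * z11 ^ 88 + (1)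 * z11 ^ 89) * z11_sum
theorem w11_int : IsIntegral ℤ w11 := by
  have hz : IsIntegral ℤ z11 := zr_integral (by norm_num)
  unfold w11
  exact by
    repeat' first | exact hz | apply IsIntegral.add | apply IsIntegral.pow
theorem w11_im : w11.im ≠ 0 := im_ne_of_trace_norm w11_trace w11_norm (by norm_num)

def X_one : Fin 12 → ℤ := ![1,1,1,1,1,1,1,1,1,1,1,1]
def X_pts : Fin 12 → ℤ := ![24,8,6,4,4,4,2,3,3,2,2,2]
def X_hex : Fin 12 → ℤ := ![77,13,5,5,1,2,1,0,0,1,0,0]
def X_hepA : Fin 12 → ℤ := ![176,16,5,0,4,1,1,1,1,0,0,0]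
def X_oct0 : Fin 12 → ℤ := ![330,26,6,6,2,0,2,1,1,0,0,0]
def X_dod2 : Fin 12 → ℤ := ![616,24,4,4,4,1,0,0,0,2,0,0]
def X_dod1 : Fin 12 → ℤ := ![672,32,6,0,0,2,2,0,0,0,1,1]
def X_pts_pts : Fin 12 → ℤ := ![576,64,36,16,16,16,4,9,9,4,4,4]
def X_pts_hepA : Fin 12 → ℤ := ![4224,128,30,0,16,4,2,3,3,0,0,0]
def X_hepA_hepA : Fin 12 → ℤ := ![30976,256,25,0,16,1,1,1,1,0,0,0]

theorem G_one {w : ℂ} : GVW T w X_one 0 := gen_one T X_one (by decide +kernel)
theorem G_pts {w : ℂ} : GVW T w X_pts 0 :=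
  gen_pts T code hr hv X_pts (by decide +kernel)

theorem G_hex {w : ℂ} : GVW T w X_hex 0 :=
  gen_oct_pat T code hr hv [(23, true), (0, true)] (by decide) X_hex (by decide +kernel)

theorem G_hepA {w : ℂ} : GVW T w X_hepA 0 :=
  gen_oct_pat T code hr hv [(23, true), (0, false)] (by decide) X_hepA (by decide +kernel)

theorem G_oct0 {w : ℂ} : GVW T w X_oct0 0 :=
  gen_oct_pat T code hr hv [(23, false), (0, false)] (by decide) X_oct0 (by decide +kernel)

theorem G_dod2 {w : ℂ} : GVW T w X_dod2 0 :=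
  gen_dod_pat T code hr hv [(23, true), (0, true)] (by decide) X_dod2 (by decide +kernel)

theorem G_dod1 {w : ℂ} : GVW T w X_dod1 0 :=
  gen_dod_pat T code hr hv [(23, true), (0, false)] (by decide) X_dod1 (by decide +kernel)

theorem G_pts_pts {w : ℂ} : GVW T w X_pts_pts 0 :=
  ((G_pts (w := w)).mul_rat (G_pts (w := w))).congr (by decide +kernel) (by decide +kernel)

theorem G_pts_hepA {w : ℂ} : GVW T w X_pts_hepA 0 :=
  ((G_pts (w := w)).mul_rat (G_hepA (w := w))).congr (by decide +kernel) (by decide +kernel)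

theorem G_hepA_hepA {w : ℂ} : GVW T w X_hepA_hepA 0 :=
  ((G_hepA (w := w)).mul_rat (G_hepA (w := w))).congr (by decide +kernel) (by decide +kernel)

def X_h7 : Fin 12 → ℤ := ![63360,0,0,0,0,0,0,0,-1,0,0,0]
def Y_h7 : Fin 12 → ℤ := ![0,0,0,0,0,0,0,1,-1,0,0,0]
def U_h7 : Fin 7 → ℕ := ![984818244535754528103549039458486304,984818244535754528103549039458486304,972960427670670468675442035237914656,968742638814804015180021977181564960,976609911182729318507604469524662304,982818628563364002504717531847536672,982047894140144131556278156738965536]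
def f_h7 : Fin 7 → Fin 12 := ![0,7,7,8,7,8,8]
def l_h7 : Fin 12 → List ℕ := ![[0],[],[],[],[],[],[],[1,2,4],[3,5,6],[],[],[]]
theorem P_h7 : ∀ k : Fin 7, powOK PRE (code 7) (k : ℕ) (U_h7 k) (code (f_h7 k)) = true := by
  decide +kernel
theorem O_h7 : orderOK (code 7) 7 = true := by decide +kernel
theorem G_h7 : GVW T w7 X_h7 Y_h7 := by
  refine gen_cyc_list (T.r 7) 7 (order_eq T code hr hv (by norm_num) O_h7) f_h7
    (fun k => cl_pow T code hr hv hpre (P_h7 k)) z7 z7_pow w7 X_h7 Y_h7 l_h7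
    (by decide +kernel) ?_
  intro i
  fin_cases i
  · show ((443520 : ℕ) : ℂ) * ((([0] : List ℕ).map fun k => z7 ^ k).sum) =
      ((7 : ℕ) : ℂ) * (((63360 : ℤ) : ℂ) + ((0 : ℤ) : ℂ) * w7)
    simp only [List.map_cons, List.map_nil, List.sum_cons, List.sum_nil]
    unfold w7
    push_cast
    linear_combination (0) * z7_sum
  · show ((384 : ℕ) : ℂ) * ((([] : List ℕ).map fun k => z7 ^ k).sum) =
      ((7 : ℕ) : ℂ) * (((0 : ℤ) : ℂ) + ((0 : ℤ) : ℂ) * w7)
    simp only [List.map_cons, List.map_nil, List.sum_cons, List.sum_nil]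
    unfold w7
    push_cast
    linear_combination (0) * z7_sum
  · show ((36 : ℕ) : ℂ) * ((([] : List ℕ).map fun k => z7 ^ k).sum) =
      ((7 : ℕ) : ℂ) * (((0 : ℤ) : ℂ) + ((0 : ℤ) : ℂ) * w7)
    simp only [List.map_cons, List.map_nil, List.sum_cons, List.sum_nil]
    unfold w7
    push_cast
    linear_combination (0) * z7_sum
  · show ((32 : ℕ) : ℂ) * ((([] : List ℕ).map fun k => z7 ^ k).sum) =
      ((7 : ℕ) : ℂ) * (((0 : ℤ) : ℂ) + ((0 : ℤ) : ℂ) * w7)
    simp only [List.map_cons, List.map_nil, List.sum_cons, List.sum_nil]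
    unfold w7
    push_cast
    linear_combination (0) * z7_sum
  · show ((16 : ℕ) : ℂ) * ((([] : List ℕ).map fun k => z7 ^ k).sum) =
      ((7 : ℕ) : ℂ) * (((0 : ℤ) : ℂ) + ((0 : ℤ) : ℂ) * w7)
    simp only [List.map_cons, List.map_nil, List.sum_cons, List.sum_nil]
    unfold w7
    push_cast
    linear_combination (0) * z7_sum
  · show ((5 : ℕ) : ℂ) * ((([] : List ℕ).map fun k => z7 ^ k).sum) =
      ((7 : ℕ) : ℂ) * (((0 : ℤ) : ℂ) + ((0 : ℤ) : ℂ) * w7)
    simp only [List.map_cons, List.map_nil, List.sum_cons, List.sum_nil]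
    unfold w7
    push_cast
    linear_combination (0) * z7_sum
  · show ((12 : ℕ) : ℂ) * ((([] : List ℕ).map fun k => z7 ^ k).sum) =
      ((7 : ℕ) : ℂ) * (((0 : ℤ) : ℂ) + ((0 : ℤ) : ℂ) * w7)
    simp only [List.map_cons, List.map_nil, List.sum_cons, List.sum_nil]
    unfold w7
    push_cast
    linear_combination (0) * z7_sum
  · show ((7 : ℕ) : ℂ) * ((([1,2,4] : List ℕ).map fun k => z7 ^ k).sum) =
      ((7 : ℕ) : ℂ) * (((0 : ℤ) : ℂ) + ((1 : ℤ) : ℂ) * w7)
    simp only [List.map_cons, List.map_nil, List.sum_cons, List.sum_nil]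
    unfold w7
    push_cast
    linear_combination (0) * z7_sum
  · show ((7 : ℕ) : ℂ) * ((([3,5,6] : List ℕ).map fun k => z7 ^ k).sum) =
      ((7 : ℕ) : ℂ) * (((-1 : ℤ) : ℂ) + ((-1 : ℤ) : ℂ) * w7)
    simp only [List.map_cons, List.map_nil, List.sum_cons, List.sum_nil]
    unfold w7
    push_cast
    linear_combination ((7)) * z7_sum
  · show ((8 : ℕ) : ℂ) * ((([] : List ℕ).map fun k => z7 ^ k).sum) =
      ((7 : ℕ) : ℂ) * (((0 : ℤ) : ℂ) + ((0 : ℤ) : ℂ) * w7)
    simp only [List.map_cons, List.map_nil, List.sum_cons, List.sum_nil]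
    unfold w7
    push_cast
    linear_combination (0) * z7_sum
  · show ((11 : ℕ) : ℂ) * ((([] : List ℕ).map fun k => z7 ^ k).sum) =
      ((7 : ℕ) : ℂ) * (((0 : ℤ) : ℂ) + ((0 : ℤ) : ℂ) * w7)
    simp only [List.map_cons, List.map_nil, List.sum_cons, List.sum_nil]
    unfold w7
    push_cast
    linear_combination (0) * z7_sum
  · show ((11 : ℕ) : ℂ) * ((([] : List ℕ).map fun k => z7 ^ k).sum) =
      ((7 : ℕ) : ℂ) * (((0 : ℤ) : ℂ) + ((0 : ℤ) : ℂ) * w7)
    simp only [List.map_cons, List.map_nil, List.sum_cons, List.sum_nil]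
    unfold w7
    push_cast
    linear_combination (0) * z7_sum

def X_h7b : Fin 12 → ℤ := ![63360,0,0,0,0,0,0,-1,0,0,0,0]
def Y_h7b : Fin 12 → ℤ := ![0,0,0,0,0,0,0,-1,1,0,0,0]
def U_h7b : Fin 7 → ℕ := ![984818244535754528103549039458486304,984818244535754528103549039458486304,971229025345169243162215177199421472,973171898609414085798213984240280608,977759963321773229283051977059960864,970480440511619088564943376174654496,962172301737917651113550150721053728]
def f_h7b : Fin 7 → Fin 12 := ![0,8,8,7,8,7,7]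
def l_h7b : Fin 12 → List ℕ := ![[0],[],[],[],[],[],[],[3,5,6],[1,2,4],[],[],[]]
theorem P_h7b : ∀ k : Fin 7, powOK PRE (code 8) (k : ℕ) (U_h7b k) (code (f_h7b k)) = true := by
  decide +kernel
theorem O_h7b : orderOK (code 8) 7 = true := by decide +kernel
theorem G_h7b : GVW T w7 X_h7b Y_h7b := by
  refine gen_cyc_list (T.r 8) 7 (order_eq T code hr hv (by norm_num) O_h7b) f_h7b
    (fun k => cl_pow T code hr hv hpre (P_h7b k)) z7 z7_pow w7 X_h7b Y_h7b l_h7b
    (by decide +kernel) ?_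
  intro i
  fin_cases i
  · show ((443520 : ℕ) : ℂ) * ((([0] : List ℕ).map fun k => z7 ^ k).sum) =
      ((7 : ℕ) : ℂ) * (((63360 : ℤ) : ℂ) + ((0 : ℤ) : ℂ) * w7)
    simp only [List.map_cons, List.map_nil, List.sum_cons, List.sum_nil]
    unfold w7
    push_cast
    linear_combination (0) * z7_sum
  · show ((384 : ℕ) : ℂ) * ((([] : List ℕ).map fun k => z7 ^ k).sum) =
      ((7 : ℕ) : ℂ) * (((0 : ℤ) : ℂ) + ((0 : ℤ) : ℂ) * w7)
    simp only [List.map_cons, List.map_nil, List.sum_cons, List.sum_nil]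
    unfold w7
    push_cast
    linear_combination (0) * z7_sum
  · show ((36 : ℕ) : ℂ) * ((([] : List ℕ).map fun k => z7 ^ k).sum) =
      ((7 : ℕ) : ℂ) * (((0 : ℤ) : ℂ) + ((0 : ℤ) : ℂ) * w7)
    simp only [List.map_cons, List.map_nil, List.sum_cons, List.sum_nil]
    unfold w7
    push_cast
    linear_combination (0) * z7_sum
  · show ((32 : ℕ) : ℂ) * ((([] : List ℕ).map fun k => z7 ^ k).sum) =
      ((7 : ℕ) : ℂ) * (((0 : ℤ) : ℂ) + ((0 : ℤ) : ℂ) * w7)
    simp only [List.map_cons, List.map_nil, List.sum_cons, List.sum_nil]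
    unfold w7
    push_cast
    linear_combination (0) * z7_sum
  · show ((16 : ℕ) : ℂ) * ((([] : List ℕ).map fun k => z7 ^ k).sum) =
      ((7 : ℕ) : ℂ) * (((0 : ℤ) : ℂ) + ((0 : ℤ) : ℂ) * w7)
    simp only [List.map_cons, List.map_nil, List.sum_cons, List.sum_nil]
    unfold w7
    push_cast
    linear_combination (0) * z7_sum
  · show ((5 : ℕ) : ℂ) * ((([] : List ℕ).map fun k => z7 ^ k).sum) =
      ((7 : ℕ) : ℂ) * (((0 : ℤ) : ℂ) + ((0 : ℤ) : ℂ) * w7)
    simp only [List.map_cons, List.map_nil, List.sum_cons, List.sum_nil]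
    unfold w7
    push_cast
    linear_combination (0) * z7_sum
  · show ((12 : ℕ) : ℂ) * ((([] : List ℕ).map fun k => z7 ^ k).sum) =
      ((7 : ℕ) : ℂ) * (((0 : ℤ) : ℂ) + ((0 : ℤ) : ℂ) * w7)
    simp only [List.map_cons, List.map_nil, List.sum_cons, List.sum_nil]
    unfold w7
    push_cast
    linear_combination (0) * z7_sum
  · show ((7 : ℕ) : ℂ) * ((([3,5,6] : List ℕ).map fun k => z7 ^ k).sum) =
      ((7 : ℕ) : ℂ) * (((-1 : ℤ) : ℂ) + ((-1 : ℤ) : ℂ) * w7)
    simp only [List.map_cons, List.map_nil, List.sum_cons, List.sum_nil]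
    unfold w7
    push_cast
    linear_combination ((7)) * z7_sum
  · show ((7 : ℕ) : ℂ) * ((([1,2,4] : List ℕ).map fun k => z7 ^ k).sum) =
      ((7 : ℕ) : ℂ) * (((0 : ℤ) : ℂ) + ((1 : ℤ) : ℂ) * w7)
    simp only [List.map_cons, List.map_nil, List.sum_cons, List.sum_nil]
    unfold w7
    push_cast
    linear_combination (0) * z7_sum
  · show ((8 : ℕ) : ℂ) * ((([] : List ℕ).map fun k => z7 ^ k).sum) =
      ((7 : ℕ) : ℂ) * (((0 : ℤ) : ℂ) + ((0 : ℤ) : ℂ) * w7)
    simp only [List.map_cons, List.map_nil, List.sum_cons, List.sum_nil]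
    unfold w7
    push_cast
    linear_combination (0) * z7_sum
  · show ((11 : ℕ) : ℂ) * ((([] : List ℕ).map fun k => z7 ^ k).sum) =
      ((7 : ℕ) : ℂ) * (((0 : ℤ) : ℂ) + ((0 : ℤ) : ℂ) * w7)
    simp only [List.map_cons, List.map_nil, List.sum_cons, List.sum_nil]
    unfold w7
    push_cast
    linear_combination (0) * z7_sum
  · show ((11 : ℕ) : ℂ) * ((([] : List ℕ).map fun k => z7 ^ k).sum) =
      ((7 : ℕ) : ℂ) * (((0 : ℤ) : ℂ) + ((0 : ℤ) : ℂ) * w7)
    simp only [List.map_cons, List.map_nil, List.sum_cons, List.sum_nil]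
    unfold w7
    push_cast
    linear_combination (0) * z7_sum

def X_h11 : Fin 12 → ℤ := ![40320,0,0,0,0,0,0,0,0,0,0,-1]
def Y_h11 : Fin 12 → ℤ := ![0,0,0,0,0,0,0,0,0,0,1,-1]
def U_h11 : Fin 11 → ℕ := ![984818244535754528103549039458486304,984818244535754528103549039458486304,976298483228624633770526023089535168,961064457975602945119964403743640608,979170185880686724902666414715981856,977740971775390388757185242138883104,968896497411150859533614148185498816,971733002289355508821537501143743680,969759114983787705319958636128443584,959666534152016338011550463955637280,965934072304372609932990500202632384]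
def f_h11 : Fin 11 → Fin 12 := ![0,10,11,10,10,10,11,11,11,10,11]
def l_h11 : Fin 12 → List ℕ := ![[0],[],[],[],[],[],[],[],[],[],[1,3,4,5,9],[2,6,7,8,10]]
theorem P_h11 : ∀ k : Fin 11, powOK PRE (code 10) (k : ℕ) (U_h11 k) (code (f_h11 k)) = true := by
  decide +kernel
theorem O_h11 : orderOK (code 10) 11 = true := by decide +kernel
theorem G_h11 : GVW T w11 X_h11 Y_h11 := by
  refine gen_cyc_list (T.r 10) 11 (order_eq T code hr hv (by norm_num) O_h11) f_h11
    (fun k => cl_pow T code hr hv hpre (P_h11 k)) z11 z11_pow w11 X_h11 Y_h11 l_h11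
    (by decide +kernel) ?_
  intro i
  fin_cases i
  · show ((443520 : ℕ) : ℂ) * ((([0] : List ℕ).map fun k => z11 ^ k).sum) =
      ((11 : ℕ) : ℂ) * (((40320 : ℤ) : ℂ) + ((0 : ℤ) : ℂ) * w11)
    simp only [List.map_cons, List.map_nil, List.sum_cons, List.sum_nil]
    unfold w11
    push_cast
    linear_combination (0) * z11_sum
  · show ((384 : ℕ) : ℂ) * ((([] : List ℕ).map fun k => z11 ^ k).sum) =
      ((11 : ℕ) : ℂ) * (((0 : ℤ) : ℂ) + ((0 : ℤ) : ℂ) * w11)
    simp only [List.map_cons, List.map_nil, List.sum_cons, List.sum_nil]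
    unfold w11
    push_cast
    linear_combination (0) * z11_sum
  · show ((36 : ℕ) : ℂ) * ((([] : List ℕ).map fun k => z11 ^ k).sum) =
      ((11 : ℕ) : ℂ) * (((0 : ℤ) : ℂ) + ((0 : ℤ) : ℂ) * w11)
    simp only [List.map_cons, List.map_nil, List.sum_cons, List.sum_nil]
    unfold w11
    push_cast
    linear_combination (0) * z11_sum
  · show ((32 : ℕ) : ℂ) * ((([] : List ℕ).map fun k => z11 ^ k).sum) =
      ((11 : ℕ) : ℂ) * (((0 : ℤ) : ℂ) + ((0 : ℤ) : ℂ) * w11)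
    simp only [List.map_cons, List.map_nil, List.sum_cons, List.sum_nil]
    unfold w11
    push_cast
    linear_combination (0) * z11_sum
  · show ((16 : ℕ) : ℂ) * ((([] : List ℕ).map fun k => z11 ^ k).sum) =
      ((11 : ℕ) : ℂ) * (((0 : ℤ) : ℂ) + ((0 : ℤ) : ℂ) * w11)
    simp only [List.map_cons, List.map_nil, List.sum_cons, List.sum_nil]
    unfold w11
    push_cast
    linear_combination (0) * z11_sum
  · show ((5 : ℕ) : ℂ) * ((([] : List ℕ).map fun k => z11 ^ k).sum) =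
      ((11 : ℕ) : ℂ) * (((0 : ℤ) : ℂ) + ((0 : ℤ) : ℂ) * w11)
    simp only [List.map_cons, List.map_nil, List.sum_cons, List.sum_nil]
    unfold w11
    push_cast
    linear_combination (0) * z11_sum
  · show ((12 : ℕ) : ℂ) * ((([] : List ℕ).map fun k => z11 ^ k).sum) =
      ((11 : ℕ) : ℂ) * (((0 : ℤ) : ℂ) + ((0 : ℤ) : ℂ) * w11)
    simp only [List.map_cons, List.map_nil, List.sum_cons, List.sum_nil]
    unfold w11
    push_cast
    linear_combination (0) * z11_sum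
  · show ((7 : ℕ) : ℂ) * ((([] : List ℕ).map fun k => z11 ^ k).sum) =
      ((11 : ℕ) : ℂ) * (((0 : ℤ) : ℂ) + ((0 : ℤ) : ℂ) * w11)
    simp only [List.map_cons, List.map_nil, List.sum_cons, List.sum_nil]
    unfold w11
    push_cast
    linear_combination (0) * z11_sum
  · show ((7 : ℕ) : ℂ) * ((([] : List ℕ).map fun k => z11 ^ k).sum) =
      ((11 : ℕ) : ℂ) * (((0 : ℤ) : ℂ) + ((0 : ℤ) : ℂ) * w11)
    simp only [List.map_cons, List.map_nil, List.sum_cons, List.sum_nil]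
    unfold w11
    push_cast
    linear_combination (0) * z11_sum
  · show ((8 : ℕ) : ℂ) * ((([] : List ℕ).map fun k => z11 ^ k).sum) =
      ((11 : ℕ) : ℂ) * (((0 : ℤ) : ℂ) + ((0 : ℤ) : ℂ) * w11)
    simp only [List.map_cons, List.map_nil, List.sum_cons, List.sum_nil]
    unfold w11
    push_cast
    linear_combination (0) * z11_sum
  · show ((11 : ℕ) : ℂ) * ((([1,3,4,5,9] : List ℕ).map fun k => z11 ^ k).sum) =
      ((11 : ℕ) : ℂ) * (((0 : ℤ) : ℂ) + ((1 : ℤ) : ℂ) * w11)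
    simp only [List.map_cons, List.map_nil, List.sum_cons, List.sum_nil]
    unfold w11
    push_cast
    linear_combination (0) * z11_sum
  · show ((11 : ℕ) : ℂ) * ((([2,6,7,8,10] : List ℕ).map fun k => z11 ^ k).sum) =
      ((11 : ℕ) : ℂ) * (((-1 : ℤ) : ℂ) + ((-1 : ℤ) : ℂ) * w11)
    simp only [List.map_cons, List.map_nil, List.sum_cons, List.sum_nil]
    unfold w11
    push_cast
    linear_combination ((11)) * z11_sum

def X_h11b : Fin 12 → ℤ := ![40320,0,0,0,0,0,0,0,0,0,-1,0]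
def Y_h11b : Fin 12 → ℤ := ![0,0,0,0,0,0,0,0,0,0,-1,1]
def U_h11b : Fin 11 → ℕ := ![984818244535754528103549039458486304,984818244535754528103549039458486304,974921619613952784989714606423650496,967519843513146119234818617750233120,961076180026624722083189521370094624,962143613663999664903173690311260192,979412741077999262986331348815955136,970007925976125034670026147296326848,981560106186169803888591764924748992,960104045326236630046531076318445600,980428441105552711466340926035044544]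
def f_h11b : Fin 11 → Fin 12 := ![0,11,10,11,11,11,10,10,10,11,10]
def l_h11b : Fin 12 → List ℕ := ![[0],[],[],[],[],[],[],[],[],[],[2,6,7,8,10],[1,3,4,5,9]]
theorem P_h11b : ∀ k : Fin 11, powOK PRE (code 11) (k : ℕ) (U_h11b k) (code (f_h11b k)) = true := by
  decide +kernel
theorem O_h11b : orderOK (code 11) 11 = true := by decide +kernel
theorem G_h11b : GVW T w11 X_h11b Y_h11b := by
  refine gen_cyc_list (T.r 11) 11 (order_eq T code hr hv (by norm_num) O_h11b) f_h11b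
    (fun k => cl_pow T code hr hv hpre (P_h11b k)) z11 z11_pow w11 X_h11b Y_h11b l_h11b
    (by decide +kernel) ?_
  intro i
  fin_cases i
  · show ((443520 : ℕ) : ℂ) * ((([0] : List ℕ).map fun k => z11 ^ k).sum) =
      ((11 : ℕ) : ℂ) * (((40320 : ℤ) : ℂ) + ((0 : ℤ) : ℂ) * w11)
    simp only [List.map_cons, List.map_nil, List.sum_cons, List.sum_nil]
    unfold w11
    push_cast
    linear_combination (0) * z11_sum
  · show ((384 : ℕ) : ℂ) * ((([] : List ℕ).map fun k => z11 ^ k).sum) =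
      ((11 : ℕ) : ℂ) * (((0 : ℤ) : ℂ) + ((0 : ℤ) : ℂ) * w11)
    simp only [List.map_cons, List.map_nil, List.sum_cons, List.sum_nil]
    unfold w11
    push_cast
    linear_combination (0) * z11_sum
  · show ((36 : ℕ) : ℂ) * ((([] : List ℕ).map fun k => z11 ^ k).sum) =
      ((11 : ℕ) : ℂ) * (((0 : ℤ) : ℂ) + ((0 : ℤ) : ℂ) * w11)
    simp only [List.map_cons, List.map_nil, List.sum_cons, List.sum_nil]
    unfold w11
    push_cast
    linear_combination (0) * z11_sum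
  · show ((32 : ℕ) : ℂ) * ((([] : List ℕ).map fun k => z11 ^ k).sum) =
      ((11 : ℕ) : ℂ) * (((0 : ℤ) : ℂ) + ((0 : ℤ) : ℂ) * w11)
    simp only [List.map_cons, List.map_nil, List.sum_cons, List.sum_nil]
    unfold w11
    push_cast
    linear_combination (0) * z11_sum
  · show ((16 : ℕ) : ℂ) * ((([] : List ℕ).map fun k => z11 ^ k).sum) =
      ((11 : ℕ) : ℂ) * (((0 : ℤ) : ℂ) + ((0 : ℤ) : ℂ) * w11)
    simp only [List.map_cons, List.map_nil, List.sum_cons, List.sum_nil]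
    unfold w11
    push_cast
    linear_combination (0) * z11_sum
  · show ((5 : ℕ) : ℂ) * ((([] : List ℕ).map fun k => z11 ^ k).sum) =
      ((11 : ℕ) : ℂ) * (((0 : ℤ) : ℂ) + ((0 : ℤ) : ℂ) * w11)
    simp only [List.map_cons, List.map_nil, List.sum_cons, List.sum_nil]
    unfold w11
    push_cast
    linear_combination (0) * z11_sum
  · show ((12 : ℕ) : ℂ) * ((([] : List ℕ).map fun k => z11 ^ k).sum) =
      ((11 : ℕ) : ℂ) * (((0 : ℤ) : ℂ) + ((0 : ℤ) : ℂ) * w11)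
    simp only [List.map_cons, List.map_nil, List.sum_cons, List.sum_nil]
    unfold w11
    push_cast
    linear_combination (0) * z11_sum
  · show ((7 : ℕ) : ℂ) * ((([] : List ℕ).map fun k => z11 ^ k).sum) =
      ((11 : ℕ) : ℂ) * (((0 : ℤ) : ℂ) + ((0 : ℤ) : ℂ) * w11)
    simp only [List.map_cons, List.map_nil, List.sum_cons, List.sum_nil]
    unfold w11
    push_cast
    linear_combination (0) * z11_sum
  · show ((7 : ℕ) : ℂ) * ((([] : List ℕ).map fun k => z11 ^ k).sum) =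
      ((11 : ℕ) : ℂ) * (((0 : ℤ) : ℂ) + ((0 : ℤ) : ℂ) * w11)
    simp only [List.map_cons, List.map_nil, List.sum_cons, List.sum_nil]
    unfold w11
    push_cast
    linear_combination (0) * z11_sum
  · show ((8 : ℕ) : ℂ) * ((([] : List ℕ).map fun k => z11 ^ k).sum) =
      ((11 : ℕ) : ℂ) * (((0 : ℤ) : ℂ) + ((0 : ℤ) : ℂ) * w11)
    simp only [List.map_cons, List.map_nil, List.sum_cons, List.sum_nil]
    unfold w11
    push_cast
    linear_combination (0) * z11_sum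
  · show ((11 : ℕ) : ℂ) * ((([2,6,7,8,10] : List ℕ).map fun k => z11 ^ k).sum) =
      ((11 : ℕ) : ℂ) * (((-1 : ℤ) : ℂ) + ((-1 : ℤ) : ℂ) * w11)
    simp only [List.map_cons, List.map_nil, List.sum_cons, List.sum_nil]
    unfold w11
    push_cast
    linear_combination ((11)) * z11_sum
  · show ((11 : ℕ) : ℂ) * ((([1,3,4,5,9] : List ℕ).map fun k => z11 ^ k).sum) =
      ((11 : ℕ) : ℂ) * (((0 : ℤ) : ℂ) + ((1 : ℤ) : ℂ) * w11)
    simp only [List.map_cons, List.map_nil, List.sum_cons, List.sum_nil]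
    unfold w11
    push_cast
    linear_combination (0) * z11_sum

def A_x0 : Fin 12 → ℤ := ![1,1,1,1,1,1,1,1,1,1,1,1]
def B_x0 : Fin 12 → ℤ := ![0,0,0,0,0,0,0,0,0,0,0,0]
theorem G_x0 {w : ℂ} : GVW T w A_x0 B_x0 :=
  ((G_one (w := w)).smul (1)).congr (by decide +kernel) (by decide +kernel)

def A_x1 : Fin 12 → ℤ := ![21,5,3,1,1,1,-1,0,0,-1,-1,-1]
def B_x1 : Fin 12 → ℤ := ![0,0,0,0,0,0,0,0,0,0,0,0]
theorem G_x1 {w : ℂ} : GVW T w A_x1 B_x1 :=
  (((G_one (w := w)).smul (-3)).add ((G_pts (w := w)).smul (1))).congr (by decide +kernel) (by decide +kernel)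

def A_x2 : Fin 12 → ℤ := ![45,-3,0,1,1,0,0,0,-1,-1,1,1]
def B_x2 : Fin 12 → ℤ := ![0,0,0,0,0,0,0,1,-1,0,0,0]
theorem G_x2 : GVW T w7 A_x2 B_x2 :=
  ((((((((((((G_one (w := w7)).smul (-76)).add ((G_pts (w := w7)).smul (49))).add ((G_hex (w := w7)).smul (-13))).add ((G_hepA (w := w7)).smul (-16))).add ((G_oct0 (w := w7)).smul (5))).add ((G_dod2 (w := w7)).smul (11))).add ((G_dod1 (w := w7)).smul (11))).add ((G_pts_pts (w := w7)).smul (-8))).add ((G_pts_hepA (w := w7)).smul (5))).add ((G_hepA_hepA (w := w7)).smul (-3))).add (G_h7.smul (1))).congr (by decide +kernel) (by decide +kernel)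

def A_x3 : Fin 12 → ℤ := ![45,-3,0,1,1,0,0,-1,0,-1,1,1]
def B_x3 : Fin 12 → ℤ := ![0,0,0,0,0,0,0,-1,1,0,0,0]
theorem G_x3 : GVW T w7 A_x3 B_x3 :=
  (((((((((((((G_one (w := w7)).smul (298)).add ((G_pts (w := w7)).smul (-220))).add ((G_hex (w := w7)).smul (7))).add ((G_hepA (w := w7)).smul (79))).add ((G_oct0 (w := w7)).smul (-8))).add ((G_dod2 (w := w7)).smul (-15))).add ((G_dod1 (w := w7)).smul (-21))).add ((G_pts_pts (w := w7)).smul (41))).add ((G_pts_hepA (w := w7)).smul (-30))).add ((G_hepA_hepA (w := w7)).smul (10))).add (G_h7.smul (-2))).add (G_h7b.smul (-1))).congr (by decide +kernel) (by decide +kernel)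

def A_x4 : Fin 12 → ℤ := ![55,7,1,3,-1,0,1,-1,-1,1,0,0]
def B_x4 : Fin 12 → ℤ := ![0,0,0,0,0,0,0,0,0,0,0,0]
theorem G_x4 {w : ℂ} : GVW T w A_x4 B_x4 :=
  ((((G_one (w := w)).smul (2)).add ((G_pts (w := w)).smul (-1))).add ((G_hex (w := w)).smul (1))).congr (by decide +kernel) (by decide +kernel)

def A_x5 : Fin 12 → ℤ := ![99,3,0,3,-1,-1,0,1,1,-1,0,0]
def B_x5 : Fin 12 → ℤ := ![0,0,0,0,0,0,0,0,0,0,0,0]
theorem G_x5 {w : ℂ} : GVW T w A_x5 B_x5 :=
  ((((((G_one (w := w)).smul (-2)).add ((G_pts (w := w)).smul (1))).add ((G_hex (w := w)).smul (-1))).add ((G_hepA (w := w)).smul (-1))).add ((G_oct0 (w := w)).smul (1))).congr (by decide +kernel) (by decide +kernel)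

def A_x6 : Fin 12 → ℤ := ![154,10,1,-2,2,-1,1,0,0,0,0,0]
def B_x6 : Fin 12 → ℤ := ![0,0,0,0,0,0,0,0,0,0,0,0]
theorem G_x6 {w : ℂ} : GVW T w A_x6 B_x6 :=
  ((((G_one (w := w)).smul (2)).add ((G_pts (w := w)).smul (-1))).add ((G_hepA (w := w)).smul (1))).congr (by decide +kernel) (by decide +kernel)

def A_x7 : Fin 12 → ℤ := ![210,2,3,-2,-2,0,-1,0,0,0,1,1]
def B_x7 : Fin 12 → ℤ := ![0,0,0,0,0,0,0,0,0,0,0,0]
theorem G_x7 {w : ℂ} : GVW T w A_x7 B_x7 :=
  ((((((G_one (w := w)).smul (7)).add ((G_pts (w := w)).smul (-5))).add ((G_hex (w := w)).smul (-1))).add ((G_hepA (w := w)).smul (-1))).add ((G_pts_pts (w := w)).smul (1))).congr (by decide +kernel) (by decide +kernel)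

def A_x8 : Fin 12 → ℤ := ![231,7,-3,-1,-1,1,1,0,0,-1,0,0]
def B_x8 : Fin 12 → ℤ := ![0,0,0,0,0,0,0,0,0,0,0,0]
theorem G_x8 {w : ℂ} : GVW T w A_x8 B_x8 :=
  (((((G_one (w := w)).smul (-9)).add ((G_pts (w := w)).smul (6))).add ((G_dod1 (w := w)).smul (1))).add ((G_pts_pts (w := w)).smul (-1))).congr (by decide +kernel) (by decide +kernel)

def A_x9 : Fin 12 → ℤ := ![280,-8,1,0,0,0,1,0,0,0,-1,0]
def B_x9 : Fin 12 → ℤ := ![0,0,0,0,0,0,0,0,0,0,-1,1]
theorem G_x9 : GVW T w11 A_x9 B_x9 :=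
  ((((((((((((G_one (w := w11)).smul (54)).add ((G_pts (w := w11)).smul (-36))).add ((G_hex (w := w11)).smul (8))).add ((G_hepA (w := w11)).smul (13))).add ((G_oct0 (w := w11)).smul (-3))).add ((G_dod2 (w := w11)).smul (-7))).add ((G_dod1 (w := w11)).smul (-7))).add ((G_pts_pts (w := w11)).smul (6))).add ((G_pts_hepA (w := w11)).smul (-4))).add ((G_hepA_hepA (w := w11)).smul (2))).add (G_h11.smul (-1))).congr (by decide +kernel) (by decide +kernel)

def A_x10 : Fin 12 → ℤ := ![280,-8,1,0,0,0,1,0,0,0,0,-1]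
def B_x10 : Fin 12 → ℤ := ![0,0,0,0,0,0,0,0,0,0,1,-1]
theorem G_x10 : GVW T w11 A_x10 B_x10 :=
  ((((((((((((G_one (w := w11)).smul (-53)).add ((G_pts (w := w11)).smul (38))).add ((G_hex (w := w11)).smul (-3))).add ((G_hepA (w := w11)).smul (-13))).add ((G_oct0 (w := w11)).smul (2))).add ((G_dod2 (w := w11)).smul (4))).add ((G_dod1 (w := w11)).smul (5))).add ((G_pts_pts (w := w11)).smul (-7))).add ((G_pts_hepA (w := w11)).smul (5))).add ((G_hepA_hepA (w := w11)).smul (-2))).add (G_h11.smul (1))).congr (by decide +kernel) (by decide +kernel)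

def A_x11 : Fin 12 → ℤ := ![385,1,-2,1,1,0,-2,0,0,1,0,0]
def B_x11 : Fin 12 → ℤ := ![0,0,0,0,0,0,0,0,0,0,0,0]
theorem G_x11 {w : ℂ} : GVW T w A_x11 B_x11 :=
  ((((((G_one (w := w)).smul (-2)).add ((G_pts (w := w)).smul (1))).add ((G_hex (w := w)).smul (-1))).add ((G_hepA (w := w)).smul (-1))).add ((G_dod2 (w := w)).smul (1))).congr (by decide +kernel) (by decide +kernel)

def AA : Fin 12 → Fin 12 → ℤ := ![A_x0,A_x1,A_x2,A_x3,A_x4,A_x5,A_x6,A_x7,A_x8,A_x9,A_x10,A_x11]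
def BB : Fin 12 → Fin 12 → ℤ := ![B_x0,B_x1,B_x2,B_x3,B_x4,B_x5,B_x6,B_x7,B_x8,B_x9,B_x10,B_x11]
def wi : Fin 12 → Fin 3 := ![0,0,1,1,0,0,0,0,0,2,2,0]
noncomputable def Wq : Fin 3 → ℂ := ![0, w7, w11]
def tq : Fin 3 → ℤ := ![0, -1, -1]
def Nq : Fin 3 → ℤ := ![0, 2, 3]

theorem Wq_trace (q : Fin 3) : Wq q + conj (Wq q) = tq q := by
  fin_cases q
  · simp [Wq, tq]
  · exact w7_trace
  · exact w11_trace

theorem Wq_norm (q : Fin 3) : Wq q * conj (Wq q) = Nq q := by
  fin_cases q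
  · simp [Wq, Nq]
  · exact w7_norm
  · exact w11_norm

theorem Wq_int (q : Fin 3) : IsIntegral ℤ (Wq q) := by
  fin_cases q
  · exact isIntegral_zero
  · exact w7_int
  · exact w11_int

theorem Wq_im (q : Fin 3) (h : q ≠ 0) : (Wq q).im ≠ 0 := by
  fin_cases q
  · exact absurd rfl h
  · exact w7_im
  · exact w11_im

theorem r_zero : T.r 0 = 1 := by
  apply Subtype.ext
  show decode (code 0) = 1
  rw [show code 0 = idC by decide +kernel]
  exact decode_idC

theorem norm_ok : ∀ j, ∑ i, ((cs i : ℕ) : ℤ) *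
    (AA j i * AA j i + tq (wi j) * (AA j i * BB j i) + Nq (wi j) * (BB j i * BB j i)) = 443520 := by
  decide +kernel

/-- The character table. -/
noncomputable def C : Chars T where
  A := AA
  B := BB
  W j := Wq (wi j)
  t j := tq (wi j)
  N j := Nq (wi j)
  i0 := 0
  r_i0 := r_zero
  trace_W j := Wq_trace _
  norm_W j := Wq_norm _
  gen j := by
    fin_cases j
    · exact G_x0
    · exact G_x1
    · exact G_x2
    · exact G_x3
    · exact G_x4
    · exact G_x5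
    · exact G_x6
    · exact G_x7
    · exact G_x8
    · exact G_x9
    · exact G_x10
    · exact G_x11
  norm_eq j := by
    rw [card_G2]
    exact norm_ok j
  deg0 := by decide +kernel
  deg_pos := by decide +kernel
  sep := sep_of (fun _ => rfl) Wq_im (by decide +kernel)

def EE : Fin 12 → ℕ := ![0,0,0,0,0,0,1,1,0,3,3,0]
def DD : Fin 12 → ℕ := ![1,21,45,45,55,99,77,105,231,35,35,385]

theorem sameBlock {M : Ideal AlgInt} (hM : IsPModular 2 M)
    (χ ψ : IrrCharacter ↥(G [0, 23])) : SameBlock M (χ : ↥(G [0, 23]) → ℂ) (ψ : ↥(G [0, 23]) → ℂ) :=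
  C.sameBlock_all hM (fun j => Wq_int _) EE DD (by decide +kernel) (by decide +kernel)
    (by decide +kernel) (by decide +kernel) χ ψ

end Cfsg.Agent.Lib.M22Chars
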