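import Mathlib
import Cfsg.Agent.Lib.M22c46Ok1

/-!
# The checks for the covering group of `M22`: the certificate for the upper bound
-/

set_option autoImplicit false
set_option maxRecDepth 100000

namespace Cfsg.Agent.Lib.M22c46

open Cfsg.Agent.Lib.Golay Cfsg.Agent.Lib.GolaySift Cfsg.Agent.Lib.MathieuOut Cfsg.Agent.Lib.SchurCoset46
  Cfsg.Agent.Lib.SchurCosetGolay46 Cfsg.Agent.Lib.SchurPres46 Cfsg.Agent.Lib.SchurGolayTab46

/-- The relations. -/
def tE2 : List (List (ℕ × ℕ × ℕ)) := [[],[(11,0,60),(19,0,52),(19,0,75),(39,0,103),(51,0,106),(59,0,23),(62,0,104),(63,0,72),(63,0,111),(71,0,114)],[(9,0,103),(9,0,106),(20,0,52),(21,0,104),(30,0,72),(39,0,60),(65,0,75),(68,0,23)],[(3,0,72),(3,0,106),(25,0,103),(39,0,75),(51,0,23),(53,0,60),(56,0,52)],[(4,0,103),(5,0,23),(9,0,52),(15,0,75),(21,0,104),(30,0,72),(53,0,60),(71,0,106)],[(27,0,52),(34,0,60),(37,0,75),(49,0,72),(52,0,23),(71,0,104)],[(12,0,72),(32,0,23),(39,0,60),(66,0,52)],[(1,0,72),(24,0,23),(27,0,60),(31,0,52)],[(30,0,52),(55,0,23),(71,0,60)],[(59,0,52)]]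

/-- The certificate. -/
def cert2 : CertE := { cert with relP := fun p => tE2.getD p [], rel0 := [(5,0,60),(6,0,114),(10,0,103),(12,0,104),(18,0,72),(22,0,75),(27,0,106),(32,0,52),(47,0,23),(61,0,111)] }

theorem cv_0 : (List.range' (0 * 512) 512).all cert2.varChk = true := by decide +kernel
theorem cv_1 : (List.range' (1 * 512) 512).all cert2.varChk = true := by decide +kernel
theorem cv_2 : (List.range' (2 * 512) 512).all cert2.varChk = true := by decide +kernel
theorem cv_3 : (List.range' (3 * 512) 512).all cert2.varChk = true := by decide +kernel
theorem cv_4 : (List.range' (4 * 512) 512).all cert2.varChk = true := by decide +kernel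
theorem cv_5 : (List.range' (5 * 512) 512).all cert2.varChk = true := by decide +kernel
theorem cv_6 : (List.range' (6 * 512) 512).all cert2.varChk = true := by decide +kernel
theorem cv_7 : (List.range' (7 * 512) 512).all cert2.varChk = true := by decide +kernel
theorem cv_8 : (List.range' (8 * 512) 512).all cert2.varChk = true := by decide +kernel
theorem cv_9 : (List.range' (9 * 512) 512).all cert2.varChk = true := by decide +kernel
theorem cv_10 : (List.range' (10 * 512) 512).all cert2.varChk = true := by decide +kernel
theorem cv_11 : (List.range' (11 * 512) 512).all cert2.varChk = true := by decide +kernel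
theorem cv_12 : (List.range' (12 * 512) 512).all cert2.varChk = true := by decide +kernel
theorem cv_13 : (List.range' (13 * 512) 512).all cert2.varChk = true := by decide +kernel
theorem cv_14 : (List.range' (14 * 512) 512).all cert2.varChk = true := by decide +kernel
theorem cv_15 : (List.range' (15 * 512) 512).all cert2.varChk = true := by decide +kernel
theorem cv_16 : (List.range' (16 * 512) 512).all cert2.varChk = true := by decide +kernel
theorem cv_17 : (List.range' (17 * 512) 512).all cert2.varChk = true := by decide +kernel
theorem cv_18 : (List.range' (18 * 512) 512).all cert2.varChk = true := by decide +kernel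
theorem cv_19 : (List.range' (19 * 512) 512).all cert2.varChk = true := by decide +kernel
theorem cv_20 : (List.range' (20 * 512) 512).all cert2.varChk = true := by decide +kernel
theorem cv_21 : (List.range' (21 * 512) 512).all cert2.varChk = true := by decide +kernel
theorem cv_22 : (List.range' (22 * 512) 512).all cert2.varChk = true := by decide +kernel
theorem cv_23 : (List.range' (23 * 512) 512).all cert2.varChk = true := by decide +kernel
theorem cv_24 : (List.range' (24 * 512) 512).all cert2.varChk = true := by decide +kernel
theorem cv_25 : (List.range' (25 * 512) 512).all cert2.varChk = true := by decide +kernel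
theorem cv_26 : (List.range' (26 * 512) 512).all cert2.varChk = true := by decide +kernel
theorem cv_27 : (List.range' (27 * 512) 512).all cert2.varChk = true := by decide +kernel
theorem cv_28 : (List.range' (28 * 512) 512).all cert2.varChk = true := by decide +kernel
theorem cv_29 : (List.range' (29 * 512) 512).all cert2.varChk = true := by decide +kernel
theorem cv_30 : (List.range' (30 * 512) 512).all cert2.varChk = true := by decide +kernel
theorem cv_r : (List.range' (31 * 512) 278).all cert2.varChk = true := by decide +kernel

theorem cert_vars : (List.range cert2.NV).all cert2.varChk = true := by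
  have h := all_range_of_chunks cert2.varChk 512 31 278 (by
    intro i hi
    interval_cases i
    · exact cv_0
    · exact cv_1
    · exact cv_2
    · exact cv_3
    · exact cv_4
    · exact cv_5
    · exact cv_6
    · exact cv_7
    · exact cv_8
    · exact cv_9
    · exact cv_10
    · exact cv_11
    · exact cv_12
    · exact cv_13
    · exact cv_14
    · exact cv_15
    · exact cv_16
    · exact cv_17
    · exact cv_18
    · exact cv_19
    · exact cv_20
    · exact cv_21
    · exact cv_22
    · exact cv_23
    · exact cv_24
    · exact cv_25
    · exact cv_26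
    · exact cv_27
    · exact cv_28
    · exact cv_29
    · exact cv_30
    ) cv_r
  exact h

theorem cert_par : cert2.paramsChk = true := by decide +kernel

theorem cert_rel0 : cert2.rel0Chk = true := by decide +kernel

theorem cert_tab : cert2.base.tabChk = true := tab_ok

theorem cert_ok : cert2.check = true := by
  unfold CertE.check
  rw [cert_tab, cert_vars, cert_par, cert_rel0]
  rfl

end Cfsg.Agent.Lib.M22c46
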