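import Cfsg.Agent.Lib.M23CocodeCore
import Mathlib.Tactic.IntervalCases

/-! The coboundary test for the first generator, in chunks. -/

set_option autoImplicit false

namespace Cfsg.Agent.Lib.M23CocodeChkA

open Cfsg.Agent.Lib.M23CocodeCore Cfsg.Agent.Lib.M23CocodeData

theorem c0 : allN (fun i => dX faTab gaTab (0 * 128 + i)) 128 = true := by decide +kernel
theorem c1 : allN (fun i => dX faTab gaTab (1 * 128 + i)) 128 = true := by decide +kernel
theorem c2 : allN (fun i => dX faTab gaTab (2 * 128 + i)) 128 = true := by decide +kernel
theorem c3 : allN (fun i => dX faTab gaTab (3 * 128 + i)) 128 = true := by decide +kernel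
theorem c4 : allN (fun i => dX faTab gaTab (4 * 128 + i)) 128 = true := by decide +kernel
theorem c5 : allN (fun i => dX faTab gaTab (5 * 128 + i)) 128 = true := by decide +kernel
theorem c6 : allN (fun i => dX faTab gaTab (6 * 128 + i)) 128 = true := by decide +kernel
theorem c7 : allN (fun i => dX faTab gaTab (7 * 128 + i)) 128 = true := by decide +kernel
theorem c8 : allN (fun i => dX faTab gaTab (8 * 128 + i)) 128 = true := by decide +kernel
theorem c9 : allN (fun i => dX faTab gaTab (9 * 128 + i)) 128 = true := by decide +kernel
theorem c10 : allN (fun i => dX faTab gaTab (10 * 128 + i)) 128 = true := by decide +kernel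
theorem c11 : allN (fun i => dX faTab gaTab (11 * 128 + i)) 128 = true := by decide +kernel
theorem c12 : allN (fun i => dX faTab gaTab (12 * 128 + i)) 128 = true := by decide +kernel
theorem c13 : allN (fun i => dX faTab gaTab (13 * 128 + i)) 128 = true := by decide +kernel
theorem c14 : allN (fun i => dX faTab gaTab (14 * 128 + i)) 128 = true := by decide +kernel
theorem c15 : allN (fun i => dX faTab gaTab (15 * 128 + i)) 128 = true := by decide +kernel

theorem chk : ∀ x, x < 2048 → dX faTab gaTab x = true := by
  apply of_chunks
  intro k hk
  interval_cases k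
  · exact c0
  · exact c1
  · exact c2
  · exact c3
  · exact c4
  · exact c5
  · exact c6
  · exact c7
  · exact c8
  · exact c9
  · exact c10
  · exact c11
  · exact c12
  · exact c13
  · exact c14
  · exact c15

end Cfsg.Agent.Lib.M23CocodeChkA
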