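import Mathlib
import Cfsg.Agent.S2037
import Cfsg.Agent.Lib.M23CocodeChkA
import Cfsg.Agent.Lib.M23CocodeChkB

/-!
# A non-split extension of `M₂₃` by its cocode module

The group consists of the pairs `(g, f)` with `g ∈ M₂₃` and `f` a function on the code words
vanishing at the extra point, whose defect from additivity is prescribed by `g` and a fixed cocycle.
-/

set_option autoImplicit false
set_option maxRecDepth 100000
set_option linter.unusedVariables false
set_option linter.unusedSectionVars false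

namespace Cfsg.Agent.Lib.M23Cocode

open Cfsg Cfsg.Spor Cfsg.Agent.Lib.Golay Cfsg.Agent.Lib.M23CocodeCore Cfsg.Agent.Lib.M23CocodeData
  Cfsg.Agent.S2037
open scoped Pointwise

/-- Binary words on the 24 points. -/
abbrev W := GolayPt → ZMod 2

/-- The code words vanishing at the extra point. -/
def Cinf : AddSubgroup W where
  carrier := {c | c ∈ golayCode ∧ c none = 0}
  add_mem' := by
    rintro a b ⟨h1, h2⟩ ⟨h3, h4⟩
    exact ⟨golayCode.add_mem h1 h3, by simp [h2, h4]⟩
  zero_mem' := ⟨golayCode.zero_mem, rfl⟩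
  neg_mem' := by
    rintro a ⟨h1, h2⟩
    exact ⟨golayCode.neg_mem h1, by simp [h2]⟩

theorem push_mem {g : Equiv.Perm GolayPt} (hg : g ∈ M24) {c : W} (hc : c ∈ golayCode) :
    pushWord g c ∈ golayCode := by
  have h1 : support₂ c ∈ supports (golayCode : Set (GolayPt → ZMod 2)) := by
    rw [mem_supports_iff]
    exact (mem_golayCode_iff c).1 hc
  have h2 := smul_mem_supports hg h1
  rw [mem_supports_iff, ← support_pushWord] at h2
  exact (mem_golayCode_iff _).2 h2

theorem fix_none (g : ↥M23) : (g : Equiv.Perm GolayPt).symm none = none := by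
  have h : (g : Equiv.Perm GolayPt) none = none := g.2.2
  rw [Equiv.symm_apply_eq, h]

/-- The action of `M₂₃` on the code words. -/
def gact (g : ↥M23) (c : ↥Cinf) : ↥Cinf :=
  ⟨pushWord (g : Equiv.Perm GolayPt) c.1, push_mem (M23_le_M24 g.2) c.2.1, by
    show c.1 ((g : Equiv.Perm GolayPt).symm none) = 0
    rw [fix_none]
    exact c.2.2⟩

theorem gact_apply (g : ↥M23) (c : ↥Cinf) (p : GolayPt) :
    (gact g c).1 p = c.1 ((g : Equiv.Perm GolayPt).symm p) := rfl

theorem gact_one (c : ↥Cinf) : gact 1 c = c := rfl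

theorem gact_mul (g h : ↥M23) (c : ↥Cinf) : gact (g * h) c = gact g (gact h c) := rfl

theorem gact_add (g : ↥M23) (c d : ↥Cinf) : gact g (c + d) = gact g c + gact g d := rfl

theorem gact_inv_self (g : ↥M23) (c : ↥Cinf) : gact g⁻¹ (gact g c) = c := by
  rw [← gact_mul, inv_mul_cancel, gact_one]

theorem gact_self_inv (g : ↥M23) (c : ↥Cinf) : gact g (gact g⁻¹ c) = c := by
  rw [← gact_mul, mul_inv_cancel, gact_one]

/-- The low coordinates of a code word. -/
def ix (c : ↥Cinf) : ℕ := Nat.land (maskOf c.1) 2047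

theorem land_lt (m : ℕ) : Nat.land m 2047 < 2048 := by
  have : Nat.land m 2047 ≤ 2047 := Nat.and_le_right
  omega

theorem ix_lt (c : ↥Cinf) : ix c < 2048 := land_lt _

theorem land_of_lt {x : ℕ} (hx : x < 2048) : Nat.land x 2047 = x := by
  have h : x &&& (2 ^ 11 - 1) = x % 2 ^ 11 := Nat.and_two_pow_sub_one_eq_mod x 11
  have h2 : x % 2 ^ 11 = x := Nat.mod_eq_of_lt hx
  rw [h2] at h
  exact h

theorem maskOf_add (a b : W) : maskOf (a + b) = Nat.xor (maskOf a) (maskOf b) := by
  conv_lhs => rw [← word_maskOf a, ← word_maskOf b, ← word_xor]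
  exact maskOf_word (lt_of_xor (maskOf_lt a) (maskOf_lt b))

theorem land_xor (a b : ℕ) : Nat.land (Nat.xor a b) 2047 = Nat.xor (Nat.land a 2047) (Nat.land b 2047) :=
  Nat.and_xor_distrib_right

theorem ix_add (c d : ↥Cinf) : ix (c + d) = Nat.xor (ix c) (ix d) := by
  show Nat.land (maskOf (c.1 + d.1)) 2047 = _
  rw [maskOf_add, land_xor]
  rfl

/-- The code word with given low coordinates, as a mask. -/
def wm (x : ℕ) : ℕ := look 24 16777215 wmTab x

theorem wm_chk : allN (fun x => Nat.blt (wm x) (2 ^ 24) && Nat.beq (reduce (wm x)) 0 &&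
    !(Nat.testBit (wm x) 23) && Nat.beq (Nat.land (wm x) 2047) x) 2048 = true := by
  decide +kernel

theorem code_chk : codeL.all (fun m => Nat.testBit m 23 || Nat.beq (wm (Nat.land m 2047)) m) = true := by
  decide +kernel

theorem wm_spec {x : ℕ} (hx : x < 2048) :
    wm x < 2 ^ 24 ∧ reduce (wm x) = 0 ∧ Nat.testBit (wm x) 23 = false ∧ Nat.land (wm x) 2047 = x := by
  have h := of_allN wm_chk x hx
  simp only [Bool.and_eq_true, Bool.not_eq_true'] at h
  obtain ⟨⟨⟨h1, h2⟩, h3⟩, h4⟩ := h
  exact ⟨Nat.le_of_ble_eq_true h1, Nat.eq_of_beq_eq_true h2, h3, Nat.eq_of_beq_eq_true h4⟩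

theorem word_none (m : ℕ) : word m none = if m.testBit 23 = true then 1 else 0 := rfl

/-- The code word with given low coordinates. -/
def cw (x : ℕ) : ↥Cinf :=
  ⟨word (wm (Nat.land x 2047)), by
    obtain ⟨h1, h2, h3, -⟩ := wm_spec (land_lt x)
    exact ⟨(word_mem_golayCode h1).2 h2, by rw [word_none, h3]; rfl⟩⟩

theorem cw_val {x : ℕ} (hx : x < 2048) : (cw x).1 = word (wm x) := by
  show word (wm (Nat.land x 2047)) = _
  rw [land_of_lt hx]

theorem cw_ix (c : ↥Cinf) : cw (ix c) = c := by
  apply Subtype.ext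
  rw [cw_val (ix_lt c)]
  have h1 : maskOf c.1 ∈ codeL := (mem_golayCode_iff_list c.1).1 c.2.1
  have h2 := List.all_eq_true.1 code_chk _ h1
  have h3 : Nat.testBit (maskOf c.1) 23 = false := by
    have h4 : word (maskOf c.1) none = 0 := by rw [word_maskOf]; exact c.2.2
    rw [word_none] at h4
    cases h5 : Nat.testBit (maskOf c.1) 23 with
    | false => rfl
    | true => rw [h5] at h4; simp at h4
  rw [h3] at h2
  have h6 : wm (ix c) = maskOf c.1 := Nat.eq_of_beq_eq_true h2
  rw [h6, word_maskOf]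

theorem ix_cw {x : ℕ} (hx : x < 2048) : ix (cw x) = x := by
  show Nat.land (maskOf (cw x).1) 2047 = x
  rw [cw_val hx, maskOf_word (wm_spec hx).1]
  exact (wm_spec hx).2.2.2

theorem ix_inj {c d : ↥Cinf} (h : ix c = ix d) : c = d := by
  rw [← cw_ix c, ← cw_ix d, h]

theorem cw_add {x y : ℕ} (hx : x < 2048) (hy : y < 2048) : cw x + cw y = cw (Nat.xor x y) := by
  apply ix_inj
  have h : Nat.xor x y < 2048 := Nat.xor_lt_two_pow (n := 11) hx hy
  rw [ix_add, ix_cw hx, ix_cw hy, ix_cw h]

theorem cw_zero : cw 0 = 0 := by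
  apply ix_inj
  rw [ix_cw (by norm_num)]
  have : (0 : ↥Cinf).1 = (0 : W) := rfl
  show _ = Nat.land (maskOf (0 : ↥Cinf).1) 2047
  rw [this]
  have h0 : maskOf (0 : W) = 0 := by
    rw [← word_zero]
    exact maskOf_word (by norm_num)
  rw [h0]
  rfl

/-! ### the cocycle and the group -/

/-- The cocycle. -/
def th (c d : ↥Cinf) : ZMod 2 := ((thN (ix c) (ix d) : ℕ) : ZMod 2)

theorem two_z : (2 : ZMod 2) = 0 := rfl

/-- The extension. -/
@[ext] structure Ex where
  /-- the element of `M₂₃` -/
  g : ↥M23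
  /-- the function -/
  f : ↥Cinf → ZMod 2
  /-- the defect -/
  cond : ∀ c d, f (c + d) = f c + f d + th c d + th (gact g c) (gact g d)

instance : Mul Ex := ⟨fun x y => ⟨x.g * y.g, fun c => y.f c + x.f (gact y.g c), by
  intro c d
  rw [y.cond c d, gact_add, x.cond (gact y.g c) (gact y.g d), gact_mul, gact_mul]
  linear_combination (th (gact y.g c) (gact y.g d)) * two_z⟩⟩

instance : One Ex := ⟨⟨1, fun _ => 0, by
  intro c d
  rw [gact_one, gact_one]
  linear_combination (- th c d) * two_z⟩⟩

instance : Inv Ex := ⟨fun x => ⟨x.g⁻¹, fun c => x.f (gact x.g⁻¹ c), by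
  intro c d
  rw [gact_add, x.cond, gact_self_inv, gact_self_inv]
  ring⟩⟩

theorem mul_g (x y : Ex) : (x * y).g = x.g * y.g := rfl
theorem mul_f (x y : Ex) (c : ↥Cinf) : (x * y).f c = y.f c + x.f (gact y.g c) := rfl
theorem one_g : (1 : Ex).g = 1 := rfl
theorem one_f (c : ↥Cinf) : (1 : Ex).f c = 0 := rfl
theorem inv_g (x : Ex) : (x⁻¹).g = x.g⁻¹ := rfl
theorem inv_f (x : Ex) (c : ↥Cinf) : (x⁻¹).f c = x.f (gact x.g⁻¹ c) := rfl

instance : Group Ex := Group.ofLeftAxioms
  (by
    intro a b c
    apply Ex.ext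
    · exact mul_assoc _ _ _
    · funext d
      simp only [mul_f, mul_g, gact_mul]
      ring)
  (by
    intro a
    apply Ex.ext
    · exact one_mul _
    · funext d
      simp only [mul_f, one_f, add_zero])
  (by
    intro a
    apply Ex.ext
    · exact inv_mul_cancel _
    · funext d
      simp only [mul_f, inv_f, inv_g, one_f, mul_g, gact_inv_self]
      linear_combination (a.f d) * two_z)

instance : Finite Ex := by
  have h : Function.Injective (fun x : Ex => (x.g, x.f)) := by
    intro x y hxy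
    have h1 := congrArg Prod.fst hxy
    have h2 := congrArg Prod.snd hxy
    exact Ex.ext h1 h2
  exact Finite.of_injective _ h

/-- The projection. -/
def piE : Ex →* ↥M23 where
  toFun := Ex.g
  map_one' := rfl
  map_mul' := fun _ _ => rfl

theorem piE_apply (x : Ex) : piE x = x.g := rfl

/-! ### cast lemmas -/

theorem bitN_01 (T q : ℕ) : bitN T q = 0 ∨ bitN T q = 1 := by
  have : bitN T q ≤ 1 := Nat.and_le_right
  omega

theorem thN_01 (x y : ℕ) : thN x y = 0 ∨ thN x y = 1 := bitN_01 _ _

theorem xor_01 {a b : ℕ} (ha : a = 0 ∨ a = 1) (hb : b = 0 ∨ b = 1) :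
    Nat.xor a b = 0 ∨ Nat.xor a b = 1 := by
  rcases ha with rfl | rfl <;> rcases hb with rfl | rfl <;> decide

theorem cast_xor {a b : ℕ} (ha : a = 0 ∨ a = 1) (hb : b = 0 ∨ b = 1) :
    ((Nat.xor a b : ℕ) : ZMod 2) = (a : ZMod 2) + b := by
  rcases ha with rfl | rfl <;> rcases hb with rfl | rfl <;> decide

/-! ### lifts of the generators -/

/-- A lift given by tables. -/
def liftOf (g : ↥M23) (FT GT : ℕ) (hg : ∀ c, ix (gact g c) = look 11 2047 GT (ix c))
    (hc : ∀ x, x < 2048 → dX FT GT x = true) : Ex where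
  g := g
  f := fun c => ((bitN FT (ix c) : ℕ) : ZMod 2)
  cond := by
    intro c d
    have h := of_dX hc (ix c) (ix d) (ix_lt c) (ix_lt d)
    rw [ix_add]
    have h1 := congrArg (Nat.cast : ℕ → ZMod 2) h
    rw [cast_xor (xor_01 (bitN_01 _ _) (bitN_01 _ _)) (xor_01 (thN_01 _ _) (thN_01 _ _)),
      cast_xor (bitN_01 _ _) (bitN_01 _ _), cast_xor (thN_01 _ _) (thN_01 _ _)] at h1
    simp only [th, hg]
    rw [← h1]
    linear_combination (- ((bitN FT (ix d) : ℕ) : ZMod 2) - ((thN (ix c) (ix d) : ℕ) : ZMod 2)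
      - ((thN (look 11 2047 GT (ix c)) (look 11 2047 GT (ix d)) : ℕ) : ZMod 2)) * two_z

theorem ix_gact_decode {k : ℕ} (hv : valid k = true) (g : ↥M23) (hg : (g : Equiv.Perm GolayPt) = decode k)
    (c : ↥Cinf) : ix (gact g c) = Nat.land (img k (wm (ix c))) 2047 := by
  show Nat.land (maskOf (pushWord (g : Equiv.Perm GolayPt) c.1)) 2047 = _
  have h1 : c.1 = word (wm (ix c)) := by
    conv_lhs => rw [← cw_ix c]
    exact cw_val (ix_lt c)
  rw [hg, h1, pushWord_word, decode_smul_ofMask hv, toMask_ofMask (img_lt hv _), maskOf_word (img_lt hv _)]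

theorem a_tab : allN (fun x => Nat.beq (Nat.land (img ac (wm x)) 2047) (look 11 2047 gaTab x)) 2048 = true := by
  decide +kernel

theorem b_tab : allN (fun x => Nat.beq (Nat.land (img bc (wm x)) 2047) (look 11 2047 gbTab x)) 2048 = true := by
  decide +kernel

/-- A lift of the first generator. -/
noncomputable def aE : Ex :=
  liftOf ⟨aP, aP_M23⟩ faTab gaTab
    (fun c => by
      rw [ix_gact_decode (isM24_valid ac_M24) _ rfl]
      exact Nat.eq_of_beq_eq_true (of_allN a_tab _ (ix_lt c)))
    Cfsg.Agent.Lib.M23CocodeChkA.chk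

/-- A lift of the second generator. -/
noncomputable def bE : Ex :=
  liftOf ⟨bP, bP_M23⟩ fbTab gbTab
    (fun c => by
      rw [ix_gact_decode (isM24_valid bc_M24) _ rfl]
      exact Nat.eq_of_beq_eq_true (of_allN b_tab _ (ix_lt c)))
    Cfsg.Agent.Lib.M23CocodeChkB.chk

theorem piE_surj : Function.Surjective piE := by
  have h : M23 ≤ (piE.range).map M23.subtype := by
    apply sift
    · rintro g ⟨y, -, rfl⟩
      exact M23_le_M24 y.2
    · exact ⟨⟨aP, aP_M23⟩, ⟨aE, rfl⟩, rfl⟩
    · exact ⟨⟨bP, bP_M23⟩, ⟨bE, rfl⟩, rfl⟩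
  intro g
  obtain ⟨y, ⟨x, hx⟩, hy⟩ := h g.2
  refine ⟨x, ?_⟩
  apply Subtype.ext
  rw [hx]
  exact hy

/-! ### the homomorphism from words -/

/-- The pairing of a word with a code word. -/
def dotW (w : W) (c : ↥Cinf) : ZMod 2 := ∑ p, w p * c.1 p

theorem dotW_add_left (a b : W) (c : ↥Cinf) : dotW (a + b) c = dotW a c + dotW b c := by
  simp only [dotW, Pi.add_apply, add_mul, Finset.sum_add_distrib]

theorem dotW_add_right (w : W) (c d : ↥Cinf) : dotW w (c + d) = dotW w c + dotW w d := by
  simp only [dotW, AddSubgroup.coe_add, Pi.add_apply, mul_add, Finset.sum_add_distrib]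

theorem dotW_smul (a : ZMod 2) (v : W) (c : ↥Cinf) : dotW (a • v) c = a * dotW v c := by
  simp only [dotW, Pi.smul_apply, smul_eq_mul, Finset.mul_sum, mul_assoc]

/-- The element of the kernel given by a word. -/
def thE (w : W) : Ex where
  g := 1
  f := dotW w
  cond := by
    intro c d
    rw [dotW_add_right, gact_one, gact_one]
    linear_combination (- th c d) * two_z

/-- The kernel. -/
abbrev NE : Subgroup Ex := piE.ker

theorem mem_NE {x : Ex} : x ∈ NE ↔ x.g = 1 := MonoidHom.mem_ker

/-- The element of the kernel given by a word. -/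
def thK (w : W) : ↥NE := ⟨thE w, mem_NE.2 rfl⟩

theorem thE_add (a b : W) : thE (a + b) = thE a * thE b := by
  apply Ex.ext
  · exact (one_mul _).symm
  · funext c
    show dotW (a + b) c = dotW b c + dotW a (gact 1 c)
    rw [dotW_add_left, gact_one]
    ring

theorem thK_add (a b : W) : thK (a + b) = thK a * thK b := Subtype.ext (thE_add a b)

/-- The homomorphism from words. -/
def thetaHom : W →+ Additive ↥NE :=
  AddMonoidHom.mk' (fun w => Additive.ofMul (thK w)) (fun a b => congrArg Additive.ofMul (thK_add a b))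

theorem thetaHom_apply (w : W) : ((thetaHom w).toMul : Ex) = thE w := rfl

theorem bk_chk : ∀ k, k < 11 → ∀ j, j < 11 → Nat.testBit (wm (2 ^ k)) j = decide (k = j) := by
  decide +kernel

theorem bk_lt {k : ℕ} (hk : k < 11) : 2 ^ k < 2048 := by
  calc 2 ^ k < 2 ^ 11 := Nat.pow_lt_pow_right (by norm_num) hk
    _ = 2048 := by norm_num

theorem log_chk : allN (fun x => Nat.beq x 0 ||
    (Nat.blt (Nat.log2 x) 11 && Nat.blt (Nat.xor x (2 ^ Nat.log2 x)) x)) 2048 = true := by
  decide +kernel

theorem add_ext (G : ↥Cinf → ZMod 2) (hadd : ∀ c d, G (c + d) = G c + G d)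
    (h : ∀ k, k < 11 → G (cw (2 ^ k)) = 0) : ∀ c, G c = 0 := by
  have h0 : G 0 = 0 := by
    have := hadd 0 0
    rw [add_zero] at this
    linear_combination (-1 : ZMod 2) * this
  have key : ∀ x, x < 2048 → G (cw x) = 0 := by
    intro x
    induction x using Nat.strong_induction_on with
    | _ x ih =>
      intro hx
      have h1 := of_allN log_chk x hx
      simp only [Bool.or_eq_true, Bool.and_eq_true] at h1
      rcases h1 with h1 | ⟨h1, h2⟩
      · have : x = 0 := Nat.eq_of_beq_eq_true h1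
        rw [this, cw_zero, h0]
      · have h3 : Nat.log2 x < 11 := Nat.le_of_ble_eq_true h1
        have h4 : Nat.xor x (2 ^ Nat.log2 x) < x := Nat.le_of_ble_eq_true h2
        have h5 : cw (Nat.xor x (2 ^ Nat.log2 x)) + cw (2 ^ Nat.log2 x) = cw x := by
          rw [cw_add (by omega) (bk_lt h3)]
          congr 1
          show (x ^^^ 2 ^ Nat.log2 x) ^^^ 2 ^ Nat.log2 x = x
          rw [Nat.xor_assoc, Nat.xor_self, Nat.xor_zero]
        rw [← h5, hadd, ih _ h4 (by omega), h _ h3, add_zero]
  intro c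
  rw [← cw_ix c]
  exact key _ (ix_lt c)

theorem theta_surj : Function.Surjective thetaHom := by
  intro y
  have hg : (y.toMul : ↥NE).1.g = 1 := mem_NE.1 (y.toMul : ↥NE).2
  have hadd : ∀ c d, (y.toMul : ↥NE).1.f (c + d) = (y.toMul : ↥NE).1.f c + (y.toMul : ↥NE).1.f d := by
    intro c d
    rw [(y.toMul : ↥NE).1.cond, hg, gact_one, gact_one]
    linear_combination (th c d) * two_z
  let wf : W := fun p => if idx p < 11 then (y.toMul : ↥NE).1.f (cw (2 ^ idx p)) else 0
  have hk : ∀ k, k < 11 → dotW wf (cw (2 ^ k)) = (y.toMul : ↥NE).1.f (cw (2 ^ k)) := by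
    intro k hk
    have hpk : idx (pt k) = k := idx_pt (by omega)
    have hv := cw_val (bk_lt hk)
    rw [dotW, Finset.sum_eq_single (pt k)]
    · rw [hv]
      show (if idx (pt k) < 11 then (y.toMul : ↥NE).1.f (cw (2 ^ idx (pt k))) else 0) *
        (if Nat.testBit (wm (2 ^ k)) (idx (pt k)) = true then 1 else 0) = _
      rw [hpk, if_pos hk, bk_chk k hk k hk]
      simp
    · intro q _ hq
      by_cases hi : idx q < 11
      · have hne : k ≠ idx q := by
          intro h
          apply hq
          rw [h, pt_idx]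
        rw [hv]
        show wf q * (if Nat.testBit (wm (2 ^ k)) (idx q) = true then 1 else 0) = 0
        rw [bk_chk k hk _ hi]
        simp [hne]
      · have : wf q = 0 := if_neg hi
        rw [this, zero_mul]
    · intro h
      exact absurd (Finset.mem_univ _) h
  have hall : ∀ c, dotW wf c + (y.toMul : ↥NE).1.f c = 0 := by
    apply add_ext
    · intro c d
      rw [dotW_add_right, hadd]
      ring
    · intro k hk'
      rw [hk k hk']
      linear_combination ((y.toMul : ↥NE).1.f (cw (2 ^ k))) * two_z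
  refine ⟨wf, ?_⟩
  apply Additive.toMul.injective
  apply Subtype.ext
  apply Ex.ext
  · exact hg.symm
  · funext c
    show dotW wf c = _
    linear_combination hall c - ((y.toMul : ↥NE).1.f c) * two_z

/-! ### the kernel -/

theorem dotW_code {w : W} (hw : w ∈ golayCode) (c : ↥Cinf) : dotW w c = 0 :=
  golay_orth w hw c.1 c.2.1

theorem dotW_e (c : ↥Cinf) : dotW (Pi.single none 1) c = 0 := by
  rw [dotW, Finset.sum_eq_single none]
  · simpa using c.2.2
  · intro q _ hq
    simp [Pi.single_apply, hq]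
  · intro h
    exact absurd (Finset.mem_univ _) h

/-- Special code words. -/
def xp (i : ℕ) : ℕ := [1183, 318, 1763, 1478, 1811, 697, 493, 986, 1972, 1896, 591].getD (i - 12) 0

theorem xp_chk : ∀ i, i < 11 → xp (i + 12) < 2048 ∧ ∀ j, j < 11 →
    Nat.testBit (wm (xp (i + 12))) (j + 12) = decide (i = j) := by
  decide +kernel

theorem idx_none : idx (none : GolayPt) = 23 := rfl

theorem eq_none_of_idx {p : GolayPt} (h : idx p = 23) : p = none := by
  have : idx p = idx (none : GolayPt) := h
  exact idx_injective this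

theorem elim (w3 : W) (hd : ∀ c, dotW w3 c = 0) (hlow : ∀ i, i < 12 → w3 (pt i) = 0)
    (hnone : w3 none = 0) : w3 = 0 := by
  have hp : ∀ p, idx p < 12 → w3 p = 0 := by
    intro p hp
    rw [← pt_idx p]
    exact hlow _ hp
  funext q
  have hq := idx_lt q
  by_cases h1 : idx q < 12
  · exact hp q h1
  by_cases h2 : idx q = 23
  · rw [eq_none_of_idx h2]; exact hnone
  have hi : idx q - 12 < 11 := by omega
  have hii : idx q - 12 + 12 = idx q := by omega
  obtain ⟨hx, hb⟩ := xp_chk _ hi
  rw [hii] at hx hb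
  have h3 := hd (cw (xp (idx q)))
  rw [dotW, Finset.sum_eq_single q] at h3
  · rw [cw_val hx] at h3
    have h4 := hb (idx q - 12) hi
    rw [hii] at h4
    have h5 : word (wm (xp (idx q))) q = 1 := by
      show (if Nat.testBit (wm (xp (idx q))) (idx q) = true then (1 : ZMod 2) else 0) = 1
      rw [h4]
      simp
    rw [h5, mul_one] at h3
    exact h3
  · intro p _ hpq
    have hp' := idx_lt p
    by_cases h6 : idx p < 12
    · rw [hp p h6, zero_mul]
    by_cases h7 : idx p = 23
    · rw [eq_none_of_idx h7, hnone, zero_mul]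
    have hj : idx p - 12 < 11 := by omega
    have hjj : idx p - 12 + 12 = idx p := by omega
    have h4 := hb (idx p - 12) hj
    rw [hjj] at h4
    have hne : idx q - 12 ≠ idx p - 12 := by
      intro h
      apply hpq
      apply idx_injective
      omega
    rw [cw_val hx]
    have h5 : word (wm (xp (idx q))) p = 0 := by
      show (if Nat.testBit (wm (xp (idx q))) (idx p) = true then (1 : ZMod 2) else 0) = 0
      rw [h4]
      simp [hne]
    rw [h5, mul_zero]
  · intro h
    exact absurd (Finset.mem_univ _) h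

/-- A code word with low coordinates zero and nonzero next coordinate. -/
def rW : W := word 14919680

theorem rW_mem : rW ∈ golayCode := (word_mem_golayCode (by norm_num)).2 (by decide +kernel)

theorem rW_low : ∀ i, i < 11 → Nat.testBit 14919680 i = false := by decide +kernel

theorem testBit_land_low (a : ℕ) {i : ℕ} (hi : i < 11) : Nat.testBit (Nat.land a 2047) i = Nat.testBit a i := by
  have h1 : Nat.testBit (a &&& 2047) i = (Nat.testBit a i && Nat.testBit 2047 i) := Nat.testBit_and a 2047 i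
  have key : ∀ i, i < 11 → Nat.testBit 2047 i = true := by decide
  have h2 := key i hi
  show Nat.testBit (a &&& 2047) i = _
  rw [h1, h2, Bool.and_true]

theorem pt_ne_none {i : ℕ} (hi : i < 23) : pt i ≠ none := by
  intro h
  have h1 := idx_pt (i := i) (by omega)
  rw [h, idx_none] at h1
  omega

theorem zmod2_cases (a : ZMod 2) : a = 0 ∨ a = 1 := by
  revert a; decide

theorem ker_fwd (w : W) (h : ∀ c, dotW w c = 0) :
    w ∈ golayCode ∨ w + Pi.single none 1 ∈ golayCode := by
  let x := Nat.land (maskOf w) 2047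
  have hx : x < 2048 := land_lt _
  let c0 : W := (cw x).1
  let w1 : W := w + c0
  let ε := w1 (pt 11)
  let y : W := c0 + ε • rW
  have hy : y ∈ golayCode := golayCode.add_mem (cw x).2.1 (golayCode.smul_mem _ rW_mem)
  let ε' := (w + y) none
  let w3 : W := w + y + ε' • Pi.single none 1
  have hd : ∀ c, dotW w3 c = 0 := by
    intro c
    rw [dotW_add_left, dotW_add_left, dotW_smul, dotW_e, h, dotW_code hy]
    simp
  have hc0 : ∀ p, c0 p = word (wm x) p := by
    intro p
    show (cw x).1 p = _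
    rw [cw_val hx]
  have hlow0 : ∀ i, i < 11 → w1 (pt i) = 0 := by
    intro i hi
    have hpi : idx (pt i) = i := idx_pt (by omega)
    show w (pt i) + c0 (pt i) = 0
    rw [hc0]
    have h1 : w (pt i) = word (maskOf w) (pt i) := by rw [word_maskOf]
    rw [h1]
    show (if Nat.testBit (maskOf w) (idx (pt i)) = true then (1 : ZMod 2) else 0) +
      (if Nat.testBit (wm x) (idx (pt i)) = true then (1 : ZMod 2) else 0) = 0
    rw [hpi]
    have h2 : Nat.testBit (wm x) i = Nat.testBit (maskOf w) i := by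
      rw [← testBit_land_low (wm x) hi, (wm_spec hx).2.2.2]
      exact testBit_land_low _ hi
    rw [h2]
    cases Nat.testBit (maskOf w) i <;> decide
  have hr : ∀ i, i < 11 → rW (pt i) = 0 := by
    intro i hi
    show (if Nat.testBit 14919680 (idx (pt i)) = true then (1 : ZMod 2) else 0) = 0
    rw [idx_pt (by omega), rW_low i hi]
    rfl
  have hr11 : rW (pt 11) = 1 := by
    show (if Nat.testBit 14919680 (idx (pt 11)) = true then (1 : ZMod 2) else 0) = 1
    rw [idx_pt (by norm_num)]
    decide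
  have hs : ∀ i, i < 23 → (Pi.single none 1 : W) (pt i) = 0 := by
    intro i hi
    simp [Pi.single_apply, pt_ne_none hi]
  have hw3 : w3 = 0 := by
    apply elim w3 hd
    · intro i hi
      have h0 : w3 (pt i) = w1 (pt i) + ε * rW (pt i) + ε' * (Pi.single none 1 : W) (pt i) := by
        show w (pt i) + (c0 (pt i) + ε * rW (pt i)) + ε' * (Pi.single none 1 : W) (pt i) = _
        show _ = w (pt i) + c0 (pt i) + ε * rW (pt i) + ε' * (Pi.single none 1 : W) (pt i)
        ring
      rw [h0, hs i (by omega)]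
      by_cases hi' : i < 11
      · rw [hlow0 i hi', hr i hi']
        ring
      · have : i = 11 := by omega
        subst this
        rw [hr11]
        show ε + ε * 1 + ε' * 0 = 0
        linear_combination ε * two_z
    · show (w + y) none + ε' * (Pi.single none 1 : W) none = 0
      have h1 : (Pi.single none 1 : W) none = 1 := by simp
      rw [h1]
      show ε' + ε' * 1 = 0
      linear_combination ε' * two_z
  have hy' : -y ∈ golayCode := golayCode.neg_mem hy
  rcases zmod2_cases ε' with h1 | h1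
  · left
    have h2 : w + y = 0 := by
      have : w3 = w + y + (0 : ZMod 2) • Pi.single none 1 := by
        show w + y + ε' • Pi.single none 1 = _
        rw [h1]
      rw [this, zero_smul, add_zero] at hw3
      exact hw3
    rw [eq_neg_of_add_eq_zero_left h2]
    exact hy'
  · right
    have h2 : (w + Pi.single none 1) + y = 0 := by
      have : w3 = w + y + (1 : ZMod 2) • Pi.single none 1 := by
        show w + y + ε' • Pi.single none 1 = _
        rw [h1]
      rw [this, one_smul] at hw3
      rw [← hw3]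
      abel
    rw [eq_neg_of_add_eq_zero_left h2]
    exact hy'

theorem theta_ker (w : W) : thetaHom w = 0 ↔ (w ∈ golayCode ∨ w + Pi.single none 1 ∈ golayCode) := by
  have h0 : thetaHom w = 0 ↔ ∀ c, dotW w c = 0 := by
    constructor
    · intro h c
      have h1 : ((thetaHom w).toMul : Ex) = 1 := by
        rw [h]
        rfl
      rw [thetaHom_apply] at h1
      have h2 := congrArg Ex.f h1
      exact congrFun h2 c
    · intro h
      apply Additive.toMul.injective
      apply Subtype.ext
      apply Ex.ext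
      · rfl
      · funext c
        exact h c
  rw [h0]
  constructor
  · exact ker_fwd w
  · rintro (h | h) c
    · exact dotW_code h c
    · have h1 := dotW_code h c
      rw [dotW_add_left, dotW_e, add_zero] at h1
      exact h1

/-! ### the conjugation action -/

theorem dotW_comp (g : ↥M23) (w : W) (c : ↥Cinf) :
    dotW (w ∘ ⇑((g : Equiv.Perm GolayPt)⁻¹)) c = dotW w (gact g⁻¹ c) := by
  show ∑ p, w ((g : Equiv.Perm GolayPt)⁻¹ p) * c.1 p = ∑ p, w p * c.1 ((g : Equiv.Perm GolayPt) p)
  rw [← Equiv.sum_comp (g : Equiv.Perm GolayPt)]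
  apply Finset.sum_congr rfl
  intro p _
  have h : ((g : Equiv.Perm GolayPt)⁻¹) ((g : Equiv.Perm GolayPt) p) = p := by simp
  rw [h]

theorem theta_conj (g : Ex) (w : W) :
    thE (w ∘ ⇑((g.g : Equiv.Perm GolayPt)⁻¹)) = g * thE w * g⁻¹ := by
  apply Ex.ext
  · show 1 = g.g * 1 * g.g⁻¹
    group
  · funext c
    show dotW (w ∘ ⇑((g.g : Equiv.Perm GolayPt)⁻¹)) c =
      g.f (gact g.g⁻¹ c) + (dotW w (gact g.g⁻¹ c) + g.f (gact 1 (gact g.g⁻¹ c)))
    rw [dotW_comp, gact_one]
    linear_combination (- g.f (gact g.g⁻¹ c)) * two_z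

/-! ### no complement -/

theorem uc_M24 : isM24 uc = true := by decide +kernel
theorem vc_M24 : isM24 vc = true := by decide +kernel

/-- An element of a quaternion subgroup. -/
noncomputable def uG : ↥M23 := ⟨decode uc, mem_of_code uc_M24 (by decide +kernel)⟩
/-- An element of a quaternion subgroup. -/
noncomputable def vG : ↥M23 := ⟨decode vc, mem_of_code vc_M24 (by decide +kernel)⟩

theorem rel1_chk : ∀ i, i < 24 → ap uc (ap uc i) = ap vc (ap vc i) := by decide +kernel
theorem rel2_chk : ∀ i, i < 24 → ap uc (ap vc (ap uc i)) = ap vc i := by decide +kernel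

theorem uG_apply (p : GolayPt) : idx ((uG : Equiv.Perm GolayPt) p) = ap uc (idx p) :=
  idx_decode (isM24_valid uc_M24) p
theorem vG_apply (p : GolayPt) : idx ((vG : Equiv.Perm GolayPt) p) = ap vc (idx p) :=
  idx_decode (isM24_valid vc_M24) p

theorem rel1 : uG * uG = vG * vG := by
  apply Subtype.ext
  apply Equiv.ext
  intro p
  apply idx_injective
  show idx ((uG : Equiv.Perm GolayPt) ((uG : Equiv.Perm GolayPt) p)) =
    idx ((vG : Equiv.Perm GolayPt) ((vG : Equiv.Perm GolayPt) p))
  rw [uG_apply, uG_apply, vG_apply, vG_apply]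
  exact rel1_chk _ (idx_lt p)

theorem rel2 : uG * vG * uG = vG := by
  apply Subtype.ext
  apply Equiv.ext
  intro p
  apply idx_injective
  show idx ((uG : Equiv.Perm GolayPt) ((vG : Equiv.Perm GolayPt) ((uG : Equiv.Perm GolayPt) p))) =
    idx ((vG : Equiv.Perm GolayPt) p)
  rw [uG_apply, vG_apply, uG_apply, vG_apply]
  exact rel2_chk _ (idx_lt p)

/-- The action of the first element on low coordinates. -/
def uN (x : ℕ) : ℕ := Nat.land (img uc (wm x)) 2047
/-- The action of the second element on low coordinates. -/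
def vN (x : ℕ) : ℕ := Nat.land (img vc (wm x)) 2047

theorem gact_cw_of {k : ℕ} (hv : valid k = true) (g : ↥M23) (hg : (g : Equiv.Perm GolayPt) = decode k)
    {t : ℕ} (ht : t < 2048) : gact g (cw t) = cw (Nat.land (img k (wm t)) 2047) := by
  have h := ix_gact_decode hv g hg (cw t)
  rw [ix_cw ht] at h
  rw [← h, cw_ix]

/-- Xor of a list. -/
def xorL : List ℕ → ℕ
  | [] => 0
  | x :: L => Nat.xor x (xorL L)

/-- The telescoped defects. -/
def pL (G : ℕ → ℕ) : List ℕ → ℕ
  | [] => 0
  | x :: L => Nat.xor (Nat.xor (thN x (xorL L)) (thN (G x) (G (xorL L)))) (pL G L)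

/-- The sum of the values of a function at a list of code words. -/
def sumF (F : ↥Cinf → ZMod 2) : List ℕ → ZMod 2
  | [] => 0
  | x :: L => F (cw x) + sumF F L

theorem sumF_append (F : ↥Cinf → ZMod 2) (A B : List ℕ) : sumF F (A ++ B) = sumF F A + sumF F B := by
  induction A with
  | nil => simp [sumF]
  | cons a A ih =>
    rw [List.cons_append]
    simp only [sumF, ih]
    ring

theorem pL_01 (G : ℕ → ℕ) (L : List ℕ) : pL G L = 0 ∨ pL G L = 1 := by
  induction L with
  | nil => exact Or.inl rfl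
  | cons a L ih => exact xor_01 (xor_01 (thN_01 _ _) (thN_01 _ _)) ih

theorem f_zero (z : Ex) : z.f 0 = 0 := by
  have h := z.cond 0 0
  have h1 : gact z.g 0 = 0 := rfl
  rw [h1, add_zero] at h
  linear_combination (-1 : ZMod 2) * h + (- th 0 0) * two_z

theorem tele (z : Ex) (G : ℕ → ℕ) (hG : ∀ t, t < 2048 → gact z.g (cw t) = cw (G t))
    (hG2 : ∀ t, t < 2048 → G t < 2048) (L : List ℕ) (hL : ∀ t ∈ L, t < 2048) :
    sumF z.f L = z.f (cw (xorL L)) + ((pL G L : ℕ) : ZMod 2) ∧ xorL L < 2048 := by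
  induction L with
  | nil =>
    refine ⟨?_, by norm_num [xorL]⟩
    simp only [sumF, xorL, pL]
    rw [cw_zero, f_zero]
    rfl
  | cons a L ih =>
    have ha : a < 2048 := hL a (by simp)
    obtain ⟨h1, h2⟩ := ih (fun t ht => hL t (by simp [ht]))
    refine ⟨?_, Nat.xor_lt_two_pow (n := 11) ha h2⟩
    simp only [sumF, xorL, pL]
    rw [h1, ← cw_add ha h2, z.cond, hG a ha, hG _ h2]
    rw [cast_xor (xor_01 (thN_01 _ _) (thN_01 _ _)) (pL_01 _ _), cast_xor (thN_01 _ _) (thN_01 _ _)]
    simp only [th]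
    rw [ix_cw ha, ix_cw h2, ix_cw (hG2 a ha), ix_cw (hG2 _ h2)]
    linear_combination (- ((thN a (xorL L) : ℕ) : ZMod 2)
      - ((thN (G a) (G (xorL L)) : ℕ) : ZMod 2)) * two_z

/-- The first list. -/
def Lu : List ℕ := S1.flatMap (fun c => [c, uN c]) ++ S2.flatMap (fun d => [d, vN (uN d)])
/-- The second list. -/
def Lv : List ℕ := S1.flatMap (fun c => [c, vN c]) ++ S2.flatMap (fun d => [uN d, d])

theorem Lu_lt : ∀ t ∈ Lu, t < 2048 := by decide +kernel
theorem Lv_lt : ∀ t ∈ Lv, t < 2048 := by decide +kernel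
theorem S1_lt : ∀ t ∈ S1, t < 2048 := by decide +kernel
theorem S2_lt : ∀ t ∈ S2, t < 2048 := by decide +kernel
theorem xor_Lu : xorL Lu = 0 := by decide +kernel
theorem xor_Lv : xorL Lv = 0 := by decide +kernel
theorem p_chk : Nat.xor (pL uN Lu) (pL vN Lv) = 1 := by decide +kernel

theorem no_pair (x y : Ex) (hx : x.g = uG) (hy : y.g = vG) (h1 : x * x = y * y) (h2 : x * y * x = y) : False := by
  have gu : ∀ t, t < 2048 → gact x.g (cw t) = cw (uN t) := by
    intro t ht
    rw [hx]
    exact gact_cw_of (isM24_valid uc_M24) uG rfl ht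
  have gv : ∀ t, t < 2048 → gact y.g (cw t) = cw (vN t) := by
    intro t ht
    rw [hy]
    exact gact_cw_of (isM24_valid vc_M24) vG rfl ht
  have uN_lt : ∀ t, t < 2048 → uN t < 2048 := fun t _ => land_lt _
  have vN_lt : ∀ t, t < 2048 → vN t < 2048 := fun t _ => land_lt _
  have eq1 : ∀ t, t < 2048 → x.f (cw t) + x.f (cw (uN t)) = y.f (cw t) + y.f (cw (vN t)) := by
    intro t ht
    have h3 := congrFun (congrArg Ex.f h1) (cw t)
    rw [mul_f, mul_f, gu t ht, gv t ht] at h3
    exact h3
  have eq2 : ∀ t, t < 2048 → x.f (cw t) + y.f (cw (uN t)) + x.f (cw (vN (uN t))) = y.f (cw t) := by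
    intro t ht
    have h3 := congrFun (congrArg Ex.f h2) (cw t)
    rw [mul_f, mul_f, gu t ht, gv _ (uN_lt t ht)] at h3
    rw [← h3]
    ring
  have part1 : ∀ S : List ℕ, (∀ t ∈ S, t < 2048) →
      sumF x.f (S.flatMap (fun c => [c, uN c])) + sumF y.f (S.flatMap (fun c => [c, vN c])) = 0 := by
    intro S
    induction S with
    | nil => intro _; simp [sumF]
    | cons a S ih =>
      intro hS
      have h3 := ih (fun t ht => hS t (by simp [ht]))
      have h4 := eq1 a (hS a (by simp))
      simp only [List.flatMap_cons, sumF_append, sumF]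
      linear_combination h4 + h3 + (y.f (cw a) + y.f (cw (vN a))) * two_z
  have part2 : ∀ S : List ℕ, (∀ t ∈ S, t < 2048) →
      sumF x.f (S.flatMap (fun d => [d, vN (uN d)])) + sumF y.f (S.flatMap (fun d => [uN d, d])) = 0 := by
    intro S
    induction S with
    | nil => intro _; simp [sumF]
    | cons a S ih =>
      intro hS
      have h3 := ih (fun t ht => hS t (by simp [ht]))
      have h4 := eq2 a (hS a (by simp))
      simp only [List.flatMap_cons, sumF_append, sumF]
      linear_combination h4 + h3 + (y.f (cw a)) * two_z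
  have h3 : sumF x.f Lu + sumF y.f Lv = 0 := by
    have h4 := part1 S1 S1_lt
    have h5 := part2 S2 S2_lt
    rw [Lu, Lv, sumF_append, sumF_append]
    linear_combination h4 + h5
  have tu := (tele x uN gu uN_lt Lu Lu_lt).1
  have tv := (tele y vN gv vN_lt Lv Lv_lt).1
  rw [xor_Lu, cw_zero, f_zero, zero_add] at tu
  rw [xor_Lv, cw_zero, f_zero, zero_add] at tv
  rw [tu, tv, ← cast_xor (pL_01 _ _) (pL_01 _ _), p_chk] at h3
  exact absurd h3 (by decide)

theorem nonsplit (H : Subgroup Ex) (h1 : H ⊓ NE = ⊥) : H ⊔ NE ≠ ⊤ := by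
  intro h2
  have lift : ∀ g : ↥M23, ∃ x ∈ H, x.g = g := by
    intro g
    obtain ⟨e, he⟩ := piE_surj g
    have h3 : e ∈ H ⊔ NE := by
      rw [h2]
      exact Subgroup.mem_top _
    obtain ⟨a, ha, b, hb, rfl⟩ := Subgroup.mem_sup_of_normal_right.1 h3
    refine ⟨a, ha, ?_⟩
    have h4 : b.g = 1 := mem_NE.1 hb
    rw [← he, piE_apply, mul_g, h4, mul_one]
  have uniq : ∀ x ∈ H, ∀ y ∈ H, x.g = y.g → x = y := by
    intro x hx y hy hxy
    have h3 : x * y⁻¹ ∈ H ⊓ NE := by
      refine ⟨H.mul_mem hx (H.inv_mem hy), mem_NE.2 ?_⟩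
      rw [mul_g, inv_g, hxy, mul_inv_cancel]
    rw [h1, Subgroup.mem_bot] at h3
    exact mul_inv_eq_one.1 h3
  obtain ⟨x, hx, hxg⟩ := lift uG
  obtain ⟨y, hy, hyg⟩ := lift vG
  refine no_pair x y hxg hyg ?_ ?_
  · refine uniq _ (H.mul_mem hx hx) _ (H.mul_mem hy hy) ?_
    rw [mul_g, mul_g, hxg, hyg, rel1]
  · refine uniq _ (H.mul_mem (H.mul_mem hx hy) hx) _ hy ?_
    rw [mul_g, mul_g, hxg, hyg, rel2]

end Cfsg.Agent.Lib.M23Cocode
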