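import Cfsg.Agent.Lib.ChainCert
import Cfsg.Agent.Lib.M23CocodeData

/-!
# Kernel checks for the extension of `M₂₃` by its cocode module: definitions
-/

set_option autoImplicit false

namespace Cfsg.Agent.Lib.M23CocodeCore

open Cfsg.Agent.Lib.ChainCert Cfsg.Agent.Lib.M23CocodeData

/-- A field of a table. -/
def look (w m T i : ℕ) : ℕ := Nat.land (Nat.shiftRight T (Nat.mul w i)) m

/-- A bit. -/
def bitN (T q : ℕ) : ℕ := Nat.land (Nat.shiftRight T q) 1

/-- A plain loop. -/
def allN (P : ℕ → Bool) (n : ℕ) : Bool := Nat.rec true (fun m ih => cond (P m) ih false) n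

theorem of_allN {P : ℕ → Bool} {n : ℕ} (h : allN P n = true) : ∀ q, q < n → P q = true := by
  induction n with
  | zero => intro q hq; omega
  | succ n ih =>
    have h1 : cond (P n) (allN P n) false = true := h
    cases h2 : P n with
    | false =>
      rw [h2] at h1
      exact absurd h1 (by simp)
    | true =>
      rw [h2] at h1
      intro q hq
      rcases Nat.lt_succ_iff_lt_or_eq.mp hq with h3 | rfl
      · exact ih h1 q h3
      · exact h2

/-- The cocycle on low coordinates. -/
def thN (x y : ℕ) : ℕ := bitN parTab (Nat.land (look 11 2047 thTab x) y)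

/-- One row of the test. -/
def dRow (FT GT x fx vx vgx : ℕ) : Bool :=
  allN (fun y => Nat.beq
    (Nat.xor (Nat.xor (Nat.land (Nat.shiftRight FT (Nat.xor x y)) 1) (Nat.land (Nat.shiftRight FT y) 1))
      (Nat.xor (Nat.land (Nat.shiftRight parTab (Nat.land vx y)) 1)
        (Nat.land (Nat.shiftRight parTab (Nat.land vgx (Nat.land (Nat.shiftRight GT (Nat.mul 11 y)) 2047))) 1))) fx) 2048

/-- The test that a table has the coboundary given by the cocycle and a table of the action. -/
def dX (FT GT x : ℕ) : Bool :=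
  letN (Nat.land (Nat.shiftRight FT x) 1) fun fx =>
  letN (look 11 2047 thTab x) fun vx =>
  letN (look 11 2047 thTab (look 11 2047 GT x)) fun vgx => dRow FT GT x fx vx vgx

theorem of_chunks {P : ℕ → Bool} (h : ∀ k, k < 16 → allN (fun i => P (k * 128 + i)) 128 = true) :
    ∀ x, x < 2048 → P x = true := by
  intro x hx
  have h1 := of_allN (h (x / 128) (by omega)) (x % 128) (Nat.mod_lt _ (by norm_num))
  have h2 : x / 128 * 128 + x % 128 = x := Nat.div_add_mod' x 128
  rwa [h2] at h1

theorem of_dX {FT GT : ℕ} (h : ∀ x, x < 2048 → dX FT GT x = true) (x y : ℕ) (hx : x < 2048) (hy : y < 2048) :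
    Nat.xor (Nat.xor (bitN FT (Nat.xor x y)) (bitN FT y))
      (Nat.xor (thN x y) (thN (look 11 2047 GT x) (look 11 2047 GT y))) = bitN FT x := by
  have h1 := h x hx
  simp only [dX, letN_eq, dRow] at h1
  exact Nat.eq_of_beq_eq_true (of_allN h1 y hy)

end Cfsg.Agent.Lib.M23CocodeCore
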