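import Mathlib
import Cfsg.Agent.Lib.GolayClasses
import Cfsg.Agent.Lib.GolaySubChain
import Cfsg.Agent.Lib.GolayOctPairs
import Cfsg.Agent.Lib.M24Facts

set_option autoImplicit false
set_option maxRecDepth 100000
set_option linter.unusedVariables false
set_option linter.unusedSectionVars false

/-!
# The centraliser in `M24` of an involution with fixed octad: coordinates on the pointwise stabiliser of the octad
-/

namespace Cfsg.Agent.Lib.M24Cent
open Cfsg Cfsg.Agent.Lib.Golay

open scoped Pointwise

/-- coordinates on the pointwise stabiliser of the octad -/
abbrev T := Fin 4 → ZMod 2

/-- the number of a coordinate vector -/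
def num (t : T) : ℕ := (t 0).val + 2 * (t 1).val + 4 * (t 2).val + 8 * (t 3).val

/-- the 16 elements of the pointwise stabiliser of the octad -/
def Elist : List ℕ := [984818244535754528103549039458486304,965128854020860192151391391390468128,980224387687010295957922729495201824,972512676110088067912772961567868960,975346028712660580592452217730074656,979121071158219704299181131031480352,970499966350631336865513127433832480,968708902336673183175954409307867168,976448692869377735270425038196672544,983548720921252936276249910206105632,963721886883755259286232606933354528,961365507626256404119956257276790816,967812279691448225500382947153381408,971592882964418941354553515258775584,966182099583441531322624363496310816,981818691054096003685363657089320992]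

/-- the code of an element -/
def code (t : T) : ℕ := Elist.getD (num t) 0

/-- the code of a coordinate vector gives an element of `M24` -/
theorem code_isM24 : ∀ t, isM24 (code t) = true := by decide +kernel

theorem code_add : ∀ t t' : T, idxL.all (fun i => Nat.beq (ap (code (t + t')) i) (ap (code t) (ap (code t') i))) = true := by
  decide +kernel

/-- the list of octad points -/
def OL : List ℕ := [0, 1, 2, 3, 5, 14, 17, 23]

/-- the list of points off the octad -/
def OmL : List ℕ := [4, 6, 7, 8, 9, 10, 11, 12, 13, 15, 16, 18, 19, 20, 21, 22]

/-- the octad -/
def O0 : Finset GolayPt := ofMask 8536111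

theorem code_fix : ∀ t : T, OL.all (fun i => Nat.beq (ap (code t) i) i) = true := by decide +kernel

/-- the base point off the octad -/
def x0i : ℕ := 4

theorem pos_inj : ∀ t t' : T, Nat.beq (ap (code t) x0i) (ap (code t') x0i) = true → t = t' := by decide +kernel

theorem pos_surj : OmL.all (fun i => decide (∃ t : T, Nat.beq (ap (code t) x0i) i = true)) = true := by decide +kernel

theorem code_S48 : S48L.all (fun s => !(OL.all (fun i => Nat.beq (ap s i) i)) || decide (∃ t : T, Nat.beq (code t) s = true)) = true := by
  decide +kernel

/-- moves the base to points off the octad -/
def vC : ℕ := 392522293553814395490232855583398120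
/-- the inverse -/
def viC : ℕ := 768633027835691739929450832471438796

def OmP : List ℕ := [0,1,2,3,4,8,9,10,11,15,16,17,19,20,21,23]

theorem fix_Om_S48 : S48L.all (fun s => !(OmP.all (fun i => Nat.beq (ap s i) i)) || Nat.beq s idC) = true := by
  decide +kernel

theorem v_isM24 : isM24 vC = true := by decide +kernel
theorem vi_isM24 : isM24 viC = true := by decide +kernel
theorem v_inv : idxL.all (fun i => Nat.beq (ap viC (ap vC i)) i) = true := by decide +kernel
theorem v_inv' : idxL.all (fun i => Nat.beq (ap vC (ap viC i)) i) = true := by decide +kernel
theorem OmP_spec : OmP.all (fun i => OmL.any (fun j => Nat.beq (ap vC i) j)) = true := by decide +kernel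
theorem base_OmP : [3,2,1,0,23].all (fun i => OmP.any (fun j => Nat.beq i j)) = true := by decide +kernel
theorem OL_OmL : idxL.all (fun i => OL.any (fun j => Nat.beq i j) || OmL.any (fun j => Nat.beq i j)) = true := by decide +kernel
theorem O0_spec : idxL.all (fun i => (OL.any (fun j => Nat.beq i j)) == ((8536111 : ℕ).testBit i)) = true := by decide +kernel
theorem code_e0 : code ![1, 0, 0, 0] = Y2A := by decide +kernel
theorem code_0 : code 0 = idC := by decide +kernel

end Cfsg.Agent.Lib.M24Cent
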