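import Mathlib
import Cfsg.Agent.Lib.M24CentData

set_option autoImplicit false
set_option linter.unusedVariables false
set_option linter.unusedSectionVars false

/-!
# The octad stabiliser acting affinely on the 16 points off the octad

The stabiliser in `M24` of the octad `O0` is represented on `𝔽₂⁵`, so that the pointwise stabiliser of the octad acts
by transvections with the coordinate `1` as affine coordinate.
-/

namespace Cfsg.Agent.Lib.M24Cent
open Cfsg Cfsg.Agent.Lib.Golay

open scoped Pointwise

/-- the element with coordinates `t` -/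
noncomputable def c (t : T) : Equiv.Perm GolayPt := decode (code t)

theorem code_valid (t : T) : valid (code t) = true := isM24_valid (code_isM24 t)

theorem c_mem (t : T) : c t ∈ M24 := decode_mem_M24 (code_isM24 t)

theorem c_add (t t' : T) : c (t + t') = c t * c t' := by
  have h := code_add t t'
  rw [List.all_eq_true] at h
  refine eq_of_repBy (repBy_decode (code_valid _)) ((repBy_decode (code_valid t)).mul (repBy_decode (code_valid t'))) ?_
  intro i hi
  exact Nat.eq_of_beq_eq_true (h i (mem_idxL.2 hi))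

theorem c_zero : c 0 = 1 := by
  unfold c
  rw [code_0, decode_idC]

theorem c_e0 : c ![1, 0, 0, 0] = decode Y2A := by
  unfold c
  rw [code_e0]

theorem c_comm (t t' : T) : c t * c t' = c t' * c t := by
  rw [← c_add, ← c_add, add_comm]

theorem c_self (t : T) : c t * c t = 1 := by
  rw [← c_add, CharTwo.add_self_eq_zero, c_zero]

theorem c_inv (t : T) : (c t)⁻¹ = c t := inv_eq_of_mul_eq_one_left (c_self t)

theorem mem_O0 {p : GolayPt} : p ∈ O0 ↔ idx p ∈ OL := by
  have h := O0_spec
  rw [List.all_eq_true] at h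
  have h1 := h (idx p) (mem_idxL.2 (idx_lt p))
  rw [O0, mem_ofMask]
  simp only [beq_iff_eq] at h1
  rw [← h1, List.any_eq_true]
  constructor
  · rintro ⟨j, hj, e⟩
    rw [Nat.eq_of_beq_eq_true e]
    exact hj
  · intro h2
    exact ⟨idx p, h2, by simp⟩

theorem c_fix (t : T) {p : GolayPt} (hp : p ∈ O0) : c t p = p := by
  have h := code_fix t
  rw [List.all_eq_true] at h
  have h1 := h _ (mem_O0.1 hp)
  apply idx_injective
  rw [c, repBy_decode (code_valid t) p]
  exact Nat.eq_of_beq_eq_true h1

/-- the base point off the octad -/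
def x0 : GolayPt := pt x0i

theorem x0_not : x0 ∉ O0 := by
  rw [mem_O0, x0, idx_pt (by decide)]
  decide

theorem idx_c_x0 (t : T) : idx (c t x0) = ap (code t) x0i := by
  rw [c, repBy_decode (code_valid t) x0, x0, idx_pt (by decide)]

theorem pos_inj' {t t' : T} (h : c t x0 = c t' x0) : t = t' := by
  apply pos_inj
  rw [← idx_c_x0, ← idx_c_x0, h]
  exact Nat.beq_refl _

theorem c_inj {t t' : T} (h : c t = c t') : t = t' := pos_inj' (by rw [h])

theorem mem_OmL_of_not {p : GolayPt} (hp : p ∉ O0) : idx p ∈ OmL := by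
  have h := OL_OmL
  rw [List.all_eq_true] at h
  have h1 := h _ (mem_idxL.2 (idx_lt p))
  rw [Bool.or_eq_true, List.any_eq_true, List.any_eq_true] at h1
  rcases h1 with ⟨j, hj, e⟩ | ⟨j, hj, e⟩
  · exfalso
    apply hp
    rw [mem_O0, Nat.eq_of_beq_eq_true e]
    exact hj
  · rw [Nat.eq_of_beq_eq_true e]
    exact hj

theorem pos_surj' {p : GolayPt} (hp : p ∉ O0) : ∃ t : T, c t x0 = p := by
  have h := pos_surj
  rw [List.all_eq_true] at h
  obtain ⟨t, ht⟩ := of_decide_eq_true (h _ (mem_OmL_of_not hp))
  refine ⟨t, idx_injective ?_⟩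
  rw [idx_c_x0]
  exact Nat.eq_of_beq_eq_true ht

theorem c_surj {g : Equiv.Perm GolayPt} (hg : g ∈ M24) (h : ∀ p ∈ O0, g p = p) : ∃ t : T, g = c t := by
  have hb : ∀ i ∈ OL, g (pt i) = pt i := by
    intro i hi
    apply h
    have hi' : i < 24 := by
      have : ∀ i ∈ OL, i < 24 := by decide
      exact this i hi
    rw [mem_O0, idx_pt hi']
    exact hi
  obtain ⟨s, hs, e⟩ := mem_S48L (g := g) ⟨hg, fun i hi => hb i (by
    revert i; decide)⟩
  have h1 := code_S48
  rw [List.all_eq_true] at h1
  have h2 := h1 s hs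
  rw [Bool.or_eq_true] at h2
  have hsv := S48L_valid s hs
  have h3 : OL.all (fun i => Nat.beq (ap s i) i) = true := by
    rw [List.all_eq_true]
    intro i hi
    have hi' : i < 24 := by
      have : ∀ i ∈ OL, i < 24 := by decide
      exact this i hi
    have := (repBy_decode hsv).val hi'
    rw [← e, hb i hi, idx_pt hi'] at this
    rw [← this]
    exact Nat.beq_refl _
  rcases h2 with h2 | h2
  · rw [h3] at h2
    simp at h2
  · obtain ⟨t, ht⟩ := of_decide_eq_true h2
    refine ⟨t, ?_⟩
    rw [e, c, Nat.eq_of_beq_eq_true ht]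

/-- an element fixing all points off the octad is trivial -/
theorem eq_one_of_fix_Om {g : Equiv.Perm GolayPt} (hg : g ∈ M24) (h : ∀ p, p ∉ O0 → g p = p) : g = 1 := by
  have hvv := isM24_valid v_isM24
  have hvi := isM24_valid vi_isM24
  have hv1 : decode viC * decode vC = 1 := by
    have h1 := v_inv
    rw [List.all_eq_true] at h1
    refine eq_of_repBy ((repBy_decode hvi).mul (repBy_decode hvv)) (g := _) (h := 1) (f' := id) ?_ ?_
    · intro p
      simp
    · intro i hi
      exact Nat.eq_of_beq_eq_true (h1 i (mem_idxL.2 hi))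
  have hv2 : decode vC * decode viC = 1 := by
    exact mul_eq_one_iff_eq_inv.2 (eq_inv_of_mul_eq_one_right hv1)
  have hvm := decode_mem_M24 v_isM24
  have hvim := decode_mem_M24 vi_isM24
  -- points of `OmP` are fixed by the conjugate
  have key : ∀ i ∈ OmP, (decode viC * g * decode vC) (pt i) = pt i := by
    intro i hi
    have hi' : i < 24 := by
      have : ∀ i ∈ OmP, i < 24 := by decide
      exact this i hi
    have h1 := OmP_spec
    rw [List.all_eq_true] at h1
    have h2 := h1 i hi
    rw [List.any_eq_true] at h2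
    obtain ⟨j, hj, e⟩ := h2
    have hn : decode vC (pt i) ∉ O0 := by
      intro hmem
      rw [mem_O0, (repBy_decode hvv).val hi', Nat.eq_of_beq_eq_true e] at hmem
      have : ∀ j ∈ OmL, j ∉ OL := by decide
      exact this j hj hmem
    simp only [Equiv.Perm.mul_apply]
    rw [h _ hn]
    rw [← Equiv.Perm.mul_apply, hv1]
    rfl
  have hbase : ∀ i ∈ [3,2,1,0,23], (decode viC * g * decode vC) (pt i) = pt i := by
    intro i hi
    apply key
    have h1 := base_OmP
    rw [List.all_eq_true] at h1
    have h2 := h1 i hi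
    rw [List.any_eq_true] at h2
    obtain ⟨j, hj, e⟩ := h2
    rw [Nat.eq_of_beq_eq_true e]
    exact hj
  obtain ⟨s, hs, e⟩ := mem_S48L (g := decode viC * g * decode vC)
    ⟨M24.mul_mem (M24.mul_mem hvim hg) hvm, hbase⟩
  have hsv := S48L_valid s hs
  have h1 := fix_Om_S48
  rw [List.all_eq_true] at h1
  have h2 := h1 s hs
  rw [Bool.or_eq_true] at h2
  have h3 : OmP.all (fun i => Nat.beq (ap s i) i) = true := by
    rw [List.all_eq_true]
    intro i hi
    have hi' : i < 24 := by
      have : ∀ i ∈ OmP, i < 24 := by decide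
      exact this i hi
    have := (repBy_decode hsv).val hi'
    rw [← e, key i hi, idx_pt hi'] at this
    rw [← this]
    exact Nat.beq_refl _
  rcases h2 with h2 | h2
  · rw [h3] at h2
    simp at h2
  · have h4 : s = idC := Nat.eq_of_beq_eq_true h2
    rw [h4, decode_idC] at e
    have h5 : decode viC * g = (decode vC)⁻¹ := by
      rw [eq_inv_iff_mul_eq_one]
      exact e
    have h6 : (decode vC)⁻¹ = decode viC := by
      rw [inv_eq_iff_mul_eq_one]
      exact hv2
    rw [h6] at h5
    exact mul_left_cancel (h5.trans (mul_one _).symm)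

/-! ### the stabiliser of the octad -/

/-- the stabiliser of the octad in `M24` -/
def Stab : Subgroup (Equiv.Perm GolayPt) := M24 ⊓ MulAction.stabilizer (Equiv.Perm GolayPt) O0

theorem mem_Stab {g : Equiv.Perm GolayPt} : g ∈ Stab ↔ g ∈ M24 ∧ g • O0 = O0 := Iff.rfl

theorem stab_apply {g : Equiv.Perm GolayPt} (hg : g ∈ Stab) {p : GolayPt} (hp : p ∈ O0) : g p ∈ O0 := by
  have h : g • O0 = O0 := hg.2
  rw [← h]
  exact Finset.smul_mem_smul_finset hp

theorem stab_not {g : Equiv.Perm GolayPt} (hg : g ∈ Stab) {p : GolayPt} (hp : p ∉ O0) : g p ∉ O0 := by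
  intro h
  apply hp
  have := stab_apply (Stab.inv_mem hg) h
  simpa using this

theorem exists_D {g : Equiv.Perm GolayPt} (hg : g ∈ Stab) (t : T) : ∃ t' : T, c t' = g * c t * g⁻¹ := by
  obtain ⟨t', e⟩ := c_surj (g := g * c t * g⁻¹) (M24.mul_mem (M24.mul_mem hg.1 (c_mem t)) (M24.inv_mem hg.1)) (by
    intro p hp
    have h1 := stab_apply (Stab.inv_mem hg) hp
    rw [Equiv.Perm.mul_apply, Equiv.Perm.mul_apply, c_fix t h1]
    simp)
  exact ⟨t', e.symm⟩

/-- the action on coordinates of the pointwise stabiliser -/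
noncomputable def D (g : ↥Stab) (t : T) : T := (exists_D g.2 t).choose

theorem D_spec (g : ↥Stab) (t : T) : c (D g t) = g * c t * (g : Equiv.Perm GolayPt)⁻¹ :=
  (exists_D g.2 t).choose_spec

theorem D_add (g : ↥Stab) (t t' : T) : D g (t + t') = D g t + D g t' := by
  apply c_inj
  rw [c_add, D_spec, D_spec, D_spec, c_add]
  group

theorem D_zero (g : ↥Stab) : D g 0 = 0 := by
  apply c_inj
  rw [D_spec, c_zero]
  group

theorem D_mul (g h : ↥Stab) (t : T) : D (g * h) t = D g (D h t) := by
  apply c_inj
  rw [D_spec, D_spec, D_spec]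
  simp only [Subgroup.coe_mul]
  group

theorem D_one (t : T) : D 1 t = t := by
  apply c_inj
  rw [D_spec]
  simp

/-- `D g` as an additive map -/
noncomputable def Da (g : ↥Stab) : T →+ T := AddMonoidHom.mk' (D g) (D_add g)

theorem D_smul (g : ↥Stab) (a : ZMod 2) (t : T) : D g (a • t) = a • D g t :=
  ZMod.map_smul (Da g) a t

/-- the translation part -/
noncomputable def tau (g : ↥Stab) : T := (pos_surj' (stab_not g.2 x0_not)).choose

theorem tau_spec (g : ↥Stab) : c (tau g) x0 = (g : Equiv.Perm GolayPt) x0 :=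
  (pos_surj' (stab_not g.2 x0_not)).choose_spec

theorem apply_c_x0 (g : ↥Stab) (t : T) : (g : Equiv.Perm GolayPt) (c t x0) = c (D g t + tau g) x0 := by
  rw [c_add, Equiv.Perm.mul_apply, tau_spec, D_spec]
  simp

theorem tau_mul (g h : ↥Stab) : tau (g * h) = tau g + D g (tau h) := by
  apply pos_inj'
  rw [tau_spec]
  simp only [Subgroup.coe_mul, Equiv.Perm.mul_apply]
  rw [← tau_spec h, apply_c_x0, add_comm]

theorem tau_one : tau 1 = 0 := by
  apply pos_inj'
  rw [tau_spec, c_zero]
  rfl

/-! ### the representation -/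

/-- the space of the representation -/
abbrev V5 := Fin 5 → ZMod 2

/-- the coordinates on the translations -/
def pr (v : V5) : T := ![v 0, v 2, v 3, v 4]

/-- a vector with given affine coordinate and given coordinates on the translations -/
def inj (a : ZMod 2) (t : T) : V5 := ![t 0, a, t 1, t 2, t 3]

theorem pr_inj (a : ZMod 2) (t : T) : pr (inj a t) = t := by
  funext i
  fin_cases i <;> rfl

theorem inj_one (a : ZMod 2) (t : T) : inj a t 1 = a := rfl

theorem inj_add (a a' : ZMod 2) (t t' : T) : inj (a + a') (t + t') = inj a t + inj a' t' := by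
  funext i
  fin_cases i <;> rfl

theorem pr_add (v w : V5) : pr (v + w) = pr v + pr w := by
  funext i
  fin_cases i <;> rfl

theorem inj_pr (v : V5) : inj (v 1) (pr v) = v := by
  funext i
  fin_cases i <;> rfl

/-- the action on the space -/
noncomputable def Lfun (g : ↥Stab) (v : V5) : V5 := inj (v 1) (v 1 • tau g + D g (pr v))

theorem Lfun_add (g : ↥Stab) (v w : V5) : Lfun g (v + w) = Lfun g v + Lfun g w := by
  unfold Lfun
  rw [← inj_add, pr_add, D_add, Pi.add_apply, add_smul]
  congr 1
  abel

/-- the action as a linear map -/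
noncomputable def L (g : ↥Stab) : V5 →ₗ[ZMod 2] V5 :=
  (AddMonoidHom.mk' (Lfun g) (Lfun_add g)).toZModLinearMap 2

theorem L_apply (g : ↥Stab) (v : V5) : L g v = Lfun g v := rfl

theorem L_mul (g h : ↥Stab) : L (g * h) = L g ∘ₗ L h := by
  apply LinearMap.ext
  intro v
  rw [LinearMap.comp_apply, L_apply, L_apply, L_apply]
  unfold Lfun
  rw [inj_one, pr_inj, D_add, D_smul, tau_mul, D_mul, smul_add, add_assoc]

theorem L_one : L 1 = LinearMap.id := by
  apply LinearMap.ext
  intro v
  rw [L_apply, LinearMap.id_apply]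
  unfold Lfun
  rw [tau_one, D_one, smul_zero, zero_add, inj_pr]

/-- the matrix of an element -/
noncomputable def Mat (g : ↥Stab) : Matrix (Fin 5) (Fin 5) (ZMod 2) := LinearMap.toMatrix' (L g)

theorem Mat_mul (g h : ↥Stab) : Mat (g * h) = Mat g * Mat h := by
  unfold Mat
  rw [L_mul, LinearMap.toMatrix'_comp]

theorem Mat_one : Mat 1 = 1 := by
  unfold Mat
  rw [L_one, LinearMap.toMatrix'_id]

theorem det_eq_one_of_units {a b : ZMod 2} (h : a * b = 1) : a = 1 := by
  revert a b
  decide

theorem det_Mat (g : ↥Stab) : (Mat g).det = 1 := by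
  have h : Mat g * Mat g⁻¹ = 1 := by
    rw [← Mat_mul, mul_inv_cancel, Mat_one]
  have h2 := congrArg Matrix.det h
  rw [Matrix.det_mul, Matrix.det_one] at h2
  exact det_eq_one_of_units h2

/-- the representation in `SL₅(2)` -/
noncomputable def Phi : ↥Stab →* Matrix.SpecialLinearGroup (Fin 5) (ZMod 2) :=
  MonoidHom.mk' (fun g => ⟨Mat g, det_Mat g⟩) (by
    intro g h
    apply Subtype.ext
    exact Mat_mul g h)

theorem Phi_coe (g : ↥Stab) : ((Phi g : Matrix.SpecialLinearGroup (Fin 5) (ZMod 2)) : Matrix (Fin 5) (Fin 5) (ZMod 2)) = Mat g := rfl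

theorem L_eq_of_Mat {g h : ↥Stab} (e : Mat g = Mat h) : L g = L h := by
  have := congrArg Matrix.toLin' e
  simpa [Mat, Matrix.toLin'_toMatrix'] using this

theorem inj_inj {a a' : ZMod 2} {t t' : T} (h : inj a t = inj a' t') : a = a' ∧ t = t' := by
  constructor
  · have := congrFun h 1
    simpa [inj] using this
  · have := congrArg pr h
    rwa [pr_inj, pr_inj] at this

theorem Phi_injective : Function.Injective Phi := by
  rw [injective_iff_map_eq_one]
  intro g hg
  have h1 : Mat g = Mat 1 := by
    rw [Mat_one, ← Phi_coe, hg]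
    rfl
  have h2 : L g = LinearMap.id := by
    rw [L_eq_of_Mat h1, L_one]
  have h3 : ∀ v, Lfun g v = v := fun v => by
    rw [← L_apply, h2, LinearMap.id_apply]
  have hD : ∀ t, D g t = t := by
    intro t
    have := h3 (inj 0 t)
    unfold Lfun at this
    rw [inj_one, pr_inj, zero_smul, zero_add] at this
    exact (inj_inj this).2
  have htau : tau g = 0 := by
    have := h3 (inj 1 0)
    unfold Lfun at this
    rw [inj_one, pr_inj, one_smul, D_zero, add_zero] at this
    exact (inj_inj this).2
  apply Subtype.ext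
  apply eq_one_of_fix_Om g.2.1
  intro p hp
  obtain ⟨t, rfl⟩ := pos_surj' hp
  rw [apply_c_x0, hD, htau, add_zero]

end Cfsg.Agent.Lib.M24Cent
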