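import Mathlib
import Cfsg.Prelude.Def_Transfer
import Cfsg.Agent.Lib.LargeQuot
import Cfsg.Agent.Lib.ClassicalSL
import Cfsg.Agent.Lib.PCore

set_option autoImplicit false
set_option linter.unusedVariables false
set_option linter.unusedSectionVars false

/-!
# The centraliser of a transvection in `SL₅(2)`: `2^{1+6} : SL₃(2)`
-/

namespace Cfsg.Agent.Lib.TvCent
open Cfsg Matrix

/-- matrices -/
abbrev M5 := Matrix (Fin 5) (Fin 5) (ZMod 2)
/-- `SL₅(2)` -/
abbrev SL5 := Matrix.SpecialLinearGroup (Fin 5) (ZMod 2)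
/-- `SL₃(2)` -/
abbrev SL3' := Matrix.SpecialLinearGroup (Fin 3) (ZMod 2)

theorem det_eq_one_of_mul {a b : ZMod 2} (h : a * b = 1) : a = 1 := by
  revert a b
  decide

theorem det_eq_one_of_right {n : Type*} [Fintype n] [DecidableEq n] {m m' : Matrix n n (ZMod 2)} (h : m * m' = 1) :
    m.det = 1 := by
  have h2 := congrArg Matrix.det h
  rw [Matrix.det_mul, Matrix.det_one] at h2
  exact det_eq_one_of_mul h2

/-- the elements of the normal extraspecial subgroup -/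
def mkQ (u a1 a2 a3 v1 v2 v3 : ZMod 2) : M5 :=
  !![1, u, a1, a2, a3;
     0, 1, 0, 0, 0;
     0, v1, 1, 0, 0;
     0, v2, 0, 1, 0;
     0, v3, 0, 0, 1]

theorem mkQ_mul (u a1 a2 a3 v1 v2 v3 u' a1' a2' a3' v1' v2' v3' : ZMod 2) :
    mkQ u a1 a2 a3 v1 v2 v3 * mkQ u' a1' a2' a3' v1' v2' v3' =
      mkQ (u + u' + (a1 * v1' + a2 * v2' + a3 * v3')) (a1 + a1') (a2 + a2') (a3 + a3') (v1 + v1') (v2 + v2') (v3 + v3') := by
  ext i j
  fin_cases i <;> fin_cases j <;> simp [mkQ, Matrix.mul_apply, Fin.sum_univ_five] <;> ring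

theorem mkQ_zero : mkQ 0 0 0 0 0 0 0 = 1 := by decide +kernel

theorem mkQ_inj {u a1 a2 a3 v1 v2 v3 u' a1' a2' a3' v1' v2' v3' : ZMod 2}
    (h : mkQ u a1 a2 a3 v1 v2 v3 = mkQ u' a1' a2' a3' v1' v2' v3') :
    u = u' ∧ a1 = a1' ∧ a2 = a2' ∧ a3 = a3' ∧ v1 = v1' ∧ v2 = v2' ∧ v3 = v3' := by
  refine ⟨?_, ?_, ?_, ?_, ?_, ?_, ?_⟩
  · simpa [mkQ] using congrFun (congrFun h 0) 1
  · simpa [mkQ] using congrFun (congrFun h 0) 2
  · simpa [mkQ] using congrFun (congrFun h 0) 3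
  · simpa [mkQ] using congrFun (congrFun h 0) 4
  · simpa [mkQ] using congrFun (congrFun h 2) 1
  · simpa [mkQ] using congrFun (congrFun h 3) 1
  · simpa [mkQ] using congrFun (congrFun h 4) 1

/-- the transvection -/
def tvM : M5 := Matrix.transvection 0 1 1

theorem tvM_eq : tvM = mkQ 1 0 0 0 0 0 0 := by decide +kernel

theorem det_mkQ (u a1 a2 a3 v1 v2 v3 : ZMod 2) : (mkQ u a1 a2 a3 v1 v2 v3).det = 1 := by
  apply det_eq_one_of_right (m' := mkQ (u + (a1 * v1 + a2 * v2 + a3 * v3)) a1 a2 a3 v1 v2 v3)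
  have key : ∀ u x : ZMod 2, u + (u + x) + x = 0 := by decide
  rw [mkQ_mul]
  simp only [key, CharTwo.add_self_eq_zero, mkQ_zero]

/-- the transvection in `SL₅(2)` -/
def s0 : SL5 := ⟨tvM, by rw [tvM_eq]; exact det_mkQ _ _ _ _ _ _ _⟩

/-- the centraliser -/
abbrev C0 : Subgroup SL5 := Subgroup.centralizer ({s0} : Set SL5)

theorem mem_C0 {m : SL5} : m ∈ C0 ↔ m.1 * tvM = tvM * m.1 := by
  rw [Subgroup.mem_centralizer_singleton_iff]
  constructor
  · intro h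
    exact congrArg Subtype.val h
  · intro h
    exact Subtype.ext h

/-- the shape of a matrix commuting with the transvection -/
structure Shape (m : M5) : Prop where
  c10 : m 1 0 = 0
  c20 : m 2 0 = 0
  c30 : m 3 0 = 0
  c40 : m 4 0 = 0
  c12 : m 1 2 = 0
  c13 : m 1 3 = 0
  c14 : m 1 4 = 0
  c00 : m 0 0 = m 1 1

theorem shape_of_comm {m : M5} (h : m * tvM = tvM * m) : Shape m := by
  rw [tvM_eq] at h
  have e : ∀ i j, (m * mkQ 1 0 0 0 0 0 0) i j = (mkQ 1 0 0 0 0 0 0 * m) i j := fun i j => by rw [h]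
  constructor
  · simpa [mkQ, Matrix.mul_apply, Fin.sum_univ_five] using e 1 1
  · simpa [mkQ, Matrix.mul_apply, Fin.sum_univ_five] using e 2 1
  · simpa [mkQ, Matrix.mul_apply, Fin.sum_univ_five] using e 3 1
  · simpa [mkQ, Matrix.mul_apply, Fin.sum_univ_five] using e 4 1
  · simpa [mkQ, Matrix.mul_apply, Fin.sum_univ_five] using (e 0 2).symm
  · simpa [mkQ, Matrix.mul_apply, Fin.sum_univ_five] using (e 0 3).symm
  · simpa [mkQ, Matrix.mul_apply, Fin.sum_univ_five] using (e 0 4).symm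
  · have := e 0 1
    simp [mkQ, Matrix.mul_apply, Fin.sum_univ_five] at this
    linear_combination this

theorem zmod2_ne {a : ZMod 2} (h : a ≠ 0) : a = 1 := by
  revert a
  decide

theorem shape_one {m : SL5} (hm : m ∈ C0) : m.1 0 0 = 1 ∧ m.1 1 1 = 1 := by
  have hs := shape_of_comm (mem_C0.1 hm)
  have h0 : m.1 0 0 ≠ 0 := by
    intro h
    have hd : m.1.det = 0 := by
      apply Matrix.det_eq_zero_of_column_eq_zero 0
      intro i
      fin_cases i
      · exact h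
      · exact hs.c10
      · exact hs.c20
      · exact hs.c30
      · exact hs.c40
    rw [m.2] at hd
    exact one_ne_zero hd
  have h1 := zmod2_ne h0
  exact ⟨h1, by rw [← hs.c00]; exact h1⟩

/-- the block -/
def blk (m : M5) : Matrix (Fin 3) (Fin 3) (ZMod 2) := !![m 2 2, m 2 3, m 2 4; m 3 2, m 3 3, m 3 4; m 4 2, m 4 3, m 4 4]

theorem blk_mul {m m' : M5} (h : Shape m) (h' : Shape m') : blk (m * m') = blk m * blk m' := by
  obtain ⟨a1, a2, a3, a4, a5, a6, a7, a8⟩ := h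
  obtain ⟨b1, b2, b3, b4, b5, b6, b7, b8⟩ := h'
  ext i j
  fin_cases i <;> fin_cases j <;>
    simp [blk, Matrix.mul_apply, Fin.sum_univ_five, Fin.sum_univ_three, a2, a3, a4, b5, b6, b7]

theorem blk_one : blk (1 : M5) = 1 := by
  ext i j
  fin_cases i <;> fin_cases j <;> simp [blk]

theorem shape_C0 (m : ↥C0) : Shape (m : SL5).1 := shape_of_comm (mem_C0.1 m.2)

/-- the block of an element of the centraliser -/
def betaFun (m : ↥C0) : SL3' := ⟨blk (m : SL5).1, by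
  apply det_eq_one_of_right (m' := blk (m⁻¹ : ↥C0).1.1)
  have h : (m : SL5).1 * (m⁻¹ : ↥C0).1.1 = 1 := by
    have h1 : (m : SL5) * ((m⁻¹ : ↥C0) : SL5) = 1 := by
      rw [← Subgroup.coe_mul, mul_inv_cancel, Subgroup.coe_one]
    have h2 := congrArg Subtype.val h1
    rwa [Matrix.SpecialLinearGroup.coe_mul, Matrix.SpecialLinearGroup.coe_one] at h2
  rw [← blk_mul (shape_C0 m) (shape_C0 m⁻¹), h, blk_one]⟩

/-- the block as a homomorphism -/
def beta : ↥C0 →* SL3' := MonoidHom.mk' betaFun (by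
  intro a b
  apply Subtype.ext
  exact blk_mul (shape_C0 a) (shape_C0 b))

theorem beta_coe (m : ↥C0) : ((beta m : SL3') : Matrix (Fin 3) (Fin 3) (ZMod 2)) = blk (m : SL5).1 := rfl

/-- the matrix with given block -/
def emb (B : Matrix (Fin 3) (Fin 3) (ZMod 2)) : M5 :=
  !![1, 0, 0, 0, 0;
     0, 1, 0, 0, 0;
     0, 0, B 0 0, B 0 1, B 0 2;
     0, 0, B 1 0, B 1 1, B 1 2;
     0, 0, B 2 0, B 2 1, B 2 2]

theorem emb_mul (B B' : Matrix (Fin 3) (Fin 3) (ZMod 2)) : emb (B * B') = emb B * emb B' := by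
  ext i j
  fin_cases i <;> fin_cases j <;>
    simp [emb, Matrix.mul_apply, Fin.sum_univ_five, Fin.sum_univ_three]

theorem emb_one : emb 1 = 1 := by decide +kernel

theorem emb_comm (B : Matrix (Fin 3) (Fin 3) (ZMod 2)) : emb B * tvM = tvM * emb B := by
  rw [tvM_eq]
  ext i j
  fin_cases i <;> fin_cases j <;>
    simp [emb, mkQ, Matrix.mul_apply, Fin.sum_univ_five]

theorem blk_emb (B : Matrix (Fin 3) (Fin 3) (ZMod 2)) : blk (emb B) = B := by
  ext i j
  fin_cases i <;> fin_cases j <;> simp [blk, emb]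

/-- the block embedding of `SL₃(2)` into the centraliser -/
def sigmaFun (B : SL3') : ↥C0 := ⟨⟨emb B.1, by
  apply det_eq_one_of_right (m' := emb (B⁻¹).1)
  have h : B.1 * (B⁻¹).1 = 1 := by
    have h2 := congrArg Subtype.val (mul_inv_cancel B)
    rwa [Matrix.SpecialLinearGroup.coe_mul, Matrix.SpecialLinearGroup.coe_one] at h2
  rw [← emb_mul, h, emb_one]⟩, mem_C0.2 (emb_comm _)⟩

/-- the block embedding as a homomorphism -/
def sigma : SL3' →* ↥C0 := MonoidHom.mk' sigmaFun (by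
  intro a b
  apply Subtype.ext
  apply Subtype.ext
  exact emb_mul a.1 b.1)

theorem beta_sigma (B : SL3') : beta (sigma B) = B := by
  apply Subtype.ext
  exact blk_emb B.1

theorem sigma_injective : Function.Injective sigma :=
  Function.LeftInverse.injective beta_sigma

theorem beta_surjective : Function.Surjective beta := fun B => ⟨sigma B, beta_sigma B⟩

/-- the normal subgroup -/
def Q0 : Subgroup ↥C0 := beta.ker

instance : Q0.Normal := MonoidHom.normal_ker beta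

/-- the complement -/
def K0 : Subgroup ↥C0 := sigma.range

theorem Q0_inf_K0 : Q0 ⊓ K0 = ⊥ := by
  rw [eq_bot_iff]
  rintro x ⟨h1, B, rfl⟩
  have h2 : beta (sigma B) = 1 := h1
  rw [beta_sigma] at h2
  rw [h2, map_one]
  exact Subgroup.one_mem _

theorem Q0_sup_K0 : Q0 ⊔ K0 = ⊤ := by
  rw [eq_top_iff]
  intro x _
  have h : x = (x * (sigma (beta x))⁻¹) * sigma (beta x) := by group
  rw [h]
  refine Subgroup.mul_mem_sup ?_ ⟨_, rfl⟩
  change beta _ = 1
  rw [map_mul, map_inv, beta_sigma, mul_inv_cancel]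

/-- the complement is isomorphic to `SL₃(2)` -/
noncomputable def K0Equiv : ↥K0 ≃* SL3' := (MonoidHom.ofInjective sigma_injective).symm

theorem mem_Q0 {m : ↥C0} : m ∈ Q0 ↔ blk (m : SL5).1 = 1 := by
  change beta m = 1 ↔ _
  constructor
  · intro h
    have := congrArg Subtype.val h
    exact this
  · intro h
    exact Subtype.ext h

theorem Q0_form (m : ↥Q0) : ∃ u a1 a2 a3 v1 v2 v3, ((m : ↥C0) : SL5).1 = mkQ u a1 a2 a3 v1 v2 v3 := by
  have hs := shape_C0 (m : ↥C0)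
  obtain ⟨h00, h11⟩ := shape_one (m : ↥C0).2
  have hb := mem_Q0.1 m.2
  refine ⟨((m : ↥C0) : SL5).1 0 1, ((m : ↥C0) : SL5).1 0 2, ((m : ↥C0) : SL5).1 0 3, ((m : ↥C0) : SL5).1 0 4,
    ((m : ↥C0) : SL5).1 2 1, ((m : ↥C0) : SL5).1 3 1, ((m : ↥C0) : SL5).1 4 1, ?_⟩
  have e : ∀ i j, blk ((m : ↥C0) : SL5).1 i j = (1 : Matrix (Fin 3) (Fin 3) (ZMod 2)) i j := fun i j => by rw [hb]
  have e00 := e 0 0
  have e01 := e 0 1
  have e02 := e 0 2
  have e10 := e 1 0
  have e11 := e 1 1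
  have e12 := e 1 2
  have e20 := e 2 0
  have e21 := e 2 1
  have e22 := e 2 2
  simp [blk] at e00 e01 e02 e10 e11 e12 e20 e21 e22
  ext i j
  fin_cases i <;> fin_cases j <;>
    simp [mkQ, h00, h11, hs.c10, hs.c20, hs.c30, hs.c40, hs.c12, hs.c13, hs.c14, e00, e01, e02, e10, e11, e12, e20, e21, e22]

theorem mkQ_comm (u a1 a2 a3 v1 v2 v3 : ZMod 2) : mkQ u a1 a2 a3 v1 v2 v3 * tvM = tvM * mkQ u a1 a2 a3 v1 v2 v3 := by
  rw [tvM_eq, mkQ_mul, mkQ_mul]
  congr 1 <;> ring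

/-- the element of `SL₅(2)` -/
def mkS (u a1 a2 a3 v1 v2 v3 : ZMod 2) : SL5 := ⟨mkQ u a1 a2 a3 v1 v2 v3, det_mkQ _ _ _ _ _ _ _⟩

/-- the element of the centraliser -/
def mkC (u a1 a2 a3 v1 v2 v3 : ZMod 2) : ↥C0 := ⟨mkS u a1 a2 a3 v1 v2 v3, mem_C0.2 (mkQ_comm _ _ _ _ _ _ _)⟩

theorem blk_mkQ (u a1 a2 a3 v1 v2 v3 : ZMod 2) : blk (mkQ u a1 a2 a3 v1 v2 v3) = 1 := by
  ext i j
  fin_cases i <;> fin_cases j <;> simp [blk, mkQ]

theorem mkC_mem (u a1 a2 a3 v1 v2 v3 : ZMod 2) : mkC u a1 a2 a3 v1 v2 v3 ∈ Q0 :=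
  mem_Q0.2 (blk_mkQ _ _ _ _ _ _ _)

/-- the element of the normal subgroup -/
def mkY (u a1 a2 a3 v1 v2 v3 : ZMod 2) : ↥Q0 := ⟨mkC u a1 a2 a3 v1 v2 v3, mkC_mem _ _ _ _ _ _ _⟩

theorem Y_ext {x y : ↥Q0} (h : ((x : ↥C0) : SL5).1 = ((y : ↥C0) : SL5).1) : x = y :=
  Subtype.ext (Subtype.ext (Subtype.ext h))

theorem Y_coe_mul (x y : ↥Q0) : ((x * y : ↥Q0) : ↥C0).1.1 = (x : ↥C0).1.1 * (y : ↥C0).1.1 := rfl

theorem exists_mkY (x : ↥Q0) : ∃ u a1 a2 a3 v1 v2 v3, x = mkY u a1 a2 a3 v1 v2 v3 := by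
  obtain ⟨u, a1, a2, a3, v1, v2, v3, e⟩ := Q0_form x
  exact ⟨u, a1, a2, a3, v1, v2, v3, Y_ext e⟩

theorem mkY_mul (u a1 a2 a3 v1 v2 v3 u' a1' a2' a3' v1' v2' v3' : ZMod 2) :
    mkY u a1 a2 a3 v1 v2 v3 * mkY u' a1' a2' a3' v1' v2' v3' =
      mkY (u + u' + (a1 * v1' + a2 * v2' + a3 * v3')) (a1 + a1') (a2 + a2') (a3 + a3') (v1 + v1') (v2 + v2') (v3 + v3') :=
  Y_ext (mkQ_mul _ _ _ _ _ _ _ _ _ _ _ _ _ _)

theorem mkY_one : mkY 0 0 0 0 0 0 0 = 1 := Y_ext mkQ_zero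

theorem mkY_inj {u a1 a2 a3 v1 v2 v3 u' a1' a2' a3' v1' v2' v3' : ZMod 2}
    (h : mkY u a1 a2 a3 v1 v2 v3 = mkY u' a1' a2' a3' v1' v2' v3') :
    u = u' ∧ a1 = a1' ∧ a2 = a2' ∧ a3 = a3' ∧ v1 = v1' ∧ v2 = v2' ∧ v3 = v3' :=
  mkQ_inj (congrArg (fun x : ↥Q0 => ((x : ↥C0) : SL5).1) h)

/-- the parametrisation of `Q0` -/
def paramQ (f : Fin 7 → ZMod 2) : ↥Q0 := mkY (f 0) (f 1) (f 2) (f 3) (f 4) (f 5) (f 6)

theorem paramQ_bij : Function.Bijective paramQ := by
  constructor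
  · intro f g h
    obtain ⟨h0, h1, h2, h3, h4, h5, h6⟩ := mkY_inj h
    funext i
    fin_cases i <;> assumption
  · intro x
    obtain ⟨u, a1, a2, a3, v1, v2, v3, rfl⟩ := exists_mkY x
    exact ⟨![u, a1, a2, a3, v1, v2, v3], rfl⟩

theorem card_Q0 : Nat.card ↥Q0 = 2 ^ 7 := by
  rw [← Nat.card_congr (Equiv.ofBijective _ paramQ_bij)]
  simp [Nat.card_eq_fintype_card, ZMod.card]

theorem isPGroup_Q0 : IsPGroup 2 ↥Q0 := IsPGroup.of_card card_Q0

theorem card_SL3 : Nat.card SL3' = 168 := by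
  rw [Nat.card_eq_fintype_card]
  decide +kernel

theorem card_C0 : Nat.card ↥C0 = 21504 := by
  have h1 := Subgroup.card_eq_card_quotient_mul_card_subgroup Q0
  rw [card_Q0] at h1
  have h2 : Nat.card (↥C0 ⧸ Q0) = 168 := by
    rw [← card_SL3]
    exact Nat.card_congr (QuotientGroup.quotientKerEquivOfSurjective beta beta_surjective).toEquiv
  rw [h2] at h1
  exact h1

/-! ### the extraspecial group -/

/-- the central element -/
def y0 : ↥Q0 := mkY 1 0 0 0 0 0 0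

theorem two_zero : (2 : ZMod 2) = 0 := rfl

theorem zmod2_cases (a : ZMod 2) : a = 0 ∨ a = 1 := by
  revert a
  decide

theorem comm_formula (u a1 a2 a3 v1 v2 v3 u' a1' a2' a3' v1' v2' v3' : ZMod 2) :
    mkY u a1 a2 a3 v1 v2 v3 * mkY u' a1' a2' a3' v1' v2' v3' =
      mkY (a1 * v1' + a2 * v2' + a3 * v3' + (a1' * v1 + a2' * v2 + a3' * v3)) 0 0 0 0 0 0 *
        (mkY u' a1' a2' a3' v1' v2' v3' * mkY u a1 a2 a3 v1 v2 v3) := by
  simp only [mkY_mul]
  congr 1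
  · linear_combination (-(a1' * v1 + a2' * v2 + a3' * v3)) * two_zero
  · ring
  · ring
  · ring
  · ring
  · ring
  · ring

theorem isExtraspecial_Q0 : IsExtraspecial 2 ↥Q0 := by
  apply Cfsg.Agent.Lib.LargeQuot.extraspecial_of_elements isPGroup_Q0 y0
  · intro h
    have := (mkY_inj (h.trans mkY_one.symm)).1
    exact one_ne_zero this
  · intro a b
    obtain ⟨u, a1, a2, a3, v1, v2, v3, rfl⟩ := exists_mkY a
    obtain ⟨u', a1', a2', a3', v1', v2', v3', rfl⟩ := exists_mkY b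
    have h := comm_formula u a1 a2 a3 v1 v2 v3 u' a1' a2' a3' v1' v2' v3'
    rcases zmod2_cases (a1 * v1' + a2 * v2' + a3 * v3' + (a1' * v1 + a2' * v2 + a3' * v3)) with e | e
    · left
      rw [e, mkY_one, one_mul] at h
      rw [h]
      group
    · right
      rw [e] at h
      rw [h]
      group
      rfl
  · intro a
    obtain ⟨u, a1, a2, a3, v1, v2, v3, rfl⟩ := exists_mkY a
    have h : mkY u a1 a2 a3 v1 v2 v3 ^ 2 = mkY (a1 * v1 + a2 * v2 + a3 * v3) 0 0 0 0 0 0 := by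
      rw [pow_two, mkY_mul]
      simp only [CharTwo.add_self_eq_zero, zero_add]
    rcases zmod2_cases (a1 * v1 + a2 * v2 + a3 * v3) with e | e
    · left
      rw [h, e, mkY_one]
    · right
      rw [h, e]
      rfl
  · intro a hc
    obtain ⟨u, a1, a2, a3, v1, v2, v3, rfl⟩ := exists_mkY a
    have t1 := hc (mkY 0 1 0 0 0 0 0)
    have t2 := hc (mkY 0 0 1 0 0 0 0)
    have t3 := hc (mkY 0 0 0 1 0 0 0)
    have t4 := hc (mkY 0 0 0 0 1 0 0)
    have t5 := hc (mkY 0 0 0 0 0 1 0)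
    have t6 := hc (mkY 0 0 0 0 0 0 1)
    simp only [mkY_mul] at t1 t2 t3 t4 t5 t6
    replace t1 := (mkY_inj t1).1
    replace t2 := (mkY_inj t2).1
    replace t3 := (mkY_inj t3).1
    replace t4 := (mkY_inj t4).1
    replace t5 := (mkY_inj t5).1
    replace t6 := (mkY_inj t6).1
    simp at t1 t2 t3 t4 t5 t6
    subst_vars
    rcases zmod2_cases u with rfl | rfl
    · left
      exact mkY_one
    · right
      rfl
  · refine ⟨mkY 0 1 0 0 0 0 0, mkY 0 0 0 0 1 0 0, ?_⟩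
    intro h
    have h2 : mkY 0 1 0 0 0 0 0 * mkY 0 0 0 0 1 0 0 = mkY 0 0 0 0 1 0 0 * mkY 0 1 0 0 0 0 0 := by
      have h3 : ∀ a b : ↥Q0, a * b * a⁻¹ * b⁻¹ = 1 → a * b = b * a := by
        intro a b e
        have : a * b * a⁻¹ * b⁻¹ * (b * a) = b * a := by rw [e, one_mul]
        simpa [mul_assoc] using this
      exact h3 _ _ h
    simp only [mkY_mul] at h2
    have := (mkY_inj h2).1
    simp at this

/-- the central element in the centraliser -/
theorem y0_coe : ((y0 : ↥Q0) : ↥C0) = ⟨s0, Subgroup.mem_centralizer_singleton_iff.2 rfl⟩ := by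
  apply Subtype.ext
  apply Subtype.ext
  exact tvM_eq.symm

theorem cent_Q0 (c : ↥C0) (h : ∀ y : ↥Q0, (y : ↥C0) * c = c * y) : c = 1 ∨ c = (y0 : ↥C0) := by
  have hs := shape_C0 c
  obtain ⟨h00, h11⟩ := shape_one c.2
  have e : ∀ y : ↥Q0, ∀ i j, ((y : ↥C0).1.1 * c.1.1) i j = (c.1.1 * (y : ↥C0).1.1) i j := by
    intro y i j
    have := congrArg (fun x : ↥C0 => x.1.1) (h y)
    exact congrFun (congrFun this i) j
  have e1 := e (mkY 0 1 0 0 0 0 0)
  have e2 := e (mkY 0 0 1 0 0 0 0)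
  have e3 := e (mkY 0 0 0 1 0 0 0)
  have e4 := e (mkY 0 0 0 0 1 0 0)
  have e5 := e (mkY 0 0 0 0 0 1 0)
  have e6 := e (mkY 0 0 0 0 0 0 1)
  have coeY : ∀ u a1 a2 a3 v1 v2 v3, ((mkY u a1 a2 a3 v1 v2 v3 : ↥Q0) : ↥C0).1.1 = mkQ u a1 a2 a3 v1 v2 v3 := fun _ _ _ _ _ _ _ => rfl
  simp only [coeY] at e1 e2 e3 e4 e5 e6
  have a21 := e1 0 1
  have a22 := e1 0 2
  have a23 := e1 0 3
  have a24 := e1 0 4
  have a31 := e2 0 1
  have a32 := e2 0 2
  have a33 := e2 0 3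
  have a34 := e2 0 4
  have a41 := e3 0 1
  have a42 := e3 0 2
  have a43 := e3 0 3
  have a44 := e3 0 4
  have b02 := e4 0 1
  have b03 := e5 0 1
  have b04 := e6 0 1
  simp [mkQ, Matrix.mul_apply, Fin.sum_univ_five] at a21 a22 a23 a24 a31 a32 a33 a34 a41 a42 a43 a44 b02 b03 b04
  simp only [h00, b02, b03, b04, zero_add, add_zero] at a21 a22 a23 a24 a31 a32 a33 a34 a41 a42 a43 a44
  have hm : c.1.1 = mkQ (c.1.1 0 1) 0 0 0 0 0 0 := by
    ext i j
    fin_cases i <;> fin_cases j <;>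
      simp [mkQ, hs.c10, hs.c20, hs.c30, hs.c40, hs.c12, hs.c13, hs.c14, *]
  rcases zmod2_cases (c.1.1 0 1) with e0 | e0
  · left
    rw [e0, mkQ_zero] at hm
    exact Subtype.ext (Subtype.ext hm)
  · right
    rw [e0] at hm
    exact Subtype.ext (Subtype.ext hm)

/-! ### the normal elementary abelian subgroup of order 16 -/

/-- a homomorphism onto an elementary abelian subgroup -/
def eHom : Multiplicative (Fin 4 → ZMod 2) →* ↥Q0 :=
  MonoidHom.mk' (fun t => mkY (Multiplicative.toAdd t 0) 0 0 0 (Multiplicative.toAdd t 1) (Multiplicative.toAdd t 2) (Multiplicative.toAdd t 3)) (by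
    intro a b
    rw [mkY_mul]
    simp)

theorem eHom_injective : Function.Injective eHom := by
  intro a b h
  obtain ⟨h0, -, -, -, h1, h2, h3⟩ := mkY_inj h
  apply Multiplicative.toAdd.injective
  funext i
  fin_cases i <;> assumption

/-! ### the largest normal 2-subgroup -/

theorem center_SL3 : Subgroup.center SL3' = ⊥ := by
  rw [eq_bot_iff]
  intro x hx
  obtain ⟨r, hr, e⟩ := (Matrix.SpecialLinearGroup.mem_center_iff).1 hx
  have h1 : r = 1 := by
    have key : ∀ r : ZMod 2, r ^ 3 = 1 → r = 1 := by decide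
    apply key
    simpa using hr
  rw [h1] at e
  rw [Subgroup.mem_bot]
  apply Subtype.ext
  rw [← e]
  simp

theorem O2_SL3 {T : Subgroup SL3'} (hT : T.Normal) (h2 : IsPGroup 2 T) : T = ⊥ := by
  have : IsSimpleGroup (Matrix.ProjectiveSpecialLinearGroup (Fin 3) (ZMod 2)) :=
    Cfsg.Agent.Lib.ClassicalSL.isSimpleGroup_PSL (by simp)
  let π := QuotientGroup.mk' (Subgroup.center SL3')
  have hπ : Function.Surjective π := QuotientGroup.mk'_surjective _
  have hker : π.ker = ⊥ := by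
    rw [QuotientGroup.ker_mk', center_SL3]
  have hinj : Function.Injective π := (MonoidHom.ker_eq_bot_iff π).1 hker
  have hN : (T.map π).Normal := hT.map π hπ
  rcases hN.eq_bot_or_eq_top with h | h
  · rw [Subgroup.map_eq_bot_iff, hker] at h
    exact le_bot_iff.1 h
  · exfalso
    have hT' : T = ⊤ := by
      rw [eq_top_iff]
      intro x _
      have hx : π x ∈ T.map π := by rw [h]; exact Subgroup.mem_top _
      obtain ⟨y, hy, e⟩ := hx
      rw [← hinj e]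
      exact hy
    rw [hT'] at h2
    have hc : Nat.card ↥(⊤ : Subgroup SL3') = 168 := by
      rw [Subgroup.card_top, card_SL3]
    obtain ⟨k, hk⟩ := IsPGroup.iff_card.1 h2
    rw [hc] at hk
    have h3 : 3 ∣ 2 ^ k := by rw [← hk]; norm_num
    have := Nat.Prime.dvd_of_dvd_pow Nat.prime_three h3
    norm_num at this

theorem pCore_C0 : pCore 2 ↥C0 = Q0 := by
  apply le_antisymm
  · have hP : (pCore 2 ↥C0).Normal :=
      haveI := Cfsg.Agent.Lib.PCore.pCore_characteristic (G := ↥C0) 2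
      Subgroup.normal_of_characteristic _
    have h2 : IsPGroup 2 ↥(pCore 2 ↥C0) := Cfsg.Agent.Lib.PCore.isPGroup_pCore 2
    have h3 : ((pCore 2 ↥C0).map beta).Normal := hP.map beta beta_surjective
    have h4 : IsPGroup 2 ↥((pCore 2 ↥C0).map beta) := h2.map beta
    have h5 := O2_SL3 h3 h4
    rw [Subgroup.map_eq_bot_iff] at h5
    exact h5
  · exact Cfsg.Agent.Lib.PCore.le_pCore inferInstance isPGroup_Q0

end Cfsg.Agent.Lib.TvCent
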