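import Mathlib
import Cfsg.Agent.Lib.M24CentRep
import Cfsg.Agent.Lib.TvCent

set_option autoImplicit false
set_option linter.unusedVariables false
set_option linter.unusedSectionVars false

/-!
# The centraliser in `M24` of an involution with fixed octad is the centraliser of a transvection in `SL₅(2)`
-/

namespace Cfsg.Agent.Lib.M24Cent
open Cfsg Cfsg.Agent.Lib.Golay Cfsg.Agent.Lib.TvCent

open scoped Pointwise

theorem c_mem_Stab (t : T) : c t ∈ Stab := by
  refine ⟨c_mem t, ?_⟩
  change c t • O0 = O0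
  apply Finset.eq_of_subset_of_card_le
  · intro q hq
    obtain ⟨p, hp, rfl⟩ := Finset.mem_smul_finset.1 hq
    change c t p ∈ O0
    rw [c_fix t hp]
    exact hp
  · rw [Finset.card_smul_finset]

/-- the element as an element of the stabiliser -/
noncomputable def cS (t : T) : ↥Stab := ⟨c t, c_mem_Stab t⟩

theorem D_cS (t s : T) : D (cS t) s = s := by
  apply c_inj
  rw [D_spec]
  change c t * c s * (c t)⁻¹ = c s
  rw [c_comm]
  group

theorem tau_cS (t : T) : tau (cS t) = t := by
  apply pos_inj'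
  rw [tau_spec]
  rfl

theorem Lfun_cS (t : T) (v : V5) : Lfun (cS t) v = inj (v 1) (v 1 • t + pr v) := by
  unfold Lfun
  rw [D_cS, tau_cS]

theorem Mat_cS (t : T) : Mat (cS t) = mkQ (t 0) 0 0 0 (t 1) (t 2) (t 3) := by
  have h : L (cS t) = Matrix.toLin' (mkQ (t 0) 0 0 0 (t 1) (t 2) (t 3)) := by
    apply LinearMap.ext
    intro v
    rw [L_apply, Lfun_cS, Matrix.toLin'_apply]
    funext i
    fin_cases i <;>
      simp [inj, pr, mkQ, Matrix.mulVec, dotProduct, Fin.sum_univ_five] <;> ring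
  unfold Mat
  rw [h, LinearMap.toMatrix'_toLin']

/-- the involution -/
noncomputable def z0 : ↥M24 := ⟨decode Y2A, decode_mem_M24 Y2A_isM24⟩

theorem z0_eq_c : (z0 : Equiv.Perm GolayPt) = c ![1, 0, 0, 0] := c_e0.symm

/-- the centraliser of the involution -/
abbrev CZ : Subgroup ↥M24 := Subgroup.centralizer ({z0} : Set ↥M24)

theorem fix_z0 (p : GolayPt) : (z0 : Equiv.Perm GolayPt) p = p ↔ p ∈ O0 := by
  have hv := isM24_valid Y2A_isM24
  have key : ∀ i ∈ idxL, (Nat.beq (ap Y2A i) i = true ↔ (8536111 : ℕ).testBit i = true) := by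
    decide +kernel
  rw [O0, mem_ofMask, ← key (idx p) (mem_idxL.2 (idx_lt p)), Nat.beq_eq]
  change decode Y2A p = p ↔ _
  rw [decode_apply hv]
  constructor
  · intro h
    have := congrArg idx h
    rwa [idx_pt (valid_ap_lt hv (idx_lt p))] at this
  · intro h
    rw [h, pt_idx]

theorem comm_mem_Stab {y : ↥M24} (hy : (y : Equiv.Perm GolayPt) * z0 = z0 * y) : (y : Equiv.Perm GolayPt) ∈ Stab := by
  refine ⟨y.2, ?_⟩
  change (y : Equiv.Perm GolayPt) • O0 = O0
  apply Finset.eq_of_subset_of_card_le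
  · intro q hq
    obtain ⟨p, hp, rfl⟩ := Finset.mem_smul_finset.1 hq
    rw [← fix_z0]
    change (z0 : Equiv.Perm GolayPt) ((y : Equiv.Perm GolayPt) p) = (y : Equiv.Perm GolayPt) p
    rw [← Equiv.Perm.mul_apply, ← hy, Equiv.Perm.mul_apply, (fix_z0 p).2 hp]
  · rw [Finset.card_smul_finset]

theorem CZ_comm (y : ↥CZ) : ((y : ↥M24) : Equiv.Perm GolayPt) * z0 = z0 * (y : ↥M24) :=
  congrArg Subtype.val (Subgroup.mem_centralizer_singleton_iff.1 y.2)

/-- the inclusion into the stabiliser -/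
noncomputable def stabHom : ↥CZ →* ↥Stab :=
  MonoidHom.mk' (fun y => ⟨((y : ↥M24) : Equiv.Perm GolayPt), comm_mem_Stab (CZ_comm y)⟩) (fun a b => rfl)

theorem stabHom_injective : Function.Injective stabHom := by
  intro a b h
  have h2 : ((a : ↥M24) : Equiv.Perm GolayPt) = ((b : ↥M24) : Equiv.Perm GolayPt) :=
    congrArg (fun g : ↥Stab => (g : Equiv.Perm GolayPt)) h
  exact Subtype.ext (Subtype.ext h2)

/-- the involution in the stabiliser -/
noncomputable def zS : ↥Stab := cS ![1, 0, 0, 0]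

theorem Phi_zS : Phi zS = s0 := by
  apply Subtype.ext
  rw [Phi_coe, zS, Mat_cS]
  exact tvM_eq.symm

theorem stabHom_comm (y : ↥CZ) : stabHom y * zS = zS * stabHom y := by
  apply Subtype.ext
  change ((y : ↥M24) : Equiv.Perm GolayPt) * c ![1, 0, 0, 0] = c ![1, 0, 0, 0] * (y : ↥M24)
  rw [← z0_eq_c]
  exact CZ_comm y

theorem Phi_mem_C0 (y : ↥CZ) : Phi (stabHom y) ∈ C0 := by
  rw [Subgroup.mem_centralizer_singleton_iff, ← Phi_zS, ← map_mul, ← map_mul, stabHom_comm]

/-- the representation of the centraliser -/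
noncomputable def Psi : ↥CZ →* ↥C0 := (Phi.comp stabHom).codRestrict C0 Phi_mem_C0

theorem Psi_injective : Function.Injective Psi := by
  intro a b h
  exact stabHom_injective (Phi_injective (congrArg Subtype.val h))

/-! ### counting -/

/-- the centraliser in the stabiliser -/
abbrev AS : Subgroup ↥Stab := Subgroup.centralizer ({zS} : Set ↥Stab)

/-- the first basis vector -/
def e0 : T := ![1, 0, 0, 0]

theorem e0_ne : e0 ≠ 0 := by decide

theorem c_e0_eq : (z0 : Equiv.Perm GolayPt) = c e0 := z0_eq_c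

theorem D_e0_ne (g : ↥Stab) : D g e0 ≠ 0 := by
  intro h
  have h1 : c (D g e0) = 1 := by rw [h, c_zero]
  rw [D_spec] at h1
  have h2 : c e0 = 1 := by
    have : c e0 = (g : Equiv.Perm GolayPt)⁻¹ * ((g : Equiv.Perm GolayPt) * c e0 * (g : Equiv.Perm GolayPt)⁻¹) * g := by group
    rw [this, h1]
    group
  exact e0_ne (c_inj (h2.trans c_zero.symm))

theorem D_e0_eq_iff (g g' : ↥Stab) : D g e0 = D g' e0 ↔ g⁻¹ * g' ∈ AS := by
  rw [Subgroup.mem_centralizer_singleton_iff]
  constructor
  · intro h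
    apply Subtype.ext
    have h1 := congrArg c h
    rw [D_spec, D_spec] at h1
    change (g : Equiv.Perm GolayPt)⁻¹ * g' * c e0 = c e0 * ((g : Equiv.Perm GolayPt)⁻¹ * g')
    have h2 : c e0 = (g : Equiv.Perm GolayPt)⁻¹ * (g * c e0 * (g : Equiv.Perm GolayPt)⁻¹) * g := by group
    have h3 : (g' : Equiv.Perm GolayPt) * c e0 * (g' : Equiv.Perm GolayPt)⁻¹ = g * c e0 * (g : Equiv.Perm GolayPt)⁻¹ := h1.symm
    have h4 : (g' : Equiv.Perm GolayPt) * c e0 = g * c e0 * (g : Equiv.Perm GolayPt)⁻¹ * g' := by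
      rw [← h3]
      group
    rw [mul_assoc, h4]
    group
  · intro h
    apply c_inj
    rw [D_spec, D_spec]
    have h1 : (g : Equiv.Perm GolayPt)⁻¹ * g' * c e0 = c e0 * ((g : Equiv.Perm GolayPt)⁻¹ * g') := congrArg Subtype.val h
    have h2 : (g' : Equiv.Perm GolayPt) * c e0 = g * (c e0 * ((g : Equiv.Perm GolayPt)⁻¹ * g')) := by
      rw [← h1]
      group
    rw [h2]
    group

/-- the orbit map -/
noncomputable def orbMap : ↥Stab ⧸ AS → {t : T // t ≠ 0} :=
  Quotient.lift (fun g => (⟨D g e0, D_e0_ne g⟩ : {t : T // t ≠ 0})) (by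
    intro a b h
    apply Subtype.ext
    exact (D_e0_eq_iff a b).2 (QuotientGroup.leftRel_apply.1 h))

theorem orbMap_injective : Function.Injective orbMap := by
  intro a b
  induction a using QuotientGroup.induction_on with
  | H a =>
    induction b using QuotientGroup.induction_on with
    | H b =>
      intro h
      exact QuotientGroup.eq.2 ((D_e0_eq_iff a b).1 (congrArg Subtype.val h))

theorem card_quot_le : Nat.card (↥Stab ⧸ AS) ≤ 15 := by
  have h := Nat.card_le_card_of_injective _ orbMap_injective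
  have h2 : Nat.card {t : T // t ≠ 0} = 15 := by
    rw [Nat.card_eq_fintype_card]
    decide +kernel
  omega

theorem O0_mem_octads : O0 ∈ octads := ofMask_mem_octads (by decide +kernel)

theorem card_Stab : Nat.card ↥Stab = 322560 := by
  rw [← card_stab_octad O0_mem_octads]
  apply Nat.card_congr
  refine ⟨fun g => ⟨⟨g.1, g.2.1⟩, g.2.2⟩, fun g => ⟨g.1.1, g.1.2, g.2⟩, fun g => rfl, fun g => rfl⟩

theorem card_AS_ge : 21504 ≤ Nat.card ↥AS := by
  have h := Subgroup.card_eq_card_quotient_mul_card_subgroup AS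
  rw [card_Stab] at h
  have h2 := card_quot_le
  by_contra hlt
  rw [not_le] at hlt
  have : Nat.card (↥Stab ⧸ AS) * Nat.card ↥AS ≤ 15 * 21503 :=
    Nat.mul_le_mul h2 (by omega)
  omega

theorem card_CZ_ge : 21504 ≤ Nat.card ↥CZ := by
  have h := card_AS_ge
  have e : Nat.card ↥AS = Nat.card ↥CZ := by
    apply Nat.card_congr
    have h1 : ∀ g : ↥AS, ((g : ↥Stab) : Equiv.Perm GolayPt) * c e0 = c e0 * (g : ↥Stab) := fun g =>
      congrArg Subtype.val (Subgroup.mem_centralizer_singleton_iff.1 g.2)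
    refine ⟨fun g => ⟨⟨((g : ↥Stab) : Equiv.Perm GolayPt), (g : ↥Stab).2.1⟩, Subgroup.mem_centralizer_singleton_iff.2 (Subtype.ext ?_)⟩,
      fun y => ⟨stabHom y, Subgroup.mem_centralizer_singleton_iff.2 (stabHom_comm y)⟩, fun g => rfl, fun g => rfl⟩
    change ((g : ↥Stab) : Equiv.Perm GolayPt) * (z0 : Equiv.Perm GolayPt) = z0 * ((g : ↥Stab) : Equiv.Perm GolayPt)
    rw [z0_eq_c]
    exact h1 g
  omega

theorem Psi_bijective : Function.Bijective Psi := by
  refine (Function.Injective.bijective_of_nat_card_le Psi_injective ?_)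
  rw [card_C0]
  exact card_CZ_ge

/-- the isomorphism of the centralisers -/
noncomputable def PsiEquiv : ↥CZ ≃* ↥C0 := MulEquiv.ofBijective Psi Psi_bijective

/-- the centraliser of the involution in `M24` and the centraliser of the transvection in `SL₅(2)` -/
theorem PsiEquiv_coe (y : ↥CZ) : ((PsiEquiv y : ↥C0) : SL5) = Phi (stabHom y) := rfl

theorem z0_sq : z0 ^ 2 = 1 := by
  apply Subtype.ext
  change (z0 : Equiv.Perm GolayPt) ^ 2 = 1
  rw [z0_eq_c, pow_two, c_self]

theorem z0_ne_one : z0 ≠ 1 := by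
  intro h
  have h1 : c e0 = 1 := by
    rw [← c_e0_eq]
    exact congrArg Subtype.val h
  exact e0_ne (c_inj (h1.trans c_zero.symm))

theorem orderOf_z0 : orderOf z0 = 2 := orderOf_eq_prime z0_sq z0_ne_one

end Cfsg.Agent.Lib.M24Cent
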