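import Mathlib
import Cfsg.Agent.Lib.GolayCent

/-!
# The class table of the Mathieu group of degree 24
-/

set_option autoImplicit false
set_option maxRecDepth 100000
set_option maxHeartbeats 4000000
set_option linter.style.haveILetI false
set_option linter.unusedVariables false
set_option linter.unusedSectionVars false

namespace Cfsg.Agent.Lib.M24Tab

open Cfsg Cfsg.Agent.Lib.Golay Cfsg.Agent.Lib.GolaySearch Cfsg.Agent.Lib.ClassTab Cfsg.Agent.Lib.GolayTab
open Cfsg.Agent.Lib.GolayCent

/-- Representatives. -/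
def code : Fin 26 → ℕ := ![984818244535754528103549039458486304,964048898635769892387945499611696129,15949996363569057416853246830609495,979620350940204452087432440781932576,26224406058965561193629796494020321,28171528439712006507836150087081025,984614228192166794216001337262345281,19984834129718319302336496009403457,16315514359921459560175081981971521,964719475589565415227157883671645249,18683058259763368084604394044656705,12194976484672883659518627459566657,229095215802603652858141468376761367,30736254002293496262836166464212033,13603810565105378357110820681944129,24851439795146216477578121396390977,20938274670490074025311261152414785,9765056339068326059329425403907137,962266454433163070693449223704349761,981680293035282140553585806329054221,964834708053908673469652954893356097,972480944933530434889923445544518676,6949525023914414824770556462107713,548533384343997700269203075020948503,963881517622311262400563770833898561,973965553663011897861887979789812743]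

/-- Centraliser orders. -/
def cc : Fin 26 → ℕ := ![244823040,21504,7680,1080,504,384,128,96,60,24,24,42,42,16,20,11,12,12,14,14,15,15,21,21,23,23]

/-- Class sizes. -/
def cs : Fin 26 → ℕ := ![1,11385,31878,226688,485760,637560,1912680,2550240,4080384,10200960,10200960,5829120,5829120,15301440,12241152,22256640,20401920,20401920,17487360,17487360,16321536,16321536,11658240,11658240,10644480,10644480]

/-- The images allowed along the chain. -/
def keeps : Fin 26 → List (List ℕ) := ![[],[[5,13,14,17,18,20,21,23],[0,1,2,3,4,6,7,8,9,10,11,12,15,16,19,22],[1],[2,3,4,6,7,8,9,10,11,12,15,16,19,22],[3],[5,14,17],[4,7,10,12]],[[0,1,2,3,4,5,6,7,8,9,10,11,12,13,14,15,16,17,18,19,20,21,22,23],[0],[1,2,3,4,5,6,7,8,9,10,11,12,13,15,16,18,19,20,21,22],[2],[3,5],[5],[4,8,11,12,13,16,18,22]],[[0,1,2,17,21,23],[0,1,2,17,21],[1,2,17,21],[2,17,21],[3,5,14],[5],[4]],[[0,1,2,3,4,5,6,7,8,9,10,11,12,13,14,15,16,17,18,19,20,21,22,23],[0],[1],[2,7,9,10,16,19,22],[3],[5,14,17],[4]],[[0,1,2,3,5,8,9,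10,11,12,14,15,17,18,20,23],[0],[1],[2],[3,9,12,15,17,18],[5],[4,6,13,19]],[[5,9,22,23],[0,1,2,3,4,7,8,10,12,13,15,16,18,19,20,21],[1],[2],[3],[5],[4,10]],[[0,1,2,3,4,5,6,7,8,9,10,11,12,13,14,15,16,17,18,19,20,21,22,23],[0],[1],[2],[3],[5],[4,6,13,19]],[[0,1,2,3,4,6,7,8,10,11,12,13,15,16,18,19,20,21,22,23],[0],[1],[2],[3],[5,14,17],[4]],[[11,23],[0,1,2,3,6,10,12,14,15,18,19,21],[1],[2],[3],[5],[4]],[[0,1,2,3,4,5,6,7,8,9,10,11,12,13,14,15,16,17,18,19,20,21,22,23],[0],[1],[2],[3],[5],[4]],[[0,1,2,3,4,5,6,8,9,10,11,12,13,14,15,16,18,19,21,22,23],[0],[1],[2],[3],[5],[4,18]],[[0,1,2,3,4,5,6,8,9,10,11,12,13,14,15,16,18,19,21,22,23],[0],[1],[2],[3],[5],[4,18]],[[0,1,2,3,4,7,8,10,11,12,17,18,19,20,22,23],[0],[1],[2],[3],[5],[4]],[[0,1,2,3,4,5,6,7,8,9,11,12,13,15,16,17,19,20,21,23],[0],[1],[2],[3],[5],[4]],[[0,1,2,3,8,9,11,13,14,16,23],[0],[1],[2],[3],[5],[4]],[[0,1,2,3,4,8,9,13,14,15,21,23],[0],[1],[2],[3],[5],[4]],[[0,1,2,3,4,11,12,16,18,20,21,23],[0],[1],[2],[3],[5],[4]],[[23],[0,1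,2,3,6,7,10,11,12,13,16,17,18,19],[1],[2],[3],[5],[4]],[[23],[0,1,2,3,6,7,10,11,12,13,16,17,18,19],[1],[2],[3],[5],[4]],[[23],[0,1,2,3,4,6,8,11,12,14,15,16,18,19,20],[1],[2],[3],[5],[4]],[[23],[0,1,2,3,4,6,8,11,12,14,15,16,18,19,20],[1],[2],[3],[5],[4]],[[0,1,2,3,4,5,6,7,8,9,10,12,13,14,15,16,17,19,20,22,23],[0],[1],[2],[3],[5],[4]],[[0,1,2,3,4,5,6,7,8,9,10,12,13,14,15,16,17,19,20,22,23],[0],[1],[2],[3],[5],[4]],[[23],[0,1,2,3,4,5,6,7,8,9,10,11,12,13,14,15,16,17,18,19,20,21,22],[1],[2],[3],[5],[4]],[[23],[0,1,2,3,4,5,6,7,8,9,10,11,12,13,14,15,16,17,18,19,20,21,22],[1],[2],[3],[5],[4]]]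

theorem hpre : ∀ x ∈ ([] : List ℕ), x < 24 := by simp

theorem card_G0 : Nat.card ↥(G []) = 244823040 := by
  rw [G_nil]
  exact card_M24

theorem hcode : ∀ i, inG [] (code i) = true := by decide +kernel

theorem hchain : ∀ i, i ≠ 0 → chainOK (code i) chain24 (([] : List ℕ).map fun x => (x, x)) (keeps i) = true := by
  decide +kernel

theorem hprod : ∀ i, i ≠ 0 → ((keeps i).map List.length).prod ≤ cc i := by
  decide +kernel

theorem hnc : ∀ i j, i < j → ncOK [] chain24 [1, 2, 3, 4, 5, 6, 7, 8, 10, 11, 12] (code i) (code j) = true := by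
  decide +kernel

theorem hmul : ∀ i, cs i * cc i = Nat.card ↥(G []) := by
  rw [card_G0]
  decide +kernel

theorem hpos : ∀ i, 0 < cc i := by decide +kernel

theorem hsum : ∑ i, cs i = Nat.card ↥(G []) := by
  rw [card_G0]
  decide +kernel

/-- The class table. -/
noncomputable def T : Tab ↥(G []) 26 :=
  mkTab' good24 hpre code [1, 2, 3, 4, 5, 6, 7, 8, 10, 11, 12] hcode cc cs 0 (by rw [card_G0]; decide) keeps hchain hprod hnc hmul hpos hsum

theorem hr (i : Fin 26) : ((T.r i : ↥(G [])) : Equiv.Perm GolayPt) = decode (code i) := rfl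

theorem hv (i : Fin 26) : valid (code i) = true := valid_of_inG (hcode i)

end Cfsg.Agent.Lib.M24Tab
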