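import Mathlib
import Cfsg.Agent.Lib.M24Tab
import Cfsg.Agent.Lib.M24SubData
import Cfsg.Agent.Lib.GolaySub
import Cfsg.Agent.Lib.ClassTabLam

/-!
# The rational characters of the Mathieu group of degree 24
-/

set_option autoImplicit false
set_option maxRecDepth 100000
set_option maxHeartbeats 4000000
set_option linter.style.haveILetI false
set_option linter.unusedVariables false
set_option linter.unusedSectionVars false

namespace Cfsg.Agent.Lib.M24Rat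

open Cfsg Cfsg.Agent.Lib.Golay Cfsg.Agent.Lib.GolaySearch Cfsg.Agent.Lib.ClassTab Cfsg.Agent.Lib.GolayTab
open Cfsg.Agent.Lib.M24Tab Cfsg.Agent.Lib.M24SubData

def pm2 : Fin 26 → Fin 26 := ![0,0,0,3,4,1,1,2,8,3,4,11,12,6,8,15,9,10,11,12,20,21,22,23,24,25]
def U2 : Fin 26 → ℕ := ![1795248432537898728475572672376535,1795248432537898728475572672376535,1795248432537898728475572672376535,14378173471200090572501179204916791,13556628584494386979274768353741879,170949642651619261849417812059273271,213806084073504736235972119527838784,6098207981494195359743808424486146,17334593556571907959173197468894946,349840594325402011839444108242824503,26395070911071466486455731215276546,17330928482558824584277475182304706,17330928482558824584277475182304706,219669076028977399422937521566911543,10673005838759041732673154594510466,166811490738239557783895519435265234,216791641789899602044279628284300343,18927585108394187780588551083808098,12499172881671595586094423195824322,12499172881671595586094423195824322,965342087483231732469991502146382912,965342087483231732469991502146382912,22515240258250304073512728352046594,22515240258250304073512728352046594,983396598882469764448729548982833216,983396598882469764448729548982833216]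
theorem P2 : ∀ i : Fin 26, powOK [] (code i) 2 (U2 i) (code (pm2 i)) = true := by decide +kernel
theorem hpm2 (i : Fin 26) : T.cl (T.r i * T.r i) = pm2 i := by
  rw [← pow_two]
  exact cl_pow T code hr hv hpre (P2 i)

def X_one : Fin 26 → ℤ := ![1,1,1,1,1,1,1,1,1,1,1,1,1,1,1,1,1,1,1,1,1,1,1,1,1,1]
def X_pts : Fin 26 → ℤ := ![24,8,0,6,0,0,4,0,4,2,0,3,3,2,0,2,0,0,1,1,1,1,0,0,1,1]
def X_oct : Fin 26 → ℤ := ![759,71,15,21,0,7,11,3,4,5,0,3,3,1,0,0,1,0,1,1,1,1,0,0,0,0]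
def X_dod : Fin 26 → ℤ := ![2576,112,32,20,14,0,8,0,6,4,2,0,0,4,2,2,0,0,0,0,0,0,0,0,0,0]
def X_sub3 : Fin 26 → ℤ := ![2024,120,0,26,8,0,12,0,4,6,0,1,1,2,0,0,0,0,1,1,1,1,1,1,0,0]
def X_sub4 : Fin 26 → ℤ := ![10626,322,66,51,0,10,18,6,1,7,0,0,0,2,1,0,1,0,0,0,1,1,0,0,0,0]

theorem G_one : GVW T 0 X_one 0 := gen_one T X_one (by decide +kernel)
theorem G_pts : GVW T 0 X_pts 0 := gen_pts T code hr hv X_pts (by decide +kernel)
theorem G_oct : GVW T 0 X_oct 0 :=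
  gen_oct_pat T code hr hv [] (by simp) X_oct (by decide +kernel)
theorem G_dod : GVW T 0 X_dod 0 :=
  gen_dod_pat T code hr hv [] (by simp) X_dod (by decide +kernel)
theorem G_sub3 : GVW T 0 X_sub3 0 :=
  gen_sub T code hr hv 3 sub3L (by decide +kernel) (by decide +kernel) (by decide +kernel)
    X_sub3 (by decide +kernel)
theorem G_sub4 : GVW T 0 X_sub4 0 :=
  gen_sub T code hr hv 4 sub4L (by decide +kernel) (by decide +kernel) (by decide +kernel)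
    X_sub4 (by decide +kernel)

def X_K_e1 : Fin 26 → ℤ := ![1,1,1,1,1,1,1,1,1,1,1,1,1,1,1,1,1,1,1,1,1,1,1,1,1,1]
theorem G_K_e1 : GVW T 0 X_K_e1 0 :=
  (G_one.smul (1)).congr (by decide +kernel) (by decide +kernel)

def X_K_e23 : Fin 26 → ℤ := ![23,7,-1,5,-1,-1,3,-1,3,1,-1,2,2,1,-1,1,-1,-1,0,0,0,0,-1,-1,0,0]
theorem G_K_e23 : GVW T 0 X_K_e23 0 :=
  ((G_pts.smul (1)).add (G_K_e1.smul (-1))).congr (by decide +kernel) (by decide +kernel)

def X_l_K_e23 : Fin 26 → ℤ := ![253,13,-11,10,1,-3,1,1,3,-2,1,1,1,-1,-1,0,0,1,-1,-1,0,0,1,1,0,0]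
theorem G_l_K_e23 : GVW T 0 X_l_K_e23 0 :=
  G_K_e23.lam2 pm2 hpm2 (by decide +kernel)

def X_K_e253 : Fin 26 → ℤ := ![253,13,-11,10,1,-3,1,1,3,-2,1,1,1,-1,-1,0,0,1,-1,-1,0,0,1,1,0,0]
theorem G_K_e253 : GVW T 0 X_K_e253 0 :=
  (G_l_K_e23.smul (1)).congr (by decide +kernel) (by decide +kernel)

def X_p_K_e23_K_e23 : Fin 26 → ℤ := ![529,49,1,25,1,1,9,1,9,1,1,4,4,1,1,1,1,1,0,0,0,0,1,1,0,0]
theorem G_p_K_e23_K_e23 : GVW T 0 X_p_K_e23_K_e23 0 :=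
  (G_K_e23.mul_rat G_K_e23).congr (by decide +kernel) (by decide +kernel)

def X_K_e252 : Fin 26 → ℤ := ![252,28,12,9,0,4,4,0,2,1,0,0,0,0,2,-1,1,0,0,0,-1,-1,0,0,-1,-1]
theorem G_K_e252 : GVW T 0 X_K_e252 0 :=
  ((((G_p_K_e23_K_e23.smul (1)).add (G_K_e1.smul (-1))).add (G_K_e23.smul (-1))).add (G_K_e253.smul (-1))).congr (by decide +kernel) (by decide +kernel)

def X_K_e483 : Fin 26 → ℤ := ![483,35,3,6,0,3,3,3,-2,2,0,0,0,-1,-2,-1,0,0,0,0,1,1,0,0,0,0]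
theorem G_K_e483 : GVW T 0 X_K_e483 0 :=
  ((((G_oct.smul (1)).add (G_K_e1.smul (-1))).add (G_K_e23.smul (-1))).add (G_K_e252.smul (-1))).congr (by decide +kernel) (by decide +kernel)

def X_K_e1265 : Fin 26 → ℤ := ![1265,49,-15,5,8,-7,1,-3,0,1,0,-2,-2,1,0,0,-1,0,0,0,0,0,1,1,0,0]
theorem G_K_e1265 : GVW T 0 X_K_e1265 0 :=
  (((((G_sub3.smul (1)).add (G_K_e1.smul (-1))).add (G_K_e23.smul (-1))).add (G_K_e252.smul (-1))).add (G_K_e483.smul (-1))).congr (by decide +kernel) (by decide +kernel)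

def X_K_e1035 : Fin 26 → ℤ := ![1035,27,35,0,6,3,-1,3,0,0,2,-1,-1,1,0,1,0,0,-1,-1,0,0,-1,-1,0,0]
theorem G_K_e1035 : GVW T 0 X_K_e1035 0 :=
  (((((G_dod.smul (1)).add (G_K_e1.smul (-1))).add (G_K_e23.smul (-1))).add (G_K_e252.smul (-1))).add (G_K_e1265.smul (-1))).congr (by decide +kernel) (by decide +kernel)

def X_p_K_e23_K_e252 : Fin 26 → ℤ := ![5796,196,-12,45,0,-4,12,0,6,1,0,0,0,0,-2,-1,-1,0,0,0,0,0,0,0,0,0]
theorem G_p_K_e23_K_e252 : GVW T 0 X_p_K_e23_K_e252 0 :=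
  (G_K_e23.mul_rat G_K_e252).congr (by decide +kernel) (by decide +kernel)

def X_K_e3520 : Fin 26 → ℤ := ![3520,64,0,10,-8,0,0,0,0,-2,0,-1,-1,0,0,0,0,0,1,1,0,0,-1,-1,1,1]
theorem G_K_e3520 : GVW T 0 X_K_e3520 0 :=
  ((((((G_p_K_e23_K_e252.smul (1)).add (G_K_e23.smul (-1))).add (G_K_e253.smul (-1))).add (G_K_e252.smul (-1))).add (G_K_e483.smul (-1))).add (G_K_e1265.smul (-1))).congr (by decide +kernel) (by decide +kernel)

def X_p_K_e23_K_e253 : Fin 26 → ℤ := ![5819,91,11,50,-1,3,3,-1,9,-2,-1,2,2,-1,1,0,0,-1,0,0,0,0,-1,-1,0,0]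
theorem G_p_K_e23_K_e253 : GVW T 0 X_p_K_e23_K_e253 0 :=
  (G_K_e23.mul_rat G_K_e253).congr (by decide +kernel) (by decide +kernel)

def X_K_e1771 : Fin 26 → ℤ := ![1771,-21,11,16,7,3,-5,-1,1,0,-1,0,0,-1,1,0,0,-1,0,0,1,1,0,0,0,0]
theorem G_K_e1771 : GVW T 0 X_K_e1771 0 :=
  (((((G_p_K_e23_K_e253.smul (1)).add (G_K_e23.smul (-1))).add (G_K_e253.smul (-1))).add (G_K_e252.smul (-1))).add (G_K_e3520.smul (-1))).congr (by decide +kernel) (by decide +kernel)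

def X_K_e3312 : Fin 26 → ℤ := ![3312,48,16,0,-6,0,0,0,-3,0,-2,1,1,0,1,1,0,0,-1,-1,0,0,1,1,0,0]
theorem G_K_e3312 : GVW T 0 X_K_e3312 0 :=
  ((((((((G_sub4.smul (1)).add (G_K_e1.smul (-1))).add (G_K_e23.smul (-1))).add (G_K_e252.smul (-2))).add (G_K_e483.smul (-2))).add (G_K_e1265.smul (-1))).add (G_K_e1035.smul (-1))).add (G_K_e3520.smul (-1))).congr (by decide +kernel) (by decide +kernel)

def X_p_K_e23_K_e483 : Fin 26 → ℤ := ![11109,245,-3,30,0,-3,9,-3,-6,2,0,0,0,-1,2,-1,0,0,0,0,0,0,0,0,0,0]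
theorem G_p_K_e23_K_e483 : GVW T 0 X_p_K_e23_K_e483 0 :=
  (G_K_e23.mul_rat G_K_e483).congr (by decide +kernel) (by decide +kernel)

def X_K_e2277 : Fin 26 → ℤ := ![2277,21,-19,0,6,-3,1,-3,-3,0,2,2,2,-1,1,0,0,0,0,0,0,0,-1,-1,0,0]
theorem G_K_e2277 : GVW T 0 X_K_e2277 0 :=
  ((((((G_p_K_e23_K_e483.smul (1)).add (G_K_e252.smul (-1))).add (G_K_e483.smul (-1))).add (G_K_e1265.smul (-1))).add (G_K_e3312.smul (-1))).add (G_K_e3520.smul (-1))).congr (by decide +kernel) (by decide +kernel)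

def X_l_K_e253 : Fin 26 → ℤ := ![31878,-42,-66,45,0,-2,-6,6,3,-3,0,0,0,0,-1,0,1,0,0,0,0,0,0,0,0,0]
theorem G_l_K_e253 : GVW T 0 X_l_K_e253 0 :=
  G_K_e253.lam2 pm2 hpm2 (by decide +kernel)

def X_p_K_e23_K_e3520 : Fin 26 → ℤ := ![80960,448,0,50,8,0,0,0,0,-2,0,-2,-2,0,0,0,0,0,0,0,0,0,1,1,0,0]
theorem G_p_K_e23_K_e3520 : GVW T 0 X_p_K_e23_K_e3520 0 :=
  (G_K_e23.mul_rat G_K_e3520).congr (by decide +kernel) (by decide +kernel)

def X_p_K_e253_K_e483 : Fin 26 → ℤ := ![122199,455,-33,60,0,-9,3,3,-6,-4,0,0,0,1,2,0,0,0,0,0,0,0,0,0,0,0]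
theorem G_p_K_e253_K_e483 : GVW T 0 X_p_K_e253_K_e483 0 :=
  (G_K_e253.mul_rat G_K_e483).congr (by decide +kernel) (by decide +kernel)

def X_K_e5796 : Fin 26 → ℤ := ![5796,-28,36,-9,0,-4,4,0,1,-1,0,0,0,0,1,-1,-1,0,0,0,1,1,0,0,0,0]
theorem G_K_e5796 : GVW T 0 X_K_e5796 0 :=
  (((((((G_l_K_e253.smul (-1)).add (G_p_K_e23_K_e3520.smul (-1))).add (G_p_K_e253_K_e483.smul (1))).add (G_K_e253.smul (1))).add (G_K_e3312.smul (-1))).add (G_K_e2277.smul (-1))).add (G_K_e1771.smul (1))).congr (by decide +kernel) (by decide +kernel)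

def X_l_K_e252 : Fin 26 → ℤ := ![31626,266,-54,36,0,-6,-6,-6,1,-4,0,0,0,-2,1,1,0,0,0,0,1,1,0,0,1,1]
theorem G_l_K_e252 : GVW T 0 X_l_K_e252 0 :=
  G_K_e252.lam2 pm2 hpm2 (by decide +kernel)

def X_l_K_e1035 : Fin 26 → ℤ := ![535095,-153,95,0,15,-9,-13,-13,0,0,-1,1,1,1,0,0,0,-1,1,1,0,0,1,1,0,0]
theorem G_l_K_e1035 : GVW T 0 X_l_K_e1035 0 :=
  G_K_e1035.lam2 pm2 hpm2 (by decide +kernel)

def X_p_K_e253_K_e2277 : Fin 26 → ℤ := ![576081,273,209,0,6,9,1,-3,-9,0,2,2,2,1,-1,0,0,0,0,0,0,0,-1,-1,0,0]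
theorem G_p_K_e253_K_e2277 : GVW T 0 X_p_K_e253_K_e2277 0 :=
  (G_K_e253.mul_rat G_K_e2277).congr (by decide +kernel) (by decide +kernel)

def X_K_e2024 : Fin 26 → ℤ := ![2024,8,24,-1,8,8,0,0,-1,-1,0,1,1,0,-1,0,-1,0,1,1,-1,-1,1,1,0,0]
theorem G_K_e2024 : GVW T 0 X_K_e2024 0 :=
  (((((((((((G_l_K_e252.smul (-1)).add (G_l_K_e1035.smul (-1))).add (G_p_K_e253_K_e2277.smul (1))).add (G_K_e253.smul (1))).add (G_K_e252.smul (-1))).add (G_K_e483.smul (-2))).add (G_K_e5796.smul (-1))).add (G_K_e1265.smul (1))).add (G_K_e3312.smul (-1))).add (G_K_e1035.smul (-2))).add (G_K_e1771.smul (2))).congr (by decide +kernel) (by decide +kernel)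

def X_p_K_e252_K_e252 : Fin 26 → ℤ := ![63504,784,144,81,0,16,16,0,4,1,0,0,0,0,4,1,1,0,0,0,1,1,0,0,1,1]
theorem G_p_K_e252_K_e252 : GVW T 0 X_p_K_e252_K_e252 0 :=
  (G_K_e252.mul_rat G_K_e252).congr (by decide +kernel) (by decide +kernel)

def X_K_e5313 : Fin 26 → ℤ := ![5313,49,9,-15,0,1,-3,-3,3,1,0,0,0,-1,-1,0,1,0,0,0,0,0,0,0,0,0]
theorem G_K_e5313 : GVW T 0 X_K_e5313 0 :=
  ((((((((((((G_l_K_e252.smul (-1)).add (G_p_K_e252_K_e252.smul (1))).add (G_K_e1.smul (-1))).add (G_K_e23.smul (-1))).add (G_K_e252.smul (-3))).add (G_K_e483.smul (-2))).add (G_K_e5796.smul (-1))).add (G_K_e1265.smul (-1))).add (G_K_e3312.smul (-2))).add (G_K_e2024.smul (-1))).add (G_K_e1035.smul (-2))).add (G_K_e3520.smul (-2))).congr (by decide +kernel) (by decide +kernel)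

def X_p_K_e23_K_e1035 : Fin 26 → ℤ := ![23805,189,-35,0,-6,-3,-3,-3,0,0,-2,-2,-2,1,0,1,0,0,0,0,0,0,1,1,0,0]
theorem G_p_K_e23_K_e1035 : GVW T 0 X_p_K_e23_K_e1035 0 :=
  (G_K_e23.mul_rat G_K_e1035).congr (by decide +kernel) (by decide +kernel)

def X_K_e10395 : Fin 26 → ℤ := ![10395,-21,-45,0,0,3,-1,3,0,0,0,0,0,1,0,0,0,0,0,0,0,0,0,0,-1,-1]
theorem G_K_e10395 : GVW T 0 X_K_e10395 0 :=
  (((((G_p_K_e23_K_e1035.smul (1)).add (G_K_e5313.smul (-1))).add (G_K_e1265.smul (-1))).add (G_K_e3312.smul (-1))).add (G_K_e3520.smul (-1))).congr (by decide +kernel) (by decide +kernel)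

def X_K_e5544 : Fin 26 → ℤ := ![5544,-56,24,9,0,-8,0,0,-1,1,0,0,0,0,-1,0,1,0,0,0,-1,-1,0,0,1,1]
theorem G_K_e5544 : GVW T 0 X_K_e5544 0 :=
  (((((G_l_K_e253.smul (1)).add (G_K_e253.smul (-1))).add (G_K_e10395.smul (-2))).add (G_K_e1771.smul (-1))).add (G_K_e3520.smul (-1))).congr (by decide +kernel) (by decide +kernel)

def X_p_K_e23_K_e1771 : Fin 26 → ℤ := ![40733,-147,-11,80,-7,-3,-15,1,3,0,1,0,0,-1,-1,0,0,1,0,0,0,0,0,0,0,0]
theorem G_p_K_e23_K_e1771 : GVW T 0 X_p_K_e23_K_e1771 0 :=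
  (G_K_e23.mul_rat G_K_e1771).congr (by decide +kernel) (by decide +kernel)

def X_K_s1540 : Fin 26 → ℤ := ![1540,-28,20,10,-14,4,-4,-4,0,2,2,0,0,0,0,0,-2,2,0,0,0,0,0,0,-1,-1]
theorem G_K_s1540 : GVW T 0 X_K_s1540 0 :=
  ((((((G_p_K_e23_K_e1771.smul (1)).add (G_K_e253.smul (-1))).add (G_K_e10395.smul (-2))).add (G_K_e5544.smul (-2))).add (G_K_e1771.smul (-2))).add (G_K_e3520.smul (-1))).congr (by decide +kernel) (by decide +kernel)

def X_l_K_e483 : Fin 26 → ℤ := ![116403,371,-237,15,0,-13,-13,3,3,-1,0,0,0,-1,3,1,-1,0,0,0,0,0,0,0,0,0]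
theorem G_l_K_e483 : GVW T 0 X_l_K_e483 0 :=
  G_K_e483.lam2 pm2 hpm2 (by decide +kernel)

def X_K_s462 : Fin 26 → ℤ := ![462,14,-18,-6,0,-2,-2,6,2,2,0,0,0,-2,2,0,-2,0,0,0,-1,-1,0,0,2,2]
theorem G_K_s462 : GVW T 0 X_K_s462 0 :=
  (((((((((((G_l_K_e483.smul (1)).add (G_K_e253.smul (-1))).add (G_K_e5313.smul (-3))).add (G_K_e10395.smul (-6))).add (G_K_e5544.smul (-1))).add (G_K_e5796.smul (-1))).add (G_K_e1265.smul (-2))).add (G_K_e3312.smul (-2))).add (G_K_e2277.smul (-2))).add (G_K_e1771.smul (-1))).add (G_K_e3520.smul (-3))).congr (by decide +kernel) (by decide +kernel)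

def X_l_K_e1265 : Fin 26 → ℤ := ![799480,568,-520,10,28,0,-24,12,0,-2,-4,3,3,0,0,0,0,0,1,1,0,0,0,0,0,0]
theorem G_l_K_e1265 : GVW T 0 X_l_K_e1265 0 :=
  G_K_e1265.lam2 pm2 hpm2 (by decide +kernel)

def X_K_s1980 : Fin 26 → ℤ := ![1980,-36,-20,0,6,12,4,-4,0,0,-2,-1,-1,0,0,0,0,2,-1,-1,0,0,-1,-1,2,2]
theorem G_K_s1980 : GVW T 0 X_K_s1980 0 :=
  ((((((((((((((((G_l_K_e1035.smul (-1)).add (G_l_K_e1265.smul (1))).add (G_K_e253.smul (-2))).add (G_K_e483.smul (-2))).add (G_K_e5313.smul (-6))).add (G_K_e10395.smul (-15))).add (G_K_e5544.smul (-2))).add (G_K_e5796.smul (-2))).add (G_K_e1265.smul (-3))).add (G_K_e3312.smul (-4))).add (G_K_e2024.smul (-1))).add (G_K_e2277.smul (-4))).add (G_K_e1771.smul (-1))).add (G_K_e3520.smul (-6))).add (G_K_s462.smul (-2))).add (G_K_s1540.smul (1))).congr (by decide +kernel) (by decide +kernel)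

def X_p_K_e23_K_s1980 : Fin 26 → ℤ := ![45540,-252,20,0,-6,-12,12,4,0,0,2,-2,-2,0,0,0,0,-2,0,0,0,0,1,1,0,0]
theorem G_p_K_e23_K_s1980 : GVW T 0 X_p_K_e23_K_s1980 0 :=
  (G_K_e23.mul_rat G_K_s1980).congr (by decide +kernel) (by decide +kernel)

def X_K_s2070 : Fin 26 → ℤ := ![2070,-42,-10,0,-6,6,6,-2,0,0,2,-2,-2,-2,0,2,0,-2,0,0,0,0,1,1,0,0]
theorem G_K_s2070 : GVW T 0 X_K_s2070 0 :=
  ((((G_p_K_e23_K_s1980.smul (1)).add (G_K_e10395.smul (-2))).add (G_K_e5544.smul (-2))).add (G_K_e5796.smul (-2))).congr (by decide +kernel) (by decide +kernel)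

def X_p_K_e23_K_s2070 : Fin 26 → ℤ := ![47610,-294,10,0,6,-6,18,2,0,0,-2,-4,-4,-2,0,2,0,2,0,0,0,0,-1,-1,0,0]
theorem G_p_K_e23_K_s2070 : GVW T 0 X_p_K_e23_K_s2070 0 :=
  (G_K_e23.mul_rat G_K_s2070).congr (by decide +kernel) (by decide +kernel)

def X_K_s90 : Fin 26 → ℤ := ![90,-6,10,0,6,-6,2,2,0,0,-2,-1,-1,-2,0,2,0,2,1,1,0,0,-1,-1,-2,-2]
theorem G_K_s90 : GVW T 0 X_K_s90 0 :=
  ((((((G_p_K_e23_K_s2070.smul (1)).add (G_K_e10395.smul (-2))).add (G_K_e5544.smul (-2))).add (G_K_e5796.smul (-2))).add (G_K_s1980.smul (-1))).add (G_K_s2070.smul (-1))).congr (by decide +kernel) (by decide +kernel)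

end Cfsg.Agent.Lib.M24Rat
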