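import Mathlib
import Cfsg.Agent.Lib.M24Rat
import Cfsg.Agent.Lib.CycRoots

/-!
# The irrational characters of the Mathieu group of degree 24, and the table
-/

set_option autoImplicit false
set_option maxRecDepth 100000
set_option maxHeartbeats 4000000
set_option linter.style.haveILetI false
set_option linter.unusedVariables false
set_option linter.unusedSectionVars false

namespace Cfsg.Agent.Lib.M24Chars

open Cfsg Cfsg.Agent.Lib.Golay Cfsg.Agent.Lib.GolaySearch Cfsg.Agent.Lib.ClassTab Cfsg.Agent.Lib.GolayTab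
open Cfsg.Agent.Lib.M24Tab Cfsg.Agent.Lib.M24Rat Cfsg.Agent.Lib.CycRoots
open scoped ComplexConjugate

noncomputable def z21 : ℂ := zr 21
noncomputable def z15 : ℂ := zr 15
noncomputable def z23 : ℂ := zr 23
theorem z21_pow : z21 ^ 21 = 1 := zr_pow (by norm_num)
theorem z15_pow : z15 ^ 15 = 1 := zr_pow (by norm_num)
theorem z23_pow : z23 ^ 23 = 1 := zr_pow (by norm_num)
theorem z23_phi :  z23 ^ 0+ z23 ^ 1+ z23 ^ 2+ z23 ^ 3+ z23 ^ 4+ z23 ^ 5+ z23 ^ 6+ z23 ^ 7+ z23 ^ 8+ z23 ^ 9+ z23 ^ 10+ z23 ^ 11+ z23 ^ 12+ z23 ^ 13+ z23 ^ 14+ z23 ^ 15+ z23 ^ 16+ z23 ^ 17+ z23 ^ 18+ z23 ^ 19+ z23 ^ 20+ z23 ^ 21+ z23 ^ 22 = 0 := by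
  have h := geom_zero (m := 23) (by norm_num)
  simp only [Finset.sum_range_succ, Finset.sum_range_zero, zero_add] at h
  exact h
theorem z21_phi : (1) + (-1) * z21 + (1) * z21 ^ 3 + (-1) * z21 ^ 4 + (1) * z21 ^ 6 + (-1) * z21 ^ 8 + (1) * z21 ^ 9 + (-1) * z21 ^ 11 + (1) * z21 ^ 12 = 0 := by
  have h3 : z21 ^ 3 - 1 ≠ 0 := sub_ne_zero.mpr ((zr_prim (m := 21) (by norm_num)).pow_ne_one_of_pos_of_lt (by norm_num) (by norm_num))
  have h7 : z21 ^ 7 - 1 ≠ 0 := sub_ne_zero.mpr ((zr_prim (m := 21) (by norm_num)).pow_ne_one_of_pos_of_lt (by norm_num) (by norm_num))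
  have h := mul_ne_zero h3 h7
  apply mul_left_cancel₀ h
  linear_combination (z21 - 1) * z21_pow
theorem z15_phi : (1) + (-1) * z15 + (1) * z15 ^ 3 + (-1) * z15 ^ 4 + (1) * z15 ^ 5 + (-1) * z15 ^ 7 + (1) * z15 ^ 8 = 0 := by
  have h3 : z15 ^ 3 - 1 ≠ 0 := sub_ne_zero.mpr ((zr_prim (m := 15) (by norm_num)).pow_ne_one_of_pos_of_lt (by norm_num) (by norm_num))
  have h5 : z15 ^ 5 - 1 ≠ 0 := sub_ne_zero.mpr ((zr_prim (m := 15) (by norm_num)).pow_ne_one_of_pos_of_lt (by norm_num) (by norm_num))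
  have h := mul_ne_zero h3 h5
  apply mul_left_cancel₀ h
  linear_combination (z15 - 1) * z15_pow
theorem conj_z21 : conj z21 = z21 ^ 20 := conj_zr (by norm_num)
theorem conj_z15 : conj z15 = z15 ^ 14 := conj_zr (by norm_num)
theorem conj_z23 : conj z23 = z23 ^ 22 := conj_zr (by norm_num)

noncomputable def w7 : ℂ := z21 ^ 3 + z21 ^ 6 + z21 ^ 12
theorem w7_trace : w7 + conj w7 = ((-1 : ℤ) : ℂ) := by
  unfold w7
  simp only [map_add, map_pow, conj_z21]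
  push_cast
  linear_combination ((1) + (1) * z21 + (1) * z21 ^ 2 + (1) * z21 ^ 3 + (1) * z21 ^ 4 + (1) * z21 ^ 5 + (1) * z21 ^ 6 + (-1) * z21 ^ 9 + (-1) * z21 ^ 10 + (-1) * z21 ^ 11 + (-1) * z21 ^ 15 + (-1) * z21 ^ 19 + (-1) * z21 ^ 20 + (1) * z21 ^ 22 + (1) * z21 ^ 23 + (1) * z21 ^ 24 + (1) * z21 ^ 25 + (1) * z21 ^ 26 + (1) * z21 ^ 27 + (-1) * z21 ^ 30 + (-1) * z21 ^ 31 + (-1) * z21 ^ 32 + (-1) * z21 ^ 36 + (-1) * z21 ^ 40 + (-1) * z21 ^ 41 + (1) * z21 ^ 43 + (1) * z21 ^ 44 + (1) * z21 ^ 45 + (1) * z21 ^ 46 + (1) * z21 ^ 47 + (1) * z21 ^ 48 + (-1) * z21 ^ 51 + (-1) * z21 ^ 52 + (-1) * z21 ^ 53 + (-1) * z21 ^ 57 + (1) * z21 ^ 60 + (1) * z21 ^ 64 + (1) * z21 ^ 65 + (1) * z21 ^ 66 + (-1) * z21 ^ 72 + (-1) * z21 ^ 73 + (-1) * z21 ^ 74 + (-1) * z21 ^ 78 + (1) * z21 ^ 81 + (1) * z21 ^ 85 + (1) * z21 ^ 86 + (1) * z21 ^ 87 + (-1) * z21 ^ 93 + (-1) * z21 ^ 94 + (-1) * z21 ^ 95 + (-1) * z21 ^ 99 + (1) *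 z21 ^ 102 + (1) * z21 ^ 106 + (1) * z21 ^ 107 + (1) * z21 ^ 108 + (-1) * z21 ^ 114 + (-1) * z21 ^ 115 + (-1) * z21 ^ 116 + (1) * z21 ^ 121 + (1) * z21 ^ 122 + (1) * z21 ^ 123 + (-1) * z21 ^ 135 + (-1) * z21 ^ 136 + (-1) * z21 ^ 137 + (1) * z21 ^ 142 + (1) * z21 ^ 143 + (1) * z21 ^ 144 + (-1) * z21 ^ 156 + (-1) * z21 ^ 157 + (-1) * z21 ^ 158 + (1) * z21 ^ 163 + (1) * z21 ^ 164 + (1) * z21 ^ 165 + (-1) * z21 ^ 177 + (-1) * z21 ^ 178 + (-1) * z21 ^ 179 + (1) * z21 ^ 184 + (1) * z21 ^ 185 + (1) * z21 ^ 186 + (-1) * z21 ^ 198 + (-1) * z21 ^ 199 + (-1) * z21 ^ 200 + (1) * z21 ^ 205 + (1) * z21 ^ 206 + (1) * z21 ^ 207 + (-1) * z21 ^ 219 + (-1) * z21 ^ 220 + (-1) * z21 ^ 221 + (1) * z21 ^ 226 + (1) * z21 ^ 227 + (1) * z21 ^ 228) * z21_phi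
theorem w7_norm : w7 * conj w7 = ((2 : ℤ) : ℂ) := by
  unfold w7
  simp only [map_add, map_pow, conj_z21]
  push_cast
  linear_combination ((-2) + (-2) * z21 + (-2) * z21 ^ 2 + (2) * z21 ^ 7 + (2) * z21 ^ 8 + (2) * z21 ^ 9 + (-2) * z21 ^ 21 + (-2) * z21 ^ 22 + (-2) * z21 ^ 23 + (2) * z21 ^ 28 + (2) * z21 ^ 29 + (2) * z21 ^ 30 + (-2) * z21 ^ 42 + (-2) * z21 ^ 43 + (-2) * z21 ^ 44 + (2) * z21 ^ 49 + (2) * z21 ^ 50 + (2) * z21 ^ 51 + (-1) * z21 ^ 63 + (-1) * z21 ^ 64 + (-1) * z21 ^ 65 + (1) * z21 ^ 66 + (1) * z21 ^ 67 + (1) * z21 ^ 68 + (1) * z21 ^ 70 + (1) * z21 ^ 71 + (2) * z21 ^ 72 + (-1) * z21 ^ 75 + (-1) * z21 ^ 79 + (-1) * z21 ^ 80 + (-1) * z21 ^ 81 + (-1) * z21 ^ 84 + (-1) * z21 ^ 85 + (-1) * z21 ^ 86 + (1) * z21 ^ 87 + (1) * z21 ^ 88 + (1) * z21 ^ 89 + (1) * z21 ^ 91 + (1) * z21 ^ 92 + (2) * z21 ^ 93 + (-1) * z21 ^ 96 + (-1) * z21 ^ 100 + (-1) * z21 ^ 101 + (-1) * z21 ^ 102 + (-1) * z21 ^ 105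 + (-1) * z21 ^ 106 + (-1) * z21 ^ 107 + (1) * z21 ^ 108 + (1) * z21 ^ 109 + (1) * z21 ^ 110 + (1) * z21 ^ 112 + (1) * z21 ^ 113 + (2) * z21 ^ 114 + (-1) * z21 ^ 117 + (-1) * z21 ^ 121 + (-1) * z21 ^ 122 + (1) * z21 ^ 124 + (1) * z21 ^ 125 + (1) * z21 ^ 129 + (1) * z21 ^ 133 + (1) * z21 ^ 134 + (1) * z21 ^ 135 + (-1) * z21 ^ 138 + (-1) * z21 ^ 139 + (-1) * z21 ^ 140 + (-1) * z21 ^ 141 + (-1) * z21 ^ 142 + (-1) * z21 ^ 143 + (1) * z21 ^ 145 + (1) * z21 ^ 146 + (1) * z21 ^ 150 + (1) * z21 ^ 154 + (1) * z21 ^ 155 + (1) * z21 ^ 156 + (-1) * z21 ^ 159 + (-1) * z21 ^ 160 + (-1) * z21 ^ 161 + (-1) * z21 ^ 162 + (-1) * z21 ^ 163 + (-1) * z21 ^ 164 + (1) * z21 ^ 166 + (1) * z21 ^ 167 + (1) * z21 ^ 171 + (1) * z21 ^ 175 + (1) * z21 ^ 176 + (1) * z21 ^ 177 + (-1) * z21 ^ 180 + (-1) * z21 ^ 181 + (-1) * z21 ^ 182 + (-1) * z21 ^ 183 + (-1) * z21 ^ 184 + (-1) * z21 ^ 185 + (1) * z21 ^ 187 + (1) * z21 ^ 188 + (1)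 * z21 ^ 192 + (1) * z21 ^ 196 + (1) * z21 ^ 197 + (1) * z21 ^ 198 + (-1) * z21 ^ 201 + (-1) * z21 ^ 202 + (-1) * z21 ^ 203 + (-1) * z21 ^ 204 + (-1) * z21 ^ 205 + (-1) * z21 ^ 206 + (1) * z21 ^ 208 + (1) * z21 ^ 209 + (1) * z21 ^ 213 + (1) * z21 ^ 217 + (1) * z21 ^ 218 + (1) * z21 ^ 219 + (-1) * z21 ^ 222 + (-1) * z21 ^ 223 + (-1) * z21 ^ 224 + (-1) * z21 ^ 225 + (-1) * z21 ^ 226 + (-1) * z21 ^ 227 + (1) * z21 ^ 229 + (1) * z21 ^ 230 + (1) * z21 ^ 234 + (1) * z21 ^ 238 + (1) * z21 ^ 239 + (1) * z21 ^ 240) * z21_phi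
theorem w7_int : IsIntegral ℤ w7 := by
  have hz : IsIntegral ℤ z21 := zr_integral (by norm_num)
  unfold w7
  repeat' first | exact hz | apply IsIntegral.add | apply IsIntegral.pow
theorem w7_im : w7.im ≠ 0 := im_ne_of_trace_norm w7_trace w7_norm (by norm_num)

noncomputable def w15 : ℂ := z15 ^ 1 + z15 ^ 2 + z15 ^ 4 + z15 ^ 8
theorem w15_trace : w15 + conj w15 = ((1 : ℤ) : ℂ) := by
  unfold w15
  simp only [map_add, map_pow, conj_z15]
  push_cast
  linear_combination ((-1) + (1) * z15 ^ 2 + (2) * z15 ^ 3 + (2) * z15 ^ 4 + (2) * z15 ^ 5 + (1) * z15 ^ 6 + (-1) * z15 ^ 7 + (-1) * z15 ^ 8 + (-1) * z15 ^ 9 + (-1) * z15 ^ 11 + (-1) * z15 ^ 13 + (-1) * z15 ^ 15 + (1) * z15 ^ 16 + (1) * z15 ^ 17 + (2) * z15 ^ 18 + (1) * z15 ^ 19 + (1) * z15 ^ 20 + (-1) * z15 ^ 22 + (-1) * z15 ^ 23 + (-1) * z15 ^ 24 + (-1) * z15 ^ 26 + (1) * z15 ^ 29 + (1) * z15 ^ 31 + (1) * z15 ^ 32 + (1) * z15 ^ 33 + (-1) * z15 ^ 37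 + (-1) * z15 ^ 38 + (-1) * z15 ^ 39 + (-1) * z15 ^ 41 + (1) * z15 ^ 44 + (1) * z15 ^ 46 + (1) * z15 ^ 47 + (1) * z15 ^ 48 + (-1) * z15 ^ 52 + (-1) * z15 ^ 53 + (-1) * z15 ^ 54 + (1) * z15 ^ 57 + (1) * z15 ^ 58 + (1) * z15 ^ 59 + (-1) * z15 ^ 67 + (-1) * z15 ^ 68 + (-1) * z15 ^ 69 + (1) * z15 ^ 72 + (1) * z15 ^ 73 + (1) * z15 ^ 74 + (-1) * z15 ^ 82 + (-1) * z15 ^ 83 + (-1) * z15 ^ 84 + (1) * z15 ^ 87 + (1) * z15 ^ 88 + (1) * z15 ^ 89 + (-1) * z15 ^ 97 + (-1) * z15 ^ 98 + (-1) * z15 ^ 99 + (1) * z15 ^ 102 + (1) * z15 ^ 103 + (1) * z15 ^ 104) * z15_phi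
theorem w15_norm : w15 * conj w15 = ((4 : ℤ) : ℂ) := by
  unfold w15
  simp only [map_add, map_pow, conj_z15]
  push_cast
  linear_combination ((-4) + (-4) * z15 + (-4) * z15 ^ 2 + (4) * z15 ^ 5 + (4) * z15 ^ 6 + (4) * z15 ^ 7 + (-3) * z15 ^ 15 + (-2) * z15 ^ 16 + (-2) * z15 ^ 17 + (2) * z15 ^ 18 + (1) * z15 ^ 19 + (4) * z15 ^ 20 + (2) * z15 ^ 21 + (3) * z15 ^ 22 + (-1) * z15 ^ 23 + (-1) * z15 ^ 25 + (-1) * z15 ^ 27 + (-1) * z15 ^ 28 + (-1) * z15 ^ 30 + (3) * z15 ^ 33 + (1) * z15 ^ 34 + (2) * z15 ^ 35 + (1) * z15 ^ 36 + (2) * z15 ^ 37 + (-1) * z15 ^ 38 + (-1) * z15 ^ 39 + (-1) * z15 ^ 40 + (-1) * z15 ^ 41 + (-2) * z15 ^ 42 + (-2) * z15 ^ 43 + (-1) * z15 ^ 45 + (3) * z15 ^ 48 + (1) * z15 ^ 49 + (2) * z15 ^ 50 + (1) * z15 ^ 51 + (2) * z15 ^ 52 + (-1) * z15 ^ 53 + (-1) * z15 ^ 54 + (-1) * z15 ^ 55 + (-1) * z15 ^ 56 + (-1) * z15 ^ 57 + (2) * z15 ^ 59 + (1) * z15 ^ 60 + (1) * z15 ^ 61 + (1) * z15 ^ 63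 + (1) * z15 ^ 65 + (1) * z15 ^ 66 + (1) * z15 ^ 67 + (-1) * z15 ^ 68 + (-2) * z15 ^ 69 + (-2) * z15 ^ 70 + (-2) * z15 ^ 71 + (-1) * z15 ^ 72 + (2) * z15 ^ 74 + (1) * z15 ^ 75 + (1) * z15 ^ 76 + (1) * z15 ^ 78 + (1) * z15 ^ 80 + (1) * z15 ^ 81 + (1) * z15 ^ 82 + (-1) * z15 ^ 83 + (-2) * z15 ^ 84 + (-2) * z15 ^ 85 + (-2) * z15 ^ 86 + (-1) * z15 ^ 87 + (2) * z15 ^ 89 + (1) * z15 ^ 90 + (1) * z15 ^ 91 + (1) * z15 ^ 93 + (1) * z15 ^ 95 + (1) * z15 ^ 96 + (1) * z15 ^ 97 + (-1) * z15 ^ 98 + (-2) * z15 ^ 99 + (-2) * z15 ^ 100 + (-2) * z15 ^ 101 + (-1) * z15 ^ 102 + (2) * z15 ^ 104 + (1) * z15 ^ 105 + (1) * z15 ^ 106 + (1) * z15 ^ 108 + (1) * z15 ^ 110 + (1) * z15 ^ 111 + (1) * z15 ^ 112) * z15_phi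
theorem w15_int : IsIntegral ℤ w15 := by
  have hz : IsIntegral ℤ z15 := zr_integral (by norm_num)
  unfold w15
  repeat' first | exact hz | apply IsIntegral.add | apply IsIntegral.pow
theorem w15_im : w15.im ≠ 0 := im_ne_of_trace_norm w15_trace w15_norm (by norm_num)

noncomputable def w23 : ℂ := z23 ^ 1 + z23 ^ 2 + z23 ^ 3 + z23 ^ 4 + z23 ^ 6 + z23 ^ 8 + z23 ^ 9 + z23 ^ 12 + z23 ^ 13 + z23 ^ 16 + z23 ^ 18
theorem w23_trace : w23 + conj w23 = ((-1 : ℤ) : ℂ) := by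
  unfold w23
  simp only [map_add, map_pow, conj_z23]
  push_cast
  linear_combination ((1) + (-1) * z23 ^ 5 + (1) * z23 ^ 6 + (-1) * z23 ^ 7 + (1) * z23 ^ 8 + (-1) * z23 ^ 10 + (1) * z23 ^ 12 + (-1) * z23 ^ 14 + (1) * z23 ^ 16 + (-1) * z23 ^ 17 + (1) * z23 ^ 18 + (-1) * z23 ^ 19 + (1) * z23 ^ 22 + (-1) * z23 ^ 28 + (1) * z23 ^ 29 + (-1) * z23 ^ 30 + (1) * z23 ^ 31 + (-1) * z23 ^ 33 + (1) * z23 ^ 35 + (-1) * z23 ^ 37 + (1) * z23 ^ 39 + (-1) * z23 ^ 40 + (1) * z23 ^ 41 + (-1) * z23 ^ 42 + (1) * z23 ^ 44 + (-1) * z23 ^ 51 + (1) * z23 ^ 52 + (-1) * z23 ^ 53 + (1) * z23 ^ 54 + (-1) * z23 ^ 56 + (1) * z23 ^ 58 + (-1) * z23 ^ 60 + (1) * z23 ^ 62 + (-1) * z23 ^ 63 + (1) * z23 ^ 64 + (-1) * z23 ^ 65 + (1) * z23 ^ 66 + (-1) * z23 ^ 74 + (1) * z23 ^ 75 + (-1) * z23 ^ 76 + (1) * z23 ^ 77 + (-1) * z23 ^ 79 + (1) * z23 ^ 81 + (-1) * z23 ^ 83 + (1) * z23 ^ 85 + (-1) * z23 ^ 86 + (1) * z23 ^ 87 + (-1) * z23 ^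 97 + (1) * z23 ^ 98 + (-1) * z23 ^ 99 + (1) * z23 ^ 100 + (-1) * z23 ^ 102 + (1) * z23 ^ 104 + (-1) * z23 ^ 106 + (1) * z23 ^ 108 + (-1) * z23 ^ 109 + (1) * z23 ^ 110 + (-1) * z23 ^ 120 + (1) * z23 ^ 121 + (-1) * z23 ^ 122 + (1) * z23 ^ 123 + (-1) * z23 ^ 125 + (1) * z23 ^ 127 + (-1) * z23 ^ 129 + (1) * z23 ^ 131 + (-1) * z23 ^ 143 + (1) * z23 ^ 144 + (-1) * z23 ^ 145 + (1) * z23 ^ 146 + (-1) * z23 ^ 148 + (1) * z23 ^ 150 + (-1) * z23 ^ 152 + (1) * z23 ^ 154 + (-1) * z23 ^ 166 + (1) * z23 ^ 167 + (-1) * z23 ^ 168 + (1) * z23 ^ 169 + (-1) * z23 ^ 171 + (1) * z23 ^ 173 + (-1) * z23 ^ 175 + (1) * z23 ^ 176 + (-1) * z23 ^ 189 + (1) * z23 ^ 190 + (-1) * z23 ^ 191 + (1) * z23 ^ 192 + (-1) * z23 ^ 194 + (1) * z23 ^ 196 + (-1) * z23 ^ 212 + (1) * z23 ^ 213 + (-1) * z23 ^ 214 + (1) * z23 ^ 215 + (-1) * z23 ^ 217 + (1) * z23 ^ 219 + (-1) * z23 ^ 235 + (1) * z23 ^ 236 + (-1) * z23 ^ 237 + (1) * z23 ^ 238 +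 (-1) * z23 ^ 240 + (1) * z23 ^ 242 + (-1) * z23 ^ 258 + (1) * z23 ^ 259 + (-1) * z23 ^ 260 + (1) * z23 ^ 261 + (-1) * z23 ^ 263 + (1) * z23 ^ 264 + (-1) * z23 ^ 281 + (1) * z23 ^ 282 + (-1) * z23 ^ 283 + (1) * z23 ^ 284 + (-1) * z23 ^ 304 + (1) * z23 ^ 305 + (-1) * z23 ^ 306 + (1) * z23 ^ 307 + (-1) * z23 ^ 327 + (1) * z23 ^ 328 + (-1) * z23 ^ 329 + (1) * z23 ^ 330 + (-1) * z23 ^ 350 + (1) * z23 ^ 351 + (-1) * z23 ^ 373 + (1) * z23 ^ 374) * z23_phi
theorem w23_norm : w23 * conj w23 = ((6 : ℤ) : ℂ) := by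
  unfold w23
  simp only [map_add, map_pow, conj_z23]
  push_cast
  linear_combination ((-6) + (6) * z23 + (-5) * z23 ^ 23 + (6) * z23 ^ 24 + (-1) * z23 ^ 27 + (1) * z23 ^ 28 + (-1) * z23 ^ 29 + (1) * z23 ^ 30 + (-1) * z23 ^ 32 + (1) * z23 ^ 34 + (-1) * z23 ^ 36 + (1) * z23 ^ 38 + (-1) * z23 ^ 39 + (1) * z23 ^ 40 + (-1) * z23 ^ 41 + (1) * z23 ^ 45 + (-5) * z23 ^ 46 + (6) * z23 ^ 47 + (-1) * z23 ^ 49 + (1) * z23 ^ 53 + (-1) * z23 ^ 54 + (-1) * z23 ^ 55 + (1) * z23 ^ 56 + (1) * z23 ^ 57 + (-1) * z23 ^ 58 + (-1) * z23 ^ 59 + (1) * z23 ^ 60 + (-1) * z23 ^ 64 + (1) * z23 ^ 67 + (1) * z23 ^ 68 + (-5) * z23 ^ 69 + (6) * z23 ^ 70 + (-1) * z23 ^ 71 + (-1) * z23 ^ 73 + (1) * z23 ^ 74 + (-1) * z23 ^ 77 + (1) * z23 ^ 79 + (-1) * z23 ^ 81 + (1) * z23 ^ 84 + (-1) * z23 ^ 85 + (-1) * z23 ^ 87 + (1) * z23 ^ 89 + (1) * z23 ^ 90 + (1) * z23 ^ 91 + (-5) * z23 ^ 92 + (5) * z23 ^ 93 + (-1) * z23 ^ 95 + (1) * z23 ^ 97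 + (-1) * z23 ^ 98 + (-1) * z23 ^ 105 + (1) * z23 ^ 106 + (-1) * z23 ^ 108 + (-1) * z23 ^ 110 + (1) * z23 ^ 112 + (1) * z23 ^ 113 + (1) * z23 ^ 114 + (-5) * z23 ^ 115 + (5) * z23 ^ 116 + (-1) * z23 ^ 118 + (1) * z23 ^ 120 + (-1) * z23 ^ 121 + (-1) * z23 ^ 128 + (1) * z23 ^ 129 + (-1) * z23 ^ 131 + (1) * z23 ^ 135 + (1) * z23 ^ 136 + (-4) * z23 ^ 138 + (4) * z23 ^ 139 + (1) * z23 ^ 140 + (-1) * z23 ^ 141 + (-1) * z23 ^ 142 + (1) * z23 ^ 143 + (-1) * z23 ^ 146 + (1) * z23 ^ 148 + (-1) * z23 ^ 149 + (1) * z23 ^ 150 + (-2) * z23 ^ 151 + (1) * z23 ^ 152 + (-1) * z23 ^ 154 + (1) * z23 ^ 158 + (1) * z23 ^ 159 + (-4) * z23 ^ 161 + (4) * z23 ^ 162 + (1) * z23 ^ 163 + (-1) * z23 ^ 164 + (-1) * z23 ^ 165 + (1) * z23 ^ 166 + (-1) * z23 ^ 169 + (1) * z23 ^ 171 + (-1) * z23 ^ 172 + (1) * z23 ^ 173 + (-2) * z23 ^ 174 + (1) * z23 ^ 175 + (2) * z23 ^ 182 + (-1) * z23 ^ 183 + (-3) * z23 ^ 184 + (4) * z23 ^ 185 + (-1)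 * z23 ^ 187 + (1) * z23 ^ 189 + (-1) * z23 ^ 190 + (-1) * z23 ^ 193 + (2) * z23 ^ 194 + (-2) * z23 ^ 195 + (1) * z23 ^ 196 + (-2) * z23 ^ 197 + (1) * z23 ^ 198 + (1) * z23 ^ 199 + (-1) * z23 ^ 203 + (1) * z23 ^ 204 + (1) * z23 ^ 205 + (-3) * z23 ^ 207 + (3) * z23 ^ 208 + (-1) * z23 ^ 213 + (1) * z23 ^ 214 + (-1) * z23 ^ 215 + (1) * z23 ^ 217 + (-2) * z23 ^ 218 + (1) * z23 ^ 219 + (-2) * z23 ^ 220 + (1) * z23 ^ 221 + (1) * z23 ^ 222 + (-1) * z23 ^ 226 + (1) * z23 ^ 227 + (1) * z23 ^ 228 + (-3) * z23 ^ 230 + (3) * z23 ^ 231 + (-1) * z23 ^ 236 + (1) * z23 ^ 237 + (-1) * z23 ^ 238 + (1) * z23 ^ 240 + (-2) * z23 ^ 241 + (1) * z23 ^ 242 + (-2) * z23 ^ 243 + (1) * z23 ^ 244 + (1) * z23 ^ 245 + (-1) * z23 ^ 249 + (1) * z23 ^ 250 + (1) * z23 ^ 251 + (-3) * z23 ^ 253 + (3) * z23 ^ 254 + (-1) * z23 ^ 259 + (1) * z23 ^ 260 + (-1) * z23 ^ 261 + (1) * z23 ^ 263 + (-2) * z23 ^ 264 + (2) * z23 ^ 265 + (-2) * z23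 ^ 266 + (1) * z23 ^ 267 + (1) * z23 ^ 268 + (-1) * z23 ^ 269 + (1) * z23 ^ 270 + (-1) * z23 ^ 271 + (1) * z23 ^ 273 + (-2) * z23 ^ 276 + (3) * z23 ^ 277 + (-1) * z23 ^ 278 + (1) * z23 ^ 280 + (-1) * z23 ^ 281 + (-1) * z23 ^ 284 + (1) * z23 ^ 286 + (-1) * z23 ^ 287 + (2) * z23 ^ 288 + (-2) * z23 ^ 289 + (1) * z23 ^ 290 + (1) * z23 ^ 298 + (-2) * z23 ^ 299 + (2) * z23 ^ 300 + (-1) * z23 ^ 301 + (1) * z23 ^ 302 + (-1) * z23 ^ 305 + (-1) * z23 ^ 307 + (1) * z23 ^ 309 + (-1) * z23 ^ 310 + (2) * z23 ^ 311 + (-2) * z23 ^ 312 + (1) * z23 ^ 313 + (1) * z23 ^ 321 + (-2) * z23 ^ 322 + (2) * z23 ^ 323 + (-1) * z23 ^ 324 + (1) * z23 ^ 325 + (-1) * z23 ^ 328 + (-1) * z23 ^ 330 + (1) * z23 ^ 332 + (-1) * z23 ^ 333 + (2) * z23 ^ 334 + (-2) * z23 ^ 335 + (1) * z23 ^ 336 + (1) * z23 ^ 344 + (-2) * z23 ^ 345 + (2) * z23 ^ 346 + (-1) * z23 ^ 347 + (1) * z23 ^ 348 + (-1) * z23 ^ 351 + (1) * z23 ^ 355 + (-1) * z23 ^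 356 + (1) * z23 ^ 357 + (-1) * z23 ^ 358 + (1) * z23 ^ 360 + (-1) * z23 ^ 362 + (1) * z23 ^ 364 + (-1) * z23 ^ 366 + (1) * z23 ^ 367 + (-1) * z23 ^ 368 + (1) * z23 ^ 369 + (-1) * z23 ^ 374 + (1) * z23 ^ 378 + (-1) * z23 ^ 379 + (1) * z23 ^ 380 + (-1) * z23 ^ 381 + (1) * z23 ^ 383 + (-1) * z23 ^ 385 + (1) * z23 ^ 387 + (-1) * z23 ^ 389 + (1) * z23 ^ 390 + (-1) * z23 ^ 391 + (1) * z23 ^ 392) * z23_phi
theorem w23_int : IsIntegral ℤ w23 := by
  have hz : IsIntegral ℤ z23 := zr_integral (by norm_num)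
  unfold w23
  repeat' first | exact hz | apply IsIntegral.add | apply IsIntegral.pow
theorem w23_im : w23.im ≠ 0 := im_ne_of_trace_norm w23_trace w23_norm (by norm_num)

def X_h14 : Fin 26 → ℤ := ![17487360,1536,0,0,0,0,0,0,0,0,0,0,-3,0,0,0,0,0,0,-1,0,0,0,0,0,0]
def Y_h14 : Fin 26 → ℤ := ![0,0,0,0,0,0,0,0,0,0,0,3,-3,0,0,0,0,0,1,-1,0,0,0,0,0,0]
def U_h14 : Fin 14 → ℕ := ![1795248432537898728475572672376535,984818244535754528103549039458486304,12499172881671595586094423195824322,975717521721441147335300439664608576,23800461210942503436735383311818278,966625546463039054295557533883341376,6861288188496821495460935207431249,209853633642897457600798669314043392,6861288188496821495460935207431249,966625546463039054295557533883341376,23800461210942503436735383311818278,975717521721441147335300439664608576,12499172881671595586094423195824322,984818244535754528103549039458486304]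
def f_h14 : Fin 14 → Fin 26 := ![0,18,11,19,11,19,12,1,11,18,12,18,12,19]
def l_h14 : Fin 26 → List ℕ := ![[0],[7],[],[],[],[],[],[],[],[],[],[2,4,8],[6,10,12],[],[],[],[],[],[1,9,11],[3,5,13],[],[],[],[],[],[]]
theorem P_h14 : ∀ k : Fin 14, powOK [] (code 18) (k : ℕ) (U_h14 k) (code (f_h14 k)) = true := by
  decide +kernel
theorem O_h14 : orderOK (code 18) 14 = true := by decide +kernel
theorem hz_h14 : (z21 ^ 3) ^ 14 = 1 := by
  rw [← pow_mul]; linear_combination ((z21^21)^0+(z21^21)^1) * z21_pow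
theorem G_h14 : GVW T w7 X_h14 Y_h14 := by
  refine gen_cyc_list (T.r 18) 14 (order_eq T code hr hv (by norm_num) O_h14) f_h14
    (fun k => cl_pow T code hr hv hpre (P_h14 k)) (z21 ^ 3) hz_h14 w7 X_h14 Y_h14 l_h14
    (by decide +kernel) ?_
  intro i
  fin_cases i
  · show ((244823040 : ℕ) : ℂ) * ((([0] : List ℕ).map fun k => (z21 ^ 3) ^ k).sum) =
      ((14 : ℕ) : ℂ) * (((17487360 : ℤ) : ℂ) + ((0 : ℤ) : ℂ) * w7)
    simp only [List.map_cons, List.map_nil, List.sum_cons, List.sum_nil]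
    unfold w7
    push_cast
    linear_combination (0) * z21_phi
  · show ((21504 : ℕ) : ℂ) * ((([7] : List ℕ).map fun k => (z21 ^ 3) ^ k).sum) =
      ((14 : ℕ) : ℂ) * (((1536 : ℤ) : ℂ) + ((0 : ℤ) : ℂ) * w7)
    simp only [List.map_cons, List.map_nil, List.sum_cons, List.sum_nil]
    unfold w7
    push_cast
    linear_combination ((-21504) + (-21504) * z21 + (-21504) * z21 ^ 2 + (21504) * z21 ^ 7 + (21504) * z21 ^ 8 + (21504) * z21 ^ 9) * z21_phi
  · show ((7680 : ℕ) : ℂ) * ((([] : List ℕ).map fun k => (z21 ^ 3) ^ k).sum) =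
      ((14 : ℕ) : ℂ) * (((0 : ℤ) : ℂ) + ((0 : ℤ) : ℂ) * w7)
    simp only [List.map_cons, List.map_nil, List.sum_cons, List.sum_nil]
    unfold w7
    push_cast
    linear_combination (0) * z21_phi
  · show ((1080 : ℕ) : ℂ) * ((([] : List ℕ).map fun k => (z21 ^ 3) ^ k).sum) =
      ((14 : ℕ) : ℂ) * (((0 : ℤ) : ℂ) + ((0 : ℤ) : ℂ) * w7)
    simp only [List.map_cons, List.map_nil, List.sum_cons, List.sum_nil]
    unfold w7
    push_cast
    linear_combination (0) * z21_phi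
  · show ((504 : ℕ) : ℂ) * ((([] : List ℕ).map fun k => (z21 ^ 3) ^ k).sum) =
      ((14 : ℕ) : ℂ) * (((0 : ℤ) : ℂ) + ((0 : ℤ) : ℂ) * w7)
    simp only [List.map_cons, List.map_nil, List.sum_cons, List.sum_nil]
    unfold w7
    push_cast
    linear_combination (0) * z21_phi
  · show ((384 : ℕ) : ℂ) * ((([] : List ℕ).map fun k => (z21 ^ 3) ^ k).sum) =
      ((14 : ℕ) : ℂ) * (((0 : ℤ) : ℂ) + ((0 : ℤ) : ℂ) * w7)
    simp only [List.map_cons, List.map_nil, List.sum_cons, List.sum_nil]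
    unfold w7
    push_cast
    linear_combination (0) * z21_phi
  · show ((128 : ℕ) : ℂ) * ((([] : List ℕ).map fun k => (z21 ^ 3) ^ k).sum) =
      ((14 : ℕ) : ℂ) * (((0 : ℤ) : ℂ) + ((0 : ℤ) : ℂ) * w7)
    simp only [List.map_cons, List.map_nil, List.sum_cons, List.sum_nil]
    unfold w7
    push_cast
    linear_combination (0) * z21_phi
  · show ((96 : ℕ) : ℂ) * ((([] : List ℕ).map fun k => (z21 ^ 3) ^ k).sum) =
      ((14 : ℕ) : ℂ) * (((0 : ℤ) : ℂ) + ((0 : ℤ) : ℂ) * w7)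
    simp only [List.map_cons, List.map_nil, List.sum_cons, List.sum_nil]
    unfold w7
    push_cast
    linear_combination (0) * z21_phi
  · show ((60 : ℕ) : ℂ) * ((([] : List ℕ).map fun k => (z21 ^ 3) ^ k).sum) =
      ((14 : ℕ) : ℂ) * (((0 : ℤ) : ℂ) + ((0 : ℤ) : ℂ) * w7)
    simp only [List.map_cons, List.map_nil, List.sum_cons, List.sum_nil]
    unfold w7
    push_cast
    linear_combination (0) * z21_phi
  · show ((24 : ℕ) : ℂ) * ((([] : List ℕ).map fun k => (z21 ^ 3) ^ k).sum) =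
      ((14 : ℕ) : ℂ) * (((0 : ℤ) : ℂ) + ((0 : ℤ) : ℂ) * w7)
    simp only [List.map_cons, List.map_nil, List.sum_cons, List.sum_nil]
    unfold w7
    push_cast
    linear_combination (0) * z21_phi
  · show ((24 : ℕ) : ℂ) * ((([] : List ℕ).map fun k => (z21 ^ 3) ^ k).sum) =
      ((14 : ℕ) : ℂ) * (((0 : ℤ) : ℂ) + ((0 : ℤ) : ℂ) * w7)
    simp only [List.map_cons, List.map_nil, List.sum_cons, List.sum_nil]
    unfold w7
    push_cast
    linear_combination (0) * z21_phi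
  · show ((42 : ℕ) : ℂ) * ((([2,4,8] : List ℕ).map fun k => (z21 ^ 3) ^ k).sum) =
      ((14 : ℕ) : ℂ) * (((0 : ℤ) : ℂ) + ((3 : ℤ) : ℂ) * w7)
    simp only [List.map_cons, List.map_nil, List.sum_cons, List.sum_nil]
    unfold w7
    push_cast
    linear_combination ((-42) * z21 ^ 3 + (-42) * z21 ^ 4 + (-42) * z21 ^ 5 + (42) * z21 ^ 10 + (42) * z21 ^ 11 + (42) * z21 ^ 12) * z21_phi
  · show ((42 : ℕ) : ℂ) * ((([6,10,12] : List ℕ).map fun k => (z21 ^ 3) ^ k).sum) =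
      ((14 : ℕ) : ℂ) * (((-3 : ℤ) : ℂ) + ((-3 : ℤ) : ℂ) * w7)
    simp only [List.map_cons, List.map_nil, List.sum_cons, List.sum_nil]
    unfold w7
    push_cast
    linear_combination ((42) + (42) * z21 + (42) * z21 ^ 2 + (42) * z21 ^ 3 + (42) * z21 ^ 4 + (42) * z21 ^ 5 + (42) * z21 ^ 6 + (-42) * z21 ^ 9 + (-42) * z21 ^ 10 + (-42) * z21 ^ 11 + (-42) * z21 ^ 15 + (42) * z21 ^ 18 + (42) * z21 ^ 22 + (42) * z21 ^ 23 + (42) * z21 ^ 24) * z21_phi
  · show ((16 : ℕ) : ℂ) * ((([] : List ℕ).map fun k => (z21 ^ 3) ^ k).sum) =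
      ((14 : ℕ) : ℂ) * (((0 : ℤ) : ℂ) + ((0 : ℤ) : ℂ) * w7)
    simp only [List.map_cons, List.map_nil, List.sum_cons, List.sum_nil]
    unfold w7
    push_cast
    linear_combination (0) * z21_phi
  · show ((20 : ℕ) : ℂ) * ((([] : List ℕ).map fun k => (z21 ^ 3) ^ k).sum) =
      ((14 : ℕ) : ℂ) * (((0 : ℤ) : ℂ) + ((0 : ℤ) : ℂ) * w7)
    simp only [List.map_cons, List.map_nil, List.sum_cons, List.sum_nil]
    unfold w7
    push_cast
    linear_combination (0) * z21_phi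
  · show ((11 : ℕ) : ℂ) * ((([] : List ℕ).map fun k => (z21 ^ 3) ^ k).sum) =
      ((14 : ℕ) : ℂ) * (((0 : ℤ) : ℂ) + ((0 : ℤ) : ℂ) * w7)
    simp only [List.map_cons, List.map_nil, List.sum_cons, List.sum_nil]
    unfold w7
    push_cast
    linear_combination (0) * z21_phi
  · show ((12 : ℕ) : ℂ) * ((([] : List ℕ).map fun k => (z21 ^ 3) ^ k).sum) =
      ((14 : ℕ) : ℂ) * (((0 : ℤ) : ℂ) + ((0 : ℤ) : ℂ) * w7)
    simp only [List.map_cons, List.map_nil, List.sum_cons, List.sum_nil]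
    unfold w7
    push_cast
    linear_combination (0) * z21_phi
  · show ((12 : ℕ) : ℂ) * ((([] : List ℕ).map fun k => (z21 ^ 3) ^ k).sum) =
      ((14 : ℕ) : ℂ) * (((0 : ℤ) : ℂ) + ((0 : ℤ) : ℂ) * w7)
    simp only [List.map_cons, List.map_nil, List.sum_cons, List.sum_nil]
    unfold w7
    push_cast
    linear_combination (0) * z21_phi
  · show ((14 : ℕ) : ℂ) * ((([1,9,11] : List ℕ).map fun k => (z21 ^ 3) ^ k).sum) =
      ((14 : ℕ) : ℂ) * (((0 : ℤ) : ℂ) + ((1 : ℤ) : ℂ) * w7)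
    simp only [List.map_cons, List.map_nil, List.sum_cons, List.sum_nil]
    unfold w7
    push_cast
    linear_combination ((-14) * z21 ^ 6 + (-14) * z21 ^ 7 + (-14) * z21 ^ 8 + (-14) * z21 ^ 12 + (14) * z21 ^ 15 + (14) * z21 ^ 19 + (14) * z21 ^ 20 + (14) * z21 ^ 21) * z21_phi
  · show ((14 : ℕ) : ℂ) * ((([3,5,13] : List ℕ).map fun k => (z21 ^ 3) ^ k).sum) =
      ((14 : ℕ) : ℂ) * (((-1 : ℤ) : ℂ) + ((-1 : ℤ) : ℂ) * w7)
    simp only [List.map_cons, List.map_nil, List.sum_cons, List.sum_nil]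
    unfold w7
    push_cast
    linear_combination ((14) + (14) * z21 + (14) * z21 ^ 2 + (14) * z21 ^ 3 + (14) * z21 ^ 4 + (14) * z21 ^ 5 + (14) * z21 ^ 6 + (-14) * z21 ^ 18 + (-14) * z21 ^ 19 + (-14) * z21 ^ 20 + (14) * z21 ^ 25 + (14) * z21 ^ 26 + (14) * z21 ^ 27) * z21_phi
  · show ((15 : ℕ) : ℂ) * ((([] : List ℕ).map fun k => (z21 ^ 3) ^ k).sum) =
      ((14 : ℕ) : ℂ) * (((0 : ℤ) : ℂ) + ((0 : ℤ) : ℂ) * w7)
    simp only [List.map_cons, List.map_nil, List.sum_cons, List.sum_nil]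
    unfold w7
    push_cast
    linear_combination (0) * z21_phi
  · show ((15 : ℕ) : ℂ) * ((([] : List ℕ).map fun k => (z21 ^ 3) ^ k).sum) =
      ((14 : ℕ) : ℂ) * (((0 : ℤ) : ℂ) + ((0 : ℤ) : ℂ) * w7)
    simp only [List.map_cons, List.map_nil, List.sum_cons, List.sum_nil]
    unfold w7
    push_cast
    linear_combination (0) * z21_phi
  · show ((21 : ℕ) : ℂ) * ((([] : List ℕ).map fun k => (z21 ^ 3) ^ k).sum) =
      ((14 : ℕ) : ℂ) * (((0 : ℤ) : ℂ) + ((0 : ℤ) : ℂ) * w7)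
    simp only [List.map_cons, List.map_nil, List.sum_cons, List.sum_nil]
    unfold w7
    push_cast
    linear_combination (0) * z21_phi
  · show ((21 : ℕ) : ℂ) * ((([] : List ℕ).map fun k => (z21 ^ 3) ^ k).sum) =
      ((14 : ℕ) : ℂ) * (((0 : ℤ) : ℂ) + ((0 : ℤ) : ℂ) * w7)
    simp only [List.map_cons, List.map_nil, List.sum_cons, List.sum_nil]
    unfold w7
    push_cast
    linear_combination (0) * z21_phi
  · show ((23 : ℕ) : ℂ) * ((([] : List ℕ).map fun k => (z21 ^ 3) ^ k).sum) =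
      ((14 : ℕ) : ℂ) * (((0 : ℤ) : ℂ) + ((0 : ℤ) : ℂ) * w7)
    simp only [List.map_cons, List.map_nil, List.sum_cons, List.sum_nil]
    unfold w7
    push_cast
    linear_combination (0) * z21_phi
  · show ((23 : ℕ) : ℂ) * ((([] : List ℕ).map fun k => (z21 ^ 3) ^ k).sum) =
      ((14 : ℕ) : ℂ) * (((0 : ℤ) : ℂ) + ((0 : ℤ) : ℂ) * w7)
    simp only [List.map_cons, List.map_nil, List.sum_cons, List.sum_nil]
    unfold w7
    push_cast
    linear_combination (0) * z21_phi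

def X_h21 : Fin 26 → ℤ := ![11658240,0,0,0,48,0,0,0,0,0,0,0,-2,0,0,0,0,0,0,0,0,0,0,-2,0,0]
def Y_h21 : Fin 26 → ℤ := ![0,0,0,0,0,0,0,0,0,0,0,2,-2,0,0,0,0,0,0,0,0,0,2,-2,0,0]
def U_h21 : Fin 21 → ℕ := ![1795248432537898728475572672376535,6949525023914414824770556462107713,22515240258250304073512728352046594,29234226816073317242672367470514376,18622130989843958554113863704056112,30313830910314799330992491336875350,20836949008059353502390273250168198,6981800530619590913124241389009511,26428239968217938036087067501727433,2217335509787979542960210509511948,17349405602367530574857375545626666,17349405602367530574857375545626666,2217335509787979542960210509511948,26428239968217938036087067501727433,22208013790404176841085766155524339,20836949008059353502390273250168198,30313830910314799330992491336875350,18622130989843958554113863704056112,29234226816073317242672367470514376,22515240258250304073512728352046594,6949525023914414824770556462107713]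
def f_h21 : Fin 21 → Fin 26 := ![0,22,22,12,22,23,12,4,22,11,23,22,12,23,4,11,22,23,11,23,23]
def l_h21 : Fin 26 → List ℕ := ![[0],[],[],[],[7,14],[],[],[],[],[],[],[9,15,18],[3,6,12],[],[],[],[],[],[],[],[],[],[1,2,4,8,11,16],[5,10,13,17,19,20],[],[]]
theorem P_h21 : ∀ k : Fin 21, powOK [] (code 22) (k : ℕ) (U_h21 k) (code (f_h21 k)) = true := by
  decide +kernel
theorem O_h21 : orderOK (code 22) 21 = true := by decide +kernel
theorem hz_h21 : (z21 ^ 3) ^ 21 = 1 := by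
  rw [← pow_mul]; linear_combination ((z21^21)^0+(z21^21)^1+(z21^21)^2) * z21_pow
theorem G_h21 : GVW T w7 X_h21 Y_h21 := by
  refine gen_cyc_list (T.r 22) 21 (order_eq T code hr hv (by norm_num) O_h21) f_h21
    (fun k => cl_pow T code hr hv hpre (P_h21 k)) (z21 ^ 3) hz_h21 w7 X_h21 Y_h21 l_h21
    (by decide +kernel) ?_
  intro i
  fin_cases i
  · show ((244823040 : ℕ) : ℂ) * ((([0] : List ℕ).map fun k => (z21 ^ 3) ^ k).sum) =
      ((21 : ℕ) : ℂ) * (((11658240 : ℤ) : ℂ) + ((0 : ℤ) : ℂ) * w7)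
    simp only [List.map_cons, List.map_nil, List.sum_cons, List.sum_nil]
    unfold w7
    push_cast
    linear_combination (0) * z21_phi
  · show ((21504 : ℕ) : ℂ) * ((([] : List ℕ).map fun k => (z21 ^ 3) ^ k).sum) =
      ((21 : ℕ) : ℂ) * (((0 : ℤ) : ℂ) + ((0 : ℤ) : ℂ) * w7)
    simp only [List.map_cons, List.map_nil, List.sum_cons, List.sum_nil]
    unfold w7
    push_cast
    linear_combination (0) * z21_phi
  · show ((7680 : ℕ) : ℂ) * ((([] : List ℕ).map fun k => (z21 ^ 3) ^ k).sum) =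
      ((21 : ℕ) : ℂ) * (((0 : ℤ) : ℂ) + ((0 : ℤ) : ℂ) * w7)
    simp only [List.map_cons, List.map_nil, List.sum_cons, List.sum_nil]
    unfold w7
    push_cast
    linear_combination (0) * z21_phi
  · show ((1080 : ℕ) : ℂ) * ((([] : List ℕ).map fun k => (z21 ^ 3) ^ k).sum) =
      ((21 : ℕ) : ℂ) * (((0 : ℤ) : ℂ) + ((0 : ℤ) : ℂ) * w7)
    simp only [List.map_cons, List.map_nil, List.sum_cons, List.sum_nil]
    unfold w7
    push_cast
    linear_combination (0) * z21_phi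
  · show ((504 : ℕ) : ℂ) * ((([7,14] : List ℕ).map fun k => (z21 ^ 3) ^ k).sum) =
      ((21 : ℕ) : ℂ) * (((48 : ℤ) : ℂ) + ((0 : ℤ) : ℂ) * w7)
    simp only [List.map_cons, List.map_nil, List.sum_cons, List.sum_nil]
    unfold w7
    push_cast
    linear_combination ((-1008) + (-1008) * z21 + (-1008) * z21 ^ 2 + (1008) * z21 ^ 7 + (1008) * z21 ^ 8 + (1008) * z21 ^ 9 + (-504) * z21 ^ 21 + (-504) * z21 ^ 22 + (-504) * z21 ^ 23 + (504) * z21 ^ 28 + (504) * z21 ^ 29 + (504) * z21 ^ 30) * z21_phi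
  · show ((384 : ℕ) : ℂ) * ((([] : List ℕ).map fun k => (z21 ^ 3) ^ k).sum) =
      ((21 : ℕ) : ℂ) * (((0 : ℤ) : ℂ) + ((0 : ℤ) : ℂ) * w7)
    simp only [List.map_cons, List.map_nil, List.sum_cons, List.sum_nil]
    unfold w7
    push_cast
    linear_combination (0) * z21_phi
  · show ((128 : ℕ) : ℂ) * ((([] : List ℕ).map fun k => (z21 ^ 3) ^ k).sum) =
      ((21 : ℕ) : ℂ) * (((0 : ℤ) : ℂ) + ((0 : ℤ) : ℂ) * w7)
    simp only [List.map_cons, List.map_nil, List.sum_cons, List.sum_nil]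
    unfold w7
    push_cast
    linear_combination (0) * z21_phi
  · show ((96 : ℕ) : ℂ) * ((([] : List ℕ).map fun k => (z21 ^ 3) ^ k).sum) =
      ((21 : ℕ) : ℂ) * (((0 : ℤ) : ℂ) + ((0 : ℤ) : ℂ) * w7)
    simp only [List.map_cons, List.map_nil, List.sum_cons, List.sum_nil]
    unfold w7
    push_cast
    linear_combination (0) * z21_phi
  · show ((60 : ℕ) : ℂ) * ((([] : List ℕ).map fun k => (z21 ^ 3) ^ k).sum) =
      ((21 : ℕ) : ℂ) * (((0 : ℤ) : ℂ) + ((0 : ℤ) : ℂ) * w7)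
    simp only [List.map_cons, List.map_nil, List.sum_cons, List.sum_nil]
    unfold w7
    push_cast
    linear_combination (0) * z21_phi
  · show ((24 : ℕ) : ℂ) * ((([] : List ℕ).map fun k => (z21 ^ 3) ^ k).sum) =
      ((21 : ℕ) : ℂ) * (((0 : ℤ) : ℂ) + ((0 : ℤ) : ℂ) * w7)
    simp only [List.map_cons, List.map_nil, List.sum_cons, List.sum_nil]
    unfold w7
    push_cast
    linear_combination (0) * z21_phi
  · show ((24 : ℕ) : ℂ) * ((([] : List ℕ).map fun k => (z21 ^ 3) ^ k).sum) =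
      ((21 : ℕ) : ℂ) * (((0 : ℤ) : ℂ) + ((0 : ℤ) : ℂ) * w7)
    simp only [List.map_cons, List.map_nil, List.sum_cons, List.sum_nil]
    unfold w7
    push_cast
    linear_combination (0) * z21_phi
  · show ((42 : ℕ) : ℂ) * ((([9,15,18] : List ℕ).map fun k => (z21 ^ 3) ^ k).sum) =
      ((21 : ℕ) : ℂ) * (((0 : ℤ) : ℂ) + ((2 : ℤ) : ℂ) * w7)
    simp only [List.map_cons, List.map_nil, List.sum_cons, List.sum_nil]
    unfold w7
    push_cast
    linear_combination ((-42) * z21 ^ 3 + (-42) * z21 ^ 4 + (-42) * z21 ^ 5 + (-42) * z21 ^ 6 + (-42) * z21 ^ 7 + (-42) * z21 ^ 8 + (42) * z21 ^ 10 + (42) * z21 ^ 11 + (42) * z21 ^ 15 + (42) * z21 ^ 19 + (42) * z21 ^ 20 + (42) * z21 ^ 21 + (-42) * z21 ^ 24 + (-42) * z21 ^ 25 + (-42) * z21 ^ 26 + (42) * z21 ^ 31 + (42) * z21 ^ 32 + (-42) * z21 ^ 34 + (-42) * z21 ^ 35 + (42) * z21 ^ 40 + (42) * z21 ^ 41 + (42) * z21 ^ 42) * z21_phi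
  · show ((42 : ℕ) : ℂ) * ((([3,6,12] : List ℕ).map fun k => (z21 ^ 3) ^ k).sum) =
      ((21 : ℕ) : ℂ) * (((-2 : ℤ) : ℂ) + ((-2 : ℤ) : ℂ) * w7)
    simp only [List.map_cons, List.map_nil, List.sum_cons, List.sum_nil]
    unfold w7
    push_cast
    linear_combination ((42) + (42) * z21 + (42) * z21 ^ 2 + (42) * z21 ^ 3 + (42) * z21 ^ 4 + (42) * z21 ^ 5 + (42) * z21 ^ 6 + (-42) * z21 ^ 15 + (-42) * z21 ^ 16 + (-42) * z21 ^ 17 + (42) * z21 ^ 22 + (42) * z21 ^ 23 + (42) * z21 ^ 24) * z21_phi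
  · show ((16 : ℕ) : ℂ) * ((([] : List ℕ).map fun k => (z21 ^ 3) ^ k).sum) =
      ((21 : ℕ) : ℂ) * (((0 : ℤ) : ℂ) + ((0 : ℤ) : ℂ) * w7)
    simp only [List.map_cons, List.map_nil, List.sum_cons, List.sum_nil]
    unfold w7
    push_cast
    linear_combination (0) * z21_phi
  · show ((20 : ℕ) : ℂ) * ((([] : List ℕ).map fun k => (z21 ^ 3) ^ k).sum) =
      ((21 : ℕ) : ℂ) * (((0 : ℤ) : ℂ) + ((0 : ℤ) : ℂ) * w7)
    simp only [List.map_cons, List.map_nil, List.sum_cons, List.sum_nil]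
    unfold w7
    push_cast
    linear_combination (0) * z21_phi
  · show ((11 : ℕ) : ℂ) * ((([] : List ℕ).map fun k => (z21 ^ 3) ^ k).sum) =
      ((21 : ℕ) : ℂ) * (((0 : ℤ) : ℂ) + ((0 : ℤ) : ℂ) * w7)
    simp only [List.map_cons, List.map_nil, List.sum_cons, List.sum_nil]
    unfold w7
    push_cast
    linear_combination (0) * z21_phi
  · show ((12 : ℕ) : ℂ) * ((([] : List ℕ).map fun k => (z21 ^ 3) ^ k).sum) =
      ((21 : ℕ) : ℂ) * (((0 : ℤ) : ℂ) + ((0 : ℤ) : ℂ) * w7)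
    simp only [List.map_cons, List.map_nil, List.sum_cons, List.sum_nil]
    unfold w7
    push_cast
    linear_combination (0) * z21_phi
  · show ((12 : ℕ) : ℂ) * ((([] : List ℕ).map fun k => (z21 ^ 3) ^ k).sum) =
      ((21 : ℕ) : ℂ) * (((0 : ℤ) : ℂ) + ((0 : ℤ) : ℂ) * w7)
    simp only [List.map_cons, List.map_nil, List.sum_cons, List.sum_nil]
    unfold w7
    push_cast
    linear_combination (0) * z21_phi
  · show ((14 : ℕ) : ℂ) * ((([] : List ℕ).map fun k => (z21 ^ 3) ^ k).sum) =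
      ((21 : ℕ) : ℂ) * (((0 : ℤ) : ℂ) + ((0 : ℤ) : ℂ) * w7)
    simp only [List.map_cons, List.map_nil, List.sum_cons, List.sum_nil]
    unfold w7
    push_cast
    linear_combination (0) * z21_phi
  · show ((14 : ℕ) : ℂ) * ((([] : List ℕ).map fun k => (z21 ^ 3) ^ k).sum) =
      ((21 : ℕ) : ℂ) * (((0 : ℤ) : ℂ) + ((0 : ℤ) : ℂ) * w7)
    simp only [List.map_cons, List.map_nil, List.sum_cons, List.sum_nil]
    unfold w7
    push_cast
    linear_combination (0) * z21_phi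
  · show ((15 : ℕ) : ℂ) * ((([] : List ℕ).map fun k => (z21 ^ 3) ^ k).sum) =
      ((21 : ℕ) : ℂ) * (((0 : ℤ) : ℂ) + ((0 : ℤ) : ℂ) * w7)
    simp only [List.map_cons, List.map_nil, List.sum_cons, List.sum_nil]
    unfold w7
    push_cast
    linear_combination (0) * z21_phi
  · show ((15 : ℕ) : ℂ) * ((([] : List ℕ).map fun k => (z21 ^ 3) ^ k).sum) =
      ((21 : ℕ) : ℂ) * (((0 : ℤ) : ℂ) + ((0 : ℤ) : ℂ) * w7)
    simp only [List.map_cons, List.map_nil, List.sum_cons, List.sum_nil]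
    unfold w7
    push_cast
    linear_combination (0) * z21_phi
  · show ((21 : ℕ) : ℂ) * ((([1,2,4,8,11,16] : List ℕ).map fun k => (z21 ^ 3) ^ k).sum) =
      ((21 : ℕ) : ℂ) * (((0 : ℤ) : ℂ) + ((2 : ℤ) : ℂ) * w7)
    simp only [List.map_cons, List.map_nil, List.sum_cons, List.sum_nil]
    unfold w7
    push_cast
    linear_combination ((-21) * z21 ^ 3 + (-21) * z21 ^ 4 + (-21) * z21 ^ 5 + (-21) * z21 ^ 6 + (-21) * z21 ^ 7 + (-21) * z21 ^ 8 + (21) * z21 ^ 10 + (21) * z21 ^ 11 + (21) * z21 ^ 15 + (21) * z21 ^ 19 + (21) * z21 ^ 20 + (21) * z21 ^ 21 + (-21) * z21 ^ 27 + (-21) * z21 ^ 28 + (-21) * z21 ^ 29 + (21) * z21 ^ 34 + (21) * z21 ^ 35 + (21) * z21 ^ 36) * z21_phi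
  · show ((21 : ℕ) : ℂ) * ((([5,10,13,17,19,20] : List ℕ).map fun k => (z21 ^ 3) ^ k).sum) =
      ((21 : ℕ) : ℂ) * (((-2 : ℤ) : ℂ) + ((-2 : ℤ) : ℂ) * w7)
    simp only [List.map_cons, List.map_nil, List.sum_cons, List.sum_nil]
    unfold w7
    push_cast
    linear_combination ((42) + (42) * z21 + (42) * z21 ^ 2 + (42) * z21 ^ 3 + (42) * z21 ^ 4 + (42) * z21 ^ 5 + (42) * z21 ^ 6 + (-42) * z21 ^ 9 + (-42) * z21 ^ 10 + (-42) * z21 ^ 11 + (-21) * z21 ^ 15 + (21) * z21 ^ 16 + (21) * z21 ^ 17 + (-42) * z21 ^ 19 + (-42) * z21 ^ 20 + (21) * z21 ^ 22 + (21) * z21 ^ 23 + (21) * z21 ^ 24 + (42) * z21 ^ 25 + (42) * z21 ^ 26 + (42) * z21 ^ 27 + (-21) * z21 ^ 30 + (-21) * z21 ^ 31 + (-21) * z21 ^ 32 + (-21) * z21 ^ 36 + (-21) * z21 ^ 40 + (-21) * z21 ^ 41 + (21) * z21 ^ 43 + (21) * z21 ^ 44 + (21) * z21 ^ 45 + (21) * z21 ^ 46 + (21) * z21 ^ 47 + (21) * z21 ^ 48) * z21_phi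
  · show ((23 : ℕ) : ℂ) * ((([] : List ℕ).map fun k => (z21 ^ 3) ^ k).sum) =
      ((21 : ℕ) : ℂ) * (((0 : ℤ) : ℂ) + ((0 : ℤ) : ℂ) * w7)
    simp only [List.map_cons, List.map_nil, List.sum_cons, List.sum_nil]
    unfold w7
    push_cast
    linear_combination (0) * z21_phi
  · show ((23 : ℕ) : ℂ) * ((([] : List ℕ).map fun k => (z21 ^ 3) ^ k).sum) =
      ((21 : ℕ) : ℂ) * (((0 : ℤ) : ℂ) + ((0 : ℤ) : ℂ) * w7)
    simp only [List.map_cons, List.map_nil, List.sum_cons, List.sum_nil]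
    unfold w7
    push_cast
    linear_combination (0) * z21_phi

def X_h21b : Fin 26 → ℤ := ![11658240,0,0,0,-24,0,0,0,0,0,0,-2,0,0,0,0,0,0,0,0,0,0,1,0,0,0]
def Y_h21b : Fin 26 → ℤ := ![0,0,0,0,0,0,0,0,0,0,0,-2,2,0,0,0,0,0,0,0,0,0,1,-1,0,0]
def U_h21b : Fin 21 → ℕ := ![1795248432537898728475572672376535,6949525023914414824770556462107713,22515240258250304073512728352046594,29234226816073317242672367470514376,18622130989843958554113863704056112,30313830910314799330992491336875350,20836949008059353502390273250168198,6981800530619590913124241389009511,26428239968217938036087067501727433,2217335509787979542960210509511948,17349405602367530574857375545626666,17349405602367530574857375545626666,2217335509787979542960210509511948,26428239968217938036087067501727433,22208013790404176841085766155524339,20836949008059353502390273250168198,30313830910314799330992491336875350,18622130989843958554113863704056112,29234226816073317242672367470514376,22515240258250304073512728352046594,6949525023914414824770556462107713]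
def f_h21b : Fin 21 → Fin 26 := ![0,22,22,12,22,23,12,4,22,11,23,22,12,23,4,11,22,23,11,23,23]
def l_h21b : Fin 26 → List ℕ := ![[0],[],[],[],[7,14],[],[],[],[],[],[],[9,15,18],[3,6,12],[],[],[],[],[],[],[],[],[],[1,2,4,8,11,16],[5,10,13,17,19,20],[],[]]
theorem P_h21b : ∀ k : Fin 21, powOK [] (code 22) (k : ℕ) (U_h21b k) (code (f_h21b k)) = true := by
  decide +kernel
theorem O_h21b : orderOK (code 22) 21 = true := by decide +kernel
theorem hz_h21b : (z21) ^ 21 = 1 := by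
  exact z21_pow
theorem G_h21b : GVW T w7 X_h21b Y_h21b := by
  refine gen_cyc_list (T.r 22) 21 (order_eq T code hr hv (by norm_num) O_h21b) f_h21b
    (fun k => cl_pow T code hr hv hpre (P_h21b k)) (z21) hz_h21b w7 X_h21b Y_h21b l_h21b
    (by decide +kernel) ?_
  intro i
  fin_cases i
  · show ((244823040 : ℕ) : ℂ) * ((([0] : List ℕ).map fun k => (z21) ^ k).sum) =
      ((21 : ℕ) : ℂ) * (((11658240 : ℤ) : ℂ) + ((0 : ℤ) : ℂ) * w7)
    simp only [List.map_cons, List.map_nil, List.sum_cons, List.sum_nil]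
    unfold w7
    push_cast
    linear_combination (0) * z21_phi
  · show ((21504 : ℕ) : ℂ) * ((([] : List ℕ).map fun k => (z21) ^ k).sum) =
      ((21 : ℕ) : ℂ) * (((0 : ℤ) : ℂ) + ((0 : ℤ) : ℂ) * w7)
    simp only [List.map_cons, List.map_nil, List.sum_cons, List.sum_nil]
    unfold w7
    push_cast
    linear_combination (0) * z21_phi
  · show ((7680 : ℕ) : ℂ) * ((([] : List ℕ).map fun k => (z21) ^ k).sum) =
      ((21 : ℕ) : ℂ) * (((0 : ℤ) : ℂ) + ((0 : ℤ) : ℂ) * w7)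
    simp only [List.map_cons, List.map_nil, List.sum_cons, List.sum_nil]
    unfold w7
    push_cast
    linear_combination (0) * z21_phi
  · show ((1080 : ℕ) : ℂ) * ((([] : List ℕ).map fun k => (z21) ^ k).sum) =
      ((21 : ℕ) : ℂ) * (((0 : ℤ) : ℂ) + ((0 : ℤ) : ℂ) * w7)
    simp only [List.map_cons, List.map_nil, List.sum_cons, List.sum_nil]
    unfold w7
    push_cast
    linear_combination (0) * z21_phi
  · show ((504 : ℕ) : ℂ) * ((([7,14] : List ℕ).map fun k => (z21) ^ k).sum) =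
      ((21 : ℕ) : ℂ) * (((-24 : ℤ) : ℂ) + ((0 : ℤ) : ℂ) * w7)
    simp only [List.map_cons, List.map_nil, List.sum_cons, List.sum_nil]
    unfold w7
    push_cast
    linear_combination ((504) + (504) * z21 + (504) * z21 ^ 2) * z21_phi
  · show ((384 : ℕ) : ℂ) * ((([] : List ℕ).map fun k => (z21) ^ k).sum) =
      ((21 : ℕ) : ℂ) * (((0 : ℤ) : ℂ) + ((0 : ℤ) : ℂ) * w7)
    simp only [List.map_cons, List.map_nil, List.sum_cons, List.sum_nil]
    unfold w7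
    push_cast
    linear_combination (0) * z21_phi
  · show ((128 : ℕ) : ℂ) * ((([] : List ℕ).map fun k => (z21) ^ k).sum) =
      ((21 : ℕ) : ℂ) * (((0 : ℤ) : ℂ) + ((0 : ℤ) : ℂ) * w7)
    simp only [List.map_cons, List.map_nil, List.sum_cons, List.sum_nil]
    unfold w7
    push_cast
    linear_combination (0) * z21_phi
  · show ((96 : ℕ) : ℂ) * ((([] : List ℕ).map fun k => (z21) ^ k).sum) =
      ((21 : ℕ) : ℂ) * (((0 : ℤ) : ℂ) + ((0 : ℤ) : ℂ) * w7)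
    simp only [List.map_cons, List.map_nil, List.sum_cons, List.sum_nil]
    unfold w7
    push_cast
    linear_combination (0) * z21_phi
  · show ((60 : ℕ) : ℂ) * ((([] : List ℕ).map fun k => (z21) ^ k).sum) =
      ((21 : ℕ) : ℂ) * (((0 : ℤ) : ℂ) + ((0 : ℤ) : ℂ) * w7)
    simp only [List.map_cons, List.map_nil, List.sum_cons, List.sum_nil]
    unfold w7
    push_cast
    linear_combination (0) * z21_phi
  · show ((24 : ℕ) : ℂ) * ((([] : List ℕ).map fun k => (z21) ^ k).sum) =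
      ((21 : ℕ) : ℂ) * (((0 : ℤ) : ℂ) + ((0 : ℤ) : ℂ) * w7)
    simp only [List.map_cons, List.map_nil, List.sum_cons, List.sum_nil]
    unfold w7
    push_cast
    linear_combination (0) * z21_phi
  · show ((24 : ℕ) : ℂ) * ((([] : List ℕ).map fun k => (z21) ^ k).sum) =
      ((21 : ℕ) : ℂ) * (((0 : ℤ) : ℂ) + ((0 : ℤ) : ℂ) * w7)
    simp only [List.map_cons, List.map_nil, List.sum_cons, List.sum_nil]
    unfold w7
    push_cast
    linear_combination (0) * z21_phi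
  · show ((42 : ℕ) : ℂ) * ((([9,15,18] : List ℕ).map fun k => (z21) ^ k).sum) =
      ((21 : ℕ) : ℂ) * (((-2 : ℤ) : ℂ) + ((-2 : ℤ) : ℂ) * w7)
    simp only [List.map_cons, List.map_nil, List.sum_cons, List.sum_nil]
    unfold w7
    push_cast
    linear_combination ((42) + (42) * z21 + (42) * z21 ^ 2 + (42) * z21 ^ 3 + (42) * z21 ^ 4 + (42) * z21 ^ 5 + (42) * z21 ^ 6) * z21_phi
  · show ((42 : ℕ) : ℂ) * ((([3,6,12] : List ℕ).map fun k => (z21) ^ k).sum) =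
      ((21 : ℕ) : ℂ) * (((0 : ℤ) : ℂ) + ((2 : ℤ) : ℂ) * w7)
    simp only [List.map_cons, List.map_nil, List.sum_cons, List.sum_nil]
    unfold w7
    push_cast
    linear_combination (0) * z21_phi
  · show ((16 : ℕ) : ℂ) * ((([] : List ℕ).map fun k => (z21) ^ k).sum) =
      ((21 : ℕ) : ℂ) * (((0 : ℤ) : ℂ) + ((0 : ℤ) : ℂ) * w7)
    simp only [List.map_cons, List.map_nil, List.sum_cons, List.sum_nil]
    unfold w7
    push_cast
    linear_combination (0) * z21_phi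
  · show ((20 : ℕ) : ℂ) * ((([] : List ℕ).map fun k => (z21) ^ k).sum) =
      ((21 : ℕ) : ℂ) * (((0 : ℤ) : ℂ) + ((0 : ℤ) : ℂ) * w7)
    simp only [List.map_cons, List.map_nil, List.sum_cons, List.sum_nil]
    unfold w7
    push_cast
    linear_combination (0) * z21_phi
  · show ((11 : ℕ) : ℂ) * ((([] : List ℕ).map fun k => (z21) ^ k).sum) =
      ((21 : ℕ) : ℂ) * (((0 : ℤ) : ℂ) + ((0 : ℤ) : ℂ) * w7)
    simp only [List.map_cons, List.map_nil, List.sum_cons, List.sum_nil]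
    unfold w7
    push_cast
    linear_combination (0) * z21_phi
  · show ((12 : ℕ) : ℂ) * ((([] : List ℕ).map fun k => (z21) ^ k).sum) =
      ((21 : ℕ) : ℂ) * (((0 : ℤ) : ℂ) + ((0 : ℤ) : ℂ) * w7)
    simp only [List.map_cons, List.map_nil, List.sum_cons, List.sum_nil]
    unfold w7
    push_cast
    linear_combination (0) * z21_phi
  · show ((12 : ℕ) : ℂ) * ((([] : List ℕ).map fun k => (z21) ^ k).sum) =
      ((21 : ℕ) : ℂ) * (((0 : ℤ) : ℂ) + ((0 : ℤ) : ℂ) * w7)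
    simp only [List.map_cons, List.map_nil, List.sum_cons, List.sum_nil]
    unfold w7
    push_cast
    linear_combination (0) * z21_phi
  · show ((14 : ℕ) : ℂ) * ((([] : List ℕ).map fun k => (z21) ^ k).sum) =
      ((21 : ℕ) : ℂ) * (((0 : ℤ) : ℂ) + ((0 : ℤ) : ℂ) * w7)
    simp only [List.map_cons, List.map_nil, List.sum_cons, List.sum_nil]
    unfold w7
    push_cast
    linear_combination (0) * z21_phi
  · show ((14 : ℕ) : ℂ) * ((([] : List ℕ).map fun k => (z21) ^ k).sum) =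
      ((21 : ℕ) : ℂ) * (((0 : ℤ) : ℂ) + ((0 : ℤ) : ℂ) * w7)
    simp only [List.map_cons, List.map_nil, List.sum_cons, List.sum_nil]
    unfold w7
    push_cast
    linear_combination (0) * z21_phi
  · show ((15 : ℕ) : ℂ) * ((([] : List ℕ).map fun k => (z21) ^ k).sum) =
      ((21 : ℕ) : ℂ) * (((0 : ℤ) : ℂ) + ((0 : ℤ) : ℂ) * w7)
    simp only [List.map_cons, List.map_nil, List.sum_cons, List.sum_nil]
    unfold w7
    push_cast
    linear_combination (0) * z21_phi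
  · show ((15 : ℕ) : ℂ) * ((([] : List ℕ).map fun k => (z21) ^ k).sum) =
      ((21 : ℕ) : ℂ) * (((0 : ℤ) : ℂ) + ((0 : ℤ) : ℂ) * w7)
    simp only [List.map_cons, List.map_nil, List.sum_cons, List.sum_nil]
    unfold w7
    push_cast
    linear_combination (0) * z21_phi
  · show ((21 : ℕ) : ℂ) * ((([1,2,4,8,11,16] : List ℕ).map fun k => (z21) ^ k).sum) =
      ((21 : ℕ) : ℂ) * (((1 : ℤ) : ℂ) + ((1 : ℤ) : ℂ) * w7)
    simp only [List.map_cons, List.map_nil, List.sum_cons, List.sum_nil]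
    unfold w7
    push_cast
    linear_combination ((-21) + (21) * z21 ^ 2 + (21) * z21 ^ 3 + (21) * z21 ^ 4) * z21_phi
  · show ((21 : ℕ) : ℂ) * ((([5,10,13,17,19,20] : List ℕ).map fun k => (z21) ^ k).sum) =
      ((21 : ℕ) : ℂ) * (((0 : ℤ) : ℂ) + ((-1 : ℤ) : ℂ) * w7)
    simp only [List.map_cons, List.map_nil, List.sum_cons, List.sum_nil]
    unfold w7
    push_cast
    linear_combination ((21) * z21 ^ 3 + (21) * z21 ^ 4 + (42) * z21 ^ 5 + (42) * z21 ^ 6 + (42) * z21 ^ 7 + (21) * z21 ^ 8) * z21_phi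
  · show ((23 : ℕ) : ℂ) * ((([] : List ℕ).map fun k => (z21) ^ k).sum) =
      ((21 : ℕ) : ℂ) * (((0 : ℤ) : ℂ) + ((0 : ℤ) : ℂ) * w7)
    simp only [List.map_cons, List.map_nil, List.sum_cons, List.sum_nil]
    unfold w7
    push_cast
    linear_combination (0) * z21_phi
  · show ((23 : ℕ) : ℂ) * ((([] : List ℕ).map fun k => (z21) ^ k).sum) =
      ((21 : ℕ) : ℂ) * (((0 : ℤ) : ℂ) + ((0 : ℤ) : ℂ) * w7)
    simp only [List.map_cons, List.map_nil, List.sum_cons, List.sum_nil]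
    unfold w7
    push_cast
    linear_combination (0) * z21_phi

def X_h15 : Fin 26 → ℤ := ![16321536,0,0,-72,0,0,0,0,-4,0,0,0,0,0,0,0,0,0,0,0,0,1,0,0,0,0]
def Y_h15 : Fin 26 → ℤ := ![0,0,0,0,0,0,0,0,0,0,0,0,0,0,0,0,0,0,0,0,1,-1,0,0,0,0]
def U_h15 : Fin 15 → ℕ := ![1795248432537898728475572672376535,984818244535754528103549039458486304,965342087483231732469991502146382912,10752615586700427952548892416348355,984811787173512905694926555891315040,236624866963756752349185447131567671,10472671546175498249693417639644614,965345692525302301057927426051540352,965345692525302301057927426051540352,27928070559768334870992791634393188,224982893818040858328470694907729463,984811787173512905694926555891315040,23824979575737604779038334004598926,965342087483231732469991502146382912,984818244535754528103549039458486304]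
def f_h15 : Fin 15 → Fin 26 := ![0,20,20,8,20,3,8,21,20,8,3,21,8,21,21]
def l_h15 : Fin 26 → List ℕ := ![[0],[],[],[5,10],[],[],[],[],[3,6,9,12],[],[],[],[],[],[],[],[],[],[],[],[1,2,4,8],[7,11,13,14],[],[],[],[]]
theorem P_h15 : ∀ k : Fin 15, powOK [] (code 20) (k : ℕ) (U_h15 k) (code (f_h15 k)) = true := by
  decide +kernel
theorem O_h15 : orderOK (code 20) 15 = true := by decide +kernel
theorem hz_h15 : (z15) ^ 15 = 1 := by
  exact z15_pow
theorem G_h15 : GVW T w15 X_h15 Y_h15 := by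
  refine gen_cyc_list (T.r 20) 15 (order_eq T code hr hv (by norm_num) O_h15) f_h15
    (fun k => cl_pow T code hr hv hpre (P_h15 k)) (z15) hz_h15 w15 X_h15 Y_h15 l_h15
    (by decide +kernel) ?_
  intro i
  fin_cases i
  · show ((244823040 : ℕ) : ℂ) * ((([0] : List ℕ).map fun k => (z15) ^ k).sum) =
      ((15 : ℕ) : ℂ) * (((16321536 : ℤ) : ℂ) + ((0 : ℤ) : ℂ) * w15)
    simp only [List.map_cons, List.map_nil, List.sum_cons, List.sum_nil]
    unfold w15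
    push_cast
    linear_combination (0) * z15_phi
  · show ((21504 : ℕ) : ℂ) * ((([] : List ℕ).map fun k => (z15) ^ k).sum) =
      ((15 : ℕ) : ℂ) * (((0 : ℤ) : ℂ) + ((0 : ℤ) : ℂ) * w15)
    simp only [List.map_cons, List.map_nil, List.sum_cons, List.sum_nil]
    unfold w15
    push_cast
    linear_combination (0) * z15_phi
  · show ((7680 : ℕ) : ℂ) * ((([] : List ℕ).map fun k => (z15) ^ k).sum) =
      ((15 : ℕ) : ℂ) * (((0 : ℤ) : ℂ) + ((0 : ℤ) : ℂ) * w15)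
    simp only [List.map_cons, List.map_nil, List.sum_cons, List.sum_nil]
    unfold w15
    push_cast
    linear_combination (0) * z15_phi
  · show ((1080 : ℕ) : ℂ) * ((([5,10] : List ℕ).map fun k => (z15) ^ k).sum) =
      ((15 : ℕ) : ℂ) * (((-72 : ℤ) : ℂ) + ((0 : ℤ) : ℂ) * w15)
    simp only [List.map_cons, List.map_nil, List.sum_cons, List.sum_nil]
    unfold w15
    push_cast
    linear_combination ((1080) + (1080) * z15 + (1080) * z15 ^ 2) * z15_phi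
  · show ((504 : ℕ) : ℂ) * ((([] : List ℕ).map fun k => (z15) ^ k).sum) =
      ((15 : ℕ) : ℂ) * (((0 : ℤ) : ℂ) + ((0 : ℤ) : ℂ) * w15)
    simp only [List.map_cons, List.map_nil, List.sum_cons, List.sum_nil]
    unfold w15
    push_cast
    linear_combination (0) * z15_phi
  · show ((384 : ℕ) : ℂ) * ((([] : List ℕ).map fun k => (z15) ^ k).sum) =
      ((15 : ℕ) : ℂ) * (((0 : ℤ) : ℂ) + ((0 : ℤ) : ℂ) * w15)
    simp only [List.map_cons, List.map_nil, List.sum_cons, List.sum_nil]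
    unfold w15
    push_cast
    linear_combination (0) * z15_phi
  · show ((128 : ℕ) : ℂ) * ((([] : List ℕ).map fun k => (z15) ^ k).sum) =
      ((15 : ℕ) : ℂ) * (((0 : ℤ) : ℂ) + ((0 : ℤ) : ℂ) * w15)
    simp only [List.map_cons, List.map_nil, List.sum_cons, List.sum_nil]
    unfold w15
    push_cast
    linear_combination (0) * z15_phi
  · show ((96 : ℕ) : ℂ) * ((([] : List ℕ).map fun k => (z15) ^ k).sum) =
      ((15 : ℕ) : ℂ) * (((0 : ℤ) : ℂ) + ((0 : ℤ) : ℂ) * w15)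
    simp only [List.map_cons, List.map_nil, List.sum_cons, List.sum_nil]
    unfold w15
    push_cast
    linear_combination (0) * z15_phi
  · show ((60 : ℕ) : ℂ) * ((([3,6,9,12] : List ℕ).map fun k => (z15) ^ k).sum) =
      ((15 : ℕ) : ℂ) * (((-4 : ℤ) : ℂ) + ((0 : ℤ) : ℂ) * w15)
    simp only [List.map_cons, List.map_nil, List.sum_cons, List.sum_nil]
    unfold w15
    push_cast
    linear_combination ((60) + (60) * z15 + (60) * z15 ^ 2 + (60) * z15 ^ 3 + (60) * z15 ^ 4) * z15_phi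
  · show ((24 : ℕ) : ℂ) * ((([] : List ℕ).map fun k => (z15) ^ k).sum) =
      ((15 : ℕ) : ℂ) * (((0 : ℤ) : ℂ) + ((0 : ℤ) : ℂ) * w15)
    simp only [List.map_cons, List.map_nil, List.sum_cons, List.sum_nil]
    unfold w15
    push_cast
    linear_combination (0) * z15_phi
  · show ((24 : ℕ) : ℂ) * ((([] : List ℕ).map fun k => (z15) ^ k).sum) =
      ((15 : ℕ) : ℂ) * (((0 : ℤ) : ℂ) + ((0 : ℤ) : ℂ) * w15)
    simp only [List.map_cons, List.map_nil, List.sum_cons, List.sum_nil]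
    unfold w15
    push_cast
    linear_combination (0) * z15_phi
  · show ((42 : ℕ) : ℂ) * ((([] : List ℕ).map fun k => (z15) ^ k).sum) =
      ((15 : ℕ) : ℂ) * (((0 : ℤ) : ℂ) + ((0 : ℤ) : ℂ) * w15)
    simp only [List.map_cons, List.map_nil, List.sum_cons, List.sum_nil]
    unfold w15
    push_cast
    linear_combination (0) * z15_phi
  · show ((42 : ℕ) : ℂ) * ((([] : List ℕ).map fun k => (z15) ^ k).sum) =
      ((15 : ℕ) : ℂ) * (((0 : ℤ) : ℂ) + ((0 : ℤ) : ℂ) * w15)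
    simp only [List.map_cons, List.map_nil, List.sum_cons, List.sum_nil]
    unfold w15
    push_cast
    linear_combination (0) * z15_phi
  · show ((16 : ℕ) : ℂ) * ((([] : List ℕ).map fun k => (z15) ^ k).sum) =
      ((15 : ℕ) : ℂ) * (((0 : ℤ) : ℂ) + ((0 : ℤ) : ℂ) * w15)
    simp only [List.map_cons, List.map_nil, List.sum_cons, List.sum_nil]
    unfold w15
    push_cast
    linear_combination (0) * z15_phi
  · show ((20 : ℕ) : ℂ) * ((([] : List ℕ).map fun k => (z15) ^ k).sum) =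
      ((15 : ℕ) : ℂ) * (((0 : ℤ) : ℂ) + ((0 : ℤ) : ℂ) * w15)
    simp only [List.map_cons, List.map_nil, List.sum_cons, List.sum_nil]
    unfold w15
    push_cast
    linear_combination (0) * z15_phi
  · show ((11 : ℕ) : ℂ) * ((([] : List ℕ).map fun k => (z15) ^ k).sum) =
      ((15 : ℕ) : ℂ) * (((0 : ℤ) : ℂ) + ((0 : ℤ) : ℂ) * w15)
    simp only [List.map_cons, List.map_nil, List.sum_cons, List.sum_nil]
    unfold w15
    push_cast
    linear_combination (0) * z15_phi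
  · show ((12 : ℕ) : ℂ) * ((([] : List ℕ).map fun k => (z15) ^ k).sum) =
      ((15 : ℕ) : ℂ) * (((0 : ℤ) : ℂ) + ((0 : ℤ) : ℂ) * w15)
    simp only [List.map_cons, List.map_nil, List.sum_cons, List.sum_nil]
    unfold w15
    push_cast
    linear_combination (0) * z15_phi
  · show ((12 : ℕ) : ℂ) * ((([] : List ℕ).map fun k => (z15) ^ k).sum) =
      ((15 : ℕ) : ℂ) * (((0 : ℤ) : ℂ) + ((0 : ℤ) : ℂ) * w15)
    simp only [List.map_cons, List.map_nil, List.sum_cons, List.sum_nil]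
    unfold w15
    push_cast
    linear_combination (0) * z15_phi
  · show ((14 : ℕ) : ℂ) * ((([] : List ℕ).map fun k => (z15) ^ k).sum) =
      ((15 : ℕ) : ℂ) * (((0 : ℤ) : ℂ) + ((0 : ℤ) : ℂ) * w15)
    simp only [List.map_cons, List.map_nil, List.sum_cons, List.sum_nil]
    unfold w15
    push_cast
    linear_combination (0) * z15_phi
  · show ((14 : ℕ) : ℂ) * ((([] : List ℕ).map fun k => (z15) ^ k).sum) =
      ((15 : ℕ) : ℂ) * (((0 : ℤ) : ℂ) + ((0 : ℤ) : ℂ) * w15)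
    simp only [List.map_cons, List.map_nil, List.sum_cons, List.sum_nil]
    unfold w15
    push_cast
    linear_combination (0) * z15_phi
  · show ((15 : ℕ) : ℂ) * ((([1,2,4,8] : List ℕ).map fun k => (z15) ^ k).sum) =
      ((15 : ℕ) : ℂ) * (((0 : ℤ) : ℂ) + ((1 : ℤ) : ℂ) * w15)
    simp only [List.map_cons, List.map_nil, List.sum_cons, List.sum_nil]
    unfold w15
    push_cast
    linear_combination (0) * z15_phi
  · show ((15 : ℕ) : ℂ) * ((([7,11,13,14] : List ℕ).map fun k => (z15) ^ k).sum) =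
      ((15 : ℕ) : ℂ) * (((1 : ℤ) : ℂ) + ((-1 : ℤ) : ℂ) * w15)
    simp only [List.map_cons, List.map_nil, List.sum_cons, List.sum_nil]
    unfold w15
    push_cast
    linear_combination ((-15) + (15) * z15 ^ 2 + (30) * z15 ^ 3 + (30) * z15 ^ 4 + (30) * z15 ^ 5 + (15) * z15 ^ 6) * z15_phi
  · show ((21 : ℕ) : ℂ) * ((([] : List ℕ).map fun k => (z15) ^ k).sum) =
      ((15 : ℕ) : ℂ) * (((0 : ℤ) : ℂ) + ((0 : ℤ) : ℂ) * w15)
    simp only [List.map_cons, List.map_nil, List.sum_cons, List.sum_nil]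
    unfold w15
    push_cast
    linear_combination (0) * z15_phi
  · show ((21 : ℕ) : ℂ) * ((([] : List ℕ).map fun k => (z15) ^ k).sum) =
      ((15 : ℕ) : ℂ) * (((0 : ℤ) : ℂ) + ((0 : ℤ) : ℂ) * w15)
    simp only [List.map_cons, List.map_nil, List.sum_cons, List.sum_nil]
    unfold w15
    push_cast
    linear_combination (0) * z15_phi
  · show ((23 : ℕ) : ℂ) * ((([] : List ℕ).map fun k => (z15) ^ k).sum) =
      ((15 : ℕ) : ℂ) * (((0 : ℤ) : ℂ) + ((0 : ℤ) : ℂ) * w15)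
    simp only [List.map_cons, List.map_nil, List.sum_cons, List.sum_nil]
    unfold w15
    push_cast
    linear_combination (0) * z15_phi
  · show ((23 : ℕ) : ℂ) * ((([] : List ℕ).map fun k => (z15) ^ k).sum) =
      ((15 : ℕ) : ℂ) * (((0 : ℤ) : ℂ) + ((0 : ℤ) : ℂ) * w15)
    simp only [List.map_cons, List.map_nil, List.sum_cons, List.sum_nil]
    unfold w15
    push_cast
    linear_combination (0) * z15_phi

def X_h23 : Fin 26 → ℤ := ![10644480,0,0,0,0,0,0,0,0,0,0,0,0,0,0,0,0,0,0,0,0,0,0,0,0,-1]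
def Y_h23 : Fin 26 → ℤ := ![0,0,0,0,0,0,0,0,0,0,0,0,0,0,0,0,0,0,0,0,0,0,0,0,1,-1]
def U_h23 : Fin 23 → ℕ := ![1795248432537898728475572672376535,984818244535754528103549039458486304,983396598882469764448729548982833216,970154614548410926939253822099766368,978996981142525891300237566163472000,968895118418588754616246628576239904,971609924012510473383945381555246560,965170482019076083115118651711240320,963473146120159093940787999846470240,977865808579677427818605206841206208,972723028281635907158379534455278848,977047589292099626453711304390870176,977047589292099626453711304390870176,972723028281635907158379534455278848,977865808579677427818605206841206208,963473146120159093940787999846470240,965170482019076083115118651711240320,971609924012510473383945381555246560,968895118418588754616246628576239904,978996981142525891300237566163472000,970154614548410926939253822099766368,983396598882469764448729548982833216,984818244535754528103549039458486304]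
def f_h23 : Fin 23 → Fin 26 := ![0,24,24,24,24,25,24,25,24,24,25,25,24,24,25,25,24,25,24,25,25,25,25]
def l_h23 : Fin 26 → List ℕ := ![[0],[],[],[],[],[],[],[],[],[],[],[],[],[],[],[],[],[],[],[],[],[],[],[],[1,2,3,4,6,8,9,12,13,16,18],[5,7,10,11,14,15,17,19,20,21,22]]
theorem P_h23 : ∀ k : Fin 23, powOK [] (code 24) (k : ℕ) (U_h23 k) (code (f_h23 k)) = true := by
  decide +kernel
theorem O_h23 : orderOK (code 24) 23 = true := by decide +kernel
theorem hz_h23 : (z23) ^ 23 = 1 := by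
  exact z23_pow
theorem G_h23 : GVW T w23 X_h23 Y_h23 := by
  refine gen_cyc_list (T.r 24) 23 (order_eq T code hr hv (by norm_num) O_h23) f_h23
    (fun k => cl_pow T code hr hv hpre (P_h23 k)) (z23) hz_h23 w23 X_h23 Y_h23 l_h23
    (by decide +kernel) ?_
  intro i
  fin_cases i
  · show ((244823040 : ℕ) : ℂ) * ((([0] : List ℕ).map fun k => (z23) ^ k).sum) =
      ((23 : ℕ) : ℂ) * (((10644480 : ℤ) : ℂ) + ((0 : ℤ) : ℂ) * w23)
    simp only [List.map_cons, List.map_nil, List.sum_cons, List.sum_nil]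
    unfold w23
    push_cast
    linear_combination (0) * z23_phi
  · show ((21504 : ℕ) : ℂ) * ((([] : List ℕ).map fun k => (z23) ^ k).sum) =
      ((23 : ℕ) : ℂ) * (((0 : ℤ) : ℂ) + ((0 : ℤ) : ℂ) * w23)
    simp only [List.map_cons, List.map_nil, List.sum_cons, List.sum_nil]
    unfold w23
    push_cast
    linear_combination (0) * z23_phi
  · show ((7680 : ℕ) : ℂ) * ((([] : List ℕ).map fun k => (z23) ^ k).sum) =
      ((23 : ℕ) : ℂ) * (((0 : ℤ) : ℂ) + ((0 : ℤ) : ℂ) * w23)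
    simp only [List.map_cons, List.map_nil, List.sum_cons, List.sum_nil]
    unfold w23
    push_cast
    linear_combination (0) * z23_phi
  · show ((1080 : ℕ) : ℂ) * ((([] : List ℕ).map fun k => (z23) ^ k).sum) =
      ((23 : ℕ) : ℂ) * (((0 : ℤ) : ℂ) + ((0 : ℤ) : ℂ) * w23)
    simp only [List.map_cons, List.map_nil, List.sum_cons, List.sum_nil]
    unfold w23
    push_cast
    linear_combination (0) * z23_phi
  · show ((504 : ℕ) : ℂ) * ((([] : List ℕ).map fun k => (z23) ^ k).sum) =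
      ((23 : ℕ) : ℂ) * (((0 : ℤ) : ℂ) + ((0 : ℤ) : ℂ) * w23)
    simp only [List.map_cons, List.map_nil, List.sum_cons, List.sum_nil]
    unfold w23
    push_cast
    linear_combination (0) * z23_phi
  · show ((384 : ℕ) : ℂ) * ((([] : List ℕ).map fun k => (z23) ^ k).sum) =
      ((23 : ℕ) : ℂ) * (((0 : ℤ) : ℂ) + ((0 : ℤ) : ℂ) * w23)
    simp only [List.map_cons, List.map_nil, List.sum_cons, List.sum_nil]
    unfold w23
    push_cast
    linear_combination (0) * z23_phi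
  · show ((128 : ℕ) : ℂ) * ((([] : List ℕ).map fun k => (z23) ^ k).sum) =
      ((23 : ℕ) : ℂ) * (((0 : ℤ) : ℂ) + ((0 : ℤ) : ℂ) * w23)
    simp only [List.map_cons, List.map_nil, List.sum_cons, List.sum_nil]
    unfold w23
    push_cast
    linear_combination (0) * z23_phi
  · show ((96 : ℕ) : ℂ) * ((([] : List ℕ).map fun k => (z23) ^ k).sum) =
      ((23 : ℕ) : ℂ) * (((0 : ℤ) : ℂ) + ((0 : ℤ) : ℂ) * w23)
    simp only [List.map_cons, List.map_nil, List.sum_cons, List.sum_nil]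
    unfold w23
    push_cast
    linear_combination (0) * z23_phi
  · show ((60 : ℕ) : ℂ) * ((([] : List ℕ).map fun k => (z23) ^ k).sum) =
      ((23 : ℕ) : ℂ) * (((0 : ℤ) : ℂ) + ((0 : ℤ) : ℂ) * w23)
    simp only [List.map_cons, List.map_nil, List.sum_cons, List.sum_nil]
    unfold w23
    push_cast
    linear_combination (0) * z23_phi
  · show ((24 : ℕ) : ℂ) * ((([] : List ℕ).map fun k => (z23) ^ k).sum) =
      ((23 : ℕ) : ℂ) * (((0 : ℤ) : ℂ) + ((0 : ℤ) : ℂ) * w23)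
    simp only [List.map_cons, List.map_nil, List.sum_cons, List.sum_nil]
    unfold w23
    push_cast
    linear_combination (0) * z23_phi
  · show ((24 : ℕ) : ℂ) * ((([] : List ℕ).map fun k => (z23) ^ k).sum) =
      ((23 : ℕ) : ℂ) * (((0 : ℤ) : ℂ) + ((0 : ℤ) : ℂ) * w23)
    simp only [List.map_cons, List.map_nil, List.sum_cons, List.sum_nil]
    unfold w23
    push_cast
    linear_combination (0) * z23_phi
  · show ((42 : ℕ) : ℂ) * ((([] : List ℕ).map fun k => (z23) ^ k).sum) =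
      ((23 : ℕ) : ℂ) * (((0 : ℤ) : ℂ) + ((0 : ℤ) : ℂ) * w23)
    simp only [List.map_cons, List.map_nil, List.sum_cons, List.sum_nil]
    unfold w23
    push_cast
    linear_combination (0) * z23_phi
  · show ((42 : ℕ) : ℂ) * ((([] : List ℕ).map fun k => (z23) ^ k).sum) =
      ((23 : ℕ) : ℂ) * (((0 : ℤ) : ℂ) + ((0 : ℤ) : ℂ) * w23)
    simp only [List.map_cons, List.map_nil, List.sum_cons, List.sum_nil]
    unfold w23
    push_cast
    linear_combination (0) * z23_phi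
  · show ((16 : ℕ) : ℂ) * ((([] : List ℕ).map fun k => (z23) ^ k).sum) =
      ((23 : ℕ) : ℂ) * (((0 : ℤ) : ℂ) + ((0 : ℤ) : ℂ) * w23)
    simp only [List.map_cons, List.map_nil, List.sum_cons, List.sum_nil]
    unfold w23
    push_cast
    linear_combination (0) * z23_phi
  · show ((20 : ℕ) : ℂ) * ((([] : List ℕ).map fun k => (z23) ^ k).sum) =
      ((23 : ℕ) : ℂ) * (((0 : ℤ) : ℂ) + ((0 : ℤ) : ℂ) * w23)
    simp only [List.map_cons, List.map_nil, List.sum_cons, List.sum_nil]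
    unfold w23
    push_cast
    linear_combination (0) * z23_phi
  · show ((11 : ℕ) : ℂ) * ((([] : List ℕ).map fun k => (z23) ^ k).sum) =
      ((23 : ℕ) : ℂ) * (((0 : ℤ) : ℂ) + ((0 : ℤ) : ℂ) * w23)
    simp only [List.map_cons, List.map_nil, List.sum_cons, List.sum_nil]
    unfold w23
    push_cast
    linear_combination (0) * z23_phi
  · show ((12 : ℕ) : ℂ) * ((([] : List ℕ).map fun k => (z23) ^ k).sum) =
      ((23 : ℕ) : ℂ) * (((0 : ℤ) : ℂ) + ((0 : ℤ) : ℂ) * w23)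
    simp only [List.map_cons, List.map_nil, List.sum_cons, List.sum_nil]
    unfold w23
    push_cast
    linear_combination (0) * z23_phi
  · show ((12 : ℕ) : ℂ) * ((([] : List ℕ).map fun k => (z23) ^ k).sum) =
      ((23 : ℕ) : ℂ) * (((0 : ℤ) : ℂ) + ((0 : ℤ) : ℂ) * w23)
    simp only [List.map_cons, List.map_nil, List.sum_cons, List.sum_nil]
    unfold w23
    push_cast
    linear_combination (0) * z23_phi
  · show ((14 : ℕ) : ℂ) * ((([] : List ℕ).map fun k => (z23) ^ k).sum) =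
      ((23 : ℕ) : ℂ) * (((0 : ℤ) : ℂ) + ((0 : ℤ) : ℂ) * w23)
    simp only [List.map_cons, List.map_nil, List.sum_cons, List.sum_nil]
    unfold w23
    push_cast
    linear_combination (0) * z23_phi
  · show ((14 : ℕ) : ℂ) * ((([] : List ℕ).map fun k => (z23) ^ k).sum) =
      ((23 : ℕ) : ℂ) * (((0 : ℤ) : ℂ) + ((0 : ℤ) : ℂ) * w23)
    simp only [List.map_cons, List.map_nil, List.sum_cons, List.sum_nil]
    unfold w23
    push_cast
    linear_combination (0) * z23_phi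
  · show ((15 : ℕ) : ℂ) * ((([] : List ℕ).map fun k => (z23) ^ k).sum) =
      ((23 : ℕ) : ℂ) * (((0 : ℤ) : ℂ) + ((0 : ℤ) : ℂ) * w23)
    simp only [List.map_cons, List.map_nil, List.sum_cons, List.sum_nil]
    unfold w23
    push_cast
    linear_combination (0) * z23_phi
  · show ((15 : ℕ) : ℂ) * ((([] : List ℕ).map fun k => (z23) ^ k).sum) =
      ((23 : ℕ) : ℂ) * (((0 : ℤ) : ℂ) + ((0 : ℤ) : ℂ) * w23)
    simp only [List.map_cons, List.map_nil, List.sum_cons, List.sum_nil]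
    unfold w23
    push_cast
    linear_combination (0) * z23_phi
  · show ((21 : ℕ) : ℂ) * ((([] : List ℕ).map fun k => (z23) ^ k).sum) =
      ((23 : ℕ) : ℂ) * (((0 : ℤ) : ℂ) + ((0 : ℤ) : ℂ) * w23)
    simp only [List.map_cons, List.map_nil, List.sum_cons, List.sum_nil]
    unfold w23
    push_cast
    linear_combination (0) * z23_phi
  · show ((21 : ℕ) : ℂ) * ((([] : List ℕ).map fun k => (z23) ^ k).sum) =
      ((23 : ℕ) : ℂ) * (((0 : ℤ) : ℂ) + ((0 : ℤ) : ℂ) * w23)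
    simp only [List.map_cons, List.map_nil, List.sum_cons, List.sum_nil]
    unfold w23
    push_cast
    linear_combination (0) * z23_phi
  · show ((23 : ℕ) : ℂ) * ((([1,2,3,4,6,8,9,12,13,16,18] : List ℕ).map fun k => (z23) ^ k).sum) =
      ((23 : ℕ) : ℂ) * (((0 : ℤ) : ℂ) + ((1 : ℤ) : ℂ) * w23)
    simp only [List.map_cons, List.map_nil, List.sum_cons, List.sum_nil]
    unfold w23
    push_cast
    linear_combination (0) * z23_phi
  · show ((23 : ℕ) : ℂ) * ((([5,7,10,11,14,15,17,19,20,21,22] : List ℕ).map fun k => (z23) ^ k).sum) =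
      ((23 : ℕ) : ℂ) * (((-1 : ℤ) : ℂ) + ((-1 : ℤ) : ℂ) * w23)
    simp only [List.map_cons, List.map_nil, List.sum_cons, List.sum_nil]
    unfold w23
    push_cast
    linear_combination ((23)) * z23_phi

def X_x1035 : Fin 26 → ℤ := ![1035,-21,-5,0,-3,3,3,-1,0,0,1,-2,0,-1,0,1,0,-1,0,0,0,0,1,0,0,0]
def Y_x1035 : Fin 26 → ℤ := ![0,0,0,0,0,0,0,0,0,0,0,-2,2,0,0,0,0,0,0,0,0,0,1,-1,0,0]
theorem G_x1035 : GVW T w7 X_x1035 Y_x1035 :=
  (((((((((((((((((((((G_h21b.smul (1)).add ((G_K_e23.change : GVW T w7 _ _).smul (-1))).add ((G_K_e253.change : GVW T w7 _ _).smul (-12))).add ((G_K_e252.change : GVW T w7 _ _).smul (-12))).add ((G_K_e483.change : GVW T w7 _ _).smul (-23))).add ((G_K_e1265.change : GVW T w7 _ _).smul (-60))).add ((G_K_e1035.change : GVW T w7 _ _).smul (-49))).add ((G_K_e3520.change : GVW T w7 _ _).smul (-168))).add ((G_K_e1771.change : GVW T w7 _ _).smul (-84))).add ((G_K_e3312.change : GVW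 T w7 _ _).smul (-158))).add ((G_K_e2277.change : GVW T w7 _ _).smul (-108))).add ((G_K_e5796.change : GVW T w7 _ _).smul (-276))).add ((G_K_e2024.change : GVW T w7 _ _).smul (-96))).add ((G_K_e5313.change : GVW T w7 _ _).smul (-253))).add ((G_K_e10395.change : GVW T w7 _ _).smul (-495))).add ((G_K_e5544.change : GVW T w7 _ _).smul (-264))).add ((G_K_s462.change : GVW T w7 _ _).smul (-11))).add ((G_K_s1540.change : GVW T w7 _ _).smul (-37))).add ((G_K_s2070.change : GVW T w7 _ _).smul (-49))).add ((G_K_s90.change : GVW T w7 _ _).smul (-2))).add ((G_K_s1980.change : GVW T w7 _ _).smul (-47))).congr (by decide +kernel) (by decide +kernel)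

def X_x1035b : Fin 26 → ℤ := ![1035,-21,-5,0,-3,3,3,-1,0,0,1,0,-2,-1,0,1,0,-1,0,0,0,0,0,1,0,0]
def Y_x1035b : Fin 26 → ℤ := ![0,0,0,0,0,0,0,0,0,0,0,2,-2,0,0,0,0,0,0,0,0,0,-1,1,0,0]
theorem G_x1035b : GVW T w7 X_x1035b Y_x1035b :=
  (((G_K_s2070.change : GVW T w7 _ _).smul (1)).add (G_x1035.smul (-1))).congr (by decide +kernel) (by decide +kernel)

def X_x990 : Fin 26 → ℤ := ![990,-18,-10,0,3,6,2,-2,0,0,-1,0,-1,0,0,0,0,1,0,-1,0,0,0,-1,1,1]
def Y_x990 : Fin 26 → ℤ := ![0,0,0,0,0,0,0,0,0,0,0,1,-1,0,0,0,0,0,1,-1,0,0,1,-1,0,0]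
theorem G_x990 : GVW T w7 X_x990 Y_x990 :=
  ((((((((((((((((((((((G_h14.smul (1)).add ((G_K_e23.change : GVW T w7 _ _).smul (-2))).add ((G_K_e253.change : GVW T w7 _ _).smul (-19))).add ((G_K_e252.change : GVW T w7 _ _).smul (-20))).add ((G_K_e483.change : GVW T w7 _ _).smul (-37))).add ((G_K_e1265.change : GVW T w7 _ _).smul (-94))).add ((G_K_e1035.change : GVW T w7 _ _).smul (-76))).add ((G_K_e3520.change : GVW T w7 _ _).smul (-256))).add ((G_K_e1771.change : GVW T w7 _ _).smul (-125))).add ((G_K_e3312.change : GVW T w7 _ _).smul (-240))).add ((G_K_e2277.change : GVW T w7 _ _).smul (-164))).add ((G_K_e5796.change : GVW T w7 _ _).smul (-412))).add ((G_K_e2024.change : GVW T w7 _ _).smul (-145))).add ((G_K_e5313.change : GVW T w7 _ _).smul (-383))).add ((G_K_e10395.change : GVW T w7 _ _).smul (-741))).add ((G_K_e5544.change : GVW T w7 _ _).smul (-392))).add ((G_K_s462.change : GVW T w7 _ _).smul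 (-17))).add ((G_K_s1540.change : GVW T w7 _ _).smul (-54))).add ((G_K_s2070.change : GVW T w7 _ _).smul (-73))).add (G_x1035.smul (1))).add ((G_K_s90.change : GVW T w7 _ _).smul (-3))).add ((G_K_s1980.change : GVW T w7 _ _).smul (-69))).congr (by decide +kernel) (by decide +kernel)

def X_x990b : Fin 26 → ℤ := ![990,-18,-10,0,3,6,2,-2,0,0,-1,-1,0,0,0,0,0,1,-1,0,0,0,-1,0,1,1]
def Y_x990b : Fin 26 → ℤ := ![0,0,0,0,0,0,0,0,0,0,0,-1,1,0,0,0,0,0,-1,1,0,0,-1,1,0,0]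
theorem G_x990b : GVW T w7 X_x990b Y_x990b :=
  (((G_K_s1980.change : GVW T w7 _ _).smul (1)).add (G_x990.smul (-1))).congr (by decide +kernel) (by decide +kernel)

def X_x45 : Fin 26 → ℤ := ![45,-3,5,0,3,-3,1,1,0,0,-1,0,-1,-1,0,1,0,1,0,1,0,0,0,-1,-1,-1]
def Y_x45 : Fin 26 → ℤ := ![0,0,0,0,0,0,0,0,0,0,0,1,-1,0,0,0,0,0,-1,1,0,0,1,-1,0,0]
theorem G_x45 : GVW T w7 X_x45 Y_x45 :=
  ((((((((((((((((((((((G_h21.smul (1)).add ((G_K_e23.change : GVW T w7 _ _).smul (-1))).add ((G_K_e253.change : GVW T w7 _ _).smul (-12))).add ((G_K_e252.change : GVW T w7 _ _).smul (-12))).add ((G_K_e483.change : GVW T w7 _ _).smul (-23))).add ((G_K_e1265.change : GVW T w7 _ _).smul (-61))).add ((G_K_e1035.change : GVW T w7 _ _).smul (-50))).add ((G_K_e3520.change : GVW T w7 _ _).smul (-167))).add ((G_K_e1771.change : GVW T w7 _ _).smul (-85))).add ((G_K_e3312.change : GVW T w7 _ _).smul (-157))).add ((G_K_e2277.change :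 GVW T w7 _ _).smul (-109))).add ((G_K_e5796.change : GVW T w7 _ _).smul (-276))).add ((G_K_e2024.change : GVW T w7 _ _).smul (-97))).add ((G_K_e5313.change : GVW T w7 _ _).smul (-253))).add ((G_K_e10395.change : GVW T w7 _ _).smul (-495))).add ((G_K_e5544.change : GVW T w7 _ _).smul (-264))).add ((G_K_s462.change : GVW T w7 _ _).smul (-11))).add ((G_K_s1540.change : GVW T w7 _ _).smul (-36))).add ((G_K_s2070.change : GVW T w7 _ _).smul (-49))).add ((G_K_s90.change : GVW T w7 _ _).smul (-2))).add ((G_K_s1980.change : GVW T w7 _ _).smul (-47))).add (G_x990.smul (-1))).congr (by decide +kernel) (by decide +kernel)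

def X_x45b : Fin 26 → ℤ := ![45,-3,5,0,3,-3,1,1,0,0,-1,-1,0,-1,0,1,0,1,1,0,0,0,-1,0,-1,-1]
def Y_x45b : Fin 26 → ℤ := ![0,0,0,0,0,0,0,0,0,0,0,-1,1,0,0,0,0,0,1,-1,0,0,-1,1,0,0]
theorem G_x45b : GVW T w7 X_x45b Y_x45b :=
  (((G_K_s90.change : GVW T w7 _ _).smul (1)).add (G_x45.smul (-1))).congr (by decide +kernel) (by decide +kernel)

def X_x231 : Fin 26 → ℤ := ![231,7,-9,-3,0,-1,-1,3,1,1,0,0,0,-1,1,0,-1,0,0,0,-1,0,0,0,1,1]
def Y_x231 : Fin 26 → ℤ := ![0,0,0,0,0,0,0,0,0,0,0,0,0,0,0,0,0,0,0,0,1,-1,0,0,0,0]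
theorem G_x231 : GVW T w15 X_x231 Y_x231 :=
  (((((((((((((((((((((G_h15.smul (1)).add ((G_K_e23.change : GVW T w15 _ _).smul (-1))).add ((G_K_e253.change : GVW T w15 _ _).smul (-16))).add ((G_K_e252.change : GVW T w15 _ _).smul (-16))).add ((G_K_e483.change : GVW T w15 _ _).smul (-32))).add ((G_K_e1265.change : GVW T w15 _ _).smul (-84))).add ((G_K_e1035.change : GVW T w15 _ _).smul (-69))).add ((G_K_e3520.change : GVW T w15 _ _).smul (-234))).add ((G_K_e1771.change : GVW T w15 _ _).smul (-117))).add ((G_K_e3312.change : GVW T w15 _ _).smul (-221))).add ((G_K_e2277.change : GVW T w15 _ _).smul (-152))).add ((G_K_e5796.change : GVW T w15 _ _).smul (-387))).add ((G_K_e2024.change : GVW T w15 _ _).smul (-135))).add ((G_K_e5313.change : GVW T w15 _ _).smul (-355))).add ((G_K_e10395.change : GVW T w15 _ _).smul (-693))).add ((G_K_e5544.change : GVW T w15 _ _).smul (-369))).add ((G_K_s2070.change : GVW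 T w15 _ _).smul (-69))).add ((G_K_s90.change : GVW T w15 _ _).smul (-3))).add ((G_K_s1980.change : GVW T w15 _ _).smul (-66))).add ((G_K_s1540.change : GVW T w15 _ _).smul (-51))).add ((G_K_s462.change : GVW T w15 _ _).smul (-15))).congr (by decide +kernel) (by decide +kernel)

def X_x231b : Fin 26 → ℤ := ![231,7,-9,-3,0,-1,-1,3,1,1,0,0,0,-1,1,0,-1,0,0,0,0,-1,0,0,1,1]
def Y_x231b : Fin 26 → ℤ := ![0,0,0,0,0,0,0,0,0,0,0,0,0,0,0,0,0,0,0,0,-1,1,0,0,0,0]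
theorem G_x231b : GVW T w15 X_x231b Y_x231b :=
  (((G_K_s462.change : GVW T w15 _ _).smul (1)).add (G_x231.smul (-1))).congr (by decide +kernel) (by decide +kernel)

def X_x770 : Fin 26 → ℤ := ![770,-14,10,5,-7,2,-2,-2,0,1,1,0,0,0,0,0,-1,1,0,0,0,0,0,0,0,-1]
def Y_x770 : Fin 26 → ℤ := ![0,0,0,0,0,0,0,0,0,0,0,0,0,0,0,0,0,0,0,0,0,0,0,0,1,-1]
theorem G_x770 : GVW T w23 X_x770 Y_x770 :=
  (((((((((((((((((((((G_h23.smul (1)).add ((G_K_e23.change : GVW T w23 _ _).smul (-1))).add ((G_K_e253.change : GVW T w23 _ _).smul (-11))).add ((G_K_e252.change : GVW T w23 _ _).smul (-11))).add ((G_K_e483.change : GVW T w23 _ _).smul (-21))).add ((G_K_e1265.change : GVW T w23 _ _).smul (-55))).add ((G_K_e1035.change : GVW T w23 _ _).smul (-45))).add ((G_K_e3520.change : GVW T w23 _ _).smul (-153))).add ((G_K_e1771.change : GVW T w23 _ _).smul (-77))).add ((G_K_e3312.change : GVW T w23 _ _).smul (-144))).add ((G_K_e2277.change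 : GVW T w23 _ _).smul (-99))).add ((G_K_e5796.change : GVW T w23 _ _).smul (-252))).add ((G_K_e2024.change : GVW T w23 _ _).smul (-88))).add ((G_K_e5313.change : GVW T w23 _ _).smul (-231))).add ((G_K_e10395.change : GVW T w23 _ _).smul (-452))).add ((G_K_e5544.change : GVW T w23 _ _).smul (-241))).add ((G_K_s2070.change : GVW T w23 _ _).smul (-45))).add ((G_K_s90.change : GVW T w23 _ _).smul (-2))).add ((G_K_s1980.change : GVW T w23 _ _).smul (-43))).add ((G_K_s462.change : GVW T w23 _ _).smul (-10))).add ((G_K_s1540.change : GVW T w23 _ _).smul (-33))).congr (by decide +kernel) (by decide +kernel)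

def X_x770b : Fin 26 → ℤ := ![770,-14,10,5,-7,2,-2,-2,0,1,1,0,0,0,0,0,-1,1,0,0,0,0,0,0,-1,0]
def Y_x770b : Fin 26 → ℤ := ![0,0,0,0,0,0,0,0,0,0,0,0,0,0,0,0,0,0,0,0,0,0,0,0,-1,1]
theorem G_x770b : GVW T w23 X_x770b Y_x770b :=
  (((G_K_s1540.change : GVW T w23 _ _).smul (1)).add (G_x770.smul (-1))).congr (by decide +kernel) (by decide +kernel)

def Z0 : Fin 26 → ℤ := 0
def AA : Fin 26 → Fin 26 → ℤ := ![X_K_e1,X_K_e23,X_x45,X_x45b,X_x231,X_x231b,X_K_e252,X_K_e253,X_K_e483,X_x770,X_x770b,X_x990,X_x990b,X_K_e1035,X_x1035,X_x1035b,X_K_e1265,X_K_e1771,X_K_e2024,X_K_e2277,X_K_e3312,X_K_e3520,X_K_e5313,X_K_e5544,X_K_e5796,X_K_e10395]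
def BB : Fin 26 → Fin 26 → ℤ := ![Z0,Z0,Y_x45,Y_x45b,Y_x231,Y_x231b,Z0,Z0,Z0,Y_x770,Y_x770b,Y_x990,Y_x990b,Z0,Y_x1035,Y_x1035b,Z0,Z0,Z0,Z0,Z0,Z0,Z0,Z0,Z0,Z0]
def wi : Fin 26 → Fin 4 := ![0,0,1,1,2,2,0,0,0,3,3,1,1,0,1,1,0,0,0,0,0,0,0,0,0,0]
noncomputable def Wq : Fin 4 → ℂ := ![0, w7, w15, w23]
def tq : Fin 4 → ℤ := ![0, -1, 1, -1]
def Nq : Fin 4 → ℤ := ![0, 2, 4, 6]

theorem Wq_trace (q : Fin 4) : Wq q + conj (Wq q) = tq q := by
  fin_cases q
  · simp [Wq, tq]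
  · exact w7_trace
  · exact w15_trace
  · exact w23_trace

theorem Wq_norm (q : Fin 4) : Wq q * conj (Wq q) = Nq q := by
  fin_cases q
  · simp [Wq, Nq]
  · exact w7_norm
  · exact w15_norm
  · exact w23_norm

theorem Wq_int (q : Fin 4) : IsIntegral ℤ (Wq q) := by
  fin_cases q
  · exact isIntegral_zero
  · exact w7_int
  · exact w15_int
  · exact w23_int

theorem Wq_im (q : Fin 4) (h : q ≠ 0) : (Wq q).im ≠ 0 := by
  fin_cases q
  · exact absurd rfl h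
  · exact w7_im
  · exact w15_im
  · exact w23_im

theorem r_zero : T.r 0 = 1 := by
  apply Subtype.ext
  show decode (code 0) = 1
  rw [show code 0 = idC by decide +kernel]
  exact decode_idC

theorem norm_ok : ∀ j, ∑ i, ((cs i : ℕ) : ℤ) *
    (AA j i * AA j i + tq (wi j) * (AA j i * BB j i) + Nq (wi j) * (BB j i * BB j i)) = 244823040 := by
  decide +kernel

/-- The character table. -/
noncomputable def C : Chars T where
  A := AA
  B := BB
  W j := Wq (wi j)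
  t j := tq (wi j)
  N j := Nq (wi j)
  i0 := 0
  r_i0 := r_zero
  trace_W j := Wq_trace _
  norm_W j := Wq_norm _
  gen j := by
    fin_cases j
    · exact G_K_e1
    · exact G_K_e23
    · exact G_x45
    · exact G_x45b
    · exact G_x231
    · exact G_x231b
    · exact G_K_e252
    · exact G_K_e253
    · exact G_K_e483
    · exact G_x770
    · exact G_x770b
    · exact G_x990
    · exact G_x990b
    · exact G_K_e1035
    · exact G_x1035
    · exact G_x1035b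
    · exact G_K_e1265
    · exact G_K_e1771
    · exact G_K_e2024
    · exact G_K_e2277
    · exact G_K_e3312
    · exact G_K_e3520
    · exact G_K_e5313
    · exact G_K_e5544
    · exact G_K_e5796
    · exact G_K_e10395
  norm_eq j := by
    rw [card_G0]
    exact norm_ok j
  deg0 := by decide +kernel
  deg_pos := by decide +kernel
  sep := sep_of (fun _ => rfl) Wq_im (by decide +kernel)

def EE : Fin 26 → ℕ := ![0,0,0,0,0,0,2,0,0,1,1,1,1,0,0,0,0,0,3,0,4,6,0,3,2,0]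
def DD : Fin 26 → ℕ := ![1,23,45,45,231,231,63,253,483,385,385,495,495,1035,1035,1035,1265,1771,253,2277,207,55,5313,693,1449,10395]

theorem sameBlock {M : Ideal AlgInt} (hM : IsPModular 2 M)
    (χ ψ : IrrCharacter ↥(G [])) : SameBlock M (χ : ↥(G []) → ℂ) (ψ : ↥(G []) → ℂ) :=
  C.sameBlock_all hM (fun j => Wq_int _) EE DD (by decide +kernel) (by decide +kernel)
    (by decide +kernel) (by decide +kernel) χ ψ

end Cfsg.Agent.Lib.M24Chars
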