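import Mathlib
import Cfsg.Agent.Lib.M648Model
import Cfsg.Agent.Lib.GenChar
import Cfsg.Agent.Lib.CharInd

/-!
# Characters of the model group `3³:S₄`: all are induced from linear characters, or products
-/

set_option autoImplicit false
set_option maxRecDepth 100000

namespace Cfsg.Agent.Lib.M648Chars

open Cfsg Complex Cfsg.Agent.Lib.CharBasic Cfsg.Agent.Lib.CharInd Cfsg.Agent.Lib.GenChar
open Cfsg.Agent.Lib.M648Model
open scoped ComplexConjugate

/-- The real number `√3` as a complex number. -/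
noncomputable def sq3 : ℂ := ((Real.sqrt 3 : ℝ) : ℂ)

theorem sq3_sq : sq3 * sq3 = 3 := by
  unfold sq3
  rw [← Complex.ofReal_mul, Real.mul_self_sqrt (by norm_num)]
  norm_num

theorem conj_sq3 : conj sq3 = sq3 := Complex.conj_ofReal _

/-- A primitive twelfth root of unity. -/
noncomputable def zeta : ℂ := (sq3 + I) / 2

def Pa (k : Fin 12) : ℤ := [2, 0, 1, 0, -1, 0, -2, 0, -1, 0, 1, 0].getD k.1 0
def Pb (k : Fin 12) : ℤ := [0, 1, 0, 0, 0, -1, 0, -1, 0, 0, 0, 1].getD k.1 0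
def Qa (k : Fin 12) : ℤ := [0, 1, 0, 2, 0, 1, 0, -1, 0, -2, 0, -1].getD k.1 0
def Qb (k : Fin 12) : ℤ := [0, 0, 1, 0, 1, 0, 0, 0, -1, 0, -1, 0].getD k.1 0

/-- The values of the twelfth roots of unity. -/
noncomputable def zetaVal (k : Fin 12) : ℂ :=
  (((Pa k : ℤ) : ℂ) + ((Pb k : ℤ) : ℂ) * sq3 + (((Qa k : ℤ) : ℂ) + ((Qb k : ℤ) : ℂ) * sq3) * I) / 2

theorem zeta_p0 : zeta ^ 0 = (2 + 0 * sq3 + (0 + 0 * sq3) * I) / 2 := by
  norm_num
theorem zeta_p1 : zeta ^ 1 = (0 + 1 * sq3 + (1 + 0 * sq3) * I) / 2 := by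
  rw [pow_succ, zeta_p0]
  unfold zeta
  linear_combination ((0 : ℂ) + 0 * I) / 4 * sq3_sq + ((0 : ℂ) + 0 * sq3) / 4 * I_mul_I
theorem zeta_p2 : zeta ^ 2 = (1 + 0 * sq3 + (0 + 1 * sq3) * I) / 2 := by
  rw [pow_succ, zeta_p1]
  unfold zeta
  linear_combination ((1 : ℂ) + 0 * I) / 4 * sq3_sq + ((1 : ℂ) + 0 * sq3) / 4 * I_mul_I
theorem zeta_p3 : zeta ^ 3 = (0 + 0 * sq3 + (2 + 0 * sq3) * I) / 2 := by
  rw [pow_succ, zeta_p2]
  unfold zeta
  linear_combination ((0 : ℂ) + 1 * I) / 4 * sq3_sq + ((0 : ℂ) + 1 * sq3) / 4 * I_mul_I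
theorem zeta_p4 : zeta ^ 4 = ((-1) + 0 * sq3 + (0 + 1 * sq3) * I) / 2 := by
  rw [pow_succ, zeta_p3]
  unfold zeta
  linear_combination ((0 : ℂ) + 0 * I) / 4 * sq3_sq + ((2 : ℂ) + 0 * sq3) / 4 * I_mul_I
theorem zeta_p5 : zeta ^ 5 = (0 + (-1) * sq3 + (1 + 0 * sq3) * I) / 2 := by
  rw [pow_succ, zeta_p4]
  unfold zeta
  linear_combination ((0 : ℂ) + 1 * I) / 4 * sq3_sq + ((0 : ℂ) + 1 * sq3) / 4 * I_mul_I
theorem zeta_p6 : zeta ^ 6 = ((-2) + 0 * sq3 + (0 + 0 * sq3) * I) / 2 := by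
  rw [pow_succ, zeta_p5]
  unfold zeta
  linear_combination (((-1) : ℂ) + 0 * I) / 4 * sq3_sq + ((1 : ℂ) + 0 * sq3) / 4 * I_mul_I
theorem zeta_p7 : zeta ^ 7 = (0 + (-1) * sq3 + ((-1) + 0 * sq3) * I) / 2 := by
  rw [pow_succ, zeta_p6]
  unfold zeta
  linear_combination ((0 : ℂ) + 0 * I) / 4 * sq3_sq + ((0 : ℂ) + 0 * sq3) / 4 * I_mul_I
theorem zeta_p8 : zeta ^ 8 = ((-1) + 0 * sq3 + (0 + (-1) * sq3) * I) / 2 := by
  rw [pow_succ, zeta_p7]
  unfold zeta
  linear_combination (((-1) : ℂ) + 0 * I) / 4 * sq3_sq + (((-1) : ℂ) + 0 * sq3) / 4 * I_mul_I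
theorem zeta_p9 : zeta ^ 9 = (0 + 0 * sq3 + ((-2) + 0 * sq3) * I) / 2 := by
  rw [pow_succ, zeta_p8]
  unfold zeta
  linear_combination ((0 : ℂ) + (-1) * I) / 4 * sq3_sq + ((0 : ℂ) + (-1) * sq3) / 4 * I_mul_I
theorem zeta_p10 : zeta ^ 10 = (1 + 0 * sq3 + (0 + (-1) * sq3) * I) / 2 := by
  rw [pow_succ, zeta_p9]
  unfold zeta
  linear_combination ((0 : ℂ) + 0 * I) / 4 * sq3_sq + (((-2) : ℂ) + 0 * sq3) / 4 * I_mul_I
theorem zeta_p11 : zeta ^ 11 = (0 + 1 * sq3 + ((-1) + 0 * sq3) * I) / 2 := by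
  rw [pow_succ, zeta_p10]
  unfold zeta
  linear_combination ((0 : ℂ) + (-1) * I) / 4 * sq3_sq + ((0 : ℂ) + (-1) * sq3) / 4 * I_mul_I

theorem zeta_pow_val (k : Fin 12) : zeta ^ (k : ℕ) = zetaVal k := by
  fin_cases k
  · rw [zeta_p0]
    simp [zetaVal, Pa, Pb, Qa, Qb]
  · rw [zeta_p1]
    simp [zetaVal, Pa, Pb, Qa, Qb]
  · rw [zeta_p2]
    simp [zetaVal, Pa, Pb, Qa, Qb]
  · rw [zeta_p3]
    simp [zetaVal, Pa, Pb, Qa, Qb]
  · rw [zeta_p4]
    simp [zetaVal, Pa, Pb, Qa, Qb]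
  · rw [zeta_p5]
    simp [zetaVal, Pa, Pb, Qa, Qb]
  · rw [zeta_p6]
    simp [zetaVal, Pa, Pb, Qa, Qb]
  · rw [zeta_p7]
    simp [zetaVal, Pa, Pb, Qa, Qb]
  · rw [zeta_p8]
    simp [zetaVal, Pa, Pb, Qa, Qb]
  · rw [zeta_p9]
    simp [zetaVal, Pa, Pb, Qa, Qb]
  · rw [zeta_p10]
    simp [zetaVal, Pa, Pb, Qa, Qb]
  · rw [zeta_p11]
    simp [zetaVal, Pa, Pb, Qa, Qb]

theorem zeta_pow12 : zeta ^ 12 = 1 := by
  have h : zeta ^ 12 = zeta ^ 11 * zeta := pow_succ _ _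
  rw [h, zeta_p11]
  unfold zeta
  linear_combination (1 / 4 : ℂ) * sq3_sq - (1 / 4 : ℂ) * I_mul_I

theorem zeta_ne : zeta ≠ 0 := by
  intro h
  have := zeta_pow12
  rw [h] at this
  norm_num at this

/-- The root of unity as a unit. -/
noncomputable def zetaU : ℂˣ := Units.mk0 zeta zeta_ne

/-- The powers of `ζ`. -/
noncomputable def zv (k : Fin 12) : ℂˣ := zetaU ^ (k : ℕ)

theorem zetaU_pow12 : zetaU ^ 12 = 1 := by
  ext
  simpa [zetaU] using zeta_pow12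

theorem zv_add (k l : Fin 12) : zv (k + l) = zv k * zv l := by
  unfold zv
  rw [← pow_add, Fin.val_add]
  exact (pow_eq_pow_mod _ zetaU_pow12).symm

theorem zv_val (k : Fin 12) : ((zv k : ℂˣ) : ℂ) = zetaVal k := by
  rw [← zeta_pow_val]
  simp [zv, zetaU]

/-! ### Linear characters of subgroups -/

/-- Data of a linear character of a subgroup containing `J`, as tables. -/
structure LD where
  mask : ℕ
  ta : ℕ
  tb : ℕ

namespace LD

variable (d : LD)

def inS (A : Fin 24) : Bool := Nat.testBit d.mask A.1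
def aa (x : Fin 27) : Fin 12 :=
  ⟨Nat.mod (Nat.land (Nat.shiftRight d.ta (Nat.mul 4 x.1)) 15) 12, Nat.mod_lt _ (by norm_num)⟩
def bb (A : Fin 24) : Fin 12 :=
  ⟨Nat.mod (Nat.land (Nat.shiftRight d.tb (Nat.mul 4 A.1)) 15) 12, Nat.mod_lt _ (by norm_num)⟩
def code (w : M648) : Fin 12 := d.aa w.1 + d.bb w.2

/-- The table defines a homomorphism. -/
def Good : Prop :=
  d.inS 0 = true ∧ (∀ A B, d.inS A = true → d.inS B = true → d.inS (mulA A B) = true) ∧
  (∀ A, d.inS A = true → d.inS (invA A) = true) ∧ (∀ x y, d.aa (addJ x y) = d.aa x + d.aa y) ∧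
  (∀ A x, d.inS A = true → d.aa (actA A x) = d.aa x) ∧
  (∀ A B, d.inS A = true → d.inS B = true → d.bb (mulA A B) = d.bb A + d.bb B)

variable {d}

/-- The subgroup. -/
def S (h : d.Good) : Subgroup M648 where
  carrier := {w | d.inS w.2 = true}
  mul_mem' := fun {a b} ha hb => h.2.1 _ _ ha hb
  one_mem' := h.1
  inv_mem' := fun {a} ha => h.2.2.1 _ ha

theorem mem_S (h : d.Good) {w : M648} : w ∈ S h ↔ d.inS w.2 = true := Iff.rfl

theorem code_mul (h : d.Good) {u v : M648} (hu : d.inS u.2 = true) (hv : d.inS v.2 = true) :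
    d.code (u * v) = d.code u + d.code v := by
  show d.aa (addJ u.1 (actA u.2 v.1)) + d.bb (mulA u.2 v.2) = d.aa u.1 + d.bb u.2 + (d.aa v.1 + d.bb v.2)
  rw [h.2.2.2.1, h.2.2.2.2.1 _ _ hu, h.2.2.2.2.2 _ _ hu hv]
  abel

/-- The linear character. -/
noncomputable def lam (h : d.Good) : S h →* ℂˣ :=
  MonoidHom.mk' (fun s => zv (d.code s.1)) (fun a b => by
    show zv (d.code ((a : M648) * b)) = _
    rw [code_mul h a.2 b.2, zv_add])

/-- The induced character. -/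
noncomputable def ind (h : d.Good) : M648 → ℂ :=
  indFun (S h) (fun s => ((lam h s : ℂˣ) : ℂ))

theorem ind_isChar (d : LD) (h : d.Good) : IsCharacter M648 (ind h) :=
  indFun_isCharacter _ (IsIrrCharacter.isCharacter (isIrrCharacter_of_hom (lam h)))

end LD

def LD.ea (d : LD) (y : M648) : ℤ := if d.inS y.2 = true then Pa (d.code y) else 0
def LD.eb (d : LD) (y : M648) : ℤ := if d.inS y.2 = true then Pb (d.code y) else 0
def LD.ec (d : LD) (y : M648) : ℤ := if d.inS y.2 = true then Qa (d.code y) else 0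
def LD.ed (d : LD) (y : M648) : ℤ := if d.inS y.2 = true then Qb (d.code y) else 0

theorem ext_val {d : LD} (h : d.Good) (y : M648) :
    extendByZero (LD.S h) (fun s => ((LD.lam h s : ℂˣ) : ℂ)) y =
      (((d.ea y : ℤ) : ℂ) + ((d.eb y : ℤ) : ℂ) * sq3 + (((d.ec y : ℤ) : ℂ) + ((d.ed y : ℤ) : ℂ) * sq3) * I) / 2 := by
  by_cases hy : d.inS y.2 = true
  · rw [extendByZero_of_mem _ _ (show y ∈ LD.S h from hy)]
    show ((zv (d.code y) : ℂˣ) : ℂ) = _
    rw [zv_val]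
    simp only [LD.ea, LD.eb, LD.ec, LD.ed, hy, if_true, zetaVal]
  · rw [extendByZero_of_not_mem _ _ (show y ∉ LD.S h from hy)]
    simp only [LD.ea, LD.eb, LD.ec, LD.ed, hy, if_false]
    simp

/-! ### The table of class functions -/

def XreT : List (List ℤ) :=
  [[1, 1, 1, 1, 1, 1, 1, 1, 1, 1, 1, 1, 1, 1],
  [1, 1, -1, -1, 1, 1, 1, -1, -1, -1, 1, 1, 1, 1],
  [2, 2, 0, 0, -1, 2, 2, 0, 0, 0, -1, -1, 2, 2],
  [3, -1, -1, 1, 0, 3, -1, 1, 1, -1, 0, 0, 3, 3],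
  [3, -1, 1, -1, 0, 3, -1, -1, -1, 1, 0, 0, 3, 3],
  [6, -2, 0, 0, 0, 3, 1, 0, 0, 0, 0, 0, 0, -3],
  [6, -2, 0, 0, 0, 3, 1, 0, 0, 0, 0, 0, 0, -3],
  [6, 2, 0, 2, 0, 3, -1, -1, -1, 0, 0, 0, 0, -3],
  [6, 2, 0, -2, 0, 3, -1, 1, 1, 0, 0, 0, 0, -3],
  [8, 0, 0, 0, -1, -4, 0, 0, 0, 0, 2, -1, 2, -1],
  [8, 0, 0, 0, -1, -4, 0, 0, 0, 0, -1, 2, 2, -1],
  [12, 0, -2, 0, 0, 0, 0, 0, 0, 1, 0, 0, -3, 3],
  [12, 0, 2, 0, 0, 0, 0, 0, 0, -1, 0, 0, -3, 3]]

def XimT : List (List ℤ) :=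
  [[0, 0, 0, 0, 0, 0, 0, 0, 0, 0, 0, 0, 0, 0],
  [0, 0, 0, 0, 0, 0, 0, 0, 0, 0, 0, 0, 0, 0],
  [0, 0, 0, 0, 0, 0, 0, 0, 0, 0, 0, 0, 0, 0],
  [0, 0, 0, 0, 0, 0, 0, 0, 0, 0, 0, 0, 0, 0],
  [0, 0, 0, 0, 0, 0, 0, 0, 0, 0, 0, 0, 0, 0],
  [0, 0, 0, 0, 0, 0, 0, 1, -1, 0, 0, 0, 0, 0],
  [0, 0, 0, 0, 0, 0, 0, -1, 1, 0, 0, 0, 0, 0],
  [0, 0, 0, 0, 0, 0, 0, 0, 0, 0, 0, 0, 0, 0],
  [0, 0, 0, 0, 0, 0, 0, 0, 0, 0, 0, 0, 0, 0],
  [0, 0, 0, 0, 0, 0, 0, 0, 0, 0, 0, 0, 0, 0],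
  [0, 0, 0, 0, 0, 0, 0, 0, 0, 0, 0, 0, 0, 0],
  [0, 0, 0, 0, 0, 0, 0, 0, 0, 0, 0, 0, 0, 0],
  [0, 0, 0, 0, 0, 0, 0, 0, 0, 0, 0, 0, 0, 0]]

def Xre (i : Fin 13) (c : Fin 14) : ℤ := (XreT.getD i.1 []).getD c.1 0
def Xim (i : Fin 13) (c : Fin 14) : ℤ := (XimT.getD i.1 []).getD c.1 0

/-- The class functions. -/
noncomputable def X (i : Fin 13) (w : M648) : ℂ := ((Xre i (cl w) : ℤ) : ℂ) + ((Xim i (cl w) : ℤ) : ℂ) * sq3

/-- The values at the representatives. -/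
def LD.Vals (d : LD) (sz : ℤ) (i : Fin 13) : Prop :=
  ∀ c : Fin 14, (∑ g : M648, d.ea (g⁻¹ * rep c * g)) = 2 * sz * Xre i c ∧
    (∑ g : M648, d.eb (g⁻¹ * rep c * g)) = 2 * sz * Xim i c ∧
    (∑ g : M648, d.ec (g⁻¹ * rep c * g)) = 0 ∧ (∑ g : M648, d.ed (g⁻¹ * rep c * g)) = 0

theorem sum_four {ι : Type*} [Fintype ι] (a b c e : ι → ℤ) (s t : ℂ) :
    ∑ x, (((a x : ℤ) : ℂ) + ((b x : ℤ) : ℂ) * s + (((c x : ℤ) : ℂ) + ((e x : ℤ) : ℂ) * s) * t) / 2 =
      (((∑ x, a x : ℤ) : ℂ) + ((∑ x, b x : ℤ) : ℂ) * s +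
        (((∑ x, c x : ℤ) : ℂ) + ((∑ x, e x : ℤ) : ℂ) * s) * t) / 2 := by
  push_cast
  rw [← Finset.sum_div]
  congr 1
  simp only [add_mul, Finset.sum_add_distrib, Finset.sum_mul]

theorem ind_eq (d : LD) (h : d.Good) {sz : ℕ}
    (hcard : (Finset.univ.filter (fun w : M648 => d.inS w.2 = true)).card = sz) (hsz : sz ≠ 0)
    {i : Fin 13} (hv : d.Vals sz i) : LD.ind h = X i := by
  classical
  have hN : Nat.card (LD.S h) = sz := by
    rw [Nat.card_eq_fintype_card, Fintype.card_subtype, ← hcard]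
    congr 1
    ext w
    simp only [Finset.mem_filter, Finset.mem_univ, true_and]
    exact Iff.rfl
  have hsz' : (sz : ℂ) ≠ 0 := by exact_mod_cast hsz
  have key : ∀ c : Fin 14, LD.ind h (rep c) = X i (rep c) := by
    intro c
    obtain ⟨h1, h2, h3, h4⟩ := hv c
    unfold LD.ind
    rw [indFun_apply, hN]
    simp only [ext_val h]
    rw [sum_four, h1, h2, h3, h4]
    unfold X
    rw [cl_rep]
    push_cast
    field_simp
    ring
  funext w
  have h1 : LD.ind h w = LD.ind h (rep (cl w)) := by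
    have := indFun_isClassFunction (LD.S h) (fun s => ((LD.lam h s : ℂˣ) : ℂ)) (rep (cl w)) (conjW w)
    rw [conjW_spec] at this
    exact this
  rw [h1, key]
  unfold X
  rw [cl_rep]

def d2 : LD := ⟨1044495, 0, 644755517920989243506688⟩
theorem good_d2 : d2.Good := by
  unfold LD.Good
  decide +kernel
theorem card_d2 : (Finset.univ.filter (fun w : M648 => d2.inS w.2 = true)).card = 324 := by
  decide +kernel
theorem vals_d2 : d2.Vals 324 2 := by
  unfold LD.Vals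
  decide +kernel
theorem isChar_d2 : IsCharacter M648 (X 2) := by
  rw [← ind_eq d2 good_d2 card_d2 (by norm_num) vals_d2]
  exact LD.ind_isChar _ _

def d3 : LD := ⟨255, 0, 6686304⟩
theorem good_d3 : d3.Good := by
  unfold LD.Good
  decide +kernel
theorem card_d3 : (Finset.univ.filter (fun w : M648 => d3.inS w.2 = true)).card = 216 := by
  decide +kernel
theorem vals_d3 : d3.Vals 216 3 := by
  unfold LD.Vals
  decide +kernel
theorem isChar_d3 : IsCharacter M648 (X 3) := by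
  rw [← ind_eq d3 good_d3 card_d3 (by norm_num) vals_d3]
  exact LD.ind_isChar _ _

def d6a : LD := ⟨201, 167370741227496275205378636253248, 956325888⟩
theorem good_d6a : d6a.Good := by
  unfold LD.Good
  decide +kernel
theorem card_d6a : (Finset.univ.filter (fun w : M648 => d6a.inS w.2 = true)).card = 108 := by
  decide +kernel
theorem vals_d6a : d6a.Vals 108 5 := by
  unfold LD.Vals
  decide +kernel
theorem isChar_d6a : IsCharacter M648 (X 5) := by
  rw [← ind_eq d6a good_d6a card_d6a (by norm_num) vals_d6a]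
  exact LD.ind_isChar _ _

def d6c : LD := ⟨201, 167370741227496275205378636253248, 0⟩
theorem good_d6c : d6c.Good := by
  unfold LD.Good
  decide +kernel
theorem card_d6c : (Finset.univ.filter (fun w : M648 => d6c.inS w.2 = true)).card = 108 := by
  decide +kernel
theorem vals_d6c : d6c.Vals 108 7 := by
  unfold LD.Vals
  decide +kernel
theorem isChar_d6c : IsCharacter M648 (X 7) := by
  rw [← ind_eq d6c good_d6c card_d6c (by norm_num) vals_d6c]
  exact LD.ind_isChar _ _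

def d8a : LD := ⟨557057, 10498974349096781141887244847168, 604467521493333014740992⟩
theorem good_d8a : d8a.Good := by
  unfold LD.Good
  decide +kernel
theorem card_d8a : (Finset.univ.filter (fun w : M648 => d8a.inS w.2 = true)).card = 81 := by
  decide +kernel
theorem vals_d8a : d8a.Vals 81 9 := by
  unfold LD.Vals
  decide +kernel
theorem isChar_d8a : IsCharacter M648 (X 9) := by
  rw [← ind_eq d8a good_d8a card_d8a (by norm_num) vals_d8a]
  exact LD.ind_isChar _ _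

def d8b : LD := ⟨557057, 10498974349096781141887244847168, 302240678275694148452352⟩
theorem good_d8b : d8b.Good := by
  unfold LD.Good
  decide +kernel
theorem card_d8b : (Finset.univ.filter (fun w : M648 => d8b.inS w.2 = true)).card = 81 := by
  decide +kernel
theorem vals_d8b : d8b.Vals 81 10 := by
  unfold LD.Vals
  decide +kernel
theorem isChar_d8b : IsCharacter M648 (X 10) := by
  rw [← ind_eq d8b good_d8b card_d8b (by norm_num) vals_d8b]
  exact LD.ind_isChar _ _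

def d12a : LD := ⟨2049, 81766026940879686606649068898368, 105553116266496⟩
theorem good_d12a : d12a.Good := by
  unfold LD.Good
  decide +kernel
theorem card_d12a : (Finset.univ.filter (fun w : M648 => d12a.inS w.2 = true)).card = 54 := by
  decide +kernel
theorem vals_d12a : d12a.Vals 54 11 := by
  unfold LD.Vals
  decide +kernel
theorem isChar_d12a : IsCharacter M648 (X 11) := by
  rw [← ind_eq d12a good_d12a card_d12a (by norm_num) vals_d12a]
  exact LD.ind_isChar _ _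


/-! ### The linear characters -/

def negMask : ℕ := 15732720

/-- The sign on the rotations. -/
def isNeg (A : Fin 24) : Bool := Nat.testBit negMask A.1

theorem isNeg_mul : ∀ A B, isNeg (mulA A B) = xor (isNeg A) (isNeg B) := by decide +kernel

/-- The sign character. -/
def sgU : M648 →* ℂˣ :=
  MonoidHom.mk' (fun w => if isNeg w.2 = true then -1 else 1) (fun a b => by
    show (if isNeg (mulA a.2 b.2) = true then (-1 : ℂˣ) else 1) = _
    rw [isNeg_mul]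
    cases isNeg a.2 <;> cases isNeg b.2 <;> simp)

theorem Xre1 : ∀ w : M648, Xre 1 (cl w) = if isNeg w.2 = true then -1 else 1 := by decide +kernel
theorem Xim1 : ∀ c, Xim 1 c = 0 := by decide +kernel
theorem Xre0 : ∀ c, Xre 0 c = 1 := by decide +kernel
theorem Xim0 : ∀ c, Xim 0 c = 0 := by decide +kernel

theorem isChar_0 : IsCharacter M648 (X 0) := by
  have : X 0 = fun _ => 1 := by
    funext w
    simp [X, Xre0, Xim0]
  rw [this]
  exact isCharacter_one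

theorem isChar_1 : IsCharacter M648 (X 1) := by
  have : X 1 = fun g => ((sgU g : ℂˣ) : ℂ) := by
    funext w
    simp only [X, Xre1, Xim1]
    show _ = (((if isNeg w.2 = true then -1 else 1 : ℂˣ)) : ℂ)
    split_ifs <;> simp
  rw [this]
  exact IsIrrCharacter.isCharacter (isIrrCharacter_of_hom sgU)

theorem X_mul_one {i j : Fin 13} (hc : ∀ c, Xre j c = Xre i c * Xre 1 c ∧ Xim j c = Xim i c * Xre 1 c) :
    X j = X i * X 1 := by
  funext w
  simp only [X, Pi.mul_apply, Xim1, (hc (cl w)).1, (hc (cl w)).2]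
  push_cast
  ring

theorem isChar_4 : IsCharacter M648 (X 4) := by
  rw [X_mul_one (i := 3) (by decide +kernel)]
  exact isCharacter_mul isChar_d3 isChar_1

theorem isChar_6 : IsCharacter M648 (X 6) := by
  rw [X_mul_one (i := 5) (by decide +kernel)]
  exact isCharacter_mul isChar_d6a isChar_1

theorem isChar_8 : IsCharacter M648 (X 8) := by
  rw [X_mul_one (i := 7) (by decide +kernel)]
  exact isCharacter_mul isChar_d6c isChar_1

theorem isChar_12 : IsCharacter M648 (X 12) := by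
  rw [X_mul_one (i := 11) (by decide +kernel)]
  exact isCharacter_mul isChar_d12a isChar_1

theorem isChar_X (i : Fin 13) : IsCharacter M648 (X i) := by
  fin_cases i
  · exact isChar_0
  · exact isChar_1
  · exact isChar_d2
  · exact isChar_d3
  · exact isChar_4
  · exact isChar_d6a
  · exact isChar_6
  · exact isChar_d6c
  · exact isChar_8
  · exact isChar_d8a
  · exact isChar_d8b
  · exact isChar_d12a
  · exact isChar_12

end Cfsg.Agent.Lib.M648Chars
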