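import Mathlib

/-!
# Bases adapted to an endomorphism killed by an irreducible polynomial
-/

set_option autoImplicit false

namespace Cfsg.Agent.Lib.PolyBasis

open Polynomial Module

variable {F : Type*} [Field F] {V : Type*} [AddCommGroup V] [Module F V]

/-- If `f` is irreducible and `f(T) = 0` then `V` has an `F`-basis of the form `T ^ i v_j`,
`0 ≤ i < deg f`. -/
theorem exists_poly_basis [FiniteDimensional F V]
    (T : V →ₗ[F] V) (f : F[X]) (hf : Irreducible f) (hT : aeval T f = 0) :
    ∃ (m : ℕ) (v : Fin m → V) (b : Basis (Fin f.natDegree × Fin m) F V),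
      ∀ i j, b (i, j) = (T ^ (i : ℕ)) (v j) := by
  classical
  haveI : Fact (Irreducible f) := ⟨hf⟩
  let φ : AdjoinRoot f →ₐ[F] Module.End F V :=
    Ideal.Quotient.liftₐ (Ideal.span {f}) (aeval T) (by
      intro a ha
      obtain ⟨g, rfl⟩ := Ideal.mem_span_singleton'.mp ha
      rw [map_mul, hT, mul_zero])
  letI : Module (AdjoinRoot f) V := Module.compHom V φ.toRingHom
  have hsmul : ∀ (k : AdjoinRoot f) (v : V), k • v = φ k v := fun _ _ => rfl
  haveI : IsScalarTower F (AdjoinRoot f) V := by
    refine ⟨fun c k v => ?_⟩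
    rw [hsmul, hsmul, map_smul]
    rfl
  haveI : FiniteDimensional (AdjoinRoot f) V := Module.Finite.of_restrictScalars_finite F (AdjoinRoot f) V
  let c := Module.finBasis (AdjoinRoot f) V
  let pb : Basis (Fin f.natDegree) F (AdjoinRoot f) := (AdjoinRoot.powerBasis hf.ne_zero).basis
  let b := pb.smulTower c
  refine ⟨_, c, b, fun i j => ?_⟩
  have h1 : b (i, j) = pb i • c j := Basis.smulTower_apply _ _ _
  rw [h1, hsmul]
  have h2 : pb i = AdjoinRoot.root f ^ (i : ℕ) := by
    exact (AdjoinRoot.powerBasis hf.ne_zero).basis_eq_pow i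
  rw [h2, map_pow]
  have h3 : φ (AdjoinRoot.root f) = T := by
    have : AdjoinRoot.root f = AdjoinRoot.mk f X := rfl
    rw [this]
    show aeval T X = T
    simp
  rw [h3]

/-- The degree divides the dimension. -/
theorem natDegree_dvd_finrank [FiniteDimensional F V]
    (T : V →ₗ[F] V) (f : F[X]) (hf : Irreducible f) (hT : aeval T f = 0) :
    f.natDegree ∣ finrank F V := by
  obtain ⟨m, v, b, -⟩ := exists_poly_basis T f hf hT
  rw [finrank_eq_card_basis b]
  simp

end Cfsg.Agent.Lib.PolyBasis
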