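import Mathlib
import Cfsg.Agent.Lib.PolyBasis

/-!
# Conjugating matrices through linear equivalences and adapted bases
-/

set_option autoImplicit false

namespace Cfsg.Agent.Lib.MatConj

open Matrix Polynomial Module
open Cfsg.Agent.Lib.PolyBasis

variable {ι : Type*} [Fintype ι] [DecidableEq ι] {F : Type*} [Field F]

/-- A linear automorphism of `F^ι` as an element of `GL`. -/
noncomputable def glOfEquiv (e : (ι → F) ≃ₗ[F] (ι → F)) : GL ι F where
  val := LinearMap.toMatrix' (e : (ι → F) →ₗ[F] (ι → F))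
  inv := LinearMap.toMatrix' (e.symm : (ι → F) →ₗ[F] (ι → F))
  val_inv := by
    rw [← LinearMap.toMatrix'_comp]
    simp
  inv_val := by
    rw [← LinearMap.toMatrix'_comp]
    simp

theorem glOfEquiv_mulVec (e : (ι → F) ≃ₗ[F] (ι → F)) (v : ι → F) :
    (glOfEquiv e : Matrix ι ι F) *ᵥ v = e v := by
  show LinearMap.toMatrix' (e : (ι → F) →ₗ[F] (ι → F)) *ᵥ v = e v
  rw [LinearMap.toMatrix'_mulVec]
  rfl

/-- An intertwining linear automorphism gives a conjugator. -/
theorem conj_of_equiv (e : (ι → F) ≃ₗ[F] (ι → F)) (A B : Matrix ι ι F)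
    (h : ∀ v, e (A *ᵥ v) = B *ᵥ e v) :
    (glOfEquiv e : Matrix ι ι F) * A = B * (glOfEquiv e : Matrix ι ι F) := by
  have key : ∀ v, ((glOfEquiv e : Matrix ι ι F) * A) *ᵥ v = (B * (glOfEquiv e : Matrix ι ι F)) *ᵥ v := by
    intro v
    rw [← Matrix.mulVec_mulVec, ← Matrix.mulVec_mulVec, glOfEquiv_mulVec, glOfEquiv_mulVec, h]
  apply Matrix.toLin'.injective
  exact LinearMap.ext fun v => by simpa [Matrix.toLin'_apply] using key v

/-- `P⁻¹ x P = y` from an intertwiner `e`, taking `P = e⁻¹`. -/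
theorem exists_conj_of_equiv (e : (ι → F) ≃ₗ[F] (ι → F)) (x y : GL ι F)
    (h : ∀ v, e ((x : Matrix ι ι F) *ᵥ v) = (y : Matrix ι ι F) *ᵥ e v) :
    ∃ P : GL ι F, P⁻¹ * x * P = y := by
  refine ⟨(glOfEquiv e)⁻¹, ?_⟩
  have := conj_of_equiv e (x : Matrix ι ι F) (y : Matrix ι ι F) h
  have h2 : glOfEquiv e * x = y * glOfEquiv e := Units.ext this
  rw [inv_inv, h2, mul_inv_cancel_right]

/-- The same for a matrix `y`: the result `P⁻¹ x P` has matrix `y`. -/
theorem exists_conj_of_equiv' (e : (ι → F) ≃ₗ[F] (ι → F)) (x : GL ι F) (y : Matrix ι ι F)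
    (h : ∀ v, e ((x : Matrix ι ι F) *ᵥ v) = y *ᵥ e v) :
    ∃ P : GL ι F, ((P⁻¹ * x * P : GL ι F) : Matrix ι ι F) = y := by
  refine ⟨(glOfEquiv e)⁻¹, ?_⟩
  have := conj_of_equiv e (x : Matrix ι ι F) y h
  rw [inv_inv, Units.val_mul, Units.val_mul, this, Matrix.mul_assoc, ← Units.val_mul, mul_inv_cancel]
  simp

variable {V : Type*} [AddCommGroup V] [Module F V]

/-- `exists_poly_basis` with the degree as a parameter. -/
theorem exists_poly_basis' [FiniteDimensional F V]
    (T : V →ₗ[F] V) (f : F[X]) (hf : Irreducible f) (hT : aeval T f = 0) (d : ℕ) (hd : f.natDegree = d) :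
    ∃ (m : ℕ) (v : Fin m → V) (b : Basis (Fin d × Fin m) F V),
      ∀ i j, b (i, j) = (T ^ (i : ℕ)) (v j) := by
  subst hd
  exact exists_poly_basis T f hf hT

/-- Every power `T ^ i` is a combination of the powers below the degree. -/
theorem pow_eq_sum_low (T : V →ₗ[F] V) (f : F[X]) (hm : f.Monic) (hT : aeval T f = 0) (hd : 0 < f.natDegree) (i : ℕ) :
    ∃ c : ℕ → F, T ^ i = ∑ k ∈ Finset.range f.natDegree, c k • T ^ k := by
  classical
  have h1 : (X ^ i : F[X]) %ₘ f + f * ((X ^ i : F[X]) /ₘ f) = X ^ i := Polynomial.modByMonic_add_div _ f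
  have h2 : aeval T ((X ^ i : F[X]) %ₘ f) = T ^ i := by
    conv_rhs => rw [← aeval_X_pow (R := F) (n := i) T, ← h1]
    rw [map_add, map_mul, hT, zero_mul, add_zero]
  have h3 : ((X ^ i : F[X]) %ₘ f).natDegree < f.natDegree := by
    apply Polynomial.natDegree_modByMonic_lt _ hm
    intro h
    rw [h] at hd
    simp at hd
  refine ⟨((X ^ i : F[X]) %ₘ f).coeff, ?_⟩
  rw [← h2, Polynomial.aeval_eq_sum_range' h3]

/-- Any linear map acting on the powers `T ^ i v_j`, for `i` below the degree, by the rule `S ((T ^ i) (v j)) = (T' ^ i) (v' j)`,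
satisfies the rule for all `i`. -/
theorem map_pow_all {V' : Type*} [AddCommGroup V'] [Module F V']
    (T : V →ₗ[F] V) (T' : V' →ₗ[F] V') (S : V →ₗ[F] V') (f : F[X]) (hm : f.Monic) (hT : aeval T f = 0) (hT' : aeval T' f = 0)
    (hd : 0 < f.natDegree) (v : V) (v' : V')
    (h : ∀ i < f.natDegree, S ((T ^ i) v) = (T' ^ i) v') (i : ℕ) : S ((T ^ i) v) = (T' ^ i) v' := by
  classical
  have h1 : (X ^ i : F[X]) %ₘ f + f * ((X ^ i : F[X]) /ₘ f) = X ^ i := Polynomial.modByMonic_add_div _ f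
  have h2 : aeval T ((X ^ i : F[X]) %ₘ f) = T ^ i := by
    conv_rhs => rw [← aeval_X_pow (R := F) (n := i) T, ← h1]
    rw [map_add, map_mul, hT, zero_mul, add_zero]
  have h2' : aeval T' ((X ^ i : F[X]) %ₘ f) = T' ^ i := by
    conv_rhs => rw [← aeval_X_pow (R := F) (n := i) T', ← h1]
    rw [map_add, map_mul, hT', zero_mul, add_zero]
  have h3 : ((X ^ i : F[X]) %ₘ f).natDegree < f.natDegree := by
    apply Polynomial.natDegree_modByMonic_lt _ hm
    intro h
    rw [h] at hd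
    simp at hd
  rw [← h2, ← h2', Polynomial.aeval_eq_sum_range' h3, Polynomial.aeval_eq_sum_range' h3]
  simp only [LinearMap.sum_apply, LinearMap.smul_apply, map_sum, map_smul]
  refine Finset.sum_congr rfl fun k hk => ?_
  rw [h k (Finset.mem_range.mp hk)]

/-- Two endomorphisms killed by the same monic irreducible polynomial are similar. -/
theorem exists_equiv_of_poly [FiniteDimensional F V]
    (T T' : V →ₗ[F] V) (f : F[X]) (hf : Irreducible f) (hm : f.Monic) (hT : aeval T f = 0) (hT' : aeval T' f = 0) :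
    ∃ e : V ≃ₗ[F] V, ∀ v, e (T v) = T' (e v) := by
  classical
  have hd : 0 < f.natDegree := hf.natDegree_pos
  obtain ⟨m, v, b, hb⟩ := exists_poly_basis T f hf hT
  obtain ⟨m', v', b', hb'⟩ := exists_poly_basis T' f hf hT'
  have hmm : m = m' := by
    have h1 := finrank_eq_card_basis b
    have h2 := finrank_eq_card_basis b'
    simp only [Fintype.card_prod, Fintype.card_fin] at h1 h2
    have : f.natDegree * m = f.natDegree * m' := by rw [← h1, ← h2]
    exact Nat.eq_of_mul_eq_mul_left hd this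
  subst hmm
  let e := b.equiv b' (Equiv.refl _)
  refine ⟨e, ?_⟩
  have hpow : ∀ j (i : ℕ), (e : V →ₗ[F] V) ((T ^ i) (v j)) = (T' ^ i) (v' j) := by
    intro j i
    apply map_pow_all T T' (e : V →ₗ[F] V) f hm hT hT' hd
    intro i hi
    have h1 := hb ⟨i, hi⟩ j
    have h2 := hb' ⟨i, hi⟩ j
    simp only at h1 h2
    rw [← h1, ← h2]
    show e (b _) = _
    simp [e, Basis.equiv_apply]
  have : (e : V →ₗ[F] V) ∘ₗ T = T' ∘ₗ (e : V →ₗ[F] V) := by
    apply b.ext
    rintro ⟨i, j⟩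
    simp only [LinearMap.comp_apply]
    rw [hb]
    have h1 : T ((T ^ (i : ℕ)) (v j)) = (T ^ ((i : ℕ) + 1)) (v j) := by
      rw [pow_succ', Module.End.mul_apply]
    rw [h1, hpow, hpow, pow_succ', Module.End.mul_apply]
  intro x
  exact LinearMap.congr_fun this x

/-- Matrix form. -/
theorem exists_conj_of_poly (x : GL ι F) (y : Matrix ι ι F) (f : F[X]) (hf : Irreducible f) (hm : f.Monic)
    (hx : aeval (x : Matrix ι ι F) f = 0) (hy : aeval y f = 0) :
    ∃ P : GL ι F, ((P⁻¹ * x * P : GL ι F) : Matrix ι ι F) = y := by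
  have h1 : aeval (Matrix.toLinAlgEquiv' (x : Matrix ι ι F)) f = 0 := by
    rw [Polynomial.aeval_algEquiv]
    show Matrix.toLinAlgEquiv' (aeval (x : Matrix ι ι F) f) = 0
    rw [hx, map_zero]
  have h2 : aeval (Matrix.toLinAlgEquiv' y) f = 0 := by
    rw [Polynomial.aeval_algEquiv]
    show Matrix.toLinAlgEquiv' (aeval y f) = 0
    rw [hy, map_zero]
  obtain ⟨e, he⟩ := exists_equiv_of_poly _ _ f hf hm h1 h2
  apply exists_conj_of_equiv' e
  intro v
  have := he v
  simpa [Matrix.toLinAlgEquiv'_apply] using this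

end Cfsg.Agent.Lib.MatConj
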