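import Mathlib
import Cfsg.Agent.Lib.FusionSimpleCrit
import Cfsg.Agent.Lib.GolaySift

set_option autoImplicit false

/-!
# Kernel certificates for simplicity of the fusion system of a subgroup of `M24`

An explicit `2`-subgroup `B gens` of permutations of the 24 points is given by a sequence of generators `gens`
(a polycyclic sequence: the products `g₁^e₁ ⋯ g_k^e_k`, `e_i ∈ {0,1}` list the whole subgroup). Certificates:
* the subgroup has order `2 ^ k`;
* it has a unique central involution, and a straight-line program using conjugations by elements of `𝔾`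
  with results in the subgroup reaches generators from it: the only fusion-closed subgroups are the trivial ones;
* a descent along orbits shows that it is self-normalizing.
-/

namespace Cfsg.Agent.Lib.MathieuFusion

open Cfsg Cfsg.Agent.Lib.Golay Cfsg.Agent.Lib.GolaySift

theorem rep_unique {g h : Equiv.Perm GolayPt} {c : ℕ} (hg : Rep g c) (hh : Rep h c) : g = h :=
  Equiv.ext fun q => idx_injective ((hg q).trans (hh q).symm)

open scoped Pointwise in
theorem testBit_of_smul_eq {g : Equiv.Perm GolayPt} {m : ℕ} (hg : g • ofMask m = ofMask m) {i : ℕ} (hi : i < 24) :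
    m.testBit (idx (g (pt i))) = m.testBit i := by
  have h1 : g (pt i) ∈ ofMask m ↔ pt i ∈ ofMask m := by
    conv_lhs => rw [← hg]
    exact Finset.smul_mem_smul_finset_iff g
  rw [mem_ofMask, mem_ofMask, idx_pt hi] at h1
  exact Bool.eq_iff_iff.mpr h1

theorem rep_apply {g : Equiv.Perm GolayPt} {c : ℕ} (hg : Rep g c) (i : ℕ) (hi : i < 24) :
    idx (g (pt i)) = ap c i := by
  rw [hg, idx_pt hi]

theorem ap_idC {i : ℕ} (hi : i < 24) : ap idC i = i := by
  have h := rep_one (pt i)
  rw [idx_pt hi] at h
  simpa [idx_pt hi] using h.symm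

/-- A code given by `comp` is its own normal form. -/
theorem comp_congr {g h : Equiv.Perm GolayPt} {p q p' q' : ℕ} (hg : Rep g p) (hg' : Rep g p')
    (hh : Rep h q) (hh' : Rep h q') : comp p q = comp p' q' := by
  show GolayRep.comp p q = GolayRep.comp p' q'
  rw [GolayRep.comp_eq_pack, GolayRep.comp_eq_pack]
  refine congrArg GolayRep.packL ?_
  unfold GolayRep.tab
  apply List.map_congr_left
  intro i hi
  have hi24 : i < 24 := List.mem_range.mp hi
  show ap p (ap q i) = ap p' (ap q' i)
  rw [← rep_apply hh i hi24, ← rep_apply hh' i hi24]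
  rw [← hg, ← hg']

theorem comp_idC_comp (p q : ℕ) : comp (comp p q) idC = comp p q := by
  show GolayRep.comp (GolayRep.comp p q) idC = GolayRep.comp p q
  rw [GolayRep.comp_eq_pack, GolayRep.comp_eq_pack p q]
  refine congrArg GolayRep.packL ?_
  unfold GolayRep.tab
  apply List.map_congr_left
  intro i hi
  have hi24 : i < 24 := List.mem_range.mp hi
  have h1 : GolayRep.img idC i = i := ap_idC hi24
  rw [h1]
  exact GolayRep.img_pack_tab _ (fun j => GolayRep.img_lt _ _) hi24

/-- The products of a polycyclic sequence. -/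
def prodStep (g : ℕ) (R : List ℕ) : List ℕ := R ++ R.map (fun c => comp g c)

/-- The products of a polycyclic sequence. -/
def prods : List ℕ → List ℕ
  | [] => [idC]
  | g :: gs => prodStep g (prods gs)

theorem length_prods (gs : List ℕ) : (prods gs).length = 2 ^ gs.length := by
  induction gs with
  | nil => rfl
  | cons g gs ih =>
    simp only [prods, prodStep, List.length_append, List.length_map, ih, List.length_cons]
    ring

theorem idC_mem_prods (gs : List ℕ) : idC ∈ prods gs := by
  induction gs with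
  | nil => simp [prods]
  | cons g gs ih =>
    simp only [prods, prodStep, List.mem_append]
    exact Or.inl ih

theorem mem_prods_cons {g c : ℕ} {gs : List ℕ} :
    c ∈ prods (g :: gs) ↔ c ∈ prods gs ∨ ∃ c' ∈ prods gs, comp g c' = c := by
  simp [prods, prodStep]

/-- Powers of codes. -/
def powC (c : ℕ) : ℕ → ℕ
  | 0 => idC
  | n + 1 => comp c (powC c n)

/-- A code inverts another. -/
def invOK (g gi : ℕ) : Bool := idxL.all fun i => Nat.beq (ap gi (ap g i)) i

/-- The subgroup generated by the codes. -/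
noncomputable def B (gens : List ℕ) : Subgroup (Equiv.Perm GolayPt) :=
  Subgroup.closure (decode '' {c | c ∈ gens})

/-- The check of a polycyclic sequence: each generator is outside the subgroup given by the later ones, normalizes it
and has its square in it. -/
def pcChk : List ℕ → Bool
  | [] => true
  | g :: gs => pcChk gs && valid g && Nat.beq (comp g idC) g && invOK g (powC g 7) &&
      !((prods gs).any (Nat.beq g)) && (prods gs).any (Nat.beq (comp g g)) &&
      gs.all fun s => (prods gs).any (Nat.beq (comp (comp g s) (powC g 7)))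

/-- The basic check on a polycyclic sequence. -/
def baseChk (gens : List ℕ) : Bool :=
  pcChk gens && (prods gens).all (fun c => valid c && Nat.beq (comp c idC) c)

theorem conj_iff_of_finite (H : Subgroup (Equiv.Perm GolayPt)) (g : Equiv.Perm GolayPt)
    (h : ∀ s ∈ H, g * s * g⁻¹ ∈ H) (s : Equiv.Perm GolayPt) : s ∈ H ↔ g * s * g⁻¹ ∈ H := by
  refine ⟨h s, fun hs => ?_⟩
  let f : H → H := fun x => ⟨g * x * g⁻¹, h x x.2⟩
  have hf : Function.Injective f := by
    intro a b hab
    have h1 : g * (a : Equiv.Perm GolayPt) * g⁻¹ = g * b * g⁻¹ := congrArg Subtype.val hab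
    exact Subtype.ext (mul_left_cancel (mul_right_cancel h1))
  obtain ⟨t, ht⟩ := (Finite.injective_iff_surjective.mp hf) ⟨_, hs⟩
  have h1 : g * (t : Equiv.Perm GolayPt) * g⁻¹ = g * s * g⁻¹ := congrArg Subtype.val ht
  have h2 : (t : Equiv.Perm GolayPt) = s := mul_left_cancel (mul_right_cancel h1)
  exact h2 ▸ t.2

theorem pc_valid : ∀ {gs : List ℕ}, pcChk gs = true → ∀ g ∈ gs, valid g = true := by
  intro gs
  induction gs with
  | nil => simp
  | cons g gs ih =>
    intro h s hs
    simp only [pcChk, Bool.and_eq_true] at h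
    rcases List.mem_cons.mp hs with rfl | hs
    · exact h.1.1.1.1.1.2
    · exact ih h.1.1.1.1.1.1 s hs

theorem mem_B_cons {g s : ℕ} {gs : List ℕ} (hs : s ∈ g :: gs) : decode s ∈ B (g :: gs) :=
  Subgroup.subset_closure ⟨s, hs, rfl⟩

theorem B_mono {gs : List ℕ} {g : ℕ} : B gs ≤ B (g :: gs) := by
  apply Subgroup.closure_mono
  rintro _ ⟨s, hs, rfl⟩
  exact ⟨s, List.mem_cons_of_mem _ hs, rfl⟩

theorem prods_rep {gs : List ℕ} (hv : ∀ g ∈ gs, valid g = true) : ∀ c ∈ prods gs, ∃ x ∈ B gs, Rep x c := by
  induction gs with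
  | nil =>
    intro c hc
    simp only [prods, List.mem_singleton] at hc
    subst hc
    exact ⟨1, Subgroup.one_mem _, rep_one⟩
  | cons g gs ih =>
    intro c hc
    have ih' := ih (fun x hx => hv x (List.mem_cons_of_mem _ hx))
    rcases mem_prods_cons.mp hc with hc | ⟨c', hc', rfl⟩
    · obtain ⟨x, hx, hxr⟩ := ih' c hc
      exact ⟨x, B_mono hx, hxr⟩
    · obtain ⟨x, hx, hxr⟩ := ih' c' hc'
      exact ⟨decode g * x, Subgroup.mul_mem _ (mem_B_cons List.mem_cons_self) (B_mono hx),
        (rep_decode (hv g (List.mem_cons_self))).mul hxr⟩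

/-- The codes of a polycyclic sequence list the subgroup without repetitions. -/
theorem pc_spec : ∀ {gs : List ℕ}, pcChk gs = true → (∀ c ∈ prods gs, comp c idC = c) →
    (∀ x, x ∈ B gs ↔ ∃ c ∈ prods gs, Rep x c) ∧ (prods gs).Nodup := by
  intro gs
  induction gs with
  | nil =>
    intro _ _
    refine ⟨fun x => ?_, by simp [prods]⟩
    have hB : B [] = ⊥ := by simp [B]
    simp only [hB, Subgroup.mem_bot, prods, List.mem_singleton, exists_eq_left]
    constructor
    · rintro rfl
      exact rep_one
    · intro h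
      exact rep_unique h rep_one
  | cons g gs ih =>
    intro hchk hcanon
    have hchk' := hchk
    simp only [pcChk, Bool.and_eq_true, Bool.not_eq_true', List.all_eq_true, List.any_eq_true] at hchk'
    obtain ⟨⟨⟨⟨⟨⟨hgs, hv⟩, hcg⟩, hinv⟩, hnotin⟩, c2, hc2, hg2⟩, hconj⟩ := hchk'
    have hsub : ∀ c ∈ prods gs, c ∈ prods (g :: gs) := fun c hc => mem_prods_cons.mpr (Or.inl hc)
    obtain ⟨hmem, hnd⟩ := ih hgs (fun c hc => hcanon c (hsub c hc))
    have hvs := pc_valid hgs
    have hcanonR : ∀ c ∈ prods gs, comp c idC = c := fun c hc => hcanon c (hsub c hc)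
    set γ := decode g with hγ
    have hγr : Rep γ g := rep_decode hv
    have hγi : Rep γ⁻¹ (powC g 7) := hγr.inv hinv
    have hγ2 : γ * γ ∈ B gs := (hmem _).mpr ⟨c2, hc2, by
      rw [← Nat.eq_of_beq_eq_true hg2]; exact hγr.mul hγr⟩
    have hconjs : ∀ s ∈ gs, γ * decode s * γ⁻¹ ∈ B gs := by
      intro s hs
      obtain ⟨c, hc, hbeq⟩ := hconj s hs
      refine (hmem _).mpr ⟨c, hc, ?_⟩
      rw [← Nat.eq_of_beq_eq_true hbeq]
      exact (hγr.mul (rep_decode (hvs s hs))).mul hγi
    have hN : ∀ x ∈ B gs, γ * x * γ⁻¹ ∈ B gs := by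
      have hle : B gs ≤ (B gs).comap (MulAut.conj γ).toMonoidHom := by
        rw [B, Subgroup.closure_le]
        rintro _ ⟨s, hs, rfl⟩
        exact hconjs s hs
      exact fun x hx => hle hx
    have hN' := conj_iff_of_finite (B gs) γ hN
    have hNi : ∀ x ∈ B gs, γ⁻¹ * x * γ ∈ B gs := by
      intro x hx
      rw [hN']
      simpa [mul_assoc] using hx
    have hrepR : ∀ c ∈ prods gs, ∃ x ∈ B gs, Rep x c := prods_rep hvs
    have key : ∀ c ∈ prods (g :: gs), ∃ y, ((y ∈ B gs ∧ c ∈ prods gs) ∨ ∃ y₀ ∈ B gs, ∃ c₀ ∈ prods gs,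
        y = γ * y₀ ∧ c = comp g c₀ ∧ Rep y₀ c₀) ∧ Rep y c := by
      intro c hc
      rcases mem_prods_cons.mp hc with hc | ⟨c₀, hc₀, hcc⟩
      · obtain ⟨y, hy, hyr⟩ := hrepR c hc
        exact ⟨y, Or.inl ⟨hy, hc⟩, hyr⟩
      · obtain ⟨y₀, hy₀, hyr⟩ := hrepR c₀ hc₀
        refine ⟨γ * y₀, Or.inr ⟨y₀, hy₀, c₀, hc₀, rfl, hcc.symm, hyr⟩, ?_⟩
        rw [← hcc]
        exact hγr.mul hyr
    constructor
    · intro x
      constructor
      · intro hx
        have hP : ∀ y c, c ∈ prods (g :: gs) → Rep y c → ∃ c' ∈ prods (g :: gs), Rep (x * y) c' := by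
          induction hx using Subgroup.closure_induction with
          | mem x hx =>
            obtain ⟨s, hs, rfl⟩ := hx
            intro y c hc hy
            obtain ⟨y', hy'c, hy'r⟩ := key c hc
            have hyy : y = y' := rep_unique hy hy'r
            subst hyy
            rcases List.mem_cons.mp hs with rfl | hs
            · rcases hy'c with ⟨hyC, hcR⟩ | ⟨y₀, hy₀, c₀, hc₀, rfl, -, -⟩
              · exact ⟨comp s c, mem_prods_cons.mpr (Or.inr ⟨c, hcR, rfl⟩), hγr.mul hy⟩
              · have h1 : decode s * (decode s * y₀) ∈ B gs := by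
                  rw [← mul_assoc]
                  exact Subgroup.mul_mem _ hγ2 hy₀
                obtain ⟨c', hc', hr⟩ := (hmem _).mp h1
                exact ⟨c', hsub c' hc', hr⟩
            · have hsC : decode s ∈ B gs := Subgroup.subset_closure ⟨s, hs, rfl⟩
              rcases hy'c with ⟨hyC, hcR⟩ | ⟨y₀, hy₀, c₀, hc₀, rfl, -, -⟩
              · obtain ⟨c', hc', hr⟩ := (hmem _).mp (Subgroup.mul_mem _ hsC hyC)
                exact ⟨c', hsub c' hc', hr⟩
              · have h1 : (γ⁻¹ * decode s * γ) * y₀ ∈ B gs := Subgroup.mul_mem _ (hNi _ hsC) hy₀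
                obtain ⟨c', hc', hr⟩ := (hmem _).mp h1
                refine ⟨comp g c', mem_prods_cons.mpr (Or.inr ⟨c', hc', rfl⟩), ?_⟩
                have := hγr.mul hr
                have e : γ * (γ⁻¹ * decode s * γ * y₀) = decode s * (γ * y₀) := by group
                rwa [e] at this
          | one =>
            intro y c hc hy
            exact ⟨c, hc, by simpa using hy⟩
          | mul a b _ _ ha hb =>
            intro y c hc hy
            obtain ⟨c', hc', hy'⟩ := hb y c hc hy
            obtain ⟨c'', hc'', hy''⟩ := ha _ c' hc' hy'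
            exact ⟨c'', hc'', by simpa [mul_assoc] using hy''⟩
          | inv a _ ha =>
            have hpow : ∀ n : ℕ, ∀ y c, c ∈ prods (g :: gs) → Rep y c →
                ∃ c' ∈ prods (g :: gs), Rep (a ^ n * y) c' := by
              intro n
              induction n with
              | zero =>
                intro y c hc hy
                exact ⟨c, hc, by simpa using hy⟩
              | succ n ihn =>
                intro y c hc hy
                obtain ⟨c', hc', hy'⟩ := ihn y c hc hy
                obtain ⟨c'', hc'', hy''⟩ := ha _ c' hc' hy'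
                exact ⟨c'', hc'', by rw [pow_succ']; simpa [mul_assoc] using hy''⟩
            have hinv' : a⁻¹ = a ^ (orderOf a - 1) := by
              rw [eq_comm, eq_inv_iff_mul_eq_one, ← pow_succ,
                Nat.sub_add_cancel (orderOf_pos a), pow_orderOf_eq_one]
            rw [hinv']
            exact hpow _
        obtain ⟨c', hc', hy⟩ := hP 1 idC (idC_mem_prods _) rep_one
        exact ⟨c', hc', by simpa using hy⟩
      · rintro ⟨c, hc, hx⟩
        obtain ⟨y, hy, hyr⟩ := key c hc
        rw [rep_unique hx hyr]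
        rcases hy with ⟨hyC, -⟩ | ⟨y₀, hy₀, c₀, -, rfl, -, -⟩
        · exact B_mono hyC
        · exact Subgroup.mul_mem _ (mem_B_cons List.mem_cons_self) (B_mono hy₀)
    · show (prodStep g (prods gs)).Nodup
      unfold prodStep
      rw [List.nodup_append]
      refine ⟨hnd, ?_, ?_⟩
      · refine hnd.map_on ?_
        intro a ha b hb hab
        obtain ⟨x, hx, hxr⟩ := hrepR a ha
        obtain ⟨y, hy, hyr⟩ := hrepR b hb
        have h1 := hγr.mul hxr
        have h2 := hγr.mul hyr
        rw [hab] at h1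
        have h3 : x = y := mul_left_cancel (rep_unique h1 h2)
        rw [← hcanonR a ha, ← hcanonR b hb]
        rw [h3] at hxr
        exact comp_congr hxr hyr rep_one rep_one
      · intro a ha b hb hab
        subst hab
        rw [List.mem_map] at hb
        obtain ⟨c₀, hc₀, hcc⟩ := hb
        obtain ⟨x, hx, hxr⟩ := hrepR a ha
        obtain ⟨y, hy, hyr⟩ := hrepR c₀ hc₀
        have h1 := hγr.mul hyr
        rw [hcc] at h1
        have h2 : x = γ * y := rep_unique hxr h1
        have h3 : γ ∈ B gs := by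
          have : γ = x * y⁻¹ := by rw [h2]; group
          rw [this]
          exact Subgroup.mul_mem _ hx (Subgroup.inv_mem _ hy)
        obtain ⟨c', hc', hr⟩ := (hmem _).mp h3
        have h4 : g = c' := by
          rw [← Nat.eq_of_beq_eq_true hcg, ← hcanonR c' hc']
          exact comp_congr hγr hr rep_one rep_one
        have := List.any_eq_false.mp hnotin c' hc'
        rw [← h4] at this
        simp [Nat.beq_refl] at this

section base

variable {gens : List ℕ}

theorem gens_valid (h : baseChk gens = true) : ∀ g ∈ gens, valid g = true := by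
  simp only [baseChk, Bool.and_eq_true] at h
  exact pc_valid h.1

theorem prods_valid (h : baseChk gens = true) : ∀ c ∈ prods gens, valid c = true := by
  simp only [baseChk, Bool.and_eq_true, List.all_eq_true] at h
  exact fun c hc => (h.2 c hc).1

theorem prods_canon (h : baseChk gens = true) : ∀ c ∈ prods gens, comp c idC = c := by
  simp only [baseChk, Bool.and_eq_true, List.all_eq_true] at h
  exact fun c hc => Nat.eq_of_beq_eq_true (h.2 c hc).2

theorem pc_spec' (h : baseChk gens = true) :
    (∀ x, x ∈ B gens ↔ ∃ c ∈ prods gens, Rep x c) ∧ (prods gens).Nodup := by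
  have h' := h
  simp only [baseChk, Bool.and_eq_true] at h'
  exact pc_spec h'.1 (prods_canon h)

theorem prods_nodup (h : baseChk gens = true) : (prods gens).Nodup := (pc_spec' h).2

theorem eq_of_rep_of_mem (h : baseChk gens = true) {x : Equiv.Perm GolayPt} {c c' : ℕ}
    (hc : c ∈ prods gens) (hc' : c' ∈ prods gens) (hx : Rep x c) (hx' : Rep x c') : c = c' := by
  rw [← prods_canon h c hc, ← prods_canon h c' hc']
  exact comp_congr hx hx' rep_one rep_one

theorem exists_rep_of_mem_B (h : baseChk gens = true) {x : Equiv.Perm GolayPt} (hx : x ∈ B gens) :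
    ∃ c ∈ prods gens, Rep x c := ((pc_spec' h).1 x).mp hx

theorem exists_mem_B_of_mem (h : baseChk gens = true) {c : ℕ} (hc : c ∈ prods gens) :
    ∃ x ∈ B gens, Rep x c :=
  ⟨decode c, ((pc_spec' h).1 _).mpr ⟨c, hc, rep_decode (prods_valid h c hc)⟩, rep_decode (prods_valid h c hc)⟩

theorem decode_mem_B (h : baseChk gens = true) {c : ℕ} (hc : c ∈ prods gens) : decode c ∈ B gens := by
  obtain ⟨x, hx, hxr⟩ := exists_mem_B_of_mem h hc
  rwa [rep_unique (rep_decode (prods_valid h c hc)) hxr]

theorem mem_B_iff (h : baseChk gens = true) {x : Equiv.Perm GolayPt} :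
    x ∈ B gens ↔ ∃ c ∈ prods gens, x = decode c := by
  constructor
  · intro hx
    obtain ⟨c, hc, hr⟩ := exists_rep_of_mem_B h hx
    exact ⟨c, hc, rep_unique hr (rep_decode (prods_valid h c hc))⟩
  · rintro ⟨c, hc, rfl⟩
    exact decode_mem_B h hc

/-- The points fixed by a code. -/
def fixAll (c : ℕ) (A : List ℕ) : Bool := A.all fun a => Nat.beq (ap c a) a

/-- The number of elements of the list of codes fixing the points. -/
def cnt (L A : List ℕ) : ℕ := (L.filter fun c => fixAll c A).length

theorem decode_fix_iff {c : ℕ} (hc : valid c = true) {A : List ℕ} (hA : ∀ a ∈ A, a < 24) :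
    (∀ i ∈ A, decode c (pt i) = pt i) ↔ fixAll c A = true := by
  simp only [fixAll, List.all_eq_true]
  constructor
  · intro hf a ha
    have h1 := hf a ha
    have h2 := rep_apply (rep_decode hc) a (hA a ha)
    rw [h1, idx_pt (hA a ha)] at h2
    simp [← h2]
  · intro hf a ha
    have h2 := rep_decode hc (pt a)
    rw [idx_pt (hA a ha), Nat.eq_of_beq_eq_true (hf a ha)] at h2
    have := congrArg pt h2
    rwa [pt_idx] at this

theorem card_fixL (h : baseChk gens = true) {A : List ℕ} (hA : ∀ a ∈ A, a < 24) :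
    Nat.card (fixL (B gens) A) = cnt (prods gens) A := by
  have hset : ((fixL (B gens) A : Subgroup _) : Set (Equiv.Perm GolayPt)) =
      decode '' {c | c ∈ (prods gens).filter fun c => fixAll c A} := by
    ext x
    constructor
    · rintro ⟨hx, hfix⟩
      obtain ⟨c, hc, rfl⟩ := (mem_B_iff h).mp hx
      refine ⟨c, ?_, rfl⟩
      simp only [Set.mem_ofPred_eq, List.mem_filter]
      exact ⟨hc, (decode_fix_iff (prods_valid h c hc) hA).mp hfix⟩
    · rintro ⟨c, hc, rfl⟩
      simp only [Set.mem_ofPred_eq, List.mem_filter] at hc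
      exact ⟨decode_mem_B h hc.1, (decode_fix_iff (prods_valid h c hc.1) hA).mpr hc.2⟩
  rw [← SetLike.coe_sort_coe, Nat.card_coe_set_eq, hset]
  apply ncard_image_list
  · exact (prods_nodup h).filter _
  · intro a ha c hc hac
    simp only [Set.mem_ofPred_eq, List.mem_filter] at ha hc
    have h1 := rep_decode (prods_valid h a ha.1)
    have h2 := rep_decode (prods_valid h c hc.1)
    rw [hac] at h1
    exact eq_of_rep_of_mem h ha.1 hc.1 h1 h2

theorem card_B (h : baseChk gens = true) : Nat.card (B gens) = 2 ^ gens.length := by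
  have h1 := card_fixL h (A := []) (by simp)
  have h2 : fixL (B gens) [] = B gens := by
    ext x
    simp [mem_fixL]
  rw [h2] at h1
  rw [h1, ← length_prods]
  simp [cnt, fixAll]

/-- Conjugation by a normalizing element preserves the fixed-point counts. -/
theorem card_fixL_conj (H : Subgroup (Equiv.Perm GolayPt)) {h : Equiv.Perm GolayPt}
    (hN : ∀ s, s ∈ H ↔ h * s * h⁻¹ ∈ H) {pre : List ℕ} (hfix : ∀ i ∈ pre, h (pt i) = pt i) {a y : ℕ}
    (hay : h (pt a) = pt y) : Nat.card (fixL H (a :: pre)) = Nat.card (fixL H (y :: pre)) := by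
  have hay' : h⁻¹ (pt y) = pt a := by rw [Equiv.Perm.inv_eq_iff_eq]; exact hay.symm
  have hfix' : ∀ i ∈ pre, h⁻¹ (pt i) = pt i := fun i hi => by
    rw [Equiv.Perm.inv_eq_iff_eq]; exact (hfix i hi).symm
  apply Nat.card_congr
  refine
    { toFun := fun x => ⟨h * x * h⁻¹, (hN x).mp x.2.1, ?_⟩
      invFun := fun x => ⟨h⁻¹ * x * h, (hN _).mpr (by
        have : h * (h⁻¹ * (x : Equiv.Perm GolayPt) * h) * h⁻¹ = x := by group
        rw [this]; exact x.2.1), ?_⟩
      left_inv := fun x => Subtype.ext (by simp [mul_assoc])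
      right_inv := fun x => Subtype.ext (by simp [mul_assoc]) }
  · intro i hi
    rw [List.mem_cons] at hi
    simp only [Equiv.Perm.mul_apply]
    rcases hi with rfl | hi
    · rw [hay', x.2.2 a List.mem_cons_self, hay]
    · rw [hfix' i hi, x.2.2 i (List.mem_cons_of_mem _ hi), hfix i hi]
  · intro i hi
    rw [List.mem_cons] at hi
    simp only [Equiv.Perm.mul_apply]
    rcases hi with rfl | hi
    · rw [hay, x.2.2 y List.mem_cons_self, hay']
    · rw [hfix i hi, x.2.2 i (List.mem_cons_of_mem _ hi), hfix' i hi]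

/-- One step of the descent. -/
def stepChk (L masks pre : List ℕ) (a : ℕ) : Bool :=
  idxL.all fun y => pre.contains y ||
    (masks.any fun m => xor (m.testBit y) (m.testBit a)) ||
    !(Nat.beq (cnt L (y :: pre)) (cnt L (a :: pre))) ||
    L.any fun c => fixAll c pre && Nat.beq (ap c a) y

theorem step_spec (hb : baseChk gens = true) {masks pre : List ℕ} {a : ℕ}
    (hchk : stepChk (prods gens) masks pre a = true) (ha : a < 24) (haP : a ∉ pre)
    (hpre : ∀ x ∈ pre, x < 24) {h : Equiv.Perm GolayPt} (hN : ∀ s, s ∈ B gens ↔ h * s * h⁻¹ ∈ B gens)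
    (hfix : ∀ i ∈ pre, h (pt i) = pt i)
    (hcol : ∀ m ∈ masks, m.testBit (idx (h (pt a))) = m.testBit a) :
    ∃ c ∈ prods gens, fixAll c pre = true ∧ ap c a = idx (h (pt a)) := by
  set y := idx (h (pt a)) with hy
  have hy24 : y < 24 := idx_lt _
  have hptY : h (pt a) = pt y := by rw [hy, pt_idx]
  simp only [stepChk, List.all_eq_true, Bool.or_eq_true, List.any_eq_true, Bool.and_eq_true] at hchk
  rcases hchk y (mem_idxL.mpr hy24) with ((h1 | h1) | h1) | ⟨c, hc, hc1, hc2⟩
  · exfalso
    have h2 : y ∈ pre := by simpa using h1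
    have h3 : h (pt y) = h (pt a) := (hfix y h2).trans hptY.symm
    have h5 : pt y = pt a := h.injective h3
    have : y = a := by
      have := congrArg idx h5
      rwa [idx_pt hy24, idx_pt ha] at this
    exact haP (this ▸ h2)
  · exfalso
    obtain ⟨m, hm, hm2⟩ := h1
    have := hcol m hm
    simp [this] at hm2
  · exfalso
    have hc1 := card_fixL hb (A := a :: pre) (by
      intro x hx
      rcases List.mem_cons.mp hx with rfl | hx
      · exact ha
      · exact hpre x hx)
    have hc2 := card_fixL hb (A := y :: pre) (by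
      intro x hx
      rcases List.mem_cons.mp hx with rfl | hx
      · exact hy24
      · exact hpre x hx)
    have hc3 := card_fixL_conj (B gens) hN hfix hptY
    rw [hc1, hc2] at hc3
    simp [hc3] at h1
  · exact ⟨c, hc, hc1, Nat.eq_of_beq_eq_true hc2⟩

/-- The descent: a check along a list of points. -/
def descChk (L masks : List ℕ) : List ℕ → List ℕ → Bool
  | _, [] => true
  | pre, a :: rest => Nat.blt a 24 && !(pre.contains a) && stepChk L masks pre a &&
      descChk L masks (a :: pre) rest

theorem desc_spec (hb : baseChk gens = true) (𝔾 : Subgroup (Equiv.Perm GolayPt)) (hB𝔾 : B gens ≤ 𝔾)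
    {masks : List ℕ}
    (hcol : ∀ g ∈ 𝔾, ∀ m ∈ masks, ∀ i < 24, m.testBit (idx (g (pt i))) = m.testBit i) :
    ∀ (rest pre : List ℕ), descChk (prods gens) masks pre rest = true → (∀ x ∈ pre, x < 24) →
    (∀ h ∈ 𝔾, (∀ s, s ∈ B gens ↔ h * s * h⁻¹ ∈ B gens) → (∀ i, i ∈ rest ∨ i ∈ pre → h (pt i) = pt i) →
      h ∈ B gens) →
    ∀ h ∈ 𝔾, (∀ s, s ∈ B gens ↔ h * s * h⁻¹ ∈ B gens) → (∀ i ∈ pre, h (pt i) = pt i) → h ∈ B gens := by
  intro rest
  induction rest with
  | nil =>
    intro pre _ _ leaf h hh hN hfix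
    exact leaf h hh hN (fun i hi => by
      rcases hi with hi | hi
      · simp at hi
      · exact hfix i hi)
  | cons a rest ih =>
    intro pre hchk hpre leaf h hh hN hfix
    simp only [descChk, Bool.and_eq_true, Bool.not_eq_true', Nat.blt_eq] at hchk
    obtain ⟨⟨⟨ha, haP⟩, hstep⟩, hnext⟩ := hchk
    have haP' : a ∉ pre := by simpa using haP
    obtain ⟨c, hc, hc1, hc2⟩ := step_spec hb hstep ha haP' hpre hN hfix
      (fun m hm => hcol h hh m hm a ha)
    have hcv := prods_valid hb c hc
    have hxB := decode_mem_B hb hc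
    have hxfix := (decode_fix_iff hcv hpre).mpr hc1
    have hxa : decode c (pt a) = h (pt a) := by
      have h1 := rep_apply (rep_decode hcv) a ha
      apply idx_injective
      rw [h1, hc2]
    have hN' : ∀ s, s ∈ B gens ↔ ((decode c)⁻¹ * h) * s * ((decode c)⁻¹ * h)⁻¹ ∈ B gens := by
      intro s
      have h1 : ((decode c)⁻¹ * h) * s * ((decode c)⁻¹ * h)⁻¹ = (decode c)⁻¹ * (h * s * h⁻¹) * decode c := by
        group
      rw [h1, hN s]
      constructor
      · intro hs
        exact Subgroup.mul_mem _ (Subgroup.mul_mem _ (Subgroup.inv_mem _ hxB) hs) hxB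
      · intro hs
        have h2 := Subgroup.mul_mem _ (Subgroup.mul_mem _ hxB hs) (Subgroup.inv_mem _ hxB)
        simpa [mul_assoc] using h2
    have hfix' : ∀ i ∈ a :: pre, ((decode c)⁻¹ * h) (pt i) = pt i := by
      intro i hi
      rw [Equiv.Perm.mul_apply, Equiv.Perm.inv_eq_iff_eq]
      rcases List.mem_cons.mp hi with rfl | hi
      · exact hxa.symm
      · rw [hfix i hi, hxfix i hi]
    have hfinal := ih (a :: pre) hnext
      (fun x hx => by
        rcases List.mem_cons.mp hx with rfl | hx
        · exact ha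
        · exact hpre x hx)
      (fun h' hh' hN' hf => leaf h' hh' hN' (fun i hi => hf i (by
        rcases hi with hi | hi
        · rcases List.mem_cons.mp hi with rfl | hi
          · exact Or.inr List.mem_cons_self
          · exact Or.inl hi
        · exact Or.inr (List.mem_cons_of_mem _ hi))))
      ((decode c)⁻¹ * h) (𝔾.mul_mem (𝔾.inv_mem (hB𝔾 hxB)) hh) hN' hfix'
    have := Subgroup.mul_mem _ hxB hfinal
    simpa using this

/-! ### the closure certificate -/

/-- An instruction of the closure certificate. -/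
inductive Ins
  | conj (g gi k : ℕ)
  | mul (i j : ℕ)

/-- Run the certificate. -/
def runIns (inG : ℕ → Bool) (L : List ℕ) : List ℕ → List Ins → List ℕ
  | mem, [] => mem
  | mem, Ins.conj g gi k :: r =>
    if inG g && valid g && invOK g gi && L.any (Nat.beq (comp (comp g (mem.getD k idC)) gi)) then
      runIns inG L (comp (comp g (mem.getD k idC)) gi :: mem) r
    else []
  | mem, Ins.mul i j :: r => runIns inG L (comp (mem.getD i idC) (mem.getD j idC) :: mem) r

theorem runIns_spec (hb : baseChk gens = true) {𝔾 T : Subgroup (Equiv.Perm GolayPt)} {inG : ℕ → Bool}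
    (hinG : ∀ c, inG c = true → decode c ∈ 𝔾)
    (hT : ∀ t ∈ T, ∀ g ∈ 𝔾, g * t * g⁻¹ ∈ B gens → g * t * g⁻¹ ∈ T) :
    ∀ (ins : List Ins) (mem : List ℕ), (∀ c ∈ mem, InH T c) → ∀ c ∈ runIns inG (prods gens) mem ins, InH T c := by
  intro ins
  induction ins with
  | nil => exact fun mem h => h
  | cons i r ih =>
    intro mem hmem
    cases i with
    | mul i j =>
      simp only [runIns]
      apply ih
      intro c hc
      rcases List.mem_cons.mp hc with h1 | hc
      · rw [h1]
        exact (getD_inH hmem i).comp (getD_inH hmem j)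
      · exact hmem c hc
    | conj g gi k =>
      simp only [runIns]
      split_ifs with hcond
      · simp only [Bool.and_eq_true, List.any_eq_true] at hcond
        obtain ⟨⟨⟨hg, hv⟩, hinv⟩, c', hc', hbeq⟩ := hcond
        apply ih
        intro c hc
        rcases List.mem_cons.mp hc with h1 | hc
        · rw [h1]
          obtain ⟨x, hxT, hxr⟩ := getD_inH hmem k
          have hgr := rep_decode hv
          have hgi : Rep (decode g)⁻¹ gi := hgr.inv hinv
          have hr := (hgr.mul hxr).mul hgi
          refine ⟨decode g * x * (decode g)⁻¹, ?_, hr⟩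
          apply hT x hxT _ (hinG g hg)
          have hcc := Nat.eq_of_beq_eq_true hbeq
          rw [← hcc] at hc'
          obtain ⟨y, hy, hyr⟩ := exists_mem_B_of_mem hb hc'
          rwa [rep_unique hr hyr]
        · exact hmem c hc
      · simp

/-- The whole certificate for the closure property. -/
def closChk (gens : List ℕ) (inG : ℕ → Bool) (z : ℕ) (ins : List Ins) : Bool :=
  ((prods gens).all fun c => !(gens.all fun s => Nat.beq (comp c s) (comp s c)) ||
    Nat.beq c idC || Nat.beq c z) &&
  (prods gens).any (Nat.beq z) &&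
  gens.all fun g => (runIns inG (prods gens) [z] ins).any (Nat.beq g)

theorem closed_dichotomy (hb : baseChk gens = true) {𝔾 : Subgroup (Equiv.Perm GolayPt)} {inG : ℕ → Bool}
    (hinG : ∀ c, inG c = true → decode c ∈ 𝔾) {z : ℕ} {ins : List Ins}
    (hcl : closChk gens inG z ins = true) (hB𝔾 : B gens ≤ 𝔾) (T : Subgroup (Equiv.Perm GolayPt))
    (hTB : T ≤ B gens) (hT : ∀ t ∈ T, ∀ g ∈ 𝔾, g * t * g⁻¹ ∈ B gens → g * t * g⁻¹ ∈ T) :
    T = ⊥ ∨ T = B gens := by
  classical
  by_cases hbot : T = ⊥
  · exact Or.inl hbot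
  right
  simp only [closChk, Bool.and_eq_true, List.all_eq_true, List.any_eq_true, Bool.or_eq_true,
    Bool.not_eq_true'] at hcl
  obtain ⟨⟨hcen, c₀, hc₀, hz0⟩, hgens⟩ := hcl
  have hzmem : z ∈ prods gens := by
    rw [Nat.eq_of_beq_eq_true hz0]; exact hc₀
  have hcard := card_B hb
  have : Finite (B gens) := inferInstance
  have hPG : IsPGroup 2 (B gens) := IsPGroup.of_card (n := gens.length) hcard
  have : Fact (Nat.Prime 2) := ⟨Nat.prime_two⟩
  let N : Subgroup (B gens) := T.subgroupOf (B gens)
  have hNn : N.Normal := by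
    refine ⟨fun n hn g => ?_⟩
    rw [Subgroup.mem_subgroupOf] at hn ⊢
    exact hT _ hn _ (hB𝔾 g.2) (Subgroup.mul_mem _ (Subgroup.mul_mem _ g.2 n.2) (Subgroup.inv_mem _ g.2))
  have hNne : N ≠ ⊥ := by
    intro h0
    apply hbot
    rw [eq_bot_iff]
    intro x hx
    have : (⟨x, hTB hx⟩ : B gens) ∈ N := Subgroup.mem_subgroupOf.mpr hx
    rw [h0, Subgroup.mem_bot] at this
    exact Subgroup.mem_bot.mpr (congrArg Subtype.val this)
  obtain ⟨t, htN, ht1, htc⟩ := Cfsg.Agent.Lib.PuigBasic.exists_mem_center_of_normal hPG N hNne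
  obtain ⟨c, hc, hcr⟩ := exists_rep_of_mem_B hb t.2
  have hcomm : ∀ s ∈ gens, comp c s = comp s c := by
    intro s hs
    have hsv := rep_decode (gens_valid hb s hs)
    have hsB : decode s ∈ B gens := Subgroup.subset_closure ⟨s, hs, rfl⟩
    have h1 : (t : Equiv.Perm GolayPt) * decode s = decode s * t := by
      have := (Subgroup.mem_center_iff.mp htc) ⟨decode s, hsB⟩
      exact (congrArg Subtype.val this).symm
    have h2 := hcr.mul hsv
    have h3 := hsv.mul hcr
    rw [h1] at h2
    rw [← comp_idC_comp c s, ← comp_idC_comp s c]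
    exact comp_congr h2 h3 rep_one rep_one
  have hcz : c = idC ∨ c = z := by
    rcases hcen c hc with (h1 | h1) | h1
    · exfalso
      have h2 : (gens.all fun s => Nat.beq (comp c s) (comp s c)) = true :=
        List.all_eq_true.mpr fun s hs => by
          rw [hcomm s hs]
          exact Nat.beq_refl _
      rw [h2] at h1
      exact Bool.noConfusion h1
    · exact Or.inl (Nat.eq_of_beq_eq_true h1)
    · exact Or.inr (Nat.eq_of_beq_eq_true h1)
  have hzT : InH T z := by
    rcases hcz with rfl | rfl
    · exfalso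
      apply ht1
      apply Subtype.ext
      exact rep_unique hcr rep_one
    · exact ⟨t, Subgroup.mem_subgroupOf.mp htN, hcr⟩
  have hrun := runIns_spec hb hinG hT ins [z] (by
    intro c hc
    rcases List.mem_singleton.mp hc with rfl
    exact hzT)
  apply le_antisymm hTB
  rw [B, Subgroup.closure_le]
  rintro _ ⟨g, hg, rfl⟩
  obtain ⟨c', hc', hbeq⟩ := hgens g hg
  rw [← Nat.eq_of_beq_eq_true hbeq] at hc'
  obtain ⟨x, hxT, hxr⟩ := hrun g hc'
  rwa [rep_unique (rep_decode (gens_valid hb g hg)) hxr]

/-- The check of the elements fixing five points of an octad. -/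
def leafChk (gens : List ℕ) : Bool :=
  S48L.all fun c => (prods gens).any (Nat.beq c) ||
    (invOK c (powC c 11) && gens.any fun s =>
      !((prods gens).any (Nat.beq (comp (comp c s) (powC c 11)))))

theorem leaf_spec (hb : baseChk gens = true) (hl : leafChk gens = true) {h : Equiv.Perm GolayPt}
    (hh : h ∈ G [3,2,1,0,23]) (hN : ∀ s, s ∈ B gens ↔ h * s * h⁻¹ ∈ B gens) : h ∈ B gens := by
  obtain ⟨c, hc, rfl⟩ := mem_S48L hh
  have hv := S48L_valid c hc
  simp only [leafChk, List.all_eq_true, Bool.or_eq_true, List.any_eq_true, Bool.and_eq_true] at hl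
  rcases hl c hc with ⟨c', hc', hbeq⟩ | ⟨hinv, s, hs, hs2⟩
  · rw [Nat.eq_of_beq_eq_true hbeq]
    exact decode_mem_B hb hc'
  · exfalso
    have hr : Rep (decode c) c := rep_decode hv
    have hri : Rep (decode c)⁻¹ (powC c 11) := hr.inv hinv
    have hsB : decode s ∈ B gens := Subgroup.subset_closure ⟨s, hs, rfl⟩
    have hsr : Rep (decode s) s := rep_decode (gens_valid hb s hs)
    have hy := ((hr.mul hsr).mul hri)
    obtain ⟨c', hc', hcr⟩ := exists_rep_of_mem_B hb ((hN _).mp hsB)
    have heq : comp (comp c s) (powC c 11) = c' := by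
      rw [← prods_canon hb c' hc', ← comp_idC_comp (comp c s) (powC c 11)]
      exact comp_congr hy hcr rep_one rep_one
    rw [Bool.not_eq_true'] at hs2
    rw [List.any_eq_false] at hs2
    have := hs2 c' hc'
    rw [heq] at this
    simp [Nat.beq_refl] at this

/-- The final assembly. -/
theorem isSimple_of_cert (𝔾 : Subgroup (Equiv.Perm GolayPt)) [Finite 𝔾] (gens : List ℕ) (z : ℕ) (ins : List Ins)
    (inG : ℕ → Bool) (masks steps pre : List ℕ) (m : ℕ)
    (hinG : ∀ c, inG c = true → decode c ∈ 𝔾)
    (hcol : ∀ g ∈ 𝔾, ∀ m ∈ masks, ∀ i < 24, m.testBit (idx (g (pt i))) = m.testBit i)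
    (hb : baseChk gens = true) (hgens : gens.all inG = true) (hne : gens ≠ [])
    (hcl : closChk gens inG z ins = true)
    (hdesc : descChk (prods gens) masks pre steps = true)
    (hpreLt : ∀ x ∈ pre, x < 24) (hpreFix : ∀ g ∈ 𝔾, ∀ i ∈ pre, g (pt i) = pt i)
    (hcard : Nat.card 𝔾 = 2 ^ gens.length * m) (hm : ¬ 2 ∣ m)
    (leaf : ∀ h ∈ 𝔾, (∀ s, s ∈ B gens ↔ h * s * h⁻¹ ∈ B gens) → (∀ i, i ∈ steps ∨ i ∈ pre → h (pt i) = pt i) →
      h ∈ B gens)
    (S : Sylow 2 𝔾) : (Cfsg.groupFusionSystem (S : Subgroup 𝔾)).IsSimple 2 := by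
  classical
  have : Fact (Nat.Prime 2) := ⟨Nat.prime_two⟩
  have hB𝔾 : B gens ≤ 𝔾 := by
    rw [B, Subgroup.closure_le]
    rintro _ ⟨g, hg, rfl⟩
    simp only [List.all_eq_true] at hgens
    exact hinG g (hgens g hg)
  refine FusionSimpleCrit.isSimple_of_ambient 2 𝔾 (B gens) hB𝔾 gens.length m (card_B hb) hcard hm ?_ ?_ ?_ S
  · intro h0
    exact hne (List.length_eq_zero_iff.mp h0)
  · exact fun T hT hTc => closed_dichotomy hb hinG hcl hB𝔾 T hT hTc
  · intro g hg hgs
    have hN : ∀ s, s ∈ B gens ↔ g * s * g⁻¹ ∈ B gens := conj_iff_of_finite _ _ hgs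
    exact desc_spec hb 𝔾 hB𝔾 hcol steps pre hdesc hpreLt leaf g hg hN (hpreFix g hg)

end base

end Cfsg.Agent.Lib.MathieuFusion
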