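import Mathlib
import Cfsg.Agent.Lib.MathieuFusion

set_option autoImplicit false
set_option maxRecDepth 100000

/-! Literal data: polycyclic generators of Sylow 2-subgroups of the Mathieu groups and closure programs. -/

namespace Cfsg.Agent.Lib.MathieuFusionData

open Cfsg.Agent.Lib.MathieuFusion

def gens11 : List ℕ := [609271311764373893382231684089481248,719923664328491199848526586197411872,970499966350631336865513127433832480,735500604421669808992593446508235808]

def z11 : ℕ := 970499966350631336865513127433832480

def ins11 : List Ins := [Ins.conj 230589747568698130493283754953453696 479421954503566921828241188863623264 0, Ins.conj 973990005355720002122465625457604160 981977338791154377729502603112628320 1, Ins.mul 0 1, Ins.conj 726098387229991916328255735577218112 234286372747013287696275781005149280 0]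

def gens12 : List ℕ := [732529266065835444691409447300367458,965259690662158669917158057253604353,232652365823391711183829569059784736,719923664328491199848526586197411872,970499966350631336865513127433832480,735500604421669808992593446508235808]

def z12 : ℕ := 970499966350631336865513127433832480

def ins12 : List Ins := [Ins.conj 595152749868134659415246309174579584 811727685528455011519178355027253344 0, Ins.conj 732569147231566441544326517253781056 217253051903492890099283113544030304 1, Ins.conj 487567869836259688965614800498930889 936132915971836645510894042119018889 2, Ins.mul 1 2, Ins.mul 1 0, Ins.conj 850937922528514504166309165992718866 645943327613285442769092193164007940 0, Ins.mul 0 4, Ins.mul 0 0, Ins.mul 2 5]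

def gens22 : List ℕ := [984202951082164080105044112956360736,984235865005994746954145143334668320,972715533645191023441926575607612480,970499966350631336865513127433832480,967812279691448225500382947153381408,981818691054096003685363657089320992,980224387687010295957922729495201824]

def z22 : ℕ := 972512676110088067912772961567868960

def ins22 : List Ins := [Ins.conj 983315906029059784167715601841174560 967973725107425254956049448188711968 0, Ins.conj 975390690497588122174853851949205952 971700002680082327507092165061184032 1, Ins.conj 970279282509237911888416272638052800 972911955114356989605624004851730528 2, Ins.conj 970497021212647053530301847444984320 966321990045791418149953610782820704 3, Ins.conj 968877097723599542807188342678489120 978266852674382294020052675747645472 4, Ins.mul 0 1, Ins.mul 2 0, Ins.mul 2 0, Ins.mul 6 8]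

def gens24 : List ℕ := [235371386762155282763969403554940014,47602323197725890978489344939164386,28085211421434974029522590569629751,980224387687010295957922729495201824,975346028712660580592452217730074656,961365507626256404119956257276790816,972512676110088067912772961567868960,972715533645191023441926575607612480,984235865005994746954145143334668320,984202951082164080105044112956360736]

def z24 : ℕ := 972512676110088067912772961567868960

def ins24 : List Ins := [Ins.conj 927537553787973474863857471354573325 612143905189352222998430104041395747 0, Ins.conj 974330679616394594072204504479086272 957140427866824105888640754171659360 1, Ins.conj 12557849853621056244944824289051364 65772472836679870447761393367232791 2, Ins.conj 979240449322460824367462098474667072 960948269382111642825795567586706528 3, Ins.conj 884600223132659538024894490184227083 468247533876809134086907068439614025 4, Ins.conj 801848204989206717054818482245738695 897672489566182302375805074747314696 5, Ins.mul 2 1, Ins.mul 2 0, Ins.mul 2 0, Ins.mul 6 4, Ins.mul 6 0, Ins.mul 6 0, Ins.mul 3 12, Ins.mul 4 0, Ins.mul 6 10]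

end Cfsg.Agent.Lib.MathieuFusionData
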