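import Mathlib
import Cfsg.Prelude.Def_PLocal
import Cfsg.Prelude.Def_Transfer
import Cfsg.Agent.Lib.PCore
import Cfsg.Agent.Lib.MinNorm
import Cfsg.Agent.Lib.SuperSolv2
import Cfsg.Agent.Lib.NPCBasic
import Cfsg.Agent.Lib.PStab
import Cfsg.Agent.Lib.ZJFusion
import Cfsg.Agent.S0659

/-!
# Normal subgroups all of whose non-trivial elements have maximal centralizers

`N` normal in `G`, centreless, every `C_G(x)` with `1 ≠ x ∈ N` maximal: then `N = R ⋊ Q` with `R`
elementary abelian minimal normal in `G` and `Q` of prime order acting fixed point freely.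
-/

set_option autoImplicit false

open Cfsg

namespace Cfsg.Agent.Lib.MaxCent

universe u

variable {G : Type u} [Group G]

/-- Every nontrivial element of `N` has a maximal centralizer. -/
def HC (N : Subgroup G) : Prop :=
  ∀ x ∈ N, x ≠ 1 → IsCoatom (Subgroup.centralizer ({x} : Set G))

theorem HC.mono {N N' : Subgroup G} (h : HC N) (hle : N' ≤ N) : HC N' :=
  fun x hx => h x (hle hx)

theorem mem_C {x g : G} : g ∈ Subgroup.centralizer ({x} : Set G) ↔ g * x = x * g :=
  Subgroup.mem_centralizer_singleton_iff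

theorem C_pow_le (x : G) (k : ℕ) :
    Subgroup.centralizer ({x} : Set G) ≤ Subgroup.centralizer ({x ^ k} : Set G) := by
  intro g hg
  rw [mem_C] at hg ⊢
  exact (Commute.pow_right hg k)

theorem exists_pow_eq_left {u v : G} (hc : Commute u v) (h : Nat.Coprime (orderOf u) (orderOf v)) :
    ∃ k : ℕ, (u * v) ^ k = u := by
  obtain ⟨k, hk1, hk2⟩ := Nat.chineseRemainder h 1 0
  refine ⟨k, ?_⟩
  rw [hc.mul_pow]
  have h1 : u ^ k = u ^ 1 := pow_eq_pow_iff_modEq.mpr hk1
  have h2 : v ^ k = v ^ 0 := pow_eq_pow_iff_modEq.mpr hk2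
  rw [h1, h2, pow_one, pow_zero, mul_one]

section HCsec

variable {N : Subgroup G}

/-- Equal centralizers from inclusion. -/
theorem C_eq_of_le (hN : HC N) {x y : G} (hx : x ∈ N) (hx1 : x ≠ 1)
    (hntop : Subgroup.centralizer ({y} : Set G) ≠ ⊤)
    (h : Subgroup.centralizer ({x} : Set G) ≤ Subgroup.centralizer ({y} : Set G)) :
    Subgroup.centralizer ({x} : Set G) = Subgroup.centralizer ({y} : Set G) := by
  rcases (hN x hx hx1).le_iff.mp h with h1 | h1
  · exact absurd h1 hntop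
  · exact h1.symm

theorem C_ne_top (hN : HC N) {y : G} (hy : y ∈ N) (hy1 : y ≠ 1) :
    Subgroup.centralizer ({y} : Set G) ≠ ⊤ := (hN y hy hy1).1

theorem C_pow_eq (hN : HC N) {x : G} (hx : x ∈ N) {k : ℕ} (hk : x ^ k ≠ 1) :
    Subgroup.centralizer ({x} : Set G) = Subgroup.centralizer ({x ^ k} : Set G) := by
  have hx1 : x ≠ 1 := by
    intro h
    rw [h, one_pow] at hk
    exact hk rfl
  exact C_eq_of_le hN hx hx1 (C_ne_top hN (N.pow_mem hx k) hk) (C_pow_le x k)

/-- Commuting non-trivial elements of coprime orders have the same centralizer. -/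
theorem C_eq_of_coprime (hN : HC N) {u v : G} (hu : u ∈ N) (hv : v ∈ N) (hu1 : u ≠ 1) (hv1 : v ≠ 1)
    (hc : Commute u v) (h : Nat.Coprime (orderOf u) (orderOf v)) :
    Subgroup.centralizer ({u} : Set G) = Subgroup.centralizer ({v} : Set G) := by
  obtain ⟨k, hk⟩ := exists_pow_eq_left hc h
  obtain ⟨l, hl⟩ := exists_pow_eq_left hc.symm h.symm
  have hl' : (u * v) ^ l = v := by
    rw [hc.eq]
    exact hl
  have hw : u * v ≠ 1 := by
    intro h0
    rw [← hk, h0, one_pow] at hu1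
    exact hu1 rfl
  have hwN : u * v ∈ N := N.mul_mem hu hv
  have h3 := C_pow_eq hN hwN (k := k) (by rw [hk]; exact hu1)
  have h4 := C_pow_eq hN hwN (k := l) (by rw [hl']; exact hv1)
  rw [hk] at h3
  rw [hl'] at h4
  rw [← h3, h4]

/-- Elements non-central in `N ∩ C x` are `s`-elements, `x` an `s`-element. -/
theorem pow_eq_one_of_not_central [Finite G] (hN : HC N) {x : G} {s : ℕ} (hxN : x ∈ N) (hx1 : x ≠ 1)
    (hs : s.Prime) (hxs : ∃ j : ℕ, orderOf x = s ^ j) {w b : G} (hwN : w ∈ N)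
    (hw : w ∈ Subgroup.centralizer ({x} : Set G))
    (hb : b ∈ Subgroup.centralizer ({x} : Set G)) (hwb : w * b ≠ b * w) :
    ∃ k : ℕ, w ^ s ^ k = 1 := by
  obtain ⟨j, hj⟩ := hxs
  have hfin : orderOf w ≠ 0 := (orderOf_pos w).ne'
  obtain ⟨k, m, hm, hmeq⟩ := Nat.exists_eq_pow_mul_and_not_dvd hfin s hs.ne_one
  refine ⟨k, ?_⟩
  by_contra hne
  set w' := w ^ s ^ k with hw'
  have hw'm : orderOf w' ∣ m := by
    apply orderOf_dvd_of_pow_eq_one
    rw [hw', ← pow_mul, ← hmeq, pow_orderOf_eq_one]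
  have hcomm : Commute x w' := by
    have : Commute w x := mem_C.mp hw
    exact (this.pow_left _).symm
  have hcop : Nat.Coprime (orderOf x) (orderOf w') := by
    rw [hj]
    apply Nat.Coprime.pow_left
    exact Nat.Coprime.coprime_dvd_right hw'm ((Nat.Prime.coprime_iff_not_dvd hs).mpr hm)
  have h1 := C_eq_of_coprime hN hxN (N.pow_mem hwN _) hx1 hne hcomm hcop
  have h2 := C_pow_eq hN hwN (k := s ^ k) hne
  have hb' : b ∈ Subgroup.centralizer ({w} : Set G) := by
    rw [h2, ← h1]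
    exact hb
  exact hwb (mem_C.mp hb').symm

/-- If `N ∩ C x` is non-abelian for an `s`-element `x`, then it is an `s`-group. -/
theorem card_eq_pow_of_nonabelian [Finite G] (hN : HC N) {x : G} {s : ℕ} (hxN : x ∈ N) (hx1 : x ≠ 1)
    (hs : s.Prime) (hxs : ∃ j : ℕ, orderOf x = s ^ j) {a b : G}
    (haN : a ∈ N) (ha : a ∈ Subgroup.centralizer ({x} : Set G))
    (hb : b ∈ Subgroup.centralizer ({x} : Set G)) (hab : a * b ≠ b * a) :
    ∃ k : ℕ, Nat.card (N ⊓ Subgroup.centralizer ({x} : Set G) : Subgroup G) = s ^ k := by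
  refine ⟨_, Nat.eq_prime_pow_of_unique_prime_dvd Nat.card_pos.ne' ?_⟩
  intro t ht hdvd
  by_contra hts
  have : Fact t.Prime := ⟨ht⟩
  obtain ⟨⟨y, hy⟩, hyo⟩ := exists_prime_orderOf_dvd_card' t hdvd
  have hyo' : orderOf y = t := by
    rw [← hyo]
    exact (Subgroup.orderOf_mk y hy).symm
  have hy1 : y ≠ 1 := by
    intro h
    rw [h, orderOf_one] at hyo'
    exact ht.ne_one hyo'.symm
  have hcomm : Commute x y := (mem_C.mp hy.2).symm
  obtain ⟨j, hj⟩ := hxs
  have hcop : Nat.Coprime (orderOf x) (orderOf y) := by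
    rw [hj, hyo']
    exact Nat.Coprime.pow_left _ ((Nat.coprime_primes hs ht).mpr (Ne.symm hts))
  have h1 := C_eq_of_coprime hN hxN hy.1 hx1 hy1 hcomm hcop
  obtain ⟨k, hk⟩ := pow_eq_one_of_not_central hN hxN hx1 hs ⟨j, hj⟩ haN ha hb hab
  obtain ⟨l, hl⟩ := pow_eq_one_of_not_central hN hy.1 hy1 ht ⟨1, by rw [hyo', pow_one]⟩ haN
    (h1 ▸ ha) (h1 ▸ hb) hab
  have h2 : orderOf a ∣ s ^ k := orderOf_dvd_of_pow_eq_one hk
  have h3 : orderOf a ∣ t ^ l := orderOf_dvd_of_pow_eq_one hl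
  have h4 : Nat.Coprime (s ^ k) (t ^ l) :=
    Nat.Coprime.pow _ _ ((Nat.coprime_primes hs ht).mpr (Ne.symm hts))
  have h5 : orderOf a = 1 := Nat.eq_one_of_dvd_coprimes h4 h2 h3
  rw [orderOf_eq_one_iff] at h5
  apply hab
  rw [h5, one_mul, mul_one]

end HCsec

section abelian

variable [Finite G] {N R : Subgroup G}

/-- The abelian minimal normal subgroup case. -/
theorem abelian_case (hN : HC N) (hZ : ∀ x ∈ N, (∀ y ∈ N, x * y = y * x) → x = 1)
    [hRn : R.Normal] (hRN : R ≤ N) (hR1 : R ≠ ⊥)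
    (hmin : ∀ K : Subgroup G, K.Normal → K ≤ R → K = ⊥ ∨ K = R)
    (hab : ∀ a ∈ R, ∀ b ∈ R, a * b = b * a) :
    ∃ (Q : Subgroup G) (p : ℕ), Q ≤ N ∧ R ⊓ Q = ⊥ ∧ (∀ n ∈ N, ∃ r ∈ R, ∃ e ∈ Q, n = r * e) ∧ p.Prime ∧
      (∀ x ∈ R, x ^ p = 1) ∧ (Nat.card Q).Prime ∧
      (∀ e ∈ Q, e ≠ 1 → ∀ r ∈ R, e * r = r * e → r = 1) ∧ (∀ a ∈ N, ∀ g : G, a * g * a⁻¹ * g⁻¹ ∈ R) ∧
      (∀ e ∈ Q, e ≠ 1 → ∀ f ∈ Q, f ∈ Subgroup.zpowers e) := by
  -- fixed points of a non-centralizing element
  have key : ∀ q ∈ N, (∃ r ∈ R, q * r ≠ r * q) →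
      R ⊓ Subgroup.centralizer ({q} : Set G) = ⊥ ∧ Subgroup.centralizer ({q} : Set G) ⊔ R = ⊤ := by
    rintro q hq ⟨r, hr, hne⟩
    have hq1 : q ≠ 1 := by
      rintro rfl
      simp at hne
    have hc := hN q hq hq1
    have hnot : ¬ R ≤ Subgroup.centralizer ({q} : Set G) := by
      intro h
      exact hne (mem_C.mp (h hr)).symm
    have hsup : Subgroup.centralizer ({q} : Set G) ⊔ R = ⊤ :=
      hc.2 _ (lt_of_le_of_ne le_sup_left (fun h => hnot (by rw [h]; exact le_sup_right)))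
    refine ⟨?_, hsup⟩
    have hT : (R ⊓ Subgroup.centralizer ({q} : Set G)).Normal := by
      constructor
      intro t ht g
      have hg : g ∈ ((Subgroup.centralizer ({q} : Set G) ⊔ R : Subgroup G) : Set G) := by
        rw [hsup]; trivial
      rw [Subgroup.mul_normal] at hg
      obtain ⟨m, hm, r', hr', rfl⟩ := hg
      have h1 : (m * r') * t * (m * r')⁻¹ = m * t * m⁻¹ := by
        have h2 := hab r' hr' t ht.1
        calc (m * r') * t * (m * r')⁻¹ = m * (r' * t) * r'⁻¹ * m⁻¹ := by group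
          _ = m * (t * r') * r'⁻¹ * m⁻¹ := by rw [h2]
          _ = m * t * m⁻¹ := by group
      rw [h1]
      exact ⟨hRn.conj_mem t ht.1 m, Subgroup.mul_mem _ (Subgroup.mul_mem _ hm ht.2)
        (Subgroup.inv_mem _ hm)⟩
    rcases hmin _ hT inf_le_left with h | h
    · exact h
    · exact absurd (inf_eq_left.mp h) hnot
  -- a non-centralizing element exists
  obtain ⟨q0, hq0N, hq0⟩ : ∃ q ∈ N, ∃ r ∈ R, q * r ≠ r * q := by
    by_contra hcon
    push Not at hcon
    apply hR1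
    rw [eq_bot_iff]
    intro r hr
    rw [Subgroup.mem_bot]
    apply hZ r (hRN hr)
    intro y hy
    exact (hcon y hy r hr).symm
  have hstep1 : ∀ q ∈ N, (∃ r ∈ R, q * r ≠ r * q) → ∀ g : G, q * g * q⁻¹ * g⁻¹ ∈ R := by
    intro q hq hne g
    have hsup := (key q hq hne).2
    have hg : g ∈ ((Subgroup.centralizer ({q} : Set G) ⊔ R : Subgroup G) : Set G) := by
      rw [hsup]; trivial
    rw [Subgroup.mul_normal] at hg
    obtain ⟨m, hm, r', hr', rfl⟩ := hg
    have hmq : m * q = q * m := mem_C.mp hm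
    have h1 : q * (m * r') * q⁻¹ * (m * r')⁻¹ = m * (q * r' * q⁻¹ * r'⁻¹) * m⁻¹ := by
      calc q * (m * r') * q⁻¹ * (m * r')⁻¹ = (q * m) * r' * q⁻¹ * r'⁻¹ * m⁻¹ := by group
        _ = (m * q) * r' * q⁻¹ * r'⁻¹ * m⁻¹ := by rw [hmq]
        _ = m * (q * r' * q⁻¹ * r'⁻¹) * m⁻¹ := by group
    rw [h1]
    apply hRn.conj_mem
    exact R.mul_mem (hRn.conj_mem r' hr' q) (R.inv_mem hr')
  have hcomm : ∀ a ∈ N, ∀ g : G, a * g * a⁻¹ * g⁻¹ ∈ R := by
    intro a ha g
    by_cases hac : ∃ r ∈ R, a * r ≠ r * a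
    · exact hstep1 a ha hac g
    · push Not at hac
      obtain ⟨r0, hr0, hr0ne⟩ := hq0
      have hne : ∃ r ∈ R, (a * q0) * r ≠ r * (a * q0) := by
        refine ⟨r0, hr0, ?_⟩
        intro h
        apply hr0ne
        have h1 : a * (q0 * r0) = a * (r0 * q0) := by
          calc a * (q0 * r0) = (a * q0) * r0 := by group
            _ = r0 * (a * q0) := h
            _ = (r0 * a) * q0 := by group
            _ = (a * r0) * q0 := by rw [hac r0 hr0]
            _ = a * (r0 * q0) := by group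
        exact mul_left_cancel h1
      have h1 := hstep1 _ (N.mul_mem ha hq0N) hne g
      have h2 := hstep1 q0 hq0N ⟨r0, hr0, hr0ne⟩ g
      have h3 : a * g * a⁻¹ * g⁻¹ =
          (a * (q0 * g * q0⁻¹ * g⁻¹) * a⁻¹)⁻¹ * ((a * q0) * g * (a * q0)⁻¹ * g⁻¹) := by group
      rw [h3]
      exact R.mul_mem (R.inv_mem (hRn.conj_mem _ h2 a)) h1
  obtain ⟨hq0fix, hq0sup⟩ := key q0 hq0N hq0
  set E : Subgroup G := Subgroup.centralizer ({q0} : Set G) ⊓ N with hE
  have hq0E : q0 ∈ E := ⟨mem_C.mpr rfl, hq0N⟩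
  have hq01 : q0 ≠ 1 := by
    rintro rfl
    obtain ⟨r, _, hne⟩ := hq0
    simp at hne
  have hRE : R ⊓ E = ⊥ := by
    rw [eq_bot_iff, ← hq0fix]
    exact inf_le_inf_left _ inf_le_left
  have hEab : ∀ a ∈ E, ∀ b ∈ E, a * b = b * a := by
    intro a ha b hb
    have h1 : a * b * a⁻¹ * b⁻¹ ∈ R := hcomm a ha.2 b
    have h2 : a * b * a⁻¹ * b⁻¹ ∈ E :=
      E.mul_mem (E.mul_mem (E.mul_mem ha hb) (E.inv_mem ha)) (E.inv_mem hb)
    have h3 : a * b * a⁻¹ * b⁻¹ ∈ R ⊓ E := ⟨h1, h2⟩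
    rw [hRE, Subgroup.mem_bot] at h3
    have h4 : a * b * a⁻¹ = b := mul_inv_eq_one.mp h3
    exact (mul_inv_eq_iff_eq_mul.mp h4)
  have hdecomp : ∀ n ∈ N, ∃ r ∈ R, ∃ e ∈ E, n = r * e := by
    intro n hn
    have hg : n ∈ ((R ⊔ Subgroup.centralizer ({q0} : Set G) : Subgroup G) : Set G) := by
      rw [sup_comm, hq0sup]; trivial
    rw [Subgroup.normal_mul] at hg
    obtain ⟨r, hr, e, he, rfl⟩ := hg
    refine ⟨r, hr, e, ⟨he, ?_⟩, rfl⟩
    have : e = r⁻¹ * (r * e) := by group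
    rw [this]
    exact N.mul_mem (N.inv_mem (hRN hr)) hn
  have hnoncent : ∀ e ∈ E, e ≠ 1 → ∃ r ∈ R, e * r ≠ r * e := by
    intro e he he1
    by_contra hcon
    push Not at hcon
    apply he1
    apply hZ e he.2
    intro y hy
    obtain ⟨r, hr, f, hf, rfl⟩ := hdecomp y hy
    calc e * (r * f) = (e * r) * f := by group
      _ = (r * e) * f := by rw [hcon r hr]
      _ = r * (e * f) := by group
      _ = r * (f * e) := by rw [hEab e he f hf]
      _ = (r * f) * e := by group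
  have hfpf : ∀ e ∈ E, e ≠ 1 → ∀ r ∈ R, e * r = r * e → r = 1 := by
    intro e he he1 r hr hcommr
    have h1 := (key e he.2 (hnoncent e he he1)).1
    have h2 : r ∈ R ⊓ Subgroup.centralizer ({e} : Set G) := ⟨hr, mem_C.mpr hcommr.symm⟩
    rw [h1, Subgroup.mem_bot] at h2
    exact h2
  -- `E` is generated by any nontrivial element
  have hgen : ∀ e ∈ E, e ≠ 1 → ∀ f ∈ E, f ∈ Subgroup.zpowers e := by
    intro e he he1 f hf
    obtain ⟨x0, hx0, hx01⟩ := (R.bot_or_exists_ne_one).resolve_left hR1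
    set X : Subgroup G := R ⊔ Subgroup.zpowers e with hX
    have hXN : X ≤ N := sup_le hRN ((Subgroup.zpowers_le).mpr he.2)
    have hXn : X.Normal := by
      constructor
      intro x hx g
      have h1 := hcomm x (hXN hx) g
      have h2 : g * x * g⁻¹ = (x * g * x⁻¹ * g⁻¹)⁻¹ * x := by group
      rw [h2]
      exact X.mul_mem (X.inv_mem ((le_sup_left : R ≤ X) h1)) hx
    have hM := hN x0 (hRN hx0) hx01
    have heM : e ∉ Subgroup.centralizer ({x0} : Set G) := by
      intro h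
      exact hx01 (hfpf e he he1 x0 hx0 (mem_C.mp h))
    have hsup : Subgroup.centralizer ({x0} : Set G) ⊔ X = ⊤ := by
      apply hM.2
      refine lt_of_le_of_ne le_sup_left (fun h => heM ?_)
      rw [h]
      exact Subgroup.mem_sup_right ((le_sup_right : Subgroup.zpowers e ≤ X) (Subgroup.mem_zpowers e))
    have hf1 : f ∈ ((Subgroup.centralizer ({x0} : Set G) ⊔ X : Subgroup G) : Set G) := by
      rw [hsup]; trivial
    rw [Subgroup.mul_normal] at hf1
    obtain ⟨m, hm, x, hx, hfe⟩ := hf1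
    have hfe' : f = m * x := hfe.symm
    have hmN : m ∈ N := by
      have : m = f * x⁻¹ := by rw [hfe']; group
      rw [this]
      exact N.mul_mem hf.2 (N.inv_mem (hXN hx))
    obtain ⟨r1, hr1, e1, he1', hm1⟩ := hdecomp m hmN
    have he1triv : e1 = 1 := by
      by_contra hne
      apply hx01
      apply hfpf e1 he1' hne x0 hx0
      have h1 : m * x0 = x0 * m := mem_C.mp hm
      rw [hm1] at h1
      have h2 := hab r1 hr1 x0 hx0
      have h3 : r1 * (e1 * x0) = r1 * (x0 * e1) := by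
        calc r1 * (e1 * x0) = r1 * e1 * x0 := by group
          _ = x0 * (r1 * e1) := h1
          _ = (x0 * r1) * e1 := by group
          _ = (r1 * x0) * e1 := by rw [h2]
          _ = r1 * (x0 * e1) := by group
      exact mul_left_cancel h3
    have hmR : m ∈ R := by
      rw [hm1, he1triv, mul_one]
      exact hr1
    have hx2 : x ∈ ((R ⊔ Subgroup.zpowers e : Subgroup G) : Set G) := hx
    rw [Subgroup.normal_mul] at hx2
    obtain ⟨r2, hr2, u, hu, hxe⟩ := hx2
    have hxe' : x = r2 * u := hxe.symm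
    have huE : u ∈ E := (Subgroup.zpowers_le.mpr he) hu
    have hfu : f * u⁻¹ ∈ R ⊓ E := by
      refine ⟨?_, E.mul_mem hf (E.inv_mem huE)⟩
      have : f * u⁻¹ = m * r2 := by
        rw [hfe', hxe']
        group
      rw [this]
      exact R.mul_mem hmR hr2
    rw [hRE, Subgroup.mem_bot] at hfu
    rw [mul_inv_eq_one.mp hfu]
    exact hu
  have hEne : Nat.card E ≠ 1 := by
    intro h
    have := (Subgroup.card_eq_one).mp h
    rw [this] at hq0E
    exact hq01 (Subgroup.mem_bot.mp hq0E)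
  obtain ⟨t, ht, htdvd⟩ := Nat.exists_prime_and_dvd hEne
  have : Fact t.Prime := ⟨ht⟩
  obtain ⟨⟨e0, he0⟩, he0o⟩ := exists_prime_orderOf_dvd_card' t htdvd
  have he0o' : orderOf e0 = t := by
    rw [← he0o]
    exact (Subgroup.orderOf_mk e0 he0).symm
  have he01 : e0 ≠ 1 := by
    intro h
    rw [h, orderOf_one] at he0o'
    exact ht.ne_one he0o'.symm
  have hEz : E = Subgroup.zpowers e0 :=
    le_antisymm (fun f hf => hgen e0 he0 he01 f hf) ((Subgroup.zpowers_le).mpr he0)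
  have hcardE : (Nat.card E).Prime := by
    rw [hEz, Nat.card_zpowers, he0o']
    exact ht
  -- exponent of `R`
  have hRne : Nat.card R ≠ 1 := fun h => hR1 ((Subgroup.card_eq_one).mp h)
  obtain ⟨p, hp, hpdvd⟩ := Nat.exists_prime_and_dvd hRne
  have : Fact p.Prime := ⟨hp⟩
  let T : Subgroup G :=
    { carrier := {x | x ∈ R ∧ x ^ p = 1}
      mul_mem' := by
        rintro a b ⟨ha, ha'⟩ ⟨hb, hb'⟩
        refine ⟨R.mul_mem ha hb, ?_⟩
        have hc : Commute a b := hab a ha b hb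
        rw [hc.mul_pow, ha', hb', one_mul]
      one_mem' := ⟨R.one_mem, one_pow _⟩
      inv_mem' := by
        rintro a ⟨ha, ha'⟩
        refine ⟨R.inv_mem ha, ?_⟩
        rw [inv_pow, ha', inv_one] }
  have hTn : T.Normal := by
    constructor
    rintro x ⟨hx, hx'⟩ g
    refine ⟨hRn.conj_mem x hx g, ?_⟩
    rw [conj_pow, hx', mul_one, mul_inv_cancel]
  have hTle : T ≤ R := fun x hx => hx.1
  obtain ⟨⟨y, hy⟩, hyo⟩ := exists_prime_orderOf_dvd_card' p hpdvd
  have hyo' : orderOf y = p := by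
    rw [← hyo]
    exact (Subgroup.orderOf_mk y hy).symm
  have hTR : T = R := by
    rcases hmin T hTn hTle with h | h
    · exfalso
      have : y ∈ T := ⟨hy, by rw [← hyo']; exact pow_orderOf_eq_one y⟩
      rw [h, Subgroup.mem_bot] at this
      rw [this, orderOf_one] at hyo'
      exact hp.ne_one hyo'.symm
    · exact h
  refine ⟨E, p, inf_le_right, hRE, hdecomp, hp, ?_, hcardE, hfpf, hcomm, hgen⟩
  intro x hx
  have : x ∈ T := by rw [hTR]; exact hx
  exact this.2

end abelian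

section nonabelian

open Cfsg.Agent.Lib.PCore

variable [Finite G] {N R : Subgroup G}

/-- A minimal normal subgroup with a normal `s`-complement, `s` dividing the order, is an `s`-group. -/
theorem isPGroup_of_hasNPC [hRn : R.Normal]
    (hmin : ∀ K : Subgroup G, K.Normal → K ≤ R → K = ⊥ ∨ K = R) {s : ℕ} [hs : Fact s.Prime]
    (hdvd : s ∣ Nat.card R) (hnpc : HasNormalPComplement s R) : IsPGroup s R := by
  rw [Cfsg.Agent.Lib.NPCBasic.hasNPC_iff] at hnpc
  obtain ⟨K0, hK0n, hK0c, k, hk⟩ := hnpc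
  have hle : K0 ≤ pPrimeCore s R := le_pPrimeCore hK0n hK0c
  have hY : ((pPrimeCore s R).map R.subtype).Normal :=
    Cfsg.Agent.Lib.SuperSolv2.normal_map_subtype_of_characteristic R _
  rcases hmin _ hY (Subgroup.map_subtype_le _) with h | h
  · have h1 : pPrimeCore s R = ⊥ :=
      (Subgroup.map_eq_bot_iff_of_injective _ R.subtype_injective).mp h
    rw [h1, le_bot_iff] at hle
    subst hle
    apply IsPGroup.of_card (n := k)
    rw [← hk, Subgroup.index_bot]
  · exfalso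
    have h1 : pPrimeCore s R = ⊤ := by
      rw [eq_top_iff]
      rintro ⟨x, hx⟩ -
      rw [← h] at hx
      obtain ⟨y, hy, hyx⟩ := hx
      have : y = ⟨x, (Subgroup.map_subtype_le _) (h ▸ (by exact hx : x ∈ R) )⟩ := by
        apply Subtype.ext
        exact hyx
      rw [← this]
      exact hy
    have h2 := card_pPrimeCore_coprime (G := R) s
    rw [h1, Subgroup.card_top] at h2
    have h3 : s ∣ 1 := by
      rw [← Nat.Coprime.eq_one_of_dvd h2.symm hdvd]
    exact hs.out.one_lt.ne' (Nat.dvd_one.mp h3)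

/-- The non-abelian minimal normal subgroup case cannot occur. -/
theorem nonabelian_case (hR : HC R) [hRn : R.Normal]
    (hmin : ∀ K : Subgroup G, K.Normal → K ≤ R → K = ⊥ ∨ K = R)
    (hna : ∃ a ∈ R, ∃ b ∈ R, a * b ≠ b * a) : False := by
  -- the centre of `R` is trivial
  have hZR : ∀ x ∈ R, (∀ y ∈ R, x * y = y * x) → x = 1 := by
    intro x hx hc
    have hT : (R ⊓ Subgroup.centralizer (R : Set G)).Normal := by
      constructor
      intro t ht g
      refine ⟨hRn.conj_mem t ht.1 g, Subgroup.mem_centralizer_iff.mpr ?_⟩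
      intro h hh
      have h1 : g⁻¹ * h * g ∈ R := by
        have := hRn.conj_mem h hh g⁻¹
        simpa using this
      have h2 := Subgroup.mem_centralizer_iff.mp ht.2 _ h1
      calc h * (g * t * g⁻¹) = g * ((g⁻¹ * h * g) * t) * g⁻¹ := by group
        _ = g * (t * (g⁻¹ * h * g)) * g⁻¹ := by rw [h2]
        _ = g * t * g⁻¹ * h := by group
    rcases hmin _ hT inf_le_left with h | h
    · have : x ∈ R ⊓ Subgroup.centralizer (R : Set G) :=
        ⟨hx, Subgroup.mem_centralizer_iff.mpr fun y hy => (hc y hy).symm⟩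
      rw [h] at this
      exact Subgroup.mem_bot.mp this
    · exfalso
      obtain ⟨a, ha, b, hb, hab⟩ := hna
      have h1 : a ∈ R ⊓ Subgroup.centralizer (R : Set G) := by rw [h]; exact ha
      exact hab (Subgroup.mem_centralizer_iff.mp h1.2 b hb).symm
  -- `R` is no `p`-group
  have hnoP : ∀ (s : ℕ) [Fact s.Prime], ¬ IsPGroup s R := by
    intro s _ hP
    obtain ⟨a, ha, b, hb, hab⟩ := hna
    have hnt : Nontrivial R := by
      refine ⟨⟨⟨a, ha⟩, 1, ?_⟩⟩
      intro h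
      have h1 : a = 1 := congrArg Subtype.val h
      rw [h1] at hab
      simp at hab
    have hcn := hP.center_nontrivial
    obtain ⟨⟨⟨x, hx⟩, hxc⟩, hx1⟩ := exists_ne (1 : Subgroup.center R)
    apply hx1
    apply Subtype.ext
    apply Subtype.ext
    apply hZR x hx
    intro y hy
    have := (Subgroup.mem_center_iff.mp hxc) ⟨y, hy⟩
    exact (congrArg Subtype.val this).symm
  -- an odd prime
  obtain ⟨s, hs, hs2, hsdvd⟩ : ∃ s : ℕ, s.Prime ∧ s ≠ 2 ∧ s ∣ Nat.card R := by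
    by_contra hcon
    push Not at hcon
    have : Fact (Nat.Prime 2) := ⟨Nat.prime_two⟩
    apply hnoP 2
    apply IsPGroup.of_card (n := (Nat.card R).primeFactorsList.length)
    apply Nat.eq_prime_pow_of_unique_prime_dvd Nat.card_pos.ne'
    intro d hd hdd
    by_contra hne
    exact hcon d hd hne hdd
  have : Fact s.Prime := ⟨hs⟩
  let P' : Sylow s R := default
  have hP'p : IsPGroup s (P' : Subgroup R) := P'.isPGroup'
  have hP'card : s ∣ Nat.card (P' : Subgroup R) := by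
    have := P'.pow_dvd_card_of_pow_dvd_card (n := 1) (by simpa using hsdvd)
    simpa using this
  have hP'nt : Nontrivial (P' : Subgroup R) := by
    rw [← Finite.one_lt_card_iff_nontrivial]
    exact lt_of_lt_of_le hs.one_lt (Nat.le_of_dvd Nat.card_pos hP'card)
  have hcnP := hP'p.center_nontrivial
  have hcdvd : s ∣ Nat.card (Subgroup.center (P' : Subgroup R)) := by
    obtain ⟨n, hn, hcard⟩ := (hP'p.to_subgroup (Subgroup.center (P' : Subgroup R))).nontrivial_iff_card.mp hcnP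
    rw [hcard]
    exact dvd_pow_self s hn.ne'
  obtain ⟨⟨⟨⟨z, hzR⟩, hzP⟩, hzc⟩, hzo⟩ := exists_prime_orderOf_dvd_card' s hcdvd
  have hzo' : orderOf z = s := by
    rw [← hzo, Subgroup.orderOf_mk, Subgroup.orderOf_mk, Subgroup.orderOf_mk]
  have hz1 : z ≠ 1 := by
    intro h
    rw [h, orderOf_one] at hzo'
    exact hs.ne_one hzo'.symm
  have hPz : ∀ u (hu : u ∈ R), (⟨u, hu⟩ : R) ∈ (P' : Subgroup R) → u * z = z * u := by
    intro u hu huP
    have := (Subgroup.mem_center_iff.mp hzc) ⟨⟨u, hu⟩, huP⟩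
    exact congrArg (fun w : (P' : Subgroup R) => ((w : R) : G)) this
  set A : Subgroup G := R ⊓ Subgroup.centralizer ({z} : Set G) with hA
  have hzA : z ∈ A := ⟨hzR, mem_C.mpr rfl⟩
  have hA1 : A ≠ ⊥ := by
    intro h
    rw [h] at hzA
    exact hz1 (Subgroup.mem_bot.mp hzA)
  have hzcent : ¬ R ≤ Subgroup.centralizer ({z} : Set G) := by
    intro h
    apply hz1
    apply hZR z hzR
    intro y hy
    exact (mem_C.mp (h hy)).symm
  have hAR : A ≠ R := by
    intro h
    apply hzcent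
    rw [← h]
    exact inf_le_right
  have hnx : ∀ X : Subgroup G, X ≤ R → Subgroup.centralizer ({z} : Set G) ≤ Subgroup.normalizer (X : Set G) →
      X ≠ ⊥ → X ≠ R → Subgroup.normalizer (X : Set G) ≤ Subgroup.centralizer ({z} : Set G) := by
    intro X hXR hle hX1 hX2
    rcases (hR z hzR hz1).le_iff.mp hle with h1 | h1
    · exfalso
      have hXn : X.Normal := Subgroup.normalizer_eq_top_iff.mp h1
      rcases hmin X hXn hXR with h | h
      · exact hX1 h
      · exact hX2 h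
    · exact h1.le
  have hCA : Subgroup.centralizer ({z} : Set G) ≤ Subgroup.normalizer (A : Set G) := by
    intro m hm
    rw [Subgroup.mem_normalizer_iff]
    intro h
    constructor
    · intro hh
      exact ⟨hRn.conj_mem h hh.1 m, Subgroup.mul_mem _ (Subgroup.mul_mem _ hm hh.2) (Subgroup.inv_mem _ hm)⟩
    · intro hh
      have h1 : h = m⁻¹ * (m * h * m⁻¹) * m := by group
      rw [h1]
      refine ⟨?_, Subgroup.mul_mem _ (Subgroup.mul_mem _ (Subgroup.inv_mem _ hm) hh.2) hm⟩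
      have := hRn.conj_mem _ hh.1 m⁻¹
      simpa using this
  have hnpc : HasNormalPComplement s R := by
    by_cases hAab : ∀ a ∈ A, ∀ b ∈ A, a * b = b * a
    · -- abelian case: Burnside
      have hPA : ∀ u (hu : u ∈ R), (⟨u, hu⟩ : R) ∈ (P' : Subgroup R) → u ∈ A :=
        fun u hu huP => ⟨hu, mem_C.mpr (hPz u hu huP)⟩
      have hCu : ∀ u (hu : u ∈ R), (⟨u, hu⟩ : R) ∈ (P' : Subgroup R) → u ≠ 1 →
          R ⊓ Subgroup.centralizer ({u} : Set G) = A := by
        intro u hu huP hu1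
        have huA := hPA u hu huP
        have hAB : A ≤ R ⊓ Subgroup.centralizer ({u} : Set G) :=
          fun a ha => ⟨ha.1, mem_C.mpr (hAab a ha u huA)⟩
        by_cases hBab : ∀ a ∈ R ⊓ Subgroup.centralizer ({u} : Set G),
            ∀ b ∈ R ⊓ Subgroup.centralizer ({u} : Set G), a * b = b * a
        · apply le_antisymm _ hAB
          intro b hb
          exact ⟨hb.1, mem_C.mpr (hBab b hb z (hAB hzA))⟩
        · exfalso
          push Not at hBab
          obtain ⟨a, ha, b, hb, hab⟩ := hBab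
          have huord : ∃ j : ℕ, orderOf u = s ^ j := by
            obtain ⟨k, hk⟩ := (IsPGroup.iff_orderOf.mp hP'p) ⟨⟨u, hu⟩, huP⟩
            exact ⟨k, by rw [← hk, Subgroup.orderOf_mk, Subgroup.orderOf_mk]⟩
          obtain ⟨k, hk⟩ := card_eq_pow_of_nonabelian hR hu hu1 hs huord ha.1 ha.2 hb.2 hab
          have hBp : IsPGroup s (R ⊓ Subgroup.centralizer ({u} : Set G) : Subgroup G) :=
            IsPGroup.of_card hk
          have hBR : IsPGroup s ((R ⊓ Subgroup.centralizer ({u} : Set G)).subgroupOf R) :=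
            hBp.comap_of_injective R.subtype R.subtype_injective
          have hPle : (P' : Subgroup R) ≤ (R ⊓ Subgroup.centralizer ({u} : Set G)).subgroupOf R := by
            intro v hv
            rw [Subgroup.mem_subgroupOf]
            exact hAB (hPA v v.2 hv)
          have heq := P'.is_maximal' hBR hPle
          have h1 : (⟨a, ha.1⟩ : R) ∈ (P' : Subgroup R) := by
            rw [← heq, Subgroup.mem_subgroupOf]
            exact ha
          have h2 : (⟨b, hb.1⟩ : R) ∈ (P' : Subgroup R) := by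
            rw [← heq, Subgroup.mem_subgroupOf]
            exact hb
          exact hab (hAab a (hPA a ha.1 h1) b (hPA b hb.1 h2))
      have hstepN : ∀ h (hh : h ∈ R), (⟨h, hh⟩ : R) ∈ Subgroup.normalizer ((P' : Subgroup R) : Set R) →
          ∀ a ∈ A, h * a * h⁻¹ ∈ A := by
        intro h hh hnorm a ha
        have h1 := (Subgroup.mem_normalizer_iff.mp hnorm ⟨z, hzR⟩).mp hzP
        have h2 : h * z * h⁻¹ ≠ 1 := by
          intro h0
          apply hz1
          have : h * z * h⁻¹ = h * 1 * h⁻¹ := by rw [h0]; group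
          exact mul_left_cancel (mul_right_cancel this)
        have h3 := hCu (h * z * h⁻¹) (hRn.conj_mem z hzR h) h1 h2
        rw [← h3]
        refine ⟨hRn.conj_mem a ha.1 h, mem_C.mpr ?_⟩
        have h4 : a * z = z * a := mem_C.mp ha.2
        calc h * a * h⁻¹ * (h * z * h⁻¹) = h * (a * z) * h⁻¹ := by group
          _ = h * (z * a) * h⁻¹ := by rw [h4]
          _ = h * z * h⁻¹ * (h * a * h⁻¹) := by group
      have hNC : Subgroup.normalizer ((P' : Subgroup R) : Set R) ≤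
          Subgroup.centralizer ((P' : Subgroup R) : Set R) := by
        rintro ⟨g, hgR⟩ hg
        have hgA : g ∈ Subgroup.normalizer (A : Set G) := by
          rw [Subgroup.mem_normalizer_iff]
          intro a
          constructor
          · exact hstepN g hgR hg a
          · intro ha
            have hginv : (⟨g⁻¹, R.inv_mem hgR⟩ : R) ∈ Subgroup.normalizer ((P' : Subgroup R) : Set R) := by
              have := Subgroup.inv_mem _ hg
              exact this
            have := hstepN g⁻¹ (R.inv_mem hgR) hginv _ ha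
            have h1 : g⁻¹ * (g * a * g⁻¹) * g⁻¹⁻¹ = a := by group
            rwa [h1] at this
        have hgz := hnx A inf_le_left hCA hA1 hAR hgA
        have hgAm : g ∈ A := ⟨hgR, hgz⟩
        rw [Subgroup.mem_centralizer_iff]
        rintro ⟨u, hu⟩ huP
        apply Subtype.ext
        exact hAab u (hPA u hu huP) g hgAm
      refine ⟨P', (MonoidHom.transferSylow P' hNC).ker, inferInstance, ?_⟩
      exact MonoidHom.ker_transferSylow_isComplement' P' hNC
    · push Not at hAab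
      obtain ⟨a, ha, b, hb, hab⟩ := hAab
      obtain ⟨k, hk⟩ := card_eq_pow_of_nonabelian hR hzR hz1 hs ⟨1, by rw [hzo', pow_one]⟩ ha.1 ha.2 hb.2 hab
      have hAp : IsPGroup s A := IsPGroup.of_card hk
      have hAR' : IsPGroup s (A.subgroupOf R) := hAp.comap_of_injective R.subtype R.subtype_injective
      have hPle : (P' : Subgroup R) ≤ A.subgroupOf R := by
        rintro ⟨v, hvR⟩ hv
        rw [Subgroup.mem_subgroupOf]
        exact ⟨hvR, mem_C.mpr (hPz v hvR hv)⟩
      have heq := P'.is_maximal' hAR' hPle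
      have hmapP : (P' : Subgroup R).map R.subtype = A := by
        rw [← heq]
        exact Subgroup.map_subgroupOf_eq_of_le inf_le_left
      set W' := centerThompsonAOf (P' : Subgroup R) with hW'
      have hWmap : W'.map R.subtype = centerThompsonAOf A := by
        rw [hW', Cfsg.Agent.Lib.PStab.map_centerThompsonAOf R.subtype
          (fun x _ hx => R.subtype_injective (by simpa using hx)), hmapP]
      set W := centerThompsonAOf A with hW
      have hWA : W ≤ A := Cfsg.Agent.Lib.PStab.centerThompsonAOf_le A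
      have hW1 : W ≠ ⊥ := Cfsg.Agent.Lib.ZJFusion.centerThompsonAOf_ne_bot hAp hA1
      have hWab : ∀ x ∈ W, ∀ y ∈ W, x * y = y * x := by
        intro x hx y hy
        exact (Subgroup.mem_centralizer_iff.mp hy.2 x hx.1)
      have hWR : W ≠ R := by
        intro h
        obtain ⟨a', ha', b', hb', hab'⟩ := hna
        exact hab' (hWab a' (h ▸ ha') b' (h ▸ hb'))
      have hCW : Subgroup.centralizer ({z} : Set G) ≤ Subgroup.normalizer (W : Set G) :=
        fun m hm => Cfsg.Agent.Lib.ZJFusion.mem_normalizer_ZJ (hCA hm)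
      have hnW := hnx W (hWA.trans inf_le_left) hCW hW1 hWR
      have hNP : Subgroup.normalizer (W' : Set R) ≤ (P' : Subgroup R) := by
        rintro ⟨g, hgR⟩ hg
        have hgW : g ∈ Subgroup.normalizer (W : Set G) := by
          rw [Subgroup.mem_normalizer_iff]
          intro x
          constructor
          · intro hx
            rw [← hWmap] at hx ⊢
            obtain ⟨w, hw, rfl⟩ := hx
            refine ⟨(⟨g, hgR⟩ : R) * w * (⟨g, hgR⟩ : R)⁻¹, ?_, rfl⟩
            exact (Subgroup.mem_normalizer_iff.mp hg w).mp hw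
          · intro hx
            have hxW := hx
            rw [← hWmap] at hx ⊢
            have hxR : x ∈ R := by
              have h1 : g * x * g⁻¹ ∈ R := hWA.trans inf_le_left hxW
              have h2 : x = g⁻¹ * (g * x * g⁻¹) * g := by group
              rw [h2]
              exact R.mul_mem (R.mul_mem (R.inv_mem hgR) h1) hgR
            refine ⟨⟨x, hxR⟩, ?_, rfl⟩
            refine (Subgroup.mem_normalizer_iff.mp hg ⟨x, hxR⟩).mpr ?_
            obtain ⟨w, hw, hwe⟩ := hx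
            have : (⟨g, hgR⟩ : R) * ⟨x, hxR⟩ * (⟨g, hgR⟩ : R)⁻¹ = w := by
              apply Subtype.ext
              exact hwe.symm
            rw [this]
            exact hw
        have hgz := hnW hgW
        rw [← heq, Subgroup.mem_subgroupOf]
        exact ⟨hgR, hgz⟩
      have hN' : HasNormalPComplement s (Subgroup.normalizer ((centerThompsonAOf (P' : Subgroup R) : Subgroup R) : Set R)) :=
        Cfsg.Agent.Lib.NPCBasic.hasNPC_of_isPGroup (hP'p.to_le hNP)
      exact Cfsg.Agent.S0659.result hs2 P' hN'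
  exact hnoP s (isPGroup_of_hasNPC hmin hsdvd hnpc)

end nonabelian

section core

variable [Finite G]

/-- The structure theorem in the centreless case. -/
theorem core {N : Subgroup G} [hNn : N.Normal] (hN : HC N)
    (hZ : ∀ x ∈ N, (∀ y ∈ N, x * y = y * x) → x = 1) (hne : N ≠ ⊥) :
    ∃ (R Q : Subgroup G) (p : ℕ), R.Normal ∧ R ≤ N ∧ R ≠ ⊥ ∧
      (∀ K : Subgroup G, K.Normal → K ≤ R → K = ⊥ ∨ K = R) ∧
      (∀ a ∈ R, ∀ b ∈ R, a * b = b * a) ∧ Q ≤ N ∧ R ⊓ Q = ⊥ ∧ (∀ n ∈ N, ∃ r ∈ R, ∃ e ∈ Q, n = r * e) ∧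
      p.Prime ∧ (∀ x ∈ R, x ^ p = 1) ∧ (Nat.card Q).Prime ∧
      (∀ e ∈ Q, e ≠ 1 → ∀ r ∈ R, e * r = r * e → r = 1) ∧ (∀ a ∈ N, ∀ g : G, a * g * a⁻¹ * g⁻¹ ∈ R) ∧
      (∀ e ∈ Q, e ≠ 1 → ∀ f ∈ Q, f ∈ Subgroup.zpowers e) := by
  obtain ⟨R, hRn, hR1, hRN, hmin⟩ := Cfsg.Agent.Lib.MinNorm.exists_minimal_normal_le N hNn hne
  by_cases hab : ∀ a ∈ R, ∀ b ∈ R, a * b = b * a
  · obtain ⟨Q, p, h1, h2, h3, h4, h5, h6, h7, h8, h9⟩ := abelian_case hN hZ hRN hR1 hmin hab
    exact ⟨R, Q, p, hRn, hRN, hR1, hmin, hab, h1, h2, h3, h4, h5, h6, h7, h8, h9⟩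
  · exfalso
    push Not at hab
    exact nonabelian_case (hN.mono hRN) hmin hab

end core

section reduction

variable {N Z : Subgroup G} [hNn : N.Normal] [hZn : Z.Normal]

/-- The centralizer modulo `Z`. -/
theorem comap_C_eq [Finite G] (hZ : ∀ x, x ∈ Z ↔ x ∈ N ∧ ∀ y ∈ N, x * y = y * x)
    (h : ∀ x ∈ N, x ∉ Z → IsCoatom (Subgroup.centralizer ({x} : Set G)))
    {y : G} (hy : y ∈ N) (hyZ : y ∉ Z) {n : G} (hn : y * n * y⁻¹ * n⁻¹ ∉ Z) :
    (Subgroup.centralizer ({(QuotientGroup.mk y : G ⧸ Z)} : Set (G ⧸ Z))).comap (QuotientGroup.mk' Z) =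
      Subgroup.centralizer ({y} : Set G) := by
  have hle : Subgroup.centralizer ({y} : Set G) ≤
      (Subgroup.centralizer ({(QuotientGroup.mk y : G ⧸ Z)} : Set (G ⧸ Z))).comap (QuotientGroup.mk' Z) := by
    intro g hg
    rw [Subgroup.mem_comap, mem_C]
    show (QuotientGroup.mk g : G ⧸ Z) * QuotientGroup.mk y = QuotientGroup.mk y * QuotientGroup.mk g
    rw [← QuotientGroup.mk_mul, ← QuotientGroup.mk_mul, mem_C.mp hg]
  rcases (h y hy hyZ).le_iff.mp hle with h1 | h1
  · exfalso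
    apply hn
    have h2 : n ∈ (Subgroup.centralizer ({(QuotientGroup.mk y : G ⧸ Z)} : Set (G ⧸ Z))).comap (QuotientGroup.mk' Z) := by
      rw [h1]; trivial
    rw [Subgroup.mem_comap, mem_C] at h2
    have h3 : (QuotientGroup.mk n : G ⧸ Z) * QuotientGroup.mk y = QuotientGroup.mk y * QuotientGroup.mk n := h2
    rw [← QuotientGroup.mk_mul, ← QuotientGroup.mk_mul, eq_comm, QuotientGroup.eq] at h3
    have h4 : y * n * y⁻¹ * n⁻¹ = (y * n) * ((y * n)⁻¹ * (n * y))⁻¹ * (y * n)⁻¹ := by group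
    rw [h4]
    exact hZn.conj_mem _ (Z.inv_mem h3) (y * n)
  · exact h1

/-- Second centre dichotomy. -/
theorem dichotomy [Finite G] (hZ : ∀ x, x ∈ Z ↔ x ∈ N ∧ ∀ y ∈ N, x * y = y * x)
    (h : ∀ x ∈ N, x ∉ Z → IsCoatom (Subgroup.centralizer ({x} : Set G))) :
    (∀ a ∈ N, ∀ b ∈ N, a * b * a⁻¹ * b⁻¹ ∈ Z) ∨
      ∀ t ∈ N, (∀ y ∈ N, t * y * t⁻¹ * y⁻¹ ∈ Z) → t ∈ Z := by
  by_cases h1 : ∀ a ∈ N, ∀ b ∈ N, a * b * a⁻¹ * b⁻¹ ∈ Z
  · exact Or.inl h1
  · right
    push Not at h1
    obtain ⟨y0, hy0, n0, hn0, hne0⟩ := h1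
    intro t ht hty
    have hZle : Z ≤ N := fun x hx => ((hZ x).mp hx).1
    -- elements outside the second centre commute with `t`
    have step : ∀ y ∈ N, ∀ n ∈ N, y * n * y⁻¹ * n⁻¹ ∉ Z → t * y = y * t := by
      intro y hy n hn hne
      have hyZ : y ∉ Z := by
        intro hyZ
        apply hne
        have : y * n * y⁻¹ * n⁻¹ = 1 := by
          rw [((hZ y).mp hyZ).2 n hn]
          group
        rw [this]
        exact Z.one_mem
      have heq := comap_C_eq hZ h hy hyZ hne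
      have htm : t ∈ Subgroup.centralizer ({y} : Set G) := by
        rw [← heq, Subgroup.mem_comap, mem_C]
        show (QuotientGroup.mk t : G ⧸ Z) * QuotientGroup.mk y = QuotientGroup.mk y * QuotientGroup.mk t
        rw [← QuotientGroup.mk_mul, ← QuotientGroup.mk_mul, eq_comm, QuotientGroup.eq]
        have h5 : (y * t)⁻¹ * (t * y) = y⁻¹ * t⁻¹ * (t * y * t⁻¹ * y⁻¹) * t * y := by group
        rw [h5]
        have h6 := hZn.conj_mem _ (hty y hy) (y⁻¹ * t⁻¹)
        have h7 : y⁻¹ * t⁻¹ * (t * y * t⁻¹ * y⁻¹) * t * y =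
            (y⁻¹ * t⁻¹) * (t * y * t⁻¹ * y⁻¹) * (y⁻¹ * t⁻¹)⁻¹ := by group
        rw [h7]
        exact h6
      exact mem_C.mp htm
    rw [hZ]
    refine ⟨ht, ?_⟩
    intro y hy
    by_cases hy2 : ∀ n ∈ N, y * n * y⁻¹ * n⁻¹ ∈ Z
    · -- `y * y0` is outside the second centre
      have hyy0 : (y * y0) * n0 * (y * y0)⁻¹ * n0⁻¹ ∉ Z := by
        intro hmem
        apply hne0
        have h3 : y0 * n0 * y0⁻¹ * n0⁻¹ =
            y⁻¹ * (((y * y0) * n0 * (y * y0)⁻¹ * n0⁻¹) * (y * n0 * y⁻¹ * n0⁻¹)⁻¹) * y := by group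
        rw [h3]
        have h6 := hZn.conj_mem _ (Z.mul_mem hmem (Z.inv_mem (hy2 n0 hn0))) y⁻¹
        simpa using h6
      have h1 := step (y * y0) (N.mul_mem hy hy0) n0 hn0 hyy0
      have h2 := step y0 hy0 n0 hn0 hne0
      have h3 : t * y * y0 = y * t * y0 := by
        calc t * y * y0 = t * (y * y0) := by group
          _ = y * y0 * t := h1
          _ = y * (y0 * t) := by group
          _ = y * (t * y0) := by rw [h2]
          _ = y * t * y0 := by group
      exact mul_right_cancel h3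
    · push Not at hy2
      obtain ⟨n, hn, hne⟩ := hy2
      exact step y hy n hn hne

/-- Each element of `N` has a prime power in `Z` when `N/Z` is abelian. -/
theorem exists_prime_pow_mem [Finite G] (hZ : ∀ x, x ∈ Z ↔ x ∈ N ∧ ∀ y ∈ N, x * y = y * x)
    (h : ∀ x ∈ N, x ∉ Z → IsCoatom (Subgroup.centralizer ({x} : Set G)))
    (h2 : ∀ a ∈ N, ∀ b ∈ N, a * b * a⁻¹ * b⁻¹ ∈ Z) {x : G} (hx : x ∈ N) :
    ∃ r : ℕ, r.Prime ∧ x ^ r ∈ Z := by
  by_cases hxZ : x ∈ Z
  · exact ⟨2, Nat.prime_two, Z.pow_mem hxZ 2⟩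
  have hZN : Z ≤ N := fun z hz => ((hZ z).mp hz).1
  have hZcomm : ∀ z ∈ Z, ∀ n ∈ N, z * n = n * z := fun z hz n hn => ((hZ z).mp hz).2 n hn
  -- the commutator map
  let c : G → G := fun n => x * n * x⁻¹ * n⁻¹
  have hcZ : ∀ n ∈ N, c n ∈ Z := fun n hn => h2 x hx n hn
  have hcmul : ∀ a ∈ N, ∀ b ∈ N, c (a * b) = c a * c b := by
    intro a ha b hb
    have h6 : (x * b * x⁻¹ * b⁻¹) * a⁻¹ = a⁻¹ * (x * b * x⁻¹ * b⁻¹) :=
      hZcomm _ (hcZ b hb) _ (N.inv_mem ha)
    show x * (a * b) * x⁻¹ * (a * b)⁻¹ = (x * a * x⁻¹ * a⁻¹) * (x * b * x⁻¹ * b⁻¹)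
    calc x * (a * b) * x⁻¹ * (a * b)⁻¹ = x * a * x⁻¹ * ((x * b * x⁻¹ * b⁻¹) * a⁻¹) := by group
      _ = x * a * x⁻¹ * (a⁻¹ * (x * b * x⁻¹ * b⁻¹)) := by rw [h6]
      _ = (x * a * x⁻¹ * a⁻¹) * (x * b * x⁻¹ * b⁻¹) := by group
  have hcone : c 1 = 1 := by
    show x * 1 * x⁻¹ * 1⁻¹ = 1
    group
  have hcpow : ∀ n ∈ N, ∀ k : ℕ, c (n ^ k) = c n ^ k := by
    intro n hn k
    induction k with
    | zero => rw [pow_zero, pow_zero, hcone]
    | succ k ih =>
      rw [pow_succ, hcmul _ (N.pow_mem hn k) _ hn, ih, pow_succ]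
  have hcinv : ∀ a ∈ N, c a⁻¹ = (c a)⁻¹ := by
    intro a ha
    have h1 := hcmul a ha a⁻¹ (N.inv_mem ha)
    rw [mul_inv_cancel, hcone] at h1
    exact (inv_eq_of_mul_eq_one_right h1.symm).symm
  -- a noncommuting element
  obtain ⟨n0, hn0, hne0⟩ : ∃ n ∈ N, x * n ≠ n * x := by
    by_contra hcon
    push Not at hcon
    exact hxZ ((hZ x).mpr ⟨hx, hcon⟩)
  have hc0 : c n0 ≠ 1 := by
    intro h1
    apply hne0
    have h3 : x * n0 * x⁻¹ = n0 := mul_inv_eq_one.mp h1
    exact mul_inv_eq_iff_eq_mul.mp h3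
  have ho1 : orderOf (c n0) ≠ 1 := by
    rw [Ne, orderOf_eq_one_iff]
    exact hc0
  obtain ⟨r, hr, o', ho'⟩ := Nat.exists_prime_and_dvd ho1
  have hopos : 0 < orderOf (c n0) := orderOf_pos _
  have ho'pos : 0 < o' := by
    rcases Nat.eq_zero_or_pos o' with h0 | h0
    · rw [h0, mul_zero] at ho'
      omega
    · exact h0
  have ho'lt : o' < orderOf (c n0) := by
    rw [ho']
    calc o' = 1 * o' := (one_mul _).symm
      _ < r * o' := Nat.mul_lt_mul_of_pos_right hr.one_lt ho'pos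
  set n1 := n0 ^ o' with hn1
  have hn1N : n1 ∈ N := N.pow_mem hn0 _
  have hcn1 : c n1 ≠ 1 := by
    rw [hn1, hcpow n0 hn0]
    exact pow_ne_one_of_lt_orderOf ho'pos.ne' ho'lt
  have hcn1r : c n1 ^ r = 1 := by
    rw [hn1, hcpow n0 hn0, ← pow_mul, mul_comm, ← ho', pow_orderOf_eq_one]
  -- the subgroup `X`
  let X : Subgroup G :=
    { carrier := {n | n ∈ N ∧ c n ^ r = 1}
      mul_mem' := by
        rintro a b ⟨ha, ha'⟩ ⟨hb, hb'⟩
        refine ⟨N.mul_mem ha hb, ?_⟩
        have hcm : Commute (c a) (c b) := hZcomm _ (hcZ a ha) _ (hZN (hcZ b hb))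
        rw [hcmul a ha b hb, hcm.mul_pow, ha', hb', one_mul]
      one_mem' := ⟨N.one_mem, by rw [hcone, one_pow]⟩
      inv_mem' := by
        rintro a ⟨ha, ha'⟩
        refine ⟨N.inv_mem ha, ?_⟩
        rw [hcinv a ha, inv_pow, ha', inv_one] }
  have hXN : X ≤ N := fun n hn => hn.1
  have hM := h x hx hxZ
  have hCcomm : ∀ n ∈ N, n ∈ Subgroup.centralizer ({x} : Set G) → c n = 1 := by
    intro n _ hm
    have h1 : n * x = x * n := mem_C.mp hm
    show x * n * x⁻¹ * n⁻¹ = 1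
    rw [← h1]
    group
  have hZX : Z ≤ X := by
    intro z hz
    refine ⟨hZN hz, ?_⟩
    rw [hCcomm z (hZN hz) (mem_C.mpr (hZcomm z hz x hx)), one_pow]
  have hn1X : n1 ∈ X := ⟨hn1N, hcn1r⟩
  have hn1M : n1 ∉ Subgroup.centralizer ({x} : Set G) := fun hm => hcn1 (hCcomm n1 hn1N hm)
  have hn0M : n0 ∉ Subgroup.centralizer ({x} : Set G) := fun hm => hne0 (mem_C.mp hm).symm
  have hsupN : Subgroup.centralizer ({x} : Set G) ⊔ N = ⊤ := by
    apply hM.2
    refine lt_of_le_of_ne le_sup_left (fun he => hn0M ?_)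
    rw [he]
    exact Subgroup.mem_sup_right hn0
  have hXn : X.Normal := by
    constructor
    intro u hu g
    have hg : g ∈ ((Subgroup.centralizer ({x} : Set G) ⊔ N : Subgroup G) : Set G) := by
      rw [hsupN]; trivial
    rw [Subgroup.mul_normal] at hg
    obtain ⟨m, hm, n', hn', rfl⟩ := hg
    have h1 : n' * u * n'⁻¹ ∈ X := by
      have h3 : n' * u * n'⁻¹ = (n' * u * n'⁻¹ * u⁻¹) * u := by group
      rw [h3]
      exact X.mul_mem (hZX (h2 n' hn' u (hXN hu))) hu
    have h4 : m * (n' * u * n'⁻¹) * m⁻¹ ∈ X := by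
      set v := n' * u * n'⁻¹ with hv
      have hvN : v ∈ N := hXN h1
      refine ⟨hNn.conj_mem v hvN m, ?_⟩
      have hmx : m * x = x * m := mem_C.mp hm
      have h5 : c (m * v * m⁻¹) = m * c v * m⁻¹ := by
        show x * (m * v * m⁻¹) * x⁻¹ * (m * v * m⁻¹)⁻¹ = m * (x * v * x⁻¹ * v⁻¹) * m⁻¹
        have h6 : x * (m * v * m⁻¹) * x⁻¹ = m * (x * v * x⁻¹) * m⁻¹ := by
          calc x * (m * v * m⁻¹) * x⁻¹ = (x * m) * v * (x * m)⁻¹ := by group
            _ = (m * x) * v * (m * x)⁻¹ := by rw [hmx]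
            _ = m * (x * v * x⁻¹) * m⁻¹ := by group
        rw [h6]
        group
      rw [h5, conj_pow, h1.2, mul_one, mul_inv_cancel]
    have h8 : (m * n') * u * (m * n')⁻¹ = m * (n' * u * n'⁻¹) * m⁻¹ := by group
    rw [h8]
    exact h4
  have hsupX : Subgroup.centralizer ({x} : Set G) ⊔ X = ⊤ := by
    apply hM.2
    refine lt_of_le_of_ne le_sup_left (fun he => hn1M ?_)
    rw [he]
    exact Subgroup.mem_sup_right hn1X
  have hNX : N ≤ X := by
    intro n hn
    have hg : n ∈ ((Subgroup.centralizer ({x} : Set G) ⊔ X : Subgroup G) : Set G) := by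
      rw [hsupX]; trivial
    rw [Subgroup.mul_normal] at hg
    obtain ⟨m, hm, u, hu, hnu⟩ := hg
    have hn' : n = m * u := hnu.symm
    have hmN : m ∈ N := by
      have : m = n * u⁻¹ := by rw [hn']; group
      rw [this]
      exact N.mul_mem hn (N.inv_mem (hXN hu))
    have hmX : m ∈ X := ⟨hmN, by rw [hCcomm m hmN hm, one_pow]⟩
    rw [hn']
    exact X.mul_mem hmX hu
  refine ⟨r, hr, ?_⟩
  rw [hZ]
  refine ⟨N.pow_mem hx r, ?_⟩
  intro n hn
  have hcn : c n ^ r = 1 := (hNX hn).2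
  have hiter : ∀ k : ℕ, x ^ k * n * (x ^ k)⁻¹ = c n ^ k * n := by
    intro k
    induction k with
    | zero => simp
    | succ k ih =>
      have hxc : x * c n ^ k = c n ^ k * x :=
        (hZcomm _ (Z.pow_mem (hcZ n hn) k) x hx).symm
      have h1 : x * n * x⁻¹ = c n * n := by
        show x * n * x⁻¹ = (x * n * x⁻¹ * n⁻¹) * n
        group
      calc x ^ (k + 1) * n * (x ^ (k + 1))⁻¹ = x * (x ^ k * n * (x ^ k)⁻¹) * x⁻¹ := by
            rw [pow_succ']
            group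
        _ = x * (c n ^ k * n) * x⁻¹ := by rw [ih]
        _ = (x * c n ^ k) * n * x⁻¹ := by group
        _ = (c n ^ k * x) * n * x⁻¹ := by rw [hxc]
        _ = c n ^ k * (x * n * x⁻¹) := by group
        _ = c n ^ k * (c n * n) := by rw [h1]
        _ = c n ^ (k + 1) * n := by rw [pow_succ]; group
  have h3 := hiter r
  rw [hcn, one_mul] at h3
  exact mul_inv_eq_iff_eq_mul.mp h3

/-- A common prime. -/
theorem exists_common_prime [Finite G] (hZ : ∀ x, x ∈ Z ↔ x ∈ N ∧ ∀ y ∈ N, x * y = y * x)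
    (h : ∀ x ∈ N, x ∉ Z → IsCoatom (Subgroup.centralizer ({x} : Set G)))
    (h2 : ∀ a ∈ N, ∀ b ∈ N, a * b * a⁻¹ * b⁻¹ ∈ Z) :
    ∃ p : ℕ, p.Prime ∧ ∀ x ∈ N, x ^ p ∈ Z := by
  by_cases hall : N ≤ Z
  · exact ⟨2, Nat.prime_two, fun x hx => Z.pow_mem (hall hx) 2⟩
  obtain ⟨x0, hx0, hx0Z⟩ := Set.not_subset.mp hall
  obtain ⟨p, hp, hpx⟩ := exists_prime_pow_mem hZ h h2 hx0
  refine ⟨p, hp, ?_⟩
  intro y hy
  by_cases hyZ : y ∈ Z
  · exact Z.pow_mem hyZ p
  obtain ⟨q, hq, hqy⟩ := exists_prime_pow_mem hZ h h2 hy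
  by_cases hpq : q = p
  · rw [← hpq]; exact hqy
  exfalso
  obtain ⟨t, ht, hty⟩ := exists_prime_pow_mem hZ h h2 (N.mul_mem hx0 hy)
  have : Fact p.Prime := ⟨hp⟩
  have : Fact q.Prime := ⟨hq⟩
  have hop : orderOf (QuotientGroup.mk x0 : G ⧸ Z) = p := by
    apply orderOf_eq_prime
    · rw [← QuotientGroup.mk_pow]
      exact (QuotientGroup.eq_one_iff _).mpr hpx
    · intro he
      exact hx0Z ((QuotientGroup.eq_one_iff _).mp he)
  have hoq : orderOf (QuotientGroup.mk y : G ⧸ Z) = q := by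
    apply orderOf_eq_prime
    · rw [← QuotientGroup.mk_pow]
      exact (QuotientGroup.eq_one_iff _).mpr hqy
    · intro he
      exact hyZ ((QuotientGroup.eq_one_iff _).mp he)
  have hcomm : Commute (QuotientGroup.mk x0 : G ⧸ Z) (QuotientGroup.mk y) := by
    show (QuotientGroup.mk x0 : G ⧸ Z) * QuotientGroup.mk y = QuotientGroup.mk y * QuotientGroup.mk x0
    rw [← QuotientGroup.mk_mul, ← QuotientGroup.mk_mul, eq_comm, QuotientGroup.eq]
    have h3 := h2 x0⁻¹ (N.inv_mem hx0) y⁻¹ (N.inv_mem hy)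
    have h4 : (y * x0)⁻¹ * (x0 * y) = x0⁻¹ * y⁻¹ * x0⁻¹⁻¹ * y⁻¹⁻¹ := by group
    rw [h4]
    exact h3
  have hcop : Nat.Coprime (orderOf (QuotientGroup.mk x0 : G ⧸ Z)) (orderOf (QuotientGroup.mk y : G ⧸ Z)) := by
    rw [hop, hoq]
    exact (Nat.coprime_primes hp hq).mpr (Ne.symm hpq)
  have ho := hcomm.orderOf_mul_eq_mul_orderOf_of_coprime hcop
  rw [hop, hoq] at ho
  have h5 : (QuotientGroup.mk x0 * QuotientGroup.mk y : G ⧸ Z) ^ t = 1 := by
    rw [← QuotientGroup.mk_mul, ← QuotientGroup.mk_pow]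
    exact (QuotientGroup.eq_one_iff _).mpr hty
  have h6 := orderOf_dvd_of_pow_eq_one h5
  rw [ho] at h6
  have h7 : p = t := (Nat.prime_dvd_prime_iff_eq hp ht).mp ((Dvd.intro _ rfl).trans h6)
  have h8 : q = t := (Nat.prime_dvd_prime_iff_eq hq ht).mp ((Dvd.intro_left _ rfl).trans h6)
  exact hpq (h8.trans h7.symm)

/-- Centreless case: pass to the quotient by `Z`. -/
theorem quot_HC [Finite G] (hZ : ∀ x, x ∈ Z ↔ x ∈ N ∧ ∀ y ∈ N, x * y = y * x)
    (h : ∀ x ∈ N, x ∉ Z → IsCoatom (Subgroup.centralizer ({x} : Set G)))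
    (h3 : ∀ t ∈ N, (∀ y ∈ N, t * y * t⁻¹ * y⁻¹ ∈ Z) → t ∈ Z) :
    HC (N.map (QuotientGroup.mk' Z)) ∧
      ∀ x ∈ N.map (QuotientGroup.mk' Z), (∀ y ∈ N.map (QuotientGroup.mk' Z), x * y = y * x) → x = 1 := by
  constructor
  · rintro _ ⟨x, hx, rfl⟩ hx1
    have hxZ : x ∉ Z := fun hz => hx1 ((QuotientGroup.eq_one_iff _).mpr hz)
    obtain ⟨n, _, hne⟩ : ∃ n ∈ N, x * n * x⁻¹ * n⁻¹ ∉ Z := by
      by_contra hcon
      push Not at hcon
      exact hxZ (h3 x hx hcon)
    have heq := comap_C_eq hZ h hx hxZ hne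
    have hZle : Z ≤ Subgroup.centralizer ({x} : Set G) := by
      intro z hz
      rw [← heq, Subgroup.mem_comap]
      have : (QuotientGroup.mk' Z) z = 1 := (QuotientGroup.eq_one_iff _).mpr hz
      rw [this]
      exact Subgroup.one_mem _
    have hmap : Subgroup.centralizer ({(QuotientGroup.mk x : G ⧸ Z)} : Set (G ⧸ Z)) =
        (Subgroup.centralizer ({x} : Set G)).map (QuotientGroup.mk' Z) := by
      rw [← heq, Subgroup.map_comap_eq_self_of_surjective (QuotientGroup.mk'_surjective Z)]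
    show IsCoatom (Subgroup.centralizer ({(QuotientGroup.mk x : G ⧸ Z)} : Set (G ⧸ Z)))
    rw [hmap]
    exact Cfsg.Agent.Lib.SuperSolv2.isCoatom_map_mk (h x hx hxZ) hZle
  · rintro _ ⟨x, hx, rfl⟩ hcomm
    apply (QuotientGroup.eq_one_iff _).mpr
    apply h3 x hx
    intro y hy
    have h1 := hcomm _ ⟨y, hy, rfl⟩
    have h2 : (QuotientGroup.mk x : G ⧸ Z) * QuotientGroup.mk y = QuotientGroup.mk y * QuotientGroup.mk x := h1
    rw [← QuotientGroup.mk_mul, ← QuotientGroup.mk_mul, eq_comm, QuotientGroup.eq] at h2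
    have h4 : x * y * x⁻¹ * y⁻¹ = (y * x) * ((y * x)⁻¹ * (x * y)) * (y * x)⁻¹ := by group
    rw [h4]
    exact hZn.conj_mem _ h2 (y * x)

end reduction

section frob

open Cfsg.Agent.Lib.PCore

variable [Finite G]

/-- Frobenius structure from the decomposition. -/
theorem frobenius_of_decomp {K Q : Subgroup G} [hKn : K.Normal] (hK1 : K ≠ ⊥) (hKQ : K ⊓ Q = ⊥)
    (hdec : ∀ y : G, ∃ k ∈ K, ∃ e ∈ Q, y = k * e) (hQp : (Nat.card Q).Prime)
    (hfpf : ∀ e ∈ Q, e ≠ 1 → ∀ r ∈ K, e * r = r * e → r = 1) :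
    IsFrobeniusComplement Q ∧ (K : Set G) = frobeniusKernel Q := by
  have hmemK : ∀ x, x ∈ K → x ∈ Q → x = 1 := by
    intro x h1 h2
    have : x ∈ K ⊓ Q := ⟨h1, h2⟩
    rw [hKQ] at this
    exact Subgroup.mem_bot.mp this
  refine ⟨⟨?_, ?_, ?_⟩, ?_⟩
  · intro h
    rw [h, Subgroup.card_bot] at hQp
    exact Nat.not_prime_one hQp
  · intro h
    apply hK1
    rw [h, inf_top_eq] at hKQ
    exact hKQ
  · intro g hg
    rw [eq_bot_iff]
    rintro x ⟨hxQ, hxc⟩
    rw [Subgroup.mem_bot]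
    by_contra hx1
    have hxc' : g⁻¹ * x * g ∈ Q := mem_conj_smul_iff.mp hxc
    obtain ⟨k, hk, e, he, rfl⟩ := hdec g
    have hk1 : k ≠ 1 := by
      rintro rfl
      apply hg
      simpa using he
    set y := e * ((k * e)⁻¹ * x * (k * e)) * e⁻¹ with hy
    have hyQ : y ∈ Q := Q.mul_mem (Q.mul_mem he hxc') (Q.inv_mem he)
    have hxy : x = k * y * k⁻¹ := by
      rw [hy]
      group
    have hy1 : y ≠ 1 := by
      intro h
      apply hx1
      rw [hxy, h]
      group
    have h1 : x * y⁻¹ ∈ Q := Q.mul_mem hxQ (Q.inv_mem hyQ)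
    have h2 : x * y⁻¹ ∈ K := by
      have h3 : x * y⁻¹ = k * (y * k⁻¹ * y⁻¹) := by
        rw [hxy]
        group
      rw [h3]
      exact K.mul_mem hk (hKn.conj_mem _ (K.inv_mem hk) y)
    have h4 := hmemK _ h2 h1
    have h5 : x = y := mul_inv_eq_one.mp h4
    have h6 : y * k = k * y := by
      have h7 : y = k * y * k⁻¹ := by
        rw [← hxy]
        exact h5.symm
      have h8 : y * k = k * y * k⁻¹ * k := by
        exact congrArg (· * k) h7
      rw [h8]
      group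
    exact hk1 (hfpf y hyQ hy1 k hk h6)
  · ext x
    constructor
    · intro hx
      by_cases hx1 : x = 1
      · exact Or.inl hx1
      · right
        intro g hg
        have h1 : g⁻¹ * x * g ∈ Q := mem_conj_smul_iff.mp hg
        have h2 : g⁻¹ * x * g ∈ K := by
          have := hKn.conj_mem x hx g⁻¹
          simpa using this
        have h3 := hmemK _ h2 h1
        apply hx1
        have h4 : x = g * (g⁻¹ * x * g) * g⁻¹ := by group
        rw [h4, h3]
        group
    · rintro (rfl | hx)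
      · exact K.one_mem
      · obtain ⟨k, hk, e, he, rfl⟩ := hdec x
        by_cases he1 : e = 1
        · rw [he1, mul_one]
          exact hk
        · exfalso
          -- `k' ↦ [k', e]` is injective on `K`, so onto
          let φ : K → K := fun a => ⟨a * (e * (a : G)⁻¹ * e⁻¹), K.mul_mem a.2 (hKn.conj_mem _ (K.inv_mem a.2) e)⟩
          have hφ : Function.Injective φ := by
            intro a b hab
            have h1 : (a : G) * (e * (a : G)⁻¹ * e⁻¹) = (b : G) * (e * (b : G)⁻¹ * e⁻¹) :=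
              congrArg Subtype.val hab
            have h2 : e * ((b : G)⁻¹ * a) = ((b : G)⁻¹ * a) * e := by
              have h3 : (b : G)⁻¹ * a * (e * (a : G)⁻¹ * e⁻¹) = e * (b : G)⁻¹ * e⁻¹ := by
                calc (b : G)⁻¹ * a * (e * (a : G)⁻¹ * e⁻¹) = (b : G)⁻¹ * ((a : G) * (e * (a : G)⁻¹ * e⁻¹)) := by group
                  _ = (b : G)⁻¹ * ((b : G) * (e * (b : G)⁻¹ * e⁻¹)) := by rw [h1]
                  _ = e * (b : G)⁻¹ * e⁻¹ := by group
              have h4 : (b : G)⁻¹ * a * e * (a : G)⁻¹ = e * (b : G)⁻¹ := by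
                calc (b : G)⁻¹ * a * e * (a : G)⁻¹ = ((b : G)⁻¹ * a * (e * (a : G)⁻¹ * e⁻¹)) * e := by group
                  _ = (e * (b : G)⁻¹ * e⁻¹) * e := by rw [h3]
                  _ = e * (b : G)⁻¹ := by group
              calc e * ((b : G)⁻¹ * a) = (e * (b : G)⁻¹) * a := by group
                _ = ((b : G)⁻¹ * a * e * (a : G)⁻¹) * a := by rw [h4]
                _ = ((b : G)⁻¹ * a) * e := by group
            have h5 := hfpf e he he1 _ (K.mul_mem (K.inv_mem b.2) a.2) h2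
            apply Subtype.ext
            exact (inv_mul_eq_one.mp h5).symm
          obtain ⟨a, ha⟩ := (Finite.injective_iff_surjective.mp hφ) ⟨k, hk⟩
          have ha' : (a : G) * (e * (a : G)⁻¹ * e⁻¹) = k := congrArg Subtype.val ha
          apply hx (a : G)
          apply mem_conj_smul_iff.mpr
          have h1 : (a : G)⁻¹ * (k * e) * a = e := by
            rw [← ha']
            group
          rw [h1]
          exact he

end frob

end Cfsg.Agent.Lib.MaxCent
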