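import Mathlib
import Cfsg.Agent.Lib.PGrp
import Cfsg.Agent.Lib.Frat
import Cfsg.Agent.Lib.Replacement
import Cfsg.Agent.Lib.SuperSolv2
import Cfsg.Agent.Lib.PComplement
import Cfsg.Agent.S0130
import Cfsg.Agent.S0128

/-!
# Two-groups of maximal class (Taussky)
-/

set_option autoImplicit false

namespace Cfsg.Agent.Lib.MaxClassTwo

open scoped commutatorElement

universe u

section
variable {X : Type*} [Group X] [Finite X]

lemma eq_top_of_index_prime {p : ℕ} (hp : p.Prime) {C W : Subgroup X} (hC : C.index = p)
    (hle : C ≤ W) (hne : W ≠ C) : W = ⊤ := by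
  have hd : W.index ∣ C.index := Subgroup.index_dvd_of_le hle
  rw [hC, Nat.dvd_prime hp] at hd
  rcases hd with hd | hd
  · exact Subgroup.index_eq_one.1 hd
  · exfalso
    apply hne
    symm
    apply Subgroup.eq_of_le_of_card_ge hle
    have e1 := Subgroup.card_mul_index C
    have e2 := Subgroup.card_mul_index W
    have e3 : Nat.card C * C.index = Nat.card W * C.index := by
      rw [e1, hC, ← hd, e2]
    have := Nat.eq_of_mul_eq_mul_right (Nat.pos_of_ne_zero (by rw [hC]; exact hp.ne_zero)) e3
    exact this.symm.le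

/-- For an abelian subgroup `C` of index two and `g ∉ C`: `|C_C(g)| |X'| = |C|`. -/
theorem card_fix (C : Subgroup X) (hC : C.index = 2) (hab : ∀ a ∈ C, ∀ b ∈ C, a * b = b * a)
    {g : X} (hg : g ∉ C) :
    Nat.card ↥(C ⊓ Subgroup.centralizer ({g} : Set X)) * Nat.card (commutator X) = Nat.card C := by
  classical
  haveI hCn : C.Normal := Subgroup.normal_of_index_eq_two hC
  have hg2 : g * g ∈ C := Subgroup.mul_self_mem_of_index_two hC g
  have hmem : ∀ u : C, (u : X)⁻¹ * (g * u * g⁻¹) ∈ C := fun u =>
    mul_mem (inv_mem u.2) (hCn.conj_mem _ u.2 g)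
  let δ : C →* C := MonoidHom.mk' (fun u => ⟨_, hmem u⟩) (by
    intro a b
    apply Subtype.ext
    show ((a : X) * b)⁻¹ * (g * ((a : X) * b) * g⁻¹) = ((a : X)⁻¹ * (g * a * g⁻¹)) * ((b : X)⁻¹ * (g * b * g⁻¹))
    have h1 : (b : X)⁻¹ * ((a : X)⁻¹ * (g * a * g⁻¹)) = ((a : X)⁻¹ * (g * a * g⁻¹)) * (b : X)⁻¹ :=
      hab _ (inv_mem b.2) _ (hmem a)
    calc ((a : X) * b)⁻¹ * (g * ((a : X) * b) * g⁻¹)
        = ((b : X)⁻¹ * ((a : X)⁻¹ * (g * a * g⁻¹))) * (g * b * g⁻¹) := by group
      _ = (((a : X)⁻¹ * (g * a * g⁻¹)) * (b : X)⁻¹) * (g * b * g⁻¹) := by rw [h1]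
      _ = _ := by group)
  have hδ : ∀ u : C, ((δ u : C) : X) = (u : X)⁻¹ * (g * u * g⁻¹) := fun u => rfl
  -- kernel
  have hker : δ.ker.map C.subtype = C ⊓ Subgroup.centralizer ({g} : Set X) := by
    ext x
    constructor
    · rintro ⟨u, hu, rfl⟩
      refine Subgroup.mem_inf.2 ⟨u.2, ?_⟩
      rw [Subgroup.mem_centralizer_singleton_iff]
      have h1 : ((δ u : C) : X) = 1 := by
        have hu' : δ u = 1 := hu
        rw [hu']; rfl
      rw [hδ] at h1
      have h2 : g * u * g⁻¹ = u := by
        calc g * u * g⁻¹ = (u : X) * ((u : X)⁻¹ * (g * u * g⁻¹)) := by group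
          _ = u := by rw [h1, mul_one]
      show (u : X) * g = g * u
      calc (u : X) * g = (g * u * g⁻¹) * g := by rw [h2]
        _ = g * u := by group
    · intro hx
      obtain ⟨hx1, hx2⟩ := Subgroup.mem_inf.1 hx
      rw [Subgroup.mem_centralizer_singleton_iff] at hx2
      refine ⟨⟨x, hx1⟩, ?_, rfl⟩
      show δ ⟨x, hx1⟩ = 1
      apply Subtype.ext
      rw [hδ]
      show x⁻¹ * (g * x * g⁻¹) = 1
      rw [← hx2]
      group
  -- range
  set R : Subgroup X := δ.range.map C.subtype with hR
  have hRmem : ∀ u : C, (u : X)⁻¹ * (g * u * g⁻¹) ∈ R := fun u => ⟨δ u, ⟨u, rfl⟩, rfl⟩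
  have hRC : R ≤ C := by
    rintro _ ⟨v, -, rfl⟩
    exact v.2
  have hRnorm : R.Normal := by
    have hsup : (Subgroup.zpowers g) ⊔ C = ⊤ := by
      apply eq_top_of_index_prime Nat.prime_two hC le_sup_right
      intro he
      apply hg
      rw [← he]
      exact Subgroup.mem_sup_left (Subgroup.mem_zpowers g)
    have hgR : g ∈ Subgroup.normalizer (R : Set X) := by
      apply Cfsg.Agent.Lib.Replacement.mem_normalizer_of_forall
      rintro _ ⟨_, ⟨u, rfl⟩, rfl⟩
      -- `g δ(u) g⁻¹ = δ(u⁻¹)`
      have hc1 : (g * g) * (u : X) = u * (g * g) := hab _ hg2 _ u.2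
      have e : g * ((u : X)⁻¹ * (g * u * g⁻¹)) * g⁻¹ = ((u⁻¹ : C) : X)⁻¹ * (g * ((u⁻¹ : C) : X) * g⁻¹) := by
        have h2 : (g * (u : X)⁻¹ * g⁻¹) * u = u * (g * (u : X)⁻¹ * g⁻¹) :=
          hab _ (hCn.conj_mem _ (inv_mem u.2) g) _ u.2
        have h3 : g * ((u : X)⁻¹ * (g * u * g⁻¹)) * g⁻¹ = (g * (u : X)⁻¹ * g⁻¹) * ((g * g) * u * (g * g)⁻¹) := by
          group
        rw [h3, hc1]
        simp only [Subgroup.coe_inv, inv_inv]
        have h4 : (g * (u : X)⁻¹ * g⁻¹) * ((u : X) * (g * g) * (g * g)⁻¹) = (g * (u : X)⁻¹ * g⁻¹) * u := by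
          group
        rw [h4, h2]
      show g * (((δ u : C) : X)) * g⁻¹ ∈ R
      rw [hδ, e]
      exact hRmem _
    rw [← Subgroup.normalizer_eq_top_iff, eq_top_iff, ← hsup]
    apply sup_le
    · rw [Subgroup.zpowers_le]
      exact hgR
    · intro c hc
      apply Cfsg.Agent.Lib.Replacement.mem_normalizer_of_forall
      intro r hr
      rw [hab c hc r (hRC hr)]
      simpa using hr
  haveI := hRnorm
  have hRX : R = commutator X := by
    apply le_antisymm
    · rintro _ ⟨_, ⟨u, rfl⟩, rfl⟩
      show ((δ u : C) : X) ∈ commutator X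
      rw [hδ]
      have := Subgroup.commutator_mem_commutator (Subgroup.mem_top (u : X)⁻¹) (Subgroup.mem_top g)
      have e : ⁅(u : X)⁻¹, g⁆ = (u : X)⁻¹ * (g * u * g⁻¹) := by
        rw [commutatorElement_def]; group
      rw [e] at this
      exact this
    · have hcl : Subgroup.closure ((C : Set X) ∪ {g}) = ⊤ := by
        apply eq_top_of_index_prime Nat.prime_two hC
        · exact fun a ha => Subgroup.subset_closure (Or.inl ha)
        · intro he
          apply hg
          rw [← he]
          exact Subgroup.subset_closure (Or.inr rfl)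
      have key := Cfsg.Agent.S0130.comm_mod_closure R ((C : Set X) ∪ {g}) (by
        rintro x (hx | hx) y (hy | hy)
        · rw [hab x hx y hy]
          simp
        · rw [Set.mem_singleton_iff] at hy
          rw [hy]
          have := hRmem (⟨x, hx⟩ : C)⁻¹
          simp only [Subgroup.coe_inv, inv_inv] at this
          convert this using 1
          group
        · rw [Set.mem_singleton_iff] at hx
          rw [hx]
          have := inv_mem (hRmem (⟨y, hy⟩ : C)⁻¹)
          simp only [Subgroup.coe_inv, inv_inv] at this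
          convert this using 1
          group
        · rw [Set.mem_singleton_iff] at hx hy
          rw [hx, hy]
          simp)
      rw [commutator_def, Subgroup.commutator_le]
      intro x _ y _
      rw [commutatorElement_def]
      exact key x (by rw [hcl]; trivial) y (by rw [hcl]; trivial)
  have h1 : Nat.card ↥(C ⊓ Subgroup.centralizer ({g} : Set X)) = Nat.card δ.ker := by
    rw [← hker]
    exact Subgroup.card_map_of_injective C.subtype_injective
  have h2 : Nat.card (commutator X) = Nat.card δ.range := by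
    rw [← hRX, hR]
    exact Subgroup.card_map_of_injective C.subtype_injective
  rw [h1, h2, ← Subgroup.index_ker, Subgroup.card_mul_index]

end

/-- **Taussky.** A group of order `2 ^ n`, `n ≥ 3`, with `|X : X'| = 4` has a cyclic subgroup of index two. -/
theorem taussky (m : ℕ) : ∀ (X : Type u) [Group X] [Finite X], Nat.card X = 2 ^ (m + 3) →
    4 * Nat.card (commutator X) = Nat.card X → ∃ c : X, (Subgroup.zpowers c).index = 2 := by
  classical
  induction m with
  | zero =>
    intro X _ _ hX hX'
    have hcX : Nat.card (commutator X) = 2 := by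
      rw [hX] at hX'
      norm_num at hX'
      omega
    by_contra hno
    push Not at hno
    -- all elements have order at most two
    have hall : ∀ x : X, x * x = 1 := by
      intro x
      have h1 : orderOf x ∣ 2 ^ 3 := by
        have := orderOf_dvd_natCard x
        rw [hX] at this
        exact this
      obtain ⟨k, hk, hk2⟩ := (Nat.dvd_prime_pow Nat.prime_two).1 h1
      interval_cases k
      · have : x = 1 := by
          rw [← orderOf_eq_one_iff, hk2, pow_zero]
        simp [this]
      · have h5 : x ^ (2 ^ 1) = 1 := by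
          rw [← hk2]; exact pow_orderOf_eq_one x
        simpa [sq] using h5
      · exfalso
        apply hno x
        have h2 := Subgroup.card_mul_index (Subgroup.zpowers x)
        rw [Nat.card_zpowers, hk2, hX] at h2
        omega
      · exfalso
        have h2 := Subgroup.card_mul_index (Subgroup.zpowers x)
        rw [Nat.card_zpowers, hk2, hX] at h2
        have h3 : (Subgroup.zpowers x).index = 1 := by omega
        have h4 : Subgroup.zpowers x = ⊤ := Subgroup.index_eq_one.1 h3
        have hcom : commutator X = ⊥ := by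
          rw [commutator_def, eq_bot_iff, Subgroup.commutator_le]
          intro a _ b _
          have ha : a ∈ Subgroup.zpowers x := by rw [h4]; trivial
          have hb : b ∈ Subgroup.zpowers x := by rw [h4]; trivial
          obtain ⟨i, rfl⟩ := Subgroup.mem_zpowers_iff.1 ha
          obtain ⟨j, rfl⟩ := Subgroup.mem_zpowers_iff.1 hb
          rw [Subgroup.mem_bot, commutatorElement_eq_one_iff_mul_comm]
          exact Commute.zpow_zpow_self x i j
        rw [hcom, Subgroup.card_bot] at hcX
        omega
    have hcom : commutator X = ⊥ := by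
      rw [commutator_def, eq_bot_iff, Subgroup.commutator_le]
      intro a _ b _
      rw [Subgroup.mem_bot, commutatorElement_def]
      have h1 := hall (a * b)
      have h2 : a⁻¹ = a := inv_eq_of_mul_eq_one_left (hall a)
      have h3 : b⁻¹ = b := inv_eq_of_mul_eq_one_left (hall b)
      rw [h2, h3]
      calc a * b * a * b = a * b * (a * b) := by group
        _ = 1 := h1
    rw [hcom, Subgroup.card_bot] at hcX
    omega
  | succ m ih =>
    intro X _ _ hX hX'
    have hP : IsPGroup 2 X := IsPGroup.of_card hX
    have hcX : Nat.card (commutator X) = 2 ^ (m + 2) := by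
      rw [hX] at hX'
      have e : 2 ^ (m + 1 + 3) = 4 * 2 ^ (m + 2) := by ring
      rw [e] at hX'
      omega
    have hXne : commutator X ≠ ⊥ := by
      intro h
      rw [h, Subgroup.card_bot] at hcX
      have : 1 < 2 ^ (m + 2) := Nat.one_lt_two_pow (by omega)
      omega
    obtain ⟨y, hyX, hy1, hyc⟩ := Cfsg.Agent.Lib.PGrp.exists_central_mem_normal hP (commutator X) hXne
    have hdy : 2 ∣ orderOf y := by
      obtain ⟨s, hs⟩ := IsPGroup.iff_orderOf.1 hP y
      rcases s with _ | s
      · rw [pow_zero] at hs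
        exact absurd (orderOf_eq_one_iff.1 hs) hy1
      · rw [hs]; exact dvd_pow_self 2 (by omega)
    set z := y ^ (orderOf y / 2) with hz
    have hzo : orderOf z = 2 := orderOf_pow_orderOf_div (orderOf_pos y).ne' hdy
    have hzX : z ∈ commutator X := pow_mem hyX _
    have hzc : z ∈ Subgroup.center X := pow_mem hyc _
    have hzz : z * z = 1 := by
      rw [← sq, ← hzo]
      exact pow_orderOf_eq_one z
    have hz1 : z ≠ 1 := by
      intro h
      rw [h, orderOf_one] at hzo
      omega
    set N : Subgroup X := Subgroup.zpowers z with hN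
    have hNcen : N ≤ Subgroup.center X := by
      rw [hN, Subgroup.zpowers_le]; exact hzc
    haveI hNn : N.Normal := by
      constructor
      intro a ha g
      have : g * a * g⁻¹ = a := by
        have h1 := (Subgroup.mem_center_iff.1 (hNcen ha) g)
        rw [h1]; group
      rw [this]; exact ha
    have hNcard : Nat.card N = 2 := by rw [hN, Nat.card_zpowers, hzo]
    have hNmem : ∀ n ∈ N, n = 1 ∨ n = z := by
      intro n hn
      obtain ⟨j, rfl⟩ := Subgroup.mem_zpowers_iff.1 hn
      rcases Int.even_or_odd' j with ⟨k, rfl | rfl⟩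
      · left
        rw [zpow_mul, zpow_ofNat, sq, hzz, one_zpow]
      · right
        rw [zpow_add, zpow_mul, zpow_ofNat, sq, hzz, one_zpow, one_mul, zpow_one]
    have hNsq : ∀ n ∈ N, n * n = 1 := by
      intro n hn
      rcases hNmem n hn with rfl | rfl
      · simp
      · exact hzz
    let π := QuotientGroup.mk' N
    have hπ : Function.Surjective π := QuotientGroup.mk'_surjective N
    have hπker : ∀ u : X, π u = 1 ↔ u ∈ N := fun u => QuotientGroup.eq_one_iff u
    have hQcard : Nat.card (X ⧸ N) = 2 ^ (m + 3) := by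
      have h1 := Subgroup.card_eq_card_quotient_mul_card_subgroup N
      rw [hX, hNcard] at h1
      have e : 2 ^ (m + 1 + 3) = 2 ^ (m + 3) * 2 := by ring
      rw [e] at h1
      exact (Nat.eq_of_mul_eq_mul_right (by norm_num) h1).symm
    have hQ' : commutator (X ⧸ N) = (commutator X).map π := by
      rw [commutator_def, commutator_def, Subgroup.map_commutator, Subgroup.map_top_of_surjective π hπ]
    have hNX' : N ≤ commutator X := by
      rw [hN, Subgroup.zpowers_le]; exact hzX
    have hQ'card : Nat.card (commutator (X ⧸ N)) = 2 ^ (m + 1) := by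
      rw [hQ']
      have h1 := Cfsg.Agent.Lib.SuperSolv2.card_map_mk_of_le N (commutator X) hNX'
      rw [hNcard, hcX] at h1
      have e : 2 ^ (m + 2) = 2 ^ (m + 1) * 2 := by ring
      rw [e] at h1
      exact Nat.eq_of_mul_eq_mul_right (by norm_num) h1
    obtain ⟨cb, hcb⟩ := ih (X ⧸ N) hQcard (by rw [hQ'card, hQcard]; ring)
    obtain ⟨c, rfl⟩ := hπ cb
    set C : Subgroup X := (Subgroup.zpowers (π c)).comap π with hC
    have hCi : C.index = 2 := by
      rw [hC, Subgroup.index_comap_of_surjective _ hπ, hcb]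
    have hcC : c ∈ C := Subgroup.mem_zpowers (π c)
    have hNC : N ≤ C := by
      intro n hn
      rw [hC, Subgroup.mem_comap, (hπker n).2 hn]
      exact one_mem _
    have hCform : ∀ u ∈ C, ∃ k : ℤ, ∃ n ∈ N, u = c ^ k * n := by
      intro u hu
      obtain ⟨k, hk⟩ := Subgroup.mem_zpowers_iff.1 hu
      refine ⟨k, (c ^ k)⁻¹ * u, ?_, by group⟩
      rw [← hπker, map_mul, map_inv, map_zpow]
      rw [← hk]
      group
    have hab : ∀ a ∈ C, ∀ b ∈ C, a * b = b * a := by
      intro a ha b hb
      obtain ⟨i, n, hn, rfl⟩ := hCform a ha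
      obtain ⟨j, n', hn', rfl⟩ := hCform b hb
      have h1 : n * c ^ j = c ^ j * n := Subgroup.mem_center_iff.1 (hNcen hn) _ |>.symm
      have h2 : n' * c ^ i = c ^ i * n' := Subgroup.mem_center_iff.1 (hNcen hn') _ |>.symm
      have h3 : n * n' = n' * n := Subgroup.mem_center_iff.1 (hNcen hn) _ |>.symm
      have h4 : c ^ i * c ^ j = c ^ j * c ^ i := Commute.zpow_zpow_self c i j
      calc c ^ i * n * (c ^ j * n') = c ^ i * (n * c ^ j) * n' := by group
        _ = (c ^ i * c ^ j) * (n * n') := by rw [h1]; group
        _ = (c ^ j * c ^ i) * (n' * n) := by rw [h4, h3]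
        _ = c ^ j * (c ^ i * n') * n := by group
        _ = c ^ j * (n' * c ^ i) * n := by rw [h2]
        _ = _ := by group
    haveI hCn : C.Normal := Subgroup.normal_of_index_eq_two hCi
    have hCtop : C ≠ ⊤ := by
      rintro h
      rw [h, Subgroup.index_top] at hCi
      omega
    obtain ⟨g, hg⟩ : ∃ g, g ∉ C := by
      by_contra hall
      push Not at hall
      exact hCtop (eq_top_iff.2 fun u _ => hall u)
    have hCcard : Nat.card C = 2 ^ (m + 3) := by
      have h1 := Subgroup.card_mul_index C
      rw [hCi, hX] at h1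
      have e : 2 ^ (m + 1 + 3) = 2 ^ (m + 3) * 2 := by ring
      rw [e] at h1
      exact Nat.eq_of_mul_eq_mul_right (by norm_num) h1
    have hfix := card_fix C hCi hab hg
    set W : Subgroup X := C ⊓ Subgroup.centralizer ({g} : Set X) with hW
    have hWcard : Nat.card W = 2 := by
      rw [hcX, hCcard] at hfix
      have e : 2 ^ (m + 3) = 2 * 2 ^ (m + 2) := by ring
      rw [e] at hfix
      exact Nat.eq_of_mul_eq_mul_right (by positivity) hfix
    have hNW : N ≤ W := by
      intro n hn
      refine Subgroup.mem_inf.2 ⟨hNC hn, ?_⟩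
      rw [Subgroup.mem_centralizer_singleton_iff]
      exact Subgroup.mem_center_iff.1 (hNcen hn) g |>.symm
    have hWN : N = W := by
      apply Subgroup.eq_of_le_of_card_ge hNW
      rw [hWcard, hNcard]
    by_cases hzc' : z ∈ Subgroup.zpowers c
    · refine ⟨c, ?_⟩
      have : Subgroup.zpowers c = C := by
        apply le_antisymm
        · rw [Subgroup.zpowers_le]; exact hcC
        · intro u hu
          obtain ⟨k, n, hn, rfl⟩ := hCform u hu
          refine mul_mem (zpow_mem (Subgroup.mem_zpowers c) k) ?_
          rcases hNmem n hn with rfl | rfl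
          · exact one_mem _
          · exact hzc'
      rw [this]
      exact hCi
    · exfalso
      have hordπ : orderOf (π c) = 2 ^ (m + 2) := by
        have h1 := Subgroup.card_mul_index (Subgroup.zpowers (π c))
        rw [Nat.card_zpowers, hcb, hQcard] at h1
        have e : 2 ^ (m + 3) = 2 ^ (m + 2) * 2 := by ring
        rw [e] at h1
        exact Nat.eq_of_mul_eq_mul_right (by norm_num) h1
      set t := c ^ 2 ^ (m + 1) with ht
      have ht1 : t ≠ 1 := by
        intro h
        have h1 : (π c) ^ 2 ^ (m + 1) = 1 := by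
          rw [← map_pow, ← ht, h, map_one]
        have h2 := orderOf_dvd_of_pow_eq_one h1
        rw [hordπ] at h2
        have h3 := Nat.le_of_dvd (by positivity) h2
        have h4 : 2 ^ (m + 1) < 2 ^ (m + 2) := Nat.pow_lt_pow_right (by norm_num) (by omega)
        omega
      have ht2 : t * t = 1 := by
        have h1 : t * t ∈ N := by
          rw [← hπker, ← sq, ht, ← pow_mul, ← pow_succ, map_pow, ← hordπ, pow_orderOf_eq_one]
        rcases hNmem _ h1 with h2 | h2
        · exact h2
        · exfalso
          apply hzc'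
          rw [← h2, ht]
          exact mul_mem (pow_mem (Subgroup.mem_zpowers c) _) (pow_mem (Subgroup.mem_zpowers c) _)
      -- `g` fixes `t`
      obtain ⟨k, n, hn, hgc⟩ := hCform _ (hCn.conj_mem c hcC g)
      have hgc2 : g * (c * c) * g⁻¹ = (c ^ k) * (c ^ k) := by
        have h1 : g * (c * c) * g⁻¹ = (g * c * g⁻¹) * (g * c * g⁻¹) := by group
        rw [h1, hgc]
        have h2 : n * c ^ k = c ^ k * n := Subgroup.mem_center_iff.1 (hNcen hn) _ |>.symm
        calc c ^ k * n * (c ^ k * n) = c ^ k * (n * c ^ k) * n := by group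
          _ = c ^ k * (c ^ k * n) * n := by rw [h2]
          _ = (c ^ k * c ^ k) * (n * n) := by group
          _ = _ := by rw [hNsq n hn, mul_one]
      have ht3 : t = (c * c) ^ 2 ^ m := by
        rw [ht, ← sq, ← pow_mul, pow_succ' 2 m]
      have hgt : g * t * g⁻¹ = t ^ k := by
        rw [ht3, ← conj_pow, hgc2]
        have e1 : c ^ k * c ^ k = c ^ (2 * k) := by rw [two_mul, zpow_add]
        have e2 : c * c = c ^ (2 : ℤ) := by rw [zpow_ofNat, sq]
        rw [e1, e2]
        calc (c ^ (2 * k)) ^ 2 ^ m = c ^ ((2 * k) * ((2 ^ m : ℕ) : ℤ)) := by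
              rw [zpow_mul c (2 * k), zpow_natCast]
          _ = c ^ (((2 : ℤ) * ((2 ^ m : ℕ) : ℤ)) * k) := by
              congr 1; ring
          _ = ((c ^ (2 : ℤ)) ^ 2 ^ m) ^ k := by
              rw [zpow_mul, zpow_mul, zpow_natCast]
      have hgt' : g * t * g⁻¹ = t := by
        rcases Int.even_or_odd' k with ⟨q, rfl | rfl⟩
        · exfalso
          rw [zpow_mul, zpow_ofNat, sq, ht2, one_zpow] at hgt
          apply ht1
          have : t = g⁻¹ * (g * t * g⁻¹) * g := by group
          rw [this, hgt]
          group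
        · rw [zpow_add, zpow_mul, zpow_ofNat, sq, ht2, one_zpow, one_mul, zpow_one] at hgt
          exact hgt
      have htW : t ∈ W := by
        refine Subgroup.mem_inf.2 ⟨pow_mem hcC _, ?_⟩
        rw [Subgroup.mem_centralizer_singleton_iff]
        calc t * g = (g * t * g⁻¹) * g := by rw [hgt']
          _ = g * t := by group
      rw [← hWN] at htW
      rcases hNmem t htW with h1 | h1
      · exact ht1 h1
      · apply hzc'
        rw [← h1, ht]
        exact pow_mem (Subgroup.mem_zpowers c) _

end Cfsg.Agent.Lib.MaxClassTwo
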