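import Mathlib
import Cfsg.Agent.Lib.MaxClassTwo
import Cfsg.Agent.Lib.InvolutionDihedral
import Cfsg.Agent.S0112

/-!
# Two-groups of maximal class, continued
-/

set_option autoImplicit false

namespace Cfsg.Agent.Lib.MaxClassTwo2

open scoped commutatorElement
open Cfsg.Agent.Lib.MaxClassTwo

universe u

variable {X : Type u} [Group X] [Finite X]

/-- A `p`-group with cyclic abelianization is cyclic. -/
theorem isCyclic_of_quotient {p : ℕ} [Fact p.Prime] (hP : IsPGroup p X)
    (h : IsCyclic (X ⧸ commutator X)) : IsCyclic X := by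
  classical
  obtain ⟨q, hq⟩ := h.exists_generator
  obtain ⟨g, rfl⟩ := QuotientGroup.mk'_surjective (commutator X) q
  have hsup : Subgroup.zpowers g ⊔ commutator X = ⊤ := by
    rw [eq_top_iff]
    intro u _
    obtain ⟨k, hk⟩ := Subgroup.mem_zpowers_iff.1 (hq (QuotientGroup.mk' (commutator X) u))
    have h1 : (g ^ k)⁻¹ * u ∈ commutator X := by
      rw [← QuotientGroup.eq_one_iff]
      have e : ((QuotientGroup.mk' (commutator X) g) ^ k) = QuotientGroup.mk' (commutator X) (g ^ k) := by
        rw [map_zpow]
      rw [e] at hk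
      have hk' : ((g ^ k : X) : X ⧸ commutator X) = (u : X ⧸ commutator X) := hk
      rw [QuotientGroup.mk_mul, QuotientGroup.mk_inv, hk']
      group
    have : u = g ^ k * ((g ^ k)⁻¹ * u) := by group
    rw [this]
    exact mul_mem (Subgroup.mem_sup_left (Subgroup.zpow_mem_zpowers _ _)) (Subgroup.mem_sup_right h1)
  have hfr : Subgroup.zpowers g ⊔ frattini X = ⊤ := by
    rw [eq_top_iff, ← hsup]
    exact sup_le_sup_left (Cfsg.Agent.Lib.Frat.commutator_le_frattini hP) _
  have hzp := frattini_nongenerating hfr
  exact ⟨⟨g, fun u => by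
    have : u ∈ Subgroup.zpowers g := by rw [hzp]; trivial
    exact this⟩⟩

lemma commutator_eq_bot_of_isCyclic (h : IsCyclic X) : commutator X = ⊥ := by
  letI := h.commGroup
  exact (commutator_eq_bot_iff_center_eq_top X).2
    (eq_top_iff.2 fun u _ => Subgroup.mem_center_iff.2 fun v => mul_comm v u)

/-- The index of the commutator subgroup of a nonabelian `p`-group is at least `p ^ 2`. -/
theorem sq_le_index {p : ℕ} [hpf : Fact p.Prime] (hP : IsPGroup p X) (hne : commutator X ≠ ⊥) :
    p ^ 2 ≤ (commutator X).index := by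
  have hpp : p.Prime := hpf.out
  obtain ⟨k, hk⟩ := (hP.to_quotient (commutator X)).exists_card_eq
  have hk' : (commutator X).index = p ^ k := hk
  rw [hk']
  refine Nat.pow_le_pow_right hpp.pos ?_
  by_contra hlt
  have hcyc : IsCyclic (X ⧸ commutator X) := by
    have hk1 : k = 0 ∨ k = 1 := by omega
    rcases hk1 with rfl | rfl
    · rw [pow_zero] at hk
      haveI : Subsingleton (X ⧸ commutator X) := (Nat.card_eq_one_iff_unique.1 hk).1
      infer_instance
    · rw [pow_one] at hk
      exact isCyclic_of_prime_card hk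
  exact hne (commutator_eq_bot_of_isCyclic (isCyclic_of_quotient hP hcyc))

/-- Class `n - 1` forces `|X : X'| = 4`. -/
theorem four_mul_of_class {n : ℕ} (hn : 3 ≤ n) (hX : Nat.card X = 2 ^ n)
    (hc : Group.nilpotencyClass X = n - 1) : 4 * Nat.card (commutator X) = Nat.card X := by
  classical
  have hP : IsPGroup 2 X := IsPGroup.of_card hX
  haveI hnil : Group.IsNilpotent X := hP.isNilpotent
  let γ : ℕ → Subgroup X := Subgroup.lowerCentralSeries (⊤ : Subgroup X)
  have hγn : ∀ k, (γ k).Normal := fun k => inferInstance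
  have hγne : ∀ k, k < n - 1 → γ k ≠ ⊥ := by
    intro k hk h0
    have := (Subgroup.lowerCentralSeries_eq_bot_iff_nilpotencyClass_le (n := k)).1 h0
    omega
  have hbound : ∀ j, j ≤ n - 1 → 2 ^ j ≤ Nat.card (γ (n - 1 - j)) := by
    intro j
    induction j with
    | zero =>
      intro _
      rw [pow_zero]
      exact Nat.card_pos
    | succ j ih =>
      intro hj
      have h1 := ih (by omega)
      have h2 : n - 1 - j = (n - 1 - (j + 1)) + 1 := by omega
      rw [h2] at h1
      have hlt := Cfsg.Agent.S0128.comm_lt hP (γ (n - 1 - (j + 1))) (hγne _ (by omega))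
      have h3 := Cfsg.Agent.S0128.card_mul_le hP hlt
      have h4 : γ ((n - 1 - (j + 1)) + 1) = ⁅γ (n - 1 - (j + 1)), (⊤ : Subgroup X)⁆ := rfl
      rw [h4] at h1
      rw [pow_succ, mul_comm]
      exact (Nat.mul_le_mul_left 2 h1).trans h3
  have h1 := hbound (n - 2) (by omega)
  have h2 : n - 1 - (n - 2) = 1 := by omega
  rw [h2] at h1
  have hγ1 : γ 1 = commutator X := Subgroup.top_lowerCentralSeries_one
  rw [hγ1] at h1
  have hne : commutator X ≠ ⊥ := by
    rw [← hγ1]
    exact hγne 1 (by omega)
  have hidx := sq_le_index hP hne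
  have h3 := Subgroup.card_mul_index (commutator X)
  have e : 2 ^ n = 4 * 2 ^ (n - 2) := by
    obtain ⟨k, rfl⟩ : ∃ k, n = k + 2 := ⟨n - 2, by omega⟩
    simp only [Nat.add_sub_cancel]
    ring
  apply le_antisymm
  · rw [← h3, mul_comm]
    exact Nat.mul_le_mul_left _ (by simpa using hidx)
  · rw [hX, e]
    exact Nat.mul_le_mul_left _ h1

/-- From the index condition: the abelianization is a Klein four-group. -/
theorem isKleinFour_of_four_mul {n : ℕ} (hn : 3 ≤ n) (hX : Nat.card X = 2 ^ n)
    (h4 : 4 * Nat.card (commutator X) = Nat.card X) : IsKleinFour (X ⧸ commutator X) := by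
  classical
  have hP : IsPGroup 2 X := IsPGroup.of_card hX
  have hne : commutator X ≠ ⊥ := by
    intro h
    rw [h, Subgroup.card_bot] at h4
    have : 2 ^ 3 ≤ 2 ^ n := Nat.pow_le_pow_right (by norm_num) hn
    omega
  have hcard : Nat.card (X ⧸ commutator X) = 4 := by
    have h1 := Subgroup.card_eq_card_quotient_mul_card_subgroup (commutator X)
    rw [← h4] at h1
    have hpos : 0 < Nat.card (commutator X) := Nat.card_pos
    exact (Nat.eq_of_mul_eq_mul_right hpos h1).symm
  have hnotcyc : ¬ IsCyclic (X ⧸ commutator X) := fun h =>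
    hne (commutator_eq_bot_of_isCyclic (isCyclic_of_quotient hP h))
  have hsq : ∀ q : X ⧸ commutator X, q ^ 2 = 1 := by
    intro q
    have h1 : orderOf q ∣ 2 ^ 2 := by
      have := orderOf_dvd_natCard q
      rwa [hcard] at this
    obtain ⟨k, hk, hk2⟩ := (Nat.dvd_prime_pow Nat.prime_two).1 h1
    interval_cases k
    · have : q = 1 := by
        rw [← orderOf_eq_one_iff, hk2, pow_zero]
      simp [this]
    · have h5 : q ^ (2 ^ 1) = 1 := by
        rw [← hk2]; exact pow_orderOf_eq_one q
      simpa using h5
    · exfalso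
      apply hnotcyc
      apply isCyclic_of_orderOf_eq_card q
      rw [hk2, hcard]
      norm_num
  have hexp : Monoid.exponent (X ⧸ commutator X) = 2 := by
    have hd : Monoid.exponent (X ⧸ commutator X) ∣ 2 := Monoid.exponent_dvd_of_forall_pow_eq_one hsq
    rcases (Nat.dvd_prime Nat.prime_two).1 hd with h1 | h1
    · exfalso
      have := Monoid.exp_eq_one_iff.1 h1
      rw [Nat.card_of_subsingleton (1 : X ⧸ commutator X)] at hcard
      omega
    · exact h1
  exact ⟨hcard, hexp⟩

/-- The structure attached to the cyclic subgroup of index two. -/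
theorem structure_of_four_mul {n : ℕ} (hn : 3 ≤ n) (hX : Nat.card X = 2 ^ n)
    (h4 : 4 * Nat.card (commutator X) = Nat.card X) :
    ∃ c g : X, (Subgroup.zpowers c).index = 2 ∧ g ∉ Subgroup.zpowers c ∧
      Nat.card ↥(Subgroup.zpowers c ⊓ Subgroup.centralizer ({g} : Set X)) = 2 ∧
      Subgroup.center X = Subgroup.zpowers c ⊓ Subgroup.centralizer ({g} : Set X) ∧
      orderOf c = 2 ^ (n - 1) := by
  classical
  obtain ⟨m, rfl⟩ : ∃ m, n = m + 3 := ⟨n - 3, by omega⟩
  obtain ⟨c, hc⟩ := taussky m X hX h4
  set C : Subgroup X := Subgroup.zpowers c with hC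
  have hab : ∀ a ∈ C, ∀ b ∈ C, a * b = b * a := by
    intro a ha b hb
    obtain ⟨i, rfl⟩ := Subgroup.mem_zpowers_iff.1 ha
    obtain ⟨j, rfl⟩ := Subgroup.mem_zpowers_iff.1 hb
    exact Commute.zpow_zpow_self c i j
  have hCtop : C ≠ ⊤ := by
    rintro h
    rw [h, Subgroup.index_top] at hc
    omega
  obtain ⟨g, hg⟩ : ∃ g, g ∉ C := by
    by_contra hall
    push Not at hall
    exact hCtop (eq_top_iff.2 fun u _ => hall u)
  have hfix := card_fix C hc hab hg
  have hCcard : Nat.card C = 2 ^ (m + 2) := by
    have h1 := Subgroup.card_mul_index C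
    rw [hc, hX] at h1
    have e : 2 ^ (m + 3) = 2 ^ (m + 2) * 2 := by ring
    rw [e] at h1
    exact Nat.eq_of_mul_eq_mul_right (by norm_num) h1
  have hcX : Nat.card (commutator X) = 2 ^ (m + 1) := by
    rw [hX] at h4
    have e : 2 ^ (m + 3) = 4 * 2 ^ (m + 1) := by ring
    rw [e] at h4
    omega
  have hW : Nat.card ↥(C ⊓ Subgroup.centralizer ({g} : Set X)) = 2 := by
    rw [hcX, hCcard] at hfix
    have e : 2 ^ (m + 2) = 2 * 2 ^ (m + 1) := by ring
    rw [e] at hfix
    exact Nat.eq_of_mul_eq_mul_right (by positivity) hfix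
  have hcl : Subgroup.closure ((C : Set X) ∪ {g}) = ⊤ := by
    apply eq_top_of_index_prime Nat.prime_two hc
    · exact fun a ha => Subgroup.subset_closure (Or.inl ha)
    · intro he
      apply hg
      rw [← he]
      exact Subgroup.subset_closure (Or.inr rfl)
  have hcenter : Subgroup.center X = C ⊓ Subgroup.centralizer ({g} : Set X) := by
    apply le_antisymm
    · intro x hx
      refine Subgroup.mem_inf.2 ⟨?_, ?_⟩
      · by_contra hxC
        -- `X` would be abelian
        have hcl2 : Subgroup.closure ((C : Set X) ∪ {x}) = ⊤ := by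
          apply eq_top_of_index_prime Nat.prime_two hc
          · exact fun a ha => Subgroup.subset_closure (Or.inl ha)
          · intro he
            apply hxC
            rw [← he]
            exact Subgroup.subset_closure (Or.inr rfl)
        have key := Cfsg.Agent.S0130.comm_mod_closure ⊥ ((C : Set X) ∪ {x}) (by
          intro a ha b hb
          have hcomm : a * b = b * a := by
            rcases ha with ha | ha <;> rcases hb with hb | hb
            · exact hab a ha b hb
            · rw [Set.mem_singleton_iff] at hb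
              rw [hb]
              exact Subgroup.mem_center_iff.1 hx a
            · rw [Set.mem_singleton_iff] at ha
              rw [ha]
              exact (Subgroup.mem_center_iff.1 hx b).symm
            · rw [Set.mem_singleton_iff] at ha hb
              rw [ha, hb]
          rw [hcomm]
          simp)
        have hbot : commutator X = ⊥ := by
          rw [commutator_def, eq_bot_iff, Subgroup.commutator_le]
          intro a _ b _
          rw [commutatorElement_def]
          exact key a (by rw [hcl2]; trivial) b (by rw [hcl2]; trivial)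
        rw [hbot, Subgroup.card_bot] at hcX
        have : 1 < 2 ^ (m + 1) := Nat.one_lt_two_pow (by omega)
        omega
      · rw [Subgroup.mem_centralizer_singleton_iff]
        exact (Subgroup.mem_center_iff.1 hx g).symm
    · intro x hx
      obtain ⟨hx1, hx2⟩ := Subgroup.mem_inf.1 hx
      rw [Subgroup.mem_centralizer_singleton_iff] at hx2
      have hle : Subgroup.closure ((C : Set X) ∪ {g}) ≤ Subgroup.centralizer ({x} : Set X) := by
        rw [Subgroup.closure_le]
        intro u hu
        rw [SetLike.mem_coe, Subgroup.mem_centralizer_singleton_iff]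
        rcases hu with hu | hu
        · exact hab u hu x hx1
        · rw [Set.mem_singleton_iff] at hu
          rw [hu]
          exact hx2.symm
      rw [Subgroup.mem_center_iff]
      intro u
      have h1 := hle (show u ∈ Subgroup.closure ((C : Set X) ∪ {g}) by rw [hcl]; trivial)
      rw [Subgroup.mem_centralizer_singleton_iff] at h1
      exact h1
  refine ⟨c, g, hc, hg, hW, hcenter, ?_⟩
  rw [← Nat.card_zpowers, ← hC, hCcard]
  congr 1

/-- `|X : X'| = 4` implies class `n - 1`. -/
theorem class_of_four_mul {n : ℕ} (hn : 3 ≤ n) (hX : Nat.card X = 2 ^ n)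
    (h4 : 4 * Nat.card (commutator X) = Nat.card X) : Group.nilpotencyClass X = n - 1 := by
  classical
  obtain ⟨c, g, hc, hg, hW, hcenter, hord⟩ := structure_of_four_mul hn hX h4
  set C : Subgroup X := Subgroup.zpowers c with hC
  haveI hCn : C.Normal := Subgroup.normal_of_index_eq_two hc
  set A : Subgroup X := Subgroup.centralizer ({g} : Set X) with hA
  have hgA : g ∈ A := by
    rw [hA, Subgroup.mem_centralizer_singleton_iff]
  have hAcard : Nat.card A = 2 ^ 2 := by
    have hnY : A ≤ Subgroup.normalizer (C : Set X) := by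
      rw [(Subgroup.normalizer_eq_top_iff (H := C)).2 inferInstance]
      exact le_top
    have e1 := Cfsg.Agent.Lib.Replacement.card_sup_mul_card_inf A C hnY
    have hsup : A ⊔ C = ⊤ := by
      apply eq_top_of_index_prime Nat.prime_two hc le_sup_right
      intro he
      apply hg
      rw [← he]
      exact Subgroup.mem_sup_left hgA
    rw [hsup, Subgroup.card_top, inf_comm, hW, hX] at e1
    have hCcard : Nat.card C = 2 ^ (n - 1) := by
      rw [hC, Nat.card_zpowers, hord]
    rw [hCcard] at e1
    have e2 : 2 ^ n = 2 ^ (n - 1) * 2 := by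
      rw [← pow_succ]
      congr 1
      omega
    rw [e2] at e1
    have e3 : Nat.card A * 2 ^ (n - 1) = 2 ^ 2 * 2 ^ (n - 1) := by
      rw [← e1]
      ring
    exact Nat.eq_of_mul_eq_mul_right (by positivity) e3
  have hAc := IsPGroup.isMulCommutative_of_card_eq_prime_sq hAcard
  have hCA : Subgroup.centralizer (A : Set X) = A := by
    apply le_antisymm
    · apply Subgroup.centralizer_le
      intro u hu
      rw [Set.mem_singleton_iff] at hu
      rw [hu]
      exact hgA
    · intro t ht
      rw [Subgroup.mem_centralizer_iff]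
      intro u hu
      exact congrArg Subtype.val (hAc.is_comm.comm ⟨u, hu⟩ ⟨t, ht⟩)
  exact Cfsg.Agent.S0112.key n X hX A hAcard hCA

/-- The central quotient is dihedral. -/
theorem dihedral_of_four_mul {n : ℕ} (hn : 3 ≤ n) (hX : Nat.card X = 2 ^ n)
    (h4 : 4 * Nat.card (commutator X) = Nat.card X) :
    Nonempty (X ⧸ Subgroup.center X ≃* DihedralGroup (2 ^ (n - 2))) := by
  classical
  obtain ⟨c, g, hc, hg, hW, hcenter, hord⟩ := structure_of_four_mul hn hX h4
  set C : Subgroup X := Subgroup.zpowers c with hC
  set Z : Subgroup X := Subgroup.center X with hZ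
  have hZC : Z ≤ C := by
    rw [hcenter]; exact inf_le_left
  have hZcard : Nat.card Z = 2 := by rw [hcenter]; exact hW
  have hab : ∀ a ∈ C, ∀ b ∈ C, a * b = b * a := by
    intro a ha b hb
    obtain ⟨i, rfl⟩ := Subgroup.mem_zpowers_iff.1 ha
    obtain ⟨j, rfl⟩ := Subgroup.mem_zpowers_iff.1 hb
    exact Commute.zpow_zpow_self c i j
  haveI hCn : C.Normal := Subgroup.normal_of_index_eq_two hc
  have hcC : c ∈ C := Subgroup.mem_zpowers c
  have hZmem : ∀ u ∈ C, g * u = u * g → u ∈ Z := by
    intro u hu hgu
    rw [hcenter]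
    refine Subgroup.mem_inf.2 ⟨hu, ?_⟩
    rw [Subgroup.mem_centralizer_singleton_iff]
    exact hgu.symm
  have hg2 : g * g ∈ Z := hZmem _ (Subgroup.mul_self_mem_of_index_two hc g) (by group)
  have hg2c : ∀ u, (g * g) * u = u * (g * g) := fun u => (Subgroup.mem_center_iff.1 hg2 u).symm
  set d := g * c * g⁻¹ with hd
  have hdC : d ∈ C := hCn.conj_mem c hcC g
  have hu : d * c ∈ Z := by
    apply hZmem _ (mul_mem hdC hcC)
    have e1 : g * d * g⁻¹ = c := by
      have h1 := hg2c c
      calc g * d * g⁻¹ = (g * g) * c * (g * g)⁻¹ := by rw [hd]; group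
        _ = c * (g * g) * (g * g)⁻¹ := by rw [h1]
        _ = c := by group
    have e2 : g * c = d * g := by rw [hd]; group
    have e3 : g * d = c * g := by
      calc g * d = (g * d * g⁻¹) * g := by group
        _ = c * g := by rw [e1]
    calc g * (d * c) = (g * d) * c := by group
      _ = c * g * c := by rw [e3]
      _ = c * (g * c) := by group
      _ = c * (d * g) := by rw [e2]
      _ = (c * d) * g := by group
      _ = (d * c) * g := by rw [hab c hcC d hdC]
  -- the quotient
  let π := QuotientGroup.mk' Z
  have hπ : Function.Surjective π := QuotientGroup.mk'_surjective Z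
  have hπker : ∀ u : X, π u = 1 ↔ u ∈ Z := fun u => QuotientGroup.eq_one_iff u
  let x := π g
  let y := π (g * c)
  have hx : x * x = 1 := by
    show π g * π g = 1
    rw [← map_mul, hπker]
    exact hg2
  have hy : y * y = 1 := by
    show π (g * c) * π (g * c) = 1
    rw [← map_mul, hπker]
    have e : g * c * (g * c) = (d * c) * (g * g) := by
      calc g * c * (g * c) = d * ((g * g) * c) := by rw [hd]; group
        _ = d * (c * (g * g)) := by rw [hg2c c]
        _ = (d * c) * (g * g) := by group
    rw [e]
    exact mul_mem hu hg2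
  have hxy : x * y = π c := by
    show π g * π (g * c) = π c
    rw [← map_mul, ← mul_assoc, map_mul, (hπker _).2 hg2, one_mul]
  have hordπ : orderOf (π c) = 2 ^ (n - 2) := by
    have h1 := Cfsg.Agent.Lib.SuperSolv2.card_map_mk_of_le Z C hZC
    rw [hZcard] at h1
    have h2 : C.map (QuotientGroup.mk' Z) = Subgroup.zpowers (π c) := by
      rw [hC, MonoidHom.map_zpowers]
    rw [h2, Nat.card_zpowers, hC, Nat.card_zpowers, hord] at h1
    have e2 : 2 ^ (n - 1) = 2 ^ (n - 2) * 2 := by
      rw [← pow_succ]
      congr 1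
      omega
    rw [e2] at h1
    exact Nat.eq_of_mul_eq_mul_right (by norm_num) h1
  have hx1 : x ≠ 1 := by
    intro h
    exact hg (hZC ((hπker g).1 h))
  have hy1 : y ≠ 1 := by
    intro h
    apply hg
    have h2 := hZC ((hπker _).1 h)
    have : g = (g * c) * c⁻¹ := by group
    rw [this]
    exact mul_mem h2 (inv_mem hcC)
  have hxo : orderOf x = 2 := orderOf_eq_prime (by rw [sq]; exact hx) hx1
  have hyo : orderOf y = 2 := orderOf_eq_prime (by rw [sq]; exact hy) hy1
  have hxney : x ≠ y := by
    intro h
    have h1 : π c = 1 := by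
      rw [← hxy, ← h, hx]
    rw [← orderOf_eq_one_iff, hordπ] at h1
    have : 1 < 2 ^ (n - 2) := Nat.one_lt_two_pow (by omega)
    omega
  have hcl : Subgroup.closure ({x, y} : Set (X ⧸ Z)) = ⊤ := by
    set M : Subgroup (X ⧸ Z) := Subgroup.closure ({x, y} : Set (X ⧸ Z)) with hM
    have hxM : x ∈ M := Subgroup.subset_closure (by simp)
    have hyM : y ∈ M := Subgroup.subset_closure (by simp)
    have hCle : C ≤ M.comap π := by
      rw [hC, Subgroup.zpowers_le, Subgroup.mem_comap, ← hxy]
      exact mul_mem hxM hyM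
    have htop : M.comap π = ⊤ := by
      apply eq_top_of_index_prime Nat.prime_two hc hCle
      intro he
      apply hg
      rw [← he, Subgroup.mem_comap]
      exact hxM
    rw [eq_top_iff]
    intro q _
    obtain ⟨u, rfl⟩ := hπ q
    have : u ∈ M.comap π := by rw [htop]; trivial
    exact this
  obtain ⟨f⟩ := Cfsg.Agent.Lib.InvolutionDihedral.closure_pair_equiv x y hxo hyo hxney
  rw [hcl, hxy, hordπ] at f
  exact ⟨Subgroup.topEquiv.symm.trans f⟩

end Cfsg.Agent.Lib.MaxClassTwo2
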