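import Mathlib

set_option autoImplicit false
set_option linter.unusedSectionVars false

namespace Cfsg.Agent.Lib.MaxEngel

open scoped commutatorElement

variable {G : Type*} [Group G] {p : ℕ} [hp : Fact p.Prime]

/-- the augmentation generators -/
noncomputable def tt (p : ℕ) [Fact p.Prime] (g : G) : MonoidAlgebra (ZMod p) G :=
  MonoidAlgebra.of (ZMod p) G g - 1

/-- the weights -/
def wt (i : ℕ) : ℕ := max i 1

lemma wt_pos (i : ℕ) : 1 ≤ wt i := le_max_right _ _
lemma le_wt (i : ℕ) : i ≤ wt i := le_max_left _ _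
lemma wt_mono {i j : ℕ} (h : i ≤ j) : wt i ≤ wt j := max_le_max h le_rfl

lemma of_eq (g : G) : MonoidAlgebra.of (ZMod p) G g = 1 + tt p g := by simp [tt]

lemma tt_one : tt p (1 : G) = 0 := by rw [tt, map_one, sub_self]

lemma tt_mul (g h : G) : tt p (g * h) = MonoidAlgebra.of (ZMod p) G g * tt p h + tt p g := by
  simp only [tt, map_mul, mul_sub, mul_one]
  abel

/-- Monomials in the chain generators. -/
inductive Mono (g : ℕ → G) (L : ℕ) : ℕ → MonoidAlgebra (ZMod p) G → ℕ → Prop
  | base {j : ℕ} (hj : L ≤ j) : Mono g L j 1 0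
  | step {j : ℕ} (e : ℕ) {x : MonoidAlgebra (ZMod p) G} {m : ℕ} (hj : j < L) (h : Mono g L (j + 1) x m) :
      Mono g L j (tt p (g j) ^ e * x) (e * wt j + m)

/-- The weight filtration. -/
noncomputable def OO (g : ℕ → G) (L j n : ℕ) : Submodule (ZMod p) (MonoidAlgebra (ZMod p) G) :=
  Submodule.span (ZMod p) {x | ∃ m, n ≤ m ∧ Mono g L j x m}

variable {g : ℕ → G} {L : ℕ}

lemma Mono.cast {j : ℕ} {x x' : MonoidAlgebra (ZMod p) G} {m m' : ℕ} (h : Mono g L j x m) (hx : x = x') (hm : m = m') :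
    Mono g L j x' m' := by
  subst hx hm
  exact h

lemma mono_of_ge {j : ℕ} (hj : L ≤ j) {x : MonoidAlgebra (ZMod p) G} {m : ℕ} (h : Mono g L j x m) : x = 1 ∧ m = 0 := by
  cases h with
  | base _ => exact ⟨rfl, rfl⟩
  | step e hj' _ => omega

lemma mono_one (j : ℕ) : Mono (p := p) g L j 1 0 := by
  induction h : L - j generalizing j with
  | zero => exact Mono.base (by omega)
  | succ d ih =>
    have h1 := Mono.step (p := p) (g := g) (L := L) (j := j) 0 (by omega) (ih (j + 1) (by omega))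
    exact h1.cast (by simp) (by simp)

lemma mono_down {j : ℕ} {x : MonoidAlgebra (ZMod p) G} {m : ℕ} (h : Mono g L (j + 1) x m) : Mono g L j x m := by
  rcases Nat.lt_or_ge j L with hj | hj
  · exact (Mono.step 0 hj h).cast (by simp) (by simp)
  · obtain ⟨rfl, rfl⟩ := mono_of_ge (by omega) h
    exact mono_one j

lemma OO_anti {j n n' : ℕ} (h : n ≤ n') : OO (p := p) g L j n' ≤ OO g L j n := by
  refine Submodule.span_mono ?_
  rintro x ⟨m, hm, hx⟩
  exact ⟨m, by omega, hx⟩

lemma OO_down {j n : ℕ} : OO (p := p) g L (j + 1) n ≤ OO g L j n := by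
  refine Submodule.span_le.2 ?_
  rintro x ⟨m, hm, hx⟩
  exact Submodule.subset_span ⟨m, hm, mono_down hx⟩

lemma OO_down' {j k n : ℕ} (h : j ≤ k) : OO (p := p) g L k n ≤ OO g L j n := by
  induction k, h using Nat.le_induction with
  | base => exact le_rfl
  | succ k _ ih => exact OO_down.trans ih

lemma mem_OO {j n m : ℕ} {x : MonoidAlgebra (ZMod p) G} (h : Mono g L j x m) (hn : n ≤ m) : x ∈ OO g L j n :=
  Submodule.subset_span ⟨m, hn, h⟩

lemma one_mem_OO (j : ℕ) : (1 : MonoidAlgebra (ZMod p) G) ∈ OO g L j 0 := mem_OO (mono_one j) le_rfl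

/-- induction over generators -/
lemma OO_induct {j n : ℕ} {P : MonoidAlgebra (ZMod p) G → Prop} (h0 : P 0) (hadd : ∀ x y, P x → P y → P (x + y))
    (hsmul : ∀ (c : ZMod p) x, P x → P (c • x)) (h : ∀ x m, n ≤ m → Mono g L j x m → P x)
    {x : MonoidAlgebra (ZMod p) G} (hx : x ∈ OO g L j n) : P x := by
  induction hx using Submodule.span_induction with
  | mem x hx => obtain ⟨m, hm, hx⟩ := hx; exact h x m hm hx
  | zero => exact h0
  | add x y _ _ hx hy => exact hadd x y hx hy
  | smul c x _ hx => exact hsmul c x hx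

/-- left multiplication by a power of the generator -/
lemma pow_mul_mem {j n e : ℕ} (hj : j < L) {x : MonoidAlgebra (ZMod p) G} (hx : x ∈ OO g L (j + 1) n) :
    tt p (g j) ^ e * x ∈ OO g L j (e * wt j + n) := by
  refine OO_induct (P := fun x => tt p (g j) ^ e * x ∈ OO g L j (e * wt j + n)) (by simp)
    (fun x y hx hy => by rw [mul_add]; exact add_mem hx hy)
    (fun c x hx => by rw [mul_smul_comm]; exact Submodule.smul_mem _ _ hx)
    (fun x m hm hx => mem_OO (Mono.step e hj hx) (by omega)) hx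

lemma tt_mul_mem {j n : ℕ} (hj : j < L) {x : MonoidAlgebra (ZMod p) G} (hx : x ∈ OO g L j n) :
    tt p (g j) * x ∈ OO g L j (n + wt j) := by
  refine OO_induct (P := fun x => tt p (g j) * x ∈ OO g L j (n + wt j)) (by simp)
    (fun x y hx hy => by rw [mul_add]; exact add_mem hx hy)
    (fun c x hx => by rw [mul_smul_comm]; exact Submodule.smul_mem _ _ hx) ?_ hx
  intro x m hm hx
  cases hx with
  | base h => omega
  | step e _ hy =>
    rename_i x' m'
    have h1 := pow_mul_mem (e := e + 1) hj (mem_OO hy le_rfl)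
    rw [pow_succ', mul_assoc] at h1
    refine OO_anti ?_ h1
    nlinarith

lemma of_mul_mem {j n : ℕ} (hj : j < L) {x : MonoidAlgebra (ZMod p) G} (hx : x ∈ OO g L j n) :
    MonoidAlgebra.of (ZMod p) G (g j) * x ∈ OO g L j n := by
  rw [of_eq, add_mul, one_mul]
  exact add_mem hx (OO_anti (by omega) (tt_mul_mem hj hx))

lemma of_pow_mul_mem {j n : ℕ} (hj : j < L) (e : ℕ) {x : MonoidAlgebra (ZMod p) G} (hx : x ∈ OO g L j n) :
    MonoidAlgebra.of (ZMod p) G (g j ^ e) * x ∈ OO g L j n := by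
  induction e with
  | zero => rw [pow_zero, map_one, one_mul]; exact hx
  | succ e ih =>
    rw [pow_succ', map_mul, mul_assoc]
    exact of_mul_mem hj ih


lemma mono_inv {j : ℕ} (hj : j < L) {x : MonoidAlgebra (ZMod p) G} {m : ℕ} (h : Mono g L j x m) :
    ∃ e z k, Mono g L (j + 1) z k ∧ x = tt p (g j) ^ e * z ∧ m = e * wt j + k := by
  cases h with
  | base h => omega
  | step e _ hy => exact ⟨e, _, _, hy, rfl, rfl⟩

lemma mul_gen {W : Submodule (ZMod p) (MonoidAlgebra (ZMod p) G)} {j j' a b : ℕ}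
    (h : ∀ x m y m', a ≤ m → b ≤ m' → Mono g L j x m → Mono g L j' y m' → x * y ∈ W)
    {x y : MonoidAlgebra (ZMod p) G} (hx : x ∈ OO g L j a) (hy : y ∈ OO g L j' b) : x * y ∈ W := by
  refine OO_induct (P := fun x => x * y ∈ W) (by simp) (fun x y' hx hy' => by rw [add_mul]; exact add_mem hx hy')
    (fun c x hx => by rw [smul_mul_assoc]; exact Submodule.smul_mem _ _ hx) ?_ hx
  intro x m hm hx
  refine OO_induct (P := fun y => x * y ∈ W) (by simp) (fun y y' hy hy' => by rw [mul_add]; exact add_mem hy hy')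
    (fun c y hy => by rw [mul_smul_comm]; exact Submodule.smul_mem _ _ hy) ?_ hy
  intro y m' hm' hy
  exact h x m y m' hm hm' hx hy

lemma tt_gen_mem {j : ℕ} (hj : j < L) : tt p (g j) ∈ OO g L j (wt j) := by
  have h := Mono.step (p := p) (g := g) (L := L) 1 hj (mono_one (j + 1))
  exact mem_OO (h.cast (by simp) rfl) (by simp)

lemma tt_pow_gen_mem {j : ℕ} (hj : j < L) (e : ℕ) : tt p (g j) ^ e ∈ OO g L j (e * wt j) := by
  have h := Mono.step (p := p) (g := g) (L := L) e hj (mono_one (j + 1))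
  exact mem_OO (h.cast (by simp) rfl) (by simp)

lemma tt_gpow_mem {j : ℕ} (hj : j < L) (e : ℕ) : tt p (g j ^ e) ∈ OO g L j (wt j) := by
  induction e with
  | zero => rw [pow_zero, tt_one]; exact zero_mem _
  | succ e ih =>
    rw [pow_succ', tt_mul]
    exact add_mem (of_mul_mem hj ih) (tt_gen_mem hj)

/-- The chain data. -/
structure Chain (X : ℕ → Subgroup G) (g : ℕ → G) (L : ℕ) : Prop where
  anti : Antitone X
  bot : X L = ⊥
  gmem : ∀ i, i < L → g i ∈ X i
  nf : ∀ i, i < L → ∀ x ∈ X i, ∃ e : ℕ, ∃ x' ∈ X (i + 1), x = g i ^ e * x'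
  comm : ∀ i j, ∀ u ∈ X i, ∀ v ∈ X j, ⁅u, v⁆ ∈ X (wt i + wt j)

variable {X : ℕ → Subgroup G}

lemma Chain.tt_mem (hc : Chain X g L) : ∀ d j, L ≤ j + d → ∀ x ∈ X j, tt p x ∈ OO g L j (wt j) := by
  intro d
  induction d with
  | zero =>
    intro j hj x hx
    have h1 : x ∈ X L := hc.anti (by omega) hx
    rw [hc.bot, Subgroup.mem_bot] at h1
    rw [h1, tt_one]
    exact zero_mem _
  | succ d ih =>
    intro j hj x hx
    rcases Nat.lt_or_ge j L with hjL | hjL
    · obtain ⟨e, x', hx', rfl⟩ := hc.nf j hjL x hx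
      rw [tt_mul]
      refine add_mem (of_pow_mul_mem hjL e ?_) (tt_gpow_mem hjL e)
      exact OO_anti (wt_mono (by omega)) (OO_down (ih (j + 1) (by omega) x' hx'))
    · have h1 : x ∈ X L := hc.anti hjL hx
      rw [hc.bot, Subgroup.mem_bot] at h1
      rw [h1, tt_one]
      exact zero_mem _

lemma Chain.tt_mem' (hc : Chain X g L) {j : ℕ} {x : G} (hx : x ∈ X j) : tt p x ∈ OO g L j (wt j) :=
  hc.tt_mem (L - j) j (by omega) x hx

/-- The multiplicativity statement at an index. -/
def MulAt (p : ℕ) [Fact p.Prime] (g : ℕ → G) (L i : ℕ) : Prop :=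
  ∀ a b, ∀ x ∈ OO (p := p) g L i a, ∀ y ∈ OO (p := p) g L i b, x * y ∈ OO (p := p) g L i (a + b)

/-- The conjugation statement at an index. -/
def ConjAt (p : ℕ) [Fact p.Prime] (X : ℕ → Subgroup G) (g : ℕ → G) (L i : ℕ) : Prop :=
  ∀ q, q < i → ∀ h ∈ X q, ∀ n, ∀ x ∈ OO (p := p) g L i n,
    MonoidAlgebra.of (ZMod p) G h * x * MonoidAlgebra.of (ZMod p) G h⁻¹ - x ∈ OO (p := p) g L i (n + wt q)

lemma of_mul_inv (h : G) : MonoidAlgebra.of (ZMod p) G h * MonoidAlgebra.of (ZMod p) G h⁻¹ = 1 := by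
  rw [← map_mul, mul_inv_cancel, map_one]

lemma of_inv_mul (h : G) : MonoidAlgebra.of (ZMod p) G h⁻¹ * MonoidAlgebra.of (ZMod p) G h = 1 := by
  rw [← map_mul, inv_mul_cancel, map_one]

lemma base_case (i : ℕ) (hi : L ≤ i) : MulAt p g L i ∧ ConjAt p X g L i := by
  constructor
  · intro a b x hx y hy
    refine mul_gen (j := i) (j' := i) (a := a) (b := b) ?_ hx hy
    intro x m y m' hm hm' hx hy
    obtain ⟨rfl, rfl⟩ := mono_of_ge hi hx
    obtain ⟨rfl, rfl⟩ := mono_of_ge hi hy
    rw [mul_one]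
    exact mem_OO (mono_one i) (by omega)
  · intro q _ h _ n x hx
    refine OO_induct (P := fun x => MonoidAlgebra.of (ZMod p) G h * x * MonoidAlgebra.of (ZMod p) G h⁻¹ - x ∈ OO (p := p) g L i (n + wt q))
      (by simp) (fun x y hx hy => ?_) (fun c x hx => ?_) ?_ hx
    · have e : MonoidAlgebra.of (ZMod p) G h * (x + y) * MonoidAlgebra.of (ZMod p) G h⁻¹ - (x + y) =
          (MonoidAlgebra.of (ZMod p) G h * x * MonoidAlgebra.of (ZMod p) G h⁻¹ - x) +
          (MonoidAlgebra.of (ZMod p) G h * y * MonoidAlgebra.of (ZMod p) G h⁻¹ - y) := by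
        simp only [mul_add, add_mul]
        abel
      rw [e]
      exact add_mem hx hy
    · have e : MonoidAlgebra.of (ZMod p) G h * (c • x) * MonoidAlgebra.of (ZMod p) G h⁻¹ - (c • x) =
          c • (MonoidAlgebra.of (ZMod p) G h * x * MonoidAlgebra.of (ZMod p) G h⁻¹ - x) := by
        simp only [mul_smul_comm, smul_mul_assoc, smul_sub]
      rw [e]
      exact Submodule.smul_mem _ _ hx
    · intro x m hm hx
      obtain ⟨rfl, rfl⟩ := mono_of_ge hi hx
      rw [mul_one, of_mul_inv, sub_self]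
      exact zero_mem _

section Step

variable (hc : Chain X g L) {i : ℕ} (hi : i < L) (hM : MulAt p g L (i + 1)) (hC : ConjAt p X g L (i + 1))
include hc hi hM hC

lemma right_tt {n : ℕ} {x : MonoidAlgebra (ZMod p) G} (hx : x ∈ OO g L i n) :
    x * tt p (g i) ∈ OO g L i (n + wt i) := by
  refine OO_induct (P := fun x => x * tt p (g i) ∈ OO g L i (n + wt i)) (by simp)
    (fun x y hx hy => by rw [add_mul]; exact add_mem hx hy)
    (fun c x hx => by rw [smul_mul_assoc]; exact Submodule.smul_mem _ _ hx) ?_ hx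
  intro x m hm hx
  obtain ⟨e, z, k, hz, rfl, rfl⟩ := mono_inv hi hx
  have hzO : z ∈ OO g L (i + 1) k := mem_OO hz le_rfl
  set G0 := MonoidAlgebra.of (ZMod p) G (g i) with hG0
  set Gi := MonoidAlgebra.of (ZMod p) G (g i)⁻¹ with hGi
  have h01 : G0 * Gi = 1 := of_mul_inv _
  have h10 : Gi * G0 = 1 := of_inv_mul _
  have hd := hC i (by omega) (g i)⁻¹ (inv_mem (hc.gmem i hi)) k z hzO
  rw [inv_inv, ← hGi, ← hG0] at hd
  set s := Gi * z * G0 with hs
  have hs' : s ∈ OO g L (i + 1) k := by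
    have e1 : s = (s - z) + z := by abel
    rw [e1]
    exact add_mem (OO_anti (by omega) hd) hzO
  have e1 : z * tt p (g i) = tt p (g i) * s + (s - z) := by
    have e2 : tt p (g i) = G0 - 1 := rfl
    rw [e2, hs, sub_mul, mul_sub, one_mul, mul_one]
    have e3 : G0 * (Gi * z * G0) = z * G0 := by
      calc G0 * (Gi * z * G0) = (G0 * Gi) * z * G0 := by simp only [mul_assoc]
        _ = z * G0 := by rw [h01, one_mul]
    rw [e3]
    abel
  have e2 : tt p (g i) ^ e * z * tt p (g i) = tt p (g i) ^ (e + 1) * s + tt p (g i) ^ e * (s - z) := by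
    rw [mul_assoc, e1, mul_add, pow_succ, mul_assoc]
  rw [e2]
  refine add_mem ?_ ?_
  · refine OO_anti ?_ (pow_mul_mem (e := e + 1) hi hs')
    nlinarith
  · refine OO_anti ?_ (pow_mul_mem (e := e) hi hd)
    omega

lemma right_tt_pow {n : ℕ} {x : MonoidAlgebra (ZMod p) G} (hx : x ∈ OO g L i n) (f : ℕ) :
    x * tt p (g i) ^ f ∈ OO g L i (n + f * wt i) := by
  induction f with
  | zero => simpa using hx
  | succ f ih =>
    rw [pow_succ, ← mul_assoc]
    have h1 := right_tt hc hi hM hC ih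
    refine OO_anti ?_ h1
    nlinarith

omit hc hC in
lemma right_upper {n b : ℕ} {x y : MonoidAlgebra (ZMod p) G} (hx : x ∈ OO g L i n) (hy : y ∈ OO g L (i + 1) b) :
    x * y ∈ OO g L i (n + b) := by
  refine mul_gen (j := i) (j' := i + 1) (a := n) (b := b) ?_ hx hy
  intro x m y m' hm hm' hx hy
  obtain ⟨e, z, k, hz, rfl, rfl⟩ := mono_inv hi hx
  rw [mul_assoc]
  have h1 := hM k m' z (mem_OO hz le_rfl) y (mem_OO hy le_rfl)
  refine OO_anti ?_ (pow_mul_mem (e := e) hi h1)
  omega

lemma mul_step : MulAt p g L i := by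
  intro a b x hx y hy
  refine OO_induct (P := fun y => x * y ∈ OO g L i (a + b)) (by simp)
    (fun y y' hy hy' => by rw [mul_add]; exact add_mem hy hy')
    (fun c y hy => by rw [mul_smul_comm]; exact Submodule.smul_mem _ _ hy) ?_ hy
  intro y m hm hy
  obtain ⟨f, z, k, hz, rfl, rfl⟩ := mono_inv hi hy
  rw [← mul_assoc]
  have h1 := right_tt_pow hc hi hM hC hx f
  have h2 := right_upper hi hM h1 (mem_OO hz le_rfl)
  refine OO_anti ?_ h2
  omega

lemma conj_step : ConjAt p X g L i := by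
  intro q hq h hh n x hx
  have hMi := mul_step hc hi hM hC
  set Gh := MonoidAlgebra.of (ZMod p) G h with hGh
  set Gi := MonoidAlgebra.of (ZMod p) G h⁻¹ with hGi
  have h01 : Gh * Gi = 1 := of_mul_inv _
  have h10 : Gi * Gh = 1 := of_inv_mul _
  have hcj : ∀ u v : MonoidAlgebra (ZMod p) G, Gh * (u * v) * Gi = (Gh * u * Gi) * (Gh * v * Gi) := by
    intro u v
    calc Gh * (u * v) * Gi = Gh * u * 1 * v * Gi := by simp only [mul_assoc, mul_one]
      _ = Gh * u * (Gi * Gh) * v * Gi := by rw [h10]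
      _ = _ := by simp only [mul_assoc]
  have hdel : ∀ u v : MonoidAlgebra (ZMod p) G, Gh * (u * v) * Gi - u * v =
      (Gh * u * Gi - u) * (Gh * v * Gi) + u * (Gh * v * Gi - v) := by
    intro u v
    rw [hcj, sub_mul, mul_sub]
    abel
  -- the generator
  have hτ : Gh * tt p (g i) * Gi - tt p (g i) ∈ OO g L i (wt i + wt q) := by
    set c := ⁅(g i)⁻¹, h⁆ with hcdef
    have hcX : c ∈ X (wt i + wt q) := hc.comm i q _ (inv_mem (hc.gmem i hi)) h hh
    have h1 := hc.tt_mem' (p := p) hcX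
    have h2 : tt p c ∈ OO g L i (wt i + wt q) := by
      refine OO_down' ?_ (OO_anti ?_ h1)
      · have := le_wt i
        have := wt_pos q
        omega
      · exact le_wt _
    have e1 : Gh * tt p (g i) * Gi - tt p (g i) = MonoidAlgebra.of (ZMod p) G (g i) * tt p c := by
      have e2 : MonoidAlgebra.of (ZMod p) G (g i) * tt p c = MonoidAlgebra.of (ZMod p) G (g i * c) - MonoidAlgebra.of (ZMod p) G (g i) := by
        rw [tt, mul_sub, mul_one, map_mul]
      have e3 : g i * c = h * g i * h⁻¹ := by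
        rw [hcdef, commutatorElement_def]
        group
      rw [e2, e3, tt, mul_sub, sub_mul, mul_one, h01, map_mul, map_mul]
      abel
    rw [e1]
    exact of_mul_mem hi h2
  have hτ0 := tt_gen_mem (p := p) (g := g) hi
  have hcτ : Gh * tt p (g i) * Gi ∈ OO g L i (wt i) := by
    have e1 : Gh * tt p (g i) * Gi = (Gh * tt p (g i) * Gi - tt p (g i)) + tt p (g i) := by abel
    rw [e1]
    exact add_mem (OO_anti (by omega) hτ) hτ0
  have hpow : ∀ e : ℕ, Gh * (tt p (g i) ^ e) * Gi - tt p (g i) ^ e ∈ OO g L i (e * wt i + wt q) := by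
    intro e
    induction e with
    | zero =>
      rw [pow_zero, mul_one, h01, sub_self]
      exact zero_mem _
    | succ e ih =>
      rw [pow_succ, hdel]
      refine add_mem ?_ ?_
      · refine OO_anti ?_ (hMi _ _ _ ih _ hcτ)
        nlinarith
      · refine OO_anti ?_ (hMi _ _ _ (tt_pow_gen_mem hi e) _ hτ)
        nlinarith
  refine OO_induct (P := fun x => Gh * x * Gi - x ∈ OO (p := p) g L i (n + wt q))
      (by simp) (fun x y hx hy => ?_) (fun c x hx => ?_) ?_ hx
  · have e : Gh * (x + y) * Gi - (x + y) = (Gh * x * Gi - x) + (Gh * y * Gi - y) := by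
      simp only [mul_add, add_mul]
      abel
    rw [e]
    exact add_mem hx hy
  · have e : Gh * (c • x) * Gi - (c • x) = c • (Gh * x * Gi - x) := by
      simp only [mul_smul_comm, smul_mul_assoc, smul_sub]
    rw [e]
    exact Submodule.smul_mem _ _ hx
  · intro x m hm hx
    obtain ⟨e, z, k, hz, rfl, rfl⟩ := mono_inv hi hx
    have hzO : z ∈ OO g L (i + 1) k := mem_OO hz le_rfl
    have hd := hC q (by omega) h hh k z hzO
    rw [← hGh, ← hGi] at hd
    have hcz : Gh * z * Gi ∈ OO g L i k := by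
      have e1 : Gh * z * Gi = (Gh * z * Gi - z) + z := by abel
      rw [e1]
      exact OO_down (add_mem (OO_anti (by omega) hd) hzO)
    rw [hdel]
    refine add_mem ?_ ?_
    · refine OO_anti ?_ (hMi _ _ _ (hpow e) _ hcz)
      omega
    · refine OO_anti ?_ (pow_mul_mem (e := e) hi hd)
      omega

end Step

theorem Chain.main (hc : Chain X g L) : ∀ d i, L ≤ i + d → MulAt p g L i ∧ ConjAt p X g L i := by
  intro d
  induction d with
  | zero => exact fun i hi => base_case i (by omega)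
  | succ d ih =>
    intro i hi
    rcases Nat.lt_or_ge i L with hiL | hiL
    · obtain ⟨h1, h2⟩ := ih (i + 1) (by omega)
      exact ⟨mul_step hc hiL h1 h2, conj_step hc hiL h1 h2⟩
    · exact base_case i hiL

theorem Chain.mul_mem (hc : Chain X g L) {a b : ℕ} {x y : MonoidAlgebra (ZMod p) G} (hx : x ∈ OO g L 0 a) (hy : y ∈ OO g L 0 b) :
    x * y ∈ OO g L 0 (a + b) :=
  (hc.main L 0 (by omega)).1 a b x hx y hy


section Proj

variable (hc : Chain X g L)

/-- The group algebra of a chain term. -/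
noncomputable def AA (p : ℕ) [Fact p.Prime] (X : ℕ → Subgroup G) (j : ℕ) : Submodule (ZMod p) (MonoidAlgebra (ZMod p) G) :=
  Submodule.span (ZMod p) {x | ∃ u ∈ X j, x = MonoidAlgebra.of (ZMod p) G u}

include hc

lemma tt_mul_AA {j : ℕ} (hj : j < L) {r : MonoidAlgebra (ZMod p) G} (hr : r ∈ AA p X j) : tt p (g j) * r ∈ AA p X j := by
  induction hr using Submodule.span_induction with
  | mem x hx =>
    obtain ⟨u, hu, rfl⟩ := hx
    have e : tt p (g j) * MonoidAlgebra.of (ZMod p) G u = MonoidAlgebra.of (ZMod p) G (g j * u) - MonoidAlgebra.of (ZMod p) G u := by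
      rw [tt, sub_mul, one_mul, map_mul]
    rw [e]
    exact sub_mem (Submodule.subset_span ⟨_, mul_mem (hc.gmem j hj) hu, rfl⟩) (Submodule.subset_span ⟨_, hu, rfl⟩)
  | zero => simp
  | add x y _ _ hx hy => rw [mul_add]; exact add_mem hx hy
  | smul c x _ hx => rw [mul_smul_comm]; exact Submodule.smul_mem _ _ hx

lemma AA_anti {j k : ℕ} (h : j ≤ k) : AA p X k ≤ AA p X j := by
  refine Submodule.span_mono ?_
  rintro x ⟨u, hu, rfl⟩
  exact ⟨u, hc.anti h hu, rfl⟩

lemma one_mem_AA (j : ℕ) : (1 : MonoidAlgebra (ZMod p) G) ∈ AA p X j :=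
  Submodule.subset_span ⟨1, one_mem _, (map_one _).symm⟩

lemma mono_mem_AA : ∀ d j, L ≤ j + d → ∀ x m, Mono g L j x m → x ∈ AA p X j := by
  intro d
  induction d with
  | zero =>
    intro j hj x m hx
    obtain ⟨rfl, rfl⟩ := mono_of_ge (by omega) hx
    exact one_mem_AA hc j
  | succ d ih =>
    intro j hj x m hx
    rcases Nat.lt_or_ge j L with hjL | hjL
    · obtain ⟨e, z, k, hz, rfl, rfl⟩ := mono_inv hjL hx
      have h1 := AA_anti hc (Nat.le_succ j) (ih (j + 1) (by omega) z k hz)
      clear hx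
      induction e with
      | zero => simpa using h1
      | succ e ih' =>
        rw [pow_succ', mul_assoc]
        exact tt_mul_AA hc hjL ih'
    · obtain ⟨rfl, rfl⟩ := mono_of_ge hjL hx
      exact one_mem_AA hc j

lemma exists_proj (hexp : ∀ g : G, g ^ p = 1) {i : ℕ} (huniq : ∀ e : ℕ, g i ^ e ∈ X (i + 1) → g i ^ e = 1) :
    ∃ P : MonoidAlgebra (ZMod p) G →ₗ[ZMod p] MonoidAlgebra (ZMod p) G,
      ∀ (e : ℕ), ∀ x ∈ X (i + 1), P (MonoidAlgebra.of (ZMod p) G (g i ^ e * x)) = MonoidAlgebra.of (ZMod p) G x := by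
  classical
  have hpp := hp.out
  have hφ : ∀ u : G, ∃ v : G, ∀ (e : ℕ), ∀ x ∈ X (i + 1), u = g i ^ e * x → v = x := by
    intro u
    by_cases h : ∃ (e : ℕ), ∃ x ∈ X (i + 1), u = g i ^ e * x
    · obtain ⟨e₀, x₀, hx₀, rfl⟩ := h
      refine ⟨x₀, fun e x hx he => ?_⟩
      have h1 : g i ^ ((p - 1) * e + e₀) = x * x₀⁻¹ := by
        have h2 : g i ^ ((p - 1) * e) * g i ^ e = 1 := by
          rw [← pow_add, show (p - 1) * e + e = p * e by
            obtain ⟨q, rfl⟩ : ∃ q, p = q + 1 := ⟨p - 1, by have := hpp.pos; omega⟩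
            simp only [Nat.add_sub_cancel]
            ring, pow_mul, hexp, one_pow]
        have h3 : g i ^ ((p - 1) * e) = (g i ^ e)⁻¹ := eq_inv_of_mul_eq_one_left h2
        rw [pow_add, h3]
        have h4 : g i ^ e₀ = g i ^ e * x * x₀⁻¹ := by
          rw [eq_mul_inv_iff_mul_eq]
          exact he
        rw [h4]
        group
      have h2 : g i ^ ((p - 1) * e + e₀) ∈ X (i + 1) := by
        rw [h1]
        exact mul_mem hx (inv_mem hx₀)
      have h3 := huniq _ h2
      rw [h1] at h3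
      have h4 := mul_inv_eq_one.1 h3
      exact h4.symm
    · exact ⟨u, fun e x hx he => absurd ⟨e, x, hx, he⟩ h⟩
  choose φ hφ using hφ
  refine ⟨(MonoidAlgebra.basis G (ZMod p)).constr (ZMod p) (fun u => MonoidAlgebra.of (ZMod p) G (φ u)), fun e x hx => ?_⟩
  have h1 := (MonoidAlgebra.basis G (ZMod p)).constr_basis (ZMod p) (fun u => MonoidAlgebra.of (ZMod p) G (φ u)) (g i ^ e * x)
  have h2 : (MonoidAlgebra.basis G (ZMod p)) (g i ^ e * x) = MonoidAlgebra.of (ZMod p) G (g i ^ e * x) := rfl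
  rw [h2] at h1
  rw [h1, hφ _ e x hx rfl]

lemma proj_props {i : ℕ} (hi : i < L) {P : MonoidAlgebra (ZMod p) G →ₗ[ZMod p] MonoidAlgebra (ZMod p) G}
    (hP : ∀ (e : ℕ), ∀ x ∈ X (i + 1), P (MonoidAlgebra.of (ZMod p) G (g i ^ e * x)) = MonoidAlgebra.of (ZMod p) G x) :
    (∀ r ∈ AA p X (i + 1), P r = r) ∧ (∀ r ∈ AA p X i, P (tt p (g i) * r) = 0) := by
  constructor
  · intro r hr
    induction hr using Submodule.span_induction with
    | mem x hx =>
      obtain ⟨u, hu, rfl⟩ := hx
      have := hP 0 u hu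
      rwa [pow_zero, one_mul] at this
    | zero => simp
    | add x y _ _ hx hy => rw [map_add, hx, hy]
    | smul c x _ hx => rw [map_smul, hx]
  · intro r hr
    induction hr using Submodule.span_induction with
    | mem x hx =>
      obtain ⟨u, hu, rfl⟩ := hx
      obtain ⟨e, x', hx', rfl⟩ := hc.nf i hi u hu
      have e1 : tt p (g i) * MonoidAlgebra.of (ZMod p) G (g i ^ e * x') =
          MonoidAlgebra.of (ZMod p) G (g i ^ (e + 1) * x') - MonoidAlgebra.of (ZMod p) G (g i ^ e * x') := by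
        rw [tt, sub_mul, one_mul, pow_succ', mul_assoc, map_mul (MonoidAlgebra.of (ZMod p) G) (g i) (g i ^ e * x')]
      rw [e1, map_sub, hP _ _ hx', hP _ _ hx', sub_self]
    | zero => simp
    | add x y _ _ hx hy => rw [mul_add, map_add, hx, hy, add_zero]
    | smul c x _ hx => rw [mul_smul_comm, map_smul, hx, smul_zero]

lemma proj_OO {i n : ℕ} (hi : i < L) {P : MonoidAlgebra (ZMod p) G →ₗ[ZMod p] MonoidAlgebra (ZMod p) G}
    (hP : ∀ (e : ℕ), ∀ x ∈ X (i + 1), P (MonoidAlgebra.of (ZMod p) G (g i ^ e * x)) = MonoidAlgebra.of (ZMod p) G x)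
    {x : MonoidAlgebra (ZMod p) G} (hx : x ∈ OO g L i n) : P x ∈ OO g L (i + 1) n := by
  obtain ⟨h1, h2⟩ := proj_props hc hi hP
  refine OO_induct (P := fun x => P x ∈ OO g L (i + 1) n) (by simp)
    (fun x y hx hy => by rw [map_add]; exact add_mem hx hy)
    (fun c x hx => by rw [map_smul]; exact Submodule.smul_mem _ _ hx) ?_ hx
  intro x m hm hx
  obtain ⟨e, z, k, hz, rfl, rfl⟩ := mono_inv hi hx
  have hzA := mono_mem_AA hc (L - (i + 1)) (i + 1) (by omega) z k hz
  rcases e with _ | e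
  · rw [pow_zero, one_mul, h1 z hzA]
    exact mem_OO hz (by simpa using hm)
  · rw [pow_succ', mul_assoc, h2]
    · exact zero_mem _
    · have : tt p (g i) ^ e * z ∈ AA p X i := by
        have h3 := AA_anti hc (Nat.le_succ i) hzA
        clear hm hx
        induction e with
        | zero => simpa using h3
        | succ e ih =>
          rw [pow_succ', mul_assoc]
          exact tt_mul_AA hc hi ih
      exact this

/-- The top generator does not drop below its weight. -/
theorem tt_top_not_mem (hexp : ∀ g : G, g ^ p = 1) {N : ℕ} (hN : L = N + 1) (hz : g N ≠ 1)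
    (huniq : ∀ i < N, ∀ e : ℕ, g i ^ e ∈ X (i + 1) → g i ^ e = 1) : tt p (g N) ∉ OO g L 0 (wt N + 1) := by
  classical
  have hpp := hp.out
  intro hmem
  have hzA : ∀ j, j ≤ N → tt p (g N) ∈ AA p X j := by
    intro j hj
    refine sub_mem (Submodule.subset_span ⟨_, hc.anti hj (hc.gmem N (by omega)), rfl⟩) (one_mem_AA hc j)
  have hdesc : ∀ j, j ≤ N → tt p (g N) ∈ OO g L j (wt N + 1) := by
    intro j hj
    induction j with
    | zero => exact hmem
    | succ j ih =>
      have h1 := ih (by omega)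
      obtain ⟨P, hP⟩ := exists_proj hc hexp (huniq j (by omega))
      have h2 := proj_OO hc (by omega) hP h1
      rwa [(proj_props hc (by omega) hP).1 _ (hzA _ hj)] at h2
  have h1 := hdesc N le_rfl
  -- the functional
  have hord : orderOf (g N) = p := orderOf_eq_prime (hexp _) hz
  have hf : ∀ u : G, ∃ c : ZMod p, ∀ e : ℕ, u = g N ^ e → c = (e : ZMod p) := by
    intro u
    by_cases h : ∃ e : ℕ, u = g N ^ e
    · obtain ⟨e₀, rfl⟩ := h
      refine ⟨(e₀ : ZMod p), fun e he => ?_⟩
      have h2 : e₀ ≡ e [MOD p] := by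
        have := (pow_eq_pow_iff_modEq).1 he
        rwa [hord] at this
      exact (ZMod.natCast_eq_natCast_iff _ _ _).2 h2
    · exact ⟨0, fun e he => absurd ⟨e, he⟩ h⟩
  choose f hf using hf
  set lam := (MonoidAlgebra.basis G (ZMod p)).constr (ZMod p) f with hlam
  have hlam1 : ∀ e : ℕ, lam (MonoidAlgebra.of (ZMod p) G (g N ^ e)) = (e : ZMod p) := by
    intro e
    have h2 := (MonoidAlgebra.basis G (ZMod p)).constr_basis (ZMod p) f (g N ^ e)
    have h3 : (MonoidAlgebra.basis G (ZMod p)) (g N ^ e) = MonoidAlgebra.of (ZMod p) G (g N ^ e) := rfl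
    rw [h3] at h2
    rw [h2, hf _ e rfl]
  -- the span of the powers
  let BB : Submodule (ZMod p) (MonoidAlgebra (ZMod p) G) :=
    Submodule.span (ZMod p) {x | ∃ e : ℕ, x = MonoidAlgebra.of (ZMod p) G (g N ^ e)}
  have hBB : ∀ r ∈ BB, tt p (g N) * r ∈ BB := by
    intro r hr
    induction hr using Submodule.span_induction with
    | mem x hx =>
      obtain ⟨e, rfl⟩ := hx
      have e1 : tt p (g N) * MonoidAlgebra.of (ZMod p) G (g N ^ e) =
          MonoidAlgebra.of (ZMod p) G (g N ^ (e + 1)) - MonoidAlgebra.of (ZMod p) G (g N ^ e) := by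
        rw [tt, sub_mul, one_mul, pow_succ', map_mul]
      rw [e1]
      exact sub_mem (Submodule.subset_span ⟨_, rfl⟩) (Submodule.subset_span ⟨_, rfl⟩)
    | zero => simp
    | add x y _ _ hx hy => rw [mul_add]; exact add_mem hx hy
    | smul c x _ hx => rw [mul_smul_comm]; exact Submodule.smul_mem _ _ hx
  have hB1 : (1 : MonoidAlgebra (ZMod p) G) ∈ BB := Submodule.subset_span ⟨0, by rw [pow_zero, map_one]⟩
  have hB2 : ∀ e : ℕ, tt p (g N) ^ e ∈ BB := by
    intro e
    induction e with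
    | zero => simpa using hB1
    | succ e ih =>
      rw [pow_succ']
      exact hBB _ ih
  have hlam2 : ∀ r ∈ BB, lam (tt p (g N) * (tt p (g N) * r)) = 0 := by
    intro r hr
    induction hr using Submodule.span_induction with
    | mem x hx =>
      obtain ⟨e, rfl⟩ := hx
      have e1 : tt p (g N) * (tt p (g N) * MonoidAlgebra.of (ZMod p) G (g N ^ e)) =
          MonoidAlgebra.of (ZMod p) G (g N ^ (e + 1 + 1)) - MonoidAlgebra.of (ZMod p) G (g N ^ (e + 1)) -
          (MonoidAlgebra.of (ZMod p) G (g N ^ (e + 1)) - MonoidAlgebra.of (ZMod p) G (g N ^ e)) := by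
        have e2 : ∀ s : ℕ, tt p (g N) * MonoidAlgebra.of (ZMod p) G (g N ^ s) =
            MonoidAlgebra.of (ZMod p) G (g N ^ (s + 1)) - MonoidAlgebra.of (ZMod p) G (g N ^ s) := by
          intro s
          rw [tt, sub_mul, one_mul, pow_succ', map_mul]
        rw [e2, mul_sub, e2, e2]
      rw [e1, map_sub, map_sub, map_sub, hlam1, hlam1, hlam1]
      push_cast
      ring
    | zero => simp
    | add x y _ _ hx hy => rw [mul_add, mul_add, map_add, hx, hy, add_zero]
    | smul c x _ hx => rw [mul_smul_comm, mul_smul_comm, map_smul, hx, smul_zero]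
  have hvan : ∀ x ∈ OO g L N (wt N + 1), lam x = 0 := by
    intro x hx
    refine OO_induct (P := fun x => lam x = 0) (by simp)
      (fun x y hx hy => by rw [map_add, hx, hy, add_zero])
      (fun c x hx => by rw [map_smul, hx, smul_zero]) ?_ hx
    intro x m hm hx
    obtain ⟨e, z, k, hz', rfl, rfl⟩ := mono_inv (by omega) hx
    obtain ⟨rfl, rfl⟩ := mono_of_ge (by omega) hz'
    have he : 2 ≤ e := by
      by_contra hlt
      have : e = 0 ∨ e = 1 := by omega
      rcases this with rfl | rfl <;> simp at hm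
    obtain ⟨e', rfl⟩ : ∃ e', e = e' + 2 := ⟨e - 2, by omega⟩
    rw [mul_one, show e' + 2 = (e' + 1) + 1 from rfl, pow_succ', pow_succ']
    exact hlam2 _ (hB2 e')
  have h2 := hvan _ h1
  have h3 : lam (tt p (g N)) = 1 := by
    have e1 : tt p (g N) = MonoidAlgebra.of (ZMod p) G (g N ^ 1) - MonoidAlgebra.of (ZMod p) G (g N ^ 0) := by
      rw [tt, pow_one, pow_zero, map_one]
    rw [e1, map_sub, hlam1, hlam1]
    simp
  rw [h3] at h2
  exact one_ne_zero h2

end Proj


section Sw

variable {R : Type*} [Ring R]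

/-- the sum of all words with `k` letters `u` and `m - k` letters `v` -/
def sw (u v : R) : ℕ → ℕ → R
  | 0, 0 => 1
  | 0, _ + 1 => 0
  | m + 1, 0 => v * sw u v m 0
  | m + 1, k + 1 => u * sw u v m k + v * sw u v m (k + 1)

lemma sw_zero (u v : R) (m : ℕ) : sw u v m 0 = v ^ m := by
  induction m with
  | zero => rw [sw, pow_zero]
  | succ m ih => rw [sw, ih, pow_succ']

lemma sw_gt (u v : R) : ∀ m k, m < k → sw u v m k = 0 := by
  intro m
  induction m with
  | zero =>
    intro k hk
    obtain ⟨k, rfl⟩ : ∃ k', k = k' + 1 := ⟨k - 1, by omega⟩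
    rw [sw]
  | succ m ih =>
    intro k hk
    obtain ⟨k, rfl⟩ : ∃ k', k = k' + 1 := ⟨k - 1, by omega⟩
    rw [sw, ih k (by omega), ih (k + 1) (by omega), mul_zero, mul_zero, add_zero]

lemma sw_self (u v : R) (m : ℕ) : sw u v m m = u ^ m := by
  induction m with
  | zero => rw [sw, pow_zero]
  | succ m ih => rw [sw, ih, sw_gt u v m (m + 1) (by omega), mul_zero, add_zero, pow_succ']

lemma sw_one (u v : R) (m : ℕ) : sw u v m 1 = ∑ i ∈ Finset.range m, v ^ i * u * v ^ (m - 1 - i) := by
  induction m with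
  | zero => rw [sw, Finset.sum_range_zero]
  | succ m ih =>
    rw [sw, sw_zero, ih, Finset.sum_range_succ', Finset.mul_sum]
    rw [add_comm]
    congr 1
    · refine Finset.sum_congr rfl fun i hi => ?_
      have hi' := Finset.mem_range.1 hi
      rw [pow_succ', mul_assoc, mul_assoc, mul_assoc, show m + 1 - 1 - (i + 1) = m - 1 - i by omega]
    · rw [pow_zero, one_mul, show m + 1 - 1 - 0 = m by omega]

variable [Algebra (ZMod p) R]

lemma pow_expand (u v : R) (c : ZMod p) (m : ℕ) :
    (c • u + v) ^ m = ∑ k ∈ Finset.range (m + 1), c ^ k • sw u v m k := by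
  induction m with
  | zero => simp [sw]
  | succ m ih =>
    rw [pow_succ', ih, add_mul, Finset.mul_sum, Finset.mul_sum, Finset.sum_range_succ' _ (m + 1)]
    have e1 : ∑ k ∈ Finset.range (m + 1), c ^ (k + 1) • sw u v (m + 1) (k + 1) =
        ∑ k ∈ Finset.range (m + 1), c ^ (k + 1) • (u * sw u v m k) +
        ∑ k ∈ Finset.range (m + 1), c ^ (k + 1) • (v * sw u v m (k + 1)) := by
      rw [← Finset.sum_add_distrib]
      refine Finset.sum_congr rfl fun k _ => ?_
      rw [sw, smul_add]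
    have e2 : ∑ k ∈ Finset.range (m + 1), v * c ^ k • sw u v m k =
        ∑ k ∈ Finset.range (m + 1), c ^ (k + 1) • (v * sw u v m (k + 1)) + v * sw u v m 0 := by
      have h3 := Finset.sum_range_succ' (fun k => v * c ^ k • sw u v m k) (m + 1)
      rw [Finset.sum_range_succ _ (m + 1), sw_gt u v m (m + 1) (by omega), smul_zero, mul_zero, add_zero] at h3
      rw [h3]
      congr 1
      · refine Finset.sum_congr rfl fun k _ => ?_
        rw [mul_smul_comm]
      · rw [pow_zero, one_smul]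
    have e3 : ∑ k ∈ Finset.range (m + 1), c • u * c ^ k • sw u v m k =
        ∑ k ∈ Finset.range (m + 1), c ^ (k + 1) • (u * sw u v m k) := by
      refine Finset.sum_congr rfl fun k _ => ?_
      rw [smul_mul_assoc, mul_smul_comm, smul_smul, pow_succ']
    rw [e1, e2, e3, sw, pow_zero, one_smul]
    abel

lemma vander (hp3 : 3 ≤ p) (J : Submodule (ZMod p) R) (u v : R) (hu : u ^ p = 0) (hv : v ^ p = 0)
    (h : ∀ c : ZMod p, (c • u + v) ^ p ∈ J) : sw u v p 1 ∈ J := by
  classical
  have hpp := hp.out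
  have hsum : ∑ c : ZMod p, c ^ (p - 2) • (c • u + v) ^ p = - sw u v p 1 := by
    have e1 : ∀ c : ZMod p, c ^ (p - 2) • (c • u + v) ^ p =
        ∑ k ∈ Finset.range (p + 1), c ^ (p - 2 + k) • sw u v p k := by
      intro c
      rw [pow_expand, Finset.smul_sum]
      refine Finset.sum_congr rfl fun k _ => ?_
      rw [smul_smul, pow_add]
    simp_rw [e1]
    rw [Finset.sum_comm]
    simp_rw [← Finset.sum_smul]
    have hcard : Fintype.card (ZMod p) = p := ZMod.card p
    have key : ∀ k ∈ Finset.range (p + 1), (∑ c : ZMod p, c ^ (p - 2 + k)) • sw u v p k =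
        if k = 1 then - sw u v p 1 else 0 := by
      intro k hk
      have hk' := Finset.mem_range.1 hk
      by_cases h1 : k = 1
      · subst h1
        rw [if_pos rfl, show p - 2 + 1 = p - 1 by omega]
        have : ∑ c : ZMod p, c ^ (p - 1) = -1 := by
          have h2 : ∀ c : ZMod p, c ^ (p - 1) = 1 - if c = 0 then 1 else 0 := by
            intro c
            by_cases hc : c = 0
            · subst hc
              rw [zero_pow (by omega), if_pos rfl, sub_self]
            · rw [ZMod.pow_card_sub_one_eq_one hc, if_neg hc, sub_zero]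
          simp_rw [h2]
          rw [Finset.sum_sub_distrib, Finset.sum_ite_eq' Finset.univ (0 : ZMod p), if_pos (Finset.mem_univ _),
            Finset.sum_const, Finset.card_univ, hcard, nsmul_eq_mul, ZMod.natCast_self, zero_mul, zero_sub]
        rw [this, neg_one_smul]
      · rw [if_neg h1]
        by_cases h0 : k = 0
        · subst h0
          rw [sw_zero, hv, smul_zero]
        by_cases hpk : k = p
        · subst hpk
          rw [sw_self, hu, smul_zero]
        have e2 : ∀ c : ZMod p, c ^ (p - 2 + k) = c ^ (k - 1) := by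
          intro c
          by_cases hc : c = 0
          · subst hc
            rw [zero_pow (by omega), zero_pow (by omega)]
          · have h3 : c ^ (p - 1) = 1 := ZMod.pow_card_sub_one_eq_one hc
            rw [show p - 2 + k = (p - 1) + (k - 1) by omega, pow_add, h3, one_mul]
        simp_rw [e2]
        rw [FiniteField.sum_pow_lt_card_sub_one (ZMod p) (k - 1) (by rw [hcard]; omega), zero_smul]
    rw [Finset.sum_congr rfl key, Finset.sum_ite_eq' (Finset.range (p + 1)) 1]
    rw [if_pos (Finset.mem_range.2 (by omega))]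
  have h2 : - sw u v p 1 ∈ J := by
    rw [← hsum]
    exact Submodule.sum_mem _ fun c _ => Submodule.smul_mem _ _ (h c)
  simpa using neg_mem h2

/-- iterated commutators -/
def EE (u v : R) : ℕ → R
  | 0 => u
  | m + 1 => EE u v m * v - v * EE u v m

omit [Algebra (ZMod p) R] in
lemma choose_pred_cast (k : ℕ) (hk : k ≤ p - 1) : (((p - 1).choose k : ℕ) : ZMod p) = (-1) ^ k := by
  have hpp := hp.out
  induction k with
  | zero => simp
  | succ k ih =>
    have h1 : p.choose (k + 1) = (p - 1).choose k + (p - 1).choose (k + 1) := by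
      obtain ⟨q, rfl⟩ : ∃ q, p = q + 1 := ⟨p - 1, by have := hpp.pos; omega⟩
      simp only [Nat.add_sub_cancel]
      exact Nat.choose_succ_succ _ _
    have h2 : ((p.choose (k + 1) : ℕ) : ZMod p) = 0 :=
      (ZMod.natCast_eq_zero_iff _ _).2 (hpp.dvd_choose_self (by omega) (by omega))
    rw [h1, Nat.cast_add, ih (by omega)] at h2
    rw [pow_succ]
    linear_combination h2

lemma EE_top (u v : R) : EE u v (p - 1) = sw u v p 1 := by
  have hpp := hp.out
  let LL : Module.End (ZMod p) R := LinearMap.mulLeft (ZMod p) v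
  let RR : Module.End (ZMod p) R := LinearMap.mulRight (ZMod p) v
  have hcomm0 : Commute LL RR := LinearMap.commute_mulLeft_right (R := ZMod p) v v
  have hcomm : Commute (-LL) RR := hcomm0.neg_left
  have e1 : ∀ m, EE u v m = ((-LL + RR) ^ m) u := by
    intro m
    induction m with
    | zero => simp [EE]
    | succ m ih =>
      rw [pow_succ', Module.End.mul_apply, ← ih, EE]
      simp only [LinearMap.add_apply, LinearMap.neg_apply, LL, RR, LinearMap.mulLeft_apply, LinearMap.mulRight_apply]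
      abel
  rw [e1, hcomm.add_pow, LinearMap.sum_apply, sw_one]
  obtain ⟨q, rfl⟩ : ∃ q, p = q + 1 := ⟨p - 1, by have := hpp.pos; omega⟩
  simp only [Nat.add_sub_cancel]
  refine Finset.sum_congr rfl fun i hi => ?_
  have hi' := Finset.mem_range.1 hi
  have h2 : ((q.choose i : ℕ) : ZMod (q + 1)) * (-1) ^ i = 1 := by
    have h3 := choose_pred_cast (p := q + 1) i (by simpa using (by omega : i ≤ q))
    simp only [Nat.add_sub_cancel] at h3
    rw [h3, ← pow_add, ← two_mul, pow_mul]
    simp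
  have h4 : ∀ (j : ℕ) (x : R), ((-LL) ^ j) x = ((-1 : ZMod (q + 1)) ^ j) • (v ^ j * x) := by
    intro j x
    induction j with
    | zero => simp
    | succ j ih =>
      rw [pow_succ', Module.End.mul_apply, ih]
      simp only [LinearMap.neg_apply, LL, LinearMap.mulLeft_apply, map_smul]
      rw [pow_succ', pow_succ', neg_one_mul, neg_smul, smul_neg, mul_assoc]
  have h5 : ∀ (j : ℕ) (x : R), (RR ^ j) x = x * v ^ j := by
    intro j x
    induction j generalizing x with
    | zero => simp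
    | succ j ih =>
      rw [pow_succ, Module.End.mul_apply, ih]
      simp only [RR, LinearMap.mulRight_apply]
      rw [pow_succ', mul_assoc]
  rw [Module.End.mul_apply, Module.End.mul_apply, Module.End.natCast_apply, h4, h5, ← Nat.cast_smul_eq_nsmul (ZMod (q + 1)), smul_mul_assoc,
    mul_smul_comm, smul_smul, mul_comm, h2, one_smul, mul_assoc]

end Sw


section Final

lemma tt_pow_p (hexp : ∀ x : G, x ^ p = 1) (x : G) : tt p x ^ p = 0 := by
  have : CharP (MonoidAlgebra (ZMod p) G) p :=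
    charP_of_injective_algebraMap (algebraMap (ZMod p) (MonoidAlgebra (ZMod p) G)).injective p
  rw [tt, sub_pow_char_of_commute p (Commute.one_right _), ← map_pow, hexp, map_one, one_pow, sub_self]

section Ch

variable (hc : Chain X g L) (hX0 : ∀ x, x ∈ X 0)
include hc

lemma pow_mem_O {v : MonoidAlgebra (ZMod p) G} (hv : v ∈ OO g L 0 1) (m : ℕ) : v ^ m ∈ OO g L 0 m := by
  induction m with
  | zero => rw [pow_zero]; exact one_mem_OO 0
  | succ m ih =>
    rw [pow_succ]
    exact hc.mul_mem ih hv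

lemma pow_diff {u v : MonoidAlgebra (ZMod p) G} (hu : u ∈ OO g L 0 1) (hv : v ∈ OO g L 0 1)
    (huv : u - v ∈ OO g L 0 2) (m : ℕ) : u ^ m - v ^ m ∈ OO g L 0 (m + 1) := by
  induction m with
  | zero => simp
  | succ m ih =>
    have e : u ^ (m + 1) - v ^ (m + 1) = u * (u ^ m - v ^ m) + (u - v) * v ^ m := by
      rw [pow_succ', pow_succ', mul_sub, sub_mul]
      abel
    rw [e]
    refine add_mem ?_ ?_
    · exact OO_anti (by omega) (hc.mul_mem hu ih)
    · exact OO_anti (by omega) (hc.mul_mem huv (pow_mem_O hc hv m))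

include hX0

lemma tt_O1 (x : G) : tt p x ∈ OO g L 0 1 := hc.tt_mem' (hX0 x)

lemma tt_pow_sub (y : G) (n : ℕ) : tt p (y ^ n) - n • tt p y ∈ OO g L 0 2 := by
  induction n with
  | zero => simp [tt_one]
  | succ n ih =>
    have e : tt p (y ^ (n + 1)) - (n + 1) • tt p y = (tt p (y ^ n) - n • tt p y) + tt p y * tt p (y ^ n) := by
      rw [pow_succ', tt_mul, of_eq, add_mul, one_mul, add_smul, one_smul]
      abel
    rw [e]
    exact add_mem ih (hc.mul_mem (a := 1) (b := 1) (tt_O1 hc hX0 y) (tt_O1 hc hX0 (y ^ n)))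

lemma linear_pow (hexp : ∀ x : G, x ^ p = 1) (y a : G) (c : ZMod p) :
    (c • tt p y + tt p a) ^ p ∈ OO g L 0 (p + 1) := by
  obtain ⟨n, rfl⟩ : ∃ n : ℕ, c = (n : ZMod p) := ⟨c.val, (ZMod.natCast_zmod_val c).symm⟩
  rw [Nat.cast_smul_eq_nsmul]
  have hu := tt_O1 (p := p) hc hX0 (y ^ n * a)
  have hv : n • tt p y + tt p a ∈ OO g L 0 1 :=
    add_mem (nsmul_mem (tt_O1 hc hX0 y) n) (tt_O1 hc hX0 a)
  have huv : tt p (y ^ n * a) - (n • tt p y + tt p a) ∈ OO g L 0 2 := by
    have e : tt p (y ^ n * a) - (n • tt p y + tt p a) =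
        tt p (y ^ n) * tt p a + (tt p (y ^ n) - n • tt p y) := by
      rw [tt_mul, of_eq, add_mul, one_mul]
      abel
    rw [e]
    exact add_mem (hc.mul_mem (a := 1) (b := 1) (tt_O1 hc hX0 (y ^ n)) (tt_O1 hc hX0 a)) (tt_pow_sub hc hX0 _ _)
  have h := pow_diff hc hu hv huv p
  rw [tt_pow_p hexp, zero_sub] at h
  simpa using neg_mem h

omit hc hX0 in
lemma tt_comm_eq (x a : G) : tt p ⁅x, a⁆ = (tt p x * tt p a - tt p a * tt p x) +
    (tt p x * tt p a - tt p a * tt p x) * tt p (a * x)⁻¹ := by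
  have e1 : ⁅x, a⁆ * (a * x) = x * a := by
    rw [commutatorElement_def]
    group
  have e2 : tt p x * tt p a - tt p a * tt p x = tt p ⁅x, a⁆ * MonoidAlgebra.of (ZMod p) G (a * x) := by
    have e3 : tt p ⁅x, a⁆ * MonoidAlgebra.of (ZMod p) G (a * x) =
        MonoidAlgebra.of (ZMod p) G (x * a) - MonoidAlgebra.of (ZMod p) G (a * x) := by
      rw [tt, sub_mul, one_mul, ← map_mul, e1]
    rw [e3]
    simp only [tt, map_mul, mul_sub, sub_mul, mul_one, one_mul]
    abel
  have e4 : MonoidAlgebra.of (ZMod p) G (a * x) * MonoidAlgebra.of (ZMod p) G (a * x)⁻¹ = 1 := of_mul_inv _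
  have e5 : MonoidAlgebra.of (ZMod p) G (a * x) * tt p (a * x)⁻¹ = 1 - MonoidAlgebra.of (ZMod p) G (a * x) := by
    rw [tt, mul_sub, e4, mul_one]
  rw [e2, mul_assoc, e5, mul_sub, mul_one]
  abel

lemma comm_diff {x a : G} {m : ℕ} {u : MonoidAlgebra (ZMod p) G} (hx : tt p x ∈ OO g L 0 (m + 1))
    (hu : tt p x - u ∈ OO g L 0 (m + 2)) :
    tt p ⁅x, a⁆ - (u * tt p a - tt p a * u) ∈ OO g L 0 (m + 3) := by
  rw [tt_comm_eq]
  have hA := tt_O1 (p := p) hc hX0 a
  have h1 : tt p x * tt p a - tt p a * tt p x ∈ OO g L 0 (m + 2) :=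
    sub_mem (hc.mul_mem (a := m + 1) (b := 1) hx hA) (OO_anti (by omega) (hc.mul_mem (a := 1) (b := m + 1) hA hx))
  have h2 := hc.mul_mem (a := m + 2) (b := 1) h1 (tt_O1 (p := p) hc hX0 (a * x)⁻¹)
  have e : (tt p x * tt p a - tt p a * tt p x) + (tt p x * tt p a - tt p a * tt p x) * tt p (a * x)⁻¹ -
      (u * tt p a - tt p a * u) =
      ((tt p x - u) * tt p a - tt p a * (tt p x - u)) + (tt p x * tt p a - tt p a * tt p x) * tt p (a * x)⁻¹ := by
    rw [sub_mul (tt p x) u, mul_sub (tt p a) (tt p x) u]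
    abel
  rw [e]
  refine add_mem (sub_mem (hc.mul_mem (a := m + 2) (b := 1) hu hA) ?_) h2
  exact OO_anti (by omega) (hc.mul_mem (a := 1) (b := m + 2) hA hu)

end Ch

/-- **The key lemma of Blackburn**: a maximal class chain of length `p + 1` can't have exponent `p`. -/
theorem engel_contra (hp3 : 3 ≤ p) (hexp : ∀ x : G, x ^ p = 1) (hc : Chain X g (p + 1)) (hX0 : ∀ x, x ∈ X 0)
    (huniq : ∀ i < p, ∀ e : ℕ, g i ^ e ∈ X (i + 1) → g i ^ e = 1)
    (hrec : ∀ m, m + 2 ≤ p → g (m + 2) = ⁅g (m + 1), g 0⁆) (hgp : g p ≠ 1) : False := by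
  have hpp := hp.out
  -- the top bound
  have htop := tt_top_not_mem (p := p) hc hexp (N := p) rfl hgp huniq
  have hwt : wt p = p := by simp only [wt]; omega
  rw [hwt] at htop
  -- the Vandermonde step
  have hvand := vander (p := p) hp3 (OO g (p + 1) 0 (p + 1)) (tt p (g 1)) (tt p (g 0)) (tt_pow_p hexp _) (tt_pow_p hexp _)
    (linear_pow hc hX0 hexp _ _)
  rw [← EE_top] at hvand
  -- the commutator approximations
  have hD : ∀ m, m + 1 ≤ p → tt p (g (m + 1)) - EE (tt p (g 1)) (tt p (g 0)) m ∈ OO g (p + 1) 0 (m + 2) := by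
    intro m
    induction m with
    | zero =>
      intro _
      simp [EE]
    | succ m ih =>
      intro hm
      rw [hrec m (by omega), EE]
      have h1 : tt p (g (m + 1)) ∈ OO g (p + 1) 0 (m + 1) := by
        have h2 := tt_gen_mem (p := p) (g := g) (L := p + 1) (j := m + 1) (by omega)
        have h3 : wt (m + 1) = m + 1 := by simp only [wt]; omega
        rw [h3] at h2
        exact OO_down' (by omega) h2
      exact comm_diff hc hX0 h1 (ih (by omega))
  have h1 := hD (p - 1) (by omega)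
  rw [show p - 1 + 1 = p by omega, show p - 1 + 2 = p + 1 by omega] at h1
  refine htop ?_
  have e : tt p (g p) = (tt p (g p) - EE (tt p (g 1)) (tt p (g 0)) (p - 1)) + EE (tt p (g 1)) (tt p (g 0)) (p - 1) := by abel
  rw [e]
  exact add_mem h1 hvand

end Final

end Cfsg.Agent.Lib.MaxEngel
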