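import Mathlib
import Cfsg.Agent.Lib.FusionExtraIdx

/-!
# Transvections in automorphism groups with a strongly embedded subgroup

`E` abelian, `A ≤ Aut E` with a strongly `p`-embedded subgroup.  If `τ ∈ A` is a transvection with centre `Z` of order `p`
then any `t` lying in a common `p`-subgroup with `τ` and fixing `Z` pointwise is a power of `τ`.
-/

set_option autoImplicit false
set_option linter.unusedSectionVars false
set_option linter.style.haveILetI false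

namespace Cfsg.Agent.Lib.MaxEss3A

open Cfsg Cfsg.FusionSystem Cfsg.Agent.Lib.FusionCore Cfsg.Agent.Lib.FusionCore2 Cfsg.Agent.Lib.FusionCore3
open Cfsg.Agent.Lib.SEFusion Cfsg.Agent.Lib.FusionExtraIdx
open scoped commutatorElement

section Abstract

variable {E : Type*} [Group E] {p : ℕ} [hp : Fact p.Prime]

/-- A transvection-like automorphism with centre in `Z`. -/
def Tv (σ : MulAut E) (Z : Subgroup E) : Prop := (∀ e, σ e * e⁻¹ ∈ Z) ∧ ∀ z ∈ Z, σ z = z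

lemma inv_fix {σ : MulAut E} {z : E} (h : σ z = z) : σ⁻¹ z = z := by
  conv_lhs => rw [← h]
  simp

lemma Tv.inv {σ : MulAut E} {Z : Subgroup E} (h : Tv σ Z) : Tv σ⁻¹ Z := by
  refine ⟨fun e => ?_, fun z hz => ?_⟩
  · have h1 := h.1 (σ⁻¹ e)
    have h2 : σ (σ⁻¹ e) = e := by simp
    rw [h2] at h1
    have h3 := Z.inv_mem h1
    simpa using h3
  · exact inv_fix (h.2 z hz)

lemma Tv.mul {σ σ' : MulAut E} {Z : Subgroup E} (h : Tv σ Z) (h' : Tv σ' Z) : Tv (σ * σ') Z := by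
  refine ⟨fun e => ?_, fun z hz => ?_⟩
  · have h1 := Z.mul_mem (h.1 (σ' e)) (h'.1 e)
    rw [MulAut.mul_apply]
    simpa [mul_assoc] using h1
  · rw [MulAut.mul_apply, h'.2 z hz, h.2 z hz]

lemma Tv.conj {σ : MulAut E} {Z : Subgroup E} (h : Tv σ Z) (g : MulAut E) : Tv (g * σ * g⁻¹) (Z.map g.toMonoidHom) := by
  refine ⟨fun e => ?_, ?_⟩
  · refine ⟨σ (g⁻¹ e) * (g⁻¹ e)⁻¹, h.1 _, ?_⟩
    show g (σ (g⁻¹ e) * (g⁻¹ e)⁻¹) = (g * σ * g⁻¹) e * e⁻¹
    simp [MulAut.mul_apply]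
  · rintro _ ⟨z, hz, rfl⟩
    show (g * σ * g⁻¹) (g z) = g z
    simp [MulAut.mul_apply, h.2 z hz]

lemma Tv.pow_apply {σ : MulAut E} {Z : Subgroup E} (h : Tv σ Z) (k : ℕ) (e : E) :
    (σ ^ k) e = (σ e * e⁻¹) ^ k * e := by
  induction k with
  | zero => simp
  | succ k ih =>
    rw [pow_succ', MulAut.mul_apply, ih, map_mul, map_pow, h.2 _ (h.1 e), pow_succ]
    simp [mul_assoc]

lemma Tv.pow_card {σ : MulAut E} {Z : Subgroup E} (h : Tv σ Z) (hZ : Nat.card Z = p) : σ ^ p = 1 := by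
  ext e
  rw [h.pow_apply]
  have h1 : (σ e * e⁻¹) ^ p = 1 := by
    have h2 : ((⟨σ e * e⁻¹, h.1 e⟩ : Z)) ^ (Nat.card Z) = 1 := pow_card_eq_one'
    rw [hZ] at h2
    exact congrArg Subtype.val h2
  rw [h1]
  simp

lemma Tv.orderOf_eq {σ : MulAut E} {Z : Subgroup E} (h : Tv σ Z) (hZ : Nat.card Z = p) (h1 : σ ≠ 1) : orderOf σ = p :=
  orderOf_eq_prime (h.pow_card hZ) h1

/-- Generators of a subgroup of order `p`. -/
lemma zpowers_of_card {Z : Subgroup E} (hZ : Nat.card Z = p) {z : E} (hz : z ∈ Z) (h1 : z ≠ 1) : Subgroup.zpowers z = Z :=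
  Cfsg.Agent.Lib.FusionZ2E.zpowers_eq_of_card' hZ hz h1

lemma exists_nat_pow {x y : E} (hx : x ^ p = 1) (hy : y ∈ Subgroup.zpowers x) : ∃ i : ℕ, y = x ^ i := by
  obtain ⟨j, rfl⟩ := hy
  have hpp := hp.out
  refine ⟨(j % (p : ℤ)).toNat, ?_⟩
  have h1 : (0 : ℤ) ≤ j % (p : ℤ) := Int.emod_nonneg _ (by exact_mod_cast hpp.ne_zero)
  rw [← zpow_natCast, Int.toNat_of_nonneg h1]
  show x ^ j = _
  conv_lhs => rw [← Int.mul_ediv_add_emod j p]
  rw [zpow_add, zpow_mul, zpow_natCast, hx, one_zpow, one_mul]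

variable {X : Type*} [Group X]

/-- An element commuting with an element of order `p` in a strongly embedded subgroup lies in it. -/
lemma mem_of_commute [Finite X] {M : Subgroup X} (hM : IsStronglyPEmbedded p M) {x y : X} (hx : orderOf x = p) (hxM : x ∈ M)
    (hc : y * x = x * y) : y ∈ M := by
  obtain ⟨P, -, hN⟩ := exists_sylow_of_isStronglyPEmbedded hM
  refine hN (Subgroup.zpowers x) ((Subgroup.zpowers_le).2 hxM) (isPGroup_zpowers hx) (zpowers_ne_bot_of_order hx) ?_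
  rw [Subgroup.mem_normalizer_iff]
  have hconj : ∀ i : ℤ, y * x ^ i * y⁻¹ = x ^ i := by
    intro i
    have : Commute y (x ^ i) := (show Commute y x from hc).zpow_right i
    rw [this.eq]
    group
  intro w
  constructor
  · rintro ⟨i, rfl⟩
    exact ⟨i, (hconj i).symm⟩
  · rintro ⟨i, hi⟩
    refine ⟨i, ?_⟩
    have hi' : x ^ i = y * w * y⁻¹ := hi
    have h5 := hconj i
    rw [hi'] at h5
    have h7 : y * w * y⁻¹ = y * (x ^ i) * y⁻¹ := by rw [hconj i, hi']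
    exact (mul_left_cancel (mul_right_cancel h7)).symm

variable {A : Subgroup (MulAut E)} [Finite X]

/-- Lemma J: two conjugates of a transvection in special position. -/
theorem conj_mem_of_fix (hcomm : ∀ a b : E, a * b = b * a) (π : A →* X) (hinj : Function.Injective π) {M : Subgroup X}
    (hM : IsStronglyPEmbedded p M) {τ : A} {Z : Subgroup E} (hZ : Nat.card Z = p) (hτ : Tv (τ : MulAut E) Z)
    (hτ1 : τ ≠ 1) (hτM : π τ ∈ M) (g₁ g₂ : A)
    (hfix : ∀ z ∈ Z.map (g₂ : MulAut E).toMonoidHom, ((g₁ * τ * g₁⁻¹ : A) : MulAut E) z = z) :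
    π (g₁⁻¹ * g₂) ∈ M := by
  have hτ1' : (τ : MulAut E) ≠ 1 := fun h => hτ1 (Subtype.ext h)
  have hτo : orderOf (π τ) = p := by
    rw [orderOf_injective π hinj, ← Subgroup.orderOf_coe]
    exact hτ.orderOf_eq hZ hτ1'
  let σ₁ : A := g₁ * τ * g₁⁻¹
  let σ₂ : A := g₂ * τ * g₂⁻¹
  have hT1 : Tv (σ₁ : MulAut E) (Z.map (g₁ : MulAut E).toMonoidHom) := hτ.conj _
  have hT2 : Tv (σ₂ : MulAut E) (Z.map (g₂ : MulAut E).toMonoidHom) := hτ.conj _
  set Z₁ := Z.map (g₁ : MulAut E).toMonoidHom with hZ₁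
  set Z₂ := Z.map (g₂ : MulAut E).toMonoidHom with hZ₂
  have hcZ₂ : Nat.card Z₂ = p := by
    rw [hZ₂, Subgroup.card_map_of_injective (g₂ : MulAut E).injective, hZ]
  have hσ₁ : ∀ z ∈ Z₂, (σ₁ : MulAut E) z = z := hfix
  have key : ∀ y : A, y * τ = τ * y → π y ∈ M := fun y hy =>
    mem_of_commute hM hτo hτM (by rw [← map_mul, ← map_mul, hy])
  by_cases hcase : ∀ z ∈ Z₁, (σ₂ : MulAut E) z = z
  · -- they commute
    have hc : (σ₁ : MulAut E) * σ₂ = σ₂ * σ₁ :=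
      commute_of_fix hcomm hT1.1 hT2.1 hσ₁ hcase
    have hcA : σ₁ * σ₂ = σ₂ * σ₁ := Subtype.ext hc
    have h1 := key (g₁⁻¹ * σ₂ * g₁) (by
      have : g₁⁻¹ * σ₂ * g₁ * τ = g₁⁻¹ * (σ₂ * σ₁) * g₁ := by
        simp only [σ₁]; group
      rw [this, ← hcA]
      simp only [σ₁]; group)
    have e : g₁⁻¹ * σ₂ * g₁ = (g₁⁻¹ * g₂) * τ * (g₁⁻¹ * g₂)⁻¹ := by
      simp only [σ₂]; group
    rw [e, map_mul, map_mul, map_inv] at h1
    exact mem_of_conj_mem hM hτo hτM h1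
  · -- the commutator
    push Not at hcase
    obtain ⟨y, hy, hyne⟩ := hcase
    let ρ : A := σ₁ * σ₂ * σ₁⁻¹ * σ₂⁻¹
    have hT1' := hT1.inv
    have hT2' := hT2.inv
    have hconj : Tv ((σ₁ * σ₂ * σ₁⁻¹ : A) : MulAut E) Z₂ := by
      refine ⟨fun e => ?_, fun z hz => ?_⟩
      · have h1 := hT2.1 (σ₁⁻¹.1 e)
        have h2 := hT1.inv.2
        -- `σ₁` fixes `Z₂`
        have h3 : (σ₁ : MulAut E) ((σ₂ : MulAut E) ((σ₁⁻¹ : A).1 e) * ((σ₁⁻¹ : A).1 e)⁻¹) =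
            (σ₂ : MulAut E) ((σ₁⁻¹ : A).1 e) * ((σ₁⁻¹ : A).1 e)⁻¹ := hσ₁ _ h1
        rw [map_mul, map_inv] at h3
        have h4 : (σ₁ : MulAut E) ((σ₁⁻¹ : A).1 e) = e := by
          show (σ₁ : MulAut E) ((σ₁ : MulAut E)⁻¹ e) = e
          simp
        rw [h4] at h3
        have h5 : ((σ₁ * σ₂ * σ₁⁻¹ : A) : MulAut E) e = (σ₁ : MulAut E) ((σ₂ : MulAut E) ((σ₁⁻¹ : A).1 e)) := rfl
        rw [h5]
        rw [h3]
        exact h1
      · have h5 : ((σ₁ * σ₂ * σ₁⁻¹ : A) : MulAut E) z = (σ₁ : MulAut E) ((σ₂ : MulAut E) ((σ₁⁻¹ : A).1 z)) := rfl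
        have h6 : (σ₁⁻¹ : A).1 z = z := by
          show (σ₁ : MulAut E)⁻¹ z = z
          exact inv_fix (hσ₁ z hz)
        rw [h5, h6, hT2.2 z hz, hσ₁ z hz]
    have hρT : Tv (ρ : MulAut E) Z₂ := hconj.mul hT2'
    -- `ρ` fixes `Z₁`
    have hρZ₁ : ∀ z ∈ Z₁, (ρ : MulAut E) z = z := by
      intro z hz
      have hb := hT2'.1 z
      set b := (σ₂⁻¹ : A).1 z * z⁻¹ with hbdef
      have e1 : (σ₂⁻¹ : A).1 z = b * z := by rw [hbdef]; group
      have e2 : (σ₁⁻¹ : A).1 (b * z) = b * z := by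
        show (σ₁ : MulAut E)⁻¹ (b * z) = b * z
        apply inv_fix
        rw [map_mul, hσ₁ b hb, hT1.2 z hz]
      have e3 : (σ₂ : MulAut E) (b * z) = z := by
        rw [← e1]
        show (σ₂ : MulAut E) ((σ₂ : MulAut E)⁻¹ z) = z
        simp
      show (σ₁ : MulAut E) ((σ₂ : MulAut E) ((σ₁⁻¹ : A).1 ((σ₂⁻¹ : A).1 z))) = z
      rw [e1, e2, e3, hT1.2 z hz]
    have hρ1 : ρ ≠ 1 := by
      intro h
      -- `σ₁ σ₂ = σ₂ σ₁`
      have h2 : σ₁ * σ₂ = σ₂ * σ₁ := by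
        have : σ₁ * σ₂ * σ₁⁻¹ * σ₂⁻¹ = 1 := h
        calc σ₁ * σ₂ = (σ₁ * σ₂ * σ₁⁻¹ * σ₂⁻¹) * (σ₂ * σ₁) := by group
          _ = σ₂ * σ₁ := by rw [this, one_mul]
      have hσ₁1 : (σ₁ : MulAut E) ≠ 1 := by
        intro h3
        apply hτ1'
        have h4 : (g₁ : MulAut E) * τ * (g₁ : MulAut E)⁻¹ = 1 := h3
        have h5 : (τ : MulAut E) = (g₁ : MulAut E)⁻¹ * ((g₁ : MulAut E) * τ * (g₁ : MulAut E)⁻¹) * g₁ := by group
        rw [h5, h4]
        group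
      obtain ⟨x, hx⟩ : ∃ x, (σ₁ : MulAut E) x ≠ x := by
        by_contra hcon
        push Not at hcon
        exact hσ₁1 (MulEquiv.ext hcon)
      set z₁ := (σ₁ : MulAut E) x * x⁻¹ with hz₁
      have hz₁m : z₁ ∈ Z₁ := hT1.1 x
      have hz₁1 : z₁ ≠ 1 := by
        intro h3
        apply hx
        rw [hz₁, mul_inv_eq_one] at h3
        exact h3
      have hcZ₁ : Nat.card Z₁ = p := by
        rw [hZ₁, Subgroup.card_map_of_injective (g₁ : MulAut E).injective, hZ]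
      have hzp := zpowers_of_card hcZ₁ hz₁m hz₁1
      have hne : (σ₂ : MulAut E) z₁ ≠ z₁ := by
        intro h3
        apply hyne
        rw [← hzp] at hy
        obtain ⟨i, rfl⟩ := hy
        rw [map_zpow, h3]
      apply hne
      have h3 := congrArg (fun a : A => (a : MulAut E) x) h2
      have h4 : (σ₁ : MulAut E) ((σ₂ : MulAut E) x) = (σ₂ : MulAut E) ((σ₁ : MulAut E) x) := h3
      have hd := hT2.1 x
      have e : (σ₂ : MulAut E) x = ((σ₂ : MulAut E) x * x⁻¹) * x := by group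
      have e' : (σ₁ : MulAut E) x = z₁ * x := by rw [hz₁]; group
      have e2 : (σ₁ : MulAut E) ((σ₂ : MulAut E) x) = ((σ₂ : MulAut E) x * x⁻¹) * (z₁ * x) := by
        conv_lhs => rw [e]
        rw [map_mul, hσ₁ _ hd, e']
      rw [e2, e', map_mul] at h4
      have h5 : ((σ₂ : MulAut E) x * x⁻¹) * (z₁ * x) = z₁ * (σ₂ : MulAut E) x := by
        have aux : ∀ a b c : E, (a * c⁻¹) * (b * c) = b * a := fun a b c => by
          calc (a * c⁻¹) * (b * c) = (b * c) * (a * c⁻¹) := hcomm _ _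
            _ = b * (c * (a * c⁻¹)) := mul_assoc _ _ _
            _ = b * (c * (c⁻¹ * a)) := by rw [hcomm a c⁻¹]
            _ = b * a := by group
        exact aux _ _ _
      rw [h5] at h4
      exact (mul_right_cancel h4).symm
    have hρ1' : (ρ : MulAut E) ≠ 1 := fun h => hρ1 (Subtype.ext h)
    have hρo : orderOf (π ρ) = p := by
      rw [orderOf_injective π hinj, ← Subgroup.orderOf_coe]
      exact hρT.orderOf_eq hcZ₂ hρ1'
    have hc1 : (ρ : MulAut E) * σ₁ = σ₁ * ρ :=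
      commute_of_fix hcomm hρT.1 hT1.1 hρZ₁ hσ₁
    have hc2 : (ρ : MulAut E) * σ₂ = σ₂ * ρ :=
      commute_of_fix hcomm hρT.1 hT2.1 hρT.2 hT2.2
    have hc1A : ρ * σ₁ = σ₁ * ρ := Subtype.ext hc1
    have hc2A : ρ * σ₂ = σ₂ * ρ := Subtype.ext hc2
    have h1 := key (g₁⁻¹ * ρ * g₁) (by
      have e1 : g₁⁻¹ * ρ * g₁ * τ = g₁⁻¹ * (ρ * σ₁) * g₁ := by simp only [σ₁]; group
      have e2 : τ * (g₁⁻¹ * ρ * g₁) = g₁⁻¹ * (σ₁ * ρ) * g₁ := by simp only [σ₁]; group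
      rw [e1, e2, hc1A])
    have h2 := key (g₂⁻¹ * ρ * g₂) (by
      have e1 : g₂⁻¹ * ρ * g₂ * τ = g₂⁻¹ * (ρ * σ₂) * g₂ := by simp only [σ₂]; group
      have e2 : τ * (g₂⁻¹ * ρ * g₂) = g₂⁻¹ * (σ₂ * ρ) * g₂ := by simp only [σ₂]; group
      rw [e1, e2, hc2A])
    have hxo : orderOf (π (g₁⁻¹ * ρ * g₁)) = p := by
      rw [← hρo]
      rw [orderOf_injective π hinj, orderOf_injective π hinj]
      have : g₁⁻¹ * ρ * g₁ = (MulAut.conj g₁⁻¹) ρ := by simp [MulAut.conj_apply]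
      rw [this]
      exact MulEquiv.orderOf_eq _ _
    have e : g₂⁻¹ * ρ * g₂ = (g₁⁻¹ * g₂)⁻¹ * (g₁⁻¹ * ρ * g₁) * ((g₁⁻¹ * g₂)⁻¹)⁻¹ := by group
    rw [e, map_mul, map_mul, map_inv] at h2
    have h3 := mem_of_conj_mem hM hxo h1 (g := (π (g₁⁻¹ * g₂))⁻¹) (by
      simpa using h2)
    have h4 := M.inv_mem h3
    simpa using h4

/-- `τ` inside `M`: the position of conjugates. -/
theorem generic_of_mem (hcomm : ∀ a b : E, a * b = b * a) (π : A →* X) (hinj : Function.Injective π) {M : Subgroup X}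
    (hM : IsStronglyPEmbedded p M) {τ : A} {Z : Subgroup E} (hZ : Nat.card Z = p) (hτ : Tv (τ : MulAut E) Z)
    (hτ1 : τ ≠ 1) (hτM : π τ ∈ M) {g : A} (hg : π g ∉ M) :
    (∃ v ∈ Z.map (g : MulAut E).toMonoidHom, (τ : MulAut E) v ≠ v) ∧ (∃ z ∈ Z, ((g * τ * g⁻¹ : A) : MulAut E) z ≠ z) := by
  constructor
  · by_contra hcon
    push Not at hcon
    apply hg
    have := conj_mem_of_fix hcomm π hinj hM hZ hτ hτ1 hτM 1 g (by simpa using hcon)
    simpa using this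
  · by_contra hcon
    push Not at hcon
    apply hg
    have := conj_mem_of_fix hcomm π hinj hM hZ hτ hτ1 hτM g 1 (by simpa using hcon)
    have h2 := M.inv_mem this
    simpa using h2

/-- The main lemma, `R` inside `M`. -/
theorem tv_main0 (hcomm : ∀ a b : E, a * b = b * a) (π : A →* X) (hπ : Function.Surjective π)
    (hinj : Function.Injective π) {M : Subgroup X} (hM : IsStronglyPEmbedded p M) {R : Subgroup (MulAut E)} (hRA : R ≤ A)
    (hRp : IsPGroup p R) (hRM : ∀ r (hr : r ∈ R), π ⟨r, hRA hr⟩ ∈ M) {Z : Subgroup E} (hZ : Nat.card Z = p)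
    {τ₀ : MulAut E} (hτR : τ₀ ∈ R) (hτ : Tv τ₀ Z) (hτ1 : τ₀ ≠ 1) {t : MulAut E} (htR : t ∈ R) (ht : ∀ z ∈ Z, t z = z) :
    t ∈ Subgroup.zpowers τ₀ := by
  classical
  by_contra hcon
  let τ : A := ⟨τ₀, hRA hτR⟩
  have hτ1' : τ ≠ 1 := fun h => hτ1 (congrArg Subtype.val h)
  obtain ⟨x, hx⟩ : ∃ x, x ∉ M := by
    by_contra hc
    push Not at hc
    exact hM.2.1 (eq_top_iff.2 fun y _ => hc y)
  obtain ⟨g, rfl⟩ := hπ x
  obtain ⟨⟨v, hv, hvne⟩, ⟨z', hz', hz'ne⟩⟩ := generic_of_mem hcomm π hinj hM hZ (τ := τ) hτ hτ1' (hRM _ hτR) hx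
  set Z₂ := Z.map (g : MulAut E).toMonoidHom with hZ₂
  have hcZ₂ : Nat.card Z₂ = p := by
    rw [hZ₂, Subgroup.card_map_of_injective (g : MulAut E).injective, hZ]
  set σ : MulAut E := (g : MulAut E) * τ₀ * (g : MulAut E)⁻¹ with hσ
  have hσT : Tv σ Z₂ := hτ.conj _
  -- `z`
  set z := τ₀ v * v⁻¹ with hz
  have hzZ : z ∈ Z := hτ.1 v
  have hz1 : z ≠ 1 := by
    intro h
    apply hvne
    rw [hz, mul_inv_eq_one] at h
    exact h
  have hzp := zpowers_of_card hZ hzZ hz1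
  have hσz : σ z ≠ z := by
    intro h
    apply hz'ne
    rw [← hzp] at hz'
    obtain ⟨i, rfl⟩ := hz'
    show σ (z ^ i) = z ^ i
    rw [map_zpow, h]
  -- `d`
  set d := σ z * z⁻¹ with hd
  have hdZ : d ∈ Z₂ := hσT.1 z
  have hd1 : d ≠ 1 := by
    intro h
    apply hσz
    rw [hd, mul_inv_eq_one] at h
    exact h
  have hdp := zpowers_of_card hcZ₂ hdZ hd1
  have hdpow : d ^ p = 1 := by
    have h2 : ((⟨d, hdZ⟩ : Z₂)) ^ (Nat.card Z₂) = 1 := pow_card_eq_one'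
    rw [hcZ₂] at h2
    exact congrArg Subtype.val h2
  -- the exponent
  have hf : (σ (t v) * (t v)⁻¹)⁻¹ ∈ Subgroup.zpowers d := by
    rw [hdp]
    exact Z₂.inv_mem (hσT.1 _)
  obtain ⟨i, hi⟩ := exists_nat_pow hdpow hf
  let u : MulAut E := t * τ₀ ^ i
  have huR : u ∈ R := R.mul_mem htR (R.pow_mem hτR i)
  have hu1 : u ≠ 1 := by
    intro h
    apply hcon
    have : t = (τ₀ ^ i)⁻¹ := eq_inv_of_mul_eq_one_left h
    rw [this]
    exact Subgroup.inv_mem _ (Subgroup.pow_mem _ (Subgroup.mem_zpowers _) _)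
  have huv : u v = z ^ i * t v := by
    show t ((τ₀ ^ i) v) = _
    rw [hτ.pow_apply, map_mul, map_pow, ht z hzZ]
  have hσz' : σ z = d * z := by rw [hd]; group
  have hσu : σ (u v) = u v := by
    rw [huv, map_mul, map_pow, hσz']
    have e : σ (t v) = (σ (t v) * (t v)⁻¹) * t v := by group
    rw [e]
    have e2 : σ (t v) * (t v)⁻¹ = (d ^ i)⁻¹ := by rw [← hi]; group
    rw [e2]
    have hc2 : ∀ a b : E, Commute a b := hcomm
    rw [(hc2 d z).mul_pow]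
    calc d ^ i * z ^ i * ((d ^ i)⁻¹ * t v) = z ^ i * (d ^ i * (d ^ i)⁻¹) * t v := by
          rw [hcomm (d ^ i) (z ^ i)]; group
      _ = _ := by group
  -- the conjugate
  let u' : A := ⟨u, hRA huR⟩
  have hfix : ∀ y ∈ Z.map ((u' * g : A) : MulAut E).toMonoidHom, ((g * τ * g⁻¹ : A) : MulAut E) y = y := by
    rintro _ ⟨y, hy, rfl⟩
    -- `g y` is a power of `v`
    have hgy : (g : MulAut E) y ∈ Z₂ := ⟨y, hy, rfl⟩
    have hv1 : v ≠ 1 := by
      rintro rfl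
      simp at hvne
    have hvp := zpowers_of_card hcZ₂ hv hv1
    rw [← hvp] at hgy
    obtain ⟨k, hk⟩ := hgy
    have hk' : (g : MulAut E) y = v ^ k := hk.symm
    show σ (u ((g : MulAut E) y)) = u ((g : MulAut E) y)
    rw [hk', map_zpow, map_zpow, hσu]
  have h1 := conj_mem_of_fix hcomm π hinj hM hZ (τ := τ) hτ hτ1' (hRM _ hτR) g (u' * g) hfix
  -- conclude
  have hπu : π u' ∈ M := hRM u huR
  have hu'1 : u' ≠ 1 := fun h => hu1 (congrArg Subtype.val h)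
  have hpu : π u' ≠ 1 := fun h => hu'1 (hinj (by rw [h, map_one]))
  obtain ⟨k, hk⟩ := hRp ⟨u, huR⟩
  have hupow : (π u') ^ (p ^ k) = 1 := by
    have h3 : u ^ (p ^ k) = 1 := congrArg Subtype.val hk
    have h4 : u' ^ (p ^ k) = 1 := Subtype.ext h3
    rw [← map_pow, h4, map_one]
  apply hx
  have h5 : (π g)⁻¹ ∈ M := by
    refine mem_of_map_conj_le hM (isPGroup_zpowers_of_pow hupow) ?_ ((Subgroup.zpowers_le).2 hπu) ?_
    · intro h
      rw [Subgroup.zpowers_eq_bot] at h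
      exact hpu h
    · rintro _ ⟨y, ⟨j, rfl⟩, rfl⟩
      show (π g)⁻¹ * (π u') ^ j * ((π g)⁻¹)⁻¹ ∈ M
      have e : (π g)⁻¹ * (π u') ^ j * ((π g)⁻¹)⁻¹ = (π (g⁻¹ * (u' * g))) ^ j := by
        have : π (g⁻¹ * (u' * g)) = (π g)⁻¹ * π u' * ((π g)⁻¹)⁻¹ := by
          simp [map_mul, map_inv, mul_assoc]
        rw [this, conj_zpow]
      rw [e]
      exact M.zpow_mem h1 j
  simpa using h5

/-- The main lemma. -/
theorem tv_main (hcomm : ∀ a b : E, a * b = b * a) (π : A →* X) (hπ : Function.Surjective π)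
    (hinj : Function.Injective π) {M : Subgroup X} (hM : IsStronglyPEmbedded p M) {R : Subgroup (MulAut E)} (hRA : R ≤ A)
    (hRp : IsPGroup p R) {Z : Subgroup E} (hZ : Nat.card Z = p)
    {τ₀ : MulAut E} (hτR : τ₀ ∈ R) (hτ : Tv τ₀ Z) (hτ1 : τ₀ ≠ 1) {t : MulAut E} (htR : t ∈ R) (ht : ∀ z ∈ Z, t z = z) :
    t ∈ Subgroup.zpowers τ₀ := by
  classical
  obtain ⟨P, hP, -⟩ := exists_sylow_of_isStronglyPEmbedded hM
  let W : Subgroup X := (R.subgroupOf A).map π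
  have hWp : IsPGroup p W := by
    apply IsPGroup.map
    exact hRp.of_injective (Subgroup.subgroupOfEquivOfLe hRA).toMonoidHom
      (Subgroup.subgroupOfEquivOfLe hRA).injective
  obtain ⟨Q, hQ⟩ := hWp.exists_le_sylow
  obtain ⟨x, hx⟩ := MulAction.exists_smul_eq X Q P
  obtain ⟨a, rfl⟩ := hπ x
  have hmemP : ∀ r (hr : r ∈ R), π a * π ⟨r, hRA hr⟩ * (π a)⁻¹ ∈ (P : Subgroup X) := by
    intro r hr
    have h1 : π ⟨r, hRA hr⟩ ∈ (Q : Subgroup X) := hQ ⟨⟨r, hRA hr⟩, Subgroup.mem_subgroupOf.2 hr, rfl⟩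
    rw [← hx, Sylow.coe_subgroup_smul]
    exact Subgroup.smul_mem_pointwise_smul _ (MulAut.conj (π a)) (Q : Subgroup X) h1
  let aa : MulAut E := a
  let R' : Subgroup (MulAut E) := R.map (MulAut.conj aa).toMonoidHom
  let Z' : Subgroup E := Z.map aa.toMonoidHom
  have hR'A : R' ≤ A := by
    rintro _ ⟨r, hr, rfl⟩
    exact A.mul_mem (A.mul_mem a.2 (hRA hr)) (A.inv_mem a.2)
  have hcZ : Nat.card Z' = Nat.card Z := Subgroup.card_map_of_injective aa.injective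
  have h := tv_main0 hcomm π hπ hinj hM hR'A (hRp.map _) (by
      rintro _ ⟨r, hr, rfl⟩
      have h1 := hP (hmemP r hr)
      have h2 : (⟨(MulAut.conj aa).toMonoidHom r, hR'A ⟨r, hr, rfl⟩⟩ : A) = a * ⟨r, hRA hr⟩ * a⁻¹ := rfl
      rw [h2, map_mul, map_mul, map_inv]
      exact h1) (Z := Z') (by rw [hcZ, hZ]) (τ₀ := aa * τ₀ * aa⁻¹) ⟨τ₀, hτR, rfl⟩ (hτ.conj aa)
    (by
      intro h
      apply hτ1
      have h5 : τ₀ = aa⁻¹ * (aa * τ₀ * aa⁻¹) * aa := by group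
      rw [h5, h]
      group) (t := aa * t * aa⁻¹) ⟨t, htR, rfl⟩ (by
      rintro _ ⟨z, hz, rfl⟩
      show (aa * t * aa⁻¹) (aa z) = aa z
      simp [MulAut.mul_apply, ht z hz])
  obtain ⟨j, hj⟩ := h
  refine ⟨j, ?_⟩
  have hj' : (aa * τ₀ * aa⁻¹) ^ j = aa * t * aa⁻¹ := hj
  rw [conj_zpow] at hj'
  have : τ₀ ^ j = t := by
    have h5 := congrArg (fun y => aa⁻¹ * y * aa) hj'
    simpa [mul_assoc] using h5
  exact this

/-- Existence of a conjugate in general position. -/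
theorem exists_generic (hcomm : ∀ a b : E, a * b = b * a) (π : A →* X) (hπ : Function.Surjective π)
    (hinj : Function.Injective π) {M : Subgroup X} (hM : IsStronglyPEmbedded p M) {τ : A} {k : ℕ} (hτp : τ ^ (p ^ k) = 1)
    {Z : Subgroup E} (hZ : Nat.card Z = p) (hτ : Tv (τ : MulAut E) Z) (hτ1 : τ ≠ 1) :
    ∃ g : A, (∃ v ∈ Z.map (g : MulAut E).toMonoidHom, (τ : MulAut E) v ≠ v) ∧
      (∃ z ∈ Z, ((g * τ * g⁻¹ : A) : MulAut E) z ≠ z) := by
  classical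
  obtain ⟨P, hP, -⟩ := exists_sylow_of_isStronglyPEmbedded hM
  have hWp : IsPGroup p (Subgroup.zpowers (π τ)) := isPGroup_zpowers_of_pow (by rw [← map_pow, hτp, map_one])
  obtain ⟨Q, hQ⟩ := hWp.exists_le_sylow
  obtain ⟨x, hx⟩ := MulAction.exists_smul_eq X Q P
  obtain ⟨a, rfl⟩ := hπ x
  have hmem : π (a * τ * a⁻¹) ∈ M := by
    apply hP
    rw [← hx, Sylow.coe_subgroup_smul, map_mul, map_mul, map_inv]
    exact Subgroup.smul_mem_pointwise_smul _ (MulAut.conj (π a)) (Q : Subgroup X) (hQ (Subgroup.mem_zpowers _))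
  obtain ⟨y, hy⟩ : ∃ x, x ∉ M := by
    by_contra hc
    push Not at hc
    exact hM.2.1 (eq_top_iff.2 fun y _ => hc y)
  obtain ⟨g', rfl⟩ := hπ y
  let aa : MulAut E := a
  have hcZ : Nat.card (Z.map aa.toMonoidHom) = p := by
    rw [Subgroup.card_map_of_injective aa.injective, hZ]
  have hτ' : Tv ((a * τ * a⁻¹ : A) : MulAut E) (Z.map aa.toMonoidHom) := hτ.conj aa
  have hτ1' : a * τ * a⁻¹ ≠ 1 := by
    intro h
    apply hτ1
    have h5 : τ = a⁻¹ * (a * τ * a⁻¹) * a := by group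
    rw [h5, h]
    group
  obtain ⟨⟨v, hv, hvne⟩, ⟨z', hz', hz'ne⟩⟩ := generic_of_mem hcomm π hinj hM hcZ hτ' hτ1' hmem hy
  refine ⟨a⁻¹ * g' * a, ⟨aa⁻¹ v, ?_, ?_⟩, ⟨aa⁻¹ z', ?_, ?_⟩⟩
  · obtain ⟨w, hw, rfl⟩ := hv
    obtain ⟨w', hw', rfl⟩ := hw
    refine ⟨w', hw', ?_⟩
    show ((a⁻¹ * g' * a : A) : MulAut E) w' = aa⁻¹ ((g' : MulAut E) (aa w'))
    rfl
  · intro h
    apply hvne
    have e : ((a * τ * a⁻¹ : A) : MulAut E) v = aa ((τ : MulAut E) (aa⁻¹ v)) := rfl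
    rw [e, h]
    simp
  · obtain ⟨w, hw, rfl⟩ := hz'
    have : aa⁻¹ (aa w) = w := by simp
    show aa⁻¹ (aa w) ∈ Z
    rw [this]
    exact hw
  · intro h
    apply hz'ne
    have e : ((g' * (a * τ * a⁻¹) * g'⁻¹ : A) : MulAut E) z' =
        aa (((a⁻¹ * g' * a) * τ * (a⁻¹ * g' * a)⁻¹ : A).1 (aa⁻¹ z')) := by
      show _ = aa (((a⁻¹ * g' * a) * τ * (a⁻¹ * g' * a)⁻¹ : A).1 (aa⁻¹ z'))
      have h6 : ((a⁻¹ * g' * a) * τ * (a⁻¹ * g' * a)⁻¹ : A) = a⁻¹ * (g' * (a * τ * a⁻¹) * g'⁻¹) * a := by group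
      rw [h6]
      show _ = aa (aa⁻¹ (((g' * (a * τ * a⁻¹) * g'⁻¹ : A) : MulAut E) (aa (aa⁻¹ z'))))
      simp
    rw [e, h]
    simp

end Abstract

section Fusion

variable {Ω : Type*} [Group Ω] {S : Subgroup Ω} {F : FusionSystem S} {p : ℕ} [hp : Fact p.Prime] [Finite S]

/-- The quotient map to `Out` is injective for abelian `E`. -/
lemma inj_pi {E : Subgroup Ω} (hN : (innA F E).Normal) (hab : ∀ a ∈ E, ∀ b ∈ E, a * b = b * a) :
    Function.Injective (QuotientGroup.mk' (innA F E)) := by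
  rw [injective_iff_map_eq_one]
  intro a ha
  have h1 : a ∈ innA F E := (QuotientGroup.eq_one_iff _).1 ha
  obtain ⟨y, hy⟩ := Subgroup.mem_subgroupOf.1 h1
  apply Subtype.ext
  show (a : MulAut E) = 1
  rw [← hy]
  ext e
  show (y : Ω) * e * (y : Ω)⁻¹ = e
  rw [hab _ y.2 _ e.2]
  group

/-- `L'`: a transvection and a fixer of its centre in a common `p`-subgroup. -/
theorem ess_tv_main {E : Subgroup Ω} (hE : F.IsEssential p E) (hab : ∀ a ∈ E, ∀ b ∈ E, a * b = b * a)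
    {R : Subgroup (MulAut E)} (hRA : R ≤ F.autGroup E) (hRp : IsPGroup p R) {Z : Subgroup E} (hZ : Nat.card Z = p)
    {τ₀ : MulAut E} (hτR : τ₀ ∈ R) (hτ : Tv τ₀ Z) (hτ1 : τ₀ ≠ 1) {t : MulAut E} (htR : t ∈ R) (ht : ∀ z ∈ Z, t z = z) :
    t ∈ Subgroup.zpowers τ₀ := by
  classical
  obtain ⟨hc, -, hN, M, hM⟩ := hE
  have hES := hc.1
  haveI := finite_of_le hES
  haveI := finite_mulAut hES
  exact tv_main (fun a b => Subtype.ext (hab _ a.2 _ b.2)) (QuotientGroup.mk' (innA F E))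
    (QuotientGroup.mk'_surjective _) (inj_pi hN hab) hM hRA hRp hZ hτR hτ hτ1 htR ht

/-- A conjugate of a transvection in general position. -/
theorem ess_generic {E : Subgroup Ω} (hE : F.IsEssential p E) (hab : ∀ a ∈ E, ∀ b ∈ E, a * b = b * a)
    {τ : F.autGroup E} {k : ℕ} (hτp : τ ^ (p ^ k) = 1) {Z : Subgroup E} (hZ : Nat.card Z = p)
    (hτ : Tv (τ : MulAut E) Z) (hτ1 : τ ≠ 1) :
    ∃ g : F.autGroup E, (∃ v ∈ Z.map (g : MulAut E).toMonoidHom, (τ : MulAut E) v ≠ v) ∧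
      (∃ z ∈ Z, ((g * τ * g⁻¹ : F.autGroup E) : MulAut E) z ≠ z) := by
  classical
  obtain ⟨hc, -, hN, M, hM⟩ := hE
  have hES := hc.1
  haveI := finite_of_le hES
  haveI := finite_mulAut hES
  exact exists_generic (fun a b => Subtype.ext (hab _ a.2 _ b.2)) (QuotientGroup.mk' (innA F E))
    (QuotientGroup.mk'_surjective _) (inj_pi hN hab) hM hτp hZ hτ hτ1

end Fusion

end Cfsg.Agent.Lib.MaxEss3A
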