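import Mathlib
import Cfsg.Agent.Lib.MaxClassPow2
import Cfsg.Agent.Lib.MaxEngel

/-!
# Uniform elements in `p`-groups of maximal class
-/

set_option autoImplicit false
set_option linter.unusedSectionVars false
set_option linter.style.haveILetI false

namespace Cfsg.Agent.Lib.MaxUnif

open Cfsg.Agent.Lib.LCSLie Cfsg.Agent.Lib.MaxExp Cfsg.Agent.Lib.MaxClassPow Cfsg.Agent.Lib.HallPetrescu
  Cfsg.Agent.Lib.Kegel
open scoped commutatorElement

universe u

section Cover

variable {G : Type*} [Group G] [Finite G] {p : ℕ} [hp : Fact p.Prime]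

/-- `p` proper subgroups of a `p`-group do not cover it. -/
theorem exists_not_mem (hG : IsPGroup p G) (hne : 1 < Nat.card G) (f : ℕ → Subgroup G) (hf : ∀ i < p, f i ≠ ⊤) :
    ∃ a : G, ∀ i < p, a ∉ f i := by
  classical
  by_contra hcon
  push Not at hcon
  have hpp := hp.out
  haveI := Fintype.ofFinite G
  obtain ⟨k, hk⟩ := IsPGroup.iff_card.1 hG
  have hk0 : k ≠ 0 := by
    rintro rfl
    rw [hk] at hne
    simp at hne
  obtain ⟨m, rfl⟩ : ∃ m, k = m + 1 := ⟨k - 1, by omega⟩
  -- each piece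
  have hcardf : ∀ i < p, Nat.card (f i) ≤ p ^ m := by
    intro i hi
    have h1 : Nat.card (f i) ∣ p ^ (m + 1) := by
      rw [← hk]
      exact Subgroup.card_subgroup_dvd_card _
    obtain ⟨j, hj, hj2⟩ := (Nat.dvd_prime_pow hpp).1 h1
    rw [hj2]
    refine Nat.pow_le_pow_right hpp.pos ?_
    by_contra hlt
    have hj3 : j = m + 1 := by omega
    apply hf i hi
    apply Subgroup.eq_top_of_card_eq
    rw [hj2, hj3, hk]
  let S : ℕ → Finset G := fun i => (Finset.univ.filter (· ∈ f i)).erase 1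
  have hS : ∀ i < p, (S i).card + 1 ≤ p ^ m := by
    intro i hi
    have h1 : (Finset.univ.filter (· ∈ f i)).card = Nat.card (f i) := by
      rw [Nat.card_eq_fintype_card, Fintype.card_subtype]
    have h2 : (S i).card + 1 = (Finset.univ.filter (· ∈ f i)).card :=
      Finset.card_erase_add_one (by simp [one_mem])
    rw [h2, h1]
    exact hcardf i hi
  have hcov : (Finset.univ : Finset G).erase 1 ⊆ (Finset.range p).biUnion S := by
    intro x hx
    have hx1 : x ≠ 1 := (Finset.mem_erase.1 hx).1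
    obtain ⟨i, hi, hxi⟩ := hcon x
    exact Finset.mem_biUnion.2 ⟨i, Finset.mem_range.2 hi, Finset.mem_erase.2 ⟨hx1, by simp [hxi]⟩⟩
  have h1 := Finset.card_le_card hcov
  have h2 : ((Finset.range p).biUnion S).card ≤ ∑ i ∈ Finset.range p, (S i).card := Finset.card_biUnion_le
  have h3 : ∑ i ∈ Finset.range p, ((S i).card + 1) ≤ ∑ _i ∈ Finset.range p, p ^ m :=
    Finset.sum_le_sum fun i hi => hS i (Finset.mem_range.1 hi)
  rw [Finset.sum_add_distrib, Finset.sum_const, Finset.sum_const, Finset.card_range, smul_eq_mul, smul_eq_mul, mul_one] at h3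
  have h4 : ((Finset.univ : Finset G).erase 1).card + 1 = p ^ (m + 1) := by
    rw [Finset.card_erase_add_one (Finset.mem_univ _), Finset.card_univ, ← Nat.card_eq_fintype_card, hk]
  rw [pow_succ, mul_comm (p ^ m)] at h4
  have := hpp.two_le
  omega

end Cover

section Lev

variable {G : Type*} [Group G] [Finite G] {p : ℕ} [hp : Fact p.Prime] {n : ℕ}
  (hn : 3 ≤ n) (hlev : ∀ i, 1 ≤ i → i ≤ n - 1 → Nat.card (Gam G i) = p ^ (n - 1 - i))

include hn hlev

lemma level_gen' {i : ℕ} (h1 : 1 ≤ i) (h2 : i + 1 ≤ n - 1) {u : G} (hu : u ∈ Gam G i) (hu' : u ∉ Gam G (i + 1)) {g : G}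
    (hg : g ∈ Gam G i) : ∃ z : ℤ, ∃ c ∈ Gam G (i + 1), g = u ^ z * c := by
  set H := Subgroup.zpowers u ⊔ Gam G (i + 1) with hH
  have hlt : Gam G (i + 1) < H := by
    refine lt_of_le_of_ne le_sup_right ?_
    intro h
    apply hu'
    rw [h]
    exact Subgroup.mem_sup_left (Subgroup.mem_zpowers u)
  have hle : H ≤ Gam G i := sup_le (Subgroup.zpowers_le.2 hu) (gam_succ_le i)
  have he := eq_of_lt_of_card hlt hle (level_card hn hlev h1 h2)
  have hg' : g ∈ ((H : Subgroup G) : Set G) := by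
    rw [he]
    exact hg
  rw [hH, Subgroup.mul_normal, Set.mem_mul] at hg'
  obtain ⟨a, ha, c, hc, rfl⟩ := hg'
  obtain ⟨z, rfl⟩ := Subgroup.mem_zpowers_iff.1 ha
  exact ⟨z, c, hc, rfl⟩

lemma level_cent' {i : ℕ} (h1 : 1 ≤ i) (h2 : i + 1 ≤ n - 1) {w y : G} (hw : w ∈ Gam G i) (hw' : w ∉ Gam G (i + 1))
    (h : ⁅w, y⁆ ∈ Gam G (i + 2)) : y ∈ Cent (G := G) i := by
  intro g hg
  obtain ⟨z, c, hc, rfl⟩ := level_gen' hn hlev h1 h2 hw hw' hg
  have h3 : w ^ z * c ∈ leftC (Gam G (i + 2)) y :=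
    mul_mem (zpow_mem (show w ∈ leftC (Gam G (i + 2)) y from h) z) (comm_mem_top hc y)
  exact h3

lemma gam_not_le' {i : ℕ} (h1 : 1 ≤ i) (h2 : i + 1 ≤ n - 1) : ¬ Gam G i ≤ Gam G (i + 1) := by
  intro h
  have h3 := Subgroup.card_dvd_of_le h
  rw [level_card hn hlev h1 h2] at h3
  have hpos : 0 < Nat.card (Gam G (i + 1)) := Nat.card_pos
  have h4 := Nat.le_of_dvd hpos h3
  have := hp.out.two_le
  nlinarith

lemma exists_level {i : ℕ} (h1 : 1 ≤ i) (h2 : i + 1 ≤ n - 1) : ∃ u ∈ Gam G i, u ∉ Gam G (i + 1) :=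
  SetLike.not_le_iff_exists.1 (gam_not_le' hn hlev h1 h2)

lemma Cent_ne_top' {i : ℕ} (h1 : 1 ≤ i) (h2 : i + 2 ≤ n - 1) : Cent (G := G) i ≠ ⊤ := by
  intro h
  apply gam_not_le' hn hlev (i := i + 1) (by omega) (by omega)
  refine Subgroup.commutator_le.2 ?_
  intro g hg s _
  have hs : s ∈ Cent (G := G) i := by
    rw [h]
    exact Subgroup.mem_top s
  exact hs g hg

lemma gam_bot : Gam G (n - 1) = ⊥ := by
  have h1 := hlev (n - 1) (by omega) le_rfl
  rw [Nat.sub_self, pow_zero] at h1
  exact Subgroup.eq_bot_of_card_eq _ h1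

lemma gam_top_mem_center {x : G} (hx : x ∈ Gam G (n - 2)) : x ∈ Subgroup.center G := by
  rw [Subgroup.mem_center_iff]
  intro g
  have h1 := comm_mem_top hx g⁻¹
  rw [show n - 2 + 1 = n - 1 by omega, gam_bot hn hlev, Subgroup.mem_bot] at h1
  have h2 := commutatorElement_eq_one_iff_mul_comm.1 h1
  calc g * x = g * (x * g⁻¹) * g := by group
    _ = g * (g⁻¹ * x) * g := by rw [h2]
    _ = x * g := by group

end Lev

/-- An element outside every `Cent k`. -/
def IsUnif {G : Type*} [Group G] (n : ℕ) (a : G) : Prop := a ∉ Gam G 1 ∧ ∀ k, 1 ≤ k → k ≤ n - 3 → a ∉ Cent (G := G) k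

section Wt

variable {G : Type*} [Group G] [Finite G] {p : ℕ} [hp : Fact p.Prime] {n : ℕ}
  (hG : IsPGroup p G) (hcard : Nat.card G = p ^ n) (hn : 3 ≤ n)
  (hlev : ∀ i, 1 ≤ i → i ≤ n - 1 → Nat.card (Gam G i) = p ^ (n - 1 - i))

include hG hcard hn hlev

omit hG hcard in
lemma one_not_le_two : ¬ Gam G 1 ≤ Gam G 2 := gam_not_le' hn hlev (i := 1) le_rfl (by omega)

omit hG in
lemma card_top_eq : Nat.card G = p ^ 2 * Nat.card (Gam G 1) := by
  rw [hcard, hlev 1 le_rfl (by omega), ← pow_add]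
  congr 1
  omega

omit hG hcard in
lemma zpow_sup_ne_top (t : G) : Subgroup.zpowers t ⊔ Gam G 1 ≠ ⊤ := by
  intro h
  refine one_not_le_two (p := p) hn hlev (comm_of_gen ({t} : Set G) ?_ ?_)
  · rw [← Subgroup.zpowers_eq_closure]
    exact h
  · rintro s rfl r rfl
    rw [commutatorElement_self]
    exact one_mem _

lemma card_W {t : G} (ht : t ∉ Gam G 1) : Nat.card (Subgroup.zpowers t ⊔ Gam G 1 : Subgroup G) = p * Nat.card (Gam G 1) := by
  have hpp := hp.out
  have hlt1 : Gam G 1 < Subgroup.zpowers t ⊔ Gam G 1 := by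
    refine lt_of_le_of_ne le_sup_right fun h => ht ?_
    rw [h]
    exact Subgroup.mem_sup_left (Subgroup.mem_zpowers t)
  have h1 := mul_card_le_of_lt hlt1 (hG.to_subgroup _)
  have h2 := mul_card_le_of_lt (lt_top_iff_ne_top.2 (zpow_sup_ne_top hn hlev t)) (hG.to_subgroup _)
  rw [Subgroup.card_top, card_top_eq hcard hn hlev, pow_two, mul_assoc] at h2
  exact le_antisymm (Nat.le_of_mul_le_mul_left h2 hpp.pos) h1

lemma two_gen {t s : G} (ht : t ∉ Gam G 1) (hs : s ∉ Subgroup.zpowers t ⊔ Gam G 1) :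
    Subgroup.closure ({t, s} : Set G) ⊔ Gam G 1 = ⊤ := by
  have hpp := hp.out
  have hlt : Subgroup.zpowers t ⊔ Gam G 1 < Subgroup.closure ({t, s} : Set G) ⊔ Gam G 1 := by
    refine lt_of_le_of_ne (sup_le_sup_right ?_ _) fun h => hs ?_
    · rw [Subgroup.zpowers_le]
      exact Subgroup.subset_closure (by simp)
    · rw [h]
      exact Subgroup.mem_sup_left (Subgroup.subset_closure (by simp))
  refine eq_of_lt_of_card (p := p) hlt le_top ?_
  rw [Subgroup.card_top, card_W hG hcard hn hlev ht, card_top_eq hcard hn hlev, pow_two, mul_assoc]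

lemma comm_not_mem {t s : G} (ht : t ∉ Gam G 1) (hs : s ∉ Subgroup.zpowers t ⊔ Gam G 1) : ⁅t, s⁆ ∉ Gam G 2 := by
  intro h
  refine one_not_le_two hn hlev (comm_of_gen _ (two_gen hG hcard hn hlev ht hs) ?_)
  have h' : ⁅s, t⁆ ∈ Gam G 2 := by
    have := inv_mem h
    rwa [commutatorElement_inv] at this
  intro u hu r hr
  rcases hu with rfl | rfl <;> rcases hr with rfl | rfl
  · rw [commutatorElement_self]; exact one_mem _
  · exact h
  · exact h'
  · rw [commutatorElement_self]; exact one_mem _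

omit hG in
lemma pow_mem_gam_one (a : G) : a ^ p ∈ Gam G 1 := by
  have hpp := hp.out
  refine pow_mem_one_gen ?_ (one_not_le_two hn hlev) a
  have h2 := Subgroup.card_eq_card_quotient_mul_card_subgroup (Gam G 1)
  rw [card_top_eq hcard hn hlev] at h2
  exact (Nat.eq_of_mul_eq_mul_right Nat.card_pos h2).symm

/-- A uniform element has a small centralizer. -/
theorem unif_props {a : G} (h : IsUnif n a) :
    Nat.card (Subgroup.centralizer ({a} : Set G)) ≤ p ^ 2 ∧ a ^ p ∈ Subgroup.center G := by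
  have hpp := hp.out
  obtain ⟨ha, hk⟩ := h
  have h1 : ((Subgroup.centralizer ({a} : Set G)) ⊓ Gam G 1 : Subgroup G) ≤ Gam G (n - 2) := by
    rintro x ⟨hxC, hx1⟩
    have hcm : ⁅x, a⁆ = 1 := by
      rw [commutatorElement_eq_one_iff_mul_comm]
      exact ((Subgroup.mem_centralizer_singleton_iff).1 hxC)
    have hclimb : ∀ d, d ≤ n - 3 → x ∈ Gam G (d + 1) := by
      intro d
      induction d with
      | zero => intro _; exact hx1
      | succ d ih =>
        intro hd
        by_contra hcon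
        refine hk (d + 1) (by omega) hd ?_
        refine level_cent' hn hlev (by omega) (by omega) (ih (by omega)) hcon ?_
        rw [hcm]
        exact one_mem _
    have := hclimb (n - 3) le_rfl
    rwa [show n - 3 + 1 = n - 2 by omega] at this
  have h2 : Subgroup.centralizer ({a} : Set G) ≤ Subgroup.zpowers a ⊔ Gam G 1 := by
    intro b hb
    by_contra hcon
    apply comm_not_mem hG hcard hn hlev ha hcon
    have : ⁅a, b⁆ = 1 := by
      rw [commutatorElement_eq_one_iff_mul_comm]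
      exact ((Subgroup.mem_centralizer_singleton_iff).1 hb).symm
    rw [this]
    exact one_mem _
  constructor
  · have h3 := card_le_of_level (p := p) h2 le_sup_right (card_W hG hcard hn hlev ha)
    have h4 := Subgroup.card_le_of_le h1
    rw [hlev (n - 2) (by omega) (by omega), show n - 1 - (n - 2) = 1 by omega, pow_one] at h4
    calc _ ≤ _ := h3
      _ ≤ p * p := Nat.mul_le_mul_left _ h4
      _ = p ^ 2 := (pow_two p).symm
  · apply gam_top_mem_center hn hlev
    apply h1
    refine ⟨?_, pow_mem_gam_one hcard hn hlev a⟩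
    apply Subgroup.mem_centralizer_singleton_iff.2
    exact ((Commute.refl a).pow_left p)

end Wt

section Quot

variable {G : Type*} [Group G] [Finite G] {p : ℕ} [hp : Fact p.Prime] {n : ℕ}

omit [Finite G] hp in
lemma quot_mem_iff {m k : ℕ} (hk : k ≤ m) (g : G) :
    (QuotientGroup.mk' (Gam G m) g) ∈ Gam (G ⧸ Gam G m) k ↔ g ∈ Gam G k := by
  have hs := QuotientGroup.mk'_surjective (Gam G m)
  rw [map_gam _ hs]
  constructor
  · rintro ⟨g', hg', he⟩
    have h1 : g'⁻¹ * g ∈ Gam G m := QuotientGroup.eq.1 he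
    have h2 := Subgroup.lowerCentralSeries_antitone _ hk h1
    have e : g = g' * (g'⁻¹ * g) := by group
    rw [e]
    exact mul_mem hg' h2
  · intro h
    exact ⟨g, h, rfl⟩

/-- The quotient by a term of the lower central series. -/
lemma quot_hlev (hcard : Nat.card G = p ^ n) (hn : 3 ≤ n)
    (hlev : ∀ i, 1 ≤ i → i ≤ n - 1 → Nat.card (Gam G i) = p ^ (n - 1 - i)) {m : ℕ} (hm1 : 1 ≤ m) (hm2 : m ≤ n - 1) :
    Nat.card (G ⧸ Gam G m) = p ^ (m + 1) ∧
    ∀ i, 1 ≤ i → i ≤ m + 1 - 1 → Nat.card (Gam (G ⧸ Gam G m) i) = p ^ (m + 1 - 1 - i) := by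
  have hpp := hp.out
  have hN := hlev m hm1 hm2
  have hpos : 0 < p ^ (n - 1 - m) := pow_pos hpp.pos _
  have hq : Nat.card (G ⧸ Gam G m) = p ^ (m + 1) := by
    have h2 := Subgroup.card_eq_card_quotient_mul_card_subgroup (Gam G m)
    rw [hcard, hN, show n = (m + 1) + (n - 1 - m) by omega, pow_add] at h2
    rw [show n - 1 - m = (m + 1) + (n - 1 - m) - 1 - m by omega] at h2
    exact (Nat.eq_of_mul_eq_mul_right hpos (by simpa using h2)).symm
  refine ⟨hq, fun i h1 h2 => ?_⟩
  have hi : i ≤ m := by omega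
  have hs := QuotientGroup.mk'_surjective (Gam G m)
  have hidx : (Gam (G ⧸ Gam G m) i).index = (Gam G i).index := by
    rw [map_gam _ hs, Subgroup.index_map, MonoidHom.range_eq_top.2 hs, Subgroup.index_top, mul_one,
      QuotientGroup.ker_mk', sup_eq_left.2 (Subgroup.lowerCentralSeries_antitone _ hi)]
  have h3 := Subgroup.card_mul_index (Gam (G ⧸ Gam G m) i)
  have h4 := Subgroup.card_mul_index (Gam G i)
  rw [hidx, hq] at h3
  rw [hcard, hlev i h1 (by omega)] at h4
  have h5 : (Gam G i).index = p ^ (i + 1) := by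
    have e : p ^ n = p ^ (n - 1 - i) * p ^ (i + 1) := by
      rw [← pow_add]
      congr 1
      omega
    rw [e] at h4
    exact Nat.eq_of_mul_eq_mul_left (pow_pos hpp.pos _) h4
  rw [h5] at h3
  have e : p ^ (m + 1) = p ^ (m + 1 - 1 - i) * p ^ (i + 1) := by
    rw [← pow_add]
    congr 1
    omega
  rw [e] at h3
  exact Nat.eq_of_mul_eq_mul_right (pow_pos hpp.pos _) h3

end Quot

section Period

variable {G : Type*} [Group G] [Finite G] {p : ℕ} [hp : Fact p.Prime]

/-- The commutator of a `p`-th power. -/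
lemma comm_pow_formula (hp3 : 3 ≤ p) (hpow : ∀ i, 1 ≤ i → ∀ d ∈ Gam G i, d ^ p ∈ Gam G (i + p - 1))
    {M : ℕ} (hM : Gam G M = ⊥) {k : ℕ} (hk : 1 ≤ k) {h : G} (hh : h ∈ Gam G k) (s : G) :
    ∃ c ∈ Gam G (k + p + 1), ⁅h ^ p, s⁆ = ⁅h, s⁆ ^ p * c := by
  have hpp := hp.out
  set u := ⁅h, s⁆ with hu
  have hum : u ∈ Gam G (k + 1) := comm_mem_top hh s
  let γ : ℕ → Subgroup G := fun j => Gam G (j * (k + 1) - 1)
  have hanti : Antitone γ := by
    intro a b hab
    refine Subgroup.lowerCentralSeries_antitone _ ?_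
    have : a * (k + 1) ≤ b * (k + 1) := Nat.mul_le_mul_right _ hab
    omega
  have hcomm : ∀ a b, ⁅γ a, γ b⁆ ≤ γ (a + b) := by
    intro a b
    refine (gam_comm _ _).trans (Subgroup.lowerCentralSeries_antitone _ ?_)
    rw [add_mul]
    omega
  have hJ : γ (M + 1) = ⊥ := by
    rw [eq_bot_iff, ← hM]
    refine Subgroup.lowerCentralSeries_antitone _ ?_
    have : (M + 1) * 1 ≤ (M + 1) * (k + 1) := Nat.mul_le_mul_left _ (by omega)
    omega
  have hγ1 : γ 1 = Gam G k := by
    show Gam G (1 * (k + 1) - 1) = _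
    rw [one_mul, Nat.add_sub_cancel]
  obtain ⟨c, hc, he⟩ := pow_mul_mem_of_filtration hanti hcomm h⁻¹ u
    (by rw [hγ1]; exact inv_mem hh) (by rw [hγ1]; exact gam_succ_le k hum) p (M + 1) hJ (Gam G (k + p + 1)) (by
      intro j h2 _ d hd
      have hd' : d ∈ Gam G (j * (k + 1) - 1) := hd
      have h3 : 2 * (k + 1) ≤ j * (k + 1) := Nat.mul_le_mul_right _ h2
      rcases lt_trichotomy j p with hlt | rfl | hgt
      · obtain ⟨q, hq⟩ := hpp.dvd_choose_self (by omega) hlt
        rw [hq, pow_mul]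
        refine Subgroup.pow_mem _ (Subgroup.lowerCentralSeries_antitone _ ?_ (hpow _ (by omega) d hd')) _
        omega
      · rw [Nat.choose_self, pow_one]
        refine Subgroup.lowerCentralSeries_antitone _ ?_ hd'
        have h4 : j * (k + 1) = j * k + j := by ring
        have h5 : 3 * k ≤ j * k := Nat.mul_le_mul_right _ hp3
        have h6 : j * k ≥ k + 2 := by
          have : k * 3 ≤ k * j := Nat.mul_le_mul_left _ hp3
          nlinarith
        omega
      · rw [Nat.choose_eq_zero_of_lt hgt, pow_zero]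
        exact one_mem _)
  refine ⟨c, hc, ?_⟩
  have e1 : s * h⁻¹ * s⁻¹ = h⁻¹ * u := by
    rw [hu, commutatorElement_def]
    group
  have e2 : ⁅h ^ p, s⁆ = h ^ p * (s * h⁻¹ * s⁻¹) ^ p := by
    rw [conj_pow, commutatorElement_def, inv_pow]
    group
  rw [e2, e1, he, inv_pow, ← mul_assoc, ← mul_assoc, mul_inv_cancel, one_mul]

variable {n : ℕ} {a : G} (hG : IsPGroup p G) (hcard : Nat.card G = p ^ n) (hn : 3 ≤ n)
  (hlev : ∀ i, 1 ≤ i → i ≤ n - 1 → Nat.card (Gam G i) = p ^ (n - 1 - i))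
  (hC : Nat.card (Subgroup.centralizer ({a} : Set G)) ≤ p ^ 2) (hZ : a ^ p ∈ Subgroup.center G)

include hG hcard hn hlev hC hZ

lemma pow_lev {i : ℕ} (hi : 1 ≤ i) {d : G} (hd : d ∈ Gam G i) : d ^ p ∈ Gam G (i + p - 1) := by
  exact (pow_levels a (fun y hy => nm_eq_one hG hcard hn hlev hC hZ hy) (gam_bot hn hlev) n i hi (by omega) d hd).2

/-- The periodicity of the two-step centralizers. -/
theorem cent_period (hp3 : 3 ≤ p) {k : ℕ} (hk : 1 ≤ k) (hkp : k + p + 2 ≤ n) (s : G) :
    s ∈ Cent (G := G) k ↔ s ∈ Cent (G := G) (k + p - 1) := by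
  obtain ⟨h, hh, hh'⟩ := exists_level hn hlev (i := k) hk (by omega)
  have hst := star hG hcard hn hlev hC hZ hk hh hh' (by omega)
  obtain ⟨c, hc, he⟩ := comm_pow_formula hp3 (fun i hi d hd => pow_lev hG hcard hn hlev hC hZ hi hd) (gam_bot hn hlev) hk hh s
  have hum : ⁅h, s⁆ ∈ Gam G (k + 1) := comm_mem_top hh s
  have e1 : k + p - 1 + 1 = k + p := by omega
  have e2 : k + p - 1 + 2 = k + p + 1 := by omega
  constructor
  · intro hs
    have h1 : ⁅h, s⁆ ∈ Gam G (k + 2) := hs h hh
    have h2 := pow_lev hG hcard hn hlev hC hZ (i := k + 2) (by omega) h1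
    rw [show k + 2 + p - 1 = k + p + 1 by omega] at h2
    refine level_cent' hn hlev (by omega) (by omega) hst.1 (by rw [e1]; exact hst.2) ?_
    rw [e2, he]
    exact mul_mem h2 hc
  · intro hs
    have h1 : ⁅h ^ p, s⁆ ∈ Gam G (k + p + 1) := by
      have := hs _ hst.1
      rwa [e2] at this
    refine level_cent' hn hlev hk (by omega) hh hh' ?_
    by_contra hcon
    have h2 := star hG hcard hn hlev hC hZ (i := k + 1) (by omega) hum hcon (by omega)
    apply h2.2
    rw [show k + 1 + p = k + p + 1 by omega]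
    rw [he] at h1
    have h3 := mul_mem h1 (inv_mem hc)
    rwa [mul_inv_cancel_right] at h3

end Period

section Main

variable {p : ℕ} [hp : Fact p.Prime]

omit hp in
lemma cent_transfer {G : Type*} [Group G] {m j : ℕ} (hj : j + 2 ≤ m) (s : G) :
    QuotientGroup.mk' (Gam G m) s ∈ Cent (G := G ⧸ Gam G m) j ↔ s ∈ Cent (G := G) j := by
  have hs := QuotientGroup.mk'_surjective (Gam G m)
  constructor
  · intro h g hg
    have h1 := h (QuotientGroup.mk' (Gam G m) g) ((quot_mem_iff (by omega) g).2 hg)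
    rw [← map_commutatorElement] at h1
    exact (quot_mem_iff (by omega) _).1 h1
  · intro h g' hg'
    rw [map_gam _ hs] at hg'
    obtain ⟨g, hg, rfl⟩ := hg'
    rw [← map_commutatorElement]
    exact (quot_mem_iff (by omega) _).2 (h g hg)

/-- Small cases. -/
lemma unif_small {G : Type*} [Group G] [Finite G] {n : ℕ} (hcard : Nat.card G = p ^ n) (hn : 3 ≤ n)
    (hlev : ∀ i, 1 ≤ i → i ≤ n - 1 → Nat.card (Gam G i) = p ^ (n - 1 - i)) (hnp : n ≤ p + 3) :
    ∃ a : G, IsUnif n a := by
  have hpp := hp.out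
  have hG : IsPGroup p G := IsPGroup.of_card hcard
  have hcg : 1 < Nat.card G := by
    rw [hcard]
    exact Nat.one_lt_pow (by omega) hpp.one_lt
  have h1top : Gam G 1 ≠ ⊤ := by
    intro h
    have h1 := zpow_sup_ne_top (p := p) hn hlev (1 : G)
    rw [h] at h1
    simp at h1
  by_cases h3 : n = 3
  · subst h3
    obtain ⟨a, ha⟩ := exists_not_mem hG hcg (fun _ => Gam G 1) (fun _ _ => h1top)
    exact ⟨a, ha 0 hpp.pos, fun k h1 h2 => by omega⟩
  · obtain ⟨a, ha⟩ := exists_not_mem hG hcg (fun i => Cent (G := G) (min (i + 1) (n - 3)))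
      (fun i _ => Cent_ne_top' hn hlev (by omega) (by omega))
    refine ⟨a, fun h => ?_, fun k h1 h2 => ?_⟩
    · apply ha 0 hpp.pos
      exact gam_one_le_Cent _ h
    · have := ha (k - 1) (by omega)
      rwa [show min (k - 1 + 1) (n - 3) = k by omega] at this

/-- **Existence of uniform elements.** -/
theorem exists_unif (hp3 : 3 ≤ p) (n : ℕ) (hn : 3 ≤ n) : ∀ (G : Type u) [Group G] [Finite G], Nat.card G = p ^ n →
    (∀ i, 1 ≤ i → i ≤ n - 1 → Nat.card (Gam G i) = p ^ (n - 1 - i)) → ∃ a : G, IsUnif n a := by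
  have hpp := hp.out
  induction n, hn using Nat.le_induction with
  | base =>
    intro G _ _ hcard hlev
    exact unif_small hcard le_rfl hlev (by omega)
  | succ m hm ih =>
    intro G _ _ hcard hlev
    by_cases hnp : m + 1 ≤ p + 3
    · exact unif_small hcard (by omega) hlev hnp
    push Not at hnp
    have hG : IsPGroup p G := IsPGroup.of_card hcard
    have hcg : 1 < Nat.card G := by
      rw [hcard]
      exact Nat.one_lt_pow (by omega) hpp.one_lt
    have hn : 3 ≤ m + 1 := by omega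
    -- the quotient
    obtain ⟨hq1, hq2⟩ := quot_hlev hcard hn hlev (m := m - 1) (by omega) (by omega)
    rw [show m - 1 + 1 = m by omega] at hq1 hq2
    obtain ⟨a', ha'⟩ := ih (G ⧸ Gam G (m - 1)) hq1 hq2
    have hqG : IsPGroup p (G ⧸ Gam G (m - 1)) := IsPGroup.of_card hq1
    obtain ⟨hC, hZ⟩ := unif_props hqG hq1 hm hq2 ha'
    -- the periodicity in `G`
    have hper : ∀ k, 1 ≤ k → k + p + 2 ≤ m → Cent (G := G) k = Cent (G := G) (k + p - 1) := by
      intro k hk hkp
      ext s
      rw [← cent_transfer (m := m - 1) (by omega) s, ← cent_transfer (m := m - 1) (by omega) s]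
      exact cent_period hqG hq1 hm hq2 hC hZ hp3 hk hkp _
    have hred : ∀ j, 1 ≤ j → j + 3 ≤ m → ∃ i, 1 ≤ i ∧ i < p ∧ Cent (G := G) j = Cent (G := G) i := by
      intro j
      induction j using Nat.strong_induction_on with
      | _ j ih' =>
        intro h1 h2
        by_cases hjp : j < p
        · exact ⟨j, h1, hjp, rfl⟩
        · have h3 := hper (j + 1 - p) (by omega) (by omega)
          rw [show j + 1 - p + p - 1 = j by omega] at h3
          obtain ⟨i, hi1, hi2, hi3⟩ := ih' (j + 1 - p) (by omega) (by omega) (by omega)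
          exact ⟨i, hi1, hi2, h3.symm.trans hi3⟩
    obtain ⟨a, ha⟩ := exists_not_mem hG hcg (fun i => if i = 0 then Cent (G := G) (m + 1 - 3) else Cent (G := G) i)
      (by
        intro i hi
        by_cases h0 : i = 0
        · simp only [h0, if_true]
          exact Cent_ne_top' hn hlev (by omega) (by omega)
        · simp only [h0, if_false]
          exact Cent_ne_top' hn hlev (by omega) (by omega))
    have ha0 := ha 0 hpp.pos
    simp only [if_true] at ha0
    have ha1 : ∀ i, 1 ≤ i → i < p → a ∉ Cent (G := G) i := by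
      intro i h1 h2
      have := ha i h2
      rwa [if_neg (by omega)] at this
    refine ⟨a, fun h => ha1 1 le_rfl (by omega) (gam_one_le_Cent _ h), fun k h1 h2 => ?_⟩
    by_cases hk : k = m + 1 - 3
    · rw [hk]
      exact ha0
    · obtain ⟨i, hi1, hi2, hi3⟩ := hred k h1 (by omega)
      rw [hi3]
      exact ha1 i hi1 hi2

end Main

section LemmaE

open Cfsg.Agent.Lib.MaxEngel

variable {Q : Type*} [Group Q] [Finite Q] {p : ℕ} [hp : Fact p.Prime]

/-- The generators. -/
def gg (a y : Q) : ℕ → Q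
  | 0 => a
  | 1 => y
  | m + 2 => ⁅gg a y (m + 1), a⁆

/-- The chain. -/
def XX (y : Q) : ℕ → Subgroup Q
  | 0 => ⊤
  | 1 => Subgroup.zpowers y ⊔ Gam Q 1
  | m + 2 => Gam Q (m + 1)

/-- **A group of maximal class and order `p^(p+1)`, `p ≥ 3`, does not have exponent `p`.** -/
theorem not_exp (hp3 : 3 ≤ p) (hcard : Nat.card Q = p ^ (p + 1))
    (hlev : ∀ i, 1 ≤ i → i ≤ p + 1 - 1 → Nat.card (Gam Q i) = p ^ (p + 1 - 1 - i))
    (hexp : ∀ x : Q, x ^ p = 1) : False := by
  have hpp := hp.out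
  have hn : 3 ≤ p + 1 := by omega
  have hG : IsPGroup p Q := IsPGroup.of_card hcard
  obtain ⟨a, ha⟩ := exists_unif hp3 (p + 1) hn Q hcard hlev
  obtain ⟨y, hy⟩ : ∃ y : Q, y ∉ Subgroup.zpowers a ⊔ Gam Q 1 := by
    by_contra hcon
    push Not at hcon
    exact zpow_sup_ne_top (p := p) hn hlev a (eq_top_iff.2 fun s _ => hcon s)
  have hy1 : y ∉ Gam Q 1 := fun h => hy (Subgroup.mem_sup_right h)
  have hWa := card_W hG hcard hn hlev ha.1
  have hWy := card_W hG hcard hn hlev hy1
  have haX1 : a ∉ Subgroup.zpowers y ⊔ Gam Q 1 := by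
    intro h
    have hle : Subgroup.zpowers a ⊔ Gam Q 1 ≤ Subgroup.zpowers y ⊔ Gam Q 1 :=
      sup_le (Subgroup.zpowers_le.2 h) le_sup_right
    have he := Subgroup.eq_of_le_of_card_ge hle (by rw [hWa, hWy])
    apply hy
    rw [he]
    exact Subgroup.mem_sup_left (Subgroup.mem_zpowers y)
  -- membership of the generators
  have hgm : ∀ m, gg a y (m + 2) ∈ Gam Q (m + 1) := by
    intro m
    induction m with
    | zero => exact comm_mem_top (mem_gam_zero y) a
    | succ m ih => exact comm_mem_top ih a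
  have hgn : ∀ m, m + 2 ≤ p → gg a y (m + 2) ∉ Gam Q (m + 2) := by
    intro m
    induction m with
    | zero =>
      intro _ h
      refine comm_not_mem hG hcard hn hlev ha.1 hy ?_
      have := inv_mem h
      rwa [show gg a y (0 + 2) = ⁅y, a⁆ from rfl, commutatorElement_inv] at this
    | succ m ih =>
      intro hm h
      refine ha.2 (m + 1) (by omega) (by omega) ?_
      exact level_cent' hn hlev (by omega) (by omega) (hgm m) (ih (by omega)) h
  have hbot : Gam Q p = ⊥ := gam_bot hn hlev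
  have hgnot : ∀ i, i ≤ p → gg a y i ∉ XX y (i + 1) := by
    intro i hi
    match i, hi with
    | 0, _ => exact haX1
    | 1, _ => exact hy1
    | m + 2, hm => exact hgn m hm
  have hcX : ∀ i, i ≤ p → Nat.card (XX y i) = p * Nat.card (XX y (i + 1)) := by
    intro i hi
    match i, hi with
    | 0, _ =>
      show Nat.card (⊤ : Subgroup Q) = p * Nat.card (Subgroup.zpowers y ⊔ Gam Q 1 : Subgroup Q)
      rw [Subgroup.card_top, hWy, card_top_eq hcard hn hlev, pow_two, mul_assoc]
    | 1, _ => exact hWy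
    | m + 2, hm => exact level_card hn hlev (k := m + 1) (by omega) (by omega)
  have hnorm : ∀ i, (XX y i).Normal := by
    intro i
    match i with
    | 0 => exact (inferInstance : (⊤ : Subgroup Q).Normal)
    | 1 => exact Cfsg.Agent.Lib.Frat.normal_of_commutator_le le_sup_right
    | m + 2 => exact gam_normal Q _
  have hanti : Antitone (XX y) := by
    refine antitone_nat_of_succ_le fun i => ?_
    match i with
    | 0 => exact le_top
    | 1 => exact le_sup_right
    | m + 2 => exact gam_succ_le _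
  have hgmem : ∀ i, gg a y i ∈ XX y i := by
    intro i
    match i with
    | 0 => exact Subgroup.mem_top _
    | 1 => exact Subgroup.mem_sup_left (Subgroup.mem_zpowers y)
    | m + 2 => exact hgm m
  have hXle : ∀ i, ∀ u ∈ XX y i, u ∈ Gam Q (wt i - 1) := by
    intro i u hu
    match i, hu with
    | 0, _ => exact mem_gam_zero u
    | 1, _ => exact mem_gam_zero u
    | m + 2, hu =>
      have : wt (m + 2) - 1 = m + 1 := by simp only [wt]; omega
      rw [this]
      exact hu
  have hc : Chain (XX y) (gg a y) (p + 1) := by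
    have hbot' : XX y (p + 1) = ⊥ := by
      rw [← hbot]
      obtain ⟨q, hq⟩ : ∃ q, p = q + 1 := ⟨p - 1, by omega⟩
      rw [hq]
      rfl
    refine ⟨hanti, hbot', fun i _ => hgmem i, ?_, ?_⟩
    · intro i hi x hx
      have hi' : i ≤ p := by omega
      haveI := hnorm (i + 1)
      have hlt : XX y (i + 1) < Subgroup.zpowers (gg a y i) ⊔ XX y (i + 1) := by
        refine lt_of_le_of_ne le_sup_right fun h => hgnot i hi' ?_
        rw [h]
        exact Subgroup.mem_sup_left (Subgroup.mem_zpowers _)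
      have he := eq_of_lt_of_card (p := p) hlt (sup_le (Subgroup.zpowers_le.2 (hgmem i)) (hanti (Nat.le_succ i))) (hcX i hi')
      have hx' : x ∈ ((Subgroup.zpowers (gg a y i) ⊔ XX y (i + 1) : Subgroup Q) : Set Q) := by
        rw [he]
        exact hx
      rw [Subgroup.mul_normal, Set.mem_mul] at hx'
      obtain ⟨b, hb, c, hc, rfl⟩ := hx'
      obtain ⟨e, rfl⟩ := mem_powers_iff_mem_zpowers.2 hb
      exact ⟨e, c, hc, rfl⟩
    · intro i j u hu v hv
      have h1 := comm_mem (hXle i u hu) (hXle j v hv)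
      have h2 := wt_pos i
      have h3 := wt_pos j
      obtain ⟨r, hr⟩ : ∃ r, wt i + wt j = r + 2 := ⟨wt i + wt j - 2, by omega⟩
      rw [hr]
      show ⁅u, v⁆ ∈ Gam Q (r + 1)
      rwa [show wt i - 1 + (wt j - 1) + 1 = r + 1 by omega] at h1
  refine engel_contra (p := p) (X := XX y) (g := gg a y) hp3 hexp hc (fun x => Subgroup.mem_top x) ?_ (fun m _ => rfl) ?_
  · intro i hi e he
    have hne : gg a y i ≠ 1 := by
      intro h
      apply hgnot i (by omega)
      rw [h]
      exact one_mem _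
    have hord : orderOf (gg a y i) = p := orderOf_eq_prime (hexp _) hne
    by_cases hd : p ∣ e
    · obtain ⟨q, rfl⟩ := hd
      rw [pow_mul, hexp, one_pow]
    · exfalso
      have hco : Nat.Coprime e (orderOf (gg a y i)) := by
        rw [hord, Nat.coprime_comm]
        exact (Nat.Prime.coprime_iff_not_dvd hpp).2 hd
      obtain ⟨q, hq⟩ := exists_pow_eq_self_of_coprime hco
      apply hgnot i (by omega)
      rw [← hq]
      exact pow_mem he q
  · intro h
    apply hgnot p le_rfl
    rw [h]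
    exact one_mem _

end LemmaE

end Cfsg.Agent.Lib.MaxUnif
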