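import Mathlib
import Cfsg.Agent.Lib.MaxUnif

/-!
# Two-step centralizers of `p`-groups of maximal class

All the two-step centralizers `Cent K`, `K ≤ n - 4`, agree, and the top one agrees with them unless `n` is even, when the
pairing of the levels into the centre is non-degenerate.
-/

set_option autoImplicit false
set_option linter.unusedSectionVars false
set_option linter.style.haveILetI false
set_option linter.unusedVariables false

namespace Cfsg.Agent.Lib.MaxEss3B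

open Cfsg.Agent.Lib.LCSLie Cfsg.Agent.Lib.MaxExp Cfsg.Agent.Lib.MaxClassPow Cfsg.Agent.Lib.MaxUnif
open scoped commutatorElement

universe u

section Lie

variable {G : Type*} [Group G]

/-- The left-normed commutators. -/
def hh (y a : G) : ℕ → G
  | 0 => y
  | k + 1 => ⁅hh y a k, a⁆

lemma hh_mem (y a : G) (k : ℕ) : hh y a k ∈ Gam G k := by
  induction k with
  | zero => exact mem_gam_zero _
  | succ k ih => exact comm_mem_top ih a

/-- The Lie ring elements. -/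
noncomputable def HH (y a : G) (k : ℕ) : LL G := ι k (hh y a k)

lemma HH_succ (y a : G) (k : ℕ) : ⁅HH y a k, ι 0 a⁆ = HH y a (k + 1) :=
  lie_at (c := k + 1) (hh_mem y a k) (mem_gam_zero a) rfl

lemma BB_rec (y a : G) (j i : ℕ) :
    ⁅HH y a (j + 1), HH y a i⁆ = -⁅HH y a j, HH y a (i + 1)⁆ + ⁅⁅HH y a j, HH y a i⁆, ι 0 a⁆ := by
  have h1 := leibniz_lie (HH y a j) (ι 0 a) (HH y a i)
  rw [HH_succ] at h1
  have e1 : ⁅ι 0 a, HH y a i⁆ = -HH y a (i + 1) := by rw [← HH_succ, lie_skew]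
  have e2 : ⁅ι 0 a, ⁅HH y a j, HH y a i⁆⁆ = -⁅⁅HH y a j, HH y a i⁆, ι 0 a⁆ := by rw [lie_skew]
  rw [e1, lie_neg, e2] at h1
  linear_combination (norm := module) -h1

lemma zs_lie (n : ℤ) (x y : LL G) : ⁅n • x, y⁆ = n • ⁅x, y⁆ := by
  let f : LL G →+ LL G := AddMonoidHom.mk' (fun x => ⁅x, y⁆) (fun a b => add_lie a b y)
  exact map_zsmul f n x

section Claims

variable {y a : G} {K : ℕ} (hK : ∀ i, i < K → ⁅HH y a 0, HH y a i⁆ = 0)
include hK

lemma claim1 : ∀ j i, j + i < K → ⁅HH y a j, HH y a i⁆ = 0 := by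
  intro j
  induction j with
  | zero =>
    intro i hi
    exact hK i (by omega)
  | succ j ih =>
    intro i hi
    rw [BB_rec, ih (i + 1) (by omega), ih i (by omega)]
    simp

lemma claim2 : ∀ j i, j + i = K → ⁅HH y a j, HH y a i⁆ = ((-1 : ℤ) ^ j) • ⁅HH y a 0, HH y a K⁆ := by
  intro j
  induction j with
  | zero =>
    intro i hi
    have : i = K := by omega
    subst this
    simp
  | succ j ih =>
    intro i hi
    rw [BB_rec, ih (i + 1) (by omega), claim1 hK j i (by omega)]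
    simp [pow_succ]

lemma claim3 : ∀ j i, j + i = K + 1 → ⁅HH y a j, HH y a i⁆ =
    ((-1 : ℤ) ^ j) • (⁅HH y a 0, HH y a (K + 1)⁆ - (j : ℤ) • ⁅⁅HH y a 0, HH y a K⁆, ι 0 a⁆) := by
  intro j
  induction j with
  | zero =>
    intro i hi
    have : i = K + 1 := by omega
    subst this
    simp
  | succ j ih =>
    intro i hi
    rw [BB_rec, ih (i + 1) (by omega), claim2 hK j i (by omega), zs_lie]
    push_cast
    rw [pow_succ]
    module

end Claims

lemma lie_zero_of_cent {a y : G} {i : ℕ} (hi : y ∈ Cent (G := G) i) : ⁅HH y a 0, HH y a i⁆ = 0 := by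
  have h1 : ⁅HH y a i, HH y a 0⁆ = 0 := by
    show ⁅ι i (hh y a i), ι 0 y⁆ = 0
    rw [lie_at (c := i + 1) (hh_mem y a i) (mem_gam_zero y) rfl]
    exact ι_zero_at (m := i + 2) rfl (hi _ (hh_mem y a i))
  rw [← lie_skew, h1, neg_zero]

lemma lie_top_eq {a y : G} (K : ℕ) : ⁅HH y a 0, HH y a K⁆ = ι (K + 1) ⁅y, hh y a K⁆ :=
  lie_at (c := K + 1) (mem_gam_zero y) (hh_mem y a K) (by omega)

lemma hK_of {a y : G} {K : ℕ} (hall : ∀ i, 1 ≤ i → i < K → y ∈ Cent (G := G) i) :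
    ∀ i, i < K → ⁅HH y a 0, HH y a i⁆ = 0 := by
  intro i hi
  rcases Nat.eq_zero_or_pos i with rfl | h
  · exact lie_self _
  · exact lie_zero_of_cent (hall i h hi)

end Lie

section Main

variable {G : Type u} [Group G] [Finite G] {p : ℕ} [hp : Fact p.Prime] {n : ℕ}
  (hG : IsPGroup p G) (hcard : Nat.card G = p ^ n) (hn : 3 ≤ n)
  (hlev : ∀ i, 1 ≤ i → i ≤ n - 1 → Nat.card (Gam G i) = p ^ (n - 1 - i))

include hn hlev

lemma pow_level {k : ℕ} (h1 : 1 ≤ k) (h2 : k + 1 ≤ n - 1) {x : G} (hx : x ∈ Gam G k) : x ^ p ∈ Gam G (k + 1) := by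
  have hpp := hp.out
  have hle : Gam G (k + 1) ≤ Gam G k := gam_succ_le k
  let N := (Gam G (k + 1)).subgroupOf (Gam G k)
  have hc : Nat.card N = Nat.card (Gam G (k + 1)) :=
    Nat.card_congr (Subgroup.subgroupOfEquivOfLe hle).toEquiv
  have h3 := Subgroup.card_mul_index N
  have h4 : Nat.card (Gam G k) = p * Nat.card (Gam G (k + 1)) := by
    rw [hlev k h1 (by omega), hlev (k + 1) (by omega) h2, ← pow_succ']
    congr 1
    omega
  have hi : N.index = p := by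
    rw [hc, h4, mul_comm p] at h3
    exact Nat.eq_of_mul_eq_mul_left Nat.card_pos h3
  have h5 := Subgroup.pow_index_mem N (⟨x, hx⟩ : Gam G k)
  rw [hi] at h5
  exact Subgroup.mem_subgroupOf.1 h5

lemma mem_Cent_of {K : ℕ} (hK1 : 1 ≤ K) (hK2 : K + 1 ≤ n - 1) {w y : G} (hw : w ∈ Gam G K) (hw' : w ∉ Gam G (K + 1))
    (h : ⁅y, w⁆ ∈ Gam G (K + 2)) : y ∈ Cent (G := G) K := by
  refine level_cent' hn hlev hK1 hK2 hw hw' ?_
  have := inv_mem h
  rwa [commutatorElement_inv] at this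

/-- `cent_step`, general version. -/
theorem cent_step' {i : ℕ} (hi1 : 1 ≤ i) (hi2 : i + 3 ≤ n - 1) {y : G} (hy1 : y ∈ Cent (G := G) 1)
    (hyi : y ∈ Cent (G := G) i) (hyi1 : y ∉ Cent (G := G) (i + 1)) : y ∈ Cent (G := G) (i + 2) := by
  obtain ⟨e, he, s, hes⟩ : ∃ e ∈ Gam G i, ∃ s : G, ⁅⁅e, s⁆, y⁆ ∉ Gam G (i + 3) := by
    by_contra hcon
    push Not at hcon
    apply hyi1
    have hle : Gam G (i + 1) ≤ leftC (Gam G (i + 3)) y := by
      refine Subgroup.commutator_le.2 ?_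
      intro e he s _
      exact hcon e he s
    intro h hh
    exact hle hh
  have hEY : ⁅ι i e, ι 0 y⁆ = 0 := by
    rw [lie_at (c := i + 1) he (mem_gam_zero y) rfl]
    exact ι_zero_at (m := i + 2) rfl (hyi e he)
  have hv : ⁅s, y⁆ ∈ Gam G 1 := comm_top_at rfl (mem_gam_zero s) y
  have hs1 : ⁅e, s⁆ ∈ Gam G (i + 1) := comm_top_at rfl he s
  have hw0 : ⁅e, ⁅s, y⁆⁆ ∈ Gam G (i + 2) := comm_at (a := i) (b := 1) rfl he hv
  have h5 := lie_jac (ι i e) (ι 0 s) (ι 0 y) hEY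
  rw [lie_at (c := 1) (mem_gam_zero s) (mem_gam_zero y) rfl, lie_at (c := i + 1) he (mem_gam_zero s) rfl,
    lie_at (c := i + 2) he hv rfl, lie_at (c := i + 2) hs1 (mem_gam_zero y) rfl] at h5
  have hw1 : ⁅e, ⁅s, y⁆⁆ ∉ Gam G (i + 3) := by
    intro hc
    apply hes
    have h6 : ι (i + 2) ⁅e, ⁅s, y⁆⁆ = 0 := ι_zero_at (m := i + 3) rfl hc
    rw [h6] at h5
    exact (ι_zero_iff_at (m := i + 3) rfl (comm_at (a := i + 1) (b := 0) rfl hs1 (mem_gam_zero y))).1 h5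
  have h7 := lie_jac (ι i e) (ι 1 ⁅s, y⁆) (ι 0 y) hEY
  have h8 : ⁅ι 1 ⁅s, y⁆, ι 0 y⁆ = 0 := by
    rw [lie_at (c := 2) hv (mem_gam_zero y) rfl]
    exact ι_zero_at (m := 3) rfl (hy1 _ hv)
  rw [h8, lie_zero, lie_at (c := i + 2) he hv rfl, lie_at (c := i + 3) hw0 (mem_gam_zero y) rfl] at h7
  have h9 : ⁅⁅e, ⁅s, y⁆⁆, y⁆ ∈ Gam G (i + 4) :=
    (ι_zero_iff_at (m := i + 4) rfl (comm_at (a := i + 2) (b := 0) rfl hw0 (mem_gam_zero y))).1 h7
  exact level_cent' hn hlev (i := i + 2) (by omega) (by omega) hw0 hw1 h9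

/-- Existence of an element of `Cent 1` outside `Gam 1`. -/
theorem exists_y' (h4 : 4 ≤ n) : ∃ y : G, y ∉ Gam G 1 ∧ y ∈ Cent (G := G) 1 := by
  have hne := Cent_ne_top' hn hlev (G := G) (i := 1) le_rfl (by omega)
  obtain ⟨x, hx⟩ : ∃ x : G, x ∉ Cent (G := G) 1 := by
    by_contra h
    push Not at h
    exact hne (eq_top_iff.2 fun s _ => h s)
  obtain ⟨h, hh, hhx⟩ : ∃ h ∈ Gam G 1, ⁅h, x⁆ ∉ Gam G 3 := by
    by_contra hcon
    push Not at hcon
    exact hx hcon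
  have hh2 : h ∉ Gam G 2 := fun hc => hhx (comm_top_at rfl hc x)
  have hc1 : ⁅h, x⁆ ∈ Gam G 2 := comm_top_at rfl hh x
  obtain ⟨s, hs⟩ : ∃ s : G, s ∉ Subgroup.zpowers x ⊔ Gam G 1 := by
    by_contra hcon
    push Not at hcon
    exact zpow_sup_ne_top (p := p) hn hlev x (eq_top_iff.2 fun s _ => hcon s)
  obtain ⟨z, c, hc, hcs⟩ := level_gen' hn hlev (i := 2) (by omega) (by omega) hc1 hhx (comm_top_at rfl hh s)
  let f : G →* Multiplicative (LL G) :=
    { toFun := fun r => Multiplicative.ofAdd (ι 2 ⁅h, r⁆)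
      map_one' := by
        show Multiplicative.ofAdd (ι 2 ⁅h, (1 : G)⁆) = 1
        rw [commutatorElement_one_right, ι_one]
        rfl
      map_mul' := by
        intro r r'
        show Multiplicative.ofAdd (ι 2 ⁅h, r * r'⁆) = _
        rw [cm_mul_right (a := 1) (b := 0) rfl hh (mem_gam_zero r) (mem_gam_zero r')]
        rfl }
  have hf : ∀ r, f r = Multiplicative.ofAdd (ι 2 ⁅h, r⁆) := fun r => rfl
  set y := (x ^ z)⁻¹ * s with hy
  have hfy : f y = 1 := by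
    rw [hy, map_mul, map_inv, map_zpow, hf x, hf s, hcs, ι_mul (zpow_mem hc1 z) (gam_succ_le 2 hc), ι_zero_at rfl hc, add_zero,
      ι_zpow hc1, ← ofAdd_zsmul, inv_mul_cancel]
  have hy3 : ⁅h, y⁆ ∈ Gam G 3 := by
    have h1 : ι 2 ⁅h, y⁆ = 0 := by
      rw [hf y] at hfy
      exact hfy
    exact (ι_zero_iff_at (m := 3) rfl (comm_top_at rfl hh y)).1 h1
  refine ⟨y, ?_, level_cent' hn hlev (i := 1) le_rfl (by omega) hh hh2 hy3⟩
  intro hy1
  apply hs
  have e : s = x ^ z * y := by rw [hy]; group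
  rw [e]
  exact mul_mem (Subgroup.mem_sup_left (zpow_mem (Subgroup.mem_zpowers x) z)) (Subgroup.mem_sup_right hy1)

include hG hcard

/-- A generator outside `Cent 1` has its span mod `Gam 1` avoiding `Cent 1`-elements. -/
lemma not_mem_sup_of {a y : G} (ha : a ∉ Cent (G := G) 1) (hy1 : y ∈ Cent (G := G) 1) (hy2 : y ∉ Gam G 1) :
    y ∉ Subgroup.zpowers a ⊔ Gam G 1 := by
  intro hy
  have ha1 : a ∉ Gam G 1 := fun h => ha (gam_one_le_Cent 1 h)
  have hle : Subgroup.zpowers y ⊔ Gam G 1 ≤ Subgroup.zpowers a ⊔ Gam G 1 :=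
    sup_le ((Subgroup.zpowers_le).2 hy) le_sup_right
  have hc1 := card_W hG hcard hn hlev ha1
  have hc2 := card_W hG hcard hn hlev hy2
  have heq : Subgroup.zpowers y ⊔ Gam G 1 = Subgroup.zpowers a ⊔ Gam G 1 :=
    Subgroup.eq_of_le_of_card_ge hle (by rw [hc1, hc2])
  apply ha
  have h2 : Subgroup.zpowers y ⊔ Gam G 1 ≤ Cent (G := G) 1 :=
    sup_le ((Subgroup.zpowers_le).2 hy1) (gam_one_le_Cent 1)
  exact h2 (by rw [heq]; exact Subgroup.mem_sup_left (Subgroup.mem_zpowers a))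

omit hG hcard in
lemma hh_not_mem' {a y : G} (ha : IsUnif n a) (h1 : ⁅y, a⁆ ∉ Gam G 2) :
    ∀ k, 1 ≤ k → k ≤ n - 2 → hh y a k ∉ Gam G (k + 1) := by
  intro k hk
  induction k, hk using Nat.le_induction with
  | base =>
    intro _
    exact h1
  | succ k hk ih =>
    intro hk2 hc
    have h2 := ih (by omega)
    exact ha.2 k hk (by omega) (level_cent' hn hlev hk (by omega) (hh_mem y a k) h2 hc)

lemma comm_ya_not_mem {a y : G} (ha : IsUnif n a) (hy : y ∉ Subgroup.zpowers a ⊔ Gam G 1) : ⁅y, a⁆ ∉ Gam G 2 := by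
  intro h
  apply comm_not_mem hG hcard hn hlev ha.1 hy
  have := inv_mem h
  rwa [commutatorElement_inv] at this

/-- Even levels. -/
theorem self_even {a y : G} (ha : IsUnif n a) (hy : y ∉ Subgroup.zpowers a ⊔ Gam G 1) {j : ℕ} (hj : 1 ≤ j)
    (hn2 : 2 * j ≤ n - 3) (hall : ∀ i, 1 ≤ i → i < 2 * j → y ∈ Cent (G := G) i) : y ∈ Cent (G := G) (2 * j) := by
  have h2 := claim2 (a := a) (hK_of hall) j j (by omega)
  rw [lie_self] at h2
  have h3 : ⁅HH y a 0, HH y a (2 * j)⁆ = 0 := by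
    rcases neg_one_pow_eq_or ℤ j with h | h
    · rw [h, one_smul] at h2
      exact h2.symm
    · rw [h, neg_smul, one_smul] at h2
      exact neg_eq_zero.1 h2.symm
  rw [lie_top_eq] at h3
  have h4 := (ι_zero_iff_at (m := 2 * j + 2) rfl (comm_at (a := 0) (b := 2 * j) (by omega) (mem_gam_zero y) (hh_mem y a _))).1 h3
  have hnot := hh_not_mem' hn hlev ha (comm_ya_not_mem hG hcard hn hlev ha hy) (2 * j) (by omega) (by omega)
  exact mem_Cent_of hn hlev (by omega) (by omega) (hh_mem y a _) hnot h4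

/-- Odd levels. -/
theorem self_odd {a y : G} (ha : IsUnif n a) (hy : y ∉ Subgroup.zpowers a ⊔ Gam G 1) (hy1 : y ∈ Cent (G := G) 1) {j : ℕ}
    (hj : 2 ≤ j) (hjp : ¬ p ∣ j) (hn2 : 2 * j - 1 + 4 ≤ n) (hall : ∀ i, 1 ≤ i → i < 2 * j - 1 → y ∈ Cent (G := G) i) :
    y ∈ Cent (G := G) (2 * j - 1) := by
  have hpp := hp.out
  set K := 2 * j - 1 with hKd
  have hK3 : 3 ≤ K := by omega
  by_contra hcon
  have hy2 : y ∈ Cent (G := G) (K + 1) := by
    have h1 := cent_step' hn hlev (i := K - 1) (by omega) (by omega) hy1 (hall _ (by omega) (by omega))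
      (by rwa [show K - 1 + 1 = K by omega])
    rwa [show K - 1 + 2 = K + 1 by omega] at h1
  have h3 := claim3 (a := a) (hK_of hall) j j (by omega)
  rw [lie_self, lie_zero_of_cent hy2] at h3
  have h4 : (j : ℤ) • ⁅⁅HH y a 0, HH y a K⁆, ι 0 a⁆ = 0 := by
    have h3' : ((-1 : ℤ) ^ j) • ((0 : LL G) - (j : ℤ) • ⁅⁅HH y a 0, HH y a K⁆, ι 0 a⁆) = 0 := h3.symm
    rw [zero_sub, smul_neg] at h3'
    rcases neg_one_pow_eq_or ℤ j with h | h
    · rw [h, one_smul] at h3'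
      exact neg_eq_zero.1 h3'
    · rw [h, neg_smul, one_smul, neg_neg] at h3'
      exact h3'
  have hnot := hh_not_mem' hn hlev ha (comm_ya_not_mem hG hcard hn hlev ha hy) K (by omega) (by omega)
  have hm : ⁅y, hh y a K⁆ ∈ Gam G (K + 1) := comm_at (a := 0) (b := K) (by omega) (mem_gam_zero y) (hh_mem y a _)
  have hm2 : ⁅y, hh y a K⁆ ∉ Gam G (K + 2) := fun h =>
    hcon (mem_Cent_of hn hlev (by omega) (by omega) (hh_mem y a _) hnot h)
  have hm3 : ⁅⁅y, hh y a K⁆, a⁆ ∉ Gam G (K + 3) := fun h =>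
    ha.2 (K + 1) (by omega) (by omega) (level_cent' hn hlev (by omega) (by omega) hm hm2 h)
  have hm4 : ⁅⁅y, hh y a K⁆, a⁆ ∈ Gam G (K + 2) := comm_top_at rfl hm a
  rw [lie_top_eq, lie_at (c := K + 2) hm (mem_gam_zero a) rfl, ← ι_zpow hm4] at h4
  have h5 := (ι_zero_iff_at (m := K + 3) rfl (zpow_mem hm4 _)).1 h4
  -- Bezout
  have h6 : ⁅⁅y, hh y a K⁆, a⁆ ^ p ∈ Gam G (K + 3) := pow_level hn hlev (k := K + 2) (by omega) (by omega) hm4
  have hcop : Nat.Coprime j p := ((Nat.Prime.coprime_iff_not_dvd hpp).2 hjp).symm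
  have hb := Nat.gcd_eq_gcd_ab j p
  rw [hcop.gcd_eq_one] at hb
  apply hm3
  have e : ⁅⁅y, hh y a K⁆, a⁆ = (⁅⁅y, hh y a K⁆, a⁆ ^ (j : ℤ)) ^ (Nat.gcdA j p) * (⁅⁅y, hh y a K⁆, a⁆ ^ p) ^ (Nat.gcdB j p) := by
    rw [← zpow_mul, ← zpow_natCast _ p, ← zpow_mul, ← zpow_add, ← hb]
    simp
  rw [e]
  exact mul_mem (zpow_mem h5 _) (zpow_mem h6 _)

/-- Small levels. -/
theorem cent_small (hp3 : 3 ≤ p) {y : G} (hy1 : y ∈ Cent (G := G) 1) :
    ∀ K, 1 ≤ K → K < p → K + 4 ≤ n → y ∈ Cent (G := G) K := by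
  have hpp := hp.out
  intro K
  induction K using Nat.strong_induction_on with
  | _ K ih =>
    intro hK1 hKp hKn
    by_cases hg : y ∈ Gam G 1
    · exact gam_one_le_Cent K hg
    obtain ⟨a, ha⟩ := exists_unif hp3 n hn G hcard hlev
    have hya : y ∉ Subgroup.zpowers a ⊔ Gam G 1 :=
      not_mem_sup_of hG hcard hn hlev (ha.2 1 le_rfl (by omega)) hy1 hg
    rcases Nat.even_or_odd' K with ⟨j, rfl | rfl⟩
    · exact self_even hG hcard hn hlev ha hya (by omega) (by omega)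
        (fun i h1 h2 => ih i h2 h1 (by omega) (by omega))
    · by_cases hj : j = 0
      · subst hj
        simpa using hy1
      · have h := self_odd hG hcard hn hlev ha hya hy1 (j := j + 1) (by omega)
          (fun hd => by
            have := Nat.le_of_dvd (by omega) hd
            omega) (by omega)
          (fun i h1 h2 => ih i (by omega) h1 (by omega) (by omega))
        rwa [show 2 * (j + 1) - 1 = 2 * j + 1 by omega] at h

/-- The periodicity. -/
theorem cent_red (hp3 : 3 ≤ p) : ∀ j, 1 ≤ j → j + 4 ≤ n → ∃ i, 1 ≤ i ∧ i < p ∧ i ≤ j ∧ Cent (G := G) j = Cent (G := G) i := by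
  have hpp := hp.out
  by_cases hnp : n ≤ p + 3
  · intro j h1 h2
    exact ⟨j, h1, by omega, le_rfl, rfl⟩
  push Not at hnp
  obtain ⟨m, rfl⟩ : ∃ m, n = m + 1 := ⟨n - 1, by omega⟩
  have hm : 3 ≤ m := by omega
  obtain ⟨hq1, hq2⟩ := quot_hlev hcard hn hlev (m := m - 1) (by omega) (by omega)
  rw [show m - 1 + 1 = m by omega] at hq1 hq2
  obtain ⟨a', ha'⟩ := exists_unif hp3 m hm (G ⧸ Gam G (m - 1)) hq1 hq2
  have hqG : IsPGroup p (G ⧸ Gam G (m - 1)) := IsPGroup.of_card hq1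
  obtain ⟨hC, hZ⟩ := unif_props hqG hq1 hm hq2 ha'
  have hper : ∀ k, 1 ≤ k → k + p + 2 ≤ m → Cent (G := G) k = Cent (G := G) (k + p - 1) := by
    intro k hk hkp
    ext s
    rw [← cent_transfer (m := m - 1) (by omega) s, ← cent_transfer (m := m - 1) (by omega) s]
    exact cent_period hqG hq1 hm hq2 hC hZ hp3 hk hkp _
  intro j
  induction j using Nat.strong_induction_on with
  | _ j ih' =>
    intro h1 h2
    by_cases hjp : j < p
    · exact ⟨j, h1, hjp, le_rfl, rfl⟩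
    · have h3 := hper (j + 1 - p) (by omega) (by omega)
      rw [show j + 1 - p + p - 1 = j by omega] at h3
      obtain ⟨i, hi1, hi2, hi4, hi3⟩ := ih' (j + 1 - p) (by omega) (by omega) (by omega)
      exact ⟨i, hi1, hi2, by omega, h3.symm.trans hi3⟩

/-- `Cent 1 ≤ Cent K`. -/
theorem cent_one_le (hp3 : 3 ≤ p) {K : ℕ} (h1 : 1 ≤ K) (h2 : K + 4 ≤ n) : Cent (G := G) 1 ≤ Cent (G := G) K := by
  intro y hy
  obtain ⟨i, hi1, hi2, hi4, hi3⟩ := cent_red hG hcard hn hlev hp3 K h1 h2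
  rw [hi3]
  exact cent_small hG hcard hn hlev hp3 hy i hi1 hi2 (by omega)

/-- The two-step centralizers below the top agree. -/
theorem cent_eq (hp3 : 3 ≤ p) {K : ℕ} (h1 : 1 ≤ K) (h2 : K + 4 ≤ n) : Cent (G := G) K = Cent (G := G) 1 := by
  have hpp := hp.out
  apply le_antisymm _ (cent_one_le hG hcard hn hlev hp3 h1 h2)
  intro s hs
  by_contra hcon
  obtain ⟨y, hy2, hy1⟩ := exists_y' hn hlev (by omega)
  have hyK := cent_one_le hG hcard hn hlev hp3 h1 h2 hy1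
  have hsn : s ∉ Subgroup.zpowers y ⊔ Gam G 1 := by
    have h3 : Subgroup.zpowers y ⊔ Gam G 1 ≤ Cent (G := G) 1 :=
      sup_le ((Subgroup.zpowers_le).2 hy1) (gam_one_le_Cent 1)
    exact fun h => hcon (h3 h)
  have htop := two_gen hG hcard hn hlev hy2 hsn
  apply Cent_ne_top' hn hlev (G := G) (i := K) h1 (by omega)
  rw [eq_top_iff, ← htop]
  refine sup_le ?_ (gam_one_le_Cent K)
  rw [Subgroup.closure_le]
  rintro x (rfl | rfl)
  · exact hyK
  · exact hs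

/-- An element outside `Cent 1` and the top two-step centralizer is uniform. -/
theorem isUnif_of (hp3 : 3 ≤ p) {e : G} (h1 : e ∉ Cent (G := G) 1) (h2 : e ∉ Cent (G := G) (n - 3)) : IsUnif n e := by
  refine ⟨fun h => h1 (gam_one_le_Cent 1 h), fun k hk1 hk2 => ?_⟩
  by_cases hk : k = n - 3
  · rwa [hk]
  · rw [cent_eq hG hcard hn hlev hp3 hk1 (by omega)]
    exact h1

/-- Odd `n`: the top two-step centralizer is no different. -/
theorem cent_top_of_odd (hp3 : 3 ≤ p) {y : G} (hy1 : y ∈ Cent (G := G) 1) (hodd : Odd n) (h5 : 5 ≤ n) :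
    y ∈ Cent (G := G) (n - 3) := by
  by_cases hg : y ∈ Gam G 1
  · exact gam_one_le_Cent _ hg
  obtain ⟨a, ha⟩ := exists_unif hp3 n hn G hcard hlev
  have hya : y ∉ Subgroup.zpowers a ⊔ Gam G 1 :=
    not_mem_sup_of hG hcard hn hlev (ha.2 1 le_rfl (by omega)) hy1 hg
  obtain ⟨t, ht⟩ := hodd
  have e : n - 3 = 2 * (t - 1) := by omega
  rw [e]
  refine self_even hG hcard hn hlev ha hya (by omega) (by omega) (fun i h1 h2 => ?_)
  exact cent_one_le hG hcard hn hlev hp3 h1 (by omega) hy1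

/-- The non-degenerate pairing. -/
theorem pairing (hp3 : 3 ≤ p) (h5 : 5 ≤ n) {y : G} (hy1 : y ∈ Cent (G := G) 1) (hy2 : y ∉ Cent (G := G) (n - 3))
    {j i : ℕ} (hj : 1 ≤ j) (hi : 1 ≤ i) (hji : j + i = n - 3) {u w : G} (hu : u ∈ Gam G j) (hu' : u ∉ Gam G (j + 1))
    (hw : w ∈ Gam G i) (hw' : w ∉ Gam G (i + 1)) : ⁅u, w⁆ ≠ 1 := by
  have hg : y ∉ Gam G 1 := fun h => hy2 (gam_one_le_Cent _ h)
  obtain ⟨a, ha⟩ := exists_unif hp3 n hn G hcard hlev
  have hya : y ∉ Subgroup.zpowers a ⊔ Gam G 1 :=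
    not_mem_sup_of hG hcard hn hlev (ha.2 1 le_rfl (by omega)) hy1 hg
  set K := n - 3 with hK
  have hall : ∀ i, 1 ≤ i → i < K → y ∈ Cent (G := G) i := fun i h1 h2 =>
    cent_one_le hG hcard hn hlev hp3 h1 (by omega) hy1
  have hnot := hh_not_mem' hn hlev ha (comm_ya_not_mem hG hcard hn hlev ha hya)
  have hB : ⁅HH y a 0, HH y a K⁆ ≠ 0 := by
    intro h
    rw [lie_top_eq] at h
    have h4 := (ι_zero_iff_at (m := K + 2) rfl (comm_at (a := 0) (b := K) (by omega) (mem_gam_zero y) (hh_mem y a _))).1 h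
    exact hy2 (mem_Cent_of hn hlev (by omega) (by omega) (hh_mem y a _) (hnot K (by omega) (by omega)) h4)
  have h2 := claim2 (a := a) (hK_of hall) j i hji
  have hne : ⁅HH y a j, HH y a i⁆ ≠ 0 := by
    rw [h2]
    rcases neg_one_pow_eq_or ℤ j with h | h
    · rw [h, one_smul]
      exact hB
    · rw [h, neg_smul, one_smul]
      exact neg_ne_zero.2 hB
  -- express by `u`, `w`
  obtain ⟨z₁, c₁, hc₁, e₁⟩ := level_gen' hn hlev hj (by omega) hu hu' (hh_mem y a j)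
  obtain ⟨z₂, c₂, hc₂, e₂⟩ := level_gen' hn hlev hi (by omega) hw hw' (hh_mem y a i)
  have hH1 : HH y a j = z₁ • ι j u := by
    show ι j (hh y a j) = _
    rw [e₁, ι_mul (zpow_mem hu _) (gam_succ_le j hc₁), ι_zero_at rfl hc₁, add_zero, ι_zpow hu]
  have hH2 : HH y a i = z₂ • ι i w := by
    show ι i (hh y a i) = _
    rw [e₂, ι_mul (zpow_mem hw _) (gam_succ_le i hc₂), ι_zero_at rfl hc₂, add_zero, ι_zpow hw]
  intro hc
  apply hne
  have h0 : ⁅ι j u, ι i w⁆ = 0 := by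
    rw [lie_ι hu hw, hc, ι_one]
  have h1 : ⁅ι j u, z₂ • ι i w⁆ = z₂ • ⁅ι j u, ι i w⁆ := by
    rw [← lie_skew, zs_lie, ← smul_neg, lie_skew]
  rw [hH1, hH2, zs_lie, h1, h0]
  simp

end Main

end Cfsg.Agent.Lib.MaxEss3B
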