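import Mathlib
import Cfsg.Agent.Lib.MaxEss3B
import Cfsg.Agent.Lib.MaxClass

/-!
# Maximal class data inside an ambient group
-/

set_option autoImplicit false
set_option linter.unusedSectionVars false
set_option linter.style.haveILetI false
set_option linter.unusedVariables false

namespace Cfsg.Agent.Lib.MaxEss3C

open Cfsg.Agent.Lib.LCSLie Cfsg.Agent.Lib.MaxExp Cfsg.Agent.Lib.MaxClassPow Cfsg.Agent.Lib.MaxUnif Cfsg.Agent.Lib.MaxEss3B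
open scoped commutatorElement

variable {Ω : Type*} [Group Ω] {S : Subgroup Ω} [Finite S] {p n : ℕ} [hp : Fact p.Prime]

/-- The lower central series of `S`, in the ambient group. -/
def Gm (S : Subgroup Ω) (k : ℕ) : Subgroup Ω := (Gam ↥S k).map S.subtype

/-- The two-step centralizers of `S`, in the ambient group. -/
def CC (S : Subgroup Ω) (k : ℕ) : Subgroup Ω := (Cent (G := ↥S) k).map S.subtype

/-- Maximal class data. -/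
structure MC (S : Subgroup Ω) (p n : ℕ) : Prop where
  hS : IsPGroup p S
  card : Nat.card S = p ^ n
  n5 : 5 ≤ n
  p5 : 5 ≤ p
  lev : ∀ i, 1 ≤ i → i ≤ n - 1 → Nat.card (Gam ↥S i) = p ^ (n - 1 - i)

lemma mem_Gm {k : ℕ} {x : Ω} : x ∈ Gm S k ↔ ∃ h : x ∈ S, (⟨x, h⟩ : S) ∈ Gam ↥S k := by
  constructor
  · rintro ⟨⟨x, hx⟩, hm, rfl⟩
    exact ⟨hx, hm⟩
  · rintro ⟨h, hm⟩
    exact ⟨_, hm, rfl⟩

lemma Gm_le (k : ℕ) : Gm S k ≤ S := by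
  rintro _ ⟨x, -, rfl⟩
  exact x.2

lemma Gm_zero : Gm S 0 = S := by
  ext x
  constructor
  · intro h
    exact Gm_le 0 h
  · intro h
    exact mem_Gm.2 ⟨h, mem_gam_zero _⟩

lemma Gm_anti {a b : ℕ} (h : a ≤ b) : Gm S b ≤ Gm S a :=
  Subgroup.map_mono (Subgroup.lowerCentralSeries_antitone _ h)

lemma Gm_comm {a b c : ℕ} (hc : a + b + 1 = c) {x y : Ω} (hx : x ∈ Gm S a) (hy : y ∈ Gm S b) : ⁅x, y⁆ ∈ Gm S c := by
  obtain ⟨hx1, hx2⟩ := mem_Gm.1 hx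
  obtain ⟨hy1, hy2⟩ := mem_Gm.1 hy
  exact mem_Gm.2 ⟨S.mul_mem (S.mul_mem (S.mul_mem hx1 hy1) (S.inv_mem hx1)) (S.inv_mem hy1), comm_at hc hx2 hy2⟩

lemma mem_zero {s : Ω} (hs : s ∈ S) : s ∈ Gm S 0 := by rwa [Gm_zero]

lemma Gm_top {a c : ℕ} (hc : a + 1 = c) {x s : Ω} (hx : x ∈ Gm S a) (hs : s ∈ S) : ⁅x, s⁆ ∈ Gm S c :=
  Gm_comm (by omega) hx (mem_zero hs)

lemma Gm_conj {a : ℕ} {x s : Ω} (hx : x ∈ Gm S a) (hs : s ∈ S) : s * x * s⁻¹ ∈ Gm S a := by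
  obtain ⟨hx1, hx2⟩ := mem_Gm.1 hx
  exact mem_Gm.2 ⟨S.mul_mem (S.mul_mem hs hx1) (S.inv_mem hs), (gam_normal _ a).conj_mem _ hx2 ⟨s, hs⟩⟩

lemma mem_of_eq_comm {a : ℕ} {x s : Ω} (hx : x ∈ Gm S a) (hs : s ∈ S) : ⁅s, x⁆ ∈ Gm S a := by
  rw [commutatorElement_def]
  exact mul_mem (Gm_conj hx hs) (inv_mem hx)

lemma mem_CC {k : ℕ} {s : Ω} : s ∈ CC S k ↔ s ∈ S ∧ ∀ h ∈ Gm S k, ⁅h, s⁆ ∈ Gm S (k + 2) := by
  constructor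
  · rintro ⟨⟨s, hs⟩, hm, rfl⟩
    refine ⟨hs, fun h hh => ?_⟩
    obtain ⟨h1, h2⟩ := mem_Gm.1 hh
    exact mem_Gm.2 ⟨S.mul_mem (S.mul_mem (S.mul_mem h1 hs) (S.inv_mem h1)) (S.inv_mem hs), hm _ h2⟩
  · rintro ⟨hs, h⟩
    refine ⟨⟨s, hs⟩, fun g hg => ?_, rfl⟩
    have h1 := h (g : Ω) (mem_Gm.2 ⟨g.2, hg⟩)
    obtain ⟨h2, h3⟩ := mem_Gm.1 h1
    exact h3

lemma Gm_one_le_CC (k : ℕ) : Gm S 1 ≤ CC S k := Subgroup.map_mono (gam_one_le_Cent k)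

namespace MC

variable (h : MC S p n)
include h

lemma n3 : 3 ≤ n := by have := h.n5; omega

lemma card_Gm {i : ℕ} (h1 : 1 ≤ i) (h2 : i ≤ n - 1) : Nat.card (Gm S i) = p ^ (n - 1 - i) := by
  rw [Gm, Subgroup.card_map_of_injective S.subtype_injective]
  exact h.lev i h1 h2

lemma Gm_bot : Gm S (n - 1) = ⊥ := by
  rw [Gm, gam_bot h.n3 h.lev, Subgroup.map_bot]

lemma Gm_eq_bot {k : ℕ} (hk : n - 1 ≤ k) : Gm S k = ⊥ := by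
  have := Gm_anti (S := S) hk
  rw [h.Gm_bot] at this
  exact eq_bot_iff.2 this

lemma comm_eq_one {a b : ℕ} (hab : n - 1 ≤ a + b + 1) {x y : Ω} (hx : x ∈ Gm S a) (hy : y ∈ Gm S b) : ⁅x, y⁆ = 1 := by
  have h1 := Gm_comm rfl hx hy
  rw [h.Gm_eq_bot hab] at h1
  exact h1

lemma commute_of {a b : ℕ} (hab : n - 1 ≤ a + b + 1) {x y : Ω} (hx : x ∈ Gm S a) (hy : y ∈ Gm S b) : x * y = y * x :=
  commutatorElement_eq_one_iff_mul_comm.1 (h.comm_eq_one hab hx hy)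

lemma level_gen {i : ℕ} (h1 : 1 ≤ i) (h2 : i + 1 ≤ n - 1) {u g : Ω} (hu : u ∈ Gm S i) (hu' : u ∉ Gm S (i + 1))
    (hg : g ∈ Gm S i) : ∃ z : ℤ, ∃ c ∈ Gm S (i + 1), g = u ^ z * c := by
  obtain ⟨hu1, hu2⟩ := mem_Gm.1 hu
  obtain ⟨hg1, hg2⟩ := mem_Gm.1 hg
  have hu3 : (⟨u, hu1⟩ : S) ∉ Gam ↥S (i + 1) := fun hc => hu' (mem_Gm.2 ⟨hu1, hc⟩)
  obtain ⟨z, c, hc, e⟩ := level_gen' h.n3 h.lev h1 h2 hu2 hu3 hg2
  refine ⟨z, (c : Ω), mem_Gm.2 ⟨c.2, hc⟩, ?_⟩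
  have := congrArg Subtype.val e
  simpa using this

lemma level_cent {i : ℕ} (h1 : 1 ≤ i) (h2 : i + 1 ≤ n - 1) {w y : Ω} (hw : w ∈ Gm S i) (hw' : w ∉ Gm S (i + 1))
    (hy : y ∈ S) (hc : ⁅w, y⁆ ∈ Gm S (i + 2)) : y ∈ CC S i := by
  obtain ⟨hw1, hw2⟩ := mem_Gm.1 hw
  have hw3 : (⟨w, hw1⟩ : S) ∉ Gam ↥S (i + 1) := fun hc => hw' (mem_Gm.2 ⟨hw1, hc⟩)
  obtain ⟨h3, h4⟩ := mem_Gm.1 hc
  exact ⟨⟨y, hy⟩, level_cent' h.n3 h.lev h1 h2 hw2 hw3 h4, rfl⟩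

lemma exists_level {i : ℕ} (h1 : 1 ≤ i) (h2 : i + 1 ≤ n - 1) : ∃ u ∈ Gm S i, u ∉ Gm S (i + 1) := by
  obtain ⟨u, hu, hu'⟩ := Cfsg.Agent.Lib.MaxUnif.exists_level (p := p) h.n3 h.lev h1 h2
  exact ⟨u, mem_Gm.2 ⟨u.2, hu⟩, fun hc => hu' (mem_Gm.1 hc).2⟩

lemma exists_y : ∃ y ∈ CC S 1, y ∉ Gm S 1 := by
  obtain ⟨y, hy1, hy2⟩ := exists_y' h.n3 h.lev (by have := h.n5; omega)
  exact ⟨y, ⟨y, hy2, rfl⟩, fun hc => hy1 (mem_Gm.1 hc).2⟩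

lemma exists_not_CC {k : ℕ} (h1 : 1 ≤ k) (h2 : k + 2 ≤ n - 1) : ∃ x ∈ S, x ∉ CC S k := by
  have hne := Cent_ne_top' h.n3 h.lev (G := ↥S) (i := k) h1 h2
  obtain ⟨x, hx⟩ : ∃ x : S, x ∉ Cent (G := ↥S) k := by
    by_contra hc
    push Not at hc
    exact hne (eq_top_iff.2 fun s _ => hc s)
  refine ⟨x, x.2, ?_⟩
  rintro ⟨y, hy, e⟩
  have : y = x := Subtype.ext e
  exact hx (this ▸ hy)

lemma CC_eq {K : ℕ} (h1 : 1 ≤ K) (h2 : K + 4 ≤ n) : CC S K = CC S 1 := by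
  rw [CC, cent_eq h.hS h.card h.n3 h.lev (by have := h.p5; omega) h1 h2]
  rfl

lemma unif_card {e : Ω} (he : e ∈ S) (h1 : e ∉ CC S 1) (h2 : e ∉ CC S (n - 3)) {A : Subgroup Ω} (hAS : A ≤ S)
    (hA : ∀ x ∈ A, x * e = e * x) : Nat.card A ≤ p ^ 2 := by
  have hu : IsUnif n (⟨e, he⟩ : S) := isUnif_of h.hS h.card h.n3 h.lev (by have := h.p5; omega)
    (fun hc => h1 ⟨_, hc, rfl⟩) (fun hc => h2 ⟨_, hc, rfl⟩)
  have h3 := (unif_props h.hS h.card h.n3 h.lev hu).1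
  refine le_trans ?_ h3
  let f : A → Subgroup.centralizer ({(⟨e, he⟩ : S)} : Set S) := fun x =>
    ⟨⟨x, hAS x.2⟩, Subgroup.mem_centralizer_singleton_iff.2 (Subtype.ext (hA x x.2))⟩
  refine Nat.card_le_card_of_injective f ?_
  intro a b hab
  have := congrArg (fun t : Subgroup.centralizer ({(⟨e, he⟩ : S)} : Set S) => ((t : S) : Ω)) hab
  exact Subtype.ext this

lemma top_of_odd {y : Ω} (hy : y ∈ CC S 1) (hodd : Odd n) : y ∈ CC S (n - 3) := by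
  obtain ⟨⟨y, hy0⟩, hy1, rfl⟩ := hy
  exact ⟨_, cent_top_of_odd h.hS h.card h.n3 h.lev (by have := h.p5; omega) hy1 hodd h.n5, rfl⟩

lemma even_of {y : Ω} (hy : y ∈ CC S 1) (hy2 : y ∉ CC S (n - 3)) : ¬ Odd n := fun hodd => hy2 (h.top_of_odd hy hodd)

lemma pairing {y : Ω} (hy : y ∈ CC S 1) (hy2 : y ∉ CC S (n - 3)) {j i : ℕ} (hj : 1 ≤ j) (hi : 1 ≤ i) (hji : j + i = n - 3)
    {u w : Ω} (hu : u ∈ Gm S j) (hu' : u ∉ Gm S (j + 1)) (hw : w ∈ Gm S i) (hw' : w ∉ Gm S (i + 1)) : ⁅u, w⁆ ≠ 1 := by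
  obtain ⟨⟨y, hy0⟩, hy1, rfl⟩ := hy
  obtain ⟨hu1, hu2⟩ := mem_Gm.1 hu
  obtain ⟨hw1, hw2⟩ := mem_Gm.1 hw
  have := MaxEss3B.pairing h.hS h.card h.n3 h.lev (by have := h.p5; omega) h.n5 hy1 (fun hc => hy2 ⟨_, hc, rfl⟩) hj hi hji
    hu2 (fun hc => hu' (mem_Gm.2 ⟨hu1, hc⟩)) hw2 (fun hc => hw' (mem_Gm.2 ⟨hw1, hc⟩))
  intro hc
  apply this
  apply Subtype.ext
  simpa [commutatorElement_def] using hc

/-- Two generators. -/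
lemma two_gen {t s : Ω} (ht : t ∈ S) (hs : s ∈ S) (ht' : t ∉ Gm S 1) (hs' : s ∉ Subgroup.zpowers t ⊔ Gm S 1) :
    ⁅t, s⁆ ∉ Gm S 2 ∧ ∀ H : Subgroup Ω, H ≤ S → t ∈ H → s ∈ H → Gm S 1 ≤ H → H = S := by
  have ht1 : (⟨t, ht⟩ : S) ∉ Gam ↥S 1 := fun hc => ht' (mem_Gm.2 ⟨ht, hc⟩)
  have hs1 : (⟨s, hs⟩ : S) ∉ Subgroup.zpowers (⟨t, ht⟩ : S) ⊔ Gam ↥S 1 := by
    intro hc
    apply hs'
    have h1 : (Subgroup.zpowers (⟨t, ht⟩ : S) ⊔ Gam ↥S 1).map S.subtype ≤ Subgroup.zpowers t ⊔ Gm S 1 := by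
      rw [Subgroup.map_sup]
      refine sup_le_sup ?_ le_rfl
      rw [MonoidHom.map_zpowers]
      exact le_rfl
    exact h1 ⟨_, hc, rfl⟩
  constructor
  · intro hc
    obtain ⟨_, h3⟩ := mem_Gm.1 hc
    exact comm_not_mem h.hS h.card h.n3 h.lev ht1 hs1 h3
  · intro H hHS htH hsH hGH
    have htop := MaxUnif.two_gen h.hS h.card h.n3 h.lev ht1 hs1
    apply le_antisymm hHS
    intro x hx
    have hx1 : (⟨x, hx⟩ : S) ∈ Subgroup.closure ({⟨t, ht⟩, ⟨s, hs⟩} : Set S) ⊔ Gam ↥S 1 := by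
      rw [htop]
      exact Subgroup.mem_top _
    have hle : Subgroup.closure ({⟨t, ht⟩, ⟨s, hs⟩} : Set S) ⊔ Gam ↥S 1 ≤ H.subgroupOf S := by
      refine sup_le ?_ ?_
      · rw [Subgroup.closure_le]
        rintro y (rfl | rfl)
        · exact htH
        · exact hsH
      · intro y hy
        exact hGH (mem_Gm.2 ⟨y.2, hy⟩)
    exact hle hx1

lemma pow_mem_Gm1 {a : Ω} (ha : a ∈ S) : a ^ p ∈ Gm S 1 :=
  mem_Gm.2 ⟨S.pow_mem ha p, pow_mem_gam_one (G := ↥S) h.card h.n3 h.lev ⟨a, ha⟩⟩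

lemma pow_level {k : ℕ} (h1 : 1 ≤ k) (h2 : k + 1 ≤ n - 1) {x : Ω} (hx : x ∈ Gm S k) : x ^ p ∈ Gm S (k + 1) := by
  obtain ⟨hx1, hx2⟩ := mem_Gm.1 hx
  exact mem_Gm.2 ⟨S.pow_mem hx1 p, MaxEss3B.pow_level h.n3 h.lev h1 h2 hx2⟩

/-- Normality-type facts. -/
lemma card_S_lt_of {Q : Subgroup Ω} (hQ : Nat.card Q = p ^ 4) : Nat.card Q < Nat.card S := by
  have hpp := hp.out
  rw [hQ, h.card]
  exact Nat.pow_lt_pow_right hpp.one_lt (by have := h.n5; omega)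

end MC

/-- Assemble the maximal class data. -/
theorem mc_of {S : Subgroup Ω} [Finite S] (hS : IsPGroup p S) (hn : Nat.card S = p ^ n) (h5 : 5 ≤ n) (hp5 : 5 ≤ p)
    (hmax : Subgroup.lowerCentralSeries S (n - 2) ≠ ⊥) : MC S p n := by
  have hcl : Group.nilpotencyClass ↥S = n - 1 := by
    haveI hnil : Group.IsNilpotent ↥S := hS.isNilpotent
    have h1 := Cfsg.Agent.Lib.MaxClass.lcs_eq_bot_of_card hS hn (by omega)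
    have h3 := (Subgroup.lowerCentralSeries_eq_bot_iff_nilpotencyClass_le).1 h1
    have h4 : ¬ Group.nilpotencyClass ↥S ≤ n - 2 := by
      intro h5
      apply hmax
      have h6 := (Subgroup.lowerCentralSeries_eq_bot_iff_nilpotencyClass_le).2 h5
      rw [← Subgroup.top_subtype_lowerCentralSeries, h6, Subgroup.map_bot]
    omega
  exact ⟨hS, hn, h5, hp5, Cfsg.Agent.Lib.MaxClass.card_lcs_of_maxClass hS hn hcl (by omega)⟩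

end Cfsg.Agent.Lib.MaxEss3C
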