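import Mathlib
import Cfsg.Agent.Lib.MaxEss3A

/-!
# Frames: an essential elementary abelian subgroup of order `p ^ 3` with a transvection
-/

set_option autoImplicit false
set_option linter.unusedSectionVars false
set_option linter.style.haveILetI false
set_option linter.unusedVariables false

namespace Cfsg.Agent.Lib.MaxEss3D

open Cfsg Cfsg.FusionSystem Cfsg.Agent.Lib.FusionCore Cfsg.Agent.Lib.FusionCore2 Cfsg.Agent.Lib.MaxEss3A
open scoped commutatorElement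

/-- Exponents of commuting elements. -/
lemma cz {G : Type*} [Group G] {s c : G} (h : Commute s c) (x y x' y' u v : ℤ) :
    (s ^ x * c ^ y) ^ u * (s ^ x' * c ^ y') ^ v = s ^ (x * u + x' * v) * c ^ (y * u + y' * v) := by
  have e1 : (s ^ x * c ^ y) ^ u = s ^ (x * u) * c ^ (y * u) := by
    rw [(h.zpow_zpow x y).mul_zpow, zpow_mul, zpow_mul]
  have e2 : (s ^ x' * c ^ y') ^ v = s ^ (x' * v) * c ^ (y' * v) := by
    rw [(h.zpow_zpow x' y').mul_zpow, zpow_mul, zpow_mul]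
  rw [e1, e2, zpow_add, zpow_add, mul_assoc, mul_assoc, ← mul_assoc (c ^ (y * u)),
    (h.zpow_zpow (x' * v) (y * u)).eq.symm, mul_assoc]

/-- Conjugating by powers when the commutator commutes with the conjugating element. -/
lemma conjz {G : Type*} [Group G] {a b d : G} (h1 : a * b * a⁻¹ = d * b) (h2 : a * d = d * a) (i : ℤ) :
    a ^ i * b * (a ^ i)⁻¹ = d ^ i * b := by
  have hcomm : ∀ j : ℤ, a ^ j * d = d * a ^ j := fun j => (Commute.zpow_left (show Commute a d from h2) j).eq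
  have h1' : a⁻¹ * b * a = d⁻¹ * b := by
    have e : b = a⁻¹ * (d * b) * a := by rw [← h1]; group
    have e2 : a⁻¹ * d = d * a⁻¹ := by
      have := (hcomm (-1))
      simpa using this
    calc a⁻¹ * b * a = d⁻¹ * (d * a⁻¹) * b * a := by group
      _ = d⁻¹ * (a⁻¹ * d) * b * a := by rw [e2]
      _ = d⁻¹ * (a⁻¹ * (d * b) * a) := by group
      _ = d⁻¹ * b := by rw [← e]
  induction i using Int.induction_on with
  | zero => simp
  | succ n ih =>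
    calc a ^ ((n : ℤ) + 1) * b * (a ^ ((n : ℤ) + 1))⁻¹ = a ^ (n : ℤ) * (a * b * a⁻¹) * (a ^ (n : ℤ))⁻¹ := by
          rw [zpow_add_one]; group
      _ = (a ^ (n : ℤ) * d) * b * (a ^ (n : ℤ))⁻¹ := by rw [h1]; group
      _ = d * (a ^ (n : ℤ) * b * (a ^ (n : ℤ))⁻¹) := by rw [hcomm]; group
      _ = d * (d ^ (n : ℤ) * b) := by rw [ih]
      _ = d ^ ((n : ℤ) + 1) * b := by rw [zpow_add_one, (Commute.zpow_left (Commute.refl d) (n : ℤ)).eq]; group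
  | pred n ih =>
    calc a ^ (-(n : ℤ) - 1) * b * (a ^ (-(n : ℤ) - 1))⁻¹ = a ^ (-(n : ℤ)) * (a⁻¹ * b * a) * (a ^ (-(n : ℤ)))⁻¹ := by
          rw [zpow_sub_one]; group
      _ = (a ^ (-(n : ℤ)) * d⁻¹) * b * (a ^ (-(n : ℤ)))⁻¹ := by rw [h1']; group
      _ = d⁻¹ * (a ^ (-(n : ℤ)) * b * (a ^ (-(n : ℤ)))⁻¹) := by
          have : a ^ (-(n : ℤ)) * d⁻¹ = d⁻¹ * a ^ (-(n : ℤ)) := (Commute.inv_right (show Commute (a ^ (-(n : ℤ))) d from hcomm _)).eq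
          rw [this]; group
      _ = d⁻¹ * (d ^ (-(n : ℤ)) * b) := by rw [ih]
      _ = d ^ (-(n : ℤ) - 1) * b := by
          have : d ^ (-(n : ℤ)) * d⁻¹ = d⁻¹ * d ^ (-(n : ℤ)) := (Commute.inv_right (Commute.zpow_left (Commute.refl d) _)).eq
          rw [zpow_sub_one, this]; group

/-- Reduction of exponents. -/
lemma red_exp {G : Type*} [Group G] {p : ℕ} (hp0 : 0 < p) {a : G} (ha : a ^ p = 1) (i : ℤ) :
    ∃ m : Fin p, a ^ i = a ^ ((m : ℕ) : ℤ) := by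
  have h1 : (0 : ℤ) ≤ i % (p : ℤ) := Int.emod_nonneg _ (by exact_mod_cast hp0.ne')
  have h2 : i % (p : ℤ) < p := Int.emod_lt_of_pos _ (by exact_mod_cast hp0)
  refine ⟨⟨(i % (p : ℤ)).toNat, by omega⟩, ?_⟩
  show a ^ i = a ^ (((i % (p : ℤ)).toNat : ℕ) : ℤ)
  rw [Int.toNat_of_nonneg h1]
  conv_lhs => rw [← Int.mul_ediv_add_emod i p]
  rw [zpow_add, zpow_mul, zpow_natCast, ha, one_zpow, one_mul]

lemma zpow_eq_one_of_dvd {G : Type*} [Group G] {p : ℕ} {a : G} (ha : a ^ p = 1) {i : ℤ} (h : (p : ℤ) ∣ i) : a ^ i = 1 := by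
  obtain ⟨t, rfl⟩ := h
  rw [zpow_mul, zpow_natCast, ha, one_zpow]

lemma dvd_of_zpow_eq_one {G : Type*} [Group G] {p : ℕ} [hp : Fact p.Prime] {a : G} (ha : a ^ p = 1) (h1 : a ≠ 1) {i : ℤ}
    (h : a ^ i = 1) : (p : ℤ) ∣ i := by
  have := orderOf_dvd_iff_zpow_eq_one.2 h
  rwa [orderOf_eq_prime ha h1] at this

section Abs

variable {p : ℕ} [hp : Fact p.Prime]

/-- A third basis vector. -/
lemma basis_abs {A : Type*} [CommGroup A] [Finite A] (hel : ∀ a : A, a ^ p = 1) (hcard : Nat.card A = p ^ 3)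
    {τ σ : A → A} (hτm : ∀ x y, τ (x * y) = τ x * τ y) (hσm : ∀ x y, σ (x * y) = σ x * σ y) {s c : A} (hc1 : c ≠ 1)
    (hτs : τ s = c * s) (hτc : τ c = c) (hσs : σ s = s) (hσc : σ c = c * s)
    (hτ : ∀ x, ∃ i : ℤ, τ x = c ^ i * x) (hσ : ∀ x, ∃ i : ℤ, σ x = s ^ i * x) :
    ∃ w : A, τ w = w ∧ σ w = w ∧ w ≠ 1 ∧
      (∀ i j k : ℤ, s ^ i * c ^ j * w ^ k = 1 → (p : ℤ) ∣ i ∧ (p : ℤ) ∣ j ∧ (p : ℤ) ∣ k) ∧
      ∀ x, ∃ i j k : ℤ, x = s ^ i * c ^ j * w ^ k := by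
  classical
  have hpp := hp.out
  have hp0 := hpp.pos
  let T : A →* A := MonoidHom.mk' τ hτm
  let Sg : A →* A := MonoidHom.mk' σ hσm
  have hτz : ∀ x (i : ℤ), τ (x ^ i) = τ x ^ i := fun x i => map_zpow T x i
  have hσz : ∀ x (i : ℤ), σ (x ^ i) = σ x ^ i := fun x i => map_zpow Sg x i
  have hs1 : s ≠ 1 := by
    rintro rfl
    have : τ 1 = 1 := map_one T
    rw [mul_one] at hτs
    exact hc1 (hτs.symm.trans this)
  have ordc : ∀ {j : ℤ}, c ^ j = 1 → (p : ℤ) ∣ j := fun h => dvd_of_zpow_eq_one (hel c) hc1 h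
  have ords : ∀ {j : ℤ}, s ^ j = 1 → (p : ℤ) ∣ j := fun h => dvd_of_zpow_eq_one (hel s) hs1 h
  -- a vector outside
  have hout : ∃ x : A, ∀ a b : ℤ, x ≠ s ^ a * c ^ b := by
    by_contra hc
    push Not at hc
    let f : Fin p × Fin p → A := fun q => s ^ ((q.1 : ℕ) : ℤ) * c ^ ((q.2 : ℕ) : ℤ)
    have hf : Function.Surjective f := by
      intro x
      obtain ⟨a, b, rfl⟩ := hc x
      obtain ⟨m, hm⟩ := red_exp hp0 (hel s) a
      obtain ⟨m', hm'⟩ := red_exp hp0 (hel c) b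
      exact ⟨(m, m'), by simp only [f]; rw [hm, hm']⟩
    have h1 := Nat.card_le_card_of_surjective f hf
    rw [hcard, Nat.card_prod, Nat.card_fin] at h1
    have h2 : p ^ 3 = p * p * p := by ring
    have h3 : p * p < p * p * p := by nlinarith [hpp.two_le, Nat.mul_pos hp0 hp0]
    omega
  obtain ⟨x, hx⟩ := hout
  obtain ⟨i, hi⟩ := hτ x
  let x₁ := x * s ^ (-i)
  have hx₁ : τ x₁ = x₁ := by
    show τ (x * s ^ (-i)) = x * s ^ (-i)
    rw [hτm, hτz, hτs, hi, mul_zpow, mul_mul_mul_comm, ← zpow_add]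
    simp
  obtain ⟨j, hj⟩ := hσ x₁
  let w := x₁ * c ^ (-j)
  have hwτ : τ w = w := by
    show τ (x₁ * c ^ (-j)) = x₁ * c ^ (-j)
    rw [hτm, hτz, hτc, hx₁]
  have hwσ : σ w = w := by
    show σ (x₁ * c ^ (-j)) = x₁ * c ^ (-j)
    rw [hσm, hσz, hσc, hj, mul_zpow]
    calc s ^ j * x₁ * (c ^ (-j) * s ^ (-j)) = (s ^ j * s ^ (-j)) * (x₁ * c ^ (-j)) := by ac_rfl
      _ = _ := by rw [← zpow_add]; simp
  have hwout : ∀ a b : ℤ, w ≠ s ^ a * c ^ b := by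
    intro a b he
    apply hx (a + i) (b + j)
    have e1 : x = w * c ^ j * s ^ i := by
      show x = x * s ^ (-i) * c ^ (-j) * c ^ j * s ^ i
      calc x = x * (s ^ (-i) * s ^ i) * (c ^ (-j) * c ^ j) := by simp
        _ = _ := by ac_rfl
    rw [e1, he, zpow_add, zpow_add]
    ac_rfl
  have hw1 : w ≠ 1 := fun h => hwout 0 0 (by simp [h])
  have ordw : ∀ {j : ℤ}, w ^ j = 1 → (p : ℤ) ∣ j := fun h => dvd_of_zpow_eq_one (hel w) hw1 h
  have hind : ∀ i j k : ℤ, s ^ i * c ^ j * w ^ k = 1 → (p : ℤ) ∣ i ∧ (p : ℤ) ∣ j ∧ (p : ℤ) ∣ k := by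
    intro i j k h
    have h1 : τ (s ^ i * c ^ j * w ^ k) = 1 := by
      rw [h]
      exact map_one T
    rw [hτm, hτm, hτz, hτz, hτz, hτs, hτc, hwτ, mul_zpow] at h1
    have h2 : c ^ i = 1 := by
      calc c ^ i = c ^ i * (s ^ i * c ^ j * w ^ k) * (s ^ i * c ^ j * w ^ k)⁻¹ := by rw [mul_inv_cancel_right]
        _ = c ^ i * s ^ i * c ^ j * w ^ k * (s ^ i * c ^ j * w ^ k)⁻¹ := by simp only [mul_assoc]
        _ = 1 := by rw [h1, h]; simp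
    have hi := ordc h2
    have hsi : s ^ i = 1 := zpow_eq_one_of_dvd (hel s) hi
    rw [hsi, one_mul] at h
    have h3 : σ (c ^ j * w ^ k) = 1 := by
      rw [h]
      exact map_one Sg
    rw [hσm, hσz, hσz, hσc, hwσ, mul_zpow] at h3
    have h4 : s ^ j = 1 := by
      calc s ^ j = s ^ j * (c ^ j * w ^ k) * (c ^ j * w ^ k)⁻¹ := by rw [mul_inv_cancel_right]
        _ = c ^ j * s ^ j * w ^ k * (c ^ j * w ^ k)⁻¹ := by
            congr 1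
            ac_rfl
        _ = 1 := by rw [h3, h]; simp
    have hj := ords h4
    have hcj : c ^ j = 1 := zpow_eq_one_of_dvd (hel c) hj
    rw [hcj, one_mul] at h
    exact ⟨hi, hj, ordw h⟩
  refine ⟨w, hwτ, hwσ, hw1, hind, ?_⟩
  let f : Fin p × Fin p × Fin p → A := fun q => s ^ ((q.1 : ℕ) : ℤ) * c ^ ((q.2.1 : ℕ) : ℤ) * w ^ ((q.2.2 : ℕ) : ℤ)
  have hfi : Function.Injective f := by
    rintro ⟨a, b, d⟩ ⟨a', b', d'⟩ he
    simp only [f] at he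
    have h1 : s ^ (((a : ℕ) : ℤ) - ((a' : ℕ) : ℤ)) * c ^ (((b : ℕ) : ℤ) - ((b' : ℕ) : ℤ)) * w ^ (((d : ℕ) : ℤ) - ((d' : ℕ) : ℤ)) = 1 := by
      rw [zpow_sub, zpow_sub, zpow_sub]
      rw [← mul_inv_eq_one] at he
      rw [← he]
      simp only [mul_inv_rev]
      ac_rfl
    obtain ⟨h2, h3, h4⟩ := hind _ _ _ h1
    have aux : ∀ u v : Fin p, (p : ℤ) ∣ ((u : ℕ) : ℤ) - ((v : ℕ) : ℤ) → u = v := by
      intro u v h
      have h5 : ((u : ℕ) : ℤ) = ((v : ℕ) : ℤ) := by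
        have hu := u.2
        have hv := v.2
        obtain ⟨t, ht⟩ := h
        have : t = 0 := by
          by_contra ht0
          rcases lt_or_gt_of_ne ht0 with h6 | h6
          · have : (p : ℤ) * t ≤ (p : ℤ) * (-1) := mul_le_mul_of_nonneg_left (by omega) (by omega)
            omega
          · have : (p : ℤ) * 1 ≤ (p : ℤ) * t := mul_le_mul_of_nonneg_left (by omega) (by omega)
            omega
        rw [this, mul_zero] at ht
        omega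
      exact Fin.ext (by exact_mod_cast h5)
    rw [aux _ _ h2, aux _ _ h3, aux _ _ h4]
  have hbij : Function.Bijective f := by
    refine hfi.bijective_of_nat_card_le ?_
    rw [hcard, Nat.card_prod, Nat.card_prod, Nat.card_fin]
    exact le_of_eq (by ring)
  intro y
  obtain ⟨⟨a, b, d⟩, he⟩ := hbij.2 y
  exact ⟨_, _, _, he.symm⟩

end Abs

variable {Ω : Type*} [Group Ω] {S : Subgroup Ω} [Finite S] {F : FusionSystem S} {p : ℕ} [hp : Fact p.Prime]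

/-- The frame. -/
structure Frame (F : FusionSystem S) (p : ℕ) (E : Subgroup Ω) (z s c w : Ω) : Prop where
  hS : IsPGroup p S
  hF : F.IsSaturated p
  hE : F.IsEssential p E
  p5 : 5 ≤ p
  card : Nat.card E = p ^ 3
  hab : ∀ a ∈ E, ∀ b ∈ E, a * b = b * a
  el : ∀ a ∈ E, a ^ p = 1
  hz : z ∈ S
  hzE : z ∉ E
  hs : s ∈ E
  hc : c ∈ E
  hw : w ∈ E
  c1 : c ≠ 1
  zs : z * s * z⁻¹ = c * s
  zc : z * c * z⁻¹ = c
  zw : z * w * z⁻¹ = w
  ind : ∀ i j k : ℤ, s ^ i * c ^ j * w ^ k = 1 → (p : ℤ) ∣ i ∧ (p : ℤ) ∣ j ∧ (p : ℤ) ∣ k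
  gen : ∀ x ∈ E, ∃ i j k : ℤ, x = s ^ i * c ^ j * w ^ k
  N : ∀ y ∈ S, (∀ x ∈ E, y * x * y⁻¹ ∈ E) → ∃ i : ℤ, z ^ (-i) * y ∈ E
  σ : ∃ f, Maps F E f ∧ f s = s ∧ f c = c * s ∧ f w = w

lemma afn_conjN_zpow {E : Subgroup Ω} (zq : normalizerIn S E) (i : ℤ) {x : Ω} (hx : x ∈ E) :
    afn ((conjN S E zq) ^ i) x = (zq : Ω) ^ i * x * ((zq : Ω) ^ i)⁻¹ := by
  rw [← map_zpow, afn_conjN _ hx]
  simp

/-- Producing a frame. -/
theorem frame_of {E : Subgroup Ω} (hS : IsPGroup p S) (hF : F.IsSaturated p) (hE : F.IsEssential p E) (p5 : 5 ≤ p)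
    (hcard : Nat.card E = p ^ 3) (hab : ∀ a ∈ E, ∀ b ∈ E, a * b = b * a) (el : ∀ a ∈ E, a ^ p = 1) {z : Ω} (hz : z ∈ S)
    (hzE : z ∉ E) (hzn : ∀ x ∈ E, z * x * z⁻¹ ∈ E) {c₀ : Ω} (hc₀ : c₀ ∈ E) (hc₀1 : c₀ ≠ 1)
    (hcz : ∀ x ∈ E, z * x * z⁻¹ * x⁻¹ ∈ Subgroup.zpowers c₀) (hzc : z * c₀ * z⁻¹ = c₀)
    (hfix : ∀ y ∈ S, (∀ x ∈ E, y * x * y⁻¹ ∈ E) → y * c₀ * y⁻¹ = c₀) :
    ∃ s c w : Ω, Frame F p E z s c w ∧ c ∈ Subgroup.zpowers c₀ := by
  classical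
  have hpp := hp.out
  have hES : E ≤ S := hE.1.1
  haveI hfinE : Finite E := finite_of_le hES
  haveI := finite_mulAut hES
  have hcent : ∀ y ∈ S, (∀ x ∈ E, x * y = y * x) → y ∈ E := fun y hy h =>
    IsCentric_self hE.1 (mem_centralizerIn.2 ⟨hy, h⟩)
  let zq : normalizerIn S E := ⟨z, hz, mem_normalizer_of_conj_mem hzn⟩
  let τ' : MulAut E := conjN S E zq
  have hτ'v : ∀ x : E, ((τ' x : E) : Ω) = z * x * z⁻¹ := fun x => rfl
  have hτ'R : τ' ∈ autInducedBy S E := by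
    rw [← conjN_range]
    exact ⟨zq, rfl⟩
  have hRA : autInducedBy S E ≤ F.autGroup E := autInducedBy_le_autGroup hES
  let τ : F.autGroup E := ⟨τ', hRA hτ'R⟩
  let C₀ : E := ⟨c₀, hc₀⟩
  let Z : Subgroup E := Subgroup.zpowers C₀
  have hC₀p : C₀ ^ p = 1 := Subtype.ext (el _ hc₀)
  have hC₀1 : C₀ ≠ 1 := fun h => hc₀1 (congrArg Subtype.val h)
  have hZ : Nat.card Z = p := by
    rw [Nat.card_zpowers, orderOf_eq_prime hC₀p hC₀1]
  have hmemZ : ∀ {y : E}, (y : Ω) ∈ Subgroup.zpowers c₀ → y ∈ Z := by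
    rintro y ⟨i, hi⟩
    refine ⟨i, Subtype.ext ?_⟩
    simpa using hi
  have hτfix : ∀ y ∈ Z, τ' y = y := by
    rintro _ ⟨i, rfl⟩
    simp only
    rw [map_zpow]
    congr 1
    exact Subtype.ext hzc
  have hTv : Tv τ' Z := by
    refine ⟨fun e => hmemZ ?_, hτfix⟩
    have := hcz e e.2
    simpa [hτ'v] using this
  have hτ1 : τ' ≠ 1 := by
    intro h
    apply hzE
    refine hcent z hz (fun x hx => ?_)
    have := hτ'v ⟨x, hx⟩
    rw [h] at this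
    have e : x = z * x * z⁻¹ := this
    calc x * z = (z * x * z⁻¹) * z := by rw [← e]
      _ = z * x := by group
  have hτ1' : τ ≠ 1 := fun h => hτ1 (congrArg Subtype.val h)
  have hτp : τ ^ (p ^ 1) = 1 := by
    apply Subtype.ext
    show τ' ^ (p ^ 1) = 1
    rw [pow_one]
    exact hTv.pow_card hZ
  obtain ⟨g, ⟨v, hv, hvm⟩, ⟨z₁, hz₁, hz₁m⟩⟩ := ess_generic hE hab hτp hZ hTv hτ1'
  -- the second transvection
  let σ₀ : MulAut E := (g : MulAut E) * τ' * (g : MulAut E)⁻¹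
  have hσ₀ : Tv σ₀ (Z.map (g : MulAut E).toMonoidHom) := hTv.conj g
  have hσ₀A : σ₀ ∈ F.autGroup E := by
    have := (g * τ * g⁻¹ : F.autGroup E).2
    simpa [σ₀] using this
  have hZ' : Nat.card (Z.map (g : MulAut E).toMonoidHom) = p := by
    rw [Subgroup.card_map_of_injective (by exact (g : MulAut E).injective), hZ]
  have hv1 : v ≠ 1 := by
    rintro rfl
    exact hvm (map_one _)
  have hZ'v : Subgroup.zpowers v = Z.map (g : MulAut E).toMonoidHom := zpowers_of_card hZ' hv hv1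
  -- names
  let V : E := v
  let b : E := τ' v * v⁻¹
  have hbZ : b ∈ Z := hTv.1 v
  have hb1 : b ≠ 1 := fun h => hvm (mul_inv_eq_one.1 h)
  have hZb : Subgroup.zpowers b = Z := zpowers_of_card hZ hbZ hb1
  have hτv : τ' v = b * v := by simp [b]
  have hτb : τ' b = b := hτfix b hbZ
  -- σ moves b
  have hσb : σ₀ b ≠ b := by
    intro he
    apply hz₁m
    show σ₀ z₁ = z₁
    rw [← hZb] at hz₁
    obtain ⟨i, rfl⟩ := hz₁
    simp only
    rw [map_zpow, he]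
  obtain ⟨bb, hbb⟩ : ∃ i : ℤ, σ₀ b * b⁻¹ = v ^ i := by
    have : σ₀ b * b⁻¹ ∈ Subgroup.zpowers v := hZ'v ▸ hσ₀.1 b
    obtain ⟨i, hi⟩ := this
    exact ⟨i, hi.symm⟩
  have hvp : v ^ p = 1 := Subtype.ext (el _ v.2)
  have hbbp : ¬ (p : ℤ) ∣ bb := by
    intro h
    apply hσb
    have := zpow_eq_one_of_dvd hvp h
    rw [this] at hbb
    exact mul_inv_eq_one.1 hbb
  have hcop : IsCoprime bb (p : ℤ) := (Int.isCoprime_iff_gcd_eq_one.2 (by
    have := (Int.isCoprime_iff_gcd_eq_one.1 ((Nat.prime_iff_prime_int.1 hpp).coprime_iff_not_dvd.2 hbbp)); rwa [Int.gcd_comm] at this))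
  obtain ⟨u₁, u₂, hu⟩ := hcop
  -- the power of σ
  have hvfix : σ₀ v = v := hσ₀.2 v hv
  have hcommE : ∀ a b : E, a * b = b * a := fun a b => Subtype.ext (hab _ a.2 _ b.2)
  obtain ⟨k, hk⟩ : ∃ k : ℕ, (p : ℤ) ∣ bb * k - 1 := by
    have hp0 : (0 : ℤ) < p := by exact_mod_cast hpp.pos
    have h1 : (0 : ℤ) ≤ u₁ % (p : ℤ) := Int.emod_nonneg _ hp0.ne'
    refine ⟨(u₁ % (p : ℤ)).toNat, ?_⟩
    rw [Int.toNat_of_nonneg h1]
    have e := Int.mul_ediv_add_emod u₁ p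
    refine ⟨-u₂ - bb * (u₁ / p), ?_⟩
    have : u₁ % (p : ℤ) = u₁ - p * (u₁ / p) := by omega
    rw [this]
    linear_combination hu
  let σ₁ : MulAut E := σ₀ ^ k
  have hσ₁A : σ₁ ∈ F.autGroup E := Subgroup.pow_mem _ hσ₀A _
  have hσ₁v : σ₁ v = v := by
    show (σ₀ ^ k) v = v
    rw [hσ₀.pow_apply, hvfix]
    simp
  have hσ₁b : σ₁ b = b * v := by
    show (σ₀ ^ k) b = b * v
    rw [hσ₀.pow_apply, hbb, ← zpow_natCast, ← zpow_mul]
    have e : v ^ (bb * (k : ℤ)) = v := by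
      have h1 := zpow_eq_one_of_dvd hvp hk
      rw [zpow_sub, zpow_one, mul_inv_eq_one] at h1
      exact h1
    rw [e, hcommE]
  have hσ₁x : ∀ x : E, ∃ i : ℤ, σ₁ x = v ^ i * x := by
    intro x
    have : σ₀ x * x⁻¹ ∈ Subgroup.zpowers v := hZ'v ▸ hσ₀.1 x
    obtain ⟨i, hi⟩ := this
    refine ⟨i * k, ?_⟩
    show (σ₀ ^ k) x = _
    rw [hσ₀.pow_apply, ← hi, ← zpow_natCast, ← zpow_mul]
  have hτ'x : ∀ x : E, ∃ i : ℤ, τ' x = b ^ i * x := by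
    intro x
    have : τ' x * x⁻¹ ∈ Subgroup.zpowers b := hZb ▸ hTv.1 x
    obtain ⟨i, hi⟩ := this
    have hi' : b ^ i = τ' x * x⁻¹ := hi
    exact ⟨i, by rw [hi']; simp⟩
  letI iE : CommGroup E := { (inferInstance : Group E) with mul_comm := hcommE }
  obtain ⟨W, hWτ, hWσ, hW1, hind, hgen⟩ := basis_abs (p := p) (A := E) (fun a => Subtype.ext (el _ a.2)) hcard
    (τ := τ') (σ := σ₁) (fun x y => map_mul τ' x y) (fun x y => map_mul σ₁ x y) hb1 hτv hτb hσ₁v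
    (hσ₁b) hτ'x hσ₁x
  have hind' : ∀ i j k : ℤ, (v : Ω) ^ i * (b : Ω) ^ j * (W : Ω) ^ k = 1 → (p : ℤ) ∣ i ∧ (p : ℤ) ∣ j ∧ (p : ℤ) ∣ k := by
    intro i j k h
    exact hind i j k (Subtype.ext h)
  have hgen' : ∀ x ∈ E, ∃ i j k : ℤ, x = (v : Ω) ^ i * (b : Ω) ^ j * (W : Ω) ^ k := by
    intro x hx
    obtain ⟨i, j, k, he⟩ := hgen ⟨x, hx⟩
    exact ⟨i, j, k, congrArg Subtype.val he⟩
  refine ⟨v, b, W, ?_, ?_⟩
  · refine ⟨hS, hF, hE, p5, hcard, hab, el, hz, hzE, v.2, b.2, W.2, fun h => hb1 (Subtype.ext h),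
      congrArg Subtype.val hτv, congrArg Subtype.val hτb, congrArg Subtype.val hWτ, hind', hgen', ?_, ?_⟩
    · intro y hy hyn
      let yq : normalizerIn S E := ⟨y, hy, mem_normalizer_of_conj_mem hyn⟩
      let t : MulAut E := conjN S E yq
      have htR : t ∈ autInducedBy S E := by
        rw [← conjN_range]
        exact ⟨yq, rfl⟩
      have ht : ∀ z' ∈ Z, t z' = z' := by
        rintro _ ⟨i, rfl⟩
        simp only
        rw [map_zpow]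
        congr 1
        exact Subtype.ext (hfix y hy hyn)
      obtain ⟨i, hi⟩ := ess_tv_main hE hab hRA (isPGroup_autInducedBy hS) hZ hτ'R hTv hτ1 htR ht
      refine ⟨i, hcent _ (S.mul_mem (S.zpow_mem hz _) hy) (fun x hx => ?_)⟩
      have e1 := afn_conjN_zpow zq i hx
      have e2 : afn t x = y * x * y⁻¹ := afn_conjN yq hx
      have hi' : (conjN S E zq) ^ i = t := hi
      rw [hi', e2] at e1
      have e3 : z ^ i * x * (z ^ i)⁻¹ = y * x * y⁻¹ := e1.symm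
      calc x * (z ^ (-i) * y) = z ^ (-i) * (z ^ i * x * (z ^ i)⁻¹) * y := by rw [zpow_neg]; group
        _ = z ^ (-i) * y * x := by rw [e3]; group
    · have hm : Maps F E (afn σ₁) := (mem_autGroup_iff hES).1 hσ₁A
      refine ⟨afn σ₁, hm, ?_, ?_, ?_⟩
      · rw [afn_coe, hσ₁v]
      · rw [afn_coe, hσ₁b]
        rfl
      · rw [afn_coe, hWσ]
  · obtain ⟨i, hi⟩ := hbZ
    refine ⟨i, ?_⟩
    have := congrArg Subtype.val hi
    simpa using this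


lemma zpow_congr' {G : Type*} [Group G] {p : ℕ} {a : G} (ha : a ^ p = 1) {i j : ℤ} (h : (p : ℤ) ∣ i - j) : a ^ i = a ^ j := by
  have := zpow_eq_one_of_dvd ha h
  rwa [zpow_sub, mul_inv_eq_one] at this

/-- Words in the torus. -/
def Wd (F : FusionSystem S) (E : Subgroup Ω) (s c w : Ω) (a₁ a₂ b₁ b₂ : ℤ) : Prop :=
  ∃ f, Maps F E f ∧ f s = s ^ a₁ * c ^ a₂ ∧ f c = s ^ b₁ * c ^ b₂ ∧ f w = w

/-- The centralizer of `z` in `E`. -/
def AA (E : Subgroup Ω) (z : Ω) : Subgroup Ω := E ⊓ Subgroup.centralizer {z}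

lemma mem_AA {E : Subgroup Ω} {z a : Ω} : a ∈ AA E z ↔ a ∈ E ∧ a * z = z * a := by
  rw [AA, Subgroup.mem_inf, Subgroup.mem_centralizer_singleton_iff]

/-- Coordinates on the normalizer. -/
def Rep {p : ℕ} (E : Subgroup Ω) (z s : Ω) (u v : ZMod p) (x : Ω) : Prop :=
  ∃ i j : ℤ, (i : ZMod p) = u ∧ (j : ZMod p) = v ∧ ∃ a ∈ AA E z, x = s ^ i * z ^ j * a

namespace Frame

variable {E : Subgroup Ω} {z s c w : Ω} (fr : Frame F p E z s c w)
include fr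

lemma hES : E ≤ S := fr.hE.1.1

lemma cent {y : Ω} (hy : y ∈ S) (h : ∀ x ∈ E, x * y = y * x) : y ∈ E :=
  IsCentric_self fr.hE.1 (mem_centralizerIn.2 ⟨hy, h⟩)

lemma com {a b : Ω} (ha : a ∈ E) (hb : b ∈ E) : Commute a b := fr.hab a ha b hb

lemma finE : Finite E := finite_of_le fr.hES

lemma zc' : z * c = c * z := by
  have := fr.zc
  rwa [mul_inv_eq_iff_eq_mul] at this

lemma zw' : z * w = w * z := by
  have := fr.zw
  rwa [mul_inv_eq_iff_eq_mul] at this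

lemma zz_s (i : ℤ) : z ^ i * s * (z ^ i)⁻¹ = c ^ i * s := conjz fr.zs fr.zc' i

lemma csc : Commute c s := fr.com fr.hc fr.hs

lemma zs_pow (i j : ℤ) : z ^ j * s ^ i * (z ^ j)⁻¹ = c ^ (j * i) * s ^ i := by
  rw [← _root_.conj_zpow, fr.zz_s, (fr.csc.zpow_left j).mul_zpow, zpow_mul]

lemma zcomm_c (i j : ℤ) : z ^ i * c ^ j = c ^ j * z ^ i :=
  ((show Commute z c from fr.zc').zpow_zpow i j).eq

lemma zcomm_w (i j : ℤ) : z ^ i * w ^ j = w ^ j * z ^ i :=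
  ((show Commute z w from fr.zw').zpow_zpow i j).eq

lemma ord_c {j : ℤ} (h : c ^ j = 1) : (p : ℤ) ∣ j := (fr.ind 0 j 0 (by simpa using h)).2.1

lemma ord_s {j : ℤ} (h : s ^ j = 1) : (p : ℤ) ∣ j := (fr.ind j 0 0 (by simpa using h)).1

lemma ord_w {j : ℤ} (h : w ^ j = 1) : (p : ℤ) ∣ j := (fr.ind 0 0 j (by simpa using h)).2.2

lemma mem_el (i j k : ℤ) : s ^ i * c ^ j * w ^ k ∈ E :=
  E.mul_mem (E.mul_mem (E.zpow_mem fr.hs _) (E.zpow_mem fr.hc _)) (E.zpow_mem fr.hw _)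

lemma map_el {f : Ω → Ω} (hf : Maps F E f) (i j k : ℤ) : f (s ^ i * c ^ j * w ^ k) = f s ^ i * f c ^ j * f w ^ k := by
  rw [hf.map_mul (E.mul_mem (E.zpow_mem fr.hs _) (E.zpow_mem fr.hc _)) (E.zpow_mem fr.hw _),
    hf.map_mul (E.zpow_mem fr.hs _) (E.zpow_mem fr.hc _), hf.map_zpow fr.hs, hf.map_zpow fr.hc, hf.map_zpow fr.hw]

lemma mapE {f : Ω → Ω} (hf : Maps F E f) (h1 : f s ∈ E) (h2 : f c ∈ E) (h3 : f w ∈ E) : ∀ x ∈ E, f x ∈ E := by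
  intro x hx
  obtain ⟨i, j, k, rfl⟩ := fr.gen x hx
  rw [fr.map_el hf]
  exact E.mul_mem (E.mul_mem (E.zpow_mem h1 _) (E.zpow_mem h2 _)) (E.zpow_mem h3 _)

lemma ext_gen {f g : Ω → Ω} (hf : Maps F E f) (hg : Maps F E g) (h1 : f s = g s) (h2 : f c = g c) (h3 : f w = g w) :
    ∀ x ∈ E, f x = g x := by
  intro x hx
  obtain ⟨i, j, k, rfl⟩ := fr.gen x hx
  rw [fr.map_el hf, fr.map_el hg, h1, h2, h3]

lemma z_conj_E {x : Ω} (hx : x ∈ E) : z * x * z⁻¹ ∈ E := by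
  refine fr.mapE (f := fun x => z * x * z⁻¹) (Maps.conj fr.hES fr.hz) ?_ ?_ ?_ x hx
  · show z * s * z⁻¹ ∈ E
    rw [fr.zs]
    exact E.mul_mem fr.hc fr.hs
  · show z * c * z⁻¹ ∈ E
    rw [fr.zc]
    exact fr.hc
  · show z * w * z⁻¹ ∈ E
    rw [fr.zw]
    exact fr.hw

lemma z_mem_Q : z ∈ normalizerIn S E :=
  mem_normalizerIn.2 ⟨fr.hz, by
    haveI := fr.finE
    exact mem_normalizer_of_conj_mem (fun x hx => fr.z_conj_E hx)⟩

lemma E_le_Q : E ≤ normalizerIn S E := le_normalizerIn fr.hES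

lemma Q_le : normalizerIn S E ≤ S := inf_le_left

lemma Wd_comp {a₁ a₂ b₁ b₂ a₁' a₂' b₁' b₂' : ℤ} (h : Wd F E s c w a₁ a₂ b₁ b₂) (h' : Wd F E s c w a₁' a₂' b₁' b₂') :
    Wd F E s c w (a₁ * a₁' + a₂ * b₁') (a₁ * a₂' + a₂ * b₂') (b₁ * a₁' + b₂ * b₁') (b₁ * a₂' + b₂ * b₂') := by
  obtain ⟨f, hf, h1, h2, h3⟩ := h
  obtain ⟨g, hg, h1', h2', h3'⟩ := h'
  have hfE : ∀ x ∈ E, f x ∈ E := fr.mapE hf (by rw [h1]; exact E.mul_mem (E.zpow_mem fr.hs _) (E.zpow_mem fr.hc _))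
    (by rw [h2]; exact E.mul_mem (E.zpow_mem fr.hs _) (E.zpow_mem fr.hc _)) (by rw [h3]; exact fr.hw)
  have aux : ∀ x y : ℤ, g (s ^ x * c ^ y) = (s ^ a₁' * c ^ a₂') ^ x * (s ^ b₁' * c ^ b₂') ^ y := by
    intro x y
    rw [hg.map_mul (E.zpow_mem fr.hs _) (E.zpow_mem fr.hc _), hg.map_zpow fr.hs, hg.map_zpow fr.hc, h1', h2']
  refine ⟨g ∘ f, hf.comp hg hfE, ?_, ?_, ?_⟩
  · show g (f s) = _
    rw [h1, aux, cz fr.csc.symm]
    congr 2 <;> ring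
  · show g (f c) = _
    rw [h2, aux, cz fr.csc.symm]
    congr 2 <;> ring
  · show g (f w) = _
    rw [h3, h3']

lemma Wd_congr {a₁ a₂ b₁ b₂ a₁' a₂' b₁' b₂' : ℤ} (h : Wd F E s c w a₁ a₂ b₁ b₂) (e1 : (p : ℤ) ∣ a₁ - a₁') (e2 : (p : ℤ) ∣ a₂ - a₂')
    (e3 : (p : ℤ) ∣ b₁ - b₁') (e4 : (p : ℤ) ∣ b₂ - b₂') : Wd F E s c w a₁' a₂' b₁' b₂' := by
  obtain ⟨f, hf, h1, h2, h3⟩ := h
  refine ⟨f, hf, ?_, ?_, h3⟩
  · rw [h1, zpow_congr' (fr.el s fr.hs) e1, zpow_congr' (fr.el c fr.hc) e2]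
  · rw [h2, zpow_congr' (fr.el s fr.hs) e3, zpow_congr' (fr.el c fr.hc) e4]

lemma Wd_τ : Wd F E s c w 1 1 0 1 := by
  refine ⟨fun x => z * x * z⁻¹, Maps.conj fr.hES fr.hz, ?_, ?_, fr.zw⟩
  · show z * s * z⁻¹ = _
    rw [fr.zs]
    simp [(fr.csc).eq]
  · show z * c * z⁻¹ = _
    rw [fr.zc]
    simp

lemma Wd_τi : Wd F E s c w 1 (-1) 0 1 := by
  refine ⟨fun x => z⁻¹ * x * z⁻¹⁻¹, Maps.conj fr.hES (S.inv_mem fr.hz), ?_, ?_, ?_⟩
  · have := fr.zz_s (-1)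
    simp only [zpow_neg, zpow_one] at this
    show z⁻¹ * s * z⁻¹⁻¹ = _
    rw [this]
    simp [(fr.csc.inv_left).eq]
  · have e := fr.zcomm_c (-1) 1
    simp only [zpow_neg, zpow_one] at e
    show z⁻¹ * c * z⁻¹⁻¹ = _
    rw [e]
    simp
  · have e := fr.zcomm_w (-1) 1
    simp only [zpow_neg, zpow_one] at e
    show z⁻¹ * w * z⁻¹⁻¹ = _
    rw [e]
    simp

lemma Wd_σ : Wd F E s c w 1 0 1 1 := by
  obtain ⟨f, hf, h1, h2, h3⟩ := fr.σ
  refine ⟨f, hf, ?_, ?_, h3⟩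
  · rw [h1]
    simp
  · rw [h2]
    simp [(fr.csc).eq]

lemma Wd_σ_pow (k : ℕ) : Wd F E s c w 1 0 (k : ℤ) 1 := by
  induction k with
  | zero =>
    refine ⟨_root_.id, Maps.id fr.hES, by simp, by simp, rfl⟩
  | succ k ih =>
    have := fr.Wd_comp ih fr.Wd_σ
    convert this using 1 <;> push_cast <;> ring

/-- The involution of the torus. -/
lemma exists_t : ∃ f, Maps F E f ∧ f s = s⁻¹ ∧ f c = c⁻¹ ∧ f w = w := by
  have h1 := fr.Wd_comp (fr.Wd_comp fr.Wd_τi fr.Wd_σ) fr.Wd_τi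
  have h2 := fr.Wd_comp h1 h1
  obtain ⟨f, hf, e1, e2, e3⟩ := h2
  refine ⟨f, hf, ?_, ?_, e3⟩
  · rw [e1]
    norm_num
  · rw [e2]
    norm_num

/-- The element of the torus with eigenvalue `2` on `c`. -/
lemma exists_h {k : ℕ} (hk : p = 2 * k + 1) : ∃ f, Maps F E f ∧ f s = s ^ ((k : ℤ) + 1) ∧ f c = c ^ (2 : ℤ) ∧ f w = w := by
  have hk' : (p : ℤ) = 2 * k + 1 := by exact_mod_cast hk
  have n := fr.Wd_comp (fr.Wd_comp fr.Wd_τi fr.Wd_σ) fr.Wd_τi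
  have t2 := fr.Wd_comp fr.Wd_τ fr.Wd_τ
  have n2 := fr.Wd_comp (fr.Wd_comp t2 (fr.Wd_σ_pow k)) t2
  have h1 := fr.Wd_comp n n2
  have h2 : Wd F E s c w ((k : ℤ) + 1) 0 0 2 := by
    refine fr.Wd_congr h1 ?_ ?_ ?_ ?_
    · exact ⟨-1, by rw [hk']; ring⟩
    · exact ⟨-1, by rw [hk']; ring⟩
    · exact ⟨1, by rw [hk']; ring⟩
    · exact ⟨2, by rw [hk']; ring⟩
  obtain ⟨f, hf, e1, e2, e3⟩ := h2
  refine ⟨f, hf, ?_, ?_, e3⟩
  · rw [e1]
    simp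
  · rw [e2]
    simp

/-- Extending to the normalizer. -/
theorem ext_Q {f : Ω → Ω} (hf : Maps F E f) {ℓ : ℤ} (hs : f (c * s) = z ^ ℓ * f s * (z ^ ℓ)⁻¹)
    (hc : f c = z ^ ℓ * f c * (z ^ ℓ)⁻¹) (hw : f w = z ^ ℓ * f w * (z ^ ℓ)⁻¹) (h1 : f s ∈ E) (h2 : f c ∈ E) (h3 : f w ∈ E) :
    ∃ g, Maps F (normalizerIn S E) g ∧ (∀ x ∈ E, g x = f x) ∧ ∀ x ∈ normalizerIn S E, g x ∈ normalizerIn S E := by
  have hfE := fr.mapE hf h1 h2 h3
  have hES := fr.hES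
  haveI := fr.finE
  have himg : img f E = E := img_eq_of_card hf hES hES hfE le_rfl
  have hrec : F.IsReceptive E :=
    receptive_of_fullyCentralized fr.hS fr.hF (of_fullyNormalized fr.hS fr.hF fr.hE.2.1).1
  obtain ⟨g, hg, hgf⟩ := IsReceptive.ext hrec hf himg
  have hzE : ∀ {x : Ω}, x ∈ E → z * x * z⁻¹ ∈ E := fun hx => fr.z_conj_E hx
  have hzN : z ∈ Nf S E f := by
    refine mem_Nf.2 ⟨fr.hz, fr.z_mem_Q.2, z ^ ℓ, S.zpow_mem fr.hz _, fun x hx => ?_⟩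
    have hA : Maps F E (f ∘ fun x => z * x * z⁻¹) := (Maps.conj hES fr.hz).comp hf (fun x hx => hzE hx)
    have hB : Maps F E ((fun x => z ^ ℓ * x * (z ^ ℓ)⁻¹) ∘ f) := hf.comp (Maps.conj hES (S.zpow_mem fr.hz _)) hfE
    refine fr.ext_gen hA hB ?_ ?_ ?_ x hx
    · show f (z * s * z⁻¹) = z ^ ℓ * f s * (z ^ ℓ)⁻¹
      rw [fr.zs, hs]
    · show f (z * c * z⁻¹) = z ^ ℓ * f c * (z ^ ℓ)⁻¹
      rw [fr.zc, ← hc]
    · show f (z * w * z⁻¹) = z ^ ℓ * f w * (z ^ ℓ)⁻¹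
      rw [fr.zw, ← hw]
  have hQN : normalizerIn S E ≤ Nf S E f := by
    intro y hy
    obtain ⟨hy1, hy2⟩ := mem_normalizerIn.1 hy
    obtain ⟨i, hi⟩ := fr.N y hy1 (fun x hx => (Subgroup.mem_normalizer_iff.1 hy2 x).1 hx)
    have e : y = z ^ i * (z ^ (-i) * y) := by rw [zpow_neg]; group
    rw [e]
    exact Subgroup.mul_mem _ (Subgroup.zpow_mem _ hzN _) (le_Nf hf hi)
  refine ⟨g, hg.restrict hQN, fun x hx => hgf x hx, fun y hy => ?_⟩
  have hgQ : Maps F (normalizerIn S E) g := hg.restrict hQN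
  obtain ⟨hy1, hy2⟩ := mem_normalizerIn.1 hy
  refine mem_normalizerIn.2 ⟨hgQ.mem hy, mem_normalizer_of_conj_mem (fun x hx => ?_)⟩
  rw [← himg] at hx
  obtain ⟨x₀, hx₀, rfl⟩ := hf.mem_img.1 hx
  have e1 : y * x₀ * y⁻¹ ∈ E := (Subgroup.mem_normalizer_iff.1 hy2 x₀).1 hx₀
  rw [← hgf x₀ hx₀, ← hgQ.map_conj hy (fr.E_le_Q hx₀), hgf _ e1]
  exact hfE _ e1

/-! ### `U` -/

theorem U {f : Ω → Ω} (hf : Maps F E f) (h1 : f c = c) (h2 : ∃ k : ℤ, f w = w * c ^ k) (h3 : ∃ i j : ℤ, f s = s * c ^ i * w ^ j) :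
    ∃ i : ℤ, ∀ x ∈ E, f x = z ^ i * x * (z ^ i)⁻¹ := by
  classical
  have hpp := hp.out
  obtain ⟨k, hk⟩ := h2
  obtain ⟨i₀, j₀, hsf⟩ := h3
  have hES := fr.hES
  haveI := fr.finE
  haveI := finite_mulAut hES
  have hfE : ∀ x ∈ E, f x ∈ E := fr.mapE hf (by rw [hsf]; exact E.mul_mem (E.mul_mem fr.hs (E.zpow_mem fr.hc _)) (E.zpow_mem fr.hw _))
    (by rw [h1]; exact fr.hc) (by rw [hk]; exact E.mul_mem fr.hw (E.zpow_mem fr.hc _))
  have himg : img f E = E := img_eq_of_card hf hES hES hfE le_rfl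
  let ft : MulAut E := hf.toAut himg
  have hft : ∀ x ∈ E, afn ft x = f x := fun x hx => hf.afn_toAut himg hx
  have hftA : ft ∈ F.autGroup E := hf.toAut_mem himg
  let zq : normalizerIn S E := ⟨z, fr.z_mem_Q⟩
  let τ' : MulAut E := conjN S E zq
  have hτ'v : ∀ x ∈ E, afn τ' x = z * x * z⁻¹ := fun x hx => afn_conjN zq hx
  have hτ'R : τ' ∈ autInducedBy S E := by
    rw [← conjN_range]
    exact ⟨zq, rfl⟩
  have hRA : autInducedBy S E ≤ F.autGroup E := autInducedBy_le_autGroup hES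
  let C : E := ⟨c, fr.hc⟩
  let Z : Subgroup E := Subgroup.zpowers C
  have hCp : C ^ p = 1 := Subtype.ext (fr.el _ fr.hc)
  have hC1 : C ≠ 1 := fun h => fr.c1 (congrArg Subtype.val h)
  have hZ : Nat.card Z = p := by
    rw [Nat.card_zpowers, orderOf_eq_prime hCp hC1]
  have hτfix : ∀ y ∈ Z, τ' y = y := by
    rintro _ ⟨i, rfl⟩
    simp only
    rw [map_zpow]
    congr 1
    exact Subtype.ext fr.zc
  have hexp : ∀ x ∈ E, ∃ i : ℤ, z * x * z⁻¹ * x⁻¹ = c ^ i := by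
    intro x hx
    obtain ⟨a, b, d, rfl⟩ := fr.gen x hx
    refine ⟨a, ?_⟩
    have e := fr.zs_pow a 1
    rw [zpow_one, one_mul] at e
    have e2 := fr.zcomm_c 1 b
    have e3 := fr.zcomm_w 1 d
    rw [zpow_one] at e2 e3
    have : z * (s ^ a * c ^ b * w ^ d) * z⁻¹ = (z * s ^ a * z⁻¹) * c ^ b * w ^ d := by
      calc z * (s ^ a * c ^ b * w ^ d) * z⁻¹ = z * s ^ a * (z⁻¹ * (z * c ^ b)) * (z⁻¹ * (z * w ^ d)) * z⁻¹ := by group
        _ = _ := by rw [e2, e3]; group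
    rw [this, e]
    simp [mul_assoc]
  have hTv : Tv τ' Z := by
    refine ⟨fun e => ?_, hτfix⟩
    obtain ⟨i, hi⟩ := hexp e e.2
    refine ⟨i, Subtype.ext ?_⟩
    show c ^ i = z * (e : Ω) * z⁻¹ * (e : Ω)⁻¹
    exact hi.symm
  have hτ1 : τ' ≠ 1 := by
    intro h
    have e := hτ'v s fr.hs
    rw [h, afn_one fr.hs, fr.zs] at e
    apply fr.c1
    exact (mul_eq_right.1 e.symm)
  have hτp : τ' ^ p = 1 := hTv.pow_card hZ
  -- `τ'` powers
  have hτz : ∀ (i : ℤ), ∀ x ∈ E, afn (τ' ^ i) x = z ^ i * x * (z ^ i)⁻¹ := fun i x hx => afn_conjN_zpow zq i hx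
  -- commuting
  have hfτ : ft * τ' = τ' * ft := by
    apply afn_ext
    intro x hx
    rw [afn_mul _ _ hx, afn_mul _ _ hx, hτ'v x hx, hft _ (fr.z_conj_E hx), hft x hx, hτ'v _ (hfE x hx)]
    have hA : Maps F E (f ∘ fun x => z * x * z⁻¹) := (Maps.conj hES fr.hz).comp hf (fun x hx => fr.z_conj_E hx)
    have hB : Maps F E ((fun x => z * x * z⁻¹) ∘ f) := hf.comp (Maps.conj hES fr.hz) hfE
    refine fr.ext_gen hA hB ?_ ?_ ?_ x hx
    · show f (z * s * z⁻¹) = z * f s * z⁻¹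
      rw [fr.zs, hf.map_mul fr.hc fr.hs, h1, hsf]
      have e2 := fr.zcomm_c 1 i₀
      have e3 := fr.zcomm_w 1 j₀
      rw [zpow_one] at e2 e3
      calc c * (s * c ^ i₀ * w ^ j₀) = (z * s * z⁻¹) * c ^ i₀ * w ^ j₀ := by rw [fr.zs]; group
        _ = z * s * (z⁻¹ * (c ^ i₀ * z)) * (z⁻¹ * (w ^ j₀ * z)) * z⁻¹ := by group
        _ = _ := by rw [← e2, ← e3]; group
    · show f (z * c * z⁻¹) = z * f c * z⁻¹
      rw [fr.zc, h1, fr.zc]
    · show f (z * w * z⁻¹) = z * f w * z⁻¹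
      rw [fr.zw, hk]
      have e2 := fr.zcomm_c 1 k
      rw [zpow_one] at e2
      calc w * c ^ k = (z * w * z⁻¹) * c ^ k := by rw [fr.zw]
        _ = z * w * (z⁻¹ * (c ^ k * z)) * z⁻¹ := by group
        _ = _ := by rw [← e2]; group
  -- the powers of `f`
  have hpows : ∀ n : ℕ, afn (ft ^ n) c = c ∧ afn (ft ^ n) w = w * c ^ ((n : ℤ) * k) ∧
      ∃ a : ℤ, afn (ft ^ n) s = s * c ^ a * w ^ ((n : ℤ) * j₀) := by
    intro n
    induction n with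
    | zero =>
      refine ⟨by rw [pow_zero, afn_one fr.hc], by rw [pow_zero, afn_one fr.hw]; simp, 0, by rw [pow_zero, afn_one fr.hs]; simp⟩
    | succ n ih =>
      obtain ⟨i1, i2, a, i3⟩ := ih
      rw [pow_succ']
      refine ⟨?_, ?_, ?_⟩
      · rw [afn_mul _ _ fr.hc, i1, hft _ fr.hc, h1]
      · rw [afn_mul _ _ fr.hw, i2, hft _ (E.mul_mem fr.hw (E.zpow_mem fr.hc _)), hf.map_mul fr.hw (E.zpow_mem fr.hc _),
          hf.map_zpow fr.hc, h1, hk, mul_assoc, ← zpow_add]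
        congr 2
        push_cast
        ring
      · refine ⟨i₀ + a + k * ((n : ℤ) * j₀) * 1, ?_⟩
        rw [afn_mul _ _ fr.hs, i3, hft _ (E.mul_mem (E.mul_mem fr.hs (E.zpow_mem fr.hc _)) (E.zpow_mem fr.hw _)),
          hf.map_mul (E.mul_mem fr.hs (E.zpow_mem fr.hc _)) (E.zpow_mem fr.hw _), hf.map_mul fr.hs (E.zpow_mem fr.hc _),
          hf.map_zpow fr.hc, hf.map_zpow fr.hw, h1, hsf, hk]
        have cw : Commute c w := fr.com fr.hc fr.hw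
        have cs : Commute c s := fr.csc
        rw [(cw.symm.zpow_right k).mul_zpow, ← zpow_mul]
        have aux : ∀ A B C' D G' : ℤ, s * c ^ A * w ^ B * c ^ C' * (w ^ D * c ^ G') = s * c ^ (A + C' + G') * w ^ (B + D) := by
          intro A B C' D G'
          have e1 : w ^ B * c ^ C' = c ^ C' * w ^ B := (cw.zpow_zpow C' B).eq.symm
          have e2 : w ^ B * w ^ D * c ^ G' = c ^ G' * (w ^ B * w ^ D) :=
            (((cw.zpow_zpow G' B).symm).mul_left (cw.zpow_zpow G' D).symm).eq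
          rw [zpow_add, zpow_add, zpow_add]
          calc s * c ^ A * w ^ B * c ^ C' * (w ^ D * c ^ G') = s * c ^ A * (w ^ B * c ^ C') * (w ^ D * c ^ G') := by group
            _ = s * c ^ A * c ^ C' * (w ^ B * w ^ D * c ^ G') := by rw [e1]; group
            _ = _ := by rw [e2]; group
        rw [aux]
        congr 2 <;> (push_cast; ring)
  -- `f^p` is a power of `τ'`
  obtain ⟨-, hpw, a, hps⟩ := hpows p
  have hfp : ft ^ p = τ' ^ a := by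
    apply afn_ext
    intro x hx
    have hA : Maps F E (afn (ft ^ p)) := (mem_autGroup_iff hES).1 (Subgroup.pow_mem _ hftA _)
    have hB : Maps F E (afn (τ' ^ a)) := (mem_autGroup_iff hES).1 (Subgroup.zpow_mem _ (hRA hτ'R) _)
    refine fr.ext_gen hA hB ?_ ?_ ?_ x hx
    · rw [hps, hτz a s fr.hs, fr.zz_s, zpow_eq_one_of_dvd (fr.el w fr.hw) (Dvd.intro _ rfl), mul_one, fr.csc.symm.zpow_right a |>.eq]
    · rw [(hpows p).1, hτz a c fr.hc]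
      have e2 := fr.zcomm_c a 1
      rw [zpow_one] at e2
      rw [e2]
      simp
    · rw [hpw, zpow_eq_one_of_dvd (fr.el c fr.hc) (Dvd.intro _ rfl), mul_one, hτz a w fr.hw]
      have e2 := fr.zcomm_w a 1
      rw [zpow_one] at e2
      rw [e2]
      simp
  have hfp2 : ft ^ (p ^ 2) = 1 := by
    rw [pow_two, pow_mul, hfp, ← zpow_natCast, ← zpow_mul, mul_comm, zpow_mul, zpow_natCast, hτp, one_zpow]
  have hτp' : τ' ^ (p ^ 1) = 1 := by rw [pow_one]; exact hτp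
  have hR1 : IsPGroup p (Subgroup.zpowers ft) := Cfsg.Agent.Lib.FusionExtraIdx.isPGroup_zpowers_of_pow hfp2
  have hR2 : IsPGroup p (Subgroup.zpowers τ') := Cfsg.Agent.Lib.FusionExtraIdx.isPGroup_zpowers_of_pow hτp'
  have hle : Subgroup.zpowers ft ≤ Subgroup.normalizer ((Subgroup.zpowers τ' : Subgroup (MulAut E)) : Set (MulAut E)) := by
    rw [Subgroup.zpowers_le]
    refine mem_normalizer_of_conj_eq (fun x hx => ?_)
    obtain ⟨i, rfl⟩ := hx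
    have : ft * τ' ^ i = τ' ^ i * ft := (Commute.zpow_right (show Commute ft τ' from hfτ) i).eq
    simp only
    rw [this]
    group
  have hRp : IsPGroup p (Subgroup.zpowers τ' ⊔ Subgroup.zpowers ft : Subgroup (MulAut E)) :=
    IsPGroup.to_sup_of_normal_left' hR2 hR1 hle
  have hRA' : (Subgroup.zpowers τ' ⊔ Subgroup.zpowers ft : Subgroup (MulAut E)) ≤ F.autGroup E :=
    sup_le ((Subgroup.zpowers_le).2 (hRA hτ'R)) ((Subgroup.zpowers_le).2 hftA)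
  have hftC : ft C = C := by
    apply Subtype.ext
    rw [← afn_coe, hft _ fr.hc, h1]
  have ht : ∀ y ∈ Z, ft y = y := by
    rintro _ ⟨i, rfl⟩
    simp only
    rw [map_zpow, hftC]
  obtain ⟨i, hi⟩ := ess_tv_main fr.hE fr.hab hRA' hRp hZ
    ((le_sup_left : Subgroup.zpowers τ' ≤ _) (Subgroup.mem_zpowers τ')) hTv hτ1
    ((le_sup_right : Subgroup.zpowers ft ≤ _) (Subgroup.mem_zpowers ft)) ht
  refine ⟨i, fun x hx => ?_⟩
  have hi' : τ' ^ i = ft := hi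
  rw [← hft x hx, ← hi']
  exact hτz i x hx

/-! ### Coordinates on the normalizer -/

lemma z_E_comm {j : ℤ} (h : (p : ℤ) ∣ j) {x : Ω} (hx : x ∈ E) : x * z ^ j = z ^ j * x := by
  obtain ⟨a, b, d, rfl⟩ := fr.gen x hx
  have e1 := fr.zs_pow a j
  have e2 : c ^ (j * a) = 1 := zpow_eq_one_of_dvd (fr.el c fr.hc) (Dvd.dvd.mul_right h a)
  rw [e2, one_mul, mul_inv_eq_iff_eq_mul] at e1
  have e3 := fr.zcomm_c j b
  have e4 := fr.zcomm_w j d
  calc s ^ a * c ^ b * w ^ d * z ^ j = s ^ a * c ^ b * (w ^ d * z ^ j) := by group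
    _ = s ^ a * (c ^ b * z ^ j) * w ^ d := by rw [← e4]; group
    _ = (s ^ a * z ^ j) * c ^ b * w ^ d := by rw [← e3]; group
    _ = _ := by rw [← e1]; group

lemma z_mem_AA {j : ℤ} (h : (p : ℤ) ∣ j) : z ^ j ∈ AA E z :=
  mem_AA.2 ⟨fr.cent (S.zpow_mem fr.hz j) (fun x hx => fr.z_E_comm h hx), ((Commute.refl z).zpow_left j).eq⟩

lemma c_AA : c ∈ AA E z := mem_AA.2 ⟨fr.hc, fr.zc'.symm⟩

lemma w_AA : w ∈ AA E z := mem_AA.2 ⟨fr.hw, fr.zw'.symm⟩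

lemma AA_gen {a : Ω} (ha : a ∈ AA E z) : ∃ j k : ℤ, a = c ^ j * w ^ k := by
  obtain ⟨h1, h2⟩ := mem_AA.1 ha
  obtain ⟨i, j, k, rfl⟩ := fr.gen a h1
  refine ⟨j, k, ?_⟩
  have e1 := fr.zs_pow i 1
  rw [zpow_one, one_mul] at e1
  have e2 := fr.zcomm_c 1 j
  have e3 := fr.zcomm_w 1 k
  rw [zpow_one] at e2 e3
  have e4 : c ^ i = 1 := by
    have e5 : z * (s ^ i * c ^ j * w ^ k) * z⁻¹ = s ^ i * c ^ j * w ^ k := by
      rw [← h2]
      group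
    have e6 : z * (s ^ i * c ^ j * w ^ k) * z⁻¹ = c ^ i * (s ^ i * c ^ j * w ^ k) := by
      calc z * (s ^ i * c ^ j * w ^ k) * z⁻¹ = z * s ^ i * (z⁻¹ * (z * c ^ j)) * (z⁻¹ * (z * w ^ k)) * z⁻¹ := by group
        _ = (z * s ^ i * z⁻¹) * c ^ j * w ^ k := by rw [e2, e3]; group
        _ = _ := by rw [e1]; group
    rw [e6] at e5
    exact mul_eq_right.1 e5
  have hi := fr.ord_c e4
  rw [zpow_eq_one_of_dvd (fr.el s fr.hs) hi, one_mul]

lemma el_AA (j k : ℤ) : c ^ j * w ^ k ∈ AA E z :=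
  (AA E z).mul_mem ((AA E z).zpow_mem fr.c_AA _) ((AA E z).zpow_mem fr.w_AA _)

lemma AA_z {a : Ω} (ha : a ∈ AA E z) (j : ℤ) : z ^ j * a = a * z ^ j :=
  ((show Commute z a from (mem_AA.1 ha).2.symm).zpow_left j).eq

lemma AA_s {a : Ω} (ha : a ∈ AA E z) (i : ℤ) : s ^ i * a = a * s ^ i :=
  (Commute.zpow_left (fr.com fr.hs (mem_AA.1 ha).1) i).eq

lemma Rep_one : Rep (p := p) E z s 0 0 1 :=
  ⟨0, 0, by simp, by simp, 1, (AA E z).one_mem, by simp⟩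

lemma Rep_s : Rep (p := p) E z s 1 0 s :=
  ⟨1, 0, by simp, by simp, 1, (AA E z).one_mem, by simp⟩

lemma Rep_z : Rep (p := p) E z s 0 1 z :=
  ⟨0, 1, by simp, by simp, 1, (AA E z).one_mem, by simp⟩

lemma Rep_AA {a : Ω} (ha : a ∈ AA E z) : Rep (p := p) E z s 0 0 a :=
  ⟨0, 0, by simp, by simp, a, ha, by simp⟩

lemma Rep_mul {u v u' v' : ZMod p} {x y : Ω} (hx : Rep E z s u v x) (hy : Rep E z s u' v' y) :
    Rep E z s (u + u') (v + v') (x * y) := by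
  obtain ⟨i, j, rfl, rfl, a, ha, rfl⟩ := hx
  obtain ⟨i', j', rfl, rfl, a', ha', rfl⟩ := hy
  refine ⟨i + i', j + j', by push_cast; rfl, by push_cast; rfl, c ^ (j * i') * (a * a'),
    (AA E z).mul_mem ((AA E z).zpow_mem fr.c_AA _) ((AA E z).mul_mem ha ha'), ?_⟩
  have e1 := fr.AA_s ha i'
  have e2 := fr.AA_z ha j'
  have e3 : z ^ j * s ^ i' = c ^ (j * i') * s ^ i' * z ^ j := by
    rw [← fr.zs_pow]
    group
  have e4 : s ^ i * c ^ (j * i') = c ^ (j * i') * s ^ i := ((fr.csc.symm.zpow_zpow i (j * i'))).eq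
  have e5 := fr.zcomm_c (j + j') (j * i')
  calc s ^ i * z ^ j * a * (s ^ i' * z ^ j' * a') = s ^ i * z ^ j * (a * s ^ i') * z ^ j' * a' := by group
    _ = s ^ i * (z ^ j * s ^ i') * (a * z ^ j') * a' := by rw [← e1]; group
    _ = s ^ i * (c ^ (j * i') * s ^ i' * z ^ j) * (z ^ j' * a) * a' := by rw [e3, ← e2]
    _ = (s ^ i * c ^ (j * i')) * s ^ i' * (z ^ j * z ^ j') * a * a' := by group
    _ = c ^ (j * i') * (s ^ i * s ^ i') * (z ^ (j + j')) * a * a' := by rw [e4, zpow_add z]; group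
    _ = (s ^ i * s ^ i') * (c ^ (j * i') * z ^ (j + j')) * a * a' := by
        rw [← zpow_add, (fr.csc.zpow_zpow (j * i') (i + i')).eq]; group
    _ = (s ^ i * s ^ i') * (z ^ (j + j') * c ^ (j * i')) * a * a' := by rw [e5]
    _ = _ := by rw [zpow_add s]; group

lemma Rep_inv {u v : ZMod p} {x : Ω} (hx : Rep E z s u v x) : Rep E z s (-u) (-v) x⁻¹ := by
  obtain ⟨i, j, rfl, rfl, a, ha, rfl⟩ := hx
  refine ⟨-i, -j, by push_cast; rfl, by push_cast; rfl, a⁻¹ * c ^ (j * i),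
    (AA E z).mul_mem ((AA E z).inv_mem ha) ((AA E z).zpow_mem fr.c_AA _), ?_⟩
  have e3 : z ^ (-j) * s ^ (-i) = c ^ (j * i) * s ^ (-i) * z ^ (-j) := by
    have := fr.zs_pow (-i) (-j)
    rw [neg_mul_neg] at this
    rw [← this]
    group
  have e1 := fr.AA_s ((AA E z).inv_mem ha) (-i)
  have e2 := fr.AA_z ((AA E z).inv_mem ha) (-j)
  have e5 := fr.zcomm_c (-j) (j * i)
  have e6 : s ^ (-i) * c ^ (j * i) = c ^ (j * i) * s ^ (-i) := ((fr.csc.symm.zpow_zpow (-i) (j * i))).eq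
  calc (s ^ i * z ^ j * a)⁻¹ = a⁻¹ * (z ^ (-j) * s ^ (-i)) := by simp [zpow_neg, mul_assoc]
    _ = a⁻¹ * (c ^ (j * i) * s ^ (-i) * z ^ (-j)) := by rw [e3]
    _ = a⁻¹ * (s ^ (-i) * (c ^ (j * i) * z ^ (-j))) := by rw [← e6]; group
    _ = (a⁻¹ * s ^ (-i)) * (z ^ (-j) * c ^ (j * i)) := by rw [e5]; group
    _ = (s ^ (-i) * a⁻¹) * (z ^ (-j) * c ^ (j * i)) := by rw [e1]
    _ = s ^ (-i) * (a⁻¹ * z ^ (-j)) * c ^ (j * i) := by group
    _ = s ^ (-i) * (z ^ (-j) * a⁻¹) * c ^ (j * i) := by rw [e2]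
    _ = _ := by group

lemma Rep_zpow {u v : ZMod p} {x : Ω} (hx : Rep E z s u v x) (n : ℤ) : Rep E z s ((n : ZMod p) * u) ((n : ZMod p) * v) (x ^ n) := by
  induction n using Int.induction_on with
  | zero => simpa using fr.Rep_one
  | succ n ih =>
    have := fr.Rep_mul ih hx
    rw [zpow_add_one]
    convert this using 1 <;> (push_cast; ring)
  | pred n ih =>
    have := fr.Rep_mul ih (fr.Rep_inv hx)
    rw [zpow_sub_one]
    convert this using 1 <;> (push_cast; ring)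

lemma Rep_uniq {u v u' v' : ZMod p} {x : Ω} (hx : Rep E z s u v x) (hx' : Rep E z s u' v' x) : u = u' ∧ v = v' := by
  obtain ⟨i, j, rfl, rfl, a, ha, rfl⟩ := hx
  obtain ⟨i', j', rfl, rfl, a', ha', he⟩ := hx'
  have h1 : z ^ (j - j') = s ^ (i' - i) * (a' * a⁻¹) := by
    have e1 : z ^ j * a = s ^ (i' - i) * z ^ j' * a' := by
      rw [zpow_sub]
      have : z ^ j * a = (s ^ i)⁻¹ * (s ^ i * z ^ j * a) := by group
      rw [this, he]
      have e7 : (s ^ i)⁻¹ * s ^ i' = s ^ i' * (s ^ i)⁻¹ := by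
        exact ((Commute.refl s).zpow_zpow i' i).inv_right.eq.symm
      calc (s ^ i)⁻¹ * (s ^ i' * z ^ j' * a') = (s ^ i)⁻¹ * s ^ i' * z ^ j' * a' := by group
        _ = _ := by rw [e7]
    have e2 : z ^ j' * (a' * a⁻¹) = (a' * a⁻¹) * z ^ j' := fr.AA_z ((AA E z).mul_mem ha' ((AA E z).inv_mem ha)) j'
    have e3 : z ^ j * a * a⁻¹ * (z ^ j')⁻¹ = s ^ (i' - i) * (z ^ j' * (a' * a⁻¹)) * (z ^ j')⁻¹ := by
      rw [e1]; group
    rw [e2] at e3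
    rw [zpow_sub]
    calc z ^ j * (z ^ j')⁻¹ = z ^ j * a * a⁻¹ * (z ^ j')⁻¹ := by group
      _ = _ := by rw [e3]; group
  have hm : z ^ (j - j') ∈ E := by
    rw [h1]
    exact E.mul_mem (E.zpow_mem fr.hs _) (E.mul_mem (mem_AA.1 ha').1 (E.inv_mem (mem_AA.1 ha).1))
  have h2 : (p : ℤ) ∣ j - j' := by
    apply fr.ord_c
    have e := fr.zz_s (j - j')
    rw [(fr.com hm fr.hs).eq] at e
    have : s * z ^ (j - j') * (z ^ (j - j'))⁻¹ = s := by group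
    rw [this] at e
    exact (mul_eq_right.1 e.symm)
  have h3 : s ^ (i' - i) ∈ AA E z := by
    have e1 : s ^ (i' - i) = z ^ (j - j') * (a' * a⁻¹)⁻¹ := by rw [h1]; group
    rw [e1]
    exact (AA E z).mul_mem (fr.z_mem_AA h2) ((AA E z).inv_mem ((AA E z).mul_mem ha' ((AA E z).inv_mem ha)))
  have h4 : (p : ℤ) ∣ i' - i := by
    apply fr.ord_c
    have e := fr.zs_pow (i' - i) 1
    rw [zpow_one, one_mul] at e
    have e2 := (mem_AA.1 h3).2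
    rw [← e2] at e
    have : s ^ (i' - i) * z * z⁻¹ = s ^ (i' - i) := by group
    rw [this] at e
    exact (mul_eq_right.1 e.symm)
  constructor
  · have := (ZMod.intCast_zmod_eq_zero_iff_dvd _ p).2 h4
    push_cast at this
    exact (sub_eq_zero.1 this).symm
  · have := (ZMod.intCast_zmod_eq_zero_iff_dvd _ p).2 h2
    push_cast at this
    exact sub_eq_zero.1 this

lemma Rep_exists {x : Ω} (hx : x ∈ normalizerIn S E) : ∃ u v : ZMod p, Rep E z s u v x := by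
  obtain ⟨h1, h2⟩ := mem_normalizerIn.1 hx
  obtain ⟨ℓ, hℓ⟩ := fr.N x h1 (fun y hy => (Subgroup.mem_normalizer_iff.1 h2 y).1 hy)
  obtain ⟨i, j, k, he⟩ := fr.gen _ hℓ
  refine ⟨_, _, i, ℓ, rfl, rfl, c ^ (ℓ * i) * (c ^ j * w ^ k), (AA E z).mul_mem ((AA E z).zpow_mem fr.c_AA _) (fr.el_AA j k), ?_⟩
  have e1 : x = z ^ ℓ * (s ^ i * c ^ j * w ^ k) := by
    rw [← he, zpow_neg]
    group
  have e3 : z ^ ℓ * s ^ i = c ^ (ℓ * i) * s ^ i * z ^ ℓ := by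
    rw [← fr.zs_pow]
    group
  have e4 : c ^ (ℓ * i) * s ^ i = s ^ i * c ^ (ℓ * i) := (fr.csc.zpow_zpow (ℓ * i) i).eq
  have e5 := fr.zcomm_c ℓ (ℓ * i)
  rw [e1]
  calc z ^ ℓ * (s ^ i * c ^ j * w ^ k) = (z ^ ℓ * s ^ i) * (c ^ j * w ^ k) := by group
    _ = s ^ i * (c ^ (ℓ * i) * z ^ ℓ) * (c ^ j * w ^ k) := by rw [e3, e4]; group
    _ = _ := by rw [← e5]; group

lemma Rep_of_E {x : Ω} (hx : x ∈ E) : ∃ u : ZMod p, Rep E z s u 0 x := by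
  obtain ⟨i, j, k, rfl⟩ := fr.gen x hx
  exact ⟨_, i, 0, rfl, by simp, c ^ j * w ^ k, fr.el_AA j k, by simp [mul_assoc]⟩

lemma E_of_Rep {x : Ω} {u : ZMod p} (hx : Rep E z s u 0 x) : x ∈ E := by
  obtain ⟨i, j, -, hj, a, ha, rfl⟩ := hx
  have h2 : (p : ℤ) ∣ j := (ZMod.intCast_zmod_eq_zero_iff_dvd _ p).1 hj
  exact E.mul_mem (E.mul_mem (E.zpow_mem fr.hs _) (mem_AA.1 (fr.z_mem_AA h2)).1) (mem_AA.1 ha).1

lemma AA_of_Rep {x : Ω} (hx : Rep (p := p) E z s 0 0 x) : x ∈ AA E z := by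
  obtain ⟨i, j, hi, hj, a, ha, rfl⟩ := hx
  have h1 : (p : ℤ) ∣ i := (ZMod.intCast_zmod_eq_zero_iff_dvd _ p).1 hi
  have h2 : (p : ℤ) ∣ j := (ZMod.intCast_zmod_eq_zero_iff_dvd _ p).1 hj
  rw [zpow_eq_one_of_dvd (fr.el s fr.hs) h1, one_mul]
  exact (AA E z).mul_mem (fr.z_mem_AA h2) ha

lemma Q_of_Rep {x : Ω} {u v : ZMod p} (hx : Rep E z s u v x) : x ∈ normalizerIn S E := by
  obtain ⟨i, j, -, -, a, ha, rfl⟩ := hx
  exact Subgroup.mul_mem _ (Subgroup.mul_mem _ (Subgroup.zpow_mem _ (fr.E_le_Q fr.hs) _) (Subgroup.zpow_mem _ fr.z_mem_Q _))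
    (fr.E_le_Q (mem_AA.1 ha).1)

lemma Rep_one_zero {x : Ω} (hx : Rep (p := p) E z s 1 0 x) : ∃ i j : ℤ, x = s * c ^ i * w ^ j := by
  obtain ⟨i, j, hi, hj, a, ha, rfl⟩ := hx
  have h1 : (p : ℤ) ∣ i - 1 := by
    apply (ZMod.intCast_zmod_eq_zero_iff_dvd _ p).1
    push_cast
    rw [hi]
    ring
  have h2 : (p : ℤ) ∣ j := (ZMod.intCast_zmod_eq_zero_iff_dvd _ p).1 hj
  obtain ⟨b, d, he⟩ := fr.AA_gen ((AA E z).mul_mem (fr.z_mem_AA h2) ha)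
  refine ⟨b, d, ?_⟩
  have := zpow_congr' (fr.el s fr.hs) h1
  rw [zpow_one] at this
  rw [this, mul_assoc s (c ^ b), ← he]
  group

lemma Rep_zero {x : Ω} {j : ZMod p} (hx : Rep E z s 0 j x) : ∃ j' : ℤ, (j' : ZMod p) = j ∧ ∃ a ∈ AA E z, x = z ^ j' * a := by
  obtain ⟨i, j', hi, hj, a, ha, rfl⟩ := hx
  have h1 : (p : ℤ) ∣ i := (ZMod.intCast_zmod_eq_zero_iff_dvd _ p).1 hi
  exact ⟨j', hj, a, ha, by rw [zpow_eq_one_of_dvd (fr.el s fr.hs) h1, one_mul]⟩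

/-- Functions preserving the coordinates. -/
lemma Rep_map {f : Ω → Ω} (hf : Maps F (normalizerIn S E) f) {α₁ α₂ β₁ β₂ : ZMod p} (h1 : Rep E z s α₁ α₂ (f s))
    (h2 : Rep E z s β₁ β₂ (f z)) (h3 : ∀ a ∈ AA E z, Rep (p := p) E z s 0 0 (f a)) {u v : ZMod p} {x : Ω} (hx : Rep E z s u v x) :
    Rep E z s (u * α₁ + v * β₁) (u * α₂ + v * β₂) (f x) := by
  obtain ⟨i, j, rfl, rfl, a, ha, rfl⟩ := hx
  have hsQ := fr.E_le_Q fr.hs
  have hzQ := fr.z_mem_Q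
  have haQ := fr.E_le_Q (mem_AA.1 ha).1
  have hsi := Subgroup.zpow_mem _ hsQ i
  have hzj := Subgroup.zpow_mem _ hzQ j
  rw [hf.map_mul (Subgroup.mul_mem _ hsi hzj) haQ, hf.map_mul hsi hzj, hf.map_zpow hsQ, hf.map_zpow hzQ]
  have := fr.Rep_mul (fr.Rep_mul (fr.Rep_zpow h1 i) (fr.Rep_zpow h2 j)) (h3 a ha)
  simpa using this

/-- Data of a conjugating element. -/
structure VD (S E : Subgroup Ω) (z s : Ω) (p : ℕ) (L : Subgroup Ω) (v : Ω) : Prop where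
  hLS : L ≤ S
  hLn : ∀ g ∈ S, ∀ x ∈ L, g * x * g⁻¹ ∈ L
  hLc : Nat.card L = p ^ 3
  hL : ∀ x ∈ L, ∃ j : ZMod p, Rep E z s 0 j x
  hv : v ∈ S
  hvQ : v ∉ normalizerIn S E
  hv1 : ∀ x ∈ normalizerIn S E, v * x * v⁻¹ ∈ normalizerIn S E
  hvs : ∃ ρ : ZMod p, Rep E z s 1 ρ (v * s * v⁻¹)
  hvz : Rep (p := p) E z s 0 1 (v * z * v⁻¹)
  hva : ∀ a ∈ AA E z, v * a * v⁻¹ ∈ AA E z

variable {L : Subgroup Ω} {v : Ω}

lemma vR (vd : VD S E z s p L v) {ρ : ZMod p} (hρ : Rep E z s 1 ρ (v * s * v⁻¹)) {u x' : ZMod p} {y : Ω} (hy : Rep E z s u x' y) :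
    Rep E z s u (x' + ρ * u) (v * y * v⁻¹) := by
  have h := fr.Rep_map (f := fun x => v * x * v⁻¹) (Maps.conj fr.Q_le vd.hv) hρ vd.hvz (fun a ha => fr.Rep_AA (vd.hva a ha)) hy
  convert h using 1 <;> ring

lemma vP (vd : VD S E z s p L v) {ρ : ZMod p} (hρ : Rep E z s 1 ρ (v * s * v⁻¹)) (m : ℕ) {u x' : ZMod p} {y : Ω} (hy : Rep E z s u x' y) :
    Rep E z s u (x' + m * ρ * u) (v ^ m * y * (v ^ m)⁻¹) := by
  induction m with
  | zero => simpa using hy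
  | succ m ih =>
    have := fr.vR vd hρ ih
    have e : v ^ (m + 1) * y * (v ^ (m + 1))⁻¹ = v * (v ^ m * y * (v ^ m)⁻¹) * v⁻¹ := by
      rw [pow_succ']
      group
    rw [e]
    convert this using 1
    push_cast
    ring

/-- Invariance of `L`. -/
theorem L_inv (vd : VD S E z s p L v) {f : Ω → Ω} (hf : Maps F (normalizerIn S E) f)
    (hfQ : ∀ x ∈ normalizerIn S E, f x ∈ normalizerIn S E) (hfs : f s ∈ E) (hfA : ∀ a ∈ AA E z, f a ∈ AA E z) :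
    ∃ j : ZMod p, Rep E z s 0 j (f z) := by
  classical
  have hpp := hp.out
  haveI : NeZero p := ⟨hpp.ne_zero⟩
  obtain ⟨i₀, j₀, h₀⟩ := fr.Rep_exists (hfQ z fr.z_mem_Q)
  by_cases hi : i₀ = 0
  · exact ⟨j₀, hi ▸ h₀⟩
  exfalso
  obtain ⟨ρ, hρ⟩ := vd.hvs
  have hρ0 : ρ ≠ 0 := by
    rintro rfl
    apply vd.hvQ
    haveI := fr.finE
    refine mem_normalizerIn.2 ⟨vd.hv, mem_normalizer_of_conj_mem (fun x hx => ?_)⟩
    obtain ⟨u, hu⟩ := fr.Rep_of_E hx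
    have := fr.vR vd hρ hu
    simp only [zero_mul, add_zero] at this
    exact fr.E_of_Rep this
  let m : ℕ := (-j₀ / (ρ * i₀)).val
  have hm : (m : ZMod p) = -j₀ / (ρ * i₀) := ZMod.natCast_zmod_val _
  have hLQ : L ≤ normalizerIn S E := by
    intro x hx
    obtain ⟨j, hj⟩ := vd.hL x hx
    exact fr.Q_of_Rep hj
  let f' : Ω → Ω := (fun x => v ^ m * x * (v ^ m)⁻¹) ∘ f
  have hf' : Maps F L f' := (hf.restrict hLQ).comp (Maps.conj fr.Q_le (S.pow_mem vd.hv m)) (fun x hx => hfQ x (hLQ hx))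
  have hfLE : ∀ x ∈ L, f' x ∈ E := by
    intro x hx
    obtain ⟨j, hj⟩ := vd.hL x hx
    obtain ⟨α, hα⟩ := fr.Rep_of_E hfs
    have h1 := fr.Rep_map hf hα h₀ (fun a ha => fr.Rep_AA (hfA a ha)) hj
    have h2 := fr.vP vd hρ m h1
    have e : 0 * (0 : ZMod p) + j * j₀ + (m : ZMod p) * ρ * (0 * α + j * i₀) = 0 := by
      rw [hm]
      have h3 : ρ * i₀ ≠ 0 := mul_ne_zero hρ0 hi
      field_simp
      ring
    rw [e] at h2
    exact fr.E_of_Rep h2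
  haveI := finite_of_le vd.hLS
  haveI := fr.finE
  have himg : img f' L = E := img_eq_of_card hf' vd.hLS fr.hES hfLE (by rw [fr.card, vd.hLc])
  have hconj : F.IsConj E L := IsConj_symm (isConj_iff.2 ⟨f', hf', himg⟩)
  have h1 := fr.hE.2.1.2 L hconj
  have h2 : S ≤ normalizerIn S L := fun g hg =>
    mem_normalizerIn.2 ⟨hg, mem_normalizer_of_conj_mem (fun x hx => vd.hLn g hg x hx)⟩
  have h3 : Nat.card S ≤ Nat.card (normalizerIn S L) := by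
    haveI : Finite (normalizerIn S L) := finite_of_le inf_le_left
    exact Subgroup.card_le_of_le h2
  have h4 : normalizerIn S E = S := Subgroup.eq_of_le_of_card_ge fr.Q_le (h3.trans h1)
  apply vd.hvQ
  rw [h4]
  exact vd.hv

/-- Tool B. -/
theorem toolB (vd : VD S E z s p L v) {k : ℕ} (hk : p = 2 * k + 1) (hvc : v * c * v⁻¹ = c) {r : ℤ} (hvw : v * w * v⁻¹ = w * c ^ r)
    (hr : ¬ (p : ℤ) ∣ r) : False := by
  classical
  have hpp := hp.out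
  have hk' : (p : ℤ) = 2 * k + 1 := by exact_mod_cast hk
  have hpZ : ((2 : ZMod p) * ((k : ZMod p) + 1)) = 1 := by
    have h1 : (((2 * k + 1 : ℕ)) : ZMod p) = 0 := by
      have h0 : ((p : ℕ) : ZMod p) = 0 := ZMod.natCast_self p
      have e : ((2 * k + 1 : ℕ)) = p := hk.symm
      rw [e]
      exact h0
    push_cast at h1
    linear_combination h1
  have hcp := fr.el c fr.hc
  have hsp := fr.el s fr.hs
  have hwp := fr.el w fr.hw
  obtain ⟨f₀, hf₀, e1, e2, e3⟩ := fr.exists_h hk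
  have hs' : f₀ s ∈ E := by rw [e1]; exact E.zpow_mem fr.hs _
  have hc' : f₀ c ∈ E := by rw [e2]; exact E.zpow_mem fr.hc _
  have hw' : f₀ w ∈ E := by rw [e3]; exact fr.hw
  obtain ⟨h, hh, hhE, hhQ⟩ := fr.ext_Q hf₀ (ℓ := 4)
    (by
      rw [hf₀.map_mul fr.hc fr.hs, e2, e1, fr.zs_pow]
      congr 1
      refine zpow_congr' hcp ⟨-2, ?_⟩
      rw [hk']
      ring)
    (by
      rw [e2, fr.zcomm_c]
      simp)
    (by
      rw [e3]
      have := fr.zcomm_w 4 1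
      rw [zpow_one] at this
      rw [this]
      simp)
    hs' hc' hw'
  have hs₁ : h s = s ^ ((k : ℤ) + 1) := by rw [hhE s fr.hs, e1]
  have hc₁ : h c = c ^ (2 : ℤ) := by rw [hhE c fr.hc, e2]
  have hw₁ : h w = w := by rw [hhE w fr.hw, e3]
  have hsQ := fr.E_le_Q fr.hs
  have hcQ := fr.E_le_Q fr.hc
  have hwQ := fr.E_le_Q fr.hw
  have hzQ := fr.z_mem_Q
  have hA : ∀ a ∈ AA E z, h a ∈ AA E z := by
    intro a ha
    obtain ⟨j, d, rfl⟩ := fr.AA_gen ha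
    rw [hh.map_mul (Subgroup.zpow_mem _ hcQ _) (Subgroup.zpow_mem _ hwQ _), hh.map_zpow hcQ, hh.map_zpow hwQ, hc₁, hw₁]
    exact (AA E z).mul_mem ((AA E z).zpow_mem ((AA E z).zpow_mem fr.c_AA _) _) ((AA E z).zpow_mem fr.w_AA _)
  have hs₂ : h (s ^ (2 : ℤ)) = s := by
    rw [hh.map_zpow hsQ, hs₁, ← zpow_mul]
    have := zpow_congr' hsp (i := ((k : ℤ) + 1) * 2) (j := 1) ⟨1, by rw [hk']; ring⟩
    rw [this, zpow_one]
  obtain ⟨lam, hlam⟩ := fr.L_inv vd hh hhQ (by rw [hs₁]; exact E.zpow_mem fr.hs _) hA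
  -- `h z` has coordinate `4`
  have hz₄ : Rep (p := p) E z s 0 4 (h z) := by
    obtain ⟨j', hj', a, ha, hze⟩ := fr.Rep_zero hlam
    have h1 : h (z * s ^ (2 : ℤ) * z⁻¹) = h z * s * (h z)⁻¹ := by
      rw [hh.map_conj hzQ (Subgroup.zpow_mem _ hsQ _), hs₂]
    have h2 : z * s ^ (2 : ℤ) * z⁻¹ = c ^ (2 : ℤ) * s ^ (2 : ℤ) := by
      have := fr.zs_pow 2 1
      simpa using this
    rw [h2, hh.map_mul (Subgroup.zpow_mem _ hcQ _) (Subgroup.zpow_mem _ hsQ _), hs₂, hh.map_zpow hcQ, hc₁, ← zpow_mul] at h1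
    have h3 : h z * s * (h z)⁻¹ = c ^ j' * s := by
      rw [hze]
      have e5 : a * s = s * a := (fr.com (mem_AA.1 ha).1 fr.hs).eq
      calc z ^ j' * a * s * (z ^ j' * a)⁻¹ = z ^ j' * (a * s) * a⁻¹ * (z ^ j')⁻¹ := by group
        _ = z ^ j' * s * (z ^ j')⁻¹ := by rw [e5]; group
        _ = _ := fr.zz_s j'
    rw [h3] at h1
    have h4 : c ^ ((2 : ℤ) * 2) = c ^ j' := mul_right_cancel h1
    have h5 : (p : ℤ) ∣ j' - 4 := by
      apply fr.ord_c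
      rw [zpow_sub, ← h4]
      simp
    have h6 : (j' : ZMod p) = 4 := by
      have := (ZMod.intCast_zmod_eq_zero_iff_dvd _ p).2 h5
      push_cast at this
      exact sub_eq_zero.1 this
    exact ⟨0, j', by simp, h6, a, ha, by simpa using hze⟩
  have hRs : Rep (p := p) E z s (((k : ℤ) + 1 : ℤ) : ZMod p) 0 (h s) := by
    rw [hs₁]
    have := fr.Rep_zpow fr.Rep_s ((k : ℤ) + 1)
    simpa using this
  have hR : ∀ {u x' : ZMod p} {y : Ω}, Rep E z s u x' y → Rep E z s (u * (((k : ℤ) + 1 : ℤ) : ZMod p)) (x' * 4) (h y) := by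
    intro u x' y hy
    have := fr.Rep_map hh hRs hz₄ (fun a ha => fr.Rep_AA (hA a ha)) hy
    convert this using 1 <;> ring
  -- the inverse
  obtain ⟨g, hg, hg1, hg2⟩ := hh.inv
  have himg : img h (normalizerIn S E) = normalizerIn S E := img_eq_of_card hh fr.Q_le fr.Q_le hhQ le_rfl
  rw [himg] at hg hg2
  have gc : g c = c ^ ((k : ℤ) + 1) := by
    have : h (c ^ ((k : ℤ) + 1)) = c := by
      rw [hh.map_zpow hcQ, hc₁, ← zpow_mul]
      have := zpow_congr' hcp (i := (2 : ℤ) * ((k : ℤ) + 1)) (j := 1) ⟨1, by rw [hk']; ring⟩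
      rw [this, zpow_one]
    conv_lhs => rw [← this]
    exact hg1 _ (Subgroup.zpow_mem _ hcQ _)
  have gw : g w = w := by
    conv_lhs => rw [← hw₁]
    exact hg1 _ hwQ
  have gs : g s = s ^ (2 : ℤ) := by
    conv_lhs => rw [← hs₂]
    exact hg1 _ (Subgroup.zpow_mem _ hsQ _)
  -- the composite
  have hQfin : Finite (normalizerIn S E) := finite_of_le fr.Q_le
  have hvN : v ∈ Subgroup.normalizer ((normalizerIn S E : Subgroup Ω) : Set Ω) := mem_normalizer_of_conj_mem vd.hv1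
  let θ : Ω → Ω := (fun x => (v ^ 8)⁻¹ * x * ((v ^ 8)⁻¹)⁻¹) ∘ (h ∘ ((fun x => v * x * v⁻¹) ∘ g))
  have gE : ∀ x ∈ E, g x ∈ normalizerIn S E := fun x hx => (hg2 x (fr.E_le_Q hx)).1
  have hθ : Maps F E θ := (((hg.restrict fr.E_le_Q).comp (Maps.conj fr.Q_le vd.hv) gE).comp hh
    (fun x hx => vd.hv1 _ (gE x hx))).comp (Maps.conj fr.Q_le (S.inv_mem (S.pow_mem vd.hv 8)))
    (fun x hx => hhQ _ (vd.hv1 _ (gE x hx)))
  have cv : Commute v c := by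
    show v * c = c * v
    rwa [mul_inv_eq_iff_eq_mul] at hvc
  have hv8 : ∀ m : ℤ, (v ^ 8)⁻¹ * c ^ m * ((v ^ 8)⁻¹)⁻¹ = c ^ m := by
    intro m
    have : (v ^ 8)⁻¹ * c ^ m = c ^ m * (v ^ 8)⁻¹ := ((cv.pow_left 8).inv_left.zpow_right m).eq
    rw [this]
    simp
  have θc : θ c = c := by
    show (v ^ 8)⁻¹ * h (v * g c * v⁻¹) * ((v ^ 8)⁻¹)⁻¹ = c
    have e4 : v * c ^ ((k : ℤ) + 1) * v⁻¹ = c ^ ((k : ℤ) + 1) := by
      rw [(cv.zpow_right _).eq]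
      simp
    rw [gc, e4, hh.map_zpow hcQ, hc₁, ← zpow_mul, hv8]
    have := zpow_congr' hcp (i := (2 : ℤ) * ((k : ℤ) + 1)) (j := 1) ⟨1, by rw [hk']; ring⟩
    rw [this, zpow_one]
  have θw : θ w = w * c ^ (-6 * r) := by
    show (v ^ 8)⁻¹ * h (v * g w * v⁻¹) * ((v ^ 8)⁻¹)⁻¹ = _
    have cwc : Commute c w := fr.com fr.hc fr.hw
    have e5 : h (v * w * v⁻¹) = w * c ^ ((2 : ℤ) * r) := by
      rw [hvw, hh.map_mul hwQ (Subgroup.zpow_mem _ hcQ _), hw₁, hh.map_zpow hcQ, hc₁, ← zpow_mul]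
    have e6 : v ^ (-8 : ℤ) * w * (v ^ (-8 : ℤ))⁻¹ = (c ^ r) ^ (-8 : ℤ) * w :=
      conjz (a := v) (b := w) (d := c ^ r) (by rw [hvw]; exact (cwc.zpow_left r).eq.symm) ((cv.zpow_right r).eq) (-8)
    have e7 : v ^ (-8 : ℤ) = (v ^ 8)⁻¹ := by
      rw [zpow_neg, zpow_ofNat]
    rw [e7] at e6
    rw [gw, e5]
    calc (v ^ 8)⁻¹ * (w * c ^ ((2 : ℤ) * r)) * ((v ^ 8)⁻¹)⁻¹
        = ((v ^ 8)⁻¹ * w * ((v ^ 8)⁻¹)⁻¹) * ((v ^ 8)⁻¹ * c ^ ((2 : ℤ) * r) * ((v ^ 8)⁻¹)⁻¹) := by group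
      _ = (c ^ r) ^ (-8 : ℤ) * w * c ^ ((2 : ℤ) * r) := by rw [e6, hv8]
      _ = c ^ (r * (-8)) * w * c ^ ((2 : ℤ) * r) := by rw [← zpow_mul c r (-8)]
      _ = w * (c ^ (r * (-8)) * c ^ ((2 : ℤ) * r)) := by rw [(cwc.zpow_left (r * (-8))).eq]; group
      _ = _ := by
        rw [← zpow_add]
        congr 2
        ring
  obtain ⟨ρ, hρ⟩ := vd.hvs
  have θs : Rep (p := p) E z s 1 0 (θ s) := by
    set y := θ s with hy
    have hY : h (v * g s * v⁻¹) ∈ normalizerIn S E := hhQ _ (vd.hv1 _ (gE s fr.hs))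
    have hyQ : y ∈ normalizerIn S E :=
      (Subgroup.mem_normalizer_iff.1 (Subgroup.inv_mem _ (Subgroup.pow_mem _ hvN 8)) _).1 hY
    obtain ⟨u₀, v₀, h₀⟩ := fr.Rep_exists hyQ
    have h1 := fr.vP vd hρ 8 h₀
    have e1' : v ^ 8 * y * (v ^ 8)⁻¹ = h (v * g s * v⁻¹) := by
      rw [hy]
      show v ^ 8 * ((v ^ 8)⁻¹ * h (v * g s * v⁻¹) * ((v ^ 8)⁻¹)⁻¹) * (v ^ 8)⁻¹ = _
      group
    rw [e1'] at h1
    have h2 : Rep (p := p) E z s 2 0 (g s) := by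
      rw [gs]
      have := fr.Rep_zpow fr.Rep_s 2
      simpa using this
    have h3 := hR (fr.vR vd hρ h2)
    obtain ⟨h4, h5⟩ := fr.Rep_uniq h1 h3
    have h6 : u₀ = 1 := by
      rw [h4, ← hpZ]
      push_cast
      ring
    subst h6
    have h7 : v₀ = 0 := by
      have : v₀ + ((8 : ℕ) : ZMod p) * ρ * 1 = (0 + ρ * 2) * 4 := h5
      push_cast at this
      linear_combination this
    rw [h7] at h₀
    exact h₀
  obtain ⟨i, hi⟩ := fr.U hθ θc ⟨-6 * r, θw⟩ (fr.Rep_one_zero θs)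
  have h8 := hi w fr.hw
  have e9 : z ^ i * w * (z ^ i)⁻¹ = w := by
    have := fr.zcomm_w i 1
    rw [zpow_one] at this
    rw [this]
    simp
  rw [e9, θw] at h8
  have h9 : c ^ (-6 * r) = 1 := mul_eq_left.1 h8
  have h10 := fr.ord_c h9
  have hpI : Prime (p : ℤ) := Nat.prime_iff_prime_int.1 hpp
  rcases hpI.dvd_or_dvd h10 with h11 | h11
  · have h12 : (p : ℤ) ∣ 6 := by simpa using h11
    have h13 : p ∣ 6 := by exact_mod_cast h12
    have h14 : p ∣ 2 * 3 := by simpa using h13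
    rcases (Nat.Prime.dvd_mul hpp).1 h14 with h15 | h15
    · have := Nat.le_of_dvd (by norm_num) h15
      have := fr.p5
      omega
    · have := Nat.le_of_dvd (by norm_num) h15
      have := fr.p5
      omega
  · exact hr h11

end Frame

end Cfsg.Agent.Lib.MaxEss3D
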