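import Mathlib
import Cfsg.Agent.Lib.MaxEss3C
import Cfsg.Agent.Lib.MaxEss3D
import Cfsg.Agent.S0112

/-!
# A self-centralizing quotient argument
-/

set_option autoImplicit false
set_option linter.unusedSectionVars false
set_option linter.style.haveILetI false
set_option linter.unusedVariables false

namespace Cfsg.Agent.Lib.MaxEss3E

open Cfsg Cfsg.FusionSystem Cfsg.Agent.Lib.FusionCore Cfsg.Agent.Lib.FusionCore2 Cfsg.Agent.Lib.MaxEss3A
open Cfsg.Agent.Lib.MaxEss3C Cfsg.Agent.Lib.MaxEss3D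
open scoped commutatorElement

lemma card_map_mul {G G' : Type*} [Group G] [Group G'] [Finite G] (f : G →* G') (H : Subgroup G) (hN : f.ker ≤ H) :
    Nat.card (H.map f) * Nat.card f.ker = Nat.card H := by
  let g : H →* G' := f.comp H.subtype
  have e1 : g.range = H.map f := by
    rw [MonoidHom.range_comp, Subgroup.range_subtype]
  have e2 : Nat.card g.ker = Nat.card f.ker := by
    have : g.ker = f.ker.subgroupOf H := by
      ext x
      simp [g, MonoidHom.mem_ker, Subgroup.mem_subgroupOf]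
    rw [this]
    exact Nat.card_congr (Subgroup.subgroupOfEquivOfLe hN).toEquiv
  have e3 := Subgroup.card_mul_index g.ker
  rw [Subgroup.index_ker, e1, e2] at e3
  rw [mul_comm]
  exact e3

variable {Ω : Type*} [Group Ω] {S : Subgroup Ω} [Finite S] {F : FusionSystem S} {p n : ℕ} [hp : Fact p.Prime]

/-- The subgroup generated by `s` and a term of the lower central series. -/
def RR (S : Subgroup Ω) (s : Ω) (i : ℕ) : Subgroup Ω := Subgroup.zpowers s ⊔ Gm S i

lemma mem_RR {s : Ω} (hs : s ∈ S) {i : ℕ} {x : Ω} : x ∈ RR S s i ↔ ∃ k : ℤ, ∃ g ∈ Gm S i, x = s ^ k * g := by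
  constructor
  · intro hx
    let T : Subgroup Ω :=
      { carrier := {x | ∃ k : ℤ, ∃ g ∈ Gm S i, x = s ^ k * g}
        one_mem' := ⟨0, 1, Subgroup.one_mem _, by simp⟩
        mul_mem' := by
          rintro _ _ ⟨k, g, hg, rfl⟩ ⟨k', g', hg', rfl⟩
          refine ⟨k + k', (s ^ (-k') * g * (s ^ (-k'))⁻¹) * g', Subgroup.mul_mem _ (Gm_conj hg (S.zpow_mem hs _)) hg', ?_⟩
          rw [zpow_add, zpow_neg]
          group
        inv_mem' := by
          rintro _ ⟨k, g, hg, rfl⟩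
          refine ⟨-k, s ^ k * g⁻¹ * (s ^ k)⁻¹, Gm_conj (Subgroup.inv_mem _ hg) (S.zpow_mem hs _), ?_⟩
          rw [zpow_neg]
          group }
    have hle : RR S s i ≤ T := by
      refine sup_le ((Subgroup.zpowers_le).2 ⟨1, 1, Subgroup.one_mem _, by simp⟩) (fun g hg => ⟨0, g, hg, by simp⟩)
    exact hle hx
  · rintro ⟨k, g, hg, rfl⟩
    exact Subgroup.mul_mem _ (Subgroup.zpow_mem _ ((le_sup_left : Subgroup.zpowers s ≤ RR S s i) (Subgroup.mem_zpowers s)) _)
      ((le_sup_right : Gm S i ≤ RR S s i) hg)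

lemma RR_le {s : Ω} (hs : s ∈ S) {i : ℕ} : RR S s i ≤ S :=
  sup_le ((Subgroup.zpowers_le).2 hs) (Gm_le i)

lemma s_mem_RR {s : Ω} {i : ℕ} : s ∈ RR S s i := (le_sup_left : Subgroup.zpowers s ≤ RR S s i) (Subgroup.mem_zpowers s)

lemma Gm_le_RR {s : Ω} {i : ℕ} : Gm S i ≤ RR S s i := le_sup_right

/-- Elements commuting modulo a term of the lower central series. -/
def Cmz (S : Subgroup Ω) [Finite S] (j : ℕ) (x : Ω) (hx : x ∈ S) : Subgroup Ω where
  carrier := {y | y ∈ S ∧ ⁅x, y⁆ ∈ Gm S j}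
  one_mem' := ⟨S.one_mem, by simp⟩
  mul_mem' := by
    rintro a b ⟨ha, ha'⟩ ⟨hb, hb'⟩
    refine ⟨S.mul_mem ha hb, ?_⟩
    have e : ⁅x, a * b⁆ = ⁅x, a⁆ * (a * ⁅x, b⁆ * a⁻¹) := by
      simp only [commutatorElement_def]
      group
    rw [e]
    exact Subgroup.mul_mem _ ha' (Gm_conj hb' ha)
  inv_mem' := by
    rintro a ⟨ha, ha'⟩
    refine ⟨S.inv_mem ha, ?_⟩
    have e : ⁅x, a⁻¹⁆ = a⁻¹ * ⁅x, a⁆⁻¹ * a⁻¹⁻¹ := by
      simp only [commutatorElement_def]
      group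
    rw [e]
    exact Gm_conj (Subgroup.inv_mem _ ha') (S.inv_mem ha)

lemma comm_symm {j : ℕ} {x y : Ω} (h : ⁅x, y⁆ ∈ Gm S j) : ⁅y, x⁆ ∈ Gm S j := by
  rw [← commutatorElement_inv]
  exact Subgroup.inv_mem _ h

/-- `⟨s⟩ Γ_i` is abelian modulo `Γ_{i+2}` for `s ∈ CC i`. -/
lemma RR_comm {s : Ω} (hs : s ∈ S) {i : ℕ} (hi : 1 ≤ i) (hsC : s ∈ CC S i) :
    ∀ x ∈ RR S s i, ∀ y ∈ RR S s i, ⁅x, y⁆ ∈ Gm S (i + 2) := by
  have hgg : ∀ g ∈ Gm S i, ∀ g' ∈ Gm S i, ⁅g, g'⁆ ∈ Gm S (i + 2) := fun g hg g' hg' =>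
    Gm_anti (by omega) (Gm_comm rfl hg hg')
  have hgs : ∀ g ∈ Gm S i, ⁅g, s⁆ ∈ Gm S (i + 2) := fun g hg => (mem_CC.1 hsC).2 g hg
  have h1 : ∀ g (hg : g ∈ Gm S i), RR S s i ≤ Cmz S (i + 2) g (Gm_le i hg) := by
    intro g hg
    refine sup_le ((Subgroup.zpowers_le).2 ⟨hs, hgs g hg⟩) (fun y hy => ⟨Gm_le i hy, hgg g hg y hy⟩)
  have h2 : RR S s i ≤ Cmz S (i + 2) s hs := by
    refine sup_le ((Subgroup.zpowers_le).2 ⟨hs, by simp⟩) (fun y hy => ⟨Gm_le i hy, comm_symm (hgs y hy)⟩)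
  intro x hx y hy
  have hyS := RR_le hs hy
  have h3 : RR S s i ≤ Cmz S (i + 2) y hyS := by
    refine sup_le ((Subgroup.zpowers_le).2 ⟨hs, comm_symm (h2 hy).2⟩) (fun g hg => ⟨Gm_le i hg, comm_symm (h1 g hg hy).2⟩)
  exact comm_symm (h3 hx).2

/-- The contradiction from a self-centralizing subgroup of order `p ^ 2` in a quotient. -/
theorem suzuki {E : Subgroup Ω} {z s c w : Ω} (h : MC S p n) (fr : Frame F p E z s c w) {i : ℕ} (hi : 1 ≤ i) (hi2 : i + 2 ≤ n - 1)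
    (hs1 : s ∉ Gm S i) (hsC : s ∈ CC S i) (hER : E ≤ RR S s i) (hwG : w ∈ Gm S (i + 2)) (hwc : ∀ x ∈ RR S s i, x * w = w * x) :
    False := by
  classical
  have hpp := hp.out
  have hsS : s ∈ S := fr.hES fr.hs
  have hRS : RR S s i ≤ S := RR_le hsS
  haveI hfinR : Finite (RR S s i) := finite_of_le hRS
  have hwR : w ∈ RR S s i := hER fr.hw
  let w' : RR S s i := ⟨w, hwR⟩
  let W : Subgroup (RR S s i) := Subgroup.zpowers w'
  have hwp : w ^ p = 1 := fr.el w fr.hw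
  have hw1 : w ≠ 1 := by
    intro hw
    have := fr.ord_w (j := 1) (by simp [hw])
    have h2 : p ∣ 1 := by exact_mod_cast this
    exact hpp.one_lt.ne' (Nat.dvd_one.1 h2)
  have hw'1 : w' ≠ 1 := fun hw => hw1 (congrArg Subtype.val hw)
  have hw'p : w' ^ p = 1 := Subtype.ext hwp
  haveI hWn : W.Normal := by
    constructor
    rintro _ ⟨k, rfl⟩ g
    have hcomm : Commute g w' := Subtype.ext (hwc g g.2)
    have e : g * w' ^ k * g⁻¹ = w' ^ k := by
      rw [(hcomm.zpow_right k).eq]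
      simp
    simp only
    rw [e]
    exact ⟨k, rfl⟩
  have hRp : IsPGroup p (RR S s i) := h.hS.to_le hRS
  obtain ⟨a, ha⟩ := IsPGroup.iff_card.1 hRp
  have hWc : Nat.card W = p := by
    rw [Nat.card_zpowers, orderOf_eq_prime hw'p hw'1]
  have hXc : Nat.card (RR S s i ⧸ W) = p ^ (a - 1) := by
    have e := Subgroup.card_eq_card_quotient_mul_card_subgroup W
    rw [ha, hWc] at e
    have ha0 : a ≠ 0 := by
      rintro rfl
      rw [pow_zero] at e
      have hp2 := hpp.two_le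
      have : 0 < Nat.card (RR S s i ⧸ W) := Nat.card_pos
      nlinarith
    have e2 : p ^ a = p ^ (a - 1) * p := by rw [← pow_succ]; congr 1; omega
    rw [e2] at e
    exact (Nat.eq_of_mul_eq_mul_right hpp.pos e).symm
  have hXp : IsPGroup p (RR S s i ⧸ W) := hRp.to_quotient W
  let π : RR S s i →* RR S s i ⧸ W := QuotientGroup.mk' W
  have hker : π.ker = W := QuotientGroup.ker_mk' W
  have hπs : Function.Surjective π := QuotientGroup.mk'_surjective W
  have hmemW : ∀ {y : RR S s i}, π y = 1 ↔ y ∈ W := by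
    intro y
    rw [← MonoidHom.mem_ker, hker]
  have hWE : W ≤ E.subgroupOf (RR S s i) := by
    rintro _ ⟨k, rfl⟩
    exact Subgroup.mem_subgroupOf.2 (E.zpow_mem fr.hw k)
  have hEc : Nat.card (E.subgroupOf (RR S s i)) = p ^ 3 := by
    rw [← fr.card]
    exact Nat.card_congr (Subgroup.subgroupOfEquivOfLe hER).toEquiv
  let A : Subgroup (RR S s i ⧸ W) := (E.subgroupOf (RR S s i)).map π
  have hAc : Nat.card A = p ^ 2 := by
    have e := card_map_mul π (E.subgroupOf (RR S s i)) (by rw [hker]; exact hWE)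
    rw [hEc, hker, hWc] at e
    have e2 : p ^ 3 = p ^ 2 * p := by ring
    rw [e2] at e
    exact Nat.eq_of_mul_eq_mul_right hpp.pos e
  have hzw : ∀ x ∈ Subgroup.zpowers w, x ∈ E := fun x hx => (Subgroup.zpowers_le.2 fr.hw) hx
  have hC : Subgroup.centralizer (A : Set (RR S s i ⧸ W)) = A := by
    apply le_antisymm
    · intro y hy
      obtain ⟨y₀, rfl⟩ := hπs y
      have key : ∀ x (hx : x ∈ E), (y₀ : Ω) * x * (y₀ : Ω)⁻¹ * x⁻¹ ∈ Subgroup.zpowers w := by
        intro x hx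
        let x' : RR S s i := ⟨x, hER hx⟩
        have hm : π x' ∈ A := ⟨x', hx, rfl⟩
        have hcm := Subgroup.mem_centralizer_iff.1 hy _ hm
        have h1 : π (y₀ * x' * y₀⁻¹ * x'⁻¹) = 1 := by
          rw [map_mul, map_mul, map_mul, map_inv, map_inv, ← hcm]
          group
        obtain ⟨k, hk⟩ := hmemW.1 h1
        exact ⟨k, by simpa using congrArg Subtype.val hk⟩
      have hyN : ∀ x ∈ E, (y₀ : Ω) * x * (y₀ : Ω)⁻¹ ∈ E := by
        intro x hx
        have h1 := E.mul_mem (hzw _ (key x hx)) hx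
        simpa using h1
      obtain ⟨j, hj⟩ := fr.N y₀ (hRS y₀.2) hyN
      set e := z ^ (-j) * (y₀ : Ω) with he
      have hy₀ : (y₀ : Ω) = z ^ j * e := by
        rw [he, zpow_neg]
        group
      have h2 := key s fr.hs
      have h3 : (y₀ : Ω) * s * (y₀ : Ω)⁻¹ * s⁻¹ = c ^ j := by
        rw [hy₀]
        have e5 : e * s = s * e := (fr.com hj fr.hs).eq
        calc z ^ j * e * s * (z ^ j * e)⁻¹ * s⁻¹ = z ^ j * (e * s) * e⁻¹ * (z ^ j)⁻¹ * s⁻¹ := by group
          _ = (z ^ j * s * (z ^ j)⁻¹) * s⁻¹ := by rw [e5]; group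
          _ = _ := by rw [fr.zz_s]; group
      rw [h3] at h2
      obtain ⟨m, hm⟩ := h2
      have hm' : w ^ m = c ^ j := hm
      have h4 : (p : ℤ) ∣ j := by
        have := fr.ind 0 j (-m) (by rw [zpow_neg, hm']; simp)
        exact this.2.1
      have h5 : z ^ j ∈ E := (mem_AA.1 (fr.z_mem_AA h4)).1
      have h6 : (y₀ : Ω) ∈ E := by
        rw [hy₀]
        exact E.mul_mem h5 hj
      exact ⟨y₀, h6, rfl⟩
    · rintro _ ⟨x', hx', rfl⟩
      refine Subgroup.mem_centralizer_iff.2 ?_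
      rintro _ ⟨x'', hx'', rfl⟩
      have e : x'' * x' = x' * x'' := Subtype.ext (fr.hab _ hx'' _ hx')
      rw [← map_mul, ← map_mul, e]
  have hcl := Cfsg.Agent.S0112.result (a - 1) hXc A hAc hC
  -- orders
  have hn3 := h.n3
  have hwlt : i + 2 < n - 1 := by
    by_contra hc
    have := h.Gm_eq_bot (k := i + 2) (by omega)
    rw [this] at hwG
    exact hw1 hwG
  have hGi := h.card_Gm (i := i) hi (by omega)
  have ha_gt : n - 1 - i < a := by
    by_contra hc
    push Not at hc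
    have h1 : Nat.card (RR S s i) ≤ Nat.card (Gm S i) := by
      rw [ha, hGi]
      exact Nat.pow_le_pow_right hpp.pos hc
    haveI : Finite (Gm S i) := finite_of_le (Gm_le i)
    have h2 : Gm S i = RR S s i := Subgroup.eq_of_le_of_card_ge Gm_le_RR h1
    exact hs1 (h2 ▸ s_mem_RR)
  have hlcs := Cfsg.Agent.Lib.MaxClass.card_lcs_of_maxClass hXp hXc hcl (by omega) 1 le_rfl (by omega)
  have hWK : W ≤ (Gm S (i + 2)).subgroupOf (RR S s i) := by
    rintro _ ⟨k, rfl⟩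
    exact Subgroup.mem_subgroupOf.2 (Subgroup.zpow_mem _ hwG k)
  have hKc : Nat.card ((Gm S (i + 2)).subgroupOf (RR S s i)) = p ^ (n - 1 - (i + 2)) := by
    rw [← h.card_Gm (i := i + 2) (by omega) (by omega)]
    exact Nat.card_congr (Subgroup.subgroupOfEquivOfLe ((Gm_anti (by omega)).trans Gm_le_RR)).toEquiv
  have hK := card_map_mul π ((Gm S (i + 2)).subgroupOf (RR S s i)) (by rw [hker]; exact hWK)
  rw [hKc, hker, hWc] at hK
  have hle : (⊤ : Subgroup (RR S s i ⧸ W)).lowerCentralSeries 1 ≤ ((Gm S (i + 2)).subgroupOf (RR S s i)).map π := by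
    rw [Subgroup.top_lowerCentralSeries_one, _root_.commutator_def, Subgroup.commutator_le]
    intro x _ y _
    obtain ⟨x₀, rfl⟩ := hπs x
    obtain ⟨y₀, rfl⟩ := hπs y
    refine ⟨⁅x₀, y₀⁆, ?_, map_commutatorElement π x₀ y₀⟩
    have := RR_comm hsS hi hsC x₀ x₀.2 y₀ y₀.2
    exact Subgroup.mem_subgroupOf.2 this
  have hle2 := Subgroup.card_le_of_le hle
  rw [hlcs] at hle2
  have h5 : p ^ (a - 1 - 1 - 1) * p ≤ p ^ (n - 1 - (i + 2)) := by
    rw [← hK]
    exact Nat.mul_le_mul_right _ hle2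
  rw [← pow_succ] at h5
  have h6 := (Nat.pow_le_pow_iff_right hpp.one_lt).1 h5
  omega

end Cfsg.Agent.Lib.MaxEss3E
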