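import Mathlib
import Cfsg.Agent.Lib.MaxEss3E

/-!
# Extending along the lower central series
-/

set_option autoImplicit false
set_option linter.unusedSectionVars false
set_option linter.style.haveILetI false
set_option linter.unusedVariables false

namespace Cfsg.Agent.Lib.MaxEss3F

open Cfsg Cfsg.FusionSystem Cfsg.Agent.Lib.FusionCore Cfsg.Agent.Lib.FusionCore2 Cfsg.Agent.Lib.MaxEss3A
open Cfsg.Agent.Lib.MaxEss3C Cfsg.Agent.Lib.MaxEss3D Cfsg.Agent.Lib.MaxEss3E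
open scoped commutatorElement

variable {Ω : Type*} [Group Ω] {S : Subgroup Ω} [Finite S] {F : FusionSystem S} {p n m : ℕ} [hp : Fact p.Prime]

/-- Powers coprime to `p`. -/
lemma mem_of_zpow_mem {G : Type*} [Group G] {p : ℕ} [hp : Fact p.Prime] {x : G} {H : Subgroup G} {e : ℤ} (h1 : x ^ e ∈ H) (h2 : x ^ p ∈ H)
    (he : ¬ (p : ℤ) ∣ e) : x ∈ H := by
  have hpp := hp.out
  have hcop : IsCoprime e (p : ℤ) := (Int.isCoprime_iff_gcd_eq_one.2 (by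
    have := (Int.isCoprime_iff_gcd_eq_one.1 ((Nat.prime_iff_prime_int.1 hpp).coprime_iff_not_dvd.2 he)); rwa [Int.gcd_comm] at this))
  obtain ⟨u, v, huv⟩ := hcop
  have e1 : x = (x ^ e) ^ u * (x ^ (p : ℤ)) ^ v := by
    rw [← zpow_mul, ← zpow_mul, ← zpow_add]
    have : e * u + (p : ℤ) * v = 1 := by linarith
    rw [this, zpow_one]
  rw [e1]
  exact H.mul_mem (H.zpow_mem h1 _) (H.zpow_mem (by rwa [zpow_natCast]) _)

lemma inv_aux {G : Type*} [Group G] {A a κ : G} (h3 : a⁻¹ * A⁻¹ = A⁻¹ * a⁻¹) (h5 : κ * a⁻¹ = a⁻¹ * κ) :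
    (A * a)⁻¹ = A⁻¹ * κ * (a⁻¹ * κ⁻¹) := by
  calc (A * a)⁻¹ = a⁻¹ * A⁻¹ := by group
    _ = A⁻¹ * a⁻¹ := h3
    _ = A⁻¹ * (a⁻¹ * κ) * κ⁻¹ := by group
    _ = A⁻¹ * (κ * a⁻¹) * κ⁻¹ := by rw [h5]
    _ = _ := by group

/-- Extension of a map over a normalizing overgroup. -/
theorem ext_step {p : ℕ} [Fact p.Prime] (hS : IsPGroup p S) (hF : F.IsSaturated p) {R R' : Subgroup Ω} (hR'S : R' ≤ S) (hRR' : R ≤ R')
    (hN : ∀ u ∈ R', ∀ x ∈ R, u * x * u⁻¹ ∈ R) (hc : F.IsCentric R) {α : Ω → Ω} (hα : Maps F R α) (hαR : ∀ x ∈ R, α x ∈ R)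
    (hu : ∀ u ∈ R', ∃ u' ∈ R', ∀ x ∈ R, α (u * x * u⁻¹) = u' * α x * u'⁻¹) :
    ∃ α', Maps F R' α' ∧ (∀ x ∈ R, α' x = α x) ∧ ∀ x ∈ R', α' x ∈ R' := by
  have hRS : R ≤ S := hRR'.trans hR'S
  haveI := finite_of_le hRS
  have himg : img α R = R := img_eq_of_card hα hRS hRS hαR le_rfl
  obtain ⟨R₁, hRR₁, hR₁⟩ := exists_fullyNormalized_conj (F := F) hRS
  obtain ⟨hR₁c, hR₁A⟩ := of_fullyNormalized hS hF hR₁
  have hrec : F.IsReceptive R₁ := receptive_of_fullyCentralized hS hF hR₁c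
  obtain ⟨f, hf, hfN, hfimg⟩ := exists_normalizer_map hS hR₁A hrec hRR₁
  have hRN : R ≤ normalizerIn S R := le_normalizerIn hRS
  haveI hfinR' : Finite R' := finite_of_le hR'S
  have hR'N : R' ≤ normalizerIn S R := by
    intro u hu'
    exact mem_normalizerIn.2 ⟨hR'S hu', mem_normalizer_of_conj_mem (fun x hx => hN u hu' x hx)⟩
  have hμ : Maps F R (f ∘ α) := hα.comp (hf.restrict hRN) hαR
  have hμimg : img (f ∘ α) R = R₁ := by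
    rw [← hfimg]
    ext y
    rw [hμ.mem_img, (hf.restrict hRN).mem_img]
    constructor
    · rintro ⟨x, hx, rfl⟩
      exact ⟨α x, hαR x hx, rfl⟩
    · rintro ⟨x, hx, rfl⟩
      rw [← himg] at hx
      obtain ⟨x₀, hx₀, rfl⟩ := hα.mem_img.1 hx
      exact ⟨x₀, hx₀, rfl⟩
  obtain ⟨g, hg, hgμ⟩ := IsReceptive.ext hrec hμ hμimg
  have hR'Nf : R' ≤ Nf S R (f ∘ α) := by
    intro u hu'
    obtain ⟨u', hu'1, hu'2⟩ := hu u hu'
    refine mem_Nf.2 ⟨hR'S hu', (hR'N hu').2, f u', (mem_normalizerIn.1 (hfN _ (hR'N hu'1))).1, fun x hx => ?_⟩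
    show f (α (u * x * u⁻¹)) = f u' * f (α x) * (f u')⁻¹
    rw [hu'2 x hx, hf.map_conj (hR'N hu'1) (hRN (hαR x hx))]
  have hgR' : Maps F R' g := hg.restrict hR'Nf
  have hcR₁ : F.IsCentric R₁ := IsCentric_conj hc hRR₁
  -- `g` maps into the image of `f`
  have hgim : ∀ u ∈ R', ∃ r ∈ R', g u = f r := by
    intro u hu'
    obtain ⟨u', hu'1, hu'2⟩ := hu u hu'
    have hfu' := (mem_normalizerIn.1 (hfN _ (hR'N hu'1))).1
    have hcm : (f u')⁻¹ * g u ∈ centralizerIn S R₁ := by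
      refine mem_centralizerIn.2 ⟨S.mul_mem (S.inv_mem hfu') (hgR'.mem hu'), fun y hy => ?_⟩
      rw [← hμimg] at hy
      obtain ⟨x, hx, rfl⟩ := hμ.mem_img.1 hy
      have hxc : u * x * u⁻¹ ∈ R := hN u hu' x hx
      have e1 : g u * (f ∘ α) x * (g u)⁻¹ = f u' * (f ∘ α) x * (f u')⁻¹ := by
        have e0 := hgR'.map_conj hu' (hRR' hx)
        rw [hgμ _ hxc, hgμ x hx] at e0
        rw [← e0]
        show f (α (u * x * u⁻¹)) = f u' * f (α x) * (f u')⁻¹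
        rw [hu'2 x hx, hf.map_conj (hR'N hu'1) (hRN (hαR x hx))]
      calc (f ∘ α) x * ((f u')⁻¹ * g u) = (f u')⁻¹ * (f u' * (f ∘ α) x * (f u')⁻¹) * g u := by group
        _ = (f u')⁻¹ * (g u * (f ∘ α) x * (g u)⁻¹) * g u := by rw [e1]
        _ = _ := by group
    have hm := IsCentric_self hcR₁ hcm
    rw [← hfimg] at hm
    obtain ⟨r, hr, hre⟩ := (hf.restrict hRN).mem_img.1 hm
    refine ⟨u' * r, R'.mul_mem hu'1 (hRR' hr), ?_⟩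
    rw [hf.map_mul (hR'N hu'1) (hRN hr), hre]
    group
  obtain ⟨f', hf', h1, h2⟩ := hf.inv
  have hgm : ∀ x ∈ R', g x ∈ img f (normalizerIn S R) := by
    intro u hu'
    obtain ⟨r, hr, hre⟩ := hgim u hu'
    rw [hre]
    exact hf.mem_img_of_mem (hR'N hr)
  refine ⟨f' ∘ g, hgR'.comp hf' hgm, fun x hx => ?_, fun u hu' => ?_⟩
  · show f' (g x) = α x
    rw [hgμ x hx]
    exact h1 _ (hRN (hαR x hx))
  · show f' (g u) ∈ R'
    obtain ⟨r, hr, hre⟩ := hgim u hu'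
    rw [hre, h1 _ (hR'N hr)]
    exact hr

lemma rearr {G : Type*} [Group G] {K A₂ A₁ b₁ b₂ : G} (h : (A₁ * b₁) * b₂ = b₂ * (A₁ * b₁)) :
    K * A₂ * A₁ * (b₁ * b₂) = K * (A₂ * b₂) * (A₁ * b₁) := by
  calc K * A₂ * A₁ * (b₁ * b₂) = K * A₂ * ((A₁ * b₁) * b₂) := by group
    _ = K * A₂ * (b₂ * (A₁ * b₁)) := by rw [h]
    _ = _ := by group

lemma bil {G : Type*} [Group G] {v x d : G} (h1 : v * x * v⁻¹ = d * x) (h2 : v * d = d * v) (h3 : d * x = x * d) (μ ν : ℤ) :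
    v ^ μ * x ^ ν * (v ^ μ)⁻¹ * (x ^ ν)⁻¹ = d ^ (μ * ν) := by
  have e1 := conjz h1 h2 μ
  have e2 : v ^ μ * x ^ ν * (v ^ μ)⁻¹ = (d ^ μ * x) ^ ν := by
    rw [← e1, _root_.conj_zpow]
  have e3 : Commute (d ^ μ) x := Commute.zpow_left (show Commute d x from h3) μ
  rw [e2, e3.mul_zpow, zpow_mul]
  group

/-- Hypotheses for the descent. -/
structure Ch (F : FusionSystem S) (p n m : ℕ) (E : Subgroup Ω) (z s c w : Ω) : Prop where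
  h : MC S p n
  fr : Frame F p E z s c w
  hm : n = 2 * m
  m3 : 3 ≤ m
  hz : z ∈ Gm S (n - 4)
  hAA : ∀ a ∈ AA E z, a ∈ Gm S (n - 3)
  hAA' : ∀ a ∈ Gm S (n - 3), a ∈ AA E z
  hs2 : s ∉ CC S 1
  hZ1 : ∀ d ∈ Gm S (n - 2), d ∈ Subgroup.zpowers c → d = 1
  hy : ∃ y, y ∈ CC S 1 ∧ y ∉ CC S (n - 3)

namespace Ch

variable {E : Subgroup Ω} {z s c w : Ω} (ch : Ch F p n m E z s c w)
include ch

lemma sS : s ∈ S := ch.fr.hES ch.fr.hs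

lemma ns {K : ℕ} (h1 : 1 ≤ K) (h2 : K + 4 ≤ n) : s ∉ CC S K := by
  rw [ch.h.CC_eq h1 h2]
  exact ch.hs2

lemma cG : c ∈ Gm S (n - 3) := ch.hAA c ch.fr.c_AA

lemma wG : w ∈ Gm S (n - 3) := ch.hAA w ch.fr.w_AA

/-- The term `Γ_{n-3}` is central in `Γ_1`. -/
lemma zc {a g : Ω} (ha : a ∈ Gm S (n - 3)) (hg : g ∈ Gm S 1) : a * g = g * a :=
  ch.h.commute_of (by omega) ha hg

lemma E_le {i : ℕ} (hi : i ≤ n - 3) : E ≤ RR S s i := by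
  intro x hx
  obtain ⟨a, b, d, rfl⟩ := ch.fr.gen x hx
  rw [mul_assoc]
  exact Subgroup.mul_mem _ (Subgroup.zpow_mem _ s_mem_RR _)
    (Gm_le_RR (Gm_anti hi (Subgroup.mul_mem _ (Subgroup.zpow_mem _ ch.cG _) (Subgroup.zpow_mem _ ch.wG _))))

lemma G_le_E : Gm S (n - 3) ≤ E := fun a ha => (mem_AA.1 (ch.hAA' a ha)).1

lemma G1_of {i : ℕ} (hi : 1 ≤ i) : Gm S i ≤ Gm S 1 := Gm_anti hi

/-- The property of the descent. -/
def DP (S : Subgroup Ω) (s : Ω) (n i : ℕ) (f : Ω) : Prop := ∃ u₁ ∈ Gm S i, ∃ a ∈ Gm S (n - 3), f = ⁅u₁, s⁆ * a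

lemma DP_mono {i : ℕ} {f : Ω} (hf : DP S s n (i + 1) f) : DP S s n i f := by
  obtain ⟨u₁, hu₁, a, ha, rfl⟩ := hf
  exact ⟨u₁, Gm_anti (by omega) hu₁, a, ha, rfl⟩

lemma DP_mul {i : ℕ} (h1 : m ≤ i + 2) (hi1 : 1 ≤ i) {f g : Ω} (hf : DP S s n i f) (hg : DP S s n i g) : DP S s n i (f * g) := by
  obtain ⟨u₁, hu₁, a, ha, rfl⟩ := hf
  obtain ⟨u₂, hu₂, b, hb, rfl⟩ := hg
  have hm := ch.hm
  have hm3 := ch.m3
  have hA : ⁅u₁, s⁆ ∈ Gm S (i + 1) := Gm_top rfl hu₁ ch.sS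
  have hB : ⁅u₂, s⁆ ∈ Gm S (i + 1) := Gm_top rfl hu₂ ch.sS
  have hκ : ⁅u₁, ⁅u₂, s⁆⁆ ∈ Gm S (n - 3) := Gm_anti (by omega) (Gm_comm rfl hu₁ hB)
  have e1 : ⁅u₁ * u₂, s⁆ = ⁅u₁, ⁅u₂, s⁆⁆ * ⁅u₂, s⁆ * ⁅u₁, s⁆ := by
    simp only [commutatorElement_def]
    group
  refine ⟨u₁ * u₂, Subgroup.mul_mem _ hu₁ hu₂, ⁅u₁, ⁅u₂, s⁆⁆⁻¹ * a * b,
    Subgroup.mul_mem _ (Subgroup.mul_mem _ (Subgroup.inv_mem _ hκ) ha) hb, ?_⟩
  rw [e1]
  have hAB : ⁅u₁, s⁆ * ⁅u₂, s⁆ = ⁅u₂, s⁆ * ⁅u₁, s⁆ := ch.h.commute_of (by omega) hA hB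
  have haB : a * ⁅u₂, s⁆ = ⁅u₂, s⁆ * a := ch.zc ha (ch.G1_of (by omega) hB)
  have hκBA : ⁅u₁, ⁅u₂, s⁆⁆ * (⁅u₂, s⁆ * ⁅u₁, s⁆) = (⁅u₂, s⁆ * ⁅u₁, s⁆) * ⁅u₁, ⁅u₂, s⁆⁆ :=
    ch.zc hκ (Subgroup.mul_mem _ (ch.G1_of (by omega) hB) (ch.G1_of (by omega) hA))
  calc ⁅u₁, s⁆ * a * (⁅u₂, s⁆ * b) = ⁅u₁, s⁆ * (a * ⁅u₂, s⁆) * b := by group
    _ = (⁅u₁, s⁆ * ⁅u₂, s⁆) * a * b := by rw [haB]; group
    _ = (⁅u₂, s⁆ * ⁅u₁, s⁆) * a * b := by rw [hAB]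
    _ = (⁅u₂, s⁆ * ⁅u₁, s⁆) * ⁅u₁, ⁅u₂, s⁆⁆ * (⁅u₁, ⁅u₂, s⁆⁆⁻¹ * a * b) := by group
    _ = ⁅u₁, ⁅u₂, s⁆⁆ * (⁅u₂, s⁆ * ⁅u₁, s⁆) * (⁅u₁, ⁅u₂, s⁆⁆⁻¹ * a * b) := by rw [hκBA]
    _ = _ := by group

lemma DP_inv {i : ℕ} (h1 : m ≤ i + 2) (hi1 : 1 ≤ i) {f : Ω} (hf : DP S s n i f) : DP S s n i f⁻¹ := by
  obtain ⟨u₁, hu₁, a, ha, rfl⟩ := hf
  have hm := ch.hm
  have hm3 := ch.m3
  have hA : ⁅u₁, s⁆ ∈ Gm S (i + 1) := Gm_top rfl hu₁ ch.sS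
  have hu₁i : u₁⁻¹ ∈ Gm S i := Subgroup.inv_mem _ hu₁
  have hAi : ⁅u₁, s⁆⁻¹ ∈ Gm S (i + 1) := Subgroup.inv_mem _ hA
  have hκ : ⁅u₁⁻¹, ⁅u₁, s⁆⁻¹⁆ ∈ Gm S (n - 3) := Gm_anti (by omega) (Gm_comm rfl hu₁i hAi)
  have e1 : ⁅u₁⁻¹, s⁆ = ⁅u₁⁻¹, ⁅u₁, s⁆⁻¹⁆ * ⁅u₁, s⁆⁻¹ := by
    simp only [commutatorElement_def]
    group
  refine ⟨u₁⁻¹, hu₁i, a⁻¹ * ⁅u₁⁻¹, ⁅u₁, s⁆⁻¹⁆⁻¹, Subgroup.mul_mem _ (Subgroup.inv_mem _ ha) (Subgroup.inv_mem _ hκ), ?_⟩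
  rw [e1]
  have h3 : a⁻¹ * ⁅u₁, s⁆⁻¹ = ⁅u₁, s⁆⁻¹ * a⁻¹ := ch.zc (Subgroup.inv_mem _ ha) (ch.G1_of (by omega) hAi)
  have h4 : ⁅u₁⁻¹, ⁅u₁, s⁆⁻¹⁆ * ⁅u₁, s⁆⁻¹ = ⁅u₁, s⁆⁻¹ * ⁅u₁⁻¹, ⁅u₁, s⁆⁻¹⁆ := ch.zc hκ (ch.G1_of (by omega) hAi)
  rw [h4]
  exact inv_aux h3 (ch.zc hκ (ch.G1_of (by omega) (Subgroup.inv_mem _ ha)))

lemma DP_zpow {i : ℕ} (h1 : m ≤ i + 2) (hi1 : 1 ≤ i) {f : Ω} (hf : DP S s n i f) (k : ℤ) : DP S s n i (f ^ k) := by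
  induction k using Int.induction_on with
  | zero => exact ⟨1, Subgroup.one_mem _, 1, Subgroup.one_mem _, by simp⟩
  | succ k ih =>
    rw [zpow_add_one]
    exact ch.DP_mul h1 hi1 ih hf
  | pred k ih =>
    rw [zpow_sub_one]
    exact ch.DP_mul h1 hi1 ih (ch.DP_inv h1 hi1 hf)

/-- Every element of `Γ_{i+1}` is a commutator with `s` modulo `Γ_{n-3}`. -/
theorem D (d : ℕ) : ∀ i, i + 1 + d = n - 3 → m ≤ i + 2 → ∀ f ∈ Gm S (i + 1), DP S s n i f := by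
  have hm := ch.hm
  have hm3 := ch.m3
  induction d with
  | zero =>
    intro i hi _ f hf
    have : i + 1 = n - 3 := by omega
    rw [this] at hf
    exact ⟨1, Subgroup.one_mem _, f, hf, by simp⟩
  | succ d ih =>
    intro i hi hmi f hf
    have hi1 : 1 ≤ i := by omega
    obtain ⟨u, hu, hu'⟩ := ch.h.exists_level (i := i) hi1 (by omega)
    have hA : ⁅u, s⁆ ∈ Gm S (i + 1) := Gm_top rfl hu ch.sS
    have hA' : ⁅u, s⁆ ∉ Gm S (i + 2) := fun hc => ch.ns hi1 (by omega) (ch.h.level_cent hi1 (by omega) hu hu' ch.sS hc)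
    obtain ⟨k, c', hc', rfl⟩ := ch.h.level_gen (i := i + 1) (by omega) (by omega) hA hA' hf
    refine ch.DP_mul (by omega) hi1 (ch.DP_zpow (by omega) hi1 ⟨u, hu, 1, Subgroup.one_mem _, by simp⟩ k)
      (ch.DP_mono (ih (i + 1) (by omega) (by omega) c' hc'))

theorem D' {i : ℕ} (h1 : m ≤ i + 2) (h2 : i + 1 ≤ n - 3) {f : Ω} (hf : f ∈ Gm S (i + 1)) : DP S s n i f :=
  ch.D (n - 3 - (i + 1)) i (by omega) h1 f hf


lemma RR_comm' {i : ℕ} : ∀ x ∈ RR S s i, ∀ y ∈ RR S s i, ⁅x, y⁆ ∈ Gm S (i + 1) := by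
  have hs := ch.sS
  have hgg : ∀ g ∈ Gm S i, ∀ g' ∈ Gm S i, ⁅g, g'⁆ ∈ Gm S (i + 1) := fun g hg g' hg' =>
    Gm_anti (by omega) (Gm_comm rfl hg hg')
  have hgs : ∀ g ∈ Gm S i, ⁅g, s⁆ ∈ Gm S (i + 1) := fun g hg => Gm_top rfl hg hs
  have h1 : ∀ g (hg : g ∈ Gm S i), RR S s i ≤ Cmz S (i + 1) g (Gm_le i hg) := by
    intro g hg
    refine sup_le ((Subgroup.zpowers_le).2 ⟨hs, hgs g hg⟩) (fun y hy => ⟨Gm_le i hy, hgg g hg y hy⟩)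
  have h2 : RR S s i ≤ Cmz S (i + 1) s hs := by
    refine sup_le ((Subgroup.zpowers_le).2 ⟨hs, by simp⟩) (fun y hy => ⟨Gm_le i hy, comm_symm (hgs y hy)⟩)
  intro x hx y hy
  have hyS := RR_le hs hy
  have h3 : RR S s i ≤ Cmz S (i + 1) y hyS := by
    refine sup_le ((Subgroup.zpowers_le).2 ⟨hs, comm_symm (h2 hy).2⟩) (fun g hg => ⟨Gm_le i hg, comm_symm (h1 g hg hy).2⟩)
  exact comm_symm (h3 hx).2

lemma RR_anti {i j : ℕ} (hij : i ≤ j) : RR S s j ≤ RR S s i :=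
  sup_le le_sup_left ((Gm_anti hij).trans le_sup_right)

lemma RR_norm {i : ℕ} {u x : Ω} (hu : u ∈ RR S s i) (hx : x ∈ RR S s (i + 1)) : u * x * u⁻¹ ∈ RR S s (i + 1) := by
  have hx' := ch.RR_anti (Nat.le_succ i) hx
  have h1 := ch.RR_comm' u hu x hx'
  have e : u * x * u⁻¹ = ⁅u, x⁆ * x := by
    simp only [commutatorElement_def]
    group
  rw [e]
  exact Subgroup.mul_mem _ (Gm_le_RR h1) hx

lemma maps_R {i : ℕ} {α : Ω → Ω} (hα : Maps F (RR S s i) α) (hαs : α s = s⁻¹) (hαG : ∀ x ∈ Gm S i, α x ∈ Gm S i) :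
    ∀ x ∈ RR S s i, α x ∈ RR S s i := by
  intro x hx
  obtain ⟨k, g, hg, rfl⟩ := (mem_RR ch.sS).1 hx
  rw [hα.map_mul (Subgroup.zpow_mem _ s_mem_RR _) (Gm_le_RR hg), hα.map_zpow s_mem_RR, hαs]
  exact Subgroup.mul_mem _ (Subgroup.zpow_mem _ (Subgroup.inv_mem _ s_mem_RR) _) (Gm_le_RR (hαG g hg))

/-- The values of `α` on `Γ_{n-3}`. -/
lemma alpha_A {i : ℕ} (hi : i ≤ n - 3) {α : Ω → Ω} (hα : Maps F (RR S s i) α) (hαc : α c = c⁻¹) (hαw : α w = w) (a b : ℤ) :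
    α (c ^ a * w ^ b) = c ^ (-a) * w ^ b := by
  have hcR := ch.E_le hi ch.fr.hc
  have hwR := ch.E_le hi ch.fr.hw
  rw [hα.map_mul (Subgroup.zpow_mem _ hcR _) (Subgroup.zpow_mem _ hwR _), hα.map_zpow hcR, hα.map_zpow hwR, hαc, hαw, inv_zpow',]

lemma alpha_G {i : ℕ} (hi : i ≤ n - 3) {α : Ω → Ω} (hα : Maps F (RR S s i) α) (hαc : α c = c⁻¹) (hαw : α w = w) {a : Ω}
    (ha : a ∈ Gm S (n - 3)) : α a ∈ Gm S (n - 3) := by
  obtain ⟨j, k, rfl⟩ := ch.fr.AA_gen (ch.hAA' a ha)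
  rw [ch.alpha_A hi hα hαc hαw]
  exact Subgroup.mul_mem _ (Subgroup.zpow_mem _ ch.cG _) (Subgroup.zpow_mem _ ch.wG _)

/-- The key lemma: conjugations by `Γ_i` transport. -/
theorem C {i : ℕ} (h1 : m ≤ i + 2) (h2 : i + 1 ≤ n - 4) {α : Ω → Ω} (hα : Maps F (RR S s (i + 1)) α) (hαs : α s = s⁻¹) (hαc : α c = c⁻¹)
    (hαw : α w = w) (hαG : ∀ x ∈ Gm S (i + 1), α x ∈ Gm S (i + 1)) {u : Ω} (hu : u ∈ Gm S i) :
    ∃ u₀ ∈ Gm S i, ∃ g ∈ E, ∀ x ∈ RR S s (i + 1), α (u * x * u⁻¹) = (u₀ * g) * α x * (u₀ * g)⁻¹ := by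
  classical
  have hm := ch.hm
  have hm3 := ch.m3
  have hi1 : 1 ≤ i := by omega
  have fr := ch.fr
  have hS' : s ∈ S := ch.sS
  have hRS : RR S s (i + 1) ≤ S := RR_le hS'
  have hER : E ≤ RR S s (i + 1) := ch.E_le (by omega)
  haveI := finite_of_le hRS
  have hsR : s ∈ RR S s (i + 1) := s_mem_RR
  have hαR := ch.maps_R hα hαs hαG
  have himg : img α (RR S s (i + 1)) = RR S s (i + 1) := img_eq_of_card hα hRS hRS hαR le_rfl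
  obtain ⟨β, hβ, hβ1, hβ2⟩ := hα.inv
  rw [himg] at hβ hβ2
  have hβs : β s = s⁻¹ := by
    have := hβ1 s⁻¹ (Subgroup.inv_mem _ hsR)
    rwa [hα.map_inv hsR, hαs, inv_inv] at this
  have hcR := hER fr.hc
  have hwR := hER fr.hw
  have hβc : β c = c⁻¹ := by
    have := hβ1 c⁻¹ (Subgroup.inv_mem _ hcR)
    rwa [hα.map_inv hcR, hαc, inv_inv] at this
  have hβw : β w = w := by
    have := hβ1 w hwR
    rwa [hαw] at this
  have huS : u ∈ S := Gm_le i hu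
  have hcon : Maps F (RR S s (i + 1)) (fun x => u * x * u⁻¹) := Maps.conj hRS huS
  have hN : ∀ x ∈ RR S s (i + 1), u * x * u⁻¹ ∈ RR S s (i + 1) := fun x hx => ch.RR_norm (Gm_le_RR hu) hx
  let φ : Ω → Ω := α ∘ ((fun x => u * x * u⁻¹) ∘ β)
  have hφ : Maps F (RR S s (i + 1)) φ := (hβ.comp hcon (fun x hx => (hβ2 x hx).1)).comp hα (fun x hx => hN _ (hβ2 x hx).1)
  have hφx : ∀ x ∈ RR S s (i + 1), φ (α x) = α (u * x * u⁻¹) := by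
    intro x hx
    show α (u * β (α x) * u⁻¹) = _
    rw [hβ1 x hx]
  have hcm : ⁅u, s⁻¹⁆ ∈ Gm S (i + 1) := Gm_top rfl hu (S.inv_mem hS')
  obtain ⟨u₁, hu₁, a, ha, hfe⟩ := ch.D' h1 (by omega) (hαG _ hcm)
  have hφs : φ s = α ⁅u, s⁻¹⁆ * s := by
    show α (u * β s * u⁻¹) = _
    have e : u * s⁻¹ * u⁻¹ = ⁅u, s⁻¹⁆ * s⁻¹ := by
      simp only [commutatorElement_def]
      group
    rw [hβs, e, hα.map_mul (Gm_le_RR hcm) (Subgroup.inv_mem _ hsR), hα.map_inv hsR, hαs, inv_inv]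
  have hu₁S : u₁ ∈ S := Gm_le i hu₁
  let θ : Ω → Ω := (fun x => u₁⁻¹ * x * u₁⁻¹⁻¹) ∘ φ
  have hθ : Maps F (RR S s (i + 1)) θ := hφ.comp (Maps.conj le_rfl (S.inv_mem hu₁S)) (fun x hx => hφ.mem hx)
  have hu1 : u ∈ Gm S 1 := ch.G1_of hi1 hu
  have hu₁1 : u₁ ∈ Gm S 1 := ch.G1_of hi1 hu₁
  have hθc : θ c = c := by
    show u₁⁻¹ * α (u * β c * u⁻¹) * u₁⁻¹⁻¹ = c
    have e1 : u * c⁻¹ * u⁻¹ = c⁻¹ := by
      have := ch.zc (Subgroup.inv_mem _ ch.cG) hu1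
      rw [← this]
      group
    rw [hβc, e1, hα.map_inv hcR, hαc, inv_inv]
    have := ch.zc ch.cG hu₁1
    calc u₁⁻¹ * c * u₁⁻¹⁻¹ = u₁⁻¹ * (c * u₁) := by group
      _ = c := by rw [this]; group
  have hθw : θ w = w := by
    show u₁⁻¹ * α (u * β w * u⁻¹) * u₁⁻¹⁻¹ = w
    have e1 : u * w * u⁻¹ = w := by
      have := ch.zc ch.wG hu1
      rw [← this]
      group
    rw [hβw, e1, hαw]
    have := ch.zc ch.wG hu₁1
    calc u₁⁻¹ * w * u₁⁻¹⁻¹ = u₁⁻¹ * (w * u₁) := by group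
      _ = w := by rw [this]; group
  have hθs : θ s = a * s := by
    show u₁⁻¹ * φ s * u₁⁻¹⁻¹ = a * s
    have hA : ⁅u₁, s⁆ ∈ Gm S 1 := ch.G1_of (by omega) (Gm_top rfl hu₁ hS')
    have e1 : ⁅u₁, s⁆ * a = a * ⁅u₁, s⁆ := (ch.zc ha hA).symm
    have e2 := ch.zc ha hu₁1
    rw [hφs, hfe, e1]
    have e3 : u₁⁻¹ * a = a * u₁⁻¹ := (Commute.inv_right (show Commute a u₁ from e2)).eq.symm
    calc u₁⁻¹ * (a * ⁅u₁, s⁆ * s) * u₁⁻¹⁻¹ = (u₁⁻¹ * a) * (⁅u₁, s⁆ * s) * u₁⁻¹⁻¹ := by group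
      _ = a * (u₁⁻¹ * (⁅u₁, s⁆ * s) * u₁⁻¹⁻¹) := by rw [e3]; group
      _ = a * s := by
        congr 1
        simp only [commutatorElement_def]
        group
  obtain ⟨j, k', hjk⟩ := fr.AA_gen (ch.hAA' a ha)
  have hθs' : θ s = s * c ^ j * w ^ k' := by
    rw [hθs, (fr.com (ch.G_le_E ha) fr.hs).eq, hjk, mul_assoc]
  obtain ⟨k, hk⟩ := fr.U (hθ.restrict hER) hθc ⟨0, by rw [hθw]; simp⟩ ⟨j, k', hθs'⟩
  obtain ⟨g, hg, -, hgf⟩ := maps_agree fr.hS fr.hF (φ := fun x => z ^ k * x * (z ^ k)⁻¹) (Maps.conj hRS (S.zpow_mem fr.hz k)) E hER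
    fr.hE.1 θ hθ (fun x hx => (hk x hx).symm)
  refine ⟨u₁ * z ^ k, Subgroup.mul_mem _ hu₁ (Subgroup.zpow_mem _ (Gm_anti (by omega) ch.hz) _), g, hg, fun x hx => ?_⟩
  rw [← hφx x hx]
  have e : φ (α x) = u₁ * θ (α x) * u₁⁻¹ := by
    show _ = u₁ * (u₁⁻¹ * φ (α x) * u₁⁻¹⁻¹) * u₁⁻¹
    group
  rw [e, hgf (α x) (hαR x hx)]
  group

/-- The chain property. -/
def PP (F : FusionSystem S) (S : Subgroup Ω) (s c w : Ω) (i : ℕ) : Prop :=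
  ∃ α, Maps F (RR S s i) α ∧ α s = s⁻¹ ∧ α c = c⁻¹ ∧ α w = w ∧ ∀ x ∈ Gm S i, α x ∈ Gm S i

/-- One step down. -/
theorem step {i : ℕ} (h1 : m ≤ i + 1) (h2 : i + 1 ≤ n - 4) (hP : PP F S s c w (i + 1)) : PP F S s c w i := by
  classical
  have hpp := hp.out
  obtain ⟨α, hα, hαs, hαc, hαw, hαG⟩ := hP
  have hm := ch.hm
  have hm3 := ch.m3
  have fr := ch.fr
  have hS' : s ∈ S := ch.sS
  have hRS : RR S s (i + 1) ≤ S := RR_le hS'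
  have hR'S : RR S s i ≤ S := RR_le hS'
  have hER : E ≤ RR S s (i + 1) := ch.E_le (by omega)
  have hsR : s ∈ RR S s (i + 1) := s_mem_RR
  have hαR := ch.maps_R hα hαs hαG
  have hc : F.IsCentric (RR S s (i + 1)) := IsCentric_mono fr.hE.1 hER hRS
  have hu : ∀ u ∈ RR S s i, ∃ u' ∈ RR S s i, ∀ x ∈ RR S s (i + 1), α (u * x * u⁻¹) = u' * α x * u'⁻¹ := by
    intro u hu
    obtain ⟨k, g, hg, rfl⟩ := (mem_RR hS').1 hu
    obtain ⟨g₀, hg₀, e, he, hC⟩ := ch.C (i := i) (by omega) h2 hα hαs hαc hαw hαG hg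
    refine ⟨(s⁻¹) ^ k * (g₀ * e), Subgroup.mul_mem _ (Subgroup.zpow_mem _ (Subgroup.inv_mem _ s_mem_RR) _)
      (Subgroup.mul_mem _ (Gm_le_RR hg₀) (ch.E_le (by omega) he)), fun x hx => ?_⟩
    have hgx : g * x * g⁻¹ ∈ RR S s (i + 1) := ch.RR_norm (Gm_le_RR hg) hx
    have e1 : s ^ k * g * x * (s ^ k * g)⁻¹ = s ^ k * (g * x * g⁻¹) * (s ^ k)⁻¹ := by group
    rw [e1, hα.map_conj (Subgroup.zpow_mem _ hsR _) hgx, hC x hx, hα.map_zpow hsR, hαs]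
    group
  obtain ⟨α', hα', h₁, h₂⟩ := ext_step fr.hS fr.hF hR'S (ch.RR_anti (Nat.le_succ i)) (fun u hu x hx => ch.RR_norm hu hx) hc hα hαR hu
  refine ⟨α', hα', by rw [h₁ s hsR, hαs], by rw [h₁ c (hER fr.hc), hαc], by rw [h₁ w (hER fr.hw), hαw], fun x hx => ?_⟩
  obtain ⟨k, h', hh', he⟩ := (mem_RR hS').1 (h₂ x (Gm_le_RR hx))
  have hGi1 : Gm S (i + 1) ≤ RR S s (i + 1) := Gm_le_RR
  have hαimg : img α (Gm S (i + 1)) = Gm S (i + 1) := by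
    haveI := finite_of_le (Gm_le (S := S) (i + 1))
    exact img_eq_of_card (hα.restrict hGi1) (Gm_le _) (Gm_le _) hαG le_rfl
  have hcomm : ∀ y ∈ Gm S (i + 1), s ^ k * y = y * s ^ k := by
    intro y hy
    rw [← hαimg] at hy
    obtain ⟨y₀, hy₀, rfl⟩ := (hα.restrict hGi1).mem_img.1 hy
    have hy₀R : y₀ ∈ RR S s i := ch.RR_anti (Nat.le_succ i) (hGi1 hy₀)
    have hxy : x * y₀ = y₀ * x := ch.h.commute_of (by omega) hx hy₀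
    have e1 : α' x * α y₀ = α y₀ * α' x := by
      rw [← h₁ y₀ (hGi1 hy₀), ← hα'.map_mul (Gm_le_RR hx) hy₀R, ← hα'.map_mul hy₀R (Gm_le_RR hx), hxy]
    have hhc : h' * α y₀ = α y₀ * h' := ch.h.commute_of (by omega) hh' (hαG y₀ hy₀)
    rw [he] at e1
    have e2 : s ^ k * α y₀ * h' = α y₀ * s ^ k * h' := by
      calc s ^ k * α y₀ * h' = s ^ k * (α y₀ * h') := by group
        _ = s ^ k * h' * α y₀ := by rw [← hhc]; group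
        _ = _ := by rw [e1]; group
    exact mul_right_cancel e2
  have hpk : (p : ℤ) ∣ k := by
    by_contra hk
    apply ch.ns (K := i + 1) (by omega) (by omega)
    refine mem_CC.2 ⟨hS', fun y hy => ?_⟩
    have h3 : s ∈ Subgroup.centralizer ({y} : Set Ω) := by
      refine mem_of_zpow_mem (p := p) (e := k) ?_ ?_ hk
      · exact Subgroup.mem_centralizer_singleton_iff.2 (hcomm y hy)
      · rw [fr.el s fr.hs]
        exact Subgroup.one_mem _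
    have h4 := Subgroup.mem_centralizer_singleton_iff.1 h3
    have h5 : ⁅y, s⁆ = 1 := by
      rw [commutatorElement_eq_one_iff_mul_comm]
      exact h4.symm
    rw [h5]
    exact Subgroup.one_mem _
  rw [he, zpow_eq_one_of_dvd (fr.el s fr.hs) hpk, one_mul]
  exact hh'

/-- Building the data of a conjugating element. -/
lemma VD_of {k : ℕ} (hL : ∀ x ∈ Gm S k, ∃ j : ZMod p, Rep E z s 0 j x) (hcard : Nat.card (Gm S k) = p ^ 3) {v : Ω} (hv : v ∈ S)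
    (hvQ : v ∉ normalizerIn S E) (hvs : ⁅v, s⁆ ∈ Gm S k) (hvz : ⁅v, z⁆ ∈ AA E z) (hva : ∀ a ∈ AA E z, v * a * v⁻¹ ∈ AA E z) :
    Frame.VD S E z s p (Gm S k) v := by
  have fr := ch.fr
  obtain ⟨j, hj⟩ := hL _ hvs
  have h1 : Rep (p := p) E z s 1 j (v * s * v⁻¹) := by
    have e : v * s * v⁻¹ = ⁅v, s⁆ * s := by
      simp only [commutatorElement_def]
      group
    have := fr.Rep_mul hj fr.Rep_s
    rw [e]
    convert this using 1 <;> ring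
  have h2 : Rep (p := p) E z s 0 1 (v * z * v⁻¹) := by
    have e : v * z * v⁻¹ = ⁅v, z⁆ * z := by
      simp only [commutatorElement_def]
      group
    have := fr.Rep_mul (fr.Rep_AA hvz) fr.Rep_z
    rw [e]
    convert this using 1 <;> ring
  refine ⟨Gm_le k, fun g hg x hx => Gm_conj hx hg, hcard, hL, hv, hvQ, fun x hx => ?_, ⟨j, h1⟩, h2, hva⟩
  obtain ⟨u, x', hu⟩ := fr.Rep_exists hx
  exact fr.Q_of_Rep (fr.Rep_map (f := fun x => v * x * v⁻¹) (Maps.conj fr.Q_le hv) h1 h2 (fun a ha => fr.Rep_AA (hva a ha)) hu)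

/-- Elements of `Γ_{n-4}`. -/
lemma G4_rep {x : Ω} (hx : x ∈ Gm S (n - 4)) : ∃ t : ℤ, ∃ a ∈ Gm S (n - 3), x = z ^ t * a := by
  have hm := ch.hm
  have hm3 := ch.m3
  have hz' : z ∉ Gm S (n - 3) := fun hc => ch.fr.hzE (ch.G_le_E hc)
  have e : n - 4 + 1 = n - 3 := by omega
  rw [← e] at hz' ⊢
  exact ch.h.level_gen (by omega) (by omega) ch.hz hz' hx

lemma G4_Rep {x : Ω} (hx : x ∈ Gm S (n - 4)) : ∃ j : ZMod p, Rep E z s 0 j x := by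
  obtain ⟨t, a, ha, rfl⟩ := ch.G4_rep hx
  exact ⟨_, 0, t, by simp, rfl, a, ch.hAA' a ha, by simp⟩

/-- The base of the descent. -/
theorem base : PP F S s c w (n - 4) := by
  classical
  have hm := ch.hm
  have hm3 := ch.m3
  have fr := ch.fr
  have hS' : s ∈ S := ch.sS
  obtain ⟨f₀, hf₀, e1, e2, e3⟩ := fr.exists_t
  have cs := fr.csc
  obtain ⟨t, ht, htE, htQ⟩ := fr.ext_Q hf₀ (ℓ := 1)
    (by
      rw [hf₀.map_mul fr.hc fr.hs, e1, e2, zpow_one]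
      have := fr.zs
      calc c⁻¹ * s⁻¹ = (c * s)⁻¹ := by rw [mul_inv_rev, (cs.inv_inv).eq]
        _ = (z * s * z⁻¹)⁻¹ := by rw [this]
        _ = _ := by group)
    (by
      rw [e2, zpow_one]
      have := fr.zc
      calc c⁻¹ = (z * c * z⁻¹)⁻¹ := by rw [this]
        _ = _ := by group)
    (by
      rw [e3, zpow_one, fr.zw])
    (by rw [e1]; exact E.inv_mem fr.hs) (by rw [e2]; exact E.inv_mem fr.hc) (by rw [e3]; exact fr.hw)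
  obtain ⟨v, hv, hv'⟩ := ch.h.exists_level (i := n - 5) (by omega) (by omega)
  have e4 : n - 5 + 1 = n - 4 := by omega
  rw [e4] at hv'
  have hvS : v ∈ S := Gm_le _ hv
  have hv1 : v ∈ Gm S 1 := Gm_anti (by omega) hv
  have hvQ : v ∉ normalizerIn S E := by
    intro hc
    obtain ⟨u, x', i, j, -, -, a, ha, he⟩ := fr.Rep_exists hc
    have haG := ch.hAA a ha
    have hzj : z ^ j ∈ Gm S (n - 4) := Subgroup.zpow_mem _ ch.hz _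
    have haG4 : a ∈ Gm S (n - 4) := Gm_anti (by omega) haG
    have hrest : z ^ j * a ∈ Gm S (n - 4) := Subgroup.mul_mem _ hzj haG4
    have hsi : s ^ i ∈ Gm S 1 := by
      have e5 : s ^ i = v * (z ^ j * a)⁻¹ := by rw [he]; group
      rw [e5]
      exact Subgroup.mul_mem _ hv1 (Subgroup.inv_mem _ (Gm_anti (by omega) hrest))
    have hpi : (p : ℤ) ∣ i := by
      by_contra hc2
      apply ch.hs2
      apply Gm_one_le_CC
      refine mem_of_zpow_mem hsi ?_ hc2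
      rw [fr.el s fr.hs]
      exact Subgroup.one_mem _
    apply hv'
    rw [he, zpow_eq_one_of_dvd (fr.el s fr.hs) hpi, one_mul]
    exact hrest
  have hcardL : Nat.card (Gm S (n - 4)) = p ^ 3 := by
    rw [ch.h.card_Gm (by omega) (by omega)]
    congr 1
    omega
  have hvz : ⁅v, z⁆ ∈ AA E z := ch.hAA' _ (Gm_anti (by omega) (Gm_comm rfl hv ch.hz))
  have hva : ∀ a ∈ AA E z, v * a * v⁻¹ ∈ AA E z := fun a ha => ch.hAA' _ (Gm_conj (ch.hAA a ha) hvS)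
  have hvs : ⁅v, s⁆ ∈ Gm S (n - 4) := by
    have := Gm_top (a := n - 5) (c := n - 4) (by omega) hv hS'
    exact this
  have vd := ch.VD_of (fun x hx => ch.G4_Rep hx) hcardL hvS hvQ hvs hvz hva
  have htA : ∀ a ∈ AA E z, t a ∈ AA E z := by
    intro a ha
    obtain ⟨j, k, rfl⟩ := fr.AA_gen ha
    have hcQ := fr.E_le_Q fr.hc
    have hwQ := fr.E_le_Q fr.hw
    rw [ht.map_mul (Subgroup.zpow_mem _ hcQ _) (Subgroup.zpow_mem _ hwQ _), ht.map_zpow hcQ, ht.map_zpow hwQ, htE c fr.hc, htE w fr.hw, e2, e3]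
    exact (AA E z).mul_mem ((AA E z).zpow_mem ((AA E z).inv_mem fr.c_AA) _) ((AA E z).zpow_mem fr.w_AA _)
  obtain ⟨lam, hlam⟩ := fr.L_inv vd ht htQ (by rw [htE s fr.hs, e1]; exact E.inv_mem fr.hs) htA
  have hRQ : RR S s (n - 4) ≤ normalizerIn S E := by
    refine sup_le ((Subgroup.zpowers_le).2 (fr.E_le_Q fr.hs)) (fun g hg => ?_)
    obtain ⟨j, hj⟩ := ch.G4_Rep hg
    exact fr.Q_of_Rep hj
  have hzQ := fr.z_mem_Q
  refine ⟨t, ht.restrict hRQ, by rw [htE s fr.hs, e1], by rw [htE c fr.hc, e2], by rw [htE w fr.hw, e3], fun x hx => ?_⟩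
  obtain ⟨τ, a, ha, rfl⟩ := ch.G4_rep hx
  have haQ : a ∈ normalizerIn S E := fr.E_le_Q (ch.G_le_E ha)
  rw [ht.map_mul (Subgroup.zpow_mem _ hzQ _) haQ, ht.map_zpow hzQ]
  obtain ⟨j', -, a', ha', he⟩ := fr.Rep_zero hlam
  rw [he]
  exact Subgroup.mul_mem _ (Subgroup.zpow_mem _ (Subgroup.mul_mem _ (Subgroup.zpow_mem _ ch.hz _) (Gm_anti (by omega) (ch.hAA a' ha'))) _)
    (Gm_anti (by omega) (ch.hAA _ (htA a (ch.hAA' a ha))))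

theorem descent : ∀ d i, i + d = n - 4 → m ≤ i + 1 → PP F S s c w i := by
  intro d
  induction d with
  | zero =>
    intro i hi _
    have : i = n - 4 := by omega
    rw [this]
    exact ch.base
  | succ d ih =>
    intro i hi h1
    exact ch.step h1 (by omega) (ih (i + 1) (by omega) (by omega))


lemma pair_mul {i : ℕ} (hmi : m = i + 2) {t₁ t₂ b₁ b₂ : Ω} (ht₁ : t₁ ∈ Gm S i) (ht₂ : t₂ ∈ Gm S i) (hb₁ : b₁ ∈ Gm S (i + 1))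
    (hb₂ : b₂ ∈ Gm S (i + 1)) (h₁ : ⁅t₁, s⁻¹⁆ * b₁ ∈ Gm S (i + 2)) (h₂ : ⁅t₂, s⁻¹⁆ * b₂ ∈ Gm S (i + 2)) :
    ⁅t₁ * t₂, s⁻¹⁆ * (b₁ * b₂) ∈ Gm S (i + 2) := by
  have hm := ch.hm
  have hm3 := ch.m3
  have hS' := S.inv_mem ch.sS
  have hA₁ : ⁅t₁, s⁻¹⁆ ∈ Gm S (i + 1) := Gm_top rfl ht₁ hS'
  have hA₂ : ⁅t₂, s⁻¹⁆ ∈ Gm S (i + 1) := Gm_top rfl ht₂ hS'
  have hκ : ⁅t₁, ⁅t₂, s⁻¹⁆⁆ ∈ Gm S (i + 2) := Gm_anti (by omega) (Gm_comm rfl ht₁ hA₂)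
  have e : ⁅t₁ * t₂, s⁻¹⁆ = ⁅t₁, ⁅t₂, s⁻¹⁆⁆ * ⁅t₂, s⁻¹⁆ * ⁅t₁, s⁻¹⁆ := by
    simp only [commutatorElement_def]
    group
  rw [e, rearr (ch.h.commute_of (by omega) (Subgroup.mul_mem _ hA₁ hb₁) hb₂)]
  exact Subgroup.mul_mem _ (Subgroup.mul_mem _ hκ h₂) h₁

lemma pair_inv {i : ℕ} (hmi : m = i + 2) {t b : Ω} (ht : t ∈ Gm S i) (hb : b ∈ Gm S (i + 1)) (h₁ : ⁅t, s⁻¹⁆ * b ∈ Gm S (i + 2)) :
    ⁅t⁻¹, s⁻¹⁆ * b⁻¹ ∈ Gm S (i + 2) := by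
  have hm := ch.hm
  have hm3 := ch.m3
  have hS' := S.inv_mem ch.sS
  have hA : ⁅t, s⁻¹⁆ ∈ Gm S (i + 1) := Gm_top rfl ht hS'
  have hti := Subgroup.inv_mem _ ht
  have hAi := Subgroup.inv_mem _ hA
  have hκ : ⁅t⁻¹, ⁅t, s⁻¹⁆⁻¹⁆ ∈ Gm S (i + 2) := Gm_anti (by omega) (Gm_comm rfl hti hAi)
  have e : ⁅t⁻¹, s⁻¹⁆ = ⁅t⁻¹, ⁅t, s⁻¹⁆⁻¹⁆ * ⁅t, s⁻¹⁆⁻¹ := by
    simp only [commutatorElement_def]
    group
  have hc : ⁅t, s⁻¹⁆⁻¹ * b⁻¹ = (⁅t, s⁻¹⁆ * b)⁻¹ := by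
    rw [mul_inv_rev]
    exact (ch.h.commute_of (by omega) hAi (Subgroup.inv_mem _ hb))
  rw [e, mul_assoc, hc]
  exact Subgroup.mul_mem _ hκ (Subgroup.inv_mem _ h₁)

lemma pair_zpow {i : ℕ} (hmi : m = i + 2) {v x : Ω} (hv : v ∈ Gm S i) (hx : x ∈ Gm S (i + 1)) (h₁ : ⁅v, s⁻¹⁆ * x ∈ Gm S (i + 2)) (μ : ℤ) :
    ⁅v ^ μ, s⁻¹⁆ * x ^ μ ∈ Gm S (i + 2) := by
  induction μ using Int.induction_on with
  | zero => simp [Subgroup.one_mem]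
  | succ k ih =>
    rw [zpow_add_one, zpow_add_one]
    exact ch.pair_mul hmi (Subgroup.zpow_mem _ hv _) hv (Subgroup.zpow_mem _ hx _) hx ih h₁
  | pred k ih =>
    rw [zpow_sub_one, zpow_sub_one]
    exact ch.pair_mul hmi (Subgroup.zpow_mem _ hv _) (Subgroup.inv_mem _ hv) (Subgroup.zpow_mem _ hx _) (Subgroup.inv_mem _ hx) ih
      (ch.pair_inv hmi hv hx h₁)

lemma zt_conj (t : ℤ) {x : Ω} (hx : x ∈ E) : ∃ r : ℤ, z ^ t * x * (z ^ t)⁻¹ = c ^ r * x := by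
  have fr := ch.fr
  obtain ⟨a, b, d, rfl⟩ := fr.gen x hx
  refine ⟨t * a, ?_⟩
  have e1 := fr.zs_pow a t
  have e2 := fr.zcomm_c t b
  have e3 := fr.zcomm_w t d
  calc z ^ t * (s ^ a * c ^ b * w ^ d) * (z ^ t)⁻¹ = z ^ t * s ^ a * ((z ^ t)⁻¹ * (z ^ t * c ^ b)) * ((z ^ t)⁻¹ * (z ^ t * w ^ d)) * (z ^ t)⁻¹ := by group
    _ = (z ^ t * s ^ a * (z ^ t)⁻¹) * c ^ b * w ^ d := by rw [e2, e3]; group
    _ = _ := by rw [e1]; group

lemma E_G4 {g y : Ω} (hg : g ∈ E) (hy : y ∈ Gm S (n - 4)) : ⁅g, y⁆ ∈ Subgroup.zpowers c := by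
  have fr := ch.fr
  obtain ⟨t, a, ha, rfl⟩ := ch.G4_rep hy
  have haE := ch.G_le_E ha
  obtain ⟨r, hr⟩ := ch.zt_conj t (E.inv_mem hg)
  have e1 : g⁻¹ * a = a * g⁻¹ := (fr.com (E.inv_mem hg) haE).eq
  have e2 : g * c ^ r = c ^ r * g := (fr.com hg (E.zpow_mem fr.hc r)).eq
  have e : ⁅g, z ^ t * a⁆ = c ^ r := by
    calc ⁅g, z ^ t * a⁆ = g * z ^ t * (a * g⁻¹) * a⁻¹ * (z ^ t)⁻¹ := by
          simp only [commutatorElement_def]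
          group
      _ = g * (z ^ t * g⁻¹ * (z ^ t)⁻¹) := by rw [← e1]; group
      _ = g * (c ^ r * g⁻¹) := by rw [hr]
      _ = c ^ r := by rw [← mul_assoc, e2]; group
  rw [e]
  exact ⟨r, rfl⟩

/-- The final contradiction. -/
theorem final {i : ℕ} (hmi : m = i + 2) (hP : PP F S s c w (i + 1)) : False := by
  classical
  have hpp := hp.out
  obtain ⟨α, hα, hαs, hαc, hαw, hαG⟩ := hP
  have hm := ch.hm
  have hm3 := ch.m3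
  have fr := ch.fr
  have h := ch.h
  have hS' : s ∈ S := ch.sS
  have hi1 : 1 ≤ i := by omega
  have hn : n = 2 * i + 4 := by omega
  have hRS : RR S s (i + 1) ≤ S := RR_le hS'
  have hER : E ≤ RR S s (i + 1) := ch.E_le (by omega)
  have hsR : s ∈ RR S s (i + 1) := s_mem_RR
  have hαR := ch.maps_R hα hαs hαG
  obtain ⟨v, hv, hv'⟩ := h.exists_level (i := i) hi1 (by omega)
  have hvS : v ∈ S := Gm_le i hv
  obtain ⟨x, hxe⟩ : ∃ x, x = ⁅v, s⁆ := ⟨_, rfl⟩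
  have hx : x ∈ Gm S (i + 1) := hxe ▸ Gm_top rfl hv hS'
  have hx' : x ∉ Gm S (i + 2) := fun hc =>
    ch.ns hi1 (by omega) (h.level_cent hi1 (by omega) hv hv' hS' (hxe ▸ hc))
  obtain ⟨d, hde⟩ : ∃ d, d = ⁅v, x⁆ := ⟨_, rfl⟩
  have hd : d ∈ Gm S (n - 2) := hde ▸ Gm_comm (a := i) (b := i + 1) (by omega) hv hx
  have hd1 : d ≠ 1 := by
    obtain ⟨y', h1, h2⟩ := ch.hy
    rw [hde]
    exact h.pairing h1 h2 (j := i) (i := i + 1) hi1 (by omega) (by omega) hv hv' hx hx'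
  have hdG : d ∈ Gm S (n - 3) := Gm_anti (by omega) hd
  have hdE : d ∈ E := ch.G_le_E hdG
  have hdp : d ^ p = 1 := fr.el d hdE
  have hdv : v * d = d * v := (h.commute_of (a := n - 2) (b := 0) (by omega) hd (mem_zero hvS)).symm
  have hdx : d * x = x * d := h.commute_of (a := n - 2) (b := 0) (by omega) hd (mem_zero (Gm_le _ hx))
  obtain ⟨u₀, hu₀, g, hg, hC⟩ := ch.C (i := i) (by omega) (by omega) hα hαs hαc hαw hαG hv
  have hu₀S : u₀ ∈ S := Gm_le i hu₀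
  obtain ⟨y, hye⟩ : ∃ y, y = α x := ⟨_, rfl⟩
  have hy : y ∈ Gm S (i + 1) := hye ▸ hαG x hx
  -- (1)
  have e1 : y = ⁅u₀, s⁻¹⁆ := by
    have h1 := hC s hsR
    have h2 : v * s * v⁻¹ = x * s := by
      rw [hxe]
      simp only [commutatorElement_def]
      group
    rw [h2, hα.map_mul (Gm_le_RR hx) hsR, hαs, ← hye] at h1
    have h3 : g * s⁻¹ = s⁻¹ * g := (fr.com hg (E.inv_mem fr.hs)).eq
    have h4 : (u₀ * g) * s⁻¹ * (u₀ * g)⁻¹ = u₀ * s⁻¹ * u₀⁻¹ := by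
      calc (u₀ * g) * s⁻¹ * (u₀ * g)⁻¹ = u₀ * (g * s⁻¹) * g⁻¹ * u₀⁻¹ := by group
        _ = _ := by rw [h3]; group
    rw [h4] at h1
    simp only [commutatorElement_def]
    calc y = y * s⁻¹ * s := by group
      _ = _ := by rw [h1]; group
  -- (2)
  have e2 : α d * y = (u₀ * g) * y * (u₀ * g)⁻¹ := by
    have h1 := hC x (Gm_le_RR hx)
    have h2 : v * x * v⁻¹ = d * x := by
      rw [hde]
      simp only [commutatorElement_def]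
      group
    rw [h2, hα.map_mul (ch.E_le (by omega) hdE) (Gm_le_RR hx), ← hye] at h1
    exact h1
  -- `α` preserves `Γ_{i+2}`
  have hαG2 : ∀ f ∈ Gm S (i + 2), α f ∈ Gm S (i + 2) := by
    intro f hf
    obtain ⟨u₁, hu₁, a, ha, rfl⟩ := ch.D' (i := i + 1) (by omega) (by omega) hf
    have hcm : ⁅u₁, s⁆ ∈ Gm S (i + 1 + 1) := Gm_top rfl hu₁ hS'
    have hu₁R : u₁ ∈ RR S s (i + 1) := Gm_le_RR hu₁
    have haR : a ∈ RR S s (i + 1) := ch.E_le (by omega) (ch.G_le_E ha)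
    have hcmR : ⁅u₁, s⁆ ∈ RR S s (i + 1) := Gm_le_RR (Gm_anti (by omega) hcm)
    rw [hα.map_mul hcmR haR]
    have e : α ⁅u₁, s⁆ = ⁅α u₁, s⁻¹⁆ := by
      simp only [commutatorElement_def]
      rw [hα.map_mul (Subgroup.mul_mem _ (Subgroup.mul_mem _ hu₁R hsR) (Subgroup.inv_mem _ hu₁R)) (Subgroup.inv_mem _ hsR),
        hα.map_conj hu₁R hsR, hα.map_inv hsR, hαs]
    rw [e]
    exact Subgroup.mul_mem _ (Gm_top rfl (hαG u₁ hu₁) (S.inv_mem hS'))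
      (Gm_anti (by omega) (ch.alpha_G (by omega) hα hαc hαw ha))
  have hy' : y ∉ Gm S (i + 2) := by
    intro hc
    have hG2R : Gm S (i + 2) ≤ RR S s (i + 1) := (Gm_anti (by omega)).trans Gm_le_RR
    haveI := finite_of_le (Gm_le (S := S) (i + 2))
    have himg : img α (Gm S (i + 2)) = Gm S (i + 2) :=
      img_eq_of_card (hα.restrict hG2R) (Gm_le _) (Gm_le _) hαG2 le_rfl
    rw [← himg] at hc
    obtain ⟨x₁, hx₁, hx₁e⟩ := (hα.restrict hG2R).mem_img.1 hc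
    have : x = x₁ := hα.inj (Gm_le_RR hx) (hG2R hx₁) (by rw [hx₁e, hye])
    exact hx' (this ▸ hx₁)
  obtain ⟨k, hke⟩ : ∃ k, k = ⁅g, y⁆ := ⟨_, rfl⟩
  have e3 : α d = (u₀ * k * u₀⁻¹) * ⁅u₀, y⁆ := by
    have h1 : (u₀ * g) * y * (u₀ * g)⁻¹ = (u₀ * k * u₀⁻¹) * ⁅u₀, y⁆ * y := by
      rw [hke]
      simp only [commutatorElement_def]
      group
    rw [h1] at e2
    exact mul_right_cancel e2
  have hu₀y : ⁅u₀, y⁆ ∈ Gm S (n - 2) := Gm_comm (by omega) hu₀ hy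
  have hαd : α d ∈ Gm S (n - 3) := ch.alpha_G (by omega) hα hαc hαw hdG
  have hcz : Subgroup.zpowers c ≤ Gm S (n - 3) := Subgroup.zpowers_le.2 ch.cG
  -- `k` is a power of `c`
  have hk : k ∈ Subgroup.zpowers c := by
    by_cases hm4 : m = 3
    · have hyG4 : y ∈ Gm S (n - 4) := by
        have : n - 4 = i + 1 := by omega
        rw [this]
        exact hy
      rw [hke]
      exact ch.E_G4 hg hyG4
    · have hkG : k ∈ Gm S (n - 3) := by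
        have h1 : u₀ * k * u₀⁻¹ ∈ Gm S (n - 3) := by
          have e : u₀ * k * u₀⁻¹ = α d * ⁅u₀, y⁆⁻¹ := by rw [e3]; group
          rw [e]
          exact Subgroup.mul_mem _ hαd (Subgroup.inv_mem _ (Gm_anti (by omega) hu₀y))
        have h2 := Gm_conj h1 (S.inv_mem hu₀S)
        have e : u₀⁻¹ * (u₀ * k * u₀⁻¹) * u₀⁻¹⁻¹ = k := by group
        rwa [e] at h2
      have hyg : ⁅y, g⁆ ∈ Gm S (i + 1 + 2) := by
        have : ⁅y, g⁆ ∈ Gm S (n - 3) := comm_symm (hke ▸ hkG)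
        exact Gm_anti (by omega) this
      have hgC : g ∈ CC S (i + 1) := h.level_cent (i := i + 1) (by omega) (by omega) hy hy' (fr.hES hg) hyg
      rw [h.CC_eq (K := i + 1) (by omega) (by omega)] at hgC
      obtain ⟨e', j, k', hgE⟩ := fr.gen g hg
      have ha₂ : c ^ j * w ^ k' ∈ Gm S (n - 3) := Subgroup.mul_mem _ (Subgroup.zpow_mem _ ch.cG _) (Subgroup.zpow_mem _ ch.wG _)
      have hse : s ^ e' ∈ CC S 1 := by
        have e : s ^ e' = g * (c ^ j * w ^ k')⁻¹ := by rw [hgE]; group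
        rw [e]
        exact Subgroup.mul_mem _ hgC (Subgroup.inv_mem _ (Gm_one_le_CC 1 (Gm_anti (by omega) ha₂)))
      have hpe : (p : ℤ) ∣ e' := by
        by_contra hc
        apply ch.hs2
        refine mem_of_zpow_mem hse ?_ hc
        rw [fr.el s fr.hs]
        exact Subgroup.one_mem _
      have hgG : g ∈ Gm S (n - 3) := by
        rw [hgE, zpow_eq_one_of_dvd (fr.el s fr.hs) hpe, one_mul]
        exact ha₂
      have : k = 1 := by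
        rw [hke]
        exact h.comm_eq_one (by omega) hgG hy
      rw [this]
      exact Subgroup.one_mem _
  have hkG : k ∈ Gm S (n - 3) := hcz hk
  have e4 : u₀ * k * u₀⁻¹ = k := by
    have := ch.zc hkG (ch.G1_of hi1 hu₀)
    rw [← this]
    group
  rw [e4] at e3
  -- the exponent
  obtain ⟨μ, h', hh', hu₀e⟩ := h.level_gen hi1 (by omega) hv hv' hu₀
  have hrS := S.inv_mem hS'
  have hpair0 : ⁅v, s⁻¹⁆ * x ∈ Gm S (i + 2) := by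
    have e : ⁅v, s⁻¹⁆ * x = ⁅s⁻¹, x⁻¹⁆ := by
      rw [hxe]
      simp only [commutatorElement_def]
      group
    rw [e]
    exact comm_symm (Gm_top rfl (Subgroup.inv_mem _ hx) hrS)
  have hpair1 := ch.pair_zpow hmi hv hx hpair0 μ
  have hpair2 : ⁅h', s⁻¹⁆ * 1 ∈ Gm S (i + 2) := by
    rw [mul_one]
    exact Gm_top rfl hh' hrS
  have hpair3 := ch.pair_mul hmi (Subgroup.zpow_mem _ hv _) (Gm_anti (Nat.le_succ i) hh') (Subgroup.zpow_mem _ hx _) (Subgroup.one_mem _) hpair1 hpair2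
  rw [← hu₀e, ← e1, mul_one] at hpair3
  -- `y''`
  have hxμ : x ^ μ ∈ Gm S (i + 1) := Subgroup.zpow_mem _ hx _
  have hcomm11 : ∀ {a b : Ω}, a ∈ Gm S (i + 1) → b ∈ Gm S (i + 1) → a * b = b * a := fun ha hb => h.commute_of (by omega) ha hb
  obtain ⟨y₂, hy₂e⟩ : ∃ y₂, y₂ = y * x ^ μ := ⟨_, rfl⟩
  have hy₂ : y₂ ∈ Gm S (i + 2) := hy₂e ▸ hpair3
  have hy₂1 : y₂ ∈ Gm S (i + 1) := Gm_anti (Nat.le_succ _) hy₂
  have hyf : y = x ^ (-μ) * y₂ := by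
    rw [hy₂e, hcomm11 hy hxμ, zpow_neg]
    group
  -- the commutator
  have e5 : ⁅u₀, y⁆ = d ^ (μ * (-μ)) := by
    have hc1 : h' * y = y * h' := hcomm11 hh' hy
    have hc2 : v ^ μ * y₂ = y₂ * v ^ μ := h.commute_of (by omega) (Subgroup.zpow_mem _ hv _) hy₂
    have e6 : ⁅u₀, y⁆ = v ^ μ * y * (v ^ μ)⁻¹ * y⁻¹ := by
      rw [hu₀e]
      simp only [commutatorElement_def]
      calc v ^ μ * h' * y * (v ^ μ * h')⁻¹ * y⁻¹ = v ^ μ * (h' * y) * h'⁻¹ * (v ^ μ)⁻¹ * y⁻¹ := by group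
        _ = _ := by rw [hc1]; group
    have e7 : v ^ μ * y * (v ^ μ)⁻¹ * y⁻¹ = v ^ μ * x ^ (-μ) * (v ^ μ)⁻¹ * (x ^ (-μ))⁻¹ := by
      rw [hyf]
      calc v ^ μ * (x ^ (-μ) * y₂) * (v ^ μ)⁻¹ * (x ^ (-μ) * y₂)⁻¹
          = v ^ μ * x ^ (-μ) * (y₂ * (v ^ μ)⁻¹) * y₂⁻¹ * (x ^ (-μ))⁻¹ := by group
        _ = v ^ μ * x ^ (-μ) * ((v ^ μ)⁻¹ * (v ^ μ * y₂) * (v ^ μ)⁻¹) * y₂⁻¹ * (x ^ (-μ))⁻¹ := by group
        _ = v ^ μ * x ^ (-μ) * ((v ^ μ)⁻¹ * (y₂ * v ^ μ) * (v ^ μ)⁻¹) * y₂⁻¹ * (x ^ (-μ))⁻¹ := by rw [hc2]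
        _ = _ := by group
    rw [e6, e7]
    have hvx : v * x * v⁻¹ = d * x := by
      rw [hde]
      simp only [commutatorElement_def]
      group
    exact bil hvx hdv hdx μ (-μ)
  -- `μ² = 1`
  have hαα : Maps F (RR S s (i + 1)) (α ∘ α) := hα.comp hα hαR
  have hagree : ∀ x ∈ E, (_root_.id x) = (α ∘ α) x := by
    refine fr.ext_gen (Maps.id fr.hES) (hαα.restrict hER) ?_ ?_ ?_
    · show s = α (α s)
      rw [hαs, hα.map_inv hsR, hαs, inv_inv]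
    · show c = α (α c)
      rw [hαc, hα.map_inv (hER fr.hc), hαc, inv_inv]
    · show w = α (α w)
      rw [hαw, hαw]
  obtain ⟨g₂, hg₂, -, hg₂f⟩ := maps_agree fr.hS fr.hF (Maps.id hRS) E hER fr.hE.1 (α ∘ α) hαα hagree
  have e8 : α y = g₂ * x * g₂⁻¹ := by
    rw [hye]
    exact hg₂f x (Gm_le_RR hx)
  have hxzR : x ^ (-μ) ∈ RR S s (i + 1) := Gm_le_RR (Subgroup.zpow_mem _ hx _)
  have hy₂R : y₂ ∈ RR S s (i + 1) := Gm_le_RR hy₂1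
  have e9 : α y = x ^ (μ * μ) * (y₂ ^ (-μ) * α y₂) := by
    have hcxy : Commute (x ^ (-μ)) y₂ := hcomm11 (Subgroup.zpow_mem _ hx _) hy₂1
    conv_lhs => rw [hyf]
    rw [hα.map_mul hxzR hy₂R, hα.map_zpow (Gm_le_RR hx), ← hye, hyf, hcxy.mul_zpow, ← zpow_mul, mul_assoc]
    congr 2
    ring
  have hY : y₂ ^ (-μ) * α y₂ ∈ Gm S (i + 2) := Subgroup.mul_mem _ (Subgroup.zpow_mem _ hy₂ _) (hαG2 y₂ hy₂)
  have e10 : x ^ (μ * μ - 1) ∈ Gm S (i + 2) := by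
    have h1 : x ^ (μ * μ) = g₂ * x * g₂⁻¹ * (y₂ ^ (-μ) * α y₂)⁻¹ := by
      rw [← e8, e9]
      group
    have h2 : x ^ (μ * μ - 1) = x⁻¹ * x ^ (μ * μ) := by
      rw [zpow_sub_one]
      exact ((Commute.refl x).zpow_left (μ * μ)).inv_right.eq
    rw [h2, h1]
    have h3 : ⁅x⁻¹, g₂⁆ ∈ Gm S (i + 2) := Gm_top rfl (Subgroup.inv_mem _ hx) (fr.hES hg₂)
    have h4 : x⁻¹ * (g₂ * x * g₂⁻¹ * (y₂ ^ (-μ) * α y₂)⁻¹) = ⁅x⁻¹, g₂⁆ * (y₂ ^ (-μ) * α y₂)⁻¹ := by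
      generalize (y₂ ^ (-μ) * α y₂)⁻¹ = Y
      simp only [commutatorElement_def]
      group
    rw [h4]
    exact Subgroup.mul_mem _ h3 (Subgroup.inv_mem _ hY)
  have hdvd : (p : ℤ) ∣ μ * μ - 1 := by
    by_contra hc
    exact hx' (mem_of_zpow_mem e10 (h.pow_level (k := i + 1) (by omega) (by omega) hx) hc)
  have e11 : d ^ (μ * μ) = d := by
    have := zpow_congr' hdp hdvd
    rwa [zpow_one] at this
  have e12 : α d = k * d⁻¹ := by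
    rw [e3, e5]
    congr 1
    have : μ * (-μ) = -(μ * μ) := by ring
    rw [this, zpow_neg, e11]
  -- the contradiction
  obtain ⟨a, b, hab⟩ := fr.AA_gen (ch.hAA' d hdG)
  obtain ⟨κ, hκ⟩ := hk
  have hκ' : k = c ^ κ := hκ.symm
  have hαab : α d = c ^ (-a) * w ^ b := by
    rw [hab]
    exact ch.alpha_A (by omega) hα hαc hαw a b
  have hcw : Commute c w := fr.com fr.hc fr.hw
  have e13 : w ^ (2 * b) = c ^ κ := by
    have h1 : c ^ (-a) * w ^ b = c ^ κ * (c ^ a * w ^ b)⁻¹ := by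
      rw [← hαab, e12, hκ', hab]
    have h2 : (c ^ a * w ^ b) * (c ^ (-a) * w ^ b) = c ^ κ := by
      rw [h1]
      have hcc : Commute (c ^ a * w ^ b) (c ^ κ) :=
        ((Commute.refl c).zpow_zpow a κ).mul_left ((hcw.symm).zpow_zpow b κ)
      rw [← mul_assoc, hcc.eq]
      group
    have h3 : (c ^ a * w ^ b) * (c ^ (-a) * w ^ b) = w ^ (2 * b) := by
      have h4 : w ^ b * c ^ (-a) = c ^ (-a) * w ^ b := (hcw.symm.zpow_zpow b (-a)).eq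
      calc (c ^ a * w ^ b) * (c ^ (-a) * w ^ b) = c ^ a * (w ^ b * c ^ (-a)) * w ^ b := by group
        _ = c ^ a * (c ^ (-a) * w ^ b) * w ^ b := by rw [h4]
        _ = (c ^ a * c ^ (-a)) * (w ^ b * w ^ b) := by group
        _ = _ := by
          rw [← zpow_add, ← zpow_add]
          simp only [add_neg_cancel, zpow_zero, one_mul]
          congr 1
          ring
    rw [← h3, h2]
  have hdvd2 : (p : ℤ) ∣ 2 * b := by
    have := fr.ind 0 (-κ) (2 * b) (by rw [e13, zpow_neg]; simp)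
    exact this.2.2
  have hpb : (p : ℤ) ∣ b := by
    have hpI : Prime (p : ℤ) := Nat.prime_iff_prime_int.1 hpp
    rcases hpI.dvd_or_dvd hdvd2 with h2 | h2
    · have h3 : p ∣ 2 := by exact_mod_cast h2
      have := Nat.le_of_dvd (by norm_num) h3
      have := fr.p5
      omega
    · exact h2
  apply hd1
  apply ch.hZ1 d hd
  rw [hab, zpow_eq_one_of_dvd (fr.el w fr.hw) hpb, mul_one]
  exact ⟨a, rfl⟩

/-- **The descent is impossible.** -/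
theorem main_false : False := by
  have hm := ch.hm
  have hm3 := ch.m3
  obtain ⟨i, hi⟩ : ∃ i, m = i + 2 := ⟨m - 2, by omega⟩
  exact ch.final hi (ch.descent (n - 4 - (i + 1)) (i + 1) (by omega) (by omega))

end Ch

end Cfsg.Agent.Lib.MaxEss3F
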