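import Mathlib
import Cfsg.Agent.Lib.MaxEss3F

/-!
# No essential elementary abelian subgroup of order `p ^ 3` in a group of maximal class
-/

set_option autoImplicit false
set_option linter.unusedSectionVars false
set_option linter.style.haveILetI false
set_option linter.unusedVariables false

namespace Cfsg.Agent.Lib.MaxEss3G

open Cfsg Cfsg.FusionSystem Cfsg.Agent.Lib.FusionCore Cfsg.Agent.Lib.FusionCore2 Cfsg.Agent.Lib.MaxEss3A
open Cfsg.Agent.Lib.MaxEss3C Cfsg.Agent.Lib.MaxEss3D Cfsg.Agent.Lib.MaxEss3E Cfsg.Agent.Lib.MaxEss3F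
open scoped commutatorElement

variable {Ω : Type*} [Group Ω] {S : Subgroup Ω} [Finite S] {F : FusionSystem S} {p n m : ℕ} [hp : Fact p.Prime]

section Basic

variable (h : MC S p n)
include h

lemma central {x y : Ω} (hx : x ∈ Gm S (n - 2)) (hy : y ∈ S) : x * y = y * x :=
  h.commute_of (a := n - 2) (b := 0) (by have := h.n5; omega) hx (mem_zero hy)

lemma card_Z1 : Nat.card (Gm S (n - 2)) = p := by
  have hn5 := h.n5
  rw [h.card_Gm (by omega) (by omega)]
  have : n - 1 - (n - 2) = 1 := by omega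
  rw [this, pow_one]

lemma exists_gen : ∃ c₀ ∈ Gm S (n - 2), c₀ ≠ 1 ∧ Subgroup.zpowers c₀ = Gm S (n - 2) := by
  have hn5 := h.n5
  obtain ⟨u, hu, hu'⟩ := h.exists_level (i := n - 2) (by omega) (by omega)
  have e : n - 2 + 1 = n - 1 := by omega
  rw [e, h.Gm_bot] at hu'
  have hu1 : u ≠ 1 := fun hc => hu' (hc ▸ Subgroup.one_mem _)
  exact ⟨u, hu, hu1, zpowers_of_card (card_Z1 h) hu hu1⟩

end Basic

/-- Building the data of a conjugating element. -/
lemma VD_of' {E : Subgroup Ω} {z s c w : Ω} (fr : Frame F p E z s c w) {k : ℕ} (hL : ∀ x ∈ Gm S k, ∃ j : ZMod p, Rep E z s 0 j x)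
    (hcard : Nat.card (Gm S k) = p ^ 3) {v : Ω} (hv : v ∈ S)
    (hvQ : v ∉ normalizerIn S E) (hvs : ⁅v, s⁆ ∈ Gm S k) (hvz : ⁅v, z⁆ ∈ AA E z) (hva : ∀ a ∈ AA E z, v * a * v⁻¹ ∈ AA E z) :
    Frame.VD S E z s p (Gm S k) v := by
  obtain ⟨j, hj⟩ := hL _ hvs
  have h1 : Rep (p := p) E z s 1 j (v * s * v⁻¹) := by
    have e : v * s * v⁻¹ = ⁅v, s⁆ * s := by
      simp only [commutatorElement_def]
      group
    have := fr.Rep_mul hj fr.Rep_s
    rw [e]
    convert this using 1 <;> ring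
  have h2 : Rep (p := p) E z s 0 1 (v * z * v⁻¹) := by
    have e : v * z * v⁻¹ = ⁅v, z⁆ * z := by
      simp only [commutatorElement_def]
      group
    have := fr.Rep_mul (fr.Rep_AA hvz) fr.Rep_z
    rw [e]
    convert this using 1 <;> ring
  refine ⟨Gm_le k, fun g hg x hx => Gm_conj hx hg, hcard, hL, hv, hvQ, fun x hx => ?_, ⟨j, h1⟩, h2, hva⟩
  obtain ⟨u, x', hu⟩ := fr.Rep_exists hx
  exact fr.Q_of_Rep (fr.Rep_map (f := fun x => v * x * v⁻¹) (Maps.conj fr.Q_le hv) h1 h2 (fun a ha => fr.Rep_AA (hva a ha)) hu)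

lemma odd_k {p : ℕ} [hp : Fact p.Prime] (p5 : 5 ≤ p) : ∃ k : ℕ, p = 2 * k + 1 := by
  rcases hp.out.eq_two_or_odd' with h2 | ⟨k, hk⟩
  · omega
  · exact ⟨k, hk⟩

section Cases

variable {E : Subgroup Ω} {z s c w : Ω} (h : MC S p n) (fr : Frame F p E z s c w)
include h fr

lemma fr_comm : ⁅z, s⁆ = c := by
  rw [commutatorElement_def, fr.zs]
  group

lemma w_ne : w ∉ Subgroup.zpowers c := by
  rintro ⟨j, hj⟩
  have hj' : c ^ j = w := hj
  have := fr.ind 0 (-j) 1 (by rw [zpow_neg, hj']; simp)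
  have h2 : p ∣ 1 := by exact_mod_cast this.2.2
  exact hp.out.one_lt.ne' (Nat.dvd_one.1 h2)

lemma Z1_le_E : Gm S (n - 2) ≤ E := fun x hx =>
  fr.cent (Gm_le _ hx) (fun y hy => (central h hx (fr.hES hy)).symm)

lemma conj_of_comm {v a : Ω} (hva : ⁅v, a⁆ ∈ E) (ha : a ∈ E) : v * a * v⁻¹ ∈ E := by
  have e : v * a * v⁻¹ = ⁅v, a⁆ * a := by
    simp only [commutatorElement_def]
    group
  rw [e]
  exact E.mul_mem hva ha

lemma pw {a : Ω} (ha : a ∈ E) {H : Subgroup Ω} (h1 : a ^ (p : ℕ) = 1) : a ^ p ∈ H := by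
  rw [h1]
  exact H.one_mem

/-- The first case: `z ∈ Z₂`. -/
theorem case_one (hzG : z ∈ Gm S (n - 3)) (hcG : c ∈ Gm S (n - 2)) : False := by
  classical
  have hn5 := h.n5
  have hpp := hp.out
  have hS' : s ∈ S := fr.hES fr.hs
  have hzS := fr.hz
  have hc1 := fr.c1
  have hzc : ⁅z, s⁆ = c := fr_comm h fr
  have hZ1E := Z1_le_E h fr
  have hsP : s ∉ CC S (n - 3) := by
    intro hc
    have h1 := (mem_CC.1 hc).2 z hzG
    rw [h.Gm_eq_bot (k := n - 3 + 2) (by omega), hzc] at h1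
    exact hc1 h1
  have hsC : s ∈ CC S 1 := by
    by_contra hc
    have h1 := h.unif_card hS' hc hsP (A := E) fr.hES (fun x hx => fr.hab x hx s fr.hs)
    rw [fr.card] at h1
    have := (Nat.pow_le_pow_iff_right hpp.one_lt).1 h1
    omega
  have heven := h.even_of hsC hsP
  obtain ⟨m, hm⟩ := Nat.not_odd_iff_even.1 heven
  have hs1 : s ∉ Gm S 1 := fun hc => hsP (Gm_one_le_CC _ hc)
  have hz' : z ∉ Gm S (n - 2) := fun hc => fr.hzE (hZ1E hc)
  have hzc2 : Subgroup.zpowers c = Gm S (n - 2) := zpowers_of_card (card_Z1 h) hcG hc1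
  have hrepZ2 : ∀ g ∈ Gm S (n - 3), ∃ t : ℤ, ∃ e ∈ Gm S (n - 2), g = z ^ t * e := by
    intro g hg
    have e' : n - 3 + 1 = n - 2 := by omega
    have hz'' : z ∉ Gm S (n - 3 + 1) := by rwa [e']
    obtain ⟨t, e, he, hte⟩ := h.level_gen (i := n - 3) (by omega) (by omega) hzG hz'' hg
    exact ⟨t, e, by rwa [e'] at he, hte⟩
  have hAP : ∀ a ∈ AA E z, a ∈ CC S (n - 3) := by
    intro a ha
    obtain ⟨ha1, ha2⟩ := mem_AA.1 ha
    refine mem_CC.2 ⟨fr.hES ha1, fun g hg => ?_⟩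
    obtain ⟨t, e, he, rfl⟩ := hrepZ2 g hg
    have e1 : a * z ^ t = z ^ t * a := ((show Commute a z from ha2).zpow_right t).eq
    have e2 : e * a = a * e := central h he (fr.hES ha1)
    have e3 : ⁅z ^ t * e, a⁆ = 1 := by
      rw [commutatorElement_eq_one_iff_mul_comm]
      calc z ^ t * e * a = z ^ t * (e * a) := by group
        _ = (z ^ t * a) * e := by rw [e2]; group
        _ = a * (z ^ t * e) := by rw [← e1]; group
    rw [e3]
    exact Subgroup.one_mem _
  have hA1 : ∀ a ∈ AA E z, a ∈ Gm S 1 := by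
    intro a ha
    by_contra hc
    obtain ⟨ha1, ha2⟩ := mem_AA.1 ha
    by_cases hs' : s ∈ Subgroup.zpowers a ⊔ Gm S 1
    · have : Subgroup.zpowers a ⊔ Gm S 1 ≤ CC S (n - 3) :=
        sup_le (Subgroup.zpowers_le.2 (hAP a ha)) (Gm_one_le_CC _)
      exact hsP (this hs')
    · have h1 := (h.two_gen (fr.hES ha1) hS' hc hs').1
      apply h1
      have : ⁅a, s⁆ = 1 := commutatorElement_eq_one_iff_mul_comm.2 (fr.hab a ha1 s fr.hs)
      rw [this]
      exact Subgroup.one_mem _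
  -- a third level element
  obtain ⟨z₃, hz₃, hz₃'⟩ := h.exists_level (i := n - 4) (by omega) (by omega)
  have e43 : n - 4 + 1 = n - 3 := by omega
  rw [e43] at hz₃'
  have hz₃S : z₃ ∈ S := Gm_le _ hz₃
  have hCC4 : CC S (n - 4) = CC S 1 := h.CC_eq (K := n - 4) (by omega) (by omega)
  have hsC4 : s ∈ CC S (n - 4) := hCC4 ▸ hsC
  have hz₃n : ∀ x ∈ E, z₃ * x * z₃⁻¹ ∈ E := by
    refine fr.mapE (f := fun x => z₃ * x * z₃⁻¹) (Maps.conj fr.hES hz₃S) ?_ ?_ ?_
    · refine conj_of_comm h fr (hZ1E ?_) fr.hs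
      have := (mem_CC.1 hsC4).2 z₃ hz₃
      have e' : n - 4 + 2 = n - 2 := by omega
      rwa [e'] at this
    · exact conj_of_comm h fr (hZ1E (Gm_comm (a := n - 4) (b := 1) (by omega) hz₃ (hA1 c fr.c_AA))) fr.hc
    · exact conj_of_comm h fr (hZ1E (Gm_comm (a := n - 4) (b := 1) (by omega) hz₃ (hA1 w fr.w_AA))) fr.hw
  obtain ⟨i, hi⟩ := fr.N z₃ hz₃S hz₃n
  have hzG4 : z ∈ Gm S (n - 4) := Gm_anti (by omega) hzG
  have hw₀G : z ^ (-i) * z₃ ∈ Gm S (n - 4) := Subgroup.mul_mem _ (Subgroup.zpow_mem _ hzG4 _) hz₃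
  have hw₀' : z ^ (-i) * z₃ ∉ Gm S (n - 3) := by
    intro hc
    apply hz₃'
    have e : z₃ = z ^ i * (z ^ (-i) * z₃) := by rw [zpow_neg]; group
    rw [e]
    exact Subgroup.mul_mem _ (Subgroup.zpow_mem _ hzG _) hc
  have hw₀A : z ^ (-i) * z₃ ∈ AA E z :=
    mem_AA.2 ⟨hi, h.commute_of (a := n - 4) (b := n - 3) (by omega) hw₀G hzG⟩
  obtain ⟨j, k, hjk⟩ := fr.AA_gen hw₀A
  have hcG3 : c ∈ Gm S (n - 3) := Gm_anti (by omega) hcG
  have hpk : ¬ (p : ℤ) ∣ k := by
    intro hk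
    apply hw₀'
    rw [hjk, zpow_eq_one_of_dvd (fr.el w fr.hw) hk, mul_one]
    exact Subgroup.zpow_mem _ hcG3 _
  have hwk : w ^ k ∈ Gm S (n - 4) := by
    have e : w ^ k = (c ^ j)⁻¹ * (z ^ (-i) * z₃) := by rw [hjk]; group
    rw [e]
    exact Subgroup.mul_mem _ (Subgroup.inv_mem _ (Subgroup.zpow_mem _ (Gm_anti (by omega) hcG) _)) hw₀G
  have hwG : w ∈ Gm S (n - 4) := mem_of_zpow_mem hwk (by rw [fr.el w fr.hw]; exact Subgroup.one_mem _) hpk
  have hwG' : w ∉ Gm S (n - 3) := by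
    intro hc
    obtain ⟨t, e, he, hte⟩ := hrepZ2 w hc
    have hzt : z ^ t ∈ E := by
      have e1 : z ^ t = w * e⁻¹ := by rw [hte]; group
      rw [e1]
      exact E.mul_mem fr.hw (E.inv_mem (hZ1E he))
    have hpt : (p : ℤ) ∣ t := by
      apply fr.ord_c
      have e1 := fr.zz_s t
      rw [(fr.com hzt fr.hs).eq] at e1
      have e2 : s * z ^ t * (z ^ t)⁻¹ = s := by group
      rw [e2] at e1
      exact mul_eq_right.1 e1.symm
    have hzt2 : z ^ t ∈ Gm S (n - 2) := by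
      obtain ⟨t', rfl⟩ := hpt
      rw [zpow_mul, zpow_natCast]
      have h1 := h.pow_level (k := n - 3) (by omega) (by omega) hzG
      have e' : n - 3 + 1 = n - 2 := by omega
      rw [e'] at h1
      exact Subgroup.zpow_mem _ h1 _
    have hw2 : w ∈ Gm S (n - 2) := by
      rw [hte]
      exact Subgroup.mul_mem _ hzt2 he
    rw [← hzc2] at hw2
    exact w_ne h fr hw2
  have hAA4 : ∀ a ∈ AA E z, a ∈ Gm S (n - 4) := by
    intro a ha
    obtain ⟨j, k, rfl⟩ := fr.AA_gen ha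
    exact Subgroup.mul_mem _ (Subgroup.zpow_mem _ (Gm_anti (by omega) hcG) _) (Subgroup.zpow_mem _ hwG _)
  by_cases hm3 : m = 3
  · -- Tool B
    have hn6 : n = 6 := by omega
    obtain ⟨k₀, hk₀⟩ := odd_k fr.p5
    obtain ⟨v, hv, hv'⟩ := h.exists_level (i := n - 5) (by omega) (by omega)
    have e54 : n - 5 + 1 = n - 4 := by omega
    have hv'' : v ∉ Gm S (n - 4) := by rwa [e54] at hv'
    have hvS : v ∈ S := Gm_le _ hv
    have hv1 : v ∈ Gm S 1 := Gm_anti (by omega) hv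
    have hL : ∀ x ∈ Gm S (n - 4), ∃ j : ZMod p, Rep E z s 0 j x := by
      intro x hx
      have hwG'' : w ∉ Gm S (n - 4 + 1) := by rwa [e43]
      obtain ⟨t, x₁, hx₁, rfl⟩ := h.level_gen (i := n - 4) (by omega) (by omega) hwG hwG'' hx
      rw [e43] at hx₁
      obtain ⟨τ, e, he, rfl⟩ := hrepZ2 x₁ hx₁
      have heA : e ∈ AA E z := mem_AA.2 ⟨hZ1E he, central h he hzS⟩
      refine ⟨_, 0, τ, by simp, rfl, w ^ t * e, (AA E z).mul_mem ((AA E z).zpow_mem fr.w_AA _) heA, ?_⟩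
      have e1 := fr.zcomm_w τ t
      calc w ^ t * (z ^ τ * e) = (w ^ t * z ^ τ) * e := by group
        _ = (z ^ τ * w ^ t) * e := by rw [e1]
        _ = _ := by simp [mul_assoc]
    have hcardL : Nat.card (Gm S (n - 4)) = p ^ 3 := by
      rw [h.card_Gm (by omega) (by omega)]
      congr 1
      omega
    have hvQ : v ∉ normalizerIn S E := by
      intro hc
      obtain ⟨u, x', i', j', -, -, a, ha, he⟩ := fr.Rep_exists hc
      have hrest : z ^ j' * a ∈ Gm S (n - 4) := Subgroup.mul_mem _ (Subgroup.zpow_mem _ hzG4 _) (hAA4 a ha)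
      have hsi : s ^ i' ∈ Gm S 1 := by
        have e5 : s ^ i' = v * (z ^ j' * a)⁻¹ := by rw [he]; group
        rw [e5]
        exact Subgroup.mul_mem _ hv1 (Subgroup.inv_mem _ (Gm_anti (by omega) hrest))
      have hpi : (p : ℤ) ∣ i' := by
        by_contra hc2
        exact hs1 (mem_of_zpow_mem hsi (by rw [fr.el s fr.hs]; exact Subgroup.one_mem _) hc2)
      apply hv''
      rw [he, zpow_eq_one_of_dvd (fr.el s fr.hs) hpi, one_mul]
      exact hrest
    have hvs : ⁅v, s⁆ ∈ Gm S (n - 4) := Gm_top (a := n - 5) (by omega) hv hS'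
    have hvz : ⁅v, z⁆ ∈ AA E z := by
      rw [h.comm_eq_one (a := n - 5) (b := n - 3) (by omega) hv hzG]
      exact Subgroup.one_mem _
    have hZA : Gm S (n - 2) ≤ AA E z := by
      rw [← hzc2]
      exact Subgroup.zpowers_le.2 fr.c_AA
    have hva : ∀ a ∈ AA E z, v * a * v⁻¹ ∈ AA E z := by
      intro a ha
      have e : v * a * v⁻¹ = ⁅v, a⁆ * a := by
        simp only [commutatorElement_def]
        group
      rw [e]
      exact (AA E z).mul_mem (hZA (Gm_comm (a := n - 5) (b := n - 4) (by omega) hv (hAA4 a ha))) ha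
    have vd := VD_of' fr hL hcardL hvS hvQ hvs hvz hva
    have hvc : v * c * v⁻¹ = c := by
      rw [← central h hcG hvS]
      group
    have hvw1 : ⁅v, w⁆ ∈ Subgroup.zpowers c := by
      rw [hzc2]
      exact Gm_comm (a := n - 5) (b := n - 4) (by omega) hv hwG
    obtain ⟨r, hr⟩ := hvw1
    have hr' : c ^ r = ⁅v, w⁆ := hr
    have hvw : v * w * v⁻¹ = w * c ^ r := by
      have e : v * w * v⁻¹ = ⁅v, w⁆ * w := by
        simp only [commutatorElement_def]
        group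
      rw [e, ← hr', (fr.com (E.zpow_mem fr.hc r) fr.hw).eq]
    refine fr.toolB vd hk₀ hvc hvw (fun hpr => ?_)
    have h1 : ⁅v, w⁆ = 1 := by
      rw [← hr']
      exact zpow_eq_one_of_dvd (fr.el c fr.hc) hpr
    exact h.pairing hsC hsP (j := n - 5) (i := n - 4) (by omega) (by omega) (by omega) hv hv' hwG (by rwa [e43]) h1
  · -- the quotient argument
    have hn8 : 8 ≤ n := by omega
    have hsC2 : s ∈ CC S 2 := by
      rw [h.CC_eq (K := 2) (by norm_num) (by omega)]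
      exact hsC
    refine suzuki h fr (i := 2) (by norm_num) (by omega) (fun hc => hs1 (Gm_anti (by norm_num) hc)) hsC2 ?_ (Gm_anti (by omega) hwG) ?_
    · intro x hx
      obtain ⟨a, b, d, rfl⟩ := fr.gen x hx
      refine (mem_RR hS').2 ⟨a, c ^ b * w ^ d, ?_, by group⟩
      exact Subgroup.mul_mem _ (Subgroup.zpow_mem _ (Gm_anti (by omega) hcG) _) (Subgroup.zpow_mem _ (Gm_anti (by omega) hwG) _)
    · intro x hx
      obtain ⟨a, g, hg, rfl⟩ := (mem_RR hS').1 hx
      have e1 : g * w = w * g := h.commute_of (a := 2) (b := n - 4) (by omega) hg hwG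
      have e2 : s ^ a * w = w * s ^ a := (Commute.zpow_left (fr.com fr.hs fr.hw) a).eq
      calc s ^ a * g * w = s ^ a * (g * w) := by group
        _ = (s ^ a * w) * g := by rw [e1]; group
        _ = _ := by rw [e2]; group


/-- The second case: `z ∈ Z₃`, `Z₂ ≤ E`. -/
theorem case_two (hZ2 : Gm S (n - 3) ≤ E) (hzG : z ∈ Gm S (n - 4)) (hAA : ∀ a ∈ AA E z, a ∈ Gm S (n - 3)) : False := by
  classical
  have hn5 := h.n5
  have hpp := hp.out
  have hS' : s ∈ S := fr.hES fr.hs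
  have hzS := fr.hz
  have hc1 := fr.c1
  have hzc : ⁅z, s⁆ = c := fr_comm h fr
  have hZ1E := Z1_le_E h fr
  have hAA' : ∀ a ∈ Gm S (n - 3), a ∈ AA E z := fun a ha =>
    mem_AA.2 ⟨hZ2 ha, h.commute_of (a := n - 3) (b := n - 4) (by omega) ha hzG⟩
  have hcG3 : c ∈ Gm S (n - 3) := hAA c fr.c_AA
  have hwG3 : w ∈ Gm S (n - 3) := hAA w fr.w_AA
  have hz' : z ∉ Gm S (n - 3) := fun hc => fr.hzE (hZ2 hc)
  have e43 : n - 4 + 1 = n - 3 := by omega
  have hG4 : ∀ x ∈ Gm S (n - 4), ∃ t : ℤ, ∃ a ∈ Gm S (n - 3), x = z ^ t * a := by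
    intro x hx
    have hz'' : z ∉ Gm S (n - 4 + 1) := by rwa [e43]
    obtain ⟨t, a, ha, hte⟩ := h.level_gen (i := n - 4) (by omega) (by omega) hzG hz'' hx
    exact ⟨t, a, by rwa [e43] at ha, hte⟩
  have hG4R : ∀ x ∈ Gm S (n - 4), ∃ j : ZMod p, Rep E z s 0 j x := by
    intro x hx
    obtain ⟨t, a, ha, rfl⟩ := hG4 x hx
    exact ⟨_, 0, t, by simp, rfl, a, hAA' a ha, by simp⟩
  have hsP : s ∈ CC S (n - 3) := by
    refine mem_CC.2 ⟨hS', fun g hg => ?_⟩
    have : ⁅g, s⁆ = 1 := commutatorElement_eq_one_iff_mul_comm.2 (fr.hab g (hZ2 hg) s fr.hs)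
    rw [this]
    exact Subgroup.one_mem _
  have hE1 : ∀ x ∈ E, ∃ i : ℤ, ∃ a ∈ Gm S (n - 3), x = s ^ i * a := by
    intro x hx
    obtain ⟨i, j, k, rfl⟩ := fr.gen x hx
    exact ⟨i, c ^ j * w ^ k, Subgroup.mul_mem _ (Subgroup.zpow_mem _ hcG3 _) (Subgroup.zpow_mem _ hwG3 _), by group⟩
  have hcardL : Nat.card (Gm S (n - 4)) = p ^ 3 := by
    rw [h.card_Gm (by omega) (by omega)]
    congr 1
    omega
  have hCC4 : CC S (n - 4) = CC S 1 := h.CC_eq (K := n - 4) (by omega) (by omega)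
  have hGS := Subgroup.zpow_mem (Gm S (n - 4)) hzG
  by_cases hs1 : s ∈ Gm S 1
  · -- (a)
    have hs2 : s ∉ Gm S 2 := by
      intro hc
      have := h.comm_eq_one (a := n - 4) (b := 2) (by omega) hzG hc
      rw [hzc] at this
      exact hc1 this
    have hE1G : E ≤ Gm S 1 := by
      intro x hx
      obtain ⟨i, a, ha, rfl⟩ := hE1 x hx
      exact Subgroup.mul_mem _ (Subgroup.zpow_mem _ hs1 _) (Gm_anti (by omega) ha)
    by_cases hn5' : n = 5
    · have h4 : n - 4 = 1 := by omega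
      apply fr.hzE
      have hE4 : E ≤ Gm S (n - 4) := by rwa [h4]
      haveI := finite_of_le (Gm_le (S := S) (n - 4))
      have heq := Subgroup.eq_of_le_of_card_ge hE4 (by rw [hcardL, fr.card])
      rw [heq]
      exact hzG
    by_cases hn6 : n = 6
    · obtain ⟨t, ht, ht'⟩ := h.exists_y
      have htS : t ∈ S := (mem_CC.1 ht).1
      have hnorm : ∀ x ∈ E, t * x * t⁻¹ ∈ E := by
        refine fr.mapE (f := fun x => t * x * t⁻¹) (Maps.conj fr.hES htS) ?_ ?_ ?_
        · refine conj_of_comm h fr (hZ2 ?_) fr.hs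
          have := comm_symm ((mem_CC.1 ht).2 s hs1)
          have e' : 1 + 2 = n - 3 := by omega
          rwa [e'] at this
        · exact conj_of_comm h fr (hZ2 (Gm_anti (Nat.le_succ _) (comm_symm (Gm_top rfl hcG3 htS)))) fr.hc
        · exact conj_of_comm h fr (hZ2 (Gm_anti (Nat.le_succ _) (comm_symm (Gm_top rfl hwG3 htS)))) fr.hw
      obtain ⟨i, hi⟩ := fr.N t htS hnorm
      apply ht'
      have e : t = z ^ i * (z ^ (-i) * t) := by rw [zpow_neg]; group
      rw [e]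
      exact Subgroup.mul_mem _ (Subgroup.zpow_mem _ (Gm_anti (by omega) hzG) _) (hE1G hi)
    · obtain ⟨t, ht, ht'⟩ := h.exists_level (i := n - 5) (by omega) (by omega)
      have e54 : n - 5 + 1 = n - 4 := by omega
      rw [e54] at ht'
      have htS : t ∈ S := Gm_le _ ht
      have hnorm : ∀ x ∈ E, t * x * t⁻¹ ∈ E := by
        refine fr.mapE (f := fun x => t * x * t⁻¹) (Maps.conj fr.hES htS) ?_ ?_ ?_
        · exact conj_of_comm h fr (hZ2 (Gm_comm (a := n - 5) (b := 1) (by omega) ht hs1)) fr.hs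
        · exact conj_of_comm h fr (hZ2 (Gm_anti (Nat.le_succ _) (comm_symm (Gm_top rfl hcG3 htS)))) fr.hc
        · exact conj_of_comm h fr (hZ2 (Gm_anti (Nat.le_succ _) (comm_symm (Gm_top rfl hwG3 htS)))) fr.hw
      obtain ⟨i, hi⟩ := fr.N t htS hnorm
      have hzi : z ^ (-i) ∈ Gm S (n - 5) := Subgroup.zpow_mem _ (Gm_anti (by omega) hzG) _
      have he1 : z ^ (-i) * t ∈ Gm S 2 := Gm_anti (by omega) (Subgroup.mul_mem _ hzi ht)
      obtain ⟨a, a₂, ha₂, hae⟩ := hE1 _ hi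
      have hsa : s ^ a ∈ Gm S 2 := by
        have e : s ^ a = (z ^ (-i) * t) * a₂⁻¹ := by rw [hae]; group
        rw [e]
        exact Subgroup.mul_mem _ he1 (Subgroup.inv_mem _ (Gm_anti (by omega) ha₂))
      have hpa : (p : ℤ) ∣ a := by
        by_contra hc
        exact hs2 (mem_of_zpow_mem hsa (by rw [fr.el s fr.hs]; exact Subgroup.one_mem _) hc)
      rw [zpow_eq_one_of_dvd (fr.el s fr.hs) hpa, one_mul] at hae
      apply ht'
      have e : t = z ^ i * (z ^ (-i) * t) := by rw [zpow_neg]; group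
      rw [e, hae]
      exact Subgroup.mul_mem _ (Subgroup.zpow_mem _ hzG _) (Gm_anti (by omega) ha₂)
  by_cases hsC : s ∈ CC S 1
  · -- (b)
    have hcZ1 : c ∈ Gm S (n - 2) := by
      have := (mem_CC.1 (hCC4 ▸ hsC : s ∈ CC S (n - 4))).2 z hzG
      have e' : n - 4 + 2 = n - 2 := by omega
      rwa [e', hzc] at this
    have hzc2 : Subgroup.zpowers c = Gm S (n - 2) := zpowers_of_card (card_Z1 h) hcZ1 hc1
    by_cases hn5' : n = 5
    · have h41 : n - 4 = 1 := by omega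
      obtain ⟨k₀, hk₀⟩ := odd_k fr.p5
      obtain ⟨v, hvS, hv'⟩ := h.exists_not_CC (k := 1) (by norm_num) (by omega)
      have hvQ : v ∉ normalizerIn S E := by
        intro hc
        obtain ⟨u, x', i', j', -, -, a, ha, he⟩ := fr.Rep_exists hc
        apply hv'
        rw [he]
        have h1 : z ∈ CC S 1 := Gm_one_le_CC 1 (by rwa [h41] at hzG)
        have h2 : a ∈ CC S 1 := Gm_one_le_CC 1 (Gm_anti (by omega) (hAA a ha))
        exact Subgroup.mul_mem _ (Subgroup.mul_mem _ (Subgroup.zpow_mem _ hsC _) (Subgroup.zpow_mem _ h1 _)) h2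
      have hvs : ⁅v, s⁆ ∈ Gm S (n - 4) := Gm_top (a := 0) (by omega) (mem_zero hvS) hS'
      have hvz : ⁅v, z⁆ ∈ AA E z := hAA' _ (Gm_comm (a := 0) (b := n - 4) (by omega) (mem_zero hvS) hzG)
      have hva : ∀ a ∈ AA E z, v * a * v⁻¹ ∈ AA E z := fun a ha => hAA' _ (Gm_conj (hAA a ha) hvS)
      have vd := VD_of' fr hG4R hcardL hvS hvQ hvs hvz hva
      have hvc : v * c * v⁻¹ = c := by
        rw [← central h hcZ1 hvS]
        group
      have hvw1 : ⁅v, w⁆ ∈ Subgroup.zpowers c := by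
        rw [hzc2]
        exact Gm_comm (a := 0) (b := n - 3) (by omega) (mem_zero hvS) hwG3
      obtain ⟨r, hr⟩ := hvw1
      have hr' : c ^ r = ⁅v, w⁆ := hr
      have hvw : v * w * v⁻¹ = w * c ^ r := by
        have e : v * w * v⁻¹ = ⁅v, w⁆ * w := by
          simp only [commutatorElement_def]
          group
        rw [e, ← hr', (fr.com (E.zpow_mem fr.hc r) fr.hw).eq]
      refine fr.toolB vd hk₀ hvc hvw (fun hpr => ?_)
      have h1 : ⁅v, w⁆ = 1 := by
        rw [← hr']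
        exact zpow_eq_one_of_dvd (fr.el c fr.hc) hpr
      have hw2 : w ∉ Gm S (n - 3 + 1) := by
        have e' : n - 3 + 1 = n - 2 := by omega
        rw [e', ← hzc2]
        exact w_ne h fr
      have hvP : v ∈ CC S (n - 3) := by
        refine h.level_cent (i := n - 3) (by omega) (by omega) hwG3 hw2 hvS ?_
        have : ⁅w, v⁆ = 1 := by
          rw [← commutatorElement_inv, h1, inv_one]
        rw [this]
        exact Subgroup.one_mem _
      have hs' : v ∉ Subgroup.zpowers s ⊔ Gm S 1 := fun hc =>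
        hv' ((sup_le (Subgroup.zpowers_le.2 hsC) (Gm_one_le_CC 1)) hc)
      have htop := (h.two_gen hS' hvS hs1 hs').2 (CC S (n - 3)) (fun x hx => (mem_CC.1 hx).1) hsP hvP (Gm_one_le_CC _)
      obtain ⟨u, hu, hu'⟩ := h.exists_not_CC (k := n - 3) (by omega) (by omega)
      exact hu' (by rw [htop]; exact hu)
    · refine suzuki h fr (i := 1) le_rfl (by omega) hs1 hsC ?_ (Gm_anti (by omega) hwG3) ?_
      · intro x hx
        obtain ⟨i, a, ha, rfl⟩ := hE1 x hx
        exact (mem_RR hS').2 ⟨i, a, Gm_anti (by omega) ha, rfl⟩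
      · intro x hx
        obtain ⟨a, g, hg, rfl⟩ := (mem_RR hS').1 hx
        have e1 : g * w = w * g := h.commute_of (a := 1) (b := n - 3) (by omega) hg hwG3
        have e2 : s ^ a * w = w * s ^ a := (Commute.zpow_left (fr.com fr.hs fr.hw) a).eq
        calc s ^ a * g * w = s ^ a * (g * w) := by group
          _ = (s ^ a * w) * g := by rw [e1]; group
          _ = _ := by rw [e2]; group
  · -- (c)
    obtain ⟨y', hy1, hy2⟩ := h.exists_y
    have hy3 : y' ∉ CC S (n - 3) := by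
      intro hc
      have hs' : s ∉ Subgroup.zpowers y' ⊔ Gm S 1 := fun hc2 =>
        hsC ((sup_le (Subgroup.zpowers_le.2 hy1) (Gm_one_le_CC 1)) hc2)
      have htop := (h.two_gen (mem_CC.1 hy1).1 hS' hy2 hs').2 (CC S (n - 3)) (fun x hx => (mem_CC.1 hx).1) hc hsP (Gm_one_le_CC _)
      obtain ⟨u, hu, hu'⟩ := h.exists_not_CC (k := n - 3) (by omega) (by omega)
      exact hu' (by rw [htop]; exact hu)
    have heven := h.even_of hy1 hy3
    obtain ⟨m, hm⟩ := Nat.not_odd_iff_even.1 heven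
    have hZ1 : ∀ d ∈ Gm S (n - 2), d ∈ Subgroup.zpowers c → d = 1 := by
      intro d hd hdc
      by_contra hd1
      have hcard : Nat.card (Subgroup.zpowers c) = p := by
        rw [Nat.card_zpowers, orderOf_eq_prime (fr.el c fr.hc) hc1]
      have e1 := zpowers_of_card hcard hdc hd1
      have hcd : c ∈ Subgroup.zpowers d := e1 ▸ Subgroup.mem_zpowers c
      have hcZ : c ∈ Gm S (n - 2) := (Subgroup.zpowers_le.2 hd) hcd
      apply hsC
      have hz'' : z ∉ Gm S (n - 4 + 1) := by rwa [e43]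
      have e' : n - 4 + 2 = n - 2 := by omega
      have := h.level_cent (i := n - 4) (by omega) (by omega) hzG hz'' hS' (by rwa [e', hzc])
      rwa [hCC4] at this
    have ch : Ch F p n m E z s c w :=
      ⟨h, fr, by omega, by omega, hzG, hAA, hAA', hsC, hZ1, ⟨y', hy1, hy3⟩⟩
    exact ch.main_false

end Cases

/-- Decomposition of `E` over a subgroup of index `p`. -/
lemma E_dec {E Z : Subgroup Ω} (hES : E ≤ S) (hZE : Z ≤ E) (hcE : Nat.card E = p ^ 3) (hcZ : Nat.card Z = p ^ 2)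
    (el : ∀ a ∈ E, a ^ p = 1) (hab : ∀ a ∈ E, ∀ b ∈ E, a * b = b * a) {e₁ : Ω} (he₁ : e₁ ∈ E) (he₁' : e₁ ∉ Z) :
    ∀ x ∈ E, ∃ t : ℤ, ∃ b ∈ Z, x = e₁ ^ t * b := by
  classical
  have hpp := hp.out
  haveI : Finite E := finite_of_le hES
  let f : Fin p × Z → E := fun q => ⟨e₁ ^ ((q.1 : ℕ) : ℤ) * (q.2 : Ω), E.mul_mem (E.zpow_mem he₁ _) (hZE q.2.2)⟩
  have hfi : Function.Injective f := by
    rintro ⟨t, b⟩ ⟨t', b'⟩ he
    have he' : e₁ ^ ((t : ℕ) : ℤ) * (b : Ω) = e₁ ^ ((t' : ℕ) : ℤ) * (b' : Ω) := congrArg Subtype.val he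
    have h1 : e₁ ^ (((t : ℕ) : ℤ) - ((t' : ℕ) : ℤ)) ∈ Z := by
      have e : e₁ ^ (((t : ℕ) : ℤ) - ((t' : ℕ) : ℤ)) = (b' : Ω) * (b : Ω)⁻¹ := by
        rw [zpow_sub]
        have e3 := (mul_inv_eq_iff_eq_mul (a := e₁ ^ ((t : ℕ) : ℤ))).2 (eq_mul_inv_of_mul_eq he')
        have e4 : Commute (e₁ ^ ((t : ℕ) : ℤ)) (e₁ ^ ((t' : ℕ) : ℤ)) := (Commute.refl e₁).zpow_zpow _ _
        have e5 : (e₁ ^ ((t' : ℕ) : ℤ))⁻¹ * e₁ ^ ((t : ℕ) : ℤ) = (b' : Ω) * (b : Ω)⁻¹ := by
          rw [inv_mul_eq_iff_eq_mul]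
          rw [← mul_assoc, ← he']
          group
        rw [← e5]
        exact e4.inv_right.eq
      rw [e]
      exact Z.mul_mem b'.2 (Z.inv_mem b.2)
    have hdvd : (p : ℤ) ∣ ((t : ℕ) : ℤ) - ((t' : ℕ) : ℤ) := by
      by_contra hc
      exact he₁' (mem_of_zpow_mem h1 (by rw [el e₁ he₁]; exact Z.one_mem) hc)
    have ht : t = t' := by
      obtain ⟨r, hr⟩ := hdvd
      have hu := t.2
      have hv := t'.2
      have h0 : r = 0 := by
        by_contra ht0
        rcases lt_or_gt_of_ne ht0 with h6 | h6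
        · have : (p : ℤ) * r ≤ (p : ℤ) * (-1) := mul_le_mul_of_nonneg_left (by omega) (by omega)
          omega
        · have : (p : ℤ) * 1 ≤ (p : ℤ) * r := mul_le_mul_of_nonneg_left (by omega) (by omega)
          omega
      rw [h0, mul_zero] at hr
      exact Fin.ext (by omega)
    subst ht
    have : b = b' := Subtype.ext (mul_left_cancel he')
    rw [this]
  have hbij : Function.Bijective f := by
    refine hfi.bijective_of_nat_card_le ?_
    rw [hcE, Nat.card_prod, Nat.card_fin, hcZ]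
    exact le_of_eq (by ring)
  intro x hx
  obtain ⟨⟨t, b⟩, he⟩ := hbij.2 ⟨x, hx⟩
  exact ⟨_, b, b.2, (congrArg Subtype.val he).symm⟩

/-- There is no essential elementary abelian subgroup of order `p ^ 3`. -/
theorem no_elab {E : Subgroup Ω} (h : MC S p n) (hF : F.IsSaturated p) (hE : F.IsEssential p E) (hcard : Nat.card E = p ^ 3)
    (hab : ∀ a ∈ E, ∀ b ∈ E, a * b = b * a) (el : ∀ a ∈ E, a ^ p = 1) : False := by
  classical
  have hn5 := h.n5
  have hpp := hp.out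
  have hS := h.hS
  have p5 := h.p5
  have hES : E ≤ S := hE.1.1
  haveI : Finite E := finite_of_le hES
  obtain ⟨c₀, hc₀, hc₀1, hc₀z⟩ := exists_gen h
  have hcent : ∀ y ∈ S, (∀ x ∈ E, x * y = y * x) → y ∈ E := fun y hy hc =>
    IsCentric_self hE.1 (mem_centralizerIn.2 ⟨hy, hc⟩)
  have hZ1E : Gm S (n - 2) ≤ E := fun x hx => hcent x (Gm_le _ hx) (fun y hy => (central h hx (hES hy)).symm)
  have hcz : ∀ y ∈ S, y * c₀ * y⁻¹ = c₀ := fun y hy => by
    rw [← central h hc₀ hy]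
    group
  have hcomm : ∀ {z x : Ω}, z * x * z⁻¹ * x⁻¹ = ⁅z, x⁆ := fun {z x} => rfl
  by_cases hZ2 : Gm S (n - 3) ≤ E
  · by_cases hZ3 : Gm S (n - 4) ≤ E
    · -- `E = Z₃`
      have hcardL : Nat.card (Gm S (n - 4)) = p ^ 3 := by
        rw [h.card_Gm (by omega) (by omega)]
        congr 1
        omega
      have hEq : Gm S (n - 4) = E := Subgroup.eq_of_le_of_card_ge hZ3 (by rw [hcard, hcardL])
      obtain ⟨z, hzC, hz', hzx⟩ : ∃ z ∈ CC S 1, z ∉ Gm S (n - 4) ∧ ∀ x ∈ Gm S (n - 4), ⁅z, x⁆ ∈ Gm S (n - 2) := by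
        by_cases hn5' : n = 5
        · obtain ⟨y, hy1, hy2⟩ := h.exists_y
          have h41 : n - 4 = 1 := by omega
          refine ⟨y, hy1, by rwa [h41], fun x hx => ?_⟩
          rw [h41] at hx
          have := comm_symm ((mem_CC.1 hy1).2 x hx)
          have e' : 1 + 2 = n - 2 := by omega
          rwa [e'] at this
        · obtain ⟨z, hz, hz'⟩ := h.exists_level (i := n - 5) (by omega) (by omega)
          have e54 : n - 5 + 1 = n - 4 := by omega
          rw [e54] at hz'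
          exact ⟨z, Gm_one_le_CC 1 (Gm_anti (by omega) hz), hz', fun x hx =>
            Gm_anti (by omega) (Gm_comm rfl hz hx)⟩
      have hzS : z ∈ S := (mem_CC.1 hzC).1
      have hzE : z ∉ E := by rwa [← hEq]
      have hzc : ∀ x ∈ E, ⁅z, x⁆ ∈ Gm S (n - 2) := by
        intro x hx
        rw [← hEq] at hx
        exact hzx x hx
      obtain ⟨s, c, w, fr, -⟩ := frame_of hS hF hE p5 hcard hab el hzS hzE
        (fun x hx => by
          rw [← hEq] at hx ⊢
          exact Gm_conj hx hzS)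
        (hZ1E hc₀) hc₀1 (fun x hx => by rw [hc₀z]; exact hzc x hx) (hcz z hzS) (fun y hy _ => hcz y hy)
      obtain ⟨t, htS, ht'⟩ := h.exists_not_CC (k := 1) (by norm_num) (by omega)
      obtain ⟨i, hi⟩ := fr.N t htS (fun x hx => by
        rw [← hEq] at hx ⊢
        exact Gm_conj hx htS)
      apply ht'
      have e : t = z ^ i * (z ^ (-i) * t) := by rw [zpow_neg]; group
      rw [e]
      rw [← hEq] at hi
      exact Subgroup.mul_mem _ (Subgroup.zpow_mem _ hzC _) (Gm_one_le_CC 1 (Gm_anti (by omega) hi))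
    · -- `z ∈ Z₃`
      obtain ⟨z, hz, hzE⟩ := SetLike.not_le_iff_exists.1 hZ3
      have hzS : z ∈ S := Gm_le _ hz
      have hcardZ2 : Nat.card (Gm S (n - 3)) = p ^ 2 := by
        rw [h.card_Gm (by omega) (by omega)]
        congr 1
        omega
      obtain ⟨e₁, he₁, he₁'⟩ : ∃ e₁ ∈ E, e₁ ∉ Gm S (n - 3) := by
        by_contra hc
        push Not at hc
        haveI := finite_of_le (Gm_le (S := S) (n - 3))
        have hle := Subgroup.card_le_of_le (show E ≤ Gm S (n - 3) from hc)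
        rw [hcard, hcardZ2] at hle
        have := (Nat.pow_le_pow_iff_right hpp.one_lt).1 hle
        omega
      have hdec := E_dec hES hZ2 hcard hcardZ2 el hab he₁ he₁'
      have hzb : ∀ b ∈ Gm S (n - 3), z * b = b * z := fun b hb =>
        h.commute_of (a := n - 4) (b := n - 3) (by omega) hz hb
      obtain ⟨c₁, hc₁e⟩ : ∃ c₁, c₁ = ⁅z, e₁⁆ := ⟨_, rfl⟩
      have hc₁G : c₁ ∈ Gm S (n - 3) := by
        rw [hc₁e]
        have := Gm_top (a := n - 4) (c := n - 3) (by omega) hz (hES he₁)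
        exact this
      have hc₁E : c₁ ∈ E := hZ2 hc₁G
      have hze : z * e₁ * z⁻¹ = c₁ * e₁ := by
        rw [hc₁e]
        simp only [commutatorElement_def]
        group
      have hc₁p : c₁ ^ p = 1 := el c₁ hc₁E
      have hzc₁ : z * c₁ = c₁ * z := hzb c₁ hc₁G
      have hc₁e₁ : c₁ * e₁ = e₁ * c₁ := hab _ hc₁E _ he₁
      -- the action of `z`
      have hzx : ∀ (t : ℤ), ∀ b ∈ Gm S (n - 3), z * (e₁ ^ t * b) * z⁻¹ = c₁ ^ t * (e₁ ^ t * b) := by
        intro t b hb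
        have e1 : z * e₁ ^ t * z⁻¹ = (c₁ * e₁) ^ t := by rw [← hze, _root_.conj_zpow]
        have e2 : (c₁ * e₁) ^ t = c₁ ^ t * e₁ ^ t := (show Commute c₁ e₁ from hc₁e₁).mul_zpow t
        calc z * (e₁ ^ t * b) * z⁻¹ = z * e₁ ^ t * (z⁻¹ * (z * b)) * z⁻¹ := by group
          _ = (z * e₁ ^ t * z⁻¹) * b := by rw [hzb b hb]; group
          _ = _ := by rw [e1, e2]; group
      have hc₁1 : c₁ ≠ 1 := by
        intro hc
        apply hzE
        apply hcent z hzS
        intro x hx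
        obtain ⟨t, b, hb, rfl⟩ := hdec x hx
        have := hzx t b hb
        rw [hc, one_zpow, one_mul, mul_inv_eq_iff_eq_mul] at this
        exact this.symm
      have hzxE : ∀ x ∈ E, z * x * z⁻¹ * x⁻¹ ∈ Subgroup.zpowers c₁ := by
        intro x hx
        obtain ⟨t, b, hb, rfl⟩ := hdec x hx
        rw [hzx t b hb]
        exact ⟨t, (mul_inv_cancel_right _ _).symm⟩
      have hzn : ∀ x ∈ E, z * x * z⁻¹ ∈ E := by
        intro x hx
        obtain ⟨t, b, hb, rfl⟩ := hdec x hx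
        rw [hzx t b hb]
        exact E.mul_mem (E.zpow_mem hc₁E _) (E.mul_mem (E.zpow_mem he₁ _) (hZ2 hb))
      have hzc₁' : z * c₁ * z⁻¹ = c₁ := by
        rw [hzc₁]
        group
      have hcard₁ : Nat.card (Subgroup.zpowers c₁) = p := by
        rw [Nat.card_zpowers, orderOf_eq_prime hc₁p hc₁1]
      have hfix : ∀ y ∈ S, (∀ x ∈ E, y * x * y⁻¹ ∈ E) → y * c₁ * y⁻¹ = c₁ := by
        intro y hy hyn
        by_contra hne
        have hd1 : ⁅y, c₁⁆ ≠ 1 := by
          intro hc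
          apply hne
          have := commutatorElement_eq_one_iff_mul_comm.1 hc
          rw [this]
          group
        have hdG : ⁅y, c₁⁆ ∈ Gm S (n - 2) := by
          have := comm_symm (Gm_top (a := n - 3) (c := n - 2) (by omega) hc₁G hy)
          exact this
        have hdz : ⁅y, c₁⁆ ∈ Subgroup.zpowers c₁ := by
          obtain ⟨τ, b', hb', hτ⟩ : ∃ τ : ℤ, ∃ b' ∈ Gm S (n - 3), y * z * y⁻¹ = z ^ τ * b' := by
            have hz'' : z ∉ Gm S (n - 4 + 1) := by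
              have e43 : n - 4 + 1 = n - 3 := by omega
              rw [e43]
              exact fun hc => hzE (hZ2 hc)
            have e43 : n - 4 + 1 = n - 3 := by omega
            obtain ⟨τ, b', hb', hτ⟩ := h.level_gen (i := n - 4) (by omega) (by omega) hz hz'' (Gm_conj hz hy)
            exact ⟨τ, b', by rwa [e43] at hb', hτ⟩
          obtain ⟨t, b, hb, hte⟩ := hdec _ (hyn e₁ he₁)
          have e1 : y * c₁ * y⁻¹ = ⁅y * z * y⁻¹, y * e₁ * y⁻¹⁆ := by
            rw [hc₁e]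
            simp only [commutatorElement_def]
            group
          have hb'X : b' * (e₁ ^ t * b) = (e₁ ^ t * b) * b' :=
            hab _ (hZ2 hb') _ (E.mul_mem (E.zpow_mem he₁ _) (hZ2 hb))
          have e2 : ⁅z ^ τ * b', e₁ ^ t * b⁆ = c₁ ^ (τ * t) := by
            have e3 := bil (v := z) (x := e₁) (d := c₁) hze hzc₁ hc₁e₁ τ t
            have e4 : z ^ τ * b = b * z ^ τ := ((show Commute z b from hzb b hb).zpow_left τ).eq
            rw [← e3]
            simp only [commutatorElement_def]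
            calc z ^ τ * b' * (e₁ ^ t * b) * (z ^ τ * b')⁻¹ * (e₁ ^ t * b)⁻¹
                = z ^ τ * (b' * (e₁ ^ t * b)) * b'⁻¹ * (z ^ τ)⁻¹ * (e₁ ^ t * b)⁻¹ := by group
              _ = z ^ τ * ((e₁ ^ t * b) * b') * b'⁻¹ * (z ^ τ)⁻¹ * (e₁ ^ t * b)⁻¹ := by rw [hb'X]
              _ = z ^ τ * e₁ ^ t * (z ^ τ)⁻¹ * (z ^ τ * b) * (z ^ τ)⁻¹ * (e₁ ^ t * b)⁻¹ := by group
              _ = z ^ τ * e₁ ^ t * (z ^ τ)⁻¹ * (b * z ^ τ) * (z ^ τ)⁻¹ * (e₁ ^ t * b)⁻¹ := by rw [e4]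
              _ = _ := by group
          have e5 : ⁅y, c₁⁆ = c₁ ^ (τ * t) * c₁⁻¹ := by
            rw [← e2, ← hτ, ← hte, ← e1]
            simp only [commutatorElement_def]
          rw [e5]
          exact Subgroup.mul_mem _ (Subgroup.zpow_mem _ (Subgroup.mem_zpowers c₁) _) (Subgroup.inv_mem _ (Subgroup.mem_zpowers c₁))
        have e1 := zpowers_of_card hcard₁ hdz hd1
        have hc₁d : c₁ ∈ Subgroup.zpowers ⁅y, c₁⁆ := e1 ▸ Subgroup.mem_zpowers c₁
        have hc₁Z : c₁ ∈ Gm S (n - 2) := (Subgroup.zpowers_le.2 hdG) hc₁d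
        apply hne
        rw [← central h hc₁Z hy]
        group
      obtain ⟨s, c, w, fr, -⟩ := frame_of hS hF hE p5 hcard hab el hzS hzE hzn hc₁E hc₁1 hzxE hzc₁' hfix
      refine case_two h fr hZ2 hz (fun a ha => ?_)
      obtain ⟨ha1, ha2⟩ := mem_AA.1 ha
      obtain ⟨t, b, hb, rfl⟩ := hdec a ha1
      have e1 := hzx t b hb
      have e2 : z * (e₁ ^ t * b) * z⁻¹ = e₁ ^ t * b := by
        rw [← ha2]
        group
      rw [e2] at e1
      have e3 : c₁ ^ t = 1 := (mul_eq_right.1 e1.symm)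
      have hpt : (p : ℤ) ∣ t := dvd_of_zpow_eq_one hc₁p hc₁1 e3
      rw [zpow_eq_one_of_dvd (el e₁ he₁) hpt, one_mul]
      exact hb
  · -- `z ∈ Z₂`
    obtain ⟨z, hz, hzE⟩ := SetLike.not_le_iff_exists.1 hZ2
    have hzS : z ∈ S := Gm_le _ hz
    have hzc : ∀ x ∈ E, ⁅z, x⁆ ∈ Gm S (n - 2) := fun x hx => by
      have := Gm_top (a := n - 3) (c := n - 2) (by omega) hz (hES hx)
      exact this
    obtain ⟨s, c, w, fr, hc⟩ := frame_of hS hF hE p5 hcard hab el hzS hzE
      (fun x hx => by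
        have e : z * x * z⁻¹ = ⁅z, x⁆ * x := by
          simp only [commutatorElement_def]
          group
        rw [e]
        exact E.mul_mem (hZ1E (hzc x hx)) hx)
      (hZ1E hc₀) hc₀1 (fun x hx => by rw [hc₀z]; exact hzc x hx) (hcz z hzS) (fun y hy _ => hcz y hy)
    rw [hc₀z] at hc
    exact case_one h fr hz hc

end Cfsg.Agent.Lib.MaxEss3G
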