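import Cfsg.Agent.Lib.McC22Chk
import Cfsg.Agent.Lib.McC22St0
import Cfsg.Agent.Lib.McC22St1
import Cfsg.Agent.Lib.McC22St2
import Cfsg.Agent.Lib.McC22St3
import Cfsg.Agent.Lib.McC22St4
import Cfsg.Agent.Lib.McC22St5
import Cfsg.Agent.Lib.McC22St6

set_option autoImplicit false
set_option maxRecDepth 100000
set_option linter.unusedSectionVars false

/-! Generated file: the chain and the order of the group. -/

namespace Cfsg.Agent.Lib.McC22Main

open Cfsg.Agent.Lib.ChainCert Cfsg.Agent.Lib.ProgBits Cfsg.Agent.Lib.ProgChain Cfsg.Agent.Lib.PermChain Cfsg.Agent.Lib.TcBits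
open Cfsg.Agent.Lib.McC22Tab
open Cfsg.Agent.Lib.McC22Chk Cfsg.Agent.Lib.McC22St0 Cfsg.Agent.Lib.McC22St1 Cfsg.Agent.Lib.McC22St2 Cfsg.Agent.Lib.McC22St3 Cfsg.Agent.Lib.McC22St4 Cfsg.Agent.Lib.McC22St5 Cfsg.Agent.Lib.McC22St6

theorem hN : nat_lit 1024 = 2 ^ 10 := by norm_num
theorem hM : M = 2 ^ 653 - 1 := by decide +kernel
theorem hR : R = repU 1024 10 := by decide +kernel
theorem hY : Y = yId 10 := by decide +kernel
theorem htot : ∀ e, 57 ≤ e → pr e = [] := by
  intro e he
  rw [pr, show Nat.ble ((nat_lit 57)) e = true from Nat.ble_eq_true_of_le he]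
  rfl

/-- the context -/
theorem ctx : Ctx 653 10 pr R Y :=
  ctx_mk' (N := (nat_lit 1024)) (M := M) (tot := 57) (by norm_num) hN hM hR hY let_all htot

/-- the letters -/
noncomputable abbrev g : ℕ → Equiv.Perm (Fin 653) := lp pr 653

theorem hOb6 : Om6.testBit 275 = true := by decide +kernel
theorem hroot6 : tw6 275 = [] := by decide +kernel
theorem lev6 : (∀ e, 55 ≤ e → g e ∈ grp g 55 2) ∧
    Level (grp g 55 2) (grp g 57 0) ⟨275, by norm_num⟩
      (fun p => prodW g (tw6 p.val)) (orbF 653 Om6) :=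
  level_bundle ctx (lo := 55) (ns := 2) (hi := 57) (ns' := 0) (b := 275) (Om := Om6) (tw := tw6) (st := stE6) (der := derT) (wA := certA) (wB := certB) (by norm_num)
    der6_all cert6_all fix6_all img6_all hOb6 hroot6 st6_all (letters_bottom ctx htot)
theorem cOm6 : (orbF 653 Om6).card = 3 := by
  rw [card_orbF]; decide +kernel
theorem hOb5 : Om5.testBit 3 = true := by decide +kernel
theorem hroot5 : tw5 3 = [] := by decide +kernel
theorem lev5 : (∀ e, 53 ≤ e → g e ∈ grp g 53 2) ∧
    Level (grp g 53 2) (grp g 55 2) ⟨3, by norm_num⟩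
      (fun p => prodW g (tw5 p.val)) (orbF 653 Om5) :=
  level_bundle ctx (lo := 53) (ns := 2) (hi := 55) (ns' := 2) (b := 3) (Om := Om5) (tw := tw5) (st := stE5) (der := derT) (wA := certA) (wB := certB) (by norm_num)
    der5_all cert5_all fix5_all img5_all hOb5 hroot5 st5_all (lev6).1
theorem cOm5 : (orbF 653 Om5).card = 3 := by
  rw [card_orbF]; decide +kernel
theorem hOb4 : Om4.testBit 2 = true := by decide +kernel
theorem hroot4 : tw4 2 = [] := by decide +kernel
theorem lev4 : (∀ e, 50 ≤ e → g e ∈ grp g 50 3) ∧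
    Level (grp g 50 3) (grp g 53 2) ⟨2, by norm_num⟩
      (fun p => prodW g (tw4 p.val)) (orbF 653 Om4) :=
  level_bundle ctx (lo := 50) (ns := 3) (hi := 53) (ns' := 2) (b := 2) (Om := Om4) (tw := tw4) (st := stE4) (der := derT) (wA := certA) (wB := certB) (by norm_num)
    der4_all cert4_all fix4_all img4_all hOb4 hroot4 st4_all (lev5).1
theorem cOm4 : (orbF 653 Om4).card = 6 := by
  rw [card_orbF]; decide +kernel
theorem hOb3 : Om3.testBit 1 = true := by decide +kernel
theorem hroot3 : tw3 1 = [] := by decide +kernel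
theorem lev3 : (∀ e, 39 ≤ e → g e ∈ grp g 39 5) ∧
    Level (grp g 39 5) (grp g 50 3) ⟨1, by norm_num⟩
      (fun p => prodW g (tw3 p.val)) (orbF 653 Om3) :=
  level_bundle ctx (lo := 39) (ns := 5) (hi := 50) (ns' := 3) (b := 1) (Om := Om3) (tw := tw3) (st := stE3) (der := derT) (wA := certA) (wB := certB) (by norm_num)
    der3_all cert3_all fix3_all img3_all hOb3 hroot3 st3_all (lev4).1
theorem cOm3 : (orbF 653 Om3).card = 27 := by
  rw [card_orbF]; decide +kernel
theorem hOb2 : Om2.testBit 131 = true := by decide +kernel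
theorem hroot2 : tw2 131 = [] := by decide +kernel
theorem lev2 : (∀ e, 35 ≤ e → g e ∈ grp g 35 4) ∧
    Level (grp g 35 4) (grp g 39 5) ⟨131, by norm_num⟩
      (fun p => prodW g (tw2 p.val)) (orbF 653 Om2) :=
  level_bundle ctx (lo := 35) (ns := 4) (hi := 39) (ns' := 5) (b := 131) (Om := Om2) (tw := tw2) (st := stE2) (der := derT) (wA := certA) (wB := certB) (by norm_num)
    der2_all cert2_all fix2_all img2_all hOb2 hroot2 st2_all (lev3).1
theorem cOm2 : (orbF 653 Om2).card = 2 := by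
  rw [card_orbF]; decide +kernel
theorem hOb1 : Om1.testBit 126 = true := by decide +kernel
theorem hroot1 : tw1 126 = [] := by decide +kernel
theorem lev1 : (∀ e, 23 ≤ e → g e ∈ grp g 23 2) ∧
    Level (grp g 23 2) (grp g 35 4) ⟨126, by norm_num⟩
      (fun p => prodW g (tw1 p.val)) (orbF 653 Om1) :=
  level_bundle ctx (lo := 23) (ns := 2) (hi := 35) (ns' := 4) (b := 126) (Om := Om1) (tw := tw1) (st := stE1) (der := derT) (wA := certA) (wB := certB) (by norm_num)
    der1_all cert1_all fix1_all img1_all hOb1 hroot1 st1_all (lev2).1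
theorem cOm1 : (orbF 653 Om1).card = 30 := by
  rw [card_orbF]; decide +kernel
theorem hOb0 : Om0.testBit 6 = true := by decide +kernel
theorem hroot0 : tw0 6 = [] := by decide +kernel
theorem lev0 : (∀ e, 0 ≤ e → g e ∈ grp g 0 2) ∧
    Level (grp g 0 2) (grp g 23 2) ⟨6, by norm_num⟩
      (fun p => prodW g (tw0 p.val)) (orbF 653 Om0) :=
  level_bundle ctx (lo := 0) (ns := 2) (hi := 23) (ns' := 2) (b := 6) (Om := Om0) (tw := tw0) (st := stE0) (der := derT) (wA := certA) (wB := certB) (by norm_num)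
    der0_all cert0_all fix0_all img0_all hOb0 hroot0 st0_all (lev1).1
theorem cOm0 : (orbF 653 Om0).card = 112 := by
  rw [card_orbF]; decide +kernel
theorem cardH7 : Nat.card (grp g 57 0) = 1 := by
  rw [grp_zero]; simp
theorem cardH6 : Nat.card (grp g 55 2) = 3 := by
  rw [(lev6).2.card, cOm6, cardH7]
theorem cardH5 : Nat.card (grp g 53 2) = 9 := by
  rw [(lev5).2.card, cOm5, cardH6]
theorem cardH4 : Nat.card (grp g 50 3) = 54 := by
  rw [(lev4).2.card, cOm4, cardH5]
theorem cardH3 : Nat.card (grp g 39 5) = 1458 := by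
  rw [(lev3).2.card, cOm3, cardH4]
theorem cardH2 : Nat.card (grp g 35 4) = 2916 := by
  rw [(lev2).2.card, cOm2, cardH3]
theorem cardH1 : Nat.card (grp g 23 2) = 87480 := by
  rw [(lev1).2.card, cOm1, cardH2]
theorem cardH0 : Nat.card (grp g 0 2) = 9797760 := by
  rw [(lev0).2.card, cOm0, cardH1]

end Cfsg.Agent.Lib.McC22Main
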