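import Cfsg.Agent.Lib.ProgChain
import Cfsg.Agent.Lib.McG122Prog0

set_option autoImplicit false

namespace Cfsg.Agent.Lib.McG122Tab

open Cfsg.Agent.Lib.ChainCert Cfsg.Agent.Lib.ProgBits Cfsg.Agent.Lib.ProgChain Cfsg.Agent.Lib.PermChain Cfsg.Agent.Lib.TcBits

def sel1_3 (c : ℕ) : List (ℕ × ℕ) := cond (Nat.ble c ((nat_lit 1))) (Cfsg.Agent.Lib.McG122Prog0.P1 c) (Cfsg.Agent.Lib.McG122Prog0.P2 c)
def sel0_3 (c : ℕ) : List (ℕ × ℕ) := cond (Nat.ble c ((nat_lit 0))) (Cfsg.Agent.Lib.McG122Prog0.P0 c) (sel1_3 c)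
def sel4_6 (c : ℕ) : List (ℕ × ℕ) := cond (Nat.ble c ((nat_lit 4))) (Cfsg.Agent.Lib.McG122Prog0.P4 c) (Cfsg.Agent.Lib.McG122Prog0.P5 c)
def sel3_6 (c : ℕ) : List (ℕ × ℕ) := cond (Nat.ble c ((nat_lit 3))) (Cfsg.Agent.Lib.McG122Prog0.P3 c) (sel4_6 c)
def sel0_6 (c : ℕ) : List (ℕ × ℕ) := cond (Nat.ble c ((nat_lit 2))) (sel0_3 c) (sel3_6 c)
def sel7_9 (c : ℕ) : List (ℕ × ℕ) := cond (Nat.ble c ((nat_lit 7))) (Cfsg.Agent.Lib.McG122Prog0.P7 c) (Cfsg.Agent.Lib.McG122Prog0.P8 c)
def sel6_9 (c : ℕ) : List (ℕ × ℕ) := cond (Nat.ble c ((nat_lit 6))) (Cfsg.Agent.Lib.McG122Prog0.P6 c) (sel7_9 c)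
def sel9_11 (c : ℕ) : List (ℕ × ℕ) := cond (Nat.ble c ((nat_lit 9))) (Cfsg.Agent.Lib.McG122Prog0.P9 c) (Cfsg.Agent.Lib.McG122Prog0.P10 c)
def sel11_13 (c : ℕ) : List (ℕ × ℕ) := cond (Nat.ble c ((nat_lit 11))) (Cfsg.Agent.Lib.McG122Prog0.P11 c) (Cfsg.Agent.Lib.McG122Prog0.P12 c)
def sel9_13 (c : ℕ) : List (ℕ × ℕ) := cond (Nat.ble c ((nat_lit 10))) (sel9_11 c) (sel11_13 c)
def sel6_13 (c : ℕ) : List (ℕ × ℕ) := cond (Nat.ble c ((nat_lit 8))) (sel6_9 c) (sel9_13 c)
def sel0_13 (c : ℕ) : List (ℕ × ℕ) := cond (Nat.ble c ((nat_lit 5))) (sel0_6 c) (sel6_13 c)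
/-- the programs -/
def pr (e : ℕ) : List (ℕ × ℕ) := cond (Nat.ble ((nat_lit 13)) e) [] (sel0_13 e)

/-- the repunit -/
def R : ℕ := nat_lit 0x10000000000000000000000000000000000000000000000000000000000000000000000000000000000000000000000000000000000000000000000000000000100000000000000000000000000000000000000000000000000000000000000000000000000000000000000000000000000000000000000000000000000000001000000000000000000000000000000000000000000000000000000000000000000000000000000000000000000000000000000000000000000000000000000010000000000000000000000000000000000000000000000000000000000000000000000000000000000000000000000000000000000000000000000000000000100000000000000000000000000000000000000000000000000000000000000000000000000000000000000000000000000000000000000000000000000000001000000000000000000000000000000000000000000000000000000000000000000000000000000000000000000000000000000000000000000000000000000010000000000000000000000000000000000000000000000000000000000000000000000000000000000000000000000000000000000000000000000000000000100000000000000000000000000000000000000000000000000000000000000000000000000000000000000000000000000000000000000000000000000000001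
/-- all the slices of the identity -/
def Y : ℕ := nat_lit 0xffffffffffffffffffffffffffffffffffffffffffffffffffffffffffffffff0000000000000000000000000000000000000000000000000000000000000000ffffffffffffffffffffffffffffffff00000000000000000000000000000000ffffffffffffffffffffffffffffffff00000000000000000000000000000000ffffffffffffffff0000000000000000ffffffffffffffff0000000000000000ffffffffffffffff0000000000000000ffffffffffffffff0000000000000000ffffffff00000000ffffffff00000000ffffffff00000000ffffffff00000000ffffffff00000000ffffffff00000000ffffffff00000000ffffffff00000000ffff0000ffff0000ffff0000ffff0000ffff0000ffff0000ffff0000ffff0000ffff0000ffff0000ffff0000ffff0000ffff0000ffff0000ffff0000ffff0000ff00ff00ff00ff00ff00ff00ff00ff00ff00ff00ff00ff00ff00ff00ff00ff00ff00ff00ff00ff00ff00ff00ff00ff00ff00ff00ff00ff00ff00ff00ff00ff00f0f0f0f0f0f0f0f0f0f0f0f0f0f0f0f0f0f0f0f0f0f0f0f0f0f0f0f0f0f0f0f0f0f0f0f0f0f0f0f0f0f0f0f0f0f0f0f0f0f0f0f0f0f0f0f0f0f0f0f0f0f0f0f0ccccccccccccccccccccccccccccccccccccccccccccccccccccccccccccccccccccccccccccccccccccccccccccccccccccccccccccccccccccccccccccccccaaaaaaaaaaaaaaaaaaaaaaaaaaaaaaaaaaaaaaaaaaaaaaaaaaaaaaaaaaaaaaaaaaaaaaaaaaaaaaaaaaaaaaaaaaaaaaaaaaaaaaaaaaaaaaaaaaaaaaaaaaaaaaaa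
/-- the mask of the points -/
def M : ℕ := nat_lit 0x7ffffffffffffffffffffffffffffffffffffffffffffffffffffffffffffffffffff

def derT_0 (_ : ℕ) : ℕ := nat_lit 0x3002001000000000000000000
/-- table lookup -/
def derT (i : ℕ) : ℕ := Nat.land (Nat.shiftRight (derT_0 (Nat.shiftRight i (nat_lit 6))) (Nat.mul (nat_lit 24) (Nat.land i (nat_lit 63)))) (nat_lit 16777215)
def certA_0 (_ : ℕ) : ℕ := nat_lit 0xa00b00a00a00b00b00000000a00a00a00b00b009008009008009008009000000009009009009009000000000000006007006000006007006007007007000000000000005004003000003001005002001001000000000000000000000000000000000000000000000000000000000000000000000000000000000000000000000000000000000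
/-- table lookup -/
def certA (i : ℕ) : ℕ := Nat.land (Nat.shiftRight (certA_0 (Nat.shiftRight i (nat_lit 4))) (Nat.mul (nat_lit 84) (Nat.land i (nat_lit 15)))) (nat_lit 19342813113834066795298815)
def certB_0 (_ : ℕ) : ℕ := nat_lit 0xb000000000000000009000000008000000006000000000000002002002002002000000000000000000000000000000000000000000000
/-- table lookup -/
def certB (i : ℕ) : ℕ := Nat.land (Nat.shiftRight (certB_0 (Nat.shiftRight i (nat_lit 4))) (Nat.mul (nat_lit 36) (Nat.land i (nat_lit 15)))) (nat_lit 68719476735)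
/-- the orbit -/
def Om0 : ℕ := nat_lit 0x8000804100000000000000200000400000000000004000000000000000000
def twE0_0 (_ : ℕ) : ℕ := nat_lit 0x0
def twE0_1 (_ : ℕ) : ℕ := nat_lit 0x0
def twE0_2 (_ : ℕ) : ℕ := nat_lit 0x2004000000000000000000000000000000000000000000000000000000000000000000000000000000000000000000000000000000000000000000000000000000000000000000000000000000000000000000000000000000000000000000000000000000000002003000000000000000000
def twE0_3 (_ : ℕ) : ℕ := nat_lit 0x2000000000000000000000000000000000000000000000000000000000000000000000000000000000000000000000000000000000000000000000000000000000000000002002002000000000000000000000000000000000000000000000000000000000000000000000000000002002000000000000000000000000000000000000000000000000002001000000000000000000000000000000000000000000000000000000000000000000000000000000000000000000000000000000000000000000000000000000000000000000000000000000000000000000000000000000000000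
def twE0_4 (_ : ℕ) : ℕ := nat_lit 0x0
def twE0_s0_2 (c : ℕ) : ℕ := cond (Nat.ble c (nat_lit 0)) (twE0_0 c) (twE0_1 c)
def twE0_s3_5 (c : ℕ) : ℕ := cond (Nat.ble c (nat_lit 3)) (twE0_3 c) (twE0_4 c)
def twE0_s2_5 (c : ℕ) : ℕ := cond (Nat.ble c (nat_lit 2)) (twE0_2 c) (twE0_s3_5 c)
def twE0_s0_5 (c : ℕ) : ℕ := cond (Nat.ble c (nat_lit 1)) (twE0_s0_2 c) (twE0_s2_5 c)
/-- table lookup -/
def twE0 (i : ℕ) : ℕ := Nat.land (Nat.shiftRight (twE0_s0_5 (Nat.shiftRight i (nat_lit 6))) (Nat.mul (nat_lit 36) (Nat.land i (nat_lit 63)))) (nat_lit 68719476735)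
/-- transversal words -/
def tw0 (p : ℕ) : List ℕ := unpW (nat_lit 32) (twE0 p)
def stE0_0 (_ : ℕ) : ℕ := nat_lit 0x0
def stE0_1 (_ : ℕ) : ℕ := nat_lit 0x0
def stE0_2 (_ : ℕ) : ℕ := nat_lit 0xf300000000904a000000000000000000000000000000000000000000000000000000000000000000000000000000000000000000000000000000000000000000000000000000000000000000000000000000000000000000000000000000000000000000000000000000000000000000000000000000000000000000000000
def stE0_3 (_ : ℕ) : ℕ := nat_lit 0x0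
def stE0_4 (_ : ℕ) : ℕ := nat_lit 0xc00b0d40000000080e30000000000000000000000000000000000000000000000000000000000000000000000000000000000000000000000000000000000000000000000000000000000000000000000000000000000000000000000000000000000000000000000000000000000000000000000000000000000000000000000000000000000000000000000000000000000000000000000000000000000000000000000000000000000000000000000000000000000000000000000000000000000000000000000000000000000000000000000000000000000000000000000000000000000000000000000000000000000000000000000000000000000000000000000000000000000000000000000000000000000990000000000f3000000000000000000000000000000000000000000000000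
def stE0_5 (_ : ℕ) : ℕ := nat_lit 0x0
def stE0_6 (_ : ℕ) : ℕ := nat_lit 0xe300c00800609900000000000000000000000000000000000000000000000000000000000000000000000000000000000000000000000000000000000000000000000000000b00604a000000000082000000000000000000000000000000000000000000000000000000000000000000000000000000000000000000000000000000000000000000000000000000000000000000000000000000000000000000000000000000000000000000000000000000000000000000000000000000000000000000000000000000000000000000000000000000000000000000000000000000000000000000000000000000000000000000000000000000000000000000000000000000000000000000000000000000000000000000000000000000000000000000000000000000000000000000000000000000000000000000000000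
def stE0_7 (_ : ℕ) : ℕ := nat_lit 0xda0000000000d400000000000000000000000000000000000000000000000000000000000000000000000000000000000000000000000000000000000000000000000000000000000000000000000000000000000000000000000000000000000000000000000000000000000000000000000000000000000000000000000000000000000000000000000000000000000000000000000000000000000000000000000000000000000000000000000000000000000000000000000000000000608200000c0060da000000000000000000000000000000000000000000000000000000000000000000000000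
def stE0_8 (_ : ℕ) : ℕ := nat_lit 0x0
def stE0_s0_2 (c : ℕ) : ℕ := cond (Nat.ble c (nat_lit 0)) (stE0_0 c) (stE0_1 c)
def stE0_s2_4 (c : ℕ) : ℕ := cond (Nat.ble c (nat_lit 2)) (stE0_2 c) (stE0_3 c)
def stE0_s0_4 (c : ℕ) : ℕ := cond (Nat.ble c (nat_lit 1)) (stE0_s0_2 c) (stE0_s2_4 c)
def stE0_s4_6 (c : ℕ) : ℕ := cond (Nat.ble c (nat_lit 4)) (stE0_4 c) (stE0_5 c)
def stE0_s7_9 (c : ℕ) : ℕ := cond (Nat.ble c (nat_lit 7)) (stE0_7 c) (stE0_8 c)
def stE0_s6_9 (c : ℕ) : ℕ := cond (Nat.ble c (nat_lit 6)) (stE0_6 c) (stE0_s7_9 c)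
def stE0_s4_9 (c : ℕ) : ℕ := cond (Nat.ble c (nat_lit 5)) (stE0_s4_6 c) (stE0_s6_9 c)
def stE0_s0_9 (c : ℕ) : ℕ := cond (Nat.ble c (nat_lit 3)) (stE0_s0_4 c) (stE0_s4_9 c)
/-- table lookup -/
def stE0 (i : ℕ) : ℕ := Nat.land (Nat.shiftRight (stE0_s0_9 (Nat.shiftRight i (nat_lit 6))) (Nat.mul (nat_lit 48) (Nat.land i (nat_lit 63)))) (nat_lit 281474976710655)
/-- step check -/
def Pst0 : ℕ → Bool := ProgChain.stepChk R Y pr (nat_lit 275) (nat_lit 0) (nat_lit 2) (nat_lit 5) Om0 tw0 stE0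
/-- images -/
def Pimg0 : ℕ → Bool := imgChk pr (nat_lit 0) Om0 tw0 (nat_lit 74)
/-- derived letters -/
def Pder0 (e : ℕ) : Bool := cond (Nat.ble ((nat_lit 2)) e) (derChk R Y pr (nat_lit 0) derT e) true
/-- next generators -/
def Pcert0 (e : ℕ) : Bool := cond (Nat.ble ((nat_lit 5)) e) (certChk R Y pr (nat_lit 0) (nat_lit 5) certA certB e) true
/-- next generators fix the point -/
def Pfix0 (e : ℕ) : Bool := cond (Nat.ble ((nat_lit 5)) e) (ptChk pr [e] (nat_lit 74) (nat_lit 74)) true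
/-- the orbit -/
def Om1 : ℕ := nat_lit 0x4000000000000000000000000000000200000000
def twE1_0 (_ : ℕ) : ℕ := nat_lit 0x0
def twE1_1 (_ : ℕ) : ℕ := nat_lit 0x0
def twE1_2 (_ : ℕ) : ℕ := nat_lit 0x6000000000000000000000000000000000000000000000000000000000000000000000000000000000000000000
def twE1_3 (_ : ℕ) : ℕ := nat_lit 0x0
def twE1_4 (_ : ℕ) : ℕ := nat_lit 0x0
def twE1_s0_2 (c : ℕ) : ℕ := cond (Nat.ble c (nat_lit 0)) (twE1_0 c) (twE1_1 c)
def twE1_s3_5 (c : ℕ) : ℕ := cond (Nat.ble c (nat_lit 3)) (twE1_3 c) (twE1_4 c)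
def twE1_s2_5 (c : ℕ) : ℕ := cond (Nat.ble c (nat_lit 2)) (twE1_2 c) (twE1_s3_5 c)
def twE1_s0_5 (c : ℕ) : ℕ := cond (Nat.ble c (nat_lit 1)) (twE1_s0_2 c) (twE1_s2_5 c)
/-- table lookup -/
def twE1 (i : ℕ) : ℕ := Nat.land (Nat.shiftRight (twE1_s0_5 (Nat.shiftRight i (nat_lit 6))) (Nat.mul (nat_lit 12) (Nat.land i (nat_lit 63)))) (nat_lit 4095)
/-- transversal words -/
def tw1 (p : ℕ) : List ℕ := unpW (nat_lit 32) (twE1 p)
def stE1_0 (_ : ℕ) : ℕ := nat_lit 0x0
def stE1_1 (_ : ℕ) : ℕ := nat_lit 0xc00b00809e00000000009e000000000000000000000000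
def stE1_2 (_ : ℕ) : ℕ := nat_lit 0x0
def stE1_3 (_ : ℕ) : ℕ := nat_lit 0x0
def stE1_4 (_ : ℕ) : ℕ := nat_lit 0x902100000000c021000000000000000000000000000000000000000000000000000000000000000000000000000000000000000000000000000000000000000000000000000000000000000000000000000000000000000000000000000000000000000000000000000000000000000000000000000000000000000000000000000000000000000000000000000000000000000000000000000000000000000000000000000000000000000000000000000000000000000000000000000000000000000000000000000000000000000000000000000000000000000000000000000000000000000000000000000000000000000000000000000000000000000000000000000000000000000000000000000000000000000000000000000000000000000000000000000000000000000000000000000000000000000000000000000000000000000000000000000000000000000000000000000000000000000000000000000000000000000000000000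
def stE1_5 (_ : ℕ) : ℕ := nat_lit 0x0
def stE1_6 (_ : ℕ) : ℕ := nat_lit 0x0
def stE1_7 (_ : ℕ) : ℕ := nat_lit 0x0
def stE1_8 (_ : ℕ) : ℕ := nat_lit 0x0
def stE1_s0_2 (c : ℕ) : ℕ := cond (Nat.ble c (nat_lit 0)) (stE1_0 c) (stE1_1 c)
def stE1_s2_4 (c : ℕ) : ℕ := cond (Nat.ble c (nat_lit 2)) (stE1_2 c) (stE1_3 c)
def stE1_s0_4 (c : ℕ) : ℕ := cond (Nat.ble c (nat_lit 1)) (stE1_s0_2 c) (stE1_s2_4 c)
def stE1_s4_6 (c : ℕ) : ℕ := cond (Nat.ble c (nat_lit 4)) (stE1_4 c) (stE1_5 c)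
def stE1_s7_9 (c : ℕ) : ℕ := cond (Nat.ble c (nat_lit 7)) (stE1_7 c) (stE1_8 c)
def stE1_s6_9 (c : ℕ) : ℕ := cond (Nat.ble c (nat_lit 6)) (stE1_6 c) (stE1_s7_9 c)
def stE1_s4_9 (c : ℕ) : ℕ := cond (Nat.ble c (nat_lit 5)) (stE1_s4_6 c) (stE1_s6_9 c)
def stE1_s0_9 (c : ℕ) : ℕ := cond (Nat.ble c (nat_lit 3)) (stE1_s0_4 c) (stE1_s4_9 c)
/-- table lookup -/
def stE1 (i : ℕ) : ℕ := Nat.land (Nat.shiftRight (stE1_s0_9 (Nat.shiftRight i (nat_lit 6))) (Nat.mul (nat_lit 48) (Nat.land i (nat_lit 63)))) (nat_lit 281474976710655)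
/-- step check -/
def Pst1 : ℕ → Bool := ProgChain.stepChk R Y pr (nat_lit 275) (nat_lit 5) (nat_lit 2) (nat_lit 7) Om1 tw1 stE1
/-- images -/
def Pimg1 : ℕ → Bool := imgChk pr (nat_lit 5) Om1 tw1 (nat_lit 33)
/-- derived letters -/
def Pder1 (e : ℕ) : Bool := cond (Nat.ble ((nat_lit 7)) e) (derChk R Y pr (nat_lit 5) derT e) true
/-- next generators -/
def Pcert1 (e : ℕ) : Bool := cond (Nat.ble ((nat_lit 7)) e) (certChk R Y pr (nat_lit 5) (nat_lit 7) certA certB e) true
/-- next generators fix the point -/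
def Pfix1 (e : ℕ) : Bool := cond (Nat.ble ((nat_lit 7)) e) (ptChk pr [e] (nat_lit 33) (nat_lit 33)) true
/-- the orbit -/
def Om2 : ℕ := nat_lit 0x120000000000000040
def twE2_0 (_ : ℕ) : ℕ := nat_lit 0x0
def twE2_1 (_ : ℕ) : ℕ := nat_lit 0x8000000009000
def twE2_2 (_ : ℕ) : ℕ := nat_lit 0x0
def twE2_3 (_ : ℕ) : ℕ := nat_lit 0x0
def twE2_4 (_ : ℕ) : ℕ := nat_lit 0x0
def twE2_s0_2 (c : ℕ) : ℕ := cond (Nat.ble c (nat_lit 0)) (twE2_0 c) (twE2_1 c)
def twE2_s3_5 (c : ℕ) : ℕ := cond (Nat.ble c (nat_lit 3)) (twE2_3 c) (twE2_4 c)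
def twE2_s2_5 (c : ℕ) : ℕ := cond (Nat.ble c (nat_lit 2)) (twE2_2 c) (twE2_s3_5 c)
def twE2_s0_5 (c : ℕ) : ℕ := cond (Nat.ble c (nat_lit 1)) (twE2_s0_2 c) (twE2_s2_5 c)
/-- table lookup -/
def twE2 (i : ℕ) : ℕ := Nat.land (Nat.shiftRight (twE2_s0_5 (Nat.shiftRight i (nat_lit 6))) (Nat.mul (nat_lit 12) (Nat.land i (nat_lit 63)))) (nat_lit 4095)
/-- transversal words -/
def tw2 (p : ℕ) : List ℕ := unpW (nat_lit 32) (twE2 p)
def stE2_0 (_ : ℕ) : ℕ := nat_lit 0x41000044000000000000000000000000000000000000000000000000000000000000000000000000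
def stE2_1 (_ : ℕ) : ℕ := nat_lit 0x0
def stE2_2 (_ : ℕ) : ℕ := nat_lit 0xc00600b04100000000000000000000000000c04400b006000000000000
def stE2_3 (_ : ℕ) : ℕ := nat_lit 0x0
def stE2_4 (_ : ℕ) : ℕ := nat_lit 0x0
def stE2_5 (_ : ℕ) : ℕ := nat_lit 0x0
def stE2_6 (_ : ℕ) : ℕ := nat_lit 0x0
def stE2_7 (_ : ℕ) : ℕ := nat_lit 0x0
def stE2_8 (_ : ℕ) : ℕ := nat_lit 0x0
def stE2_s0_2 (c : ℕ) : ℕ := cond (Nat.ble c (nat_lit 0)) (stE2_0 c) (stE2_1 c)
def stE2_s2_4 (c : ℕ) : ℕ := cond (Nat.ble c (nat_lit 2)) (stE2_2 c) (stE2_3 c)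
def stE2_s0_4 (c : ℕ) : ℕ := cond (Nat.ble c (nat_lit 1)) (stE2_s0_2 c) (stE2_s2_4 c)
def stE2_s4_6 (c : ℕ) : ℕ := cond (Nat.ble c (nat_lit 4)) (stE2_4 c) (stE2_5 c)
def stE2_s7_9 (c : ℕ) : ℕ := cond (Nat.ble c (nat_lit 7)) (stE2_7 c) (stE2_8 c)
def stE2_s6_9 (c : ℕ) : ℕ := cond (Nat.ble c (nat_lit 6)) (stE2_6 c) (stE2_s7_9 c)
def stE2_s4_9 (c : ℕ) : ℕ := cond (Nat.ble c (nat_lit 5)) (stE2_s4_6 c) (stE2_s6_9 c)
def stE2_s0_9 (c : ℕ) : ℕ := cond (Nat.ble c (nat_lit 3)) (stE2_s0_4 c) (stE2_s4_9 c)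
/-- table lookup -/
def stE2 (i : ℕ) : ℕ := Nat.land (Nat.shiftRight (stE2_s0_9 (Nat.shiftRight i (nat_lit 6))) (Nat.mul (nat_lit 24) (Nat.land i (nat_lit 63)))) (nat_lit 16777215)
/-- step check -/
def Pst2 : ℕ → Bool := ProgChain.stepChk R Y pr (nat_lit 275) (nat_lit 7) (nat_lit 2) (nat_lit 9) Om2 tw2 stE2
/-- images -/
def Pimg2 : ℕ → Bool := imgChk pr (nat_lit 7) Om2 tw2 (nat_lit 6)
/-- derived letters -/
def Pder2 (e : ℕ) : Bool := cond (Nat.ble ((nat_lit 9)) e) (derChk R Y pr (nat_lit 7) derT e) true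
/-- next generators -/
def Pcert2 (e : ℕ) : Bool := cond (Nat.ble ((nat_lit 9)) e) (certChk R Y pr (nat_lit 7) (nat_lit 9) certA certB e) true
/-- next generators fix the point -/
def Pfix2 (e : ℕ) : Bool := cond (Nat.ble ((nat_lit 9)) e) (ptChk pr [e] (nat_lit 6) (nat_lit 6)) true
/-- the orbit -/
def Om3 : ℕ := nat_lit 0x40000000000000000000020000
def twE3_0 (_ : ℕ) : ℕ := nat_lit 0x0
def twE3_1 (_ : ℕ) : ℕ := nat_lit 0xb000000000000000000000000000000000000000000000000000000000000000000000000000000000000000000000000000000000000000000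
def twE3_2 (_ : ℕ) : ℕ := nat_lit 0x0
def twE3_3 (_ : ℕ) : ℕ := nat_lit 0x0
def twE3_4 (_ : ℕ) : ℕ := nat_lit 0x0
def twE3_s0_2 (c : ℕ) : ℕ := cond (Nat.ble c (nat_lit 0)) (twE3_0 c) (twE3_1 c)
def twE3_s3_5 (c : ℕ) : ℕ := cond (Nat.ble c (nat_lit 3)) (twE3_3 c) (twE3_4 c)
def twE3_s2_5 (c : ℕ) : ℕ := cond (Nat.ble c (nat_lit 2)) (twE3_2 c) (twE3_s3_5 c)
def twE3_s0_5 (c : ℕ) : ℕ := cond (Nat.ble c (nat_lit 1)) (twE3_s0_2 c) (twE3_s2_5 c)
/-- table lookup -/
def twE3 (i : ℕ) : ℕ := Nat.land (Nat.shiftRight (twE3_s0_5 (Nat.shiftRight i (nat_lit 6))) (Nat.mul (nat_lit 12) (Nat.land i (nat_lit 63)))) (nat_lit 4095)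
/-- transversal words -/
def tw3 (p : ℕ) : List ℕ := unpW (nat_lit 32) (twE3 p)
def stE3_0 (_ : ℕ) : ℕ := nat_lit 0x6600c011000000000000000000000000000000000000000000000000000000000000000000000000000000000000000000000000000000000000000000000000000000000000000000000000000000000000000000000000000000000000000000000000000000000000
def stE3_1 (_ : ℕ) : ℕ := nat_lit 0x0
def stE3_2 (_ : ℕ) : ℕ := nat_lit 0x0
def stE3_3 (_ : ℕ) : ℕ := nat_lit 0x1100c066000000000000000000000000000000000000000000000000000000000000000000000000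
def stE3_4 (_ : ℕ) : ℕ := nat_lit 0x0
def stE3_5 (_ : ℕ) : ℕ := nat_lit 0x0
def stE3_6 (_ : ℕ) : ℕ := nat_lit 0x0
def stE3_7 (_ : ℕ) : ℕ := nat_lit 0x0
def stE3_8 (_ : ℕ) : ℕ := nat_lit 0x0
def stE3_s0_2 (c : ℕ) : ℕ := cond (Nat.ble c (nat_lit 0)) (stE3_0 c) (stE3_1 c)
def stE3_s2_4 (c : ℕ) : ℕ := cond (Nat.ble c (nat_lit 2)) (stE3_2 c) (stE3_3 c)
def stE3_s0_4 (c : ℕ) : ℕ := cond (Nat.ble c (nat_lit 1)) (stE3_s0_2 c) (stE3_s2_4 c)
def stE3_s4_6 (c : ℕ) : ℕ := cond (Nat.ble c (nat_lit 4)) (stE3_4 c) (stE3_5 c)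
def stE3_s7_9 (c : ℕ) : ℕ := cond (Nat.ble c (nat_lit 7)) (stE3_7 c) (stE3_8 c)
def stE3_s6_9 (c : ℕ) : ℕ := cond (Nat.ble c (nat_lit 6)) (stE3_6 c) (stE3_s7_9 c)
def stE3_s4_9 (c : ℕ) : ℕ := cond (Nat.ble c (nat_lit 5)) (stE3_s4_6 c) (stE3_s6_9 c)
def stE3_s0_9 (c : ℕ) : ℕ := cond (Nat.ble c (nat_lit 3)) (stE3_s0_4 c) (stE3_s4_9 c)
/-- table lookup -/
def stE3 (i : ℕ) : ℕ := Nat.land (Nat.shiftRight (stE3_s0_9 (Nat.shiftRight i (nat_lit 6))) (Nat.mul (nat_lit 24) (Nat.land i (nat_lit 63)))) (nat_lit 16777215)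
/-- step check -/
def Pst3 : ℕ → Bool := ProgChain.stepChk R Y pr (nat_lit 275) (nat_lit 9) (nat_lit 2) (nat_lit 11) Om3 tw3 stE3
/-- images -/
def Pimg3 : ℕ → Bool := imgChk pr (nat_lit 9) Om3 tw3 (nat_lit 17)
/-- derived letters -/
def Pder3 (e : ℕ) : Bool := cond (Nat.ble ((nat_lit 11)) e) (derChk R Y pr (nat_lit 9) derT e) true
/-- next generators -/
def Pcert3 (e : ℕ) : Bool := cond (Nat.ble ((nat_lit 11)) e) (certChk R Y pr (nat_lit 9) (nat_lit 11) certA certB e) true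
/-- next generators fix the point -/
def Pfix3 (e : ℕ) : Bool := cond (Nat.ble ((nat_lit 11)) e) (ptChk pr [e] (nat_lit 17) (nat_lit 17)) true
/-- the orbit -/
def Om4 : ℕ := nat_lit 0x1000000000000000000000000000000000000000000000000001
def twE4_0 (_ : ℕ) : ℕ := nat_lit 0x0
def twE4_1 (_ : ℕ) : ℕ := nat_lit 0x0
def twE4_2 (_ : ℕ) : ℕ := nat_lit 0x0
def twE4_3 (_ : ℕ) : ℕ := nat_lit 0xc000000000000000000000000000000000000
def twE4_4 (_ : ℕ) : ℕ := nat_lit 0x0
def twE4_s0_2 (c : ℕ) : ℕ := cond (Nat.ble c (nat_lit 0)) (twE4_0 c) (twE4_1 c)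
def twE4_s3_5 (c : ℕ) : ℕ := cond (Nat.ble c (nat_lit 3)) (twE4_3 c) (twE4_4 c)
def twE4_s2_5 (c : ℕ) : ℕ := cond (Nat.ble c (nat_lit 2)) (twE4_2 c) (twE4_s3_5 c)
def twE4_s0_5 (c : ℕ) : ℕ := cond (Nat.ble c (nat_lit 1)) (twE4_s0_2 c) (twE4_s2_5 c)
/-- table lookup -/
def twE4 (i : ℕ) : ℕ := Nat.land (Nat.shiftRight (twE4_s0_5 (Nat.shiftRight i (nat_lit 6))) (Nat.mul (nat_lit 12) (Nat.land i (nat_lit 63)))) (nat_lit 4095)
/-- transversal words -/
def tw4 (p : ℕ) : List ℕ := unpW (nat_lit 32) (twE4 p)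
def stE4_0 (_ : ℕ) : ℕ := nat_lit 0xcc0cc
def stE4_1 (_ : ℕ) : ℕ := nat_lit 0x0
def stE4_2 (_ : ℕ) : ℕ := nat_lit 0x0
def stE4_3 (_ : ℕ) : ℕ := nat_lit 0x0
def stE4_4 (_ : ℕ) : ℕ := nat_lit 0x0
def stE4_5 (_ : ℕ) : ℕ := nat_lit 0x0
def stE4_6 (_ : ℕ) : ℕ := nat_lit 0x0
def stE4_7 (_ : ℕ) : ℕ := nat_lit 0x0
def stE4_8 (_ : ℕ) : ℕ := nat_lit 0x0
def stE4_s0_2 (c : ℕ) : ℕ := cond (Nat.ble c (nat_lit 0)) (stE4_0 c) (stE4_1 c)
def stE4_s2_4 (c : ℕ) : ℕ := cond (Nat.ble c (nat_lit 2)) (stE4_2 c) (stE4_3 c)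
def stE4_s0_4 (c : ℕ) : ℕ := cond (Nat.ble c (nat_lit 1)) (stE4_s0_2 c) (stE4_s2_4 c)
def stE4_s4_6 (c : ℕ) : ℕ := cond (Nat.ble c (nat_lit 4)) (stE4_4 c) (stE4_5 c)
def stE4_s7_9 (c : ℕ) : ℕ := cond (Nat.ble c (nat_lit 7)) (stE4_7 c) (stE4_8 c)
def stE4_s6_9 (c : ℕ) : ℕ := cond (Nat.ble c (nat_lit 6)) (stE4_6 c) (stE4_s7_9 c)
def stE4_s4_9 (c : ℕ) : ℕ := cond (Nat.ble c (nat_lit 5)) (stE4_s4_6 c) (stE4_s6_9 c)
def stE4_s0_9 (c : ℕ) : ℕ := cond (Nat.ble c (nat_lit 3)) (stE4_s0_4 c) (stE4_s4_9 c)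
/-- table lookup -/
def stE4 (i : ℕ) : ℕ := Nat.land (Nat.shiftRight (stE4_s0_9 (Nat.shiftRight i (nat_lit 6))) (Nat.mul (nat_lit 12) (Nat.land i (nat_lit 63)))) (nat_lit 4095)
/-- step check -/
def Pst4 : ℕ → Bool := ProgChain.stepChk R Y pr (nat_lit 275) (nat_lit 11) (nat_lit 2) (nat_lit 13) Om4 tw4 stE4
/-- images -/
def Pimg4 : ℕ → Bool := imgChk pr (nat_lit 11) Om4 tw4 (nat_lit 0)
/-- derived letters -/
def Pder4 (e : ℕ) : Bool := cond (Nat.ble ((nat_lit 13)) e) (derChk R Y pr (nat_lit 11) derT e) true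
/-- next generators -/
def Pcert4 (e : ℕ) : Bool := cond (Nat.ble ((nat_lit 13)) e) (certChk R Y pr (nat_lit 11) (nat_lit 13) certA certB e) true
/-- next generators fix the point -/
def Pfix4 (e : ℕ) : Bool := cond (Nat.ble ((nat_lit 13)) e) (ptChk pr [e] (nat_lit 0) (nat_lit 0)) true
/-- letters -/
def Plet (e : ℕ) : Bool := letterChk (nat_lit 512) M (pr e)

end Cfsg.Agent.Lib.McG122Tab
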