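import Mathlib
import Cfsg.Agent.Lib.McLFusData
import Cfsg.Agent.Lib.CoSimpleM22
import Cfsg.Agent.Lib.CoMcL
import Cfsg.Prelude.Def_Spor_Conway

set_option autoImplicit false
set_option maxRecDepth 100000

/-!
# The McLaughlin group acting on `275` points
-/

namespace Cfsg.Agent.Lib.McLBridge

open Cfsg Cfsg.Spor Cfsg.Agent.Lib.CoVec Cfsg.Agent.Lib.CoVec.McLG Cfsg.Agent.Lib.CoConf
  Cfsg.Agent.Lib.McLFusData Cfsg.Agent.Lib.PermChain12

/-- The code of a point. -/
def vC (i : ℕ) : ℕ := lCode (atW TP275 i)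

theorem v_chk : allB 275 9 (fun i => force (vC i) fun c =>
    and (stChk c) <| and (Nat.beq (sqN c) 32) <|
      and (Nat.beq (dotA v0 c) (Nat.add 16 (dotB v0 c))) (Nat.beq (dotA u0 c) (Nat.add 24 (dotB u0 c)))) = true := by
  decide +kernel

theorem mono_chk : allB 274 9 (fun i => Nat.ble (Nat.succ (vC i)) (vC (Nat.succ i))) = true := by decide +kernel

theorem act_chk : allB 3 2 (fun g => allB 275 9 (fun i => force (S g i) fun j =>
    and (Nat.ble (Nat.succ j) 275) (Nat.beq (act g (vC i)) (vC j)))) = true := by decide +kernel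

theorem v_facts {i : ℕ} (hi : i < 275) : St (vC i) ∧ sqN (vC i) = 32 ∧ dotA v0 (vC i) = 16 + dotB v0 (vC i) ∧
    dotA u0 (vC i) = 24 + dotB u0 (vC i) := by
  have h := allB_spec _ _ _ (by norm_num) v_chk i hi
  simp only [force_eq, Bool.and_eq_true] at h
  obtain ⟨h1, h2, h3, h4⟩ := h
  exact ⟨St_of_stChk h1, Nat.eq_of_beq_eq_true h2, Nat.eq_of_beq_eq_true h3, Nat.eq_of_beq_eq_true h4⟩

/-- The lattice vector of a point. -/
noncomputable def vv (i : Fin 275) : LL := ⟨dec (vC i), (v_facts i.2).1.2.1⟩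

theorem vv_mem (i : Fin 275) : vv i ∈ DS AP275 := by
  obtain ⟨h1, h2, h3, h4⟩ := v_facts i.2
  refine ⟨norm_code h2, ?_⟩
  intro p hp
  simp only [AP275, List.mem_cons, List.not_mem_nil, or_false] at hp
  rcases hp with rfl | rfl
  · refine dot_code (a := v0) (b := vC i) ?_
    rw [h3]
    push_cast
    ring
  · refine dot_code (a := u0) (b := vC i) ?_
    rw [h4]
    push_cast
    ring

theorem vC_lt {i j : ℕ} (hij : i < j) (hj : j < 275) : vC i < vC j := by
  induction j, hij using Nat.le_induction with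
  | base =>
    exact Nat.le_of_ble_eq_true (allB_spec _ _ _ (by norm_num) mono_chk i (by omega))
  | succ j hj' ih =>
    have h1 := ih (by omega)
    have h2 : vC j < vC (j + 1) := Nat.le_of_ble_eq_true (allB_spec _ _ _ (by norm_num) mono_chk j (by omega))
    omega

theorem vv_inj : Function.Injective vv := by
  intro a b hab
  have h1 : dec (vC a) = dec (vC b) := congrArg Subtype.val hab
  have h2 : vC a = vC b := dec_injOn (v_facts a.2).1.1 (v_facts b.2).1.1 h1
  apply Fin.ext
  rcases lt_trichotomy a.val b.val with h | h | h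
  · exact absurd h2 (Nat.ne_of_lt (vC_lt h b.2))
  · exact h
  · exact absurd h2.symm (Nat.ne_of_lt (vC_lt h a.2))

theorem vv_surj {x : LL} (hx : x ∈ DS AP275) : ∃ i, vv i = x := by
  have hc := parts_std.1
  have hfin : (DS AP275).Finite := Set.finite_of_ncard_ne_zero (by rw [hc]; norm_num)
  have hsub : Set.range vv ⊆ DS AP275 := by
    rintro _ ⟨i, rfl⟩
    exact vv_mem i
  have hcard : (Set.range vv).ncard = 275 := by
    rw [← Set.image_univ, Set.ncard_image_of_injective _ vv_inj, Set.ncard_univ]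
    simp
  have he := Set.eq_of_subset_of_ncard_le hsub (by rw [hc, hcard]) hfin
  rw [← he] at hx
  exact hx

/-- The numbering of the points. -/
noncomputable def τE : Fin 275 ≃ DS AP275 :=
  Equiv.ofBijective (fun i => ⟨vv i, vv_mem i⟩) (by
    constructor
    · intro a b hab
      exact vv_inj (congrArg Subtype.val hab)
    · rintro ⟨x, hx⟩
      obtain ⟨i, hi⟩ := vv_surj hx
      exact ⟨i, Subtype.ext hi⟩)

theorem τE_val (i : Fin 275) : (τE i : LL) = vv i := rfl

/-- The action on the points. -/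
noncomputable def actX (h : H) : Equiv.Perm (DS AP275) where
  toFun x := ⟨(h : Co0) • (x : LL), smul_mem_DS (fixAP275 h h.2) x.2⟩
  invFun x := ⟨(h : Co0)⁻¹ • (x : LL), smul_mem_DS (fixAP275 _ (H.inv_mem h.2)) x.2⟩
  left_inv x := Subtype.ext (inv_smul_smul (h : Co0) (x : LL))
  right_inv x := Subtype.ext (smul_inv_smul (h : Co0) (x : LL))

/-- The action on the points. -/
noncomputable def actHom : H →* Equiv.Perm (DS AP275) where
  toFun := actX
  map_one' := by
    refine Equiv.ext fun x => Subtype.ext ?_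
    show ((1 : Co0) • (x : LL) : LL) = x
    rw [one_smul]
  map_mul' a b := by
    refine Equiv.ext fun x => Subtype.ext ?_
    show (((a * b : H) : Co0) • (x : LL) : LL) = (a : Co0) • ((b : Co0) • (x : LL))
    rw [Subgroup.coe_mul, mul_smul]

/-- The action on the numbers. -/
noncomputable def ι : H →* Equiv.Perm (Fin 275) :=
  (Equiv.permCongrHom τE.symm).toMonoidHom.comp actHom

theorem ι_apply (h : H) (i : Fin 275) : τE (ι h i) = actX h (τE i) := by
  show τE (τE.symm (actX h (τE.symm.symm i))) = _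
  rw [Equiv.apply_symm_apply]
  rfl

/-- The generators. -/
noncomputable def eE (g : ℕ) : H :=
  match g with
  | 0 => ⟨e0, mem0⟩
  | 1 => ⟨e1, mem1⟩
  | _ => ⟨e2, mem2⟩

theorem eE_acts (g : ℕ) (hg : g < 3) : ActsOn (eE g : Co0) (act g) := by
  interval_cases g
  · exact acts0
  · exact acts1
  · exact acts2

theorem ι_eE {g : ℕ} (hg : g < 3) (i : Fin 275) : ((ι (eE g)) i).val = S g i.val := by
  have h := allB_spec _ _ _ (by norm_num) (allB_spec _ _ _ (by norm_num) act_chk g hg) i.val i.2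
  simp only [force_eq, Bool.and_eq_true] at h
  obtain ⟨h1, h2⟩ := h
  have h1' : S g i.val < 275 := Nat.le_of_ble_eq_true h1
  have h2' : act g (vC i.val) = vC (S g i.val) := Nat.eq_of_beq_eq_true h2
  have h3 : (ι (eE g)) i = ⟨S g i.val, h1'⟩ := by
    apply τE.injective
    rw [ι_apply]
    apply Subtype.ext
    apply Subtype.ext
    show ((((eE g : Co0) : Equiv.Perm leechLattice) ⟨dec (vC i.val), (v_facts i.2).1.2.1⟩ : leechLattice) : GolayPt → ℤ) =
      dec (vC (S g i.val))
    rw [(eE_acts g hg _ (v_facts i.2).1).2, h2']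
  rw [h3]

/-- The concrete group. -/
noncomputable def Pg : Subgroup (Equiv.Perm (Fin 275)) := ι.range

theorem gen_spec {l : ℕ} (hl : l < 3) : ∃ g ∈ Pg, ∀ x : Fin 275, (g x).val = S l x.val :=
  ⟨ι (eE l), ⟨_, rfl⟩, ι_eE hl⟩

theorem H_eq : H = MulAction.stabilizer Co0 McLG.lv0 ⊓ MulAction.stabilizer Co0 McLWG.lw0 := by
  ext k
  constructor
  · rintro ⟨h1, h2⟩
    refine ⟨h2, ?_⟩
    have h1' : k • McLG.lu0 = McLG.lu0 := h1
    have h2' : k • McLG.lv0 = McLG.lv0 := h2
    show k • McLWG.lw0 = McLWG.lw0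
    rw [← e_sum, smul_add', h2'] at h1'
    exact add_left_cancel h1'
  · rintro ⟨h2, h3⟩
    refine ⟨?_, h2⟩
    have h2' : k • McLG.lv0 = McLG.lv0 := h2
    have h3' : k • McLWG.lw0 = McLWG.lw0 := h3
    show k • McLG.lu0 = McLG.lu0
    rw [← e_sum, smul_add', h2', h3']

theorem card_H : Nat.card H = 898128000 := by
  rw [H_eq]
  exact card_mcl _ _ CoConf.norm_v0 norm_lw0 dot_v0w0

instance : Finite H := by
  have := finite_Co0'
  infer_instance

theorem card_Pg_le : Nat.card Pg ≤ 898128000 := by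
  rw [← card_H]
  exact Nat.card_le_card_of_surjective ι.rangeRestrict ι.rangeRestrict_surjective

theorem lu0_eq : McLG.lu0 = - leechV := by
  apply Subtype.ext
  funext i
  show dec McLG.u0 i = - vecV i
  revert i
  decide +kernel

theorem lv0_eq : McLG.lv0 = leechU := by
  apply Subtype.ext
  funext i
  show dec McLG.v0 i = vecU i
  revert i
  decide +kernel

theorem neg_iff (k : Co0) (v : LL) : k • (-v) = -v ↔ k • v = v := by
  have h : k • (-v) = -(k • v) := by
    have h1 := smul_add' k v (-v)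
    rw [add_neg_cancel] at h1
    have h2 : k • (0 : LL) = 0 := by
      have h3 := smul_add' k 0 0
      rw [add_zero] at h3
      exact left_eq_add.mp h3
    rw [h2] at h1
    exact (neg_eq_of_add_eq_zero_right h1.symm).symm
  rw [h, neg_inj]

/-- The McLaughlin group and the stabilizer. -/
noncomputable def mclEquiv : Spor.McL ≃* H where
  toFun x := ⟨⟨x.1, x.2.1.1⟩, ⟨by
      show ((⟨x.1, x.2.1.1⟩ : Co0)) • McLG.lu0 = McLG.lu0
      rw [lu0_eq, neg_iff]
      exact x.2.1.2, by
      show ((⟨x.1, x.2.1.1⟩ : Co0)) • McLG.lv0 = McLG.lv0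
      rw [lv0_eq]
      exact x.2.2⟩⟩
  invFun y := ⟨y.1.1, ⟨⟨y.1.2, by
      have h := y.2.1
      have h' : (y.1 : Co0) • McLG.lu0 = McLG.lu0 := h
      rw [lu0_eq, neg_iff] at h'
      exact h'⟩, by
      have h := y.2.2
      have h' : (y.1 : Co0) • McLG.lv0 = McLG.lv0 := h
      rw [lv0_eq] at h'
      exact h'⟩⟩
  left_inv _ := rfl
  right_inv _ := rfl
  map_mul' _ _ := rfl

/-- The McLaughlin group and the concrete group. -/
theorem equiv_of_card (h : 898128000 ≤ Nat.card Pg) : Nonempty (Spor.McL ≃* Pg) := by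
  have hb : Function.Bijective ι.rangeRestrict :=
    ι.rangeRestrict_surjective.bijective_of_nat_card_le (by rw [card_H]; exact h)
  exact ⟨mclEquiv.trans (MulEquiv.ofBijective _ hb)⟩

end Cfsg.Agent.Lib.McLBridge
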