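import Mathlib
import Cfsg.Agent.Lib.McLGraph
import Cfsg.Agent.Lib.OutMcL
import Cfsg.Agent.Lib.CoSimpleM22

set_option autoImplicit false
set_option linter.unusedVariables false
set_option linter.unusedSimpArgs false
set_option linter.style.haveILetI false
set_option linter.unusedSectionVars false

/-!
# The outer automorphism group of the McLaughlin group

The group acts on 275 short vectors. Its order two outer automorphism is induced by an element of the
lattice group interchanging the two fixed vectors; all automorphisms permute the points by `OutMcL`, and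
they preserve the relation `inner product = 8`, whose permutations are counted by `McLGraph`.
-/

namespace Cfsg.Agent.Lib.McLConc

open Finset MulAction Cfsg Cfsg.Agent.Lib.CoConf Cfsg.Agent.Lib.CoVec Cfsg.Agent.Lib.OutMcL Cfsg.Agent.Lib.OutHat
  Cfsg.Agent.Lib.OutHS Cfsg.Agent.Lib.GraphRefine McLGraph

noncomputable abbrev v : LL := McLG.lv0
noncomputable abbrev u : LL := McLG.lu0
noncomputable abbrev w : LL := McLWG.lw0

noncomputable abbrev A : List (LL × ℤ) := [(v, 16), (u, 24)]

noncomputable abbrev K : Subgroup Co0 := stb v ⊓ stb w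

theorem hu : sqNorm (u : GolayPt → ℤ) = 48 := norm_u0
theorem hv : sqNorm (v : GolayPt → ℤ) = 32 := norm_v0
theorem hw : sqNorm (w : GolayPt → ℤ) = 32 := norm_lw0
theorem huv : dotInt (u : GolayPt → ℤ) (v : GolayPt → ℤ) = 24 := dot_u0_v0
theorem hvw : dotInt (v : GolayPt → ℤ) (w : GolayPt → ℤ) = -8 := dot_v0w0
theorem e_uvw : v + w = u := e_sum

theorem hK1 : ∀ k ∈ K, ∀ p ∈ A, k • p.1 = p.1 := by
  intro k hk p hp
  have a1 : k • v = v := hk.1
  have a2 : k • w = w := hk.2
  simp only [A, List.mem_cons, List.not_mem_nil, or_false] at hp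
  rcases hp with rfl | rfl
  · exact a1
  · show k • u = u
    rw [← e_uvw, smul_add', a1, a2]

theorem hK2 : ∀ k : Co0, (∀ p ∈ A, k • p.1 = p.1) → k ∈ K := by
  intro k hk
  have a1 : k • v = v := hk (v, 16) (by simp)
  have a2 : k • u = u := hk (u, 24) (by simp)
  refine ⟨a1, ?_⟩
  show k • w = w
  have e : w = u - v := by
    rw [← e_uvw]
    abel
  rw [e, smul_sub', a1, a2]

noncomputable instance instAct : MulAction K (DS A) := dsAct hK1

noncomputable instance instFin : Fintype (DS A) :=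
  haveI : Finite (DS A) := (finite_DS A).to_subtype
  Fintype.ofFinite _

instance instFinK : Finite K :=
  haveI := finite_Co0'
  inferInstance

/-- The relation on the points. -/
def Adj (x y : DS A) : Prop := dotInt ((x : LL) : GolayPt → ℤ) ((y : LL) : GolayPt → ℤ) = 8

instance instDecAdj : DecidableRel Adj := fun x y => Int.decEq _ _

theorem card_Om : Fintype.card (DS A) = 275 := by
  rw [← Nat.card_eq_fintype_card, Nat.card_coe_set_eq]
  exact ncard_275 u v hu hv huv

theorem smul_val (k : K) (x : DS A) : ((k • x : DS A) : LL) = (k : Co0) • (x : LL) := rfl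

theorem trans_Om (x y : DS A) : ∃ k : K, k • x = y := by
  obtain ⟨k, hk, e⟩ := transOn_275' u v hu hv huv x.1 x.2 y.1 y.2
  exact ⟨⟨k, hK2 k hk⟩, Subtype.ext e⟩

theorem card_filter_dot (x : DS A) (d : ℤ) :
    (univ.filter (fun z : DS A => dotInt ((x : LL) : GolayPt → ℤ) ((z : LL) : GolayPt → ℤ) = d)).card =
      (DS ((x.1, d) :: A)).ncard := by
  rw [← Set.ncard_coe_finset, ← Set.ncard_image_of_injective _ Subtype.val_injective]
  congr 1
  ext y
  constructor
  · rintro ⟨z, hz, rfl⟩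
    simp only [coe_filter, mem_univ, true_and, Set.mem_ofPred_eq] at hz
    exact mem_DS_cons.2 ⟨z.2, hz⟩
  · intro hy
    obtain ⟨h1, h2⟩ := mem_DS_cons.1 hy
    refine ⟨⟨y, h1⟩, ?_, rfl⟩
    simp only [coe_filter, mem_univ, true_and, Set.mem_ofPred_eq]
    exact h2

theorem dichotomy {x y : DS A} (hne : x ≠ y) : Adj x y ∨ dotInt ((x : LL) : GolayPt → ℤ) ((y : LL) : GolayPt → ℤ) = 16 :=
  (u43_main u v x.1 hu hv huv x.2).2.2 y.1 y.2 (fun e => hne (Subtype.ext e.symm))

/-- Suborbit sizes for the action on a set of vectors. -/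
theorem orbit_ncard2 (x₀ b : DS A) {d : ℤ}
    (hb : dotInt ((x₀ : LL) : GolayPt → ℤ) ((b : LL) : GolayPt → ℤ) = d) (ht : TransOn ((x₀.1, d) :: A)) :
    (orbit (stabilizer K x₀) b).ncard = (DS ((x₀.1, d) :: A)).ncard := by
  rw [← Set.ncard_image_of_injective _ Subtype.val_injective]
  congr 1
  ext y
  constructor
  · rintro ⟨z, ⟨m, rfl⟩, rfl⟩
    have h1 : ((m : K) : Co0) • x₀.1 = x₀.1 := congrArg Subtype.val m.2
    refine mem_DS_cons.2 ⟨smul_mem_DS (hK1 _ m.1.2) b.2, ?_⟩
    have h2 := dot_smul ((m : K) : Co0) x₀.1 b.1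
    rw [h1] at h2
    exact h2.trans hb
  · intro hy
    obtain ⟨h1, h2⟩ := mem_DS_cons.1 hy
    obtain ⟨k, hk, e⟩ := ht b.1 (mem_DS_cons.2 ⟨b.2, hb⟩) y hy
    have hkK : k ∈ K := hK2 k fun p hp => hk p (List.mem_cons_of_mem _ hp)
    refine ⟨⟨y, h1⟩, ⟨⟨⟨k, hkK⟩, Subtype.ext (hk (x₀.1, d) (by simp))⟩, Subtype.ext e⟩, rfl⟩

theorem card_K : Nat.card K = 898128000 := card_mcl v w hv hw hvw

theorem card_stab (x : DS A) : Nat.card (stabilizer K x) = 3265920 := by
  have h1 := Subgroup.card_mul_index (stabilizer K x)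
  have h2 : orbit K x = Set.univ := by
    ext y
    simp only [Set.mem_univ, iff_true]
    obtain ⟨k, hk⟩ := trans_Om x y
    exact ⟨k, hk⟩
  rw [index_stabilizer, h2, Set.ncard_univ, Nat.card_eq_fintype_card (α := DS A), card_Om, card_K] at h1
  omega

theorem ps_adj (x y : DS A) (h : Adj x y) : ps K x y = 29160 := by
  have h1 := card_eq_orbit_mul_inf' (stabilizer K x) y
  rw [card_stab, orbit_ncard2 x y h (u43_trans8 u v x.1 hu hv huv x.2),
    (u43_main u v x.1 hu hv huv x.2).1] at h1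
  unfold ps
  omega

theorem ps_non (x y : DS A) (hne : x ≠ y) (h : ¬ Adj x y) : ps K x y = 20160 := by
  have h16 := (dichotomy hne).resolve_left h
  have h1 := card_eq_orbit_mul_inf' (stabilizer K x) y
  rw [card_stab, orbit_ncard2 x y h16 (u43_trans16 u v x.1 hu hv huv x.2),
    (u43_main u v x.1 hu hv huv x.2).2.1] at h1
  unfold ps
  omega

/-! ### The explicit enumeration -/

theorem code_chk (i : Fin 275) : chk (codes.getD i.1 0) = true := by
  have h := List.all_eq_true.1 codes_chk (codes.getD i.1 0) (by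
    rw [List.getD_eq_getElem _ _ (by rw [codes_len]; exact i.2)]
    exact List.getElem_mem _)
  exact h

theorem code_St (i : Fin 275) : St (codes.getD i.1 0) := by
  have h := code_chk i
  simp only [chk, Bool.and_eq_true] at h
  exact St_of_stChk h.1.1.1

/-- The lattice vector number `i`. -/
noncomputable def lvec (i : Fin 275) : LL := ⟨dec (codes.getD i.1 0), (code_St i).2.1⟩

theorem lvec_mem (i : Fin 275) : lvec i ∈ DS A := by
  have h := code_chk i
  simp only [chk, Bool.and_eq_true, beq_iff_eq] at h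
  obtain ⟨⟨⟨_, h2⟩, h3⟩, h4⟩ := h
  refine ⟨norm_code h2, ?_⟩
  intro p hp
  simp only [List.mem_cons, List.not_mem_nil, or_false] at hp
  rcases hp with rfl | rfl
  · show dotInt (dec McLG.v0) (dec (codes.getD i.1 0)) = 16
    rw [dotInt_dec, h3]
    push_cast
    ring
  · show dotInt (dec McLG.u0) (dec (codes.getD i.1 0)) = 24
    rw [dotInt_dec, h4]
    push_cast
    ring

theorem lvec_inj : Function.Injective (fun i : Fin 275 => (⟨lvec i, lvec_mem i⟩ : DS A)) := by
  intro i j e
  have h1 : lvec i = lvec j := congrArg Subtype.val e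
  have h2 : dec (codes.getD i.1 0) = dec (codes.getD j.1 0) := congrArg Subtype.val h1
  have h3 := dec_injOn (code_St i).1 (code_St j).1 h2
  have hi : i.1 < codes.length := by rw [codes_len]; exact i.2
  have hj : j.1 < codes.length := by rw [codes_len]; exact j.2
  rw [List.getD_eq_getElem _ _ hi, List.getD_eq_getElem _ _ hj] at h3
  exact Fin.ext ((List.Nodup.getElem_inj_iff codes_nodup).1 h3)

/-- The enumeration of the points. -/
noncomputable def eq : Fin 275 ≃ DS A :=
  Equiv.ofBijective _ ((Fintype.bijective_iff_injective_and_card _).2 ⟨lvec_inj, by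
    rw [Fintype.card_fin, card_Om]⟩)

theorem eq_val (i : Fin 275) : ((eq i : DS A) : LL) = lvec i := rfl

theorem W_aux (a b : ℕ) : W a b = if dotA a b = dotB a b + 8 then 1 else 0 := by
  unfold W
  by_cases h : dotA a b = dotB a b + 8 <;> simp [h]

theorem W_eq (i j : Fin 275) :
    W (codes.getD i.1 0) (codes.getD j.1 0) = if Adj (eq i) (eq j) then 1 else 0 := by
  have e : Adj (eq i) (eq j) ↔ dotA (codes.getD i.1 0) (codes.getD j.1 0) = dotB (codes.getD i.1 0) (codes.getD j.1 0) + 8 := by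
    show dotInt (dec (codes.getD i.1 0)) (dec (codes.getD j.1 0)) = 8 ↔ _
    rw [dotInt_dec]
    omega
  rw [W_aux]
  by_cases h : dotA (codes.getD i.1 0) (codes.getD j.1 0) = dotB (codes.getD i.1 0) (codes.getD j.1 0) + 8
  · rw [if_pos (e.2 h), if_pos h]
  · rw [if_neg (fun h' => h (e.1 h')), if_neg h]

/-- The group of permutations of the graph. -/
theorem card_aut_le : Nat.card (AutAdj Adj) ≤ 1796256000 := by
  refine card_le_of_run eq W codes 0 codes_len (AutAdj Adj) ?_ ops run_ops
  intro g hg x y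
  rw [W_eq, W_eq]
  simp only [Equiv.apply_symm_apply]
  have := hg (eq x) (eq y)
  by_cases h : Adj (eq x) (eq y)
  · rw [if_pos h, if_pos (this.2 h)]
  · rw [if_neg h, if_neg (fun h' => h (this.1 h'))]

/-- Counting on the list of codes. -/
theorem count_fin (l : List ℕ) (P : ℕ → Bool) :
    (univ.filter (fun i : Fin l.length => P (l.getD i.1 0) = true)).card = l.countP P := by
  induction l with
  | nil => simp
  | cons c cs ih =>
    rw [List.countP_cons, ← ih]
    simp only [List.length_cons]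
    rw [Finset.card_filter, Fin.sum_univ_succ, Finset.card_filter]
    simp
    omega

theorem count_codes (P : ℕ → Bool) :
    (univ.filter (fun i : Fin 275 => P (codes.getD i.1 0) = true)).card = codes.countP P := by
  rw [← count_fin]
  have e : codes.length = 275 := codes_len
  revert e
  generalize codes.length = n
  intro e
  subst e
  rfl

theorem adj_iff_W (i j : Fin 275) : Adj (eq i) (eq j) ↔ W (codes.getD i.1 0) (codes.getD j.1 0) = 1 := by
  rw [W_eq]
  by_cases h : Adj (eq i) (eq j) <;> simp [h]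

def baseP (c : ℕ) : Bool :=
  (W (codes.getD 0 0) c == 1) && (W (codes.getD 23 0) c == 1)

theorem base_count : codes.countP baseP = 30 := by decide +kernel

theorem base_adj : W (codes.getD 0 0) (codes.getD 23 0) = 1 := by decide +kernel

theorem lam_base : (univ.filter (fun z : DS A => Adj (eq 0) z ∧ Adj (eq 23) z)).card = 30 := by
  rw [← base_count, ← count_codes]
  symm
  apply Finset.card_equiv eq
  intro i
  simp only [mem_filter, mem_univ, true_and, baseP, Bool.and_eq_true, beq_iff_eq]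
  rw [adj_iff_W 0 i, adj_iff_W 23 i]
  rfl

theorem adj_smul (k : K) (x y : DS A) : Adj (k • x) (k • y) ↔ Adj x y := by
  show dotInt (((k : Co0) • x.1 : LL) : GolayPt → ℤ) (((k : Co0) • y.1 : LL) : GolayPt → ℤ) = 8 ↔ _
  rw [dot_smul]
  rfl

theorem lam_smul (k : K) (x y : DS A) :
    (univ.filter (fun z : DS A => Adj (k • x) z ∧ Adj (k • y) z)).card =
      (univ.filter (fun z : DS A => Adj x z ∧ Adj y z)).card := by
  symm
  apply Finset.card_equiv (MulAction.toPerm k)
  intro z
  simp only [mem_filter, mem_univ, true_and, MulAction.toPerm_apply, adj_smul]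

theorem lam_all (x y : DS A) (h : Adj x y) : (univ.filter (fun z : DS A => Adj x z ∧ Adj y z)).card = 30 := by
  obtain ⟨k₁, hk₁⟩ := trans_Om x (eq 0)
  have h1 : Adj (eq 0) (k₁ • y) := by
    rw [← hk₁, adj_smul]
    exact h
  have hb : Adj (eq 0) (eq 23) := (adj_iff_W 0 23).2 base_adj
  obtain ⟨k, hk, e⟩ := u43_trans8 u v (eq 0).1 hu hv huv (eq 0).2 (k₁ • y).1 (mem_DS_cons.2 ⟨(k₁ • y).2, h1⟩)
    (eq 23).1 (mem_DS_cons.2 ⟨(eq 23).2, hb⟩)
  have hkK : k ∈ K := hK2 k fun p hp => hk p (List.mem_cons_of_mem _ hp)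
  let k₂ : K := ⟨k, hkK⟩
  have e1 : k₂ • (eq 0 : DS A) = eq 0 := Subtype.ext (hk ((eq 0).1, 8) (by simp))
  have e2 : k₂ • (k₁ • y) = eq 23 := Subtype.ext e
  rw [← lam_smul k₁ x y, ← lam_smul k₂ (k₁ • x) (k₁ • y), hk₁, e1, e2]
  exact lam_base

theorem data : Data K Adj where
  card := card_Om
  symm := fun x y h => by
    show dotInt _ _ = 8
    rw [dot_comm]
    exact h
  irrefl := fun x h => by
    have h1 : dotInt ((x : LL) : GolayPt → ℤ) ((x : LL) : GolayPt → ℤ) = 8 := h
    rw [dot_self, x.2.1] at h1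
    norm_num at h1
  smul := adj_smul
  deg := fun x => by
    have := card_filter_dot x 8
    rw [(u43_main u v x.1 hu hv huv x.2).1] at this
    exact this
  lam := lam_all
  psA := ps_adj
  psN := ps_non
  stab := card_stab

instance instFaithful : FaithfulSMul K (DS A) := by
  haveI := mcl_simple v w hv hw hvw
  let ρ := MulAction.toPermHom K (DS A)
  rcases IsSimpleGroup.eq_bot_or_eq_top_of_normal ρ.ker ρ.normal_ker with h | h
  · refine ⟨fun {k₁ k₂} hk => ?_⟩
    apply (MonoidHom.ker_eq_bot_iff ρ).1 h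
    apply Equiv.ext
    intro y
    exact hk y
  · exfalso
    have hne : (eq 0 : DS A) ≠ eq 23 := by
      intro e
      have := eq.injective e
      exact absurd this (by decide)
    obtain ⟨k, hk⟩ := trans_Om (eq 0) (eq 23)
    have hk1 : k ∈ ρ.ker := by
      rw [h]
      trivial
    have hk2 : ρ k = 1 := hk1
    have hk3 : ρ k (eq 0 : DS A) = eq 0 := by
      rw [hk2]
      rfl
    exact hne (hk3.symm.trans hk)

/-! ### The outer automorphism -/

section Outer

theorem u_smul (g : Co0) (hg1 : g • v = w) (hg2 : g • w = v) : g • u = u := by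
  rw [← e_uvw, smul_add', hg1, hg2, add_comm]

theorem swap_inv (g : Co0) (hg1 : g • v = w) (hg2 : g • w = v) : g⁻¹ • v = w ∧ g⁻¹ • w = v := by
  constructor
  · rw [← hg2, inv_smul_smul]
  · rw [← hg1, inv_smul_smul]

theorem tm_mem (g : Co0) (hg1 : g • v = w) (hg2 : g • w = v) {x : LL} (hx : x ∈ DS A) : u - g • x ∈ DS A := by
  have hxv : dotInt (v : GolayPt → ℤ) (x : GolayPt → ℤ) = 16 := hx.2 (v, 16) (by simp)
  have hxu : dotInt (u : GolayPt → ℤ) (x : GolayPt → ℤ) = 24 := hx.2 (u, 24) (by simp)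
  have hgu := u_smul g hg1 hg2
  have e1 : dotInt (u : GolayPt → ℤ) ((g • x : LL) : GolayPt → ℤ) = 24 := by
    have := dot_smul g u x
    rw [hgu] at this
    exact this.trans hxu
  have e2 : dotInt (v : GolayPt → ℤ) ((g • x : LL) : GolayPt → ℤ) = 8 := by
    have := dot_smul g w x
    rw [hg2] at this
    rw [this]
    have e : (w : GolayPt → ℤ) = (u : GolayPt → ℤ) - (v : GolayPt → ℤ) := by
      rw [← e_uvw]
      ext p
      show (w : GolayPt → ℤ) p = (v : GolayPt → ℤ) p + (w : GolayPt → ℤ) p - (v : GolayPt → ℤ) p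
      ring
    rw [e, dot_sub_left, hxv, hxu]
    norm_num
  have hn : sqNorm ((g • x : LL) : GolayPt → ℤ) = 32 := (norm_smul g x).trans hx.1
  refine ⟨?_, ?_⟩
  · show sqNorm ((u : GolayPt → ℤ) - ((g • x : LL) : GolayPt → ℤ)) = 32
    rw [norm_sub, hu, hn, e1]
    norm_num
  · intro p hp
    simp only [List.mem_cons, List.not_mem_nil, or_false] at hp
    rcases hp with rfl | rfl
    · show dotInt (v : GolayPt → ℤ) ((u : GolayPt → ℤ) - ((g • x : LL) : GolayPt → ℤ)) = 16
      rw [dot_sub_right, e2, dot_comm, huv]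
      norm_num
    · show dotInt (u : GolayPt → ℤ) ((u : GolayPt → ℤ) - ((g • x : LL) : GolayPt → ℤ)) = 24
      rw [dot_sub_right, e1, dot_self, hu]
      norm_num

/-- The permutation induced by an element interchanging the fixed vectors. -/
noncomputable def T (g : Co0) (hg1 : g • v = w) (hg2 : g • w = v) : Equiv.Perm (DS A) where
  toFun x := ⟨u - g • x.1, tm_mem g hg1 hg2 x.2⟩
  invFun x := ⟨u - g⁻¹ • x.1, tm_mem g⁻¹ (swap_inv g hg1 hg2).1 (swap_inv g hg1 hg2).2 x.2⟩
  left_inv x := by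
    apply Subtype.ext
    show u - g⁻¹ • (u - g • x.1) = x.1
    have h1 : g⁻¹ • u = u := by
      conv_lhs => rw [← u_smul g hg1 hg2]
      rw [inv_smul_smul]
    rw [smul_sub', h1, inv_smul_smul, sub_sub_cancel]
  right_inv x := by
    apply Subtype.ext
    show u - g • (u - g⁻¹ • x.1) = x.1
    rw [smul_sub', u_smul g hg1 hg2, smul_inv_smul, sub_sub_cancel]

theorem conj_mem (g : Co0) (hg1 : g • v = w) (hg2 : g • w = v) (k : K) : g * k.1 * g⁻¹ ∈ K := by
  have a1 : k.1 • v = v := k.2.1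
  have a2 : k.1 • w = w := k.2.2
  obtain ⟨i1, i2⟩ := swap_inv g hg1 hg2
  constructor
  · show (g * k.1 * g⁻¹) • v = v
    rw [mul_smul, mul_smul, i1, a2, hg2]
  · show (g * k.1 * g⁻¹) • w = w
    rw [mul_smul, mul_smul, i2, a1, hg1]

theorem fix_u (k : K) : k.1 • u = u := by
  have a1 : k.1 • v = v := k.2.1
  have a2 : k.1 • w = w := k.2.2
  rw [← e_uvw, smul_add', a1, a2]

theorem T_conj (g : Co0) (hg1 : g • v = w) (hg2 : g • w = v) (k : K) :
    ∃ k' : K, T g hg1 hg2 * MulAction.toPermHom K (DS A) k * (T g hg1 hg2)⁻¹ = MulAction.toPermHom K (DS A) k' := by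
  refine ⟨⟨_, conj_mem g hg1 hg2 k⟩, ?_⟩
  ext1 x
  apply Subtype.ext
  show u - g • (k.1 • (u - g⁻¹ • x.1)) = (g * k.1 * g⁻¹) • x.1
  rw [smul_sub', fix_u, smul_sub', u_smul g hg1 hg2, mul_smul, mul_smul, sub_sub_cancel]

theorem T_conj' (g : Co0) (hg1 : g • v = w) (hg2 : g • w = v) (k : K) :
    ∃ k' : K, (T g hg1 hg2)⁻¹ * MulAction.toPermHom K (DS A) k * T g hg1 hg2 = MulAction.toPermHom K (DS A) k' := by
  obtain ⟨i1, i2⟩ := swap_inv g hg1 hg2
  have hc := conj_mem g⁻¹ i1 i2 k
  rw [inv_inv] at hc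
  refine ⟨⟨_, hc⟩, ?_⟩
  ext1 x
  apply Subtype.ext
  show u - g⁻¹ • (k.1 • (u - g • x.1)) = (g⁻¹ * k.1 * g) • x.1
  have h1 : g⁻¹ • u = u := by
    conv_lhs => rw [← u_smul g hg1 hg2]
    rw [inv_smul_smul]
  rw [smul_sub', fix_u, smul_sub', h1, mul_smul, mul_smul, sub_sub_cancel]

/-- The vector of the relation. -/
def zc : ℕ := 3101818304715198881427821889360527485314781550145752301694

theorem St_zc : St zc := St_of_stChk (by decide +kernel)

noncomputable def lz : LL := ⟨dec zc, St_zc.2.1⟩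

/-- Coefficients of the relation. -/
def rel : List (ℤ × Fin 275) :=
  [((1 : ℤ), (266 : Fin 275)), ((-5 : ℤ), (195 : Fin 275)), ((-3 : ℤ), (54 : Fin 275)), ((1 : ℤ), (244 : Fin 275)),
   ((2 : ℤ), (0 : Fin 275)), ((3 : ℤ), (241 : Fin 275)), ((-1 : ℤ), (134 : Fin 275)), ((2 : ℤ), (149 : Fin 275)),
   ((2 : ℤ), (67 : Fin 275)), ((2 : ℤ), (17 : Fin 275)), ((1 : ℤ), (12 : Fin 275)), ((-3 : ℤ), (118 : Fin 275)),
   ((1 : ℤ), (252 : Fin 275)), ((-1 : ℤ), (50 : Fin 275)), ((-2 : ℤ), (223 : Fin 275)), ((-2 : ℤ), (51 : Fin 275)),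
   ((1 : ℤ), (132 : Fin 275))]

theorem rel_coord : ∀ p : GolayPt, 3 * dec zc p =
    (rel.map (fun q => q.1 * dec (codes.getD q.2.1 0) p)).sum - dec McLG.v0 p := by
  decide +kernel

theorem rel_sum : (rel.map (fun q => q.1)).sum = -1 := by decide +kernel

theorem coord_sum (l : List (ℤ × Fin 275)) (p : GolayPt) :
    (((l.map (fun q => q.1 • lvec q.2)).sum : LL) : GolayPt → ℤ) p =
      (l.map (fun q => q.1 * dec (codes.getD q.2.1 0) p)).sum := by
  induction l with
  | nil => rfl
  | cons a l ih =>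
    simp only [List.map_cons, List.sum_cons]
    rw [← ih]
    show ((a.1 • lvec a.2 : LL) : GolayPt → ℤ) p + _ = _
    congr 1

theorem T_not (g : Co0) (hg1 : g • v = w) (hg2 : g • w = v) (k : K) :
    T g hg1 hg2 ≠ MulAction.toPermHom K (DS A) k := by
  intro e
  have h1 : ∀ x : DS A, u - g • x.1 = k.1 • x.1 := by
    intro x
    have := congrArg (fun σ : Equiv.Perm (DS A) => ((σ x : DS A) : LL)) e
    exact this
  have hku : k.1⁻¹ • u = u := by
    conv_lhs => rw [← fix_u k]
    rw [inv_smul_smul]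
  let h : Co0 := k.1⁻¹ * g
  have hadd : ∀ a b : LL, h • (a + b) = h • a + h • b := fun a b => smul_add' h a b
  let φ : LL →+ LL :=
    { toFun := fun y => y + h • y
      map_zero' := by
        show (0 : LL) + h • (0 : LL) = 0
        rw [smul_zero', add_zero]
      map_add' := by
        intro a b
        show a + b + h • (a + b) = a + h • a + (b + h • b)
        rw [hadd]
        abel }
  have hφ : ∀ y, φ y = y + h • y := fun y => rfl
  have hx : ∀ x : DS A, φ x.1 = u := by
    intro x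
    rw [hφ]
    show x.1 + (k.1⁻¹ * g) • x.1 = u
    rw [mul_smul]
    have e2 : g • x.1 = u - k.1 • x.1 := by
      rw [← h1 x, sub_sub_cancel]
    rw [e2, smul_sub', hku, inv_smul_smul]
    abel
  have hvv : φ v = u := by
    rw [hφ]
    show v + (k.1⁻¹ * g) • v = u
    rw [mul_smul, hg1]
    have : k.1⁻¹ • w = w := by
      conv_lhs => rw [← (k.2.2 : k.1 • w = w)]
      rw [inv_smul_smul]
    rw [this, e_uvw]
  have hsum : ∀ l : List (ℤ × Fin 275), φ (l.map (fun q => q.1 • lvec q.2)).sum = (l.map (fun q => q.1)).sum • u := by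
    intro l
    induction l with
    | nil => simp
    | cons a l ih =>
      simp only [List.map_cons, List.sum_cons, map_add, ih, add_smul, map_zsmul]
      congr 1
      congr 1
      exact hx ⟨lvec a.2, lvec_mem a.2⟩
  have hrel : (3 : ℤ) • lz = (rel.map (fun q => q.1 • lvec q.2)).sum - v := by
    apply Subtype.ext
    funext p
    show (3 : ℤ) * dec zc p = (((rel.map (fun q => q.1 • lvec q.2)).sum : LL) : GolayPt → ℤ) p - dec McLG.v0 p
    rw [coord_sum]
    exact rel_coord p
  have h2 := congrArg φ hrel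
  rw [map_zsmul, map_sub, hsum, hvv, rel_sum] at h2
  -- the coordinate at a point
  have h3 := congrFun (congrArg Subtype.val h2) (Cfsg.Agent.Lib.Golay.pt 0)
  have e3 : ((-1 : ℤ) • u - u : LL).1 (Cfsg.Agent.Lib.Golay.pt 0) = -2 := by
    show (-1 : ℤ) * dec McLG.u0 (Cfsg.Agent.Lib.Golay.pt 0) - dec McLG.u0 (Cfsg.Agent.Lib.Golay.pt 0) = -2
    rw [dec_pt _ (by norm_num)]
    decide +kernel
  rw [e3] at h3
  have h4 : (3 : ℤ) * (φ lz).1 (Cfsg.Agent.Lib.Golay.pt 0) = -2 := h3
  omega

end Outer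

theorem card_out : Nat.card (Out K) = 2 := by
  apply le_antisymm
  · apply card_out_le_of_aut data
    rw [card_K]
    exact card_aut_le
  · obtain ⟨g, hg1, hg2⟩ := Cfsg.Agent.Lib.Co0Pair.pairM8 hv hw hw hv hvw (by rw [dot_comm]; exact hvw)
    exact two_le_card_out (hatData data) (T g hg1 hg2) (T_conj g hg1 hg2) (T_conj' g hg1 hg2) (T_not g hg1 hg2)

/-! ### The group of the statement -/

theorem lv0_eq : McLG.lv0 = Spor.leechU := by
  apply Subtype.ext
  funext p
  revert p
  decide +kernel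

theorem lw0_eq : McLWG.lw0 = -(Spor.leechV + Spor.leechU) := by
  apply Subtype.ext
  funext p
  show dec McLWG.w0 p = -(Spor.vecV p + Spor.vecU p)
  revert p
  decide +kernel

/-- The McLaughlin group as a joint stabiliser inside the lattice group. -/
def mclEquiv : Spor.McL ≃* K where
  toFun σ := ⟨⟨σ.1, σ.2.1.1⟩, by
      show (⟨σ.1, σ.2.1.1⟩ : Co0) • McLG.lv0 = McLG.lv0
      rw [lv0_eq]
      exact σ.2.2, by
      show (⟨σ.1, σ.2.1.1⟩ : Co0) • McLWG.lw0 = McLWG.lw0
      have h1 : (⟨σ.1, σ.2.1.1⟩ : Co0) • Spor.leechV = Spor.leechV := σ.2.1.2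
      have h2 : (⟨σ.1, σ.2.1.1⟩ : Co0) • Spor.leechU = Spor.leechU := σ.2.2
      rw [lw0_eq, smul_neg', smul_add', h1, h2]⟩
  invFun k := ⟨k.1.1, ⟨k.1.2, by
      show k.1 • Spor.leechV = Spor.leechV
      have a1 : k.1 • McLG.lv0 = McLG.lv0 := k.2.1
      have a2 : k.1 • McLWG.lw0 = McLWG.lw0 := k.2.2
      have e : Spor.leechV = -McLWG.lw0 - McLG.lv0 := by
        rw [lw0_eq, lv0_eq]
        abel
      rw [e, sub_eq_add_neg, smul_add', smul_neg', smul_neg', a1, a2]⟩, by
      show k.1 • Spor.leechU = Spor.leechU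
      rw [← lv0_eq]
      exact k.2.1⟩
  left_inv σ := rfl
  right_inv k := rfl
  map_mul' a b := rfl

theorem card_out_McL : Nat.card (Out Spor.McL) = 2 := by
  rw [card_out_congr mclEquiv]
  exact card_out

end Cfsg.Agent.Lib.McLConc
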