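import Mathlib
import Cfsg.Agent.Lib.McLBridge
import Cfsg.Agent.Lib.FusionEmbed
import Cfsg.Agent.Lib.PuigBasic

set_option autoImplicit false
set_option maxRecDepth 100000

/-!
# The `2`-fusion system of the McLaughlin group is simple
-/

namespace Cfsg.Agent.Lib.McLFus

open Cfsg.Agent.Lib.PermChain12 Cfsg.Agent.Lib.McLFusData Cfsg.Agent.Lib.McLBridge

/-- The ambient permutation group. -/
abbrev Pm := Equiv.Perm (Fin 275)

theorem invApp (d : Pm) (b : Fin 275) : d⁻¹ (d b) = b := by simp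

theorem appInv (d : Pm) (b : Fin 275) : d (d⁻¹ b) = b := by simp

theorem word_spec {w : List ℕ} (h : ∀ a ∈ w, ∃ g ∈ Pg, ∀ x : Fin 275, (g x).val = S a x.val) :
    ∃ g ∈ Pg, ∀ x : Fin 275, (g x).val = walkF S w x.val := by
  induction w with
  | nil => exact ⟨1, Pg.one_mem, fun x => rfl⟩
  | cons a w ih =>
    obtain ⟨g, hg, hv⟩ := h a List.mem_cons_self
    obtain ⟨k, hk, hv'⟩ := ih (fun b hb => h b (List.mem_cons_of_mem _ hb))
    refine ⟨k * g, Pg.mul_mem hk hg, fun x => ?_⟩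
    rw [Equiv.Perm.mul_apply, hv', hv]
    show _ = force (S a x.val) (walkF S w)
    rw [force_eq]

theorem letter_spec : ∀ l, l < 35 → ∃ g ∈ Pg, ∀ x : Fin 275, (g x).val = S l x.val := by
  intro l
  induction l using Nat.strong_induction_on with
  | _ l ih =>
    intro hl
    by_cases h3 : l < 3
    · exact gen_spec h3
    · have h1 := allB_spec _ _ _ (by norm_num) def_chk (l - 3) (by omega)
      rw [show 3 + (l - 3) = l by omega] at h1
      simp only [Pdef, Bool.and_eq_true] at h1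
      obtain ⟨h2, h4⟩ := h1
      have hletters : ∀ a ∈ dW l, a < l := fun a ha =>
        Nat.le_of_ble_eq_true (List.all_eq_true.mp h2 a ha)
      obtain ⟨g, hg, hv⟩ := word_spec (w := dW l)
        (fun a ha => ih a (hletters a ha) (by have := hletters a ha; omega))
      refine ⟨g, hg, fun x => ?_⟩
      rw [hv]
      exact Nat.eq_of_beq_eq_true (allB_spec _ _ _ (by norm_num) h4 x.val x.2)

/-- The permutation of a letter. -/
noncomputable def Lt (l : ℕ) : Pm := if h : l < 35 then (letter_spec l h).choose else 1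

theorem Lt_mem {l : ℕ} (h : l < 35) : Lt l ∈ Pg := by
  rw [Lt, dif_pos h]
  exact (letter_spec l h).choose_spec.1

theorem Lt_val {l : ℕ} (h : l < 35) (x : Fin 275) : (Lt l x).val = S l x.val := by
  rw [Lt, dif_pos h]
  exact (letter_spec l h).choose_spec.2 x

/-- The element of a word. -/
noncomputable def El (w : List ℕ) : Pm := wval Lt w

theorem El_nil : El [] = 1 := rfl

theorem El_append (p q : List ℕ) : El (p ++ q) = El q * El p := wval_append _ _ _

theorem El_single (l : ℕ) : El [l] = Lt l := by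
  show wval Lt [] * Lt l = Lt l
  simp [wval]

theorem okW_spec {w : List ℕ} (hw : okW w = true) : ∀ l ∈ w, l < 35 := by
  intro l hl
  exact Nat.le_of_ble_eq_true (List.all_eq_true.mp hw l hl)

theorem okW_append {p q : List ℕ} (hp : okW p = true) (hq : okW q = true) : okW (p ++ q) = true := by
  unfold okW at *
  rw [List.all_append, hp, hq]
  rfl

theorem okW_single {l : ℕ} (hl : l < 35) : okW [l] = true := by
  simp only [okW, List.all_cons, List.all_nil, Bool.and_true]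
  exact Nat.ble_eq_true_of_le hl

theorem El_mem {w : List ℕ} (hw : okW w = true) : El w ∈ Pg :=
  wval_mem _ _ _ (fun l hl => Lt_mem (okW_spec hw l hl))

theorem El_apply {w : List ℕ} (hw : okW w = true) (x : Fin 275) : ((El w) x).val = walkF S w x.val := by
  induction w generalizing x with
  | nil => rfl
  | cons a w ih =>
    have h1 : okW w = true := by
      unfold okW at *
      simp only [List.all_cons, Bool.and_eq_true] at hw
      exact hw.2
    have h2 : a < 35 := okW_spec hw a List.mem_cons_self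
    have e : El (a :: w) = El w * Lt a := rfl
    rw [e, Equiv.Perm.mul_apply, ih h1, Lt_val h2]
    show _ = force (S a x.val) (walkF S w)
    rw [force_eq]

/-! ### The levels of the chain -/

theorem lev_spec (O P G E : ℕ → ℕ) (fx : List ℕ) (m k : ℕ) (hk : m ≤ 2 ^ k) (b : Fin 275) (hb : O 0 = b.val)
    (h : allB m k (Plev O P G E fx) = true) :
    ∀ y, y < m → tr Lt P G y ∈ Pg ∧ (∀ f ∈ fx, ∀ hf : f < 275, tr Lt P G y ⟨f, hf⟩ = ⟨f, hf⟩) ∧
      (tr Lt P G y b).val = O y ∧ E (O y) = y ∧ (0 < y → P y < y ∧ G y < 35) := by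
  intro y
  induction y using Nat.strong_induction_on with
  | _ y ih =>
    intro hy
    have h1 := allB_spec _ _ _ hk h y hy
    simp only [Plev, force_eq, Bool.and_eq_true, Bool.or_eq_true] at h1
    obtain ⟨h2, h3⟩ := h1
    rcases h3 with h3 | ⟨h4, h5, h6, h7⟩
    · have : y = 0 := Nat.eq_of_beq_eq_true h3
      subst this
      rw [tr_zero]
      exact ⟨Pg.one_mem, fun f _ hf => rfl, hb.symm, Nat.eq_of_beq_eq_true h2, fun h => absurd h (by norm_num)⟩
    · have hp : P y < y := Nat.le_of_ble_eq_true h4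
      have hg : G y < 35 := Nat.le_of_ble_eq_true h5
      have hpos : 0 < y := by omega
      obtain ⟨i1, i2, i3, -⟩ := ih (P y) hp (by omega)
      rw [tr_step Lt P G y hpos hp]
      refine ⟨Pg.mul_mem (Lt_mem hg) i1, ?_, ?_, Nat.eq_of_beq_eq_true h2, fun _ => ⟨hp, hg⟩⟩
      · intro f hf hf'
        rw [Equiv.Perm.mul_apply, i2 f hf hf']
        apply Fin.ext
        rw [Lt_val hg]
        exact Nat.eq_of_beq_eq_true (List.all_eq_true.mp h6 f hf)
      · rw [Equiv.Perm.mul_apply, Lt_val hg, i3]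
        exact Nat.eq_of_beq_eq_true h7

theorem tab_spec (T : ℕ → ℕ → ℕ) (P G : ℕ → ℕ) (m k : ℕ) (hk : m ≤ 2 ^ k)
    (h : allB m k (Ptab T P G) = true) (hl : ∀ y, y < m → 0 < y → P y < y ∧ G y < 35) :
    ∀ y, y < m → ∀ x : Fin 275, (tr Lt P G y x).val = T y x.val := by
  intro y
  induction y using Nat.strong_induction_on with
  | _ y ih =>
    intro hy x
    have h1 := allB_spec _ _ _ hk h y hy
    simp only [Ptab] at h1
    rcases Nat.eq_zero_or_pos y with rfl | hpos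
    · rw [tr_zero]
      have h2 : Nat.beq 0 0 = true := rfl
      rw [h2, cond_true] at h1
      exact (Nat.eq_of_beq_eq_true (allB_spec _ _ _ (by norm_num) h1 x.val x.2)).symm
    · have h2 : Nat.beq y 0 = false := by
        rw [Bool.eq_false_iff]
        intro h3
        have := Nat.eq_of_beq_eq_true h3
        omega
      rw [h2, cond_false] at h1
      obtain ⟨hp, hg⟩ := hl y hy hpos
      rw [tr_step Lt P G y hpos hp, Equiv.Perm.mul_apply, Lt_val hg, ih (P y) hp (by omega)]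
      exact (Nat.eq_of_beq_eq_true (allB_spec _ _ _ (by norm_num) h1 x.val x.2)).symm

/-- The base points. -/
def b1 : Fin 275 := ⟨141, by norm_num⟩
/-- The base points. -/
def b2 : Fin 275 := ⟨0, by norm_num⟩
/-- The base points. -/
def b3 : Fin 275 := ⟨1, by norm_num⟩
/-- The base points. -/
def b4 : Fin 275 := ⟨2, by norm_num⟩
/-- The base points. -/
def b5 : Fin 275 := ⟨3, by norm_num⟩

/-- The transversals. -/
noncomputable def t1 (y : ℕ) : Pm := tr Lt P1 G1 y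
/-- The transversals. -/
noncomputable def t2 (y : ℕ) : Pm := tr Lt P2 G2 y
/-- The transversals. -/
noncomputable def t3 (y : ℕ) : Pm := tr Lt P3 G3 y
/-- The transversals. -/
noncomputable def t4 (y : ℕ) : Pm := tr Lt P4 G4 y
/-- The transversals. -/
noncomputable def t5 (y : ℕ) : Pm := tr Lt P5 G5 y

theorem L1 : ∀ y, y < 275 → t1 y ∈ Pg ∧ (∀ f ∈ ([] : List ℕ), ∀ hf : f < 275, t1 y ⟨f, hf⟩ = ⟨f, hf⟩) ∧
    (t1 y b1).val = O1 y ∧ E1 (O1 y) = y ∧ (0 < y → P1 y < y ∧ G1 y < 35) :=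
  lev_spec O1 P1 G1 E1 [] 275 9 (by norm_num) b1 O1_zero lev1_chk
theorem L2 : ∀ y, y < 162 → t2 y ∈ Pg ∧ (∀ f ∈ [141], ∀ hf : f < 275, t2 y ⟨f, hf⟩ = ⟨f, hf⟩) ∧
    (t2 y b2).val = O2 y ∧ E2 (O2 y) = y ∧ (0 < y → P2 y < y ∧ G2 y < 35) :=
  lev_spec O2 P2 G2 E2 [141] 162 8 (by norm_num) b2 O2_zero lev2_chk
theorem L3 : ∀ y, y < 105 → t3 y ∈ Pg ∧ (∀ f ∈ [141, 0], ∀ hf : f < 275, t3 y ⟨f, hf⟩ = ⟨f, hf⟩) ∧
    (t3 y b3).val = T3 y 1 ∧ E3 (T3 y 1) = y ∧ (0 < y → P3 y < y ∧ G3 y < 35) :=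
  lev_spec (fun y => T3 y 1) P3 G3 E3 [141, 0] 105 7 (by norm_num) b3 T3_zero lev3_chk
theorem L4 : ∀ y, y < 64 → t4 y ∈ Pg ∧ (∀ f ∈ [141, 0, 1], ∀ hf : f < 275, t4 y ⟨f, hf⟩ = ⟨f, hf⟩) ∧
    (t4 y b4).val = T4 y 2 ∧ E4 (T4 y 2) = y ∧ (0 < y → P4 y < y ∧ G4 y < 35) :=
  lev_spec (fun y => T4 y 2) P4 G4 E4 [141, 0, 1] 64 6 (by norm_num) b4 T4_zero lev4_chk
theorem L5 : ∀ y, y < 3 → t5 y ∈ Pg ∧ (∀ f ∈ [141, 0, 1, 2], ∀ hf : f < 275, t5 y ⟨f, hf⟩ = ⟨f, hf⟩) ∧
    (t5 y b5).val = T5 y 3 ∧ E5 (T5 y 3) = y ∧ (0 < y → P5 y < y ∧ G5 y < 35) :=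
  lev_spec (fun y => T5 y 3) P5 G5 E5 [141, 0, 1, 2] 3 2 (by norm_num) b5 T5_zero lev5_chk

theorem t3_val {y : ℕ} (hy : y < 105) (x : Fin 275) : (t3 y x).val = T3 y x.val :=
  tab_spec T3 P3 G3 105 7 (by norm_num) tab3_chk (fun y hy h => (L3 y hy).2.2.2.2 h) y hy x
theorem t4_val {y : ℕ} (hy : y < 64) (x : Fin 275) : (t4 y x).val = T4 y x.val :=
  tab_spec T4 P4 G4 64 6 (by norm_num) tab4_chk (fun y hy h => (L4 y hy).2.2.2.2 h) y hy x
theorem t5_val {y : ℕ} (hy : y < 3) (x : Fin 275) : (t5 y x).val = T5 y x.val :=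
  tab_spec T5 P5 G5 3 2 (by norm_num) tab5_chk (fun y hy h => (L5 y hy).2.2.2.2 h) y hy x

theorem t1_zero : t1 0 = 1 := tr_zero _ _ _
theorem t2_zero : t2 0 = 1 := tr_zero _ _ _
theorem t3_zero : t3 0 = 1 := tr_zero _ _ _
theorem t4_zero : t4 0 = 1 := tr_zero _ _ _
theorem t5_zero : t5 0 = 1 := tr_zero _ _ _

theorem t1_mem {y : ℕ} (hy : y < 275) : t1 y ∈ Pg := (L1 y hy).1
theorem t2_mem {y : ℕ} (hy : y < 162) : t2 y ∈ Pg := (L2 y hy).1
theorem t3_mem {y : ℕ} (hy : y < 105) : t3 y ∈ Pg := (L3 y hy).1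
theorem t4_mem {y : ℕ} (hy : y < 64) : t4 y ∈ Pg := (L4 y hy).1
theorem t5_mem {y : ℕ} (hy : y < 3) : t5 y ∈ Pg := (L5 y hy).1

theorem t2_f1 {y : ℕ} (hy : y < 162) : t2 y b1 = b1 := (L2 y hy).2.1 141 (by simp) (by norm_num)
theorem t3_f1 {y : ℕ} (hy : y < 105) : t3 y b1 = b1 := (L3 y hy).2.1 141 (by simp) (by norm_num)
theorem t3_f2 {y : ℕ} (hy : y < 105) : t3 y b2 = b2 := (L3 y hy).2.1 0 (by simp) (by norm_num)
theorem t4_f1 {y : ℕ} (hy : y < 64) : t4 y b1 = b1 := (L4 y hy).2.1 141 (by simp) (by norm_num)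
theorem t4_f2 {y : ℕ} (hy : y < 64) : t4 y b2 = b2 := (L4 y hy).2.1 0 (by simp) (by norm_num)
theorem t4_f3 {y : ℕ} (hy : y < 64) : t4 y b3 = b3 := (L4 y hy).2.1 1 (by simp) (by norm_num)
theorem t5_f1 {y : ℕ} (hy : y < 3) : t5 y b1 = b1 := (L5 y hy).2.1 141 (by simp) (by norm_num)
theorem t5_f2 {y : ℕ} (hy : y < 3) : t5 y b2 = b2 := (L5 y hy).2.1 0 (by simp) (by norm_num)
theorem t5_f3 {y : ℕ} (hy : y < 3) : t5 y b3 = b3 := (L5 y hy).2.1 1 (by simp) (by norm_num)
theorem t5_f4 {y : ℕ} (hy : y < 3) : t5 y b4 = b4 := (L5 y hy).2.1 2 (by simp) (by norm_num)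

/-- One step of the uniqueness. -/
theorem step_inj {t : ℕ → Pm} {O E : ℕ → ℕ} {b : Fin 275} {A A' : Pm} {x x' : ℕ} (hA : A b = b) (hA' : A' b = b)
    (hv : (t x b).val = O x) (hv' : (t x' b).val = O x') (hE : E (O x) = x) (hE' : E (O x') = x')
    (h : t x * A = t x' * A') : x = x' ∧ A = A' := by
  have h1 : t x b = t x' b := by
    have h2 := congrArg (fun f : Pm => f b) h
    simp only [Equiv.Perm.mul_apply, hA, hA'] at h2
    exact h2
  have h2 : O x = O x' := by rw [← hv, ← hv', h1]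
  have h3 : x = x' := by rw [← hE, ← hE', h2]
  subst h3
  exact ⟨rfl, mul_left_cancel h⟩

/-- The product over the levels. -/
noncomputable def fT (x : Fin 275 × Fin 162 × Fin 105 × Fin 64 × Fin 3) : Pm :=
  t1 x.1 * (t2 x.2.1 * (t3 x.2.2.1 * (t4 x.2.2.2.1 * t5 x.2.2.2.2)))

theorem fT_inj : Function.Injective fT := by
  rintro ⟨x1, x2, x3, x4, x5⟩ ⟨x1', x2', x3', x4', x5'⟩ h
  simp only [fT] at h
  obtain ⟨e1, h⟩ := step_inj (t := t1) (O := O1) (E := E1) (b := b1)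
    (by simp only [Equiv.Perm.mul_apply]; rw [t5_f1 x5.2, t4_f1 x4.2, t3_f1 x3.2, t2_f1 x2.2])
    (by simp only [Equiv.Perm.mul_apply]; rw [t5_f1 x5'.2, t4_f1 x4'.2, t3_f1 x3'.2, t2_f1 x2'.2])
    (L1 _ x1.2).2.2.1 (L1 _ x1'.2).2.2.1 (L1 _ x1.2).2.2.2.1 (L1 _ x1'.2).2.2.2.1 h
  obtain ⟨e2, h⟩ := step_inj (t := t2) (O := O2) (E := E2) (b := b2)
    (by simp only [Equiv.Perm.mul_apply]; rw [t5_f2 x5.2, t4_f2 x4.2, t3_f2 x3.2])
    (by simp only [Equiv.Perm.mul_apply]; rw [t5_f2 x5'.2, t4_f2 x4'.2, t3_f2 x3'.2])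
    (L2 _ x2.2).2.2.1 (L2 _ x2'.2).2.2.1 (L2 _ x2.2).2.2.2.1 (L2 _ x2'.2).2.2.2.1 h
  obtain ⟨e3, h⟩ := step_inj (t := t3) (O := fun y => T3 y 1) (E := E3) (b := b3)
    (by simp only [Equiv.Perm.mul_apply]; rw [t5_f3 x5.2, t4_f3 x4.2])
    (by simp only [Equiv.Perm.mul_apply]; rw [t5_f3 x5'.2, t4_f3 x4'.2])
    (L3 _ x3.2).2.2.1 (L3 _ x3'.2).2.2.1 (L3 _ x3.2).2.2.2.1 (L3 _ x3'.2).2.2.2.1 h
  obtain ⟨e4, h⟩ := step_inj (t := t4) (O := fun y => T4 y 2) (E := E4) (b := b4)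
    (t5_f4 x5.2) (t5_f4 x5'.2)
    (L4 _ x4.2).2.2.1 (L4 _ x4'.2).2.2.1 (L4 _ x4.2).2.2.2.1 (L4 _ x4'.2).2.2.2.1 h
  have e5 : x5.val = x5'.val := by
    have h1 := (L5 _ x5.2).2.2.2.1
    have h2 := (L5 _ x5'.2).2.2.2.1
    have h3 := (L5 _ x5.2).2.2.1
    have h4 := (L5 _ x5'.2).2.2.1
    have h5 : t5 x5.val = t5 x5'.val := h
    have h6 : T5 x5.val 3 = T5 x5'.val 3 := by
      have h7 : (t5 x5.val b5).val = T5 x5.val 3 := h3
      have h8 : (t5 x5'.val b5).val = T5 x5'.val 3 := h4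
      rw [← h7, ← h8, h5]
    have h9 : E5 (T5 x5.val 3) = x5.val := h1
    have h10 : E5 (T5 x5'.val 3) = x5'.val := h2
    rw [← h9, ← h10, h6]
  simp only [Prod.mk.injEq]
  exact ⟨Fin.ext e1, Fin.ext e2, Fin.ext e3, Fin.ext e4, Fin.ext e5⟩

theorem fT_mem (x : Fin 275 × Fin 162 × Fin 105 × Fin 64 × Fin 3) : fT x ∈ Pg :=
  Pg.mul_mem (t1_mem x.1.2) (Pg.mul_mem (t2_mem x.2.1.2) (Pg.mul_mem (t3_mem x.2.2.1.2)
    (Pg.mul_mem (t4_mem x.2.2.2.1.2) (t5_mem x.2.2.2.2.2))))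

theorem card_dom : Nat.card (Fin 275 × Fin 162 × Fin 105 × Fin 64 × Fin 3) = 898128000 := by
  simp only [Nat.card_eq_fintype_card, Fintype.card_prod, Fintype.card_fin]

theorem card_lb : 898128000 ≤ Nat.card Pg := by
  rw [← card_dom]
  exact Nat.card_le_card_of_injective (fun x => (⟨fT x, fT_mem x⟩ : Pg))
    (fun a b h => fT_inj (congrArg Subtype.val h))

theorem card_Pg : Nat.card Pg = 898128000 := le_antisymm card_Pg_le card_lb

theorem exists_tuple {g : Pm} (hg : g ∈ Pg) :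
    ∃ x : Fin 275 × Fin 162 × Fin 105 × Fin 64 × Fin 3, g = fT x := by
  have hb : Function.Bijective (fun x => (⟨fT x, fT_mem x⟩ : Pg)) :=
    Function.Injective.bijective_of_nat_card_le (fun a b h => fT_inj (congrArg Subtype.val h))
      (by rw [card_dom, card_Pg])
  obtain ⟨x, hx⟩ := hb.2 ⟨g, hg⟩
  exact ⟨x, (congrArg Subtype.val hx).symm⟩

/-- A zero index from a fixed base point. -/
theorem zero_of_fix {t : ℕ → Pm} {O E : ℕ → ℕ} {b : Fin 275} {x : ℕ} (hv : (t x b).val = O x)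
    (hE : E (O x) = x) (hE0 : E (O 0) = 0) (hO : O 0 = b.val) (h : t x b = b) : x = 0 := by
  have h1 : O x = O 0 := by rw [← hv, h, hO]
  rw [← hE, h1, hE0]

/-- The stabilizer of the first two base points. -/
theorem stab2 {h : Pm} (hh : h ∈ Pg) (h1 : h b1 = b1) (h2 : h b2 = b2) :
    ∃ (x3 x4 x5 : ℕ), x3 < 105 ∧ x4 < 64 ∧ x5 < 3 ∧ h = t3 x3 * (t4 x4 * t5 x5) := by
  obtain ⟨⟨x1, x2, x3, x4, x5⟩, rfl⟩ := exists_tuple hh
  simp only [fT] at h1 h2 ⊢
  simp only [Equiv.Perm.mul_apply] at h1 h2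
  rw [t5_f1 x5.2, t4_f1 x4.2, t3_f1 x3.2, t2_f1 x2.2] at h1
  have e1 : x1.val = 0 := zero_of_fix (t := t1) (O := O1) (E := E1) (L1 _ x1.2).2.2.1 (L1 _ x1.2).2.2.2.1
    (L1 0 (by norm_num)).2.2.2.1 O1_zero h1
  rw [t5_f2 x5.2, t4_f2 x4.2, t3_f2 x3.2, e1, t1_zero, Equiv.Perm.one_apply] at h2
  have e2 : x2.val = 0 := zero_of_fix (t := t2) (O := O2) (E := E2) (L2 _ x2.2).2.2.1 (L2 _ x2.2).2.2.2.1
    (L2 0 (by norm_num)).2.2.2.1 O2_zero h2
  refine ⟨x3, x4, x5, x3.2, x4.2, x5.2, ?_⟩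
  rw [e1, e2, t1_zero, t2_zero, one_mul, one_mul]

theorem eq_one_of_base {h : Pm} (hh : h ∈ Pg) (h1 : h b1 = b1) (h2 : h b2 = b2) (h3 : h b3 = b3) (h4 : h b4 = b4)
    (h5 : h b5 = b5) : h = 1 := by
  obtain ⟨x3, x4, x5, i3, i4, i5, rfl⟩ := stab2 hh h1 h2
  simp only [Equiv.Perm.mul_apply] at h3 h4 h5
  rw [t5_f3 i5, t4_f3 i4] at h3
  have e3 : x3 = 0 := zero_of_fix (t := t3) (O := fun y => T3 y 1) (E := E3) (L3 _ i3).2.2.1 (L3 _ i3).2.2.2.1
    (L3 0 (by norm_num)).2.2.2.1 T3_zero h3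
  subst e3
  rw [t3_zero, Equiv.Perm.one_apply, t5_f4 i5] at h4
  have e4 : x4 = 0 := zero_of_fix (t := t4) (O := fun y => T4 y 2) (E := E4) (L4 _ i4).2.2.1 (L4 _ i4).2.2.2.1
    (L4 0 (by norm_num)).2.2.2.1 T4_zero h4
  subst e4
  rw [t3_zero, t4_zero, Equiv.Perm.one_apply, Equiv.Perm.one_apply] at h5
  have e5 : x5 = 0 := zero_of_fix (t := t5) (O := fun y => T5 y 3) (E := E5) (L5 _ i5).2.2.1 (L5 _ i5).2.2.2.1
    (L5 0 (by norm_num)).2.2.2.1 T5_zero h5
  subst e5
  rw [t3_zero, t4_zero, t5_zero, one_mul, one_mul]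

theorem eq_of_base {c d : Pm} (hc : c ∈ Pg) (hd : d ∈ Pg) (h1 : c b1 = d b1) (h2 : c b2 = d b2) (h3 : c b3 = d b3)
    (h4 : c b4 = d b4) (h5 : c b5 = d b5) : c = d := by
  have h := eq_one_of_base (h := d⁻¹ * c) (Pg.mul_mem (Pg.inv_mem hd) hc)
    (by rw [Equiv.Perm.mul_apply, h1, invApp])
    (by rw [Equiv.Perm.mul_apply, h2, invApp])
    (by rw [Equiv.Perm.mul_apply, h3, invApp])
    (by rw [Equiv.Perm.mul_apply, h4, invApp])
    (by rw [Equiv.Perm.mul_apply, h5, invApp])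
  rw [inv_mul_eq_one] at h
  exact h.symm

theorem El_eq_of_agree {w₁ w₂ : List ℕ} (h₁ : okW w₁ = true) (h₂ : okW w₂ = true) (h : agreeB w₁ w₂ = true) :
    El w₁ = El w₂ := by
  simp only [agreeB, agree, Bool.and_eq_true] at h
  obtain ⟨a1, a2, a3, a4, a5⟩ := h
  refine eq_of_base (El_mem h₁) (El_mem h₂) ?_ ?_ ?_ ?_ ?_
  · apply Fin.ext
    rw [El_apply h₁, El_apply h₂]
    exact Nat.eq_of_beq_eq_true a1
  · apply Fin.ext
    rw [El_apply h₁, El_apply h₂]
    exact Nat.eq_of_beq_eq_true a2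
  · apply Fin.ext
    rw [El_apply h₁, El_apply h₂]
    exact Nat.eq_of_beq_eq_true a3
  · apply Fin.ext
    rw [El_apply h₁, El_apply h₂]
    exact Nat.eq_of_beq_eq_true a4
  · apply Fin.ext
    rw [El_apply h₁, El_apply h₂]
    exact Nat.eq_of_beq_eq_true a5

/-! ### The Sylow subgroup -/

theorem Yl_lt {i : ℕ} (hi : i < 7) : Yl i < 35 :=
  Nat.le_of_ble_eq_true (allB_spec _ _ _ (by norm_num) ok_y i hi)

theorem Cl_lt {i : ℕ} (hi : i < 6) : Cl i < 35 :=
  Nat.le_of_ble_eq_true (allB_spec _ _ _ (by norm_num) ok_c i hi)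

theorem ok_cond (b : Bool) {l : ℕ} (hl : l < 35) : okW (cond b [l] []) = true := by
  cases b
  · rfl
  · exact okW_single hl

theorem ok_nf (e : ℕ) : okW (nfW e) = true := by
  unfold nfW
  repeat' apply okW_append
  all_goals exact ok_cond _ (Yl_lt (by norm_num))

/-- The Sylow subgroup. -/
noncomputable def S₀ : Subgroup Pm := Subgroup.closure ((fun i => El [Yl i]) '' Set.Iio 7)

theorem gen_memS {i : ℕ} (hi : i < 7) : El [Yl i] ∈ S₀ := Subgroup.subset_closure ⟨i, hi, rfl⟩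

theorem S_le_Pg : S₀ ≤ Pg := by
  rw [S₀, Subgroup.closure_le]
  rintro _ ⟨i, hi, rfl⟩
  exact El_mem (okW_single (Yl_lt hi))

theorem nf_memS (e : ℕ) : El (nfW e) ∈ S₀ := by
  have hf : ∀ k, k < 7 → El (cond (e.testBit k) [Yl k] []) ∈ S₀ := by
    intro k hk
    cases e.testBit k
    · exact S₀.one_mem
    · exact gen_memS hk
  simp only [nfW, El_append]
  exact S₀.mul_mem (S₀.mul_mem (S₀.mul_mem (S₀.mul_mem (S₀.mul_mem (S₀.mul_mem (hf 0 (by norm_num))
    (hf 1 (by norm_num))) (hf 2 (by norm_num))) (hf 3 (by norm_num))) (hf 4 (by norm_num))) (hf 5 (by norm_num)))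
    (hf 6 (by norm_num))

theorem clos {i e : ℕ} (hi : i < 7) (he : e < 128) : ∃ e', e' < 128 ∧ El [Yl i] * El (nfW e) = El (nfW e') := by
  have h1 := allB_spec _ _ _ (by norm_num) (allB_spec _ _ _ (by norm_num) clos_chk i hi) e he
  rw [force_eq] at h1
  simp only [Bool.and_eq_true] at h1
  refine ⟨_, Nat.le_of_ble_eq_true h1.1, ?_⟩
  rw [← El_append]
  exact El_eq_of_agree (okW_append (ok_nf e) (okW_single (Yl_lt hi))) (ok_nf _) h1.2

theorem S_eq {x : Pm} (hx : x ∈ S₀) : ∃ e, e < 128 ∧ x = El (nfW e) := by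
  rw [S₀, ← Subgroup.mem_toSubmonoid, Subgroup.closure_toSubmonoid_of_finite] at hx
  induction hx using Submonoid.closure_induction_left with
  | one => exact ⟨0, by norm_num, by rw [nfW_zero]; rfl⟩
  | mul_left s hs y _ ih =>
    obtain ⟨i, hi, rfl⟩ := hs
    obtain ⟨e, he, rfl⟩ := ih
    obtain ⟨e', he', h⟩ := clos hi he
    exact ⟨e', he', h⟩

theorem hS_eq {a b : ℕ} (h : El (nfW a) = El (nfW b)) : hS a = hS b := by
  have h0 := El_apply (ok_nf a) b2
  have h1 := El_apply (ok_nf a) b3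
  rw [h, El_apply (ok_nf b)] at h0 h1
  have e0 : walkF S (nfW b) 0 = walkF S (nfW a) 0 := h0
  have e1 : walkF S (nfW b) 1 = walkF S (nfW a) 1 := h1
  simp only [hS, e0, e1]

theorem nf_inj {a b : ℕ} (ha : a < 128) (hb : b < 128) (h : El (nfW a) = El (nfW b)) : a = b := by
  have key : ∀ a b, a < 128 → b < 128 → b < a → El (nfW a) ≠ El (nfW b) := by
    intro a b ha hb hlt he
    have h1 := allB_spec _ _ _ (by norm_num) (allB_spec _ _ _ (by norm_num) dist_chk a ha) b hb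
    simp only [Bool.or_eq_true] at h1
    rcases h1 with h1 | h1
    · have := Nat.le_of_ble_eq_true h1
      omega
    · rw [hS_eq he] at h1
      simp at h1
  rcases lt_trichotomy a b with h1 | h1 | h1
  · exact absurd h.symm (key b a hb ha h1)
  · exact h1
  · exact absurd h (key a b ha hb h1)

/-- The order of the Sylow subgroup. -/
theorem card_S : Nat.card S₀ = 2 ^ 7 := by
  let f : Fin 128 → S₀ := fun e => ⟨El (nfW e.val), nf_memS _⟩
  have hf : Function.Bijective f := by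
    constructor
    · intro a b hab
      exact Fin.ext (nf_inj a.2 b.2 (congrArg Subtype.val hab))
    · rintro ⟨x, hx⟩
      obtain ⟨e, he, rfl⟩ := S_eq hx
      exact ⟨⟨e, he⟩, rfl⟩
  rw [← Nat.card_eq_of_bijective f hf]
  simp

/-! ### Orbit labels and fixed points -/

theorem y_val {i : ℕ} (hi : i < 7) (x : Fin 275) : ((El [Yl i]) x).val = S (Yl i) x.val := by
  rw [El_single, Lt_val (Yl_lt hi)]

theorem ol_S {s : Pm} (hs : s ∈ S₀) (p : Fin 275) : ol (s p).val = ol p.val := by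
  induction hs using Subgroup.closure_induction generalizing p with
  | mem x hx =>
    obtain ⟨i, hi, rfl⟩ := hx
    show ol ((El [Yl i]) p).val = _
    rw [y_val hi]
    exact Nat.eq_of_beq_eq_true (allB_spec _ _ _ (by norm_num) (allB_spec _ _ _ (by norm_num) ol_chk i hi) p.val p.2)
  | one => rfl
  | mul x y _ _ hx hy => rw [Equiv.Perm.mul_apply, hx, hy]
  | inv x _ hx =>
    have := hx (x⁻¹ p)
    rw [appInv] at this
    exact this.symm

theorem S_fix1 {s : Pm} (hs : s ∈ S₀) : s b1 = b1 := by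
  induction hs using Subgroup.closure_induction with
  | mem x hx =>
    obtain ⟨i, hi, rfl⟩ := hx
    apply Fin.ext
    show ((El [Yl i]) b1).val = 141
    rw [y_val hi]
    exact Nat.eq_of_beq_eq_true (allB_spec _ _ _ (by norm_num) fix1_chk i hi)
  | one => rfl
  | mul x y _ _ hx hy => rw [Equiv.Perm.mul_apply, hy, hx]
  | inv x _ hx => rw [Equiv.Perm.inv_eq_iff_eq, hx]

theorem fixQ {p : Fin 275} (h : ∀ i, i < 7 → (El [Yl i]) p = p) : p = b1 := by
  have h1 := allB_spec _ _ _ (by norm_num) fixQ_chk p.val p.2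
  simp only [Bool.or_eq_true, Bool.and_eq_true] at h1
  rcases h1 with h1 | ⟨h1, h2⟩
  · exact Fin.ext (Nat.eq_of_beq_eq_true h1)
  · exfalso
    have hi : wq p.val < 7 := Nat.le_of_ble_eq_true h1
    have h3 := y_val hi p
    rw [h _ hi] at h3
    rw [← h3] at h2
    simp at h2

/-- The elements of the Sylow subgroup fixing the second base point. -/
theorem stab_b2 {s : Pm} (hs : s ∈ S₀) (h : s b2 = b2) : s = 1 ∨ s = El [Yl 4] := by
  obtain ⟨e, he, rfl⟩ := S_eq hs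
  have h1 := allB_spec _ _ _ (by norm_num) stab0_chk e he
  simp only [Bool.or_eq_true] at h1
  rcases h1 with h1 | h1 | h1
  · exfalso
    have h2 := El_apply (ok_nf e) b2
    rw [h] at h2
    have h3 : walkF S (nfW e) 0 = 0 := h2.symm
    rw [h3] at h1
    simp at h1
  · left
    rw [Nat.eq_of_beq_eq_true h1, nfW_zero]
    rfl
  · right
    rw [Nat.eq_of_beq_eq_true h1, nfW_16]

/-- The normalizer of the Sylow subgroup. -/
theorem norm_mem {g : Pm} (hg : g ∈ Pg) (hn : ∀ s ∈ S₀, g * s * g⁻¹ ∈ S₀) : g ∈ S₀ := by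
  have hN' := Cfsg.Agent.Lib.FusionEmbed.mem_normalizer_of_conj S₀ g hn
  have hinv : ∀ s ∈ S₀, g⁻¹ * s * g ∈ S₀ := by
    intro s hs
    have h1 := (Subgroup.mem_normalizer_iff.mp hN' (g⁻¹ * s * g)).mpr
    apply h1
    have : g * (g⁻¹ * s * g) * g⁻¹ = s := by group
    rwa [this]
  -- the first base point
  have h0 : g b1 = b1 := by
    apply fixQ
    intro i hi
    have h1 := S_fix1 (hinv _ (gen_memS hi))
    simp only [Equiv.Perm.mul_apply] at h1
    rw [Equiv.Perm.inv_eq_iff_eq] at h1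
    exact h1
  -- the second base point
  have hE := allB_spec _ _ _ (by norm_num) Et_chk (g b2).val (g b2).2
  simp only [PEt, force_eq, Bool.and_eq_true] at hE
  obtain ⟨hE1, hE2⟩ := hE
  have ha : Et1 (g b2).val < 128 := Nat.le_of_ble_eq_true hE1
  have hq : (El (nfW (Et1 (g b2).val))) b2 = g b2 := by
    cases hc : Nat.beq (Et2 (g b2).val) 255 with
    | true =>
      rw [hc, cond_true] at hE2
      apply Fin.ext
      rw [El_apply (ok_nf _)]
      exact Nat.eq_of_beq_eq_true hE2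
    | false =>
      exfalso
      rw [hc, cond_false] at hE2
      simp only [Bool.and_eq_true, Bool.not_eq_true'] at hE2
      obtain ⟨c1, c2, c3, c4, c5, c6⟩ := hE2
      have hc' : Et2 (g b2).val < 128 := Nat.le_of_ble_eq_true c1
      have hfix : ∀ e, e < 128 → e ≠ 0 → Nat.beq (walkF S (nfW e) (g b2).val) (g b2).val = true →
          g⁻¹ * El (nfW e) * g = El [Yl 4] := by
        intro e he he0 hb
        have h2 : (El (nfW e)) (g b2) = g b2 := by
          apply Fin.ext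
          rw [El_apply (ok_nf _)]
          exact Nat.eq_of_beq_eq_true hb
        have h3 : (g⁻¹ * El (nfW e) * g) b2 = b2 := by
          simp only [Equiv.Perm.mul_apply]
          rw [h2, invApp]
        rcases stab_b2 (hinv _ (nf_memS e)) h3 with h4 | h4
        · exfalso
          have h5 : El (nfW e) = El (nfW 0) := by
            rw [nfW_zero, El_nil]
            have : El (nfW e) = g * (g⁻¹ * El (nfW e) * g) * g⁻¹ := by group
            rw [this, h4]
            group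
          exact he0 (nf_inj he (by norm_num) h5)
        · exact h4
      have hne1 : Et1 (g b2).val ≠ 0 := by
        intro h
        rw [h] at c3
        simp at c3
      have hne2 : Et2 (g b2).val ≠ 0 := by
        intro h
        rw [h] at c4
        simp at c4
      have e1 := hfix _ ha hne1 c5
      have e2 := hfix _ hc' hne2 c6
      have e3 : El (nfW (Et1 (g b2).val)) = El (nfW (Et2 (g b2).val)) := by
        have h1 : g⁻¹ * El (nfW (Et1 (g b2).val)) * g = g⁻¹ * El (nfW (Et2 (g b2).val)) * g := by rw [e1, e2]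
        have h2 := mul_right_cancel h1
        exact mul_left_cancel h2
      have e4 := nf_inj ha hc' e3
      rw [e4] at c2
      simp at c2
  set s := El (nfW (Et1 (g b2).val)) with hs
  have hsS : s ∈ S₀ := nf_memS _
  set h := s⁻¹ * g with hh
  have hhPg : h ∈ Pg := Pg.mul_mem (Pg.inv_mem (S_le_Pg hsS)) hg
  have hh1 : h b1 = b1 := by
    rw [hh, Equiv.Perm.mul_apply, h0, Equiv.Perm.inv_eq_iff_eq, S_fix1 hsS]
  have hh2 : h b2 = b2 := by
    rw [hh, Equiv.Perm.mul_apply, Equiv.Perm.inv_eq_iff_eq, hq]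
  have hgh : g = s * h := by rw [hh]; group
  have hnh : ∀ r ∈ S₀, h * r * h⁻¹ ∈ S₀ := by
    intro r hr
    have h1 : h * r * h⁻¹ = s⁻¹ * (g * r * g⁻¹) * s := by rw [hh]; group
    rw [h1]
    exact S₀.mul_mem (S₀.mul_mem (S₀.inv_mem hsS) (hn r hr)) hsS
  obtain ⟨x3, x4, x5, i3, i4, i5, hxe⟩ := stab2 hhPg hh1 hh2
  -- the index
  have d1 : Nat.div (x3 * 192 + x4 * 3 + x5) 192 = x3 := by
    show (x3 * 192 + x4 * 3 + x5) / 192 = x3
    omega
  have d2 : Nat.mod (Nat.div (x3 * 192 + x4 * 3 + x5) 3) 64 = x4 := by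
    show (x3 * 192 + x4 * 3 + x5) / 3 % 64 = x4
    omega
  have d3 : Nat.mod (x3 * 192 + x4 * 3 + x5) 3 = x5 := by
    show (x3 * 192 + x4 * 3 + x5) % 3 = x5
    omega
  have hlab : ∀ p : Fin 275, lab (x3 * 192 + x4 * 3 + x5) p.val = ol (h p).val := by
    intro p
    simp only [lab, d1, d2, d3]
    rw [hxe]
    simp only [Equiv.Perm.mul_apply]
    rw [t3_val i3, t4_val i4, t5_val i5]
  have hval : ∀ p : Fin 275, (h p).val = T3 x3 (T4 x4 (T5 x5 p.val)) := by
    intro p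
    rw [hxe]
    simp only [Equiv.Perm.mul_apply]
    rw [t3_val i3, t4_val i4, t5_val i5]
  have hT := allB_spec _ _ _ (by norm_num) tail_chk (x3 * 192 + x4 * 3 + x5) (by omega)
  simp only [Ptail, Bool.or_eq_true, List.any_eq_true] at hT
  rcases hT with hT | hT | ⟨c, hc, hT⟩
  · -- the trivial element
    have h1 : x3 * 192 + x4 * 3 + x5 = 0 := Nat.eq_of_beq_eq_true hT
    have e3 : x3 = 0 := by omega
    have e4 : x4 = 0 := by omega
    have e5 : x5 = 0 := by omega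
    rw [hgh, hxe, e3, e4, e5, t3_zero, t4_zero, t5_zero, one_mul, one_mul, mul_one]
    exact hsS
  · -- the involution
    have h1 : x3 * 192 + x4 * 3 + x5 = 12405 := Nat.eq_of_beq_eq_true hT
    have e3 : x3 = Nat.div 12405 192 := by
      show x3 = 12405 / 192
      omega
    have e4 : x4 = Nat.mod (Nat.div 12405 3) 64 := by
      show x4 = 12405 / 3 % 64
      omega
    have e5 : x5 = Nat.mod 12405 3 := by
      show x5 = 12405 % 3
      omega
    have htau := tau_chk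
    have hb : ∀ j, j < 5 → T3 x3 (T4 x4 (T5 x5 (([141, 0, 1, 2, 3] : List ℕ).getD j 0))) =
        S (Yl 4) (([141, 0, 1, 2, 3] : List ℕ).getD j 0) := by
      intro j hj
      have := allB_spec _ _ _ (by norm_num) htau j hj
      rw [force_eq, ← e3, ← e4, ← e5] at this
      exact Nat.eq_of_beq_eq_true this
    have hY : h = El [Yl 4] := by
      have hv : ∀ p : Fin 275, (El [Yl 4] p).val = S (Yl 4) p.val := fun p => y_val (by norm_num) p
      refine eq_of_base hhPg (El_mem (okW_single (Yl_lt (by norm_num)))) ?_ ?_ ?_ ?_ ?_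
      · apply Fin.ext
        rw [hval, hv]
        exact hb 0 (by norm_num)
      · apply Fin.ext
        rw [hval, hv]
        exact hb 1 (by norm_num)
      · apply Fin.ext
        rw [hval, hv]
        exact hb 2 (by norm_num)
      · apply Fin.ext
        rw [hval, hv]
        exact hb 3 (by norm_num)
      · apply Fin.ext
        rw [hval, hv]
        exact hb 4 (by norm_num)
    rw [hgh, hY]
    exact S₀.mul_mem hsS (gen_memS (by norm_num))
  · -- a test fails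
    exfalso
    have hok := List.all_eq_true.mp tlist_ok c hc
    simp only [Bool.and_eq_true] at hok
    have hi : c.1 < 7 := Nat.le_of_ble_eq_true hok.1
    have hq' : c.2 < 275 := Nat.le_of_ble_eq_true hok.2
    let q : Fin 275 := ⟨c.2, hq'⟩
    have h3 : lab (x3 * 192 + x4 * 3 + x5) (S (Yl c.1) c.2) = lab (x3 * 192 + x4 * 3 + x5) c.2 := by
      have e1 := hlab ((El [Yl c.1]) q)
      rw [y_val hi] at e1
      have e2 := hlab q
      have e3 := ol_S (hnh _ (gen_memS hi)) (h q)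
      have e4 : (h * El [Yl c.1] * h⁻¹) (h q) = h ((El [Yl c.1]) q) := by
        simp only [Equiv.Perm.mul_apply, invApp]
      rw [e4] at e3
      show lab _ (S (Yl c.1) q.val) = lab _ q.val
      rw [e1, e2, e3]
    rw [h3] at hT
    simp at hT

/-- The centre of the Sylow subgroup. -/
theorem center_cases {x : Pm} (hxS : x ∈ S₀) (hc : ∀ i, i < 7 → x * El [Yl i] = El [Yl i] * x) :
    x = 1 ∨ x = El [Yl 6] := by
  obtain ⟨e, he, rfl⟩ := S_eq hxS
  have h1 := allB_spec _ _ _ (by norm_num) cen_chk e he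
  simp only [Pcen, force_eq, Bool.or_eq_true, Bool.and_eq_true] at h1
  rcases h1 with h1 | h1 | ⟨h1, h2, h3⟩
  · left
    rw [Nat.eq_of_beq_eq_true h1, nfW_zero]
    rfl
  · right
    rw [Nat.eq_of_beq_eq_true h1, nfW_64]
  · exfalso
    have hi : Nat.mod (cw e) 8 < 7 := Nat.le_of_ble_eq_true h1
    have hp : Nat.div (cw e) 8 < 275 := Nat.le_of_ble_eq_true h2
    have h4 := congrArg (fun f : Pm => (f ⟨_, hp⟩ : Fin 275).val) (hc _ hi)
    simp only [Equiv.Perm.mul_apply] at h4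
    rw [El_apply (ok_nf e), y_val hi, y_val hi, El_apply (ok_nf e)] at h4
    rw [h4] at h3
    simp at h3

/-- The subgroups of `S₀` closed under fusion. -/
theorem closed_dichotomy (Tt : Subgroup Pm) (hT : Tt ≤ S₀)
    (hcl : ∀ t ∈ Tt, ∀ g ∈ Pg, g * t * g⁻¹ ∈ S₀ → g * t * g⁻¹ ∈ Tt) : Tt = ⊥ ∨ Tt = S₀ := by
  by_cases hb : Tt = ⊥
  · exact Or.inl hb
  right
  have hP : IsPGroup 2 S₀ := IsPGroup.of_card card_S
  have hnorm : (Tt.subgroupOf S₀).Normal := by
    refine ⟨?_⟩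
    rintro ⟨t, ht⟩ ht' ⟨g, hg⟩
    rw [Subgroup.mem_subgroupOf] at ht' ⊢
    exact hcl t ht' g (S_le_Pg hg) (S₀.mul_mem (S₀.mul_mem hg ht) (S₀.inv_mem hg))
  have hne : Tt.subgroupOf S₀ ≠ ⊥ := by
    intro h
    apply hb
    rw [eq_bot_iff]
    intro x hx
    have h1 : (⟨x, hT hx⟩ : S₀) ∈ Tt.subgroupOf S₀ := by
      rw [Subgroup.mem_subgroupOf]
      exact hx
    rw [h, Subgroup.mem_bot] at h1
    rw [Subgroup.mem_bot]
    exact congrArg Subtype.val h1
  obtain ⟨⟨x, hxS⟩, hxT, hx1, hxc⟩ := Cfsg.Agent.Lib.PuigBasic.exists_mem_center_of_normal hP _ hne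
  rw [Subgroup.mem_subgroupOf] at hxT
  have hcomm : ∀ i, i < 7 → x * El [Yl i] = El [Yl i] * x := by
    intro i hi
    have h1 := congrArg Subtype.val ((Subgroup.mem_center_iff.mp hxc) ⟨_, gen_memS hi⟩)
    exact h1.symm
  have hzT : El [Yl 6] ∈ Tt := by
    rcases center_cases hxS hcomm with h | h
    · exact absurd (Subtype.ext h) hx1
    · exact h ▸ hxT
  apply le_antisymm hT
  rw [S₀, Subgroup.closure_le]
  rintro _ ⟨i, hi', rfl⟩
  have hi'' : i < 7 := hi'
  show El [Yl i] ∈ Tt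
  by_cases h6 : i = 6
  · rw [h6]
    exact hzT
  · have hi6 : i < 6 := by omega
    have hok1 : okW [Yl 6, Cl i] = true := okW_append (p := [Yl 6]) (q := [Cl i]) (okW_single (Yl_lt (by norm_num))) (okW_single (Cl_lt hi6))
    have hok2 : okW [Cl i, Yl i] = true := okW_append (p := [Cl i]) (q := [Yl i]) (okW_single (Cl_lt hi6)) (okW_single (Yl_lt hi''))
    have h1 := El_eq_of_agree hok1 hok2 (allB_spec _ _ _ (by norm_num) conj_chk i hi6)
    have e1 : El [Yl 6, Cl i] = El [Cl i] * El [Yl 6] := El_append [Yl 6] [Cl i]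
    have e2 : El [Cl i, Yl i] = El [Yl i] * El [Cl i] := El_append [Cl i] [Yl i]
    rw [e1, e2] at h1
    have h3 : El [Cl i] * El [Yl 6] * (El [Cl i])⁻¹ = El [Yl i] := by
      rw [h1]
      group
    rw [← h3]
    apply hcl _ hzT _ (El_mem (okW_single (Cl_lt hi6)))
    rw [h3]
    exact gen_memS hi''

/-- The main theorem. -/
theorem main {G : Type*} [Group G] [Finite G] (e : G ≃* Cfsg.Spor.McL) (S : Sylow 2 G) :
    (Cfsg.groupFusionSystem (S : Subgroup G)).IsSimple 2 := by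
  obtain ⟨e'⟩ := equiv_of_card card_lb
  let ι' : G →* Pm := Pg.subtype.comp (e'.toMonoidHom.comp e.toMonoidHom)
  have hι : Function.Injective ι' := by
    intro a b hab
    exact e.injective (e'.injective (Subtype.ext hab))
  have hrange : ι'.range = Pg := by
    ext x
    constructor
    · rintro ⟨a, rfl⟩
      exact (e' (e a)).2
    · intro hx
      refine ⟨e.symm (e'.symm ⟨x, hx⟩), ?_⟩
      show ((e' (e (e.symm (e'.symm ⟨x, hx⟩))) : Pg) : Pm) = x
      simp
  have hcardG : Nat.card G = 2 ^ 7 * 7016625 := by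
    rw [Nat.card_congr (e.trans e').toEquiv, card_Pg]
    norm_num
  refine Cfsg.Agent.Lib.FusionEmbed.isSimple_of_embedding 2 ι' hι S₀ (hrange ▸ S_le_Pg) 7 7016625 card_S hcardG
    (by norm_num) ?_ ?_ 1 (Subgroup.one_mem _) ?_ S₀ le_rfl ?_ ∅ (Set.empty_subset _) (fun u hu => absurd hu (Set.notMem_empty u))
    (Subgroup.one_mem _) ?_ S
  · intro hb
    have h1 := card_S
    rw [hb] at h1
    simp at h1
  · rw [hrange]
    exact closed_dichotomy
  · intro s hs
    simpa using hs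
  · rw [hrange]
    intro c hc hcomm
    refine norm_mem hc fun s hs => ?_
    rw [hcomm s hs, mul_inv_cancel_right]
    exact hs
  · rw [hrange]
    intro g hg hn
    exact Subgroup.subset_closure (Or.inl (norm_mem hg hn))

end Cfsg.Agent.Lib.McLFus
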