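import Mathlib
import Cfsg.Agent.Lib.Class2Det
import Cfsg.Agent.Lib.Huppert2
import Cfsg.Agent.Lib.PuigBasic

/-! Coprime automorphism groups of metacyclic `p`-groups. -/

set_option autoImplicit false

namespace Cfsg.Agent.Lib.MetaAct

open Subgroup Cfsg Cfsg.Agent.Lib.Class2Det
open scoped commutatorElement

variable {R : Type*} [Group R]

/-- Automorphisms induced on the quotient by a characteristic subgroup. -/
noncomputable def quotAutHom (M : Subgroup R) [M.Normal] (hc : M.Characteristic) : MulAut R →* MulAut (R ⧸ M) where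
  toFun α := QuotientGroup.congr M M α (by
    have h1 := (Subgroup.characteristic_iff_map_eq.mp hc) α
    exact h1)
  map_one' := by
    ext x
    obtain ⟨x, rfl⟩ := QuotientGroup.mk_surjective x
    rfl
  map_mul' α β := by
    ext x
    obtain ⟨x, rfl⟩ := QuotientGroup.mk_surjective x
    rfl

@[simp] theorem quotAutHom_mk (M : Subgroup R) [M.Normal] (hc : M.Characteristic) (α : MulAut R) (x : R) :
    quotAutHom M hc α (x : R ⧸ M) = ((α x : R) : R ⧸ M) := rfl

/-- The hypothesis `[R, D] = R` passes to quotients. -/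
theorem closure_quot (M : Subgroup R) [M.Normal] (hc : M.Characteristic) (D : Subgroup (MulAut R))
    (hRD : closure {x : R | ∃ g : R, ∃ a ∈ D, x = g⁻¹ * a g} = ⊤) :
    closure {x : R ⧸ M | ∃ g : R ⧸ M, ∃ a ∈ D.map (quotAutHom M hc), x = g⁻¹ * a g} = ⊤ := by
  have h1 : (⊤ : Subgroup (R ⧸ M)) = (⊤ : Subgroup R).map (QuotientGroup.mk' M) := by
    rw [Subgroup.map_top_of_surjective _ (QuotientGroup.mk'_surjective M)]
  rw [eq_top_iff, h1, ← hRD, MonoidHom.map_closure, Subgroup.closure_le]
  rintro _ ⟨x, ⟨g, a, ha, rfl⟩, rfl⟩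
  apply Subgroup.subset_closure
  refine ⟨(g : R ⧸ M), quotAutHom M hc a, ⟨a, ha, rfl⟩, ?_⟩
  rfl

variable [Finite R] {p : ℕ} [hp : Fact p.Prime]

/-- **Metacyclic groups**: `[T, D] = T` implies `T` is abelian, for coprime `D`. -/
theorem comm_of_metacyclic (hp2 : p ≠ 2) (hR : IsPGroup p R) (hm : IsMetacyclic R)
    (D : Subgroup (MulAut R)) (hD : (Nat.card D).Coprime p)
    (hRD : closure {x : R | ∃ g : R, ∃ a ∈ D, x = g⁻¹ * a g} = ⊤) : ∀ x y : R, x * y = y * x := by
  classical
  have hpp := hp.out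
  by_contra hna
  push Not at hna
  obtain ⟨x₀, y₀, h0⟩ := hna
  obtain ⟨N, hN, hNc, hQc⟩ := id hm
  have hcN : commutator R ≤ N := by
    rw [_root_.commutator_def, Subgroup.commutator_le]
    intro x _ y _
    have h1 := commutative_of_cyclic_center_quotient (G := R ⧸ N) (G' := R ⧸ N) (MonoidHom.id _)
      (by
        intro z hz
        have : z = 1 := hz
        rw [this]
        exact one_mem _) (x : R ⧸ N) y
    rw [← QuotientGroup.eq_one_iff, commutatorElement_def]
    simp only [QuotientGroup.mk_mul, QuotientGroup.mk_inv]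
    rw [h1]
    group
  have hcc : IsCyclic (commutator R) := by
    have h1 : IsCyclic ((commutator R).subgroupOf N) := inferInstance
    exact isCyclic_of_surjective (Subgroup.subgroupOfEquivOfLe hcN).toMonoidHom
      (Subgroup.subgroupOfEquivOfLe hcN).surjective
  obtain ⟨g₀, hg₀⟩ := hcc.exists_generator
  set g : R := g₀.1 with hg
  have hgen : ∀ x ∈ commutator R, x ∈ zpowers g := by
    intro x hx
    obtain ⟨k, hk⟩ := hg₀ ⟨x, hx⟩
    exact ⟨k, congrArg Subtype.val hk⟩
  have hgc : g ∈ commutator R := g₀.2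
  have hg1 : g ≠ 1 := by
    intro h
    apply h0
    have h1 : ⁅x₀, y₀⁆ ∈ zpowers g :=
      hgen _ (Subgroup.commutator_mem_commutator (mem_top _) (mem_top _))
    rw [h] at h1
    have h2 : ⁅x₀, y₀⁆ = 1 := by simpa using h1
    exact commutatorElement_eq_one_iff_mul_comm.mp h2
  let M := zpowers (g ^ p)
  have hMc : M.Characteristic := by
    rw [Subgroup.characteristic_iff_le_comap]
    intro ϕ
    have h1 : ϕ.toMonoidHom g ∈ commutator R := by
      have h2 : commutator R ≤ (commutator R).comap ϕ.toMonoidHom :=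
        (Subgroup.characteristic_iff_le_comap.mp inferInstance) ϕ
      exact h2 hgc
    obtain ⟨s, hs⟩ := exists_nat_of_mem_zpowers (hgen _ h1)
    rw [Subgroup.zpowers_le]
    show ϕ.toMonoidHom (g ^ p) ∈ M
    rw [map_pow, ← hs, ← pow_mul, mul_comm, pow_mul]
    exact pow_mem (mem_zpowers _) _
  have hMn : M.Normal := Subgroup.normal_of_characteristic _
  let Q := R ⧸ M
  let mk : R →* Q := QuotientGroup.mk' M
  have hmk : Function.Surjective mk := QuotientGroup.mk'_surjective M
  have hQp : IsPGroup p Q := hR.to_quotient M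
  have hQm : IsMetacyclic Q := Cfsg.Agent.Lib.Huppert2.isMetacyclic_of_surjective mk hmk hm
  set gb : Q := mk g with hgb
  have hgbp : gb ^ p = 1 := by
    rw [hgb, ← map_pow]
    exact (QuotientGroup.eq_one_iff _).mpr (mem_zpowers _)
  have hQcomm : ∀ x y : Q, ⁅x, y⁆ ∈ zpowers gb := by
    intro x y
    obtain ⟨x, rfl⟩ := hmk x
    obtain ⟨y, rfl⟩ := hmk y
    rw [← map_commutatorElement]
    obtain ⟨k, hk⟩ := hgen ⁅x, y⁆ (Subgroup.commutator_mem_commutator (mem_top _) (mem_top _))
    refine ⟨k, ?_⟩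
    rw [← hk, map_zpow]
  have hexp : ∀ x y : Q, ⁅x, y⁆ ^ p = 1 := by
    intro x y
    obtain ⟨k, hk⟩ := exists_nat_of_mem_zpowers (hQcomm x y)
    rw [← hk, ← pow_mul, mul_comm, pow_mul, hgbp, one_pow]
  have hgbc : gb ∈ center Q := by
    by_cases hb : gb = 1
    · rw [hb]
      exact one_mem _
    have hCn : (zpowers gb).Normal := by
      refine ⟨fun n hn x => ?_⟩
      have e : x * n * x⁻¹ = ⁅x, n⁆ * n := by
        rw [commutatorElement_def]
        group
      rw [e]
      exact mul_mem (hQcomm x n) hn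
    have hne : zpowers gb ≠ ⊥ := by
      intro h
      apply hb
      have h1 : gb ∈ zpowers gb := mem_zpowers gb
      rw [h] at h1
      exact h1
    obtain ⟨z, hz, hz1, hzc⟩ := Cfsg.Agent.Lib.PuigBasic.exists_mem_center_of_normal hQp (zpowers gb) hne
    obtain ⟨s, rfl⟩ := exists_nat_of_mem_zpowers hz
    have horder : orderOf gb = p := orderOf_eq_prime hgbp hb
    have hco : s.Coprime (orderOf gb) := by
      rw [horder]
      apply Nat.Coprime.symm
      rw [Nat.Prime.coprime_iff_not_dvd hpp]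
      rintro ⟨t, rfl⟩
      apply hz1
      rw [pow_mul, hgbp, one_pow]
    obtain ⟨m, hm'⟩ := exists_pow_eq_self_of_coprime hco
    rw [← hm']
    exact pow_mem hzc m
  have hcl : ∀ x y : Q, ⁅x, y⁆ ∈ center Q := fun x y => (zpowers_le.mpr hgbc) (hQcomm x y)
  have hpow := mul_pow_prime hp2 hcl hexp
  have hidx : (powHom hpow 1).range.index ≤ p ^ 2 := by
    have hPn : (powHom hpow 1).range.Normal := by
      refine ⟨fun n hn x => ?_⟩
      obtain ⟨v, rfl⟩ := hn
      refine ⟨x * v * x⁻¹, ?_⟩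
      simp only [powHom_apply, pow_one, conj_pow]
    have h1 : IsMetacyclic (Q ⧸ (powHom hpow 1).range) :=
      Cfsg.Agent.Lib.Huppert2.isMetacyclic_of_surjective (QuotientGroup.mk' _)
        (QuotientGroup.mk'_surjective _) hQm
    refine Cfsg.Agent.Lib.Huppert2.card_le_of_metacyclic h1 (fun x => ?_)
    obtain ⟨x, rfl⟩ := QuotientGroup.mk_surjective x
    rw [← QuotientGroup.mk_pow, QuotientGroup.eq_one_iff]
    exact ⟨x, by simp⟩
  have hDQ : (Nat.card (D.map (quotAutHom M hMc))).Coprime p :=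
    Nat.Coprime.coprime_dvd_left (Subgroup.card_map_dvd _ _) hD
  have hab := comm_of_det hQp (D.map (quotAutHom M hMc)) hDQ (closure_quot M hMc D hRD) hcl hexp hpow hidx
  have hcM : commutator R ≤ M := by
    rw [_root_.commutator_def, Subgroup.commutator_le]
    intro x _ y _
    have h1 := hab (mk x) (mk y)
    rw [← commutatorElement_eq_one_iff_mul_comm, ← map_commutatorElement] at h1
    exact (QuotientGroup.eq_one_iff _).mp h1
  have hgM : g ∈ M := hcM hgc
  obtain ⟨i, hi⟩ := exists_nat_of_mem_zpowers hgM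
  have h1 : g ^ (p * i) = g ^ 1 := by
    rw [pow_mul, hi, pow_one]
  rw [pow_eq_pow_iff_modEq] at h1
  obtain ⟨k, hk⟩ := IsPGroup.iff_orderOf.mp hR g
  have hk0 : k ≠ 0 := by
    rintro rfl
    rw [pow_zero, orderOf_eq_one_iff] at hk
    exact hg1 hk
  have h2 : p ∣ orderOf g := by
    rw [hk]
    exact dvd_pow_self p hk0
  have h3 := h1.of_dvd h2
  have h4 : (p * i) % p = 0 := Nat.mul_mod_right p i
  have h5 : 1 % p = 1 := Nat.mod_eq_of_lt hpp.one_lt
  have h6 : (p * i) % p = 1 % p := h3
  omega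

end Cfsg.Agent.Lib.MetaAct
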