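import Mathlib
import Cfsg.Agent.Lib.SL2Core

/-!
# Involutions and elements of order four in `SL₂(q)`, `q` odd, transported along an isomorphism.
-/

set_option autoImplicit false

namespace Cfsg.Agent.Lib.SL2Inv

open Cfsg.Agent.Lib.SL2Core
open Matrix

section Matrix

variable {F : Type*} [Field F]

theorem negS_one_ne_one (h2 : (2 : F) ≠ 0) : (negS (1 : SL2 F)) ≠ 1 := by
  intro h
  have h1 := congrFun (congrFun (congrArg (fun A : SL2 F => (A : Matrix (Fin 2) (Fin 2) F)) h) 0) 0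
  simp at h1
  apply h2
  have h3 : (-1 : F) = 1 := h1
  linear_combination -h3

theorem mul_self_eq_one (h2 : (2 : F) ≠ 0) (x : SL2 F) (hx : x * x = 1) : x = 1 ∨ x = negS 1 := by
  apply center_eq
  have hc := cayley x
  have h1 : (x : Matrix (Fin 2) (Fin 2) F) * (x : Matrix (Fin 2) (Fin 2) F) = 1 := by
    have := congrArg (fun A : SL2 F => (A : Matrix (Fin 2) (Fin 2) F)) hx
    simpa using this
  rw [h1] at hc
  have h00 := congrFun (congrFun hc 0) 0
  have h01 := congrFun (congrFun hc 0) 1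
  have h10 := congrFun (congrFun hc 1) 0
  have h11 := congrFun (congrFun hc 1) 1
  simp only [Matrix.sub_apply, Matrix.smul_apply, smul_eq_mul, one_apply_eq, one_apply_ne (show (0 : Fin 2) ≠ 1 by decide),
    one_apply_ne (show (1 : Fin 2) ≠ 0 by decide)] at h00 h01 h10 h11
  have ht : tr x ≠ 0 := by
    intro h0
    rw [h0] at h00
    apply h2
    linear_combination h00
  rw [mem_center_iff']
  refine ⟨?_, ?_, ?_⟩
  · have : tr x * (x : Matrix (Fin 2) (Fin 2) F) 0 1 = 0 := by linear_combination -h01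
    exact (mul_eq_zero.mp this).resolve_left ht
  · have : tr x * (x : Matrix (Fin 2) (Fin 2) F) 1 0 = 0 := by linear_combination -h10
    exact (mul_eq_zero.mp this).resolve_left ht
  · apply mul_left_cancel₀ ht
    linear_combination h11 - h00

theorem tr_of_sq (A : SL2 F) (hA : A * A = negS 1) : tr A = 0 := by
  have hc := cayley A
  have h1 : (A : Matrix (Fin 2) (Fin 2) F) * (A : Matrix (Fin 2) (Fin 2) F) = -1 := by
    have := congrArg (fun A : SL2 F => (A : Matrix (Fin 2) (Fin 2) F)) hA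
    simpa using this
  rw [h1] at hc
  have h00 := congrFun (congrFun hc 0) 0
  have h01 := congrFun (congrFun hc 0) 1
  have h10 := congrFun (congrFun hc 1) 0
  have h11 := congrFun (congrFun hc 1) 1
  simp only [Matrix.sub_apply, Matrix.smul_apply, smul_eq_mul, one_apply_eq, one_apply_ne (show (0 : Fin 2) ≠ 1 by decide),
    one_apply_ne (show (1 : Fin 2) ≠ 0 by decide), Matrix.neg_apply] at h00 h01 h10 h11
  by_contra ht
  have a00 : (A : Matrix (Fin 2) (Fin 2) F) 0 0 = 0 := by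
    have : tr A * (A : Matrix (Fin 2) (Fin 2) F) 0 0 = 0 := by linear_combination -h00
    exact (mul_eq_zero.mp this).resolve_left ht
  have a01 : (A : Matrix (Fin 2) (Fin 2) F) 0 1 = 0 := by
    have : tr A * (A : Matrix (Fin 2) (Fin 2) F) 0 1 = 0 := by linear_combination -h01
    exact (mul_eq_zero.mp this).resolve_left ht
  have hd := det_entries A
  rw [a00, a01] at hd
  simp at hd

theorem not_center_of_sq (h2 : (2 : F) ≠ 0) (A : SL2 F) (hA : A * A = negS 1) :
    A ∉ Subgroup.center (SL2 F) := by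
  intro hc
  apply negS_one_ne_one h2
  rw [← hA]
  rcases center_eq A hc with h | h
  · rw [h, one_mul]
  · rw [h]
    apply Subtype.ext
    ext i j
    fin_cases i <;> fin_cases j <;> simp [Matrix.one_apply]

theorem conj_of_sq [Fintype F] (h2 : (2 : F) ≠ 0) (A B : SL2 F) (hA : A * A = negS 1)
    (hB : B * B = negS 1) : ∃ U : SL2 F, U * A * U⁻¹ = B := by
  apply exists_conj A B (not_center_of_sq h2 A hA) (not_center_of_sq h2 B hB)
  · rw [tr_of_sq A hA, tr_of_sq B hB]
  · rw [tr_of_sq A hA]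
    intro h
    apply h2
    have h3 : (2 : F) * 2 = 0 := by linear_combination -h
    exact (mul_self_eq_zero.mp h3)

/-- The standard element with square `-1`. -/
def w₀ : SL2 F := mk2 0 1 (-1) 0 (by ring)

/-- A second element with square `-1`. -/
def w₁ : SL2 F := mk2 1 1 (-2) (-1) (by ring)

theorem w₀_coe : ((w₀ : SL2 F) : Matrix (Fin 2) (Fin 2) F) = !![0, 1; -1, 0] := rfl

theorem w₁_coe : ((w₁ : SL2 F) : Matrix (Fin 2) (Fin 2) F) = !![1, 1; -2, -1] := rfl

theorem negS_one_coe : ((negS 1 : SL2 F) : Matrix (Fin 2) (Fin 2) F) = !![-1, 0; 0, -1] := by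
  rw [negS_coe]
  ext i j
  fin_cases i <;> fin_cases j <;> simp

theorem w₀_sq : (w₀ : SL2 F) * w₀ = negS 1 := by
  have key : ((w₀ : SL2 F) : Matrix (Fin 2) (Fin 2) F) * ((w₀ : SL2 F) : Matrix (Fin 2) (Fin 2) F) =
      ((negS 1 : SL2 F) : Matrix (Fin 2) (Fin 2) F) := by
    rw [w₀_coe, negS_one_coe, Matrix.mul_fin_two]
    ext i j
    fin_cases i <;> fin_cases j <;> simp
  exact Subtype.ext key

theorem w₁_sq : (w₁ : SL2 F) * w₁ = negS 1 := by
  have key : ((w₁ : SL2 F) : Matrix (Fin 2) (Fin 2) F) * ((w₁ : SL2 F) : Matrix (Fin 2) (Fin 2) F) =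
      ((negS 1 : SL2 F) : Matrix (Fin 2) (Fin 2) F) := by
    rw [w₁_coe, negS_one_coe, Matrix.mul_fin_two]
    ext i j
    fin_cases i <;> fin_cases j <;> simp <;> ring
  exact Subtype.ext key

theorem w_not_comm (h2 : (2 : F) ≠ 0) : (w₀ : SL2 F) * w₁ ≠ w₁ * w₀ := by
  intro h
  have h1 : ((w₀ : SL2 F) : Matrix (Fin 2) (Fin 2) F) * ((w₁ : SL2 F) : Matrix (Fin 2) (Fin 2) F) =
      ((w₁ : SL2 F) : Matrix (Fin 2) (Fin 2) F) * ((w₀ : SL2 F) : Matrix (Fin 2) (Fin 2) F) :=
    congrArg Subtype.val h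
  rw [w₀_coe, w₁_coe, Matrix.mul_fin_two, Matrix.mul_fin_two] at h1
  have h3 := congrFun (congrFun h1 0) 1
  simp at h3
  apply h2
  linear_combination -h3

theorem central_of_comm (x : SL2 F) (h0 : x * w₀ = w₀ * x) (h1 : x * w₁ = w₁ * x) :
    x = 1 ∨ x = negS 1 := by
  apply center_eq
  have e0 : (x : Matrix (Fin 2) (Fin 2) F) * ((w₀ : SL2 F) : Matrix (Fin 2) (Fin 2) F) =
      ((w₀ : SL2 F) : Matrix (Fin 2) (Fin 2) F) * (x : Matrix (Fin 2) (Fin 2) F) := congrArg Subtype.val h0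
  have e1 : (x : Matrix (Fin 2) (Fin 2) F) * ((w₁ : SL2 F) : Matrix (Fin 2) (Fin 2) F) =
      ((w₁ : SL2 F) : Matrix (Fin 2) (Fin 2) F) * (x : Matrix (Fin 2) (Fin 2) F) := congrArg Subtype.val h1
  rw [w₀_coe, Matrix.eta_fin_two (x : Matrix (Fin 2) (Fin 2) F), Matrix.mul_fin_two, Matrix.mul_fin_two] at e0
  rw [w₁_coe, Matrix.eta_fin_two (x : Matrix (Fin 2) (Fin 2) F), Matrix.mul_fin_two, Matrix.mul_fin_two] at e1
  have e000 := congrFun (congrFun e0 0) 0
  have e001 := congrFun (congrFun e0 0) 1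
  have e100 := congrFun (congrFun e1 0) 0
  simp at e000 e001 e100
  rw [mem_center_iff']
  have hb : (x : Matrix (Fin 2) (Fin 2) F) 0 1 = 0 := by linear_combination e000 - e100
  refine ⟨hb, ?_, e001⟩
  rw [← e000, hb, neg_zero]

theorem two_ne_zero_of_odd [Fintype F] (hF : Odd (Fintype.card F)) : (2 : F) ≠ 0 := by
  intro h
  have h1 : ringChar F = 2 := by
    have h3 : ((2 : ℕ) : F) = 0 := by exact_mod_cast h
    have h4 := (ringChar.spec F 2).mp h3
    have hp : (ringChar F).Prime := by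
      obtain ⟨n, hn⟩ := FiniteField.card' (K := F)
      have : CharP F (ringChar F) := ringChar.charP F
      exact (CharP.char_is_prime_or_zero F (ringChar F)).resolve_right (CharP.ringChar_ne_zero_of_finite F)
    exact (Nat.prime_dvd_prime_iff_eq hp Nat.prime_two).mp h4
  have h2 := FiniteField.even_card_of_char_two h1
  rcases hF with ⟨m, hm⟩
  omega

end Matrix

section Group

variable {G : Type*} [Group G] {F : Type*} [Field F] [Fintype F]

/-- The element of `SL₂` transported to `L`, with all properties we need. -/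
structure Data (L : Subgroup G) (j : G) : Prop where
  j_mem : j ∈ L
  sq_one : ∀ a ∈ L, a * a = 1 → a = 1 ∨ a = j
  exists_sq : ∃ a₀ ∈ L, a₀ * a₀ = j
  conj : ∀ a ∈ L, ∀ a' ∈ L, a * a = j → a' * a' = j → ∃ g ∈ L, g * a * g⁻¹ = a'
  cent : ∀ x ∈ L, (∀ a ∈ L, a * a = j → x * a = a * x) → x = 1 ∨ x = j
  not_comm : ∃ a ∈ L, ∃ b ∈ L, a * a = j ∧ b * b = j ∧ a * b ≠ b * a

theorem data (hF : Odd (Fintype.card F)) (L : Subgroup G)
    (e : ↥L ≃* Matrix.SpecialLinearGroup (Fin 2) F) (j : G) (hj : orderOf j = 2) (hjL : j ∈ L) :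
    Data L j := by
  have h2 : (2 : F) ≠ 0 := two_ne_zero_of_odd hF
  have hj2 : j * j = 1 := by
    have := pow_orderOf_eq_one j
    rwa [hj, pow_two] at this
  have hj1 : j ≠ 1 := by
    intro h
    rw [h, orderOf_one] at hj
    omega
  have hej : e ⟨j, hjL⟩ = negS 1 := by
    have h3 : e ⟨j, hjL⟩ * e ⟨j, hjL⟩ = 1 := by
      rw [← map_mul]
      have : (⟨j, hjL⟩ * ⟨j, hjL⟩ : ↥L) = 1 := Subtype.ext hj2
      rw [this, map_one]
    rcases mul_self_eq_one h2 _ h3 with h4 | h4
    · exfalso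
      apply hj1
      have h5 := e.injective (h4.trans (map_one e).symm)
      exact congrArg Subtype.val h5
    · exact h4
  have hlift : ∀ a ∈ L, a * a = j → ∀ ha : a ∈ L, e ⟨a, ha⟩ * e ⟨a, ha⟩ = negS 1 := by
    intro a _ h3 ha
    rw [← map_mul, ← hej]
    congr 1
    exact Subtype.ext h3
  have hdown : ∀ A : Matrix.SpecialLinearGroup (Fin 2) F, A * A = negS 1 →
      (e.symm A : G) * (e.symm A : G) = j := by
    intro A hA
    have h3 : e.symm A * e.symm A = ⟨j, hjL⟩ := by
      rw [← map_mul, hA, ← hej, e.symm_apply_apply]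
    exact congrArg Subtype.val h3
  refine ⟨hjL, ?_, ?_, ?_, ?_, ?_⟩
  · intro a ha ha2
    have h3 : e ⟨a, ha⟩ * e ⟨a, ha⟩ = 1 := by
      rw [← map_mul]
      have : (⟨a, ha⟩ * ⟨a, ha⟩ : ↥L) = 1 := Subtype.ext ha2
      rw [this, map_one]
    rcases mul_self_eq_one h2 _ h3 with h4 | h4
    · left
      have h5 := e.injective (h4.trans (map_one e).symm)
      exact congrArg Subtype.val h5
    · right
      have h5 := e.injective (h4.trans hej.symm)
      exact congrArg Subtype.val h5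
  · exact ⟨e.symm w₀, (e.symm w₀).2, hdown _ w₀_sq⟩
  · intro a ha a' ha' h3 h4
    obtain ⟨U, hU⟩ := conj_of_sq h2 _ _ (hlift a ha h3 ha) (hlift a' ha' h4 ha')
    refine ⟨e.symm U, (e.symm U).2, ?_⟩
    have h5 : e.symm U * ⟨a, ha⟩ * (e.symm U)⁻¹ = ⟨a', ha'⟩ := by
      apply e.injective
      rw [map_mul, map_mul, map_inv, e.apply_symm_apply]
      exact hU
    exact congrArg Subtype.val h5
  · intro x hx hc
    have hcm : ∀ A : Matrix.SpecialLinearGroup (Fin 2) F, A * A = negS 1 → e ⟨x, hx⟩ * A = A * e ⟨x, hx⟩ := by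
      intro A hA
      have h3 := hc (e.symm A) (e.symm A).2 (hdown A hA)
      have h4 : (⟨x, hx⟩ : ↥L) * e.symm A = e.symm A * ⟨x, hx⟩ := Subtype.ext h3
      have h5 := congrArg e h4
      rwa [map_mul, map_mul, e.apply_symm_apply] at h5
    rcases central_of_comm _ (hcm _ w₀_sq) (hcm _ w₁_sq) with h4 | h4
    · left
      have h5 := e.injective (h4.trans (map_one e).symm)
      exact congrArg Subtype.val h5
    · right
      have h5 := e.injective (h4.trans hej.symm)
      exact congrArg Subtype.val h5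
  · refine ⟨e.symm w₀, (e.symm w₀).2, e.symm w₁, (e.symm w₁).2, hdown _ w₀_sq, hdown _ w₁_sq, ?_⟩
    intro h
    apply w_not_comm h2
    have h4 : e.symm w₀ * e.symm w₁ = e.symm w₁ * e.symm w₀ := Subtype.ext h
    have h5 := congrArg e h4
    rwa [map_mul, map_mul, e.apply_symm_apply, e.apply_symm_apply] at h5

end Group

end Cfsg.Agent.Lib.SL2Inv
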