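import Mathlib
import Cfsg.Agent.Lib.SL2Inv
import Cfsg.Agent.Lib.SubCount
import Cfsg.Agent.Lib.HermLines
import Cfsg.Agent.Lib.ClassicalSmall

set_option autoImplicit false
set_option linter.unusedSectionVars false
set_option linter.unusedSimpArgs false
set_option linter.unusedVariables false

/-!
# Elements of order four and subgroups of order four of `SL₂(q)`, `q` odd
-/

namespace Cfsg.Agent.Lib.SL2Four

open Cfsg.Agent.Lib.SL2Core Cfsg.Agent.Lib.SL2Inv Cfsg.Agent.Lib.SubCount Matrix

variable {F : Type*} [Field F]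

theorem negS_mul (a b : SL2 F) : negS a * b = negS (a * b) := by
  apply Subtype.ext
  show (-(a : Matrix (Fin 2) (Fin 2) F)) * (b : Matrix (Fin 2) (Fin 2) F) = - (((a : Matrix (Fin 2) (Fin 2) F)) * (b : Matrix (Fin 2) (Fin 2) F))
  simp

theorem mul_negS (a b : SL2 F) : a * negS b = negS (a * b) := by
  apply Subtype.ext
  show ((a : Matrix (Fin 2) (Fin 2) F)) * (-(b : Matrix (Fin 2) (Fin 2) F)) = - (((a : Matrix (Fin 2) (Fin 2) F)) * (b : Matrix (Fin 2) (Fin 2) F))
  simp

theorem negS_negS (a : SL2 F) : negS (negS a) = a := by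
  apply Subtype.ext
  show - (-(a : Matrix (Fin 2) (Fin 2) F)) = a
  simp

theorem conj_negS (u a : SL2 F) : u * negS a * u⁻¹ = negS (u * a * u⁻¹) := by
  rw [mul_negS, negS_mul]

theorem conj_negS_one (u : SL2 F) : u * negS 1 * u⁻¹ = negS 1 := by
  rw [conj_negS]
  simp

theorem sq_conj {g : SL2 F} (hg : g * g = negS 1) (u : SL2 F) : (u * g * u⁻¹) * (u * g * u⁻¹) = negS 1 := by
  have : (u * g * u⁻¹) * (u * g * u⁻¹) = u * (g * g) * u⁻¹ := by group
  rw [this, hg, conj_negS_one]

theorem sq_negS {g : SL2 F} (hg : g * g = negS 1) : negS g * negS g = negS 1 := by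
  rw [negS_mul, mul_negS, negS_negS, hg]

variable [Fintype F]

/-- The fibres of the conjugation map all have the size of the centralizer. -/
theorem card_fiber (h2 : (2 : F) ≠ 0) {g x : SL2 F} (hg : g * g = negS 1) (hx : x * x = negS 1) :
    Nat.card {u : SL2 F // u * g * u⁻¹ = x} = Nat.card {u : SL2 F // u * g * u⁻¹ = g} := by
  obtain ⟨u₀, hu₀⟩ := conj_of_sq h2 g x hg hx
  symm
  apply Nat.card_congr
  refine ⟨fun c => ⟨u₀ * c.1, ?_⟩, fun c => ⟨u₀⁻¹ * c.1, ?_⟩, ?_, ?_⟩
  · have : u₀ * c.1 * g * (u₀ * c.1)⁻¹ = u₀ * (c.1 * g * c.1⁻¹) * u₀⁻¹ := by group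
    rw [this, c.2, hu₀]
  · have : u₀⁻¹ * c.1 * g * (u₀⁻¹ * c.1)⁻¹ = u₀⁻¹ * (c.1 * g * c.1⁻¹) * u₀ := by group
    rw [this, c.2, ← hu₀]
    group
  · intro c
    apply Subtype.ext
    simp
  · intro c
    apply Subtype.ext
    simp

/-- `|SL₂| = |X| |C(g)|`. -/
theorem card_eq_mul (h2 : (2 : F) ≠ 0) {g : SL2 F} (hg : g * g = negS 1) :
    Nat.card (SL2 F) = Nat.card {x : SL2 F // x * x = negS 1} * Nat.card {u : SL2 F // u * g * u⁻¹ = g} := by
  have hdc := double_count (α := SL2 F) (β := {x : SL2 F // x * x = negS 1})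
    (fun u x => u * g * u⁻¹ = x.1) 1 (Nat.card {u : SL2 F // u * g * u⁻¹ = g}) ?_ ?_
  · rw [mul_one] at hdc
    exact hdc
  · intro u
    rw [Nat.card_eq_one_iff_unique]
    refine ⟨⟨?_⟩, ⟨⟨⟨u * g * u⁻¹, sq_conj hg u⟩, rfl⟩⟩⟩
    rintro ⟨⟨c, hc⟩, hc'⟩ ⟨⟨d, hd⟩, hd'⟩
    apply Subtype.ext
    apply Subtype.ext
    exact hc'.symm.trans hd'
  · rintro ⟨x, hx⟩
    exact card_fiber h2 hg hx

/-- Elements with square `-1` are those of trace `0`; parametrization by three entries. -/
def equivX : {x : SL2 F // x * x = negS 1} ≃ {p : F × F × F // p.1 * p.1 + p.2.1 * p.2.2 = -1} where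
  toFun x := ⟨((x.1 : Matrix (Fin 2) (Fin 2) F) 0 0, (x.1 : Matrix (Fin 2) (Fin 2) F) 0 1, (x.1 : Matrix (Fin 2) (Fin 2) F) 1 0), by
    have h1 := tr_of_sq x.1 x.2
    rw [tr_eq] at h1
    have h3 := det_entries x.1
    simp only
    have h4 : (x.1 : Matrix (Fin 2) (Fin 2) F) 1 1 = - (x.1 : Matrix (Fin 2) (Fin 2) F) 0 0 := by linear_combination h1
    rw [h4] at h3
    linear_combination -h3⟩
  invFun p := ⟨mk2 p.1.1 p.1.2.1 p.1.2.2 (-p.1.1) (by linear_combination -p.2), by
    apply Subtype.ext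
    have hc := cayley (mk2 p.1.1 p.1.2.1 p.1.2.2 (-p.1.1) (by linear_combination -p.2))
    have ht : tr (mk2 p.1.1 p.1.2.1 p.1.2.2 (-p.1.1) (by linear_combination -p.2)) = 0 := by
      rw [tr_eq, mk00, mk11]
      ring
    rw [ht] at hc
    show ((mk2 p.1.1 p.1.2.1 p.1.2.2 (-p.1.1) (by linear_combination -p.2)) : Matrix (Fin 2) (Fin 2) F) * ((mk2 p.1.1 p.1.2.1 p.1.2.2 (-p.1.1) (by linear_combination -p.2)) : Matrix (Fin 2) (Fin 2) F) = - ((1 : SL2 F) : Matrix (Fin 2) (Fin 2) F)
    rw [hc]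
    simp⟩
  left_inv x := by
    apply Subtype.ext
    apply Subtype.ext
    have h1 := tr_of_sq x.1 x.2
    rw [tr_eq] at h1
    have h4 : - (x.1 : Matrix (Fin 2) (Fin 2) F) 0 0 = (x.1 : Matrix (Fin 2) (Fin 2) F) 1 1 := by linear_combination -h1
    ext i j
    fin_cases i <;> fin_cases j
    · rfl
    · rfl
    · rfl
    · exact h4
  right_inv p := by
    apply Subtype.ext
    rfl

variable {q : ℕ}

/-- Counting the conic `a² + bc = -1`. -/
theorem card_conic (hF : Fintype.card F = q) :
    Nat.card {p : F × F × F // p.1 * p.1 + p.2.1 * p.2.2 = -1} =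
      q * (q - 1) + Nat.card {a : F // a * a = -1} * q := by
  classical
  rw [Cfsg.Agent.Lib.HermLines.card_split (fun p : F × F × F => p.1 * p.1 + p.2.1 * p.2.2 = -1) (fun p => p.2.1 ≠ 0)]
  congr 1
  · have e : {p : F × F × F // p.1 * p.1 + p.2.1 * p.2.2 = -1 ∧ p.2.1 ≠ 0} ≃ F × {b : F // b ≠ 0} :=
      { toFun := fun p => (p.1.1, ⟨p.1.2.1, p.2.2⟩)
        invFun := fun s => ⟨(s.1, s.2.1, (-1 - s.1 * s.1) / s.2.1), by
          have := s.2.2
          simp only
          field_simp
          ring, s.2.2⟩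
        left_inv := by
          rintro ⟨⟨a, b, c⟩, h, hb⟩
          apply Subtype.ext
          simp only at h hb
          simp only [Prod.mk.injEq, true_and]
          field_simp
          linear_combination -h
        right_inv := by
          rintro ⟨a, b, hb⟩
          rfl }
    rw [Nat.card_congr e, Nat.card_prod, Nat.card_eq_fintype_card, hF, Nat.card_eq_fintype_card, Fintype.card_subtype_compl]
    simp [hF]
  · have e : {p : F × F × F // p.1 * p.1 + p.2.1 * p.2.2 = -1 ∧ ¬ p.2.1 ≠ 0} ≃ {a : F // a * a = -1} × F :=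
      { toFun := fun p => (⟨p.1.1, by
            have h1 := p.2.1
            have h3 : p.1.2.1 = 0 := by simpa using p.2.2
            rw [h3, zero_mul, add_zero] at h1
            exact h1⟩, p.1.2.2)
        invFun := fun s => ⟨(s.1.1, 0, s.2), by simpa using s.1.2, by simp⟩
        left_inv := by
          rintro ⟨⟨a, b, c⟩, h, hb⟩
          apply Subtype.ext
          simp only [not_not] at hb
          simp [hb]
        right_inv := by
          rintro ⟨⟨a, ha⟩, c⟩
          rfl }
    rw [Nat.card_congr e, Nat.card_prod, Nat.card_eq_fintype_card (α := F), hF]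

/-- The number of square roots of `-1`. -/
theorem card_sqrt_neg_one_of_one (h2 : (2 : F) ≠ 0) (hF : Fintype.card F = q) (hq : q % 4 = 1) :
    Nat.card {a : F // a * a = -1} = 2 := by
  classical
  have h1 : IsSquare (-1 : F) := by
    rw [FiniteField.isSquare_neg_one_iff, hF]
    omega
  obtain ⟨a, ha⟩ := h1
  have ha0 : a ≠ 0 := by
    rintro rfl
    simp at ha
  have hne : a ≠ -a := by
    intro h
    apply ha0
    have : 2 * a = 0 := by linear_combination h
    exact (mul_eq_zero.mp this).resolve_left h2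
  rw [Nat.subtype_card ({a, -a} : Finset F) ?_]
  · exact Finset.card_pair hne
  · intro x
    simp only [Finset.mem_insert, Finset.mem_singleton]
    constructor
    · rintro (rfl | rfl)
      · exact ha.symm
      · linear_combination -ha
    · intro hx
      have : (x - a) * (x + a) = 0 := by linear_combination hx + ha
      rcases mul_eq_zero.mp this with h | h
      · exact Or.inl (sub_eq_zero.mp h)
      · exact Or.inr (eq_neg_of_add_eq_zero_left h)

theorem card_sqrt_neg_one_of_three (hF : Fintype.card F = q) (hq : q % 4 = 3) :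
    Nat.card {a : F // a * a = -1} = 0 := by
  have h1 : ¬ IsSquare (-1 : F) := by
    rw [FiniteField.isSquare_neg_one_iff, hF]
    omega
  have : IsEmpty {a : F // a * a = -1} := ⟨fun a => h1 ⟨a.1, a.2.symm⟩⟩
  exact Nat.card_of_isEmpty

/-- The order of the centralizer. -/
theorem card_centralizer_of_one (h2 : (2 : F) ≠ 0) (hF : Fintype.card F = q) (hq : q % 4 = 1)
    {g : SL2 F} (hg : g * g = negS 1) : Nat.card {u : SL2 F // u * g * u⁻¹ = g} = q - 1 := by
  have h1 := card_eq_mul h2 hg
  rw [Nat.card_congr equivX, card_conic hF, card_sqrt_neg_one_of_one h2 hF hq, Cfsg.Agent.Lib.ClassicalSmall.card_SL2, hF] at h1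
  have hq2 : 2 ≤ q := by
    rw [← hF]
    exact Fintype.one_lt_card
  obtain ⟨r, rfl⟩ : ∃ r, q = r + 2 := ⟨q - 2, by omega⟩
  simp only [Nat.add_sub_cancel, show r + 2 - 1 = r + 1 by omega] at h1 ⊢
  apply Nat.eq_of_mul_eq_mul_left (show 0 < (r + 2) * (r + 3) by positivity)
  linarith

theorem card_centralizer_of_three (h2 : (2 : F) ≠ 0) (hF : Fintype.card F = q) (hq : q % 4 = 3)
    {g : SL2 F} (hg : g * g = negS 1) : Nat.card {u : SL2 F // u * g * u⁻¹ = g} = q + 1 := by
  have h1 := card_eq_mul h2 hg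
  rw [Nat.card_congr equivX, card_conic hF, card_sqrt_neg_one_of_three hF hq, Cfsg.Agent.Lib.ClassicalSmall.card_SL2, hF] at h1
  have hq2 : 2 ≤ q := by
    rw [← hF]
    exact Fintype.one_lt_card
  obtain ⟨r, rfl⟩ : ∃ r, q = r + 2 := ⟨q - 2, by omega⟩
  simp only [Nat.add_sub_cancel, show r + 2 - 1 = r + 1 by omega] at h1 ⊢
  apply Nat.eq_of_mul_eq_mul_left (show 0 < (r + 2) * (r + 1) by positivity)
  linarith

/-- A subgroup of order four is generated by an element of square `-1`. -/
theorem exists_gen (h2 : (2 : F) ≠ 0) (A : Subgroup (SL2 F)) (hA : Nat.card A = 4) :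
    ∃ g : SL2 F, g * g = negS 1 ∧ ∀ x, x ∈ A ↔ x = 1 ∨ x = g ∨ x = negS 1 ∨ x = negS g := by
  classical
  have hne := negS_one_ne_one h2
  obtain ⟨g, hgA, hg1, hg2⟩ : ∃ g ∈ A, g ≠ 1 ∧ g ≠ negS 1 := by
    by_contra hcon
    push Not at hcon
    have h1 : (A : Set (SL2 F)) ⊆ (({1, negS 1} : Finset (SL2 F)) : Set (SL2 F)) := by
      intro x hx
      simp only [Finset.coe_insert, Finset.coe_singleton, Set.mem_insert_iff, Set.mem_singleton_iff]
      by_cases hx1 : x = 1
      · exact Or.inl hx1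
      · exact Or.inr (hcon x hx hx1)
    have h3 := Set.ncard_le_ncard h1 (Finset.finite_toSet _)
    rw [Set.ncard_coe_finset, Finset.card_pair hne.symm] at h3
    rw [← Nat.card_coe_set_eq] at h3
    have : Nat.card (A : Set (SL2 F)) = Nat.card A := rfl
    omega
  have hpow : g ^ 4 = 1 := by
    have := pow_card_eq_one' (x := (⟨g, hgA⟩ : A))
    rw [hA] at this
    simpa using congrArg Subtype.val this
  have hgg : g * g = negS 1 := by
    have h1 : (g * g) * (g * g) = 1 := by
      rw [← hpow]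
      simp only [pow_succ, pow_zero, one_mul, mul_assoc]
    rcases mul_self_eq_one h2 (g * g) h1 with h3 | h3
    · rcases mul_self_eq_one h2 g h3 with h4 | h4
      · exact absurd h4 hg1
      · exact absurd h4 hg2
    · exact h3
  have hnegA : negS 1 ∈ A := by
    rw [← hgg]
    exact mul_mem hgA hgA
  have hnegg : negS g ∈ A := by
    have : negS g = g * negS 1 := by
      rw [mul_negS, mul_one]
    rw [this]
    exact mul_mem hgA hnegA
  have hd1 : negS g ≠ 1 := by
    intro h
    apply hg2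
    rw [← negS_negS g, h]
  have hd2 : negS g ≠ negS 1 := by
    intro h
    apply hg1
    rw [← negS_negS g, h, negS_negS]
  have hd3 : negS g ≠ g := by
    intro h
    have h1 := congrArg (fun x => x * g) h
    simp only [negS_mul, hgg, negS_negS] at h1
    exact hne h1.symm
  refine ⟨g, hgg, ?_⟩
  have hset : ((({1, g, negS 1, negS g} : Finset (SL2 F)) : Set (SL2 F))) = (A : Set (SL2 F)) := by
    apply Set.eq_of_subset_of_ncard_le
    · intro x hx
      simp only [Finset.coe_insert, Finset.coe_singleton, Set.mem_insert_iff, Set.mem_singleton_iff] at hx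
      rcases hx with rfl | rfl | rfl | rfl
      · exact one_mem A
      · exact hgA
      · exact hnegA
      · exact hnegg
    · rw [Set.ncard_coe_finset, ← Nat.card_coe_set_eq]
      have : Nat.card (A : Set (SL2 F)) = Nat.card A := rfl
      rw [this, hA]
      have hcard : ({1, g, negS 1, negS g} : Finset (SL2 F)).card = 4 := by
        rw [Finset.card_insert_of_notMem, Finset.card_insert_of_notMem, Finset.card_insert_of_notMem, Finset.card_singleton]
        · simp [hd2.symm]
        · simp [hg2, hd3.symm]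
        · simp [hg1.symm, hne.symm, hd1.symm]
      rw [hcard]
    · exact Set.toFinite _
  intro x
  have : x ∈ (A : Set (SL2 F)) ↔ x ∈ ((({1, g, negS 1, negS g} : Finset (SL2 F)) : Set (SL2 F))) := by rw [hset]
  simpa using this

theorem conj_mem_of {g : SL2 F} {A : Subgroup (SL2 F)}
    (hA : ∀ x, x ∈ A ↔ x = 1 ∨ x = g ∨ x = negS 1 ∨ x = negS g) {u y : SL2 F}
    (hu : u * g * u⁻¹ = g ∨ u * g * u⁻¹ = negS g) (hy : y ∈ A) : u * y * u⁻¹ ∈ A := by
  rw [hA] at hy
  rcases hy with rfl | rfl | rfl | rfl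
  · simp [one_mem]
  · rcases hu with h | h
    · rw [h, hA]; simp
    · rw [h, hA]; simp
  · rw [conj_negS_one, hA]; simp
  · rw [conj_negS]
    rcases hu with h | h
    · rw [h, hA]; simp
    · rw [h, negS_negS, hA]; simp

/-- The normalizer of a subgroup of order four is twice the centralizer of a generator. -/
theorem card_normalizer (h2 : (2 : F) ≠ 0) {g : SL2 F} (hg : g * g = negS 1) {A : Subgroup (SL2 F)}
    (hA : ∀ x, x ∈ A ↔ x = 1 ∨ x = g ∨ x = negS 1 ∨ x = negS g) :
    Nat.card ↥(Subgroup.normalizer (A : Set (SL2 F))) = 2 * Nat.card {u : SL2 F // u * g * u⁻¹ = g} := by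
  classical
  have hne := negS_one_ne_one h2
  have hd3 : negS g ≠ g := by
    intro h
    have h1 := congrArg (fun x => x * g) h
    simp only [negS_mul, hg, negS_negS] at h1
    exact hne h1.symm
  have hmemN : ∀ u, u ∈ Subgroup.normalizer (A : Set (SL2 F)) ↔ (u * g * u⁻¹ = g ∨ u * g * u⁻¹ = negS g) := by
    intro u
    rw [Subgroup.mem_set_normalizer_iff]
    constructor
    · intro hu
      have h1 : u * g * u⁻¹ ∈ A := (hu g).1 ((hA g).2 (by simp))
      rw [hA] at h1
      have hsq := sq_conj hg u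
      rcases h1 with h | h | h | h
      · exfalso
        rw [h] at hsq
        exact hne (by simpa using hsq.symm)
      · exact Or.inl h
      · exfalso
        rw [h, negS_mul, mul_negS, negS_negS] at hsq
        exact hne (by simpa using hsq.symm)
      · exact Or.inr h
    · intro hu y
      constructor
      · intro hy
        exact conj_mem_of hA hu hy
      · intro hy
        have hu' : u⁻¹ * g * u⁻¹⁻¹ = g ∨ u⁻¹ * g * u⁻¹⁻¹ = negS g := by
          rcases hu with h | h
          · left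
            rw [inv_inv]
            nth_rewrite 1 [← h]
            group
          · right
            rw [inv_inv]
            have h3 : u * negS g * u⁻¹ = g := by
              rw [conj_negS, h, negS_negS]
            nth_rewrite 1 [← h3]
            group
        have := conj_mem_of hA hu' hy
        have e : u⁻¹ * (u * y * u⁻¹) * u⁻¹⁻¹ = y := by group
        rwa [e] at this
  have h1 : Nat.card ↥(Subgroup.normalizer (A : Set (SL2 F))) = Nat.card {u : SL2 F // u ∈ Subgroup.normalizer (A : Set (SL2 F))} := rfl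
  rw [h1, Cfsg.Agent.Lib.HermLines.card_split (fun u : SL2 F => u ∈ Subgroup.normalizer (A : Set (SL2 F))) (fun u => u * g * u⁻¹ = g)]
  have e1 : Nat.card {u : SL2 F // u ∈ Subgroup.normalizer (A : Set (SL2 F)) ∧ u * g * u⁻¹ = g} = Nat.card {u : SL2 F // u * g * u⁻¹ = g} :=
    Nat.card_congr ⟨fun u => ⟨u.1, u.2.2⟩, fun u => ⟨u.1, (hmemN _).2 (Or.inl u.2), u.2⟩, fun u => rfl, fun u => rfl⟩
  have e2 : Nat.card {u : SL2 F // u ∈ Subgroup.normalizer (A : Set (SL2 F)) ∧ ¬ u * g * u⁻¹ = g} = Nat.card {u : SL2 F // u * g * u⁻¹ = negS g} :=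
    Nat.card_congr ⟨fun u => ⟨u.1, ((hmemN _).1 u.2.1).resolve_left u.2.2⟩, fun u => ⟨u.1, (hmemN _).2 (Or.inr u.2), by
      rw [u.2]
      exact hd3⟩, fun u => rfl, fun u => rfl⟩
  rw [e1, e2, card_fiber h2 hg (sq_negS hg)]
  ring

/-- Involutions of `PSL₂` lift to elements of square `-1`. -/
theorem lift_involution (h2 : (2 : F) ≠ 0) (x : PSL2 F) (hx : orderOf x = 2) : ∃ X : SL2 F, proj X = x ∧ X * X = negS 1 := by
  obtain ⟨X, rfl⟩ := proj_surjective x
  refine ⟨X, rfl, ?_⟩
  have h1 : (proj X) ^ 2 = 1 := by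
    have := pow_orderOf_eq_one (proj X)
    rwa [hx] at this
  have h3 : proj (X * X) = 1 := by
    rw [map_mul, ← sq, h1]
  rw [proj_eq_one_iff] at h3
  rcases center_eq _ h3 with h4 | h4
  · exfalso
    have h5 : proj X = 1 := by
      rcases mul_self_eq_one h2 X h4 with h | h
      · rw [h, map_one]
      · rw [h, proj_negS, map_one]
    rw [h5, orderOf_one] at hx
    omega
  · exact h4

theorem involutions_conj (h2 : (2 : F) ≠ 0) (x y : PSL2 F) (hx : orderOf x = 2) (hy : orderOf y = 2) : IsConj x y := by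
  obtain ⟨X, rfl, hX⟩ := lift_involution h2 x hx
  obtain ⟨Y, rfl, hY⟩ := lift_involution h2 y hy
  obtain ⟨U, hU⟩ := conj_of_sq h2 X Y hX hY
  rw [isConj_iff]
  refine ⟨proj U, ?_⟩
  rw [← hU, map_mul, map_mul, map_inv]

end Cfsg.Agent.Lib.SL2Four
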