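import Mathlib
import Cfsg.Agent.Lib.MetaOmega
import Cfsg.Agent.Lib.MaxClassPow2

set_option autoImplicit false
set_option linter.unusedSectionVars false
set_option linter.style.haveILetI false
set_option linter.unusedVariables false

namespace Cfsg.Agent.Lib.MetaOmega2

open Cfsg.Agent.Lib.MetaOmega
open scoped commutatorElement

section Fix

variable {L : Type*} [Group L] [Finite L] {p : ℕ} [hp : Fact p.Prime]

/-- A nontrivial `p`-group with an automorphism of order `p` has a nontrivial fixed element of order `p`. -/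
lemma exists_fixed (hL : IsPGroup p L) [Nontrivial L] (a : MulAut L) (ha : orderOf a = p) :
    ∃ ζ : L, ζ ≠ 1 ∧ ζ ^ p = 1 ∧ a ζ = ζ := by
  classical
  have hpp := hp.out
  have hZ : IsPGroup p (Subgroup.zpowers a) := IsPGroup.of_card (n := 1) (by rw [Nat.card_zpowers, ha, pow_one])
  have h1 := hZ.card_modEq_card_fixedPoints L
  obtain ⟨k, hk⟩ := IsPGroup.iff_card.1 hL
  have hk0 : k ≠ 0 := by
    rintro rfl
    have h2 : Nat.card L = 1 := by simpa using hk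
    exact not_nontrivial_iff_subsingleton.2 ((Nat.card_eq_one_iff_unique.1 h2).1) ‹Nontrivial L›
  have hdvd : p ∣ Nat.card L := by
    rw [hk]
    exact dvd_pow_self p hk0
  have hd2 : p ∣ Nat.card (MulAction.fixedPoints (Subgroup.zpowers a) L) :=
    (Nat.modEq_zero_iff_dvd.1 (h1.symm.trans (Nat.modEq_zero_iff_dvd.2 hdvd)))
  have h1mem : (1 : L) ∈ MulAction.fixedPoints (Subgroup.zpowers a) L := by
    intro g
    exact smul_one _
  haveI : Nonempty (MulAction.fixedPoints (Subgroup.zpowers a) L) := ⟨⟨1, h1mem⟩⟩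
  have hgt : 1 < Nat.card (MulAction.fixedPoints (Subgroup.zpowers a) L) := by
    have hpos : 0 < Nat.card (MulAction.fixedPoints (Subgroup.zpowers a) L) := Nat.card_pos
    have := Nat.le_of_dvd hpos hd2
    have := hpp.two_le
    omega
  haveI := Finite.one_lt_card_iff_nontrivial.1 hgt
  obtain ⟨y, hy⟩ := exists_ne (⟨1, h1mem⟩ : MulAction.fixedPoints (Subgroup.zpowers a) L)
  have hy1 : (y : L) ≠ 1 := fun h => hy (Subtype.ext h)
  have hfix : a (y : L) = y := y.2 ⟨a, Subgroup.mem_zpowers a⟩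
  obtain ⟨f, hf⟩ := (IsPGroup.iff_orderOf.1 hL) (y : L)
  have hf0 : f ≠ 0 := by
    rintro rfl
    rw [pow_zero, orderOf_eq_one_iff] at hf
    exact hy1 hf
  obtain ⟨d, rfl⟩ : ∃ d, f = d + 1 := ⟨f - 1, by omega⟩
  refine ⟨(y : L) ^ p ^ d, ?_, ?_, ?_⟩
  · intro h
    have h2 := orderOf_dvd_of_pow_eq_one h
    rw [hf] at h2
    have := (Nat.pow_dvd_pow_iff_le_right hpp.one_lt).1 h2
    omega
  · rw [← pow_mul, ← pow_succ, ← hf, pow_orderOf_eq_one]
  · rw [map_pow, hfix]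

end Fix

section Main

variable {L : Type*} [Group L] [Finite L] {p : ℕ} [hp : Fact p.Prime]

/-- Coordinates on `Ω₁(L)`. -/
lemma coords (hL : IsPGroup p L) {A : Subgroup L} (hA : ∀ x, x ∈ A ↔ x ^ p = 1) (hAc : ∀ x ∈ A, ∀ y ∈ A, x * y = y * x)
    (hAp : Nat.card A = p ^ 2) {x t : L} (hx : x ∈ A) (ht : t ∈ A) (ht1 : t ≠ 1) (hxt : x ∉ Subgroup.zpowers t) :
    ∀ w ∈ A, ∃ α β : ℕ, w = x ^ α * t ^ β := by
  have hpp := hp.out
  have hcxt : Commute x t := hAc x hx t ht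
  have hxp : x ^ p = 1 := (hA x).1 hx
  have htp : t ^ p = 1 := (hA t).1 ht
  set K := Subgroup.closure ({x, t} : Set L) with hK
  have hKA : K ≤ A := by
    refine (Subgroup.closure_le _).2 ?_
    rintro w (rfl | rfl)
    · exact hx
    · exact ht
  have hlt : Subgroup.zpowers t < K := by
    refine lt_of_le_of_ne (Subgroup.zpowers_le.2 (Subgroup.subset_closure (by simp))) fun h => hxt ?_
    rw [h]
    exact Subgroup.subset_closure (by simp)
  have h1 := Cfsg.Agent.Lib.MaxClassPow.mul_card_le_of_lt hlt (hL.to_subgroup K)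
  rw [Nat.card_zpowers, orderOf_eq_prime htp ht1] at h1
  have hKe : K = A := Subgroup.eq_of_le_of_card_ge hKA (by rw [hAp, pow_two]; exact h1)
  intro w hw
  rw [← hKe] at hw
  induction hw using Subgroup.closure_induction with
  | mem w hw =>
    rcases hw with rfl | rfl
    · exact ⟨1, 0, by simp⟩
    · exact ⟨0, 1, by simp⟩
  | one => exact ⟨0, 0, by simp⟩
  | mul a b _ _ iha ihb =>
    obtain ⟨α, β, rfl⟩ := iha
    obtain ⟨γ, δ, rfl⟩ := ihb
    refine ⟨α + γ, β + δ, ?_⟩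
    rw [pow_add, pow_add]
    have e : t ^ β * x ^ γ = x ^ γ * t ^ β := ((hcxt.pow_pow γ β).symm).eq
    calc x ^ α * t ^ β * (x ^ γ * t ^ δ) = x ^ α * (t ^ β * x ^ γ) * t ^ δ := by group
      _ = x ^ α * (x ^ γ * t ^ β) * t ^ δ := by rw [e]
      _ = _ := by group
  | inv a _ iha =>
    obtain ⟨α, β, rfl⟩ := iha
    refine ⟨α * (p - 1), β * (p - 1), ?_⟩
    have e : (x ^ α * t ^ β) ^ p = 1 := by
      rw [(hcxt.pow_pow α β).mul_pow, ← pow_mul, ← pow_mul, mul_comm α, mul_comm β, pow_mul, pow_mul, hxp, htp, one_pow,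
        one_pow, mul_one]
    have e2 : (x ^ α * t ^ β) ^ (p - 1) = x ^ (α * (p - 1)) * t ^ (β * (p - 1)) := by
      rw [(hcxt.pow_pow α β).mul_pow, ← pow_mul, ← pow_mul]
    rw [← e2]
    apply inv_eq_of_mul_eq_one_right
    rw [← pow_succ', show p - 1 + 1 = p by have := hpp.pos; omega, e]

variable (hp2 : p ≠ 2) (hL : IsPGroup p L) (hm : Cfsg.IsMetacyclic L)
  (hnc : ∀ C : Subgroup L, IsCyclic C → C.index ≠ p) [hne : Nontrivial L]

include hp2 hL hm hnc hne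

/-- **The action on `Ω₁`.** -/
theorem fixed_of_moved (a : MulAut L) (ha : orderOf a = p) {x₀ : L} (hx₀p : x₀ ^ p = 1) (hmv : a x₀ ≠ x₀) :
    p = 3 ∧ ∃ z : L, z ≠ 1 ∧ z ^ p = 1 ∧ a z = z ∧ ∀ y, a y = y → y ∈ Subgroup.zpowers z := by
  classical
  have hpp := hp.out
  have hapow : a ^ p = 1 := by rw [← ha]; exact pow_orderOf_eq_one a
  obtain ⟨A, hA, hAc, hAp⟩ := Cfsg.Agent.S0638.main hp2 hL hm (not_cyclic hp2 hL hm hnc hne)
  obtain ⟨ζ, hζ1, hζp, hζa⟩ := exists_fixed hL a ha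
  have hfix : ∀ {t : L}, a t = t → ∀ w ∈ Subgroup.zpowers t, a w = w := by
    intro t ht w hw
    obtain ⟨k, rfl⟩ := Subgroup.mem_zpowers_iff.1 hw
    rw [map_zpow, ht]
  have hx₀A : x₀ ∈ A := (hA _).2 hx₀p
  have hζA : ζ ∈ A := (hA _).2 hζp
  have hx₀1 : x₀ ≠ 1 := by
    rintro rfl
    exact hmv (map_one a)
  have hordx : orderOf x₀ = p := orderOf_eq_prime hx₀p hx₀1
  have hx₀ζ : x₀ ∉ Subgroup.zpowers ζ := fun h => hmv (hfix hζa _ h)
  have hax₀A : a x₀ ∈ A := (hA _).2 (by rw [← map_pow, hx₀p, map_one])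
  obtain ⟨k, j, hkj⟩ := coords hL hA hAc hAp hx₀A hζA hζ1 hx₀ζ _ hax₀A
  have hcxζ : Commute x₀ ζ := hAc _ hx₀A _ hζA
  -- the eigenvalue is `1`
  have hiter : ∀ t : ℕ, ∃ c : ℕ, (a ^ t) x₀ = x₀ ^ (k ^ t) * ζ ^ c := by
    intro t
    induction t with
    | zero => exact ⟨0, by simp⟩
    | succ t ih =>
      obtain ⟨c, hc⟩ := ih
      refine ⟨j * k ^ t + c, ?_⟩
      rw [pow_succ', MulAut.mul_apply, hc, map_mul, map_pow, map_pow, hζa, hkj,
        (hcxζ.pow_pow k j).mul_pow, ← pow_mul, ← pow_mul, pow_add ζ, pow_succ', mul_assoc]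
  have hk1 : x₀ ^ k = x₀ := by
    obtain ⟨c, hc⟩ := hiter p
    rw [hapow, MulAut.one_apply] at hc
    have h1 : x₀ ^ (k ^ p) = x₀ ^ (k % p) := by
      rw [pow_eq_pow_iff_modEq, hordx]
      have h2 : ((k ^ p : ℕ) : ZMod p) = ((k : ℕ) : ZMod p) := by
        push_cast
        exact ZMod.pow_card _
      have h3 := (ZMod.natCast_eq_natCast_iff _ _ _).1 h2
      exact h3.trans (Nat.mod_modEq k p).symm
    have h4 : x₀ ^ k = x₀ ^ (k % p) := by
      rw [pow_eq_pow_iff_modEq, hordx]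
      exact (Nat.mod_modEq k p).symm
    rw [h1] at hc
    rw [h4]
    have hlt : k % p < p := Nat.mod_lt _ hpp.pos
    by_contra hne1
    have hk'1 : k % p ≠ 1 := by
      intro h
      rw [h, pow_one] at hne1
      exact hne1 rfl
    rcases Nat.eq_zero_or_pos (k % p) with h0 | hpos
    · rw [h0, pow_zero, one_mul] at hc
      apply hx₀ζ
      rw [hc]
      exact pow_mem (Subgroup.mem_zpowers _) _
    · obtain ⟨d, hd⟩ : ∃ d, k % p = d + 1 := ⟨k % p - 1, by omega⟩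
      rw [hd, pow_succ'] at hc
      have hc2 : x₀ ^ d * ζ ^ c = 1 := by
        have : x₀ * (x₀ ^ d * ζ ^ c) = x₀ * 1 := by
          rw [mul_one, ← mul_assoc]
          exact hc.symm
        exact mul_left_cancel this
      have hdcop : Nat.Coprime d (orderOf x₀) := by
        rw [hordx]
        apply Nat.Coprime.symm
        rw [Nat.Prime.coprime_iff_not_dvd hpp]
        intro hdv
        have := Nat.le_of_dvd (by omega) hdv
        omega
      obtain ⟨m, hm'⟩ := exists_pow_eq_self_of_coprime hdcop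
      apply hx₀ζ
      rw [← hm', eq_inv_of_mul_eq_one_left hc2]
      exact pow_mem (inv_mem (pow_mem (Subgroup.mem_zpowers _) _)) _
  rw [hk1] at hkj
  set z := ζ ^ j with hz
  have hzA : z ∈ A := pow_mem hζA _
  have hza : a z = z := by rw [hz, map_pow, hζa]
  have hzp : z ^ p = 1 := (hA _).1 hzA
  have hz1 : z ≠ 1 := by
    intro h
    apply hmv
    rw [hkj, h, mul_one]
  have hordz : orderOf z = p := orderOf_eq_prime hzp hz1
  have hx₀z : x₀ ∉ Subgroup.zpowers z := fun h => hmv (hfix hza _ h)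
  have hco := coords hL hA hAc hAp hx₀A hzA hz1 hx₀z
  have hcxz : Commute x₀ z := hAc _ hx₀A _ hzA
  -- calculus of the coordinates
  have hEmul : ∀ α β γ δ : ℕ, x₀ ^ α * z ^ β * (x₀ ^ γ * z ^ δ) = x₀ ^ (α + γ) * z ^ (β + δ) := by
    intro α β γ δ
    rw [pow_add, pow_add]
    have e : z ^ β * x₀ ^ γ = x₀ ^ γ * z ^ β := ((hcxz.pow_pow γ β).symm).eq
    calc x₀ ^ α * z ^ β * (x₀ ^ γ * z ^ δ) = x₀ ^ α * (z ^ β * x₀ ^ γ) * z ^ δ := by group
      _ = x₀ ^ α * (x₀ ^ γ * z ^ β) * z ^ δ := by rw [e]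
      _ = _ := by group
  have hEpow : ∀ α β k : ℕ, (x₀ ^ α * z ^ β) ^ k = x₀ ^ (α * k) * z ^ (β * k) := by
    intro α β k
    rw [(hcxz.pow_pow α β).mul_pow, ← pow_mul, ← pow_mul]
  have hEa : ∀ α β : ℕ, a (x₀ ^ α * z ^ β) = x₀ ^ α * z ^ (α + β) := by
    intro α β
    rw [map_mul, map_pow, map_pow, hkj, hza, (show Commute x₀ z from hcxz).mul_pow, pow_add z, mul_assoc]
  have hEeq : ∀ α β : ℕ, x₀ ^ α * z ^ β = 1 → p ∣ α ∧ p ∣ β := by
    intro α β h
    have h1 : p ∣ α := by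
      by_contra hd
      have hdcop : Nat.Coprime α (orderOf x₀) := by
        rw [hordx, Nat.coprime_comm]
        exact (Nat.Prime.coprime_iff_not_dvd hpp).2 hd
      obtain ⟨m, hm'⟩ := exists_pow_eq_self_of_coprime hdcop
      apply hx₀z
      rw [← hm', eq_inv_of_mul_eq_one_left h]
      exact pow_mem (inv_mem (pow_mem (Subgroup.mem_zpowers _) _)) _
    refine ⟨h1, ?_⟩
    obtain ⟨q, rfl⟩ := h1
    rw [pow_mul, hx₀p, one_pow, one_mul] at h
    rw [← hordz]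
    exact orderOf_dvd_of_pow_eq_one h
  have hEp : ∀ α β : ℕ, (x₀ ^ α * z ^ β) ^ p = 1 := fun α β => (hA _).1 (mul_mem (pow_mem hx₀A _) (pow_mem hzA _))
  -- the second layer
  have hW2 : ∀ {w : L}, w ^ p = 1 → w ^ p ^ 2 = 1 := by
    intro w hw
    rw [pow_two, pow_mul, hw, one_pow]
  have hcen : ∀ {y w : L}, y ^ p ^ 2 = 1 → w ^ p = 1 → Commute y w := by
    intro y w hy hw
    obtain ⟨τ, rfl⟩ := exists_root hp2 hL hm hnc hne hw
    have hτ : τ ^ p ^ 2 = 1 := by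
      rw [pow_two, pow_mul]
      exact hw
    exact comm_pow_W hp2 hL hm hy hτ
  have hWa : ∀ {y : L}, y ^ p ^ 2 = 1 → (a y) ^ p ^ 2 = 1 := by
    intro y hy
    rw [← map_pow, hy, map_one]
  have hWinv : ∀ {y : L}, y ^ p ^ 2 = 1 → y⁻¹ ^ p ^ 2 = 1 := by
    intro y hy
    rw [inv_pow, hy, inv_one]
  obtain ⟨u, hu⟩ := exists_root hp2 hL hm hnc hne hzp
  obtain ⟨v, hv⟩ := exists_root hp2 hL hm hnc hne hx₀p
  have hu2 : u ^ p ^ 2 = 1 := by rw [pow_two, pow_mul, hu, hzp]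
  have hv2 : v ^ p ^ 2 = 1 := by rw [pow_two, pow_mul, hv, hx₀p]
  have hmulW := fun {x y : L} (hx : x ^ p ^ 2 = 1) (hy : y ^ p ^ 2 = 1) => mul_pow_W hp2 hL hm hx hy
  -- `a u`
  have hw1 : (u⁻¹ * a u) ^ p = 1 := by
    rw [hmulW (hWinv hu2) (hWa hu2), inv_pow, ← map_pow, hu, hza, inv_mul_cancel]
  obtain ⟨α₁, β₁, hαβ₁⟩ := hco _ ((hA _).2 hw1)
  have hau : a u = u * (x₀ ^ α₁ * z ^ β₁) := by
    rw [← hαβ₁]
    group
  -- `a v`
  have hvu : (v * u) ^ p = x₀ * z := by rw [hmulW hv2 hu2, hv, hu]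
  have hvu2 : (v * u) ^ p ^ 2 = 1 := by
    rw [pow_two, pow_mul, hvu, hcxz.mul_pow, hx₀p, hzp, one_mul]
  have hw2 : ((v * u)⁻¹ * a v) ^ p = 1 := by
    rw [hmulW (hWinv hvu2) (hWa hv2), inv_pow, hvu, ← map_pow, hv, hkj, inv_mul_cancel]
  obtain ⟨α₂, β₂, hαβ₂⟩ := hco _ ((hA _).2 hw2)
  have hav : a v = v * u * (x₀ ^ α₂ * z ^ β₂) := by
    rw [← hαβ₂]
    group
  have hCu : ∀ α β : ℕ, Commute u (x₀ ^ α * z ^ β) := fun α β => hcen hu2 (hEp α β)
  -- the orbit of `v`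
  have hform : ∀ k : ℕ, (a ^ k) v = v * u ^ k *
      (x₀ ^ (k.choose 2 * α₁ + k * α₂) * z ^ (k.choose 3 * α₁ + k.choose 2 * (β₁ + α₂) + k * β₂)) := by
    intro k
    induction k with
    | zero => simp
    | succ k ih =>
      rw [pow_succ', MulAut.mul_apply, ih, map_mul, map_mul, map_pow, hEa, hav, hau, (hCu α₁ β₁).mul_pow, hEpow]
      have hC2 : x₀ ^ α₂ * z ^ β₂ * u ^ k = u ^ k * (x₀ ^ α₂ * z ^ β₂) := ((hCu α₂ β₂).pow_left k).symm.eq
      calc v * u * (x₀ ^ α₂ * z ^ β₂) * (u ^ k * (x₀ ^ (α₁ * k) * z ^ (β₁ * k))) * _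
          = v * u * (x₀ ^ α₂ * z ^ β₂ * u ^ k) * (x₀ ^ (α₁ * k) * z ^ (β₁ * k)) * (x₀ ^ (k.choose 2 * α₁ + k * α₂) * z ^ (k.choose 2 * α₁ + k * α₂ + (k.choose 3 * α₁ + k.choose 2 * (β₁ + α₂) + k * β₂))) := by group
        _ = v * u * u ^ k * (x₀ ^ α₂ * z ^ β₂ * (x₀ ^ (α₁ * k) * z ^ (β₁ * k)) * (x₀ ^ (k.choose 2 * α₁ + k * α₂) * z ^ (k.choose 2 * α₁ + k * α₂ + (k.choose 3 * α₁ + k.choose 2 * (β₁ + α₂) + k * β₂)))) := by
          rw [hC2]
          group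
        _ = _ := by
          rw [hEmul, hEmul, pow_succ' u k, mul_assoc v u]
          have e1 : (k + 1).choose 2 = k + k.choose 2 := by
            rw [Nat.choose_succ_succ' k 1, Nat.choose_one_right]
          have e2 : (k + 1).choose 3 = k.choose 2 + k.choose 3 := Nat.choose_succ_succ' k 2
          rw [e1, e2]
          congr 3 <;> ring
  -- evaluating at `p`
  have hvp := hform p
  rw [hapow, MulAut.one_apply, hu] at hvp
  have hp3' : 3 ≤ p := by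
    have := hpp.two_le
    omega
  have hprod : z * (x₀ ^ (p.choose 2 * α₁ + p * α₂) * z ^ (p.choose 3 * α₁ + p.choose 2 * (β₁ + α₂) + p * β₂)) = 1 := by
    have h1 : v * (z * (x₀ ^ (p.choose 2 * α₁ + p * α₂) * z ^ (p.choose 3 * α₁ + p.choose 2 * (β₁ + α₂) + p * β₂))) = v * 1 := by
      rw [mul_one, ← mul_assoc]
      exact hvp.symm
    exact mul_left_cancel h1
  have hprod2 : x₀ ^ (p.choose 2 * α₁ + p * α₂) * z ^ (p.choose 3 * α₁ + p.choose 2 * (β₁ + α₂) + p * β₂ + 1) = 1 := by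
    rw [← hprod, pow_succ' z, ← mul_assoc, ← mul_assoc, ((hcxz.pow_left _).eq)]
  have hd6 := (hEeq _ _ hprod2).2
  have hd2 : p ∣ p.choose 2 := hpp.dvd_choose_self (by norm_num) (by omega)
  have h6 : p ∣ p.choose 3 * α₁ + 1 := by
    have e : p.choose 3 * α₁ + p.choose 2 * (β₁ + α₂) + p * β₂ + 1 =
        (p.choose 3 * α₁ + 1) + (p.choose 2 * (β₁ + α₂) + p * β₂) := by ring
    rw [e] at hd6
    exact (Nat.dvd_add_left (dvd_add (Dvd.dvd.mul_right hd2 _) (dvd_mul_right _ _))).1 hd6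
  have hone : ¬ p ∣ 1 := fun h => hpp.one_lt.ne' (Nat.dvd_one.1 h)
  have hp3 : p = 3 := by
    by_contra hne3
    have hd3 : p ∣ p.choose 3 := hpp.dvd_choose_self (by norm_num) (by omega)
    exact hone ((Nat.dvd_add_right (Dvd.dvd.mul_right hd3 α₁)).1 h6)
  have hα : ¬ p ∣ α₁ := by
    intro h
    have h7 : p.choose 3 = 1 := by rw [hp3]; rfl
    rw [h7, one_mul] at h6
    exact hone ((Nat.dvd_add_right h).1 h6)
  refine ⟨hp3, z, hz1, hzp, hza, ?_⟩
  have stepA : ∀ y, y ^ p = 1 → a y = y → y ∈ Subgroup.zpowers z := by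
    intro y hy hay
    obtain ⟨α, β, rfl⟩ := hco y ((hA y).2 hy)
    rw [hEa] at hay
    have h1 := mul_left_cancel hay
    rw [pow_add] at h1
    have h2 : z ^ α = 1 := mul_eq_right.1 h1
    have h3 : p ∣ α := by
      rw [← hordz]
      exact orderOf_dvd_of_pow_eq_one h2
    obtain ⟨q, rfl⟩ := h3
    rw [pow_mul, hx₀p, one_pow, one_mul]
    exact pow_mem (Subgroup.mem_zpowers _) _
  intro y hay
  by_cases hyp : y ^ p = 1
  · exact stepA y hyp hay
  exfalso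
  obtain ⟨f, hf⟩ := (IsPGroup.iff_orderOf.1 hL) y
  have hf2 : 2 ≤ f := by
    by_contra hlt
    apply hyp
    have h1 : orderOf y ∣ p := by
      rw [hf]
      exact (pow_dvd_pow p (show f ≤ 1 by omega)).trans (by rw [pow_one])
    exact orderOf_dvd_iff_pow_eq_one.1 h1
  obtain ⟨d, rfl⟩ : ∃ d, f = d + 2 := ⟨f - 2, by omega⟩
  set y₁ := y ^ p ^ d with hy₁
  have hy₁2 : y₁ ^ p ^ 2 = 1 := by
    rw [hy₁, ← pow_mul, ← pow_add, ← hf, pow_orderOf_eq_one]
  have hy₁p : y₁ ^ p ≠ 1 := by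
    intro h
    rw [hy₁, ← pow_mul, ← pow_succ] at h
    have h2 := orderOf_dvd_of_pow_eq_one h
    rw [hf] at h2
    have := (Nat.pow_dvd_pow_iff_le_right hpp.one_lt).1 h2
    omega
  have hay₁ : a y₁ = y₁ := by rw [hy₁, map_pow, hay]
  have ht : (y₁ ^ p) ∈ Subgroup.zpowers z := by
    refine stepA _ ?_ (by rw [map_pow, hay₁])
    rw [← pow_mul, ← pow_two]
    exact hy₁2
  obtain ⟨β, hβ⟩ := (mem_powers_iff_mem_zpowers).2 ht
  simp only at hβ
  have hβp : ¬ p ∣ β := by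
    rintro ⟨q, rfl⟩
    apply hy₁p
    rw [← hβ, pow_mul, hzp, one_pow]
  have hub : (u ^ β) ^ p ^ 2 = 1 := by
    rw [pow_right_comm, hu2, one_pow]
  have hw : ((u ^ β)⁻¹ * y₁) ^ p = 1 := by
    rw [hmulW (hWinv hub) hy₁2, inv_pow, pow_right_comm, hu, hβ, inv_mul_cancel]
  obtain ⟨γ, δ, hγδ⟩ := hco _ ((hA _).2 hw)
  have hy₁e : y₁ = u ^ β * (x₀ ^ γ * z ^ δ) := by
    rw [← hγδ]
    group
  have h8 : a y₁ = u ^ β * (x₀ ^ (α₁ * β + γ) * z ^ (β₁ * β + (γ + δ))) := by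
    rw [hy₁e, map_mul, map_pow, hEa, hau, (hCu α₁ β₁).mul_pow, hEpow, mul_assoc, hEmul]
  rw [hay₁] at h8
  nth_rewrite 1 [hy₁e] at h8
  have h9 := mul_left_cancel h8
  have h10 : x₀ ^ (α₁ * β) * z ^ (β₁ * β + γ) = 1 := by
    have h11 := hEmul (α₁ * β) (β₁ * β + γ) γ δ
    rw [show β₁ * β + γ + δ = β₁ * β + (γ + δ) by ring, ← h9] at h11
    exact mul_eq_right.1 h11
  have h12 := (hEeq _ _ h10).1
  exact (hpp.dvd_mul.1 h12).elim hα hβp

end Main

end Cfsg.Agent.Lib.MetaOmega2
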