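import Mathlib
import Cfsg.Prelude.Def_OddOrderLocal
import Cfsg.Agent.Lib.MetaAct
import Cfsg.Agent.Lib.Huppert2
import Cfsg.Agent.Lib.Frat
import Cfsg.Agent.Lib.HChain
import Cfsg.Agent.Lib.ExtraThreeAct
import Cfsg.Agent.Lib.CoprimeMin
import Cfsg.Agent.Lib.CoprimeInv
import Cfsg.Agent.Lib.CharTwoLocal

/-!
# Metacyclic `2`-groups with an automorphism of odd prime order.
-/

set_option autoImplicit false
set_option linter.unusedSectionVars false
set_option linter.style.haveILetI false
set_option linter.unusedVariables false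

open Cfsg Subgroup
open scoped commutatorElement

namespace Cfsg.Agent.Lib.MetaTwo

section Abs

variable {V : Type*} [Group V] [Finite V]

theorem inv_of_exp (hexp : ∀ x : V, x ^ 2 = 1) (x : V) : x⁻¹ = x :=
  inv_eq_of_mul_eq_one_left (by rw [← pow_two]; exact hexp x)

theorem comm_of_exp (hexp : ∀ x : V, x ^ 2 = 1) (u w : V) : u * w = w * u := by
  calc u * w = (u * w)⁻¹ := (inv_of_exp hexp _).symm
    _ = w⁻¹ * u⁻¹ := mul_inv_rev _ _
    _ = w * u := by rw [inv_of_exp hexp, inv_of_exp hexp]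

theorem exhaust (hc : Nat.card V ≤ 4) (hexp : ∀ x : V, x ^ 2 = 1) {v w : V} (hv : v ≠ 1) (hw : w ≠ 1)
    (hvw : v ≠ w) (u : V) : u = 1 ∨ u = v ∨ u = w ∨ u = v * w := by
  classical
  by_contra h
  push Not at h
  obtain ⟨h1, h2, h3, h4⟩ := h
  haveI := Fintype.ofFinite V
  have e1 : v * w ≠ 1 := by
    intro e
    apply hvw
    have := eq_inv_of_mul_eq_one_left e
    rw [inv_of_exp hexp] at this
    exact this
  have e2 : v * w ≠ v := by
    intro e
    exact hw (mul_eq_left.mp e)
  have e3 : v * w ≠ w := by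
    intro e
    exact hv (mul_eq_right.mp e)
  have hcard : ({1, v, w, v * w, u} : Finset V).card = 5 := by
    rw [Finset.card_insert_of_notMem, Finset.card_insert_of_notMem, Finset.card_insert_of_notMem,
      Finset.card_insert_of_notMem, Finset.card_singleton]
    · simp [h4.symm]
    · simp [h3.symm, e3.symm]
    · simp [hvw, e2.symm, h2.symm]
    · simp [hv.symm, hw.symm, e1.symm, h1.symm]
  have hle := Finset.card_le_univ ({1, v, w, v * w, u} : Finset V)
  rw [hcard, ← Nat.card_eq_fintype_card] at hle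
  omega

theorem fix_all (hc : Nat.card V ≤ 4) (hexp : ∀ x : V, x ^ 2 = 1) {a : MulAut V} {r : ℕ} (hr : Odd r)
    (har : a ^ r = 1) {v : V} (hv : a v = v) (hv1 : v ≠ 1) (w : V) : a w = w := by
  by_cases hw1 : w = 1
  · rw [hw1, map_one]
  by_cases hvw : v = w
  · rw [← hvw]; exact hv
  by_contra hne
  rcases exhaust hc hexp hv1 hw1 hvw (a w) with h | h | h | h
  · exact hw1 (by simpa using h)
  · apply hvw
    apply a.injective
    rw [hv, h]
  · exact hne h
  · have h2 : a (a w) = w := by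
      rw [h, map_mul, hv, h, ← mul_assoc, ← pow_two, hexp, one_mul]
    have hk : ∀ k : ℕ, (a ^ (2 * k)) w = w := by
      intro k
      induction k with
      | zero => simp
      | succ k ih =>
        have e : 2 * (k + 1) = 2 * k + 2 := by ring
        rw [e, pow_add, MulAut.mul_apply, pow_two, MulAut.mul_apply, h2, ih]
    obtain ⟨s, hs⟩ := hr
    have h3 : (a ^ r) w = w := by rw [har]; rfl
    rw [hs, pow_succ', MulAut.mul_apply, hk] at h3
    exact hne h3

theorem card_cyclic_le' {C : Type*} [Group C] [Finite C] [IsCyclic C] {n : ℕ} (hn : 0 < n)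
    (h : ∀ x : C, x ^ n = 1) : Nat.card C ≤ n := by
  obtain ⟨g, hg⟩ := IsCyclic.exists_generator (α := C)
  rw [← orderOf_eq_card_of_forall_mem_zpowers hg]
  exact Nat.le_of_dvd hn (orderOf_dvd_of_pow_eq_one (h g))

theorem exists_nat_of_mem {R : Type*} [Group R] [Finite R] {x y : R} (h : x ∈ zpowers y) :
    ∃ n : ℕ, y ^ n = x :=
  (mem_powers_iff_mem_zpowers.mpr h)

/-- Elements of order two of a cyclic `2`-group. -/
theorem inv_unique {R : Type*} [Group R] [Finite R] {x t : R} {a : ℕ} (ha : 1 ≤ a)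
    (hx : orderOf x = 2 ^ a) (ht : t ∈ zpowers x) (h2 : t ^ 2 = 1) (h1 : t ≠ 1) :
    t = x ^ (2 ^ (a - 1)) := by
  obtain ⟨i, rfl⟩ := exists_nat_of_mem ht
  have h3 : x ^ (i * 2) = 1 := by rw [pow_mul]; exact h2
  have h4 : 2 ^ a ∣ i * 2 := by
    rw [← hx]
    exact orderOf_dvd_of_pow_eq_one h3
  obtain ⟨b, rfl⟩ : ∃ b, a = b + 1 := ⟨a - 1, by omega⟩
  have h5 : 2 ^ b ∣ i := by
    rw [pow_succ] at h4
    exact Nat.dvd_of_mul_dvd_mul_right (by norm_num) h4
  obtain ⟨k, rfl⟩ := h5
  have e : b + 1 - 1 = b := by omega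
  rw [e]
  have h6 : (x ^ (2 ^ b)) ^ 2 = 1 := by
    rw [← pow_mul, ← pow_succ, ← hx, pow_orderOf_eq_one]
  rw [pow_mul]
  rcases Nat.even_or_odd' k with ⟨m, rfl | rfl⟩
  · exfalso
    apply h1
    rw [pow_mul, pow_mul, h6, one_pow]
  · rw [pow_succ, pow_mul, h6, one_pow, one_mul]

end Abs

section Main

variable {X : Type*} [Group X] [Finite X]

theorem frat_card (hX : IsPGroup 2 X) (hm : IsMetacyclic X) :
    Nat.card (X ⧸ frattini X) ≤ 4 ∧ ∀ v : X ⧸ frattini X, v ^ 2 = 1 := by
  haveI : Fact (Nat.Prime 2) := ⟨Nat.prime_two⟩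
  have hexp : ∀ v : X ⧸ frattini X, v ^ 2 = 1 := by
    intro v
    obtain ⟨x, rfl⟩ := QuotientGroup.mk_surjective v
    rw [← QuotientGroup.mk_pow, QuotientGroup.eq_one_iff]
    exact Cfsg.Agent.Lib.Frat.pow_mem_frattini hX x
  have h1 : IsMetacyclic (X ⧸ frattini X) :=
    Cfsg.Agent.Lib.Huppert2.isMetacyclic_of_surjective (QuotientGroup.mk' _)
      (QuotientGroup.mk'_surjective _) hm
  have h2 := Cfsg.Agent.Lib.Huppert2.card_le_of_metacyclic (p := 2) h1 hexp
  exact ⟨by simpa using h2, hexp⟩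

variable {α : MulAut X} {q : ℕ} [hq : Fact q.Prime]

theorem odd_q (hq2 : q ≠ 2) : Odd q := hq.out.odd_of_ne_two hq2

/-- The induced automorphism on the Frattini quotient. -/
noncomputable abbrev frat (α : MulAut X) : MulAut (X ⧸ frattini X) :=
  Cfsg.Agent.Lib.MetaAct.quotAutHom (frattini X) inferInstance α

theorem no_fixed (hX : IsPGroup 2 X) (hm : IsMetacyclic X) (hq2 : q ≠ 2) (hαq : α ^ q = 1)
    (hα1 : α ≠ 1) (v : X ⧸ frattini X) (hv : frat α v = v) : v = 1 := by
  haveI : Fact (Nat.Prime 2) := ⟨Nat.prime_two⟩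
  by_contra hv1
  obtain ⟨hc, hexp⟩ := frat_card hX hm
  have h1 : (frat α) ^ q = 1 := by
    rw [← map_pow, hαq, map_one]
  have h2 := fix_all hc hexp (odd_q hq2) h1 hv hv1
  apply hα1
  refine Cfsg.Agent.Lib.HChain.trivial_of_frattini hX α hαq ?_ ?_
  · exact (Nat.coprime_primes hq.out Nat.prime_two).mpr hq2
  · intro b
    have h3 := h2 (b : X ⧸ frattini X)
    rw [← QuotientGroup.eq_one_iff, QuotientGroup.mk_mul, QuotientGroup.mk_inv]
    have h4 : ((α b : X) : X ⧸ frattini X) = (b : X ⧸ frattini X) := h3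
    rw [h4]
    group

theorem exists_decomp (hX : IsPGroup 2 X) (hm : IsMetacyclic X) (hq2 : q ≠ 2) (hαq : α ^ q = 1)
    (hα1 : α ≠ 1) (x : X) : ∃ g : X, ∃ ϕ ∈ frattini X, x = g⁻¹ * α g * ϕ := by
  obtain ⟨hc, hexp⟩ := frat_card hX hm
  let m : X ⧸ frattini X → X ⧸ frattini X := fun u => u⁻¹ * frat α u
  have hmi : Function.Injective m := by
    intro u w h
    have h1 : u⁻¹ * frat α u = w⁻¹ * frat α w := h
    have h2 : frat α (u * w⁻¹) = u * w⁻¹ := by
      rw [map_mul, map_inv]
      have h3 : frat α u = u * (w⁻¹ * frat α w) := by rw [← h1]; group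
      rw [h3]
      group
    have h3 := no_fixed hX hm hq2 hαq hα1 _ h2
    exact mul_inv_eq_one.mp h3
  have hms : Function.Surjective m := Finite.surjective_of_injective hmi
  obtain ⟨u, hu⟩ := hms (x : X ⧸ frattini X)
  obtain ⟨g, rfl⟩ := QuotientGroup.mk_surjective u
  refine ⟨g, (g⁻¹ * α g)⁻¹ * x, ?_, by group⟩
  rw [← QuotientGroup.eq_one_iff, QuotientGroup.mk_mul, ← hu]
  have e : m (g : X ⧸ frattini X) = ((g⁻¹ * α g : X) : X ⧸ frattini X) := rfl
  rw [e, ← QuotientGroup.mk_mul]
  simp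

theorem closure_top (hX : IsPGroup 2 X) (hm : IsMetacyclic X) (hq2 : q ≠ 2) (hαq : α ^ q = 1)
    (hα1 : α ≠ 1) : closure {x : X | ∃ g : X, x = g⁻¹ * α g} = ⊤ := by
  apply frattini_nongenerating
  rw [eq_top_iff]
  intro x _
  obtain ⟨g, ϕ, hϕ, rfl⟩ := exists_decomp hX hm hq2 hαq hα1 x
  exact mul_mem (mem_sup_left (subset_closure ⟨g, rfl⟩)) (mem_sup_right hϕ)

theorem hom_trivial (hX : IsPGroup 2 X) (hm : IsMetacyclic X) (hq2 : q ≠ 2) (hαq : α ^ q = 1)
    (hα1 : α ≠ 1) {B : Type*} [Group B] (f : X →* B) (hf : ∀ g, f (α g) = f g) (x : X) : f x = 1 := by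
  have h1 : closure {x : X | ∃ g : X, x = g⁻¹ * α g} ≤ f.ker := by
    rw [closure_le]
    rintro _ ⟨g, rfl⟩
    show f (g⁻¹ * α g) = 1
    rw [map_mul, map_inv, hf]
    group
  rw [closure_top hX hm hq2 hαq hα1] at h1
  exact h1 (mem_top x)

theorem cyclic_commutator (hm : IsMetacyclic X) : IsCyclic (commutator X) ∧
    ∀ (N : Subgroup X) (_ : N.Normal), IsCyclic (X ⧸ N) → commutator X ≤ N := by
  have hcN : ∀ (N : Subgroup X) (_ : N.Normal), IsCyclic (X ⧸ N) → commutator X ≤ N := by
    intro N hN hQc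
    rw [_root_.commutator_def, Subgroup.commutator_le]
    intro x _ y _
    have h1 := commutative_of_cyclic_center_quotient (G := X ⧸ N) (G' := X ⧸ N) (MonoidHom.id _)
      (by
        intro z hz
        have : z = 1 := hz
        rw [this]
        exact one_mem _) (x : X ⧸ N) y
    rw [← QuotientGroup.eq_one_iff, commutatorElement_def]
    simp only [QuotientGroup.mk_mul, QuotientGroup.mk_inv]
    rw [h1]
    group
  refine ⟨?_, hcN⟩
  obtain ⟨N, hN, hNc, hQc⟩ := id hm
  have hc := hcN N hN hQc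
  have h1 : IsCyclic ((commutator X).subgroupOf N) := inferInstance
  exact isCyclic_of_surjective (Subgroup.subgroupOfEquivOfLe hc).toMonoidHom
    (Subgroup.subgroupOfEquivOfLe hc).surjective

/-- An automorphism of odd prime order fixes the commutator subgroup pointwise. -/
theorem fix_commutator (hX : IsPGroup 2 X) (hm : IsMetacyclic X) (hq2 : q ≠ 2) (hαq : α ^ q = 1)
    {c : X} (hc : c ∈ commutator X) : α c = c := by
  haveI : Fact (Nat.Prime 2) := ⟨Nat.prime_two⟩
  haveI := (cyclic_commutator hm).1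
  have hchar : ∀ (f : MulAut X), ∀ x ∈ commutator X, f x ∈ commutator X := by
    intro f x hx
    have h2 : commutator X ≤ (commutator X).comap f.toMonoidHom :=
      (Subgroup.characteristic_iff_le_comap.mp inferInstance) f
    exact h2 hx
  let fA : MulAut (commutator X) := Cfsg.Agent.Lib.ExtraThreeAct.resAut α (commutator X) (hchar α) (hchar α⁻¹)
  have h1 : fA = 1 := by
    refine Cfsg.Agent.Lib.ExtraThreeAct.aut_cyclic_trivial (hX.to_subgroup _) fA hq2 (q := q) (m := 1) ?_
    ext x
    rw [pow_one, Cfsg.Agent.Lib.ExtraThreeAct.resAut_pow_apply, hαq]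
    simp
  have h2 := congrArg (fun φ : MulAut (commutator X) => ((φ ⟨c, hc⟩ : commutator X) : X)) h1
  simpa [fA, Cfsg.Agent.Lib.ExtraThreeAct.resAut_apply] using h2

/-- The commutator subgroup is central. -/
theorem commutator_central (hX : IsPGroup 2 X) (hm : IsMetacyclic X) (hq2 : q ≠ 2) (hαq : α ^ q = 1)
    (hα1 : α ≠ 1) {c : X} (hc : c ∈ commutator X) (g : X) : g * c = c * g := by
  let f : X →* MulAut (commutator X) := MulAut.conjNormal
  have h1 : ∀ g, f (α g) = f g := by
    intro g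
    ext z
    show α g * (z : X) * (α g)⁻¹ = g * z * g⁻¹
    have h2 : g * (z : X) * g⁻¹ ∈ commutator X := (inferInstance : (commutator X).Normal).conj_mem _ z.2 g
    have h3 := fix_commutator hX hm hq2 hαq h2
    have h4 := fix_commutator hX hm hq2 hαq z.2
    rw [map_mul, map_mul, map_inv, h4] at h3
    exact h3
  have h2 := hom_trivial hX hm hq2 hαq hα1 f h1 g
  have h3 := congrArg (fun φ : MulAut (commutator X) => ((φ ⟨c, hc⟩ : commutator X) : X)) h2
  have h4 : g * c * g⁻¹ = c := h3
  calc g * c = (g * c * g⁻¹) * g := by group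
    _ = c * g := by rw [h4]

/-- The abelian case. -/
theorem abelian_main (hX : IsPGroup 2 X) (hm : IsMetacyclic X) (hq2 : q ≠ 2) (hαq : α ^ q = 1)
    (hα1 : α ≠ 1) (hcomm : ∀ x y : X, x * y = y * x) :
    ∃ a : ℕ, 1 ≤ a ∧ ∃ x y : X, orderOf x = 2 ^ a ∧ orderOf y = 2 ^ a ∧
      zpowers x ⊓ zpowers y = ⊥ ∧ zpowers x ⊔ zpowers y = ⊤ ∧ ∀ w : X, w ^ (2 ^ a) = 1 := by
  haveI : Fact (Nat.Prime 2) := ⟨Nat.prime_two⟩
  obtain ⟨hc, hexp⟩ := frat_card hX hm
  obtain ⟨x, hxmax⟩ := Finite.exists_max (fun x : X => orderOf x)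
  obtain ⟨a, hxa⟩ := IsPGroup.iff_orderOf.mp hX x
  have hexpX : ∀ w : X, w ^ (2 ^ a) = 1 := by
    intro w
    obtain ⟨b, hb⟩ := IsPGroup.iff_orderOf.mp hX w
    have h1 := hxmax w
    simp only [hb, hxa] at h1
    have h2 : b ≤ a := (Nat.pow_le_pow_iff_right (by norm_num)).mp h1
    have h3 : orderOf w ∣ 2 ^ a := by
      rw [hb]
      exact pow_dvd_pow 2 h2
    exact orderOf_dvd_iff_pow_eq_one.mp h3
  have ha : 1 ≤ a := by
    by_contra h
    have h0 : a = 0 := by omega
    apply hα1
    ext w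
    have h1 := hexpX w
    rw [h0, pow_zero, pow_one] at h1
    have h2 := hexpX (α w)
    rw [h0, pow_zero, pow_one] at h2
    show α w = w
    rw [h2]
    exact h1.symm
  refine ⟨a, ha, ?_⟩
  let g : X →* X :=
    { toFun := fun w => w ^ (2 ^ (a - 1))
      map_one' := one_pow _
      map_mul' := fun u v => (show Commute u v from hcomm u v).mul_pow _ }
  have hg : ∀ w, g w = w ^ (2 ^ (a - 1)) := fun w => rfl
  have hgα : ∀ w, g (α w) = α (g w) := fun w => by
    rw [hg, hg, map_pow]
  have hgx : g x ≠ 1 := by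
    rw [hg]
    apply pow_ne_one_of_lt_orderOf
    · positivity
    · rw [hxa]
      exact Nat.pow_lt_pow_right (by norm_num) (by omega)
  have hxF : x ∉ frattini X := by
    intro h
    have hle : frattini X ≤ g.ker := by
      apply Cfsg.Agent.Lib.Frat.frattini_le_of_commutator_pow (p := 2)
      · rw [_root_.commutator_def, Subgroup.commutator_le]
        intro u _ v _
        rw [commutatorElement_eq_one_iff_mul_comm.mpr (hcomm u v)]
        exact one_mem _
      · intro w
        show (w ^ 2) ^ (2 ^ (a - 1)) = 1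
        rw [← pow_mul]
        have e : 2 * 2 ^ (a - 1) = 2 ^ a := by
          obtain ⟨b, rfl⟩ : ∃ b, a = b + 1 := ⟨a - 1, by omega⟩
          simp only [Nat.add_sub_cancel]
          ring
        rw [e]
        exact hexpX w
    exact hgx (hle h)
  -- the images
  let π := QuotientGroup.mk' (frattini X)
  have hπx : π x ≠ 1 := by
    intro h
    apply hxF
    rw [← QuotientGroup.ker_mk' (frattini X)]
    exact h
  have hπy : π (α x) = frat α (π x) := rfl
  have hπy1 : π (α x) ≠ 1 := by
    rw [hπy]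
    intro h
    exact hπx (by simpa using h)
  have hπne : π x ≠ π (α x) := by
    intro h
    rw [hπy] at h
    exact hπx (no_fixed hX hm hq2 hαq hα1 _ h.symm)
  -- generation
  have hgen : zpowers x ⊔ zpowers (α x) = ⊤ := by
    apply frattini_nongenerating
    rw [eq_top_iff]
    intro z _
    have hdecomp : ∃ b ∈ zpowers x ⊔ zpowers (α x), π z = π b := by
      rcases exhaust hc hexp hπx hπy1 hπne (π z) with h | h | h | h
      · exact ⟨1, one_mem _, by rw [h, map_one]⟩
      · exact ⟨x, mem_sup_left (mem_zpowers x), h⟩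
      · exact ⟨α x, mem_sup_right (mem_zpowers _), h⟩
      · exact ⟨x * α x, mul_mem (mem_sup_left (mem_zpowers x)) (mem_sup_right (mem_zpowers _)),
          by rw [h, map_mul]⟩
    obtain ⟨b, hb, e⟩ := hdecomp
    have h1 : b⁻¹ * z ∈ frattini X := by
      rw [← QuotientGroup.ker_mk' (frattini X), MonoidHom.mem_ker, map_mul, map_inv]
      show (π b)⁻¹ * π z = 1
      rw [e]
      group
    have h2 : z = b * (b⁻¹ * z) := by group
    rw [h2]
    exact mul_mem (mem_sup_left hb) (mem_sup_right h1)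
  -- the involutions are different
  have hne : g x ≠ g (α x) := by
    intro h
    have h1 : α (g x) = g x := by
      rw [← hgα, ← h]
    have h2 : ∀ w, g (α w) = g w := by
      intro w
      have hmem : w ∈ zpowers x ⊔ zpowers (α x) := by
        rw [hgen]
        trivial
      let E : Subgroup X :=
        { carrier := {w | g (α w) = g w}
          one_mem' := by simp
          mul_mem' := by
            intro u v hu hv
            simp only [Set.mem_ofPred_eq] at *
            rw [map_mul, map_mul, map_mul, hu, hv]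
          inv_mem' := by
            intro u hu
            simp only [Set.mem_ofPred_eq] at *
            rw [map_inv, map_inv, map_inv, hu] }
      have hE : zpowers x ⊔ zpowers (α x) ≤ E := by
        refine sup_le ?_ ?_
        · rw [zpowers_le]
          show g (α x) = g x
          exact h.symm
        · rw [zpowers_le]
          show g (α (α x)) = g (α x)
          rw [hgα, hgα, h1, h1]
      exact hE hmem
    exact hgx (hom_trivial hX hm hq2 hαq hα1 g h2 x)
  have hordy : orderOf (α x) = 2 ^ a := by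
    rw [MulEquiv.orderOf_eq, hxa]
  refine ⟨x, α x, hxa, hordy, ?_, hgen, hexpX⟩
  -- disjointness
  rw [eq_bot_iff]
  intro t ht
  by_contra ht1
  have ht1' : t ≠ 1 := ht1
  obtain ⟨b, hb⟩ := IsPGroup.iff_orderOf.mp hX t
  have hb0 : b ≠ 0 := by
    rintro rfl
    exact ht1' (orderOf_eq_one_iff.mp (by simpa using hb))
  obtain ⟨c, rfl⟩ : ∃ c, b = c + 1 := ⟨b - 1, by omega⟩
  have h1 : (t ^ 2 ^ c) ^ 2 = 1 := by
    rw [← pow_mul, ← pow_succ, ← hb, pow_orderOf_eq_one]
  have h2 : t ^ 2 ^ c ≠ 1 := by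
    apply pow_ne_one_of_lt_orderOf
    · positivity
    · rw [hb]
      exact Nat.pow_lt_pow_right (by norm_num) (by omega)
  have h3 := inv_unique ha hxa (pow_mem ht.1 _) h1 h2
  have h4 := inv_unique ha hordy (pow_mem ht.2 _) h1 h2
  apply hne
  rw [hg, hg, ← h3, ← h4]

/-- The isomorphism in the abelian case. -/
theorem abelian_final (hcomm : ∀ x y : X, x * y = y * x) {a : ℕ} {x y : X} (hx : orderOf x = 2 ^ a)
    (hy : orderOf y = 2 ^ a) (h1 : zpowers x ⊓ zpowers y = ⊥) (h2 : zpowers x ⊔ zpowers y = ⊤) :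
    Nonempty (X ≃* Multiplicative (ZMod (2 ^ a)) × Multiplicative (ZMod (2 ^ a))) := by
  haveI : NeZero (2 ^ a) := ⟨by positivity⟩
  have hcard : ∀ {z : X}, orderOf z = 2 ^ a →
      Nat.card (Multiplicative (ZMod (2 ^ a))) = Nat.card (zpowers z) := by
    intro z hz
    rw [Nat.card_zpowers, hz, Nat.card_eq_fintype_card]
    simp [ZMod.card]
  let e₁ : Multiplicative (ZMod (2 ^ a)) ≃* zpowers x := mulEquivOfCyclicCardEq (hcard hx)
  let e₂ : Multiplicative (ZMod (2 ^ a)) ≃* zpowers y := mulEquivOfCyclicCardEq (hcard hy)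
  let f : zpowers x × zpowers y →* X :=
    MonoidHom.noncommCoprod (zpowers x).subtype (zpowers y).subtype (fun m n => hcomm _ _)
  have hf : Function.Bijective f := by
    constructor
    · rw [injective_iff_map_eq_one]
      rintro ⟨u, v⟩ h
      have h3 : (u : X) * v = 1 := h
      have h4 : (u : X) = (v : X)⁻¹ := eq_inv_of_mul_eq_one_left h3
      have h5 : (u : X) ∈ zpowers x ⊓ zpowers y :=
        Subgroup.mem_inf.2 ⟨u.2, by rw [h4]; exact (zpowers y).inv_mem v.2⟩
      rw [h1] at h5
      have h6 : (u : X) = 1 := h5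
      have h7 : (v : X) = 1 := by
        rw [h6, one_mul] at h3
        exact h3
      exact Prod.ext (Subtype.ext h6) (Subtype.ext h7)
    · intro z
      have hz : z ∈ zpowers x ⊔ zpowers y := by
        rw [h2]
        trivial
      have hN : zpowers x ≤ normalizer ((zpowers y : Subgroup X) : Set X) := by
        intro u _
        refine Cfsg.Agent.Lib.CharTwoLocal.mem_normalizer_of_forall (fun v hv => ?_) (fun v hv => ?_)
        · rw [hcomm u v]
          simpa using hv
        · rw [hcomm u⁻¹ v]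
          simpa using hv
      obtain ⟨u, hu, v, hv, e⟩ := Cfsg.Agent.Lib.CharTwoLocal.exists_mul_of_mem_sup hN hz
      exact ⟨(⟨u, hu⟩, ⟨v, hv⟩), e.symm⟩
  exact ⟨((e₁.prodCongr e₂).trans (MulEquiv.ofBijective f hf)).symm⟩

/-- The non-abelian case. -/
theorem nonabelian_main (hX : IsPGroup 2 X) (hm : IsMetacyclic X) (hq2 : q ≠ 2) (hαq : α ^ q = 1)
    (hα1 : α ≠ 1) (hna : ¬ ∀ x y : X, x * y = y * x) : Nonempty (X ≃* QuaternionGroup 2) := by
  haveI : Fact (Nat.Prime 2) := ⟨Nat.prime_two⟩
  obtain ⟨C, hC⟩ : ∃ C, C = commutator X := ⟨_, rfl⟩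
  have hCn : C.Normal := by rw [hC]; infer_instance
  have hCc : C.Characteristic := by rw [hC]; infer_instance
  have hcentral : ∀ c ∈ C, ∀ g, g * c = c * g := by
    intro c hc g
    rw [hC] at hc
    exact commutator_central hX hm hq2 hαq hα1 hc g
  have hfixC : ∀ c ∈ C, α c = c := by
    intro c hc
    rw [hC] at hc
    exact fix_commutator hX hm hq2 hαq hc
  have hCcyc : IsCyclic C := by
    rw [hC]
    exact (cyclic_commutator hm).1
  have hmemC : ∀ x y : X, ⁅x, y⁆ ∈ C := by
    intro x y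
    rw [hC]
    exact Subgroup.commutator_mem_commutator (mem_top x) (mem_top y)
  have hCne : C ≠ ⊥ := by
    intro h
    apply hna
    intro x y
    have h1 := hmemC x y
    rw [h, mem_bot] at h1
    exact commutatorElement_eq_one_iff_mul_comm.mp h1
  obtain ⟨c, hc⟩ := IsPGroup.iff_card.mp (hX.to_subgroup C)
  have hc1 : 1 ≤ c := by
    by_contra h
    have h0 : c = 0 := by omega
    rw [h0, pow_zero] at hc
    exact hCne (Subgroup.eq_bot_of_card_eq _ hc)
  have hCexp : ∀ z ∈ C, z ^ (2 ^ c) = 1 := by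
    intro z hz
    have h1 : orderOf (⟨z, hz⟩ : C) ∣ Nat.card C := orderOf_dvd_natCard _
    rw [hc, Subgroup.orderOf_mk] at h1
    exact orderOf_dvd_iff_pow_eq_one.mp h1
  -- the quotient
  let Y := X ⧸ C
  let π : X →* Y := QuotientGroup.mk' C
  have hπs : Function.Surjective π := QuotientGroup.mk'_surjective C
  have hπk : ∀ z, π z = 1 ↔ z ∈ C := by
    intro z
    rw [← MonoidHom.mem_ker, QuotientGroup.ker_mk']
  let β : MulAut Y := Cfsg.Agent.Lib.MetaAct.quotAutHom C hCc α
  have hβ : ∀ z, β (π z) = π (α z) := fun z => rfl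
  have hY2 : IsPGroup 2 Y := hX.to_quotient C
  have hYm : IsMetacyclic Y := Cfsg.Agent.Lib.Huppert2.isMetacyclic_of_surjective π hπs hm
  have hYcomm : ∀ u v : Y, u * v = v * u := by
    intro u v
    obtain ⟨x, rfl⟩ := hπs u
    obtain ⟨y, rfl⟩ := hπs v
    have h1 := (hπk _).mpr (hmemC x y)
    rw [map_commutatorElement] at h1
    exact commutatorElement_eq_one_iff_mul_comm.mp h1
  have hβq : β ^ q = 1 := by
    show (Cfsg.Agent.Lib.MetaAct.quotAutHom C hCc α) ^ q = 1
    rw [← map_pow, hαq, map_one]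
  have hβ1 : β ≠ 1 := by
    intro h
    have h1 : closure {x : X | ∃ g : X, x = g⁻¹ * α g} ≤ C := by
      rw [closure_le]
      rintro _ ⟨g, rfl⟩
      show g⁻¹ * α g ∈ C
      rw [← hπk, map_mul, map_inv, ← hβ, h]
      simp
    rw [closure_top hX hm hq2 hαq hα1, top_le_iff] at h1
    apply hna
    intro x y
    exact hcentral y (by rw [h1]; trivial) x
  obtain ⟨a, ha, x, y, hx, hy, hinf, hsup, hexpY⟩ := abelian_main hY2 hYm hq2 hβq hβ1 hYcomm
  -- orders
  have hcardY : Nat.card Y = 2 ^ a * 2 ^ a := by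
    have hN : zpowers x ≤ normalizer ((zpowers y : Subgroup Y) : Set Y) := by
      intro u _
      refine Cfsg.Agent.Lib.CharTwoLocal.mem_normalizer_of_forall (fun v hv => ?_) (fun v hv => ?_)
      · rw [hYcomm u v]
        simpa using hv
      · rw [hYcomm u⁻¹ v]
        simpa using hv
    have h1 := Cfsg.Agent.Lib.CoprimeInv.card_sup_mul_card_inf hN
    rw [hsup, hinf, Subgroup.card_bot, mul_one, Subgroup.card_top, Nat.card_zpowers,
      Nat.card_zpowers, hx, hy] at h1
    exact h1
  have hcardX : Nat.card X = 2 ^ a * 2 ^ a * 2 ^ c := by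
    rw [Subgroup.card_eq_card_quotient_mul_card_subgroup C, hc]
    show Nat.card Y * _ = _
    rw [hcardY]
  have hpowC : ∀ g : X, g ^ (2 ^ a) ∈ C := by
    intro g
    rw [← hπk, map_pow]
    exact hexpY _
  have hcomm' : ∀ g h : X, h * g = g * h * ⁅h⁻¹, g⁻¹⁆ := by
    intro g h
    simp only [commutatorElement_def]
    group
  have hcomm2 : ∀ g h : X, ⁅h⁻¹, g⁻¹⁆ ∈ C := fun g h => hmemC _ _
  have hpowform : ∀ g h : X, ∀ n : ℕ, (g * h) ^ n = g ^ n * h ^ n * ⁅h⁻¹, g⁻¹⁆ ^ (n.choose 2) := by
    intro g h n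
    exact Cfsg.Agent.Lib.CoprimeMin.mul_pow_of_central (hcomm' g h)
      (show _ * _ = _ * _ from (hcentral _ (hcomm2 g h) g).symm)
      (show _ * _ = _ * _ from (hcentral _ (hcomm2 g h) h).symm) n
  -- `a = 1`
  have ha1 : a = 1 := by
    by_contra hane
    have ha2 : 2 ≤ a := by omega
    obtain ⟨n, hn⟩ : ∃ n, n = 2 ^ (a + c - 1) := ⟨_, rfl⟩
    have hnchoose : 2 ^ c ∣ n.choose 2 := by
      rw [Nat.choose_two_right]
      obtain ⟨m, hm'⟩ : ∃ m, a + c - 1 = m + 1 + c := ⟨a - 2, by omega⟩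
      have e : n = 2 * (2 ^ m * 2 ^ c) := by
        rw [hn, hm', pow_add, pow_succ]
        ring
      have e2 : n * (n - 1) / 2 = (2 ^ m * 2 ^ c) * (n - 1) := by
        have e3 : n * (n - 1) = 2 * ((2 ^ m * 2 ^ c) * (n - 1)) := by
          nth_rewrite 1 [e]
          ring
        rw [e3, Nat.mul_div_cancel_left _ (by norm_num)]
      rw [e2]
      exact Dvd.dvd.mul_right (Dvd.intro_left _ rfl) _
    let f : X →* X :=
      { toFun := fun g => g ^ n
        map_one' := one_pow _
        map_mul' := fun g h => by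
          rw [hpowform g h n]
          obtain ⟨k, hk⟩ := hnchoose
          rw [hk, pow_mul, hCexp _ (hcomm2 g h), one_pow, mul_one] }
    have hfC : ∀ g, f g ∈ C := by
      intro g
      show g ^ n ∈ C
      have e : n = 2 ^ a * 2 ^ (c - 1) := by
        rw [hn, ← pow_add]
        congr 1
        omega
      rw [e, pow_mul]
      exact pow_mem (hpowC g) _
    have hf : ∀ g, f (α g) = f g := by
      intro g
      have h1 : f (α g) = α (f g) := by
        show (α g) ^ n = α (g ^ n)
        rw [map_pow]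
      rw [h1, hfixC _ (hfC g)]
    have hexpn : ∀ g : X, g ^ n = 1 := hom_trivial hX hm hq2 hαq hα1 f hf
    obtain ⟨N, hNn, hNc, hQc⟩ := id hm
    have hCN : C ≤ N := by
      rw [hC]
      exact (cyclic_commutator hm).2 N hNn hQc
    have hnpos : 0 < n := by rw [hn]; positivity
    have h1 : Nat.card N ≤ n := card_cyclic_le' hnpos (fun z => Subtype.ext (by simpa using hexpn z))
    have h2 : Nat.card (X ⧸ N) ≤ 2 ^ a := card_cyclic_le' (by positivity) (fun z => by
      obtain ⟨g, rfl⟩ := QuotientGroup.mk_surjective z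
      rw [← QuotientGroup.mk_pow, QuotientGroup.eq_one_iff]
      exact hCN (hpowC g))
    have h3 : Nat.card X ≤ 2 ^ a * n := by
      rw [Subgroup.card_eq_card_quotient_mul_card_subgroup N]
      exact Nat.mul_le_mul h2 h1
    rw [hcardX, hn] at h3
    have h4 : 2 ^ a * 2 ^ a * 2 ^ c = 2 ^ (a + a + c) := by
      rw [pow_add, pow_add]
    have h5 : 2 ^ a * 2 ^ (a + c - 1) = 2 ^ (a + (a + c - 1)) := by
      rw [pow_add]
    rw [h4, h5] at h3
    have h6 := (Nat.pow_le_pow_iff_right (by norm_num : 1 < 2)).mp h3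
    omega
  subst ha1
  -- class two calculus
  have hcl : ∀ u v : X, ⁅u, v⁆ ∈ center X := by
    intro u v
    rw [mem_center_iff]
    intro g
    exact hcentral _ (hmemC u v) g
  have hCsq : ∀ z ∈ C, z ^ 2 = 1 := by
    intro z hz
    have hle : C ≤ (⊤ : Subgroup X) := le_top
    have hclosure : C ≤ (⟨⟨⟨{w | w ^ 2 = 1 ∧ w ∈ C}, ?_⟩, ?_⟩, ?_⟩ : Subgroup X) := ?_
    · exact (hclosure hz).1
    · rintro u v ⟨hu, huC⟩ ⟨hv, hvC⟩
      refine ⟨?_, mul_mem huC hvC⟩
      have h1 : Commute u v := (hcentral _ huC v).symm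
      rw [h1.mul_pow, hu, hv, one_mul]
    · exact ⟨one_pow _, one_mem _⟩
    · rintro u ⟨hu, huC⟩
      exact ⟨by rw [inv_pow, hu, inv_one], inv_mem huC⟩
    · conv_lhs => rw [hC]
      rw [_root_.commutator_def, Subgroup.commutator_le]
      intro u _ v _
      refine ⟨?_, hmemC u v⟩
      rw [← Cfsg.Agent.Lib.Class2Det.comm_pow_left hcl]
      have h1 : (u ^ 2) ∈ C := by
        have := hpowC u
        simpa using this
      rw [Cfsg.Agent.Lib.Class2Det.comm_central_left (Subgroup.mem_center_iff.mpr (fun g => hcentral _ h1 g))]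
  obtain ⟨t₀, ht₀⟩ := hCcyc.exists_generator
  obtain ⟨t, ht⟩ : ∃ t : X, t = t₀ := ⟨_, rfl⟩
  have htC : t ∈ C := by rw [ht]; exact t₀.2
  have hgen : ∀ z ∈ C, z = 1 ∨ z = t := by
    intro z hz
    obtain ⟨k, hk⟩ := ht₀ ⟨z, hz⟩
    have h1 : z ∈ zpowers t := ⟨k, by rw [ht]; exact congrArg Subtype.val hk⟩
    obtain ⟨n, rfl⟩ := exists_nat_of_mem h1
    have h2 := hCsq t htC
    rcases Nat.even_or_odd' n with ⟨m, rfl | rfl⟩
    · left
      rw [pow_mul, h2, one_pow]
    · right
      rw [pow_succ, pow_mul, h2, one_pow, one_mul]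
  have ht1 : t ≠ 1 := by
    intro h
    apply hCne
    rw [eq_bot_iff]
    intro z hz
    rcases hgen z hz with h1 | h1
    · exact h1
    · rw [h1, h]; exact one_mem _
  -- the group `Y`
  have hYexp : ∀ u : Y, u ^ 2 = 1 := by
    intro u
    simpa using hexpY u
  have hYc : Nat.card Y ≤ 4 := by
    rw [hcardY]
    norm_num
  have hYfix : ∀ u, β u = u → u = 1 := by
    intro u hu
    by_contra hu1
    exact hβ1 (by
      ext w
      exact fix_all hYc hYexp (odd_q hq2) hβq hu hu1 w)
  have hcomm_false : ∀ g h : X, π g ≠ 1 → π h ≠ 1 → π g ≠ π h → g * h ≠ h * g := by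
    intro g h hg hh hgh he
    have hall : ∀ S : Subgroup X, g ∈ S → h ∈ S → C ≤ S → S = ⊤ := by
      intro S hgS hhS hCS
      rw [eq_top_iff]
      intro z _
      have hdecomp : ∃ b ∈ S, π z = π b := by
        rcases exhaust hYc hYexp hg hh hgh (π z) with h1 | h1 | h1 | h1
        · exact ⟨1, one_mem _, by rw [h1, map_one]⟩
        · exact ⟨g, hgS, h1⟩
        · exact ⟨h, hhS, h1⟩
        · exact ⟨g * h, mul_mem hgS hhS, by rw [h1, map_mul]⟩
      obtain ⟨b, hb, e⟩ := hdecomp
      have h1 : b⁻¹ * z ∈ C := by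
        rw [← hπk, map_mul, map_inv, e]
        group
      have h2 : z = b * (b⁻¹ * z) := by group
      rw [h2]
      exact mul_mem hb (hCS h1)
    have hgc : g ∈ center X := by
      have h1 := hall (centralizer ({g} : Set X))
        (by rw [mem_centralizer_singleton_iff]) (by rw [mem_centralizer_singleton_iff]; exact he.symm)
        (fun c hc => by
          rw [mem_centralizer_singleton_iff]
          exact (hcentral c hc g).symm)
      rw [mem_center_iff]
      intro z
      have h2 : z ∈ centralizer ({g} : Set X) := by rw [h1]; trivial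
      rw [mem_centralizer_singleton_iff] at h2
      exact h2
    have hhc : h ∈ center X := by
      have h1 := hall (centralizer ({h} : Set X))
        (by rw [mem_centralizer_singleton_iff]; exact he)
        (by rw [mem_centralizer_singleton_iff])
        (fun c hc => by
          rw [mem_centralizer_singleton_iff]
          exact (hcentral c hc h).symm)
      rw [mem_center_iff]
      intro z
      have h2 : z ∈ centralizer ({h} : Set X) := by rw [h1]; trivial
      rw [mem_centralizer_singleton_iff] at h2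
      exact h2
    have h1 := hall (center X) hgc hhc (fun c hc => by
      rw [mem_center_iff]
      exact fun g => hcentral c hc g)
    apply hna
    intro u v
    have hu : u ∈ center X := by rw [h1]; trivial
    exact (mem_center_iff.mp hu v).symm
  -- the squares
  have hclaim : ∀ w, w ∉ C → w ^ 2 = t := by
    intro w hw
    have hYinv : ∀ u : Y, u⁻¹ = u := inv_of_exp hYexp
    let m : Y → Y := fun u => u * β u
    have hmi : Function.Injective m := by
      intro u v h
      have h1 : u * β u = v * β v := h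
      have h2 : β (u * v⁻¹) = u * v⁻¹ := by
        rw [map_mul, map_inv, hYinv, hYinv]
        have h3 : β u = u⁻¹ * (v * β v) := by rw [← h1]; group
        rw [h3, hYinv]
        calc u * (v * β v) * β v = u * v * (β v * β v) := by group
          _ = u * v := by rw [← pow_two, hYexp, mul_one]
      have h3 := hYfix _ h2
      exact mul_inv_eq_one.mp h3
    have hms : Function.Surjective m := Finite.surjective_of_injective hmi
    obtain ⟨u, hu⟩ := hms (π w)
    obtain ⟨g, rfl⟩ := hπs u
    have hu' : π w = π (g * α g) := by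
      rw [← hu]
      show π g * β (π g) = _
      rw [hβ, map_mul]
    have hζ : (g * α g)⁻¹ * w ∈ C := by
      rw [← hπk, map_mul, map_inv, hu']
      group
    obtain ⟨ζ, hζd⟩ : ∃ ζ, ζ = (g * α g)⁻¹ * w := ⟨_, rfl⟩
    rw [← hζd] at hζ
    have hwd : w = (g * α g) * ζ := by rw [hζd]; group
    have hg1 : π g ≠ 1 := by
      intro h
      apply hw
      rw [← hπk, hu', map_mul, ← hβ, h]
      simp
    have hh1 : π (α g) ≠ 1 := by
      rw [← hβ]
      intro h
      exact hg1 (by simpa using h)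
    have hgh : π g ≠ π (α g) := by
      intro h
      rw [← hβ] at h
      exact hg1 (hYfix _ h.symm)
    have hne := hcomm_false g (α g) hg1 hh1 hgh
    -- the square
    have hg2C : g ^ 2 ∈ C := by
      have := hpowC g
      simpa using this
    have hαg2 : (α g) ^ 2 = g ^ 2 := by
      rw [← map_pow, hfixC _ hg2C]
    have h2 := hpowform g (α g) 2
    rw [show (2 : ℕ).choose 2 = 1 from rfl, pow_one, hαg2] at h2
    have h3 : (g * α g) ^ 2 = ⁅(α g)⁻¹, g⁻¹⁆ := by
      rw [h2, ← pow_add, show 2 + 2 = 2 * 2 from rfl, pow_mul, hCsq _ hg2C, one_mul]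
    have h4 : ⁅(α g)⁻¹, g⁻¹⁆ ≠ 1 := by
      intro h
      apply hne
      have := hcomm' g (α g)
      rw [h, mul_one] at this
      exact this.symm
    have h5 : ⁅(α g)⁻¹, g⁻¹⁆ = t := by
      rcases hgen _ (hmemC _ _) with h6 | h6
      · exact absurd h6 h4
      · exact h6
    rw [hwd]
    have h6 : Commute (g * α g) ζ := (hcentral ζ hζ _)
    rw [h6.mul_pow, hCsq ζ hζ, mul_one, h3, h5]
  have huniq : ∀ x y : X, orderOf x = 2 → orderOf y = 2 → x = y := by
    have key : ∀ x : X, orderOf x = 2 → x = t := by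
      intro x hx
      have h1 : x ^ 2 = 1 := by rw [← hx]; exact pow_orderOf_eq_one x
      have h2 : x ≠ 1 := by
        rintro rfl
        simp at hx
      have h3 : x ∈ C := by
        by_contra h
        have h4 := hclaim x h
        rw [h1] at h4
        exact ht1 h4.symm
      rcases hgen x h3 with h4 | h4
      · exact absurd h4 h2
      · exact h4
    intro x y hx hy
    rw [key x hx, key y hy]
  exact Cfsg.Agent.Lib.ExtraThreeAct.quat_of_aut hX huniq α (q := q) (m := 1) hq2 (by simpa using hαq) hα1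

/-- **The main theorem.** -/
theorem main (hX : IsPGroup 2 X) (hm : IsMetacyclic X) (hA : ¬ IsPGroup 2 (MulAut X)) :
    Nonempty (X ≃* QuaternionGroup 2) ∨
      ∃ n : ℕ, Nonempty (X ≃* Multiplicative (ZMod (2 ^ n)) × Multiplicative (ZMod (2 ^ n))) := by
  haveI : Fact (Nat.Prime 2) := ⟨Nat.prime_two⟩
  -- an automorphism of odd prime order
  obtain ⟨r, hr, hr2, hrd⟩ : ∃ r : ℕ, r.Prime ∧ r ≠ 2 ∧ r ∣ Nat.card (MulAut X) := by
    by_contra hcon
    push Not at hcon
    apply hA
    have h1 := Nat.eq_prime_pow_of_unique_prime_dvd (n := Nat.card (MulAut X)) Nat.card_pos.ne'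
      (fun {d} hd hdd => by
        by_contra hne
        exact hcon d hd hne hdd)
    exact IsPGroup.of_card h1
  haveI : Fact r.Prime := ⟨hr⟩
  obtain ⟨α, hα⟩ := exists_prime_orderOf_dvd_card' r hrd
  have hαq : α ^ r = 1 := by rw [← hα]; exact pow_orderOf_eq_one α
  have hα1 : α ≠ 1 := by
    rintro rfl
    rw [orderOf_one] at hα
    exact hr.one_lt.ne hα
  by_cases hcomm : ∀ x y : X, x * y = y * x
  · right
    obtain ⟨a, ha, x, y, hx, hy, hinf, hsup, -⟩ := abelian_main hX hm hr2 hαq hα1 hcomm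
    exact ⟨a, abelian_final hcomm hx hy hinf hsup⟩
  · left
    exact nonabelian_main hX hm hr2 hαq hα1 hcomm

end Main

end Cfsg.Agent.Lib.MetaTwo
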