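import Mathlib
import Cfsg.Prelude.Def_OddOrderLocal
import Cfsg.Prelude.Def_BaumannBlocks
import Cfsg.Agent.Lib.Frat

/-!
# Metacyclic `p`-groups, `p` odd

Let `G = ⟨a⟩⟨b⟩`, `⟨a⟩` normal, `b a b⁻¹ = a ^ u`, `u ≡ 1 mod p`, `c = a ^ (u - 1)` of order `p ^ n`.
The map `θ (a ^ i * b ^ j) = (i, 1 + u + ... + u ^ (j - 1))`, with values in `(ℤ/p^n)²`, satisfies
`θ (g * h) = θ g + χ g • θ h` for a character `χ ≡ 1 mod p`, and `g`, `h` commute iff the standard symplectic form
vanishes on `θ g, θ h`.  This reduces everything on subgroups containing the centre to linear algebra in `(ℤ/p^n)²`.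
-/

set_option autoImplicit false
set_option linter.style.haveILetI false
set_option linter.unusedSectionVars false
set_option linter.unusedVariables false

namespace Cfsg.Agent.Lib.Metacyclic

open scoped commutatorElement

/-! ### Arithmetic of geometric sums -/

section arith

/-- The geometric sum `1 + w + ... + w ^ (m - 1)`. -/
def gs {R : Type*} [Semiring R] (w : R) (m : ℕ) : R := ∑ k ∈ Finset.range m, w ^ k

variable {R : Type*} [Semiring R]

@[simp] theorem gs_zero (w : R) : gs w 0 = 0 := by simp [gs]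

@[simp] theorem gs_one (w : R) : gs w 1 = 1 := by simp [gs]

theorem gs_succ (w : R) (m : ℕ) : gs w (m + 1) = gs w m + w ^ m := by
  simp [gs, Finset.sum_range_succ]

theorem gs_add (w : R) (m l : ℕ) : gs w (m + l) = gs w m + w ^ m * gs w l := by
  induction l with
  | zero => simp
  | succ l ih =>
    rw [← add_assoc, gs_succ, ih, gs_succ, mul_add, ← pow_add, add_assoc]

theorem gs_natCast (u m : ℕ) : ((gs u m : ℕ) : R) = gs (u : R) m := by
  simp [gs]

/-- `u ^ j = 1 + (u - 1) * gs u j`. -/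
theorem pow_eq_one_add (w j : ℕ) : (w + 1) ^ j = 1 + w * gs (w + 1) j := by
  induction j with
  | zero => simp
  | succ j ih =>
    rw [gs_succ, pow_succ, ih]
    ring_nf

/-- Lifting the exponent for geometric sums. -/
theorem dvd_gs_iff {p : ℕ} [hp : Fact p.Prime] (hp2 : p ≠ 2) {u : ℕ} (hu : (u : ZMod p) = 1) (k m : ℕ) :
    p ^ k ∣ gs u m ↔ p ^ k ∣ m := by
  have hpp := hp.out
  have hodd : Odd p := hpp.odd_of_ne_two hp2
  rcases m.eq_zero_or_pos with rfl | hm
  · simp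
  have hu0 : u ≠ 0 := by
    rintro rfl
    simp at hu
  rcases eq_or_ne u 1 with rfl | hu1
  · have : gs (1 : ℕ) m = m := by simp [gs]
    rw [this]
  have hu2 : 1 < u := by omega
  have hdvd : p ∣ u - 1 := by
    rw [← ZMod.natCast_eq_zero_iff, Nat.cast_sub hu2.le, hu]
    simp
  have hnd : ¬ p ∣ u := by
    intro h
    rw [← ZMod.natCast_eq_zero_iff, hu] at h
    exact one_ne_zero h
  have hval := padicValNat.pow_sub_pow (p := p) hodd hu2 hdvd hnd (n := m) hm.ne'
  rw [one_pow] at hval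
  obtain ⟨w, rfl⟩ : ∃ w, u = w + 1 := ⟨u - 1, by omega⟩
  have hw : w ≠ 0 := by omega
  have hS : gs (w + 1) m ≠ 0 := by
    have h1 := pow_eq_one_add w m
    intro h0
    rw [h0, mul_zero, add_zero] at h1
    have : 1 < (w + 1) ^ m := Nat.one_lt_pow hm.ne' (by omega)
    omega
  have e : (w + 1) ^ m - 1 = w * gs (w + 1) m := by
    rw [pow_eq_one_add w m]; omega
  have e2 : w + 1 - 1 = w := by omega
  rw [e, e2, padicValNat.mul hw hS] at hval
  have hval' : padicValNat p (gs (w + 1) m) = padicValNat p m := by omega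
  rw [padicValNat_dvd_iff_le hS, padicValNat_dvd_iff_le hm.ne', hval']

end arith

/-! ### Linear algebra in `(ℤ/p^n)²` -/

section linear

variable {p n : ℕ} [hp : Fact p.Prime]

instance instNeZeroPow : NeZero (p ^ n) := ⟨pow_ne_zero _ hp.out.ne_zero⟩

/-- The standard symplectic form. -/
def om (x y : ZMod (p ^ n) × ZMod (p ^ n)) : ZMod (p ^ n) := x.1 * y.2 - x.2 * y.1

theorem om_add_right (x y z : ZMod (p ^ n) × ZMod (p ^ n)) : om x (y + z) = om x y + om x z := by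
  simp only [om, Prod.fst_add, Prod.snd_add]; ring

theorem om_add_left (x y z : ZMod (p ^ n) × ZMod (p ^ n)) : om (x + y) z = om x z + om y z := by
  simp only [om, Prod.fst_add, Prod.snd_add]; ring

theorem om_smul_right (r : ZMod (p ^ n)) (x y : ZMod (p ^ n) × ZMod (p ^ n)) : om x (r • y) = r * om x y := by
  simp only [om, Prod.smul_fst, Prod.smul_snd, smul_eq_mul]; ring

theorem om_smul_left (r : ZMod (p ^ n)) (x y : ZMod (p ^ n) × ZMod (p ^ n)) : om (r • x) y = r * om x y := by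
  simp only [om, Prod.smul_fst, Prod.smul_snd, smul_eq_mul]; ring

theorem om_self (x : ZMod (p ^ n) × ZMod (p ^ n)) : om x x = 0 := by
  simp only [om]; ring

theorem om_neg_right (x y : ZMod (p ^ n) × ZMod (p ^ n)) : om x (-y) = - om x y := by
  simp only [om, Prod.fst_neg, Prod.snd_neg]; ring

theorem om_comm (x y : ZMod (p ^ n) × ZMod (p ^ n)) : om x y = - om y x := by
  simp only [om]; ring

/-- multiples of `p ^ k` in `ℤ/p^n`. -/
def I (p n k : ℕ) [Fact p.Prime] : AddSubgroup (ZMod (p ^ n)) where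
  carrier := {x | ∃ d : ZMod (p ^ n), x = ((p : ZMod (p ^ n))) ^ k * d}
  add_mem' := by
    rintro _ _ ⟨d, rfl⟩ ⟨e, rfl⟩
    exact ⟨d + e, by ring⟩
  zero_mem' := ⟨0, by ring⟩
  neg_mem' := by
    rintro _ ⟨d, rfl⟩
    exact ⟨-d, by ring⟩

theorem mem_I {k : ℕ} {x : ZMod (p ^ n)} : x ∈ I p n k ↔ ∃ d, x = (p : ZMod (p ^ n)) ^ k * d := Iff.rfl

theorem mul_mem_I {k : ℕ} {x : ZMod (p ^ n)} (r : ZMod (p ^ n)) (hx : x ∈ I p n k) : r * x ∈ I p n k := by
  obtain ⟨d, rfl⟩ := hx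
  exact ⟨r * d, by ring⟩

theorem mul_mem_I' {k : ℕ} {x : ZMod (p ^ n)} (hx : x ∈ I p n k) (r : ZMod (p ^ n)) : x * r ∈ I p n k := by
  rw [mul_comm]
  exact mul_mem_I r hx

theorem I_anti {a b : ℕ} (h : b ≤ a) : I p n a ≤ I p n b := by
  rintro _ ⟨d, rfl⟩
  obtain ⟨c, rfl⟩ := Nat.exists_eq_add_of_le h
  exact ⟨(p : ZMod (p ^ n)) ^ c * d, by ring⟩

theorem pow_n_eq_zero : (p : ZMod (p ^ n)) ^ n = 0 := by
  rw [← Nat.cast_pow]
  exact ZMod.natCast_self (p ^ n)

theorem I_eq_bot {k : ℕ} (h : n ≤ k) : I p n k = ⊥ := by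
  rw [eq_bot_iff]
  rintro _ ⟨d, rfl⟩
  obtain ⟨c, rfl⟩ := Nat.exists_eq_add_of_le h
  rw [pow_add, pow_n_eq_zero]
  simp

theorem I_zero : I p n 0 = ⊤ := by
  rw [eq_top_iff]
  intro x _
  exact ⟨x, by simp⟩

/-- Elements of `ℤ/p^n` are `p ^ k * unit`. -/
theorem exists_pow_mul_unit (x : ZMod (p ^ n)) :
    ∃ k, k ≤ n ∧ ∃ e : ZMod (p ^ n), IsUnit e ∧ x = (p : ZMod (p ^ n)) ^ k * e := by
  have hpp := hp.out
  obtain ⟨m, rfl⟩ : ∃ m : ℕ, (m : ZMod (p ^ n)) = x := ⟨x.val, ZMod.natCast_zmod_val x⟩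
  by_cases hm : (p ^ n) ∣ m
  · refine ⟨n, le_rfl, 1, isUnit_one, ?_⟩
    rw [(ZMod.natCast_eq_zero_iff m (p ^ n)).2 hm, pow_n_eq_zero, mul_one]
  · have hm0 : m ≠ 0 := by
      rintro rfl
      exact hm (dvd_zero _)
    obtain ⟨k, m', hm', rfl⟩ := Nat.exists_eq_pow_mul_and_not_dvd hm0 p hpp.ne_one
    have hk : k ≤ n := by
      by_contra hk
      push Not at hk
      exact hm (Dvd.dvd.mul_right (pow_dvd_pow p hk.le) m')
    refine ⟨k, hk, (m' : ZMod (p ^ n)), ?_, by push_cast; ring⟩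
    rw [ZMod.isUnit_iff_coprime]
    exact Nat.Coprime.pow_right _ ((Nat.Prime.coprime_iff_not_dvd hpp).2 hm').symm

theorem unit_or_dvd (e : ZMod (p ^ n)) : IsUnit e ∨ ∃ d, e = (p : ZMod (p ^ n)) * d := by
  obtain ⟨k, _, e', he', rfl⟩ := exists_pow_mul_unit e
  rcases k with _ | k
  · left
    simpa using he'
  · right
    exact ⟨(p : ZMod (p ^ n)) ^ k * e', by ring⟩

/-- Membership by annihilation. -/
theorem mem_I_iff_of_le {k : ℕ} (hk : k ≤ n) {x : ZMod (p ^ n)} :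
    x ∈ I p n k ↔ (p : ZMod (p ^ n)) ^ (n - k) * x = 0 := by
  have hpp := hp.out
  constructor
  · rintro ⟨d, rfl⟩
    rw [← mul_assoc, ← pow_add, Nat.sub_add_cancel hk, pow_n_eq_zero, zero_mul]
  · intro h
    obtain ⟨m, rfl⟩ : ∃ m : ℕ, (m : ZMod (p ^ n)) = x := ⟨x.val, ZMod.natCast_zmod_val x⟩
    have h2 : (((p ^ (n - k) * m : ℕ)) : ZMod (p ^ n)) = 0 := by
      push_cast
      exact h
    rw [ZMod.natCast_eq_zero_iff] at h2
    have h3 : p ^ n = p ^ (n - k) * p ^ k := by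
      rw [← pow_add, Nat.sub_add_cancel hk]
    rw [h3] at h2
    have h4 := Nat.dvd_of_mul_dvd_mul_left (pow_pos hpp.pos _) h2
    obtain ⟨d, rfl⟩ := h4
    exact ⟨(d : ZMod (p ^ n)), by push_cast; ring⟩

theorem pow_ne_zero_of_lt {k : ℕ} (h : k < n) : (p : ZMod (p ^ n)) ^ k ≠ 0 := by
  have hpp := hp.out
  intro h0
  rw [← Nat.cast_pow, ZMod.natCast_eq_zero_iff] at h0
  have := (Nat.pow_dvd_pow_iff_le_right hpp.one_lt).1 h0
  omega

/-- Units are not multiples of `p`. -/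
theorem not_mem_I_of_unit {k : ℕ} (hk : 0 < k) (hn : 0 < n) {e : ZMod (p ^ n)} (he : IsUnit e) : e ∉ I p n k := by
  intro h
  have h1 := (I_anti (p := p) (n := n) (a := k) (b := 1) hk) h
  obtain ⟨d, hd⟩ := h1
  obtain ⟨e', he'⟩ := he.exists_right_inv
  apply pow_ne_zero_of_lt (p := p) (n := n) (k := n - 1) (by omega)
  calc (p : ZMod (p ^ n)) ^ (n - 1) = (p : ZMod (p ^ n)) ^ (n - 1) * (e * e') := by rw [he', mul_one]
    _ = (p : ZMod (p ^ n)) ^ (n - 1 + 1) * (d * e') := by rw [hd]; ring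
    _ = 0 := by rw [Nat.sub_add_cancel hn, pow_n_eq_zero, zero_mul]

theorem I_le_iff {a b : ℕ} (ha : a ≤ n) (hb : b ≤ n) : I p n a ≤ I p n b ↔ b ≤ a := by
  constructor
  · intro h
    have h1 : (p : ZMod (p ^ n)) ^ a ∈ I p n a := ⟨1, by ring⟩
    have h2 := (mem_I_iff_of_le hb).1 (h h1)
    rw [← pow_add] at h2
    by_contra hlt
    push Not at hlt
    exact pow_ne_zero_of_lt (p := p) (n := n) (k := n - b + a) (by omega) h2
  · exact I_anti

theorem pow_mem_I_iff {a b : ℕ} (ha : a ≤ n) (hb : b ≤ n) : (p : ZMod (p ^ n)) ^ a ∈ I p n b ↔ b ≤ a := by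
  constructor
  · intro h1
    have h2 := (mem_I_iff_of_le hb).1 h1
    rw [← pow_add] at h2
    by_contra hlt
    push Not at hlt
    exact pow_ne_zero_of_lt (p := p) (n := n) (k := n - b + a) (by omega) h2
  · intro h
    exact (I_anti h) ⟨1, by ring⟩

theorem card_I {k : ℕ} (hk : k ≤ n) : Nat.card (I p n k) = p ^ (n - k) := by
  have hpp := hp.out
  have hI : I p n k = AddSubgroup.zmultiples ((p ^ k : ℕ) : ZMod (p ^ n)) := by
    ext x
    constructor
    · rintro ⟨d, rfl⟩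
      refine ⟨(d.val : ℤ), ?_⟩
      beta_reduce
      rw [zsmul_eq_mul]
      push_cast
      rw [ZMod.natCast_zmod_val]
      ring
    · rintro ⟨m, rfl⟩
      refine ⟨(m : ZMod (p ^ n)), ?_⟩
      beta_reduce
      rw [zsmul_eq_mul]
      push_cast
      ring
  rw [hI, Nat.card_zmultiples, ZMod.addOrderOf_coe _ (pow_ne_zero _ hpp.ne_zero),
    Nat.gcd_eq_right (pow_dvd_pow p hk), Nat.pow_div hk hpp.pos]

/-- Additive subgroups are closed under multiplication by `ℤ/p^n`. -/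
theorem mul_mem_sub (M : AddSubgroup (ZMod (p ^ n))) (r : ZMod (p ^ n)) {x : ZMod (p ^ n)} (hx : x ∈ M) : r * x ∈ M := by
  rw [← ZMod.natCast_zmod_val r, ← nsmul_eq_mul]
  exact M.nsmul_mem hx _

theorem smul_mem_sub (M : AddSubgroup (ZMod (p ^ n) × ZMod (p ^ n))) (r : ZMod (p ^ n)) {x : ZMod (p ^ n) × ZMod (p ^ n)}
    (hx : x ∈ M) : r • x ∈ M := by
  rw [← ZMod.natCast_zmod_val r]
  have : ((r.val : ℕ) : ZMod (p ^ n)) • x = r.val • x := by
    ext <;> simp
  rw [this]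
  exact M.nsmul_mem hx _

/-- Additive subgroups of `ℤ/p^n`. -/
theorem exists_eq_I (M : AddSubgroup (ZMod (p ^ n))) : ∃ t, t ≤ n ∧ M = I p n t := by
  classical
  let t := Nat.findGreatest (fun k => M ≤ I p n k) n
  have ht0 : M ≤ I p n t := by
    have := Nat.findGreatest_spec (P := fun k => M ≤ I p n k) (m := 0) (Nat.zero_le n) (by
      show M ≤ I p n 0
      rw [I_zero]; exact le_top)
    exact this
  have htn : t ≤ n := Nat.findGreatest_le n
  refine ⟨t, htn, le_antisymm ht0 ?_⟩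
  rcases htn.eq_or_lt with h | hlt
  · rw [h, I_eq_bot le_rfl]
    exact bot_le
  · have hnot : ¬ M ≤ I p n (t + 1) := Nat.findGreatest_is_greatest (Nat.lt_succ_self t) (by omega)
    obtain ⟨x, hxM, hx⟩ := SetLike.not_le_iff_exists.1 hnot
    obtain ⟨k, hk, e, he, rfl⟩ := exists_pow_mul_unit x
    have hkt : k = t := by
      have h1 : t ≤ k := by
        have h2 := ht0 hxM
        obtain ⟨e', he'⟩ := he.exists_right_inv
        have h3 : (p : ZMod (p ^ n)) ^ k ∈ I p n t := by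
          have := mul_mem_I e' h2
          have e2 : e' * ((p : ZMod (p ^ n)) ^ k * e) = (p : ZMod (p ^ n)) ^ k * (e * e') := by ring
          rwa [e2, he', mul_one] at this
        exact (pow_mem_I_iff hk htn).1 h3
      have h2 : ¬ t + 1 ≤ k := by
        intro h3
        apply hx
        exact mul_mem_I' (I_anti h3 ⟨1, by ring⟩) e
      omega
    subst hkt
    obtain ⟨e', he'⟩ := he.exists_right_inv
    have h3 : (p : ZMod (p ^ n)) ^ t ∈ M := by
      have := mul_mem_sub M e' hxM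
      have e2 : e' * ((p : ZMod (p ^ n)) ^ t * e) = (p : ZMod (p ^ n)) ^ t * (e * e') := by ring
      rwa [e2, he', mul_one] at this
    rintro _ ⟨d, rfl⟩
    have := mul_mem_sub M d h3
    rwa [mul_comm] at this

/-- A symplectic transformation. -/
def spMap (A B C D : ZMod (p ^ n)) (h : A * D - B * C = 1) :
    (ZMod (p ^ n) × ZMod (p ^ n)) ≃+ (ZMod (p ^ n) × ZMod (p ^ n)) where
  toFun x := (A * x.1 + B * x.2, C * x.1 + D * x.2)
  invFun x := (D * x.1 - B * x.2, - C * x.1 + A * x.2)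
  left_inv x := by
    ext
    · show D * (A * x.1 + B * x.2) - B * (C * x.1 + D * x.2) = x.1
      linear_combination x.1 * h
    · show - C * (A * x.1 + B * x.2) + A * (C * x.1 + D * x.2) = x.2
      linear_combination x.2 * h
  right_inv x := by
    ext
    · show A * (D * x.1 - B * x.2) + B * (- C * x.1 + A * x.2) = x.1
      linear_combination x.1 * h
    · show C * (D * x.1 - B * x.2) + D * (- C * x.1 + A * x.2) = x.2
      linear_combination x.2 * h
  map_add' x y := by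
    ext
    · show A * (x.1 + y.1) + B * (x.2 + y.2) = (A * x.1 + B * x.2) + (A * y.1 + B * y.2)
      ring
    · show C * (x.1 + y.1) + D * (x.2 + y.2) = (C * x.1 + D * x.2) + (C * y.1 + D * y.2)
      ring

theorem om_spMap (A B C D : ZMod (p ^ n)) (h : A * D - B * C = 1) (x y : ZMod (p ^ n) × ZMod (p ^ n)) :
    om (spMap A B C D h x) (spMap A B C D h y) = om x y := by
  show (A * x.1 + B * x.2) * (C * y.1 + D * y.2) - (C * x.1 + D * x.2) * (A * y.1 + B * y.2) = x.1 * y.2 - x.2 * y.1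
  linear_combination (x.1 * y.2 - x.2 * y.1) * h

theorem spMap_smul (A B C D : ZMod (p ^ n)) (h : A * D - B * C = 1) (r : ZMod (p ^ n)) (x : ZMod (p ^ n) × ZMod (p ^ n)) :
    spMap A B C D h (r • x) = r • spMap A B C D h x := by
  ext
  · show A * (r * x.1) + B * (r * x.2) = r * (A * x.1 + B * x.2)
    ring
  · show C * (r * x.1) + D * (r * x.2) = r * (C * x.1 + D * x.2)
    ring

/-- The box `p^s ℤ × p^t ℤ`. -/
def box (p n s t : ℕ) [Fact p.Prime] : AddSubgroup (ZMod (p ^ n) × ZMod (p ^ n)) :=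
  (I p n s).prod (I p n t)

theorem mem_box {s t : ℕ} {x : ZMod (p ^ n) × ZMod (p ^ n)} : x ∈ box p n s t ↔ x.1 ∈ I p n s ∧ x.2 ∈ I p n t :=
  Iff.rfl

theorem card_box {s t : ℕ} (hs : s ≤ n) (ht : t ≤ n) : Nat.card (box p n s t) = p ^ (n - s) * p ^ (n - t) := by
  rw [box, ← card_I hs, ← card_I ht, ← Nat.card_prod]
  exact Nat.card_congr (AddSubgroup.prodEquiv _ _).toEquiv

/-- Normal form of additive subgroups. -/
structure IsNF (M : AddSubgroup (ZMod (p ^ n) × ZMod (p ^ n))) (φ : (ZMod (p ^ n) × ZMod (p ^ n)) ≃+ (ZMod (p ^ n) × ZMod (p ^ n)))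
    (s t : ℕ) : Prop where
  hs : s ≤ n
  ht : t ≤ n
  hst : s ≤ t
  hom : ∀ x y, om (φ x) (φ y) = om x y
  hmem : ∀ x, x ∈ M ↔ φ x ∈ box p n s t
  hsmul : ∀ (r : ZMod (p ^ n)) x, φ (r • x) = r • φ x

theorem exists_normal_form (M : AddSubgroup (ZMod (p ^ n) × ZMod (p ^ n))) : ∃ φ s t, IsNF M φ s t := by
  classical
  let s := Nat.findGreatest (fun k => ∀ x ∈ M, x ∈ box p n k k) n
  have hs0 : ∀ x ∈ M, x ∈ box p n s s := by
    have := Nat.findGreatest_spec (P := fun k => ∀ x ∈ M, x ∈ box p n k k) (m := 0) (Nat.zero_le n) (by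
      intro x _
      rw [mem_box, I_zero]
      exact ⟨trivial, trivial⟩)
    exact this
  have hsn : s ≤ n := Nat.findGreatest_le n
  rcases hsn.eq_or_lt with hsn' | hlt
  · -- `M` is trivial
    refine ⟨AddEquiv.refl _, s, s, ⟨hsn, hsn, le_rfl, fun _ _ => rfl, ?_, fun _ _ => rfl⟩⟩
    intro x
    constructor
    · exact fun hx => hs0 x hx
    · intro hx
      rw [hsn', mem_box, I_eq_bot le_rfl] at hx
      have : x = 0 := by
        ext
        · exact hx.1
        · exact hx.2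
      rw [this]
      exact M.zero_mem
  · have hnot : ¬ ∀ x ∈ M, x ∈ box p n (s + 1) (s + 1) :=
      Nat.findGreatest_is_greatest (Nat.lt_succ_self s) (by omega)
    push Not at hnot
    obtain ⟨y, hyM, hy⟩ := hnot
    obtain ⟨⟨e, he⟩, ⟨f, hf⟩⟩ := hs0 y hyM
    -- unimodular vector
    have hunit : IsUnit e ∨ IsUnit f := by
      by_contra hnu
      push Not at hnu
      apply hy
      constructor
      · rw [he]
        obtain ⟨d, rfl⟩ := (unit_or_dvd e).resolve_left hnu.1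
        exact ⟨d, by ring⟩
      · rw [hf]
        obtain ⟨d, rfl⟩ := (unit_or_dvd f).resolve_left hnu.2
        exact ⟨d, by ring⟩
    -- the symplectic map
    obtain ⟨A, B, C, D, hdet, h1, h2⟩ : ∃ A B C D : ZMod (p ^ n), A * D - B * C = 1 ∧ A * e + B * f = 1 ∧ C * e + D * f = 0 := by
      rcases hunit with ⟨e', rfl⟩ | ⟨f', rfl⟩
      · refine ⟨↑e'⁻¹, 0, -f, e', ?_, ?_, ?_⟩
        · simp
        · simp
        · ring
      · refine ⟨0, ↑f'⁻¹, -f', e, ?_, ?_, ?_⟩
        · simp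
        · simp
        · ring
    let φ := spMap A B C D hdet
    have hφy : φ y = ((p : ZMod (p ^ n)) ^ s, 0) := by
      ext
      · show A * y.1 + B * y.2 = _
        rw [he, hf]
        linear_combination (p : ZMod (p ^ n)) ^ s * h1
      · show C * y.1 + D * y.2 = _
        rw [he, hf]
        linear_combination (p : ZMod (p ^ n)) ^ s * h2
    -- second factor
    let M₂ : AddSubgroup (ZMod (p ^ n)) :=
      { carrier := {z | φ.symm (0, z) ∈ M}
        add_mem' := by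
          intro a b ha hb
          have : φ.symm (0, a + b) = φ.symm (0, a) + φ.symm (0, b) := by
            rw [← map_add]
            simp
          show φ.symm (0, a + b) ∈ M
          rw [this]
          exact M.add_mem ha hb
        zero_mem' := by
          show φ.symm (0, 0) ∈ M
          have : ((0 : ZMod (p ^ n)), (0 : ZMod (p ^ n))) = 0 := rfl
          rw [this, map_zero]
          exact M.zero_mem
        neg_mem' := by
          intro a ha
          have : φ.symm (0, -a) = - φ.symm (0, a) := by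
            rw [← map_neg]
            simp
          show φ.symm (0, -a) ∈ M
          rw [this]
          exact M.neg_mem ha }
    obtain ⟨t, htn, hM₂⟩ := exists_eq_I M₂
    have hpres : ∀ x, x ∈ box p n s s → φ x ∈ box p n s s := by
      intro x hx
      constructor
      · exact AddSubgroup.add_mem _ (mul_mem_I _ hx.1) (mul_mem_I _ hx.2)
      · exact AddSubgroup.add_mem _ (mul_mem_I _ hx.1) (mul_mem_I _ hx.2)
    have hst : s ≤ t := by
      have h1 : (p : ZMod (p ^ n)) ^ t ∈ M₂ := by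
        rw [hM₂]
        exact ⟨1, by ring⟩
      have h2 : φ.symm (0, (p : ZMod (p ^ n)) ^ t) ∈ M := h1
      have h3 := hpres _ (hs0 _ h2)
      rw [AddEquiv.apply_symm_apply] at h3
      exact (pow_mem_I_iff htn hsn).1 h3.2
    refine ⟨φ, s, t, ⟨hsn, htn, hst, om_spMap A B C D hdet, ?_, spMap_smul A B C D hdet⟩⟩
    intro x
    constructor
    · intro hx
      have h1 := (hpres _ (hs0 x hx)).1
      refine ⟨h1, ?_⟩
      obtain ⟨d, hd⟩ := h1
      rw [← hM₂]
      have h2 : x - d • y ∈ M := M.sub_mem hx (smul_mem_sub M d hyM)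
      have h3 : φ (x - d • y) = (0, (φ x).2) := by
        rw [map_sub, spMap_smul A B C D hdet, hφy]
        ext
        · show (φ x).1 - d * (p : ZMod (p ^ n)) ^ s = 0
          rw [hd]; ring
        · show (φ x).2 - d * 0 = (φ x).2
          ring
      show φ.symm (0, (φ x).2) ∈ M
      rw [← h3, AddEquiv.symm_apply_apply]
      exact h2
    · rintro ⟨⟨d, hd⟩, h2⟩
      rw [← hM₂] at h2
      have h3 : φ.symm (0, (φ x).2) ∈ M := h2
      have h4 : x = d • y + φ.symm (0, (φ x).2) := by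
        apply φ.injective
        rw [map_add, spMap_smul A B C D hdet, hφy, AddEquiv.apply_symm_apply]
        ext
        · show (φ x).1 = d * (p : ZMod (p ^ n)) ^ s + 0
          rw [hd]; ring
        · show (φ x).2 = d * 0 + (φ x).2
          ring
      rw [h4]
      exact M.add_mem (smul_mem_sub M d hyM) h3

/-- The perpendicular of an additive subgroup. -/
def perp (M : AddSubgroup (ZMod (p ^ n) × ZMod (p ^ n))) : AddSubgroup (ZMod (p ^ n) × ZMod (p ^ n)) where
  carrier := {y | ∀ x ∈ M, om x y = 0}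
  add_mem' := by
    intro a b ha hb x hx
    rw [om_add_right, ha x hx, hb x hx, add_zero]
  zero_mem' := by
    intro x _
    have : (0 : ZMod (p ^ n) × ZMod (p ^ n)) = (0 : ZMod (p ^ n)) • (0 : ZMod (p ^ n) × ZMod (p ^ n)) := by simp
    rw [this, om_smul_right, zero_mul]
  neg_mem' := by
    intro a ha x hx
    rw [om_neg_right, ha x hx, neg_zero]

theorem mem_perp {M : AddSubgroup (ZMod (p ^ n) × ZMod (p ^ n))} {y : ZMod (p ^ n) × ZMod (p ^ n)} :
    y ∈ perp M ↔ ∀ x ∈ M, om x y = 0 := Iff.rfl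

/-- The perpendicular in normal form. -/
theorem mem_perp_iff {M : AddSubgroup (ZMod (p ^ n) × ZMod (p ^ n))} {φ} {s t : ℕ} (h : IsNF M φ s t)
    (y : ZMod (p ^ n) × ZMod (p ^ n)) : y ∈ perp M ↔ φ y ∈ box p n (n - t) (n - s) := by
  constructor
  · intro hy
    have h1 : ∀ z, φ z ∈ box p n s t → om (φ z) (φ y) = 0 := by
      intro z hz
      rw [h.hom]
      exact hy z ((h.hmem z).2 hz)
    obtain ⟨u₁, hu₁⟩ := φ.surjective ((p : ZMod (p ^ n)) ^ s, 0)
    obtain ⟨u₂, hu₂⟩ := φ.surjective (0, (p : ZMod (p ^ n)) ^ t)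
    have h2 := h1 u₁ (by
      rw [hu₁]
      exact ⟨⟨1, by ring⟩, AddSubgroup.zero_mem _⟩)
    have h3 := h1 u₂ (by
      rw [hu₂]
      exact ⟨AddSubgroup.zero_mem _, ⟨1, by ring⟩⟩)
    rw [hu₁] at h2
    rw [hu₂] at h3
    refine mem_box.2 ⟨?_, ?_⟩
    · rw [mem_I_iff_of_le (Nat.sub_le _ _), Nat.sub_sub_self h.ht]
      have : om (0, (p : ZMod (p ^ n)) ^ t) (φ y) = - ((p : ZMod (p ^ n)) ^ t * (φ y).1) := by
        simp only [om]; ring
      rw [this, neg_eq_zero] at h3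
      exact h3
    · rw [mem_I_iff_of_le (Nat.sub_le _ _), Nat.sub_sub_self h.hs]
      have : om ((p : ZMod (p ^ n)) ^ s, 0) (φ y) = (p : ZMod (p ^ n)) ^ s * (φ y).2 := by
        simp only [om]; ring
      rw [this] at h2
      exact h2
  · intro hy x hx
    rw [← h.hom]
    have hx' := (h.hmem x).1 hx
    obtain ⟨⟨d₁, hd₁⟩, ⟨d₂, hd₂⟩⟩ := hx'
    obtain ⟨⟨e₁, he₁⟩, ⟨e₂, he₂⟩⟩ := hy
    simp only [om]
    rw [hd₁, hd₂, he₁, he₂]
    have h1 : (p : ZMod (p ^ n)) ^ s * (p : ZMod (p ^ n)) ^ (n - s) = 0 := by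
      rw [← pow_add, Nat.add_sub_cancel' h.hs, pow_n_eq_zero]
    have h2 : (p : ZMod (p ^ n)) ^ t * (p : ZMod (p ^ n)) ^ (n - t) = 0 := by
      rw [← pow_add, Nat.add_sub_cancel' h.ht, pow_n_eq_zero]
    linear_combination (d₁ * e₂) * h1 - (d₂ * e₁) * h2

theorem card_of_NF {M : AddSubgroup (ZMod (p ^ n) × ZMod (p ^ n))} {φ} {s t : ℕ} (h : IsNF M φ s t) :
    Nat.card M = p ^ (n - s) * p ^ (n - t) := by
  rw [← card_box h.hs h.ht]
  refine Nat.card_congr ⟨fun x => ⟨φ x, (h.hmem x).1 x.2⟩, fun x => ⟨φ.symm x, (h.hmem _).2 (by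
    rw [AddEquiv.apply_symm_apply]; exact x.2)⟩, ?_, ?_⟩
  · intro x
    apply Subtype.ext
    simp
  · intro x
    apply Subtype.ext
    simp

/-- The normal form of the perpendicular (without the ordering). -/
theorem card_perp_of_NF {M : AddSubgroup (ZMod (p ^ n) × ZMod (p ^ n))} {φ} {s t : ℕ} (h : IsNF M φ s t) :
    Nat.card (perp M) = p ^ t * p ^ s := by
  rw [← Nat.sub_sub_self h.ht, ← Nat.sub_sub_self h.hs, Nat.sub_sub_self h.ht, Nat.sub_sub_self h.hs]
  have h1 := card_box (p := p) (n := n) (s := n - t) (t := n - s) (Nat.sub_le _ _) (Nat.sub_le _ _)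
  rw [Nat.sub_sub_self h.ht, Nat.sub_sub_self h.hs] at h1
  rw [← h1]
  refine Nat.card_congr ⟨fun x => ⟨φ x, (mem_perp_iff h x).1 x.2⟩, fun x => ⟨φ.symm x, (mem_perp_iff h _).2 (by
    rw [AddEquiv.apply_symm_apply]; exact x.2)⟩, ?_, ?_⟩
  · intro x
    apply Subtype.ext
    simp
  · intro x
    apply Subtype.ext
    simp

/-- **F1**: `|M| |M^⊥| = p ^ (2 n)`. -/
theorem card_mul_card_perp (M : AddSubgroup (ZMod (p ^ n) × ZMod (p ^ n))) :
    Nat.card M * Nat.card (perp M) = p ^ (2 * n) := by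
  obtain ⟨φ, s, t, h⟩ := exists_normal_form M
  rw [card_of_NF h, card_perp_of_NF h]
  have h1 : p ^ (n - s) * p ^ (n - t) * (p ^ t * p ^ s) = p ^ (n - s + (n - t) + (t + s)) := by
    rw [pow_add, pow_add, pow_add]
  rw [h1]
  congr 1
  have := h.hs
  have := h.ht
  omega

/-- **F2**: `M^⊥⊥ = M`. -/
theorem perp_perp (M : AddSubgroup (ZMod (p ^ n) × ZMod (p ^ n))) : perp (perp M) = M := by
  obtain ⟨φ, s, t, h⟩ := exists_normal_form M
  ext y
  constructor
  · intro hy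
    rw [h.hmem]
    -- test against the basis vectors of the perpendicular
    obtain ⟨u₁, hu₁⟩ := φ.surjective ((p : ZMod (p ^ n)) ^ (n - t), 0)
    obtain ⟨u₂, hu₂⟩ := φ.surjective (0, (p : ZMod (p ^ n)) ^ (n - s))
    have h1 : u₁ ∈ perp M := by
      rw [mem_perp_iff h, hu₁]
      exact ⟨⟨1, by ring⟩, AddSubgroup.zero_mem _⟩
    have h2 : u₂ ∈ perp M := by
      rw [mem_perp_iff h, hu₂]
      exact ⟨AddSubgroup.zero_mem _, ⟨1, by ring⟩⟩
    have h3 := hy u₁ h1
    have h4 := hy u₂ h2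
    rw [← h.hom, hu₁] at h3
    rw [← h.hom, hu₂] at h4
    refine mem_box.2 ⟨?_, ?_⟩
    · rw [mem_I_iff_of_le h.hs]
      have : om (0, (p : ZMod (p ^ n)) ^ (n - s)) (φ y) = - ((p : ZMod (p ^ n)) ^ (n - s) * (φ y).1) := by
        simp only [om]; ring
      rw [this, neg_eq_zero] at h4
      exact h4
    · rw [mem_I_iff_of_le h.ht]
      have : om ((p : ZMod (p ^ n)) ^ (n - t), 0) (φ y) = (p : ZMod (p ^ n)) ^ (n - t) * (φ y).2 := by
        simp only [om]; ring
      rw [this] at h3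
      exact h3
  · intro hy x hx
    rw [om_comm, hx y hy, neg_zero]

/-- **F3**: isotropic iff small. -/
theorem isotropic_iff (M : AddSubgroup (ZMod (p ^ n) × ZMod (p ^ n))) :
    (∀ x ∈ M, ∀ y ∈ M, om x y = 0) ↔ Nat.card M ≤ p ^ n := by
  obtain ⟨φ, s, t, h⟩ := exists_normal_form M
  have hs := h.hs
  have ht := h.ht
  have hpp := hp.out
  rw [card_of_NF h, ← pow_add, Nat.pow_le_pow_iff_right hpp.one_lt]
  constructor
  · intro hiso
    -- `M ≤ M^⊥`
    by_contra hlt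
    push Not at hlt
    obtain ⟨u₁, hu₁⟩ := φ.surjective ((p : ZMod (p ^ n)) ^ s, 0)
    obtain ⟨u₂, hu₂⟩ := φ.surjective (0, (p : ZMod (p ^ n)) ^ t)
    have h1 : u₁ ∈ M := by
      rw [h.hmem, hu₁]
      exact ⟨⟨1, by ring⟩, AddSubgroup.zero_mem _⟩
    have h2 : u₂ ∈ M := by
      rw [h.hmem, hu₂]
      exact ⟨AddSubgroup.zero_mem _, ⟨1, by ring⟩⟩
    have h3 := hiso u₁ h1 u₂ h2
    rw [← h.hom, hu₁, hu₂] at h3
    simp only [om] at h3
    rw [mul_zero, sub_zero, ← pow_add] at h3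
    exact pow_ne_zero_of_lt (p := p) (n := n) (k := s + t) (by omega) h3
  · intro hle x hx y hy
    rw [← h.hom]
    obtain ⟨⟨d₁, hd₁⟩, ⟨d₂, hd₂⟩⟩ := (h.hmem x).1 hx
    obtain ⟨⟨e₁, he₁⟩, ⟨e₂, he₂⟩⟩ := (h.hmem y).1 hy
    simp only [om]
    rw [hd₁, hd₂, he₁, he₂]
    have h0 : (p : ZMod (p ^ n)) ^ s * (p : ZMod (p ^ n)) ^ t = 0 := by
      rw [← pow_add]
      obtain ⟨c, hc⟩ := Nat.exists_eq_add_of_le (show n ≤ s + t by omega)
      rw [hc, pow_add, pow_n_eq_zero, zero_mul]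
    linear_combination (d₁ * e₂ - d₂ * e₁) * h0

/-- **F5**: a non-isotropic subgroup contains its perpendicular. -/
theorem perp_le_of_not_isotropic {M : AddSubgroup (ZMod (p ^ n) × ZMod (p ^ n))}
    (hM : ¬ ∀ x ∈ M, ∀ y ∈ M, om x y = 0) : perp M ≤ M := by
  obtain ⟨φ, s, t, h⟩ := exists_normal_form M
  have hs := h.hs
  have ht := h.ht
  have hpp := hp.out
  rw [isotropic_iff, not_le, card_of_NF h, ← pow_add, Nat.pow_lt_pow_iff_right hpp.one_lt] at hM
  intro y hy
  rw [h.hmem]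
  rw [mem_perp_iff h] at hy
  exact ⟨I_anti (by omega) hy.1, I_anti (by omega) hy.2⟩

/-- **F6**: basis vectors for non-isotropic subgroups. -/
theorem exists_basis_of_not_isotropic {M : AddSubgroup (ZMod (p ^ n) × ZMod (p ^ n))}
    (hM : ¬ ∀ x ∈ M, ∀ y ∈ M, om x y = 0) :
    ∃ (y₁ y₂ : ZMod (p ^ n) × ZMod (p ^ n)) (s t : ℕ), s < n ∧ t < n ∧ om y₁ y₂ = 1 ∧
      (p : ZMod (p ^ n)) ^ s • y₁ ∈ M ∧ (p : ZMod (p ^ n)) ^ t • y₂ ∈ M := by
  obtain ⟨φ, s, t, h⟩ := exists_normal_form M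
  have hs := h.hs
  have ht := h.ht
  have hpp := hp.out
  rw [isotropic_iff, not_le, card_of_NF h, ← pow_add, Nat.pow_lt_pow_iff_right hpp.one_lt] at hM
  obtain ⟨u₁, hu₁⟩ := φ.surjective (1, 0)
  obtain ⟨u₂, hu₂⟩ := φ.surjective (0, 1)
  refine ⟨u₁, u₂, s, t, by omega, by omega, ?_, ?_, ?_⟩
  · rw [← h.hom, hu₁, hu₂]
    simp [om]
  · rw [h.hmem, h.hsmul, hu₁]
    exact ⟨⟨1, by simp⟩, ⟨0, by simp⟩⟩
  · rw [h.hmem, h.hsmul, hu₂]
    exact ⟨⟨0, by simp⟩, ⟨1, by simp⟩⟩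

/-- **F7**: an isotropic subgroup with fewer than `p ^ n` elements lies in a larger isotropic subgroup. -/
theorem exists_isotropic_gt {M : AddSubgroup (ZMod (p ^ n) × ZMod (p ^ n))}
    (hM : ∀ x ∈ M, ∀ y ∈ M, om x y = 0) (hc : Nat.card M < p ^ n) :
    ∃ M₁ : AddSubgroup (ZMod (p ^ n) × ZMod (p ^ n)), M < M₁ ∧ ∀ x ∈ M₁, ∀ y ∈ M₁, om x y = 0 := by
  obtain ⟨φ, s, t, h⟩ := exists_normal_form M
  have hs := h.hs
  have ht := h.ht
  have hpp := hp.out
  rw [card_of_NF h, ← pow_add, Nat.pow_lt_pow_iff_right hpp.one_lt] at hc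
  have ht1 : 1 ≤ t := by omega
  let M₁ : AddSubgroup (ZMod (p ^ n) × ZMod (p ^ n)) := (box p n s (t - 1)).comap φ.toAddMonoidHom
  have hm₁ : ∀ x, x ∈ M₁ ↔ φ x ∈ box p n s (t - 1) := fun x => Iff.rfl
  refine ⟨M₁, ?_, ?_⟩
  · rw [SetLike.lt_iff_le_and_exists]
    constructor
    · intro x hx
      rw [hm₁]
      have := (h.hmem x).1 hx
      exact ⟨this.1, I_anti (by omega) this.2⟩
    · obtain ⟨u, hu⟩ := φ.surjective (0, (p : ZMod (p ^ n)) ^ (t - 1))
      refine ⟨u, ?_, ?_⟩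
      · rw [hm₁, hu]
        exact ⟨AddSubgroup.zero_mem _, ⟨1, by ring⟩⟩
      · rw [h.hmem, hu]
        intro hh
        have := (pow_mem_I_iff (by omega) ht).1 hh.2
        omega
  · intro x hx y hy
    rw [← h.hom]
    obtain ⟨⟨d₁, hd₁⟩, ⟨d₂, hd₂⟩⟩ := (hm₁ x).1 hx
    obtain ⟨⟨e₁, he₁⟩, ⟨e₂, he₂⟩⟩ := (hm₁ y).1 hy
    simp only [om]
    rw [hd₁, hd₂, he₁, he₂]
    have h0 : (p : ZMod (p ^ n)) ^ s * (p : ZMod (p ^ n)) ^ (t - 1) = 0 := by
      rw [← pow_add]
      obtain ⟨c, hc'⟩ := Nat.exists_eq_add_of_le (show n ≤ s + (t - 1) by omega)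
      rw [hc', pow_add, pow_n_eq_zero, zero_mul]
    linear_combination (d₁ * e₂ - d₂ * e₁) * h0

end linear

/-! ### Geometric sums modulo `p ^ n` -/

section gsmod

variable {p n : ℕ} [hp : Fact p.Prime]

/-- Elements of `ℤ/p^n` with a lift `≡ 1 mod p`. -/
def OneModP (p n : ℕ) (v : ZMod (p ^ n)) : Prop := ∃ u : ℕ, (u : ZMod p) = 1 ∧ (u : ZMod (p ^ n)) = v

theorem oneModP_one : OneModP p n 1 := ⟨1, by simp, by simp⟩

theorem OneModP.mul {v v' : ZMod (p ^ n)} (h : OneModP p n v) (h' : OneModP p n v') : OneModP p n (v * v') := by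
  obtain ⟨u, hu, rfl⟩ := h
  obtain ⟨u', hu', rfl⟩ := h'
  exact ⟨u * u', by push_cast; rw [hu, hu', one_mul], by push_cast; rfl⟩

theorem OneModP.pow {v : ZMod (p ^ n)} (h : OneModP p n v) (k : ℕ) : OneModP p n (v ^ k) := by
  obtain ⟨u, hu, rfl⟩ := h
  exact ⟨u ^ k, by push_cast; rw [hu, one_pow], by push_cast; rfl⟩

theorem OneModP.isUnit {v : ZMod (p ^ n)} (h : OneModP p n v) : IsUnit v := by
  have hpp := hp.out
  obtain ⟨u, hu, rfl⟩ := h
  rw [ZMod.isUnit_iff_coprime]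
  apply Nat.Coprime.pow_right
  rw [Nat.coprime_comm, Nat.Prime.coprime_iff_not_dvd hpp]
  intro hd
  rw [← ZMod.natCast_eq_zero_iff, hu] at hd
  exact one_ne_zero hd

theorem gs_eq_zero_iff (hp2 : p ≠ 2) {v : ZMod (p ^ n)} (h : OneModP p n v) (m : ℕ) : gs v m = 0 ↔ p ^ n ∣ m := by
  obtain ⟨u, hu, rfl⟩ := h
  rw [← gs_natCast, ZMod.natCast_eq_zero_iff, dvd_gs_iff hp2 hu]

theorem gs_inj (hp2 : p ≠ 2) {v : ZMod (p ^ n)} (h : OneModP p n v) {m l : ℕ} (hml : m ≤ l) (he : gs v m = gs v l) :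
    p ^ n ∣ l - m := by
  obtain ⟨c, rfl⟩ := Nat.exists_eq_add_of_le hml
  rw [gs_add] at he
  have h1 : v ^ m * gs v c = 0 := by
    have := he.symm
    simpa using this
  have h2 : gs v c = 0 := (((h.pow m).isUnit).mul_right_eq_zero).1 h1
  simpa using (gs_eq_zero_iff hp2 h c).1 h2

theorem eq_of_gs_eq (hp2 : p ≠ 2) {v : ZMod (p ^ n)} (h : OneModP p n v) {m l : ℕ} (hm : m < p ^ n) (hl : l < p ^ n)
    (he : gs v m = gs v l) : m = l := by
  rcases le_total m l with hle | hle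
  · have h1 := Nat.eq_zero_of_dvd_of_lt (gs_inj hp2 h hle he) (by omega)
    omega
  · have h1 := Nat.eq_zero_of_dvd_of_lt (gs_inj hp2 h hle he.symm) (by omega)
    omega

/-- `k ↦ gs v k` is a bijection `range (p ^ n) → ℤ/p^n`. -/
theorem gs_surj (hp2 : p ≠ 2) {v : ZMod (p ^ n)} (h : OneModP p n v) (t : ZMod (p ^ n)) : ∃ m, m < p ^ n ∧ gs v m = t := by
  have hpos : 0 < p ^ n := pow_pos hp.out.pos n
  have hinj : Function.Injective (fun x : ZMod (p ^ n) => gs v x.val) := by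
    intro x y hxy
    have hxy' : gs v x.val = gs v y.val := hxy
    have hx : x.val < p ^ n := ZMod.val_lt x
    have hy : y.val < p ^ n := ZMod.val_lt y
    exact ZMod.val_injective _ (eq_of_gs_eq hp2 h hx hy hxy')
  obtain ⟨x, hx⟩ := (Finite.injective_iff_surjective.1 hinj) t
  exact ⟨x.val, ZMod.val_lt x, hx⟩

theorem gs_dvd_self (hp2 : p ≠ 2) {v : ZMod (p ^ n)} (h : OneModP p n v) (s : ℕ) : ∃ d, gs v (p ^ s) = (p : ZMod (p ^ n)) ^ s * d := by
  obtain ⟨u, hu, rfl⟩ := h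
  have h1 : p ^ s ∣ gs u (p ^ s) := (dvd_gs_iff hp2 hu s (p ^ s)).2 dvd_rfl
  obtain ⟨d, hd⟩ := h1
  refine ⟨(d : ZMod (p ^ n)), ?_⟩
  rw [← gs_natCast, hd]
  push_cast
  rfl

/-- The sum of all elements of `ℤ/p^n`, `p` odd, vanishes. -/
theorem sum_zmod_eq_zero (hp2 : p ≠ 2) : ∑ x : ZMod (p ^ n), x = 0 := by
  have hpp := hp.out
  have h1 : ∑ x : ZMod (p ^ n), x = ∑ x : ZMod (p ^ n), -x := (Equiv.sum_comp (Equiv.neg _) _).symm
  rw [Finset.sum_neg_distrib] at h1
  have h2 : (2 : ZMod (p ^ n)) * ∑ x : ZMod (p ^ n), x = 0 := by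
    linear_combination h1
  have h3 : IsUnit (2 : ZMod (p ^ n)) := by
    have : ((2 : ℕ) : ZMod (p ^ n)) = 2 := by norm_num
    rw [← this, ZMod.isUnit_iff_coprime]
    apply Nat.Coprime.pow_right
    rw [Nat.coprime_comm, Nat.Prime.coprime_iff_not_dvd hpp]
    intro hd
    exact hp2 ((Nat.prime_dvd_prime_iff_eq hpp Nat.prime_two).1 hd)
  exact (h3.mul_right_eq_zero).1 h2

theorem sum_gs_eq_zero (hp2 : p ≠ 2) {v : ZMod (p ^ n)} (h : OneModP p n v) :
    ∑ k ∈ Finset.range (p ^ n), gs v k = 0 := by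
  rw [← sum_zmod_eq_zero (p := p) (n := n) hp2]
  refine Finset.sum_bij (fun k _ => gs v k) ?_ ?_ ?_ ?_
  · intro _ _
    exact Finset.mem_univ _
  · intro x hx y hy hxy
    have hx' := Finset.mem_range.1 hx
    have hy' := Finset.mem_range.1 hy
    exact eq_of_gs_eq hp2 h hx' hy' hxy
  · intro t _
    obtain ⟨m, hm, hmt⟩ := gs_surj hp2 h t
    exact ⟨m, Finset.mem_range.2 hm, hmt⟩
  · intro _ _
    rfl

end gsmod

/-! ### The coordinates on a metacyclic `p`-group -/

/-- Presentation data of a metacyclic `p`-group: `⟨a⟩` normal, `b a b⁻¹ = a ^ (w + 1)` with `p ∣ w`, and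
`c = a ^ w` of order `p ^ n`. -/
structure Data (G : Type*) [Group G] (p n : ℕ) where
  a : G
  b : G
  w : ℕ
  hw : p ∣ w
  hconj : b * a * b⁻¹ = a ^ (w + 1)
  hdec : ∀ g : G, ∃ i j : ℕ, g = a ^ i * b ^ j
  hc : orderOf (a ^ w) = p ^ n
  hp2 : p ≠ 2
  hG : IsPGroup p G

namespace Data

variable {G : Type*} [Group G] {p n : ℕ} [hp : Fact p.Prime] (D : Data G p n)

/-- The generator of the derived subgroup. -/
def c : G := D.a ^ D.w

/-- `u = w + 1`. -/
def u : ℕ := D.w + 1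

theorem hu : (D.u : ZMod p) = 1 := by
  have h1 : (D.w : ZMod p) = 0 := (ZMod.natCast_eq_zero_iff _ _).2 D.hw
  simp [u, h1]

theorem b_mul_a_pow (i : ℕ) : D.b * D.a ^ i = D.a ^ (i * D.u) * D.b := by
  have h1 : D.b * D.a ^ i * D.b⁻¹ = (D.a ^ D.u) ^ i := by
    show _ = (D.a ^ (D.w + 1)) ^ i
    rw [← D.hconj, conj_pow]
  rw [← pow_mul, mul_comm D.u i] at h1
  rw [← h1]
  group

theorem b_pow_mul_a_pow (i j : ℕ) : D.b ^ j * D.a ^ i = D.a ^ (i * D.u ^ j) * D.b ^ j := by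
  induction j generalizing i with
  | zero => simp
  | succ j ih =>
    rw [pow_succ', mul_assoc, ih, ← mul_assoc, b_mul_a_pow, mul_assoc, ← pow_succ' D.b, pow_succ D.u j, mul_assoc]

theorem mul_formula (i j k l : ℕ) :
    (D.a ^ i * D.b ^ j) * (D.a ^ k * D.b ^ l) = D.a ^ (i + k * D.u ^ j) * D.b ^ (j + l) := by
  calc (D.a ^ i * D.b ^ j) * (D.a ^ k * D.b ^ l) = D.a ^ i * (D.b ^ j * D.a ^ k) * D.b ^ l := by group
    _ = D.a ^ i * (D.a ^ (k * D.u ^ j) * D.b ^ j) * D.b ^ l := by rw [b_pow_mul_a_pow]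
    _ = D.a ^ (i + k * D.u ^ j) * D.b ^ (j + l) := by
      rw [pow_add, pow_add]; group

theorem u_pow (j : ℕ) : D.u ^ j = 1 + D.w * gs D.u j := pow_eq_one_add D.w j

theorem mul_formula2 (i j k l : ℕ) :
    (D.a ^ i * D.b ^ j) * (D.a ^ k * D.b ^ l) = D.c ^ (k * gs D.u j) * (D.a ^ (i + k) * D.b ^ (j + l)) := by
  rw [mul_formula, u_pow, ← mul_assoc]
  congr 1
  show _ = (D.a ^ D.w) ^ (k * gs D.u j) * _
  rw [← pow_mul, ← pow_add]
  congr 1
  ring

theorem c_pow_eq_iff [Finite G] (m l : ℕ) : D.c ^ m = D.c ^ l ↔ ((m : ℕ) : ZMod (p ^ n)) = l := by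
  rw [pow_eq_pow_iff_modEq, show orderOf D.c = p ^ n from D.hc, ZMod.natCast_eq_natCast_iff]

theorem comm_iff [Finite G] (i j k l : ℕ) :
    (D.a ^ i * D.b ^ j) * (D.a ^ k * D.b ^ l) = (D.a ^ k * D.b ^ l) * (D.a ^ i * D.b ^ j) ↔
      (i : ZMod (p ^ n)) * (gs D.u l : ℕ) - ((gs D.u j : ℕ) : ZMod (p ^ n)) * k = 0 := by
  rw [mul_formula2, mul_formula2 D k l i j, add_comm k i, add_comm l j, mul_left_inj, c_pow_eq_iff, sub_eq_zero]
  push_cast
  rw [mul_comm (k : ZMod (p ^ n)), eq_comm]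

/-- Coordinates are well defined. -/
theorem coords_eq [Finite G] {i j k l : ℕ} (h : D.a ^ i * D.b ^ j = D.a ^ k * D.b ^ l) :
    (i : ZMod (p ^ n)) = k ∧ ((gs D.u j : ℕ) : ZMod (p ^ n)) = (gs D.u l : ℕ) := by
  constructor
  · -- test against `b`
    have hb : ∀ i j : ℕ, D.b * (D.a ^ i * D.b ^ j) = D.c ^ i * ((D.a ^ i * D.b ^ j) * D.b) := by
      intro i j
      have h1 := mul_formula2 D 0 1 i j
      have h2 := mul_formula2 D i j 0 1
      simp only [pow_zero, pow_one, one_mul, gs_one, mul_one, zero_mul, zero_add, add_zero] at h1 h2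
      rw [h1, h2, add_comm 1 j]
    have h1 := hb i j
    have h2 := hb k l
    rw [← h] at h2
    exact (c_pow_eq_iff D i k).1 (mul_right_cancel (h1.symm.trans h2))
  · have ha : ∀ i j : ℕ, (D.a ^ i * D.b ^ j) * D.a = D.c ^ (gs D.u j) * (D.a * (D.a ^ i * D.b ^ j)) := by
      intro i j
      have h1 := mul_formula2 D i j 1 0
      have h2 := mul_formula2 D 1 0 i j
      simp only [pow_zero, pow_one, one_mul, gs_zero, mul_one, mul_zero, zero_add, add_zero] at h1 h2
      rw [h1, h2, add_comm 1 i]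
    have h1 := ha i j
    have h2 := ha k l
    rw [← h] at h2
    exact (c_pow_eq_iff D _ _).1 (mul_right_cancel (h1.symm.trans h2))

/-- The map `θ`. -/
noncomputable def theta (g : G) : ZMod (p ^ n) × ZMod (p ^ n) :=
  (((D.hdec g).choose : ℕ), ((gs D.u (D.hdec g).choose_spec.choose : ℕ) : ZMod (p ^ n)))

/-- The character `χ`. -/
noncomputable def chi (g : G) : ZMod (p ^ n) :=
  ((D.u ^ (D.hdec g).choose_spec.choose : ℕ) : ZMod (p ^ n))

variable [Finite G]

theorem theta_eq (i j : ℕ) : D.theta (D.a ^ i * D.b ^ j) = ((i : ZMod (p ^ n)), ((gs D.u j : ℕ) : ZMod (p ^ n))) := by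
  have h := (D.hdec (D.a ^ i * D.b ^ j)).choose_spec.choose_spec
  have h2 := D.coords_eq h
  ext
  · exact h2.1.symm
  · exact h2.2.symm

theorem chi_eq (i j : ℕ) : D.chi (D.a ^ i * D.b ^ j) = ((D.u ^ j : ℕ) : ZMod (p ^ n)) := by
  have h := (D.hdec (D.a ^ i * D.b ^ j)).choose_spec.choose_spec
  have h2 := (D.coords_eq h).2
  show (((D.u ^ _ : ℕ)) : ZMod (p ^ n)) = _
  rw [u_pow, u_pow]
  push_cast
  rw [← h2]

theorem theta_mul (g h : G) : D.theta (g * h) = D.theta g + D.chi g • D.theta h := by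
  obtain ⟨i, j, rfl⟩ := D.hdec g
  obtain ⟨k, l, rfl⟩ := D.hdec h
  rw [mul_formula, theta_eq, theta_eq, chi_eq, theta_eq]
  ext
  · simp [mul_comm]
  · simp [gs_add, gs_natCast]

theorem chi_mul (g h : G) : D.chi (g * h) = D.chi g * D.chi h := by
  obtain ⟨i, j, rfl⟩ := D.hdec g
  obtain ⟨k, l, rfl⟩ := D.hdec h
  rw [mul_formula, chi_eq, chi_eq, chi_eq]
  push_cast
  rw [pow_add]

theorem one_eq : (1 : G) = D.a ^ 0 * D.b ^ 0 := by simp

theorem chi_one : D.chi 1 = 1 := by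
  rw [D.one_eq, chi_eq]
  simp

theorem theta_one : D.theta 1 = 0 := by
  rw [D.one_eq, theta_eq]
  simp

theorem chi_oneModP (g : G) : OneModP p n (D.chi g) := by
  obtain ⟨i, j, rfl⟩ := D.hdec g
  rw [chi_eq]
  refine ⟨D.u ^ j, ?_, rfl⟩
  push_cast
  rw [D.hu, one_pow]

theorem chi_pow (g : G) (m : ℕ) : D.chi (g ^ m) = D.chi g ^ m := by
  induction m with
  | zero => simp [chi_one]
  | succ m ih => rw [pow_succ, chi_mul, ih, pow_succ]

theorem theta_pow (g : G) (m : ℕ) : D.theta (g ^ m) = gs (D.chi g) m • D.theta g := by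
  induction m with
  | zero => simp [theta_one]
  | succ m ih =>
    rw [pow_succ, theta_mul, ih, chi_pow, gs_succ, add_smul]

theorem theta_inv (g : G) : D.chi g • D.theta g⁻¹ = - D.theta g := by
  have h := D.theta_mul g g⁻¹
  rw [mul_inv_cancel, theta_one] at h
  rw [eq_neg_iff_add_eq_zero, add_comm, ← h]

theorem theta_comm (g h : G) : g * h = h * g ↔ om (D.theta g) (D.theta h) = 0 := by
  obtain ⟨i, j, rfl⟩ := D.hdec g
  obtain ⟨k, l, rfl⟩ := D.hdec h
  rw [comm_iff, theta_eq, theta_eq]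
  rfl

theorem theta_surjective : Function.Surjective D.theta := by
  intro x
  obtain ⟨m, _, hm⟩ := gs_surj D.hp2 (v := ((D.u : ℕ) : ZMod (p ^ n))) ⟨D.u, D.hu, rfl⟩ x.2
  refine ⟨D.a ^ x.1.val * D.b ^ m, ?_⟩
  rw [theta_eq, gs_natCast, hm, ZMod.natCast_zmod_val]

theorem theta_a : D.theta D.a = (1, 0) := by
  have h := D.theta_eq 1 0
  simpa using h

theorem theta_b : D.theta D.b = (0, 1) := by
  have h := D.theta_eq 0 1
  simpa using h

theorem mem_center_iff (g : G) : g ∈ Subgroup.center G ↔ D.theta g = 0 := by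
  constructor
  · intro hg
    have h1 := (D.theta_comm g D.a).1 (Subgroup.mem_center_iff.1 hg D.a).symm
    have h2 := (D.theta_comm g D.b).1 (Subgroup.mem_center_iff.1 hg D.b).symm
    rw [theta_a] at h1
    rw [theta_b] at h2
    simp only [om, mul_zero, mul_one, zero_sub, neg_eq_zero, sub_zero] at h1 h2
    exact Prod.ext h2 h1
  · intro hg
    rw [Subgroup.mem_center_iff]
    intro h
    symm
    rw [D.theta_comm, hg]
    simp [om]

theorem theta_eq_iff (g h : G) : D.theta g = D.theta h ↔ g⁻¹ * h ∈ Subgroup.center G := by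
  rw [D.mem_center_iff]
  have h1 := D.theta_mul g (g⁻¹ * h)
  rw [mul_inv_cancel_left] at h1
  have hu := (D.chi_oneModP g).isUnit
  constructor
  · intro he
    rw [h1] at he
    have h2 : D.chi g • D.theta (g⁻¹ * h) = 0 := by
      simpa using he
    obtain ⟨e, he'⟩ := hu.exists_left_inv
    have h3 := congrArg (fun x => e • x) h2
    simpa [smul_smul, he'] using h3
  · intro he
    rw [h1, he]
    simp

/-- A section of `θ`. -/
noncomputable def sec (x : ZMod (p ^ n) × ZMod (p ^ n)) : G := (D.theta_surjective x).choose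

theorem theta_sec (x : ZMod (p ^ n) × ZMod (p ^ n)) : D.theta (D.sec x) = x := (D.theta_surjective x).choose_spec

/-- Fibres of `θ` are cosets of the centre. -/
noncomputable def fiberEquiv (E : Set (ZMod (p ^ n) × ZMod (p ^ n))) :
    {g : G // D.theta g ∈ E} ≃ E × ↥(Subgroup.center G) where
  toFun g := (⟨D.theta g, g.2⟩, ⟨(D.sec (D.theta g))⁻¹ * g, (D.theta_eq_iff _ _).1 (D.theta_sec _)⟩)
  invFun y := ⟨D.sec y.1 * y.2, by
    rw [theta_mul, (D.mem_center_iff _).1 y.2.2, theta_sec]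
    simpa using y.1.2⟩
  left_inv g := by
    apply Subtype.ext
    simp
  right_inv y := by
    obtain ⟨⟨x, hx⟩, ⟨z, hz⟩⟩ := y
    have h1 : D.theta (D.sec x * z) = x := by
      rw [theta_mul, (D.mem_center_iff _).1 hz, theta_sec]
      simp
    apply Prod.ext
    · apply Subtype.ext
      exact h1
    · apply Subtype.ext
      simp [h1]

theorem card_fiber (E : Set (ZMod (p ^ n) × ZMod (p ^ n))) :
    Nat.card {g : G // D.theta g ∈ E} = Nat.card E * Nat.card ↥(Subgroup.center G) := by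
  rw [Nat.card_congr (D.fiberEquiv E), Nat.card_prod]

theorem card_W : Nat.card (ZMod (p ^ n) × ZMod (p ^ n)) = p ^ (2 * n) := by
  rw [Nat.card_prod, Nat.card_zmod, two_mul, pow_add]

include D in
theorem card_G : Nat.card G = p ^ (2 * n) * Nat.card ↥(Subgroup.center G) := by
  have h := D.card_fiber Set.univ
  rw [Nat.card_congr (Equiv.subtypeUnivEquiv (fun g => Set.mem_univ (D.theta g))),
    Nat.card_congr (Equiv.Set.univ _), card_W] at h
  exact h

include D in
theorem index_center : (Subgroup.center G).index = p ^ (2 * n) := by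
  have h1 := (Subgroup.center G).index_mul_card
  rw [D.card_G] at h1
  exact Nat.eq_of_mul_eq_mul_right Nat.card_pos h1

theorem inv_theta_mem {M : AddSubgroup (ZMod (p ^ n) × ZMod (p ^ n))} {g : G} (hg : D.theta g ∈ M) : D.theta g⁻¹ ∈ M := by
  have h1 := D.theta_inv g
  obtain ⟨e, he⟩ := (D.chi_oneModP g).isUnit.exists_left_inv
  have h2 : D.theta g⁻¹ = e • (- D.theta g) := by
    rw [← h1, smul_smul, he, one_smul]
  rw [h2]
  exact smul_mem_sub M e (M.neg_mem hg)

/-- Preimage of an additive subgroup. -/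
def pre (M : AddSubgroup (ZMod (p ^ n) × ZMod (p ^ n))) : Subgroup G where
  carrier := {g | D.theta g ∈ M}
  mul_mem' := by
    intro g h hg hh
    show D.theta (g * h) ∈ M
    rw [theta_mul]
    exact M.add_mem hg (smul_mem_sub M _ hh)
  one_mem' := by
    show D.theta 1 ∈ M
    rw [theta_one]
    exact M.zero_mem
  inv_mem' := fun hg => D.inv_theta_mem hg

theorem mem_pre {M : AddSubgroup (ZMod (p ^ n) × ZMod (p ^ n))} {g : G} : g ∈ D.pre M ↔ D.theta g ∈ M := Iff.rfl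

theorem card_pre (M : AddSubgroup (ZMod (p ^ n) × ZMod (p ^ n))) :
    Nat.card (D.pre M) = Nat.card M * Nat.card ↥(Subgroup.center G) := by
  exact D.card_fiber (M : Set (ZMod (p ^ n) × ZMod (p ^ n)))

theorem center_le_pre (M : AddSubgroup (ZMod (p ^ n) × ZMod (p ^ n))) : Subgroup.center G ≤ D.pre M := by
  intro z hz
  rw [mem_pre, (D.mem_center_iff z).1 hz]
  exact M.zero_mem

/-- Image of a subgroup: it is an additive subgroup. -/
def img (L : Subgroup G) : AddSubgroup (ZMod (p ^ n) × ZMod (p ^ n)) where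
  carrier := D.theta '' (L : Set G)
  add_mem' := by
    rintro _ _ ⟨g, hg, rfl⟩ ⟨h, hh, rfl⟩
    obtain ⟨e, he⟩ := (D.chi_oneModP g).isUnit.exists_left_inv
    obtain ⟨m, _, hm⟩ := gs_surj D.hp2 (D.chi_oneModP h) e
    refine ⟨g * h ^ m, L.mul_mem hg (L.pow_mem hh m), ?_⟩
    rw [theta_mul, theta_pow, hm, smul_smul, mul_comm, he, one_smul]
  zero_mem' := ⟨1, L.one_mem, D.theta_one⟩
  neg_mem' := by
    rintro _ ⟨g, hg, rfl⟩
    obtain ⟨m, _, hm⟩ := gs_surj D.hp2 (D.chi_oneModP g) (-1)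
    refine ⟨g ^ m, L.pow_mem hg m, ?_⟩
    rw [theta_pow, hm]
    simp

theorem mem_img {L : Subgroup G} {x : ZMod (p ^ n) × ZMod (p ^ n)} : x ∈ D.img L ↔ ∃ g ∈ L, D.theta g = x := Iff.rfl

theorem theta_mem_img {L : Subgroup G} {g : G} (hg : g ∈ L) : D.theta g ∈ D.img L := ⟨g, hg, rfl⟩

theorem le_pre_img (L : Subgroup G) : L ≤ D.pre (D.img L) := fun _ hg => D.theta_mem_img hg

theorem pre_img {L : Subgroup G} (hL : Subgroup.center G ≤ L) : D.pre (D.img L) = L := by
  apply le_antisymm _ (D.le_pre_img L)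
  rintro g ⟨l, hl, he⟩
  have h1 := (D.theta_eq_iff l g).1 he
  have h2 := L.mul_mem hl (hL h1)
  simpa using h2

theorem img_pre (M : AddSubgroup (ZMod (p ^ n) × ZMod (p ^ n))) : D.img (D.pre M) = M := by
  ext x
  constructor
  · rintro ⟨g, hg, rfl⟩
    exact hg
  · intro hx
    refine ⟨D.sec x, ?_, D.theta_sec x⟩
    show D.theta (D.sec x) ∈ M
    rw [theta_sec]
    exact hx

/-- Centralizers. -/
theorem centralizer_eq (L : Subgroup G) : Subgroup.centralizer (L : Set G) = D.pre (perp (D.img L)) := by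
  ext g
  rw [Subgroup.mem_centralizer_iff, mem_pre, mem_perp]
  constructor
  · rintro h _ ⟨l, hl, rfl⟩
    exact (D.theta_comm l g).1 (h l hl)
  · intro h l hl
    exact (D.theta_comm l g).2 (h _ (D.theta_mem_img hl))

theorem comm_iff_isotropic (L : Subgroup G) :
    IsMulCommutative ↥L ↔ ∀ x ∈ D.img L, ∀ y ∈ D.img L, om x y = 0 := by
  constructor
  · rintro h _ ⟨g, hg, rfl⟩ _ ⟨k, hk, rfl⟩
    apply (D.theta_comm g k).1
    have := h.is_comm.comm ⟨g, hg⟩ ⟨k, hk⟩
    exact congrArg Subtype.val this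
  · intro h
    refine ⟨⟨fun g k => Subtype.ext ?_⟩⟩
    exact (D.theta_comm g k).2 (h _ (D.theta_mem_img g.2) _ (D.theta_mem_img k.2))

include D in
/-- The derived subgroup. -/
theorem commutator_eq : commutator G = Subgroup.zpowers D.c := by
  apply le_antisymm
  · rw [commutator_def, Subgroup.commutator_le]
    intro g _ h _
    obtain ⟨i, j, rfl⟩ := D.hdec g
    obtain ⟨k, l, rfl⟩ := D.hdec h
    have h1 := D.mul_formula2 i j k l
    have h2 := D.mul_formula2 k l i j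
    rw [add_comm k i, add_comm l j] at h2
    have h3 : ⁅D.a ^ i * D.b ^ j, D.a ^ k * D.b ^ l⁆ = D.c ^ (k * gs D.u j) * (D.c ^ (i * gs D.u l))⁻¹ := by
      rw [commutatorElement_def]
      have h4 : D.a ^ i * D.b ^ j * (D.a ^ k * D.b ^ l) * (D.a ^ i * D.b ^ j)⁻¹ * (D.a ^ k * D.b ^ l)⁻¹ =
          ((D.a ^ i * D.b ^ j) * (D.a ^ k * D.b ^ l)) * ((D.a ^ k * D.b ^ l) * (D.a ^ i * D.b ^ j))⁻¹ := by
        group
      rw [h4, h1, h2]
      group
    rw [h3]
    exact Subgroup.mul_mem _ (Subgroup.npow_mem_zpowers _ _) (Subgroup.inv_mem _ (Subgroup.npow_mem_zpowers _ _))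
  · rw [Subgroup.zpowers_le]
    have h1 : D.c = ⁅D.b, D.a⁆ := by
      rw [commutatorElement_def, D.hconj, pow_succ]
      show D.a ^ D.w = _
      group
    rw [h1]
    exact Subgroup.commutator_mem_commutator (Subgroup.mem_top _) (Subgroup.mem_top _)

include D in
theorem card_commutator : Nat.card (commutator G) = p ^ n := by
  rw [D.commutator_eq, Nat.card_zpowers]
  exact D.hc

include D in
theorem index_commutator : (commutator G).index = p ^ n * Nat.card ↥(Subgroup.center G) := by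
  have h1 := (commutator G).index_mul_card
  rw [D.card_commutator, D.card_G] at h1
  have h2 : p ^ (2 * n) * Nat.card ↥(Subgroup.center G) = (p ^ n * Nat.card ↥(Subgroup.center G)) * p ^ n := by
    rw [two_mul, pow_add]; ring
  rw [h2] at h1
  exact Nat.eq_of_mul_eq_mul_right (pow_pos hp.out.pos n) h1

/-! ### The power map -/

/-- Powers in coordinates. -/
theorem pow_formula (i j m : ℕ) : (D.a ^ i * D.b ^ j) ^ m = D.a ^ (i * gs (D.u ^ j) m) * D.b ^ (j * m) := by
  induction m with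
  | zero => simp
  | succ m ih =>
    rw [pow_succ, ih, mul_formula, gs_succ]
    congr 2
    rw [pow_mul]
    ring

theorem coe_gs_u_pow (j m : ℕ) : ((gs (D.u ^ j) m : ℕ) : ZMod (p ^ n)) = gs (((D.u ^ j : ℕ)) : ZMod (p ^ n)) m :=
  gs_natCast _ _

theorem oneModP_u_pow (j : ℕ) : OneModP p n (((D.u ^ j : ℕ)) : ZMod (p ^ n)) :=
  ⟨D.u ^ j, by push_cast; rw [D.hu, one_pow], rfl⟩

/-- `gs v m = m + (v - 1) * ∑ gs v k`. -/
theorem gs_eq_add (v m : ℕ) : gs (v + 1) m = m + v * ∑ k ∈ Finset.range m, gs (v + 1) k := by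
  induction m with
  | zero => simp
  | succ m ih =>
    rw [gs_succ, Finset.sum_range_succ, pow_eq_one_add, mul_add]
    push_cast
    linarith

/-- The `p ^ n`-th power in coordinates. -/
theorem pow_pn_formula (i j : ℕ) : (D.a ^ i * D.b ^ j) ^ (p ^ n) = D.a ^ (i * p ^ n) * D.b ^ (j * p ^ n) := by
  rw [pow_formula]
  congr 1
  -- write `u ^ j = v + 1`
  have huj := D.u_pow j
  set T := gs D.u j with hT
  have hv : D.u ^ j = D.w * T + 1 := by rw [huj]; ring
  rw [hv, gs_eq_add, mul_add, pow_add]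
  have hsum : p ^ n ∣ ∑ k ∈ Finset.range (p ^ n), gs (D.w * T + 1) k := by
    rw [← ZMod.natCast_eq_zero_iff]
    push_cast
    have h1 : ∀ k, ((gs (D.w * T + 1) k : ℕ) : ZMod (p ^ n)) = gs (((D.w * T + 1 : ℕ)) : ZMod (p ^ n)) k :=
      fun k => gs_natCast _ _
    rw [Finset.sum_congr rfl (fun k _ => h1 k)]
    apply sum_gs_eq_zero D.hp2
    rw [← hv]
    exact D.oneModP_u_pow j
  obtain ⟨q, hq⟩ := hsum
  rw [hq]
  have h2 : D.a ^ (i * (D.w * T * (p ^ n * q))) = 1 := by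
    have e : i * (D.w * T * (p ^ n * q)) = D.w * (i * T * q) * p ^ n := by ring
    rw [e, pow_mul, pow_mul]
    have h3 : (D.a ^ D.w) ^ p ^ n = 1 := by
      rw [← D.hc]
      exact pow_orderOf_eq_one _
    rw [pow_right_comm, h3, one_pow]
  rw [h2, mul_one]

theorem center_a_pow (i : ℕ) (hi : p ^ n ∣ i) : D.a ^ i ∈ Subgroup.center G := by
  rw [D.mem_center_iff]
  have h := D.theta_eq i 0
  simp only [pow_zero, mul_one] at h
  rw [h]
  have h1 : (i : ZMod (p ^ n)) = 0 := (ZMod.natCast_eq_zero_iff _ _).2 hi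
  rw [h1]
  simp

theorem center_b_pow (j : ℕ) (hj : p ^ n ∣ j) : D.b ^ j ∈ Subgroup.center G := by
  rw [D.mem_center_iff]
  have h := D.theta_eq 0 j
  simp only [pow_zero, one_mul] at h
  rw [h]
  have h1 : ((gs D.u j : ℕ) : ZMod (p ^ n)) = 0 := by
    rw [ZMod.natCast_eq_zero_iff, dvd_gs_iff D.hp2 D.hu]
    exact hj
  rw [h1]
  simp

include D in
/-- The `p ^ n`-th power map is an endomorphism. -/
theorem pow_pn_mul (g h : G) : (g * h) ^ (p ^ n) = g ^ (p ^ n) * h ^ (p ^ n) := by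
  obtain ⟨i, j, rfl⟩ := D.hdec g
  obtain ⟨k, l, rfl⟩ := D.hdec h
  rw [D.mul_formula, D.pow_pn_formula, D.pow_pn_formula, D.pow_pn_formula]
  have hc1 : Commute (D.b ^ (j * p ^ n)) (D.a ^ (k * p ^ n)) :=
    Subgroup.mem_center_iff.1 (D.center_a_pow _ (Dvd.intro_left _ rfl)) _
  -- the correction term
  have e1 : D.a ^ ((i + k * D.u ^ j) * p ^ n) = D.a ^ (i * p ^ n) * D.a ^ (k * p ^ n) := by
    have hv : D.u ^ j = 1 + D.w * gs D.u j := D.u_pow j
    rw [hv, ← pow_add]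
    have e : (i + k * (1 + D.w * gs D.u j)) * p ^ n = (i * p ^ n + k * p ^ n) + D.w * (k * gs D.u j) * p ^ n := by
      ring
    rw [e, pow_add]
    have h3 : (D.a ^ D.w) ^ p ^ n = 1 := by
      rw [← D.hc]
      exact pow_orderOf_eq_one _
    rw [pow_mul, pow_mul, pow_right_comm, h3, one_pow, mul_one]
  rw [e1, add_mul, pow_add]
  calc D.a ^ (i * p ^ n) * D.a ^ (k * p ^ n) * (D.b ^ (j * p ^ n) * D.b ^ (l * p ^ n))
      = D.a ^ (i * p ^ n) * (D.a ^ (k * p ^ n) * D.b ^ (j * p ^ n)) * D.b ^ (l * p ^ n) := by group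
    _ = D.a ^ (i * p ^ n) * (D.b ^ (j * p ^ n) * D.a ^ (k * p ^ n)) * D.b ^ (l * p ^ n) := by rw [hc1.eq]
    _ = _ := by group

include D in
/-- The power map is central. -/
theorem pow_pn_center (g : G) : g ^ (p ^ n) ∈ Subgroup.center G := by
  rw [D.mem_center_iff, theta_pow]
  have h1 : gs (D.chi g) (p ^ n) = 0 := (gs_eq_zero_iff D.hp2 (D.chi_oneModP g) _).2 dvd_rfl
  rw [h1, zero_smul]

/-- Elements with `θ` divisible by `p ^ s`. -/
theorem exists_pow_of_theta_mem {s : ℕ} (hs : s ≤ n) (g : G) (hg : D.theta g ∈ box p n s s) :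
    ∃ x y : G, g = x ^ p ^ s * y ^ p ^ s := by
  obtain ⟨i, j, rfl⟩ := D.hdec g
  rw [theta_eq, mem_box] at hg
  obtain ⟨h1, h2⟩ := hg
  have hi : p ^ s ∣ i := by
    rw [mem_I_iff_of_le hs] at h1
    have h3 : ((p ^ (n - s) * i : ℕ) : ZMod (p ^ n)) = 0 := by
      push_cast
      exact h1
    rw [ZMod.natCast_eq_zero_iff] at h3
    have h4 : p ^ n = p ^ (n - s) * p ^ s := by rw [← pow_add, Nat.sub_add_cancel hs]
    rw [h4] at h3
    exact Nat.dvd_of_mul_dvd_mul_left (pow_pos hp.out.pos _) h3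
  have hj : p ^ s ∣ j := by
    rw [mem_I_iff_of_le hs] at h2
    have h3 : ((p ^ (n - s) * gs D.u j : ℕ) : ZMod (p ^ n)) = 0 := by
      push_cast
      exact h2
    rw [ZMod.natCast_eq_zero_iff] at h3
    have h4 : p ^ n = p ^ (n - s) * p ^ s := by rw [← pow_add, Nat.sub_add_cancel hs]
    rw [h4] at h3
    have h5 := Nat.dvd_of_mul_dvd_mul_left (pow_pos hp.out.pos _) h3
    exact (dvd_gs_iff D.hp2 D.hu s j).1 h5
  obtain ⟨i', rfl⟩ := hi
  obtain ⟨j', rfl⟩ := hj
  refine ⟨D.a ^ i', D.b ^ j', ?_⟩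
  rw [← pow_mul, ← pow_mul, mul_comm i', mul_comm j']

/-! ### Non-abelian subgroups contain the centre -/

include D in
/-- `p ^ s` as a value of `gs v` on `p ^ s * unit`. -/
theorem exists_unit_exp {v : ZMod (p ^ n)} (h : OneModP p n v) {s : ℕ} (hs : s < n) :
    ∃ e, ¬ p ∣ e ∧ gs v (p ^ s * e) = (p : ZMod (p ^ n)) ^ s := by
  have hpp := hp.out
  obtain ⟨m, _, hm⟩ := gs_surj D.hp2 h ((p : ZMod (p ^ n)) ^ s)
  obtain ⟨u, hu, rfl⟩ := id h
  rw [← gs_natCast] at hm
  have h1 : p ^ s ∣ gs u m := by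
    have h2 : (((gs u m : ℕ)) : ZMod (p ^ n)) * (p : ZMod (p ^ n)) ^ (n - s) = 0 := by
      rw [hm, ← pow_add, Nat.add_sub_cancel' hs.le, pow_n_eq_zero]
    have h3 : ((gs u m * p ^ (n - s) : ℕ) : ZMod (p ^ n)) = 0 := by
      push_cast
      push_cast at h2
      exact h2
    rw [ZMod.natCast_eq_zero_iff] at h3
    have h4 : p ^ n = p ^ s * p ^ (n - s) := by rw [← pow_add, Nat.add_sub_cancel' hs.le]
    rw [h4] at h3
    exact Nat.dvd_of_mul_dvd_mul_right (pow_pos hpp.pos _) h3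
  rw [dvd_gs_iff D.hp2 hu] at h1
  obtain ⟨e, rfl⟩ := h1
  refine ⟨e, ?_, ?_⟩
  · intro hd
    have h5 : p ^ (s + 1) ∣ p ^ s * e := by
      rw [pow_succ]
      exact Nat.mul_dvd_mul_left _ hd
    rw [← dvd_gs_iff D.hp2 hu] at h5
    obtain ⟨f, hf⟩ := h5
    rw [hf] at hm
    have h6 : (p : ZMod (p ^ n)) ^ s ∈ I p n (s + 1) := by
      rw [← hm]
      refine ⟨(f : ZMod (p ^ n)), ?_⟩
      push_cast
      rfl
    have := (pow_mem_I_iff hs.le (by omega)).1 h6
    omega
  · rw [← gs_natCast]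
    exact hm

include D in
/-- Iterating the Frattini-type descent. -/
theorem eq_of_descent {Z₀ : Subgroup G} (hZ₀ : Z₀ ≤ Subgroup.center G)
    (hdesc : ∀ z ∈ Subgroup.center G, ∃ d ∈ Z₀, ∃ y ∈ Subgroup.center G, z = d * y ^ p) :
    Subgroup.center G ≤ Z₀ := by
  have hcomm : ∀ x ∈ Subgroup.center G, ∀ y : G, x * y = y * x := by
    intro x hx y
    exact (Subgroup.mem_center_iff.1 hx y).symm
  have hit : ∀ k : ℕ, ∀ z ∈ Subgroup.center G, ∃ d ∈ Z₀, ∃ y ∈ Subgroup.center G, z = d * y ^ p ^ k := by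
    intro k
    induction k with
    | zero =>
      intro z hz
      exact ⟨1, Z₀.one_mem, z, hz, by simp⟩
    | succ k ih =>
      intro z hz
      obtain ⟨d, hd, y, hy, rfl⟩ := ih z hz
      obtain ⟨d', hd', y', hy', rfl⟩ := hdesc y hy
      refine ⟨d * d' ^ p ^ k, Z₀.mul_mem hd (Z₀.pow_mem hd' _), y', hy', ?_⟩
      have c : Commute d' (y' ^ p) := hcomm _ (hZ₀ hd') _
      rw [c.mul_pow, mul_assoc, ← pow_mul, ← pow_succ']
  intro z hz
  obtain ⟨k, hk⟩ : ∃ k, Nat.card G = p ^ k := IsPGroup.iff_card.1 D.hG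
  obtain ⟨d, hd, y, _, rfl⟩ := hit k z hz
  rw [← hk, pow_card_eq_one', mul_one]
  exact hd

omit [Finite G] in
/-- Powers with exponent coprime to the order. -/
theorem mem_of_pow_mem_of_coprime {B : Subgroup G} {x : G} {e : ℕ} (hcop : Nat.Coprime e (orderOf x))
    (h : x ^ e ∈ B) : x ∈ B := by
  have h1 := Nat.gcd_eq_gcd_ab e (orderOf x)
  rw [hcop] at h1
  have h2 : x = (x ^ e) ^ (Nat.gcdA e (orderOf x)) := by
    have h3 : x ^ ((1 : ℕ) : ℤ) = x := by simp
    conv_lhs => rw [← h3, h1, zpow_add]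
    rw [zpow_mul, zpow_mul, zpow_natCast, zpow_natCast, pow_orderOf_eq_one, one_zpow, mul_one]
  rw [h2]
  exact B.zpow_mem h _

include D in
/-- **A non-abelian subgroup contains the centre.** -/
theorem center_le_of_not_comm (L : Subgroup G) (hL : ¬ IsMulCommutative ↥L) : Subgroup.center G ≤ L := by
  have hpp := hp.out
  have hM : ¬ ∀ x ∈ D.img L, ∀ y ∈ D.img L, om x y = 0 := fun h => hL ((D.comm_iff_isotropic L).2 h)
  obtain ⟨y₁, y₂, s, t, hs, ht, hom12, hm₁, hm₂⟩ := exists_basis_of_not_isotropic hM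
  obtain ⟨g₁, hg₁, hθ₁⟩ := hm₁
  obtain ⟨g₂, hg₂, hθ₂⟩ := hm₂
  obtain ⟨h₁, hh₁⟩ := D.theta_surjective y₁
  obtain ⟨h₂, hh₂⟩ := D.theta_surjective y₂
  have hn : 0 < n := by omega
  -- central subgroup `L ⊓ Z`
  let Z₀ : Subgroup G := L ⊓ Subgroup.center G
  -- `B`
  let B : Subgroup G :=
    { carrier := {z | z ∈ Subgroup.center G ∧ ∃ d ∈ Z₀, ∃ y ∈ Subgroup.center G, z = d * y ^ p}
      mul_mem' := by
        rintro _ _ ⟨hz, d, hd, y, hy, rfl⟩ ⟨hz', d', hd', y', hy', rfl⟩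
        refine ⟨(Subgroup.center G).mul_mem hz hz', d * d', Z₀.mul_mem hd hd', y * y', (Subgroup.center G).mul_mem hy hy', ?_⟩
        have c : Commute y y' := (Subgroup.mem_center_iff.1 hy' y)
        rw [c.mul_pow]
        have c1 : Commute (y ^ p) d' := (Subgroup.mem_center_iff.1 ((Subgroup.center G).pow_mem hy p) d').symm
        calc d * y ^ p * (d' * y' ^ p) = d * (y ^ p * d') * y' ^ p := by group
          _ = d * (d' * y ^ p) * y' ^ p := by rw [c1.eq]
          _ = _ := by group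
      one_mem' := ⟨(Subgroup.center G).one_mem, 1, Z₀.one_mem, 1, (Subgroup.center G).one_mem, by simp⟩
      inv_mem' := by
        rintro _ ⟨hz, d, hd, y, hy, rfl⟩
        refine ⟨(Subgroup.center G).inv_mem hz, d⁻¹, Z₀.inv_mem hd, y⁻¹, (Subgroup.center G).inv_mem hy, ?_⟩
        rw [inv_pow, mul_inv_rev]
        exact (Subgroup.mem_center_iff.1 ((Subgroup.center G).inv_mem ((Subgroup.center G).pow_mem hy p)) d⁻¹).symm }
  have hBmem : ∀ z, z ∈ Subgroup.center G → (∃ d ∈ Z₀, ∃ y ∈ Subgroup.center G, z = d * y ^ p) → z ∈ B := fun z hz h => ⟨hz, h⟩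
  -- key: `ψ(h₁)`, `ψ(h₂)` are in `B`
  have key : ∀ (g h : G) (s : ℕ), s < n → g ∈ L → D.theta g = (p : ZMod (p ^ n)) ^ s • D.theta h → h ^ p ^ n ∈ B := by
    intro g h s hs hg hθ
    obtain ⟨e, he, hge⟩ := D.exists_unit_exp (D.chi_oneModP h) hs
    -- `g = h ^ (p ^ s * e) * z`
    have h1 : D.theta (h ^ (p ^ s * e)) = D.theta g := by
      rw [theta_pow, hge, hθ]
    obtain ⟨z, hz, hgz⟩ : ∃ z ∈ Subgroup.center G, g = h ^ (p ^ s * e) * z :=
      ⟨(h ^ (p ^ s * e))⁻¹ * g, (D.theta_eq_iff _ _).1 h1, by group⟩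
    have hc : Commute (h ^ (p ^ s * e)) z := Subgroup.mem_center_iff.1 hz _
    have hpow : g ^ p ^ (n - s) = (h ^ p ^ n) ^ e * z ^ p ^ (n - s) := by
      rw [hgz, hc.mul_pow, ← pow_mul, ← pow_mul]
      congr 2
      calc p ^ s * e * p ^ (n - s) = (p ^ s * p ^ (n - s)) * e := by ring
        _ = p ^ n * e := by rw [← pow_add, Nat.add_sub_cancel' hs.le]
    have hcen : h ^ p ^ n ∈ Subgroup.center G := D.pow_pn_center h
    -- so `(h ^ p ^ n) ^ e ∈ B`
    have h2 : (h ^ p ^ n) ^ e ∈ B := by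
      apply hBmem _ ((Subgroup.center G).pow_mem hcen e)
      have hd : g ^ p ^ (n - s) ∈ Z₀ := by
        refine ⟨L.pow_mem hg _, ?_⟩
        rw [hpow]
        exact (Subgroup.center G).mul_mem ((Subgroup.center G).pow_mem hcen e) ((Subgroup.center G).pow_mem hz _)
      obtain ⟨m, hm⟩ : ∃ m, n - s = m + 1 := ⟨n - s - 1, by omega⟩
      refine ⟨g ^ p ^ (n - s), hd, (z ^ p ^ m)⁻¹, (Subgroup.center G).inv_mem ((Subgroup.center G).pow_mem hz _), ?_⟩
      rw [hpow, hm, inv_pow, ← pow_mul z (p ^ m) p, ← pow_succ p m, mul_inv_cancel_right]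
    -- coprime exponent
    have hcop : Nat.Coprime e (orderOf (h ^ p ^ n)) := by
      obtain ⟨k, hk⟩ := IsPGroup.iff_orderOf.1 D.hG (h ^ p ^ n)
      rw [hk]
      exact Nat.Coprime.pow_right _ ((Nat.Prime.coprime_iff_not_dvd hpp).2 he).symm
    exact mem_of_pow_mem_of_coprime hcop h2
  have hb₁ := key g₁ h₁ s hs hg₁ (by rw [hθ₁, hh₁])
  have hb₂ := key g₂ h₂ t ht hg₂ (by rw [hθ₂, hh₂])
  let K : Subgroup G :=
    { carrier := {g | g ^ p ^ n ∈ B}
      mul_mem' := by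
        intro g h hg hh
        show (g * h) ^ p ^ n ∈ B
        rw [D.pow_pn_mul]
        exact B.mul_mem hg hh
      one_mem' := by
        show (1 : G) ^ p ^ n ∈ B
        rw [one_pow]
        exact B.one_mem
      inv_mem' := by
        intro g hg
        show g⁻¹ ^ p ^ n ∈ B
        rw [inv_pow]
        exact B.inv_mem hg }
  have hKZ : Subgroup.center G ≤ K := by
    intro z hz
    show z ^ p ^ n ∈ B
    apply hBmem _ ((Subgroup.center G).pow_mem hz _)
    obtain ⟨m, hm⟩ : ∃ m, n = m + 1 := ⟨n - 1, by omega⟩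
    refine ⟨1, Z₀.one_mem, z ^ p ^ m, (Subgroup.center G).pow_mem hz _, ?_⟩
    rw [hm, pow_succ, pow_mul, one_mul]
  have hKtop : K = ⊤ := by
    rw [← D.pre_img hKZ, eq_top_iff]
    intro g _
    have hy₁ : y₁ ∈ D.img K := ⟨h₁, hb₁, hh₁⟩
    have hy₂ : y₂ ∈ D.img K := ⟨h₂, hb₂, hh₂⟩
    have hx : D.theta g = om (D.theta g) y₂ • y₁ - om (D.theta g) y₁ • y₂ := by
      have h1 : y₁.1 * y₂.2 - y₁.2 * y₂.1 = 1 := hom12
      ext
      · show (D.theta g).1 = ((D.theta g).1 * y₂.2 - (D.theta g).2 * y₂.1) * y₁.1 - ((D.theta g).1 * y₁.2 - (D.theta g).2 * y₁.1) * y₂.1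
        linear_combination (-(D.theta g).1) * h1
      · show (D.theta g).2 = ((D.theta g).1 * y₂.2 - (D.theta g).2 * y₂.1) * y₁.2 - ((D.theta g).1 * y₁.2 - (D.theta g).2 * y₁.1) * y₂.2
        linear_combination (-(D.theta g).2) * h1
    show D.theta g ∈ D.img K
    rw [hx]
    exact AddSubgroup.sub_mem _ (smul_mem_sub _ _ hy₁) (smul_mem_sub _ _ hy₂)
  have hB : ∀ g : G, g ^ p ^ n ∈ B := by
    intro g
    have : g ∈ K := by rw [hKtop]; trivial
    exact this
  have hdesc : ∀ z ∈ Subgroup.center G, ∃ d ∈ Z₀, ∃ y ∈ Subgroup.center G, z = d * y ^ p := by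
    intro z hz
    have h1 : D.theta z ∈ box p n n n := by
      rw [(D.mem_center_iff z).1 hz]
      exact AddSubgroup.zero_mem _
    obtain ⟨x, y, rfl⟩ := D.exists_pow_of_theta_mem le_rfl z h1
    exact (B.mul_mem (hB x) (hB y)).2
  have h := D.eq_of_descent (Z₀ := Z₀) inf_le_right hdesc
  exact h.trans inf_le_left

end Data

/-! ### Existence of the data -/

theorem exists_data' {G : Type*} [Group G] [Finite G] {p : ℕ} [hp : Fact p.Prime] (hp2 : p ≠ 2) (hG : IsPGroup p G)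
    (hmc : Cfsg.IsMetacyclic G) : ∃ m, Nonempty (Data G p m) := by
  classical
  have hpp := hp.out
  obtain ⟨N, hNn, hNc, hQc⟩ := hmc
  obtain ⟨a', ha'⟩ := hNc.exists_generator
  obtain ⟨bb, hbb⟩ := hQc.exists_generator
  obtain ⟨b, rfl⟩ := QuotientGroup.mk_surjective bb
  set a : G := (a' : G) with ha
  have haN : a ∈ N := a'.2
  have haP : ∀ x ∈ N, ∃ i : ℕ, a ^ i = x := by
    intro x hx
    have h1 := ha' ⟨x, hx⟩
    rw [← mem_powers_iff_mem_zpowers] at h1
    obtain ⟨i, hi⟩ := h1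
    exact ⟨i, congrArg Subtype.val hi⟩
  have hdec : ∀ g : G, ∃ i j : ℕ, g = a ^ i * b ^ j := by
    intro g
    have h1 := hbb (g : G ⧸ N)
    rw [← mem_powers_iff_mem_zpowers] at h1
    obtain ⟨j, hj⟩ := h1
    have h2 : g * (b ^ j)⁻¹ ∈ N := by
      rw [← QuotientGroup.eq_one_iff]
      have e : ((g * (b ^ j)⁻¹ : G) : G ⧸ N) = (g : G ⧸ N) * ((b : G ⧸ N) ^ j)⁻¹ := rfl
      rw [e, ← hj, mul_inv_cancel]
    obtain ⟨i, hi⟩ := haP _ h2
    exact ⟨i, j, by rw [hi]; group⟩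
  obtain ⟨u, hu⟩ := haP _ (hNn.conj_mem a haN b)
  -- find `w`
  obtain ⟨w, hw, hconj⟩ : ∃ w, p ∣ w ∧ b * a * b⁻¹ = a ^ (w + 1) := by
    by_cases ha1 : a = 1
    · refine ⟨0, dvd_zero _, ?_⟩
      rw [ha1]
      simp
    · have hk : ∀ (k i : ℕ), b ^ k * a ^ i * (b ^ k)⁻¹ = a ^ (i * u ^ k) := by
        intro k
        induction k with
        | zero => intro i; simp
        | succ k ih =>
          intro i
          have e1 : b ^ (k + 1) * a ^ i * (b ^ (k + 1))⁻¹ = b ^ k * (b * a ^ i * b⁻¹) * (b ^ k)⁻¹ := by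
            rw [pow_succ]; group
          have e2 : b * a ^ i * b⁻¹ = a ^ (u * i) := by
            rw [pow_mul, hu, conj_pow]
          rw [e1, e2, ih, pow_succ]
          congr 1
          ring
      obtain ⟨N', hN'⟩ := hG b
      have h1 := hk (p ^ N') 1
      rw [hN', pow_one, one_mul, inv_one, mul_one, one_mul] at h1
      have h2 : a ^ 1 = a ^ (u ^ p ^ N') := by rw [pow_one]; exact h1
      rw [pow_eq_pow_iff_modEq] at h2
      obtain ⟨α, hα⟩ := IsPGroup.iff_orderOf.1 hG a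
      have hα0 : α ≠ 0 := by
        rintro rfl
        rw [pow_zero] at hα
        exact ha1 (orderOf_eq_one_iff.1 hα)
      have h3 : p ∣ orderOf a := by
        rw [hα]
        exact dvd_pow_self p hα0
      have h4 := h2.of_dvd h3
      have h5 : ((u ^ p ^ N' : ℕ) : ZMod p) = ((1 : ℕ) : ZMod p) := ((ZMod.natCast_eq_natCast_iff _ _ _).2 h4).symm
      push_cast at h5
      rw [ZMod.pow_card_pow] at h5
      have hu0 : u ≠ 0 := by
        rintro rfl
        simp at h5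
      obtain ⟨w, rfl⟩ : ∃ w, u = w + 1 := ⟨u - 1, by omega⟩
      refine ⟨w, ?_, hu.symm⟩
      push_cast at h5
      rw [← ZMod.natCast_eq_zero_iff]
      linear_combination h5
  obtain ⟨m, hm⟩ := IsPGroup.iff_orderOf.1 hG (a ^ w)
  exact ⟨m, ⟨{ a := a, b := b, w := w, hw := hw, hconj := hconj, hdec := hdec, hc := hm, hp2 := hp2, hG := hG }⟩⟩

/-- A metacyclic `p`-group, `p` odd, with `|G'| = p ^ n` carries the data. -/
theorem exists_data {G : Type*} [Group G] [Finite G] {p : ℕ} [hp : Fact p.Prime] (hp2 : p ≠ 2) (hG : IsPGroup p G)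
    (hmc : Cfsg.IsMetacyclic G) {n : ℕ} (hn : Nat.card (commutator G) = p ^ n) : Nonempty (Data G p n) := by
  obtain ⟨m, ⟨D⟩⟩ := exists_data' hp2 hG hmc
  have h1 := D.card_commutator
  rw [hn] at h1
  have h2 : n = m := Nat.pow_right_injective hp.out.two_le h1
  rw [h2]
  exact ⟨D⟩

namespace Data

variable {G : Type*} [Group G] {p n : ℕ} [hp : Fact p.Prime] (D : Data G p n) [Finite G]

/-! ### Orders of abelian subgroups -/

include D in
/-- `|G : G'| = p ^ n |Z|`; abelian subgroups have at most that many elements. -/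
theorem card_le_of_comm (L : Subgroup G) (hL : IsMulCommutative ↥L) :
    Nat.card L ≤ p ^ n * Nat.card ↥(Subgroup.center G) := by
  have h1 := (isotropic_iff (D.img L)).1 ((D.comm_iff_isotropic L).1 hL)
  calc Nat.card L ≤ Nat.card (D.pre (D.img L)) := Subgroup.card_le_of_le (D.le_pre_img L)
    _ = Nat.card (D.img L) * Nat.card ↥(Subgroup.center G) := D.card_pre _
    _ ≤ p ^ n * Nat.card ↥(Subgroup.center G) := Nat.mul_le_mul_right _ h1

include D in
theorem lt_card_of_not_comm (L : Subgroup G) (hL : ¬ IsMulCommutative ↥L) :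
    p ^ n * Nat.card ↥(Subgroup.center G) < Nat.card L := by
  have hZ := D.center_le_of_not_comm L hL
  have h1 : ¬ Nat.card (D.img L) ≤ p ^ n := by
    rw [← isotropic_iff, ← D.comm_iff_isotropic]
    exact hL
  push Not at h1
  have h2 := D.card_pre (D.img L)
  rw [D.pre_img hZ] at h2
  rw [h2]
  exact Nat.mul_lt_mul_of_pos_right h1 Nat.card_pos

include D in
theorem comm_iff_card_le (L : Subgroup G) : IsMulCommutative ↥L ↔ Nat.card L ≤ (commutator G).index := by
  rw [D.index_commutator]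
  constructor
  · exact D.card_le_of_comm L
  · intro h
    by_contra hL
    exact absurd h (not_le.2 (D.lt_card_of_not_comm L hL))

include D in
theorem maximal_iff_card_eq (L : Subgroup G) :
    Maximal (fun K : Subgroup G => IsMulCommutative ↥K) L ↔ Nat.card L = (commutator G).index := by
  constructor
  · intro hL
    have hc := hL.1
    rw [D.index_commutator]
    have hiso := (D.comm_iff_isotropic L).1 hc
    have hpreC : IsMulCommutative ↥(D.pre (D.img L)) := by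
      rw [D.comm_iff_isotropic, D.img_pre]
      exact hiso
    have hpre : D.pre (D.img L) = L := le_antisymm (hL.2 hpreC (D.le_pre_img L)) (D.le_pre_img L)
    have hcard : Nat.card L = Nat.card (D.img L) * Nat.card ↥(Subgroup.center G) := by
      conv_lhs => rw [← hpre]
      exact D.card_pre _
    rw [hcard]
    congr 1
    apply le_antisymm ((isotropic_iff _).1 hiso)
    by_contra hlt
    push Not at hlt
    obtain ⟨M₁, hM₁, hM₁i⟩ := exists_isotropic_gt hiso hlt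
    have h1 : IsMulCommutative ↥(D.pre M₁) := by
      rw [D.comm_iff_isotropic, D.img_pre]
      exact hM₁i
    have h2 : L ≤ D.pre M₁ := by
      intro g hg
      exact hM₁.le (D.theta_mem_img hg)
    have h3 := hL.2 h1 h2
    apply (not_le_of_gt hM₁)
    intro x hx
    have h4 : D.sec x ∈ D.pre M₁ := by
      show D.theta (D.sec x) ∈ M₁
      rw [theta_sec]
      exact hx
    have h5 := D.theta_mem_img (h3 h4)
    rwa [theta_sec] at h5
  · intro h
    have hc : IsMulCommutative ↥L := (D.comm_iff_card_le L).2 h.le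
    refine ⟨hc, ?_⟩
    intro K hK hLK
    have h1 := (D.comm_iff_card_le K).1 hK
    rw [← h] at h1
    exact (Subgroup.eq_of_le_of_card_ge hLK h1).ge

/-! ### Centralizers of elements -/

/-- The centralizer of an element. -/
theorem centralizer_singleton (g : G) :
    Subgroup.centralizer ({g} : Set G) = D.pre (perp (AddSubgroup.zmultiples (D.theta g))) := by
  ext y
  rw [Subgroup.mem_centralizer_iff, mem_pre, mem_perp]
  constructor
  · rintro h _ ⟨k, rfl⟩
    have h1 := (D.theta_comm g y).1 (h g rfl)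
    show om (k • D.theta g) (D.theta y) = 0
    have h2 : k • D.theta g = (k : ZMod (p ^ n)) • D.theta g := by
      ext <;> simp
    rw [h2, om_smul_left, h1, mul_zero]
  · rintro h _ rfl
    apply (D.theta_comm _ y).2
    exact h _ (AddSubgroup.mem_zmultiples _)

theorem index_centralizer (g : G) : (Subgroup.centralizer ({g} : Set G)).index = addOrderOf (D.theta g) := by
  have h1 := (Subgroup.centralizer ({g} : Set G)).index_mul_card
  rw [D.centralizer_singleton, D.card_pre, D.card_G, ← card_mul_card_perp (AddSubgroup.zmultiples (D.theta g)),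
    Nat.card_zmultiples, ← mul_assoc] at h1
  have hZ : 0 < Nat.card ↥(Subgroup.center G) := Nat.card_pos
  have h2 := Nat.eq_of_mul_eq_mul_right hZ h1
  have hP : 0 < Nat.card (perp (AddSubgroup.zmultiples (D.theta g))) := Nat.card_pos
  rw [D.centralizer_singleton]
  exact Nat.eq_of_mul_eq_mul_right hP h2

end Data

/-! ### Orders in `(ℤ/p^n)²` -/

section orders

variable {p n : ℕ} [hp : Fact p.Prime]

theorem smul_pow_eq_zero_iff {k : ℕ} (hk : k ≤ n) (x : ZMod (p ^ n) × ZMod (p ^ n)) :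
    (p ^ k) • x = 0 ↔ x ∈ box p n (n - k) (n - k) := by
  rw [mem_box, mem_I_iff_of_le (Nat.sub_le _ _), mem_I_iff_of_le (Nat.sub_le _ _), Nat.sub_sub_self hk]
  constructor
  · intro h
    have h1 := congrArg Prod.fst h
    have h2 := congrArg Prod.snd h
    simp only [Prod.smul_fst, Prod.smul_snd, Prod.fst_zero, Prod.snd_zero, nsmul_eq_mul] at h1 h2
    push_cast at h1 h2
    exact ⟨h1, h2⟩
  · rintro ⟨h1, h2⟩
    ext
    · simp only [Prod.smul_fst, Prod.fst_zero, nsmul_eq_mul]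
      push_cast
      exact h1
    · simp only [Prod.smul_snd, Prod.snd_zero, nsmul_eq_mul]
      push_cast
      exact h2

theorem addOrderOf_dvd_pn (x : ZMod (p ^ n) × ZMod (p ^ n)) : addOrderOf x ∣ p ^ n := by
  apply addOrderOf_dvd_of_nsmul_eq_zero
  rw [smul_pow_eq_zero_iff le_rfl, Nat.sub_self]
  constructor
  · exact ⟨x.1.val * 1, by simp [show (p : ZMod (p ^ n)) ^ 0 = 1 from pow_zero _]⟩
  · exact ⟨x.2.val * 1, by simp [show (p : ZMod (p ^ n)) ^ 0 = 1 from pow_zero _]⟩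

theorem addOrderOf_le_iff {k : ℕ} (hk : k ≤ n) (x : ZMod (p ^ n) × ZMod (p ^ n)) :
    addOrderOf x ≤ p ^ k ↔ x ∈ box p n (n - k) (n - k) := by
  have hpp := hp.out
  rw [← smul_pow_eq_zero_iff hk]
  obtain ⟨l, _, hl⟩ := (Nat.dvd_prime_pow hpp).1 (addOrderOf_dvd_pn x)
  constructor
  · intro h
    rw [← addOrderOf_dvd_iff_nsmul_eq_zero, hl]
    rw [hl] at h
    exact pow_dvd_pow p ((Nat.pow_le_pow_iff_right hpp.one_lt).1 h)
  · intro h
    exact Nat.le_of_dvd (pow_pos hpp.pos k) (addOrderOf_dvd_of_nsmul_eq_zero h)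

/-- The number of elements of order `p ^ i`. -/
theorem card_addOrderOf_eq {i : ℕ} (hi : 1 ≤ i) (hin : i ≤ n) :
    Nat.card {x : ZMod (p ^ n) × ZMod (p ^ n) // addOrderOf x = p ^ i} = p ^ (2 * i) - p ^ (2 * i - 2) := by
  classical
  have hpp := hp.out
  obtain ⟨j, rfl⟩ : ∃ j, i = j + 1 := ⟨i - 1, by omega⟩
  let A : Set (ZMod (p ^ n) × ZMod (p ^ n)) := (box p n (n - (j + 1)) (n - (j + 1)) : Set _)
  let B : Set (ZMod (p ^ n) × ZMod (p ^ n)) := (box p n (n - j) (n - j) : Set _)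
  have hBA : B ⊆ A := by
    intro x hx
    exact ⟨I_anti (by omega) hx.1, I_anti (by omega) hx.2⟩
  have hE : {x : ZMod (p ^ n) × ZMod (p ^ n) | addOrderOf x = p ^ (j + 1)} = A \ B := by
    ext x
    constructor
    · intro hx
      have hx' : addOrderOf x = p ^ (j + 1) := hx
      constructor
      · exact (addOrderOf_le_iff hin x).1 hx'.le
      · intro hB
        have h1 := (addOrderOf_le_iff (by omega) x).2 hB
        rw [hx'] at h1
        have := (Nat.pow_le_pow_iff_right hpp.one_lt).1 h1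
        omega
    · rintro ⟨hA, hB⟩
      have h1 : p ^ (j + 1) • x = 0 := (smul_pow_eq_zero_iff hin x).2 hA
      have h2 : ¬ p ^ j • x = 0 := fun h => hB ((smul_pow_eq_zero_iff (by omega) x).1 h)
      exact addOrderOf_eq_prime_pow h2 h1
  have hA : A.ncard = p ^ (j + 1) * p ^ (j + 1) := by
    rw [← Nat.card_coe_set_eq]
    have := card_box (p := p) (n := n) (s := n - (j + 1)) (t := n - (j + 1)) (Nat.sub_le _ _) (Nat.sub_le _ _)
    rwa [Nat.sub_sub_self hin] at this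
  have hB : B.ncard = p ^ j * p ^ j := by
    rw [← Nat.card_coe_set_eq]
    have := card_box (p := p) (n := n) (s := n - j) (t := n - j) (Nat.sub_le _ _) (Nat.sub_le _ _)
    rwa [Nat.sub_sub_self (by omega)] at this
  have h1 : Nat.card {x : ZMod (p ^ n) × ZMod (p ^ n) // addOrderOf x = p ^ (j + 1)} = (A \ B).ncard := by
    rw [← hE, ← Nat.card_coe_set_eq]
    rfl
  rw [h1, Set.ncard_sdiff hBA, hA, hB, ← pow_add, ← pow_add]
  congr 2
  · ring
  · omega

end orders

theorem exists_n_data {G : Type*} [Group G] [Finite G] {p : ℕ} [hp : Fact p.Prime] (hp2 : p ≠ 2) (hG : IsPGroup p G)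
    (hmc : Cfsg.IsMetacyclic G) : ∃ n, Nat.card (commutator G) = p ^ n ∧ Nonempty (Data G p n) := by
  obtain ⟨n, hn⟩ := IsPGroup.iff_card.1 (hG.to_subgroup (commutator G))
  exact ⟨n, hn, exists_data hp2 hG hmc hn⟩

end Cfsg.Agent.Lib.Metacyclic
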