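import Mathlib
import Cfsg.Prelude.Def_OddOrderLocal

/-!
# Elements of order dividing `p` in metacyclic `p`-groups, `p` odd

In a metacyclic `p`-group with `p` odd, the elements with `x ^ p = 1` are the elements `z ^ i * x₀ ^ j` for two
commuting elements `z`, `x₀` with `z ^ p = 1 = x₀ ^ p`.
-/

set_option autoImplicit false

namespace Cfsg.Agent.Lib.MetacyclicOmega

variable {p : ℕ} [hp : Fact p.Prime]

/-- In a finite cyclic group, the solutions of `x ^ p = 1` are the powers of a nontrivial one. -/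
theorem mem_zpowers_of_cyclic {C : Type*} [Group C] [Finite C] [IsCyclic C] {a b : C} (ha : a ^ p = 1)
    (hb : b ^ p = 1) (hb1 : b ≠ 1) : a ∈ Subgroup.zpowers b := by
  classical
  haveI := Fintype.ofFinite C
  have h1 : (Finset.univ.filter (fun x : C => x ^ p = 1)).card ≤ p := IsCyclic.card_pow_eq_one_le hp.out.pos
  have hbo : orderOf b = p := orderOf_eq_prime hb hb1
  let Z : Finset C := (Finset.range p).image (fun i => b ^ i)
  have hZ : Z.card = p := by
    rw [Finset.card_image_of_injOn, Finset.card_range]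
    intro i hi j hj hij
    have := pow_injOn_Iio_orderOf (x := b)
    rw [hbo] at this
    exact this (by simpa using hi) (by simpa using hj) hij
  have hsub : Z ⊆ Finset.univ.filter (fun x : C => x ^ p = 1) := by
    intro x hx
    obtain ⟨i, -, rfl⟩ := Finset.mem_image.mp hx
    simp only [Finset.mem_filter, Finset.mem_univ, true_and]
    rw [← pow_mul, mul_comm, pow_mul, hb, one_pow]
  have heq := Finset.eq_of_subset_of_card_le hsub (by rw [hZ]; exact h1)
  have ha' : a ∈ Z := by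
    rw [heq]
    simp [ha]
  obtain ⟨i, -, rfl⟩ := Finset.mem_image.mp ha'
  exact Subgroup.npow_mem_zpowers b i

variable {G : Type*} [Group G]

/-- Conjugation by an element of order dividing `p` on a cyclic normal `p`-subgroup is a power map with exponent
`≡ 1 mod p`. -/
theorem exists_conj_eq_zpow [Finite G] (N : Subgroup G) [hN : N.Normal] [IsCyclic N] (hNp : IsPGroup p N) {x : G}
    (hx : x ^ p = 1) : ∃ c : ℤ, ∀ n ∈ N, x * n * x⁻¹ = n ^ (c * p + 1) := by
  classical
  have hpp := hp.out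
  by_cases hNt : Nontrivial N
  swap
  · rw [not_nontrivial_iff_subsingleton] at hNt
    refine ⟨0, fun n hn => ?_⟩
    have : (⟨n, hn⟩ : N) = 1 := Subsingleton.elim _ _
    have h1 : n = 1 := congrArg Subtype.val this
    subst h1
    simp
  let f : N →* N := (MulAut.conjNormal x).toMonoidHom
  have hf : ∀ n : N, ((f n : N) : G) = x * n * x⁻¹ := fun n => rfl
  obtain ⟨m, hm⟩ := f.map_cyclic
  have hm' : ∀ n ∈ N, x * n * x⁻¹ = n ^ m := by
    intro n hn
    have := congrArg Subtype.val (hm ⟨n, hn⟩)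
    rw [hf] at this
    simpa using this
  have hiter : ∀ (j : ℕ), ∀ n ∈ N, x ^ j * n * (x ^ j)⁻¹ = n ^ (m ^ j) := by
    intro j
    induction j with
    | zero =>
      intro n _
      simp
    | succ j ih =>
      intro n hn
      rw [pow_succ, mul_inv_rev, show x ^ j * x * n * (x⁻¹ * (x ^ j)⁻¹) = x ^ j * (x * n * x⁻¹) * (x ^ j)⁻¹ by group,
        hm' n hn, ih _ (N.zpow_mem hn m), ← zpow_mul, pow_succ, mul_comm]
  obtain ⟨g, hg⟩ := IsCyclic.exists_generator (α := N)
  have hgo : orderOf g = Nat.card N := orderOf_eq_card_of_forall_mem_zpowers hg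
  have hdvd : p ∣ orderOf g := by
    rw [hgo]
    obtain ⟨k, hk⟩ := IsPGroup.iff_card.mp hNp
    rw [hk]
    have hk0 : k ≠ 0 := by
      rintro rfl
      rw [pow_zero] at hk
      have := (Nat.card_eq_one_iff_unique.mp hk).1
      exact not_subsingleton_iff_nontrivial.mpr hNt this
    exact dvd_pow_self p hk0
  have hg1 := hiter p g g.2
  rw [hx, one_mul, inv_one, mul_one] at hg1
  have hg2 : (g : G) ^ ((m ^ p - 1 : ℤ)) = 1 := by
    rw [zpow_sub, zpow_one, ← hg1, mul_inv_cancel]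
  have hgo2 : orderOf (g : G) = orderOf g := Subgroup.orderOf_coe g
  have hg3 : (orderOf g : ℤ) ∣ m ^ p - 1 := by
    rw [← hgo2]
    exact orderOf_dvd_iff_zpow_eq_one.mpr hg2
  have hg4 : (p : ℤ) ∣ m ^ p - 1 := (Int.natCast_dvd_natCast.mpr hdvd).trans hg3
  have hg5 : ((m ^ p - 1 : ℤ) : ZMod p) = 0 := (ZMod.intCast_zmod_eq_zero_iff_dvd _ _).mpr hg4
  push_cast at hg5
  rw [ZMod.pow_card, sub_eq_zero] at hg5
  have hg6 : (p : ℤ) ∣ m - 1 := by
    rw [← ZMod.intCast_zmod_eq_zero_iff_dvd]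
    push_cast
    rw [hg5, sub_self]
  obtain ⟨c, hc⟩ := hg6
  refine ⟨c, fun n hn => ?_⟩
  rw [hm' n hn]
  congr 1
  linarith

/-- If `x ^ p = 1` acts on a cyclic normal `p`-subgroup `N`, `p` odd, then `(n * x) ^ p = 1` forces `n ^ p = 1`. -/
theorem pow_eq_one_of_mul [Finite G] (hodd : p ≠ 2) (N : Subgroup G) [N.Normal] [IsCyclic N] (hNp : IsPGroup p N) {x : G}
    (hx : x ^ p = 1) {n : G} (hn : n ∈ N) (h : (n * x) ^ p = 1) : n ^ p = 1 := by
  classical
  have hpp := hp.out
  obtain ⟨c, hc⟩ := exists_conj_eq_zpow N hNp hx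
  set k : ℤ := c * p + 1 with hk
  have hpow : ∀ m : ℕ, (n * x) ^ m = n ^ (∑ i ∈ Finset.range m, k ^ i) * x ^ m := by
    intro m
    induction m with
    | zero => simp
    | succ m ih =>
      have hconj : ∀ (j : ℕ), x ^ j * n * (x ^ j)⁻¹ = n ^ (k ^ j) := by
        intro j
        induction j with
        | zero => simp
        | succ j ih2 =>
          rw [pow_succ, mul_inv_rev, show x ^ j * x * n * (x⁻¹ * (x ^ j)⁻¹) = x ^ j * (x * n * x⁻¹) * (x ^ j)⁻¹ by group,
            hc n hn, ← conj_zpow, ih2, ← zpow_mul, pow_succ]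
      rw [pow_succ, ih, Finset.sum_range_succ, zpow_add, ← hconj m]
      group
  have h1 := hpow p
  rw [h, hx, mul_one] at h1
  have hoddp : Odd p := hpp.odd_of_ne_two hodd
  have h2 := odd_sq_dvd_geom_sum₂_sub (R := ℤ) hoddp (a := 1) (b := c)
  simp only [one_pow, mul_one] at h2
  obtain ⟨d, hd⟩ := h2
  have h3 : (∑ i ∈ Finset.range p, k ^ i) = p * (1 + p * d) := by
    have : (∑ i ∈ Finset.range p, k ^ i) = (∑ i ∈ Finset.range p, (1 + (p : ℤ) * c) ^ i) := by
      apply Finset.sum_congr rfl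
      intro i _
      rw [hk]
      ring
    rw [this]
    linear_combination hd
  rw [h3, zpow_mul, zpow_natCast] at h1
  -- the order of `n ^ p`
  have h4 : orderOf (n ^ p) ∣ (1 + p * d).natAbs := by
    have := orderOf_dvd_iff_zpow_eq_one.mpr h1.symm
    exact Int.natCast_dvd.mp this
  have hnp : IsPGroup p (Subgroup.zpowers (n ^ p)) := by
    exact hNp.to_le (Subgroup.zpowers_le.mpr (N.pow_mem hn p))
  have h5 : ∃ j, orderOf (n ^ p) = p ^ j := by
    rw [← Nat.card_zpowers]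
    exact IsPGroup.iff_card.mp hnp
  obtain ⟨j, hj⟩ := h5
  cases j with
  | zero =>
    rw [pow_zero, orderOf_eq_one_iff] at hj
    exact hj
  | succ j =>
    exfalso
    rw [hj] at h4
    have h6 : p ∣ (1 + p * d).natAbs := (dvd_pow_self p (Nat.succ_ne_zero j)).trans h4
    have h7 : (p : ℤ) ∣ 1 + p * d := Int.natCast_dvd.mpr h6
    have h8 : (p : ℤ) ∣ 1 := (Int.dvd_add_left (Dvd.intro _ rfl)).mp h7
    have h9 := Int.eq_one_of_dvd_one (by positivity) h8
    have h10 : p = 1 := by exact_mod_cast h9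
    exact hpp.ne_one h10

/-- The structure of the set of solutions of `x ^ p = 1`. -/
theorem exists_omega_gens [Finite G] (hG : IsPGroup p G) (hodd : p ≠ 2) (hm : Cfsg.IsMetacyclic G) :
    ∃ z x₀ : G, z ^ p = 1 ∧ x₀ ^ p = 1 ∧ z * x₀ = x₀ * z ∧ ∀ e : G, e ^ p = 1 → ∃ i j : ℕ, e = z ^ i * x₀ ^ j := by
  classical
  have hpp := hp.out
  obtain ⟨N, hN, hNc, hQc⟩ := hm
  have hNp : IsPGroup p N := hG.to_subgroup N
  -- the generator of `Ω₁(N)`
  obtain ⟨z, hzN, hzp, hz⟩ : ∃ z ∈ N, z ^ p = 1 ∧ ∀ n ∈ N, n ^ p = 1 → ∃ i : ℕ, n = z ^ i := by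
    by_cases hex : ∃ n ∈ N, n ≠ 1 ∧ n ^ p = 1
    · obtain ⟨z, hzN, hz1, hzp⟩ := hex
      refine ⟨z, hzN, hzp, fun n hn hnp => ?_⟩
      have hz1' : (⟨z, hzN⟩ : N) ≠ 1 := fun h => hz1 (congrArg Subtype.val h)
      have h1 := mem_zpowers_of_cyclic (C := N) (a := ⟨n, hn⟩) (b := ⟨z, hzN⟩) (p := p)
        (Subtype.ext hnp) (Subtype.ext hzp) hz1'
      rw [← mem_powers_iff_mem_zpowers] at h1
      obtain ⟨i, hi⟩ := h1
      exact ⟨i, (congrArg Subtype.val hi).symm⟩
    · push Not at hex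
      refine ⟨1, N.one_mem, one_pow _, fun n hn hnp => ⟨0, ?_⟩⟩
      rw [pow_zero]
      by_contra hne
      exact hex n hn hne hnp
  by_cases hx : ∃ x₀, x₀ ∉ N ∧ x₀ ^ p = 1
  · obtain ⟨x₀, hx₀N, hx₀p⟩ := hx
    refine ⟨z, x₀, hzp, hx₀p, ?_, fun e he => ?_⟩
    · obtain ⟨c, hc⟩ := exists_conj_eq_zpow N hNp hx₀p
      have h1 := hc z hzN
      have h2 : z ^ (c * p + 1) = z := by
        rw [zpow_add, zpow_one, zpow_mul, zpow_natCast]
        have : (z ^ c) ^ p = 1 := by
          rw [← zpow_natCast, ← zpow_mul, mul_comm, zpow_mul, zpow_natCast, hzp, one_zpow]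
        rw [this, one_mul]
      rw [h2, mul_inv_eq_iff_eq_mul] at h1
      exact h1.symm
    · -- the image in the quotient
      have hq : ((x₀ : G) : G ⧸ N) ^ p = 1 := by
        rw [← QuotientGroup.mk_pow, hx₀p]
        rfl
      have hq1 : ((x₀ : G) : G ⧸ N) ≠ 1 := by
        intro h
        exact hx₀N ((QuotientGroup.eq_one_iff _).mp h)
      have he' : ((e : G) : G ⧸ N) ^ p = 1 := by
        rw [← QuotientGroup.mk_pow, he]
        rfl
      have h1 := mem_zpowers_of_cyclic (C := G ⧸ N) he' hq hq1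
      rw [← mem_powers_iff_mem_zpowers] at h1
      obtain ⟨j, hj⟩ := h1
      have hj' : ((x₀ ^ j : G) : G ⧸ N) = (e : G ⧸ N) := by
        rw [QuotientGroup.mk_pow]
        exact hj
      have h2 : e * (x₀ ^ j)⁻¹ ∈ N := by
        rw [← QuotientGroup.eq_one_iff, QuotientGroup.mk_mul, QuotientGroup.mk_inv, ← hj', mul_inv_cancel]
      have hxj : (x₀ ^ j) ^ p = 1 := by
        rw [← pow_mul, mul_comm, pow_mul, hx₀p, one_pow]
      have h3 : (e * (x₀ ^ j)⁻¹ * x₀ ^ j) ^ p = 1 := by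
        rw [inv_mul_cancel_right, he]
      have h4 := pow_eq_one_of_mul hodd N hNp hxj h2 h3
      obtain ⟨i, hi⟩ := hz _ h2 h4
      refine ⟨i, j, ?_⟩
      rw [← hi, inv_mul_cancel_right]
  · push Not at hx
    refine ⟨z, 1, hzp, one_pow _, by simp, fun e he => ?_⟩
    have heN : e ∈ N := by
      by_contra hne
      exact hx e hne he
    obtain ⟨i, hi⟩ := hz e heN he
    exact ⟨i, 0, by simpa using hi⟩

end Cfsg.Agent.Lib.MetacyclicOmega
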