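import Mathlib
import Cfsg.Prelude.Def_Transfer
import Cfsg.Prelude.Def_LocalStructure
import Cfsg.Agent.Lib.PCore
import Cfsg.Agent.Lib.CoprimeHyper

/-!
# Irreducible cyclic modules of prime order and minimal non-`p`-closed groups

`card_eq_of_irreducible`: a finite additive group of exponent `q` with an additive map `σ`, `σ^p = 1`,
no nonzero fixed vectors and no proper nonzero invariant subgroup, has order `q ^ e`, where `e` is the
multiplicative order of `q` modulo `p`.
-/

set_option autoImplicit false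
set_option linter.style.haveILetI false
set_option linter.unusedSectionVars false
set_option linter.unusedVariables false

namespace Cfsg.Agent.Lib.MinNonClosed

open Polynomial

theorem pow_q_pow_eq_expand {q : ℕ} [hq : Fact q.Prime] (f : (ZMod q)[X]) (e : ℕ) :
    f ^ (q ^ e) = expand (ZMod q) (q ^ e) f := by
  induction e with
  | zero => simp
  | succ n ih =>
    rw [pow_succ q n, pow_mul, ih, expand_mul, ZMod.expand_card, map_pow]

theorem card_le_of_pow_eq_self {S : Type*} [CommRing S] [IsDomain S] [Fintype S] {n : ℕ} (hn : 1 < n)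
    (h : ∀ s : S, s ^ n = s) : Fintype.card S ≤ n := by
  have hdeg : (X ^ n - X : S[X]).natDegree = n := by
    have h1 : (X : S[X]).degree < (X ^ n : S[X]).degree := by
      rw [degree_X_pow, degree_X]
      exact_mod_cast hn
    rw [natDegree_eq_of_degree_eq (degree_sub_eq_left_of_degree_lt h1), natDegree_X_pow]
  have hP : (X ^ n - X : S[X]) ≠ 0 := by
    intro h0
    rw [h0, natDegree_zero] at hdeg
    omega
  have h1 := card_le_degree_of_subset_roots (R := S) (p := X ^ n - X) (Z := Finset.univ) (by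
    intro s _
    rw [mem_roots hP]
    simp [IsRoot, h])
  rw [hdeg] at h1
  exact h1

/-- Upper bound on the size of an irreducible module for one endomorphism satisfying `σ ^ (q ^ e) = σ`. -/
theorem card_le_of_irreducible {q e : ℕ} [hq : Fact q.Prime] (he : 0 < e) {V : Type*} [AddCommGroup V]
    [Module (ZMod q) V] [Finite V] (σ : Module.End (ZMod q) V) (hσ : σ ^ (q ^ e) = σ)
    (hirr : ∀ W : Submodule (ZMod q) V, (∀ v ∈ W, σ v ∈ W) → W = ⊥ ∨ W = ⊤) :
    Nat.card V ≤ q ^ e := by
  classical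
  have hqpos : 0 < q ^ e := pow_pos hq.out.pos e
  by_cases hV : Subsingleton V
  · rw [Nat.card_unique (α := V) ]
    · exact hqpos
  rw [not_subsingleton_iff_nontrivial] at hV
  obtain ⟨a, ha⟩ := exists_ne (0 : V)
  let φ : (ZMod q)[X] →ₐ[ZMod q] Module.End (ZMod q) V := aeval σ
  have hφX : φ X = σ := by simp [φ]
  -- each element of the image is zero or injective
  have hinj : ∀ f : (ZMod q)[X], φ f = 0 ∨ Function.Injective (φ f) := by
    intro f
    have hc : ∀ v, φ f (σ v) = σ (φ f v) := by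
      intro v
      have h1 : φ f * φ X = φ X * φ f := by
        rw [← map_mul, ← map_mul, mul_comm]
      rw [hφX] at h1
      exact LinearMap.congr_fun h1 v
    rcases hirr (LinearMap.ker (φ f)) (by
      intro v hv
      rw [LinearMap.mem_ker] at hv ⊢
      rw [hc, hv, map_zero]) with h | h
    · right
      exact LinearMap.ker_eq_bot.1 h
    · left
      exact LinearMap.ker_eq_top.1 h
  let I : Ideal (ZMod q)[X] := RingHom.ker φ
  have hφ1 : φ 1 ≠ 0 := by
    rw [map_one]
    intro h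
    apply ha
    have : (1 : Module.End (ZMod q) V) a = 0 := by rw [h]; rfl
    simpa using this
  haveI hI : I.IsPrime := by
    constructor
    · intro h
      apply hφ1
      have : (1 : (ZMod q)[X]) ∈ I := by rw [h]; trivial
      exact this
    · intro f g hfg
      have hfg' : φ f * φ g = 0 := by
        rw [← map_mul]; exact hfg
      rcases hinj f with hf | hf
      · left; exact hf
      · right
        show φ g = 0
        ext v
        apply hf
        have := LinearMap.congr_fun hfg' v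
        simpa using this
  let S := (ZMod q)[X] ⧸ I
  -- `S` is finite since it embeds into `End V`
  let ι : S →+* Module.End (ZMod q) V :=
    Ideal.Quotient.lift I (φ : (ZMod q)[X] →+* Module.End (ZMod q) V) (fun f hf => hf)
  have hι : Function.Injective ι := by
    refine RingHom.lift_injective_of_ker_le_ideal I _ (le_refl _)
  haveI : Finite (Module.End (ZMod q) V) := by
    have : Finite (V →ₗ[ZMod q] V) :=
      Finite.of_injective (fun f : V →ₗ[ZMod q] V => (f : V → V)) DFunLike.coe_injective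
    exact this
  haveI : Finite S := Finite.of_injective ι hι
  letI : Fintype S := Fintype.ofFinite S
  haveI : IsDomain S := Ideal.Quotient.isDomain I
  -- Frobenius
  have hfrob : ∀ s : S, s ^ (q ^ e) = s := by
    intro s
    obtain ⟨f, rfl⟩ := Ideal.Quotient.mk_surjective s
    rw [← map_pow, Ideal.Quotient.eq]
    show φ (f ^ q ^ e - f) = 0
    rw [map_sub, sub_eq_zero, pow_q_pow_eq_expand]
    show aeval σ (expand (ZMod q) (q ^ e) f) = aeval σ f
    rw [expand_aeval, hσ]
  have hone : 1 < q ^ e := Nat.one_lt_pow he.ne' hq.out.one_lt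
  have hS : Fintype.card S ≤ q ^ e := card_le_of_pow_eq_self hone hfrob
  -- the orbit map is surjective
  let ψ : (ZMod q)[X] →ₗ[ZMod q] V :=
    { toFun := fun f => φ f a
      map_add' := by intro f g; simp
      map_smul' := by intro c f; simp }
  have hψ : Function.Surjective ψ := by
    rw [← LinearMap.range_eq_top]
    rcases hirr (LinearMap.range ψ) (by
      rintro _ ⟨f, rfl⟩
      refine ⟨X * f, ?_⟩
      show φ (X * f) a = σ (φ f a)
      rw [map_mul, hφX]
      rfl) with h | h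
    · exfalso
      apply ha
      have h1 : ψ 1 ∈ LinearMap.range ψ := ⟨1, rfl⟩
      rw [h, Submodule.mem_bot] at h1
      have h2 : ψ 1 = a := by
        show φ 1 a = a
        rw [map_one]; rfl
      rwa [h2] at h1
    · exact h
  choose sec hsec using hψ
  have hinj2 : Function.Injective (fun v : V => (Ideal.Quotient.mk I (sec v) : S)) := by
    intro v w hvw
    have h1 : Ideal.Quotient.mk I (sec v) = Ideal.Quotient.mk I (sec w) := hvw
    rw [Ideal.Quotient.eq] at h1
    have h2 : φ (sec v - sec w) = 0 := h1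
    rw [map_sub, sub_eq_zero] at h2
    rw [← hsec v, ← hsec w]
    show φ (sec v) a = φ (sec w) a
    rw [h2]
  calc Nat.card V ≤ Nat.card S := Nat.card_le_card_of_injective _ hinj2
    _ = Fintype.card S := Nat.card_eq_fintype_card
    _ ≤ q ^ e := hS

theorem card_le_aux {p q e k : ℕ} [hq : Fact q.Prime] (he : 0 < e) {V : Type*} [AddCommGroup V]
    [Module (ZMod q) V] [Finite V] (σ : V →+ V) (hσp : ∀ v : V, σ^[p] v = v) (hqk : q ^ e = p * k + 1)
    (hirr : ∀ W : AddSubgroup V, (∀ v ∈ W, σ v ∈ W) → W = ⊥ ∨ W = ⊤) : Nat.card V ≤ q ^ e := by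
  let τ : Module.End (ZMod q) V := σ.toZModLinearMap q
  have hτp : τ ^ p = 1 := by
    ext v
    rw [Module.End.pow_apply]
    exact hσp v
  have hτ : τ ^ (q ^ e) = τ := by
    rw [hqk, pow_succ, pow_mul, hτp, one_pow, one_mul]
  apply card_le_of_irreducible he τ hτ
  intro W hW
  rcases hirr W.toAddSubgroup hW with h | h
  · left
    exact Submodule.toAddSubgroup_injective (by simpa using h)
  · right
    exact Submodule.toAddSubgroup_injective (by simpa using h)

/-- A finite abelian group of exponent `q` with a fixed-point-free additive automorphism `σ` of order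
dividing the prime `p`, having no proper nonzero invariant subgroup, has order `q ^ e`,
`e = orderOf (q : ZMod p)`. -/
theorem card_eq_of_irreducible {p q : ℕ} [hp : Fact p.Prime] (hq : q.Prime) (hpq : q ≠ p) {V : Type*}
    [AddCommGroup V] [Finite V] (hV : ∀ v : V, q • v = 0) (σ : V →+ V)
    (hσp : ∀ v : V, σ^[p] v = v) (hfix : ∀ v : V, σ v = v → v = 0)
    (hirr : ∀ W : AddSubgroup V, (∀ v ∈ W, σ v ∈ W) → W = ⊥ ∨ W = ⊤) (hne : Nontrivial V) :
    Nat.card V = q ^ orderOf (q : ZMod p) := by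
  classical
  haveI : Fact q.Prime := ⟨hq⟩
  letI : Module (ZMod q) V := AddCommGroup.zmodModule hV
  letI : Fintype V := Fintype.ofFinite V
  -- order of `q` mod `p`
  have hq0 : (q : ZMod p) ≠ 0 := by
    rw [Ne, ZMod.natCast_eq_zero_iff]
    intro h
    exact hpq ((Nat.prime_dvd_prime_iff_eq hp.out hq).1 h).symm
  have hqord : (q : ZMod p) ^ (p - 1) = 1 := ZMod.pow_card_sub_one_eq_one hq0
  have hepos : 0 < orderOf (q : ZMod p) := by
    apply orderOf_pos_iff.2
    rw [isOfFinOrder_iff_pow_eq_one]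
    exact ⟨p - 1, Nat.sub_pos_of_lt hp.out.one_lt, hqord⟩
  set e := orderOf (q : ZMod p) with he
  -- the order is a power of `q`
  have hVp : IsPGroup q (Multiplicative V) := by
    intro v
    refine ⟨1, ?_⟩
    show (v : Multiplicative V) ^ q ^ 1 = 1
    rw [pow_one]
    exact hV (Multiplicative.toAdd v)
  obtain ⟨d, hd⟩ := IsPGroup.iff_card.1 hVp
  have hd' : Nat.card V = q ^ d := hd
  -- lower bound
  let f : Function.End V := (⇑σ : V → V)
  have hf : f ^ p ^ 1 = 1 := by
    rw [pow_one]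
    funext v
    exact hσp v
  have hmod := Equiv.Perm.card_fixedPoints_modEq (f := f) (p := p) (n := 1) hf
  have hfixcard : Fintype.card (Function.fixedPoints f) = 1 := by
    rw [Fintype.card_eq_one_iff]
    refine ⟨⟨0, ?_⟩, ?_⟩
    · exact map_zero σ
    · rintro ⟨v, hv⟩
      apply Subtype.ext
      exact hfix v hv
  rw [hfixcard, ← Nat.card_eq_fintype_card (α := V), hd'] at hmod
  have hdvd : e ∣ d := by
    rw [he]
    apply orderOf_dvd_of_pow_eq_one
    have := (ZMod.natCast_eq_natCast_iff _ _ p).2 hmod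
    simpa using this
  have hdpos : 0 < d := by
    rcases d.eq_zero_or_pos with h | h
    · exfalso
      rw [h, pow_zero] at hd'
      have := Finite.one_lt_card (α := V)
      omega
    · exact h
  have hed : e ≤ d := Nat.le_of_dvd hdpos hdvd
  -- upper bound
  have hqe : (q : ZMod p) ^ e = 1 := pow_orderOf_eq_one _
  have hqe2 : q ^ e ≡ 1 [MOD p] := by
    have : ((q ^ e : ℕ) : ZMod p) = ((1 : ℕ) : ZMod p) := by simpa using hqe
    exact (ZMod.natCast_eq_natCast_iff _ _ p).1 this
  have hq1 : 1 ≤ q ^ e := Nat.one_le_pow _ _ hq.pos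
  obtain ⟨k, hk⟩ : p ∣ q ^ e - 1 := (Nat.modEq_iff_dvd' hq1).1 hqe2.symm
  have hqk : q ^ e = p * k + 1 := by omega
  have hle : Nat.card V ≤ q ^ e := card_le_aux hepos σ hσp hqk hirr
  rw [hd'] at hle ⊢
  have hdle : d ≤ e := (Nat.pow_le_pow_iff_right hq.one_lt).1 hle
  rw [le_antisymm hdle hed]

section group

variable {G : Type*} [Group G] [Finite G]

/-- An element outside a normal subgroup of prime index generates modulo it. -/
theorem exists_decomp {p : ℕ} [hp : Fact p.Prime] (A : Subgroup G) [A.Normal] (hidx : A.index = p)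
    {x : G} (hx : x ∉ A) (g : G) : ∃ a ∈ A, ∃ i : ℕ, g = a * x ^ i := by
  classical
  have hx1 : (QuotientGroup.mk x : G ⧸ A) ≠ 1 := by
    rwa [Ne, QuotientGroup.eq_one_iff]
  have h := mem_powers_of_prime_card (G := G ⧸ A) (p := p) hidx hx1 (g' := (QuotientGroup.mk g : G ⧸ A))
  obtain ⟨i, hi⟩ := h
  refine ⟨g * (x ^ i)⁻¹, ?_, i, by group⟩
  rw [← QuotientGroup.eq_one_iff]
  have hi' : (QuotientGroup.mk x : G ⧸ A) ^ i = QuotientGroup.mk g := hi
  show (QuotientGroup.mk g : G ⧸ A) * ((QuotientGroup.mk x : G ⧸ A) ^ i)⁻¹ = 1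
  rw [hi', mul_inv_cancel]

/-- A subgroup of the abelian normal subgroup `A` that is invariant under `x` is normal. -/
theorem normal_of_le_of_invariant {A B : Subgroup G} (hAc : ∀ a ∈ A, ∀ b ∈ A, a * b = b * a)
    (hB : B ≤ A) {x : G} (hdec : ∀ g : G, ∃ a ∈ A, ∃ i : ℕ, g = a * x ^ i)
    (hinv : ∀ b ∈ B, x * b * x⁻¹ ∈ B) : B.Normal := by
  have hpow : ∀ i : ℕ, ∀ b ∈ B, x ^ i * b * (x ^ i)⁻¹ ∈ B := by
    intro i
    induction i with
    | zero => intro b hb; simpa using hb
    | succ n ih =>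
      intro b hb
      have e : x ^ (n + 1) * b * (x ^ (n + 1))⁻¹ = x ^ n * (x * b * x⁻¹) * (x ^ n)⁻¹ := by
        rw [pow_succ]; group
      rw [e]
      exact ih _ (hinv b hb)
  constructor
  intro b hb g
  obtain ⟨a, ha, i, rfl⟩ := hdec g
  have h1 := hpow i b hb
  have e : a * x ^ i * b * (a * x ^ i)⁻¹ = a * (x ^ i * b * (x ^ i)⁻¹) * a⁻¹ := by group
  rw [e, hAc a ha _ (hB h1), mul_inv_cancel_right]
  exact h1

/-- Choice of an element of order dividing `p` outside `A`. -/
theorem exists_pow_eq_one_not_mem {p q : ℕ} [hp : Fact p.Prime] (hq : q.Prime) (hpq : q ≠ p) (A : Subgroup G) [A.Normal]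
    (hA : ∀ a ∈ A, a ^ q = 1) (hidx : A.index = p) : ∃ x : G, x ∉ A ∧ x ^ p = 1 := by
  have hne : A ≠ ⊤ := by
    rintro rfl
    rw [Subgroup.index_top] at hidx
    exact hp.out.one_lt.ne hidx
  obtain ⟨y, hy⟩ : ∃ y, y ∉ A := by
    by_contra h
    push Not at h
    exact hne ((Subgroup.eq_top_iff' A).2 h)
  have hyp : y ^ p ∈ A := by
    have := Subgroup.pow_index_mem A y
    rwa [hidx] at this
  refine ⟨y ^ q, ?_, ?_⟩
  · intro h
    apply hy
    have hcop : Nat.Coprime p q := (Nat.coprime_primes hp.out hq).2 hpq.symm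
    rw [← QuotientGroup.eq_one_iff]
    rw [← orderOf_eq_one_iff]
    have h1 : (QuotientGroup.mk y : G ⧸ A) ^ q = 1 := by
      rw [← QuotientGroup.mk_pow, QuotientGroup.eq_one_iff]; exact h
    have h2 : (QuotientGroup.mk y : G ⧸ A) ^ p = 1 := by
      rw [← QuotientGroup.mk_pow, QuotientGroup.eq_one_iff]; exact hyp
    have h3 := Nat.dvd_gcd (orderOf_dvd_of_pow_eq_one h2) (orderOf_dvd_of_pow_eq_one h1)
    rw [hcop] at h3
    exact Nat.dvd_one.1 h3
  · rw [← pow_mul, mul_comm, pow_mul]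
    exact hA _ hyp

/-- If `x` centralizes the abelian `A` and `G = A ⟨x⟩`, then `G` is commutative. -/
theorem isMulCommutative_of_centralize {A : Subgroup G} (hAc : ∀ a ∈ A, ∀ b ∈ A, a * b = b * a)
    {x : G} (hdec : ∀ g : G, ∃ a ∈ A, ∃ i : ℕ, g = a * x ^ i) (hcx : ∀ a ∈ A, x * a = a * x) :
    IsMulCommutative G := by
  refine ⟨⟨?_⟩⟩
  intro g h
  obtain ⟨a, ha, i, rfl⟩ := hdec g
  obtain ⟨b, hb, j, rfl⟩ := hdec h
  have c1 : Commute a b := hAc a ha b hb
  have c2 : Commute a (x ^ j) := (Commute.pow_right (Commute.symm (hcx a ha)) j)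
  have c3 : Commute (x ^ i) b := (Commute.pow_left (hcx b hb) i)
  have c4 : Commute (x ^ i) (x ^ j) := Commute.pow_pow_self x i j
  exact Commute.mul_left (Commute.mul_right c1 c2) (Commute.mul_right c3 c4)

/-- Commutators lie in a normal subgroup with cyclic quotient generated by `x`. -/
theorem commutator_mem_of_decomp {A : Subgroup G} [hA : A.Normal] {x : G}
    (hdec : ∀ g : G, ∃ a ∈ A, ∃ i : ℕ, g = a * x ^ i) (g h : G) : g * h * g⁻¹ * h⁻¹ ∈ A := by
  obtain ⟨a, ha, i, rfl⟩ := hdec g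
  obtain ⟨b, hb, j, rfl⟩ := hdec h
  rw [← QuotientGroup.eq_one_iff]
  have h1 : (QuotientGroup.mk a : G ⧸ A) = 1 := (QuotientGroup.eq_one_iff a).2 ha
  have h2 : (QuotientGroup.mk b : G ⧸ A) = 1 := (QuotientGroup.eq_one_iff b).2 hb
  have c4 : Commute ((QuotientGroup.mk x : G ⧸ A) ^ i) ((QuotientGroup.mk x : G ⧸ A) ^ j) :=
    Commute.pow_pow_self _ i j
  have e : ((a * x ^ i * (b * x ^ j) * (a * x ^ i)⁻¹ * (b * x ^ j)⁻¹ : G) : G ⧸ A) =
      (QuotientGroup.mk a * (QuotientGroup.mk x : G ⧸ A) ^ i * (QuotientGroup.mk b * (QuotientGroup.mk x : G ⧸ A) ^ j) *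
        (QuotientGroup.mk a * (QuotientGroup.mk x : G ⧸ A) ^ i)⁻¹ * (QuotientGroup.mk b * (QuotientGroup.mk x : G ⧸ A) ^ j)⁻¹) := rfl
  rw [e, h1, h2]
  simp only [one_mul]
  rw [c4.eq]
  group

/-- An element killed by a power of `p` and by `q` is trivial. -/
theorem eq_one_of_pow_eq_one {M : Type*} [Monoid M] {p q k : ℕ} (hp : p.Prime) (hq : q.Prime) (hpq : q ≠ p)
    {a : M} (h1 : a ^ q = 1) (h2 : a ^ p ^ k = 1) : a = 1 := by
  have hcop : Nat.Coprime (p ^ k) q := Nat.Coprime.pow_left _ ((Nat.coprime_primes hp hq).2 hpq.symm)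
  have h3 := Nat.dvd_gcd (orderOf_dvd_of_pow_eq_one h2) (orderOf_dvd_of_pow_eq_one h1)
  rw [hcop] at h3
  exact orderOf_eq_one_iff.1 (Nat.dvd_one.1 h3)

/-- **Key counting lemma.** -/
theorem card_eq_of_minimal_normal {p q : ℕ} [hp : Fact p.Prime] (hq : q.Prime) (hpq : q ≠ p)
    (hna : ¬ IsMulCommutative G) (A : Subgroup G) [hAn : A.Normal] (hA : Cfsg.IsElementaryAbelian q A)
    (hidx : A.index = p) (hmin : ∀ B : Subgroup G, B.Normal → B ≤ A → B = ⊥ ∨ B = A) :
    Nat.card ↥A = q ^ orderOf (q : ZMod p) := by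
  classical
  have hAc : ∀ a ∈ A, ∀ b ∈ A, a * b = b * a := by
    intro a ha b hb
    have := hA.1.is_comm.comm ⟨a, ha⟩ ⟨b, hb⟩
    exact congrArg Subtype.val this
  obtain ⟨x, hxA, hxp⟩ := exists_pow_eq_one_not_mem hq hpq A hA.2 hidx
  have hdec := exists_decomp A hidx hxA
  -- the centralizer part
  let C : Subgroup G :=
    { carrier := {a | a ∈ A ∧ x * a * x⁻¹ = a}
      mul_mem' := by
        rintro a b ⟨ha, ha'⟩ ⟨hb, hb'⟩
        refine ⟨A.mul_mem ha hb, ?_⟩
        calc x * (a * b) * x⁻¹ = (x * a * x⁻¹) * (x * b * x⁻¹) := by group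
          _ = a * b := by rw [ha', hb']
      one_mem' := ⟨A.one_mem, by group⟩
      inv_mem' := by
        rintro a ⟨ha, ha'⟩
        refine ⟨A.inv_mem ha, ?_⟩
        calc x * a⁻¹ * x⁻¹ = (x * a * x⁻¹)⁻¹ := by group
          _ = a⁻¹ := by rw [ha'] }
  have hCA : C ≤ A := fun a ha => ha.1
  have hCn : C.Normal := normal_of_le_of_invariant hAc hCA hdec (by
    rintro b ⟨hb, hb'⟩
    rw [hb']
    exact ⟨hb, hb'⟩)
  have hnc : ¬ ∀ a ∈ A, x * a = a * x := fun hcx => hna (isMulCommutative_of_centralize hAc hdec hcx)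
  have hCbot : C = ⊥ := by
    rcases hmin C hCn hCA with h | h
    · exact h
    · exfalso
      apply hnc
      intro a ha
      have : a ∈ C := h ▸ ha
      have h2 := this.2
      rw [mul_inv_eq_iff_eq_mul] at h2
      exact h2
  letI : CommGroup ↥A := { (inferInstance : Group ↥A) with mul_comm := hA.1.is_comm.comm }
  let σ0 : ↥A →* ↥A := (MulAut.conjNormal x : MulAut ↥A).toMonoidHom
  have hσ0 : ∀ a : ↥A, ((σ0 a : ↥A) : G) = x * a * x⁻¹ := fun a => MulAut.conjNormal_apply x a
  let σ : Additive ↥A →+ Additive ↥A := σ0.toAdditive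
  have hiter : ∀ (n : ℕ) (v : Additive ↥A), ((Additive.toMul (σ^[n] v) : ↥A) : G) = x ^ n * (Additive.toMul v : ↥A) * (x ^ n)⁻¹ := by
    intro n
    induction n with
    | zero => intro v; simp
    | succ n ih =>
      intro v
      rw [Function.iterate_succ_apply', pow_succ']
      have h1 := hσ0 (Additive.toMul (σ^[n] v))
      have h2 : Additive.toMul (σ (σ^[n] v)) = σ0 (Additive.toMul (σ^[n] v)) := rfl
      rw [h2, h1, ih]
      group
  have hne : Nontrivial (Additive ↥A) := by
    by_contra hnt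
    rw [not_nontrivial_iff_subsingleton] at hnt
    apply hnc
    intro a ha
    have h1 : Additive.ofMul (⟨a, ha⟩ : ↥A) = Additive.ofMul (1 : ↥A) := Subsingleton.elim _ _
    have h2 : a = 1 := congrArg Subtype.val (Additive.ofMul.injective h1)
    rw [h2, mul_one, one_mul]
  apply Eq.trans (Nat.card_congr (Additive.ofMul (α := ↥A)).symm)
  apply card_eq_of_irreducible hq hpq (V := Additive ↥A) ?_ σ ?_ ?_ ?_ hne
  · intro v
    show Additive.ofMul ((Additive.toMul v) ^ q) = 0
    have h1 := hA.2 _ (Additive.toMul v : ↥A).2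
    have h2 : (Additive.toMul v) ^ q = 1 := Subtype.ext h1
    rw [h2]
    rfl
  · intro v
    apply Additive.toMul.injective
    apply Subtype.ext
    rw [hiter, hxp]
    group
  · intro v hv
    have h1 : ((Additive.toMul v : ↥A) : G) ∈ C := by
      refine ⟨(Additive.toMul v : ↥A).2, ?_⟩
      have h2 : σ0 (Additive.toMul v) = Additive.toMul v := congrArg Additive.toMul hv
      rw [← hσ0, h2]
    rw [hCbot, Subgroup.mem_bot] at h1
    apply Additive.toMul.injective
    exact Subtype.ext h1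
  · intro W hW
    let B : Subgroup G :=
      { carrier := {g | ∃ w ∈ W, ((Additive.toMul w : ↥A) : G) = g}
        mul_mem' := by
          rintro _ _ ⟨w₁, h₁, rfl⟩ ⟨w₂, h₂, rfl⟩
          exact ⟨w₁ + w₂, W.add_mem h₁ h₂, rfl⟩
        one_mem' := ⟨0, W.zero_mem, rfl⟩
        inv_mem' := by
          rintro _ ⟨w, h, rfl⟩
          exact ⟨-w, W.neg_mem h, rfl⟩ }
    have hBA : B ≤ A := by
      rintro _ ⟨w, _, rfl⟩
      exact (Additive.toMul w : ↥A).2
    have hBn : B.Normal := normal_of_le_of_invariant hAc hBA hdec (by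
      rintro _ ⟨w, hw, rfl⟩
      exact ⟨σ w, hW w hw, hσ0 _⟩)
    rcases hmin B hBn hBA with h | h
    · left
      rw [eq_bot_iff]
      intro w hw
      have h1 : ((Additive.toMul w : ↥A) : G) ∈ B := ⟨w, hw, rfl⟩
      rw [h, Subgroup.mem_bot] at h1
      rw [AddSubgroup.mem_bot]
      apply Additive.toMul.injective
      exact Subtype.ext h1
    · right
      rw [eq_top_iff]
      intro w _
      have h1 : ((Additive.toMul w : ↥A) : G) ∈ B := by
        rw [h]
        exact (Additive.toMul w : ↥A).2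
      obtain ⟨w', hw', he⟩ := h1
      have : w' = w := by
        apply Additive.toMul.injective
        exact Subtype.ext he
      rwa [← this]

/-- A normal `q`-subgroup which is minimal normal is elementary abelian. -/
theorem isElementaryAbelian_of_minimal {q : ℕ} [hq : Fact q.Prime] {N : Subgroup G} [hNn : N.Normal]
    (hNq : IsPGroup q N) (hN1 : N ≠ ⊥)
    (hmin : ∀ B : Subgroup G, B.Normal → B ≤ N → B = ⊥ ∨ B = N) : Cfsg.IsElementaryAbelian q N := by
  classical
  haveI : Nontrivial ↥N := (Subgroup.nontrivial_iff_ne_bot N).2 hN1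
  -- the center
  have hZ : (Subgroup.center ↥N).map N.subtype = N := by
    have hZn : ((Subgroup.center ↥N).map N.subtype).Normal :=
      ConjAct.normal_of_characteristic_of_normal
    rcases hmin _ hZn (Subgroup.map_subtype_le _) with h | h
    · exfalso
      have h1 : Nontrivial ↥(Subgroup.center ↥N) := hNq.center_nontrivial
      obtain ⟨⟨z, hz⟩, hz1⟩ := exists_ne (1 : ↥(Subgroup.center ↥N))
      have h2 : (z : G) ∈ (Subgroup.center ↥N).map N.subtype := ⟨z, hz, rfl⟩
      rw [h, Subgroup.mem_bot] at h2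
      apply hz1
      apply Subtype.ext
      exact Subtype.ext h2
    · exact h
  have hAc : ∀ a ∈ N, ∀ b ∈ N, a * b = b * a := by
    intro a ha b hb
    have h1 : a ∈ (Subgroup.center ↥N).map N.subtype := by rw [hZ]; exact ha
    obtain ⟨z, hz, rfl⟩ := h1
    have h2 := Subgroup.mem_center_iff.1 hz ⟨b, hb⟩
    exact (congrArg Subtype.val h2).symm
  have hcomm : IsMulCommutative ↥N := ⟨⟨fun a b => Subtype.ext (hAc _ a.2 _ b.2)⟩⟩
  refine ⟨hcomm, ?_⟩
  let B : Subgroup G :=
    { carrier := {a | a ∈ N ∧ a ^ q = 1}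
      mul_mem' := by
        rintro a b ⟨ha, ha'⟩ ⟨hb, hb'⟩
        refine ⟨N.mul_mem ha hb, ?_⟩
        have c : Commute a b := hAc a ha b hb
        rw [c.mul_pow, ha', hb', one_mul]
      one_mem' := ⟨N.one_mem, one_pow _⟩
      inv_mem' := by
        rintro a ⟨ha, ha'⟩
        exact ⟨N.inv_mem ha, by rw [inv_pow, ha', inv_one]⟩ }
  have hBn : B.Normal := by
    constructor
    rintro a ⟨ha, ha'⟩ g
    refine ⟨hNn.conj_mem a ha g, ?_⟩
    rw [conj_pow, ha']
    group
  rcases hmin B hBn (fun a ha => ha.1) with h | h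
  · exfalso
    have hd : q ∣ Nat.card ↥N := by
      obtain ⟨k, hk⟩ := IsPGroup.iff_card.1 hNq
      rw [hk]
      refine dvd_pow_self q ?_
      rintro rfl
      rw [pow_zero] at hk
      have := Finite.one_lt_card (α := ↥N)
      omega
    obtain ⟨y, hy⟩ := exists_prime_orderOf_dvd_card' (G := ↥N) q hd
    have hy1 : ((y : ↥N) : G) ∈ B := by
      refine ⟨y.2, ?_⟩
      have := pow_orderOf_eq_one y
      rw [hy] at this
      exact congrArg Subtype.val this
    rw [h, Subgroup.mem_bot] at hy1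
    have h3 : y = 1 := Subtype.ext hy1
    rw [h3, orderOf_one] at hy
    exact hq.out.one_lt.ne hy
  · intro a ha
    have h1 : a ∈ B := by rw [h]; exact ha
    exact h1.2

/-- An element of a `p'`-group with order a power of `p` is trivial. -/
theorem eq_one_of_mem_of_pow_eq_one {p k : ℕ} (hp : p.Prime) {N : Subgroup G} (hN : ¬ p ∣ Nat.card N) {y : G}
    (hy : y ∈ N) (hyk : y ^ p ^ k = 1) : y = 1 := by
  have h1 : orderOf y ∣ p ^ k := orderOf_dvd_of_pow_eq_one hyk
  have h2 : orderOf y ∣ Nat.card N := by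
    have h3 : orderOf (⟨y, hy⟩ : ↥N) ∣ Nat.card N := orderOf_dvd_natCard _
    rwa [Subgroup.orderOf_mk] at h3
  have hcop : Nat.Coprime (p ^ k) (Nat.card N) := Nat.Coprime.pow_left _ ((Nat.Prime.coprime_iff_not_dvd hp).2 hN)
  have h3 := Nat.dvd_gcd h1 h2
  rw [hcop] at h3
  exact orderOf_eq_one_iff.1 (Nat.dvd_one.1 h3)

/-- Uniqueness: normal `p'`-subgroups of index `p` coincide. -/
theorem le_of_index_of_not_dvd {p : ℕ} [hp : Fact p.Prime] {M N : Subgroup G} [hN : N.Normal]
    (hNi : N.index = p) (hM : ¬ p ∣ Nat.card M) : M ≤ N := by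
  intro m hm
  rw [← QuotientGroup.eq_one_iff, ← orderOf_eq_one_iff]
  have h1 : (QuotientGroup.mk m : G ⧸ N) ^ p = 1 := by
    rw [← QuotientGroup.mk_pow, QuotientGroup.eq_one_iff]
    have := Subgroup.pow_index_mem N m
    rwa [hNi] at this
  have h2 : (QuotientGroup.mk m : G ⧸ N) ^ Nat.card M = 1 := by
    rw [← QuotientGroup.mk_pow, QuotientGroup.eq_one_iff]
    have h3 : (⟨m, hm⟩ : ↥M) ^ Nat.card M = 1 := pow_card_eq_one'
    have h4 : m ^ Nat.card M = 1 := congrArg Subtype.val h3
    rw [h4]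
    exact N.one_mem
  have hcop : Nat.Coprime p (Nat.card M) := (Nat.Prime.coprime_iff_not_dvd hp.out).2 hM
  have h3 := Nat.dvd_gcd (orderOf_dvd_of_pow_eq_one h1) (orderOf_dvd_of_pow_eq_one h2)
  rw [hcop] at h3
  exact Nat.dvd_one.1 h3

/-- `x` acts on `N`, `x ^ p = 1`: the subgroup `Q ⟨x⟩` for an `x`-invariant `Q`. -/
def extendBy (Q : Subgroup G) (x : G) {p : ℕ} (hxp : x ^ p = 1) (hp : 0 < p) (hQ : ∀ a ∈ Q, x * a * x⁻¹ ∈ Q) : Subgroup G where
  carrier := {g | ∃ a ∈ Q, ∃ i : ℕ, g = a * x ^ i}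
  mul_mem' := by
    have hpow : ∀ i : ℕ, ∀ a ∈ Q, x ^ i * a * (x ^ i)⁻¹ ∈ Q := by
      intro i
      induction i with
      | zero => intro b hb; simpa using hb
      | succ n ih =>
        intro b hb
        have e : x ^ (n + 1) * b * (x ^ (n + 1))⁻¹ = x ^ n * (x * b * x⁻¹) * (x ^ n)⁻¹ := by
          rw [pow_succ]; group
        rw [e]
        exact ih _ (hQ b hb)
    rintro _ _ ⟨a, ha, i, rfl⟩ ⟨b, hb, j, rfl⟩
    refine ⟨a * (x ^ i * b * (x ^ i)⁻¹), Q.mul_mem ha (hpow i b hb), i + j, ?_⟩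
    rw [pow_add]
    group
  one_mem' := ⟨1, Q.one_mem, 0, by simp⟩
  inv_mem' := by
    have hpow : ∀ i : ℕ, ∀ a ∈ Q, x ^ i * a * (x ^ i)⁻¹ ∈ Q := by
      intro i
      induction i with
      | zero => intro b hb; simpa using hb
      | succ n ih =>
        intro b hb
        have e : x ^ (n + 1) * b * (x ^ (n + 1))⁻¹ = x ^ n * (x * b * x⁻¹) * (x ^ n)⁻¹ := by
          rw [pow_succ]; group
        rw [e]
        exact ih _ (hQ b hb)
    rintro _ ⟨a, ha, i, rfl⟩
    -- `(x ^ i)⁻¹ = x ^ ((p - 1) * i)`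
    have hinv : (x ^ i)⁻¹ = x ^ ((p - 1) * i) := by
      rw [inv_eq_iff_mul_eq_one, ← pow_add]
      have : i + (p - 1) * i = p * i := by
        obtain ⟨m, rfl⟩ : ∃ m, p = m + 1 := ⟨p - 1, by omega⟩
        simp only [Nat.add_sub_cancel]
        ring
      rw [this, pow_mul, hxp, one_pow]
    refine ⟨x ^ ((p - 1) * i) * a⁻¹ * (x ^ ((p - 1) * i))⁻¹, hpow _ _ (Q.inv_mem ha), (p - 1) * i, ?_⟩
    rw [mul_inv_rev, hinv]
    group

/-- **Common final step.** Let `N` be the unique proper nontrivial normal subgroup of `G`,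
a `p'`-group of index `p`, and `x` an element of order `p` not centralizing `N` such that inside every
proper subgroup containing `x`, `x * a * x⁻¹ * a⁻¹` has order a power of `p`. -/
theorem structure_of_common {p : ℕ} [hp : Fact p.Prime] (N : Subgroup G) [hNn : N.Normal]
    (hidx : N.index = p) (hNp : ¬ p ∣ Nat.card N) (hN1 : N ≠ ⊥)
    (hu : ∀ M : Subgroup G, M.Normal → M ≠ ⊥ → M ≠ ⊤ → M = N)
    (x : G) (hxN : x ∉ N) (hxp : x ^ p = 1)
    (hKx : ∀ K : Subgroup G, K ≠ ⊤ → x ∈ K → ∀ a ∈ K, ∃ k : ℕ, (x * (a * x⁻¹ * a⁻¹)) ^ p ^ k = 1)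
    (hnc : ¬ ∀ n ∈ N, x * n = n * x) :
    ∃ q : ℕ, q.Prime ∧ q ≠ p ∧ Nat.card G = p * q ^ orderOf (q : ZMod p) ∧
      ∃ A : Subgroup G, A.Normal ∧ Nat.card ↥A = q ^ orderOf (q : ZMod p) ∧ Cfsg.IsElementaryAbelian q A ∧
        ∀ B : Subgroup G, B.Normal → B ≤ A → B = ⊥ ∨ B = A := by
  classical
  have hpp : p.Prime := hp.out
  have hNtop : N ≠ ⊤ := by
    rintro rfl
    rw [Subgroup.index_top] at hidx
    exact hpp.one_lt.ne hidx
  have hmin : ∀ B : Subgroup G, B.Normal → B ≤ N → B = ⊥ ∨ B = N := by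
    intro B hBn hBN
    by_cases hB : B = ⊥
    · exact Or.inl hB
    · right
      apply hu B hBn hB
      rintro rfl
      exact hNtop (top_le_iff.1 hBN)
  -- `x` centralizes every invariant Sylow subgroup which is proper in `N`.
  have hxpos : 0 < p := hpp.pos
  have hXnorm : Subgroup.zpowers x ≤ Subgroup.normalizer (N : Set G) := by
    rw [Subgroup.normalizer_eq_top N]
    exact le_top
  have hzp : IsPGroup p (Subgroup.zpowers x) := by
    apply IsPGroup.of_card (n := 1)
    rw [pow_one, Nat.card_zpowers]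
    have h1 : orderOf x ∣ p := orderOf_dvd_of_pow_eq_one hxp
    rcases (Nat.dvd_prime hpp).1 h1 with h2 | h2
    · exfalso
      apply hxN
      rw [orderOf_eq_one_iff.1 h2]
      exact N.one_mem
    · exact h2
  -- key claim: there is a prime `q` with `N` a `q`-group
  have hex : ∃ q : ℕ, q.Prime ∧ IsPGroup q N := by
    by_contra hnot
    push Not at hnot
    apply hnc
    -- `C_N(x) = N`
    let C : Subgroup ↥N := (Subgroup.centralizer ({x} : Set G)).subgroupOf N
    have hC : C = ⊤ := by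
      apply Cfsg.Agent.Lib.PCore.eq_top_of_forall_sylow_le
      intro q hq
      obtain ⟨Q, hQ⟩ := Cfsg.Agent.Lib.CoprimeHyper.exists_invariant_sylow (q := q) (Subgroup.zpowers x) N hzp hNp hXnorm
      refine ⟨Q, ?_⟩
      intro y hy
      have hQ' : ∀ a ∈ (Q : Subgroup ↥N).map N.subtype, x * a * x⁻¹ ∈ (Q : Subgroup ↥N).map N.subtype :=
        fun a ha => hQ x (Subgroup.mem_zpowers x) a ha
      let K := extendBy ((Q : Subgroup ↥N).map N.subtype) x hxp hxpos hQ'
      have hK : K ≠ ⊤ := by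
        intro hKtop
        -- then `Q = N`
        apply hnot q hq.out
        have hNQ : N ≤ (Q : Subgroup ↥N).map N.subtype := by
          intro n hn
          have hnK : n ∈ K := by rw [hKtop]; trivial
          obtain ⟨a, ha, i, rfl⟩ := hnK
          have haN : a ∈ N := (Subgroup.map_subtype_le _) ha
          have hiN : x ^ i ∈ N := by
            have := N.mul_mem (N.inv_mem haN) hn
            simpa using this
          have hi1 : x ^ i = 1 := by
            -- order of `x ^ i` divides `p` and `|N|`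
            apply eq_one_of_mem_of_pow_eq_one (k := 1) hpp hNp hiN
            rw [pow_one, ← pow_mul, mul_comm, pow_mul, hxp, one_pow]
          rwa [hi1, mul_one]
        have hpg : IsPGroup q ↥((Q : Subgroup ↥N).map N.subtype) := by
          have : IsPGroup q ↥(Q : Subgroup ↥N) := Q.isPGroup'
          exact this.map N.subtype
        exact hpg.to_le hNQ
      have hxK : x ∈ K := ⟨1, Subgroup.one_mem _, 1, by simp⟩
      have hyK : ((y : ↥N) : G) ∈ K := ⟨y, ⟨y, hy, rfl⟩, 0, by simp⟩
      obtain ⟨k, hk⟩ := hKx K hK hxK _ hyK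
      have hmemN : x * ((y : ↥N) : G) * x⁻¹ * ((y : ↥N) : G)⁻¹ ∈ N :=
        N.mul_mem (hNn.conj_mem _ y.2 x) (N.inv_mem y.2)
      have e : x * ((y : ↥N) : G) * x⁻¹ * ((y : ↥N) : G)⁻¹ = x * (((y : ↥N) : G) * x⁻¹ * ((y : ↥N) : G)⁻¹) := by group
      rw [← e] at hk
      have h1 := eq_one_of_mem_of_pow_eq_one hpp hNp hmemN hk
      rw [mul_inv_eq_one, mul_inv_eq_iff_eq_mul] at h1
      show ((y : ↥N) : G) ∈ Subgroup.centralizer ({x} : Set G)
      rw [Subgroup.mem_centralizer_iff]
      rintro g rfl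
      exact h1
    intro n hn
    have h1 : (⟨n, hn⟩ : ↥N) ∈ C := by rw [hC]; trivial
    have h2 : n ∈ Subgroup.centralizer ({x} : Set G) := h1
    rw [Subgroup.mem_centralizer_iff] at h2
    exact h2 x rfl
  obtain ⟨q, hq, hNq⟩ := hex
  haveI : Fact q.Prime := ⟨hq⟩
  have hqp : q ≠ p := by
    rintro rfl
    obtain ⟨k, hk⟩ := IsPGroup.iff_card.1 hNq
    apply hNp
    rw [hk]
    refine dvd_pow_self q ?_
    rintro rfl
    rw [pow_zero] at hk
    exact hN1 ((Subgroup.eq_bot_iff_card N).2 hk)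
  have hEA := isElementaryAbelian_of_minimal hNq hN1 hmin
  have hna : ¬ IsMulCommutative G := by
    intro hc
    apply hnc
    intro n _
    exact hc.is_comm.comm x n
  have hcard := card_eq_of_minimal_normal hq hqp hna N hEA hidx hmin
  refine ⟨q, hq, hqp, ?_, N, hNn, hcard, hEA, hmin⟩
  have h1 := N.index_mul_card
  rw [hidx, hcard] at h1
  exact h1.symm

/-- If `x` centralizes `N`, the `p`-elements are the powers of `x`. -/
theorem mem_zpowers_of_centralize {p : ℕ} [hp : Fact p.Prime] {N : Subgroup G} [hNn : N.Normal]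
    (hidx : N.index = p) (hNp : ¬ p ∣ Nat.card N) {x : G} (hxN : x ∉ N) (hxp : x ^ p = 1)
    (hcx : ∀ n ∈ N, x * n = n * x) {r : G} {k : ℕ} (hr : r ^ p ^ k = 1) : r ∈ Subgroup.zpowers x := by
  obtain ⟨n, hn, i, rfl⟩ := exists_decomp N hidx hxN r
  have hc : Commute n (x ^ i) := Commute.pow_right (Commute.symm (hcx n hn)) i
  have h1 : (n * x ^ i) ^ p ^ (k + 1) = 1 := by
    rw [pow_succ, pow_mul, hr, one_pow]
  rw [hc.mul_pow] at h1
  have h2 : (x ^ i) ^ p ^ (k + 1) = 1 := by
    rw [← pow_mul, show i * p ^ (k + 1) = p * (i * p ^ k) by ring, pow_mul, hxp, one_pow]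
  rw [h2, mul_one] at h1
  have h3 : n = 1 := eq_one_of_mem_of_pow_eq_one hp.out hNp hn h1
  rw [h3, one_mul]
  exact Subgroup.npow_mem_zpowers x i

/-- Index of `N` when `G = N ⟨z⟩`, `z ^ p = 1`. -/
theorem index_of_sup_zpowers {p : ℕ} [hp : Fact p.Prime] {N : Subgroup G} [hNn : N.Normal] {z : G}
    (hz : z ^ p = 1) (h : N ⊔ Subgroup.zpowers z = ⊤) (hN : N ≠ ⊤) : N.index = p := by
  have h1 : Subgroup.zpowers (QuotientGroup.mk' N z) = ⊤ := by
    have h2 := congrArg (Subgroup.map (QuotientGroup.mk' N)) h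
    rw [Subgroup.map_sup, QuotientGroup.map_mk'_self, bot_sup_eq, MonoidHom.map_zpowers] at h2
    rw [h2, ← MonoidHom.range_eq_map]
    exact MonoidHom.range_eq_top.2 (QuotientGroup.mk'_surjective N)
  have h2 : N.index = orderOf (QuotientGroup.mk' N z) := by
    rw [← Nat.card_zpowers, h1, Subgroup.card_top]
    rfl
  have h3 : orderOf (QuotientGroup.mk' N z) ∣ p := by
    apply orderOf_dvd_of_pow_eq_one
    rw [← map_pow, hz, map_one]
  rw [h2]
  rcases (Nat.dvd_prime hp.out).1 h3 with h4 | h4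
  · exfalso
    rw [h4] at h2
    exact hN (Subgroup.index_eq_one.1 h2)
  · exact h4

end group

end Cfsg.Agent.Lib.MinNonClosed
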