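import Mathlib
import Cfsg.Agent.Lib.TransferCore

/-!
# Basic tools for the two-prime theorem: `p`-elements, conjugation actions, and the dichotomy for
`{p, q}`-groups with small `q`-part.
-/

set_option autoImplicit false
set_option linter.style.haveILetI false

namespace Cfsg.Agent.Lib.MixBasic

open Subgroup Cfsg.Agent.Lib.TransferCore
open scoped Pointwise

variable {G : Type*} [Group G]

/-- `x` has `p`-power order. -/
def PElt (p : ℕ) (x : G) : Prop := ∃ k : ℕ, x ^ p ^ k = 1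

theorem PElt.one {p : ℕ} : PElt p (1 : G) := ⟨0, by simp⟩

theorem PElt.conj {p : ℕ} {x : G} (h : PElt p x) (g : G) : PElt p (g * x * g⁻¹) := by
  obtain ⟨k, hk⟩ := h
  exact ⟨k, by rw [conj_pow, hk]; simp⟩

theorem PElt.inv {p : ℕ} {x : G} (h : PElt p x) : PElt p x⁻¹ := by
  obtain ⟨k, hk⟩ := h
  exact ⟨k, by rw [inv_pow, hk, inv_one]⟩

theorem PElt.pow {p : ℕ} {x : G} (h : PElt p x) (n : ℕ) : PElt p (x ^ n) := by
  obtain ⟨k, hk⟩ := h
  exact ⟨k, by rw [← pow_mul, mul_comm, pow_mul, hk, one_pow]⟩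

theorem pelt_of_mem {p : ℕ} {A : Subgroup G} (hA : IsPGroup p A) {x : G} (hx : x ∈ A) :
    PElt p x := by
  obtain ⟨k, hk⟩ := hA ⟨x, hx⟩
  exact ⟨k, by simpa using congrArg Subtype.val hk⟩

theorem isPGroup_zpowers {p : ℕ} {x : G} (h : PElt p x) : IsPGroup p (zpowers x) := by
  obtain ⟨k, hk⟩ := h
  rintro ⟨y, n, rfl⟩
  refine ⟨k, ?_⟩
  ext
  simp only [SubmonoidClass.coe_pow, OneMemClass.coe_one]
  show (x ^ n) ^ p ^ k = 1
  rw [← zpow_natCast, ← zpow_mul, mul_comm, zpow_mul, zpow_natCast, hk, one_zpow]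

theorem pelt_iff_orderOf {p : ℕ} (hp : p.Prime) {x : G} : PElt p x ↔ ∃ k, orderOf x = p ^ k := by
  constructor
  · rintro ⟨k, hk⟩
    obtain ⟨j, -, hj⟩ := (Nat.dvd_prime_pow hp).1 (orderOf_dvd_of_pow_eq_one hk)
    exact ⟨j, hj⟩
  · rintro ⟨k, hk⟩
    exact ⟨k, by rw [← hk, pow_orderOf_eq_one]⟩

theorem eq_one_of_pelt_pelt {p q : ℕ} (hp : p.Prime) (hq : q.Prime) (hpq : p ≠ q) {x : G}
    (h₁ : PElt p x) (h₂ : PElt q x) : x = 1 := by
  obtain ⟨a, ha⟩ := (pelt_iff_orderOf hp).1 h₁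
  obtain ⟨b, hb⟩ := (pelt_iff_orderOf hq).1 h₂
  have hcop : Nat.Coprime (p ^ a) (q ^ b) :=
    Nat.Coprime.pow _ _ ((Nat.coprime_primes hp hq).2 hpq)
  have e : p ^ a = q ^ b := by rw [← ha, hb]
  rw [← e, Nat.coprime_self] at hcop
  rw [← ha] at hcop
  exact orderOf_eq_one_iff.1 hcop

theorem exists_sylow_of_pelt {p : ℕ} {x : G} (h : PElt p x) : ∃ P : Sylow p G, x ∈ P := by
  obtain ⟨P, hP⟩ := (isPGroup_zpowers h).exists_le_sylow
  exact ⟨P, hP (mem_zpowers x)⟩

/-- A `p`-element normalizing a Sylow `p`-subgroup lies in it. -/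
theorem mem_sylow_of_mem_normalizer {p : ℕ} (P : Sylow p G) {x : G} (h : PElt p x)
    (hx : x ∈ normalizer ((P : Subgroup G) : Set G)) : x ∈ P := by
  have h1 : zpowers x ≤ normalizer ((P : Subgroup G) : Set G) := by
    rw [zpowers_le]; exact hx
  have h2 : IsPGroup p ((zpowers x ⊔ (P : Subgroup G) : Subgroup G)) :=
    (isPGroup_zpowers h).to_sup_of_normal_right' P.2 h1
  have h3 := P.is_maximal' h2 le_sup_right
  have h4 : x ∈ (zpowers x ⊔ (P : Subgroup G) : Subgroup G) :=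
    (le_sup_left : zpowers x ≤ _) (mem_zpowers x)
  rw [h3] at h4
  exact h4

/-- The order of a join divides the product of the orders, if one normalizes the other. -/
theorem card_sup_dvd_of_le_normalizer [Finite G] (N M : Subgroup G)
    (h : N ≤ normalizer (M : Set G)) :
    Nat.card (N ⊔ M : Subgroup G) ∣ Nat.card N * Nat.card M := by
  have hM : (M.subgroupOf (N ⊔ M)).Normal := by
    constructor
    intro n hn g
    have hg : (g : G) ∈ (N ⊔ M : Subgroup G) := g.2
    have h1 : (N ⊔ M : Subgroup G) ≤ normalizer (M : Set G) :=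
      sup_le h le_normalizer
    have h2 := h1 hg
    rw [mem_subgroupOf] at hn ⊢
    rw [mem_normalizer_iff] at h2
    have := (h2 n).1 hn
    simpa using this
  have hset : ((N ⊔ M : Subgroup G) : Set G) = (N : Set G) * (M : Set G) :=
    coe_mul_of_left_le_normalizer_right N M h
  let f : N →* (↥(N ⊔ M) ⧸ M.subgroupOf (N ⊔ M)) :=
    (QuotientGroup.mk' (M.subgroupOf (N ⊔ M))).comp (Subgroup.inclusion le_sup_left)
  have hf : Function.Surjective f := by
    intro y
    obtain ⟨g, rfl⟩ := QuotientGroup.mk'_surjective _ y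
    have hg : (g : G) ∈ ((N ⊔ M : Subgroup G) : Set G) := g.2
    rw [hset] at hg
    obtain ⟨n, hn, m, hm, hnm⟩ := Set.mem_mul.1 hg
    refine ⟨⟨n, hn⟩, ?_⟩
    show QuotientGroup.mk' _ _ = QuotientGroup.mk' _ _
    rw [QuotientGroup.mk'_apply, QuotientGroup.mk'_apply, QuotientGroup.eq]
    rw [mem_subgroupOf]
    have : ((Subgroup.inclusion le_sup_left ⟨n, hn⟩ : ↥(N ⊔ M))⁻¹ * g : ↥(N ⊔ M)).1 = m := by
      simp [← hnm]
    rw [this]
    exact hm
  have h3 : Nat.card (↥(N ⊔ M) ⧸ M.subgroupOf (N ⊔ M)) ∣ Nat.card N :=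
    Subgroup.card_dvd_of_surjective f hf
  have h4 : Nat.card (↥(N ⊔ M)) =
      Nat.card (↥(N ⊔ M) ⧸ M.subgroupOf (N ⊔ M)) * Nat.card (M.subgroupOf (N ⊔ M)) :=
    Subgroup.card_eq_card_quotient_mul_card_subgroup _
  have h5 : Nat.card (M.subgroupOf (N ⊔ M)) = Nat.card M :=
    Nat.card_congr (Subgroup.subgroupOfEquivOfLe le_sup_right).toEquiv
  rw [h4, h5]
  exact mul_dvd_mul_right h3 _

/-- A conjugation action of a subgroup on an invariant set. -/
@[reducible] def conjSetAct (P : Subgroup G) (S : Set G) (hS : ∀ y ∈ P, ∀ x ∈ S, y * x * y⁻¹ ∈ S) :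
    MulAction P S where
  smul y x := ⟨y.1 * x.1 * y.1⁻¹, hS y.1 y.2 x.1 x.2⟩
  one_smul x := by
    apply Subtype.ext
    show (1 : G) * x.1 * (1 : G)⁻¹ = x.1
    simp
  mul_smul a b x := by
    apply Subtype.ext
    show (a.1 * b.1) * x.1 * (a.1 * b.1)⁻¹ = a.1 * (b.1 * x.1 * b.1⁻¹) * a.1⁻¹
    group

/-- A `p`-group acting on a set of size `p` without fixed point is transitive (conjugation form). -/
theorem conj_transitive_of_card_prime [Finite G] {p : ℕ} [hp : Fact p.Prime] (P : Subgroup G)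
    (hP : IsPGroup p P) (S : Set G) (hS : ∀ y ∈ P, ∀ x ∈ S, y * x * y⁻¹ ∈ S)
    (hcard : Nat.card S = p) (hfix : ∀ x ∈ S, ∃ y ∈ P, y * x * y⁻¹ ≠ x) :
    ∀ t₁ ∈ S, ∀ t₂ ∈ S, ∃ y ∈ P, y * t₁ * y⁻¹ = t₂ := by
  intro t₁ ht₁ t₂ ht₂
  letI := conjSetAct P S hS
  let a : S := ⟨t₁, ht₁⟩
  obtain ⟨n, hn⟩ := hP.card_orbit a
  have hle : Nat.card (MulAction.orbit P a) ≤ Nat.card S :=
    Nat.card_le_card_of_injective _ (Subtype.val_injective)
  have hn0 : n ≠ 0 := by
    rintro rfl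
    rw [pow_zero, Nat.card_eq_one_iff_unique] at hn
    obtain ⟨y, hy, hne⟩ := hfix t₁ ht₁
    have h1 := hn.1.elim (⟨(⟨y, hy⟩ : P) • a, MulAction.mem_orbit a _⟩ : MulAction.orbit P a)
      ⟨a, MulAction.mem_orbit_self a⟩
    apply hne
    exact congrArg (fun z : MulAction.orbit P a => (z.1 : G)) h1
  have hn1 : Nat.card (MulAction.orbit P a) = Nat.card S := by
    apply le_antisymm hle
    rw [hcard, hn]
    exact Nat.le_self_pow hn0 p
  have hS' : MulAction.orbit P a = Set.univ := by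
    apply Set.eq_of_subset_of_ncard_le (Set.subset_univ _)
    rw [Set.ncard_univ]
    rw [← hn1]
    exact le_of_eq (Nat.card_coe_set_eq _)
  have hb : (⟨t₂, ht₂⟩ : S) ∈ MulAction.orbit P a := by
    rw [hS']; exact Set.mem_univ _
  obtain ⟨y, hy⟩ := hb
  exact ⟨y.1, y.2, congrArg Subtype.val hy⟩

/-- A finite `{p, q}`-group whose `q`-part is at most `p + 1`: either the Sylow `p`-subgroup is
normal, or `q = 2` and the group is a Frobenius-like extension. -/
theorem dich_abs {p q : ℕ} [hp : Fact p.Prime] [hq : Fact q.Prime] (hpq : p ≠ q) (hp2 : p ≠ 2)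
    {L : Type*} [Group L] [Finite L]
    (hπ : ∀ ℓ : ℕ, ℓ.Prime → ℓ ∣ Nat.card L → ℓ = p ∨ ℓ = q)
    (hle : ∀ y, q ^ y ∣ Nat.card L → q ^ y ≤ p + 1)
    (hab : (∃ y, q ^ y ∣ Nat.card L ∧ q ^ y = p + 1) →
      ∀ A : Subgroup L, IsPGroup p A → ∀ x ∈ A, ∀ y ∈ A, x * y = y * x) :
    (∃ B : Subgroup L, B.Normal ∧ IsPGroup p B ∧ ∀ x : L, PElt p x → x ∈ B) ∨
    (q = 2 ∧ ∃ K P : Subgroup L, K.Normal ∧ Nat.card K = p + 1 ∧ IsPGroup 2 K ∧ IsPGroup p P ∧
      (∀ x : L, PElt 2 x → x ∈ K) ∧ (∀ x ∈ K, x ^ 2 = 1) ∧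
      (∀ t₁ ∈ K, ∀ t₂ ∈ K, t₁ ≠ 1 → t₂ ≠ 1 → ∃ y ∈ P, y * t₁ * y⁻¹ = t₂)) := by
  obtain ⟨P⟩ : Nonempty (Sylow p L) := inferInstance
  by_cases hn : Nat.card (Sylow p L) = 1
  · left
    haveI : Subsingleton (Sylow p L) := (Nat.card_eq_one_iff_unique.1 hn).1
    refine ⟨P, P.normal_of_subsingleton, P.2, ?_⟩
    intro x hx
    obtain ⟨P', hP'⟩ := exists_sylow_of_pelt hx
    rwa [Subsingleton.elim P' P] at hP'
  · right
    have hidx0 : (P : Subgroup L).index ≠ 0 := Subgroup.index_ne_zero_of_finite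
    have hidx : (P : Subgroup L).index = q ^ (P : Subgroup L).index.primeFactorsList.length := by
      apply Nat.eq_prime_pow_of_unique_prime_dvd hidx0
      intro d hd hdvd
      rcases hπ d hd (hdvd.trans (Subgroup.index_dvd_card _)) with rfl | h
      · exact absurd hdvd P.not_dvd_index
      · exact h
    set y := (P : Subgroup L).index.primeFactorsList.length with hy
    have hdvd : q ^ y ∣ Nat.card L := hidx ▸ Subgroup.index_dvd_card _
    have h1 := hle y hdvd
    have h2 : Nat.card (Sylow p L) ∣ q ^ y := hidx ▸ P.card_dvd_index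
    have h3 := card_sylow_modEq_one p L
    have hn0 : 0 < Nat.card (Sylow p L) := Nat.card_pos
    have hn2 : p + 1 ≤ Nat.card (Sylow p L) := by
      have h4 : 1 ≤ Nat.card (Sylow p L) := hn0
      have h5 : p ∣ Nat.card (Sylow p L) - 1 := (Nat.modEq_iff_dvd' h4).1 h3.symm
      have h6 : 0 < Nat.card (Sylow p L) - 1 := by omega
      have := Nat.le_of_dvd h6 h5
      omega
    have hnq : Nat.card (Sylow p L) = q ^ y :=
      le_antisymm (Nat.le_of_dvd (pow_pos hq.out.pos _) h2) (h1.trans hn2)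
    have hqy : q ^ y = p + 1 := le_antisymm h1 (hnq ▸ hn2)
    have hab' := hab ⟨y, hdvd, hqy⟩
    have hnormidx : (normalizer ((P : Subgroup L) : Set L)).index = (P : Subgroup L).index := by
      have e : Nat.card (Sylow p L) = (normalizer ((P : Subgroup L) : Set L)).index :=
        P.card_eq_index_normalizer
      rw [← e, hnq, ← hidx]
    have hnorm : normalizer ((P : Subgroup L) : Set L) = P := by
      symm
      apply Subgroup.eq_of_le_of_card_ge le_normalizer
      have e1 := Subgroup.card_mul_index (normalizer ((P : Subgroup L) : Set L))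
      have e2 := Subgroup.card_mul_index (P : Subgroup L)
      rw [hnormidx] at e1
      have e3 : 0 < (P : Subgroup L).index := Nat.pos_of_ne_zero hidx0
      have e4 := e1.trans e2.symm
      exact le_of_eq (Nat.eq_of_mul_eq_mul_right e3 e4)
    have hcent : normalizer ((P : Subgroup L) : Set L) ≤ centralizer ((P : Subgroup L) : Set L) := by
      rw [hnorm]
      intro a ha
      rw [mem_centralizer_iff]
      intro b hb
      exact hab' P P.2 b hb a ha
    have hc := MonoidHom.ker_transferSylow_isComplement' P hcent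
    set K : Subgroup L := (MonoidHom.transferSylow P hcent).ker with hK
    haveI hKn : K.Normal := MonoidHom.normal_ker _
    have hcardK : Nat.card K = p + 1 := by
      have e1 : Nat.card K * Nat.card (P : Subgroup L) = Nat.card L := hc.card_mul_card
      have e2 := Subgroup.card_mul_index (P : Subgroup L)
      rw [mul_comm, ← e2] at e1
      have e3 : 0 < Nat.card (P : Subgroup L) := Nat.card_pos
      have e4 := Nat.eq_of_mul_eq_mul_left e3 e1
      rw [e4, hidx, hqy]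
    have hodd : Odd p := hp.out.odd_of_ne_two hp2
    have hq2 : q = 2 := by
      have e1 : 2 ∣ q ^ y := by
        rw [hqy]
        exact (hodd.add_one).two_dvd
      have e2 := Nat.prime_two.dvd_of_dvd_pow e1
      exact ((Nat.prime_dvd_prime_iff_eq Nat.prime_two hq.out).1 e2).symm
    subst hq2
    have hK2 : IsPGroup 2 K := by
      rw [IsPGroup.iff_card]
      exact ⟨y, hcardK.trans hqy.symm⟩
    have hS : ∀ a ∈ (P : Subgroup L), ∀ x ∈ (K : Set L) \ {1}, a * x * a⁻¹ ∈ (K : Set L) \ {1} := by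
      rintro a - x ⟨hx1, hx2⟩
      refine ⟨hKn.conj_mem x hx1 a, ?_⟩
      intro h
      apply hx2
      have h5 : a * x * a⁻¹ = 1 := h
      have : x = 1 := by
        have h6 : a * x = a := by
          calc a * x = a * x * a⁻¹ * a := by group
            _ = a := by rw [h5, one_mul]
        simpa using h6
      exact this
    have hcardS : Nat.card ((K : Set L) \ {1} : Set L) = p := by
      rw [Nat.card_coe_set_eq, Set.ncard_sdiff_singleton_of_mem (one_mem K : (1 : L) ∈ (K : Set L))]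
      have e1 : ((K : Set L)).ncard = Nat.card K := (Nat.card_coe_set_eq _).symm
      rw [e1, hcardK]
      simp
    have hfix : ∀ x ∈ (K : Set L) \ {1}, ∃ a ∈ (P : Subgroup L), a * x * a⁻¹ ≠ x := by
      rintro x ⟨hx1, hx2⟩
      by_contra hcon
      push Not at hcon
      have hxn : x ∈ normalizer ((P : Subgroup L) : Set L) := by
        rw [mem_normalizer_iff]
        intro b
        constructor
        · intro hb
          have e : x * b * x⁻¹ = b := by
            have e1 := hcon b hb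
            have e2 : b * x = x * b := by
              calc b * x = b * x * b⁻¹ * b := by group
                _ = x * b := by rw [e1]
            rw [← e2]
            group
          rw [e]
          exact hb
        · intro hb
          have hb' : x * b * x⁻¹ ∈ (P : Subgroup L) := hb
          have e1 := hcon _ hb'
          have e2 : x * b * x⁻¹ * x * (x * b * x⁻¹)⁻¹ = x := e1
          have e3 : x * b * x⁻¹ * x * (x * b * x⁻¹)⁻¹ = x * (b * x * b⁻¹) * x⁻¹ := by group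
          rw [e3] at e2
          have e4 : b * x * b⁻¹ = x := by
            have e7 : x⁻¹ * (x * (b * x * b⁻¹) * x⁻¹) * x = x⁻¹ * x * x := by rw [e2]
            have e8 : x⁻¹ * (x * (b * x * b⁻¹) * x⁻¹) * x = b * x * b⁻¹ := by group
            rw [e8] at e7
            simpa using e7
          have e5 : b = x * b * x⁻¹ := by
            have e6 : b * x = x * b := by
              calc b * x = b * x * b⁻¹ * b := by group
                _ = x * b := by rw [e4]
            rw [← e6]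
            group
          rw [e5]
          exact hb'
      rw [hnorm] at hxn
      exact hx2 (Subgroup.disjoint_def.1 hc.disjoint hx1 hxn)
    have htr := conj_transitive_of_card_prime (P : Subgroup L) P.2 _ hS hcardS hfix
    -- an involution in `K`
    have h2K : 2 ∣ Nat.card K := by
      rw [hcardK]
      exact (hodd.add_one).two_dvd
    obtain ⟨t₀, ht₀⟩ := exists_prime_orderOf_dvd_card' 2 h2K
    have ht₀2 : (t₀ : L) ^ 2 = 1 := by
      have := pow_orderOf_eq_one t₀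
      rw [ht₀] at this
      simpa using congrArg Subtype.val this
    have ht₀1 : (t₀ : L) ≠ 1 := by
      intro h
      have : t₀ = 1 := Subtype.ext h
      rw [this, orderOf_one] at ht₀
      omega
    have htrans : ∀ t₁ ∈ K, ∀ t₂ ∈ K, t₁ ≠ 1 → t₂ ≠ 1 → ∃ a ∈ (P : Subgroup L), a * t₁ * a⁻¹ = t₂ :=
      fun t₁ h₁ t₂ h₂ n₁ n₂ => htr t₁ ⟨h₁, n₁⟩ t₂ ⟨h₂, n₂⟩
    refine ⟨rfl, K, P, hKn, hcardK, hK2, P.2, ?_, ?_, htrans⟩
    · intro x hx
      rw [mem_of_complement_iff hc x]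
      obtain ⟨k, hk⟩ := (pelt_iff_orderOf Nat.prime_two).1 hx
      rw [hk]
      apply Nat.Coprime.pow_left
      exact ((Nat.coprime_primes Nat.prime_two hp.out).2 (Ne.symm hp2))
    · intro x hx
      by_cases hx1 : x = 1
      · rw [hx1, one_pow]
      · obtain ⟨a, -, ha⟩ := htrans t₀ t₀.2 x hx ht₀1 hx1
        rw [← ha, conj_pow, ht₀2]
        simp

/-- `dich_abs`, for a subgroup. -/
theorem dich {G : Type*} [Group G] [Finite G] {p q : ℕ} [hp : Fact p.Prime] [hq : Fact q.Prime]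
    (hpq : p ≠ q) (hp2 : p ≠ 2) (L : Subgroup G)
    (hπ : ∀ ℓ : ℕ, ℓ.Prime → ℓ ∣ Nat.card L → ℓ = p ∨ ℓ = q)
    (hle : ∀ y, q ^ y ∣ Nat.card L → q ^ y ≤ p + 1)
    (hab : (∃ y, q ^ y ∣ Nat.card L ∧ q ^ y = p + 1) →
      ∀ A : Subgroup G, IsPGroup p A → ∀ x ∈ A, ∀ y ∈ A, x * y = y * x) :
    (∃ B : Subgroup G, B ≤ L ∧ IsPGroup p B ∧ L ≤ normalizer (B : Set G) ∧
      ∀ x ∈ L, PElt p x → x ∈ B) ∨
    (q = 2 ∧ ∃ K P : Subgroup G, K ≤ L ∧ P ≤ L ∧ L ≤ normalizer (K : Set G) ∧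
      Nat.card K = p + 1 ∧ IsPGroup 2 K ∧ IsPGroup p P ∧
      (∀ x ∈ L, PElt 2 x → x ∈ K) ∧ (∀ x ∈ K, x ^ 2 = 1) ∧
      (∀ t₁ ∈ K, ∀ t₂ ∈ K, t₁ ≠ 1 → t₂ ≠ 1 → ∃ y ∈ P, y * t₁ * y⁻¹ = t₂)) := by
  have hcoe : ∀ (r : ℕ) (x : L), PElt r (x : G) → PElt r x := by
    rintro r x ⟨k, hk⟩
    exact ⟨k, Subtype.ext (by simpa using hk)⟩
  have hmapP : ∀ (r : ℕ) (A : Subgroup L), IsPGroup r A → IsPGroup r (A.map L.subtype) := by
    rintro r A hA ⟨x, hx⟩
    obtain ⟨a, ha, rfl⟩ := mem_map.1 hx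
    obtain ⟨k, hk⟩ := hA ⟨a, ha⟩
    refine ⟨k, Subtype.ext ?_⟩
    have := congrArg (fun z : A => ((z : L) : G)) hk
    simpa using this
  have hnormal : ∀ A : Subgroup L, A.Normal → L ≤ normalizer ((A.map L.subtype : Subgroup G) : Set G) := by
    intro A hA g hg
    rw [mem_normalizer_iff]
    intro x
    constructor
    · rintro ⟨a, ha, rfl⟩
      refine ⟨⟨g, hg⟩ * a * ⟨g, hg⟩⁻¹, hA.conj_mem a ha _, ?_⟩
      simp
    · rintro ⟨a, ha, hax⟩
      have hx : x = (⟨g, hg⟩⁻¹ * a * ⟨g, hg⟩ : L) := by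
        have hax' : (a : G) = g * x * g⁻¹ := hax
        have e : ((⟨g, hg⟩⁻¹ * a * ⟨g, hg⟩ : L) : G) = g⁻¹ * (a : G) * g := rfl
        rw [e, hax']
        group
      rw [hx]
      have h2 := hA.conj_mem a ha (⟨g, hg⟩⁻¹ : L)
      rw [inv_inv] at h2
      exact ⟨_, h2, rfl⟩
  have hπ' : ∀ ℓ : ℕ, ℓ.Prime → ℓ ∣ Nat.card L → ℓ = p ∨ ℓ = q := hπ
  have hab' : (∃ y, q ^ y ∣ Nat.card L ∧ q ^ y = p + 1) →
      ∀ A : Subgroup L, IsPGroup p A → ∀ x ∈ A, ∀ y ∈ A, x * y = y * x := by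
    intro h A hA x hx y hy
    apply Subtype.ext
    exact hab h (A.map L.subtype) (hmapP p A hA) x (mem_map_of_mem _ hx) y (mem_map_of_mem _ hy)
  rcases dich_abs (p := p) (q := q) hpq hp2 hπ' hle hab' with ⟨B, hBn, hB, hBx⟩ | ⟨hq2, K, P, hKn, hcK, hK2, hP, hKx, hK1, htr⟩
  · left
    refine ⟨B.map L.subtype, ?_, hmapP p B hB, hnormal B hBn, ?_⟩
    · rintro _ ⟨a, -, rfl⟩
      exact a.2
    · intro x hx hpx
      exact ⟨⟨x, hx⟩, hBx _ (hcoe _ _ hpx), rfl⟩
  · right
    refine ⟨hq2, K.map L.subtype, P.map L.subtype, ?_, ?_, hnormal K hKn, ?_, hmapP 2 K hK2,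
      hmapP p P hP, ?_, ?_, ?_⟩
    · rintro _ ⟨a, -, rfl⟩
      exact a.2
    · rintro _ ⟨a, -, rfl⟩
      exact a.2
    · rw [← hcK]
      exact Nat.card_congr (Subgroup.equivMapOfInjective _ _ L.subtype_injective).symm.toEquiv
    · intro x hx hpx
      exact ⟨⟨x, hx⟩, hKx _ (hcoe _ _ hpx), rfl⟩
    · rintro _ ⟨a, ha, rfl⟩
      have := hK1 a ha
      simpa using congrArg Subtype.val this
    · rintro _ ⟨a, ha, rfl⟩ _ ⟨b, hb, rfl⟩ h1 h2
      have ha1 : a ≠ 1 := by
        rintro rfl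
        exact h1 rfl
      have hb1 : b ≠ 1 := by
        rintro rfl
        exact h2 rfl
      obtain ⟨c, hc, hcc⟩ := htr a ha b hb ha1 hb1
      refine ⟨c, mem_map_of_mem _ hc, ?_⟩
      have := congrArg Subtype.val hcc
      simpa using this

end Cfsg.Agent.Lib.MixBasic
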