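import Mathlib
import Cfsg.Agent.Lib.MixBasic
import Cfsg.Agent.Lib.TransferCore

/-!
# The exceptional configuration in the two-prime theorem: basic facts.
-/

set_option autoImplicit false
set_option linter.style.haveILetI false

namespace Cfsg.Agent.Lib.MixEx

open Subgroup Cfsg.Agent.Lib.TransferCore Cfsg.Agent.Lib.MixBasic
open scoped Pointwise

universe u

/-- The configuration to be excluded. -/
structure Ex (p : ℕ) (G : Type u) [Group G] [Finite G] (Q P₀ : Subgroup G) : Prop where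
  hp : p.Prime
  hp2 : p ≠ 2
  hcardQ : Nat.card Q = p + 1
  hQ2 : IsPGroup 2 Q
  hle : ∀ A : Subgroup G, IsPGroup 2 A → Nat.card A ≤ p + 1
  helem : ∀ x ∈ Q, x ^ 2 = 1
  hP₀ : IsPGroup p P₀
  hP₀N : P₀ ≤ normalizer (Q : Set G)
  htrans : ∀ t₁ ∈ Q, ∀ t₂ ∈ Q, t₁ ≠ 1 → t₂ ≠ 1 → ∃ y ∈ P₀, y * t₁ * y⁻¹ = t₂
  hpab : ∀ A : Subgroup G, IsPGroup p A → ∀ x ∈ A, ∀ y ∈ A, x * y = y * x
  hmix : ∀ H : Subgroup G, H ≠ ⊤ → ¬ IsPGroup 2 H → 2 ∣ Nat.card H → p ∣ Nat.card H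
  hπ : ∀ H : Subgroup G, H ≠ ⊤ → 2 ∣ Nat.card H → ∀ ℓ : ℕ, ℓ.Prime → ℓ ∣ Nat.card H →
    ℓ = p ∨ ℓ = 2
  hpG : p ∣ Nat.card G
  hO2 : ∀ U : Subgroup G, IsPGroup 2 U → U.Normal → U = ⊥
  hOp : ∀ U : Subgroup G, IsPGroup p U → U.Normal → U = ⊥

/-- Involutions. -/
def IsInv {G : Type*} [Group G] (t : G) : Prop := t ≠ 1 ∧ t ^ 2 = 1

section general

variable {G : Type*} [Group G]

theorem IsInv.conj {t : G} (h : IsInv t) (g : G) : IsInv (g * t * g⁻¹) := by
  refine ⟨?_, by rw [conj_pow, h.2]; simp⟩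
  intro h1
  apply h.1
  have h2 : g * t = g := by
    calc g * t = g * t * g⁻¹ * g := by group
      _ = g := by rw [h1, one_mul]
  simpa using h2

theorem IsInv.inv_eq {t : G} (h : IsInv t) : t⁻¹ = t := by
  rw [inv_eq_iff_mul_eq_one, ← sq, h.2]

theorem IsInv.pelt {t : G} (h : IsInv t) : PElt 2 t := ⟨1, by simpa using h.2⟩

theorem isInv_of_orderOf {t : G} (h : orderOf t = 2) : IsInv t := by
  refine ⟨?_, by rw [← h, pow_orderOf_eq_one]⟩
  rintro rfl
  simp at h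

theorem IsInv.orderOf {t : G} (h : IsInv t) : orderOf t = 2 :=
  orderOf_eq_prime h.2 h.1

theorem mem_normalizer_zpowers_of_inv {g w : G} (h : g * w * g⁻¹ = w⁻¹) :
    g ∈ normalizer ((zpowers w : Subgroup G) : Set G) := by
  rw [mem_normalizer_iff]
  intro x
  have h' : g⁻¹ * w * g = w⁻¹ := by
    have h1 : g⁻¹ * w⁻¹ * g = w := by rw [← h]; group
    have h2 : g⁻¹ * w * g = (g⁻¹ * w⁻¹ * g)⁻¹ := by group
    rw [h2, h1]
  constructor
  · rintro ⟨k, rfl⟩
    refine ⟨-k, ?_⟩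
    show w ^ (-k) = g * w ^ k * g⁻¹
    rw [← conj_zpow, h, inv_zpow, zpow_neg]
  · rintro ⟨k, hk⟩
    have hk' : w ^ k = g * x * g⁻¹ := hk
    refine ⟨-k, ?_⟩
    show w ^ (-k) = x
    have e : x = g⁻¹ * w ^ k * g := by rw [hk']; group
    have e2 : g⁻¹ * w ^ k * g = (g⁻¹ * w * g) ^ k := by
      have := conj_zpow (a := g⁻¹) (b := w) (i := k)
      simpa using this.symm
    rw [e, e2, h', inv_zpow, zpow_neg]

theorem mem_normalizer_zpowers_of_comm {g w : G} (h : g * w * g⁻¹ = w) :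
    g ∈ normalizer ((zpowers w : Subgroup G) : Set G) := by
  rw [mem_normalizer_iff]
  intro x
  have h' : g⁻¹ * w * g = w := by
    nth_rw 1 [← h]; group
  constructor
  · rintro ⟨k, rfl⟩
    refine ⟨k, ?_⟩
    show w ^ k = g * w ^ k * g⁻¹
    rw [← conj_zpow, h]
  · rintro ⟨k, hk⟩
    have hk' : w ^ k = g * x * g⁻¹ := hk
    refine ⟨k, ?_⟩
    show w ^ k = x
    have e : x = g⁻¹ * w ^ k * g := by rw [hk']; group
    have e2 : g⁻¹ * w ^ k * g = (g⁻¹ * w * g) ^ k := by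
      have := conj_zpow (a := g⁻¹) (b := w) (i := k)
      simpa using this.symm
    rw [e, e2, h']

theorem conj_eq_iff_comm {g x : G} : g * x * g⁻¹ = x ↔ g * x = x * g := by
  constructor
  · intro h
    calc g * x = g * x * g⁻¹ * g := by group
      _ = x * g := by rw [h]
  · intro h
    rw [h]; group

theorem mem_cent {t x : G} : x ∈ centralizer ({t} : Set G) ↔ x * t = t * x := by
  rw [mem_centralizer_singleton_iff]

theorem exists_other [Finite G] (A : Subgroup G) (hA : 3 ≤ Nat.card A) (a : G) :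
    ∃ x ∈ A, x ≠ 1 ∧ x ≠ a := by
  by_contra hcon
  push Not at hcon
  have hsub : (A : Set G) ⊆ {1, a} := by
    intro x hx
    by_cases h1 : x = 1
    · exact Or.inl h1
    · exact Or.inr (hcon x hx h1)
  have h1 : (A : Set G).ncard ≤ ({1, a} : Set G).ncard :=
    Set.ncard_le_ncard hsub (Set.toFinite _)
  have h2 : ({1, a} : Set G).ncard ≤ 2 := by
    have := Set.ncard_insert_le (1 : G) ({a} : Set G)
    rwa [Set.ncard_singleton] at this
  have h3 : (A : Set G).ncard = Nat.card A := (Nat.card_coe_set_eq _).symm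
  omega

theorem isPGroup_map_subtype {r : ℕ} {L : Subgroup G} {A : Subgroup L} (hA : IsPGroup r A) :
    IsPGroup r (A.map L.subtype) := by
  rintro ⟨x, hx⟩
  obtain ⟨a, ha, rfl⟩ := mem_map.1 hx
  obtain ⟨k, hk⟩ := hA ⟨a, ha⟩
  refine ⟨k, Subtype.ext ?_⟩
  have := congrArg (fun z : A => ((z : L) : G)) hk
  simpa using this

theorem card_map_subtype {L : Subgroup G} (A : Subgroup L) :
    Nat.card (A.map L.subtype) = Nat.card A :=
  Nat.card_congr (Subgroup.equivMapOfInjective _ _ L.subtype_injective).symm.toEquiv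

end general

namespace Ex

variable {p : ℕ} {G : Type u} [Group G] [Finite G] {Q P₀ : Subgroup G}

theorem factP (E : Ex p G Q P₀) : Fact p.Prime := ⟨E.hp⟩

theorem three_le (E : Ex p G Q P₀) : 3 ≤ p := by
  have h1 := E.hp.two_le
  have h2 := E.hp2
  omega

theorem odd (E : Ex p G Q P₀) : Odd p := E.hp.odd_of_ne_two E.hp2

theorem three_le_cardQ (E : Ex p G Q P₀) : 3 ≤ Nat.card Q := by
  have h1 := E.three_le
  have h2 := E.hcardQ
  omega

/-- `Q` is a Sylow `2`-subgroup. -/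
theorem exists_sylowQ (E : Ex p G Q P₀) : ∃ S : Sylow 2 G, (S : Subgroup G) = Q := by
  obtain ⟨S, hS⟩ := E.hQ2.exists_le_sylow
  refine ⟨S, ?_⟩
  symm
  apply Subgroup.eq_of_le_of_card_ge hS
  rw [E.hcardQ]
  exact E.hle _ S.2

theorem Q_comm (E : Ex p G Q P₀) {x y : G} (hx : x ∈ Q) (hy : y ∈ Q) : x * y = y * x := by
  have h1 := E.helem _ (mul_mem hx hy)
  have h2 := E.helem _ hx
  have h3 := E.helem _ hy
  have h4 : x⁻¹ = x := by rw [inv_eq_iff_mul_eq_one, ← sq, h2]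
  have h5 : y⁻¹ = y := by rw [inv_eq_iff_mul_eq_one, ← sq, h3]
  have h6 : (x * y)⁻¹ = x * y := by rw [inv_eq_iff_mul_eq_one, ← sq, h1]
  rw [mul_inv_rev, h4, h5] at h6
  exact h6.symm

theorem exists_conj_le_Q (E : Ex p G Q P₀) (A : Subgroup G) (hA : IsPGroup 2 A) :
    ∃ g : G, ∀ x ∈ A, g * x * g⁻¹ ∈ Q := by
  haveI : Fact (Nat.Prime 2) := ⟨Nat.prime_two⟩
  obtain ⟨S, hS⟩ := E.exists_sylowQ
  obtain ⟨T, hT⟩ := hA.exists_le_sylow
  obtain ⟨g, hg⟩ := MulAction.exists_smul_eq G T S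
  refine ⟨g, fun x hx => ?_⟩
  rw [← hS, ← hg]
  exact mem_smul_sylow'.2 (hT hx)

theorem exists_conj_mem_Q (E : Ex p G Q P₀) {t : G} (ht : PElt 2 t) :
    ∃ g : G, g * t * g⁻¹ ∈ Q := by
  obtain ⟨g, hg⟩ := E.exists_conj_le_Q _ (isPGroup_zpowers ht)
  exact ⟨g, hg t (mem_zpowers t)⟩

theorem sq_of_pelt (E : Ex p G Q P₀) {t : G} (ht : PElt 2 t) : t ^ 2 = 1 := by
  obtain ⟨g, hg⟩ := E.exists_conj_mem_Q ht
  have h1 := E.helem _ hg
  rw [conj_pow] at h1
  have h2 : g * t ^ 2 = g := by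
    calc g * t ^ 2 = g * t ^ 2 * g⁻¹ * g := by group
      _ = g := by rw [h1, one_mul]
  simpa using h2

theorem comm_of_isPGroup (E : Ex p G Q P₀) (A : Subgroup G) (hA : IsPGroup 2 A) {x y : G}
    (hx : x ∈ A) (hy : y ∈ A) : x * y = y * x := by
  obtain ⟨g, hg⟩ := E.exists_conj_le_Q A hA
  have h := E.Q_comm (hg x hx) (hg y hy)
  have h1 : g * (x * y) * g⁻¹ = g * (y * x) * g⁻¹ := by
    calc g * (x * y) * g⁻¹ = g * x * g⁻¹ * (g * y * g⁻¹) := by group
      _ = g * y * g⁻¹ * (g * x * g⁻¹) := h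
      _ = _ := by group
  exact mul_left_cancel (mul_right_cancel h1)

/-- All involutions are conjugate. -/
theorem exists_conj_inv (E : Ex p G Q P₀) {s t : G} (hs : IsInv s) (ht : IsInv t) :
    ∃ g : G, g * s * g⁻¹ = t := by
  obtain ⟨a, ha⟩ := E.exists_conj_mem_Q hs.pelt
  obtain ⟨b, hb⟩ := E.exists_conj_mem_Q ht.pelt
  obtain ⟨y, -, hy⟩ := E.htrans _ ha _ hb (hs.conj a).1 (ht.conj b).1
  refine ⟨b⁻¹ * y * a, ?_⟩
  have : b⁻¹ * y * a * s * (b⁻¹ * y * a)⁻¹ = b⁻¹ * (y * (a * s * a⁻¹) * y⁻¹) * b := by group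
  rw [this, hy]
  group

/-- The dichotomy for proper subgroups of even order. -/
theorem dichL (E : Ex p G Q P₀) (L : Subgroup G) (hL : L ≠ ⊤) (h2 : 2 ∣ Nat.card L) :
    (∃ B : Subgroup G, B ≤ L ∧ IsPGroup p B ∧ L ≤ normalizer (B : Set G) ∧
      ∀ x ∈ L, PElt p x → x ∈ B) ∨
    (∃ K P : Subgroup G, K ≤ L ∧ P ≤ L ∧ L ≤ normalizer (K : Set G) ∧
      Nat.card K = p + 1 ∧ IsPGroup 2 K ∧ IsPGroup p P ∧
      (∀ x ∈ L, PElt 2 x → x ∈ K) ∧ (∀ x ∈ K, x ^ 2 = 1) ∧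
      (∀ t₁ ∈ K, ∀ t₂ ∈ K, t₁ ≠ 1 → t₂ ≠ 1 → ∃ y ∈ P, y * t₁ * y⁻¹ = t₂)) := by
  haveI := E.factP
  haveI : Fact (Nat.Prime 2) := ⟨Nat.prime_two⟩
  have hle : ∀ y, 2 ^ y ∣ Nat.card L → 2 ^ y ≤ p + 1 := by
    intro y hy
    obtain ⟨A, hA⟩ := Sylow.exists_subgroup_card_pow_prime 2 hy
    have h1 : IsPGroup 2 A := IsPGroup.of_card hA
    have h4 := E.hle _ (isPGroup_map_subtype h1)
    rwa [card_map_subtype, hA] at h4
  rcases dich (p := p) (q := 2) E.hp2 E.hp2 L (E.hπ L hL h2) hle (fun _ => E.hpab) with h | ⟨-, h⟩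
  · exact Or.inl h
  · exact Or.inr h

/-- The centralizer of an involution has a normal Sylow `p`-subgroup. -/
theorem cent_ne_top (E : Ex p G Q P₀) {t : G} (ht : IsInv t) :
    centralizer ({t} : Set G) ≠ ⊤ := by
  intro h
  have hn : (zpowers t).Normal := by
    constructor
    intro x hx g
    obtain ⟨k, rfl⟩ := hx
    have hg : g ∈ centralizer ({t} : Set G) := by rw [h]; exact mem_top g
    have e : g * t * g⁻¹ = t := conj_eq_iff_comm.2 (mem_cent.1 hg)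
    refine ⟨k, ?_⟩
    show t ^ k = g * t ^ k * g⁻¹
    rw [← conj_zpow, e]
  have := E.hO2 _ (isPGroup_zpowers ht.pelt) hn
  rw [zpowers_eq_bot] at this
  exact ht.1 this

theorem two_dvd_card_of_mem {t : G} (ht : IsInv t) {L : Subgroup G} (h : t ∈ L) :
    2 ∣ Nat.card L := by
  have := Subgroup.orderOf_dvd_natCard L h
  rwa [ht.orderOf] at this

theorem cent_case1 (E : Ex p G Q P₀) {t : G} (ht : IsInv t) :
    ∃ B : Subgroup G, B ≤ centralizer ({t} : Set G) ∧ IsPGroup p B ∧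
      centralizer ({t} : Set G) ≤ normalizer (B : Set G) ∧
      ∀ x ∈ centralizer ({t} : Set G), PElt p x → x ∈ B := by
  have htc : t ∈ centralizer ({t} : Set G) := mem_cent.2 rfl
  rcases E.dichL _ (E.cent_ne_top ht) (two_dvd_card_of_mem ht htc) with h |
    ⟨K, P, hK, hP, hKN, hcK, hK2, hP2, hKx, hK1, htr⟩
  · exact h
  · exfalso
    have htK := hKx t htc ht.pelt
    obtain ⟨x, hx, hx1, hxt⟩ := exists_other K (by rw [hcK]; have := E.three_le; omega) t
    obtain ⟨y, hy, hyy⟩ := htr t htK x hx ht.1 hx1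
    have : y * t * y⁻¹ = t := conj_eq_iff_comm.2 (mem_cent.1 (hP hy))
    exact hxt (hyy ▸ this)

/-- Two `p`-elements in the centralizer of an involution lie in a common Sylow subgroup. -/
theorem exists_sylow_of_cent (E : Ex p G Q P₀) {t x y : G} (ht : IsInv t)
    (hx : x * t = t * x) (hy : y * t = t * y) (hxp : PElt p x) (hyp : PElt p y) :
    ∃ P : Sylow p G, x ∈ P ∧ y ∈ P := by
  obtain ⟨B, -, hB, -, hBx⟩ := E.cent_case1 ht
  obtain ⟨P, hP⟩ := hB.exists_le_sylow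
  exact ⟨P, hP (hBx x (mem_cent.2 hx) hxp), hP (hBx y (mem_cent.2 hy) hyp)⟩

/-- An involution not commuting with everything. -/
theorem exists_not_comm (E : Ex p G Q P₀) {s : G} (hs : IsInv s) :
    ∃ t : G, IsInv t ∧ s * t ≠ t * s := by
  by_contra hcon
  push Not at hcon
  have hall : ∀ a b : G, IsInv a → IsInv b → a * b = b * a := by
    intro a b ha hb
    obtain ⟨g, hg⟩ := E.exists_conj_inv ha hs
    have h1 := hcon _ (hb.conj g)
    rw [← hg] at h1
    have h2 : g * (a * b) * g⁻¹ = g * (b * a) * g⁻¹ := by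
      calc g * (a * b) * g⁻¹ = g * a * g⁻¹ * (g * b * g⁻¹) := by group
        _ = g * b * g⁻¹ * (g * a * g⁻¹) := h1
        _ = _ := by group
    exact mul_left_cancel (mul_right_cancel h2)
  let I : Set G := {t | IsInv t}
  have hIconj : Group.conjugatesOfSet I ⊆ I := by
    intro x hx
    obtain ⟨a, ha, hax⟩ := Group.mem_conjugatesOfSet_iff.1 hx
    obtain ⟨c, hc⟩ := isConj_iff.1 hax
    rw [← hc]
    exact IsInv.conj ha c
  have hcl : ∀ x ∈ Subgroup.closure I, x ^ 2 = 1 ∧ ∀ a ∈ I, x * a = a * x := by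
    intro x hx
    induction hx using Subgroup.closure_induction with
    | mem a ha => exact ⟨ha.2, fun b hb => hall a b ha hb⟩
    | one => simp
    | mul a b ha hb iha ihb =>
      have hab : a * b = b * a := by
        have h1 : Subgroup.closure I ≤ centralizer ({a} : Set G) := by
          rw [Subgroup.closure_le]
          intro c hc
          exact mem_cent.2 (iha.2 c hc).symm
        exact (mem_cent.1 (h1 hb)).symm
      refine ⟨?_, fun c hc => ?_⟩
      · rw [(show Commute a b from hab).mul_pow, iha.1, ihb.1, one_mul]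
      · rw [mul_assoc, ihb.2 c hc, ← mul_assoc, iha.2 c hc, mul_assoc]
    | inv a ha iha =>
      refine ⟨by rw [inv_pow, iha.1, inv_one], fun c hc => ?_⟩
      have := iha.2 c hc
      rw [inv_mul_eq_iff_eq_mul, ← mul_assoc, this]
      group
  have hsub : Subgroup.normalClosure I ≤ Subgroup.closure I := by
    rw [Subgroup.normalClosure]
    exact Subgroup.closure_mono hIconj
  have hU : IsPGroup 2 (Subgroup.normalClosure I) := by
    rintro ⟨x, hx⟩
    refine ⟨1, Subtype.ext ?_⟩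
    simpa using (hcl x (hsub hx)).1
  have hbot := E.hO2 _ hU inferInstance
  have hsm : s ∈ Subgroup.normalClosure I := Subgroup.subset_normalClosure hs
  rw [hbot] at hsm
  exact hs.1 (Subgroup.mem_bot.1 hsm)

/-- The prime divisors of the order of an element inverted by an involution. -/
theorem prime_of_inverted (E : Ex p G Q P₀) {s y : G} (hs : IsInv s) (hy : s * y * s⁻¹ = y⁻¹)
    {ℓ : ℕ} (hℓ : ℓ.Prime) (hℓ2 : ℓ ≠ 2) (hoy : orderOf y = ℓ) : ℓ = p := by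
  by_contra hne
  let H : Subgroup G := zpowers s ⊔ zpowers y
  have hle : zpowers s ≤ normalizer ((zpowers y : Subgroup G) : Set G) := by
    rw [zpowers_le]
    exact mem_normalizer_zpowers_of_inv hy
  have hc : Nat.card H ∣ Nat.card (zpowers s) * Nat.card (zpowers y) :=
    card_sup_dvd_of_le_normalizer _ _ hle
  rw [Nat.card_zpowers, Nat.card_zpowers, hs.orderOf, hoy] at hc
  have hsH : s ∈ H := (le_sup_left : zpowers s ≤ H) (mem_zpowers s)
  have hyH : y ∈ H := (le_sup_right : zpowers y ≤ H) (mem_zpowers y)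
  have hp_not : ¬ p ∣ Nat.card H := by
    intro h
    have h1 := h.trans hc
    rcases (Nat.Prime.dvd_mul E.hp).1 h1 with h2 | h2
    · exact E.hp2 ((Nat.prime_dvd_prime_iff_eq E.hp Nat.prime_two).1 h2)
    · exact hne ((Nat.prime_dvd_prime_iff_eq E.hp hℓ).1 h2).symm
  have hHtop : H ≠ ⊤ := by
    intro h
    apply hp_not
    rw [h, Subgroup.card_top]
    exact E.hpG
  have hH2 : ¬ IsPGroup 2 H := by
    intro h
    have h1 := pelt_of_mem h hyH
    obtain ⟨k, hk⟩ := (pelt_iff_orderOf Nat.prime_two).1 h1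
    rw [hoy] at hk
    have h2 : ℓ ∣ 2 ^ k := by rw [← hk]
    have h3 := hℓ.dvd_of_dvd_pow h2
    exact hℓ2 ((Nat.prime_dvd_prime_iff_eq hℓ Nat.prime_two).1 h3)
  exact hp_not (E.hmix H hHtop hH2 (two_dvd_card_of_mem hs hsH))

/-- The product of two noncommuting involutions has a nontrivial `p`-part. -/
theorem dihedral (E : Ex p G Q P₀) {s t : G} (hs : IsInv s) (ht : IsInv t) (hst : s * t ≠ t * s) :
    ∃ w : G, w ≠ 1 ∧ PElt p w ∧ s * w * s⁻¹ = w⁻¹ ∧ t * w * t⁻¹ = w⁻¹ ∧ ∃ n : ℕ, w = (s * t) ^ n := by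
  set x := s * t with hx
  have hsx : s * x * s⁻¹ = x⁻¹ := by
    rw [hx, hs.inv_eq, mul_inv_rev, hs.inv_eq, ht.inv_eq, ← mul_assoc, ← sq, hs.2, one_mul]
  have htx : t * x * t⁻¹ = x⁻¹ := by
    rw [hx, ht.inv_eq, mul_inv_rev, hs.inv_eq, ht.inv_eq, mul_assoc, mul_assoc, ← sq, ht.2, mul_one]
  have hn0 : orderOf x ≠ 0 := (orderOf_pos x).ne'
  obtain ⟨e, m, hm, hnm⟩ := Nat.exists_eq_two_pow_mul_odd hn0
  have hm1 : m ≠ 1 := by
    rintro rfl
    have hx2 : PElt 2 x := ⟨e, by rw [← mul_one (2 ^ e), ← hnm, pow_orderOf_eq_one]⟩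
    have hle : zpowers s ≤ normalizer ((zpowers x : Subgroup G) : Set G) := by
      rw [zpowers_le]
      exact mem_normalizer_zpowers_of_inv hsx
    have hA : IsPGroup 2 (zpowers s ⊔ zpowers x : Subgroup G) :=
      (isPGroup_zpowers hs.pelt).to_sup_of_normal_right' (isPGroup_zpowers hx2) hle
    have h1 := E.comm_of_isPGroup _ hA ((le_sup_left : zpowers s ≤ _) (mem_zpowers s))
      ((le_sup_right : zpowers x ≤ _) (mem_zpowers x))
    apply hst
    have h2 : s * (s * t) = (s * t) * s := h1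
    have h3 : s * s = 1 := by rw [← sq, hs.2]
    rw [← mul_assoc, h3, one_mul] at h2
    calc s * t = s * ((s * t) * s) := by rw [← h2]
      _ = (s * s) * t * s := by group
      _ = t * s := by rw [h3, one_mul]
  have hmp : m = p ^ m.primeFactorsList.length := by
    apply Nat.eq_prime_pow_of_unique_prime_dvd hm.pos.ne'
    intro d hd hdm
    have hd2 : d ≠ 2 := by
      rintro rfl
      exact (Nat.not_even_iff_odd.2 hm) (even_iff_two_dvd.2 hdm)
    -- element of order `d`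
    have hdn : d ∣ orderOf x := hnm ▸ Dvd.dvd.mul_left hdm _
    have hoy : orderOf (x ^ (orderOf x / d)) = d :=
      orderOf_pow_orderOf_div hn0 hdn
    refine E.prime_of_inverted (s := s) (y := x ^ (orderOf x / d)) hs ?_ hd hd2 hoy
    rw [← conj_pow, hsx, inv_pow]
  refine ⟨x ^ (2 ^ e), ?_, ⟨m.primeFactorsList.length, ?_⟩, ?_, ?_, ⟨2 ^ e, rfl⟩⟩
  · intro h
    have h1 : orderOf x ∣ 2 ^ e := orderOf_dvd_of_pow_eq_one h
    rw [hnm] at h1
    have h2 : 2 ^ e * m ≤ 2 ^ e := Nat.le_of_dvd (by positivity) h1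
    have h3 : 0 < 2 ^ e := by positivity
    have h4 : m ≤ 1 := by
      by_contra h5
      have : 2 ^ e * 2 ≤ 2 ^ e * m := Nat.mul_le_mul_left _ (by omega)
      omega
    have h5 := hm.pos
    omega
  · rw [← pow_mul, ← hmp, ← hnm, pow_orderOf_eq_one]
  · rw [← conj_pow, hsx, inv_pow]
  · rw [← conj_pow, htx, inv_pow]

theorem sq_ne_one_of_pelt (E : Ex p G Q P₀) {w : G} (hw : w ≠ 1) (hwp : PElt p w) : w ^ 2 ≠ 1 :=
  fun h => hw (eq_one_of_pelt_pelt E.hp Nat.prime_two E.hp2 hwp ⟨1, by simpa using h⟩)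

theorem normalizer_zpowers_ne_top (E : Ex p G Q P₀) {w : G} (hw : w ≠ 1) (hwp : PElt p w) :
    normalizer ((zpowers w : Subgroup G) : Set G) ≠ ⊤ := by
  intro h
  have hn : (zpowers w).Normal := normalizer_eq_top_iff.1 h
  have := E.hOp _ (isPGroup_zpowers hwp) hn
  rw [zpowers_eq_bot] at this
  exact hw this

theorem comm_of_mem_sylow (E : Ex p G Q P₀) (P : Sylow p G) {x y : G} (hx : x ∈ P) (hy : y ∈ P) :
    x * y = y * x := E.hpab P P.2 x hx y hy

/-- A `p`-element inverted by an involution lies in a unique Sylow subgroup. -/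
theorem unique_sylow (E : Ex p G Q P₀) {t w : G} (ht : IsInv t) (hw : w ≠ 1) (hwp : PElt p w)
    (htw : t * w * t⁻¹ = w⁻¹) :
    ∃ P : Sylow p G, w ∈ P ∧ (∀ P' : Sylow p G, w ∈ P' → P' = P) ∧
      normalizer ((zpowers w : Subgroup G) : Set G) ≤ normalizer ((P : Subgroup G) : Set G) := by
  haveI := E.factP
  have htL : t ∈ normalizer ((zpowers w : Subgroup G) : Set G) :=
    mem_normalizer_zpowers_of_inv htw
  have hwL : w ∈ normalizer ((zpowers w : Subgroup G) : Set G) :=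
    le_normalizer (mem_zpowers w)
  rcases E.dichL _ (E.normalizer_zpowers_ne_top hw hwp) (two_dvd_card_of_mem ht htL) with
    ⟨B, hBL, hB, hLB, hBx⟩ | ⟨K, P, hK, hP, hKN, hcK, hK2, hP2, hKx, hK1, htr⟩
  · have hS : ∀ P' : Sylow p G, w ∈ P' → (P' : Subgroup G) = B := by
      intro P' hP'
      have h1 : (P' : Subgroup G) ≤ B := by
        intro x hx
        apply hBx x _ (pelt_of_mem P'.2 hx)
        apply mem_normalizer_zpowers_of_comm
        exact conj_eq_iff_comm.2 (E.comm_of_mem_sylow P' hx hP')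
      exact (P'.is_maximal' hB h1).symm
    obtain ⟨P, hP⟩ := exists_sylow_of_pelt hwp
    refine ⟨P, hP, fun P' hP' => Sylow.ext ((hS P' hP').trans (hS P hP).symm), ?_⟩
    rw [hS P hP]
    exact hLB
  · exfalso
    have htK := hKx t htL ht.pelt
    have hc : t * (w * t⁻¹ * w⁻¹) ∈ K := by
      apply mul_mem htK
      exact (mem_normalizer_iff.1 (hKN hwL) _).1 (inv_mem htK)
    have e : t * (w * t⁻¹ * w⁻¹) = (w ^ 2)⁻¹ := by
      calc t * (w * t⁻¹ * w⁻¹) = (t * w * t⁻¹) * w⁻¹ := by group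
        _ = (w ^ 2)⁻¹ := by rw [htw]; group
    rw [e] at hc
    have h1 := hK1 _ hc
    have h2 : PElt 2 w := ⟨2, by
      have : (w ^ 2)⁻¹ ^ 2 = (w ^ 2 ^ 2)⁻¹ := by
        rw [inv_pow, ← pow_mul]
        norm_num
      rw [this] at h1
      simpa using h1⟩
    exact hw (eq_one_of_pelt_pelt E.hp Nat.prime_two E.hp2 hwp h2)

/-- The order of a subgroup with a normal Sylow `p`-subgroup. -/
theorem card_le_of_case1 (E : Ex p G Q P₀) (L B : Subgroup G) (hL : L ≠ ⊤) (h2 : 2 ∣ Nat.card L)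
    (hBL : B ≤ L) (hB : IsPGroup p B) (hBx : ∀ x ∈ L, PElt p x → x ∈ B) :
    Nat.card L ≤ Nat.card B * (p + 1) := by
  haveI := E.factP
  haveI : Fact (Nat.Prime 2) := ⟨Nat.prime_two⟩
  set B' : Subgroup L := B.subgroupOf L with hB'
  have hcB : Nat.card B' = Nat.card B :=
    Nat.card_congr (Subgroup.subgroupOfEquivOfLe hBL).toEquiv
  have hm : Nat.card B' * B'.index = Nat.card L := Subgroup.card_mul_index B'
  have hB'p : IsPGroup p B' := by
    rintro ⟨x, hx⟩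
    obtain ⟨k, hk⟩ := hB ⟨x.1, hx⟩
    refine ⟨k, Subtype.ext (Subtype.ext ?_)⟩
    simpa using congrArg Subtype.val hk
  obtain ⟨S, hS⟩ := hB'p.exists_le_sylow
  have hSB : (S : Subgroup L) = B' := by
    apply le_antisymm _ hS
    intro x hx
    rw [hB', mem_subgroupOf]
    apply hBx _ x.2
    obtain ⟨k, hk⟩ := pelt_of_mem S.2 hx
    exact ⟨k, by simpa using congrArg Subtype.val hk⟩
  have hidx : B'.index ≠ 0 := Subgroup.index_ne_zero_of_finite
  have hpow : B'.index = 2 ^ B'.index.primeFactorsList.length := by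
    apply Nat.eq_prime_pow_of_unique_prime_dvd hidx
    intro d hd hdvd
    rcases E.hπ L hL h2 d hd (hdvd.trans (Subgroup.index_dvd_card _)) with rfl | h
    · exfalso
      rw [← hSB] at hdvd
      exact S.not_dvd_index hdvd
    · exact h
  have hdvd : 2 ^ B'.index.primeFactorsList.length ∣ Nat.card L := by
    rw [← hpow]
    exact Subgroup.index_dvd_card _
  obtain ⟨A, hA⟩ := Sylow.exists_subgroup_card_pow_prime 2 hdvd
  have h4 := E.hle _ (isPGroup_map_subtype (IsPGroup.of_card hA))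
  rw [card_map_subtype, hA, ← hpow] at h4
  rw [← hm, hcB]
  exact Nat.mul_le_mul_left _ h4

/-- A subgroup with a normal Sylow `p`-subgroup is generated by it and a Sylow `2`-subgroup of `G`
it contains. -/
theorem sup_eq_of_case1 (E : Ex p G Q P₀) (L B Q' : Subgroup G) (hL : L ≠ ⊤)
    (hBL : B ≤ L) (hB : IsPGroup p B) (hBx : ∀ x ∈ L, PElt p x → x ∈ B)
    (hQ'L : Q' ≤ L) (hQ' : IsPGroup 2 Q') (hcQ' : Nat.card Q' = p + 1) :
    Q' ⊔ B = L := by
  haveI := E.factP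
  haveI : Fact (Nat.Prime 2) := ⟨Nat.prime_two⟩
  have h2 : 2 ∣ Nat.card L := by
    obtain ⟨n, hn⟩ := IsPGroup.iff_card.1 hQ'
    have h1 : Nat.card Q' ∣ Nat.card L := Subgroup.card_dvd_of_le hQ'L
    have h3 : n ≠ 0 := by
      rintro rfl
      have := E.three_le
      rw [hcQ'] at hn
      simp at hn
      omega
    rw [hn] at h1
    exact (dvd_pow_self 2 h3).trans h1
  apply Subgroup.eq_of_le_of_card_ge (sup_le hQ'L hBL)
  have h3 := E.card_le_of_case1 L B hL h2 hBL hB hBx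
  refine h3.trans ?_
  rw [← hcQ', mul_comm]
  apply Nat.le_of_dvd Nat.card_pos
  obtain ⟨n, hn⟩ := IsPGroup.iff_card.1 hQ'
  obtain ⟨m, hm⟩ := IsPGroup.iff_card.1 hB
  apply Nat.Coprime.mul_dvd_of_dvd_of_dvd
  · rw [hn, hm]
    exact Nat.Coprime.pow _ _ ((Nat.coprime_primes Nat.prime_two E.hp).2 (Ne.symm E.hp2))
  · exact Subgroup.card_dvd_of_le le_sup_left
  · exact Subgroup.card_dvd_of_le le_sup_right

/-- If `Q` does not centralize the `p`-elements of the centralizer of `t ∈ Q`, then there is a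
`p`-element centralized by `t` on which `Q` acts by signs, nontrivially. -/
theorem exists_signed (E : Ex p G Q P₀) {t b : G} (htQ : t ∈ Q) (ht1 : t ≠ 1)
    (hb : b * t = t * b) (hbp : PElt p b) (hbQ : ∃ x ∈ Q, x * b * x⁻¹ ≠ b) :
    ∃ w : G, w ≠ 1 ∧ PElt p w ∧ w * t = t * w ∧ (∀ x ∈ Q, x * w * x⁻¹ = w ∨ x * w * x⁻¹ = w⁻¹) ∧
      ∃ x ∈ Q, x * w * x⁻¹ = w⁻¹ := by
  classical
  have ht : IsInv t := ⟨ht1, E.helem t htQ⟩
  obtain ⟨B, hBC, hB, hCB, hBx⟩ := E.cent_case1 ht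
  have hQC : ∀ x ∈ Q, x ∈ centralizer ({t} : Set G) := fun x hx => mem_cent.2 (E.Q_comm hx htQ)
  have hκB : ∀ x ∈ Q, ∀ a ∈ B, x * a * x⁻¹ ∈ B := fun x hx a ha =>
    (mem_normalizer_iff.1 (hCB (hQC x hx)) a).1 ha
  have hcomm : ∀ a ∈ B, ∀ c ∈ B, a * c = c * a := E.hpab B hB
  have hmulc : ∀ x a c : G, x * (a * c) * x⁻¹ = (x * a * x⁻¹) * (x * c * x⁻¹) := by
    intros; group
  have hinvc : ∀ x a : G, x * a⁻¹ * x⁻¹ = (x * a * x⁻¹)⁻¹ := by
    intros; group
  have hQc : ∀ x ∈ Q, ∀ y ∈ Q, ∀ a : G, x * (y * a * y⁻¹) * x⁻¹ = y * (x * a * x⁻¹) * y⁻¹ := by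
    intro x hx y hy a
    have e1 : x * (y * a * y⁻¹) * x⁻¹ = (x * y) * a * (x * y)⁻¹ := by group
    have e2 : y * (x * a * x⁻¹) * y⁻¹ = (y * x) * a * (y * x)⁻¹ := by group
    rw [e1, e2, E.Q_comm hx hy]
  have hsq : ∀ x ∈ Q, ∀ a : G, x * (x * a * x⁻¹) * x⁻¹ = a := by
    intro x hx a
    have e1 : x * x = 1 := by rw [← sq, E.helem x hx]
    have e2 : x * (x * a * x⁻¹) * x⁻¹ = (x * x) * a * (x * x)⁻¹ := by group
    rw [e2, e1]
    simp
  -- square roots
  have hsqinj : ∀ a ∈ B, ∀ c ∈ B, a ^ 2 = c ^ 2 → a = c := by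
    intro a ha c hc h
    have h1 : (a * c⁻¹) ^ 2 = 1 := by
      have h2 : Commute a c⁻¹ := (show Commute a c from hcomm a ha c hc).inv_right
      rw [h2.mul_pow, h, inv_pow]
      simp
    have h3 := eq_one_of_pelt_pelt E.hp Nat.prime_two E.hp2
      (pelt_of_mem hB (mul_mem ha (inv_mem hc))) ⟨1, by simpa using h1⟩
    exact mul_inv_eq_one.1 h3
  let H : G → Set G := fun w => {x | x ∈ Q ∧ x * w * x⁻¹ = w}
  let S := {w : G // w ∈ B ∧ ∃ x ∈ Q, x * w * x⁻¹ ≠ w}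
  have hbB : b ∈ B := hBx b (mem_cent.2 hb) hbp
  haveI : Nonempty S := ⟨⟨b, hbB, hbQ⟩⟩
  obtain ⟨⟨w₀, hw₀B, x₀, hx₀, hx₀w⟩, hmax⟩ := Finite.exists_max (fun w : S => (H w.1).ncard)
  have hkey : ∀ u ∈ B, H w₀ ⊂ H u → ∀ x ∈ Q, x * u * x⁻¹ = u := by
    intro u hu hlt x hx
    by_contra hne
    have h1 := hmax ⟨u, hu, x, hx, hne⟩
    have h2 := Set.ncard_lt_ncard hlt (Set.toFinite _)
    exact absurd h1 (not_le.2 h2)
  set κw := x₀ * w₀ * x₀⁻¹ with hκw
  have hκwB : κw ∈ B := hκB x₀ hx₀ w₀ hw₀B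
  -- the two parts
  have hw₁ : ∀ x ∈ Q, x * (w₀ * κw) * x⁻¹ = w₀ * κw := by
    apply hkey _ (mul_mem hw₀B hκwB)
    refine ⟨?_, ?_⟩
    · rintro h ⟨hh, hhw⟩
      refine ⟨hh, ?_⟩
      rw [hmulc, hhw, hκw, hQc h hh x₀ hx₀, hhw]
    · intro hsub
      have hx₀H : x₀ ∈ H (w₀ * κw) := by
        refine ⟨hx₀, ?_⟩
        rw [hmulc, ← hκw, hκw, hsq x₀ hx₀ w₀, ← hκw]
        exact hcomm _ hκwB _ hw₀B
      exact hx₀w (hsub hx₀H).2
  set w := w₀ * κw⁻¹ with hw
  have hwB : w ∈ B := mul_mem hw₀B (inv_mem hκwB)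
  have hκinv : x₀ * w * x₀⁻¹ = w⁻¹ := by
    rw [hw, hmulc, hinvc, ← hκw, hκw, hsq x₀ hx₀ w₀, ← hκw, mul_inv_rev, inv_inv]
  have hsub : H w₀ ⊆ H w := by
    rintro h ⟨hh, hhw⟩
    refine ⟨hh, ?_⟩
    rw [hw, hmulc, hinvc, hhw, hκw, hQc h hh x₀ hx₀, hhw]
  have hwne : ∃ x ∈ Q, x * w * x⁻¹ ≠ w := by
    by_contra hcon
    push Not at hcon
    apply hx₀w
    have h1 : w₀ ^ 2 = (w₀ * κw) * w := by
      rw [hw]
      have e := hcomm _ hκwB _ hw₀B
      calc w₀ ^ 2 = w₀ * w₀ := sq _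
        _ = w₀ * (κw * κw⁻¹) * w₀ := by group
        _ = (w₀ * κw) * (κw⁻¹ * w₀) := by group
        _ = (w₀ * κw) * (w₀ * κw⁻¹) := by
            rw [hcomm _ (inv_mem hκwB) _ hw₀B]
    have h2 : (x₀ * w₀ * x₀⁻¹) ^ 2 = w₀ ^ 2 := by
      rw [conj_pow, h1, hmulc, hw₁ x₀ hx₀, hcon x₀ hx₀]
    exact hsqinj _ hκwB _ hw₀B h2
  have hw1 : w ≠ 1 := by
    rintro h
    obtain ⟨x, hx, hxw⟩ := hwne
    apply hxw
    rw [h]
    simp
  have hall : ∀ y ∈ Q, y * w * y⁻¹ = w ∨ y * w * y⁻¹ = w⁻¹ := by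
    intro y hy
    by_cases hyw : y * w * y⁻¹ = w
    · exact Or.inl hyw
    · right
      have hu : ∀ x ∈ Q, x * (w * (y * w * y⁻¹)) * x⁻¹ = w * (y * w * y⁻¹) := by
        apply hkey _ (mul_mem hwB (hκB y hy w hwB))
        refine ⟨?_, ?_⟩
        · rintro h hh
          have hh' := hsub hh
          refine ⟨hh'.1, ?_⟩
          rw [hmulc, hh'.2, hQc h hh'.1 y hy, hh'.2]
        · intro hsub2
          have hyH : y ∈ H (w * (y * w * y⁻¹)) := by
            refine ⟨hy, ?_⟩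
            rw [hmulc, hsq y hy w]
            exact hcomm _ (hκB y hy w hwB) _ hwB
          exact hyw (hsub (hsub2 hyH)).2
      have h1 := hu x₀ hx₀
      rw [hmulc, hκinv, hQc x₀ hx₀ y hy, hκinv, hinvc] at h1
      have hvB := hκB y hy w hwB
      generalize y * w * y⁻¹ = v at h1 hvB ⊢
      have hc := hcomm w hwB v hvB
      have h2 : (w * v) ^ 2 = 1 := by
        rw [sq]
        nth_rw 1 [← h1]
        calc w⁻¹ * v⁻¹ * (w * v) = w⁻¹ * v⁻¹ * (v * w) := by rw [hc]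
          _ = 1 := by group
      have h3 := eq_one_of_pelt_pelt E.hp Nat.prime_two E.hp2
        (pelt_of_mem hB (mul_mem hwB hvB)) ⟨1, by simpa using h2⟩
      exact eq_inv_of_mul_eq_one_right h3
  exact ⟨w, hw1, pelt_of_mem hB hwB, mem_cent.1 (hBC hwB), hall, x₀, hx₀, hκinv⟩

end Ex

end Cfsg.Agent.Lib.MixEx
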