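import Mathlib
import Cfsg.Agent.Lib.MixEx

/-!
# The exceptional configuration in the two-prime theorem: `Q` acts nontrivially on the `p`-elements
of the centralizer of an involution, and `|Q| > 4`.
-/

set_option autoImplicit false
set_option linter.style.haveILetI false
set_option linter.unusedSectionVars false

namespace Cfsg.Agent.Lib.MixEx

open Subgroup Cfsg.Agent.Lib.TransferCore Cfsg.Agent.Lib.MixBasic
open scoped Pointwise

universe u

/-- `w` is centralized by `t ∈ Q` and `Q` acts on it by signs, nontrivially. -/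
structure Signed (p : ℕ) {G : Type*} [Group G] (Q : Subgroup G) (t w : G) : Prop where
  ne : w ≠ 1
  pelt : PElt p w
  comm : w * t = t * w
  sign : ∀ x ∈ Q, x * w * x⁻¹ = w ∨ x * w * x⁻¹ = w⁻¹
  ex : ∃ x ∈ Q, x * w * x⁻¹ = w⁻¹

namespace Ex

variable {p : ℕ} {G : Type u} [Group G] [Finite G] {Q P₀ : Subgroup G}

theorem inv_conj_mem {Q : Subgroup G} {g x : G} (hg : g ∈ normalizer (Q : Set G)) (hx : x ∈ Q) :
    g⁻¹ * x * g ∈ Q := by
  have h := (mem_normalizer_iff.1 (inv_mem hg) x).1 hx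
  simpa using h

theorem conj_mem' {Q : Subgroup G} {g x : G} (hg : g ∈ normalizer (Q : Set G)) (hx : x ∈ Q) :
    g * x * g⁻¹ ∈ Q := (mem_normalizer_iff.1 hg x).1 hx

theorem signed_conj {t w g : G} (hg : g ∈ normalizer (Q : Set G)) (h : Signed p Q t w) :
    Signed p Q (g * t * g⁻¹) (g * w * g⁻¹) where
  ne := by
    intro h1
    apply h.ne
    have h2 : g * w = g := by
      calc g * w = g * w * g⁻¹ * g := by group
        _ = g := by rw [h1, one_mul]
    simpa using h2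
  pelt := h.pelt.conj g
  comm := by
    have e : g * w * g⁻¹ * (g * t * g⁻¹) = g * (w * t) * g⁻¹ := by group
    rw [e, h.comm]
    group
  sign x hx := by
    have e : x * (g * w * g⁻¹) * x⁻¹ = g * ((g⁻¹ * x * g) * w * (g⁻¹ * x * g)⁻¹) * g⁻¹ := by group
    rw [e]
    rcases h.sign _ (inv_conj_mem hg hx) with h1 | h1
    · left; rw [h1]
    · right; rw [h1]; group
  ex := by
    obtain ⟨x, hx, hxw⟩ := h.ex
    refine ⟨g * x * g⁻¹, conj_mem' hg hx, ?_⟩
    have e : g * x * g⁻¹ * (g * w * g⁻¹) * (g * x * g⁻¹)⁻¹ = g * (x * w * x⁻¹) * g⁻¹ := by group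
    rw [e, hxw]
    group

theorem isInv_of_inverts (E : Ex p G Q P₀) {x w : G} (hx : x ∈ Q) (hw : w ≠ 1) (hwp : PElt p w)
    (hxw : x * w * x⁻¹ = w⁻¹) : IsInv x := by
  refine ⟨?_, E.helem x hx⟩
  rintro rfl
  apply E.sq_ne_one_of_pelt hw hwp
  have h : w = w⁻¹ := by simpa using hxw
  rw [sq]
  nth_rw 1 [h]
  simp

/-- The Sylow subgroup attached to a signed element. -/
theorem signed_sylow (E : Ex p G Q P₀) {t w : G} (h : Signed p Q t w) :
    ∃ P : Sylow p G, w ∈ P ∧ (∀ P' : Sylow p G, w ∈ P' → P' = P) ∧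
      Q ≤ normalizer ((P : Subgroup G) : Set G) := by
  obtain ⟨x, hx, hxw⟩ := h.ex
  have hxi := E.isInv_of_inverts hx h.ne h.pelt hxw
  obtain ⟨P, hP, hu, hN⟩ := E.unique_sylow hxi h.ne h.pelt hxw
  refine ⟨P, hP, hu, fun y hy => hN ?_⟩
  rcases h.sign y hy with h1 | h1
  · exact mem_normalizer_zpowers_of_comm h1
  · exact mem_normalizer_zpowers_of_inv h1

/-- An element of `P₀` normalizing a Sylow subgroup normalized by `Q` centralizes `Q`. -/
theorem comm_of_normalizes (E : Ex p G Q P₀) {P : Sylow p G} {y x : G} (hy : y ∈ P₀)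
    (hyP : y ∈ normalizer ((P : Subgroup G) : Set G)) (hQP : Q ≤ normalizer ((P : Subgroup G) : Set G))
    (hx : x ∈ Q) : y * x * y⁻¹ = x := by
  have hyP' : y ∈ P := mem_sylow_of_mem_normalizer P (pelt_of_mem E.hP₀ hy) hyP
  have h1 : y * x * y⁻¹ * x⁻¹ ∈ Q :=
    mul_mem (conj_mem' (E.hP₀N hy) hx) (inv_mem hx)
  have h2 : y * x * y⁻¹ * x⁻¹ ∈ (P : Subgroup G) := by
    have e : y * x * y⁻¹ * x⁻¹ = y * (x * y⁻¹ * x⁻¹) := by group
    rw [e]
    exact mul_mem hyP' (conj_mem' (hQP hx) (inv_mem hyP'))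
  have h3 : y * x * y⁻¹ * x⁻¹ = 1 :=
    eq_one_of_pelt_pelt E.hp Nat.prime_two E.hp2 (pelt_of_mem P.2 h2) (pelt_of_mem E.hQ2 h1)
  exact mul_inv_eq_one.1 h3

/-- The case `|Q| > 4`. -/
theorem false_of_signed_of_gt (E : Ex p G Q P₀) (hp3 : 3 < p) {t w : G} (htQ : t ∈ Q) (ht1 : t ≠ 1)
    (h : Signed p Q t w) : False := by
  classical
  obtain ⟨P, hwP, huP, hQP⟩ := E.signed_sylow h
  obtain ⟨x₁, hx₁, hx₁w⟩ := h.ex
  have hx₁i := E.isInv_of_inverts hx₁ h.ne h.pelt hx₁w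
  obtain ⟨y, hy, hyt⟩ := E.htrans t htQ x₁ hx₁ ht1 hx₁i.1
  have hyN := E.hP₀N hy
  have hw' := signed_conj hyN h
  -- pigeonhole on signs
  set w' := y * w * y⁻¹ with hw'def
  haveI : Fintype Q := Fintype.ofFinite Q
  let f : Q → Bool × Bool :=
    fun x => (decide (x.1 * w * x.1⁻¹ = w), decide (x.1 * w' * x.1⁻¹ = w'))
  have hcard : Fintype.card (Bool × Bool) < Fintype.card Q := by
    have e : Fintype.card Q = p + 1 := by
      rw [← Nat.card_eq_fintype_card, E.hcardQ]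
    rw [e]
    simp
    omega
  obtain ⟨a, b, hab, hfab⟩ := Fintype.exists_ne_map_eq_of_card_lt f hcard
  have hfa : (a.1 * w * a.1⁻¹ = w ↔ b.1 * w * b.1⁻¹ = w) := by
    have := congrArg Prod.fst hfab
    simpa [f] using this
  have hfa' : (a.1 * w' * a.1⁻¹ = w' ↔ b.1 * w' * b.1⁻¹ = w') := by
    have := congrArg Prod.snd hfab
    simpa [f] using this
  have hsign : ∀ v : G, (∀ x ∈ Q, x * v * x⁻¹ = v ∨ x * v * x⁻¹ = v⁻¹) →
      (a.1 * v * a.1⁻¹ = v ↔ b.1 * v * b.1⁻¹ = v) → (a.1 * b.1) * v * (a.1 * b.1)⁻¹ = v := by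
    intro v hv hiff
    have e : (a.1 * b.1) * v * (a.1 * b.1)⁻¹ = a.1 * (b.1 * v * b.1⁻¹) * a.1⁻¹ := by group
    rw [e]
    by_cases hb : b.1 * v * b.1⁻¹ = v
    · rw [hb]
      exact hiff.2 hb
    · have hb' := (hv b.1 b.2).resolve_left hb
      have ha' := (hv a.1 a.2).resolve_left (fun h => hb (hiff.1 h))
      rw [hb']
      have e2 : a.1 * v⁻¹ * a.1⁻¹ = (a.1 * v * a.1⁻¹)⁻¹ := by group
      rw [e2, ha', inv_inv]
  set s := a.1 * b.1 with hs
  have hsQ : s ∈ Q := mul_mem a.2 b.2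
  have hs1 : s ≠ 1 := by
    intro h1
    apply hab
    apply Subtype.ext
    have h2 : b.1 * b.1 = 1 := by rw [← sq, E.helem _ b.2]
    calc a.1 = a.1 * (b.1 * b.1) := by rw [h2, mul_one]
      _ = (a.1 * b.1) * b.1 := by group
      _ = b.1 := by rw [← hs, h1, one_mul]
  have hsi : IsInv s := ⟨hs1, E.helem s hsQ⟩
  have hsw : w * s = s * w := (conj_eq_iff_comm.1 (hsign w h.sign hfa)).symm
  have hsw' : w' * s = s * w' := (conj_eq_iff_comm.1 (hsign w' hw'.sign hfa')).symm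
  obtain ⟨P₁, h1, h2⟩ := E.exists_sylow_of_cent hsi hsw hsw' h.pelt hw'.pelt
  have hP₁ := huP P₁ h1
  subst hP₁
  obtain ⟨P', hP', huP', -⟩ := E.signed_sylow hw'
  have h3 := huP' P₁ h2
  have h4 : w' ∈ y • P₁ := mem_smul_sylow'.2 hwP
  have h5 := huP' _ h4
  have h6 : y • P₁ = P₁ := h5.trans h3.symm
  have hyNP : y ∈ normalizer ((P₁ : Subgroup G) : Set G) := mem_normalizer_sylow_iff.2 h6
  have h7 := E.comm_of_normalizes hy hyNP hQP htQ
  rw [hyt] at h7
  -- `t` centralizes `w` and `x₁` inverts it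
  have h8 : x₁ * w * x₁⁻¹ = w := by
    rw [h7]
    exact conj_eq_iff_comm.2 h.comm.symm
  rw [h8] at hx₁w
  apply E.sq_ne_one_of_pelt h.ne h.pelt
  rw [sq]
  nth_rw 1 [hx₁w]
  simp

end Ex

end Cfsg.Agent.Lib.MixEx
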