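import Mathlib
import Cfsg.Agent.Lib.MixNonTI
import Cfsg.Agent.Lib.H73Friend

/-!
# The exceptional configuration in the two-prime theorem: the case `p = 3`, `Q` acting nontrivially.
-/

set_option autoImplicit false
set_option linter.style.haveILetI false
set_option linter.unusedSectionVars false

namespace Cfsg.Agent.Lib.MixEx

open Subgroup Cfsg.Agent.Lib.TransferCore Cfsg.Agent.Lib.MixBasic
open scoped Pointwise

universe u

namespace Ex

variable {p : ℕ} {G : Type u} [Group G] [Finite G] {Q P₀ : Subgroup G}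

/-- The elements of a four-group. -/
theorem four_elts {A : Subgroup G} (hA : Nat.card A = 4) (hA2 : ∀ x ∈ A, x ^ 2 = 1) {a b : G}
    (ha : a ∈ A) (hb : b ∈ A) (ha1 : a ≠ 1) (hb1 : b ≠ 1) (hab : a ≠ b) :
    ∀ x ∈ A, x = 1 ∨ x = a ∨ x = b ∨ x = a * b := by
  classical
  have hbinv : b⁻¹ = b := by rw [inv_eq_iff_mul_eq_one, ← sq, hA2 b hb]
  have h1 : a * b ≠ 1 := by
    intro h
    apply hab
    rw [eq_inv_of_mul_eq_one_left h, hbinv]
  have h2 : a * b ≠ a := by
    intro h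
    apply hb1
    simpa using h
  have h3 : a * b ≠ b := by
    intro h
    apply ha1
    simpa using h
  let F : Finset G := {1, a, b, a * b}
  have hF : F.card = 4 := by
    rw [Finset.card_insert_of_notMem, Finset.card_insert_of_notMem, Finset.card_pair h3.symm]
    · simp [hab, h2.symm]
    · simp [ha1.symm, hb1.symm, h1.symm]
  have hsub : (F : Set G) ⊆ (A : Set G) := by
    intro x hx
    simp only [F, Finset.coe_insert, Finset.coe_singleton, Set.mem_insert_iff,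
      Set.mem_singleton_iff] at hx
    rcases hx with rfl | rfl | rfl | rfl
    · exact one_mem A
    · exact ha
    · exact hb
    · exact mul_mem ha hb
  have heq : (F : Set G) = (A : Set G) := by
    apply Set.eq_of_subset_of_ncard_le hsub _ (Set.toFinite _)
    rw [Set.ncard_coe_finset, hF, ← Nat.card_coe_set_eq]
    exact le_of_eq hA
  intro x hx
  have hx' : x ∈ (F : Set G) := heq ▸ hx
  simpa [F] using hx'

theorem same_sylow (E : Ex p G Q P₀) {z a v s : G} (hz : IsInv z) {P Pv : Sylow p G} (ha : a ∈ P)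
    (ha1 : a ≠ 1) (haz : a * z = z * a) (hs : IsInv s) (hsa : s * a * s⁻¹ = a⁻¹) (hv : v ∈ Pv)
    (huv : ∀ P' : Sylow p G, v ∈ P' → P' = Pv) (hvz : v * z = z * v) : P = Pv := by
  obtain ⟨Pa, -, hua, -⟩ := E.unique_sylow hs ha1 (pelt_of_mem P.2 ha) hsa
  obtain ⟨T, h1, h2⟩ := E.exists_sylow_of_cent hz haz hvz (pelt_of_mem P.2 ha)
    (pelt_of_mem Pv.2 hv)
  rw [hua P ha, ← hua T h1]
  exact huv T h2

theorem centralizes_P (E : Ex p G Q P₀) {t w : G} (htQ : t ∈ Q) (ht1 : t ≠ 1)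
    (h : Signed p Q t w) {P : Sylow p G} (hwP : w ∈ P)
    (hQP : Q ≤ normalizer ((P : Subgroup G) : Set G)) :
    ∀ b ∈ P, t * b * t⁻¹ = b := by
  obtain ⟨x₁, hx₁, hx₁w⟩ := h.ex
  have hx₁i := E.isInv_of_inverts hx₁ h.ne h.pelt hx₁w
  have hti : IsInv t := ⟨ht1, E.helem t htQ⟩
  have htw : t * w * t⁻¹ = w := conj_eq_iff_comm.2 h.comm.symm
  have hww : w ≠ w⁻¹ := by
    intro h1
    apply E.sq_ne_one_of_pelt h.ne h.pelt
    rw [sq]
    nth_rw 1 [h1]
    simp
  have htx : t ≠ x₁ := by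
    rintro rfl
    rw [htw] at hx₁w
    exact hww hx₁w
  obtain ⟨t₃, ht₃⟩ : ∃ t₃, t₃ = t * x₁ := ⟨_, rfl⟩
  have ht₃Q : t₃ ∈ Q := ht₃ ▸ mul_mem htQ hx₁
  have ht₃1 : t₃ ≠ 1 := by
    intro h1
    apply htx
    rw [h1] at ht₃
    rw [eq_inv_of_mul_eq_one_left ht₃.symm, hx₁i.inv_eq]
  have ht₃i : IsInv t₃ := ⟨ht₃1, E.helem _ ht₃Q⟩
  obtain ⟨y₂, hy₂, hy₂t⟩ := E.htrans t htQ x₁ hx₁ ht1 hx₁i.1
  obtain ⟨y₃, hy₃, hy₃t⟩ := E.htrans t htQ t₃ ht₃Q ht1 ht₃1
  have hS₂ := signed_conj (E.hP₀N hy₂) h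
  have hS₃ := signed_conj (E.hP₀N hy₃) h
  rw [hy₂t] at hS₂
  rw [hy₃t] at hS₃
  obtain ⟨P₂, hP₂, huP₂, -⟩ := E.signed_sylow hS₂
  obtain ⟨P₃, hP₃, huP₃, -⟩ := E.signed_sylow hS₃
  have hne : ∀ (y t' : G) (P' : Sylow p G), y ∈ P₀ → y * t * y⁻¹ = t' → t' ≠ t →
      (∀ P'' : Sylow p G, y * w * y⁻¹ ∈ P'' → P'' = P') → P ≠ P' := by
    rintro y t' P' hy hyt ht' hu rfl
    have h1 : y • P = P := hu _ (mem_smul_sylow'.2 hwP)
    have h2 : y ∈ normalizer ((P : Subgroup G) : Set G) := mem_normalizer_sylow_iff.2 h1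
    have h3 := E.comm_of_normalizes hy h2 hQP htQ
    rw [hyt] at h3
    exact ht' h3
  have hPP₂ : P ≠ P₂ := hne y₂ x₁ P₂ hy₂ hy₂t htx.symm huP₂
  have hPP₃ : P ≠ P₃ := by
    refine hne y₃ t₃ P₃ hy₃ hy₃t ?_ huP₃
    intro h1
    apply hx₁i.1
    have h2 : t * x₁ = t := ht₃ ▸ h1
    simpa using h2
  have hcomm : ∀ a ∈ P, ∀ c ∈ P, a * c = c * a := fun a ha c hc => E.comm_of_mem_sylow P ha hc
  have hκP : ∀ x ∈ Q, ∀ a ∈ P, x * a * x⁻¹ ∈ P := fun x hx a ha =>
    (mem_normalizer_iff.1 (hQP hx) a).1 ha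
  have hQcomm : t * x₁ = x₁ * t := E.Q_comm htQ hx₁
  have hx₁sq : x₁ * x₁ = 1 := by rw [← sq, hx₁i.2]
  have htsq : t * t = 1 := by rw [← sq, hti.2]
  have hinvert : ∀ a ∈ P, t * a * t⁻¹ = a⁻¹ → a = 1 := by
    intro a ha hta
    obtain ⟨a', ha'⟩ : ∃ a', a' = x₁ * a * x₁⁻¹ := ⟨_, rfl⟩
    have ha'P : a' ∈ P := ha' ▸ hκP x₁ hx₁ a ha
    have hca : a * a' = a' * a := hcomm a ha a' ha'P
    have hta' : t * a' * t⁻¹ = a'⁻¹ := by
      have e1 : t * a' * t⁻¹ = (t * x₁) * a * (t * x₁)⁻¹ := by rw [ha']; group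
      have e2 : (x₁ * t) * a * (x₁ * t)⁻¹ = x₁ * (t * a * t⁻¹) * x₁⁻¹ := by group
      rw [e1, hQcomm, e2, hta, ha']
      group
    have hxa : x₁ * a * x₁⁻¹ = a' := ha'.symm
    have hxa' : x₁ * a' * x₁⁻¹ = a := by
      have e1 : x₁ * a' * x₁⁻¹ = (x₁ * x₁) * a * (x₁ * x₁)⁻¹ := by rw [ha']; group
      rw [e1, hx₁sq]
      simp
    -- the plus part
    have hplus : a * a' = 1 := by
      by_contra hne1
      have h1 : (a * a') * x₁ = x₁ * (a * a') := by
        apply Eq.symm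
        apply conj_eq_iff_comm.1
        have e : x₁ * (a * a') * x₁⁻¹ = (x₁ * a * x₁⁻¹) * (x₁ * a' * x₁⁻¹) := by group
        rw [e, hxa', hxa, ← hca]
      have h2 : t * (a * a') * t⁻¹ = (a * a')⁻¹ := by
        have e : t * (a * a') * t⁻¹ = (t * a * t⁻¹) * (t * a' * t⁻¹) := by group
        rw [e, hta, hta', ← mul_inv_rev, ← hca]
      exact hPP₂ (E.same_sylow hx₁i (mul_mem ha ha'P) hne1 h1 hti h2 hP₂ huP₂ hS₂.comm)
    have hminus : a * a'⁻¹ = 1 := by
      by_contra hne1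
      have hc2 : a * a'⁻¹ = a'⁻¹ * a := hcomm a ha _ (inv_mem ha'P)
      have h2 : t * (a * a'⁻¹) * t⁻¹ = (a * a'⁻¹)⁻¹ := by
        have e : t * (a * a'⁻¹) * t⁻¹ = (t * a * t⁻¹) * (t * a' * t⁻¹)⁻¹ := by group
        rw [e, hta, hta', mul_inv_rev, inv_inv]
        exact hcomm a⁻¹ (inv_mem ha) a' ha'P
      have h3 : x₁ * (a * a'⁻¹) * x₁⁻¹ = (a * a'⁻¹)⁻¹ := by
        have e : x₁ * (a * a'⁻¹) * x₁⁻¹ = (x₁ * a * x₁⁻¹) * (x₁ * a' * x₁⁻¹)⁻¹ := by group
        rw [e, hxa, hxa', mul_inv_rev, inv_inv]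
      have h4 : (a * a'⁻¹) * t₃ = t₃ * (a * a'⁻¹) := by
        apply Eq.symm
        apply conj_eq_iff_comm.1
        have e : t₃ * (a * a'⁻¹) * t₃⁻¹ = t * (x₁ * (a * a'⁻¹) * x₁⁻¹) * t⁻¹ := by
          rw [ht₃]; group
        rw [e, h3]
        have e2 : t * (a * a'⁻¹)⁻¹ * t⁻¹ = (t * (a * a'⁻¹) * t⁻¹)⁻¹ := by group
        rw [e2, h2, inv_inv]
      exact hPP₃ (E.same_sylow ht₃i (mul_mem ha (inv_mem ha'P)) hne1 h4 hti h2 hP₃ huP₃ hS₃.comm)
    have h5 : a ^ 2 = 1 := by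
      have h6 : a = a' := by
        simpa using mul_inv_eq_one.1 hminus
      rw [sq]
      nth_rw 2 [h6]
      exact hplus
    exact eq_one_of_pelt_pelt E.hp Nat.prime_two E.hp2 (pelt_of_mem P.2 ha) ⟨1, by simpa using h5⟩
  intro b hb
  have hb' : t * b * t⁻¹ ∈ P := hκP t htQ b hb
  have h1 : b * (t * b * t⁻¹)⁻¹ = 1 := by
    apply hinvert _ (mul_mem hb (inv_mem hb'))
    have e : t * (b * (t * b * t⁻¹)⁻¹) * t⁻¹ = (t * b * t⁻¹) * ((t * t) * b * (t * t)⁻¹)⁻¹ := by
      group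
    rw [e, htsq]
    simp only [one_mul, inv_one, mul_one, mul_inv_rev, inv_inv]
  exact (mul_inv_eq_one.1 h1).symm

/-- `z` is the involution attached to the Sylow subgroup `P`. -/
structure Rel {G : Type*} [Group G] {p : ℕ} (z : G) (P : Sylow p G) : Prop where
  inv : IsInv z
  eq : centralizer ({z} : Set G) = normalizer ((P : Subgroup G) : Set G)
  le : (P : Subgroup G) ≤ centralizer ({z} : Set G)

theorem mem_normalizer_smul {P : Sylow p G} {g x : G} :
    x ∈ normalizer (((g • P : Sylow p G) : Subgroup G) : Set G) ↔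
      g⁻¹ * x * g ∈ normalizer ((P : Subgroup G) : Set G) := by
  have h1 : x ∈ normalizer (((g • P : Sylow p G) : Subgroup G) : Set G) ↔ x • (g • P) = g • P :=
    mem_normalizer_sylow_iff
  have h2 : g⁻¹ * x * g ∈ normalizer ((P : Subgroup G) : Set G) ↔ (g⁻¹ * x * g) • P = P :=
    mem_normalizer_sylow_iff
  rw [h1, h2]
  have e : (g⁻¹ * x * g) • P = g⁻¹ • (x • (g • P)) := by rw [mul_smul, mul_smul]
  constructor
  · intro h
    rw [e, h, inv_smul_smul]
  · intro h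
    rw [e] at h
    have : x • (g • P) = g • (g⁻¹ • (x • (g • P))) := (smul_inv_smul g _).symm
    rw [this, h]

theorem Rel.conj {z : G} {P : Sylow p G} (h : Rel z P) (g : G) : Rel (g * z * g⁻¹) (g • P) where
  inv := h.inv.conj g
  eq := by
    ext x
    rw [mem_normalizer_smul, ← h.eq, mem_cent, mem_cent]
    constructor
    · intro h1
      have e : (g⁻¹ * x * g) * z = g⁻¹ * (x * (g * z * g⁻¹)) * g := by group
      rw [e, h1]
      group
    · intro h1
      have e : x * (g * z * g⁻¹) = g * ((g⁻¹ * x * g) * z) * g⁻¹ := by group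
      rw [e, h1]
      group
  le := by
    intro x hx
    have h1 : g⁻¹ * x * g ∈ P := mem_smul_sylow.1 hx
    have h2 := mem_cent.1 (h.le h1)
    rw [mem_cent]
    have e : x * (g * z * g⁻¹) = g * ((g⁻¹ * x * g) * z) * g⁻¹ := by group
    rw [e, h2]
    group

theorem Rel.unique_sylow {z : G} {P P' : Sylow p G} (h : Rel z P) (h' : Rel z P') : P = P' := by
  have h1 : (P' : Subgroup G) ≤ P := by
    intro x hx
    apply mem_sylow_of_mem_normalizer P (pelt_of_mem P'.2 hx)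
    rw [← h.eq]
    exact h'.le hx
  exact Sylow.ext (P'.is_maximal' P.2 h1)

theorem rel_base (E : Ex p G Q P₀) {t w : G} (htQ : t ∈ Q) (ht1 : t ≠ 1)
    (h : Signed p Q t w) {P : Sylow p G} (hwP : w ∈ P)
    (hQP : Q ≤ normalizer ((P : Subgroup G) : Set G)) : Rel t P := by
  have hti : IsInv t := ⟨ht1, E.helem t htQ⟩
  have hc := E.centralizes_P htQ ht1 h hwP hQP
  have hle : (P : Subgroup G) ≤ centralizer ({t} : Set G) := by
    intro b hb
    exact mem_cent.2 (conj_eq_iff_comm.1 (hc b hb)).symm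
  refine ⟨hti, ?_, hle⟩
  obtain ⟨B, hBC, hB, hCB, hBx⟩ := E.cent_case1 hti
  have hPB : (P : Subgroup G) ≤ B := fun x hx => hBx x (hle hx) (pelt_of_mem P.2 hx)
  have hBP : B = P := P.is_maximal' hB hPB
  subst_vars
  have hQC : Q ≤ centralizer ({t} : Set G) := fun x hx => mem_cent.2 (E.Q_comm hx htQ)
  have h1 := E.sup_eq_of_case1 _ _ Q (E.cent_ne_top hti) hle P.2
    (fun x hx hxp => hBx x hx hxp) hQC E.hQ2 E.hcardQ
  have hN : normalizer ((P : Subgroup G) : Set G) ≠ ⊤ := by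
    intro h2
    have hn : (P : Subgroup G).Normal := normalizer_eq_top_iff.1 h2
    have h3 := E.hOp _ P.2 hn
    have h4 : w ∈ (P : Subgroup G) := hwP
    rw [h3] at h4
    exact h.ne (Subgroup.mem_bot.1 h4)
  have h2 := E.sup_eq_of_case1 _ _ Q hN le_normalizer P.2
    (fun x hx hxp => mem_sylow_of_mem_normalizer P hxp hx) hQP E.hQ2 E.hcardQ
  rw [← h1, h2]

/-- The involution attached to the base Sylow subgroup is unique. -/
theorem rel_eq_base (E : Ex p G Q P₀) (hp3 : p = 3) {t w z : G} (htQ : t ∈ Q) (ht1 : t ≠ 1)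
    (h : Signed p Q t w) {P : Sylow p G} (hwP : w ∈ P)
    (hQP : Q ≤ normalizer ((P : Subgroup G) : Set G)) (hz : Rel z P) : z = t := by
  have hb := E.rel_base htQ ht1 h hwP hQP
  have hti : IsInv t := hb.inv
  have hzC : z ∈ centralizer ({t} : Set G) := by
    rw [hb.eq, ← hz.eq]
    exact mem_cent.2 rfl
  have hQC : Q ≤ centralizer ({t} : Set G) := fun x hx => mem_cent.2 (E.Q_comm hx htQ)
  have h1 := E.sup_eq_of_case1 _ _ Q (E.cent_ne_top hti) hb.le P.2
    (fun x hx hxp => mem_sylow_of_mem_normalizer P hxp (hb.eq ▸ hx)) hQC E.hQ2 E.hcardQ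
  rw [← h1] at hzC
  have hset : ((Q ⊔ (P : Subgroup G) : Subgroup G) : Set G) = (Q : Set G) * ((P : Subgroup G) : Set G) :=
    coe_mul_of_left_le_normalizer_right Q _ hQP
  have hzC' : z ∈ ((Q ⊔ (P : Subgroup G) : Subgroup G) : Set G) := hzC
  rw [hset] at hzC'
  obtain ⟨x, hx, b, hbP, rfl⟩ := Set.mem_mul.1 hzC'
  have hbP' : b ∈ P := hbP
  -- `x * b` centralizes `P`
  have hzw : w * (x * b) = (x * b) * w := mem_cent.1 (hz.le hwP)
  have hbw : b * w = w * b := E.comm_of_mem_sylow P hbP' hwP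
  have hxw : x * w * x⁻¹ = w := by
    apply conj_eq_iff_comm.2
    have e1 : (x * w) * b = (w * x) * b := by
      calc (x * w) * b = x * (w * b) := by group
        _ = x * (b * w) := by rw [hbw]
        _ = (x * b) * w := by group
        _ = w * (x * b) := hzw.symm
        _ = _ := by group
    exact mul_right_cancel e1
  obtain ⟨x₁, hx₁, hx₁w⟩ := h.ex
  have hx₁i := E.isInv_of_inverts hx₁ h.ne h.pelt hx₁w
  have htw : t * w * t⁻¹ = w := conj_eq_iff_comm.2 h.comm.symm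
  have hww : w⁻¹ ≠ w := by
    intro h1
    apply E.sq_ne_one_of_pelt h.ne h.pelt
    rw [sq]
    nth_rw 1 [← h1]
    simp
  have htx : t ≠ x₁ := by
    rintro rfl
    rw [htw] at hx₁w
    exact hww hx₁w.symm
  have hQ4 : Nat.card Q = 4 := by rw [E.hcardQ, hp3]
  have hbt : b * t = t * b := mem_cent.1 (hb.le hbP')
  rcases four_elts hQ4 E.helem htQ hx₁ ht1 hx₁i.1 htx x hx with rfl | rfl | rfl | rfl
  · exfalso
    rw [one_mul] at hz
    exact hz.inv.1 (eq_one_of_pelt_pelt E.hp Nat.prime_two E.hp2 (pelt_of_mem P.2 hbP') hz.inv.pelt)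
  · have h2 : (x * b) ^ 2 = 1 := hz.inv.2
    have hcm : Commute x b := (show b * x = x * b from hbt).symm
    rw [hcm.mul_pow, hti.2, one_mul] at h2
    have h3 := eq_one_of_pelt_pelt E.hp Nat.prime_two E.hp2 (pelt_of_mem P.2 hbP')
      ⟨1, by simpa using h2⟩
    rw [h3, mul_one]
  · exact absurd (hxw.symm.trans hx₁w).symm hww
  · exfalso
    have e : (t * x₁) * w * (t * x₁)⁻¹ = t * (x₁ * w * x₁⁻¹) * t⁻¹ := by group
    rw [e, hx₁w] at hxw
    have e2 : t * w⁻¹ * t⁻¹ = (t * w * t⁻¹)⁻¹ := by group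
    rw [e2, htw] at hxw
    exact hww hxw

theorem closure_comm_inv {G : Type*} [Group G] (S : Set G) (hS : ∀ a ∈ S, a ^ 2 = 1)
    (hc : ∀ a ∈ S, ∀ b ∈ S, a * b = b * a) :
    ∀ x ∈ Subgroup.closure S, x ^ 2 = 1 ∧ ∀ a ∈ S, x * a = a * x := by
  intro x hx
  induction hx using Subgroup.closure_induction with
  | mem a ha => exact ⟨hS a ha, fun b hb => hc a ha b hb⟩
  | one => simp
  | mul a b ha hb iha ihb =>
    have hab : a * b = b * a := by
      have h1 : Subgroup.closure S ≤ centralizer ({a} : Set G) := by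
        rw [Subgroup.closure_le]
        intro c hc
        exact mem_cent.2 (iha.2 c hc).symm
      exact (mem_cent.1 (h1 hb)).symm
    refine ⟨?_, fun c hc => ?_⟩
    · rw [(show Commute a b from hab).mul_pow, iha.1, ihb.1, one_mul]
    · rw [mul_assoc, ihb.2 c hc, ← mul_assoc, iha.2 c hc, mul_assoc]
  | inv a ha iha =>
    refine ⟨by rw [inv_pow, iha.1, inv_one], fun c hc => ?_⟩
    have := iha.2 c hc
    rw [inv_mul_eq_iff_eq_mul, ← mul_assoc, this]
    group

theorem false_of_friend (E : Ex p G Q P₀) (hp3 : p = 3)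
    (hI : ∀ z : G, IsInv z → ∃ P : Sylow p G, Rel z P)
    (hS : ∀ P : Sylow p G, ∃ z : G, Rel z P)
    (hU : ∀ (z z' : G) (P : Sylow p G), Rel z P → Rel z' P → z = z') : False := by
  classical
  let V := {t : G // IsInv t}
  let A : SimpleGraph V :=
    { Adj := fun a b => a ≠ b ∧ a.1 * b.1 = b.1 * a.1
      symm := ⟨fun a b h => ⟨h.1.symm, h.2.symm⟩⟩
      loopless := ⟨fun a h => h.1 rfl⟩ }
  have hQ4 : Nat.card Q = 4 := by rw [E.hcardQ, hp3]
  -- products of commuting involutions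
  have hprod : ∀ a b : G, IsInv a → IsInv b → a ≠ b → a * b = b * a → IsInv (a * b) := by
    intro a b ha hb hab hc
    refine ⟨?_, ?_⟩
    · intro h1
      apply hab
      rw [eq_inv_of_mul_eq_one_left h1, hb.inv_eq]
    · rw [(show Commute a b from hc).mul_pow, ha.2, hb.2, one_mul]
  have hf : ∀ v w : V, v ≠ w → ∃! x, A.Adj v x ∧ A.Adj w x := by
    intro v w hvw
    have hvw' : v.1 ≠ w.1 := fun h => hvw (Subtype.ext h)
    by_cases hc : v.1 * w.1 = w.1 * v.1
    · refine ⟨⟨v.1 * w.1, hprod _ _ v.2 w.2 hvw' hc⟩, ⟨⟨?_, ?_⟩, ⟨?_, ?_⟩⟩, ?_⟩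
      · intro h
        have h1 : v.1 = v.1 * w.1 := congrArg Subtype.val h
        exact w.2.1 (by simpa using h1.symm)
      · show v.1 * (v.1 * w.1) = (v.1 * w.1) * v.1
        rw [mul_assoc, hc.symm]
      · intro h
        have h1 : w.1 = v.1 * w.1 := congrArg Subtype.val h
        exact v.2.1 (by simpa using h1.symm)
      · show w.1 * (v.1 * w.1) = (v.1 * w.1) * w.1
        rw [← mul_assoc, hc.symm]
      · rintro ⟨y, hy⟩ ⟨⟨h1, h2⟩, ⟨h3, h4⟩⟩
        have h2' : v.1 * y = y * v.1 := h2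
        have h4' : w.1 * y = y * w.1 := h4
        have hvy : v.1 ≠ y := fun h => h1 (Subtype.ext h)
        have hwy : w.1 ≠ y := fun h => h3 (Subtype.ext h)
        apply Subtype.ext
        show y = v.1 * w.1
        let S : Set G := {v.1, w.1, y}
        have hSsq : ∀ a ∈ S, a ^ 2 = 1 := by
          rintro a (rfl | rfl | rfl)
          · exact v.2.2
          · exact w.2.2
          · exact hy.2
        have hScomm : ∀ a ∈ S, ∀ b ∈ S, a * b = b * a := by
          rintro a (rfl | rfl | rfl) b (rfl | rfl | rfl)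
          · rfl
          · exact hc
          · exact h2'
          · exact hc.symm
          · rfl
          · exact h4'
          · exact h2'.symm
          · exact h4'.symm
          · rfl
        have hcl := closure_comm_inv S hSsq hScomm
        have hP2 : IsPGroup 2 (Subgroup.closure S) := by
          rintro ⟨x, hx⟩
          refine ⟨1, Subtype.ext ?_⟩
          simpa using (hcl x hx).1
        obtain ⟨g, hg⟩ := E.exists_conj_le_Q _ hP2
        have hvS : v.1 ∈ Subgroup.closure S := Subgroup.subset_closure (Or.inl rfl)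
        have hwS : w.1 ∈ Subgroup.closure S := Subgroup.subset_closure (Or.inr (Or.inl rfl))
        have hyS : y ∈ Subgroup.closure S := Subgroup.subset_closure (Or.inr (Or.inr rfl))
        have hinj : ∀ a b : G, g * a * g⁻¹ = g * b * g⁻¹ → a = b := fun a b h =>
          mul_left_cancel (mul_right_cancel h)
        rcases four_elts hQ4 E.helem (hg _ hvS) (hg _ hwS) (v.2.conj g).1 (w.2.conj g).1
          (fun h => hvw' (hinj _ _ h)) _ (hg _ hyS) with h5 | h5 | h5 | h5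
        · exfalso
          exact (hy.conj g).1 h5
        · exact absurd (hinj _ _ h5).symm hvy
        · exact absurd (hinj _ _ h5).symm hwy
        · apply hinj
          rw [h5]
          group
    · obtain ⟨u, hu1, hup, hvu, hwu, n, hun⟩ := E.dihedral v.2 w.2 hc
      obtain ⟨Pu, huP, huniq, hN⟩ := E.unique_sylow v.2 hu1 hup hvu
      obtain ⟨z, hz⟩ := hS Pu
      have hvN : v.1 ∈ centralizer ({z} : Set G) := by
        rw [hz.eq]
        exact hN (mem_normalizer_zpowers_of_inv hvu)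
      have hwN : w.1 ∈ centralizer ({z} : Set G) := by
        rw [hz.eq]
        exact hN (mem_normalizer_zpowers_of_inv hwu)
      have hvz := mem_cent.1 hvN
      have hwz := mem_cent.1 hwN
      refine ⟨⟨z, hz.inv⟩, ⟨⟨?_, hvz⟩, ⟨?_, hwz⟩⟩, ?_⟩
      · intro h
        have h1 : v.1 = z := congrArg Subtype.val h
        apply hc
        rw [h1]
        exact hwz.symm
      · intro h
        have h1 : w.1 = z := congrArg Subtype.val h
        apply hc
        rw [h1]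
        exact hvz
      · rintro ⟨y, hy⟩ ⟨⟨-, h2⟩, ⟨-, h4⟩⟩
        have h2' : v.1 * y = y * v.1 := h2
        have h4' : w.1 * y = y * w.1 := h4
        obtain ⟨Py, hPy⟩ := hI y hy
        have huC : u ∈ centralizer ({y} : Set G) := by
          rw [hun]
          exact pow_mem (mul_mem (mem_cent.2 h2') (mem_cent.2 h4')) n
        rw [hPy.eq] at huC
        have huPy := mem_sylow_of_mem_normalizer Py hup huC
        have h5 := huniq Py huPy
        subst h5
        apply Subtype.ext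
        exact hU _ _ _ hPy hz
  -- a pair of noncommuting involutions
  obtain ⟨t₀, ht₀Q, ht₀1, -⟩ := exists_other Q E.three_le_cardQ 1
  have ht₀ : IsInv t₀ := ⟨ht₀1, E.helem t₀ ht₀Q⟩
  obtain ⟨t₁, ht₁, hne⟩ := E.exists_not_comm ht₀
  have hnev : (⟨t₀, ht₀⟩ : V) ≠ ⟨t₁, ht₁⟩ := by
    intro h
    have h1 : t₀ = t₁ := congrArg Subtype.val h
    apply hne
    rw [h1]
  obtain ⟨z₀, ⟨hz₁, hz₂⟩, -⟩ := hf _ _ hnev
  have hcz₁ : t₀ * z₀.1 = z₀.1 * t₀ := hz₁.2
  have hcz₂ : t₁ * z₀.1 = z₀.1 * t₁ := hz₂.2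
  have hz₀t₀ : z₀.1 ≠ t₀ := fun h => hz₁.1 (Subtype.ext h.symm)
  have hconj : ∀ (g : G) (a b : V), A.Adj a b →
      A.Adj ⟨g * a.1 * g⁻¹, a.2.conj g⟩ ⟨g * b.1 * g⁻¹, b.2.conj g⟩ := by
    intro g a b h
    refine ⟨?_, ?_⟩
    · intro h1
      have h2 : g * a.1 * g⁻¹ = g * b.1 * g⁻¹ := congrArg Subtype.val h1
      exact h.1 (Subtype.ext (mul_left_cancel (mul_right_cancel h2)))
    · have h2 : a.1 * b.1 = b.1 * a.1 := h.2
      show g * a.1 * g⁻¹ * (g * b.1 * g⁻¹) = g * b.1 * g⁻¹ * (g * a.1 * g⁻¹)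
      have e1 : g * a.1 * g⁻¹ * (g * b.1 * g⁻¹) = g * (a.1 * b.1) * g⁻¹ := by group
      have e2 : g * b.1 * g⁻¹ * (g * a.1 * g⁻¹) = g * (b.1 * a.1) * g⁻¹ := by group
      rw [e1, e2, h2]
  have hle : ∀ (v : V) (g : G), g * v.1 * g⁻¹ = z₀.1 →
      Nat.card (A.neighborSet v) ≤ Nat.card (A.neighborSet z₀) := by
    intro v g hg
    have hinj : Function.Injective (fun x : A.neighborSet v =>
        (⟨⟨g * x.1.1 * g⁻¹, x.1.2.conj g⟩, by
          have h1 := hconj g v x.1 x.2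
          have h2 : (⟨g * v.1 * g⁻¹, v.2.conj g⟩ : V) = z₀ := Subtype.ext hg
          rw [h2] at h1
          exact h1⟩ : A.neighborSet z₀)) := by
      intro x y h
      have h1 : g * x.1.1 * g⁻¹ = g * y.1.1 * g⁻¹ :=
        congrArg (fun a : A.neighborSet z₀ => a.1.1) h
      exact Subtype.ext (Subtype.ext (mul_left_cancel (mul_right_cancel h1)))
    exact Nat.card_le_card_of_injective _ hinj
  have hd : ∀ v : V, Nat.card (A.neighborSet v) = Nat.card (A.neighborSet z₀) := by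
    intro v
    obtain ⟨g, hg⟩ := E.exists_conj_inv v.2 z₀.2
    apply le_antisymm (hle v g hg)
    have hg' : g⁻¹ * z₀.1 * g = v.1 := by rw [← hg]; group
    have hle2 : ∀ (a : V), Nat.card (A.neighborSet z₀) ≤ Nat.card (A.neighborSet v) := by
      intro _
      have hinj : Function.Injective (fun x : A.neighborSet z₀ =>
          (⟨⟨g⁻¹ * x.1.1 * g⁻¹⁻¹, x.1.2.conj g⁻¹⟩, by
            have h1 := hconj g⁻¹ z₀ x.1 x.2
            have h2 : (⟨g⁻¹ * z₀.1 * g⁻¹⁻¹, z₀.2.conj g⁻¹⟩ : V) = v :=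
              Subtype.ext (by simpa using hg')
            rw [h2] at h1
            exact h1⟩ : A.neighborSet v)) := by
        intro x y h
        have h1 : g⁻¹ * x.1.1 * g⁻¹⁻¹ = g⁻¹ * y.1.1 * g⁻¹⁻¹ :=
          congrArg (fun a : A.neighborSet v => a.1.1) h
        exact Subtype.ext (Subtype.ext (mul_left_cancel (mul_right_cancel h1)))
      exact Nat.card_le_card_of_injective _ hinj
    exact hle2 v
  have hd3 : 3 ≤ Nat.card (A.neighborSet z₀) := by
    have hprod₀ := hprod _ _ z₀.2 ht₀ hz₀t₀ hcz₁.symm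
    let a : V := ⟨t₀, ht₀⟩
    let b : V := ⟨t₁, ht₁⟩
    let c : V := ⟨z₀.1 * t₀, hprod₀⟩
    have hac : a ≠ c := by
      intro h
      have h1 : t₀ = z₀.1 * t₀ := congrArg Subtype.val h
      exact z₀.2.1 (by simpa using h1.symm)
    have hbc : b ≠ c := by
      intro h
      have h1 : t₁ = z₀.1 * t₀ := congrArg Subtype.val h
      apply hne
      rw [h1, ← mul_assoc, ← hcz₁, mul_assoc]
    have h3 : ({a, b, c} : Set V).ncard = 3 := Set.ncard_eq_three.2 ⟨a, b, c, hnev, hac, hbc, rfl⟩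
    have hsub : ({a, b, c} : Set V) ⊆ A.neighborSet z₀ := by
      rintro x (rfl | rfl | rfl)
      · exact hz₁.symm
      · exact hz₂.symm
      · refine ⟨?_, ?_⟩
        · intro h
          have h1 : z₀.1 = z₀.1 * t₀ := congrArg Subtype.val h
          exact ht₀1 (by simpa using h1.symm)
        · show z₀.1 * (z₀.1 * t₀) = (z₀.1 * t₀) * z₀.1
          rw [mul_assoc, hcz₁]
    have h4 := Set.ncard_le_ncard hsub (Set.toFinite _)
    rw [h3, ← Nat.card_coe_set_eq] at h4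
    exact h4
  haveI : Nonempty V := ⟨z₀⟩
  exact Cfsg.Agent.Lib.H73Friend.friend_false A _ hd3 hd hf

/-- The case `p = 3`. -/
theorem false_of_signed_three (E : Ex p G Q P₀) (hp3 : p = 3) {t w : G} (htQ : t ∈ Q) (ht1 : t ≠ 1)
    (h : Signed p Q t w) : False := by
  haveI := E.factP
  obtain ⟨P, hwP, huP, hQP⟩ := E.signed_sylow h
  have hb := E.rel_base htQ ht1 h hwP hQP
  refine E.false_of_friend hp3 ?_ ?_ ?_
  · intro z hz
    obtain ⟨g, hg⟩ := E.exists_conj_inv hb.inv hz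
    exact ⟨g • P, hg ▸ hb.conj g⟩
  · intro P'
    obtain ⟨g, hg⟩ := MulAction.exists_smul_eq G P P'
    exact ⟨g * t * g⁻¹, hg ▸ hb.conj g⟩
  · intro z z' P' hz hz'
    obtain ⟨g, hg⟩ := E.exists_conj_inv hz.inv hb.inv
    have h1 := hz.conj g
    rw [hg] at h1
    have h2 := h1.unique_sylow hb
    have h3 := hz'.conj g
    rw [h2] at h3
    have h4 := E.rel_eq_base hp3 htQ ht1 h hwP hQP h3
    rw [← hg] at h4
    exact (mul_left_cancel (mul_right_cancel h4)).symm

end Ex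

end Cfsg.Agent.Lib.MixEx
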