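import Mathlib
import Cfsg.Agent.Lib.MixThree

/-!
# The exceptional configuration in the two-prime theorem: `Q` centralizes the `p`-elements of the
centralizers of its involutions.
-/

set_option autoImplicit false
set_option linter.style.haveILetI false
set_option linter.unusedSectionVars false

namespace Cfsg.Agent.Lib.MixEx

open Subgroup Cfsg.Agent.Lib.TransferCore Cfsg.Agent.Lib.MixBasic
open scoped Pointwise

universe u

namespace Ex

variable {p : ℕ} {G : Type u} [Group G] [Finite G] {Q P₀ : Subgroup G}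

/-- The hypothesis of this file. -/
def TI (p : ℕ) {G : Type*} [Group G] (Q : Subgroup G) : Prop :=
  ∀ t ∈ Q, t ≠ 1 → ∀ b : G, b * t = t * b → PElt p b → ∀ x ∈ Q, x * b = b * x

theorem exists_moved (E : Ex p G Q P₀) {t : G} (htQ : t ∈ Q) (ht1 : t ≠ 1) :
    ∃ y ∈ P₀, y * t * y⁻¹ ≠ t := by
  obtain ⟨x, hx, hx1, hxt⟩ := exists_other Q E.three_le_cardQ t
  obtain ⟨y, hy, hyt⟩ := E.htrans t htQ x hx ht1 hx1
  exact ⟨y, hy, fun h => hxt (hyt ▸ h)⟩

theorem two_pow_card_eq (E : Ex p G Q P₀) (A : Subgroup G) (hA : IsPGroup 2 A) (hQA : Q ≤ A) :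
    A = Q := by
  symm
  apply Subgroup.eq_of_le_of_card_ge hQA
  rw [E.hcardQ]
  exact E.hle A hA

/-- (T1) The centralizer of an involution of `Q` normalizes `Q`. -/
theorem cent_le_normalizer (E : Ex p G Q P₀) (hTI : TI p Q) {t : G} (htQ : t ∈ Q) (ht1 : t ≠ 1) :
    centralizer ({t} : Set G) ≤ normalizer (Q : Set G) := by
  have ht : IsInv t := ⟨ht1, E.helem t htQ⟩
  obtain ⟨B, hBC, hB, hCB, hBx⟩ := E.cent_case1 ht
  have hQC : Q ≤ centralizer ({t} : Set G) := fun x hx => mem_cent.2 (E.Q_comm hx htQ)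
  have h1 := E.sup_eq_of_case1 _ B Q (E.cent_ne_top ht) hBC hB hBx hQC E.hQ2 E.hcardQ
  rw [← h1]
  refine sup_le le_normalizer ?_
  intro b hb
  rw [mem_normalizer_iff]
  have hbQ : ∀ x ∈ Q, x * b = b * x := hTI t htQ ht1 b (mem_cent.1 (hBC hb)) (pelt_of_mem hB hb)
  intro x
  have hbx : ∀ x : G, x ∈ Q → b * x * b⁻¹ = x := fun x hx => conj_eq_iff_comm.2 (hbQ x hx).symm
  constructor
  · intro hx
    rw [hbx x hx]
    exact hx
  · intro hx
    have h2 := hbx _ hx
    have h3 : b * (b * x * b⁻¹) * b⁻¹ = b * x * b⁻¹ := h2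
    have h4 : b * x * b⁻¹ = x := by
      exact mul_left_cancel (a := b) (mul_right_cancel (b := b⁻¹) h3)
    rw [h4] at hx
    exact hx

theorem mem_Q_of_comm (E : Ex p G Q P₀) (hTI : TI p Q) {t s : G} (htQ : t ∈ Q) (ht1 : t ≠ 1)
    (hs : PElt 2 s) (hst : s * t = t * s) : s ∈ Q := by
  have h1 := E.cent_le_normalizer hTI htQ ht1 (mem_cent.2 hst)
  have h2 : zpowers s ≤ normalizer (Q : Set G) := by
    rw [zpowers_le]
    exact h1
  have h3 := (isPGroup_zpowers hs).to_sup_of_normal_right' E.hQ2 h2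
  have h4 := E.two_pow_card_eq _ h3 le_sup_right
  have h5 : s ∈ (zpowers s ⊔ Q : Subgroup G) := (le_sup_left : zpowers s ≤ _) (mem_zpowers s)
  rwa [h4] at h5

/-- (T3) `P₀` centralizes the `p`-elements of the centralizers. -/
theorem P₀_comm (E : Ex p G Q P₀) (hTI : TI p Q) {t b y : G} (htQ : t ∈ Q) (ht1 : t ≠ 1)
    (hb : b * t = t * b) (hbp : PElt p b) (hy : y ∈ P₀) : y * b = b * y := by
  have ht : IsInv t := ⟨ht1, E.helem t htQ⟩
  obtain ⟨B, hBC, hB, hCB, hBx⟩ := E.cent_case1 ht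
  have hstep : ∀ y ∈ P₀, ∀ a ∈ B, y * a * y⁻¹ ∈ B := by
    intro y hy a ha
    have hat := mem_cent.1 (hBC ha)
    apply hBx _ _ ((pelt_of_mem hB ha).conj y)
    rw [mem_cent]
    have ht' : y * t * y⁻¹ ∈ Q := Ex.conj_mem' (E.hP₀N hy) htQ
    have ht'1 : y * t * y⁻¹ ≠ 1 := (ht.conj y).1
    have h1 := hTI _ ht' ht'1 (y * a * y⁻¹) (by
      have e : y * a * y⁻¹ * (y * t * y⁻¹) = y * (a * t) * y⁻¹ := by group
      rw [e, hat]
      group) ((pelt_of_mem hB ha).conj y) t htQ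
    exact h1.symm
  have hyN : zpowers y ≤ normalizer (B : Set G) := by
    rw [zpowers_le, mem_normalizer_iff]
    intro a
    constructor
    · exact hstep y hy a
    · intro h
      have := hstep y⁻¹ (inv_mem hy) _ h
      simpa [mul_assoc] using this
  have hA := (isPGroup_zpowers (pelt_of_mem E.hP₀ hy)).to_sup_of_normal_right' hB hyN
  exact E.hpab _ hA y ((le_sup_left : zpowers y ≤ _) (mem_zpowers y)) b
    ((le_sup_right : B ≤ _) (hBx b (mem_cent.2 hb) hbp))

/-- (T4) -/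
theorem normalizer_le (E : Ex p G Q P₀) (hTI : TI p Q) {t u : G} (htQ : t ∈ Q) (ht1 : t ≠ 1)
    (hu : u ≠ 1) (hup : PElt p u) (hut : u * t = t * u) :
    normalizer ((zpowers u : Subgroup G) : Set G) ≤ normalizer (Q : Set G) ∧
      ∀ x ∈ normalizer ((zpowers u : Subgroup G) : Set G), PElt 2 x → x ∈ Q := by
  have ht : IsInv t := ⟨ht1, E.helem t htQ⟩
  have hQL : Q ≤ normalizer ((zpowers u : Subgroup G) : Set G) := by
    intro x hx
    apply mem_normalizer_zpowers_of_comm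
    exact conj_eq_iff_comm.2 (hTI t htQ ht1 u hut hup x hx)
  rcases E.dichL _ (E.normalizer_zpowers_ne_top hu hup) (two_dvd_card_of_mem ht (hQL htQ)) with
    ⟨B, hBL, hB, hLB, hBx⟩ | ⟨K, P, hK, hP, hKN, hcK, hK2, hP2, hKx, hK1, htr⟩
  · exfalso
    obtain ⟨y, hy, hyt⟩ := E.exists_moved htQ ht1
    have hyB : y ∈ B := by
      apply hBx _ _ (pelt_of_mem E.hP₀ hy)
      apply mem_normalizer_zpowers_of_comm
      exact conj_eq_iff_comm.2 (E.P₀_comm hTI htQ ht1 hut hup hy)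
    have h1 : y * t * y⁻¹ * t⁻¹ ∈ Q := mul_mem (Ex.conj_mem' (E.hP₀N hy) htQ) (inv_mem htQ)
    have h2 : y * t * y⁻¹ * t⁻¹ ∈ B := by
      have e : y * t * y⁻¹ * t⁻¹ = y * (t * y⁻¹ * t⁻¹) := by group
      rw [e]
      exact mul_mem hyB (Ex.conj_mem' (hLB (hQL htQ)) (inv_mem hyB))
    have h3 := eq_one_of_pelt_pelt E.hp Nat.prime_two E.hp2 (pelt_of_mem hB h2) (pelt_of_mem E.hQ2 h1)
    exact hyt (mul_inv_eq_one.1 h3)
  · have hQK : Q ≤ K := fun x hx => hKx x (hQL hx) (pelt_of_mem E.hQ2 hx)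
    have hKQ : Q = K := Subgroup.eq_of_le_of_card_ge hQK (by rw [hcK, E.hcardQ])
    subst hKQ
    exact ⟨hKN, hKx⟩

/-- (T5) -/
theorem eq_one_of_fixed_Q (E : Ex p G Q P₀) (hTI : TI p Q) {P : Sylow p G} {t u : G} (htQ : t ∈ Q)
    (ht1 : t ≠ 1) (htP : t ∈ normalizer ((P : Subgroup G) : Set G)) (huP : u ∈ P)
    (hut : u * t = t * u) : u = 1 := by
  by_contra hu
  have hup := pelt_of_mem P.2 huP
  obtain ⟨h1, -⟩ := E.normalizer_le hTI htQ ht1 hu hup hut
  have hPN : (P : Subgroup G) ≤ normalizer (Q : Set G) := by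
    intro b hb
    apply h1
    apply mem_normalizer_zpowers_of_comm
    exact conj_eq_iff_comm.2 (E.comm_of_mem_sylow P hb huP)
  have hPt : ∀ b ∈ P, b * t = t * b := by
    intro b hb
    have h2 : b * t * b⁻¹ * t⁻¹ ∈ Q := mul_mem (Ex.conj_mem' (hPN hb) htQ) (inv_mem htQ)
    have h3 : b * t * b⁻¹ * t⁻¹ ∈ (P : Subgroup G) := by
      have e : b * t * b⁻¹ * t⁻¹ = b * (t * b⁻¹ * t⁻¹) := by group
      rw [e]
      exact mul_mem hb (Ex.conj_mem' htP (inv_mem hb))
    have h4 := eq_one_of_pelt_pelt E.hp Nat.prime_two E.hp2 (pelt_of_mem P.2 h3)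
      (pelt_of_mem E.hQ2 h2)
    have h5 : b * t * b⁻¹ = t := mul_inv_eq_one.1 h4
    exact conj_eq_iff_comm.1 h5
  obtain ⟨y, hy, hyt⟩ := E.exists_moved htQ ht1
  have hyP : y ∈ P := by
    apply mem_sylow_of_mem_normalizer P (pelt_of_mem E.hP₀ hy)
    rw [mem_normalizer_iff]
    have hc : ∀ b ∈ P, y * b * y⁻¹ = b := fun b hb =>
      conj_eq_iff_comm.2 (E.P₀_comm hTI htQ ht1 (hPt b hb) (pelt_of_mem P.2 hb) hy)
    intro x
    constructor
    · intro hx
      have hx' : x ∈ P := hx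
      rw [hc x hx']
      exact hx
    · intro hx
      have hx' : y * x * y⁻¹ ∈ P := hx
      have h6 := hc _ hx'
      have h7 : y * x * y⁻¹ = x := mul_left_cancel (a := y) (mul_right_cancel (b := y⁻¹) h6)
      rw [h7] at hx
      exact hx
  exact hyt (conj_eq_iff_comm.2 (hPt y hyP))

/-- (T5') -/
theorem eq_one_of_fixed (E : Ex p G Q P₀) (hTI : TI p Q) {P : Sylow p G} {t u : G} (ht : IsInv t)
    (htP : t ∈ normalizer ((P : Subgroup G) : Set G)) (huP : u ∈ P)
    (hut : u * t = t * u) : u = 1 := by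
  obtain ⟨g, hg⟩ := E.exists_conj_mem_Q ht.pelt
  have h1 : g * t * g⁻¹ ∈ normalizer (((g • P : Sylow p G) : Subgroup G) : Set G) := by
    rw [mem_normalizer_smul]
    have e : g⁻¹ * (g * t * g⁻¹) * g = t := by group
    rw [e]
    exact htP
  have h2 : g * u * g⁻¹ ∈ g • P := mem_smul_sylow'.2 huP
  have h3 := E.eq_one_of_fixed_Q hTI hg (ht.conj g).1 h1 h2 (by
    have e : g * u * g⁻¹ * (g * t * g⁻¹) = g * (u * t) * g⁻¹ := by group
    rw [e, hut]
    group)
  have h4 : g * u = g := by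
    calc g * u = g * u * g⁻¹ * g := by group
      _ = g := by rw [h3, one_mul]
  simpa using h4

/-- Every Sylow `p`-subgroup is normalized by an involution. -/
theorem exists_inv_normalizing (E : Ex p G Q P₀) (P : Sylow p G) :
    ∃ s : G, IsInv s ∧ s ∈ normalizer ((P : Subgroup G) : Set G) := by
  haveI := E.factP
  obtain ⟨t₀, ht₀Q, ht₀1, -⟩ := exists_other Q E.three_le_cardQ 1
  have ht₀ : IsInv t₀ := ⟨ht₀1, E.helem t₀ ht₀Q⟩
  obtain ⟨t₁, ht₁, hne⟩ := E.exists_not_comm ht₀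
  obtain ⟨w, hw1, hwp, hw₀, -, -⟩ := E.dihedral ht₀ ht₁ hne
  obtain ⟨Pw, -, -, hN⟩ := E.unique_sylow ht₀ hw1 hwp hw₀
  obtain ⟨g, hg⟩ := MulAction.exists_smul_eq G Pw P
  refine ⟨g * t₀ * g⁻¹, ht₀.conj g, ?_⟩
  rw [← hg, mem_normalizer_smul]
  have e : g⁻¹ * (g * t₀ * g⁻¹) * g = t₀ := by group
  rw [e]
  exact hN (mem_normalizer_zpowers_of_inv hw₀)

/-- Involutions normalizing a Sylow subgroup invert it. -/
theorem inverts (E : Ex p G Q P₀) (hTI : TI p Q) {P : Sylow p G} {s b : G} (hs : IsInv s)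
    (hsP : s ∈ normalizer ((P : Subgroup G) : Set G)) (hb : b ∈ P) : s * b * s⁻¹ = b⁻¹ := by
  have h1 : s * b * s⁻¹ ∈ P := Ex.conj_mem' hsP hb
  have hss : s * s = 1 := by rw [← sq, hs.2]
  have h2 : b * (s * b * s⁻¹) = 1 := by
    apply E.eq_one_of_fixed hTI hs hsP (mul_mem hb h1)
    apply Eq.symm
    apply conj_eq_iff_comm.1
    have e : s * (b * (s * b * s⁻¹)) * s⁻¹ = (s * b * s⁻¹) * ((s * s) * b * (s * s)⁻¹) := by group
    rw [e, hss]
    simp only [one_mul, inv_one, mul_one]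
    exact E.comm_of_mem_sylow P h1 hb
  exact (eq_inv_of_mul_eq_one_right h2)

/-- (T7) -/
theorem eq_one_of_comm_Q (E : Ex p G Q P₀) (hTI : TI p Q) {t b : G} (htQ : t ∈ Q) (ht1 : t ≠ 1)
    (hb : b * t = t * b) (hbp : PElt p b) : b = 1 := by
  by_contra hb1
  obtain ⟨P, hP⟩ := exists_sylow_of_pelt hbp
  obtain ⟨s, hs, hsP⟩ := E.exists_inv_normalizing P
  have h1 := E.inverts hTI hs hsP hP
  have h2 := (E.normalizer_le hTI htQ ht1 hb1 hbp hb).2 s (mem_normalizer_zpowers_of_inv h1) hs.pelt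
  have h3 := hTI t htQ ht1 b hb hbp s h2
  have h4 : s * b * s⁻¹ = b := conj_eq_iff_comm.2 h3
  rw [h4] at h1
  apply E.sq_ne_one_of_pelt hb1 hbp
  rw [sq]
  nth_rw 1 [h1]
  simp

/-- (T8) -/
theorem cent_eq (E : Ex p G Q P₀) (hTI : TI p Q) {t : G} (htQ : t ∈ Q) (ht1 : t ≠ 1) :
    centralizer ({t} : Set G) = Q := by
  have ht : IsInv t := ⟨ht1, E.helem t htQ⟩
  obtain ⟨B, hBC, hB, hCB, hBx⟩ := E.cent_case1 ht
  have hQC : Q ≤ centralizer ({t} : Set G) := fun x hx => mem_cent.2 (E.Q_comm hx htQ)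
  have h1 := E.sup_eq_of_case1 _ B Q (E.cent_ne_top ht) hBC hB hBx hQC E.hQ2 E.hcardQ
  have hB1 : B = ⊥ := by
    rw [eq_bot_iff]
    intro x hx
    exact Subgroup.mem_bot.2 (E.eq_one_of_comm_Q hTI htQ ht1 (mem_cent.1 (hBC hx)) (pelt_of_mem hB hx))
  rw [hB1, sup_bot_eq] at h1
  exact h1.symm

/-- (T9) -/
theorem mul_mem_sylow (E : Ex p G Q P₀) (hTI : TI p Q) {P : Sylow p G} {s t : G} (hs : IsInv s)
    (ht : IsInv t) (hsP : s ∈ normalizer ((P : Subgroup G) : Set G))
    (htP : t ∈ normalizer ((P : Subgroup G) : Set G)) : s * t ∈ P := by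
  haveI := E.factP
  have hPne : (P : Subgroup G) ≠ ⊥ := P.ne_bot_of_dvd_card E.hpG
  obtain ⟨⟨c, hcP⟩, hc1'⟩ := Subgroup.ne_bot_iff_exists_ne_one.1 hPne
  have hc1 : c ≠ 1 := fun h => hc1' (Subtype.ext h)
  set x := s * t with hx
  have hxN : x ∈ normalizer ((P : Subgroup G) : Set G) := mul_mem hsP htP
  have hNtop : normalizer ((P : Subgroup G) : Set G) ≠ ⊤ := by
    intro h2
    have hn : (P : Subgroup G).Normal := normalizer_eq_top_iff.1 h2
    exact hPne (E.hOp _ P.2 hn)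
  have h2N : 2 ∣ Nat.card (normalizer ((P : Subgroup G) : Set G)) := two_dvd_card_of_mem hs hsP
  have hxc : ∀ b ∈ P, x * b * x⁻¹ = b := by
    intro b hb
    have e : x * b * x⁻¹ = s * (t * b * t⁻¹) * s⁻¹ := by rw [hx]; group
    rw [e, E.inverts hTI ht htP hb]
    have e2 : s * b⁻¹ * s⁻¹ = (s * b * s⁻¹)⁻¹ := by group
    rw [e2, E.inverts hTI hs hsP hb, inv_inv]
  have hodd : ¬ 2 ∣ orderOf x := by
    intro h2
    have hoz : orderOf (x ^ (orderOf x / 2)) = 2 :=
      orderOf_pow_orderOf_div (orderOf_pos x).ne' h2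
    have hzi : IsInv (x ^ (orderOf x / 2)) := isInv_of_orderOf hoz
    have hzN := pow_mem hxN (orderOf x / 2)
    apply hc1
    apply E.eq_one_of_fixed hTI hzi hzN hcP
    have hcm : Commute x c := conj_eq_iff_comm.1 (hxc c hcP)
    exact ((hcm.pow_left (orderOf x / 2)).symm).eq
  have hpe : PElt p x := by
    rw [pelt_iff_orderOf E.hp]
    refine ⟨(orderOf x).primeFactorsList.length, ?_⟩
    apply Nat.eq_prime_pow_of_unique_prime_dvd (orderOf_pos x).ne'
    intro d hd hdvd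
    have h3 : orderOf (⟨x, hxN⟩ : normalizer ((P : Subgroup G) : Set G)) = orderOf x := by
      simpa using Subgroup.orderOf_coe (⟨x, hxN⟩ : normalizer ((P : Subgroup G) : Set G))
    have h4 : d ∣ Nat.card (normalizer ((P : Subgroup G) : Set G)) :=
      hdvd.trans (h3 ▸ orderOf_dvd_natCard _)
    rcases E.hπ _ hNtop h2N d hd h4 with h5 | h5
    · exact h5
    · subst h5
      exact absurd hdvd hodd
  exact mem_sylow_of_mem_normalizer P hpe hxN

/-- (T11) -/
theorem exists_Q_conj (E : Ex p G Q P₀) (hTI : TI p Q) {s : G} (hsQ : s ∈ Q) (hs1 : s ≠ 1)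
    {P₁ P₂ : Sylow p G} (h₁ : s ∈ normalizer ((P₁ : Subgroup G) : Set G))
    (h₂ : s ∈ normalizer ((P₂ : Subgroup G) : Set G)) : ∃ x ∈ Q, x • P₁ = P₂ := by
  haveI := E.factP
  have hs : IsInv s := ⟨hs1, E.helem s hsQ⟩
  obtain ⟨g, hg⟩ := MulAction.exists_smul_eq G P₁ P₂
  have hs' : IsInv (g⁻¹ * s * g) := by
    have := hs.conj g⁻¹
    simpa using this
  have hs'N : g⁻¹ * s * g ∈ normalizer ((P₁ : Subgroup G) : Set G) := by
    rw [← hg, mem_normalizer_smul] at h₂
    exact h₂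
  have hb := E.mul_mem_sylow hTI hs hs' h₁ hs'N
  obtain ⟨b, hbdef⟩ : ∃ b, b = s * (g⁻¹ * s * g) := ⟨_, rfl⟩
  rw [← hbdef] at hb
  have hn : Odd (Nat.card (P₁ : Subgroup G)) := by
    obtain ⟨k, hk⟩ := IsPGroup.iff_card.1 P₁.2
    rw [hk]
    exact E.odd.pow
  obtain ⟨m, hm⟩ := hn
  have hbn : b ^ (2 * m + 1) = 1 := by
    have h1 := pow_card_eq_one' (x := (⟨b, hb⟩ : (P₁ : Subgroup G)))
    rw [hm] at h1
    simpa using congrArg Subtype.val h1
  -- the square root
  obtain ⟨c, hcdef⟩ : ∃ c, c = (b⁻¹) ^ (m + 1) := ⟨_, rfl⟩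
  have hcP : c ∈ P₁ := by
    rw [hcdef]
    exact pow_mem (inv_mem hb) _
  have hc2 : c * c = b⁻¹ := by
    rw [hcdef, ← pow_add]
    have e : m + 1 + (m + 1) = (2 * m + 1) + 1 := by ring
    rw [e, pow_succ, inv_pow, hbn]
    simp
  have hinv := E.inverts hTI hs h₁ (inv_mem hcP)
  have e1 : c * s * c⁻¹ = g⁻¹ * s * g := by
    have e2 : c * s * c⁻¹ = c * (s * c⁻¹ * s⁻¹) * s := by group
    rw [e2, hinv, inv_inv, hc2, hbdef, mul_inv_rev, mul_assoc, hs.inv_eq]
    have e3 : (g⁻¹ * s * g)⁻¹ = g⁻¹ * s⁻¹ * g := by group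
    rw [e3, hs.inv_eq]
    have hss : s * s = 1 := by rw [← sq, hs.2]
    have e4 : g⁻¹ * s * g * (s * s) = g⁻¹ * s * g := by rw [hss, mul_one]
    exact e4
  have e5 : (g * c) * s * (g * c)⁻¹ = s := by
    have e6 : (g * c) * s * (g * c)⁻¹ = g * (c * s * c⁻¹) * g⁻¹ := by group
    rw [e6, e1]
    group
  have hgc : g * c ∈ centralizer ({s} : Set G) := mem_cent.2 (conj_eq_iff_comm.1 e5)
  rw [E.cent_eq hTI hsQ hs1] at hgc
  refine ⟨g * c, hgc, ?_⟩
  have hcN : c • P₁ = P₁ := mem_normalizer_sylow_iff.1 (le_normalizer hcP)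
  rw [mul_smul, hcN, hg]

/-- The TI case is impossible. -/
theorem false_of_TI (E : Ex p G Q P₀) (hTI : TI p Q) : False := by
  classical
  haveI := E.factP
  haveI : Fintype G := Fintype.ofFinite G
  obtain ⟨s, hsQ, hs1, -⟩ := exists_other Q E.three_le_cardQ 1
  have hs : IsInv s := ⟨hs1, E.helem s hsQ⟩
  obtain ⟨P', -⟩ : ∃ P' : Sylow p G, True := ⟨Classical.arbitrary _, trivial⟩
  obtain ⟨s', hs', hs'N⟩ := E.exists_inv_normalizing P'
  obtain ⟨g', hg'⟩ := E.exists_conj_inv hs' hs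
  obtain ⟨P₁, hP₁⟩ : ∃ P₁ : Sylow p G, P₁ = g' • P' := ⟨_, rfl⟩
  have hsN : s ∈ normalizer ((P₁ : Subgroup G) : Set G) := by
    rw [hP₁, mem_normalizer_smul, ← hg']
    have e : g'⁻¹ * (g' * s' * g'⁻¹) * g' = s' := by group
    rw [e]
    exact hs'N
  have hPne : (P₁ : Subgroup G) ≠ ⊥ := P₁.ne_bot_of_dvd_card E.hpG
  let Φ : G × G → G := fun d => d.1 * (s * d.2) * d.1⁻¹
  let QF : Finset G := Finset.univ.filter (· ∈ Q)
  let PF : Finset G := (Finset.univ.filter (· ∈ (P₁ : Subgroup G))).erase 1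
  let D : Finset (G × G) := QF ×ˢ PF
  let J : Finset G := Finset.univ.filter (fun t => IsInv t ∧ t ∉ Q)
  have hQF : QF.card = p + 1 := by
    rw [← E.hcardQ]
    exact (Nat.subtype_card QF (fun x => by simp [QF])).symm
  have hPF : PF.card = Nat.card (P₁ : Subgroup G) - 1 := by
    rw [Finset.card_erase_of_mem (by simp)]
    congr 1
    exact (Nat.subtype_card _ (fun x => by simp)).symm
  have hss : s * s = 1 := by rw [← sq, hs.2]
  -- the map lands in `J`
  have hinv : ∀ b ∈ P₁, b ≠ 1 → IsInv (s * b) := by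
    intro b hb hb1
    refine ⟨?_, ?_⟩
    · intro h
      have h1 : s = b⁻¹ := eq_inv_of_mul_eq_one_left h
      apply hs1
      apply eq_one_of_pelt_pelt Nat.prime_two E.hp (Ne.symm E.hp2) hs.pelt
      rw [h1]
      exact (pelt_of_mem P₁.2 hb).inv
    · have h1 := E.inverts hTI hs hsN hb
      have e : (s * b) ^ 2 = (s * b * s⁻¹) * (s * s) * b := by
        rw [sq]; group
      rw [e, h1, hss]
      simp
  have hmaps : ∀ d ∈ D, Φ d ∈ J := by
    rintro ⟨x, b⟩ hd
    have hd' := Finset.mem_product.1 hd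
    have hx : x ∈ Q := by simpa [QF] using hd'.1
    have hb : b ∈ (P₁ : Subgroup G) ∧ b ≠ 1 := by
      have := hd'.2
      simp only [PF, Finset.mem_erase, Finset.mem_filter, Finset.mem_univ, true_and] at this
      exact ⟨this.2, this.1⟩
    simp only [J, Finset.mem_filter, Finset.mem_univ, true_and, Φ]
    refine ⟨(hinv b hb.1 hb.2).conj x, ?_⟩
    intro h
    apply hb.2
    have h1 : s * b ∈ Q := by
      have := mul_mem (mul_mem (inv_mem hx) h) hx
      simpa [mul_assoc] using this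
    have h2 : b ∈ Q := by
      have := mul_mem (inv_mem hsQ) h1
      simpa using this
    exact eq_one_of_pelt_pelt E.hp Nat.prime_two E.hp2 (pelt_of_mem P₁.2 hb.1)
      (pelt_of_mem E.hQ2 h2)
  -- fibres
  have hfib : ∀ j ∈ J, (D.filter (fun d => Φ d = j)).card = 2 := by
    intro t ht
    have ht' : IsInv t ∧ t ∉ Q := by simpa [J] using ht
    have hst : s * t ≠ t * s := by
      intro h
      exact ht'.2 (E.mem_Q_of_comm hTI hsQ hs1 ht'.1.pelt h.symm)
    obtain ⟨w, hw1, hwp, hsw, htw, -⟩ := E.dihedral hs ht'.1 hst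
    obtain ⟨Pw, -, -, hN⟩ := E.unique_sylow hs hw1 hwp hsw
    have hsPw := hN (mem_normalizer_zpowers_of_inv hsw)
    have htPw := hN (mem_normalizer_zpowers_of_inv htw)
    have hcPw := E.mul_mem_sylow hTI hs ht'.1 hsPw htPw
    obtain ⟨x, hx, hxP⟩ := E.exists_Q_conj hTI hsQ hs1 hsN hsPw
    obtain ⟨c, hcdef⟩ : ∃ c, c = s * t := ⟨_, rfl⟩
    rw [← hcdef] at hcPw
    have hc1 : c ≠ 1 := by
      rw [hcdef]
      intro h
      have h1 : s = t⁻¹ := eq_inv_of_mul_eq_one_left h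
      rw [ht'.1.inv_eq] at h1
      exact ht'.2 (h1 ▸ hsQ)
    have hcp : PElt p c := pelt_of_mem Pw.2 hcPw
    have hsc : s * c * s⁻¹ = c⁻¹ := by
      rw [hcdef, hs.inv_eq, mul_inv_rev, hs.inv_eq, ht'.1.inv_eq, ← mul_assoc, hss, one_mul]
    obtain ⟨Pc, -, huc, -⟩ := E.unique_sylow hs hc1 hcp hsc
    obtain ⟨b, hbdef⟩ : ∃ b, b = x⁻¹ * c * x := ⟨_, rfl⟩
    have hbP : b ∈ P₁ := by
      rw [hbdef]
      rw [← hxP] at hcPw
      exact mem_smul_sylow.1 hcPw
    have hb1 : b ≠ 1 := by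
      rw [hbdef]
      intro h
      apply hc1
      have h2 : c * x = x := by
        calc c * x = x * (x⁻¹ * c * x) := by group
          _ = x := by rw [h, mul_one]
      simpa using h2
    have hcb : x * b * x⁻¹ = c := by rw [hbdef]; group
    have hsx : x * s = s * x := E.Q_comm hx hsQ
    have hsxc : x * s * x⁻¹ = s := conj_eq_iff_comm.2 hsx
    have hΦ : ∀ x' ∈ Q, ∀ b' : G, Φ (x', b') = s * (x' * b' * x'⁻¹) := by
      intro x' hx' b'
      have hsx' : x' * s * x'⁻¹ = s := conj_eq_iff_comm.2 (E.Q_comm hx' hsQ)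
      show x' * (s * b') * x'⁻¹ = s * (x' * b' * x'⁻¹)
      have e : x' * (s * b') * x'⁻¹ = (x' * s * x'⁻¹) * (x' * b' * x'⁻¹) := by group
      rw [e, hsx']
    have hd₁ : ((x, b) : G × G) ∈ D := by
      simp only [D, QF, PF, Finset.mem_product, Finset.mem_filter, Finset.mem_univ, true_and,
        Finset.mem_erase]
      exact ⟨hx, hb1, hbP⟩
    have hd₂ : ((x * s, b⁻¹) : G × G) ∈ D := by
      simp only [D, QF, PF, Finset.mem_product, Finset.mem_filter, Finset.mem_univ, true_and,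
        Finset.mem_erase]
      exact ⟨mul_mem hx hsQ, by simpa using hb1, inv_mem hbP⟩
    have hΦ₁ : Φ (x, b) = t := by
      rw [hΦ x hx, hcb, hcdef, ← mul_assoc, hss, one_mul]
    have hsb : s * b * s⁻¹ = b⁻¹ := E.inverts hTI hs hsN hbP
    have hconj₂ : (x * s) * b⁻¹ * (x * s)⁻¹ = c := by
      have e : (x * s) * b⁻¹ * (x * s)⁻¹ = x * (s * b⁻¹ * s⁻¹) * x⁻¹ := by group
      rw [e]
      have e2 : s * b⁻¹ * s⁻¹ = (s * b * s⁻¹)⁻¹ := by group
      rw [e2, hsb, inv_inv, hcb]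
    have hΦ₂ : Φ (x * s, b⁻¹) = t := by
      rw [hΦ _ (mul_mem hx hsQ), hconj₂, hcdef, ← mul_assoc, hss, one_mul]
    have hne₁₂ : ((x, b) : G × G) ≠ (x * s, b⁻¹) := by
      intro h
      have h1 : x = x * s := congrArg Prod.fst h
      exact hs1 (by simpa using h1.symm)
    have heq : D.filter (fun d => Φ d = t) = {(x, b), (x * s, b⁻¹)} := by
      ext ⟨x', b'⟩
      simp only [Finset.mem_filter, Finset.mem_insert, Finset.mem_singleton]
      constructor
      · rintro ⟨hd', hΦ'⟩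
        have hd'' := Finset.mem_product.1 hd'
        have hx' : x' ∈ Q := by simpa [QF] using hd''.1
        have hb' : b' ∈ (P₁ : Subgroup G) ∧ b' ≠ 1 := by
          have := hd''.2
          simp only [PF, Finset.mem_erase, Finset.mem_filter, Finset.mem_univ, true_and] at this
          exact ⟨this.2, this.1⟩
        rw [hΦ x' hx'] at hΦ'
        have hc' : x' * b' * x'⁻¹ = c := by
          rw [hcdef, ← hΦ', ← mul_assoc, hss, one_mul]
        have h1 : c ∈ x' • P₁ := by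
          rw [← hc']
          exact mem_smul_sylow'.2 hb'.1
        have h2 : c ∈ x • P₁ := by
          rw [← hcb]
          exact mem_smul_sylow'.2 hbP
        have h3 : x' • P₁ = x • P₁ := (huc _ h1).trans (huc _ h2).symm
        have hdN : x⁻¹ * x' ∈ normalizer ((P₁ : Subgroup G) : Set G) := by
          apply mem_normalizer_sylow_iff.2
          rw [mul_smul, h3, inv_smul_smul]
        have hdQ : x⁻¹ * x' ∈ Q := mul_mem (inv_mem hx) hx'
        by_cases hd1 : x⁻¹ * x' = 1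
        · left
          have hxx : x' = x := by
            have := mul_eq_one_iff_eq_inv.1 hd1
            simpa using this.symm
          subst hxx
          have hbb : b' = b := by
            rw [hbdef, ← hc']
            group
          rw [hbb]
        · right
          have hdi : IsInv (x⁻¹ * x') := ⟨hd1, E.helem _ hdQ⟩
          have h4 := E.mul_mem_sylow hTI hdi hs hdN hsN
          have h5 : (x⁻¹ * x') * s = 1 :=
            eq_one_of_pelt_pelt E.hp Nat.prime_two E.hp2 (pelt_of_mem P₁.2 h4)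
              (pelt_of_mem E.hQ2 (mul_mem hdQ hsQ))
          have hxx : x' = x * s := by
            have h6 : x⁻¹ * x' = s⁻¹ := eq_inv_of_mul_eq_one_left h5
            rw [hs.inv_eq] at h6
            calc x' = x * (x⁻¹ * x') := by group
              _ = x * s := by rw [h6]
          subst hxx
          have hbb : b' = b⁻¹ := by
            have h7 : (x * s) * b' * (x * s)⁻¹ = (x * s) * b⁻¹ * (x * s)⁻¹ := by
              rw [hc', hconj₂]
            exact mul_left_cancel (mul_right_cancel h7)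
          rw [hbb]
      · rintro (h | h)
        · rw [Prod.mk.injEq] at h
          rw [h.1, h.2]
          exact ⟨hd₁, hΦ₁⟩
        · rw [Prod.mk.injEq] at h
          rw [h.1, h.2]
          exact ⟨hd₂, hΦ₂⟩
    rw [heq]
    exact Finset.card_pair hne₁₂
  have hDcard : D.card = 2 * J.card := by
    rw [Finset.card_eq_sum_card_fiberwise hmaps, Finset.sum_congr rfl hfib, Finset.sum_const]
    simp [mul_comm]
  have hDcard' : D.card = (p + 1) * (Nat.card (P₁ : Subgroup G) - 1) := by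
    rw [Finset.card_product, hQF, hPF]
  -- `p` divides the number of involutions
  have hI : ∀ y ∈ (P₁ : Subgroup G), ∀ x ∈ {t : G | IsInv t}, y * x * y⁻¹ ∈ {t : G | IsInv t} :=
    fun y _ x hx => IsInv.conj hx y
  letI := conjSetAct (P₁ : Subgroup G) {t : G | IsInv t} hI
  have hmod := P₁.2.card_modEq_card_fixedPoints {t : G | IsInv t}
  have hnofix : IsEmpty (MulAction.fixedPoints (P₁ : Subgroup G) {t : G | IsInv t}) := by
    constructor
    rintro ⟨⟨t, ht⟩, hfix⟩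
    apply hPne
    rw [eq_bot_iff]
    intro b hb
    have h1 : ((⟨b, hb⟩ : (P₁ : Subgroup G)) • (⟨t, ht⟩ : {t : G | IsInv t})) = ⟨t, ht⟩ :=
      hfix ⟨b, hb⟩
    have h2 : b * t * b⁻¹ = t := congrArg Subtype.val h1
    obtain ⟨g, hg⟩ := E.exists_conj_mem_Q (IsInv.pelt ht)
    have h3 := E.eq_one_of_comm_Q hTI hg (IsInv.conj ht g).1 (b := g * b * g⁻¹) (by
      have e : g * b * g⁻¹ * (g * t * g⁻¹) = g * (b * t) * g⁻¹ := by group
      have e2 : g * t * g⁻¹ * (g * b * g⁻¹) = g * (t * b) * g⁻¹ := by group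
      rw [e, e2, conj_eq_iff_comm.1 h2]) ((pelt_of_mem P₁.2 hb).conj g)
    have h4 : g * b = g := by
      calc g * b = g * b * g⁻¹ * g := by group
        _ = g := by rw [h3, one_mul]
    exact Subgroup.mem_bot.2 (by simpa using h4)
  have h0 : Nat.card (MulAction.fixedPoints (P₁ : Subgroup G) {t : G | IsInv t}) = 0 :=
    Nat.card_of_isEmpty
  rw [h0] at hmod
  have hdvdI : p ∣ Nat.card {t : G | IsInv t} := (Nat.modEq_zero_iff_dvd).1 hmod
  have hIcard : Nat.card {t : G | IsInv t} = J.card + p := by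
    have h1 : Nat.card {t : G | IsInv t} =
        (Finset.univ.filter (fun t : G => IsInv t)).card :=
      Nat.subtype_card _ (fun x => by simp)
    have h2 : (Finset.univ.filter (fun t : G => IsInv t)) = J ∪ QF.erase 1 := by
      ext t
      simp only [J, QF, Finset.mem_filter, Finset.mem_univ, true_and, Finset.mem_union,
        Finset.mem_erase]
      constructor
      · intro h
        by_cases htQ : t ∈ Q
        · exact Or.inr ⟨h.1, htQ⟩
        · exact Or.inl ⟨h, htQ⟩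
      · rintro (h | h)
        · exact h.1
        · exact ⟨h.1, E.helem t h.2⟩
    have h3 : Disjoint J (QF.erase 1) := by
      rw [Finset.disjoint_left]
      intro t ht1 ht2
      have ht1' : IsInv t ∧ t ∉ Q := by simpa [J] using ht1
      have ht2' : t ≠ 1 ∧ t ∈ Q := by simpa [QF] using ht2
      exact ht1'.2 ht2'.2
    rw [h1, h2, Finset.card_union_of_disjoint h3, Finset.card_erase_of_mem (by simp [QF]), hQF]
    simp
  rw [hIcard] at hdvdI
  have hJ : p ∣ J.card := (Nat.dvd_add_left (dvd_refl p)).1 hdvdI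
  have h5 : p ∣ (p + 1) * (Nat.card (P₁ : Subgroup G) - 1) := by
    rw [← hDcard', hDcard]
    exact hJ.mul_left 2
  rcases (Nat.Prime.dvd_mul E.hp).1 h5 with h6 | h6
  · have h7 : p ∣ 1 := (Nat.dvd_add_right (dvd_refl p)).1 h6
    exact E.hp.one_lt.ne' (Nat.dvd_one.1 h7)
  · obtain ⟨k, hk⟩ := IsPGroup.iff_card.1 P₁.2
    have hk0 : k ≠ 0 := by
      rintro rfl
      rw [pow_zero] at hk
      exact hPne ((Subgroup.card_eq_one).1 hk)
    have h8 : p ∣ Nat.card (P₁ : Subgroup G) := by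
      rw [hk]
      exact dvd_pow_self p hk0
    have h9 : 1 ≤ Nat.card (P₁ : Subgroup G) := Nat.card_pos
    have h10 : p ∣ 1 := by
      have := (Nat.dvd_sub h8 h6)
      rwa [Nat.sub_sub_self h9] at this
    exact E.hp.one_lt.ne' (Nat.dvd_one.1 h10)


/-- **The exceptional configuration does not exist.** -/
theorem false_of_ex (E : Ex p G Q P₀) : False := by
  by_cases hTI : TI p Q
  · exact E.false_of_TI hTI
  · unfold TI at hTI
    push Not at hTI
    obtain ⟨t, htQ, ht1, b, hbt, hbp, x, hx, hxb⟩ := hTI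
    have hxb' : x * b * x⁻¹ ≠ b := fun h => hxb (conj_eq_iff_comm.1 h)
    obtain ⟨w, hw1, hwp, hwt, hsign, hex⟩ := E.exists_signed htQ ht1 hbt hbp ⟨x, hx, hxb'⟩
    have hS : Signed p Q t w := ⟨hw1, hwp, hwt, hsign, hex⟩
    by_cases hp3 : p = 3
    · exact E.false_of_signed_three hp3 htQ ht1 hS
    · have h3 := E.three_le
      exact E.false_of_signed_of_gt (by omega) htQ ht1 hS

end Ex

end Cfsg.Agent.Lib.MixEx
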