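import Mathlib
import Cfsg.Agent.Lib.LinTwist
import Cfsg.Agent.Lib.Gagola2

/-!
# Monomial characters with Frobenius-Schur indicator one
-/

set_option autoImplicit false
set_option linter.unusedSectionVars false
set_option linter.unusedVariables false
set_option linter.style.haveILetI false

namespace Cfsg.Agent.Lib.MonoNu

open Cfsg Cfsg.Agent.Lib.CharBasic Cfsg.Agent.Lib.CharInd Cfsg.Agent.Lib.FSInd
open Cfsg.Agent.Lib.Clifford Cfsg.Agent.Lib.CosetAvg Cfsg.Agent.Lib.Gagola2 Cfsg.Agent.Lib.LinTwist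
open scoped ComplexConjugate

universe u

variable {G : Type u} [Group G] [Fintype G]

/-- The indicator of an induced function. -/
theorem nu_indFun_eq (I : Subgroup G) (ψ : I → ℂ) :
    (Nat.card G : ℂ)⁻¹ * ∑ g : G, indFun I ψ (g * g) =
      (Nat.card I : ℂ)⁻¹ * ∑ g : G, extendByZero I ψ (g * g) := by
  classical
  have hI : (Nat.card I : ℂ) ≠ 0 := natCard_subgroup_ne_zero I
  have hG : (Nat.card G : ℂ) ≠ 0 := natCard_ne_zero'
  simp only [indFun_apply]
  rw [← Finset.mul_sum, Finset.sum_comm]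
  have h1 : ∀ x : G, ∑ g : G, extendByZero I ψ (x⁻¹ * (g * g) * x) =
      ∑ g : G, extendByZero I ψ (g * g) := by
    intro x
    refine Fintype.sum_equiv (MulAut.conj x⁻¹).toEquiv _ _ fun g => ?_
    simp only [MulEquiv.toEquiv_eq_coe, MulAut.conj_apply, EquivLike.coe_coe]
    congr 1
    group
  simp only [h1, Finset.sum_const, Finset.card_univ, nsmul_eq_mul]
  rw [Fintype.card_eq_nat_card]
  field_simp

section Mono

variable (N H : Subgroup G) (hN : N.Normal) (hNab : ∀ a ∈ N, ∀ b ∈ N, a * b = b * a)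
  (hdisj : N ⊓ H = ⊥) (hsup : ∀ g : G, ∃ n ∈ N, ∃ h ∈ H, g = n * h) (lam : N →* ℂˣ)

/-- The stabilizer of a linear character. -/
abbrev stab : Subgroup G := inertia N hN (fun n => ((lam n : ℂˣ) : ℂ))

include hNab in
theorem le_stab : N ≤ stab N hN lam := by
  intro x hx
  rw [mem_inertia]
  intro n n' hn
  have : n' = n := by
    apply Subtype.ext
    rw [hn, hNab x hx n n.2]
    simp
  rw [this]

theorem lam_conj_of_mem {g : G} (hg : g ∈ stab N hN lam) (n : N) :
    lam ⟨g * n * g⁻¹, hN.conj_mem n n.2 g⟩ = lam n :=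
  Units.ext (mem_inertia.mp hg n _ rfl)

theorem mem_stab_of {g : G} (h : ∀ n : N, lam ⟨g * n * g⁻¹, hN.conj_mem n n.2 g⟩ = lam n) :
    g ∈ stab N hN lam := by
  rw [mem_inertia]
  intro n n' hn
  have : n' = ⟨g * n * g⁻¹, hN.conj_mem n n.2 g⟩ := Subtype.ext hn
  rw [this, h n]

include hNab hdisj hsup in
/-- The canonical extension of `lam` to its stabilizer. -/
theorem exists_ext : ∃ f : stab N hN lam →* ℂˣ,
    ∀ (n h : G) (hn : n ∈ N) (hh : h ∈ H) (ht : n * h ∈ stab N hN lam),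
      f ⟨n * h, ht⟩ = lam ⟨n, hn⟩ := by
  classical
  choose nn hnn hh hhh heq using hsup
  have huniq : ∀ {a b c d : G}, a ∈ N → b ∈ H → c ∈ N → d ∈ H → a * b = c * d → a = c ∧ b = d := by
    intro a b c d ha hb hc hd h
    have h1 : c⁻¹ * a = d * b⁻¹ := by
      have : a = c * d * b⁻¹ := by rw [← h]; simp
      rw [this]
      simp [mul_assoc]
    have h2 : c⁻¹ * a ∈ N ⊓ H :=
      ⟨N.mul_mem (N.inv_mem hc) ha, h1 ▸ H.mul_mem hd (H.inv_mem hb)⟩
    rw [hdisj, Subgroup.mem_bot] at h2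
    have h3 : a = c := by
      have := mul_eq_one_iff_eq_inv.mp h2
      simpa using this.symm
    subst h3
    refine ⟨rfl, ?_⟩
    exact (mul_left_cancel h)
  have hnnuniq : ∀ {g a b : G}, a ∈ N → b ∈ H → g = a * b → nn g = a := by
    intro g a b ha hb hg
    exact (huniq (hnn g) (hhh g) ha hb ((heq g).symm.trans hg)).1
  have hnnmul : ∀ a b : G, nn (a * b) = nn a * (hh a * nn b * (hh a)⁻¹) := by
    intro a b
    apply hnnuniq (N.mul_mem (hnn a) (hN.conj_mem _ (hnn b) _)) (H.mul_mem (hhh a) (hhh b))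
    conv_lhs => rw [heq a, heq b]
    group
  have hNT := le_stab N hN hNab lam
  have hhT : ∀ t ∈ stab N hN lam, hh t ∈ stab N hN lam := by
    intro t ht
    have h1 : hh t = (nn t)⁻¹ * t := eq_inv_mul_of_mul_eq (heq t).symm
    rw [h1]
    exact Subgroup.mul_mem _ (Subgroup.inv_mem _ (hNT (hnn t))) ht
  let f : stab N hN lam →* ℂˣ := MonoidHom.mk' (fun t => lam ⟨nn t, hnn t⟩) (by
    intro a b
    have h2 := lam_conj_of_mem N hN lam (hhT a a.2) ⟨nn b, hnn b⟩
    rw [← h2, ← map_mul]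
    congr 1
    apply Subtype.ext
    exact hnnmul a b)
  refine ⟨f, ?_⟩
  intro n h hn hh' ht
  show lam ⟨nn (n * h), _⟩ = _
  congr 1
  apply Subtype.ext
  exact hnnuniq hn hh' rfl

variable [Fintype (stab N hN lam)]

local notation "TT" => (stab N hN lam)

include hNab hdisj hsup in
/-- **Indicator one.** -/
theorem sum_sq_eq (f : stab N hN lam →* ℂˣ)
    (hf : ∀ (n h : G) (hn : n ∈ N) (hh : h ∈ H) (ht : n * h ∈ stab N hN lam),
      f ⟨n * h, ht⟩ = lam ⟨n, hn⟩)
    {s : G} (hsH : s ∈ H) (hss : s * s = 1) (hcomm : ∀ h ∈ H, s * h = h * s)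
    (hsinv : ∀ n ∈ N, s * n * s⁻¹ = n⁻¹) :
    ∑ g : G, extendByZero (stab N hN lam) (fun t => ((f t : ℂˣ) : ℂ)) (g * g) =
      Nat.card (stab N hN lam) := by
  classical
  have hNT : N ≤ TT := le_stab N hN hNab lam
  let F : G → ℂ := fun g => extendByZero TT (fun t => ((f t : ℂˣ) : ℂ)) (g * g)
  haveI : Fintype N := Fintype.ofFinite _
  have hsinv' : s⁻¹ = s := by
    rw [inv_eq_iff_mul_eq_one]
    exact hss
  have hN0 : (Nat.card N : ℂ) ≠ 0 := natCard_subgroup_ne_zero N
  -- on the coset `s TT`, the value is one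
  have hone : ∀ t ∈ TT, F (s * t) = 1 := by
    intro t ht
    obtain ⟨n₁, hn₁, h₁, hh₁, rfl⟩ := hsup t
    have hh₁T : h₁ ∈ TT := by
      have : h₁ = n₁⁻¹ * (n₁ * h₁) := by group
      rw [this]
      exact Subgroup.mul_mem _ (Subgroup.inv_mem _ (hNT hn₁)) ht
    have e1 : s * (n₁ * h₁) * (s * (n₁ * h₁)) = (n₁⁻¹ * (h₁ * n₁ * h₁⁻¹)) * (h₁ * h₁) := by
      have h1 : s * n₁ * s⁻¹ = n₁⁻¹ := hsinv n₁ hn₁
      have h2 : s * n₁ = n₁⁻¹ * s := by
        rw [← h1]
        group
      have h3 : h₁ * s = s * h₁ := (hcomm h₁ hh₁).symm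
      calc s * (n₁ * h₁) * (s * (n₁ * h₁)) = (s * n₁) * (h₁ * s) * n₁ * h₁ := by group
        _ = (n₁⁻¹ * s) * (s * h₁) * n₁ * h₁ := by rw [h2, h3]
        _ = n₁⁻¹ * (s * s) * h₁ * n₁ * h₁ := by group
        _ = (n₁⁻¹ * (h₁ * n₁ * h₁⁻¹)) * (h₁ * h₁) := by rw [hss]; group
    have hmemN : n₁⁻¹ * (h₁ * n₁ * h₁⁻¹) ∈ N :=
      N.mul_mem (N.inv_mem hn₁) (hN.conj_mem _ hn₁ _)
    have hmemT : (n₁⁻¹ * (h₁ * n₁ * h₁⁻¹)) * (h₁ * h₁) ∈ TT :=
      Subgroup.mul_mem _ (hNT hmemN) (Subgroup.mul_mem _ hh₁T hh₁T)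
    show extendByZero TT _ _ = 1
    rw [e1, extendByZero_of_mem TT _ hmemT]
    show ((f ⟨_, hmemT⟩ : ℂˣ) : ℂ) = 1
    rw [hf _ _ hmemN (H.mul_mem hh₁ hh₁)]
    have e2 : (⟨n₁⁻¹ * (h₁ * n₁ * h₁⁻¹), hmemN⟩ : N) =
        (⟨n₁, hn₁⟩ : N)⁻¹ * ⟨h₁ * n₁ * h₁⁻¹, hN.conj_mem _ hn₁ _⟩ := rfl
    rw [e2, map_mul, map_inv]
    have e3 := lam_conj_of_mem N hN lam hh₁T ⟨n₁, hn₁⟩
    rw [e3]
    simp
  -- the coset average
  have havg : ∀ g : G, (Nat.card N : ℂ)⁻¹ * ∑ n : N, F (n * g) =
      extendByZero TT (fun _ => (1 : ℂ)) (s * g) := by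
    intro g
    by_cases hg : s * g ∈ TT
    · rw [extendByZero_of_mem TT _ hg]
      have h1 : ∀ n : N, F (n * g) = 1 := by
        intro n
        have e1 : (n : G) * g = s * ((s * n * s⁻¹) * (s * g)) := by
          have : s * (s * n * s⁻¹) * (s * g) = (s * s) * n * (s⁻¹ * s) * g := by group
          rw [← mul_assoc s, this, hss]
          simp
        rw [e1]
        apply hone
        exact Subgroup.mul_mem _ (hNT (hN.conj_mem _ n.2 _)) hg
      simp only [h1, Finset.sum_const, Finset.card_univ, nsmul_eq_mul, mul_one]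
      rw [Fintype.card_eq_nat_card]
      field_simp
    · rw [extendByZero_of_not_mem TT _ hg]
      have hsq : ∀ n : N, ((n : G) * g) * ((n : G) * g) = ((n : G) * (g * n * g⁻¹)) * (g * g) := by
        intro n
        group
      by_cases hgg : g * g ∈ TT
      · -- sum of a nontrivial homomorphism
        let c : N →* N := MonoidHom.mk' (fun n => ⟨g * n * g⁻¹, hN.conj_mem n n.2 g⟩) (by
          intro a b
          apply Subtype.ext
          show g * (a * b : G) * g⁻¹ = (g * a * g⁻¹) * (g * b * g⁻¹)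
          group)
        let μ : N →* ℂ := (Units.coeHom ℂ).comp (lam * lam.comp c)
        have hμ : μ ≠ 1 := by
          intro h
          apply hg
          apply mem_stab_of
          intro n
          have h1 : μ n = 1 := by rw [h]; rfl
          have h2 : lam n * lam (c n) = 1 := by
            apply Units.ext
            exact h1
          have h3 : (⟨s * g * n * (s * g)⁻¹, hN.conj_mem n n.2 _⟩ : N) = (c n)⁻¹ := by
            apply Subtype.ext
            show s * g * n * (s * g)⁻¹ = (g * n * g⁻¹)⁻¹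
            rw [← hsinv _ (hN.conj_mem n n.2 g)]
            group
          rw [h3, map_inv]
          exact inv_eq_of_mul_eq_one_left h2
        have hval : ∀ n : N, F (n * g) = μ n * ((f ⟨g * g, hgg⟩ : ℂˣ) : ℂ) := by
          intro n
          have hmemN : (n : G) * (g * n * g⁻¹) ∈ N := N.mul_mem n.2 (hN.conj_mem _ n.2 _)
          have hmem1 : ((n : G) * (g * n * g⁻¹)) * 1 ∈ TT := by
            rw [mul_one]
            exact hNT hmemN
          have hmem : ((n : G) * g) * ((n : G) * g) ∈ TT := by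
            rw [hsq]
            exact Subgroup.mul_mem _ (hNT hmemN) hgg
          show extendByZero TT _ _ = _
          rw [extendByZero_of_mem TT _ hmem]
          have e1 : (⟨((n : G) * g) * ((n : G) * g), hmem⟩ : TT) =
              ⟨((n : G) * (g * n * g⁻¹)) * 1, hmem1⟩ * ⟨g * g, hgg⟩ := by
            apply Subtype.ext
            simp only [Subgroup.coe_mul, mul_one]
            exact hsq n
          show ((f _ : ℂˣ) : ℂ) = _
          rw [e1, map_mul, Units.val_mul, hf _ 1 hmemN H.one_mem]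
          congr 1
          have e2 : (⟨(n : G) * (g * n * g⁻¹), hmemN⟩ : N) = n * c n := rfl
          rw [e2, map_mul, Units.val_mul]
          rfl
        simp only [hval]
        rw [← Finset.sum_mul, sum_hom_units_eq_zero μ hμ]
        simp
      · have h0 : ∀ n : N, F (n * g) = 0 := by
          intro n
          apply extendByZero_of_not_mem
          intro hc
          apply hgg
          have hmemN : (n : G) * (g * n * g⁻¹) ∈ N := N.mul_mem n.2 (hN.conj_mem _ n.2 _)
          rw [hsq] at hc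
          have e2 : g * g = ((n : G) * (g * n * g⁻¹))⁻¹ * (((n : G) * (g * n * g⁻¹)) * (g * g)) := by
            group
          rw [e2]
          exact Subgroup.mul_mem _ (Subgroup.inv_mem _ (hNT hmemN)) hc
        simp [h0]
  rw [sum_eq_sum_avg N F]
  simp only [havg]
  have h2 := sum_extendByZero TT (fun _ => (1 : ℂ))
  rw [← Equiv.sum_comp (Equiv.mulLeft s)] at h2
  simp only [Equiv.coe_mulLeft] at h2
  rw [h2]
  simp only [Finset.sum_const, Finset.card_univ, nsmul_eq_mul, mul_one]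
  rw [Fintype.card_eq_nat_card]

end Mono

section Count

variable {N I : Subgroup G} [hN : N.Normal] [Fintype N] [Fintype I]

/-- The counting statement for linear characters trivial on `N`. -/
theorem card_le_mul_of_trivial {φ : N → ℂ} (hφ : IsIrrCharacter N φ)
    (hI : ∀ g : G, g ∈ I ↔ ∀ n n' : N, (n' : G) = g * (n : G) * g⁻¹ → φ n' = φ n)
    (hNI : N ≤ I) {ψ : I → ℂ} (hψ : IsIrrCharacter I ψ)
    (hres : ∀ n : N, ψ (Subgroup.inclusion hNI n) = φ n)
    (S T : IrrCharacter G → Prop)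
    (hS : ∀ χ, S χ → charDegree (χ : G → ℂ) = 1)
    (htriv : ∀ χ, S χ → ∀ n : N, (χ : G → ℂ) n = 1)
    (hST : ∀ χ, S χ → ∀ h : IsIrrCharacter G ((χ : G → ℂ) * indFun I ψ), T ⟨_, h⟩) :
    Nat.card {χ // S χ} ≤ I.index * Nat.card {χ // T χ} := by
  classical
  have hover : (fun n : N => ψ ⟨(n : G), hNI n.2⟩) = φ := funext hres
  have hover1 : classInner (fun n : N => ψ ⟨(n : G), hNI n.2⟩) φ = 1 := by
    rw [hover]
    exact classInner_irr_self hφ
  obtain ⟨hχ, -⟩ := indFun_irr_of_over N I hφ (stab_iff N I hI) hNI hψ (by rw [hover1]; exact one_ne_zero)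
  have hhom : ∀ χ : {χ // S χ}, ∃ β : G →* ℂˣ, ∀ g, (χ.1 : G → ℂ) g = β g := fun χ =>
    exists_hom_of_charDegree χ.1.2 (hS _ χ.2)
  choose hm hhm using hhom
  have hirr : ∀ χ : {χ // S χ}, IsIrrCharacter G ((χ.1 : G → ℂ) * indFun I ψ) := by
    intro χ
    have h1 : (χ.1 : G → ℂ) = fun g => ((hm χ g : ℂˣ) : ℂ) := funext (hhm χ)
    rw [h1]
    exact DetChar.isIrr_mul_hom (hm χ) hχ
  let f : {χ // S χ} → {χ // T χ} := fun χ => ⟨⟨_, hirr χ⟩, hST _ χ.2 (hirr χ)⟩
  rw [Nat.card_eq_fintype_card, Nat.card_eq_fintype_card]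
  rw [← Finset.card_univ, ← Finset.card_univ]
  apply Finset.card_le_mul_card_image_of_maps_to (f := f) (fun _ _ => Finset.mem_univ _)
  intro b _
  by_cases hb : ∃ a₀, f a₀ = b
  swap
  · rw [Finset.filter_false_of_mem]
    · simp
    · intro a _ h
      exact hb ⟨a, h⟩
  obtain ⟨a₀, ha₀⟩ := hb
  rw [← Fintype.card_subtype]
  have hinj : Function.Injective (fun i : {a // f a = b} => (fun g => ((hm i.1 g : ℂˣ) : ℂ))) := by
    intro i j hij
    apply Subtype.ext
    apply Subtype.ext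
    apply Subtype.ext
    rw [show ((i.1.1 : IrrCharacter G) : G → ℂ) = _ from funext (hhm i.1)]
    rw [show ((j.1.1 : IrrCharacter G) : G → ℂ) = _ from funext (hhm j.1)]
    exact hij
  apply card_le_index_of_agree (I := I) (fun i : {a // f a = b} => hm i.1) hinj
    (i₀ := ⟨a₀, ha₀⟩)
  intro i x
  have h1 : f i.1 = f a₀ := by rw [i.2, ha₀]
  have hmul : ∀ g, ((hm i.1 g : ℂˣ) : ℂ) * indFun I ψ g = ((hm a₀ g : ℂˣ) : ℂ) * indFun I ψ g := by
    intro g
    have h2 : (f i.1).1.1 g = (f a₀).1.1 g := by rw [h1]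
    have h3 : ((i.1.1 : IrrCharacter G) : G → ℂ) g * indFun I ψ g =
        ((a₀.1 : IrrCharacter G) : G → ℂ) g * indFun I ψ g := h2
    rw [hhm i.1 g, hhm a₀ g] at h3
    exact h3
  obtain ⟨n, hn⟩ := exists_ne_zero_coset hφ hI hNI hψ hres x
  have h4 := mul_right_cancel₀ hn (hmul ((n : G) * x))
  have hβ : hm i.1 n = 1 := by
    apply Units.ext
    rw [← hhm i.1 n, Units.val_one]
    exact htriv _ i.1.2 n
  have hγ : hm a₀ n = 1 := by
    apply Units.ext
    rw [← hhm a₀ n, Units.val_one]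
    exact htriv _ a₀.2 n
  rw [map_mul, map_mul, hβ, hγ, one_mul, one_mul] at h4
  exact Units.ext h4

end Count

end Cfsg.Agent.Lib.MonoNu
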