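import Mathlib
import Cfsg.Prelude.Def_Characters
import Cfsg.Agent.Lib.CharBasic

/-!
# Monomial representations from a cocycle
-/

set_option autoImplicit false

namespace Cfsg.Agent.Lib.MonoRep

open Cfsg Cfsg.Agent.Lib.CharBasic

universe u v

variable {G : Type u} [Group G] {X : Type v} [MulAction G X]

/-- The monomial representation attached to a cocycle. -/
noncomputable def monoRep (c : G → X → ℂ) (hc1 : ∀ x, c 1 x = 1)
    (hc : ∀ g h x, c (g * h) x = c g (h • x) * c h x) : Representation ℂ G (X → ℂ) where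
  toFun g :=
    { toFun := fun f y => c g (g⁻¹ • y) * f (g⁻¹ • y)
      map_add' := fun f f' => by funext y; simp [mul_add]
      map_smul' := fun a f => by funext y; simp [mul_left_comm] }
  map_one' := by
    ext f y
    simp [hc1]
  map_mul' g h := by
    ext f y
    simp only [LinearMap.coe_mk, AddHom.coe_mk, LinearMap.coe_comp, LinearMap.coe_single,
      Function.comp_apply, Module.End.mul_apply, mul_inv_rev, mul_smul, hc, smul_inv_smul]
    ring

theorem monoRep_apply (c : G → X → ℂ) (hc1 : ∀ x, c 1 x = 1)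
    (hc : ∀ g h x, c (g * h) x = c g (h • x) * c h x) (g : G) (f : X → ℂ) (y : X) :
    monoRep c hc1 hc g f y = c g (g⁻¹ • y) * f (g⁻¹ • y) := rfl

variable [Fintype X] [DecidableEq X]

theorem trace_monoRep (c : G → X → ℂ) (hc1 : ∀ x, c 1 x = 1)
    (hc : ∀ g h x, c (g * h) x = c g (h • x) * c h x) (g : G) :
    (monoRep c hc1 hc).character g = ∑ x : X, if g • x = x then c g x else 0 := by
  show LinearMap.trace ℂ (X → ℂ) (monoRep c hc1 hc g) = _
  rw [LinearMap.trace_eq_matrix_trace ℂ (Pi.basisFun ℂ X)]
  have h1 : ∀ x : X, (LinearMap.toMatrix (Pi.basisFun ℂ X) (Pi.basisFun ℂ X)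
      (monoRep c hc1 hc g)) x x = if g • x = x then c g x else 0 := by
    intro x
    rw [LinearMap.toMatrix_apply]
    simp only [Pi.basisFun_apply, Pi.basisFun_repr, monoRep_apply, Pi.single_apply]
    have key : g⁻¹ • x = x ↔ g • x = x := by
      constructor
      · intro h; nth_rewrite 1 [← h]; simp
      · intro h; nth_rewrite 1 [← h]; simp
    by_cases h : g • x = x
    · have h2 : g⁻¹ • x = x := key.2 h
      rw [if_pos h, if_pos h2, h2, mul_one]
    · have h2 : ¬ g⁻¹ • x = x := fun h3 => h (key.1 h3)
      rw [if_neg h, if_neg h2, mul_zero]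
  simp only [Matrix.trace, Matrix.diag, h1]

/-- The monomial character. -/
theorem isCharacter_mono (c : G → X → ℂ) (hc1 : ∀ x, c 1 x = 1)
    (hc : ∀ g h x, c (g * h) x = c g (h • x) * c h x) :
    IsCharacter G (fun g => ∑ x : X, if g • x = x then c g x else 0) := by
  have h := isCharacter_of_rep' (monoRep c hc1 hc)
  have h2 : (monoRep c hc1 hc).character = fun g => ∑ x : X, if g • x = x then c g x else 0 := by
    funext g
    exact trace_monoRep c hc1 hc g
  rwa [h2] at h

end Cfsg.Agent.Lib.MonoRep
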