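import Mathlib
import Cfsg.Agent.Lib.SmallGroups3
import Cfsg.Agent.Lib.SylowNum
import Cfsg.Agent.Lib.PCore

set_option autoImplicit false
open scoped Pointwise

/-! Generic lemmas on actions on Sylow subgroups, used for the Sylow number 22. -/

namespace Cfsg.Agent.Lib.N22

open Cfsg.Agent.Lib.PCore (mem_conj_smul_iff)

section Generic

/-- A self-map with `f^[p] = id` on a set with fewer than `p` points is the identity. -/
theorem eq_of_iterate {α : Type*} [Finite α] {p : ℕ} (hp : p.Prime) (f : α → α)
    (hf : f^[p] = id) (hc : Nat.card α < p) (x : α) : f x = x := by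
  have hper : Function.IsPeriodicPt f p x := by
    show f^[p] x = x
    rw [hf]; rfl
  have hd := hper.minimalPeriod_dvd
  rcases (Nat.dvd_prime hp).mp hd with h | h
  · exact Function.minimalPeriod_eq_one_iff_isFixedPt.mp h
  · exfalso
    have hinj := Function.iterate_injOn_Iio_minimalPeriod (f := f) (x := x)
    rw [h] at hinj
    have h1 : (Set.Iio p).ncard ≤ (Set.univ : Set α).ncard :=
      Set.ncard_le_ncard_of_injOn _ (fun _ _ => Set.mem_univ _) hinj (Set.toFinite _)
    rw [Set.ncard_univ] at h1
    have h2 : (Set.Iio p).ncard = p := by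
      have : (Set.Iio p) = ((Finset.range p : Finset ℕ) : Set ℕ) := by
        ext; simp
      rw [this, Set.ncard_coe_finset, Finset.card_range]
    omega

/-- If all orbits in an invariant set have size divisible by `m`, so does the set. -/
theorem dvd_ncard_of_invariant {G X : Type*} [Group G] [MulAction G X] [Finite X] (m : ℕ) :
    ∀ V : Set X, (∀ g : G, ∀ x ∈ V, g • x ∈ V) →
      (∀ x ∈ V, m ∣ (MulAction.orbit G x).ncard) → m ∣ V.ncard := by
  intro V
  induction hn : V.ncard using Nat.strong_induction_on generalizing V with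
  | _ n ih =>
    intro hV hm
    rcases V.eq_empty_or_nonempty with rfl | ⟨x, hx⟩
    · rw [Set.ncard_empty] at hn
      rw [← hn]
      exact dvd_zero m
    have hsub : MulAction.orbit G x ⊆ V := by
      rintro _ ⟨g, rfl⟩
      exact hV g x hx
    have hcard : (V \ MulAction.orbit G x).ncard + (MulAction.orbit G x).ncard = V.ncard :=
      Set.ncard_sdiff_add_ncard_of_subset hsub (Set.toFinite _)
    have hpos : 0 < (MulAction.orbit G x).ncard :=
      (Set.ncard_pos (Set.toFinite _)).mpr ⟨x, MulAction.mem_orbit_self x⟩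
    have hlt : (V \ MulAction.orbit G x).ncard < n := by omega
    have hd := ih _ hlt (V \ MulAction.orbit G x) rfl ?_ ?_
    · rw [← hn, ← hcard]
      exact dvd_add hd (hm x hx)
    · rintro g y ⟨hy, hyn⟩
      refine ⟨hV g y hy, ?_⟩
      intro hmem
      apply hyn
      have h1 : y ∈ MulAction.orbit G (g • y) := ⟨g⁻¹, by show g⁻¹ • g • y = y; simp⟩
      rw [MulAction.orbit_eq_iff.mpr hmem] at h1
      exact h1
    · intro y hy
      exact hm y hy.1

/-- Fixed point congruence for an element of prime order on an invariant subset. -/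
theorem ncard_modEq_fixed {G X : Type*} [Group G] [MulAction G X] [Finite X] {p : ℕ}
    [hp : Fact p.Prime] (g : G) (hg : g ^ p = 1) (V : Set X) (hV : ∀ x ∈ V, g • x ∈ V) :
    V.ncard ≡ ({x ∈ V | g • x = x} : Set X).ncard [MOD p] := by
  classical
  haveI : Fintype V := Fintype.ofFinite _
  let f : Function.End V := fun x => ⟨g • x.1, hV x.1 x.2⟩
  have hit : ∀ n : ℕ, ∀ x : V, ((f ^ n) x : V).1 = g ^ n • x.1 := by
    intro n
    induction n with
    | zero => intro x; rw [pow_zero, pow_zero, one_smul]; rfl
    | succ n ih =>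
      intro x
      rw [pow_succ']
      show (f ((f ^ n) x)).1 = _
      show g • ((f ^ n) x).1 = _
      rw [ih, pow_succ', mul_smul]
  have hf : f ^ p ^ 1 = 1 := by
    funext x
    apply Subtype.ext
    rw [pow_one, hit, hg, one_smul]
    rfl
  have h := Equiv.Perm.card_fixedPoints_modEq hf
  have h1 : Fintype.card V = V.ncard := by
    rw [← Nat.card_eq_fintype_card, Nat.card_coe_set_eq]
  have h2 : Fintype.card (Function.fixedPoints f) = ({x ∈ V | g • x = x} : Set X).ncard := by
    rw [← Nat.card_eq_fintype_card, ← Nat.card_coe_set_eq]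
    apply Nat.card_congr
    refine ⟨fun x => ⟨x.1.1, x.1.2, congrArg Subtype.val x.2⟩,
      fun y => ⟨⟨y.1, y.2.1⟩, Subtype.ext y.2.2⟩, fun x => rfl, fun y => rfl⟩
  rw [h1, h2] at h
  exact h

end Generic

section Sylow

variable {S : Type*} [Group S] [Finite S] {p : ℕ} [hp : Fact p.Prime]

theorem smul_self_of_mem (R : Sylow p S) {a : S} (ha : a ∈ (R : Subgroup S)) : a • R = R := by
  rw [Sylow.smul_eq_iff_mem_normalizer]
  exact Subgroup.le_normalizer ha

theorem mem_of_smul_eq (R x : Sylow p S) {a : S} (ha : a ∈ (R : Subgroup S)) (h : a • x = x) :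
    a ∈ (x : Subgroup S) := by
  rw [Sylow.smul_eq_iff_mem_normalizer] at h
  have h1 := R.isPGroup'.inf_normalizer_sylow x
  have h2 : a ∈ (R : Subgroup S) ⊓ Subgroup.normalizer ((x : Subgroup S) : Set S) :=
    Subgroup.mem_inf.mpr ⟨ha, h⟩
  have h3 := h1.le h2
  exact (Subgroup.mem_inf.mp h3).2

theorem stabilizer_eq (R x : Sylow p S) :
    MulAction.stabilizer (R : Subgroup S) x = (x : Subgroup S).subgroupOf R := by
  ext a
  rw [MulAction.mem_stabilizer_iff, Subgroup.mem_subgroupOf]
  constructor
  · intro h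
    exact mem_of_smul_eq R x a.2 h
  · intro h
    exact smul_self_of_mem x h

/-- The orbit size of `x` under `R` is `|R : R ∩ x|`. -/
theorem card_orbit_eq (R x : Sylow p S) :
    (MulAction.orbit (R : Subgroup S) x).ncard = (x : Subgroup S).relIndex R := by
  rw [← MulAction.index_stabilizer, stabilizer_eq]
  rfl

theorem orbit_ne (R x : Sylow p S) (hne : x ≠ R) {y : Sylow p S}
    (hy : y ∈ MulAction.orbit (R : Subgroup S) x) : y ≠ R := by
  obtain ⟨a, rfl⟩ := hy
  intro h
  apply hne
  have h1 : (a : S) • x = R := h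
  have h2 : (a : S)⁻¹ • R = R := smul_self_of_mem R (inv_mem a.2)
  have h3 : x = (a : S)⁻¹ • ((a : S) • x) := (inv_smul_smul _ _).symm
  rw [h1] at h3
  exact h3.trans h2

/-- All Sylow subgroups have the same order. -/
theorem card_sylow_eq (A B : Sylow p S) :
    Nat.card (A : Subgroup S) = Nat.card (B : Subgroup S) :=
  Nat.card_congr (Sylow.equiv A B).toEquiv

theorem le_iff_eq (A B : Sylow p S) : (A : Subgroup S) ≤ B ↔ A = B := by
  constructor
  · intro h
    exact Sylow.ext (A.is_maximal' B.isPGroup' h).symm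
  · rintro rfl
    exact le_rfl

/-- An element of the normalizer fixes the Sylow subgroup. -/
theorem smul_eq_of_mem_normalizer (A : Sylow p S) {g : S}
    (hg : g ∈ Subgroup.normalizer ((A : Subgroup S) : Set S)) : g • A = A :=
  (Sylow.smul_eq_iff_mem_normalizer).mpr hg

theorem card_smul_subgroup (g : S) (H : Subgroup S) :
    Nat.card (MulAut.conj g • H : Subgroup S) = Nat.card H :=
  Nat.card_congr (MulEquiv.subgroupMap (MulAut.conj g) H).toEquiv.symm

/-- Conjugation invariance of the relative index. -/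
theorem relIndex_smul (g : S) (A B : Sylow p S) :
    ((g • B : Sylow p S) : Subgroup S).relIndex (g • A : Sylow p S) =
      (B : Subgroup S).relIndex A := by
  have h1 := Cfsg.Agent.Lib.SylowNum.card_mul_relIndex ((A : Subgroup S) ⊓ (B : Subgroup S))
    (A : Subgroup S) inf_le_left
  have h2 := Cfsg.Agent.Lib.SylowNum.card_mul_relIndex
    (((g • A : Sylow p S) : Subgroup S) ⊓ ((g • B : Sylow p S) : Subgroup S))
    ((g • A : Sylow p S) : Subgroup S) inf_le_left
  rw [Subgroup.inf_relIndex_left] at h1 h2
  have h3 : ((g • A : Sylow p S) : Subgroup S) ⊓ ((g • B : Sylow p S) : Subgroup S)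
      = MulAut.conj g • ((A : Subgroup S) ⊓ (B : Subgroup S)) := by
    rw [Sylow.coe_subgroup_smul, Sylow.coe_subgroup_smul, Subgroup.smul_inf]
  rw [h3, card_smul_subgroup, card_sylow_eq (g • A) A, ← h1] at h2
  have hpos : 0 < Nat.card ((A : Subgroup S) ⊓ (B : Subgroup S) : Subgroup S) := Nat.card_pos
  exact Nat.eq_of_mul_eq_mul_left hpos h2

end Sylow

end Cfsg.Agent.Lib.N22
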