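import Mathlib
import Cfsg.Prelude.Def_ConjugacyFunctors
import Cfsg.Agent.Lib.NPCThompson
import Cfsg.Agent.Lib.CosetGraph2

/-!
# Sections in the reduction for normal `p`-complement theorems
-/

set_option autoImplicit false

namespace Cfsg.Agent.Lib.NPCSection

open Cfsg Cfsg.Agent.Lib.PCore Cfsg.Agent.Lib.NPCBasic Cfsg.Agent.Lib.CharTwoLocal
open Cfsg.Agent.Lib.NPCConfig Cfsg.Agent.Lib.NPCReduction Cfsg.Agent.Lib.NPCFunctor Cfsg.Agent.Lib.NPCThompson

universe u

/-- `X` is a section of `G`: a quotient of a subgroup. -/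
def IsSection (G X : Type u) [Group G] [Group X] : Prop :=
  ∃ (K : Subgroup G) (f : K →* X), Function.Surjective f

theorem IsSection.refl (G : Type u) [Group G] : IsSection G G :=
  ⟨⊤, (Subgroup.topEquiv (G := G)).toMonoidHom, (Subgroup.topEquiv (G := G)).surjective⟩

theorem IsSection.sub {G X : Type u} [Group G] [Group X] (h : IsSection G X) (Y : Subgroup X) : IsSection G Y := by
  obtain ⟨K, f, hf⟩ := h
  refine ⟨(Y.comap f).map K.subtype, ?_, ?_⟩
  · refine MonoidHom.mk' (fun k => ⟨f ⟨k, ?_⟩, ?_⟩) ?_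
    · obtain ⟨a, -, ha⟩ := k.2
      rw [← ha]
      exact a.2
    · obtain ⟨a, ha, ha2⟩ := k.2
      have h1 : (⟨(k : G), by rw [← ha2]; exact a.2⟩ : K) = a := Subtype.ext ha2.symm
      rw [h1]
      exact ha
    · intro a b
      apply Subtype.ext
      show f _ = f _ * f _
      rw [← map_mul]
      rfl
  · intro y
    obtain ⟨a, ha⟩ := hf (y : X)
    refine ⟨⟨(a : G), ⟨a, ?_, rfl⟩⟩, ?_⟩
    · show f a ∈ Y
      rw [ha]
      exact y.2
    · apply Subtype.ext
      exact ha

theorem IsSection.quot {G X : Type u} [Group G] [Group X] (h : IsSection G X) (M : Subgroup X) [M.Normal] :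
    IsSection G (X ⧸ M) := by
  obtain ⟨K, f, hf⟩ := h
  exact ⟨K, (QuotientGroup.mk' M).comp f, (QuotientGroup.mk'_surjective M).comp hf⟩

/-- A section in the form used by the statements. -/
theorem IsSection.exists_equiv {G X : Type u} [Group G] [Group X] (h : IsSection G X) :
    ∃ (K R : Subgroup G) (hR : (R.subgroupOf K).Normal), Nonempty (X ≃* ↥K ⧸ R.subgroupOf K) := by
  obtain ⟨K, f, hf⟩ := h
  have h1 : ((f.ker).map K.subtype).subgroupOf K = f.ker := Subgroup.comap_map_eq_self_of_injective K.subtype_injective _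
  have hR : (((f.ker).map K.subtype).subgroupOf K).Normal := by
    rw [h1]
    infer_instance
  refine ⟨K, (f.ker).map K.subtype, hR, ⟨?_⟩⟩
  exact (QuotientGroup.quotientKerEquivOfSurjective f hf).symm.trans (QuotientGroup.quotientMulEquivOfEq h1.symm)

variable {p : ℕ} [hp : Fact p.Prime]

/-- The quotient by `O_p` in a configuration has a normal `p`-complement. -/
theorem config_hasNPC_quotient {X : Type u} [Group X] [Finite X] {T K : Subgroup X} (h : Config p X T K)
    (hT : IsPGroup p T) : HasNormalPComplement p (X ⧸ pCore p X) := by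
  classical
  haveI := h.normal
  set L := pCore p X with hL
  have hLK : L ≤ K := by
    rw [hL, ← h.inf_eq]
    exact inf_le_left
  rw [hasNPC_iff]
  refine ⟨K.map (QuotientGroup.mk' L), Subgroup.Normal.map h.normal _ (QuotientGroup.mk'_surjective L), ?_, ?_⟩
  · -- order prime to `p`
    obtain ⟨n, hn, hpow⟩ := h.pow
    rw [Nat.coprime_comm, Nat.Prime.coprime_iff_not_dvd hp.out]
    intro hd
    obtain ⟨x, hx⟩ := exists_prime_orderOf_dvd_card' p hd
    obtain ⟨a, ha, hax⟩ := x.2
    have h1 : x ^ n = 1 := by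
      apply Subtype.ext
      show (x : X ⧸ L) ^ n = 1
      rw [← hax]
      show ((a : X) : X ⧸ L) ^ n = 1
      rw [← QuotientGroup.mk_pow, QuotientGroup.eq_one_iff]
      exact hpow a ha
    have h2 := orderOf_dvd_of_pow_eq_one h1
    rw [hx] at h2
    exact (Nat.Prime.coprime_iff_not_dvd hp.out).mp hn.symm h2
  · obtain ⟨j, hj⟩ := config_index h hT
    refine ⟨j, ?_⟩
    rw [Subgroup.index_map, QuotientGroup.ker_mk', sup_of_le_left hLK, hj,
      MonoidHom.range_eq_top_of_surjective _ (QuotientGroup.mk'_surjective L), Subgroup.index_top, mul_one]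

/-- **Transport of the section hypothesis**: the statements' hypothesis on sections `K / R` gives the same for all sections. -/
theorem normal_of_equiv {W : ∀ (Q : Type u) [Group Q], Subgroup Q} (hW : IsCharPFunctor.{u} p W)
    {X Y : Type u} [Group X] [Group Y] [Finite X] (e : X ≃* Y) (T : Subgroup X) (hT : IsPGroup p T)
    (h : (inducedFunctor W (T.map e.toMonoidHom)).Normal) : (inducedFunctor W T).Normal := by
  have h1 := map_inducedFunctor hW T hT e.toMonoidHom (fun x _ hx => (map_eq_one_iff _ e.injective).mp hx)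
  rw [← h1] at h
  have h2 := h.comap e.toMonoidHom
  rwa [Subgroup.comap_map_eq_self_of_injective e.injective] at h2

end Cfsg.Agent.Lib.NPCSection
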