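import Mathlib
import Cfsg.Prelude.Def_LocalEven
import Cfsg.Agent.Lib.NPCSection
import Cfsg.Agent.Lib.HallHigmanAb
import Cfsg.Agent.Lib.Replacement
import Cfsg.Agent.Lib.ZJCore2

/-!
# Chief factors below `O_p` in the final configuration

`commutator_le_of_config`: in a configuration, an element `g` of the Sylow subgroup with `[U, g; p-1] ≤ V` on a chief factor
`U/V` below `O_p(X)` centralizes `U/V`.
-/

set_option autoImplicit false

namespace Cfsg.Agent.Lib.NPCChief

open Cfsg Cfsg.Agent.Lib.PCore Cfsg.Agent.Lib.NPCBasic Cfsg.Agent.Lib.CharTwoLocal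
open Cfsg.Agent.Lib.NPCConfig Cfsg.Agent.Lib.NPCThompson
open Cfsg.Agent.Lib.HallHigmanAb
open scoped commutatorElement

universe u

variable {p : ℕ} [hp : Fact p.Prime]

/-- Transport of a configuration along an isomorphism. -/
theorem Config.map_equiv {X Y : Type u} [Group X] [Group Y] {T K : Subgroup X} (h : Config p X T K) (e : X ≃* Y) :
    Config p Y (T.map e.toMonoidHom) (K.map e.toMonoidHom) := by
  have hL := Cfsg.Agent.Lib.CosetGraph2.pCore_map_equiv p e
  refine ⟨h.normal.map _ e.surjective, ?_, ?_, ?_, ?_, ?_, ?_⟩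
  · rw [← hL, ← h.inf_eq, Subgroup.map_inf _ _ _ e.injective]
  · rw [← Subgroup.map_sup, h.sup_eq, Subgroup.map_top_of_surjective _ e.surjective]
  · rintro _ ⟨x, hx, rfl⟩ _ ⟨y, hy, rfl⟩
    rw [← hL]
    exact ⟨_, h.comm x hx y hy, by simp⟩
  · obtain ⟨n, hn, hpow⟩ := h.pow
    refine ⟨n, hn, ?_⟩
    rintro _ ⟨x, hx, rfl⟩
    rw [← hL]
    exact ⟨_, hpow x hx, by simp⟩
  · exact Cfsg.Agent.Lib.CosetGraph2.centralizer_pCore_le_of_equiv p e h.cent
  · rw [Subgroup.map_equiv_eq_comap_symm']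
    exact (Subgroup.isCoatom_comap e.symm).mpr h.coatom

/-- The image of an iterated commutator. -/
theorem map_iterCommutator {A B : Type*} [Group A] [Group B] (f : A →* B) (U H : Subgroup A) (i : ℕ) :
    (iterCommutator U H i).map f = iterCommutator (U.map f) (H.map f) i := by
  induction i with
  | zero => rfl
  | succ i ih =>
    show (⁅iterCommutator U H i, H⁆).map f = ⁅iterCommutator (U.map f) (H.map f) i, H.map f⁆
    rw [Subgroup.map_commutator, ih]

theorem commutator_le_of_config {X : Type u} [Group X] [Finite X] {T K : Subgroup X} (hC : Config p X T K)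
    (hTp : IsPGroup p T) {U V : Subgroup X} (hch : IsChiefFactor U V) (hU : U ≤ pCore p X) (g : X) (hg : g ∈ T)
    (hit : iterCommutator U (Subgroup.zpowers g) (p - 1) ≤ V) : ⁅U, Subgroup.zpowers g⁆ ≤ V := by
  classical
  obtain ⟨hVU, hUn, hVn, hmin⟩ := hch
  haveI := hUn
  haveI := hVn
  haveI hKn := hC.normal
  set L := pCore p X with hL
  have hLT : L ≤ T := by
    rw [hL, ← hC.inf_eq]
    exact inf_le_right
  have hLK : L ≤ K := by
    rw [hL, ← hC.inf_eq]
    exact inf_le_left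
  have hLp : IsPGroup p L := isPGroup_pCore p
  let π : X →* X ⧸ V := QuotientGroup.mk' V
  have hπs : Function.Surjective π := QuotientGroup.mk'_surjective V
  have hπ1 : ∀ x, π x = 1 ↔ x ∈ V := fun x => QuotientGroup.eq_one_iff x
  set Y := U.map π with hY
  haveI hYn : Y.Normal := hUn.map π hπs
  set Λ := L.map π with hΛ
  haveI hΛn : Λ.Normal := (inferInstance : L.Normal).map π hπs
  have hΛp : IsPGroup p Λ := hLp.map π
  have hYΛ : Y ≤ Λ := Subgroup.map_mono hU
  have hYp : IsPGroup p Y := hΛp.to_le hYΛ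
  -- minimality
  have hchief : ∀ W : Subgroup (X ⧸ V), W.Normal → W ≤ Y → W = ⊥ ∨ W = Y := by
    intro W hW hWY
    have h1 : V ≤ W.comap π := by
      intro v hv
      show π v ∈ W
      rw [(hπ1 v).mpr hv]
      exact W.one_mem
    have h2 : W.comap π ≤ U := by
      intro x hx
      obtain ⟨u, hu, hux⟩ := hWY hx
      have h3 : u⁻¹ * x ∈ V := by
        rw [← hπ1, map_mul, map_inv, ← hux, inv_mul_cancel]
      have h4 : x = u * (u⁻¹ * x) := by group
      rw [h4]
      exact U.mul_mem hu (hVU.le h3)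
    have hmap : (W.comap π).map π = W := Subgroup.map_comap_eq_self_of_surjective hπs W
    rcases hmin _ (hW.comap π) h1 h2 with h3 | h3
    · left
      rw [← hmap, h3, eq_bot_iff]
      rintro _ ⟨v, hv, rfl⟩
      rw [Subgroup.mem_bot, hπ1]
      exact hv
    · right
      rw [← hmap, h3]
  have hYne : Y ≠ ⊥ := by
    intro h0
    obtain ⟨u, hu, huV⟩ := SetLike.exists_of_lt hVU
    have h1 : π u ∈ Y := ⟨u, hu, rfl⟩
    rw [h0, Subgroup.mem_bot, hπ1] at h1
    exact huV h1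
  -- `Λ` centralizes `Y`
  have hYΛc : ⁅Y, Λ⁆ = ⊥ := by
    rcases hchief _ (Subgroup.commutator_normal Y Λ) (Subgroup.commutator_le_left Y Λ) with h | h
    · exact h
    · exfalso
      apply hYne
      apply Cfsg.Agent.Lib.Replacement.eq_bot_of_le_comm_pgroup hYp hΛp
      · rw [Subgroup.normalizer_eq_top_iff.mpr hYn]; exact le_top
      · rw [h]
  have hΛc : ∀ y ∈ Y, ∀ l ∈ Λ, y * l = l * y := by
    intro y hy l hl
    have h1 : ⁅y, l⁆ ∈ ⁅Y, Λ⁆ := Subgroup.commutator_mem_commutator hy hl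
    rw [hYΛc, Subgroup.mem_bot, commutatorElement_eq_one_iff_mul_comm] at h1
    exact h1
  have hYc : ∀ x ∈ Y, ∀ y ∈ Y, x * y = y * x := fun x hx y hy => hΛc x hx y (hYΛ hy)
  -- exponent `p`
  have hYexp : ∀ y ∈ Y, y ^ p = 1 := by
    let Yp : Subgroup (X ⧸ V) :=
      { carrier := {z | ∃ y ∈ Y, z = y ^ p}
        one_mem' := ⟨1, Y.one_mem, by simp⟩
        mul_mem' := by
          rintro _ _ ⟨y₁, hy₁, rfl⟩ ⟨y₂, hy₂, rfl⟩
          exact ⟨y₁ * y₂, Y.mul_mem hy₁ hy₂, (Commute.mul_pow (hYc y₁ hy₁ y₂ hy₂) p).symm⟩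
        inv_mem' := by
          rintro _ ⟨y, hy, rfl⟩
          exact ⟨y⁻¹, Y.inv_mem hy, by simp⟩ }
    have hYpn : Yp.Normal := by
      constructor
      rintro _ ⟨y, hy, rfl⟩ γ
      exact ⟨γ * y * γ⁻¹, hYn.conj_mem y hy γ, by simp [conj_pow]⟩
    have hYple : Yp ≤ Y := by
      rintro _ ⟨y, hy, rfl⟩
      exact Y.pow_mem hy p
    rcases hchief Yp hYpn hYple with h | h
    · intro y hy
      have h1 : y ^ p ∈ Yp := ⟨y, hy, rfl⟩
      rw [h, Subgroup.mem_bot] at h1
      exact h1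
    · exfalso
      -- `y ↦ y^p` would be bijective on `Y`
      haveI : Nontrivial Y := (Subgroup.nontrivial_iff_ne_bot Y).2 hYne
      obtain ⟨j, hj⟩ := IsPGroup.iff_card.mp hYp
      have hj0 : j ≠ 0 := by
        rintro rfl
        rw [pow_zero] at hj
        exact (Finite.one_lt_card (α := Y)).ne' hj
      have hpd : p ∣ Nat.card Y := by
        rw [hj]
        exact dvd_pow_self p hj0
      obtain ⟨y₀, hy₀⟩ := exists_prime_orderOf_dvd_card' p hpd
      let f : Y → Y := fun y => ⟨(y : X ⧸ V) ^ p, hYple ⟨y, y.2, rfl⟩⟩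
      have hfs : Function.Surjective f := by
        intro y
        have h1 : (y : X ⧸ V) ∈ Yp := by rw [h]; exact y.2
        obtain ⟨z, hz, hzy⟩ := h1
        exact ⟨⟨z, hz⟩, Subtype.ext hzy.symm⟩
      have hfi : Function.Injective f := Finite.injective_iff_surjective.mpr hfs
      have h2 : f y₀ = f 1 := by
        apply Subtype.ext
        have h3 : y₀ ^ p = 1 := by
          rw [← hy₀]
          exact pow_orderOf_eq_one y₀
        have h4 : (y₀ : X ⧸ V) ^ p = 1 := congrArg Subtype.val h3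
        show (y₀ : X ⧸ V) ^ p = ((1 : Y) : X ⧸ V) ^ p
        rw [h4]
        simp
      have h3 := hfi h2
      rw [h3, orderOf_one] at hy₀
      exact hp.out.one_lt.ne hy₀
  -- the commutator hypothesis
  set a := π g with ha
  have hzp : (Subgroup.zpowers g).map π = Subgroup.zpowers a := MonoidHom.map_zpowers π g
  have hita : iterCommutator Y (Subgroup.zpowers a) (p - 1) = ⊥ := by
    rw [← hzp, hY, ← map_iterCommutator, eq_bot_iff]
    rintro _ ⟨c, hc, rfl⟩
    rw [Subgroup.mem_bot, hπ1]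
    exact hit hc
  -- the abelian group
  set M := K.map π with hM
  obtain ⟨N, hN, hpow⟩ := hC.pow
  have hsec := section_hh (p := p) Y hYn hYc hYexp a hita M
    (by
      rintro _ ⟨k, hk, rfl⟩
      exact ⟨g * k * g⁻¹, hKn.conj_mem k hk g, by simp only [map_mul, map_inv, ha]⟩)
    (by
      rintro _ ⟨x, hx, rfl⟩ _ ⟨z, hz, rfl⟩ y hy
      set l := x * z * x⁻¹ * z⁻¹ with hl
      have hlL : π l ∈ Λ := ⟨l, hC.comm x hx z hz, rfl⟩
      have hxz : π x * π z = π l * (π z * π x) := by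
        rw [← map_mul, ← map_mul, ← map_mul, hl]
        congr 1
        group
      have h2 : (π z * π x) * y * (π z * π x)⁻¹ ∈ Y := hYn.conj_mem _ hy _
      have h3 := hΛc _ h2 _ hlL
      rw [hxz]
      calc π l * (π z * π x) * y * (π l * (π z * π x))⁻¹
          = π l * ((π z * π x) * y * (π z * π x)⁻¹) * (π l)⁻¹ := by group
        _ = ((π z * π x) * y * (π z * π x)⁻¹) * π l * (π l)⁻¹ := by rw [h3]
        _ = _ := by group)
    hN
    (by
      rintro _ ⟨x, hx, rfl⟩ y hy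
      have h2 := hΛc y hy (π x ^ N) ⟨x ^ N, hpow x hx, by simp⟩
      rw [← h2]
      group)
  -- a central element of `π(T)` in `Y`
  obtain ⟨y₀, hy₀Y, hy₀1, hy₀c⟩ : ∃ y₀ ∈ Y, y₀ ≠ 1 ∧ ∀ t ∈ T, π t * y₀ = y₀ * π t := by
    set Pb := T.map π with hPb
    have hPbp : IsPGroup p Pb := hTp.map π
    haveI : Group.IsNilpotent Pb := hPbp.isNilpotent
    have hYPb : Y ≤ Pb := Subgroup.map_mono (hU.trans hLT)
    haveI : (Y.subgroupOf Pb).Normal := hYn.subgroupOf Pb
    have hne : Y.subgroupOf Pb ≠ ⊥ := by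
      intro h0
      apply hYne
      rw [eq_bot_iff]
      intro y hy
      have h1 : (⟨y, hYPb hy⟩ : Pb) ∈ Y.subgroupOf Pb := by
        rw [Subgroup.mem_subgroupOf]
        exact hy
      rw [h0, Subgroup.mem_bot] at h1
      have := congrArg Subtype.val h1
      rw [Subgroup.mem_bot]
      exact this
    obtain ⟨x, hxN, hx1, hxc⟩ := Cfsg.Agent.Lib.ZJCore2.exists_center_of_normal (Y.subgroupOf Pb) hne
    refine ⟨x, (Subgroup.mem_subgroupOf).mp hxN, fun h => hx1 (Subtype.ext h), ?_⟩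
    intro t ht
    have h1 := (Subgroup.mem_center_iff.mp hxc) ⟨π t, ⟨t, ht, rfl⟩⟩
    exact congrArg Subtype.val h1
  -- conjugates of `a` centralize `y₀`
  have hconj : ∀ x : X, (π x * a * (π x)⁻¹) * y₀ = y₀ * (π x * a * (π x)⁻¹) := by
    intro x
    have hx : x ∈ K ⊔ T := by rw [hC.sup_eq]; trivial
    obtain ⟨k, hk, t, ht, rfl⟩ := Subgroup.mem_sup_of_normal_left.mp hx
    set b := π t * a * (π t)⁻¹ with hb
    have hbT : b * y₀ = y₀ * b := by
      have h1 := hy₀c (t * g * t⁻¹) (T.mul_mem (T.mul_mem ht hg) (T.inv_mem ht))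
      rw [hb]
      simpa only [map_mul, map_inv, ha] using h1
    -- `b` acts on `M` modulo the centralizer of `Y`
    have hbm : ∀ m ∈ M, ∀ y ∈ Y, (b * m * b⁻¹) * y * (b * m * b⁻¹)⁻¹ = m * y * m⁻¹ := by
      intro m hm y hy
      have hm₁ : (π t)⁻¹ * m * π t ∈ M := by
        obtain ⟨k₁, hk₁, rfl⟩ := hm
        exact ⟨t⁻¹ * k₁ * t⁻¹⁻¹, hKn.conj_mem k₁ hk₁ t⁻¹, by simp only [map_mul, map_inv, inv_inv]⟩
      have hy₁ : (π t)⁻¹ * y * π t ∈ Y := by
        have := hYn.conj_mem y hy (π t)⁻¹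
        simpa using this
      have h1 := hsec _ hm₁ _ hy₁
      have h2 := congrArg (fun w => π t * w * (π t)⁻¹) h1
      rw [hb]
      calc _ = π t * (a * ((π t)⁻¹ * m * π t) * a⁻¹ * ((π t)⁻¹ * y * π t) * (a * ((π t)⁻¹ * m * π t) * a⁻¹)⁻¹) * (π t)⁻¹ := by
            group
        _ = π t * (((π t)⁻¹ * m * π t) * ((π t)⁻¹ * y * π t) * ((π t)⁻¹ * m * π t)⁻¹) * (π t)⁻¹ := h2
        _ = _ := by group
    have hkm : (π k)⁻¹ ∈ M := ⟨k⁻¹, K.inv_mem hk, by simp⟩
    have h3 := hbm _ hkm y₀ hy₀Y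
    have hb2 : b * y₀ * b⁻¹ = y₀ := by
      rw [hbT]; group
    have h4 : (π (k * t) * a * (π (k * t))⁻¹) = π k * b * (π k)⁻¹ := by
      rw [hb]; simp only [map_mul, map_inv]; group
    rw [h4]
    have h5 : (π k * b * (π k)⁻¹) * y₀ * (π k * b * (π k)⁻¹)⁻¹ = y₀ := by
      calc (π k * b * (π k)⁻¹) * y₀ * (π k * b * (π k)⁻¹)⁻¹
          = π k * ((b * (π k)⁻¹ * b⁻¹) * (b * y₀ * b⁻¹) * (b * (π k)⁻¹ * b⁻¹)⁻¹) * (π k)⁻¹ := by group
        _ = π k * ((b * (π k)⁻¹ * b⁻¹) * y₀ * (b * (π k)⁻¹ * b⁻¹)⁻¹) * (π k)⁻¹ := by rw [hb2]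
        _ = π k * ((π k)⁻¹ * y₀ * ((π k)⁻¹)⁻¹) * (π k)⁻¹ := by rw [h3]
        _ = y₀ := by group
    exact mul_inv_eq_iff_eq_mul.mp h5
  -- the normal closure
  set F := Subgroup.normalClosure ({a} : Set (X ⧸ V)) with hF
  have hy₀F : y₀ ∈ Subgroup.centralizer (F : Set (X ⧸ V)) := by
    have h1 : F ≤ Subgroup.centralizer ({y₀} : Set (X ⧸ V)) := by
      show Subgroup.closure _ ≤ _
      rw [Subgroup.closure_le]
      intro c hc
      rw [Group.mem_conjugatesOfSet_iff] at hc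
      obtain ⟨a₁, ha₁, hconj₁⟩ := hc
      rw [Set.mem_singleton_iff] at ha₁
      subst ha₁
      rw [isConj_iff] at hconj₁
      obtain ⟨γ, rfl⟩ := hconj₁
      obtain ⟨x, rfl⟩ := hπs γ
      rw [SetLike.mem_coe, Subgroup.mem_centralizer_iff]
      intro y hy
      rw [Set.mem_singleton_iff] at hy
      subst hy
      exact (hconj x).symm
    rw [Subgroup.mem_centralizer_iff]
    intro f hf
    have h2 := h1 hf
    rw [Subgroup.mem_centralizer_iff] at h2
    exact (h2 y₀ rfl).symm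
  have hCn : (Subgroup.centralizer (F : Set (X ⧸ V))).Normal := Subgroup.normal_centralizer
  have hWn : (Y ⊓ Subgroup.centralizer (F : Set (X ⧸ V))).Normal := Subgroup.normal_inf_normal _ _
  have hW : Y ⊓ Subgroup.centralizer (F : Set (X ⧸ V)) = Y := by
    rcases hchief _ hWn inf_le_left with h | h
    · exfalso
      have h1 : y₀ ∈ Y ⊓ Subgroup.centralizer (F : Set (X ⧸ V)) := ⟨hy₀Y, hy₀F⟩
      rw [h, Subgroup.mem_bot] at h1
      exact hy₀1 h1
    · exact h
  have haF : a ∈ F := Subgroup.subset_normalClosure (Set.mem_singleton a)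
  rw [Subgroup.commutator_le]
  intro u hu b hb
  rw [← hπ1, map_commutatorElement, commutatorElement_eq_one_iff_mul_comm]
  have h1 : π u ∈ Y := ⟨u, hu, rfl⟩
  rw [← hW] at h1
  have h2 := Subgroup.mem_centralizer_iff.mp h1.2
  have h3 : π b ∈ F := by
    have h4 : π b ∈ Subgroup.zpowers a := by
      rw [← hzp]
      exact ⟨b, hb, rfl⟩
    exact (Subgroup.zpowers_le.mpr haF) h4
  exact (h2 _ h3).symm

end Cfsg.Agent.Lib.NPCChief
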