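import Mathlib
import Cfsg.Agent.Lib.NPCThompson
import Cfsg.Agent.Lib.StableW
import Cfsg.Agent.Lib.BauBlock2

/-!
# Normal `p`-complements: the versions with the elementary abelian Thompson subgroup
-/

set_option autoImplicit false
set_option linter.unusedSectionVars false

namespace Cfsg.Agent.Lib.NPCJe41

open Cfsg Cfsg.Agent.Lib.PCore Cfsg.Agent.Lib.NPCBasic Cfsg.Agent.Lib.NPCConfig
open Cfsg.Agent.Lib.NPCReduction Cfsg.Agent.Lib.NPCFunctor Cfsg.Agent.Lib.NPCThompson
open Cfsg.Agent.Lib.ZJCore Cfsg.Agent.Lib.ZJCore3 Cfsg.Agent.Lib.ThompsonJ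
open Cfsg.Agent.Lib.PLocalTools Cfsg.Agent.Lib.StableW
open scoped commutatorElement

universe u

variable {p : ℕ} [hp : Fact p.Prime]

section rep

variable {G : Type*} [Group G] [Finite G]

/-- The replacement statement for `maxFam`. -/
theorem maxFam_rep {cls : Subgroup G → Prop}
    (hab : ∀ A, cls A → ∀ x ∈ A, ∀ y ∈ A, x * y = y * x)
    (hrepcls : ∀ (P : Subgroup G) (U0 T0 : Subgroup P), cls (U0.map P.subtype) → IsMulCommutative T0 →
      Monoid.exponent T0 ∣ Monoid.exponent U0 → cls (T0.map P.subtype))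
    (hp2 : p ≠ 2) (P : Sylow p G) (B : Subgroup G) (hBP : B ≤ (P : Subgroup G)) (hBn : B.Normal)
    (U : Subgroup G) (hU : U ∈ maxFam cls (P : Subgroup G)) (hB'U : ⁅B, B⁆ ≤ U) (hBU : ¬ B ≤ U) :
    ∃ A ∈ maxFam cls (P : Subgroup G), ⁅B, B⁆ ≤ A ∧ ¬ B ≤ A ∧ B ≤ Subgroup.normalizer (A : Set G) := by
  set PP : Subgroup G := (P : Subgroup G) with hPP
  have hsub : Function.Injective PP.subtype := PP.subtype_injective
  let B0 : Subgroup PP := B.subgroupOf PP
  have hB0n : B0.Normal := inferInstance
  have hB0map : B0.map PP.subtype = B := Subgroup.map_subgroupOf_eq_of_le hBP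
  let 𝒰 : Set (Subgroup PP) := {A0 | A0.map PP.subtype ∈ maxFam cls PP}
  let U0 : Subgroup PP := U.subgroupOf PP
  have hU0map : U0.map PP.subtype = U := Subgroup.map_subgroupOf_eq_of_le hU.1
  have hU0 : U0 ∈ 𝒰 := by
    show U0.map PP.subtype ∈ maxFam cls PP
    rw [hU0map]; exact hU
  have hcomm0 : ⁅B0, B0⁆.map PP.subtype = ⁅B, B⁆ := by
    rw [Subgroup.map_commutator, hB0map]
  have h1 : ⁅B0, B0⁆ ≤ U0 := by
    rw [← Subgroup.map_le_map_iff_of_injective hsub, hcomm0, hU0map]
    exact hB'U
  have h2 : ¬ B0 ≤ U0 := by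
    intro h
    apply hBU
    rw [← hU0map, ← hB0map]
    exact Subgroup.map_mono h
  have hcard_T : ∀ T0 : Subgroup PP, Nat.card (T0.map PP.subtype) = Nat.card T0 := fun T0 =>
    Subgroup.card_map_of_injective hsub
  obtain ⟨A0, hA0, h3, h4, h5⟩ := replacement_general P.isPGroup' hp2 𝒰 (by
      intro U1 hU1
      have hU1' := hab _ hU1.2.1
      exact ⟨⟨fun x y => by
        apply Subtype.ext
        have := hU1' (x : PP) ⟨x, x.2, rfl⟩ (y : PP) ⟨y, y.2, rfl⟩
        apply Subtype.ext
        exact this⟩⟩) (by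
      intro U1 hU1 b T hT hcard hcomm hexp
      show T.map PP.subtype ∈ maxFam cls PP
      refine ⟨Subgroup.map_subtype_le _, hrepcls PP U1 T hU1.2.1 hcomm hexp, ?_⟩
      intro C hC hCc
      rw [hcard_T, hcard, ← hcard_T]
      exact hU1.2.2 C hC hCc) B0 U0 hU0 h1 h2
  refine ⟨A0.map PP.subtype, hA0, ?_, ?_, ?_⟩
  · rw [← hcomm0]
    exact Subgroup.map_mono h3
  · intro h
    apply h4
    rw [← hB0map] at h
    exact (Subgroup.map_le_map_iff_of_injective hsub).mp h
  · intro b hb
    have hbP : b ∈ PP := hBP hb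
    have hb0 : (⟨b, hbP⟩ : PP) ∈ B0 := hb
    have hb1 := Subgroup.mem_normalizer_iff.mp (h5 hb0)
    rw [Subgroup.mem_normalizer_iff]
    intro x
    constructor
    · rintro ⟨y, hy, rfl⟩
      exact ⟨_, (hb1 y).mp hy, rfl⟩
    · rintro ⟨y, hy, hyx⟩
      have hx : x = (⟨b, hbP⟩⁻¹ * y * ⟨b, hbP⟩ : PP) := by
        show x = b⁻¹ * (y : G) * b
        have : (y : G) = b * x * b⁻¹ := hyx
        rw [this]; group
      refine ⟨⟨b, hbP⟩⁻¹ * y * ⟨b, hbP⟩, ?_, hx.symm⟩
      apply (hb1 _).mpr
      have : (⟨b, hbP⟩ * (⟨b, hbP⟩⁻¹ * y * ⟨b, hbP⟩) * (⟨b, hbP⟩ : PP)⁻¹ : PP) = y := by group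
      rw [this]; exact hy

/-- A `p'`-element centralizing the `p`-torsion of an abelian group `U` it normalizes centralizes `U`. -/
theorem commute_of_omega {U : Subgroup G} (hUc : ∀ x ∈ U, ∀ y ∈ U, x * y = y * x) (hUp : IsPGroup p U)
    {y : G} (hny : (orderOf y).Coprime p) (hyN : ∀ u ∈ U, y * u * y⁻¹ ∈ U)
    (hy : ∀ u ∈ U, u ^ p = 1 → y * u = u * y) : ∀ u ∈ U, y * u = u * y := by
  have key : ∀ k : ℕ, ∀ u ∈ U, u ^ (p ^ k) = 1 → y * u = u * y := by
    intro k
    induction k with
    | zero =>
      intro u _ h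
      simp only [pow_zero, pow_one] at h
      simp [h]
    | succ k ih =>
      intro u hu hk
      have h1 : y * u ^ p = u ^ p * y := by
        apply ih _ (U.pow_mem hu p)
        rw [← pow_mul, mul_comm, ← pow_succ]
        exact hk
      set w := y * u * y⁻¹ with hw
      have hwU : w ∈ U := hyN u hu
      set v := w * u⁻¹ with hv
      have hvU : v ∈ U := U.mul_mem hwU (U.inv_mem hu)
      have hwp : w ^ p = u ^ p := by
        rw [hw, conj_pow, h1, mul_inv_cancel_right]
      have hcomm : Commute w u⁻¹ := hUc _ hwU _ (U.inv_mem hu)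
      have hvp : v ^ p = 1 := by
        rw [hv, hcomm.mul_pow, hwp, inv_pow, mul_inv_cancel]
      have hyv : y * v = v * y := hy v hvU hvp
      have hyu : y * u * y⁻¹ = v * u := by
        show w = v * u
        rw [hv, inv_mul_cancel_right]
      have hpow : ∀ n : ℕ, y ^ n * u * (y ^ n)⁻¹ = v ^ n * u := by
        intro n
        induction n with
        | zero => simp
        | succ n ihn =>
          rw [pow_succ' y, pow_succ' v]
          have e : y * y ^ n * u * (y * y ^ n)⁻¹ = y * (y ^ n * u * (y ^ n)⁻¹) * y⁻¹ := by group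
          rw [e, ihn]
          have e2 : y * (v ^ n * u) * y⁻¹ = (y * v ^ n * y⁻¹) * (y * u * y⁻¹) := by group
          rw [e2, hyu]
          have e3 : y * v ^ n * y⁻¹ = v ^ n := by
            rw [(Commute.pow_right hyv n).eq, mul_inv_cancel_right]
          rw [e3, ← mul_assoc, ← pow_succ, pow_succ']
      have hn := hpow (orderOf y)
      rw [pow_orderOf_eq_one, one_mul, inv_one, mul_one] at hn
      have hvn : v ^ orderOf y = 1 := by
        have := mul_right_cancel (a := v ^ orderOf y) (b := u) (c := 1) (by rw [one_mul]; exact hn.symm)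
        exact this
      have hv1 : v = 1 := by
        have h3 : orderOf v ∣ orderOf y := orderOf_dvd_of_pow_eq_one hvn
        have h4 : orderOf v ∣ p := orderOf_dvd_of_pow_eq_one hvp
        have h5 : orderOf v ∣ 1 := by
          rw [← Nat.Coprime.gcd_eq_one hny]
          exact Nat.dvd_gcd h3 h4
        exact orderOf_eq_one_iff.mp (Nat.dvd_one.mp h5)
      rw [hv1, one_mul] at hyu
      have : y * u = (y * u * y⁻¹) * y := by group
      rw [this, hyu]
  intro u hu
  obtain ⟨k, hk⟩ := IsPGroup.iff_card.mp hUp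
  apply key k u hu
  have h1 := pow_card_eq_one' (G := U) (x := ⟨u, hu⟩)
  rw [hk] at h1
  simpa using congrArg Subtype.val h1

end rep

section config

variable {G : Type u} [Group G] [Finite G] {K : Subgroup G}

theorem thompson_eq_sSup (P : Subgroup G) :
    thompsonSubgroupOf p P = sSup (maxFam (clsEA p) P) := by
  apply le_antisymm
  · unfold thompsonSubgroupOf thompsonSubgroup
    rw [Subgroup.map_le_iff_le_comap]
    apply sSup_le
    intro A0 hA0
    have h1 : A0 ∈ {A0 : Subgroup P | A0.map P.subtype ∈ maxFam (clsEA p) P} := by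
      rw [fam_EA_eq]; exact hA0
    intro x hx
    exact (le_sSup h1 : A0.map P.subtype ≤ _) ⟨x, hx, rfl⟩
  · apply sSup_le
    intro A hA
    have h1 : A.subgroupOf P ∈ {A0 : Subgroup P | A0.map P.subtype ∈ maxFam (clsEA p) P} := by
      show (A.subgroupOf P).map P.subtype ∈ maxFam (clsEA p) P
      rw [Subgroup.map_subgroupOf_eq_of_le hA.1]; exact hA
    rw [fam_EA_eq] at h1
    intro x hx
    exact ⟨⟨x, hA.1 hx⟩, le_sSup h1 hx, rfl⟩

/-- If all the members of the family lie in `O_p(G)`, the Thompson subgroup is normal. -/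
theorem thompson_normal_of_le (T : Sylow p G)
    (hA : ∀ A ∈ maxFam (clsEA p) (T : Subgroup G), A ≤ pCore p G) :
    (thompsonSubgroupOf p (T : Subgroup G)).Normal := by
  rw [thompson_eq_sSup]
  constructor
  intro n hn g
  have h1 : sSup (maxFam (clsEA p) (T : Subgroup G)) ≤
      (sSup (maxFam (clsEA p) (T : Subgroup G))).comap (MulAut.conj g).toMonoidHom := by
    apply sSup_le
    intro A hAm x hx
    have hR : (pCore p G).Normal := Cfsg.Agent.Lib.BauBlock2.pCore_normal p
    have hmem : A.map (MulAut.conj g).toMonoidHom ∈ maxFam (clsEA p) (T : Subgroup G) := by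
      refine ⟨?_, clsEA_map (MulAut.conj g) A hAm.2.1, ?_⟩
      · rintro _ ⟨a, ha, rfl⟩
        exact pCore_le_sylow p T (hR.conj_mem a (hA A hAm ha) g)
      · intro B hB hBc
        rw [card_map_conj]
        exact hAm.2.2 B hB hBc
    exact (le_sSup hmem : A.map (MulAut.conj g).toMonoidHom ≤ _) ⟨x, hx, rfl⟩
  exact h1 hn

/-- Order-`p` elements commuting with a member of the family lie in it. -/
theorem mem_maxFam_of_comm {P : Subgroup G} {A : Subgroup G} (hA : A ∈ maxFam (clsEA p) P) {x : G} (hxP : x ∈ P)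
    (hx : x ^ p = 1) (hc : x ∈ Subgroup.centralizer (A : Set G)) : x ∈ A := by
  have h1 : A.subgroupOf P ∈ {A0 : Subgroup P | A0.map P.subtype ∈ maxFam (clsEA p) P} := by
    show (A.subgroupOf P).map P.subtype ∈ maxFam (clsEA p) P
    rw [Subgroup.map_subgroupOf_eq_of_le hA.1]; exact hA
  rw [fam_EA_eq] at h1
  have h2 : (⟨x, hxP⟩ : P) ∈ A.subgroupOf P := by
    apply mem_of_mem_max h1
    · exact Subtype.ext hx
    · rw [Subgroup.mem_centralizer_iff]
      intro a ha
      apply Subtype.ext
      exact (Subgroup.mem_centralizer_iff.mp hc) a.1 ha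
  exact h2

/-- `Ω₁Z(J(P))`, as an intersection. -/
abbrev Om (p : ℕ) (P : Subgroup G) : Subgroup G := sInf (maxFam (clsEA p) P)

/-- If some member of the family is not in `O_p(G)`, some element outside `T` centralizes `Ω₁Z(J(T))`. -/
theorem exists_cent_of_not_le (T : Sylow p G) (h : Config p G T K) (hp2 : p ≠ 2)
    (hA : ¬ ∀ A ∈ maxFam (clsEA p) (T : Subgroup G), A ≤ pCore p G) :
    ∃ c : G, c ∉ (T : Subgroup G) ∧ c ∈ Subgroup.centralizer (Om p (T : Subgroup G) : Set G) := by
  by_contra hcon
  push_neg at hcon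
  apply hA
  intro A hAm
  haveI hn : (Om p (T : Subgroup G)).Normal := config_sInf_EA_normal T h hp2
  have h1 : Subgroup.centralizer (Om p (T : Subgroup G) : Set G) ≤ (T : Subgroup G) := by
    intro c hc
    by_contra hcT
    exact hcon c hcT hc
  have h2 : Subgroup.centralizer (Om p (T : Subgroup G) : Set G) ≤ pCore p G :=
    le_pCore inferInstance (T.isPGroup'.to_le h1)
  intro x hx
  apply h2
  rw [Subgroup.mem_centralizer_iff]
  intro o ho
  have ho' : o ∈ A := (Subgroup.mem_sInf.mp ho) A hAm
  exact ea_comm hAm.2.1 ho' hx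

/-- A subgroup normalized by `T` and by an element outside `T` is normal. -/
theorem normal_of_coatom (T : Subgroup G) (hT : IsCoatom T) (W : Subgroup G) (hW : T ≤ Subgroup.normalizer (W : Set G))
    {c : G} (hcT : c ∉ T) (hc : c ∈ Subgroup.normalizer (W : Set G)) : W.Normal := by
  rw [← Subgroup.normalizer_eq_top_iff]
  apply hT.2
  exact (SetLike.lt_iff_le_and_exists.mpr ⟨hW, c, hc, hcT⟩)

theorem normalizer_of_centralizer {W O : Subgroup G} (hWO : W ≤ O) {c : G}
    (hc : c ∈ Subgroup.centralizer (O : Set G)) : c ∈ Subgroup.normalizer (W : Set G) := by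
  rw [Subgroup.mem_normalizer_iff]
  intro x
  constructor
  · intro hx
    have : c * x = x * c := (Subgroup.mem_centralizer_iff.mp hc x (hWO hx)).symm
    rw [this, mul_inv_cancel_right]
    exact hx
  · intro hx
    have h2 : c * (c * x * c⁻¹) = (c * x * c⁻¹) * c := (Subgroup.mem_centralizer_iff.mp hc _ (hWO hx)).symm
    have h3 : c * x = (c * x * c⁻¹) * c := by group
    have h4 : x = c * x * c⁻¹ := by
      have := h3
      rw [← h2] at this
      exact mul_left_cancel this
    rw [h4]
    exact hx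

/-- `W(T)` is a functor. -/
theorem isCharPFunctor_stable : IsCharPFunctor.{u} p (fun Q _ => stableNormalClosure p Q) := by
  refine ⟨?_, ?_⟩
  · intro Q _ _ hQ hnt
    exact stable_ne_bot hQ
  · intro Q R _ _ _ _ φ
    exact map_stable φ

/-- `W(T)` is normal in a configuration. -/
theorem stable_normal_config (T : Sylow p G) (h : Config p G T K) (hp2 : p ≠ 2) :
    (inducedFunctor (fun Q _ => stableNormalClosure p Q) (T : Subgroup G)).Normal := by
  by_cases hA : ∀ A ∈ maxFam (clsEA p) (T : Subgroup G), A ≤ pCore p G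
  · have hJ := thompson_normal_of_le T hA
    have hτ : IsStableEmbedding p (T : Subgroup G).subtype := by
      refine ⟨Subgroup.subtype_injective _, inferInstance, ⟨T, by simp⟩, h.cent, hJ, ?_⟩
      intro V _ hV
      refine config_pStable h T.isPGroup' hp2 V (T.isPGroup'.to_le (hV.trans (Subgroup.map_subtype_le _)))
    exact (stable_mem_Fam p).2 G _ hτ
  · obtain ⟨c, hcT, hc⟩ := exists_cent_of_not_le T h hp2 hA
    have hW := isCharPFunctor_stable.{u} (p := p)
    obtain ⟨h1, h2⟩ := char_inducedFunctor hW (T : Subgroup G) T.isPGroup'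
    refine normal_of_coatom _ h.coatom _ ?_ hcT (normalizer_of_centralizer (O := Om p (T : Subgroup G)) ?_ hc)
    · intro x hx
      exact mem_normalizer_of_char h1 h2 (Subgroup.le_normalizer hx)
    · have e := omega_eq_sInf (p := p) (T : Subgroup G) T.isPGroup'
      show (stableNormalClosure p (T : Subgroup G)).map (T : Subgroup G).subtype ≤ sInf (maxFam (clsEA p) (T : Subgroup G))
      rw [← e]
      exact Subgroup.map_mono (stable_le_omegaCT p)

/-- **Thompson's normal `p`-complement theorem in the form with `W(S)`.** -/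
theorem hasNPC_of_stable (hp2 : p ≠ 2) (S : Sylow p G)
    (hN : HasNormalPComplement p (Subgroup.normalizer (((stableNormalClosure p (S : Subgroup G)).map
      (S : Subgroup G).subtype) : Set G))) : HasNormalPComplement p G :=
  functor_reduction (isCharPFunctor_stable.{u} (p := p)) (Sec := fun _ _ => True)
    (fun _ _ _ _ => trivial) (fun _ _ _ _ _ => trivial)
    (fun _ _ _ T _ _ hK => stable_normal_config T hK hp2) trivial S hN

/-- The centre as a functor. -/
def cenF : ∀ (Q : Type u) [Group Q], Subgroup Q := fun Q _ => Subgroup.center Q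

theorem isCharPFunctor_cen : IsCharPFunctor.{u} p cenF := by
  refine ⟨?_, ?_⟩
  · intro Q _ _ hQ hnt h
    haveI : Nontrivial (Subgroup.center Q) := hQ.center_nontrivial
    exact (Subgroup.nontrivial_iff_ne_bot _).mp this h
  · intro Q R _ _ _ _ φ
    ext y
    constructor
    · rintro ⟨x, hx, rfl⟩
      have hx' : x ∈ Subgroup.center Q := hx
      show φ x ∈ Subgroup.center R
      rw [Subgroup.mem_center_iff] at hx' ⊢
      intro r
      obtain ⟨q, rfl⟩ := φ.surjective r
      rw [← map_mul, ← map_mul, hx']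
    · intro hy
      have hy' : y ∈ Subgroup.center R := hy
      refine ⟨φ.symm y, ?_, by simp⟩
      show φ.symm y ∈ Subgroup.center Q
      rw [Subgroup.mem_center_iff] at hy' ⊢
      intro q
      apply φ.injective
      rw [map_mul, map_mul, MulEquiv.apply_symm_apply, hy']

theorem mem_induced_cen {T : Subgroup G} {x : G} :
    x ∈ inducedFunctor cenF T ↔ x ∈ T ∧ x ∈ Subgroup.centralizer (T : Set G) := by
  constructor
  · rintro ⟨y, hy, rfl⟩
    refine ⟨y.2, ?_⟩
    rw [Subgroup.mem_centralizer_iff]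
    intro t ht
    have := (Subgroup.mem_center_iff.mp hy) ⟨t, ht⟩
    exact congrArg Subtype.val this
  · rintro ⟨h1, h2⟩
    refine ⟨⟨x, h1⟩, ?_, rfl⟩
    show (⟨x, h1⟩ : T) ∈ Subgroup.center T
    rw [Subgroup.mem_center_iff]
    intro t
    apply Subtype.ext
    exact (Subgroup.mem_centralizer_iff.mp h2) t.1 t.2

/-- The dichotomy for configurations. -/
theorem config_dichotomy (T : Sylow p G) (h : Config p G T K) (hp2 : p ≠ 2) :
    (thompsonSubgroupOf p (T : Subgroup G)).Normal ∨
      Subgroup.centralizer ((inducedFunctor cenF (T : Subgroup G) : Subgroup G) : Set G) = ⊤ := by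
  classical
  by_cases hA : ∀ A ∈ maxFam (clsEA p) (T : Subgroup G), A ≤ pCore p G
  · exact Or.inl (thompson_normal_of_le T hA)
  right
  set R := pCore p G with hR
  haveI hRn : R.Normal := Cfsg.Agent.Lib.BauBlock2.pCore_normal p
  have hRT : R ≤ (T : Subgroup G) := pCore_le_sylow p T
  have hRp : IsPGroup p R := isPGroup_pCore p
  set Zc : Subgroup G := R ⊓ Subgroup.centralizer (R : Set G) with hZc
  haveI hZcn : Zc.Normal := inferInstance
  have hZcc : ∀ x ∈ Zc, ∀ y ∈ Zc, x * y = y * x := by
    intro x hx y hy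
    exact (Subgroup.mem_centralizer_iff.mp hy.2 x hx.1)
  have hZcp : IsPGroup p Zc := hRp.to_le inf_le_left
  set W : Subgroup G := inducedFunctor cenF (T : Subgroup G) with hW
  have hWZc : W ≤ Zc := by
    intro w hw
    obtain ⟨h1, h2⟩ := mem_induced_cen.mp hw
    have h3 : w ∈ Subgroup.centralizer (R : Set G) := Subgroup.centralizer_le hRT h2
    exact ⟨h.cent h3, h3⟩
  set D : Subgroup G := Subgroup.centralizer (Zc : Set G) with hD
  haveI hDn : D.Normal := inferInstance
  by_cases hDT : D ≤ (T : Subgroup G)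
  · exfalso
    have hDR : D ≤ R := le_pCore hDn (T.isPGroup'.to_le hDT)
    set B : Subgroup G := Cfsg.omegaOneCenter p R with hB
    haveI hBn : B.Normal := Cfsg.Agent.Lib.BauBlock2.omegaCore_normal p
    have hBe : IsElementaryAbelian p B := Cfsg.Agent.Lib.BauBlock2.omegaOneCenter_ea p R
    have hBR : B ≤ R := Cfsg.Agent.Lib.BauBlock2.omegaOneCenter_le p R
    have hBp : IsPGroup p B := hRp.to_le hBR
    set C : Subgroup G := Subgroup.centralizer (B : Set G) with hC
    haveI hCn : C.Normal := inferInstance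
    have hcoprime : ∀ y ∈ C, (orderOf y).Coprime p → y ∈ D := by
      intro y hy hny
      have h1 := commute_of_omega hZcc hZcp hny (fun u hu => hZcn.conj_mem u hu y) (by
        intro u hu hup
        have h2 : u ∈ B := mem_omegaOne hu hup
        exact (Subgroup.mem_centralizer_iff.mp hy u h2).symm)
      rw [hD, Subgroup.mem_centralizer_iff]
      intro u hu
      exact (h1 u hu).symm
    have hCp : IsPGroup p C := by
      rw [IsPGroup.iff_card]
      refine ⟨_, Nat.eq_prime_pow_of_unique_prime_dvd Nat.card_pos.ne' ?_⟩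
      intro q hq hqd
      by_contra hne
      haveI : Fact q.Prime := ⟨hq⟩
      obtain ⟨y, hy⟩ := exists_prime_orderOf_dvd_card' (G := C) q hqd
      have hy1 : orderOf (y : G) = q := by rw [Subgroup.orderOf_coe, hy]
      have hy2 := hcoprime y y.2 (by
        rw [hy1]
        exact (Nat.coprime_primes hq hp.out).mpr hne)
      obtain ⟨k, hk⟩ := T.isPGroup' ⟨y, hDT hy2⟩
      have hy4 : (y : G) ^ (p ^ k) = 1 := congrArg Subtype.val hk
      have hy5 := orderOf_dvd_of_pow_eq_one hy4
      rw [hy1] at hy5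
      exact hne ((Nat.prime_dvd_prime_iff_eq hq hp.out).mp (hq.dvd_of_dvd_pow hy5))
    have hCR : C ≤ R := le_pCore hCn hCp
    have hRC : R ≤ C := by
      intro r hr
      rw [hC, Subgroup.mem_centralizer_iff]
      intro b hb
      exact (Subgroup.mem_centralizer_iff.mp (Cfsg.Agent.Lib.BauBlock2.omegaOneCenter_le_centralizer p R hb) r hr).symm
    push_neg at hA
    obtain ⟨A, hAm, hAR⟩ := hA
    have hBA : ¬ B ≤ A := by
      intro hle
      apply hAR
      refine le_trans ?_ hCR
      intro a ha
      rw [hC, Subgroup.mem_centralizer_iff]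
      intro b hb
      exact ea_comm hAm.2.1 (hle hb) ha
    have hBT : B ≤ (T : Subgroup G) := hBR.trans hRT
    have hcomm : ⁅B, B⁆ = ⊥ := by
      rw [eq_bot_iff, Subgroup.commutator_le]
      intro x hx y hy
      rw [Subgroup.mem_bot, commutatorElement_eq_one_iff_mul_comm]
      exact ea_comm hBe hx hy
    obtain ⟨A₀, hA₀, -, hBA₀, hBN⟩ := maxFam_rep (fun A hA => fun x hx y hy => ea_comm hA hx hy) hrep_EA hp2 T B hBT hBn
      A hAm (by rw [hcomm]; exact bot_le) hBA
    have key : ∀ a ∈ A₀, a ∈ C := by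
      intro a ha
      have hq : ⁅⁅B, Subgroup.zpowers a⁆, Subgroup.zpowers a⁆ = ⊥ := by
        apply quad_of_elem (fun v hv => hBn.conj_mem v hv a)
        intro v hv
        have h1 : v * a * v⁻¹ ∈ A₀ := (Subgroup.mem_normalizer_iff.mp (hBN hv) a).mp ha
        have h2 : ⁅v, a⁆ ∈ A₀ := by
          rw [commutatorElement_def]
          exact A₀.mul_mem h1 (A₀.inv_mem ha)
        rw [commutatorElement_eq_one_iff_mul_comm]
        exact ea_comm hA₀.2.1 h2 ha
      have hst := config_pStable h T.isPGroup' hp2 B hBp a hq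
      haveI hPn : (pCore p (G ⧸ C)).Normal := Cfsg.Agent.Lib.BauBlock2.pCore_normal p
      have h3 : ((pCore p (G ⧸ C)).comap (QuotientGroup.mk' C)).Normal := hPn.comap _
      have h4 : IsPGroup p ((pCore p (G ⧸ C)).comap (QuotientGroup.mk' C)) := by
        apply IsPGroup.comap_of_ker_isPGroup (isPGroup_pCore p)
        rw [QuotientGroup.ker_mk']
        exact hCp
      have h5 := le_pCore h3 h4
      exact hRC (h5 hst)
    apply hBA₀
    intro b hb
    apply mem_maxFam_of_comm hA₀ (hBT hb) (hBe.2 b hb)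
    rw [Subgroup.mem_centralizer_iff]
    intro a ha
    exact (Subgroup.mem_centralizer_iff.mp (key a ha) b hb).symm ▸ rfl
  · obtain ⟨c, hcD, hcT⟩ := SetLike.not_le_iff_exists.mp hDT
    have h1 : D ⊔ (T : Subgroup G) = ⊤ := by
      apply h.coatom.2
      refine SetLike.lt_iff_le_and_exists.mpr ⟨le_sup_right, c, Subgroup.mem_sup_left hcD, hcT⟩
    rw [eq_top_iff, ← h1]
    apply sup_le
    · exact Subgroup.centralizer_le hWZc
    · intro t ht
      rw [Subgroup.mem_centralizer_iff]
      intro w hw
      obtain ⟨_, h2⟩ := mem_induced_cen.mp hw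
      exact (Subgroup.mem_centralizer_iff.mp h2 t ht).symm

/-- The condition with the centralizer. -/
def cCond (p : ℕ) (X : Type u) [Group X] (T : Subgroup X) : Prop :=
  HasNormalPComplement p (Subgroup.centralizer ((inducedFunctor cenF T : Subgroup X) : Set X))

/-- The functor `J`. -/
abbrev thF (p : ℕ) : ∀ (Q : Type u) [Group Q], Subgroup Q := fun Q _ => thompsonSubgroup p Q

theorem centralizer_map_equiv {X Y : Type*} [Group X] [Group Y] (φ : X ≃* Y) (W : Subgroup X) :
    Subgroup.centralizer ((W.map φ.toMonoidHom : Subgroup Y) : Set Y) =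
      (Subgroup.centralizer (W : Set X)).map φ.toMonoidHom := by
  ext y
  constructor
  · intro hy
    refine ⟨φ.symm y, ?_, by simp⟩
    rw [SetLike.mem_coe, Subgroup.mem_centralizer_iff]
    intro w hw
    apply φ.injective
    have := Subgroup.mem_centralizer_iff.mp hy (φ w) ⟨w, hw, rfl⟩
    simpa using this
  · rintro ⟨x, hx, rfl⟩
    rw [Subgroup.mem_centralizer_iff]
    rintro _ ⟨w, hw, rfl⟩
    have := Subgroup.mem_centralizer_iff.mp hx w hw
    show φ w * φ x = φ x * φ w
    rw [← map_mul, ← map_mul, this]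

/-- The axioms for the pair of conditions. -/
theorem axioms_pair (hp2 : p ≠ 2) :
    Axioms p (fun _ _ => True) (fun X _ T => fCond p (thF.{u} p) X T ∧ cCond.{u} p X T) := by
  have hJ := isCharPFunctor_thompson.{u} (p := p)
  have hZ := isCharPFunctor_cen.{u} (p := p)
  have A1 := axioms_functor hJ (Sec := fun _ _ => False) (fun _ _ _ h => h) (fun _ _ _ _ h => h)
    (fun _ _ _ _ _ h => h.elim)
  refine ⟨fun _ _ _ _ => trivial, fun _ _ _ _ _ => trivial, ?_, ?_, ?_, ?_, ?_, ?_⟩
  · intro X _ _ T T' hC
    refine ⟨A1.conj X T T' hC.1, ?_⟩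
    obtain ⟨g, rfl⟩ := MulAction.exists_smul_eq X T T'
    have h1 : ((g • T : Sylow p X) : Subgroup X) = (T : Subgroup X).map (MulAut.conj g).toMonoidHom := rfl
    unfold cCond
    rw [h1, ← map_inducedFunctor hZ _ T.isPGroup' _ (by
      intro x _ hx
      have : (MulAut.conj g) x = 1 := hx
      exact (map_eq_one_iff _ (MulAut.conj g).injective).mp this), centralizer_map_equiv]
    exact (hasNPC_congr (Subgroup.equivMapOfInjective _ _ (MulAut.conj g).injective)).mp hC.2
  · intro X _ _ T Y hle hC
    refine ⟨A1.sub X T Y hle hC.1, ?_⟩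
    have hT0p : IsPGroup p ((T : Subgroup X).subgroupOf Y) :=
      T.isPGroup'.comap_of_injective Y.subtype Y.subtype_injective
    have h1 : (inducedFunctor cenF ((T : Subgroup X).subgroupOf Y)).map Y.subtype =
        inducedFunctor cenF (T : Subgroup X) := by
      rw [map_inducedFunctor hZ _ hT0p Y.subtype (fun x _ hx => Subtype.ext hx)]
      rw [Subgroup.map_subgroupOf_eq_of_le hle]
    have h2 : (Subgroup.centralizer ((inducedFunctor cenF ((T : Subgroup X).subgroupOf Y) : Subgroup Y) : Set Y)).map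
        Y.subtype ≤ Subgroup.centralizer ((inducedFunctor cenF (T : Subgroup X) : Subgroup X) : Set X) := by
      rw [← h1]
      rintro _ ⟨y, hy, rfl⟩
      rw [Subgroup.mem_centralizer_iff]
      rintro _ ⟨w, hw, rfl⟩
      have := Subgroup.mem_centralizer_iff.mp hy w hw
      exact congrArg Subtype.val this
    have h3 := hasNPC_of_le h2 hC.2
    exact (hasNPC_congr (Subgroup.equivMapOfInjective _ Y.subtype Y.subtype_injective)).mpr h3
  · intro X _ _ T M _ hc hC
    refine ⟨A1.quot X T M hc hC.1, ?_⟩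
    set π : X →* X ⧸ M := QuotientGroup.mk' M with hπ
    obtain ⟨k, hk⟩ := IsPGroup.iff_card.mp T.isPGroup'
    have hd : Disjoint (T : Subgroup X) M := by
      apply Subgroup.disjoint_of_coprime_natCard
      rw [hk]
      exact (Nat.Coprime.pow_right k hc).symm
    have hinj : ∀ x ∈ (T : Subgroup X), π x = 1 → x = 1 := by
      intro x hx h1
      have h2 : x ∈ M := (QuotientGroup.eq_one_iff x).mp h1
      exact Subgroup.disjoint_def.mp hd hx h2
    have h1 := map_inducedFunctor hZ _ T.isPGroup' π hinj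
    unfold cCond
    rw [← h1]
    set W := inducedFunctor cenF (T : Subgroup X) with hW
    have hWT : W ≤ (T : Subgroup X) := Subgroup.map_subtype_le _
    have hDp : IsPGroup p W := T.isPGroup'.to_le hWT
    have h2 := normalizer_map_coprime (p := p) W M hDp hc
    have h4 : Subgroup.centralizer ((W.map π : Subgroup (X ⧸ M)) : Set (X ⧸ M)) =
        (Subgroup.centralizer (W : Set X)).map π := by
      apply le_antisymm
      · intro y hy
        have hyN : y ∈ Subgroup.normalizer ((W.map π : Subgroup (X ⧸ M)) : Set (X ⧸ M)) := by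
          rw [Subgroup.mem_normalizer_iff]
          intro z
          have hyz := fun hz => Subgroup.mem_centralizer_iff.mp hy z hz
          constructor
          · intro hz
            have := hyz hz
            rw [← this, mul_inv_cancel_right]
            exact hz
          · intro hz
            have h5 := Subgroup.mem_centralizer_iff.mp hy _ hz
            have h6 : z = y * z * y⁻¹ := by
              have h7 : y * (y * z * y⁻¹) = y * z := by
                rw [← h5]; group
              exact (mul_left_cancel h7).symm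
            rw [h6]
            exact hz
        obtain ⟨n, hn, rfl⟩ := h2 hyN
        refine ⟨n, ?_, rfl⟩
        rw [SetLike.mem_coe, Subgroup.mem_centralizer_iff]
        intro w hw
        have h5 : n * w * n⁻¹ ∈ W := (Subgroup.mem_normalizer_iff.mp hn w).mp hw
        have h6 : π (n * w * n⁻¹) = π w := by
          have e : π w * π n = π n * π w := Subgroup.mem_centralizer_iff.mp hy (π w) ⟨w, hw, rfl⟩
          rw [map_mul, map_mul, map_inv, ← e, mul_inv_cancel_right]
        have h7 : (n * w * n⁻¹) * w⁻¹ = 1 := by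
          apply hinj _ ((T : Subgroup X).mul_mem (hWT h5) ((T : Subgroup X).inv_mem (hWT hw)))
          rw [map_mul, map_inv, h6, mul_inv_cancel]
        have h8 : n * w * n⁻¹ = w := mul_inv_eq_one.mp h7
        exact (mul_inv_eq_iff_eq_mul.mp h8).symm
      · rintro _ ⟨x, hx, rfl⟩
        rw [Subgroup.mem_centralizer_iff]
        rintro _ ⟨w, hw, rfl⟩
        have := Subgroup.mem_centralizer_iff.mp hx w hw
        rw [← map_mul, ← map_mul, this]
    rw [h4]
    exact hasNPC_of_surjective (π.subgroupMap _) (π.subgroupMap_surjective _) hC.2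
  · intro X _ _ _ T hne h
    obtain ⟨h1, h2⟩ := char_inducedFunctor hJ (T : Subgroup X) T.isPGroup'
    obtain ⟨h3, h4⟩ := char_inducedFunctor hZ (T : Subgroup X) T.isPGroup'
    refine ⟨h _ (inducedFunctor_ne_bot hJ _ T.isPGroup' hne) h1 h2, ?_⟩
    have h5 := h _ (inducedFunctor_ne_bot hZ _ T.isPGroup' hne) h3 h4
    exact hasNPC_of_le (fun c hc => normalizer_of_centralizer le_rfl hc) h5
  · intro X _ _ _ T hn hC
    obtain ⟨h1, h2⟩ := char_inducedFunctor hJ (T : Subgroup X) T.isPGroup'
    have hnorm : (inducedFunctor (thF p) (T : Subgroup X)).Normal := by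
      rw [← Subgroup.normalizer_eq_top_iff, eq_top_iff]
      intro x _
      have hx : x ∈ Subgroup.normalizer ((T : Subgroup X) : Set X) := by
        rw [Subgroup.normalizer_eq_top_iff.mpr hn]; trivial
      exact mem_normalizer_of_char h1 h2 hx
    exact hasNPC_of_eq_top (Subgroup.normalizer_eq_top_iff.mpr hnorm) hC.1
  · intro X _ _ T K _ hK hC
    rcases config_dichotomy T hK hp2 with h | h
    · exact hasNPC_of_eq_top (Subgroup.normalizer_eq_top_iff.mpr h) hC.1
    · exact hasNPC_of_eq_top h hC.2

/-- **Thompson's normal `p`-complement theorem.** -/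
theorem hasNPC_of_J_Z (hp2 : p ≠ 2) (P : Sylow p G)
    (h1 : HasNormalPComplement p (Subgroup.normalizer (thompsonSubgroupOf p (P : Subgroup G) : Set G)))
    (h2 : HasNormalPComplement p (Subgroup.centralizer (((P : Subgroup G) ⊓ Subgroup.centralizer (P : Set G)) : Set G))) :
    HasNormalPComplement p G := by
  have e : inducedFunctor cenF (P : Subgroup G) = (P : Subgroup G) ⊓ Subgroup.centralizer (P : Set G) := by
    ext x
    rw [mem_induced_cen, Subgroup.mem_inf]
    exact Iff.rfl
  refine reduction (axioms_pair hp2) trivial P ⟨h1, ?_⟩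
  unfold cCond
  rw [e]
  exact h2

end config

end Cfsg.Agent.Lib.NPCJe41
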