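import Mathlib
import Cfsg.Prelude.Def_LocalEven
import Cfsg.Prelude.Def_ConjugacyFunctors
import Cfsg.Agent.Lib.NPCSection

/-!
# Groups with an "abelian section": `p`-stability of all their sections
-/

set_option autoImplicit false

namespace Cfsg.Agent.Lib.NPCStable

open Cfsg Cfsg.Agent.Lib.PCore Cfsg.Agent.Lib.NPCBasic Cfsg.Agent.Lib.CharTwoLocal
open Cfsg.Agent.Lib.NPCConfig Cfsg.Agent.Lib.NPCReduction Cfsg.Agent.Lib.NPCFunctor Cfsg.Agent.Lib.NPCThompson
open Cfsg.Agent.Lib.NPCSection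

universe u

variable {p : ℕ} [hp : Fact p.Prime]

/-- `Z` has normal subgroups `L ≤ K`, `L` a `p`-group, `K / L` abelian of order prime to `p`, `Z / K` a `p`-group. -/
def AbSec (p : ℕ) (Z : Type u) [Group Z] : Prop :=
  ∃ L K : Subgroup Z, L.Normal ∧ K.Normal ∧ IsPGroup p L ∧ (∀ x ∈ K, ∀ y ∈ K, x * y * x⁻¹ * y⁻¹ ∈ L) ∧
    (∃ N : ℕ, N.Coprime p ∧ ∀ x ∈ K, x ^ N ∈ L) ∧ ∃ j : ℕ, K.index = p ^ j

theorem AbSec.subgroup {Z : Type u} [Group Z] [Finite Z] (h : AbSec p Z) (Y : Subgroup Z) : AbSec p Y := by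
  obtain ⟨L, K, hL, hK, hLp, hcomm, ⟨N, hN, hpow⟩, j, hj⟩ := h
  refine ⟨L.subgroupOf Y, K.subgroupOf Y, hL.subgroupOf Y, hK.subgroupOf Y, ?_, ?_, ⟨N, hN, ?_⟩, ?_⟩
  · exact hLp.comap_of_injective Y.subtype Y.subtype_injective
  · intro x hx y hy
    rw [Subgroup.mem_subgroupOf]
    exact hcomm x hx y hy
  · intro x hx
    rw [Subgroup.mem_subgroupOf]
    exact hpow x hx
  · have h1 : K.relIndex Y ∣ K.index := Subgroup.relIndex_dvd_index_of_normal K Y
    rw [hj] at h1
    obtain ⟨i, -, hi⟩ := (Nat.dvd_prime_pow hp.out).mp h1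
    exact ⟨i, hi⟩

theorem AbSec.map_surjective {Z Z' : Type u} [Group Z] [Group Z'] [Finite Z] (h : AbSec p Z) (f : Z →* Z')
    (hf : Function.Surjective f) : AbSec p Z' := by
  obtain ⟨L, K, hL, hK, hLp, hcomm, ⟨N, hN, hpow⟩, j, hj⟩ := h
  refine ⟨L.map f, K.map f, hL.map f hf, hK.map f hf, hLp.map f, ?_, ⟨N, hN, ?_⟩, ?_⟩
  · rintro _ ⟨x, hx, rfl⟩ _ ⟨y, hy, rfl⟩
    exact ⟨_, hcomm x hx y hy, by simp only [map_mul, map_inv]⟩
  · rintro _ ⟨x, hx, rfl⟩
    exact ⟨_, hpow x hx, by simp only [map_pow]⟩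
  · have h1 : (K.map f).index ∣ K.index := Subgroup.index_map_dvd K hf
    rw [hj] at h1
    obtain ⟨i, -, hi⟩ := (Nat.dvd_prime_pow hp.out).mp h1
    exact ⟨i, hi⟩

theorem AbSec.of_config {X : Type u} [Group X] [Finite X] {T K : Subgroup X} (h : Config p X T K)
    (hT : IsPGroup p T) : AbSec p X := by
  obtain ⟨j, hj⟩ := config_index h hT
  exact ⟨pCore p X, K, inferInstance, h.normal, isPGroup_pCore p, h.comm, h.pow, j, hj⟩

/-- **A group with an abelian section is `p`-stable in the normalizer form**, `p` odd. -/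
theorem AbSec.normalizerPStable {Z : Type u} [Group Z] [Finite Z] (h : AbSec p Z) (hp2 : p ≠ 2) :
    IsNormalizerPStable p Z := by
  classical
  intro P hP g hg hq
  set N := Subgroup.normalizer (P : Set Z) with hNdef
  obtain ⟨L, K, hL, hK, hLp, hcomm, ⟨N₀, hN₀, hpow⟩, j, hj⟩ := h.subgroup N
  haveI := hL
  haveI := hK
  have hPN : P ≤ N := Subgroup.le_normalizer
  set V : Subgroup N := P.subgroupOf N with hV
  haveI hVn : V.Normal := Subgroup.normal_in_normalizer
  have hVp : IsPGroup p V := hP.comap_of_injective N.subtype N.subtype_injective |>.of_equiv (MulEquiv.refl _)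
  have hst : IsPStableOn p V :=
    Cfsg.Agent.Lib.PStableAb.isPStableOn_of_abelian hp2 hLp hcomm hN₀ hpow hj V hVp
  have hVmap : V.map N.subtype = P := Subgroup.map_subgroupOf_eq_of_le hPN
  have hzmap : (Subgroup.zpowers (⟨g, hg⟩ : N)).map N.subtype = Subgroup.zpowers g :=
    MonoidHom.map_zpowers _ _
  have hq' : ⁅⁅V, Subgroup.zpowers (⟨g, hg⟩ : N)⁆, Subgroup.zpowers (⟨g, hg⟩ : N)⁆ = ⊥ := by
    apply (Subgroup.map_injective N.subtype_injective)
    rw [Subgroup.map_bot, Subgroup.map_commutator, Subgroup.map_commutator, hVmap, hzmap]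
    exact hq
  have h1 := hst _ hq'
  have hE : Subgroup.centralizer (V : Set N) = (Subgroup.centralizer (P : Set Z)).subgroupOf N := by
    ext x
    rw [Subgroup.mem_subgroupOf, Subgroup.mem_centralizer_iff, Subgroup.mem_centralizer_iff]
    constructor
    · intro hx a ha
      have h2 := hx ⟨a, hPN ha⟩ (by
        show (⟨a, hPN ha⟩ : N) ∈ V
        rw [hV, Subgroup.mem_subgroupOf]
        exact ha)
      exact congrArg Subtype.val h2
    · intro hx a ha
      apply Subtype.ext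
      exact hx a ha
  have h2 := (Cfsg.Agent.Lib.CosetGraph2.mem_pCore_equiv_iff p (QuotientGroup.quotientMulEquivOfEq hE) _).mpr h1
  exact h2

/-- All sections of a group with an abelian section are `p`-stable. -/
theorem AbSec.section_normalizerPStable {Z : Type u} [Group Z] [Finite Z] (h : AbSec p Z) (hp2 : p ≠ 2)
    (K R : Subgroup Z) [hR : (R.subgroupOf K).Normal] : IsNormalizerPStable p (↥K ⧸ R.subgroupOf K) :=
  ((h.subgroup K).map_surjective (QuotientGroup.mk' _) (QuotientGroup.mk'_surjective _)).normalizerPStable hp2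

/-- Strong fusion control in a configuration forces normality. -/
theorem normal_of_controls {Y : Type u} [Group Y] [Finite Y] (T : Sylow p Y) (U : Subgroup Y)
    (hco : IsCoatom (T : Subgroup Y)) (hcent : Subgroup.centralizer (pCore p Y : Set Y) ≤ pCore p Y)
    (hTU : (T : Subgroup Y) ≤ Subgroup.normalizer (U : Set Y)) (hctl : ControlsStrongFusion p U) : U.Normal := by
  classical
  obtain ⟨T₁, -, hA⟩ := hctl
  by_cases hU : Subgroup.normalizer (U : Set Y) = ⊤
  · exact Subgroup.normalizer_eq_top_iff.mp hU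
  · exfalso
    have hNT : Subgroup.normalizer (U : Set Y) ≤ (T : Subgroup Y) := by
      by_contra hle
      exact hU (hco.2 _ (lt_of_le_not_ge hTU hle))
    apply hco.1
    rw [eq_top_iff]
    intro h _
    have hcT : pCore p Y ≤ (T₁ : Subgroup Y) := pCore_le_sylow p T₁
    obtain ⟨-, hx⟩ := hA (pCore p Y : Set Y) hcT
    obtain ⟨x, hxN, hxa⟩ := hx h (by
      rintro _ ⟨a, ha, rfl⟩
      exact hcT ((inferInstance : (pCore p Y).Normal).conj_mem a ha h))
    have h1 : x⁻¹ * h ∈ Subgroup.centralizer (pCore p Y : Set Y) := by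
      rw [Subgroup.mem_centralizer_iff]
      intro a ha
      have h2 := hxa a ha
      have h3 : h * a = x * a * x⁻¹ * h := by rw [← h2]; group
      calc a * (x⁻¹ * h) = x⁻¹ * (x * a * x⁻¹ * h) := by group
        _ = x⁻¹ * (h * a) := by rw [h3]
        _ = x⁻¹ * h * a := by group
    have h4 := pCore_le_sylow p T (hcent h1)
    have h5 := (T : Subgroup Y).mul_mem (hNT hxN) h4
    simpa using h5

end Cfsg.Agent.Lib.NPCStable
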