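import Mathlib
import Cfsg.Agent.Lib.NVChar
import Cfsg.Agent.Lib.Glauberman

/-!
# Even order vanishing elements of a common order

If all vanishing elements of even order of a solvable group have the same order, then the Sylow
`2`-subgroups of `G / O_2(G)` have order at most `2`.
-/

set_option autoImplicit false
set_option linter.unusedSectionVars false
set_option linter.unusedVariables false
set_option linter.style.haveILetI false

namespace Cfsg.Agent.Lib.NVTwo

open Cfsg Cfsg.Agent.Lib.NVOrbit Cfsg.Agent.Lib.NVChar Cfsg.Agent.Lib.NVIdem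
open Cfsg.Agent.Lib.PCore Cfsg.Agent.Lib.CharBasic
open Cfsg.Agent.Lib.NVTerm
open scoped commutatorElement

universe u

/-- The order condition on vanishing elements. -/
def PropP (Q : Type u) [Group Q] : Prop :=
  ∀ (q : Q) (m : ℕ), (∃ χ : IrrCharacter Q, (χ : Q → ℂ) q = 0) →
    (∃ χ : IrrCharacter Q, (χ : Q → ℂ) (q ^ m) = 0) → 2 ∣ orderOf (q ^ m) → Nat.Coprime m (orderOf q)

theorem PropP.of_surjective {Q Q' : Type u} [Group Q] [Group Q'] (f : Q →* Q')
    (hf : Function.Surjective f) (h : PropP Q) : PropP Q' := by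
  intro q' m h1 h2 h3
  obtain ⟨q, rfl⟩ := hf q'
  obtain ⟨χ₁, hχ₁⟩ := h1
  obtain ⟨χ₂, hχ₂⟩ := h2
  have h4 := h q m ⟨⟨(χ₁ : Q' → ℂ) ∘ f, isIrrCharacter_comp_of_surjective f hf χ₁.2⟩, hχ₁⟩
    ⟨⟨(χ₂ : Q' → ℂ) ∘ f, isIrrCharacter_comp_of_surjective f hf χ₂.2⟩, by
      show (χ₂ : Q' → ℂ) (f (q ^ m)) = 0
      rw [map_pow]
      exact hχ₂⟩
    (by
      rw [← map_pow] at h3
      exact h3.trans (orderOf_map_dvd f _))
  exact Nat.Coprime.coprime_dvd_right (orderOf_map_dvd f q) h4

section Regular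

variable {V : Type u} [AddCommGroup V] [Finite V]

/-- An abelian group of automorphisms of coprime order has a regular orbit. -/
theorem exists_regular_vec {p : ℕ} (hc : (Nat.card V).Coprime p) (A : Subgroup (Gam V))
    (hAc : ∀ a ∈ A, ∀ b ∈ A, a * b = b * a) (hAp : ∀ a ∈ A, ∃ k : ℕ, a ^ (p ^ k) = 1) :
    ∃ v : V, ∀ a ∈ A, a • v = v → a = 1 := by
  classical
  let R : Subring (AddMonoid.End V) := Subring.closure ((fun a : Gam V => (a : AddMonoid.End V)) '' A)
  have hR : ∀ x ∈ R, ∀ y ∈ R, x * y = y * x := closure_comm hAc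
  have hsum := sum_minIdems hR
  have hsumv : ∀ v : V, ∑ e ∈ minIdems R, e v = v := by
    intro v
    rw [← end_sum_apply, hsum]
    rfl
  have horth : ∀ e e' : AddMonoid.End V, IsMinIdem R e → IsMinIdem R e' → e ≠ e' → ∀ v, e (e' v) = 0 := by
    intro e e' he he' hne v
    have := minIdem_orth hR he he' hne
    exact congrArg (fun f : AddMonoid.End V => f v) this
  have hidem : ∀ e : AddMonoid.End V, IsMinIdem R e → ∀ v, e (e v) = e v := by
    intro e he v
    exact congrArg (fun f : AddMonoid.End V => f v) he.idem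
  have hwit : ∀ e, IsMinIdem R e → ∃ w : V, e w ≠ 0 := by
    intro e he
    by_contra hcon
    push Not at hcon
    exact he.ne (AddMonoidHom.ext hcon)
  choose! w hw using hwit
  refine ⟨∑ e ∈ minIdems R, e (w e), ?_⟩
  intro a ha hfix
  set v := ∑ e ∈ minIdems R, e (w e) with hv
  have hproj : ∀ e, IsMinIdem R e → e v = e (w e) := by
    intro e he
    rw [hv, map_sum, Finset.sum_eq_single_of_mem e (mem_minIdems.2 he)]
    · exact hidem e he _
    · intro e' he' hne
      exact horth e e' he (mem_minIdems.1 he') hne.symm _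
  apply units_eq_one_of_fix
  intro u
  have haR : (a : AddMonoid.End V) ∈ R := Subring.subset_closure ⟨a, ha, rfl⟩
  obtain ⟨k, hk⟩ := hAp a ha
  obtain ⟨e', he'R, he'i, he'f, he'm⟩ := exists_avg hc a k hk R haR
  have hfixe : ∀ e, IsMinIdem R e → ∀ x, a • (e x) = e x := by
    intro e he x
    have hae : (a : AddMonoid.End V) * e = e * (a : AddMonoid.End V) := hR _ haR _ he.mem
    -- `a` fixes `e v`
    have h1 : a • (e v) = e v := by
      have h2 := congrArg (fun f : AddMonoid.End V => f v) hae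
      have h3 : (a : AddMonoid.End V) (e v) = e ((a : AddMonoid.End V) v) := h2
      rw [smul_def', h3, ← smul_def', hfix]
    have h4 : e' (e (w e)) = e (w e) := by
      rw [← hproj e he]
      exact he'f _ h1
    have hidem' : (e' * e) * (e' * e) = e' * e := by
      calc e' * e * (e' * e) = e' * (e * e') * e := by simp only [mul_assoc]
        _ = e' * (e' * e) * e := by rw [hR e he.mem e' he'R]
        _ = (e' * e') * (e * e) := by simp only [mul_assoc]
        _ = e' * e := by rw [he'i, he.idem]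
    have hmem : e' * e ∈ R := R.mul_mem he'R he.mem
    rcases he.min _ hmem hidem' (by rw [mul_assoc, he.idem]) with h5 | h5
    · exfalso
      have h6 := congrArg (fun f : AddMonoid.End V => f (w e)) h5
      have h7 : e' (e (w e)) = 0 := h6
      rw [h4] at h7
      exact hw e he h7
    · have h6 := congrArg (fun f : AddMonoid.End V => f x) h5
      have h7 : e' (e x) = e x := h6
      rw [← h7]
      exact he'm _
  rw [← hsumv u, Finset.smul_sum]
  exact Finset.sum_congr rfl fun e he => hfixe e (mem_minIdems.1 he) u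

end Regular

section Dual

variable {Q : Type u} [Group Q] [Finite Q] (N : Subgroup Q) [hN : N.Normal]

theorem card_dual (hcomm : ∀ a ∈ N, ∀ b ∈ N, a * b = b * a) :
    Finite (Dual N) ∧ Nat.card (Dual N) = Nat.card N := by
  letI instN : CommGroup N :=
    { (inferInstance : Group N) with mul_comm := fun a b => Subtype.ext (hcomm a a.2 b b.2) }
  haveI : NeZero (Monoid.exponent N) := ⟨Monoid.exponent_ne_zero_of_finite⟩
  have hcardD : Nat.card (Dual N) = Nat.card N := by
    show Nat.card (Additive (N →* ℂˣ)) = _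
    exact (Nat.card_congr Additive.toMul).trans
      (CommGroup.card_monoidHom_of_hasEnoughRootsOfUnity N ℂ)
  exact ⟨Nat.finite_of_card_ne_zero (by rw [hcardD]; exact Nat.card_pos.ne'), hcardD⟩

theorem rho_eq_one_of_mem (hcomm : ∀ a ∈ N, ∀ b ∈ N, a * b = b * a) {a : Q} (ha : a ∈ N) :
    rho N a = 1 := by
  apply units_eq_one_of_fix
  intro l
  apply Additive.toMul.injective
  ext m
  rw [rho_smul_apply]
  congr 2
  apply Subtype.ext
  show a⁻¹ * m * a = m
  rw [hcomm a⁻¹ (N.inv_mem ha) m m.2]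
  group

/-- Characters separate points: an element acting trivially on characters centralises `N`. -/
theorem conj_eq_of_rho_eq_one (hcomm : ∀ a ∈ N, ∀ b ∈ N, a * b = b * a) {y : Q} (hry : rho N y = 1)
    (m : N) : y * m * y⁻¹ = m := by
  letI instN : CommGroup N :=
    { (inferInstance : Group N) with mul_comm := fun a b => Subtype.ext (hcomm a a.2 b b.2) }
  haveI : NeZero (Monoid.exponent N) := ⟨Monoid.exponent_ne_zero_of_finite⟩
  by_contra hne
  have hmem : y * (m : Q) * y⁻¹ ∈ N := hN.conj_mem _ m.2 y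
  have hd : (⟨y * m * y⁻¹, hmem⟩ : N) * m⁻¹ ≠ 1 := by
    intro h
    apply hne
    have h1 := mul_inv_eq_one.1 h
    exact congrArg Subtype.val h1
  obtain ⟨φ, hφ⟩ := CommGroup.exists_apply_ne_one_of_hasEnoughRootsOfUnity N ℂ hd
  apply hφ
  have h2 : (Additive.toMul (rho N y • (Additive.ofMul φ : Dual N))) ⟨y * m * y⁻¹, hmem⟩ =
      φ ⟨y * m * y⁻¹, hmem⟩ := by
    rw [hry, one_smul]
    rfl
  rw [rho_smul_apply] at h2
  have h3 : (⟨y⁻¹ * (y * (m : Q) * y⁻¹) * y, by
      have := hN.conj_mem _ hmem y⁻¹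
      simpa using this⟩ : N) = m := by
    apply Subtype.ext
    group
  rw [map_mul, map_inv, mul_inv_eq_one]
  have h4 : (Additive.toMul (Additive.ofMul φ : Dual N)) = φ := rfl
  rw [h4] at h2
  rw [← h2]
  congr 1

/-- Zero of a character from a vector fixed by no conjugate. -/
theorem good_of_no_fix (hcomm : ∀ a ∈ N, ∀ b ∈ N, a * b = b * a) (q : Q) (v : Dual N)
    (hv : ∀ g : Q, rho N (g * q * g⁻¹) • v ≠ v) : ∃ χ : IrrCharacter Q, (χ : Q → ℂ) q = 0 := by
  refine exists_irr_zero_of_no_fix N hcomm (Additive.toMul v) (Subgroup.mem_zpowers q) ?_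
  intro a
  by_contra hcon
  push Not at hcon
  apply hv a⁻¹
  apply Additive.toMul.injective
  ext m
  rw [rho_smul_apply]
  have hmem : (a⁻¹ * q * a⁻¹⁻¹)⁻¹ * (m : Q) * (a⁻¹ * q * a⁻¹⁻¹) ∈ N := by
    have := hN.conj_mem _ m.2 (a⁻¹ * q * a⁻¹⁻¹)⁻¹
    simpa using this
  have h1 := hcon ⟨(a⁻¹ * q * a⁻¹⁻¹)⁻¹ * (m : Q) * (a⁻¹ * q * a⁻¹⁻¹), hmem⟩
  have h2 : (Additive.toMul v) ⟨(a⁻¹ * q * a⁻¹⁻¹)⁻¹ * (m : Q) * (a⁻¹ * q * a⁻¹⁻¹), hmem⟩ =
      (Additive.toMul v) m := by
    rw [← h1]
    congr 1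
    apply Subtype.ext
    simp [mul_assoc]
  exact congrArg Units.val h2

end Dual

section LemmaY

variable {Q : Type u} [Group Q] [Finite Q] (N : Subgroup Q) [hN : N.Normal]

/-- The key structural lemma: a nontrivial normal `2`-subgroup of the image forces order two. -/
theorem card_range_le_two (hP : PropP Q) (hcomm : ∀ a ∈ N, ∀ b ∈ N, a * b = b * a)
    (hodd : (Nat.card N).Coprime 2) (Y : Subgroup (Gam (Dual N))) (hYH : Y ≤ (rho N).range)
    (hYn : ∀ g ∈ (rho N).range, ∀ a ∈ Y, g * a * g⁻¹ ∈ Y) (hYp : ∀ u ∈ Y, ∃ k : ℕ, u ^ (2 ^ k) = 1)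
    (hY1 : Y ≠ ⊥) : Nat.card (rho N).range ≤ 2 := by
  classical
  haveI : Fact (Nat.Prime 2) := ⟨Nat.prime_two⟩
  obtain ⟨hDfin, hDcard⟩ := card_dual N hcomm
  haveI := hDfin
  have hcV : (Nat.card (Dual N)).Coprime 2 := by rwa [hDcard]
  set H := (rho N).range with hH
  have hgood := good_of_no_fix N hcomm
  -- conjugates and powers
  have hconjpow : ∀ (g a : Gam (Dual N)) (m : ℕ), (g * a * g⁻¹) ^ m = g * a ^ m * g⁻¹ :=
    fun g a m => conj_pow
  have hrootQ : ∀ (q : Q) (m : ℕ) (v : Dual N),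
      (∀ g ∈ H, (g * (rho N q) ^ m * g⁻¹) • v ≠ v) → 2 ∣ orderOf (q ^ m) → Nat.Coprime m (orderOf q) := by
    intro q m v hv h2
    refine hP q m (hgood q v ?_) (hgood (q ^ m) v ?_) h2
    · intro g hfix
      apply hv (rho N g) ⟨g, rfl⟩
      have h1 : rho N (g * q * g⁻¹) = rho N g * rho N q * (rho N g)⁻¹ := by simp
      rw [h1] at hfix
      rw [← hconjpow]
      have h3 : ∀ m : ℕ, (rho N g * rho N q * (rho N g)⁻¹) ^ m • v = v := by
        intro m
        induction m with
        | zero => simp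
        | succ n ih => rw [pow_succ, mul_smul, hfix, ih]
      exact h3 m
    · intro g hfix
      apply hv (rho N g) ⟨g, rfl⟩
      have h1 : rho N (g * q ^ m * g⁻¹) = rho N g * (rho N q) ^ m * (rho N g)⁻¹ := by simp
      rwa [h1] at hfix
  have hrootH : ∀ h ∈ H, ∀ (m : ℕ) (v : Dual N), (∀ g ∈ H, (g * h ^ m * g⁻¹) • v ≠ v) →
      2 ∣ orderOf (h ^ m) → Nat.Coprime m (orderOf h) := by
    rintro _ ⟨q, rfl⟩ m v hv h2
    have h3 := hrootQ q m v hv (by
      rw [← map_pow] at h2
      exact h2.trans (orderOf_map_dvd _ _))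
    exact Nat.Coprime.coprime_dvd_right (orderOf_map_dvd _ _) h3
  -- an involution that is fixed by no conjugate acts as `-1`
  have hneg : ∀ a ∈ H, a * a = 1 → a ≠ 1 → (∃ v : Dual N, ∀ g ∈ H, (g * a * g⁻¹) • v ≠ v) →
      a = -1 := by
    rintro _ ⟨q₀, rfl⟩ haa ha1 ⟨v, hv⟩
    obtain ⟨s, u, hu, hsu⟩ := Nat.exists_eq_pow_mul_and_not_dvd (orderOf_pos q₀).ne' 2 (by norm_num)
    have huodd : Odd u := Nat.odd_iff.2 (by omega)
    let q : Q := q₀ ^ u
    have hrq : rho N q = rho N q₀ := by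
      obtain ⟨c, hc⟩ := huodd
      show rho N (q₀ ^ u) = _
      rw [map_pow, hc, pow_succ, pow_mul, pow_two, haa, one_pow, one_mul]
    have hqpow : q ^ (2 ^ s) = 1 := by
      show (q₀ ^ u) ^ (2 ^ s) = 1
      rw [← pow_mul, mul_comm, ← hsu, pow_orderOf_eq_one]
    have hq1 : q ≠ 1 := by
      intro h
      apply ha1
      rw [← hrq, h, map_one]
    have hoq : ∃ r, orderOf q = 2 ^ r := by
      obtain ⟨r, -, hr⟩ := (Nat.dvd_prime_pow Nat.prime_two).1 (orderOf_dvd_of_pow_eq_one hqpow)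
      exact ⟨r, hr⟩
    obtain ⟨r, hr⟩ := hoq
    have hr0 : r ≠ 0 := by
      rintro rfl
      exact hq1 (orderOf_eq_one_iff.1 (by simpa using hr))
    have h2q : 2 ∣ orderOf q := by
      rw [hr]
      exact dvd_pow_self 2 hr0
    -- no fixed points in `N`
    have hgood' : ∀ w : Q, rho N w = rho N q₀ → ∃ χ : IrrCharacter Q, (χ : Q → ℂ) w = 0 := by
      intro w hw
      refine hgood w v ?_
      intro g hfix
      apply hv (rho N g) ⟨g, rfl⟩
      have h1 : rho N (g * w * g⁻¹) = rho N g * rho N q₀ * (rho N g)⁻¹ := by simp [hw]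
      rwa [h1] at hfix
    have hC : ∀ n : N, q * (n : Q) * q⁻¹ = n → n = 1 := by
      intro n hn
      have hcm : q * (n : Q) = (n : Q) * q := by
        have h1 : q * (n : Q) * q⁻¹ * q = (n : Q) * q := by rw [hn]
        simpa using h1
      have hon : (orderOf (n : Q)).Coprime 2 := by
        rw [Subgroup.orderOf_coe]
        exact Nat.Coprime.coprime_dvd_left (orderOf_dvd_natCard n) hodd
      have hcop : (orderOf q).Coprime (orderOf (n : Q)) := by
        rw [hr]
        exact Nat.Coprime.pow_left r hon.symm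
      have hr1 : 1 < orderOf q := by
        rw [hr]
        exact Nat.one_lt_two_pow hr0
      obtain ⟨c, -, hc⟩ := Nat.exists_mul_mod_eq_one_of_coprime hcop.symm hr1
      let w : Q := q * n
      have hwm : w ^ (orderOf (n : Q) * c) = q := by
        have h5 : Commute q (n : Q) := hcm
        show (q * n) ^ (orderOf (n : Q) * c) = q
        rw [h5.mul_pow, pow_mul (n : Q), pow_orderOf_eq_one, one_pow, mul_one]
        rw [← pow_mod_orderOf, hc, pow_one]
      have hrw : rho N w = rho N q₀ := by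
        show rho N (q * n) = _
        rw [map_mul, rho_eq_one_of_mem N hcomm n.2, mul_one, hrq]
      have h6 := hP w (orderOf (n : Q) * c) (hgood' w hrw) (by
        rw [hwm]
        exact hgood' q hrq) (by rw [hwm]; exact h2q)
      have h7 : orderOf (n : Q) ∣ orderOf w := by
        have h5 : Commute q (n : Q) := hcm
        show orderOf (n : Q) ∣ orderOf (q * n)
        rw [h5.orderOf_mul_eq_mul_orderOf_of_coprime hcop]
        exact dvd_mul_left _ _
      have h8 : orderOf (n : Q) = 1 :=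
        Nat.eq_one_of_dvd_coprimes h6 (dvd_mul_right _ _) h7
      rw [Subgroup.orderOf_coe, orderOf_eq_one_iff] at h8
      exact h8
    -- `q` inverts `N`
    have hq2 : ∀ m : N, q * (q * (m : Q) * q⁻¹) * q⁻¹ = m := by
      intro m
      have h1 : rho N (q * q) = 1 := by rw [map_mul, hrq, haa]
      have h2 := conj_eq_of_rho_eq_one N hcomm h1 m
      calc q * (q * (m : Q) * q⁻¹) * q⁻¹ = (q * q) * (m : Q) * (q * q)⁻¹ := by group
        _ = m := h2
    have hinv : ∀ m : N, q * (m : Q) * q⁻¹ = (m : Q)⁻¹ := by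
      intro m
      have hmem : q * (m : Q) * q⁻¹ ∈ N := hN.conj_mem _ m.2 q
      have h1 := hC (m * ⟨q * (m : Q) * q⁻¹, hmem⟩) (by
        show q * ((m : Q) * (q * (m : Q) * q⁻¹)) * q⁻¹ = (m : Q) * (q * (m : Q) * q⁻¹)
        have h2 : q * ((m : Q) * (q * (m : Q) * q⁻¹)) * q⁻¹ =
            (q * (m : Q) * q⁻¹) * (q * (q * (m : Q) * q⁻¹) * q⁻¹) := by group
        rw [h2, hq2, hcomm _ hmem _ m.2])
      have h2 : (m : Q) * (q * (m : Q) * q⁻¹) = 1 := congrArg Subtype.val h1
      exact eq_inv_of_mul_eq_one_right h2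
    rw [← hrq]
    apply Units.ext
    apply AddMonoidHom.ext
    intro l
    apply Additive.toMul.injective
    ext m
    show (((Additive.toMul (rho N q • l)) m : ℂˣ) : ℂ) = (((Additive.toMul (-l)) m : ℂˣ) : ℂ)
    rw [rho_smul_apply]
    have hmem : (m⁻¹ : N) = ⟨q⁻¹ * m * q, by
        have := hN.conj_mem _ m.2 q⁻¹
        simpa using this⟩ := by
      apply Subtype.ext
      have h3 := hinv ⟨q⁻¹ * m * q, by
        have := hN.conj_mem _ m.2 q⁻¹
        simpa using this⟩
      have h4 : q * (q⁻¹ * (m : Q) * q) * q⁻¹ = m := by group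
      simp only at h3
      rw [h4] at h3
      show (m : Q)⁻¹ = q⁻¹ * m * q
      exact inv_eq_iff_eq_inv.2 h3
    rw [← hmem]
    simp
  -- a central involution of `Y`
  have hYpg : IsPGroup 2 Y := by
    intro u
    obtain ⟨k, hk⟩ := hYp u u.2
    exact ⟨k, Subtype.ext (by simpa using hk)⟩
  haveI : Nontrivial Y := (Subgroup.nontrivial_iff_ne_bot Y).2 hY1
  haveI : Nontrivial (Subgroup.center Y) := hYpg.center_nontrivial
  have hdvd : 2 ∣ Nat.card (Subgroup.center Y) := by
    obtain ⟨k, hk⟩ := IsPGroup.iff_card.1 (hYpg.to_subgroup (Subgroup.center Y))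
    have h1 : 1 < Nat.card (Subgroup.center Y) := Finite.one_lt_card
    rw [hk] at h1 ⊢
    have : k ≠ 0 := by
      rintro rfl
      simp at h1
    exact dvd_pow_self 2 this
  obtain ⟨a₀, ha₀⟩ := exists_prime_orderOf_dvd_card' (G := Subgroup.center Y) 2 hdvd
  let a : Gam (Dual N) := ((a₀ : Y) : Gam (Dual N))
  have haa : a * a = 1 := by
    have h1 := pow_orderOf_eq_one a₀
    rw [ha₀, pow_two] at h1
    exact congrArg (fun x : Subgroup.center Y => ((x : Y) : Gam (Dual N))) h1
  have ha1 : a ≠ 1 := by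
    intro h
    have h2 : a₀ = 1 := Subtype.ext (Subtype.ext h)
    rw [h2, orderOf_one] at ha₀
    omega
  have hacen : ∀ y ∈ Y, a * y = y * a := by
    intro y hy
    have h1 := (Subgroup.mem_center_iff.1 a₀.2) ⟨y, hy⟩
    exact (congrArg Subtype.val h1).symm
  -- `W₀ = Ω₁ Z(Y)`
  let W₀ : Subgroup (Gam (Dual N)) :=
    { carrier := {w | w ∈ Y ∧ (∀ y ∈ Y, w * y = y * w) ∧ w * w = 1}
      mul_mem' := by
        rintro x y ⟨hx, hx', hx''⟩ ⟨hy, hy', hy''⟩
        refine ⟨Y.mul_mem hx hy, ?_, ?_⟩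
        · intro t ht
          rw [mul_assoc, hy' t ht, ← mul_assoc, hx' t ht, mul_assoc]
        · have h1 : x * y * (x * y) = (x * x) * (y * y) := by
            calc x * y * (x * y) = x * (y * x) * y := by group
              _ = x * (x * y) * y := by rw [hx' y hy]
              _ = (x * x) * (y * y) := by group
          rw [h1, hx'', hy'', one_mul]
      one_mem' := ⟨Y.one_mem, fun y _ => by simp, by simp⟩
      inv_mem' := by
        rintro x ⟨hx, hx', hx''⟩
        refine ⟨Y.inv_mem hx, ?_, ?_⟩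
        · intro t ht
          exact (show Commute x t from hx' t ht).inv_left
        · rw [← mul_inv_rev, hx'', inv_one] }
  have hW₀mem : ∀ w, w ∈ W₀ ↔ w ∈ Y ∧ (∀ y ∈ Y, w * y = y * w) ∧ w * w = 1 := fun _ => Iff.rfl
  obtain ⟨v₀', hv₀'⟩ := exists_regular_vec hcV W₀
    (fun x hx y hy => ((hW₀mem x).1 hx).2.1 y ((hW₀mem y).1 hy).1)
    (fun x hx => hYp x ((hW₀mem x).1 hx).1)
  have hW₀conj : ∀ g ∈ H, g * a * g⁻¹ ∈ W₀ := by
    intro g hg
    refine ⟨hYn g hg a (a₀ : Y).2, ?_, ?_⟩
    · intro y hy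
      have h1 : g⁻¹ * y * g ∈ Y := by
        have := hYn g⁻¹ (H.inv_mem hg) y hy
        simpa using this
      have h2 := hacen _ h1
      calc g * a * g⁻¹ * y = g * (a * (g⁻¹ * y * g)) * g⁻¹ := by group
        _ = g * ((g⁻¹ * y * g) * a) * g⁻¹ := by rw [h2]
        _ = y * (g * a * g⁻¹) := by group
    · have h1 : g * a * g⁻¹ * (g * a * g⁻¹) = g * (a * a) * g⁻¹ := by group
      rw [h1, haa]
      group
  have haneg : a = -1 := by
    refine hneg a (hYH (a₀ : Y).2) haa ha1 ⟨v₀', ?_⟩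
    intro g hg hfix
    have h1 := hv₀' _ (hW₀conj g hg) hfix
    apply ha1
    have h2 : a = g⁻¹ * (g * a * g⁻¹) * g := by group
    rw [h2, h1]
    group
  have hnegH : (-1 : Gam (Dual N)) ∈ H := by
    rw [← haneg]
    exact hYH (a₀ : Y).2
  have hneg1 : (-1 : Gam (Dual N)) ≠ 1 := by
    rw [← haneg]
    exact ha1
  -- a nonzero vector
  obtain ⟨v₀, hv₀⟩ : ∃ v : Dual N, v ≠ 0 := by
    by_contra hcon
    push Not at hcon
    apply hneg1
    apply units_eq_one_of_fix
    intro v
    rw [hcon v, smul_def', map_zero]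
  have hnegsmul : ∀ v : Dual N, (-1 : Gam (Dual N)) • v = -v := fun v => rfl
  have hnegc : ∀ g : Gam (Dual N), g * (-1) * g⁻¹ = -1 := by
    intro g
    simp
  have hnv₀ : -v₀ ≠ v₀ := by
    intro h
    apply hv₀
    refine nsmul_inj_of_coprime hcV ?_
    rw [two_nsmul]
    calc v₀ + v₀ = -v₀ + v₀ := by rw [h]
      _ = 0 := neg_add_cancel v₀
  have hD₀ : ∀ g ∈ H, (g * (-1) * g⁻¹) • v₀ ≠ v₀ := by
    intro g _
    rw [hnegc, hnegsmul]
    exact hnv₀
  have hordneg : orderOf (-1 : Gam (Dual N)) = 2 := by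
    apply orderOf_eq_prime (by simp) hneg1
  -- `H` is a `2`-group
  have hall : ∀ h ∈ H, ∃ k : ℕ, h ^ (2 ^ k) = 1 := by
    intro h hh
    obtain ⟨s, u, hu, hsu⟩ := Nat.exists_eq_pow_mul_and_not_dvd (orderOf_pos h).ne' 2 (by norm_num)
    have huodd : Odd u := Nat.odd_iff.2 (by omega)
    refine ⟨s, ?_⟩
    set z := h ^ (2 ^ s) with hz
    have hzu : z ^ u = 1 := by
      rw [hz, ← pow_mul, ← hsu, pow_orderOf_eq_one]
    have hzH : z ∈ H := H.pow_mem hh _
    let w : Gam (Dual N) := (-1) * z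
    have hwH : w ∈ H := H.mul_mem hnegH hzH
    have hcm : Commute (-1 : Gam (Dual N)) z := by
      show (-1) * z = z * (-1)
      simp
    have hwu : w ^ u = -1 := by
      show ((-1) * z) ^ u = -1
      rw [hcm.mul_pow, huodd.neg_one_pow, hzu, mul_one]
    have hc := hrootH w hwH u v₀ (by rw [hwu]; exact hD₀) (by rw [hwu, hordneg])
    have hww : w * w = z * z := by
      show (-1) * z * ((-1) * z) = z * z
      simp
    have hz2 : z ^ (2 * orderOf w) = 1 := by
      calc z ^ (2 * orderOf w) = (z * z) ^ (orderOf w) := by rw [pow_mul, pow_two]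
        _ = (w * w) ^ (orderOf w) := by rw [hww]
        _ = (w ^ 2) ^ (orderOf w) := by rw [pow_two]
        _ = (w ^ (orderOf w)) ^ 2 := by rw [← pow_mul, ← pow_mul, mul_comm]
        _ = 1 := by rw [pow_orderOf_eq_one, one_pow]
    have h1 : orderOf z ∣ 2 * orderOf w := orderOf_dvd_of_pow_eq_one hz2
    have h2 : orderOf z ∣ u := orderOf_dvd_of_pow_eq_one hzu
    have h3 : (orderOf z).Coprime 2 := by
      refine Nat.Coprime.coprime_dvd_left h2 ?_
      exact (Nat.Prime.coprime_iff_not_dvd Nat.prime_two).2 hu |>.symm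
    have h4 : orderOf z ∣ orderOf w := h3.dvd_of_dvd_mul_left h1
    have h5 : orderOf z = 1 := Nat.eq_one_of_dvd_coprimes hc h2 h4
    exact orderOf_eq_one_iff.1 h5
  by_contra hcard
  have hHpg : IsPGroup 2 H := by
    intro u
    obtain ⟨k, hk⟩ := hall u u.2
    exact ⟨k, Subtype.ext (by simpa using hk)⟩
  let z₀ : H := ⟨-1, hnegH⟩
  have hz₀c : ∀ g : H, g * z₀ * g⁻¹ = z₀ := by
    intro g
    apply Subtype.ext
    exact hnegc _
  let Zn : Subgroup H := Subgroup.zpowers z₀
  haveI hZnn : Zn.Normal := ⟨fun n hn g => by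
    obtain ⟨k, rfl⟩ := Subgroup.mem_zpowers_iff.1 hn
    rw [← conj_zpow, hz₀c]
    exact Subgroup.zpow_mem_zpowers _ _⟩
  have hoz₀ : orderOf z₀ = 2 := by
    rw [← Subgroup.orderOf_coe]
    exact hordneg
  have hcardZn : Nat.card Zn = 2 := by
    show Nat.card (Subgroup.zpowers z₀) = 2
    rw [Nat.card_zpowers, hoz₀]
  have hQnt : Nontrivial (H ⧸ Zn) := by
    by_contra hn
    rw [not_nontrivial_iff_subsingleton] at hn
    apply hcard
    have h1 := Subgroup.card_eq_card_quotient_mul_card_subgroup Zn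
    have h2 : Nat.card (H ⧸ Zn) = 1 := Nat.card_of_subsingleton (1 : H ⧸ Zn)
    rw [h2, one_mul, hcardZn] at h1
    exact h1.le
  have hQp : IsPGroup 2 (H ⧸ Zn) := hHpg.to_quotient Zn
  haveI : Nontrivial (Subgroup.center (H ⧸ Zn)) := hQp.center_nontrivial
  have hdvd2 : 2 ∣ Nat.card (Subgroup.center (H ⧸ Zn)) := by
    obtain ⟨k, hk⟩ := IsPGroup.iff_card.1 (hQp.to_subgroup (Subgroup.center (H ⧸ Zn)))
    have h1 : 1 < Nat.card (Subgroup.center (H ⧸ Zn)) := Finite.one_lt_card
    rw [hk] at h1 ⊢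
    have : k ≠ 0 := by
      rintro rfl
      simp at h1
    exact dvd_pow_self 2 this
  obtain ⟨cb, hcb⟩ := exists_prime_orderOf_dvd_card' (G := Subgroup.center (H ⧸ Zn)) 2 hdvd2
  obtain ⟨c, hc⟩ := QuotientGroup.mk'_surjective Zn (cb : H ⧸ Zn)
  have hcZ : c ∉ Zn := by
    intro h
    have h1 : QuotientGroup.mk' Zn c = 1 := (QuotientGroup.eq_one_iff c).2 h
    rw [hc] at h1
    have h2 : cb = 1 := Subtype.ext h1
    rw [h2, orderOf_one] at hcb
    omega
  have hc2 : c * c ∈ Zn := by
    rw [← QuotientGroup.eq_one_iff, ← QuotientGroup.mk'_apply, map_mul, hc]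
    have h1 := pow_orderOf_eq_one cb
    rw [hcb, pow_two] at h1
    exact congrArg Subtype.val h1
  have hcent : ∀ g : H, g * c * g⁻¹ * c⁻¹ ∈ Zn := by
    intro g
    rw [← QuotientGroup.eq_one_iff, ← QuotientGroup.mk'_apply]
    simp only [map_mul, map_inv, hc]
    have h1 := (Subgroup.mem_center_iff.1 cb.2) (QuotientGroup.mk' Zn g)
    rw [h1]
    group
  have hZn2 : ∀ x ∈ Zn, x = 1 ∨ x = z₀ := by
    intro x hx
    obtain ⟨k, rfl⟩ := Subgroup.mem_zpowers_iff.1 hx
    have hz2 : z₀ ^ 2 = 1 := by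
      rw [← hoz₀, pow_orderOf_eq_one]
    obtain ⟨j, rfl | rfl⟩ := Int.even_or_odd' k
    · left
      rw [zpow_mul, zpow_ofNat, hz2, one_zpow]
    · right
      rw [zpow_add, zpow_mul, zpow_ofNat, hz2, one_zpow, one_mul, zpow_one]
  have hc21 : c * c = 1 := by
    rcases hZn2 _ hc2 with h | h
    · exact h
    · exfalso
      have hcc : (c : Gam (Dual N)) ^ 2 = -1 := by
        rw [pow_two]
        exact congrArg Subtype.val h
      have h3 := hrootH _ c.2 2 v₀ (by rw [hcc]; exact hD₀) (by rw [hcc, hordneg])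
      have h4 : 2 ∣ orderOf (c : Gam (Dual N)) := by
        have h5 : orderOf ((c : Gam (Dual N)) ^ 2) ∣ orderOf (c : Gam (Dual N)) :=
          orderOf_dvd_of_pow_eq_one (by rw [← pow_mul, mul_comm, pow_mul, pow_orderOf_eq_one, one_pow])
        rw [hcc, hordneg] at h5
        exact h5
      have h6 := Nat.Coprime.eq_one_of_dvd h3 h4
      omega
  have hc'1 : (c : Gam (Dual N)) ≠ 1 := by
    intro h
    apply hcZ
    have : c = 1 := Subtype.ext h
    rw [this]
    exact Zn.one_mem
  have hcc' : (c : Gam (Dual N)) * c = 1 := congrArg Subtype.val hc21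
  let S : Set (Gam (Dual N)) := {-1, (c : Gam (Dual N))}
  let A : Subgroup (Gam (Dual N)) := Subgroup.closure S
  have hSH : A ≤ H := by
    rw [Subgroup.closure_le]
    rintro x (rfl | rfl)
    · exact hnegH
    · exact c.2
  have hScomm : ∀ x ∈ S, ∀ y ∈ S, x * y = y * x := by
    rintro x (rfl | rfl) y (rfl | rfl) <;> simp
  have hAcomm : ∀ x ∈ A, ∀ y ∈ A, x * y = y * x := by
    intro x hx y hy
    letI := Subgroup.closureCommGroupOfComm hScomm
    have := mul_comm (⟨x, hx⟩ : Subgroup.closure S) ⟨y, hy⟩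
    exact congrArg Subtype.val this
  obtain ⟨v₁, hv₁⟩ := exists_regular_vec hcV A hAcomm (fun x hx => hall x (hSH hx))
  have hconjA : ∀ g ∈ H, g * (c : Gam (Dual N)) * g⁻¹ ∈ A := by
    intro g hg
    have h1 : (c : Gam (Dual N)) ∈ A := Subgroup.subset_closure (Or.inr rfl)
    have h2 : (-1 : Gam (Dual N)) ∈ A := Subgroup.subset_closure (Or.inl rfl)
    rcases hZn2 _ (hcent ⟨g, hg⟩) with h | h
    · have h3 : g * (c : Gam (Dual N)) * g⁻¹ * (c : Gam (Dual N))⁻¹ = 1 := congrArg Subtype.val h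
      rw [mul_inv_eq_one] at h3
      rw [h3]
      exact h1
    · have h3 : g * (c : Gam (Dual N)) * g⁻¹ * (c : Gam (Dual N))⁻¹ = -1 := congrArg Subtype.val h
      have h4 : g * (c : Gam (Dual N)) * g⁻¹ = (-1) * (c : Gam (Dual N)) := by
        rw [← h3]
        group
      rw [h4]
      exact A.mul_mem h2 h1
  have hcneg : (c : Gam (Dual N)) = -1 := by
    refine hneg _ c.2 hcc' hc'1 ⟨v₁, ?_⟩
    intro g hg hfix
    have h1 := hv₁ _ (hconjA g hg) hfix
    apply hc'1
    have h2 : (c : Gam (Dual N)) = g⁻¹ * (g * (c : Gam (Dual N)) * g⁻¹) * g := by group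
    rw [h2, h1]
    group
  apply hcZ
  have : c = z₀ := Subtype.ext hcneg
  rw [this]
  exact Subgroup.mem_zpowers z₀

end LemmaY

section Main

theorem commutator_le_frattini_of_nilpotent {X : Type*} [Group X] [Finite X] [Group.IsNilpotent X] :
    commutator X ≤ frattini X := by
  refine le_iInf₂ fun M hM => ?_
  haveI hMn : M.Normal :=
    Subgroup.NormalizerCondition.normal_of_coatom M Group.normalizerCondition_of_isNilpotent hM
  haveI : Nontrivial (X ⧸ M) := by
    rw [QuotientGroup.nontrivial_iff]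
    exact hM.1
  have hc : Subgroup.center (X ⧸ M) ≠ ⊥ := Group.IsNilpotent.center_ne_bot (X ⧸ M)
  let C : Subgroup X := (Subgroup.center (X ⧸ M)).comap (QuotientGroup.mk' M)
  have hMC : M ≤ C := by
    intro x hx
    show QuotientGroup.mk' M x ∈ Subgroup.center (X ⧸ M)
    have h0 : QuotientGroup.mk' M x = 1 := (QuotientGroup.eq_one_iff x).2 hx
    rw [h0]
    exact Subgroup.one_mem _
  have hCM : M < C := by
    refine lt_of_le_of_ne hMC ?_
    intro h
    apply hc
    rw [eq_bot_iff]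
    intro y hy
    obtain ⟨x, rfl⟩ := QuotientGroup.mk'_surjective M y
    have h1 : x ∈ C := hy
    rw [← h] at h1
    rw [Subgroup.mem_bot]
    exact (QuotientGroup.eq_one_iff x).2 h1
  have hCtop : C = ⊤ := hM.2 C hCM
  rw [commutator_def, Subgroup.commutator_le]
  intro a _ b _
  have h1 : a ∈ C := by rw [hCtop]; trivial
  have h2 := Subgroup.mem_center_iff.1 h1 (QuotientGroup.mk' M b)
  rw [← QuotientGroup.eq_one_iff, ← QuotientGroup.mk'_apply, commutatorElement_def]
  simp only [map_mul, map_inv]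
  rw [← h2]
  group

theorem sylow_two_card_le : ∀ (n : ℕ) (Q : Type u) [Group Q] [Finite Q] [Group.IsSolvable Q],
    Nat.card Q ≤ n → PropP Q → pCore 2 Q = ⊥ → ∀ S : Sylow 2 Q, Nat.card (S : Subgroup Q) ≤ 2 := by
  classical
  haveI : Fact (Nat.Prime 2) := ⟨Nat.prime_two⟩
  intro n
  induction n with
  | zero =>
    intro Q _ _ _ hn
    have : 0 < Nat.card Q := Nat.card_pos
    omega
  | succ n ih =>
    intro Q _ _ _ hn hP hO S
    by_cases hSbot : (S : Subgroup Q) = ⊥
    · rw [hSbot, Subgroup.card_bot]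
      omega
    have hS2 : ∀ s ∈ (S : Subgroup Q), ∃ k : ℕ, s ^ (2 ^ k) = 1 := by
      intro g hg
      obtain ⟨k, hk⟩ := S.isPGroup' ⟨g, hg⟩
      exact ⟨k, by simpa using congrArg Subtype.val hk⟩
    set F := fittingSubgroup Q with hFdef
    have hFn : F.Normal := Subgroup.sSup_normal _ (fun _ h => h.1)
    have hFnil : Group.IsNilpotent F := isNilpotent_fittingSubgroup
    have hFodd : (Nat.card F).Coprime 2 := by
      apply Nat.Coprime.symm
      rw [Nat.Prime.coprime_iff_not_dvd Nat.prime_two]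
      intro hdvd
      obtain ⟨f, hf⟩ := exists_prime_orderOf_dvd_card' (G := F) 2 hdvd
      have h1 : (f : Q) ∈ pCore 2 Q := by
        haveI := hFn
        refine mem_pCore_of_nilpotent F hFnil f.2 ⟨1, ?_⟩
        have h2 := pow_orderOf_eq_one f
        rw [hf] at h2
        simpa using congrArg Subtype.val h2
      rw [hO, Subgroup.mem_bot] at h1
      have h3 : f = 1 := Subtype.ext h1
      rw [h3, orderOf_one] at hf
      omega
    have hFbot : F ≠ ⊥ := by
      intro h
      have h1 := centralizer_fittingSubgroup_le (G := Q)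
      rw [← hFdef, h] at h1
      apply hSbot
      rw [eq_bot_iff]
      intro s _
      apply h1
      rw [Subgroup.mem_centralizer_iff]
      intro x hx
      have hx' : x ∈ (⊥ : Subgroup Q) := hx
      rw [Subgroup.mem_bot] at hx'
      simp [hx']
    let K₀ : Subgroup Q := ⁅F, F⁆
    haveI hK₀n : K₀.Normal := by
      haveI := hFn
      exact Subgroup.commutator_normal F F
    let π₀ := QuotientGroup.mk' K₀
    have hπ₀ : Function.Surjective π₀ := QuotientGroup.mk'_surjective K₀
    let N : Subgroup (Q ⧸ K₀) := F.map π₀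
    haveI hNn : N.Normal := Subgroup.Normal.map hFn π₀ hπ₀
    have hcomm : ∀ a ∈ N, ∀ b ∈ N, a * b = b * a := by
      rintro _ ⟨x, hx, rfl⟩ _ ⟨y, hy, rfl⟩
      have h1 : ⁅x, y⁆ ∈ K₀ := Subgroup.commutator_mem_commutator hx hy
      have h2 : π₀ ⁅x, y⁆ = 1 := (QuotientGroup.eq_one_iff _).2 h1
      rw [commutatorElement_def] at h2
      simp only [map_mul, map_inv] at h2
      have h3 := mul_inv_eq_one.1 h2
      have h4 := mul_inv_eq_iff_eq_mul.1 h3
      exact h4
    have hodd : (Nat.card N).Coprime 2 :=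
      Nat.Coprime.coprime_dvd_left (Subgroup.card_map_dvd F π₀) hFodd
    let ρ₀ : Q →* Gam (Dual N) := (rho N).comp π₀
    have hFK : F ≤ ρ₀.ker := fun x hx =>
      rho_eq_one_of_mem N hcomm (Subgroup.mem_map_of_mem π₀ hx)
    have hKtriv : ∀ s ∈ (S : Subgroup Q), ρ₀ s = 1 → s = 1 := by
      intro s hs hρ
      let A : Subgroup Q := Subgroup.zpowers s
      have hAK : A ≤ Subgroup.normalizer (F : Set Q) := by
        haveI := hFn
        rw [Subgroup.normalizer_eq_top]
        exact le_top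
      obtain ⟨k, hk⟩ := hS2 s hs
      have hord : orderOf s ∣ 2 ^ k := orderOf_dvd_of_pow_eq_one hk
      have hcardA : Nat.card A = orderOf s := Nat.card_zpowers s
      have hcopF : (orderOf s).Coprime (Nat.card F) :=
        Nat.Coprime.coprime_dvd_left hord (Nat.Coprime.pow_left k hFodd.symm)
      have hcop : (Nat.card A).Coprime (Nat.card (frattini F)) := by
        rw [hcardA]
        exact Nat.Coprime.coprime_dvd_right (Subgroup.card_subgroup_dvd_card _) hcopF
      have htriv : ∀ a ∈ A, ∀ f ∈ F, a * f * a⁻¹ * f⁻¹ ∈ (frattini F).map F.subtype := by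
        intro a ha f hf
        have hKle : K₀ ≤ (frattini F).map F.subtype := by
          have h1 : K₀ = (commutator F).map F.subtype := by
            show ⁅F, F⁆ = _
            rw [commutator_def, Subgroup.map_commutator]
            have h2 : Subgroup.map F.subtype ⊤ = F := by
              rw [← MonoidHom.range_eq_map]
              exact Subgroup.range_subtype F
            rw [h2]
          rw [h1]
          exact Subgroup.map_mono (commutator_le_frattini_of_nilpotent (X := F))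
        apply hKle
        obtain ⟨i, rfl⟩ := Subgroup.mem_zpowers_iff.1 ha
        have hρa : rho N (π₀ (s ^ i)) = 1 := by
          have : ρ₀ (s ^ i) = 1 := by rw [map_zpow, hρ, one_zpow]
          exact this
        have h1 := conj_eq_of_rho_eq_one N hcomm hρa ⟨π₀ f, Subgroup.mem_map_of_mem π₀ hf⟩
        rw [← QuotientGroup.eq_one_iff]
        show π₀ _ = 1
        simp only [map_mul, map_inv]
        rw [mul_inv_eq_one]
        exact h1
      have hcent := Cfsg.Agent.Lib.Glauberman.le_centralizer_of_frattini hAK hcop htriv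
      have hsF : s ∈ F := centralizer_fittingSubgroup_le (G := Q) (hcent (Subgroup.mem_zpowers s))
      have hdF : orderOf s ∣ Nat.card F := by
        have h1 : orderOf (⟨s, hsF⟩ : F) = orderOf s := Subgroup.orderOf_mk s hsF
        rw [← h1]
        exact orderOf_dvd_natCard _
      have h1 : orderOf s = 1 := Nat.eq_one_of_dvd_coprimes hcopF (dvd_refl _) hdF
      exact orderOf_eq_one_iff.1 h1
    have hρinj : ∀ s ∈ (S : Subgroup Q), ∀ t ∈ (S : Subgroup Q), ρ₀ s = ρ₀ t → s = t := by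
      intro s hs t ht h
      have h1 : s * t⁻¹ = 1 := by
        apply hKtriv _ ((S : Subgroup Q).mul_mem hs ((S : Subgroup Q).inv_mem ht))
        rw [map_mul, map_inv, h, mul_inv_cancel]
      exact mul_inv_eq_one.1 h1
    let Q₁ := Q ⧸ ρ₀.ker
    let π₁ : Q →* Q₁ := QuotientGroup.mk' ρ₀.ker
    have hπ₁ : Function.Surjective π₁ := QuotientGroup.mk'_surjective _
    have hcardQ₁ : Nat.card Q₁ ≤ n := by
      have h1 : Nat.card Q = Nat.card Q₁ * Nat.card ρ₀.ker :=
        Subgroup.card_eq_card_quotient_mul_card_subgroup _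
      have h2 : 1 < Nat.card ρ₀.ker := by
        have h3 : ρ₀.ker ≠ ⊥ := by
          intro h
          apply hFbot
          rw [eq_bot_iff, ← h]
          exact hFK
        have h4 : Nontrivial ρ₀.ker := (Subgroup.nontrivial_iff_ne_bot _).2 h3
        exact Finite.one_lt_card
      have h5 : 0 < Nat.card Q₁ := Nat.card_pos
      have h6 : Nat.card Q₁ < Nat.card Q := by
        rw [h1]
        exact lt_mul_of_one_lt_right h5 h2
      omega
    have hP₁ : PropP Q₁ := hP.of_surjective π₁ hπ₁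
    by_cases hO₁ : pCore 2 Q₁ = ⊥
    · have hSp : IsPGroup 2 ((S : Subgroup Q).map π₁) := S.isPGroup'.map π₁
      obtain ⟨T, hT⟩ := hSp.exists_le_sylow
      have hle := ih Q₁ hcardQ₁ hP₁ hO₁ T
      refine le_trans ?_ hle
      let f : ↥(S : Subgroup Q) → ↥(T : Subgroup Q₁) := fun s =>
        ⟨π₁ (s : Q), hT (Subgroup.mem_map_of_mem π₁ s.2)⟩
      refine Nat.card_le_card_of_injective f ?_
      rintro ⟨s, hs⟩ ⟨t, ht⟩ h
      have h1 : π₁ s = π₁ t := congrArg Subtype.val h
      have h2 : s⁻¹ * t ∈ ρ₀.ker := QuotientGroup.eq.1 h1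
      have h3 : ρ₀ s = ρ₀ t := by
        have h4 : ρ₀ (s⁻¹ * t) = 1 := h2
        rw [map_mul, map_inv] at h4
        exact inv_mul_eq_one.1 h4
      exact Subtype.ext (hρinj s hs t ht h3)
    · let θ : Q₁ →* Gam (Dual N) := QuotientGroup.kerLift ρ₀
      have hθ : Function.Injective θ := QuotientGroup.kerLift_injective ρ₀
      have hθmk : ∀ x : Q, θ (π₁ x) = rho N (π₀ x) := fun x => rfl
      let Y : Subgroup (Gam (Dual N)) := (pCore 2 Q₁).map θ
      have hYH : Y ≤ (rho N).range := by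
        rintro _ ⟨y, _, rfl⟩
        obtain ⟨x, rfl⟩ := hπ₁ y
        exact ⟨π₀ x, (hθmk x).symm⟩
      have hYn : ∀ g ∈ (rho N).range, ∀ a ∈ Y, g * a * g⁻¹ ∈ Y := by
        rintro _ ⟨g, rfl⟩ _ ⟨y, hy, rfl⟩
        obtain ⟨x, rfl⟩ := hπ₀ g
        refine ⟨π₁ x * y * (π₁ x)⁻¹, ?_, ?_⟩
        · exact (inferInstance : (pCore 2 Q₁).Normal).conj_mem y hy (π₁ x)
        · rw [map_mul, map_mul, map_inv, hθmk]
      have hYp : ∀ u ∈ Y, ∃ k : ℕ, u ^ (2 ^ k) = 1 := by
        rintro _ ⟨y, hy, rfl⟩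
        obtain ⟨k, hk⟩ := isPGroup_pCore (G := Q₁) 2 ⟨y, hy⟩
        refine ⟨k, ?_⟩
        have h1 : y ^ (2 ^ k) = 1 := by simpa using congrArg Subtype.val hk
        rw [← map_pow, h1, map_one]
      have hY1 : Y ≠ ⊥ := by
        intro h
        exact hO₁ ((Subgroup.map_eq_bot_iff_of_injective _ hθ).1 h)
      have hle := card_range_le_two N (hP.of_surjective π₀ hπ₀) hcomm hodd Y hYH hYn hYp hY1
      refine le_trans ?_ hle
      let f : ↥(S : Subgroup Q) → (rho N).range := fun s => ⟨rho N (π₀ (s : Q)), ⟨π₀ (s : Q), rfl⟩⟩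
      haveI : Finite (rho N).range := by
        have : Finite (Gam (Dual N)) := by
          obtain ⟨h1, _⟩ := card_dual N hcomm
          haveI := h1
          infer_instance
        infer_instance
      refine Nat.card_le_card_of_injective f ?_
      rintro ⟨s, hs⟩ ⟨t, ht⟩ h
      have h1 : ρ₀ s = ρ₀ t := congrArg Subtype.val h
      exact Subtype.ext (hρinj s hs t ht h1)

end Main

end Cfsg.Agent.Lib.NVTwo
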