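/-
A module for `SL₂(F)` of the form `W ⊕ wW`, with the upper unitriangular group fixing `W` and
having commutator in `W`, is a sum of natural modules: the torus makes `W` an `F`-vector space and
`SL₂(F)` acts through the matrix formula.  Hence elements of trace `≠ 2` are fixed point free.
-/
import Mathlib

set_option autoImplicit false
set_option linter.unusedSectionVars false
set_option linter.unusedVariables false

namespace Cfsg.Agent.Lib.NatMod58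

open Matrix

variable {F : Type*} [Field F]

/-- `SL₂(F)`. -/
abbrev SL2F (F : Type*) [Field F] := SpecialLinearGroup (Fin 2) F

/-- upper unitriangular. -/
def xx (c : F) : SL2F F := ⟨!![1, c; 0, 1], by simp [det_fin_two]⟩
/-- lower unitriangular. -/
def yy (c : F) : SL2F F := ⟨!![1, 0; c, 1], by simp [det_fin_two]⟩
/-- Weyl element. -/
def ww : SL2F F := ⟨!![0, -1; 1, 0], by simp [det_fin_two]⟩
/-- torus. -/
def tt (c : F) (hc : c ≠ 0) : SL2F F := ⟨!![c, 0; 0, c⁻¹], by simp [det_fin_two, hc]⟩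

theorem ext2 {g h : SL2F F} (h00 : g.1 0 0 = h.1 0 0) (h01 : g.1 0 1 = h.1 0 1)
    (h10 : g.1 1 0 = h.1 1 0) (h11 : g.1 1 1 = h.1 1 1) : g = h := by
  apply Subtype.ext
  ext i j
  fin_cases i <;> fin_cases j <;> assumption

@[simp] theorem xx_00 (c : F) : (xx c).1 0 0 = 1 := rfl
@[simp] theorem xx_01 (c : F) : (xx c).1 0 1 = c := rfl
@[simp] theorem xx_10 (c : F) : (xx c).1 1 0 = 0 := rfl
@[simp] theorem xx_11 (c : F) : (xx c).1 1 1 = 1 := rfl
@[simp] theorem yy_00 (c : F) : (yy c).1 0 0 = 1 := rfl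
@[simp] theorem yy_01 (c : F) : (yy c).1 0 1 = 0 := rfl
@[simp] theorem yy_10 (c : F) : (yy c).1 1 0 = c := rfl
@[simp] theorem yy_11 (c : F) : (yy c).1 1 1 = 1 := rfl
@[simp] theorem ww_00 : (ww : SL2F F).1 0 0 = 0 := rfl
@[simp] theorem ww_01 : (ww : SL2F F).1 0 1 = -1 := rfl
@[simp] theorem ww_10 : (ww : SL2F F).1 1 0 = 1 := rfl
@[simp] theorem ww_11 : (ww : SL2F F).1 1 1 = 0 := rfl
@[simp] theorem tt_00 (c : F) (hc : c ≠ 0) : (tt c hc).1 0 0 = c := rfl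
@[simp] theorem tt_01 (c : F) (hc : c ≠ 0) : (tt c hc).1 0 1 = 0 := rfl
@[simp] theorem tt_10 (c : F) (hc : c ≠ 0) : (tt c hc).1 1 0 = 0 := rfl
@[simp] theorem tt_11 (c : F) (hc : c ≠ 0) : (tt c hc).1 1 1 = c⁻¹ := rfl

theorem mul_00 (g h : SL2F F) : (g * h).1 0 0 = g.1 0 0 * h.1 0 0 + g.1 0 1 * h.1 1 0 := by
  simp [SpecialLinearGroup.coe_mul, Matrix.mul_apply, Fin.sum_univ_two]
theorem mul_01 (g h : SL2F F) : (g * h).1 0 1 = g.1 0 0 * h.1 0 1 + g.1 0 1 * h.1 1 1 := by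
  simp [SpecialLinearGroup.coe_mul, Matrix.mul_apply, Fin.sum_univ_two]
theorem mul_10 (g h : SL2F F) : (g * h).1 1 0 = g.1 1 0 * h.1 0 0 + g.1 1 1 * h.1 1 0 := by
  simp [SpecialLinearGroup.coe_mul, Matrix.mul_apply, Fin.sum_univ_two]
theorem mul_11 (g h : SL2F F) : (g * h).1 1 1 = g.1 1 0 * h.1 0 1 + g.1 1 1 * h.1 1 1 := by
  simp [SpecialLinearGroup.coe_mul, Matrix.mul_apply, Fin.sum_univ_two]

theorem det_eq (g : SL2F F) : g.1 0 0 * g.1 1 1 - g.1 0 1 * g.1 1 0 = 1 := by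
  have := g.2
  rwa [det_fin_two] at this

theorem xx_add (c d : F) : xx (c + d) = xx c * xx d := by
  apply ext2 <;> simp [mul_00, mul_01, mul_10, mul_11, add_comm]
theorem xx_zero : xx (0 : F) = 1 := by
  apply ext2 <;> simp
theorem yy_zero : yy (0 : F) = 1 := by
  apply ext2 <;> simp
theorem yy_add (c d : F) : yy (c + d) = yy c * yy d := by
  apply ext2 <;> simp [mul_00, mul_01, mul_10, mul_11]
theorem ww_inv : (ww : SL2F F)⁻¹ = ww * ww * ww := by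
  rw [inv_eq_iff_mul_eq_one]
  apply ext2 <;> simp [mul_00, mul_01, mul_10, mul_11]
theorem yy_eq (c : F) : yy c = ww * xx (-c) * ww⁻¹ := by
  rw [eq_mul_inv_iff_mul_eq]
  apply ext2 <;> simp [mul_00, mul_01, mul_10, mul_11]
theorem tt_mul (c d : F) (hc : c ≠ 0) (hd : d ≠ 0) :
    tt (c * d) (mul_ne_zero hc hd) = tt c hc * tt d hd := by
  apply ext2 <;> simp [mul_00, mul_01, mul_10, mul_11]; ring
theorem tt_one : tt (1 : F) one_ne_zero = 1 := by
  apply ext2 <;> simp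
theorem ww_mul_ww : (ww : SL2F F) * ww = tt (-1) (neg_ne_zero.2 one_ne_zero) := by
  apply ext2 <;> simp [mul_00, mul_01, mul_10, mul_11]
theorem tt_eq (c : F) (hc : c ≠ 0) : tt c hc = xx c * yy (-c⁻¹) * xx c * ww := by
  apply ext2 <;> simp [mul_00, mul_01, mul_10, mul_11, hc]
theorem tt_conj (c : F) (hc : c ≠ 0) (e : F) :
    tt c hc * xx e * (tt c hc)⁻¹ = xx (c * c * e) := by
  rw [mul_inv_eq_iff_eq_mul]
  apply ext2 <;> simp [mul_00, mul_01, mul_10, mul_11]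
  field_simp

/-- `SL₂(F)` is generated by the two root groups, explicitly. -/
theorem decomp (h : SL2F F) (hc : h.1 1 0 ≠ 0) :
    h = xx ((h.1 0 0 - 1) / h.1 1 0) * yy (h.1 1 0) * xx ((h.1 1 1 - 1) / h.1 1 0) := by
  have hd := det_eq h
  apply ext2 <;> simp [mul_00, mul_01, mul_10, mul_11]
  · field_simp; ring
  · field_simp; linear_combination (-1 : F) * hd
  · field_simp; ring

theorem mem_of_xx_yy (S : Subgroup (SL2F F)) (hx : ∀ c, xx c ∈ S) (hy : ∀ c, yy c ∈ S) (h : SL2F F) :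
    h ∈ S := by
  by_cases hc : h.1 1 0 = 0
  · have hd := det_eq h
    have ha : h.1 0 0 ≠ 0 := by
      intro h0
      rw [h0, hc] at hd
      simp at hd
    have h1 : (yy 1 * h).1 1 0 ≠ 0 := by
      simp [mul_10, hc, ha]
    have h2 := decomp _ h1
    have h3 : yy 1 * h ∈ S := by
      rw [h2]
      exact S.mul_mem (S.mul_mem (hx _) (hy _)) (hx _)
    have h4 := S.mul_mem (hy (-1)) h3
    rwa [← mul_assoc, ← yy_add, neg_add_cancel, yy_zero, one_mul] at h4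
  · rw [decomp h hc]
    exact S.mul_mem (S.mul_mem (hx _) (hy _)) (hx _)

section Module

variable {V : Type*} [AddCommGroup V] (ρ : SL2F F →* AddMonoid.End V) (W : AddSubgroup V)

/-- The hypotheses. -/
structure NatHyp : Prop where
  fix : ∀ c, ∀ w ∈ W, ρ (xx c) w = w
  comm : ∀ c v, ρ (xx c) v - v ∈ W
  sum : ∀ v, ∃ w₁ ∈ W, ∃ w₂ ∈ W, v = w₁ + ρ ww w₂
  disj : ∀ w₁ ∈ W, ∀ w₂ ∈ W, w₁ = ρ ww w₂ → w₁ = 0

variable {ρ W}

theorem rho_mul (g h : SL2F F) (v : V) : ρ (g * h) v = ρ g (ρ h v) := by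
  rw [map_mul]; rfl

theorem rho_one (v : V) : ρ 1 v = v := by
  rw [map_one]; rfl

theorem rho_inv_rho (g : SL2F F) (v : V) : ρ g⁻¹ (ρ g v) = v := by
  rw [← rho_mul, inv_mul_cancel, rho_one]

theorem rho_rho_inv (g : SL2F F) (v : V) : ρ g (ρ g⁻¹ v) = v := by
  rw [← rho_mul, mul_inv_cancel, rho_one]

namespace NatHyp

variable (H : NatHyp ρ W)
include H

theorem yy_fix (c : F) {w : V} (hw : w ∈ W) : ρ (yy c) (ρ ww w) = ρ ww w := by
  rw [yy_eq, ← rho_mul, mul_assoc, mul_assoc, inv_mul_cancel, mul_one, rho_mul, H.fix _ _ hw]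

theorem yy_comm (c : F) (v : V) : ∃ w ∈ W, ρ (yy c) v - v = ρ ww w := by
  refine ⟨_, H.comm (-c) (ρ ww⁻¹ v), ?_⟩
  rw [map_sub, rho_rho_inv, yy_eq, rho_mul, rho_mul]

/-- A vector fixed by the whole group and lying in `wW` is zero. -/
theorem eq_zero_of_fix {w : V} (hw : w ∈ W) (h : ∀ g, ρ g (ρ ww w) = ρ ww w) : ρ ww w = 0 := by
  have h1 := h ww⁻¹
  rw [rho_inv_rho] at h1
  have h2 := H.disj w hw w hw h1
  rw [h2, map_zero]

/-- The centralizer of a nontrivial root element is `W`. -/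
theorem mem_of_fix {a : F} (ha : a ≠ 0) {v : V} (hv : ρ (xx a) v = v) : v ∈ W := by
  obtain ⟨w₁, h₁, w₂, h₂, rfl⟩ := H.sum v
  have h3 : ρ (xx a) (ρ ww w₂) = ρ ww w₂ := by
    rw [map_add, H.fix _ _ h₁] at hv
    exact add_left_cancel hv
  have h4 : ρ ww w₂ = 0 := by
    apply H.eq_zero_of_fix h₂
    -- stabilizer
    let S : Subgroup (SL2F F) :=
      { carrier := {g | ρ g (ρ ww w₂) = ρ ww w₂}
        mul_mem' := fun {g g'} hg hg' => by
          change ρ (g * g') _ = _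
          change ρ g _ = _ at hg
          change ρ g' _ = _ at hg'
          rw [rho_mul, hg', hg]
        one_mem' := rho_one _
        inv_mem' := fun {g} hg => by
          change ρ g _ = _ at hg
          change ρ g⁻¹ _ = _
          conv_lhs => rw [← hg]
          rw [rho_inv_rho] }
    have hy : ∀ c, yy c ∈ S := fun c => H.yy_fix c h₂
    have hxa : xx a ∈ S := h3
    have hn : tt a ha * ww⁻¹ ∈ S := by
      rw [tt_eq, mul_assoc, mul_inv_cancel, mul_one]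
      exact S.mul_mem (S.mul_mem hxa (hy _)) hxa
    have hx : ∀ c, xx c ∈ S := by
      intro c
      have h5 := S.mul_mem (S.mul_mem hn (hy (-(c / (a * a))))) (S.inv_mem hn)
      have h6 : tt a ha * ww⁻¹ * yy (-(c / (a * a))) * (tt a ha * ww⁻¹)⁻¹ = xx c := by
        rw [yy_eq, neg_neg, _root_.mul_inv_rev, inv_inv]
        have : tt a ha * ww⁻¹ * (ww * xx (c / (a * a)) * ww⁻¹) * (ww * (tt a ha)⁻¹) =
            tt a ha * xx (c / (a * a)) * (tt a ha)⁻¹ := by group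
        rw [this, tt_conj]
        congr 1
        field_simp
      rwa [h6] at h5
    intro g
    exact mem_of_xx_yy S hx hy g
  rw [h4, add_zero]
  exact h₁

theorem tt_mem (c : F) (hc : c ≠ 0) {w : V} (hw : w ∈ W) : ρ (tt c hc) w ∈ W := by
  apply H.mem_of_fix (a := 1) one_ne_zero
  have h1 : xx (1 : F) * tt c hc = tt c hc * xx (c⁻¹ * c⁻¹) := by
    apply ext2 <;> simp [mul_00, mul_01, mul_10, mul_11, hc]
  rw [← rho_mul, h1, rho_mul, H.fix _ _ hw]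

/-- The formula for the torus. -/
theorem tt_formula (c : F) (hc : c ≠ 0) {w : V} (hw : w ∈ W) :
    ρ (tt c hc) w = ρ (xx c) (ρ ww w) - ρ ww w := by
  set v := ρ ww w with hv
  have hA := H.comm c v
  set A := ρ (xx c) v - v with hAe
  have h1 : ρ (xx c) v = v + A := by rw [hAe]; abel
  obtain ⟨w₃, hw₃, hB⟩ := H.yy_comm (-c⁻¹) A
  have h2 : ρ (yy (-c⁻¹)) (v + A) = (v + ρ ww w₃) + A := by
    rw [map_add, hv, H.yy_fix _ hw, ← hv]
    rw [← hB]
    abel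
  have hA' := H.comm c (v + ρ ww w₃)
  set A' := ρ (xx c) (v + ρ ww w₃) - (v + ρ ww w₃) with hA'e
  have h3 : ρ (xx c) ((v + ρ ww w₃) + A) = (v + ρ ww w₃) + (A' + A) := by
    rw [map_add, H.fix _ _ hA, hA'e]
    abel
  have h4 : ρ (tt c hc) w = (v + ρ ww w₃) + (A' + A) := by
    rw [tt_eq, rho_mul, ← hv, rho_mul, rho_mul, h1, h2, h3]
  have h5 : v + ρ ww w₃ ∈ W := by
    have : v + ρ ww w₃ = ρ (tt c hc) w - (A' + A) := by rw [h4]; abel
    rw [this]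
    exact W.sub_mem (H.tt_mem c hc hw) (W.add_mem hA' hA)
  have h6 : v + ρ ww w₃ = 0 := by
    apply H.disj _ h5 (w + w₃) (W.add_mem hw hw₃)
    rw [map_add]
  rw [h4, h6, zero_add]
  rw [hA'e, h6, map_zero, sub_zero, zero_add]

/-- The scalar action on `W`. -/
def sm (c : F) (w : W) : W :=
  ⟨ρ (xx c) (ρ ww w) - ρ ww w, H.comm c _⟩

theorem sm_coe (c : F) (w : W) : ((H.sm c w : W) : V) = ρ (xx c) (ρ ww w) - ρ ww w := rfl

theorem sm_eq_tt (c : F) (hc : c ≠ 0) (w : W) : ((H.sm c w : W) : V) = ρ (tt c hc) w := by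
  rw [sm_coe, H.tt_formula c hc w.2]

theorem sm_zero_left (w : W) : H.sm 0 w = 0 := by
  apply Subtype.ext
  rw [sm_coe, xx_zero, rho_one, sub_self]
  rfl

theorem sm_add_left (c d : F) (w : W) : H.sm (c + d) w = H.sm c w + H.sm d w := by
  apply Subtype.ext
  have h1 := H.comm d (ρ ww w)
  have h2 : ρ (xx d) (ρ ww w) = ρ ww w + (ρ (xx d) (ρ ww w) - ρ ww w) := by abel
  rw [AddSubgroup.coe_add, sm_coe, sm_coe, sm_coe, xx_add, rho_mul]
  conv_lhs => rw [h2, map_add, H.fix _ _ h1]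
  abel

theorem sm_add_right (c : F) (w w' : W) : H.sm c (w + w') = H.sm c w + H.sm c w' := by
  apply Subtype.ext
  rw [AddSubgroup.coe_add, sm_coe, sm_coe, sm_coe, AddSubgroup.coe_add, map_add, map_add]
  abel

theorem sm_zero_right (c : F) : H.sm c (0 : W) = 0 := by
  apply Subtype.ext
  rw [sm_coe]
  simp

theorem sm_one (w : W) : H.sm 1 w = w := by
  apply Subtype.ext
  rw [H.sm_eq_tt 1 one_ne_zero, tt_one, rho_one]

theorem sm_mul (c d : F) (w : W) : H.sm (c * d) w = H.sm c (H.sm d w) := by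
  by_cases hc : c = 0
  · subst hc
    rw [zero_mul, sm_zero_left, sm_zero_left]
  by_cases hd : d = 0
  · subst hd
    rw [mul_zero, sm_zero_left, sm_zero_right]
  · apply Subtype.ext
    rw [H.sm_eq_tt _ (mul_ne_zero hc hd), H.sm_eq_tt c hc, H.sm_eq_tt d hd, tt_mul c d hc hd, rho_mul]

/-- The module structure. -/
@[reducible] def modW : Module F W where
  smul := H.sm
  one_smul := H.sm_one
  mul_smul := H.sm_mul
  smul_zero := H.sm_zero_right
  smul_add := H.sm_add_right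
  add_smul := fun c d w => H.sm_add_left c d w
  zero_smul := H.sm_zero_left

/-- Uniqueness of the decomposition. -/
theorem decomp_unique {w₁ w₂ w₁' w₂' : V} (h₁ : w₁ ∈ W) (h₂ : w₂ ∈ W) (h₁' : w₁' ∈ W) (h₂' : w₂' ∈ W)
    (h : w₁ + ρ ww w₂ = w₁' + ρ ww w₂') : w₁ = w₁' ∧ w₂ = w₂' := by
  have h3 : w₁ - w₁' = ρ ww (w₂' - w₂) := by
    rw [map_sub]
    have : w₁ + ρ ww w₂ - w₁' - ρ ww w₂ = w₁' + ρ ww w₂' - w₁' - ρ ww w₂ := by rw [h]
    rw [show w₁ + ρ ww w₂ - w₁' - ρ ww w₂ = w₁ - w₁' by abel,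
      show w₁' + ρ ww w₂' - w₁' - ρ ww w₂ = ρ ww w₂' - ρ ww w₂ by abel] at this
    exact this
  have h4 := H.disj _ (W.sub_mem h₁ h₁') _ (W.sub_mem h₂' h₂) h3
  have h5 : w₁ = w₁' := sub_eq_zero.1 h4
  refine ⟨h5, ?_⟩
  rw [h4] at h3
  have h6 : ρ ww⁻¹ (ρ ww (w₂' - w₂)) = 0 := by
    rw [← h3, map_zero]
  rw [rho_inv_rho] at h6
  exact (sub_eq_zero.1 h6).symm

/-- The matrix formula. -/
def Mat (h : SL2F F) : Prop :=
  letI := H.modW
  ∀ w₁ w₂ : W, ρ h ((w₁ : V) + ρ ww (w₂ : V)) =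
    ((h.1 0 0 • w₁ + h.1 0 1 • w₂ : W) : V) + ρ ww ((h.1 1 0 • w₁ + h.1 1 1 • w₂ : W) : V)

theorem Mat_mul {h h' : SL2F F} (ih : H.Mat h) (ih' : H.Mat h') : H.Mat (h * h') := by
  letI := H.modW
  intro w₁ w₂
  rw [rho_mul, ih', ih, mul_00, mul_01, mul_10, mul_11]
  have e1 : h.1 0 0 • (h'.1 0 0 • w₁ + h'.1 0 1 • w₂) + h.1 0 1 • (h'.1 1 0 • w₁ + h'.1 1 1 • w₂) =
      (h.1 0 0 * h'.1 0 0 + h.1 0 1 * h'.1 1 0) • w₁ + (h.1 0 0 * h'.1 0 1 + h.1 0 1 * h'.1 1 1) • w₂ := by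
    module
  have e2 : h.1 1 0 • (h'.1 0 0 • w₁ + h'.1 0 1 • w₂) + h.1 1 1 • (h'.1 1 0 • w₁ + h'.1 1 1 • w₂) =
      (h.1 1 0 * h'.1 0 0 + h.1 1 1 * h'.1 1 0) • w₁ + (h.1 1 0 * h'.1 0 1 + h.1 1 1 * h'.1 1 1) • w₂ := by
    module
  rw [e1, e2]

theorem Mat_xx (e : F) : H.Mat (xx e) := by
  letI := H.modW
  intro w₁ w₂
  rw [map_add, H.fix _ _ w₁.2]
  have h1 : ((e • w₂ : W) : V) = ρ (xx e) (ρ ww w₂) - ρ ww w₂ := rfl
  simp only [xx_00, xx_01, xx_10, xx_11, one_smul, zero_smul, zero_add, AddSubgroup.coe_add, h1]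
  abel

theorem Mat_ww : H.Mat ww := by
  letI := H.modW
  intro w₁ w₂
  rw [map_add, ← rho_mul ww ww, ww_mul_ww]
  have h1 : (((-1 : F) • w₂ : W) : V) = ρ (tt (-1) (neg_ne_zero.2 one_ne_zero)) w₂ :=
    H.sm_eq_tt _ _ _
  simp only [ww_00, ww_01, ww_10, ww_11, one_smul, zero_smul, zero_add, add_zero, h1]
  abel

theorem Mat_yy (e : F) : H.Mat (yy e) := by
  rw [yy_eq, ww_inv]
  exact H.Mat_mul (H.Mat_mul H.Mat_ww (H.Mat_xx _)) (H.Mat_mul (H.Mat_mul H.Mat_ww H.Mat_ww) H.Mat_ww)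

theorem Mat_all (h : SL2F F) : H.Mat h := by
  by_cases hc : h.1 1 0 = 0
  · have hd := det_eq h
    have ha : h.1 0 0 ≠ 0 := by
      intro h0
      rw [h0, hc] at hd
      simp at hd
    have h1 : (yy 1 * h).1 1 0 ≠ 0 := by
      simp [mul_10, hc, ha]
    have h2 := decomp _ h1
    have h3 : H.Mat (yy 1 * h) := by
      rw [h2]
      exact H.Mat_mul (H.Mat_mul (H.Mat_xx _) (H.Mat_yy _)) (H.Mat_xx _)
    have h4 := H.Mat_mul (H.Mat_yy (-1)) h3
    rwa [← mul_assoc, ← yy_add, neg_add_cancel, yy_zero, one_mul] at h4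
  · rw [decomp h hc]
    exact H.Mat_mul (H.Mat_mul (H.Mat_xx _) (H.Mat_yy _)) (H.Mat_xx _)

/-- Main theorem: an element of trace different from two is fixed point free. -/
theorem fpf_of_trace (h : SL2F F) (htr : h.1 0 0 + h.1 1 1 ≠ 2) {v : V} (hv : ρ h v = v) : v = 0 := by
  letI := H.modW
  obtain ⟨w₁, h₁, w₂, h₂, rfl⟩ := H.sum v
  have hM := H.Mat_all h ⟨w₁, h₁⟩ ⟨w₂, h₂⟩
  simp only at hM
  rw [hM] at hv
  obtain ⟨e1, e2⟩ := H.decomp_unique (Subtype.property _) (Subtype.property _) h₁ h₂ hv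
  set a := h.1 0 0 with ha
  set b := h.1 0 1 with hb
  set c := h.1 1 0 with hc
  set d := h.1 1 1 with hd
  have hdet : a * d - b * c = 1 := det_eq h
  have e1' : a • (⟨w₁, h₁⟩ : W) + b • (⟨w₂, h₂⟩ : W) = ⟨w₁, h₁⟩ := Subtype.ext e1
  have e2' : c • (⟨w₁, h₁⟩ : W) + d • (⟨w₂, h₂⟩ : W) = ⟨w₂, h₂⟩ := Subtype.ext e2
  have hs : (2 - a - d : F) ≠ 0 := by
    intro h0
    apply htr
    linear_combination (-1 : F) * h0
  have z1 : (2 - a - d : F) • (⟨w₁, h₁⟩ : W) = 0 := by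
    have h3 : (d - 1) • (a • (⟨w₁, h₁⟩ : W) + b • (⟨w₂, h₂⟩ : W)) - b • (c • (⟨w₁, h₁⟩ : W) + d • (⟨w₂, h₂⟩ : W)) =
        (d - 1) • (⟨w₁, h₁⟩ : W) - b • (⟨w₂, h₂⟩ : W) := by rw [e1', e2']
    have h4 : (2 - a - d : F) = (a * d - b * c) + 1 - a - d := by rw [hdet]; ring
    rw [h4]
    have h5 : ((a * d - b * c) + 1 - a - d) • (⟨w₁, h₁⟩ : W) =
       ((d - 1) • (a • (⟨w₁, h₁⟩ : W) + b • (⟨w₂, h₂⟩ : W)) - b • (c • (⟨w₁, h₁⟩ : W) + d • (⟨w₂, h₂⟩ : W)))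
        - ((d - 1) • (⟨w₁, h₁⟩ : W) - b • (⟨w₂, h₂⟩ : W)) := by module
    rw [h5, h3, sub_self]
  have z2 : (2 - a - d : F) • (⟨w₂, h₂⟩ : W) = 0 := by
    have h3 : (a - 1) • (c • (⟨w₁, h₁⟩ : W) + d • (⟨w₂, h₂⟩ : W)) - c • (a • (⟨w₁, h₁⟩ : W) + b • (⟨w₂, h₂⟩ : W)) =
        (a - 1) • (⟨w₂, h₂⟩ : W) - c • (⟨w₁, h₁⟩ : W) := by rw [e1', e2']
    have h4 : (2 - a - d : F) = (a * d - b * c) + 1 - a - d := by rw [hdet]; ring
    rw [h4]
    have h5 : ((a * d - b * c) + 1 - a - d) • (⟨w₂, h₂⟩ : W) =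
       ((a - 1) • (c • (⟨w₁, h₁⟩ : W) + d • (⟨w₂, h₂⟩ : W)) - c • (a • (⟨w₁, h₁⟩ : W) + b • (⟨w₂, h₂⟩ : W)))
        - ((a - 1) • (⟨w₂, h₂⟩ : W) - c • (⟨w₁, h₁⟩ : W)) := by module
    rw [h5, h3, sub_self]
  have y1 : (⟨w₁, h₁⟩ : W) = 0 := (smul_eq_zero.1 z1).resolve_left hs
  have y2 : (⟨w₂, h₂⟩ : W) = 0 := (smul_eq_zero.1 z2).resolve_left hs
  have y1' : w₁ = 0 := congrArg Subtype.val y1
  have y2' : w₂ = 0 := congrArg Subtype.val y2
  rw [y1', y2', map_zero, add_zero]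

end NatHyp

end Module

/-- A trace-two element has order dividing `p`. -/
theorem pow_eq_one_of_trace (p : ℕ) [hp : Fact p.Prime] [CharP F p] (h : SL2F F)
    (htr : h.1 0 0 + h.1 1 1 = 2) : h ^ p = 1 := by
  have hd := det_eq h
  let N : Matrix (Fin 2) (Fin 2) F := h.1 - 1
  have hN : N * N = 0 := by
    have h3 : h.1 1 1 = 2 - h.1 0 0 := by linear_combination htr
    ext i j
    fin_cases i <;> fin_cases j <;>
      simp [N, Matrix.mul_apply, Fin.sum_univ_two, Matrix.one_apply, h3]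
    · rw [h3] at hd; linear_combination (-1:F) * hd
    · ring
    · ring
    · rw [h3] at hd; linear_combination (-1:F) * hd
  have h1 : (h.1 : Matrix (Fin 2) (Fin 2) F) = N + 1 := by simp [N]
  have h2 : (h.1 : Matrix (Fin 2) (Fin 2) F) ^ p = 1 := by
    rw [h1]
    have hc : Commute N 1 := Commute.one_right N
    rw [add_pow_char_of_commute p hc, one_pow]
    have : N ^ p = 0 := by
      obtain ⟨k, hk⟩ : ∃ k, p = k + 2 := ⟨p - 2, by have := hp.out.two_le; omega⟩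
      rw [hk, pow_add, pow_two, hN, mul_zero]
    rw [this, zero_add]
  apply Subtype.ext
  exact (Matrix.SpecialLinearGroup.coe_pow h p).trans h2

end Cfsg.Agent.Lib.NatMod58
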