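/-
`A/C` as a module: reflection argument and the module data attached to a group `L` with a normal
subgroup `A` generated by conjugates of `Y ∩ A`, normalizing `Y`, where `Y` lies in a unique
maximal subgroup.
-/
import Mathlib
import Cfsg.Agent.Lib.NatMod58
import Cfsg.Agent.Lib.LocalLarge

set_option autoImplicit false
set_option linter.unusedSectionVars false
set_option linter.unusedVariables false
set_option linter.style.haveILetI false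

namespace Cfsg.Agent.Lib.NatMod58

open Cfsg.Agent.Lib.LocalLarge

universe u

section Data

variable {Γ : Type*} [Group Γ] {V : Type*} [AddCommGroup V] (ρ : Γ →* AddMonoid.End V)
  (U : Subgroup Γ) (W : AddSubgroup V)

/-- The module data. -/
structure ModData : Prop where
  fix : ∀ u ∈ U, ∀ w ∈ W, ρ u w = w
  comm : ∀ u ∈ U, ∀ v, ρ u v - v ∈ W
  sum : ∀ k, k ∉ Subgroup.normalizer (U : Set Γ) → ∀ v, ∃ w₁ ∈ W, ∃ w₂ ∈ W, v = w₁ + ρ k w₂
  disj : ∀ k, k ∉ Subgroup.normalizer (U : Set Γ) → ∀ w₁ ∈ W, ∀ w₂ ∈ W, w₁ = ρ k w₂ → w₁ = 0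
  gen : ∀ k, k ∉ Subgroup.normalizer (U : Set Γ) → ∀ u ∈ U, u ≠ 1 → cj k U ⊔ Subgroup.zpowers u = ⊤

variable {ρ U W}

theorem rmul (g h : Γ) (v : V) : ρ (g * h) v = ρ g (ρ h v) := by
  rw [map_mul]; rfl

theorem rone (v : V) : ρ 1 v = v := by
  rw [map_one]; rfl

theorem rinv (g : Γ) (v : V) : ρ g⁻¹ (ρ g v) = v := by
  rw [← rmul, inv_mul_cancel, rone]

theorem rinv' (g : Γ) (v : V) : ρ g (ρ g⁻¹ v) = v := by
  rw [← rmul, mul_inv_cancel, rone]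

/-- The stabilizer of a vector. -/
def stabV (ρ : Γ →* AddMonoid.End V) (v : V) : Subgroup Γ where
  carrier := {g | ρ g v = v}
  mul_mem' := fun {g g'} hg hg' => by
    change ρ (g * g') _ = _
    change ρ g _ = _ at hg
    change ρ g' _ = _ at hg'
    rw [rmul, hg', hg]
  one_mem' := rone _
  inv_mem' := fun {g} hg => by
    change ρ g _ = _ at hg
    change ρ g⁻¹ _ = _
    conv_lhs => rw [← hg]
    rw [rinv]

namespace ModData

variable (H : ModData ρ U W)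
include H

theorem mem_of_fix {k : Γ} (hk : k ∉ Subgroup.normalizer (U : Set Γ)) {u : Γ} (hu : u ∈ U)
    (hu1 : u ≠ 1) {v : V} (hv : ρ u v = v) : v ∈ W := by
  obtain ⟨w₁, h₁, w₂, h₂, rfl⟩ := H.sum k hk v
  have h3 : ρ u (ρ k w₂) = ρ k w₂ := by
    rw [map_add, H.fix u hu _ h₁] at hv
    exact add_left_cancel hv
  have h4 : cj k U ≤ stabV ρ (ρ k w₂) := by
    rw [cj_le_iff]
    intro x hx
    change ρ (k * x * k⁻¹) _ = _
    rw [rmul, rmul, rinv, H.fix x hx _ h₂]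
  have h5 : Subgroup.zpowers u ≤ stabV ρ (ρ k w₂) := by
    rw [Subgroup.zpowers_le]
    exact h3
  have h6 : ⊤ ≤ stabV ρ (ρ k w₂) := by
    rw [← H.gen k hk u hu hu1]
    exact sup_le h4 h5
  have h7 : ρ k⁻¹ (ρ k w₂) = ρ k w₂ := h6 (Subgroup.mem_top _)
  rw [rinv] at h7
  have h8 : w₂ = 0 := H.disj k hk w₂ h₂ w₂ h₂ h7
  rw [h8, map_zero, add_zero]
  exact h₁

/-- The reflection argument. -/
theorem reflect (h2 : ∀ v : V, v + v = 0) (hU2 : ∀ u ∈ U, ∃ n : ℕ, u ^ 2 ^ n = 1)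
    {k₀ : Γ} (hk₀ : k₀ ∉ Subgroup.normalizer (U : Set Γ)) {h₁ k u : Γ} (ho : Odd (orderOf h₁))
    (h1 : h₁ ≠ 1) (hu : u ∈ U) (hu1 : u ≠ 1) (hzz : (k * u * k⁻¹) * (k * u * k⁻¹) = 1)
    (hinv : (k * u * k⁻¹) * h₁ * (k * u * k⁻¹) = h₁⁻¹) {v : V} (hv : ρ h₁ v = v) : v = 0 := by
  by_contra hv0
  set z := k * u * k⁻¹ with hz
  have e : h₁ * z = z * h₁⁻¹ := by
    rw [← hinv]
    calc h₁ * z = (z * z) * h₁ * z := by rw [hzz, one_mul]
      _ = z * (z * h₁ * z) := by group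
  have hvi : ρ h₁⁻¹ v = v := by
    conv_lhs => rw [← hv]
    rw [rinv]
  have hzv : ρ h₁ (ρ z v) = ρ z v := by
    rw [← rmul, e, rmul, hvi]
  obtain ⟨v', hv'0, hv'z, hv'h⟩ : ∃ v' : V, v' ≠ 0 ∧ ρ z v' = v' ∧ ρ h₁ v' = v' := by
    by_cases hs : v + ρ z v = 0
    · refine ⟨v, hv0, ?_, hv⟩
      have h3 : ρ z v = -v := eq_neg_of_add_eq_zero_right hs
      rw [h3]
      exact (eq_neg_of_add_eq_zero_left (h2 v)).symm
    · refine ⟨v + ρ z v, hs, ?_, ?_⟩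
      · rw [map_add, ← rmul, hzz, rone, add_comm]
      · rw [map_add, hv, hzv]
  set w := ρ k⁻¹ v' with hw
  have hwu : ρ u w = w := by
    have e2 : u * k⁻¹ = k⁻¹ * z := by rw [hz]; group
    rw [hw, ← rmul, e2, rmul, hv'z]
  have hwW : w ∈ W := H.mem_of_fix hk₀ hu hu1 hwu
  have hwl : ρ (k⁻¹ * h₁ * k) w = w := by
    rw [hw, rmul, rmul, rinv', hv'h]
  by_cases hl : k⁻¹ * h₁ * k ∈ Subgroup.normalizer (U : Set Γ)
  · have h4 := (Subgroup.mem_normalizer_iff.1 hl u).1 hu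
    have h5 := U.mul_mem hu h4
    have e3 : u * ((k⁻¹ * h₁ * k) * u * (k⁻¹ * h₁ * k)⁻¹) = k⁻¹ * (h₁⁻¹ * h₁⁻¹) * k := by
      have e4 : h₁⁻¹ * h₁⁻¹ = (z * h₁ * z) * h₁⁻¹ := by rw [hinv]
      rw [e4, hz]
      group
    rw [e3] at h5
    obtain ⟨n, hn⟩ := hU2 _ h5
    have h6 : (k⁻¹ * (h₁⁻¹ * h₁⁻¹) * k) ^ 2 ^ n = k⁻¹ * (h₁⁻¹ * h₁⁻¹) ^ 2 ^ n * k := by
      have := conj_pow (a := k⁻¹) (b := h₁⁻¹ * h₁⁻¹) (i := 2 ^ n)
      rwa [inv_inv] at this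
    rw [h6] at hn
    have h7 : (h₁⁻¹ * h₁⁻¹) ^ 2 ^ n = 1 := by
      have : (h₁⁻¹ * h₁⁻¹) ^ 2 ^ n = k * (k⁻¹ * (h₁⁻¹ * h₁⁻¹) ^ 2 ^ n * k) * k⁻¹ := by group
      rw [this, hn]
      group
    have h8 : h₁ ^ 2 ^ (n + 1) = 1 := by
      have h9 : (h₁⁻¹ * h₁⁻¹) = (h₁ * h₁)⁻¹ := by group
      rw [h9, inv_pow, inv_eq_one, ← pow_two, ← pow_mul] at h7
      rw [pow_succ']
      exact h7
    have h10 : orderOf h₁ ∣ 2 ^ (n + 1) := orderOf_dvd_of_pow_eq_one h8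
    obtain ⟨j, hj, hj2⟩ := (Nat.dvd_prime_pow Nat.prime_two).1 h10
    rw [hj2] at ho
    rcases Nat.eq_zero_or_pos j with rfl | hjp
    · rw [pow_zero, orderOf_eq_one_iff] at hj2
      exact h1 hj2
    · exact (Nat.not_odd_iff_even.2 (Nat.even_pow.2 ⟨even_two, by omega⟩)) ho
  · have h4 : w = 0 := H.disj _ hl w hwW w hwW hwl.symm
    apply hv'0
    have h5 : ρ k w = v' := rinv' k v'
    rw [← h5, h4, map_zero]

end ModData

end Data

section PartI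

variable {L : Type u} [Group L]

/-- The hypotheses on `L`. -/
structure LHyp (Y A : Subgroup L) : Prop where
  normal : A.Normal
  comm : ∀ y ∈ Y, ∀ y' ∈ Y, y * y' = y' * y
  norm : A ≤ Subgroup.normalizer (Y : Set L)
  cl : Subgroup.normalClosure ((Y ⊓ A : Subgroup L) : Set L) = A
  cen : Subgroup.centralizer (A : Set L) ≤ A
  max : ∀ X : Subgroup L, Y ≤ X → X ≠ ⊤ → X ≤ Subgroup.normalizer (Y : Set L)

theorem cmem {Y A : Subgroup L} (hA : A.Normal) (hN : A ≤ Subgroup.normalizer (Y : Set L)) {y a : L}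
    (hy : y ∈ Y) (ha : a ∈ A) : y * a * y⁻¹ * a⁻¹ ∈ Y ⊓ A := by
  refine ⟨?_, A.mul_mem (hA.conj_mem a ha y) (A.inv_mem ha)⟩
  have h1 := (Subgroup.mem_normalizer_iff.1 (hN ha) y⁻¹).1 (Y.inv_mem hy)
  have h2 : y * a * y⁻¹ * a⁻¹ = y * (a * y⁻¹ * a⁻¹) := by group
  rw [h2]
  exact Y.mul_mem hy h1

theorem mem_normalizer_of {D : Subgroup L} {l : L} (h1 : ∀ x ∈ D, l * x * l⁻¹ ∈ D)
    (h2 : ∀ x ∈ D, l⁻¹ * x * l ∈ D) : l ∈ Subgroup.normalizer (D : Set L) := by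
  rw [Subgroup.mem_normalizer_iff]
  intro x
  refine ⟨h1 x, fun h => ?_⟩
  have := h2 _ h
  have e : l⁻¹ * (l * x * l⁻¹) * l = x := by group
  rwa [e] at this

variable {Y A : Subgroup L} (H : LHyp Y A)
include H

theorem LHyp.norm_cj (g : L) : A ≤ Subgroup.normalizer ((cj g Y : Subgroup L) : Set L) := by
  haveI := H.normal
  have h1 : cj g A = A := cj_normal H.normal g
  conv_lhs => rw [← h1]
  rw [cj_normalizer]
  exact cj_mono H.norm

theorem LHyp.comm_cj (g : L) {x x' : L} (hx : x ∈ cj g Y) (hx' : x' ∈ cj g Y) : x * x' = x' * x := by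
  rw [mem_cj] at hx hx'
  have h1 := H.comm _ hx _ hx'
  have h2 : g * (g⁻¹ * x * g * (g⁻¹ * x' * g)) * g⁻¹ = g * (g⁻¹ * x' * g * (g⁻¹ * x * g)) * g⁻¹ := by
    rw [h1]
  have e1 : g * (g⁻¹ * x * g * (g⁻¹ * x' * g)) * g⁻¹ = x * x' := by group
  have e2 : g * (g⁻¹ * x' * g * (g⁻¹ * x * g)) * g⁻¹ = x' * x := by group
  rwa [e1, e2] at h2

theorem LHyp.sup_top {g : L} (hg : ¬ cj g Y ≤ Subgroup.normalizer (Y : Set L)) : Y ⊔ cj g Y = ⊤ := by
  by_contra h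
  exact hg (le_trans le_sup_right (H.max _ le_sup_left h))

/-- Decomposition of `A`. -/
theorem LHyp.exists_decomp {g : L} (hg : ¬ cj g Y ≤ Subgroup.normalizer (Y : Set L)) {a : L}
    (ha : a ∈ A) : ∃ y₀ ∈ Y ⊓ A, ∃ y₁ ∈ cj g Y ⊓ A, a = y₀ * y₁ := by
  haveI hAn := H.normal
  have hN := H.norm
  have hN' := H.norm_cj g
  -- the normalization facts
  have n0 : ∀ {x y : L}, x ∈ Y ⊓ A → y ∈ A → y * x * y⁻¹ ∈ Y ⊓ A := fun {x y} hx hy =>
    ⟨(Subgroup.mem_normalizer_iff.1 (hN hy) x).1 hx.1, hAn.conj_mem x hx.2 y⟩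
  have n1 : ∀ {x y : L}, x ∈ cj g Y ⊓ A → y ∈ A → y * x * y⁻¹ ∈ cj g Y ⊓ A := fun {x y} hx hy =>
    ⟨(Subgroup.mem_normalizer_iff.1 (hN' hy) x).1 hx.1, hAn.conj_mem x hx.2 y⟩
  let D : Subgroup L :=
    { carrier := {a | ∃ y₀ ∈ Y ⊓ A, ∃ y₁ ∈ cj g Y ⊓ A, a = y₀ * y₁}
      mul_mem' := by
        rintro _ _ ⟨y₀, h₀, y₁, h₁, rfl⟩ ⟨y₀', h₀', y₁', h₁', rfl⟩
        refine ⟨y₀ * (y₁ * y₀' * y₁⁻¹), (Y ⊓ A).mul_mem h₀ (n0 h₀' h₁.2), y₁ * y₁',
          (cj g Y ⊓ A).mul_mem h₁ h₁', by group⟩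
      one_mem' := ⟨1, (Y ⊓ A).one_mem, 1, (cj g Y ⊓ A).one_mem, by simp⟩
      inv_mem' := by
        rintro _ ⟨y₀, h₀, y₁, h₁, rfl⟩
        refine ⟨y₁⁻¹ * y₀⁻¹ * y₁⁻¹⁻¹, n0 ((Y ⊓ A).inv_mem h₀) (A.inv_mem h₁.2), y₁⁻¹,
          (cj g Y ⊓ A).inv_mem h₁, by group⟩ }
  have hD : ∀ {a : L}, a ∈ D ↔ ∃ y₀ ∈ Y ⊓ A, ∃ y₁ ∈ cj g Y ⊓ A, a = y₀ * y₁ := Iff.rfl
  have step1 : ∀ {y : L}, y ∈ Y → ∀ x ∈ D, y * x * y⁻¹ ∈ D := by
    rintro y hy _ ⟨y₀, h₀, y₁, h₁, rfl⟩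
    have h2 := cmem hAn hN hy h₁.2
    refine ⟨y₀ * (y * y₁ * y⁻¹ * y₁⁻¹), (Y ⊓ A).mul_mem h₀ h2, y₁, h₁, ?_⟩
    have h3 : y * y₀ = y₀ * y := H.comm y hy y₀ h₀.1
    calc y * (y₀ * y₁) * y⁻¹ = (y * y₀) * y₁ * y⁻¹ := by group
      _ = (y₀ * y) * y₁ * y⁻¹ := by rw [h3]
      _ = _ := by group
  have step2 : ∀ {y : L}, y ∈ cj g Y → ∀ x ∈ D, y * x * y⁻¹ ∈ D := by
    rintro y hy _ ⟨y₀, h₀, y₁, h₁, rfl⟩
    have h2 := cmem hAn hN' hy h₀.2
    have h3 : y₀⁻¹ * (y * y₀ * y⁻¹ * y₀⁻¹) * y₀⁻¹⁻¹ ∈ cj g Y ⊓ A := n1 h2 (A.inv_mem h₀.2)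
    refine ⟨y₀, h₀, _, (cj g Y ⊓ A).mul_mem h3 h₁, ?_⟩
    have h4 : y * y₁ = y₁ * y := H.comm_cj g hy h₁.1
    calc y * (y₀ * y₁) * y⁻¹ = (y * y₀ * y⁻¹) * (y * y₁ * y⁻¹) := by group
      _ = (y * y₀ * y⁻¹) * y₁ := by
        rw [show y * y₁ * y⁻¹ = y₁ by rw [h4]; group]
      _ = _ := by group
  have hnD : D.Normal := by
    have h1 : Y ≤ Subgroup.normalizer (D : Set L) := fun y hy =>
      mem_normalizer_of (step1 hy) (by simpa using step1 (Y.inv_mem hy))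
    have h2 : cj g Y ≤ Subgroup.normalizer (D : Set L) := fun y hy =>
      mem_normalizer_of (step2 hy) (by simpa using step2 ((cj g Y).inv_mem hy))
    have h3 : Y ⊔ cj g Y ≤ Subgroup.normalizer (D : Set L) := sup_le h1 h2
    rw [H.sup_top hg, top_le_iff] at h3
    exact Subgroup.normalizer_eq_top_iff.1 h3
  have hle : A ≤ D := by
    rw [← H.cl]
    apply Subgroup.normalClosure_le_normal
    intro x hx
    exact ⟨x, hx, 1, (cj g Y ⊓ A).one_mem, by simp⟩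
  exact hle ha

/-- The central subgroup `C`. -/
def CC (Y : Subgroup L) : Subgroup L := Y ⊓ Subgroup.center L

omit H in
theorem CC_normal (Y : Subgroup L) : (CC Y).Normal := by
  constructor
  intro c hc g
  have h2 : g * c * g⁻¹ = c := by
    rw [Subgroup.mem_center_iff.1 hc.2 g]
    group
  rwa [h2]

theorem LHyp.inf_le_CC {g : L} (hg : ¬ cj g Y ≤ Subgroup.normalizer (Y : Set L)) {z : L}
    (h0 : z ∈ Y) (h1 : z ∈ cj g Y) : z ∈ CC Y := by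
  refine ⟨h0, ?_⟩
  have h2 : Y ⊔ cj g Y ≤ Subgroup.centralizer ({z} : Set L) := by
    apply sup_le
    · intro y hy
      rw [Subgroup.mem_centralizer_singleton_iff]
      exact H.comm y hy z h0
    · intro y hy
      rw [Subgroup.mem_centralizer_singleton_iff]
      exact H.comm_cj g hy h1
  rw [H.sup_top hg, top_le_iff] at h2
  show z ∈ Subgroup.center L
  rw [Subgroup.mem_center_iff]
  intro l
  have h3 : l ∈ Subgroup.centralizer ({z} : Set L) := by rw [h2]; exact Subgroup.mem_top _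
  rw [Subgroup.mem_centralizer_singleton_iff] at h3
  exact h3

theorem LHyp.CC_le {c : L} (hc : c ∈ CC Y) : c ∈ Y ⊓ A := by
  refine ⟨hc.1, H.cen ?_⟩
  rw [Subgroup.mem_centralizer_iff]
  intro a _
  exact Subgroup.mem_center_iff.1 hc.2 a

theorem LHyp.CC_le' (g : L) {c : L} (hc : c ∈ CC Y) : c ∈ cj g Y ⊓ A := by
  refine ⟨?_, (H.CC_le hc).2⟩
  show c ∈ cj g Y
  rw [mem_cj]
  have : g⁻¹ * c * g = c := by
    rw [Subgroup.mem_center_iff.1 hc.2 g⁻¹]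
    group
  rw [this]
  exact hc.1

/-- `A / C` is commutative. -/
theorem LHyp.comm_mod {g : L} (hg : ¬ cj g Y ≤ Subgroup.normalizer (Y : Set L)) {a b : L}
    (ha : a ∈ A) (hb : b ∈ A) :
    haveI := CC_normal Y
    (QuotientGroup.mk' (CC Y) a) * (QuotientGroup.mk' (CC Y) b) =
      (QuotientGroup.mk' (CC Y) b) * (QuotientGroup.mk' (CC Y) a) := by
  haveI hCn := CC_normal Y
  haveI hAn := H.normal
  set μ := QuotientGroup.mk' (CC Y) with hμ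
  have hcomm : ∀ {x y : L}, x * y * x⁻¹ * y⁻¹ ∈ CC Y → Commute (μ x) (μ y) := by
    intro x y h
    have h1 : μ (x * y * x⁻¹ * y⁻¹) = 1 := (QuotientGroup.eq_one_iff _).2 h
    rw [map_mul, map_mul, map_mul, map_inv, map_inv] at h1
    rw [mul_inv_eq_one, mul_inv_eq_iff_eq_mul] at h1
    exact h1
  have p00 : ∀ {x x' : L}, x ∈ Y → x' ∈ Y → Commute (μ x) (μ x') := by
    intro x x' h h'
    have := H.comm x h x' h'
    show μ x * μ x' = μ x' * μ x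
    rw [← map_mul, ← map_mul, this]
  have p11 : ∀ {x x' : L}, x ∈ cj g Y → x' ∈ cj g Y → Commute (μ x) (μ x') := by
    intro x x' h h'
    have := H.comm_cj g h h'
    show μ x * μ x' = μ x' * μ x
    rw [← map_mul, ← map_mul, this]
  have p01 : ∀ {x x' : L}, x ∈ Y ⊓ A → x' ∈ cj g Y ⊓ A → Commute (μ x) (μ x') := by
    intro x x' h h'
    apply hcomm
    apply H.inf_le_CC hg
    · exact (cmem hAn H.norm h.1 h'.2).1
    · exact (cj g Y).mul_mem ((Subgroup.mem_normalizer_iff.1 (H.norm_cj g h.2) _).1 h'.1)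
        ((cj g Y).inv_mem h'.1)
  obtain ⟨a0, ha0, a1, ha1, rfl⟩ := H.exists_decomp hg ha
  obtain ⟨b0, hb0, b1, hb1, rfl⟩ := H.exists_decomp hg hb
  have h4 : Commute (μ (a0 * a1)) (μ (b0 * b1)) := by
    rw [map_mul, map_mul]
    apply Commute.mul_left
    · exact Commute.mul_right (p00 ha0.1 hb0.1) (p01 ha0 hb1)
    · exact Commute.mul_right (p01 hb0 ha1).symm (p11 ha1.1 hb1.1)
  exact h4

end PartI

section VV

variable {L : Type u} [Group L] {Y A : Subgroup L}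

instance CC_normal_inst (Y : Subgroup L) : (CC Y).Normal := CC_normal Y

theorem pi_norm {Γ : Type*} [Group Γ] (π : L →* Γ) {Z : Subgroup L} {x : L}
    (hx : x ∈ Subgroup.normalizer (Z : Set L)) :
    π x ∈ Subgroup.normalizer ((Z.map π : Subgroup Γ) : Set Γ) :=
  Subgroup.le_normalizer_map π ⟨x, hx, rfl⟩

theorem map_cj {Γ : Type*} [Group Γ] (π : L →* Γ) (g : L) (Z : Subgroup L) :
    (cj g Z).map π = cj (π g) (Z.map π) := by
  ext x
  constructor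
  · rintro ⟨_, ⟨z, hz, rfl⟩, rfl⟩
    refine ⟨π z, ⟨z, hz, rfl⟩, ?_⟩
    show π g * π z * (π g)⁻¹ = π (g * z * g⁻¹)
    simp [map_mul, map_inv]
  · rintro ⟨_, ⟨z, hz, rfl⟩, rfl⟩
    refine ⟨g * z * g⁻¹, ⟨z, hz, rfl⟩, ?_⟩
    show π (g * z * g⁻¹) = π g * π z * (π g)⁻¹
    simp [map_mul, map_inv]

/-- The additive commutative group attached to a commutative group. -/
@[reducible] def addCG (N : Type*) [Group N] (h : ∀ x y : N, x * y = y * x) : AddCommGroup (Additive N) :=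
  { (Additive.addGroup : AddGroup (Additive N)) with
    add_comm := fun x y => Additive.toMul.injective (h x.toMul y.toMul) }

theorem exists_data (H : LHyp Y A) {Γ : Type*} [Group Γ] (π : L →* Γ)
    (hπ : Function.Surjective π) (hker : π.ker = A)
    (hP : ∀ k, k ∉ Subgroup.normalizer ((Y.map π : Subgroup Γ) : Set Γ) → ∀ u ∈ Y.map π, u ≠ 1 →
      u ∉ Subgroup.normalizer ((cj k (Y.map π) : Subgroup Γ) : Set Γ))
    (hex : ∃ k, k ∉ Subgroup.normalizer ((Y.map π : Subgroup Γ) : Set Γ)) :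
    ∃ (V : Type u) (_ : AddCommGroup V) (ρ : Γ →* AddMonoid.End V) (W : AddSubgroup V) (q : ↥A → V),
      ModData ρ (Y.map π) W ∧ (∀ a, q a = 0 → (a : L) ∈ CC Y) ∧
      (∀ (h : L) (a : ↥A), h * a * h⁻¹ * (a : L)⁻¹ ∈ CC Y → ρ (π h) (q a) = q a) ∧
      ((∀ y ∈ Y, y * y = 1) → ∀ v : V, v + v = 0) := by
  classical
  haveI hAn := H.normal
  set U := Y.map π with hU
  let μ := QuotientGroup.mk' (CC Y)
  have hμ : Function.Surjective μ := QuotientGroup.mk'_surjective _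
  let Ab : Subgroup (L ⧸ CC Y) := A.map μ
  haveI hAbn : Ab.Normal := hAn.map μ hμ
  obtain ⟨k₀, hk₀⟩ := hex
  obtain ⟨g₀, rfl⟩ := hπ k₀
  have key : ∀ g, π g ∉ Subgroup.normalizer ((U : Subgroup Γ) : Set Γ) →
      ¬ cj g Y ≤ Subgroup.normalizer (Y : Set L) := by
    intro g hg hle
    have hU1 : ∃ u ∈ U, u ≠ 1 := by
      by_contra hcon
      push Not at hcon
      apply hg
      have : U = ⊥ := (Subgroup.eq_bot_iff_forall _).2 hcon
      rw [this]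
      have h0 := Subgroup.normalizer_eq_top_iff.2 (inferInstance : (⊥ : Subgroup Γ).Normal)
      rw [h0]
      exact Subgroup.mem_top _
    obtain ⟨u, hu, hu1⟩ := hU1
    have hg' : (π g)⁻¹ ∉ Subgroup.normalizer ((U : Subgroup Γ) : Set Γ) :=
      fun h => hg (by simpa using Subgroup.inv_mem _ h)
    apply hP _ hg' u hu hu1
    obtain ⟨y, hy, rfl⟩ := hu
    have h1 : g * y * g⁻¹ ∈ Subgroup.normalizer (Y : Set L) := hle ⟨y, hy, rfl⟩
    have h2 : y ∈ cj g⁻¹ (Subgroup.normalizer (Y : Set L)) := by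
      rw [mem_cj, inv_inv]
      exact h1
    rw [← cj_normalizer] at h2
    have h3 := pi_norm π h2
    rw [map_cj, map_inv] at h3
    rwa [← hU] at h3
  have hcomm : ∀ x y : ↥Ab, x * y = y * x := by
    rintro ⟨_, a, ha, rfl⟩ ⟨_, b, hb, rfl⟩
    apply Subtype.ext
    exact H.comm_mod (key g₀ hk₀) ha hb
  letI cg : AddCommGroup (Additive ↥Ab) := addCG _ hcomm
  let ρ₀ : L →* MulAut ↥Ab := (MulAut.conjNormal (H := Ab)).comp μ
  have hk : π.ker ≤ ρ₀.ker := by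
    intro a ha
    rw [hker] at ha
    rw [MonoidHom.mem_ker]
    ext x
    have h1 : ((ρ₀ a) x : L ⧸ CC Y) = μ a * x * (μ a)⁻¹ := MulAut.conjNormal_apply _ _
    rw [h1]
    have h2 := congrArg Subtype.val (hcomm ⟨μ a, ⟨a, ha, rfl⟩⟩ x)
    change μ a * (x : L ⧸ CC Y) = x * μ a at h2
    rw [h2]
    simp
  let ρ₁ : Γ →* MulAut ↥Ab := π.liftOfSurjective hπ ⟨ρ₀, hk⟩
  have hρ₁ : ∀ g, ρ₁ (π g) = ρ₀ g := fun g => π.liftOfRightInverse_comp_apply _ _ ⟨ρ₀, hk⟩ g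
  let toEnd : MulAut ↥Ab →* AddMonoid.End (Additive ↥Ab) :=
    { toFun := fun e => (e.toMonoidHom).toAdditive
      map_one' := rfl
      map_mul' := fun _ _ => rfl }
  let ρ : Γ →* AddMonoid.End (Additive ↥Ab) := toEnd.comp ρ₁
  let W : AddSubgroup (Additive ↥Ab) := Subgroup.toAddSubgroup (((Y ⊓ A).map μ).subgroupOf Ab)
  let q : ↥A → Additive ↥Ab := fun a => Additive.ofMul ⟨μ a, Subgroup.mem_map_of_mem μ a.2⟩
  have rq : ∀ (g : L) (a : ↥A), ρ (π g) (q a) = q ⟨g * a * g⁻¹, hAn.conj_mem a a.2 g⟩ := by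
    intro g a
    apply Additive.toMul.injective
    apply Subtype.ext
    change (((ρ₁ (π g)) ⟨μ a, _⟩ : ↥Ab) : L ⧸ CC Y) = μ (g * a * g⁻¹)
    rw [hρ₁]
    have h1 := MulAut.conjNormal_apply (H := Ab) (μ g) ⟨μ a, Subgroup.mem_map_of_mem μ a.2⟩
    rw [map_mul, map_mul, map_inv]
    exact h1
  have qsurj : ∀ v, ∃ a, q a = v := by
    rintro ⟨_, a, ha, rfl⟩
    exact ⟨⟨a, ha⟩, rfl⟩
  have qadd : ∀ a b : ↥A, q (a * b) = q a + q b := fun a b => rfl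
  have qzero : ∀ a : ↥A, q a = 0 ↔ (a : L) ∈ CC Y := by
    intro a
    rw [← QuotientGroup.eq_one_iff]
    constructor
    · intro h
      exact congrArg Subtype.val (Additive.toMul.injective h)
    · intro h
      apply Additive.toMul.injective
      apply Subtype.ext
      exact h
  have qW : ∀ a : ↥A, q a ∈ W ↔ (a : L) ∈ Y ⊓ A := by
    intro a
    constructor
    · rintro ⟨y, hy, hya⟩
      have h1 : μ (y⁻¹ * a) = 1 := by
        rw [map_mul, map_inv]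
        change (μ y)⁻¹ * μ a = 1
        rw [inv_mul_eq_one]
        exact hya
      have h2 : y⁻¹ * (a : L) ∈ CC Y := (QuotientGroup.eq_one_iff _).1 h1
      have h3 := (Y ⊓ A).mul_mem hy (H.CC_le h2)
      rwa [mul_inv_cancel_left] at h3
    · intro h
      exact ⟨a, h, rfl⟩
  have qneg : ∀ a : ↥A, q a⁻¹ = - q a := by
    intro a
    apply eq_neg_of_add_eq_zero_left
    rw [← qadd, inv_mul_cancel, qzero]
    exact (CC Y).one_mem
  have hW : ∀ v ∈ W, ∃ y : ↥A, (y : L) ∈ Y ⊓ A ∧ q y = v := by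
    intro v hv
    obtain ⟨a, rfl⟩ := qsurj v
    exact ⟨a, (qW a).1 hv, rfl⟩
  refine ⟨Additive ↥Ab, cg, ρ, W, q, ⟨?_, ?_, ?_, ?_, ?_⟩, ?_, ?_, ?_⟩
  · -- fix
    rintro _ ⟨y, hy, rfl⟩ w hw
    obtain ⟨a, ha, rfl⟩ := hW w hw
    rw [rq]
    congr 1
    apply Subtype.ext
    change y * (a : L) * y⁻¹ = a
    rw [H.comm y hy a ha.1]
    group
  · -- comm
    rintro _ ⟨y, hy, rfl⟩ v
    obtain ⟨a, rfl⟩ := qsurj v
    rw [rq]
    rw [sub_eq_add_neg, ← qneg, ← qadd, qW]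
    exact cmem hAn H.norm hy a.2
  · -- sum
    intro k hk' v
    obtain ⟨g, rfl⟩ := hπ k
    obtain ⟨a, rfl⟩ := qsurj v
    obtain ⟨y₀, h₀, y₁, h₁, e⟩ := H.exists_decomp (key g hk') a.2
    have h₁' : g⁻¹ * y₁ * g ∈ Y := mem_cj.1 h₁.1
    have h₁a : g⁻¹ * y₁ * g ∈ A := by
      have := hAn.conj_mem y₁ h₁.2 g⁻¹
      simpa using this
    refine ⟨q ⟨y₀, h₀.2⟩, (qW _).2 h₀, q ⟨_, h₁a⟩, (qW _).2 ⟨h₁', h₁a⟩, ?_⟩
    rw [rq, ← qadd]
    congr 1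
    apply Subtype.ext
    change (a : L) = y₀ * (g * (g⁻¹ * y₁ * g) * g⁻¹)
    rw [e]
    group
  · -- disj
    intro k hk' w₁ h₁ w₂ h₂ e
    obtain ⟨g, rfl⟩ := hπ k
    obtain ⟨y₀, hy₀, rfl⟩ := hW w₁ h₁
    obtain ⟨y', hy', rfl⟩ := hW w₂ h₂
    rw [rq] at e
    have h3 : q (y₀⁻¹ * ⟨g * y' * g⁻¹, hAn.conj_mem y' y'.2 g⟩) = 0 := by
      rw [qadd, ← e, qneg]
      exact neg_add_cancel _
    rw [qzero] at h3
    have h4 : (y₀ : L)⁻¹ * (g * y' * g⁻¹) ∈ CC Y := h3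
    have h5 : g * (y' : L) * g⁻¹ ∈ Y ⊓ A := by
      have := (Y ⊓ A).mul_mem hy₀ (H.CC_le h4)
      rwa [mul_inv_cancel_left] at this
    have h6 : g * (y' : L) * g⁻¹ ∈ CC Y := H.inf_le_CC (key g hk') h5.1 ⟨y', hy'.1, rfl⟩
    rw [qzero]
    have h7 := (CC Y).mul_mem h6 ((CC Y).inv_mem h4)
    have e2 : g * (y' : L) * g⁻¹ * ((y₀ : L)⁻¹ * (g * y' * g⁻¹))⁻¹ = y₀ := by group
    rwa [e2] at h7
  · -- gen
    intro k hk' u hu hu1
    obtain ⟨g, rfl⟩ := hπ k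
    obtain ⟨y, hy, rfl⟩ := hu
    have h1 : cj g Y ⊔ Subgroup.zpowers y = ⊤ := by
      by_contra hne
      have h2 : Y ≤ cj g⁻¹ (cj g Y ⊔ Subgroup.zpowers y) := by
        rw [cj_sup, cj_inv_cj]
        exact le_sup_left
      have h3 : cj g⁻¹ (cj g Y ⊔ Subgroup.zpowers y) ≠ ⊤ := by
        intro h
        apply hne
        have := congrArg (cj g) h
        rw [cj_cj_inv] at this
        rw [this]
        exact Subgroup.map_top_of_surjective _ (MulAut.conj g).surjective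
      have h4 := H.max _ h2 h3
      have h5 : cj g Y ⊔ Subgroup.zpowers y ≤ cj g (Subgroup.normalizer (Y : Set L)) := by
        have := cj_mono (g := g) h4
        rwa [cj_cj_inv] at this
      rw [← cj_normalizer] at h5
      have h6 : y ∈ Subgroup.normalizer ((cj g Y : Subgroup L) : Set L) :=
        h5 (Subgroup.mem_sup_right (Subgroup.mem_zpowers y))
      have h7 := pi_norm π h6
      rw [map_cj] at h7
      exact hP _ hk' _ ⟨y, hy, rfl⟩ hu1 h7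
    have h2 := congrArg (Subgroup.map π) h1
    rw [Subgroup.map_sup, map_cj, Subgroup.map_top_of_surjective _ hπ, MonoidHom.map_zpowers] at h2
    exact h2
  · -- fixed
    intro a ha
    exact (qzero a).1 ha
  · intro h a ha
    rw [rq]
    have h1 : μ ((h * a * h⁻¹ * (a : L)⁻¹)) = 1 := (QuotientGroup.eq_one_iff _).2 ha
    apply Additive.toMul.injective
    apply Subtype.ext
    change μ (h * a * h⁻¹) = μ a
    rw [map_mul μ (h * a * h⁻¹), map_inv, mul_inv_eq_one] at h1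
    exact h1
  · intro hY v
    obtain ⟨a, rfl⟩ := qsurj v
    obtain ⟨y₀, h₀, y₁, h₁, e⟩ := H.exists_decomp (key g₀ hk₀) a.2
    have h1 : (y₁ : L) * y₁ = 1 := by
      have h2 := hY _ (mem_cj.1 h₁.1)
      have h3 : g₀ * (g₀⁻¹ * y₁ * g₀ * (g₀⁻¹ * y₁ * g₀)) * g₀⁻¹ = y₁ * y₁ := by group
      rw [← h3, h2]
      group
    have e1 : a = ⟨y₀, h₀.2⟩ * ⟨y₁, h₁.2⟩ := Subtype.ext e
    have e2 : ∀ x : ↥A, (x : L) * x = 1 → q x + q x = 0 := by
      intro x hx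
      rw [← qadd, qzero]
      have : x * x = 1 := Subtype.ext hx
      rw [this]
      exact (CC Y).one_mem
    rw [e1, qadd]
    have e3 := e2 ⟨y₀, h₀.2⟩ (hY _ h₀.1)
    have e4 := e2 ⟨y₁, h₁.2⟩ h1
    calc _ = (q ⟨y₀, h₀.2⟩ + q ⟨y₀, h₀.2⟩) + (q ⟨y₁, h₁.2⟩ + q ⟨y₁, h₁.2⟩) := by abel
      _ = 0 := by rw [e3, e4, add_zero]

end VV

end Cfsg.Agent.Lib.NatMod58
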