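/-
The `SL₂` case.
-/
import Mathlib
import Cfsg.Agent.Lib.NatMod58b
import Cfsg.Agent.Lib.ClassicalSL2

set_option autoImplicit false
set_option linter.unusedSectionVars false
set_option linter.unusedVariables false
set_option linter.style.haveILetI false

namespace Cfsg.Agent.Lib.NatMod58

open Cfsg.Agent.Lib.LocalLarge
open scoped MatrixGroups

universe u

variable {F : Type*} [Field F]

/-- The upper unitriangular group. -/
def XX (F : Type*) [Field F] : Subgroup (SL2F F) where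
  carrier := {g | ∃ c, g = xx c}
  mul_mem' := by
    rintro _ _ ⟨c, rfl⟩ ⟨d, rfl⟩
    exact ⟨c + d, (xx_add c d).symm⟩
  one_mem' := ⟨0, xx_zero.symm⟩
  inv_mem' := by
    rintro _ ⟨c, rfl⟩
    refine ⟨-c, ?_⟩
    rw [inv_eq_iff_mul_eq_one, ← xx_add, add_neg_cancel, xx_zero]

theorem mem_XX {g : SL2F F} : g ∈ XX F ↔ ∃ c, g = xx c := Iff.rfl

theorem xx_mem (c : F) : xx c ∈ XX F := ⟨c, rfl⟩

theorem xx_eq_one {c : F} (h : xx c = 1) : c = 0 := by
  have := congrArg (fun g : SL2F F => g.1 0 1) h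
  simpa using this

theorem ne_zero_11 {g : SL2F F} (h : g.1 1 0 = 0) : g.1 1 1 ≠ 0 := by
  intro h0
  have := det_eq g
  rw [h, h0] at this
  simp at this

theorem inv_10 {g : SL2F F} (h : g.1 1 0 = 0) : (g⁻¹).1 1 0 = 0 := by
  have h1 := congrArg (fun x : SL2F F => x.1 1 0) (mul_inv_cancel g)
  simp only [mul_10, h, zero_mul, zero_add] at h1
  have h2 : (1 : SL2F F).1 1 0 = 0 := by simp
  rw [h2] at h1
  exact (mul_eq_zero.1 h1).resolve_left (ne_zero_11 h)

theorem conj_mem_XX {g : SL2F F} (h : g.1 1 0 = 0) (e : F) : g * xx e * g⁻¹ ∈ XX F := by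
  refine ⟨g.1 0 0 * g.1 0 0 * e, ?_⟩
  rw [mul_inv_eq_iff_eq_mul]
  have hd := det_eq g
  rw [h, mul_zero, sub_zero] at hd
  apply ext2 <;> simp [mul_00, mul_01, mul_10, mul_11, h]
  linear_combination (-(g.1 0 0 * e)) * hd

theorem mem_normalizer_XX {g : SL2F F} (h : g.1 1 0 = 0) :
    g ∈ Subgroup.normalizer ((XX F : Subgroup (SL2F F)) : Set (SL2F F)) := by
  apply mem_normalizer_of
  · rintro _ ⟨e, rfl⟩
    exact conj_mem_XX h e
  · rintro _ ⟨e, rfl⟩
    have := conj_mem_XX (inv_10 h) e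
    rwa [inv_inv] at this

theorem eq_zero_of_mem_normalizer {g : SL2F F}
    (h : g ∈ Subgroup.normalizer ((XX F : Subgroup (SL2F F)) : Set (SL2F F))) : g.1 1 0 = 0 := by
  obtain ⟨e, he⟩ := (Subgroup.mem_normalizer_iff.1 h (xx 1)).1 (xx_mem 1)
  rw [mul_inv_eq_iff_eq_mul] at he
  have h1 := congrArg (fun x : SL2F F => x.1 1 1) he
  simp [mul_11] at h1
  exact h1

theorem ww_not_mem : (ww : SL2F F) ∉ Subgroup.normalizer ((XX F : Subgroup (SL2F F)) : Set (SL2F F)) := by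
  intro h
  have := eq_zero_of_mem_normalizer h
  simp at this

theorem hP_XX (k : SL2F F) (hk : k ∉ Subgroup.normalizer ((XX F : Subgroup (SL2F F)) : Set (SL2F F)))
    (u : SL2F F) (hu : u ∈ XX F) (hu1 : u ≠ 1) :
    u ∉ Subgroup.normalizer ((cj k (XX F) : Subgroup (SL2F F)) : Set (SL2F F)) := by
  intro hn
  have hk0 : k.1 1 0 ≠ 0 := fun h => hk (mem_normalizer_XX h)
  obtain ⟨a, rfl⟩ := hu
  have ha : a ≠ 0 := by
    rintro rfl
    exact hu1 xx_zero
  rw [cj_normalizer, mem_cj] at hn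
  have h1 := eq_zero_of_mem_normalizer hn
  set v := k⁻¹ * xx a * k with hv
  have h2 : k * v = xx a * k := by rw [hv]; group
  have h10 := congrArg (fun x : SL2F F => x.1 1 0) h2
  have h00 := congrArg (fun x : SL2F F => x.1 0 0) h2
  simp only [mul_10, mul_00, h1, mul_zero, add_zero, xx_10, xx_11, xx_00, xx_01, zero_mul, zero_add, one_mul] at h10 h00
  have h3 : v.1 0 0 = 1 := by
    have := mul_left_cancel₀ hk0 (h10.trans (mul_one _).symm)
    exact this
  rw [h3, mul_one] at h00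
  have h4 : a * k.1 1 0 = 0 := by linear_combination (-1 : F) * h00
  exact (mul_ne_zero ha hk0) h4

section FPF

variable {V : Type*} [AddCommGroup V] {ρ : SL2F F →* AddMonoid.End V} {W : AddSubgroup V}

theorem natHyp_of (H : ModData ρ (XX F) W) : NatHyp ρ W where
  fix := fun c w hw => H.fix _ (xx_mem c) w hw
  comm := fun c v => H.comm _ (xx_mem c) v
  sum := H.sum _ ww_not_mem
  disj := H.disj _ ww_not_mem

end FPF

section Conj

variable [Fintype F] (p : ℕ) [hp : Fact p.Prime] [CharP F p]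

open Cfsg.Agent.Lib.ClassicalSL2

theorem XX_eq : XX F = U x0 := by
  have e : ∀ c : F, xx c = Matrix.SpecialLinearGroup.transvection zero_ne_one c := by
    intro c
    apply ext2 <;> simp [Matrix.SpecialLinearGroup.transvection_coe]
  ext g
  constructor
  · rintro ⟨c, rfl⟩
    rw [e]
    exact transvection_mem_U_x0 c
  · intro h
    have := eq_transvection_of_mem_U_x0 h
    exact ⟨g.1 0 1, by rw [e]; exact this⟩

theorem exists_conj_XX (Uu : Subgroup (SL2F F)) (hU : IsPGroup p Uu)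
    (hc : Nat.card Uu = Fintype.card F) : ∃ k : SL2F F, Uu = cj k (XX F) := by
  obtain ⟨P, hP⟩ := hU.exists_le_sylow
  obtain ⟨g, hg⟩ := MulAction.exists_smul_eq (SL2F F) (sylowX0 (F := F) p) P
  refine ⟨g, ?_⟩
  have h1 : (P : Subgroup (SL2F F)) = cj g (XX F) := by
    rw [← hg, Sylow.coe_subgroup_smul, coe_sylowX0, XX_eq]
    rfl
  rw [← h1]
  apply Subgroup.eq_of_le_of_card_ge hP
  rw [hc, h1, card_cj, XX_eq, ← Nat.card_congr (UEquiv (F := F)), Nat.card_eq_fintype_card]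

end Conj

/-- The `SL₂` case of the fixed point theorem. -/
theorem sl2_case {L : Type u} [Group L] {Y A : Subgroup L} (H : LHyp Y A) (p : ℕ) [hp : Fact p.Prime]
    [CharP F p] (hAp : IsPGroup p A) (π : L →* SL2F F) (hπ : Function.Surjective π) (hker : π.ker = A)
    (hY : Y.map π = XX F) {h : L} (hnp : ¬ ∃ k : ℕ, orderOf h = p ^ k) {a : L} (ha : a ∈ A)
    (hc : h * a * h⁻¹ * a⁻¹ ∈ CC Y) : a ∈ CC Y := by
  obtain ⟨V, inst, ρ, W, q, hD, hq, hf, -⟩ := exists_data H π hπ hker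
    (by rw [hY]; exact hP_XX) (by rw [hY]; exact ⟨_, ww_not_mem⟩)
  rw [hY] at hD
  have hN := natHyp_of hD
  apply hq ⟨a, ha⟩
  apply hN.fpf_of_trace (π h) ?_ (hf h ⟨a, ha⟩ hc)
  intro htr
  apply hnp
  have h1 : (π h) ^ p = 1 := pow_eq_one_of_trace p _ htr
  have h2 : h ^ p ∈ A := by
    rw [← hker, MonoidHom.mem_ker, map_pow, h1]
  obtain ⟨n, hn⟩ := hAp ⟨h ^ p, h2⟩
  have h3 : (h ^ p) ^ p ^ n = 1 := by
    have := congrArg Subtype.val hn
    simpa using this
  have h4 : h ^ p ^ (n + 1) = 1 := by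
    rw [pow_succ', pow_mul]
    exact h3
  have h5 := orderOf_dvd_of_pow_eq_one h4
  obtain ⟨j, -, hj⟩ := (Nat.dvd_prime_pow hp.out).1 h5
  exact ⟨j, hj⟩

end Cfsg.Agent.Lib.NatMod58
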