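/-
The dihedral and Suzuki cases.
-/
import Mathlib
import Cfsg.Agent.Lib.NatMod58c

set_option autoImplicit false
set_option linter.unusedSectionVars false
set_option linter.unusedVariables false
set_option linter.style.haveILetI false

namespace Cfsg.Agent.Lib.NatMod58

open Cfsg.Agent.Lib.LocalLarge

universe u

theorem orderOf_of_pow {L : Type u} [Group L] {A : Subgroup L} {Γ : Type*} [Group Γ] {π : L →* Γ}
    (p : ℕ) [hp : Fact p.Prime] (hAp : IsPGroup p A) (hker : π.ker = A) {h : L} {e : ℕ}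
    (he : (π h) ^ p ^ e = 1) : ∃ k : ℕ, orderOf h = p ^ k := by
  have h2 : h ^ p ^ e ∈ A := by
    rw [← hker, MonoidHom.mem_ker, map_pow, he]
  obtain ⟨n, hn⟩ := hAp ⟨h ^ p ^ e, h2⟩
  have h3 : (h ^ p ^ e) ^ p ^ n = 1 := by
    have := congrArg Subtype.val hn
    simpa using this
  have h4 : h ^ p ^ (e + n) = 1 := by
    rw [pow_add, pow_mul]
    exact h3
  have h5 := orderOf_dvd_of_pow_eq_one h4
  obtain ⟨j, -, hj⟩ := (Nat.dvd_prime_pow hp.out).1 h5
  exact ⟨j, hj⟩

section Dihedral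

open DihedralGroup

variable {r : ℕ} [NeZero r]

theorem two_mul_eq_zero {r : ℕ} (hr : r.Prime) (hr2 : r ≠ 2) {i : ZMod r} (h : i + i = 0) : i = 0 := by
  haveI := Fact.mk hr
  have h2 : (2 : ZMod r) ≠ 0 := by
    intro h0
    have : ((2 : ℕ) : ZMod r) = 0 := by exact_mod_cast h0
    rw [ZMod.natCast_eq_zero_iff] at this
    exact hr2 ((Nat.prime_dvd_prime_iff_eq hr Nat.prime_two).1 this)
  have h3 : 2 * i = 0 := by rw [two_mul]; exact h
  exact (mul_eq_zero.1 h3).resolve_left h2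

theorem dihedral_case {L : Type u} [Group L] {Y A : Subgroup L} (H : LHyp Y A) (hr : r.Prime)
    (hr2 : r ≠ 2) (hAp : IsPGroup 2 A) (π : L →* DihedralGroup r) (hπ : Function.Surjective π)
    (hker : π.ker = A) (hYel : ∀ y ∈ Y, y * y = 1) (hcl : Subgroup.normalClosure (Y : Set L) = ⊤)
    {h : L} (hnp : ¬ ∃ k : ℕ, orderOf h = 2 ^ k) {a : L} (ha : a ∈ A)
    (hc : h * a * h⁻¹ * a⁻¹ ∈ CC Y) : a ∈ CC Y := by
  haveI : Fact (Nat.Prime 2) := ⟨Nat.prime_two⟩
  set U := Y.map π with hU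
  have hUel : ∀ u ∈ U, u * u = 1 := by
    rintro _ ⟨y, hy, rfl⟩
    rw [← map_mul, hYel y hy, map_one]
  have hrot : ∀ i : ZMod r, DihedralGroup.r i ∈ U → i = 0 := by
    intro i hi
    have := hUel _ hi
    rw [r_mul_r] at this
    apply two_mul_eq_zero hr hr2
    have h1 : (DihedralGroup.r (i + i) : DihedralGroup r) = DihedralGroup.r 0 := this
    exact DihedralGroup.r.inj h1
  have hne : ∃ u ∈ U, u ≠ 1 := by
    by_contra hcon
    push Not at hcon
    have hb : U = ⊥ := (Subgroup.eq_bot_iff_forall _).2 hcon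
    have h1 : Y ≤ π.ker := by
      intro y hy
      rw [MonoidHom.mem_ker]
      exact hcon _ ⟨y, hy, rfl⟩
    have h2 : Subgroup.normalClosure (Y : Set L) ≤ π.ker := Subgroup.normalClosure_le_normal h1
    rw [hcl, top_le_iff] at h2
    have h3 : (DihedralGroup.r 1 : DihedralGroup r) ∈ π.range := hπ _
    obtain ⟨x, hx⟩ := hπ (DihedralGroup.r 1 : DihedralGroup r)
    have h4 : x ∈ π.ker := by rw [h2]; exact Subgroup.mem_top _
    rw [MonoidHom.mem_ker, hx] at h4
    have h5 : (1 : ZMod r) = 0 := DihedralGroup.r.inj h4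
    haveI := Fact.mk hr
    exact one_ne_zero h5
  obtain ⟨u₀, hu₀, hu₀1⟩ := hne
  obtain ⟨i₀, rfl⟩ : ∃ i₀, u₀ = sr i₀ := by
    rcases u₀ with i | i
    · exact absurd (by rw [hrot i hu₀]; rfl) hu₀1
    · exact ⟨i, rfl⟩
  have hsr : ∀ j, sr j ∈ U → j = i₀ := by
    intro j hj
    have h1 := U.mul_mem hu₀ hj
    rw [sr_mul_sr] at h1
    have := hrot _ h1
    exact sub_eq_zero.1 this
  have hUe : ∀ u ∈ U, u = 1 ∨ u = sr i₀ := by
    intro u hu
    rcases u with i | i
    · left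
      rw [hrot i hu]
      rfl
    · right
      rw [hsr i hu]
  have hsr_ne : ∀ j : ZMod r, (sr j : DihedralGroup r) ≠ 1 := by
    intro j hj
    cases hj
  have hconj : ∀ k : DihedralGroup r, ∃ j, k * sr i₀ * k⁻¹ = sr j := by
    intro k
    rcases k with i | i
    · exact ⟨i₀ - i + -i, by rw [inv_r, r_mul_sr, sr_mul_r]⟩
    · exact ⟨i - (i₀ - i), by rw [inv_sr, sr_mul_sr, r_mul_sr]⟩
  have hP : ∀ k, k ∉ Subgroup.normalizer ((U : Subgroup (DihedralGroup r)) : Set (DihedralGroup r)) →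
      ∀ u ∈ U, u ≠ 1 → u ∉ Subgroup.normalizer ((cj k U : Subgroup (DihedralGroup r)) : Set (DihedralGroup r)) := by
    intro k hk u hu hu1 hn
    have hu2 : u = sr i₀ := (hUe u hu).resolve_left hu1
    subst hu2
    obtain ⟨j, hj⟩ := hconj k
    have h1 : sr j ∈ cj k U := by
      rw [← hj]
      exact conj_mem_cj hu₀
    have h2 := (Subgroup.mem_normalizer_iff.1 hn _).1 h1
    rw [mem_cj] at h2
    rcases hUe _ h2 with h3 | h3
    · exfalso
      have h4 : (sr i₀ : DihedralGroup r) * sr j * (sr i₀)⁻¹ = 1 := by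
        have h5 : k * (k⁻¹ * (sr i₀ * sr j * (sr i₀)⁻¹) * k) * k⁻¹ = k * 1 * k⁻¹ := by rw [h3]
        have e : k * (k⁻¹ * (sr i₀ * sr j * (sr i₀)⁻¹) * k) * k⁻¹ = sr i₀ * sr j * (sr i₀)⁻¹ := by group
        rw [e] at h5
        simpa using h5
      have h6 : (sr j : DihedralGroup r) = 1 := by
        have h7 := congrArg (fun t => (sr i₀)⁻¹ * t * sr i₀) h4
        simpa [mul_assoc] using h7
      exact hsr_ne j h6
    · have h4 : (sr i₀ : DihedralGroup r) * sr j * (sr i₀)⁻¹ = k * sr i₀ * k⁻¹ := by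
        have h5 : k * (k⁻¹ * (sr i₀ * sr j * (sr i₀)⁻¹) * k) * k⁻¹ = k * sr i₀ * k⁻¹ := by rw [h3]
        have e : k * (k⁻¹ * (sr i₀ * sr j * (sr i₀)⁻¹) * k) * k⁻¹ = sr i₀ * sr j * (sr i₀)⁻¹ := by group
        rwa [e] at h5
      rw [hj] at h4
      have h6 : (sr i₀ : DihedralGroup r) * sr j = sr j * sr i₀ := by
        rw [mul_inv_eq_iff_eq_mul] at h4
        exact h4
      rw [sr_mul_sr, sr_mul_sr] at h6
      have h7 : j - i₀ = i₀ - j := DihedralGroup.r.inj h6
      have h8 : j = i₀ := by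
        have : (j - i₀) + (j - i₀) = 0 := by linear_combination h7
        exact sub_eq_zero.1 (two_mul_eq_zero hr hr2 this)
      subst h8
      apply hk
      -- k normalizes U
      have hj' : k⁻¹ * sr j * k = sr j := by
        have h0 : k⁻¹ * sr j * k = k⁻¹ * (k * sr j * k⁻¹) * k := by rw [hj]
        rw [h0]
        group
      apply mem_normalizer_of
      · intro x hx
        rcases hUe x hx with rfl | rfl
        · simp
        · rw [hj]
          exact hu₀
      · intro x hx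
        rcases hUe x hx with rfl | rfl
        · simp
        · rw [hj']
          exact hu₀
  have hk₀ : (DihedralGroup.r 1 : DihedralGroup r) ∉
      Subgroup.normalizer ((U : Subgroup (DihedralGroup r)) : Set (DihedralGroup r)) := by
    intro hn
    have h1 := (Subgroup.mem_normalizer_iff.1 hn _).1 hu₀
    rw [inv_r, r_mul_sr, sr_mul_r] at h1
    have h2 := hsr _ h1
    have h3 : (1 : ZMod r) + 1 = 0 := by linear_combination (-1 : ZMod r) * h2
    have h4 := two_mul_eq_zero hr hr2 h3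
    haveI := Fact.mk hr
    exact one_ne_zero h4
  obtain ⟨V, inst, ρ, W, q, hD, hq, hf, hexp⟩ := exists_data H π hπ hker hP ⟨_, hk₀⟩
  apply hq ⟨a, ha⟩
  have hv := hf h ⟨a, ha⟩ hc
  rcases hh : π h with i | i
  · by_cases hi : i = 0
    · exfalso
      subst hi
      apply hnp
      apply orderOf_of_pow (π := π) 2 hAp hker (e := 0)
      rw [hh, pow_zero, pow_one]
      rfl
    · rw [hh] at hv
      refine hD.reflect (hexp hYel) (fun u hu => ⟨1, by rw [pow_one, pow_two]; exact hUel u hu⟩) hk₀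
        (k := 1) (u := sr i₀) ?_ ?_ hu₀ (hsr_ne i₀) ?_ ?_ hv
      · apply Odd.of_dvd_nat (hr.odd_of_ne_two hr2)
        rw [orderOf_r]
        exact Nat.div_dvd_of_dvd (Nat.gcd_dvd_left _ _)
      · intro h1
        exact hi (DihedralGroup.r.inj h1)
      · simp [sr_mul_sr]
      · simp [sr_mul_r, sr_mul_sr, inv_r]
  · exfalso
    apply hnp
    apply orderOf_of_pow (π := π) 2 hAp hker (e := 1)
    rw [hh, pow_one, pow_two, sr_mul_sr, sub_self]
    rfl

end Dihedral

end Cfsg.Agent.Lib.NatMod58
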