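/-
The Suzuki case.
-/
import Mathlib
import Cfsg.Agent.Lib.NatMod58d
import Cfsg.Agent.Lib.SzTorusH

set_option autoImplicit false
set_option linter.unusedSectionVars false
set_option linter.unusedVariables false
set_option linter.style.haveILetI false

namespace Cfsg.Agent.Lib.NatMod58Sz

open Cfsg.Agent.Lib.LocalLarge
open Cfsg.Agent.Lib.NatMod58 (ModData LHyp CC exists_data mem_normalizer_of orderOf_of_pow)

universe u


open Cfsg Cfsg.Agent.Lib.SuzukiBasic Cfsg.Agent.Lib.Suzuki Cfsg.Agent.Lib.Suzuki2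
  Cfsg.Agent.Lib.Suzuki3 Cfsg.Agent.Lib.Suzuki4 Cfsg.Agent.Lib.SuzukiMax Cfsg.Agent.Lib.SzSub
  Cfsg.Agent.Lib.SzTorus

variable {F : Type*} [Field F] [Fintype F] {m : ℕ} [CharP F 2] [SzHyp F m]

/-- The center of the translations. -/
def ZZ (F : Type*) [Field F] [Fintype F] (m : ℕ) [CharP F 2] [SzHyp F m] : Subgroup (Sz F m) where
  carrier := {g | ∃ b, g = tt 0 b}
  mul_mem' := by
    rintro _ _ ⟨b, rfl⟩ ⟨c, rfl⟩
    refine ⟨b + c, ?_⟩
    rw [tt_mul]
    simp [phi_zero]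
  one_mem' := ⟨0, tt_zero.symm⟩
  inv_mem' := by
    rintro _ ⟨b, rfl⟩
    refine ⟨b, ?_⟩
    rw [tt_inv]
    simp [phi_zero]

theorem mem_ZZ {g : Sz F m} : g ∈ ZZ F m ↔ ∃ b, g = tt 0 b := Iff.rfl

theorem ZZ_le_Tsub : ZZ F m ≤ Tsub F m := by
  rintro _ ⟨b, rfl⟩
  exact ⟨0, b, rfl⟩

theorem tt_sq_eq_one {a b : F} (h : (tt a b : Sz F m) * tt a b = 1) : a = 0 := by
  rw [tt_mul, ← tt_zero (F := F)] at h
  have h2 := (tt_inj h).2
  have e := two_zero (F := F)
  have h3 : phi m a * a = 0 := by linear_combination h2 - b * e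
  rcases mul_eq_zero.1 h3 with h4 | h4
  · exact phi_eq_zero h4
  · exact h4

theorem mem_ZZ_of_sq {z : Sz F m} (hz : z ∈ Tsub F m) (h2 : z * z = 1) : z ∈ ZZ F m := by
  obtain ⟨a, b, rfl⟩ := hz
  obtain rfl := tt_sq_eq_one h2
  exact ⟨b, rfl⟩

theorem ZZ_sq {z : Sz F m} (hz : z ∈ ZZ F m) : z * z = 1 := by
  obtain ⟨b, rfl⟩ := hz
  have e := two_zero (F := F)
  rw [tt_mul, ← tt_zero (F := F)]
  congr 1
  · ring
  · rw [phi_zero]
    linear_combination b * e

theorem card_ZZ : Nat.card (ZZ F m) = Fintype.card F := by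
  rw [← Nat.card_eq_fintype_card]
  apply Nat.card_congr
  refine (Equiv.ofBijective (fun b : F => (⟨tt 0 b, ⟨b, rfl⟩⟩ : ZZ F m)) ⟨?_, ?_⟩).symm
  · intro b c h
    exact (tt_inj (congrArg Subtype.val h)).2
  · rintro ⟨_, b, rfl⟩
    exact ⟨b, rfl⟩

/-- A conjugate of `Tsub` with an element of square one. -/
theorem exists_conj_ZZ (U : Subgroup (Sz F m)) (hU : IsPGroup 2 U) (hel : ∀ u ∈ U, u * u = 1)
    (hc : Nat.card U = Fintype.card F) : ∃ k : Sz F m, U = cj k (ZZ F m) := by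
  haveI : Fact (Nat.Prime 2) := ⟨Nat.prime_two⟩
  obtain ⟨P, hP⟩ := hU.exists_le_sylow
  obtain ⟨a, ha⟩ := exists_conj_sylow P
  refine ⟨a, ?_⟩
  have h1 : U ≤ cj a (ZZ F m) := by
    intro u hu
    have h2 : u ∈ cj a (Tsub F m) := by
      have := hP hu
      rwa [ha] at this
    rw [mem_cj] at h2 ⊢
    apply mem_ZZ_of_sq h2
    have : a⁻¹ * u * a * (a⁻¹ * u * a) = a⁻¹ * (u * u) * a := by group
    rw [this, hel u hu]
    group
  apply Subgroup.eq_of_le_of_card_ge h1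
  rw [hc, card_cj, card_ZZ]

/-- Involutions are conjugate into `ZZ`. -/
theorem invol_conj_ZZ {z : Sz F m} (h2 : z * z = 1) (h1 : z ≠ 1) :
    ∃ (k u : Sz F m), u ∈ ZZ F m ∧ u ≠ 1 ∧ z = k * u * k⁻¹ := by
  obtain ⟨p, hp⟩ := invol_exists_fix h2
  obtain ⟨k, b, hb, -, rfl⟩ := invol_conj h2 h1 hp
  refine ⟨k, tt 0 b, ⟨b, rfl⟩, ?_, rfl⟩
  rintro h
  apply h1
  rw [h]
  group

theorem fix_tt {b : F} (hb : b ≠ 0) {k : Sz F m} {p : Om F m}
    (h : (k * tt 0 b * k⁻¹ : Sz F m) • p = p) : p = k • oInf F m := by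
  have h3 : (tt 0 b : Sz F m) • (k⁻¹ • p) = k⁻¹ • p := by
    rw [mul_smul, mul_smul] at h
    exact eq_inv_smul_iff.2 h
  have h4 := tt_zero_fix hb h3
  rw [← h4, smul_inv_smul]

theorem tt_ne_one {b : F} (hb : b ≠ 0) : (tt 0 b : Sz F m) ≠ 1 := by
  intro h
  rw [← tt_zero (F := F)] at h
  exact hb (tt_inj h).2

theorem mem_normalizer_ZZ {k : Sz F m} (hk : k • oInf F m = oInf F m) :
    k ∈ Subgroup.normalizer ((ZZ F m : Subgroup (Sz F m)) : Set (Sz F m)) := by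
  have h1 : k ∈ Subgroup.normalizer ((Tsub F m : Subgroup (Sz F m)) : Set (Sz F m)) := by
    rw [normalizer_Tsub, mem_Binf']
    exact hk
  have h2 : ∀ {k : Sz F m}, k ∈ Subgroup.normalizer ((Tsub F m : Subgroup (Sz F m)) : Set (Sz F m)) →
      ∀ x ∈ ZZ F m, k * x * k⁻¹ ∈ ZZ F m := by
    intro k hk x hx
    apply mem_ZZ_of_sq ((Subgroup.mem_normalizer_iff.1 hk x).1 (ZZ_le_Tsub hx))
    have : k * x * k⁻¹ * (k * x * k⁻¹) = k * (x * x) * k⁻¹ := by group
    rw [this, ZZ_sq hx]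
    group
  apply mem_normalizer_of (h2 h1)
  intro x hx
  have := h2 (Subgroup.inv_mem _ h1) x hx
  rwa [inv_inv] at this

theorem smul_inf_of_mem_normalizer {k : Sz F m}
    (hk : k ∈ Subgroup.normalizer ((ZZ F m : Subgroup (Sz F m)) : Set (Sz F m))) :
    k • oInf F m = oInf F m := by
  haveI := exists_ne_zero_one F m
  obtain ⟨b, hb, -⟩ := exists_ne_zero_one F m
  obtain ⟨c, hc⟩ := (Subgroup.mem_normalizer_iff.1 hk _).1 (show (tt 0 b : Sz F m) ∈ ZZ F m from ⟨b, rfl⟩)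
  have hc0 : c ≠ 0 := by
    rintro rfl
    rw [tt_zero] at hc
    apply tt_ne_one (F := F) (m := m) hb
    have : (tt 0 b : Sz F m) = k⁻¹ * (k * tt 0 b * k⁻¹) * k := by group
    rw [this, hc]
    group
  have h1 : (k * tt 0 b * k⁻¹ : Sz F m) • oInf F m = oInf F m := by
    rw [hc, tt_smul_inf]
  exact (fix_tt hb h1).symm

theorem hP_ZZ (k : Sz F m) (hk : k ∉ Subgroup.normalizer ((ZZ F m : Subgroup (Sz F m)) : Set (Sz F m)))
    (u : Sz F m) (hu : u ∈ ZZ F m) (hu1 : u ≠ 1) :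
    u ∉ Subgroup.normalizer ((cj k (ZZ F m) : Subgroup (Sz F m)) : Set (Sz F m)) := by
  intro hn
  obtain ⟨b, rfl⟩ := hu
  have hb : b ≠ 0 := by
    rintro rfl
    exact hu1 tt_zero
  apply hk
  apply mem_normalizer_ZZ
  -- take an element of the conjugate
  obtain ⟨c, hc, -⟩ := exists_ne_zero_one F m
  have h1 : k * tt 0 c * k⁻¹ ∈ cj k (ZZ F m) := conj_mem_cj ⟨c, rfl⟩
  have h2 := (Subgroup.mem_normalizer_iff.1 hn _).1 h1
  rw [mem_cj] at h2
  obtain ⟨d, hd⟩ := h2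
  set u := (tt 0 b : Sz F m) with hu
  have hd' : u * (k * tt 0 c * k⁻¹) * u⁻¹ = k * tt 0 d * k⁻¹ := by
    rw [← hd]
    group
  have hd0 : d ≠ 0 := by
    rintro rfl
    rw [tt_zero] at hd'
    apply tt_ne_one (F := F) (m := m) hc
    have e : (tt 0 c : Sz F m) = (u⁻¹ * k)⁻¹ * (u⁻¹ * (k * 1 * k⁻¹) * u) * (u⁻¹ * k) ∨ True := Or.inr trivial
    have h3 : k * (tt 0 c : Sz F m) * k⁻¹ = 1 := by
      have h4 : k * (tt 0 c : Sz F m) * k⁻¹ = u⁻¹ * (u * (k * tt 0 c * k⁻¹) * u⁻¹) * u := by group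
      rw [h4, hd']
      group
    have h5 : (tt 0 c : Sz F m) = k⁻¹ * (k * tt 0 c * k⁻¹) * k := by group
    rw [h5, h3]
    group
  -- `k • oInf` is the unique fixed point of the conjugate
  have h3 : (k * tt 0 d * k⁻¹ : Sz F m) • (u • (k • oInf F m)) = u • (k • oInf F m) := by
    rw [← hd', mul_smul, mul_smul, mul_smul, mul_smul, inv_smul_smul, inv_smul_smul, tt_smul_inf]
  have h4 := fix_tt hd0 h3
  exact tt_zero_fix hb h4

/-- Odd order elements are real. -/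
theorem real_of_odd {h : Sz F m} (h1 : h ≠ 1) (ho : Odd (orderOf h)) :
    ∃ z : Sz F m, z * z = 1 ∧ z ≠ 1 ∧ z * h * z = h⁻¹ := by
  rcases trichotomy (g := h) with hf | ht | ⟨p, p', hne, hp, hp'⟩
  · -- fixed point free
    have hc := card_normalizer_cen hf
    have h2 : 2 ∣ Nat.card (Subgroup.normalizer ((cen h : Subgroup (Sz F m)) : Set (Sz F m))) := by
      rw [hc]
      exact Dvd.dvd.mul_left (by norm_num) _
    haveI : Fact (Nat.Prime 2) := ⟨Nat.prime_two⟩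
    obtain ⟨⟨z, hzN⟩, hz⟩ := exists_prime_orderOf_dvd_card' 2 h2
    have hz' : orderOf z = 2 := by
      rw [← hz]
      exact (Subgroup.orderOf_mk z hzN).symm
    have hzz : z * z = 1 := by
      rw [← pow_two, ← hz', pow_orderOf_eq_one]
    have hz1 : z ≠ 1 := by
      rintro rfl
      rw [orderOf_one] at hz'
      omega
    refine ⟨z, hzz, hz1, ?_⟩
    have hzi : z⁻¹ = z := inv_eq_of_mul_eq_one_left hzz
    have hm : z * h * z ∈ cen h := by
      have := (Subgroup.mem_normalizer_iff.1 hzN h).1 (self_mem_cen h)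
      rwa [hzi] at this
    set d := h * (z * h * z) with hd
    have hdc : d ∈ cen h := Subgroup.mul_mem _ (self_mem_cen h) hm
    have hcomm : z * d = d * z := by
      have h3 : z * d * z = (z * h * z) * h := by
        rw [hd]
        calc z * (h * (z * h * z)) * z = (z * h * z) * h * (z * z) := by group
          _ = _ := by rw [hzz, mul_one]
      have h4 : (z * h * z) * h = d := comm_of_mem_cen hf hm (self_mem_cen h)
      rw [h4] at h3
      calc z * d = z * d * (z * z) := by rw [hzz, mul_one]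
        _ = (z * d * z) * z := by group
        _ = d * z := by rw [h3]
    by_contra hne
    have hd1 : d ≠ 1 := by
      intro h3
      apply hne
      rw [hd] at h3
      exact (eq_inv_of_mul_eq_one_right h3)
    have hfd : Fpf d := fpf_of_comm hf hd1 (mem_cen.1 hdc)
    have hfz : Fpf z := fpf_of_comm hfd hz1 hcomm
    have := odd_orderOf_of_fpf hfz
    rw [hz'] at this
    exact absurd this (by decide)
  · exact absurd ho (ht.not_odd h1)
  · -- two fixed points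
    have h2 := two_transitive (F := F) (m := m)
    rw [MulAction.is_two_pretransitive_iff] at h2
    obtain ⟨g, hg, hg'⟩ := h2 (a := oInf F m) (b := oZero F m) (c := p) (d := p') oZero_ne_inf.symm hne
    have hm : g⁻¹ * h * g ∈ dd (oInf F m) (oZero F m) := by
      rw [mem_dd]
      constructor
      · rw [mul_smul, mul_smul, hg, hp, ← hg, inv_smul_smul]
      · rw [mul_smul, mul_smul, hg', hp', ← hg', inv_smul_smul]
    rw [← range_hhHom] at hm
    obtain ⟨α, hα⟩ := hm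
    have hα' : g⁻¹ * h * g = hh α := hα.symm
    have hww : (ww : Sz F m) ≠ 1 := by
      intro h3
      apply ww_not_mem_Binf (F := F) (m := m)
      rw [h3]
      exact Subgroup.one_mem _
    refine ⟨g * ww * g⁻¹, ?_, ?_, ?_⟩
    · have : g * ww * g⁻¹ * (g * ww * g⁻¹) = g * (ww * ww) * g⁻¹ := by group
      rw [this, ww_mul_self]
      group
    · intro h3
      apply hww
      have : (ww : Sz F m) = g⁻¹ * (g * ww * g⁻¹) * g := by group
      rw [this, h3]
      group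
    · have e1 : g * ww * g⁻¹ * h * (g * ww * g⁻¹) = g * (ww * (g⁻¹ * h * g) * ww) * g⁻¹ := by group
      rw [e1, hα', ww_hh_ww, ← hh_inv, ← hα']
      group

/-- The Suzuki case. -/
theorem sz_case {L : Type u} [Group L] {Y A : Subgroup L} (H : LHyp Y A) (hAp : IsPGroup 2 A)
    (π : L →* Sz F m) (hπ : Function.Surjective π) (hker : π.ker = A) (hYel : ∀ y ∈ Y, y * y = 1)
    (hY : Y.map π = ZZ F m) {h : L} (hnp : ¬ ∃ k : ℕ, orderOf h = 2 ^ k) {a : L} (ha : a ∈ A)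
    (hc : h * a * h⁻¹ * a⁻¹ ∈ CC Y) : a ∈ CC Y := by
  haveI : Fact (Nat.Prime 2) := ⟨Nat.prime_two⟩
  have hww : (ww : Sz F m) ∉ Subgroup.normalizer ((ZZ F m : Subgroup (Sz F m)) : Set (Sz F m)) := by
    intro hn
    have h1 := smul_inf_of_mem_normalizer hn
    exact ww_not_mem_Binf (mem_Binf'.2 h1)
  obtain ⟨V, inst, ρ, W, q, hD, hq, hf, hexp⟩ := exists_data H π hπ hker
    (by rw [hY]; exact hP_ZZ) (by rw [hY]; exact ⟨_, hww⟩)
  rw [hY] at hD
  apply hq ⟨a, ha⟩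
  have hv := hf h ⟨a, ha⟩ hc
  -- the odd part
  have hpos : 0 < orderOf (π h) := orderOf_pos _
  obtain ⟨e, o, ho, he⟩ := Nat.exists_eq_two_pow_mul_odd hpos.ne'
  have h1 : (π h) ^ 2 ^ e ≠ 1 := by
    intro h2
    exact hnp (orderOf_of_pow (π := π) 2 hAp hker h2)
  have ho' : Odd (orderOf ((π h) ^ 2 ^ e)) := by
    have : orderOf ((π h) ^ 2 ^ e) ∣ o := by
      apply orderOf_dvd_of_pow_eq_one
      rw [← pow_mul, ← he, pow_orderOf_eq_one]
    exact Odd.of_dvd_nat ho this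
  obtain ⟨z, hzz, hz1, hinv⟩ := real_of_odd h1 ho'
  obtain ⟨k, u, hu, hu1, rfl⟩ := invol_conj_ZZ hzz hz1
  have hvp : ∀ n : ℕ, ρ ((π h) ^ n) (q ⟨a, ha⟩) = q ⟨a, ha⟩ := by
    intro n
    induction n with
    | zero =>
      rw [pow_zero]
      exact Cfsg.Agent.Lib.NatMod58.rone _
    | succ n ih =>
      rw [pow_succ, Cfsg.Agent.Lib.NatMod58.rmul, hv, ih]
  exact hD.reflect (hexp hYel) (fun u hu => ⟨1, by rw [pow_one, pow_two]; exact ZZ_sq hu⟩) hww ho' h1 hu hu1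
    hzz hinv (hvp _)


end Cfsg.Agent.Lib.NatMod58Sz
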