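/-
`Sz(2)`: the involutions of `Lie.Sz F 2` generate a proper normal subgroup, by a finite computation.
-/
import Mathlib
import Cfsg.Prelude.Def_Sz
import Cfsg.Prelude.Def_LieExceptional
import Cfsg.Agent.Lib.SuzukiIso

set_option autoImplicit false
set_option linter.unusedSectionVars false
set_option linter.unusedVariables false
set_option linter.style.haveILetI false

namespace Cfsg.Agent.Lib.NatMod58Sz2

open Matrix Cfsg

abbrev M4 := Matrix (Fin 4) (Fin 4) (ZMod 2)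

def lst20 : List M4 := [!![0,0,0,1;0,0,1,0;0,1,0,0;1,0,0,0], !![0,0,0,1;0,0,1,0;0,1,0,1;1,0,1,1], !![0,0,0,1;0,0,1,1;0,1,1,0;1,1,1,1], !![0,0,0,1;0,0,1,1;0,1,1,1;1,1,0,1], !![1,0,0,0;0,1,0,0;0,0,1,0;0,0,0,1], !![1,0,0,0;0,1,0,0;1,0,1,0;1,1,0,1], !![1,0,0,0;1,1,0,0;0,1,1,0;1,1,1,1], !![1,0,0,0;1,1,0,0;1,1,1,0;1,0,1,1], !![1,0,1,1;0,1,0,1;0,0,1,0;0,0,0,1], !![1,0,1,1;0,1,0,1;1,0,0,1;1,1,1,1], !![1,0,1,1;1,1,1,0;0,1,1,1;1,1,0,1], !![1,0,1,1;1,1,1,0;1,1,0,0;1,0,0,0], !![1,1,0,1;0,1,1,1;0,0,1,1;0,0,0,1], !![1,1,0,1;0,1,1,1;1,1,1,0;1,0,1,1], !![1,1,0,1;1,0,1,0;0,1,0,0;1,0,0,0], !![1,1,0,1;1,0,1,0;1,0,0,1;1,1,1,1], !![1,1,1,1;0,1,1,0;0,0,1,1;0,0,0,1], !![1,1,1,1;0,1,1,0;1,1,0,0;1,0,0,0], !![1,1,1,1;1,0,0,1;0,1,0,1;1,0,1,1], !![1,1,1,1;1,0,0,1;1,0,1,0;1,1,0,1]]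
def lst10 : List M4 := [!![0,0,0,1;0,0,1,0;0,1,0,0;1,0,0,0], !![0,0,0,1;0,0,1,0;0,1,0,1;1,0,1,1], !![1,0,0,0;0,1,0,0;0,0,1,0;0,0,0,1], !![1,0,0,0;0,1,0,0;1,0,1,0;1,1,0,1], !![1,0,1,1;0,1,0,1;0,0,1,0;0,0,0,1], !![1,0,1,1;0,1,0,1;1,0,0,1;1,1,1,1], !![1,1,0,1;1,0,1,0;0,1,0,0;1,0,0,0], !![1,1,0,1;1,0,1,0;1,0,0,1;1,1,1,1], !![1,1,1,1;1,0,0,1;0,1,0,1;1,0,1,1], !![1,1,1,1;1,0,0,1;1,0,1,0;1,1,0,1]]

def eqM (M N : M4) : Bool :=
  (M 0 0 == N 0 0) && (M 0 1 == N 0 1) && (M 0 2 == N 0 2) && (M 0 3 == N 0 3) &&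
  (M 1 0 == N 1 0) && (M 1 1 == N 1 1) && (M 1 2 == N 1 2) && (M 1 3 == N 1 3) &&
  (M 2 0 == N 2 0) && (M 2 1 == N 2 1) && (M 2 2 == N 2 2) && (M 2 3 == N 2 3) &&
  (M 3 0 == N 3 0) && (M 3 1 == N 3 1) && (M 3 2 == N 3 2) && (M 3 3 == N 3 3)

def mulM (M N : M4) : M4 := fun i j => M i 0 * N 0 j + M i 1 * N 1 j + M i 2 * N 2 j + M i 3 * N 3 j

def memL (M : M4) (l : List M4) : Bool := l.any (eqM M)

theorem eqM_iff {M N : M4} : eqM M N = true ↔ M = N := by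
  constructor
  · intro h
    simp only [eqM, Bool.and_eq_true, beq_iff_eq] at h
    obtain ⟨⟨⟨⟨⟨⟨⟨⟨⟨⟨⟨⟨⟨⟨⟨h00, h01⟩, h02⟩, h03⟩, h10⟩, h11⟩, h12⟩, h13⟩, h20⟩, h21⟩, h22⟩, h23⟩, h30⟩, h31⟩, h32⟩, h33⟩ := h
    ext i j
    fin_cases i <;> fin_cases j <;> assumption
  · rintro rfl
    simp [eqM]

theorem mulM_eq (M N : M4) : mulM M N = M * N := by
  ext i j
  simp [mulM, Matrix.mul_apply, Fin.sum_univ_four]

theorem memL_iff {M : M4} {l : List M4} : memL M l = true ↔ M ∈ l := by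
  simp only [memL, List.any_eq_true]
  constructor
  · rintro ⟨N, hN, h⟩
    rw [eqM_iff] at h
    rwa [h]
  · intro h
    exact ⟨M, h, eqM_iff.2 rfl⟩

def chk1 : Bool := lst20.all fun M => lst20.all fun N =>
  memL (mulM M N) lst20 && (memL (mulM M N) lst10 == (memL M lst10 == memL N lst10))

set_option maxHeartbeats 0 in
set_option maxRecDepth 100000 in
theorem chk1_true : chk1 = true := by decide +kernel

theorem mul_mem {M N : M4} (hM : M ∈ lst20) (hN : N ∈ lst20) :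
    M * N ∈ lst20 ∧ memL (M * N) lst10 = (memL M lst10 == memL N lst10) := by
  have h := chk1_true
  simp only [chk1, List.all_eq_true, Bool.and_eq_true, beq_iff_eq] at h
  have h2 := h M hM N hN
  rw [mulM_eq, memL_iff] at h2
  exact h2

def one4 : M4 := !![1,0,0,0;0,1,0,0;0,0,1,0;0,0,0,1]

theorem one4_eq : one4 = 1 := by
  ext i j
  fin_cases i <;> fin_cases j <;> simp [one4]

def pow19 (M : M4) : M4 :=
  let A := mulM M M -- 2
  let B := mulM A A -- 4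
  let C := mulM B B -- 8
  let D := mulM C C -- 16
  mulM D (mulM A M)

def chk3 : Bool := lst20.all fun M => memL (pow19 M) lst20 && eqM (mulM (pow19 M) M) one4

set_option maxHeartbeats 0 in
set_option maxRecDepth 100000 in
theorem chk3_true : chk3 = true := by decide +kernel

theorem inv_mem {M : M4} (hM : M ∈ lst20) : ∃ N ∈ lst20, N * M = 1 := by
  have h := chk3_true
  simp only [chk3, List.all_eq_true, Bool.and_eq_true] at h
  obtain ⟨h1, h2⟩ := h M hM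
  rw [memL_iff] at h1
  rw [eqM_iff, mulM_eq, one4_eq] at h2
  exact ⟨_, h1, h2⟩

def chk4 : Bool := lst20.all fun M => !(eqM (mulM M M) one4) || memL M lst10

set_option maxHeartbeats 0 in
set_option maxRecDepth 100000 in
theorem chk4_true : chk4 = true := by decide +kernel

theorem invol_mem {M : M4} (hM : M ∈ lst20) (h2 : M * M = 1) : memL M lst10 = true := by
  have h := chk4_true
  simp only [chk4, List.all_eq_true, Bool.or_eq_true, Bool.not_eq_true'] at h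
  rcases h M hM with h3 | h3
  · rw [mulM_eq] at h3
    have h4 : eqM (M * M) one4 = true := eqM_iff.2 (by rw [h2, one4_eq])
    rw [h4] at h3
    exact absurd h3 (by decide)
  · exact h3

theorem one_mem : (1 : M4) ∈ lst20 := by
  rw [← one4_eq, ← memL_iff]
  decide +kernel

def l2 : List (ZMod 2) := [0, 1]

theorem mem_l2 (x : ZMod 2) : x ∈ l2 := by
  revert x
  decide

def mk16 (a0 a1 a2 a3 b0 b1 b2 b3 c0 c1 c2 c3 d0 d1 d2 d3 : ZMod 2) : M4 :=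
  !![a0,a1,a2,a3;b0,b1,b2,b3;c0,c1,c2,c3;d0,d1,d2,d3]

set_option synthInstance.maxSize 100000 in
set_option synthInstance.maxHeartbeats 0 in
set_option maxHeartbeats 0 in
set_option maxRecDepth 100000 in
theorem cls : ∀ a0 ∈ l2, ∀ a1 ∈ l2, ∀ a2 ∈ l2, ∀ a3 ∈ l2, ∀ b0 ∈ l2, ∀ b1 ∈ l2, ∀ b2 ∈ l2, ∀ b3 ∈ l2,
    (a0 = a0 * b1 - b0 * a1 ∧ a1 = a0 * b2 - b0 * a2 ∧ a2 = a1 * b3 - b1 * a3 ∧ a3 = a2 * b3 - b2 * a3) →
    ∀ c0 ∈ l2, ∀ c1 ∈ l2, ∀ c2 ∈ l2, ∀ c3 ∈ l2,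
    (b0 = a0 * c1 - c0 * a1 ∧ b1 = a0 * c2 - c0 * a2 ∧ b2 = a1 * c3 - c1 * a3 ∧ b3 = a2 * c3 - c2 * a3) →
    ∀ d0 ∈ l2, ∀ d1 ∈ l2, ∀ d2 ∈ l2, ∀ d3 ∈ l2,
    (c0 = b0 * d1 - d0 * b1 ∧ c1 = b0 * d2 - d0 * b2 ∧ c2 = b1 * d3 - d1 * b3 ∧ c3 = b2 * d3 - d2 * b3) →
    (d0 = c0 * d1 - d0 * c1 ∧ d1 = c0 * d2 - d0 * c2 ∧ d2 = c1 * d3 - d1 * c3 ∧ d3 = c2 * d3 - d2 * c3) →
    (a0 * d3 + b0 * c3 + c0 * b3 + d0 * a3 = 1) →
    (a1 * d2 + b1 * c2 + c1 * b2 + d1 * a2 = 1) →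
    (a0 * d1 + b0 * c1 + c0 * b1 + d0 * a1 = 0) →
    (a2 * d3 + b2 * c3 + c2 * b3 + d2 * a3 = 0) →
    memL (mk16 a0 a1 a2 a3 b0 b1 b2 b3 c0 c1 c2 c3 d0 d1 d2 d3) lst20 = true := by
  decide +kernel

section Main

variable {F : Type*} [Field F] [Fintype F]

theorem star_map {R S : Type*} [CommRing R] [CommRing S] (φ : R →+* S) (A : Matrix (Fin 4) (Fin 4) R) :
    Lie.star4 (A.map φ) = (Lie.star4 A).map φ := by
  ext i j
  simp [Lie.star4]

def M0 : M4 := !![1,1,0,1;0,1,1,1;0,0,1,1;0,0,0,1]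
/-- its inverse -/
def N0 : M4 := mulM M0 (mulM M0 M0)

set_option maxRecDepth 100000 in
theorem M0_N0 : M0 * N0 = 1 := by
  rw [← mulM_eq, ← one4_eq, ← eqM_iff]
  decide +kernel

set_option maxRecDepth 100000 in
theorem N0_M0 : N0 * M0 = 1 := by
  rw [← mulM_eq, ← one4_eq, ← eqM_iff]
  decide +kernel

theorem star_M0 : Lie.star4 M0 = M0 := by
  ext i j
  fin_cases i <;> fin_cases j <;> decide +kernel

set_option maxRecDepth 100000 in
theorem M0_not_mem : memL M0 lst10 = false := by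
  decide +kernel

theorem sq_zmod : ∀ x : ZMod 2, x ^ 2 ^ (0 + 1) = x := by decide

local notation "Γ" => Lie.Sz F (2 ^ (0 + 1))

attribute [local irreducible] lst20 lst10 memL

theorem no_sz2 (hF : Fintype.card F = 2) (U : Subgroup ↥(Lie.Sz F (2 ^ (0 + 1))))
    (hU : ∀ u ∈ U, u * u = 1)
    (hcl : Subgroup.normalClosure (U : Set ↥(Lie.Sz F (2 ^ (0 + 1)))) = ⊤) : False := by
  classical
  have h20 : (2 : F) = 0 := by
    have h0 : ((Fintype.card F : ℕ) : F) = 0 := Nat.cast_card_eq_zero F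
    rw [hF] at h0
    exact_mod_cast h0
  haveI hc : CharP F 2 := CharTwo.of_one_ne_zero_of_two_eq_zero one_ne_zero h20
  let e : ZMod 2 ≃+* F := ZMod.ringEquivOfPrime F Nat.prime_two hF
  let em : Matrix (Fin 4) (Fin 4) F →+* M4 := (e.symm.toRingHom).mapMatrix
  let F₀ : GL (Fin 4) F →* M4 := (em : Matrix (Fin 4) (Fin 4) F →* M4).comp (Units.coeHom _)
  let f : ↥Γ →* M4 := F₀.comp (Subgroup.subtype Γ)
  have hfe : ∀ g : ↥Γ, f g = ((g : GL (Fin 4) F) : Matrix (Fin 4) (Fin 4) F).map e.symm := fun g => rfl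
  -- generators
  have hgen : ∀ g : GL (Fin 4) F, g ∈ Lie.Sp4 F →
      Lie.star4 (g : Matrix (Fin 4) (Fin 4) F) =
        (g : Matrix (Fin 4) (Fin 4) F).map (fun x => x ^ 2 ^ (0 + 1)) →
      ((g : Matrix (Fin 4) (Fin 4) F).map e.symm) ∈ lst20 := by
    intro g hg1 hg2
    set A : Matrix (Fin 4) (Fin 4) F := ↑g with hA
    set M : M4 := A.map e.symm with hM
    have hs : Lie.star4 M = M := by
      rw [hM]
      have := star_map (e.symm.toRingHom) A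
      change Lie.star4 (A.map e.symm) = _ at this
      rw [this, hg2]
      ext i j
      simp only [Matrix.map_apply]
      change e.symm (A i j ^ 2 ^ (0 + 1)) = e.symm (A i j)
      rw [map_pow, sq_zmod]
    have hform := Cfsg.Agent.Lib.SuzukiIso.form_of_mem_Sp4 A (fun u v => hg1 u v)
    have hent : ∀ i j : Fin 4, A 0 i * A 3 j + A 1 i * A 2 j + A 2 i * A 1 j + A 3 i * A 0 j = suzukiForm F i j := by
      intro i j
      have := congrFun (congrFun hform i) j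
      rw [← this]
      simp [Matrix.mul_apply, Fin.sum_univ_four, suzukiForm]
      ring
    have hent' : ∀ i j : Fin 4, M 0 i * M 3 j + M 1 i * M 2 j + M 2 i * M 1 j + M 3 i * M 0 j = e.symm (suzukiForm F i j) := by
      intro i j
      rw [← hent]
      simp [hM, map_add, map_mul]
    have hs' : ∀ p r : Fin 4, M p r = Lie.star4 M p r := fun p r => by rw [hs]
    have h := cls (M 0 0) (mem_l2 _) (M 0 1) (mem_l2 _) (M 0 2) (mem_l2 _) (M 0 3) (mem_l2 _)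
      (M 1 0) (mem_l2 _) (M 1 1) (mem_l2 _) (M 1 2) (mem_l2 _) (M 1 3) (mem_l2 _)
      ⟨hs' 0 0, hs' 0 1, hs' 0 2, hs' 0 3⟩
      (M 2 0) (mem_l2 _) (M 2 1) (mem_l2 _) (M 2 2) (mem_l2 _) (M 2 3) (mem_l2 _)
      ⟨hs' 1 0, hs' 1 1, hs' 1 2, hs' 1 3⟩
      (M 3 0) (mem_l2 _) (M 3 1) (mem_l2 _) (M 3 2) (mem_l2 _) (M 3 3) (mem_l2 _)
      ⟨hs' 2 0, hs' 2 1, hs' 2 2, hs' 2 3⟩ ⟨hs' 3 0, hs' 3 1, hs' 3 2, hs' 3 3⟩
      (by have := hent' 0 3; simpa [suzukiForm] using this)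
      (by have := hent' 1 2; simpa [suzukiForm] using this)
      (by have := hent' 0 1; simpa [suzukiForm] using this)
      (by have := hent' 2 3; simpa [suzukiForm] using this)
    rw [memL_iff] at h
    have e16 : mk16 (M 0 0) (M 0 1) (M 0 2) (M 0 3) (M 1 0) (M 1 1) (M 1 2) (M 1 3) (M 2 0) (M 2 1) (M 2 2) (M 2 3)
        (M 3 0) (M 3 1) (M 3 2) (M 3 3) = M := by
      ext i j
      fin_cases i <;> fin_cases j <;> rfl
    rwa [e16] at h
  have hS₀ : ∀ x, x ∈ Γ → F₀ x ∈ lst20 := by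
    intro x hx
    induction hx using Subgroup.closure_induction with
    | mem x hx => exact hgen x hx.1 hx.2
    | one =>
      rw [map_one]
      exact one_mem
    | mul x y hx hy ihx ihy =>
      rw [map_mul]
      exact (mul_mem ihx ihy).1
    | inv x hx ih =>
      obtain ⟨N, hN, hNM⟩ := inv_mem ih
      have h1 : F₀ x⁻¹ * F₀ x = 1 := by
        rw [← map_mul, inv_mul_cancel, map_one]
      have h2 : F₀ x * N = 1 := mul_eq_one_comm.1 hNM
      have h3 : F₀ x⁻¹ = N := by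
        calc F₀ x⁻¹ = F₀ x⁻¹ * (F₀ x * N) := by rw [h2, mul_one]
          _ = N := by rw [← mul_assoc, h1, one_mul]
      rw [h3]
      exact hN
  have hS : ∀ g : ↥Γ, f g ∈ lst20 := fun g => hS₀ _ g.2
  let χ : ↥Γ →* ℤˣ :=
    { toFun := fun g => if memL (f g) lst10 = true then 1 else -1
      map_one' := by
        have h1 : memL 1 lst10 = true := by
          rw [← one4_eq]
          decide +kernel
        simp [h1]
      map_mul' := by
        intro x y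
        have h1 := (mul_mem (hS x) (hS y)).2
        rw [map_mul, h1]
        cases memL (f x) lst10 <;> cases memL (f y) lst10 <;> simp }
  have hUk : U ≤ χ.ker := by
    intro u hu
    rw [MonoidHom.mem_ker]
    have h1 : f u * f u = 1 := by
      rw [← map_mul, hU u hu, map_one]
    have h2 := invol_mem (hS u) h1
    change (if memL (f u) lst10 = true then (1 : ℤˣ) else -1) = 1
    rw [if_pos h2]
  have h3 : Subgroup.normalClosure (U : Set ↥Γ) ≤ χ.ker := Subgroup.normalClosure_le_normal hUk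
  rw [hcl, top_le_iff] at h3
  -- the element of order four
  let T₀ : GL (Fin 4) (ZMod 2) := ⟨M0, N0, M0_N0, N0_M0⟩
  let g₀ : GL (Fin 4) F := Matrix.GeneralLinearGroup.map e.toRingHom T₀
  have hg₀c : (g₀ : Matrix (Fin 4) (Fin 4) F) = M0.map e := rfl
  have hmem : g₀ ∈ Γ := by
    apply Subgroup.subset_closure
    refine ⟨?_, ?_⟩
    · intro u v
      have h1 : (Units.coeHom (Matrix (Fin 4) (Fin 4) F) g₀) = M0.map e := rfl
      rw [h1]
      have e1 : (e 0 : F) = 0 := map_zero e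
      have e2 : (e 1 : F) = 1 := map_one e
      simp [Lie.altForm4, Matrix.mulVec, dotProduct, Fin.sum_univ_four, M0, e1, e2]
      linear_combination (u 1 * v 3 + u 2 * v 2 + u 2 * v 3 + u 3 * v 2 + u 3 * v 1 + 2 * u 3 * v 3) * h20
    · rw [hg₀c]
      have := star_map (e.toRingHom) M0
      change Lie.star4 (M0.map e) = _ at this
      rw [this, star_M0]
      ext i j
      simp only [Matrix.map_apply]
      change e (M0 i j) = (e (M0 i j)) ^ 2 ^ (0 + 1)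
      rw [← map_pow, sq_zmod]
  have h4 : (⟨g₀, hmem⟩ : ↥Γ) ∈ χ.ker := by rw [h3]; exact Subgroup.mem_top _
  rw [MonoidHom.mem_ker] at h4
  have h5 : f ⟨g₀, hmem⟩ = M0 := by
    rw [hfe, hg₀c]
    ext i j
    simp
  change (if memL (f ⟨g₀, hmem⟩) lst10 = true then (1 : ℤˣ) else -1) = 1 at h4
  rw [h5, M0_not_mem] at h4
  simp at h4

end Main

end Cfsg.Agent.Lib.NatMod58Sz2
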