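/-
From `L ∈ 𝔏_G(Y_M)` to the abstract hypotheses on `L`.
-/
import Mathlib
import Cfsg.Agent.Lib.NatMod58e
import Cfsg.Agent.Lib.NatMod58g
import Cfsg.Agent.Lib.YTheory
import Cfsg.Prelude.Def_LocalStructure

set_option autoImplicit false
set_option linter.unusedSectionVars false
set_option linter.unusedVariables false
set_option linter.style.haveILetI false

namespace Cfsg.Agent.Lib.NatMod58

open Cfsg Cfsg.Agent.Lib.LocalLarge

universe u

variable {G : Type u} [Group G] [Finite G] {p : ℕ} [hp : Fact p.Prime]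

/-- The subgroup `Y` inside `L`. -/
abbrev YL (p : ℕ) (M L : Subgroup G) : Subgroup ↥L := (largestPReducedOf p M).subgroupOf L

theorem subgroupOf_pCoreOf (L : Subgroup G) : (pCoreOf p L).subgroupOf L = pCore p ↥L := by
  ext x
  rw [Subgroup.mem_subgroupOf]
  constructor
  · rintro ⟨y, hy, hyx⟩
    have : y = x := Subtype.ext hyx
    rwa [← this]
  · intro h
    exact ⟨x, h, rfl⟩

theorem mem_normalizer_YL {M L : Subgroup G} {x : ↥L}
    (h : (x : G) ∈ Subgroup.normalizer (largestPReducedOf p M : Set G)) :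
    x ∈ Subgroup.normalizer ((YL p M L : Subgroup ↥L) : Set ↥L) := by
  rw [Subgroup.mem_normalizer_iff]
  intro y
  rw [Subgroup.mem_subgroupOf, Subgroup.mem_subgroupOf]
  exact (Subgroup.mem_normalizer_iff.1 h y)

theorem lhyp_of {M L : Subgroup G} (hL : IsInFrakL p M L) : LHyp (YL p M L) (pCore p ↥L) := by
  obtain ⟨hYL, hcl, hN, hmin, hcen, ⟨hlt, hmax⟩, -⟩ := hL
  have hY := Cfsg.Agent.Lib.YTheory.isPRed_largest (p := p) M
  refine ⟨inferInstance, ?_, ?_, ?_, hcen, ?_⟩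
  · intro y hy y' hy'
    apply Subtype.ext
    exact hY.comm _ hy _ hy'
  · intro a ha
    exact mem_normalizer_YL (hN ⟨a, ha, rfl⟩)
  · apply Subgroup.map_injective L.subtype_injective
    change (Subgroup.normalClosure _).map L.subtype = pCoreOf p L
    conv_rhs => rw [hcl]
    congr 3
    ext x
    simp only [Subgroup.mem_inf, Subgroup.mem_subgroupOf, SetLike.mem_coe]
    rw [← subgroupOf_pCoreOf, Subgroup.mem_subgroupOf]
  · intro X hX hne x hx
    apply mem_normalizer_YL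
    have h1 : largestPReducedOf p M ≤ X.map L.subtype := by
      intro y hy
      exact ⟨⟨y, hYL hy⟩, hX hy, rfl⟩
    have h2 : X.map L.subtype < L := by
      refine lt_of_le_of_ne ?_ ?_
      · rintro _ ⟨z, -, rfl⟩
        exact z.2
      · intro h3
        apply hne
        rw [eq_top_iff]
        intro z _
        have : (z : G) ∈ X.map L.subtype := by rw [h3]; exact z.2
        obtain ⟨w, hw, hwz⟩ := this
        have : w = z := Subtype.ext hwz
        rwa [← this]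
    exact (hmax _ h1 h2 ⟨x, hx, rfl⟩).2

theorem normalClosure_YL {M L : Subgroup G} (hL : IsInFrakL p M L) :
    Subgroup.normalClosure ((YL p M L : Subgroup ↥L) : Set ↥L) = ⊤ := hL.2.2.2.1.1

theorem YL_sq {M L : Subgroup G} (hp2 : p = 2) {y : ↥L} (hy : y ∈ YL p M L) : y * y = 1 := by
  have hY := Cfsg.Agent.Lib.YTheory.isPRed_largest (p := p) M
  apply Subtype.ext
  have := hY.exp _ hy
  rw [hp2, pow_two] at this
  exact this

theorem YL_isPGroup {M L : Subgroup G} {Γ : Type*} [Group Γ] (π : ↥L →* Γ) :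
    IsPGroup p ((YL p M L).map π) := by
  have hY := Cfsg.Agent.Lib.YTheory.isPRed_largest (p := p) M
  rintro ⟨_, y, hy, rfl⟩
  refine ⟨1, Subtype.ext ?_⟩
  have h1 : (y : G) ^ p = 1 := hY.exp _ hy
  have h2 : y ^ p = 1 := Subtype.ext (by simpa using h1)
  simp [← map_pow, h2]

theorem card_map_YL {M L : Subgroup G} {Γ : Type*} [Group Γ] (π : ↥L →* Γ)
    (hker : π.ker = pCore p ↥L) (hYL : largestPReducedOf p M ≤ L) :
    Nat.card ((YL p M L).map π) =
      (largestPReducedOf p M ⊓ pCoreOf p L).relIndex (largestPReducedOf p M) := by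
  set Y := largestPReducedOf p M with hY
  let φ : ↥Y →* Γ := π.comp (Subgroup.inclusion hYL)
  have h1 : φ.ker = (Y ⊓ pCoreOf p L).subgroupOf Y := by
    ext y
    rw [MonoidHom.mem_ker, Subgroup.mem_subgroupOf]
    change π (Subgroup.inclusion hYL y) = 1 ↔ _
    rw [← MonoidHom.mem_ker, hker]
    constructor
    · intro h
      exact ⟨y.2, ⟨_, h, rfl⟩⟩
    · rintro ⟨-, z, hz, hzy⟩
      have : z = Subgroup.inclusion hYL y := Subtype.ext hzy
      rwa [← this]
  have h2 : φ.range = (YL p M L).map π := by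
    ext x
    constructor
    · rintro ⟨y, rfl⟩
      exact ⟨Subgroup.inclusion hYL y, y.2, rfl⟩
    · rintro ⟨y, hy, rfl⟩
      exact ⟨⟨y, hy⟩, rfl⟩
  rw [← h2, ← Subgroup.index_ker, h1]
  rfl

/-- The quotient map transported. -/
theorem exists_quot {M L : Subgroup G} {Γ : Type*} [Group Γ]
    (e : ↥L ⧸ pCore p ↥L ≃* Γ) : ∃ π : ↥L →* Γ, Function.Surjective π ∧ π.ker = pCore p ↥L := by
  refine ⟨e.toMonoidHom.comp (QuotientGroup.mk' _), ?_, ?_⟩
  · exact e.surjective.comp (QuotientGroup.mk'_surjective _)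
  · ext x
    rw [MonoidHom.mem_ker]
    change e (QuotientGroup.mk' _ x) = 1 ↔ _
    rw [map_eq_one_iff e e.injective, QuotientGroup.mk'_apply, QuotientGroup.eq_one_iff]

/-- Conjugating the projection. -/
theorem conj_pi {L : Type*} [Group L] {Γ : Type*} [Group Γ] {Y A : Subgroup L} {U : Subgroup Γ}
    (π : L →* Γ) (hπ : Function.Surjective π) (hker : π.ker = A) {k : Γ} (hU : Y.map π = cj k U) :
    ∃ π' : L →* Γ, Function.Surjective π' ∧ π'.ker = A ∧ Y.map π' = U := by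
  refine ⟨(MulAut.conj k⁻¹).toMonoidHom.comp π, (MulAut.conj k⁻¹).surjective.comp hπ, ?_, ?_⟩
  · rw [← hker]
    ext x
    rw [MonoidHom.mem_ker, MonoidHom.mem_ker]
    change k⁻¹ * π x * k⁻¹⁻¹ = 1 ↔ _
    constructor
    · intro h
      have : π x = k * (k⁻¹ * π x * k⁻¹⁻¹) * k⁻¹ := by group
      rw [this, h]
      group
    · intro h
      rw [h]
      group
  · rw [← Subgroup.map_map, hU]
    exact cj_inv_cj k U

/-- The three cases of the structure of `L / O_p(L)`, normalized. -/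
theorem exists_pi {M L : Subgroup G} (hL : IsInFrakL p M L) :
    (∃ (F : Type) (_ : Field F) (_ : Fintype F) (_ : CharP F p) (π : ↥L →* SL2F F),
        Function.Surjective π ∧ π.ker = pCore p ↥L ∧ (YL p M L).map π = XX F) ∨
    (p = 2 ∧ ∃ (F : Type) (_ : Field F) (_ : Fintype F) (m : ℕ) (_ : CharP F 2)
        (_ : Cfsg.Agent.Lib.Suzuki.SzHyp F m) (π : ↥L →* Sz F m),
        Function.Surjective π ∧ π.ker = pCore p ↥L ∧ (YL p M L).map π = NatMod58Sz.ZZ F m) ∨
    (p = 2 ∧ ∃ (r : ℕ) (_ : r.Prime) (_ : r ≠ 2) (π : ↥L →* DihedralGroup r),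
        Function.Surjective π ∧ π.ker = pCore p ↥L) := by
  have hYL := hL.1
  have hnc := normalClosure_YL hL
  obtain ⟨-, -, -, -, -, -, h3⟩ := hL
  rcases h3 with ⟨F, iF, fF, hc, ⟨e⟩⟩ | ⟨hp2, F, iF, fF, m, hF, hc, ⟨e⟩⟩ | ⟨hp2, r, hr, hr2, ⟨e⟩⟩
  · left
    obtain ⟨π₀, hs, hk⟩ := exists_quot (M := M) e
    have hcard := card_map_YL (M := M) π₀ hk hYL
    rw [← hc] at hcard
    have hiP := YL_isPGroup (M := M) (p := p) π₀
    obtain ⟨ℓ, hℓ⟩ := CharP.exists F
    haveI := hℓ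
    have hℓp : ℓ.Prime := CharP.char_is_prime F ℓ
    obtain ⟨n, -, hn⟩ := FiniteField.card F ℓ
    obtain ⟨k, hk'⟩ := IsPGroup.iff_card.1 hiP
    have hlp : ℓ = p := by
      have h1 : ℓ ∣ p ^ k := by
        rw [← hk', hcard, hn]
        exact dvd_pow_self _ n.ne_zero
      exact (Nat.prime_dvd_prime_iff_eq hℓp hp.out).1 (hℓp.dvd_of_dvd_pow h1)
    subst hlp
    obtain ⟨κ, hκ⟩ := exists_conj_XX ℓ _ hiP hcard
    obtain ⟨π', h1, h2, h3⟩ := conj_pi π₀ hs hk hκ
    exact ⟨F, iF, fF, hℓ, π', h1, h2, h3⟩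
  · right; left
    subst hp2
    refine ⟨rfl, ?_⟩
    by_cases hm : m = 0
    · exfalso
      subst hm
      obtain ⟨π₀, hs, hk⟩ := exists_quot (M := M) e
      have hcl : Subgroup.normalClosure (((YL 2 M L).map π₀ : Subgroup ↥(Lie.Sz F (2 ^ (0 + 1)))) : Set ↥(Lie.Sz F (2 ^ (0 + 1)))) = ⊤ := by
        rw [Subgroup.coe_map, ← Subgroup.map_normalClosure _ _ hs, hnc]
        exact Subgroup.map_top_of_surjective _ hs
      refine NatMod58Sz2.no_sz2 (F := F) (by simpa using hF) _ ?_ hcl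
      rintro _ ⟨y, hy, rfl⟩
      rw [← map_mul, YL_sq rfl hy, map_one]
    · haveI : Cfsg.Agent.Lib.Suzuki.SzHyp F m := ⟨by omega, hF⟩
      haveI hc2 : CharP F 2 := Cfsg.Agent.Lib.Suzuki.charP_two F m
      obtain ⟨π₀, hs, hk⟩ := exists_quot (M := M) (e.trans Cfsg.Agent.Lib.SuzukiIso.szEquiv.symm)
      have hcard := card_map_YL (M := M) π₀ hk hYL
      rw [← hc] at hcard
      have hiP := YL_isPGroup (M := M) (p := 2) π₀
      have hel : ∀ u ∈ (YL 2 M L).map π₀, u * u = 1 := by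
        rintro _ ⟨y, hy, rfl⟩
        rw [← map_mul, YL_sq rfl hy, map_one]
      obtain ⟨κ, hκ⟩ := NatMod58Sz.exists_conj_ZZ _ hiP hel hcard
      obtain ⟨π', h1, h2, h3⟩ := conj_pi π₀ hs hk hκ
      exact ⟨F, iF, fF, m, hc2, inferInstance, π', h1, h2, h3⟩
  · right; right
    obtain ⟨π₀, hs, hk⟩ := exists_quot (M := M) e
    exact ⟨hp2, r, hr, hr2, π₀, hs, hk⟩

/-- The main fixed point theorem in `L`. -/
theorem fpf_main {M L : Subgroup G} (hL : IsInFrakL p M L) {h : ↥L}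
    (hnp : ¬ ∃ k : ℕ, orderOf h = p ^ k) {a : ↥L} (ha : a ∈ pCore p ↥L)
    (hc : h * a * h⁻¹ * a⁻¹ ∈ CC (YL p M L)) : a ∈ CC (YL p M L) := by
  have H := lhyp_of hL
  have hAp : IsPGroup p (pCore p ↥L) := Cfsg.Agent.Lib.PCore.isPGroup_pCore p
  rcases exists_pi hL with ⟨F, iF, fF, hc', π, h1, h2, h3⟩ | ⟨hp2, F, iF, fF, m, hc2, hS, π, h1, h2, h3⟩ |
    ⟨hp2, r, hr, hr2, π, h1, h2⟩
  · exact sl2_case H p hAp π h1 h2 h3 hnp ha hc
  · subst hp2
    exact NatMod58Sz.sz_case H hAp π h1 h2 (fun y hy => YL_sq rfl hy) h3 hnp ha hc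
  · subst hp2
    haveI : NeZero r := ⟨hr.ne_zero⟩
    exact dihedral_case H hr hr2 hAp π h1 h2 (fun y hy => YL_sq rfl hy) (normalClosure_YL hL) hnp ha hc

end Cfsg.Agent.Lib.NatMod58
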