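/-
The unique nontrivial elementary abelian normal `p`-subgroup of `N_L(Y)/O_p(L)`.
-/
import Mathlib
import Cfsg.Agent.Lib.NatMod58f

set_option autoImplicit false
set_option linter.unusedSectionVars false
set_option linter.unusedVariables false
set_option linter.style.haveILetI false

namespace Cfsg.Agent.Lib.NatMod58

open Cfsg Cfsg.Agent.Lib.LocalLarge

universe u

/-- The uniqueness property. -/
def KProp (p : ℕ) {Γ : Type*} [Group Γ] (U : Subgroup Γ) : Prop :=
  ∀ V : Subgroup Γ, V ≤ Subgroup.normalizer (U : Set Γ) →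
    Subgroup.normalizer (U : Set Γ) ≤ Subgroup.normalizer (V : Set Γ) →
    IsElementaryAbelian p V → V ≠ ⊥ → V = U

section SL2

variable {F : Type*} [Field F]

theorem pow_00 {v : SL2F F} (h : v.1 1 0 = 0) (n : ℕ) : (v ^ n).1 0 0 = v.1 0 0 ^ n := by
  induction n with
  | zero => simp
  | succ n ih =>
    rw [pow_succ, mul_00, ih, h]
    simp [pow_succ]

theorem kprop_XX [Fintype F] (p : ℕ) [hp : Fact p.Prime] [CharP F p] : KProp p (XX F) := by
  intro V hle hnorm hEA hne
  -- V is unipotent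
  have h1 : V ≤ XX F := by
    intro v hv
    have h10 := eq_zero_of_mem_normalizer (hle hv)
    have hvp : v ^ p = 1 := hEA.2 v hv
    have h2 := pow_00 h10 p
    rw [hvp] at h2
    have h3 : v.1 0 0 ^ p = 1 := by
      rw [← h2]
      simp
    have h4 : v.1 0 0 = 1 := by
      have h5 : (v.1 0 0 - 1) ^ p = 0 := by
        rw [sub_pow_char, h3, one_pow, sub_self]
      have h6 := pow_eq_zero_iff hp.out.ne_zero |>.1 h5
      exact sub_eq_zero.1 h6
    have hd := det_eq v
    rw [h4, h10] at hd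
    have h7 : v.1 1 1 = 1 := by simpa using hd
    refine ⟨v.1 0 1, ?_⟩
    apply ext2 <;> simp [h4, h10, h7]
  obtain ⟨v, hv, hv1⟩ := (Subgroup.bot_or_exists_ne_one V).resolve_left hne
  obtain ⟨a, rfl⟩ := h1 hv
  have ha : a ≠ 0 := by
    rintro rfl
    exact hv1 xx_zero
  have h2 : ∀ u : F, xx (a * (u * u)) ∈ V := by
    intro u
    by_cases hu : u = 0
    · subst hu
      simp only [mul_zero]
      rw [xx_zero]
      exact V.one_mem
    · have h3 : tt u hu ∈ Subgroup.normalizer ((XX F : Subgroup (SL2F F)) : Set (SL2F F)) :=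
        mem_normalizer_XX (by simp)
      have h4 := (Subgroup.mem_normalizer_iff.1 (hnorm h3) (xx a)).1 hv
      rw [tt_conj] at h4
      rwa [show a * (u * u) = u * u * a by ring]
  have h3 : ∀ c : F, xx c ∈ V := by
    intro c
    by_cases h20 : (2 : F) = 0
    · have hp2 : p = 2 := by
        have h5 : ((2 : ℕ) : F) = 0 := by exact_mod_cast h20
        rw [CharP.cast_eq_zero_iff F p] at h5
        exact (Nat.prime_dvd_prime_iff_eq hp.out Nat.prime_two).1 h5
      have h6 : ringChar F = 2 := by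
        rw [ringChar.eq F p, hp2]
      obtain ⟨t, ht⟩ := FiniteField.isSquare_of_char_two h6 (c / a)
      have h7 : c = a * (t * t) := by
        rw [← ht]
        field_simp
      rw [h7]
      exact h2 t
    · set e := c / a with he
      set u := (e + 1) / 2 with hu
      set w := (e - 1) / 2 with hw
      have h7 : c = a * (u * u) + -(a * (w * w)) := by
        have h8 : u * u - w * w = e := by
          rw [hu, hw]
          field_simp
          ring
        have h9 : a * e = c := by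
          rw [he]
          field_simp
        rw [← h9, ← h8]
        ring
      rw [h7, xx_add]
      refine V.mul_mem (h2 u) ?_
      have h10 : xx (-(a * (w * w))) = (xx (a * (w * w)))⁻¹ := by
        symm
        rw [inv_eq_iff_mul_eq_one, ← xx_add, add_neg_cancel, xx_zero]
      rw [h10]
      exact V.inv_mem (h2 w)
  apply le_antisymm h1
  rintro _ ⟨c, rfl⟩
  exact h3 c

end SL2

section Dih

open DihedralGroup

variable {r : ℕ}

theorem dih_struct (hr : r.Prime) (hr2 : r ≠ 2) (U : Subgroup (DihedralGroup r))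
    (hUel : ∀ u ∈ U, u * u = 1) (hne : ∃ u ∈ U, u ≠ 1) :
    ∃ i₀ : ZMod r, ∀ u, u ∈ U ↔ u = 1 ∨ u = sr i₀ := by
  have hrot : ∀ i : ZMod r, DihedralGroup.r i ∈ U → i = 0 := by
    intro i hi
    have := hUel _ hi
    rw [r_mul_r] at this
    apply two_mul_eq_zero hr hr2
    have h1 : (DihedralGroup.r (i + i) : DihedralGroup r) = DihedralGroup.r 0 := this
    exact DihedralGroup.r.inj h1
  obtain ⟨u₀, hu₀, hu₀1⟩ := hne
  obtain ⟨i₀, rfl⟩ : ∃ i₀, u₀ = sr i₀ := by
    rcases u₀ with i | i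
    · exact absurd (by rw [hrot i hu₀]; rfl) hu₀1
    · exact ⟨i, rfl⟩
  refine ⟨i₀, fun u => ⟨fun hu => ?_, ?_⟩⟩
  · rcases u with i | i
    · left
      rw [hrot i hu]
      rfl
    · right
      have h1 := U.mul_mem hu₀ hu
      rw [sr_mul_sr] at h1
      rw [sub_eq_zero.1 (hrot _ h1)]
  · rintro (rfl | rfl)
    · exact U.one_mem
    · exact hu₀

theorem kprop_dih (hr : r.Prime) (hr2 : r ≠ 2) (U : Subgroup (DihedralGroup r))
    (hUel : ∀ u ∈ U, u * u = 1) (hne : ∃ u ∈ U, u ≠ 1) : KProp 2 U ∧ ∃ k, k ∉ Subgroup.normalizer (U : Set (DihedralGroup r)) := by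
  obtain ⟨i₀, hU⟩ := dih_struct hr hr2 U hUel hne
  have hi₀ : sr i₀ ∈ U := (hU _).2 (Or.inr rfl)
  have hsr_ne : ∀ j : ZMod r, (sr j : DihedralGroup r) ≠ 1 := by
    intro j hj
    cases hj
  have hN : Subgroup.normalizer (U : Set (DihedralGroup r)) ≤ U := by
    intro k hk
    have h1 := (Subgroup.mem_normalizer_iff.1 hk _).1 hi₀
    rcases k with i | j
    · rw [inv_r, r_mul_sr, sr_mul_r] at h1
      rcases (hU _).1 h1 with h2 | h2
      · exact absurd h2 (hsr_ne _)
      · have h3 : i₀ - i + -i = i₀ := sr.inj h2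
        have h4 : i + i = 0 := by linear_combination (-1 : ZMod r) * h3
        have h5 := two_mul_eq_zero hr hr2 h4
        subst h5
        exact (hU _).2 (Or.inl rfl)
    · rw [inv_sr, sr_mul_sr, r_mul_sr] at h1
      rcases (hU _).1 h1 with h2 | h2
      · exact absurd h2 (hsr_ne _)
      · have h3 : j - (i₀ - j) = i₀ := sr.inj h2
        have h4 : (j - i₀) + (j - i₀) = 0 := by linear_combination h3
        have h5 := two_mul_eq_zero hr hr2 h4
        rw [sub_eq_zero.1 h5]
        exact hi₀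
  constructor
  · intro V hle hnorm hEA hne'
    obtain ⟨v, hv, hv1⟩ := (Subgroup.bot_or_exists_ne_one V).resolve_left hne'
    have h1 := (hU v).1 (hN (hle hv))
    have h2 : v = sr i₀ := h1.resolve_left hv1
    subst h2
    apply le_antisymm (hle.trans hN)
    intro u hu
    rcases (hU u).1 hu with rfl | rfl
    · exact V.one_mem
    · exact hv
  · refine ⟨DihedralGroup.r 1, fun hn => ?_⟩
    have h1 := hN hn
    rcases (hU _).1 h1 with h2 | h2
    · have h5 : (1 : ZMod r) = 0 := DihedralGroup.r.inj h2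
      haveI := Fact.mk hr
      exact one_ne_zero h5
    · cases h2

end Dih

end Cfsg.Agent.Lib.NatMod58

namespace Cfsg.Agent.Lib.NatMod58Sz

open Cfsg Cfsg.Agent.Lib.LocalLarge Cfsg.Agent.Lib.NatMod58
open Cfsg.Agent.Lib.SuzukiBasic Cfsg.Agent.Lib.Suzuki Cfsg.Agent.Lib.Suzuki2
  Cfsg.Agent.Lib.Suzuki3 Cfsg.Agent.Lib.Suzuki4 Cfsg.Agent.Lib.SuzukiMax Cfsg.Agent.Lib.SzSub
  Cfsg.Agent.Lib.SzTorus

variable {F : Type*} [Field F] [Fintype F] {m : ℕ} [CharP F 2] [SzHyp F m]

theorem phi_surj (c : F) (hc : c ≠ 0) : ∃ α : Fˣ, phi m (α : F) * α = c := by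
  set σ := 2 ^ (m + 1) with hσ
  set q := Fintype.card F with hq
  have hq' : q = 2 ^ (2 * m + 1) := SzHyp.hF
  have hσq : σ * σ = 2 * q := by
    rw [hq', hσ]
    ring
  have hσpos : 0 < σ := by positivity
  obtain ⟨s, hs⟩ : ∃ s, σ = s + 1 := ⟨σ - 1, by omega⟩
  have hqpos : 0 < q := Fintype.card_pos
  obtain ⟨t, ht⟩ : ∃ t, q = t + 1 := ⟨q - 1, by omega⟩
  refine ⟨(Units.mk0 c hc) ^ s, ?_⟩
  have h1 : c ^ t = 1 := by
    have := FiniteField.pow_card_sub_one_eq_one c hc
    rwa [← hq, ht, Nat.add_sub_cancel] at this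
  have h2 : s * (s + 1) + s = 2 * t + 1 := by
    have h3 : s * (s + 1) + s + 1 = (s + 1) * (s + 1) := by ring
    rw [hs, ht] at hσq
    omega
  simp only [Units.val_pow_eq_pow_val, Units.val_mk0, phi]
  rw [← hσ, hs, ← pow_mul, ← pow_add, h2, pow_succ, pow_mul, pow_right_comm, h1, one_pow, one_mul]


theorem kprop_ZZ : KProp 2 (ZZ F m) := by
  intro V hle hnorm hEA hne
  have h1 : V ≤ ZZ F m := by
    intro v hv
    have h2 := smul_inf_of_mem_normalizer (hle hv)
    have h3 : v * v = 1 := by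
      rw [← pow_two]
      exact hEA.2 v hv
    obtain ⟨b, rfl⟩ := invol_inf h2 h3
    exact ⟨b, rfl⟩
  obtain ⟨v, hv, hv1⟩ := (Subgroup.bot_or_exists_ne_one V).resolve_left hne
  obtain ⟨a, rfl⟩ := h1 hv
  have ha : a ≠ 0 := by
    rintro rfl
    exact hv1 (tt_zero (F := F) (m := m))
  apply le_antisymm h1
  rintro _ ⟨c, rfl⟩
  by_cases hc : c = 0
  · subst hc
    rw [tt_zero (F := F) (m := m)]
    exact V.one_mem
  · obtain ⟨α, hα⟩ := phi_surj (m := m) (c / a) (div_ne_zero hc ha)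
    have h2 : hh α ∈ Subgroup.normalizer ((ZZ F m : Subgroup (Sz F m)) : Set (Sz F m)) :=
      mem_normalizer_ZZ (hh_smul_inf α)
    have h3 := (Subgroup.mem_normalizer_iff.1 (hnorm h2) _).1 hv
    have h4 : (hh α * tt 0 a * (hh α)⁻¹ : Sz F m) = tt 0 c := by
      rw [hh_mul_tt, mul_inv_cancel_right, mul_zero, hα]
      congr 1
      field_simp
    rwa [h4] at h3

end Cfsg.Agent.Lib.NatMod58Sz

namespace Cfsg.Agent.Lib.NatMod58

open Cfsg Cfsg.Agent.Lib.LocalLarge

universe u

variable {G : Type u} [Group G] [Finite G] {p : ℕ} [hp : Fact p.Prime]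

/-- The normalized projection with the uniqueness property. -/
theorem exists_K {M L : Subgroup G} (hL : IsInFrakL p M L) :
    ∃ (Γ : Type) (_ : Group Γ) (π : ↥L →* Γ), Function.Surjective π ∧ π.ker = pCore p ↥L ∧
      (∃ k, k ∉ Subgroup.normalizer (((YL p M L).map π : Subgroup Γ) : Set Γ)) ∧
      KProp p ((YL p M L).map π) := by
  have hnc := normalClosure_YL hL
  rcases exists_pi hL with ⟨F, iF, fF, hc', π, h1, h2, h3⟩ | ⟨hp2, F, iF, fF, m, hc2, hS, π, h1, h2, h3⟩ |
    ⟨hp2, r, hr, hr2, π, h1, h2⟩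
  · refine ⟨_, _, π, h1, h2, ?_, ?_⟩
    · rw [h3]
      exact ⟨_, ww_not_mem⟩
    · rw [h3]
      exact kprop_XX p
  · subst hp2
    refine ⟨_, _, π, h1, h2, ?_, ?_⟩
    · rw [h3]
      refine ⟨Cfsg.Agent.Lib.SuzukiMax.ww, fun hn => ?_⟩
      have h4 := NatMod58Sz.smul_inf_of_mem_normalizer hn
      exact Cfsg.Agent.Lib.SuzukiMax.ww_not_mem_Binf (Cfsg.Agent.Lib.SzTorus.mem_Binf'.2 h4)
    · rw [h3]
      exact NatMod58Sz.kprop_ZZ
  · subst hp2
    have hel : ∀ u ∈ (YL 2 M L).map π, u * u = 1 := by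
      rintro _ ⟨y, hy, rfl⟩
      rw [← map_mul, YL_sq rfl hy, map_one]
    have hne : ∃ u ∈ (YL 2 M L).map π, u ≠ 1 := by
      by_contra hcon
      push Not at hcon
      have h3 : YL 2 M L ≤ π.ker := by
        intro y hy
        rw [MonoidHom.mem_ker]
        exact hcon _ ⟨y, hy, rfl⟩
      have h4 : Subgroup.normalClosure ((YL 2 M L : Subgroup ↥L) : Set ↥L) ≤ π.ker :=
        Subgroup.normalClosure_le_normal h3
      rw [hnc, top_le_iff] at h4
      obtain ⟨x, hx⟩ := h1 (DihedralGroup.r 1 : DihedralGroup r)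
      have h5 : x ∈ π.ker := by rw [h4]; exact Subgroup.mem_top _
      rw [MonoidHom.mem_ker, hx] at h5
      have h6 : (1 : ZMod r) = 0 := DihedralGroup.r.inj h5
      haveI := Fact.mk hr
      exact one_ne_zero h6
    obtain ⟨h3, h4⟩ := kprop_dih hr hr2 _ hel hne
    exact ⟨_, _, π, h1, h2, h4, h3⟩

/-- The image of the normalizer. -/
theorem map_normalizer_eq {L : Type*} [Group L] {Y A : Subgroup L} (H : LHyp Y A) {Γ : Type*} [Group Γ]
    (π : L →* Γ) (hπ : Function.Surjective π)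
    (hex : ∃ k, k ∉ Subgroup.normalizer ((Y.map π : Subgroup Γ) : Set Γ)) :
    (Subgroup.normalizer (Y : Set L)).map π = Subgroup.normalizer ((Y.map π : Subgroup Γ) : Set Γ) := by
  apply le_antisymm
  · rintro _ ⟨x, hx, rfl⟩
    exact pi_norm π hx
  · intro k hk
    obtain ⟨g, rfl⟩ := hπ k
    refine ⟨g, ?_, rfl⟩
    have h1 : Y ≤ (Subgroup.normalizer ((Y.map π : Subgroup Γ) : Set Γ)).comap π := by
      intro y hy
      rw [Subgroup.mem_comap]
      have h2 : π y ∈ Y.map π := ⟨y, hy, rfl⟩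
      exact Subgroup.le_normalizer h2
    have h2 : (Subgroup.normalizer ((Y.map π : Subgroup Γ) : Set Γ)).comap π ≠ ⊤ := by
      intro h3
      obtain ⟨k₀, hk₀⟩ := hex
      obtain ⟨g₀, rfl⟩ := hπ k₀
      apply hk₀
      have : g₀ ∈ (Subgroup.normalizer ((Y.map π : Subgroup Γ) : Set Γ)).comap π := by
        rw [h3]; exact Subgroup.mem_top _
      exact this
    exact H.max _ h1 h2 hk

end Cfsg.Agent.Lib.NatMod58
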