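import Mathlib
import Cfsg.Prelude.Def_SubgroupEmbedding
import Cfsg.Prelude.Def_CaseTheorems
import Cfsg.Agent.Lib.PCore
import Cfsg.Agent.Lib.EmbInvol
import Cfsg.Agent.Lib.NilClosed
import Cfsg.Agent.Lib.NilClosedChar
import Cfsg.Agent.Lib.ZStar
import Cfsg.Agent.S0942

/-!
# Nil-closed abelian `2`-subgroups are normal modulo the odd core

This is the generalization of Glauberman's `Z*`-theorem used for extremely closed abelian
`2`-subgroups.
-/

set_option autoImplicit false
set_option linter.unusedSectionVars false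
set_option linter.dupNamespace false
set_option linter.style.haveILetI false

namespace Cfsg.Agent.Lib.NilClosedMain

open Cfsg Cfsg.Agent.Lib Cfsg.Agent.Lib.PCore Cfsg.Agent.Lib.EmbInvol Cfsg.Agent.Lib.NilClosed

universe u

/-- The conclusion of the main theorem. -/
def Concl {G : Type*} [Group G] (H : Subgroup G) : Prop :=
  ∀ g : G, ∀ h ∈ H, ∃ a ∈ H, ∃ τ ∈ pPrimeCore 2 G, g * h * g⁻¹ = a * τ

section Closure

variable {G : Type*} [Group G] [Finite G]

/-- The subgroup generated by the conjugates of `z` in `K`. -/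
def genA (K : Subgroup G) (z : G) : Subgroup G :=
  Subgroup.closure {u | u ∈ K ∧ IsConj z u}

theorem genA_le (K : Subgroup G) (z : G) : genA K z ≤ K :=
  (Subgroup.closure_le _).2 (fun _ h => h.1)

theorem mem_genA {K : Subgroup G} {z : G} (hz : z ∈ K) : z ∈ genA K z :=
  Subgroup.subset_closure ⟨hz, IsConj.refl z⟩

theorem orderOf_conj_eq (g x : G) : orderOf (g * x * g⁻¹) = orderOf x :=
  (SemiconjBy.orderOf_eq g (show g * x = g * x * g⁻¹ * g by group)).symm

theorem mul_self_of_isConj {x y : G} (hx : x * x = 1) (h : IsConj x y) : y * y = 1 := by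
  obtain ⟨c, rfl⟩ := isConj_iff.1 h
  calc c * x * c⁻¹ * (c * x * c⁻¹) = c * (x * x) * c⁻¹ := by group
    _ = 1 := by rw [hx]; group

theorem genA_exp {K : Subgroup G} {z : G} (hK : ∀ a ∈ K, ∀ b ∈ K, a * b = b * a) (hz : z * z = 1) :
    ∀ a ∈ genA K z, a * a = 1 := by
  intro a ha
  induction ha using Subgroup.closure_induction with
  | mem x hx => exact mul_self_of_isConj hz hx.2
  | one => simp
  | mul a b ha' hb' ha hb =>
    have hab : a * b = b * a := hK a (genA_le K z ha') b (genA_le K z hb')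
    calc a * b * (a * b) = a * (b * a) * b := by group
      _ = a * (a * b) * b := by rw [hab]
      _ = (a * a) * (b * b) := by group
      _ = 1 := by rw [ha, hb, one_mul]
  | inv a _ ha =>
    have h1 : a⁻¹ = a := inv_eq_of_mul_eq_one_left ha
    rw [h1, ha]

/-- The subgroup `genA` is nil-closed. -/
theorem nilClosed_genA {K : Subgroup G} (hKc : NilClosed K) (hK2 : IsPGroup 2 K)
    {z : G} (hz : z * z = 1) (hz1 : z ≠ 1) : NilClosed (genA K z) := by
  intro g
  obtain ⟨O, hO, hn, hm⟩ := hKc g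
  refine ⟨O, hO, fun a ha o ho => hn a (genA_le K z ha) o ho, ?_⟩
  intro a ha
  induction ha using Subgroup.closure_induction with
  | mem u hu =>
    obtain ⟨a, ha, o, ho, e⟩ := hm u hu.1
    have hcu : IsConj z (g * u * g⁻¹) := hu.2.trans (isConj_iff.2 ⟨g, rfl⟩)
    have hyy := mul_self_of_isConj hz hcu
    have hy1 : g * u * g⁻¹ ≠ 1 := by
      intro h1
      rw [h1] at hcu
      exact hz1 (isConj_one_right.1 hcu.symm)
    obtain ⟨-, -, -, h4⟩ := retract_facts hO hn hK2 ha ho e hyy hy1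
    exact ⟨a, Subgroup.subset_closure ⟨ha, hcu.trans h4.symm⟩, o, ho, e⟩
  | one => exact ⟨1, Subgroup.one_mem _, 1, O.one_mem, by simp⟩
  | mul a b ha' hb' ha hb =>
    obtain ⟨a₁, ha₁, o₁, ho₁, e₁⟩ := ha
    obtain ⟨b₁, hb₁, o₂, ho₂, e₂⟩ := hb
    refine ⟨a₁ * b₁, Subgroup.mul_mem _ ha₁ hb₁, b₁⁻¹ * o₁ * b₁ * o₂, O.mul_mem ?_ ho₂, ?_⟩
    · have := hn b₁⁻¹ (K.inv_mem (genA_le K z hb₁)) o₁ ho₁
      simpa using this
    · calc g * (a * b) * g⁻¹ = (g * a * g⁻¹) * (g * b * g⁻¹) := by group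
        _ = a₁ * o₁ * (b₁ * o₂) := by rw [e₁, e₂]
        _ = a₁ * b₁ * (b₁⁻¹ * o₁ * b₁ * o₂) := by group
  | inv a ha' ha =>
    obtain ⟨a₁, ha₁, o₁, ho₁, e₁⟩ := ha
    refine ⟨a₁⁻¹, Subgroup.inv_mem _ ha₁, a₁ * o₁⁻¹ * a₁⁻¹, hn a₁ (genA_le K z ha₁) _ (O.inv_mem ho₁), ?_⟩
    calc g * a⁻¹ * g⁻¹ = (g * a * g⁻¹)⁻¹ := by group
      _ = (a₁ * o₁)⁻¹ := by rw [e₁]
      _ = a₁⁻¹ * (a₁ * o₁⁻¹ * a₁⁻¹) := by group

end Closure

section Central

variable {G : Type u} [Group G] [Finite G]

/-- If the odd core is trivial, so is the odd core modulo a central involution. -/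
theorem core_quot_central (hcore : pPrimeCore 2 G = ⊥) {w : G} (hwc : ∀ g : G, g * w = w * g)
    (hw : orderOf w = 2) (W : Subgroup G) (hW : W = Subgroup.zpowers w) [W.Normal] :
    pPrimeCore 2 (G ⧸ W) = ⊥ := by
  have hcardW : Nat.card W = 2 := by
    rw [hW, Nat.card_zpowers, hw]
  set T := pPrimeCore 2 (G ⧸ W) with hT
  let π := QuotientGroup.mk' W
  set M : Subgroup G := T.comap π with hM
  have hMn : M.Normal := Subgroup.Normal.comap inferInstance π
  have hWM : W ≤ M := by
    intro x hx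
    have : π x = 1 := (QuotientGroup.eq_one_iff x).2 hx
    change π x ∈ T
    rw [this]
    exact T.one_mem
  -- cardinalities
  have hcardM : Nat.card M = Nat.card T * Nat.card W := by
    have h2 : (T.comap π).index = T.index :=
      Subgroup.index_comap_of_surjective T (QuotientGroup.mk'_surjective W)
    have h3 := Subgroup.card_mul_index (T.comap π)
    have h4 := Subgroup.card_mul_index T
    have h5 := Subgroup.card_mul_index W
    rw [h2] at h3
    have h6 : Nat.card (G ⧸ W) = W.index := rfl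
    rw [h6] at h4
    have hpos : 0 < T.index := Nat.pos_of_ne_zero Subgroup.index_ne_zero_of_finite
    apply Nat.eq_of_mul_eq_mul_right hpos
    rw [h3, ← h5, ← h4]
    ring
  have hTodd : (Nat.card T).Coprime 2 := card_pPrimeCore_coprime 2
  -- the complement
  let N' : Subgroup M := W.subgroupOf M
  haveI : N'.Normal := inferInstance
  have hN'card : Nat.card N' = 2 := by
    rw [← hcardW]
    exact Nat.card_congr (Subgroup.subgroupOfEquivOfLe hWM).toEquiv
  have hN'idx : N'.index = Nat.card T := by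
    have h1 := Subgroup.card_mul_index N'
    rw [hN'card, hcardM, hcardW, mul_comm] at h1
    exact Nat.eq_of_mul_eq_mul_right (by norm_num) h1
  have hcop : (Nat.card N').Coprime N'.index := by
    rw [hN'card, hN'idx]
    exact hTodd.symm
  obtain ⟨R, hR⟩ := Subgroup.exists_right_complement'_of_coprime hcop
  have hRcard : Nat.card R = Nat.card T := by
    have h1 := hR.card_mul_card
    have h2 : Nat.card M = 2 * Nat.card T := by rw [hcardM, hcardW, mul_comm]
    rw [hN'card, h2] at h1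
    exact Nat.eq_of_mul_eq_mul_left (by norm_num) h1
  -- `R` inside `G`
  let R' : Subgroup G := R.map M.subtype
  have hR'card : Nat.card R' = Nat.card T := by
    rw [← hRcard]
    exact Subgroup.card_map_of_injective M.subtype_injective
  have hRodd : Odd (Nat.card R') := by
    rw [hR'card]
    exact (Nat.coprime_two_right.1 hTodd)
  -- decomposition of elements of `M`
  have hdecomp : ∀ x ∈ M, ∃ n ∈ W, ∃ r ∈ R', x = n * r := by
    intro x hx
    obtain ⟨⟨⟨n, hn⟩, ⟨r, hr⟩⟩, e⟩ := (Subgroup.isComplement'_def.1 hR).2 ⟨x, hx⟩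
    refine ⟨(n : G), hn, (r : G), ⟨r, hr, rfl⟩, ?_⟩
    have := congrArg Subtype.val e
    simpa using this.symm
  have hWelt : ∀ n ∈ W, n * n = 1 ∧ ∀ g : G, g * n = n * g := by
    intro n hn
    rw [hW] at hn
    obtain ⟨k, rfl⟩ := Subgroup.mem_zpowers_iff.1 hn
    constructor
    · have hww : w * w = 1 := mul_self_of_order hw
      rw [← zpow_add, ← two_mul, zpow_mul]
      have : w ^ (2 : ℤ) = 1 := by
        rw [show (2 : ℤ) = ((2 : ℕ) : ℤ) from rfl, zpow_natCast, sq, hww]
      rw [this, one_zpow]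
    · intro g
      exact ((Commute.zpow_right (hwc g) k))
  -- odd elements of `M` lie in `R'`
  have hRchar : ∀ x ∈ M, Odd (orderOf x) → x ∈ R' := by
    intro x hx hodd
    obtain ⟨n, hn, r, hr, rfl⟩ := hdecomp x hx
    obtain ⟨hnn, hnc⟩ := hWelt n hn
    have hrodd := odd_orderOf_of_mem hRodd hr
    -- `n = (n r) r⁻¹` has odd order
    have hc : Commute (n * r) r⁻¹ := by
      apply Commute.inv_right
      exact Commute.mul_left (hnc r).symm (Commute.refl r)
    have h1 : Odd (orderOf ((n * r) * r⁻¹)) := by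
      have h2 : orderOf ((n * r) * r⁻¹) ∣ orderOf (n * r) * orderOf r⁻¹ := hc.orderOf_mul_dvd_mul_orderOf
      rw [orderOf_inv] at h2
      exact Odd.of_dvd_nat (hodd.mul hrodd) h2
    have h3 : (n * r) * r⁻¹ = n := by group
    rw [h3] at h1
    have h4 := eq_one_of_odd_of_mul_self h1 hnn
    rw [h4, one_mul]
    exact hr
  have hR'M : R' ≤ M := Subgroup.map_subtype_le _
  have hR'n : R'.Normal := by
    constructor
    intro x hx g
    apply hRchar
    · exact hMn.conj_mem x (hR'M hx) g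
    · rw [orderOf_conj_eq]
      exact odd_orderOf_of_mem hRodd hx
  have hR'bot : R' = ⊥ := by
    rw [eq_bot_iff, ← hcore]
    apply le_pPrimeCore hR'n
    rw [Nat.coprime_two_right]
    exact hRodd
  have hTcard : Nat.card T = 1 := by
    rw [← hR'card, hR'bot]
    simp
  exact Subgroup.card_eq_one.1 hTcard

/-- Modulo a central involution: the inductive step. -/
theorem central_step (IH : ∀ (X : Type u) [Group X] [Finite X], Nat.card X < Nat.card G →
      ∀ K : Subgroup X, IsPGroup 2 K → IsMulCommutative K → NilClosed K → Concl K)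
    (hcore : pPrimeCore 2 G = ⊥) {w : G} (hwc : ∀ g : G, g * w = w * g) (hw : orderOf w = 2)
    {K : Subgroup G} (hK2 : IsPGroup 2 K) (hKab : IsMulCommutative K) (hKc : NilClosed K) :
    ∀ g : G, ∀ k ∈ K, g * k * g⁻¹ ∈ K := by
  haveI : Fact (Nat.Prime 2) := ⟨Nat.prime_two⟩
  set W : Subgroup G := Subgroup.zpowers w with hWd
  haveI hWn : W.Normal := by
    constructor
    intro n hn g
    obtain ⟨j, rfl⟩ := Subgroup.mem_zpowers_iff.1 hn
    have : g * w ^ j * g⁻¹ = w ^ j := by
      have h2 : Commute g (w ^ j) := Commute.zpow_right (hwc g) j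
      rw [h2.eq, mul_inv_cancel_right]
    rw [this]
    exact hn
  have hcardW : Nat.card W = 2 := by
    rw [hWd, Nat.card_zpowers, hw]
  have hWodd : IsPGroup 2 W := by
    rw [IsPGroup.iff_card]
    exact ⟨1, by rw [hcardW]; norm_num⟩
  have hcq := core_quot_central hcore hwc hw W hWd
  have hlt : Nat.card (G ⧸ W) < Nat.card G := by
    have h1 := Subgroup.card_mul_index W
    rw [hcardW] at h1
    have h6 : Nat.card (G ⧸ W) = W.index := rfl
    have hG : 0 < Nat.card G := Nat.card_pos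
    rw [h6]
    omega
  let π := QuotientGroup.mk' W
  have hπ : Function.Surjective π := QuotientGroup.mk'_surjective W
  have hC := IH (G ⧸ W) hlt (K.map π) (hK2.map π) (by
    constructor
    constructor
    rintro ⟨_, a, ha, rfl⟩ ⟨_, b, hb, rfl⟩
    apply Subtype.ext
    have := hKab.is_comm.comm ⟨a, ha⟩ ⟨b, hb⟩
    have h2 := congrArg Subtype.val this
    simp only [Subgroup.coe_mul] at h2 ⊢
    rw [← map_mul, ← map_mul, h2]) (hKc.map π hπ)
  intro g k hk
  obtain ⟨_, ⟨a, ha, rfl⟩, τ, hτ, e⟩ := hC (π g) (π k) ⟨k, hk, rfl⟩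
  rw [hcq, Subgroup.mem_bot] at hτ
  rw [hτ, mul_one] at e
  have h1 : π (a⁻¹ * (g * k * g⁻¹)) = 1 := by
    rw [map_mul, map_inv, map_mul, map_mul, map_inv, e]
    simp
  have h2 : a⁻¹ * (g * k * g⁻¹) ∈ W := (QuotientGroup.eq_one_iff _).1 h1
  -- a `2`-group containing both
  have hle : W ≤ Subgroup.normalizer (K : Set G) := by
    intro x hx n
    obtain ⟨j, rfl⟩ := Subgroup.mem_zpowers_iff.1 hx
    have h3 : ∀ n : G, w ^ j * n * (w ^ j)⁻¹ = n := by
      intro n
      have h2 : Commute n (w ^ j) := Commute.zpow_right (hwc n) j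
      rw [← h2.eq, mul_inv_cancel_right]
    rw [h3]
  have hP : IsPGroup 2 (K ⊔ W : Subgroup G) := hK2.to_sup_of_normal_left' hWodd hle
  apply hKc.mem_of_pgroup hP le_sup_left hk
  have h4 : g * k * g⁻¹ = a * (a⁻¹ * (g * k * g⁻¹)) := by group
  rw [h4]
  exact Subgroup.mul_mem _ (Subgroup.mem_sup_left ha) (Subgroup.mem_sup_right h2)

/-- A nil-closed `2`-group normal in a normal subgroup is normal. -/
theorem normal_of_normal_in_normal {N K : Subgroup G} (hN : N.Normal) (hKN : K ≤ N)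
    (hKn : ∀ n ∈ N, ∀ k ∈ K, n * k * n⁻¹ ∈ K) (hK2 : IsPGroup 2 K) (hKc : NilClosed K) :
    ∀ g : G, ∀ k ∈ K, g * k * g⁻¹ ∈ K := by
  intro g k hk
  set y := g * k * g⁻¹ with hy
  have hyN : y ∈ N := hN.conj_mem k (hKN hk) g
  have hleZ : Subgroup.zpowers y ≤ Subgroup.normalizer (K : Set G) := by
    rw [Subgroup.zpowers_le]
    have : Finite K := inferInstance
    rw [Subgroup.mem_normalizer_iff]
    intro n
    constructor
    · intro hn
      exact hKn y hyN n hn
    · intro hn
      -- conjugation by `y` is injective on the finite set `K`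
      have hinj : Function.Injective (fun a : K => (⟨y * a * y⁻¹, hKn y hyN a a.2⟩ : K)) := by
        intro a b hab
        have := congrArg Subtype.val hab
        simp only [mul_left_inj, mul_right_inj] at this
        exact Subtype.ext this
      obtain ⟨a, ha⟩ := (Finite.injective_iff_surjective.1 hinj) ⟨_, hn⟩
      have h2 := congrArg Subtype.val ha
      simp only [mul_left_inj, mul_right_inj] at h2
      rw [← h2]
      exact a.2
  have hyP : IsPGroup 2 (Subgroup.zpowers y) := by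
    rw [isPGroup_iff_pow_pow_eq_one]
    obtain ⟨j, hj⟩ := hK2 ⟨k, hk⟩
    have hj' : k ^ (2 ^ j) = 1 := by
      have := congrArg Subtype.val hj
      simpa using this
    have hy2 : y ^ (2 ^ j) = 1 := by
      rw [hy]
      have : (g * k * g⁻¹) ^ (2 ^ j) = g * k ^ (2 ^ j) * g⁻¹ := by
        exact conj_pow
      rw [this, hj']
      group
    rintro ⟨x, hx⟩
    obtain ⟨i, rfl⟩ := Subgroup.mem_zpowers_iff.1 hx
    refine ⟨j, Subtype.ext ?_⟩
    simp only [Subgroup.coe_pow, Subgroup.coe_one]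
    rw [← zpow_natCast, ← zpow_mul, mul_comm, zpow_mul, zpow_natCast, hy2, one_zpow]
  have hP := hK2.to_sup_of_normal_left' hyP hleZ
  exact hKc.mem_of_pgroup hP le_sup_left hk
    (Subgroup.mem_sup_right (Subgroup.mem_zpowers y))

end Central

section Key

variable {G : Type u} [Group G] [Finite G]

/-- The inductive hypothesis in the centralizer of `w`. -/
theorem hC_of_IH (IH : ∀ (X : Type u) [Group X] [Finite X], Nat.card X < Nat.card G →
      ∀ K : Subgroup X, IsPGroup 2 K → IsMulCommutative K → NilClosed K → Concl K)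
    {w : G} (hlt : Nat.card (Subgroup.centralizer ({w} : Set G)) < Nat.card G)
    {A₁ : Subgroup G} (hA₁2 : IsPGroup 2 A₁) (hA₁c : ∀ a ∈ A₁, ∀ b ∈ A₁, a * b = b * a)
    (hA₁n : NilClosed A₁) (hle : A₁ ≤ Subgroup.centralizer ({w} : Set G)) :
    ∀ c ∈ Subgroup.centralizer ({w} : Set G), ∀ x ∈ A₁, ∃ x' ∈ A₁, ∃ τ ∈ centralizerPPrimeCore 2 w,
      c * x * c⁻¹ = x' * τ := by
  intro c hc x hx
  set C := Subgroup.centralizer ({w} : Set G) with hCd
  have h1 := IH (↥C) hlt (A₁.subgroupOf C) (hA₁2.comap_of_injective C.subtype C.subtype_injective) (by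
      constructor
      constructor
      rintro ⟨a, ha⟩ ⟨b, hb⟩
      apply Subtype.ext
      apply Subtype.ext
      exact hA₁c _ ha _ hb) (hA₁n.subgroupOf hle)
  obtain ⟨x', hx', τ, hτ, e⟩ := h1 ⟨c, hc⟩ ⟨x, hle hx⟩ (Subgroup.mem_subgroupOf.2 hx)
  refine ⟨(x' : G), Subgroup.mem_subgroupOf.1 hx', (τ : G), ⟨τ, hτ, rfl⟩, ?_⟩
  exact congrArg Subtype.val e

/-- Values of characters in the principal block at `t y`. -/
theorem key_identity {M : Ideal AlgInt} (hM : IsPModular 2 M) {A : Subgroup G} (hA2 : IsPGroup 2 A)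
    (hAc : ∀ a ∈ A, ∀ b ∈ A, a * b = b * a) (hAe : ∀ a ∈ A, a * a = 1) (hAn : NilClosed A)
    (hC : ∀ w : G, w * w = 1 → w ≠ 1 → ∀ A₁ : Subgroup G, IsPGroup 2 A₁ →
      (∀ a ∈ A₁, ∀ b ∈ A₁, a * b = b * a) → NilClosed A₁ → A₁ ≤ Subgroup.centralizer ({w} : Set G) →
      ∀ c ∈ Subgroup.centralizer ({w} : Set G), ∀ x ∈ A₁, ∃ x' ∈ A₁, ∃ τ ∈ centralizerPPrimeCore 2 w,
        c * x * c⁻¹ = x' * τ)
    {O : Subgroup G} (hO : Odd (Nat.card O)) (hn : ∀ a ∈ A, ∀ o ∈ O, a * o * a⁻¹ ∈ O)
    {a o y : G} (ha : a ∈ A) (ho : o ∈ O) (hy : y = a * o) (hyy : y * y = 1) (hy1 : y ≠ 1)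
    (hyc : ∃ g : G, ∃ k ∈ A, y = g * k * g⁻¹) {t : G} (ht : t ∈ A) (hta : t ≠ a)
    (χ : IrrCharacter G) (hχ : χ ∈ principalBlock M G) :
    (χ : G → ℂ) (t * y) = (χ : G → ℂ) (t * a) := by
  haveI : Fact (Nat.Prime 2) := ⟨Nat.prime_two⟩
  set b := t * a with hbd
  have hb : b ∈ A := A.mul_mem ht ha
  have hbb : b * b = 1 := hAe b hb
  have htt := hAe t ht
  have haa := hAe a ha
  have hb1 : b ≠ 1 := by
    intro h1
    have h2 : t = a⁻¹ := eq_inv_of_mul_eq_one_left h1
    rw [inv_eq_of_mul_eq_one_left haa] at h2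
    exact hta h2
  have hb_o : b * o = t * y := by rw [hy, hbd]; group
  obtain ⟨w, s, r, hww, hw1, e, hs, hwr, hodd⟩ := struct_mul hO hn hb hbb hb1 ho
  rw [hb_o] at e hwr
  have hwi : w⁻¹ = w := inv_eq_of_mul_eq_one_left hww
  have hti : t⁻¹ = t := inv_eq_of_mul_eq_one_left htt
  have hyi : y⁻¹ = y := inv_eq_of_mul_eq_one_left hyy
  have hwt : t * w = w * t := by
    have h1 := conj_pow_mul htt hyy r
    rw [← hwr, hwi] at h1
    calc t * w = (t * w * t) * t := by rw [mul_assoc, mul_assoc, htt, mul_one]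
      _ = w * t := by rw [h1]
  have hwy : y * w = w * y := by
    have h1 := conj_pow_mul' htt hyy r
    rw [← hwr, hwi] at h1
    calc y * w = (y * w * y) * y := by rw [mul_assoc, mul_assoc, hyy, mul_one]
      _ = w * y := by rw [h1]
  have hbw : IsConj b w := isConj_of_odd_mul hbb hww hodd
  obtain ⟨cw, hcw⟩ := isConj_iff.1 hbw
  obtain ⟨h₁, ⟨k₁, hk₁, et⟩, ⟨k₁', hk₁', ew₁⟩⟩ := exists_common_conj_pair hAn hA2 htt hww hwt
    ⟨1, t, ht, by simp⟩ ⟨cw, b, hb, hcw.symm⟩
  obtain ⟨h₂, ⟨k₂, hk₂, ey⟩, ⟨k₂', hk₂', ew₂⟩⟩ := exists_common_conj_pair hAn hA2 hyy hww hwy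
    hyc ⟨cw, b, hb, hcw.symm⟩
  set A₁ := A.map (MulAut.conj h₁).toMonoidHom with hA₁d
  have hmemA₁ : ∀ k ∈ A, h₁ * k * h₁⁻¹ ∈ A₁ := fun k hk => ⟨k, hk, by simp [MulAut.conj_apply]⟩
  have hA₁n : NilClosed A₁ := hAn.conj h₁
  have hA₁2 : IsPGroup 2 A₁ := hA2.map _
  have hA₁c : ∀ x ∈ A₁, ∀ x' ∈ A₁, x * x' = x' * x := by
    rintro _ ⟨p, hp, rfl⟩ _ ⟨q, hq, rfl⟩
    simp only [MulEquiv.coe_toMonoidHom, ← map_mul]
    rw [hAc p hp q hq]
  have hA₁e : ∀ x ∈ A₁, x * x = 1 := by
    rintro _ ⟨p, hp, rfl⟩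
    simp only [MulEquiv.coe_toMonoidHom, ← map_mul]
    rw [hAe p hp, map_one]
  have htA₁ : t ∈ A₁ := by rw [et]; exact hmemA₁ _ hk₁
  have hwA₁ : w ∈ A₁ := by rw [ew₁]; exact hmemA₁ _ hk₁'
  have hA₁C : A₁ ≤ Subgroup.centralizer ({w} : Set G) := by
    intro x hx
    rw [Subgroup.mem_centralizer_singleton_iff]
    exact hA₁c x hx w hwA₁
  -- `y` as the conjugate of an element of `A₁`
  obtain ⟨O₁, hO₁, hn₁, hm₁⟩ := hA₁n (h₂ * h₁⁻¹)
  obtain ⟨x₁, hx₁, o₁, ho₁, e₁⟩ := hm₁ (h₁ * k₂ * h₁⁻¹) (hmemA₁ _ hk₂)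
  have e₁' : y = x₁ * o₁ := by
    rw [← e₁, ey]
    group
  obtain ⟨hx₁x₁, -, hoddx, -⟩ := retract_facts hO₁ hn₁ hA₁2 hx₁ ho₁ e₁' hyy hy1
  have hm : midpoint x₁ y * x₁ * midpoint x₁ y = y := midpoint_conj hx₁x₁ hyy hoddx
  have hmm : midpoint x₁ y * midpoint x₁ y = 1 := midpoint_mul_self hx₁x₁ hyy
  have hmC : midpoint x₁ y ∈ Subgroup.centralizer ({w} : Set G) := by
    rw [Subgroup.mem_centralizer_singleton_iff]
    exact (midpoint_comm (hA₁c w hwA₁ x₁ hx₁) hwy.symm).symm
  obtain ⟨x', hx', τ, hτ, e₂⟩ := hC w hww hw1 A₁ hA₁2 hA₁c hA₁n hA₁C _ hmC x₁ hx₁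
  have e₃ : y = x' * τ := by
    rw [← e₂, inv_eq_of_mul_eq_one_left hmm, hm]
  -- `s`
  set a₃ := w⁻¹ * t * x' with ha₃d
  have ha₃ : a₃ ∈ A₁ := A₁.mul_mem (A₁.mul_mem (A₁.inv_mem hwA₁) htA₁) hx'
  have ha₃a₃ : a₃ * a₃ = 1 := hA₁e a₃ ha₃
  have e₄ : s = a₃ * τ := by
    have h1 : w * s = t * (x' * τ) := by rw [← e, ← e₃]
    calc s = w⁻¹ * (w * s) := by group
      _ = w⁻¹ * (t * (x' * τ)) := by rw [h1]
      _ = a₃ * τ := by rw [ha₃d]; group
  have hT : Odd (Nat.card (centralizerPPrimeCore 2 w)) := by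
    unfold centralizerPPrimeCore
    rw [Subgroup.card_map_of_injective (Subgroup.subtype_injective _)]
    exact Nat.coprime_two_right.1 (card_pPrimeCore_coprime 2)
  have hTn : ∀ x ∈ A₁, ∀ τ ∈ centralizerPPrimeCore 2 w, x * τ * x⁻¹ ∈ centralizerPPrimeCore 2 w := by
    rintro x hx _ ⟨τ, hτ, rfl⟩
    refine ⟨⟨x, hA₁C hx⟩ * τ * ⟨x, hA₁C hx⟩⁻¹, ?_, by simp⟩
    have hnorm : (pPrimeCore 2 (↥(Subgroup.centralizer ({w} : Set G)))).Normal := inferInstance
    exact hnorm.conj_mem τ hτ _
  have ha₃1 : a₃ = 1 := by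
    apply eq_one_of_odd_mul hT hTn ha₃ ha₃a₃ hτ
    rw [← e₄]
    exact odd_orderOf_of_mem hO hs
  have hsτ : s = τ := by rw [e₄, ha₃1, one_mul]
  have hwo : orderOf w = 2 := order_of_mul_self hww hw1
  have h1 := Cfsg.Agent.S0942.result 2 M hM w ⟨1, by rw [hwo]; rfl⟩ s (by rw [hsτ]; exact hτ) χ hχ
  rw [e, h1]
  exact (NilClosedChar.char_eq_of_isConj (CharBasic.IsIrrCharacter.isCharacter χ.2) hbw).symm

end Key

section MainA

variable {G : Type u} [Group G] [Finite G]

/-- The odd core of a normal subgroup, when the odd core of the group is trivial. -/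
theorem core_normal_bot (hcore : pPrimeCore 2 G = ⊥) (N : Subgroup G) [N.Normal] :
    pPrimeCore 2 N = ⊥ := by
  have h := map_pPrimeCore_of_normal (G := G) 2 N
  rw [hcore, inf_bot_eq] at h
  exact (Subgroup.map_eq_bot_iff_of_injective _ N.subtype_injective).1 h

/-- Nil-closed abelian `2`-subgroups of a proper normal subgroup are normal. -/
theorem normal_in_of_IH (IH : ∀ (X : Type u) [Group X] [Finite X], Nat.card X < Nat.card G →
      ∀ K : Subgroup X, IsPGroup 2 K → IsMulCommutative K → NilClosed K → Concl K)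
    (hcore : pPrimeCore 2 G = ⊥) {N : Subgroup G} [hN : N.Normal] (hlt : Nat.card N < Nat.card G)
    {K : Subgroup G} (hKN : K ≤ N) (hK2 : IsPGroup 2 K) (hKc : ∀ a ∈ K, ∀ b ∈ K, a * b = b * a)
    (hKn : NilClosed K) : ∀ g : G, ∀ k ∈ K, g * k * g⁻¹ ∈ K := by
  have h1 := IH (↥N) hlt (K.subgroupOf N) (hK2.comap_of_injective N.subtype N.subtype_injective) (by
      constructor
      constructor
      rintro ⟨a, ha⟩ ⟨b, hb⟩
      apply Subtype.ext
      apply Subtype.ext
      exact hKc _ ha _ hb) (hKn.subgroupOf hKN)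
  have hcoreN := core_normal_bot hcore N
  apply normal_of_normal_in_normal hN hKN ?_ hK2 hKn
  intro n hn k hk
  obtain ⟨a, ha, τ, hτ, e⟩ := h1 ⟨n, hn⟩ ⟨k, hKN hk⟩ (Subgroup.mem_subgroupOf.2 hk)
  rw [hcoreN, Subgroup.mem_bot] at hτ
  rw [hτ, mul_one] at e
  have h2 := congrArg Subtype.val e
  simp only [Subgroup.coe_mul, InvMemClass.coe_inv] at h2
  rw [h2]
  exact Subgroup.mem_subgroupOf.1 ha

/-- The generators of `genA` form a small set when `W` has two elements. -/
theorem hgen_of_two {K : Subgroup G} {z z' : G} (hz : z * z = 1) (hz' : z' * z' = 1)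
    (hc : z * z' = z' * z) (hW : ∀ t ∈ K, IsConj z t → t = z ∨ t = z')
    (hinv : ∀ t ∈ genA K z, t * t = 1) :
    ∀ t ∈ genA K z, t = 1 ∨ t = z ∨ t = z' ∨ t = z * z' := by
  have h4 : z * (z * z') = z' := by rw [← mul_assoc, hz, one_mul]
  have h5 : z' * (z * z') = z := by rw [hc, ← mul_assoc, hz', one_mul]
  have h6 : (z * z') * z = z' := by rw [hc, mul_assoc, hz, mul_one]
  have h7 : (z * z') * z' = z := by rw [mul_assoc, hz', mul_one]
  have h8 : (z * z') * (z * z') = 1 := by rw [← mul_assoc, h6, hz']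
  intro t ht
  induction ht using Subgroup.closure_induction with
  | mem u hu =>
    rcases hW u hu.1 hu.2 with h | h
    · exact Or.inr (Or.inl h)
    · exact Or.inr (Or.inr (Or.inl h))
  | one => exact Or.inl rfl
  | mul x y hx' hy' hx hy =>
    rcases hx with rfl | rfl | rfl | rfl <;> rcases hy with rfl | rfl | rfl | rfl <;>
      simp [hz, hz', hc.symm, h4, h5, h6, h7, h8]
  | inv x hx' hx =>
    rw [inv_eq_of_mul_eq_one_left (hinv x hx')]
    exact hx

end MainA

section MainB

variable {G : Type u} [Group G] [Finite G]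

theorem card_normalClosure_lt {N : Subgroup G} (h : N ≠ ⊤) : Nat.card N < Nat.card G := by
  have h1 : Nat.card N ∣ Nat.card G := Subgroup.card_subgroup_dvd_card N
  have h2 : Nat.card N ≠ Nat.card G := by
    intro h3
    exact h ((Subgroup.card_eq_iff_eq_top N).1 h3)
  exact lt_of_le_of_ne (Nat.le_of_dvd Nat.card_pos h1) h2

/-- The main case: the generated subgroup is normal. -/
theorem main_A (IH : ∀ (X : Type u) [Group X] [Finite X], Nat.card X < Nat.card G →
      ∀ K : Subgroup X, IsPGroup 2 K → IsMulCommutative K → NilClosed K → Concl K)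
    (hcore : pPrimeCore 2 G = ⊥) {H : Subgroup G} (hH2 : IsPGroup 2 H)
    (hHc : ∀ a ∈ H, ∀ b ∈ H, a * b = b * a) (hHn : NilClosed H) {z : G} (hzH : z ∈ H)
    (hz : orderOf z = 2) : ∀ g : G, ∀ a ∈ genA H z, g * a * g⁻¹ ∈ genA H z := by
  classical
  haveI : Fintype G := Fintype.ofFinite G
  haveI : Fact (Nat.Prime 2) := ⟨Nat.prime_two⟩
  set A := genA H z with hAd
  have hzz := mul_self_of_order hz
  have hz1 := ne_one_of_order hz
  have hAH : A ≤ H := genA_le H z
  have hzA : z ∈ A := mem_genA hzH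
  have hA2 : IsPGroup 2 A := hH2.to_le hAH
  have hAc : ∀ a ∈ A, ∀ b ∈ A, a * b = b * a := fun a ha b hb => hHc a (hAH ha) b (hAH hb)
  have hAe : ∀ a ∈ A, a * a = 1 := genA_exp hHc hzz
  have hAn : NilClosed A := nilClosed_genA hHn hH2 hzz hz1
  have hAab : IsMulCommutative A := by
    constructor
    constructor
    rintro ⟨a, ha⟩ ⟨b, hb⟩
    exact Subtype.ext (hAc a ha b hb)
  by_cases hL : Subgroup.normalClosure ({z} : Set G) = ⊤
  · by_cases hcen : ∃ w : G, orderOf w = 2 ∧ ∀ g : G, g * w = w * g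
    · obtain ⟨w, hw, hwc⟩ := hcen
      exact central_step IH hcore hwc hw hA2 hAab hAn
    · exfalso
      push Not at hcen
      have hlt : ∀ w : G, w * w = 1 → w ≠ 1 →
          Nat.card (Subgroup.centralizer ({w} : Set G)) < Nat.card G := by
        intro w hww hw1
        apply card_normalClosure_lt
        intro htop
        obtain ⟨g, hg⟩ := hcen w (order_of_mul_self hww hw1)
        apply hg
        have : g ∈ Subgroup.centralizer ({w} : Set G) := by rw [htop]; trivial
        exact (Subgroup.mem_centralizer_singleton_iff.1 this).symm ▸ rfl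
      have hC : ∀ w : G, w * w = 1 → w ≠ 1 → ∀ A₁ : Subgroup G, IsPGroup 2 A₁ →
          (∀ a ∈ A₁, ∀ b ∈ A₁, a * b = b * a) → NilClosed A₁ →
          A₁ ≤ Subgroup.centralizer ({w} : Set G) →
          ∀ c ∈ Subgroup.centralizer ({w} : Set G), ∀ x ∈ A₁, ∃ x' ∈ A₁,
            ∃ τ ∈ centralizerPPrimeCore 2 w, c * x * c⁻¹ = x' * τ :=
        fun w hww hw1 A₁ h1 h2 h3 h4 => hC_of_IH IH (hlt w hww hw1) h1 h2 h3 h4
      obtain ⟨M, hM⟩ := BlockVal.exists_isPModular Nat.prime_two
      have hπ0 : ∀ g : G, ∃ a ∈ A, ∃ O : Subgroup G, Odd (Nat.card O) ∧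
          (∀ a ∈ A, ∀ o ∈ O, a * o * a⁻¹ ∈ O) ∧ ∃ o ∈ O, g * z * g⁻¹ = a * o := by
        intro g
        obtain ⟨O, hO, hn, hm⟩ := hAn g
        obtain ⟨a, ha, o, ho, e⟩ := hm z hzA
        exact ⟨a, ha, O, hO, hn, o, ho, e⟩
      choose π hπA O hO hOn o ho he using hπ0
      have hyy : ∀ g : G, (g * z * g⁻¹) * (g * z * g⁻¹) = 1 := fun g =>
        mul_self_of_isConj hzz (isConj_iff.2 ⟨g, rfl⟩)
      have hy1 : ∀ g : G, g * z * g⁻¹ ≠ 1 := by
        intro g h1
        have h2 : IsConj z (g * z * g⁻¹) := isConj_iff.2 ⟨g, rfl⟩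
        rw [h1] at h2
        exact hz1 (isConj_one_right.1 h2.symm)
      have hfacts := fun g => retract_facts (hO g) (hOn g) hA2 (hπA g) (ho g) (he g) (hyy g) (hy1 g)
      have hπc : ∀ g, IsConj z (π g) := fun g =>
        (isConj_iff.2 ⟨g, rfl⟩).trans (hfacts g).2.2.2.symm
      have hπo : ∀ g, Odd (orderOf (π g * (g * z * g⁻¹))) := fun g => (hfacts g).2.2.1
      have hKey : ∀ χ ∈ principalBlock M G, ∀ g, ∀ t ∈ A, t ≠ π g →
          (χ : G → ℂ) (t * (g * z * g⁻¹)) = (χ : G → ℂ) (t * π g) := by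
        intro χ hχ g t ht htπ
        exact key_identity hM hA2 hAc hAe hAn hC (hO g) (hOn g) (hπA g) (ho g) (he g) (hyy g) (hy1 g)
          ⟨g, z, hzA, rfl⟩ ht htπ χ hχ
      set AF : Finset G := Finset.univ.filter (· ∈ A) with hAFd
      have hAF : ∀ t, t ∈ AF ↔ t ∈ A := by
        intro t
        simp [hAFd]
      set W := AF.filter (fun t => IsConj z t) with hWd
      have hzW : z ∈ W := by
        rw [hWd, Finset.mem_filter]
        exact ⟨(hAF z).2 hzA, IsConj.refl z⟩
      have hWpos : 0 < W.card := Finset.card_pos.2 ⟨z, hzW⟩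
      have hcases : W.card = 1 ∨ W.card = 2 ∨ 3 ≤ W.card := by omega
      rcases hcases with h1 | h2 | h3
      · -- `z` is isolated
        obtain ⟨u, hu⟩ := Finset.card_eq_one.1 h1
        have hWz : ∀ t ∈ A, IsConj z t → t = z := by
          intro t ht htc
          have h5 : t ∈ W := by
            rw [hWd, Finset.mem_filter]
            exact ⟨(hAF t).2 ht, htc⟩
          rw [hu, Finset.mem_singleton] at h5 hzW
          rw [h5, hzW]
        have hiso : IsIsolatedInvolution z := by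
          refine ⟨hz, ?_⟩
          intro g hg
          obtain ⟨h, ⟨k₁, hk₁, e₁⟩, ⟨k₂, hk₂, e₂⟩⟩ := exists_common_conj_pair hAn hA2 hzz (hyy g) hg
            ⟨1, z, hzA, by simp⟩ ⟨g, z, hzA, rfl⟩
          have h6 : k₁ = z := hWz k₁ hk₁ (by
            rw [isConj_comm, isConj_iff]
            exact ⟨h, e₁.symm⟩)
          have h7 : k₂ = z := hWz k₂ hk₂ (by
            have h8 : IsConj k₂ (g * z * g⁻¹) := isConj_iff.2 ⟨h, e₂.symm⟩
            have h9 : IsConj z (g * z * g⁻¹) := isConj_iff.2 ⟨g, rfl⟩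
            exact h9.trans h8.symm)
          calc g * z * g⁻¹ = h * k₂ * h⁻¹ := e₂
            _ = h * k₁ * h⁻¹ := by rw [h6, h7]
            _ = z := e₁.symm
        have hstar := ZStar.zstar hiso
        obtain ⟨g, hg⟩ := hcen z hz
        apply hg
        have h5 := hstar g
        rw [hcore, Subgroup.mem_bot] at h5
        have h6 : g * z * g⁻¹ = z := by
          rw [mul_inv_eq_one] at h5
          exact h5
        calc g * z = g * z * g⁻¹ * g := by group
          _ = z * g := by rw [h6]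
      · -- exactly two
        obtain ⟨u, v, huv, hW⟩ := Finset.card_eq_two.1 h2
        have hWmem : ∀ t ∈ A, IsConj z t → t = u ∨ t = v := by
          intro t ht htc
          have h5 : t ∈ W := by
            rw [hWd, Finset.mem_filter]
            exact ⟨(hAF t).2 ht, htc⟩
          rw [hW] at h5
          simpa using h5
        have hWmem' : ∀ t ∈ W, t = u ∨ t = v := by
          intro t ht
          rw [hW] at ht
          simpa using ht
        have hWfacts : ∀ t ∈ W, t ∈ A ∧ IsConj z t := by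
          intro t ht
          rw [hWd, Finset.mem_filter] at ht
          exact ⟨(hAF t).1 ht.1, ht.2⟩
        -- the other conjugate
        obtain ⟨z', hz'W, hne, hWz⟩ : ∃ z' ∈ W, z' ≠ z ∧ ∀ t ∈ A, IsConj z t → t = z ∨ t = z' := by
          have huW : u ∈ W := by rw [hW]; simp
          have hvW : v ∈ W := by rw [hW]; simp
          rcases hWmem' z hzW with rfl | rfl
          · refine ⟨v, hvW, huv.symm, ?_⟩
            exact hWmem
          · refine ⟨u, huW, huv, ?_⟩
            intro t ht htc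
            exact (hWmem t ht htc).symm
        obtain ⟨hz'A, hzc⟩ := hWfacts z' hz'W
        have hz'z' := hAe z' hz'A
        have hgen := hgen_of_two (K := H) hzz hz'z' (hAc z hzA z' hz'A)
          (fun t ht htc => hWz t (Subgroup.subset_closure ⟨ht, htc⟩) htc) hAe
        exact NilClosedChar.false_of_two hM hAF hzA hz hAe hAc hL hπA hπc hπo hKey hz'A hne hzc hgen hWz
      · exact NilClosedChar.false_of_three hM hAF hzA hz hAe hAc hL hπA hπc hπo hKey h3
  · -- a proper normal subgroup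
    haveI hLn : (Subgroup.normalClosure ({z} : Set G)).Normal := Subgroup.normalClosure_normal
    have hAL : A ≤ Subgroup.normalClosure ({z} : Set G) := by
      rw [hAd, genA, Subgroup.closure_le]
      rintro u ⟨-, hu⟩
      obtain ⟨c, rfl⟩ := isConj_iff.1 hu
      exact hLn.conj_mem z (Subgroup.subset_normalClosure rfl) c
    exact normal_in_of_IH IH hcore (card_normalClosure_lt hL) hAL hA2 hAc hAn

/-- The normality of `H` when the odd core is trivial. -/
theorem normal_H (IH : ∀ (X : Type u) [Group X] [Finite X], Nat.card X < Nat.card G →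
      ∀ K : Subgroup X, IsPGroup 2 K → IsMulCommutative K → NilClosed K → Concl K)
    (hcore : pPrimeCore 2 G = ⊥) {H : Subgroup G} (hH2 : IsPGroup 2 H)
    (hHab : IsMulCommutative H) (hHn : NilClosed H) {z : G} (hzH : z ∈ H)
    (hz : orderOf z = 2) : ∀ g : G, ∀ a ∈ H, g * a * g⁻¹ ∈ H := by
  have hHc : ∀ a ∈ H, ∀ b ∈ H, a * b = b * a := by
    intro a ha b hb
    have := hHab.is_comm.comm ⟨a, ha⟩ ⟨b, hb⟩
    exact congrArg Subtype.val this
  have hA := main_A IH hcore hH2 hHc hHn hzH hz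
  set A := genA H z with hAd
  have hAn : A.Normal := ⟨fun a ha g => hA g a ha⟩
  have hzA : z ∈ A := mem_genA hzH
  set C := Subgroup.centralizer (A : Set G) with hCd
  haveI hCn : C.Normal := Subgroup.normal_centralizer
  have hHC : H ≤ C := by
    intro x hx
    rw [hCd, Subgroup.mem_centralizer_iff]
    intro a ha
    exact hHc a (genA_le H z ha) x hx
  by_cases hCt : C = ⊤
  · have hwc : ∀ g : G, g * z = z * g := by
      intro g
      have : g ∈ C := by rw [hCt]; trivial
      rw [hCd, Subgroup.mem_centralizer_iff] at this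
      exact (this z hzA).symm
    exact central_step IH hcore hwc hz hH2 hHab hHn
  · exact normal_in_of_IH IH hcore (card_normalClosure_lt hCt) hHC hH2 hHc hHn

/-- The main theorem on nil-closed abelian `2`-subgroups. -/
theorem main_aux : ∀ (n : ℕ) (G : Type u) [Group G] [Finite G], Nat.card G = n →
    ∀ K : Subgroup G, IsPGroup 2 K → IsMulCommutative K → NilClosed K → Concl K := by
  intro n
  induction n using Nat.strong_induction_on with
  | _ n ih =>
    intro G _ _ hn K hK2 hKab hKn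
    have IH : ∀ (X : Type u) [Group X] [Finite X], Nat.card X < Nat.card G →
        ∀ K : Subgroup X, IsPGroup 2 K → IsMulCommutative K → NilClosed K → Concl K := by
      intro X _ _ hX
      exact ih (Nat.card X) (by rw [← hn]; exact hX) X rfl
    haveI : Fact (Nat.Prime 2) := ⟨Nat.prime_two⟩
    by_cases hcore : pPrimeCore 2 G = ⊥
    · -- trivial core
      by_cases hKb : K = ⊥
      · intro g h hh
        rw [hKb, Subgroup.mem_bot] at hh
        refine ⟨1, Subgroup.one_mem _, 1, Subgroup.one_mem _, ?_⟩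
        rw [hh]
        group
      · -- an involution in `K`
        have hdvd : 2 ∣ Nat.card K := by
          obtain ⟨k, hk⟩ := IsPGroup.iff_card.1 hK2
          rw [hk]
          have hk0 : k ≠ 0 := by
            rintro rfl
            rw [pow_zero] at hk
            exact hKb (Subgroup.card_eq_one.1 hk)
          exact dvd_pow_self 2 hk0
        obtain ⟨x, hx⟩ := exists_prime_orderOf_dvd_card' 2 hdvd
        have hz : orderOf (x : G) = 2 := by
          rw [← hx]
          exact Subgroup.orderOf_coe x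
        have hN := normal_H IH hcore hK2 hKab hKn x.2 hz
        intro g h hh
        exact ⟨g * h * g⁻¹, hN g h hh, 1, Subgroup.one_mem _, by rw [mul_one]⟩
    · -- nontrivial core
      set O := pPrimeCore 2 G with hOd
      have hlt : Nat.card (G ⧸ O) < Nat.card G := by
        have h1 := Subgroup.card_mul_index O
        have h6 : Nat.card (G ⧸ O) = O.index := rfl
        have hG : 0 < Nat.card G := Nat.card_pos
        rw [h6]
        have h2 : 1 < Nat.card O := by
          have : Nat.card O ≠ 1 := fun h => hcore (Subgroup.card_eq_one.1 h)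
          have h3 : 0 < Nat.card O := Nat.card_pos
          omega
        have h3 : 0 < O.index := Nat.pos_of_ne_zero Subgroup.index_ne_zero_of_finite
        nlinarith
      let π := QuotientGroup.mk' O
      have hπ : Function.Surjective π := QuotientGroup.mk'_surjective O
      have hC := IH (G ⧸ O) hlt (K.map π) (hK2.map π) (by
        constructor
        constructor
        rintro ⟨_, a, ha, rfl⟩ ⟨_, b, hb, rfl⟩
        apply Subtype.ext
        have := hKab.is_comm.comm ⟨a, ha⟩ ⟨b, hb⟩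
        have h2 := congrArg Subtype.val this
        simp only [Subgroup.coe_mul] at h2 ⊢
        rw [← map_mul, ← map_mul, h2]) (hKn.map π hπ)
      intro g k hk
      obtain ⟨_, ⟨a, ha, rfl⟩, τ, hτ, e⟩ := hC (π g) (π k) ⟨k, hk, rfl⟩
      have hq : pPrimeCore 2 (G ⧸ O) = ⊥ := pPrimeCore_quotient_pPrimeCore 2
      rw [hq, Subgroup.mem_bot] at hτ
      rw [hτ, mul_one] at e
      have h1 : π (a⁻¹ * (g * k * g⁻¹)) = 1 := by
        rw [map_mul, map_inv, map_mul, map_mul, map_inv, e]
        simp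
      have h2 : a⁻¹ * (g * k * g⁻¹) ∈ O := (QuotientGroup.eq_one_iff _).1 h1
      exact ⟨a, ha, _, h2, by group⟩

theorem main {G : Type u} [Group G] [Finite G] {K : Subgroup G} (hK2 : IsPGroup 2 K)
    (hKab : IsMulCommutative K) (hKn : NilClosed K) : Concl K :=
  main_aux _ G rfl K hK2 hKab hKn

end MainB

section Final

variable {G : Type*} [Group G] [Finite G]

/-- Extremely closed abelian `2`-subgroups are nil-closed. -/
theorem nilClosed_of_extremelyClosed {H : Subgroup G} (hH2 : IsPGroup 2 H) (hHab : IsMulCommutative H)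
    (hcl : IsExtremelyClosed H) : NilClosed H := by
  haveI : Fact (Nat.Prime 2) := ⟨Nat.prime_two⟩
  have hHc : ∀ a ∈ H, ∀ b ∈ H, a * b = b * a := by
    intro a ha b hb
    have := hHab.is_comm.comm ⟨a, ha⟩ ⟨b, hb⟩
    exact congrArg Subtype.val this
  intro g
  set K := H ⊔ H.map (MulAut.conj g).toMonoidHom with hKd
  have hKN := hcl g
  rw [← hKd] at hKN
  have hHK : H ≤ K := le_sup_left
  have hKH : ∀ x ∈ K, x ∈ Subgroup.normalizer (H : Set G) → x ∈ H := by
    intro x hx hxn
    rw [← hKN]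
    exact ⟨hx, hxn⟩
  set H' : Subgroup K := H.subgroupOf K with hH'd
  have hH'2 : IsPGroup 2 H' := hH2.comap_of_injective K.subtype K.subtype_injective
  obtain ⟨P, hP⟩ := hH'2.exists_le_sylow
  have hmemP : ∀ (n : G) (hn : n ∈ H), (⟨n, hHK hn⟩ : K) ∈ (P : Subgroup K) := by
    intro n hn
    exact hP (Subgroup.mem_subgroupOf.2 hn)
  have hPeq : (P : Subgroup K) = H' := by
    by_contra hne
    have hlt : H' < P := lt_of_le_of_ne hP (Ne.symm hne)
    haveI : Group.IsNilpotent (P : Subgroup K) := P.isPGroup'.isNilpotent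
    let H'' : Subgroup (P : Subgroup K) := H'.subgroupOf (P : Subgroup K)
    have hne' : H'' ≠ ⊤ := by
      intro htop
      apply not_le_of_gt hlt
      intro x hx
      have h1 : (⟨x, hx⟩ : (P : Subgroup K)) ∈ H'' := by rw [htop]; trivial
      exact h1
    have hnc := Group.normalizerCondition_of_isNilpotent (G := (P : Subgroup K)) H'' (lt_top_iff_ne_top.2 hne')
    obtain ⟨x, hxN, hxH⟩ := SetLike.exists_of_lt hnc
    have hfwd : ∀ x : (P : Subgroup K), x ∈ Subgroup.normalizer (H'' : Set (P : Subgroup K)) →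
        ∀ n ∈ H, (x : G) * n * (x : G)⁻¹ ∈ H := by
      intro x hx n hn
      have h1 : (⟨⟨n, hHK hn⟩, hmemP n hn⟩ : (P : Subgroup K)) ∈ H'' := Subgroup.mem_subgroupOf.2 hn
      have h2 := (Subgroup.mem_normalizer_iff.1 hx _).1 h1
      exact h2
    have hxG : ((x : K) : G) ∈ Subgroup.normalizer (H : Set G) := by
      rw [Subgroup.mem_normalizer_iff]
      intro n
      constructor
      · exact hfwd x hxN n
      · intro h1
        have h2 := hfwd x⁻¹ (Subgroup.inv_mem _ hxN) _ h1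
        have h3 : ((x⁻¹ : (P : Subgroup K)) : G) * (((x : K) : G) * n * ((x : K) : G)⁻¹) *
            ((x⁻¹ : (P : Subgroup K)) : G)⁻¹ = n := by
          simp only [InvMemClass.coe_inv, inv_inv]
          group
        rw [h3] at h2
        exact h2
    exact hxH (hKH _ (x : K).2 hxG)
  have hPH : ∀ x : K, x ∈ (P : Subgroup K) → (x : G) ∈ H := by
    intro x hx
    rw [hPeq] at hx
    exact hx
  have hPn : Subgroup.normalizer ((P : Subgroup K) : Set K) ≤
      Subgroup.centralizer ((P : Subgroup K) : Set K) := by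
    intro x hx
    rw [Subgroup.mem_centralizer_iff]
    intro y hy
    have hxG : (x : G) ∈ Subgroup.normalizer (H : Set G) := by
      have hfwd : ∀ x : K, x ∈ Subgroup.normalizer ((P : Subgroup K) : Set K) →
          ∀ n ∈ H, (x : G) * n * (x : G)⁻¹ ∈ H := by
        intro x hx n hn
        have h2 := (Subgroup.mem_normalizer_iff.1 hx _).1 (hmemP n hn)
        exact hPH _ h2
      rw [Subgroup.mem_normalizer_iff]
      intro n
      constructor
      · exact hfwd x hx n
      · intro h1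
        have h2 := hfwd x⁻¹ (Subgroup.inv_mem _ hx) _ h1
        have h3 : ((x⁻¹ : K) : G) * ((x : G) * n * (x : G)⁻¹) * ((x⁻¹ : K) : G)⁻¹ = n := by
          simp only [InvMemClass.coe_inv, inv_inv]
          group
        rw [h3] at h2
        exact h2
    have hxH := hKH _ x.2 hxG
    apply Subtype.ext
    exact hHc _ (hPH y hy) _ hxH
  obtain ⟨N, hNnormal, hcomp⟩ : ∃ N : Subgroup K, N.Normal ∧ N.IsComplement' (P : Subgroup K) :=
    ⟨_, MonoidHom.normal_ker _, MonoidHom.ker_transferSylow_isComplement' P hPn⟩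
  have hNcard : Nat.card N = (P : Subgroup K).index := by
    have h1 := hcomp.card_mul_card
    have h2 := Subgroup.card_mul_index (P : Subgroup K)
    have hpos : 0 < Nat.card (P : Subgroup K) := Nat.card_pos
    apply Nat.eq_of_mul_eq_mul_left hpos
    rw [h2, ← h1, mul_comm]
  have hNodd : Odd (Nat.card N) := by
    rw [hNcard, ← Nat.not_even_iff_odd, even_iff_two_dvd]
    exact P.not_dvd_index
  refine ⟨N.map K.subtype, ?_, ?_, ?_⟩
  · rw [Subgroup.card_map_of_injective K.subtype_injective]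
    exact hNodd
  · rintro a ha _ ⟨o, ho, rfl⟩
    refine ⟨⟨a, hHK ha⟩ * o * ⟨a, hHK ha⟩⁻¹, hNnormal.conj_mem o ho _, by simp⟩
  · intro h hh
    have hy : g * h * g⁻¹ ∈ K := by
      apply Subgroup.mem_sup_right
      exact ⟨h, hh, by simp [MulAut.conj_apply]⟩
    obtain ⟨⟨⟨p, hp⟩, ⟨n, hn⟩⟩, e⟩ := (Subgroup.isComplement'_def.1 hcomp.symm).2 ⟨_, hy⟩
    refine ⟨(p : G), hPH p hp, (n : G), ⟨n, hn, rfl⟩, ?_⟩
    have := congrArg Subtype.val e
    simpa using this.symm

/-- The factorization from the main conclusion. -/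
theorem factorization_of_concl {H : Subgroup G} (hH2 : IsPGroup 2 H) (hC : Concl H) :
    Subgroup.normalizer (H : Set G) ⊔ pPrimeCore 2 G = ⊤ := by
  haveI : Fact (Nat.Prime 2) := ⟨Nat.prime_two⟩
  set T := pPrimeCore 2 G with hTd
  haveI hTn : T.Normal := inferInstance
  set X := H ⊔ T with hXd
  have hTodd : Odd (Nat.card T) := Nat.coprime_two_right.1 (card_pPrimeCore_coprime 2)
  haveI hXn : X.Normal := by
    constructor
    intro x hx g
    obtain ⟨a, ha, τ, hτ, rfl⟩ := Subgroup.mem_sup_of_normal_right.1 hx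
    obtain ⟨a', ha', τ', hτ', e⟩ := hC g a ha
    have h1 : g * (a * τ) * g⁻¹ = (g * a * g⁻¹) * (g * τ * g⁻¹) := by group
    rw [h1, e]
    exact X.mul_mem (X.mul_mem (Subgroup.mem_sup_left ha') (Subgroup.mem_sup_right hτ'))
      (Subgroup.mem_sup_right (hTn.conj_mem τ hτ g))
  have hHX : H ≤ X := le_sup_left
  have hH'2 : IsPGroup 2 (H.subgroupOf X) := hH2.comap_of_injective X.subtype X.subtype_injective
  obtain ⟨P, hP⟩ := hH'2.exists_le_sylow
  have hPH : ∀ x : X, x ∈ (P : Subgroup X) → (x : G) ∈ H := by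
    intro x hx
    obtain ⟨a, ha, τ, hτ, e⟩ := Subgroup.mem_sup_of_normal_right.1 x.2
    have haP : (⟨a, hHX ha⟩ : X) ∈ (P : Subgroup X) := hP (Subgroup.mem_subgroupOf.2 ha)
    have hτX : τ ∈ X := Subgroup.mem_sup_right hτ
    have hτP : (⟨τ, hτX⟩ : X) ∈ (P : Subgroup X) := by
      have h1 : (⟨τ, hτX⟩ : X) = (⟨a, hHX ha⟩ : X)⁻¹ * x := by
        apply Subtype.ext
        simp [← e]
      rw [h1]
      exact Subgroup.mul_mem _ (Subgroup.inv_mem _ haP) hx
    obtain ⟨k, hk⟩ := P.isPGroup' ⟨_, hτP⟩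
    have hk' : τ ^ (2 ^ k) = 1 := by
      have h2 := congrArg Subtype.val (congrArg Subtype.val hk)
      simpa using h2
    have hτ1 := eq_one_of_odd_of_two_power (odd_orderOf_of_mem hTodd hτ) hk'
    rw [← e, hτ1, mul_one]
    exact ha
  have hmap : (P : Subgroup X).map X.subtype = H := by
    apply le_antisymm
    · rintro _ ⟨x, hx, rfl⟩
      exact hPH x hx
    · intro n hn
      exact ⟨⟨n, hHX hn⟩, hP (Subgroup.mem_subgroupOf.2 hn), rfl⟩
  have h := Sylow.normalizer_sup_eq_top (N := X) P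
  rw [hmap] at h
  rw [eq_top_iff, ← h]
  apply sup_le le_sup_left
  apply sup_le _ le_sup_right
  exact (Subgroup.le_normalizer).trans le_sup_left

/-- **Theorem.** An extremely closed abelian `2`-subgroup and the odd core factor `G` with its normalizer. -/
theorem extremely_closed_factorization {G : Type*} [Group G] [Finite G] {H : Subgroup G} (hH2 : IsPGroup 2 H)
    (hHab : IsMulCommutative H) (hcl : IsExtremelyClosed H) :
    Subgroup.normalizer (H : Set G) ⊔ pPrimeCore 2 G = ⊤ :=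
  factorization_of_concl hH2 (main hH2 hHab (nilClosed_of_extremelyClosed hH2 hHab hcl))

end Final

end Cfsg.Agent.Lib.NilClosedMain
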