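import Mathlib
import Cfsg.Agent.Lib.NilpCover

/-!
# Forced members of a nilpotent minimal cover

If all nilpotent subgroups containing `x` (resp. `y`) lie in a proper subgroup `H` and no nilpotent
subgroup contains both `x` and `y`, then no nilpotent minimal cover exists.
-/

set_option autoImplicit false

namespace Cfsg.Agent.Lib.NilpForced

open Cfsg.Agent.Lib.NilpCover

variable {G : Type*} [Group G] [Finite G]

/-- A nontrivial normal subgroup of a nilpotent group meets the centre nontrivially. -/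
theorem exists_central_of_normal {Q : Type*} [Group Q] [Group.IsNilpotent Q]
    (N : Subgroup Q) [hN : N.Normal] (hne : N ≠ ⊥) : ∃ a ∈ N, a ≠ 1 ∧ a ∈ Subgroup.center Q := by
  classical
  obtain ⟨n, hn⟩ := Group.IsNilpotent.nilpotent Q
  have hex : ∃ i, ∃ a ∈ N, a ≠ 1 ∧ a ∈ Subgroup.upperCentralSeries Q i := by
    obtain ⟨b, hb, hb1⟩ := N.bot_or_exists_ne_one.resolve_left hne
    exact ⟨n, b, hb, hb1, by rw [hn]; trivial⟩
  obtain ⟨a, ha, ha1, hai⟩ := Nat.find_spec hex
  rcases hi : Nat.find hex with _ | j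
  · rw [hi, Subgroup.upperCentralSeries_zero] at hai
    exact absurd ((Subgroup.mem_bot).mp hai) ha1
  · rw [hi, Subgroup.mem_upperCentralSeries_succ_iff] at hai
    refine ⟨a, ha, ha1, ?_⟩
    rw [Subgroup.mem_center_iff]
    intro g
    have hc : a * g * a⁻¹ * g⁻¹ ∈ Subgroup.upperCentralSeries Q j := hai g
    have hcN : a * g * a⁻¹ * g⁻¹ ∈ N := by
      have h1 := hN.conj_mem a⁻¹ (N.inv_mem ha) g
      have h2 := N.mul_mem ha h1
      have h3 : a * (g * a⁻¹ * g⁻¹) = a * g * a⁻¹ * g⁻¹ := by group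
      rwa [h3] at h2
    by_contra hne'
    have hne1 : a * g * a⁻¹ * g⁻¹ ≠ 1 := by
      intro h
      apply hne'
      have h2 : a * g = g * a := by
        have h3 : a * g * a⁻¹ = g := by
          have := congrArg (· * g) h
          simpa using this
        calc a * g = a * g * a⁻¹ * a := by group
          _ = g * a := by rw [h3]
      exact h2.symm
    exact Nat.find_min hex (m := j) (by omega) ⟨_, hcN, hne1, hc⟩

/-- An element of `p`-power order of a nilpotent group lies in every Sylow `p`-subgroup. -/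
theorem mem_sylow_of_nilpotent {X : Type*} [Group X] [Finite X] [hX : Group.IsNilpotent X]
    {p : ℕ} [Fact p.Prime] (P : Sylow p X) (x : X) (k : ℕ) (hx : orderOf x = p ^ k) :
    x ∈ (P : Subgroup X) := by
  have hP : (P : Subgroup X).Normal := by
    have := (Group.isNilpotent_of_finite_tfae (G := X)).out 0 3
    exact (this.mp hX) p inferInstance P
  have hz : IsPGroup p ↥(Subgroup.zpowers x) := by
    apply IsPGroup.of_card (n := k)
    rw [Nat.card_zpowers, hx]
  obtain ⟨Q, hQ⟩ := hz.exists_le_sylow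
  letI := Sylow.unique_of_normal P hP
  have : Q = P := Subsingleton.elim _ _
  rw [← this]
  exact hQ (Subgroup.mem_zpowers x)

/-- In a nilpotent group, an element of prime order `q`, where `q ^ 2` does not divide the order,
is central. -/
theorem central_of_prime_order {X : Type*} [Group X] [Finite X] [hX : Group.IsNilpotent X]
    {q : ℕ} [Fact q.Prime] (hq : ¬ q ^ 2 ∣ Nat.card X) (x : X) (hx : orderOf x = q) :
    x ∈ Subgroup.center X := by
  have hqp : q.Prime := Fact.out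
  obtain ⟨P⟩ : Nonempty (Sylow q X) := inferInstance
  haveI hP : (P : Subgroup X).Normal := by
    have := (Group.isNilpotent_of_finite_tfae (G := X)).out 0 3
    exact (this.mp hX) q inferInstance P
  have hxP : x ∈ (P : Subgroup X) := mem_sylow_of_nilpotent P x 1 (by rw [hx, pow_one])
  have hx1 : x ≠ 1 := by
    rintro rfl
    rw [orderOf_one] at hx
    exact hqp.one_lt.ne hx
  have hPne : (P : Subgroup X) ≠ ⊥ := by
    intro h
    rw [h] at hxP
    exact hx1 hxP
  obtain ⟨m, hm⟩ := IsPGroup.iff_card.mp P.isPGroup'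
  have hm1 : m < 2 := by
    by_contra hle
    apply hq
    have h1 : Nat.card ↥(P : Subgroup X) ∣ Nat.card X := Subgroup.card_subgroup_dvd_card _
    rw [hm] at h1
    exact dvd_trans (pow_dvd_pow q (by omega)) h1
  obtain ⟨z, hzP, hz1, hzc⟩ := exists_central_of_normal (P : Subgroup X) hPne
  have hPz : ∀ w ∈ (P : Subgroup X), w ≠ 1 → (P : Subgroup X) = Subgroup.zpowers w := by
    intro w hw hw1
    have hle : Subgroup.zpowers w ≤ (P : Subgroup X) := by
      rw [Subgroup.zpowers_le]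
      exact hw
    symm
    apply Subgroup.eq_of_le_of_card_ge hle
    rw [hm, Nat.card_zpowers]
    have hdvd : orderOf w ∣ Nat.card ↥(P : Subgroup X) := by
      rw [← Subgroup.orderOf_mk w hw]
      exact orderOf_dvd_natCard _
    rw [hm] at hdvd
    obtain ⟨j, hj, hj2⟩ := (Nat.dvd_prime_pow hqp).mp hdvd
    have hj0 : j ≠ 0 := by
      rintro rfl
      rw [pow_zero, orderOf_eq_one_iff] at hj2
      exact hw1 hj2
    have hj3 : j = m := by omega
    rw [hj2, hj3]
  have h1 := hPz z hzP hz1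
  have h2 : x ∈ Subgroup.zpowers z := by
    rw [← h1]
    exact hxP
  have h3 : Subgroup.zpowers z ≤ Subgroup.center X := by
    rw [Subgroup.zpowers_le]
    exact hzc
  exact h3 h2

/-- A nilpotent subgroup containing an element `x` of prime order `q`, with `q ^ 2` not dividing
the group order, centralizes `x`. -/
theorem nilpotent_le_centralizer {q : ℕ} [Fact q.Prime] (hq : ¬ q ^ 2 ∣ Nat.card G) (x : G)
    (hx : orderOf x = q) (A : Subgroup G) (hA : Group.IsNilpotent ↥A) (hxA : x ∈ A) (a : G)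
    (ha : a ∈ A) : a * x = x * a := by
  have hq' : ¬ q ^ 2 ∣ Nat.card ↥A := fun h => hq (dvd_trans h (Subgroup.card_subgroup_dvd_card A))
  have h := central_of_prime_order hq' (⟨x, hxA⟩ : ↥A) (by rw [Subgroup.orderOf_mk, hx])
  have h2 := Subgroup.mem_center_iff.mp h ⟨a, ha⟩
  exact congrArg Subtype.val h2

/-- The forced-member criterion in the form of the statements. -/
theorem no_cover_forced (x y : G) (H : Subgroup G) (hH : H ≠ ⊤)
    (hX : ∀ A : Subgroup G, Group.IsNilpotent ↥A → x ∈ A → A ≤ H)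
    (hY : ∀ A : Subgroup G, Group.IsNilpotent ↥A → y ∈ A → A ≤ H)
    (hXY : ∀ A : Subgroup G, Group.IsNilpotent ↥A → x ∈ A → y ∈ A → False) :
    ¬ ∃ 𝓐 : Finset (Subgroup G), ((∀ A ∈ 𝓐, A ≠ ⊤) ∧ (∀ g : G, ∃ A ∈ 𝓐, g ∈ A)) ∧
      (∀ 𝓑 : Finset (Subgroup G), (∀ A ∈ 𝓑, A ≠ ⊤) ∧ (∀ g : G, ∃ A ∈ 𝓑, g ∈ A) → 𝓐.card ≤ 𝓑.card) ∧
      (∀ A ∈ 𝓐, Group.IsNilpotent ↥A) := by
  rintro ⟨𝓐, ⟨hprop, hcov⟩, hmin, hnil⟩
  have h : IsNilpMinCover 𝓐 := ⟨hprop, hcov, hmin, hnil⟩
  obtain ⟨A, hA, hxA⟩ := hcov x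
  obtain ⟨B, hB, hyB⟩ := hcov y
  have hAB := eq_of_le_proper h hH hA hB (hX A (hnil A hA) hxA) (hY B (hnil B hB) hyB)
  subst hAB
  exact hXY A (hnil A hA) hxA hyB

/-- The forced-member criterion for elements of prime order whose square does not divide the
group order. -/
theorem no_cover_of_prime {q : ℕ} [Fact q.Prime] (hq : ¬ q ^ 2 ∣ Nat.card G) (x y : G)
    (hx : orderOf x = q) (hy : orderOf y = q) (hxy : y * x ≠ x * y) (H : Subgroup G) (hH : H ≠ ⊤)
    (hCx : ∀ g : G, g * x = x * g → g ∈ H) (hCy : ∀ g : G, g * y = y * g → g ∈ H) :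
    ¬ ∃ 𝓐 : Finset (Subgroup G), ((∀ A ∈ 𝓐, A ≠ ⊤) ∧ (∀ g : G, ∃ A ∈ 𝓐, g ∈ A)) ∧
      (∀ 𝓑 : Finset (Subgroup G), (∀ A ∈ 𝓑, A ≠ ⊤) ∧ (∀ g : G, ∃ A ∈ 𝓑, g ∈ A) → 𝓐.card ≤ 𝓑.card) ∧
      (∀ A ∈ 𝓐, Group.IsNilpotent ↥A) := by
  apply no_cover_forced x y H hH
  · intro A hA hxA a ha
    exact hCx a (nilpotent_le_centralizer hq x hx A hA hxA a ha)
  · intro A hA hyA a ha
    exact hCy a (nilpotent_le_centralizer hq y hy A hA hyA a ha)
  · intro A hA hxA hyA
    exact hxy (nilpotent_le_centralizer hq x hx A hA hxA y hyA)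

end Cfsg.Agent.Lib.NilpForced
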