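import Mathlib
import Cfsg.Agent.Lib.NilpCover
import Cfsg.Agent.Lib.NilpForced

/-!
# Nilpotent subgroups and unique fixed points

In a nilpotent group, elements of coprime orders commute.  If `x` is an `s`-element of a nilpotent
group acting on a finite set whose size is prime to `s`, and `x` has a unique fixed point `u`, then
the whole group fixes `u`.
-/

set_option autoImplicit false

namespace Cfsg.Agent.Lib.NilpFix

open Cfsg.Agent.Lib.NilpCover Cfsg.Agent.Lib.NilpForced

universe u

/-- In a nilpotent group, elements of coprime orders commute. -/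
theorem commute_of_coprime {X : Type u} [Group X] [Group.IsNilpotent X] :
    ∀ a b : X, Nat.Coprime (orderOf a) (orderOf b) → a * b = b * a := by
  refine Group.nilpotent_center_quotient_ind
    (P := fun (X : Type u) _ _ => ∀ a b : X, Nat.Coprime (orderOf a) (orderOf b) → a * b = b * a)
    X ?_ ?_
  · intro X _ _ a b _
    exact Subsingleton.elim _ _
  · intro X _ _ ih a b hab
    let π := QuotientGroup.mk' (Subgroup.center X)
    have h1 : π a * π b = π b * π a := by
      apply ih
      exact Nat.Coprime.coprime_dvd_left (orderOf_map_dvd π a)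
        (Nat.Coprime.coprime_dvd_right (orderOf_map_dvd π b) hab)
    set c := a * b * a⁻¹ * b⁻¹ with hc
    have hcZ : c ∈ Subgroup.center X := by
      have : π c = 1 := by
        rw [hc, map_mul, map_mul, map_mul, map_inv, map_inv, h1]
        group
      rwa [← MonoidHom.mem_ker, QuotientGroup.ker_mk'] at this
    have hcom : ∀ g : X, g * c = c * g := fun g => Subgroup.mem_center_iff.mp hcZ g
    have hpow1 : ∀ n : ℕ, (a * b * a⁻¹) ^ n = c ^ n * b ^ n := by
      intro n
      have h2 : a * b * a⁻¹ = c * b := by rw [hc]; group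
      rw [h2]
      exact (show Commute c b from (hcom b).symm).mul_pow n
    have hpow2 : ∀ n : ℕ, (b * a⁻¹ * b⁻¹) ^ n = c ^ n * (a⁻¹) ^ n := by
      intro n
      have h2 : b * a⁻¹ * b⁻¹ = c * a⁻¹ := by
        have h3 : c * a⁻¹ = a⁻¹ * c := (hcom a⁻¹).symm
        rw [h3, hc]
        group
      rw [h2]
      exact (show Commute c a⁻¹ from (hcom a⁻¹).symm).mul_pow n
    have hm : c ^ orderOf b = 1 := by
      have h2 := hpow1 (orderOf b)
      rw [conj_pow, pow_orderOf_eq_one] at h2
      simpa using h2.symm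
    have hn : c ^ orderOf a = 1 := by
      have h2 := hpow2 (orderOf a)
      rw [conj_pow, inv_pow, pow_orderOf_eq_one] at h2
      simpa using h2.symm
    have h3 : c ^ Nat.gcd (orderOf a) (orderOf b) = 1 := pow_gcd_eq_one.mpr ⟨hn, hm⟩
    rw [hab, pow_one] at h3
    have h4 : a * b * a⁻¹ = b := by
      rw [hc] at h3
      have := congrArg (· * b) h3
      simpa using this
    calc a * b = a * b * a⁻¹ * a := by group
      _ = b * a := by rw [h4]

/-- In a finite nilpotent group of permutations of a set of size prime to `s`, an `s`-element with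
a unique fixed point forces the whole group to fix this point. -/
theorem forcing {Γ X : Type*} [Group Γ] [MulAction Γ X] (A : Subgroup Γ) [Finite ↥A]
    (hA : Group.IsNilpotent ↥A) (s m : ℕ) [Fact s.Prime] (hs : ¬ s ∣ Nat.card X) (x : Γ)
    (hx : x ∈ A) (hord : x ^ (s ^ m) = 1) (u : X) (huniq : ∀ w : X, x • w = w → w = u) :
    ∀ g ∈ A, g • u = u := by
  classical
  have hsp : s.Prime := Fact.out
  obtain ⟨P⟩ : Nonempty (Sylow s ↥A) := inferInstance
  let x' : ↥A := ⟨x, hx⟩
  have hx'ord : ∃ k, orderOf x' = s ^ k := by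
    have h1 : x' ^ (s ^ m) = 1 := Subtype.ext hord
    obtain ⟨k, _, hk⟩ := (Nat.dvd_prime_pow hsp).mp (orderOf_dvd_of_pow_eq_one h1)
    exact ⟨k, hk⟩
  obtain ⟨k, hk⟩ := hx'ord
  have hx'P : x' ∈ (P : Subgroup ↥A) := mem_sylow_of_nilpotent P x' k hk
  obtain ⟨w, hw⟩ := P.isPGroup'.nonempty_fixed_point_of_prime_not_dvd_card X hs
  have hwu : w = u := by
    apply huniq
    exact hw ⟨x', hx'P⟩
  have hPfix : ∀ a : ↥A, a ∈ (P : Subgroup ↥A) → (a : Γ) • u = u := by
    intro a ha
    rw [← hwu]
    exact hw ⟨a, ha⟩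
  have hxu : x • u = u := hPfix x' hx'P
  intro g hg
  obtain ⟨a, b, hab, -, ⟨l, hl⟩, hbcop, -, -⟩ := exists_decomp s (⟨g, hg⟩ : ↥A)
  have haP : a ∈ (P : Subgroup ↥A) := by
    obtain ⟨j, _, hj⟩ := (Nat.dvd_prime_pow hsp).mp (orderOf_dvd_of_pow_eq_one hl)
    exact mem_sylow_of_nilpotent P a j hj
  have hcomm : x' * b = b * x' := by
    apply commute_of_coprime
    rw [hk]
    exact Nat.Coprime.pow_left _ hbcop.symm
  have hcomm' : x * (b : Γ) = (b : Γ) * x := congrArg Subtype.val hcomm
  have hbu : (b : Γ) • u = u := by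
    apply huniq
    rw [smul_smul, hcomm', mul_smul, hxu]
  have hgeq : g = (a : Γ) * (b : Γ) := congrArg Subtype.val hab
  rw [hgeq, mul_smul, hbu]
  exact hPfix a haP

/-- The preimage in `Γ` of a subgroup `A` of a subgroup `G` of `Γ / Z(Γ)`. -/
def lift {Γ : Type*} [Group Γ] (G : Subgroup (Γ ⧸ Subgroup.center Γ)) (A : Subgroup ↥G) : Subgroup Γ :=
  (A.map G.subtype).comap (QuotientGroup.mk' (Subgroup.center Γ))

theorem mem_lift {Γ : Type*} [Group Γ] {G : Subgroup (Γ ⧸ Subgroup.center Γ)} {A : Subgroup ↥G} {g : Γ} :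
    g ∈ lift G A ↔ ∃ a ∈ A, (a : Γ ⧸ Subgroup.center Γ) = (g : Γ ⧸ Subgroup.center Γ) := by
  simp only [lift, Subgroup.mem_comap, Subgroup.mem_map, Subgroup.subtype_apply]
  rfl

theorem isNilpotent_lift {Γ : Type*} [Group Γ] (G : Subgroup (Γ ⧸ Subgroup.center Γ)) (A : Subgroup ↥G)
    (hA : Group.IsNilpotent ↥A) : Group.IsNilpotent ↥(lift G A) := by
  classical
  have h1 : Group.IsNilpotent ↥(A.map G.subtype) :=
    Group.nilpotent_of_mulEquiv (A.equivMapOfInjective G.subtype G.subtype_injective)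
  let f : ↥(lift G A) →* ↥(A.map G.subtype) :=
    ((QuotientGroup.mk' (Subgroup.center Γ)).comp (lift G A).subtype).codRestrict _ (fun g => g.2)
  refine isNilpotent_of_ker_le_center f ?_
  intro g hg
  have h2 : ((g : Γ) : Γ ⧸ Subgroup.center Γ) = 1 := congrArg Subtype.val (MonoidHom.mem_ker.mp hg)
  have h3 : (g : Γ) ∈ Subgroup.center Γ := (QuotientGroup.eq_one_iff _).mp h2
  rw [Subgroup.mem_center_iff]
  intro h
  apply Subtype.ext
  exact Subgroup.mem_center_iff.mp h3 h

end Cfsg.Agent.Lib.NilpFix
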