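import Mathlib
import Cfsg.Agent.Lib.PComplement
import Cfsg.Agent.Lib.CoprimeParts

/-!
# Orders of nilpotent permutation groups

An abstract principle: a function `f` that is monotone, superadditive in the multiplicative sense
and bounds the prime powers dividing `n!` bounds the orders of all nilpotent permutation groups on
`n` points.
-/

set_option autoImplicit false
set_option linter.unusedSectionVars false
set_option linter.unusedVariables false

namespace Cfsg.Agent.Lib.NilpPerm

open Equiv MulAction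

/-- The hypotheses on a bounding function. -/
structure Bound (f : ℕ → ℕ) (π : ℕ → Prop) (M : ℕ) : Prop where
  pos : ∀ n ≤ M, 1 ≤ f n
  mono : ∀ a b, a ≤ b → b ≤ M → f a ≤ f b
  sup : ∀ a b, 1 ≤ a → 1 ≤ b → a + b ≤ M → f a * f b ≤ f (a + b)
  prime : ∀ n ≤ M, ∀ p k, p.Prime → π p → p ^ k ∣ n.factorial → p ^ k ≤ f n

/-- The statement proved by induction. -/
def Claim (f : ℕ → ℕ) (π : ℕ → Prop) (n : ℕ) : Prop :=
  ∀ (X : Type) [Finite X] (G : Type) [Group G] [Finite G] [Group.IsNilpotent G] [MulAction G X],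
    (∀ g : G, (∀ x : X, g • x = x) → g = 1) → (∀ p, p.Prime → p ∣ Nat.card G → π p) →
    Nat.card X = n → Nat.card G ≤ f n

variable {f : ℕ → ℕ} {π : ℕ → Prop} {M : ℕ}

theorem card_dvd_factorial {X G : Type} [Finite X] [Group G] [Finite G] [MulAction G X]
    (hfaith : ∀ g : G, (∀ x : X, g • x = x) → g = 1) :
    Nat.card G ∣ (Nat.card X).factorial := by
  classical
  haveI := Fintype.ofFinite X
  have hinj : Function.Injective (MulAction.toPermHom G X) := by
    rw [injective_iff_map_eq_one]
    intro g hg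
    exact hfaith g fun x => by simpa using congrArg (fun σ : Perm X => σ x) hg
  have h1 : Nat.card G ∣ Nat.card (Perm X) := by
    have := Subgroup.card_subgroup_dvd_card (MulAction.toPermHom G X).range
    rwa [Nat.card_congr (MonoidHom.ofInjective hinj).toEquiv.symm] at this
  simpa [Nat.card_eq_fintype_card, Fintype.card_perm] using h1

/-- An arbitrary action: the image in the symmetric group is bounded, by the induction
hypothesis. -/
theorem range_le {n : ℕ} (IH : ∀ m < n, Claim f π m) {G S : Type} [Group G] [Finite G]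
    [Group.IsNilpotent G] [Finite S] [MulAction G S]
    (hπ : ∀ p, p.Prime → p ∣ Nat.card G → π p) (hS : Nat.card S < n) :
    Nat.card (MulAction.toPermHom G S).range ≤ f (Nat.card S) := by
  haveI : Group.IsNilpotent (MulAction.toPermHom G S).range :=
    Group.nilpotent_of_surjective (MulAction.toPermHom G S).rangeRestrict
      (MonoidHom.rangeRestrict_surjective _)
  refine IH _ hS S (MulAction.toPermHom G S).range ?_ ?_ rfl
  · intro g hg
    apply Subtype.ext
    apply Equiv.ext
    intro x
    exact hg x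
  · intro p hp hd
    apply hπ p hp
    exact hd.trans (Subgroup.card_dvd_of_surjective _ (MonoidHom.rangeRestrict_surjective _))

/-- Splitting an invariant subset. -/
theorem card_le_of_invariant (h : Bound f π M) {n : ℕ} (hn : n ≤ M) (IH : ∀ m < n, Claim f π m)
    {X G : Type} [Finite X] [Group G] [Finite G] [Group.IsNilpotent G] [MulAction G X]
    (hfaith : ∀ g : G, (∀ x : X, g • x = x) → g = 1)
    (hπ : ∀ p, p.Prime → p ∣ Nat.card G → π p) (hX : Nat.card X = n)
    (A : Set X) (hA : ∀ (g : G) (a : X), a ∈ A → g • a ∈ A)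
    (hA0 : A.Nonempty) (hA1 : Aᶜ.Nonempty) : Nat.card G ≤ f n := by
  classical
  let S1 : SubMulAction G X := ⟨A, fun g a ha => hA g a ha⟩
  let S2 : SubMulAction G X := ⟨Aᶜ, fun g a ha hb => ha (by simpa using hA g⁻¹ _ hb)⟩
  have hcard : Nat.card S1 + Nat.card S2 = n := by
    rw [← hX, Nat.card_congr (Equiv.Set.sumCompl A).symm, Nat.card_sum]
    rfl
  have hp1 : 0 < Nat.card S1 := by
    haveI : Nonempty S1 := ⟨⟨hA0.some, hA0.some_mem⟩⟩
    exact Nat.card_pos
  have hp2 : 0 < Nat.card S2 := by
    haveI : Nonempty S2 := ⟨⟨hA1.some, hA1.some_mem⟩⟩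
    exact Nat.card_pos
  have h1 := range_le IH (G := G) (S := S1) hπ (by omega)
  have h2 := range_le IH (G := G) (S := S2) hπ (by omega)
  let φ : G → (MulAction.toPermHom G S1).range × (MulAction.toPermHom G S2).range :=
    fun g => ((MulAction.toPermHom G S1).rangeRestrict g, (MulAction.toPermHom G S2).rangeRestrict g)
  have hφ : Function.Injective φ := by
    intro g g' hg
    have hg1 := congrArg Prod.fst hg
    have hg2 := congrArg Prod.snd hg
    have hg1' : MulAction.toPermHom G S1 g = MulAction.toPermHom G S1 g' :=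
      congrArg Subtype.val hg1
    have hg2' : MulAction.toPermHom G S2 g = MulAction.toPermHom G S2 g' :=
      congrArg Subtype.val hg2
    have : g⁻¹ * g' = 1 := by
      apply hfaith
      intro x
      rw [mul_smul, inv_smul_eq_iff]
      by_cases hx : x ∈ A
      · have := congrArg (fun σ : Perm S1 => ((σ ⟨x, hx⟩ : S1) : X)) hg1'
        exact this.symm
      · have := congrArg (fun σ : Perm S2 => ((σ ⟨x, hx⟩ : S2) : X)) hg2'
        exact this.symm
    exact inv_mul_eq_one.mp this
  calc Nat.card G ≤ Nat.card ((MulAction.toPermHom G S1).range × (MulAction.toPermHom G S2).range) :=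
        Nat.card_le_card_of_injective φ hφ
    _ = Nat.card (MulAction.toPermHom G S1).range * Nat.card (MulAction.toPermHom G S2).range :=
        Nat.card_prod _ _
    _ ≤ f (Nat.card S1) * f (Nat.card S2) := Nat.mul_le_mul h1 h2
    _ ≤ f (Nat.card S1 + Nat.card S2) := h.sup _ _ hp1 hp2 (by omega)
    _ = f n := by rw [hcard]

/-- Commuting elements of coprime orders: a product fixing a point has both factors fixing it. -/
theorem fix_of_mul_fix {G X : Type} [Group G] [MulAction G X] {u v : G} (hc : Commute u v)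
    {a b : ℕ} (hab : Nat.Coprime a b) (ha : u ^ a = 1) (hb : v ^ b = 1) (ha0 : a ≠ 0) (hb0 : b ≠ 0)
    {x : X} (hx : (u * v) • x = x) : u • x = x ∧ v • x = x := by
  have hst : u * v ∈ MulAction.stabilizer G x := hx
  constructor
  · obtain ⟨s, hs⟩ := Cfsg.Agent.Lib.CoprimeParts.exists_pow_mul_eq_left hc hab.symm ha0 ha hb
    have := pow_mem hst s
    rw [hs] at this
    exact this
  · obtain ⟨s, hs⟩ := Cfsg.Agent.Lib.CoprimeParts.exists_pow_mul_eq_left hc.symm hab hb0 hb ha
    have := pow_mem hst s
    rw [hc.eq, hs] at this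
    exact this

/-- The transitive case with commuting factors `P`, `Q`. -/
theorem card_le_of_transitive (h : Bound f π M) {n : ℕ} (hn : n ≤ M) (IH : ∀ m < n, Claim f π m)
    {X G : Type} [Finite X] [Group G] [Finite G] [Group.IsNilpotent G] [MulAction G X]
    (hfaith : ∀ g : G, (∀ x : X, g • x = x) → g = 1)
    (hπ : ∀ p, p.Prime → p ∣ Nat.card G → π p) (hX : Nat.card X = n)
    (x : X) (htr : ∀ y : X, ∃ g : G, g • x = y)
    (P Q : Subgroup G) (hmul : Nat.card P * Nat.card Q = Nat.card G)
    (hcop : Nat.Coprime (Nat.card P) (Nat.card Q))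
    (hcomm : ∀ u ∈ P, ∀ v ∈ Q, u * v = v * u)
    (hdec : ∀ g : G, ∃ u ∈ P, ∃ v ∈ Q, g = u * v)
    (hP : 1 < Nat.card P) (hQ : 1 < Nat.card Q) : Nat.card G ≤ f n := by
  classical
  -- faithful on the orbits
  have hfP : ∀ u : P, (∀ a : orbit P x, u • a = a) → u = 1 := by
    intro u hu
    apply Subtype.ext
    apply hfaith
    intro y
    obtain ⟨g, rfl⟩ := htr y
    obtain ⟨w, hw, v, hv, rfl⟩ := hdec g
    have h1 : (u : G) • (w • x) = w • x := by
      have := hu ⟨(⟨w, hw⟩ : P) • x, mem_orbit _ _⟩
      exact congrArg Subtype.val this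
    rw [hcomm w hw v hv, mul_smul, ← mul_smul, hcomm u u.2 v hv, mul_smul, h1]
  have hfQ : ∀ v : Q, (∀ a : orbit Q x, v • a = a) → v = 1 := by
    intro v hv
    apply Subtype.ext
    apply hfaith
    intro y
    obtain ⟨g, rfl⟩ := htr y
    obtain ⟨w, hw, v', hv', rfl⟩ := hdec g
    have h1 : (v : G) • (v' • x) = v' • x := by
      have := hv ⟨(⟨v', hv'⟩ : Q) • x, mem_orbit _ _⟩
      exact congrArg Subtype.val this
    rw [mul_smul, ← mul_smul, ← hcomm w hw v v.2, mul_smul, h1]
  -- the orbits are nontrivial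
  have hA2 : 2 ≤ Nat.card (orbit P x) := by
    by_contra hlt
    have hle : Nat.card (orbit P x) ≤ 1 := by omega
    haveI : Subsingleton (orbit P x) := Finite.card_le_one_iff_subsingleton.1 hle
    have hsub : Subsingleton P := by
      refine ⟨fun u w => ?_⟩
      have h1 := hfP u fun a => Subsingleton.elim _ _
      have h2 := hfP w fun a => Subsingleton.elim _ _
      rw [h1, h2]
    have := Nat.card_of_subsingleton (1 : P)
    omega
  have hB2 : 2 ≤ Nat.card (orbit Q x) := by
    by_contra hlt
    have hle : Nat.card (orbit Q x) ≤ 1 := by omega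
    haveI : Subsingleton (orbit Q x) := Finite.card_le_one_iff_subsingleton.1 hle
    have hsub : Subsingleton Q := by
      refine ⟨fun u w => ?_⟩
      have h1 := hfQ u fun a => Subsingleton.elim _ _
      have h2 := hfQ w fun a => Subsingleton.elim _ _
      rw [h1, h2]
    have := Nat.card_of_subsingleton (1 : Q)
    omega
  -- the product map is injective
  have hprod : Nat.card (orbit P x) * Nat.card (orbit Q x) ≤ n := by
    have hPQ : ∀ a : orbit P x, ∃ u : P, u • x = a := fun a => a.2
    have hQQ : ∀ b : orbit Q x, ∃ v : Q, v • x = b := fun b => b.2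
    choose cu hcu using hPQ
    choose cv hcv using hQQ
    rw [← hX, ← Nat.card_prod]
    refine Nat.card_le_card_of_injective
      (fun ab : orbit P x × orbit Q x => ((cu ab.1 : G) * (cv ab.2 : G)) • x) ?_
    rintro ⟨a, b⟩ ⟨a', b'⟩ hab
    simp only at hab
    set u := (cu a : G) with hu
    set u' := (cu a' : G) with hu'
    set v := (cv b : G) with hv
    set v' := (cv b' : G) with hv'
    have huP : u ∈ P := (cu a).2
    have hu'P : u' ∈ P := (cu a').2
    have hvQ : v ∈ Q := (cv b).2
    have hv'Q : v' ∈ Q := (cv b').2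
    have hw : u'⁻¹ * u ∈ P := P.mul_mem (P.inv_mem hu'P) huP
    have hz : v * v'⁻¹ ∈ Q := Q.mul_mem hvQ (Q.inv_mem hv'Q)
    have hz' : v'⁻¹ * v ∈ Q := Q.mul_mem (Q.inv_mem hv'Q) hvQ
    have hcm : Commute (u'⁻¹ * u) (v'⁻¹ * v) := hcomm _ hw _ hz'
    have hfix : ((u'⁻¹ * u) * (v'⁻¹ * v)) • x = x := by
      have e1 : (u'⁻¹ * u) * (v'⁻¹ * v) = v'⁻¹ * (u'⁻¹ * (u * v)) := by
        have : (u'⁻¹ * u) * v'⁻¹ = v'⁻¹ * (u'⁻¹ * u) := hcomm _ hw _ (Q.inv_mem hv'Q)
        calc (u'⁻¹ * u) * (v'⁻¹ * v) = ((u'⁻¹ * u) * v'⁻¹) * v := by group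
          _ = v'⁻¹ * (u'⁻¹ * u) * v := by rw [this]
          _ = _ := by group
      rw [e1, mul_smul, mul_smul, hab, ← mul_smul, ← mul_smul]
      have e2 : v'⁻¹ * u'⁻¹ * (u' * v') = 1 := by group
      rw [e2, one_smul]
    have hPa : (u'⁻¹ * u) ^ Nat.card P = 1 :=
      Cfsg.Agent.Lib.CoprimeParts.pow_card_subgroup_eq_one hw
    have hQa : (v'⁻¹ * v) ^ Nat.card Q = 1 :=
      Cfsg.Agent.Lib.CoprimeParts.pow_card_subgroup_eq_one hz'
    obtain ⟨h1, h2⟩ := fix_of_mul_fix hcm hcop hPa hQa (by omega) (by omega) hfix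
    have ea : a = a' := by
      apply Subtype.ext
      rw [← hcu a, ← hcu a']
      change u • x = u' • x
      rw [mul_smul, inv_smul_eq_iff] at h1
      exact h1
    have eb : b = b' := by
      apply Subtype.ext
      rw [← hcv b, ← hcv b']
      change v • x = v' • x
      rw [mul_smul, inv_smul_eq_iff] at h2
      exact h2
    rw [ea, eb]
  set a := Nat.card (orbit P x) with ha
  set b := Nat.card (orbit Q x) with hb
  have hsum : a + b ≤ a * b := by nlinarith
  have hsum' : a + b ≤ n := hsum.trans hprod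
  have hPb : Nat.card P ≤ f a := by
    refine IH a (by omega) _ P hfP ?_ rfl
    intro p hp hd
    exact hπ p hp (hd.trans (Subgroup.card_subgroup_dvd_card P))
  have hQb : Nat.card Q ≤ f b := by
    refine IH b (by omega) _ Q hfQ ?_ rfl
    intro p hp hd
    exact hπ p hp (hd.trans (Subgroup.card_subgroup_dvd_card Q))
  calc Nat.card G = Nat.card P * Nat.card Q := hmul.symm
    _ ≤ f a * f b := Nat.mul_le_mul hPb hQb
    _ ≤ f (a + b) := h.sup _ _ (by omega) (by omega) (by omega)
    _ ≤ f n := h.mono _ _ hsum' hn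

/-- The main theorem of this file. -/
theorem claim (h : Bound f π M) : ∀ n ≤ M, Claim f π n := by
  intro n
  induction n using Nat.strong_induction_on with
  | _ n IH =>
  intro hn X _ G _ _ _ _ hfaith hπ hX
  classical
  have IH' : ∀ m < n, Claim f π m := fun m hm => IH m hm (by omega)
  by_cases htriv : Nat.card G = 1
  · rw [htriv]; exact h.pos n hn
  obtain ⟨p, hp, hpd⟩ := Nat.exists_prime_and_dvd htriv
  haveI := Fact.mk hp
  let P : Sylow p G := default
  have hPcard : Nat.card P = p ^ (Nat.card G).factorization p := Sylow.card_eq_multiplicity P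
  have hP1 : 1 < Nat.card P := by
    rw [hPcard]
    apply Nat.one_lt_pow _ hp.one_lt
    have := (Nat.Prime.dvd_iff_one_le_factorization hp Nat.card_pos.ne').1 hpd
    omega
  by_cases hQtriv : (P : Subgroup G).index = 1
  · -- a `p`-group
    have hG : Nat.card G = p ^ (Nat.card G).factorization p := by
      rw [← hPcard, ← (P : Subgroup G).card_mul_index, hQtriv, mul_one]
    rw [hG]
    apply h.prime n hn p _ hp (hπ p hp hpd)
    rw [← hG, ← hX]
    exact card_dvd_factorial hfaith
  -- two primes: complement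
  obtain ⟨Q, hQ⟩ := Subgroup.exists_right_complement'_of_coprime (N := (P : Subgroup G))
    P.card_coprime_index
  have hmul : Nat.card (P : Subgroup G) * Nat.card Q = Nat.card G := hQ.card_mul
  have hQidx : Nat.card Q = (P : Subgroup G).index := by
    have := (P : Subgroup G).card_mul_index
    have hpos : 0 < Nat.card (P : Subgroup G) := Nat.card_pos
    exact Nat.eq_of_mul_eq_mul_left hpos (hmul.trans this.symm)
  have hQ1 : 1 < Nat.card Q := by
    have hpos : 0 < Nat.card Q := Nat.card_pos
    rw [hQidx] at hpos ⊢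
    omega
  have hcop : Nat.Coprime (Nat.card (P : Subgroup G)) (Nat.card Q) := by
    rw [hQidx]; exact P.card_coprime_index
  have hcomm : ∀ u ∈ (P : Subgroup G), ∀ v ∈ Q, u * v = v * u := by
    intro u hu v hv
    have hpg : ∃ k : ℕ, u ^ p ^ k = 1 := by
      refine ⟨(Nat.card G).factorization p, ?_⟩
      rw [← hPcard]
      exact Cfsg.Agent.Lib.CoprimeParts.pow_card_subgroup_eq_one hu
    refine Cfsg.Agent.Lib.PComplement.commute_of_isNilpotent (p := p) hpg ?_
    have hd : orderOf v ∣ Nat.card Q := Subgroup.orderOf_dvd_natCard Q hv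
    rw [hQidx] at hd
    exact (Nat.Coprime.symm ((Nat.Prime.coprime_iff_not_dvd hp).2
      (fun hd' => P.not_dvd_index (hd'.trans hd))))
  have hdec : ∀ g : G, ∃ u ∈ (P : Subgroup G), ∃ v ∈ Q, g = u * v := by
    intro g
    obtain ⟨⟨u, v⟩, huv⟩ := hQ.2 g
    exact ⟨u, u.2, v, v.2, huv.symm⟩
  by_cases hne : Nonempty X
  · obtain ⟨x⟩ := hne
    by_cases htr : ∀ y : X, ∃ g : G, g • x = y
    · exact card_le_of_transitive h hn IH' hfaith hπ hX x htr P Q hmul hcop hcomm hdec hP1 hQ1
    · push_neg at htr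
      obtain ⟨y, hy⟩ := htr
      refine card_le_of_invariant h hn IH' hfaith hπ hX (orbit G x) ?_ ⟨x, mem_orbit_self x⟩
        ⟨y, fun hmem => ?_⟩
      · rintro g a ⟨g', rfl⟩
        exact ⟨g * g', mul_smul _ _ _⟩
      · obtain ⟨g, hg⟩ := hmem
        exact hy g hg
  · exfalso
    have hall : ∀ g : G, g = 1 := fun g => hfaith g fun x => (hne ⟨x⟩).elim
    apply htriv
    haveI : Subsingleton G := ⟨fun a b => by rw [hall a, hall b]⟩
    exact Nat.card_of_subsingleton (1 : G)

/-- The principle, for a subgroup of a symmetric group. -/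
theorem card_subgroup_le (h : Bound f π M) {X : Type} [Finite X] (hM : Nat.card X ≤ M)
    (N : Subgroup (Perm X)) (hN : Group.IsNilpotent N)
    (hπ : ∀ p, p.Prime → p ∣ Nat.card N → π p) : Nat.card N ≤ f (Nat.card X) := by
  refine claim h _ hM X N ?_ hπ rfl
  intro g hg
  apply Subtype.ext
  apply Equiv.ext
  intro x
  exact hg x

end Cfsg.Agent.Lib.NilpPerm
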