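import Mathlib
import Cfsg.Agent.Lib.NilpPerm

/-!
# The arithmetic of the bound for nilpotent permutation groups
-/

set_option autoImplicit false
set_option linter.unusedSectionVars false
set_option linter.unusedVariables false

namespace Cfsg.Agent.Lib.NilpPerm

/-- The exponent of `2` in `n!`, in a form the kernel evaluates. -/
def s2 (n : ℕ) : ℕ := n - (Nat.digits 2 n).sum

theorem s2_eq (n : ℕ) : s2 n = padicValNat 2 n.factorial := by
  have := sub_one_mul_padicValNat_factorial (p := 2) n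
  simpa [s2] using this.symm

theorem s2_succ (n : ℕ) : s2 (n + 1) = s2 n + padicValNat 2 (n + 1) := by
  rw [s2_eq, s2_eq, Nat.factorial_succ, padicValNat.mul (by omega) (Nat.factorial_ne_zero _), add_comm]

theorem s2_succ_odd {n : ℕ} (h : (n + 1) % 2 = 1) : s2 (n + 1) = s2 n := by
  rw [s2_succ, padicValNat.eq_zero_of_not_dvd (by omega), add_zero]

theorem s2_succ_two {n : ℕ} (h : (n + 1) % 4 = 2) : s2 (n + 1) = s2 n + 1 := by
  have hv : padicValNat 2 (n + 1) = 1 := by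
    apply le_antisymm
    · by_contra hlt
      have : 2 ≤ padicValNat 2 (n + 1) := by omega
      have := (padicValNat_dvd_iff_le (p := 2) (n := 2) (a := n + 1) (by omega)).2 this
      omega
    · exact (padicValNat_dvd_iff_le (p := 2) (n := 1) (a := n + 1) (by omega)).1 (by omega)
  rw [s2_succ, hv]

theorem s2_succ_four {n : ℕ} (h : (n + 1) % 4 = 0) : s2 n + 2 ≤ s2 (n + 1) := by
  have hv : 2 ≤ padicValNat 2 (n + 1) :=
    (padicValNat_dvd_iff_le (p := 2) (n := 2) (a := n + 1) (by omega)).1 (by omega)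
  rw [s2_succ]
  omega

theorem le_s2 {n k : ℕ} (h : 2 ^ k ∣ n.factorial) : k ≤ s2 n := by
  rw [s2_eq]
  exact (padicValNat_dvd_iff_le (Nat.factorial_ne_zero n)).1 h

theorem pow_s2_dvd (n : ℕ) : 2 ^ s2 n ∣ n.factorial := by
  rw [s2_eq]
  exact pow_padicValNat_dvd

theorem s2_add (a b : ℕ) : s2 a + s2 b ≤ s2 (a + b) := by
  apply le_s2
  rw [pow_add]
  exact (mul_dvd_mul (pow_s2_dvd a) (pow_s2_dvd b)).trans (Nat.factorial_mul_factorial_dvd_factorial_add a b)

theorem s2_mono {a b : ℕ} (h : a ≤ b) : s2 a ≤ s2 b := by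
  obtain ⟨c, rfl⟩ := Nat.exists_eq_add_of_le h
  have := s2_add a c
  omega

theorem s2_three {x : ℕ} (h : x % 4 = 0) : s2 (x + 3) = s2 x + 1 := by
  rw [show x + 3 = (x + 2) + 1 from rfl, s2_succ_odd (by omega),
    show x + 2 = (x + 1) + 1 from rfl, s2_succ_two (by omega), s2_succ_odd (by omega)]

theorem s2_L1 {x : ℕ} (h : x % 4 = 1) : s2 x + 3 ≤ s2 (x + 3) := by
  have h1 : s2 (x + 1) = s2 x + 1 := s2_succ_two (by omega)
  have h2 : s2 (x + 1 + 1) = s2 (x + 1) := s2_succ_odd (by omega)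
  have h3 := s2_succ_four (n := x + 1 + 1) (by omega)
  simp only [show x + 1 + 1 + 1 = x + 3 from rfl] at h3
  omega

theorem s2_L2 {x : ℕ} (h : x % 4 = 2) : s2 x + 2 ≤ s2 (x + 3) := by
  have h1 : s2 (x + 1) = s2 x := s2_succ_odd (by omega)
  have h2 := s2_succ_four (n := x + 1) (by omega)
  have h3 : s2 (x + 1 + 1 + 1) = s2 (x + 1 + 1) := s2_succ_odd (by omega)
  simp only [show x + 1 + 1 + 1 = x + 3 from rfl] at h3
  omega

theorem s2_L3 {x : ℕ} (h : x % 4 = 0) : s2 x + 4 ≤ s2 (x + 6) := by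
  have h1 := s2_three h
  have h2 : s2 (x + 3) + 3 ≤ s2 (x + 6) := by
    have hmono := s2_mono (show x + 3 ≤ x + 3 from le_rfl)
    have e1 := s2_succ_four (n := x + 3) (by omega)
    have e2 : s2 (x + 3 + 1 + 1) = s2 (x + 3 + 1) := s2_succ_odd (by omega)
    have e3 : s2 (x + 3 + 1 + 1 + 1) = s2 (x + 3 + 1 + 1) + 1 := s2_succ_two (by omega)
    simp only [show x + 3 + 1 + 1 + 1 = x + 6 from rfl] at e3
    omega
  omega

/-- The bounding function. -/
def T (n : ℕ) : ℕ := if n % 4 = 3 then 3 * 2 ^ s2 (n - 3) else 2 ^ s2 n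

theorem T_of_three {n : ℕ} (h : n % 4 = 3) : T n = 3 * 2 ^ s2 (n - 3) := by simp [T, h]

theorem T_of_not {n : ℕ} (h : n % 4 ≠ 3) : T n = 2 ^ s2 n := by simp [T, h]

theorem two_pow_le_T (n : ℕ) : 2 ^ s2 n ≤ T n := by
  by_cases h : n % 4 = 3
  · rw [T_of_three h]
    obtain ⟨m, rfl⟩ : ∃ m, n = m + 3 := ⟨n - 3, by omega⟩
    rw [Nat.add_sub_cancel, s2_three (by omega), pow_succ]
    have : 0 < 2 ^ s2 m := by positivity
    omega
  · rw [T_of_not h]

theorem T_pos (n : ℕ) : 1 ≤ T n := le_trans Nat.one_le_two_pow (two_pow_le_T n)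

theorem T_succ (n : ℕ) : T n ≤ T (n + 1) := by
  by_cases h : n % 4 = 3
  · rw [T_of_three h, T_of_not (by omega)]
    obtain ⟨m, rfl⟩ : ∃ m, n = m + 3 := ⟨n - 3, by omega⟩
    rw [Nat.add_sub_cancel]
    have h3 := s2_three (x := m) (by omega)
    have h4 := s2_succ_four (n := m + 3) (by omega)
    have : s2 m + 2 ≤ s2 (m + 3 + 1) := by omega
    calc 3 * 2 ^ s2 m ≤ 2 ^ 2 * 2 ^ s2 m := by omega
      _ = 2 ^ (s2 m + 2) := by rw [pow_add, mul_comm]
      _ ≤ _ := Nat.pow_le_pow_right (by norm_num) this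
  · by_cases h' : (n + 1) % 4 = 3
    · rw [T_of_not h, T_of_three h']
      obtain ⟨m, rfl⟩ : ∃ m, n = m + 2 := ⟨n - 2, by omega⟩
      simp only [show m + 2 + 1 - 3 = m by omega]
      have h2 : s2 (m + 1 + 1) = s2 (m + 1) + 1 := s2_succ_two (by omega)
      have h3 : s2 (m + 1) = s2 m := s2_succ_odd (by omega)
      simp only [show m + 1 + 1 = m + 2 from rfl] at h2
      rw [h2, h3, pow_succ]
      omega
    · rw [T_of_not h, T_of_not h']
      exact Nat.pow_le_pow_right (by norm_num) (s2_mono (by omega))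

theorem T_mono : Monotone T := monotone_nat_of_le_succ T_succ

theorem T_sup_aux1 {a b : ℕ} (ha : a % 4 = 1) (hb : b % 4 = 2) : T a * T b ≤ T (a + b) := by
  rw [T_of_not (by omega), T_of_not (by omega), T_of_three (by omega)]
  obtain ⟨a', rfl⟩ : ∃ m, a = m + 1 := ⟨a - 1, by omega⟩
  obtain ⟨b', rfl⟩ : ∃ m, b = m + 2 := ⟨b - 2, by omega⟩
  have h1 : s2 (a' + 1) = s2 a' := s2_succ_odd (by omega)
  have h2 : s2 (b' + 1 + 1) = s2 (b' + 1) + 1 := s2_succ_two (by omega)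
  have h3 : s2 (b' + 1) = s2 b' := s2_succ_odd (by omega)
  simp only [show b' + 1 + 1 = b' + 2 from rfl] at h2
  rw [h1, h2, h3, show a' + 1 + (b' + 2) - 3 = a' + b' by omega, ← pow_add]
  have h4 := s2_add a' b'
  calc 2 ^ (s2 a' + (s2 b' + 1)) = 2 * 2 ^ (s2 a' + s2 b') := by ring
    _ ≤ 3 * 2 ^ (s2 a' + s2 b') := by omega
    _ ≤ _ := Nat.mul_le_mul_left _ (Nat.pow_le_pow_right (by norm_num) h4)

theorem T_sup_aux2 {a b : ℕ} (ha : a % 4 = 3) (hb : b % 4 ≠ 3) : T a * T b ≤ T (a + b) := by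
  rw [T_of_three ha, T_of_not hb]
  obtain ⟨a', rfl⟩ : ∃ m, a = m + 3 := ⟨a - 3, by omega⟩
  rw [Nat.add_sub_cancel]
  have h4 := s2_add a' b
  have hcases : b % 4 = 0 ∨ b % 4 = 1 ∨ b % 4 = 2 := by omega
  rcases hcases with h0 | h1 | h2
  · rw [T_of_three (by omega), show a' + 3 + b - 3 = a' + b by omega, mul_assoc, ← pow_add]
    exact Nat.mul_le_mul_left _ (Nat.pow_le_pow_right (by norm_num) h4)
  · rw [T_of_not (by omega), show a' + 3 + b = a' + b + 3 by omega]
    have h5 := s2_L1 (x := a' + b) (by omega)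
    calc 3 * 2 ^ s2 a' * 2 ^ s2 b = 3 * 2 ^ (s2 a' + s2 b) := by rw [mul_assoc, pow_add]
      _ ≤ 2 ^ 3 * 2 ^ (s2 a' + s2 b) := by omega
      _ = 2 ^ (3 + (s2 a' + s2 b)) := by ring
      _ ≤ _ := Nat.pow_le_pow_right (by norm_num) (by omega)
  · rw [T_of_not (by omega), show a' + 3 + b = a' + b + 3 by omega]
    have h5 := s2_L2 (x := a' + b) (by omega)
    calc 3 * 2 ^ s2 a' * 2 ^ s2 b = 3 * 2 ^ (s2 a' + s2 b) := by rw [mul_assoc, pow_add]
      _ ≤ 2 ^ 2 * 2 ^ (s2 a' + s2 b) := by omega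
      _ = 2 ^ (2 + (s2 a' + s2 b)) := by ring
      _ ≤ _ := Nat.pow_le_pow_right (by norm_num) (by omega)

theorem T_sup_aux3 {a b : ℕ} (ha : a % 4 = 3) (hb : b % 4 = 3) : T a * T b ≤ T (a + b) := by
  rw [T_of_three ha, T_of_three hb, T_of_not (by omega)]
  obtain ⟨a', rfl⟩ : ∃ m, a = m + 3 := ⟨a - 3, by omega⟩
  obtain ⟨b', rfl⟩ : ∃ m, b = m + 3 := ⟨b - 3, by omega⟩
  rw [Nat.add_sub_cancel, Nat.add_sub_cancel, show a' + 3 + (b' + 3) = a' + b' + 6 by omega]
  have h4 := s2_add a' b'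
  have h5 := s2_L3 (x := a' + b') (by omega)
  calc 3 * 2 ^ s2 a' * (3 * 2 ^ s2 b') = 9 * 2 ^ (s2 a' + s2 b') := by rw [pow_add]; ring
    _ ≤ 2 ^ 4 * 2 ^ (s2 a' + s2 b') := by omega
    _ = 2 ^ (4 + (s2 a' + s2 b')) := by ring
    _ ≤ _ := Nat.pow_le_pow_right (by norm_num) (by omega)

theorem T_sup (a b : ℕ) : T a * T b ≤ T (a + b) := by
  by_cases ha : a % 4 = 3
  · by_cases hb : b % 4 = 3
    · exact T_sup_aux3 ha hb
    · exact T_sup_aux2 ha hb
  · by_cases hb : b % 4 = 3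
    · rw [mul_comm, add_comm]
      exact T_sup_aux2 hb ha
    · by_cases hab : (a + b) % 4 = 3
      · have : (a % 4 = 1 ∧ b % 4 = 2) ∨ (a % 4 = 2 ∧ b % 4 = 1) := by omega
        rcases this with ⟨h1, h2⟩ | ⟨h1, h2⟩
        · exact T_sup_aux1 h1 h2
        · rw [mul_comm, add_comm]
          exact T_sup_aux1 h2 h1
      · rw [T_of_not ha, T_of_not hb, T_of_not hab, ← pow_add]
        exact Nat.pow_le_pow_right (by norm_num) (s2_add a b)

/-- Powers of odd primes in `n!` are small. -/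
theorem sq_le_three_pow {p : ℕ} (hp : 3 ≤ p) : p ^ 2 ≤ 3 ^ (p - 1) := by
  induction p, hp using Nat.le_induction with
  | base => norm_num
  | succ m hm ih =>
    rw [show m + 1 - 1 = (m - 1) + 1 by omega, pow_succ 3 (m - 1)]
    nlinarith

theorem sq_prime_pow_le {n p k : ℕ} (hp : p.Prime) (h2 : p ≠ 2) (hd : p ^ k ∣ n.factorial) :
    (p ^ k) ^ 2 ≤ 3 ^ (n - 1) := by
  haveI := Fact.mk hp
  rcases Nat.eq_zero_or_pos k with rfl | hk
  · simpa using Nat.one_le_pow (n - 1) 3 (by norm_num)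
  have hn : n ≠ 0 := by
    rintro rfl
    have : p ^ k ∣ 1 := by simpa using hd
    have : p ^ k = 1 := Nat.dvd_one.1 this
    have h1 := Nat.one_lt_pow hk.ne' hp.one_lt
    omega
  have h3 : 3 ≤ p := by
    have := hp.two_le
    omega
  have h4 := sub_one_mul_padicValNat_factorial_lt_of_ne_zero (p := p) hn
  have h5 : k ≤ padicValNat p n.factorial :=
    (padicValNat_dvd_iff_le (Nat.factorial_ne_zero n)).1 hd
  have h6 : (p - 1) * k ≤ n - 1 := by
    have : (p - 1) * k ≤ (p - 1) * padicValNat p n.factorial := Nat.mul_le_mul_left _ h5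
    omega
  calc (p ^ k) ^ 2 = (p ^ 2) ^ k := by ring
    _ ≤ (3 ^ (p - 1)) ^ k := Nat.pow_le_pow_left (sq_le_three_pow h3) k
    _ = 3 ^ ((p - 1) * k) := by rw [pow_mul]
    _ ≤ 3 ^ (n - 1) := Nat.pow_le_pow_right (by norm_num) h6

theorem two_pow_digit_sum_le {n : ℕ} (hn : 1 ≤ n) : 2 ^ (Nat.digits 2 n).sum ≤ 2 * n := by
  induction n using Nat.strong_induction_on with
  | _ n IH =>
    rcases Nat.lt_or_ge n 2 with h | h
    · have : n = 1 := by omega
      subst this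
      norm_num
    · rw [Nat.digits_def' (by norm_num) (by omega)]
      simp only [List.sum_cons]
      have := IH (n / 2) (by omega) (by omega)
      rw [pow_add]
      have hcases : n % 2 = 0 ∨ n % 2 = 1 := by omega
      rcases hcases with h0 | h1
      · rw [h0]
        simp only [pow_zero, one_mul]
        omega
      · rw [h1]
        simp only [pow_one]
        omega

theorem digit_sum_le (n : ℕ) : (Nat.digits 2 n).sum ≤ n := Nat.digit_sum_le 2 n

theorem four_pow_large {n : ℕ} (hn : 30 ≤ n) : 16 * n ^ 2 * 3 ^ (n - 1) ≤ 4 ^ n := by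
  induction n, hn using Nat.le_induction with
  | base => norm_num
  | succ m hm ih =>
    have e1 : m + 1 - 1 = (m - 1) + 1 := by omega
    rw [e1, pow_succ 3 (m - 1), pow_succ 4 m]
    have h3 : 3 * (m + 1) ^ 2 ≤ 4 * m ^ 2 := by nlinarith
    have h0 : 0 < 3 ^ (m - 1) := by positivity
    calc 16 * (m + 1) ^ 2 * (3 ^ (m - 1) * 3) = 16 * (3 * (m + 1) ^ 2) * 3 ^ (m - 1) := by ring
      _ ≤ 16 * (4 * m ^ 2) * 3 ^ (m - 1) := by gcongr
      _ = (16 * m ^ 2 * 3 ^ (m - 1)) * 4 := by ring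
      _ ≤ 4 ^ m * 4 := by gcongr

theorem three_pow_large {n : ℕ} (hn : 30 ≤ n) : 4 * 3 ^ (n - 1) ≤ (2 ^ s2 n) ^ 2 := by
  have h1 := four_pow_large hn
  have h2 := two_pow_digit_sum_le (n := n) (by omega)
  have h3 := digit_sum_le n
  have h4 : 2 ^ s2 n * 2 ^ (Nat.digits 2 n).sum = 2 ^ n := by
    rw [← pow_add, s2]
    congr 1
    omega
  have h5 : (2 ^ s2 n) ^ 2 * (2 ^ (Nat.digits 2 n).sum) ^ 2 = 4 ^ n := by
    rw [← mul_pow, h4, ← pow_mul, mul_comm n 2, pow_mul]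
    norm_num
  have h6 : (2 ^ (Nat.digits 2 n).sum) ^ 2 ≤ (2 * n) ^ 2 := Nat.pow_le_pow_left h2 2
  by_contra hlt
  rw [not_le] at hlt
  have h7 : 4 ^ n ≤ (2 ^ s2 n) ^ 2 * (2 * n) ^ 2 := by
    rw [← h5]
    exact Nat.mul_le_mul_left _ h6
  have h8 : (2 ^ s2 n) ^ 2 * (2 * n) ^ 2 < 4 * 3 ^ (n - 1) * (2 * n) ^ 2 :=
    Nat.mul_lt_mul_of_pos_right hlt (by positivity)
  have h9 : 4 * 3 ^ (n - 1) * (2 * n) ^ 2 = 16 * n ^ 2 * 3 ^ (n - 1) := by ring
  omega

/-- Small cases by kernel evaluation. -/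
theorem T_table : ∀ n < 30, ∀ p ∈ [3, 5, 7, 11, 13, 17, 19, 23, 29], ∀ k < 30,
    p ^ k ∣ n.factorial → p ^ k ≤ T n := by
  decide +kernel

theorem T_prime {n p k : ℕ} (hp : p.Prime) (hd : p ^ k ∣ n.factorial) : p ^ k ≤ T n := by
  by_cases h2 : p = 2
  · subst h2
    exact (Nat.pow_le_pow_right (by norm_num) (le_s2 hd)).trans (two_pow_le_T n)
  rcases Nat.lt_or_ge n 30 with hn | hn
  · rcases Nat.eq_zero_or_pos k with rfl | hk
    · simpa using T_pos n
    have hpn : p ≤ n := by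
      have := (Nat.Prime.dvd_factorial hp).1 ((dvd_pow_self p hk.ne').trans hd)
      exact this
    have hk' : k < 30 := by
      have h3 : 3 ≤ p := by
        have := hp.two_le
        omega
      have hsq := sq_prime_pow_le hp h2 hd
      -- `k` is small
      have hk2 : 3 ^ (2 * k) ≤ 3 ^ (n - 1) := by
        calc 3 ^ (2 * k) = (3 ^ k) ^ 2 := by ring
          _ ≤ (p ^ k) ^ 2 := Nat.pow_le_pow_left (Nat.pow_le_pow_left h3 k) 2
          _ ≤ _ := hsq
      have := (Nat.pow_le_pow_iff_right (by norm_num : 1 < 3)).1 hk2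
      omega
    have hmem : p ∈ [3, 5, 7, 11, 13, 17, 19, 23, 29] := by
      have hlt : p < 30 := by omega
      interval_cases p <;> first | decide | exact absurd rfl h2 | exact absurd hp (by norm_num)
    exact T_table n hn p hmem k hk' hd
  · have hsq := sq_prime_pow_le hp h2 hd
    have hl := three_pow_large hn
    have : (p ^ k) ^ 2 ≤ (2 ^ s2 n) ^ 2 := by omega
    exact ((Nat.pow_le_pow_iff_left (by norm_num)).1 this).trans (two_pow_le_T n)

theorem T_bound (M : ℕ) : Bound T (fun _ => True) M where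
  pos := fun n _ => T_pos n
  mono := fun a b hab _ => T_mono hab
  sup := fun a b _ _ _ => T_sup a b
  prime := fun n _ p k hp _ hd => T_prime hp hd

/-- **Main bound** for all nilpotent permutation groups. -/
theorem card_nilpotent_le {X : Type} [Finite X] (N : Subgroup (Equiv.Perm X))
    (hN : Group.IsNilpotent N) : Nat.card N ≤ T (Nat.card X) :=
  card_subgroup_le (T_bound _) le_rfl N hN fun _ _ _ => trivial

theorem card_sylow_perm {n : ℕ} (P : Sylow 2 (Equiv.Perm (Fin n))) :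
    Nat.card P = 2 ^ s2 n := by
  rw [Sylow.card_eq_multiplicity, Nat.card_eq_fintype_card, Fintype.card_perm, Fintype.card_fin,
    Nat.factorization_def _ Nat.prime_two, s2_eq]

end Cfsg.Agent.Lib.NilpPerm
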