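import Mathlib
import Cfsg.Agent.Lib.NilpPermArith

/-!
# Nilpotent subgroups consisting of even permutations
-/

set_option autoImplicit false
set_option linter.unusedSectionVars false
set_option linter.unusedVariables false

namespace Cfsg.Agent.Lib.NilpPerm

open Equiv MulAction

/-- A nilpotent group splits at a prime. -/
theorem exists_decomp {G : Type*} [Group G] [Finite G] [Group.IsNilpotent G] (p : ℕ)
    [hp : Fact p.Prime] :
    ∃ P Q : Subgroup G, IsPGroup p P ∧ ¬ p ∣ Nat.card Q ∧ Nat.card P * Nat.card Q = Nat.card G ∧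
      (∀ u ∈ P, ∀ v ∈ Q, u * v = v * u) ∧ (∀ g : G, ∃ u ∈ P, ∃ v ∈ Q, g = u * v) := by
  classical
  let P : Sylow p G := default
  have hPcard : Nat.card P = p ^ (Nat.card G).factorization p := Sylow.card_eq_multiplicity P
  obtain ⟨Q, hQ⟩ := Subgroup.exists_right_complement'_of_coprime (N := (P : Subgroup G))
    P.card_coprime_index
  have hmul : Nat.card (P : Subgroup G) * Nat.card Q = Nat.card G := hQ.card_mul
  have hQidx : Nat.card Q = (P : Subgroup G).index := by
    have := (P : Subgroup G).card_mul_index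
    have hpos : 0 < Nat.card (P : Subgroup G) := Nat.card_pos
    exact Nat.eq_of_mul_eq_mul_left hpos (hmul.trans this.symm)
  refine ⟨P, Q, P.isPGroup', ?_, hmul, ?_, ?_⟩
  · rw [hQidx]; exact P.not_dvd_index
  · intro u hu v hv
    have hpg : ∃ k : ℕ, u ^ p ^ k = 1 := by
      refine ⟨(Nat.card G).factorization p, ?_⟩
      rw [← hPcard]
      exact Cfsg.Agent.Lib.CoprimeParts.pow_card_subgroup_eq_one hu
    refine Cfsg.Agent.Lib.PComplement.commute_of_isNilpotent (p := p) hpg ?_
    have hd : orderOf v ∣ Nat.card Q := Subgroup.orderOf_dvd_natCard Q hv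
    rw [hQidx] at hd
    exact (Nat.Coprime.symm ((Nat.Prime.coprime_iff_not_dvd hp.out).2
      (fun hd' => P.not_dvd_index (hd'.trans hd))))
  · intro g
    obtain ⟨⟨u, v⟩, huv⟩ := hQ.2 g
    exact ⟨u, u.2, v, v.2, huv.symm⟩

section Tau

variable {X : Type} [Fintype X] [DecidableEq X]

/-- An involution `t` commuting with a group of odd order: an odd involution commuting with it. -/
theorem exists_odd_involution (K : Subgroup (Perm X)) (hK : Odd (Nat.card K)) (t : Perm X)
    (ht : t * t = 1) (ht1 : t ≠ 1) (hcomm : ∀ k ∈ K, t * k = k * t) :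
    ∃ τ : Perm X, τ * τ = 1 ∧ Perm.sign τ = -1 ∧ ∀ k ∈ K, τ * k = k * τ := by
  classical
  have htt : ∀ y, t (t y) = y := fun y => by
    have := congrArg (fun σ : Perm X => σ y) ht
    simpa using this
  obtain ⟨x, hx⟩ : ∃ x, t x ≠ x := by
    by_contra hall
    push Not at hall
    exact ht1 (Equiv.ext hall)
  -- the orbit of `x`
  let O : Finset X := Finset.univ.filter fun y => y ∈ orbit K x
  have hO : ∀ y, y ∈ O ↔ ∃ k : K, (k : Perm X) x = y := by
    intro y
    simp only [O, Finset.mem_filter, Finset.mem_univ, true_and]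
    rfl
  have hOcard : Odd O.card := by
    have h1 : O.card = (orbit K x).ncard := by
      rw [← Set.ncard_coe_finset]
      congr 1
      ext y
      simp [O]
    have h2 : (orbit K x).ncard = (stabilizer K x).index := (index_stabilizer K x).symm
    have h3 : (stabilizer K x).index ∣ Nat.card K := Subgroup.index_dvd_card _
    rw [h1, h2]
    exact Odd.of_dvd_nat hK h3
  -- `t` moves every point of the orbit out of it
  have hcK : ∀ (k : K) (y : X), t ((k : Perm X) y) = (k : Perm X) (t y) := by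
    intro k y
    exact congrArg (fun σ : Perm X => σ y) (hcomm k k.2)
  have hmove : ∀ y ∈ O, t y ∉ O := by
    intro y hy hty
    obtain ⟨k, rfl⟩ := (hO y).1 hy
    obtain ⟨k', hk'⟩ := (hO _).1 hty
    rw [hcK] at hk'
    -- `t x = l x`
    set l : K := k⁻¹ * k' with hl
    have hlx : (l : Perm X) x = t x := by
      change ((k : Perm X)⁻¹) ((k' : Perm X) x) = t x
      rw [hk']
      simp
    have hl2 : ((l * l : K) : Perm X) x = x := by
      simp only [Subgroup.coe_mul, Perm.coe_mul, Function.comp_apply]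
      rw [hlx, ← hcK, hlx, htt]
    have hst : l * l ∈ stabilizer K x := hl2
    -- odd order
    have hod : Odd (orderOf l) := Odd.of_dvd_nat hK (orderOf_dvd_natCard l)
    obtain ⟨m, hm⟩ := hod
    have hl3 : l ∈ stabilizer K x := by
      have h1 : l ^ (orderOf l + 1) = l := by rw [pow_succ, pow_orderOf_eq_one, one_mul]
      have h2 : (l * l) ^ (m + 1) = l := by
        rw [← h1, ← pow_two, ← pow_mul]
        congr 1
        omega
      rw [← h2]
      exact pow_mem hst _
    have hlx' : (l : Perm X) x = x := hl3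
    exact hx (hlx.symm.trans hlx')
  -- the set `U`
  let U : Finset X := O ∪ O.image t
  have hU : ∀ y, y ∈ U → t y ∈ U := by
    intro y hy
    simp only [U, Finset.mem_union, Finset.mem_image] at hy ⊢
    rcases hy with hy | ⟨z, hz, rfl⟩
    · exact Or.inr ⟨y, hy, rfl⟩
    · rw [htt]
      exact Or.inl hz
  have hfree : ∀ y ∈ U, t y ≠ y := by
    intro y hy hty
    simp only [U, Finset.mem_union, Finset.mem_image] at hy
    rcases hy with hy | ⟨z, hz, rfl⟩
    · exact hmove y hy (by rw [hty]; exact hy)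
    · rw [htt] at hty
      exact hmove z hz (by rw [← hty]; exact hz)
  have hUk : ∀ (k : K) (y : X), y ∈ U → (k : Perm X) y ∈ U := by
    intro k y hy
    simp only [U, Finset.mem_union, Finset.mem_image] at hy ⊢
    rcases hy with hy | ⟨z, hz, rfl⟩
    · left
      obtain ⟨k', rfl⟩ := (hO y).1 hy
      exact (hO _).2 ⟨k * k', rfl⟩
    · right
      obtain ⟨k', rfl⟩ := (hO z).1 hz
      refine ⟨(k : Perm X) ((k' : Perm X) x), (hO _).2 ⟨k * k', rfl⟩, ?_⟩
      rw [hcK]
  have hUk' : ∀ (k : K) (y : X), (k : Perm X) y ∈ U ↔ y ∈ U := by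
    intro k y
    refine ⟨fun h => ?_, hUk k y⟩
    have := hUk k⁻¹ _ h
    simpa using this
  have hinv : Function.Involutive (fun y => if y ∈ U then t y else y) := by
    intro y
    by_cases hy : y ∈ U
    · simp [hy, hU y hy, htt]
    · simp [hy]
  let τ : Perm X := hinv.toPerm
  have hτ : ∀ y, τ y = if y ∈ U then t y else y := fun y => rfl
  have hττ : τ * τ = 1 := by
    ext y
    simp only [Perm.coe_mul, Function.comp_apply, Perm.coe_one, id_eq]
    exact hinv y
  have hsupp : τ.support = U := by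
    ext y
    rw [Perm.mem_support, hτ]
    by_cases hy : y ∈ U
    · simp [hy, hfree y hy]
    · simp [hy]
  have hUcard : U.card = 2 * O.card := by
    have hd : Disjoint O (O.image t) := by
      rw [Finset.disjoint_left]
      intro y hy hy'
      obtain ⟨z, hz, rfl⟩ := Finset.mem_image.1 hy'
      exact hmove z hz hy
    rw [Finset.card_union_of_disjoint hd,
      Finset.card_image_of_injective _ t.injective]
    ring
  have hτ1 : τ ≠ 1 := by
    intro h
    have hmem : x ∈ τ.support := by
      rw [hsupp]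
      exact Finset.mem_union_left _ ((hO x).2 ⟨1, rfl⟩)
    rw [h] at hmem
    simp at hmem
  have hord : orderOf τ = 2 := orderOf_eq_prime (by rw [pow_two, hττ]) hτ1
  have hsign : Perm.sign τ = -1 := by
    obtain ⟨m, hm⟩ := Perm.cycleType_prime_order (σ := τ) (by rw [hord]; exact Nat.prime_two)
    have hsum := Perm.sum_cycleType τ
    rw [hm, hsupp, hUcard, Multiset.sum_replicate, hord, smul_eq_mul] at hsum
    have hm' : m + 1 = O.card := by
      have : (m + 1) * 2 = 2 * O.card := hsum
      omega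
    rw [Perm.sign_of_cycleType, hm, Multiset.sum_replicate, hord, Multiset.card_replicate,
      smul_eq_mul, hm']
    rw [show O.card * 2 + O.card = 3 * O.card by ring]
    exact (Odd.mul (by decide) hOcard).neg_one_pow
  refine ⟨τ, hττ, hsign, ?_⟩
  intro k hk
  ext y
  simp only [Perm.coe_mul, Function.comp_apply]
  rw [hτ, hτ]
  by_cases hy : y ∈ U
  · rw [if_pos ((hUk' ⟨k, hk⟩ y).2 hy), if_pos hy]
    exact hcK ⟨k, hk⟩ y
  · rw [if_neg (fun h => hy ((hUk' ⟨k, hk⟩ y).1 h)), if_neg hy]

/-- The main lemma. -/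
theorem two_mul_card_le (P K : Subgroup (Perm X)) (hP : IsPGroup 2 P)
    (hPeven : P ≤ alternatingGroup X) (hP1 : 2 ∣ Nat.card P) (hK : Odd (Nat.card K))
    (hKn : Group.IsNilpotent K) (hcomm : ∀ u ∈ P, ∀ k ∈ K, u * k = k * u) :
    2 * Nat.card P * Nat.card K ≤ T (Nat.card X) := by
  classical
  -- an involution in `P`
  obtain ⟨t, ht⟩ := exists_prime_orderOf_dvd_card' (G := P) 2 hP1
  have ht2 : (t : Perm X) * t = 1 := by
    have : t ^ 2 = 1 := by rw [← ht, pow_orderOf_eq_one]
    have := congrArg Subtype.val this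
    simpa [pow_two] using this
  have ht1 : (t : Perm X) ≠ 1 := by
    intro h
    have : t = 1 := Subtype.ext h
    rw [this, orderOf_one] at ht
    omega
  obtain ⟨τ, hττ, hsign, hτK⟩ := exists_odd_involution K hK t ht2 ht1
    (fun k hk => hcomm t t.2 k hk)
  -- the centralizer of `K`
  let C : Subgroup (Perm X) := Subgroup.centralizer (K : Set (Perm X))
  have hmemC : ∀ g : Perm X, (∀ k ∈ K, g * k = k * g) → g ∈ C := by
    intro g hg
    rw [Subgroup.mem_centralizer_iff]
    intro k hk
    exact (hg k hk).symm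
  have hPC : P ≤ C := fun u hu => hmemC u (hcomm u hu)
  have hτC : τ ∈ C := hmemC τ hτK
  -- Sylow subgroup of `C` containing `P`
  have hPo : IsPGroup 2 (P.subgroupOf C) := by
    intro g
    obtain ⟨k, hk⟩ := hP ⟨g, g.2⟩
    refine ⟨k, Subtype.ext (Subtype.ext ?_)⟩
    have := congrArg Subtype.val hk
    simpa using this
  obtain ⟨R, hR⟩ := hPo.exists_le_sylow
  let τC : C := ⟨τ, hτC⟩
  have hτ2 : τC ^ 2 = 1 := by
    apply Subtype.ext
    simpa [τC, pow_two] using hττ
  have hzp : IsPGroup 2 (Subgroup.zpowers τC) := by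
    apply IsPGroup.of_card (n := 1)
    rw [Nat.card_zpowers]
    have h1 : τC ≠ 1 := by
      intro h
      have : τ = 1 := congrArg Subtype.val h
      rw [this, map_one] at hsign
      exact absurd hsign (by decide)
    rw [orderOf_eq_prime hτ2 h1, pow_one]
  obtain ⟨R', hR'⟩ := hzp.exists_le_sylow
  obtain ⟨c, hc⟩ := MulAction.exists_smul_eq C R' R
  -- a conjugate of `τ` in `R`
  have hτR' : τC ∈ (R' : Subgroup C) := hR' (Subgroup.mem_zpowers τC)
  have hτ' : c * τC * c⁻¹ ∈ (R : Subgroup C) := by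
    rw [← hc, Sylow.coe_subgroup_smul, Subgroup.mem_pointwise_smul_iff_inv_smul_mem]
    simpa [MulAut.smul_def, MulAut.conj_apply, mul_assoc] using hτR'
  let τ' : Perm X := (c : Perm X) * τ * (c : Perm X)⁻¹
  have hτ'sign : Perm.sign τ' = -1 := by
    simp [τ', hsign]
  let Rb : Subgroup (Perm X) := (R : Subgroup C).map C.subtype
  have hRbcard : Nat.card Rb = Nat.card (R : Subgroup C) :=
    Nat.card_congr ((R : Subgroup C).equivMapOfInjective _ C.subtype_injective).toEquiv.symm
  have hτ'R : τ' ∈ Rb := ⟨_, hτ', rfl⟩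
  have hPR : P ≤ Rb := by
    intro u hu
    exact ⟨⟨u, hPC hu⟩, hR hu, rfl⟩
  have hRbp : IsPGroup 2 Rb := by
    have : IsPGroup 2 (R : Subgroup C) := R.isPGroup'
    exact this.map C.subtype
  -- twice `P` in `R`
  have h2P : 2 * Nat.card P ≤ Nat.card Rb := by
    let φ : Bool × P → Rb := fun q =>
      (if q.1 then ⟨τ', hτ'R⟩ else 1) * ⟨q.2, hPR q.2.2⟩
    have hφ : Function.Injective φ := by
      have hs : ∀ (u : P), Perm.sign (u : Perm X) = 1 := fun u => hPeven u.2
      have hval : ∀ (b : Bool) (u : P), Perm.sign ((φ (b, u) : Rb) : Perm X) =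
          if b then -1 else 1 := by
        rintro b u
        cases b <;> simp [φ, hs, hτ'sign]
      rintro ⟨b, u⟩ ⟨b', u'⟩ h
      have h1 := congrArg (fun r : Rb => Perm.sign (r : Perm X)) h
      simp only [hval] at h1
      have hb : b = b' := by
        cases b <;> cases b' <;> first | rfl | exact absurd h1 (by decide)
      subst hb
      have h2 := mul_left_cancel h
      have h3 : u = u' := Subtype.ext (congrArg (fun r : Rb => (r : Perm X)) h2)
      rw [h3]
    have := Nat.card_le_card_of_injective φ hφ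
    rwa [Nat.card_prod, Nat.card_eq_fintype_card, Fintype.card_bool] at this
  -- `Rb` and `K` commute
  have hRK : ∀ r ∈ Rb, ∀ k ∈ K, r * k = k * r := by
    rintro r ⟨r', -, rfl⟩ k hk
    have := r'.2
    rw [Subgroup.mem_centralizer_iff] at this
    exact (this k hk).symm
  haveI hRn : Group.IsNilpotent Rb := hRbp.isNilpotent
  let f : Rb × K →* Perm X := MonoidHom.noncommCoprod Rb.subtype K.subtype
    (fun r k => hRK r r.2 k k.2)
  have hf : ∀ q : Rb × K, f q = (q.1 : Perm X) * q.2 := fun q => rfl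
  have hfinj : Function.Injective f := by
    rw [injective_iff_map_eq_one]
    rintro ⟨r, k⟩ h
    rw [hf] at h
    simp only at h
    have h1 : (r : Perm X) = (k : Perm X)⁻¹ := eq_inv_of_mul_eq_one_left h
    -- `r` has `2`-power order and odd order
    have h2 : (r : Perm X) ∈ K := h1 ▸ K.inv_mem k.2
    have hodd : Odd (orderOf (r : Perm X)) :=
      Odd.of_dvd_nat hK (Subgroup.orderOf_dvd_natCard K h2)
    obtain ⟨e, he⟩ := hRbp r
    have hr1 : (r : Perm X) = 1 := by
      have hpw : (r : Perm X) ^ 2 ^ e = 1 := congrArg Subtype.val he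
      have hd : orderOf (r : Perm X) ∣ 2 ^ e := orderOf_dvd_of_pow_eq_one hpw
      obtain ⟨i, -, hi⟩ := (Nat.dvd_prime_pow Nat.prime_two).1 hd
      rcases Nat.eq_zero_or_pos i with rfl | hi0
      · simpa using hi
      · rw [hi] at hodd
        exact absurd (Nat.even_pow.2 ⟨even_two, hi0.ne'⟩) (Nat.not_even_iff_odd.2 hodd)
    have hk1 : (k : Perm X) = 1 := by
      rw [hr1, one_mul] at h
      exact h
    exact Prod.ext (Subtype.ext hr1) (Subtype.ext hk1)
  have hnil : Group.IsNilpotent f.range :=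
    Group.nilpotent_of_surjective f.rangeRestrict (MonoidHom.rangeRestrict_surjective _)
  have hcard : Nat.card f.range = Nat.card Rb * Nat.card K := by
    rw [← Nat.card_prod]
    exact Nat.card_congr (MonoidHom.ofInjective hfinj).toEquiv.symm
  have hb := card_nilpotent_le f.range hnil
  rw [hcard] at hb
  exact (Nat.mul_le_mul_right _ h2P).trans hb

/-- **Nilpotent groups of even permutations of even order.** -/
theorem two_mul_card_le_of_even (N : Subgroup (Perm X)) (hN : Group.IsNilpotent N)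
    (heven : N ≤ alternatingGroup X) (h2 : 2 ∣ Nat.card N) :
    2 * Nat.card N ≤ T (Nat.card X) := by
  classical
  haveI := Fact.mk Nat.prime_two
  obtain ⟨P, Q, hP, hQ, hmul, hcomm, hdec⟩ := exists_decomp (G := N) 2
  let P' := P.map N.subtype
  let Q' := Q.map N.subtype
  have hP'c : Nat.card P' = Nat.card P :=
    Nat.card_congr (P.equivMapOfInjective _ N.subtype_injective).toEquiv.symm
  have hQ'c : Nat.card Q' = Nat.card Q :=
    Nat.card_congr (Q.equivMapOfInjective _ N.subtype_injective).toEquiv.symm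
  have hQo : ¬ 2 ∣ Nat.card Q := hQ
  have h2P : 2 ∣ Nat.card P := by
    rw [← hmul] at h2
    exact (Nat.Prime.dvd_mul Nat.prime_two).1 h2 |>.resolve_right hQo
  have key := two_mul_card_le P' Q' (hP.map N.subtype) (by
      rintro _ ⟨u, -, rfl⟩
      exact heven u.2) (by rwa [hP'c]) (by
      rw [hQ'c]
      exact Nat.odd_iff.2 (by omega)) (by
      have : Group.IsNilpotent Q := inferInstance
      exact Group.nilpotent_of_mulEquiv (Q.equivMapOfInjective _ N.subtype_injective)) (by
      rintro _ ⟨u, hu, rfl⟩ _ ⟨k, hk, rfl⟩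
      exact congrArg Subtype.val (hcomm u hu k hk))
  rw [hP'c, hQ'c, mul_assoc, hmul] at key
  exact key

end Tau

/-- The exact maximum for odd groups, for few points. -/
def tab (n : ℕ) : ℕ := [1, 1, 1, 3, 3, 5, 9, 9, 15, 81, 81, 81, 243, 243, 405].getD n 1

theorem tab_prime_table : ∀ n < 15, ∀ p ∈ [3, 5, 7, 11, 13], ∀ k < 15,
    p ^ k ∣ n.factorial → p ^ k ≤ tab n := by
  decide +kernel

theorem tab_bound : Bound tab (· ≠ 2) 14 where
  pos := by decide +kernel
  mono := by
    have : ∀ b < 15, ∀ a < 15, a ≤ b → tab a ≤ tab b := by decide +kernel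
    intro a b hab hb
    exact this b (by omega) a (by omega) hab
  sup := by
    have : ∀ a < 15, ∀ b < 15, 1 ≤ a → 1 ≤ b → a + b ≤ 14 → tab a * tab b ≤ tab (a + b) := by
      decide +kernel
    intro a b ha hb hab
    exact this a (by omega) b (by omega) ha hb hab
  prime := by
    intro n hn p k hp h2 hd
    have hnl : n < 15 := by omega
    rcases Nat.eq_zero_or_pos k with rfl | hk
    · have : ∀ n < 15, 1 ≤ tab n := by decide +kernel
      simpa using this n hnl
    have hpn : p ≤ n := (Nat.Prime.dvd_factorial hp).1 ((dvd_pow_self p hk.ne').trans hd)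
    have hk' : k < 15 := by
      have h3 : 3 ≤ p := by
        have := hp.two_le
        omega
      have hsq := sq_prime_pow_le hp h2 hd
      have hk2 : 3 ^ (2 * k) ≤ 3 ^ (n - 1) := by
        calc 3 ^ (2 * k) = (3 ^ k) ^ 2 := by ring
          _ ≤ (p ^ k) ^ 2 := Nat.pow_le_pow_left (Nat.pow_le_pow_left h3 k) 2
          _ ≤ _ := hsq
      have := (Nat.pow_le_pow_iff_right (by norm_num : 1 < 3)).1 hk2
      omega
    have hmem : p ∈ [3, 5, 7, 11, 13] := by
      have hlt : p < 15 := by omega
      interval_cases p <;> first | decide | exact absurd rfl h2 | exact absurd hp (by norm_num)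
    exact tab_prime_table n hnl p hmem k hk' hd

theorem sqrt_bound (M : ℕ) : Bound (fun n => Nat.sqrt (3 ^ (n - 1))) (· ≠ 2) M where
  pos := fun n _ => Nat.sqrt_pos.2 (by positivity)
  mono := fun a b hab _ => Nat.sqrt_le_sqrt (Nat.pow_le_pow_right (by norm_num) (by omega))
  sup := by
    intro a b ha hb _
    apply Nat.le_sqrt.2
    have h1 := Nat.sqrt_le (3 ^ (a - 1))
    have h2 := Nat.sqrt_le (3 ^ (b - 1))
    set x := Nat.sqrt (3 ^ (a - 1))
    set y := Nat.sqrt (3 ^ (b - 1))
    calc x * y * (x * y) = (x * x) * (y * y) := by ring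
      _ ≤ 3 ^ (a - 1) * 3 ^ (b - 1) := Nat.mul_le_mul h1 h2
      _ = 3 ^ (a - 1 + (b - 1)) := by rw [pow_add]
      _ ≤ 3 ^ (a + b - 1) := Nat.pow_le_pow_right (by norm_num) (by omega)
  prime := by
    intro n _ p k hp h2 hd
    apply Nat.le_sqrt.2
    have := sq_prime_pow_le hp h2 hd
    rwa [pow_two] at this

theorem tab_le : ∀ n < 15, n % 4 ≠ 3 → n ≠ 5 → n ≠ 6 → n ≠ 9 → tab n ≤ 2 ^ (s2 n - 1) := by
  decide +kernel

theorem mid_le : ∀ n < 30, 15 ≤ n → n % 4 ≠ 3 → 3 ^ (n - 1) ≤ (2 ^ (s2 n - 1)) ^ 2 := by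
  decide +kernel

/-- Odd nilpotent permutation groups. -/
theorem card_le_of_odd {X : Type} [Finite X] (N : Subgroup (Perm X)) (hN : Group.IsNilpotent N)
    (h2 : ¬ 2 ∣ Nat.card N) (hn : Nat.card X % 4 ≠ 3) (h5 : Nat.card X ≠ 5) (h6 : Nat.card X ≠ 6)
    (h9 : Nat.card X ≠ 9) : Nat.card N ≤ 2 ^ (s2 (Nat.card X) - 1) := by
  have hπ : ∀ p, p.Prime → p ∣ Nat.card N → p ≠ 2 := by
    rintro p hp hd rfl
    exact h2 hd
  rcases Nat.lt_or_ge (Nat.card X) 15 with h15 | h15
  · exact (card_subgroup_le tab_bound (by omega) N hN hπ).trans (tab_le _ h15 hn h5 h6 h9)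
  · have hb := card_subgroup_le (sqrt_bound (Nat.card X)) le_rfl N hN hπ
    refine hb.trans ?_
    have hsq : 3 ^ (Nat.card X - 1) ≤ (2 ^ (s2 (Nat.card X) - 1)) ^ 2 := by
      rcases Nat.lt_or_ge (Nat.card X) 30 with h30 | h30
      · exact mid_le _ h30 h15 hn
      · have hl := three_pow_large h30
        have hs : 1 ≤ s2 (Nat.card X) := by
          apply le_s2
          rw [pow_one]
          exact Nat.dvd_factorial (by norm_num) (by omega)
        have e : (2 ^ s2 (Nat.card X)) ^ 2 = 4 * (2 ^ (s2 (Nat.card X) - 1)) ^ 2 := by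
          obtain ⟨m, hm⟩ : ∃ m, s2 (Nat.card X) = m + 1 := ⟨_, (Nat.sub_add_cancel hs).symm⟩
          rw [hm, Nat.add_sub_cancel, pow_succ]
          ring
        rw [e] at hl
        omega
    calc Nat.sqrt (3 ^ (Nat.card X - 1)) ≤ Nat.sqrt ((2 ^ (s2 (Nat.card X) - 1)) ^ 2) :=
          Nat.sqrt_le_sqrt hsq
      _ = 2 ^ (s2 (Nat.card X) - 1) := Nat.sqrt_eq' _

/-- **The bound in the alternating group.** -/
theorem card_le_alt {X : Type} [Fintype X] [DecidableEq X] (N : Subgroup (Perm X))
    (hN : Group.IsNilpotent N) (heven : N ≤ alternatingGroup X)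
    (hn : Nat.card X % 4 ≠ 3) (h5 : Nat.card X ≠ 5) (h6 : Nat.card X ≠ 6)
    (h9 : Nat.card X ≠ 9) : Nat.card N ≤ 2 ^ (s2 (Nat.card X) - 1) := by
  by_cases h2 : 2 ∣ Nat.card N
  · have h := two_mul_card_le_of_even N hN heven h2
    rw [T_of_not hn] at h
    have hpos : 0 < Nat.card N := Nat.card_pos
    rcases Nat.eq_zero_or_pos (s2 (Nat.card X)) with h0 | h0
    · rw [h0] at h
      simp at h
      omega
    · obtain ⟨m, hm⟩ : ∃ m, s2 (Nat.card X) = m + 1 := ⟨_, (Nat.sub_add_cancel h0).symm⟩
      rw [hm, pow_succ] at h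
      rw [hm, Nat.add_sub_cancel]
      omega
  · exact card_le_of_odd N hN h2 hn h5 h6 h9

theorem card_sylow_alt {n : ℕ} (P : Sylow 2 (alternatingGroup (Fin n))) :
    Nat.card P = 2 ^ (s2 n - 1) := by
  rw [Sylow.card_eq_multiplicity, Nat.factorization_def _ Nat.prime_two]
  congr 1
  rcases Nat.lt_or_ge n 2 with h | h
  · have hs : s2 n = 0 := by
      have : ∀ n < 2, s2 n = 0 := by decide
      exact this n h
    rw [hs]
    haveI : Subsingleton (Fin n) := by
      rw [Fin.subsingleton_iff_le_one]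
      omega
    have : Nat.card (alternatingGroup (Fin n)) = 1 := Nat.card_unique
    rw [this]
    simp
  · haveI : Nontrivial (Fin n) := Fin.nontrivial_iff_two_le.2 h
    have h1 := two_mul_nat_card_alternatingGroup (α := Fin n)
    have hpos : Nat.card (alternatingGroup (Fin n)) ≠ 0 := Nat.card_pos.ne'
    have h2 : s2 n = 1 + padicValNat 2 (Nat.card (alternatingGroup (Fin n))) := by
      have h3 : n.factorial = Nat.card (Perm (Fin n)) := by
        rw [Nat.card_eq_fintype_card, Fintype.card_perm, Fintype.card_fin]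
      rw [s2_eq, h3, ← h1, padicValNat.mul (by norm_num) hpos, padicValNat.self (by norm_num)]
    omega

end Cfsg.Agent.Lib.NilpPerm
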