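import Mathlib
import Cfsg.Agent.Lib.NoDiv17A
import Cfsg.Agent.Lib.ThreeDeg31F
import Cfsg.Agent.S0154
import Cfsg.Agent.S0033

/-!
# Generic character-theoretic lemmas for the no-divisibility theorem
-/

set_option autoImplicit false
set_option linter.style.haveILetI false
set_option linter.unusedVariables false
set_option linter.unusedSectionVars false

namespace Cfsg.Agent.Lib.NoDiv17

open Cfsg Cfsg.Agent.Lib.CharBasic Cfsg.Agent.Lib.CharInd Cfsg.Agent.Lib.CharKernel
open Cfsg.Agent.Lib.Clifford Cfsg.Agent.Lib.CliffDvd Cfsg.Agent.Lib.TwoDeg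
open Cfsg.Agent.Lib.ThreeDeg31
open scoped ComplexConjugate commutatorElement

universe u

section Generic

variable {X : Type u} [Group X] [Finite X]

/-- Characters separate conjugacy classes. -/
theorem isConj_of_chars_eq {a b : X}
    (h : ∀ χ : IrrCharacter X, (χ : X → ℂ) a = (χ : X → ℂ) b) : IsConj a b := by
  classical
  haveI : Fintype X := Fintype.ofFinite X
  by_contra hne
  have h1 := sum_irr_mul_conj a b
  rw [if_neg hne] at h1
  have h2 := sum_irr_mul_conj b b
  rw [if_pos (IsConj.refl b)] at h2
  have h3 : ∑ χ : IrrCharacter X, (χ : X → ℂ) a * conj ((χ : X → ℂ) b) =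
      ∑ χ : IrrCharacter X, (χ : X → ℂ) b * conj ((χ : X → ℂ) b) :=
    Finset.sum_congr rfl fun χ _ => by rw [h χ]
  rw [h1, h2] at h3
  have h4 : (Nat.card (Subgroup.centralizer ({b} : Set X)) : ℂ) ≠ 0 := by
    exact_mod_cast Nat.card_pos.ne'
  exact h4 h3.symm

/-- The value of a homomorphism to `ℂˣ` on a finite group has norm one. -/
theorem hom_mul_conj (f : X →* ℂˣ) (g : X) :
    ((f g : ℂˣ) : ℂ) * conj ((f g : ℂˣ) : ℂ) = 1 := by
  have h1 : ((f g : ℂˣ) : ℂ) ^ (Nat.card X) = 1 := by
    have h2 : (f g) ^ (Nat.card X) = 1 := by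
      rw [← map_pow, pow_card_eq_one', map_one]
    simpa using congrArg Units.val h2
  have h3 : ‖((f g : ℂˣ) : ℂ)‖ = 1 :=
    Complex.norm_eq_one_of_pow_eq_one h1 Nat.card_pos.ne'
  rw [Complex.mul_conj, Complex.normSq_eq_norm_sq, h3]
  simp

/-- If all nonlinear irreducible characters vanish at `g`, then the centralizer of `g` has order
the index of the commutator subgroup. -/
theorem card_centralizer_of_vanish {g : X}
    (h : ∀ χ : IrrCharacter X, charDegree (χ : X → ℂ) ≠ 1 → (χ : X → ℂ) g = 0) :
    Nat.card (Subgroup.centralizer ({g} : Set X)) = (commutator X).index := by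
  classical
  haveI : Fintype X := Fintype.ofFinite X
  have h1 := sum_irr_mul_conj g g
  rw [if_pos (IsConj.refl g)] at h1
  have h2 : ∀ χ : IrrCharacter X, (χ : X → ℂ) g * conj ((χ : X → ℂ) g) =
      if (χ : X → ℂ) 1 = 1 then 1 else 0 := by
    intro χ
    have hc := IsIrrCharacter.isCharacter χ.2
    by_cases h3 : (χ : X → ℂ) 1 = 1
    · rw [if_pos h3]
      obtain ⟨f, hf⟩ := exists_hom_of_degree_one hc h3
      rw [hf]
      exact hom_mul_conj f g
    · rw [if_neg h3, h χ, zero_mul]
      intro h4
      apply h3
      rw [one_eq_charDegree hc, h4]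
      simp
  have h3 : ((Nat.card (Subgroup.centralizer ({g} : Set X)) : ℕ) : ℂ) =
      (((commutator X).index : ℕ) : ℂ) := by
    rw [← h1, Finset.sum_congr rfl fun χ _ => h2 χ, ← Cfsg.Agent.S0154.result, Finset.sum_boole]
    congr 1
    rw [Nat.card_eq_fintype_card, Fintype.card_subtype]
  exact_mod_cast h3

/-- Twisting: if all nonlinear characters are invariant under `σ`, they vanish where `σ` moves an
element outside the commutator subgroup. -/
theorem vanish_of_twist (σ : X → X)
    (hσ : ∀ θ : IrrCharacter X, charDegree (θ : X → ℂ) ≠ 1 → ∀ x, (θ : X → ℂ) (σ x) = (θ : X → ℂ) x)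
    {g : X} (hg : σ g * g⁻¹ ∉ commutator X) (θ : IrrCharacter X)
    (hθ : charDegree (θ : X → ℂ) ≠ 1) : (θ : X → ℂ) g = 0 := by
  obtain ⟨l, hl⟩ : ∃ l : X →* ℂˣ, l (σ g * g⁻¹) ≠ 1 := by
    by_contra hno
    push Not at hno
    exact hg (mem_commutator_of_hom _ hno)
  have hirr := Cfsg.Agent.Lib.DetChar.isIrr_mul_hom l θ.2
  let θ' : IrrCharacter X := ⟨_, hirr⟩
  have hval : ∀ x, (θ' : X → ℂ) x = ((l x : ℂˣ) : ℂ) * (θ : X → ℂ) x := fun x => rfl
  have hdeg : charDegree (θ' : X → ℂ) ≠ 1 := by
    have : charDegree (θ' : X → ℂ) = charDegree (θ : X → ℂ) := by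
      unfold charDegree
      rw [hval, map_one]
      simp
    rwa [this]
  have h1 := hσ θ' hdeg g
  rw [hval, hval, hσ θ hθ g] at h1
  have h2 : ((l (σ g) : ℂˣ) : ℂ) ≠ ((l g : ℂˣ) : ℂ) := by
    intro h3
    apply hl
    rw [map_mul, map_inv, Units.ext h3, mul_inv_cancel]
  have h3 : (((l (σ g) : ℂˣ) : ℂ) - ((l g : ℂˣ) : ℂ)) * (θ : X → ℂ) g = 0 := by
    rw [sub_mul, h1, sub_self]
  exact (mul_eq_zero.mp h3).resolve_left (sub_ne_zero.mpr h2)

/-- A homomorphism to `ℂˣ` is trivial on the commutator subgroup. -/
theorem hom_eq_one_of_mem_commutator (f : X →* ℂˣ) {g : X} (hg : g ∈ commutator X) : f g = 1 := by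
  have h1 : commutator X ≤ f.ker := by
    rw [commutator_def, Subgroup.commutator_le]
    intro a _ b _
    rw [MonoidHom.mem_ker, commutatorElement_def, map_mul, map_mul, map_mul, map_inv, map_inv]
    rw [mul_comm (f a) (f b)]
    group
  exact h1 hg

/-- An automorphism leaving all nonlinear characters invariant moves elements of the commutator
subgroup inside their conjugacy classes. -/
theorem isConj_of_mem_commutator (σ : MulAut X)
    (hσ : ∀ θ : IrrCharacter X, charDegree (θ : X → ℂ) ≠ 1 → ∀ x, (θ : X → ℂ) (σ x) = (θ : X → ℂ) x)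
    {g : X} (hg : g ∈ commutator X) : IsConj (σ g) g := by
  apply isConj_of_chars_eq
  intro χ
  by_cases h : charDegree (χ : X → ℂ) = 1
  · have hc := IsIrrCharacter.isCharacter χ.2
    have h1 : (χ : X → ℂ) 1 = 1 := by
      rw [one_eq_charDegree hc, h]
      simp
    obtain ⟨f, hf⟩ := exists_hom_of_degree_one hc h1
    rw [hf, hf, hom_eq_one_of_mem_commutator f hg]
    have h2 : f (σ g) = (f.comp σ.toMonoidHom) g := rfl
    rw [h2, hom_eq_one_of_mem_commutator _ hg]
  · exact hσ χ h g

/-- A character whose kernel contains the commutator subgroup is linear. -/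
theorem linear_of_commutator_le {χ : X → ℂ} (hχ : IsIrrCharacter X χ)
    (h : ∀ x ∈ commutator X, χ x = χ 1) : χ 1 = 1 := by
  classical
  haveI : Fintype X := Fintype.ofFinite X
  have hc := IsIrrCharacter.isCharacter hχ
  obtain ⟨β, hβ, hβe⟩ := exists_quotient_irr (commutator X) hχ h
  have h1 : (β : X ⧸ commutator X → ℂ) 1 = 1 := by
    apply Cfsg.Agent.Lib.CharCodegP.irr_one_of_comm _ hβ
    intro a b
    exact mul_comm (G := Abelianization X) a b
  have h2 := hβe 1
  rw [← h2]
  exact h1

end Generic

section LemmaL

/-- **Lemma L**: a prime dividing the order of a nilpotent group divides the order of its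
abelianization. -/
theorem dvd_index_commutator : ∀ (n : ℕ) (J : Type u) [Group J] [Finite J],
    Nat.card J = n → Group.IsNilpotent J → ∀ s : ℕ, s.Prime → s ∣ Nat.card J →
    s ∣ (commutator J).index := by
  intro n
  induction n using Nat.strong_induction_on with
  | _ n ih =>
    intro J _ _ hn hnil s hs hd
    haveI : Fact s.Prime := ⟨hs⟩
    by_cases hZ : s ∣ (Subgroup.center J).index
    · -- pass to the central quotient
      haveI : Nontrivial J := by
        by_contra hnt
        rw [not_nontrivial_iff_subsingleton] at hnt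
        rw [Nat.card_of_subsingleton (1 : J)] at hd
        exact hs.one_lt.ne' (Nat.dvd_one.mp hd)
      have hcen : Nontrivial (Subgroup.center J) :=
        (Subgroup.nontrivial_iff_ne_bot _).mpr (Group.IsNilpotent.center_ne_bot J)
      let π : J →* J ⧸ Subgroup.center J := QuotientGroup.mk' _
      have hπ : Function.Surjective π := QuotientGroup.mk'_surjective _
      have hlt : Nat.card (J ⧸ Subgroup.center J) < n := by
        have h1 := Subgroup.card_mul_index (Subgroup.center J)
        have h2 : 1 < Nat.card (Subgroup.center J) := Finite.one_lt_card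
        rw [← hn, ← h1]
        have h3 : 0 < (Subgroup.center J).index := Nat.pos_of_ne_zero Subgroup.index_ne_zero_of_finite
        have h4 : Nat.card (J ⧸ Subgroup.center J) = (Subgroup.center J).index := rfl
        rw [h4]
        nlinarith
      have hnilQ : Group.IsNilpotent (J ⧸ Subgroup.center J) := inferInstance
      have h1 := ih _ hlt (J ⧸ Subgroup.center J) rfl hnilQ s hs hZ
      have h2 : commutator J ≤ (commutator (J ⧸ Subgroup.center J)).comap π := by
        rw [commutator_def, Subgroup.commutator_le]
        intro a _ b _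
        rw [Subgroup.mem_comap, map_commutatorElement]
        exact Subgroup.commutator_mem_commutator (Subgroup.mem_top _) (Subgroup.mem_top _)
      have h3 := Subgroup.index_dvd_of_le h2
      rw [Subgroup.index_comap_of_surjective _ hπ] at h3
      exact h1.trans h3
    · -- transfer
      have h1 : s ∣ Nat.card (Subgroup.center J) := by
        rw [← Subgroup.card_mul_index (Subgroup.center J)] at hd
        exact (hs.dvd_mul.mp hd).resolve_right hZ
      obtain ⟨z, hz⟩ := exists_prime_orderOf_dvd_card' s h1
      let τ := MonoidHom.transferCenterPow J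
      have h2 : (τ (z : J) : J) = (z : J) ^ (Subgroup.center J).index := by
        exact MonoidHom.transferCenterPow_apply (G := J) _
      have h3 : τ (z : J) ≠ 1 := by
        intro h4
        have h5 : (z : J) ^ (Subgroup.center J).index = 1 := by
          rw [← h2, h4]
          rfl
        have h6 : z ^ (Subgroup.center J).index = 1 := Subtype.ext h5
        rw [← orderOf_dvd_iff_pow_eq_one, hz] at h6
        exact hZ h6
      have h4 : (z : J) ∉ commutator J := by
        intro h5
        have h6 : commutator J ≤ τ.ker := by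
          rw [commutator_def, Subgroup.commutator_le]
          intro a _ b _
          rw [MonoidHom.mem_ker, commutatorElement_def, map_mul, map_mul, map_mul, map_inv, map_inv]
          have hc : τ a * τ b = τ b * τ a :=
            Subtype.ext (Subgroup.mem_center_iff.mp (τ b).2 (τ a : J))
          rw [hc]
          group
        exact h3 (h6 h5)
      -- the image of `z` in the abelianization has order `s`
      let ζ : J ⧸ commutator J := ((z : J) : J ⧸ commutator J)
      have h7 : ζ ≠ 1 := by
        intro h8
        exact h4 ((QuotientGroup.eq_one_iff (z : J)).mp h8)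
      have h8 : ζ ^ s = 1 := by
        show (((z : J) ^ s : J) : J ⧸ commutator J) = 1
        have h9 : z ^ s = 1 := by
          rw [← hz]
          exact pow_orderOf_eq_one z
        have h10 : (z : J) ^ s = 1 := congrArg Subtype.val h9
        rw [h10]
        rfl
      have h9 : orderOf ζ = s := orderOf_eq_prime h8 h7
      rw [← h9]
      exact orderOf_dvd_natCard ζ

end LemmaL

end Cfsg.Agent.Lib.NoDiv17
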