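import Mathlib
import Cfsg.Agent.Lib.NoDiv17B

/-!
# The split setting for the no-divisibility theorem
-/

set_option autoImplicit false
set_option linter.style.haveILetI false
set_option linter.unusedVariables false
set_option linter.unusedSectionVars false

namespace Cfsg.Agent.Lib.NoDiv17

open Cfsg Cfsg.Agent.Lib.CharBasic Cfsg.Agent.Lib.CharInd Cfsg.Agent.Lib.CharKernel
open Cfsg.Agent.Lib.Clifford Cfsg.Agent.Lib.CliffDvd Cfsg.Agent.Lib.TwoDeg
open Cfsg.Agent.Lib.ThreeDeg31
open scoped ComplexConjugate commutatorElement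

universe u

/-- A nonlinear degree dividing a degree is equal to it. -/
def NoDivD (X : Type u) [Group X] : Prop :=
  ∀ θ θ' : IrrCharacter X, charDegree (θ : X → ℂ) ≠ 1 →
    charDegree (θ : X → ℂ) ∣ charDegree (θ' : X → ℂ) →
    charDegree (θ : X → ℂ) = charDegree (θ' : X → ℂ)

section Dual

variable {J : Type u} [Group J] [Finite J]

instance dual_finite : Finite (J →* ℂˣ) := by
  have : Finite {χ : IrrCharacter J // (χ : J → ℂ) 1 = 1} := inferInstance
  exact Finite.of_equiv _ (Cfsg.Agent.S0154.linEquiv J)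

theorem card_dual : Nat.card (J →* ℂˣ) = (commutator J).index := by
  rw [← Nat.card_congr (Cfsg.Agent.S0154.linEquiv J), Cfsg.Agent.S0154.result]

end Dual

section Split

variable {X : Type u} [Group X] [Finite X]

/-- The split setting. -/
structure SplitData (J H : Subgroup X) : Prop where
  inf : J ⊓ H = ⊥
  sup : J ⊔ H = ⊤
  Hab : ∀ a ∈ H, ∀ b ∈ H, a * b = b * a
  comm : commutator X = J

variable (J H : Subgroup X) [hJ : J.Normal]

/-- The action on the dual as automorphisms. -/
noncomputable def dualAut (h : X) : MulAut (J →* ℂˣ) where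
  toFun := act J h
  invFun := act J h⁻¹
  left_inv l := by rw [← act_mul, mul_inv_cancel, act_one]
  right_inv l := by rw [← act_mul, inv_mul_cancel, act_one]
  map_mul' := act_mul_hom J h

theorem dualAut_apply (h : X) (l : J →* ℂˣ) : dualAut J h l = act J h l := rfl

variable {J H}

/-- Each nontrivial linear character of `J` gives a nonlinear degree. -/
theorem exists_deg_of_stab (hd : SplitData J H) (r : X →* H) (hr : ∀ x : H, r x = x)
    (hker : ∀ g, r g = 1 ↔ g ∈ J) {l : J →* ℂˣ} (hl : l ≠ 1) :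
    ∃ χ : IrrCharacter X, charDegree (χ : X → ℂ) = (stab J H l).index ∧
      charDegree (χ : X → ℂ) ≠ 1 := by
  obtain ⟨χ, h1, h2⟩ := exists_char_of_stab J H r hr hker l ⟨fun _ => 1, isIrrCharacter_one⟩
  have hone : charDegree (fun _ : stab J H l => (1 : ℂ)) = 1 := charDegree_of_one (by simp)
  have h3 : charDegree (χ : X → ℂ) = (stab J H l).index := by
    rw [h1]
    change _ * charDegree (fun _ : stab J H l => (1 : ℂ)) = _
    rw [hone, mul_one]
  refine ⟨χ, h3, fun h4 => hl (h2 ?_)⟩
  have hc := IsIrrCharacter.isCharacter χ.2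
  have h5 : (χ : X → ℂ) 1 = 1 := by
    rw [one_eq_charDegree hc, h4]
    simp
  obtain ⟨f, hf⟩ := exists_hom_of_degree_one hc h5
  intro k hk
  rw [h5, hf, hom_eq_one_of_mem_commutator f (by rw [hd.comm]; exact hk)]
  rfl

theorem act_comm (hd : SplitData J H) (h t : H) (l : J →* ℂˣ) :
    act J (h : X) (act J (t : X) l) = act J (t : X) (act J (h : X) l) := by
  rw [← act_mul, ← act_mul, hd.Hab t t.2 h h.2]

/-- The stabilizers of nontrivial linear characters coincide. -/
theorem act_fix_uniform (hd : SplitData J H) (hnd : NoDivD X) {l l' : J →* ℂˣ} (hl : l ≠ 1)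
    (hl' : l' ≠ 1) {t : H} (ht : act J (t : X) l = l) : act J (t : X) l' = l' := by
  obtain ⟨r, hr, hker⟩ := exists_retraction J H hd.sup hd.inf
  refine stab_le_of_antichain (W := J →* ℂˣ) (H := H) (ac := fun h => dualAut J (h : X)) ?_ ?_
    hl hl' ht
  · intro h t w
    exact act_comm hd h t w
  · intro a b ha hb hab
    have hle : stab J H a ≤ stab J H b := fun h hh => hab h hh
    obtain ⟨χa, h1, -⟩ := exists_deg_of_stab hd r hr hker ha
    obtain ⟨χb, h2, h3⟩ := exists_deg_of_stab hd r hr hker hb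
    have h4 : charDegree (χb : X → ℂ) ∣ charDegree (χa : X → ℂ) := by
      rw [h1, h2]
      exact Subgroup.index_dvd_of_le hle
    have h5 := hnd χb χa h3 h4
    rw [h1, h2] at h5
    have h6 : Nat.card (stab J H a) = Nat.card (stab J H b) := by
      have e1 := Subgroup.card_mul_index (stab J H a)
      have e2 := Subgroup.card_mul_index (stab J H b)
      rw [← e2, h5] at e1
      exact Nat.eq_of_mul_eq_mul_right (Nat.pos_of_ne_zero Subgroup.index_ne_zero_of_finite) e1
    have h7 : stab J H a = stab J H b := Subgroup.eq_of_le_of_card_ge hle h6.ge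
    intro h hh
    have h8 : h ∈ stab J H b := hh
    rw [← h7] at h8
    exact h8

/-- The index of the common stabilizer divides `|W| - 1`. -/
theorem index_stab_dvd (hd : SplitData J H) (hnd : NoDivD X) {l₀ : J →* ℂˣ} (hl₀ : l₀ ≠ 1) :
    (stab J H l₀).index ∣ Nat.card (J →* ℂˣ) - 1 := by
  classical
  let A : MulAction H (J →* ℂˣ) :=
    { smul := fun h l => act J ((h : X)⁻¹) l
      one_smul := fun l => by
        show act J (((1 : H) : X)⁻¹) l = l
        simp [act_one]
      mul_smul := fun h h' l => by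
        show act J (((h * h' : H) : X)⁻¹) l = act J ((h : X)⁻¹) (act J ((h' : X)⁻¹) l)
        rw [← act_mul]
        congr 1
        simp }
  letI := A
  have hsm : ∀ (h : H) (l : J →* ℂˣ), h • l = act J ((h : X)⁻¹) l := fun h l => rfl
  let rel : Setoid {l : J →* ℂˣ // l ≠ 1} := Setoid.comap Subtype.val (MulAction.orbitRel H _)
  rw [← card_ne_one]
  apply dvd_card_of_classes rel
  rintro ⟨l, hl⟩
  -- the stabilizer
  have hstab : MulAction.stabilizer H l = stab J H l₀ := by
    ext h
    rw [MulAction.mem_stabilizer_iff, hsm, mem_stab]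
    constructor
    · intro h1
      have h2 : act J (h : X) l = l := by
        have h3 := act_mul J (h : X)⁻¹ (h : X) l
        rw [inv_mul_cancel, act_one, h1] at h3
        exact h3.symm
      exact act_fix_uniform hd hnd hl hl₀ h2
    · intro h1
      have h2 : act J (h : X) l = l := act_fix_uniform hd hnd hl₀ hl h1
      have h3 := act_mul J (h : X) (h : X)⁻¹ l
      rw [mul_inv_cancel, act_one, h2] at h3
      exact h3.symm
  rw [← hstab]
  have e1 : {y : {l : J →* ℂˣ // l ≠ 1} // rel.r ⟨l, hl⟩ y} ≃ MulAction.orbit H l := by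
    refine
      { toFun := fun y => ⟨y.1.1, ?_⟩
        invFun := fun y => ⟨⟨y.1, ?_⟩, ?_⟩
        left_inv := fun y => rfl
        right_inv := fun y => rfl }
    · exact MulAction.orbitRel_apply.mp (Setoid.symm' (MulAction.orbitRel H _) y.2)
    · obtain ⟨g, hg⟩ := y.2
      intro h1
      apply hl
      have h2 : dualAut J ((g : X)⁻¹) l = 1 := by
        rw [← h1, ← hg]
        rfl
      exact (map_eq_one_iff (dualAut J ((g : X)⁻¹)) (dualAut J ((g : X)⁻¹)).injective).mp h2
    · exact Setoid.symm' (MulAction.orbitRel H _) (MulAction.orbitRel_apply.mpr y.2)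
  rw [Nat.card_congr e1, Nat.card_congr (MulAction.orbitEquivQuotientStabilizer H l)]
  rfl


section Over

variable [Fintype X] [Fintype J]

/-- The index of the inertia group divides the degree. -/
theorem index_inertia_dvd {ν : J → ℂ} (hν : IsIrrCharacter J ν) {θ : X → ℂ}
    (hθ : IsIrrCharacter X θ) (hcon : classInner (fun n : J => θ n) ν ≠ 0) :
    (Cfsg.Agent.Lib.DegreeDiv.inertia J hJ ν).index ∣ charDegree θ := by
  classical
  set T := Cfsg.Agent.Lib.DegreeDiv.inertia J hJ ν with hT
  have hJT : J ≤ T :=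
    Cfsg.Agent.Lib.DegreeDiv.le_inertia J hJ (IsIrrCharacter.isCharacter hν)
  haveI : Fintype T := Fintype.ofFinite _
  obtain ⟨ψ, hψ, hind, -⟩ := exists_inertia_char J T hν
    (Cfsg.Agent.Lib.DegreeDiv.mem_inertia J hJ ν) hJT hθ hcon
  have h1 := indFun_one T ψ
  rw [hind, one_eq_charDegree (IsIrrCharacter.isCharacter hθ),
    one_eq_charDegree (IsIrrCharacter.isCharacter hψ)] at h1
  have h2 : charDegree θ = T.index * charDegree ψ := by exact_mod_cast h1
  rw [h2]
  exact Dvd.intro _ rfl

/-- A subgroup of `H` containing the part of the inertia group in `H` has index dividing the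
degree. -/
theorem index_dvd_deg_of_over (r : X →* H) (hr : ∀ x : H, r x = x)
    (hker : ∀ g, r g = 1 ↔ g ∈ J) {ν : J → ℂ} (hν : IsIrrCharacter J ν) {θ : X → ℂ}
    (hθ : IsIrrCharacter X θ) (hcon : classInner (fun n : J => θ n) ν ≠ 0) (K : Subgroup H)
    (hK : ∀ h : H, (h : X) ∈ Cfsg.Agent.Lib.DegreeDiv.inertia J hJ ν → h ∈ K) :
    K.index ∣ charDegree θ := by
  set T := Cfsg.Agent.Lib.DegreeDiv.inertia J hJ ν with hT
  have hJT : J ≤ T :=
    Cfsg.Agent.Lib.DegreeDiv.le_inertia J hJ (IsIrrCharacter.isCharacter hν)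
  have hle : T ≤ K.comap r := by
    intro g hg
    rw [Subgroup.mem_comap]
    apply hK
    have h1 : g * ((r g : H) : X)⁻¹ ∈ T := hJT (kpart_mem J H r hr hker g)
    have h2 : ((r g : H) : X) = (g * ((r g : H) : X)⁻¹)⁻¹ * g := by group
    rw [h2]
    exact T.mul_mem (T.inv_mem h1) hg
  have h1 := Subgroup.index_dvd_of_le hle
  rw [Subgroup.index_comap_of_surjective K (r_surj H r hr)] at h1
  exact h1.trans (index_inertia_dvd hν hθ hcon)

end Over

/-- Membership in the inertia group of a linear character. -/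
theorem mem_inertia_linear {l : J →* ℂˣ} {g : X} :
    g ∈ Cfsg.Agent.Lib.DegreeDiv.inertia J hJ (fun n : J => ((l n : ℂˣ) : ℂ)) ↔ act J g l = l := by
  rw [Cfsg.Agent.Lib.DegreeDiv.mem_inertia]
  constructor
  · intro h
    ext n
    exact h n
  · intro h n
    have h1 := congrArg (fun f : J →* ℂˣ => ((f n : ℂˣ) : ℂ)) h
    exact h1

/-- Elements moved by `σ` act without fixed points on `J`. -/
theorem fpf_of_moved (hd : SplitData J H) (σ : MulAut X)
    (hinv : ∀ θ : IrrCharacter X, charDegree (θ : X → ℂ) ≠ 1 →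
      ∀ x, (θ : X → ℂ) (σ x) = (θ : X → ℂ) x)
    (hH : ∀ a ∈ H, σ a ∈ H) {h : X} (hh : h ∈ H) (hne : σ h ≠ h) {g : X} (hg : g ∈ J)
    (hc : h * g * h⁻¹ = g) : g = 1 := by
  obtain ⟨r, hr, hker⟩ := exists_retraction J H hd.sup hd.inf
  have hdj : ∀ x ∈ H, x ∈ J → x = 1 := fun x h1 h2 => by
    have : x ∈ J ⊓ H := ⟨h2, h1⟩
    rw [hd.inf] at this
    exact this
  have h1 : σ h * h⁻¹ ∉ commutator X := by
    rw [hd.comm]
    intro h2
    have h3 := hdj _ (H.mul_mem (hH h hh) (H.inv_mem hh)) h2
    exact hne (mul_inv_eq_one.mp h3)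
  have h2 := card_centralizer_of_vanish (g := h) (fun χ hχ => vanish_of_twist σ hinv h1 χ hχ)
  have h3 : (commutator X).index = Nat.card H := by
    rw [hd.comm]
    have h4 : r.ker = J := by
      ext g
      exact hker g
    rw [← h4, Subgroup.index_ker, MonoidHom.range_eq_top.mpr (r_surj H r hr)]
    simp
  have hle : H ≤ Subgroup.centralizer ({h} : Set X) := by
    intro x hx
    rw [Subgroup.mem_centralizer_iff]
    intro y hy
    rw [Set.mem_singleton_iff.mp hy]
    exact hd.Hab h hh x hx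
  have h4 : H = Subgroup.centralizer ({h} : Set X) :=
    Subgroup.eq_of_le_of_card_ge hle (by rw [h2, h3])
  have h5 : g ∈ Subgroup.centralizer ({h} : Set X) := by
    rw [Subgroup.mem_centralizer_iff]
    intro y hy
    rw [Set.mem_singleton_iff.mp hy]
    exact (mul_inv_eq_iff_eq_mul.mp hc)
  rw [← h4] at h5
  exact hdj g h5 hg

/-- `J` is nilpotent, once an element of prime order of `H` is moved by `σ`. -/
theorem nilpotent_of_moved (hd : SplitData J H) (σ : MulAut X)
    (hinv : ∀ θ : IrrCharacter X, charDegree (θ : X → ℂ) ≠ 1 →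
      ∀ x, (θ : X → ℂ) (σ x) = (θ : X → ℂ) x)
    (hH : ∀ a ∈ H, σ a ∈ H) {q : X} (hq : q ∈ H) {p : ℕ} (hp : p.Prime) (hqp : q ^ p = 1)
    (hne : σ q ≠ q) : Group.IsNilpotent J := by
  by_cases hJt : Nontrivial J
  · let φ : J ≃* J := MulAut.conjNormal q
    have hφ : ∀ g : J, (φ g : X) = q * g * q⁻¹ := fun g => MulAut.conjNormal_apply q g
    have hfpf : MonoidHom.FixedPointFree (φ : J →* J) := by
      intro g hg
      apply Subtype.ext
      have h1 : q * g * q⁻¹ = g := by
        rw [← hφ]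
        exact congrArg Subtype.val hg
      exact fpf_of_moved hd σ hinv hH hq hne g.2 h1
    haveI : Fact p.Prime := ⟨hp⟩
    have hord : orderOf φ = p := by
      apply orderOf_eq_prime
      · have h1 : (MulAut.conjNormal (G := X) (H := J)) (q ^ p) = φ ^ p := map_pow _ _ _
        rw [← h1, hqp, map_one]
      · intro h1
        obtain ⟨g, hg⟩ := exists_ne (1 : J)
        apply hg
        apply hfpf
        show φ g = g
        rw [h1]
        rfl
    exact Cfsg.Agent.S0033.result φ hfpf p hp hord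
  · rw [not_nontrivial_iff_subsingleton] at hJt
    infer_instance


/-- A nonlinear character of a nilpotent `J` is fixed by an element of `H` moving all nontrivial
linear characters. -/
theorem exists_free_fix (hd : SplitData J H) (hnd : NoDivD X) (hnil : Group.IsNilpotent J)
    {ν : J → ℂ} (hν : IsIrrCharacter J ν) (hν1 : charDegree ν ≠ 1) :
    ∃ h : H, (∀ l : J →* ℂˣ, l ≠ 1 → act J (h : X) l ≠ l) ∧
      (h : X) ∈ Cfsg.Agent.Lib.DegreeDiv.inertia J hJ ν := by
  classical
  haveI : Fintype X := Fintype.ofFinite X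
  haveI : Fintype J := Fintype.ofFinite J
  obtain ⟨r, hr, hker⟩ := exists_retraction J H hd.sup hd.inf
  obtain ⟨s, hs, hsν⟩ := Nat.exists_prime_and_dvd hν1
  have hsJ : s ∣ Nat.card J := hsν.trans (charDegree_dvd_card hν)
  have hsW : s ∣ Nat.card (J →* ℂˣ) := by
    rw [card_dual]
    exact dvd_index_commutator _ J rfl hnil s hs hsJ
  have hW0 : 0 < Nat.card (J →* ℂˣ) := Nat.card_pos
  have hW1 : 1 < Nat.card (J →* ℂˣ) := lt_of_lt_of_le hs.one_lt (Nat.le_of_dvd hW0 hsW)
  haveI : Nontrivial (J →* ℂˣ) := Finite.one_lt_card_iff_nontrivial.mp hW1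
  obtain ⟨l₀, hl₀⟩ := exists_ne (1 : J →* ℂˣ)
  by_contra hno
  push Not at hno
  have hK : ∀ h : H, (h : X) ∈ Cfsg.Agent.Lib.DegreeDiv.inertia J hJ ν → h ∈ stab J H l₀ := by
    intro h hh
    by_contra hn
    rw [mem_stab] at hn
    obtain ⟨l, hl, hl'⟩ : ∃ l : J →* ℂˣ, l ≠ 1 ∧ act J (h : X) l = l := by
      by_contra hnn
      push Not at hnn
      exact hno h hnn hh
    exact hn (act_fix_uniform hd hnd hl hl₀ hl')
  obtain ⟨θ, hθ⟩ := Cfsg.Agent.Lib.GlaubAbove.exists_irr_over J ⟨ν, hν⟩
  have h1 := index_dvd_deg_of_over r hr hker hν θ.2 hθ _ hK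
  obtain ⟨χ₀, h2, h3⟩ := exists_deg_of_stab hd r hr hker hl₀
  have h4 := hnd χ₀ θ h3 (by rw [h2]; exact h1)
  have h5 : charDegree ν ∣ charDegree (θ : X → ℂ) := degree_dvd J hν θ.2 hθ
  have h6 : s ∣ (stab J H l₀).index := by
    rw [← h2, h4]
    exact hsν.trans h5
  have h7 := h6.trans (index_stab_dvd hd hnd hl₀)
  have h8 : s ∣ 1 := by
    have h9 := Nat.dvd_sub hsW h7
    have h10 : Nat.card (J →* ℂˣ) - (Nat.card (J →* ℂˣ) - 1) = 1 := by omega
    rwa [h10] at h9
  exact hs.one_lt.ne' (Nat.dvd_one.mp h8)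

/-- **Twisting does nothing** to nonlinear characters of `J`. -/
theorem twist_all (hd : SplitData J H) (hnd : NoDivD X) (hnil : Group.IsNilpotent J)
    (ν : IrrCharacter J) (hν : charDegree (ν : J → ℂ) ≠ 1) (l : J →* ℂˣ) (n : J) :
    ((l n : ℂˣ) : ℂ) * (ν : J → ℂ) n = (ν : J → ℂ) n := by
  let R₀ : Set (J → ℂ) := {f | IsIrrCharacter J f ∧ charDegree f ≠ 1}
  have hmain := twist_fix (W := J →* ℂˣ) (H := H) (R := J → ℂ)
    (fun h => dualAut J (h : X)) (fun h f n => f (cj J (h : X) n))
    (fun l f n => ((l n : ℂˣ) : ℂ) * f n) R₀ ?_ ?_ ?_ ?_ ?_ ?_ (ν := (ν : J → ℂ)) ⟨ν.2, hν⟩ l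
  · exact congrFun hmain n
  · intro h h' f
    funext n
    show f (cj J (h' : X) (cj J (h : X) n)) = f (cj J (h : X) (cj J (h' : X) n))
    have h1 : cj J (h' : X) (cj J (h : X) n) = cj J (h : X) (cj J (h' : X) n) := by
      have e1 := cj_mul J (h' : X) (h : X)
      have e2 := cj_mul J (h : X) (h' : X)
      rw [hd.Hab h' h'.2 h h.2] at e1
      have e3 := congrArg (fun c : J →* J => c n) e1
      have e4 := congrArg (fun c : J →* J => c n) e2
      exact e3.symm.trans e4
    rw [h1]
  · intro f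
    funext n
    simp
  · intro a b f
    funext n
    simp only [MonoidHom.mul_apply, Units.val_mul]
    ring
  · intro h a f
    rfl
  · rintro f ⟨hf, hf1⟩ a
    have h1 := Cfsg.Agent.Lib.DetChar.isIrr_mul_hom a hf
    refine ⟨h1, ?_⟩
    have h2 : charDegree ((fun g => ((a g : ℂˣ) : ℂ)) * f) = charDegree f := by
      unfold charDegree
      simp
    exact fun h3 => hf1 (by rw [← h2]; exact h3)
  · rintro f ⟨hf, hf1⟩
    obtain ⟨h, h1, h2⟩ := exists_free_fix hd hnd hnil hf hf1
    refine ⟨h, fun l hl => h1 l hl, ?_⟩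
    funext n
    exact h2 n

end Split


section Camina

variable {J : Type u} [Group J] [Finite J]

/-- The Camina-type conclusion. -/
theorem camina_of_twist
    (h : ∀ ν : IrrCharacter J, charDegree (ν : J → ℂ) ≠ 1 → ∀ (l : J →* ℂˣ) (n : J),
      ((l n : ℂˣ) : ℂ) * (ν : J → ℂ) n = (ν : J → ℂ) n)
    {g : J} (hg : g ∉ commutator J) {e : J} (he : e ∈ commutator J) :
    ∃ j : J, j * g * j⁻¹ = e * g := by
  classical
  have hvan : ∀ χ : IrrCharacter J, charDegree (χ : J → ℂ) ≠ 1 → (χ : J → ℂ) g = 0 := by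
    intro χ hχ
    obtain ⟨l, hl⟩ : ∃ l : J →* ℂˣ, l g ≠ 1 := by
      by_contra hno
      push Not at hno
      exact hg (mem_commutator_of_hom _ hno)
    have h1 := h χ hχ l g
    have h2 : (((l g : ℂˣ) : ℂ) - 1) * (χ : J → ℂ) g = 0 := by
      rw [sub_mul, h1, one_mul, sub_self]
    refine (mul_eq_zero.mp h2).resolve_left (sub_ne_zero.mpr ?_)
    intro h3
    exact hl (Units.ext h3)
  have hcard := card_centralizer_of_vanish hvan
  set C := Subgroup.centralizer ({g} : Set J) with hC
  -- the map `j ↦ j g j⁻¹ g⁻¹`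
  have hmem : ∀ j : J, j * g * j⁻¹ * g⁻¹ ∈ commutator J := fun j => mem_commutator j g
  let F : J ⧸ C → commutator J := fun q =>
    Quotient.liftOn' q (fun j => (⟨j * g * j⁻¹ * g⁻¹, hmem j⟩ : commutator J)) (by
      intro a b hab
      rw [QuotientGroup.leftRel_apply] at hab
      apply Subtype.ext
      have h1 : (a⁻¹ * b) * g = g * (a⁻¹ * b) := by
        have := Subgroup.mem_centralizer_iff.mp hab g (Set.mem_singleton g)
        exact this.symm
      show a * g * a⁻¹ * g⁻¹ = b * g * b⁻¹ * g⁻¹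
      have h2 : b * g * b⁻¹ = a * ((a⁻¹ * b) * g * (a⁻¹ * b)⁻¹) * a⁻¹ := by group
      rw [h2, h1]
      group)
  have hF : ∀ j : J, F (j : J ⧸ C) = ⟨j * g * j⁻¹ * g⁻¹, hmem j⟩ := fun j => rfl
  have hinj : Function.Injective F := by
    intro a b hab
    induction a using QuotientGroup.induction_on with
    | H a =>
      induction b using QuotientGroup.induction_on with
      | H b =>
        rw [hF, hF] at hab
        have h1 : a * g * a⁻¹ * g⁻¹ = b * g * b⁻¹ * g⁻¹ := congrArg Subtype.val hab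
        have h2 : a * g * a⁻¹ = b * g * b⁻¹ := mul_right_cancel h1
        rw [QuotientGroup.eq, Subgroup.mem_centralizer_iff]
        intro y hy
        rw [Set.mem_singleton_iff.mp hy]
        have h3 : a⁻¹ * b * (g * (a⁻¹ * b)⁻¹) = g := by
          have h4 : g = a⁻¹ * (a * g * a⁻¹) * a := by group
          conv_rhs => rw [h4, h2]
          group
        calc g * (a⁻¹ * b) = a⁻¹ * b * (g * (a⁻¹ * b)⁻¹) * (a⁻¹ * b) := by rw [h3]
          _ = a⁻¹ * b * g := by group
  have hsurj : Function.Surjective F := by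
    have hc : Nat.card (J ⧸ C) = Nat.card (commutator J) := by
      have e1 := Subgroup.card_mul_index C
      have e2 := Subgroup.card_mul_index (commutator J)
      rw [hcard] at e1
      have e3 : Nat.card (J ⧸ C) = C.index := rfl
      rw [e3]
      rw [← e2, mul_comm] at e1
      exact Nat.eq_of_mul_eq_mul_right (Nat.pos_of_ne_zero Subgroup.index_ne_zero_of_finite) e1
    exact (Function.Injective.bijective_of_nat_card_le hinj hc.ge).2
  obtain ⟨q, hq⟩ := hsurj ⟨e, he⟩
  induction q using QuotientGroup.induction_on with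
  | H j =>
    refine ⟨j, ?_⟩
    rw [hF] at hq
    have h1 : j * g * j⁻¹ * g⁻¹ = e := congrArg Subtype.val hq
    rw [← h1]
    group

/-- A Camina nilpotent group with nontrivial derived subgroup is a `p`-group. -/
theorem pgroup_of_camina (hnil : Group.IsNilpotent J) (hne : commutator J ≠ ⊥)
    (h3 : ∀ g : J, g ∉ commutator J → ∀ e ∈ commutator J, ∃ j : J, j * g * j⁻¹ = e * g) :
    ∃ r : ℕ, r.Prime ∧ IsPGroup r J := by
  classical
  -- a central element of prime order in the derived subgroup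
  obtain ⟨n, hn⟩ := (Subgroup.nilpotent_iff_lowerCentralSeries (G := J)).mp hnil
  have hex : ∃ k, (⊤ : Subgroup J).lowerCentralSeries (k + 1) ≠ ⊥ ∧ (⊤ : Subgroup J).lowerCentralSeries (k + 2) = ⊥ := by
    by_contra hno
    push Not at hno
    have h1 : ∀ k, (⊤ : Subgroup J).lowerCentralSeries (k + 1) ≠ ⊥ := by
      intro k
      induction k with
      | zero =>
        rw [Subgroup.top_lowerCentralSeries_one]
        exact hne
      | succ k ih => exact hno k ih
    have h2 := h1 n
    apply h2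
    rw [eq_bot_iff, ← hn]
    exact Subgroup.lowerCentralSeries_antitone _ (Nat.le_succ n)
  obtain ⟨k, hk1, hk2⟩ := hex
  have hkcomm : (⊤ : Subgroup J).lowerCentralSeries (k + 1) ≤ commutator J := by
    rw [← Subgroup.top_lowerCentralSeries_one]
    exact Subgroup.lowerCentralSeries_antitone _ (by omega)
  have hkcen : ∀ z ∈ (⊤ : Subgroup J).lowerCentralSeries (k + 1), ∀ g : J, z * g = g * z := by
    intro z hz g
    have h1 : ⁅z, g⁆ ∈ (⊤ : Subgroup J).lowerCentralSeries (k + 2) := by
      rw [show k + 2 = (k + 1) + 1 from rfl, Subgroup.lowerCentralSeries_succ]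
      exact Subgroup.commutator_mem_commutator hz (Subgroup.mem_top g)
    rw [hk2, Subgroup.mem_bot, commutatorElement_eq_one_iff_mul_comm] at h1
    exact h1
  haveI : Nontrivial ((⊤ : Subgroup J).lowerCentralSeries (k + 1)) := (Subgroup.nontrivial_iff_ne_bot _).mpr hk1
  have hcard : 1 < Nat.card ((⊤ : Subgroup J).lowerCentralSeries (k + 1)) := Finite.one_lt_card
  obtain ⟨r, hr, hrd⟩ := Nat.exists_prime_and_dvd hcard.ne'
  haveI : Fact r.Prime := ⟨hr⟩
  obtain ⟨z₀, hz₀⟩ := exists_prime_orderOf_dvd_card' r hrd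
  set z : J := (z₀ : J) with hz
  have hzo : orderOf z = r := by
    rw [hz, Subgroup.orderOf_coe, hz₀]
  have hzc : z ∈ commutator J := hkcomm z₀.2
  have hzcen : ∀ g : J, z * g = g * z := hkcen z z₀.2
  -- every element outside the derived subgroup has order divisible by `r`
  have hord : ∀ g : J, g ∉ commutator J → r ∣ orderOf g := by
    intro g hg
    obtain ⟨j, hj⟩ := h3 g hg z hzc
    by_contra hrg
    have h1 : orderOf (z * g) = orderOf g := by
      rw [← hj]
      have h2 : j * g * j⁻¹ = (MulAut.conj j) g := rfl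
      rw [h2]
      exact MulEquiv.orderOf_eq _ _
    have h2 : Nat.Coprime (orderOf z) (orderOf g) := by
      rw [hzo]
      exact (Nat.Prime.coprime_iff_not_dvd hr).mpr hrg
    have h4 : Commute z g := hzcen g
    rw [h4.orderOf_mul_eq_mul_orderOf_of_coprime h2, hzo] at h1
    have h5 : 0 < orderOf g := orderOf_pos g
    have h6 : r = 1 := by
      have h7 : r * orderOf g = 1 * orderOf g := by rw [h1, one_mul]
      exact Nat.eq_of_mul_eq_mul_right h5 h7
    exact hr.one_lt.ne' h6
  refine ⟨r, hr, ?_⟩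
  apply IsPGroup.of_card (n := (Nat.card J).primeFactorsList.length)
  apply Nat.eq_prime_pow_of_unique_prime_dvd Nat.card_pos.ne'
  intro s hs hsd
  haveI : Fact s.Prime := ⟨hs⟩
  have h1 := dvd_index_commutator _ J rfl hnil s hs hsd
  have h2 : s ∣ Nat.card (J ⧸ commutator J) := h1
  obtain ⟨ζ, hζ⟩ := exists_prime_orderOf_dvd_card' s h2
  obtain ⟨g₀, hg₀⟩ := QuotientGroup.mk_surjective ζ
  -- take the `s`-part
  set o := orderOf g₀ with ho
  have ho0 : o ≠ 0 := (orderOf_pos g₀).ne'
  set m := ordCompl[s] o with hm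
  set a := o.factorization s with ha
  have hoa : s ^ a * m = o := Nat.ordProj_mul_ordCompl_eq_self o s
  have hsm : ¬ s ∣ m := Nat.not_dvd_ordCompl hs ho0
  have hg : g₀ ^ m ∉ commutator J := by
    intro hin
    have h4 : ζ ^ m = 1 := by
      rw [← hg₀]
      have : ((g₀ ^ m : J) : J ⧸ commutator J) = 1 := (QuotientGroup.eq_one_iff _).mpr hin
      exact this
    rw [← orderOf_dvd_iff_pow_eq_one, hζ] at h4
    exact hsm h4
  have h4 := hord _ hg
  have h5 : (g₀ ^ m) ^ (s ^ a) = 1 := by
    rw [← pow_mul, mul_comm, hoa, ho]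
    exact pow_orderOf_eq_one g₀
  have h6 := h4.trans (orderOf_dvd_of_pow_eq_one h5)
  have h7 := hr.dvd_of_dvd_pow h6
  exact ((Nat.prime_dvd_prime_iff_eq hr hs).mp h7).symm

end Camina

end Cfsg.Agent.Lib.NoDiv17
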