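import Mathlib
import Cfsg.Agent.Lib.NoDiv17C

/-!
# The derived subgroup is abelian in the split setting
-/

set_option autoImplicit false
set_option linter.style.haveILetI false
set_option linter.unusedVariables false
set_option linter.unusedSectionVars false

namespace Cfsg.Agent.Lib.NoDiv17

open Cfsg Cfsg.Agent.Lib.CharBasic Cfsg.Agent.Lib.CharInd Cfsg.Agent.Lib.CharKernel
open Cfsg.Agent.Lib.Clifford Cfsg.Agent.Lib.CliffDvd Cfsg.Agent.Lib.TwoDeg
open Cfsg.Agent.Lib.ThreeDeg31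
open scoped ComplexConjugate commutatorElement

universe u

section Restrict

variable {X : Type u} [Group X]

/-- Restriction of an automorphism to an invariant subgroup. -/
def restrictAut (σ : MulAut X) (N : Subgroup X) (h1 : ∀ x ∈ N, σ x ∈ N)
    (h2 : ∀ x ∈ N, σ⁻¹ x ∈ N) : MulAut N where
  toFun x := ⟨σ x, h1 x x.2⟩
  invFun x := ⟨σ⁻¹ x, h2 x x.2⟩
  left_inv x := Subtype.ext (by simp)
  right_inv x := Subtype.ext (by simp)
  map_mul' x y := Subtype.ext (map_mul σ (x : X) (y : X))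

theorem restrictAut_coe (σ : MulAut X) (N : Subgroup X) (h1 : ∀ x ∈ N, σ x ∈ N)
    (h2 : ∀ x ∈ N, σ⁻¹ x ∈ N) (x : N) : ((restrictAut σ N h1 h2 x : N) : X) = σ x := rfl

theorem restrictAut_pow (σ : MulAut X) (N : Subgroup X) (h1 : ∀ x ∈ N, σ x ∈ N)
    (h2 : ∀ x ∈ N, σ⁻¹ x ∈ N) (k : ℕ) (x : N) :
    ((((restrictAut σ N h1 h2) ^ k) x : N) : X) = (σ ^ k) x := by
  induction k generalizing x with
  | zero => simp
  | succ k ih =>
    rw [pow_succ, pow_succ, MulAut.mul_apply, MulAut.mul_apply, ih, restrictAut_coe]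

theorem restrictAut_pow_eq_one (σ : MulAut X) (N : Subgroup X) (h1 : ∀ x ∈ N, σ x ∈ N)
    (h2 : ∀ x ∈ N, σ⁻¹ x ∈ N) {n : ℕ} (hn : σ ^ n = 1) : (restrictAut σ N h1 h2) ^ n = 1 := by
  ext x
  rw [restrictAut_pow, hn]
  rfl

theorem inv_mem_of_pow (σ : MulAut X) (N : Subgroup X) {n : ℕ} (hn0 : n ≠ 0) (hσ : σ ^ n = 1)
    (h1 : ∀ x ∈ N, σ x ∈ N) : ∀ x ∈ N, σ⁻¹ x ∈ N := by
  have h2 : σ⁻¹ = σ ^ (n - 1) := by
    apply inv_eq_of_mul_eq_one_left
    rw [← pow_succ, Nat.sub_add_cancel (Nat.pos_of_ne_zero hn0), hσ]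
  have h3 : ∀ (k : ℕ), ∀ x ∈ N, (σ ^ k) x ∈ N := by
    intro k
    induction k with
    | zero =>
      intro x hx
      simpa using hx
    | succ k ih =>
      intro x hx
      rw [pow_succ, MulAut.mul_apply]
      exact ih _ (h1 x hx)
  intro x hx
  rw [h2]
  exact h3 _ x hx

/-- The elements of `H` of exponent dividing `b`. -/
def powSub (H : Subgroup X) (hab : ∀ a ∈ H, ∀ b ∈ H, a * b = b * a) (b : ℕ) : Subgroup X where
  carrier := {x | x ∈ H ∧ x ^ b = 1}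
  mul_mem' := by
    rintro x y ⟨hx, hx'⟩ ⟨hy, hy'⟩
    refine ⟨H.mul_mem hx hy, ?_⟩
    have h1 : Commute x y := hab x hx y hy
    rw [h1.mul_pow, hx', hy', one_mul]
  one_mem' := ⟨H.one_mem, one_pow _⟩
  inv_mem' := by
    rintro x ⟨hx, hx'⟩
    exact ⟨H.inv_mem hx, by rw [inv_pow, hx', inv_one]⟩

/-- Splitting an element according to coprime factors of a multiple of its order. -/
theorem exists_coprime_decomp {x : X} {c b : ℕ} (hcb : c.Coprime b) (hx : x ^ (c * b) = 1) :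
    ∃ y z : X, y ^ c = 1 ∧ z ^ b = 1 ∧ x = y * z ∧ y ∈ Subgroup.zpowers x ∧
      z ∈ Subgroup.zpowers x := by
  have hB := Nat.gcd_eq_gcd_ab c b
  rw [hcb.gcd_eq_one] at hB
  set A := Nat.gcdA c b
  set B := Nat.gcdB c b
  refine ⟨x ^ ((b : ℤ) * B), x ^ ((c : ℤ) * A), ?_, ?_, ?_, ?_, ?_⟩
  · rw [← zpow_natCast, ← zpow_mul]
    have h1 : (b : ℤ) * B * (c : ℤ) = ((c * b : ℕ) : ℤ) * B := by
      push_cast
      ring
    rw [h1, zpow_mul, zpow_natCast, hx, one_zpow]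
  · rw [← zpow_natCast, ← zpow_mul]
    have h1 : (c : ℤ) * A * (b : ℤ) = ((c * b : ℕ) : ℤ) * A := by
      push_cast
      ring
    rw [h1, zpow_mul, zpow_natCast, hx, one_zpow]
  · rw [← zpow_add]
    have h1 : (b : ℤ) * B + (c : ℤ) * A = 1 := by
      have h2 : ((1 : ℕ) : ℤ) = (c : ℤ) * A + (b : ℤ) * B := hB
      rw [add_comm, ← h2]
      simp
    rw [h1, zpow_one]
  · exact Subgroup.zpow_mem _ (Subgroup.mem_zpowers x) _
  · exact Subgroup.zpow_mem _ (Subgroup.mem_zpowers x) _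

/-- An element with coprime powers in a subgroup lies in it. -/
theorem mem_of_coprime_pows (T : Subgroup X) {x : X} {m n : ℕ} (hmn : m.Coprime n)
    (hm : x ^ m ∈ T) (hn : x ^ n ∈ T) : x ∈ T := by
  have hB := Nat.gcd_eq_gcd_ab m n
  rw [hmn.gcd_eq_one] at hB
  have h1 : x = (x ^ m) ^ (Nat.gcdA m n) * (x ^ n) ^ (Nat.gcdB m n) := by
    rw [← zpow_natCast, ← zpow_natCast, ← zpow_mul, ← zpow_mul, ← zpow_add, ← hB]
    simp
  rw [h1]
  exact T.mul_mem (T.zpow_mem hm _) (T.zpow_mem hn _)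

end Restrict

section Wrap

variable {J H : Type*} [Group J] [Finite J] [Group H] [Finite H]

/-- `final_contra` for a group with commuting elements. -/
theorem final_contra' (hcomm : ∀ x y : H, x * y = y * x) {r n b : ℕ} [Fact r.Prime]
    (hJ : IsPGroup r J) (hrn : ¬ r ∣ n) (a : H →* MulAut J) (σ : MulAut J) (α : MulAut H)
    (hσa : ∀ h, σ * a h = a (α h) * σ) (hσn : σ ^ n = 1) (hαn : α ^ n = 1)
    (hb : ∀ h : H, h ^ b = 1) (hnb : n.Coprime b) (h1 : ∀ h, α h ≠ h → ∀ g, a h g = g → g = 1)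
    (h2 : ∀ g, ∃ (h : H) (j : J), σ g = j * a h g * j⁻¹)
    (h3 : ∀ g, g ∉ commutator J → ∀ e ∈ commutator J, ∃ j, j * g * j⁻¹ = e * g)
    (h4 : ∃ h, α h ≠ h) (h5 : commutator J ≠ ⊥) : False := by
  letI : CommGroup H := { (inferInstance : Group H) with mul_comm := hcomm }
  exact final_contra hJ hrn a σ α hσa hσn hαn hb hnb h1 h2 h3 h4 h5

/-- An element of prime order moved by `α`. -/
theorem exists_prime_moved (hcomm : ∀ x y : H, x * y = y * x) {α : MulAut H} {n b : ℕ}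
    (hαn : α ^ n = 1) (hb : ∀ h : H, h ^ b = 1) (hnb : n.Coprime b) {a : H} (ha : α a ≠ a) :
    ∃ (q : H) (p : ℕ), p.Prime ∧ q ^ p = 1 ∧ α q ≠ q := by
  letI : CommGroup H := { (inferInstance : Group H) with mul_comm := hcomm }
  set d := dphi α a with hd
  have hd1 : d ≠ 1 := by
    rw [hd, dphi_apply]
    intro h
    exact ha (mul_inv_eq_one.mp h)
  have ho : orderOf d ≠ 1 := fun h => hd1 (orderOf_eq_one_iff.mp h)
  obtain ⟨p, hp, hpd⟩ := Nat.exists_prime_and_dvd ho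
  haveI : Fact p.Prime := ⟨hp⟩
  set k := orderOf d / p with hk
  have hkp : k * p = orderOf d := Nat.div_mul_cancel hpd
  refine ⟨d ^ k, p, hp, ?_, ?_⟩
  · rw [← pow_mul, hkp]
    exact pow_orderOf_eq_one d
  · intro h
    have h1 : d ^ k = dphi α (a ^ k) := by
      rw [map_pow]
    rw [h1] at h
    have h2 := dphi_fixed_eq_one hαn hb hnb h
    rw [← h1] at h2
    have h3 : orderOf d ∣ k := orderOf_dvd_of_pow_eq_one h2
    have h4 : 0 < orderOf d := orderOf_pos d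
    have h5 : k ≤ orderOf d / 2 := Nat.div_le_div_left hp.two_le (by norm_num)
    have h6 := Nat.le_of_dvd (Nat.pos_of_ne_zero (by
      rintro h0
      rw [h0, zero_mul] at hkp
      omega)) h3
    have h7 : orderOf d / 2 < orderOf d := Nat.div_lt_self h4 (by norm_num)
    omega

end Wrap

section Main

variable {X : Type u} [Group X] [Finite X] {J H : Subgroup X} [hJ : J.Normal]

/-- Elements of `ℓ`-power order lie in all inertia groups. -/
theorem mem_inertia_of_pow (hd : SplitData J H) {ℓ : ℕ} (hℓ : ℓ.Prime)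
    (hcop : ∀ θ : IrrCharacter X, charDegree (θ : X → ℂ) ≠ 1 → ¬ ℓ ∣ charDegree (θ : X → ℂ))
    {c f : ℕ} (hc : c = ℓ ^ f) {x : X} (hx : x ^ c = 1) (ν : IrrCharacter J) :
    x ∈ Cfsg.Agent.Lib.DegreeDiv.inertia J hJ (ν : J → ℂ) := by
  classical
  haveI : Fintype X := Fintype.ofFinite X
  haveI : Fintype J := Fintype.ofFinite J
  set T := Cfsg.Agent.Lib.DegreeDiv.inertia J hJ (ν : J → ℂ) with hT
  have hJT : J ≤ T :=
    Cfsg.Agent.Lib.DegreeDiv.le_inertia J hJ (IsIrrCharacter.isCharacter ν.2)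
  haveI hTn : T.Normal := by
    constructor
    intro t ht g
    have h1 : g * t * g⁻¹ = (g * t * g⁻¹ * t⁻¹) * t := by group
    rw [h1]
    refine T.mul_mem (hJT ?_) ht
    rw [← hd.comm]
    exact mem_commutator g t
  obtain ⟨θ, hθ⟩ := Cfsg.Agent.Lib.GlaubAbove.exists_irr_over J ν
  have h1 : T.index ∣ charDegree (θ : X → ℂ) := index_inertia_dvd ν.2 θ.2 hθ
  have h2 : ¬ ℓ ∣ T.index := by
    intro h3
    have h4 := h3.trans h1
    by_cases h5 : charDegree (θ : X → ℂ) = 1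
    · rw [h5] at h4
      exact hℓ.one_lt.ne' (Nat.dvd_one.mp h4)
    · exact hcop θ h5 h4
  have h3 : c.Coprime T.index := by
    rw [hc]
    exact Nat.Coprime.pow_left f ((Nat.Prime.coprime_iff_not_dvd hℓ).mpr h2)
  refine mem_of_coprime_pows T h3 ?_ (Subgroup.pow_index_mem T x)
  rw [hx]
  exact T.one_mem

/-- Elements in all inertia groups act on `J` by inner automorphisms on each class. -/
theorem isConj_of_mem_inertia {x : X}
    (hx : ∀ ν : IrrCharacter J, x ∈ Cfsg.Agent.Lib.DegreeDiv.inertia J hJ (ν : J → ℂ)) (g : J) :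
    IsConj (⟨x * g * x⁻¹, hJ.conj_mem g g.2 x⟩ : J) g := by
  apply isConj_of_chars_eq
  intro ν
  exact hx ν g

/-- **`J` is abelian.** -/
theorem J_abelian (hd : SplitData J H) (hnd : NoDivD X) (σ : MulAut X) {ℓ e : ℕ} (hℓ : ℓ.Prime)
    (hσ : σ ^ (ℓ ^ e) = 1)
    (hinv : ∀ θ : IrrCharacter X, charDegree (θ : X → ℂ) ≠ 1 →
      ∀ x, (θ : X → ℂ) (σ x) = (θ : X → ℂ) x)
    (hcop : ∀ θ : IrrCharacter X, charDegree (θ : X → ℂ) ≠ 1 → ¬ ℓ ∣ charDegree (θ : X → ℂ))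
    (hH : ∀ a ∈ H, σ a ∈ H) {a : X} (haH : a ∈ H) {b' : ℕ} (hb' : ℓ.Coprime b')
    (ha : a ^ b' = 1) (hne : σ a ≠ a) : commutator J = ⊥ := by
  classical
  by_contra hJ'
  haveI : Fintype X := Fintype.ofFinite X
  haveI : Fintype J := Fintype.ofFinite J
  obtain ⟨r₀, hr₀, hker₀⟩ := exists_retraction J H hd.sup hd.inf
  set n := ℓ ^ e with hn
  have hn0 : n ≠ 0 := pow_ne_zero _ hℓ.ne_zero
  have hcard0 : Nat.card H ≠ 0 := Nat.card_pos.ne'
  set c := ordProj[ℓ] (Nat.card H) with hc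
  set b := ordCompl[ℓ] (Nat.card H) with hb
  have hcb : c * b = Nat.card H := Nat.ordProj_mul_ordCompl_eq_self _ _
  have hlb : ¬ ℓ ∣ b := Nat.not_dvd_ordCompl hℓ hcard0
  have hcbc : c.Coprime b :=
    Nat.Coprime.pow_left _ ((Nat.Prime.coprime_iff_not_dvd hℓ).mpr hlb)
  have hnb : n.Coprime b :=
    Nat.Coprime.pow_left _ ((Nat.Prime.coprime_iff_not_dvd hℓ).mpr hlb)
  let H₁ : Subgroup X := powSub H hd.Hab b
  have hH₁ : ∀ x ∈ H₁, σ x ∈ H₁ := by
    rintro x ⟨hx, hx'⟩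
    refine ⟨hH x hx, ?_⟩
    rw [← map_pow, hx', map_one]
  have hH₁' := inv_mem_of_pow σ H₁ hn0 hσ hH₁
  let α : MulAut H₁ := restrictAut σ H₁ hH₁ hH₁'
  have hαn : α ^ n = 1 := restrictAut_pow_eq_one σ H₁ hH₁ hH₁' hσ
  have hcomm : ∀ x y : H₁, x * y = y * x := fun x y => Subtype.ext (hd.Hab x x.2.1 y y.2.1)
  have hbH : ∀ h : H₁, h ^ b = 1 := fun h => Subtype.ext h.2.2
  have hab : a ^ b = 1 := by
    rw [← orderOf_dvd_iff_pow_eq_one]
    have h1 : orderOf a ∣ Nat.card H := by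
      have h2 : orderOf (⟨a, haH⟩ : H) ∣ Nat.card H := orderOf_dvd_natCard _
      rwa [Subgroup.orderOf_mk] at h2
    have h2 : orderOf a ∣ b' := orderOf_dvd_of_pow_eq_one ha
    have h3 : (orderOf a).Coprime c :=
      Nat.Coprime.pow_right _ (Nat.Coprime.coprime_dvd_left h2 hb'.symm)
    rw [← hcb] at h1
    exact h3.dvd_of_dvd_mul_left h1
  have hαa : α ⟨a, haH, hab⟩ ≠ ⟨a, haH, hab⟩ := fun h => hne (congrArg Subtype.val h)
  obtain ⟨q, p, hp, hqp, hqα⟩ := exists_prime_moved hcomm hαn hbH hnb hαa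
  have hnil : Group.IsNilpotent J :=
    nilpotent_of_moved hd σ hinv hH q.2.1 hp (congrArg Subtype.val hqp)
      (fun h => hqα (Subtype.ext h))
  have h3 := fun (g : J) (hg : g ∉ commutator J) (e : J) (he : e ∈ commutator J) =>
    camina_of_twist (twist_all hd hnd hnil) hg he
  obtain ⟨r, hr, hrJ⟩ := pgroup_of_camina hnil hJ' h3
  haveI : Fact r.Prime := ⟨hr⟩
  -- `r` is not `ℓ`
  have hrn : ¬ r ∣ n := by
    intro h
    have h1 : r = ℓ := (Nat.prime_dvd_prime_iff_eq hr hℓ).mp (hr.dvd_of_dvd_pow h)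
    obtain ⟨ν, hν⟩ : ∃ ν : IrrCharacter J, (ν : J → ℂ) 1 ≠ 1 := by
      by_contra hno
      push Not at hno
      apply hJ'
      rw [eq_bot_iff, commutator_def, Subgroup.commutator_le]
      intro x _ y _
      rw [Subgroup.mem_bot, commutatorElement_eq_one_iff_mul_comm]
      exact comm_of_all_linear hno x y
    have hν1 : charDegree (ν : J → ℂ) ≠ 1 := by
      intro h2
      apply hν
      rw [one_eq_charDegree (IsIrrCharacter.isCharacter ν.2), h2]
      simp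
    obtain ⟨t, ht⟩ := IsPGroup.iff_card.mp hrJ
    have h2 : charDegree (ν : J → ℂ) ∣ r ^ t := by
      rw [← ht]
      exact charDegree_dvd_card ν.2
    obtain ⟨s, -, hs⟩ := (Nat.dvd_prime_pow hr).mp h2
    have hs0 : s ≠ 0 := by
      rintro rfl
      exact hν1 (by simpa using hs)
    have h4 : r ∣ charDegree (ν : J → ℂ) := by
      rw [hs]
      exact dvd_pow_self r hs0
    obtain ⟨θ, hθ⟩ := Cfsg.Agent.Lib.GlaubAbove.exists_irr_over J ν
    have h5 : charDegree (ν : J → ℂ) ∣ charDegree (θ : X → ℂ) := degree_dvd J ν.2 θ.2 hθ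
    have h6 : charDegree (θ : X → ℂ) ≠ 1 := by
      intro h7
      rw [h7] at h5
      exact hν1 (Nat.dvd_one.mp h5)
    apply hcop θ h6
    rw [← h1]
    exact h4.trans h5
  -- the automorphism on `J`
  have hJσ : ∀ x ∈ J, σ x ∈ J := by
    intro x hx
    rw [← hd.comm] at hx ⊢
    exact char_mem (commutator X) σ hx
  have hJσ' := inv_mem_of_pow σ J hn0 hσ hJσ
  let σJ : MulAut J := restrictAut σ J hJσ hJσ'
  let a₁ : H₁ →* MulAut J := (MulAut.conjNormal (G := X) (H := J)).comp H₁.subtype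
  have ha₁ : ∀ (h : H₁) (g : J), ((a₁ h g : J) : X) = (h : X) * g * (h : X)⁻¹ :=
    fun h g => MulAut.conjNormal_apply (h : X) g
  refine final_contra' hcomm hrJ hrn a₁ σJ α ?_ (restrictAut_pow_eq_one σ J hJσ hJσ' hσ) hαn hbH hnb
    ?_ ?_ h3 ⟨_, hαa⟩ hJ'
  · intro h
    ext g
    show σ (((a₁ h g : J) : X)) = ((a₁ (α h) (σJ g) : J) : X)
    rw [ha₁, ha₁]
    show σ ((h : X) * g * (h : X)⁻¹) = σ (h : X) * σ (g : X) * (σ (h : X))⁻¹
    simp [map_mul, map_inv]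
  · intro h hh g hg
    apply Subtype.ext
    have h1 : (h : X) * g * (h : X)⁻¹ = g := by
      rw [← ha₁, hg]
    exact fpf_of_moved hd σ hinv hH h.2.1 (fun h2 => hh (Subtype.ext h2)) g.2 h1
  · intro g
    -- `σ g` is conjugate to `g` in `X`
    have h1 : IsConj (σ (g : X)) (g : X) :=
      isConj_of_mem_commutator σ hinv (by rw [hd.comm]; exact g.2)
    obtain ⟨x, hx⟩ := isConj_iff.mp h1.symm
    -- decompose `x`
    set h₀ : H := r₀ x with hh₀
    have hj₀ : x * (h₀ : X)⁻¹ ∈ J := kpart_mem J H r₀ hr₀ hker₀ x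
    have hpow : (h₀ : X) ^ (c * b) = 1 := by
      rw [hcb]
      have h2 : h₀ ^ Nat.card H = 1 := pow_card_eq_one'
      exact congrArg Subtype.val h2
    obtain ⟨y, z, hy, hz, hyz, hyH, hzH⟩ := exists_coprime_decomp hcbc hpow
    have hzmem : z ∈ H₁ := ⟨(Subgroup.zpowers_le.mpr h₀.2) hzH, hz⟩
    -- the inner part
    let g₁ : J := a₁ ⟨z, hzmem⟩ g
    have hg₁ : (g₁ : X) = z * g * z⁻¹ := ha₁ ⟨z, hzmem⟩ g
    have h2 := isConj_of_mem_inertia (x := y)
      (fun ν => mem_inertia_of_pow hd hℓ hcop (f := (Nat.card H).factorization ℓ) rfl hy ν) g₁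
    obtain ⟨j₁, hj₁⟩ := isConj_iff.mp h2.symm
    refine ⟨⟨z, hzmem⟩, ⟨x * (h₀ : X)⁻¹, hj₀⟩ * j₁, ?_⟩
    apply Subtype.ext
    show σ (g : X) = _
    have h4 : ((j₁ * g₁ * j₁⁻¹ : J) : X) = y * (g₁ : X) * y⁻¹ := congrArg Subtype.val hj₁
    push_cast at h4 ⊢
    rw [← hx]
    have h5 : x = (x * (h₀ : X)⁻¹) * y * z := by
      rw [mul_assoc (x * (h₀ : X)⁻¹) y z, ← hyz]
      group
    show x * (g : X) * x⁻¹ = (x * (h₀ : X)⁻¹) * (j₁ : X) * (g₁ : X) * ((x * (h₀ : X)⁻¹) * (j₁ : X))⁻¹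
    have h6 : (x * (h₀ : X)⁻¹) * (j₁ : X) * (g₁ : X) * ((x * (h₀ : X)⁻¹) * (j₁ : X))⁻¹ =
        (x * (h₀ : X)⁻¹) * ((j₁ : X) * (g₁ : X) * (j₁ : X)⁻¹) * (x * (h₀ : X)⁻¹)⁻¹ := by
      group
    rw [h6, h4, hg₁]
    conv_lhs => rw [h5]
    group

end Main

end Cfsg.Agent.Lib.NoDiv17
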