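import Mathlib
import Cfsg.Agent.Lib.NoDiv17D
import Cfsg.Agent.Lib.GlaubSyl1
import Cfsg.Agent.Lib.CharDecomp

/-!
# The core of the no-divisibility theorem
-/

set_option autoImplicit false
set_option linter.style.haveILetI false
set_option linter.unusedVariables false
set_option linter.unusedSectionVars false

namespace Cfsg.Agent.Lib.NoDiv17

open Cfsg Cfsg.Agent.Lib.CharBasic Cfsg.Agent.Lib.CharInd Cfsg.Agent.Lib.CharKernel
open Cfsg.Agent.Lib.Clifford Cfsg.Agent.Lib.CliffDvd Cfsg.Agent.Lib.TwoDeg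
open Cfsg.Agent.Lib.ThreeDeg31 Cfsg.Agent.Lib.CoprimeDeg
open scoped ComplexConjugate commutatorElement

universe u

section Single

variable {X : Type u} [Group X] [Finite X] {J H : Subgroup X} [hJ : J.Normal]

/-- A group with trivial derived subgroup has commuting elements. -/
theorem comm_of_commutator_eq_bot {A : Type u} [Group A] (h : commutator A = ⊥) (a b : A) :
    a * b = b * a := by
  have h1 : a * b * a⁻¹ * b⁻¹ ∈ commutator A := mem_commutator a b
  rw [h, Subgroup.mem_bot] at h1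
  exact mul_inv_eq_iff_eq_mul.mp (mul_inv_eq_one.mp h1)

/-- With `J` abelian there is a single nonlinear degree. -/
theorem single_degree_of_abelian (hd : SplitData J H) (hnd : NoDivD X)
    (hJab : commutator J = ⊥) :
    ∃ f : ℕ, ∀ θ : IrrCharacter X, charDegree (θ : X → ℂ) = 1 ∨ charDegree (θ : X → ℂ) = f := by
  classical
  haveI : Fintype X := Fintype.ofFinite X
  haveI : Fintype J := Fintype.ofFinite J
  obtain ⟨r, hr, hker⟩ := exists_retraction J H hd.sup hd.inf
  have hcommJ := comm_of_commutator_eq_bot hJab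
  have key : ∀ θ : IrrCharacter X, charDegree (θ : X → ℂ) ≠ 1 →
      ∃ l : J →* ℂˣ, l ≠ 1 ∧ charDegree (θ : X → ℂ) = (stab J H l).index := by
    intro θ hθ
    have hθc := IsIrrCharacter.isCharacter θ.2
    obtain ⟨τ, hτ⟩ := exists_constituent J hθc (irr_degree_ne_zero θ.2)
    have hτ1 : (τ : J → ℂ) 1 = 1 := Cfsg.Agent.Lib.CharCodegP.irr_one_of_comm hcommJ τ.2
    obtain ⟨l, hl⟩ := exists_hom_of_degree_one (IsIrrCharacter.isCharacter τ.2) hτ1
    have hτl : (τ : J → ℂ) = fun n => ((l n : ℂˣ) : ℂ) := funext hl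
    have hl1 : l ≠ 1 := by
      rintro rfl
      have hτ2 : (τ : J → ℂ) = fun _ => (1 : ℂ) := by
        rw [hτl]
        funext n
        simp
      have hτirr := τ.2
      rw [hτ2] at hτ hτirr
      obtain ⟨e, -, h1, -⟩ := restrict_eq_smul_of_invariant J hτirr (fun _ _ => rfl) θ.2 hτ
      have h2 : (θ : X → ℂ) 1 = 1 := by
        apply linear_of_commutator_le θ.2
        intro x hx
        rw [hd.comm] at hx
        have h3 := congrFun h1 ⟨x, hx⟩
        have h4 := congrFun h1 1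
        simp only [Pi.smul_apply, smul_eq_mul, mul_one] at h3 h4
        rw [h3]
        have h5 : (θ : X → ℂ) ((1 : J) : X) = (e : ℂ) := h4
        rw [← h5]
        simp
      apply hθ
      apply charDegree_of_one
      rw [h2]
      simp
    have h1 : (stab J H l).index ∣ charDegree (θ : X → ℂ) := by
      apply index_dvd_deg_of_over r hr hker τ.2 θ.2 hτ
      intro h hh
      rw [hτl] at hh
      exact mem_inertia_linear.mp hh
    obtain ⟨χ, h2, h3⟩ := exists_deg_of_stab hd r hr hker hl1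
    have h4 := hnd χ θ h3 (by rw [h2]; exact h1)
    exact ⟨l, hl1, by rw [← h4, h2]⟩
  by_cases hex : ∃ θ₀ : IrrCharacter X, charDegree (θ₀ : X → ℂ) ≠ 1
  · obtain ⟨θ₀, hθ₀⟩ := hex
    refine ⟨charDegree (θ₀ : X → ℂ), fun θ => ?_⟩
    by_cases hθ : charDegree (θ : X → ℂ) = 1
    · exact Or.inl hθ
    right
    obtain ⟨l, hl, h1⟩ := key θ hθ
    obtain ⟨l₀, hl₀, h2⟩ := key θ₀ hθ₀
    rw [h1, h2]
    have h3 : stab J H l = stab J H l₀ := by
      ext h
      exact ⟨fun hh => act_fix_uniform hd hnd hl hl₀ hh, fun hh => act_fix_uniform hd hnd hl₀ hl hh⟩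
    rw [h3]
  · push Not at hex
    exact ⟨1, fun θ => Or.inl (hex θ)⟩

end Single

section SplitFix

variable {X : Type u} [Group X] [Fintype X]

/-- The split setting from a normal complement with an abelian complement. -/
theorem split_of_fix (u : ℕ) [hu : Fact u.Prime] (Y U : Subgroup X) [hY : Y.Normal] [Fintype Y]
    [Fintype U] (hs : CS Y U) (hYu : (Nat.card Y).Coprime u) (hUp : IsPGroup u U)
    (hUab : ∀ a ∈ U, ∀ b ∈ U, a * b = b * a)
    (hnl : ∀ θ : IrrCharacter X, charDegree (θ : X → ℂ) ≠ 1 → u ∣ charDegree (θ : X → ℂ)) :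
    ∃ hJn : (⁅Y, U⁆ : Subgroup X).Normal,
      SplitData (⁅Y, U⁆ : Subgroup X) (Subgroup.centralizer (U : Set X)) := by
  classical
  obtain ⟨f1, f2, f3⟩ := fix_facts u Y U hs hYu hUp hnl
  set J : Subgroup X := ⁅Y, U⁆ with hJ
  set H : Subgroup X := Subgroup.centralizer (U : Set X) with hH
  have hmemH : ∀ {x : X}, x ∈ H ↔ ∀ v ∈ U, x * v = v * x := by
    intro x
    rw [hH, Subgroup.mem_centralizer_iff]
    exact ⟨fun h v hv => (h v hv).symm, fun h v hv => (h v hv).symm⟩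
  have hUH : U ≤ H := fun v hv => hmemH.mpr fun w hw => hUab v hv w hw
  have hJY : J ≤ Y := Subgroup.commutator_le_left Y U
  have hdec : ∀ x : X, ∃ y ∈ Y, ∃ v ∈ U, x = y * v := fun x => exists_decomp hs x
  have hJn : J.Normal := by
    constructor
    intro n hn g
    obtain ⟨y, hy, v, hv, rfl⟩ := hdec g
    have h1 : y * v * n * (y * v)⁻¹ = y * (v * n * v⁻¹) * y⁻¹ := by group
    rw [h1]
    apply conj_mem_commutator_left Y U hy
    apply conj_mem_commutator_right Y U _ hn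
    exact Subgroup.mem_normalizer_iff.mpr fun w => by
      constructor
      · intro hw
        exact U.mul_mem (U.mul_mem hv hw) (U.inv_mem hv)
      · intro hw
        have h2 : w = v⁻¹ * (v * w * v⁻¹) * v := by group
        rw [h2]
        exact U.mul_mem (U.mul_mem (U.inv_mem hv) hw) hv
  refine ⟨hJn, ?_⟩
  have hinf : J ⊓ H = ⊥ := by
    rw [eq_bot_iff]
    rintro x ⟨hx1, hx2⟩
    exact f2 x hx1 (hmemH.mp hx2)
  have hsup : J ⊔ H = ⊤ := by
    rw [eq_top_iff]
    intro x _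
    obtain ⟨y, hy, v, hv, rfl⟩ := hdec x
    obtain ⟨c, hc, hcU, j, hj, rfl⟩ := f3 y hy
    have h1 : c * j * v = (c * j * c⁻¹) * (c * v) := by group
    rw [h1]
    refine Subgroup.mul_mem_sup (hJn.conj_mem j hj c) (H.mul_mem (hmemH.mpr hcU) (hUH hv))
  have hHab : ∀ a ∈ H, ∀ b ∈ H, a * b = b * a := by
    -- the `Y`-parts commute
    have hpart : ∀ a ∈ H, ∃ y ∈ Y, ∃ v ∈ U, a = y * v ∧ y ∈ H := by
      intro a ha
      obtain ⟨y, hy, v, hv, rfl⟩ := hdec a
      refine ⟨y, hy, v, hv, rfl, ?_⟩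
      have h1 : y = (y * v) * v⁻¹ := by group
      rw [h1]
      exact H.mul_mem ha (H.inv_mem (hUH hv))
    intro a ha b hb
    obtain ⟨y, hy, v, hv, rfl, hyH⟩ := hpart a ha
    obtain ⟨y', hy', v', hv', rfl, hy'H⟩ := hpart b hb
    have h1 : y * y' * y⁻¹ * y'⁻¹ = 1 := by
      apply f2 _ (f1 y hy y' hy')
      apply hmemH.mp
      exact H.mul_mem (H.mul_mem (H.mul_mem hyH hy'H) (H.inv_mem hyH)) (H.inv_mem hy'H)
    have h2 : y * y' = y' * y := mul_inv_eq_iff_eq_mul.mp (mul_inv_eq_one.mp h1)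
    have h3 : v * v' = v' * v := hUab v hv v' hv'
    have h4 : y * v' = v' * y := hmemH.mp hyH v' hv'
    have h5 : y' * v = v * y' := hmemH.mp hy'H v hv
    calc y * v * (y' * v') = y * (v * y') * v' := by group
      _ = y * (y' * v) * v' := by rw [h5]
      _ = (y * y') * (v * v') := by group
      _ = (y' * y) * (v' * v) := by rw [h2, h3]
      _ = y' * (y * v') * v := by group
      _ = y' * (v' * y) * v := by rw [h4]
      _ = y' * v' * (y * v) := by group
  have hcomm : commutator X = J := by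
    apply le_antisymm
    · obtain ⟨r, hr, hker⟩ := exists_retraction J H hsup hinf
      rw [commutator_def, Subgroup.commutator_le]
      intro a _ b _
      rw [← hker, commutatorElement_def, map_mul, map_mul, map_mul, map_inv, map_inv]
      have h1 : r a * r b = r b * r a := Subtype.ext (hHab _ (r a).2 _ (r b).2)
      rw [h1]
      group
    · rw [commutator_def]
      exact Subgroup.commutator_mono le_top le_top
  exact ⟨hinf, hsup, hHab, hcomm⟩

end SplitFix


section Nonab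

variable {X : Type u} [Group X] [Fintype X]

/-- The Frobenius bound for the degree of a character. -/
theorem degree_le_index_mul {U : Type u} [Group U] [Fintype U] (T : Subgroup U) [Fintype T]
    {β : U → ℂ} (hβ : IsIrrCharacter U β) :
    ∃ β₀ : IrrCharacter T, charDegree β ≤ T.index * charDegree (β₀ : T → ℂ) := by
  classical
  have hc := IsIrrCharacter.isCharacter hβ
  obtain ⟨τ, hτ⟩ := exists_constituent T hc (irr_degree_ne_zero hβ)
  refine ⟨τ, ?_⟩
  have hind := indFun_isCharacter T (IsIrrCharacter.isCharacter τ.2)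
  have hfrob := frobenius T (τ : T → ℂ) (isClassFunction_of_isCharacter hc)
  have h1 : classInner (indFun T (τ : T → ℂ)) β ≠ 0 := by
    rw [hfrob, ← classInner_conj_symm]
    exact (map_ne_zero _).mpr hτ
  obtain ⟨ψ', hψ', heq⟩ := Cfsg.Agent.Lib.CharDecomp.exists_char_add hind hβ h1
  have h2 := congrFun heq 1
  rw [indFun_one, one_eq_charDegree (IsIrrCharacter.isCharacter τ.2), Pi.add_apply,
    one_eq_charDegree hc, one_eq_charDegree hψ'] at h2
  have h3 : T.index * charDegree (τ : T → ℂ) = charDegree β + charDegree ψ' := by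
    exact_mod_cast h2
  omega

/-- With a nonabelian complement the normal complement is abelian. -/
theorem Y_abelian (u : ℕ) [hu : Fact u.Prime] (Y U : Subgroup X) [hY : Y.Normal] [Fintype Y]
    [Fintype U] (hs : CS Y U) (hUp : IsPGroup u U) (hUn : ¬ ∀ a ∈ U, ∀ b ∈ U, a * b = b * a)
    (hnd : NoDivD X) (θ₀ : IrrCharacter Y) : (θ₀ : Y → ℂ) 1 = 1 := by
  classical
  by_contra hθ₀
  have hup : u.Prime := hu.out
  have hd0 : charDegree (θ₀ : Y → ℂ) ≠ 1 := by
    intro h
    apply hθ₀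
    rw [one_eq_charDegree (IsIrrCharacter.isCharacter θ₀.2), h]
    simp
  have hd00 : charDegree (θ₀ : Y → ℂ) ≠ 0 := charDegree_ne_zero θ₀.2
  have hinf : Y ⊓ U = ⊥ := by
    rw [eq_bot_iff]
    rintro x ⟨h1, h2⟩
    exact eq_one_of_mem hs h1 h2
  obtain ⟨ρ, hρ, hρker⟩ := exists_retraction Y U hs.top hinf
  have hρs : Function.Surjective ρ := r_surj U ρ hρ
  -- a nonlinear character of `U`
  obtain ⟨β₁, hβ₁⟩ : ∃ β₁ : IrrCharacter U, (β₁ : U → ℂ) 1 ≠ 1 := by
    by_contra hno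
    push Not at hno
    apply hUn
    intro a ha b hb
    have h1 := comm_of_all_linear hno ⟨a, ha⟩ ⟨b, hb⟩
    exact congrArg Subtype.val h1
  have hf1 : charDegree (β₁ : U → ℂ) ≠ 1 := by
    intro h
    apply hβ₁
    rw [one_eq_charDegree (IsIrrCharacter.isCharacter β₁.2), h]
    simp
  obtain ⟨m, hm⟩ := IsPGroup.iff_card.mp hUp
  let χ₁ : IrrCharacter X := ⟨(β₁ : U → ℂ) ∘ ρ, isIrrCharacter_comp_of_surjective ρ hρs β₁.2⟩
  have hχ₁ : charDegree (χ₁ : X → ℂ) = charDegree (β₁ : U → ℂ) := by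
    unfold charDegree
    simp [χ₁]
  -- the inertia group
  set V := Cfsg.Agent.Lib.DegreeDiv.inertia Y hY (θ₀ : Y → ℂ) with hV
  have hYV : Y ≤ V := Cfsg.Agent.Lib.DegreeDiv.le_inertia Y hY (IsIrrCharacter.isCharacter θ₀.2)
  haveI : Fintype V := Fintype.ofFinite _
  let T' : Subgroup U := V.subgroupOf U
  haveI : Fintype T' := Fintype.ofFinite _
  obtain ⟨β₀, hβ₀⟩ := degree_le_index_mul T' β₁.2
  have hVmem : ∀ v : X, v ∈ V → ((ρ v : U) : X) ∈ V := by
    intro v hv
    have h1 : v * ((ρ v : U) : X)⁻¹ ∈ V := hYV (kpart_mem Y U ρ hρ hρker v)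
    have h2 : ((ρ v : U) : X) = (v * ((ρ v : U) : X)⁻¹)⁻¹ * v := by group
    rw [h2]
    exact V.mul_mem (V.inv_mem h1) hv
  have hVidx : V.index = T'.index := by
    have h1 : V = T'.comap ρ := by
      ext v
      constructor
      · intro hv
        exact hVmem v hv
      · intro hv
        have h2 : ((ρ v : U) : X) ∈ V := hv
        have h3 : v * ((ρ v : U) : X)⁻¹ ∈ V := hYV (kpart_mem Y U ρ hρ hρker v)
        have h4 := V.mul_mem h3 h2
        rwa [inv_mul_cancel_right] at h4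
    rw [h1, Subgroup.index_comap_of_surjective _ hρs]
  -- the extension to `V`
  let K' : Subgroup V := Y.subgroupOf V
  let H' : Subgroup V := U.subgroupOf V
  haveI hK'n : K'.Normal := Subgroup.normal_subgroupOf
  haveI : Fintype K' := Fintype.ofFinite _
  haveI : Fintype H' := Fintype.ofFinite _
  let ε : K' ≃* Y := Subgroup.subgroupOfEquivOfLe hYV
  have hε : ∀ n : K', ((ε n : Y) : X) = ((n : V) : X) := fun n => rfl
  have hs' : CS K' H' := by
    constructor
    · rw [eq_top_iff]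
      rintro v -
      have h1 : v * ((ρ v : U) : X)⁻¹ ∈ Y := kpart_mem Y U ρ hρ hρker v
      have h2 : ((ρ v : U) : X) ∈ V := hVmem v v.2
      have h3 : v = (⟨v * ((ρ v : U) : X)⁻¹, hYV h1⟩ : V) * (⟨((ρ v : U) : X), h2⟩ : V) := by
        apply Subtype.ext
        simp
      rw [h3]
      apply Subgroup.mul_mem_sup
      · exact h1
      · exact (ρ v).2
    · have h1 : Nat.card K' = Nat.card Y := Nat.card_congr ε.toEquiv
      have h2 : Nat.card H' ∣ Nat.card U := by
        let g : H' →* U :=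
          { toFun := fun x => ⟨((x : V) : X), x.2⟩
            map_one' := rfl
            map_mul' := fun _ _ => rfl }
        apply Subgroup.card_dvd_of_injective g
        intro x y hxy
        apply Subtype.ext
        apply Subtype.ext
        exact congrArg (fun z : U => (z : X)) hxy
      rw [h1]
      exact Nat.Coprime.coprime_dvd_right h2 hs.cop
  have hθirr : IsIrrCharacter K' ((θ₀ : Y → ℂ) ∘ ε) :=
    isIrrCharacter_comp_of_surjective ε.toMonoidHom ε.surjective θ₀.2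
  have hθinv : Cfsg.Agent.Lib.GlaubCyc.InvS K' H' ((θ₀ : Y → ℂ) ∘ ε) := by
    intro s hs₁ g g' hg
    have h1 := (s : V).2 (ε g)
    rw [Function.comp_apply, Function.comp_apply, ← h1]
    refine congrArg (θ₀ : Y → ℂ) (Subtype.ext ?_)
    show ((g' : V) : X) = _
    rw [hg]
    rfl
  obtain ⟨ψ, hψ⟩ := exists_ext_complement hs' ⟨⟨_, hθirr⟩, hθinv⟩
  have hψc := IsIrrCharacter.isCharacter ψ.2
  have hψY : ∀ n : Y, (ψ : V → ℂ) ⟨n, hYV n.2⟩ = (θ₀ : Y → ℂ) n := by
    intro n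
    have h1 := hψ ⟨⟨n, hYV n.2⟩, n.2⟩
    exact h1
  -- the quotient map
  let q : V →* T' := (ρ.comp V.subtype).codRestrict T' (fun v => hVmem v v.2)
  have hqv : ∀ v : V, ((q v : U) : X) = ((ρ v : U) : X) := fun v => rfl
  have hq : Function.Surjective q := by
    intro t
    refine ⟨⟨((t : U) : X), t.2⟩, ?_⟩
    apply Subtype.ext
    exact hρ (t : U)
  have hqker : ∀ v : V, q v = 1 ↔ (v : X) ∈ Y := by
    intro v
    rw [← hρker]
    constructor
    · intro h
      have h1 : ((q v : U) : X) = 1 := by rw [h]; rfl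
      rw [hqv] at h1
      exact Subtype.ext h1
    · intro h
      apply Subtype.ext
      apply Subtype.ext
      rw [hqv, h]
      rfl
  let φ : q.ker →* Y := (V.subtype.comp q.ker.subtype).codRestrict Y
    (fun n => (hqker n).mp n.2)
  have hφ : Function.Surjective φ := by
    intro y
    refine ⟨⟨⟨y, hYV y.2⟩, (hqker _).mpr y.2⟩, ?_⟩
    apply Subtype.ext
    rfl
  have hetaN : IsIrrCharacter q.ker (fun n : q.ker => (ψ : V → ℂ) n) := by
    have h1 := isIrrCharacter_comp_of_surjective φ hφ θ₀.2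
    have h2 : (fun n : q.ker => (ψ : V → ℂ) n) = (θ₀ : Y → ℂ) ∘ φ := by
      funext n
      exact hψY (φ n)
    rw [h2]
    exact h1
  have hgal := Cfsg.Agent.Lib.GlaubSyl1.isIrr_gal q hq hψc hetaN β₀.2
  set Ψ := Cfsg.Agent.Lib.GlaubSyl1.gal q (ψ : V → ℂ) (β₀ : T' → ℂ) with hΨ
  have hΨY : (fun n : Y => Ψ ⟨(n : X), hYV n.2⟩) =
      ((β₀ : T' → ℂ) 1) • (θ₀ : Y → ℂ) := by
    funext n
    have h1 : q ⟨(n : X), hYV n.2⟩ = 1 := (hqker _).mpr n.2
    show (β₀ : T' → ℂ) (q ⟨(n : X), hYV n.2⟩) * (ψ : V → ℂ) ⟨(n : X), hYV n.2⟩ = _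
    rw [h1, hψY]
    rfl
  have hover : classInner (fun n : Y => Ψ ⟨(n : X), hYV n.2⟩) (θ₀ : Y → ℂ) ≠ 0 := by
    rw [hΨY, classInner_smul_left, classInner_irr_self θ₀.2, mul_one]
    exact irr_degree_ne_zero β₀.2
  have hind := (indFun_irr_of_over Y V θ₀.2
    (Cfsg.Agent.Lib.DegreeDiv.mem_inertia Y hY (θ₀ : Y → ℂ)) hYV hgal hover).1
  have hdeg : indFun V Ψ 1 = ((T'.index * charDegree (β₀ : T' → ℂ) *
      charDegree (θ₀ : Y → ℂ) : ℕ) : ℂ) := by
    rw [indFun_one, hVidx]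
    have h1 : Ψ 1 = (β₀ : T' → ℂ) 1 * (ψ : V → ℂ) 1 := by
      show (β₀ : T' → ℂ) (q 1) * (ψ : V → ℂ) 1 = _
      rw [map_one]
    have h2 : (ψ : V → ℂ) 1 = (θ₀ : Y → ℂ) 1 := hψY 1
    rw [h1, h2, one_eq_charDegree (IsIrrCharacter.isCharacter β₀.2),
      one_eq_charDegree (IsIrrCharacter.isCharacter θ₀.2)]
    push_cast
    ring
  let χ₂ : IrrCharacter X := ⟨_, hind⟩
  have hχ₂ : charDegree (χ₂ : X → ℂ) = T'.index * charDegree (β₀ : T' → ℂ) *
      charDegree (θ₀ : Y → ℂ) := charDegree_of_one hdeg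
  -- numerics
  set f := charDegree (β₁ : U → ℂ) with hf
  have hfd : f ∣ u ^ m := by
    rw [← hm]
    exact charDegree_dvd_card β₁.2
  have hid : T'.index ∣ u ^ m := by
    rw [← hm]
    exact Subgroup.index_dvd_card T'
  have hbd : charDegree (β₀ : T' → ℂ) ∣ u ^ m := by
    rw [← hm]
    exact (charDegree_dvd_card β₀.2).trans (Subgroup.card_subgroup_dvd_card T')
  obtain ⟨a, -, ha⟩ := (Nat.dvd_prime_pow hup).mp hfd
  obtain ⟨b, -, hb⟩ := (Nat.dvd_prime_pow hup).mp hid
  obtain ⟨c, -, hc⟩ := (Nat.dvd_prime_pow hup).mp hbd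
  have hle : f ≤ T'.index * charDegree (β₀ : T' → ℂ) := hβ₀
  have hdvd : f ∣ T'.index * charDegree (β₀ : T' → ℂ) := by
    rw [ha, hb, hc, ← pow_add] at hle ⊢
    exact pow_dvd_pow _ ((Nat.pow_le_pow_iff_right hup.one_lt).mp hle)
  have hfinal := hnd χ₁ χ₂ (by rw [hχ₁]; exact hf1) (by
    rw [hχ₁, hχ₂]
    exact hdvd.trans (Dvd.intro _ rfl))
  rw [hχ₁, hχ₂] at hfinal
  have hfpos : 0 < f := Nat.pos_of_ne_zero (charDegree_ne_zero β₁.2)
  set w := T'.index * charDegree (β₀ : T' → ℂ) with hw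
  have h2 : 2 ≤ charDegree (θ₀ : Y → ℂ) := by omega
  have h3 : w * 2 ≤ w * charDegree (θ₀ : Y → ℂ) := Nat.mul_le_mul_left w h2
  omega

/-- With a nonabelian complement there is a single nonlinear degree. -/
theorem single_of_nonabelian (u : ℕ) [hu : Fact u.Prime] (Y U : Subgroup X) [hY : Y.Normal]
    [Fintype Y] [Fintype U] (hs : CS Y U) (hUp : IsPGroup u U) {k : ℕ} (hk : Y.index = u ^ k)
    (hUn : ¬ ∀ a ∈ U, ∀ b ∈ U, a * b = b * a) (hnd : NoDivD X) :
    ∃ f : ℕ, ∀ θ : IrrCharacter X, charDegree (θ : X → ℂ) = 1 ∨ charDegree (θ : X → ℂ) = f := by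
  classical
  have hup : u.Prime := hu.out
  have hYab := Y_abelian u Y U hs hUp hUn hnd
  have hpow : ∀ θ : IrrCharacter X, ∃ a, charDegree (θ : X → ℂ) = u ^ a := by
    intro θ
    have hθc := IsIrrCharacter.isCharacter θ.2
    obtain ⟨τ, hτ⟩ := exists_constituent Y hθc (irr_degree_ne_zero θ.2)
    obtain ⟨-, h2⟩ := Cfsg.Agent.Lib.DegreeDiv.degree_div Y θ.2 τ.2 hτ
      (one_eq_charDegree hθc) (d := 1) (by rw [hYab τ]; simp)
    rw [Nat.div_one, hk] at h2
    obtain ⟨a, -, ha⟩ := (Nat.dvd_prime_pow hup).mp h2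
    exact ⟨a, ha⟩
  by_cases hex : ∃ θ₀ : IrrCharacter X, charDegree (θ₀ : X → ℂ) ≠ 1
  · obtain ⟨θ₀, hθ₀⟩ := hex
    refine ⟨charDegree (θ₀ : X → ℂ), fun θ => ?_⟩
    by_cases hθ : charDegree (θ : X → ℂ) = 1
    · exact Or.inl hθ
    right
    obtain ⟨a, ha⟩ := hpow θ
    obtain ⟨b, hb⟩ := hpow θ₀
    rcases le_total a b with h | h
    · exact hnd θ θ₀ hθ (by rw [ha, hb]; exact pow_dvd_pow _ h)
    · exact (hnd θ₀ θ hθ₀ (by rw [ha, hb]; exact pow_dvd_pow _ h)).symm
  · push Not at hex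
    exact ⟨1, fun θ => Or.inl (hex θ)⟩

/-- **The core.** -/
theorem core_main (u : ℕ) [hu : Fact u.Prime] (Y U : Subgroup X) [hY : Y.Normal] [Fintype Y]
    [Fintype U] (hs : CS Y U) (hYu : (Nat.card Y).Coprime u) (hUp : IsPGroup u U) {k : ℕ}
    (hk : Y.index = u ^ k)
    (hnl : ∀ θ : IrrCharacter X, charDegree (θ : X → ℂ) ≠ 1 → u ∣ charDegree (θ : X → ℂ))
    (hnd : NoDivD X) (σ : MulAut X) {ℓ e : ℕ} (hℓ : ℓ.Prime) (hℓu : ℓ ≠ u)
    (hσ : σ ^ (ℓ ^ e) = 1)
    (hinv : ∀ θ : IrrCharacter X, charDegree (θ : X → ℂ) ≠ 1 →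
      ∀ x, (θ : X → ℂ) (σ x) = (θ : X → ℂ) x)
    (hcop : ∀ θ : IrrCharacter X, charDegree (θ : X → ℂ) ≠ 1 → ¬ ℓ ∣ charDegree (θ : X → ℂ))
    (hUσ : ∀ a ∈ U, σ a ∈ U) (ha : ∃ a ∈ U, σ a ≠ a) :
    ∃ f : ℕ, ∀ θ : IrrCharacter X, charDegree (θ : X → ℂ) = 1 ∨ charDegree (θ : X → ℂ) = f := by
  classical
  have hup : u.Prime := hu.out
  by_cases hUab : ∀ a ∈ U, ∀ b ∈ U, a * b = b * a
  · obtain ⟨hJn, hd⟩ := split_of_fix u Y U hs hYu hUp hUab hnl
    haveI := hJn
    have hUσ' := inv_mem_of_pow σ U (pow_ne_zero e hℓ.ne_zero) hσ hUσ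
    have hH : ∀ a ∈ Subgroup.centralizer (U : Set X), σ a ∈ Subgroup.centralizer (U : Set X) := by
      intro a ha'
      rw [Subgroup.mem_centralizer_iff] at ha' ⊢
      intro v hv
      have h1 := ha' _ (hUσ' v hv)
      have h2 := congrArg σ h1
      simpa [map_mul] using h2
    obtain ⟨a, haU, hane⟩ := ha
    have haH : a ∈ Subgroup.centralizer (U : Set X) := by
      rw [Subgroup.mem_centralizer_iff]
      intro v hv
      exact hUab v hv a haU
    obtain ⟨t, ht⟩ := hUp ⟨a, haU⟩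
    have ht' : a ^ (u ^ t) = 1 := congrArg Subtype.val ht
    have hcop' : ℓ.Coprime (u ^ t) :=
      Nat.Coprime.pow_right t ((Nat.coprime_primes hℓ hup).mpr hℓu)
    have hJab := J_abelian hd hnd σ hℓ hσ hinv hcop hH haH hcop' ht' hane
    exact single_degree_of_abelian hd hnd hJab
  · exact single_of_nonabelian u Y U hs hUp hk hUab hnd

end Nonab

end Cfsg.Agent.Lib.NoDiv17
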