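import Mathlib
import Cfsg.Agent.Lib.NoDiv17E
import Cfsg.Prelude.Def_DegreeGraph

/-!
# The Frobenius case of the no-divisibility theorem
-/

set_option autoImplicit false
set_option linter.style.haveILetI false
set_option linter.unusedVariables false
set_option linter.unusedSectionVars false

namespace Cfsg.Agent.Lib.NoDiv17

open Cfsg Cfsg.Agent.Lib.CharBasic Cfsg.Agent.Lib.CharInd Cfsg.Agent.Lib.CharKernel
open Cfsg.Agent.Lib.Clifford Cfsg.Agent.Lib.CliffDvd Cfsg.Agent.Lib.TwoDeg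
open Cfsg.Agent.Lib.ThreeDeg31 Cfsg.Agent.Lib.CoprimeDeg
open scoped ComplexConjugate commutatorElement

universe u

section Graph

variable {G : Type u} [Group G]

/-- The induced degree graph. -/
abbrev Gam (G : Type u) [Group G] : SimpleGraph ↥(Cfsg.degreePrimes G) :=
  (Cfsg.degreeGraph G).induce (Cfsg.degreePrimes G)

/-- Two primes dividing a common degree are in a component. -/
theorem reach_of_common {v w : ↥(Cfsg.degreePrimes G)} {d : ℕ} (hd : d ∈ Cfsg.charDegrees G)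
    (hv : (v : ℕ) ∣ d) (hw : (w : ℕ) ∣ d) : (Gam G).Reachable v w := by
  by_cases h : v = w
  · rw [h]
  · apply SimpleGraph.Adj.reachable
    have hne : (v : ℕ) ≠ w := fun h' => h (Subtype.ext h')
    show (Cfsg.degreeGraph G).Adj v w
    refine ⟨hne, v.2.1, w.2.1, d, hd, ?_⟩
    exact Nat.Coprime.mul_dvd_of_dvd_of_dvd ((Nat.coprime_primes v.2.1 w.2.1).mpr hne) hv hw

/-- With two components, not all vertices are in the same component. -/
theorem not_all_reach (htwo : Nat.card (Gam G).ConnectedComponent = 2) :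
    ¬ ∀ v w : ↥(Cfsg.degreePrimes G), (Gam G).Reachable v w := by
  intro h
  have h1 : Subsingleton (Gam G).ConnectedComponent := by
    constructor
    intro a b
    induction a using SimpleGraph.ConnectedComponent.ind with
    | h v =>
      induction b using SimpleGraph.ConnectedComponent.ind with
      | h w =>
        exact SimpleGraph.ConnectedComponent.sound (h v w)
  rcases isEmpty_or_nonempty (Gam G).ConnectedComponent with h2 | ⟨⟨a⟩⟩
  · rw [Nat.card_of_isEmpty] at htwo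
    omega
  · rw [Nat.card_of_subsingleton a] at htwo
    omega

end Graph


section Frob

variable {G : Type u} [Group G] [Finite G]

/-- **The Frobenius case.** -/
theorem frob_three (hnd' : NoDivD G)
    (hnot : ¬ ∀ v w : ↥(Cfsg.degreePrimes G), (Gam G).Reachable v w)
    (N : Subgroup G) [hN : N.Normal]
    (hab : ∀ a ∈ commutator (G ⧸ N), ∀ b ∈ commutator (G ⧸ N), a * b = b * a)
    (hU : ∀ L : Subgroup (G ⧸ N), L.Normal → L ≠ ⊥ → commutator (G ⧸ N) ≤ L)
    (hne : commutator (G ⧸ N) ≠ ⊥) (htop : commutator (G ⧸ N) ≠ ⊤)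
    (hfree : ∀ h, h ∉ commutator (G ⧸ N) → ∀ y ∈ commutator (G ⧸ N),
      ∃ z ∈ commutator (G ⧸ N), h * z * h⁻¹ * z⁻¹ = y) :
    Nat.card ↥(Cfsg.charDegrees G) = 3 := by
  classical
  haveI : Fintype G := Fintype.ofFinite G
  set M := commutator (G ⧸ N) with hMdef
  have hMn : M.Normal := inferInstance
  let q : G →* G ⧸ N := QuotientGroup.mk' N
  have hq : Function.Surjective q := QuotientGroup.mk'_surjective N
  let A : Subgroup G := M.comap q
  haveI hAn : A.Normal := hMn.comap q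
  haveI : Fintype A := Fintype.ofFinite A
  set m := M.index with hm
  have hidx : A.index = m := by
    rw [Subgroup.index_comap_of_surjective M hq]
  have hm1 : m ≠ 1 := by
    intro h
    exact htop (Subgroup.index_eq_one.mp h)
  have hm0 : m ≠ 0 := Subgroup.index_ne_zero_of_finite
  have hmpos : 0 < m := Nat.pos_of_ne_zero hm0
  let π : A →* M := q.subgroupComap M
  have hπ : Function.Surjective π := q.subgroupComap_surjective_of_surjective M hq
  let c : G → M →* M := fun x => (MulAut.conjNormal (q x)).toMonoidHom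
  have hc : ∀ (x : G) (a : A), π ⟨x * a * x⁻¹, hAn.conj_mem a a.2 x⟩ = c x (π a) := by
    intro x a
    apply Subtype.ext
    show q (x * a * x⁻¹) = q x * q a * (q x)⁻¹
    simp
  have hfree' : ∀ x, x ∉ A → ∀ y : M, ∃ z : M, c x z * z⁻¹ = y := by
    intro x hx y
    obtain ⟨z, hz, hz'⟩ := hfree (q x) hx y y.2
    refine ⟨⟨z, hz⟩, Subtype.ext ?_⟩
    exact hz'
  have hdvd := index_dvd hab hU hfree
  have hM1 : 1 < Nat.card M := by
    haveI : Nontrivial M := (Subgroup.nontrivial_iff_ne_bot M).mpr hne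
    exact Finite.one_lt_card
  rw [← hMdef, ← hm] at hdvd
  have hcop : (Nat.card M).Coprime m := by
    obtain ⟨t, ht⟩ := hdvd
    have h1 : Nat.card M = m * t + 1 := by omega
    rw [h1]
    simp
  have hsize : m ≤ Nat.card M := by
    have h1 : m ≤ Nat.card M - 1 := Nat.le_of_dvd (by omega) hdvd
    omega
  have hQ : ∀ x y : M, x * y = y * x := fun x y => Subtype.ext (hab x x.2 y y.2)
  have htw : ∀ θ : IrrCharacter A, (charDegree (θ : A → ℂ)).Coprime (Nat.card M) →
      ∃ χ : IrrCharacter G, charDegree (χ : G → ℂ) = m * charDegree (θ : A → ℂ) :=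
    fun θ hθ => exists_ind_twist A hidx hQ π hπ c hc hfree' hsize θ.2 hθ
  have hone : charDegree (fun _ : A => (1 : ℂ)) = 1 := charDegree_of_one (by simp)
  -- `m` is a degree
  obtain ⟨χm, hχm⟩ : ∃ χ : IrrCharacter G, charDegree (χ : G → ℂ) = m := by
    obtain ⟨χ, hχ⟩ := htw ⟨fun _ => 1, isIrrCharacter_one⟩ (by
      change (charDegree (fun _ : A => (1 : ℂ))).Coprime _
      rw [hone]
      exact Nat.coprime_one_left _)
    refine ⟨χ, ?_⟩
    rw [hχ]
    change m * charDegree (fun _ : A => (1 : ℂ)) = m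
    rw [hone, mul_one]
  -- `M` is a `u`-group
  obtain ⟨u, hu, hudvd⟩ := Nat.exists_prime_and_dvd hM1.ne'
  haveI : Fact u.Prime := ⟨hu⟩
  obtain ⟨x, hx⟩ := exists_prime_orderOf_dvd_card' u hudvd
  let S : Subgroup (G ⧸ N) :=
    { carrier := {y | y ∈ M ∧ y ^ u = 1}
      mul_mem' := by
        rintro y z ⟨hy, hy'⟩ ⟨hz, hz'⟩
        refine ⟨M.mul_mem hy hz, ?_⟩
        have h1 : Commute y z := hab y hy z hz
        rw [h1.mul_pow, hy', hz', one_mul]
      one_mem' := ⟨M.one_mem, one_pow _⟩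
      inv_mem' := by
        rintro y ⟨hy, hy'⟩
        exact ⟨M.inv_mem hy, by rw [inv_pow, hy', inv_one]⟩ }
  have hSn : S.Normal := ⟨by
    rintro y ⟨hy, hy'⟩ g
    exact ⟨hMn.conj_mem y hy g, by rw [conj_pow, hy']; simp⟩⟩
  have hSne : S ≠ ⊥ := by
    intro h
    have h1 : (x : G ⧸ N) ∈ S := by
      refine ⟨x.2, ?_⟩
      have h2 : x ^ u = 1 := by
        rw [← hx]
        exact pow_orderOf_eq_one x
      exact congrArg Subtype.val h2
    rw [h] at h1
    have h2 : x = 1 := Subtype.ext h1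
    rw [h2, orderOf_one] at hx
    exact hu.one_lt.ne hx
  have hMS := hU S hSn hSne
  have hMp : IsPGroup u M := by
    intro y
    refine ⟨1, ?_⟩
    apply Subtype.ext
    rw [pow_one]
    exact (hMS y.2).2
  obtain ⟨n, hn⟩ := IsPGroup.iff_card.mp hMp
  have hum : ¬ u ∣ m := by
    intro h
    have h1 := Nat.dvd_gcd hudvd h
    rw [hcop] at h1
    exact hu.one_lt.ne' (Nat.dvd_one.mp h1)
  have hcopu : ∀ θ : IrrCharacter A, ¬ u ∣ charDegree (θ : A → ℂ) →
      (charDegree (θ : A → ℂ)).Coprime (Nat.card M) := by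
    intro θ h
    rw [hn]
    exact Nat.Coprime.pow_right n ((Nat.Prime.coprime_iff_not_dvd hu).mpr h).symm
  -- (a) the nonlinear degrees of `A` are divisible by `u`
  have hnl : ∀ θ : IrrCharacter A, charDegree (θ : A → ℂ) ≠ 1 → u ∣ charDegree (θ : A → ℂ) := by
    intro θ hθ
    by_contra h
    obtain ⟨χ, hχ⟩ := htw θ (hcopu θ h)
    have h1 := hnd' χm χ (by rw [hχm]; exact hm1) (by rw [hχm, hχ]; exact Dvd.intro _ rfl)
    rw [hχm, hχ] at h1
    exact hθ (Nat.eq_of_mul_eq_mul_left hmpos (by rw [← h1, mul_one])).symm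
  -- (d) degrees prime to `u`
  have hprime : ∀ χ : IrrCharacter G, ¬ u ∣ charDegree (χ : G → ℂ) →
      charDegree (χ : G → ℂ) = 1 ∨ charDegree (χ : G → ℂ) = m := by
    intro χ hχ
    by_cases h1 : charDegree (χ : G → ℂ) = 1
    · exact Or.inl h1
    right
    have hχc := IsIrrCharacter.isCharacter χ.2
    obtain ⟨θ, hθ⟩ := exists_constituent A hχc (irr_degree_ne_zero χ.2)
    have h2 := degree_dvd A θ.2 χ.2 hθ
    have h3 : charDegree (θ : A → ℂ) = 1 := by
      by_contra h4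
      exact hχ ((hnl θ h4).trans h2)
    obtain ⟨-, h5⟩ := Cfsg.Agent.Lib.DegreeDiv.degree_div A χ.2 θ.2 hθ (one_eq_charDegree hχc)
      (d := 1) (by rw [one_eq_charDegree (IsIrrCharacter.isCharacter θ.2), h3])
    rw [Nat.div_one, hidx] at h5
    rw [← hχm]
    exact hnd' χ χm h1 (by rw [hχm]; exact h5)
  -- the graph
  have hgraph : (∃ χ : IrrCharacter G, u ∣ charDegree (χ : G → ℂ)) ∧
      ∀ χ : IrrCharacter G, u ∣ charDegree (χ : G → ℂ) → (charDegree (χ : G → ℂ)).Coprime m := by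
    by_contra hno
    apply hnot
    obtain ⟨p₀, hp₀, hp₀m⟩ := Nat.exists_prime_and_dvd hm1
    have hp₀v : p₀ ∈ Cfsg.degreePrimes G := ⟨hp₀, m, ⟨χm, hχm⟩, hp₀m⟩
    have hall : ∀ v : ↥(Cfsg.degreePrimes G), (Gam G).Reachable v ⟨p₀, hp₀v⟩ := by
      rintro ⟨v, hv, d, ⟨χ, rfl⟩, hvd⟩
      by_cases huχ : u ∣ charDegree (χ : G → ℂ)
      · have hnC : ¬ ∀ χ : IrrCharacter G, u ∣ charDegree (χ : G → ℂ) →
            (charDegree (χ : G → ℂ)).Coprime m := fun hC => hno ⟨⟨χ, huχ⟩, hC⟩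
        push Not at hnC
        obtain ⟨χ', h1, h2⟩ := hnC
        obtain ⟨p, hp, hpd, hpm⟩ := Nat.Prime.not_coprime_iff_dvd.mp h2
        have hUv : u ∈ Cfsg.degreePrimes G := ⟨hu, _, ⟨χ, rfl⟩, huχ⟩
        have hpv : p ∈ Cfsg.degreePrimes G := ⟨hp, m, ⟨χm, hχm⟩, hpm⟩
        exact (reach_of_common (v := ⟨v, ⟨hv, _, ⟨χ, rfl⟩, hvd⟩⟩) (w := ⟨u, hUv⟩) ⟨χ, rfl⟩ hvd huχ).trans
          ((reach_of_common (v := ⟨u, hUv⟩) (w := ⟨p, hpv⟩) ⟨χ', rfl⟩ h1 hpd).trans
            (reach_of_common (v := ⟨p, hpv⟩) (w := ⟨p₀, hp₀v⟩) ⟨χm, hχm⟩ hpm hp₀m))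
      · rcases hprime χ huχ with h | h
        · rw [h] at hvd
          exact absurd (Nat.dvd_one.mp hvd) hv.one_lt.ne'
        · rw [h] at hvd
          exact reach_of_common ⟨χm, hχm⟩ hvd hp₀m
    intro v w
    exact (hall v).trans (hall w).symm
  obtain ⟨⟨χ₃, hχ₃⟩, hC⟩ := hgraph
  -- (b) over a nonlinear character
  have hover : ∀ (χ : IrrCharacter G) (θ : IrrCharacter A),
      classInner (fun n : A => (χ : G → ℂ) n) (θ : A → ℂ) ≠ 0 → charDegree (θ : A → ℂ) ≠ 1 →
      charDegree (χ : G → ℂ) = charDegree (θ : A → ℂ) ∧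
        (fun n : A => (χ : G → ℂ) n) = (θ : A → ℂ) := by
    intro χ θ hχθ hθ
    have hχc := IsIrrCharacter.isCharacter χ.2
    have h1 := degree_dvd A θ.2 χ.2 hχθ
    have h2 := hC χ ((hnl θ hθ).trans h1)
    obtain ⟨-, h3⟩ := Cfsg.Agent.Lib.DegreeDiv.degree_div A χ.2 θ.2 hχθ (one_eq_charDegree hχc)
      (one_eq_charDegree (IsIrrCharacter.isCharacter θ.2))
    rw [hidx] at h3
    have h4 : charDegree (χ : G → ℂ) / charDegree (θ : A → ℂ) ∣ charDegree (χ : G → ℂ) :=
      Nat.div_dvd_of_dvd h1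
    have h5 : charDegree (χ : G → ℂ) / charDegree (θ : A → ℂ) = 1 :=
      Nat.eq_one_of_dvd_coprimes h2 h4 h3
    have h6 : charDegree (χ : G → ℂ) = charDegree (θ : A → ℂ) := by
      have h7 := Nat.div_mul_cancel h1
      rw [h5, one_mul] at h7
      exact h7.symm
    refine ⟨h6, ?_⟩
    apply Cfsg.Agent.Lib.CharDecomp.eq_of_inner_ne_zero_of_le (isCharacter_restrict A hχc) θ.2 hχθ
    have h8 : charDegree (fun z : A => (χ : G → ℂ) z) = charDegree (χ : G → ℂ) :=
      charDegree_of_one (by simpa using one_eq_charDegree hχc)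
    rw [h8, h6]
  have hinvG : ∀ θ : IrrCharacter A, charDegree (θ : A → ℂ) ≠ 1 → ∀ (g : G) (n : A),
      (θ : A → ℂ) ⟨g * n * g⁻¹, hAn.conj_mem n n.2 g⟩ = (θ : A → ℂ) n := by
    intro θ hθ g n
    obtain ⟨χ, hχ⟩ := Cfsg.Agent.Lib.GlaubAbove.exists_irr_over A θ
    obtain ⟨-, h2⟩ := hover χ θ hχ hθ
    rw [← h2]
    exact char_apply_conj (IsIrrCharacter.isCharacter χ.2) _ _
  have hdegG : ∀ θ : IrrCharacter A, charDegree (θ : A → ℂ) ≠ 1 →
      ∃ χ : IrrCharacter G, charDegree (χ : G → ℂ) = charDegree (θ : A → ℂ) := by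
    intro θ hθ
    obtain ⟨χ, hχ⟩ := Cfsg.Agent.Lib.GlaubAbove.exists_irr_over A θ
    exact ⟨χ, (hover χ θ hχ hθ).1⟩
  have hndA : NoDivD A := by
    intro θ θ' hθ h
    have hθ' : charDegree (θ' : A → ℂ) ≠ 1 := by
      intro h1
      rw [h1] at h
      exact hθ (Nat.dvd_one.mp h)
    obtain ⟨χ, hχ⟩ := hdegG θ hθ
    obtain ⟨χ', hχ'⟩ := hdegG θ' hθ'
    have h1 := hnd' χ χ' (by rw [hχ]; exact hθ) (by rw [hχ, hχ']; exact h)
    rw [hχ, hχ'] at h1
    exact h1
  -- Thompson's theorem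
  obtain ⟨Y₀, hY₀, hYc, k, hYi⟩ := Cfsg.Agent.S4456.result u hu hnl
  haveI := hY₀
  haveI : Fintype Y₀ := Fintype.ofFinite _
  obtain ⟨P, r, hr, hker, hPp, hdec, hPc⟩ := exists_complement_data Y₀ hu hYc hYi
  haveI : Fintype P := Fintype.ofFinite _
  have hCS : CS Y₀ P := by
    constructor
    · rw [eq_top_iff]
      intro a _
      obtain ⟨c', hc', x', hx', rfl⟩ := hdec a
      exact Subgroup.mul_mem_sup hc' hx'
    · rw [hPc]
      exact Nat.Coprime.pow_right k hYc
  -- the complement is a Sylow subgroup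
  have hPidx : ¬ u ∣ P.index := by
    have h1 := Subgroup.card_mul_index P
    have h2 := Subgroup.card_mul_index Y₀
    rw [hYi, ← hPc, ← h1, mul_comm] at h2
    have h3 : Nat.card Y₀ = P.index :=
      Nat.eq_of_mul_eq_mul_left (Nat.card_pos (α := P)) (by rw [← h2, mul_comm])
    rw [← h3]
    intro h4
    have h5 := Nat.dvd_gcd h4 (dvd_refl u)
    rw [hYc] at h5
    exact hu.one_lt.ne' (Nat.dvd_one.mp h5)
  let Syl : Sylow u A := hPp.toSylow hPidx
  have hFr := Syl.normalizer_sup_eq_top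
  set PG : Subgroup G := (Syl : Subgroup A).map A.subtype with hPG
  set Nor : Subgroup G := Subgroup.normalizer (PG : Set G) with hNor
  -- an element of the normalizer outside `A`
  have hAtop : A ≠ ⊤ := by
    intro h
    apply hm1
    rw [← hidx, h, Subgroup.index_top]
  obtain ⟨x₂, hx₂, hx₂A⟩ : ∃ x₂ ∈ Nor, x₂ ∉ A := by
    by_contra hno
    push Not at hno
    apply hAtop
    rw [eq_top_iff, ← hFr]
    exact sup_le hno le_rfl
  -- its `ℓ`-part
  have hw1 : orderOf (x₂ : G ⧸ A) ≠ 1 := by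
    intro h
    exact hx₂A ((QuotientGroup.eq_one_iff x₂).mp (orderOf_eq_one_iff.mp h))
  obtain ⟨ℓ, hℓ, hℓw⟩ := Nat.exists_prime_and_dvd hw1
  have hℓm : ℓ ∣ m := by
    rw [← hidx]
    exact hℓw.trans (orderOf_dvd_natCard (x₂ : G ⧸ A))
  have hℓu : ℓ ≠ u := by
    rintro rfl
    exact hum hℓm
  set o := orderOf x₂ with ho
  have ho0 : o ≠ 0 := (orderOf_pos x₂).ne'
  set o' := ordCompl[ℓ] o with ho'
  set e := o.factorization ℓ with he
  have hoo : ℓ ^ e * o' = o := Nat.ordProj_mul_ordCompl_eq_self o ℓ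
  have hℓo' : ¬ ℓ ∣ o' := Nat.not_dvd_ordCompl hℓ ho0
  set y := x₂ ^ o' with hy
  have hyNor : y ∈ Nor := Nor.pow_mem hx₂ _
  have hyA : y ∉ A := by
    intro h
    have h1 : (x₂ : G ⧸ A) ^ o' = 1 := by
      have h2 : ((x₂ ^ o' : G) : G ⧸ A) = 1 := (QuotientGroup.eq_one_iff _).mpr h
      exact h2
    exact hℓo' (hℓw.trans (orderOf_dvd_of_pow_eq_one h1))
  have hypow : y ^ (ℓ ^ e) = 1 := by
    rw [hy, ← pow_mul, mul_comm, hoo, ho]
    exact pow_orderOf_eq_one x₂
  let σ : MulAut A := MulAut.conjNormal y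
  have hσval : ∀ a : A, ((σ a : A) : G) = y * a * y⁻¹ := fun a => MulAut.conjNormal_apply y a
  have hσ : σ ^ (ℓ ^ e) = 1 := by
    have h1 : (MulAut.conjNormal (G := G) (H := A)) (y ^ (ℓ ^ e)) = σ ^ (ℓ ^ e) := map_pow _ _ _
    rw [← h1, hypow, map_one]
  have hinv : ∀ θ : IrrCharacter A, charDegree (θ : A → ℂ) ≠ 1 →
      ∀ a : A, (θ : A → ℂ) (σ a) = (θ : A → ℂ) a := by
    intro θ hθ a
    rw [← hinvG θ hθ y a]
    exact congrArg (θ : A → ℂ) (Subtype.ext (hσval a))
  have hcopℓ : ∀ θ : IrrCharacter A, charDegree (θ : A → ℂ) ≠ 1 →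
      ¬ ℓ ∣ charDegree (θ : A → ℂ) := by
    intro θ hθ h
    obtain ⟨χ, hχ⟩ := hdegG θ hθ
    have h1 := hC χ (by rw [hχ]; exact hnl θ hθ)
    rw [hχ] at h1
    have h2 := Nat.dvd_gcd h hℓm
    rw [h1] at h2
    exact hℓ.one_lt.ne' (Nat.dvd_one.mp h2)
  have hUσ : ∀ a ∈ P, σ a ∈ P := by
    intro a ha
    have h1 : (a : G) ∈ PG := Subgroup.mem_map_of_mem _ ha
    have h2 : y * (a : G) * y⁻¹ ∈ PG := (Subgroup.mem_normalizer_iff.mp hyNor _).mp h1
    obtain ⟨a', ha', ha'e⟩ := h2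
    have h3 : σ a = a' := Subtype.ext (by rw [hσval]; exact ha'e.symm)
    rw [h3]
    exact ha'
  have hmoved : ∃ a ∈ P, σ a ≠ a := by
    by_contra hno
    push Not at hno
    -- `y` centralizes `M`
    have h1 : ∀ z : M, q y * (z : G ⧸ N) * (q y)⁻¹ = z := by
      intro z
      obtain ⟨a, rfl⟩ := hπ z
      obtain ⟨c', hc', v, hv, rfl⟩ := hdec a
      have h2 : π c' = 1 := by
        have e1 : (π c') ^ (Nat.card Y₀) = 1 := by
          rw [← map_pow]
          have e2 : (⟨c', hc'⟩ : Y₀) ^ (Nat.card Y₀) = 1 := pow_card_eq_one'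
          have e3 : c' ^ (Nat.card Y₀) = 1 := congrArg Subtype.val e2
          rw [e3, map_one]
        have e2 : (π c') ^ (u ^ n) = 1 := by
          rw [← hn]
          exact pow_card_eq_one'
        have e3 : Nat.Coprime (Nat.card Y₀) (u ^ n) := Nat.Coprime.pow_right n hYc
        have e4 := (pow_gcd_eq_one (a := π c')).mpr ⟨e1, e2⟩
        rw [e3.gcd_eq_one, pow_one] at e4
        exact e4
      rw [map_mul, h2, one_mul]
      have h3 := hno v hv
      have h4 : y * (v : G) * y⁻¹ = v := by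
        rw [← hσval, h3]
      show q y * q (v : G) * (q y)⁻¹ = q (v : G)
      rw [← map_inv, ← map_mul, ← map_mul, h4]
    have hqy : q y ∉ M := hyA
    apply hne
    rw [eq_bot_iff]
    intro w hw
    obtain ⟨z, hz, hz'⟩ := hfree (q y) hqy w hw
    rw [Subgroup.mem_bot, ← hz', h1 ⟨z, hz⟩]
    group
  -- the core
  obtain ⟨f, hf⟩ := core_main u Y₀ P hCS hYc hPp hYi hnl hndA σ hℓ hℓu hσ hinv hcopℓ hUσ hmoved
  -- degrees divisible by `u`
  have hthird : ∀ χ : IrrCharacter G, u ∣ charDegree (χ : G → ℂ) → charDegree (χ : G → ℂ) = f := by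
    intro χ hχ
    have hχc := IsIrrCharacter.isCharacter χ.2
    obtain ⟨θ, hθ⟩ := exists_constituent A hχc (irr_degree_ne_zero χ.2)
    by_cases h1 : charDegree (θ : A → ℂ) = 1
    · exfalso
      obtain ⟨-, h5⟩ := Cfsg.Agent.Lib.DegreeDiv.degree_div A χ.2 θ.2 hθ (one_eq_charDegree hχc)
        (d := 1) (by rw [one_eq_charDegree (IsIrrCharacter.isCharacter θ.2), h1])
      rw [Nat.div_one, hidx] at h5
      exact hum (hχ.trans h5)
    · rw [(hover χ θ hθ h1).1]
      exact (hf θ).resolve_left h1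
  have hfu : u ∣ f := by
    rw [← hthird χ₃ hχ₃]
    exact hχ₃
  have hone' : (1 : ℕ) ∈ Cfsg.charDegrees G :=
    ⟨⟨fun _ => 1, isIrrCharacter_one⟩, charDegree_of_one (by simp)⟩
  have hset : Cfsg.charDegrees G = {1, m, f} := by
    ext d
    constructor
    · rintro ⟨χ, rfl⟩
      by_cases h : u ∣ charDegree (χ : G → ℂ)
      · right
        right
        exact hthird χ h
      · rcases hprime χ h with h1 | h1
        · left
          exact h1
        · right
          left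
          exact h1
    · rintro (rfl | rfl | rfl)
      · exact hone'
      · exact ⟨χm, hχm⟩
      · exact ⟨χ₃, hthird χ₃ hχ₃⟩
  rw [Nat.card_coe_set_eq, Set.ncard_eq_three]
  refine ⟨1, m, f, hm1.symm, ?_, ?_, hset⟩
  · rintro rfl
    exact hu.one_lt.ne' (Nat.dvd_one.mp hfu)
  · rintro rfl
    exact hum hfu

end Frob

end Cfsg.Agent.Lib.NoDiv17
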