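import Mathlib
import Cfsg.Agent.Lib.NoFiveBase
import Cfsg.Agent.Lib.ClassicalSmall
import Cfsg.Agent.S2475
import Cfsg.Prelude.Def_Exceptional

/-!
# Arithmetic: the only `PSL₂(q)` with the property and three prime divisors is `PSL₂(7)`.
-/

set_option autoImplicit false

namespace Cfsg.Agent.Lib.NoFive

/-- Numbers which may be orders of elements. -/
def Gd (m : ℕ) : Prop := (∃ k : ℕ, m = 2 ^ k) ∨ (m.Prime ∧ m ≠ 5)

lemma Gd_of_orderOf {G : Type*} [Group G] (hP : IsP G) (g : G) : Gd (orderOf g) := by
  by_cases hg : g = 1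
  · left
    exact ⟨0, by simp [hg]⟩
  · rcases hP g hg with ⟨k, hk⟩ | h
    · exact Or.inl ⟨k, hk⟩
    · exact Or.inr h

lemma not_five_pow {k : ℕ} : 5 ≠ 2 ^ k := by
  intro hk
  have h1 : k < 3 := by
    by_contra hc
    push Not at hc
    have : 2 ^ 3 ≤ 2 ^ k := Nat.pow_le_pow_right (by norm_num) hc
    omega
  interval_cases k <;> omega

lemma Gd_five (h : Gd 5) : False := by
  rcases h with ⟨k, hk⟩ | ⟨_, h⟩
  · exact not_five_pow hk
  · exact h rfl

lemma Gd.of_odd {m : ℕ} (h : Gd m) (hodd : m % 2 = 1) (h1 : m ≠ 1) : m.Prime ∧ m ≠ 5 := by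
  rcases h with ⟨k, rfl⟩ | h
  · rcases k with _ | k
    · simp at h1
    · rw [pow_succ] at hodd
      omega
  · exact h

lemma Gd.of_even {m : ℕ} (h : Gd m) (heven : m % 2 = 0) : ∃ k : ℕ, m = 2 ^ k := by
  rcases h with h | ⟨hp, -⟩
  · exact h
  · have := (hp.eq_one_or_self_of_dvd 2 (Nat.dvd_of_mod_eq_zero heven))
    refine ⟨1, ?_⟩
    rcases this with h2 | h2
    · omega
    · omega

lemma four_pow_mod (s : ℕ) : 4 ^ s % 3 = 1 := by
  rw [Nat.pow_mod]
  simp

theorem arith_even {q f : ℕ} (hq : q = 2 ^ f) (h4 : 4 ≤ q) (hA : Gd (q - 1)) (hB : Gd (q + 1)) : False := by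
  have hqe : q % 2 = 0 := by
    rcases f with _ | f
    · rw [hq] at h4
      omega
    · rw [hq, pow_succ]
      omega
  obtain ⟨hA1, hA5⟩ := hA.of_odd (by omega) (by omega)
  obtain ⟨hB1, hB5⟩ := hB.of_odd (by omega) (by omega)
  have h3 : q % 3 = 0 ∨ q % 3 = 1 ∨ q % 3 = 2 := by omega
  rcases h3 with h3 | h3 | h3
  · have h5 : 3 ∣ 2 ^ f := by
      rw [← hq]
      exact Nat.dvd_of_mod_eq_zero h3
    have h6 := Nat.Prime.dvd_of_dvd_pow Nat.prime_three h5
    omega
  · have h5 : 3 ∣ q - 1 := by omega
    have h6 := (Nat.prime_dvd_prime_iff_eq Nat.prime_three hA1).mp h5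
    omega
  · have h5 : 3 ∣ q + 1 := by omega
    have h6 := (Nat.prime_dvd_prime_iff_eq Nat.prime_three hB1).mp h5
    omega

/-- `3 ∣ p ^ f` forces `p = 3`. -/
lemma eq_three_of_dvd {p f : ℕ} (hp : p.Prime) (h : 3 ∣ p ^ f) : p = 3 :=
  ((Nat.prime_dvd_prime_iff_eq Nat.prime_three hp).mp (Nat.Prime.dvd_of_dvd_pow Nat.prime_three h)).symm

theorem arith_odd {p f q r : ℕ} (hp : p.Prime) (hp5 : p ≠ 5) (hq : q = p ^ f) (hr : q = 2 * r + 1) (h2 : 2 ≤ r)
    (hA : Gd r) (hB : Gd (r + 1)) : q = 7 := by
  by_cases hre : r % 2 = 0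
  · obtain ⟨a, ha⟩ := hA.of_even hre
    obtain ⟨hB1, hB5⟩ := hB.of_odd (by omega) (by omega)
    exfalso
    rcases Nat.even_or_odd' a with ⟨s, rfl | rfl⟩
    · -- `a` even
      rw [pow_mul] at ha
      norm_num at ha
      have hs : s ≠ 0 := by
        rintro rfl
        simp at ha
        omega
      have h4s := four_pow_mod s
      have hq3 : 3 ∣ p ^ f := by
        rw [← hq, hr, ha]
        omega
      have hp3 := eq_three_of_dvd hp hq3
      subst hp3
      -- modulo `8`
      obtain ⟨s', rfl⟩ := Nat.exists_eq_succ_of_ne_zero hs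
      have hq8 : q % 8 = 1 := by
        rw [hr, ha, Nat.succ_eq_add_one, pow_succ]
        omega
      have hfe : f % 2 = 0 := by
        by_contra hc
        have hf1 : f % 2 = 1 := by omega
        obtain ⟨g, rfl⟩ : ∃ g, f = 2 * g + 1 := ⟨f / 2, by omega⟩
        have h9 : 9 ^ g % 8 = 1 := by
          rw [Nat.pow_mod]
          simp
        rw [hq, pow_succ, pow_mul] at hq8
        norm_num at hq8
        omega
      obtain ⟨g, rfl⟩ : ∃ g, f = 2 * g := ⟨f / 2, by omega⟩
      set x := 3 ^ g with hx
      have hqx : q = x * x := by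
        rw [hq, hx, mul_comm 2 g, pow_mul, sq]
      have hx1 : 1 ≤ x := Nat.one_le_pow _ _ (by norm_num)
      have hprod : (x - 1) * (x + 1) = 2 ^ (2 * (s' + 1) + 1) := by
        have h5 : 2 ^ (2 * (s' + 1) + 1) = 2 * r := by
          rw [pow_succ, pow_mul, ha, Nat.succ_eq_add_one]
          norm_num
          ring
        rw [h5]
        obtain ⟨x', hx'⟩ := Nat.exists_eq_add_of_le hx1
        rw [hx'] at hqx ⊢
        have h6 : 1 + x' - 1 = x' := by omega
        rw [h6]
        nlinarith
      obtain ⟨u, -, hu⟩ := (Nat.dvd_prime_pow Nat.prime_two).mp (Dvd.intro _ hprod)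
      obtain ⟨v, -, hv⟩ := (Nat.dvd_prime_pow Nat.prime_two).mp (Dvd.intro_left _ hprod)
      have huv : 2 ^ v = 2 ^ u + 2 := by omega
      have hu2 : u < 2 := by
        by_contra hc
        push Not at hc
        obtain ⟨u', rfl⟩ := Nat.exists_eq_add_of_le hc
        have hpos : 1 ≤ 2 ^ u' := Nat.one_le_pow _ _ (by norm_num)
        have hv2 : 2 ≤ v := by
          by_contra hv'
          push Not at hv'
          interval_cases v <;> (rw [pow_add] at huv; omega)
        obtain ⟨v', rfl⟩ := Nat.exists_eq_add_of_le hv2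
        rw [pow_add, pow_add] at huv
        omega
      interval_cases u
      · -- `x = 2`
        have h5 : x = 2 := by
          simp at hu
          omega
        rw [hx] at h5
        have h6 : 3 ∣ 3 ^ g := by
          rcases g with _ | g
          · simp at h5
          · exact dvd_pow_self 3 (by omega)
        rw [h5] at h6
        omega
      · have h5 : x = 3 := by
          simp at hu
          omega
        have h6 : q = 9 := by
          rw [hqx, h5]
        have h7 : r = 4 := by omega
        exact hB5 (by omega)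
    · -- `a` odd
      rw [pow_succ, pow_mul] at ha
      norm_num at ha
      have h4s := four_pow_mod s
      have h3 : 3 ∣ r + 1 := by
        rw [ha]
        omega
      have h6 := (Nat.prime_dvd_prime_iff_eq Nat.prime_three hB1).mp h3
      have h7 : p ^ f = 5 := by
        rw [← hq, hr]
        omega
      have h8 : p ∣ 5 := by
        rw [← h7]
        apply dvd_pow_self
        rintro rfl
        simp at h7
      exact hp5 ((Nat.prime_dvd_prime_iff_eq hp (by norm_num)).mp h8)
  · have hro : r % 2 = 1 := by omega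
    obtain ⟨hA1, hA5⟩ := hA.of_odd hro (by omega)
    obtain ⟨b, hb⟩ := hB.of_even (by omega)
    rcases Nat.even_or_odd' b with ⟨s, rfl | rfl⟩
    · -- `b` even
      rw [pow_mul] at hb
      norm_num at hb
      have h4s := four_pow_mod s
      have h3 : 3 ∣ r := by omega
      have h6 := (Nat.prime_dvd_prime_iff_eq Nat.prime_three hA1).mp h3
      omega
    · -- `b` odd
      exfalso
      rw [pow_succ, pow_mul] at hb
      norm_num at hb
      have h4s := four_pow_mod (s + 1)
      have h4s' : 4 ^ (s + 1) = 2 * (r + 1) := by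
        rw [pow_succ, hb]
        ring
      have hq3 : 3 ∣ p ^ f := by
        rw [← hq, hr]
        omega
      have hp3 := eq_three_of_dvd hp hq3
      subst hp3
      set x := 2 ^ (s + 1) with hx
      have hx2 : 2 ≤ x := by
        rw [hx, pow_succ]
        have : 1 ≤ 2 ^ s := Nat.one_le_pow _ _ (by norm_num)
        omega
      have hxx : x * x = 4 ^ (s + 1) := by
        rw [hx, ← mul_pow]
        norm_num
      have hprod : (x - 1) * (x + 1) = 3 ^ f := by
        rw [← hq, hr]
        obtain ⟨x', hx'⟩ := Nat.exists_eq_add_of_le hx2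
        rw [hx'] at hxx ⊢
        have h6 : 2 + x' - 1 = 1 + x' := by omega
        rw [h6]
        nlinarith
      obtain ⟨u, -, hu⟩ := (Nat.dvd_prime_pow Nat.prime_three).mp (Dvd.intro _ hprod)
      obtain ⟨v, -, hv⟩ := (Nat.dvd_prime_pow Nat.prime_three).mp (Dvd.intro_left _ hprod)
      have huv : 3 ^ v = 3 ^ u + 2 := by omega
      have hu0 : u = 0 := by
        by_contra hc
        obtain ⟨u', rfl⟩ := Nat.exists_eq_succ_of_ne_zero hc
        rcases v with _ | v
        · simp at huv
        · rw [Nat.succ_eq_add_one, pow_succ, pow_succ] at huv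
          omega
      subst hu0
      have hx3 : x = 2 := by
        simp at hu
        omega
      have hs : s = 0 := by
        by_contra hc
        obtain ⟨s', rfl⟩ := Nat.exists_eq_succ_of_ne_zero hc
        rw [hx, Nat.succ_eq_add_one, pow_succ, pow_succ] at hx3
        have : 1 ≤ 2 ^ s' := Nat.one_le_pow _ _ (by norm_num)
        omega
      subst hs
      simp at hb
      omega

/-- `PSL₂(q)` with the property and at least three prime divisors has order `168`. -/
theorem card_168_of_psl {F : Type*} [Field F] [Fintype F]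
    (hP : IsP (Matrix.ProjectiveSpecialLinearGroup (Fin 2) F))
    (h3 : 3 ≤ (Nat.card (Matrix.ProjectiveSpecialLinearGroup (Fin 2) F)).primeFactors.card) :
    Nat.card (Matrix.ProjectiveSpecialLinearGroup (Fin 2) F) = 168 := by
  obtain ⟨p, hchar⟩ := CharP.exists F
  haveI := hchar
  have hpp : p.Prime := CharP.char_is_prime F p
  haveI : Fact p.Prime := ⟨hpp⟩
  obtain ⟨f, -, hq⟩ := FiniteField.card F p
  have hcard := Cfsg.Agent.Lib.ClassicalSmall.card_PSL2 (F := F)
  have hq2 : 2 ≤ Fintype.card F := Fintype.one_lt_card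
  by_cases h4 : 4 ≤ Fintype.card F
  · have hS := Cfsg.Agent.S2475.result (F := F) p h4
    have hmem : ∀ m : ℕ, (m ∣ p ∨ m ∣ (Fintype.card F - 1) / Nat.gcd 2 (Fintype.card F - 1) ∨
        m ∣ (Fintype.card F + 1) / Nat.gcd 2 (Fintype.card F - 1)) → Gd m := by
      intro m hm
      have h5 : m ∈ Set.range (orderOf : Matrix.ProjectiveSpecialLinearGroup (Fin 2) F → ℕ) := by
        rw [hS]
        exact hm
      obtain ⟨g, rfl⟩ := h5
      exact Gd_of_orderOf hP g
    have hp5 : p ≠ 5 := by
      intro h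
      have h5 := hmem p (Or.inl dvd_rfl)
      rw [h] at h5
      exact Gd_five h5
    have hA := hmem _ (Or.inr (Or.inl dvd_rfl))
    have hB := hmem _ (Or.inr (Or.inr dvd_rfl))
    generalize Fintype.card F = q at hq hcard hq2 h4 hA hB
    by_cases hqe : q % 2 = 0
    · exfalso
      have hf : (f : ℕ) ≠ 0 := f.pos.ne'
      have hp2 : p = 2 := by
        have h5 : 2 ∣ p ^ (f : ℕ) := by
          rw [← hq]
          exact Nat.dvd_of_mod_eq_zero hqe
        exact ((Nat.prime_dvd_prime_iff_eq Nat.prime_two hpp).mp (Nat.Prime.dvd_of_dvd_pow Nat.prime_two h5)).symm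
      have hg : Nat.gcd 2 (q - 1) = 1 := by
        have : Nat.Coprime 2 (q - 1) := by
          rw [Nat.coprime_two_left, Nat.odd_iff]
          omega
        exact this
      rw [hg, Nat.div_one] at hA hB
      rw [hp2] at hq
      exact arith_even hq h4 hA hB
    · have hg : Nat.gcd 2 (q - 1) = 2 := by
        apply Nat.gcd_eq_left
        omega
      obtain ⟨r, hr⟩ : ∃ r, q = 2 * r + 1 := ⟨q / 2, by omega⟩
      rw [hg] at hA hB hcard
      have e1 : (q - 1) / 2 = r := by omega
      have e2 : (q + 1) / 2 = r + 1 := by omega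
      rw [e1] at hA
      rw [e2] at hB
      have h7 := arith_odd hpp hp5 hq hr (by omega) hA hB
      rw [h7] at hcard
      omega
  · exfalso
    have h5 : Fintype.card F = 2 ∨ Fintype.card F = 3 := by omega
    have hle : (Nat.card (Matrix.ProjectiveSpecialLinearGroup (Fin 2) F)) ∣ 12 := by
      rcases h5 with h5 | h5
      · rw [h5] at hcard
        norm_num at hcard
        rw [hcard]
        norm_num
      · rw [h5] at hcard
        norm_num at hcard
        have : Nat.card (Matrix.ProjectiveSpecialLinearGroup (Fin 2) F) = 12 := by omega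
        rw [this]
    have h6 : (Nat.card (Matrix.ProjectiveSpecialLinearGroup (Fin 2) F)).primeFactors ⊆ {2, 3} := by
      intro r hr
      have hrp := Nat.prime_of_mem_primeFactors hr
      have hrd := Nat.dvd_of_mem_primeFactors hr
      have h7 : r ∣ 2 ^ 2 * 3 := by
        norm_num
        exact hrd.trans hle
      rcases (Nat.Prime.dvd_mul hrp).mp h7 with h8 | h8
      · have h9 := (Nat.prime_dvd_prime_iff_eq hrp Nat.prime_two).mp (Nat.Prime.dvd_of_dvd_pow hrp h8)
        simp [h9]
      · have h9 := (Nat.prime_dvd_prime_iff_eq hrp Nat.prime_three).mp h8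
        simp [h9]
    have h7 := Finset.card_le_card h6
    simp at h7
    omega

/-- The Suzuki groups are excluded. -/
theorem suzuki_false {G : Type*} [Group G] [Finite G] (hP : IsP G) (h : Cfsg.IsSuzuki G) : False := by
  obtain ⟨-, m, -, hc⟩ := h
  have h5 : 5 ∣ Nat.card G := by
    rw [hc]
    apply Dvd.dvd.mul_right
    apply Dvd.dvd.mul_left
    have h1 : (2 ^ (2 * m + 1)) ^ 2 = 4 * 16 ^ m := by
      rw [← pow_mul, show (2 * m + 1) * 2 = 4 * m + 2 by ring, pow_add, pow_mul]
      norm_num
      ring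
    have h2 : 16 ^ m % 5 = 1 := by
      rw [Nat.pow_mod]
      simp
    rw [h1]
    omega
  haveI : Fact (Nat.Prime 5) := ⟨by norm_num⟩
  obtain ⟨g, hg⟩ := exists_prime_orderOf_dvd_card' 5 h5
  have := Gd_of_orderOf hP g
  rw [hg] at this
  exact Gd_five this

end Cfsg.Agent.Lib.NoFive
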