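import Mathlib
import Cfsg.Agent.Lib.NoFiveBase
import Cfsg.Agent.S0495
import Cfsg.Agent.S2475

/-!
# A simple normal subgroup of order 168 is the whole group.
-/

set_option autoImplicit false

namespace Cfsg.Agent.Lib.NoFive

universe u

variable {G : Type u} [Group G] [Finite G]

/-- The exponent of an element acting on a power of `a`. -/
def Ex (a w : G) (m : ℕ) : Prop := w * a * w⁻¹ = a ^ m

lemma Ex.mul {a w v : G} {m l : ℕ} (hw : Ex a w m) (hv : Ex a v l) : Ex a (w * v) (l * m) := by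
  unfold Ex at *
  calc (w * v) * a * (w * v)⁻¹ = w * (v * a * v⁻¹) * w⁻¹ := by group
    _ = w * a ^ l * w⁻¹ := by rw [hv]
    _ = (w * a * w⁻¹) ^ l := (conj_pow).symm
    _ = (a ^ m) ^ l := by rw [hw]
    _ = a ^ (l * m) := by rw [← pow_mul, mul_comm]

lemma Ex.pow {a w : G} {m : ℕ} (hw : Ex a w m) (k : ℕ) : Ex a (w ^ k) (m ^ k) := by
  induction k with
  | zero => simp [Ex]
  | succ k ih =>
    rw [pow_succ, pow_succ]
    have h := ih.mul hw
    rwa [mul_comm m] at h

lemma mod_of_eq {a : G} (ha7 : orderOf a = 7) {m l : ℕ} (h : a ^ m = a ^ l) : m % 7 = l % 7 := by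
  have := pow_eq_pow_iff_modEq.mp h
  rwa [ha7] at this

lemma eq_of_mod {a : G} (ha7 : orderOf a = 7) {m l : ℕ} (h : m % 7 = l % 7) : a ^ m = a ^ l := by
  apply pow_eq_pow_iff_modEq.mpr
  rw [ha7]
  exact h

lemma six_dvd_of_pow (o e : ℕ) (he : e % 7 = 3 ∨ e % 7 = 5) (h : e ^ o % 7 = 1) : 6 ∣ o := by
  rw [Nat.pow_mod] at h
  have hd : o = 6 * (o / 6) + o % 6 := (Nat.div_add_mod o 6).symm
  have h3 : o % 6 < 6 := Nat.mod_lt _ (by norm_num)
  apply Nat.dvd_of_mod_eq_zero
  rcases he with he | he <;> rw [he] at h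
  · have h2 : 3 ^ o % 7 = 3 ^ (o % 6) % 7 := by
      conv_lhs => rw [hd, pow_add, pow_mul, Nat.mul_mod, Nat.pow_mod]
      norm_num
    rw [h2] at h
    clear h2 hd
    generalize o % 6 = r at h h3 ⊢
    interval_cases r <;> first | rfl | (norm_num at h)
  · have h2 : 5 ^ o % 7 = 5 ^ (o % 6) % 7 := by
      conv_lhs => rw [hd, pow_add, pow_mul, Nat.mul_mod, Nat.pow_mod]
      norm_num
    rw [h2] at h
    clear h2 hd
    generalize o % 6 = r at h h3 ⊢
    interval_cases r <;> first | rfl | (norm_num at h)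

theorem exp_prim (hP : IsP G) {a u : G} (ha7 : orderOf a = 7) {e : ℕ} (hu : Ex a u e)
    (he : e % 7 = 3 ∨ e % 7 = 5) : False := by
  have h1 := hu.pow (orderOf u)
  rw [pow_orderOf_eq_one] at h1
  have h2 : a ^ 1 = a ^ (e ^ orderOf u) := by
    rw [pow_one]
    simpa [Ex] using h1
  have h4 := mod_of_eq ha7 h2
  have h5 : 6 ∣ orderOf u := six_dvd_of_pow _ e he h4.symm
  have hu1 : u ≠ 1 := by
    rintro rfl
    rw [orderOf_one] at h5
    omega
  have h3d : 3 ∣ orderOf u := (by norm_num : 3 ∣ 6).trans h5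
  have h2d : 2 ∣ orderOf u := (by norm_num : 2 ∣ 6).trans h5
  rcases hP u hu1 with ⟨k, hk⟩ | ⟨hp, -⟩
  · rw [hk] at h3d
    have := Nat.Prime.dvd_of_dvd_pow Nat.prime_three h3d
    omega
  · have h6 := (Nat.prime_dvd_prime_iff_eq Nat.prime_three hp).mp h3d
    have h7 := (Nat.prime_dvd_prime_iff_eq Nat.prime_two hp).mp h2d
    omega

theorem exists_comm (hP : IsP G) {a t w : G} (ha7 : orderOf a = 7) {l m : ℕ} (ht : Ex a t l)
    (hl : l % 7 = 2 ∨ l % 7 = 4) (hw : Ex a w m) : ∃ j : ℕ, (w * t ^ j) * a = a * (w * t ^ j) := by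
  have ha1 : a ≠ 1 := by
    rintro rfl
    rw [orderOf_one] at ha7
    omega
  have hm0 : m % 7 ≠ 0 := by
    intro h
    have h1 : a ^ m = a ^ 0 := eq_of_mod ha7 (by simpa using h)
    rw [pow_zero] at h1
    unfold Ex at hw
    rw [h1] at hw
    apply ha1
    have : a = w⁻¹ * (w * a * w⁻¹) * w := by group
    rw [this, hw]
    group
  have hfin : ∀ j : ℕ, (l ^ j * m) % 7 = 1 → (w * t ^ j) * a = a * (w * t ^ j) := by
    intro j hj
    have h1 : Ex a (w * t ^ j) (l ^ j * m) := hw.mul (ht.pow j)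
    unfold Ex at h1
    have h2 : a ^ (l ^ j * m) = a ^ 1 := eq_of_mod ha7 (by simpa using hj)
    rw [h2, pow_one] at h1
    exact mul_inv_eq_iff_eq_mul.mp h1
  have hlt : m % 7 < 7 := Nat.mod_lt _ (by norm_num)
  have hcases : m % 7 = 1 ∨ m % 7 = 2 ∨ m % 7 = 3 ∨ m % 7 = 4 ∨ m % 7 = 5 ∨ m % 7 = 6 := by omega
  rcases hcases with h | h | h | h | h | h
  · exact ⟨0, hfin 0 (by simpa using h)⟩
  · rcases hl with hl | hl
    · refine ⟨2, hfin 2 ?_⟩
      rw [Nat.mul_mod, Nat.pow_mod, hl, h]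
    · refine ⟨1, hfin 1 ?_⟩
      rw [Nat.mul_mod, Nat.pow_mod, hl, h]
  · exact (exp_prim hP ha7 hw (Or.inl h)).elim
  · rcases hl with hl | hl
    · refine ⟨1, hfin 1 ?_⟩
      rw [Nat.mul_mod, Nat.pow_mod, hl, h]
    · refine ⟨2, hfin 2 ?_⟩
      rw [Nat.mul_mod, Nat.pow_mod, hl, h]
  · exact (exp_prim hP ha7 hw (Or.inr h)).elim
  · exfalso
    have h1 : Ex a (w * t) (l * m) := hw.mul ht
    rcases hl with hl | hl
    · refine exp_prim hP ha7 h1 (Or.inr ?_)
      rw [Nat.mul_mod, hl, h]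
    · refine exp_prim hP ha7 h1 (Or.inl ?_)
      rw [Nat.mul_mod, hl, h]

lemma order_seven (hP : IsP G) {a c : G} (ha7 : orderOf a = 7) (hc : c * a = a * c) (hc1 : c ≠ 1) :
    orderOf c = 7 := by
  have ha1 : a ≠ 1 := by
    rintro rfl
    rw [orderOf_one] at ha7
    omega
  have haodd : Odd (orderOf a) := by
    rw [ha7]
    decide
  rcases hP c hc1 with h | ⟨hp, -⟩
  · rcases hP.comm_two_odd hc h haodd with h1 | h1
    · exact absurd h1 hc1
    · exact absurd h1 ha1
  · by_contra hne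
    apply hP.comm_false hc hc1 ha1
    rw [ha7]
    exact (Nat.coprime_primes hp (by norm_num)).mpr hne

/-- Conjugates by powers of an element of order seven are distinct. -/
lemma conj_ne (hP : IsP G) {g v : G} (hg7 : orderOf g = 7) (hv : ∃ k : ℕ, orderOf v = 2 ^ k) (hv1 : v ≠ 1)
    {k l : ℕ} (hkl : k < l) (hl : l < 7) : g ^ k * v * (g ^ k)⁻¹ ≠ g ^ l * v * (g ^ l)⁻¹ := by
  intro h
  set b := g ^ (l - k) with hb
  have hgl : g ^ l = g ^ k * b := by
    rw [hb, ← pow_add]
    congr 1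
    omega
  have hb1 : b ≠ 1 := by
    apply pow_ne_one_of_lt_orderOf
    · omega
    · rw [hg7]
      omega
  have hodd : Odd (orderOf b) := by
    apply odd_pow
    rw [hg7]
    decide
  have hc : v * b = b * v := by
    rw [hgl] at h
    have h1 : v = b * v * b⁻¹ := by
      have h2 : (g ^ k)⁻¹ * (g ^ k * v * (g ^ k)⁻¹) * g ^ k = (g ^ k)⁻¹ * (g ^ k * b * v * (g ^ k * b)⁻¹) * g ^ k := by
        rw [h]
      calc v = (g ^ k)⁻¹ * (g ^ k * v * (g ^ k)⁻¹) * g ^ k := by group
        _ = (g ^ k)⁻¹ * (g ^ k * b * v * (g ^ k * b)⁻¹) * g ^ k := h2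
        _ = b * v * b⁻¹ := by group
    have h3 : v * b = b * v * b⁻¹ * b := by rw [← h1]
    rw [h3]
    group
  rcases hP.comm_two_odd hc hv hodd with h1 | h1
  · exact hv1 h1
  · exact hb1 h1

/-- Sylow 7-subgroups in a simple group of order 168. -/
theorem sylow7_data (X : Type*) [Group X] [Finite X] [IsSimpleGroup X] (hc : Nat.card X = 168) :
    ∃ (S : Sylow 7 X) (a t : X), orderOf a = 7 ∧ (S : Subgroup X) = Subgroup.zpowers a ∧ orderOf t = 3 ∧
      t ∈ Subgroup.normalizer ((S : Subgroup X) : Set X) := by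
  haveI : Fact (Nat.Prime 7) := ⟨by norm_num⟩
  haveI : Fact (Nat.Prime 3) := ⟨by norm_num⟩
  obtain ⟨S⟩ : Nonempty (Sylow 7 X) := inferInstance
  have hScard : Nat.card (S : Subgroup X) = 7 := by
    have h1 : Nat.card (S : Subgroup X) * (S : Subgroup X).index = 168 := by
      rw [Subgroup.card_mul_index, hc]
    obtain ⟨k, hk⟩ := (IsPGroup.iff_card.mp S.isPGroup')
    have h2 : ¬ 7 ∣ (S : Subgroup X).index := S.not_dvd_index
    rw [hk] at h1
    have hk1 : k ≠ 0 := by
      rintro rfl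
      apply h2
      rw [pow_zero, one_mul] at h1
      rw [h1]
      norm_num
    have hk2 : k < 2 := by
      by_contra hk2
      push Not at hk2
      have h3 : 7 ^ 2 ∣ 168 := by
        rw [← h1]
        exact Dvd.dvd.mul_right (pow_dvd_pow 7 hk2) _
      norm_num at h3
    have : k = 1 := by omega
    rw [hk, this, pow_one]
  have hidx : (S : Subgroup X).index = 24 := by
    have h1 : Nat.card (S : Subgroup X) * (S : Subgroup X).index = 168 := by
      rw [Subgroup.card_mul_index, hc]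
    rw [hScard] at h1
    omega
  have hmod := card_sylow_modEq_one 7 X
  have hdvd : Nat.card (Sylow 7 X) ∣ 24 := hidx ▸ Sylow.card_dvd_index S
  have hle : Nat.card (Sylow 7 X) ≤ 24 := Nat.le_of_dvd (by norm_num) hdvd
  have hcases : Nat.card (Sylow 7 X) = 1 ∨ Nat.card (Sylow 7 X) = 8 := by
    unfold Nat.ModEq at hmod
    generalize Nat.card (Sylow 7 X) = n at *
    interval_cases n <;> simp_all <;> omega
  have hn8 : Nat.card (Sylow 7 X) = 8 := by
    rcases hcases with h1 | h8
    · exfalso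
      haveI : Subsingleton (Sylow 7 X) := (Nat.card_eq_one_iff_unique.mp h1).1
      haveI : (S : Subgroup X).Normal := Sylow.normal_of_subsingleton S
      rcases IsSimpleGroup.eq_bot_or_eq_top_of_normal (S : Subgroup X) inferInstance with h | h
      · rw [h, Subgroup.card_bot] at hScard
        omega
      · rw [h, Subgroup.card_top, hc] at hScard
        omega
    · exact h8
  have hN : Nat.card (Subgroup.normalizer ((S : Subgroup X) : Set X)) = 21 := by
    have h9 : 8 = (Subgroup.normalizer ((S : Subgroup X) : Set X)).index := by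
      rw [← hn8]
      exact Sylow.card_eq_index_normalizer S
    have h10 := Subgroup.card_mul_index (Subgroup.normalizer ((S : Subgroup X) : Set X))
    rw [← h9, hc] at h10
    omega
  obtain ⟨t, ht⟩ := exists_prime_orderOf_dvd_card' (G := Subgroup.normalizer ((S : Subgroup X) : Set X)) 3
    (by rw [hN]; norm_num)
  haveI : IsCyclic (S : Subgroup X) := isCyclic_of_prime_card hScard
  obtain ⟨g, hg⟩ := IsCyclic.exists_generator (α := (S : Subgroup X))
  refine ⟨S, (g : X), (t : X), ?_, ?_, ?_, t.2⟩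
  · rw [Subgroup.orderOf_coe]
    exact (orderOf_eq_card_of_forall_mem_zpowers hg).trans hScard
  · apply le_antisymm
    · intro x hx
      obtain ⟨k, hk⟩ := Subgroup.mem_zpowers_iff.mp (hg ⟨x, hx⟩)
      have := congrArg Subtype.val hk
      simp only [Subgroup.coe_zpow] at this
      exact Subgroup.mem_zpowers_iff.mpr ⟨k, this⟩
    · rw [Subgroup.zpowers_le]
      exact g.2
  · rw [Subgroup.orderOf_coe]
    exact ht

/-- Frattini's argument, elementwise. -/
lemma frattini_elt {p : ℕ} [Fact p.Prime] (N : Subgroup G) [N.Normal] (S : Sylow p N) (g : G) :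
    ∃ w ∈ Subgroup.normalizer (((S : Subgroup N).map N.subtype : Subgroup G) : Set G), ∃ n ∈ N, w * n = g := by
  have h1 := Sylow.normalizer_sup_eq_top S
  have h2 : g ∈ Subgroup.normalizer (((S : Subgroup N).map N.subtype : Subgroup G) : Set G) ⊔ N := by
    rw [h1]
    exact Subgroup.mem_top g
  obtain ⟨w, hw, n, hn, rfl⟩ := Subgroup.mem_sup_of_normal_right.mp h2
  exact ⟨w, hw, n, hn, rfl⟩

/-- An element of order four in a simple group of order 168. -/
theorem exists_order_four (X : Type*) [Group X] [Finite X] [IsSimpleGroup X] (hc : Nat.card X = 168) :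
    ∃ v : X, orderOf v = 4 := by
  haveI : Fact (Nat.Prime 7) := ⟨by norm_num⟩
  obtain ⟨e⟩ := Cfsg.Agent.S0495.result (G := X) hc (F := ZMod 7) (ZMod.card 7)
  have hS := Cfsg.Agent.S2475.result (F := ZMod 7) 7 (by rw [ZMod.card]; norm_num)
  have h4 : (4 : ℕ) ∈ Set.range (orderOf : Matrix.ProjectiveSpecialLinearGroup (Fin 2) (ZMod 7) → ℕ) := by
    rw [hS]
    right
    right
    rw [ZMod.card]
    norm_num
  obtain ⟨x, hx⟩ := h4
  exact ⟨e.symm x, by rw [MulEquiv.orderOf_eq]; exact hx⟩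

/-- A simple normal subgroup of order 168 is the whole group. -/
theorem case_one (hP : IsP G) (N : Subgroup G) [hNn : N.Normal] [hNs : IsSimpleGroup N] (hc : Nat.card N = 168) :
    N = ⊤ := by
  haveI : Fact (Nat.Prime 7) := ⟨by norm_num⟩
  haveI : Fact (Nat.Prime 2) := ⟨Nat.prime_two⟩
  by_contra hne
  obtain ⟨g₀, hg₀⟩ : ∃ g, g ∉ N := by
    by_contra hcon
    push Not at hcon
    exact hne ((Subgroup.eq_top_iff' N).mpr hcon)
  obtain ⟨S, a₀, t₀, ha₀, hS, ht₀, htN⟩ := sylow7_data N hc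
  set a : G := (a₀ : G) with haDef
  set t : G := (t₀ : G) with htDef
  have ha7 : orderOf a = 7 := by
    rw [haDef, Subgroup.orderOf_coe]
    exact ha₀
  have ht3 : orderOf t = 3 := by
    rw [htDef, Subgroup.orderOf_coe]
    exact ht₀
  have ha1 : a ≠ 1 := by
    intro h
    rw [h, orderOf_one] at ha7
    omega
  have ht1 : t ≠ 1 := by
    intro h
    rw [h, orderOf_one] at ht3
    omega
  have htN' : t ∈ N := t₀.2
  have hSG : ∀ x ∈ (S : Subgroup N).map N.subtype, ∃ m : ℕ, x = a ^ m := by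
    rintro _ ⟨x, hx, rfl⟩
    rw [hS] at hx
    have h1 : x ∈ Submonoid.powers a₀ := mem_powers_iff_mem_zpowers.mpr hx
    obtain ⟨m, hm⟩ := (Submonoid.mem_powers_iff _ _).mp h1
    refine ⟨m, ?_⟩
    rw [← hm]
    simp [haDef]
  -- the exponent of `t`
  have htt : t * a * t⁻¹ ∈ (S : Subgroup N).map N.subtype := by
    have h1 : t₀ * a₀ * t₀⁻¹ ∈ (S : Subgroup N) := by
      apply (Subgroup.mem_normalizer_iff.mp htN a₀).mp
      rw [hS]
      exact Subgroup.mem_zpowers a₀
    exact ⟨_, h1, by simp [haDef, htDef]⟩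
  obtain ⟨l, hl⟩ : ∃ l, Ex a t l := hSG _ htt
  have hl' : l % 7 = 2 ∨ l % 7 = 4 := by
    have h1 := hl.pow 3
    have h2 : t ^ 3 = 1 := by
      rw [← ht3]
      exact pow_orderOf_eq_one t
    rw [h2] at h1
    have h3 : a ^ 1 = a ^ (l ^ 3) := by
      rw [pow_one]
      simpa [Ex] using h1
    have h4 := mod_of_eq ha7 h3
    rw [Nat.pow_mod] at h4
    have h5 : l % 7 ≠ 1 := by
      intro h6
      have h7 : a ^ l = a ^ 1 := eq_of_mod ha7 (by simpa using h6)
      unfold Ex at hl
      rw [h7, pow_one] at hl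
      have h8 : t * a = a * t := mul_inv_eq_iff_eq_mul.mp hl
      apply hP.comm_false h8 ht1 ha1
      rw [ht3, ha7]
      norm_num
    have h6 : l % 7 < 7 := Nat.mod_lt _ (by norm_num)
    generalize l % 7 = r at *
    interval_cases r <;> simp_all
  -- lifting `g₀`
  obtain ⟨w, hw, n, hn, hwn⟩ := frattini_elt N S g₀
  obtain ⟨m, hm⟩ : ∃ m, Ex a w m := hSG _ ((Subgroup.mem_normalizer_iff.mp hw a).mp (by
    refine ⟨a₀, ?_, rfl⟩
    rw [hS]
    exact Subgroup.mem_zpowers a₀))
  obtain ⟨j, hj⟩ := exists_comm hP ha7 hl hl' hm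
  set c := w * t ^ j with hcDef
  have hwN : w ∉ N := by
    intro h
    apply hg₀
    rw [← hwn]
    exact mul_mem h hn
  have hcN : c ∉ N := by
    intro h
    apply hwN
    have h1 : w = c * (t ^ j)⁻¹ := by
      rw [hcDef]
      group
    rw [h1]
    exact mul_mem h (inv_mem (pow_mem htN' j))
  have hc1 : c ≠ 1 := fun h => hcN (h ▸ one_mem N)
  have hc7 : orderOf c = 7 := order_seven hP ha7 hj hc1
  -- the element of order four
  obtain ⟨v₀, hv₀⟩ := exists_order_four N hc
  have hv2 : IsPGroup 2 (Subgroup.zpowers v₀) := IsPGroup.of_card (n := 2) (by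
    rw [Nat.card_zpowers, hv₀]
    norm_num)
  obtain ⟨T, hT⟩ := hv2.exists_le_sylow
  have hv₀T : v₀ ∈ (T : Subgroup N) := hT (Subgroup.mem_zpowers v₀)
  obtain ⟨g', hg', n₂, hn₂, he⟩ := frattini_elt N T c
  have hg'N : g' ∉ N := by
    intro h
    apply hcN
    rw [← he]
    exact mul_mem h hn₂
  have hg'7 : orderOf g' = 7 := by
    have hg'1 : g' ≠ 1 := fun h => hg'N (h ▸ one_mem N)
    have h1 : ((g' : G) : G ⧸ N) = (c : G ⧸ N) := by
      rw [← he, QuotientGroup.mk_mul, (QuotientGroup.eq_one_iff n₂).mpr hn₂, mul_one]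
    have h2 : orderOf (c : G ⧸ N) ∣ 7 := hc7 ▸ orderOf_map_dvd (QuotientGroup.mk' N) c
    have h3 : orderOf (c : G ⧸ N) ≠ 1 := by
      intro h
      apply hcN
      exact (QuotientGroup.eq_one_iff c).mp (orderOf_eq_one_iff.mp h)
    have h4 : orderOf (c : G ⧸ N) = 7 := by
      rcases (Nat.dvd_prime (by norm_num : Nat.Prime 7)).mp h2 with h | h
      · exact absurd h h3
      · exact h
    have h5 : 7 ∣ orderOf g' := by
      rw [← h4, ← h1]
      exact orderOf_map_dvd (QuotientGroup.mk' N) g'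
    rcases hP g' hg'1 with ⟨k, hk⟩ | ⟨hp, -⟩
    · rw [hk] at h5
      have := Nat.Prime.dvd_of_dvd_pow (by norm_num : Nat.Prime 7) h5
      omega
    · exact ((Nat.prime_dvd_prime_iff_eq (by norm_num) hp).mp h5).symm
  -- the contradiction
  set T' : Subgroup G := (T : Subgroup N).map N.subtype with hT'
  set v : G := (v₀ : G) with hvDef
  have hvo : orderOf v = 4 := by
    rw [hvDef, Subgroup.orderOf_coe]
    exact hv₀
  have hv1 : v ≠ 1 := by
    intro h
    rw [h, orderOf_one] at hvo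
    omega
  have hvT' : v ∈ T' := ⟨v₀, hv₀T, rfl⟩
  have hT'2 : IsPGroup 2 T' := T.isPGroup'.map _
  obtain ⟨K, hK⟩ := IsPGroup.iff_card.mp hT'2
  have hT'card : Nat.card T' = Nat.card (T : Subgroup N) := Subgroup.card_map_of_injective N.subtype_injective
  have hdvd : Nat.card T' ∣ 168 := by
    rw [hT'card, ← hc]
    exact Subgroup.card_subgroup_dvd_card _
  have hT'le : Nat.card T' ≤ 8 := by
    rw [hK] at hdvd ⊢
    have hK3 : K ≤ 3 := by
      by_contra hcon
      push Not at hcon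
      have h1 : 2 ^ 4 ∣ 2 ^ K := pow_dvd_pow 2 hcon
      have h2 := h1.trans hdvd
      norm_num at h2
    calc 2 ^ K ≤ 2 ^ 3 := Nat.pow_le_pow_right (by norm_num) hK3
      _ = 8 := by norm_num
  have hconjmem : ∀ k : ℕ, g' ^ k * v * (g' ^ k)⁻¹ ∈ T' := fun k =>
    (Subgroup.mem_normalizer_iff.mp (pow_mem hg' k) v).mp hvT'
  let f : Option (Option (Fin 7)) → T' := fun x =>
    match x with
    | none => 1
    | some none => ⟨v * v, mul_mem hvT' hvT'⟩
    | some (some k) => ⟨g' ^ (k : ℕ) * v * (g' ^ (k : ℕ))⁻¹, hconjmem k⟩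
  have hvv : orderOf (v * v) = 2 := by
    apply orderOf_eq_prime
    · rw [sq]
      calc v * v * (v * v) = v ^ 4 := by
            rw [pow_succ, pow_succ, pow_succ, pow_one]
            group
        _ = 1 := by rw [← hvo]; exact pow_orderOf_eq_one v
    · intro h
      have h1 : v ^ 2 = 1 := by
        rw [sq]
        exact h
      have h2 := orderOf_dvd_of_pow_eq_one h1
      rw [hvo] at h2
      omega
  have hconjord : ∀ k : ℕ, orderOf (g' ^ k * v * (g' ^ k)⁻¹) = 4 := by
    intro k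
    rw [← hvo]
    exact orderOf_conj _ _
  have hf : Function.Injective f := by
    have hvdist1 : (1 : G) ≠ v * v := by
      intro h
      have h1 := hvv
      rw [← h, orderOf_one] at h1
      omega
    have hc1' : ∀ k : ℕ, (1 : G) ≠ g' ^ k * v * (g' ^ k)⁻¹ := by
      intro k h
      have h1 := hconjord k
      rw [← h, orderOf_one] at h1
      omega
    have hc2' : ∀ k : ℕ, v * v ≠ g' ^ k * v * (g' ^ k)⁻¹ := by
      intro k h
      have h1 := hconjord k
      rw [← h, hvv] at h1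
      omega
    have hv2' : ∃ k : ℕ, orderOf v = 2 ^ k := ⟨2, by rw [hvo]; norm_num⟩
    intro x y hxy
    have hxy' := congrArg (Subtype.val) hxy
    rcases x with _ | _ | k <;> rcases y with _ | _ | l
    · rfl
    · exact absurd hxy' hvdist1
    · exact absurd hxy' (hc1' l)
    · exact absurd hxy'.symm hvdist1
    · rfl
    · exact absurd hxy' (hc2' l)
    · exact absurd hxy'.symm (hc1' k)
    · exact absurd hxy'.symm (hc2' k)
    · have hkl : k = l := by
        apply Fin.ext
        rcases lt_trichotomy (k : ℕ) (l : ℕ) with h | h | h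
        · exact absurd hxy' (conj_ne hP hg'7 hv2' hv1 h l.2)
        · exact h
        · exact absurd hxy'.symm (conj_ne hP hg'7 hv2' hv1 h k.2)
      rw [hkl]
  have h9 := Nat.card_le_card_of_injective f hf
  have h10 : Nat.card (Option (Option (Fin 7))) = 9 := by
    simp [Nat.card_eq_fintype_card]
  omega

end Cfsg.Agent.Lib.NoFive
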