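import Mathlib
import Cfsg.Agent.S3224
import Cfsg.Agent.S3116
import Cfsg.Agent.Lib.BaerSuzuki
import Cfsg.Agent.Lib.InvolutionDihedral

/-!
# Groups in which every non-cyclic subgroup contains its centralizer: involution centralizers
-/

set_option autoImplicit false

namespace Cfsg.Agent.Lib.SelfCentA

variable {G : Type*} [Group G]

/-- Every non-cyclic subgroup contains its centralizer. -/
def NC (G : Type*) [Group G] : Prop :=
  ∀ H : Subgroup G, ¬ IsCyclic ↥H → Subgroup.centralizer (H : Set G) ≤ H

lemma NC.mem (hN : NC G) {H : Subgroup G} (hH : ¬ IsCyclic ↥H) {x : G}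
    (hx : ∀ h ∈ H, h * x = x * h) : x ∈ H :=
  hN H hH (Subgroup.mem_centralizer_iff.mpr (fun h hh => hx h hh))

lemma NC.subgroup (hN : NC G) (K : Subgroup G) : NC K := by
  intro H hH x hx
  have h1 : ¬ IsCyclic (H.map K.subtype) := by
    intro hc
    apply hH
    have e : H ≃* H.map K.subtype := H.equivMapOfInjective K.subtype K.subtype_injective
    exact isCyclic_of_surjective e.symm e.symm.surjective
  have h2 : (x : G) ∈ H.map K.subtype := by
    apply hN.mem h1
    rintro _ ⟨y, hy, rfl⟩
    have := Subgroup.mem_centralizer_iff.mp hx y hy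
    exact congrArg Subtype.val this
  obtain ⟨y, hy, hyx⟩ := h2
  have : y = x := Subtype.ext hyx
  rwa [← this]

/-- The four-group generated by two commuting involutions. -/
def kleinSub (s t : G) (hs : s * s = 1) (ht : t * t = 1) (hc : s * t = t * s) : Subgroup G where
  carrier := {x | x = 1 ∨ x = s ∨ x = t ∨ x = s * t}
  one_mem' := Or.inl rfl
  mul_mem' := by
    have e1 : s * (s * t) = t := by rw [← mul_assoc, hs, one_mul]
    have e2 : t * (s * t) = s := by rw [hc, ← mul_assoc, ht, one_mul]
    have e3 : s * t * s = t := by rw [hc, mul_assoc, hs, mul_one]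
    have e4 : s * t * t = s := by rw [mul_assoc, ht, mul_one]
    have e5 : s * t * (s * t) = 1 := by rw [← mul_assoc, e3, ht]
    rintro _ _ (rfl | rfl | rfl | rfl) (rfl | rfl | rfl | rfl) <;>
      simp only [Set.mem_ofPred_eq, mul_one, one_mul, hs, ht, e1, e2, e3, e4, e5, true_or, or_true,
        ← hc]
  inv_mem' := by
    have e3 : s * t * s = t := by rw [hc, mul_assoc, hs, mul_one]
    have e5 : s * t * (s * t) = 1 := by rw [← mul_assoc, e3, ht]
    rintro _ (rfl | rfl | rfl | rfl)
    · simp
    · right; left; exact inv_eq_of_mul_eq_one_left hs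
    · right; right; left; exact inv_eq_of_mul_eq_one_left ht
    · right; right; right; exact inv_eq_of_mul_eq_one_left e5

lemma mem_kleinSub {s t : G} {hs : s * s = 1} {ht : t * t = 1} {hc : s * t = t * s} {x : G} :
    x ∈ kleinSub s t hs ht hc ↔ x = 1 ∨ x = s ∨ x = t ∨ x = s * t := Iff.rfl

lemma mul_self_of_order {x : G} (h : orderOf x = 2) : x * x = 1 := by
  rw [← pow_two, ← h, pow_orderOf_eq_one]

lemma ne_one_of_order {x : G} (h : orderOf x = 2) : x ≠ 1 := by
  rintro rfl
  simp at h

lemma kleinSub_not_cyclic {s t : G} (hs : orderOf s = 2) (ht : orderOf t = 2) (hst : s ≠ t)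
    (hc : s * t = t * s) :
    ¬ IsCyclic (kleinSub s t (mul_self_of_order hs) (mul_self_of_order ht) hc) := by
  intro hcyc
  obtain ⟨⟨g, hg⟩, hgen⟩ := hcyc.exists_generator
  have hs1 := mul_self_of_order hs
  have ht1 := mul_self_of_order ht
  have hgg : g * g = 1 := by
    rcases hg with rfl | rfl | rfl | rfl
    · simp
    · exact hs1
    · exact ht1
    · calc s * t * (s * t) = s * (t * s) * t := by group
        _ = s * (s * t) * t := by rw [hc]
        _ = (s * s) * (t * t) := by group
        _ = 1 := by rw [hs1, ht1, one_mul]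
  have key : ∀ x : G, x ∈ kleinSub s t hs1 ht1 hc → x = 1 ∨ x = g := by
    intro x hx
    obtain ⟨k, hk⟩ := Subgroup.mem_zpowers_iff.mp (hgen ⟨x, hx⟩)
    have h1 : g ^ k = x := by simpa using congrArg Subtype.val hk
    rw [← h1]
    have hk2 : k % 2 = 0 ∨ k % 2 = 1 := by omega
    have hz : g ^ (2 : ℤ) = 1 := by
      rw [show (2 : ℤ) = ((2 : ℕ) : ℤ) from rfl, zpow_natCast, pow_two, hgg]
    rcases hk2 with h | h
    · left
      obtain ⟨j, rfl⟩ : ∃ j, k = 2 * j := ⟨k / 2, by omega⟩
      rw [zpow_mul, hz, one_zpow]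
    · right
      obtain ⟨j, rfl⟩ : ∃ j, k = 2 * j + 1 := ⟨k / 2, by omega⟩
      rw [zpow_add, zpow_mul, hz, one_zpow, one_mul, zpow_one]
  have h1 := key s (Or.inr (Or.inl rfl))
  have h2 := key t (Or.inr (Or.inr (Or.inl rfl)))
  rcases h1 with h1 | h1
  · exact ne_one_of_order hs h1
  rcases h2 with h2 | h2
  · exact ne_one_of_order ht h2
  · exact hst (h1.trans h2.symm)

lemma card_kleinSub [Finite G] {s t : G} (hs : orderOf s = 2) (ht : orderOf t = 2) (hst : s ≠ t)
    (hc : s * t = t * s) :
    Nat.card (kleinSub s t (mul_self_of_order hs) (mul_self_of_order ht) hc) = 4 := by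
  classical
  have hs1 := ne_one_of_order hs
  have ht1 := ne_one_of_order ht
  have e : ((kleinSub s t (mul_self_of_order hs) (mul_self_of_order ht) hc : Subgroup G) : Set G) =
      (({1, s, t, s * t} : Finset G) : Set G) := by
    ext x
    simp [mem_kleinSub]
  rw [show Nat.card (kleinSub s t (mul_self_of_order hs) (mul_self_of_order ht) hc) =
    Set.ncard ((kleinSub s t (mul_self_of_order hs) (mul_self_of_order ht) hc : Subgroup G) : Set G) from
    (Nat.card_coe_set_eq _).symm ▸ rfl, e, Set.ncard_coe_finset]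
  have h1 : s * t ≠ 1 := by
    intro h
    apply hst
    have := mul_self_of_order hs
    calc s = s * (t * t) := by rw [mul_self_of_order ht, mul_one]
      _ = (s * t) * t := by group
      _ = t := by rw [h, one_mul]
  have h2 : s * t ≠ s := by
    intro h
    exact ht1 (by simpa using h)
  have h3 : s * t ≠ t := by
    intro h
    exact hs1 (by simpa using h)
  rw [Finset.card_insert_of_notMem, Finset.card_insert_of_notMem, Finset.card_insert_of_notMem,
    Finset.card_singleton]
  · intro h
    simp only [Finset.mem_singleton] at h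
    exact h3 h.symm
  · intro h
    simp only [Finset.mem_insert, Finset.mem_singleton] at h
    rcases h with h | h
    · exact hst h
    · exact h2 h.symm
  · intro h
    simp only [Finset.mem_insert, Finset.mem_singleton] at h
    rcases h with h | h | h
    · exact hs1 h.symm
    · exact ht1 h.symm
    · exact h1 h.symm

lemma NC.eq_of_comm (hN : NC G) {s t : G} (hs : orderOf s = 2) (ht : orderOf t = 2) (hst : s ≠ t)
    (hc : s * t = t * s) {y : G} (h1 : y * s = s * y) (h2 : y * t = t * y) :
    y = 1 ∨ y = s ∨ y = t ∨ y = s * t := by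
  have := hN.mem (kleinSub_not_cyclic hs ht hst hc) (x := y) (by
    rintro h (rfl | rfl | rfl | rfl)
    · simp
    · exact h1.symm
    · exact h2.symm
    · rw [mul_assoc, ← h2, ← mul_assoc, ← h1, mul_assoc])
  exact this

/-- An involution `s` inverting a nontrivial element `u` of odd order cannot be centralized, together
with `u`, by an involution `t`. -/
theorem NC.no_inverted (hN : NC G) {t s u : G} (ht : orderOf t = 2) (hs : s * s = 1) (hu1 : u ≠ 1)
    (huo : Odd (orderOf u)) (hinv : s * u * s⁻¹ = u⁻¹) (hts : t * s = s * t) (htu : t * u = u * t) :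
    False := by
  have hsi : s⁻¹ = s := inv_eq_of_mul_eq_one_left hs
  rw [hsi] at hinv
  have hsz : ∀ k : ℤ, s * u ^ k * s = u ^ (-k) := by
    intro k
    have := conj_zpow (a := s) (b := u) (i := k)
    rw [hsi, hinv, inv_zpow, ← zpow_neg] at this
    exact this.symm
  have husq : ∀ w : G, w = u → u * u = 1 → False := by
    intro _ _ h2
    apply hu1
    have h3 : orderOf u ∣ 2 := orderOf_dvd_of_pow_eq_one (by rw [pow_two, h2])
    have h4 : orderOf u ≤ 2 := Nat.le_of_dvd (by norm_num) h3
    obtain ⟨j, hj⟩ := huo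
    have h5 : orderOf u = 1 := by omega
    exact orderOf_eq_one_iff.mp h5
  let D : Subgroup G :=
    { carrier := {x | ∃ k : ℤ, x = u ^ k ∨ x = s * u ^ k}
      one_mem' := ⟨0, Or.inl (by simp)⟩
      mul_mem' := by
        rintro _ _ ⟨a, rfl | rfl⟩ ⟨b, rfl | rfl⟩
        · exact ⟨a + b, Or.inl (zpow_add _ _ _).symm⟩
        · refine ⟨-a + b, Or.inr ?_⟩
          rw [zpow_add, ← hsz a]
          calc u ^ a * (s * u ^ b) = (s * s) * u ^ a * (s * u ^ b) := by rw [hs, one_mul]
            _ = _ := by group
        · exact ⟨a + b, Or.inr (by rw [zpow_add, mul_assoc])⟩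
        · refine ⟨-a + b, Or.inl ?_⟩
          rw [zpow_add, ← hsz a]
          group
      inv_mem' := by
        rintro _ ⟨a, rfl | rfl⟩
        · exact ⟨-a, Or.inl (zpow_neg _ _).symm⟩
        · refine ⟨a, Or.inr ?_⟩
          have h1 : (s * u ^ a) * (s * u ^ a) = 1 := by
            calc (s * u ^ a) * (s * u ^ a) = (s * u ^ a * s) * u ^ a := by group
              _ = 1 := by rw [hsz a]; group
          exact inv_eq_of_mul_eq_one_left h1 }
  let H : Subgroup G := Subgroup.closure {s, u}
  have hHD : H ≤ D := by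
    rw [Subgroup.closure_le]
    rintro x (rfl | rfl)
    · exact ⟨0, Or.inr (by simp)⟩
    · exact ⟨1, Or.inl (by simp)⟩
  have hsH : s ∈ H := Subgroup.subset_closure (Or.inl rfl)
  have huH : u ∈ H := Subgroup.subset_closure (Or.inr rfl)
  have hnc : ¬ IsCyclic H := by
    intro hc
    have := (IsCyclic.isMulCommutative (α := H)).is_comm.comm ⟨s, hsH⟩ ⟨u, huH⟩
    have h1 : s * u = u * s := congrArg Subtype.val this
    apply husq u rfl
    have h2 : s * u * s = u := by rw [h1, mul_assoc, hs, mul_one]
    rw [h2] at hinv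
    calc u * u = u * u⁻¹ := by rw [← hinv]
      _ = 1 := mul_inv_cancel u
  have htH : t ∈ H := by
    apply hN.mem hnc
    intro h hh
    have hle : H ≤ Subgroup.centralizer ({t} : Set G) := by
      rw [Subgroup.closure_le]
      rintro x (rfl | rfl)
      · exact Subgroup.mem_centralizer_singleton_iff.mpr hts.symm
      · exact Subgroup.mem_centralizer_singleton_iff.mpr htu.symm
    exact Subgroup.mem_centralizer_singleton_iff.mp (hle hh)
  obtain ⟨k, hk | hk⟩ := hHD htH
  · -- `t` is a power of `u`
    have h1 : orderOf t ∣ orderOf u := by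
      apply orderOf_dvd_of_pow_eq_one
      rw [hk, ← zpow_natCast, ← zpow_mul, mul_comm, zpow_mul, zpow_natCast, pow_orderOf_eq_one, one_zpow]
    rw [ht] at h1
    obtain ⟨j, hj⟩ := huo
    omega
  · -- `t = s u^k`
    apply husq u rfl
    have h1 : u * s = s * u⁻¹ := by
      rw [← hinv]
      calc u * s = s * s * u * s := by rw [hs, one_mul]
        _ = s * (s * u * s) := by group
    have h2 : (s * u ^ k) * u = u * (s * u ^ k) := by rw [← hk]; exact htu
    have h3 : u ^ k * u = u⁻¹ * u ^ k := by
      apply mul_left_cancel (a := s)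
      calc s * (u ^ k * u) = s * u ^ k * u := by group
        _ = u * (s * u ^ k) := h2
        _ = (u * s) * u ^ k := by group
        _ = s * u⁻¹ * u ^ k := by rw [h1]
        _ = s * (u⁻¹ * u ^ k) := by group
    have h4 : u ^ k * u = u * u ^ k := (Commute.zpow_left (Commute.refl u) k).eq
    rw [h4] at h3
    have h5 : u = u⁻¹ := mul_right_cancel h3
    calc u * u = u⁻¹ * u := by rw [← h5]
      _ = 1 := inv_mul_cancel u

lemma odd_eq_one_of_sq {u : G} (huo : Odd (orderOf u)) (h : u * u = 1) : u = 1 := by
  have h3 : orderOf u ∣ 2 := orderOf_dvd_of_pow_eq_one (by rw [pow_two, h])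
  have h4 : orderOf u ≤ 2 := Nat.le_of_dvd (by norm_num) h3
  obtain ⟨j, hj⟩ := huo
  have h5 : orderOf u = 1 := by omega
  exact orderOf_eq_one_iff.mp h5

/-- The order of an element `w` with all its odd parts trivial is a power of two. -/
lemma order_two_pow [Finite G] (w : G)
    (h : ∀ k : ℕ, Odd (orderOf (w ^ (2 ^ k))) → w ^ (2 ^ k) = 1) : ∃ a : ℕ, orderOf w = 2 ^ a := by
  have hw0 : orderOf w ≠ 0 := (orderOf_pos w).ne'
  obtain ⟨a, m, hm, hw⟩ := Nat.exists_eq_two_pow_mul_odd hw0
  have h1 : orderOf (w ^ (2 ^ a)) = m := by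
    have h2 := orderOf_pow_orderOf_div (x := w) (n := m) hw0 ⟨2 ^ a, by rw [hw, mul_comm]⟩
    have h3 : orderOf w / m = 2 ^ a := by
      rw [hw]
      exact Nat.mul_div_cancel _ hm.pos
    rwa [h3] at h2
  have h2 := h a (by rw [h1]; exact hm)
  rw [h2, orderOf_one] at h1
  refine ⟨a, ?_⟩
  rw [hw, ← h1, mul_one]

/-- In a finite `NC` group with a central involution `t` and another involution, the elements of odd
order are trivial. -/
theorem NC.odd_eq_one_central [Finite G] (hN : NC G) {t s : G} (ht : orderOf t = 2)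
    (hs : orderOf s = 2) (hst : s ≠ t) (htc : ∀ g : G, g * t = t * g) {u : G}
    (huo : Odd (orderOf u)) : u = 1 := by
  haveI : Fact (Nat.Prime 2) := ⟨Nat.prime_two⟩
  have hs1 := mul_self_of_order hs
  have hcst : s * t = t * s := htc s
  have hsP : IsPGroup 2 (Subgroup.zpowers s) :=
    IsPGroup.of_card (n := 1) (by rw [Nat.card_zpowers, hs, pow_one])
  -- Step 1: pairs of conjugates
  have hpair : ∀ g : G, IsPGroup 2 ↥(Subgroup.zpowers s ⊔
      (Subgroup.zpowers s).map (MulAut.conj g).toMonoidHom) := by
    intro g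
    set s' := g * s * g⁻¹ with hs'
    have hs'o : orderOf s' = 2 := by
      have : orderOf (MulAut.conj g s) = orderOf s := MulEquiv.orderOf_eq _ _
      rw [MulAut.conj_apply] at this
      rw [hs', this, hs]
    have hs'1 := mul_self_of_order hs'o
    have hmap : (Subgroup.zpowers s).map (MulAut.conj g).toMonoidHom = Subgroup.zpowers s' := by
      rw [MonoidHom.map_zpowers]
      rfl
    rw [hmap]
    by_cases he : s = s'
    · rw [← he, sup_idem]
      exact hsP
    · set w := s * s' with hw
      have hsinv : s⁻¹ = s := inv_eq_of_mul_eq_one_left hs1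
      have hs'inv : s'⁻¹ = s' := inv_eq_of_mul_eq_one_left hs'1
      have hinvw : s * w * s⁻¹ = w⁻¹ := by
        rw [hw, mul_inv_rev, hsinv, hs'inv, ← mul_assoc, hs1, one_mul]
      have hwo : ∃ a : ℕ, orderOf w = 2 ^ a := by
        apply order_two_pow
        intro k hk
        by_contra hne
        apply hN.no_inverted ht hs1 hne hk _ (htc s).symm (htc _).symm
        rw [← conj_pow, hinvw, inv_pow]
      obtain ⟨a, ha⟩ := hwo
      obtain ⟨e⟩ := Cfsg.Agent.Lib.InvolutionDihedral.closure_pair_equiv s s' hs hs'o he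
      have hcl : IsPGroup 2 ↥(Subgroup.closure ({s, s'} : Set G)) := by
        apply IsPGroup.of_card (n := a + 1)
        rw [Nat.card_congr e.toEquiv, DihedralGroup.nat_card, ← hw, ha, pow_succ, mul_comm]
      apply hcl.to_le
      apply sup_le
      · rw [Subgroup.zpowers_le]
        exact Subgroup.subset_closure (Or.inl rfl)
      · rw [Subgroup.zpowers_le]
        exact Subgroup.subset_closure (Or.inr rfl)
  -- Step 2: Baer-Suzuki
  obtain ⟨N, hNn, hNp, hsN⟩ := Cfsg.Agent.Lib.BaerSuzuki.baer_suzuki (Subgroup.zpowers s) hsP hpair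
  have htn : (Subgroup.zpowers t).Normal := by
    refine ⟨fun n hn g => ?_⟩
    obtain ⟨k, rfl⟩ := Subgroup.mem_zpowers_iff.mp hn
    rw [← conj_zpow, htc g, mul_assoc, mul_inv_cancel, mul_one]
    exact Subgroup.zpow_mem_zpowers _ _
  have htP : IsPGroup 2 (Subgroup.zpowers t) :=
    IsPGroup.of_card (n := 1) (by rw [Nat.card_zpowers, ht, pow_one])
  -- Step 3: the normal 2-subgroup
  let T : Subgroup G := N ⊔ Subgroup.zpowers t
  haveI hTn : T.Normal := Subgroup.sup_normal _ _
  have hTP : IsPGroup 2 T := hNp.to_sup_of_normal_right htP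
  have hsT : s ∈ T := (le_sup_left : N ≤ T) (hsN (Subgroup.mem_zpowers s))
  have htT : t ∈ T := (le_sup_right : Subgroup.zpowers t ≤ T) (Subgroup.mem_zpowers t)
  let x : T := ⟨s, hsT⟩
  let y : T := ⟨t, htT⟩
  have hxo : orderOf x = 2 := by rw [Subgroup.orderOf_mk]; exact hs
  have hyo : orderOf y = 2 := by rw [Subgroup.orderOf_mk]; exact ht
  have hxy : x ≠ y := fun h => hst (congrArg Subtype.val h)
  have hcxy : x * y = y * x := Subtype.ext hcst
  have hNT : NC T := hN.subgroup T
  have hcent : Subgroup.centralizer ({x} : Set T) =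
      kleinSub x y (mul_self_of_order hxo) (mul_self_of_order hyo) hcxy := by
    ext z
    rw [Subgroup.mem_centralizer_singleton_iff, mem_kleinSub]
    constructor
    · intro hz
      exact hNT.eq_of_comm hxo hyo hxy hcxy hz (Subtype.ext (htc _))
    · rintro (rfl | rfl | rfl | rfl)
      · simp
      · rfl
      · exact hcxy.symm
      · show x * y * x = x * (x * y)
        rw [mul_assoc, ← hcxy]
  have hc4 : Nat.card ↥(Subgroup.centralizer ({x} : Set T)) = 4 := by
    rw [hcent]
    exact card_kleinSub hxo hyo hxy hcxy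
  have hdvd4 : 4 ∣ Nat.card T := by
    rw [← hc4]
    exact Subgroup.card_subgroup_dvd_card _
  -- Step 4: `u` commutes with `s`
  have hAut : IsPGroup 2 (MulAut T) → u * s = s * u := by
    intro hP
    have h1 : (MulAut.conjNormal u : MulAut T) = 1 := by
      obtain ⟨k, hk⟩ := hP (MulAut.conjNormal u : MulAut T)
      have h2 : (MulAut.conjNormal u : MulAut T) ^ orderOf u = 1 := by
        rw [← map_pow, pow_orderOf_eq_one, map_one]
      have h3 : orderOf (MulAut.conjNormal u : MulAut T) ∣ 2 ^ k := orderOf_dvd_of_pow_eq_one hk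
      have h4 : orderOf (MulAut.conjNormal u : MulAut T) ∣ orderOf u := orderOf_dvd_of_pow_eq_one h2
      have h5 : Nat.Coprime (2 ^ k) (orderOf u) := Nat.Coprime.pow_left k (Nat.coprime_two_left.mpr huo)
      have h6 := Nat.eq_one_of_dvd_coprimes h5 h3 h4
      exact orderOf_eq_one_iff.mp h6
    have h2 : (MulAut.conjNormal u : MulAut T) x = x := by rw [h1]; rfl
    have h3 := congrArg Subtype.val h2
    rw [MulAut.conjNormal_apply] at h3
    have h4 : u * s * u⁻¹ = s := h3
    exact mul_inv_eq_iff_eq_mul.mp h4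
  have hcomm : u * s = s * u := by
    have h := Cfsg.Agent.S3224.result hTP x hxo hc4
    have hcase4 : Nat.card T = 4 → u * s = s * u := by
      intro h4
      have htop : kleinSub x y (mul_self_of_order hxo) (mul_self_of_order hyo) hcxy = ⊤ := by
        apply Subgroup.eq_top_of_card_eq
        rw [h4]
        exact card_kleinSub hxo hyo hxy hcxy
      have hz : u * s * u⁻¹ ∈ T := hTn.conj_mem s hsT u
      have hz2 : (⟨u * s * u⁻¹, hz⟩ : T) ∈
          kleinSub x y (mul_self_of_order hxo) (mul_self_of_order hyo) hcxy := by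
        rw [htop]
        trivial
      have hut : u * t * u⁻¹ = t := by rw [htc u, mul_assoc, mul_inv_cancel, mul_one]
      rcases hz2 with h0 | h0 | h0 | h0
      · exfalso
        have h1 : u * s * u⁻¹ = 1 := congrArg Subtype.val h0
        apply ne_one_of_order hs
        calc s = u⁻¹ * (u * s * u⁻¹) * u := by group
          _ = 1 := by rw [h1]; group
      · have h1 : u * s * u⁻¹ = s := congrArg Subtype.val h0
        exact mul_inv_eq_iff_eq_mul.mp h1
      · exfalso
        have h1 : u * s * u⁻¹ = t := congrArg Subtype.val h0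
        apply hst
        calc s = u⁻¹ * (u * s * u⁻¹) * u := by group
          _ = u⁻¹ * (u * t * u⁻¹) * u := by rw [h1, hut]
          _ = t := by group
      · have h1 : u * s * u⁻¹ = s * t := congrArg Subtype.val h0
        have h2 : u * (s * t) * u⁻¹ = s := by
          calc u * (s * t) * u⁻¹ = (u * s * u⁻¹) * (u * t * u⁻¹) := by group
            _ = s := by rw [h1, hut, mul_assoc, mul_self_of_order ht, mul_one]
        have h3 : Commute (u ^ 2) s := by
          show u ^ 2 * s = s * u ^ 2
          rw [pow_two]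
          calc u * u * s = u * (u * s * u⁻¹) * u⁻¹ * (u * u) := by group
            _ = u * (s * t) * u⁻¹ * (u * u) := by rw [h1]
            _ = s * (u * u) := by rw [h2]
        obtain ⟨j, hj⟩ := huo
        have h4 : u = (u ^ 2) ^ (j + 1) := by
          rw [← pow_mul, show 2 * (j + 1) = orderOf u + 1 by omega, pow_succ, pow_orderOf_eq_one,
            one_mul]
        rw [h4]
        exact (h3.pow_left (j + 1)).eq
    rcases h with ⟨n, ⟨e⟩⟩ | hQ | h4
    · have hcard : Nat.card T = 2 * n := by
        rw [Nat.card_congr e.toEquiv, DihedralGroup.nat_card]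
      have hn0 : n ≠ 0 := by
        rintro rfl
        have := Nat.card_pos (α := T)
        omega
      by_cases h4 : 4 ≤ n
      · exact hAut (Cfsg.Agent.S3116.result hTP (Or.inl ⟨n, h4, ⟨e⟩⟩))
      · apply hcase4
        rw [hcard] at hdvd4 ⊢
        omega
    · exact hAut (Cfsg.Agent.S3116.result hTP (Or.inr hQ))
    · exact hcase4 h4
  -- Step 5: conclusion
  have h1 := hN.eq_of_comm hs ht hst hcst hcomm (htc u)
  apply odd_eq_one_of_sq huo
  rcases h1 with h | h | h | h
  · rw [h, one_mul]
  · rw [h]; exact hs1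
  · rw [h]; exact mul_self_of_order ht
  · rw [h]
    calc s * t * (s * t) = s * (t * s) * t := by group
      _ = s * (s * t) * t := by rw [hcst]
      _ = (s * s) * (t * t) := by group
      _ = 1 := by rw [hs1, mul_self_of_order ht, one_mul]

/-- In a finite `NC` group, the centralizer of an involution commuting with another involution is
a `2`-group. -/
theorem NC.centralizer_isPGroup [Finite G] (hN : NC G) {t s : G} (ht : orderOf t = 2)
    (hs : orderOf s = 2) (hst : s ≠ t) (hc : s * t = t * s) :
    IsPGroup 2 (Subgroup.centralizer ({t} : Set G)) := by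
  let C := Subgroup.centralizer ({t} : Set G)
  have htC : t ∈ C := Subgroup.mem_centralizer_singleton_iff.mpr rfl
  have hsC : s ∈ C := Subgroup.mem_centralizer_singleton_iff.mpr hc
  let tt : C := ⟨t, htC⟩
  let ss : C := ⟨s, hsC⟩
  have hodd : ∀ u : C, Odd (orderOf u) → u = 1 :=
    fun u hu => (hN.subgroup C).odd_eq_one_central (t := tt) (s := ss)
      (by rw [Subgroup.orderOf_mk]; exact ht) (by rw [Subgroup.orderOf_mk]; exact hs)
      (fun h => hst (congrArg Subtype.val h))
      (fun g => Subtype.ext (Subgroup.mem_centralizer_singleton_iff.mp g.2)) hu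
  intro c
  obtain ⟨a, ha⟩ := order_two_pow c (fun k hk => hodd _ hk)
  exact ⟨a, by rw [← ha, pow_orderOf_eq_one]⟩

end Cfsg.Agent.Lib.SelfCentA
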