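import Mathlib
import Cfsg.Agent.S0731

/-!
# From the conclusion of the Brauer-Suzuki-Wall theorem to `PSL₂`
-/

set_option autoImplicit false

namespace Cfsg.Agent.Lib.SelfCentB

open MulAction

variable {G : Type*} [Group G] [Finite G]

/-- The coset action of a group with a self-centralizing TI subgroup `Q` and `N(Q) = QD`. -/
theorem psl_of_bsw [IsSimpleGroup G] (Q D : Subgroup G)
    (hcard : 2 * Nat.card G = Nat.card Q * (Nat.card Q + 1) * (Nat.card Q - 1))
    (hC : ∀ x ∈ Q, x ≠ 1 → Subgroup.centralizer ({x} : Set G) = Q)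
    (hDc : 2 * Nat.card D + 1 = Nat.card Q)
    (hQD : Q ⊓ D = ⊥)
    (hN : Subgroup.normalizer (Q : Set G) = Q ⊔ D)
    (hq : 3 < Nat.card Q) :
    ∃ (K : Type) (_ : Field K) (_ : Fintype K), ringChar K ≠ 2 ∧
      Nonempty (G ≃* Matrix.ProjectiveSpecialLinearGroup (Fin 2) K) := by
  classical
  set q := Nat.card Q with hqdef
  set d := Nat.card D with hddef
  set L : Subgroup G := Subgroup.normalizer (Q : Set G) with hL
  have hQL : Q ≤ L := Subgroup.le_normalizer
  have hDL : D ≤ L := by rw [hN]; exact le_sup_right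
  -- conjugation inside `L`
  have hLconj : ∀ g ∈ L, ∀ h ∈ Q, g * h * g⁻¹ ∈ Q := by
    intro g hg h hh
    exact (Subgroup.mem_normalizer_iff.mp hg h).mp hh
  -- `Q` is abelian
  have hQab : ∀ a ∈ Q, ∀ b ∈ Q, a * b = b * a := by
    intro a ha b hb
    by_cases ha1 : a = 1
    · rw [ha1, one_mul, mul_one]
    · have : b ∈ Subgroup.centralizer ({a} : Set G) := by rw [hC a ha ha1]; exact hb
      exact (Subgroup.mem_centralizer_singleton_iff.mp this).symm
  -- the order of `L`
  let Q' : Subgroup L := Q.subgroupOf L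
  let D' : Subgroup L := D.subgroupOf L
  haveI hQ'n : Q'.Normal := by
    refine ⟨fun n hn g => ?_⟩
    rw [Subgroup.mem_subgroupOf] at hn ⊢
    exact hLconj g g.2 n hn
  have hQ'c : Nat.card Q' = q := by
    apply Nat.card_congr
    exact (Subgroup.subgroupOfEquivOfLe hQL).toEquiv
  have hD'c : Nat.card D' = d := by
    apply Nat.card_congr
    exact (Subgroup.subgroupOfEquivOfLe hDL).toEquiv
  have hsup : D' ⊔ Q' = ⊤ := by
    rw [eq_top_iff]
    rintro ⟨x, hx⟩ -
    have hmap : (D' ⊔ Q').map L.subtype = L := by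
      rw [Subgroup.map_sup]
      have h1 : Q'.map L.subtype = Q := by
        rw [Subgroup.map_subgroupOf_eq_of_le hQL]
      have h2 : D'.map L.subtype = D := by
        rw [Subgroup.map_subgroupOf_eq_of_le hDL]
      rw [h1, h2, sup_comm, hN]
    have hx' : x ∈ (D' ⊔ Q').map L.subtype := by rw [hmap]; exact hx
    obtain ⟨y, hy, hyx⟩ := hx'
    have : y = ⟨x, hx⟩ := Subtype.ext hyx
    rwa [← this]
  have hdis : Disjoint D' Q' := by
    rw [Subgroup.disjoint_def]
    intro x hx hx'
    rw [Subgroup.mem_subgroupOf] at hx hx'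
    have : (x : G) ∈ Q ⊓ D := ⟨hx', hx⟩
    rw [hQD, Subgroup.mem_bot] at this
    exact Subtype.ext this
  have hcompl : D'.IsComplement' Q' := by
    apply Subgroup.isComplement'_of_disjoint_and_mul_eq_univ hdis
    rw [← Subgroup.mul_normal, hsup]
    rfl
  have hLc : Nat.card L = d * q := by
    rw [← hcompl.card_mul, hQ'c, hD'c]
  have hd0 : 0 < d := Nat.card_pos
  have hq0 : 0 < q := Nat.card_pos
  have hidxQ' : Q'.index = d := by
    have h1 := Subgroup.card_mul_index Q'
    rw [hQ'c, hLc, mul_comm d q] at h1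
    exact Nat.eq_of_mul_eq_mul_left hq0 h1
  -- elements of order dividing `q` in `L` lie in `Q`
  have hHall : ∀ w ∈ L, w ^ q = 1 → w ∈ Q := by
    intro w hw hwq
    let w' : L := ⟨w, hw⟩
    have h1 : w' ^ d ∈ Q' := by
      rw [← hidxQ']
      exact Subgroup.pow_index_mem Q' w'
    have h2 : w' ^ q = 1 := Subtype.ext hwq
    have h3 : (w' ^ d) ^ 2 * w' = 1 := by
      rw [← h2, ← hDc, ← pow_mul, pow_succ, mul_comm d 2]
    have h4 : w' = ((w' ^ d) ^ 2)⁻¹ := eq_inv_of_mul_eq_one_right h3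
    have h5 : w' ∈ Q' := by
      rw [h4]
      exact Q'.inv_mem (Q'.pow_mem h1 2)
    exact Subgroup.mem_subgroupOf.mp h5
  -- the coset space
  let Ω := G ⧸ L
  let x₀ : Ω := ((1 : G) : Ω)
  have hsmul : ∀ g h : G, g • ((h : G) : Ω) = ((g * h : G) : Ω) := fun _ _ => rfl
  have hx₀ : ∀ g : G, ((g : G) : Ω) = x₀ ↔ g ∈ L := by
    intro g
    rw [show ((g : G) : Ω) = x₀ ↔ ((1 : G) : Ω) = ((g : G) : Ω) from eq_comm, QuotientGroup.eq]
    simp
  have hfix : ∀ g : G, g • x₀ = x₀ ↔ g ∈ L := by
    intro g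
    rw [show g • x₀ = ((g * 1 : G) : Ω) from hsmul g 1, mul_one]
    exact hx₀ g
  -- freeness on the other points
  have hfree : ∀ u ∈ Q, ∀ y : Ω, y ≠ x₀ → u • y = y → u = 1 := by
    intro u hu y hy huy
    by_contra hu1
    obtain ⟨g, rfl⟩ := QuotientGroup.mk_surjective y
    have hgL : g ∉ L := fun h => hy ((hx₀ g).mpr h)
    have h1 : g⁻¹ * u * g ∈ L := by
      have h2 : ((u * g : G) : Ω) = ((g : G) : Ω) := huy
      rw [QuotientGroup.eq] at h2
      have h3 : g⁻¹ * u⁻¹ * g ∈ L := by
        convert h2 using 1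
        group
      have h4 := L.inv_mem h3
      convert h4 using 1
      group
    have h2 : (g⁻¹ * u * g) ^ q = 1 := by
      have h3 : u ^ q = 1 := by
        have := pow_card_eq_one' (x := (⟨u, hu⟩ : Q))
        exact congrArg Subtype.val this
      have h4 := conj_pow (a := g⁻¹) (b := u) (i := q)
      rw [inv_inv] at h4
      rw [h4, h3]
      group
    have hw : g⁻¹ * u * g ∈ Q := hHall _ h1 h2
    have hw1 : g⁻¹ * u * g ≠ 1 := by
      intro h
      apply hu1
      calc u = g * (g⁻¹ * u * g) * g⁻¹ := by group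
        _ = 1 := by rw [h]; group
    apply hgL
    rw [hL, Subgroup.mem_normalizer_iff]
    intro h
    constructor
    · intro hh
      have h3 : h ∈ Subgroup.centralizer ({g⁻¹ * u * g} : Set G) := by rw [hC _ hw hw1]; exact hh
      have h4 := Subgroup.mem_centralizer_singleton_iff.mp h3
      have h5 : g * h * g⁻¹ ∈ Subgroup.centralizer ({u} : Set G) := by
        rw [Subgroup.mem_centralizer_singleton_iff]
        calc g * h * g⁻¹ * u = g * (h * (g⁻¹ * u * g)) * g⁻¹ := by group
          _ = g * ((g⁻¹ * u * g) * h) * g⁻¹ := by rw [h4]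
          _ = u * (g * h * g⁻¹) := by group
      rwa [hC u hu hu1] at h5
    · intro hh
      have h3 : g * h * g⁻¹ ∈ Subgroup.centralizer ({u} : Set G) := by rw [hC u hu hu1]; exact hh
      have h4 := Subgroup.mem_centralizer_singleton_iff.mp h3
      have h5 : h ∈ Subgroup.centralizer ({g⁻¹ * u * g} : Set G) := by
        rw [Subgroup.mem_centralizer_singleton_iff]
        calc h * (g⁻¹ * u * g) = g⁻¹ * ((g * h * g⁻¹) * u) * g := by group
          _ = g⁻¹ * (u * (g * h * g⁻¹)) * g := by rw [h4]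
          _ = g⁻¹ * u * g * h := by group
      rwa [hC _ hw hw1] at h5
  -- the number of points
  have hΩc : Nat.card Ω = q + 1 := by
    have h1 : Nat.card Ω = L.index := rfl
    have h2 := Subgroup.card_mul_index L
    rw [hLc, ← h1] at h2
    have h3 : q - 1 = 2 * d := by omega
    rw [← h2, h3] at hcard
    have h4 : 2 * d * q * Nat.card Ω = 2 * d * q * (q + 1) := by nlinarith
    exact Nat.eq_of_mul_eq_mul_left (by positivity) h4
  have hcompl2 : Nat.card {w : Ω // w ≠ x₀} = q := by
    have h1 := Nat.card_congr (Equiv.optionSubtypeNe x₀)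
    rw [Finite.card_option, hΩc] at h1
    omega
  -- regularity of `Q`
  have hreg : ∀ y z : Ω, y ≠ x₀ → z ≠ x₀ → ∃! u : Q, (u : G) • y = z := by
    intro y z hy hz
    let f : Q → {w : Ω // w ≠ x₀} := fun u => ⟨(u : G) • y, by
      intro h
      apply hy
      calc y = (u : G)⁻¹ • ((u : G) • y) := (inv_smul_smul _ _).symm
        _ = (u : G)⁻¹ • x₀ := by rw [h]
        _ = x₀ := (hfix _).mpr (L.inv_mem (hQL u.2))⟩
    have hinj : Function.Injective f := by
      intro a b hab
      have h1 : (a : G) • y = (b : G) • y := congrArg Subtype.val hab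
      have h2 : ((b : G)⁻¹ * (a : G)) • y = y := by
        rw [mul_smul, h1, inv_smul_smul]
      have h3 := hfree _ (Q.mul_mem (Q.inv_mem b.2) a.2) y hy h2
      apply Subtype.ext
      rw [inv_mul_eq_one] at h3
      exact h3.symm
    have hbij : Function.Bijective f := by
      rw [Nat.bijective_iff_injective_and_card]
      exact ⟨hinj, by rw [hcompl2]⟩
    obtain ⟨u, hu⟩ := hbij.2 ⟨z, hz⟩
    refine ⟨u, congrArg Subtype.val hu, ?_⟩
    intro v hv
    apply hinj
    apply Subtype.ext
    rw [hu]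
    exact hv
  have htrans : ∀ y : Ω, ∃ g : G, g • y = x₀ := by
    intro y
    obtain ⟨g, rfl⟩ := QuotientGroup.mk_surjective y
    refine ⟨g⁻¹, ?_⟩
    rw [show g⁻¹ • ((g : G) : Ω) = ((g⁻¹ * g : G) : Ω) from hsmul _ _, inv_mul_cancel]
  have hcardΩ3 : 3 ≤ Nat.card Ω := by omega
  haveI : Finite Ω := inferInstance
  -- double transitivity
  have h2t : MulAction.IsMultiplyPretransitive G Ω 2 := by
    rw [MulAction.is_two_pretransitive_iff]
    intro a b c e hab hce
    obtain ⟨g₁, hg₁⟩ := htrans a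
    obtain ⟨g₂, hg₂⟩ := htrans c
    have hb : g₁ • b ≠ x₀ := by
      intro h
      apply hab
      rw [← hg₁] at h
      exact (smul_left_cancel g₁ h).symm
    have he : g₂ • e ≠ x₀ := by
      intro h
      apply hce
      rw [← hg₂] at h
      exact (smul_left_cancel g₂ h).symm
    obtain ⟨u, hu, -⟩ := hreg _ _ hb he
    refine ⟨g₂⁻¹ * (u : G) * g₁, ?_, ?_⟩
    · rw [mul_smul, mul_smul, hg₁, (hfix _).mpr (hQL u.2), ← hg₂, inv_smul_smul]
    · rw [mul_smul, mul_smul, hu, inv_smul_smul]
  -- no element fixes three points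
  have h3pts : ∀ g : G, ∀ a b c : Ω, a ≠ b → b ≠ c → a ≠ c → g • a = a → g • b = b → g • c = c →
      g = 1 := by
    have key : ∀ g : G, ∀ b c : Ω, x₀ ≠ b → b ≠ c → x₀ ≠ c → g • x₀ = x₀ → g • b = b → g • c = c →
        g = 1 := by
      intro g b c hb hbc hc hga hgb hgc
      have hgL : g ∈ L := (hfix g).mp hga
      obtain ⟨u, hu, -⟩ := hreg b c hb.symm hc.symm
      have hu1 : (u : G) ≠ 1 := by
        intro h
        rw [h, one_smul] at hu
        exact hbc hu
      -- `k = u⁻¹ g u g⁻¹ ∈ Q`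
      have hk : (u : G)⁻¹ * (g * (u : G) * g⁻¹) ∈ Q := Q.mul_mem (Q.inv_mem u.2) (hLconj g hgL u u.2)
      have hkb : ((u : G)⁻¹ * (g * (u : G) * g⁻¹)) • b = b := by
        have h1 : g⁻¹ • b = b := by rw [inv_smul_eq_iff, hgb]
        simp only [mul_smul]
        rw [h1, hu, hgc, ← hu, inv_smul_smul]
      have hk1 := hfree _ hk b hb.symm hkb
      have hcomm : g * (u : G) = (u : G) * g := by
        have h1 : g * (u : G) * g⁻¹ = (u : G) := (inv_mul_eq_one.mp hk1).symm
        exact mul_inv_eq_iff_eq_mul.mp h1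
      have hgQ : g ∈ Q := by
        have : g ∈ Subgroup.centralizer ({(u : G)} : Set G) :=
          Subgroup.mem_centralizer_singleton_iff.mpr hcomm
        rwa [hC u u.2 hu1] at this
      exact hfree g hgQ b hb.symm hgb
    intro g a b c hab hbc hac hga hgb hgc
    obtain ⟨τ, hτ⟩ := htrans a
    have h1 : τ * g * τ⁻¹ = 1 := by
      apply key _ (τ • b) (τ • c)
      · rw [← hτ]
        exact fun h => hab (smul_left_cancel τ h)
      · exact fun h => hbc (smul_left_cancel τ h)
      · rw [← hτ]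
        exact fun h => hac (smul_left_cancel τ h)
      · rw [← hτ]
        simp only [mul_smul, inv_smul_smul, hga]
      · simp only [mul_smul, inv_smul_smul, hgb]
      · simp only [mul_smul, inv_smul_smul, hgc]
    calc g = τ⁻¹ * (τ * g * τ⁻¹) * τ := by group
      _ = 1 := by rw [h1]; group
  -- a point other than `x₀`
  obtain ⟨y₀, hy₀⟩ : ∃ y : Ω, y ≠ x₀ := by
    by_contra hcon
    push Not at hcon
    have : Nat.card {w : Ω // w ≠ x₀} = 0 := by
      rw [Nat.card_eq_zero]
      left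
      exact ⟨fun w => w.2 (hcon w.1)⟩
    omega
  -- an element fixing two points
  have h2pts : ∃ g : G, g ≠ 1 ∧ ∃ a b : Ω, a ≠ b ∧ g • a = a ∧ g • b = b := by
    have hd2 : 1 < d := by omega
    obtain ⟨b, hb1⟩ : ∃ b : D, b ≠ 1 := by
      haveI : Nontrivial D := Finite.one_lt_card_iff_nontrivial.mp hd2
      exact exists_ne 1
    have hbL : (b : G) ∈ L := hDL b.2
    have hby : (b : G) • y₀ ≠ x₀ := by
      intro h
      apply hy₀
      calc y₀ = (b : G)⁻¹ • ((b : G) • y₀) := (inv_smul_smul _ _).symm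
        _ = (b : G)⁻¹ • x₀ := by rw [h]
        _ = x₀ := (hfix _).mpr (L.inv_mem hbL)
    obtain ⟨u, hu, -⟩ := hreg _ y₀ hby hy₀
    refine ⟨(u : G) * b, ?_, x₀, y₀, hy₀.symm, ?_, ?_⟩
    · intro h
      have h1 : (b : G) = (u : G)⁻¹ := eq_inv_of_mul_eq_one_right h
      have h2 : (b : G) ∈ Q ⊓ D := ⟨by rw [h1]; exact Q.inv_mem u.2, b.2⟩
      rw [hQD, Subgroup.mem_bot] at h2
      exact hb1 (Subtype.ext h2)
    · rw [hfix]
      exact L.mul_mem (hQL u.2) hbL
    · rw [mul_smul, hu]
  obtain ⟨v₀, hv₀, hv₀1⟩ : ∃ v ∈ Q, v ≠ 1 := by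
    have : 1 < Nat.card Q := by omega
    haveI : Nontrivial Q := Finite.one_lt_card_iff_nontrivial.mp this
    obtain ⟨v, hv⟩ := exists_ne (1 : Q)
    exact ⟨v, v.2, fun h => hv (Subtype.ext h)⟩
  -- no regular normal subgroup
  have hnoreg : ∀ N : Subgroup G, N.Normal → MulAction.IsPretransitive N Ω →
      ∃ a : Ω, MulAction.stabilizer N a ≠ ⊥ := by
    intro N hNn hNt
    rcases hNn.eq_bot_or_eq_top with h | h
    · exfalso
      subst h
      obtain ⟨g, hg⟩ := MulAction.exists_smul_eq (⊥ : Subgroup G) x₀ y₀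
      have : g = 1 := Subsingleton.elim _ _
      rw [this, one_smul] at hg
      exact hy₀ hg.symm
    · subst h
      refine ⟨x₀, ?_⟩
      intro hbot
      have h1 : (⟨v₀, trivial⟩ : (⊤ : Subgroup G)) ∈ MulAction.stabilizer (⊤ : Subgroup G) x₀ := by
        rw [MulAction.mem_stabilizer_iff]
        exact (hfix v₀).mpr (hQL hv₀)
      rw [hbot, Subgroup.mem_bot] at h1
      exact hv₀1 (congrArg Subtype.val h1)
  -- faithfulness
  have hfaith : FaithfulSMul G Ω := by
    let φ := MulAction.toPermHom G Ω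
    have hker : φ.ker = ⊥ := by
      rcases (MonoidHom.normal_ker φ).eq_bot_or_eq_top with h1 | h1
      · exact h1
      · exfalso
        obtain ⟨g, rfl⟩ := QuotientGroup.mk_surjective y₀
        apply hy₀
        have h2 : g ∈ φ.ker := by rw [h1]; trivial
        rw [MonoidHom.mem_ker] at h2
        have h3 : g • x₀ = x₀ := by
          have := congrArg (fun σ : Equiv.Perm Ω => σ x₀) h2
          exact this
        exact (hx₀ g).mpr ((hfix g).mp h3)
    refine ⟨fun {g g'} h => ?_⟩
    have h5 : φ g = φ g' := Equiv.ext h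
    exact (MonoidHom.ker_eq_bot_iff φ).mp hker h5
  have hZ : Cfsg.IsZassenhausGroup G Ω := ⟨hfaith, h2t, h3pts, h2pts, hnoreg⟩
  have hFle : Q ≤ MulAction.stabilizer G x₀ := by
    intro u hu
    rw [MulAction.mem_stabilizer_iff]
    exact (hfix u).mpr (hQL hu)
  have hFn : (Q.subgroupOf (MulAction.stabilizer G x₀)).Normal := by
    refine ⟨fun n hn g => ?_⟩
    rw [Subgroup.mem_subgroupOf] at hn ⊢
    have hg : (g : G) ∈ L := (hfix g).mp g.2
    exact hLconj g hg n hn
  have hFab : IsMulCommutative Q :=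
    ⟨⟨fun a b => Subtype.ext (hQab a a.2 b b.2)⟩⟩
  rcases Cfsg.Agent.S0731.result hZ x₀ Q hFle hFn hFab hreg with ⟨h3, hs⟩ | ⟨K, hK, hKf, hKc, hKe⟩
  · exfalso
    -- sharply triply transitive: count
    haveI : Fintype Ω := Fintype.ofFinite Ω
    have hcΩ : Fintype.card (Fin 3) ≤ Fintype.card Ω := by
      rw [Fintype.card_fin, ← Nat.card_eq_fintype_card]
      exact hcardΩ3
    obtain ⟨t₀⟩ := Function.Embedding.nonempty_of_card_le hcΩ
    let f : G → (Fin 3 ↪ Ω) := fun g => g • t₀
    have hfb : Function.Bijective f := by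
      constructor
      · intro a b hab
        have h1 : b⁻¹ * a ∈ MulAction.stabilizer G t₀ := by
          rw [MulAction.mem_stabilizer_iff, mul_smul]
          change b⁻¹ • (a • t₀) = t₀
          have : a • t₀ = b • t₀ := hab
          rw [this, inv_smul_smul]
        rw [hs t₀, Subgroup.mem_bot, inv_mul_eq_one] at h1
        exact h1.symm
      · intro t
        exact MulAction.exists_smul_eq G t₀ t
    have h1 : Nat.card G = (q + 1) * q * (q - 1) := by
      rw [Nat.card_congr (Equiv.ofBijective f hfb), Nat.card_eq_fintype_card,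
        Fintype.card_embedding_eq, Fintype.card_fin, ← Nat.card_eq_fintype_card, hΩc]
      obtain ⟨m, hm⟩ : ∃ m, q = m + 1 := ⟨q - 1, by omega⟩
      rw [hm]
      simp [Nat.descFactorial_succ]
      ring
    have h2 : 0 < Nat.card G := Nat.card_pos
    have h3' : 2 * Nat.card G = Nat.card G := by
      rw [hcard, h1]
      ring
    omega
  · exact ⟨K, hK, hKf, hKc, hKe⟩

end Cfsg.Agent.Lib.SelfCentB
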