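import Mathlib
import Cfsg.Agent.Lib.FrobNPC

/-!
# Groups all of whose non-abelian subgroups are self-normalizing: basic structure
-/

set_option autoImplicit false
set_option linter.unusedSectionVars false
set_option linter.unusedVariables false

namespace Cfsg.Agent.Lib.SelfNormA

open Cfsg.Agent.Lib.FrobNPC

/-- Every non-abelian subgroup is self-normalizing. -/
def Pr (G : Type*) [Group G] : Prop :=
  ∀ H : Subgroup G, ¬ IsMulCommutative H → Subgroup.normalizer (H : Set G) = H

section basic

variable {G : Type*} [Group G]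

theorem comm_of (H : Subgroup G) (h : ∀ a ∈ H, ∀ b ∈ H, a * b = b * a) : IsMulCommutative H :=
  ⟨⟨fun a b => Subtype.ext (h a a.2 b b.2)⟩⟩

theorem comm_elim {H : Subgroup G} (h : IsMulCommutative H) {a b : G} (ha : a ∈ H) (hb : b ∈ H) :
    a * b = b * a := by
  have := h.is_comm.comm ⟨a, ha⟩ ⟨b, hb⟩
  exact congrArg Subtype.val this

theorem Pr.mem (hP : Pr G) {H : Subgroup G} (hn : ¬ IsMulCommutative H) {k : G}
    (hk : k ∈ Subgroup.normalizer (H : Set G)) : k ∈ H := by
  have := hP H hn
  rw [this] at hk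
  exact hk

theorem Pr.comm_of_normalized (hP : Pr G) {H : Subgroup G} {k : G}
    (hk : k ∈ Subgroup.normalizer (H : Set G)) (hkH : k ∉ H) : IsMulCommutative H := by
  by_contra hn
  exact hkH (hP.mem hn hk)

theorem mem_norm_iff {H : Subgroup G} {k : G} :
    k ∈ Subgroup.normalizer (H : Set G) ↔ ∀ h, h ∈ H ↔ k * h * k⁻¹ ∈ H :=
  Subgroup.mem_normalizer_iff

theorem mem_norm_of_finite [Finite G] {H : Subgroup G} {k : G} (h : ∀ u ∈ H, k * u * k⁻¹ ∈ H) :
    k ∈ Subgroup.normalizer (H : Set G) := by
  rw [mem_norm_iff]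
  intro u
  refine ⟨h u, ?_⟩
  intro hu
  -- the map is injective on the finite set H
  have hfin : Finite H := inferInstance
  let f : H → H := fun v => ⟨k * v * k⁻¹, h v v.2⟩
  have hinj : Function.Injective f := by
    intro a b hab
    have h1 : k * (a : G) * k⁻¹ = k * b * k⁻¹ := congrArg Subtype.val hab
    apply Subtype.ext
    have := mul_left_cancel (mul_right_cancel h1)
    exact this
  have hsurj := (Finite.injective_iff_surjective).mp hinj
  obtain ⟨v, hv⟩ := hsurj ⟨k * u * k⁻¹, hu⟩
  have h1 : k * (v : G) * k⁻¹ = k * u * k⁻¹ := congrArg Subtype.val hv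
  have := mul_left_cancel (mul_right_cancel h1)
  rw [← this]
  exact v.2

/-- The property passes to subgroups. -/
theorem Pr.subgroup (hP : Pr G) (K : Subgroup G) : Pr K := by
  intro H hH
  have hm : ¬ IsMulCommutative (H.map K.subtype) := by
    intro hc
    apply hH
    refine comm_of H ?_
    intro a ha b hb
    apply Subtype.ext
    exact comm_elim hc (Subgroup.mem_map_of_mem _ ha) (Subgroup.mem_map_of_mem _ hb)
  apply le_antisymm
  · intro k hk
    rw [mem_norm_iff] at hk
    have : (k : G) ∈ Subgroup.normalizer ((H.map K.subtype : Subgroup G) : Set G) := by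
      rw [mem_norm_iff]
      intro x
      constructor
      · rintro ⟨y, hy, rfl⟩
        exact ⟨k * y * k⁻¹, (hk y).mp hy, by simp⟩
      · rintro ⟨y, hy, hyeq⟩
        have hx : x = ((k⁻¹ * y * k : K) : G) := by
          simp only [Subgroup.coe_subtype] at hyeq
          simp only [Subgroup.coe_mul, Subgroup.coe_inv]
          rw [hyeq]; group
        rw [hx]
        refine ⟨k⁻¹ * y * k, ?_, rfl⟩
        refine (hk _).mpr ?_
        have e : k * (k⁻¹ * y * k) * k⁻¹ = y := by group
        rwa [e]
    obtain ⟨y, hy, hyeq⟩ := hP.mem hm this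
    have : y = k := Subtype.ext hyeq
    rwa [← this]
  · exact Subgroup.le_normalizer

/-- The property is invariant under isomorphism. -/
theorem Pr.of_equiv {H : Type*} [Group H] (e : G ≃* H) (hP : Pr G) : Pr H := by
  intro A hA
  have hm : ¬ IsMulCommutative (A.comap e.toMonoidHom) := by
    intro hc
    apply hA
    refine comm_of A ?_
    intro a ha b hb
    have h1 := comm_elim hc (a := e.symm a) (b := e.symm b)
      (by simpa using ha) (by simpa using hb)
    have h2 := congrArg e h1
    simpa using h2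
  apply le_antisymm
  · intro k hk
    rw [mem_norm_iff] at hk
    have : e.symm k ∈ Subgroup.normalizer ((A.comap e.toMonoidHom : Subgroup G) : Set G) := by
      rw [mem_norm_iff]
      intro x
      simp only [Subgroup.mem_comap, MulEquiv.coe_toMonoidHom, map_mul, map_inv,
        MulEquiv.apply_symm_apply]
      exact hk _
    have h2 := hP.mem hm this
    simpa using h2
  · exact Subgroup.le_normalizer

/-- Burnside: a Sylow subgroup central in its normalizer has a normal complement. -/
theorem burnside [Finite G] {p : ℕ} [Fact p.Prime] (P : Sylow p G)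
    (hP : Subgroup.normalizer ((P : Subgroup G) : Set G) ≤
      Subgroup.centralizer ((P : Subgroup G) : Set G)) :
    ∃ E : Subgroup G, E.Normal ∧ E.IsComplement' (P : Subgroup G) :=
  ⟨_, MonoidHom.normal_ker _, MonoidHom.ker_transferSylow_isComplement' P hP⟩

/-- A finite group all of whose nontrivial subgroups are self-normalizing has prime order. -/
theorem prime_of_selfnorm {Q : Type*} [Group Q] [Finite Q] [Nontrivial Q]
    (h : ∀ D : Subgroup Q, D ≠ ⊥ → Subgroup.normalizer (D : Set Q) = D) :
    (Nat.card Q).Prime := by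
  classical
  have hcard : Nat.card Q ≠ 1 := Finite.one_lt_card.ne'
  obtain ⟨p, hp, hpd⟩ := Nat.exists_prime_and_dvd hcard
  haveI : Fact p.Prime := ⟨hp⟩
  obtain ⟨P⟩ : Nonempty (Sylow p Q) := inferInstance
  have hPne : (P : Subgroup Q) ≠ ⊥ := P.ne_bot_of_dvd_card hpd
  haveI : Finite P := inferInstance
  -- the centre of `P`
  have hPab : ∀ a ∈ (P : Subgroup Q), ∀ b ∈ (P : Subgroup Q), a * b = b * a := by
    have hnt : Nontrivial (P : Subgroup Q) := (Subgroup.nontrivial_iff_ne_bot _).mpr hPne
    have hcen : Nontrivial (Subgroup.center (P : Subgroup Q)) := P.isPGroup'.center_nontrivial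
    let D : Subgroup Q := (Subgroup.center (P : Subgroup Q)).map (P : Subgroup Q).subtype
    have hD : D ≠ ⊥ := by
      intro hbot
      obtain ⟨z, hz⟩ := exists_ne (1 : Subgroup.center (P : Subgroup Q))
      apply hz
      have : ((z : (P : Subgroup Q)) : Q) ∈ D := Subgroup.mem_map_of_mem _ z.2
      rw [hbot, Subgroup.mem_bot] at this
      apply Subtype.ext
      apply Subtype.ext
      exact this
    have hND := h D hD
    have hPD : (P : Subgroup Q) ≤ D := by
      intro a ha
      have : a ∈ Subgroup.normalizer (D : Set Q) := by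
        apply mem_norm_of_finite
        rintro _ ⟨z, hz, rfl⟩
        refine ⟨z, hz, ?_⟩
        have := Subgroup.mem_center_iff.mp hz ⟨a, ha⟩
        have h2 : a * (z : Q) = z * a := congrArg Subtype.val this
        simp only [Subgroup.coe_subtype]
        rw [h2]; group
      rw [hND] at this
      exact this
    intro a ha b hb
    obtain ⟨z, hz, rfl⟩ := hPD ha
    have := Subgroup.mem_center_iff.mp hz ⟨b, hb⟩
    have h2 : b * (z : Q) = z * b := congrArg Subtype.val this
    exact h2.symm
  have hNP : Subgroup.normalizer ((P : Subgroup Q) : Set Q) = P := h _ hPne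
  have hNC : Subgroup.normalizer ((P : Subgroup Q) : Set Q) ≤
      Subgroup.centralizer ((P : Subgroup Q) : Set Q) := by
    rw [hNP]
    intro a ha
    rw [Subgroup.mem_centralizer_iff]
    intro b hb
    exact hPab b hb a ha
  obtain ⟨E, hEn, hEc⟩ := burnside P hNC
  have hnormalizer_top : ∀ D : Subgroup Q, D.Normal → D ≠ ⊥ → D = ⊤ := by
    intro D hDn hD
    have h1 := h D hD
    have h2 : Subgroup.normalizer (D : Set Q) = ⊤ := Subgroup.normalizer_eq_top_iff.mpr hDn
    rw [← h1, h2]
  have hEbot : E = ⊥ := by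
    by_contra hE
    have hEtop := hnormalizer_top E hEn hE
    apply hPne
    have hdis := hEc.disjoint
    rw [hEtop] at hdis
    exact top_disjoint.mp hdis
  have hPtop : (P : Subgroup Q) = ⊤ := by
    have := hEc.sup_eq_top
    rwa [hEbot, bot_sup_eq] at this
  have hall : ∀ D : Subgroup Q, D ≠ ⊥ → D = ⊤ := by
    intro D hD
    apply hnormalizer_top D _ hD
    refine ⟨fun n hn g => ?_⟩
    have e : g * n * g⁻¹ = n := by
      rw [hPab g (by rw [hPtop]; trivial) n (by rw [hPtop]; trivial)]
      group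
    rwa [e]
  obtain ⟨g, hg⟩ := exists_prime_orderOf_dvd_card' (G := Q) p hpd
  have hzne : Subgroup.zpowers g ≠ ⊥ := by
    intro hb
    rw [Subgroup.zpowers_eq_bot] at hb
    rw [hb, orderOf_one] at hg
    exact hp.one_lt.ne hg
  have htop := hall _ hzne
  have hc : Nat.card Q = p := by
    rw [← hg, ← Nat.card_zpowers, htop, Subgroup.card_top]
  rwa [hc]

/-- Sections over which all intermediate subgroups are non-abelian have prime order. -/
theorem exists_prime_pow_mem [Finite G] (hP : Pr G) {K Y : Subgroup G} (hYK : Y ≤ K)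
    (hKY : K ≤ Subgroup.normalizer (Y : Set G)) (hne : ∃ y ∈ K, y ∉ Y)
    (hD : ∀ D : Subgroup G, Y ≤ D → D ≤ K → D ≠ Y → ¬ IsMulCommutative D) :
    ∃ q : ℕ, q.Prime ∧ ∀ k ∈ K, k ^ q ∈ Y := by
  classical
  let Y' : Subgroup K := Y.subgroupOf K
  haveI hY'n : Y'.Normal := by
    refine ⟨fun n hn g => ?_⟩
    have := (mem_norm_iff.mp (hKY g.2) n).mp hn
    exact this
  let Q := K ⧸ Y'
  have hnt : Nontrivial Q := by
    obtain ⟨y, hyK, hyY⟩ := hne
    refine ⟨(QuotientGroup.mk (⟨y, hyK⟩ : K) : Q), 1, ?_⟩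
    intro h
    apply hyY
    have := (QuotientGroup.eq_one_iff (⟨y, hyK⟩ : K)).mp h
    exact this
  have hself : ∀ D : Subgroup Q, D ≠ ⊥ → Subgroup.normalizer (D : Set Q) = D := by
    intro D hDne
    apply le_antisymm _ Subgroup.le_normalizer
    intro z hz
    obtain ⟨k, rfl⟩ := QuotientGroup.mk_surjective z
    let E : Subgroup G := (D.comap (QuotientGroup.mk' Y')).map K.subtype
    have hmemE : ∀ u : G, u ∈ E ↔ ∃ hu : u ∈ K, (QuotientGroup.mk (⟨u, hu⟩ : K) : Q) ∈ D := by
      intro u
      constructor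
      · rintro ⟨v, hv, rfl⟩
        exact ⟨v.2, hv⟩
      · rintro ⟨hu, hh⟩
        exact ⟨⟨u, hu⟩, hh, rfl⟩
    have hYE : Y ≤ E := by
      intro u hu
      rw [hmemE]
      refine ⟨hYK hu, ?_⟩
      have : (QuotientGroup.mk (⟨u, hYK hu⟩ : K) : Q) = 1 :=
        (QuotientGroup.eq_one_iff _).mpr hu
      rw [this]
      exact D.one_mem
    have hEK : E ≤ K := by
      rintro _ ⟨v, hv, rfl⟩
      exact v.2
    have hEne : E ≠ Y := by
      intro he
      apply hDne
      rw [eq_bot_iff]
      intro d hd
      obtain ⟨v, rfl⟩ := QuotientGroup.mk_surjective d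
      have h1 : (v : G) ∈ E := (hmemE _).mpr ⟨v.2, hd⟩
      rw [he] at h1
      exact (Subgroup.mem_bot).mpr ((QuotientGroup.eq_one_iff v).mpr h1)
    have hEna := hD E hYE hEK hEne
    have hkN : (k : G) ∈ Subgroup.normalizer (E : Set G) := by
      rw [mem_norm_iff]
      intro u
      have hconj : ∀ v : K, (QuotientGroup.mk (k * v * k⁻¹) : Q) ∈ D ↔ (QuotientGroup.mk v : Q) ∈ D := by
        intro v
        have := mem_norm_iff.mp hz (QuotientGroup.mk v : Q)
        exact this.symm
      constructor
      · intro hu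
        obtain ⟨huK, hh⟩ := (hmemE u).mp hu
        rw [hmemE]
        refine ⟨K.mul_mem (K.mul_mem k.2 huK) (K.inv_mem k.2), ?_⟩
        exact (hconj ⟨u, huK⟩).mpr hh
      · intro hu
        obtain ⟨huK, hh⟩ := (hmemE _).mp hu
        have huK' : u ∈ K := by
          have := K.mul_mem (K.mul_mem (K.inv_mem k.2) huK) k.2
          have e : (k : G)⁻¹ * (k * u * (k : G)⁻¹) * k = u := by group
          rwa [e] at this
        rw [hmemE]
        refine ⟨huK', (hconj ⟨u, huK'⟩).mp hh⟩
    have hkE := hP.mem hEna hkN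
    obtain ⟨_, hh⟩ := (hmemE _).mp hkE
    exact hh
  have hpr := prime_of_selfnorm hself
  refine ⟨_, hpr, ?_⟩
  intro k hk
  have h1 : (QuotientGroup.mk (⟨k, hk⟩ : K) : Q) ^ Nat.card Q = 1 := pow_card_eq_one'
  rw [← QuotientGroup.mk_pow, QuotientGroup.eq_one_iff] at h1
  exact h1

/-- Part I: a `p`-subgroup on which a `p'`-element acts nontrivially lies in an abelian Sylow. -/
theorem exists_abelian_sylow [Finite G] (hP : Pr G) {p : ℕ} [hp : Fact p.Prime] (n : ℕ) :
    ∀ W : Subgroup G, Nat.card G - Nat.card W = n → IsPGroup p W →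
      ∀ y ∈ Subgroup.normalizer (W : Set G), (orderOf y).Coprime p →
        y ∉ Subgroup.centralizer (W : Set G) →
        ∃ S : Sylow p G, W ≤ S ∧ IsMulCommutative (S : Subgroup G) := by
  classical
  induction n using Nat.strong_induction_on with
  | _ n ih =>
  intro W hn hW y hyN hyco hyC
  -- `W` is abelian
  have hWab : IsMulCommutative W := by
    by_contra hna
    have hyW := hP.mem hna hyN
    obtain ⟨k, hk⟩ := hW ⟨y, hyW⟩
    have h1 : y ^ p ^ k = 1 := by
      have := congrArg Subtype.val hk
      simpa using this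
    have h2 : orderOf y ∣ p ^ k := orderOf_dvd_of_pow_eq_one h1
    have h3 : orderOf y = 1 := Nat.Coprime.eq_one_of_dvd (hyco.pow_right k) h2
    have h4 : y = 1 := orderOf_eq_one_iff.mp h3
    apply hyC
    rw [h4]
    exact Subgroup.one_mem _
  set K := Subgroup.normalizer (W : Set G) with hK
  set Y := Subgroup.centralizer (W : Set G) with hY
  have hYK : Y ≤ K := by
    intro u hu
    rw [hK]
    apply mem_norm_of_finite
    intro v hv
    have hc := (Subgroup.mem_centralizer_iff.mp hu) v hv
    have e : u * v * u⁻¹ = v := by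
      rw [← hc]; group
    rwa [e]
  have hKY : K ≤ Subgroup.normalizer (Y : Set G) := by
    intro k hk
    apply mem_norm_of_finite
    intro u hu
    rw [hY, Subgroup.mem_centralizer_iff]
    intro v hv
    have hv' : k⁻¹ * v * k ∈ W := by
      have := (mem_norm_iff.mp hk (k⁻¹ * v * k)).mpr (by
        have e : k * (k⁻¹ * v * k) * k⁻¹ = v := by group
        rw [e]; exact hv)
      exact this
    have hc := (Subgroup.mem_centralizer_iff.mp hu) _ hv'
    calc v * (k * u * k⁻¹) = k * ((k⁻¹ * v * k) * u) * k⁻¹ := by group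
      _ = k * (u * (k⁻¹ * v * k)) * k⁻¹ := by rw [hc]
      _ = k * u * k⁻¹ * v := by group
  have hYab : IsMulCommutative Y := hP.comm_of_normalized (hKY hyN) hyC
  have hWY : W ≤ Y := by
    intro a ha
    rw [hY, Subgroup.mem_centralizer_iff]
    intro b hb
    exact comm_elim hWab hb ha
  -- all `p`-elements of `Y`
  let W₁ : Subgroup G :=
    { carrier := {u | u ∈ Y ∧ ∃ k : ℕ, u ^ p ^ k = 1}
      one_mem' := ⟨Y.one_mem, 0, by simp⟩
      mul_mem' := by
        rintro a b ⟨ha, i, hi⟩ ⟨hb, j, hj⟩
        refine ⟨Y.mul_mem ha hb, i + j, ?_⟩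
        have hcomm : Commute a b := comm_elim hYab ha hb
        rw [hcomm.mul_pow, pow_add, pow_mul, hi, one_pow, mul_comm (p ^ i), pow_mul, hj, one_pow,
          one_mul]
      inv_mem' := by
        rintro a ⟨ha, i, hi⟩
        exact ⟨Y.inv_mem ha, i, by rw [inv_pow, hi, inv_one]⟩ }
  have hW₁mem : ∀ u, u ∈ W₁ ↔ u ∈ Y ∧ ∃ k : ℕ, u ^ p ^ k = 1 := fun u => Iff.rfl
  have hW₁p : IsPGroup p W₁ := by
    rintro ⟨u, hu, k, hk⟩
    exact ⟨k, Subtype.ext (by simpa using hk)⟩
  have hWW₁ : W ≤ W₁ := by
    intro a ha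
    refine ⟨hWY ha, ?_⟩
    obtain ⟨k, hk⟩ := hW ⟨a, ha⟩
    exact ⟨k, by simpa using congrArg Subtype.val hk⟩
  have hyN₁ : y ∈ Subgroup.normalizer (W₁ : Set G) := by
    apply mem_norm_of_finite
    rintro u ⟨hu, k, hk⟩
    refine ⟨(mem_norm_iff.mp (hKY hyN) u).mp hu, k, ?_⟩
    rw [conj_pow, hk]
    simp
  have hyC₁ : y ∉ Subgroup.centralizer (W₁ : Set G) := by
    intro h
    apply hyC
    rw [hY, Subgroup.mem_centralizer_iff] at *
    intro v hv
    exact (Subgroup.mem_centralizer_iff.mp h) v (hWW₁ hv)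
  by_cases heq : W₁ = W
  · -- `W` is a Sylow subgroup
    obtain ⟨S, hS⟩ := hW.exists_le_sylow
    refine ⟨S, hS, ?_⟩
    have hSW : W = S := by
      by_contra hne
      obtain ⟨w, hwS, hwW, hwN⟩ := exists_normalizer_step S.isPGroup' hS hne
      have hwY : w ∉ Y := by
        intro hwY
        apply hwW
        rw [← heq]
        refine ⟨hwY, ?_⟩
        obtain ⟨k, hk⟩ := S.isPGroup' ⟨w, hwS⟩
        exact ⟨k, by simpa using congrArg Subtype.val hk⟩
      obtain ⟨q, hq, hqmem⟩ := exists_prime_pow_mem hP hYK hKY ⟨y, hyN, hyC⟩ (by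
        intro D hYD hDK hDne hDc
        apply hDne
        apply le_antisymm _ hYD
        intro u hu
        rw [hY, Subgroup.mem_centralizer_iff]
        intro v hv
        exact comm_elim hDc (hYD (hWY hv)) hu)
      -- `q = p` from `w`
      have hqp : q = p := by
        by_contra hqne
        have hco : q.Coprime (orderOf w) := by
          obtain ⟨k, hk⟩ := S.isPGroup' ⟨w, hwS⟩
          have h1 : w ^ p ^ k = 1 := by simpa using congrArg Subtype.val hk
          have h2 : orderOf w ∣ p ^ k := orderOf_dvd_of_pow_eq_one h1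
          refine Nat.Coprime.coprime_dvd_right h2 ?_
          exact ((Nat.coprime_primes hq hp.out).mpr hqne).pow_right k
        obtain ⟨m, hm⟩ := exists_pow_eq_self_of_coprime hco
        apply hwY
        rw [← hm]
        exact Y.pow_mem (hqmem w hwN) m
      have hco : q.Coprime (orderOf y) := by
        rw [hqp]
        exact hyco.symm
      obtain ⟨m, hm⟩ := exists_pow_eq_self_of_coprime hco
      apply hyC
      rw [← hm]
      exact Y.pow_mem (hqmem y hyN) m
    rw [← hSW]
    exact hWab
  · -- climb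
    have hlt : Nat.card W < Nat.card W₁ := by
      apply lt_of_le_of_ne (Subgroup.card_le_of_le hWW₁)
      intro hc
      apply heq
      exact (Subgroup.eq_of_le_of_card_ge hWW₁ hc.ge).symm
    have hle : Nat.card W₁ ≤ Nat.card G := Subgroup.card_le_card_group _
    obtain ⟨S, hS, hSab⟩ := ih (Nat.card G - Nat.card W₁) (by omega) W₁ rfl hW₁p y hyN₁ hyco hyC₁
    exact ⟨S, hWW₁.trans hS, hSab⟩

end basic

/-- Sylow subgroups of simple groups with the property are abelian. -/
theorem sylow_abelian {G : Type*} [Group G] [Finite G] [IsSimpleGroup G]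
    (hna : ¬ IsMulCommutative G) (hP : Pr G) {p : ℕ} [hp : Fact p.Prime] (S : Sylow p G) :
    IsMulCommutative (S : Subgroup G) := by
  classical
  by_contra hS
  have hF : FrobHyp p G := by
    intro Q hQ g hg hco
    by_contra hgC
    obtain ⟨S₀, _, hS₀⟩ := exists_abelian_sylow hP _ Q rfl hQ g hg hco hgC
    apply hS
    obtain ⟨a, ha⟩ := MulAction.exists_smul_eq G S₀ S
    refine comm_of _ ?_
    rw [← ha]
    intro u hu v hv
    rw [Sylow.smul_def] at hu hv
    have hu' : a⁻¹ * u * a ∈ (S₀ : Subgroup G) := by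
      obtain ⟨w, hw, hwe⟩ := hu
      have hu0 : u = a * w * a⁻¹ := hwe.symm
      have e : a⁻¹ * (a * w * a⁻¹) * a = w := by group
      rw [hu0, e]
      exact hw
    have hv' : a⁻¹ * v * a ∈ (S₀ : Subgroup G) := by
      obtain ⟨w, hw, hwe⟩ := hv
      have hu0 : v = a * w * a⁻¹ := hwe.symm
      have e : a⁻¹ * (a * w * a⁻¹) * a = w := by group
      rw [hu0, e]
      exact hw
    have := comm_elim hS₀ hu' hv'
    have h2 : a⁻¹ * (u * v) * a = a⁻¹ * (v * u) * a := by
      calc a⁻¹ * (u * v) * a = (a⁻¹ * u * a) * (a⁻¹ * v * a) := by group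
        _ = (a⁻¹ * v * a) * (a⁻¹ * u * a) := this
        _ = _ := by group
    exact mul_left_cancel (mul_right_cancel h2)
  obtain ⟨N, hNn, hNc⟩ := exists_complement_of_sylow S hF
  rcases hNn.eq_bot_or_eq_top with hbot | htop
  · -- `G` is a `p`-group
    have hSt : (S : Subgroup G) = ⊤ := by
      have := hNc.sup_eq_top
      rwa [hbot, bot_sup_eq] at this
    have hGp : IsPGroup p G := by
      intro g
      obtain ⟨k, hk⟩ := S.isPGroup' ⟨g, by rw [hSt]; trivial⟩
      exact ⟨k, by simpa using congrArg Subtype.val hk⟩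
    have hcen := hGp.center_nontrivial
    rcases (inferInstance : (Subgroup.center G).Normal).eq_bot_or_eq_top with h | h
    · rw [h] at hcen
      obtain ⟨z, hz⟩ := exists_ne (1 : (⊥ : Subgroup G))
      exact hz (Subsingleton.elim _ _)
    · apply hna
      refine ⟨⟨fun a b => ?_⟩⟩
      have : a ∈ Subgroup.center G := by rw [h]; trivial
      exact (Subgroup.mem_center_iff.mp this b).symm
  · apply hS
    have hdis := hNc.disjoint
    rw [htop] at hdis
    have := top_disjoint.mp hdis
    rw [this]
    exact comm_of _ (by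
      intro a ha b hb
      rw [Subgroup.mem_bot] at ha hb
      rw [ha, hb])

end Cfsg.Agent.Lib.SelfNormA
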