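import Mathlib
import Cfsg.Agent.Lib.SelfNormA

/-!
# Groups all of whose non-abelian subgroups are self-normalizing: centralizers are abelian
-/

set_option autoImplicit false
set_option linter.unusedSectionVars false
set_option linter.unusedVariables false

namespace Cfsg.Agent.Lib.SelfNormB

open Cfsg.Agent.Lib.SelfNormA
open scoped Pointwise

theorem mem_of_pow_mem_of_coprime {G : Type*} [Group G] (C : Subgroup G) (g : G) {a b : ℕ}
    (h : a.Coprime b) (ha : g ^ a ∈ C) (hb : g ^ b ∈ C) : g ∈ C := by
  have h1 := Nat.gcd_eq_gcd_ab a b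
  rw [h] at h1
  have h2 : g = (g ^ a) ^ (Nat.gcdA a b) * (g ^ b) ^ (Nat.gcdB a b) := by
    rw [← zpow_natCast, ← zpow_natCast, ← zpow_mul, ← zpow_mul, ← zpow_add, ← h1]
    simp
  rw [h2]
  exact C.mul_mem (C.zpow_mem ha _) (C.zpow_mem hb _)

theorem mem_zpowers_of_orderOf_eq {C : Type*} [Group C] [Finite C] [IsCyclic C] {a b : C}
    (h : orderOf a = orderOf b) : b ∈ Subgroup.zpowers a := by
  classical
  haveI := Fintype.ofFinite C
  have hpos : 0 < orderOf a := orderOf_pos a
  have hle := IsCyclic.card_pow_eq_one_le (α := C) hpos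
  have hsub : (Finset.univ.filter (fun y : C => y ∈ Subgroup.zpowers a)) ⊆
      Finset.univ.filter (fun y : C => y ^ orderOf a = 1) := by
    intro y hy
    simp only [Finset.mem_filter, Finset.mem_univ, true_and] at hy ⊢
    obtain ⟨k, rfl⟩ := hy
    simp only
    rw [← zpow_natCast, ← zpow_mul, mul_comm, zpow_mul, zpow_natCast, pow_orderOf_eq_one, one_zpow]
  have hcard : (Finset.univ.filter (fun y : C => y ∈ Subgroup.zpowers a)).card = orderOf a := by
    rw [← Nat.card_zpowers, Nat.card_eq_fintype_card, Fintype.card_subtype]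
  have heq := Finset.eq_of_subset_of_card_le hsub (by rw [hcard]; exact hle)
  have hb : b ∈ Finset.univ.filter (fun y : C => y ^ orderOf a = 1) := by
    simp only [Finset.mem_filter, Finset.mem_univ, true_and]
    rw [h, pow_orderOf_eq_one]
  rw [← heq] at hb
  simpa using hb

open scoped IsMulCommutative in
/-- The key structural lemma: a central element in an abelian Sylow subgroup. -/
theorem cyc_of_central {X : Type*} [Group X] [Finite X] (hP : Pr X) {r : ℕ} [hr : Fact r.Prime]
    (R : Sylow r X) (hRab : IsMulCommutative (R : Subgroup X)) {x : X}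
    (hxR : x ∈ (R : Subgroup X)) (hxc : x ∈ Subgroup.center X) (hx1 : x ≠ 1)
    (hna : ¬ IsMulCommutative X) :
    IsCyclic (R : Subgroup X) ∧ Subgroup.normalizer ((R : Subgroup X) : Set X) ≤
      Subgroup.centralizer ((R : Subgroup X) : Set X) := by
  classical
  haveI : (R : Subgroup X).FiniteIndex := inferInstance
  haveI : IsMulCommutative (R : Subgroup X) := hRab
  let V : X →* (R : Subgroup X) := (MonoidHom.id (R : Subgroup X)).transfer
  have hrp : ∀ u : (R : Subgroup X), ∃ k : ℕ, (u : X) ^ r ^ k = 1 := by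
    intro u
    obtain ⟨k, hk⟩ := R.isPGroup' u
    exact ⟨k, by simpa using congrArg Subtype.val hk⟩
  have hcop : ∀ {u : X}, u ∈ (R : Subgroup X) → ∀ {n : ℕ}, n.Coprime r → u ^ n = 1 → u = 1 := by
    intro u hu n hn hun
    obtain ⟨k, hk⟩ := hrp ⟨u, hu⟩
    have h1 : orderOf u ∣ r ^ k := orderOf_dvd_of_pow_eq_one hk
    have h2 : orderOf u ∣ n := orderOf_dvd_of_pow_eq_one hun
    have h3 : orderOf u = 1 := Nat.Coprime.eq_one_of_dvd ((hn.pow_right k).coprime_dvd_left h2) h1
    exact orderOf_eq_one_iff.mp h3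
  have hidx : ((R : Subgroup X).index).Coprime r := by
    have hnd := R.not_dvd_index
    exact ((Nat.Prime.coprime_iff_not_dvd hr.out).mpr hnd).symm
  have hVx : ((V x : (R : Subgroup X)) : X) = x ^ (R : Subgroup X).index := by
    have := MonoidHom.transfer_eq_pow (MonoidHom.id (R : Subgroup X)) x (by
      intro k g₀ hk
      have hc : x ^ k ∈ Subgroup.center X := Subgroup.pow_mem _ hxc k
      have := Subgroup.mem_center_iff.mp hc g₀⁻¹
      rw [this]
      group)
    exact congrArg Subtype.val this
  let E : Subgroup X := V.ker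
  have hxE : x ∉ E := by
    intro hx
    have h1 : V x = 1 := hx
    have h2 : x ^ (R : Subgroup X).index = 1 := by
      rw [← hVx, h1]; rfl
    exact hx1 (hcop hxR hidx h2)
  have hEn : E.Normal := MonoidHom.normal_ker V
  have hEab : IsMulCommutative E := hP.comm_of_normalized (k := x) (by
    rw [Subgroup.normalizer_eq_top_iff.mpr hEn]; trivial) hxE
  have hEcomm : ∀ a b : X, a * b * a⁻¹ * b⁻¹ ∈ E := by
    intro a b
    show V (a * b * a⁻¹ * b⁻¹) = 1
    rw [map_mul, map_mul, map_mul, map_inv, map_inv, mul_comm (V a) (V b)]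
    group
  have hEp : ∀ h : X, (orderOf h).Coprime r → h ∈ E := by
    intro h hh
    show V h = 1
    have h1 : (V h) ^ orderOf h = 1 := by rw [← map_pow, pow_orderOf_eq_one, map_one]
    have h2 : ((V h : (R : Subgroup X)) : X) ^ orderOf h = 1 := by
      have := congrArg Subtype.val h1
      simpa using this
    apply Subtype.ext
    exact hcop (V h).2 hh h2
  -- `p'`-elements of the normalizer centralize
  have hst2a : ∀ h ∈ Subgroup.normalizer ((R : Subgroup X) : Set X), (orderOf h).Coprime r →
      h ∈ Subgroup.centralizer ((R : Subgroup X) : Set X) := by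
    intro h hhN hco
    rw [Subgroup.mem_centralizer_iff]
    intro s hs
    have hsR : s ∈ (R : Subgroup X) := hs
    let c : X := h * s * h⁻¹ * s⁻¹
    have hcR : c ∈ (R : Subgroup X) := (R : Subgroup X).mul_mem ((mem_norm_iff.mp hhN s).mp hsR)
      ((R : Subgroup X).inv_mem hsR)
    have hcE : c ∈ E := hEcomm h s
    have hhE : h ∈ E := hEp h hco
    have hhc : h * c = c * h := comm_elim hEab hhE hcE
    have hstep : ∀ n : ℕ, h ^ n * s = c ^ n * s * h ^ n := by
      intro n
      induction n with
      | zero => simp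
      | succ n ih =>
        have hcomm : Commute h (c ^ n) := (show Commute h c from hhc).pow_right n
        have h1 : h * s = c * s * h := by
          simp only [c]; group
        calc h ^ (n + 1) * s = h * (h ^ n * s) := by rw [pow_succ']; group
          _ = h * (c ^ n * s * h ^ n) := by rw [ih]
          _ = (h * c ^ n) * s * h ^ n := by group
          _ = (c ^ n * h) * s * h ^ n := by rw [hcomm.eq]
          _ = c ^ n * (h * s) * h ^ n := by group
          _ = c ^ n * (c * s * h) * h ^ n := by rw [h1]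
          _ = c ^ (n + 1) * s * h ^ (n + 1) := by
            rw [pow_succ c n, pow_succ' h n]; group
    have hn := hstep (orderOf h)
    rw [pow_orderOf_eq_one, one_mul, mul_one] at hn
    have hcn : c ^ orderOf h = 1 := by
      have : s = c ^ orderOf h * s := hn
      exact (mul_eq_right.mp this.symm)
    have hc1 : c = 1 := hcop hcR hco hcn
    have : h * s * h⁻¹ * s⁻¹ = 1 := hc1
    have h3 : h * s = s * h := by
      have h4 : h * s * h⁻¹ = s := by
        rw [mul_inv_eq_one] at this
        exact this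
      rw [mul_inv_eq_iff_eq_mul] at h4
      exact h4
    exact h3.symm
  have hst2 : Subgroup.normalizer ((R : Subgroup X) : Set X) ≤
      Subgroup.centralizer ((R : Subgroup X) : Set X) := by
    intro g hg
    have hne : orderOf g ≠ 0 := (orderOf_pos g).ne'
    obtain ⟨a, m, hm, hgm⟩ := Nat.exists_eq_pow_mul_and_not_dvd hne r hr.out.ne_one
    have hmco : m.Coprime r := ((Nat.Prime.coprime_iff_not_dvd hr.out).mpr hm).symm
    apply mem_of_pow_mem_of_coprime _ g (a := r ^ a) (b := m) (Nat.Coprime.pow_left a hmco.symm)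
    · apply hst2a _ (Subgroup.pow_mem _ hg _)
      have h1 : (g ^ r ^ a) ^ m = 1 := by
        rw [← pow_mul, ← hgm, pow_orderOf_eq_one]
      exact Nat.Coprime.coprime_dvd_left (orderOf_dvd_of_pow_eq_one h1) hmco
    · have hu : (g ^ m) ^ r ^ a = 1 := by
        rw [← pow_mul, mul_comm, ← hgm, pow_orderOf_eq_one]
      have hQ : IsPGroup r (Subgroup.zpowers (g ^ m)) := by
        rintro ⟨_, k, rfl⟩
        refine ⟨a, Subtype.ext ?_⟩
        simp only [SubgroupClass.coe_pow, OneMemClass.coe_one]
        show ((g ^ m) ^ k) ^ r ^ a = 1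
        rw [← zpow_natCast, ← zpow_mul, mul_comm, zpow_mul, zpow_natCast, hu, one_zpow]
      have h1 := hQ.inf_normalizer_sylow R
      have h2 := (le_of_eq h1) (show g ^ m ∈ _ from ⟨Subgroup.mem_zpowers _, Subgroup.pow_mem _ hg _⟩)
      rw [Subgroup.mem_centralizer_iff]
      intro s hs
      exact comm_elim hRab hs h2.2
  refine ⟨?_, hst2⟩
  -- Burnside
  let E₂ : Subgroup X := (MonoidHom.transferSylow R hst2).ker
  have hE₂n : E₂.Normal := MonoidHom.normal_ker _
  have hE₂c : E₂.IsComplement' (R : Subgroup X) := MonoidHom.ker_transferSylow_isComplement' R hst2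
  have hdisj : ∀ u, u ∈ E₂ → u ∈ (R : Subgroup X) → u = 1 :=
    fun u hu hu' => Subgroup.disjoint_def.mp hE₂c.disjoint hu hu'
  have hxE₂ : x ∉ E₂ := fun h => hx1 (hdisj x h hxR)
  have hE₂ab : IsMulCommutative E₂ := hP.comm_of_normalized (k := x) (by
    rw [Subgroup.normalizer_eq_top_iff.mpr hE₂n]; trivial) hxE₂
  have hE₂comm : ∀ a b : X, a * b * a⁻¹ * b⁻¹ ∈ E₂ := by
    intro a b
    show (MonoidHom.transferSylow R hst2) (a * b * a⁻¹ * b⁻¹) = 1
    rw [map_mul, map_mul, map_mul, map_inv, map_inv]
    have := (hRab.is_comm.comm ((MonoidHom.transferSylow R hst2) a) ((MonoidHom.transferSylow R hst2) b))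
    rw [this]
    group
  -- a non-centralizing element
  have hex : ∃ y ∈ (R : Subgroup X), ∃ e ∈ E₂, y * e ≠ e * y := by
    by_contra hno
    push Not at hno
    apply hna
    refine ⟨⟨fun u v => ?_⟩⟩
    obtain ⟨⟨⟨e, he⟩, ⟨s, hs⟩⟩, hes, -⟩ := hE₂c.existsUnique u
    obtain ⟨⟨⟨e', he'⟩, ⟨s', hs'⟩⟩, hes', -⟩ := hE₂c.existsUnique v
    simp only at hes hes'
    rw [← hes, ← hes']
    have h1 : e * e' = e' * e := comm_elim hE₂ab he he'
    have h2 : s * s' = s' * s := comm_elim hRab hs hs'
    have h3 : s * e' = e' * s := hno s hs e' he'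
    have h4 : s' * e = e * s' := hno s' hs' e he
    calc e * s * (e' * s') = e * (s * e') * s' := by group
      _ = e * (e' * s) * s' := by rw [h3]
      _ = (e * e') * (s * s') := by group
      _ = (e' * e) * (s' * s) := by rw [h1, h2]
      _ = e' * (e * s') * s := by group
      _ = e' * (s' * e) * s := by rw [h4]
      _ = e' * s' * (e * s) := by group
  obtain ⟨y, hyR, e₀, he₀, hye⟩ := hex
  let D : Subgroup X := E₂ ⊔ Subgroup.zpowers y
  have hDna : ¬ IsMulCommutative D := by
    intro hc
    apply hye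
    exact comm_elim hc (Subgroup.mem_sup_right (Subgroup.mem_zpowers y))
      (Subgroup.mem_sup_left he₀)
  have hDtop : D = ⊤ := by
    rw [eq_top_iff]
    intro z _
    apply hP.mem hDna
    apply mem_norm_of_finite
    intro u hu
    have e : z * u * z⁻¹ = (z * u * z⁻¹ * u⁻¹) * u := by group
    rw [e]
    exact D.mul_mem (Subgroup.mem_sup_left (hE₂comm z u)) hu
  have hRz : ∀ s ∈ (R : Subgroup X), s ∈ Subgroup.zpowers y := by
    intro s hs
    have hsD : s ∈ (D : Set X) := by
      show s ∈ D
      rw [hDtop]; trivial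
    rw [show (D : Set X) = (E₂ : Set X) * ((Subgroup.zpowers y : Subgroup X) : Set X) from
      Subgroup.normal_mul _ _] at hsD
    obtain ⟨e, he, t, ht, het⟩ := Set.mem_mul.mp hsD
    have htR : t ∈ (R : Subgroup X) := by
      obtain ⟨k, rfl⟩ := ht
      exact (R : Subgroup X).zpow_mem hyR k
    have heR : e ∈ (R : Subgroup X) := by
      have : e = s * t⁻¹ := by rw [← het]; group
      rw [this]
      exact (R : Subgroup X).mul_mem hs ((R : Subgroup X).inv_mem htR)
    have he1 := hdisj e he heR
    rw [he1, one_mul] at het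
    rw [← het]
    exact ht
  refine ⟨⟨⟨y, hyR⟩, ?_⟩⟩
  rintro ⟨s, hs⟩
  obtain ⟨k, hk⟩ := hRz s hs
  refine ⟨k, Subtype.ext ?_⟩
  simpa using hk

/-- Part II: centralizers of elements of prime order are abelian. -/
theorem centralizer_comm_of_prime {G : Type*} [Group G] [Finite G] [IsSimpleGroup G]
    (hna : ¬ IsMulCommutative G) (hP : Pr G) {x : G} {r : ℕ} [hr : Fact r.Prime]
    (hx : orderOf x = r) : IsMulCommutative (Subgroup.centralizer ({x} : Set G)) := by
  classical
  by_contra hK
  set K := Subgroup.centralizer ({x} : Set G) with hKdef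
  have hx1 : x ≠ 1 := by
    rintro rfl
    rw [orderOf_one] at hx
    exact hr.out.one_lt.ne hx
  have hxp : IsPGroup r (Subgroup.zpowers x) := by
    rintro ⟨_, k, rfl⟩
    refine ⟨1, Subtype.ext ?_⟩
    simp only [pow_one, SubgroupClass.coe_pow, OneMemClass.coe_one]
    show (x ^ k) ^ r = 1
    rw [← zpow_natCast, ← zpow_mul, mul_comm, zpow_mul, zpow_natCast, ← hx, pow_orderOf_eq_one,
      one_zpow]
  obtain ⟨S, hS⟩ := hxp.exists_le_sylow
  have hxS : x ∈ (S : Subgroup G) := hS (Subgroup.mem_zpowers x)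
  have hSab := sylow_abelian hna hP S
  have hmemK : ∀ u : G, u ∈ K ↔ u * x = x * u := by
    intro u
    rw [hKdef, Subgroup.mem_centralizer_singleton_iff]
  have hSK : (S : Subgroup G) ≤ K := by
    intro u hu
    rw [hmemK]
    exact comm_elim hSab hu hxS
  have hxK : x ∈ K := by rw [hmemK]
  let R : Sylow r K := S.subtype hSK
  have hRmem : ∀ u : K, u ∈ (R : Subgroup K) ↔ (u : G) ∈ (S : Subgroup G) := by
    intro u
    rw [Sylow.coe_subtype]
    exact Subgroup.mem_subgroupOf
  have hRab : IsMulCommutative (R : Subgroup K) := by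
    refine comm_of _ ?_
    intro a ha b hb
    apply Subtype.ext
    exact comm_elim hSab ((hRmem a).mp ha) ((hRmem b).mp hb)
  have hxc : (⟨x, hxK⟩ : K) ∈ Subgroup.center K := by
    rw [Subgroup.mem_center_iff]
    intro u
    apply Subtype.ext
    exact (hmemK u).mp u.2
  obtain ⟨hcyc, hNC⟩ := cyc_of_central (hP.subgroup K) R hRab (x := ⟨x, hxK⟩)
    ((hRmem _).mpr hxS) hxc (fun h => hx1 (congrArg Subtype.val h)) hK
  have hSN : Subgroup.normalizer ((S : Subgroup G) : Set G) ≤
      Subgroup.centralizer ((S : Subgroup G) : Set G) := by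
    intro g hg
    have hgx : g * x * g⁻¹ ∈ (S : Subgroup G) := (mem_norm_iff.mp hg x).mp hxS
    have hgxK : g * x * g⁻¹ ∈ K := hSK hgx
    have hord : orderOf (g * x * g⁻¹) = orderOf x :=
      orderOf_injective (MulAut.conj g).toMonoidHom (MulAut.conj g).injective x
    -- within the cyclic group
    let a : (R : Subgroup K) := ⟨⟨x, hxK⟩, (hRmem _).mpr hxS⟩
    let b : (R : Subgroup K) := ⟨⟨g * x * g⁻¹, hgxK⟩, (hRmem _).mpr hgx⟩
    have hoa : orderOf a = orderOf x := by
      rw [Subgroup.orderOf_mk, Subgroup.orderOf_mk]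
    have hob : orderOf b = orderOf (g * x * g⁻¹) := by
      rw [Subgroup.orderOf_mk, Subgroup.orderOf_mk]
    have hxin : a ∈ Subgroup.zpowers b := mem_zpowers_of_orderOf_eq (by rw [hoa, hob, hord])
    obtain ⟨l, hl⟩ := hxin
    have hl' : (g * x * g⁻¹) ^ l = x := by
      have := congrArg (fun z : (R : Subgroup K) => ((z : K) : G)) hl
      simpa [a, b] using this
    -- `g` normalizes `K`
    have hgNK : g ∈ Subgroup.normalizer (K : Set G) := by
      apply mem_norm_of_finite
      intro u hu
      rw [hmemK] at hu ⊢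
      have h1 : (g * u * g⁻¹) * (g * x * g⁻¹) = (g * x * g⁻¹) * (g * u * g⁻¹) := by
        calc (g * u * g⁻¹) * (g * x * g⁻¹) = g * (u * x) * g⁻¹ := by group
          _ = g * (x * u) * g⁻¹ := by rw [hu]
          _ = _ := by group
      have h2 : Commute (g * u * g⁻¹) (g * x * g⁻¹) := h1
      have h3 := h2.zpow_right l
      rw [hl'] at h3
      exact h3
    have hgK : g ∈ K := hP.mem hK hgNK
    have hkN : (⟨g, hgK⟩ : K) ∈ Subgroup.normalizer ((R : Subgroup K) : Set K) := by
      apply mem_norm_of_finite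
      intro u hu
      rw [hRmem] at hu ⊢
      exact (mem_norm_iff.mp hg u).mp hu
    have hkC := hNC hkN
    rw [Subgroup.mem_centralizer_iff] at hkC ⊢
    intro s hs
    have hsK : s ∈ K := hSK hs
    have := hkC ⟨s, hsK⟩ ((hRmem _).mpr hs)
    exact congrArg Subtype.val this
  obtain ⟨E, hEn, hEc⟩ := burnside S hSN
  rcases hEn.eq_bot_or_eq_top with hbot | htop
  · have hSt : (S : Subgroup G) = ⊤ := by
      have := hEc.sup_eq_top
      rwa [hbot, bot_sup_eq] at this
    apply hna
    refine ⟨⟨fun a b => ?_⟩⟩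
    exact comm_elim hSab (by rw [hSt]; trivial) (by rw [hSt]; trivial)
  · have hdis := hEc.disjoint
    rw [htop] at hdis
    have := top_disjoint.mp hdis
    rw [this, Subgroup.mem_bot] at hxS
    exact hx1 hxS

/-- All centralizers of non-identity elements are abelian. -/
theorem centralizer_comm {G : Type*} [Group G] [Finite G] [IsSimpleGroup G]
    (hna : ¬ IsMulCommutative G) (hP : Pr G) {g : G} (hg : g ≠ 1) :
    IsMulCommutative (Subgroup.centralizer ({g} : Set G)) := by
  have hne : orderOf g ≠ 1 := by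
    intro h
    exact hg (orderOf_eq_one_iff.mp h)
  obtain ⟨p, hp, hpd⟩ := Nat.exists_prime_and_dvd hne
  haveI : Fact p.Prime := ⟨hp⟩
  have hord : orderOf (g ^ (orderOf g / p)) = p := orderOf_pow_orderOf_div (orderOf_pos g).ne' hpd
  have h := centralizer_comm_of_prime hna hP hord
  refine comm_of _ ?_
  intro a ha b hb
  have hle : Subgroup.centralizer ({g} : Set G) ≤
      Subgroup.centralizer ({g ^ (orderOf g / p)} : Set G) := by
    intro u hu
    rw [Subgroup.mem_centralizer_singleton_iff] at hu ⊢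
    have : Commute u g := hu
    exact (this.pow_right _).eq
  exact comm_elim h (hle ha) (hle hb)

end Cfsg.Agent.Lib.SelfNormB
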