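import Mathlib
import Cfsg.Agent.Lib.SelfNormB

/-!
# An abstract criterion for every non-abelian subgroup to be self-normalizing
-/

set_option autoImplicit false
set_option linter.unusedSectionVars false
set_option linter.unusedVariables false

namespace Cfsg.Agent.Lib.SelfNormC

open Cfsg.Agent.Lib.SelfNormA Cfsg.Agent.Lib.SelfNormB Cfsg.Agent.Lib.FrobNPC
open scoped Pointwise

/-- The properties of `SL₂(2ⁿ)`, `2ⁿ - 1` prime, used below. -/
structure SLP (G : Type*) [Group G] : Prop where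
  comm : ∀ g u v : G, g ≠ 1 → u * g = g * u → v * g = g * v → u * v = v * u
  invol : ∀ t u : G, t ^ 2 = 1 → t ≠ 1 → u * t = t * u → u ^ 2 = 1
  odd : ∀ m h : G, m ≠ 1 → Odd (orderOf m) → (h * m * h⁻¹) * m = m * (h * m * h⁻¹) →
    h * m * h⁻¹ = m ∨ h * m * h⁻¹ = m⁻¹
  borel1 : ∀ t w : G, t ^ 2 = 1 → t ≠ 1 →
    w ∈ Subgroup.normalizer ((Subgroup.centralizer ({t} : Set G) : Subgroup G) : Set G) →
    w ∉ Subgroup.centralizer ({t} : Set G) →
    ∀ T : Subgroup G, T ≤ Subgroup.centralizer ({t} : Set G) → T ≠ ⊥ →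
      w ∈ Subgroup.normalizer (T : Set G) → T = Subgroup.centralizer ({t} : Set G)
  borel2 : ∀ t w : G, t ^ 2 = 1 → t ≠ 1 →
    w ∈ Subgroup.normalizer ((Subgroup.centralizer ({t} : Set G) : Subgroup G) : Set G) →
    w ∉ Subgroup.centralizer ({t} : Set G) →
    Subgroup.normalizer ((Subgroup.centralizer ({t} : Set G) : Subgroup G) : Set G) ≤
      Subgroup.centralizer ({t} : Set G) ⊔ Subgroup.zpowers w

variable {G : Type*} [Group G]

theorem SLP.comm_conj_eq (h : SLP G) {g : Type*} : True := trivial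

/-- An odd-order element normalizing an abelian subgroup centralizes it. -/
theorem SLP.centralizes (h : SLP G) {A : Subgroup G} (hA : IsMulCommutative A)
    (hoddA : ∀ a ∈ A, Odd (orderOf a)) {g : G} (hg : Odd (orderOf g))
    (hgA : ∀ a ∈ A, g * a * g⁻¹ ∈ A) {a : G} (ha : a ∈ A) : g * a = a * g := by
  by_cases ha1 : a = 1
  · rw [ha1]; group
  have hc : (g * a * g⁻¹) * a = a * (g * a * g⁻¹) := comm_elim hA (hgA a ha) ha
  have h2 : (g ^ 2) * a * (g ^ 2)⁻¹ = a := by
    rcases h.odd a g ha1 (hoddA a ha) hc with h1 | h1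
    · calc (g ^ 2) * a * (g ^ 2)⁻¹ = g * (g * a * g⁻¹) * g⁻¹ := by rw [pow_two]; group
        _ = a := by rw [h1, h1]
    · calc (g ^ 2) * a * (g ^ 2)⁻¹ = g * (g * a * g⁻¹) * g⁻¹ := by rw [pow_two]; group
        _ = g * a⁻¹ * g⁻¹ := by rw [h1]
        _ = (g * a * g⁻¹)⁻¹ := by group
        _ = a := by rw [h1, inv_inv]
  have hco : Nat.Coprime 2 (orderOf g) := (Nat.coprime_two_left).mpr hg
  obtain ⟨m, hm⟩ := exists_pow_eq_self_of_coprime hco
  have hcm : Commute (g ^ 2) a := by
    have : g ^ 2 * a = a * g ^ 2 := by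
      have h3 := h2
      rw [mul_inv_eq_iff_eq_mul] at h3
      exact h3
    exact this
  have := hcm.pow_left m
  rw [hm] at this
  exact this

/-- Odd-order subgroups are abelian. -/
theorem SLP.comm_of_odd [Finite G] (h : SLP G) (n : ℕ) :
    ∀ H : Subgroup G, Nat.card H = n → Odd n → IsMulCommutative H := by
  classical
  induction n using Nat.strong_induction_on with
  | _ n ih =>
  intro H hn hodd
  have hoddH : ∀ a ∈ H, Odd (orderOf a) := by
    intro a ha
    have h1 : orderOf (⟨a, ha⟩ : H) ∣ Nat.card H := orderOf_dvd_natCard _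
    rw [hn] at h1
    have h2 : orderOf (⟨a, ha⟩ : H) = orderOf a := Subgroup.orderOf_mk _ _
    rw [← h2]
    exact Odd.of_dvd_nat hodd h1
  -- a non-trivial abelian normal subgroup finishes the proof
  have hfin : ∀ A : Subgroup G, A ≤ H → A ≠ ⊥ → IsMulCommutative A →
      (∀ g ∈ H, ∀ a ∈ A, g * a * g⁻¹ ∈ A) → IsMulCommutative H := by
    intro A hAH hA hAab hAn
    obtain ⟨⟨z, hzA⟩, hz⟩ := Subgroup.ne_bot_iff_exists_ne_one.mp hA
    have hz1 : z ≠ 1 := fun hh => hz (Subtype.ext hh)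
    refine comm_of H ?_
    intro u hu v hv
    have h1 : u * z = z * u :=
      h.centralizes hAab (fun a ha => hoddH a (hAH ha)) (hoddH u hu) (hAn u hu) hzA
    have h2 : v * z = z * v :=
      h.centralizes hAab (fun a ha => hoddH a (hAH ha)) (hoddH v hv) (hAn v hv) hzA
    exact h.comm z u v hz1 h1 h2
  by_cases htriv : H = ⊥
  · rw [htriv]
    refine comm_of _ ?_
    intro a ha b hb
    rw [Subgroup.mem_bot] at ha hb
    rw [ha, hb]
  have hne1 : Nat.card H ≠ 1 := by
    intro hc
    exact htriv (Subgroup.card_eq_one.mp hc)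
  obtain ⟨p, hp, hpd⟩ := Nat.exists_prime_and_dvd hne1
  haveI : Fact p.Prime := ⟨hp⟩
  -- the Frobenius hypothesis
  have hF : FrobHyp p H := by
    intro Q hQ g hg hco
    rw [Subgroup.mem_centralizer_iff]
    intro u hu
    by_cases hQbot : Q = ⊥
    · subst hQbot
      have : u = 1 := by simpa using hu
      rw [this]; group
    let QG : Subgroup G := Q.map H.subtype
    have hQGmem : ∀ x : H, (x : G) ∈ QG ↔ x ∈ Q := by
      intro x
      constructor
      · rintro ⟨y, hy, hyx⟩
        have : y = x := Subtype.ext hyx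
        rwa [← this]
      · intro hx
        exact ⟨x, hx, rfl⟩
    have hQGab : IsMulCommutative QG := by
      haveI : Nontrivial Q := (Subgroup.nontrivial_iff_ne_bot _).mpr hQbot
      have hcen := hQ.center_nontrivial
      obtain ⟨z, hz⟩ := exists_ne (1 : Subgroup.center Q)
      have hz1 : ((z : Q) : H).1 ≠ 1 := by
        intro hh
        apply hz
        apply Subtype.ext
        apply Subtype.ext
        apply Subtype.ext
        exact hh
      refine comm_of _ ?_
      rintro _ ⟨a, ha, rfl⟩ _ ⟨b, hb, rfl⟩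
      have h1 := Subgroup.mem_center_iff.mp z.2 ⟨a, ha⟩
      have h2 := Subgroup.mem_center_iff.mp z.2 ⟨b, hb⟩
      have h1' : (a : G) * ((z : Q) : H).1 = ((z : Q) : H).1 * a :=
        congrArg (fun w : Q => ((w : H) : G)) h1
      have h2' : (b : G) * ((z : Q) : H).1 = ((z : Q) : H).1 * b :=
        congrArg (fun w : Q => ((w : H) : G)) h2
      exact h.comm _ _ _ hz1 h1' h2'
    have hgg : Odd (orderOf (g : G)) := by
      exact hoddH _ g.2
    have := h.centralizes hQGab (fun a ha => by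
      obtain ⟨x, _, rfl⟩ := ha
      exact hoddH _ x.2) hgg (a := (u : G)) (by
      intro a ha
      obtain ⟨x, hx, rfl⟩ := ha
      have h3 := (mem_norm_iff.mp hg x).mp hx
      exact (hQGmem _).mpr h3) ((hQGmem u).mpr hu)
    apply Subtype.ext
    exact this.symm
  obtain ⟨N, hNn, hNc, k, hk⟩ := exists_normal_complement hF
  let NG : Subgroup G := N.map H.subtype
  have hNGH : NG ≤ H := by
    rintro _ ⟨x, _, rfl⟩
    exact x.2
  have hcardNG : Nat.card NG = Nat.card N :=
    Nat.card_congr (Subgroup.equivMapOfInjective N H.subtype H.subtype_injective).symm.toEquiv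
  by_cases hNbot : N = ⊥
  · -- `H` is a `p`-group
    have hcard : Nat.card H = p ^ k := by
      rw [← hk, hNbot, Subgroup.index_bot]
    have hHp : IsPGroup p H := IsPGroup.of_card hcard
    haveI : Nontrivial H := (Subgroup.nontrivial_iff_ne_bot _).mpr htriv
    have hcen := hHp.center_nontrivial
    let A : Subgroup G := (Subgroup.center H).map H.subtype
    refine hfin A ?_ ?_ ?_ ?_
    · rintro _ ⟨x, _, rfl⟩
      exact x.2
    · intro hA
      obtain ⟨z, hz⟩ := exists_ne (1 : Subgroup.center H)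
      apply hz
      have : ((z : H) : G) ∈ A := ⟨z, z.2, rfl⟩
      rw [hA, Subgroup.mem_bot] at this
      apply Subtype.ext
      apply Subtype.ext
      exact this
    · refine comm_of _ ?_
      rintro _ ⟨a, ha, rfl⟩ _ ⟨b, hb, rfl⟩
      have := Subgroup.mem_center_iff.mp ha b
      exact (congrArg Subtype.val this).symm
    · rintro g hg _ ⟨a, ha, rfl⟩
      refine ⟨a, ha, ?_⟩
      have := Subgroup.mem_center_iff.mp ha ⟨g, hg⟩
      have h2 : g * (a : G) = a * g := congrArg Subtype.val this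
      simp only [Subgroup.coe_subtype]
      rw [h2]; group
  · -- `N` is abelian by induction
    have hkne : k ≠ 0 := by
      rintro rfl
      rw [pow_zero] at hk
      have hNt := Subgroup.index_eq_one.mp hk
      rw [hNt, Subgroup.card_top] at hNc
      exact (Nat.Prime.coprime_iff_not_dvd hp).mp hNc.symm hpd
    have hcardH : Nat.card H = Nat.card N * p ^ k := by
      rw [← hk, Subgroup.card_mul_index]
    have hNpos : 0 < Nat.card N := Nat.card_pos
    have hlt : Nat.card N < n := by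
      rw [← hn, hcardH]
      exact lt_mul_of_one_lt_right hNpos (Nat.one_lt_pow hkne hp.one_lt)
    have hoddN : Odd (Nat.card N) := by
      apply Odd.of_dvd_nat hodd
      rw [← hn, hcardH]
      exact Dvd.intro _ rfl
    have hNGab := ih _ hlt NG hcardNG hoddN
    refine hfin NG hNGH ?_ hNGab ?_
    · intro hb
      apply hNbot
      rw [eq_bot_iff]
      intro x hx
      have : (x : G) ∈ NG := ⟨x, hx, rfl⟩
      rw [hb, Subgroup.mem_bot] at this
      exact (Subgroup.mem_bot).mpr (Subtype.ext this)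
    · rintro g hg _ ⟨a, ha, rfl⟩
      exact ⟨⟨g, hg⟩ * a * ⟨g, hg⟩⁻¹, hNn.conj_mem a ha _, by simp⟩

theorem inv_of_fpf [Finite G] {R : Subgroup G} {s : G} (hs2 : s ^ 2 = 1)
    (hsR : ∀ x ∈ R, s * x * s⁻¹ ∈ R) (hfp : ∀ x ∈ R, x * s = s * x → x = 1) {x : G} (hx : x ∈ R) :
    s * x * s⁻¹ = x⁻¹ := by
  have hsinv : s⁻¹ = s := by
    rw [inv_eq_iff_mul_eq_one, ← pow_two, hs2]
  let f : R → R := fun r => ⟨(r : G)⁻¹ * (s * r * s⁻¹), R.mul_mem (R.inv_mem r.2) (hsR r r.2)⟩
  have hinj : Function.Injective f := by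
    intro a b hab
    have h1 : (a : G)⁻¹ * (s * a * s⁻¹) = (b : G)⁻¹ * (s * b * s⁻¹) := congrArg Subtype.val hab
    have h2 : ((b : G) * (a : G)⁻¹) * s = s * ((b : G) * (a : G)⁻¹) := by
      have h3 : (a : G)⁻¹ * s * a = (b : G)⁻¹ * s * b := by
        have h4 : (a : G)⁻¹ * (s * a * s⁻¹) * s = (b : G)⁻¹ * (s * b * s⁻¹) * s := by rw [h1]
        simpa [mul_assoc] using h4
      calc ((b : G) * (a : G)⁻¹) * s = (b : G) * ((a : G)⁻¹ * s * a) * (a : G)⁻¹ := by group
        _ = (b : G) * ((b : G)⁻¹ * s * b) * (a : G)⁻¹ := by rw [h3]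
        _ = s * ((b : G) * (a : G)⁻¹) := by group
    have h5 := hfp _ (R.mul_mem b.2 (R.inv_mem a.2)) h2
    apply Subtype.ext
    rw [mul_inv_eq_one] at h5
    exact h5.symm
  obtain ⟨r, hr⟩ := (Finite.injective_iff_surjective).mp hinj ⟨x, hx⟩
  have hrx : x = (r : G)⁻¹ * (s * r * s⁻¹) := (congrArg Subtype.val hr).symm
  rw [hrx, hsinv]
  have hss : s * s = 1 := by rw [← pow_two, hs2]
  calc s * ((r : G)⁻¹ * (s * r * s)) * s = s * (r : G)⁻¹ * s * r * (s * s) := by group
    _ = s * (r : G)⁻¹ * s * r := by rw [hss, mul_one]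
    _ = ((r : G)⁻¹ * (s * r * s))⁻¹ := by
      rw [mul_inv_rev, mul_inv_rev, mul_inv_rev, hsinv]
      group
      
/-- The abstract criterion. -/
theorem SLP.pr [Finite G] (h : SLP G) : Pr G := by
  classical
  intro H hH
  apply le_antisymm _ Subgroup.le_normalizer
  intro k hk
  have heven : ¬ Odd (Nat.card H) := fun ho => hH (h.comm_of_odd _ H rfl ho)
  have h2d : 2 ∣ Nat.card H := even_iff_two_dvd.mp (Nat.not_odd_iff_even.mp heven)
  haveI : Fact (Nat.Prime 2) := ⟨Nat.prime_two⟩
  obtain ⟨t₀, ht₀⟩ := exists_prime_orderOf_dvd_card' (G := H) 2 h2d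
  let t : G := t₀
  have htH : t ∈ H := t₀.2
  have ht2 : t ^ 2 = 1 := by
    have := pow_orderOf_eq_one t₀
    rw [ht₀] at this
    exact congrArg Subtype.val this
  have ht1 : t ≠ 1 := by
    intro h1
    have : t₀ = 1 := Subtype.ext h1
    rw [this, orderOf_one] at ht₀
    omega
  set U := Subgroup.centralizer ({t} : Set G) with hUdef
  have hU : ∀ u : G, u ∈ U ↔ u * t = t * u := by
    intro u
    rw [hUdef, Subgroup.mem_centralizer_singleton_iff]
  have htU : t ∈ U := (hU t).mpr rfl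
  have hcent : ∀ s ∈ U, s ≠ 1 → ∀ v, v * s = s * v ↔ v ∈ U := by
    intro s hs hs1 v
    rw [hU] at hs ⊢
    constructor
    · intro hv
      exact h.comm s v t hs1 hv hs.symm
    · intro hv
      exact h.comm t v s ht1 hv hs
  have hU2 : ∀ u ∈ U, u ^ 2 = 1 := fun u hu => h.invol t u ht2 ht1 ((hU u).mp hu)
  have hUab : IsMulCommutative U := by
    refine comm_of _ ?_
    intro a ha b hb
    exact h.comm t a b ht1 ((hU a).mp ha) ((hU b).mp hb)
  -- a Sylow subgroup of `H` through `t`
  have hQ : IsPGroup 2 (Subgroup.zpowers t₀) := by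
    rintro ⟨_, j, rfl⟩
    refine ⟨1, Subtype.ext ?_⟩
    simp only [pow_one, SubgroupClass.coe_pow, OneMemClass.coe_one]
    show (t₀ ^ j) ^ 2 = 1
    rw [← zpow_natCast, ← zpow_mul, mul_comm, zpow_mul, zpow_natCast, ← ht₀, pow_orderOf_eq_one,
      one_zpow]
  obtain ⟨S, hS⟩ := hQ.exists_le_sylow
  have ht₀S : t₀ ∈ (S : Subgroup H) := hS (Subgroup.mem_zpowers t₀)
  have hSU : ∀ s : H, s ∈ (S : Subgroup H) → (s : G) ∈ U := by
    have hnt : Nontrivial (S : Subgroup H) := by
      refine ⟨⟨t₀, ht₀S⟩, 1, ?_⟩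
      intro h1
      exact ht1 (congrArg (fun z : (S : Subgroup H) => ((z : H) : G)) h1)
    have hcen := S.isPGroup'.center_nontrivial
    obtain ⟨z, hz⟩ := exists_ne (1 : Subgroup.center (S : Subgroup H))
    have hz1 : (((z : (S : Subgroup H)) : H) : G) ≠ 1 := by
      intro hh
      apply hz
      apply Subtype.ext
      apply Subtype.ext
      apply Subtype.ext
      exact hh
    have hzcomm : ∀ s : (S : Subgroup H), ((s : H) : G) * (((z : (S : Subgroup H)) : H) : G) =
        (((z : (S : Subgroup H)) : H) : G) * ((s : H) : G) := by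
      intro s
      have := Subgroup.mem_center_iff.mp z.2 s
      exact congrArg (fun w : (S : Subgroup H) => ((w : H) : G)) this
    have hzU : (((z : (S : Subgroup H)) : H) : G) ∈ U := by
      rw [hU]
      exact (hzcomm ⟨t₀, ht₀S⟩).symm
    intro s hs
    exact (hcent _ hzU hz1 _).mp (hzcomm ⟨s, hs⟩)
  have hSmem : ∀ x : H, x ∈ (S : Subgroup H) ↔ (x : G) ∈ U := by
    intro x
    refine ⟨hSU x, ?_⟩
    intro hx
    have hp : IsPGroup 2 (U.subgroupOf H) := by
      rintro ⟨u, hu⟩
      refine ⟨1, Subtype.ext (Subtype.ext ?_)⟩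
      have := hU2 _ (Subgroup.mem_subgroupOf.mp hu)
      simpa using this
    have heq := S.is_maximal' hp (fun y hy => Subgroup.mem_subgroupOf.mpr (hSU y hy))
    rw [← heq]
    exact Subgroup.mem_subgroupOf.mpr hx
  let T : Subgroup G := H ⊓ U
  have hTmem : ∀ u : G, u ∈ T ↔ ∃ hu : u ∈ H, (⟨u, hu⟩ : H) ∈ (S : Subgroup H) := by
    intro u
    constructor
    · rintro ⟨h1, h2⟩
      exact ⟨h1, (hSmem _).mpr h2⟩
    · rintro ⟨h1, h2⟩
      exact ⟨h1, (hSmem _).mp h2⟩
  -- elements normalizing `T` normalize `U`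
  have hNB : ∀ n ∈ Subgroup.normalizer (T : Set G), n ∈ Subgroup.normalizer (U : Set G) := by
    intro n hn
    apply mem_norm_of_finite
    intro u hu
    have h1 : n * t * n⁻¹ ∈ T := (mem_norm_iff.mp hn t).mp ⟨htH, htU⟩
    have h2 : n * t * n⁻¹ ≠ 1 := by
      intro h3
      apply ht1
      have := congrArg (fun z => n⁻¹ * z * n) h3
      simpa [mul_assoc] using this
    rw [← hcent _ h1.2 h2]
    have h3 := (hU u).mp hu
    calc n * u * n⁻¹ * (n * t * n⁻¹) = n * (u * t) * n⁻¹ := by group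
      _ = n * (t * u) * n⁻¹ := by rw [h3]
      _ = _ := by group
  -- Frattini
  let φ : MulAut H :=
    { toFun := fun x => ⟨k * x * k⁻¹, (mem_norm_iff.mp hk x).mp x.2⟩
      invFun := fun x => ⟨k⁻¹ * x * k, by
        have := (mem_norm_iff.mp hk (k⁻¹ * x * k)).mpr (by
          have e : k * (k⁻¹ * x * k) * k⁻¹ = x := by group
          rw [e]; exact x.2)
        exact this⟩
      left_inv := by
        intro x
        apply Subtype.ext
        simp only
        group
      right_inv := by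
        intro x
        apply Subtype.ext
        simp only
        group
      map_mul' := by
        intro x y
        apply Subtype.ext
        simp only [Subgroup.coe_mul]
        group }
  obtain ⟨h₀, hh₀⟩ := MulAction.exists_smul_eq H S (φ • S)
  let n : G := (h₀ : G)⁻¹ * k
  have hnT : n ∈ Subgroup.normalizer (T : Set G) := by
    apply mem_norm_of_finite
    intro u hu
    obtain ⟨hu1, hu2⟩ := (hTmem u).mp hu
    have h1 : φ ⟨u, hu1⟩ ∈ ((φ • S : Sylow 2 H) : Subgroup H) := by
      rw [Sylow.pointwise_smul_def]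
      exact Subgroup.smul_mem_pointwise_smul _ _ _ hu2
    rw [← hh₀, Sylow.smul_def, Sylow.pointwise_smul_def] at h1
    obtain ⟨v, hv, hve⟩ := h1
    have hve' : h₀ * v * h₀⁻¹ = φ ⟨u, hu1⟩ := hve
    have hu3 : n * u * n⁻¹ = (v : G) := by
      have h5 : (h₀ : G) * v * (h₀ : G)⁻¹ = k * u * k⁻¹ := congrArg Subtype.val hve'
      show (h₀ : G)⁻¹ * k * u * ((h₀ : G)⁻¹ * k)⁻¹ = v
      calc (h₀ : G)⁻¹ * k * u * ((h₀ : G)⁻¹ * k)⁻¹ = (h₀ : G)⁻¹ * (k * u * k⁻¹) * h₀ := by group
        _ = (h₀ : G)⁻¹ * ((h₀ : G) * v * (h₀ : G)⁻¹) * h₀ := by rw [h5]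
        _ = v := by group
    rw [hu3]
    exact (hTmem _).mpr ⟨v.2, hv⟩
  have hkn : k = h₀ * n := by
    show k = h₀ * ((h₀ : G)⁻¹ * k)
    group
  have hnNH : n ∈ Subgroup.normalizer (H : Set G) :=
    Subgroup.mul_mem _ (Subgroup.inv_mem _ (Subgroup.le_normalizer h₀.2)) hk
  have hnB := hNB n hnT
  suffices hnH : n ∈ H by
    rw [hkn]
    exact H.mul_mem h₀.2 hnH
  by_cases hA : ∃ w ∈ H, w ∈ Subgroup.normalizer (U : Set G) ∧ w ∉ U
  · obtain ⟨w, hwH, hwN, hwU⟩ := hA
    have hwT : w ∈ Subgroup.normalizer (T : Set G) := by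
      apply mem_norm_of_finite
      rintro u ⟨hu1, hu2⟩
      exact ⟨H.mul_mem (H.mul_mem hwH hu1) (H.inv_mem hwH), (mem_norm_iff.mp hwN u).mp hu2⟩
    have hTne : T ≠ ⊥ := by
      intro hb
      have : t ∈ T := ⟨htH, htU⟩
      rw [hb, Subgroup.mem_bot] at this
      exact ht1 this
    have hTU := h.borel1 t w ht2 ht1 hwN hwU T inf_le_right hTne hwT
    have hUH : U ≤ H := by
      intro u hu
      have : u ∈ T := by
        rw [hTU]
        exact hu
      exact this.1
    have := h.borel2 t w ht2 ht1 hwN hwU hnB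
    have hle : U ⊔ Subgroup.zpowers w ≤ H :=
      sup_le hUH ((Subgroup.zpowers_le).mpr hwH)
    exact hle this
  · push Not at hA
    have hNC : Subgroup.normalizer ((S : Subgroup H) : Set H) ≤
        Subgroup.centralizer ((S : Subgroup H) : Set H) := by
      intro v hv
      have hv1 : (v : G) ∈ Subgroup.normalizer (T : Set G) := by
        apply mem_norm_of_finite
        intro u hu
        obtain ⟨hu1, hu2⟩ := (hTmem u).mp hu
        have := (mem_norm_iff.mp hv _).mp hu2
        exact (hTmem _).mpr ⟨H.mul_mem (H.mul_mem v.2 hu1) (H.inv_mem v.2), this⟩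
      have hv2 : (v : G) ∈ U := hA _ v.2 (hNB _ hv1)
      rw [Subgroup.mem_centralizer_iff]
      intro s hs
      apply Subtype.ext
      exact comm_elim hUab (hSU s hs) hv2
    let V := MonoidHom.transferSylow S hNC
    let E : Subgroup H := V.ker
    have hEn : E.Normal := MonoidHom.normal_ker V
    have hEc : E.IsComplement' (S : Subgroup H) := MonoidHom.ker_transferSylow_isComplement' S hNC
    -- odd order elements of `H` are in `E`
    have hEodd : ∀ x : H, Odd (orderOf x) → x ∈ E := by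
      intro x hx
      show V x = 1
      have h1 : (V x) ^ orderOf x = 1 := by rw [← map_pow, pow_orderOf_eq_one, map_one]
      have h2 : (V x) ^ 2 = 1 := by
        apply Subtype.ext
        apply Subtype.ext
        simpa using hU2 _ (hSU _ (V x).2)
      have h3 : orderOf (V x) ∣ orderOf x := orderOf_dvd_of_pow_eq_one h1
      have h4 : orderOf (V x) ∣ 2 := orderOf_dvd_of_pow_eq_one h2
      have hco : Nat.Coprime 2 (orderOf x) := (Nat.coprime_two_left).mpr hx
      have h5 : orderOf (V x) = 1 := Nat.Coprime.eq_one_of_dvd (hco.coprime_dvd_left h4) h3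
      exact orderOf_eq_one_iff.mp h5
    -- elements of `E` have odd order
    have hcardE : Odd (Nat.card E) := by
      have h1 := hEc.card_mul_card
      have h2 := (S : Subgroup H).card_mul_index
      have h3 : Nat.card E = (S : Subgroup H).index := by
        have hpos : 0 < Nat.card (S : Subgroup H) := Nat.card_pos
        apply Nat.eq_of_mul_eq_mul_right hpos
        rw [h1, mul_comm, h2]
      rw [h3]
      have h4 := S.card_coprime_index
      have h5 : 2 ∣ Nat.card (S : Subgroup H) := by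
        have h7 : orderOf (⟨t₀, ht₀S⟩ : (S : Subgroup H)) = 2 := by
          rw [Subgroup.orderOf_mk]; exact ht₀
        have h8 := orderOf_dvd_natCard (⟨t₀, ht₀S⟩ : (S : Subgroup H))
        rw [h7] at h8
        exact h8
      have h6 : Nat.Coprime 2 (S : Subgroup H).index := Nat.Coprime.coprime_dvd_left h5 h4
      exact (Nat.coprime_two_left).mp h6
    have hEord : ∀ x : H, x ∈ E → Odd (orderOf x) := by
      intro x hx
      have h1 : orderOf (⟨x, hx⟩ : E) ∣ Nat.card E := orderOf_dvd_natCard _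
      rw [Subgroup.orderOf_mk] at h1
      exact Odd.of_dvd_nat hcardE h1
    let R : Subgroup G := E.map H.subtype
    have hRmem : ∀ x : G, x ∈ R ↔ ∃ hx : x ∈ H, (⟨x, hx⟩ : H) ∈ E := by
      intro x
      constructor
      · rintro ⟨y, hy, rfl⟩
        exact ⟨y.2, hy⟩
      · rintro ⟨hx, hy⟩
        exact ⟨⟨x, hx⟩, hy, rfl⟩
    have hRodd : ∀ x ∈ R, Odd (orderOf x) := by
      intro x hx
      obtain ⟨hx1, hx2⟩ := (hRmem x).mp hx
      have := hEord _ hx2
      rwa [Subgroup.orderOf_mk] at this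
    have hsq : ∀ x ∈ R, x ∈ U → x = 1 := by
      intro x hx hxU
      have h1 := hU2 x hxU
      have h2 : orderOf x ∣ 2 := orderOf_dvd_of_pow_eq_one h1
      have h3 := hRodd x hx
      have hco : Nat.Coprime 2 (orderOf x) := (Nat.coprime_two_left).mpr h3
      have h5 : orderOf x = 1 := Nat.Coprime.eq_one_of_dvd hco.symm h2
      exact orderOf_eq_one_iff.mp h5
    have hRne : ∃ r ∈ R, r ≠ 1 := by
      by_contra hno
      push Not at hno
      apply hH
      have hEb : E = ⊥ := by
        rw [eq_bot_iff]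
        intro x hx
        have := hno _ ⟨x, hx, rfl⟩
        exact (Subgroup.mem_bot).mpr (Subtype.ext this)
      have hSt : (S : Subgroup H) = ⊤ := by
        have := hEc.sup_eq_top
        rwa [hEb, bot_sup_eq] at this
      refine comm_of H ?_
      intro a ha b hb
      exact comm_elim hUab (hSU ⟨a, ha⟩ (by rw [hSt]; trivial)) (hSU ⟨b, hb⟩ (by rw [hSt]; trivial))
    obtain ⟨r, hrR, hr1⟩ := hRne
    -- inversion
    have hinv : ∀ s ∈ U, s ≠ 1 → (∀ x ∈ R, s * x * s⁻¹ ∈ R) → ∀ x ∈ R, s * x * s⁻¹ = x⁻¹ := by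
      intro s hs hs1 hsR x hx
      refine inv_of_fpf (hU2 s hs) hsR ?_ hx
      intro y hy hys
      have : y ∈ U := (hcent s hs hs1 y).mp hys
      exact hsq y hy this
    have huniq : ∀ s₁ ∈ U, s₁ ≠ 1 → (∀ x ∈ R, s₁ * x * s₁⁻¹ ∈ R) →
        ∀ s₂ ∈ U, s₂ ≠ 1 → (∀ x ∈ R, s₂ * x * s₂⁻¹ ∈ R) → s₁ = s₂ := by
      intro s₁ hs₁ h1 hn1 s₂ hs₂ h2 hn2
      by_contra hne
      have hs : s₁ * s₂ ∈ U := U.mul_mem hs₁ hs₂
      have hs1 : s₁ * s₂ ≠ 1 := by
        intro hh
        apply hne
        have h3 : s₂ * s₂ = 1 := by rw [← pow_two]; exact hU2 s₂ hs₂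
        have h4 : s₂⁻¹ = s₂ := by rw [inv_eq_iff_mul_eq_one]; exact h3
        rw [mul_eq_one_iff_eq_inv] at hh
        rw [hh, h4]
      have hrc : r * (s₁ * s₂) = (s₁ * s₂) * r := by
        have h3 := hinv s₂ hs₂ h2 hn2 r hrR
        have h4 := hinv s₁ hs₁ h1 hn1 r⁻¹ (R.inv_mem hrR)
        have h5 : (s₁ * s₂) * r * (s₁ * s₂)⁻¹ = r := by
          calc (s₁ * s₂) * r * (s₁ * s₂)⁻¹ = s₁ * (s₂ * r * s₂⁻¹) * s₁⁻¹ := by group
            _ = s₁ * r⁻¹ * s₁⁻¹ := by rw [h3]
            _ = r := by rw [h4, inv_inv]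
        rw [mul_inv_eq_iff_eq_mul] at h5
        exact h5.symm
      have : r ∈ U := (hcent _ hs hs1 r).mp hrc
      exact hr1 (hsq r hrR this)
    have htR : ∀ x ∈ R, t * x * t⁻¹ ∈ R := by
      intro x hx
      obtain ⟨hx1, hx2⟩ := (hRmem x).mp hx
      exact (hRmem _).mpr ⟨H.mul_mem (H.mul_mem htH hx1) (H.inv_mem htH),
        hEn.conj_mem _ hx2 t₀⟩
    by_cases hnU : n ∈ U
    · by_cases hn1 : n = 1
      · rw [hn1]; exact H.one_mem
      have hnR : ∀ x ∈ R, n * x * n⁻¹ ∈ R := by
        intro x hx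
        obtain ⟨hx1, hx2⟩ := (hRmem x).mp hx
        have h1 : n * x * n⁻¹ ∈ H := (mem_norm_iff.mp hnNH x).mp hx1
        refine (hRmem _).mpr ⟨h1, hEodd _ ?_⟩
        rw [Subgroup.orderOf_mk]
        have h2 : orderOf (n * x * n⁻¹) = orderOf x :=
          orderOf_injective (MulAut.conj n).toMonoidHom (MulAut.conj n).injective x
        rw [h2]
        exact hRodd x hx
      rw [huniq n hnU hn1 hnR t htU ht1 htR]
      exact htH
    · exfalso
      apply hnU
      have h1 : n * t * n⁻¹ ∈ T := (mem_norm_iff.mp hnT t).mp ⟨htH, htU⟩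
      have h2 : n * t * n⁻¹ ≠ 1 := by
        intro h3
        apply ht1
        have := congrArg (fun z => n⁻¹ * z * n) h3
        simpa [mul_assoc] using this
      have h3 : ∀ x ∈ R, (n * t * n⁻¹) * x * (n * t * n⁻¹)⁻¹ ∈ R := by
        intro x hx
        obtain ⟨hx1, hx2⟩ := (hRmem x).mp hx
        exact (hRmem _).mpr ⟨H.mul_mem (H.mul_mem h1.1 hx1) (H.inv_mem h1.1),
          hEn.conj_mem _ hx2 ⟨_, h1.1⟩⟩
      have h4 := huniq _ h1.2 h2 h3 t htU ht1 htR
      rw [hU]
      rw [mul_inv_eq_iff_eq_mul] at h4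
      exact h4

end Cfsg.Agent.Lib.SelfNormC
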