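import Mathlib
import Cfsg.Agent.Lib.SelfNormC

/-!
# `SL₂(2ⁿ)` with `2ⁿ - 1` prime satisfies the abstract criterion
-/

set_option autoImplicit false
set_option linter.unusedSectionVars false
set_option linter.unusedVariables false

namespace Cfsg.Agent.Lib.SelfNormD

open Cfsg.Agent.Lib.SelfNormA Cfsg.Agent.Lib.SelfNormC

theorem comm_form {F : Type*} [Field F] (M A : Matrix (Fin 2) (Fin 2) F)
    (hns : ¬ (M 0 1 = 0 ∧ M 1 0 = 0 ∧ M 0 0 = M 1 1)) (h : A * M = M * A) :
    ∃ a b : F, A = a • M + b • (1 : Matrix (Fin 2) (Fin 2) F) := by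
  have e := fun i j => congrFun (congrFun h i) j
  have h00 := e 0 0
  have h01 := e 0 1
  have h10 := e 1 0
  have h11 := e 1 1
  simp only [Matrix.mul_apply, Fin.sum_univ_two] at h00 h01 h10 h11
  by_cases hq : M 0 1 = 0
  · by_cases hr : M 1 0 = 0
    · have hne : M 0 0 - M 1 1 ≠ 0 := by
        intro hh
        exact hns ⟨hq, hr, sub_eq_zero.mp hh⟩
      simp only [hq, hr, mul_zero, zero_mul, add_zero, zero_add] at h01 h10
      refine ⟨(A 0 0 - A 1 1) / (M 0 0 - M 1 1), A 0 0 - (A 0 0 - A 1 1) / (M 0 0 - M 1 1) * M 0 0, ?_⟩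
      ext i j
      fin_cases i <;> fin_cases j <;> simp [Matrix.add_apply, Matrix.smul_apply, Matrix.one_apply, hq, hr]
      · have : A 0 1 * (M 0 0 - M 1 1) = 0 := by linear_combination -h01
        exact (mul_eq_zero.mp this).resolve_right hne
      · have : A 1 0 * (M 0 0 - M 1 1) = 0 := by linear_combination h10
        exact (mul_eq_zero.mp this).resolve_right hne
      · field_simp
        ring
    · refine ⟨A 1 0 / M 1 0, A 0 0 - A 1 0 / M 1 0 * M 0 0, ?_⟩
      simp only [hq, mul_zero, zero_mul, add_zero, zero_add] at h00 h01 h10 h11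
      ext i j
      fin_cases i <;> fin_cases j <;> simp [Matrix.add_apply, Matrix.smul_apply, Matrix.one_apply, hq]
      · have : A 0 1 * M 1 0 = 0 := by linear_combination h00
        exact (mul_eq_zero.mp this).resolve_right hr
      · field_simp
      · field_simp
        linear_combination h10
  · refine ⟨A 0 1 / M 0 1, A 0 0 - A 0 1 / M 0 1 * M 0 0, ?_⟩
    ext i j
    fin_cases i <;> fin_cases j <;> simp [Matrix.add_apply, Matrix.smul_apply, Matrix.one_apply]
    · field_simp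
    · field_simp
      linear_combination -h00
    · field_simp
      linear_combination -h01

section

variable {F : Type*} [Field F] [CharP F 2]

local notation "SL2" => Matrix.SpecialLinearGroup (Fin 2) F

theorem two0 : (2 : F) = 0 := CharTwo.two_eq_zero

theorem sq_one {x : F} (hx : x ^ 2 = 1) : x = 1 := by
  have h2 : (2 : F) = 0 := two0
  have h3 : (x + 1) ^ 2 = 0 := by linear_combination hx + x * h2 + h2
  have h4 : x + 1 = 0 := by simpa using h3
  linear_combination h4 - h2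

theorem det_eq (g : SL2) : g.1 0 0 * g.1 1 1 - g.1 0 1 * g.1 1 0 = 1 := by
  have := g.2
  rwa [Matrix.det_fin_two] at this

theorem nonscalar {g : SL2} (hg : g ≠ 1) : ¬ (g.1 0 1 = 0 ∧ g.1 1 0 = 0 ∧ g.1 0 0 = g.1 1 1) := by
  rintro ⟨h1, h2, h3⟩
  have hd := det_eq g
  rw [h1, h2, ← h3] at hd
  have h4 : g.1 0 0 = 1 := sq_one (by linear_combination hd)
  apply hg
  apply Subtype.ext
  ext i j
  fin_cases i <;> fin_cases j <;> simp [h1, h2, h4, ← h3]

theorem ext_of_eq {g h : SL2} (e : (g : Matrix (Fin 2) (Fin 2) F) = h) : g = h := Subtype.ext e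

theorem slp_comm (g u v : SL2) (hg : g ≠ 1) (hu : u * g = g * u) (hv : v * g = g * v) :
    u * v = v * u := by
  have hu' : u.1 * g.1 = g.1 * u.1 := congrArg Subtype.val hu
  have hv' : v.1 * g.1 = g.1 * v.1 := congrArg Subtype.val hv
  obtain ⟨a, b, hab⟩ := comm_form _ _ (nonscalar hg) hu'
  obtain ⟨c, d, hcd⟩ := comm_form _ _ (nonscalar hg) hv'
  apply Subtype.ext
  show u.1 * v.1 = v.1 * u.1
  rw [hab, hcd]
  simp only [add_mul, mul_add, smul_mul_assoc, mul_smul_comm, mul_one, one_mul, smul_add, smul_smul]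
  rw [mul_comm a c, mul_comm b c, mul_comm a d, mul_comm b d]
  abel

/-- The square-zero matrix attached to an involution. -/
def NN (t : SL2) : Matrix (Fin 2) (Fin 2) F := t.1 + 1

theorem NN_sq {t : SL2} (ht : t ^ 2 = 1) : NN t * NN t = 0 := by
  have h1 : t.1 * t.1 = 1 := by
    have := congrArg Subtype.val ht
    rw [pow_two] at this
    exact this
  unfold NN
  rw [add_mul, mul_add, mul_add, h1, mul_one, one_mul, mul_one]
  have h2 : ∀ A : Matrix (Fin 2) (Fin 2) F, A + A = 0 := by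
    intro A
    ext i j
    simp [CharTwo.add_self_eq_zero]
  calc (1 : Matrix (Fin 2) (Fin 2) F) + t.1 + (t.1 + 1) = (t.1 + t.1) + (1 + 1) := by abel
    _ = 0 := by rw [h2, h2, add_zero]

theorem trace_zero {t : SL2} (ht : t ^ 2 = 1) : t.1 0 0 + t.1 1 1 = 0 := by
  have h1 : t.1 * t.1 = 1 := by
    have := congrArg Subtype.val ht
    rw [pow_two] at this
    exact this
  have e := fun i j => congrFun (congrFun h1 i) j
  have h00 := e 0 0
  have h01 := e 0 1
  have h10 := e 1 0
  have h11 := e 1 1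
  simp [Matrix.mul_apply, Fin.sum_univ_two] at h00 h01 h10 h11
  by_contra hne
  have hq : t.1 0 1 = 0 := by
    have : t.1 0 1 * (t.1 0 0 + t.1 1 1) = 0 := by linear_combination h01
    exact (mul_eq_zero.mp this).resolve_right hne
  have hr : t.1 1 0 = 0 := by
    have : t.1 1 0 * (t.1 0 0 + t.1 1 1) = 0 := by linear_combination h10
    exact (mul_eq_zero.mp this).resolve_right hne
  rw [hq, hr] at h00 h11
  have h3 : t.1 0 0 = 1 := sq_one (by linear_combination h00)
  have h4 : t.1 1 1 = 1 := sq_one (by linear_combination h11)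
  apply hne
  rw [h3, h4]
  exact (two0 (F := F) ▸ (one_add_one_eq_two (R := F)))

/-- The centralizer of an involution. -/
theorem param {t u : SL2} (ht : t ^ 2 = 1) (ht1 : t ≠ 1) (hu : u * t = t * u) :
    ∃ a : F, u.1 = 1 + a • NN t := by
  have hu' : u.1 * t.1 = t.1 * u.1 := congrArg Subtype.val hu
  obtain ⟨a, b, hab⟩ := comm_form _ _ (nonscalar ht1) hu'
  have htr := trace_zero ht
  have hdt := det_eq t
  have hdu := det_eq u
  have h2 : (2 : F) = 0 := two0
  rw [hab] at hdu
  simp [Matrix.add_apply, Matrix.smul_apply, Matrix.one_apply] at hdu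
  have h3 : (a + b) ^ 2 = 1 := by
    linear_combination hdu - a ^ 2 * hdt - a * b * htr + a * b * h2
  have h4 : a + b = 1 := sq_one h3
  refine ⟨a, ?_⟩
  rw [hab]
  unfold NN
  have hb : b = 1 + a := by linear_combination h4 - a * h2
  rw [hb, add_smul, one_smul, smul_add]
  abel

theorem slp_invol (t u : SL2) (ht : t ^ 2 = 1) (ht1 : t ≠ 1) (hu : u * t = t * u) : u ^ 2 = 1 := by
  obtain ⟨a, ha⟩ := param ht ht1 hu
  apply Subtype.ext
  have hN := NN_sq ht
  show (u ^ 2).1 = 1
  rw [pow_two]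
  show u.1 * u.1 = 1
  rw [ha, add_mul, mul_add, mul_add, one_mul, mul_one, one_mul, smul_mul_assoc, mul_smul_comm,
    smul_smul, hN, smul_zero, add_zero]
  have h2 : ∀ A : Matrix (Fin 2) (Fin 2) F, A + A = 0 := by
    intro A
    ext i j
    simp [CharTwo.add_self_eq_zero]
  rw [add_assoc, h2, add_zero]

theorem slp_odd (m h : SL2) (hm : m ≠ 1) (ho : Odd (orderOf m))
    (hc : (h * m * h⁻¹) * m = m * (h * m * h⁻¹)) : h * m * h⁻¹ = m ∨ h * m * h⁻¹ = m⁻¹ := by
  have h2 : (2 : F) = 0 := two0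
  set m' := h * m * h⁻¹ with hm'
  have hc' : m'.1 * m.1 = m.1 * m'.1 := congrArg Subtype.val hc
  obtain ⟨a, b, hab⟩ := comm_form _ _ (nonscalar hm) hc'
  have hdm := det_eq m
  have hdm' := det_eq m'
  set τ := m.1 0 0 + m.1 1 1 with hτ
  -- Cayley-Hamilton
  have hCH : m.1 * m.1 = τ • m.1 + 1 := by
    ext i j
    fin_cases i <;> fin_cases j <;>
      simp [Matrix.mul_apply, Fin.sum_univ_two, Matrix.add_apply, Matrix.smul_apply, Matrix.one_apply, hτ]
    · linear_combination -hdm - h2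
    · ring
    · ring
    · linear_combination -hdm - h2
  have hτ0 : τ ≠ 0 := by
    intro h0
    rw [h0, zero_smul, zero_add] at hCH
    have h1 : m ^ 2 = 1 := by
      apply Subtype.ext
      rw [pow_two]
      exact hCH
    have h3 : orderOf m ∣ 2 := orderOf_dvd_of_pow_eq_one h1
    have hco : Nat.Coprime 2 (orderOf m) := (Nat.coprime_two_left).mpr ho
    have h5 : orderOf m = 1 := Nat.Coprime.eq_one_of_dvd hco.symm h3
    exact hm (orderOf_eq_one_iff.mp h5)
  -- traces
  have htr : m'.1 0 0 + m'.1 1 1 = τ := by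
    have h5 : Matrix.trace m'.1 = Matrix.trace m.1 := by
      have e1 : m'.1 = h.1 * (m.1 * (h⁻¹).1) := by
        rw [hm', mul_assoc]
        rfl
      rw [e1, Matrix.trace_mul_comm, Matrix.mul_assoc, Matrix.trace_mul_comm]
      have e2 : (h⁻¹).1 * h.1 = 1 := congrArg Subtype.val (inv_mul_cancel h)
      rw [e2, Matrix.one_mul]
    rw [Matrix.trace_fin_two, Matrix.trace_fin_two] at h5
    exact h5
  rw [hab] at htr hdm'
  simp [Matrix.add_apply, Matrix.smul_apply, Matrix.one_apply] at htr hdm'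
  have ha : a = 1 := by
    have : (a - 1) * τ = 0 := by
      rw [hτ]
      linear_combination htr - b * h2
    exact sub_eq_zero.mp ((mul_eq_zero.mp this).resolve_right hτ0)
  subst ha
  simp only [one_mul] at hdm'
  have hb : b * (b + τ) = 0 := by
    rw [hτ]
    linear_combination hdm' - hdm
  rcases mul_eq_zero.mp hb with h0 | h0
  · left
    apply Subtype.ext
    rw [hab, h0]
    simp
  · right
    have hbτ : b = τ := by linear_combination h0 - τ * h2
    apply eq_inv_of_mul_eq_one_left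
    apply Subtype.ext
    show m'.1 * m.1 = 1
    rw [hab, hbτ, add_mul, one_smul, smul_mul_assoc, one_mul, hCH]
    have h7 : ∀ A : Matrix (Fin 2) (Fin 2) F, A + A = 0 := by
      intro A
      ext i j
      simp [CharTwo.add_self_eq_zero]
    calc τ • m.1 + 1 + τ • m.1 = (τ • m.1 + τ • m.1) + 1 := by abel
      _ = 1 := by rw [h7, zero_add]

theorem add_self_mat (A : Matrix (Fin 2) (Fin 2) F) : A + A = 0 := by
  ext i j
  simp [CharTwo.add_self_eq_zero]

theorem mem_cent {t u : SL2} : u ∈ Subgroup.centralizer ({t} : Set SL2) ↔ u * t = t * u :=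
  Subgroup.mem_centralizer_singleton_iff

theorem inv_mul_coe (w : SL2) : (w⁻¹).1 * w.1 = 1 := congrArg Subtype.val (inv_mul_cancel w)

theorem mul_inv_coe (w : SL2) : w.1 * (w⁻¹).1 = 1 := congrArg Subtype.val (mul_inv_cancel w)

/-- commuting with `t` is the same as commuting with `NN t`. -/
theorem comm_NN {t v : SL2} (h : v.1 * NN t = NN t * v.1) : v * t = t * v := by
  apply Subtype.ext
  show v.1 * t.1 = t.1 * v.1
  unfold NN at h
  rw [mul_add, add_mul, mul_one, one_mul] at h
  exact add_right_cancel h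

theorem exists_act {t w : SL2} (ht : t ^ 2 = 1) (ht1 : t ≠ 1)
    (hw : w ∈ Subgroup.normalizer ((Subgroup.centralizer ({t} : Set SL2) : Subgroup SL2) : Set SL2)) :
    ∃ c : F, c ≠ 0 ∧ w.1 * NN t = c • (NN t * w.1) := by
  have h1 : w * t * w⁻¹ ∈ Subgroup.centralizer ({t} : Set SL2) :=
    (mem_norm_iff.mp hw t).mp (mem_cent.mpr rfl)
  obtain ⟨c, hc⟩ := param ht ht1 (mem_cent.mp h1)
  refine ⟨c, ?_, ?_⟩
  · rintro rfl
    apply ht1
    have h2 : w * t * w⁻¹ = 1 := by
      apply Subtype.ext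
      rw [hc, zero_smul, add_zero]
      rfl
    have := congrArg (fun z => w⁻¹ * z * w) h2
    simpa [mul_assoc] using this
  · have h3 : (w * t * w⁻¹) * w = w * t := by group
    have h4 : (w * t * w⁻¹).1 * w.1 = w.1 * t.1 := congrArg Subtype.val h3
    rw [hc, add_mul, one_mul, smul_mul_assoc] at h4
    unfold NN at *
    rw [mul_add, mul_one, ← h4]
    calc w.1 + c • ((t.1 + 1) * w.1) + w.1 = (w.1 + w.1) + c • ((t.1 + 1) * w.1) := by abel
      _ = _ := by rw [add_self_mat, zero_add]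

theorem act_conj {t w u : SL2} {c a : F} (hw : w.1 * NN t = c • (NN t * w.1))
    (hu : u.1 = 1 + a • NN t) : (w * u * w⁻¹).1 = 1 + (a * c) • NN t := by
  have h3 : (w * u * w⁻¹) * w = w * u := by group
  have h4 : (w * u * w⁻¹).1 * w.1 = w.1 * u.1 := congrArg Subtype.val h3
  rw [hu, mul_add, mul_one, mul_smul_comm, hw, smul_smul] at h4
  have h5 : (w * u * w⁻¹).1 * w.1 = (1 + (a * c) • NN t) * w.1 := by
    rw [h4, add_mul, one_mul, smul_mul_assoc]
  have h6 := congrArg (fun z => z * (w⁻¹).1) h5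
  simp only [Matrix.mul_assoc, mul_inv_coe, Matrix.mul_one] at h6
  exact h6

theorem act_pow {t w : SL2} {c : F} (hw : w.1 * NN t = c • (NN t * w.1)) (n : ℕ) :
    (w ^ n).1 * NN t = c ^ n • (NN t * (w ^ n).1) := by
  induction n with
  | zero =>
    simp
  | succ n ih =>
    have e : (w ^ (n + 1)).1 = (w ^ n).1 * w.1 := by
      rw [pow_succ]
      rfl
    rw [e, Matrix.mul_assoc, hw, Matrix.mul_smul, ← Matrix.mul_assoc, ih, smul_mul_assoc, smul_smul,
      Matrix.mul_assoc, pow_succ, mul_comm c]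

variable [Finite F]

theorem exists_pow_of_ne_one (hq : (Nat.card F - 1).Prime) {c f : F} (hc0 : c ≠ 0) (hc1 : c ≠ 1)
    (hf : f ≠ 0) : ∃ n : ℕ, f = c ^ n := by
  have hp : (Nat.card Fˣ).Prime := by
    rw [Nat.card_units]
    exact hq
  haveI : Fact (Nat.card Fˣ).Prime := ⟨hp⟩
  let c' : Fˣ := Units.mk0 c hc0
  have hc' : c' ≠ 1 := by
    intro h
    apply hc1
    have := congrArg Units.val h
    simpa [c'] using this
  have hz : Subgroup.zpowers c' = ⊤ := by
    rcases Subgroup.eq_bot_or_eq_top_of_prime_card (Subgroup.zpowers c') with h | h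
    · rw [Subgroup.zpowers_eq_bot] at h
      exact absurd h hc'
    · exact h
  have hmem : Units.mk0 f hf ∈ Subgroup.zpowers c' := by
    rw [hz]; trivial
  obtain ⟨n, hn⟩ := (mem_powers_iff_mem_zpowers).mpr hmem
  refine ⟨n, ?_⟩
  have := congrArg Units.val hn
  simpa [c'] using this.symm

theorem slp_borel1 (hq : (Nat.card F - 1).Prime) (t w : SL2) (ht : t ^ 2 = 1) (ht1 : t ≠ 1)
    (hwN : w ∈ Subgroup.normalizer ((Subgroup.centralizer ({t} : Set SL2) : Subgroup SL2) : Set SL2))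
    (hwU : w ∉ Subgroup.centralizer ({t} : Set SL2))
    (T : Subgroup SL2) (hTU : T ≤ Subgroup.centralizer ({t} : Set SL2)) (hTne : T ≠ ⊥)
    (hwT : w ∈ Subgroup.normalizer (T : Set SL2)) : T = Subgroup.centralizer ({t} : Set SL2) := by
  obtain ⟨c, hc0, hc⟩ := exists_act ht ht1 hwN
  have hc1 : c ≠ 1 := by
    rintro rfl
    apply hwU
    rw [mem_cent]
    apply comm_NN
    rw [hc, one_smul]
  obtain ⟨⟨u₀, hu₀T⟩, hu₀⟩ := Subgroup.ne_bot_iff_exists_ne_one.mp hTne
  have hu₀1 : u₀ ≠ 1 := fun h => hu₀ (Subtype.ext h)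
  obtain ⟨a₀, ha₀⟩ := param ht ht1 (mem_cent.mp (hTU hu₀T))
  have ha₀0 : a₀ ≠ 0 := by
    rintro rfl
    apply hu₀1
    apply Subtype.ext
    rw [ha₀, zero_smul, add_zero]
    rfl
  have hT : ∀ n : ℕ, ∃ u ∈ T, u.1 = 1 + (a₀ * c ^ n) • NN t := by
    intro n
    induction n with
    | zero => exact ⟨u₀, hu₀T, by simpa using ha₀⟩
    | succ n ih =>
      obtain ⟨u, huT, hu⟩ := ih
      refine ⟨w * u * w⁻¹, (mem_norm_iff.mp hwT u).mp huT, ?_⟩
      rw [act_conj hc hu, pow_succ, mul_assoc]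
  apply le_antisymm hTU
  intro v hv
  obtain ⟨b, hb⟩ := param ht ht1 (mem_cent.mp hv)
  by_cases hb0 : b = 0
  · have : v = 1 := by
      apply Subtype.ext
      rw [hb, hb0, zero_smul, add_zero]
      rfl
    rw [this]
    exact T.one_mem
  · obtain ⟨n, hn⟩ := exists_pow_of_ne_one hq hc0 hc1 (div_ne_zero hb0 ha₀0)
    obtain ⟨u, huT, hu⟩ := hT n
    have : v = u := by
      apply Subtype.ext
      rw [hb, hu, ← hn, mul_div_cancel₀ _ ha₀0]
    rw [this]
    exact huT

theorem slp_borel2 (hq : (Nat.card F - 1).Prime) (t w : SL2) (ht : t ^ 2 = 1) (ht1 : t ≠ 1)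
    (hwN : w ∈ Subgroup.normalizer ((Subgroup.centralizer ({t} : Set SL2) : Subgroup SL2) : Set SL2))
    (hwU : w ∉ Subgroup.centralizer ({t} : Set SL2)) :
    Subgroup.normalizer ((Subgroup.centralizer ({t} : Set SL2) : Subgroup SL2) : Set SL2) ≤
      Subgroup.centralizer ({t} : Set SL2) ⊔ Subgroup.zpowers w := by
  intro b hb
  obtain ⟨c, hc0, hc⟩ := exists_act ht ht1 hwN
  have hc1 : c ≠ 1 := by
    rintro rfl
    apply hwU
    rw [mem_cent]
    apply comm_NN
    rw [hc, one_smul]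
  obtain ⟨c₁, hc₁0, hc₁⟩ := exists_act ht ht1 hb
  obtain ⟨n, hn⟩ := exists_pow_of_ne_one hq hc0 hc1 hc₁0
  have hW := act_pow hc n
  rw [← hn] at hW
  set W := w ^ n with hWdef
  let v : SL2 := W⁻¹ * b
  have hvU : v ∈ Subgroup.centralizer ({t} : Set SL2) := by
    rw [mem_cent]
    apply comm_NN
    show ((W⁻¹).1 * b.1) * NN t = NN t * ((W⁻¹).1 * b.1)
    rw [Matrix.mul_assoc, hc₁, Matrix.mul_smul]
    have h1 : NN t * (W⁻¹).1 = c₁ • ((W⁻¹).1 * NN t) := by
      have h2 := congrArg (fun z => (W⁻¹).1 * z * (W⁻¹).1) hW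
      simp only [Matrix.mul_smul, Matrix.smul_mul, ← Matrix.mul_assoc, inv_mul_coe, Matrix.one_mul] at h2
      simp only [Matrix.mul_assoc, mul_inv_coe, Matrix.mul_one] at h2
      exact h2
    rw [← Matrix.mul_assoc (NN t), h1, smul_mul_assoc, Matrix.mul_assoc]
  have hb2 : b = W * v := by
    show b = W * (W⁻¹ * b)
    group
  rw [hb2]
  refine Subgroup.mul_mem _ (Subgroup.mem_sup_right ?_) (Subgroup.mem_sup_left hvU)
  rw [hWdef]
  exact Subgroup.pow_mem _ (Subgroup.mem_zpowers w) n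

theorem slp (hq : (Nat.card F - 1).Prime) : SLP SL2 where
  comm := slp_comm
  invol := slp_invol
  odd := slp_odd
  borel1 := slp_borel1 hq
  borel2 := slp_borel2 hq

end

end Cfsg.Agent.Lib.SelfNormD
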