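import Mathlib
import Cfsg.Agent.Lib.SelfCentA
import Cfsg.Agent.Lib.PSL2Cnt
import Cfsg.Agent.Lib.SL2TorusLike
import Cfsg.Agent.Lib.SL2Tori
import Cfsg.Agent.Lib.SelfNormB
import Cfsg.Agent.Lib.SelfNormD

/-!
# `PSL₂(q)`: non-cyclic subgroups containing their centralizers
-/

set_option autoImplicit false
set_option linter.unusedSectionVars false
set_option linter.unusedVariables false

namespace Cfsg.Agent.Lib.SelfCentC

open Subgroup
open Cfsg.Agent.Lib.SL2Core Cfsg.Agent.Lib.SelfCentA

/-! ### Arithmetic -/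

lemma odd_pow_minus (s : ℕ) (m : ℕ) :
    ∃ e : ℕ, (2 * s + 1) ^ (2 * m + 1) = 2 * s * (2 * e + 1) + 1 ∧ (1 ≤ m → 1 ≤ s → 1 ≤ e) := by
  induction m with
  | zero => exact ⟨0, by ring, by simp⟩
  | succ m ih =>
    obtain ⟨e, h1, -⟩ := ih
    refine ⟨(2 * s + 1) ^ 2 * e + 2 * s ^ 2 + 3 * s + 1, ?_, ?_⟩
    · have h2 : (2 * s + 1) ^ (2 * (m + 1) + 1) = (2 * s + 1) ^ 2 * (2 * s + 1) ^ (2 * m + 1) := by ring
      rw [h2, h1]
      ring
    · intro _ _
      omega

lemma odd_pow_plus (s : ℕ) (m : ℕ) :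
    ∃ e : ℕ, (2 * s + 1) ^ (2 * m + 1) + 1 = (2 * s + 2) * (2 * e + 1) ∧ (1 ≤ m → 1 ≤ s → 1 ≤ e) := by
  induction m with
  | zero => exact ⟨0, by ring, by simp⟩
  | succ m ih =>
    obtain ⟨e, h1, -⟩ := ih
    refine ⟨(2 * s + 1) ^ 2 * e + 2 * s ^ 2 + s, ?_, ?_⟩
    · have h2 : (2 * s + 1) ^ (2 * (m + 1) + 1) = (2 * s + 1) ^ 2 * (2 * s + 1) ^ (2 * m + 1) := by ring
      rw [h2]
      zify at h1 ⊢
      linear_combination ((2 * (s : ℤ) + 1) ^ 2) * h1
    · intro _ hs
      omega

lemma odd_dvd_two_pow {c k : ℕ} (hc : Odd c) (h : c ∣ 2 ^ k) : c = 1 :=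
  Nat.eq_one_of_dvd_coprimes (Nat.Coprime.pow_left k (Nat.coprime_two_left.mpr hc)) h dvd_rfl

/-- `p^f = 2^k + 1` with `p` odd forces `f = 1` or `p^f = 9`. -/
theorem arith_plus {p f k : ℕ} (hp : p.Prime) (hp2 : p ≠ 2) (hf : 0 < f) (h : p ^ f = 2 ^ k + 1) :
    f = 1 ∨ p ^ f = 9 := by
  obtain ⟨s, rfl⟩ : ∃ s, p = 2 * s + 1 := by
    obtain ⟨s, hs⟩ := hp.odd_of_ne_two hp2
    exact ⟨s, hs⟩
  have hs1 : 1 ≤ s := by
    have := hp.two_le
    omega
  rcases Nat.even_or_odd' f with ⟨g, rfl | rfl⟩
  · -- even exponent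
    right
    have hg : 0 < g := by omega
    set a := (2 * s + 1) ^ g with ha
    have ha1 : 3 ≤ a := by
      calc 3 ≤ 2 * s + 1 := by omega
        _ = (2 * s + 1) ^ 1 := (pow_one _).symm
        _ ≤ a := Nat.pow_le_pow_right (by omega) hg
    obtain ⟨t, ht⟩ : ∃ t, a = t + 1 := ⟨a - 1, by omega⟩
    have h1 : a ^ 2 = 2 ^ k + 1 := by rw [ha, ← pow_mul, mul_comm g 2]; exact h
    have h2 : t * (t + 2) = 2 ^ k := by
      rw [ht] at h1
      nlinarith
    have h3 : t ∣ 2 ^ k := ⟨_, h2.symm⟩
    have h4 : t + 2 ∣ 2 ^ k := ⟨t, by rw [← h2]; ring⟩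
    obtain ⟨i, -, hi⟩ := (Nat.dvd_prime_pow Nat.prime_two).mp h3
    obtain ⟨j, -, hj⟩ := (Nat.dvd_prime_pow Nat.prime_two).mp h4
    have ht2 : t = 2 := by
      have hi2 : i < j := by
        have : 2 ^ i < 2 ^ j := by omega
        exact (Nat.pow_lt_pow_iff_right (by norm_num)).mp this
      obtain ⟨j', rfl⟩ : ∃ j', j = j' + 1 := ⟨j - 1, by omega⟩
      rw [pow_succ] at hj
      match i, hi with
      | 0, hi =>
        simp at hi
        omega
      | 1, hi =>
        simpa using hi
      | i + 2, hi =>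
        exfalso
        match j', hj with
        | 0, hj =>
          rw [pow_succ, pow_succ] at hi
          have := Nat.one_le_two_pow (n := i)
          omega
        | j'' + 1, hj =>
          rw [pow_succ, pow_succ] at hi
          rw [pow_succ] at hj
          omega
    have ha3 : a = 3 := by omega
    rw [mul_comm 2 g, pow_mul, ← ha, ha3]; norm_num
  · -- odd exponent
    left
    obtain ⟨e, h1, h2⟩ := odd_pow_minus s g
    rw [h1] at h
    have h3 : 2 * s * (2 * e + 1) = 2 ^ k := by omega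
    have h4 : 2 * e + 1 = 1 := odd_dvd_two_pow ⟨e, rfl⟩ ⟨2 * s, by rw [← h3]; ring⟩
    have h5 : e = 0 := by omega
    by_contra hne
    have h6 : 1 ≤ g := by omega
    have := h2 h6 hs1
    omega

/-- `p^f + 1 = 2^k` with `p` odd forces `f = 1`. -/
theorem arith_minus {p f k : ℕ} (hp : p.Prime) (hp2 : p ≠ 2) (hf : 0 < f) (h : p ^ f + 1 = 2 ^ k) :
    f = 1 := by
  obtain ⟨s, rfl⟩ : ∃ s, p = 2 * s + 1 := by
    obtain ⟨s, hs⟩ := hp.odd_of_ne_two hp2
    exact ⟨s, hs⟩
  have hs1 : 1 ≤ s := by
    have := hp.two_le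
    omega
  rcases Nat.even_or_odd' f with ⟨g, rfl | rfl⟩
  · exfalso
    have hg : 0 < g := by omega
    set a := (2 * s + 1) ^ g with ha
    have ha1 : 3 ≤ a := by
      calc 3 ≤ 2 * s + 1 := by omega
        _ = (2 * s + 1) ^ 1 := (pow_one _).symm
        _ ≤ a := Nat.pow_le_pow_right (by omega) hg
    have hodd : a % 2 = 1 := by
      have : Odd a := Odd.pow ⟨s, rfl⟩
      exact Nat.odd_iff.mp this
    have h1 : a ^ 2 + 1 = 2 ^ k := by rw [ha, ← pow_mul, mul_comm g 2]; exact h
    obtain ⟨b, hb⟩ : ∃ b, a = 2 * b + 1 := ⟨a / 2, by omega⟩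
    have h2 : (a ^ 2 + 1) % 4 = 2 := by
      rw [hb]
      have : (2 * b + 1) ^ 2 + 1 = 4 * (b ^ 2 + b) + 2 := by ring
      rw [this]
      omega
    rw [h1] at h2
    match k, h1, h2 with
    | 0, h1, h2 => simp at h2
    | 1, h1, h2 => nlinarith
    | k + 2, h1, h2 =>
      rw [pow_succ, pow_succ] at h2
      omega
  · obtain ⟨e, h1, h2⟩ := odd_pow_plus s g
    rw [h1] at h
    have h4 : 2 * e + 1 = 1 := odd_dvd_two_pow ⟨e, rfl⟩ ⟨2 * s + 2, by rw [← h]; ring⟩
    have h5 : e = 0 := by omega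
    by_contra hne
    have h6 : 1 ≤ g := by omega
    have := h2 h6 hs1
    omega

/-! ### Forward direction -/

variable {F : Type*} [Field F] [Fintype F]

lemma sq_one_of_center {g : SL2 F} (h : g ∈ center (SL2 F)) : g * g = 1 := by
  rcases center_eq g h with rfl | rfl
  · simp
  · apply Subtype.ext
    show ((negS (1 : SL2 F) : SL2 F) : Matrix (Fin 2) (Fin 2) F) *
      ((negS (1 : SL2 F) : SL2 F) : Matrix (Fin 2) (Fin 2) F) = 1
    simp [negS_coe]

/-- If all involution centralizers of `PSL₂(F)`, `F` of odd order, are `2`-groups, then the order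
of `F` is `9` or a Fermat or Mersenne prime. -/
theorem card_of_two (hc : ringChar F ≠ 2)
    (hP : ∀ t : PSL2 F, orderOf t = 2 → IsPGroup 2 (centralizer ({t} : Set (PSL2 F)))) :
    Fintype.card F = 9 ∨ ((Fintype.card F).Prime ∧
      ∃ k : ℕ, Fintype.card F = 2 ^ k + 1 ∨ Fintype.card F = 2 ^ k - 1) := by
  haveI : Fact (Nat.Prime 2) := ⟨Nat.prime_two⟩
  set q := Fintype.card F with hq
  have hodd : q % 2 = 1 := FiniteField.odd_card_of_char_ne_two hc
  have hq1 : 1 < q := Fintype.one_lt_card
  -- an element of order `q ∓ 1`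
  obtain ⟨n, A, hA, hn4, hnq⟩ : ∃ (n : ℕ) (A : SL2 F), orderOf A = n ∧ 4 ∣ n ∧
      ((q = n + 1) ∨ (q + 1 = n)) := by
    by_cases h3 : q % 4 = 3
    · obtain ⟨A, hA, -⟩ := Cfsg.Agent.Lib.SL2Tori.exists_nonsplit (F := F) (d := q + 1) dvd_rfl
      exact ⟨q + 1, A, hA, by omega, Or.inr rfl⟩
    · obtain ⟨A, hA, -⟩ := Cfsg.Agent.Lib.SL2Tori.exists_split (F := F) (d := q - 1) dvd_rfl
      exact ⟨q - 1, A, hA, by omega, Or.inl (by omega)⟩
  have hn0 : 0 < n := by
    rw [← hA]
    exact orderOf_pos A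
  obtain ⟨n4, hn4'⟩ := hn4
  -- the element of order four
  set y := A ^ n4 with hy
  have hyo : orderOf y = 4 := by
    have h1 := orderOf_pow_orderOf_div (x := A) (n := 4) (orderOf_pos A).ne' ⟨n4, by rw [hA, hn4']⟩
    rwa [show orderOf A / 4 = n4 by rw [hA, hn4']; omega] at h1
  have hy4 : y * y * (y * y) = 1 := by
    have : y ^ 4 = 1 := by rw [← hyo]; exact pow_orderOf_eq_one y
    calc y * y * (y * y) = y ^ 4 := by simp only [pow_succ, pow_zero, one_mul, mul_assoc]
      _ = 1 := this
  have hyZ : y * y ∈ center (SL2 F) := Cfsg.Agent.Lib.SL2Nonsplit.sq_eq_one_iff hc hy4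
  have hyn : y ∉ center (SL2 F) := by
    intro h
    have h1 := sq_one_of_center h
    have h2 : orderOf y ∣ 2 := orderOf_dvd_of_pow_eq_one (by rw [pow_two, h1])
    rw [hyo] at h2
    omega
  have hto : orderOf (proj y) = 2 := by
    apply orderOf_eq_prime
    · rw [pow_two, ← map_mul]
      exact (proj_eq_one_iff _).mpr hyZ
    · intro h
      exact hyn ((proj_eq_one_iff _).mp h)
  have htwo := hP _ hto
  -- no odd prime divides `n`
  have hnpow : ∃ k, n = 2 ^ k := by
    rcases Nat.eq_two_pow_or_exists_odd_prime_and_dvd n with h | ⟨r, hr, hrn, hro⟩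
    · exact h
    · exfalso
      obtain ⟨m, hm⟩ := hrn
      have hr2 : r ≠ 2 := by
        rintro rfl
        rcases hro with ⟨a, ha⟩
        omega
      set u := A ^ m with hu
      have huo : orderOf u = r := by
        have h1 := orderOf_pow_orderOf_div (x := A) (n := r) (orderOf_pos A).ne' ⟨m, by rw [hA, hm]⟩
        rwa [show orderOf A / r = m by
          rw [hA, hm]
          exact Nat.mul_div_cancel_left _ hr.pos] at h1
      have hcomm : proj u * proj y = proj y * proj u := by
        rw [← map_mul, ← map_mul, hu, hy, ← pow_add, ← pow_add, add_comm]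
      have hmem : proj u ∈ centralizer ({proj y} : Set (PSL2 F)) :=
        mem_centralizer_singleton_iff.mpr hcomm
      obtain ⟨j, hj⟩ := htwo ⟨proj u, hmem⟩
      have h1 : proj (u ^ 2 ^ j) = 1 := by
        rw [map_pow]
        exact congrArg Subtype.val hj
      have h2 := (proj_eq_one_iff _).mp h1
      have h3 : (u ^ 2 ^ j) ^ 2 = 1 := by
        rw [pow_two]
        exact sq_one_of_center h2
      have h4 : r ∣ 2 ^ j * 2 := by
        rw [← huo]
        apply orderOf_dvd_of_pow_eq_one
        rw [pow_mul]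
        exact h3
      have h5 : r ∣ 2 ^ (j + 1) := by rwa [pow_succ]
      have h6 := hr.dvd_of_dvd_pow h5
      exact hr2 ((Nat.prime_dvd_prime_iff_eq hr Nat.prime_two).mp h6)
  obtain ⟨k, hk⟩ := hnpow
  -- the structure of `q`
  obtain ⟨p, hpchar⟩ := CharP.exists F
  obtain ⟨f, hpp, hqf⟩ := FiniteField.card F p
  have hp2 : p ≠ 2 := by
    rintro rfl
    apply hc
    exact ringChar.eq F 2
  have hf0 : 0 < (f : ℕ) := f.pos
  rcases hnq with h | h
  · -- `q = 2^k + 1`
    rw [hk] at h
    have hq' : p ^ (f : ℕ) = 2 ^ k + 1 := by rw [← hqf]; exact h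
    have hqf' : q = p ^ (f : ℕ) := hqf
    rcases arith_plus hpp hp2 hf0 hq' with h1 | h1
    · right
      refine ⟨by rw [hqf', h1, pow_one]; exact hpp, k, Or.inl h⟩
    · left
      rw [hqf', h1]
  · -- `q + 1 = 2^k`
    rw [hk] at h
    have hq' : p ^ (f : ℕ) + 1 = 2 ^ k := by rw [← hqf]; exact h
    have hqf' : q = p ^ (f : ℕ) := hqf
    have h1 := arith_minus hpp hp2 hf0 hq'
    right
    refine ⟨by rw [hqf', h1, pow_one]; exact hpp, k, Or.inr (by omega)⟩

/-! ### Reverse direction -/

lemma cyc_centralizer_odd (hc : ringChar F ≠ 2) (X : SL2 F) (hX : X ∉ center (SL2 F))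
    (ht : tr X * tr X ≠ 4) : IsCyclic (centralizer ({X} : Set (SL2 F))) := by
  by_cases hs : ∃ l : F, l * l - tr X * l + 1 = 0
  · obtain ⟨l, hl⟩ := hs
    have hl0 : l ≠ 0 := by
      rintro rfl
      simp at hl
    let w : Fˣ := Units.mk0 l hl0
    let d : SL2 F := Cfsg.Agent.Lib.SL2Torus.diagS w
    have h00 : (d : Matrix (Fin 2) (Fin 2) F) 0 0 = l := rfl
    have h11 : (d : Matrix (Fin 2) (Fin 2) F) 1 1 = l⁻¹ := by
      show ((w⁻¹ : Fˣ) : F) = l⁻¹
      simp [w]
    have h01 : (d : Matrix (Fin 2) (Fin 2) F) 0 1 = 0 := rfl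
    have h10 : (d : Matrix (Fin 2) (Fin 2) F) 1 0 = 0 := rfl
    have htr : tr X = tr d := by
      rw [tr_eq d, h00, h11]
      field_simp
      linear_combination -hl
    have hl2 : l ^ 2 ≠ 1 := by
      intro h
      apply ht
      linear_combination (tr X * l + 2) * (h - hl) - (tr X) ^ 2 * h
    have hdZ : d ∉ center (SL2 F) := by
      rw [Cfsg.Agent.Lib.SL2Torus.diagS_mem_center_iff]
      intro h
      apply hl2
      have := congrArg Units.val h
      simpa [w] using this
    obtain ⟨U, hU⟩ := exists_conj X d hX hdZ htr ht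
    have hcd : centralizer ({d} : Set (SL2 F)) = Cfsg.Agent.Lib.SL2Split.TT F :=
      Cfsg.Agent.Lib.SL2Split.centralizer_eq h01 h10 (by rw [h00]; exact hl2)
    have hcy : IsCyclic (centralizer ({d} : Set (SL2 F))) := by
      rw [hcd]
      exact Cfsg.Agent.Lib.SL2Sylow.isCyclic_TT
    let f : centralizer ({X} : Set (SL2 F)) →* centralizer ({d} : Set (SL2 F)) :=
      ((MulAut.conj U).toMonoidHom.comp (centralizer ({X} : Set (SL2 F))).subtype).codRestrict _
        (by
          intro g
          have hg := mem_centralizer_singleton_iff.mp g.2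
          rw [mem_centralizer_singleton_iff]
          show U * g.1 * U⁻¹ * d = d * (U * g.1 * U⁻¹)
          rw [← hU]
          calc U * g.1 * U⁻¹ * (U * X * U⁻¹) = U * (g.1 * X) * U⁻¹ := by group
            _ = U * (X * g.1) * U⁻¹ := by rw [hg]
            _ = _ := by group)
    have hf : Function.Injective f := by
      intro a b hab
      have h1 : U * a.1 * U⁻¹ = U * b.1 * U⁻¹ := congrArg Subtype.val hab
      apply Subtype.ext
      simpa using h1
    exact isCyclic_of_injective f hf
  · push Not at hs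
    exact (Cfsg.Agent.Lib.SL2Nonsplit.exists_torus_of_ns hc hs).cyc

lemma cyc_centralizer_small (h : Fintype.card F = 2 ∨ Fintype.card F = 4) (X : SL2 F)
    (hX : X ∉ center (SL2 F)) (ht : tr X * tr X ≠ 4) :
    IsCyclic (centralizer ({X} : Set (SL2 F))) := by
  haveI : Fact (Nat.Prime 3) := ⟨Nat.prime_three⟩
  haveI : Fact (Nat.Prime 5) := ⟨Nat.prime_five⟩
  have hone : Nat.card (centralizer ({X} : Set (SL2 F))) = 1 → IsCyclic (centralizer ({X} : Set (SL2 F))) := by
    intro h1
    obtain ⟨h2, -⟩ := Nat.card_eq_one_iff_unique.mp h1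
    exact isCyclic_of_subsingleton
  by_cases hs : ∃ l : F, l * l - tr X * l + 1 = 0
  · obtain ⟨l, hl⟩ := hs
    have h1 : Nat.card (centralizer ({X} : Set (SL2 F))) = Fintype.card F - 1 :=
      Cfsg.Agent.Lib.PSL2Cnt.card_TT_split X hX ht hl
    rcases h with h | h
    · exact hone (by rw [h1, h])
    · rw [h] at h1
      exact isCyclic_of_prime_card (p := 3) h1
  · push Not at hs
    have h1 : Nat.card (centralizer ({X} : Set (SL2 F))) = Fintype.card F + 1 :=
      Cfsg.Agent.Lib.PSL2Cnt.card_TT_nonsplit X hX ht hs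
    rcases h with h | h
    · rw [h] at h1
      exact isCyclic_of_prime_card (p := 3) h1
    · rw [h] at h1
      exact isCyclic_of_prime_card (p := 5) h1

lemma hU_of (h : (Fintype.card F).Prime ∨ Fintype.card F = 4 ∨ Fintype.card F = 9)
    (H' : Subgroup (Multiplicative F)) (hne : H' ≠ ⊤) : IsCyclic H' := by
  have hc : Nat.card (Multiplicative F) = Fintype.card F := by
    rw [Nat.card_congr Multiplicative.toAdd, Nat.card_eq_fintype_card]
  have hdvd : Nat.card H' ∣ Fintype.card F := by
    rw [← hc]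
    exact Subgroup.card_subgroup_dvd_card H'
  have hne' : Nat.card H' ≠ Fintype.card F := by
    intro he
    apply hne
    apply Subgroup.eq_top_of_card_eq
    rw [he, hc]
  have key : Nat.card H' = 1 ∨ (Nat.card H').Prime := by
    rcases h with h | h | h
    · rcases (Nat.dvd_prime h).mp hdvd with h1 | h1
      · exact Or.inl h1
      · exact absurd h1 hne'
    · rw [h] at hdvd hne'
      have h1 : Nat.card H' ≤ 4 := Nat.le_of_dvd (by norm_num) hdvd
      have h0 : 0 < Nat.card H' := Nat.card_pos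
      interval_cases hh : Nat.card H'
      · exact Or.inl rfl
      · exact Or.inr Nat.prime_two
      · omega
      · exact absurd rfl hne'
    · rw [h] at hdvd hne'
      have h1 : Nat.card H' ≤ 9 := Nat.le_of_dvd (by norm_num) hdvd
      have h0 : 0 < Nat.card H' := Nat.card_pos
      interval_cases hh : Nat.card H'
      · exact Or.inl rfl
      · omega
      · exact Or.inr Nat.prime_three
      · omega
      · omega
      · omega
      · omega
      · omega
      · exact absurd rfl hne'
  rcases key with h1 | h1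
  · obtain ⟨h2, -⟩ := Nat.card_eq_one_iff_unique.mp h1
    exact isCyclic_of_subsingleton
  · haveI : Fact (Nat.card H').Prime := ⟨h1⟩
    exact isCyclic_of_prime_card rfl

/-- The unipotent case. -/
lemma mem_of_unip (X : SL2 F) (hX : X ∉ center (SL2 F)) (htr : tr X = 2)
    (hU : ∀ H' : Subgroup (Multiplicative F), H' ≠ ⊤ → IsCyclic H')
    (H : Subgroup (PSL2 F)) (hH : ¬ IsCyclic H)
    (hcomm : ∀ Y : SL2 F, proj Y ∈ H → Y * X = X * Y) : proj X ∈ H := by
  set a := (X : Matrix (Fin 2) (Fin 2) F) 0 0 with ha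
  set b := (X : Matrix (Fin 2) (Fin 2) F) 0 1 with hb
  set c := (X : Matrix (Fin 2) (Fin 2) F) 1 0 with hc
  set d := (X : Matrix (Fin 2) (Fin 2) F) 1 1 with hd
  have hdet : a * d - b * c = 1 := det_entries X
  have hsum : a + d = 2 := by rw [← htr, tr_eq]
  let u : F → SL2 F := fun s => mk2 (1 + s * (a - 1)) (s * b) (s * c) (1 + s * (d - 1))
    (by linear_combination s * hsum + s ^ 2 * (hdet - hsum))
  have hu0 : u 0 = 1 := by
    apply Subtype.ext
    ext i j
    fin_cases i <;> fin_cases j <;> simp [u, mk2]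
  have hu1 : u 1 = X := by
    apply Subtype.ext
    ext i j
    fin_cases i <;> fin_cases j
    · show 1 + 1 * (a - 1) = a
      ring
    · show 1 * b = b
      ring
    · show 1 * c = c
      ring
    · show 1 + 1 * (d - 1) = d
      ring
  have humul : ∀ s t : F, u (s + t) = u s * u t := by
    intro s t
    apply Subtype.ext
    ext i j
    rw [Matrix.SpecialLinearGroup.coe_mul, mul2]
    fin_cases i <;> fin_cases j
    · show 1 + (s + t) * (a - 1) = (1 + s * (a - 1)) * (1 + t * (a - 1)) + (s * b) * (t * c)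
      linear_combination -(s * t) * (a * hsum - hdet)
    · show (s + t) * b = (1 + s * (a - 1)) * (t * b) + (s * b) * (1 + t * (d - 1))
      linear_combination -(s * t * b) * hsum
    · show (s + t) * c = (s * c) * (1 + t * (a - 1)) + (1 + s * (d - 1)) * (t * c)
      linear_combination -(s * t * c) * hsum
    · show 1 + (s + t) * (d - 1) = (s * c) * (t * b) + (1 + s * (d - 1)) * (1 + t * (d - 1))
      linear_combination -(s * t) * (d * hsum - hdet)
  let ψ₀ : Multiplicative F →* SL2 F :=
    { toFun := fun s => u (Multiplicative.toAdd s)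
      map_one' := hu0
      map_mul' := fun s t => humul _ _ }
  let ψ : Multiplicative F →* PSL2 F := proj.comp ψ₀
  have hψ : ∀ s : F, ψ (Multiplicative.ofAdd s) = proj (u s) := fun _ => rfl
  have hns : ¬ ((X : Matrix (Fin 2) (Fin 2) F) 0 1 = 0 ∧ (X : Matrix (Fin 2) (Fin 2) F) 1 0 = 0 ∧
      (X : Matrix (Fin 2) (Fin 2) F) 0 0 = (X : Matrix (Fin 2) (Fin 2) F) 1 1) := by
    intro h
    exact hX ((mem_center_iff' X).mpr h)
  have key : ∀ Y : SL2 F, Y * X = X * Y → ∃ s : F, proj Y = proj (u s) := by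
    intro Y hY
    have hY' : (Y : Matrix (Fin 2) (Fin 2) F) * (X : Matrix (Fin 2) (Fin 2) F) =
        (X : Matrix (Fin 2) (Fin 2) F) * (Y : Matrix (Fin 2) (Fin 2) F) :=
      congrArg Subtype.val hY
    obtain ⟨p, r, hpr⟩ := Cfsg.Agent.Lib.SelfNormD.comm_form _ _ hns hY'
    have e00 : (Y : Matrix (Fin 2) (Fin 2) F) 0 0 = p * a + r := by rw [hpr]; simp [ha]
    have e01 : (Y : Matrix (Fin 2) (Fin 2) F) 0 1 = p * b := by rw [hpr]; simp [hb]
    have e10 : (Y : Matrix (Fin 2) (Fin 2) F) 1 0 = p * c := by rw [hpr]; simp [hc]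
    have e11 : (Y : Matrix (Fin 2) (Fin 2) F) 1 1 = p * d + r := by rw [hpr]; simp [hd]
    have hdY := det_entries Y
    rw [e00, e01, e10, e11] at hdY
    have h1 : (p + r - 1) * (p + r + 1) = 0 := by
      linear_combination hdY - p ^ 2 * hdet - p * r * hsum
    rcases mul_eq_zero.mp h1 with h2 | h2
    · refine ⟨p, ?_⟩
      have : Y = u p := by
        apply Subtype.ext
        ext i j
        fin_cases i <;> fin_cases j
        · show (Y : Matrix (Fin 2) (Fin 2) F) 0 0 = 1 + p * (a - 1)
          rw [e00]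
          linear_combination h2
        · show (Y : Matrix (Fin 2) (Fin 2) F) 0 1 = p * b
          exact e01
        · show (Y : Matrix (Fin 2) (Fin 2) F) 1 0 = p * c
          exact e10
        · show (Y : Matrix (Fin 2) (Fin 2) F) 1 1 = 1 + p * (d - 1)
          rw [e11]
          linear_combination h2
      rw [this]
    · refine ⟨-p, ?_⟩
      have : Y = negS (u (-p)) := by
        apply Subtype.ext
        ext i j
        rw [negS_coe]
        fin_cases i <;> fin_cases j
        · show (Y : Matrix (Fin 2) (Fin 2) F) 0 0 = -(1 + -p * (a - 1))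
          rw [e00]
          linear_combination h2
        · show (Y : Matrix (Fin 2) (Fin 2) F) 0 1 = -(-p * b)
          rw [e01]
          ring
        · show (Y : Matrix (Fin 2) (Fin 2) F) 1 0 = -(-p * c)
          rw [e10]
          ring
        · show (Y : Matrix (Fin 2) (Fin 2) F) 1 1 = -(1 + -p * (d - 1))
          rw [e11]
          linear_combination h2
      rw [this, proj_negS]
  by_contra hxH
  let H' : Subgroup (Multiplicative F) := H.comap ψ
  have hne : H' ≠ ⊤ := by
    intro h
    have h1 : Multiplicative.ofAdd (1 : F) ∈ H' := by rw [h]; trivial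
    have h2 : ψ (Multiplicative.ofAdd (1 : F)) ∈ H := h1
    rw [hψ, hu1] at h2
    exact hxH h2
  have hcy : IsCyclic H' := hU H' hne
  have hle : H ≤ ψ.range := by
    intro y hy
    obtain ⟨Y, rfl⟩ := proj_surjective y
    obtain ⟨s, hs⟩ := key Y (hcomm Y hy)
    exact ⟨Multiplicative.ofAdd s, by rw [hψ, hs]⟩
  have hmap : H'.map ψ = H := Subgroup.map_comap_eq_self hle
  have hcy2 : IsCyclic (H'.map ψ) := isCyclic_of_surjective (ψ.subgroupMap H') (ψ.subgroupMap_surjective H')
  rw [hmap] at hcy2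
  exact hH hcy2

lemma mul_negS' (A B : SL2 F) : A * negS B = negS (A * B) :=
  Subtype.ext (by
    show (A : Matrix (Fin 2) (Fin 2) F) * (-(B : Matrix (Fin 2) (Fin 2) F)) =
      -((A : Matrix (Fin 2) (Fin 2) F) * (B : Matrix (Fin 2) (Fin 2) F))
    simp)

lemma negS_mul' (A B : SL2 F) : negS A * B = negS (A * B) :=
  Subtype.ext (by
    show (-(A : Matrix (Fin 2) (Fin 2) F)) * (B : Matrix (Fin 2) (Fin 2) F) =
      -((A : Matrix (Fin 2) (Fin 2) F) * (B : Matrix (Fin 2) (Fin 2) F))
    simp)

lemma negS_negS' (A : SL2 F) : negS (negS A) = A :=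
  Subtype.ext (by
    show -(-(A : Matrix (Fin 2) (Fin 2) F)) = _
    simp)

/-- Commutation in `PSL₂` lifts to commutation up to sign. -/
lemma comm_dich {X Y : SL2 F} (h : proj Y * proj X = proj X * proj Y) :
    Y * X = X * Y ∨ Y * X = negS (X * Y) := by
  rw [← map_mul, ← map_mul] at h
  exact (proj_eq_proj_iff' _ _).mp h.symm

/-- If `Y` anticommutes with `X` then `X` has trace zero up to the factor `2`. -/
lemma tr_of_anti {X Y : SL2 F} (h : Y * X = negS (X * Y)) : 2 * tr X = 0 := by
  have h1 : Y * X * Y⁻¹ = negS X := by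
    rw [h, negS_mul', mul_assoc, mul_inv_cancel, mul_one]
  have h2 := tr_conj Y X
  rw [h1, tr_negS] at h2
  linear_combination -h2

/-- The involution case. -/
lemma exists_comm (hc : ringChar F ≠ 2) {X : SL2 F} (H : Subgroup (PSL2 F)) (hH : ¬ IsCyclic H)
    (hXne : X * X ≠ negS (X * X))
    (hx : ∀ y ∈ H, y * proj X = proj X * y) :
    ∃ Y : SL2 F, proj Y ∈ H ∧ Y * X = X * Y ∧ Y ∉ center (SL2 F) := by
  by_contra hcon
  push Not at hcon
  have hanti : ∀ Y : SL2 F, proj Y ∈ H → Y ∉ center (SL2 F) → Y * X = negS (X * Y) := by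
    intro Y hY hZ
    rcases comm_dich (hx _ hY) with h | h
    · exact absurd (hcon Y hY h) hZ
    · exact h
  have hprod : ∀ y ∈ H, ∀ y' ∈ H, y ≠ 1 → y' ≠ 1 → y * y' = 1 := by
    intro y hy y' hy' h1 h1'
    obtain ⟨Y, rfl⟩ := proj_surjective y
    obtain ⟨Y', rfl⟩ := proj_surjective y'
    have hZ : Y ∉ center (SL2 F) := fun h => h1 ((proj_eq_one_iff _).mpr h)
    have hZ' : Y' ∉ center (SL2 F) := fun h => h1' ((proj_eq_one_iff _).mpr h)
    have h2 : (Y * Y') * X = X * (Y * Y') := by
      rw [mul_assoc, hanti Y' hy' hZ', mul_negS', ← mul_assoc, hanti Y hy hZ, negS_mul', negS_negS',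
        mul_assoc]
    have h3 : proj (Y * Y') ∈ H := by
      rw [map_mul]
      exact H.mul_mem hy hy'
    rw [← map_mul]
    exact (proj_eq_one_iff _).mpr (hcon _ h3 h2)
  apply hH
  by_cases hbot : ∀ y ∈ H, y = 1
  · have : H = ⊥ := by
      rw [eq_bot_iff]
      intro y hy
      exact hbot y hy
    rw [this]
    exact isCyclic_of_subsingleton
  · push Not at hbot
    obtain ⟨y, hy, hy1⟩ := hbot
    have hle : H ≤ zpowers y := by
      intro y' hy'
      by_cases h1 : y' = 1
      · rw [h1]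
        exact one_mem _
      · have h2 := hprod y hy y' hy' hy1 h1
        rw [eq_inv_of_mul_eq_one_right h2]
        exact inv_mem (mem_zpowers y)
    exact isCyclic_of_injective (Subgroup.inclusion hle) (Subgroup.inclusion_injective hle)

lemma mem_of_inv (hc : ringChar F ≠ 2)
    (hpow1 : Fintype.card F % 4 = 1 → ∃ k : ℕ, Fintype.card F - 1 = 2 ^ k)
    (hpow3 : Fintype.card F % 4 = 3 → ∃ k : ℕ, Fintype.card F + 1 = 2 ^ k)
    (X : SL2 F) (hXtr : tr X = 0) (H : Subgroup (PSL2 F)) (hH : ¬ IsCyclic H)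
    (hx : ∀ y ∈ H, y * proj X = proj X * y) : proj X ∈ H := by
  haveI : Fact (Nat.Prime 2) := ⟨Nat.prime_two⟩
  have h2 : (2 : F) ≠ 0 := Ring.two_ne_zero hc
  have h4 : (4 : F) ≠ 0 := by
    have : (4 : F) = 2 * 2 := by norm_num
    rw [this]
    exact mul_ne_zero h2 h2
  have hXZ : X ∉ center (SL2 F) := by
    intro h
    have := central_tr X h
    rw [hXtr, mul_zero] at this
    exact h4 this.symm
  have ht : tr X * tr X ≠ 4 := by
    rw [hXtr, mul_zero]
    exact h4.symm
  have hcyc := cyc_centralizer_odd hc X hXZ ht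
  have hodd : Fintype.card F % 2 = 1 := FiniteField.odd_card_of_char_ne_two hc
  have hXX : X * X = negS 1 := by
    apply Subtype.ext
    rw [Matrix.SpecialLinearGroup.coe_mul, cayley, hXtr, negS_coe]
    simp
  have hcard : ∃ k : ℕ, Nat.card (centralizer ({X} : Set (SL2 F))) = 2 ^ k := by
    by_cases h3 : Fintype.card F % 4 = 3
    · obtain ⟨k, hk⟩ := hpow3 h3
      refine ⟨k, ?_⟩
      have h5 : ∀ l : F, l * l - tr X * l + 1 ≠ 0 := by
        intro l hl
        rw [hXtr] at hl
        have h6 : IsSquare (-1 : F) := ⟨l, by linear_combination -hl⟩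
        exact (FiniteField.isSquare_neg_one_iff.mp h6) h3
      have h6 : Nat.card (centralizer ({X} : Set (SL2 F))) = Fintype.card F + 1 :=
        Cfsg.Agent.Lib.PSL2Cnt.card_TT_nonsplit X hXZ ht h5
      rw [h6, hk]
    · obtain ⟨k, hk⟩ := hpow1 (by omega)
      refine ⟨k, ?_⟩
      obtain ⟨l, hl⟩ := FiniteField.isSquare_neg_one_iff.mpr h3
      have h5 : l * l - tr X * l + 1 = 0 := by
        rw [hXtr]
        linear_combination -hl
      have h6 : Nat.card (centralizer ({X} : Set (SL2 F))) = Fintype.card F - 1 :=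
        Cfsg.Agent.Lib.PSL2Cnt.card_TT_split X hXZ ht h5
      rw [h6, hk]
  obtain ⟨k, hk⟩ := hcard
  have hne1 : (negS 1 : SL2 F) ≠ 1 := by
    intro h
    have := congrArg (fun z : SL2 F => (z : Matrix (Fin 2) (Fin 2) F) 0 0) h
    simp only [negS_coe] at this
    simp at this
    apply h2
    linear_combination -this
  have hXne : X * X ≠ negS (X * X) := by
    rw [hXX, negS_negS']
    exact hne1
  obtain ⟨Y, hYH, hYX, hYZ⟩ := exists_comm hc H hH hXne hx
  let Y' : centralizer ({X} : Set (SL2 F)) := ⟨Y, mem_centralizer_singleton_iff.mpr hYX⟩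
  let X' : centralizer ({X} : Set (SL2 F)) := ⟨X, mem_centralizer_singleton_iff.mpr rfl⟩
  have hdv : orderOf Y' ∣ 2 ^ k := by
    rw [← hk]
    exact orderOf_dvd_natCard Y'
  obtain ⟨m, -, hm⟩ := (Nat.dvd_prime_pow Nat.prime_two).mp hdv
  have hm2 : 2 ≤ m := by
    by_contra hlt
    have h5 : Y * Y = 1 := by
      have h6 : Y' ^ 2 = 1 := by
        have h7 : orderOf Y' ∣ 2 := by
          rw [hm]
          interval_cases m <;> norm_num
        exact orderOf_dvd_iff_pow_eq_one.mp h7
      have := congrArg Subtype.val h6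
      simpa [pow_two] using this
    exact hYZ (Cfsg.Agent.Lib.SL2Nonsplit.sq_eq_one_iff hc h5)
  obtain ⟨m', rfl⟩ : ∃ m', m = m' + 2 := ⟨m - 2, by omega⟩
  set w := Y' ^ (2 ^ m') with hw
  have hwo : orderOf w = 4 := by
    have h1 := orderOf_pow_orderOf_div (x := Y') (n := 4) (orderOf_pos Y').ne'
      ⟨2 ^ m', by rw [hm, pow_add]; ring⟩
    rwa [show orderOf Y' / 4 = 2 ^ m' by
      rw [hm, pow_add]
      norm_num] at h1
  have hXo : orderOf X' = 4 := by
    have h1 : X' ^ 2 ≠ 1 := by
      intro h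
      have h3 := congrArg Subtype.val h
      have h5 : X * X = 1 := by simpa [pow_two, X'] using h3
      rw [hXX] at h5
      exact hne1 h5
    have h3 : X' ^ 4 = 1 := by
      apply Subtype.ext
      show X ^ 4 = 1
      have : X ^ 4 = (X * X) * (X * X) := by simp only [pow_succ, pow_zero, one_mul, mul_assoc]
      rw [this, hXX]
      exact sq_one_of_center (by
        rw [mem_center_iff']
        simp [negS_coe])
    have := orderOf_eq_prime_pow (p := 2) (n := 1) (x := X') (by simpa using h1) (by simpa using h3)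
    simpa using this
  have hmem : X' ∈ zpowers w :=
    Cfsg.Agent.Lib.SelfNormB.mem_zpowers_of_orderOf_eq (by rw [hwo, hXo])
  obtain ⟨n, hn⟩ := mem_zpowers_iff.mp hmem
  have h5 : (Y ^ 2 ^ m') ^ n = X := by
    have := congrArg Subtype.val hn
    simpa [hw, Y', X'] using this
  rw [← h5, map_zpow, map_pow]
  exact H.zpow_mem (H.pow_mem hYH _) _

/-- The reverse direction. -/
theorem nc_psl (h : (Fintype.card F).Prime ∨ Fintype.card F = 4 ∨ Fintype.card F = 9)
    (hpow1 : Fintype.card F % 4 = 1 → ∃ k : ℕ, Fintype.card F - 1 = 2 ^ k)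
    (hpow3 : Fintype.card F % 4 = 3 → ∃ k : ℕ, Fintype.card F + 1 = 2 ^ k) : NC (PSL2 F) := by
  intro H hH x hx
  obtain ⟨X, rfl⟩ := proj_surjective x
  have hx' : ∀ y ∈ H, y * proj X = proj X * y :=
    fun y hy => mem_centralizer_iff.mp hx y hy
  by_cases hXZ : X ∈ center (SL2 F)
  · rw [(proj_eq_one_iff _).mpr hXZ]
    exact one_mem _
  by_cases hinv : ringChar F ≠ 2 ∧ tr X = 0
  · exact mem_of_inv hinv.1 hpow1 hpow3 X hinv.2 H hH hx'
  -- now lifts commute
  have hcomm : ∀ Y : SL2 F, proj Y ∈ H → Y * X = X * Y := by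
    intro Y hY
    rcases comm_dich (hx' _ hY) with h1 | h1
    · exact h1
    · have h2 := tr_of_anti h1
      by_cases hch : ringChar F = 2
      · rw [h1]
        haveI : CharP F 2 := by
          rw [← hch]
          exact ringChar.charP F
        apply Subtype.ext
        rw [negS_coe]
        exact neg_eq_of_add_eq_zero_left (by
          rw [← two_smul F]
          simp [CharTwo.two_eq_zero])
      · exfalso
        apply hinv
        refine ⟨hch, ?_⟩
        exact (mul_eq_zero.mp h2).resolve_left (Ring.two_ne_zero hch)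
  by_cases ht : tr X * tr X = 4
  · have h1 : (tr X - 2) * (tr X + 2) = 0 := by linear_combination ht
    rcases mul_eq_zero.mp h1 with h2 | h2
    · exact mem_of_unip X hXZ (by linear_combination h2) (hU_of h) H hH hcomm
    · have hnX : negS X ∉ center (SL2 F) := by
        intro h3
        apply hXZ
        rw [← proj_eq_one_iff] at h3 ⊢
        rwa [proj_negS] at h3
      rw [← proj_negS]
      apply mem_of_unip (negS X) hnX (by rw [tr_negS]; linear_combination -h2) (hU_of h) H hH
      intro Y hY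
      rw [mul_negS', negS_mul', hcomm Y hY]
  · exfalso
    have hcy : IsCyclic (centralizer ({X} : Set (SL2 F))) := by
      by_cases hch : ringChar F = 2
      · apply cyc_centralizer_small _ X hXZ ht
        have heven : Fintype.card F % 2 = 0 := by
          obtain ⟨p, hp⟩ := CharP.exists F
          have : p = 2 := by
            rw [← hch]
            exact (ringChar.eq F p).symm
          subst this
          have := FiniteField.even_card_of_char_two (F := F) hch
          omega
        rcases h with h | h | h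
        · left
          exact (Nat.Prime.eq_one_or_self_of_dvd h 2 (Nat.dvd_of_mod_eq_zero heven)).resolve_left
            (by norm_num) |>.symm
        · right
          exact h
        · omega
      · exact cyc_centralizer_odd hch X hXZ ht
    apply hH
    have hle : H ≤ (centralizer ({X} : Set (SL2 F))).map proj := by
      intro y hy
      obtain ⟨Y, rfl⟩ := proj_surjective y
      exact ⟨Y, mem_centralizer_singleton_iff.mpr (hcomm Y hy), rfl⟩
    have hcy2 : IsCyclic ((centralizer ({X} : Set (SL2 F))).map proj) :=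
      isCyclic_of_surjective (proj.subgroupMap _) (proj.subgroupMap_surjective _)
    exact isCyclic_of_injective (Subgroup.inclusion hle) (Subgroup.inclusion_injective hle)

end Cfsg.Agent.Lib.SelfCentC
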