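import Mathlib
import Cfsg.Agent.Lib.NoFiveTame8
import Cfsg.Agent.Lib.DihedralIso
import Cfsg.Agent.S0508

/-!
# The Sylow 2-subgroup is dihedral: conclusion.
-/

set_option autoImplicit false

namespace Cfsg.Agent.Lib.NoFive

universe u

open scoped commutatorElement

variable {G : Type u} [Group G] [Finite G] {T : Sylow 2 G} {R : Subgroup G} {y : G}

/-- Proper inclusion doubles the order. -/
lemma two_mul_card_le {A B : Subgroup G} (hAB : A ≤ B) (hne : A ≠ B) : 2 * Nat.card A ≤ Nat.card B := by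
  have h1 : Nat.card A ∣ Nat.card B := Subgroup.card_dvd_of_le hAB
  obtain ⟨k, hk⟩ := h1
  have hB : 0 < Nat.card B := Nat.card_pos
  have hk0 : k ≠ 0 := by
    rintro rfl
    omega
  have hk1 : k ≠ 1 := by
    rintro rfl
    apply hne
    exact Subgroup.eq_of_le_of_card_ge hAB (by omega)
  have hk2 : 2 ≤ k := by omega
  rw [hk, mul_comm]
  exact Nat.mul_le_mul_left _ hk2

/-- Two involutions generate `T`. -/
theorem SmallT.exists_gens (hP : IsP G) (hS : SmallT T R y) (hV : R ≤ omZ R) {z : G} (hz : z ∈ omZ (T : Subgroup G)) (hz1 : z ≠ 1)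
    (hgen : Subgroup.closure {s | s ∈ (T : Subgroup G) ∧ s * s = 1} = (T : Subgroup G)) :
    ∃ i j : G, i ∈ (T : Subgroup G) ∧ j ∈ (T : Subgroup G) ∧ i * i = 1 ∧ j * j = 1 ∧ i ≠ j ∧
      Subgroup.closure {i, j} = (T : Subgroup G) := by
  have hT2 : IsPGroup 2 (T : Subgroup G) := T.isPGroup'
  set C : Subgroup G := ⁅(T : Subgroup G), (T : Subgroup G)⁆ with hC
  have hCT : C ≤ (T : Subgroup G) := by
    rw [hC, Subgroup.commutator_le]
    intro a ha b hb
    rw [commutatorElement_def]
    exact mul_mem (mul_mem (mul_mem ha hb) (inv_mem ha)) (inv_mem hb)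
  have hcard : Nat.card (T : Subgroup G) ≤ 4 * Nat.card C := hS.card_le_comm hP hV hz hz1
  have hCne : C ≠ (T : Subgroup G) := by
    intro h
    have h1 : (⊥ : Subgroup G) = (T : Subgroup G) := by
      apply eq_of_sup_commutator hT2 bot_le
      rw [bot_sup_eq, ← hC, h]
    apply hz1
    have h2 := hz.1
    rw [← h1, Subgroup.mem_bot] at h2
    exact h2
  have hi : ∃ i, (i ∈ (T : Subgroup G) ∧ i * i = 1) ∧ i ∉ C := by
    by_contra hc
    push Not at hc
    apply hCne
    apply le_antisymm hCT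
    rw [← hgen, Subgroup.closure_le]
    intro s hs
    exact hc s hs
  obtain ⟨i, ⟨hiT, hii⟩, hiC⟩ := hi
  set M : Subgroup G := Subgroup.closure {i} ⊔ C with hM
  have hMT : M ≤ (T : Subgroup G) := by
    refine sup_le ?_ hCT
    rw [Subgroup.closure_le]
    rintro _ rfl
    exact hiT
  have hMne : M ≠ (T : Subgroup G) := by
    intro h
    have h1 : Subgroup.closure {i} = (T : Subgroup G) := by
      apply eq_of_sup_commutator hT2 ((le_sup_left : Subgroup.closure {i} ≤ M).trans hMT)
      rw [← hC, ← hM, h]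
    obtain ⟨a, ha, b, hb, hab⟩ := hS.exists_noncentral hP hV hz hz1
    apply hab
    rw [← h1, ← Subgroup.zpowers_eq_closure] at ha hb
    obtain ⟨p, rfl⟩ := Subgroup.mem_zpowers_iff.mp ha
    obtain ⟨q, rfl⟩ := Subgroup.mem_zpowers_iff.mp hb
    exact ((Commute.refl i).zpow_zpow p q).eq
  have hj : ∃ j, (j ∈ (T : Subgroup G) ∧ j * j = 1) ∧ j ∉ M := by
    by_contra hc
    push Not at hc
    apply hMne
    apply le_antisymm hMT
    rw [← hgen, Subgroup.closure_le]
    intro s hs
    exact hc s hs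
  obtain ⟨j, ⟨hjT, hjj⟩, hjM⟩ := hj
  have hiM : i ∈ M := Subgroup.mem_sup_left (Subgroup.subset_closure rfl)
  have hij : i ≠ j := by
    rintro rfl
    exact hjM hiM
  refine ⟨i, j, hiT, hjT, hii, hjj, hij, ?_⟩
  set L : Subgroup G := Subgroup.closure {i, j} ⊔ C with hL
  have hclT : Subgroup.closure {i, j} ≤ (T : Subgroup G) := by
    rw [Subgroup.closure_le]
    rintro _ (rfl | rfl)
    · exact hiT
    · exact hjT
  have hLT : L ≤ (T : Subgroup G) := sup_le hclT hCT
  have hML : M ≤ L := by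
    apply sup_le_sup_right
    apply Subgroup.closure_mono
    rintro _ rfl
    exact Or.inl rfl
  have hjL : j ∈ L := Subgroup.mem_sup_left (Subgroup.subset_closure (Or.inr rfl))
  have h1 : 2 * Nat.card C ≤ Nat.card M := two_mul_card_le le_sup_right (by
    intro h
    apply hiC
    rw [h]
    exact hiM)
  have h2 : 2 * Nat.card M ≤ Nat.card L := two_mul_card_le hML (by
    intro h
    apply hjM
    rw [h]
    exact hjL)
  have hLeq : L = (T : Subgroup G) := by
    apply Subgroup.eq_of_le_of_card_ge hLT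
    omega
  apply eq_of_sup_commutator hT2 hclT
  rw [← hC, ← hL, hLeq]

/-- Two involutions generating a non-abelian group give a dihedral group. -/
theorem dihedral_of_gens {T : Subgroup G} {i j : G} (hiT : i ∈ T) (hjT : j ∈ T) (hii : i * i = 1) (hjj : j * j = 1)
    (hij : i ≠ j) (hcl : Subgroup.closure {i, j} = T) (hnc : ∃ a ∈ T, ∃ b ∈ T, a * b ≠ b * a) :
    ∃ n, 2 ≤ n ∧ Nonempty (↥T ≃* DihedralGroup n) := by
  have hiinv : i⁻¹ = i := inv_eq_of_mul_eq_one_left hii
  have hjinv : j⁻¹ = j := inv_eq_of_mul_eq_one_left hjj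
  set c := i * j with hc
  have hrel0 : i * c * i⁻¹ = c⁻¹ := by
    rw [hc, mul_inv_rev, hiinv, hjinv]
    calc i * (i * j) * i = (i * i) * j * i := by group
      _ = j * i := by rw [hii, one_mul]
  have hrel : ∀ k : ℤ, i * c ^ k * i = c ^ (-k) := by
    intro k
    have h1 := conj_zpow (a := i) (b := c) (i := k)
    rw [hrel0, hiinv, inv_zpow] at h1
    rw [← h1, zpow_neg]
  have hall : ∀ g ∈ Subgroup.closure {i, j}, ∃ k : ℤ, g = c ^ k ∨ g = i * c ^ k := by
    intro g hg
    induction hg using Subgroup.closure_induction with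
    | mem x hx =>
      rcases hx with rfl | rfl
      · exact ⟨0, Or.inr (by simp)⟩
      · refine ⟨1, Or.inr ?_⟩
        rw [zpow_one, hc]
        calc x = (i * i) * x := by rw [hii, one_mul]
          _ = i * (i * x) := by group
    | one => exact ⟨0, Or.inl (by simp)⟩
    | mul a b _ _ ha hb =>
      obtain ⟨p, hp⟩ := ha
      obtain ⟨q, hq⟩ := hb
      rcases hp with rfl | rfl <;> rcases hq with rfl | rfl
      · exact ⟨p + q, Or.inl (zpow_add c p q).symm⟩
      · refine ⟨-p + q, Or.inr ?_⟩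
        rw [zpow_add, ← hrel p]
        calc c ^ p * (i * c ^ q) = (i * i) * c ^ p * (i * c ^ q) := by rw [hii, one_mul]
          _ = i * (i * c ^ p * i * c ^ q) := by group
      · refine ⟨p + q, Or.inr ?_⟩
        rw [zpow_add]
        group
      · refine ⟨-p + q, Or.inl ?_⟩
        rw [zpow_add, ← hrel p]
        group
    | inv a _ ha =>
      obtain ⟨p, hp⟩ := ha
      rcases hp with rfl | rfl
      · exact ⟨-p, Or.inl (zpow_neg c p).symm⟩
      · refine ⟨p, Or.inr ?_⟩
        have h1 := hrel (-p)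
        rw [neg_neg] at h1
        rw [mul_inv_rev, hiinv, ← zpow_neg]
        calc c ^ (-p) * i = (i * i) * c ^ (-p) * i := by rw [hii, one_mul]
          _ = i * (i * c ^ (-p) * i) := by group
          _ = i * c ^ p := by rw [h1]
  have hnat : ∀ k : ℤ, ∃ m : ℕ, c ^ k = c ^ m := by
    intro k
    have h1 : c ^ k ∈ Submonoid.powers c := mem_powers_iff_mem_zpowers.mpr ⟨k, rfl⟩
    obtain ⟨m, hm⟩ := (Submonoid.mem_powers_iff _ _).mp h1
    exact ⟨m, hm.symm⟩
  let ι : T := ⟨i, hiT⟩
  let κ : T := ⟨j, hjT⟩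
  set ζ : T := ι * κ with hζ
  have hζc : (ζ : G) = c := rfl
  have hpos : 0 < orderOf ζ := orderOf_pos ζ
  haveI : NeZero (orderOf ζ) := ⟨hpos.ne'⟩
  have hn2 : 2 ≤ orderOf ζ := by
    by_contra hc'
    have h1 : orderOf ζ = 1 := by omega
    have h2 : ζ = 1 := orderOf_eq_one_iff.mp h1
    have h3 : i * j = 1 := congrArg Subtype.val h2
    have h4 : j = i⁻¹ := eq_inv_of_mul_eq_one_right h3
    exact hij (by rw [h4, hiinv])
  refine ⟨orderOf ζ, hn2, ?_⟩
  apply Cfsg.Agent.Lib.DihedralIso.nonempty_dihedral_of_surj ζ ι (pow_orderOf_eq_one ζ) (Subtype.ext hii) ?_ rfl ?_ ?_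
  · apply Subtype.ext
    simp only [Subgroup.coe_mul, Subgroup.coe_inv]
    have h1 := hrel0
    rw [hiinv] at h1
    exact h1
  · intro k hk
    have h1 : i = c ^ k := by
      have := congrArg Subtype.val hk
      simp only [Subgroup.coe_pow] at this
      exact this.symm
    obtain ⟨a, ha, b, hb, hab⟩ := hnc
    have hle : Subgroup.closure {i, j} ≤ Subgroup.zpowers c := by
      rw [Subgroup.closure_le]
      have hi' : i ∈ Subgroup.zpowers c := by
        rw [h1]
        exact pow_mem (Subgroup.mem_zpowers c) k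
      have hj' : j ∈ Subgroup.zpowers c := by
        have h2 : j = i⁻¹ * c := by
          rw [hc]
          group
        rw [h2]
        exact mul_mem (inv_mem hi') (Subgroup.mem_zpowers c)
      intro x hx
      rcases hx with hx | hx
      · rw [hx]
        exact hi'
      · have hx' : x = j := hx
        rw [hx']
        exact hj'
    rw [← hcl] at ha hb
    obtain ⟨p, rfl⟩ := Subgroup.mem_zpowers_iff.mp (hle ha)
    obtain ⟨q, rfl⟩ := Subgroup.mem_zpowers_iff.mp (hle hb)
    exact hab ((Commute.refl c).zpow_zpow p q).eq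
  · intro g
    have hg : (g : G) ∈ Subgroup.closure {i, j} := by
      rw [hcl]
      exact g.2
    obtain ⟨k, hk⟩ := hall _ hg
    obtain ⟨m, hm⟩ := hnat k
    refine ⟨m, ?_⟩
    rcases hk with hk | hk
    · left
      apply Subtype.ext
      simp only [Subgroup.coe_pow]
      rw [hk, hm]
      rfl
    · right
      apply Subtype.ext
      simp only [Subgroup.coe_mul, Subgroup.coe_pow]
      rw [hk, hm]
      rfl

/-- Non-TI case. -/
theorem psl_of_tame (hP : IsP G)
    (hIH : ∀ (W : Type u) [Group W] [Finite W], Nat.card W < Nat.card G → IsP W →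
      3 ≤ (Nat.card W).primeFactors.card → Nat.card W = 168)
    [IsSimpleGroup G] (hna : ¬ ∀ a b : G, a * b = b * a) (h : Tame T R) :
    ∃ (F : Type) (_ : Field F) (_ : Fintype F), Odd (Fintype.card F) ∧
      Nonempty (G ≃* Matrix.ProjectiveSpecialLinearGroup (Fin 2) F) := by
  obtain ⟨R₁, y₁, hS, hV⟩ := h.exists_V4 hP hIH hna
  obtain ⟨z, hz, hz1⟩ := h.exists_z
  have hgen : Subgroup.closure {s | s ∈ (T : Subgroup G) ∧ s * s = 1} = (T : Subgroup G) := by
    apply le_antisymm
    · rw [Subgroup.closure_le]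
      intro s hs
      exact hs.1
    · refine (h.gen hP hIH hna).symm.le.trans ?_
      apply sSup_le
      intro R' h' r hr
      apply Subgroup.subset_closure
      exact ⟨h'.le hr, hS.tame_el hP hV hz hz1 h' hIH r hr⟩
  obtain ⟨i, j, hiT, hjT, hii, hjj, hij, hcl⟩ := hS.exists_gens hP hV hz hz1 hgen
  obtain ⟨n, hn, hiso⟩ := dihedral_of_gens hiT hjT hii hjj hij hcl (hS.exists_noncentral hP hV hz hz1)
  have hC2 : IsPGroup 2 (Subgroup.centralizer ({z} : Set G)) := hP.isPGroup_centralizer hz1 (omZ_two hz)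
  have hK : Cfsg.oddCore ↥(Subgroup.centralizer ({z} : Set G)) = ⊥ := by
    haveI : Fact (Nat.Prime 2) := ⟨Nat.prime_two⟩
    set K := Cfsg.oddCore ↥(Subgroup.centralizer ({z} : Set G)) with hKdef
    have h1 : (Nat.card K).Coprime 2 := Cfsg.Agent.Lib.PCore.card_pPrimeCore_coprime 2
    obtain ⟨k, hk⟩ := IsPGroup.iff_card.mp (hC2.to_subgroup K)
    have h2 : k = 0 := by
      by_contra hk0
      rw [hk] at h1
      have h3 : 2 ∣ 2 ^ k := dvd_pow_self 2 hk0
      have h4 := Nat.Coprime.eq_one_of_dvd h1.symm h3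
      omega
    rw [h2, pow_zero] at hk
    exact Subgroup.eq_bot_of_card_eq K hk
  have hO : (Cfsg.oddCore ↥(Subgroup.centralizer ({z} : Set G))).map (Subgroup.centralizer ({z} : Set G)).subtype = ⊥ := by
    rw [hK, Subgroup.map_bot]
  refine Cfsg.Agent.S0508.result T n hn hiso z ?_ hz.1 (fun s hs => (hz.2.1 s hs).symm) ⊥ hO.symm ?_ ?_ ?_
  · exact orderOf_eq_prime (by rw [sq]; exact hz.2.2) hz1
  · intro hc
    exact absurd rfl hc
  · intro s _ _ y hy
    rw [Subgroup.mem_bot] at hy
    subst hy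
    simp
  · intro Y hY hY1
    exact absurd (le_antisymm hY bot_le) hY1

end Cfsg.Agent.Lib.NoFive
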