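import Mathlib

/-!
Sharply 3-transitive groups containing the Moebius generators: the action of `GL₂(F)` on the
projective line `OnePoint F` identifies the group with `PGL₂(F)`, and with `SL₂(F)` in
characteristic two.
-/

set_option autoImplicit false
set_option linter.all false

namespace Cfsg.Agent.Lib.Sharp3Core

open Matrix OnePoint
open scoped MatrixGroups

variable {α : Type*} {F : Type*} [Field F] [DecidableEq F]

/-- A permutation group on `α` that, transported along `ι`, contains the Moebius generators and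
in which only the identity fixes `∞, 0, 1`. -/
structure MobData (G : Subgroup (Equiv.Perm α)) (ι : OnePoint F ≃ α) : Prop where
  sharp : ∀ g ∈ G, g (ι ∞) = ι ∞ → g (ι ((0 : F) : OnePoint F)) = ι ((0 : F) : OnePoint F) →
    g (ι ((1 : F) : OnePoint F)) = ι ((1 : F) : OnePoint F) → g = 1
  tr : ∀ b : F, ∃ g ∈ G, g (ι ∞) = ι ∞ ∧
    ∀ x : F, g (ι (x : OnePoint F)) = ι ((x + b : F) : OnePoint F)
  mu : ∀ a : F, a ≠ 0 → ∃ g ∈ G, g (ι ∞) = ι ∞ ∧
    ∀ x : F, g (ι (x : OnePoint F)) = ι ((a * x : F) : OnePoint F)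
  inv : ∃ g ∈ G, g (ι ∞) = ι ((0 : F) : OnePoint F) ∧ g (ι ((0 : F) : OnePoint F)) = ι ∞ ∧
    ∀ x : F, x ≠ 0 → g (ι (x : OnePoint F)) = ι ((x⁻¹ : F) : OnePoint F)

/-- The action of `GL₂(F)` transported to `α`. -/
noncomputable def psi (ι : OnePoint F ≃ α) : GL (Fin 2) F →* Equiv.Perm α :=
  (ι.permCongrHom.toMonoidHom).comp (MulAction.toPermHom (GL (Fin 2) F) (OnePoint F))

lemma psi_apply (ι : OnePoint F ≃ α) (A : GL (Fin 2) F) (p : OnePoint F) :
    psi ι A (ι p) = ι (A • p) := by
  simp [psi, Equiv.permCongrHom, Equiv.permCongr]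

lemma smul_infty' (A : GL (Fin 2) F) :
    A • (∞ : OnePoint F) = if A 1 0 = 0 then ∞ else ((A 0 0 / A 1 0 : F) : OnePoint F) :=
  OnePoint.smul_infty_eq_ite A

lemma smul_coe' (A : GL (Fin 2) F) (x : F) :
    A • (x : OnePoint F) = if A 1 0 * x + A 1 1 = 0 then ∞ else
      (((A 0 0 * x + A 0 1) / (A 1 0 * x + A 1 1) : F) : OnePoint F) :=
  OnePoint.smul_some_eq_ite

lemma psi_mem {G : Subgroup (Equiv.Perm α)} {ι : OnePoint F ≃ α} (h : MobData G ι)
    (A : GL (Fin 2) F) : psi ι A ∈ G := by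
  have hdet : A 0 0 * A 1 1 - A 0 1 * A 1 0 ≠ 0 := by
    have := A.det_ne_zero
    rwa [det_fin_two] at this
  have hs := smul_infty' A
  have hx := smul_coe' A
  generalize A 0 0 = a at *
  generalize A 0 1 = b at *
  generalize A 1 0 = c at *
  generalize A 1 1 = d at *
  by_cases hc : c = 0
  · subst hc
    have hd : d ≠ 0 := by
      rintro rfl
      simp at hdet
    have ha : a ≠ 0 := by
      rintro rfl
      simp at hdet
    obtain ⟨t, ht, htI, htx⟩ := h.tr (b / d)
    obtain ⟨m, hm, hmI, hmx⟩ := h.mu (a / d) (div_ne_zero ha hd)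
    have : psi ι A = t * m := by
      refine Equiv.ext fun y => ?_
      obtain ⟨p, rfl⟩ := ι.surjective y
      rw [psi_apply]
      induction p using OnePoint.rec with
      | infty =>
        rw [hs]
        simp [hmI, htI]
      | coe x =>
        rw [hx]
        simp only [zero_mul, zero_add, hd, if_false, Equiv.Perm.coe_mul, Function.comp_apply, hmx,
          htx]
        congr 2
        field_simp
    rw [this]
    exact G.mul_mem ht hm
  · have hmu : -(a * d - b * c) / c ^ 2 ≠ 0 :=
      div_ne_zero (neg_ne_zero.mpr hdet) (pow_ne_zero _ hc)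
    obtain ⟨t1, ht1, ht1I, ht1x⟩ := h.tr (d / c)
    obtain ⟨t2, ht2, ht2I, ht2x⟩ := h.tr (a / c)
    obtain ⟨m, hm, hmI, hmx⟩ := h.mu _ hmu
    obtain ⟨s, hsG, hsI, hs0, hsx⟩ := h.inv
    have : psi ι A = t2 * m * s * t1 := by
      refine Equiv.ext fun y => ?_
      obtain ⟨p, rfl⟩ := ι.surjective y
      rw [psi_apply]
      induction p using OnePoint.rec with
      | infty =>
        rw [hs]
        simp only [hc, if_false, Equiv.Perm.coe_mul, Function.comp_apply, ht1I, hsI, hmx, ht2x]
        congr 2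
        simp
      | coe x =>
        rw [hx]
        by_cases hz : c * x + d = 0
        · have hz' : x + d / c = 0 := by
            field_simp
            linear_combination hz
          simp only [hz, if_true, Equiv.Perm.coe_mul, Function.comp_apply, ht1x, hz', hs0, hmI,
            ht2I]
        · have hz' : x + d / c ≠ 0 := by
            intro h0
            apply hz
            field_simp at h0
            linear_combination h0
          simp only [hz, if_false, Equiv.Perm.coe_mul, Function.comp_apply, ht1x, hsx _ hz', hmx,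
            ht2x]
          congr 2
          have h2 : c * x + d = c * (x + d / c) := by
            field_simp
          rw [h2]
          obtain ⟨y, hy⟩ : ∃ y, y = x + d / c := ⟨_, rfl⟩
          have hx' : x = y - d / c := by rw [hy]; ring
          rw [← hy] at hz' ⊢
          rw [hx']
          field_simp
          ring
    rw [this]
    exact G.mul_mem (G.mul_mem (G.mul_mem ht2 hm) hsG) ht1

/-- An explicit matrix with prescribed entries. -/
noncomputable def mat (a b c d : F) (h : a * d - b * c ≠ 0) : GL (Fin 2) F :=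
  Matrix.GeneralLinearGroup.mkOfDetNeZero !![a, b; c, d] (by simpa [det_fin_two] using h)

lemma exists_to_infty (u : OnePoint F) : ∃ A : GL (Fin 2) F, A • u = ∞ := by
  induction u using OnePoint.rec with
  | infty => exact ⟨1, one_smul _ _⟩
  | coe x =>
    refine ⟨mat 0 1 1 (-x) (by simp), ?_⟩
    rw [smul_coe']
    simp [mat, Matrix.GeneralLinearGroup.mkOfDetNeZero]

lemma exists_normal_form {u v w : OnePoint F} (huv : u ≠ v) (huw : u ≠ w) (hvw : v ≠ w) :
    ∃ A : GL (Fin 2) F, A • u = ∞ ∧ A • v = ((0 : F) : OnePoint F) ∧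
      A • w = ((1 : F) : OnePoint F) := by
  obtain ⟨A₁, hA₁⟩ := exists_to_infty u
  have hv : A₁ • v ≠ ∞ := by
    rw [← hA₁]
    exact fun h => huv (MulAction.injective A₁ h).symm
  have hw : A₁ • w ≠ ∞ := by
    rw [← hA₁]
    exact fun h => huw (MulAction.injective A₁ h).symm
  have hvw' : A₁ • v ≠ A₁ • w := fun h => hvw (MulAction.injective A₁ h)
  obtain ⟨x₀, hx₀⟩ := OnePoint.ne_infty_iff_exists.mp hv
  obtain ⟨x₁, hx₁⟩ := OnePoint.ne_infty_iff_exists.mp hw
  rw [← hx₀, ← hx₁] at hvw'
  have hy : x₁ - x₀ ≠ 0 := by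
    intro h0
    apply hvw'
    rw [sub_eq_zero.mp h0]
  have hdet : (x₁ - x₀)⁻¹ * 1 - (-x₀ * (x₁ - x₀)⁻¹) * 0 ≠ 0 := by
    simpa using hy
  refine ⟨mat _ _ _ _ hdet * A₁, ?_, ?_, ?_⟩
  · rw [mul_smul, hA₁, smul_infty']
    simp [mat, Matrix.GeneralLinearGroup.mkOfDetNeZero]
  · rw [mul_smul, ← hx₀, smul_coe']
    simp [mat, Matrix.GeneralLinearGroup.mkOfDetNeZero]
    field_simp
    ring
  · rw [mul_smul, ← hx₁, smul_coe']
    simp [mat, Matrix.GeneralLinearGroup.mkOfDetNeZero]
    field_simp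
    ring

lemma three_ne : (∞ : OnePoint F) ≠ ((0 : F) : OnePoint F) ∧ (∞ : OnePoint F) ≠ ((1 : F) : OnePoint F) ∧
    ((0 : F) : OnePoint F) ≠ ((1 : F) : OnePoint F) := by
  refine ⟨(OnePoint.coe_ne_infty _).symm, (OnePoint.coe_ne_infty _).symm, ?_⟩
  intro h
  exact zero_ne_one (OnePoint.coe_injective h)

lemma exists_psi_eq {G : Subgroup (Equiv.Perm α)} {ι : OnePoint F ≃ α} (h : MobData G ι)
    {g : Equiv.Perm α} (hg : g ∈ G) : ∃ A : GL (Fin 2) F, psi ι A = g := by
  obtain ⟨h1, h2, h3⟩ := three_ne (F := F)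
  have inj : ∀ {p q : OnePoint F}, p ≠ q → ι.symm (g (ι p)) ≠ ι.symm (g (ι q)) := by
    intro p q hpq e
    exact hpq (ι.injective (g.injective (ι.symm.injective e)))
  obtain ⟨A, hA1, hA2, hA3⟩ := exists_normal_form (inj h1) (inj h2) (inj h3)
  have key : psi ι A * g = 1 := by
    apply h.sharp _ (G.mul_mem (psi_mem h A) hg)
    · have : g (ι ∞) = ι (ι.symm (g (ι ∞))) := by simp
      rw [Equiv.Perm.coe_mul, Function.comp_apply, this, psi_apply, hA1]
    · have : g (ι ((0 : F) : OnePoint F)) = ι (ι.symm (g (ι ((0 : F) : OnePoint F)))) := by simp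
      rw [Equiv.Perm.coe_mul, Function.comp_apply, this, psi_apply, hA2]
    · have : g (ι ((1 : F) : OnePoint F)) = ι (ι.symm (g (ι ((1 : F) : OnePoint F)))) := by simp
      rw [Equiv.Perm.coe_mul, Function.comp_apply, this, psi_apply, hA3]
  refine ⟨A⁻¹, ?_⟩
  rw [map_inv]
  exact (eq_inv_of_mul_eq_one_right key).symm

lemma entries_of_ker (ι : OnePoint F ≃ α) {A : GL (Fin 2) F} (hA : psi ι A = 1) :
    A 1 0 = 0 ∧ A 0 1 = 0 ∧ A 0 0 = A 1 1 := by
  have hp : ∀ p : OnePoint F, A • p = p := by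
    intro p
    apply ι.injective
    rw [← psi_apply, hA]
    rfl
  have hdet : A 0 0 * A 1 1 - A 0 1 * A 1 0 ≠ 0 := by
    have := A.det_ne_zero
    rwa [det_fin_two] at this
  have h1 : A 1 0 = 0 := OnePoint.smul_infty_eq_self_iff.mp (hp ∞)
  have hd : A 1 1 ≠ 0 := by
    intro h0
    rw [h1, h0] at hdet
    simp at hdet
  have h2 := hp ((0 : F) : OnePoint F)
  rw [smul_coe', h1] at h2
  simp only [zero_mul, mul_zero, add_zero, zero_add, hd, if_false] at h2
  have h2' : A 0 1 / A 1 1 = 0 := OnePoint.coe_injective h2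
  have hb : A 0 1 = 0 := by
    rcases div_eq_zero_iff.mp h2' with h | h
    · exact h
    · exact absurd h hd
  have h3 := hp ((1 : F) : OnePoint F)
  rw [smul_coe', h1, hb] at h3
  simp only [zero_mul, mul_one, add_zero, zero_add, hd, if_false] at h3
  have h3' : A 0 0 / A 1 1 = 1 := OnePoint.coe_injective h3
  exact ⟨h1, hb, (div_eq_one_iff_eq hd).mp h3'⟩

lemma ker_psi (ι : OnePoint F ≃ α) : (psi ι).ker = Subgroup.center (GL (Fin 2) F) := by
  ext A
  rw [MonoidHom.mem_ker, Matrix.GeneralLinearGroup.mem_center_iff_val_mem_range_scalar]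
  constructor
  · intro hA
    obtain ⟨h1, h2, h3⟩ := entries_of_ker ι hA
    refine ⟨A 1 1, ?_⟩
    ext i j
    fin_cases i <;> fin_cases j <;> simp [h1, h2, h3, Matrix.scalar_apply]
  · rintro ⟨a, ha⟩
    have ha0 : a ≠ 0 := by
      rintro rfl
      have := A.det_ne_zero
      rw [← ha] at this
      simp at this
    have e00 : A 0 0 = a := by
      have := congrFun (congrFun ha 0) 0
      simpa [Matrix.scalar_apply] using this.symm
    have e11 : A 1 1 = a := by
      have := congrFun (congrFun ha 1) 1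
      simpa [Matrix.scalar_apply] using this.symm
    have e01 : A 0 1 = 0 := by
      have := congrFun (congrFun ha 0) 1
      simpa [Matrix.scalar_apply] using this.symm
    have e10 : A 1 0 = 0 := by
      have := congrFun (congrFun ha 1) 0
      simpa [Matrix.scalar_apply] using this.symm
    refine Equiv.ext fun y => ?_
    obtain ⟨p, rfl⟩ := ι.surjective y
    rw [psi_apply]
    simp only [Equiv.Perm.coe_one, id_eq]
    congr 1
    induction p using OnePoint.rec with
    | infty => rw [smul_infty']; simp [e10]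
    | coe x =>
      rw [smul_coe', e00, e11, e01, e10]
      simp [ha0]

/-- The isomorphism with `PGL₂(F)`. -/
theorem nonempty_pgl {G : Subgroup (Equiv.Perm α)} {ι : OnePoint F ≃ α} (h : MobData G ι) :
    Nonempty (G ≃* Matrix.ProjGenLinGroup (Fin 2) F) := by
  let f : GL (Fin 2) F →* G := (psi ι).codRestrict G (psi_mem h)
  have hf : Function.Surjective f := by
    rintro ⟨g, hg⟩
    obtain ⟨A, hA⟩ := exists_psi_eq h hg
    exact ⟨A, Subtype.ext hA⟩
  have hker : f.ker = Subgroup.center (GL (Fin 2) F) := by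
    rw [← ker_psi ι]
    ext A
    simp [f, MonoidHom.mem_ker, Subtype.ext_iff]
  have e1 : (GL (Fin 2) F ⧸ f.ker) ≃* G := QuotientGroup.quotientKerEquivOfSurjective f hf
  have e2 : (GL (Fin 2) F ⧸ f.ker) ≃* (GL (Fin 2) F ⧸ Subgroup.center (GL (Fin 2) F)) :=
    QuotientGroup.quotientMulEquivOfEq hker
  exact ⟨e1.symm.trans e2⟩

/-- In characteristic two (finite field), the isomorphism with `SL₂(F)`. -/
theorem nonempty_sl [Finite F] [CharP F 2] {G : Subgroup (Equiv.Perm α)} {ι : OnePoint F ≃ α}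
    (h : MobData G ι) : Nonempty (G ≃* Matrix.SpecialLinearGroup (Fin 2) F) := by
  have hsq : Function.Bijective (fun x : F => x ^ 2) := by
    have : Function.Injective (fun x : F => x ^ 2) := (frobenius F 2).injective
    exact Finite.injective_iff_bijective.mp this
  let f : Matrix.SpecialLinearGroup (Fin 2) F →* G :=
    ((psi ι).comp Matrix.SpecialLinearGroup.toGL).codRestrict G (fun A => psi_mem h _)
  have hinj : Function.Injective f := by
    rw [injective_iff_map_eq_one]
    intro A hA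
    have hA' : psi ι (Matrix.SpecialLinearGroup.toGL A) = 1 := congrArg Subtype.val hA
    obtain ⟨h1, h2, h3⟩ := entries_of_ker ι hA'
    have h1' : (A : Matrix (Fin 2) (Fin 2) F) 1 0 = 0 := h1
    have h2' : (A : Matrix (Fin 2) (Fin 2) F) 0 1 = 0 := h2
    have h3' : (A : Matrix (Fin 2) (Fin 2) F) 0 0 = (A : Matrix (Fin 2) (Fin 2) F) 1 1 := h3
    have hd := A.det_coe
    rw [det_fin_two, h1', h3'] at hd
    have hsq1 : ((A : Matrix (Fin 2) (Fin 2) F) 1 1) ^ 2 = (1 : F) ^ 2 := by
      simpa [pow_two] using hd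
    have h11 : (A : Matrix (Fin 2) (Fin 2) F) 1 1 = 1 := hsq.1 hsq1
    apply Subtype.ext
    ext i j
    fin_cases i <;> fin_cases j <;> simp [h1', h2', h3', h11]
  have hsurj : Function.Surjective f := by
    rintro ⟨g, hg⟩
    obtain ⟨A, hA⟩ := exists_psi_eq h hg
    obtain ⟨δ, hδ⟩ := hsq.2 A.1.det
    simp only at hδ
    have hδ0 : δ ≠ 0 := by
      rintro rfl
      have := A.det_ne_zero
      rw [← hδ] at this
      simp at this
    have hdet : (δ⁻¹ • A.1).det = 1 := by
      rw [Matrix.det_smul, Fintype.card_fin, ← hδ, inv_pow]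
      exact inv_mul_cancel₀ (pow_ne_zero _ hδ0)
    let B : Matrix.SpecialLinearGroup (Fin 2) F := ⟨δ⁻¹ • A.1, hdet⟩
    refine ⟨B, Subtype.ext ?_⟩
    show psi ι (Matrix.SpecialLinearGroup.toGL B) = g
    rw [← hA]
    have hz : (Matrix.SpecialLinearGroup.toGL B)⁻¹ * A ∈ Subgroup.center (GL (Fin 2) F) := by
      rw [Matrix.GeneralLinearGroup.mem_center_iff_val_mem_range_scalar]
      refine ⟨δ, ?_⟩
      have e : A.1 = δ • (Matrix.SpecialLinearGroup.toGL B).1 := by
        show A.1 = δ • (δ⁻¹ • A.1)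
        rw [smul_smul, mul_inv_cancel₀ hδ0, one_smul]
      rw [Units.val_mul]
      have : ((Matrix.SpecialLinearGroup.toGL B)⁻¹).1 * A.1 = δ • (1 : Matrix (Fin 2) (Fin 2) F) := by
        rw [e, Matrix.mul_smul, Units.inv_mul]
      rw [this]
      ext i j
      simp [Matrix.scalar_apply, Matrix.smul_apply, Matrix.one_apply, Matrix.diagonal_apply]
    rw [← ker_psi ι, MonoidHom.mem_ker, map_mul, map_inv] at hz
    exact (inv_mul_eq_one.mp hz)
  exact ⟨(MulEquiv.ofBijective f ⟨hinj, hsurj⟩).symm⟩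

end Cfsg.Agent.Lib.Sharp3Core
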