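import Mathlib

/-!
Finite sharply two-transitive permutation groups: the fixed-point-free elements together with the
identity form a normal abelian regular subgroup of prime exponent.
-/

set_option autoImplicit false

namespace Cfsg.Agent.Lib.Sharply2

variable {α : Type*}

/-- Sharply two-transitive group, in elementary form. -/
structure IsSharp2 (H : Subgroup (Equiv.Perm α)) : Prop where
  tr : ∀ {a b c d : α}, a ≠ b → c ≠ d → ∃ h ∈ H, h a = c ∧ h b = d
  sh : ∀ h ∈ H, ∀ {a b : α}, a ≠ b → h a = a → h b = b → h = 1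

lemma IsSharp2.of_stabilizer (H : Subgroup (Equiv.Perm α)) [h2 : MulAction.IsMultiplyPretransitive H α 2]
    (hsharp : ∀ x : Fin 2 ↪ α, MulAction.stabilizer H x = ⊥) : IsSharp2 H := by
  refine ⟨?_, ?_⟩
  · intro a b c d hab hcd
    obtain ⟨g, hg1, hg2⟩ := MulAction.is_two_pretransitive_iff.mp h2 hab hcd
    exact ⟨g, g.2, hg1, hg2⟩
  · intro h hh a b hab ha hb
    have : (⟨h, hh⟩ : H) ∈ MulAction.stabilizer H (Function.Embedding.embFinTwo hab) := by
      rw [MulAction.mem_stabilizer_iff]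
      ext i
      fin_cases i
      · exact ha
      · exact hb
    rw [hsharp, Subgroup.mem_bot] at this
    exact congrArg Subtype.val this

namespace IsSharp2

variable {H : Subgroup (Equiv.Perm α)} (hH : IsSharp2 H)
include hH

lemma uniq {h h' : Equiv.Perm α} (hh : h ∈ H) (hh' : h' ∈ H) {a b : α} (hab : a ≠ b)
    (e1 : h a = h' a) (e2 : h b = h' b) : h = h' := by
  have : h'⁻¹ * h = 1 := by
    apply hH.sh _ (H.mul_mem (H.inv_mem hh') hh) hab
    · simp [e1]
    · simp [e2]
  exact (inv_mul_eq_one.mp this).symm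

/-- The number-free form of the count: for `b ≠ c` there is exactly one fixed-point-free element of
`H` carrying `b` to `c`. -/
theorem existsUnique_fpf [Fintype α] [DecidableEq α] {b c : α} (hbc : b ≠ c) :
    ∃! y, y ∈ H ∧ (∀ e, y e ≠ e) ∧ y b = c := by
  classical
  have key : ∀ e, e ≠ b → e ≠ c → ∃ h ∈ H, h b = c ∧ h e = e := fun e h1 h2 => hH.tr h1.symm h2.symm
  choose! f hf1 hf2 hf3 using key
  let ψ : α → α := fun e => f e c
  let S : Finset α := (Finset.univ.erase b).erase c
  let T : Finset α := Finset.univ.erase c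
  have hS : ∀ e, e ∈ S ↔ e ≠ b ∧ e ≠ c := by
    intro e
    simp [S, and_comm]
  have hT : ∀ e, e ∈ T ↔ e ≠ c := by
    intro e
    simp [T]
  have hψinj : Set.InjOn ψ S := by
    intro e he e' he' hee'
    by_contra hne
    obtain ⟨h1, h2⟩ := (hS e).mp he
    obtain ⟨h1', h2'⟩ := (hS e').mp he'
    have heq : f e = f e' := hH.uniq (hf1 e h1 h2) (hf1 e' h1' h2') hbc
      (by rw [hf2 e h1 h2, hf2 e' h1' h2']) hee'
    have h3 : f e = 1 := by
      apply hH.sh _ (hf1 e h1 h2) hne (hf3 e h1 h2)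
      rw [heq, hf3 e' h1' h2']
    have h4 := hf2 e h1 h2
    rw [h3] at h4
    exact hbc h4
  have hIT : S.image ψ ⊆ T := by
    intro t ht
    obtain ⟨e, he, rfl⟩ := Finset.mem_image.mp ht
    obtain ⟨h1, h2⟩ := (hS e).mp he
    rw [hT]
    intro hcon
    have h4 : f e c = f e b := by
      have hcon' : f e c = c := hcon
      rw [hcon', hf2 e h1 h2]
    exact hbc ((f e).injective h4).symm
  have hcardS : S.card = Fintype.card α - 2 := by
    have h1 : c ∈ Finset.univ.erase b := by simp [hbc.symm]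
    rw [Finset.card_erase_of_mem h1, Finset.card_erase_of_mem (Finset.mem_univ _), Finset.card_univ]
    omega
  have hcardT : T.card = Fintype.card α - 1 := by
    rw [Finset.card_erase_of_mem (Finset.mem_univ _), Finset.card_univ]
  have hn : 2 ≤ Fintype.card α := by
    have : 1 < Fintype.card α := Fintype.one_lt_card_iff.mpr ⟨b, c, hbc⟩
    omega
  have hcardd : (T \ S.image ψ).card = 1 := by
    rw [Finset.card_sdiff_of_subset hIT, Finset.card_image_of_injOn hψinj, hcardS, hcardT]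
    omega
  obtain ⟨t₀, ht₀⟩ := Finset.card_eq_one.mp hcardd
  have ht₀mem : t₀ ∈ T \ S.image ψ := by rw [ht₀]; exact Finset.mem_singleton_self _
  have ht₀T : t₀ ≠ c := (hT _).mp (Finset.mem_sdiff.mp ht₀mem).1
  obtain ⟨h₀, hh₀, hh₀b, hh₀c⟩ := hH.tr hbc ht₀T.symm
  refine ⟨h₀, ⟨hh₀, ?_, hh₀b⟩, ?_⟩
  · intro e he
    have h1 : e ≠ b := by
      rintro rfl
      rw [hh₀b] at he
      exact hbc he.symm
    have h2 : e ≠ c := by
      rintro rfl
      rw [hh₀c] at he
      exact ht₀T he
    apply (Finset.mem_sdiff.mp ht₀mem).2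
    refine Finset.mem_image.mpr ⟨e, (hS e).mpr ⟨h1, h2⟩, ?_⟩
    have : h₀ = f e := hH.uniq hh₀ (hf1 e h1 h2) h1.symm (by rw [hh₀b, hf2 e h1 h2]) (by rw [he, hf3 e h1 h2])
    change f e c = t₀
    rw [← this, hh₀c]
  · rintro y ⟨hy, hyf, hyb⟩
    have hyc : y c ≠ c := hyf c
    have hmem : y c ∈ T \ S.image ψ := by
      rw [Finset.mem_sdiff]
      refine ⟨(hT _).mpr hyc, ?_⟩
      intro hcon
      obtain ⟨e, he, hee⟩ := Finset.mem_image.mp hcon
      obtain ⟨h1, h2⟩ := (hS e).mp he
      have : y = f e := hH.uniq hy (hf1 e h1 h2) hbc (by rw [hyb, hf2 e h1 h2]) hee.symm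
      apply hyf e
      rw [this, hf3 e h1 h2]
    rw [ht₀, Finset.mem_singleton] at hmem
    exact hH.uniq hy hh₀ hbc (by rw [hyb, hh₀b]) (by rw [hmem, hh₀c])

/-- Two fixed-point-free elements commute. -/
theorem commute_fpf [Fintype α] [DecidableEq α] {x y : Equiv.Perm α} (hx : x ∈ H) (hy : y ∈ H)
    (hxf : ∀ e, x e ≠ e) (hyf : ∀ e, y e ≠ e) : y * x = x * y := by
  classical
  by_cases hα : Nonempty α
  · obtain ⟨a⟩ := hα
    set b := y a with hb
    have hab : a ≠ b := (hyf a).symm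
    obtain ⟨h, hh, h1, h2⟩ := hH.tr (a := a) (b := x a) (c := b) (d := x b) (hxf a).symm (hxf b).symm
    -- `h x h⁻¹ = x`
    have hconj_f : ∀ e, (h * x * h⁻¹) e ≠ e := by
      intro e he
      apply hxf (h⁻¹ e)
      apply h.injective
      simpa using he
    have h3 : h * x * h⁻¹ = x := by
      have hu := hH.existsUnique_fpf (b := b) (c := x b) (hxf b).symm
      apply hu.unique
      · refine ⟨H.mul_mem (H.mul_mem hh hx) (H.inv_mem hh), hconj_f, ?_⟩
        have : h⁻¹ b = a := by rw [← h1]; simp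
        simp only [Equiv.Perm.coe_mul, Function.comp_apply]
        rw [this, h2]
      · exact ⟨hx, hxf, rfl⟩
    have hcomm : h * x = x * h := by
      calc h * x = h * x * h⁻¹ * h := by group
        _ = x * h := by rw [h3]
    have hhf : ∀ e, h e ≠ e := by
      intro e he
      have h4 : h (x e) = x e := by
        have := congrArg (fun p : Equiv.Perm α => p e) hcomm
        simp only [Equiv.Perm.coe_mul, Function.comp_apply, he] at this
        exact this
      have h5 : h = 1 := hH.sh _ hh (hxf e).symm he h4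
      rw [h5] at h1
      exact hab h1
    have hyh : y = h := by
      have hu := hH.existsUnique_fpf (b := a) (c := b) hab
      exact hu.unique ⟨hy, hyf, rfl⟩ ⟨hh, hhf, h1⟩
    rw [hyh, hcomm]
  · rw [not_nonempty_iff] at hα
    ext e
    exact (hα.false e).elim

/-- The subgroup of fixed-point-free elements and the identity. -/
def fpfSubgroup [Fintype α] [DecidableEq α] : Subgroup (Equiv.Perm α) where
  carrier := {y | y ∈ H ∧ (y = 1 ∨ ∀ e, y e ≠ e)}
  one_mem' := ⟨H.one_mem, Or.inl rfl⟩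
  mul_mem' := by
    rintro y z ⟨hy, hy1⟩ ⟨hz, hz1⟩
    refine ⟨H.mul_mem hy hz, ?_⟩
    rcases hy1 with rfl | hyf
    · simpa using hz1
    rcases hz1 with rfl | hzf
    · simpa using Or.inr hyf
    by_cases hone : y * z = 1
    · exact Or.inl hone
    · refine Or.inr ?_
      intro e he
      apply hone
      -- `y z` commutes with `y`
      have hc : y * (y * z) = (y * z) * y := by
        rw [mul_assoc, hH.commute_fpf hz hy hzf hyf]
      apply hH.sh _ (H.mul_mem hy hz) (hyf e).symm he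
      have := congrArg (fun p : Equiv.Perm α => p e) hc
      simp only [Equiv.Perm.coe_mul, Function.comp_apply] at this he
      simp only [Equiv.Perm.coe_mul, Function.comp_apply]
      rw [he] at this
      exact this.symm
  inv_mem' := by
    rintro y ⟨hy, hy1⟩
    refine ⟨H.inv_mem hy, ?_⟩
    rcases hy1 with rfl | hyf
    · simp
    · refine Or.inr ?_
      intro e he
      apply hyf e
      have : y (y⁻¹ e) = e := by simp
      rw [he] at this
      exact this

@[simp] lemma mem_fpfSubgroup [Fintype α] [DecidableEq α] {y : Equiv.Perm α} :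
    y ∈ hH.fpfSubgroup ↔ y ∈ H ∧ (y = 1 ∨ ∀ e, y e ≠ e) := Iff.rfl

lemma fpfSubgroup_le [Fintype α] [DecidableEq α] : hH.fpfSubgroup ≤ H := fun _ hy => hy.1

lemma conj_mem_fpf [Fintype α] [DecidableEq α] {g y : Equiv.Perm α} (hg : g ∈ H)
    (hy : y ∈ hH.fpfSubgroup) : g * y * g⁻¹ ∈ hH.fpfSubgroup := by
  refine ⟨H.mul_mem (H.mul_mem hg hy.1) (H.inv_mem hg), ?_⟩
  rcases hy.2 with rfl | hyf
  · simp
  · refine Or.inr ?_
    intro e he
    apply hyf (g⁻¹ e)
    apply g.injective
    simpa using he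

lemma regular_exists [Fintype α] [DecidableEq α] (b c : α) :
    ∃ y ∈ hH.fpfSubgroup, y b = c := by
  by_cases hbc : b = c
  · exact ⟨1, one_mem _, by simp [hbc]⟩
  · obtain ⟨y, ⟨hy, hyf, hyb⟩, -⟩ := hH.existsUnique_fpf hbc
    exact ⟨y, ⟨hy, Or.inr hyf⟩, hyb⟩

lemma regular_unique [Fintype α] [DecidableEq α] {y z : Equiv.Perm α} (hy : y ∈ hH.fpfSubgroup)
    (hz : z ∈ hH.fpfSubgroup) {b : α} (h : y b = z b) : y = z := by
  have h1 : z⁻¹ * y ∈ hH.fpfSubgroup := mul_mem (inv_mem hz) hy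
  have h2 : (z⁻¹ * y) b = b := by simp [h]
  rcases h1.2 with h3 | h3
  · exact (inv_mul_eq_one.mp h3).symm
  · exact (h3 b h2).elim

lemma commute_of_mem_fpf [Fintype α] [DecidableEq α] {y z : Equiv.Perm α} (hy : y ∈ hH.fpfSubgroup)
    (hz : z ∈ hH.fpfSubgroup) : y * z = z * y := by
  rcases hy.2 with rfl | hyf
  · simp
  rcases hz.2 with rfl | hzf
  · simp
  exact hH.commute_fpf hz.1 hy.1 hzf hyf

/-- All non-identity elements of the fixed-point-free subgroup are conjugate in `H`. -/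
lemma fpf_conj [Fintype α] [DecidableEq α] {y z : Equiv.Perm α} (hy : y ∈ H) (hz : z ∈ H)
    (hyf : ∀ e, y e ≠ e) (hzf : ∀ e, z e ≠ e) (b : α) : ∃ g ∈ H, g * y * g⁻¹ = z := by
  obtain ⟨g, hg, h1, h2⟩ := hH.tr (a := b) (b := y b) (c := b) (d := z b) (hyf b).symm (hzf b).symm
  refine ⟨g, hg, ?_⟩
  have hu := hH.existsUnique_fpf (b := b) (c := z b) (hzf b).symm
  apply hu.unique
  · refine ⟨H.mul_mem (H.mul_mem hg hy) (H.inv_mem hg), ?_, ?_⟩
    · intro e he
      apply hyf (g⁻¹ e)
      apply g.injective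
      simpa using he
    · have : g⁻¹ b = b := by
        rw [Equiv.Perm.inv_eq_iff_eq]
        exact h1.symm
      simp only [Equiv.Perm.coe_mul, Function.comp_apply]
      rw [this, h2]
  · exact ⟨hz, hzf, rfl⟩

/-- The prime exponent of the fixed-point-free subgroup. -/
theorem exists_prime_exponent [Fintype α] [DecidableEq α] (h2 : 2 ≤ Fintype.card α) :
    ∃ p : ℕ, p.Prime ∧ (∀ y ∈ hH.fpfSubgroup, y ^ p = 1) ∧
      ∃ j : ℕ, 1 ≤ j ∧ Fintype.card α = p ^ j ∧ Nat.card hH.fpfSubgroup = p ^ j := by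
  classical
  have hnt : Nontrivial α := Fintype.one_lt_card_iff_nontrivial.mp (by omega)
  obtain ⟨b, c, hbc⟩ := exists_pair_ne α
  obtain ⟨x, ⟨hx, hxf, hxb⟩, -⟩ := hH.existsUnique_fpf hbc
  have hx1 : x ≠ 1 := by
    rintro rfl
    exact hxf b rfl
  have hord : orderOf x ≠ 1 := by
    simpa [orderOf_eq_one_iff] using hx1
  obtain ⟨p, hp, hpd⟩ := Nat.exists_prime_and_dvd hord
  have hxmem : x ∈ hH.fpfSubgroup := ⟨hx, Or.inr hxf⟩
  -- an element of order `p` in the subgroup
  have hordpos : 0 < orderOf x := orderOf_pos x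
  set w := x ^ (orderOf x / p) with hw
  have hwmem : w ∈ hH.fpfSubgroup := pow_mem hxmem _
  have hwo : orderOf w = p := by
    rw [hw]
    exact orderOf_pow_orderOf_div hordpos.ne' hpd
  have hw1 : w ≠ 1 := by
    rintro h
    rw [h, orderOf_one] at hwo
    exact hp.one_lt.ne hwo
  have hwf : ∀ e, w e ≠ e := by
    rcases hwmem.2 with h | h
    · exact absurd h hw1
    · exact h
  have hexp : ∀ y ∈ hH.fpfSubgroup, y ^ p = 1 := by
    intro y hy
    rcases hy.2 with rfl | hyf
    · simp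
    · obtain ⟨g, -, hg⟩ := hH.fpf_conj hwmem.1 hy.1 hwf hyf b
      rw [← hg, conj_pow, ← hwo, pow_orderOf_eq_one]
      simp
  -- the count
  have hcardF : Nat.card hH.fpfSubgroup = Fintype.card α := by
    rw [← Nat.card_eq_fintype_card]
    refine Nat.card_congr (Equiv.ofBijective (fun y : hH.fpfSubgroup => (y : Equiv.Perm α) b) ⟨?_, ?_⟩)
    · intro y z hyz
      exact Subtype.ext (hH.regular_unique y.2 z.2 hyz)
    · intro c'
      obtain ⟨y, hy, hyc⟩ := hH.regular_exists b c'
      exact ⟨⟨y, hy⟩, hyc⟩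
  have hfact : Fact p.Prime := ⟨hp⟩
  have hpg : IsPGroup p hH.fpfSubgroup := by
    intro y
    refine ⟨1, ?_⟩
    apply Subtype.ext
    simpa using hexp y y.2
  obtain ⟨j, hj⟩ := IsPGroup.iff_card.mp hpg
  refine ⟨p, hp, hexp, j, ?_, ?_, hj⟩
  · rcases Nat.eq_zero_or_pos j with rfl | hj0
    · rw [hcardF] at hj
      simp at hj
      omega
    · exact hj0
  · rw [← hcardF, hj]

end IsSharp2

end Cfsg.Agent.Lib.Sharply2
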