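import Mathlib
import Cfsg.Agent.Lib.Sharply2

/-!
A sharply 2-transitive group whose two-point... (one-point stabilisers in the point stabiliser)
are commutative makes the set it acts on into a field.
-/

set_option autoImplicit false
set_option linter.all false

namespace Cfsg.Agent.Lib.Sharp3Field

open Cfsg.Agent.Lib.Sharply2

variable {X : Type*} [Fintype X] [DecidableEq X] {B : Subgroup (Equiv.Perm X)}

theorem exists_field (hB : IsSharp2 B) {o e : X} (hoe : o ≠ e)
    (hcomm : ∀ h ∈ B, ∀ k ∈ B, h o = o → k o = o → h * k = k * h) :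
    ∃ _ : Field X, (0 : X) = o ∧ (1 : X) = e ∧ (∀ b : X, ∃ n ∈ B, ∀ x, n x = x + b) ∧
      (∀ a : X, a ≠ 0 → ∃ h ∈ B, h o = o ∧ ∀ x, h x = a * x) := by
  classical
  have hn : ∀ x : X, ∃ y ∈ hB.fpfSubgroup, y o = x := fun x => hB.regular_exists o x
  choose n hnN hno using hn
  have hnuniq : ∀ {y : Equiv.Perm X}, y ∈ hB.fpfSubgroup → n (y o) = y :=
    fun hy => hB.regular_unique (hnN _) hy (hno _)
  have hh : ∀ x : X, x ≠ o → ∃ h ∈ B, h o = o ∧ h e = x := fun x hx => hB.tr hoe hx.symm
  choose! m hmB hmo hme using hh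
  have n_add : ∀ x y, n (n x y) = n x * n y := by
    intro x y
    have := hnuniq (mul_mem (hnN x) (hnN y))
    rwa [Equiv.Perm.coe_mul, Function.comp_apply, hno] at this
  have n_comm : ∀ x y, n x * n y = n y * n x := fun x y =>
    hB.commute_of_mem_fpf (hnN x) (hnN y)
  have n_o : n o = 1 := by
    have := hnuniq (one_mem hB.fpfSubgroup)
    simpa using this
  have m_ne : ∀ x y, x ≠ o → y ≠ o → m x y ≠ o := by
    intro x y hx hy h
    apply hy
    apply (m x).injective
    rw [h, hmo x hx]
  have m_conj : ∀ x y, x ≠ o → m x * n y = n (m x y) * m x := by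
    intro x y hx
    have h1 := hnuniq (hB.conj_mem_fpf (hmB x hx) (hnN y))
    have h2 : (m x * n y * (m x)⁻¹) o = m x y := by
      have : (m x)⁻¹ o = o := by
        rw [Equiv.Perm.inv_eq_iff_eq, hmo x hx]
      rw [Equiv.Perm.mul_apply, Equiv.Perm.mul_apply, this, hno]
    rw [h2] at h1
    rw [h1]
    simp
  have m_mul : ∀ x y, x ≠ o → y ≠ o → m (m x y) = m x * m y := by
    intro x y hx hy
    apply hB.uniq (hmB _ (m_ne x y hx hy)) (mul_mem (hmB x hx) (hmB y hy)) hoe
    · rw [hmo _ (m_ne x y hx hy)]
      simp [hmo x hx, hmo y hy]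
    · rw [hme _ (m_ne x y hx hy)]
      simp [hme y hy]
  have m_e : m e = 1 := by
    apply hB.uniq (hmB e hoe.symm) (one_mem B) hoe
    · simp [hmo e hoe.symm]
    · simp [hme e hoe.symm]
  -- the operations
  let mul' : X → X → X := fun x y => if x = o then o else m x y
  have mul_o : ∀ y, mul' o y = o := fun y => by simp [mul']
  have mul_ne : ∀ x y, x ≠ o → mul' x y = m x y := fun x y hx => by simp [mul', hx]
  have hadd_assoc : ∀ a b c : X, n (n a b) c = n a (n b c) := by
    intro a b c
    rw [n_add]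
    rfl
  have hadd_comm : ∀ a b : X, n a b = n b a := by
    intro a b
    have := congrArg (fun p : Equiv.Perm X => p o) (n_comm a b)
    simpa [hno] using this
  have hzero_add : ∀ a : X, n o a = a := by
    intro a
    rw [n_o]
    rfl
  have hadd_zero : ∀ a : X, n a o = a := hno
  have hneg_add : ∀ a : X, n ((n a)⁻¹ o) a = o := by
    intro a
    rw [hadd_comm]
    simp
  have hleft : ∀ a b c : X, mul' a (n b c) = n (mul' a b) (mul' a c) := by
    intro a b c
    by_cases ha : a = o
    · rw [ha, mul_o, mul_o, mul_o, hzero_add]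
    · rw [mul_ne _ _ ha, mul_ne _ _ ha, mul_ne _ _ ha]
      have := congrArg (fun p : Equiv.Perm X => p c) (m_conj a b ha)
      simpa using this
  have hmul_comm : ∀ a b : X, mul' a b = mul' b a := by
    intro a b
    by_cases ha : a = o
    · rw [ha, mul_o]
      by_cases hb : b = o
      · rw [hb, mul_o]
      · rw [mul_ne _ _ hb, hmo b hb]
    · by_cases hb : b = o
      · rw [hb, mul_o, mul_ne _ _ ha, hmo a ha]
      · rw [mul_ne _ _ ha, mul_ne _ _ hb]
        have := congrArg (fun p : Equiv.Perm X => p e)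
          (hcomm _ (hmB a ha) _ (hmB b hb) (hmo a ha) (hmo b hb))
        simpa [hme a ha, hme b hb] using this
  have hright : ∀ a b c : X, mul' (n a b) c = n (mul' a c) (mul' b c) := by
    intro a b c
    rw [hmul_comm, hleft, hmul_comm c a, hmul_comm c b]
  have hzero_mul : ∀ a : X, mul' o a = o := mul_o
  have hmul_zero : ∀ a : X, mul' a o = o := fun a => by rw [hmul_comm, mul_o]
  have hmul_assoc : ∀ a b c : X, mul' (mul' a b) c = mul' a (mul' b c) := by
    intro a b c
    by_cases ha : a = o
    · rw [ha, mul_o, mul_o, mul_o]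
    by_cases hb : b = o
    · rw [hb, hmul_zero, mul_o, hmul_zero]
    rw [mul_ne _ _ ha, mul_ne _ _ hb, mul_ne _ _ (m_ne a b ha hb), m_mul a b ha hb, mul_ne _ _ ha]
    rfl
  have hone_mul : ∀ a : X, mul' e a = a := by
    intro a
    rw [mul_ne _ _ hoe.symm, m_e]
    rfl
  have hmul_one : ∀ a : X, mul' a e = a := fun a => by rw [hmul_comm, hone_mul]
  letI iz : Zero X := ⟨o⟩
  letI ia : Add X := ⟨fun x y => n x y⟩
  letI ineg : Neg X := ⟨fun x => (n x)⁻¹ o⟩
  letI ac : AddCommGroup X :=
    { add_assoc := hadd_assoc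
      zero_add := hzero_add
      add_zero := hadd_zero
      nsmul := nsmulRec
      neg_add_cancel := hneg_add
      add_comm := hadd_comm
      zsmul := zsmulRec }
  letI cr : CommRing X :=
    { ac with
      mul := mul'
      left_distrib := hleft
      right_distrib := hright
      zero_mul := hzero_mul
      mul_zero := hmul_zero
      mul_assoc := hmul_assoc
      one := e
      one_mul := hone_mul
      mul_one := hmul_one
      mul_comm := hmul_comm }
  have hf : IsField X :=
    { exists_pair_ne := ⟨o, e, hoe⟩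
      mul_comm := hmul_comm
      mul_inv_cancel := by
        intro a ha
        have ha' : a ≠ o := ha
        refine ⟨(m a)⁻¹ e, ?_⟩
        show mul' a ((m a)⁻¹ e) = e
        rw [mul_ne _ _ ha']
        simp }
  refine ⟨hf.toField, rfl, rfl, ?_, ?_⟩
  · intro b
    refine ⟨n b, (hnN b).1, ?_⟩
    intro x
    show n b x = n x b
    exact hadd_comm b x
  · intro a ha
    have ha' : a ≠ o := ha
    refine ⟨m a, hmB a ha', hmo a ha', ?_⟩
    intro x
    show m a x = mul' a x
    rw [mul_ne _ _ ha']

end Cfsg.Agent.Lib.Sharp3Field
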