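import Mathlib
import Cfsg.Agent.Lib.Sharp3Core
import Cfsg.Agent.Lib.Sharp3Field

/-!
Zassenhaus: a sharply 3-transitive group of odd degree `m` has `m = 2^a + 1` and is `PGL₂(2^a)`,
equivalently `SL₂(2^a)`.
-/

set_option autoImplicit false
set_option linter.all false

namespace Cfsg.Agent.Lib.Sharp3Even

open Cfsg.Agent.Lib.Sharply2 Cfsg.Agent.Lib.Sharp3Core Cfsg.Agent.Lib.Sharp3Field OnePoint

variable {α : Type*} [Fintype α] [DecidableEq α]

/-- Sharply 3-transitive, in elementary form. -/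
structure Sharp3 (G : Subgroup (Equiv.Perm α)) : Prop where
  tr : ∀ {a b c a' b' c' : α}, a ≠ b → a ≠ c → b ≠ c → a' ≠ b' → a' ≠ c' → b' ≠ c' →
    ∃ g ∈ G, g a = a' ∧ g b = b' ∧ g c = c'
  sh : ∀ g ∈ G, ∀ {a b c : α}, a ≠ b → a ≠ c → b ≠ c → g a = a → g b = b → g c = c → g = 1

/-- A fixed-point-free involutory automorphism inverts everything. -/
lemma inverts_of_fpf {H : Type*} [Group H] [Finite H] (τ : H →* H) (h2 : ∀ x, τ (τ x) = x)
    (hfix : ∀ x, τ x = x → x = 1) (z : H) : τ z = z⁻¹ := by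
  have hinj : Function.Injective (fun x : H => x⁻¹ * τ x) := by
    intro x y hxy
    simp only at hxy
    have h1 : y * x⁻¹ = τ y * (τ x)⁻¹ := by
      have : x⁻¹ * τ x = y⁻¹ * τ y := hxy
      have h3 : y * x⁻¹ * τ x = τ y := by
        rw [mul_assoc, this, mul_inv_cancel_left]
      exact eq_mul_inv_of_mul_eq h3
    have h4 : τ (y * x⁻¹) = y * x⁻¹ := by
      rw [map_mul, map_inv, h1]
    have := hfix _ h4
    exact (mul_inv_eq_one.mp this).symm
  obtain ⟨x, rfl⟩ := (Finite.injective_iff_surjective.mp hinj) z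
  simp only [map_mul, map_inv, h2, mul_inv_rev, inv_inv]

section restrict

variable (G : Subgroup (Equiv.Perm α)) (i : α)

/-- The point stabiliser, as a group of permutations of the remaining points. -/
def stabRestrict : Subgroup (Equiv.Perm {x : α // x ≠ i}) where
  carrier := {p | ∃ g ∈ G, g i = i ∧ ∀ x : {x : α // x ≠ i}, ((p x : {x : α // x ≠ i}) : α) = g x}
  one_mem' := ⟨1, G.one_mem, rfl, fun _ => rfl⟩
  mul_mem' := by
    rintro p q ⟨g, hg, hgi, hgp⟩ ⟨k, hk, hki, hkq⟩
    refine ⟨g * k, G.mul_mem hg hk, by simp [hki, hgi], ?_⟩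
    intro x
    simp [hgp, hkq]
  inv_mem' := by
    rintro p ⟨g, hg, hgi, hgp⟩
    refine ⟨g⁻¹, G.inv_mem hg, ?_, ?_⟩
    · rw [Equiv.Perm.inv_eq_iff_eq, hgi]
    · intro x
      rw [Equiv.Perm.eq_inv_iff_eq, ← hgp]
      simp

lemma mem_stabRestrict_of {g : Equiv.Perm α} (hg : g ∈ G) (hgi : g i = i) :
    ∃ p ∈ stabRestrict G i, ∀ x : {x : α // x ≠ i}, ((p x : {x : α // x ≠ i}) : α) = g x := by
  have hne : ∀ x, g x ≠ i ↔ x ≠ i := by
    intro x
    rw [not_iff_not]
    constructor
    · intro h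
      apply g.injective
      rw [h, hgi]
    · rintro rfl
      exact hgi
  refine ⟨g.subtypePerm hne, ⟨g, hg, hgi, fun x => rfl⟩, fun x => rfl⟩

lemma isSharp2_stabRestrict (hG : Sharp3 G) : IsSharp2 (stabRestrict G i) := by
  refine ⟨?_, ?_⟩
  · rintro ⟨a, ha⟩ ⟨b, hb⟩ ⟨c, hc⟩ ⟨d, hd⟩ hab hcd
    have hab' : a ≠ b := fun h => hab (Subtype.ext h)
    have hcd' : c ≠ d := fun h => hcd (Subtype.ext h)
    obtain ⟨g, hg, h1, h2, h3⟩ := hG.tr ha.symm hb.symm hab' hc.symm hd.symm hcd'
    obtain ⟨p, hp, hpg⟩ := mem_stabRestrict_of G i hg h1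
    refine ⟨p, hp, Subtype.ext ?_, Subtype.ext ?_⟩
    · rw [hpg]; exact h2
    · rw [hpg]; exact h3
  · rintro p ⟨g, hg, hgi, hgp⟩ ⟨a, ha⟩ ⟨b, hb⟩ hab h1 h2
    have hab' : a ≠ b := fun h => hab (Subtype.ext h)
    have h1' : g a = a := by
      have := hgp ⟨a, ha⟩
      rw [h1] at this
      exact this.symm
    have h2' : g b = b := by
      have := hgp ⟨b, hb⟩
      rw [h2] at this
      exact this.symm
    have hg1 := hG.sh g hg ha.symm hb.symm hab' hgi h1' h2'
    ext x
    rw [hgp, hg1]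
    rfl

end restrict

/-- The two-point stabiliser. -/
def stabTwo (G : Subgroup (Equiv.Perm α)) (i o : α) : Subgroup (Equiv.Perm α) where
  carrier := {g | g ∈ G ∧ g i = i ∧ g o = o}
  one_mem' := ⟨G.one_mem, rfl, rfl⟩
  mul_mem' := by
    rintro g k ⟨hg, hgi, hgo⟩ ⟨hk, hki, hko⟩
    exact ⟨G.mul_mem hg hk, by simp [hki, hgi], by simp [hko, hgo]⟩
  inv_mem' := by
    rintro g ⟨hg, hgi, hgo⟩
    refine ⟨G.inv_mem hg, ?_, ?_⟩
    · rw [Equiv.Perm.inv_eq_iff_eq, hgi]
    · rw [Equiv.Perm.inv_eq_iff_eq, hgo]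

/-- An involution swapping `i, o`, with a fixed point `e` and no other. -/
theorem conj_inverts {G : Subgroup (Equiv.Perm α)} (hG : Sharp3 G) {i o e : α} (hio : i ≠ o)
    (hie : i ≠ e) (hoe : o ≠ e) {σ : Equiv.Perm α} (hσ : σ ∈ G) (hσi : σ i = o) (hσo : σ o = i)
    (hσe : σ e = e) (hfix : ∀ z, σ z = z → z = e) {g : Equiv.Perm α} (hg : g ∈ stabTwo G i o) :
    σ * g * σ⁻¹ = g⁻¹ := by
  classical
  have hσ2 : σ * σ = 1 := hG.sh _ (G.mul_mem hσ hσ) hio hie hoe (by simp [hσi, hσo])
    (by simp [hσi, hσo]) (by simp [hσe])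
  have hσinv : σ⁻¹ = σ := inv_eq_of_mul_eq_one_left hσ2
  have hmem : ∀ x : stabTwo G i o, σ * x.1 * σ⁻¹ ∈ stabTwo G i o := by
    rintro ⟨x, hx, hxi, hxo⟩
    refine ⟨G.mul_mem (G.mul_mem hσ hx) (G.inv_mem hσ), ?_, ?_⟩
    · simp [hσinv, hσi, hxo, hσo]
    · simp [hσinv, hσo, hxi, hσi]
  let τ : stabTwo G i o →* stabTwo G i o :=
    { toFun := fun x => ⟨σ * x.1 * σ⁻¹, hmem x⟩
      map_one' := by
        apply Subtype.ext
        simp
      map_mul' := by
        intro x y
        apply Subtype.ext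
        simp [mul_assoc] }
  have h2 : ∀ x, τ (τ x) = x := by
    intro x
    apply Subtype.ext
    show σ * (σ * x.1 * σ⁻¹) * σ⁻¹ = x.1
    rw [hσinv]
    calc σ * (σ * x.1 * σ) * σ = (σ * σ) * x.1 * (σ * σ) := by simp only [mul_assoc]
      _ = x.1 := by rw [hσ2]; simp
  have hf : ∀ x, τ x = x → x = 1 := by
    rintro ⟨x, hx, hxi, hxo⟩ hτ
    have hc : σ * x * σ⁻¹ = x := congrArg Subtype.val hτ
    have hc' : σ * x = x * σ := by
      rw [← hc]
      simp
      rw [hc]
    have h1 : σ (x e) = x e := by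
      have := congrArg (fun p : Equiv.Perm α => p e) hc'
      simpa [hσe] using this
    have h3 := hfix _ h1
    have : x = 1 := hG.sh x hx hio hie hoe hxi hxo h3
    exact Subtype.ext this
  have := inverts_of_fpf τ h2 hf ⟨g, hg⟩
  exact congrArg Subtype.val this

/-- An involution of odd degree has a unique fixed point, when it has at most two. -/
theorem unique_fix {G : Subgroup (Equiv.Perm α)} (hG : Sharp3 G) (hodd : Odd (Fintype.card α))
    {i o e : α} (hio : i ≠ o) (hie : i ≠ e) (hoe : o ≠ e) {σ : Equiv.Perm α} (hσ : σ ∈ G)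
    (hσi : σ i = o) (hσo : σ o = i) (hσe : σ e = e) (z : α) (hz : σ z = z) : z = e := by
  classical
  by_contra hze
  have hσ2 : σ * σ = 1 := hG.sh _ (G.mul_mem hσ hσ) hio hie hoe (by simp [hσi, hσo])
    (by simp [hσi, hσo]) (by simp [hσe])
  have hσσ : ∀ x, σ (σ x) = x := fun x => by
    have := congrArg (fun p : Equiv.Perm α => p x) hσ2
    simpa using this
  -- a third fixed point
  let D : Finset α := (Finset.univ.erase e).erase z
  have hD : ∀ x, x ∈ D ↔ x ≠ z ∧ x ≠ e := by
    intro x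
    simp [D]
  have hcard : D.card = Fintype.card α - 2 := by
    have h1 : e ∈ (Finset.univ : Finset α) := Finset.mem_univ e
    have h2 : z ∈ Finset.univ.erase e := by simp [hze]
    simp only [D]
    rw [Finset.card_erase_of_mem h2, Finset.card_erase_of_mem h1, Finset.card_univ]
    omega
  have hex : ∃ w ∈ D, σ w = w := by
    by_contra hc
    push Not at hc
    have h0 : ∑ x ∈ D, (1 : ZMod 2) = 0 := by
      apply Finset.sum_involution (fun a _ => σ a)
      · intro a ha; decide
      · intro a ha _; exact hc a ha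
      · intro a ha
        rw [hD] at ha ⊢
        constructor
        · intro h
          apply ha.1
          apply σ.injective
          rw [h, hz]
        · intro h
          apply ha.2
          apply σ.injective
          rw [h, hσe]
      · intro a ha; exact hσσ a
    simp only [Finset.sum_const, nsmul_eq_mul, mul_one] at h0
    rw [ZMod.natCast_eq_zero_iff, hcard] at h0
    obtain ⟨k, hk⟩ := hodd
    have hge : 2 ≤ Fintype.card α := by
      have : 1 < Fintype.card α := Fintype.one_lt_card_iff.mpr ⟨z, e, hze⟩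
      omega
    omega
  obtain ⟨w, hw, hσw⟩ := hex
  rw [hD] at hw
  have h1 : σ = 1 := hG.sh σ hσ hw.1 hw.2 hze hσw hz hσe
  rw [h1] at hσi
  exact hio hσi

theorem main {G : Subgroup (Equiv.Perm α)} (hG : Sharp3 G) (hodd : Odd (Fintype.card α))
    (h3 : 3 ≤ Fintype.card α) :
    ∃ a : ℕ, 1 ≤ a ∧ Fintype.card α = 2 ^ a + 1 ∧
      ∃ (F : Type) (_ : Field F) (_ : Fintype F), Fintype.card F = 2 ^ a ∧
        Nonempty (G ≃* Matrix.ProjGenLinGroup (Fin 2) F) ∧
        Nonempty (G ≃* Matrix.SpecialLinearGroup (Fin 2) F) := by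
  classical
  obtain ⟨i, o, e, hio, hie, hoe⟩ := Fintype.two_lt_card_iff.mp (by omega : 2 < Fintype.card α)
  obtain ⟨σ, hσ, hσi, hσo, hσe⟩ := hG.tr hio hie hoe hio.symm hoe hie
  have hfix := unique_fix hG hodd hio hie hoe hσ hσi hσo hσe
  have hinv : ∀ {g}, g ∈ stabTwo G i o → σ * g * σ⁻¹ = g⁻¹ := fun hg =>
    conj_inverts hG hio hie hoe hσ hσi hσo hσe hfix hg
  let X := {x : α // x ≠ i}
  have hB := isSharp2_stabRestrict G i hG
  let o' : X := ⟨o, hio.symm⟩
  let e' : X := ⟨e, hie.symm⟩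
  have hoe' : o' ≠ e' := fun h => hoe (congrArg Subtype.val h)
  have hcomm : ∀ h ∈ stabRestrict G i, ∀ k ∈ stabRestrict G i, h o' = o' → k o' = o' →
      h * k = k * h := by
    rintro h ⟨g, hg, hgi, hgh⟩ k ⟨l, hl, hli, hlk⟩ hho hko
    have hgo : g o = o := by
      have := hgh o'
      rw [hho] at this
      exact this.symm
    have hlo : l o = o := by
      have := hlk o'
      rw [hko] at this
      exact this.symm
    have hg2 : g ∈ stabTwo G i o := ⟨hg, hgi, hgo⟩
    have hl2 : l ∈ stabTwo G i o := ⟨hl, hli, hlo⟩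
    have h1 := hinv hg2
    have h2 := hinv hl2
    have h3 := hinv (mul_mem hg2 hl2)
    have h4 : g * l = l * g := by
      have : (g * l)⁻¹ = g⁻¹ * l⁻¹ := by
        rw [← h3, ← h1, ← h2]
        simp [mul_assoc]
      have h5 : l⁻¹ * g⁻¹ = g⁻¹ * l⁻¹ := by rwa [mul_inv_rev] at this
      have h6 := congrArg (fun x => x⁻¹) h5
      simpa [mul_inv_rev] using h6
    ext x
    have := congrArg (fun p : Equiv.Perm α => p x.1) h4
    simpa [hgh, hlk, Equiv.Perm.mul_apply] using this
  obtain ⟨inst, h0, h1, ht, hm⟩ := exists_field hB hoe' hcomm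
  -- the characteristic
  obtain ⟨p, hp⟩ := CharP.exists X
  obtain ⟨n, hpp, hcardX⟩ := FiniteField.card X p
  have hcardα : Fintype.card α = Fintype.card X + 1 := by
    have : Fintype.card X = Fintype.card α - 1 := by
      rw [Fintype.card_subtype_compl, Fintype.card_subtype_eq]
    have hpos : 1 ≤ Fintype.card α := by omega
    omega
  have heven : 2 ∣ Fintype.card X := by
    obtain ⟨k, hk⟩ := hodd
    exact ⟨k, by omega⟩
  have hp2 : p = 2 := by
    rw [hcardX] at heven
    exact ((Nat.prime_dvd_prime_iff_eq Nat.prime_two hpp).mp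
      (Nat.Prime.dvd_of_dvd_pow Nat.prime_two heven)).symm
  subst hp2
  have hn0 : (n : ℕ) ≠ 0 := n.pos.ne'
  -- transport to the Galois field
  letI : Fintype (GaloisField 2 n) := Fintype.ofFinite _
  have hcardF : Fintype.card (GaloisField 2 n) = 2 ^ (n : ℕ) := by
    rw [← Nat.card_eq_fintype_card]
    exact GaloisField.card 2 n hn0
  let E : X ≃+* GaloisField 2 n := FiniteField.ringEquivOfCardEq (by rw [hcardX, hcardF])
  refine ⟨n, n.pos, by rw [hcardα, hcardX], GaloisField 2 n, inferInstance, inferInstance, hcardF, ?_⟩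
  -- the identification of the projective line with `α`
  let ι : OnePoint (GaloisField 2 n) ≃ α :=
    { toFun := fun p => p.elim i (fun x => (E.symm x).1)
      invFun := fun y => if h : y = i then ∞ else ((E ⟨y, h⟩ : GaloisField 2 n) : OnePoint _)
      left_inv := by
        intro p
        induction p using OnePoint.rec with
        | infty => simp
        | coe x =>
          have hne := (E.symm x).2
          simp [hne]
      right_inv := by
        intro y
        by_cases h : y = i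
        · simp [h]
        · simp [h] }
  have hιI : ι ∞ = i := rfl
  have hιx : ∀ x : GaloisField 2 n, ι (x : OnePoint _) = (E.symm x).1 := fun x => rfl
  have h00 : (E.symm (0 : GaloisField 2 n)).1 = o := by
    rw [map_zero]
    exact congrArg Subtype.val h0
  have h11 : (E.symm (1 : GaloisField 2 n)).1 = e := by
    rw [map_one]
    exact congrArg Subtype.val h1
  have hMob : MobData G ι := by
    refine ⟨?_, ?_, ?_, ?_⟩
    · intro g hg h1' h2' h3'
      rw [hιI] at h1'
      rw [hιx, h00] at h2'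
      rw [hιx, h11] at h3'
      exact hG.sh g hg hio hie hoe h1' h2' h3'
    · intro b
      obtain ⟨q, ⟨g, hg, hgi, hgq⟩, hq⟩ := ht (E.symm b)
      refine ⟨g, hg, hgi, ?_⟩
      intro x
      rw [hιx, hιx, ← hgq, hq, map_add]
    · intro a ha
      have ha' : E.symm a ≠ 0 := fun h => ha ((map_eq_zero E.symm).mp h)
      obtain ⟨q, ⟨g, hg, hgi, hgq⟩, -, hq⟩ := hm (E.symm a) ha'
      refine ⟨g, hg, hgi, ?_⟩
      intro x
      rw [hιx, hιx, ← hgq, hq, map_mul]
    · refine ⟨σ, hσ, ?_, ?_, ?_⟩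
      · rw [hιx, h00, hιI, hσi]
      · rw [hιx, h00, hιI, hσo]
      · intro x hx
        rw [hιx, hιx, map_inv₀]
        have hx' : E.symm x ≠ 0 := fun h => hx ((map_eq_zero E.symm).mp h)
        generalize E.symm x = y at hx' ⊢
        obtain ⟨q, ⟨g, hg, hgi, hgq⟩, hqo, hq⟩ := hm y hx'
        have hgo : g o = o := by
          have h5 := hgq o'
          rw [hqo] at h5
          exact h5.symm
        have hge : g e = y.1 := by
          have h5 := hgq e'
          rw [hq] at h5
          rw [← h5]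
          have : e' = 1 := h1.symm
          rw [this, mul_one]
        have h6 := hinv (show g ∈ stabTwo G i o from ⟨hg, hgi, hgo⟩)
        have hσinv : σ⁻¹ = σ := by
          have hσ2 : σ * σ = 1 := hG.sh _ (G.mul_mem hσ hσ) hio hie hoe (by simp [hσi, hσo])
            (by simp [hσi, hσo]) (by simp [hσe])
          exact inv_eq_of_mul_eq_one_left hσ2
        have h7 : σ (y.1) = g⁻¹ e := by
          rw [← h6, ← hge, hσinv]
          simp [hσe]
        rw [h7, Equiv.Perm.inv_eq_iff_eq, ← hgq, hq, mul_inv_cancel₀ hx']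
        exact (congrArg Subtype.val h1).symm
  exact ⟨nonempty_pgl hMob, nonempty_sl hMob⟩

/-- Elementary form of 3-transitivity, from the Mathlib predicate. -/
lemma tr_of_pretransitive {G : Subgroup (Equiv.Perm α)} (h3 : MulAction.IsMultiplyPretransitive G α 3)
    {a b c a' b' c' : α} (h1 : a ≠ b) (h2 : a ≠ c) (h3' : b ≠ c) (h4 : a' ≠ b') (h5 : a' ≠ c')
    (h6 : b' ≠ c') : ∃ g ∈ G, g a = a' ∧ g b = b' ∧ g c = c' := by
  let x : Fin 3 ↪ α := ⟨![a, b, c], by
    intro i j h
    fin_cases i <;> fin_cases j <;> simp_all⟩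
  let y : Fin 3 ↪ α := ⟨![a', b', c'], by
    intro i j h
    fin_cases i <;> fin_cases j <;> simp_all⟩
  obtain ⟨g, hg⟩ := MulAction.exists_smul_eq G x y
  have e0 := congrArg (fun z : Fin 3 ↪ α => z 0) hg
  have e1 := congrArg (fun z : Fin 3 ↪ α => z 1) hg
  have e2 := congrArg (fun z : Fin 3 ↪ α => z 2) hg
  exact ⟨g, g.2, e0, e1, e2⟩

end Cfsg.Agent.Lib.Sharp3Even
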