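import Mathlib
import Cfsg.Agent.Lib.ZassFeit9
import Cfsg.Agent.S0344
import Cfsg.Agent.S0738
import Cfsg.Agent.S0731
import Cfsg.Agent.S0727

/-!
# Reduction of the classification of simple Zassenhaus groups to the Suzuki case
-/

set_option autoImplicit false
set_option linter.unusedSectionVars false
set_option linter.unusedVariables false
open Cfsg MulAction

namespace Cfsg.Agent.Lib.ZassClass9

open Cfsg.Agent.Lib.ZassCore

/-- In characteristic two `PSL₂` is `PGL₂`. -/
theorem psl_equiv_pgl {F : Type*} [Field F] [Fintype F] (h : Even (Fintype.card F)) :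
    Nonempty (Matrix.ProjectiveSpecialLinearGroup (Fin 2) F ≃* Matrix.ProjGenLinGroup (Fin 2) F) := by
  classical
  refine ⟨MulEquiv.ofBijective Matrix.ProjectiveSpecialLinearGroup.toPGL
    ⟨Matrix.ProjectiveSpecialLinearGroup.toPGL_injective,
      Matrix.ProjectiveSpecialLinearGroup.toPGL_surj_of_roots ?_⟩⟩
  intro r
  have hc : Nat.Coprime (Nat.card Fˣ) 2 := by
    rw [Nat.card_eq_fintype_card, Fintype.card_units]
    have h1 : 2 ≤ Fintype.card F := Fintype.one_lt_card
    have h2 : Odd (Fintype.card F - 1) := by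
      obtain ⟨m, hm⟩ := h
      exact ⟨m - 1, by omega⟩
    exact h2.coprime_two_right
  obtain ⟨u, hu⟩ := (powCoprime hc).surjective r
  refine ⟨u, ?_⟩
  simpa using hu

variable {G Ω : Type*} [Group G] [Finite G] [MulAction G Ω]

/-- The permutation image. -/
theorem exists_pgl [Fintype Ω] [FaithfulSMul G Ω] {f : ℕ} (hf : 1 ≤ f)
    (hc : Fintype.card Ω = 2 ^ f + 1) (h3 : IsMultiplyPretransitive G Ω 3)
    (hs : ∀ t : Fin 3 ↪ Ω, stabilizer G t = ⊥) :
    ∃ (F : Type) (_ : Field F) (_ : Fintype F), Fintype.card F = 2 ^ f ∧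
      Nonempty (G ≃* Matrix.ProjGenLinGroup (Fin 2) F) := by
  classical
  let φ : G →* Equiv.Perm Ω := MulAction.toPermHom G Ω
  have hφ : Function.Injective φ := MulAction.toPerm_injective
  let R : Subgroup (Equiv.Perm Ω) := φ.range
  have hR3 : IsMultiplyPretransitive R Ω 3 := by
    refine ⟨fun x y => ?_⟩
    obtain ⟨g, hg⟩ := h3.exists_smul_eq x y
    refine ⟨⟨φ g, ⟨g, rfl⟩⟩, ?_⟩
    ext i
    have := congrArg (fun f : Fin 3 ↪ Ω => f i) hg
    exact this
  have hRs : ∀ x : Fin 3 ↪ Ω, stabilizer R x = ⊥ := by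
    intro x
    rw [eq_bot_iff]
    rintro ⟨_, ⟨g, rfl⟩⟩ hg
    have h1 : g ∈ stabilizer G x := by
      rw [mem_stabilizer_iff]
      ext i
      have := congrArg (fun f : Fin 3 ↪ Ω => f i) (mem_stabilizer_iff.mp hg)
      exact this
    rw [hs x, Subgroup.mem_bot] at h1
    rw [Subgroup.mem_bot]
    apply Subtype.ext
    simp [h1]
  obtain ⟨F, hF, hFt, hcard, ⟨e⟩⟩ := Cfsg.Agent.S0727.result hf hc R hR3 hRs
  exact ⟨F, hF, hFt, hcard, ⟨(MonoidHom.ofInjective hφ).trans e⟩⟩

/-- The two point stabiliser of a sharply `3`-transitive group. -/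
theorem sharp_card [Fintype Ω] (h3 : IsMultiplyPretransitive G Ω 3)
    (hs : ∀ t : Fin 3 ↪ Ω, stabilizer G t = ⊥) {a b c : Ω} (hab : a ≠ b) (hac : a ≠ c)
    (hbc : b ≠ c) :
    Nat.card ↥(stabilizer G a ⊓ stabilizer G b) + 2 = Fintype.card Ω := by
  classical
  have hne : ∀ {p q r : Ω}, p ≠ q → p ≠ r → q ≠ r → Function.Injective ![p, q, r] := by
    intro p q r hpq hpr hqr i j h
    fin_cases i <;> fin_cases j <;> simp_all
  let X := {d : Ω // d ≠ a ∧ d ≠ b}
  have hXcard : Nat.card X + 2 = Fintype.card Ω := by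
    rw [Nat.card_eq_fintype_card]
    have h4 : Fintype.card {d : Ω // d ≠ a ∧ d ≠ b} = ((Finset.univ.erase a).erase b).card := by
      rw [Fintype.card_subtype]
      congr 1
      ext d
      simp [and_comm]
    have h5 : ((Finset.univ.erase a).erase b).card + 2 = Fintype.card Ω := by
      rw [Finset.card_erase_of_mem (by simp [hab.symm]), Finset.card_erase_of_mem (by simp),
        Finset.card_univ]
      have : 2 ≤ Fintype.card Ω := Fintype.one_lt_card_iff.mpr ⟨a, b, hab⟩
      omega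
    change Fintype.card {d : Ω // d ≠ a ∧ d ≠ b} + 2 = _
    rw [h4, h5]
  let m : ↥(stabilizer G a ⊓ stabilizer G b) → X := fun h =>
    ⟨(h : G) • c, by
      have h1 : (h : G) • a = a := h.2.1
      have h2 : (h : G) • b = b := h.2.2
      constructor
      · intro h4
        exact hac.symm (smul_left_cancel (h : G) (h4.trans h1.symm))
      · intro h4
        exact hbc.symm (smul_left_cancel (h : G) (h4.trans h2.symm))⟩
  have hm : Function.Bijective m := by
    constructor
    · intro x y hxy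
      have h1 : (x : G) • c = (y : G) • c := congrArg Subtype.val hxy
      let t : Fin 3 ↪ Ω := ⟨![a, b, c], hne hab hac hbc⟩
      have h2 : ((y : G)⁻¹ * (x : G)) ∈ stabilizer G t := by
        rw [mem_stabilizer_iff]
        ext i
        have hxa : (x : G) • a = a := x.2.1
        have hxb : (x : G) • b = b := x.2.2
        have hya : (y : G) • a = a := y.2.1
        have hyb : (y : G) • b = b := y.2.2
        fin_cases i
        · change ((y : G)⁻¹ * (x : G)) • a = a
          rw [mul_smul, hxa, inv_smul_eq_iff, hya]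
        · change ((y : G)⁻¹ * (x : G)) • b = b
          rw [mul_smul, hxb, inv_smul_eq_iff, hyb]
        · change ((y : G)⁻¹ * (x : G)) • c = c
          rw [mul_smul, h1, inv_smul_smul]
      rw [hs t, Subgroup.mem_bot, inv_mul_eq_one] at h2
      exact Subtype.ext h2.symm
    · rintro ⟨d, hda, hdb⟩
      let s : Fin 3 ↪ Ω := ⟨![a, b, c], hne hab hac hbc⟩
      let t : Fin 3 ↪ Ω := ⟨![a, b, d], hne hab hda.symm hdb.symm⟩
      obtain ⟨g, hg⟩ := h3.exists_smul_eq s t
      have h0 : g • a = a := congrArg (fun f : Fin 3 ↪ Ω => f 0) hg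
      have h1 : g • b = b := congrArg (fun f : Fin 3 ↪ Ω => f 1) hg
      have h2 : g • c = d := congrArg (fun f : Fin 3 ↪ Ω => f 2) hg
      exact ⟨⟨g, h0, h1⟩, Subtype.ext h2⟩
  rw [Nat.card_congr (Equiv.ofBijective m hm), hXcard]

/-- The small kernel case. -/
theorem small_case [Fintype Ω] [IsSimpleGroup G] (hZ : IsZassenhausGroup G Ω) {a b : Ω} {K : Subgroup G}
    (hK : IsKernelAt G a K) (hab : a ≠ b)
    (hodd : Odd (Nat.card ↥(stabilizer G a ⊓ stabilizer G b)))
    (hle : Nat.card K - 1 ≤ 2 * Nat.card ↥(stabilizer G a ⊓ stabilizer G b)) :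
    ∃ (F : Type) (_ : Field F) (_ : Fintype F),
      Nonempty (G ≃* Matrix.ProjectiveSpecialLinearGroup (Fin 2) F) := by
  classical
  have hKc : Nat.card K + 1 = Nat.card Ω := hK.card_add_one hab.symm
  rw [Nat.card_eq_fintype_card (α := Ω)] at hKc
  have hFle : K ≤ stabilizer G a := fun k hk => hK.le k hk
  have hFn : (K.subgroupOf (stabilizer G a)).Normal := by
    refine ⟨fun n hn g => ?_⟩
    rw [Subgroup.mem_subgroupOf] at hn ⊢
    exact hK.normal g g.2 n hn
  have hreg : ∀ y z : Ω, y ≠ a → z ≠ a → ∃! u : K, (u : G) • y = z := by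
    intro y z hy hz
    obtain ⟨k, ⟨hk1, hk2⟩, hk3⟩ := hK.reg y z hy hz
    refine ⟨⟨k, hk1⟩, hk2, ?_⟩
    rintro ⟨u, hu⟩ h
    exact Subtype.ext (hk3 u ⟨hu, h⟩)
  obtain ⟨hcomm, p, f, hp, hpow, hcard⟩ :=
    Cfsg.Agent.S0738.result hZ hab (by omega) K hFle hFn hreg
  have hfaith := hZ.1
  rcases Cfsg.Agent.S0731.result hZ a K hFle hFn hcomm hreg with ⟨h3, hs⟩ | ⟨F, hF, hFt, -, h⟩
  · -- sharply triply transitive
    obtain ⟨c, hca, hcb⟩ : ∃ c : Ω, c ≠ a ∧ c ≠ b := by
      obtain ⟨g, hg, a', b', hab', ha', hb'⟩ := hZ.2.2.2.1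
      obtain ⟨c, hc⟩ : ∃ c : Ω, g • c ≠ c := by
        by_contra hcon
        push Not at hcon
        apply hg
        exact eq_of_smul_eq_smul (α := Ω) (fun x => by rw [hcon x, one_smul])
      have hca : c ≠ a' := fun h => hc (by rw [h, ha'])
      have hcb : c ≠ b' := fun h => hc (by rw [h, hb'])
      have h9 : 3 ≤ Nat.card Ω := by
        rw [Nat.card_eq_fintype_card]
        have h10 := Finset.card_le_univ ({a', b', c} : Finset Ω)
        rwa [Finset.card_eq_three.mpr ⟨a', b', c, hab', hca.symm, hcb.symm, rfl⟩] at h10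
      exact Cfsg.Agent.Lib.SharpWrap.exists_third h9 a b
    have h4 := sharp_card h3 hs hab hca.symm hcb.symm
    -- the kernel has even order
    have h5 : Even (Fintype.card Ω - 1) := by
      have h6 : Fintype.card Ω - 1 = Nat.card ↥(stabilizer G a ⊓ stabilizer G b) + 1 := by omega
      rw [h6]
      exact hodd.add_one
    have h6 : p ^ f = Fintype.card Ω - 1 := by omega
    rw [← h6] at h5
    have hf0 : f ≠ 0 := by
      rintro rfl
      have h7 : Nat.card ↥(stabilizer G a ⊓ stabilizer G b) = 0 := by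
        simp at hcard
        omega
      exact Nat.card_pos.ne' h7
    have hp2 : p = 2 := by
      have h7 : 2 ∣ p ^ f := h5.two_dvd
      have h8 := (Nat.prime_two.dvd_of_dvd_pow h7)
      exact ((Nat.prime_dvd_prime_iff_eq Nat.prime_two hp).mp h8).symm
    subst hp2
    obtain ⟨F, hF, hFt, hFc, ⟨e⟩⟩ := exists_pgl (Nat.pos_of_ne_zero hf0) hcard h3 hs
    refine ⟨F, hF, hFt, ?_⟩
    obtain ⟨e2⟩ := psl_equiv_pgl (F := F) (by rw [hFc]; exact h5)
    exact ⟨e.trans e2.symm⟩
  · exact ⟨F, hF, hFt, h⟩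

/-- The reduction of the classification of simple Zassenhaus groups to the Suzuki case. -/
theorem classification_of [Finite Ω] (hZ : IsZassenhausGroup G Ω) [IsSimpleGroup G]
    (hSz : ∀ (x : Ω) (U : Subgroup G), U ≤ stabilizer G x →
      (U.subgroupOf (stabilizer G x)).Normal → IsPGroup 2 U → (∃ u v : U, u * v ≠ v * u) →
      (∀ y z : Ω, y ≠ x → z ≠ x → ∃! u : U, (u : G) • y = z) → IsSuzuki G) :
    (∃ (F : Type) (_ : Field F) (_ : Fintype F),
      Nonempty (G ≃* Matrix.ProjectiveSpecialLinearGroup (Fin 2) F)) ∨ IsSuzuki G := by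
  classical
  haveI : Fintype Ω := Fintype.ofFinite Ω
  obtain ⟨g, hg, a, b, hab, ha, hb⟩ := hZ.2.2.2.1
  rcases Nat.even_or_odd (Nat.card ↥(stabilizer G a ⊓ stabilizer G b)) with he | ho
  · obtain ⟨F, hF, hFt, -, h⟩ := Cfsg.Agent.S0344.result hZ hab he
    exact Or.inl ⟨F, hF, hFt, h⟩
  · obtain ⟨K, hK⟩ := exists_kernel hZ a
    rcases Cfsg.Agent.Lib.ZassFeit9.feit_simple hZ hK hab ho with h | ⟨h1, h2, h3⟩
    · exact Or.inl (small_case hZ hK hab ho h)
    · right
      have hFle : K ≤ stabilizer G a := fun k hk => hK.le k hk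
      have hFn : (K.subgroupOf (stabilizer G a)).Normal := by
        refine ⟨fun n hn g => ?_⟩
        rw [Subgroup.mem_subgroupOf] at hn ⊢
        exact hK.normal g g.2 n hn
      have hreg : ∀ y z : Ω, y ≠ a → z ≠ a → ∃! u : K, (u : G) • y = z := by
        intro y z hy hz
        obtain ⟨k, ⟨hk1, hk2⟩, hk3⟩ := hK.reg y z hy hz
        refine ⟨⟨k, hk1⟩, hk2, ?_⟩
        rintro ⟨u, hu⟩ h
        exact Subtype.ext (hk3 u ⟨hu, h⟩)
      refine hSz a K hFle hFn (IsPGroup.of_card h1) ?_ hreg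
      by_contra hcon
      push Not at hcon
      exact h2 ⟨⟨fun u v => hcon u v⟩⟩

end Cfsg.Agent.Lib.ZassClass9
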