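import Mathlib
import Cfsg.Agent.Lib.LinPair

/-!
# Quadratic maps of a finite field with a monomial behaviour
-/

set_option autoImplicit false
set_option linter.unusedSectionVars false
set_option linter.unusedVariables false
set_option linter.style.haveILetI false

namespace Cfsg.Agent.Lib.SuzField

open Cfsg.Agent.Lib.LinPoly Cfsg.Agent.Lib.LinPair

variable {F : Type*} [Field F] [Fintype F] [CharP F 2] {n : ℕ}

/-- A nonzero equivariant biadditive map has exponent a sum of two powers of two. -/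
theorem biadd_exponent (hF : Fintype.card F = 2 ^ n) (hn : 2 ≤ n) (B : F → F → F)
    (h1 : ∀ x y z, B (x + y) z = B x z + B y z) (h2 : ∀ x y z, B x (y + z) = B x y + B x z)
    (m : ℕ) (h3 : ∀ l x y, l ≠ 0 → B (l * x) (l * y) = l ^ m * B x y)
    (hne : ∃ x y, B x y ≠ 0) :
    ∃ a < n, ∃ b < n, 2 ^ a + 2 ^ b ≡ m [MOD 2 ^ n - 1] := by
  classical
  have hex : ∀ y, ∃ c : ℕ → F, ∀ x, B x y = lin n c x := fun y =>
    exists_lin hF (fun x => B x y) (fun a b => h1 a b y)
  choose C hC using hex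
  have hadd : ∀ y z, ∀ k < n, C (y + z) k = C y k + C z k := by
    intro y z k hk
    exact lin_inj hF (c := C (y + z)) (d := fun k => C y k + C z k) (fun x => by
      rw [lin_coef_add, ← hC, ← hC, ← hC, h2]) k hk
  have heq : ∀ l : F, l ≠ 0 → ∀ y, ∀ k < n, C (l * y) k * l ^ 2 ^ k = l ^ m * C y k := by
    intro l hl y k hk
    exact lin_inj hF (c := fun k => C (l * y) k * l ^ 2 ^ k) (d := fun k => l ^ m * C y k) (fun x => by
      have e1 := h3 l x y hl
      rw [hC, hC, lin_scale, lin_mul_left] at e1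
      exact e1) k hk
  have hex2 : ∀ k, ∃ d : ℕ → F, k < n → ∀ y, C y k = lin n d y := by
    intro k
    by_cases hk : k < n
    · obtain ⟨d, hd⟩ := exists_lin hF (fun y => C y k) (fun a b => hadd a b k hk)
      exact ⟨d, fun _ => hd⟩
    · exact ⟨0, fun h => absurd h hk⟩
  choose D hD using hex2
  have hcoef : ∃ k < n, ∃ b < n, D k b ≠ 0 := by
    by_contra hc
    push Not at hc
    obtain ⟨x, y, hxy⟩ := hne
    apply hxy
    rw [hC]
    unfold lin
    refine Finset.sum_eq_zero fun k hk => ?_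
    rw [hD k (Finset.mem_range.mp hk)]
    unfold lin
    rw [Finset.sum_eq_zero, zero_mul]
    intro b hb
    rw [hc k (Finset.mem_range.mp hk) b (Finset.mem_range.mp hb), zero_mul]
  obtain ⟨k, hk, b, hb, hne'⟩ := hcoef
  refine ⟨b, hb, k, hk, ?_⟩
  apply modEq_of_pow_eq hF
  intro l hl
  have e1 := lin_inj hF (c := fun b => D k b * l ^ 2 ^ b * l ^ 2 ^ k) (d := fun b => l ^ m * D k b)
    (fun y => by
      have e2 := heq l hl y k hk
      rw [hD k hk, hD k hk, lin_scale, lin_mul_right, lin_mul_left] at e2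
      exact e2) b hb
  have e3 : D k b * (l ^ 2 ^ b * l ^ 2 ^ k) = D k b * l ^ m := by
    calc D k b * (l ^ 2 ^ b * l ^ 2 ^ k) = D k b * l ^ 2 ^ b * l ^ 2 ^ k := by ring
      _ = l ^ m * D k b := e1
      _ = D k b * l ^ m := by ring
  have e4 := mul_left_cancel₀ hne' e3
  rw [pow_add, e4]

/-- Exponents congruent modulo `q - 1` agree on nonzero elements. -/
lemma pow_eq_of_modEq (hF : Fintype.card F = 2 ^ n) {u v : ℕ} (h : u ≡ v [MOD 2 ^ n - 1]) {x : F}
    (hx : x ≠ 0) : x ^ u = x ^ v := by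
  have h1 : x ^ (2 ^ n - 1) = 1 := by
    rw [← hF]
    exact FiniteField.pow_card_sub_one_eq_one x hx
  let y : Fˣ := Units.mk0 x hx
  have h2 : y ^ (2 ^ n - 1) = 1 := Units.ext (by simpa [y] using h1)
  have h3 : y ^ u = y ^ v := pow_eq_pow_iff_modEq.mpr (h.of_dvd (orderOf_dvd_of_pow_eq_one h2))
  have h4 := congrArg Units.val h3
  simpa [y] using h4

/-- A quadratic map scaling monomially is a monomial with exponent `2^a + 2^b`, `a < b`. -/
theorem quad_monomial (hF : Fintype.card F = 2 ^ n) (hn : 2 ≤ n) (Q : F → F) (m : ℕ)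
    (hB : ∀ s s' t, Q (s + s' + t) + Q (s + s') + Q t =
      (Q (s + t) + Q s + Q t) + (Q (s' + t) + Q s' + Q t))
    (hQ0 : Q 0 = 0)
    (hscale : ∀ l t, l ≠ 0 → Q (l * t) = l ^ m * Q t)
    (hne : ∃ s t, Q (s + t) ≠ Q s + Q t) :
    ∃ a b, a < b ∧ b < n ∧ Q 1 ≠ 0 ∧ ∀ t, Q t = Q 1 * t ^ (2 ^ a + 2 ^ b) := by
  classical
  have h2 : (2 : F) = 0 := CharTwo.two_eq_zero
  have hadd2 : ∀ x : F, x + x = 0 := CharTwo.add_self_eq_zero
  let B : F → F → F := fun s t => Q (s + t) + Q s + Q t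
  have hsym : ∀ s t, B s t = B t s := by
    intro s t
    simp only [B]
    rw [add_comm s t]
    ring
  have h1 : ∀ x y z, B (x + y) z = B x z + B y z := hB
  have h3 : ∀ x y z, B x (y + z) = B x y + B x z := by
    intro x y z
    rw [hsym, h1, hsym y x, hsym z x]
  have h4 : ∀ l x y, l ≠ 0 → B (l * x) (l * y) = l ^ m * B x y := by
    intro l x y hl
    simp only [B]
    rw [← mul_add, hscale _ _ hl, hscale _ _ hl, hscale _ _ hl]
    ring
  have hne' : ∃ x y, B x y ≠ 0 := by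
    obtain ⟨s, t, hst⟩ := hne
    refine ⟨s, t, fun e => hst ?_⟩
    have e2 : Q (s + t) + Q s + Q t = 0 := e
    linear_combination e2 - hadd2 (Q s + Q t)
  obtain ⟨a, ha, b, hb, hab⟩ := biadd_exponent hF hn B h1 h3 m h4 hne'
  have hform : ∀ t, Q t = Q 1 * t ^ (2 ^ a + 2 ^ b) := by
    intro t
    by_cases ht : t = 0
    · have h0 : (2 ^ a + 2 ^ b : ℕ) ≠ 0 := by positivity
      rw [ht, hQ0, zero_pow h0, mul_zero]
    · have := hscale t 1 ht
      rw [mul_one] at this
      rw [this, ← pow_eq_of_modEq hF hab ht, mul_comm]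
  have h10 : Q 1 ≠ 0 := by
    intro e
    obtain ⟨s, t, hst⟩ := hne
    apply hst
    rw [hform, hform s, hform t, e]
    ring
  have hne2 : a ≠ b := by
    rintro rfl
    obtain ⟨s, t, hst⟩ := hne
    apply hst
    rw [hform, hform s, hform t, ← mul_add]
    congr 1
    have e : ∀ x : F, x ^ (2 ^ a + 2 ^ a) = x ^ 2 ^ (a + 1) := by
      intro x
      congr 1
      rw [pow_succ]
      ring
    rw [e, e, e]
    exact frob_add (a + 1) s t
  rcases lt_or_gt_of_ne hne2 with hlt | hlt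
  · exact ⟨a, b, hlt, hb, h10, hform⟩
  · refine ⟨b, a, hlt, ha, h10, fun t => ?_⟩
    rw [hform, add_comm]

/-- A number-theoretic lemma about the order of a power of the Frobenius. -/
lemma coprime_div_odd {j n : ℕ} (hj : 0 < j) (hn : 0 < n)
    (hcop : Nat.Coprime (2 ^ j + 1) (2 ^ n - 1)) : Odd (n / Nat.gcd j n) := by
  set d := Nat.gcd j n with hd
  have hd0 : 0 < d := Nat.gcd_pos_of_pos_left _ hj
  by_contra hodd
  rw [Nat.not_odd_iff_even] at hodd
  obtain ⟨s, hs⟩ := hodd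
  have hn' : n = d * (n / d) := (Nat.mul_div_cancel' (Nat.gcd_dvd_right j n)).symm
  have hj' : j = d * (j / d) := (Nat.mul_div_cancel' (Nat.gcd_dvd_left j n)).symm
  have hco : Nat.Coprime (j / d) (n / d) := Nat.coprime_div_gcd_div_gcd hd0
  have hoddj : Odd (j / d) := by
    by_contra hev
    rw [Nat.not_odd_iff_even] at hev
    have h2 : 2 ∣ Nat.gcd (j / d) (n / d) :=
      Nat.dvd_gcd hev.two_dvd (by rw [hs]; omega)
    rw [hco] at h2
    omega
  have h1 : 2 ^ d + 1 ∣ 2 ^ j + 1 := by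
    have := Odd.nat_add_dvd_pow_add_pow (2 ^ d) 1 hoddj
    rw [one_pow, ← pow_mul, ← hj'] at this
    exact this
  have h3 : 2 ^ d + 1 ∣ 2 ^ n - 1 := by
    have e1 : n = (2 * d) * s := by
      rw [hn', hs]
      ring
    have e2 : 2 ^ n - 1 = (2 ^ (2 * d)) ^ s - 1 ^ s := by
      rw [one_pow, ← pow_mul, ← e1]
    have h4 : 2 ^ (2 * d) - 1 ∣ 2 ^ n - 1 := by
      rw [e2]
      exact Nat.sub_dvd_pow_sub_pow _ _ _
    have h5 : 2 ^ d + 1 ∣ 2 ^ (2 * d) - 1 := by
      have : 2 ^ (2 * d) - 1 = (2 ^ d + 1) * (2 ^ d - 1) := by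
        have h6 : 1 ≤ 2 ^ d := Nat.one_le_two_pow
        obtain ⟨w, hw⟩ : ∃ w, 2 ^ d = w + 1 := ⟨2 ^ d - 1, by omega⟩
        rw [two_mul, pow_add, hw]
        have e3 : (w + 1) * (w + 1) = (w + 1 + 1) * (w + 1 - 1) + 1 := by
          simp only [Nat.add_sub_cancel]
          ring
        rw [e3, Nat.add_sub_cancel]
      rw [this]
      exact dvd_mul_right _ _
    exact h5.trans h4
  have h6 := Nat.dvd_gcd h1 h3
  rw [hcop] at h6
  have h7 := Nat.le_of_dvd (by norm_num) h6
  have : 2 ≤ 2 ^ d := by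
    calc 2 = 2 ^ 1 := by norm_num
      _ ≤ 2 ^ d := Nat.pow_le_pow_right (by norm_num) hd0
  omega

/-- Injectivity of a power map on the multiplicative group forces coprimality. -/
lemma coprime_of_pow_inj (hF : Fintype.card F = 2 ^ n) (e : ℕ)
    (hinj : ∀ u v : F, u ≠ 0 → v ≠ 0 → u ^ e = v ^ e → u = v) :
    Nat.Coprime e (2 ^ n - 1) := by
  classical
  obtain ⟨g, hg⟩ := IsCyclic.exists_generator (α := Fˣ)
  have hord : orderOf g = 2 ^ n - 1 := by
    rw [orderOf_eq_card_of_forall_mem_zpowers hg, Nat.card_eq_fintype_card, Fintype.card_units, hF]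
  by_contra hc
  obtain ⟨p, hp, hp1, hp2⟩ := Nat.Prime.not_coprime_iff_dvd.mp hc
  have hpos : 0 < 2 ^ n - 1 := by
    rw [← hord]; exact orderOf_pos g
  obtain ⟨t, ht⟩ := hp2
  let u := g ^ t
  have hu1 : u ≠ 1 := by
    intro h
    have := orderOf_dvd_of_pow_eq_one h
    rw [hord, ht] at this
    have h0 : 0 < t := by
      rcases Nat.eq_zero_or_pos t with h | h
      · rw [h, mul_zero] at ht; omega
      · exact h
    have := Nat.le_of_dvd h0 this
    have h2 := hp.two_le
    nlinarith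
  have hue : u ^ e = 1 := by
    obtain ⟨s, hs⟩ := hp1
    simp only [u]
    rw [← pow_mul, hs]
    have : t * (p * s) = (2 ^ n - 1) * s := by rw [ht]; ring
    rw [this, pow_mul, ← hord, pow_orderOf_eq_one, one_pow]
  have := hinj (u : F) 1 u.ne_zero one_ne_zero (by
    rw [one_pow]
    have h2 := congrArg (fun w : Fˣ => (w : F)) hue
    simpa using h2)
  apply hu1
  exact Units.ext this

/-- The ring automorphism given by a power of the Frobenius. -/
noncomputable def frobPow (F : Type*) [Field F] [Fintype F] [CharP F 2] (j : ℕ) : F ≃+* F :=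
  haveI : Fact (Nat.Prime 2) := ⟨Nat.prime_two⟩
  RingEquiv.ofBijective (iterateFrobenius F 2 j)
    (Finite.injective_iff_bijective.mp (iterateFrobenius F 2 j).injective)

lemma frobPow_apply (j : ℕ) (x : F) : frobPow F j x = x ^ 2 ^ j := by
  haveI : Fact (Nat.Prime 2) := ⟨Nat.prime_two⟩
  exact iterateFrobenius_def 2 j x

lemma frobPow_pow (j k : ℕ) (x : F) : ((frobPow F j) ^ k) x = x ^ 2 ^ (j * k) := by
  induction k generalizing x with
  | zero => simp
  | succ k ih =>
    rw [pow_succ]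
    show ((frobPow F j) ^ k) (frobPow F j x) = _
    rw [ih, frobPow_apply, ← pow_mul, ← pow_add]
    congr 2
    ring

lemma pow_card_iter (hF : Fintype.card F = 2 ^ n) (k : ℕ) (x : F) : x ^ 2 ^ (n * k) = x := by
  induction k with
  | zero => simp
  | succ k ih =>
    have h1 : x ^ 2 ^ n = x := by
      rw [← hF]
      exact FiniteField.pow_card x
    rw [mul_add, mul_one, pow_add, mul_comm (2 ^ (n * k)), pow_mul, h1, ih]

/-- The order of a power of the Frobenius is odd if `u ↦ u φ(u)` is injective. -/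
theorem odd_order (hF : Fintype.card F = 2 ^ n) (hn : 2 ≤ n) {j : ℕ} (hj : 0 < j)
    (hinj : ∀ u v : F, u ≠ 0 → v ≠ 0 → u * frobPow F j u = v * frobPow F j v → u = v) :
    Odd (orderOf (frobPow F j)) := by
  have hcop : Nat.Coprime (2 ^ j + 1) (2 ^ n - 1) := by
    apply coprime_of_pow_inj hF
    intro u v hu hv huv
    apply hinj u v hu hv
    rw [frobPow_apply, frobPow_apply]
    rw [pow_succ, pow_succ, mul_comm, mul_comm (v ^ 2 ^ j)] at huv
    exact huv
  have hodd := coprime_div_odd hj (by omega) hcop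
  have hone : (frobPow F j) ^ (n / Nat.gcd j n) = 1 := by
    ext x
    rw [frobPow_pow]
    have e : j * (n / Nat.gcd j n) = n * (j / Nat.gcd j n) := by
      rw [← Nat.mul_div_assoc _ (Nat.gcd_dvd_right j n), ← Nat.mul_div_assoc _ (Nat.gcd_dvd_left j n),
        mul_comm]
    rw [e, pow_card_iter hF]
    rfl
  exact hodd.of_dvd_nat (orderOf_dvd_of_pow_eq_one hone)

lemma frobPow_ne (hF : Fintype.card F = 2 ^ n) (hn : 2 ≤ n) {j : ℕ} (hj : 0 < j) (hjn : j < n) :
    frobPow F j ≠ RingEquiv.refl F := by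
  classical
  intro e
  obtain ⟨g, hg⟩ := IsCyclic.exists_generator (α := Fˣ)
  have hord : orderOf g = 2 ^ n - 1 := by
    rw [orderOf_eq_card_of_forall_mem_zpowers hg, Nat.card_eq_fintype_card, Fintype.card_units, hF]
  have h1 : ((g : F)) ^ 2 ^ j = g := by
    rw [← frobPow_apply, e]
    rfl
  have h2 : g ^ 2 ^ j = g := by
    apply Units.ext
    push_cast
    exact h1
  have h3 : g ^ (2 ^ j - 1) = 1 := by
    have h4 : 1 ≤ 2 ^ j := Nat.one_le_two_pow
    have h5 : g ^ (2 ^ j - 1) * g = g := by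
      rw [← pow_succ, Nat.sub_add_cancel h4, h2]
    exact mul_eq_right.mp h5
  have h6 := orderOf_dvd_of_pow_eq_one h3
  rw [hord] at h6
  have h7 : 0 < 2 ^ j - 1 := by
    have : 2 ^ 1 ≤ 2 ^ j := Nat.pow_le_pow_right (by norm_num) hj
    omega
  have h8 := Nat.le_of_dvd h7 h6
  have h9 : 2 ^ (j + 1) ≤ 2 ^ n := Nat.pow_le_pow_right (by norm_num) hjn
  have h10 : 2 ^ (j + 1) = 2 * 2 ^ j := by rw [pow_succ]; ring
  have h11 : 2 ^ 1 ≤ 2 ^ j := Nat.pow_le_pow_right (by norm_num) hj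
  omega

end Cfsg.Agent.Lib.SuzField
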