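import Mathlib
import Cfsg.Agent.Lib.SuzField

/-!
# More field lemmas for Suzuki 2-groups
-/

set_option autoImplicit false
set_option linter.unusedSectionVars false
set_option linter.unusedVariables false
set_option linter.style.haveILetI false

namespace Cfsg.Agent.Lib.SuzField2

open Cfsg.Agent.Lib.LinPoly Cfsg.Agent.Lib.LinPair Cfsg.Agent.Lib.SuzField

variable {F : Type*} [Field F] [Fintype F] [CharP F 2] {n : ℕ}

/-- The exponent of an additive monomial-scaling map. -/
lemma additive_exp (hF : Fintype.card F = 2 ^ n) (M : F → F)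
    (hadd : ∀ x y, M (x + y) = M x + M y) (A B : ℕ)
    (hscale : ∀ l x, l ≠ 0 → l ^ B * M (l * x) = l ^ A * M x) (hne : ∃ x, M x ≠ 0) :
    ∃ s < n, 2 ^ s + B ≡ A [MOD 2 ^ n - 1] := by
  classical
  obtain ⟨e, he⟩ := exists_lin hF M hadd
  have hex : ∃ s < n, e s ≠ 0 := by
    by_contra hc
    push Not at hc
    obtain ⟨x, hx⟩ := hne
    apply hx
    rw [he]
    unfold lin
    refine Finset.sum_eq_zero fun s hs => ?_
    rw [hc s (Finset.mem_range.mp hs), zero_mul]
  obtain ⟨s, hs, hes⟩ := hex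
  refine ⟨s, hs, ?_⟩
  apply modEq_of_pow_eq hF
  intro l hl
  have e1 := lin_inj hF (c := fun i => l ^ B * (e i * l ^ 2 ^ i)) (d := fun i => l ^ A * e i)
    (fun y => by
      have e2 := hscale l y hl
      rw [he, he, lin_scale, lin_mul_left, lin_mul_left] at e2
      exact e2) s hs
  have e3 : e s * l ^ (2 ^ s + B) = e s * l ^ A := by
    have : e s * l ^ (2 ^ s + B) = l ^ B * (e s * l ^ 2 ^ s) := by
      rw [pow_add]; ring
    rw [this, e1]
    ring
  exact mul_left_cancel₀ hes e3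

/-- One step. -/
lemma rel_step (hF : Fintype.card F = 2 ^ n) (L : F → F)
    (hadd : ∀ x y, L (x + y) = L x + L y) (u : F) (A B : ℕ) (hB : B ≠ 0)
    (hrel : ∀ v, u * (L v) ^ A + v * (L v) ^ B = 0) (hne : ∃ v, L v ≠ 0) :
    ∃ s < n, 2 ^ s + B ≡ A [MOD 2 ^ n - 1] := by
  classical
  have h2 : ∀ x : F, x + x = 0 := CharTwo.add_self_eq_zero
  have hL0 : L 0 = 0 := by
    have := hadd 0 0
    rw [add_zero] at this
    simpa using this
  have hker : ∀ v, L v = 0 → v = 0 := by
    intro v hv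
    obtain ⟨w, hw⟩ := hne
    have h1 := hrel w
    have h3 := hrel (w + v)
    rw [hadd, hv, add_zero] at h3
    have h4 : v * L w ^ B = 0 := by
      linear_combination h3 - h1
    rcases mul_eq_zero.mp h4 with h5 | h5
    · exact h5
    · exact absurd ((pow_eq_zero_iff hB).mp h5) hw
  have hinj : Function.Injective L := by
    intro x y hxy
    have : L (x + y) = 0 := by rw [hadd, hxy, h2]
    have h1 := hker _ this
    have h3 := h2 y
    linear_combination h1 - h3
  have hbij : Function.Bijective L := Finite.injective_iff_bijective.mp hinj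
  let e := Equiv.ofBijective L hbij
  let M : F → F := e.symm
  have hLM : ∀ x, L (M x) = x := fun x => e.apply_symm_apply x
  have hMadd : ∀ x y, M (x + y) = M x + M y := by
    intro x y
    apply hinj
    rw [hadd, hLM, hLM, hLM]
  have hrelM : ∀ ρ, u * ρ ^ A + M ρ * ρ ^ B = 0 := by
    intro ρ
    have := hrel (M ρ)
    rwa [hLM] at this
  have hM0 : M 0 = 0 := by
    apply hinj
    rw [hLM, hL0]
  apply additive_exp hF M hMadd A B
  · intro l ρ hl
    by_cases hρ : ρ = 0
    · rw [hρ, mul_zero, hM0]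
      ring
    · have h1 := hrelM (l * ρ)
      have h3 := hrelM ρ
      have h4 : (l ^ B * M (l * ρ) - l ^ A * M ρ) * ρ ^ B = 0 := by
        rw [mul_pow, mul_pow] at h1
        linear_combination h1 - l ^ A * h3
      rcases mul_eq_zero.mp h4 with h5 | h5
      · exact sub_eq_zero.mp h5
      · exact absurd ((pow_eq_zero_iff hB).mp h5) hρ
  · refine ⟨1, fun h0 => ?_⟩
    have := hLM 1
    rw [h0, hL0] at this
    exact zero_ne_one this

/-- The contradiction from a nonzero relation. -/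
theorem rel_contra (hF : Fintype.card F = 2 ^ n) (hn : 2 ≤ n) (D : F → F → F)
    (h1 : ∀ x y z, D (x + y) z = D x z + D y z) (h2 : ∀ x y z, D x (y + z) = D x y + D x z)
    {k₁ k₂ : ℕ} (h10 : 0 < k₁) (h1n : k₁ < n) (h20 : 0 < k₂) (h2n : k₂ < n)
    (hrel : ∀ u₁ u₂, u₁ * (D u₁ u₂) ^ 2 ^ k₁ + u₂ * (D u₁ u₂) ^ 2 ^ k₂ = 0)
    (hne : ∃ u₁ u₂, D u₁ u₂ ≠ 0) : False := by
  obtain ⟨a, b, hab⟩ := hne
  obtain ⟨s, hs, hs'⟩ := rel_step hF (fun v => D a v) (fun x y => h2 a x y) a (2 ^ k₁) (2 ^ k₂)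
    (by positivity) (fun v => hrel a v) ⟨b, hab⟩
  obtain ⟨t, ht, ht'⟩ := rel_step hF (fun v => D v b) (fun x y => h1 x y b) b (2 ^ k₂) (2 ^ k₁)
    (by positivity) (fun v => by
      have := hrel v b
      rw [add_comm] at this
      exact this) ⟨a, hab⟩
  have e1 : ∀ k, 0 < k → 2 ^ k = 2 ^ (k - 1) + 2 ^ (k - 1) := by
    intro k hk
    rw [← two_mul, ← pow_succ']
    congr 1
    omega
  rw [e1 k₁ h10] at hs'
  rw [e1 k₂ h20] at ht'
  have hb1 := binary_mod hn hs h2n (by omega : k₁ - 1 < n) (by omega : k₁ - 1 < n) hs'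
  have hb2 := binary_mod hn ht h1n (by omega : k₂ - 1 < n) (by omega : k₂ - 1 < n) ht'
  omega

/-- A pair of coefficients such that the additive polynomial has no nontrivial zero. -/
theorem exists_pair (hF : Fintype.card F = 2 ^ n) (hn : 2 ≤ n) (A B : ℕ) :
    ∃ u₁ u₂ : F, (u₁ ≠ 0 ∨ u₂ ≠ 0) ∧ ∀ u, u ≠ 0 → u + u₁ * u ^ A + u₂ * u ^ B ≠ 0 := by
  classical
  by_contra hcon
  push Not at hcon
  -- every nonzero pair lies on a line
  let line : F → Finset (F × F) := fun u =>
    Finset.univ.filter fun p => u + p.1 * u ^ A + p.2 * u ^ B = 0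
  have hline : ∀ u ∈ Finset.univ.erase (0 : F), (line u).card ≤ Fintype.card F := by
    intro u hu
    have hu0 : u ≠ 0 := (Finset.mem_erase.mp hu).1
    have hinj : Set.InjOn (fun p : F × F => p.1) (line u : Set (F × F)) := by
      intro p hp r hr hpr
      have hp' : u + p.1 * u ^ A + p.2 * u ^ B = 0 := (Finset.mem_filter.mp hp).2
      have hr' : u + r.1 * u ^ A + r.2 * u ^ B = 0 := (Finset.mem_filter.mp hr).2
      have hpr' : p.1 = r.1 := hpr
      rw [hpr'] at hp'
      have h5 : (p.2 - r.2) * u ^ B = 0 := by linear_combination hp' - hr'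
      rcases mul_eq_zero.mp h5 with h6 | h6
      · exact Prod.ext hpr' (sub_eq_zero.mp h6)
      · exact absurd (eq_zero_of_pow_eq_zero h6) hu0
    calc (line u).card = ((line u).image fun p : F × F => p.1).card :=
          (Finset.card_image_of_injOn hinj).symm
      _ ≤ (Finset.univ : Finset F).card := Finset.card_le_card (Finset.subset_univ _)
      _ = Fintype.card F := Finset.card_univ
  have hcover : (Finset.univ.erase ((0 : F), (0 : F))) ⊆
      (Finset.univ.erase (0 : F)).biUnion line := by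
    intro p hp
    have hp0 : p ≠ (0, 0) := (Finset.mem_erase.mp hp).1
    have h1 : p.1 ≠ 0 ∨ p.2 ≠ 0 := by
      by_contra hc
      push Not at hc
      exact hp0 (Prod.ext hc.1 hc.2)
    obtain ⟨u, hu, hu2⟩ := hcon p.1 p.2 h1
    rw [Finset.mem_biUnion]
    exact ⟨u, Finset.mem_erase.mpr ⟨hu, Finset.mem_univ _⟩,
      Finset.mem_filter.mpr ⟨Finset.mem_univ _, hu2⟩⟩
  have hcard := Finset.card_le_card hcover
  have h2 := Finset.card_biUnion_le_card_mul _ _ _ hline
  rw [Finset.card_erase_of_mem (Finset.mem_univ _), Finset.card_univ, Fintype.card_prod] at hcard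
  rw [Finset.card_erase_of_mem (Finset.mem_univ _), Finset.card_univ] at h2
  have h3 := hcard.trans h2
  have h4 : 2 ≤ Fintype.card F := Fintype.one_lt_card
  obtain ⟨q, hq⟩ : ∃ q, Fintype.card F = q + 2 := ⟨Fintype.card F - 2, by omega⟩
  rw [hq] at h3
  have e1 : q + 2 - 1 = q + 1 := by omega
  rw [e1] at h3
  have e2 : (q + 2) * (q + 2) - 1 = (q + 1) * (q + 2) + (q + 1) := by
    have : (q + 2) * (q + 2) = (q + 1) * (q + 2) + (q + 1) + 1 := by ring
    omega
  rw [e2] at h3
  omega

end Cfsg.Agent.Lib.SuzField2
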