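import Mathlib
import Cfsg.Agent.Lib.Singer
import Cfsg.Agent.Lib.LinPair

/-!
# Suzuki 2-groups: basics

`A` is a commutative group acting on the finite 2-group `P` regularly on involutions.
-/

set_option autoImplicit false
set_option linter.unusedSectionVars false
set_option linter.unusedVariables false
set_option linter.style.haveILetI false

open scoped commutatorElement

namespace Cfsg.Agent.Lib.SuzTwo

section general

variable {P : Type*} [Group P]

/-- Elements outside a normal subgroup of a 2-group: central involutions of the quotient. -/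
def secE (N : Subgroup P) [N.Normal] : Subgroup P where
  carrier := {x | x * x ∈ N ∧ ∀ g, ⁅x, g⁆ ∈ N}
  one_mem' := ⟨by simp [N.one_mem], fun g => by simp [N.one_mem]⟩
  mul_mem' := by
    rintro x y ⟨hx, hx'⟩ ⟨hy, hy'⟩
    have hn : ‹N.Normal› = ‹N.Normal› := rfl
    constructor
    · have e : x * y * (x * y) = ⁅x, y⁆ * (y * (x * x) * y⁻¹) * (y * y) := by
        rw [commutatorElement_def]; group
      rw [e]
      exact N.mul_mem (N.mul_mem (hx' y) (Subgroup.Normal.conj_mem ‹_› _ hx y)) hy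
    · intro g
      have e : ⁅x * y, g⁆ = x * ⁅y, g⁆ * x⁻¹ * ⁅x, g⁆ := by
        simp only [commutatorElement_def]; group
      rw [e]
      exact N.mul_mem (Subgroup.Normal.conj_mem ‹_› _ (hy' g) x) (hx' g)
  inv_mem' := by
    rintro x ⟨hx, hx'⟩
    constructor
    · have e : x⁻¹ * x⁻¹ = (x * x)⁻¹ := by group
      rw [e]
      exact N.inv_mem hx
    · intro g
      have e : ⁅x⁻¹, g⁆ = x⁻¹ * ⁅x, g⁆⁻¹ * x⁻¹⁻¹ := by
        simp only [commutatorElement_def]; group
      rw [e]
      exact Subgroup.Normal.conj_mem ‹_› _ (N.inv_mem (hx' g)) x⁻¹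

lemma mem_secE {N : Subgroup P} [N.Normal] {x : P} :
    x ∈ secE N ↔ x * x ∈ N ∧ ∀ g, ⁅x, g⁆ ∈ N := Iff.rfl

lemma le_secE (N : Subgroup P) [N.Normal] : N ≤ secE N := by
  intro n hn
  refine ⟨N.mul_mem hn hn, fun g => ?_⟩
  have e : ⁅n, g⁆ = n * (g * n⁻¹ * g⁻¹) := by
    rw [commutatorElement_def]; group
  rw [e]
  exact N.mul_mem hn (Subgroup.Normal.conj_mem ‹_› _ (N.inv_mem hn) g)

/-- Nontrivial 2-group quotient: a central involution. -/
lemma secE_ne [Finite P] (h2 : IsPGroup 2 P) (N : Subgroup P) [N.Normal] (hN : N ≠ ⊤) :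
    ∃ x, x ∉ N ∧ x ∈ secE N := by
  classical
  haveI hf : Fact (Nat.Prime 2) := ⟨Nat.prime_two⟩
  have hQ : IsPGroup 2 (P ⧸ N) := h2.to_quotient N
  haveI : Nontrivial (P ⧸ N) := by
    by_contra hs
    rw [not_nontrivial_iff_subsingleton] at hs
    apply hN
    rw [eq_top_iff]
    intro x _
    rw [← QuotientGroup.eq_one_iff]
    exact Subsingleton.elim _ _
  haveI : Nontrivial (Subgroup.center (P ⧸ N)) := hQ.center_nontrivial
  obtain ⟨⟨z, hz⟩, hz1⟩ := exists_ne (1 : Subgroup.center (P ⧸ N))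
  have hz1' : z ≠ 1 := fun h => hz1 (Subtype.ext h)
  obtain ⟨k, hk⟩ := (IsPGroup.iff_orderOf.mp hQ) z
  have hk0 : k ≠ 0 := by
    rintro rfl
    exact hz1' (orderOf_eq_one_iff.mp (by simpa using hk))
  obtain ⟨j, rfl⟩ := Nat.exists_eq_succ_of_ne_zero hk0
  set y := z ^ 2 ^ j with hy
  have hy2 : y * y = 1 := by
    rw [hy, ← pow_add, ← two_mul, ← pow_succ', ← hk, pow_orderOf_eq_one]
  have hy1 : y ≠ 1 := by
    intro h
    have := orderOf_dvd_of_pow_eq_one h
    rw [hk] at this
    have h3 := (Nat.pow_dvd_pow_iff_le_right (by norm_num : 1 < 2)).mp this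
    omega
  have hyc : y ∈ Subgroup.center (P ⧸ N) := Subgroup.pow_mem _ hz _
  obtain ⟨x, hx⟩ := QuotientGroup.mk_surjective y
  rw [← hx] at hy1 hy2 hyc
  refine ⟨x, ?_, ?_, ?_⟩
  · intro h
    exact hy1 ((QuotientGroup.eq_one_iff x).mpr h)
  · rw [← QuotientGroup.eq_one_iff]
    exact hy2
  · intro g
    rw [← QuotientGroup.eq_one_iff, commutatorElement_def]
    have h3 : ((x : P ⧸ N)) * (g : P ⧸ N) = (g : P ⧸ N) * (x : P ⧸ N) :=
      ((Subgroup.mem_center_iff.mp hyc) (g : P ⧸ N)).symm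
    rw [QuotientGroup.mk_mul, QuotientGroup.mk_mul, QuotientGroup.mk_mul, h3,
      QuotientGroup.mk_inv, QuotientGroup.mk_inv]
    group

/-- A power lying in `N` with square in `N`. -/
lemma exists_power_step [Finite P] (h2 : IsPGroup 2 P) (N : Subgroup P) {x : P} (hx : x ∉ N) :
    ∃ r : ℕ, x ^ 2 ^ r ∉ N ∧ (x ^ 2 ^ r) * (x ^ 2 ^ r) ∈ N := by
  classical
  obtain ⟨k, hk⟩ := (IsPGroup.iff_orderOf.mp h2) x
  have hex : ∃ r, x ^ 2 ^ r ∈ N := ⟨k, by rw [← hk, pow_orderOf_eq_one]; exact N.one_mem⟩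
  have hfind := Nat.find_spec hex
  have hmin := fun m => Nat.find_min hex (m := m)
  set r := Nat.find hex with hr
  have hr0 : r ≠ 0 := by
    intro h
    rw [h] at hfind
    simp at hfind
    exact hx hfind
  obtain ⟨j, hj⟩ := Nat.exists_eq_succ_of_ne_zero hr0
  refine ⟨j, hmin j (by omega), ?_⟩
  rw [← pow_add, ← two_mul, ← pow_succ']
  rw [hj] at hfind
  exact hfind

end general

section basic

variable {A P : Type*} [CommGroup A] [Group P] [MulDistribMulAction A P]

variable (A P) in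
/-- The hypothesis on the action. -/
structure Hyp : Prop where
  two : IsPGroup 2 P
  reg : ∀ x y : P, x ≠ 1 → x * x = 1 → y ≠ 1 → y * y = 1 → ∃! a : A, a • x = y
  two_inv : ∃ x y : P, x ≠ y ∧ x ≠ 1 ∧ x * x = 1 ∧ y ≠ 1 ∧ y * y = 1

variable [Finite P] (h : Hyp A P)
include h

/-- A nontrivial subgroup contains an involution. -/
lemma exists_invol {R : Subgroup P} (hR : R ≠ ⊥) : ∃ x ∈ R, x ≠ 1 ∧ x * x = 1 := by
  obtain ⟨⟨x, hx⟩, hx1⟩ := Subgroup.ne_bot_iff_exists_ne_one.mp hR
  have hx1' : x ≠ 1 := fun e => hx1 (Subtype.ext e)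
  have hb : x ∉ (⊥ : Subgroup P) := fun e => hx1' e
  obtain ⟨r, hr, hr2⟩ := exists_power_step h.two ⊥ hb
  exact ⟨x ^ 2 ^ r, R.pow_mem hx _, fun e => hr e, hr2⟩

/-- The fixed point subgroup. -/
def fixSub (a : A) : Subgroup P where
  carrier := {x | a • x = x}
  one_mem' := smul_one a
  mul_mem' := by
    intro x y hx hy
    simp only [Set.mem_ofPred_eq] at *
    rw [smul_mul', hx, hy]
  inv_mem' := by
    intro x hx
    simp only [Set.mem_ofPred_eq] at *
    rw [smul_inv', hx]

omit h in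
lemma smul_conj (a : A) (x g : P) : a • (x * g * x⁻¹) = (a • x) * (a • g) * (a • x)⁻¹ := by
  rw [smul_mul', smul_mul', smul_inv']

omit h in
lemma smul_comm' (a : A) (x g : P) : a • ⁅x, g⁆ = ⁅a • x, a • g⁆ := by
  simp only [commutatorElement_def, smul_mul', smul_inv']

omit h in
lemma smul_sq (a : A) (x : P) : a • (x * x) = (a • x) * (a • x) := smul_mul' a x x

/-- No nonidentity element has a fixed point. -/
lemma eq_one_of_fix {a : A} {x : P} (hx : a • x = x) (hx1 : x ≠ 1) : a = 1 := by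
  have hne : (fixSub a : Subgroup P) ≠ ⊥ := by
    intro e
    have : x ∈ (fixSub a : Subgroup P) := hx
    rw [e] at this
    exact hx1 this
  obtain ⟨y, hy, hy1, hy2⟩ := exists_invol h hne
  exact (h.reg y y hy1 hy2 hy1 hy2).unique hy (one_smul _ _)

/-- Freeness on sections. -/
lemma free {a : A} (ha : a ≠ 1) {N : Subgroup P} (hN : ∀ n ∈ N, a • n ∈ N) {x : P}
    (hx : (a • x) * x⁻¹ ∈ N) : x ∈ N := by
  classical
  have hcfix : ∀ y : P, a • y = y → y = 1 := by
    intro y hy
    by_contra hy1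
    exact ha (eq_one_of_fix h hy hy1)
  let f : N → N := fun n => ⟨(a • (n : P)) * (n : P)⁻¹, N.mul_mem (hN _ n.2) (N.inv_mem n.2)⟩
  have hf : Function.Injective f := by
    intro m n hmn
    have h1 : (a • (m : P)) * (m : P)⁻¹ = (a • (n : P)) * (n : P)⁻¹ := congrArg Subtype.val hmn
    have h2 : a • ((n : P)⁻¹ * (m : P)) = (n : P)⁻¹ * (m : P) := by
      rw [smul_mul', smul_inv']
      calc (a • (n : P))⁻¹ * a • (m : P)
          = ((a • (n : P))⁻¹ * ((a • (m : P)) * (m : P)⁻¹)) * (m : P) := by group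
        _ = ((a • (n : P))⁻¹ * ((a • (n : P)) * (n : P)⁻¹)) * (m : P) := by rw [h1]
        _ = (n : P)⁻¹ * (m : P) := by group
    have h3 := hcfix _ h2
    apply Subtype.ext
    exact (inv_mul_eq_one.mp h3).symm
  obtain ⟨n, hn⟩ := (Finite.surjective_of_injective hf) ⟨_, hx⟩
  have h1 : (a • (n : P)) * (n : P)⁻¹ = (a • x) * x⁻¹ := congrArg Subtype.val hn
  have h2 : a • ((x : P)⁻¹ * (n : P)) = (x : P)⁻¹ * (n : P) := by
    rw [smul_mul', smul_inv']
    calc (a • x)⁻¹ * a • (n : P)
        = ((a • x)⁻¹ * ((a • (n : P)) * (n : P)⁻¹)) * (n : P) := by group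
      _ = ((a • x)⁻¹ * ((a • x) * x⁻¹)) * (n : P) := by rw [h1]
      _ = x⁻¹ * (n : P) := by group
  have h3 := hcfix _ h2
  have h4 : x = n := inv_mul_eq_one.mp h3
  rw [h4]
  exact n.2

/-- Invariant nontrivial subgroups contain all involutions. -/
lemma invol_mem {R : Subgroup P} (hR : R ≠ ⊥) (hinv : ∀ a : A, ∀ x ∈ R, a • x ∈ R) {x : P}
    (hx : x * x = 1) : x ∈ R := by
  by_cases hx1 : x = 1
  · rw [hx1]; exact R.one_mem
  obtain ⟨y, hy, hy1, hy2⟩ := exists_invol h hR
  obtain ⟨a, ha, _⟩ := h.reg y x hy1 hy2 hx1 hx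
  rw [← ha]
  exact hinv a y hy

omit h in
lemma center_inv (a : A) {x : P} (hx : x ∈ Subgroup.center P) : a • x ∈ Subgroup.center P := by
  rw [Subgroup.mem_center_iff] at hx ⊢
  intro g
  have h1 := hx (a⁻¹ • g)
  have h2 := congrArg (fun y => a • y) h1
  simpa [smul_mul'] using h2

lemma nontrivial_P : Nontrivial P := by
  obtain ⟨x, y, hxy, _⟩ := h.two_inv
  exact ⟨x, y, hxy⟩

/-- Involutions are central. -/
lemma invol_central {x : P} (hx : x * x = 1) : x ∈ Subgroup.center P := by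
  haveI := nontrivial_P h
  have hf : Fact (Nat.Prime 2) := ⟨Nat.prime_two⟩
  haveI : Nontrivial (Subgroup.center P) := h.two.center_nontrivial
  have hne : Subgroup.center P ≠ ⊥ := by
    intro e
    obtain ⟨⟨z, hz⟩, hz1⟩ := exists_ne (1 : Subgroup.center P)
    rw [e] at hz
    exact hz1 (Subtype.ext hz)
  exact invol_mem h hne (fun a y hy => center_inv a hy) hx

/-- The subgroup of elements of order dividing two. -/
def Om : Subgroup P where
  carrier := {x | x * x = 1}
  one_mem' := by simp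
  mul_mem' := by
    intro x y hx hy
    simp only [Set.mem_ofPred_eq] at *
    have hc : x * y = y * x := (Subgroup.mem_center_iff.mp (invol_central h hy) x).symm ▸ rfl
    calc x * y * (x * y) = x * (y * x) * y := by group
      _ = x * (x * y) * y := by rw [hc]
      _ = (x * x) * (y * y) := by group
      _ = 1 := by rw [hx, hy, one_mul]
  inv_mem' := by
    intro x hx
    simp only [Set.mem_ofPred_eq] at *
    have : x⁻¹ = x := inv_eq_of_mul_eq_one_left hx
    rw [this, hx]

lemma mem_Om {x : P} : x ∈ Om h ↔ x * x = 1 := Iff.rfl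

lemma Om_le_center : Om h ≤ Subgroup.center P := fun _ hx => invol_central h hx

lemma Om_central {w : P} (hw : w ∈ Om h) (g : P) : w * g = g * w :=
  (Subgroup.mem_center_iff.mp (Om_le_center h hw) g).symm

lemma Om_inv (a : A) {x : P} (hx : x ∈ Om h) : a • x ∈ Om h := by
  rw [mem_Om] at hx ⊢
  rw [← smul_sq, hx, smul_one]

/-- Every invariant nontrivial subgroup contains `Om`. -/
lemma Om_le {R : Subgroup P} (hR : R ≠ ⊥) (hinv : ∀ a : A, ∀ x ∈ R, a • x ∈ R) : Om h ≤ R :=
  fun _ hx => invol_mem h hR hinv hx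

/-- The order of `Om`. -/
lemma exists_card_Om : ∃ n, 2 ≤ n ∧ Nat.card (Om h) = 2 ^ n := by
  classical
  have hp : IsPGroup 2 (Om h) := h.two.to_subgroup _
  haveI hf : Fact (Nat.Prime 2) := ⟨Nat.prime_two⟩
  obtain ⟨n, hn⟩ := IsPGroup.iff_card.mp hp
  refine ⟨n, ?_, hn⟩
  obtain ⟨x, y, hxy, hx1, hx2, hy1, hy2⟩ := h.two_inv
  by_contra hlt
  push Not at hlt
  have h3 : 2 ^ n ≤ 2 := by
    calc 2 ^ n ≤ 2 ^ 1 := Nat.pow_le_pow_right (by norm_num) (by omega)
      _ = 2 := by norm_num
  have hF : Finite (Om h) := inferInstance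
  haveI := Fintype.ofFinite (Om h)
  have hs : ({1, ⟨x, hx2⟩, ⟨y, hy2⟩} : Finset (Om h)).card = 3 := by
    rw [Finset.card_eq_three]
    refine ⟨1, ⟨x, hx2⟩, ⟨y, hy2⟩, ?_, ?_, ?_, rfl⟩
    · exact fun e => hx1 (congrArg Subtype.val e).symm
    · exact fun e => hy1 (congrArg Subtype.val e).symm
    · exact fun e => hxy (congrArg Subtype.val e)
  have h4 := Finset.card_le_univ ({1, ⟨x, hx2⟩, ⟨y, hy2⟩} : Finset (Om h))
  rw [hs, ← Nat.card_eq_fintype_card, hn] at h4
  omega

/-- The coordinates of `Om`. -/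
theorem exists_coords (F : Type*) [Field F] [Fintype F]
    (hF : Fintype.card F = Nat.card (Om h)) :
    ∃ (io : P → F) (χ : A →* Fˣ), Function.Bijective χ ∧
      (∀ x ∈ Om h, ∀ y ∈ Om h, io (x * y) = io x + io y) ∧
      (∀ a : A, ∀ x ∈ Om h, io (a • x) = (χ a : F) * io x) ∧
      (∀ c : F, ∃ x ∈ Om h, io x = c) ∧
      (∀ x ∈ Om h, io x = 0 → x = 1) := by
  classical
  letI : CommGroup (Om h) :=
    { (inferInstance : Group (Om h)) with
      mul_comm := fun x y => Subtype.ext (Om_central h x.2 y) }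
  letI act : DistribMulAction A (Additive (Om h)) :=
    { smul := fun a x => Additive.ofMul ⟨a • (x.toMul : P), Om_inv h a x.toMul.2⟩
      one_smul := fun x => by
        apply Additive.toMul.injective
        apply Subtype.ext
        show (1 : A) • (x.toMul : P) = x.toMul
        rw [one_smul]
      mul_smul := fun a b x => by
        apply Additive.toMul.injective
        apply Subtype.ext
        show (a * b) • (x.toMul : P) = a • b • (x.toMul : P)
        rw [mul_smul]
      smul_zero := fun a => by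
        apply Additive.toMul.injective
        apply Subtype.ext
        show a • (1 : P) = 1
        rw [smul_one]
      smul_add := fun a x y => by
        apply Additive.toMul.injective
        apply Subtype.ext
        show a • ((x.toMul : P) * (y.toMul : P)) = (a • (x.toMul : P)) * (a • (y.toMul : P))
        rw [smul_mul'] }
  have hsm : ∀ (a : A) (x : Additive (Om h)), ((a • x).toMul : P) = a • (x.toMul : P) :=
    fun _ _ => rfl
  obtain ⟨x₀, y₀, _, hx1, hx2, _⟩ := h.two_inv
  have hv₀ : Additive.ofMul (⟨x₀, hx2⟩ : Om h) ≠ 0 := by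
    intro e
    have := congrArg (fun z : Additive (Om h) => ((z.toMul : Om h) : P)) e
    exact hx1 this
  have hnz : ∀ z : Additive (Om h), z ≠ 0 → (z.toMul : P) ≠ 1 := by
    intro z hz e
    apply hz
    apply Additive.toMul.injective
    exact Subtype.ext e
  have hreg : ∀ x y : Additive (Om h), x ≠ 0 → y ≠ 0 → ∃! a : A, a • x = y := by
    intro x y hx hy
    obtain ⟨a, ha, hu⟩ := h.reg _ _ (hnz x hx) x.toMul.2 (hnz y hy) y.toMul.2
    refine ⟨a, ?_, ?_⟩
    · apply Additive.toMul.injective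
      apply Subtype.ext
      exact ha
    · intro b hb
      apply hu
      have := congrArg (fun z : Additive (Om h) => ((z.toMul : Om h) : P)) hb
      exact this
  have hcard : Fintype.card F = Nat.card (Additive (Om h)) := hF
  obtain ⟨ι, χ, hι, hχ⟩ := Cfsg.Agent.Lib.Singer.singer_coords _ hv₀ hreg F hcard
  refine ⟨fun x => if hx : x ∈ Om h then ι (Additive.ofMul ⟨x, hx⟩) else 0, χ, hχ, ?_, ?_, ?_, ?_⟩
  · intro x hx y hy
    simp only [dif_pos hx, dif_pos hy, dif_pos ((Om h).mul_mem hx hy)]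
    rw [← map_add]
    rfl
  · intro a x hx
    simp only [dif_pos hx, dif_pos (Om_inv h a hx)]
    rw [← hι]
    rfl
  · intro c
    obtain ⟨z, hz⟩ := ι.surjective c
    refine ⟨(z.toMul : P), z.toMul.2, ?_⟩
    simp only [dif_pos z.toMul.2]
    exact hz
  · intro x hx h0
    simp only [dif_pos hx] at h0
    have h1 := ι.injective (h0.trans (map_zero ι).symm)
    have := congrArg (fun z : Additive (Om h) => ((z.toMul : Om h) : P)) h1
    exact this

end basic

end Cfsg.Agent.Lib.SuzTwo
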