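import Mathlib
import Cfsg.Agent.Lib.SuzTwo
import Cfsg.Prelude.Def_LieRecognition

/-!
# Suzuki 2-groups: the centre is elementary abelian
-/

set_option autoImplicit false
set_option linter.unusedSectionVars false
set_option linter.unusedVariables false
set_option linter.style.haveILetI false

open scoped commutatorElement

namespace Cfsg.Agent.Lib.SuzT1

open Cfsg.Agent.Lib.SuzTwo

section comm

variable {P : Type*} [Group P]

lemma central_comm {z : P} (hz : z ∈ Subgroup.center P) (g : P) : g * z = z * g :=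
  (Subgroup.mem_center_iff.mp hz g)

lemma comm_mul_left {x y g : P} (hy : ⁅y, g⁆ ∈ Subgroup.center P) :
    ⁅x * y, g⁆ = ⁅x, g⁆ * ⁅y, g⁆ := by
  have e : ⁅x * y, g⁆ = x * ⁅y, g⁆ * g * x⁻¹ * g⁻¹ := by
    simp only [commutatorElement_def]; group
  rw [e, central_comm hy x]
  simp only [commutatorElement_def]
  have := central_comm hy (x * g * x⁻¹ * g⁻¹)
  simp only [commutatorElement_def] at this
  rw [this]
  group

lemma comm_mul_right {x g k : P} (hk : ⁅x, k⁆ ∈ Subgroup.center P) :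
    ⁅x, g * k⁆ = ⁅x, g⁆ * ⁅x, k⁆ := by
  have e : ⁅x, g * k⁆ = x * g * x⁻¹ * ⁅x, k⁆ * g⁻¹ := by
    simp only [commutatorElement_def]; group
  rw [e, central_comm hk (x * g * x⁻¹)]
  have e2 : ⁅x, k⁆ * (x * g * x⁻¹) * g⁻¹ = ⁅x, k⁆ * ⁅x, g⁆ := by
    simp only [commutatorElement_def]; group
  rw [e2, central_comm hk]

lemma comm_central_left {x t g : P} (ht : t ∈ Subgroup.center P) : ⁅x * t, g⁆ = ⁅x, g⁆ := by
  have e : ⁅x * t, g⁆ = x * t * g * t⁻¹ * x⁻¹ * g⁻¹ := by
    simp only [commutatorElement_def]; group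
  rw [e, mul_assoc x t g, ← central_comm ht g]
  simp only [commutatorElement_def]
  group

lemma comm_central_right {x t g : P} (ht : t ∈ Subgroup.center P) : ⁅x, g * t⁆ = ⁅x, g⁆ := by
  have e : ⁅x, g * t⁆ = x * g * t * x⁻¹ * t⁻¹ * g⁻¹ := by
    simp only [commutatorElement_def]; group
  rw [e, mul_assoc (x * g) t x⁻¹, ← central_comm ht x⁻¹]
  simp only [commutatorElement_def]
  group

lemma comm_inv_left (x g : P) : ⁅x⁻¹, g⁆ = x⁻¹ * ⁅x, g⁆⁻¹ * x := by
  simp only [commutatorElement_def]; group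

lemma sq_mul (x y : P) : x * y * (x * y) = ⁅x, y⁆ * (y * (x * x) * y⁻¹) * (y * y) := by
  rw [commutatorElement_def]; group

lemma comm_eq_one_iff {x g : P} : ⁅x, g⁆ = 1 ↔ x * g = g * x := commutatorElement_eq_one_iff_mul_comm

/-- A central element is unchanged by conjugation. -/
lemma conj_central {z : P} (hz : z ∈ Subgroup.center P) (g : P) : g * z * g⁻¹ = z := by
  rw [central_comm hz g]; group

/-- If the commutator is central then the commutator of a square is its square. -/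
lemma comm_sq {x g : P} (hc : ⁅x, g⁆ ∈ Subgroup.center P) : ⁅x * x, g⁆ = ⁅x, g⁆ * ⁅x, g⁆ :=
  comm_mul_left hc

/-- The invariance of `secE`. -/
lemma secE_inv {A : Type*} [Group A] [MulDistribMulAction A P] (N : Subgroup P) [N.Normal]
    (hN : ∀ a : A, ∀ x ∈ N, a • x ∈ N) (a : A) {x : P} (hx : x ∈ secE N) : a • x ∈ secE N := by
  refine ⟨?_, fun g => ?_⟩
  · rw [← smul_mul']
    exact hN a _ hx.1
  · have h1 := hN a _ (hx.2 (a⁻¹ • g))
    simp only [commutatorElement_def, smul_mul', smul_inv', smul_inv_smul] at h1 ⊢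
    exact h1

end comm

section coord

variable {A P : Type*} [CommGroup A] [Group P] [MulDistribMulAction A P] [Finite P]

/-- Coordinates on the involutions. -/
structure Coord (h : Hyp A P) (F : Type*) [Field F] where
  io : P → F
  χ : A →* Fˣ
  hχ : Function.Bijective χ
  add : ∀ x ∈ Om h, ∀ y ∈ Om h, io (x * y) = io x + io y
  eqv : ∀ a : A, ∀ x ∈ Om h, io (a • x) = (χ a : F) * io x
  surj : ∀ c : F, ∃ x ∈ Om h, io x = c
  inj : ∀ x ∈ Om h, io x = 0 → x = 1

variable {h : Hyp A P} {F : Type*} [Field F]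

lemma exists_coord (h : Hyp A P) [Fintype F] (hF : Fintype.card F = Nat.card (Om h)) :
    Nonempty (Coord h F) := by
  obtain ⟨io, χ, hχ, h1, h2, h3, h4⟩ := exists_coords h F hF
  exact ⟨⟨io, χ, hχ, h1, h2, h3, h4⟩⟩

lemma Coord.io_one (C : Coord h F) : C.io 1 = 0 := by
  have := C.add 1 (Om h).one_mem 1 (Om h).one_mem
  rw [mul_one] at this
  simpa using this

lemma Coord.io_ne (C : Coord h F) {x : P} (hx : x ∈ Om h) (hx1 : x ≠ 1) : C.io x ≠ 0 :=
  fun e => hx1 (C.inj x hx e)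

/-- Modules whose coordinates have type one. -/
structure TypeOne (h : Hyp A P) (C : Coord h F) (E : Subgroup P) (ε : P → F) : Prop where
  inv : ∀ a : A, ∀ x ∈ E, a • x ∈ E
  add : ∀ x ∈ E, ∀ y ∈ E, ε (x * y) = ε x + ε y
  eqv : ∀ a : A, ∀ x ∈ E, ε (a • x) = (C.χ a : F) * ε x
  surj : ∀ u : F, ∃ x ∈ E, ε x = u
  ker : ∀ x ∈ E, ε x = 0 → x ∈ Subgroup.center P
  comm : ∀ x ∈ E, ∀ g, ⁅x, g⁆ ∈ Om h

variable {C : Coord h F} {E : Subgroup P} {ε : P → F}

lemma TypeOne.eps_one (T : TypeOne h C E ε) : ε 1 = 0 := by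
  have := T.add 1 E.one_mem 1 E.one_mem
  rw [mul_one] at this
  simpa using this

lemma TypeOne.eps_inv (T : TypeOne h C E ε) {x : P} (hx : x ∈ E) : ε x⁻¹ = - ε x := by
  have := T.add x⁻¹ (E.inv_mem hx) x hx
  rw [inv_mul_cancel, T.eps_one] at this
  exact eq_neg_of_add_eq_zero_left this.symm

/-- Elements with the same coordinate differ by a central factor. -/
lemma TypeOne.central_of_eq (T : TypeOne h C E ε) {x y : P} (hx : x ∈ E) (hy : y ∈ E)
    (hxy : ε x = ε y) : y⁻¹ * x ∈ Subgroup.center P := by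
  apply T.ker _ (E.mul_mem (E.inv_mem hy) hx)
  rw [T.add _ (E.inv_mem hy) _ hx, T.eps_inv hy, hxy]
  ring

lemma TypeOne.comm_eq (T : TypeOne h C E ε) {x y : P} (hx : x ∈ E) (hy : y ∈ E)
    (hxy : ε x = ε y) (g : P) : ⁅x, g⁆ = ⁅y, g⁆ := by
  have h1 := T.central_of_eq hx hy hxy
  have : x = y * (y⁻¹ * x) := by group
  rw [this, comm_central_left h1]

lemma TypeOne.comm_eq' (T : TypeOne h C E ε) {x y : P} (hx : x ∈ E) (hy : y ∈ E)
    (hxy : ε x = ε y) (g : P) : ⁅g, x⁆ = ⁅g, y⁆ := by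
  have h1 := T.central_of_eq hx hy hxy
  have : x = y * (y⁻¹ * x) := by group
  rw [this, comm_central_right h1]

variable [Fintype F] [CharP F 2] {n : ℕ}

/-- The section of the coordinates. -/
noncomputable def TypeOne.sec (T : TypeOne h C E ε) (u : F) : P := (T.surj u).choose

lemma TypeOne.sec_mem (T : TypeOne h C E ε) (u : F) : T.sec u ∈ E := (T.surj u).choose_spec.1

lemma TypeOne.eps_sec (T : TypeOne h C E ε) (u : F) : ε (T.sec u) = u := (T.surj u).choose_spec.2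

lemma Om_mem_center {x : P} (hx : x ∈ Om h) : x ∈ Subgroup.center P := Om_le_center h hx

/-- The coordinate of a commutator is biadditive in the first argument. -/
lemma TypeOne.io_add (T : TypeOne h C E ε) {x y : P} (hx : x ∈ E) (hy : y ∈ E) (g : P) :
    C.io ⁅x * y, g⁆ = C.io ⁅x, g⁆ + C.io ⁅y, g⁆ := by
  rw [comm_mul_left (Om_mem_center (T.comm y hy g)), C.add _ (T.comm x hx g) _ (T.comm y hy g)]

lemma TypeOne.io_add' (T : TypeOne h C E ε) {x : P} (hx : x ∈ E) (g k : P) :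
    C.io ⁅x, g * k⁆ = C.io ⁅x, g⁆ + C.io ⁅x, k⁆ := by
  rw [comm_mul_right (Om_mem_center (T.comm x hx k)), C.add _ (T.comm x hx g) _ (T.comm x hx k)]

/-- Commutators respect the action. -/
lemma TypeOne.io_smul (T : TypeOne h C E ε) {x : P} (hx : x ∈ E) (a : A) (g : P) :
    C.io ⁅a • x, a • g⁆ = (C.χ a : F) * C.io ⁅x, g⁆ := by
  rw [← smul_comm', C.eqv a _ (T.comm x hx g)]

/-- Type-one modules are abelian. -/
theorem TypeOne.abelian (T : TypeOne h C E ε) (hF : Fintype.card F = 2 ^ n) (hn : 2 ≤ n)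
    {x y : P} (hx : x ∈ E) (hy : y ∈ E) : x * y = y * x := by
  classical
  have key := Cfsg.Agent.Lib.LinPair.alt_eq_zero (F := F) hF hn
    (fun u v => C.io ⁅T.sec u, T.sec v⁆) ?_ ?_ ?_ ?_
  · rw [← comm_eq_one_iff]
    apply C.inj _ (T.comm x hx y)
    have h1 := key (ε x) (ε y)
    rw [T.comm_eq (T.sec_mem _) hx (T.eps_sec _), T.comm_eq' (T.sec_mem _) hy (T.eps_sec _)] at h1
    exact h1
  · intro u v w
    have h1 : ε (T.sec (u + v)) = ε (T.sec u * T.sec v) := by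
      rw [T.add _ (T.sec_mem _) _ (T.sec_mem _)]
      simp [T.eps_sec]
    rw [T.comm_eq (T.sec_mem _) (E.mul_mem (T.sec_mem _) (T.sec_mem _)) h1,
      T.io_add (T.sec_mem _) (T.sec_mem _)]
  · intro u v w
    have h1 : ε (T.sec (v + w)) = ε (T.sec v * T.sec w) := by
      rw [T.add _ (T.sec_mem _) _ (T.sec_mem _)]
      simp [T.eps_sec]
    rw [T.comm_eq' (T.sec_mem _) (E.mul_mem (T.sec_mem _) (T.sec_mem _)) h1,
      T.io_add' (T.sec_mem _)]
  · intro l u v hl
    obtain ⟨a, ha⟩ := C.hχ.2 (Units.mk0 l hl)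
    have hl' : (C.χ a : F) = l := by rw [ha]; rfl
    have h1 : ε (T.sec (l * u)) = ε (a • T.sec u) := by
      rw [T.eqv _ _ (T.sec_mem _), T.eps_sec, T.eps_sec, hl']
    have h2 : ε (T.sec (l * v)) = ε (a • T.sec v) := by
      rw [T.eqv _ _ (T.sec_mem _), T.eps_sec, T.eps_sec, hl']
    rw [T.comm_eq (T.sec_mem _) (T.inv a _ (T.sec_mem _)) h1,
      T.comm_eq' (T.sec_mem _) (T.inv a _ (T.sec_mem _)) h2, T.io_smul (T.sec_mem _), hl']
  · intro u
    simp only [commutatorElement_self, C.io_one]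

/-- The main pairing lemma. -/
theorem TypeOne.pairing (T : TypeOne h C E ε) (hF : Fintype.card F = 2 ^ n) (hn : 2 ≤ n)
    (M F₀ : Subgroup P) (hMF : M ≤ F₀)
    (hMinv : ∀ a : A, ∀ g ∈ M, a • g ∈ M) (hF₀ : ∀ a : A, ∀ g ∈ F₀, a • g ∈ F₀)
    (hcent : ∀ g ∈ M, ∀ x ∈ E, ⁅x, g⁆ = 1)
    (hmax : ∀ L : Subgroup P, (∀ a : A, ∀ x ∈ L, a • x ∈ L) → M ≤ L → L ≤ F₀ → L = M ∨ L = F₀)
    (hne : ∃ g ∈ F₀, ∃ x ∈ E, ⁅x, g⁆ ≠ 1) :
    ∃ k, 0 < k ∧ k < n ∧ ∃ c : P → F,
      (∀ g ∈ F₀, ∀ x ∈ E, C.io ⁅x, g⁆ = c g * ε x ^ 2 ^ k) ∧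
      (∀ g ∈ F₀, g ∉ M → c g ≠ 0) ∧ (∀ g ∈ F₀, ∀ k ∈ F₀, c (g * k) = c g + c k) ∧
      (∀ u, ∃ g ∈ F₀, c g = u) ∧
      (∀ a : A, ∀ g ∈ F₀, c (a • g) * (C.χ a : F) ^ 2 ^ k = (C.χ a : F) * c g) := by
  classical
  have key := Cfsg.Agent.Lib.LinPair.monomial (F := F) hF hn C.χ C.hχ
      (fun g u => C.io ⁅T.sec u, g⁆) M F₀ hMF hMinv hF₀ ?_ ?_ ?_ ?_ hmax ?_ ?_
  · obtain ⟨k, hk0, hkn, c, h1, h2, h3, h4, h5⟩ := key
    refine ⟨k, hk0, hkn, c, ?_, h2, h3, h4, h5⟩
    intro g hg x hx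
    rw [← h1 g hg (ε x), T.comm_eq hx (T.sec_mem _) (T.eps_sec _).symm]
  · intro g _ u v
    have h1 : ε (T.sec (u + v)) = ε (T.sec u * T.sec v) := by
      rw [T.add _ (T.sec_mem _) _ (T.sec_mem _)]
      simp [T.eps_sec]
    rw [T.comm_eq (T.sec_mem _) (E.mul_mem (T.sec_mem _) (T.sec_mem _)) h1,
      T.io_add (T.sec_mem _) (T.sec_mem _)]
  · intro g _ k _ u
    rw [T.io_add' (T.sec_mem _)]
  · intro g hg u
    rw [hcent g hg _ (T.sec_mem _), C.io_one]
  · intro a g hg y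
    have h1 : ε (T.sec ((C.χ a : F) * y)) = ε (a • T.sec y) := by
      rw [T.eqv _ _ (T.sec_mem _), T.eps_sec, T.eps_sec]
    rw [T.comm_eq (T.sec_mem _) (T.inv a _ (T.sec_mem _)) h1, T.io_smul (T.sec_mem _)]
  · intro a ha g _ hg
    exact free h ha (hMinv a) hg
  · obtain ⟨g, hg, x, hx, hxg⟩ := hne
    refine ⟨g, hg, ε x, ?_⟩
    rw [← T.comm_eq hx (T.sec_mem _) (T.eps_sec _).symm]
    exact C.io_ne (T.comm x hx g) hxg

end coord

section min

variable {A P : Type*} [CommGroup A] [Group P] [MulDistribMulAction A P] [Finite P] (h : Hyp A P)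

include h in
/-- Squares agreeing with a central square. -/
lemma mem_center_of_sq_eq {x y : P} (hy : y ∈ Subgroup.center P) (hxy : x * x = y * y) :
    x ∈ Subgroup.center P := by
  have h1 : (x * y⁻¹) * (x * y⁻¹) = 1 := by
    have hy' := (Subgroup.center P).inv_mem hy
    calc x * y⁻¹ * (x * y⁻¹) = x * (y⁻¹ * x) * y⁻¹ := by group
      _ = x * (x * y⁻¹) * y⁻¹ := by rw [central_comm hy' x]
      _ = x * x * (y⁻¹ * y⁻¹) := by group
      _ = y * y * (y⁻¹ * y⁻¹) := by rw [hxy]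
      _ = 1 := by group
  have h2 : x * y⁻¹ ∈ Subgroup.center P := Om_le_center h h1
  have : x = (x * y⁻¹) * y := by group
  rw [this]
  exact mul_mem h2 hy

/-- The data of the power map. -/
structure PwHyp (h : Hyp A P) (d : ℕ) : Prop where
  d1 : 1 ≤ d
  om : ∀ z ∈ Subgroup.center P, z ^ 2 ^ d ∈ Om h
  ne : ∃ z ∈ Subgroup.center P, z ^ 2 ^ d ≠ 1

lemma exists_pw (hz : ∃ z ∈ Subgroup.center P, z * z ≠ 1) : ∃ d, PwHyp h d := by
  classical
  obtain ⟨z₀, hz₀, hz₀1⟩ := hz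
  haveI hf : Fact (Nat.Prime 2) := ⟨Nat.prime_two⟩
  obtain ⟨m, hm⟩ := IsPGroup.iff_card.mp h.two
  have hex : ∃ e, ∀ z ∈ Subgroup.center P, z ^ 2 ^ e = 1 :=
    ⟨m, fun z _ => by rw [← hm]; exact pow_card_eq_one'⟩
  have hspec := Nat.find_spec hex
  have hminm := fun k => Nat.find_min hex (m := k)
  set e := Nat.find hex
  have he : 2 ≤ e := by
    by_contra hlt
    have he' : e = 0 ∨ e = 1 := by omega
    have hsq : ∀ z ∈ Subgroup.center P, z * z = 1 := by
      intro z hzc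
      rcases he' with he0 | he1
      · have := hspec z hzc
        rw [he0] at this
        simp at this
        simp [this]
      · have := hspec z hzc
        rw [he1] at this
        simpa [pow_two] using this
    exact hz₀1 (hsq _ hz₀)
  obtain ⟨d, hd⟩ : ∃ d, e = d + 1 := ⟨e - 1, by omega⟩
  refine ⟨d, ⟨by omega, ?_, ?_⟩⟩
  · intro z hzc
    rw [mem_Om, ← pow_add, ← two_mul, ← pow_succ', ← hd]
    exact hspec z hzc
  · have := hminm d (by omega)
    push Not at this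
    exact this

section pw

variable {h} {d : ℕ} (H : PwHyp h d)
include H

lemma pw_mul {z w : P} (hz : z ∈ Subgroup.center P) (hw : w ∈ Subgroup.center P) :
    (z * w) ^ 2 ^ d = z ^ 2 ^ d * w ^ 2 ^ d :=
  Commute.mul_pow (central_comm hw z) _

lemma pw_Om {w : P} (hw : w ∈ Om h) : w ^ 2 ^ d = 1 := by
  obtain ⟨j, hj⟩ : ∃ j, d = j + 1 := ⟨d - 1, by have := H.d1; omega⟩
  rw [hj, pow_succ', pow_mul, pow_two, hw, one_pow]

lemma pw_surj {t : P} (ht : t ∈ Om h) : ∃ z ∈ Subgroup.center P, z ^ 2 ^ d = t := by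
  by_cases ht1 : t = 1
  · exact ⟨1, Subgroup.one_mem _, by simp [ht1]⟩
  obtain ⟨z₀, hz₀, hz₀1⟩ := H.ne
  obtain ⟨a, ha, _⟩ := h.reg _ _ hz₀1 (H.om z₀ hz₀) ht1 ht
  exact ⟨a • z₀, center_inv a hz₀, by rw [← smul_pow', ha]⟩

lemma pw_ker {z : P} (hz : z ∈ Subgroup.center P) (hz1 : z ^ 2 ^ d = 1) :
    ∃ y ∈ Subgroup.center P, y * y = z := by
  classical
  letI : CommGroup (Subgroup.center P) :=
    { (inferInstance : Group (Subgroup.center P)) with
      mul_comm := fun x y => Subtype.ext (central_comm y.2 x.1) }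
  let sq : Subgroup.center P →* Subgroup.center P := powMonoidHom 2
  let pw : Subgroup.center P →* Subgroup.center P := powMonoidHom (2 ^ d)
  have hinj : Function.Injective (Subgroup.center P).subtype := Subtype.val_injective
  have h1 : sq.ker.map (Subgroup.center P).subtype = Om h := by
    ext x
    constructor
    · rintro ⟨y, hy, rfl⟩
      have : (y ^ 2 : Subgroup.center P) = 1 := hy
      have h2 : ((y : P)) ^ 2 = 1 := congrArg Subtype.val this
      show (y : P) * y = 1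
      rw [← pow_two]
      exact h2
    · intro hx
      refine ⟨⟨x, Om_le_center h hx⟩, ?_, rfl⟩
      show (⟨x, Om_le_center h hx⟩ : Subgroup.center P) ^ 2 = 1
      apply Subtype.ext
      show x ^ 2 = 1
      rw [pow_two]
      exact hx
  have h2 : pw.range.map (Subgroup.center P).subtype = Om h := by
    ext x
    constructor
    · rintro ⟨_, ⟨y, rfl⟩, rfl⟩
      exact H.om y y.2
    · intro hx
      obtain ⟨z, hz, hzx⟩ := pw_surj H hx
      exact ⟨⟨x, Om_le_center h hx⟩, ⟨⟨z, hz⟩, Subtype.ext hzx⟩, rfl⟩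
  have h3 : Nat.card sq.ker = Nat.card pw.range := by
    rw [← Subgroup.card_map_of_injective hinj, ← Subgroup.card_map_of_injective hinj, h1, h2]
  have h4 : Nat.card sq.ker * Nat.card sq.range = Nat.card pw.ker * Nat.card pw.range := by
    rw [← Subgroup.index_ker, ← Subgroup.index_ker, Subgroup.card_mul_index,
      Subgroup.card_mul_index]
  have h5 : 0 < Nat.card sq.ker := Nat.card_pos
  have h6 : Nat.card sq.range = Nat.card pw.ker := by
    rw [h3] at h4 h5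
    rw [mul_comm] at h4
    exact Nat.eq_of_mul_eq_mul_right h5 h4
  have hle : sq.range ≤ pw.ker := by
    rintro _ ⟨y, rfl⟩
    show ((y ^ 2 : Subgroup.center P)) ^ (2 ^ d) = 1
    apply Subtype.ext
    show ((y : P) ^ 2) ^ (2 ^ d) = 1
    rw [← pow_mul, mul_comm, pow_mul, pow_two]
    exact H.om y y.2
  have heq : sq.range = pw.ker := Subgroup.eq_of_le_of_card_ge hle h6.ge
  have hz' : (⟨z, hz⟩ : Subgroup.center P) ∈ pw.ker := by
    show (⟨z, hz⟩ : Subgroup.center P) ^ (2 ^ d) = 1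
    exact Subtype.ext hz1
  rw [← heq] at hz'
  obtain ⟨y, hy⟩ := hz'
  refine ⟨y, y.2, ?_⟩
  have := congrArg Subtype.val hy
  simpa [sq, pow_two] using this

/-- The key criterion: a square which is central and in the kernel of the power map. -/
lemma center_of_sq {x : P} (hx : x * x ∈ Subgroup.center P) (hx1 : (x * x) ^ 2 ^ d = 1) :
    x ∈ Subgroup.center P := by
  obtain ⟨y, hy, hyx⟩ := pw_ker H hx hx1
  exact mem_center_of_sq_eq h hy hyx.symm

end pw

lemma secE_comm_Om {h : Hyp A P} {x : P} (hx : x ∈ secE (Subgroup.center P)) (g : P) :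
    ⁅x, g⁆ ∈ Om h := by
  have h1 := comm_sq (hx.2 g)
  have h2 : ⁅x * x, g⁆ = 1 := by
    rw [comm_eq_one_iff]
    exact (central_comm hx.1 g).symm
  rw [mem_Om, ← h1, h2]

/-- Invariant subgroups maximal with respect to being proper are normal. -/
lemma normal_of_maximal (h : Hyp A P) (M : Subgroup P) (hinv : ∀ a : A, ∀ x ∈ M, a • x ∈ M)
    (hM : M ≠ ⊤)
    (hmax : ∀ L : Subgroup P, (∀ a : A, ∀ x ∈ L, a • x ∈ L) → M ≤ L → L = M ∨ L = ⊤) :
    M.Normal := by
  classical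
  haveI hf : Fact (Nat.Prime 2) := ⟨Nat.prime_two⟩
  haveI : Group.IsNilpotent P := h.two.isNilpotent
  have hlt : M < Subgroup.normalizer (M : Set P) :=
    Group.normalizerCondition_of_isNilpotent M (lt_top_iff_ne_top.mpr hM)
  have hinvN : ∀ a : A, ∀ x ∈ Subgroup.normalizer (M : Set P), a • x ∈ Subgroup.normalizer (M : Set P) := by
    intro a x hx
    rw [Subgroup.mem_normalizer_iff] at hx ⊢
    intro m
    have h5 : ∀ (b : A) (y : P), b • y ∈ M ↔ y ∈ M := by
      intro b y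
      constructor
      · intro hm
        have := hinv b⁻¹ _ hm
        simpa using this
      · exact hinv b y
    have h1 : m ∈ M ↔ a⁻¹ • m ∈ M := (h5 a⁻¹ m).symm
    have h3 := hx (a⁻¹ • m)
    have h4 : (a • x) * m * (a • x)⁻¹ = a • (x * (a⁻¹ • m) * x⁻¹) := by
      simp [smul_mul', smul_inv']
    rw [h4, h5, h1, h3]
  rcases hmax _ hinvN hlt.le with h1 | h1
  · exact absurd h1 hlt.ne'
  · exact Subgroup.normalizer_eq_top_iff.mp h1

/-- The main step: a minimal nonabelian invariant group has elementary abelian centre. -/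
theorem center_sq_of_min (h : Hyp A P) (hna : ∃ x y : P, x * y ≠ y * x)
    (hmin : ∀ R : Subgroup P, (∀ a : A, ∀ x ∈ R, a • x ∈ R) → R ≠ ⊤ →
      ∀ x ∈ R, ∀ y ∈ R, x * y = y * x) :
    ∀ z ∈ Subgroup.center P, z * z = 1 := by
  classical
  by_contra hcon
  push Not at hcon
  obtain ⟨d, H⟩ := exists_pw h hcon
  obtain ⟨n, hn, hcard⟩ := exists_card_Om h
  haveI hf : Fact (Nat.Prime 2) := ⟨Nat.prime_two⟩
  have hn0 : n ≠ 0 := by omega
  let F := GaloisField 2 n
  haveI : Finite F := Nat.finite_of_card_ne_zero (by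
    rw [GaloisField.card 2 n hn0]; positivity)
  letI : Fintype F := Fintype.ofFinite F
  have hF : Fintype.card F = 2 ^ n := by
    rw [← Nat.card_eq_fintype_card, GaloisField.card 2 n hn0]
  obtain ⟨C⟩ := exists_coord h (F := F) (by rw [hF, hcard])
  have hZne : Subgroup.center P ≠ ⊤ := by
    intro e
    obtain ⟨x, y, hxy⟩ := hna
    apply hxy
    have : y ∈ Subgroup.center P := by rw [e]; trivial
    exact (central_comm this x)
  obtain ⟨x₁, hx₁Z, hx₁E⟩ := secE_ne h.two (Subgroup.center P) hZne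
  let E := secE (Subgroup.center P)
  let s : P → P := fun x => (x * x) ^ 2 ^ d
  have hsOm : ∀ x ∈ E, s x ∈ Om h := fun x hx => H.om _ hx.1
  have hsmul : ∀ x ∈ E, ∀ y ∈ E, s (x * y) = s x * s y := by
    intro x hx y hy
    simp only [s]
    have hcm : ⁅x, y⁆ ∈ Om h := secE_comm_Om hx y
    rw [sq_mul, conj_central hx.1, pw_mul H (mul_mem (Om_mem_center hcm) hx.1) hy.1,
      pw_mul H (Om_mem_center hcm) hx.1, pw_Om H hcm, one_mul]
  have hseq : ∀ (a : A) (x : P), s (a • x) = a • s x := by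
    intro a x
    simp only [s]
    rw [smul_pow', smul_sq]
  have hsker : ∀ x ∈ E, s x = 1 → x ∈ Subgroup.center P :=
    fun x hx hs => center_of_sq H hx.1 hs
  have hEinv : ∀ a : A, ∀ x ∈ E, a • x ∈ E :=
    fun a x hx => secE_inv _ (fun (a : A) y hy => center_inv a hy) a hx
  have hs1 : s x₁ ≠ 1 := fun e => hx₁Z (hsker _ hx₁E e)
  have hssurj : ∀ t ∈ Om h, ∃ x ∈ E, s x = t := by
    intro t ht
    by_cases ht1 : t = 1
    · exact ⟨1, E.one_mem, by simp [s, ht1]⟩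
    obtain ⟨a, ha, _⟩ := h.reg _ _ hs1 (hsOm _ hx₁E) ht1 ht
    exact ⟨a • x₁, hEinv a _ hx₁E, by rw [hseq, ha]⟩
  let ε : P → F := fun x => C.io (s x)
  have T : TypeOne h C E ε := by
    refine ⟨hEinv, ?_, ?_, ?_, ?_, fun x hx g => secE_comm_Om hx g⟩
    · intro x hx y hy
      show C.io (s (x * y)) = C.io (s x) + C.io (s y)
      rw [hsmul x hx y hy, C.add _ (hsOm x hx) _ (hsOm y hy)]
    · intro a x hx
      show C.io (s (a • x)) = _ * C.io (s x)
      rw [hseq, C.eqv a _ (hsOm x hx)]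
    · intro u
      obtain ⟨t, ht, htu⟩ := C.surj u
      obtain ⟨x, hx, hxt⟩ := hssurj t ht
      exact ⟨x, hx, by show C.io (s x) = u; rw [hxt, htu]⟩
    · intro x hx hε
      exact hsker x hx (C.inj _ (hsOm x hx) hε)
  have hEab := fun x hx y hy => T.abelian hF hn (x := x) (y := y) hx hy
  have hEne : E ≠ ⊤ := by
    intro e
    obtain ⟨x, y, hxy⟩ := hna
    exact hxy (hEab x (by rw [e]; trivial) y (by rw [e]; trivial))
  -- a maximal invariant subgroup
  obtain ⟨M, hEM, hMmax⟩ := Finite.exists_le_maximal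
    (p := fun R : Subgroup P => R ≠ ⊤ ∧ ∀ a : A, ∀ x ∈ R, a • x ∈ R) (a := E) ⟨hEne, hEinv⟩
  obtain ⟨hMne, hMinv⟩ := hMmax.1
  have hmaxM : ∀ L : Subgroup P, (∀ a : A, ∀ x ∈ L, a • x ∈ L) → M ≤ L → L = M ∨ L = ⊤ := by
    intro L hL hML
    by_cases hLt : L = ⊤
    · exact Or.inr hLt
    · exact Or.inl (le_antisymm (hMmax.2 ⟨hLt, hL⟩ hML) hML)
  haveI hMn : M.Normal := normal_of_maximal h M hMinv hMne hmaxM
  have hMab := hmin M hMinv hMne
  have hsecM : ∀ g : P, g * g ∈ M := by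
    have h1 : secE M = ⊤ := by
      rcases hmaxM (secE M) (fun a x hx => secE_inv M hMinv a hx) (le_secE M) with h1 | h1
      · obtain ⟨x, hxM, hxE⟩ := secE_ne h.two M hMne
        rw [h1] at hxE
        exact absurd hxE hxM
      · exact h1
    intro g
    have : g ∈ secE M := by rw [h1]; trivial
    exact this.1
  have hZE : Subgroup.center P ≤ E := le_secE _
  -- the pairing
  have hne : ∃ g ∈ (⊤ : Subgroup P), ∃ x ∈ E, ⁅x, g⁆ ≠ 1 := by
    have : ∃ g, x₁ * g ≠ g * x₁ := by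
      by_contra hc
      push Not at hc
      exact hx₁Z (Subgroup.mem_center_iff.mpr fun g => (hc g).symm)
    obtain ⟨g, hg⟩ := this
    exact ⟨g, trivial, x₁, hx₁E, fun e => hg (comm_eq_one_iff.mp e)⟩
  obtain ⟨k, hk0, hkn, c, hc1, hc2, -, -, -⟩ := T.pairing hF hn M ⊤ le_top hMinv
    (fun a g _ => trivial)
    (fun g hg x hx => comm_eq_one_iff.mpr (hMab x (hEM hx) g hg))
    (fun L hL hML _ => hmaxM L hL hML) hne
  -- elements outside `M` centralize no element of `E` outside the centre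
  have hnoncomm : ∀ g, g ∉ M → ∀ x ∈ E, x * g = g * x → x ∈ Subgroup.center P := by
    intro g hg x hx hxg
    have h1 := hc1 g trivial x hx
    rw [comm_eq_one_iff.mpr hxg, C.io_one] at h1
    have h2 := hc2 g trivial hg
    have h3 : ε x ^ 2 ^ k = 0 := by
      rcases mul_eq_zero.mp h1.symm with h3 | h3
      · exact absurd h3 h2
      · exact h3
    exact T.ker x hx (pow_eq_zero_iff (by positivity) |>.mp h3)
  -- elements of `M` whose square is central lie in `E`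
  have hj : ∀ y ∈ M, y * y ∈ Subgroup.center P → y ∈ E := by
    intro y hyM hyy
    obtain ⟨w, hw, hwy⟩ := hssurj ((y * y) ^ 2 ^ d) (H.om _ hyy)
    have hwc := hMab y hyM w (hEM hw)
    have hv : y * w⁻¹ ∈ Subgroup.center P := by
      have hww := hw.1
      have e1 : (y * w⁻¹) * (y * w⁻¹) = (y * y) * (w * w)⁻¹ := by
        have hc : w⁻¹ * y = y * w⁻¹ := by
          have : y * w = w * y := hwc
          calc w⁻¹ * y = w⁻¹ * (y * w) * w⁻¹ := by group
            _ = w⁻¹ * (w * y) * w⁻¹ := by rw [this]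
            _ = y * w⁻¹ := by group
        calc (y * w⁻¹) * (y * w⁻¹) = y * (w⁻¹ * y) * w⁻¹ := by group
          _ = y * (y * w⁻¹) * w⁻¹ := by rw [hc]
          _ = (y * y) * (w * w)⁻¹ := by group
      apply center_of_sq H
      · rw [e1]
        exact mul_mem hyy (inv_mem hww)
      · rw [e1, pw_mul H hyy (inv_mem hww), inv_pow]
        have : (w * w) ^ 2 ^ d = (y * y) ^ 2 ^ d := hwy
        rw [this]
        group
    have : y = (y * w⁻¹) * w := by group
    rw [this]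
    exact mul_mem (hZE hv) hw
  -- elements outside `M`
  have hM' : ∃ g, g ∉ M := by
    by_contra hc
    push Not at hc
    exact hMne ((Subgroup.eq_top_iff' M).mpr hc)
  obtain ⟨g, hg⟩ := hM'
  have hgg : g * g ∈ Subgroup.center P := by
    by_contra hc
    obtain ⟨r, hr1, hr2⟩ := exists_power_step h.two _ hc
    have hyM : (g * g) ^ 2 ^ r ∈ M := pow_mem (hsecM g) _
    have hyE := hj _ hyM hr2
    apply hr1
    apply hnoncomm g hg _ hyE
    have : Commute ((g * g) ^ 2 ^ r) g := ((Commute.refl g).mul_left (Commute.refl g)).pow_left _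
    exact this
  obtain ⟨w₀, hw₀, hw₀s⟩ := hssurj ((g * g) ^ 2 ^ d) (H.om _ hgg)
  have hw₀' : (w₀ * w₀) ^ 2 ^ d = (g * g) ^ 2 ^ d := hw₀s
  obtain ⟨v, hv, hvv⟩ := pw_ker H (z := (g * g) * (w₀ * w₀)⁻¹)
    (mul_mem hgg (inv_mem hw₀.1)) (by
      rw [pw_mul H hgg (inv_mem hw₀.1), inv_pow, hw₀']
      group)
  let w := w₀ * v
  have hwE : w ∈ E := mul_mem hw₀ (hZE hv)
  have hww : w * w = g * g := by
    show w₀ * v * (w₀ * v) = g * g
    calc w₀ * v * (w₀ * v) = w₀ * (v * w₀) * v := by group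
      _ = w₀ * (w₀ * v) * v := by rw [← central_comm hv w₀]
      _ = w₀ * w₀ * (v * v) := by group
      _ = w₀ * w₀ * ((g * g) * (w₀ * w₀)⁻¹) := by rw [hvv]
      _ = (g * g) * (w₀ * w₀) * (w₀ * w₀)⁻¹ := by
          rw [← mul_assoc, central_comm hgg (w₀ * w₀)]
      _ = g * g := by group
  have hvv' : (g * w⁻¹) * (g * w⁻¹) ∈ Om h := by
    rw [sq_mul, conj_central hgg, mul_assoc, show w⁻¹ * w⁻¹ = (w * w)⁻¹ by group, hww]
    have e : g * g * (g * g)⁻¹ = 1 := by group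
    rw [e, mul_one, ← commutatorElement_inv]
    exact (Om h).inv_mem (secE_comm_Om (E.inv_mem hwE) g)
  have hvc : g * w⁻¹ ∈ Subgroup.center P :=
    center_of_sq H (Om_mem_center hvv') (pw_Om H hvv')
  apply hg
  have : g = (g * w⁻¹) * w := by group
  rw [this]
  exact hEM (mul_mem (hZE hvc) hwE)

end min

section sub

variable {A P : Type*} [CommGroup A] [Group P] [MulDistribMulAction A P] [Finite P]

/-- The action on an invariant subgroup. -/
@[reducible] def subAct (R : Subgroup P) (hR : ∀ a : A, ∀ x ∈ R, a • x ∈ R) :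
    MulDistribMulAction A R where
  smul a x := ⟨a • x.1, hR a _ x.2⟩
  one_smul x := Subtype.ext (one_smul _ _)
  mul_smul a b x := Subtype.ext (mul_smul _ _ _)
  smul_mul a x y := Subtype.ext (smul_mul' _ _ _)
  smul_one a := Subtype.ext (smul_one _)

lemma subAct_val (R : Subgroup P) (hR : ∀ a : A, ∀ x ∈ R, a • x ∈ R) (a : A) (x : R) :
    ((@HSMul.hSMul _ _ _ (@instHSMul _ _ (subAct R hR).toSMul) a x : R) : P) = a • (x : P) := rfl

lemma hyp_sub (h : Hyp A P) (R : Subgroup P) (hR : ∀ a : A, ∀ x ∈ R, a • x ∈ R) (hne : R ≠ ⊥) :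
    @Hyp A R _ _ (subAct R hR) := by
  letI := subAct R hR
  refine ⟨h.two.to_subgroup R, ?_, ?_⟩
  · intro x y hx hx2 hy hy2
    have hx1 : (x : P) ≠ 1 := fun e => hx (Subtype.ext e)
    have hy1 : (y : P) ≠ 1 := fun e => hy (Subtype.ext e)
    obtain ⟨a, ha, hu⟩ := h.reg x y hx1 (congrArg Subtype.val hx2) hy1 (congrArg Subtype.val hy2)
    refine ⟨a, Subtype.ext ha, fun b hb => hu b ?_⟩
    exact congrArg Subtype.val hb
  · obtain ⟨x, y, hxy, hx1, hx2, hy1, hy2⟩ := h.two_inv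
    have hxR : x ∈ R := invol_mem h hne hR hx2
    have hyR : y ∈ R := invol_mem h hne hR hy2
    refine ⟨⟨x, hxR⟩, ⟨y, hyR⟩, ?_, ?_, ?_, ?_, ?_⟩
    · exact fun e => hxy (congrArg Subtype.val e)
    · exact fun e => hx1 (congrArg Subtype.val e)
    · exact Subtype.ext hx2
    · exact fun e => hy1 (congrArg Subtype.val e)
    · exact Subtype.ext hy2

/-- The centre of a nonabelian group of our kind is elementary abelian. -/
theorem center_sq (h : Hyp A P) (hna : ∃ x y : P, x * y ≠ y * x) :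
    ∀ z ∈ Subgroup.center P, z * z = 1 := by
  classical
  obtain ⟨P₀, -, hP₀⟩ := Finite.exists_le_minimal
    (p := fun R : Subgroup P => (∀ a : A, ∀ x ∈ R, a • x ∈ R) ∧ ∃ x ∈ R, ∃ y ∈ R, x * y ≠ y * x)
    (a := ⊤) ⟨fun a x _ => trivial, by
      obtain ⟨x, y, hxy⟩ := hna
      exact ⟨x, trivial, y, trivial, hxy⟩⟩
  obtain ⟨hinv, x₀, hx₀, y₀, hy₀, hxy₀⟩ := hP₀.1
  have hne : P₀ ≠ ⊥ := by
    intro e
    rw [e] at hx₀ hy₀
    apply hxy₀
    rw [Subgroup.mem_bot.mp hx₀, Subgroup.mem_bot.mp hy₀]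
  letI := subAct P₀ hinv
  have h₀ : Hyp A P₀ := hyp_sub h P₀ hinv hne
  have hna₀ : ∃ x y : P₀, x * y ≠ y * x :=
    ⟨⟨x₀, hx₀⟩, ⟨y₀, hy₀⟩, fun e => hxy₀ (congrArg Subtype.val e)⟩
  have hmin₀ : ∀ R : Subgroup P₀, (∀ a : A, ∀ x ∈ R, a • x ∈ R) → R ≠ ⊤ →
      ∀ x ∈ R, ∀ y ∈ R, x * y = y * x := by
    intro R hR hRt x hx y hy
    by_contra hxy
    have hle : R.map P₀.subtype ≤ P₀ := by
      rintro _ ⟨z, _, rfl⟩
      exact z.2
    have hp : (fun R : Subgroup P =>
        (∀ a : A, ∀ x ∈ R, a • x ∈ R) ∧ ∃ x ∈ R, ∃ y ∈ R, x * y ≠ y * x) (R.map P₀.subtype) := by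
      refine ⟨?_, x, ⟨x, hx, rfl⟩, y, ⟨y, hy, rfl⟩, fun e => hxy (Subtype.ext e)⟩
      rintro a _ ⟨z, hz, rfl⟩
      exact ⟨a • z, hR a z hz, rfl⟩
    have h2 := hP₀.2 hp hle
    apply hRt
    rw [eq_top_iff]
    intro z _
    obtain ⟨w, hw, hwz⟩ := h2 z.2
    have : w = z := Subtype.ext hwz
    rwa [← this]
  have hc₀ := center_sq_of_min h₀ hna₀ hmin₀
  by_contra hcon
  push Not at hcon
  obtain ⟨z, hz, hz1⟩ := hcon
  have hzOm : z ∉ Om h := hz1
  obtain ⟨r, hr1, hr2⟩ := exists_power_step h.two _ hzOm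
  set z' := z ^ 2 ^ r with hz'
  have hz'c : z' ∈ Subgroup.center P := pow_mem hz _
  have hx₀Om : x₀ ∉ Om h := by
    intro hx
    exact hxy₀ (Om_central h hx y₀)
  obtain ⟨s, hs1, hs2⟩ := exists_power_step h.two _ hx₀Om
  set x' := x₀ ^ 2 ^ s with hx'
  have hx'P₀ : x' ∈ P₀ := pow_mem hx₀ _
  have ht1 : x' * x' ≠ 1 := hs1
  have ht2 : z' * z' ≠ 1 := hr1
  obtain ⟨a, ha, _⟩ := h.reg _ _ ht1 hs2 ht2 hr2
  have hax : (a • x') * (a • x') = z' * z' := by rw [← smul_sq, ha]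
  have hxc : a • x' ∈ Subgroup.center P := mem_center_of_sq_eq h hz'c hax
  have hmem : a • x' ∈ P₀ := hinv a _ hx'P₀
  have hc0 : (⟨a • x', hmem⟩ : P₀) ∈ Subgroup.center P₀ := by
    rw [Subgroup.mem_center_iff]
    intro g
    exact Subtype.ext (central_comm hxc _)
  have := hc₀ _ hc0
  apply ht2
  rw [← hax]
  exact congrArg Subtype.val this

/-- Centre and involutions agree. -/
theorem center_eq_Om (h : Hyp A P) (hna : ∃ x y : P, x * y ≠ y * x) :
    Subgroup.center P = Om h :=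
  le_antisymm (fun z hz => center_sq h hna z hz) (Om_le_center h)

end sub

section cyclic

universe u

variable {P : Type u} [Group P]

/-- Unpacking the Suzuki hypothesis. -/
theorem exists_hyp (hP : Cfsg.IsSuzukiTwoGroup P) :
    ∃ (A : Type u) (_ : CommGroup A) (_ : MulDistribMulAction A P),
      Finite P ∧ IsCyclic A ∧ Hyp A P ∧ ∃ x y : P, x * y ≠ y * x := by
  obtain ⟨hfin, h2, hna, hinv, K, hK, hreg⟩ := hP
  letI : CommGroup K := IsCyclic.commGroup
  refine ⟨↥K, inferInstance, inferInstance, hfin, hK, ⟨h2, ?_, hinv⟩, hna⟩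
  intro x y hx hx2 hy hy2
  obtain ⟨k, hk, hu⟩ := hreg x y hx hx2 hy hy2
  exact ⟨k, hk, fun k' hk' => hu k' hk'⟩

end cyclic

end Cfsg.Agent.Lib.SuzT1
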