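import Mathlib
import Cfsg.Agent.Lib.CoprimeAct

/-!
# Central extensions with the same squaring map are isomorphic

Two groups which are central extensions of an elementary abelian group by an elementary abelian
group and have the same squaring map are isomorphic.
-/

set_option autoImplicit false
set_option linter.unusedSectionVars false
set_option linter.unusedVariables false
set_option linter.style.haveILetI false

namespace Cfsg.Agent.Lib.SuzIsoQuad

section complement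

variable {R : Type*} [Group R]

/-- A complement modulo `D` when all squares are in `D`. -/
theorem exists_complement_mod (D U : Subgroup R) [D.Normal] (hDU : D ≤ U)
    (h2 : ∀ r : R, r * r ∈ D) :
    ∃ L : Subgroup R, D ≤ L ∧ (∀ x ∈ L, x ∈ U → x ∈ D) ∧ ∀ r : R, ∃ u ∈ U, r * u ∈ L := by
  classical
  haveI hp : Fact (Nat.Prime 2) := ⟨Nat.prime_two⟩
  have hsq : ∀ v : R ⧸ D, v * v = 1 := by
    intro v
    obtain ⟨r, rfl⟩ := QuotientGroup.mk_surjective v
    rw [← QuotientGroup.mk_mul, QuotientGroup.eq_one_iff]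
    exact h2 r
  have hcomm : ∀ v w : R ⧸ D, v * w = w * v := by
    intro v w
    have h1 := hsq (v * w)
    have h3 := hsq v
    have h4 := hsq w
    calc v * w = v * (v * w * (v * w)) * w := by rw [h1]; simp [hsq]
      _ = (v * v) * (w * v) * (w * w) := by group
      _ = w * v := by rw [h3, h4]; simp
  letI cg : CommGroup (R ⧸ D) := { (inferInstance : Group (R ⧸ D)) with mul_comm := hcomm }
  obtain ⟨f, hf1, hf2, hf3⟩ := Cfsg.Agent.Lib.CoprimeAct.exists_retraction (V := R ⧸ D) 2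
    (fun v => by rw [pow_two]; exact hsq v) (U.map (QuotientGroup.mk' D))
  have hf0 : f 1 = 1 := by
    have := hf1 1 1
    rw [mul_one] at this
    exact (mul_eq_left.1 this.symm)
  have hfinv : ∀ v, f v⁻¹ = (f v)⁻¹ := by
    intro v
    have := hf1 v⁻¹ v
    rw [inv_mul_cancel, hf0] at this
    exact eq_inv_of_mul_eq_one_left this.symm
  let L : Subgroup R :=
    { carrier := {r | f (r : R ⧸ D) = 1}
      one_mem' := hf0
      mul_mem' := by
        intro a b ha hb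
        show f ((a : R ⧸ D) * (b : R ⧸ D)) = 1
        rw [hf1]
        show f (a : R ⧸ D) * f (b : R ⧸ D) = 1
        rw [show f (a : R ⧸ D) = 1 from ha, show f (b : R ⧸ D) = 1 from hb, one_mul]
      inv_mem' := by
        intro a ha
        show f ((a : R ⧸ D)⁻¹) = 1
        rw [hfinv, show f (a : R ⧸ D) = 1 from ha, inv_one] }
  refine ⟨L, ?_, ?_, ?_⟩
  · intro d hd
    show f (d : R ⧸ D) = 1
    rw [(QuotientGroup.eq_one_iff d).mpr hd, hf0]
  · intro x hxL hxU
    have h1 : f (x : R ⧸ D) = (x : R ⧸ D) := hf3 _ ⟨x, hxU, rfl⟩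
    have h3 : f (x : R ⧸ D) = 1 := hxL
    rw [h1] at h3
    exact (QuotientGroup.eq_one_iff x).mp h3
  · intro r
    obtain ⟨u, hu, hur⟩ := hf2 (r : R ⧸ D)
    refine ⟨u⁻¹, U.inv_mem hu, ?_⟩
    show f ((r * u⁻¹ : R) : R ⧸ D) = 1
    rw [QuotientGroup.mk_mul, hf1, QuotientGroup.mk_inv, hfinv]
    have h1 : f (u : R ⧸ D) = (u : R ⧸ D) := hf3 _ ⟨u, hu, rfl⟩
    rw [h1]
    have h3 : (u : R ⧸ D) = f (r : R ⧸ D) := hur
    rw [h3]
    simp

end complement

section graph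

variable {P G : Type*} [Group P] [Group G]

/-- A subgroup of a product which is a graph in both directions gives an isomorphism. -/
theorem nonempty_equiv_of_graph (L : Subgroup (P × G))
    (h1 : ∀ x, ∃! w, (x, w) ∈ L) (h2 : ∀ w, ∃! x, (x, w) ∈ L) : Nonempty (P ≃* G) := by
  classical
  choose f hf hfu using h1
  choose g hg hgu using h2
  refine ⟨MulEquiv.mk' (Equiv.mk f g ?_ ?_) ?_⟩
  · intro x
    exact (hgu (f x) x (hf x)).symm
  · intro w
    exact (hfu (g w) w (hg w)).symm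
  · intro x y
    exact (hfu (x * y) _ (L.mul_mem (hf x) (hf y))).symm

end graph

section main

variable {P G F : Type*} [Group P] [Group G] [AddCommGroup F]

/-- Central extensions with the same squaring map are isomorphic. -/
theorem nonempty_equiv (h2F : ∀ u : F, u + u = 0)
    (τ : P → F) (τ' : G → F) (ρ : P → F) (ρ' : G → F)
    (hτ : ∀ x y, τ (x * y) = τ x + τ y) (hτ' : ∀ x y, τ' (x * y) = τ' x + τ' y)
    (hs : ∀ u, ∃ x, τ x = u) (hs' : ∀ u, ∃ x, τ' x = u)
    (hc : ∀ x, τ x = 0 → x ∈ Subgroup.center P) (hc' : ∀ x, τ' x = 0 → x ∈ Subgroup.center G)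
    (hρ : ∀ x y, τ x = 0 → τ y = 0 → ρ (x * y) = ρ x + ρ y)
    (hρ' : ∀ x y, τ' x = 0 → τ' y = 0 → ρ' (x * y) = ρ' x + ρ' y)
    (hρs : ∀ u, ∃ x, τ x = 0 ∧ ρ x = u) (hρs' : ∀ u, ∃ x, τ' x = 0 ∧ ρ' x = u)
    (hρi : ∀ x, τ x = 0 → ρ x = 0 → x = 1) (hρi' : ∀ x, τ' x = 0 → ρ' x = 0 → x = 1)
    (hq : ∀ x w, τ x = τ' w → ρ (x * x) = ρ' (w * w)) : Nonempty (P ≃* G) := by
  classical
  have ht1 : τ 1 = 0 := by
    have := hτ 1 1
    rw [mul_one] at this
    simpa using this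
  have ht1' : τ' 1 = 0 := by
    have := hτ' 1 1
    rw [mul_one] at this
    simpa using this
  have hti : ∀ x, τ x⁻¹ = τ x := by
    intro x
    have h1 := hτ x⁻¹ x
    rw [inv_mul_cancel, ht1] at h1
    have h3 := h2F (τ x)
    have : τ x⁻¹ + τ x = τ x + τ x := by rw [← h1, h3]
    exact add_right_cancel this
  have hti' : ∀ x, τ' x⁻¹ = τ' x := by
    intro x
    have h1 := hτ' x⁻¹ x
    rw [inv_mul_cancel, ht1'] at h1
    have h3 := h2F (τ' x)
    have : τ' x⁻¹ + τ' x = τ' x + τ' x := by rw [← h1, h3]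
    exact add_right_cancel this
  have hr1 : ρ 1 = 0 := by
    have := hρ 1 1 ht1 ht1
    rw [mul_one] at this
    simpa using this
  have hr1' : ρ' 1 = 0 := by
    have := hρ' 1 1 ht1' ht1'
    rw [mul_one] at this
    simpa using this
  have hri : ∀ x, τ x = 0 → ρ x⁻¹ = ρ x := by
    intro x hx
    have h1 := hρ x⁻¹ x (by rw [hti, hx]) hx
    rw [inv_mul_cancel, hr1] at h1
    have h3 := h2F (ρ x)
    have : ρ x⁻¹ + ρ x = ρ x + ρ x := by rw [← h1, h3]
    exact add_right_cancel this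
  have hri' : ∀ x, τ' x = 0 → ρ' x⁻¹ = ρ' x := by
    intro x hx
    have h1 := hρ' x⁻¹ x (by rw [hti', hx]) hx
    rw [inv_mul_cancel, hr1'] at h1
    have h3 := h2F (ρ' x)
    have : ρ' x⁻¹ + ρ' x = ρ' x + ρ' x := by rw [← h1, h3]
    exact add_right_cancel this
  -- the fibre product
  let R : Subgroup (P × G) :=
    { carrier := {r | τ r.1 = τ' r.2}
      one_mem' := by
        show τ 1 = τ' 1
        rw [ht1, ht1']
      mul_mem' := by
        intro a b ha hb
        show τ (a.1 * b.1) = τ' (a.2 * b.2)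
        rw [hτ, hτ', show τ a.1 = τ' a.2 from ha, show τ b.1 = τ' b.2 from hb]
      inv_mem' := by
        intro a ha
        show τ (a.1⁻¹) = τ' (a.2⁻¹)
        rw [hti, hti']
        exact ha }
  have hsqk : ∀ x, τ (x * x) = 0 := fun x => by rw [hτ, h2F]
  have hsqk' : ∀ x, τ' (x * x) = 0 := fun x => by rw [hτ', h2F]
  let U : Subgroup R :=
    { carrier := {r | τ r.1.1 = 0 ∧ τ' r.1.2 = 0}
      one_mem' := ⟨ht1, ht1'⟩
      mul_mem' := by
        rintro a b ⟨ha, ha'⟩ ⟨hb, hb'⟩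
        constructor
        · show τ (a.1.1 * b.1.1) = 0
          rw [hτ, ha, hb, add_zero]
        · show τ' (a.1.2 * b.1.2) = 0
          rw [hτ', ha', hb', add_zero]
      inv_mem' := by
        rintro a ⟨ha, ha'⟩
        constructor
        · show τ (a.1.1⁻¹) = 0
          rw [hti, ha]
        · show τ' (a.1.2⁻¹) = 0
          rw [hti', ha'] }
  let D : Subgroup R :=
    { carrier := {r | τ r.1.1 = 0 ∧ τ' r.1.2 = 0 ∧ ρ r.1.1 = ρ' r.1.2}
      one_mem' := ⟨ht1, ht1', hr1.trans hr1'.symm⟩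
      mul_mem' := by
        rintro a b ⟨ha, ha', ha''⟩ ⟨hb, hb', hb''⟩
        refine ⟨?_, ?_, ?_⟩
        · show τ (a.1.1 * b.1.1) = 0
          rw [hτ, ha, hb, add_zero]
        · show τ' (a.1.2 * b.1.2) = 0
          rw [hτ', ha', hb', add_zero]
        · show ρ (a.1.1 * b.1.1) = ρ' (a.1.2 * b.1.2)
          rw [hρ _ _ ha hb, hρ' _ _ ha' hb', ha'', hb'']
      inv_mem' := by
        rintro a ⟨ha, ha', ha''⟩
        refine ⟨?_, ?_, ?_⟩
        · show τ (a.1.1⁻¹) = 0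
          rw [hti, ha]
        · show τ' (a.1.2⁻¹) = 0
          rw [hti', ha']
        · show ρ (a.1.1⁻¹) = ρ' (a.1.2⁻¹)
          rw [hri _ ha, hri' _ ha', ha''] }
  haveI hDn : D.Normal := by
    refine ⟨fun d hd g => ?_⟩
    obtain ⟨h1, h3, h4⟩ := hd
    have hc1 := hc _ h1
    have hc2 := hc' _ h3
    have e1 : (g * d * g⁻¹).1.1 = d.1.1 := by
      show g.1.1 * d.1.1 * g.1.1⁻¹ = d.1.1
      rw [(Subgroup.mem_center_iff.mp hc1 g.1.1)]
      group
    have e2 : (g * d * g⁻¹).1.2 = d.1.2 := by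
      show g.1.2 * d.1.2 * g.1.2⁻¹ = d.1.2
      rw [(Subgroup.mem_center_iff.mp hc2 g.1.2)]
      group
    refine ⟨?_, ?_, ?_⟩
    · rw [e1]; exact h1
    · rw [e2]; exact h3
    · rw [e1, e2]; exact h4
  have hDU : D ≤ U := fun d hd => ⟨hd.1, hd.2.1⟩
  have hsqD : ∀ r : R, r * r ∈ D := by
    intro r
    refine ⟨hsqk _, hsqk' _, ?_⟩
    exact hq r.1.1 r.1.2 r.2
  obtain ⟨L, hDL, hLU, hLsup⟩ := exists_complement_mod D U hDU hsqD
  -- the graph
  let L' : Subgroup (P × G) := L.map R.subtype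
  have hmemL' : ∀ x w, (x, w) ∈ L' → τ x = τ' w := by
    rintro x w ⟨r, _, hr⟩
    have h1 := r.2
    have h3 : r.1 = (x, w) := hr
    rw [h3] at h1
    exact h1
  have hunique : ∀ x w, τ x = 0 → τ' w = 0 → (x, w) ∈ L' → ρ x = ρ' w := by
    intro x w hx hw hL
    obtain ⟨r, hr, hre⟩ := hL
    have h3 : r.1 = (x, w) := hre
    have hU : r ∈ U := by
      refine ⟨?_, ?_⟩
      · show τ r.1.1 = 0
        rw [h3]; exact hx
      · show τ' r.1.2 = 0
        rw [h3]; exact hw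
    have hD := hLU r hr hU
    have := hD.2.2
    rw [h3] at this
    exact this
  have hDL' : ∀ x w, τ x = 0 → τ' w = 0 → ρ x = ρ' w → (x, w) ∈ L' := by
    intro x w hx hw he
    refine ⟨⟨(x, w), by show τ x = τ' w; rw [hx, hw]⟩, hDL ⟨hx, hw, he⟩, rfl⟩
  have hdecomp : ∀ x w, τ x = τ' w → ∃ z z', τ z = 0 ∧ τ' z' = 0 ∧ (x * z, w * z') ∈ L' := by
    intro x w hxw
    obtain ⟨u, ⟨hu, hu'⟩, huL⟩ := hLsup ⟨(x, w), hxw⟩
    exact ⟨u.1.1, u.1.2, hu, hu', _, huL, rfl⟩
  refine nonempty_equiv_of_graph L' ?_ ?_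
  · intro x
    obtain ⟨w₀, hw₀⟩ := hs' (τ x)
    obtain ⟨z, z', hz, hz', hL⟩ := hdecomp x w₀ hw₀.symm
    obtain ⟨z'', hz'', hzz⟩ := hρs' (ρ z⁻¹)
    have hm : (z⁻¹, z'') ∈ L' := hDL' _ _ (by rw [hti, hz]) hz'' hzz.symm
    have hmm := L'.mul_mem hL hm
    have hw : (x * z, w₀ * z') * (z⁻¹, z'') = (x, w₀ * z' * z'') := by
      simp
    rw [hw] at hmm
    refine ⟨_, hmm, ?_⟩
    intro w hw1
    have hm2 := L'.mul_mem hw1 (L'.inv_mem hmm)
    have he : (x, w) * (x, w₀ * z' * z'')⁻¹ = (1, w * (w₀ * z' * z'')⁻¹) := by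
      simp
    rw [he] at hm2
    have hk : τ' (w * (w₀ * z' * z'')⁻¹) = 0 := by
      have := hmemL' _ _ hm2
      rw [ht1] at this
      exact this.symm
    have h0 := hunique _ _ ht1 hk hm2
    rw [hr1] at h0
    have h1 := hρi' _ hk h0.symm
    exact mul_inv_eq_one.mp h1
  · intro w
    obtain ⟨x₀, hx₀⟩ := hs (τ' w)
    obtain ⟨z, z', hz, hz', hL⟩ := hdecomp x₀ w hx₀
    obtain ⟨z'', hz'', hzz⟩ := hρs (ρ' z'⁻¹)
    have hm : (z'', z'⁻¹) ∈ L' := hDL' _ _ hz'' (by rw [hti', hz']) hzz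
    have hmm := L'.mul_mem hL hm
    have hw : (x₀ * z, w * z') * (z'', z'⁻¹) = (x₀ * z * z'', w) := by
      simp
    rw [hw] at hmm
    refine ⟨_, hmm, ?_⟩
    intro x hx1
    have hm2 := L'.mul_mem hx1 (L'.inv_mem hmm)
    have he : (x, w) * (x₀ * z * z'', w)⁻¹ = (x * (x₀ * z * z'')⁻¹, 1) := by
      simp
    rw [he] at hm2
    have hk : τ (x * (x₀ * z * z'')⁻¹) = 0 := by
      have := hmemL' _ _ hm2
      rw [ht1'] at this
      exact this
    have h0 := hunique _ _ hk ht1' hm2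
    rw [hr1'] at h0
    have h1 := hρi _ hk h0
    exact mul_inv_eq_one.mp h1

end main

end Cfsg.Agent.Lib.SuzIsoQuad
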