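import Mathlib
import Cfsg.Agent.Lib.SuzIsoQuad
import Cfsg.Prelude.Def_LieRecognition

/-!
# The groups of type A
-/

set_option autoImplicit false
set_option linter.unusedSectionVars false
set_option linter.unusedVariables false
set_option linter.style.haveILetI false

namespace Cfsg.Agent.Lib.SuzTypeA

open Matrix

variable {F : Type*} [Field F] [CharP F 2] (φ : F →+* F)

/-- The matrices. -/
def mat (x y : F) : Matrix (Fin 3) (Fin 3) F := !![1, 0, 0; x, 1, 0; y, φ x, 1]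

lemma mat_mul (x y x' y' : F) :
    mat φ x y * mat φ x' y' = mat φ (x + x') (y + y' + φ x * x') := by
  ext i j
  fin_cases i <;> fin_cases j <;>
    simp [mat, Matrix.mul_apply, Fin.sum_univ_three] <;> ring

lemma mat_zero : mat φ 0 0 = 1 := by
  ext i j
  fin_cases i <;> fin_cases j <;> simp [mat]

lemma add_self' (x : F) : x + x = 0 := CharTwo.add_self_eq_zero x

/-- Invertible matrices. -/
def gl (x y : F) : GL (Fin 3) F where
  val := mat φ x y
  inv := mat φ x (y + φ x * x)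
  val_inv := by
    rw [mat_mul, add_self', ← mat_zero φ]
    congr 1
    have := add_self' y
    have h2 := add_self' (φ x * x)
    linear_combination this + h2
  inv_val := by
    rw [mat_mul, add_self', ← mat_zero φ]
    congr 1
    have := add_self' y
    have h2 := add_self' (φ x * x)
    linear_combination this + h2

lemma gl_val (x y : F) : ((gl φ x y : GL (Fin 3) F) : Matrix (Fin 3) (Fin 3) F) = mat φ x y := rfl

lemma gl_mem (x y : F) : gl φ x y ∈ Cfsg.suzukiTypeA F φ :=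
  Subgroup.subset_closure ⟨x, y, rfl⟩

lemma exists_of_mem {g : GL (Fin 3) F} (hg : g ∈ Cfsg.suzukiTypeA F φ) :
    ∃ x y, g = gl φ x y := by
  induction hg using Subgroup.closure_induction with
  | mem g hg =>
    obtain ⟨x, y, h⟩ := hg
    exact ⟨x, y, Units.ext h⟩
  | one =>
    refine ⟨0, 0, Units.ext ?_⟩
    rw [gl_val, mat_zero]
    rfl
  | mul a b _ _ ha hb =>
    obtain ⟨x, y, rfl⟩ := ha
    obtain ⟨x', y', rfl⟩ := hb
    refine ⟨x + x', y + y' + φ x * x', Units.ext ?_⟩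
    rw [Units.val_mul, gl_val, gl_val, gl_val, mat_mul]
  | inv a _ ha =>
    obtain ⟨x, y, rfl⟩ := ha
    exact ⟨x, y + φ x * x, Units.ext rfl⟩

lemma gl_mul (x y x' y' : F) :
    gl φ x y * gl φ x' y' = gl φ (x + x') (y + y' + φ x * x') :=
  Units.ext (by rw [Units.val_mul, gl_val, gl_val, gl_val, mat_mul])

lemma gl_x (x y : F) : ((gl φ x y : GL (Fin 3) F) : Matrix (Fin 3) (Fin 3) F) 1 0 = x := by
  simp [gl_val, mat]

lemma gl_y (x y : F) : ((gl φ x y : GL (Fin 3) F) : Matrix (Fin 3) (Fin 3) F) 2 0 = y := by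
  simp [gl_val, mat]

/-- The two coordinates on the group. -/
def tauA (g : Cfsg.suzukiTypeA F φ) : F := ((g : GL (Fin 3) F) : Matrix (Fin 3) (Fin 3) F) 1 0

/-- The two coordinates on the group. -/
def rhoA (g : Cfsg.suzukiTypeA F φ) : F := ((g : GL (Fin 3) F) : Matrix (Fin 3) (Fin 3) F) 2 0

lemma elim (g : Cfsg.suzukiTypeA F φ) : ∃ x y, (g : GL (Fin 3) F) = gl φ x y :=
  exists_of_mem φ g.2

lemma tauA_mul (g k : Cfsg.suzukiTypeA F φ) : tauA φ (g * k) = tauA φ g + tauA φ k := by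
  obtain ⟨x, y, hg⟩ := elim φ g
  obtain ⟨x', y', hk⟩ := elim φ k
  simp only [tauA, Subgroup.coe_mul, hg, hk, gl_mul, gl_x]

lemma tauA_surj (u : F) : ∃ g, tauA φ g = u := ⟨⟨gl φ u 0, gl_mem φ u 0⟩, gl_x φ u 0⟩

lemma central_of_tauA (g : Cfsg.suzukiTypeA F φ) (hg : tauA φ g = 0) :
    g ∈ Subgroup.center (Cfsg.suzukiTypeA F φ) := by
  obtain ⟨x, y, h⟩ := elim φ g
  have hx : x = 0 := by
    have : tauA φ g = x := by simp only [tauA, h, gl_x]
    rw [← this, hg]
  rw [Subgroup.mem_center_iff]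
  intro k
  obtain ⟨x', y', hk⟩ := elim φ k
  apply Subtype.ext
  simp only [Subgroup.coe_mul, h, hk, gl_mul, hx]
  congr 1
  · ring
  · simp only [map_zero, mul_zero, zero_mul]
    ring

lemma rhoA_mul (g k : Cfsg.suzukiTypeA F φ) (hg : tauA φ g = 0) (hk : tauA φ k = 0) :
    rhoA φ (g * k) = rhoA φ g + rhoA φ k := by
  obtain ⟨x, y, h⟩ := elim φ g
  obtain ⟨x', y', h'⟩ := elim φ k
  have hx : x = 0 := by
    have : tauA φ g = x := by simp only [tauA, h, gl_x]
    rw [← this, hg]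
  simp only [rhoA, Subgroup.coe_mul, h, h', gl_mul, gl_y, hx, map_zero, zero_mul, add_zero]

lemma rhoA_surj (u : F) : ∃ g, tauA φ g = 0 ∧ rhoA φ g = u :=
  ⟨⟨gl φ 0 u, gl_mem φ 0 u⟩, gl_x φ 0 u, gl_y φ 0 u⟩

lemma eq_one_of_rhoA (g : Cfsg.suzukiTypeA F φ) (hg : tauA φ g = 0) (hk : rhoA φ g = 0) : g = 1 := by
  obtain ⟨x, y, h⟩ := elim φ g
  have hx : x = 0 := by
    have : tauA φ g = x := by simp only [tauA, h, gl_x]
    rw [← this, hg]
  have hy : y = 0 := by
    have : rhoA φ g = y := by simp only [rhoA, h, gl_y]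
    rw [← this, hk]
  apply Subtype.ext
  apply Units.ext
  rw [h, gl_val, hx, hy, mat_zero]
  rfl

lemma rhoA_sq (g : Cfsg.suzukiTypeA F φ) : rhoA φ (g * g) = φ (tauA φ g) * tauA φ g := by
  obtain ⟨x, y, h⟩ := elim φ g
  have e : tauA φ g = x := by simp only [tauA, h, gl_x]
  rw [e]
  simp only [rhoA, Subgroup.coe_mul, h, gl_mul, gl_y]
  rw [add_self', zero_add]

/-- The isomorphism criterion for type A. -/
theorem nonempty_equiv_typeA {P : Type*} [Group P] (τ ρ : P → F)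
    (hτ : ∀ x y, τ (x * y) = τ x + τ y)
    (hs : ∀ u, ∃ x, τ x = u)
    (hc : ∀ x, τ x = 0 → x ∈ Subgroup.center P)
    (hρ : ∀ x y, τ x = 0 → τ y = 0 → ρ (x * y) = ρ x + ρ y)
    (hρs : ∀ u, ∃ x, τ x = 0 ∧ ρ x = u)
    (hρi : ∀ x, τ x = 0 → ρ x = 0 → x = 1)
    (hq : ∀ x, ρ (x * x) = τ x * φ (τ x)) : Nonempty (P ≃* Cfsg.suzukiTypeA F φ) := by
  refine Cfsg.Agent.Lib.SuzIsoQuad.nonempty_equiv add_self' τ (tauA φ) ρ (rhoA φ) hτ (tauA_mul φ) hs
    (tauA_surj φ) hc (central_of_tauA φ) hρ (rhoA_mul φ) hρs (rhoA_surj φ) hρi (eq_one_of_rhoA φ) ?_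
  intro x w hxw
  rw [hq, rhoA_sq, hxw, mul_comm]

end Cfsg.Agent.Lib.SuzTypeA
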