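import Mathlib
import Cfsg.Agent.Lib.SuzT1
import Cfsg.Agent.Lib.SuzField
import Cfsg.Agent.Lib.SuzTypeA

/-!
# Suzuki 2-groups of order `q²`
-/

set_option autoImplicit false
set_option linter.unusedSectionVars false
set_option linter.unusedVariables false
set_option linter.style.haveILetI false

open scoped commutatorElement

namespace Cfsg.Agent.Lib.SuzQ

open Cfsg.Agent.Lib.SuzTwo Cfsg.Agent.Lib.SuzT1

section quot

variable {A P : Type*} [CommGroup A] [Group P] [MulDistribMulAction A P] [Finite P] (h : Hyp A P)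

lemma smul_mem_iff {N : Subgroup P} (hN : ∀ a : A, ∀ x ∈ N, a • x ∈ N) (a : A) (x : P) :
    a • x ∈ N ↔ x ∈ N := by
  constructor
  · intro hm
    have := hN a⁻¹ _ hm
    simpa using this
  · exact hN a x

include h in
/-- Freeness on cosets. -/
lemma eq_of_smul_mod (N : Subgroup P) [N.Normal] (hN : ∀ a : A, ∀ x ∈ N, a • x ∈ N) {x : P}
    (hx : x ∉ N) {a b : A} (hab : (a • x) * (b • x)⁻¹ ∈ N) : a = b := by
  by_contra hne
  have hc : b⁻¹ * a ≠ 1 := by
    intro e
    apply hne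
    exact (inv_mul_eq_one.mp e).symm
  apply hx
  apply free h hc (hN _) (x := x)
  have h1 := hN b⁻¹ _ hab
  rw [smul_mul', smul_inv', smul_smul, smul_smul, inv_mul_cancel, one_smul] at h1
  exact h1

/-- The orbit map with a base point added. -/
def orb (N : Subgroup P) [N.Normal] (x : P) : Option A → P ⧸ N
  | none => 1
  | some a => ((a • x : P) : P ⧸ N)

include h in
lemma orb_inj (N : Subgroup P) [N.Normal] (hN : ∀ a : A, ∀ x ∈ N, a • x ∈ N) {x : P}
    (hx : x ∉ N) : Function.Injective (orb (A := A) N x) := by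
  rintro (_ | a) (_ | b) hab
  · rfl
  · exfalso
    have h1 : ((b • x : P) : P ⧸ N) = 1 := hab.symm
    rw [QuotientGroup.eq_one_iff, smul_mem_iff hN] at h1
    exact hx h1
  · exfalso
    have h1 : ((a • x : P) : P ⧸ N) = 1 := hab
    rw [QuotientGroup.eq_one_iff, smul_mem_iff hN] at h1
    exact hx h1
  · have h1 : ((a • x : P) : P ⧸ N) = ((b • x : P) : P ⧸ N) := hab
    rw [QuotientGroup.eq_iff_div_mem, div_eq_mul_inv] at h1
    rw [eq_of_smul_mod h N hN hx h1]

variable {h} {F : Type*} [Field F] [Fintype F]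

/-- The order of the acting group. -/
lemma card_A (C : Coord h F) : Nat.card A + 1 = Fintype.card F := by
  classical
  have h1 : Nat.card A = Nat.card Fˣ := Nat.card_congr (Equiv.ofBijective _ C.hχ)
  rw [h1, Nat.card_eq_fintype_card, Fintype.card_units]
  have : 1 < Fintype.card F := Fintype.one_lt_card
  omega

lemma orb_bij (C : Coord h F) (N : Subgroup P) [N.Normal] (hN : ∀ a : A, ∀ x ∈ N, a • x ∈ N)
    (hq : Nat.card (P ⧸ N) = Fintype.card F) {x : P} (hx : x ∉ N) :
    Function.Bijective (orb (A := A) N x) := by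
  apply (orb_inj h N hN hx).bijective_of_nat_card_le
  haveI : Finite A := Finite.of_injective _ C.hχ.1
  rw [Finite.card_option, card_A C, hq]

lemma reg_of_card (C : Coord h F) (N : Subgroup P) [N.Normal] (hN : ∀ a : A, ∀ x ∈ N, a • x ∈ N)
    (hq : Nat.card (P ⧸ N) = Fintype.card F) {x y : P} (hx : x ∉ N) (hy : y ∉ N) :
    ∃! a : A, (a • x) * y⁻¹ ∈ N := by
  obtain ⟨o, ho⟩ := (orb_bij C N hN hq hx).2 (y : P ⧸ N)
  cases o with
  | none =>
    exfalso
    have h1 : (y : P ⧸ N) = 1 := ho.symm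
    exact hy ((QuotientGroup.eq_one_iff y).mp h1)
  | some a =>
    have h1 : ((a • x : P) : P ⧸ N) = (y : P ⧸ N) := ho
    refine ⟨a, ?_, ?_⟩
    · show (a • x) * y⁻¹ ∈ N
      rw [QuotientGroup.eq_iff_div_mem, div_eq_mul_inv] at h1
      exact h1
    · intro b hb
      have h2 : ((b • x : P) : P ⧸ N) = (y : P ⧸ N) := by
        rw [QuotientGroup.eq_iff_div_mem, div_eq_mul_inv]
        exact hb
      have h3 : orb (A := A) N x (some b) = orb (A := A) N x (some a) := h2.trans h1.symm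
      have := (orb_inj h N hN hx) h3
      exact Option.some.inj this

/-- The section is everything as soon as it is nontrivial and the quotient has `q` elements. -/
lemma secE_top (C : Coord h F) (N : Subgroup P) [N.Normal] (hN : ∀ a : A, ∀ x ∈ N, a • x ∈ N)
    (hq : Nat.card (P ⧸ N) = Fintype.card F) (hne : N ≠ ⊤) : secE N = ⊤ := by
  obtain ⟨x, hx, hxE⟩ := secE_ne h.two N hne
  rw [Subgroup.eq_top_iff']
  intro y
  by_cases hy : y ∈ N
  · exact le_secE N hy
  · obtain ⟨a, ha, _⟩ := reg_of_card C N hN hq hx hy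
    have h1 : y = ((a • x) * y⁻¹)⁻¹ * (a • x) := by group
    rw [h1]
    exact mul_mem (le_secE N (inv_mem ha)) (Cfsg.Agent.Lib.SuzT1.secE_inv N hN a hxE)

/-- Coordinates on a section. -/
theorem exists_sec_coords (N : Subgroup P) [N.Normal]
    (hNinv : ∀ a : A, ∀ x ∈ N, a • x ∈ N) (hcomm : ∀ x y : P, ⁅x, y⁆ ∈ N)
    (hreg : ∀ x y, x ∉ N → y ∉ N → ∃! a : A, (a • x) * y⁻¹ ∈ N) {x₀ : P} (hx₀ : x₀ ∉ N)
    (hcard : Fintype.card F = Nat.card (P ⧸ N)) :
    ∃ (τ : P → F) (χ' : A →* Fˣ), Function.Bijective χ' ∧ (∀ x y, τ (x * y) = τ x + τ y) ∧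
      (∀ a x, τ (a • x) = (χ' a : F) * τ x) ∧ (∀ u, ∃ x, τ x = u) ∧ (∀ x, τ x = 0 ↔ x ∈ N) := by
  classical
  letI cg : CommGroup (P ⧸ N) :=
    { (inferInstance : Group (P ⧸ N)) with
      mul_comm := by
        intro a b
        obtain ⟨x, rfl⟩ := QuotientGroup.mk_surjective a
        obtain ⟨y, rfl⟩ := QuotientGroup.mk_surjective b
        have h1 : ((⁅x, y⁆ : P) : P ⧸ N) = 1 := (QuotientGroup.eq_one_iff _).mpr (hcomm x y)
        rw [commutatorElement_def] at h1
        show ((x * y : P) : P ⧸ N) = ((y * x : P) : P ⧸ N)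
        rw [QuotientGroup.eq_iff_div_mem]
        have e : x * y / (y * x) = x * y * x⁻¹ * y⁻¹ := by
          rw [div_eq_mul_inv]; group
        rw [e]
        exact hcomm x y }
  letI qa := Cfsg.Agent.Lib.CoprimeAct.quotAct (A := A) N hNinv
  have hqs : ∀ (a : A) (x : P), a • (x : P ⧸ N) = ((a • x : P) : P ⧸ N) := fun _ _ => rfl
  letI act : DistribMulAction A (Additive (P ⧸ N)) :=
    { smul := fun a x => Additive.ofMul (a • x.toMul)
      one_smul := fun x => by
        apply Additive.toMul.injective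
        show (1 : A) • x.toMul = x.toMul
        rw [one_smul]
      mul_smul := fun a b x => by
        apply Additive.toMul.injective
        show (a * b) • x.toMul = a • b • x.toMul
        rw [mul_smul]
      smul_zero := fun a => by
        apply Additive.toMul.injective
        show a • (1 : P ⧸ N) = 1
        rw [smul_one]
      smul_add := fun a x y => by
        apply Additive.toMul.injective
        show a • (x.toMul * y.toMul) = (a • x.toMul) * (a • y.toMul)
        rw [smul_mul'] }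
  have hsm : ∀ (a : A) (x : P), a • Additive.ofMul (x : P ⧸ N)
      = Additive.ofMul ((a • x : P) : P ⧸ N) := fun _ _ => rfl
  have hv₀ : Additive.ofMul (x₀ : P ⧸ N) ≠ 0 := by
    intro e
    have h1 : (x₀ : P ⧸ N) = 1 := congrArg Additive.toMul e
    exact hx₀ ((QuotientGroup.eq_one_iff _).mp h1)
  have hnz : ∀ z : Additive (P ⧸ N), z ≠ 0 → ∃ x : P, x ∉ N ∧ z = Additive.ofMul (x : P ⧸ N) := by
    intro z hz
    obtain ⟨x, hx⟩ := QuotientGroup.mk_surjective z.toMul
    refine ⟨x, ?_, ?_⟩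
    · intro hm
      apply hz
      apply Additive.toMul.injective
      show z.toMul = 1
      rw [← hx]
      exact (QuotientGroup.eq_one_iff _).mpr hm
    · apply Additive.toMul.injective
      exact hx.symm
  have hreg' : ∀ x y : Additive (P ⧸ N), x ≠ 0 → y ≠ 0 → ∃! a : A, a • x = y := by
    intro x y hx hy
    obtain ⟨x', hx', rfl⟩ := hnz x hx
    obtain ⟨y', hy', rfl⟩ := hnz y hy
    obtain ⟨a, ha, hu⟩ := hreg x' y' hx' hy'
    refine ⟨a, ?_, ?_⟩
    · show a • Additive.ofMul (x' : P ⧸ N) = _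
      rw [hsm]
      apply Additive.toMul.injective
      show ((a • x' : P) : P ⧸ N) = (y' : P ⧸ N)
      rw [QuotientGroup.eq_iff_div_mem, div_eq_mul_inv]
      exact ha
    · intro b hb
      apply hu
      have hb : b • Additive.ofMul (x' : P ⧸ N) = Additive.ofMul (y' : P ⧸ N) := hb
      rw [hsm] at hb
      have h1 : ((b • x' : P) : P ⧸ N) = (y' : P ⧸ N) := congrArg Additive.toMul hb
      rw [QuotientGroup.eq_iff_div_mem, div_eq_mul_inv] at h1
      exact h1
  have hc : Fintype.card F = Nat.card (Additive (P ⧸ N)) := hcard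
  obtain ⟨ι, χ', hι, hχ'⟩ := Cfsg.Agent.Lib.Singer.singer_coords _ hv₀ hreg' F hc
  refine ⟨fun x => ι (Additive.ofMul (x : P ⧸ N)), χ', hχ', ?_, ?_, ?_, ?_⟩
  · intro x y
    show ι (Additive.ofMul ((x : P ⧸ N) * (y : P ⧸ N))) = _
    rw [ofMul_mul, map_add]
  · intro a x
    show ι (Additive.ofMul ((a • x : P) : P ⧸ N)) = (χ' a : F) * ι (Additive.ofMul (x : P ⧸ N))
    rw [← hsm, hι]
  · intro u
    obtain ⟨z, hz⟩ := ι.surjective u
    obtain ⟨x, hx⟩ := QuotientGroup.mk_surjective z.toMul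
    refine ⟨x, ?_⟩
    show ι (Additive.ofMul (x : P ⧸ N)) = u
    rw [← hz]
    congr 1
  · intro x
    constructor
    · intro h0
      have h1 : ι (Additive.ofMul (x : P ⧸ N)) = ι 0 := by rw [map_zero]; exact h0
      have h2 := ι.injective h1
      have h3 : (x : P ⧸ N) = 1 := congrArg Additive.toMul h2
      exact (QuotientGroup.eq_one_iff _).mp h3
    · intro hm
      have h3 : (x : P ⧸ N) = 1 := (QuotientGroup.eq_one_iff _).mpr hm
      show ι (Additive.ofMul (x : P ⧸ N)) = 0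
      rw [h3]
      exact map_zero ι

end quot

section main

variable {A P : Type*} [CommGroup A] [Group P] [MulDistribMulAction A P] [Finite P] {h : Hyp A P}
variable {F : Type*} [Field F] [Fintype F] [CharP F 2] {n : ℕ}

open Cfsg.Agent.Lib.SuzField

/-- The main classification step. -/
theorem typeA_of_coords (hF : Fintype.card F = 2 ^ n) (hn : 2 ≤ n) (C : Coord h F)
    (τ : P → F) (χ' : A →* Fˣ) (hχ' : Function.Bijective χ')
    (hτ1 : ∀ x y, τ (x * y) = τ x + τ y) (hτ2 : ∀ a x, τ (a • x) = (χ' a : F) * τ x)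
    (hτ3 : ∀ u, ∃ x, τ x = u) (hτ4 : ∀ x, τ x = 0 ↔ x ∈ Om h)
    (hcomm : ∀ x y : P, ⁅x, y⁆ ∈ Om h) (hsq : ∀ x : P, x * x ∈ Om h)
    (hna : ∃ x y : P, x * y ≠ y * x) :
    ∃ j, 0 < j ∧ j < n ∧ Odd (orderOf (frobPow F j)) ∧
      Nonempty (P ≃* Cfsg.suzukiTypeA F (frobPow F j : F →+* F)) := by
  classical
  have hadd2 : ∀ x : F, x + x = 0 := CharTwo.add_self_eq_zero
  -- the exponent
  obtain ⟨m, hm⟩ : ∃ m : ℕ, ∀ a : A, C.χ a = (χ' a) ^ m := by
    let e := MulEquiv.ofBijective χ' hχ'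
    let f : Fˣ →* Fˣ := C.χ.comp e.symm.toMonoidHom
    obtain ⟨g, hg⟩ := IsCyclic.exists_monoid_generator (α := Fˣ)
    obtain ⟨m, hm⟩ := hg (f g)
    refine ⟨m, fun a => ?_⟩
    obtain ⟨i, hi⟩ := hg (χ' a)
    have h1 : f (χ' a) = C.χ a := by
      show C.χ (e.symm (χ' a)) = _
      congr 1
      exact e.symm_apply_apply a
    rw [← h1, ← hi, map_pow, ← hm, ← pow_mul, ← pow_mul, mul_comm]
  have hm' : ∀ a : A, (C.χ a : F) = (χ' a : F) ^ m := by
    intro a
    rw [hm]
    simp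
  have hOmc : ∀ z ∈ Om h, z ∈ Subgroup.center P := fun z hz => Om_le_center h hz
  have ht1 : τ 1 = 0 := (hτ4 1).mpr (Om h).one_mem
  have hti : ∀ x, τ x⁻¹ = τ x := by
    intro x
    have h1 := hτ1 x⁻¹ x
    rw [inv_mul_cancel, ht1] at h1
    have h3 := hadd2 (τ x)
    linear_combination -h1 - h3
  -- elements with the same coordinate have the same square
  have hsq_eq : ∀ x y, τ x = τ y → x * x = y * y := by
    intro x y hxy
    have h1 : y⁻¹ * x ∈ Om h := by
      rw [← hτ4, hτ1, hti, hxy, hadd2]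
    have h2 : (y⁻¹ * x) * (y⁻¹ * x) = 1 := h1
    have h3 : x = y * (y⁻¹ * x) := by group
    rw [h3]
    set z := y⁻¹ * x
    calc y * z * (y * z) = y * (z * y) * z := by group
      _ = y * (y * z) * z := by rw [← central_comm (hOmc z h1) y]
      _ = y * y * (z * z) := by group
      _ = y * y := by rw [h2, mul_one]
  -- the quadratic map
  choose lift hlift using hτ3
  let Q : F → F := fun u => C.io (lift u * lift u)
  have hQτ : ∀ x, Q (τ x) = C.io (x * x) := by
    intro x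
    show C.io (lift (τ x) * lift (τ x)) = _
    rw [hsq_eq _ _ (hlift (τ x))]
  -- the polar form
  have hsqm : ∀ a b : P, C.io (a * b * (a * b)) = C.io ⁅a, b⁆ + C.io (a * a) + C.io (b * b) := by
    intro a b
    rw [sq_mul, conj_central (hOmc _ (hsq a))]
    rw [C.add _ ((Om h).mul_mem (hcomm a b) (hsq a)) _ (hsq b), C.add _ (hcomm a b) _ (hsq a)]
  have hpol : ∀ a b : P, Q (τ a + τ b) + Q (τ a) + Q (τ b) = C.io ⁅a, b⁆ := by
    intro a b
    rw [← hτ1, hQτ, hQτ, hQτ, hsqm]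
    have h1 := hadd2 (C.io (a * a))
    have h2 := hadd2 (C.io (b * b))
    linear_combination h1 + h2
  have hB : ∀ s s' t, Q (s + s' + t) + Q (s + s') + Q t =
      (Q (s + t) + Q s + Q t) + (Q (s' + t) + Q s' + Q t) := by
    have key : ∀ x x' y : P, Q (τ x + τ x' + τ y) + Q (τ x + τ x') + Q (τ y) =
        (Q (τ x + τ y) + Q (τ x) + Q (τ y)) + (Q (τ x' + τ y) + Q (τ x') + Q (τ y)) := by
      intro x x' y
      rw [← hτ1 x x', hpol, hpol, hpol, comm_mul_left (hOmc _ (hcomm _ _)),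
        C.add _ (hcomm _ _) _ (hcomm _ _)]
    intro s s' t
    have := key (lift s) (lift s') (lift t)
    simpa only [hlift] using this
  have hQ0 : Q 0 = 0 := by
    have := hQτ 1
    rw [ht1, mul_one, C.io_one] at this
    exact this
  have hscale : ∀ l t, l ≠ 0 → Q (l * t) = l ^ m * Q t := by
    intro l t hl
    obtain ⟨a, ha⟩ := hχ'.2 (Units.mk0 l hl)
    have hl' : (χ' a : F) = l := by rw [ha]; rfl
    rw [← hl', ← hlift t, ← hτ2, hQτ, hQτ, ← smul_sq, C.eqv a _ (hsq _), hm']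
  have hne : ∃ s t, Q (s + t) ≠ Q s + Q t := by
    obtain ⟨x, y, hxy⟩ := hna
    refine ⟨τ x, τ y, fun e => hxy ?_⟩
    rw [← comm_eq_one_iff]
    apply C.inj _ (hcomm x y)
    rw [← hpol, e]
    have h1 := hadd2 (Q (τ x))
    have h2 := hadd2 (Q (τ y))
    linear_combination h1 + h2
  obtain ⟨a, b, hab, hbn, hc, hform⟩ := quad_monomial hF hn Q m hB hQ0 hscale hne
  obtain ⟨j, rfl⟩ : ∃ j, b = a + j := ⟨b - a, by omega⟩
  have hj : 0 < j := by omega
  have hjn : j < n := by omega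
  have hfrob : ∀ t : F, t ^ (2 ^ a + 2 ^ (a + j)) = t ^ 2 ^ a * frobPow F j (t ^ 2 ^ a) := by
    intro t
    rw [frobPow_apply, ← pow_mul, ← pow_add, pow_add 2 a j]
  have hQne : ∀ t, t ≠ 0 → Q t ≠ 0 := by
    intro t ht e
    rw [← hlift t, hQτ] at e
    have h1 : lift t * lift t = 1 := C.inj _ (hsq _) e
    have h2 : lift t ∈ Om h := h1
    rw [← hτ4, hlift] at h2
    exact ht h2
  have hQinj : ∀ t t', t ≠ 0 → t' ≠ 0 → Q t = Q t' → t = t' := by
    intro t t' ht ht' e
    have hl : t' / t ≠ 0 := div_ne_zero ht' ht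
    obtain ⟨a₀, ha₀⟩ := hχ'.2 (Units.mk0 _ hl)
    have hl' : (χ' a₀ : F) = t' / t := by rw [ha₀]; rfl
    have h1 := hscale (t' / t) t hl
    rw [div_mul_cancel₀ _ ht, ← e] at h1
    have h2 : (t' / t) ^ m = 1 := by
      have h3 : (t' / t) ^ m * Q t = 1 * Q t := by rw [← h1, one_mul]
      exact mul_right_cancel₀ (hQne t ht) h3
    have h3 : (C.χ a₀ : F) = 1 := by rw [hm', hl', h2]
    have h4 : C.χ a₀ = 1 := Units.ext h3
    have h5 : a₀ = 1 := C.hχ.1 (h4.trans (map_one _).symm)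
    rw [h5, map_one] at hl'
    have h6 : t' / t = 1 := hl'.symm
    exact ((div_eq_one_iff_eq ht).mp h6).symm
  have hsurjF : ∀ u : F, ∃ t : F, t ^ 2 ^ a = u := by
    intro u
    obtain ⟨t, ht⟩ := (frobPow F a).surjective u
    exact ⟨t, by rw [← frobPow_apply, ht]⟩
  have hinj : ∀ u v : F, u ≠ 0 → v ≠ 0 → u * frobPow F j u = v * frobPow F j v → u = v := by
    intro u v hu hv huv
    obtain ⟨t, rfl⟩ := hsurjF u
    obtain ⟨t', rfl⟩ := hsurjF v
    have ht : t ≠ 0 := fun e => hu (by rw [e]; simp)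
    have ht' : t' ≠ 0 := fun e => hv (by rw [e]; simp)
    have : t = t' := hQinj t t' ht ht' (by
      rw [hform t, hform t', hfrob, hfrob, huv])
    rw [this]
  refine ⟨j, hj, hjn, odd_order hF hn hj hinj, ?_⟩
  refine Cfsg.Agent.Lib.SuzTypeA.nonempty_equiv_typeA (frobPow F j : F →+* F)
    (fun x => τ x ^ 2 ^ a) (fun x => (Q 1)⁻¹ * C.io x) ?_ ?_ ?_ ?_ ?_ ?_ ?_
  · intro x y
    show τ (x * y) ^ 2 ^ a = τ x ^ 2 ^ a + τ y ^ 2 ^ a
    rw [hτ1, Cfsg.Agent.Lib.LinPoly.frob_add]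
  · intro u
    obtain ⟨t, ht⟩ := hsurjF u
    exact ⟨lift t, by show τ (lift t) ^ 2 ^ a = u; rw [hlift, ht]⟩
  · intro x hx
    have hx' : τ x ^ 2 ^ a = 0 := hx
    exact hOmc _ ((hτ4 x).mp (pow_eq_zero_iff (by positivity) |>.mp hx'))
  · intro x y hx hy
    have hx' : τ x ^ 2 ^ a = 0 := hx
    have hy' : τ y ^ 2 ^ a = 0 := hy
    have hxO := (hτ4 x).mp (pow_eq_zero_iff (by positivity) |>.mp hx')
    have hyO := (hτ4 y).mp (pow_eq_zero_iff (by positivity) |>.mp hy')
    show (Q 1)⁻¹ * C.io (x * y) = (Q 1)⁻¹ * C.io x + (Q 1)⁻¹ * C.io y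
    rw [C.add _ hxO _ hyO, mul_add]
  · intro u
    obtain ⟨x, hx, hxu⟩ := C.surj (Q 1 * u)
    refine ⟨x, ?_, ?_⟩
    · show τ x ^ 2 ^ a = 0
      rw [(hτ4 x).mpr hx]
      exact zero_pow (by positivity)
    · show (Q 1)⁻¹ * C.io x = u
      rw [hxu, inv_mul_cancel_left₀ hc]
  · intro x hx hx0
    have hx' : τ x ^ 2 ^ a = 0 := hx
    have hxO := (hτ4 x).mp (pow_eq_zero_iff (by positivity) |>.mp hx')
    have hx0' : (Q 1)⁻¹ * C.io x = 0 := hx0
    apply C.inj x hxO
    rcases mul_eq_zero.mp hx0' with h1 | h1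
    · exact absurd h1 (inv_ne_zero hc)
    · exact h1
  · intro x
    show (Q 1)⁻¹ * C.io (x * x) = τ x ^ 2 ^ a * frobPow F j (τ x ^ 2 ^ a)
    rw [← hQτ, hform (τ x), inv_mul_cancel_left₀ hc, hfrob]

end main

section final

universe u

variable {P : Type u} [Group P]

open Cfsg.Agent.Lib.SuzField

/-- A Suzuki 2-group of order `q²` is of type A. -/
theorem typeA_main (hP : Cfsg.IsSuzukiTwoGroup P)
    (hcard : Nat.card P = Nat.card (Subgroup.center P) ^ 2) :
    ∃ (F : Type) (_ : Field F) (_ : Fintype F) (φ : F ≃+* F),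
      Fintype.card F = Nat.card (Subgroup.center P) ∧
      φ ≠ RingEquiv.refl F ∧ Odd (orderOf φ) ∧ Nonempty (P ≃* Cfsg.suzukiTypeA F (φ : F →+* F)) := by
  classical
  obtain ⟨A, i1, i2, hfin, -, h, hna⟩ := exists_hyp hP
  have hZ := center_eq_Om h hna
  obtain ⟨n, hn, hcardOm⟩ := exists_card_Om h
  haveI hf : Fact (Nat.Prime 2) := ⟨Nat.prime_two⟩
  have hn0 : n ≠ 0 := by omega
  let F := GaloisField 2 n
  haveI : Finite F := Nat.finite_of_card_ne_zero (by
    rw [GaloisField.card 2 n hn0]; positivity)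
  letI : Fintype F := Fintype.ofFinite F
  have hF : Fintype.card F = 2 ^ n := by
    rw [← Nat.card_eq_fintype_card, GaloisField.card 2 n hn0]
  obtain ⟨C⟩ := exists_coord h (F := F) (by rw [hF, hcardOm])
  have hcenter : Nat.card (Subgroup.center P) = 2 ^ n := by rw [hZ, hcardOm]
  have hq : Nat.card (P ⧸ Om h) = Fintype.card F := by
    have h1 := Subgroup.card_eq_card_quotient_mul_card_subgroup (Om h)
    rw [hcard, hcenter, hcardOm, pow_two] at h1
    rw [hF]
    exact Nat.eq_of_mul_eq_mul_right (by positivity) h1.symm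
  haveI hOmn : (Om h).Normal := by
    rw [← hZ]
    infer_instance
  have hOminv : ∀ a : A, ∀ x ∈ Om h, a • x ∈ Om h := fun a x hx => Om_inv h a hx
  have hne : Om h ≠ ⊤ := by
    rw [← hZ]
    intro e
    obtain ⟨x, y, hxy⟩ := hna
    have : y ∈ Subgroup.center P := by rw [e]; trivial
    exact hxy (central_comm this x)
  have hE := secE_top C (Om h) hOminv hq hne
  have hcomm : ∀ x y : P, ⁅x, y⁆ ∈ Om h := by
    intro x y
    have : x ∈ secE (Om h) := by rw [hE]; trivial
    exact this.2 y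
  have hsq : ∀ x : P, x * x ∈ Om h := by
    intro x
    have : x ∈ secE (Om h) := by rw [hE]; trivial
    exact this.1
  obtain ⟨x₀, hx₀⟩ : ∃ x, x ∉ Om h := by
    by_contra hc
    push Not at hc
    exact hne ((Subgroup.eq_top_iff' _).mpr hc)
  obtain ⟨τ, χ', hχ', h1, h2, h3, h4⟩ := exists_sec_coords (F := F) (Om h) hOminv hcomm
    (fun x y hx hy => reg_of_card C (Om h) hOminv hq hx hy) hx₀ hq.symm
  obtain ⟨j, hj, hjn, hodd, hiso⟩ := typeA_of_coords hF hn C τ χ' hχ' h1 h2 h3 h4 hcomm hsq hna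
  exact ⟨F, inferInstance, inferInstance, frobPow F j, by rw [hF, hcenter],
    frobPow_ne hF hn hj hjn, hodd, hiso⟩

end final

end Cfsg.Agent.Lib.SuzQ
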