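import Mathlib
import Cfsg.Agent.Lib.SuzQ
import Cfsg.Agent.Lib.SuzField2

/-!
# Suzuki 2-groups: the quotient by the centre is elementary abelian
-/

set_option autoImplicit false
set_option linter.unusedSectionVars false
set_option linter.unusedVariables false
set_option linter.style.haveILetI false

open scoped commutatorElement

namespace Cfsg.Agent.Lib.SuzSec

open Cfsg.Agent.Lib.SuzTwo Cfsg.Agent.Lib.SuzT1 Cfsg.Agent.Lib.SuzQ

section setup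

variable {A P : Type*} [CommGroup A] [Group P] [MulDistribMulAction A P] [Finite P] {h : Hyp A P}

/-- The data of a section with square map onto the involutions. -/
structure Setup (h : Hyp A P) (E : Subgroup P) : Prop where
  inv : ∀ a : A, ∀ x ∈ E, a • x ∈ E
  Om_le : Om h ≤ E
  sq : ∀ x ∈ E, x * x ∈ Om h
  comm : ∀ x ∈ E, ∀ g, ⁅x, g⁆ ∈ Om h
  hQ : ∀ t ∈ Om h, ∃ x ∈ E, x * x = t

variable {E : Subgroup P}

lemma mem_cent {c : P} : c ∈ Subgroup.centralizer (E : Set P) ↔ ∀ x ∈ E, x * c = c * x :=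
  Subgroup.mem_centralizer_iff

/-- The square trick. -/
lemma Setup.trick (S : Setup h E) {c : P} (hc : c ∈ Subgroup.centralizer (E : Set P))
    (hcc : c * c ∈ Om h) : c ∈ E := by
  obtain ⟨x, hx, hxc⟩ := S.hQ _ hcc
  have h1 : x * c = c * x := mem_cent.mp hc x hx
  have h2 : c⁻¹ * x = x * c⁻¹ := by
    calc c⁻¹ * x = c⁻¹ * (x * c) * c⁻¹ := by group
      _ = c⁻¹ * (c * x) * c⁻¹ := by rw [h1]
      _ = x * c⁻¹ := by group
  have h3 : (x * c⁻¹) * (x * c⁻¹) = 1 := by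
    calc (x * c⁻¹) * (x * c⁻¹) = x * (c⁻¹ * x) * c⁻¹ := by group
      _ = x * (x * c⁻¹) * c⁻¹ := by rw [h2]
      _ = (x * x) * (c * c)⁻¹ := by group
      _ = 1 := by rw [hxc]; group
  have h4 : x * c⁻¹ ∈ E := S.Om_le h3
  have h5 : c = (x * c⁻¹)⁻¹ * x := by group
  rw [h5]
  exact mul_mem (inv_mem h4) hx

lemma Setup.sq_cent (S : Setup h E) (g : P) : g * g ∈ Subgroup.centralizer (E : Set P) := by
  rw [mem_cent]
  intro x hx
  rw [← comm_eq_one_iff, comm_mul_right (Om_le_center h (S.comm x hx g))]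
  exact S.comm x hx g

lemma Setup.comm_cent (S : Setup h E) (g k : P) : ⁅g, k⁆ ∈ Subgroup.centralizer (E : Set P) := by
  rw [mem_cent]
  intro x hx
  have h1 : ⁅x, g⁻¹ * k⁻¹⁆ = ⁅x, k⁻¹ * g⁻¹⁆ := by
    rw [comm_mul_right (Om_le_center h (S.comm x hx _)),
      comm_mul_right (Om_le_center h (S.comm x hx _)), Om_central h (S.comm x hx _)]
  rw [commutatorElement_def, commutatorElement_def] at h1
  have h2 : (g⁻¹ * k⁻¹) * x⁻¹ * (g⁻¹ * k⁻¹)⁻¹ = (k⁻¹ * g⁻¹) * x⁻¹ * (k⁻¹ * g⁻¹)⁻¹ := by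
    calc (g⁻¹ * k⁻¹) * x⁻¹ * (g⁻¹ * k⁻¹)⁻¹
        = x⁻¹ * (x * (g⁻¹ * k⁻¹) * x⁻¹ * (g⁻¹ * k⁻¹)⁻¹) := by group
      _ = x⁻¹ * (x * (k⁻¹ * g⁻¹) * x⁻¹ * (k⁻¹ * g⁻¹)⁻¹) := by rw [h1]
      _ = (k⁻¹ * g⁻¹) * x⁻¹ * (k⁻¹ * g⁻¹)⁻¹ := by group
  have e : ⁅g, k⁆ = (k⁻¹ * g⁻¹)⁻¹ * (g⁻¹ * k⁻¹) := by
    rw [commutatorElement_def]; group
  rw [e]
  set u := g⁻¹ * k⁻¹
  set v := k⁻¹ * g⁻¹
  have h4 : u * x⁻¹ = (v * x⁻¹ * v⁻¹) * u := by
    rw [← h2]; group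
  have h5 : v⁻¹ * u * x⁻¹ = x⁻¹ * (v⁻¹ * u) := by
    rw [mul_assoc, h4]; group
  calc x * (v⁻¹ * u) = x * (v⁻¹ * u * x⁻¹) * x := by group
    _ = x * (x⁻¹ * (v⁻¹ * u)) * x := by rw [h5]
    _ = v⁻¹ * u * x := by group

lemma Setup.cent_inv (S : Setup h E) (a : A) {c : P} (hc : c ∈ Subgroup.centralizer (E : Set P)) :
    a • c ∈ Subgroup.centralizer (E : Set P) := by
  rw [mem_cent] at hc ⊢
  intro x hx
  have h1 := hc _ (S.inv a⁻¹ x hx)
  have h2 := congrArg (fun y => a • y) h1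
  simpa [smul_mul'] using h2

lemma Setup.cent_normal (S : Setup h E) : (Subgroup.centralizer (E : Set P)).Normal := by
  refine ⟨fun c hc g => ?_⟩
  have e : g * c * g⁻¹ = ⁅g, c⁆ * c := by
    rw [commutatorElement_def]; group
  rw [e]
  exact mul_mem (S.comm_cent g c) hc

lemma Setup.Om_le_cent (S : Setup h E) : Om h ≤ Subgroup.centralizer (E : Set P) := by
  intro z hz
  rw [mem_cent]
  intro x _
  exact (Om_central h hz x).symm

/-- If the centralizer is the group of involutions then we are done. -/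
lemma Setup.all_of_cent (S : Setup h E) (hC : Subgroup.centralizer (E : Set P) ≤ Om h) (g k : P) :
    g * g ∈ Om h ∧ ⁅g, k⁆ ∈ Om h :=
  ⟨hC (S.sq_cent g), hC (S.comm_cent g k)⟩

/-- The nonabelian case. -/
theorem Setup.case_nonabelian (S : Setup h E) (hnab : ∃ x ∈ E, ∃ y ∈ E, x * y ≠ y * x) (g k : P) :
    g * g ∈ Om h ∧ ⁅g, k⁆ ∈ Om h := by
  classical
  apply S.all_of_cent
  intro c hc
  by_contra hcO
  obtain ⟨r, hr1, hr2⟩ := exists_power_step h.two _ hcO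
  have hc' : c ^ 2 ^ r ∈ Subgroup.centralizer (E : Set P) := pow_mem hc _
  have hcE := S.trick hc' hr2
  obtain ⟨x, hx, y, hy, hxy⟩ := hnab
  have hne : E ≠ ⊥ := by
    intro e
    rw [e] at hx hy
    apply hxy
    rw [Subgroup.mem_bot.mp hx, Subgroup.mem_bot.mp hy]
  letI := subAct E S.inv
  have h₁ : Hyp A E := hyp_sub h E S.inv hne
  have hna₁ : ∃ x y : E, x * y ≠ y * x :=
    ⟨⟨x, hx⟩, ⟨y, hy⟩, fun e => hxy (congrArg Subtype.val e)⟩
  have hcen := center_sq h₁ hna₁ ⟨c ^ 2 ^ r, hcE⟩ (by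
    rw [Subgroup.mem_center_iff]
    intro z
    apply Subtype.ext
    exact mem_cent.mp hc' z.1 z.2)
  apply hr1
  exact congrArg Subtype.val hcen

end setup

section abelian

variable {A P : Type*} [CommGroup A] [Group P] [MulDistribMulAction A P] [Finite P] {h : Hyp A P}
variable {F : Type*} [Field F] [Fintype F] [CharP F 2] {n : ℕ} {E : Subgroup P}

/-- The square map in coordinates. -/
def eps (C : Coord h F) (x : P) : F := C.io (x * x)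

lemma eps_Om (C : Coord h F) {t : P} (ht : t ∈ Om h) : eps C t = 0 := by
  have : t * t = 1 := ht
  rw [eps, this, C.io_one]

lemma mem_Om_of_eps (C : Coord h F) {x : P} (hx : x * x ∈ Om h) (h0 : eps C x = 0) : x ∈ Om h :=
  C.inj _ hx h0

lemma Setup.typeOne (S : Setup h E) (hab : ∀ x ∈ E, ∀ y ∈ E, x * y = y * x) (C : Coord h F) :
    TypeOne h C E (eps C) := by
  refine ⟨S.inv, ?_, ?_, ?_, ?_, S.comm⟩
  · intro x hx y hy
    have e : x * y * (x * y) = (x * x) * (y * y) := by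
      calc x * y * (x * y) = x * (y * x) * y := by group
        _ = x * (x * y) * y := by rw [hab y hy x hx]
        _ = (x * x) * (y * y) := by group
    rw [eps, e, C.add _ (S.sq x hx) _ (S.sq y hy)]
    rfl
  · intro a x hx
    rw [eps, ← smul_sq, C.eqv a _ (S.sq x hx)]
    rfl
  · intro u
    obtain ⟨t, ht, htu⟩ := C.surj u
    obtain ⟨x, hx, hxt⟩ := S.hQ t ht
    exact ⟨x, hx, by rw [eps, hxt, htu]⟩
  · intro x hx h0
    exact Om_le_center h (mem_Om_of_eps C (S.sq x hx) h0)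

/-- A minimal piece above the centralizer. -/
theorem Setup.piece (S : Setup h E) (hab : ∀ x ∈ E, ∀ y ∈ E, x * y = y * x) (C : Coord h F)
    (hF : Fintype.card F = 2 ^ n) (hn : 2 ≤ n) {R : Subgroup P}
    (hRinv : ∀ a : A, ∀ x ∈ R, a • x ∈ R) (hlt : Subgroup.centralizer (E : Set P) < R)
    (hmin : ∀ L : Subgroup P, (∀ a : A, ∀ x ∈ L, a • x ∈ L) →
      Subgroup.centralizer (E : Set P) < L → L ≤ R → R ≤ L) :
    ∃ k, 0 < k ∧ k < n ∧ ∃ c : P → F,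
      (∀ g ∈ R, ∀ x ∈ E, C.io ⁅x, g⁆ = c g * eps C x ^ 2 ^ k) ∧
      (∀ g ∈ R, g ∉ Subgroup.centralizer (E : Set P) → c g ≠ 0) ∧
      (∀ g ∈ R, ∀ k ∈ R, c (g * k) = c g + c k) ∧
      (∀ u, ∃ g ∈ R, c g = u) ∧
      (∀ a : A, ∀ g ∈ R, c (a • g) * (C.χ a : F) ^ 2 ^ k = (C.χ a : F) * c g) ∧
      (∀ g ∈ R, g ∉ Subgroup.centralizer (E : Set P) → g * g ∈ Om h) ∧
      (∀ z ∈ Subgroup.centralizer (E : Set P), c z = 0) := by
  classical
  have T := S.typeOne hab C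
  have hne : ∃ g ∈ R, ∃ x ∈ E, ⁅x, g⁆ ≠ 1 := by
    obtain ⟨g, hg, hg2⟩ := SetLike.exists_of_lt hlt
    have : ¬ ∀ x ∈ E, x * g = g * x := fun hc => hg2 (mem_cent.mpr hc)
    push Not at this
    obtain ⟨x, hx, hxg⟩ := this
    exact ⟨g, hg, x, hx, fun e => hxg (comm_eq_one_iff.mp e)⟩
  obtain ⟨k, hk0, hkn, c, h1, h2, h3, h4, h5⟩ := T.pairing hF hn _ R hlt.le
    (fun a g hg => S.cent_inv a hg) hRinv
    (fun g hg x hx => comm_eq_one_iff.mpr (mem_cent.mp hg x hx))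
    (fun L hL hML hLR => by
      by_cases he : L = Subgroup.centralizer (E : Set P)
      · exact Or.inl he
      · exact Or.inr (le_antisymm hLR (hmin L hL (lt_of_le_of_ne hML (Ne.symm he)) hLR)))
    hne
  refine ⟨k, hk0, hkn, c, h1, h2, h3, h4, h5, ?_, ?_⟩
  · intro g hg hgC
    by_contra hgg
    obtain ⟨r, hr1, hr2⟩ := exists_power_step h.two _ hgg
    have hy : (g * g) ^ 2 ^ r ∈ Subgroup.centralizer (E : Set P) := pow_mem (S.sq_cent g) _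
    have hyE := S.trick hy hr2
    have hcm : Commute ((g * g) ^ 2 ^ r) g := ((Commute.refl g).mul_left (Commute.refl g)).pow_left _
    have h6 := h1 g hg _ hyE
    rw [comm_eq_one_iff.mpr hcm, C.io_one] at h6
    have h7 : eps C ((g * g) ^ 2 ^ r) ^ 2 ^ k = 0 := by
      rcases mul_eq_zero.mp h6.symm with h8 | h8
      · exact absurd h8 (h2 g hg hgC)
      · exact h8
    exact hr1 (mem_Om_of_eps C hr2 (eq_zero_of_pow_eq_zero h7))
  · intro z hz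
    have hzR := hlt.le hz
    obtain ⟨x, hx, hx1⟩ := T.surj 1
    have h6 := h1 z hzR x hx
    rw [comm_eq_one_iff.mpr (mem_cent.mp hz x hx), C.io_one, hx1, one_pow, mul_one] at h6
    exact h6.symm

/-- Conjugation inverts modulo the involutions. -/
lemma conj_inv_mem {g c : P} (hg : g * g ∈ Om h) (hgc : g * c * (g * c) ∈ Om h) :
    g⁻¹ * c * g * c ∈ Om h := by
  have e : g⁻¹ * c * g * c = (g * g)⁻¹ * (g * c * (g * c)) := by group
  rw [e]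
  exact mul_mem (inv_mem hg) hgc

/-- The squares in the centralizer. -/
lemma cent_sq_aux {g g' c : P} (hg : g * g ∈ Om h) (hg' : g' * g' ∈ Om h)
    (hgg : (g * g') * (g * g') ∈ Om h)
    (h1 : g * c * (g * c) ∈ Om h) (h2 : g' * c * (g' * c) ∈ Om h)
    (h3 : (g * g') * c * ((g * g') * c) ∈ Om h) : c * c ∈ Om h := by
  have ht1 := conj_inv_mem hg h1
  have ht2 := conj_inv_mem hg' h2
  have ht3 := conj_inv_mem hgg h3
  set t₁ := g⁻¹ * c * g * c with ht₁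
  set t₂ := g'⁻¹ * c * g' * c with ht₂
  have e1 : g⁻¹ * c * g = t₁ * c⁻¹ := by rw [ht₁]; group
  have e2 : g'⁻¹ * c * g' = t₂ * c⁻¹ := by rw [ht₂]; group
  have hc1 := Om_le_center h ht1
  have hc2 := Om_le_center h ht2
  have e3 : (g * g')⁻¹ * c * (g * g') * c = t₁ * t₂⁻¹ * (c * c) := by
    calc (g * g')⁻¹ * c * (g * g') * c = g'⁻¹ * (g⁻¹ * c * g) * g' * c := by group
      _ = g'⁻¹ * (t₁ * c⁻¹) * g' * c := by rw [e1]
      _ = (g'⁻¹ * t₁) * c⁻¹ * g' * c := by group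
      _ = (t₁ * g'⁻¹) * c⁻¹ * g' * c := by rw [central_comm hc1]
      _ = t₁ * (g'⁻¹ * c * g')⁻¹ * c := by group
      _ = t₁ * (t₂ * c⁻¹)⁻¹ * c := by rw [e2]
      _ = t₁ * (c * t₂⁻¹) * c := by group
      _ = t₁ * (t₂⁻¹ * c) * c := by rw [central_comm (inv_mem hc2)]
      _ = t₁ * t₂⁻¹ * (c * c) := by group
  rw [e3] at ht3
  have e4 : c * c = (t₁ * t₂⁻¹)⁻¹ * (t₁ * t₂⁻¹ * (c * c)) := by group
  rw [e4]
  exact mul_mem (inv_mem (mul_mem ht1 (inv_mem ht2))) ht3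

/-- Two different pieces cannot occur. -/
theorem Setup.two_pieces (S : Setup h E) (hab : ∀ x ∈ E, ∀ y ∈ E, x * y = y * x) (C : Coord h F)
    (hF : Fintype.card F = 2 ^ n) (hn : 2 ≤ n)
    (hCE : Subgroup.centralizer (E : Set P) ≤ E) {R₁ R₂ : Subgroup P}
    (hR₁ : Subgroup.centralizer (E : Set P) ≤ R₁) (hR₂ : Subgroup.centralizer (E : Set P) ≤ R₂)
    (hmeet : ∀ x ∈ R₁, x ∈ R₂ → x ∈ Subgroup.centralizer (E : Set P))
    {k₁ k₂ : ℕ} {c₁ c₂ : P → F} (h10 : 0 < k₁) (h1n : k₁ < n) (h20 : 0 < k₂) (h2n : k₂ < n)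
    (val₁ : ∀ g ∈ R₁, ∀ x ∈ E, C.io ⁅x, g⁆ = c₁ g * eps C x ^ 2 ^ k₁)
    (val₂ : ∀ g ∈ R₂, ∀ x ∈ E, C.io ⁅x, g⁆ = c₂ g * eps C x ^ 2 ^ k₂)
    (add₁ : ∀ g ∈ R₁, ∀ k ∈ R₁, c₁ (g * k) = c₁ g + c₁ k)
    (add₂ : ∀ g ∈ R₂, ∀ k ∈ R₂, c₂ (g * k) = c₂ g + c₂ k)
    (surj₁ : ∀ u, ∃ g ∈ R₁, c₁ g = u) (surj₂ : ∀ u, ∃ g ∈ R₂, c₂ g = u)
    (sq₁ : ∀ g ∈ R₁, g * g ∈ Om h) (sq₂ : ∀ g ∈ R₂, g * g ∈ Om h)
    (ker₁ : ∀ g ∈ R₁, c₁ g = 0 → g ∈ Subgroup.centralizer (E : Set P))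
    (ker₂ : ∀ g ∈ R₂, c₂ g = 0 → g ∈ Subgroup.centralizer (E : Set P))
    (z₁ : ∀ z ∈ Subgroup.centralizer (E : Set P), c₁ z = 0)
    (z₂ : ∀ z ∈ Subgroup.centralizer (E : Set P), c₂ z = 0) : False := by
  classical
  have T := S.typeOne hab C
  have hadd2 : ∀ x : F, x + x = 0 := CharTwo.add_self_eq_zero
  have commE : ∀ g k : P, ⁅g, k⁆ ∈ E := fun g k => hCE (S.comm_cent g k)
  have hconj : ∀ y ∈ E, ∀ g : P, eps C (g * y * g⁻¹) = eps C y := by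
    intro y hy g
    have e : g * y * g⁻¹ = ⁅g, y⁆ * y := by
      rw [commutatorElement_def]; group
    have h1 : ⁅g, y⁆ ∈ Om h := by
      rw [← commutatorElement_inv]
      exact inv_mem (S.comm y hy g)
    rw [e, T.add _ (S.Om_le h1) _ hy, eps_Om C h1, zero_add]
  have hB1 : ∀ g g' k : P, eps C ⁅g * g', k⁆ = eps C ⁅g, k⁆ + eps C ⁅g', k⁆ := by
    intro g g' k
    have e : ⁅g * g', k⁆ = (g * ⁅g', k⁆ * g⁻¹) * ⁅g, k⁆ := by
      simp only [commutatorElement_def]; group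
    have hm : g * ⁅g', k⁆ * g⁻¹ ∈ E := by
      have e2 : g * ⁅g', k⁆ * g⁻¹ = ⁅g, ⁅g', k⁆⁆ * ⁅g', k⁆ := by
        rw [commutatorElement_def g]; group
      rw [e2]
      exact mul_mem (commE _ _) (commE _ _)
    rw [e, T.add _ hm _ (commE _ _), hconj _ (commE _ _), add_comm]
  have hB2 : ∀ g k k' : P, eps C ⁅g, k * k'⁆ = eps C ⁅g, k⁆ + eps C ⁅g, k'⁆ := by
    intro g k k'
    have e : ⁅g, k * k'⁆ = ⁅g, k⁆ * (k * ⁅g, k'⁆ * k⁻¹) := by
      simp only [commutatorElement_def]; group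
    have hm : k * ⁅g, k'⁆ * k⁻¹ ∈ E := by
      have e2 : k * ⁅g, k'⁆ * k⁻¹ = ⁅k, ⁅g, k'⁆⁆ * ⁅g, k'⁆ := by
        rw [commutatorElement_def k]; group
      rw [e2]
      exact mul_mem (commE _ _) (commE _ _)
    rw [e, T.add _ (commE _ _) _ hm, hconj _ (commE _ _)]
  have hW1 : ∀ z ∈ Subgroup.centralizer (E : Set P), ∀ k : P, eps C ⁅z, k⁆ = 0 :=
    fun z hz k => eps_Om C (S.comm z (hCE hz) k)
  have hW2 : ∀ z ∈ Subgroup.centralizer (E : Set P), ∀ g : P, eps C ⁅g, z⁆ = 0 := by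
    intro z hz g
    apply eps_Om C
    rw [← commutatorElement_inv]
    exact inv_mem (S.comm z (hCE hz) g)
  choose s₁ hs₁ hs₁' using surj₁
  choose s₂ hs₂ hs₂' using surj₂
  let D : F → F → F := fun u v => eps C ⁅s₁ u, s₂ v⁆
  have hwell₁ : ∀ g ∈ R₁, ∀ g' ∈ R₁, c₁ g = c₁ g' → ∀ k : P, eps C ⁅g, k⁆ = eps C ⁅g', k⁆ := by
    intro g hg g' hg' hc k
    have hz : g⁻¹ * g' ∈ R₁ := mul_mem (inv_mem hg) hg'
    have h1 := add₁ g hg _ hz
    have e : g * (g⁻¹ * g') = g' := by group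
    rw [e, ← hc] at h1
    have hz0 : c₁ (g⁻¹ * g') = 0 := by
      have := hadd2 (c₁ g)
      linear_combination -h1
    have hzc := ker₁ _ hz hz0
    rw [← e, hB1, hW1 _ hzc, add_zero]
  have hwell₂ : ∀ k ∈ R₂, ∀ k' ∈ R₂, c₂ k = c₂ k' → ∀ g : P, eps C ⁅g, k⁆ = eps C ⁅g, k'⁆ := by
    intro g hg g' hg' hc k
    have hz : g⁻¹ * g' ∈ R₂ := mul_mem (inv_mem hg) hg'
    have h1 := add₂ g hg _ hz
    have e : g * (g⁻¹ * g') = g' := by group
    rw [e, ← hc] at h1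
    have hz0 : c₂ (g⁻¹ * g') = 0 := by
      have := hadd2 (c₂ g)
      linear_combination -h1
    have hzc := ker₂ _ hz hz0
    rw [← e, hB2, hW2 _ hzc, add_zero]
  have hD1 : ∀ x y z, D (x + y) z = D x z + D y z := by
    intro x y z
    show eps C ⁅s₁ (x + y), s₂ z⁆ = eps C ⁅s₁ x, s₂ z⁆ + eps C ⁅s₁ y, s₂ z⁆
    rw [hwell₁ _ (hs₁ (x + y)) _ (mul_mem (hs₁ x) (hs₁ y))
      (by rw [add₁ _ (hs₁ x) _ (hs₁ y), hs₁', hs₁', hs₁']), hB1]
  have hD2 : ∀ x y z, D x (y + z) = D x y + D x z := by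
    intro x y z
    show eps C ⁅s₁ x, s₂ (y + z)⁆ = eps C ⁅s₁ x, s₂ y⁆ + eps C ⁅s₁ x, s₂ z⁆
    rw [hwell₂ _ (hs₂ (y + z)) _ (mul_mem (hs₂ y) (hs₂ z))
      (by rw [add₂ _ (hs₂ y) _ (hs₂ z), hs₂', hs₂', hs₂']), hB2]
  have hsqform : ∀ u v, (s₁ u * s₂ v) * (s₁ u * s₂ v) =
      ⁅s₁ u, s₂ v⁆ * (s₁ u * s₁ u) * (s₂ v * s₂ v) := by
    intro u v
    rw [sq_mul, conj_central (Om_le_center h (sq₁ _ (hs₁ u)))]
  have hrel : ∀ u₁ u₂, u₁ * (D u₁ u₂) ^ 2 ^ k₁ + u₂ * (D u₁ u₂) ^ 2 ^ k₂ = 0 := by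
    intro u₁ u₂
    have hyE : (s₁ u₁ * s₂ u₂) * (s₁ u₁ * s₂ u₂) ∈ E := by
      rw [hsqform]
      exact mul_mem (mul_mem (commE _ _) (S.Om_le (sq₁ _ (hs₁ u₁)))) (S.Om_le (sq₂ _ (hs₂ u₂)))
    have hε : eps C ((s₁ u₁ * s₂ u₂) * (s₁ u₁ * s₂ u₂)) = D u₁ u₂ := by
      rw [hsqform, T.add _ (mul_mem (commE _ _) (S.Om_le (sq₁ _ (hs₁ u₁)))) _
        (S.Om_le (sq₂ _ (hs₂ u₂))), T.add _ (commE _ _) _ (S.Om_le (sq₁ _ (hs₁ u₁))),
        eps_Om C (sq₁ _ (hs₁ u₁)), eps_Om C (sq₂ _ (hs₂ u₂)), add_zero, add_zero]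
    have hcm : Commute ((s₁ u₁ * s₂ u₂) * (s₁ u₁ * s₂ u₂)) (s₁ u₁ * s₂ u₂) :=
      (Commute.refl _).mul_left (Commute.refl _)
    have h0 := T.io_add' hyE (s₁ u₁) (s₂ u₂)
    rw [comm_eq_one_iff.mpr hcm, C.io_one, val₁ _ (hs₁ u₁) _ hyE, val₂ _ (hs₂ u₂) _ hyE, hε,
      hs₁', hs₂'] at h0
    exact h0.symm
  have hD0 : ∀ u v, D u v = 0 := by
    by_contra hc
    push Not at hc
    exact Cfsg.Agent.Lib.SuzField2.rel_contra hF hn D hD1 hD2 h10 h1n h20 h2n hrel hc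
  obtain ⟨u₁, u₂, hne, hL⟩ := Cfsg.Agent.Lib.SuzField2.exists_pair (F := F) hF hn (2 ^ k₁) (2 ^ k₂)
  set g₁ := s₁ u₁ with hg₁
  set g₂ := s₂ u₂ with hg₂
  have hg₁R : g₁ ∈ R₁ := hs₁ u₁
  have hg₂R : g₂ ∈ R₂ := hs₂ u₂
  have hgC : g₁ * g₂ ∉ Subgroup.centralizer (E : Set P) := by
    intro hc
    have e1 : g₂ = g₁⁻¹ * (g₁ * g₂) := by group
    have h1 : g₂ ∈ R₁ := by
      rw [e1]
      exact mul_mem (inv_mem hg₁R) (hR₁ hc)
    have h2 := hmeet _ h1 hg₂R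
    have e2 : g₁ = (g₁ * g₂) * g₂⁻¹ := by group
    have h3 : g₁ ∈ Subgroup.centralizer (E : Set P) := by
      rw [e2]
      exact mul_mem hc (inv_mem h2)
    have h4 := z₁ _ h3
    have h5 := z₂ _ h2
    rw [hg₁, hs₁'] at h4
    rw [hg₂, hs₂'] at h5
    rcases hne with h6 | h6
    · exact h6 h4
    · exact h6 h5
  have hcommOm : ⁅g₁, g₂⁆ ∈ Om h := mem_Om_of_eps C (S.sq _ (commE _ _)) (hD0 u₁ u₂)
  have hgg : (g₁ * g₂) * (g₁ * g₂) ∈ Om h := by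
    rw [hsqform]
    exact mul_mem (mul_mem hcommOm (sq₁ _ hg₁R)) (sq₂ _ hg₂R)
  let L : F → F := fun u => u + u₁ * u ^ 2 ^ k₁ + u₂ * u ^ 2 ^ k₂
  have hLadd : ∀ x y, L (x + y) = L x + L y := by
    intro x y
    simp only [L]
    rw [Cfsg.Agent.Lib.LinPoly.frob_add, Cfsg.Agent.Lib.LinPoly.frob_add]
    ring
  have hLinj : Function.Injective L := by
    intro x y hxy
    by_contra hne2
    have h1 : x + y ≠ 0 := by
      intro e
      apply hne2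
      have := hadd2 y
      linear_combination e - this
    apply hL (x + y) h1
    have := hLadd x y
    simp only [L] at this hxy
    rw [this, hxy, hadd2]
  have hLsurj : Function.Surjective L := Finite.surjective_of_injective hLinj
  obtain ⟨u, hu⟩ := hLsurj (C.io ((g₁ * g₂) * (g₁ * g₂)))
  obtain ⟨x, hx, hxu⟩ := T.surj u
  have e1 : (x * (g₁ * g₂)) * (x * (g₁ * g₂)) = ⁅x, g₁ * g₂⁆ * (x * x) * ((g₁ * g₂) * (g₁ * g₂)) := by
    rw [sq_mul, conj_central (Om_le_center h (S.sq x hx))]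
  have hcm1 : ⁅x, g₁ * g₂⁆ ∈ Om h := S.comm x hx _
  have h0 : C.io ((x * (g₁ * g₂)) * (x * (g₁ * g₂))) = 0 := by
    rw [e1, C.add _ (mul_mem hcm1 (S.sq x hx)) _ hgg, C.add _ hcm1 _ (S.sq x hx),
      T.io_add' hx, val₁ _ hg₁R _ hx, val₂ _ hg₂R _ hx, hxu, hs₁', hs₂', ← hu]
    have e2 : C.io (x * x) = u := hxu
    rw [e2]
    simp only [L]
    have h3 := hadd2 (u + u₁ * u ^ 2 ^ k₁ + u₂ * u ^ 2 ^ k₂)
    linear_combination h3
  have h5 : x * (g₁ * g₂) ∈ Om h := C.inj _ (by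
    rw [e1]
    exact mul_mem (mul_mem hcm1 (S.sq x hx)) hgg) h0
  apply hgC
  have e3 : g₁ * g₂ = x⁻¹ * (x * (g₁ * g₂)) := by group
  rw [e3]
  have hxC : x ∈ Subgroup.centralizer (E : Set P) := mem_cent.mpr fun y hy => hab y hy x hx
  exact mul_mem (inv_mem hxC) (S.Om_le_cent h5)

lemma exists_frob_ne (C : Coord h F) (hF : Fintype.card F = 2 ^ n) (hn : 2 ≤ n) {k : ℕ} (h0 : 0 < k)
    (hk : k < n) : ∃ a : A, (C.χ a : F) ^ 2 ^ k ≠ (C.χ a : F) := by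
  classical
  have h1 := Cfsg.Agent.Lib.SuzField.frobPow_ne hF hn h0 hk
  have h2 : ∃ x : F, x ^ 2 ^ k ≠ x := by
    by_contra hc
    push Not at hc
    apply h1
    ext x
    rw [Cfsg.Agent.Lib.SuzField.frobPow_apply, hc]
    rfl
  obtain ⟨x, hx⟩ := h2
  have hx0 : x ≠ 0 := by
    rintro rfl
    apply hx
    exact zero_pow (by positivity)
  obtain ⟨a, ha⟩ := C.hχ.2 (Units.mk0 x hx0)
  refine ⟨a, ?_⟩
  have : (C.χ a : F) = x := by rw [ha]; rfl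
  rw [this]
  exact hx

/-- The abelian case. -/
theorem Setup.case_abelian (S : Setup h E) (hab : ∀ x ∈ E, ∀ y ∈ E, x * y = y * x) (C : Coord h F)
    (hF : Fintype.card F = 2 ^ n) (hn : 2 ≤ n) (hna : ∃ x y : P, x * y ≠ y * x)
    (hne : ∃ x ∈ E, x ∉ Om h) (g k : P) : g * g ∈ Om h ∧ ⁅g, k⁆ ∈ Om h := by
  classical
  have hadd2 : ∀ x : F, x + x = 0 := CharTwo.add_self_eq_zero
  set Cn := Subgroup.centralizer (E : Set P) with hCn
  haveI hCnorm : Cn.Normal := S.cent_normal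
  have hCinv : ∀ a : A, ∀ x ∈ Cn, a • x ∈ Cn := fun a x hx => S.cent_inv a hx
  have hZ := center_eq_Om h hna
  have hCtop : Cn ≠ ⊤ := by
    intro e
    obtain ⟨x, hx, hxO⟩ := hne
    apply hxO
    rw [← hZ, Subgroup.mem_center_iff]
    intro g
    have : g ∈ Cn := by rw [e]; trivial
    exact (mem_cent.mp this x hx).symm
  obtain ⟨R₁, -, hR₁⟩ := Finite.exists_le_minimal
    (p := fun R : Subgroup P => (∀ a : A, ∀ x ∈ R, a • x ∈ R) ∧ Cn < R) (a := ⊤)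
    ⟨fun _ _ _ => trivial, lt_top_iff_ne_top.mpr hCtop⟩
  obtain ⟨hR₁inv, hR₁lt⟩ := hR₁.1
  have hmin₁ : ∀ L : Subgroup P, (∀ a : A, ∀ x ∈ L, a • x ∈ L) → Cn < L → L ≤ R₁ → R₁ ≤ L :=
    fun L hL hlt hle => hR₁.2 ⟨hL, hlt⟩ hle
  obtain ⟨k₁, h10, h1n, c₁, val₁, ne₁, add₁, surj₁, eqv₁, sq₁, z₁⟩ :=
    S.piece hab C hF hn hR₁inv hR₁lt hmin₁
  have hCsq : ∀ c ∈ Cn, c * c ∈ Om h := by
    intro c hc
    obtain ⟨g, hg, hgC⟩ := SetLike.exists_of_lt hR₁lt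
    obtain ⟨a, ha⟩ := exists_frob_ne C hF hn h10 h1n
    have hg'R := hR₁inv a g hg
    have hg'C : a • g ∉ Cn := fun e => hgC (by
      have := hCinv a⁻¹ _ e
      simpa using this)
    have hc₁ : c₁ (a • g) ≠ c₁ g := by
      intro e
      have h1 := eqv₁ a g hg
      rw [e] at h1
      apply ha
      apply mul_left_cancel₀ (ne₁ g hg hgC)
      rw [h1]
      ring
    have hgg'R := mul_mem hg hg'R
    have hgg'C : g * (a • g) ∉ Cn := by
      intro e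
      have h1 := z₁ _ e
      rw [add₁ _ hg _ hg'R] at h1
      apply hc₁
      have := hadd2 (c₁ g)
      linear_combination h1 - this
    have hmulC : ∀ y ∈ R₁, y ∉ Cn → y * c ∈ R₁ ∧ y * c ∉ Cn := by
      intro y hy hyC
      refine ⟨mul_mem hy (hR₁lt.le hc), fun e => hyC ?_⟩
      have : y = (y * c) * c⁻¹ := by group
      rw [this]
      exact mul_mem e (inv_mem hc)
    refine cent_sq_aux (sq₁ _ hg hgC) (sq₁ _ hg'R hg'C) (sq₁ _ hgg'R hgg'C) ?_ ?_ ?_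
    · exact sq₁ _ (hmulC g hg hgC).1 (hmulC g hg hgC).2
    · exact sq₁ _ (hmulC _ hg'R hg'C).1 (hmulC _ hg'R hg'C).2
    · exact sq₁ _ (hmulC _ hgg'R hgg'C).1 (hmulC _ hgg'R hgg'C).2
  have hCE : Cn ≤ E := fun c hc => S.trick hc (hCsq c hc)
  have sq₁' : ∀ g ∈ R₁, g * g ∈ Om h := by
    intro g hg
    by_cases hgC : g ∈ Cn
    · exact hCsq g hgC
    · exact sq₁ g hg hgC
  by_cases hR₁top : R₁ = ⊤
  · have hall : ∀ g : P, g * g ∈ Om h := fun g => sq₁' g (by rw [hR₁top]; trivial)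
    refine ⟨hall g, ?_⟩
    have e : ⁅g, k⁆ = (g * k * (g * k)) * (k * k)⁻¹ * (g * g)⁻¹ := by
      have h1 := sq_mul g k
      rw [conj_central (Om_le_center h (hall g))] at h1
      rw [h1]
      group
    rw [e]
    exact mul_mem (mul_mem (hall _) (inv_mem (hall _))) (inv_mem (hall _))
  · exfalso
    letI qa := Cfsg.Agent.Lib.CoprimeAct.quotAct (A := A) Cn hCinv
    have hqs : ∀ (a : A) (x : P), a • (x : P ⧸ Cn) = ((a • x : P) : P ⧸ Cn) := fun _ _ => rfl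
    have hVcomm : ∀ v w : P ⧸ Cn, v * w = w * v := by
      intro v w
      obtain ⟨x, rfl⟩ := QuotientGroup.mk_surjective v
      obtain ⟨y, rfl⟩ := QuotientGroup.mk_surjective w
      show ((x * y : P) : P ⧸ Cn) = ((y * x : P) : P ⧸ Cn)
      rw [QuotientGroup.eq_iff_div_mem]
      have e : x * y / (y * x) = ⁅x, y⁆ := by
        rw [commutatorElement_def, div_eq_mul_inv]; group
      rw [e]
      exact S.comm_cent x y
    have hVsq : ∀ v : P ⧸ Cn, v ^ 2 = 1 := by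
      intro v
      obtain ⟨x, rfl⟩ := QuotientGroup.mk_surjective v
      rw [pow_two, ← QuotientGroup.mk_mul, QuotientGroup.eq_one_iff]
      exact S.sq_cent x
    let W : Subgroup (P ⧸ Cn) := R₁.map (QuotientGroup.mk' Cn)
    have hWinv : ∀ a : A, ∀ v ∈ W, a • v ∈ W := by
      rintro a _ ⟨x, hx, rfl⟩
      exact ⟨a • x, hR₁inv a x hx, rfl⟩
    haveI hfA : Finite A := Finite.of_injective _ C.hχ.1
    have hcop : (Nat.card A).Coprime 2 := by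
      have h1 := card_A C
      rw [hF] at h1
      have h3 : Odd (Nat.card A) := by
        obtain ⟨j, hj⟩ : ∃ j, n = j + 1 := ⟨n - 1, by omega⟩
        rw [hj, pow_succ] at h1
        exact ⟨2 ^ j - 1, by have : 1 ≤ 2 ^ j := Nat.one_le_two_pow; omega⟩
      exact h3.coprime_two_right
    haveI hf : Fact (Nat.Prime 2) := ⟨Nat.prime_two⟩
    obtain ⟨U, hUinv, hinf, hsup⟩ := Cfsg.Agent.Lib.CoprimeAct.exists_invariant_complement
      (A := A) (V := P ⧸ Cn) 2 hVcomm hVsq hcop W hWinv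
    let U' : Subgroup P := U.comap (QuotientGroup.mk' Cn)
    have hU'inv : ∀ a : A, ∀ x ∈ U', a • x ∈ U' := by
      intro a x hx
      exact hUinv a _ hx
    have hCU' : Cn ≤ U' := by
      intro c hc
      show (c : P ⧸ Cn) ∈ U
      rw [(QuotientGroup.eq_one_iff c).mpr hc]
      exact U.one_mem
    have hmeet : ∀ x ∈ R₁, x ∈ U' → x ∈ Cn := by
      intro x hx hxU
      have h1 : (x : P ⧸ Cn) ∈ W ⊓ U := ⟨⟨x, hx, rfl⟩, hxU⟩
      rw [hinf, Subgroup.mem_bot] at h1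
      exact (QuotientGroup.eq_one_iff x).mp h1
    have hU'ne : Cn ≠ U' := by
      intro e
      apply hR₁top
      have hUbot : U = ⊥ := by
        rw [eq_bot_iff]
        intro u hu
        obtain ⟨x, rfl⟩ := QuotientGroup.mk_surjective u
        have hx : x ∈ U' := hu
        rw [← e] at hx
        rw [Subgroup.mem_bot]
        exact (QuotientGroup.eq_one_iff x).mpr hx
      rw [hUbot, sup_bot_eq] at hsup
      rw [Subgroup.eq_top_iff']
      intro g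
      have h1 : (g : P ⧸ Cn) ∈ W := by rw [hsup]; trivial
      obtain ⟨x, hx, hxg⟩ := h1
      have h2 : (x : P ⧸ Cn) = (g : P ⧸ Cn) := hxg
      rw [QuotientGroup.eq] at h2
      have h3 : g = x * (x⁻¹ * g) := by group
      rw [h3]
      exact mul_mem hx (hR₁lt.le h2)
    obtain ⟨R₂, hR₂U, hR₂⟩ := Finite.exists_le_minimal
      (p := fun R : Subgroup P => (∀ a : A, ∀ x ∈ R, a • x ∈ R) ∧ Cn < R) (a := U')
      ⟨hU'inv, lt_of_le_of_ne hCU' hU'ne⟩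
    obtain ⟨hR₂inv, hR₂lt⟩ := hR₂.1
    have hmin₂ : ∀ L : Subgroup P, (∀ a : A, ∀ x ∈ L, a • x ∈ L) → Cn < L → L ≤ R₂ → R₂ ≤ L :=
      fun L hL hlt hle => hR₂.2 ⟨hL, hlt⟩ hle
    obtain ⟨k₂, h20, h2n, c₂, val₂, ne₂, add₂, surj₂, eqv₂, sq₂, z₂⟩ :=
      S.piece hab C hF hn hR₂inv hR₂lt hmin₂
    have sq₂' : ∀ g ∈ R₂, g * g ∈ Om h := by
      intro g hg
      by_cases hgC : g ∈ Cn
      · exact hCsq g hgC
      · exact sq₂ g hg hgC
    refine S.two_pieces hab C hF hn hCE hR₁lt.le hR₂lt.le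
      (fun x h1 h2 => hmeet x h1 (hR₂U h2)) h10 h1n h20 h2n val₁ val₂ add₁ add₂ surj₁ surj₂
      sq₁' sq₂' ?_ ?_ z₁ z₂
    · intro g hg h0
      by_contra hgC
      exact ne₁ g hg hgC h0
    · intro g hg h0
      by_contra hgC
      exact ne₂ g hg hgC h0

end abelian

section main

variable {A P : Type*} [CommGroup A] [Group P] [MulDistribMulAction A P] [Finite P]

lemma Om_normal (h : Hyp A P) : (Om h).Normal :=
  ⟨fun z hz g => by
    rw [conj_central (Om_le_center h hz)]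
    exact hz⟩

/-- Everything is elementary abelian modulo the involutions. -/
theorem sec_all (h : Hyp A P) (hna : ∃ x y : P, x * y ≠ y * x) (g k : P) :
    g * g ∈ Om h ∧ ⁅g, k⁆ ∈ Om h := by
  classical
  obtain ⟨n, hn, hcard⟩ := exists_card_Om h
  haveI hf : Fact (Nat.Prime 2) := ⟨Nat.prime_two⟩
  have hn0 : n ≠ 0 := by omega
  let F := GaloisField 2 n
  haveI : Finite F := Nat.finite_of_card_ne_zero (by
    rw [GaloisField.card 2 n hn0]; positivity)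
  letI : Fintype F := Fintype.ofFinite F
  have hF : Fintype.card F = 2 ^ n := by
    rw [← Nat.card_eq_fintype_card, GaloisField.card 2 n hn0]
  obtain ⟨C⟩ := exists_coord h (F := F) (by rw [hF, hcard])
  haveI hN := Om_normal h
  have hOmne : Om h ≠ ⊤ := by
    intro e
    obtain ⟨x, y, hxy⟩ := hna
    have : y ∈ Om h := by rw [e]; trivial
    exact hxy (Om_central h this x).symm
  obtain ⟨x₁, hx₁, hx₁E⟩ := secE_ne h.two (Om h) hOmne
  have hOminv : ∀ a : A, ∀ x ∈ Om h, a • x ∈ Om h := fun a x hx => Om_inv h a hx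
  have hx₁1 : x₁ * x₁ ≠ 1 := hx₁
  have S : Setup h (secE (Om h)) := by
    refine ⟨fun a x hx => Cfsg.Agent.Lib.SuzT1.secE_inv _ hOminv a hx, le_secE _,
      fun x hx => hx.1, fun x hx g => hx.2 g, ?_⟩
    intro t ht
    by_cases ht1 : t = 1
    · exact ⟨1, Subgroup.one_mem _, by rw [ht1, mul_one]⟩
    · obtain ⟨a, ha, _⟩ := h.reg _ _ hx₁1 hx₁E.1 ht1 ht
      exact ⟨a • x₁, Cfsg.Agent.Lib.SuzT1.secE_inv _ hOminv a hx₁E, by rw [← smul_sq, ha]⟩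
  by_cases hab : ∀ x ∈ secE (Om h), ∀ y ∈ secE (Om h), x * y = y * x
  · exact S.case_abelian hab C hF hn hna ⟨x₁, hx₁E, hx₁⟩ g k
  · push Not at hab
    exact S.case_nonabelian hab g k

end main

end Cfsg.Agent.Lib.SuzSec
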