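import Mathlib
import Cfsg.Agent.Lib.SuzSec
import Cfsg.Agent.Lib.ChevQuad

/-!
# Suzuki 2-groups: the order and the exponent
-/

set_option autoImplicit false
set_option linter.unusedSectionVars false
set_option linter.unusedVariables false
set_option linter.style.haveILetI false

open scoped commutatorElement

namespace Cfsg.Agent.Lib.SuzOrder

open Cfsg.Agent.Lib.SuzTwo Cfsg.Agent.Lib.SuzT1 Cfsg.Agent.Lib.SuzQ Cfsg.Agent.Lib.SuzSec

/-- A free action of a finite group: the group order divides the size of the set. -/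
lemma card_dvd_of_free {A X : Type*} [Group A] [Finite A] [Finite X] [MulAction A X]
    (hfree : ∀ (a : A) (x : X), a • x = x → a = 1) : Nat.card A ∣ Nat.card X := by
  classical
  haveI : Fintype (MulAction.orbitRel.Quotient A X) := Fintype.ofFinite _
  rw [Nat.card_congr (MulAction.selfEquivSigmaOrbits A X), Nat.card_sigma]
  apply Finset.dvd_sum
  intro ω _
  set x := Quotient.out ω
  have hb : Function.Bijective (fun a : A => (⟨a • x, MulAction.mem_orbit x a⟩ : MulAction.orbit A x)) := by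
    constructor
    · intro a b hab
      have h1 : a • x = b • x := congrArg Subtype.val hab
      have h2 : (b⁻¹ * a) • x = x := by rw [mul_smul, h1, inv_smul_smul]
      have h3 := hfree _ _ h2
      exact (inv_mul_eq_one.mp h3).symm
    · rintro ⟨y, a, rfl⟩
      exact ⟨a, rfl⟩
  rw [← Nat.card_congr (Equiv.ofBijective _ hb)]

/-- The arithmetic of divisibility. -/
lemma dvd_of_pow_dvd {n m : ℕ} (hn : 2 ≤ n) (h : 2 ^ n - 1 ∣ 2 ^ m - 1) : n ∣ m := by
  have h1 : 2 ^ m ≡ 1 [MOD 2 ^ n - 1] :=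
    ((Nat.modEq_iff_dvd' Nat.one_le_two_pow).mpr h).symm
  have h2 : 2 ^ (m % n) ≡ 1 [MOD 2 ^ n - 1] := (Cfsg.Agent.Lib.LinPoly.pow_modEq_mod m).symm.trans h1
  have hlt : m % n < n := Nat.mod_lt _ (by omega)
  have h3 : 2 ^ (m % n) ≤ 2 ^ (n - 1) := Nat.pow_le_pow_right (by norm_num) (by omega)
  have e : 2 ^ n = 2 * 2 ^ (n - 1) := by
    rw [← pow_succ']
    congr 1
    omega
  have h4 : 1 ≤ 2 ^ (m % n) := Nat.one_le_two_pow
  have h5 : 2 ≤ 2 ^ (n - 1) := by
    calc 2 = 2 ^ 1 := by norm_num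
      _ ≤ 2 ^ (n - 1) := Nat.pow_le_pow_right (by norm_num) (by omega)
  have h6 := (Nat.modEq_iff_dvd' h4).mp h2.symm
  have h7 : 2 ^ (m % n) - 1 = 0 := Nat.eq_zero_of_dvd_of_lt h6 (by omega)
  have h8 : 2 ^ (m % n) = 1 := by omega
  have h9 : m % n = 0 := by
    by_contra hc
    have : 2 ^ 1 ≤ 2 ^ (m % n) := Nat.pow_le_pow_right (by norm_num) (by omega)
    omega
  exact Nat.dvd_of_mod_eq_zero h9

section

variable {A P : Type*} [CommGroup A] [Group P] [MulDistribMulAction A P] [Finite P]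

/-- The order of a Suzuki 2-group. -/
theorem card_main (h : Hyp A P) (hna : ∃ x y : P, x * y ≠ y * x) :
    ∃ n, 2 ≤ n ∧ Nat.card (Om h) = 2 ^ n ∧
      (Nat.card P = (2 ^ n) ^ 2 ∨ Nat.card P = (2 ^ n) ^ 3) := by
  classical
  have hall := sec_all h hna
  obtain ⟨n, hn, hcard⟩ := exists_card_Om h
  refine ⟨n, hn, hcard, ?_⟩
  haveI hf : Fact (Nat.Prime 2) := ⟨Nat.prime_two⟩
  have hn0 : n ≠ 0 := by omega
  let F := GaloisField 2 n
  haveI : Finite F := Nat.finite_of_card_ne_zero (by
    rw [GaloisField.card 2 n hn0]; positivity)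
  letI : Fintype F := Fintype.ofFinite F
  have hF : Fintype.card F = 2 ^ n := by
    rw [← Nat.card_eq_fintype_card, GaloisField.card 2 n hn0]
  obtain ⟨C⟩ := exists_coord h (F := F) (by rw [hF, hcard])
  haveI hN := Om_normal h
  have hadd2 : ∀ x : F, x + x = 0 := CharTwo.add_self_eq_zero
  have hOmne : Om h ≠ ⊤ := by
    intro e
    obtain ⟨x, y, hxy⟩ := hna
    have : y ∈ Om h := by rw [e]; trivial
    exact hxy (Om_central h this x).symm
  have hcomm : ∀ x y : P, ⁅x, y⁆ ∈ Om h := fun x y => (hall x y).2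
  have hsq : ∀ x : P, x * x ∈ Om h := fun x => (hall x 1).1
  letI cg : CommGroup (P ⧸ Om h) :=
    { (inferInstance : Group (P ⧸ Om h)) with
      mul_comm := by
        intro a b
        obtain ⟨x, rfl⟩ := QuotientGroup.mk_surjective a
        obtain ⟨y, rfl⟩ := QuotientGroup.mk_surjective b
        show ((x * y : P) : P ⧸ Om h) = ((y * x : P) : P ⧸ Om h)
        rw [QuotientGroup.eq_iff_div_mem]
        have e : x * y / (y * x) = x * y * x⁻¹ * y⁻¹ := by
          rw [div_eq_mul_inv]; group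
        rw [e]
        exact hcomm x y }
  have h2V : ∀ v : Additive (P ⧸ Om h), 2 • v = 0 := by
    intro v
    apply Additive.toMul.injective
    show v.toMul ^ 2 = 1
    obtain ⟨x, hx⟩ := QuotientGroup.mk_surjective v.toMul
    rw [← hx, pow_two, ← QuotientGroup.mk_mul, QuotientGroup.eq_one_iff]
    exact hsq x
  letI mV : Module (ZMod 2) (Additive (P ⧸ Om h)) := AddCommGroup.zmodModule h2V
  letI mF : Module (ZMod 2) F := (ZMod.algebra F 2).toModule
  haveI : Module.Finite (ZMod 2) (Additive (P ⧸ Om h)) := Module.Finite.of_finite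
  haveI : Module.Finite (ZMod 2) F := Module.Finite.of_finite
  -- dimension of `F`
  have hfF : Module.finrank (ZMod 2) F = n := by
    have h1 : Nat.card F = Nat.card (ZMod 2) ^ Module.finrank (ZMod 2) F :=
      Module.natCard_eq_pow_finrank
    rw [Nat.card_eq_fintype_card, hF, Nat.card_zmod] at h1
    exact (Nat.pow_right_injective (le_refl 2) h1).symm
  set m := Module.finrank (ZMod 2) (Additive (P ⧸ Om h)) with hm
  have hcardV : Nat.card (P ⧸ Om h) = 2 ^ m := by
    have h1 : Nat.card (Additive (P ⧸ Om h)) = Nat.card (ZMod 2) ^ m :=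
      Module.natCard_eq_pow_finrank
    rw [Nat.card_zmod] at h1
    exact h1
  -- the quadratic map
  let lift : Additive (P ⧸ Om h) → P := fun v => Classical.choose (QuotientGroup.mk_surjective v.toMul)
  have hlift : ∀ v : Additive (P ⧸ Om h), ((lift v : P) : P ⧸ Om h) = v.toMul :=
    fun v => Classical.choose_spec (QuotientGroup.mk_surjective v.toMul)
  let Q : Additive (P ⧸ Om h) → F := fun v => C.io (lift v * lift v)
  have hsq_eq : ∀ x y : P, (x : P ⧸ Om h) = (y : P ⧸ Om h) → x * x = y * y := by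
    intro x y hxy
    rw [QuotientGroup.eq] at hxy
    have h2 : (x⁻¹ * y) * (x⁻¹ * y) = 1 := hxy
    have h3 : y = x * (x⁻¹ * y) := by group
    rw [h3]
    set z := x⁻¹ * y
    calc x * x = x * x * (z * z) := by rw [h2, mul_one]
      _ = x * (x * z) * z := by group
      _ = x * (z * x) * z := by rw [Om_central h hxy x]
      _ = x * z * (x * z) := by group
  have hQmk : ∀ x : P, Q (Additive.ofMul (x : P ⧸ Om h)) = C.io (x * x) := by
    intro x
    show C.io (lift _ * lift _) = _
    rw [hsq_eq _ _ (hlift (Additive.ofMul (x : P ⧸ Om h)))]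
  have hQ0 : Q 0 = 0 := by
    have := hQmk 1
    rw [mul_one, C.io_one] at this
    exact this
  have hsqm : ∀ a b : P, C.io (a * b * (a * b)) = C.io ⁅a, b⁆ + C.io (a * a) + C.io (b * b) := by
    intro a b
    rw [Cfsg.Agent.Lib.SuzT1.sq_mul, conj_central (Om_le_center h (hsq a))]
    rw [C.add _ ((Om h).mul_mem (hcomm a b) (hsq a)) _ (hsq b), C.add _ (hcomm a b) _ (hsq a)]
  have hpol : ∀ a b : P, Q (Additive.ofMul (a : P ⧸ Om h) + Additive.ofMul (b : P ⧸ Om h)) +
      Q (Additive.ofMul (a : P ⧸ Om h)) + Q (Additive.ofMul (b : P ⧸ Om h)) = C.io ⁅a, b⁆ := by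
    intro a b
    have e : Additive.ofMul (a : P ⧸ Om h) + Additive.ofMul (b : P ⧸ Om h)
        = Additive.ofMul ((a * b : P) : P ⧸ Om h) := rfl
    rw [e, hQmk, hQmk, hQmk, hsqm]
    have h1 := hadd2 (C.io (a * a))
    have h2 := hadd2 (C.io (b * b))
    linear_combination h1 + h2
  have hB : ∀ x y z : Additive (P ⧸ Om h), Q (x + y + z) + Q (x + y) + Q z =
      (Q (x + z) + Q x + Q z) + (Q (y + z) + Q y + Q z) := by
    intro x y z
    obtain ⟨a, ha⟩ : ∃ a : P, Additive.ofMul (a : P ⧸ Om h) = x := by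
      obtain ⟨a, ha⟩ := QuotientGroup.mk_surjective x.toMul
      exact ⟨a, by rw [ha]; rfl⟩
    obtain ⟨b, hb⟩ : ∃ b : P, Additive.ofMul (b : P ⧸ Om h) = y := by
      obtain ⟨a, ha⟩ := QuotientGroup.mk_surjective y.toMul
      exact ⟨a, by rw [ha]; rfl⟩
    obtain ⟨c, hc⟩ : ∃ c : P, Additive.ofMul (c : P ⧸ Om h) = z := by
      obtain ⟨a, ha⟩ := QuotientGroup.mk_surjective z.toMul
      exact ⟨a, by rw [ha]; rfl⟩
    subst ha hb hc
    have e : Additive.ofMul (a : P ⧸ Om h) + Additive.ofMul (b : P ⧸ Om h)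
        = Additive.ofMul ((a * b : P) : P ⧸ Om h) := rfl
    rw [hpol a c, hpol b c, e, hpol (a * b) c, comm_mul_left (Om_le_center h (hcomm _ _)),
      C.add _ (hcomm _ _) _ (hcomm _ _)]
  -- the upper bound
  have hle : m ≤ 2 * n := by
    by_contra hlt
    push Not at hlt
    rw [← hfF] at hlt
    obtain ⟨v, hv, hQv⟩ := Cfsg.Agent.Lib.ChevQuad.exists_zero Q hQ0 hB hlt
    obtain ⟨a, ha⟩ := QuotientGroup.mk_surjective v.toMul
    have hva : v = Additive.ofMul (a : P ⧸ Om h) := by rw [ha]; rfl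
    rw [hva, hQmk] at hQv
    have h1 : a * a = 1 := C.inj _ (hsq a) hQv
    apply hv
    rw [hva]
    apply Additive.toMul.injective
    exact (QuotientGroup.eq_one_iff a).mpr h1
  -- the action
  have hOminv : ∀ a : A, ∀ x ∈ Om h, a • x ∈ Om h := fun a x hx => Om_inv h a hx
  letI qa := Cfsg.Agent.Lib.CoprimeAct.quotAct (A := A) (Om h) hOminv
  have hqs : ∀ (a : A) (x : P), a • (x : P ⧸ Om h) = ((a • x : P) : P ⧸ Om h) := fun _ _ => rfl
  haveI hfA : Finite A := Finite.of_injective _ C.hχ.1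
  letI actX : MulAction A {v : P ⧸ Om h // v ≠ 1} :=
    { smul := fun a v => ⟨a • v.1, fun e => v.2 (by
        have := congrArg (fun w => a⁻¹ • w) e
        simpa using this)⟩
      one_smul := fun v => Subtype.ext (one_smul _ _)
      mul_smul := fun a b v => Subtype.ext (mul_smul _ _ _) }
  have hdvd := card_dvd_of_free (A := A) (X := {v : P ⧸ Om h // v ≠ 1}) (by
    rintro a ⟨v, hv⟩ hav
    have h1 : a • v = v := congrArg Subtype.val hav
    obtain ⟨x, rfl⟩ := QuotientGroup.mk_surjective v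
    have hx : x ∉ Om h := fun e => hv ((QuotientGroup.eq_one_iff x).mpr e)
    by_contra ha
    apply hx
    apply free h ha (hOminv a)
    have h2 : ((a • x : P) : P ⧸ Om h) = (x : P ⧸ Om h) := h1
    rw [QuotientGroup.eq_iff_div_mem, div_eq_mul_inv] at h2
    exact h2)
  have hcardX : Nat.card {v : P ⧸ Om h // v ≠ 1} = 2 ^ m - 1 := by
    rw [← hcardV]
    have := Fintype.ofFinite (P ⧸ Om h)
    rw [Nat.card_eq_fintype_card, Nat.card_eq_fintype_card, Fintype.card_subtype_compl,
      Fintype.card_subtype_eq]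
  have hcardA : Nat.card A = 2 ^ n - 1 := by
    have := card_A C
    omega
  rw [hcardX, hcardA] at hdvd
  have hnm := dvd_of_pow_dvd hn hdvd
  have hm0 : m ≠ 0 := by
    intro e
    rw [e, pow_zero] at hcardV
    apply hOmne
    rw [Subgroup.eq_top_iff']
    intro x
    haveI : Subsingleton (P ⧸ Om h) := (Nat.card_eq_one_iff_unique.mp hcardV).1
    rw [← QuotientGroup.eq_one_iff]
    exact Subsingleton.elim _ _
  obtain ⟨t, ht⟩ := hnm
  have ht0 : t ≠ 0 := by
    rintro rfl
    apply hm0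
    rw [ht, mul_zero]
  have ht2 : t ≤ 2 := by
    by_contra hc
    push Not at hc
    have : n * 3 ≤ n * t := Nat.mul_le_mul_left n hc
    omega
  have hP : Nat.card P = 2 ^ m * 2 ^ n := by
    rw [Subgroup.card_eq_card_quotient_mul_card_subgroup (Om h), hcardV, hcard]
  have ht' : t = 1 ∨ t = 2 := by omega
  rcases ht' with rfl | rfl
  · left
    rw [hP, ht, mul_one, pow_two]
  · right
    rw [hP, ht, pow_mul]
    ring

end

section final

universe u

variable {P : Type u} [Group P]

/-- The statement for Suzuki 2-groups. -/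
theorem suzuki_main (hP : Cfsg.IsSuzukiTwoGroup P) :
    (∀ x : P, x * x ∈ Subgroup.center P) ∧ (∀ x y : P, x⁻¹ * y⁻¹ * x * y ∈ Subgroup.center P) ∧
      (Nat.card P = Nat.card (Subgroup.center P) ^ 2 ∨ Nat.card P = Nat.card (Subgroup.center P) ^ 3) ∧
      Monoid.exponent P = 4 := by
  classical
  obtain ⟨A, i1, i2, hfin, -, h, hna⟩ := exists_hyp hP
  have hZ := center_eq_Om h hna
  have hall := sec_all h hna
  rw [hZ]
  refine ⟨fun x => (hall x 1).1, ?_, ?_, ?_⟩
  · intro x y
    have e : x⁻¹ * y⁻¹ * x * y = ⁅x⁻¹, y⁻¹⁆ := by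
      rw [commutatorElement_def]; group
    rw [e]
    exact (hall _ _).2
  · obtain ⟨n, hn, hcard, hc⟩ := card_main h hna
    rw [hcard]
    exact hc
  · have h4 : ∀ x : P, x ^ 4 = 1 := by
      intro x
      have h1 : (x * x) * (x * x) = 1 := (hall x 1).1
      calc x ^ 4 = (x * x) * (x * x) := by
            rw [show 4 = 2 + 2 from rfl, pow_add, pow_two]
        _ = 1 := h1
    have hd : Monoid.exponent P ∣ 2 ^ 2 := Monoid.exponent_dvd_of_forall_pow_eq_one h4
    obtain ⟨k, hk, hke⟩ := (Nat.dvd_prime_pow Nat.prime_two).mp hd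
    have hk2 : k = 2 := by
      by_contra hne
      have hk1 : k ≤ 1 := by omega
      have h2 : ∀ x : P, x * x = 1 := by
        intro x
        have h3 := Monoid.pow_exponent_eq_one x
        rw [hke] at h3
        have h5 : x ^ 2 = 1 := by
          have : 2 = 2 ^ k * 2 ^ (1 - k) := by
            rw [← pow_add]
            have : k + (1 - k) = 1 := by omega
            rw [this]
            norm_num
          rw [this, pow_mul, h3, one_pow]
        rw [← pow_two]
        exact h5
      obtain ⟨x, y, hxy⟩ := hna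
      exact hxy (Om_central h (h2 y) x).symm
    rw [hke, hk2]
    norm_num

end final

end Cfsg.Agent.Lib.SuzOrder
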