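import Mathlib

/-!
# Numerics for the characters of Zassenhaus groups with non-abelian kernel of even order
-/

set_option autoImplicit false
set_option linter.unusedVariables false
set_option linter.unusedSectionVars false

namespace Cfsg.Agent.Lib.SzNum

open Finset

/-- A divisor of `q² + 1` close to `q + 1`. -/
theorem div_analysis {q y : ℤ} (hq : Even q) (hq0 : 0 < q) (hm : 0 < q + 1 + y)
    (hd : (q + 1 + y) ∣ q ^ 2 + 1) : y ^ 2 = 2 * q ∨ 3 * q + 1 ≤ y ^ 2 - y := by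
  have h1 : (q + 1 + y) ∣ y ^ 2 - 2 * q := by
    have e : y ^ 2 - 2 * q = (q ^ 2 + 1) - (q + 1 + y) * (q + 1 - y) := by ring
    rw [e]
    exact dvd_sub hd (dvd_mul_right _ _)
  obtain ⟨D, hD⟩ := h1
  by_cases hD0 : D = 0
  · left
    subst hD0
    linarith
  rcases lt_or_gt_of_ne hD0 with hneg | hpos
  · -- `D < 0`
    exfalso
    have hD1 : D ≤ -1 := by omega
    rcases eq_or_lt_of_le hD1 with h | h
    · subst h
      obtain ⟨k, hk⟩ := hq
      have h2 : y * y + y + 1 = q := by nlinarith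
      have h3 : Even (y * y + y) := by
        have := Int.even_mul_succ_self y
        have e : y * (y + 1) = y * y + y := by ring
        rwa [e] at this
      obtain ⟨l, hl⟩ := h3
      omega
    · have hD2 : D ≤ -2 := by omega
      rcases eq_or_lt_of_le hD2 with h' | h'
      · subst h'
        nlinarith [sq_nonneg (y + 1)]
      · have hD3 : D ≤ -3 := by omega
        nlinarith [sq_nonneg (2 * y + 3), sq_nonneg (y + 2)]
  · right
    have hD1 : 1 ≤ D := by omega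
    nlinarith

/-- The first numerical theorem: the case of `|U| = q²`. -/
theorem q_two {ρ : Type*} (O : Finset ρ) (a m : ρ → ℤ) {q : ℤ} (hq : Even q) (hq4 : 4 ≤ q)
    (ha0 : ∀ χ ∈ O, 0 ≤ a χ)
    (hm0 : ∀ χ ∈ O, 0 < m χ)
    (h1 : 2 * ∑ χ ∈ O, a χ ^ 2 = q)
    (h2 : 2 * ∑ χ ∈ O, a χ * m χ = q * (q - 1))
    (h3 : 2 * ∑ χ ∈ O, m χ ^ 2 = q * (q ^ 2 - 1))
    (h4 : q ≤ 2 * ∑ χ ∈ O, a χ)
    (h5 : ∀ χ ∈ O, a χ = 1 → m χ ∣ q ^ 2 + 1) :
    ∃ y : ℤ, y ^ 2 = 2 * q := by
  classical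
  -- `a ∈ {0, 1}`
  have hsum : ∑ χ ∈ O, (a χ ^ 2 - a χ) ≤ 0 := by
    rw [Finset.sum_sub_distrib]
    linarith
  have hnn : ∀ χ ∈ O, 0 ≤ a χ ^ 2 - a χ := by
    intro χ hχ
    have := ha0 χ hχ
    rcases eq_or_lt_of_le this with h | h
    · rw [← h]; norm_num
    · have : 1 ≤ a χ := by omega
      nlinarith
  have hzero : ∀ χ ∈ O, a χ ^ 2 - a χ = 0 := by
    have h := (Finset.sum_eq_zero_iff_of_nonneg hnn).mp (le_antisymm hsum (Finset.sum_nonneg hnn))
    exact h
  have h01 : ∀ χ ∈ O, a χ = 0 ∨ a χ = 1 := by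
    intro χ hχ
    have := hzero χ hχ
    have h6 : a χ * (a χ - 1) = 0 := by linarith
    rcases mul_eq_zero.mp h6 with h7 | h7
    · exact Or.inl h7
    · exact Or.inr (by linarith)
  have hsa : 2 * ∑ χ ∈ O, a χ = q := by
    have : ∑ χ ∈ O, (a χ ^ 2 - a χ) = 0 := Finset.sum_eq_zero hzero
    rw [Finset.sum_sub_distrib] at this
    linarith
  by_contra hno
  push Not at hno
  -- termwise inequality
  have hterm : ∀ χ ∈ O, 0 ≤ (m χ - (q + 1) * a χ) ^ 2 - a χ * (m χ - (q + 1) * a χ) -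
      (3 * q + 1) * a χ := by
    intro χ hχ
    rcases h01 χ hχ with h | h
    · rw [h]; simp; positivity
    · rw [h]
      have hd := h5 χ hχ h
      have hm := hm0 χ hχ
      have e : m χ = q + 1 + (m χ - (q + 1)) := by ring
      rw [e] at hd hm
      have := div_analysis hq (by linarith) hm hd
      rcases this with h6 | h6
      · exact absurd h6 (hno _)
      · ring_nf
        ring_nf at h6
        linarith
  have hs := Finset.sum_nonneg hterm
  have e : ∑ χ ∈ O, ((m χ - (q + 1) * a χ) ^ 2 - a χ * (m χ - (q + 1) * a χ) - (3 * q + 1) * a χ) =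
      ∑ χ ∈ O, m χ ^ 2 - (2 * (q + 1) + 1) * ∑ χ ∈ O, a χ * m χ +
        ((q + 1) ^ 2 + (q + 1)) * ∑ χ ∈ O, a χ ^ 2 - (3 * q + 1) * ∑ χ ∈ O, a χ := by
    rw [Finset.mul_sum, Finset.mul_sum, Finset.mul_sum, ← Finset.sum_sub_distrib,
      ← Finset.sum_add_distrib, ← Finset.sum_sub_distrib]
    refine Finset.sum_congr rfl fun χ _ => ?_
    ring
  rw [e] at hs
  have h1' := h1
  have key : 0 ≤ 2 * (∑ χ ∈ O, m χ ^ 2 - (2 * (q + 1) + 1) * ∑ χ ∈ O, a χ * m χ +
        ((q + 1) ^ 2 + (q + 1)) * ∑ χ ∈ O, a χ ^ 2 - (3 * q + 1) * ∑ χ ∈ O, a χ) := by linarith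
  have e2 : 2 * (∑ χ ∈ O, m χ ^ 2 - (2 * (q + 1) + 1) * ∑ χ ∈ O, a χ * m χ +
        ((q + 1) ^ 2 + (q + 1)) * ∑ χ ∈ O, a χ ^ 2 - (3 * q + 1) * ∑ χ ∈ O, a χ) =
      (2 * ∑ χ ∈ O, m χ ^ 2) - (2 * (q + 1) + 1) * (2 * ∑ χ ∈ O, a χ * m χ) +
        ((q + 1) ^ 2 + (q + 1)) * (2 * ∑ χ ∈ O, a χ ^ 2) - (3 * q + 1) * (2 * ∑ χ ∈ O, a χ) := by
    ring
  rw [e2, h1, h2, h3, hsa] at key
  nlinarith

/-- The arithmetic of the second theorem. -/
theorem div_three {q y : ℤ} (hq4 : 4 ≤ q) (hy : y ^ 2 ≤ q)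
    (hd : (q ^ 2 + q + 1 + q * y) ∣ q ^ 3 + 1) : y = -2 := by
  have hyabs : 2 * |y| ≤ q := by
    by_contra hc
    push Not at hc
    have h1 : |y| ^ 2 = y ^ 2 := sq_abs y
    nlinarith [abs_nonneg y]
  have hy1 : -q ≤ 2 * y := by
    have := neg_abs_le y
    linarith
  have hy2 : 2 * y ≤ q := by
    have := le_abs_self y
    linarith
  have hmpos : 0 < q ^ 2 + q + 1 + q * y := by nlinarith
  obtain ⟨l, hl⟩ := hd
  have hlpos : 0 < l := by
    by_contra hc
    push Not at hc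
    nlinarith [pow_pos (show (0 : ℤ) < q by linarith) 3]
  -- `l ≡ 1 mod q`
  have hmod : q ∣ l - 1 := by
    refine ⟨q ^ 2 - (q + 1 + y) * l, ?_⟩
    nlinarith
  obtain ⟨t, ht⟩ := hmod
  have hl' : l = 1 + q * t := by linarith
  have ht0 : 0 ≤ t := by
    by_contra hc
    push Not at hc
    have : q * t ≤ q * (-1) := by
      apply mul_le_mul_of_nonneg_left (by omega) (by linarith)
    nlinarith
  have hq0 : (0 : ℤ) < q := by linarith
  rcases eq_or_lt_of_le ht0 with h0 | h0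
  · -- `t = 0`
    exfalso
    subst h0
    have hl1 : l = 1 := by linarith
    subst hl1
    have h : q * (q + 1 + y) = q * q ^ 2 := by nlinarith
    have h2 : q + 1 + y = q ^ 2 := mul_left_cancel₀ hq0.ne' h
    nlinarith
  · have ht1 : 1 ≤ t := by omega
    rcases eq_or_lt_of_le ht1 with h1 | h1
    · subst h1
      have hl1 : l = 1 + q := by linarith
      subst hl1
      have h : (q + 1) * (q * (y + 2)) = 0 := by nlinarith
      have h2 : q * (y + 2) = 0 := by
        rcases mul_eq_zero.mp h with h3 | h3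
        · exfalso; linarith
        · exact h3
      rcases mul_eq_zero.mp h2 with h3 | h3
      · exfalso; linarith
      · linarith
    · exfalso
      have ht2 : 2 ≤ t := by omega
      have hl2 : 1 + 2 * q ≤ l := by nlinarith
      have h3 : (q ^ 2 + q + 1 + q * y) * (1 + 2 * q) ≤ q ^ 3 + 1 := by
        rw [hl]
        exact mul_le_mul_of_nonneg_left hl2 hmpos.le
      have h4 : q ^ 2 + 2 * q + 2 ≤ 2 * (q ^ 2 + q + 1 + q * y) := by nlinarith
      have h5 := mul_le_mul_of_nonneg_right h4 (show (0 : ℤ) ≤ 1 + 2 * q by linarith)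
      nlinarith [pow_pos hq0 2, pow_pos hq0 3]


section Norm2

variable {ρ : Type*} [DecidableEq ρ] (O : Finset ρ)

/-- An integer function of norm `2` and weighted degree zero. -/
theorem exists_norm_two (D w : ρ → ℤ) (hw : ∀ χ ∈ O, 0 < w χ) (h2 : ∑ χ ∈ O, D χ ^ 2 = 2)
    (h0 : ∑ χ ∈ O, w χ * D χ = 0) :
    ∃ p ∈ O, ∃ n ∈ O, p ≠ n ∧ ∀ χ ∈ O, D χ = (if χ = p then 1 else 0) - (if χ = n then 1 else 0) := by
  classical
  set S := O.filter (fun χ => D χ ≠ 0) with hS
  have hS1 : ∑ χ ∈ S, D χ ^ 2 = 2 := by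
    rw [← h2, hS, Finset.sum_filter]
    refine Finset.sum_congr rfl fun χ _ => ?_
    by_cases h : D χ = 0
    · simp [h]
    · simp [h]
  have hS2 : ∑ χ ∈ S, w χ * D χ = 0 := by
    rw [← h0, hS, Finset.sum_filter]
    refine Finset.sum_congr rfl fun χ _ => ?_
    by_cases h : D χ = 0
    · simp [h]
    · simp [h]
  have hge : ∀ χ ∈ S, 1 ≤ D χ ^ 2 := by
    intro χ hχ
    have h := (Finset.mem_filter.mp hχ).2
    have : 0 < D χ ^ 2 := by positivity
    omega
  have hcard : (S.card : ℤ) ≤ 2 := by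
    have : ∑ χ ∈ S, (1 : ℤ) ≤ ∑ χ ∈ S, D χ ^ 2 := Finset.sum_le_sum hge
    simpa [hS1] using this
  have hcard' : S.card ≤ 2 := by exact_mod_cast hcard
  have hmem : ∀ χ ∈ O, χ ∉ S → D χ = 0 := by
    intro χ hχ hn
    by_contra h
    exact hn (Finset.mem_filter.mpr ⟨hχ, h⟩)
  interval_cases hc : S.card
  · rw [Finset.card_eq_zero.mp hc] at hS1
    simp at hS1
  · obtain ⟨x, hx⟩ := Finset.card_eq_one.mp hc
    rw [hx, Finset.sum_singleton] at hS1
    exfalso
    have h3 : D x ^ 2 = 2 := hS1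
    have h4 : |D x| < 2 := by
      apply abs_lt_of_sq_lt_sq <;> norm_num
      nlinarith
    have h5 : D x = 0 ∨ D x = 1 ∨ D x = -1 := by
      rw [abs_lt] at h4
      omega
    rcases h5 with h | h | h <;> rw [h] at h3 <;> norm_num at h3
  · obtain ⟨x, y, hxy, hS3⟩ := Finset.card_eq_two.mp hc
    rw [hS3, Finset.sum_pair hxy] at hS1 hS2
    have hxS : x ∈ S := by rw [hS3]; simp
    have hyS : y ∈ S := by rw [hS3]; simp
    have hxO := (Finset.mem_filter.mp hxS).1
    have hyO := (Finset.mem_filter.mp hyS).1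
    have h1x := hge x hxS
    have h1y := hge y hyS
    have hxsq : D x ^ 2 = 1 := by linarith
    have hysq : D y ^ 2 = 1 := by linarith
    have hx' : D x = 1 ∨ D x = -1 := sq_eq_one_iff.mp hxsq
    have hy' : D y = 1 ∨ D y = -1 := sq_eq_one_iff.mp hysq
    have hwx := hw x hxO
    have hwy := hw y hyO
    have hval : ∀ χ ∈ O, χ ≠ x → χ ≠ y → D χ = 0 := by
      intro χ hχ h1 h2
      apply hmem χ hχ
      rw [hS3]
      simp [h1, h2]
    rcases hx' with hx1 | hx1 <;> rcases hy' with hy1 | hy1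
    · exfalso; rw [hx1, hy1] at hS2; linarith
    · refine ⟨x, hxO, y, hyO, hxy, fun χ hχ => ?_⟩
      by_cases h1 : χ = x
      · subst h1; simp [hx1, hxy]
      · by_cases h2 : χ = y
        · subst h2; simp [hy1, h1]
        · simp [h1, h2, hval χ hχ h1 h2]
    · refine ⟨y, hyO, x, hxO, hxy.symm, fun χ hχ => ?_⟩
      by_cases h1 : χ = x
      · subst h1; simp [hx1, hxy]
      · by_cases h2 : χ = y
        · subst h2; simp [hy1, h1]
        · simp [h1, h2, hval χ hχ h1 h2]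
    · exfalso; rw [hx1, hy1] at hS2; linarith

variable {σ : Type*} [DecidableEq σ]

/-- Sum of products of indicators on a finset. -/
theorem sum_ind_mul {p n : ρ} (hp : p ∈ O) (hn : n ∈ O) :
    ∑ χ ∈ O, ((if χ = p then (1 : ℤ) else 0) * (if χ = n then 1 else 0)) = if p = n then 1 else 0 := by
  by_cases h : p = n
  · subst h
    simp [Finset.sum_ite_eq', hp]
  · rw [if_neg h]
    refine Finset.sum_eq_zero fun χ _ => ?_
    by_cases h1 : χ = p
    · subst h1; simp [h]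
    · simp [h1]

/-- **Coherence**: a family of integer vectors, of the same weighted degree, with pairwise inner
products `κ` and norms `κ + 1`, are the vectors `γ ± e_{p i}`. -/
theorem coherence (v : σ → ρ → ℤ) (w : ρ → ℤ) (κ : ℤ) (hw : ∀ χ ∈ O, 0 < w χ)
    (hdeg : ∀ i j, ∑ χ ∈ O, w χ * v i χ = ∑ χ ∈ O, w χ * v j χ)
    (horth : ∀ i j, ∑ χ ∈ O, v i χ * v j χ = κ + if i = j then 1 else 0)
    {i₀ i₁ : σ} (h01 : i₀ ≠ i₁) :
    ∃ (γ : ρ → ℤ) (p : σ → ρ) (ε : ℤ), (ε = 1 ∨ ε = -1) ∧ (∀ i, p i ∈ O) ∧ Function.Injective p ∧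
      ∀ i, ∀ χ ∈ O, v i χ = γ χ + ε * (if χ = p i then 1 else 0) := by
  classical
  -- differences
  have hdiff : ∀ i j, i ≠ j → ∃ p ∈ O, ∃ n ∈ O, p ≠ n ∧
      ∀ χ ∈ O, v i χ - v j χ = (if χ = p then 1 else 0) - (if χ = n then 1 else 0) := by
    intro i j hij
    apply exists_norm_two O (fun χ => v i χ - v j χ) w hw
    · have e : ∑ χ ∈ O, (v i χ - v j χ) ^ 2 =
          ∑ χ ∈ O, v i χ * v i χ - 2 * ∑ χ ∈ O, v i χ * v j χ + ∑ χ ∈ O, v j χ * v j χ := by
        rw [Finset.mul_sum, ← Finset.sum_sub_distrib, ← Finset.sum_add_distrib]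
        refine Finset.sum_congr rfl fun χ _ => ?_
        ring
      rw [e, horth, horth, horth, if_pos rfl, if_pos rfl, if_neg hij]
      ring
    · have e : ∑ χ ∈ O, w χ * (v i χ - v j χ) =
          ∑ χ ∈ O, w χ * v i χ - ∑ χ ∈ O, w χ * v j χ := by
        rw [← Finset.sum_sub_distrib]
        refine Finset.sum_congr rfl fun χ _ => ?_
        ring
      rw [e, hdeg i j, sub_self]
  -- the differences from `i₀`
  have hex : ∀ j : σ, ∃ P N : ρ, j ≠ i₀ → P ∈ O ∧ N ∈ O ∧ P ≠ N ∧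
      ∀ χ ∈ O, v j χ - v i₀ χ = (if χ = P then 1 else 0) - (if χ = N then 1 else 0) := by
    intro j
    by_cases hj : j = i₀
    · by_cases hO : O.Nonempty
      · obtain ⟨x, _⟩ := hO
        exact ⟨x, x, fun h => absurd hj h⟩
      · obtain ⟨p, hp, -⟩ := hdiff i₀ i₁ h01
        exact absurd ⟨p, hp⟩ hO
    · obtain ⟨p, hp, n, hn, hpn, h⟩ := hdiff j i₀ hj
      exact ⟨p, n, fun _ => ⟨hp, hn, hpn, h⟩⟩
  choose P N hPN using hex
  -- comparison
  have hcmp : ∀ j k, j ≠ i₀ → k ≠ i₀ → j ≠ k → P j = P k ∨ N j = N k := by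
    intro j k hj hk hjk
    obtain ⟨hPj, hNj, hj1, hj2⟩ := hPN j hj
    obtain ⟨hPk, hNk, hk1, hk2⟩ := hPN k hk
    have e1 : ∑ χ ∈ O, (v j χ - v i₀ χ) * (v k χ - v i₀ χ) = 1 := by
      have e : ∑ χ ∈ O, (v j χ - v i₀ χ) * (v k χ - v i₀ χ) =
          ∑ χ ∈ O, v j χ * v k χ - ∑ χ ∈ O, v j χ * v i₀ χ - ∑ χ ∈ O, v i₀ χ * v k χ +
            ∑ χ ∈ O, v i₀ χ * v i₀ χ := by
        rw [← Finset.sum_sub_distrib, ← Finset.sum_sub_distrib, ← Finset.sum_add_distrib]
        refine Finset.sum_congr rfl fun χ _ => ?_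
        ring
      rw [e, horth, horth, horth, horth, if_neg hjk, if_neg hj, if_neg (Ne.symm hk), if_pos rfl]
      ring
    have e2 : ∑ χ ∈ O, (v j χ - v i₀ χ) * (v k χ - v i₀ χ) =
        (if P j = P k then 1 else 0) - (if P j = N k then 1 else 0) - (if N j = P k then 1 else 0) +
          (if N j = N k then 1 else 0) := by
      rw [← sum_ind_mul O hPj hPk, ← sum_ind_mul O hPj hNk, ← sum_ind_mul O hNj hPk,
        ← sum_ind_mul O hNj hNk, ← Finset.sum_sub_distrib, ← Finset.sum_sub_distrib,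
        ← Finset.sum_add_distrib]
      refine Finset.sum_congr rfl fun χ hχ => ?_
      rw [hj2 χ hχ, hk2 χ hχ]
      ring
    rw [e2] at e1
    by_contra hc
    push Not at hc
    rw [if_neg hc.1, if_neg hc.2] at e1
    split_ifs at e1 <;> omega
  have hne : ∀ j k, j ≠ i₀ → k ≠ i₀ → j ≠ k → ¬ (P j = P k ∧ N j = N k) := by
    intro j k hj hk hjk ⟨h1, h2⟩
    obtain ⟨hPj, hNj, hj1, hj2⟩ := hPN j hj
    obtain ⟨hPk, hNk, hk1, hk2⟩ := hPN k hk
    have h3 : ∀ χ ∈ O, v j χ = v k χ := by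
      intro χ hχ
      have h4 := hj2 χ hχ
      have h5 := hk2 χ hχ
      rw [h1, h2] at h4
      linarith
    have h6 : ∑ χ ∈ O, v j χ * v j χ = ∑ χ ∈ O, v j χ * v k χ :=
      Finset.sum_congr rfl fun χ hχ => by rw [h3 χ hχ]
    rw [horth, horth, if_pos rfl, if_neg hjk] at h6
    omega
  by_cases hcase : ∀ j, j ≠ i₀ → N j = N i₁
  · -- common `N`
    obtain ⟨-, hN1, -, -⟩ := hPN i₁ h01.symm
    refine ⟨fun χ => v i₀ χ - (if χ = N i₁ then 1 else 0),
      fun j => if j = i₀ then N i₁ else P j, 1, Or.inl rfl, ?_, ?_, ?_⟩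
    · intro j
      by_cases hj : j = i₀
      · simp [hj, hN1]
      · simp only [hj, if_false]
        exact (hPN j hj).1
    · intro j k hjk
      by_cases hj : j = i₀
      · by_cases hk : k = i₀
        · rw [hj, hk]
        · exfalso
          simp only [hj, hk, if_true, if_false] at hjk
          exact (hPN k hk).2.2.1 (by rw [← hjk, hcase k hk])
      · by_cases hk : k = i₀
        · exfalso
          simp only [hj, hk, if_true, if_false] at hjk
          exact (hPN j hj).2.2.1 (by rw [hjk, hcase j hj])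
        · simp only [hj, hk, if_false] at hjk
          by_contra hc
          exact hne j k hj hk hc ⟨hjk, by rw [hcase j hj, hcase k hk]⟩
    · intro j χ hχ
      by_cases hj : j = i₀
      · subst hj
        simp
      · simp only [hj, if_false]
        have := (hPN j hj).2.2.2 χ hχ
        rw [hcase j hj] at this
        linarith
  · -- common `P`
    push Not at hcase
    obtain ⟨j₃, hj₃, hj₃N⟩ := hcase
    have hj₃1 : j₃ ≠ i₁ := fun h => hj₃N (by rw [h])
    have hPj₃ : P j₃ = P i₁ := by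
      rcases hcmp j₃ i₁ hj₃ h01.symm hj₃1 with h | h
      · exact h
      · exact absurd h hj₃N
    have hall : ∀ j, j ≠ i₀ → P j = P i₁ := by
      intro j hj
      by_contra hc
      have hNj : N j = N i₁ := by
        by_cases hj1 : j = i₁
        · rw [hj1]
        · rcases hcmp j i₁ hj h01.symm hj1 with h | h
          · exact absurd h hc
          · exact h
      have hjj₃ : j ≠ j₃ := fun h => hj₃N (by rw [← h, hNj])
      rcases hcmp j j₃ hj hj₃ hjj₃ with h | h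
      · exact hc (by rw [h, hPj₃])
      · exact hj₃N (by rw [← h, hNj])
    obtain ⟨hP1, -, -, -⟩ := hPN i₁ h01.symm
    refine ⟨fun χ => v i₀ χ + (if χ = P i₁ then 1 else 0),
      fun j => if j = i₀ then P i₁ else N j, -1, Or.inr rfl, ?_, ?_, ?_⟩
    · intro j
      by_cases hj : j = i₀
      · simp [hj, hP1]
      · simp only [hj, if_false]
        exact (hPN j hj).2.1
    · intro j k hjk
      by_cases hj : j = i₀
      · by_cases hk : k = i₀
        · rw [hj, hk]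
        · exfalso
          simp only [hj, hk, if_true, if_false] at hjk
          exact (hPN k hk).2.2.1 ((hall k hk).trans hjk)
      · by_cases hk : k = i₀
        · exfalso
          simp only [hj, hk, if_true, if_false] at hjk
          exact (hPN j hj).2.2.1 ((hall j hj).trans hjk.symm)
        · simp only [hj, hk, if_false] at hjk
          by_contra hc
          exact hne j k hj hk hc ⟨by rw [hall j hj, hall k hk], hjk⟩
    · intro j χ hχ
      by_cases hj : j = i₀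
      · subst hj
        simp only [if_true]
        ring
      · simp only [hj, if_false]
        have := (hPN j hj).2.2.2 χ hχ
        rw [hall j hj] at this
        linarith


/-- The structure of the columns of the linear characters in the case `|U| = q³`. -/
theorem coh_struct [Fintype σ] (v : σ → ρ → ℤ) (w : ρ → ℤ) (κ : ℤ) (hκ : 0 ≤ κ)
    (hs : (Fintype.card σ : ℤ) = 2 * κ + 3)
    (hw : ∀ χ ∈ O, 0 < w χ)
    (hv0 : ∀ i, ∀ χ ∈ O, 0 ≤ v i χ)
    (hdeg : ∀ i j, ∑ χ ∈ O, w χ * v i χ = ∑ χ ∈ O, w χ * v j χ)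
    (horth : ∀ i j, ∑ χ ∈ O, v i χ * v j χ = κ + if i = j then 1 else 0)
    (hFS : (2 * κ + 2) * (Fintype.card σ : ℤ) ≤ 2 * ∑ χ ∈ O, ∑ i, v i χ) :
    ∃ (γ : ρ → ℤ) (p : σ → ρ), (∀ i, p i ∈ O) ∧ Function.Injective p ∧
      (∀ i, ∀ χ ∈ O, v i χ = γ χ + (if χ = p i then 1 else 0)) ∧
      (∀ χ ∈ O, γ χ = 0 ∨ γ χ = 1) ∧ (∀ i, γ (p i) = 0) ∧ ∑ χ ∈ O, γ χ = κ := by
  classical
  have hcard : 1 < Fintype.card σ := by
    have : (1 : ℤ) < Fintype.card σ := by omega
    exact_mod_cast this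
  obtain ⟨i₀, i₁, h01⟩ := Fintype.one_lt_card_iff.mp hcard
  obtain ⟨γ, p, ε, hε, hpO, hinj, hv⟩ := coherence O v w κ hw hdeg horth h01
  have hε2 : ε * ε = 1 := by rcases hε with h | h <;> rw [h] <;> norm_num
  set G₂ : ℤ := ∑ χ ∈ O, γ χ ^ 2 with hG₂
  -- inner products with the indicators
  have hγp : ∀ i, ∑ χ ∈ O, γ χ * (if χ = p i then 1 else 0) = γ (p i) := by
    intro i
    simp [Finset.sum_ite_eq', hpO i]
  have hexp : ∀ i j, ∑ χ ∈ O, v i χ * v j χ =
      G₂ + ε * γ (p j) + ε * γ (p i) + ε * ε * (if p i = p j then 1 else 0) := by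
    intro i j
    have e1 : ∑ χ ∈ O, v i χ * v j χ = ∑ χ ∈ O, (γ χ ^ 2 +
        ε * (γ χ * (if χ = p j then 1 else 0)) + ε * (γ χ * (if χ = p i then 1 else 0)) +
        ε * ε * ((if χ = p i then 1 else 0) * (if χ = p j then 1 else 0))) := by
      refine Finset.sum_congr rfl fun χ hχ => ?_
      rw [hv i χ hχ, hv j χ hχ]
      ring
    rw [e1, Finset.sum_add_distrib, Finset.sum_add_distrib, Finset.sum_add_distrib,
      ← Finset.mul_sum, ← Finset.mul_sum, ← Finset.mul_sum, hγp, hγp, sum_ind_mul O (hpO i) (hpO j)]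
  have hself : ∀ i, G₂ + 2 * (ε * γ (p i)) = κ := by
    intro i
    have h1 := hexp i i
    rw [horth, if_pos rfl, if_pos rfl, hε2] at h1
    linarith
  have hconst : ∀ i, γ (p i) = γ (p i₀) := by
    intro i
    have h1 := hself i
    have h2 := hself i₀
    have h3 : ε * (γ (p i) - γ (p i₀)) = 0 := by linarith
    rcases mul_eq_zero.mp h3 with h4 | h4
    · rcases hε with h | h <;> rw [h] at h4 <;> norm_num at h4
    · linarith
  -- non-negativity
  have hne : ∀ i j, i ≠ j → γ (p i) = v j (p i) := by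
    intro i j hij
    rw [hv j (p i) (hpO i), if_neg (fun h => hij (hinj h))]
    ring
  have hg0 : 0 ≤ γ (p i₀) := by
    rw [hne i₀ i₁ h01]
    exact hv0 _ _ (hpO _)
  -- the norm of `γ` is at least the sum over the points `p i`
  have hlow : (Fintype.card σ : ℤ) * γ (p i₀) ^ 2 ≤ G₂ := by
    have h1 : ∑ χ ∈ Finset.univ.image p, γ χ ^ 2 ≤ G₂ := by
      rw [hG₂]
      apply Finset.sum_le_sum_of_subset_of_nonneg
      · intro x hx
        obtain ⟨i, -, rfl⟩ := Finset.mem_image.mp hx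
        exact hpO i
      · intro x _ _
        positivity
    rw [Finset.sum_image (fun a _ b _ h => hinj h)] at h1
    simp only [hconst, Finset.sum_const, Finset.card_univ, nsmul_eq_mul] at h1
    exact h1
  have hG0 : 0 ≤ G₂ := Finset.sum_nonneg fun χ _ => by positivity
  -- the sign
  have hεpos : ε = 1 := by
    rcases hε with h | h
    · exact h
    · exfalso
      have h1 := hv i₀ (p i₀) (hpO i₀)
      rw [if_pos rfl, h] at h1
      have h2 := hv0 i₀ (p i₀) (hpO i₀)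
      have hg1 : 1 ≤ γ (p i₀) := by linarith
      have h3 := hself i₀
      rw [h] at h3
      rw [hs] at hlow
      have hgg : γ (p i₀) ≤ γ (p i₀) ^ 2 := by nlinarith
      have h5 : (2 * κ + 3) * γ (p i₀) ≤ (2 * κ + 3) * γ (p i₀) ^ 2 :=
        mul_le_mul_of_nonneg_left hgg (by linarith)
      have h6 : κ ≤ κ * γ (p i₀) := by nlinarith
      nlinarith
  subst hεpos
  have hg00 : γ (p i₀) = 0 := by
    by_contra hc
    have hg1 : 1 ≤ γ (p i₀) := by omega
    have h3 := hself i₀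
    rw [hs] at hlow
    have hgg : γ (p i₀) ≤ γ (p i₀) ^ 2 := by nlinarith
    have h5 : (2 * κ + 3) * γ (p i₀) ≤ (2 * κ + 3) * γ (p i₀) ^ 2 :=
      mul_le_mul_of_nonneg_left hgg (by linarith)
    have h6 : κ ≤ κ * γ (p i₀) := by nlinarith
    nlinarith
  have hγ0 : ∀ i, γ (p i) = 0 := fun i => by rw [hconst, hg00]
  have hGκ : G₂ = κ := by
    have h3 := hself i₀
    rw [hg00] at h3
    linarith
  -- non-negativity of `γ`
  have hγnn : ∀ χ ∈ O, 0 ≤ γ χ := by
    intro χ hχ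
    by_cases h : χ = p i₀
    · rw [h, hg00]
    · have := hv0 i₀ χ hχ
      rw [hv i₀ χ hχ, if_neg h] at this
      linarith
  have hsum : ∑ χ ∈ O, ∑ i, v i χ = (Fintype.card σ : ℤ) * (∑ χ ∈ O, γ χ + 1) := by
    rw [Finset.sum_comm]
    have : ∀ i : σ, ∑ χ ∈ O, v i χ = ∑ χ ∈ O, γ χ + 1 := by
      intro i
      rw [Finset.sum_congr rfl (fun χ hχ => hv i χ hχ), Finset.sum_add_distrib]
      simp [Finset.sum_ite_eq', hpO i]
    simp only [this, Finset.sum_const, Finset.card_univ, nsmul_eq_mul]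
  rw [hsum] at hFS
  have hcardpos : (0 : ℤ) < Fintype.card σ := by omega
  have hle : κ ≤ ∑ χ ∈ O, γ χ := by
    have : (2 * κ + 2) * (Fintype.card σ : ℤ) ≤ (2 * (∑ χ ∈ O, γ χ + 1)) * (Fintype.card σ : ℤ) := by
      linarith
    have := le_of_mul_le_mul_right this hcardpos
    linarith
  have hterm : ∀ χ ∈ O, 0 ≤ γ χ ^ 2 - γ χ := by
    intro χ hχ
    have := hγnn χ hχ
    rcases eq_or_lt_of_le this with h | h
    · rw [← h]; norm_num
    · have : 1 ≤ γ χ := by omega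
      nlinarith
  have hsum0 : ∑ χ ∈ O, (γ χ ^ 2 - γ χ) ≤ 0 := by
    rw [Finset.sum_sub_distrib]
    linarith
  have hzero := (Finset.sum_eq_zero_iff_of_nonneg hterm).mp (le_antisymm hsum0 (Finset.sum_nonneg hterm))
  refine ⟨γ, p, hpO, hinj, ?_, ?_, hγ0, ?_⟩
  · intro i χ hχ
    rw [hv i χ hχ]
    ring
  · intro χ hχ
    have h1 := hzero χ hχ
    have h2 : γ χ * (γ χ - 1) = 0 := by linarith
    rcases mul_eq_zero.mp h2 with h3 | h3
    · exact Or.inl h3
    · exact Or.inr (by linarith)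
  · have : ∑ χ ∈ O, (γ χ ^ 2 - γ χ) = 0 := Finset.sum_eq_zero hzero
    rw [Finset.sum_sub_distrib] at this
    linarith

/-- The columns of the non-linear characters, in the case `|U| = q³`. -/
theorem col_bound [Fintype σ] (v : σ → ρ → ℤ) (κ r : ℤ) (γ β : ρ → ℤ) (p : σ → ρ)
    (hpO : ∀ i, p i ∈ O) (hinj : Function.Injective p)
    (hv : ∀ i, ∀ χ ∈ O, v i χ = γ χ + (if χ = p i then 1 else 0))
    (h01 : ∀ χ ∈ O, γ χ = 0 ∨ γ χ = 1) (hγ0 : ∀ i, γ (p i) = 0)
    (hsum : ∑ χ ∈ O, γ χ = κ)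
    (hβ1 : ∀ i, ∑ χ ∈ O, v i χ * β χ = κ * r)
    (hβ2 : ∑ χ ∈ O, β χ * β χ = 1 + κ * r * r) (i₀ : σ) :
    (∀ i, β (p i) = β (p i₀)) ∧
      ∑ χ ∈ O.filter (fun χ => γ χ = 1), (β χ - r) = - β (p i₀) ∧
      ∑ χ ∈ O.filter (fun χ => γ χ = 1), (β χ - r) ^ 2 + (Fintype.card σ : ℤ) * β (p i₀) ^ 2 ≤
        1 + 2 * r * β (p i₀) := by
  classical
  set G := O.filter (fun χ => γ χ = 1) with hG
  have hsumG : ∀ f : ρ → ℤ, ∑ χ ∈ O, γ χ * f χ = ∑ χ ∈ G, f χ := by
    intro f
    rw [hG, Finset.sum_filter]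
    refine Finset.sum_congr rfl fun χ hχ => ?_
    rcases h01 χ hχ with h | h
    · simp [h]
    · simp [h]
  have hcardG : (G.card : ℤ) = κ := by
    have := hsumG (fun _ => 1)
    simp only [mul_one, Finset.sum_const, nsmul_eq_mul] at this
    rw [hsum] at this
    simpa using this.symm
  have h1 : ∀ i, ∑ χ ∈ G, β χ + β (p i) = κ * r := by
    intro i
    rw [← hβ1 i, ← hsumG]
    have e : ∑ χ ∈ O, v i χ * β χ = ∑ χ ∈ O, (γ χ * β χ + (if χ = p i then β χ else 0)) := by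
      refine Finset.sum_congr rfl fun χ hχ => ?_
      rw [hv i χ hχ]
      split_ifs <;> ring
    rw [e, Finset.sum_add_distrib]
    simp [Finset.sum_ite_eq', hpO i]
  have h2 : ∀ i, β (p i) = β (p i₀) := by
    intro i
    have := h1 i
    have := h1 i₀
    linarith
  refine ⟨h2, ?_, ?_⟩
  · rw [Finset.sum_sub_distrib]
    simp only [Finset.sum_const, nsmul_eq_mul, hcardG]
    have := h1 i₀
    linarith
  · -- disjointness
    have hdisj : Disjoint G (Finset.univ.image p) := by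
      rw [Finset.disjoint_left]
      intro x hx hx2
      obtain ⟨i, -, rfl⟩ := Finset.mem_image.mp hx2
      have := (Finset.mem_filter.mp hx).2
      rw [hγ0 i] at this
      omega
    have hsub : G ∪ Finset.univ.image p ⊆ O := by
      intro x hx
      rcases Finset.mem_union.mp hx with h | h
      · exact (Finset.mem_filter.mp h).1
      · obtain ⟨i, -, rfl⟩ := Finset.mem_image.mp h
        exact hpO i
    have h3 : ∑ χ ∈ G ∪ Finset.univ.image p, β χ * β χ ≤ ∑ χ ∈ O, β χ * β χ :=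
      Finset.sum_le_sum_of_subset_of_nonneg hsub (fun x _ _ => mul_self_nonneg _)
    rw [Finset.sum_union hdisj, Finset.sum_image (fun a _ b _ h => hinj h)] at h3
    simp only [h2, Finset.sum_const, Finset.card_univ, nsmul_eq_mul] at h3
    have e : ∑ χ ∈ G, (β χ - r) ^ 2 = ∑ χ ∈ G, β χ * β χ - 2 * r * ∑ χ ∈ G, β χ + (G.card : ℤ) * r ^ 2 := by
      rw [Finset.mul_sum, ← Finset.sum_sub_distrib]
      have : (G.card : ℤ) * r ^ 2 = ∑ χ ∈ G, r ^ 2 := by simp
      rw [this, ← Finset.sum_add_distrib]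
      refine Finset.sum_congr rfl fun χ _ => ?_
      ring
    rw [e, hcardG]
    have h4 := h1 i₀
    rw [hβ2] at h3
    have h5 : ∑ χ ∈ G, β χ = κ * r - β (p i₀) := by linarith
    rw [h5]
    nlinarith

/-- A lower bound for the norm. -/
theorem abs_sum_le_sum_sq (G : Finset ρ) (y : ρ → ℤ) : - ∑ χ ∈ G, y χ ≤ ∑ χ ∈ G, y χ ^ 2 := by
  rw [← Finset.sum_neg_distrib]
  apply Finset.sum_le_sum
  intro χ _
  rcases le_or_gt 0 (y χ) with h | h
  · nlinarith
  · have : y χ ≤ -1 := by omega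
    nlinarith

/-- The bound for the non-linear columns. -/
theorem col_ineq {s r s₀ N : ℤ} (hs : 0 < s) (h1 : s₀ ≤ N) (h2 : N + s * s₀ ^ 2 ≤ 1 + 2 * r * s₀)
    (h3 : 1 ≤ s₀) : s * s₀ ≤ 2 * r := by
  by_contra hc
  push Not at hc
  have h4 : 2 * r + 1 ≤ s * s₀ := by omega
  have h5 : (2 * r + 1) * s₀ ≤ s * s₀ * s₀ := mul_le_mul_of_nonneg_right h4 (by linarith)
  nlinarith

/-- The end of the case `|U| = q³`. -/
theorem final_three {q κ : ℤ} (hq4 : 4 ≤ q) (hκ : 2 * κ + 2 = q) (G : Finset ρ) (y : ρ → ℤ)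
    (hcard : (G.card : ℤ) = κ) (h1 : ∑ χ ∈ G, y χ = -1) (h2 : ∑ χ ∈ G, y χ ^ 2 ≤ q)
    (h3 : ∀ χ ∈ G, (q ^ 2 + q + 1 + q * y χ) ∣ q ^ 3 + 1) : False := by
  have h4 : ∀ χ ∈ G, y χ = -2 := by
    intro χ hχ
    apply div_three hq4 _ (h3 χ hχ)
    calc y χ ^ 2 ≤ ∑ χ ∈ G, y χ ^ 2 :=
          Finset.single_le_sum (f := fun χ => y χ ^ 2) (fun _ _ => by positivity) hχ
      _ ≤ q := h2
  rw [Finset.sum_congr rfl h4] at h1
  simp only [Finset.sum_const, nsmul_eq_mul, hcard] at h1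
  omega

end Norm2

end Cfsg.Agent.Lib.SzNum
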