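import Mathlib
import Cfsg.Agent.Lib.SzNum
import Cfsg.Agent.Lib.ZassMain9
import Cfsg.Agent.Lib.CharCodegP

/-!
# Zassenhaus groups with non-abelian kernel of even order: the set-up and the columns
-/

set_option autoImplicit false
set_option linter.unusedSectionVars false
set_option linter.unusedVariables false
set_option linter.style.haveILetI false

open Cfsg MulAction

namespace Cfsg.Agent.Lib.SzChar1

open Cfsg.Agent.Lib.CharBasic Cfsg.Agent.Lib.GenChar Cfsg.Agent.Lib.CharInd
  Cfsg.Agent.Lib.CharInduction Cfsg.Agent.Lib.CharKernel Cfsg.Agent.Lib.CharNormal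
  Cfsg.Agent.Lib.FrobIrr9 Cfsg.Agent.Lib.ZassCore Cfsg.Agent.Lib.ZassFrob9 Cfsg.Agent.Lib.ZassInv
  Cfsg.Agent.Lib.CharCodegP
open scoped ComplexConjugate

/-- The group-theoretic data of a Zassenhaus group with non-abelian kernel `U`, a Suzuki 2-group with
centre `A`. -/
structure SzData (G Ω : Type*) [Group G] [MulAction G Ω] (a b : Ω) (U A : Subgroup G) (q n : ℕ) :
    Prop where
  hZ : IsZassenhausGroup G Ω
  hab : a ≠ b
  hK : IsKernelAt G a U
  hcomm : ∀ x ∈ stabilizer G a ⊓ stabilizer G b, ∀ y ∈ stabilizer G a ⊓ stabilizer G b, x * y = y * x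
  hI : OddInv G Ω
  hAU : A ≤ U
  hAn : ∀ g : G, g • a = a → ∀ x ∈ A, g * x * g⁻¹ ∈ A
  hAc : ∀ x ∈ A, ∀ u ∈ U, x * u = u * x
  hsq : ∀ u ∈ U, u * u ∈ A
  hco : ∀ u ∈ U, ∀ v ∈ U, u * v * u⁻¹ * v⁻¹ ∈ A
  hinv : ∀ u ∈ U, u * u = 1 → u ∈ A
  hAinv : ∀ x ∈ A, x * x = 1
  htr : ∀ z ∈ A, z ≠ 1 → ∀ z' ∈ A, z' ≠ 1 → ∃ g : G, g • a = a ∧ g * z * g⁻¹ = z'
  hder : ∀ z ∈ A, ∃ u ∈ U, ∃ v ∈ U, z = u * v * u⁻¹ * v⁻¹
  hq : Nat.card A = q
  hn : Nat.card U = n
  hd : Nat.card ↥(stabilizer G a ⊓ stabilizer G b) + 1 = q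
  hq4 : 4 ≤ q
  hqev : Even q
  h2n : IsPGroup 2 U

variable {G Ω : Type*} [Group G] [Fintype G] [MulAction G Ω] [Fintype Ω] {a b : Ω}
  {U A : Subgroup G} {q n : ℕ}

namespace SzData

variable (D : SzData G Ω a b U A q n)

include D

theorem one_lt_q : 1 < q := by have := D.hq4; omega

theorem index_KK : (KK a U).index = q - 1 := by
  rw [ZassFrob9.index_KK D.hZ D.hK D.hab]
  have := D.hd
  omega

theorem card_KK : Nat.card (KK a U) = n := by
  rw [ZassFrob9.card_KK D.hK, D.hn]

theorem card_stab : Nat.card (stabilizer G a) = n * (q - 1) := by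
  have h := (KK a U).card_mul_index
  rw [D.card_KK, D.index_KK] at h
  exact h.symm

theorem card_Omega : Fintype.card Ω = n + 1 := by
  have h := D.hK.card_add_one D.hab.symm
  rw [Nat.card_eq_fintype_card (α := Ω), D.hn] at h
  exact h.symm

theorem index_stab : (stabilizer G a).index = n + 1 := by
  rw [ZassFrob9.index_stab D.hZ D.hab, D.card_Omega]

theorem card_G : Nat.card G = (n + 1) * (n * (q - 1)) := by
  have h := (stabilizer G a).card_mul_index
  rw [D.card_stab, D.index_stab] at h
  rw [← h]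
  ring

theorem n_pos : 0 < n := by
  rw [← D.hn]
  exact Nat.card_pos

/-- The subgroup `A` in `U = KK`. -/
abbrev AA (a : Ω) (U A : Subgroup G) : Subgroup (KK a U) :=
  (A.subgroupOf (stabilizer G a)).subgroupOf (KK a U)

omit D in
theorem mem_AA {x : KK a U} : x ∈ AA a U A ↔ ((x : stabilizer G a) : G) ∈ A := by
  simp [Subgroup.mem_subgroupOf]

theorem AA_normal : (AA a U A).Normal := by
  constructor
  intro x hx g
  rw [mem_AA] at hx ⊢
  have hg : (((g : KK a U) : stabilizer G a) : G) • a = a := (g : stabilizer G a).2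
  simpa using D.hAn _ hg _ hx

theorem card_AA : Nat.card (AA a U A) = q := by
  rw [← D.hq]
  refine Nat.card_congr ⟨fun x => ⟨((x : KK a U) : stabilizer G a), mem_AA.mp x.2⟩, fun x => ⟨⟨⟨x, ?_⟩, ?_⟩, ?_⟩, ?_, ?_⟩
  · exact D.hK.le _ (D.hAU x.2)
  · rw [Subgroup.mem_subgroupOf]
    exact D.hAU x.2
  · rw [mem_AA]
    exact x.2
  · intro x
    rfl
  · intro x
    rfl

/-- The quotient `U / A` is commutative. -/
theorem comm_quot [(AA a U A).Normal] (x y : KK a U ⧸ AA a U A) : x * y = y * x := by
  induction x using QuotientGroup.induction_on with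
  | H x =>
    induction y using QuotientGroup.induction_on with
    | H y =>
      rw [← QuotientGroup.mk_mul, ← QuotientGroup.mk_mul, QuotientGroup.eq, mem_AA]
      have hx : (((x : KK a U) : stabilizer G a) : G) ∈ U := Subgroup.mem_subgroupOf.mp x.2
      have hy : (((y : KK a U) : stabilizer G a) : G) ∈ U := Subgroup.mem_subgroupOf.mp y.2
      have := D.hco _ (U.inv_mem hy) _ (U.inv_mem hx)
      simp only [inv_inv] at this
      simpa [mul_assoc] using this

/-- The dichotomy for the irreducible characters of the point stabiliser non-trivial on `U`. -/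
theorem col_dich [Fintype (stabilizer G a)] {φ : stabilizer G a → ℂ} (hφ : φ ∈ SS (KK a U)) :
    ∃ r : ℕ, charDegree φ = (q - 1) * r ∧ r ∣ n ∧ 0 < r ∧
      ((r = 1 ∧ ∀ z : stabilizer G a, (z : G) ∈ A → (z : G) ≠ 1 → φ z = ((q - 1 : ℕ) : ℂ)) ∨
       (r ≠ 1 ∧ ∀ z : stabilizer G a, (z : G) ∈ A → (z : G) ≠ 1 → φ z = -(r : ℂ))) := by
  classical
  haveI hN : (KK a U).Normal := KK_normal D.hK
  haveI : Fintype (KK a U) := Fintype.ofFinite _
  have hC := fro D.hZ D.hK
  obtain ⟨θ, hθ, hne, rfl⟩ := exists_of_mem hC hφ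
  have hθc := IsIrrCharacter.isCharacter hθ
  have hdeg := charDegree_ind (H := KK a U) hθc
  rw [D.index_KK] at hdeg
  refine ⟨charDegree θ, hdeg, ?_, charDegree_pos hθ, ?_⟩
  · have := charDegree_dvd_card hθ
    rwa [D.card_KK] at this
  -- membership
  have hAKK : ∀ z : stabilizer G a, (z : G) ∈ A → z ∈ KK a U := fun z hz =>
    Subgroup.mem_subgroupOf.mpr (D.hAU hz)
  have hq1 : ((q - 1 : ℕ) : ℂ) ≠ 0 := by
    have := D.one_lt_q
    exact_mod_cast (by omega : q - 1 ≠ 0)
  have hcardKK : (Nat.card (KK a U) : ℂ) ≠ 0 := Nat.cast_ne_zero.mpr Nat.card_pos.ne'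
  by_cases hr : charDegree θ = 1
  · left
    refine ⟨hr, fun z hz hz1 => ?_⟩
    have h1 : θ 1 = 1 := by
      rw [one_eq_charDegree hθc, hr]
      simp
    obtain ⟨f, hf⟩ := exists_hom_of_degree_one hθc h1
    have hval : ∀ x : stabilizer G a, conjBy (KK a U) hN x θ ⟨z, hAKK z hz⟩ = 1 := by
      intro x
      rw [conjBy_apply, hf]
      have hx : (x : G) • a = a := x.2
      have h2 : (x : G) * z * (x : G)⁻¹ ∈ A := D.hAn _ hx _ hz
      obtain ⟨u, hu, v, hv, huv⟩ := D.hder _ h2
      have hua : u ∈ stabilizer G a := D.hK.le u hu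
      have hva : v ∈ stabilizer G a := D.hK.le v hv
      let u' : KK a U := ⟨⟨u, hua⟩, Subgroup.mem_subgroupOf.mpr hu⟩
      let v' : KK a U := ⟨⟨v, hva⟩, Subgroup.mem_subgroupOf.mpr hv⟩
      have h3 : (⟨x * z * x⁻¹, hN.conj_mem _ (hAKK z hz) x⟩ : KK a U) = u' * v' * u'⁻¹ * v'⁻¹ := by
        apply Subtype.ext
        apply Subtype.ext
        exact huv
      rw [h3]
      simp only [map_mul, map_inv]
      simp
    have h4 := indFun_of_mem_normal (KK a U) hN θ ⟨z, hAKK z hz⟩
    simp only at h4
    rw [h4, Finset.sum_congr rfl (fun x _ => hval x)]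
    simp only [Finset.sum_const, Finset.card_univ, nsmul_eq_mul, mul_one]
    rw [← Nat.card_eq_fintype_card, D.card_stab, D.card_KK]
    have hn0 : (n : ℂ) ≠ 0 := Nat.cast_ne_zero.mpr D.n_pos.ne'
    push_cast
    field_simp
  · right
    refine ⟨hr, fun z hz hz1 => ?_⟩
    haveI hAA : (AA a U A).Normal := D.AA_normal
    haveI : Fintype (AA a U A) := Fintype.ofFinite _
    -- `A` is not in the kernel of `θ`
    have hex : ∃ x ∈ AA a U A, θ x ≠ θ 1 := by
      by_contra hc
      push Not at hc
      obtain ⟨θ', h1, h2⟩ := exists_quotient_irr (AA a U A) hθ hc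
      have h3 := irr_one_of_comm D.comm_quot h1
      have h4 := h2 1
      rw [QuotientGroup.mk_one, h3] at h4
      apply hr
      have h5 := one_eq_charDegree hθc
      rw [← h4] at h5
      have : ((charDegree θ : ℕ) : ℂ) = ((1 : ℕ) : ℂ) := by
        rw [← h5]
        simp
      exact_mod_cast this
    have hsum := sum_normal_eq_zero' hθ (AA a U A) hex
    -- the sum of the induced character over `A`
    have hsum2 : ∑ x : AA a U A, indFun (KK a U) θ (((x : KK a U) : stabilizer G a)) = 0 := by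
      have h1 : ∀ x : AA a U A, indFun (KK a U) θ (((x : KK a U) : stabilizer G a)) =
          (Nat.card (KK a U) : ℂ)⁻¹ * ∑ g : stabilizer G a, conjBy (KK a U) hN g θ x := fun x =>
        indFun_of_mem_normal (KK a U) hN θ x
      rw [Finset.sum_congr rfl (fun x _ => h1 x), ← Finset.mul_sum, Finset.sum_comm]
      have h2 : ∀ g : stabilizer G a, ∑ x : AA a U A, conjBy (KK a U) hN g θ x = 0 := by
        intro g
        rw [← hsum]
        let e : AA a U A ≃ AA a U A :=
          { toFun := fun x => ⟨⟨g * ((x : KK a U) : stabilizer G a) * g⁻¹,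
                hN.conj_mem _ (x : KK a U).2 g⟩, by
                rw [mem_AA]
                have := D.hAn _ g.2 _ (mem_AA.mp x.2)
                simpa using this⟩
            invFun := fun x => ⟨⟨g⁻¹ * ((x : KK a U) : stabilizer G a) * g, by
                have := hN.conj_mem _ (x : KK a U).2 g⁻¹
                simpa using this⟩, by
                rw [mem_AA]
                have h := D.hAn _ (g⁻¹).2 _ (mem_AA.mp x.2)
                simpa using h⟩
            left_inv := fun x => by
              apply Subtype.ext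
              apply Subtype.ext
              simp [mul_assoc]
            right_inv := fun x => by
              apply Subtype.ext
              apply Subtype.ext
              simp [mul_assoc] }
        exact Fintype.sum_equiv e _ _ (fun x => rfl)
      rw [Finset.sum_congr rfl (fun g _ => h2 g)]
      simp
    -- the values on `A`
    set φ := indFun (KK a U) θ with hφdef
    have hφc : IsClassFunction (stabilizer G a) φ := indFun_isClassFunction _ _
    have hconst : ∀ x : AA a U A, x ≠ 1 → φ (((x : KK a U) : stabilizer G a)) = φ z := by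
      intro x hx
      have hx1 : (((x : KK a U) : stabilizer G a) : G) ≠ 1 := by
        intro h
        apply hx
        apply Subtype.ext
        apply Subtype.ext
        apply Subtype.ext
        exact h
      obtain ⟨g, hg, hgz⟩ := D.htr _ hz hz1 _ (mem_AA.mp x.2) hx1
      have h1 := hφc z ⟨g, hg⟩
      rw [← h1]
      congr 1
      apply Subtype.ext
      exact hgz.symm
    have hsum3 : φ 1 + ((q - 1 : ℕ) : ℂ) * φ z = 0 := by
      rw [← hsum2, ← Finset.add_sum_erase _ _ (Finset.mem_univ (1 : AA a U A))]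
      have : ∑ x ∈ Finset.univ.erase (1 : AA a U A), φ (((x : KK a U) : stabilizer G a)) =
          ((q - 1 : ℕ) : ℂ) * φ z := by
        rw [Finset.sum_congr rfl (fun x hx => hconst x (Finset.ne_of_mem_erase hx))]
        simp only [Finset.sum_const, nsmul_eq_mul]
        congr 2
        rw [Finset.card_erase_of_mem (Finset.mem_univ _), Finset.card_univ,
          ← Nat.card_eq_fintype_card, D.card_AA]
      rw [this]
      simp
    have h5 : φ 1 = ((q - 1 : ℕ) : ℂ) * (charDegree θ : ℂ) := by
      have h8 := one_eq_charDegree (indFun_isCharacter (KK a U) hθc)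
      rw [← hφdef] at h8
      rw [h8, hdeg]
      push_cast
      rfl
    rw [h5] at hsum3
    have h6 : ((q - 1 : ℕ) : ℂ) * ((charDegree θ : ℂ) + φ z) = 0 := by
      linear_combination hsum3
    rcases mul_eq_zero.mp h6 with h7 | h7
    · exact absurd h7 hq1
    · linear_combination h7

end SzData

end Cfsg.Agent.Lib.SzChar1
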