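import Mathlib
import Cfsg.Agent.Lib.SzChar1

/-!
# Zassenhaus groups with non-abelian kernel of even order: the rows of the character table
-/

set_option autoImplicit false
set_option linter.unusedSectionVars false
set_option linter.unusedVariables false
set_option linter.style.haveILetI false

open Cfsg MulAction

namespace Cfsg.Agent.Lib.SzChar2

open Cfsg.Agent.Lib.CharBasic Cfsg.Agent.Lib.GenChar Cfsg.Agent.Lib.CharInd
  Cfsg.Agent.Lib.CharInduction Cfsg.Agent.Lib.CharKernel Cfsg.Agent.Lib.CharNormal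
  Cfsg.Agent.Lib.FrobIrr9 Cfsg.Agent.Lib.ZassCore Cfsg.Agent.Lib.ZassFrob9 Cfsg.Agent.Lib.ZassInv
  Cfsg.Agent.Lib.CharCodegP Cfsg.Agent.Lib.SzChar1
open scoped ComplexConjugate

variable {G Ω : Type*} [Group G] [Fintype G] [MulAction G Ω] [Fintype Ω] {a b : Ω}
  {U A : Subgroup G} {q n : ℕ} [Fintype (stabilizer G a)]

section MM

/-- The multiplicity of `φ ∈ Irr(G_a)` in the restriction of `χ ∈ Irr(G)`. -/
noncomputable def MM (a : Ω) (χ : IrrCharacter G) (φ : IrrCharacter (stabilizer G a)) : ℕ :=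
  Classical.choose (classInner_char_irr
    (indFun_isCharacter (stabilizer G a) (IsIrrCharacter.isCharacter φ.2)) χ.2)

theorem MM_spec (χ : IrrCharacter G) (φ : IrrCharacter (stabilizer G a)) :
    classInner (indFun (stabilizer G a) φ.1) χ.1 = (MM a χ φ : ℂ) :=
  Classical.choose_spec (classInner_char_irr
    (indFun_isCharacter (stabilizer G a) (IsIrrCharacter.isCharacter φ.2)) χ.2)

theorem MM_spec' (χ : IrrCharacter G) (φ : IrrCharacter (stabilizer G a)) :
    classInner φ.1 (fun b : stabilizer G a => χ.1 b) = (MM a χ φ : ℂ) := by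
  rw [← MM_spec, CharInd.frobenius _ _ (isClassFunction_of_isCharacter (IsIrrCharacter.isCharacter χ.2))]

/-- The restriction of an irreducible character to the point stabiliser. -/
theorem restrict_eq (χ : IrrCharacter G) (g : stabilizer G a) :
    χ.1 g = ∑ φ : IrrCharacter (stabilizer G a), (MM a χ φ : ℂ) * φ.1 g := by
  have hf : IsClassFunction (stabilizer G a) (fun b : stabilizer G a => χ.1 b) := by
    intro x y
    have := isClassFunction_of_isCharacter (IsIrrCharacter.isCharacter χ.2) x y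
    simpa using this
  have h := congrFun (classFunction_eq_sum hf) g
  simp only [Finset.sum_apply, Pi.smul_apply, smul_eq_mul] at h
  rw [h]
  refine Finset.sum_congr rfl fun φ _ => ?_
  rw [← classInner_conj_symm, MM_spec', Complex.conj_natCast]

/-- Parseval for the induced characters. -/
theorem sum_MM_mul (φ φ' : IrrCharacter (stabilizer G a)) :
    ∑ χ : IrrCharacter G, (MM a χ φ : ℂ) * (MM a χ φ' : ℂ) =
      classInner (indFun (stabilizer G a) φ.1) (indFun (stabilizer G a) φ'.1) := by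
  have h := classFunction_eq_sum (indFun_isClassFunction (stabilizer G a) φ.1)
  conv_rhs => rw [h]
  rw [classInner_sum_left]
  refine Finset.sum_congr rfl fun χ _ => ?_
  rw [classInner_smul_left, MM_spec, ← classInner_conj_symm, MM_spec, Complex.conj_natCast]

end MM

namespace SzData

variable (D : SzData G Ω a b U A q n)

include D

/-- `Ortho` over all rows. -/
theorem sum_MM_SS (φ φ' : IrrCharacter (stabilizer G a)) (hφ : φ.1 ∈ SS (KK a U))
    (hφ' : φ'.1 ∈ SS (KK a U)) {r r' : ℕ} (hr : charDegree φ.1 = (q - 1) * r)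
    (hr' : charDegree φ'.1 = (q - 1) * r') :
    ∑ χ : IrrCharacter G, (MM a χ φ : ℂ) * (MM a χ φ' : ℂ) =
      (if φ = φ' then 1 else 0) + ((q - 1 : ℕ) : ℂ) * (r : ℂ) * (r' : ℂ) := by
  classical
  rw [sum_MM_mul]
  haveI hN : (KK a U).Normal := KK_normal D.hK
  rw [inner_ind_ind D.hZ D.hK D.hab (fun n hn => vanish_of_mem (fro D.hZ D.hK) hφ hn)
    (isClassFunction_of_isCharacter (IsIrrCharacter.isCharacter φ'.2))]
  congr 1
  · by_cases h : φ = φ'
    · rw [if_pos h, h, classInner_irr_self φ'.2]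
    · rw [if_neg h, classInner_irr_ne φ.2 φ'.2 (fun h2 => h (Subtype.ext h2))]
  · rw [one_eq_charDegree (IsIrrCharacter.isCharacter φ.2),
      one_eq_charDegree (IsIrrCharacter.isCharacter φ'.2), hr, hr', D.hn, D.card_stab,
      Complex.conj_natCast]
    have hq1 : ((q - 1 : ℕ) : ℂ) ≠ 0 := by
      have := D.one_lt_q
      exact_mod_cast (by omega : q - 1 ≠ 0)
    have hn0 : (n : ℂ) ≠ 0 := Nat.cast_ne_zero.mpr D.n_pos.ne'
    push_cast
    field_simp

/-- The quotient by `U` is commutative. -/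
theorem comm_quot_B [hN : (KK a U).Normal] (x y : stabilizer G a ⧸ KK a U) : x * y = y * x := by
  classical
  have hb : ∀ g : stabilizer G a, ∃ k ∈ KK a U, ∃ h : stabilizer G a,
      (h : G) ∈ stabilizer G a ⊓ stabilizer G b ∧ g = k * h := by
    intro g
    obtain ⟨k, hk, h1, h2⟩ := D.hK.exists_decomp D.hab.symm g.2
    refine ⟨⟨k, D.hK.le k hk⟩, Subgroup.mem_subgroupOf.mpr hk, ⟨k⁻¹ * g, h1⟩, ⟨h1, h2⟩, ?_⟩
    apply Subtype.ext
    simp
  induction x using QuotientGroup.induction_on with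
  | H x =>
    induction y using QuotientGroup.induction_on with
    | H y =>
      obtain ⟨k, hk, h, hh, rfl⟩ := hb x
      obtain ⟨k', hk', h', hh', rfl⟩ := hb y
      have e1 : ∀ (k h : stabilizer G a), k ∈ KK a U →
          ((k * h : stabilizer G a) : stabilizer G a ⧸ KK a U) = (h : stabilizer G a ⧸ KK a U) := by
        intro k h hk
        rw [QuotientGroup.mk_mul, (QuotientGroup.eq_one_iff k).mpr hk, one_mul]
      rw [e1 k h hk, e1 k' h' hk', ← QuotientGroup.mk_mul, ← QuotientGroup.mk_mul]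
      congr 1
      apply Subtype.ext
      exact D.hcomm _ hh _ hh'

/-- The characters of the point stabiliser trivial on `U` are linear. -/
theorem exists_hom_of_not_mem {φ : IrrCharacter (stabilizer G a)} (hφ : φ.1 ∉ SS (KK a U)) :
    ∃ f : stabilizer G a →* ℂˣ, (∀ g, φ.1 g = f g) ∧ ∀ u : stabilizer G a, (u : G) ∈ U → f u = 1 := by
  classical
  haveI hN : (KK a U).Normal := KK_normal D.hK
  have hker : ∀ x ∈ KK a U, φ.1 x = φ.1 1 := by
    intro x hx
    by_contra hc
    exact hφ ⟨φ.2, x, hx, hc⟩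
  obtain ⟨φ', h1, h2⟩ := exists_quotient_irr (KK a U) φ.2 hker
  have h3 := irr_one_of_comm (comm_quot_B D) h1
  have h4 := h2 1
  rw [QuotientGroup.mk_one, h3] at h4
  obtain ⟨f, hf⟩ := exists_hom_of_degree_one (IsIrrCharacter.isCharacter φ.2) h4.symm
  refine ⟨f, hf, fun u hu => ?_⟩
  have h5 := hker u (Subgroup.mem_subgroupOf.mpr hu)
  rw [hf u, ← h4] at h5
  exact Units.ext h5

/-- The rows of the character table not vanishing on the characters trivial on `U`. -/
theorem row_cases (χ : IrrCharacter G) (φ : IrrCharacter (stabilizer G a))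
    (hφ : φ.1 ∉ SS (KK a U)) (hM : MM a χ φ ≠ 0) :
    χ.1 = (fun _ => 1) ∨ χ.1 = chi G Ω ∨
      (χ.1 1 = ((n + 1 : ℕ) : ℂ) ∧ ∀ u ∈ U, u ≠ 1 → χ.1 u = 1) := by
  classical
  obtain ⟨f, hf, hfU⟩ := exists_hom_of_not_mem D hφ
  have hφf : φ.1 = fun g => ((f g : ℂˣ) : ℂ) := funext hf
  have hMc : classInner (indFun (stabilizer G a) φ.1) χ.1 ≠ 0 := by
    rw [MM_spec]
    exact_mod_cast hM
  by_cases hf1 : ∃ u, f u ≠ 1
  · right; right
    have hnorm := Cfsg.Agent.Lib.ZassChar.norm_one D.hZ D.hI D.hK f hfU D.hab hf1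
    have hirr : IsIrrCharacter G (indFun (stabilizer G a) (fun y => ((f y : ℂˣ) : ℂ))) :=
      isIrrCharacter_of_norm_one (indFun_isCharacter _ (by
        rw [← hφf]; exact IsIrrCharacter.isCharacter φ.2)) hnorm
    rw [hφf] at hMc
    have heq : indFun (stabilizer G a) (fun y => ((f y : ℂˣ) : ℂ)) = χ.1 := by
      by_contra hne
      exact hMc (classInner_irr_ne hirr χ.2 hne)
    rw [← heq]
    constructor
    · rw [indFun_one]
      simp only [map_one, Units.val_one, mul_one, D.index_stab]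
    · intro u hu hu1
      exact Cfsg.Agent.Lib.ZassChar.value_kernel D.hK f hfU hu hu1
  · push Not at hf1
    have hφ1 : φ.1 = fun _ => (1 : ℂ) := by
      rw [hφf]
      funext g
      rw [hf1 g]
      simp
    rw [hφ1, ind_one_eq_pc D.hZ D.hab] at hMc
    by_cases h1 : χ.1 = fun _ => 1
    · exact Or.inl h1
    · right; left
      by_contra h2
      apply hMc
      have e : Cfsg.Agent.Lib.PermChar.pc G Ω = chi G Ω + (fun _ => 1) := by
        rw [chi]
        abel
      rw [e, classInner_add_left, classInner_irr_ne (chi_irr D.hZ D.hab) χ.2 (Ne.symm h2),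
        classInner_irr_ne isIrrCharacter_one χ.2 (Ne.symm h1), add_zero]

/-- The multiplicity in a character of the kind of the previous lemma. -/
theorem MM_of_values (χ : IrrCharacter G) (φ : IrrCharacter (stabilizer G a))
    (hφ : φ.1 ∈ SS (KK a U)) {d e : ℂ} (hd : χ.1 1 = d)
    (he : ∀ u ∈ U, u ≠ 1 → χ.1 u = e) :
    (MM a χ φ : ℂ) = (Nat.card (stabilizer G a) : ℂ)⁻¹ * (conj (d - e) * φ.1 1) := by
  classical
  haveI hN : (KK a U).Normal := KK_normal D.hK
  rw [← MM_spec']
  unfold classInner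
  congr 1
  have hterm : ∀ g : stabilizer G a, φ.1 g * conj (χ.1 g) =
      φ.1 g * conj e + (if g = 1 then conj (d - e) * φ.1 1 else 0) := by
    intro g
    by_cases h1 : g = 1
    · subst h1
      simp only [if_true, OneMemClass.coe_one, hd, map_sub]
      ring
    · rw [if_neg h1, add_zero]
      by_cases hg : g ∈ KK a U
      · rw [he _ (Subgroup.mem_subgroupOf.mp hg) (fun h => h1 (Subtype.ext h))]
      · rw [vanish_of_mem (fro D.hZ D.hK) hφ hg, zero_mul, zero_mul]
  rw [Finset.sum_congr rfl (fun g _ => hterm g), Finset.sum_add_distrib, Finset.sum_ite_eq']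
  simp only [Finset.mem_univ, if_true]
  have h0 : ∑ g : stabilizer G a, φ.1 g = 0 := by
    have hne : φ.1 ≠ fun _ => 1 := by
      obtain ⟨-, x, hx, hne⟩ := hφ
      intro h
      rw [h] at hne
      exact hne rfl
    have h2 := classInner_irr_ne φ.2 isIrrCharacter_one hne
    unfold classInner at h2
    simp only [map_one, mul_one] at h2
    have hne0 : (Nat.card (stabilizer G a) : ℂ)⁻¹ ≠ 0 :=
      inv_ne_zero (Nat.cast_ne_zero.mpr Nat.card_pos.ne')
    exact (mul_eq_zero.mp h2).resolve_left hne0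
  rw [← Finset.sum_mul, h0, zero_mul, zero_add]

/-- The value `r`. -/
theorem MM_eq_r (χ : IrrCharacter G) (φ : IrrCharacter (stabilizer G a))
    (hφ : φ.1 ∈ SS (KK a U)) {r : ℕ} (hr : charDegree φ.1 = (q - 1) * r) {e : ℝ}
    (hd : χ.1 1 = ((n : ℝ) + e : ℝ)) (he : ∀ u ∈ U, u ≠ 1 → χ.1 u = (e : ℝ)) :
    MM a χ φ = r := by
  have h := MM_of_values D χ φ hφ hd he
  rw [one_eq_charDegree (IsIrrCharacter.isCharacter φ.2), hr, D.card_stab] at h
  have hq1 : ((q - 1 : ℕ) : ℂ) ≠ 0 := by
    have := D.one_lt_q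
    exact_mod_cast (by omega : q - 1 ≠ 0)
  have hn0 : (n : ℂ) ≠ 0 := Nat.cast_ne_zero.mpr D.n_pos.ne'
  have h2 : (MM a χ φ : ℂ) = (r : ℂ) := by
    rw [h]
    have : conj (((((n : ℝ) + e : ℝ) : ℂ)) - ((e : ℝ) : ℂ)) = (n : ℂ) := by
      simp
    rw [this]
    push_cast
    field_simp
  exact_mod_cast h2

end SzData

end Cfsg.Agent.Lib.SzChar2
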