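import Mathlib
import Cfsg.Agent.Lib.SzChar2

/-!
# Zassenhaus groups with non-abelian kernel of even order: orthogonality relations
-/

set_option autoImplicit false
set_option linter.unusedSectionVars false
set_option linter.unusedVariables false
set_option linter.style.haveILetI false

open Cfsg MulAction

namespace Cfsg.Agent.Lib.SzChar3

open Cfsg.Agent.Lib.CharBasic Cfsg.Agent.Lib.GenChar Cfsg.Agent.Lib.CharInd
  Cfsg.Agent.Lib.CharInduction Cfsg.Agent.Lib.CharKernel Cfsg.Agent.Lib.CharNormal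
  Cfsg.Agent.Lib.FrobIrr9 Cfsg.Agent.Lib.ZassCore Cfsg.Agent.Lib.ZassFrob9 Cfsg.Agent.Lib.ZassInv
  Cfsg.Agent.Lib.CharCodegP Cfsg.Agent.Lib.SzChar1 Cfsg.Agent.Lib.SzChar2
  Cfsg.Agent.Lib.SzChar1.SzData Cfsg.Agent.Lib.SzChar2.SzData
open scoped ComplexConjugate

variable {G Ω : Type*} [Group G] [Fintype G] [MulAction G Ω] [Fintype Ω] {a b : Ω}
  {U A : Subgroup G} {q n : ℕ} [Fintype (stabilizer G a)]

open Classical in
/-- The rows without constituents trivial on `U`. -/
noncomputable def OO (a : Ω) (U : Subgroup G) [Fintype (stabilizer G a)] : Finset (IrrCharacter G) :=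
  Finset.univ.filter (fun χ => ∀ φ : IrrCharacter (stabilizer G a), φ.1 ∉ SS (KK a U) → MM a χ φ = 0)

theorem mem_OO {χ : IrrCharacter G} :
    χ ∈ OO a U ↔ ∀ φ : IrrCharacter (stabilizer G a), φ.1 ∉ SS (KK a U) → MM a χ φ = 0 := by
  simp [OO]

/-- The trivial character. -/
noncomputable def triv (G : Type*) [Group G] : IrrCharacter G := ⟨fun _ => 1, isIrrCharacter_one⟩

open Classical in
/-- The remaining rows. -/
noncomputable def EE (a : Ω) (U : Subgroup G) [Fintype (stabilizer G a)] : Finset (IrrCharacter G) :=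
  Finset.univ.filter (fun χ => χ ∉ OO a U ∧ χ.1 ≠ (fun _ => 1) ∧ χ.1 ≠ chi G Ω)

/-- The trivial character of the point stabiliser. -/
noncomputable def trivB (a : Ω) : IrrCharacter (stabilizer G a) := ⟨fun _ => 1, isIrrCharacter_one⟩

namespace SzData

variable (D : SzData G Ω a b U A q n)

include D

/-- The character `π - 1`. -/
noncomputable def chiI : IrrCharacter G := ⟨chi G Ω, chi_irr D.hZ D.hab⟩

theorem trivB_not_SS : (trivB a : IrrCharacter (stabilizer G a)).1 ∉ SS (KK a U) := by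
  rintro ⟨-, x, -, hx⟩
  exact hx rfl

theorem triv_not_OO : triv G ∉ OO a U := by
  intro h
  have h1 := (mem_OO.mp h) (trivB a) (trivB_not_SS D)
  have h2 := MM_spec' (a := a) (triv G) (trivB a)
  rw [h1] at h2
  have h3 : classInner (trivB a : IrrCharacter (stabilizer G a)).1
      (fun g : stabilizer G a => (triv G).1 g) = 1 := classInner_irr_self isIrrCharacter_one
  rw [h3] at h2
  simp at h2

theorem chi_not_OO : chiI D ∉ OO a U := by
  intro h
  have h1 := (mem_OO.mp h) (trivB a) (trivB_not_SS D)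
  have h2 := MM_spec (a := a) (chiI D) (trivB a)
  rw [h1] at h2
  have e : (trivB a : IrrCharacter (stabilizer G a)).1 = fun _ => 1 := rfl
  rw [e, ind_one_eq_pc D.hZ D.hab] at h2
  have e2 : Cfsg.Agent.Lib.PermChar.pc G Ω = chi G Ω + (fun _ => 1) := by
    rw [chi]
    abel
  have hirr := chi_irr (a := a) D.hZ D.hab
  have hne : (fun _ : G => (1 : ℂ)) ≠ chi G Ω := by
    intro hc
    have h3 := chi_kernel D.hZ D.hK D.hab (u := 1)
    have h4 := chi_one (G := G) (Ω := Ω)
    rw [← hc, D.card_Omega] at h4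
    have h5 := D.n_pos
    -- `1 = n`
    have h6 : ((n : ℕ) : ℂ) = 1 := by
      push_cast at h4
      linear_combination -h4
    have h7 : n = 1 := by exact_mod_cast h6
    have h8 := D.hq4
    have h9 := D.hK.card_add_one D.hab.symm
    -- `U` is trivial, contradiction with `|A| ≥ 4`
    have h10 : Nat.card A ≤ Nat.card U := Subgroup.card_le_of_le D.hAU
    rw [D.hq, D.hn] at h10
    omega
  rw [e2] at h2
  have h3 : classInner (chi G Ω + fun _ => (1 : ℂ)) (chiI D).1 = 1 := by
    rw [classInner_add_left]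
    show classInner (chi G Ω) (chi G Ω) + classInner (fun _ => (1 : ℂ)) (chi G Ω) = 1
    rw [classInner_irr_self hirr, classInner_irr_ne isIrrCharacter_one hirr hne, add_zero]
  rw [h3] at h2
  simp at h2

theorem triv_ne_chi : (triv G) ≠ chiI D := by
  intro h
  have h1 := congrArg Subtype.val h
  have h2 : (fun _ : G => (1 : ℂ)) 1 = chi G Ω 1 := congrFun h1 1
  rw [chi_one, D.card_Omega] at h2
  have h5 : n = 1 := by
    have h6 : ((n : ℕ) : ℂ) = 1 := by
      push_cast at h2
      linear_combination -h2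
    exact_mod_cast h6
  have h8 := D.hq4
  have h10 : Nat.card A ≤ Nat.card U := Subgroup.card_le_of_le D.hAU
  rw [D.hq, D.hn] at h10
  omega

/-- The partition of the rows. -/
theorem sum_rows {R : Type*} [AddCommMonoid R] (F : IrrCharacter G → R) :
    ∑ χ, F χ = ∑ χ ∈ OO a U, F χ + (F (triv G) + (F (chiI D) + ∑ χ ∈ EE a U, F χ)) := by
  classical
  have h1 : (Finset.univ : Finset (IrrCharacter G)) =
      OO a U ∪ (insert (triv G) (insert (chiI D) (EE a U))) := by
    ext χ
    simp only [Finset.mem_univ, Finset.mem_union, Finset.mem_insert, true_iff]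
    by_cases h : χ ∈ OO a U
    · exact Or.inl h
    · right
      by_cases h1 : χ.1 = fun _ => 1
      · exact Or.inl (Subtype.ext h1)
      · by_cases h2 : χ.1 = chi G Ω
        · exact Or.inr (Or.inl (Subtype.ext h2))
        · right; right
          simp [EE, h, h1, h2]
  have hd : Disjoint (OO a U) (insert (triv G) (insert (chiI D) (EE a U))) := by
    rw [Finset.disjoint_left]
    intro χ hχ hχ2
    rcases Finset.mem_insert.mp hχ2 with h | h
    · exact triv_not_OO D (h ▸ hχ)
    · rcases Finset.mem_insert.mp h with h | h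
      · exact chi_not_OO D (h ▸ hχ)
      · exact (Finset.mem_filter.mp h).2.1 hχ
  have h2 : triv G ∉ insert (chiI D) (EE a U) := by
    intro h
    rcases Finset.mem_insert.mp h with h | h
    · exact triv_ne_chi D h
    · exact (Finset.mem_filter.mp h).2.2.1 rfl
  have h3 : chiI D ∉ EE a U := fun h => (Finset.mem_filter.mp h).2.2.2 rfl
  rw [h1, Finset.sum_union hd, Finset.sum_insert h2, Finset.sum_insert h3]

/-- The values at the remaining rows. -/
theorem EE_values {χ : IrrCharacter G} (hχ : χ ∈ EE a U) :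
    χ.1 1 = ((n + 1 : ℕ) : ℂ) ∧ ∀ u ∈ U, u ≠ 1 → χ.1 u = 1 := by
  classical
  obtain ⟨-, h1, h2, h3⟩ := Finset.mem_filter.mp hχ
  rw [mem_OO] at h1
  push Not at h1
  obtain ⟨φ, hφ, hM⟩ := h1
  rcases row_cases D χ φ hφ hM with h | h | h
  · exact absurd h h2
  · exact absurd h h3
  · exact h

theorem chi_values : (chiI D).1 1 = (n : ℂ) ∧ ∀ u ∈ U, u ≠ 1 → (chiI D).1 u = 0 := by
  constructor
  · show chi G Ω 1 = _
    rw [chi_one, D.card_Omega]
    push_cast
    ring
  · intro u hu hu1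
    exact chi_kernel D.hZ D.hK D.hab hu hu1

/-- The columns in `SS` sum to zero over `U`. -/
theorem sum_KK_SS [Fintype (KK a U)] {φ : IrrCharacter (stabilizer G a)} (hφ : φ.1 ∈ SS (KK a U)) :
    ∑ k : KK a U, φ.1 k = 0 := by
  haveI hN : (KK a U).Normal := KK_normal D.hK
  obtain ⟨-, x, hx, hne⟩ := hφ
  exact sum_normal_eq_zero' φ.2 (KK a U) ⟨x, hx, hne⟩

/-- The sum over `U` of a row in `OO`. -/
theorem sum_KK_OO [Fintype (KK a U)] {χ : IrrCharacter G} (hχ : χ ∈ OO a U) :
    ∑ k : KK a U, χ.1 ((k : stabilizer G a) : G) = 0 := by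
  classical
  simp only [restrict_eq χ]
  rw [Finset.sum_comm]
  refine Finset.sum_eq_zero fun φ _ => ?_
  by_cases hφ : φ.1 ∈ SS (KK a U)
  · rw [← Finset.mul_sum, sum_KK_SS D hφ, mul_zero]
  · rw [(mem_OO.mp hχ) φ hφ]
    simp

/-- The sum over `U` of a character with two values. -/
theorem sum_KK_values [Fintype (KK a U)] (χ : G → ℂ) {d e : ℂ} (hd : χ 1 = d)
    (he : ∀ u ∈ U, u ≠ 1 → χ u = e) :
    ∑ k : KK a U, χ ((k : stabilizer G a) : G) = d + ((n : ℂ) - 1) * e := by
  classical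
  rw [← Finset.add_sum_erase _ _ (Finset.mem_univ (1 : KK a U))]
  have h1 : ∑ k ∈ Finset.univ.erase (1 : KK a U), χ ((k : stabilizer G a) : G) = ((n : ℂ) - 1) * e := by
    have h2 : ∀ k ∈ Finset.univ.erase (1 : KK a U), χ ((k : stabilizer G a) : G) = e := by
      intro k hk
      apply he _ (Subgroup.mem_subgroupOf.mp k.2)
      intro h
      apply Finset.ne_of_mem_erase hk
      apply Subtype.ext
      apply Subtype.ext
      exact h
    rw [Finset.sum_congr rfl h2]
    simp only [Finset.sum_const, nsmul_eq_mul]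
    congr 1
    rw [Finset.card_erase_of_mem (Finset.mem_univ _), Finset.card_univ,
      ← Nat.card_eq_fintype_card, D.card_KK]
    have := D.n_pos
    rw [Nat.cast_sub this]
    simp
  rw [h1]
  simp [hd]

/-- The number of remaining rows. -/
theorem card_EE : 2 * (EE a U).card + 2 = q := by
  classical
  haveI : Fintype (KK a U) := Fintype.ofFinite _
  have h1 : ∑ χ : IrrCharacter G, χ.1 1 * ∑ k : KK a U, χ.1 ((k : stabilizer G a) : G) =
      (Nat.card G : ℂ) := by
    simp only [Finset.mul_sum]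
    rw [Finset.sum_comm]
    simp only [sum_irr_deg_mul]
    rw [Finset.sum_eq_single (1 : KK a U)]
    · simp
    · intro k _ hk
      rw [if_neg]
      intro h
      apply hk
      apply Subtype.ext
      apply Subtype.ext
      exact h
    · intro h
      exact absurd (Finset.mem_univ _) h
  rw [sum_rows D] at h1
  have h2 : ∑ χ ∈ OO a U, χ.1 1 * ∑ k : KK a U, χ.1 ((k : stabilizer G a) : G) = 0 := by
    refine Finset.sum_eq_zero fun χ hχ => ?_
    rw [sum_KK_OO D hχ, mul_zero]
  have h3 : (triv G).1 1 * ∑ k : KK a U, (triv G).1 ((k : stabilizer G a) : G) = (n : ℂ) := by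
    have := sum_KK_values D (triv G).1 (d := 1) (e := 1) rfl (fun _ _ _ => rfl)
    rw [this]
    show (1 : ℂ) * _ = _
    ring
  have h4 : (chiI D).1 1 * ∑ k : KK a U, (chiI D).1 ((k : stabilizer G a) : G) = (n : ℂ) * n := by
    rw [sum_KK_values D (chiI D).1 (chi_values D).1 (chi_values D).2, (chi_values D).1]
    ring
  have h5 : ∑ χ ∈ EE a U, χ.1 1 * ∑ k : KK a U, χ.1 ((k : stabilizer G a) : G) =
      ((EE a U).card : ℂ) * (((n + 1 : ℕ) : ℂ) * (2 * n)) := by
    rw [Finset.sum_congr rfl (g := fun _ => ((n + 1 : ℕ) : ℂ) * (2 * n))]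
    · simp
    · intro χ hχ
      obtain ⟨h6, h7⟩ := EE_values D hχ
      rw [sum_KK_values D χ.1 h6 h7, h6]
      push_cast
      ring
  rw [h2, h3, h4, h5, D.card_G, zero_add] at h1
  have h6 : n + (n * n + (EE a U).card * ((n + 1) * (2 * n))) = (n + 1) * (n * (q - 1)) := by
    exact_mod_cast h1
  have hn := D.n_pos
  have hq := D.one_lt_q
  have h7 : (n + 1) * n * (1 + 2 * (EE a U).card) = (n + 1) * n * (q - 1) := by
    nlinarith
  have h8 := Nat.eq_of_mul_eq_mul_left (by positivity) h7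
  omega

/-- The orthogonality relation over the rows in `OO`. -/
theorem ortho (φ φ' : IrrCharacter (stabilizer G a)) (hφ : φ.1 ∈ SS (KK a U))
    (hφ' : φ'.1 ∈ SS (KK a U)) {r r' : ℕ} (hr : charDegree φ.1 = (q - 1) * r)
    (hr' : charDegree φ'.1 = (q - 1) * r') :
    ∑ χ ∈ OO a U, (MM a χ φ : ℤ) * (MM a χ φ' : ℤ) =
      (if φ = φ' then 1 else 0) + ((EE a U).card : ℤ) * r * r' := by
  classical
  have h1 := sum_MM_SS D φ φ' hφ hφ' hr hr'
  rw [sum_rows D] at h1
  have hE : ∀ ψ (hψ : ψ.1 ∈ SS (KK a U)) (s : ℕ) (hs : charDegree ψ.1 = (q - 1) * s),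
      ∀ χ ∈ EE a U, MM a χ ψ = s := by
    intro ψ hψ s hs χ hχ
    obtain ⟨h6, h7⟩ := EE_values D hχ
    refine MM_eq_r D χ ψ hψ hs (e := 1) ?_ ?_
    · rw [h6]; push_cast; rfl
    · intro u hu hu1
      rw [h7 u hu hu1]
      simp
  have hC : ∀ ψ (hψ : ψ.1 ∈ SS (KK a U)) (s : ℕ) (hs : charDegree ψ.1 = (q - 1) * s),
      MM a (chiI D) ψ = s := by
    intro ψ hψ s hs
    obtain ⟨h6, h7⟩ := chi_values D
    refine MM_eq_r D _ ψ hψ hs (e := 0) ?_ ?_
    · rw [h6]; simp
    · intro u hu hu1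
      rw [h7 u hu hu1]
      simp
  have hT : ∀ ψ (hψ : ψ.1 ∈ SS (KK a U)), MM a (triv G) ψ = 0 := by
    intro ψ hψ
    have h := MM_of_values D (triv G) ψ hψ (d := 1) (e := 1) rfl (fun _ _ _ => rfl)
    have h2 : (MM a (triv G) ψ : ℂ) = 0 := by
      rw [h]
      simp
    exact_mod_cast h2
  have hsE : ∑ χ ∈ EE a U, (MM a χ φ : ℂ) * (MM a χ φ' : ℂ) = ((EE a U).card : ℂ) * ((r : ℂ) * r') := by
    rw [Finset.sum_congr rfl (fun χ hχ => by rw [hE φ hφ r hr χ hχ, hE φ' hφ' r' hr' χ hχ])]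
    simp
  rw [hT φ hφ, hC φ hφ r hr, hC φ' hφ' r' hr', hsE] at h1
  simp only [Nat.cast_zero, zero_mul, zero_add] at h1
  have hcard := card_EE D
  have hq : q - 1 = 2 * (EE a U).card + 1 := by omega
  rw [hq] at h1
  have h2 : ((∑ χ ∈ OO a U, (MM a χ φ : ℤ) * (MM a χ φ' : ℤ) : ℤ) : ℂ) =
      (((if φ = φ' then 1 else 0) + ((EE a U).card : ℤ) * r * r' : ℤ) : ℂ) := by
    push_cast
    split_ifs at h1 ⊢ <;> push_cast at h1 <;> linear_combination h1
  exact_mod_cast h2

end SzData

end Cfsg.Agent.Lib.SzChar3
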