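import Mathlib
import Cfsg.Agent.Lib.SzChar3

/-!
# Zassenhaus groups with non-abelian kernel of even order: the numbers `a` and `m` of a row
-/

set_option autoImplicit false
set_option linter.unusedSectionVars false
set_option linter.unusedVariables false
set_option linter.style.haveILetI false

open Cfsg MulAction

namespace Cfsg.Agent.Lib.SzChar4

open Cfsg.Agent.Lib.CharBasic Cfsg.Agent.Lib.GenChar Cfsg.Agent.Lib.CharInd
  Cfsg.Agent.Lib.CharInduction Cfsg.Agent.Lib.CharKernel Cfsg.Agent.Lib.CharNormal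
  Cfsg.Agent.Lib.FrobIrr9 Cfsg.Agent.Lib.ZassCore Cfsg.Agent.Lib.ZassFrob9 Cfsg.Agent.Lib.ZassInv
  Cfsg.Agent.Lib.CharCodegP Cfsg.Agent.Lib.SzChar1 Cfsg.Agent.Lib.SzChar2 Cfsg.Agent.Lib.SzChar3
  Cfsg.Agent.Lib.SzChar1.SzData Cfsg.Agent.Lib.SzChar2.SzData Cfsg.Agent.Lib.SzChar3.SzData
open scoped ComplexConjugate

variable {G Ω : Type*} [Group G] [Fintype G] [MulAction G Ω] [Fintype Ω] {a b : Ω}
  {U A : Subgroup G} {q n : ℕ} [Fintype (stabilizer G a)]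

/-- The degree of a column, up to the factor `q - 1`. -/
noncomputable def rr (q : ℕ) (φ : IrrCharacter (stabilizer G a)) : ℕ := charDegree φ.1 / (q - 1)

open Classical in
/-- The columns. -/
noncomputable def SSf (a : Ω) (U : Subgroup G) [Fintype (stabilizer G a)] :
    Finset (IrrCharacter (stabilizer G a)) := Finset.univ.filter (fun φ => φ.1 ∈ SS (KK a U))

open Classical in
/-- The columns with `r = 1`. -/
noncomputable def S1 (a : Ω) (U : Subgroup G) (q : ℕ) [Fintype (stabilizer G a)] :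
    Finset (IrrCharacter (stabilizer G a)) := (SSf a U).filter (fun φ => rr q φ = 1)

open Classical in
/-- The columns with `r ≠ 1`. -/
noncomputable def S2 (a : Ω) (U : Subgroup G) (q : ℕ) [Fintype (stabilizer G a)] :
    Finset (IrrCharacter (stabilizer G a)) := (SSf a U).filter (fun φ => ¬ rr q φ = 1)

/-- The multiplicity of the linear columns. -/
noncomputable def aa (a : Ω) (U : Subgroup G) (q : ℕ) [Fintype (stabilizer G a)]
    (χ : IrrCharacter G) : ℕ := ∑ φ ∈ S1 a U q, MM a χ φ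

/-- The degree divided by `q - 1`. -/
noncomputable def mm (a : Ω) (U : Subgroup G) (q : ℕ) [Fintype (stabilizer G a)]
    (χ : IrrCharacter G) : ℕ := ∑ φ ∈ SSf a U, MM a χ φ * rr q φ

theorem mem_SSf {φ : IrrCharacter (stabilizer G a)} : φ ∈ SSf a U ↔ φ.1 ∈ SS (KK a U) := by
  simp [SSf]

theorem mem_S1 {φ : IrrCharacter (stabilizer G a)} : φ ∈ S1 a U q ↔ φ.1 ∈ SS (KK a U) ∧ rr q φ = 1 := by
  simp [S1, mem_SSf]

theorem mem_S2 {φ : IrrCharacter (stabilizer G a)} : φ ∈ S2 a U q ↔ φ.1 ∈ SS (KK a U) ∧ ¬ rr q φ = 1 := by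
  simp [S2, mem_SSf]

namespace SzData

variable (D : SzData G Ω a b U A q n)

include D

theorem q1_pos : 0 < q - 1 := by have := D.one_lt_q; omega

theorem q1_ne : ((q - 1 : ℕ) : ℂ) ≠ 0 := by
  have := q1_pos D
  exact_mod_cast this.ne'

/-- The dichotomy, for `rr`. -/
theorem col_rr {φ : IrrCharacter (stabilizer G a)} (hφ : φ.1 ∈ SS (KK a U)) :
    charDegree φ.1 = (q - 1) * rr q φ ∧ rr q φ ∣ n ∧ 0 < rr q φ ∧
      ((rr q φ = 1 ∧ ∀ z : stabilizer G a, (z : G) ∈ A → (z : G) ≠ 1 → φ.1 z = ((q - 1 : ℕ) : ℂ)) ∨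
       (rr q φ ≠ 1 ∧ ∀ z : stabilizer G a, (z : G) ∈ A → (z : G) ≠ 1 → φ.1 z = -(rr q φ : ℂ))) := by
  obtain ⟨r, h1, h2, h3, h4⟩ := col_dich D hφ
  have hr : rr q φ = r := by
    rw [rr, h1, Nat.mul_div_cancel_left _ (q1_pos D)]
  rw [hr]
  exact ⟨h1, h2, h3, h4⟩

/-- The values of a row. -/
theorem row_val {χ : IrrCharacter G} (hχ : χ ∈ OO a U) (g : stabilizer G a) :
    χ.1 g = ∑ φ ∈ SSf a U, (MM a χ φ : ℂ) * φ.1 g := by
  classical
  rw [restrict_eq χ g, SSf, Finset.sum_filter]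
  refine Finset.sum_congr rfl fun φ _ => ?_
  by_cases hφ : φ.1 ∈ SS (KK a U)
  · rw [if_pos hφ]
  · rw [if_neg hφ, (mem_OO.mp hχ) φ hφ]
    simp

/-- The degree of a row. -/
theorem row_one {χ : IrrCharacter G} (hχ : χ ∈ OO a U) :
    χ.1 1 = ((q - 1 : ℕ) : ℂ) * (mm a U q χ : ℂ) := by
  have h := row_val D hχ (1 : stabilizer G a)
  simp only [OneMemClass.coe_one] at h
  rw [h, mm, Nat.cast_sum, Finset.mul_sum]
  refine Finset.sum_congr rfl fun φ hφ => ?_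
  rw [one_eq_charDegree (IsIrrCharacter.isCharacter φ.2), (col_rr D (mem_SSf.mp hφ)).1]
  push_cast
  ring

/-- The split of the columns. -/
theorem sum_split {R : Type*} [AddCommMonoid R] (F : IrrCharacter (stabilizer G a) → R) :
    ∑ φ ∈ SSf a U, F φ = ∑ φ ∈ S1 a U q, F φ + ∑ φ ∈ S2 a U q, F φ := by
  classical
  rw [S1, S2, Finset.sum_filter_add_sum_filter_not]

/-- The split of `m`. -/
theorem mm_split (χ : IrrCharacter G) :
    mm a U q χ = aa a U q χ + ∑ φ ∈ S2 a U q, MM a χ φ * rr q φ := by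
  rw [mm, sum_split D, aa]
  congr 1
  refine Finset.sum_congr rfl fun φ hφ => ?_
  rw [(mem_S1.mp hφ).2, mul_one]

/-- The values of a row at the involutions. -/
theorem row_z {χ : IrrCharacter G} (hχ : χ ∈ OO a U) {z : stabilizer G a} (hz : (z : G) ∈ A)
    (hz1 : (z : G) ≠ 1) :
    χ.1 z = (q : ℂ) * (aa a U q χ : ℂ) - (mm a U q χ : ℂ) := by
  rw [row_val D hχ z, sum_split D]
  have h1 : ∑ φ ∈ S1 a U q, (MM a χ φ : ℂ) * φ.1 z = ((q - 1 : ℕ) : ℂ) * (aa a U q χ : ℂ) := by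
    rw [aa, Nat.cast_sum, Finset.mul_sum]
    refine Finset.sum_congr rfl fun φ hφ => ?_
    obtain ⟨h2, h3⟩ := mem_S1.mp hφ
    rcases (col_rr D h2).2.2.2 with ⟨-, h4⟩ | ⟨h4, -⟩
    · rw [h4 z hz hz1]
      ring
    · exact absurd h3 h4
  have h2 : ∑ φ ∈ S2 a U q, (MM a χ φ : ℂ) * φ.1 z =
      - ((∑ φ ∈ S2 a U q, MM a χ φ * rr q φ : ℕ) : ℂ) := by
    rw [Nat.cast_sum, ← Finset.sum_neg_distrib]
    refine Finset.sum_congr rfl fun φ hφ => ?_
    obtain ⟨h2, h3⟩ := mem_S2.mp hφ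
    rcases (col_rr D h2).2.2.2 with ⟨h4, -⟩ | ⟨-, h4⟩
    · exact absurd h4 h3
    · rw [h4 z hz hz1]
      push_cast
      ring
  rw [h1, h2, mm_split D χ]
  have hq := D.one_lt_q
  have hq1 : ((q - 1 : ℕ) : ℂ) = (q : ℂ) - 1 := by
    rw [Nat.cast_sub hq.le]
    simp
  rw [hq1]
  push_cast
  ring

/-- The sum of the squares of the column degrees. -/
theorem sum_rr_sq : (q - 1) * ∑ φ ∈ SSf a U, rr q φ ^ 2 + 1 = n := by
  classical
  haveI hN : (KK a U).Normal := KK_normal D.hK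
  have h1 := sum_sq_SS (H := KK a U)
  have hq := q1_pos D
  rw [D.card_stab, D.index_KK] at h1
  have h2 : ∑ χ : IrrCharacter (stabilizer G a), (if ∃ h ∈ KK a U, (χ : stabilizer G a → ℂ) h ≠
      (χ : stabilizer G a → ℂ) 1 then charDegree (χ : stabilizer G a → ℂ) ^ 2 else 0) =
      (q - 1) * ((q - 1) * ∑ φ ∈ SSf a U, rr q φ ^ 2) := by
    rw [SSf, Finset.sum_filter, Finset.mul_sum, Finset.mul_sum]
    refine Finset.sum_congr rfl fun φ _ => ?_
    by_cases hφ : φ.1 ∈ SS (KK a U)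
    · have h3 : ∃ h ∈ KK a U, (φ : stabilizer G a → ℂ) h ≠ (φ : stabilizer G a → ℂ) 1 := hφ.2
      rw [if_pos h3, if_pos hφ, (col_rr D hφ).1]
      ring
    · have h3 : ¬ ∃ h ∈ KK a U, (φ : stabilizer G a → ℂ) h ≠ (φ : stabilizer G a → ℂ) 1 :=
        fun h => hφ ⟨φ.2, h⟩
      rw [if_neg h3, if_neg hφ]
      simp
  rw [h2] at h1
  have h4 : (q - 1) * ((q - 1) * ∑ φ ∈ SSf a U, rr q φ ^ 2 + 1) = (q - 1) * n := by
    rw [mul_add, mul_one, h1]
    ring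
  exact Nat.eq_of_mul_eq_mul_left hq h4

/-- The elements of `A`. -/
theorem exists_z : ∃ z : stabilizer G a, (z : G) ∈ A ∧ (z : G) ≠ 1 := by
  have h4 := D.hq4
  have h1 : 1 < Nat.card A := by rw [D.hq]; omega
  haveI : Nontrivial A := Finite.one_lt_card_iff_nontrivial.mp h1
  obtain ⟨x, hx⟩ := exists_ne (1 : A)
  refine ⟨⟨x, D.hK.le _ (D.hAU x.2)⟩, x.2, fun h => hx (Subtype.ext h)⟩

/-- The number of columns with `r = 1`. -/
theorem sum_rr_eq_card : ∑ φ ∈ SSf a U, rr q φ ^ 2 = q * (S1 a U q).card + 1 := by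
  classical
  obtain ⟨z, hz, hz1⟩ := exists_z D
  haveI hN : (KK a U).Normal := KK_normal D.hK
  have hz1' : z ≠ 1 := fun h => hz1 (by rw [h]; rfl)
  have hzK : z ∈ KK a U := Subgroup.mem_subgroupOf.mpr (D.hAU hz)
  have h1 := sum_irr_deg_mul z
  rw [if_neg hz1', ← Finset.sum_filter_add_sum_filter_not Finset.univ
    (fun φ : IrrCharacter (stabilizer G a) => φ.1 ∈ SS (KK a U))] at h1
  have hnS : ∑ φ ∈ Finset.univ.filter (fun φ : IrrCharacter (stabilizer G a) => ¬ φ.1 ∈ SS (KK a U)),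
      φ.1 1 * φ.1 z = ((q - 1 : ℕ) : ℂ) := by
    have h2 := sum_ker_deg_sq (KK a U)
    have h3 : Nat.card (stabilizer G a) = Nat.card (KK a U) * (q - 1) := by
      rw [D.card_stab, D.card_KK]
    rw [h3] at h2
    have h4 := Nat.eq_of_mul_eq_mul_left Nat.card_pos h2
    rw [← h4]
    push_cast
    rw [Finset.sum_filter]
    refine Finset.sum_congr rfl fun φ _ => ?_
    by_cases hφ : φ.1 ∈ SS (KK a U)
    · have h5 : ¬ ∀ n ∈ KK a U, (φ : stabilizer G a → ℂ) n = (φ : stabilizer G a → ℂ) 1 := by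
        obtain ⟨-, x, hx, hne⟩ := hφ
        exact fun h => hne (h x hx)
      rw [if_neg (not_not.mpr hφ), if_neg h5]
    · have h5 : ∀ n ∈ KK a U, (φ : stabilizer G a → ℂ) n = (φ : stabilizer G a → ℂ) 1 := by
        intro x hx
        by_contra hc
        exact hφ ⟨φ.2, x, hx, hc⟩
      rw [if_pos hφ, if_pos h5, h5 z hzK, one_eq_charDegree (IsIrrCharacter.isCharacter φ.2)]
      ring
  have hS : ∑ φ ∈ Finset.univ.filter (fun φ : IrrCharacter (stabilizer G a) => φ.1 ∈ SS (KK a U)),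
      φ.1 1 * φ.1 z = ((q - 1 : ℕ) : ℂ) * (((q - 1 : ℕ) : ℂ) * ((S1 a U q).card : ℂ) -
        ((∑ φ ∈ S2 a U q, rr q φ ^ 2 : ℕ) : ℂ)) := by
    have e : Finset.univ.filter (fun φ : IrrCharacter (stabilizer G a) => φ.1 ∈ SS (KK a U)) = SSf a U := rfl
    rw [e, sum_split D]
    have h1 : ∑ φ ∈ S1 a U q, φ.1 1 * φ.1 z = ((q - 1 : ℕ) : ℂ) * (((q - 1 : ℕ) : ℂ) * ((S1 a U q).card : ℂ)) := by
      rw [Finset.sum_congr rfl (g := fun _ => ((q - 1 : ℕ) : ℂ) * ((q - 1 : ℕ) : ℂ))]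
      · simp
        ring
      · intro φ hφ
        obtain ⟨h2, h3⟩ := mem_S1.mp hφ
        obtain ⟨h5, -, -, h6⟩ := col_rr D h2
        rw [one_eq_charDegree (IsIrrCharacter.isCharacter φ.2), h5, h3]
        rcases h6 with ⟨-, h4⟩ | ⟨h4, -⟩
        · rw [h4 z hz hz1]
          simp
        · exact absurd h3 h4
    have h2 : ∑ φ ∈ S2 a U q, φ.1 1 * φ.1 z = - (((q - 1 : ℕ) : ℂ) * ((∑ φ ∈ S2 a U q, rr q φ ^ 2 : ℕ) : ℂ)) := by
      rw [Nat.cast_sum, Finset.mul_sum, ← Finset.sum_neg_distrib]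
      refine Finset.sum_congr rfl fun φ hφ => ?_
      obtain ⟨h2, h3⟩ := mem_S2.mp hφ
      obtain ⟨h5, -, -, h6⟩ := col_rr D h2
      rw [one_eq_charDegree (IsIrrCharacter.isCharacter φ.2), h5]
      rcases h6 with ⟨h4, -⟩ | ⟨-, h4⟩
      · exact absurd h4 h3
      · rw [h4 z hz hz1]
        push_cast
        ring
    rw [h1, h2]
    ring
  rw [hS, hnS] at h1
  have hq1 := q1_ne D
  have h3 : ((q - 1 : ℕ) : ℂ) * (((q - 1 : ℕ) : ℂ) * ((S1 a U q).card : ℂ) -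
      ((∑ φ ∈ S2 a U q, rr q φ ^ 2 : ℕ) : ℂ) + 1) = 0 := by
    linear_combination h1
  have h4 := (mul_eq_zero.mp h3).resolve_left hq1
  have h5 : ((q - 1) * (S1 a U q).card + 1 : ℕ) = ∑ φ ∈ S2 a U q, rr q φ ^ 2 := by
    have : (((q - 1) * (S1 a U q).card + 1 : ℕ) : ℂ) = ((∑ φ ∈ S2 a U q, rr q φ ^ 2 : ℕ) : ℂ) := by
      push_cast
      push_cast at h4
      linear_combination h4
    exact_mod_cast this
  rw [sum_split D, ← h5]
  have h6 : ∑ φ ∈ S1 a U q, rr q φ ^ 2 = (S1 a U q).card := by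
    rw [Finset.sum_congr rfl (g := fun _ => 1)]
    · simp
    · intro φ hφ
      rw [(mem_S1.mp hφ).2]
      simp
  rw [h6]
  have hq := D.one_lt_q
  obtain ⟨k, hk⟩ : ∃ k, q = k + 1 := ⟨q - 1, by omega⟩
  subst hk
  simp only [Nat.add_sub_cancel]
  ring

/-- The bilinear orthogonality relation. -/
theorem ortho_sum (S T : Finset (IrrCharacter (stabilizer G a))) (hS : S ⊆ SSf a U) (hT : T ⊆ SSf a U)
    (f g : IrrCharacter (stabilizer G a) → ℕ) :
    ∑ χ ∈ OO a U, (((∑ φ ∈ S, MM a χ φ * f φ : ℕ) : ℤ) * ((∑ φ ∈ T, MM a χ φ * g φ : ℕ) : ℤ)) =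
      ∑ φ ∈ S, ∑ φ' ∈ T, (f φ : ℤ) * g φ' * ((if φ = φ' then 1 else 0) +
        ((EE a U).card : ℤ) * rr q φ * rr q φ') := by
  classical
  have h1 : ∀ χ ∈ OO a U, (((∑ φ ∈ S, MM a χ φ * f φ : ℕ) : ℤ) * ((∑ φ ∈ T, MM a χ φ * g φ : ℕ) : ℤ)) =
      ∑ φ ∈ S, ∑ φ' ∈ T, (f φ : ℤ) * g φ' * ((MM a χ φ : ℤ) * (MM a χ φ' : ℤ)) := by
    intro χ _
    push_cast
    rw [Finset.sum_mul_sum]
    refine Finset.sum_congr rfl fun φ _ => Finset.sum_congr rfl fun φ' _ => ?_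
    ring
  rw [Finset.sum_congr rfl h1, Finset.sum_comm]
  refine Finset.sum_congr rfl fun φ hφ => ?_
  rw [Finset.sum_comm]
  refine Finset.sum_congr rfl fun φ' hφ' => ?_
  rw [← Finset.mul_sum]
  have hφ1 := mem_SSf.mp (hS hφ)
  have hφ2 := mem_SSf.mp (hT hφ')
  rw [ortho D φ φ' hφ1 hφ2 (col_rr D hφ1).1 (col_rr D hφ2).1]

end SzData

end Cfsg.Agent.Lib.SzChar4
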