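import Mathlib
import Cfsg.Agent.Lib.SzChar4
import Cfsg.Agent.Lib.SqRootChar

/-!
# Zassenhaus groups with non-abelian kernel of even order: Frobenius-Schur and integrality
-/

set_option autoImplicit false
set_option linter.unusedSectionVars false
set_option linter.unusedVariables false
set_option linter.style.haveILetI false

open Cfsg MulAction

namespace Cfsg.Agent.Lib.SzChar5

open Cfsg.Agent.Lib.CharBasic Cfsg.Agent.Lib.GenChar Cfsg.Agent.Lib.CharInd
  Cfsg.Agent.Lib.CharInduction Cfsg.Agent.Lib.CharKernel Cfsg.Agent.Lib.CharNormal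
  Cfsg.Agent.Lib.FrobIrr9 Cfsg.Agent.Lib.ZassCore Cfsg.Agent.Lib.ZassFrob9 Cfsg.Agent.Lib.ZassInv
  Cfsg.Agent.Lib.CharCodegP Cfsg.Agent.Lib.SzChar1 Cfsg.Agent.Lib.SzChar2 Cfsg.Agent.Lib.SzChar3
  Cfsg.Agent.Lib.SzChar4 Cfsg.Agent.Lib.SqRootChar Cfsg.Agent.Lib.FrobeniusSchur
  Cfsg.Agent.Lib.SzChar1.SzData Cfsg.Agent.Lib.SzChar2.SzData Cfsg.Agent.Lib.SzChar3.SzData
  Cfsg.Agent.Lib.SzChar4.SzData
open scoped ComplexConjugate

variable {G Ω : Type*} [Group G] [Fintype G] [MulAction G Ω] [Fintype Ω] {a b : Ω}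
  {U A : Subgroup G} {q n : ℕ} [Fintype (stabilizer G a)]

/-- The Frobenius-Schur indicator is at most one. -/
theorem exists_nu (χ : IrrCharacter G) : ∃ k : ℤ, k ≤ 1 ∧ classInner (rootFun G) χ.1 = k := by
  obtain ⟨m, ρ, hρ, hχ⟩ := χ.2
  rw [classInner_rootFun, ← hχ]
  have hfs := (frobeniusSchur ρ hρ).1
  have e : (Nat.card G : ℂ)⁻¹ * ∑ x : G, conj (ρ.character (x * x)) =
      conj ((Nat.card G : ℂ)⁻¹ * ∑ s : G, ρ.character (s * s)) := by
    simp [map_sum]
  rw [e]
  rcases hfs with h | h | h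
  · exact ⟨0, by norm_num, by rw [h]; simp⟩
  · exact ⟨1, by norm_num, by rw [h]; simp⟩
  · exact ⟨-1, by norm_num, by rw [h]; simp⟩

/-- A rational number which is an algebraic integer. -/
theorem int_dvd_of_isIntegral {c : ℤ} {d : ℕ} (hd : d ≠ 0) (h : IsIntegral ℤ ((c : ℂ) / (d : ℂ))) :
    (d : ℤ) ∣ c := by
  have h1 : (c : ℂ) / (d : ℂ) = algebraMap ℚ ℂ ((c : ℚ) / (d : ℚ)) := by
    simp
  rw [h1, isIntegral_algebraMap_iff (algebraMap ℚ ℂ).injective] at h
  obtain ⟨z, hz⟩ := IsIntegrallyClosed.isIntegral_iff.mp h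
  have hbQ : (d : ℚ) ≠ 0 := by exact_mod_cast hd
  have h2 : (c : ℚ) = (z : ℚ) * (d : ℚ) := by
    have : (z : ℚ) = (c : ℚ) / (d : ℚ) := by simpa using hz
    rw [this]
    field_simp
  have h3 : c = z * (d : ℤ) := by exact_mod_cast h2
  exact ⟨z, by rw [h3]; ring⟩

/-- Integrality of the central characters: the form used here. -/
theorem deg_dvd (χ : IrrCharacter G) (g : G) {c : ℤ} (hc : χ.1 g = c) :
    (charDegree χ.1 : ℤ) ∣ ((Subgroup.centralizer ({g} : Set G)).index : ℤ) * c := by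
  obtain ⟨m, ρ, hρ, hχ⟩ := id χ.2
  have h := Cfsg.Agent.Lib.CharIntegrality.isIntegral_index_mul_character_div ρ hρ g
  rw [hχ, hc] at h
  have hdeg : charDegree χ.1 = m := by
    rw [← hχ, charDegree, char_one_eq_rep]
    simp
  have hm : Module.finrank ℂ (Fin m → ℂ) = m := by simp
  rw [hm] at h
  rw [hdeg]
  have hm0 : m ≠ 0 := by
    have := charDegree_pos χ.2
    omega
  apply int_dvd_of_isIntegral hm0
  push_cast
  exact h

namespace SzData

variable (D : SzData G Ω a b U A q n)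

include D

/-- The centraliser of an element of `A`. -/
theorem centralizer_z {z : G} (hz : z ∈ A) (hz1 : z ≠ 1) : Subgroup.centralizer ({z} : Set G) = U := by
  apply le_antisymm
  · intro x hx
    rw [Subgroup.mem_centralizer_singleton_iff] at hx
    have hzU := D.hAU hz
    have h1 : z • (x • a) = x • a := by
      rw [← mul_smul, ← hx, mul_smul, D.hK.le z hzU]
    have h2 : x • a = a := D.hK.fixed_eq hzU hz1 h1
    have h3 := fro D.hZ D.hK (⟨z, D.hK.le z hzU⟩ : stabilizer G a)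
      (Subgroup.mem_subgroupOf.mpr hzU) (fun h => hz1 (congrArg Subtype.val h))
      (x := (⟨x, h2⟩ : stabilizer G a)) (by
        rw [Subgroup.mem_centralizer_singleton_iff]
        apply Subtype.ext
        exact hx)
    exact Subgroup.mem_subgroupOf.mp h3
  · intro x hx
    rw [Subgroup.mem_centralizer_singleton_iff]
    exact (D.hAc z hz x hx).symm

/-- The size of the class of the involutions. -/
theorem index_z {z : G} (hz : z ∈ A) (hz1 : z ≠ 1) :
    (Subgroup.centralizer ({z} : Set G)).index = (n + 1) * (q - 1) := by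
  rw [centralizer_z D hz hz1]
  have h1 := U.card_mul_index
  rw [D.card_G, D.hn] at h1
  have h2 := D.n_pos
  have h3 : n * U.index = n * ((n + 1) * (q - 1)) := by
    rw [h1]
    ring
  exact Nat.eq_of_mul_eq_mul_left h2 h3

/-- Lower bound for the number of involutions. -/
theorem rootCount_one {z : G} (hz : z ∈ A) (hz1 : z ≠ 1) :
    1 + (n + 1) * (q - 1) ≤ rootCount G 1 := by
  classical
  have h1 := Cfsg.Agent.Lib.CharIntegrality.card_isConj_eq_index z
  rw [index_z D hz hz1, Nat.card_eq_fintype_card, Fintype.card_subtype] at h1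
  unfold rootCount
  rw [Nat.card_eq_fintype_card, Fintype.card_subtype, ← h1]
  have hsub : insert 1 (Finset.univ.filter (fun x : G => IsConj z x)) ⊆
      Finset.univ.filter (fun x : G => x * x = 1) := by
    intro x hx
    simp only [Finset.mem_insert, Finset.mem_filter, Finset.mem_univ, true_and] at hx ⊢
    rcases hx with rfl | hx
    · simp
    · obtain ⟨c, hc⟩ := isConj_iff.mp hx
      rw [← hc]
      have := D.hAinv z hz
      calc c * z * c⁻¹ * (c * z * c⁻¹) = c * (z * z) * c⁻¹ := by group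
        _ = 1 := by rw [this]; group
  have hnot : (1 : G) ∉ Finset.univ.filter (fun x : G => IsConj z x) := by
    simp only [Finset.mem_filter, Finset.mem_univ, true_and]
    intro h
    exact hz1 (isConj_one_right.mp h.symm)
  have := Finset.card_le_card hsub
  rw [Finset.card_insert_of_notMem hnot] at this
  omega

/-- Lower bound for the number of square roots of the involutions. -/
theorem rootCount_z {z : G} (hz : z ∈ A) (hz1 : z ≠ 1) :
    n - q ≤ (q - 1) * rootCount G z := by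
  classical
  set X := Finset.univ.filter (fun x : G => x ∈ U ∧ x ∉ A) with hX
  set Y := Finset.univ.filter (fun x : G => x ∈ A ∧ x ≠ 1) with hY
  have hXc : X.card + q = n := by
    have h1 : (Finset.univ.filter (fun x : G => x ∈ U)).card = n := by
      rw [← D.hn, Nat.card_eq_fintype_card, Fintype.card_subtype]
    have h2 : (Finset.univ.filter (fun x : G => x ∈ A)).card = q := by
      rw [← D.hq, Nat.card_eq_fintype_card, Fintype.card_subtype]
    have h3 : Finset.univ.filter (fun x : G => x ∈ U) =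
        X ∪ Finset.univ.filter (fun x : G => x ∈ A) := by
      ext x
      simp only [hX, Finset.mem_filter, Finset.mem_univ, true_and, Finset.mem_union]
      constructor
      · intro h
        by_cases hA : x ∈ A
        · exact Or.inr hA
        · exact Or.inl ⟨h, hA⟩
      · rintro (h | h)
        · exact h.1
        · exact D.hAU h
    have h4 : Disjoint X (Finset.univ.filter (fun x : G => x ∈ A)) := by
      rw [Finset.disjoint_left]
      intro x hx hx2
      exact (Finset.mem_filter.mp hx).2.2 (Finset.mem_filter.mp hx2).2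
    rw [← h1, h3, Finset.card_union_of_disjoint h4, h2]
  have hYc : Y.card = q - 1 := by
    have h2 : (Finset.univ.filter (fun x : G => x ∈ A)).card = q := by
      rw [← D.hq, Nat.card_eq_fintype_card, Fintype.card_subtype]
    have h3 : Y = (Finset.univ.filter (fun x : G => x ∈ A)).erase 1 := by
      ext x
      simp only [hY, Finset.mem_filter, Finset.mem_univ, true_and, Finset.mem_erase]
      tauto
    rw [h3, Finset.card_erase_of_mem (by simp [A.one_mem]), h2]
  have hmaps : ∀ x ∈ X, x * x ∈ Y := by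
    intro x hx
    obtain ⟨-, hxU, hxA⟩ := Finset.mem_filter.mp hx
    simp only [hY, Finset.mem_filter, Finset.mem_univ, true_and]
    exact ⟨D.hsq x hxU, fun h => hxA (D.hinv x hxU h)⟩
  have h1 := Finset.card_eq_sum_card_fiberwise hmaps
  have h2 : ∀ y ∈ Y, (X.filter (fun x => x * x = y)).card ≤ rootCount G z := by
    intro y hy
    obtain ⟨-, hyA, hy1⟩ := Finset.mem_filter.mp hy
    obtain ⟨g, -, hg⟩ := D.htr z hz hz1 y hyA hy1
    rw [← rootCount_conj z g, hg]
    unfold rootCount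
    rw [Nat.card_eq_fintype_card, Fintype.card_subtype]
    apply Finset.card_le_card
    intro x hx
    simp only [Finset.mem_filter, Finset.mem_univ, true_and] at hx ⊢
    exact hx.2
  have h3 := Finset.sum_le_card_nsmul _ _ _ h2
  rw [← h1, hYc, smul_eq_mul] at h3
  omega

/-- The Frobenius-Schur bound. -/
theorem fs_bound : (n : ℤ) - q ≤ 2 * ((q : ℤ) - 1) * ∑ χ ∈ OO a U, (aa a U q χ : ℤ) := by
  classical
  obtain ⟨z, hz, hz1⟩ := exists_z D
  choose ν hν1 hν using exists_nu (G := G)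
  have hexp : ∀ g : G, (rootCount G g : ℂ) = ∑ χ : IrrCharacter G, (ν χ : ℂ) * χ.1 g := by
    intro g
    have h := congrFun (classFunction_eq_sum (rootFun_class (G := G))) g
    simp only [Finset.sum_apply, Pi.smul_apply, smul_eq_mul, hν] at h
    exact h
  have hq := D.one_lt_q
  have hq1 : ((q - 1 : ℕ) : ℂ) = (q : ℂ) - 1 := by
    rw [Nat.cast_sub hq.le]
    simp
  have h1 : ((rootCount G 1 : ℂ) + ((q : ℂ) - 1) * (rootCount G z : ℂ)) =
      ∑ χ : IrrCharacter G, (ν χ : ℂ) * (χ.1 1 + ((q : ℂ) - 1) * χ.1 z) := by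
    rw [hexp, hexp, Finset.mul_sum, ← Finset.sum_add_distrib]
    refine Finset.sum_congr rfl fun χ _ => ?_
    ring
  rw [sum_rows D] at h1
  have hO : ∑ χ ∈ OO a U, (ν χ : ℂ) * (χ.1 1 + ((q : ℂ) - 1) * χ.1 z) =
      ((q : ℂ) - 1) * q * ∑ χ ∈ OO a U, (ν χ : ℂ) * (aa a U q χ : ℂ) := by
    rw [Finset.mul_sum]
    refine Finset.sum_congr rfl fun χ hχ => ?_
    rw [row_one D hχ, row_z D hχ hz hz1, hq1]
    ring
  have hT : (ν (triv G) : ℂ) * ((triv G).1 1 + ((q : ℂ) - 1) * (triv G).1 z) = (ν (triv G) : ℂ) * q := by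
    show (ν (triv G) : ℂ) * (1 + ((q : ℂ) - 1) * 1) = _
    ring
  have hC : (ν (chiI D) : ℂ) * ((chiI D).1 1 + ((q : ℂ) - 1) * (chiI D).1 z) = (ν (chiI D) : ℂ) * n := by
    rw [(chi_values D).1, (chi_values D).2 _ (D.hAU hz) hz1]
    ring
  have hE : ∑ χ ∈ EE a U, (ν χ : ℂ) * (χ.1 1 + ((q : ℂ) - 1) * χ.1 z) =
      ∑ χ ∈ EE a U, (ν χ : ℂ) * ((n : ℂ) + q) := by
    refine Finset.sum_congr rfl fun χ hχ => ?_
    obtain ⟨h2, h3⟩ := EE_values D hχ
    rw [h2, h3 _ (D.hAU hz) hz1]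
    push_cast
    ring
  rw [hO, hT, hC, hE] at h1
  -- in the integers
  have h2 : ((rootCount G 1 : ℤ) + ((q : ℤ) - 1) * (rootCount G z : ℤ)) =
      ((q : ℤ) - 1) * q * ∑ χ ∈ OO a U, ν χ * (aa a U q χ : ℤ) +
        (ν (triv G) * q + (ν (chiI D) * n + ∑ χ ∈ EE a U, ν χ * ((n : ℤ) + q))) := by
    have : (((rootCount G 1 : ℤ) + ((q : ℤ) - 1) * (rootCount G z : ℤ) : ℤ) : ℂ) =
        ((((q : ℤ) - 1) * q * ∑ χ ∈ OO a U, ν χ * (aa a U q χ : ℤ) +
        (ν (triv G) * q + (ν (chiI D) * n + ∑ χ ∈ EE a U, ν χ * ((n : ℤ) + q))) : ℤ) : ℂ) := by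
      push_cast
      exact h1
    exact_mod_cast this
  have hz' : ((z : G)) ∈ A := hz
  have hr1 := rootCount_one D hz hz1
  have hr2 := rootCount_z D hz hz1
  have hcE := card_EE D
  have hn0 := D.n_pos
  have hqn : q ≤ n := by
    rw [← D.hq, ← D.hn]
    exact Subgroup.card_le_of_le D.hAU
  -- bounds
  have hb1 : ∑ χ ∈ OO a U, ν χ * (aa a U q χ : ℤ) ≤ ∑ χ ∈ OO a U, (aa a U q χ : ℤ) := by
    apply Finset.sum_le_sum
    intro χ _
    have := hν1 χ
    have h3 : (0 : ℤ) ≤ aa a U q χ := by positivity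
    nlinarith
  have hb2 : ν (triv G) * (q : ℤ) ≤ q := by
    have := hν1 (triv G)
    nlinarith
  have hb3 : ν (chiI D) * (n : ℤ) ≤ n := by
    have := hν1 (chiI D)
    nlinarith
  have hb4 : ∑ χ ∈ EE a U, ν χ * ((n : ℤ) + q) ≤ ((EE a U).card : ℤ) * ((n : ℤ) + q) := by
    have : ∀ χ ∈ EE a U, ν χ * ((n : ℤ) + q) ≤ (n : ℤ) + q := by
      intro χ _
      have := hν1 χ
      nlinarith
    have h5 := Finset.sum_le_card_nsmul _ _ _ this
    simpa using h5
  have hqq : (0 : ℤ) < (q : ℤ) - 1 := by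
    have : (1 : ℤ) < q := by exact_mod_cast hq
    linarith
  have hb5 := mul_le_mul_of_nonneg_left hb1 (show (0 : ℤ) ≤ ((q : ℤ) - 1) * q by
    have : (0 : ℤ) < q := by linarith
    positivity)
  have hr1' : (1 : ℤ) + ((n : ℤ) + 1) * ((q : ℤ) - 1) ≤ rootCount G 1 := by
    have : ((1 + (n + 1) * (q - 1) : ℕ) : ℤ) ≤ rootCount G 1 := by exact_mod_cast hr1
    rw [← show ((q - 1 : ℕ) : ℤ) = (q : ℤ) - 1 by
      rw [Nat.cast_sub hq.le]; simp]
    push_cast at this ⊢
    exact this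
  have hr2' : (n : ℤ) - q ≤ ((q : ℤ) - 1) * rootCount G z := by
    have h6 : ((n - q : ℕ) : ℤ) ≤ ((q - 1) * rootCount G z : ℕ) := by exact_mod_cast hr2
    rw [Nat.cast_sub hqn, Nat.cast_mul, Nat.cast_sub hq.le] at h6
    simpa using h6
  have hcE' : 2 * ((EE a U).card : ℤ) + 2 = q := by exact_mod_cast hcE
  -- conclusion
  have hq0 : (0 : ℤ) < q := by linarith
  have key : (q : ℤ) * ((n : ℤ) - q) ≤ (q : ℤ) * (2 * ((q : ℤ) - 1) * ∑ χ ∈ OO a U, (aa a U q χ : ℤ)) := by
    have h7 : ((q : ℤ) - 1) * q * ∑ χ ∈ OO a U, ν χ * (aa a U q χ : ℤ) ≤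
        ((q : ℤ) - 1) * q * ∑ χ ∈ OO a U, (aa a U q χ : ℤ) := hb5
    have hE2 : (q : ℤ) = 2 * ((EE a U).card : ℤ) + 2 := hcE'.symm
    nlinarith
  exact le_of_mul_le_mul_left key hq0

end SzData

end Cfsg.Agent.Lib.SzChar5
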