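import Mathlib
import Cfsg.Agent.Lib.SzChar5

/-!
# Zassenhaus groups with non-abelian kernel of even order: the main theorems
-/

set_option autoImplicit false
set_option linter.unusedSectionVars false
set_option linter.unusedVariables false
set_option linter.style.haveILetI false

open Cfsg MulAction

namespace Cfsg.Agent.Lib.SzChar6

open Cfsg.Agent.Lib.CharBasic Cfsg.Agent.Lib.GenChar Cfsg.Agent.Lib.CharInd
  Cfsg.Agent.Lib.CharInduction Cfsg.Agent.Lib.CharKernel Cfsg.Agent.Lib.CharNormal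
  Cfsg.Agent.Lib.FrobIrr9 Cfsg.Agent.Lib.ZassCore Cfsg.Agent.Lib.ZassFrob9 Cfsg.Agent.Lib.ZassInv
  Cfsg.Agent.Lib.CharCodegP Cfsg.Agent.Lib.SzChar1 Cfsg.Agent.Lib.SzChar2 Cfsg.Agent.Lib.SzChar3
  Cfsg.Agent.Lib.SzChar4 Cfsg.Agent.Lib.SzChar5 Cfsg.Agent.Lib.SqRootChar
  Cfsg.Agent.Lib.SzChar1.SzData Cfsg.Agent.Lib.SzChar2.SzData Cfsg.Agent.Lib.SzChar3.SzData
  Cfsg.Agent.Lib.SzChar4.SzData Cfsg.Agent.Lib.SzChar5.SzData
open scoped ComplexConjugate

variable {G Ω : Type*} [Group G] [Fintype G] [MulAction G Ω] [Fintype Ω] {a b : Ω}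
  {U A : Subgroup G} {q n : ℕ} [Fintype (stabilizer G a)]

namespace SzData

variable (D : SzData G Ω a b U A q n)

include D

theorem exists_pow_n : ∃ k, n = 2 ^ k := by
  haveI : Fact (Nat.Prime 2) := ⟨Nat.prime_two⟩
  obtain ⟨k, hk⟩ := IsPGroup.iff_card.mp D.h2n
  exact ⟨k, by rw [← D.hn, hk]⟩

theorem q_dvd_n : q ∣ n := by
  rw [← D.hq, ← D.hn]
  exact Subgroup.card_dvd_of_le D.hAU

theorem exists_pow_q : ∃ f, q = 2 ^ f := by
  obtain ⟨k, hk⟩ := exists_pow_n D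
  have h := q_dvd_n D
  rw [hk] at h
  obtain ⟨f, -, hf⟩ := (Nat.dvd_prime_pow Nat.prime_two).mp h
  exact ⟨f, hf⟩

theorem mm_pos {χ : IrrCharacter G} (hχ : χ ∈ OO a U) : 0 < mm a U q χ := by
  have h := row_one D hχ
  have h2 := isIrr_one_ne_zero χ.2
  rw [h] at h2
  by_contra hc
  have h3 : mm a U q χ = 0 := by omega
  rw [h3] at h2
  simp at h2

/-- Coprime to `q` when odd. -/
theorem dvd_of_dvd_mul_pow {m x k : ℕ} (hm : ¬ 2 ∣ m) (h : m ∣ x * 2 ^ k) : m ∣ x := by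
  have hc : Nat.Coprime m (2 ^ k) := Nat.Coprime.pow_right k
    ((Nat.coprime_comm.mp ((Nat.Prime.coprime_iff_not_dvd Nat.prime_two).mpr hm)))
  exact hc.dvd_of_dvd_mul_right h

/-- Parity of `m`. -/
theorem mm_parity (χ : IrrCharacter G) : (mm a U q χ) % 2 = (aa a U q χ) % 2 := by
  rw [mm_split D χ]
  have h : 2 ∣ ∑ φ ∈ S2 a U q, MM a χ φ * rr q φ := by
    apply Finset.dvd_sum
    intro φ hφ
    obtain ⟨h1, h2⟩ := mem_S2.mp hφ
    obtain ⟨-, h3, -, -⟩ := col_rr D h1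
    obtain ⟨k, hk⟩ := exists_pow_n D
    rw [hk] at h3
    obtain ⟨e, -, he⟩ := (Nat.dvd_prime_pow Nat.prime_two).mp h3
    have he0 : e ≠ 0 := by
      rintro rfl
      exact h2 (by simpa using he)
    apply Dvd.dvd.mul_left
    rw [he]
    exact dvd_pow_self 2 he0
  omega

/-- The value of the sums of the linear columns. -/
theorem sum_aa_sq : ∑ χ ∈ OO a U, ((aa a U q χ : ℤ)) ^ 2 =
    ((S1 a U q).card : ℤ) + ((EE a U).card : ℤ) * ((S1 a U q).card : ℤ) ^ 2 := by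
  classical
  have h := ortho_sum (q := q) D (S1 a U q) (S1 a U q) (Finset.filter_subset _ _) (Finset.filter_subset _ _)
    (fun _ => 1) (fun _ => 1)
  simp only [mul_one, Nat.cast_one, one_mul] at h
  have e : ∀ χ ∈ OO a U, (aa a U q χ : ℤ) ^ 2 = ((aa a U q χ : ℕ) : ℤ) * ((aa a U q χ : ℕ) : ℤ) :=
    fun χ _ => by ring
  rw [Finset.sum_congr rfl e]
  unfold aa
  rw [h, Finset.sum_congr rfl (g := fun φ => 1 + ((EE a U).card : ℤ) * ((S1 a U q).card : ℤ))]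
  · simp only [Finset.sum_const, nsmul_eq_mul]
    ring
  · intro φ hφ
    rw [Finset.sum_add_distrib]
    have h1 : ∑ x ∈ S1 a U q, (if φ = x then (1 : ℤ) else 0) = 1 := by
      simp [Finset.sum_ite_eq, hφ]
    rw [h1, Finset.sum_congr rfl (g := fun _ => ((EE a U).card : ℤ))]
    · simp [mul_comm]
    · intro x hx
      rw [(mem_S1.mp hφ).2, (mem_S1.mp hx).2]
      simp

/-- The product with the degrees. -/
theorem sum_col_mm {φ : IrrCharacter (stabilizer G a)} (hφ : φ ∈ SSf a U) :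
    ∑ χ ∈ OO a U, (MM a χ φ : ℤ) * (mm a U q χ : ℤ) =
      (rr q φ : ℤ) * (1 + ((EE a U).card : ℤ) * ∑ φ' ∈ SSf a U, (rr q φ' : ℤ) ^ 2) := by
  classical
  have h := ortho_sum (q := q) D {φ} (SSf a U) (Finset.singleton_subset_iff.mpr hφ) subset_rfl
    (fun _ => 1) (fun φ' => rr q φ')
  simp only [mul_one, Nat.cast_one, one_mul, Finset.sum_singleton] at h
  unfold mm
  rw [h]
  have h1 : ∑ x ∈ SSf a U, (rr q x : ℤ) * (if φ = x then 1 else 0) = rr q φ := by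
    simp [Finset.mul_sum, hφ, Finset.sum_ite_eq]
  have h2 : ∀ x ∈ SSf a U, (rr q x : ℤ) * ((if φ = x then 1 else 0) + ((EE a U).card : ℤ) * rr q φ * rr q x) =
      (rr q x : ℤ) * (if φ = x then 1 else 0) + (rr q φ : ℤ) * (((EE a U).card : ℤ) * (rr q x : ℤ) ^ 2) := by
    intro x _
    ring
  rw [Finset.sum_congr rfl h2, Finset.sum_add_distrib, h1, ← Finset.mul_sum, ← Finset.mul_sum]
  ring

theorem sum_aa_mm : ∑ χ ∈ OO a U, (aa a U q χ : ℤ) * (mm a U q χ : ℤ) =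
    ((S1 a U q).card : ℤ) * (1 + ((EE a U).card : ℤ) * ∑ φ' ∈ SSf a U, (rr q φ' : ℤ) ^ 2) := by
  classical
  unfold aa
  push_cast
  simp only [Finset.sum_mul]
  rw [Finset.sum_comm, Finset.sum_congr rfl (g := fun _ => 1 + ((EE a U).card : ℤ) * ∑ φ' ∈ SSf a U, (rr q φ' : ℤ) ^ 2)]
  · simp
  · intro φ hφ
    rw [sum_col_mm D ((Finset.mem_filter.mp hφ).1), (mem_S1.mp hφ).2]
    simp

theorem sum_mm_sq : ∑ χ ∈ OO a U, (mm a U q χ : ℤ) ^ 2 =
    (∑ φ' ∈ SSf a U, (rr q φ' : ℤ) ^ 2) * (1 + ((EE a U).card : ℤ) * ∑ φ' ∈ SSf a U, (rr q φ' : ℤ) ^ 2) := by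
  classical
  have e : ∀ χ ∈ OO a U, (mm a U q χ : ℤ) ^ 2 =
      ∑ φ ∈ SSf a U, (rr q φ : ℤ) * ((MM a χ φ : ℤ) * (mm a U q χ : ℤ)) := by
    intro χ _
    rw [sq]
    conv_lhs => rw [show ((mm a U q χ : ℕ) : ℤ) * (mm a U q χ : ℤ) =
      (∑ φ ∈ SSf a U, ((MM a χ φ : ℤ) * (rr q φ : ℤ))) * (mm a U q χ : ℤ) by
        unfold mm; push_cast; rfl]
    rw [Finset.sum_mul]
    refine Finset.sum_congr rfl fun φ _ => ?_
    ring
  rw [Finset.sum_congr rfl e, Finset.sum_comm]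
  simp only [← Finset.mul_sum]
  rw [Finset.sum_congr rfl (fun φ hφ => by rw [sum_col_mm D hφ])]
  rw [Finset.sum_mul]
  refine Finset.sum_congr rfl fun φ _ => ?_
  ring

/-- The key numerical relation between the number of linear columns and `n`. -/
theorem n_eq : (q - 1) * (q * (S1 a U q).card + 1) + 1 = n := by
  rw [← sum_rr_eq_card D]
  exact sum_rr_sq D

theorem sum_rr_cast : ∑ φ' ∈ SSf a U, (rr q φ' : ℤ) ^ 2 = (q : ℤ) * (S1 a U q).card + 1 := by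
  have := sum_rr_eq_card D
  have h2 : ((∑ φ ∈ SSf a U, rr q φ ^ 2 : ℕ) : ℤ) = ((q * (S1 a U q).card + 1 : ℕ) : ℤ) := by rw [this]
  push_cast at h2
  exact h2

/-- Integrality at the involutions. -/
theorem dvd_of_aa_one {χ : IrrCharacter G} (hχ : χ ∈ OO a U) (ha : aa a U q χ = 1) :
    mm a U q χ ∣ n + 1 := by
  obtain ⟨z, hz, hz1⟩ := exists_z D
  obtain ⟨f, hf⟩ := exists_pow_q D
  have h1 := row_z D hχ hz hz1
  rw [ha] at h1
  have h2 := deg_dvd χ (z : G) (c := (q : ℤ) - mm a U q χ) (by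
    rw [h1]
    push_cast
    ring)
  rw [index_z D hz hz1] at h2
  have hdeg : charDegree χ.1 = (q - 1) * mm a U q χ := by
    have h3 := row_one D hχ
    have h4 := one_eq_charDegree (IsIrrCharacter.isCharacter χ.2)
    rw [h3] at h4
    have : (((q - 1) * mm a U q χ : ℕ) : ℂ) = (charDegree χ.1 : ℂ) := by
      push_cast
      exact h4
    exact_mod_cast this.symm
  rw [hdeg] at h2
  have hq := q1_pos D
  have hq0 : ((q - 1 : ℕ) : ℤ) ≠ 0 := by exact_mod_cast hq.ne'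
  push_cast at h2
  have h3 : (mm a U q χ : ℤ) ∣ ((n : ℤ) + 1) * ((q : ℤ) - mm a U q χ) := by
    have e : ((n : ℤ) + 1) * ((q - 1 : ℕ) : ℤ) * ((q : ℤ) - mm a U q χ) =
        ((q - 1 : ℕ) : ℤ) * (((n : ℤ) + 1) * ((q : ℤ) - mm a U q χ)) := by ring
    rw [e] at h2
    exact (mul_dvd_mul_iff_left hq0).mp h2
  have h4 : (mm a U q χ : ℤ) ∣ ((n : ℤ) + 1) * (q : ℤ) := by
    have e : ((n : ℤ) + 1) * (q : ℤ) = ((n : ℤ) + 1) * ((q : ℤ) - mm a U q χ) +
        (mm a U q χ : ℤ) * ((n : ℤ) + 1) := by ring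
    rw [e]
    exact dvd_add h3 (dvd_mul_right _ _)
  have h5 : mm a U q χ ∣ (n + 1) * 2 ^ f := by
    rw [← hf]
    exact_mod_cast h4
  apply dvd_of_dvd_mul_pow D _ h5
  have h6 := mm_parity D χ
  rw [ha] at h6
  omega

/-- The case `|U| = q²`. -/
theorem two_case (hn : n = q ^ 2) : ∃ y : ℤ, y ^ 2 = 2 * (q : ℤ) := by
  classical
  have hq := D.one_lt_q
  have hq4 := D.hq4
  obtain ⟨k, hk⟩ : ∃ k, q = k + 1 := ⟨q - 1, by omega⟩
  have hs : (S1 a U q).card = 1 := by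
    have h1 := n_eq D
    rw [hn] at h1
    subst hk
    simp only [Nat.add_sub_cancel] at h1
    have h2 : (k + 1) * k * (S1 a U (k + 1)).card = (k + 1) * k * 1 := by nlinarith
    exact Nat.eq_of_mul_eq_mul_left (Nat.mul_pos (Nat.succ_pos k) (by omega)) h2
  have hκ := card_EE D
  have hκ' : 2 * ((EE a U).card : ℤ) + 2 = q := by exact_mod_cast hκ
  have hW := sum_rr_cast D
  rw [hs] at hW
  have h1 := sum_aa_sq D
  have h2 := sum_aa_mm D
  have h3 := sum_mm_sq D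
  rw [hs] at h1 h2
  rw [hW] at h2 h3
  have hFS := fs_bound D
  rw [hn] at hFS
  have hqZ : (4 : ℤ) ≤ q := by exact_mod_cast hq4
  have hev : Even (q : ℤ) := by exact_mod_cast D.hqev
  apply Cfsg.Agent.Lib.SzNum.q_two (OO a U) (fun χ => (aa a U q χ : ℤ)) (fun χ => (mm a U q χ : ℤ)) hev hqZ
  · intro χ _
    positivity
  · intro χ hχ
    exact_mod_cast mm_pos D hχ
  · rw [h1]
    push_cast
    linarith
  · rw [h2]
    push_cast
    have hq2 : (q : ℤ) = 2 * ((EE a U).card : ℤ) + 2 := hκ'.symm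
    rw [hq2]
    ring
  · rw [h3]
    have hq2 : (q : ℤ) = 2 * ((EE a U).card : ℤ) + 2 := hκ'.symm
    rw [hq2]
    ring
  · have h5 : ((q : ℤ) - 1) * (q : ℤ) ≤ ((q : ℤ) - 1) * (2 * ∑ χ ∈ OO a U, (aa a U q χ : ℤ)) := by
      push_cast at hFS
      nlinarith
    exact le_of_mul_le_mul_left h5 (by linarith)
  · intro χ hχ h1
    have h6 := dvd_of_aa_one D hχ (by exact_mod_cast h1)
    rw [hn] at h6
    exact_mod_cast h6

end SzData

end Cfsg.Agent.Lib.SzChar6
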