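import Mathlib
import Cfsg.Agent.Lib.SzChar6

/-!
# Zassenhaus groups with non-abelian kernel of even order: the order of the kernel
-/

set_option autoImplicit false
set_option linter.unusedSectionVars false
set_option linter.unusedVariables false
set_option linter.style.haveILetI false

open Cfsg MulAction

namespace Cfsg.Agent.Lib.SzChar7

open Cfsg.Agent.Lib.CharBasic Cfsg.Agent.Lib.GenChar Cfsg.Agent.Lib.CharInd
  Cfsg.Agent.Lib.CharInduction Cfsg.Agent.Lib.CharKernel Cfsg.Agent.Lib.CharNormal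
  Cfsg.Agent.Lib.FrobIrr9 Cfsg.Agent.Lib.ZassCore Cfsg.Agent.Lib.ZassFrob9 Cfsg.Agent.Lib.ZassInv
  Cfsg.Agent.Lib.CharCodegP Cfsg.Agent.Lib.SzChar1 Cfsg.Agent.Lib.SzChar2 Cfsg.Agent.Lib.SzChar3
  Cfsg.Agent.Lib.SzChar4 Cfsg.Agent.Lib.SzChar5 Cfsg.Agent.Lib.SzChar6 Cfsg.Agent.Lib.SqRootChar
  Cfsg.Agent.Lib.SzNum
  Cfsg.Agent.Lib.SzChar1.SzData Cfsg.Agent.Lib.SzChar2.SzData Cfsg.Agent.Lib.SzChar3.SzData
  Cfsg.Agent.Lib.SzChar4.SzData Cfsg.Agent.Lib.SzChar5.SzData Cfsg.Agent.Lib.SzChar6.SzData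
open scoped ComplexConjugate

variable {G Ω : Type*} [Group G] [Fintype G] [MulAction G Ω] [Fintype Ω] {a b : Ω}
  {U A : Subgroup G} {q n : ℕ} [Fintype (stabilizer G a)]

namespace SzData

variable (D : SzData G Ω a b U A q n)

include D

open Classical in
/-- The sum of the squares of the degrees of the characters not in `SS`. -/
theorem sum_notSS : ∑ φ : IrrCharacter (stabilizer G a),
    (if φ.1 ∈ SS (KK a U) then (0 : ℂ) else (charDegree φ.1 : ℂ) ^ 2) = ((q - 1 : ℕ) : ℂ) := by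
  classical
  haveI hN : (KK a U).Normal := KK_normal D.hK
  have h2 := sum_ker_deg_sq (KK a U)
  have h3 : Nat.card (stabilizer G a) = Nat.card (KK a U) * (q - 1) := by
    rw [D.card_stab, D.card_KK]
  rw [h3] at h2
  have h4 := Nat.eq_of_mul_eq_mul_left Nat.card_pos h2
  rw [← h4]
  push_cast
  refine Finset.sum_congr rfl fun φ _ => ?_
  by_cases hφ : φ.1 ∈ SS (KK a U)
  · have h5 : ¬ ∀ n ∈ KK a U, (φ : stabilizer G a → ℂ) n = (φ : stabilizer G a → ℂ) 1 := by
      obtain ⟨-, x, hx, hne⟩ := hφ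
      exact fun h => hne (h x hx)
    rw [if_pos hφ, if_neg h5]
  · have h5 : ∀ n ∈ KK a U, (φ : stabilizer G a → ℂ) n = (φ : stabilizer G a → ℂ) 1 := by
      intro x hx
      by_contra hc
      exact hφ ⟨φ.2, x, hx, hc⟩
    rw [if_neg hφ, if_pos h5]

/-- The sum of the linear columns off `A`. -/
theorem sum_S1_u {u : stabilizer G a} (hu : (u : G) ∈ U) (huA : (u : G) ∉ A) :
    ∑ φ ∈ S1 a U q, φ.1 u = -1 := by
  classical
  have hA'n : (A.subgroupOf (stabilizer G a)).Normal := by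
    constructor
    intro x hx g
    rw [Subgroup.mem_subgroupOf] at hx ⊢
    simpa using D.hAn _ g.2 _ hx
  haveI := hA'n
  have h1 := sum_ker_deg_mul (A.subgroupOf (stabilizer G a)) u
  have huA' : u ∉ A.subgroupOf (stabilizer G a) := fun h => huA (Subgroup.mem_subgroupOf.mp h)
  rw [if_neg huA'] at h1
  have hc0 : (Nat.card (A.subgroupOf (stabilizer G a)) : ℂ) ≠ 0 :=
    Nat.cast_ne_zero.mpr Nat.card_pos.ne'
  have h2 := (mul_eq_zero.mp h1).resolve_left hc0
  obtain ⟨z, hz, hz1⟩ := exists_z D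
  have huKK : u ∈ KK a U := Subgroup.mem_subgroupOf.mpr hu
  have hterm : ∀ φ : IrrCharacter (stabilizer G a),
      (if ∀ x ∈ A.subgroupOf (stabilizer G a), φ.1 x = φ.1 1 then φ.1 1 * φ.1 u else 0) =
        (if φ.1 ∈ SS (KK a U) then (0 : ℂ) else (charDegree φ.1 : ℂ) ^ 2) +
          (if φ ∈ S1 a U q then ((q - 1 : ℕ) : ℂ) * φ.1 u else 0) := by
    intro φ
    by_cases hφ : φ.1 ∈ SS (KK a U)
    · rw [if_pos hφ, zero_add]
      obtain ⟨h5, -, h6, h7⟩ := col_rr D hφ
      rcases h7 with ⟨h8, h9⟩ | ⟨h8, h9⟩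
      · have hS : φ ∈ S1 a U q := mem_S1.mpr ⟨hφ, h8⟩
        have h10 : φ.1 1 = ((q - 1 : ℕ) : ℂ) := by
          rw [one_eq_charDegree (IsIrrCharacter.isCharacter φ.2), h5, h8]
          simp
        have h11 : ∀ x ∈ A.subgroupOf (stabilizer G a), φ.1 x = φ.1 1 := by
          intro x hx
          by_cases hx1 : x = 1
          · rw [hx1]
          · rw [h9 x (Subgroup.mem_subgroupOf.mp hx) (fun h => hx1 (Subtype.ext h)), h10]
        rw [if_pos h11, if_pos hS, h10]
      · have hS : φ ∉ S1 a U q := fun h => h8 (mem_S1.mp h).2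
        have h10 : φ.1 1 = ((q - 1 : ℕ) : ℂ) * (rr q φ : ℂ) := by
          rw [one_eq_charDegree (IsIrrCharacter.isCharacter φ.2), h5]
          push_cast
          rfl
        have h11 : ¬ ∀ x ∈ A.subgroupOf (stabilizer G a), φ.1 x = φ.1 1 := by
          intro h
          have h12 := h z (Subgroup.mem_subgroupOf.mpr hz)
          rw [h9 z hz hz1, h10] at h12
          have h13 : ((q : ℂ)) * (rr q φ : ℂ) = 0 := by
            have hq := D.one_lt_q
            have hq1 : ((q - 1 : ℕ) : ℂ) = (q : ℂ) - 1 := by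
              rw [Nat.cast_sub hq.le]
              simp
            rw [hq1] at h12
            linear_combination -h12
          have hq0 : (q : ℂ) ≠ 0 := by
            have := D.one_lt_q
            exact_mod_cast (by omega : q ≠ 0)
          have hr0 : (rr q φ : ℂ) ≠ 0 := by exact_mod_cast h6.ne'
          exact (mul_ne_zero hq0 hr0) h13
        rw [if_neg h11, if_neg hS]
    · have hS : φ ∉ S1 a U q := fun h => hφ (mem_S1.mp h).1
      have h5 : ∀ x ∈ KK a U, φ.1 x = φ.1 1 := by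
        intro x hx
        by_contra hc
        exact hφ ⟨φ.2, x, hx, hc⟩
      have h11 : ∀ x ∈ A.subgroupOf (stabilizer G a), φ.1 x = φ.1 1 := fun x hx =>
        h5 x (Subgroup.mem_subgroupOf.mpr (D.hAU (Subgroup.mem_subgroupOf.mp hx)))
      rw [if_pos h11, if_neg hφ, if_neg hS, add_zero, h5 u huKK,
        one_eq_charDegree (IsIrrCharacter.isCharacter φ.2)]
      ring
  rw [Finset.sum_congr rfl (fun φ _ => hterm φ), Finset.sum_add_distrib, sum_notSS D,
    Finset.sum_ite_mem, Finset.univ_inter, ← Finset.mul_sum] at h2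
  have h3 : ((q - 1 : ℕ) : ℂ) * (1 + ∑ φ ∈ S1 a U q, φ.1 u) = 0 := by
    linear_combination h2
  have h4 := (mul_eq_zero.mp h3).resolve_left (q1_ne D)
  linear_combination h4

/-- A column of degree `(q - 1) q` vanishes off `A`. -/
theorem vanish_of_large {φ : IrrCharacter (stabilizer G a)} (hφ : φ.1 ∈ SS (KK a U)) (hr : rr q φ = q)
    (hr1 : q ≠ 1) (hn : n = q ^ 3) {x : stabilizer G a} (hx : (x : G) ∉ A) : φ.1 x = 0 := by
  classical
  obtain ⟨h5, -, h6, h7⟩ := col_rr D hφ
  have hφz : ∀ z : stabilizer G a, (z : G) ∈ A → (z : G) ≠ 1 → φ.1 z = -(q : ℂ) := by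
    rcases h7 with ⟨h8, -⟩ | ⟨-, h9⟩
    · exfalso
      rw [h8] at hr
      exact hr1 hr.symm
    · intro z hz hz1
      rw [h9 z hz hz1, hr]
  have hφ1 : φ.1 1 = ((q - 1 : ℕ) : ℂ) * (q : ℂ) := by
    rw [one_eq_charDegree (IsIrrCharacter.isCharacter φ.2), h5, hr]
    push_cast
    rfl
  have h1 := classInner_irr_self φ.2
  unfold classInner at h1
  have hcard : (Nat.card (stabilizer G a) : ℂ) ≠ 0 := Nat.cast_ne_zero.mpr Nat.card_pos.ne'
  have h2 : ∑ g : stabilizer G a, φ.1 g * conj (φ.1 g) = (Nat.card (stabilizer G a) : ℂ) := by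
    field_simp at h1
    linear_combination h1
  set T := Finset.univ.filter (fun g : stabilizer G a => (g : G) ∈ A) with hT
  have hTc : T.card = q := by
    rw [← D.hq]
    rw [Nat.card_congr (Subgroup.subgroupOfEquivOfLe (fun y hy => (show y ∈ stabilizer G a from D.hK.le y (D.hAU hy)))).toEquiv.symm,
      Nat.card_eq_fintype_card, Fintype.card_subtype]
    rfl
  have h3 : ∑ g ∈ T, φ.1 g * conj (φ.1 g) = (Nat.card (stabilizer G a) : ℂ) := by
    have h1T : (1 : stabilizer G a) ∈ T := by simp [hT, A.one_mem]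
    rw [← Finset.add_sum_erase _ _ h1T]
    have h4 : ∑ g ∈ T.erase 1, φ.1 g * conj (φ.1 g) = ((q - 1 : ℕ) : ℂ) * ((q : ℂ) * q) := by
      rw [Finset.sum_congr rfl (g := fun _ => (q : ℂ) * q)]
      · simp only [Finset.sum_const, nsmul_eq_mul]
        rw [Finset.card_erase_of_mem h1T, hTc]
      · intro g hg
        obtain ⟨h8, h9⟩ := Finset.mem_erase.mp hg
        rw [hφz g (Finset.mem_filter.mp h9).2 (fun h => h8 (Subtype.ext h))]
        simp
    rw [h4, hφ1, D.card_stab, hn]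
    have hq := D.one_lt_q
    have hq1 : ((q - 1 : ℕ) : ℂ) = (q : ℂ) - 1 := by
      rw [Nat.cast_sub hq.le]
      simp
    simp only [Complex.conj_natCast, map_mul]
    push_cast
    rw [hq1]
    ring
  have h8 : ∑ g ∈ Tᶜ, φ.1 g * conj (φ.1 g) = 0 := by
    have := Finset.sum_add_sum_compl T (fun g => φ.1 g * conj (φ.1 g))
    rw [h2, h3] at this
    linear_combination this
  have h9 : ∑ g ∈ Tᶜ, Complex.normSq (φ.1 g) = 0 := by
    have h10 : ((∑ g ∈ Tᶜ, Complex.normSq (φ.1 g) : ℝ) : ℂ) = 0 := by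
      rw [← h8]
      push_cast
      refine Finset.sum_congr rfl fun g _ => ?_
      rw [Complex.mul_conj]
    exact_mod_cast h10
  have hmem : x ∈ Tᶜ := by
    simp [hT, hx]
  have h10 := (Finset.sum_eq_zero_iff_of_nonneg (fun g _ => Complex.normSq_nonneg _)).mp h9 x hmem
  exact Complex.normSq_eq_zero.mp h10

/-- The index of the centraliser of an element of `U` off `A`. -/
theorem index_u {u : G} (hu : u ∈ U) (huA : u ∉ A) :
    ∃ t, t ∣ n ∧ (Subgroup.centralizer ({u} : Set G)).index = (n + 1) * (q - 1) * t := by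
  have hz1 : u * u ≠ 1 := fun h => huA (D.hinv u hu h)
  have hz := D.hsq u hu
  have hle : Subgroup.centralizer ({u} : Set G) ≤ U := by
    rw [← centralizer_z D hz hz1]
    intro x hx
    rw [Subgroup.mem_centralizer_singleton_iff] at hx ⊢
    calc x * (u * u) = (x * u) * u := by group
      _ = (u * x) * u := by rw [hx]
      _ = u * (x * u) := by group
      _ = u * (u * x) := by rw [hx]
      _ = u * u * x := by group
  have hd : Nat.card (Subgroup.centralizer ({u} : Set G)) ∣ n := by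
    rw [← D.hn]
    exact Subgroup.card_dvd_of_le hle
  obtain ⟨t, ht⟩ := hd
  refine ⟨t, ⟨_, by rw [ht, mul_comm]⟩, ?_⟩
  have h1 := (Subgroup.centralizer ({u} : Set G)).card_mul_index
  rw [D.card_G] at h1
  have hc : 0 < Nat.card (Subgroup.centralizer ({u} : Set G)) := Nat.card_pos
  apply Nat.eq_of_mul_eq_mul_left hc
  rw [h1, ht]
  ring

end SzData

end Cfsg.Agent.Lib.SzChar7
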