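import Mathlib
import Cfsg.Agent.Lib.SzChar7

/-!
# Zassenhaus groups with non-abelian kernel of even order: the kernel does not have order `q³`
-/

set_option autoImplicit false
set_option linter.unusedSectionVars false
set_option linter.unusedVariables false
set_option linter.style.haveILetI false

open Cfsg MulAction

namespace Cfsg.Agent.Lib.SzChar8

open Cfsg.Agent.Lib.CharBasic Cfsg.Agent.Lib.GenChar Cfsg.Agent.Lib.CharInd
  Cfsg.Agent.Lib.CharInduction Cfsg.Agent.Lib.CharKernel Cfsg.Agent.Lib.CharNormal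
  Cfsg.Agent.Lib.FrobIrr9 Cfsg.Agent.Lib.ZassCore Cfsg.Agent.Lib.ZassFrob9 Cfsg.Agent.Lib.ZassInv
  Cfsg.Agent.Lib.CharCodegP Cfsg.Agent.Lib.SzChar1 Cfsg.Agent.Lib.SzChar2 Cfsg.Agent.Lib.SzChar3
  Cfsg.Agent.Lib.SzChar4 Cfsg.Agent.Lib.SzChar5 Cfsg.Agent.Lib.SzChar6 Cfsg.Agent.Lib.SzChar7
  Cfsg.Agent.Lib.SqRootChar Cfsg.Agent.Lib.SzNum
  Cfsg.Agent.Lib.SzChar1.SzData Cfsg.Agent.Lib.SzChar2.SzData Cfsg.Agent.Lib.SzChar3.SzData
  Cfsg.Agent.Lib.SzChar4.SzData Cfsg.Agent.Lib.SzChar5.SzData Cfsg.Agent.Lib.SzChar6.SzData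
  Cfsg.Agent.Lib.SzChar7.SzData
open scoped ComplexConjugate

variable {G Ω : Type*} [Group G] [Fintype G] [MulAction G Ω] [Fintype Ω] {a b : Ω}
  {U A : Subgroup G} {q n : ℕ} [Fintype (stabilizer G a)]

namespace SzData

variable (D : SzData G Ω a b U A q n)

include D

/-- An irreducible character of a simple group with a non-trivial element in the kernel is trivial. -/
theorem triv_of_ker [IsSimpleGroup G] (χ : IrrCharacter G) {z : G} (hz : z ≠ 1)
    (hχ : χ.1 z = χ.1 1) : χ = triv G := by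
  have hc := IsIrrCharacter.isCharacter χ.2
  have hmem : z ∈ charKer hc := hχ
  have hne : charKer hc ≠ ⊥ := by
    intro h
    rw [h, Subgroup.mem_bot] at hmem
    exact hz hmem
  have htop := (IsSimpleGroup.eq_bot_or_eq_top_of_normal (charKer hc) (charKer_normal hc)).resolve_left hne
  have hall : ∀ g, χ.1 g = χ.1 1 := by
    intro g
    have : g ∈ charKer hc := by rw [htop]; trivial
    exact this
  by_contra hn
  have h1 : χ.1 ≠ fun _ => 1 := fun h => hn (Subtype.ext h)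
  have h2 := classInner_irr_ne χ.2 isIrrCharacter_one h1
  unfold classInner at h2
  simp only [map_one, mul_one, hall, Finset.sum_const, Finset.card_univ, nsmul_eq_mul] at h2
  have h3 : (Nat.card G : ℂ)⁻¹ ≠ 0 := inv_ne_zero (Nat.cast_ne_zero.mpr Nat.card_pos.ne')
  have h4 := (mul_eq_zero.mp h2).resolve_left h3
  have h5 : ((Fintype.card G : ℕ) : ℂ) ≠ 0 := Nat.cast_ne_zero.mpr Fintype.card_ne_zero
  exact isIrr_one_ne_zero χ.2 ((mul_eq_zero.mp h4).resolve_left h5)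

set_option maxHeartbeats 2000000 in
/-- **The kernel does not have order `q³`.** -/
theorem three_case [IsSimpleGroup G] (hn : n = q ^ 3) : False := by
  classical
  have hq := D.one_lt_q
  have hq4 := D.hq4
  have hqZ4 : (4 : ℤ) ≤ q := by exact_mod_cast hq4
  obtain ⟨f, hf⟩ := exists_pow_q D
  obtain ⟨z, hz, hz1⟩ := exists_z D
  -- the number of linear columns
  have hs : (S1 a U q).card = q + 1 := by
    have h1 := n_eq D
    rw [hn] at h1
    obtain ⟨k, hk⟩ : ∃ k, q = k + 1 := ⟨q - 1, by omega⟩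
    subst hk
    simp only [Nat.add_sub_cancel] at h1
    have h2 : (k + 1) * k * (S1 a U (k + 1)).card = (k + 1) * k * (k + 1 + 1) := by nlinarith
    exact Nat.eq_of_mul_eq_mul_left (Nat.mul_pos (Nat.succ_pos k) (by omega)) h2
  set κ : ℤ := ((EE a U).card : ℤ) with hκdef
  have hκ0 : 0 ≤ κ := by positivity
  have hκq : 2 * κ + 2 = q := by
    have := card_EE D
    rw [hκdef]
    exact_mod_cast this
  have hW := sum_rr_cast D
  rw [hs] at hW
  -- the columns
  let σ := {φ // φ ∈ S1 a U q}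
  have hcardσ : Fintype.card σ = q + 1 := by
    rw [Fintype.card_coe, hs]
  have hcardσZ : (Fintype.card σ : ℤ) = 2 * κ + 3 := by
    rw [hcardσ]
    push_cast
    linarith
  let v : σ → IrrCharacter G → ℤ := fun i χ => (MM a χ i.1 : ℤ)
  let w : IrrCharacter G → ℤ := fun χ => (mm a U q χ : ℤ)
  have hw : ∀ χ ∈ OO a U, 0 < w χ := fun χ hχ => by
    show (0 : ℤ) < (mm a U q χ : ℤ)
    exact_mod_cast mm_pos D hχ
  have hv0 : ∀ i, ∀ χ ∈ OO a U, 0 ≤ v i χ := fun i χ _ => by positivity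
  have hrS1 : ∀ i : σ, rr q i.1 = 1 := fun i => (mem_S1.mp i.2).2
  have hSS1 : ∀ i : σ, i.1.1 ∈ SS (KK a U) := fun i => (mem_S1.mp i.2).1
  have hdeg : ∀ i j, ∑ χ ∈ OO a U, w χ * v i χ = ∑ χ ∈ OO a U, w χ * v j χ := by
    intro i j
    have h1 := sum_col_mm D (mem_SSf.mpr (hSS1 i))
    have h2 := sum_col_mm D (mem_SSf.mpr (hSS1 j))
    rw [hrS1] at h1
    rw [hrS1] at h2
    have e : ∀ i : σ, ∑ χ ∈ OO a U, w χ * v i χ = ∑ χ ∈ OO a U, (MM a χ i.1 : ℤ) * (mm a U q χ : ℤ) := by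
      intro i
      exact Finset.sum_congr rfl fun χ _ => mul_comm _ _
    rw [e, e, h1, h2]
  have horth : ∀ i j, ∑ χ ∈ OO a U, v i χ * v j χ = κ + if i = j then 1 else 0 := by
    intro i j
    have h1 := ortho D i.1 j.1 (hSS1 i) (hSS1 j) (col_rr D (hSS1 i)).1 (col_rr D (hSS1 j)).1
    rw [hrS1, hrS1] at h1
    have e : (i.1 = j.1) ↔ i = j := ⟨fun h => Subtype.ext h, fun h => by rw [h]⟩
    simp only [e] at h1
    simp only [v]
    rw [h1]
    push_cast
    rw [← hκdef]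
    ring
  have hFS : (2 * κ + 2) * (Fintype.card σ : ℤ) ≤ 2 * ∑ χ ∈ OO a U, ∑ i, v i χ := by
    have h1 := fs_bound D
    rw [hn] at h1
    have e : ∀ χ, ∑ i, v i χ = (aa a U q χ : ℤ) := by
      intro χ
      have h2 := Finset.sum_coe_sort (S1 a U q) (fun φ => (MM a χ φ : ℤ))
      simp only [aa]
      push_cast
      rw [← h2]
    simp only [e]
    rw [hκq, hcardσ]
    push_cast at h1 ⊢
    have hqq : (0 : ℤ) < (q : ℤ) - 1 := by linarith
    have h3 : ((q : ℤ) - 1) * ((q : ℤ) * ((q : ℤ) + 1)) ≤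
        ((q : ℤ) - 1) * (2 * ∑ χ ∈ OO a U, (aa a U q χ : ℤ)) := by
      nlinarith
    exact le_of_mul_le_mul_left h3 hqq
  obtain ⟨γ, p, hpO, hinj, hv, h01, hγ0, hsumγ⟩ :=
    coh_struct (OO a U) v w κ hκ0 hcardσZ hw hv0 hdeg horth hFS
  have hne : Nonempty σ := by
    rw [← Fintype.card_pos_iff, hcardσ]
    omega
  obtain ⟨i₀⟩ := hne
  -- the values of `a`
  have haa : ∀ χ ∈ OO a U, (aa a U q χ : ℤ) =
      (q + 1 : ℕ) * γ χ + ∑ i : σ, (if χ = p i then 1 else 0) := by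
    intro χ hχ
    have h2 := Finset.sum_coe_sort (S1 a U q) (fun φ => (MM a χ φ : ℤ))
    simp only [aa]
    push_cast
    rw [← h2]
    have h3 : ∀ i : σ, (MM a χ i.1 : ℤ) = γ χ + if χ = p i then 1 else 0 := fun i => hv i χ hχ
    rw [Finset.sum_congr rfl (fun i _ => h3 i), Finset.sum_add_distrib]
    simp only [Finset.sum_const, Finset.card_univ, hcardσ, nsmul_eq_mul]
    push_cast
    ring
  -- the exceptional row
  set χe := p i₀ with hχe
  have hχeO : χe ∈ OO a U := hpO i₀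
  have haa1 : aa a U q χe = 1 := by
    have h1 := haa χe hχeO
    rw [hγ0 i₀, mul_zero, zero_add] at h1
    have h2 : ∑ i : σ, (if χe = p i then (1 : ℤ) else 0) = 1 := by
      rw [Finset.sum_eq_single i₀]
      · rw [if_pos hχe]
      · intro i _ hi
        rw [if_neg]
        intro h
        exact hi (hinj h).symm
      · intro h
        exact absurd (Finset.mem_univ _) h
    rw [h2] at h1
    exact_mod_cast h1
  have hmm1 : mm a U q χe ≠ 1 := by
    intro h
    have h1 := row_z D hχeO hz hz1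
    have h2 := row_one D hχeO
    rw [haa1, h] at h1
    rw [h] at h2
    have hq1 : ((q - 1 : ℕ) : ℂ) = (q : ℂ) - 1 := by
      rw [Nat.cast_sub hq.le]
      simp
    have h3 : χe.1 (z : G) = χe.1 1 := by
      rw [h1, h2, hq1]
      push_cast
      ring
    exact triv_not_OO D ((triv_of_ker D χe hz1 h3) ▸ hχeO)
  -- a non-linear column
  have hsplit := mm_split D χe
  rw [haa1] at hsplit
  have hSne : ∑ φ ∈ S2 a U q, MM a χe φ * rr q φ ≠ 0 := by
    intro h
    rw [h] at hsplit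
    exact hmm1 hsplit
  obtain ⟨φ₀, hφ₀, hφ₀ne⟩ := Finset.exists_ne_zero_of_sum_ne_zero hSne
  obtain ⟨hφ₀S, hφ₀r⟩ := mem_S2.mp hφ₀
  have hM0 : MM a χe φ₀ ≠ 0 := fun h => hφ₀ne (by rw [h, zero_mul])
  set r := rr q φ₀ with hr
  obtain ⟨hr1, hr2, hr3, -⟩ := col_rr D hφ₀S
  let β : IrrCharacter G → ℤ := fun χ => (MM a χ φ₀ : ℤ)
  have hβ1 : ∀ i, ∑ χ ∈ OO a U, v i χ * β χ = κ * r := by
    intro i
    have h1 := ortho D i.1 φ₀ (hSS1 i) hφ₀S (col_rr D (hSS1 i)).1 hr1
    have hne : i.1 ≠ φ₀ := by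
      intro h
      apply hφ₀r
      have h5 := hrS1 i
      rw [h] at h5
      exact h5
    rw [if_neg hne, hrS1] at h1
    simp only [v, β]
    rw [h1]
    push_cast
    rw [← hκdef]
    ring
  have hβ2 : ∑ χ ∈ OO a U, β χ * β χ = 1 + κ * r * r := by
    have h1 := ortho D φ₀ φ₀ hφ₀S hφ₀S hr1 hr1
    rw [if_pos rfl] at h1
    simp only [β]
    exact h1
  obtain ⟨hb1, hb2, hb3⟩ := col_bound (OO a U) v κ (r : ℤ) γ β p hpO hinj hv h01 hγ0 hsumγ hβ1 hβ2 i₀
  set G₁ := (OO a U).filter (fun χ => γ χ = 1) with hG₁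
  have hs₀ : (1 : ℤ) ≤ β χe := by
    have : 1 ≤ MM a χe φ₀ := Nat.one_le_iff_ne_zero.mpr hM0
    show (1 : ℤ) ≤ (MM a χe φ₀ : ℤ)
    exact_mod_cast this
  have hsq := abs_sum_le_sum_sq G₁ (fun χ => β χ - (r : ℤ))
  rw [hb2, neg_neg] at hsq
  have hineq := col_ineq (s := (Fintype.card σ : ℤ)) (r := (r : ℤ)) (s₀ := β χe)
    (N := ∑ χ ∈ G₁, (β χ - (r : ℤ)) ^ 2) (by rw [hcardσ]; positivity) hsq hb3 hs₀
  rw [hcardσ] at hineq
  -- the bound `r ≤ q`
  have hS2sum : ∑ φ ∈ S2 a U q, rr q φ ^ 2 = q ^ 2 := by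
    have h1 := sum_rr_eq_card D
    rw [hs, sum_split D] at h1
    have h6 : ∑ φ ∈ S1 a U q, rr q φ ^ 2 = q + 1 := by
      rw [Finset.sum_congr rfl (g := fun _ => 1)]
      · simp [hs]
      · intro φ hφ
        rw [(mem_S1.mp hφ).2]
        simp
    rw [h6] at h1
    nlinarith
  have hrq : r ≤ q := by
    have h1 : r ^ 2 ≤ ∑ φ ∈ S2 a U q, rr q φ ^ 2 :=
      Finset.single_le_sum (f := fun φ => rr q φ ^ 2) (fun _ _ => Nat.zero_le _) hφ₀
    rw [hS2sum] at h1
    exact (Nat.pow_le_pow_iff_left (by norm_num)).mp h1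
  have hrqZ : (r : ℤ) ≤ q := by exact_mod_cast hrq
  have hs₀1 : β χe = 1 := by
    by_contra hc
    have h2 : (2 : ℤ) ≤ β χe := by omega
    push_cast at hineq
    have h3 : ((q : ℤ) + 1) * 2 ≤ ((q : ℤ) + 1) * β χe :=
      mul_le_mul_of_nonneg_left h2 (by positivity)
    linarith
  rw [hs₀1] at hineq hb2 hb3
  -- `r = q`
  have hr_eq : r = q := by
    apply le_antisymm hrq
    obtain ⟨k, hk⟩ := exists_pow_n D
    rw [hk] at hr2
    obtain ⟨e, -, he⟩ := (Nat.dvd_prime_pow Nat.prime_two).mp hr2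
    have h1 : q + 1 ≤ 2 * r := by
      push_cast at hineq
      have : ((q : ℤ) + 1) ≤ 2 * r := by linarith
      exact_mod_cast this
    have he' : r = 2 ^ e := he
    rw [hf, he'] at h1 ⊢
    by_contra hc
    push Not at hc
    have h2 : e < f := (Nat.pow_lt_pow_iff_right (by norm_num)).mp hc
    have h3 : 2 ^ (e + 1) ≤ 2 ^ f := Nat.pow_le_pow_right (by norm_num) h2
    rw [pow_succ] at h3
    omega
  -- the non-linear column is unique
  have huniq : ∀ φ ∈ S2 a U q, φ = φ₀ := by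
    intro φ hφ
    by_contra hne
    have h1 := Finset.add_sum_erase (S2 a U q) (fun φ => rr q φ ^ 2) hφ₀
    have h2 : rr q φ ^ 2 ≤ ∑ x ∈ (S2 a U q).erase φ₀, rr q x ^ 2 :=
      Finset.single_le_sum (f := fun φ => rr q φ ^ 2) (fun _ _ => Nat.zero_le _)
        (Finset.mem_erase.mpr ⟨hne, hφ⟩)
    have h3 : 0 < rr q φ := (col_rr D (mem_S2.mp hφ).1).2.2.1
    rw [hS2sum, ← hr, hr_eq] at h1
    have h4 : 0 < rr q φ ^ 2 := by positivity
    omega
  have hS2 : S2 a U q = {φ₀} := by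
    ext φ
    simp only [Finset.mem_singleton]
    exact ⟨huniq φ, fun h => h ▸ hφ₀⟩
  -- an element off `A`
  obtain ⟨u, hu, huA⟩ : ∃ u : stabilizer G a, (u : G) ∈ U ∧ (u : G) ∉ A := by
    by_contra hc
    push Not at hc
    have hle : U ≤ A := fun x hx => hc ⟨x, D.hK.le x hx⟩ hx
    have h1 : Nat.card U ≤ Nat.card A := Subgroup.card_le_of_le hle
    rw [D.hn, D.hq, hn] at h1
    nlinarith [Nat.pow_le_pow_left hq.le 2]
  have hvan : φ₀.1 u = 0 := vanish_of_large D hφ₀S (by rw [← hr]; exact hr_eq) (by omega) hn huA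
  -- the rows with `γ = 1`
  have hG₁row : ∀ χ ∈ G₁, (q ^ 2 + q + 1 + q * (β χ - q) : ℤ) ∣ (q : ℤ) ^ 3 + 1 := by
    intro χ hχ
    obtain ⟨hχO, hχγ⟩ := Finset.mem_filter.mp hχ
    have hnp : ∀ i : σ, χ ≠ p i := by
      intro i h
      have := hγ0 i
      rw [← h, hχγ] at this
      omega
    have hvχ : ∀ i : σ, MM a χ i.1 = 1 := by
      intro i
      have h1 := hv i χ hχO
      rw [if_neg (hnp i), hχγ] at h1
      simp only [v] at h1
      exact_mod_cast h1
    have haχ : aa a U q χ = q + 1 := by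
      rw [aa, Finset.sum_congr rfl (g := fun _ => 1)]
      · simp [hs]
      · intro φ hφ
        exact hvχ ⟨φ, hφ⟩
    have hmχ : mm a U q χ = q + 1 + MM a χ φ₀ * q := by
      rw [mm_split D χ, haχ, hS2, Finset.sum_singleton, ← hr, hr_eq]
    have hvalu : χ.1 u = -1 := by
      rw [row_val D hχO u, sum_split D]
      have h1 : ∑ φ ∈ S2 a U q, (MM a χ φ : ℂ) * φ.1 u = 0 := by
        rw [hS2, Finset.sum_singleton, hvan, mul_zero]
      have h2 : ∑ φ ∈ S1 a U q, (MM a χ φ : ℂ) * φ.1 u = -1 := by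
        rw [← sum_S1_u D hu huA]
        refine Finset.sum_congr rfl fun φ hφ => ?_
        rw [hvχ ⟨φ, hφ⟩]
        simp
      rw [h1, h2, add_zero]
    have hd := deg_dvd χ (u : G) (c := -1) (by rw [hvalu]; simp)
    obtain ⟨t, ht, hidx⟩ := index_u D hu huA
    rw [hidx] at hd
    have hdeg : charDegree χ.1 = (q - 1) * mm a U q χ := by
      have h3 := row_one D hχO
      have h4 := one_eq_charDegree (IsIrrCharacter.isCharacter χ.2)
      rw [h3] at h4
      have : (((q - 1) * mm a U q χ : ℕ) : ℂ) = (charDegree χ.1 : ℂ) := by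
        push_cast
        exact h4
      exact_mod_cast this.symm
    rw [hdeg] at hd
    have hd2 : (q - 1) * mm a U q χ ∣ (q - 1) * ((n + 1) * t) := by
      have h5 : (((q - 1) * mm a U q χ : ℕ) : ℤ) ∣ (((q - 1) * ((n + 1) * t) : ℕ) : ℤ) := by
        have h6 := (dvd_neg (a := (((q - 1) * mm a U q χ : ℕ) : ℤ))).mp (by
          have e : -(((n + 1) * (q - 1) * t : ℕ) : ℤ) = (((n + 1) * (q - 1) * t : ℕ) : ℤ) * (-1) := by ring
          rw [e]
          exact hd)
        have e2 : (q - 1) * ((n + 1) * t) = (n + 1) * (q - 1) * t := by ring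
        rw [e2]
        exact h6
      exact_mod_cast h5
    have hd3 := Nat.dvd_of_mul_dvd_mul_left (q1_pos D) hd2
    obtain ⟨k, hk⟩ := exists_pow_n D
    rw [hk] at ht
    obtain ⟨e, -, he⟩ := (Nat.dvd_prime_pow Nat.prime_two).mp ht
    rw [he] at hd3
    have hodd : ¬ 2 ∣ mm a U q χ := by
      have h6 := mm_parity D χ
      rw [haχ] at h6
      obtain ⟨c, hc⟩ := D.hqev
      omega
    have hd4 := dvd_of_dvd_mul_pow D hodd hd3
    rw [hn] at hd4
    have hd5 : ((mm a U q χ : ℕ) : ℤ) ∣ ((q ^ 3 + 1 : ℕ) : ℤ) := by exact_mod_cast hd4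
    rw [hmχ] at hd5
    push_cast at hd5
    have e : (q : ℤ) ^ 2 + q + 1 + q * (β χ - q) = (q : ℤ) + 1 + (MM a χ φ₀ : ℤ) * q := by
      simp only [β]
      ring
    rw [e]
    exact hd5
  have hG₁card : (G₁.card : ℤ) = κ := by
    have h1 : ∑ χ ∈ OO a U, γ χ = ∑ χ ∈ G₁, (1 : ℤ) := by
      rw [hG₁, Finset.sum_filter]
      refine Finset.sum_congr rfl fun χ hχ => ?_
      rcases h01 χ hχ with h | h
      · simp [h]
      · simp [h]
    rw [hsumγ] at h1
    simpa using h1.symm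
  apply final_three hqZ4 hκq G₁ (fun χ => β χ - (q : ℤ)) hG₁card ?_ ?_ hG₁row
  · rw [← hr_eq]
    exact hb2
  · rw [hr_eq, hcardσ] at hb3
    push_cast at hb3
    linarith

end SzData

end Cfsg.Agent.Lib.SzChar8
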