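import Mathlib
import Cfsg.Prelude.Def_LieRecognition

/-!
# Rank-one setup: basic consequences

Basic lemmas on `Cfsg.IsRankOneSetup G Ω a t Q`.
-/

set_option autoImplicit false
set_option linter.unusedSectionVars false

namespace Cfsg.Agent.Lib.RankOne

open MulAction

/-- An element of odd order has a square root among its powers. -/
lemma exists_sqrt_of_odd {G : Type*} [Group G] (k : G) (hk : Odd (orderOf k)) :
    ∃ l : G, l ∈ Subgroup.zpowers k ∧ l * l = k := by
  obtain ⟨m, hm⟩ := hk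
  refine ⟨k ^ (m + 1), ⟨((m + 1 : ℕ) : ℤ), by simp only [zpow_natCast]⟩, ?_⟩
  rw [← pow_add]
  have : m + 1 + (m + 1) = orderOf k + 1 := by omega
  rw [this, pow_succ, pow_orderOf_eq_one, one_mul]

/-- An element of a finite group with odd-order ambient subgroup has odd order. -/
lemma odd_orderOf_of_mem {G : Type*} [Group G] {D : Subgroup G} (hD : Odd (Nat.card D)) {x : G}
    (hx : x ∈ D) : Odd (orderOf x) := by
  have h : orderOf (⟨x, hx⟩ : D) ∣ Nat.card D := orderOf_dvd_natCard _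
  have h2 : orderOf (⟨x, hx⟩ : D) = orderOf x := Subgroup.orderOf_mk x hx
  rw [← h2]
  exact Odd.of_dvd_nat hD h

lemma eq_one_of_sq_of_odd {G : Type*} [Group G] {x : G} (hx : Odd (orderOf x)) (h : x * x = 1) :
    x = 1 := by
  have h1 : orderOf x ∣ 2 := orderOf_dvd_of_pow_eq_one (by rw [pow_two]; exact h)
  have h2 : orderOf x = 1 := by
    have := Nat.le_of_dvd (by norm_num) h1
    interval_cases h3 : orderOf x
    · simp at hx
    · rfl
    · exact absurd hx (by decide)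
  exact orderOf_eq_one_iff.mp h2

/-- An involutive map on a finite set of odd size has a fixed point. -/
lemma exists_fixed_of_odd {X : Type*} [Finite X] (f : X → X) (hf : Function.Involutive f)
    (h : Odd (Nat.card X)) : ∃ x, f x = x := by
  classical
  have := Fintype.ofFinite X
  by_contra hne
  push Not at hne
  have h1 : (hf.toPerm f) ^ 2 = 1 := by
    ext x
    simp [pow_two, hf x]
  have h2 := Equiv.Perm.two_dvd_card_support h1
  have h3 : (hf.toPerm f).support = Finset.univ := by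
    ext x
    simp [Equiv.Perm.mem_support, hne x]
  rw [h3, Finset.card_univ, ← Nat.card_eq_fintype_card] at h2
  rw [Nat.odd_iff] at h
  omega

/-- Dihedral computation: powers of `s u` are "inverted" by `s`. -/
lemma conj_pow_inv {G : Type*} [Group G] {s u : G} (hs : s * s = 1) (hu : u * u = 1) (m : ℕ) :
    s * (s * u) ^ m * s = ((s * u) ^ m)⁻¹ := by
  have hsi : s⁻¹ = s := inv_eq_of_mul_eq_one_left hs
  have hui : u⁻¹ = u := inv_eq_of_mul_eq_one_left hu
  have h1 : s * (s * u) ^ m * s = (s * (s * u) * s⁻¹) ^ m := by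
    rw [conj_pow, hsi]
  rw [h1, hsi, ← inv_pow]
  congr 1
  rw [mul_inv_rev, hsi, hui, ← mul_assoc, hs, one_mul]

lemma comm_of_conj {G : Type*} [Group G] {s z : G} (hs : s * s = 1) (h : s * z * s = z) :
    z * s = s * z := by
  calc z * s = (s * z * s) * s := by rw [h]
    _ = s * z * (s * s) := by group
    _ = s * z := by rw [hs, mul_one]

section Setup

variable {G Ω : Type*} [Group G] [MulAction G Ω] {a : Ω} {t : G} {Q : Subgroup G}

/-- The two-point stabiliser `D = G_a ⊓ G_{t a}`. -/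
abbrev DD (G : Type*) {Ω : Type*} [Group G] [MulAction G Ω] (a : Ω) (t : G) : Subgroup G :=
  stabilizer G a ⊓ stabilizer G (t • a)

variable (hS : Cfsg.IsRankOneSetup G Ω a t Q)
include hS

lemma two_trans {x y x' y' : Ω} (h : x ≠ y) (h' : x' ≠ y') : ∃ g : G, g • x = x' ∧ g • y = y' :=
  (is_two_pretransitive_iff.mp hS.two_transitive) h h'

lemma t_inv : t⁻¹ = t := inv_eq_of_mul_eq_one_left hS.mul_self

lemma t_t_smul (c : Ω) : t • t • c = c := by
  rw [smul_smul, hS.mul_self, one_smul]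

lemma t_conj_t (x : G) : t * (t * x * t) * t = x := by
  have h := hS.mul_self
  calc t * (t * x * t) * t = (t * t) * x * (t * t) := by group
    _ = x := by rw [h]; group

lemma ta_ne : t • a ≠ a := fun h => hS.not_mem (mem_stabilizer_iff.mpr h)

lemma a_ne_ta : a ≠ t • a := (ta_ne hS).symm

lemma Q_fix {x : G} (hx : x ∈ Q) : x • a = a := mem_stabilizer_iff.mp (hS.le hx)

lemma D_fix_a {x : G} (hx : x ∈ DD G a t) : x • a = a := mem_stabilizer_iff.mp hx.1

lemma D_fix_b {x : G} (hx : x ∈ DD G a t) : x • (t • a) = t • a := mem_stabilizer_iff.mp hx.2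

lemma D_mem {x : G} (h1 : x • a = a) (h2 : x • (t • a) = t • a) : x ∈ DD G a t :=
  ⟨mem_stabilizer_iff.mpr h1, mem_stabilizer_iff.mpr h2⟩

/-- `t` normalises `D`. -/
lemma t_conj_D {x : G} (hx : x ∈ DD G a t) : t * x * t ∈ DD G a t := by
  refine D_mem hS ?_ ?_
  · rw [mul_smul, mul_smul, D_fix_b hS hx, t_t_smul hS]
  · rw [mul_smul, mul_smul, t_t_smul hS, D_fix_a hS hx]

/-- Every element of `G_a` is `y * d`, `y ∈ Q`, `d ∈ D`. -/
lemma exists_mul_of_mem_stab {g : G} (hg : g ∈ stabilizer G a) :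
    ∃ y ∈ Q, ∃ d ∈ DD G a t, g = y * d := by
  let S : Subgroup G :=
    { carrier := {g | ∃ y ∈ Q, ∃ d ∈ DD G a t, g = y * d}
      mul_mem' := by
        rintro _ _ ⟨y₁, hy₁, d₁, hd₁, rfl⟩ ⟨y₂, hy₂, d₂, hd₂, rfl⟩
        refine ⟨y₁ * (d₁ * y₂ * d₁⁻¹), Q.mul_mem hy₁ (hS.conj_mem _ hd₁.1 _ hy₂), d₁ * d₂,
          (DD G a t).mul_mem hd₁ hd₂, by group⟩
      one_mem' := ⟨1, Q.one_mem, 1, (DD G a t).one_mem, by simp⟩
      inv_mem' := by
        rintro _ ⟨y, hy, d, hd, rfl⟩
        refine ⟨d⁻¹ * y⁻¹ * d⁻¹⁻¹, hS.conj_mem _ ((stabilizer G a).inv_mem hd.1) _ (Q.inv_mem hy),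
          d⁻¹, (DD G a t).inv_mem hd, by group⟩ }
  have hle : Q ⊔ DD G a t ≤ S := by
    apply sup_le
    · intro y hy
      exact ⟨y, hy, 1, (DD G a t).one_mem, by simp⟩
    · intro d hd
      exact ⟨1, Q.one_mem, d, hd, by simp⟩
  rw [hS.sup_eq] at hle
  exact hle hg

lemma stab_inf_Q_eq_bot {y : G} (hy : y ∈ Q) (h : y • (t • a) = t • a) : y = 1 := by
  have : y ∈ Q ⊓ stabilizer G (t • a) := ⟨hy, mem_stabilizer_iff.mpr h⟩
  rw [hS.inf_eq_bot] at this
  simpa using this

/-- `Q` moves `t • a` to any point `≠ a`. -/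
lemma exists_Q_smul {c : Ω} (hc : c ≠ a) : ∃ y ∈ Q, y • (t • a) = c := by
  obtain ⟨g, hg1, hg2⟩ := two_trans hS (a_ne_ta hS) hc.symm
  obtain ⟨y, hy, d, hd, rfl⟩ := exists_mul_of_mem_stab hS (mem_stabilizer_iff.mpr hg1)
  refine ⟨y, hy, ?_⟩
  rw [← hg2, mul_smul, D_fix_b hS hd]

/-- A non-identity element of `Q` fixes no point other than `a`. -/
lemma Q_fixed_eq {y : G} (hy : y ∈ Q) {c : Ω} (hc : c ≠ a) (h : y • c = c) : y = 1 := by
  obtain ⟨z, hz, rfl⟩ := exists_Q_smul hS hc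
  have h1 : z⁻¹ * y * z ∈ Q := Q.mul_mem (Q.mul_mem (Q.inv_mem hz) hy) hz
  have h2 : (z⁻¹ * y * z) • (t • a) = t • a := by
    rw [mul_smul, mul_smul, h, inv_smul_smul]
  have h3 := stab_inf_Q_eq_bot hS h1 h2
  have : y = z * (z⁻¹ * y * z) * z⁻¹ := by group
  rw [this, h3]; group

lemma Q_point_eq {y : G} (hy : y ∈ Q) (hy1 : y ≠ 1) {c : Ω} (h : y • c = c) : c = a := by
  by_contra hc
  exact hy1 (Q_fixed_eq hS hy hc h)

/-- `Q` acts regularly on `Ω` minus `a`. -/
lemma Q_regular {c d : Ω} (hc : c ≠ a) (hd : d ≠ a) : ∃! x : Q, (x : G) • c = d := by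
  obtain ⟨y, hy, rfl⟩ := exists_Q_smul hS hc
  obtain ⟨z, hz, rfl⟩ := exists_Q_smul hS hd
  refine ⟨⟨z * y⁻¹, Q.mul_mem hz (Q.inv_mem hy)⟩, ?_, ?_⟩
  · simp [mul_smul]
  · rintro ⟨x, hx⟩ h
    simp only at h
    have h1 : (z⁻¹ * x * y) • (t • a) = t • a := by
      rw [mul_smul, mul_smul, h, inv_smul_smul]
    have h2 := stab_inf_Q_eq_bot hS (Q.mul_mem (Q.mul_mem (Q.inv_mem hz) hx) hy) h1
    apply Subtype.ext
    show x = z * y⁻¹
    have : x = z * (z⁻¹ * x * y) * y⁻¹ := by group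
    rw [this, h2]; group

lemma Q_inj {x y : G} (hx : x ∈ Q) (hy : y ∈ Q) {c : Ω} (hc : c ≠ a) (h : x • c = y • c) : x = y := by
  have h1 : (y⁻¹ * x) • c = c := by rw [mul_smul, h, inv_smul_smul]
  have h2 := Q_fixed_eq hS (Q.mul_mem (Q.inv_mem hy) hx) hc h1
  have : x = y * (y⁻¹ * x) := by group
  rw [this, h2, mul_one]

/-- Transitivity of `Q` in the form with a subtype. -/
lemma Q_ne_bot : ∃ x ∈ Q, x ≠ 1 := by
  by_contra hne
  push Not at hne
  have h1 : Nat.card Q = 1 := by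
    have : Q = ⊥ := by
      rw [eq_bot_iff]
      intro x hx
      simpa using hne x hx
    rw [this]; simp
  have h2 := hS.even_card
  rw [h1] at h2
  exact absurd h2 (by decide)

/-! ### Finiteness and cardinalities -/

lemma surj_orbit (c : Ω) : ∃ g : G, g • a = c := by
  by_cases hc : c = a
  · exact ⟨1, by simp [hc]⟩
  · obtain ⟨y, _, rfl⟩ := exists_Q_smul hS hc
    exact ⟨y * t, by rw [mul_smul]⟩

lemma pretrans : IsPretransitive G Ω := by
  constructor
  intro c d
  obtain ⟨g, rfl⟩ := surj_orbit hS c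
  obtain ⟨h, rfl⟩ := surj_orbit hS d
  exact ⟨h * g⁻¹, by simp [mul_smul]⟩

lemma exists_smul_eq' (c d : Ω) : ∃ g : G, g • c = d := by
  obtain ⟨g, rfl⟩ := surj_orbit hS c
  obtain ⟨h, rfl⟩ := surj_orbit hS d
  exact ⟨h * g⁻¹, by simp [mul_smul]⟩

lemma finite_omega [Finite G] : Finite Ω :=
  Finite.of_surjective (fun g : G => g • a) (surj_orbit hS)

lemma card_omega [Finite G] : Nat.card Ω = Nat.card Q + 1 := by
  classical
  have := finite_omega hS
  have e : Q ≃ {c : Ω // c ≠ a} := by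
    refine Equiv.ofBijective (fun y : Q => ⟨(y : G) • (t • a), ?_⟩) ⟨?_, ?_⟩
    · intro h
      have h1 : (y : G) • (t • a) = (y : G) • a := by rw [h, Q_fix hS y.2]
      exact (a_ne_ta hS) (smul_left_cancel _ h1).symm
    · rintro ⟨x, hx⟩ ⟨y, hy⟩ h
      have h1 : x • (t • a) = y • (t • a) := congrArg Subtype.val h
      exact Subtype.ext (Q_inj hS hx hy (ta_ne hS) h1)
    · rintro ⟨c, hc⟩
      obtain ⟨y, hy, h⟩ := exists_Q_smul hS hc
      exact ⟨⟨y, hy⟩, Subtype.ext h⟩
  rw [← Nat.card_congr (Equiv.optionSubtypeNe a), Finite.card_option, Nat.card_congr e]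

lemma card_stab [Finite G] :
    Nat.card (stabilizer G a) = Nat.card Q * Nat.card (DD G a t) := by
  rw [← Nat.card_prod]
  symm
  refine Nat.card_congr (Equiv.ofBijective (fun p : Q × (DD G a t : Subgroup G) =>
    (⟨(p.1 : G) * (p.2 : G), (stabilizer G a).mul_mem (hS.le p.1.2) p.2.2.1⟩ : stabilizer G a)) ⟨?_, ?_⟩)
  · rintro ⟨⟨x, hx⟩, ⟨d, hd⟩⟩ ⟨⟨y, hy⟩, ⟨e, he⟩⟩ h
    have h1 : x * d = y * e := congrArg Subtype.val h
    have h2 : y⁻¹ * x = e * d⁻¹ := by
      calc y⁻¹ * x = y⁻¹ * (x * d) * d⁻¹ := by group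
        _ = y⁻¹ * (y * e) * d⁻¹ := by rw [h1]
        _ = e * d⁻¹ := by group
    have h3 : y⁻¹ * x ∈ Q := Q.mul_mem (Q.inv_mem hy) hx
    have h4 : (y⁻¹ * x) • (t • a) = t • a := by
      rw [h2]
      have : e * d⁻¹ ∈ DD G a t := (DD G a t).mul_mem he ((DD G a t).inv_mem hd)
      exact D_fix_b hS this
    have h5 := stab_inf_Q_eq_bot hS h3 h4
    have h6 : x = y := by
      have : x = y * (y⁻¹ * x) := by group
      rw [this, h5, mul_one]
    subst h6
    have h7 : d = e := by simpa using h1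
    subst h7
    rfl
  · rintro ⟨g, hg⟩
    obtain ⟨y, hy, d, hd, rfl⟩ := exists_mul_of_mem_stab hS hg
    exact ⟨(⟨y, hy⟩, ⟨d, hd⟩), rfl⟩

lemma card_group [Finite G] :
    Nat.card G = Nat.card Q * Nat.card (DD G a t) * (Nat.card Q + 1) := by
  have := finite_omega hS
  have h1 : Nat.card (orbit G a) = Nat.card Ω := by
    apply Nat.card_congr
    refine Equiv.ofBijective (fun x => (x : Ω)) ⟨Subtype.val_injective, ?_⟩
    intro c
    obtain ⟨g, rfl⟩ := surj_orbit hS c
    exact ⟨⟨g • a, mem_orbit a g⟩, rfl⟩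
  have h2 : Nat.card G = Nat.card (orbit G a) * Nat.card (stabilizer G a) := by
    rw [Subgroup.card_eq_card_quotient_mul_card_subgroup (stabilizer G a)]
    congr 1
    exact Nat.card_congr (orbitEquivQuotientStabilizer G a).symm
  rw [h2, h1, card_stab hS, card_omega hS]
  ring

lemma odd_card_omega [Finite G] : Odd (Nat.card Ω) := by
  rw [card_omega hS]
  exact hS.even_card.add_one

lemma exists_sylow_le [Finite G] : ∃ P : Sylow 2 G, (P : Subgroup G) ≤ Q := by
  have : Fact (Nat.Prime 2) := ⟨Nat.prime_two⟩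
  let P₀ : Sylow 2 Q := default
  let H : Subgroup G := (P₀ : Subgroup Q).map Q.subtype
  have hH : H ≤ Q := by
    rintro _ ⟨x, _, rfl⟩
    exact x.2
  have hcard : Nat.card H = Nat.card (P₀ : Subgroup Q) :=
    Nat.card_congr ((P₀ : Subgroup Q).equivMapOfInjective Q.subtype Q.subtype_injective).symm
  have hQ : Nat.card Q ≠ 0 := Nat.card_pos.ne'
  have hD : Nat.card (DD G a t) ≠ 0 := Nat.card_pos.ne'
  have h0 : Nat.factorization (Nat.card G) 2 = Nat.factorization (Nat.card Q) 2 := by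
    rw [card_group hS, Nat.factorization_mul (mul_ne_zero hQ hD) (by omega),
      Nat.factorization_mul hQ hD]
    simp only [Finsupp.add_apply]
    have h1 : Nat.factorization (Nat.card (DD G a t)) 2 = 0 :=
      Nat.factorization_eq_zero_of_not_dvd (by
        have := hS.odd_card
        exact fun h => (Nat.not_even_iff_odd.mpr this) (even_iff_two_dvd.mpr h))
    have h2 : Nat.factorization (Nat.card Q + 1) 2 = 0 :=
      Nat.factorization_eq_zero_of_not_dvd (by
        have := hS.even_card.add_one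
        exact fun h => (Nat.not_even_iff_odd.mpr this) (even_iff_two_dvd.mpr h))
    rw [h1, h2]; simp
  have hc2 : Nat.card H = 2 ^ Nat.factorization (Nat.card G) 2 := by
    rw [hcard, h0, Sylow.card_eq_multiplicity]
  exact ⟨Sylow.ofCard H hc2, hH⟩

/-- The canonical form: each `g ∉ G_a` is uniquely `x t y` with `x ∈ G_a`, `y ∈ Q`. -/
lemma canonical {g : G} (hg : g ∉ stabilizer G a) :
    ∃! p : G × G, p.1 ∈ stabilizer G a ∧ p.2 ∈ Q ∧ g = p.1 * t * p.2 := by
  have hc : g⁻¹ • a ≠ a := by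
    intro h
    apply hg
    rw [mem_stabilizer_iff]
    have := congrArg (g • ·) h
    simpa using this.symm
  obtain ⟨⟨y, hy⟩, hy1, hy2⟩ := Q_regular hS hc (ta_ne hS)
  simp only at hy1
  have ht := t_inv hS
  refine ⟨(g * y⁻¹ * t, y), ⟨?_, hy, ?_⟩, ?_⟩
  · rw [mem_stabilizer_iff, mul_smul, mul_smul]
    have : y⁻¹ • t • a = g⁻¹ • a := by rw [← hy1, inv_smul_smul]
    rw [this, smul_inv_smul]
  · have : g * y⁻¹ * t * t * y = g * y⁻¹ * (t * t) * y := by group
    simp only
    rw [this, hS.mul_self]; group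
  · rintro ⟨x', y'⟩ ⟨hx', hy', h⟩
    simp only at hx' hy' h
    have h1 : (y' : G) • (g⁻¹ • a) = t • a := by
      have e1 : y' * g⁻¹ = t⁻¹ * x'⁻¹ := by rw [h]; group
      have e2 : x'⁻¹ • a = a := mem_stabilizer_iff.mp ((stabilizer G a).inv_mem hx')
      rw [smul_smul, e1, mul_smul, e2, ht]
    have h2 := hy2 ⟨y', hy'⟩ h1
    have h3 : y' = y := congrArg Subtype.val h2
    subst h3
    have h4 : x' = g * y'⁻¹ * t := by
      rw [h]
      have : x' * t * y' * y'⁻¹ * t = x' * (t * t) := by group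
      rw [this, hS.mul_self, mul_one]
    simp [h4]

/-- A version of the uniqueness in the canonical form. -/
lemma canonical_unique {x x' y y' : G} (hx : x ∈ stabilizer G a) (hx' : x' ∈ stabilizer G a)
    (hy : y ∈ Q) (hy' : y' ∈ Q) (h : x * t * y = x' * t * y') : x = x' ∧ y = y' := by
  have hg : x * t * y ∉ stabilizer G a := by
    intro h1
    have h2 : t ∈ stabilizer G a := by
      have : t = x⁻¹ * (x * t * y) * y⁻¹ := by group
      rw [this]
      exact (stabilizer G a).mul_mem ((stabilizer G a).mul_mem ((stabilizer G a).inv_mem hx) h1)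
        ((stabilizer G a).inv_mem (hS.le hy))
    exact hS.not_mem h2
  obtain ⟨p, _, hp⟩ := canonical hS hg
  have h1 := hp (x, y) ⟨hx, hy, rfl⟩
  have h2 := hp (x', y') ⟨hx', hy', h⟩
  have h3 := h1.trans h2.symm
  exact ⟨congrArg Prod.fst h3, congrArg Prod.snd h3⟩

/-- Uniqueness of `g h t f`. -/
lemma canonical_unique' {g g' h h' f f' : G} (hg : g ∈ Q) (hg' : g' ∈ Q) (hh : h ∈ DD G a t)
    (hh' : h' ∈ DD G a t) (hf : f ∈ Q) (hf' : f' ∈ Q) (e : g * h * t * f = g' * h' * t * f') :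
    g = g' ∧ h = h' ∧ f = f' := by
  obtain ⟨h1, h2⟩ := canonical_unique hS
    ((stabilizer G a).mul_mem (hS.le hg) hh.1) ((stabilizer G a).mul_mem (hS.le hg') hh'.1) hf hf' e
  refine ⟨?_, ?_, h2⟩
  · have h3 : g'⁻¹ * g = h' * h⁻¹ := by
      calc g'⁻¹ * g = g'⁻¹ * (g * h) * h⁻¹ := by group
        _ = g'⁻¹ * (g' * h') * h⁻¹ := by rw [h1]
        _ = h' * h⁻¹ := by group
    have h4 : g'⁻¹ * g ∈ Q := Q.mul_mem (Q.inv_mem hg') hg
    have h5 : (g'⁻¹ * g) • (t • a) = t • a := by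
      rw [h3]
      exact D_fix_b hS ((DD G a t).mul_mem hh' ((DD G a t).inv_mem hh))
    have h6 := stab_inf_Q_eq_bot hS h4 h5
    have : g = g' * (g'⁻¹ * g) := by group
    rw [this, h6, mul_one]
  · have h3 : g'⁻¹ * g = h' * h⁻¹ := by
      calc g'⁻¹ * g = g'⁻¹ * (g * h) * h⁻¹ := by group
        _ = g'⁻¹ * (g' * h') * h⁻¹ := by rw [h1]
        _ = h' * h⁻¹ := by group
    have h4 : g'⁻¹ * g ∈ Q := Q.mul_mem (Q.inv_mem hg') hg
    have h5 : (g'⁻¹ * g) • (t • a) = t • a := by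
      rw [h3]
      exact D_fix_b hS ((DD G a t).mul_mem hh' ((DD G a t).inv_mem hh))
    have h6 := stab_inf_Q_eq_bot hS h4 h5
    rw [h6] at h3
    have : h' = (h' * h⁻¹) * h := by group
    rw [this, ← h3, one_mul]

/-- Existence of the canonical form `g h t f` for elements outside `G_a`. -/
lemma canonical_exists {w : G} (hw : w ∉ stabilizer G a) :
    ∃ g ∈ Q, ∃ h ∈ DD G a t, ∃ f ∈ Q, w = g * h * t * f := by
  obtain ⟨⟨x, y⟩, ⟨hx, hy, e⟩, _⟩ := canonical hS hw
  simp only at hx hy e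
  obtain ⟨g, hg, h, hh, rfl⟩ := exists_mul_of_mem_stab hS hx
  exact ⟨g, hg, h, hh, y, hy, e⟩

/-- `t x t` lies outside `G_a` for `1 ≠ x ∈ Q`. -/
lemma t_conj_not_mem {x : G} (hx : x ∈ Q) (hx1 : x ≠ 1) : t * x * t ∉ stabilizer G a := by
  intro h
  rw [mem_stabilizer_iff, mul_smul, mul_smul] at h
  have h1 : x • t • a = t • a := by
    have := congrArg (t • ·) h
    simpa only [t_t_smul hS] using this
  exact hx1 (stab_inf_Q_eq_bot hS hx h1)

/-! ### Involutions -/

lemma invol_mem_Q [Finite G] {s : G} (hs : s ∈ stabilizer G a) (h : s * s = 1) : s ∈ Q := by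
  obtain ⟨y, hy, d, hd, rfl⟩ := exists_mul_of_mem_stab hS hs
  have h1 : d * d ∈ Q := by
    have h2 : d * d = d * y⁻¹ * d⁻¹ * y⁻¹ := by
      have h3 : y * d * (y * d) = 1 := h
      have h4 : d * (y * d) = y⁻¹ := by
        calc d * (y * d) = y⁻¹ * (y * d * (y * d)) := by group
          _ = y⁻¹ := by rw [h3]; group
      calc d * d = d * y⁻¹ * (y * d) := by group
        _ = d * y⁻¹ * d⁻¹ * (d * (y * d)) := by group
        _ = d * y⁻¹ * d⁻¹ * y⁻¹ := by rw [h4]
    rw [h2]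
    exact Q.mul_mem (hS.conj_mem _ hd.1 _ (Q.inv_mem hy)) (Q.inv_mem hy)
  have h5 : d * d = 1 := by
    apply stab_inf_Q_eq_bot hS h1
    exact D_fix_b hS ((DD G a t).mul_mem hd hd)
  have h6 : d = 1 := eq_one_of_sq_of_odd (odd_orderOf_of_mem hS.odd_card hd) h5
  rw [h6, mul_one]
  exact hy

lemma invol_exists_fixed [Finite G] {u : G} (h : u * u = 1) : ∃ c : Ω, u • c = c := by
  have := finite_omega hS
  apply exists_fixed_of_odd (fun c : Ω => u • c) _ (odd_card_omega hS)
  intro c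
  simp only
  rw [smul_smul, h, one_smul]

/-- An involution fixes exactly one point. -/
lemma invol_fixed_unique [Finite G] {u : G} (h1 : u ≠ 1) (h : u * u = 1) {c d : Ω}
    (hc : u • c = c) (hd : u • d = d) : c = d := by
  obtain ⟨g, hg⟩ := exists_smul_eq' hS c a
  have h2 : g * u * g⁻¹ ∈ stabilizer G a := by
    rw [mem_stabilizer_iff, mul_smul, mul_smul, ← hg, inv_smul_smul, hc]
  have h3 : (g * u * g⁻¹) * (g * u * g⁻¹) = 1 := by
    have : (g * u * g⁻¹) * (g * u * g⁻¹) = g * (u * u) * g⁻¹ := by group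
    rw [this, h]; group
  have h4 := invol_mem_Q hS h2 h3
  have h5 : g * u * g⁻¹ ≠ 1 := by
    intro h6
    apply h1
    have : u = g⁻¹ * (g * u * g⁻¹) * g := by group
    rw [this, h6]; group
  have h6 : (g * u * g⁻¹) • (g • d) = g • d := by
    rw [mul_smul, mul_smul, inv_smul_smul, hd]
  have h7 := Q_point_eq hS h4 h5 h6
  rw [← hg] at h7
  exact (smul_left_cancel g h7).symm

lemma invol_fixed_eq_a [Finite G] {s : G} (hs : s ∈ stabilizer G a) (h1 : s ≠ 1) (h : s * s = 1)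
    {c : Ω} (hc : s • c = c) : c = a :=
  invol_fixed_unique hS h1 h hc (mem_stabilizer_iff.mp hs)

lemma exists_invol_Q [Finite G] : ∃ s ∈ Q, s ≠ 1 ∧ s * s = 1 := by
  have h2 : 2 ∣ Nat.card Q := even_iff_two_dvd.mp hS.even_card
  have : Fact (Nat.Prime 2) := ⟨Nat.prime_two⟩
  obtain ⟨x, hx⟩ := exists_prime_orderOf_dvd_card' 2 h2
  refine ⟨x, x.2, ?_, ?_⟩
  · intro h3
    have : x = 1 := Subtype.ext h3
    rw [this, orderOf_one] at hx
    omega
  · have h3 : x ^ 2 = 1 := by rw [← hx]; exact pow_orderOf_eq_one x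
    have h4 : x * x = 1 := by rw [← pow_two]; exact h3
    exact congrArg Subtype.val h4

/-- An involution that swaps `a` and `t • a` is `l⁻¹ t l` with `l ∈ D` inverted by `t`. -/
lemma swap_conj_t [Finite G] {v : G} (h1 : v • a = t • a) (h : v * v = 1) :
    ∃ l ∈ Cfsg.invertedBy (DD G a t) t, v = l⁻¹ * t * l := by
  have hv : v⁻¹ = v := inv_eq_of_mul_eq_one_left h
  have ht := t_inv hS
  have hkD : t * v ∈ DD G a t := by
    refine D_mem hS ?_ ?_
    · rw [mul_smul, h1, t_t_smul hS]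
    · have h2 : v • t • a = a := by rw [← h1, smul_smul, h, one_smul]
      rw [mul_smul, h2]
  obtain ⟨l, hl, hll⟩ := exists_sqrt_of_odd (t * v) (odd_orderOf_of_mem hS.odd_card hkD)
  have hlD : l ∈ DD G a t := (Subgroup.zpowers_le.mpr hkD) hl
  have hinvK : t * (t * v) * t⁻¹ = (t * v)⁻¹ := by
    rw [ht, mul_inv_rev, hv, ht]
    calc t * (t * v) * t = (t * t) * v * t := by group
      _ = v * t := by rw [hS.mul_self]; group
  have hlinv : t * l * t⁻¹ = l⁻¹ := by
    obtain ⟨n, rfl⟩ := hl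
    simp only
    rw [← conj_zpow, hinvK, inv_zpow]
  refine ⟨l, ⟨hlD, hlinv⟩, ?_⟩
  rw [ht] at hlinv
  have h3 : l⁻¹ * t = t * l := by
    rw [← hlinv]
    calc t * l * t * t = t * l * (t * t) := by group
      _ = t * l := by rw [hS.mul_self]; group
  rw [h3, mul_assoc, hll, ← mul_assoc, hS.mul_self, one_mul]

/-- All involutions are conjugate. -/
lemma invol_conj_t [Finite G] {u : G} (h1 : u ≠ 1) (h : u * u = 1) :
    ∃ g : G, g * u * g⁻¹ = t := by
  obtain ⟨c, hc⟩ : ∃ c : Ω, u • c ≠ c := by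
    by_contra hne
    push Not at hne
    have h2 := invol_fixed_unique hS h1 h (hne a) (hne (t • a))
    exact a_ne_ta hS h2
  obtain ⟨g, hg1, hg2⟩ := two_trans hS hc.symm (a_ne_ta hS)
  have h3 : (g * u * g⁻¹) • a = t • a := by
    have e : g⁻¹ • a = c := by rw [← hg1, inv_smul_smul]
    rw [mul_smul, mul_smul, e, hg2]
  have h4 : (g * u * g⁻¹) * (g * u * g⁻¹) = 1 := by
    have : (g * u * g⁻¹) * (g * u * g⁻¹) = g * (u * u) * g⁻¹ := by group
    rw [this, h]; group
  obtain ⟨l, _, hl⟩ := swap_conj_t hS h3 h4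
  refine ⟨l * g, ?_⟩
  have : l * g * u * (l * g)⁻¹ = l * (g * u * g⁻¹) * l⁻¹ := by group
  rw [this, hl]
  group

/-- If `s` is an involution in `G_a` and `u` an involution outside `G_a` then `s u` has odd order. -/
lemma odd_order_mul [Finite G] {s u : G} (hs : s ∈ stabilizer G a) (hs1 : s ≠ 1) (hs2 : s * s = 1)
    (hu : u ∉ stabilizer G a) (hu1 : u ≠ 1) (hu2 : u * u = 1) : Odd (orderOf (s * u)) := by
  rcases Nat.even_or_odd (orderOf (s * u)) with he | ho
  · exfalso
    obtain ⟨m, hm⟩ := he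
    set x := s * u with hx
    have hpos : 0 < orderOf x := orderOf_pos x
    have hm0 : 0 < m := by omega
    have hz : x ^ m ≠ 1 := pow_ne_one_of_lt_orderOf hm0.ne' (by omega)
    have hzz : x ^ m * x ^ m = 1 := by
      rw [← pow_add, ← hm, pow_orderOf_eq_one]
    have hzi : (x ^ m)⁻¹ = x ^ m := inv_eq_of_mul_eq_one_left hzz
    have hcomm1 : s * x ^ m * s = x ^ m := by
      rw [hx, conj_pow_inv hs2 hu2, ← hx, hzi]
    have hcomm2 : u * x ^ m * u = x ^ m := by
      have h1 := conj_pow_inv hu2 hs2 m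
      have h2 : (u * s) = x⁻¹ := by
        rw [hx, mul_inv_rev, inv_eq_of_mul_eq_one_left hs2, inv_eq_of_mul_eq_one_left hu2]
      rw [h2, inv_pow, inv_inv, hzi] at h1
      exact h1
    obtain ⟨c, hc⟩ := invol_exists_fixed hS hzz
    -- `s` fixes `c`
    have h1 : x ^ m • (s • c) = s • c := by
      rw [smul_smul, comm_of_conj hs2 hcomm1, mul_smul, hc]
    have h2 : s • c = c := invol_fixed_unique hS hz hzz h1 hc
    have h3 : c = a := invol_fixed_eq_a hS hs hs1 hs2 h2
    have h4 : x ^ m • (u • c) = u • c := by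
      rw [smul_smul, comm_of_conj hu2 hcomm2, mul_smul, hc]
    have h5 : u • c = c := invol_fixed_unique hS hz hzz h4 hc
    rw [h3] at h5
    exact hu (mem_stabilizer_iff.mpr h5)
  · exact ho

/-! ### Normalisers -/

lemma normalizer_le {X : Set G} (hX : X ⊆ (Q : Set G)) (hne : ∃ x ∈ X, x ≠ 1) :
    Subgroup.normalizer X ≤ stabilizer G a := by
  intro g hg
  obtain ⟨x, hxX, hx1⟩ := hne
  rw [Subgroup.mem_set_normalizer_iff] at hg
  have h1 : g * x * g⁻¹ ∈ X := (hg x).mp hxX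
  have h2 : g * x * g⁻¹ ≠ 1 := by
    intro h
    apply hx1
    have : x = g⁻¹ * (g * x * g⁻¹) * g := by group
    rw [this, h]; group
  have h3 : (g * x * g⁻¹) • (g • a) = g • a := by
    rw [mul_smul, mul_smul, inv_smul_smul, Q_fix hS (hX hxX)]
  exact mem_stabilizer_iff.mpr (Q_point_eq hS (hX h1) h2 h3)

lemma normalizer_Q : Subgroup.normalizer (Q : Set G) = stabilizer G a := by
  apply le_antisymm
  · obtain ⟨x, hx, hx1⟩ := Q_ne_bot hS
    exact normalizer_le hS (subset_refl _) ⟨x, hx, hx1⟩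
  · intro g hg
    rw [Subgroup.mem_normalizer_iff]
    intro h
    constructor
    · exact fun hh => hS.conj_mem g hg h hh
    · intro hh
      have := hS.conj_mem g⁻¹ ((stabilizer G a).inv_mem hg) _ hh
      have e : g⁻¹ * (g * h * g⁻¹) * g⁻¹⁻¹ = h := by group
      rwa [e] at this

lemma normalizer_stab : Subgroup.normalizer (stabilizer G a : Set G) = stabilizer G a := by
  apply le_antisymm
  · intro g hg
    obtain ⟨x, hx, hx1⟩ := Q_ne_bot hS
    rw [Subgroup.mem_normalizer_iff] at hg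
    have hgi : g⁻¹ ∈ Subgroup.normalizer (stabilizer G a : Set G) :=
      Subgroup.inv_mem _ (Subgroup.mem_normalizer_iff.mpr hg)
    rw [Subgroup.mem_normalizer_iff] at hgi
    have h1 : g * x * g⁻¹ ∈ (stabilizer G a : Set G) := (hg x).mp (hS.le hx)
    have h2 : (g * x * g⁻¹) • a = a := mem_stabilizer_iff.mp h1
    have h3 : x • (g⁻¹ • a) = g⁻¹ • a := by
      rw [mul_smul, mul_smul] at h2
      have := congrArg (g⁻¹ • ·) h2
      simpa using this
    have h4 := Q_point_eq hS hx hx1 h3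
    rw [mem_stabilizer_iff]
    have := congrArg (g • ·) h4
    simpa using this.symm
  · exact Subgroup.le_normalizer

/-! ### The set `K` -/

/-- Membership in `K`, phrased with `t` on both sides. -/
lemma inverted_iff {k : G} : k ∈ Cfsg.invertedBy (DD G a t) t ↔ k ∈ DD G a t ∧ t * k * t = k⁻¹ := by
  show (k ∈ DD G a t ∧ t * k * t⁻¹ = k⁻¹) ↔ _
  rw [t_inv hS]

lemma inverted_t_eq {k : G} (hk : k ∈ Cfsg.invertedBy (DD G a t) t) : t * k * t = k⁻¹ :=
  ((inverted_iff hS).mp hk).2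

lemma inverted_mem {k : G} (hk : k ∈ Cfsg.invertedBy (DD G a t) t) : k ∈ DD G a t := hk.1

/-- Key lemma: if `x ∈ D` satisfies `x̂ = t x t` with `h x̂`... from the canonical form of an
element `t y t` with `y ∈ Q`, `y ≠ 1`, `y` centralised by `x`, we get `h x h⁻¹ = t x t`. -/
lemma canonical_h_conj {x y g h f : G} (hxD : x ∈ DD G a t) (hy : y ∈ Q) (hcomm : x * y = y * x)
    (hg : g ∈ Q) (hh : h ∈ DD G a t) (hf : f ∈ Q) (e : t * y * t = g * h * t * f) :
    h * x * h⁻¹ = t * x * t := by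
  have htt := hS.mul_self
  set xh := t * x * t with hxh
  have hxhD : xh ∈ DD G a t := t_conj_D hS hxD
  have hcomm2 : xh * (t * y * t) * xh⁻¹ = t * y * t := by
    have hxhinv : xh⁻¹ = t * x⁻¹ * t := by
      rw [hxh, mul_inv_rev, mul_inv_rev, t_inv hS, mul_assoc]
    rw [hxhinv, hxh]
    have hx : x * y * x⁻¹ = y := by rw [hcomm]; group
    calc t * x * t * (t * y * t) * (t * x⁻¹ * t)
        = t * x * (t * t) * y * (t * t) * x⁻¹ * t := by group
      _ = t * (x * y * x⁻¹) * t := by rw [htt]; group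
      _ = t * y * t := by rw [hx]
  rw [e] at hcomm2
  have e2 : xh * (g * h * t * f) * xh⁻¹
      = (xh * g * xh⁻¹) * (xh * h * x⁻¹) * t * (xh * f * xh⁻¹) := by
    have e3 : t * xh⁻¹ = x⁻¹ * t := by
      have hxhinv : xh⁻¹ = t * x⁻¹ * t := by
        rw [hxh, mul_inv_rev, mul_inv_rev, t_inv hS, mul_assoc]
      rw [hxhinv]
      calc t * (t * x⁻¹ * t) = (t * t) * x⁻¹ * t := by group
        _ = x⁻¹ * t := by rw [htt]; group
    calc xh * (g * h * t * f) * xh⁻¹ = xh * g * h * (t * xh⁻¹) * (xh * f * xh⁻¹) := by group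
      _ = xh * g * h * (x⁻¹ * t) * (xh * f * xh⁻¹) := by rw [e3]
      _ = _ := by group
  rw [e2] at hcomm2
  have hxS : xh ∈ stabilizer G a := hxhD.1
  obtain ⟨_, h2, _⟩ := canonical_unique' hS
    (hS.conj_mem _ hxS _ hg) hg
    ((DD G a t).mul_mem ((DD G a t).mul_mem hxhD hh) ((DD G a t).inv_mem hxD)) hh
    (hS.conj_mem _ hxS _ hf) hf hcomm2
  -- `xh * h * x⁻¹ = h`
  have h3 : xh * h = h * x := by
    calc xh * h = xh * h * x⁻¹ * x := by group
      _ = h * x := by rw [h2]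
  calc h * x * h⁻¹ = xh * h * h⁻¹ := by rw [h3]
    _ = xh := by group

/-- `S1128`: elements of `K` other than the identity act fixed-point-freely on `Q`. -/
lemma inverted_fpf [Finite G] {x : G} (hx : x ∈ Cfsg.invertedBy (DD G a t) t) (hx1 : x ≠ 1)
    {y : G} (hy : y ∈ Q) (hcomm : x * y = y * x) : y = 1 := by
  by_contra hy1
  have hxD := inverted_mem hS hx
  obtain ⟨g, hg, h, hh, f, hf, e⟩ := canonical_exists hS (t_conj_not_mem hS hy hy1)
  have h1 := canonical_h_conj hS hxD hy hcomm hg hh hf e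
  rw [inverted_t_eq hS hx] at h1
  -- `h` inverts `x`; `h` has odd order so `x = x⁻¹`
  have h2 : ∀ n : ℕ, h ^ n * x * (h ^ n)⁻¹ = if Even n then x else x⁻¹ := by
    intro n
    induction n with
    | zero => simp
    | succ n ih =>
      have h3 : h ^ (n + 1) * x * (h ^ (n + 1))⁻¹ = h ^ n * (h * x * h⁻¹) * (h ^ n)⁻¹ := by
        rw [pow_succ]; group
      rw [h3, h1]
      have h4 : h ^ n * x⁻¹ * (h ^ n)⁻¹ = (h ^ n * x * (h ^ n)⁻¹)⁻¹ := by group
      rw [h4, ih]
      by_cases he : Even n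
      · have : ¬ Even (n + 1) := by
          rw [Nat.even_add_one]; simpa using he
        simp [he, this]
      · have : Even (n + 1) := by
          rw [Nat.even_add_one]; exact he
        simp [he, this]
  have h5 := h2 (orderOf h)
  have hodd := odd_orderOf_of_mem hS.odd_card hh
  rw [pow_orderOf_eq_one, if_neg (Nat.not_even_iff_odd.mpr hodd)] at h5
  simp only [one_mul, inv_one, mul_one] at h5
  have h6 : x * x = 1 := by
    nth_rewrite 1 [h5]
    group
  exact hx1 (eq_one_of_sq_of_odd (odd_orderOf_of_mem hS.odd_card hxD) h6)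

/-- Replace `t` by another involution with the same image of `a`. -/
lemma setup_swap [Finite G] {v : G} (h1 : v • a = t • a) (hv : v * v = 1) :
    Cfsg.IsRankOneSetup G Ω a v Q := by
  have hv1 : v ≠ 1 := by
    intro h
    rw [h, one_smul] at h1
    exact a_ne_ta hS h1
  exact
    { two_transitive := hS.two_transitive
      mul_self := hv
      ne_one := hv1
      not_mem := by
        intro h
        have := mem_stabilizer_iff.mp h
        rw [h1] at this
        exact ta_ne hS this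
      le := hS.le
      conj_mem := hS.conj_mem
      inf_eq_bot := by rw [h1]; exact hS.inf_eq_bot
      sup_eq := by rw [h1]; exact hS.sup_eq
      even_card := hS.even_card
      odd_card := by rw [h1]; exact hS.odd_card }

/-- Existence of the conjugating element: for `s, s'` involutions of `G_a`, exists `k ∈ K` with
`k⁻¹ s k = s'`. -/
lemma inverted_trans [Finite G] {s s' : G}
    (hs : s ∈ Cfsg.involutionsIn (stabilizer G a : Set G))
    (hs' : s' ∈ Cfsg.involutionsIn (stabilizer G a : Set G)) :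
    ∃ k ∈ Cfsg.invertedBy (DD G a t) t, k⁻¹ * s * k = s' := by
  obtain ⟨hsa, hs1, hs2⟩ := hs
  obtain ⟨hsa', hs1', hs2'⟩ := hs'
  have htt := hS.mul_self
  have ht := t_inv hS
  set s'' := t * s * t with hs''
  have h2 : s'' * s'' = 1 := by
    calc s'' * s'' = t * s * (t * t) * s * t := by rw [hs'']; group
      _ = t * (s * s) * t := by rw [htt]; group
      _ = t * t := by rw [hs2]; group
      _ = 1 := htt
  have h1 : s'' ≠ 1 := by
    intro h
    apply hs1
    have : s = t * s'' * t := by rw [hs'']; rw [t_conj_t hS]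
    rw [this, h, mul_one, htt]
  have hb : s'' • (t • a) = t • a := by
    rw [hs'', mul_smul, mul_smul, t_t_smul hS, mem_stabilizer_iff.mp hsa]
  have hout : s'' ∉ stabilizer G a := by
    intro h
    have := invol_fixed_eq_a hS h h1 h2 hb
    exact ta_ne hS this
  have hodd := odd_order_mul hS hsa' hs1' hs2' hout h1 h2
  obtain ⟨y, hy, hyy⟩ := exists_sqrt_of_odd (s' * s'') hodd
  -- `s'` inverts `y`
  have hinv0 : s' * (s' * s'') * s' = (s' * s'')⁻¹ := by
    have := conj_pow_inv hs2' h2 1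
    simpa using this
  have hinv : s' * y * s' = y⁻¹ := by
    obtain ⟨n, rfl⟩ := hy
    have hi : s'⁻¹ = s' := inv_eq_of_mul_eq_one_left hs2'
    have : s' * ((s' * s'') ^ n) * s' = (s' * (s' * s'') * s'⁻¹) ^ n := by
      rw [conj_zpow, hi]
    simp only
    rw [this, hi, hinv0, inv_zpow]
  set v := y⁻¹ * s' with hv
  have hvv : v * v = 1 := by
    have e : s' * y⁻¹ = y * s' := by
      have h3 : s' * y⁻¹ * s' = y := by
        have := congrArg (fun w => w⁻¹) hinv
        simp only [mul_inv_rev, inv_inv, inv_eq_of_mul_eq_one_left hs2'] at this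
        rw [← mul_assoc] at this
        exact this
      calc s' * y⁻¹ = (s' * y⁻¹ * s') * s' := by
            rw [mul_assoc (s' * y⁻¹), hs2', mul_one]
        _ = y * s' := by rw [h3]
    calc v * v = y⁻¹ * (s' * y⁻¹) * s' := by rw [hv]; group
      _ = y⁻¹ * (y * s') * s' := by rw [e]
      _ = s' * s' := by group
      _ = 1 := hs2'
  have hconj : v * s' * v = s'' := by
    have e : s' * y⁻¹ = y * s' := by
      have h3 : s' * y⁻¹ * s' = y := by
        have := congrArg (fun w => w⁻¹) hinv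
        simp only [mul_inv_rev, inv_inv, inv_eq_of_mul_eq_one_left hs2'] at this
        rw [← mul_assoc] at this
        exact this
      calc s' * y⁻¹ = (s' * y⁻¹ * s') * s' := by
            rw [mul_assoc (s' * y⁻¹), hs2', mul_one]
        _ = y * s' := by rw [h3]
    calc v * s' * v = y⁻¹ * (s' * s') * (y⁻¹ * s') := by rw [hv]; group
      _ = y⁻¹ * y⁻¹ * s' := by rw [hs2']; group
      _ = (y * y)⁻¹ * s' := by group
      _ = (s' * s'')⁻¹ * s' := by rw [hyy]
      _ = s'' := by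
        rw [mul_inv_rev, inv_eq_of_mul_eq_one_left h2, inv_eq_of_mul_eq_one_left hs2',
          mul_assoc, hs2', mul_one]
  -- `v` maps `a` to `t • a`
  have hva : v • a = t • a := by
    have h3 : s'' • (v • a) = v • a := by
      rw [← hconj]
      have e : v * s' * v * v = v * s' := by
        rw [mul_assoc (v * s'), hvv, mul_one]
      rw [smul_smul, e, mul_smul, mem_stabilizer_iff.mp hsa']
    exact invol_fixed_unique hS h1 h2 h3 hb
  have hvb : v • (t • a) = a := by
    rw [← hva, smul_smul, hvv, one_smul]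
  refine ⟨t * v, ?_, ?_⟩
  · rw [inverted_iff hS]
    refine ⟨D_mem hS ?_ ?_, ?_⟩
    · rw [mul_smul, hva, t_t_smul hS]
    · rw [mul_smul, hvb]
    · rw [mul_inv_rev, inv_eq_of_mul_eq_one_left hvv, ht]
      calc t * (t * v) * t = (t * t) * v * t := by group
        _ = v * t := by rw [htt]; group
  · rw [mul_inv_rev, inv_eq_of_mul_eq_one_left hvv, ht]
    have e : v * t * s * (t * v) = v * (t * s * t) * v := by group
    rw [e, ← hs'', ← hconj]
    calc v * (v * s' * v) * v = (v * v) * s' * (v * v) := by group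
      _ = s' := by rw [hvv]; group

/-- Injectivity of `k ↦ k⁻¹ s k` on `K`. -/
lemma inverted_inj [Finite G] {s : G}
    (hs : s ∈ Cfsg.involutionsIn (stabilizer G a : Set G)) {k₁ k₂ : G}
    (hk₁ : k₁ ∈ Cfsg.invertedBy (DD G a t) t) (hk₂ : k₂ ∈ Cfsg.invertedBy (DD G a t) t)
    (h : k₁⁻¹ * s * k₁ = k₂⁻¹ * s * k₂) : k₁ = k₂ := by
  obtain ⟨hsa, hs1, hs2⟩ := hs
  have htt := hS.mul_self
  have hk₁D := inverted_mem hS hk₁
  have hk₂D := inverted_mem hS hk₂
  have e₁ := inverted_t_eq hS hk₁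
  have e₂ := inverted_t_eq hS hk₂
  -- `v₁ = t k₁` is an involution moving `a` to `t • a`.
  set v₁ := t * k₁ with hv₁
  have hv₁v₁ : v₁ * v₁ = 1 := by
    calc v₁ * v₁ = (t * k₁ * t) * k₁ := by rw [hv₁]; group
      _ = 1 := by rw [e₁]; group
  have hv₁a : v₁ • a = t • a := by
    rw [hv₁, mul_smul, D_fix_a hS hk₁D]
  have hS' := setup_swap hS hv₁a hv₁v₁
  set d := k₁⁻¹ * k₂ with hd
  have hdD : d ∈ DD G a t := (DD G a t).mul_mem ((DD G a t).inv_mem hk₁D) hk₂D
  have hdD' : d ∈ DD G a v₁ := by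
    show d ∈ stabilizer G a ⊓ stabilizer G (v₁ • a)
    rw [hv₁a]; exact hdD
  -- `v₁` inverts `d`
  have hdinv : v₁ * d * v₁⁻¹ = d⁻¹ := by
    have hv₁i : v₁⁻¹ = v₁ := inv_eq_of_mul_eq_one_left hv₁v₁
    rw [hv₁i]
    -- t k₁ k₁⁻¹ k₂ t k₁ = t k₂ t k₁ = k₂⁻¹ k₁
    calc v₁ * d * v₁ = (t * k₂ * t) * k₁ := by rw [hv₁, hd]; group
      _ = k₂⁻¹ * k₁ := by rw [e₂]
      _ = d⁻¹ := by rw [hd]; group
  have hdK : d ∈ Cfsg.invertedBy (DD G a v₁) v₁ := ⟨hdD', hdinv⟩
  -- `d` centralises `s' = k₁⁻¹ s k₁`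
  set s' := k₁⁻¹ * s * k₁ with hs'
  have hs'Q : s' ∈ Q := by
    apply invol_mem_Q hS
    · exact (stabilizer G a).mul_mem
        ((stabilizer G a).mul_mem ((stabilizer G a).inv_mem hk₁D.1) hsa) hk₁D.1
    · calc s' * s' = k₁⁻¹ * (s * s) * k₁ := by rw [hs']; group
        _ = 1 := by rw [hs2]; group
  have hs'1 : s' ≠ 1 := by
    intro h0
    apply hs1
    have : s = k₁ * s' * k₁⁻¹ := by rw [hs']; group
    rw [this, h0]; group
  have hcomm : d * s' = s' * d := by
    have h3 : s' = k₂⁻¹ * s * k₂ := h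
    calc d * s' = k₁⁻¹ * k₂ * (k₂⁻¹ * s * k₂) := by rw [hd, ← h3]
      _ = k₁⁻¹ * s * k₂ := by group
      _ = s' * d := by rw [hs', hd]; group
  by_contra hne
  have hd1 : d ≠ 1 := by
    intro h0
    apply hne
    have : k₂ = k₁ * d := by rw [hd]; group
    rw [this, h0, mul_one]
  exact hs'1 (inverted_fpf hS' hdK hd1 hs'Q hcomm)

/-- `|K| = |I ∩ G_a|`. -/
lemma card_inverted [Finite G] :
    Nat.card (Cfsg.invertedBy (DD G a t) t) =
      Nat.card (Cfsg.involutionsIn (stabilizer G a : Set G)) := by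
  obtain ⟨s, hsQ, hs1, hs2⟩ := exists_invol_Q hS
  have hs : s ∈ Cfsg.involutionsIn (stabilizer G a : Set G) := ⟨hS.le hsQ, hs1, hs2⟩
  refine Nat.card_congr (Equiv.ofBijective (fun k => ⟨(k : G)⁻¹ * s * k, ?_⟩) ⟨?_, ?_⟩)
  · have hkD := inverted_mem hS k.2
    refine ⟨(stabilizer G a).mul_mem
      ((stabilizer G a).mul_mem ((stabilizer G a).inv_mem hkD.1) (hS.le hsQ)) hkD.1, ?_, ?_⟩
    · intro h0
      apply hs1
      have : s = (k : G) * ((k : G)⁻¹ * s * k) * (k : G)⁻¹ := by group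
      rw [this, h0]; group
    · calc (k : G)⁻¹ * s * k * ((k : G)⁻¹ * s * k) = (k : G)⁻¹ * (s * s) * k := by group
        _ = 1 := by rw [hs2]; group
  · rintro ⟨k₁, hk₁⟩ ⟨k₂, hk₂⟩ h
    have h1 := congrArg Subtype.val h
    exact Subtype.ext (inverted_inj hS hs hk₁ hk₂ h1)
  · rintro ⟨s', hs'⟩
    obtain ⟨k, hk, e⟩ := inverted_trans hS hs hs'
    exact ⟨⟨k, hk⟩, Subtype.ext e⟩

end Setup

end Cfsg.Agent.Lib.RankOne
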