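import Mathlib
import Cfsg.Agent.Lib.SzChar8
import Cfsg.Agent.Lib.SuzOrder
import Cfsg.Agent.S1122
import Cfsg.Agent.S1167

/-!
# Zassenhaus groups with non-abelian kernel of even order: the group-theoretic input
-/

set_option autoImplicit false
set_option linter.unusedSectionVars false
set_option linter.unusedVariables false
set_option linter.style.haveILetI false

open Cfsg MulAction

namespace Cfsg.Agent.Lib.SzChar9

open Cfsg.Agent.Lib.ZassCore Cfsg.Agent.Lib.ZassFrob9 Cfsg.Agent.Lib.ZassInv Cfsg.Agent.Lib.SzChar1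

variable {G Ω : Type*} [Group G] [Fintype G] [MulAction G Ω] [Fintype Ω] {a b : Ω}

set_option maxHeartbeats 2000000 in
/-- The input for the character theory. -/
theorem exists_data (hZ : IsZassenhausGroup G Ω) [IsSimpleGroup G] (hab : a ≠ b)
    (U : Subgroup G) (hUle : U ≤ stabilizer G a)
    (hUn : ∀ h ∈ stabilizer G a, ∀ u ∈ U, h * u * h⁻¹ ∈ U)
    (hreg : ∀ c d : Ω, c ≠ a → d ≠ a → ∃! u : U, (u : G) • c = d)
    (hU2 : IsPGroup 2 U) (hUna : ∃ u ∈ U, ∃ v ∈ U, u * v ≠ v * u) :
    IsCyclic ↥(stabilizer G a ⊓ stabilizer G b) ∧ Cfsg.IsSuzukiTwoGroup ↥U ∧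
      ∃ A : Subgroup G, SzData G Ω a b U A (Nat.card (Subgroup.center ↥U)) (Nat.card U) := by
  classical
  haveI : Fact (Nat.Prime 2) := ⟨Nat.prime_two⟩
  let _ : Fintype (stabilizer G a) := Fintype.ofFinite _
  have hFn : (U.subgroupOf (stabilizer G a)).Normal := by
    constructor
    intro n hn g
    rw [Subgroup.mem_subgroupOf] at hn ⊢
    exact hUn g g.2 n hn
  have hK : IsKernelAt G a U := Cfsg.Agent.Lib.ZassP.isKernelAt_of_regular hZ a U hUle hFn hreg
  have hKc := hK.card_add_one hab.symm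
  rw [Nat.card_eq_fintype_card (α := Ω)] at hKc
  have h3 := Cfsg.Agent.Lib.Zassenhaus.three_le_card hZ
  obtain ⟨k, hk⟩ := IsPGroup.iff_card.mp hU2
  have hk0 : k ≠ 0 := by
    rintro rfl
    rw [pow_zero] at hk
    omega
  have h2U : 2 ∣ Nat.card U := by
    rw [hk]; exact dvd_pow_self 2 hk0
  have hKN : (KK a U).Normal := KK_normal hK
  have he : Odd (Nat.card ↥(stabilizer G a ⊓ stabilizer G b)) := by
    have h1 := Cfsg.Agent.Lib.FrobPartI9.index_mul_ww (fro hZ hK)
    rw [ZassFrob9.card_KK hK, ZassFrob9.index_KK hZ hK hab] at h1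
    rw [← Nat.not_even_iff_odd]
    intro h2
    have h4 : 2 ∣ Nat.card ↥(stabilizer G a ⊓ stabilizer G b) *
        Cfsg.Agent.Lib.FrobPartI9.ww (KK a U) := Dvd.dvd.mul_right h2.two_dvd _
    omega
  have hI : OddInv G Ω := oddInv_of_simple hZ hab he
  have hmain := Cfsg.Agent.Lib.ZassH.odd_main hZ hab he (Cfsg.Agent.Lib.ZassH.hnil_of_simple hZ hab he)
  have hcyc := hmain.1
  have hcomm : ∀ x ∈ stabilizer G a ⊓ stabilizer G b, ∀ y ∈ stabilizer G a ⊓ stabilizer G b,
      x * y = y * x := by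
    intro x hx y hy
    have := hcyc.isMulCommutative.is_comm.comm ⟨x, hx⟩ ⟨y, hy⟩
    exact congrArg Subtype.val this
  have h3H := Cfsg.Agent.Lib.ZassMain9.three_le_of_odd hZ hab he
  -- the involution
  obtain ⟨t, hta, htb⟩ := Cfsg.Agent.Lib.Zassenhaus.two_trans hZ hab hab.symm
  have ht2 : t * t = 1 := swap_mul_self hZ hI hab hta htb
  subst hta
  have hta : t • a ≠ a := fun h => hab h.symm
  -- freeness
  have hfree : ∀ h ∈ stabilizer G a ⊓ stabilizer G (t • a), ∀ s ∈ U, s ≠ 1 → h * s = s * h → h = 1 := by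
    intro h hh s hs hs1 hc
    have h4 := fro hZ hK (⟨s, hK.le s hs⟩ : stabilizer G a)
      (Subgroup.mem_subgroupOf.mpr hs) (fun h => hs1 (congrArg Subtype.val h))
      (x := (⟨h, hh.1⟩ : stabilizer G a)) (by
        rw [Subgroup.mem_centralizer_singleton_iff]
        apply Subtype.ext
        exact hc)
    exact hK.eq_one_of_fix (Subgroup.mem_subgroupOf.mp h4) hta hh.2
  -- the set-up
  have hS : Cfsg.IsRankOneSetup G Ω a t U :=
    { two_transitive := hZ.2.1
      mul_self := ht2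
      ne_one := by
        rintro rfl
        rw [one_smul] at hta
        exact hta rfl
      not_mem := fun h => hta h
      le := hUle
      conj_mem := hUn
      inf_eq_bot := by
        rw [eq_bot_iff]
        intro x hx
        exact hK.eq_one_of_fix hx.1 hta hx.2
      sup_eq := by
        apply le_antisymm
        · exact sup_le hUle inf_le_left
        · intro g hg
          obtain ⟨u, hu, h1, h2⟩ := hK.exists_decomp hta hg
          have h5 : g = u * (u⁻¹ * g) := by group
          rw [h5]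
          exact Subgroup.mul_mem _ (Subgroup.mem_sup_left hu) (Subgroup.mem_sup_right ⟨h1, h2⟩)
      even_card := even_iff_two_dvd.mpr h2U
      odd_card := he }
  obtain ⟨hinvcard, htrans⟩ := Cfsg.Agent.S1122.result hS
  -- the involutions of the stabiliser lie in `U`
  have hinvU : ∀ x : G, x • a = a → x * x = 1 → x ∈ U := by
    intro x hx hx2
    obtain ⟨u, hu, h1, h2⟩ := hK.exists_decomp hta hx
    set h := u⁻¹ * x with hh
    have hH : h ∈ stabilizer G a ⊓ stabilizer G (t • a) := ⟨h1, h2⟩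
    have hxe : x = u * h := by rw [hh]; group
    have h4 : h * h ∈ U := by
      have e : h * h = (h * u⁻¹ * h⁻¹) * u⁻¹ * (u * h * (u * h)) := by group
      rw [e, ← hxe, hx2, mul_one]
      exact U.mul_mem (hUn h h1 _ (U.inv_mem hu)) (U.inv_mem hu)
    have h5 : h * h = 1 := by
      apply hK.eq_one_of_fix h4 hta
      rw [mul_smul, h2, h2]
    have h6 : h = 1 := eq_one_of_mul_self hZ he hH h5
    rw [hxe, h6, mul_one]
    exact hu
  have hmemI : ∀ x : G, x ∈ U → x ≠ 1 → x * x = 1 →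
      x ∈ Cfsg.involutionsIn (stabilizer G a : Set G) := fun x hx h1 h2 => ⟨hUle hx, h1, h2⟩
  -- an involution
  have hUnt : Nontrivial U := by
    obtain ⟨u, hu, v, hv, huv⟩ := hUna
    refine ⟨⟨⟨u, hu⟩, 1, ?_⟩⟩
    intro h
    have h1 : u = 1 := congrArg Subtype.val h
    rw [h1] at huv
    simp at huv
  obtain ⟨x₀, hx₀⟩ := exists_prime_orderOf_dvd_card' (G := U) 2 h2U
  have hx₀1 : (x₀ : G) ≠ 1 := by
    intro h
    have : x₀ = 1 := Subtype.ext h
    rw [this, orderOf_one] at hx₀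
    omega
  have hx₀2 : (x₀ : G) * (x₀ : G) = 1 := by
    have := pow_orderOf_eq_one x₀
    rw [hx₀, sq] at this
    exact congrArg Subtype.val this
  -- the action of `H`
  let conjU : ↥(stabilizer G a ⊓ stabilizer G (t • a)) →* MulAut ↥U :=
    { toFun := fun h =>
        { toFun := fun u => ⟨h * u * (h : G)⁻¹, hUn _ h.2.1 _ u.2⟩
          invFun := fun u => ⟨(h : G)⁻¹ * u * h, by
            have := hUn _ ((stabilizer G a).inv_mem h.2.1) _ u.2
            simpa using this⟩
          left_inv := fun u => by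
            apply Subtype.ext
            simp [mul_assoc]
          right_inv := fun u => by
            apply Subtype.ext
            simp [mul_assoc]
          map_mul' := fun u v => by
            apply Subtype.ext
            simp [mul_assoc] }
      map_one' := by
        ext u
        simp
      map_mul' := fun h h' => by
        ext u
        simp [mul_assoc] }
  have hconjU : ∀ (h : ↥(stabilizer G a ⊓ stabilizer G (t • a))) (u : U),
      ((conjU h u : U) : G) = h * u * (h : G)⁻¹ := fun h u => rfl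
  have hInv : ∀ x y : U, x ≠ 1 → x * x = 1 → y ≠ 1 → y * y = 1 →
      ∃ h : ↥(stabilizer G a ⊓ stabilizer G (t • a)), conjU h x = y := by
    intro x y hx hx2 hy hy2
    have hx1 : (x : G) ≠ 1 := fun h => hx (Subtype.ext h)
    have hy1 : (y : G) ≠ 1 := fun h => hy (Subtype.ext h)
    obtain ⟨k, hk, hke⟩ := htrans x (hmemI x x.2 hx1 (congrArg Subtype.val hx2))
      y (hmemI y y.2 hy1 (congrArg Subtype.val hy2))
    refine ⟨⟨k⁻¹, Subgroup.inv_mem _ hk.1⟩, Subtype.ext ?_⟩
    rw [hconjU]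
    simpa using hke
  have hconjfree : ∀ (h h' : ↥(stabilizer G a ⊓ stabilizer G (t • a))) (x : U), x ≠ 1 →
      conjU h x = conjU h' x → h = h' := by
    intro h h' x hx he
    have h1 : (x : G) ≠ 1 := fun h => hx (Subtype.ext h)
    have h2 : (h : G) * x * (h : G)⁻¹ = h' * x * (h' : G)⁻¹ := congrArg Subtype.val he
    have h4 : (h' : G)⁻¹ * h ∈ stabilizer G a ⊓ stabilizer G (t • a) :=
      Subgroup.mul_mem _ (Subgroup.inv_mem _ h'.2) h.2
    have h5 := hfree _ h4 x x.2 h1 (by
      calc (h' : G)⁻¹ * h * x = (h' : G)⁻¹ * ((h : G) * x * (h : G)⁻¹) * h := by group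
        _ = (h' : G)⁻¹ * ((h' : G) * x * (h' : G)⁻¹) * h := by rw [h2]
        _ = x * ((h' : G)⁻¹ * h) := by group)
    apply Subtype.ext
    have h6 : (h : G) = h' * ((h' : G)⁻¹ * h) := by group
    rw [h6, h5, mul_one]
  -- the Suzuki 2-group
  have hP : Cfsg.IsSuzukiTwoGroup ↥U := by
    refine ⟨inferInstance, hU2, ?_, ?_, conjU.range, ?_, ?_⟩
    · obtain ⟨u, hu, v, hv, huv⟩ := hUna
      refine ⟨⟨u, hu⟩, ⟨v, hv⟩, fun h => huv (congrArg Subtype.val h)⟩
    · -- two involutions
      have h4 : 1 < Nat.card ↥(stabilizer G a ⊓ stabilizer G (t • a)) := by omega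
      haveI : Nontrivial ↥(stabilizer G a ⊓ stabilizer G (t • a)) := Finite.one_lt_card_iff_nontrivial.mp h4
      obtain ⟨h, hh⟩ := exists_ne (1 : ↥(stabilizer G a ⊓ stabilizer G (t • a)))
      have hx₀ne : x₀ ≠ 1 := fun h => hx₀1 (congrArg Subtype.val h)
      have hx₀2' : x₀ * x₀ = 1 := Subtype.ext hx₀2
      refine ⟨x₀, conjU h x₀, ?_, hx₀ne, hx₀2', ?_, ?_⟩
      · intro h5
        apply hh
        apply hconjfree h 1 x₀ hx₀ne
        rw [← h5, map_one]
        rfl
      · intro h5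
        apply hx₀ne
        exact (conjU h).injective (by rw [h5, map_one])
      · rw [← map_mul, hx₀2', map_one]
    · exact isCyclic_of_surjective conjU.rangeRestrict conjU.rangeRestrict_surjective
    · intro x y hx hx2 hy hy2
      obtain ⟨h, hh⟩ := hInv x y hx hx2 hy hy2
      refine ⟨⟨conjU h, h, rfl⟩, hh, ?_⟩
      rintro ⟨_, h', rfl⟩ hh'
      apply Subtype.ext
      have := hconjfree h' h x hx (hh'.trans hh.symm)
      simp only
      rw [this]
  refine ⟨hcyc, hP, ?_⟩
  -- the centre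
  obtain ⟨hS1, hS2, hS3, hS4⟩ := Cfsg.Agent.Lib.SuzOrder.suzuki_main hP
  obtain ⟨A', i1, i2, hfin, -, hh, hna⟩ := Cfsg.Agent.Lib.SuzT1.exists_hyp hP
  have hcenter := Cfsg.Agent.Lib.SuzT1.center_eq_Om hh hna
  have hOm : ∀ x : U, x ∈ Subgroup.center ↥U ↔ x * x = 1 := by
    intro x
    rw [hcenter]
    exact Iff.rfl
  set A : Subgroup G := (Subgroup.center ↥U).map U.subtype with hA
  have hmemA : ∀ x : G, x ∈ A ↔ x ∈ U ∧ x * x = 1 := by
    intro x
    rw [hA, Subgroup.mem_map]
    constructor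
    · rintro ⟨y, hy, rfl⟩
      exact ⟨y.2, congrArg Subtype.val ((hOm y).mp hy)⟩
    · rintro ⟨h1, h2⟩
      exact ⟨⟨x, h1⟩, (hOm _).mpr (Subtype.ext h2), rfl⟩
  have hcentral : ∀ x ∈ A, ∀ u ∈ U, x * u = u * x := by
    intro x hx u hu
    rw [hA, Subgroup.mem_map] at hx
    obtain ⟨y, hy, rfl⟩ := hx
    have := (Subgroup.mem_center_iff.mp hy) ⟨u, hu⟩
    exact (congrArg Subtype.val this).symm
  have hAn : ∀ g : G, g • a = a → ∀ x ∈ A, g * x * g⁻¹ ∈ A := by
    intro g hg x hx
    obtain ⟨h1, h2⟩ := (hmemA x).mp hx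
    rw [hmemA]
    refine ⟨hUn g hg x h1, ?_⟩
    calc g * x * g⁻¹ * (g * x * g⁻¹) = g * (x * x) * g⁻¹ := by group
      _ = 1 := by rw [h2]; group
  have hcardA : Nat.card A = Nat.card (Subgroup.center ↥U) :=
    Nat.card_congr ((Subgroup.center ↥U).equivMapOfInjective _ U.subtype_injective).symm.toEquiv
  have htr : ∀ z ∈ A, z ≠ 1 → ∀ z' ∈ A, z' ≠ 1 → ∃ g : G, g • a = a ∧ g * z * g⁻¹ = z' := by
    intro z hz hz1 z' hz' hz'1
    obtain ⟨h1, h2⟩ := (hmemA z).mp hz
    obtain ⟨h3, h4⟩ := (hmemA z').mp hz'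
    obtain ⟨k, hk, hke⟩ := htrans z (hmemI z h1 hz1 h2) z' (hmemI z' h3 hz'1 h4)
    refine ⟨k⁻¹, ?_, ?_⟩
    · exact (stabilizer G a).inv_mem hk.1.1
    · simpa using hke
  -- the order of the two-point stabiliser
  have hd : Nat.card ↥(stabilizer G a ⊓ stabilizer G (t • a)) + 1 = Nat.card (Subgroup.center ↥U) := by
    have hx₀c : x₀ ∈ Subgroup.center ↥U := (hOm x₀).mpr (Subtype.ext hx₀2)
    have hx₀ne : x₀ ≠ 1 := fun h => hx₀1 (congrArg Subtype.val h)
    have hb : Function.Bijective (fun h : ↥(stabilizer G a ⊓ stabilizer G (t • a)) =>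
        (⟨⟨conjU h x₀, (hOm _).mpr (by
            have hx₀2' : x₀ * x₀ = 1 := Subtype.ext hx₀2
            rw [← map_mul, hx₀2', map_one])⟩, by
          intro h5
          apply hx₀ne
          apply (conjU h).injective
          rw [map_one]
          exact congrArg Subtype.val h5⟩ : {x : Subgroup.center ↥U // x ≠ 1})) := by
      constructor
      · intro h h' he
        apply hconjfree h h' x₀ hx₀ne
        exact congrArg (fun z : {x : Subgroup.center ↥U // x ≠ 1} => ((z : Subgroup.center ↥U) : U)) he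
      · rintro ⟨⟨y, hy⟩, hy1⟩
        have hy1' : y ≠ 1 := fun h => hy1 (Subtype.ext h)
        obtain ⟨h, hh⟩ := hInv x₀ y hx₀ne (Subtype.ext hx₀2) hy1' ((hOm y).mp hy)
        refine ⟨h, ?_⟩
        apply Subtype.ext
        apply Subtype.ext
        exact hh
    have h5 := Nat.card_congr (Equiv.ofBijective _ hb)
    rw [h5]
    have h6 : Nat.card {x : Subgroup.center ↥U // x ≠ 1} + 1 = Nat.card (Subgroup.center ↥U) := by
      classical
      rw [Nat.card_eq_fintype_card, Nat.card_eq_fintype_card, Fintype.card_subtype_compl,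
        Fintype.card_subtype_eq]
      have : 0 < Fintype.card (Subgroup.center ↥U) := Fintype.card_pos
      omega
    exact h6
  have hq4 : 4 ≤ Nat.card (Subgroup.center ↥U) := by omega
  have hqev : Even (Nat.card (Subgroup.center ↥U)) := by
    have h1 : Nat.card (Subgroup.center ↥U) ∣ Nat.card U := Subgroup.card_subgroup_dvd_card _
    rw [hk] at h1
    obtain ⟨e, -, he⟩ := (Nat.dvd_prime_pow Nat.prime_two).mp h1
    have he0 : e ≠ 0 := by
      rintro rfl
      rw [pow_zero] at he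
      omega
    rw [he]
    exact (Nat.even_pow' he0).mpr even_two
  refine ⟨A, ?_⟩
  refine
    { hZ := hZ
      hab := hab
      hK := hK
      hcomm := hcomm
      hI := hI
      hAU := ?_
      hAn := hAn
      hAc := hcentral
      hsq := ?_
      hco := ?_
      hinv := ?_
      hAinv := fun x hx => ((hmemA x).mp hx).2
      htr := htr
      hder := ?_
      hq := hcardA
      hn := rfl
      hd := hd
      hq4 := hq4
      hqev := hqev
      h2n := hU2 }
  · intro x hx
    exact ((hmemA x).mp hx).1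
  · intro u hu
    have h1 := hS1 ⟨u, hu⟩
    rw [hA, Subgroup.mem_map]
    exact ⟨_, h1, rfl⟩
  · intro u hu v hv
    have h1 := hS2 ⟨u, hu⟩⁻¹ ⟨v, hv⟩⁻¹
    rw [hA, Subgroup.mem_map]
    refine ⟨_, h1, ?_⟩
    simp
  · intro u hu h1
    rw [hmemA]
    exact ⟨hu, h1⟩
  · intro z hz
    by_cases hz1 : z = 1
    · exact ⟨1, U.one_mem, 1, U.one_mem, by simp [hz1]⟩
    obtain ⟨u, hu, v, hv, huv⟩ := hUna
    have hc : u * v * u⁻¹ * v⁻¹ ∈ A := by
      have h1 := hS2 ⟨u, hu⟩⁻¹ ⟨v, hv⟩⁻¹
      rw [hA, Subgroup.mem_map]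
      refine ⟨_, h1, ?_⟩
      simp
    have hc1 : u * v * u⁻¹ * v⁻¹ ≠ 1 := by
      intro h
      apply huv
      have h2 : u * v * u⁻¹ * v⁻¹ * (v * u) = v * u := by rw [h, one_mul]
      rw [← h2]
      group
    obtain ⟨g, hg, hgz⟩ := htr _ hc hc1 z hz hz1
    refine ⟨g * u * g⁻¹, hUn g hg u hu, g * v * g⁻¹, hUn g hg v hv, ?_⟩
    rw [← hgz]
    group

end Cfsg.Agent.Lib.SzChar9
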