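import Mathlib
import Cfsg.Agent.Lib.SzChar9

/-!
# Zassenhaus groups with non-abelian kernel of even order: the numerical conclusion
-/

set_option autoImplicit false
set_option linter.unusedSectionVars false
set_option linter.unusedVariables false
set_option linter.style.haveILetI false

open Cfsg MulAction

namespace Cfsg.Agent.Lib.SzMain

open Cfsg.Agent.Lib.SzChar1

theorem odd_of_sq {f : ℕ} {y : ℕ} (h : y ^ 2 = 2 * 2 ^ f) : Odd f := by
  have h1 : y ∣ 2 ^ (f + 1) := by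
    refine ⟨y, ?_⟩
    rw [pow_succ, mul_comm (2 ^ f), ← h, sq]
  obtain ⟨e, -, he⟩ := (Nat.dvd_prime_pow Nat.prime_two).mp h1
  have h2 : 2 ^ (2 * e) = 2 ^ (f + 1) := by
    rw [pow_succ, mul_comm (2 ^ f), ← h, he, ← pow_mul, mul_comm]
  have h3 := Nat.pow_right_injective (le_refl 2) h2
  exact ⟨e - 1, by omega⟩

variable {G Ω : Type*} [Group G] [Fintype G] [MulAction G Ω] [Fintype Ω] {a b : Ω}

/-- Everything about a simple Zassenhaus group with a non-abelian regular normal `2`-subgroup `U` of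
a point stabiliser. -/
theorem main (hZ : IsZassenhausGroup G Ω) [IsSimpleGroup G] (hab : a ≠ b)
    (U : Subgroup G) (hUle : U ≤ stabilizer G a)
    (hUn : ∀ h ∈ stabilizer G a, ∀ u ∈ U, h * u * h⁻¹ ∈ U)
    (hreg : ∀ c d : Ω, c ≠ a → d ≠ a → ∃! u : U, (u : G) • c = d)
    (hU2 : IsPGroup 2 U) (hUna : ∃ u ∈ U, ∃ v ∈ U, u * v ≠ v * u) :
    ∃ f : ℕ, Odd f ∧ 1 < f ∧ Nat.card (Subgroup.center ↥U) = 2 ^ f ∧
      Nat.card U = (2 ^ f) ^ 2 ∧ Nat.card Ω = 2 ^ (2 * f) + 1 ∧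
      IsCyclic ↥(stabilizer G a ⊓ stabilizer G b) ∧
      Nat.card ↥(stabilizer G a ⊓ stabilizer G b) = 2 ^ f - 1 ∧
      Nat.card G = (2 ^ f) ^ 2 * ((2 ^ f) ^ 2 + 1) * (2 ^ f - 1) ∧
      Cfsg.IsSuzukiTwoGroup ↥U := by
  classical
  let _ : Fintype (stabilizer G a) := Fintype.ofFinite _
  obtain ⟨hcyc, hP, A, D⟩ := Cfsg.Agent.Lib.SzChar9.exists_data hZ hab U hUle hUn hreg hU2 hUna
  obtain ⟨f, hf⟩ := Cfsg.Agent.Lib.SzChar6.SzData.exists_pow_q D
  have hcases := (Cfsg.Agent.Lib.SuzOrder.suzuki_main hP).2.2.1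
  rcases hcases with hn | hn
  · obtain ⟨y, hy⟩ := Cfsg.Agent.Lib.SzChar6.SzData.two_case D hn
    have hy' : y.natAbs ^ 2 = 2 * 2 ^ f := by
      have h1 : ((y.natAbs ^ 2 : ℕ) : ℤ) = ((2 * 2 ^ f : ℕ) : ℤ) := by
        push_cast
        rw [sq_abs, hy, hf]
        push_cast
        ring
      exact_mod_cast h1
    have hodd : Odd f := odd_of_sq hy'
    have hq4 := D.hq4
    have hf1 : 1 < f := by
      by_contra h
      have : f ≤ 1 := by omega
      have h2 : 2 ^ f ≤ 2 ^ 1 := Nat.pow_le_pow_right (by norm_num) this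
      rw [hf] at hq4
      omega
    have hd := D.hd
    have hG := D.card_G
    have hΩ := D.card_Omega
    refine ⟨f, hodd, hf1, hf, ?_, ?_, hcyc, ?_, ?_, hP⟩
    · rw [hn, hf]
    · rw [Nat.card_eq_fintype_card, hΩ, hn, hf, pow_mul, ← pow_mul, ← pow_mul, mul_comm]
    · rw [hf] at hd
      omega
    · rw [hG, hn, hf]
      ring
  · exact (Cfsg.Agent.Lib.SzChar8.SzData.three_case D hn).elim

end Cfsg.Agent.Lib.SzMain
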