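import Mathlib
import Cfsg.Agent.Lib.NseCheck

/-!
# The numerical part of the characterisation of `A₄`, `A₅`, `A₆` by element counts
-/

set_option autoImplicit false

namespace Cfsg.Agent.Lib.NseSmallData

open Cfsg.Agent.Lib.NseCheck

def c4 : List (ℕ × ℕ) := [(1, 1), (2, 1), (3, 2), (4, 2), (6, 2), (8, 4), (12, 4), (16, 8), (24, 8)]
def c5 : List (ℕ × ℕ) := [(1, 1), (2, 1), (3, 2), (4, 2), (5, 4), (6, 2), (8, 4), (9, 6), (10, 4), (12, 4), (15, 8), (16, 8), (18, 6), (20, 8), (24, 8), (25, 20), (30, 8), (36, 12), (45, 24), (50, 20), (72, 24), (90, 24)]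
def c6 : List (ℕ × ℕ) := [(1, 1), (2, 1), (3, 2), (4, 2), (5, 4), (6, 2), (7, 6), (8, 4), (9, 6), (10, 4), (12, 4), (14, 6), (15, 8), (16, 8), (18, 6), (20, 8), (21, 12), (24, 8), (25, 20), (27, 18), (28, 12), (30, 8), (32, 16), (35, 24), (36, 12), (40, 16), (42, 12), (45, 24), (48, 16), (50, 20), (54, 18), (56, 24), (60, 16), (63, 36), (70, 24), (72, 24), (75, 40), (84, 24), (90, 24), (100, 40), (105, 48), (108, 36), (112, 48), (126, 36), (135, 72), (140, 48), (144, 48), (150, 40), (168, 48), (180, 48), (200, 80), (210, 48), (216, 72), (252, 72), (270, 72), (300, 80), (315, 144), (432, 144), (504, 144), (540, 144), (630, 144)]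

def T4 : List (ℕ × ℕ) := [(1, 1), (2, 3), (3, 8)]
def T5 : List (ℕ × ℕ) := [(1, 1), (2, 15), (3, 20), (5, 24)]
def T6 : List (ℕ × ℕ) := [(1, 1), (2, 45), (3, 80), (4, 90), (5, 144)]

variable {G : Type*} [Group G] [Finite G]

theorem count4 (hS : ∀ g : G, cnt G (orderOf g) ∈ [1, 3, 8]) (hS' : ∀ m ∈ [1, 3, 8], ∃ g : G, cnt G (orderOf g) = m) :
    Nat.card G = 12 ∧ (∀ kv ∈ T4, cnt G kv.1 = kv.2) ∧ (∀ k, cnt G k ≠ 0 → (k, cnt G k) ∈ T4) :=
  main_check [1, 3, 8] c4 [2, 3] 8 72 (2 ^ 6 * 3 ^ 3) 12 T4 hS hS'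
    (by decide +kernel) (by decide +kernel) (by decide +kernel) (by decide +kernel) (by decide +kernel)
    (by decide +kernel) (by decide +kernel) (by decide +kernel) (by decide +kernel) (by decide +kernel)
    (by decide +kernel)

theorem count5 (hS : ∀ g : G, cnt G (orderOf g) ∈ [1, 15, 20, 24])
    (hS' : ∀ m ∈ [1, 15, 20, 24], ∃ g : G, cnt G (orderOf g) = m) :
    Nat.card G = 60 ∧ (∀ kv ∈ T5, cnt G kv.1 = kv.2) ∧ (∀ k, cnt G k ≠ 0 → (k, cnt G k) ∈ T5) :=
  main_check [1, 15, 20, 24] c5 [2, 3, 5] 24 528 (2 ^ 9 * 3 ^ 5 * 5 ^ 3) 60 T5 hS hS'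
    (by decide +kernel) (by decide +kernel) (by decide +kernel) (by decide +kernel) (by decide +kernel)
    (by decide +kernel) (by decide +kernel) (by decide +kernel) (by decide +kernel) (by decide +kernel)
    (by decide +kernel)

theorem count6 (hS : ∀ g : G, cnt G (orderOf g) ∈ [1, 45, 80, 90, 144])
    (hS' : ∀ m ∈ [1, 45, 80, 90, 144], ∃ g : G, cnt G (orderOf g) = m) :
    Nat.card G = 360 ∧ (∀ kv ∈ T6, cnt G kv.1 = kv.2) ∧ (∀ k, cnt G k ≠ 0 → (k, cnt G k) ∈ T6) :=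
  main_check [1, 45, 80, 90, 144] c6 [2, 3, 5, 7] 144 8784 (2 ^ 13 * 3 ^ 8 * 5 ^ 5 * 7 ^ 4) 360 T6 hS hS'
    (by decide +kernel) (by decide +kernel) (by decide +kernel) (by decide +kernel) (by decide +kernel)
    (by decide +kernel) (by decide +kernel) (by decide +kernel) (by decide +kernel) (by decide +kernel)
    (by decide +kernel)

end Cfsg.Agent.Lib.NseSmallData
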