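import Mathlib
import Cfsg.Agent.Lib.NseSmallData
import Cfsg.Agent.S0228
import Cfsg.Agent.S0494
import Cfsg.Agent.S0497

/-!
# `A₄`, `A₅`, `A₆` are characterised by their numbers of elements of given orders
-/

set_option autoImplicit false
set_option linter.style.haveILetI false

namespace Cfsg.Agent.Lib.NseSmall

open Cfsg.Agent.Lib.NseCheck Cfsg.Agent.Lib.NseSmallData Cfsg.Agent.Lib.FrobCount Equiv

section alt

/-- The order of an even permutation of at most six points. -/
def ordP {n : ℕ} (σ : Perm (Fin n)) : ℕ :=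
  if σ = 1 then 1 else if σ ^ 2 = 1 then 2 else if σ ^ 3 = 1 then 3 else if σ ^ 4 = 1 then 4 else 5

variable {n : ℕ}

theorem orderOf_alt (hord : ∀ σ : Perm (Fin n), Perm.sign σ = 1 →
      σ ^ ordP σ = 1 ∧ ∀ m ∈ Finset.range (ordP σ), m ≠ 0 → σ ^ m ≠ 1) (g : alternatingGroup (Fin n)) :
    orderOf g = ordP g.1 := by
  have hg : Perm.sign g.1 = 1 := Equiv.Perm.mem_alternatingGroup.1 g.2
  have hpos : 0 < ordP g.1 := by
    unfold ordP
    split_ifs <;> norm_num
  rw [← Subgroup.orderOf_coe, orderOf_eq_iff hpos]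
  obtain ⟨h1, h2⟩ := hord _ hg
  exact ⟨h1, fun m hm hm0 => h2 m (Finset.mem_range.2 hm) hm0.ne'⟩

theorem card_alt (hord : ∀ σ : Perm (Fin n), Perm.sign σ = 1 →
      σ ^ ordP σ = 1 ∧ ∀ m ∈ Finset.range (ordP σ), m ≠ 0 → σ ^ m ≠ 1) (m : ℕ) :
    Nat.card {g : alternatingGroup (Fin n) // orderOf g = m} =
      (Finset.univ.filter (fun σ : Perm (Fin n) => Perm.sign σ = 1 ∧ ordP σ = m)).card := by
  rw [← Fintype.card_subtype, ← Nat.card_eq_fintype_card]
  refine Nat.card_congr ⟨fun g => ⟨g.1.1, Equiv.Perm.mem_alternatingGroup.1 g.1.2, ?_⟩,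
    fun σ => ⟨⟨σ.1, Equiv.Perm.mem_alternatingGroup.2 σ.2.1⟩, ?_⟩, fun _ => rfl, fun _ => rfl⟩
  · rw [← orderOf_alt hord]
    exact g.2
  · rw [orderOf_alt hord]
    exact σ.2.2

theorem image_alt (hord : ∀ σ : Perm (Fin n), Perm.sign σ = 1 →
      σ ^ ordP σ = 1 ∧ ∀ m ∈ Finset.range (ordP σ), m ≠ 0 → σ ^ m ≠ 1) (T : List (ℕ × ℕ))
    (h1 : ∀ σ : Perm (Fin n), Perm.sign σ = 1 → ordP σ ∈ T.map Prod.fst)
    (h2 : ∀ kv ∈ T, (Finset.univ.filter (fun σ : Perm (Fin n) => Perm.sign σ = 1 ∧ ordP σ = kv.1)).card = kv.2)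
    (h3 : ∀ kv ∈ T, kv.2 ≠ 0) (x : ℕ) :
    x ∈ (fun m : ℕ => Nat.card {g : alternatingGroup (Fin n) // orderOf g = m}) ''
      Set.range (orderOf : alternatingGroup (Fin n) → ℕ) ↔ x ∈ T.map Prod.snd := by
  constructor
  · rintro ⟨_, ⟨g, rfl⟩, rfl⟩
    have hg : Perm.sign g.1 = 1 := Equiv.Perm.mem_alternatingGroup.1 g.2
    obtain ⟨kv, hkv, hk⟩ := List.mem_map.1 (h1 g.1 hg)
    simp only
    rw [card_alt hord, orderOf_alt hord, ← hk, h2 kv hkv]
    exact List.mem_map.2 ⟨kv, hkv, rfl⟩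
  · intro hx
    obtain ⟨kv, hkv, rfl⟩ := List.mem_map.1 hx
    have h4 := h2 kv hkv
    have h5 : 0 < (Finset.univ.filter (fun σ : Perm (Fin n) => Perm.sign σ = 1 ∧ ordP σ = kv.1)).card := by
      rw [h4]
      exact Nat.pos_of_ne_zero (h3 kv hkv)
    obtain ⟨σ, hσ⟩ := Finset.card_pos.1 h5
    rw [Finset.mem_filter] at hσ
    refine ⟨kv.1, ⟨⟨σ, Equiv.Perm.mem_alternatingGroup.2 hσ.2.1⟩, ?_⟩, ?_⟩
    · rw [orderOf_alt hord]
      exact hσ.2.2
    · simp only
      rw [card_alt hord, h4]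

end alt

section group

variable {G : Type*} [Group G] [Finite G]

theorem mem_of_coprime (N : Subgroup G) [N.Normal] {g : G} (h : Nat.Coprime N.index (orderOf g)) : g ∈ N :=
  Cfsg.Agent.Lib.Nse7920.mem_of_coprime_index N h

/-- The fixed point argument: an element of order `5` acts on `y ^ d = 1` in a normal subgroup
of order prime to `5` without non-trivial fixed points. -/
theorem card_mod_five (hord : ∀ g : G, orderOf g ≤ 5) {x : G} (hx : orderOf x = 5) (N : Subgroup G) [N.Normal]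
    (h5 : ¬ 5 ∣ Nat.card N) (d : ℕ) : Nat.card {y : N // y ^ d = 1} % 5 = 1 := by
  classical
  haveI : Fact (Nat.Prime 5) := ⟨by norm_num⟩
  cases nonempty_fintype G
  haveI : Fintype N := Fintype.ofFinite _
  let E := {y : N // y ^ d = 1}
  let conjN : N →* N := (MulAut.conjNormal x : MulAut N).toMonoidHom
  have hconj : ∀ y : N, ((conjN y : N) : G) = x * y * x⁻¹ := fun y => MulAut.conjNormal_apply x y
  let f : Function.End E := fun y => ⟨conjN y.1, by rw [← map_pow, y.2, map_one]⟩
  have hfpow : ∀ (k : ℕ) (y : E), (((f ^ k) y).1 : G) = x ^ k * y.1 * (x ^ k)⁻¹ := by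
    intro k
    induction k with
    | zero =>
      intro y
      have e : (f ^ 0) y = y := by rw [pow_zero]; rfl
      rw [e]
      simp
    | succ k ih =>
      intro y
      have e : (f ^ (k + 1)) y = f ((f ^ k) y) := by rw [pow_succ']; rfl
      rw [e]
      show ((conjN ((f ^ k) y).1 : N) : G) = _
      rw [hconj, ih, pow_succ']
      group
  have hf5 : f ^ 5 ^ 1 = 1 := by
    funext y
    apply Subtype.ext
    apply Subtype.ext
    rw [pow_one, hfpow]
    have : x ^ 5 = 1 := by rw [← hx]; exact pow_orderOf_eq_one x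
    rw [this]
    simp only [one_mul, inv_one, mul_one]
    rfl
  have hm := Equiv.Perm.card_fixedPoints_modEq hf5
  have hfix : Fintype.card f.fixedPoints = 1 := by
    rw [Fintype.card_eq_one_iff]
    refine ⟨⟨⟨1, one_pow d⟩, ?_⟩, ?_⟩
    · show f _ = _
      apply Subtype.ext
      apply Subtype.ext
      simp [f, hconj]
    · rintro ⟨y, hy⟩
      apply Subtype.ext
      apply Subtype.ext
      by_contra hne
      have hy1 : (y.1 : N) ≠ 1 := fun h => hne (by simp [h])
      have hcomm : x * (y.1 : G) * x⁻¹ = y.1 := by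
        have h1 : f y = y := hy
        have h2 := congrArg (fun z : E => ((z.1 : N) : G)) h1
        simpa [f, hconj] using h2
      have hc : Commute x (y.1 : G) := by
        show x * _ = _ * x
        rw [← hcomm]
        simp only [inv_mul_cancel_right]
        exact congrArg (fun z => x * z) hcomm
      have hcop : Nat.Coprime (orderOf x) (orderOf (y.1 : G)) := by
        rw [hx]
        rw [Nat.Prime.coprime_iff_not_dvd (by norm_num)]
        intro h6
        apply h5
        rw [Subgroup.orderOf_coe] at h6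
        exact h6.trans (orderOf_dvd_natCard y.1)
      have h7 := hc.orderOf_mul_eq_mul_orderOf_of_coprime hcop
      have h8 := hord (x * y.1)
      rw [h7, hx] at h8
      have h9 : orderOf (y.1 : G) ≠ 1 := by
        rw [Subgroup.orderOf_coe, Ne, orderOf_eq_one_iff]
        exact hy1
      have h10 : 0 < orderOf (y.1 : G) := orderOf_pos _
      omega
  rw [hfix, Nat.ModEq] at hm
  rw [Nat.card_eq_fintype_card]
  have h11 : Fintype.card E % 5 = 1 := by simpa using hm
  convert h11

/-- Order `5` elements of a normal subgroup of index prime to `5`, and the sizes of the subsets. -/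
theorem card_le_of_all_mem (N : Subgroup G) (S : Finset ℕ) (h : ∀ g : G, orderOf g ∈ S → g ∈ N) :
    ∑ k ∈ S, cnt G k ≤ Nat.card N := by
  classical
  cases nonempty_fintype G
  haveI : Fintype N := Fintype.ofFinite _
  have h1 : ∑ k ∈ S, cnt G k = (Finset.univ.filter (fun g : G => orderOf g ∈ S)).card := by
    rw [Finset.card_eq_sum_card_fiberwise (f := orderOf) (t := S)]
    · apply Finset.sum_congr rfl
      intro k hk
      unfold cnt
      rw [Nat.card_eq_fintype_card, Fintype.card_subtype]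
      congr 1
      ext g
      simp only [Finset.mem_filter, Finset.mem_univ, true_and]
      constructor
      · intro hg
        exact ⟨hg ▸ hk, hg⟩
      · intro hg
        exact hg.2
    · intro g hg
      simpa using hg
  rw [h1, Nat.card_eq_fintype_card, ← Fintype.card_coe]
  refine Fintype.card_le_of_injective (fun g => ⟨g.1, h g.1 (Finset.mem_filter.1 g.2).2⟩) ?_
  intro a b hab
  have := congrArg (fun z : N => (z : G)) hab
  exact Subtype.ext this

/-- The simplicity argument for `|G| = 60` and `|G| = 360`. -/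
theorem simple_aux {m a3 a5 : ℕ} (hG : Nat.card G = 5 * m) (hm5 : ¬ 5 ∣ m)
    (hord : ∀ g : G, orderOf g ≤ 5)
    (h3 : cnt G 3 = a3) (h5 : cnt G 5 = a5) (ha5 : a5 ≠ 0)
    (hbig : ∀ a, a * 2 = 5 * m → a < a3 + a5 + 1)
    (hcase1 : ∀ a i, a * i = 5 * m → ¬ 5 ∣ i → i ≠ 1 → a5 + 1 ≤ a → i = 2)
    (hcase2 : ∀ a, a ∣ m → a % 5 = 1 → a ≠ 1 → a = 6 ∨ a = 36) : IsSimpleGroup G := by
  classical
  haveI : Fact (Nat.Prime 5) := ⟨by norm_num⟩
  haveI : Fact (Nat.Prime 3) := ⟨by norm_num⟩
  haveI : Fact (Nat.Prime 2) := ⟨by norm_num⟩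
  haveI : Nontrivial G := by
    refine Finite.one_lt_card_iff_nontrivial.1 ?_
    rw [hG]
    have : m ≠ 0 := by
      rintro rfl
      exact hm5 (dvd_zero 5)
    omega
  refine ⟨fun N hN => ?_⟩
  by_contra hcon
  push Not at hcon
  obtain ⟨hbot, htop⟩ := hcon
  have hNcard := N.card_mul_index
  rw [hG] at hNcard
  have hind1 : N.index ≠ 1 := by
    rw [Ne, Subgroup.index_eq_one]
    exact htop
  have hN1 : Nat.card N ≠ 1 := by
    rw [Ne, Subgroup.card_eq_one]
    exact hbot
  -- elements of order 5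
  obtain ⟨x, hx⟩ : ∃ x : G, orderOf x = 5 := by
    have h0 : cnt G 5 ≠ 0 := by rw [h5]; exact ha5
    exact (cnt_ne_zero_iff 5).1 h0
  by_cases hi5 : 5 ∣ N.index
  · -- the normal subgroup has order prime to 5
    have hn5 : ¬ 5 ∣ Nat.card N := by
      intro h
      obtain ⟨u, hu⟩ := h
      obtain ⟨v, hv⟩ := hi5
      apply hm5
      refine ⟨u * v * 5 / 5, ?_⟩
      rw [Nat.mul_div_cancel _ (by norm_num)]
      rw [hu, hv] at hNcard
      nlinarith
    have hdvd : Nat.card N ∣ m := by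
      have h1 : Nat.card N ∣ 5 * m := ⟨_, hNcard.symm⟩
      exact ((Nat.Prime.coprime_iff_not_dvd (by norm_num)).2 hn5).symm.dvd_of_dvd_mul_left h1
    have hmod := card_mod_five hord hx N hn5
    have hall : Nat.card N % 5 = 1 := by
      have h1 := hmod 0
      have h2 : Nat.card {y : N // y ^ 0 = 1} = Nat.card N :=
        Nat.card_congr ⟨fun y => y.1, fun y => ⟨y, pow_zero y⟩, fun _ => rfl, fun _ => rfl⟩
      rwa [h2] at h1
    have hpos : 0 < Nat.card N := Nat.card_pos
    -- the subset `y ^ d = 1` is everything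
    have hevery : ∀ d, d ∣ Nat.card N → (∀ k : ℕ, k ≠ 0 → k * d ≤ Nat.card N → (k * d) % 5 = 1 → k * d = Nat.card N) →
        ∀ y : N, y ^ d = 1 := by
      intro d hd hk y
      have h1 := frobenius_dvd_card_pow_eq_one N d hd
      obtain ⟨k, hkk⟩ := h1
      have h2 := hmod d
      have h3 : Nat.card {y : N // y ^ d = 1} ≤ Nat.card N :=
        Nat.card_le_card_of_injective (fun y => y.1) Subtype.val_injective
      have hk0 : k ≠ 0 := by
        rintro rfl
        rw [hkk, mul_zero] at h2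
        omega
      have h4 := hk k hk0 (by rw [mul_comm, ← hkk]; exact h3) (by rw [mul_comm, ← hkk]; exact h2)
      have h5 : Nat.card {y : N // y ^ d = 1} = Nat.card N := by
        rw [hkk, mul_comm]
        exact h4
      have h6 : Function.Surjective (fun z : {y : N // y ^ d = 1} => z.1) :=
        (Nat.bijective_iff_injective_and_card _).2 ⟨Subtype.val_injective, h5⟩ |>.2
      obtain ⟨z, rfl⟩ := h6 y
      exact z.2
    rcases hcase2 _ hdvd hall hN1 with h6 | h36
    · have h2 : ∀ y : N, y ^ 2 = 1 := by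
        apply hevery
        · rw [h6]; norm_num
        · intro k _ h1 h2
          rw [h6] at h1 ⊢
          omega
      obtain ⟨y, hy⟩ := exists_prime_orderOf_dvd_card' (G := N) 3 (by rw [h6]; norm_num)
      have := orderOf_dvd_of_pow_eq_one (h2 y)
      rw [hy] at this
      omega
    · have h2 : ∀ y : N, y ^ 9 = 1 := by
        apply hevery
        · rw [h36]; norm_num
        · intro k _ h1 h2
          rw [h36] at h1 ⊢
          omega
      obtain ⟨y, hy⟩ := exists_prime_orderOf_dvd_card' (G := N) 2 (by rw [h36]; norm_num)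
      have := orderOf_dvd_of_pow_eq_one (h2 y)
      rw [hy] at this
      omega
  · -- the normal subgroup contains the elements of order 5
    have hc5 : ∀ g : G, orderOf g = 5 → g ∈ N := by
      intro g hg
      apply mem_of_coprime
      rw [hg, Nat.coprime_comm, Nat.Prime.coprime_iff_not_dvd (by norm_num)]
      exact hi5
    have h1 : ∑ k ∈ ({1, 5} : Finset ℕ), cnt G k ≤ Nat.card N := by
      apply card_le_of_all_mem
      intro g hg
      simp only [Finset.mem_insert, Finset.mem_singleton] at hg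
      rcases hg with hg | hg
      · rw [orderOf_eq_one_iff.1 hg]
        exact N.one_mem
      · exact hc5 g hg
    rw [Finset.sum_pair (by norm_num), h5, cnt_one] at h1
    have hi2 := hcase1 _ _ hNcard hi5 hind1 (by omega)
    -- index 2
    have h2 : ∑ k ∈ ({1, 3, 5} : Finset ℕ), cnt G k ≤ Nat.card N := by
      apply card_le_of_all_mem
      intro g hg
      simp only [Finset.mem_insert, Finset.mem_singleton] at hg
      rcases hg with hg | hg | hg
      · rw [orderOf_eq_one_iff.1 hg]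
        exact N.one_mem
      · apply mem_of_coprime
        rw [hg, hi2]
        norm_num
      · exact hc5 g hg
    rw [Finset.sum_insert (by norm_num), Finset.sum_pair (by norm_num), h3, h5, cnt_one] at h2
    have h3' := hbig (Nat.card N) (by rw [← hNcard, hi2])
    omega

/-- The `A₄` case. -/
theorem iso4 (hS : ∀ g : G, cnt G (orderOf g) ∈ [1, 3, 8]) (hS' : ∀ m ∈ [1, 3, 8], ∃ g : G, cnt G (orderOf g) = m) :
    Nonempty (G ≃* alternatingGroup (Fin 4)) := by
  obtain ⟨hc, h1, h2⟩ := count4 hS hS'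
  refine Cfsg.Agent.S0228.result hc ?_
  intro z hz hzc
  have h3 : cnt G 3 = 8 := h1 (3, 8) (by simp [T4])
  have h0 : cnt G 3 ≠ 0 := by rw [h3]; norm_num
  obtain ⟨y, hy⟩ := (cnt_ne_zero_iff 3).1 h0
  have hcomm : Commute z y := (Subgroup.mem_center_iff.1 hzc y).symm
  have h7 := hcomm.orderOf_mul_eq_mul_orderOf_of_coprime (by rw [hz, hy]; norm_num)
  rw [hz, hy] at h7
  have h8 : cnt G 6 ≠ 0 := (cnt_ne_zero_iff 6).2 ⟨_, h7⟩
  have h9 := h2 6 h8
  simp [T4] at h9

theorem ord_le_of_T {T : List (ℕ × ℕ)} (hT : ∀ kv ∈ T, kv.1 ≤ 5) (h2 : ∀ k, cnt G k ≠ 0 → (k, cnt G k) ∈ T) (g : G) :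
    orderOf g ≤ 5 :=
  hT _ (h2 _ ((cnt_ne_zero_iff _).2 ⟨g, rfl⟩))

/-- The `A₅` case. -/
theorem iso5 (hS : ∀ g : G, cnt G (orderOf g) ∈ [1, 15, 20, 24])
    (hS' : ∀ m ∈ [1, 15, 20, 24], ∃ g : G, cnt G (orderOf g) = m) :
    Nonempty (G ≃* alternatingGroup (Fin 5)) := by
  obtain ⟨hc, h1, h2⟩ := count5 hS hS'
  have hord := ord_le_of_T (by decide) h2
  have h3 : cnt G 3 = 20 := h1 (3, 20) (by simp [T5])
  have h5 : cnt G 5 = 24 := h1 (5, 24) (by simp [T5])
  haveI : IsSimpleGroup G := by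
    refine simple_aux (m := 12) (by rw [hc]) (by norm_num) hord h3 h5 (by norm_num) ?_ ?_ ?_
    · intro a ha
      omega
    · intro a i ha hi5 hi1 hle
      have hi : i ∣ 60 := ⟨a, by rw [mul_comm]; omega⟩
      have hi' : i ∈ Nat.divisors 60 := Nat.mem_divisors.2 ⟨hi, by norm_num⟩
      have e : Nat.divisors 60 = {1, 2, 3, 4, 5, 6, 10, 12, 15, 20, 30, 60} := by decide +kernel
      rw [e] at hi'
      simp only [Finset.mem_insert, Finset.mem_singleton] at hi'
      rcases hi' with rfl | rfl | rfl | rfl | rfl | rfl | rfl | rfl | rfl | rfl | rfl | rfl <;> omega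
    · intro a ha ha1 hne
      have hi' : a ∈ Nat.divisors 12 := Nat.mem_divisors.2 ⟨ha, by norm_num⟩
      have e : Nat.divisors 12 = {1, 2, 3, 4, 6, 12} := by decide +kernel
      rw [e] at hi'
      simp only [Finset.mem_insert, Finset.mem_singleton] at hi'
      rcases hi' with rfl | rfl | rfl | rfl | rfl | rfl <;> omega
  exact Cfsg.Agent.S0494.result hc

/-- The `A₆` case. -/
theorem iso6 (hS : ∀ g : G, cnt G (orderOf g) ∈ [1, 45, 80, 90, 144])
    (hS' : ∀ m ∈ [1, 45, 80, 90, 144], ∃ g : G, cnt G (orderOf g) = m) :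
    Nonempty (G ≃* alternatingGroup (Fin 6)) := by
  obtain ⟨hc, h1, h2⟩ := count6 hS hS'
  have hord := ord_le_of_T (by decide) h2
  have h3 : cnt G 3 = 80 := h1 (3, 80) (by simp [T6])
  have h5 : cnt G 5 = 144 := h1 (5, 144) (by simp [T6])
  haveI : IsSimpleGroup G := by
    refine simple_aux (m := 72) (by rw [hc]) (by norm_num) hord h3 h5 (by norm_num) ?_ ?_ ?_
    · intro a ha
      omega
    · intro a i ha hi5 hi1 hle
      have hi : i ∣ 360 := ⟨a, by rw [mul_comm]; omega⟩
      have hlt : i ≤ 2 := by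
        by_contra hcon
        have : 3 * a ≤ i * a := Nat.mul_le_mul_right _ (by omega)
        rw [mul_comm i a] at this
        omega
      have hi0 : i ≠ 0 := by
        rintro rfl
        omega
      omega
    · intro a ha ha1 hne
      have hi' : a ∈ Nat.divisors 72 := Nat.mem_divisors.2 ⟨ha, by norm_num⟩
      have e : Nat.divisors 72 = {1, 2, 3, 4, 6, 8, 9, 12, 18, 24, 36, 72} := by decide +kernel
      rw [e] at hi'
      simp only [Finset.mem_insert, Finset.mem_singleton] at hi'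
      rcases hi' with rfl | rfl | rfl | rfl | rfl | rfl | rfl | rfl | rfl | rfl | rfl | rfl <;> omega
  exact Cfsg.Agent.S0497.result hc

/-- Translation of the hypothesis. -/
theorem transfer {n : ℕ} (T : List (ℕ × ℕ))
    (hA : ∀ x, x ∈ (fun m : ℕ => Nat.card {g : alternatingGroup (Fin n) // orderOf g = m}) ''
      Set.range (orderOf : alternatingGroup (Fin n) → ℕ) ↔ x ∈ T.map Prod.snd)
    (h : ((fun m : ℕ => Nat.card {g : G // orderOf g = m}) '' Set.range (orderOf : G → ℕ)) =
      ((fun m : ℕ => Nat.card {g : ↥(alternatingGroup (Fin n)) // orderOf g = m}) ''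
        Set.range (orderOf : ↥(alternatingGroup (Fin n)) → ℕ))) :
    (∀ g : G, cnt G (orderOf g) ∈ T.map Prod.snd) ∧ ∀ m ∈ T.map Prod.snd, ∃ g : G, cnt G (orderOf g) = m := by
  constructor
  · intro g
    rw [← hA, ← h]
    exact ⟨_, ⟨g, rfl⟩, rfl⟩
  · intro m hm
    rw [← hA, ← h] at hm
    obtain ⟨_, ⟨g, rfl⟩, hg⟩ := hm
    exact ⟨g, hg⟩

end group

theorem hord4 : ∀ σ : Perm (Fin 4), Perm.sign σ = 1 →
    σ ^ ordP σ = 1 ∧ ∀ m ∈ Finset.range (ordP σ), m ≠ 0 → σ ^ m ≠ 1 := by decide +kernel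

theorem hord5 : ∀ σ : Perm (Fin 5), Perm.sign σ = 1 →
    σ ^ ordP σ = 1 ∧ ∀ m ∈ Finset.range (ordP σ), m ≠ 0 → σ ^ m ≠ 1 := by decide +kernel

theorem hord6 : ∀ σ : Perm (Fin 6), Perm.sign σ = 1 →
    σ ^ ordP σ = 1 ∧ ∀ m ∈ Finset.range (ordP σ), m ≠ 0 → σ ^ m ≠ 1 := by decide +kernel

theorem image4 (x : ℕ) : x ∈ (fun m : ℕ => Nat.card {g : alternatingGroup (Fin 4) // orderOf g = m}) ''
      Set.range (orderOf : alternatingGroup (Fin 4) → ℕ) ↔ x ∈ T4.map Prod.snd :=
  image_alt hord4 T4 (by decide +kernel) (by decide +kernel) (by decide +kernel) x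

theorem image5 (x : ℕ) : x ∈ (fun m : ℕ => Nat.card {g : alternatingGroup (Fin 5) // orderOf g = m}) ''
      Set.range (orderOf : alternatingGroup (Fin 5) → ℕ) ↔ x ∈ T5.map Prod.snd :=
  image_alt hord5 T5 (by decide +kernel) (by decide +kernel) (by decide +kernel) x

theorem image6 (x : ℕ) : x ∈ (fun m : ℕ => Nat.card {g : alternatingGroup (Fin 6) // orderOf g = m}) ''
      Set.range (orderOf : alternatingGroup (Fin 6) → ℕ) ↔ x ∈ T6.map Prod.snd :=
  image_alt hord6 T6 (by decide +kernel) (by decide +kernel) (by decide +kernel) x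

end Cfsg.Agent.Lib.NseSmall
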