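import Mathlib
import Cfsg.Agent.S4481
import Cfsg.Agent.S4482
import Cfsg.Agent.S1255
import Cfsg.Agent.Lib.ZStar
import Cfsg.Agent.Lib.DihedralIso
import Cfsg.Agent.Lib.DihSylow
import Cfsg.Agent.Lib.KleinTools
import Cfsg.Agent.Lib.BlockVal
import Cfsg.Agent.Lib.CharKernel
import Cfsg.Agent.Lib.SmallGroups2
import Cfsg.Agent.Lib.O175P1Num

/-!
# Simple groups of order 175560: a Sylow 2-subgroup is not dihedral of order 8

With one class of involutions the order formula for dihedral Sylow 2-subgroups (S4482) leaves only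
`|C(J)| = 8360`, `|C(J, u)| = 4180`; then an element of order 19 fixes at least three of the 21
conjugates of `J`, hence all of them.
-/

set_option autoImplicit false
open Cfsg Subgroup

namespace Cfsg.Agent.Lib.O175.P1

/-! ### The frame -/

variable {G : Type*} [Group G]

/-- A rotation of order four and a reflection. -/
structure Fr (s u : G) : Prop where
  so : orderOf s = 4
  uo : orderOf u = 2
  rel : u * s * u⁻¹ = s⁻¹

namespace Fr

variable {s u : G} (F : Fr s u)
include F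

theorem uu : u * u = 1 := by rw [← pow_two, ← F.uo, pow_orderOf_eq_one]

theorem uinv : u⁻¹ = u := inv_eq_of_mul_eq_one_left F.uu

theorem s4 : s ^ 4 = 1 := by rw [← F.so, pow_orderOf_eq_one]

theorem us : u * s = s⁻¹ * u := by
  have h := F.rel
  calc u * s = u * s * u⁻¹ * u := by group
    _ = s⁻¹ * u := by rw [h]

theorem usinv : u * s⁻¹ = s * u := by
  have h := F.us
  have h2 : u * s * u⁻¹ = s⁻¹ := F.rel
  have h3 : (u * s * u⁻¹)⁻¹ = s := by rw [h2, inv_inv]
  calc u * s⁻¹ = (u * s * u⁻¹)⁻¹ * u := by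
        rw [F.uinv]
        have := F.uu
        simp only [mul_inv_rev, inv_inv]
        rw [F.uinv]
        calc u * s⁻¹ = u * s⁻¹ * (u * u) := by rw [this, mul_one]
          _ = u * (s⁻¹ * (u * u)) := by group
          _ = _ := by group
    _ = s * u := by rw [h3]

theorem sinv2 : s⁻¹ * s⁻¹ = s ^ 2 := by
  calc s⁻¹ * s⁻¹ = s⁻¹ * s⁻¹ * s ^ 4 := by rw [F.s4, mul_one]
    _ = s ^ 2 := by group

theorem Ju : s ^ 2 * u = u * s ^ 2 := by
  have h := F.us
  calc s ^ 2 * u = s⁻¹ * s⁻¹ * u := by rw [F.sinv2]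
    _ = s⁻¹ * (s⁻¹ * u) := by group
    _ = s⁻¹ * (u * s) := by rw [h]
    _ = (s⁻¹ * u) * s := by group
    _ = (u * s) * s := by rw [h]
    _ = u * s ^ 2 := by rw [pow_two, mul_assoc]

theorem JJ : s ^ 2 * s ^ 2 = 1 := by
  calc s ^ 2 * s ^ 2 = s ^ 4 := by group
    _ = 1 := F.s4

theorem J1 : s ^ 2 ≠ 1 := by
  intro h
  have := orderOf_dvd_of_pow_eq_one h
  rw [F.so] at this
  norm_num at this

theorem Jo : orderOf (s ^ 2) = 2 := by
  haveI : Fact (Nat.Prime 2) := ⟨Nat.prime_two⟩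
  apply orderOf_eq_prime _ F.J1
  rw [pow_two]
  exact F.JJ

theorem not_comm : u * s ≠ s * u := by
  intro h
  have h1 : s⁻¹ = s := by
    rw [← F.rel, h]
    group
  apply F.J1
  calc s ^ 2 = s * s := pow_two s
    _ = s⁻¹ * s := by rw [h1]
    _ = 1 := by group

theorem notpow (k : ℕ) : s ^ k ≠ u := by
  intro h
  apply F.not_comm
  rw [← h, ← pow_succ, ← pow_succ']

theorem u1 : u ≠ 1 := by
  rintro rfl
  have := F.uo
  rw [orderOf_one] at this
  norm_num at this

theorem Jne : s ^ 2 ≠ u := F.notpow 2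

theorem Ju_ne : s ^ 2 ≠ s ^ 2 * u := by
  intro h
  exact F.u1 (by simpa using h.symm)

theorem u_ne : u ≠ s ^ 2 * u := by
  intro h
  exact F.J1 (by simpa using h.symm)

theorem su : Fr s (s * u) := by
  have hsq : (s * u) * (s * u) = 1 := by
    calc (s * u) * (s * u) = s * (u * s) * u := by group
      _ = s * (s⁻¹ * u) * u := by rw [F.us]
      _ = u * u := by group
      _ = 1 := F.uu
  refine ⟨F.so, ?_, ?_⟩
  · haveI : Fact (Nat.Prime 2) := ⟨Nat.prime_two⟩
    apply orderOf_eq_prime (by rw [pow_two]; exact hsq)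
    intro h
    have h1 : u = s⁻¹ := eq_inv_of_mul_eq_one_right h
    have h2 : s⁻¹ = s ^ 3 := by
      apply inv_eq_of_mul_eq_one_right
      calc s * s ^ 3 = s ^ 4 := by group
        _ = 1 := F.s4
    exact F.notpow 3 (by rw [h1, h2])
  · calc s * u * s * (s * u)⁻¹ = s * (u * s * u⁻¹) * s⁻¹ := by group
      _ = s * s⁻¹ * s⁻¹ := by rw [F.rel]
      _ = s⁻¹ := by group

theorem conj_Ju : s * u * s⁻¹ = s ^ 2 * u := by
  calc s * u * s⁻¹ = s * (u * s⁻¹) := by group
    _ = s * (s * u) := by rw [F.usinv]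
    _ = s ^ 2 * u := by rw [pow_two, mul_assoc]

end Fr

/-! ### The Sylow 2-subgroup -/

variable [Finite G]

theorem card_P (hG : Nat.card G = 175560) (P : Sylow 2 G) : Nat.card (P : Subgroup G) = 8 := by
  have h := Cfsg.Agent.Lib.SmallGroups2.sylow_card_of_card_eq (p := 2) (a := 3) (m := 21945)
    (by rw [hG]; norm_num) (by norm_num) P
  simpa using h

theorem gen_eq (hG : Nat.card G = 175560) (P : Sylow 2 G) {s u : G} (F : Fr s u)
    (hs : s ∈ (P : Subgroup G)) (hu : u ∈ (P : Subgroup G)) :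
    closure ({s, u} : Set G) = (P : Subgroup G) := by
  have hle : closure ({s, u} : Set G) ≤ (P : Subgroup G) := by
    rw [closure_le]
    rintro x (rfl | rfl)
    · exact hs
    · exact hu
  have hA : zpowers s ≤ closure ({s, u} : Set G) := by
    rw [zpowers_le]
    exact subset_closure (by simp)
  have hcA : Nat.card (zpowers s) = 4 := by rw [Nat.card_zpowers, F.so]
  have h8 : Nat.card (closure ({s, u} : Set G)) ∣ 8 := by
    rw [← card_P hG P]
    exact Subgroup.card_dvd_of_le hle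
  have h4 : 4 ∣ Nat.card (closure ({s, u} : Set G)) := by
    rw [← hcA]
    exact Subgroup.card_dvd_of_le hA
  have hne : Nat.card (closure ({s, u} : Set G)) ≠ 4 := by
    intro h
    have he : zpowers s = closure ({s, u} : Set G) :=
      Subgroup.eq_of_le_of_card_ge hA (by rw [h, hcA])
    have hu' : u ∈ zpowers s := by
      rw [he]
      exact subset_closure (by simp)
    obtain ⟨k, hk⟩ := (mem_powers_iff_mem_zpowers).2 hu'
    exact F.notpow k hk
  have hc : Nat.card (closure ({s, u} : Set G)) = 8 := by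
    obtain ⟨t, ht⟩ := h4
    have hle8 := Nat.le_of_dvd (by norm_num) h8
    rw [ht] at h8 hne hle8
    have ht2 : t ≤ 2 := by omega
    interval_cases t <;> simp_all
  exact Subgroup.eq_of_le_of_card_ge hle (by rw [hc, card_P hG P])

theorem iso_P (hG : Nat.card G = 175560) (P : Sylow 2 G) {s u : G} (F : Fr s u)
    (hs : s ∈ (P : Subgroup G)) (hu : u ∈ (P : Subgroup G)) :
    Nonempty ((P : Subgroup G) ≃* DihedralGroup 4) := by
  refine Cfsg.Agent.Lib.DihedralIso.nonempty_dihedral_of_card (G := (P : Subgroup G))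
    (⟨s, hs⟩ : (P : Subgroup G)) (⟨u, hu⟩ : (P : Subgroup G)) ?_ ?_ ?_ ?_ ?_ ?_
  · exact Subtype.ext F.s4
  · exact Subtype.ext F.uu
  · apply Subtype.ext
    show u * s * u = s⁻¹
    have := F.rel
    rwa [F.uinv] at this
  · rw [Subgroup.orderOf_mk, F.so]
  · intro k h
    exact F.notpow k (congrArg Subtype.val h)
  · rw [card_P hG P]

section simple

variable [IsSimpleGroup G]

theorem no_index_two (hG : Nat.card G = 175560) (H : Subgroup G) : H.index ≠ 2 := by
  intro h
  have hN := Subgroup.normal_of_index_eq_two h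
  rcases hN.eq_bot_or_eq_top with rfl | rfl
  · rw [Subgroup.index_bot, hG] at h
    norm_num at h
  · rw [Subgroup.index_top] at h
    norm_num at h

theorem no_isolated {s u : G} (F : Fr s u) (z : G) (hI : IsIsolatedInvolution z) : False := by
  have hS := Cfsg.Agent.Lib.ZStar.zstar hI
  have hz := hI.1
  have hcore : pPrimeCore 2 G = ⊥ := by
    unfold pPrimeCore
    rw [sSup_eq_bot]
    rintro N ⟨hN, hc⟩
    refine hN.eq_bot_or_eq_top.resolve_right ?_
    rintro rfl
    have hdvd : 2 ∣ Nat.card G := by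
      rw [← hz]
      exact orderOf_dvd_natCard z
    rw [Subgroup.card_top] at hc
    have := Nat.Coprime.eq_one_of_dvd hc.symm hdvd
    norm_num at this
  have hcent : z ∈ center G := by
    rw [Subgroup.mem_center_iff]
    intro g
    have h1 := hS g
    rw [hcore, mem_bot] at h1
    have h2 : g * z * g⁻¹ = z := by
      calc g * z * g⁻¹ = g * z * g⁻¹ * z⁻¹ * z := by group
        _ = z := by rw [h1, one_mul]
    calc g * z = g * z * g⁻¹ * g := by group
      _ = z * g := by rw [h2]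
  rcases (inferInstance : (center G).Normal).eq_bot_or_eq_top with h | h
  · rw [h, mem_bot] at hcent
    rw [hcent, orderOf_one] at hz
    norm_num at hz
  · have : u ∈ center G := by rw [h]; trivial
    exact F.not_comm ((Subgroup.mem_center_iff.1 this) s).symm

theorem conj_of_rel {P : Subgroup G} {s u : G} (F : Fr s u) (hs : s ∈ P) (hu : u ∈ P)
    (h6 : ∀ U : Subgroup G, U ≤ P → IsKleinFour U →
      (centralizer (U : Set G)).relIndex (normalizer (U : Set G)) = 6) : IsConj (s ^ 2) u := by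
  have ha : (s ^ 2) ^ 2 = 1 := by rw [pow_two (s ^ 2)]; exact F.JJ
  have hb : u ^ 2 = 1 := by rw [pow_two]; exact F.uu
  set U := Cfsg.Agent.Lib.KleinTools.kleinOf (s ^ 2) u ha hb F.Ju with hU
  have hmem : ∀ {x : G}, x ∈ U ↔ x = 1 ∨ x = s ^ 2 ∨ x = u ∨ x = s ^ 2 * u :=
    Cfsg.Agent.Lib.KleinTools.mem_kleinOf
  have hUP : U ≤ P := by
    intro x hx
    rcases hmem.1 hx with rfl | rfl | rfl | rfl
    · exact P.one_mem
    · exact P.pow_mem hs 2
    · exact hu
    · exact P.mul_mem (P.pow_mem hs 2) hu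
  have hK : IsKleinFour U :=
    Cfsg.Agent.Lib.KleinTools.isKleinFour_kleinOf ha hb F.Ju F.J1 F.u1 F.Jne
  have h6' := h6 U hUP hK
  by_contra hnc
  have hn1 : ∀ x : G, x * s ^ 2 * x⁻¹ ≠ u := fun x h => hnc (isConj_iff.2 ⟨x, h⟩)
  have hn2 : ∀ x : G, x * s ^ 2 * x⁻¹ ≠ s ^ 2 * u := by
    intro x h
    apply hn1 (s⁻¹ * x)
    calc s⁻¹ * x * s ^ 2 * (s⁻¹ * x)⁻¹ = s⁻¹ * (x * s ^ 2 * x⁻¹) * s := by group
      _ = s⁻¹ * (s * u * s⁻¹) * s := by rw [h, F.conj_Ju]
      _ = u := by group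
  have hinU : ∀ x ∈ normalizer (U : Set G), ∀ w ∈ U, x * w * x⁻¹ ∈ U := by
    intro x hx w hw
    exact (Subgroup.mem_normalizer_iff.1 hx w).1 hw
  have hJU : s ^ 2 ∈ U := hmem.2 (Or.inr (Or.inl rfl))
  have huU : u ∈ U := hmem.2 (Or.inr (Or.inr (Or.inl rfl)))
  have hv : ∀ x ∈ normalizer (U : Set G), x * s ^ 2 * x⁻¹ = s ^ 2 := by
    intro x hx
    rcases hmem.1 (hinU x hx _ hJU) with h | h | h | h
    · exfalso
      apply F.J1
      have : x * s ^ 2 = x := by
        calc x * s ^ 2 = x * s ^ 2 * x⁻¹ * x := by group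
          _ = x := by rw [h, one_mul]
      simpa using this
    · exact h
    · exact absurd h (hn1 x)
    · exact absurd h (hn2 x)
  have ht : ∀ x ∈ normalizer (U : Set G), x * u * x⁻¹ = u ∨ x * u * x⁻¹ = s ^ 2 * u := by
    intro x hx
    rcases hmem.1 (hinU x hx _ huU) with h | h | h | h
    · exfalso
      apply F.u1
      have : x * u = x := by
        calc x * u = x * u * x⁻¹ * x := by group
          _ = x := by rw [h, one_mul]
      simpa using this
    · exfalso
      apply hn1 x⁻¹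
      calc x⁻¹ * s ^ 2 * x⁻¹⁻¹ = x⁻¹ * (x * u * x⁻¹) * x := by rw [h]; group
        _ = u := by group
    · exact Or.inl h
    · exact Or.inr h
  have hC : ∀ x ∈ normalizer (U : Set G), x * s ^ 2 * x⁻¹ = s ^ 2 → x * u * x⁻¹ = u →
      x ∈ centralizer (U : Set G) := by
    intro x _ h1 h2
    have h1' : x * s ^ 2 = s ^ 2 * x := by
      calc x * s ^ 2 = x * s ^ 2 * x⁻¹ * x := by group
        _ = s ^ 2 * x := by rw [h1]
    have h2' : x * u = u * x := by
      calc x * u = x * u * x⁻¹ * x := by group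
        _ = u * x := by rw [h2]
    rw [Subgroup.mem_centralizer_iff]
    intro w hw
    rcases hmem.1 hw with rfl | rfl | rfl | rfl
    · simp
    · exact h1'.symm
    · exact h2'.symm
    · calc s ^ 2 * u * x = s ^ 2 * (u * x) := by group
        _ = s ^ 2 * (x * u) := by rw [h2']
        _ = (s ^ 2 * x) * u := by group
        _ = (x * s ^ 2) * u := by rw [h1']
        _ = x * (s ^ 2 * u) := by group
  have hle := Cfsg.Agent.Lib.DihSylow.relIndex_le_two (normalizer (U : Set G)) (centralizer (U : Set G))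
    (s ^ 2) u (s ^ 2 * u) hv ht hC
  rw [h6'] at hle
  norm_num at hle

theorem conj_pair (hG : Nat.card G = 175560) (P : Sylow 2 G) {s u : G} (F : Fr s u)
    (hs : s ∈ (P : Subgroup G)) (hu : u ∈ (P : Subgroup G)) :
    IsConj (s ^ 2) u ∧ IsConj (s ^ 2) (s * u) := by
  obtain ⟨e⟩ := iso_P hG P F hs hu
  have hL : (∀ H : Subgroup G, H.index ≠ 2) ∧ (∀ z : G, ¬ Cfsg.IsIsolatedInvolution z) :=
    ⟨no_index_two hG, fun z hz => no_isolated F z hz⟩
  rcases (Cfsg.Agent.S1255.result P 4 (by norm_num) e).1 hL with hall | hrel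
  · exact ⟨hall _ _ F.Jo F.uo, hall _ _ F.Jo F.su.uo⟩
  · have h6 : ∀ U : Subgroup G, U ≤ (P : Subgroup G) → IsKleinFour U →
        (centralizer (U : Set G)).relIndex (normalizer (U : Set G)) = 6 := by
      intro U hU hK
      have := hrel U hU hK
      rwa [card_P hG P, if_neg (by norm_num)] at this
    exact ⟨conj_of_rel F hs hu h6, conj_of_rel F.su hs ((P : Subgroup G).mul_mem hs hu) h6⟩

end simple

/-- A central involution of the Sylow subgroup is `s ^ 2`. -/
theorem eq_J_of_comm (hG : Nat.card G = 175560) (P : Sylow 2 G) {s u : G} (F : Fr s u)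
    (hs : s ∈ (P : Subgroup G)) (hu : u ∈ (P : Subgroup G)) {x : G} (hx : x ∈ (P : Subgroup G))
    (hc : x * s = s * x) (hxx : x * x = 1) (hx1 : x ≠ 1) : x = s ^ 2 := by
  set D : Subgroup G := (P : Subgroup G) ⊓ centralizer ({s} : Set G) with hD
  have hAD : zpowers s ≤ D := by
    rw [zpowers_le]
    exact Subgroup.mem_inf.2 ⟨hs, mem_centralizer_singleton_iff.2 rfl⟩
  have hcA : Nat.card (zpowers s) = 4 := by rw [Nat.card_zpowers, F.so]
  have h8 : Nat.card D ∣ 8 := by
    rw [← card_P hG P]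
    exact Subgroup.card_dvd_of_le inf_le_left
  have h4 : 4 ∣ Nat.card D := by
    rw [← hcA]
    exact Subgroup.card_dvd_of_le hAD
  have hne : Nat.card D ≠ 8 := by
    intro h
    have he : D = (P : Subgroup G) := Subgroup.eq_of_le_of_card_ge inf_le_left (by rw [h, card_P hG P])
    have hu' : u ∈ D := by rw [he]; exact hu
    have := mem_centralizer_singleton_iff.1 (Subgroup.mem_inf.1 hu').2
    exact F.not_comm this
  have hc4 : Nat.card D = 4 := by
    obtain ⟨t, ht⟩ := h4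
    have hle8 := Nat.le_of_dvd (by norm_num) h8
    rw [ht] at h8 hne hle8 ⊢
    have ht2 : t ≤ 2 := by omega
    interval_cases t <;> simp_all
  have hAe : zpowers s = D := Subgroup.eq_of_le_of_card_ge hAD (by rw [hc4, hcA])
  have hxD : x ∈ D := Subgroup.mem_inf.2 ⟨hx, mem_centralizer_singleton_iff.2 hc⟩
  rw [← hAe] at hxD
  obtain ⟨k, hk0⟩ := (mem_powers_iff_mem_zpowers).2 hxD
  have hk : s ^ k = x := hk0
  rw [← pow_mod_orderOf, F.so] at hk
  have hlt : k % 4 < 4 := Nat.mod_lt _ (by norm_num)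
  have hs4 := F.s4
  generalize k % 4 = r at hk hlt
  interval_cases r
  · exact absurd (by simpa using hk.symm) hx1
  · exfalso
    apply F.J1
    rw [pow_one] at hk
    rw [pow_two, hk]
    exact hxx
  · exact hk.symm
  · exfalso
    apply F.J1
    rw [← hk] at hxx
    have h6 : s ^ 3 * s ^ 3 = s ^ 2 := by
      calc s ^ 3 * s ^ 3 = s ^ 4 * s ^ 2 := by group
        _ = s ^ 2 := by rw [hs4, one_mul]
    rw [← h6]
    exact hxx

/-- The 2-part of the centralizer of a four-group. -/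
theorem cent_pair (hG : Nat.card G = 175560) (P : Sylow 2 G) {s u : G} (F : Fr s u)
    (hs : s ∈ (P : Subgroup G)) (hu : u ∈ (P : Subgroup G)) :
    ∃ a : ℕ, Odd a ∧ Nat.card (centralizer ({s ^ 2, u} : Set G)) = 4 * a := by
  classical
  set K : Subgroup G := centralizer ({s ^ 2, u} : Set G) with hK
  have hcomm : ∀ {x : G}, x ∈ K ↔ x * s ^ 2 = s ^ 2 * x ∧ x * u = u * x := by
    intro x
    rw [hK, Subgroup.mem_centralizer_iff]
    constructor
    · intro h
      exact ⟨(h _ (by simp)).symm, (h _ (by simp)).symm⟩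
    · rintro ⟨h1, h2⟩ w (rfl | rfl)
      · exact h1.symm
      · exact h2.symm
  have ha : (s ^ 2) ^ 2 = 1 := by rw [pow_two (s ^ 2)]; exact F.JJ
  have hb : u ^ 2 = 1 := by rw [pow_two]; exact F.uu
  have h4 : 4 ∣ Nat.card K := by
    set U := Cfsg.Agent.Lib.KleinTools.kleinOf (s ^ 2) u ha hb F.Ju with hU
    have hmem : ∀ {x : G}, x ∈ U ↔ x = 1 ∨ x = s ^ 2 ∨ x = u ∨ x = s ^ 2 * u :=
      Cfsg.Agent.Lib.KleinTools.mem_kleinOf
    have hK4 : IsKleinFour U :=
      Cfsg.Agent.Lib.KleinTools.isKleinFour_kleinOf ha hb F.Ju F.J1 F.u1 F.Jne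
    have hUK : U ≤ K := by
      intro x hx
      rw [hcomm]
      have e1 := F.Ju
      have e2 := F.uu
      rcases hmem.1 hx with rfl | rfl | rfl | rfl
      · simp
      · exact ⟨rfl, e1⟩
      · exact ⟨e1.symm, rfl⟩
      · constructor
        · calc s ^ 2 * u * s ^ 2 = s ^ 2 * (u * s ^ 2) := by group
            _ = s ^ 2 * (s ^ 2 * u) := by rw [e1]
        · calc s ^ 2 * u * u = s ^ 2 * (u * u) := by group
            _ = u * (s ^ 2 * u) := by rw [e2, mul_one, ← mul_assoc, ← e1, mul_assoc, e2, mul_one]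
    have hc4 : Nat.card U = 4 := IsKleinFour.card_four
    rw [← hc4]
    exact Subgroup.card_dvd_of_le hUK
  have h8 : ¬ 8 ∣ Nat.card K := by
    intro hd
    obtain ⟨T', hT'⟩ := Sylow.exists_subgroup_card_pow_prime (G := K) 2 (n := 3) (by simpa using hd)
    set T : Subgroup G := T'.map K.subtype with hTd
    have hcT : Nat.card T = 8 := by
      rw [hTd, Subgroup.card_map_of_injective K.subtype_injective, hT']
      norm_num
    have hTK : T ≤ K := by
      rintro x ⟨y, -, rfl⟩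
      exact y.2
    have hf : 2 ^ (Nat.card G).factorization 2 = 8 := by
      rw [← card_P hG P]
      exact (Sylow.card_eq_multiplicity P).symm
    let S₁ : Sylow 2 G := Sylow.ofCard T (by rw [hcT, hf])
    have hS₁ : ((S₁ : Sylow 2 G) : Subgroup G) = T := Sylow.coe_ofCard _ _
    have key : ∀ w : G, w * w = 1 → (∀ t ∈ T, t * w = w * t) → w ∈ T := by
      intro w hww hct
      have hZ : IsPGroup 2 (zpowers w) := by
        intro x
        obtain ⟨i, hi⟩ := Subgroup.mem_zpowers_iff.1 x.2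
        refine ⟨1, Subtype.ext ?_⟩
        have : ((x : zpowers w) : G) ^ 2 = 1 := by
          rw [← hi, ← zpow_natCast, ← zpow_mul, mul_comm, zpow_mul, zpow_natCast, pow_two, hww, one_zpow]
        simpa using this
      have hnorm : w ∈ normalizer ((S₁ : Subgroup G) : Set G) := by
        rw [Subgroup.mem_normalizer_iff, hS₁]
        intro h
        constructor
        · intro hh
          have : w * h * w⁻¹ = h := by
            rw [← hct h hh]
            group
          rw [this]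
          exact hh
        · intro hh
          have h1 := hct _ hh
          have : w * h * w⁻¹ = h := by
            have h2 : w⁻¹ = w := inv_eq_of_mul_eq_one_left hww
            rw [h2] at h1 ⊢
            calc w * h * w = (w * h * w) * (w * w) := by rw [hww, mul_one]
              _ = (w * h * w * w) * w := by group
              _ = (w * (w * h * w)) * w := by rw [h1]
              _ = (w * w) * h * (w * w) := by group
              _ = h := by rw [hww]; group
          rwa [this] at hh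
      have hinf := IsPGroup.inf_normalizer_sylow hZ S₁
      have hm : w ∈ zpowers w ⊓ (S₁ : Subgroup G) := by
        rw [← hinf]
        exact Subgroup.mem_inf.2 ⟨mem_zpowers w, hnorm⟩
      have := (Subgroup.mem_inf.1 hm).2
      rwa [hS₁] at this
    have hJT : s ^ 2 ∈ T := key _ F.JJ (fun t ht => (hcomm.1 (hTK ht)).1)
    have huT : u ∈ T := key _ F.uu (fun t ht => (hcomm.1 (hTK ht)).2)
    obtain ⟨g, hg⟩ := MulAction.exists_smul_eq G S₁ P
    have hPT : ∀ y : G, y ∈ (P : Subgroup G) ↔ g⁻¹ * y * g ∈ T := by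
      intro y
      rw [← hg, Cfsg.Agent.Lib.SmallGroups2.mem_smul_sylow_iff, hS₁]
    have hwP : ∀ w ∈ T, g * w * g⁻¹ ∈ (P : Subgroup G) := by
      intro w hw
      rw [hPT]
      have : g⁻¹ * (g * w * g⁻¹) * g = w := by group
      rwa [this]
    have hsT : g⁻¹ * s * g ∈ T := (hPT s).1 hs
    have hcs1 : (g * s ^ 2 * g⁻¹) * s = s * (g * s ^ 2 * g⁻¹) := by
      have h1 := (hcomm.1 (hTK hsT)).1
      calc (g * s ^ 2 * g⁻¹) * s = g * (s ^ 2 * (g⁻¹ * s * g)) * g⁻¹ := by group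
        _ = g * ((g⁻¹ * s * g) * s ^ 2) * g⁻¹ := by rw [h1]
        _ = s * (g * s ^ 2 * g⁻¹) := by group
    have hcs2 : (g * u * g⁻¹) * s = s * (g * u * g⁻¹) := by
      have h1 := (hcomm.1 (hTK hsT)).2
      calc (g * u * g⁻¹) * s = g * (u * (g⁻¹ * s * g)) * g⁻¹ := by group
        _ = g * ((g⁻¹ * s * g) * u) * g⁻¹ := by rw [h1]
        _ = s * (g * u * g⁻¹) := by group
    have hsq1 : (g * s ^ 2 * g⁻¹) * (g * s ^ 2 * g⁻¹) = 1 := by
      calc _ = g * (s ^ 2 * s ^ 2) * g⁻¹ := by group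
        _ = 1 := by rw [F.JJ]; group
    have hsq2 : (g * u * g⁻¹) * (g * u * g⁻¹) = 1 := by
      calc _ = g * (u * u) * g⁻¹ := by group
        _ = 1 := by rw [F.uu]; group
    have hne1 : g * s ^ 2 * g⁻¹ ≠ 1 := by
      intro h
      apply F.J1
      have : g * s ^ 2 = g := by
        calc g * s ^ 2 = g * s ^ 2 * g⁻¹ * g := by group
          _ = g := by rw [h, one_mul]
      simpa using this
    have hne2 : g * u * g⁻¹ ≠ 1 := by
      intro h
      apply F.u1
      have : g * u = g := by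
        calc g * u = g * u * g⁻¹ * g := by group
          _ = g := by rw [h, one_mul]
      simpa using this
    have e1 := eq_J_of_comm hG P F hs hu (hwP _ hJT) hcs1 hsq1 hne1
    have e2 := eq_J_of_comm hG P F hs hu (hwP _ huT) hcs2 hsq2 hne2
    apply F.Jne
    have e3 : g * s ^ 2 * g⁻¹ = g * u * g⁻¹ := by rw [e1, e2]
    exact mul_left_cancel (mul_right_cancel e3)
  obtain ⟨a, ha'⟩ := h4
  refine ⟨a, ?_, ha'⟩
  by_contra hodd
  rw [Nat.not_odd_iff_even] at hodd
  obtain ⟨c, rfl⟩ := hodd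
  apply h8
  rw [ha']
  exact ⟨c, by ring⟩

section simple2

variable [IsSimpleGroup G]

/-- The exceptional value of the order formula: an element of order 19 fixes three of the 21 conjugates of `J`. -/
theorem no_1045 (hG : Nat.card G = 175560) {s u : G} (F : Fr s u)
    (hC : Nat.card (centralizer ({s ^ 2} : Set G)) = 8360)
    (hc : 19 ∣ Nat.card (centralizer ({s ^ 2, u} : Set G))) (h1 : IsConj (s ^ 2) u) : False := by
  classical
  haveI : Fact (Nat.Prime 19) := ⟨by norm_num⟩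
  set H : Subgroup G := centralizer ({s ^ 2} : Set G) with hH
  have hindex : H.index = 21 := by
    have h := Subgroup.card_mul_index H
    rw [hC, hG] at h
    omega
  have hHmem : ∀ {x : G}, x ∈ H ↔ x * s ^ 2 = s ^ 2 * x := by
    intro x
    rw [hH, mem_centralizer_singleton_iff]
  obtain ⟨y0, hy0⟩ := exists_prime_orderOf_dvd_card' 19 hc
  set y : G := (y0 : G) with hy
  have hoy : orderOf y = 19 := by rw [hy, Subgroup.orderOf_coe, hy0]
  have hyprop := Subgroup.mem_centralizer_iff.1 y0.2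
  have hyJ : s ^ 2 * y = y * s ^ 2 := hyprop _ (by simp)
  have hyu : u * y = y * u := hyprop _ (by simp)
  have hY : IsPGroup 19 (zpowers y) := IsPGroup.of_card (n := 1) (by rw [Nat.card_zpowers, hoy, pow_one])
  have hmod := hY.card_modEq_card_fixedPoints (G ⧸ H)
  have hcardα : Nat.card (G ⧸ H) = 21 := hindex
  rw [hcardα] at hmod
  set Fx : Set (G ⧸ H) := MulAction.fixedPoints (zpowers y) (G ⧸ H) with hFx
  have hcoset : ∀ a b : G, ((a : G ⧸ H) = (b : G ⧸ H)) → a * s ^ 2 * a⁻¹ = b * s ^ 2 * b⁻¹ := by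
    intro a b h
    rw [QuotientGroup.eq] at h
    have h2 := hHmem.1 h
    calc a * s ^ 2 * a⁻¹ = a * (s ^ 2 * (a⁻¹ * b)) * b⁻¹ := by group
      _ = a * ((a⁻¹ * b) * s ^ 2) * b⁻¹ := by rw [h2]
      _ = b * s ^ 2 * b⁻¹ := by group
  have hfix : ∀ g : G, y * (g * s ^ 2 * g⁻¹) = (g * s ^ 2 * g⁻¹) * y → ((g : G ⧸ H) ∈ Fx) := by
    intro g hg
    rw [hFx, MulAction.mem_fixedPoints]
    rintro ⟨z, hz⟩
    have hzc : z ∈ centralizer ({g * s ^ 2 * g⁻¹} : Set G) := by
      have : zpowers y ≤ centralizer ({g * s ^ 2 * g⁻¹} : Set G) := by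
        rw [zpowers_le, mem_centralizer_singleton_iff]
        exact hg
      exact this hz
    rw [mem_centralizer_singleton_iff] at hzc
    show ((z * g : G) : G ⧸ H) = g
    rw [QuotientGroup.eq, hHmem]
    have hzi : z⁻¹ * (g * s ^ 2 * g⁻¹) = (g * s ^ 2 * g⁻¹) * z⁻¹ := by
      calc z⁻¹ * (g * s ^ 2 * g⁻¹) = z⁻¹ * ((g * s ^ 2 * g⁻¹) * z) * z⁻¹ := by group
        _ = z⁻¹ * (z * (g * s ^ 2 * g⁻¹)) * z⁻¹ := by rw [hzc]
        _ = (g * s ^ 2 * g⁻¹) * z⁻¹ := by group
    calc (z * g)⁻¹ * g * s ^ 2 = g⁻¹ * (z⁻¹ * (g * s ^ 2 * g⁻¹)) * g := by group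
      _ = g⁻¹ * ((g * s ^ 2 * g⁻¹) * z⁻¹) * g := by rw [hzi]
      _ = s ^ 2 * ((z * g)⁻¹ * g) := by group
  obtain ⟨g₁, hg₁⟩ := isConj_iff.1 h1
  have hg₂ : (s * g₁) * s ^ 2 * (s * g₁)⁻¹ = s ^ 2 * u := by
    calc (s * g₁) * s ^ 2 * (s * g₁)⁻¹ = s * (g₁ * s ^ 2 * g₁⁻¹) * s⁻¹ := by group
      _ = s * u * s⁻¹ := by rw [hg₁]
      _ = s ^ 2 * u := F.conj_Ju
  have hf0 : ((1 : G) : G ⧸ H) ∈ Fx := by
    apply hfix
    simp only [one_mul, inv_one, mul_one]
    exact hyJ.symm
  have hf1 : ((g₁ : G) : G ⧸ H) ∈ Fx := by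
    apply hfix
    rw [hg₁]
    exact hyu.symm
  have hf2 : ((s * g₁ : G) : G ⧸ H) ∈ Fx := by
    apply hfix
    rw [hg₂]
    calc y * (s ^ 2 * u) = (y * s ^ 2) * u := by group
      _ = (s ^ 2 * y) * u := by rw [hyJ]
      _ = s ^ 2 * (y * u) := by group
      _ = s ^ 2 * (u * y) := by rw [hyu]
      _ = s ^ 2 * u * y := by group
  have h01 : ((1 : G) : G ⧸ H) ≠ ((g₁ : G) : G ⧸ H) := by
    intro h
    have := hcoset _ _ h
    rw [hg₁] at this
    exact F.Jne (by simpa using this)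
  have h02 : ((1 : G) : G ⧸ H) ≠ ((s * g₁ : G) : G ⧸ H) := by
    intro h
    have := hcoset _ _ h
    rw [hg₂] at this
    exact F.Ju_ne (by simpa using this)
  have h12 : ((g₁ : G) : G ⧸ H) ≠ ((s * g₁ : G) : G ⧸ H) := by
    intro h
    have := hcoset _ _ h
    rw [hg₁, hg₂] at this
    exact F.u_ne this
  have h3 : 3 ≤ Fx.ncard := by
    have hcard3 : (({((1 : G) : G ⧸ H), ((g₁ : G) : G ⧸ H), ((s * g₁ : G) : G ⧸ H)} : Finset (G ⧸ H))).card = 3 :=
      Finset.card_eq_three.2 ⟨_, _, _, h01, h02, h12, rfl⟩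
    rw [← hcard3, ← Set.ncard_coe_finset]
    apply Set.ncard_le_ncard _ (Set.toFinite _)
    intro w hw
    simp only [Finset.coe_insert, Finset.coe_singleton, Set.mem_insert_iff, Set.mem_singleton_iff] at hw
    rcases hw with rfl | rfl | rfl
    · exact hf0
    · exact hf1
    · exact hf2
  have hle : Fx.ncard ≤ 21 := by
    have := Set.ncard_le_ncard (Set.subset_univ Fx) (Set.toFinite _)
    rwa [Set.ncard_univ, hcardα] at this
  have hmod' : Fx.ncard % 19 = 2 := by
    have h4 : Nat.card (MulAction.fixedPoints (zpowers y) (G ⧸ H)) = Fx.ncard := Nat.card_coe_set_eq _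
    rw [h4] at hmod
    have h5 : 21 % 19 = Fx.ncard % 19 := hmod
    omega
  have h21 : Fx.ncard = 21 := by omega
  have huniv : Fx = Set.univ := by
    exact Set.eq_of_subset_of_ncard_le (Set.subset_univ Fx) (by rw [Set.ncard_univ, hcardα, h21])
  have hall : ∀ g : G, y * (g * s ^ 2 * g⁻¹) = (g * s ^ 2 * g⁻¹) * y := by
    intro g
    have hg : ((g : G) : G ⧸ H) ∈ Fx := by rw [huniv]; trivial
    rw [hFx, MulAction.mem_fixedPoints] at hg
    have h2 := hg ⟨y, mem_zpowers y⟩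
    have h3' : ((y * g : G) : G ⧸ H) = g := h2
    have h4 := hcoset _ _ h3'
    have h5 : y * (g * s ^ 2 * g⁻¹) * y⁻¹ = g * s ^ 2 * g⁻¹ := by
      calc y * (g * s ^ 2 * g⁻¹) * y⁻¹ = (y * g) * s ^ 2 * (y * g)⁻¹ := by group
        _ = g * s ^ 2 * g⁻¹ := h4
    calc y * (g * s ^ 2 * g⁻¹) = y * (g * s ^ 2 * g⁻¹) * y⁻¹ * y := by group
      _ = (g * s ^ 2 * g⁻¹) * y := by rw [h5]
  have hne : normalClosure ({s ^ 2} : Set G) ≠ ⊥ := by
    intro hb
    have : s ^ 2 ∈ normalClosure ({s ^ 2} : Set G) := subset_normalClosure rfl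
    rw [hb, mem_bot] at this
    exact F.J1 this
  have htop : normalClosure ({s ^ 2} : Set G) = ⊤ :=
    (Subgroup.normalClosure_normal (s := ({s ^ 2} : Set G))).eq_bot_or_eq_top.resolve_left hne
  have hcl : normalClosure ({s ^ 2} : Set G) ≤ centralizer ({y} : Set G) := by
    refine (closure_le _).2 ?_
    rintro w hw
    rw [Group.mem_conjugatesOfSet_iff] at hw
    obtain ⟨a, ha, hc'⟩ := hw
    obtain rfl : a = s ^ 2 := ha
    obtain ⟨g, rfl⟩ := isConj_iff.1 hc'
    rw [SetLike.mem_coe, mem_centralizer_singleton_iff]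
    exact (hall g).symm
  have hycent : y ∈ center G := by
    rw [Subgroup.mem_center_iff]
    intro g
    have : g ∈ centralizer ({y} : Set G) := hcl (by rw [htop]; trivial)
    rw [mem_centralizer_singleton_iff] at this
    exact this
  rcases (inferInstance : (center G).Normal).eq_bot_or_eq_top with h | h
  · rw [h, mem_bot] at hycent
    rw [hycent, orderOf_one] at hoy
    norm_num at hoy
  · have : u ∈ center G := by rw [h]; trivial
    exact F.not_comm ((Subgroup.mem_center_iff.1 this) s).symm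

/-- Main argument of P1. -/
theorem no_d8_main (hG : Nat.card G = 175560) (P : Sylow 2 G) (s u : G) (hs : s ∈ (P : Subgroup G))
    (hu : u ∈ (P : Subgroup G)) (hso : orderOf s = 4) (huo : orderOf u = 2)
    (hrel : u * s * u⁻¹ = s⁻¹) : False := by
  have F : Fr s u := ⟨hso, huo, hrel⟩
  obtain ⟨hc1, hc2⟩ := conj_pair hG P F hs hu
  have hgen := gen_eq hG P F hs hu
  obtain ⟨M, hM⟩ := Cfsg.Agent.Lib.BlockVal.exists_isPModular Nat.prime_two
  obtain ⟨e⟩ := iso_P hG P F hs hu
  have hso' : orderOf s = 2 ^ (3 - 1) := by rw [hso]; norm_num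
  have hζ : IsPrimitiveRoot Complex.I (2 ^ (3 - 1)) := by
    have := Complex.isPrimitiveRoot_I
    simpa using this
  obtain ⟨-, χ₁, χ₂, χ₃, χ', δ₁, δ₂, δ₃, hδ₁, -, -, -, hχ1, -, -, -, -, -, -, hB, hval, -⟩ :=
    Cfsg.Agent.S4481.result M hM 3 le_rfl P ⟨e⟩ s hs hso' Complex.I hζ
  have hχ₁ : χ₁ ∈ Cfsg.principalBlock M G := by
    rw [hB]
    exact Or.inr (Or.inl rfl)
  have hval' : ∀ l : ℕ, 0 < l → l < 2 ^ (3 - 1) → (χ₁ : G → ℂ) (s ^ l) = δ₁ :=
    fun l h0 hl => (hval l h0 hl).1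
  have e2 : s ^ (2 ^ (3 - 2)) = s ^ 2 := by norm_num
  obtain ⟨-, hq⟩ := Cfsg.Agent.S4482.result M hM 3 le_rfl P s u hs hu hso' huo hrel hgen
    (by rw [e2]; exact ⟨hc1, hc2⟩) χ₁ hχ₁ hχ1 δ₁ hδ₁ hval'
  rw [e2] at hq
  obtain ⟨a, hao, hac⟩ := cent_pair hG P F hs hu
  obtain ⟨b, hbo, hbc⟩ := cent_pair hG P F.su hs ((P : Subgroup G).mul_mem hs hu)
  have hPC : (P : Subgroup G) ≤ centralizer ({s ^ 2} : Set G) := by
    rw [← hgen, closure_le]
    rintro x (rfl | rfl)
    · rw [SetLike.mem_coe, mem_centralizer_singleton_iff]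
      exact (pow_succ' x 2).symm.trans (pow_succ x 2)
    · rw [SetLike.mem_coe, mem_centralizer_singleton_iff]
      exact F.Ju.symm
  obtain ⟨m, hm⟩ : 8 ∣ Nat.card (centralizer ({s ^ 2} : Set G)) := by
    rw [← card_P hG P]
    exact Subgroup.card_dvd_of_le hPC
  have hmd : m ∣ 21945 := by
    have h := Subgroup.card_subgroup_dvd_card (centralizer ({s ^ 2} : Set G))
    rw [hm, hG, show (175560 : ℕ) = 8 * 21945 by norm_num] at h
    exact Nat.dvd_of_mul_dvd_mul_left (by norm_num) h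
  have hdv : ∀ {w : G} {a' : ℕ}, Odd a' → Nat.card (centralizer ({s ^ 2, w} : Set G)) = 4 * a' → a' ∣ m := by
    intro w a' ho hc
    have hle : centralizer ({s ^ 2, w} : Set G) ≤ centralizer ({s ^ 2} : Set G) := by
      apply Subgroup.centralizer_le
      intro x hx
      exact Or.inl hx
    have h := Subgroup.card_dvd_of_le hle
    rw [hc, hm, show (8 : ℕ) * m = 4 * (2 * m) by ring] at h
    have h2 : a' ∣ 2 * m := Nat.dvd_of_mul_dvd_mul_left (by norm_num) h
    exact (Nat.Coprime.dvd_of_dvd_mul_left (Nat.coprime_two_right.2 ho) h2)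
  have had := hdv hao hac
  have hbd := hdv hbo hbc
  have hxd : Cfsg.charDegree (χ₁ : G → ℂ) ∣ 175560 := by
    rw [← hG]
    exact Cfsg.Agent.Lib.CharKernel.charDegree_dvd_card χ₁.2
  set x : ℕ := Cfsg.charDegree (χ₁ : G → ℂ) with hx
  rw [hG, hm, hac, hbc] at hq
  have ha0 : (a : ℚ) ≠ 0 := by
    have : a ≠ 0 := by
      rintro rfl
      simp at hao
    exact_mod_cast this
  have hb0 : (b : ℚ) ≠ 0 := by
    have : b ≠ 0 := by
      rintro rfl
      simp at hbo
    exact_mod_cast this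
  have hq' : (21945 : ℚ) * ((x : ℚ) - (δ₁ : ℚ)) ^ 2 * (a : ℚ) ^ 2 * (b : ℚ) ^ 2 =
      8 * (x : ℚ) * ((x : ℚ) + (δ₁ : ℚ)) * (m : ℚ) ^ 3 * ((a : ℚ) + (b : ℚ)) ^ 2 := by
    push_cast at hq
    have e3 : (1 / (4 * (a : ℚ)) + 1 / (4 * (b : ℚ))) = ((a : ℚ) + (b : ℚ)) / (4 * (a * b)) := by
      field_simp
      ring
    rw [e3] at hq
    have e4 : 2 * (x : ℚ) * ((x : ℚ) + (δ₁ : ℚ)) * (8 * (m : ℚ)) ^ 3 *
        (((a : ℚ) + (b : ℚ)) / (4 * (a * b))) ^ 2 * ((a : ℚ) ^ 2 * (b : ℚ) ^ 2) =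
        64 * ((x : ℚ) * ((x : ℚ) + (δ₁ : ℚ)) * (m : ℚ) ^ 3 * ((a : ℚ) + (b : ℚ)) ^ 2) := by
      field_simp
      ring
    have e5 : 175560 * ((x : ℚ) - (δ₁ : ℚ)) ^ 2 * ((a : ℚ) ^ 2 * (b : ℚ) ^ 2) =
        64 * ((x : ℚ) * ((x : ℚ) + (δ₁ : ℚ)) * (m : ℚ) ^ 3 * ((a : ℚ) + (b : ℚ)) ^ 2) := by
      rw [hq]
      exact e4
    linarith
  obtain ⟨rfl, rfl⟩ := num_main hmd had hbd hxd hδ₁ hq'
  refine no_1045 hG F (by rw [hm]) ?_ hc1
  rw [hac]
  norm_num

end simple2

end Cfsg.Agent.Lib.O175.P1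

namespace Cfsg.Agent.Lib.O175

/-- P1: a simple group of order 175560 has no dihedral Sylow 2-subgroup of order 8. -/
theorem no_d8 {G : Type*} [Group G] [Finite G] [IsSimpleGroup G] (hG : Nat.card G = 175560) (P : Sylow 2 G)
    (s u : G) (hs : s ∈ (P : Subgroup G)) (hu : u ∈ (P : Subgroup G)) (hso : orderOf s = 4)
    (huo : orderOf u = 2) (hrel : u * s * u⁻¹ = s⁻¹) : False :=
  Cfsg.Agent.Lib.O175.P1.no_d8_main hG P s u hs hu hso huo hrel

end Cfsg.Agent.Lib.O175
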