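import Mathlib
import Cfsg.Agent.Lib.SmallGroups2
import Cfsg.Agent.S0215

set_option autoImplicit false

namespace Cfsg.Agent.Lib.O175

namespace P2x

open Subgroup

/-- An odd-order automorphism whose square fixes `y` fixes `y`. -/
lemma fix_of_sq {H : Type*} [Group H] (σ : H ≃* H) {n : ℕ} (hn : Odd n) (hσ : σ ^ n = 1) (y : H)
    (hy : σ (σ y) = y) : σ y = y := by
  obtain ⟨k, rfl⟩ := hn
  have h2 : ∀ j : ℕ, (σ ^ (2 * j)) y = y := by
    intro j
    induction j with
    | zero => simp
    | succ j ih =>
      have : (σ ^ (2 * (j + 1))) y = (σ ^ (2 * j)) (σ (σ y)) := by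
        rw [show 2 * (j + 1) = 2 * j + 1 + 1 by ring, pow_succ, pow_succ]
        rfl
      rw [this, hy, ih]
  have h3 : (σ ^ (2 * k + 1)) y = σ ((σ ^ (2 * k)) y) := by
    rw [pow_succ']
    rfl
  rw [hσ, h2] at h3
  exact h3.symm

/-- Elements of square one are fixed, when the group of order 8 is abelian and not elementary. -/
lemma fix_omega {H : Type*} [CommGroup H] [Finite H] (hcard : Nat.card H = 8) (x : H) (hx : x * x ≠ 1)
    (σ : H ≃* H) {n : ℕ} (hn : Odd n) (hσ : σ ^ n = 1) (a : H) (ha : a * a = 1) : σ a = a := by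
  classical
  by_cases ha1 : a = 1
  · subst ha1; simp
  let Ω : Subgroup H := (powMonoidHom 2 : H →* H).ker
  have hmem : ∀ y : H, y ∈ Ω ↔ y * y = 1 := by
    intro y
    simp [Ω, MonoidHom.mem_ker, pow_two]
  have hσmem : ∀ y : H, y ∈ Ω → σ y ∈ Ω := by
    intro y hy
    rw [hmem] at hy ⊢
    rw [← map_mul, hy, map_one]
  have hne : ∀ y : H, y ≠ 1 → σ y ≠ 1 := by
    intro y hy h
    apply hy
    apply σ.injective
    rw [h, map_one]
  have hdvd : Nat.card Ω ∣ 8 := by
    rw [← hcard]; exact Subgroup.card_subgroup_dvd_card Ω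
  have hne8 : Nat.card Ω ≠ 8 := by
    intro h8
    have htop : Ω = ⊤ := by
      apply Subgroup.eq_top_of_card_eq
      rw [h8, hcard]
    have : x ∈ Ω := by rw [htop]; trivial
    exact hx ((hmem x).1 this)
  have hle : ∀ F : Finset H, (∀ y ∈ F, y ∈ Ω) → F.card ≤ Nat.card Ω := by
    intro F hF
    have hsub : ((F : Finset H) : Set H) ⊆ (Ω : Set H) := fun y hy => hF y hy
    have := Set.ncard_le_ncard hsub (Set.toFinite _)
    rw [Set.ncard_coe_finset] at this
    have h' : Nat.card Ω = (Ω : Set H).ncard := Nat.card_coe_set_eq (Ω : Set H)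
    rwa [h']
  have h124 : Nat.card Ω = 1 ∨ Nat.card Ω = 2 ∨ Nat.card Ω = 4 := by
    have : Nat.card Ω ∈ Nat.divisors 8 := by
      simp [hdvd]
    have hdiv : Nat.divisors 8 = {1, 2, 4, 8} := by decide
    rw [hdiv] at this
    simp only [Finset.mem_insert, Finset.mem_singleton] at this
    omega
  have haΩ : a ∈ Ω := (hmem a).2 ha
  rcases h124 with h | h | h
  · -- order one: impossible since a ≠ 1
    have := hle {1, a} (by
      intro y hy
      simp only [Finset.mem_insert, Finset.mem_singleton] at hy
      rcases hy with rfl | rfl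
      · exact Ω.one_mem
      · exact haΩ)
    rw [Finset.card_pair (Ne.symm ha1), h] at this
    omega
  · by_contra hb
    have := hle {1, a, σ a} (by
      intro y hy
      simp only [Finset.mem_insert, Finset.mem_singleton] at hy
      rcases hy with rfl | rfl | rfl
      · exact Ω.one_mem
      · exact haΩ
      · exact hσmem _ haΩ)
    rw [Finset.card_eq_three.2 ⟨1, a, σ a, Ne.symm ha1, Ne.symm (hne a ha1), Ne.symm hb, rfl⟩, h] at this
    omega
  · -- order 4: index two
    have hidx : Ω.index = 2 := by
      have := Subgroup.card_mul_index Ω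
      rw [h, hcard] at this
      omega
    have hxΩ : x ∉ Ω := fun h' => hx ((hmem x).1 h')
    set z : H := x * x with hz
    have hzΩ : z ∈ Ω := by
      rw [hz, Subgroup.mul_mem_iff_of_index_two hidx]
    have hzz : z * z = 1 := (hmem z).1 hzΩ
    have hσx : σ x ∉ Ω := by
      intro h'
      have := (hmem _).1 h'
      rw [← map_mul] at this
      exact hx (σ.injective (by rw [this, map_one]))
    have hw : σ x * x⁻¹ ∈ Ω := by
      rw [Subgroup.mul_mem_iff_of_index_two hidx]
      simp [hσx, hxΩ]
    have hσz : σ z = z := by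
      have h1 := (hmem _).1 hw
      have h2 : σ x * σ x = x * x := by
        have : (σ x * x⁻¹) * (σ x * x⁻¹) = (σ x * σ x) * (x * x)⁻¹ := by
          simp only [mul_inv_rev]
          ac_rfl
        rw [this] at h1
        exact mul_inv_eq_one.1 h1
      rw [hz, map_mul, h2]
    by_cases haz : a = z
    · rw [haz, hσz]
    have hz1 : z ≠ 1 := hx
    have hall : ∀ b ∈ Ω, b = 1 ∨ b = z ∨ b = a ∨ b = a * z := by
      intro b hb
      by_contra hcon
      simp only [not_or] at hcon
      obtain ⟨h1, h2, h3, h4⟩ := hcon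
      have h5 : a * z ≠ 1 := by
        intro h'
        apply haz
        have : a * z * z = z := by rw [h']; simp
        rw [mul_assoc, hzz, mul_one] at this
        exact this
      have h6 : a * z ≠ z := by
        intro h'
        exact ha1 (mul_eq_right.1 h')
      have h7 : a * z ≠ a := by
        intro h'
        exact hz1 (mul_eq_left.1 h')
      have := hle {b, 1, z, a, a * z} (by
        intro y hy
        simp only [Finset.mem_insert, Finset.mem_singleton] at hy
        rcases hy with rfl | rfl | rfl | rfl | rfl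
        · exact hb
        · exact Ω.one_mem
        · exact hzΩ
        · exact haΩ
        · exact Ω.mul_mem haΩ hzΩ)
      rw [Finset.card_insert_of_notMem (by simp [h1, h2, h3, h4]),
        Finset.card_insert_of_notMem (by simp [Ne.symm hz1, Ne.symm ha1, Ne.symm h5]),
        Finset.card_insert_of_notMem (by simp [Ne.symm haz, Ne.symm h6]),
        Finset.card_insert_of_notMem (by simp [Ne.symm h7]),
        Finset.card_singleton, h] at this
      omega
    rcases hall _ (hσmem a haΩ) with h1 | h1 | h1 | h1
    · exact absurd h1 (hne a ha1)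
    · exfalso
      apply haz
      apply σ.injective
      rw [h1, hσz]
    · exact h1
    · apply fix_of_sq σ hn hσ
      rw [h1, map_mul, h1, hσz, mul_assoc, hzz, mul_one]

/-- An odd-order automorphism of an abelian non-elementary group of order 8 is trivial. -/
lemma aut_trivial {H : Type*} [CommGroup H] [Finite H] (hcard : Nat.card H = 8) (x : H) (hx : x * x ≠ 1)
    (σ : H ≃* H) {n : ℕ} (hn : Odd n) (hσ : σ ^ n = 1) (y : H) : σ y = y := by
  have key : ∀ k : ℕ, ∀ y : H, y ^ (2 ^ k) = 1 → σ y = y := by
    intro k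
    induction k with
    | zero =>
      intro y hy
      have : y = 1 := by simpa using hy
      rw [this, map_one]
    | succ k ih =>
      intro y hy
      have h1 : σ (y ^ 2) = y ^ 2 := by
        apply ih
        rw [← pow_mul, ← pow_succ']
        exact hy
      have h2 : (σ y * y⁻¹) * (σ y * y⁻¹) = 1 := by
        have h3 : σ y * σ y = y * y := by
          rw [← map_mul, ← pow_two, h1, pow_two]
        have : (σ y * y⁻¹) * (σ y * y⁻¹) = (σ y * σ y) * (y * y)⁻¹ := by
          simp only [mul_inv_rev]
          ac_rfl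
        rw [this, h3, mul_inv_cancel]
      have h4 := fix_omega hcard x hx σ hn hσ _ h2
      apply fix_of_sq σ hn hσ
      rw [map_mul, map_inv] at h4
      have h5 : σ (σ y) = σ y * y⁻¹ * σ y := by
        rw [← h4]; group
      rw [h5]
      have h6 : σ y * y⁻¹ * σ y = (σ y * y⁻¹) * (σ y * y⁻¹) * y := by group
      rw [h6, h2, one_mul]
  apply key 3
  have : y ^ Nat.card H = 1 := pow_card_eq_one'
  rwa [hcard] at this


/-- Structure of a nonabelian group of order 8. -/
lemma struct {H : Type*} [Group H] [Finite H] (hcard : Nat.card H = 8) (hnc : ¬ ∀ a b : H, a * b = b * a) :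
    ∃ s : H, orderOf s = 4 ∧ ((∃ u : H, orderOf u = 2 ∧ u * s * u⁻¹ = s⁻¹) ∨
      (∀ t : H, orderOf t = 2 → t = s ^ 2)) := by
  classical
  have hex : ∃ s : H, s * s ≠ 1 := by
    by_contra hall
    push Not at hall
    apply hnc
    intro a b
    have h1 : a * b = (a * b)⁻¹ := eq_inv_of_mul_eq_one_left (hall (a * b))
    have ha : a = a⁻¹ := eq_inv_of_mul_eq_one_left (hall a)
    have hb : b = b⁻¹ := eq_inv_of_mul_eq_one_left (hall b)
    rw [h1, mul_inv_rev, ← ha, ← hb]
  obtain ⟨s, hs⟩ := hex
  have hs2 : s ^ 2 ≠ 1 := by rwa [pow_two]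
  have hdvd : orderOf s ∣ 8 := by rw [← hcard]; exact orderOf_dvd_natCard s
  have hK8 : ∀ a : H, orderOf s = 8 → a ∈ zpowers s := by
    intro a h8
    have htop : zpowers s = ⊤ := by
      apply Subgroup.eq_top_of_card_eq
      rw [Nat.card_zpowers, h8, hcard]
    rw [htop]; trivial
  have hs4 : orderOf s = 4 := by
    have h1 : orderOf s ∈ Nat.divisors 8 := by simp [hdvd]
    have hdiv : Nat.divisors 8 = {1, 2, 4, 8} := by decide
    rw [hdiv] at h1
    simp only [Finset.mem_insert, Finset.mem_singleton] at h1
    rcases h1 with h | h | h | h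
    · exfalso
      apply hs2
      rw [orderOf_eq_one_iff.1 h, one_pow]
    · exfalso
      apply hs2
      rw [← h]; exact pow_orderOf_eq_one s
    · exact h
    · exfalso
      apply hnc
      intro a b
      obtain ⟨i, rfl⟩ := Subgroup.mem_zpowers_iff.1 (hK8 a h)
      obtain ⟨j, rfl⟩ := Subgroup.mem_zpowers_iff.1 (hK8 b h)
      exact zpow_mul_comm s i j
  have hs41 : s ^ 4 = 1 := by rw [← hs4]; exact pow_orderOf_eq_one s
  refine ⟨s, hs4, ?_⟩
  set K : Subgroup H := zpowers s with hK
  have hKcard : Nat.card K = 4 := by rw [hK, Nat.card_zpowers, hs4]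
  have hidx : K.index = 2 := by
    have := Subgroup.card_mul_index K
    rw [hKcard, hcard] at this
    omega
  haveI hKn : K.Normal := Subgroup.normal_of_index_eq_two hidx
  have hKel : ∀ y ∈ K, y = 1 ∨ y = s ∨ y = s ^ 2 ∨ y = s ^ 3 := by
    intro y hy
    obtain ⟨i, rfl⟩ := Subgroup.mem_zpowers_iff.1 hy
    rw [← zpow_mod_orderOf, hs4]
    have hc : i % ((4 : ℕ) : ℤ) = 0 ∨ i % ((4 : ℕ) : ℤ) = 1 ∨ i % ((4 : ℕ) : ℤ) = 2 ∨ i % ((4 : ℕ) : ℤ) = 3 := by
      push_cast
      omega
    rcases hc with h | h | h | h
    · left; rw [h]; simp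
    · right; left; rw [h]; simp
    · right; right; left; rw [h]; exact zpow_natCast s 2
    · right; right; right; rw [h]; exact zpow_natCast s 3
  have hs3s : s ^ 3 = s⁻¹ := by
    rw [eq_inv_iff_mul_eq_one, ← pow_succ]; exact hs41
  by_cases hu : ∃ u : H, u ∉ K ∧ u * u = 1
  · obtain ⟨u, huK, huu⟩ := hu
    left
    have hu1 : u ≠ 1 := by
      rintro rfl
      exact huK K.one_mem
    have huo : orderOf u = 2 := by
      apply orderOf_eq_prime _ hu1
      rwa [pow_two]
    refine ⟨u, huo, ?_⟩
    have hyK : u * s * u⁻¹ ∈ K := hKn.conj_mem s (Subgroup.mem_zpowers s) u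
    have hy2 : (u * s * u⁻¹) ^ 2 = u * s ^ 2 * u⁻¹ := by
      rw [conj_pow]
    have hy21 : (u * s * u⁻¹) ^ 2 ≠ 1 := by
      rw [hy2]
      intro h
      apply hs2
      have : s ^ 2 = u⁻¹ * (u * s ^ 2 * u⁻¹) * u := by group
      rw [this, h]; group
    rcases hKel _ hyK with h | h | h | h
    · exfalso
      apply hy21
      rw [h, one_pow]
    · exfalso
      apply hnc
      have hus : Commute u s := by
        rw [commute_iff_eq]
        exact mul_inv_eq_iff_eq_mul.1 h
      have hcK : ∀ k ∈ K, ∀ k' ∈ K, Commute k k' := by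
        intro k hk k' hk'
        obtain ⟨i, rfl⟩ := Subgroup.mem_zpowers_iff.1 hk
        obtain ⟨j, rfl⟩ := Subgroup.mem_zpowers_iff.1 hk'
        exact zpow_mul_comm s i j
      have huK' : ∀ k ∈ K, Commute u k := by
        intro k hk
        obtain ⟨i, rfl⟩ := Subgroup.mem_zpowers_iff.1 hk
        exact hus.zpow_right i
      have hrep : ∀ a : H, a ∈ K ∨ ∃ k ∈ K, a = u * k := by
        intro a
        by_cases ha : a ∈ K
        · exact Or.inl ha
        · refine Or.inr ⟨u⁻¹ * a, ?_, by group⟩
          rw [Subgroup.mul_mem_iff_of_index_two hidx]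
          simp [huK, ha]
      intro a b
      have : Commute a b := by
        rcases hrep a with ha | ⟨k, hk, rfl⟩ <;> rcases hrep b with hb | ⟨k', hk', rfl⟩
        · exact hcK a ha b hb
        · exact ((huK' a ha).symm).mul_right (hcK a ha k' hk')
        · exact ((huK' b hb)).mul_left (hcK k hk b hb)
        · exact Commute.mul_left ((Commute.refl u).mul_right (huK' k' hk'))
            (((huK' k hk).symm).mul_right (hcK k hk k' hk'))
      exact this
    · exfalso
      apply hy21
      rw [h, ← pow_mul, show 2 * 2 = 4 from rfl, hs41]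
    · rw [h, hs3s]
  · right
    intro t ht
    have htt : t * t = 1 := by
      rw [← pow_two, ← ht]; exact pow_orderOf_eq_one t
    have htK : t ∈ K := by
      by_contra h
      exact hu ⟨t, h, htt⟩
    rcases hKel t htK with h | h | h | h
    · exfalso
      rw [h, orderOf_one] at ht
      omega
    · exfalso
      apply hs
      rw [← h]; exact htt
    · exact h
    · exfalso
      apply hs2
      have : s ^ 2 = t * t * s ^ 4 := by
        rw [h, ← pow_add, ← pow_add]
        have : s ^ (3 + 3 + 4) = s ^ 2 * (s ^ 4) ^ 2 := by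
          rw [← pow_mul, ← pow_add]
        rw [this, hs41]; simp
      rw [this, htt, hs41, mul_one]

/-- Abelian non-elementary Sylow 2-subgroups of order 8 are centralized by their normalizers. -/
lemma normalizer_le {G : Type*} [Group G] [Finite G] (P : Sylow 2 G) (hcard : Nat.card (P : Subgroup G) = 8)
    (hab : ∀ a ∈ (P : Subgroup G), ∀ b ∈ (P : Subgroup G), a * b = b * a) (x : G) (hx : x ∈ (P : Subgroup G))
    (hxx : x * x ≠ 1) :
    normalizer ((P : Subgroup G) : Set G) ≤ centralizer ((P : Subgroup G) : Set G) := by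
  intro g hg
  rw [Subgroup.mem_centralizer_iff]
  intro y hy
  have hy' : y ∈ (P : Subgroup G) := hy
  let cg : CommGroup (P : Subgroup G) :=
    { (inferInstance : Group (P : Subgroup G)) with
      mul_comm := fun a b => Subtype.ext (hab a a.2 b b.2) }
  let φ := (P : Subgroup G).normalizerMonoidHom
  let g' : normalizer ((P : Subgroup G) : Set G) := ⟨g, hg⟩
  have hodd : Odd φ.ker.index := by
    rw [← Nat.not_even_iff_odd, even_iff_two_dvd]
    rw [Subgroup.normalizerMonoidHom_ker, ← Subgroup.relIndex]
    intro h2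
    have h3 := dvd_trans h2 (Subgroup.relIndex_dvd_of_le_left _ P.le_centralizer)
    have h4 := dvd_trans h3 (Subgroup.relIndex_dvd_index_of_le P.le_normalizer)
    exact P.not_dvd_index h4
  have hσ : (φ g') ^ φ.ker.index = 1 := by
    rw [← map_pow]
    exact (MonoidHom.mem_ker).1 (Subgroup.pow_index_mem φ.ker g')
  have hx' : (⟨x, hx⟩ : (P : Subgroup G)) * ⟨x, hx⟩ ≠ 1 := by
    intro h
    exact hxx (congrArg Subtype.val h)
  have := aut_trivial (H := (P : Subgroup G)) hcard ⟨x, hx⟩ hx' (φ g') hodd hσ ⟨y, hy'⟩
  have h5 : g * y * g⁻¹ = y := congrArg Subtype.val this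
  rw [mul_inv_eq_iff_eq_mul] at h5
  exact h5.symm

end P2x

open Subgroup P2x in
/-- With the dihedral case excluded, a Sylow 2-subgroup of a simple group of order 175560 is elementary. -/
theorem elem_of {G : Type*} [Group G] [Finite G] [IsSimpleGroup G] (hG : Nat.card G = 175560)
    (hno : ∀ (P : Sylow 2 G) (s u : G), s ∈ (P : Subgroup G) → u ∈ (P : Subgroup G) → orderOf s = 4 →
      orderOf u = 2 → u * s * u⁻¹ = s⁻¹ → False)
    (P : Sylow 2 G) : ∀ x ∈ (P : Subgroup G), x * x = 1 := by
  have hcard : Nat.card (P : Subgroup G) = 8 :=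
    Cfsg.Agent.Lib.SmallGroups2.sylow_card_of_card_eq (p := 2) (a := 3) (m := 21945)
      (by rw [hG]; norm_num) (by norm_num) P
  have hnab : ¬ IsMulCommutative G := by
    intro h
    have := Cfsg.Agent.Lib.SmallGroups2.card_prime_of_isMulCommutative (G := G) h
    rw [hG] at this
    exact absurd this (by norm_num)
  by_contra hcon
  push Not at hcon
  obtain ⟨x, hx, hxx⟩ := hcon
  by_cases hab : ∀ a ∈ (P : Subgroup G), ∀ b ∈ (P : Subgroup G), a * b = b * a
  · exact Cfsg.Agent.Lib.SmallGroups2.not_normalizer_le_centralizer hnab (p := 2)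
      (by rw [hG]; norm_num) P (normalizer_le P hcard hab x hx hxx)
  · have hnc : ¬ ∀ a b : (P : Subgroup G), a * b = b * a := by
      intro h
      apply hab
      intro a ha b hb
      exact congrArg Subtype.val (h ⟨a, ha⟩ ⟨b, hb⟩)
    obtain ⟨s, hs4, hc⟩ := struct (H := (P : Subgroup G)) hcard hnc
    rcases hc with ⟨u, huo, hrel⟩ | huniq
    · refine hno P s u s.2 u.2 ?_ ?_ ?_
      · rw [← Subgroup.orderOf_coe] at hs4; exact hs4
      · rw [← Subgroup.orderOf_coe] at huo; exact huo
      · exact congrArg Subtype.val hrel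
    · -- unique involution
      have hs2o : orderOf (s ^ 2) = 2 := by
        have := orderOf_pow_orderOf_div (x := s) (n := 2) (by omega) (by rw [hs4]; norm_num)
        rw [hs4] at this
        exact this
      set t : G := ((s ^ 2 : (P : Subgroup G)) : G) with ht
      have hto : orderOf t = 2 := by
        rw [ht, Subgroup.orderOf_coe]; exact hs2o
      have htP : t ∈ (P : Subgroup G) := (s ^ 2 : (P : Subgroup G)).2
      have hiso : ∀ g : G, g * t * g⁻¹ ∈ (P : Subgroup G) → g * t * g⁻¹ = t := by
        intro g hg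
        have ho : orderOf (⟨g * t * g⁻¹, hg⟩ : (P : Subgroup G)) = 2 := by
          rw [← Subgroup.orderOf_coe]
          show orderOf (g * t * g⁻¹) = 2
          have h := orderOf_injective (MulAut.conj g).toMonoidHom (MulAut.conj g).injective t
          rw [hto] at h
          exact h
        exact congrArg Subtype.val (huniq _ ho)
      obtain ⟨N, hN, hodd, hcomm⟩ := Cfsg.Agent.S0215.result P t hto htP hiso
      rcases hN.eq_bot_or_eq_top with hb | ht'
      · have hcen : t ∈ center G := by
          rw [Subgroup.mem_center_iff]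
          intro g
          have := hcomm g
          rw [hb, Subgroup.mem_bot] at this
          have h2 : t * g * t⁻¹ = g := by
            rwa [mul_inv_eq_one] at this
          rw [mul_inv_eq_iff_eq_mul] at h2
          exact h2.symm
        rcases (inferInstance : (center G).Normal).eq_bot_or_eq_top with hb2 | ht2
        · rw [hb2, Subgroup.mem_bot] at hcen
          rw [hcen, orderOf_one] at hto
          omega
        · apply hnab
          refine ⟨⟨fun a b => ?_⟩⟩
          have : a ∈ center G := by rw [ht2]; trivial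
          exact (this.comm b).eq
      · rw [ht', Subgroup.card_top, hG] at hodd
        exact absurd hodd (by decide)


end Cfsg.Agent.Lib.O175
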