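import Mathlib
import Cfsg.Agent.Lib.AbSylowFix
import Cfsg.Agent.Lib.SmallGroups2

/-!
# Simple groups of order 175560 with elementary abelian Sylow 2-subgroups: all involutions are conjugate
-/

set_option autoImplicit false
set_option linter.unusedSectionVars false
set_option linter.unusedVariables false
set_option linter.style.haveILetI false

namespace Cfsg.Agent.Lib.O175

open Cfsg MulAction

variable {G : Type*} [Group G] [Finite G] [IsSimpleGroup G]

theorem core_bot_P3 (hG : Nat.card G = 175560) : pPrimeCore 2 G = ⊥ := by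
  unfold pPrimeCore
  rw [sSup_eq_bot]
  rintro N ⟨hN, hc⟩
  rcases hN.eq_bot_or_eq_top with h | h
  · exact h
  · exfalso
    rw [h, Subgroup.card_top, hG] at hc
    exact absurd hc (by norm_num)

theorem center_bot_P3 (hG : Nat.card G = 175560) : Subgroup.center G = ⊥ := by
  rcases (inferInstance : (Subgroup.center G).Normal).eq_bot_or_eq_top with h | h
  · exact h
  · exfalso
    have hc : IsMulCommutative G := ⟨⟨fun a b => by
      have h1 : a ∈ Subgroup.center G := by rw [h]; exact Subgroup.mem_top a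
      exact (Subgroup.mem_center_iff.1 h1 b).symm⟩⟩
    have := Cfsg.Agent.Lib.SmallGroups2.card_prime_of_isMulCommutative (G := G) hc
    rw [hG] at this
    exact absurd this (by norm_num)

/-- the action of a subgroup by conjugation -/
@[reducible] noncomputable def conjActP3 (N : Subgroup G) : MulAction ↥N G :=
  MulAction.compHom G ((ConjAct.toConjAct (G := G)).toMonoidHom.comp N.subtype)

theorem conj_smul_P3 (N : Subgroup G) (n : ↥N) (x : G) :
    (conjActP3 N).toSMul.smul n x = n.1 * x * n.1⁻¹ := rfl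

theorem all_conj (hG : Nat.card G = 175560) (hE : ∀ P : Sylow 2 G, ∀ x ∈ (P : Subgroup G), x * x = 1)
    (a b : G) (ha : orderOf a = 2) (hb : orderOf b = 2) : IsConj a b := by
  classical
  haveI : Fact (Nat.Prime 2) := ⟨Nat.prime_two⟩
  let P : Sylow 2 G := default
  have hP8 : Nat.card (P : Subgroup G) = 8 := by
    have h := Cfsg.Agent.Lib.SmallGroups2.sylow_card_of_card_eq (G := G) (p := 2) (a := 3) (m := 21945)
      (by rw [hG]; norm_num) (by norm_num) P
    simpa using h
  have hcomm : ∀ x ∈ (P : Subgroup G), ∀ y ∈ (P : Subgroup G), x * y = y * x := by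
    intro x hx y hy
    have h1 := hE P (x * y) (mul_mem hx hy)
    have h2 := hE P x hx
    have h3 := hE P y hy
    calc x * y = x * (x * y * (x * y)) * y := by rw [h1]; simp
      _ = (x * x) * y * x * (y * y) := by group
      _ = y * x := by rw [h2, h3]; simp
  have hab : IsMulCommutative (P : Subgroup G) := ⟨⟨fun x y => Subtype.ext (hcomm x.1 x.2 y.1 y.2)⟩⟩
  set N : Subgroup G := Subgroup.normalizer ((P : Subgroup G) : Set G) with hN
  letI := conjActP3 N
  have hsm : ∀ (n : ↥N) (x : G), n • x = n.1 * x * n.1⁻¹ := fun _ _ => rfl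
  -- the involutions of `P`
  let I : Set G := {x | x ∈ (P : Subgroup G) ∧ x ≠ 1}
  have hIcard : I.ncard = 7 := by
    have h1 : ((P : Subgroup G) : Set G) = insert 1 I := by
      ext x
      simp only [SetLike.mem_coe, Set.mem_insert_iff, I, Set.mem_ofPred_eq]
      constructor
      · intro hx
        by_cases h : x = 1
        · exact Or.inl h
        · exact Or.inr ⟨hx, h⟩
      · rintro (rfl | h)
        · exact one_mem _
        · exact h.1
    have h2 : ((P : Subgroup G) : Set G).ncard = 8 := by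
      rw [← hP8]
      exact (Nat.card_coe_set_eq _).symm
    rw [h1, Set.ncard_insert_of_notMem (by simp [I]) (Set.toFinite _)] at h2
    omega
  have hIsub : ∀ x ∈ I, ∀ n : ↥N, n • x ∈ I := by
    rintro x ⟨hx, hx1⟩ n
    rw [hsm]
    refine ⟨(Subgroup.mem_normalizer_iff.1 n.2 x).1 hx, ?_⟩
    intro h
    apply hx1
    have : x = n.1⁻¹ * (n.1 * x * n.1⁻¹) * n.1 := by group
    rw [this, h]
    group
  have horbsub : ∀ x ∈ I, orbit ↥N x ⊆ I := by
    rintro x hx _ ⟨n, rfl⟩
    exact hIsub x hx n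
  -- orbit sizes
  have hNdvd : Nat.card ↥N ∣ 8 * 21945 := by
    have := Subgroup.card_subgroup_dvd_card N
    rwa [hG] at this
  have hstab : ∀ x ∈ I, 8 ∣ Nat.card (stabilizer ↥N x) := by
    intro x hx
    have hle : (P : Subgroup G) ≤ N := Subgroup.le_normalizer
    have h1 : (P : Subgroup G).subgroupOf N ≤ stabilizer ↥N x := by
      intro n hn
      rw [mem_stabilizer_iff, hsm]
      have hn' : n.1 ∈ (P : Subgroup G) := Subgroup.mem_subgroupOf.1 hn
      rw [hcomm n.1 hn' x hx.1]
      group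
    have h2 := Subgroup.card_dvd_of_le h1
    have h3 : Nat.card ((P : Subgroup G).subgroupOf N) = 8 := by
      rw [← hP8]
      exact Nat.card_congr (Subgroup.subgroupOfEquivOfLe hle).toEquiv
    rwa [h3] at h2
  have hodd : ∀ x ∈ I, Odd (orbit ↥N x).ncard := by
    intro x hx
    have h1 := Subgroup.card_mul_index (stabilizer ↥N x)
    rw [index_stabilizer] at h1
    obtain ⟨k, hk⟩ := hstab x hx
    have h2 : (8 * k) * (orbit ↥N x).ncard ∣ 8 * 21945 := by
      rw [← hk, h1]
      exact hNdvd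
    have hk0 : 8 * k * (orbit ↥N x).ncard = 8 * (k * (orbit ↥N x).ncard) := by ring
    rw [hk0] at h2
    have h3 : k * (orbit ↥N x).ncard ∣ 21945 := Nat.dvd_of_mul_dvd_mul_left (by norm_num) h2
    have h4 : (orbit ↥N x).ncard ∣ 21945 := (Dvd.intro_left _ rfl).trans h3
    exact Odd.of_dvd_nat (by decide) h4
  have hbig : ∀ x ∈ I, 3 ≤ (orbit ↥N x).ncard := by
    intro x hx
    have h1 := hodd x hx
    by_contra h2
    have h3 : (orbit ↥N x).ncard = 1 := by
      obtain ⟨k, hk⟩ := h1
      omega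
    apply hx.2
    refine Cfsg.Agent.Lib.AbSylowFix.invariant_eq_one (core_bot_P3 hG) (center_bot_P3 hG) P hab hx.1 ?_
    intro n hn
    obtain ⟨c, hc⟩ := Set.ncard_eq_one.1 h3
    have h4 : x ∈ orbit ↥N x := mem_orbit_self x
    have h5 : (⟨n, hn⟩ : ↥N) • x ∈ orbit ↥N x := mem_orbit x _
    rw [hc] at h4 h5
    rw [Set.mem_singleton_iff] at h4 h5
    rw [h4] at h5 ⊢
    exact h5
  have hdisj : ∀ x y : G, y ∉ orbit ↥N x → Disjoint (orbit ↥N x) (orbit ↥N y) := by
    intro x y h
    rw [Set.disjoint_left]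
    intro z hz hz2
    apply h
    have h1 := orbit_eq_iff.2 hz
    have h2 := orbit_eq_iff.2 hz2
    rw [← h1, h2]
    exact mem_orbit_self y
  have hIfin : I.Finite := Set.toFinite _
  have hall : ∀ x ∈ I, ∀ y ∈ I, y ∈ orbit ↥N x := by
    intro x hx y hy
    by_contra hyx
    have hd1 := hdisj x y hyx
    have hU : (orbit ↥N x ∪ orbit ↥N y).ncard = (orbit ↥N x).ncard + (orbit ↥N y).ncard :=
      Set.ncard_union_eq hd1 (Set.toFinite _) (Set.toFinite _)
    have hUle : (orbit ↥N x ∪ orbit ↥N y).ncard ≤ 7 := by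
      rw [← hIcard]
      exact Set.ncard_le_ncard (Set.union_subset (horbsub x hx) (horbsub y hy)) hIfin
    have hox := hodd x hx
    have hoy := hodd y hy
    have hlt : (orbit ↥N x ∪ orbit ↥N y).ncard < I.ncard := by
      obtain ⟨k, hk⟩ := hox
      obtain ⟨l, hl⟩ := hoy
      rw [hIcard]
      omega
    obtain ⟨z, hz, hzU⟩ := Set.exists_mem_notMem_of_ncard_lt_ncard hlt (Set.toFinite _)
    have hzx : z ∉ orbit ↥N x := fun h => hzU (Or.inl h)
    have hzy : z ∉ orbit ↥N y := fun h => hzU (Or.inr h)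
    have hd2 : Disjoint (orbit ↥N x ∪ orbit ↥N y) (orbit ↥N z) := by
      rw [Set.disjoint_union_left]
      exact ⟨hdisj x z hzx, hdisj y z hzy⟩
    have hV := Set.ncard_union_eq hd2 (Set.toFinite _) (Set.toFinite _)
    have hVle : ((orbit ↥N x ∪ orbit ↥N y) ∪ orbit ↥N z).ncard ≤ 7 := by
      rw [← hIcard]
      exact Set.ncard_le_ncard (Set.union_subset (Set.union_subset (horbsub x hx) (horbsub y hy)) (horbsub z hz)) hIfin
    have h1 := hbig x hx
    have h2 := hbig y hy
    have h3 := hbig z hz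
    omega
  -- conjugating into `P`
  have hinto : ∀ t : G, orderOf t = 2 → ∃ c : G, c⁻¹ * t * c ∈ I := by
    intro t ht
    obtain ⟨Q, hQ⟩ := Cfsg.Agent.Lib.SmallGroups2.exists_sylow_mem_of_orderOf (G := G) (p := 2) ht
    obtain ⟨c, hc⟩ := MulAction.exists_smul_eq G P Q
    refine ⟨c, ?_, ?_⟩
    · rw [← hc] at hQ
      exact Cfsg.Agent.Lib.SmallGroups2.mem_smul_sylow_iff.1 hQ
    · intro h
      have : t = 1 := by
        have h5 : t = c * (c⁻¹ * t * c) * c⁻¹ := by group
        rw [h5, h]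
        group
      rw [this, orderOf_one] at ht
      exact absurd ht (by norm_num)
  obtain ⟨c, hc⟩ := hinto a ha
  obtain ⟨d, hd⟩ := hinto b hb
  obtain ⟨n, hn⟩ := hall _ hc _ hd
  have hn' : n.1 * (c⁻¹ * a * c) * n.1⁻¹ = d⁻¹ * b * d := hn
  rw [isConj_iff]
  refine ⟨d * n.1 * c⁻¹, ?_⟩
  have h1 : d⁻¹ * b * d = n.1 * (c⁻¹ * a * c) * n.1⁻¹ := hn'.symm
  have h2 : b = d * (d⁻¹ * b * d) * d⁻¹ := by group
  rw [h2, h1]
  group

end Cfsg.Agent.Lib.O175
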