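import Mathlib
import Cfsg.Agent.Lib.SmallGroups2

set_option autoImplicit false

/-! # Simple group of order 175560: the centralizer of an involution does not have order 440 or 760. -/

namespace Cfsg.Agent.Lib.O175.P7b

open Subgroup Cfsg.Agent.Lib.SmallGroups2

variable {G : Type*} [Group G] [Finite G]

theorem exists_sylow_eq {r m : ℕ} [Fact r.Prime] (hcard : Nat.card G = r * m) (hm : ¬ r ∣ m)
    (A : Subgroup G) (hA : Nat.card A = r) : ∃ Q : Sylow r G, (Q : Subgroup G) = A := by
  have hr : r.Prime := Fact.out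
  have hpg : IsPGroup r A := by
    rw [IsPGroup.iff_card]; exact ⟨1, by simpa using hA⟩
  obtain ⟨Q, hQ⟩ := hpg.exists_le_sylow
  refine ⟨Q, (Subgroup.eq_of_le_of_card_ge hQ ?_).symm⟩
  rw [hA, sylow_card_of_card_eq (a := 1) (m := m) (by rw [hcard, pow_one]) hm Q, pow_one]

omit [Finite G] in
theorem le_normalizer_map (H : Subgroup G) (S : Subgroup H) (hS : S.Normal) :
    H ≤ normalizer ((S.map H.subtype : Subgroup G) : Set G) := by
  intro h hh
  rw [mem_normalizer_iff]
  intro x
  constructor
  · rintro ⟨s, hs, rfl⟩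
    exact ⟨⟨h, hh⟩ * s * ⟨h, hh⟩⁻¹, hS.conj_mem s hs ⟨h, hh⟩, by simp⟩
  · rintro ⟨s, hs, hx⟩
    refine ⟨⟨h, hh⟩⁻¹ * s * ⟨h, hh⟩, ?_, ?_⟩
    · have := hS.conj_mem s hs ⟨h, hh⟩⁻¹
      simpa using this
    · have hx' : (s : G) = h * x * h⁻¹ := by simpa using hx
      simp [hx']
      group

omit [Finite G] in
theorem mem_of_index_three {N H : Subgroup G} (hidx : (H.subgroupOf N).index = 3) {z : G}
    (hzN : z ∈ N) (hz : z ^ 5 = 1) : z ∈ H := by
  have h0 : (H.subgroupOf N).index ≠ 0 := by omega
  have h1 := Subgroup.pow_mem_of_index_ne_zero_of_dvd h0 (⟨z, hzN⟩ : N) (n := 6) (by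
    intro m hm0 hm
    rw [hidx] at hm
    interval_cases m <;> decide)
  have h2 : ((⟨z, hzN⟩ : N) ^ 6 : N) = ⟨z, hzN⟩ := by
    apply Subtype.ext
    have : z ^ 6 = z := by rw [pow_succ, hz, one_mul]
    simpa using this
  rw [h2] at h1
  exact Subgroup.mem_subgroupOf.1 h1

theorem mem_unique_sylow {K : Type*} [Group K] [Finite K] {p : ℕ} [Fact p.Prime]
    (hs : Nat.card (Sylow p K) = 1) (T : Sylow p K) {x : K} (hx : x ^ p = 1) :
    x ∈ (T : Subgroup K) := by
  by_cases h1 : x = 1
  · rw [h1]; exact one_mem _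
  · have ho : orderOf x = p := orderOf_eq_prime hx h1
    obtain ⟨Q, hQ⟩ := exists_sylow_mem_of_orderOf ho
    have : Q = T := (Nat.card_eq_one_iff_unique.1 hs).1.elim Q T
    rwa [← this]

theorem le_normalizer_of_unique {H N : Subgroup G} (hHN : H ≤ N) (hidx : (H.subgroupOf N).index = 3)
    {m : ℕ} [Fact (Nat.Prime 5)] (hH : Nat.card H = 5 * m) (hm : ¬ 5 ∣ m)
    (hs : Nat.card (Sylow 5 H) = 1) (T : Sylow 5 H) :
    N ≤ normalizer (((T : Subgroup H).map H.subtype : Subgroup G) : Set G) := by
  have hTc : Nat.card (T : Subgroup H) = 5 := by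
    have := sylow_card_of_card_eq (p := 5) (a := 1) (m := m) (G := H) (by rw [hH, pow_one]) hm T
    simpa using this
  have key : ∀ g ∈ N, ∀ x ∈ (T : Subgroup H).map H.subtype,
      g * x * g⁻¹ ∈ (T : Subgroup H).map H.subtype := by
    intro g hg x hx
    obtain ⟨s, hs', rfl⟩ := hx
    have hs5 : s ^ 5 = 1 := by
      have h1 : orderOf s ∣ Nat.card (T : Subgroup H) := Subgroup.orderOf_dvd_natCard _ hs'
      rw [hTc] at h1
      exact orderOf_dvd_iff_pow_eq_one.1 h1
    have hs5' : (s : G) ^ 5 = 1 := by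
      have := congrArg (Subtype.val) hs5
      simpa using this
    have hw5 : (g * (s : G) * g⁻¹) ^ 5 = 1 := by
      rw [conj_pow, hs5', mul_one, mul_inv_cancel]
    have hwN : g * (s : G) * g⁻¹ ∈ N := N.mul_mem (N.mul_mem hg (hHN s.2)) (N.inv_mem hg)
    have hwH : g * (s : G) * g⁻¹ ∈ H := mem_of_index_three hidx hwN hw5
    have : (⟨_, hwH⟩ : H) ∈ (T : Subgroup H) := by
      refine mem_unique_sylow hs T ?_
      apply Subtype.ext
      simpa using hw5
    exact ⟨_, this, rfl⟩
  intro g hg
  rw [mem_normalizer_iff]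
  intro x
  refine ⟨key g hg x, fun hx => ?_⟩
  have := key g⁻¹ (N.inv_mem hg) _ hx
  have h2 : g⁻¹ * (g * x * g⁻¹) * g⁻¹⁻¹ = x := by group
  rwa [h2] at this

theorem count_dvd {p : ℕ} [Fact p.Prime] (Q : Sylow p G) (L : Subgroup G)
    (hL : L ≤ normalizer ((Q : Subgroup G) : Set G)) :
    Nat.card (Sylow p G) * Nat.card L ∣ Nat.card G := by
  rw [← card_normalizer_mul_card_sylow Q, mul_comm]
  exact mul_dvd_mul_right (Subgroup.card_dvd_of_le hL) _

theorem nineteen_le [IsSimpleGroup G] (hG : Nat.card G = 175560) {p : ℕ} [Fact p.Prime]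
    (hp : p ∣ 175560) : 19 ≤ Nat.card (Sylow p G) := by
  have hna : ¬ IsMulCommutative G := not_isMulCommutative_of_not_prime (by rw [hG]; norm_num)
  have h := two_mul_card_dvd_factorial_card_sylow hna (p := p) (by rw [hG]; exact hp)
  have h19 : 19 ∣ (Nat.card (Sylow p G)).factorial := dvd_trans (by rw [hG]; norm_num) h
  exact (Nat.Prime.dvd_factorial (by norm_num)).1 h19

theorem index_of_cards {N H : Subgroup G} (hle : H ≤ N) (hc : Nat.card N = Nat.card H * 3) :
    (H.subgroupOf N).index = 3 := by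
  have h1 := Subgroup.card_mul_index (H.subgroupOf N)
  have h2 : Nat.card (H.subgroupOf N) = Nat.card H :=
    Nat.card_congr (Subgroup.subgroupOfEquivOfLe hle).toEquiv
  rw [h2, hc] at h1
  exact Nat.eq_of_mul_eq_mul_left Nat.card_pos h1

/-- A generator of a subgroup of prime order. -/
theorem exists_gen {K : Type*} [Group K] [Finite K] {p : ℕ} (hp : p.Prime) (T : Subgroup K)
    (hT : Nat.card T = p) : ∃ z ∈ T, orderOf z = p ∧ T = zpowers z := by
  have hnt : Nontrivial T := by
    rw [← Finite.one_lt_card_iff_nontrivial, hT]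
    exact hp.one_lt
  obtain ⟨x, hx⟩ := exists_ne (1 : T)
  have hx' : (x : K) ≠ 1 := fun h => hx (Subtype.ext h)
  exact ⟨x, x.2, orderOf_eq_of_mem_of_ne_one hp hT x.2 hx',
    (zpowers_eq_of_mem_of_ne_one hp hT x.2 hx').symm⟩

/-- Conjugation action iterates. -/
theorem conj_pow_iter {K : Type*} [Group K] {z y : K} {u : ℕ} (h : z * y * z⁻¹ = y ^ u) (k : ℕ) :
    z ^ k * y * (z ^ k)⁻¹ = y ^ (u ^ k) := by
  induction k with
  | zero => simp
  | succ k ih =>
    have h1 : z ^ (k + 1) * y * (z ^ (k + 1))⁻¹ = z * (z ^ k * y * (z ^ k)⁻¹) * z⁻¹ := by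
      rw [pow_succ']; group
    rw [h1, ih, ← conj_pow, h, ← pow_mul]
    congr 1
    rw [pow_succ']

theorem exists_pow_lt {K : Type*} [Group K] [Finite K] {y w : K} (hw : w ∈ zpowers y) :
    ∃ u < orderOf y, w = y ^ u := by
  have h1 : w ∈ Submonoid.powers y := (mem_powers_iff_mem_zpowers).2 hw
  obtain ⟨k, hk⟩ := h1
  refine ⟨k % orderOf y, Nat.mod_lt _ (orderOf_pos y), ?_⟩
  rw [pow_mod_orderOf]
  exact hk.symm

/-- An element of order `m` acting on a group of prime order with `gcd(m, r-1) = 1` is trivial. -/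
theorem commute_of_act {K : Type*} [Group K] [Finite K] {y z : K} {r m : ℕ}
    (hy : orderOf y = r) (hn : z * y * z⁻¹ ∈ zpowers y) (hz : z ^ m = 1)
    (hdec : ∀ u < r, (u ^ m) % r = 1 % r → u = 1) : Commute z y := by
  obtain ⟨u, hu, hw⟩ := exists_pow_lt hn
  rw [hy] at hu
  have h1 := conj_pow_iter hw m
  rw [hz, one_mul, inv_one, mul_one] at h1
  have h2 : y ^ 1 = y ^ (u ^ m) := by rw [pow_one]; exact h1
  have h3 := (pow_eq_pow_iff_modEq).1 h2
  rw [hy] at h3
  have h4 : u = 1 := hdec u hu h3.symm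
  rw [h4, pow_one] at hw
  exact mul_inv_eq_iff_eq_mul.1 hw

theorem commute_of_invol {K : Type*} [Group K] [Finite K] {a z y : K} (ha : a * a = 1)
    (hz : orderOf z = 5) (hnz : a * z * a⁻¹ ∈ zpowers z) (hzy : z * y * z⁻¹ ∈ zpowers y)
    (hay : a * y * a⁻¹ ∈ zpowers y) (hnc : ¬ Commute z y) : Commute a z := by
  have hainv : a⁻¹ = a := inv_eq_of_mul_eq_one_left ha
  obtain ⟨k, hk, hk'⟩ := exists_pow_lt hnz
  rw [hz] at hk
  have h1 := conj_pow_iter hk' 2
  have h2 : a ^ 2 = 1 := by rw [pow_two, ha]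
  rw [h2, one_mul, inv_one, mul_one] at h1
  have h3 : z ^ 1 = z ^ (k ^ 2) := by rw [pow_one]; exact h1
  have h4 := (pow_eq_pow_iff_modEq).1 h3
  rw [hz] at h4
  have h5 : k = 1 ∨ k = 4 := by
    have hd : ∀ k < 5, (k ^ 2) % 5 = 1 % 5 → k = 1 ∨ k = 4 := by decide
    exact hd k hk h4.symm
  rcases h5 with rfl | rfl
  · rw [pow_one] at hk'
    exact mul_inv_eq_iff_eq_mul.1 hk'
  · exfalso
    apply hnc
    obtain ⟨i, -, hi⟩ := exists_pow_lt hzy
    obtain ⟨j, -, hj⟩ := exists_pow_lt hay
    have hz5 : z ^ 5 = 1 := by rw [← hz]; exact pow_orderOf_eq_one z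
    have hzi : a * z * a⁻¹ = z⁻¹ := by
      rw [hk']
      exact eq_inv_of_mul_eq_one_left (by rw [← pow_succ, hz5])
    -- set w = a y a⁻¹
    obtain ⟨w, hw⟩ : ∃ w, w = a * y * a⁻¹ := ⟨_, rfl⟩
    have hj' : w = y ^ j := hw.trans hj
    have hl : z * w * z⁻¹ = y ^ (i * j) := by
      rw [hj', ← conj_pow, hi, pow_mul]
    have hr : a * (z * y * z⁻¹) * a⁻¹ = z⁻¹ * w * z := by
      have : a * (z * y * z⁻¹) * a⁻¹ = (a * z * a⁻¹) * (a * y * a⁻¹) * (a * z⁻¹ * a⁻¹) := by group
      rw [this, hzi, ← hw]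
      have h7 : a * z⁻¹ * a⁻¹ = z := by
        have : a * z⁻¹ * a⁻¹ = (a * z * a⁻¹)⁻¹ := by group
        rw [this, hzi, inv_inv]
      rw [h7]
    have hr' : a * (z * y * z⁻¹) * a⁻¹ = y ^ (j * i) := by
      rw [hi, ← conj_pow, ← hw, hj', pow_mul]
    have heq : z⁻¹ * w * z = z * w * z⁻¹ := by
      rw [← hr, hr', hl, mul_comm]
    have hc2 : Commute w (z ^ 2) := by
      have : w * z ^ 2 = z ^ 2 * w := by
        rw [pow_two]
        have h8 : z * (z⁻¹ * w * z) * z = z * (z * w * z⁻¹) * z := by rw [heq]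
        have h9 : z * (z⁻¹ * w * z) * z = w * (z * z) := by group
        have h10 : z * (z * w * z⁻¹) * z = z * z * w := by group
        rw [h9, h10] at h8
        exact h8
      exact this
    have hcz : Commute w z := by
      have h6 : z = (z ^ 2) ^ 3 := by
        rw [← pow_mul]
        show z = z ^ 6
        rw [pow_succ, hz5, one_mul]
      rw [h6]
      exact hc2.pow_right 3
    -- y = w ^ j
    have hyw : y = w ^ j := by
      have h11 : a * w * a⁻¹ = y := by
        rw [hw]
        have : a * (a * y * a⁻¹) * a⁻¹ = (a * a) * y * (a * a)⁻¹ := by group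
        rw [this, ha]; simp
      calc y = a * w * a⁻¹ := h11.symm
        _ = a * y ^ j * a⁻¹ := by rw [hj']
        _ = (a * y * a⁻¹) ^ j := by rw [conj_pow]
        _ = w ^ j := by rw [hw]
    have hfin : Commute z (w ^ j) := (hcz.pow_left j).symm
    rw [← hyw] at hfin
    exact hfin

omit [Finite G] in
theorem mem_normalizer_of_commute {y z : G} (hc : Commute z y) :
    y ∈ normalizer ((zpowers z : Subgroup G) : Set G) := by
  apply centralizer_le_normalizer
  rw [Subgroup.mem_centralizer_iff]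
  intro h hh
  obtain ⟨k, rfl⟩ := Subgroup.mem_zpowers_iff.1 hh
  exact (hc.zpow_left k)

theorem count760 {K : Type*} [Group K] [Finite K] [Fact (Nat.Prime 5)] [Fact (Nat.Prime 19)]
    (hK : Nat.card K = 760) (t : K) (ht : t ≠ 1) (ht2 : t * t = 1) (hc : ∀ x, Commute t x)
    (h19 : Nat.card (Sylow 19 K) = 20) (h5 : Nat.card (Sylow 5 K) = 76) : False := by
  have c5 := card_orderOf_eq_prime (p := 5) (G := K) (fun P => by
    simpa using sylow_card_of_card_eq (p := 5) (a := 1) (m := 152) (G := K) (by rw [hK]; norm_num)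
      (by norm_num) P)
  have c19 := card_orderOf_eq_prime (p := 19) (G := K) (fun P => by
    simpa using sylow_card_of_card_eq (p := 19) (a := 1) (m := 40) (G := K) (by rw [hK]; norm_num)
      (by norm_num) P)
  rw [h5] at c5
  rw [h19] at c19
  have tpow : ∀ n : ℕ, t ^ (2 * n) = 1 := by
    intro n
    rw [pow_mul, pow_two, ht2, one_pow]
  have h19' : ∀ g : K, orderOf g = 19 → (t * g) ^ 19 = t := by
    intro g hg
    have hg1 : g ^ 19 = 1 := by rw [← hg]; exact pow_orderOf_eq_one g
    rw [(hc g).mul_pow, hg1, mul_one]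
    have : t ^ 19 = t ^ (2 * 9) * t := by rw [← pow_succ]
    rw [this, tpow, one_mul]
  have h38 : ∀ g : K, orderOf g = 19 → (t * g) ^ 38 = 1 := by
    intro g hg
    have : (t * g) ^ 38 = ((t * g) ^ 19) ^ 2 := by rw [← pow_mul]
    rw [this, h19' g hg, pow_two, ht2]
  let f : ({g : K // orderOf g = 5} ⊕ {g : K // orderOf g = 19}) ⊕ {g : K // orderOf g = 19} → K :=
    Sum.elim (Sum.elim (fun g => g.1) (fun g => g.1)) (fun g => t * g.1)
  have hA : ∀ a b : K, orderOf a = 5 → orderOf b = 19 → a ≠ b := by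
    intro a b ha hb hab
    rw [hab, hb] at ha
    omega
  have hB : ∀ a b : K, orderOf a = 5 → orderOf b = 19 → a ≠ t * b := by
    intro a b ha hb hab
    have h1 : a ^ 38 = 1 := by rw [hab]; exact h38 b hb
    have h2 := orderOf_dvd_of_pow_eq_one h1
    rw [ha] at h2
    omega
  have hC : ∀ a b : K, orderOf a = 19 → orderOf b = 19 → a ≠ t * b := by
    intro a b ha hb hab
    have h1 : a ^ 19 = 1 := by rw [← ha]; exact pow_orderOf_eq_one a
    rw [hab, h19' b hb] at h1
    exact ht h1
  have hf : Function.Injective f := by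
    intro x y hxy
    rcases x with (⟨a, ha⟩ | ⟨a, ha⟩) | ⟨a, ha⟩ <;> rcases y with (⟨b, hb⟩ | ⟨b, hb⟩) | ⟨b, hb⟩ <;>
      simp only [f, Sum.elim_inl, Sum.elim_inr] at hxy
    · subst hxy; rfl
    · exact absurd hxy (hA a b ha hb)
    · exact absurd hxy (hB a b ha hb)
    · exact absurd hxy.symm (hA b a hb ha)
    · subst hxy; rfl
    · exact absurd hxy (hC a b ha hb)
    · exact absurd hxy.symm (hB b a hb ha)
    · exact absurd hxy.symm (hC b a hb ha)
    · have := mul_left_cancel hxy
      subst this; rfl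
  have hle := Nat.card_le_card_of_injective f hf
  rw [Nat.card_sum, Nat.card_sum, c5, c19, hK] at hle
  omega

variable [IsSimpleGroup G]

theorem no_440 (hG : Nat.card G = 175560)
    (hE : ∀ P : Sylow 2 G, ∀ x ∈ (P : Subgroup G), x * x = 1)
    (_hconj : ∀ a b : G, orderOf a = 2 → orderOf b = 2 → IsConj a b)
    (t : G) (_ht : orderOf t = 2)
    (h : Nat.card (centralizer ({t} : Set G)) = 440) : False := by
  classical
  have hna : ¬ IsMulCommutative G := not_isMulCommutative_of_not_prime (by rw [hG]; norm_num)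
  have f5 : Fact (Nat.Prime 5) := ⟨by norm_num⟩
  have f11 : Fact (Nat.Prime 11) := ⟨by norm_num⟩
  have f2 : Fact (Nat.Prime 2) := ⟨by norm_num⟩
  set H := centralizer ({t} : Set G) with hH
  have hn11 : Nat.card (Sylow 11 H) = 1 := by
    have h1 := card_sylow_mem_filter (p := 11) (a := 1) (m := 40) (G := H) (by rw [h]; norm_num)
      (by norm_num) (by norm_num)
    have h2 : (Nat.divisors 40).filter (fun n => n % 11 = 1 % 11) = {1} := by decide +kernel
    rw [h2] at h1
    exact Finset.mem_singleton.1 h1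
  obtain ⟨S⟩ : Nonempty (Sylow 11 H) := inferInstance
  haveI hsub : Subsingleton (Sylow 11 H) := (Nat.card_eq_one_iff_unique.1 hn11).1
  have hSn : (S : Subgroup H).Normal := Sylow.normal_of_subsingleton S
  have hSc : Nat.card (S : Subgroup H) = 11 := by
    simpa using sylow_card_of_card_eq (p := 11) (a := 1) (m := 40) (G := H) (by rw [h]; norm_num)
      (by norm_num) S
  obtain ⟨Q, hQ⟩ := exists_sylow_eq (r := 11) (m := 15960) (A := (S : Subgroup H).map H.subtype)
    (by rw [hG]) (by norm_num) (by rw [Subgroup.card_map_of_injective H.subtype_injective]; exact hSc)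
  have hHN : H ≤ normalizer ((Q : Subgroup G) : Set G) := by
    rw [hQ]; exact le_normalizer_map H _ hSn
  have hn : Nat.card (Sylow 11 G) = 133 := by
    have h1 := count_dvd Q H hHN
    rw [hG, h] at h1
    have h2 : Nat.card (Sylow 11 G) ∣ 399 :=
      Nat.dvd_of_mul_dvd_mul_right (k := 440) (by norm_num) (by simpa using h1)
    have h3 := nineteen_le (G := G) hG (p := 11) (by norm_num)
    have h4 : Nat.card (Sylow 11 G) % 11 = 1 % 11 := card_sylow_mod
    have h5 : Nat.card (Sylow 11 G) ∈ (Nat.divisors 399).filter (fun n => n % 11 = 1 % 11 ∧ 19 ≤ n) := by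
      rw [Finset.mem_filter, Nat.mem_divisors]; exact ⟨⟨h2, by norm_num⟩, h4, h3⟩
    have h6 : (Nat.divisors 399).filter (fun n => n % 11 = 1 % 11 ∧ 19 ≤ n) = {133} := by decide +kernel
    rw [h6] at h5
    exact Finset.mem_singleton.1 h5
  have hNc : Nat.card (normalizer ((Q : Subgroup G) : Set G)) = Nat.card H * 3 := by
    have h1 := card_normalizer_mul_card_sylow Q
    rw [hn, hG] at h1
    rw [h]; omega
  have hidx := index_of_cards hHN hNc
  have h5mem := card_sylow_mem_filter (p := 5) (a := 1) (m := 88) (G := H) (by rw [h]; norm_num)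
    (by norm_num) (by norm_num)
  have h5set : (Nat.divisors 88).filter (fun n => n % 5 = 1 % 5) = {1, 11} := by decide +kernel
  rw [h5set] at h5mem
  obtain ⟨T⟩ : Nonempty (Sylow 5 H) := inferInstance
  have hTc : Nat.card (T : Subgroup H) = 5 := by
    simpa using sylow_card_of_card_eq (p := 5) (a := 1) (m := 88) (G := H) (by rw [h]; norm_num)
      (by norm_num) T
  obtain ⟨Q5, hQ5⟩ := exists_sylow_eq (r := 5) (m := 35112) (A := (T : Subgroup H).map H.subtype)
    (by rw [hG]) (by norm_num) (by rw [Subgroup.card_map_of_injective H.subtype_injective]; exact hTc)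
  rcases Finset.mem_insert.1 h5mem with h5 | h5
  · -- unique Sylow 5 of H
    have hN5 := le_normalizer_of_unique hHN hidx (m := 88) (by rw [h]) (by norm_num) h5 T
    rw [← hQ5] at hN5
    have h1 := count_dvd Q5 _ hN5
    rw [hNc, h, hG] at h1
    have h2 : Nat.card (Sylow 5 G) ∣ 133 :=
      Nat.dvd_of_mul_dvd_mul_right (k := 1320) (by norm_num) (by simpa using h1)
    have h3 := nineteen_le (G := G) hG (p := 5) (by norm_num)
    have h4 : Nat.card (Sylow 5 G) % 5 = 1 % 5 := card_sylow_mod
    have h6 : Nat.card (Sylow 5 G) ∈ (Nat.divisors 133).filter (fun n => n % 5 = 1 % 5 ∧ 19 ≤ n) := by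
      rw [Finset.mem_filter, Nat.mem_divisors]; exact ⟨⟨h2, by norm_num⟩, h4, h3⟩
    have h7 : (Nat.divisors 133).filter (fun n => n % 5 = 1 % 5 ∧ 19 ≤ n) = ∅ := by decide +kernel
    rw [h7] at h6
    simp at h6
  · -- eleven Sylow 5 of H
    have h5' : Nat.card (Sylow 5 H) = 11 := Finset.mem_singleton.1 h5
    have hMc : Nat.card (normalizer ((T : Subgroup H) : Set H)) = 40 := by
      have h1 := card_normalizer_mul_card_sylow T
      rw [h5', h] at h1
      omega
    obtain ⟨z, hzT, hzo, hTz⟩ := exists_gen (by norm_num : Nat.Prime 5) (T : Subgroup H) hTc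
    obtain ⟨y, hyS, hyo, hSy⟩ := exists_gen (by norm_num : Nat.Prime 11) (S : Subgroup H) hSc
    have hnc : ¬ Commute z y := by
      intro hc
      have hyM : y ∈ normalizer ((T : Subgroup H) : Set H) := by
        rw [hTz]; exact mem_normalizer_of_commute hc
      have h1 := Subgroup.orderOf_dvd_natCard _ hyM
      rw [hyo, hMc] at h1
      omega
    obtain ⟨K, hKc⟩ := Sylow.exists_subgroup_card_pow_prime (G := normalizer ((T : Subgroup H) : Set H))
      2 (n := 3) (by rw [hMc]; norm_num)
    set φ : normalizer ((T : Subgroup H) : Set H) →* G :=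
      H.subtype.comp (normalizer ((T : Subgroup H) : Set H)).subtype with hφ
    have hφi : Function.Injective φ := by
      rw [hφ, MonoidHom.coe_comp]
      exact H.subtype_injective.comp (Subgroup.subtype_injective _)
    have hRc : Nat.card (K.map φ) = 8 := by
      rw [Subgroup.card_map_of_injective hφi, hKc]; norm_num
    have hRp : IsPGroup 2 (K.map φ) := by
      rw [IsPGroup.iff_card]; exact ⟨3, by rw [hRc]; norm_num⟩
    obtain ⟨P, hP⟩ := hRp.exists_le_sylow
    have hcomm : ∀ k ∈ K, Commute ((k : normalizer ((T : Subgroup H) : Set H)) : H) z := by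
      intro k hk
      have haa : ((k : normalizer ((T : Subgroup H) : Set H)) : H) * (k : normalizer ((T : Subgroup H) : Set H)) = 1 := by
        apply Subtype.ext
        have := hE P (φ k) (hP (Subgroup.mem_map_of_mem φ hk))
        simpa [hφ] using this
      have hnz : ((k : normalizer ((T : Subgroup H) : Set H)) : H) * z * ((k : normalizer ((T : Subgroup H) : Set H)) : H)⁻¹ ∈ zpowers z := by
        have := (mem_normalizer_iff.1 k.2 z).1 hzT
        exact hTz.le this
      have hzy : z * y * z⁻¹ ∈ zpowers y := by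
        have := hSn.conj_mem y hyS z
        rwa [hSy] at this
      have hay : ((k : normalizer ((T : Subgroup H) : Set H)) : H) * y * ((k : normalizer ((T : Subgroup H) : Set H)) : H)⁻¹ ∈ zpowers y := by
        have := hSn.conj_mem y hyS k
        rwa [hSy] at this
      exact commute_of_invol haa hzo hnz hzy hay hnc
    have hRC : K.map φ ≤ centralizer ((Q5 : Subgroup G) : Set G) := by
      rintro x ⟨k, hk, rfl⟩
      rw [Subgroup.mem_centralizer_iff]
      intro q hq
      rw [SetLike.mem_coe, hQ5] at hq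
      obtain ⟨q', hq', rfl⟩ := hq
      rw [hTz] at hq'
      obtain ⟨e, rfl⟩ := Subgroup.mem_zpowers_iff.1 hq'
      have h1 : Commute ((k : normalizer ((T : Subgroup H) : Set H)) : H) (z ^ e) := (hcomm k hk).zpow_right e
      have h2 := congrArg Subtype.val h1.eq
      exact h2.symm
    have h8 : 8 ∣ Nat.card (centralizer ((Q5 : Subgroup G) : Set G)) := by
      rw [← hRc]; exact Subgroup.card_dvd_of_le hRC
    obtain ⟨s, hs1, hs2, -, hs4⟩ := exists_relIndex_of_card_eq hna (p := 5) (m := 35112) (by rw [hG])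
      (by norm_num) Q5
    have hCN := centralizer_le_normalizer ((Q5 : Subgroup G) : Set G)
    have e1 := relIndex_mul_index hCN
    have e2 := Subgroup.card_mul_index (centralizer ((Q5 : Subgroup G) : Set G))
    have e3 := Subgroup.card_mul_index (normalizer ((Q5 : Subgroup G) : Set G))
    rw [hs4] at e1
    have e4 : Nat.card (normalizer ((Q5 : Subgroup G) : Set G)) =
        Nat.card (centralizer ((Q5 : Subgroup G) : Set G)) * s := by
      have h0 : (normalizer ((Q5 : Subgroup G) : Set G)).index ≠ 0 := Subgroup.index_ne_zero_of_finite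
      apply Nat.eq_of_mul_eq_mul_right (Nat.pos_of_ne_zero h0)
      rw [e3, mul_assoc, e1, e2]
    have hs2' : 2 ∣ s := by
      have hs4' : s ≤ 4 := Nat.le_of_dvd (by norm_num) hs2
      interval_cases s
      · norm_num
      · norm_num at hs2
      · norm_num
    have h16 : 16 ∣ Nat.card (normalizer ((Q5 : Subgroup G) : Set G)) := by
      rw [e4]
      exact Nat.mul_dvd_mul h8 hs2'
    have h17 := dvd_trans h16 (Subgroup.card_subgroup_dvd_card _)
    rw [hG] at h17
    norm_num at h17

theorem no_760 (hG : Nat.card G = 175560)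
    (_hE : ∀ P : Sylow 2 G, ∀ x ∈ (P : Subgroup G), x * x = 1)
    (_hconj : ∀ a b : G, orderOf a = 2 → orderOf b = 2 → IsConj a b)
    (t : G) (ht : orderOf t = 2)
    (h : Nat.card (centralizer ({t} : Set G)) = 760) : False := by
  classical
  have f5 : Fact (Nat.Prime 5) := ⟨by norm_num⟩
  have f19 : Fact (Nat.Prime 19) := ⟨by norm_num⟩
  set H := centralizer ({t} : Set G) with hH
  have htH : t ∈ H := by
    rw [hH, Subgroup.mem_centralizer_iff]
    intro y hy
    rw [Set.mem_singleton_iff.1 hy]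
  have htt : t * t = 1 := by
    have := pow_orderOf_eq_one t
    rw [ht, pow_two] at this
    exact this
  have ht1 : t ≠ 1 := by
    rintro rfl
    rw [orderOf_one] at ht
    omega
  have htc : ∀ x : H, Commute (⟨t, htH⟩ : H) x := by
    intro x
    apply Subtype.ext
    have h0 : (x : G) ∈ centralizer ({t} : Set G) := x.2
    exact Subgroup.mem_centralizer_iff.1 h0 t rfl
  have h19mem := card_sylow_mem_filter (p := 19) (a := 1) (m := 40) (G := H) (by rw [h]; norm_num)
    (by norm_num) (by norm_num)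
  have h19set : (Nat.divisors 40).filter (fun n => n % 19 = 1 % 19) = {1, 20} := by decide +kernel
  rw [h19set] at h19mem
  have h5mem := card_sylow_mem_filter (p := 5) (a := 1) (m := 152) (G := H) (by rw [h]; norm_num)
    (by norm_num) (by norm_num)
  have h5set : (Nat.divisors 152).filter (fun n => n % 5 = 1 % 5) = {1, 76} := by decide +kernel
  rw [h5set] at h5mem
  obtain ⟨S⟩ : Nonempty (Sylow 19 H) := inferInstance
  obtain ⟨T⟩ : Nonempty (Sylow 5 H) := inferInstance
  have hSc : Nat.card (S : Subgroup H) = 19 := by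
    simpa using sylow_card_of_card_eq (p := 19) (a := 1) (m := 40) (G := H) (by rw [h]; norm_num)
      (by norm_num) S
  have hTc : Nat.card (T : Subgroup H) = 5 := by
    simpa using sylow_card_of_card_eq (p := 5) (a := 1) (m := 152) (G := H) (by rw [h]; norm_num)
      (by norm_num) T
  obtain ⟨z, hzT, hzo, hTz⟩ := exists_gen (by norm_num : Nat.Prime 5) (T : Subgroup H) hTc
  obtain ⟨y, hyS, hyo, hSy⟩ := exists_gen (by norm_num : Nat.Prime 19) (S : Subgroup H) hSc
  have hz5 : z ^ 5 = 1 := by rw [← hzo]; exact pow_orderOf_eq_one z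
  have hy19 : y ^ 19 = 1 := by rw [← hyo]; exact pow_orderOf_eq_one y
  have hn19 : Nat.card (Sylow 19 H) = 1 := by
    rcases Finset.mem_insert.1 h19mem with h1 | h1
    · exact h1
    · exfalso
      have h20 : Nat.card (Sylow 19 H) = 20 := Finset.mem_singleton.1 h1
      rcases Finset.mem_insert.1 h5mem with h5 | h5
      · -- unique Sylow 5: `y` centralizes `z`
        haveI hsub : Subsingleton (Sylow 5 H) := (Nat.card_eq_one_iff_unique.1 h5).1
        have hTn : (T : Subgroup H).Normal := Sylow.normal_of_subsingleton T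
        have hc : Commute y z := by
          refine commute_of_act (r := 5) (m := 19) hzo ?_ hy19 (by decide)
          have := hTn.conj_mem z hzT y
          rwa [hTz] at this
        have hzN : z ∈ normalizer ((S : Subgroup H) : Set H) := by
          rw [hSy]; exact mem_normalizer_of_commute hc
        have hMc : Nat.card (normalizer ((S : Subgroup H) : Set H)) = 38 := by
          have h1 := card_normalizer_mul_card_sylow S
          rw [h20, h] at h1
          omega
        have h2 := Subgroup.orderOf_dvd_natCard _ hzN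
        rw [hzo, hMc] at h2
        omega
      · have h76 : Nat.card (Sylow 5 H) = 76 := Finset.mem_singleton.1 h5
        exact count760 h (⟨t, htH⟩ : H) (fun h0 => ht1 (congrArg Subtype.val h0))
          (Subtype.ext htt) htc h20 h76
  haveI hsub : Subsingleton (Sylow 19 H) := (Nat.card_eq_one_iff_unique.1 hn19).1
  have hSn : (S : Subgroup H).Normal := Sylow.normal_of_subsingleton S
  obtain ⟨Q, hQ⟩ := exists_sylow_eq (r := 19) (m := 9240) (A := (S : Subgroup H).map H.subtype)
    (by rw [hG]) (by norm_num) (by rw [Subgroup.card_map_of_injective H.subtype_injective]; exact hSc)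
  have hHN : H ≤ normalizer ((Q : Subgroup G) : Set G) := by
    rw [hQ]; exact le_normalizer_map H _ hSn
  have hn : Nat.card (Sylow 19 G) = 77 := by
    have h1 := count_dvd Q H hHN
    rw [hG, h] at h1
    have h2 : Nat.card (Sylow 19 G) ∣ 231 :=
      Nat.dvd_of_mul_dvd_mul_right (k := 760) (by norm_num) (by simpa using h1)
    have h3 := nineteen_le (G := G) hG (p := 19) (by norm_num)
    have h4 : Nat.card (Sylow 19 G) % 19 = 1 % 19 := card_sylow_mod
    have h5 : Nat.card (Sylow 19 G) ∈ (Nat.divisors 231).filter (fun n => n % 19 = 1 % 19 ∧ 19 ≤ n) := by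
      rw [Finset.mem_filter, Nat.mem_divisors]; exact ⟨⟨h2, by norm_num⟩, h4, h3⟩
    have h6 : (Nat.divisors 231).filter (fun n => n % 19 = 1 % 19 ∧ 19 ≤ n) = {77} := by decide +kernel
    rw [h6] at h5
    exact Finset.mem_singleton.1 h5
  have hNc : Nat.card (normalizer ((Q : Subgroup G) : Set G)) = Nat.card H * 3 := by
    have h1 := card_normalizer_mul_card_sylow Q
    rw [hn, hG] at h1
    rw [h]; omega
  have hidx := index_of_cards hHN hNc
  obtain ⟨Q5, hQ5⟩ := exists_sylow_eq (r := 5) (m := 35112) (A := (T : Subgroup H).map H.subtype)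
    (by rw [hG]) (by norm_num) (by rw [Subgroup.card_map_of_injective H.subtype_injective]; exact hTc)
  rcases Finset.mem_insert.1 h5mem with h5 | h5
  · have hN5 := le_normalizer_of_unique hHN hidx (m := 152) (by rw [h]) (by norm_num) h5 T
    rw [← hQ5] at hN5
    have h1 := count_dvd Q5 _ hN5
    rw [hNc, h, hG] at h1
    have h2 : Nat.card (Sylow 5 G) ∣ 77 :=
      Nat.dvd_of_mul_dvd_mul_right (k := 2280) (by norm_num) (by simpa using h1)
    have h3 := nineteen_le (G := G) hG (p := 5) (by norm_num)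
    have h4 : Nat.card (Sylow 5 G) % 5 = 1 % 5 := card_sylow_mod
    have h6 : Nat.card (Sylow 5 G) ∈ (Nat.divisors 77).filter (fun n => n % 5 = 1 % 5 ∧ 19 ≤ n) := by
      rw [Finset.mem_filter, Nat.mem_divisors]; exact ⟨⟨h2, by norm_num⟩, h4, h3⟩
    have h7 : (Nat.divisors 77).filter (fun n => n % 5 = 1 % 5 ∧ 19 ≤ n) = ∅ := by decide +kernel
    rw [h7] at h6
    simp at h6
  · have h76 : Nat.card (Sylow 5 H) = 76 := Finset.mem_singleton.1 h5
    have hMc : Nat.card (normalizer ((T : Subgroup H) : Set H)) = 10 := by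
      have h1 := card_normalizer_mul_card_sylow T
      rw [h76, h] at h1
      omega
    have hc : Commute z y := by
      refine commute_of_act (r := 19) (m := 5) hyo ?_ hz5 (by decide)
      have := hSn.conj_mem y hyS z
      rwa [hSy] at this
    have hyN : y ∈ normalizer ((T : Subgroup H) : Set H) := by
      rw [hTz]; exact mem_normalizer_of_commute hc
    have h2 := Subgroup.orderOf_dvd_natCard _ hyN
    rw [hyo, hMc] at h2
    omega

end Cfsg.Agent.Lib.O175.P7b
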