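import Mathlib
import Cfsg.Agent.Lib.O8CData

/-! The fusion tree of the elements of order 3 in a Sylow 3-subgroup. -/

set_option autoImplicit false
set_option maxRecDepth 100000
set_option Elab.async false

namespace Cfsg.Agent.Lib.O8CTree

open Cfsg.Agent.Lib.OutTree36 Cfsg.Agent.Lib.PcClass36 Cfsg.Agent.Lib.O8CT Cfsg.Agent.Lib.O8CData

/-- part of the tree -/
def R0 : Cfsg.Agent.Lib.O8CT.CT := (.N (.N (.N (.N (.N (.N .I (.L 0 []) (.M [21] 1 0)) (.N (.L 0 [21,17]) (.M [1] 0 0) (.M [1,1] 0 0)) (.M [20] 1 0)) (.N (.N (.L 0 [21,17,16]) (.M [8,8] 0 0) (.M [8] 0 0)) (.M [0,0] 0 0) (.M [0] 0 0)) (.M [20] 1 0)) (.N (.N (.N (.L 0 [17,18]) (.M [9,9] 0 0) (.M [9] 0 0)) (.M [2] 0 0) (.M [2,2] 0 0)) (.N (.N (.L 1 []) (.M [8,8] 0 0) (.M [8] 0 0)) (.M [2] 0 0)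 (.M [0] 0 0)) (.N (.N (.L 2 []) (.M [8] 0 0) (.M [9] 0 0)) (.M [0] 0 0) (.M [0,0] 0 0))) (.M [20] 1 0)) (.N (.N (.N (.N (.L 0 [17,19]) (.M [10,10] 0 0) (.M [10] 0 0)) (.M [3] 0 0) (.M [3,3] 0 0)) (.N (.N (.L 3 []) (.M [8,8] 0 0) (.M [8] 0 0)) (.M [3] 0 0) (.M [0] 0 0)) (.N (.N (.L 4 []) (.M [8] 0 0) (.M [10] 0 0)) (.M [0] 0 0) (.M [0,0] 0 0))) (.N (.N (.N (.L 5 []) (.M [9,9] 0 0) (.M [9] 0 0)) (.M [2] 0 0) (.M [2,2] 0 0)) (.N (.N (.L 6 []) (.M [8,8] 0 0) (.M [8] 0 0)) (.M [2] 0 0) (.M [0] 0 0)) (.N (.N (.L 7 []) (.M [8] 0 0) (.M [9] 0 0)) (.M [0] 0 0) (.M [0,0] 0 0))) (.N (.N (.N (.L 8 []) (.M [9] 0 0) (.M [10] 0 0)) (.M [3] 0 0) (.M [2] 0 0)) (.N (.N (.L 9 []) (.M [9] 0 0) (.M [8] 0 0)) (.M [3] 0 0) (.M [0] 0 0)) (.N (.N (.L 10 []) (.M [8] 0 0) (.M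 [10] 0 0)) (.M [0] 0 0) (.M [2] 0 0)))) (.M [20] 1 0)) (.N (.N (.N (.N (.N (.L 0 [17,16,18]) (.M [11] 0 0) (.M [11,11] 0 0)) (.N (.L 2 [16]) (.M [1] 0 0) (.M [1,1] 0 0)) (.N (.L 1 [16]) (.M [11] 0 0) (.M [1] 0 0))) (.M [2] 0 0) (.M [2,2] 0 0)) (.M [0,0] 0 0) (.M [0] 0 0)) (.N (.N (.N (.N (.L 11 []) (.M [11] 0 0) (.M [10] 0 0)) (.M [3] 0 0) (.M [3,3] 0 0)) (.M [2] 0 0) (.M [2,2] 0 0)) (.M [0,0] 0 0) (.M [0] 0 0)) (.M [20,21] 1 0)) (.M [20] 1 0))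

/-- part of the tree -/
def R1 : Cfsg.Agent.Lib.O8CT.CT := (.N (.N (.N (.N (.N (.N (.N (.L 0 [21,17,18,19]) (.M [13] 0 0) (.M [13,13] 0 0)) (.N (.L 8 [19]) (.M [1] 0 0) (.M [1,1] 0 0)) (.N (.L 5 [20,18]) (.M [13] 0 0) (.M [1] 0 0))) (.N (.N (.L 11 [16,19]) (.M [13] 0 0) (.M [8] 0 0)) (.M [0,0] 0 0) (.M [0] 0 0)) (.M [20,21] 1 0)) (.M [3] 0 0) (.M [3,3] 0 0)) (.M [2] 0 0) (.M [2,2] 0 0)) (.N (.N (.N (.N (.N (.L 3 [20,18]) (.M [11] 0 0) (.M [11,11] 0 0)) (.N (.L 9 [20,18]) (.M [1] 0 0) (.M [1,1] 0 0)) (.N (.L 6 [20,18]) (.M [11] 0 0) (.M [1] 0 0))) (.N (.N (.L 11 [2,8,18,21]) (.M [11] 0 0) (.M [8] 0 0)) (.M [0,0,3,3] 0 0) (.M [0,3] 0 0)) (.M [20,21] 1 0)) (.M [3] 0 0) (.M [0] 0 0)) (.M [2] 0 33) (.M [2,2] 0 57)) (.N (.N (.N (.N (.N (.L 4 [20,18]) (.M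 [13] 0 0) (.M [11] 0 0)) (.N (.L 10 [20,18]) (.M [1] 0 0) (.M [11] 0 0)) (.N (.L 7 [20,18]) (.M [13] 0 0) (.M [1] 0 0))) (.N (.N (.L 11 [2,2,10,18,21]) (.M [13] 0 0) (.M [8] 0 0)) (.M [0,0,3] 0 0) (.M [0,3,3] 0 0)) (.M [20,21] 1 0)) (.M [0] 0 0) (.M [0,0] 0 0)) (.M [2] 0 57) (.M [2,2] 0 33))) (.N (.N (.N (.N (.N (.N (.L 1 [20,19]) (.M [12] 0 0) (.M [12,12] 0 0)) (.N (.L 10 [19]) (.M [1] 0 0) (.M [1,1] 0 0)) (.N (.L 6 [20,19]) (.M [12] 0 0) (.M [1] 0 0))) (.N (.N (.L 11 [3,3,16,19]) (.M [12] 0 0) (.M [8] 0 0)) (.M [0,0,2,2] 0 0) (.M [0,2] 0 0)) (.M [20,21] 1 0)) (.M [3] 0 11) (.M [3,3] 0 19)) (.M [2] 0 0) (.M [0] 0 0)) (.N (.N (.N (.N (.N (.L 6 [20,16,18,19]) (.M [11] 0 0) (.M [11,11] 0 0)) (.N (.L 11 [2,11,21,0,3,16,18,2,19,21,0,3]) (.M [1] 0 0) (.M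 [1,1] 0 0)) (.N (.L 12 []) (.M [11] 0 0) (.M [1] 0 0))) (.M [0,2,3,20,21] 0 4) (.M [0,2,3] 0 4)) (.M [3] 0 11) (.M [0,2] 0 2)) (.M [2] 0 33) (.M [0] 0 55)) (.N (.N (.N (.N (.N (.L 10 [16,18,19]) (.M [12] 0 0) (.M [11] 0 0)) (.N (.L 12 [0,2,16,21,0,18,2]) (.M [1] 0 0) (.M [11] 0 0)) (.N (.L 11 [0,9,21,2,3,16,0,18,21,2,19,3]) (.M [12] 0 0) (.M [1] 0 0))) (.M [0,2,3,3] 0 8) (.M [0,0,2,2,3] 0 5)) (.M [3] 0 11) (.M [3,3] 0 19)) (.M [2] 0 57) (.M [0] 0 29))) (.N (.N (.N (.N (.N (.N (.L 2 [20,19]) (.M [13] 0 0) (.M [12] 0 0)) (.N (.L 9 [19]) (.M [1] 0 0) (.M [12] 0 0)) (.N (.L 7 [20,19]) (.M [13] 0 0) (.M [1] 0 0))) (.N (.N (.L 11 [3,16,19]) (.M [13] 0 0) (.M [8] 0 0)) (.M [0,0,2] 0 0) (.M [0,2,2] 0 0)) (.M [20,21] 1 0)) (.M [3] 0 19) (.M [3,3] 0 11)) (.M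 [0] 0 0) (.M [0,0] 0 0)) (.N (.N (.N (.N (.N (.L 9 [20,16,18,19]) (.M [11] 0 0) (.M [12] 0 0)) (.N (.L 12 [0,3,16,21,0,19,3]) (.M [1] 0 0) (.M [12] 0 0)) (.N (.L 11 [0,2,3,9,16,21,0,18,2,19,3]) (.M [11] 0 0) (.M [1] 0 0))) (.M [0,2,2,3] 0 8) (.M [0,0,2,3,3] 0 5)) (.M [3] 0 19) (.M [3,3] 0 11)) (.M [0] 0 28) (.M [0,0] 0 56)) (.N (.N (.N (.N (.N (.L 7 [16,18,19]) (.M [13] 0 0) (.M [11] 0 0)) (.N (.L 11 [3,1,21,0,2,16,19,3,21,0,18,2]) (.M [1] 0 0) (.M [11] 0 0)) (.N (.L 12 [2,2,3,18,2,21,19,3]) (.M [13] 0 0) (.M [1] 0 0))) (.M [0,0,2,3] 0 7) (.M [0,2,2,3,3] 0 4)) (.M [3] 0 19) (.M [3,3] 0 11)) (.M [0] 0 56) (.M [0,0] 0 28))))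

/-- part of the tree -/
def R2 : Cfsg.Agent.Lib.O8CT.CT := (.N (.N (.N R0 (.N (.N (.N (.N (.N (.N (.L 0 [17,16,19]) (.M [12] 0 0) (.M [12,12] 0 0)) (.N (.L 4 [16]) (.M [1] 0 0) (.M [1,1] 0 0)) (.N (.L 3 [16]) (.M [12] 0 0) (.M [1] 0 0))) (.M [3] 0 0) (.M [3,3] 0 0)) (.N (.N (.N (.L 11 [10,21,16]) (.M [12] 0 0) (.M [9] 0 0)) (.M [2] 0 0) (.M [2,2] 0 0)) (.M [3] 0 0) (.M [3,3] 0 0)) (.M [20,21] 1 0)) (.M [0,0] 0 0) (.M [0] 0 0)) (.N (.N (.N (.N (.N (.L 5 [16]) (.M [11] 0 0) (.M [11,11] 0 0)) (.N (.L 7 [16]) (.M [1] 0 0) (.M [1,1] 0 0)) (.N (.L 6 [16]) (.M [11] 0 0) (.M [1] 0 0))) (.M [2] 0 0) (.M [2,2] 0 0)) (.N (.N (.N (.L 11 [10,21,0,16]) (.M [11] 0 0) (.M [9] 0 0)) (.M [2,3,3] 0 0) (.M [2,2,3] 0 0)) (.M [2] 0 2) (.M [2,2] 0 1)) (.M [20,21] 1 0))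 (.M [0,0] 0 29) (.M [0] 0 55)) (.N (.N (.N (.N (.N (.L 8 [16]) (.M [12] 0 0) (.M [11] 0 0)) (.N (.L 10 [16]) (.M [1] 0 0) (.M [11] 0 0)) (.N (.L 9 [16]) (.M [12] 0 0) (.M [1] 0 0))) (.M [3] 0 0) (.M [2] 0 0)) (.N (.N (.N (.L 11 [0,10,21,16]) (.M [12] 0 0) (.M [9] 0 0)) (.M [2,3] 0 0) (.M [2,2,3,3] 0 0)) (.M [3] 0 0) (.M [2] 0 2)) (.M [20,21] 1 0)) (.M [0,0] 0 55) (.M [0] 0 29))) (.M [20] 1 0)) R1 (.M [20] 1 0)) (.N (.N (.N (.N (.N (.N (.N (.N (.L 0 [17,16,18,17]) (.L 2 [16,17]) (.L 1 [16,17])) (.M [11,11] 0 0) (.M [11] 0 0)) (.M [9,9] 0 0) (.M [9] 0 0)) (.M [8,8] 0 0) (.M [8] 0 0)) (.N (.N (.N (.N (.L 11 [17]) (.M [10,10] 0 0) (.M [10] 0 0)) (.M [3] 0 0) (.M [11] 0 0)) (.M [9,9] 0 0) (.M [9] 0 0)) (.M [8,8] 0 0) (.M [8] 0 0)) (.M [20] 1 0)) (.M [1,1]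 0 0) (.M [1] 0 0)) (.N (.N (.N (.N (.N (.N (.L 11 [17,16]) (.M [12] 0 0) (.M [12,12] 0 0)) (.M [11,11] 0 0) (.M [11] 0 0)) (.M [3] 0 0) (.M [9] 0 0)) (.M [8,8] 0 9) (.M [8] 0 18)) (.M [0,0] 0 0) (.M [0] 0 0)) (.M [1,1] 0 0) (.M [1] 0 0)) (.M [20] 1 0)) (.N (.N (.N (.N (.N (.N (.N (.L 11 [17,20,18]) (.M [13] 0 0) (.M [13,13] 0 0)) (.M [11,11] 0 0) (.M [11] 0 0)) (.M [9,9] 0 3) (.M [9] 0 6)) (.M [3] 0 0) (.M [8] 0 0)) (.M [2] 0 0) (.M [2,2] 0 0)) (.M [1,1] 0 0) (.M [1] 0 0)) (.N (.N (.N (.N (.N (.N .C (.M [12] 0 0) (.M [12,12] 0 0)) (.M [11,11] 0 0) (.M [11] 0 0)) (.M [3,8] 0 3) (.M [9] 0 6)) (.M [3] 0 11) (.M [8] 0 18)) (.M [2] 0 0) (.M [0] 0 0)) (.M [1,1] 0 0) (.M [1] 0 0)) (.N (.N (.N (.N (.N (.N .C (.M [13] 0 0) (.M [12] 0 0)) (.M [11,11] 0 0) (.M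 [11] 0 0)) (.M [9,9] 0 3) (.M [9] 0 6)) (.M [3] 0 19) (.M [8] 0 9)) (.M [0] 0 0) (.M [0,0] 0 0)) (.M [1,1] 0 0) (.M [1] 0 0))) (.M [20] 1 0)) (.M [21] 1 0))

/-- part of the tree -/
def R3 : Cfsg.Agent.Lib.O8CT.CT := (.N (.N (.N (.N (.N (.N (.N (.N (.N (.L 0 [17,16,19,17]) (.L 4 [16,17]) (.L 3 [16,17])) (.M [12,12] 0 0) (.M [12] 0 0)) (.M [10,10] 0 0) (.M [10] 0 0)) (.N (.N (.N (.L 11 [10,21,16,17]) (.M [9,9] 0 0) (.M [9] 0 0)) (.M [2] 0 0) (.M [12] 0 0)) (.M [10,10] 0 0) (.M [10] 0 0)) (.M [20] 1 0)) (.M [8,8] 0 0) (.M [8] 0 0)) (.N (.N (.N (.N (.N (.L 11 [10,21,16,17,16]) (.M [11] 0 0) (.M [11,11] 0 0)) (.M [12,12] 0 0) (.M [12] 0 0)) (.M [2] 0 0) (.M [10] 0 0)) (.M [0,0] 0 0) (.M [0] 0 0)) (.M [8,8] 0 27) (.M [8] 0 54)) (.M [20] 1 0)) (.M [1,1]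 0 0) (.M [1] 0 0)) (.N (.N (.N (.N (.N (.N (.N (.L 11 [10,16,17,19]) (.M [13] 0 0) (.M [13,13] 0 0)) (.M [12,12] 0 0) (.M [12] 0 0)) (.M [10,10] 0 3) (.M [10] 0 6)) (.M [3] 0 0) (.M [3,3] 0 0)) (.M [2] 0 0) (.M [8] 0 0)) (.N (.N (.N (.N (.N .C (.M [11] 0 0) (.M [11,11] 0 0)) (.M [12,12] 0 0) (.M [12] 0 0)) (.M [2,8] 0 3) (.M [10] 0 6)) (.M [3] 0 0) (.M [0] 0 0)) (.M [2] 0 33) (.M [8] 0 54)) (.N (.N (.N (.N (.N .C (.M [13] 0 0) (.M [11] 0 0)) (.M [12,12] 0 0) (.M [12] 0 0)) (.M [10,10] 0 3) (.M [10] 0 6)) (.M [0] 0 0) (.M [0,0] 0 0)) (.M [2] 0 57) (.M [8] 0 27))) (.M [1,1] 0 0) (.M [1] 0 0)) (.M [20] 1 0)) (.N (.N (.N (.N (.N (.N (.N (.N (.L 5 [16,17]) (.L 7 [16,17]) (.L 6 [16,17])) (.M [11,11] 0 0) (.M [11] 0 0)) (.M [9,9] 0 0) (.M [9] 0 0)) (.N (.N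 (.N (.L 11 [10,21,0,16,17]) (.M [9,9,10] 0 0) (.M [9,10,10] 0 0)) (.M [2] 0 0) (.M [11] 0 0)) (.M [9,9] 0 6) (.M [9] 0 3)) (.M [20] 1 0)) (.M [8,8] 0 20) (.M [8] 0 10)) (.N (.N (.N (.N (.N (.L 11 [10,21,0,16,17,16]) (.M [11,12,12] 0 0) (.M [11,11,12] 0 0)) (.M [11,11] 0 1) (.M [11] 0 2)) (.M [2] 0 0) (.M [9] 0 0)) (.M [0,0] 0 0) (.M [0] 0 0)) (.M [8,8] 0 47) (.M [8] 0 64)) (.M [20] 1 0)) (.M [1,1] 0 56) (.M [1] 0 28)) (.N (.N (.N (.N (.N (.N (.N .C (.M [13] 0 0) (.M [13,13] 0 0)) (.M [11,11] 0 0) (.M [11] 0 0)) (.M [9,9] 0 3) (.M [9] 0 6)) (.M [3] 0 0) (.M [2,8] 0 3)) (.M [2] 0 0) (.M [8] 0 10)) (.N (.N (.N (.N (.N .C (.M [13] 0 0) (.M [13,13] 0 0)) (.M [11,11] 0 1) (.M [11] 0 2)) (.M [9,9] 0 3) (.M [9] 0 6)) (.M [3] 0 0) (.M [0] 0 0)) (.M [2] 0 33)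 (.M [8] 0 64)) (.N (.N (.N (.N (.N .C (.M [13] 0 0) (.M [13,13] 0 0)) (.M [11,11] 0 2) (.M [11] 0 1)) (.M [9,9] 0 3) (.M [9] 0 6)) (.M [0] 0 0) (.M [0,0] 0 0)) (.M [2] 0 57) (.M [8] 0 37))) (.M [1,1] 0 299) (.M [1] 0 514)) (.M [20] 1 0)) (.N (.N (.N (.N (.N (.N (.N (.N (.L 8 [16,17]) (.L 10 [16,17]) (.L 9 [16,17])) (.M [11] 0 0) (.M [12] 0 0)) (.M [9] 0 0) (.M [10] 0 0)) (.N (.N (.N (.L 11 [0,10,21,16,17]) (.M [9,9,10,10] 0 0) (.M [9,10] 0 0)) (.M [2] 0 0) (.M [12] 0 0)) (.M [9] 0 3) (.M [10] 0 0)) (.M [20] 1 0)) (.M [8,8] 0 10) (.M [8] 0 20)) (.N (.N (.N (.N (.N (.L 11 [0,10,21,16,17,16]) (.M [11,12] 0 0) (.M [11,11,12,12] 0 0)) (.M [11] 0 2) (.M [12] 0 0)) (.M [2] 0 0) (.M [10] 0 0)) (.M [0,0] 0 0) (.M [0] 0 0)) (.M [8,8] 0 37) (.M [8] 0 74)) (.M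 [20] 1 0)) (.M [1,1] 0 28) (.M [1] 0 56)) (.N (.N (.N (.N (.N (.N (.N .C (.M [13] 0 0) (.M [13,13] 0 0)) (.M [11] 0 0) (.M [12] 0 0)) (.M [9] 0 3) (.M [10] 0 6)) (.M [3] 0 0) (.M [3,3] 0 0)) (.M [2] 0 0) (.M [8] 0 20)) (.N (.N (.N (.N (.N .C (.M [13] 0 0) (.M [13,13] 0 0)) (.M [11] 0 2) (.M [12] 0 0)) (.M [9] 0 3) (.M [10] 0 6)) (.M [3] 0 0) (.M [0] 0 0)) (.M [2] 0 33) (.M [8] 0 74)) (.N (.N (.N (.N (.N .C (.M [13] 0 0) (.M [11,12] 0 0)) (.M [11] 0 1) (.M [12] 0 0)) (.M [9] 0 3) (.M [10] 0 6)) (.M [0] 0 0) (.M [0,0] 0 0)) (.M [2] 0 57) (.M [8] 0 47))) (.M [1,1] 0 514) (.M [1] 0 299)) (.M [20] 1 0)))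

/-- part of the tree -/
def R4 : Cfsg.Agent.Lib.O8CT.CT := (.N (.N (.N (.N (.N (.L 0 [21,17,16,18,19]) (.M [14,14] 0 0) (.M [14] 0 0)) (.N (.L 11 [21,19]) (.M [1] 0 0) (.M [14] 0 0)) (.M [21] 1 0)) (.N (.N (.L 8 [16,19]) (.M [8,8] 0 0) (.M [8] 0 0)) (.N (.L 11 [0,10,20,16,18]) (.M [1] 0 0) (.M [8] 0 0)) (.M [21] 1 0)) (.N (.N (.L 5 [20,16,18]) (.M [8] 0 0) (.M [14] 0 0)) (.N (.L 11 [16,0,21,16,19]) (.M [1] 0 0) (.M [14] 0 0)) (.M [21] 1 0))) (.N (.N (.N (.L 4 [20,16,18]) (.M [9,9] 0 0) (.M [9] 0 0)) (.N (.L 11 [18,2,21,18,19]) (.M [1] 0 0) (.M [9] 0 0)) (.M [21] 1 0)) (.N (.N (.L 10 [20,16,18]) (.M [8,8] 0 0) (.M [8] 0 0)) (.N (.L 11 [0,10,21,2,3,16,21,18]) (.M [1] 0 0) (.M [8] 0 0)) (.M [21] 1 0)) (.N (.N (.L 7 [20,16,18]) (.M [8] 0 0) (.M [9] 0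 0)) (.N (.L 11 [3,10,21,0,2,16,21,18]) (.M [1] 0 0) (.M [9] 0 0)) (.M [21] 1 0))) (.N (.N (.N (.L 3 [18,19]) (.M [9] 0 0) (.M [14] 0 0)) (.N (.L 11 [2,8,20,16,18]) (.M [1] 0 0) (.M [14] 0 0)) (.M [21] 1 0)) (.N (.N (.L 9 [20,16,18]) (.M [9] 0 0) (.M [8] 0 0)) (.N (.L 11 [0,2,1,3,20,16,18]) (.M [1] 0 0) (.M [8] 0 0)) (.M [21] 1 0)) (.N (.N (.L 6 [20,16,18]) (.M [8] 0 0) (.M [14] 0 0)) (.N (.L 11 [2,8,21,0,3,16,21,18]) (.M [1] 0 0) (.M [14] 0 0)) (.M [21] 1 0)))) (.N (.N (.N (.N (.L 2 [20,16,19]) (.M [10,10] 0 0) (.M [10] 0 0)) (.N (.L 11 [3,21,19]) (.M [1] 0 0) (.M [10] 0 0)) (.M [21] 1 0)) (.N (.N (.L 9 [16,19]) (.M [8,8] 0 0) (.M [8] 0 0)) (.N (.L 11 [0,2,3,16,0,19,21]) (.M [1] 0 0) (.M [8] 0 0)) (.M [21] 1 0)) (.N (.N (.L 7 [20,16,19]) (.M [8] 0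 0) (.M [10] 0 0)) (.N (.L 11 [3,16,0,21,2,16,19]) (.M [1] 0 0) (.M [10] 0 0)) (.M [21] 1 0))) (.N (.N (.N (.L 7 [20,18,19]) (.M [9,9] 0 0) (.M [9] 0 0)) (.N (.L 11 [3,18,2,21,0,18,19]) (.M [1] 0 0) (.M [9] 0 0)) (.M [21] 1 0)) (.N (.N (.L 11 [0,2,2,1,3,16,18,2,21,0,19,3]) (.M [8,8] 0 0) (.M [8] 0 0)) (.N (.L 12 [0,1,2,3,16,0,21,18,19]) (.M [1] 0 0) (.M [8] 0 0)) (.M [21] 1 0)) (.N (.N (.L 12 [2,3,18,21,2,19,3]) (.M [8] 0 0) (.M [9] 0 0)) (.N (.L 7 [0,9,16,0,18,2,19,3,21]) (.M [1] 0 0) (.M [9] 0 0)) (.M [21] 1 0))) (.N (.N (.N (.L 9 [18,19]) (.M [9] 0 0) (.M [10] 0 0)) (.N (.L 11 [0,2,3,18,2,19,21]) (.M [1] 0 0) (.M [10] 0 0)) (.M [21] 1 0)) (.N (.N (.L 12 [0,0,3,16,0,19,3,3]) (.M [9] 0 0) (.M [8] 0 0)) (.N (.L 9 [9,16,0,18,2,19,3,19]) (.M [1] 0 0)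 (.M [8] 0 0)) (.M [21] 1 0)) (.N (.N (.L 11 [0,0,2,1,3,16,0,18,21,2,19,3]) (.M [8] 0 0) (.M [10] 0 0)) (.N (.L 12 [0,1,3,21,2,19]) (.M [1] 0 0) (.M [10] 0 0)) (.M [21] 1 0)))) (.N (.N (.N (.N (.L 1 [18,19]) (.M [10] 0 0) (.M [14] 0 0)) (.N (.L 11 [21,3,19]) (.M [1] 0 0) (.M [14] 0 0)) (.M [21] 1 0)) (.N (.N (.L 10 [16,19]) (.M [10] 0 0) (.M [8] 0 0)) (.N (.L 11 [16,21,0,2,3,16,19]) (.M [1] 0 0) (.M [8] 0 0)) (.M [21] 1 0)) (.N (.N (.L 6 [20,16,19]) (.M [8] 0 0) (.M [14] 0 0)) (.N (.L 11 [2,16,0,21,3,16,19]) (.M [1] 0 0) (.M [14] 0 0)) (.M [21] 1 0))) (.N (.N (.N (.L 10 [20,18,19]) (.M [10] 0 0) (.M [9] 0 0)) (.N (.L 11 [0,18,2,21,3,18,19]) (.M [1] 0 0) (.M [9] 0 0)) (.M [21] 1 0)) (.N (.N (.L 12 [0,0,2,16,0,18,2,2]) (.M [10] 0 0) (.M [8] 0 0)) (.N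 (.L 10 [0,1,16,0,18,2,2,19,3]) (.M [1] 0 0) (.M [8] 0 0)) (.M [21] 1 0)) (.N (.N (.L 11 [11,21,0,2,3,21,16,0,18,2,19,3]) (.M [8] 0 0) (.M [9] 0 0)) (.N (.L 12 [0,1,2,21,3,18]) (.M [1] 0 0) (.M [9] 0 0)) (.M [21] 1 0))) (.N (.N (.N (.L 6 [18,19]) (.M [9] 0 0) (.M [14] 0 0)) (.N (.L 11 [18,21,0,2,3,18,19]) (.M [1] 0 0) (.M [14] 0 0)) (.M [21] 1 0)) (.N (.N (.L 11 [0,2,3,3,1,16,18,19,3,21,0,2]) (.M [9] 0 0) (.M [8] 0 0)) (.N (.L 12 [0,2,1,3,16]) (.M [1] 0 0) (.M [8] 0 0)) (.M [21] 1 0)) (.N (.N (.L 12 [16]) (.M [8] 0 0) (.M [14] 0 0)) (.N (.L 6 [0,1,16,0,18,21,2,19,3]) (.M [1] 0 0) (.M [14] 0 0)) (.M [21] 1 0)))))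

/-- part of the tree -/
def R5 : Cfsg.Agent.Lib.O8CT.CT := (.N (.N (.N (.N (.N R4 (.M [3] 0 0) (.M [3,3] 0 0)) (.M [2] 0 0) (.M [2,2] 0 0)) (.M [0,0] 0 0) (.M [0] 0 0)) (.N (.N (.N (.N (.N (.N (.N (.N (.L 11 [10,17,20,16,18]) (.M [14,14] 0 0) (.M [14] 0 0)) (.M [11,11] 0 0) (.M [11] 0 0)) (.M [9,9] 0 0) (.M [9] 0 0)) (.M [8,8] 0 0) (.M [8] 0 0)) (.N (.N (.N (.N .C (.M [10,10] 0 0) (.M [10] 0 0)) (.M [1,3] 0 0) (.M [11] 0 0)) (.M [9,9] 0 0) (.M [9] 0 0)) (.M [8,8] 0 0) (.M [8] 0 0)) (.N (.N (.N (.N .C (.M [10] 0 0) (.M [14] 0 0)) (.M [11,11] 0 0) (.M [11] 0 0)) (.M [9,9] 0 0) (.M [9] 0 0)) (.M [8,8] 0 0) (.M [8] 0 0))) (.M [3] 0 0) (.M [1] 0 0)) (.M [2] 0 54) (.M [2,2] 0 27)) (.M [0,0] 0 54) (.M [0] 0 27)) (.M [21] 1 0)) (.N (.N (.N (.N (.N (.N (.N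 (.N (.N (.L 11 [16,17,16,19]) (.M [14,14] 0 0) (.M [14] 0 0)) (.M [12,12] 0 0) (.M [12] 0 0)) (.M [10,10] 0 0) (.M [10] 0 0)) (.N (.N (.N .C (.M [9,9] 0 0) (.M [9] 0 0)) (.M [1,2] 0 0) (.M [12] 0 0)) (.M [10,10] 0 0) (.M [10] 0 0)) (.N (.N (.N .C (.M [9] 0 0) (.M [14] 0 0)) (.M [12,12] 0 0) (.M [12] 0 0)) (.M [10,10] 0 0) (.M [10] 0 0))) (.M [8,8] 0 0) (.M [8] 0 0)) (.M [3] 0 18) (.M [3,3] 0 9)) (.M [2] 0 0) (.M [1] 0 0)) (.M [0,0] 0 18) (.M [0] 0 9)) (.N (.N (.N (.N (.N (.N (.N (.N .C (.M [14,14] 0 0) (.M [14] 0 0)) (.M [11,11] 0 0) (.M [11] 0 0)) (.M [9,9] 0 0) (.M [9] 0 0)) (.N (.N (.N .C (.M [14,14] 0 0) (.M [14] 0 0)) (.M [11,11] 0 0) (.M [11] 0 0)) (.M [9,9] 0 6) (.M [9] 0 3)) (.N (.N (.N .C (.M [14,14] 0 0) (.M [14] 0 0)) (.M [11,11] 0 0) (.M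 [11] 0 0)) (.M [9,9] 0 3) (.M [9] 0 6))) (.M [8,8] 0 20) (.M [8] 0 10)) (.M [3] 0 18) (.M [1,2] 0 9)) (.M [2] 0 54) (.M [1] 0 28)) (.M [0,0] 0 558) (.M [0] 0 279)) (.N (.N (.N (.N (.N (.N (.N (.N .C (.M [14,14] 0 0) (.M [14] 0 0)) (.M [11] 0 0) (.M [12] 0 0)) (.M [9] 0 0) (.M [10] 0 0)) (.N (.N (.N .C (.M [14,14] 0 0) (.M [14] 0 0)) (.M [11] 0 0) (.M [12] 0 0)) (.M [9] 0 3) (.M [10] 0 0)) (.N (.N (.N .C (.M [9,10] 0 0) (.M [14] 0 0)) (.M [11] 0 0) (.M [12] 0 0)) (.M [9] 0 6) (.M [10] 0 0))) (.M [8,8] 0 10) (.M [8] 0 20)) (.M [3] 0 18) (.M [3,3] 0 9)) (.M [2] 0 27) (.M [1] 0 56)) (.M [0,0] 0 288) (.M [0] 0 549))) (.M [21] 1 0))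

/-- part of the tree -/
def R6 : Cfsg.Agent.Lib.O8CT.CT := (.N (.N (.N (.N (.N (.N (.N (.N (.N (.L 0 [17,18,19,17]) (.L 5 [18,17]) (.L 8 [18,17])) (.M [13] 0 0) (.M [13,13] 0 0)) (.N (.N (.L 11 [10,18,17]) (.M [8,8] 0 0) (.M [8] 0 0)) (.M [13] 0 0) (.M [0] 0 0)) (.M [20] 1 0)) (.M [10] 0 0) (.M [10,10] 0 0)) (.M [9] 0 0) (.M [9,9] 0 0)) (.N (.N (.N (.N (.N (.L 11 [10,21,17,18,17]) (.M [11] 0 0) (.M [11,11] 0 0)) (.M [13] 0 0) (.M [13,13] 0 0)) (.M [2] 0 0) (.M [2,2] 0 0)) (.M [10] 0 0) (.M [0] 0 0)) (.M [9] 0 27) (.M [9,9] 0 54)) (.M [20] 1 0)) (.N (.N (.N (.N (.N (.N (.L 11 [10,21,18,17,19]) (.M [12] 0 0) (.M [12,12] 0 0)) (.M [13] 0 0) (.M [13,13] 0 0)) (.M [3] 0 0) (.M [3,3] 0 0)) (.M [10] 0 9) (.M [10,10] 0 18)) (.M [9] 0 0) (.M [0] 0 0)) (.N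 (.N (.N (.N (.N .C (.M [11] 0 0) (.M [11,11] 0 0)) (.M [13] 0 0) (.M [13,13] 0 0)) (.M [2] 0 0) (.M [2,2] 0 0)) (.M [10] 0 9) (.M [0,9] 0 18)) (.M [9] 0 27) (.M [0] 0 55)) (.N (.N (.N (.N (.N .C (.M [12] 0 0) (.M [11] 0 0)) (.M [13] 0 0) (.M [13,13] 0 0)) (.M [3] 0 0) (.M [2] 0 0)) (.M [10] 0 9) (.M [10,10] 0 18)) (.M [9] 0 54) (.M [0] 0 29))) (.M [20] 1 0)) (.M [1] 0 0) (.M [1,1] 0 0)) (.N (.N (.N (.N (.N (.N (.N (.N (.L 4 [18,17]) (.L 7 [18,17]) (.L 10 [18,17])) (.M [13] 0 0) (.M [11] 0 0)) (.N (.N (.L 11 [2,2,10,18,17]) (.M [8,8,10,10] 0 0) (.M [8,10] 0 0)) (.M [13] 0 0) (.M [0] 0 0)) (.M [20] 1 0)) (.M [10] 0 0) (.M [8] 0 0)) (.M [9] 0 21) (.M [9,9] 0 15)) (.N (.N (.N (.N (.N (.L 11 [10,21,2,17,18,17]) (.M [11,13] 0 0) (.M [11,11,13,13] 0 0)) (.M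 [13] 0 0) (.M [11] 0 2)) (.M [2] 0 0) (.M [2,2] 0 0)) (.M [10] 0 0) (.M [0] 0 0)) (.M [9] 0 48) (.M [9,9] 0 69)) (.M [20] 1 0)) (.N (.N (.N (.N (.N (.N .C (.M [12] 0 0) (.M [12,12] 0 0)) (.M [13] 0 0) (.M [11] 0 0)) (.M [3] 0 0) (.M [0,9] 0 2)) (.M [10] 0 9) (.M [8] 0 18)) (.M [9] 0 21) (.M [0] 0 0)) (.N (.N (.N (.N (.N .C (.M [12] 0 0) (.M [12,12] 0 0)) (.M [13] 0 0) (.M [11] 0 2)) (.M [2] 0 0) (.M [2,2] 0 0)) (.M [10] 0 9) (.M [8] 0 18)) (.M [9] 0 48) (.M [0] 0 55)) (.N (.N (.N (.N (.N .C (.M [12] 0 0) (.M [11,13] 0 0)) (.M [13] 0 0) (.M [11] 0 1)) (.M [3] 0 0) (.M [2] 0 0)) (.M [10] 0 9) (.M [8] 0 18)) (.M [9] 0 75) (.M [0] 0 29))) (.M [20] 1 0)) (.M [1] 0 57) (.M [1,1] 0 33)) (.N (.N (.N (.N (.N (.N (.N (.N (.L 3 [18,17]) (.L 6 [18,17]) (.L 9 [18,17]))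 (.M [11] 0 0) (.M [11,11] 0 0)) (.N (.N (.L 11 [2,8,18,17]) (.M [8,8,10] 0 0) (.M [8,10,10] 0 0)) (.M [11] 0 0) (.M [0] 0 0)) (.M [20] 1 0)) (.M [8] 0 0) (.M [8,8] 0 0)) (.M [9] 0 15) (.M [9,9] 0 21)) (.N (.N (.N (.N (.N (.L 11 [2,8,21,17,18,17]) (.M [11,13,13] 0 0) (.M [11,11,13] 0 0)) (.M [11] 0 2) (.M [11,11] 0 1)) (.M [2] 0 0) (.M [2,2] 0 0)) (.M [8] 0 0) (.M [0] 0 0)) (.M [9] 0 42) (.M [9,9] 0 75)) (.M [20] 1 0)) (.N (.N (.N (.N (.N (.N .C (.M [12] 0 0) (.M [12,12] 0 0)) (.M [11] 0 0) (.M [11,11] 0 0)) (.M [3] 0 0) (.M [3,3] 0 0)) (.M [8] 0 9) (.M [8,8] 0 18)) (.M [9] 0 15) (.M [0] 0 0)) (.N (.N (.N (.N (.N .C (.M [12] 0 0) (.M [12,12] 0 0)) (.M [11] 0 2) (.M [11,11] 0 1)) (.M [2] 0 0) (.M [2,2] 0 0)) (.M [8] 0 9) (.M [0,9] 0 20)) (.M [9] 0 42)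 (.M [0] 0 55)) (.N (.N (.N (.N (.N .C (.M [12] 0 0) (.M [12,12] 0 0)) (.M [11] 0 1) (.M [11,11] 0 2)) (.M [3] 0 0) (.M [2] 0 0)) (.M [8] 0 9) (.M [8,8] 0 18)) (.M [9] 0 69) (.M [0] 0 29))) (.M [20] 1 0)) (.M [1] 0 33) (.M [1,1] 0 57)))

/-- part of the tree -/
def R7 : Cfsg.Agent.Lib.O8CT.CT := (.N (.N (.N (.N (.N (.N (.N (.N (.N (.L 2 [19,17]) (.L 7 [19,17]) (.L 9 [20,19,17])) (.M [13] 0 0) (.M [12] 0 0)) (.N (.N (.L 11 [3,21,16,19,17]) (.M [8,8,9,9] 0 0) (.M [8,9] 0 0)) (.M [13] 0 0) (.M [0] 0 0)) (.M [20] 1 0)) (.M [10] 0 7) (.M [10,10] 0 5)) (.M [9] 0 0) (.M [8] 0 0)) (.N (.N (.N (.N (.N .C (.M [11] 0 0) (.M [11,11] 0 0)) (.M [13] 0 0) (.M [12] 0 0)) (.M [2] 0 0) (.M [0,10] 0 2)) (.M [10] 0 7) (.M [0] 0 0)) (.M [9] 0 27) (.M [8] 0 54)) (.M [20]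 1 0)) (.N (.N (.N (.N (.N (.N (.L 11 [3,20,16,17,19,17]) (.M [12,13] 0 0) (.M [12,12,13,13] 0 0)) (.M [13] 0 0) (.M [12] 0 2)) (.M [3] 0 0) (.M [3,3] 0 0)) (.M [10] 0 16) (.M [10,10] 0 23)) (.M [9] 0 0) (.M [0] 0 0)) (.N (.N (.N (.N (.N .C (.M [11] 0 0) (.M [11,11] 0 0)) (.M [13] 0 0) (.M [12] 0 2)) (.M [2] 0 0) (.M [2,2] 0 0)) (.M [10] 0 16) (.M [0,9] 0 18)) (.M [9] 0 27) (.M [0] 0 55)) (.N (.N (.N (.N (.N .C (.M [11,11] 0 0) (.M [11] 0 0)) (.M [13] 0 0) (.M [12] 0 2)) (.M [3] 0 0) (.M [2] 0 0)) (.M [10] 0 16) (.M [10,10] 0 23)) (.M [9] 0 54) (.M [0] 0 29))) (.M [20] 1 0)) (.M [1] 0 19) (.M [1,1] 0 11)) (.N (.N (.N (.N (.N (.N (.N (.N (.L 7 [20,16,18,19,17]) (.L 12 [2,21,3,18,2,19,17,10]) (.L 11 [0,0,3,1,16,0,21,2,18,19,3,17,9])) (.M [13] 0 0) (.M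 [11] 0 0)) (.M [8,9,10] 0 8) (.M [8,9,10,20] 0 8)) (.M [10] 0 7) (.M [8,9] 0 1)) (.M [9] 0 21) (.M [8] 0 10)) (.N (.N (.N (.N (.N .C (.M [11,13] 0 0) (.M [11,11,12] 0 0)) (.M [13] 0 0) (.M [11] 0 2)) (.M [2] 0 0) (.M [0,10] 0 2)) (.M [10] 0 7) (.M [0] 0 0)) (.M [9] 0 48) (.M [8] 0 64)) (.M [20] 1 0)) (.N (.N (.N (.N (.N (.N .C (.M [12,13] 0 0) (.M [11,12,12] 0 0)) (.M [13] 0 0) (.M [11] 0 0)) (.M [3] 0 0) (.M [0,9] 0 2)) (.M [10] 0 16) (.M [8,9] 0 19)) (.M [9] 0 21) (.M [0] 0 0)) (.N (.N (.N (.N (.N .C (.M [11,13] 0 0) (.M [11,11,13,13] 0 0)) (.M [13] 0 0) (.M [11] 0 2)) (.M [2] 0 0) (.M [2,2] 0 0)) (.M [10] 0 16) (.M [0,9] 0 19)) (.M [9] 0 48) (.M [0] 0 55)) (.N (.N (.N (.N (.N .C (.M [12,13] 0 0) (.M [11,13] 0 0)) (.M [13] 0 0) (.M [11] 0 1)) (.M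 [3] 0 0) (.M [2] 0 0)) (.M [10] 0 16) (.M [8,9] 0 19)) (.M [9] 0 75) (.M [0] 0 29))) (.M [20] 1 0)) (.M [1] 0 1372) (.M [1,1] 0 1178)) (.N (.N (.N (.N (.N (.N (.N (.N (.L 9 [16,18,19,17]) (.L 11 [0,2,3,9,21,16,0,18,2,19,3,17]) (.L 12 [0,3,21,16,0,19,3,17])) (.M [11] 0 0) (.M [12] 0 0)) (.M [8,9,20,10] 0 4) (.M [8,9,10,10] 0 4)) (.M [10] 0 7) (.M [10,10] 0 5)) (.M [9] 0 15) (.M [8] 0 20)) (.N (.N (.N (.N (.N .C (.M [11,12] 0 0) (.M [11,11,13] 0 0)) (.M [11] 0 2) (.M [12] 0 0)) (.M [2] 0 0) (.M [0,10] 0 2)) (.M [10] 0 7) (.M [0] 0 0)) (.M [9] 0 42) (.M [8] 0 74)) (.M [20] 1 0)) (.N (.N (.N (.N (.N (.N .C (.M [11,12] 0 0) (.M [11,11,12,12] 0 0)) (.M [11] 0 0) (.M [12] 0 2)) (.M [3] 0 0) (.M [3,3] 0 0)) (.M [10] 0 16) (.M [10,10] 0 23)) (.M [9] 0 15) (.M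 [0] 0 0)) (.N (.N (.N (.N (.N .C (.M [12,13] 0 0) (.M [11,12] 0 0)) (.M [11] 0 2) (.M [12] 0 2)) (.M [2] 0 0) (.M [2,2] 0 0)) (.M [10] 0 16) (.M [0,9] 0 20)) (.M [9] 0 42) (.M [0] 0 55)) (.N (.N (.N (.N (.N .C (.M [12,13] 0 0) (.M [11,13,13] 0 0)) (.M [11] 0 1) (.M [12] 0 2)) (.M [3] 0 0) (.M [2] 0 0)) (.M [10] 0 16) (.M [10,10] 0 23)) (.M [9] 0 69) (.M [0] 0 29))) (.M [20] 1 0)) (.M [1] 0 1915) (.M [1,1] 0 2093)))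

/-- part of the tree -/
def R8 : Cfsg.Agent.Lib.O8CT.CT := (.N (.N (.N (.N (.N (.N (.N (.N (.N (.L 1 [19,17]) (.L 6 [19,17]) (.L 10 [20,19,17])) (.M [12] 0 0) (.M [12,12] 0 0)) (.N (.N (.L 11 [21,3,16,19,17]) (.M [8,8,9] 0 0) (.M [8,9,9] 0 0)) (.M [12] 0 0) (.M [0] 0 0)) (.M [20] 1 0)) (.M [10] 0 5) (.M [10,10] 0 7)) (.M [8] 0 0) (.M [8,8] 0 0)) (.N (.N (.N (.N (.N .C (.M [11] 0 0) (.M [11,11] 0 0)) (.M [12] 0 0) (.M [12,12] 0 0)) (.M [2] 0 0) (.M [2,2] 0 0)) (.M [10] 0 5) (.M [0] 0 0)) (.M [8] 0 27) (.M [8,8] 0 54)) (.M [20] 1 0)) (.N (.N (.N (.N (.N (.N (.L 11 [20,16,17,10,19,17]) (.M [12,13,13] 0 0) (.M [12,12,13] 0 0)) (.M [12] 0 2) (.M [12,12] 0 1)) (.M [3] 0 0) (.M [3,3] 0 0)) (.M [10] 0 14) (.M [10,10] 0 25)) (.M [8] 0 0) (.M [0] 0 0)) (.N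 (.N (.N (.N (.N .C (.M [11] 0 0) (.M [11,11] 0 0)) (.M [12] 0 2) (.M [12,12] 0 1)) (.M [2] 0 0) (.M [2,2] 0 0)) (.M [10] 0 14) (.M [0,8] 0 0)) (.M [8] 0 27) (.M [0] 0 55)) (.N (.N (.N (.N (.N .C (.M [11,11] 0 0) (.M [11] 0 0)) (.M [12] 0 2) (.M [12,12] 0 1)) (.M [3] 0 0) (.M [2] 0 0)) (.M [10] 0 14) (.M [10,10] 0 25)) (.M [8] 0 54) (.M [0] 0 29))) (.M [20] 1 0)) (.M [1] 0 11) (.M [1,1] 0 19)) (.N (.N (.N (.N (.N (.N (.N (.N (.L 10 [20,16,18,19,17]) (.L 11 [0,9,16,21,0,2,3,18,19,17,9,10]) (.L 12 [0,2,21,16,0,18,2,17])) (.M [12] 0 0) (.M [11] 0 0)) (.M [8,10,20,9] 0 4) (.M [8,9,9,10] 0 4)) (.M [10] 0 5) (.M [10,10] 0 7)) (.M [8] 0 19) (.M [8,8] 0 11)) (.N (.N (.N (.N (.N .C (.M [11,12] 0 0) (.M [11,11,12,12] 0 0)) (.M [12] 0 0) (.M [11] 0 2)) (.M [2]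 0 0) (.M [2,2] 0 0)) (.M [10] 0 5) (.M [0] 0 0)) (.M [8] 0 46) (.M [8,8] 0 65)) (.M [20] 1 0)) (.N (.N (.N (.N (.N (.N .C (.M [11,12] 0 0) (.M [12,12,13] 0 0)) (.M [12] 0 2) (.M [11] 0 0)) (.M [3] 0 0) (.M [0,9] 0 2)) (.M [10] 0 14) (.M [0,8] 0 24)) (.M [8] 0 73) (.M [0] 0 0)) (.N (.N (.N (.N (.N .C (.M [11,13] 0 0) (.M [11,12] 0 0)) (.M [12] 0 2) (.M [11] 0 2)) (.M [2] 0 0) (.M [2,2] 0 0)) (.M [10] 0 14) (.M [0,9] 0 19)) (.M [8] 0 19) (.M [0] 0 55)) (.N (.N (.N (.N (.N .C (.M [12,13,13] 0 0) (.M [11,13] 0 0)) (.M [12] 0 2) (.M [11] 0 1)) (.M [3] 0 0) (.M [2] 0 0)) (.M [10] 0 14) (.M [10,10] 0 25)) (.M [8] 0 46) (.M [0] 0 29))) (.M [20] 1 0)) (.M [1] 0 1931) (.M [1,1] 0 2077)) (.N (.N (.N (.N (.N (.N (.N (.N (.L 6 [16,18,19,17]) (.L 12 [20,17]) (.L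 11 [0,0,2,1,3,3,16,0,18,19,3,17,9])) (.M [11] 0 0) (.M [11,11] 0 0)) (.M [9,10,20,8] 0 7) (.M [8,8,9,10] 0 7)) (.M [10] 0 5) (.M [10,10] 0 7)) (.M [8] 0 11) (.M [8,8] 0 19)) (.N (.N (.N (.N (.N .C (.M [11,12,12] 0 0) (.M [11,11,12] 0 0)) (.M [11] 0 2) (.M [11,11] 0 1)) (.M [2] 0 0) (.M [2,2] 0 0)) (.M [10] 0 5) (.M [0] 0 0)) (.M [8] 0 38) (.M [8,8] 0 73)) (.M [20] 1 0)) (.N (.N (.N (.N (.N (.N .C (.M [11,11,12] 0 0) (.M [11,12,12] 0 0)) (.M [11] 0 0) (.M [11,11] 0 0)) (.M [3] 0 0) (.M [3,3] 0 0)) (.M [10] 0 14) (.M [10,10] 0 25)) (.M [8] 0 38) (.M [0] 0 0)) (.N (.N (.N (.N (.N .C (.M [11,13,13] 0 0) (.M [0,8,13] 0 0)) (.M [11] 0 2) (.M [0,8] 0 1)) (.M [2] 0 0) (.M [2,2] 0 0)) (.M [10] 0 14) (.M [0,9] 0 20)) (.M [8] 0 65) (.M [0] 0 55)) (.N (.N (.N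 (.N (.N .C (.M [11,11,13] 0 0) (.M [11,11,12] 0 0)) (.M [11] 0 1) (.M [11,11] 0 2)) (.M [3] 0 0) (.M [2] 0 0)) (.M [10] 0 14) (.M [0,8] 0 12)) (.M [8] 0 11) (.M [0] 0 29))) (.M [20] 1 0)) (.M [1] 0 1340) (.M [1,1] 0 1210)))

/-- part of the tree -/
def R9 : Cfsg.Agent.Lib.O8CT.CT := (.N (.N (.N (.N (.N (.N (.N (.N (.N (.N (.L 11 [10,17,18,17,19]) (.M [14,14] 0 0) (.M [14] 0 0)) (.M [13] 0 2) (.M [13,13] 0 1)) (.N (.N .C (.M [8,8] 0 0) (.M [8] 0 0)) (.M [13] 0 2) (.M [0,1] 0 1)) (.N (.N .C (.M [8] 0 0) (.M [14] 0 0)) (.M [13] 0 2) (.M [13,13] 0 1))) (.M [10] 0 0) (.M [10,10] 0 0)) (.M [9] 0 0) (.M [9,9] 0 0)) (.M [3] 0 0) (.M [3,3] 0 0)) (.M [2] 0 0) (.M [2,2] 0 0)) (.M [1] 0 0) (.M [0] 0 0)) (.N (.N (.N (.N (.N (.N (.N (.N .C (.M [11,13] 0 0) (.M [14]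 0 0)) (.M [13] 0 2) (.M [11] 0 0)) (.N (.N .C (.M [11,13] 0 0) (.M [14] 0 0)) (.M [13] 0 2) (.M [11] 0 0)) (.N (.N .C (.M [8,10] 0 0) (.M [14] 0 0)) (.M [13] 0 2) (.M [11] 0 0))) (.M [10] 0 0) (.M [8] 0 0)) (.M [9] 0 21) (.M [9,9] 0 15)) (.M [3] 0 0) (.M [0,1] 0 0)) (.M [2] 0 54) (.M [2,2] 0 27)) (.M [1] 0 57) (.M [0] 0 27)) (.N (.N (.N (.N (.N (.N (.N (.N .C (.M [14,14] 0 0) (.M [14] 0 0)) (.M [11] 0 0) (.M [11,11] 0 0)) (.N (.N .C (.M [14,14] 0 0) (.M [14] 0 0)) (.M [11] 0 0) (.M [11,11] 0 0)) (.N (.N .C (.M [14,14] 0 0) (.M [14] 0 0)) (.M [11] 0 0) (.M [11,11] 0 0))) (.M [8] 0 0) (.M [8,8] 0 0)) (.M [9] 0 15) (.M [9,9] 0 21)) (.M [3] 0 0) (.M [3,3] 0 0)) (.M [2] 0 27) (.M [2,2] 0 54)) (.M [1] 0 33) (.M [0] 0 54))) (.N (.N (.N (.N (.N (.N (.N (.N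 (.N .C (.M [12,13] 0 0) (.M [14] 0 0)) (.M [13] 0 2) (.M [12] 0 0)) (.N (.N .C (.M [12,13] 0 0) (.M [14] 0 0)) (.M [13] 0 2) (.M [12] 0 0)) (.N (.N .C (.M [8,9] 0 0) (.M [14] 0 0)) (.M [13] 0 2) (.M [12] 0 0))) (.M [10] 0 7) (.M [10,10] 0 5)) (.M [9] 0 0) (.M [8] 0 0)) (.M [3] 0 18) (.M [3,3] 0 9)) (.M [2] 0 0) (.M [0,1] 0 0)) (.M [1] 0 19) (.M [0] 0 9)) (.N (.N (.N (.N (.N (.N (.N (.N .C (.M [11,13] 0 0) (.M [14] 0 0)) (.M [13] 0 2) (.M [11] 0 0)) (.M [8,9,10] 0 8) (.M [2,3,1,0] 0 5)) (.M [10] 0 7) (.M [8,9] 0 1)) (.M [9] 0 21) (.M [8] 0 10)) (.M [3] 0 18) (.M [3,3] 0 9)) (.M [2] 0 54) (.M [0,1] 0 118)) (.M [1] 0 1372) (.M [0] 0 279)) (.N (.N (.N (.N (.N (.N (.N (.N .C (.M [12,13] 0 0) (.M [14] 0 0)) (.M [11] 0 0) (.M [12] 0 0)) (.M [2,3,3,1,0] 0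 7) (.M [8,9,10,10] 0 4)) (.M [10] 0 7) (.M [10,10] 0 5)) (.M [9] 0 15) (.M [8] 0 20)) (.M [3] 0 18) (.M [3,3] 0 9)) (.M [2] 0 27) (.M [0,1] 0 236)) (.M [1] 0 1915) (.M [0] 0 549))) (.N (.N (.N (.N (.N (.N (.N (.N (.N .C (.M [14,14] 0 0) (.M [14] 0 0)) (.M [12] 0 0) (.M [12,12] 0 0)) (.N (.N .C (.M [14,14] 0 0) (.M [14] 0 0)) (.M [12] 0 0) (.M [12,12] 0 0)) (.N (.N .C (.M [14,14] 0 0) (.M [14] 0 0)) (.M [12] 0 0) (.M [12,12] 0 0))) (.M [10] 0 5) (.M [10,10] 0 7)) (.M [8] 0 0) (.M [8,8] 0 0)) (.M [3] 0 9) (.M [3,3] 0 18)) (.M [2] 0 0) (.M [2,2] 0 0)) (.M [1] 0 11) (.M [0] 0 18)) (.N (.N (.N (.N (.N (.N (.N (.N .C (.M [11,13] 0 0) (.M [14] 0 0)) (.M [12] 0 0) (.M [11] 0 0)) (.M [2,2,3,1,0] 0 7) (.M [8,9,9,10] 0 4)) (.M [10] 0 5) (.M [10,10] 0 7)) (.M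 [8] 0 19) (.M [8,8] 0 11)) (.M [3] 0 9) (.M [3,3] 0 18)) (.M [2] 0 54) (.M [2,2] 0 27)) (.M [1] 0 1931) (.M [0] 0 531)) (.N (.N (.N (.N (.N (.N (.N (.N .C (.M [14,14] 0 0) (.M [14] 0 0)) (.M [11] 0 0) (.M [11,11] 0 0)) (.M [8,9,9,10,10] 0 8) (.M [8,8,9,10] 0 7)) (.M [10] 0 5) (.M [10,10] 0 7)) (.M [8] 0 11) (.M [8,8] 0 19)) (.M [3] 0 9) (.M [3,3] 0 18)) (.M [2] 0 27) (.M [2,2] 0 54)) (.M [1] 0 1340) (.M [0] 0 315))))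

/-- the tree -/
def root : Cfsg.Agent.Lib.O8CT.CT := (.N (.N (.N R2 R3 (.M [21] 1 0)) R5 (.M [20] 1 0)) (.N (.N R6 R7 R8) R9 (.M [20] 1 0)) (.M [21] 1 0))

theorem tree_ok : chkT ap bs yW 13 bL root ix [] [] 0 = true := by decide +kernel

theorem pc_ok : chkPcM ap bs 3240 12 ix csL msL = true := by decide +kernel

theorem nm_ok : chkNm ap bs bL ix nsL = true := by decide +kernel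

end Cfsg.Agent.Lib.O8CTree
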