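import Cfsg.Agent.Lib.O8PTab

set_option autoImplicit false
set_option maxRecDepth 100000
set_option Elab.async false

namespace Cfsg.Agent.Lib.O8PChk

open Cfsg.Agent.Lib.ChainCert Cfsg.Agent.Lib.ProgBits Cfsg.Agent.Lib.ProgChain Cfsg.Agent.Lib.PermChain Cfsg.Agent.Lib.TcBits
open Cfsg.Agent.Lib.O8PTab

theorem let_8_0 : allR (guard Plet (nat_lit 172)) 8 (nat_lit 0) = true := by decide +kernel
theorem let_all : ∀ i, i < (nat_lit 172) → Plet i = true := of_guard (k := 8) (by norm_num) let_8_0
theorem der0_7_0 : allR (guard Pder0 (nat_lit 72)) 7 (nat_lit 0) = true := by decide +kernel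
theorem der0_all : ∀ i, i < (nat_lit 72) → Pder0 i = true := of_guard (k := 7) (by norm_num) der0_7_0
theorem cert0_7_0 : allR (guard Pcert0 (nat_lit 74)) 7 (nat_lit 0) = true := by decide +kernel
theorem cert0_all : ∀ i, i < (nat_lit 74) → Pcert0 i = true := of_guard (k := 7) (by norm_num) cert0_7_0
theorem fix0_7_0 : allR (guard Pfix0 (nat_lit 74)) 7 (nat_lit 0) = true := by decide +kernel
theorem fix0_all : ∀ i, i < (nat_lit 74) → Pfix0 i = true := of_guard (k := 7) (by norm_num) fix0_7_0
theorem img0_12_0 : allR (guard Pimg0 (nat_lit 3240)) 12 (nat_lit 0) = true := by decide +kernel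
theorem img0_all : ∀ i, i < (nat_lit 3240) → Pimg0 i = true := of_guard (k := 12) (by norm_num) img0_12_0
theorem der1_7_0 : allR (guard Pder1 (nat_lit 113)) 7 (nat_lit 0) = true := by decide +kernel
theorem der1_all : ∀ i, i < (nat_lit 113) → Pder1 i = true := of_guard (k := 7) (by norm_num) der1_7_0
theorem cert1_7_0 : allR (guard Pcert1 (nat_lit 115)) 7 (nat_lit 0) = true := by decide +kernel
theorem cert1_all : ∀ i, i < (nat_lit 115) → Pcert1 i = true := of_guard (k := 7) (by norm_num) cert1_7_0
theorem fix1_7_0 : allR (guard Pfix1 (nat_lit 115)) 7 (nat_lit 0) = true := by decide +kernel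
theorem fix1_all : ∀ i, i < (nat_lit 115) → Pfix1 i = true := of_guard (k := 7) (by norm_num) fix1_7_0
theorem img1_12_0 : allR (guard Pimg1 (nat_lit 3240)) 12 (nat_lit 0) = true := by decide +kernel
theorem img1_all : ∀ i, i < (nat_lit 3240) → Pimg1 i = true := of_guard (k := 12) (by norm_num) img1_12_0
theorem der2_8_0 : allR (guard Pder2 (nat_lit 137)) 8 (nat_lit 0) = true := by decide +kernel
theorem der2_all : ∀ i, i < (nat_lit 137) → Pder2 i = true := of_guard (k := 8) (by norm_num) der2_8_0
theorem cert2_8_0 : allR (guard Pcert2 (nat_lit 139)) 8 (nat_lit 0) = true := by decide +kernel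
theorem cert2_all : ∀ i, i < (nat_lit 139) → Pcert2 i = true := of_guard (k := 8) (by norm_num) cert2_8_0
theorem fix2_8_0 : allR (guard Pfix2 (nat_lit 139)) 8 (nat_lit 0) = true := by decide +kernel
theorem fix2_all : ∀ i, i < (nat_lit 139) → Pfix2 i = true := of_guard (k := 8) (by norm_num) fix2_8_0
theorem img2_12_0 : allR (guard Pimg2 (nat_lit 3240)) 12 (nat_lit 0) = true := by decide +kernel
theorem img2_all : ∀ i, i < (nat_lit 3240) → Pimg2 i = true := of_guard (k := 12) (by norm_num) img2_12_0
theorem der3_8_0 : allR (guard Pder3 (nat_lit 151)) 8 (nat_lit 0) = true := by decide +kernel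
theorem der3_all : ∀ i, i < (nat_lit 151) → Pder3 i = true := of_guard (k := 8) (by norm_num) der3_8_0
theorem cert3_8_0 : allR (guard Pcert3 (nat_lit 154)) 8 (nat_lit 0) = true := by decide +kernel
theorem cert3_all : ∀ i, i < (nat_lit 154) → Pcert3 i = true := of_guard (k := 8) (by norm_num) cert3_8_0
theorem fix3_8_0 : allR (guard Pfix3 (nat_lit 154)) 8 (nat_lit 0) = true := by decide +kernel
theorem fix3_all : ∀ i, i < (nat_lit 154) → Pfix3 i = true := of_guard (k := 8) (by norm_num) fix3_8_0
theorem img3_12_0 : allR (guard Pimg3 (nat_lit 3240)) 12 (nat_lit 0) = true := by decide +kernel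
theorem img3_all : ∀ i, i < (nat_lit 3240) → Pimg3 i = true := of_guard (k := 12) (by norm_num) img3_12_0
theorem der4_8_0 : allR (guard Pder4 (nat_lit 157)) 8 (nat_lit 0) = true := by decide +kernel
theorem der4_all : ∀ i, i < (nat_lit 157) → Pder4 i = true := of_guard (k := 8) (by norm_num) der4_8_0
theorem cert4_8_0 : allR (guard Pcert4 (nat_lit 159)) 8 (nat_lit 0) = true := by decide +kernel
theorem cert4_all : ∀ i, i < (nat_lit 159) → Pcert4 i = true := of_guard (k := 8) (by norm_num) cert4_8_0
theorem fix4_8_0 : allR (guard Pfix4 (nat_lit 159)) 8 (nat_lit 0) = true := by decide +kernel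
theorem fix4_all : ∀ i, i < (nat_lit 159) → Pfix4 i = true := of_guard (k := 8) (by norm_num) fix4_8_0
theorem img4_12_0 : allR (guard Pimg4 (nat_lit 3240)) 12 (nat_lit 0) = true := by decide +kernel
theorem img4_all : ∀ i, i < (nat_lit 3240) → Pimg4 i = true := of_guard (k := 12) (by norm_num) img4_12_0
theorem der5_8_0 : allR (guard Pder5 (nat_lit 164)) 8 (nat_lit 0) = true := by decide +kernel
theorem der5_all : ∀ i, i < (nat_lit 164) → Pder5 i = true := of_guard (k := 8) (by norm_num) der5_8_0
theorem cert5_8_0 : allR (guard Pcert5 (nat_lit 166)) 8 (nat_lit 0) = true := by decide +kernel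
theorem cert5_all : ∀ i, i < (nat_lit 166) → Pcert5 i = true := of_guard (k := 8) (by norm_num) cert5_8_0
theorem fix5_8_0 : allR (guard Pfix5 (nat_lit 166)) 8 (nat_lit 0) = true := by decide +kernel
theorem fix5_all : ∀ i, i < (nat_lit 166) → Pfix5 i = true := of_guard (k := 8) (by norm_num) fix5_8_0
theorem img5_12_0 : allR (guard Pimg5 (nat_lit 3240)) 12 (nat_lit 0) = true := by decide +kernel
theorem img5_all : ∀ i, i < (nat_lit 3240) → Pimg5 i = true := of_guard (k := 12) (by norm_num) img5_12_0
theorem der6_8_0 : allR (guard Pder6 (nat_lit 166)) 8 (nat_lit 0) = true := by decide +kernel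
theorem der6_all : ∀ i, i < (nat_lit 166) → Pder6 i = true := of_guard (k := 8) (by norm_num) der6_8_0
theorem cert6_8_0 : allR (guard Pcert6 (nat_lit 168)) 8 (nat_lit 0) = true := by decide +kernel
theorem cert6_all : ∀ i, i < (nat_lit 168) → Pcert6 i = true := of_guard (k := 8) (by norm_num) cert6_8_0
theorem fix6_8_0 : allR (guard Pfix6 (nat_lit 168)) 8 (nat_lit 0) = true := by decide +kernel
theorem fix6_all : ∀ i, i < (nat_lit 168) → Pfix6 i = true := of_guard (k := 8) (by norm_num) fix6_8_0
theorem img6_12_0 : allR (guard Pimg6 (nat_lit 3240)) 12 (nat_lit 0) = true := by decide +kernel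
theorem img6_all : ∀ i, i < (nat_lit 3240) → Pimg6 i = true := of_guard (k := 12) (by norm_num) img6_12_0
theorem der7_8_0 : allR (guard Pder7 (nat_lit 168)) 8 (nat_lit 0) = true := by decide +kernel
theorem der7_all : ∀ i, i < (nat_lit 168) → Pder7 i = true := of_guard (k := 8) (by norm_num) der7_8_0
theorem cert7_8_0 : allR (guard Pcert7 (nat_lit 170)) 8 (nat_lit 0) = true := by decide +kernel
theorem cert7_all : ∀ i, i < (nat_lit 170) → Pcert7 i = true := of_guard (k := 8) (by norm_num) cert7_8_0
theorem fix7_8_0 : allR (guard Pfix7 (nat_lit 170)) 8 (nat_lit 0) = true := by decide +kernel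
theorem fix7_all : ∀ i, i < (nat_lit 170) → Pfix7 i = true := of_guard (k := 8) (by norm_num) fix7_8_0
theorem img7_12_0 : allR (guard Pimg7 (nat_lit 3240)) 12 (nat_lit 0) = true := by decide +kernel
theorem img7_all : ∀ i, i < (nat_lit 3240) → Pimg7 i = true := of_guard (k := 12) (by norm_num) img7_12_0
theorem der8_8_0 : allR (guard Pder8 (nat_lit 170)) 8 (nat_lit 0) = true := by decide +kernel
theorem der8_all : ∀ i, i < (nat_lit 170) → Pder8 i = true := of_guard (k := 8) (by norm_num) der8_8_0
theorem cert8_8_0 : allR (guard Pcert8 (nat_lit 172)) 8 (nat_lit 0) = true := by decide +kernel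
theorem cert8_all : ∀ i, i < (nat_lit 172) → Pcert8 i = true := of_guard (k := 8) (by norm_num) cert8_8_0
theorem fix8_8_0 : allR (guard Pfix8 (nat_lit 172)) 8 (nat_lit 0) = true := by decide +kernel
theorem fix8_all : ∀ i, i < (nat_lit 172) → Pfix8 i = true := of_guard (k := 8) (by norm_num) fix8_8_0
theorem img8_12_0 : allR (guard Pimg8 (nat_lit 3240)) 12 (nat_lit 0) = true := by decide +kernel
theorem img8_all : ∀ i, i < (nat_lit 3240) → Pimg8 i = true := of_guard (k := 12) (by norm_num) img8_12_0
theorem der9_8_0 : allR (guard Pder9 (nat_lit 172)) 8 (nat_lit 0) = true := by decide +kernel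
theorem der9_all : ∀ i, i < (nat_lit 172) → Pder9 i = true := of_guard (k := 8) (by norm_num) der9_8_0
theorem cert9_8_0 : allR (guard Pcert9 (nat_lit 172)) 8 (nat_lit 0) = true := by decide +kernel
theorem cert9_all : ∀ i, i < (nat_lit 172) → Pcert9 i = true := of_guard (k := 8) (by norm_num) cert9_8_0
theorem fix9_8_0 : allR (guard Pfix9 (nat_lit 172)) 8 (nat_lit 0) = true := by decide +kernel
theorem fix9_all : ∀ i, i < (nat_lit 172) → Pfix9 i = true := of_guard (k := 8) (by norm_num) fix9_8_0
theorem img9_12_0 : allR (guard Pimg9 (nat_lit 3240)) 12 (nat_lit 0) = true := by decide +kernel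
theorem img9_all : ∀ i, i < (nat_lit 3240) → Pimg9 i = true := of_guard (k := 12) (by norm_num) img9_12_0

end Cfsg.Agent.Lib.O8PChk
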