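import Cfsg.Agent.Lib.O8PTab

set_option autoImplicit false
set_option maxRecDepth 100000
set_option Elab.async false

namespace Cfsg.Agent.Lib.O8PSt0

open Cfsg.Agent.Lib.ChainCert Cfsg.Agent.Lib.ProgBits Cfsg.Agent.Lib.ProgChain Cfsg.Agent.Lib.PermChain Cfsg.Agent.Lib.TcBits
open Cfsg.Agent.Lib.O8PTab

theorem st0_7_0 : allR (guard Pst0 (nat_lit 25920)) 7 (nat_lit 0) = true := by decide +kernel
theorem st0_7_128 : allR (guard Pst0 (nat_lit 25920)) 7 (nat_lit 128) = true := by decide +kernel
theorem st0_7_256 : allR (guard Pst0 (nat_lit 25920)) 7 (nat_lit 256) = true := by decide +kernel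
theorem st0_7_384 : allR (guard Pst0 (nat_lit 25920)) 7 (nat_lit 384) = true := by decide +kernel
theorem st0_7_512 : allR (guard Pst0 (nat_lit 25920)) 7 (nat_lit 512) = true := by decide +kernel
theorem st0_7_640 : allR (guard Pst0 (nat_lit 25920)) 7 (nat_lit 640) = true := by decide +kernel
theorem st0_7_768 : allR (guard Pst0 (nat_lit 25920)) 7 (nat_lit 768) = true := by decide +kernel
theorem st0_7_896 : allR (guard Pst0 (nat_lit 25920)) 7 (nat_lit 896) = true := by decide +kernel
theorem st0_7_1024 : allR (guard Pst0 (nat_lit 25920)) 7 (nat_lit 1024) = true := by decide +kernel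
theorem st0_7_1152 : allR (guard Pst0 (nat_lit 25920)) 7 (nat_lit 1152) = true := by decide +kernel
theorem st0_7_1280 : allR (guard Pst0 (nat_lit 25920)) 7 (nat_lit 1280) = true := by decide +kernel
theorem st0_7_1408 : allR (guard Pst0 (nat_lit 25920)) 7 (nat_lit 1408) = true := by decide +kernel
theorem st0_7_1536 : allR (guard Pst0 (nat_lit 25920)) 7 (nat_lit 1536) = true := by decide +kernel
theorem st0_7_1664 : allR (guard Pst0 (nat_lit 25920)) 7 (nat_lit 1664) = true := by decide +kernel
theorem st0_7_1792 : allR (guard Pst0 (nat_lit 25920)) 7 (nat_lit 1792) = true := by decide +kernel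
theorem st0_7_1920 : allR (guard Pst0 (nat_lit 25920)) 7 (nat_lit 1920) = true := by decide +kernel
theorem st0_7_2048 : allR (guard Pst0 (nat_lit 25920)) 7 (nat_lit 2048) = true := by decide +kernel
theorem st0_7_2176 : allR (guard Pst0 (nat_lit 25920)) 7 (nat_lit 2176) = true := by decide +kernel
theorem st0_7_2304 : allR (guard Pst0 (nat_lit 25920)) 7 (nat_lit 2304) = true := by decide +kernel
theorem st0_7_2432 : allR (guard Pst0 (nat_lit 25920)) 7 (nat_lit 2432) = true := by decide +kernel
theorem st0_7_2560 : allR (guard Pst0 (nat_lit 25920)) 7 (nat_lit 2560) = true := by decide +kernel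
theorem st0_7_2688 : allR (guard Pst0 (nat_lit 25920)) 7 (nat_lit 2688) = true := by decide +kernel
theorem st0_7_2816 : allR (guard Pst0 (nat_lit 25920)) 7 (nat_lit 2816) = true := by decide +kernel
theorem st0_7_2944 : allR (guard Pst0 (nat_lit 25920)) 7 (nat_lit 2944) = true := by decide +kernel
theorem st0_7_3072 : allR (guard Pst0 (nat_lit 25920)) 7 (nat_lit 3072) = true := by decide +kernel
theorem st0_7_3200 : allR (guard Pst0 (nat_lit 25920)) 7 (nat_lit 3200) = true := by decide +kernel
theorem st0_7_3328 : allR (guard Pst0 (nat_lit 25920)) 7 (nat_lit 3328) = true := by decide +kernel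
theorem st0_7_3456 : allR (guard Pst0 (nat_lit 25920)) 7 (nat_lit 3456) = true := by decide +kernel
theorem st0_7_3584 : allR (guard Pst0 (nat_lit 25920)) 7 (nat_lit 3584) = true := by decide +kernel
theorem st0_7_3712 : allR (guard Pst0 (nat_lit 25920)) 7 (nat_lit 3712) = true := by decide +kernel
theorem st0_7_3840 : allR (guard Pst0 (nat_lit 25920)) 7 (nat_lit 3840) = true := by decide +kernel
theorem st0_7_3968 : allR (guard Pst0 (nat_lit 25920)) 7 (nat_lit 3968) = true := by decide +kernel
theorem st0_7_4096 : allR (guard Pst0 (nat_lit 25920)) 7 (nat_lit 4096) = true := by decide +kernel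
theorem st0_7_4224 : allR (guard Pst0 (nat_lit 25920)) 7 (nat_lit 4224) = true := by decide +kernel
theorem st0_7_4352 : allR (guard Pst0 (nat_lit 25920)) 7 (nat_lit 4352) = true := by decide +kernel
theorem st0_7_4480 : allR (guard Pst0 (nat_lit 25920)) 7 (nat_lit 4480) = true := by decide +kernel
theorem st0_7_4608 : allR (guard Pst0 (nat_lit 25920)) 7 (nat_lit 4608) = true := by decide +kernel
theorem st0_7_4736 : allR (guard Pst0 (nat_lit 25920)) 7 (nat_lit 4736) = true := by decide +kernel
theorem st0_7_4864 : allR (guard Pst0 (nat_lit 25920)) 7 (nat_lit 4864) = true := by decide +kernel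
theorem st0_7_4992 : allR (guard Pst0 (nat_lit 25920)) 7 (nat_lit 4992) = true := by decide +kernel
theorem st0_7_5120 : allR (guard Pst0 (nat_lit 25920)) 7 (nat_lit 5120) = true := by decide +kernel
theorem st0_7_5248 : allR (guard Pst0 (nat_lit 25920)) 7 (nat_lit 5248) = true := by decide +kernel
theorem st0_7_5376 : allR (guard Pst0 (nat_lit 25920)) 7 (nat_lit 5376) = true := by decide +kernel
theorem st0_7_5504 : allR (guard Pst0 (nat_lit 25920)) 7 (nat_lit 5504) = true := by decide +kernel
theorem st0_7_5632 : allR (guard Pst0 (nat_lit 25920)) 7 (nat_lit 5632) = true := by decide +kernel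
theorem st0_7_5760 : allR (guard Pst0 (nat_lit 25920)) 7 (nat_lit 5760) = true := by decide +kernel
theorem st0_7_5888 : allR (guard Pst0 (nat_lit 25920)) 7 (nat_lit 5888) = true := by decide +kernel
theorem st0_7_6016 : allR (guard Pst0 (nat_lit 25920)) 7 (nat_lit 6016) = true := by decide +kernel
theorem st0_7_6144 : allR (guard Pst0 (nat_lit 25920)) 7 (nat_lit 6144) = true := by decide +kernel
theorem st0_7_6272 : allR (guard Pst0 (nat_lit 25920)) 7 (nat_lit 6272) = true := by decide +kernel
theorem st0_7_6400 : allR (guard Pst0 (nat_lit 25920)) 7 (nat_lit 6400) = true := by decide +kernel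
theorem st0_7_6528 : allR (guard Pst0 (nat_lit 25920)) 7 (nat_lit 6528) = true := by decide +kernel
theorem st0_7_6656 : allR (guard Pst0 (nat_lit 25920)) 7 (nat_lit 6656) = true := by decide +kernel
theorem st0_7_6784 : allR (guard Pst0 (nat_lit 25920)) 7 (nat_lit 6784) = true := by decide +kernel
theorem st0_7_6912 : allR (guard Pst0 (nat_lit 25920)) 7 (nat_lit 6912) = true := by decide +kernel
theorem st0_7_7040 : allR (guard Pst0 (nat_lit 25920)) 7 (nat_lit 7040) = true := by decide +kernel
theorem st0_7_7168 : allR (guard Pst0 (nat_lit 25920)) 7 (nat_lit 7168) = true := by decide +kernel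
theorem st0_7_7296 : allR (guard Pst0 (nat_lit 25920)) 7 (nat_lit 7296) = true := by decide +kernel
theorem st0_7_7424 : allR (guard Pst0 (nat_lit 25920)) 7 (nat_lit 7424) = true := by decide +kernel
theorem st0_7_7552 : allR (guard Pst0 (nat_lit 25920)) 7 (nat_lit 7552) = true := by decide +kernel
theorem st0_7_7680 : allR (guard Pst0 (nat_lit 25920)) 7 (nat_lit 7680) = true := by decide +kernel
theorem st0_7_7808 : allR (guard Pst0 (nat_lit 25920)) 7 (nat_lit 7808) = true := by decide +kernel
theorem st0_7_7936 : allR (guard Pst0 (nat_lit 25920)) 7 (nat_lit 7936) = true := by decide +kernel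
theorem st0_7_8064 : allR (guard Pst0 (nat_lit 25920)) 7 (nat_lit 8064) = true := by decide +kernel
theorem st0_7_8192 : allR (guard Pst0 (nat_lit 25920)) 7 (nat_lit 8192) = true := by decide +kernel
theorem st0_7_8320 : allR (guard Pst0 (nat_lit 25920)) 7 (nat_lit 8320) = true := by decide +kernel
theorem st0_7_8448 : allR (guard Pst0 (nat_lit 25920)) 7 (nat_lit 8448) = true := by decide +kernel
theorem st0_7_8576 : allR (guard Pst0 (nat_lit 25920)) 7 (nat_lit 8576) = true := by decide +kernel
theorem st0_7_8704 : allR (guard Pst0 (nat_lit 25920)) 7 (nat_lit 8704) = true := by decide +kernel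
theorem st0_7_8832 : allR (guard Pst0 (nat_lit 25920)) 7 (nat_lit 8832) = true := by decide +kernel
theorem st0_7_8960 : allR (guard Pst0 (nat_lit 25920)) 7 (nat_lit 8960) = true := by decide +kernel
theorem st0_7_9088 : allR (guard Pst0 (nat_lit 25920)) 7 (nat_lit 9088) = true := by decide +kernel
theorem st0_7_9216 : allR (guard Pst0 (nat_lit 25920)) 7 (nat_lit 9216) = true := by decide +kernel
theorem st0_7_9344 : allR (guard Pst0 (nat_lit 25920)) 7 (nat_lit 9344) = true := by decide +kernel
theorem st0_7_9472 : allR (guard Pst0 (nat_lit 25920)) 7 (nat_lit 9472) = true := by decide +kernel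
theorem st0_7_9600 : allR (guard Pst0 (nat_lit 25920)) 7 (nat_lit 9600) = true := by decide +kernel
theorem st0_7_9728 : allR (guard Pst0 (nat_lit 25920)) 7 (nat_lit 9728) = true := by decide +kernel
theorem st0_7_9856 : allR (guard Pst0 (nat_lit 25920)) 7 (nat_lit 9856) = true := by decide +kernel
theorem st0_7_9984 : allR (guard Pst0 (nat_lit 25920)) 7 (nat_lit 9984) = true := by decide +kernel
theorem st0_7_10112 : allR (guard Pst0 (nat_lit 25920)) 7 (nat_lit 10112) = true := by decide +kernel
theorem st0_7_10240 : allR (guard Pst0 (nat_lit 25920)) 7 (nat_lit 10240) = true := by decide +kernel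
theorem st0_7_10368 : allR (guard Pst0 (nat_lit 25920)) 7 (nat_lit 10368) = true := by decide +kernel
theorem st0_7_10496 : allR (guard Pst0 (nat_lit 25920)) 7 (nat_lit 10496) = true := by decide +kernel
theorem st0_7_10624 : allR (guard Pst0 (nat_lit 25920)) 7 (nat_lit 10624) = true := by decide +kernel
theorem st0_7_10752 : allR (guard Pst0 (nat_lit 25920)) 7 (nat_lit 10752) = true := by decide +kernel
theorem st0_7_10880 : allR (guard Pst0 (nat_lit 25920)) 7 (nat_lit 10880) = true := by decide +kernel
theorem st0_7_11008 : allR (guard Pst0 (nat_lit 25920)) 7 (nat_lit 11008) = true := by decide +kernel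
theorem st0_7_11136 : allR (guard Pst0 (nat_lit 25920)) 7 (nat_lit 11136) = true := by decide +kernel
theorem st0_7_11264 : allR (guard Pst0 (nat_lit 25920)) 7 (nat_lit 11264) = true := by decide +kernel
theorem st0_7_11392 : allR (guard Pst0 (nat_lit 25920)) 7 (nat_lit 11392) = true := by decide +kernel
theorem st0_7_11520 : allR (guard Pst0 (nat_lit 25920)) 7 (nat_lit 11520) = true := by decide +kernel
theorem st0_7_11648 : allR (guard Pst0 (nat_lit 25920)) 7 (nat_lit 11648) = true := by decide +kernel
theorem st0_7_11776 : allR (guard Pst0 (nat_lit 25920)) 7 (nat_lit 11776) = true := by decide +kernel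
theorem st0_7_11904 : allR (guard Pst0 (nat_lit 25920)) 7 (nat_lit 11904) = true := by decide +kernel
theorem st0_7_12032 : allR (guard Pst0 (nat_lit 25920)) 7 (nat_lit 12032) = true := by decide +kernel
theorem st0_7_12160 : allR (guard Pst0 (nat_lit 25920)) 7 (nat_lit 12160) = true := by decide +kernel
theorem st0_7_12288 : allR (guard Pst0 (nat_lit 25920)) 7 (nat_lit 12288) = true := by decide +kernel
theorem st0_7_12416 : allR (guard Pst0 (nat_lit 25920)) 7 (nat_lit 12416) = true := by decide +kernel
theorem st0_7_12544 : allR (guard Pst0 (nat_lit 25920)) 7 (nat_lit 12544) = true := by decide +kernel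
theorem st0_7_12672 : allR (guard Pst0 (nat_lit 25920)) 7 (nat_lit 12672) = true := by decide +kernel
theorem st0_7_12800 : allR (guard Pst0 (nat_lit 25920)) 7 (nat_lit 12800) = true := by decide +kernel
theorem st0_7_12928 : allR (guard Pst0 (nat_lit 25920)) 7 (nat_lit 12928) = true := by decide +kernel
theorem st0_7_13056 : allR (guard Pst0 (nat_lit 25920)) 7 (nat_lit 13056) = true := by decide +kernel
theorem st0_7_13184 : allR (guard Pst0 (nat_lit 25920)) 7 (nat_lit 13184) = true := by decide +kernel
theorem st0_7_13312 : allR (guard Pst0 (nat_lit 25920)) 7 (nat_lit 13312) = true := by decide +kernel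
theorem st0_7_13440 : allR (guard Pst0 (nat_lit 25920)) 7 (nat_lit 13440) = true := by decide +kernel
theorem st0_7_13568 : allR (guard Pst0 (nat_lit 25920)) 7 (nat_lit 13568) = true := by decide +kernel
theorem st0_7_13696 : allR (guard Pst0 (nat_lit 25920)) 7 (nat_lit 13696) = true := by decide +kernel
theorem st0_7_13824 : allR (guard Pst0 (nat_lit 25920)) 7 (nat_lit 13824) = true := by decide +kernel
theorem st0_7_13952 : allR (guard Pst0 (nat_lit 25920)) 7 (nat_lit 13952) = true := by decide +kernel
theorem st0_7_14080 : allR (guard Pst0 (nat_lit 25920)) 7 (nat_lit 14080) = true := by decide +kernel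
theorem st0_7_14208 : allR (guard Pst0 (nat_lit 25920)) 7 (nat_lit 14208) = true := by decide +kernel
theorem st0_7_14336 : allR (guard Pst0 (nat_lit 25920)) 7 (nat_lit 14336) = true := by decide +kernel
theorem st0_7_14464 : allR (guard Pst0 (nat_lit 25920)) 7 (nat_lit 14464) = true := by decide +kernel
theorem st0_7_14592 : allR (guard Pst0 (nat_lit 25920)) 7 (nat_lit 14592) = true := by decide +kernel
theorem st0_7_14720 : allR (guard Pst0 (nat_lit 25920)) 7 (nat_lit 14720) = true := by decide +kernel
theorem st0_7_14848 : allR (guard Pst0 (nat_lit 25920)) 7 (nat_lit 14848) = true := by decide +kernel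
theorem st0_7_14976 : allR (guard Pst0 (nat_lit 25920)) 7 (nat_lit 14976) = true := by decide +kernel
theorem st0_7_15104 : allR (guard Pst0 (nat_lit 25920)) 7 (nat_lit 15104) = true := by decide +kernel
theorem st0_7_15232 : allR (guard Pst0 (nat_lit 25920)) 7 (nat_lit 15232) = true := by decide +kernel
theorem st0_7_15360 : allR (guard Pst0 (nat_lit 25920)) 7 (nat_lit 15360) = true := by decide +kernel
theorem st0_7_15488 : allR (guard Pst0 (nat_lit 25920)) 7 (nat_lit 15488) = true := by decide +kernel
theorem st0_7_15616 : allR (guard Pst0 (nat_lit 25920)) 7 (nat_lit 15616) = true := by decide +kernel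
theorem st0_7_15744 : allR (guard Pst0 (nat_lit 25920)) 7 (nat_lit 15744) = true := by decide +kernel
theorem st0_7_15872 : allR (guard Pst0 (nat_lit 25920)) 7 (nat_lit 15872) = true := by decide +kernel
theorem st0_7_16000 : allR (guard Pst0 (nat_lit 25920)) 7 (nat_lit 16000) = true := by decide +kernel
theorem st0_7_16128 : allR (guard Pst0 (nat_lit 25920)) 7 (nat_lit 16128) = true := by decide +kernel
theorem st0_7_16256 : allR (guard Pst0 (nat_lit 25920)) 7 (nat_lit 16256) = true := by decide +kernel
theorem st0_7_16384 : allR (guard Pst0 (nat_lit 25920)) 7 (nat_lit 16384) = true := by decide +kernel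
theorem st0_7_16512 : allR (guard Pst0 (nat_lit 25920)) 7 (nat_lit 16512) = true := by decide +kernel
theorem st0_7_16640 : allR (guard Pst0 (nat_lit 25920)) 7 (nat_lit 16640) = true := by decide +kernel
theorem st0_7_16768 : allR (guard Pst0 (nat_lit 25920)) 7 (nat_lit 16768) = true := by decide +kernel
theorem st0_7_16896 : allR (guard Pst0 (nat_lit 25920)) 7 (nat_lit 16896) = true := by decide +kernel
theorem st0_7_17024 : allR (guard Pst0 (nat_lit 25920)) 7 (nat_lit 17024) = true := by decide +kernel
theorem st0_7_17152 : allR (guard Pst0 (nat_lit 25920)) 7 (nat_lit 17152) = true := by decide +kernel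
theorem st0_7_17280 : allR (guard Pst0 (nat_lit 25920)) 7 (nat_lit 17280) = true := by decide +kernel
theorem st0_7_17408 : allR (guard Pst0 (nat_lit 25920)) 7 (nat_lit 17408) = true := by decide +kernel
theorem st0_7_17536 : allR (guard Pst0 (nat_lit 25920)) 7 (nat_lit 17536) = true := by decide +kernel
theorem st0_7_17664 : allR (guard Pst0 (nat_lit 25920)) 7 (nat_lit 17664) = true := by decide +kernel
theorem st0_7_17792 : allR (guard Pst0 (nat_lit 25920)) 7 (nat_lit 17792) = true := by decide +kernel
theorem st0_7_17920 : allR (guard Pst0 (nat_lit 25920)) 7 (nat_lit 17920) = true := by decide +kernel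
theorem st0_7_18048 : allR (guard Pst0 (nat_lit 25920)) 7 (nat_lit 18048) = true := by decide +kernel
theorem st0_7_18176 : allR (guard Pst0 (nat_lit 25920)) 7 (nat_lit 18176) = true := by decide +kernel
theorem st0_7_18304 : allR (guard Pst0 (nat_lit 25920)) 7 (nat_lit 18304) = true := by decide +kernel
theorem st0_7_18432 : allR (guard Pst0 (nat_lit 25920)) 7 (nat_lit 18432) = true := by decide +kernel
theorem st0_7_18560 : allR (guard Pst0 (nat_lit 25920)) 7 (nat_lit 18560) = true := by decide +kernel
theorem st0_7_18688 : allR (guard Pst0 (nat_lit 25920)) 7 (nat_lit 18688) = true := by decide +kernel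
theorem st0_7_18816 : allR (guard Pst0 (nat_lit 25920)) 7 (nat_lit 18816) = true := by decide +kernel
theorem st0_7_18944 : allR (guard Pst0 (nat_lit 25920)) 7 (nat_lit 18944) = true := by decide +kernel
theorem st0_7_19072 : allR (guard Pst0 (nat_lit 25920)) 7 (nat_lit 19072) = true := by decide +kernel
theorem st0_7_19200 : allR (guard Pst0 (nat_lit 25920)) 7 (nat_lit 19200) = true := by decide +kernel
theorem st0_7_19328 : allR (guard Pst0 (nat_lit 25920)) 7 (nat_lit 19328) = true := by decide +kernel
theorem st0_7_19456 : allR (guard Pst0 (nat_lit 25920)) 7 (nat_lit 19456) = true := by decide +kernel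
theorem st0_7_19584 : allR (guard Pst0 (nat_lit 25920)) 7 (nat_lit 19584) = true := by decide +kernel
theorem st0_7_19712 : allR (guard Pst0 (nat_lit 25920)) 7 (nat_lit 19712) = true := by decide +kernel
theorem st0_7_19840 : allR (guard Pst0 (nat_lit 25920)) 7 (nat_lit 19840) = true := by decide +kernel
theorem st0_7_19968 : allR (guard Pst0 (nat_lit 25920)) 7 (nat_lit 19968) = true := by decide +kernel
theorem st0_7_20096 : allR (guard Pst0 (nat_lit 25920)) 7 (nat_lit 20096) = true := by decide +kernel
theorem st0_7_20224 : allR (guard Pst0 (nat_lit 25920)) 7 (nat_lit 20224) = true := by decide +kernel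
theorem st0_7_20352 : allR (guard Pst0 (nat_lit 25920)) 7 (nat_lit 20352) = true := by decide +kernel
theorem st0_7_20480 : allR (guard Pst0 (nat_lit 25920)) 7 (nat_lit 20480) = true := by decide +kernel
theorem st0_7_20608 : allR (guard Pst0 (nat_lit 25920)) 7 (nat_lit 20608) = true := by decide +kernel
theorem st0_7_20736 : allR (guard Pst0 (nat_lit 25920)) 7 (nat_lit 20736) = true := by decide +kernel
theorem st0_7_20864 : allR (guard Pst0 (nat_lit 25920)) 7 (nat_lit 20864) = true := by decide +kernel
theorem st0_7_20992 : allR (guard Pst0 (nat_lit 25920)) 7 (nat_lit 20992) = true := by decide +kernel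
theorem st0_7_21120 : allR (guard Pst0 (nat_lit 25920)) 7 (nat_lit 21120) = true := by decide +kernel
theorem st0_7_21248 : allR (guard Pst0 (nat_lit 25920)) 7 (nat_lit 21248) = true := by decide +kernel
theorem st0_7_21376 : allR (guard Pst0 (nat_lit 25920)) 7 (nat_lit 21376) = true := by decide +kernel
theorem st0_7_21504 : allR (guard Pst0 (nat_lit 25920)) 7 (nat_lit 21504) = true := by decide +kernel
theorem st0_7_21632 : allR (guard Pst0 (nat_lit 25920)) 7 (nat_lit 21632) = true := by decide +kernel
theorem st0_7_21760 : allR (guard Pst0 (nat_lit 25920)) 7 (nat_lit 21760) = true := by decide +kernel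
theorem st0_7_21888 : allR (guard Pst0 (nat_lit 25920)) 7 (nat_lit 21888) = true := by decide +kernel
theorem st0_7_22016 : allR (guard Pst0 (nat_lit 25920)) 7 (nat_lit 22016) = true := by decide +kernel
theorem st0_7_22144 : allR (guard Pst0 (nat_lit 25920)) 7 (nat_lit 22144) = true := by decide +kernel
theorem st0_7_22272 : allR (guard Pst0 (nat_lit 25920)) 7 (nat_lit 22272) = true := by decide +kernel
theorem st0_7_22400 : allR (guard Pst0 (nat_lit 25920)) 7 (nat_lit 22400) = true := by decide +kernel
theorem st0_7_22528 : allR (guard Pst0 (nat_lit 25920)) 7 (nat_lit 22528) = true := by decide +kernel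
theorem st0_7_22656 : allR (guard Pst0 (nat_lit 25920)) 7 (nat_lit 22656) = true := by decide +kernel
theorem st0_7_22784 : allR (guard Pst0 (nat_lit 25920)) 7 (nat_lit 22784) = true := by decide +kernel
theorem st0_7_22912 : allR (guard Pst0 (nat_lit 25920)) 7 (nat_lit 22912) = true := by decide +kernel
theorem st0_7_23040 : allR (guard Pst0 (nat_lit 25920)) 7 (nat_lit 23040) = true := by decide +kernel
theorem st0_7_23168 : allR (guard Pst0 (nat_lit 25920)) 7 (nat_lit 23168) = true := by decide +kernel
theorem st0_7_23296 : allR (guard Pst0 (nat_lit 25920)) 7 (nat_lit 23296) = true := by decide +kernel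
theorem st0_7_23424 : allR (guard Pst0 (nat_lit 25920)) 7 (nat_lit 23424) = true := by decide +kernel
theorem st0_7_23552 : allR (guard Pst0 (nat_lit 25920)) 7 (nat_lit 23552) = true := by decide +kernel
theorem st0_7_23680 : allR (guard Pst0 (nat_lit 25920)) 7 (nat_lit 23680) = true := by decide +kernel
theorem st0_7_23808 : allR (guard Pst0 (nat_lit 25920)) 7 (nat_lit 23808) = true := by decide +kernel
theorem st0_7_23936 : allR (guard Pst0 (nat_lit 25920)) 7 (nat_lit 23936) = true := by decide +kernel
theorem st0_7_24064 : allR (guard Pst0 (nat_lit 25920)) 7 (nat_lit 24064) = true := by decide +kernel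
theorem st0_7_24192 : allR (guard Pst0 (nat_lit 25920)) 7 (nat_lit 24192) = true := by decide +kernel
theorem st0_7_24320 : allR (guard Pst0 (nat_lit 25920)) 7 (nat_lit 24320) = true := by decide +kernel
theorem st0_7_24448 : allR (guard Pst0 (nat_lit 25920)) 7 (nat_lit 24448) = true := by decide +kernel
theorem st0_7_24576 : allR (guard Pst0 (nat_lit 25920)) 7 (nat_lit 24576) = true := by decide +kernel
theorem st0_7_24704 : allR (guard Pst0 (nat_lit 25920)) 7 (nat_lit 24704) = true := by decide +kernel
theorem st0_7_24832 : allR (guard Pst0 (nat_lit 25920)) 7 (nat_lit 24832) = true := by decide +kernel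
theorem st0_7_24960 : allR (guard Pst0 (nat_lit 25920)) 7 (nat_lit 24960) = true := by decide +kernel
theorem st0_7_25088 : allR (guard Pst0 (nat_lit 25920)) 7 (nat_lit 25088) = true := by decide +kernel
theorem st0_7_25216 : allR (guard Pst0 (nat_lit 25920)) 7 (nat_lit 25216) = true := by decide +kernel
theorem st0_7_25344 : allR (guard Pst0 (nat_lit 25920)) 7 (nat_lit 25344) = true := by decide +kernel
theorem st0_7_25472 : allR (guard Pst0 (nat_lit 25920)) 7 (nat_lit 25472) = true := by decide +kernel
theorem st0_7_25600 : allR (guard Pst0 (nat_lit 25920)) 7 (nat_lit 25600) = true := by decide +kernel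
theorem st0_7_25728 : allR (guard Pst0 (nat_lit 25920)) 7 (nat_lit 25728) = true := by decide +kernel
theorem st0_7_25856 : allR (guard Pst0 (nat_lit 25920)) 7 (nat_lit 25856) = true := by decide +kernel
theorem st0_7_25984 : allR (guard Pst0 (nat_lit 25920)) 7 (nat_lit 25984) = true := by decide +kernel
theorem st0_7_26112 : allR (guard Pst0 (nat_lit 25920)) 7 (nat_lit 26112) = true := by decide +kernel
theorem st0_7_26240 : allR (guard Pst0 (nat_lit 25920)) 7 (nat_lit 26240) = true := by decide +kernel
theorem st0_7_26368 : allR (guard Pst0 (nat_lit 25920)) 7 (nat_lit 26368) = true := by decide +kernel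
theorem st0_7_26496 : allR (guard Pst0 (nat_lit 25920)) 7 (nat_lit 26496) = true := by decide +kernel
theorem st0_7_26624 : allR (guard Pst0 (nat_lit 25920)) 7 (nat_lit 26624) = true := by decide +kernel
theorem st0_7_26752 : allR (guard Pst0 (nat_lit 25920)) 7 (nat_lit 26752) = true := by decide +kernel
theorem st0_7_26880 : allR (guard Pst0 (nat_lit 25920)) 7 (nat_lit 26880) = true := by decide +kernel
theorem st0_7_27008 : allR (guard Pst0 (nat_lit 25920)) 7 (nat_lit 27008) = true := by decide +kernel
theorem st0_7_27136 : allR (guard Pst0 (nat_lit 25920)) 7 (nat_lit 27136) = true := by decide +kernel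
theorem st0_7_27264 : allR (guard Pst0 (nat_lit 25920)) 7 (nat_lit 27264) = true := by decide +kernel
theorem st0_7_27392 : allR (guard Pst0 (nat_lit 25920)) 7 (nat_lit 27392) = true := by decide +kernel
theorem st0_7_27520 : allR (guard Pst0 (nat_lit 25920)) 7 (nat_lit 27520) = true := by decide +kernel
theorem st0_7_27648 : allR (guard Pst0 (nat_lit 25920)) 7 (nat_lit 27648) = true := by decide +kernel
theorem st0_7_27776 : allR (guard Pst0 (nat_lit 25920)) 7 (nat_lit 27776) = true := by decide +kernel
theorem st0_7_27904 : allR (guard Pst0 (nat_lit 25920)) 7 (nat_lit 27904) = true := by decide +kernel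
theorem st0_7_28032 : allR (guard Pst0 (nat_lit 25920)) 7 (nat_lit 28032) = true := by decide +kernel
theorem st0_7_28160 : allR (guard Pst0 (nat_lit 25920)) 7 (nat_lit 28160) = true := by decide +kernel
theorem st0_7_28288 : allR (guard Pst0 (nat_lit 25920)) 7 (nat_lit 28288) = true := by decide +kernel
theorem st0_7_28416 : allR (guard Pst0 (nat_lit 25920)) 7 (nat_lit 28416) = true := by decide +kernel
theorem st0_7_28544 : allR (guard Pst0 (nat_lit 25920)) 7 (nat_lit 28544) = true := by decide +kernel
theorem st0_7_28672 : allR (guard Pst0 (nat_lit 25920)) 7 (nat_lit 28672) = true := by decide +kernel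
theorem st0_7_28800 : allR (guard Pst0 (nat_lit 25920)) 7 (nat_lit 28800) = true := by decide +kernel
theorem st0_7_28928 : allR (guard Pst0 (nat_lit 25920)) 7 (nat_lit 28928) = true := by decide +kernel
theorem st0_7_29056 : allR (guard Pst0 (nat_lit 25920)) 7 (nat_lit 29056) = true := by decide +kernel
theorem st0_7_29184 : allR (guard Pst0 (nat_lit 25920)) 7 (nat_lit 29184) = true := by decide +kernel
theorem st0_7_29312 : allR (guard Pst0 (nat_lit 25920)) 7 (nat_lit 29312) = true := by decide +kernel
theorem st0_7_29440 : allR (guard Pst0 (nat_lit 25920)) 7 (nat_lit 29440) = true := by decide +kernel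
theorem st0_7_29568 : allR (guard Pst0 (nat_lit 25920)) 7 (nat_lit 29568) = true := by decide +kernel
theorem st0_7_29696 : allR (guard Pst0 (nat_lit 25920)) 7 (nat_lit 29696) = true := by decide +kernel
theorem st0_7_29824 : allR (guard Pst0 (nat_lit 25920)) 7 (nat_lit 29824) = true := by decide +kernel
theorem st0_7_29952 : allR (guard Pst0 (nat_lit 25920)) 7 (nat_lit 29952) = true := by decide +kernel
theorem st0_7_30080 : allR (guard Pst0 (nat_lit 25920)) 7 (nat_lit 30080) = true := by decide +kernel
theorem st0_7_30208 : allR (guard Pst0 (nat_lit 25920)) 7 (nat_lit 30208) = true := by decide +kernel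
theorem st0_7_30336 : allR (guard Pst0 (nat_lit 25920)) 7 (nat_lit 30336) = true := by decide +kernel
theorem st0_7_30464 : allR (guard Pst0 (nat_lit 25920)) 7 (nat_lit 30464) = true := by decide +kernel
theorem st0_7_30592 : allR (guard Pst0 (nat_lit 25920)) 7 (nat_lit 30592) = true := by decide +kernel
theorem st0_7_30720 : allR (guard Pst0 (nat_lit 25920)) 7 (nat_lit 30720) = true := by decide +kernel
theorem st0_7_30848 : allR (guard Pst0 (nat_lit 25920)) 7 (nat_lit 30848) = true := by decide +kernel
theorem st0_7_30976 : allR (guard Pst0 (nat_lit 25920)) 7 (nat_lit 30976) = true := by decide +kernel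
theorem st0_7_31104 : allR (guard Pst0 (nat_lit 25920)) 7 (nat_lit 31104) = true := by decide +kernel
theorem st0_7_31232 : allR (guard Pst0 (nat_lit 25920)) 7 (nat_lit 31232) = true := by decide +kernel
theorem st0_7_31360 : allR (guard Pst0 (nat_lit 25920)) 7 (nat_lit 31360) = true := by decide +kernel
theorem st0_7_31488 : allR (guard Pst0 (nat_lit 25920)) 7 (nat_lit 31488) = true := by decide +kernel
theorem st0_7_31616 : allR (guard Pst0 (nat_lit 25920)) 7 (nat_lit 31616) = true := by decide +kernel
theorem st0_7_31744 : allR (guard Pst0 (nat_lit 25920)) 7 (nat_lit 31744) = true := by decide +kernel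
theorem st0_7_31872 : allR (guard Pst0 (nat_lit 25920)) 7 (nat_lit 31872) = true := by decide +kernel
theorem st0_7_32000 : allR (guard Pst0 (nat_lit 25920)) 7 (nat_lit 32000) = true := by decide +kernel
theorem st0_7_32128 : allR (guard Pst0 (nat_lit 25920)) 7 (nat_lit 32128) = true := by decide +kernel
theorem st0_7_32256 : allR (guard Pst0 (nat_lit 25920)) 7 (nat_lit 32256) = true := by decide +kernel
theorem st0_7_32384 : allR (guard Pst0 (nat_lit 25920)) 7 (nat_lit 32384) = true := by decide +kernel
theorem st0_7_32512 : allR (guard Pst0 (nat_lit 25920)) 7 (nat_lit 32512) = true := by decide +kernel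
theorem st0_7_32640 : allR (guard Pst0 (nat_lit 25920)) 7 (nat_lit 32640) = true := by decide +kernel
theorem st0_8_0 : allR (guard Pst0 (nat_lit 25920)) 8 (nat_lit 0) = true := allR_join (mid := nat_lit 128) rfl st0_7_0 st0_7_128
theorem st0_8_256 : allR (guard Pst0 (nat_lit 25920)) 8 (nat_lit 256) = true := allR_join (mid := nat_lit 384) rfl st0_7_256 st0_7_384
theorem st0_8_512 : allR (guard Pst0 (nat_lit 25920)) 8 (nat_lit 512) = true := allR_join (mid := nat_lit 640) rfl st0_7_512 st0_7_640
theorem st0_8_768 : allR (guard Pst0 (nat_lit 25920)) 8 (nat_lit 768) = true := allR_join (mid := nat_lit 896) rfl st0_7_768 st0_7_896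
theorem st0_8_1024 : allR (guard Pst0 (nat_lit 25920)) 8 (nat_lit 1024) = true := allR_join (mid := nat_lit 1152) rfl st0_7_1024 st0_7_1152
theorem st0_8_1280 : allR (guard Pst0 (nat_lit 25920)) 8 (nat_lit 1280) = true := allR_join (mid := nat_lit 1408) rfl st0_7_1280 st0_7_1408
theorem st0_8_1536 : allR (guard Pst0 (nat_lit 25920)) 8 (nat_lit 1536) = true := allR_join (mid := nat_lit 1664) rfl st0_7_1536 st0_7_1664
theorem st0_8_1792 : allR (guard Pst0 (nat_lit 25920)) 8 (nat_lit 1792) = true := allR_join (mid := nat_lit 1920) rfl st0_7_1792 st0_7_1920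
theorem st0_8_2048 : allR (guard Pst0 (nat_lit 25920)) 8 (nat_lit 2048) = true := allR_join (mid := nat_lit 2176) rfl st0_7_2048 st0_7_2176
theorem st0_8_2304 : allR (guard Pst0 (nat_lit 25920)) 8 (nat_lit 2304) = true := allR_join (mid := nat_lit 2432) rfl st0_7_2304 st0_7_2432
theorem st0_8_2560 : allR (guard Pst0 (nat_lit 25920)) 8 (nat_lit 2560) = true := allR_join (mid := nat_lit 2688) rfl st0_7_2560 st0_7_2688
theorem st0_8_2816 : allR (guard Pst0 (nat_lit 25920)) 8 (nat_lit 2816) = true := allR_join (mid := nat_lit 2944) rfl st0_7_2816 st0_7_2944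
theorem st0_8_3072 : allR (guard Pst0 (nat_lit 25920)) 8 (nat_lit 3072) = true := allR_join (mid := nat_lit 3200) rfl st0_7_3072 st0_7_3200
theorem st0_8_3328 : allR (guard Pst0 (nat_lit 25920)) 8 (nat_lit 3328) = true := allR_join (mid := nat_lit 3456) rfl st0_7_3328 st0_7_3456
theorem st0_8_3584 : allR (guard Pst0 (nat_lit 25920)) 8 (nat_lit 3584) = true := allR_join (mid := nat_lit 3712) rfl st0_7_3584 st0_7_3712
theorem st0_8_3840 : allR (guard Pst0 (nat_lit 25920)) 8 (nat_lit 3840) = true := allR_join (mid := nat_lit 3968) rfl st0_7_3840 st0_7_3968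
theorem st0_8_4096 : allR (guard Pst0 (nat_lit 25920)) 8 (nat_lit 4096) = true := allR_join (mid := nat_lit 4224) rfl st0_7_4096 st0_7_4224
theorem st0_8_4352 : allR (guard Pst0 (nat_lit 25920)) 8 (nat_lit 4352) = true := allR_join (mid := nat_lit 4480) rfl st0_7_4352 st0_7_4480
theorem st0_8_4608 : allR (guard Pst0 (nat_lit 25920)) 8 (nat_lit 4608) = true := allR_join (mid := nat_lit 4736) rfl st0_7_4608 st0_7_4736
theorem st0_8_4864 : allR (guard Pst0 (nat_lit 25920)) 8 (nat_lit 4864) = true := allR_join (mid := nat_lit 4992) rfl st0_7_4864 st0_7_4992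
theorem st0_8_5120 : allR (guard Pst0 (nat_lit 25920)) 8 (nat_lit 5120) = true := allR_join (mid := nat_lit 5248) rfl st0_7_5120 st0_7_5248
theorem st0_8_5376 : allR (guard Pst0 (nat_lit 25920)) 8 (nat_lit 5376) = true := allR_join (mid := nat_lit 5504) rfl st0_7_5376 st0_7_5504
theorem st0_8_5632 : allR (guard Pst0 (nat_lit 25920)) 8 (nat_lit 5632) = true := allR_join (mid := nat_lit 5760) rfl st0_7_5632 st0_7_5760
theorem st0_8_5888 : allR (guard Pst0 (nat_lit 25920)) 8 (nat_lit 5888) = true := allR_join (mid := nat_lit 6016) rfl st0_7_5888 st0_7_6016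
theorem st0_8_6144 : allR (guard Pst0 (nat_lit 25920)) 8 (nat_lit 6144) = true := allR_join (mid := nat_lit 6272) rfl st0_7_6144 st0_7_6272
theorem st0_8_6400 : allR (guard Pst0 (nat_lit 25920)) 8 (nat_lit 6400) = true := allR_join (mid := nat_lit 6528) rfl st0_7_6400 st0_7_6528
theorem st0_8_6656 : allR (guard Pst0 (nat_lit 25920)) 8 (nat_lit 6656) = true := allR_join (mid := nat_lit 6784) rfl st0_7_6656 st0_7_6784
theorem st0_8_6912 : allR (guard Pst0 (nat_lit 25920)) 8 (nat_lit 6912) = true := allR_join (mid := nat_lit 7040) rfl st0_7_6912 st0_7_7040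
theorem st0_8_7168 : allR (guard Pst0 (nat_lit 25920)) 8 (nat_lit 7168) = true := allR_join (mid := nat_lit 7296) rfl st0_7_7168 st0_7_7296
theorem st0_8_7424 : allR (guard Pst0 (nat_lit 25920)) 8 (nat_lit 7424) = true := allR_join (mid := nat_lit 7552) rfl st0_7_7424 st0_7_7552
theorem st0_8_7680 : allR (guard Pst0 (nat_lit 25920)) 8 (nat_lit 7680) = true := allR_join (mid := nat_lit 7808) rfl st0_7_7680 st0_7_7808
theorem st0_8_7936 : allR (guard Pst0 (nat_lit 25920)) 8 (nat_lit 7936) = true := allR_join (mid := nat_lit 8064) rfl st0_7_7936 st0_7_8064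
theorem st0_8_8192 : allR (guard Pst0 (nat_lit 25920)) 8 (nat_lit 8192) = true := allR_join (mid := nat_lit 8320) rfl st0_7_8192 st0_7_8320
theorem st0_8_8448 : allR (guard Pst0 (nat_lit 25920)) 8 (nat_lit 8448) = true := allR_join (mid := nat_lit 8576) rfl st0_7_8448 st0_7_8576
theorem st0_8_8704 : allR (guard Pst0 (nat_lit 25920)) 8 (nat_lit 8704) = true := allR_join (mid := nat_lit 8832) rfl st0_7_8704 st0_7_8832
theorem st0_8_8960 : allR (guard Pst0 (nat_lit 25920)) 8 (nat_lit 8960) = true := allR_join (mid := nat_lit 9088) rfl st0_7_8960 st0_7_9088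
theorem st0_8_9216 : allR (guard Pst0 (nat_lit 25920)) 8 (nat_lit 9216) = true := allR_join (mid := nat_lit 9344) rfl st0_7_9216 st0_7_9344
theorem st0_8_9472 : allR (guard Pst0 (nat_lit 25920)) 8 (nat_lit 9472) = true := allR_join (mid := nat_lit 9600) rfl st0_7_9472 st0_7_9600
theorem st0_8_9728 : allR (guard Pst0 (nat_lit 25920)) 8 (nat_lit 9728) = true := allR_join (mid := nat_lit 9856) rfl st0_7_9728 st0_7_9856
theorem st0_8_9984 : allR (guard Pst0 (nat_lit 25920)) 8 (nat_lit 9984) = true := allR_join (mid := nat_lit 10112) rfl st0_7_9984 st0_7_10112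
theorem st0_8_10240 : allR (guard Pst0 (nat_lit 25920)) 8 (nat_lit 10240) = true := allR_join (mid := nat_lit 10368) rfl st0_7_10240 st0_7_10368
theorem st0_8_10496 : allR (guard Pst0 (nat_lit 25920)) 8 (nat_lit 10496) = true := allR_join (mid := nat_lit 10624) rfl st0_7_10496 st0_7_10624
theorem st0_8_10752 : allR (guard Pst0 (nat_lit 25920)) 8 (nat_lit 10752) = true := allR_join (mid := nat_lit 10880) rfl st0_7_10752 st0_7_10880
theorem st0_8_11008 : allR (guard Pst0 (nat_lit 25920)) 8 (nat_lit 11008) = true := allR_join (mid := nat_lit 11136) rfl st0_7_11008 st0_7_11136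
theorem st0_8_11264 : allR (guard Pst0 (nat_lit 25920)) 8 (nat_lit 11264) = true := allR_join (mid := nat_lit 11392) rfl st0_7_11264 st0_7_11392
theorem st0_8_11520 : allR (guard Pst0 (nat_lit 25920)) 8 (nat_lit 11520) = true := allR_join (mid := nat_lit 11648) rfl st0_7_11520 st0_7_11648
theorem st0_8_11776 : allR (guard Pst0 (nat_lit 25920)) 8 (nat_lit 11776) = true := allR_join (mid := nat_lit 11904) rfl st0_7_11776 st0_7_11904
theorem st0_8_12032 : allR (guard Pst0 (nat_lit 25920)) 8 (nat_lit 12032) = true := allR_join (mid := nat_lit 12160) rfl st0_7_12032 st0_7_12160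
theorem st0_8_12288 : allR (guard Pst0 (nat_lit 25920)) 8 (nat_lit 12288) = true := allR_join (mid := nat_lit 12416) rfl st0_7_12288 st0_7_12416
theorem st0_8_12544 : allR (guard Pst0 (nat_lit 25920)) 8 (nat_lit 12544) = true := allR_join (mid := nat_lit 12672) rfl st0_7_12544 st0_7_12672
theorem st0_8_12800 : allR (guard Pst0 (nat_lit 25920)) 8 (nat_lit 12800) = true := allR_join (mid := nat_lit 12928) rfl st0_7_12800 st0_7_12928
theorem st0_8_13056 : allR (guard Pst0 (nat_lit 25920)) 8 (nat_lit 13056) = true := allR_join (mid := nat_lit 13184) rfl st0_7_13056 st0_7_13184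
theorem st0_8_13312 : allR (guard Pst0 (nat_lit 25920)) 8 (nat_lit 13312) = true := allR_join (mid := nat_lit 13440) rfl st0_7_13312 st0_7_13440
theorem st0_8_13568 : allR (guard Pst0 (nat_lit 25920)) 8 (nat_lit 13568) = true := allR_join (mid := nat_lit 13696) rfl st0_7_13568 st0_7_13696
theorem st0_8_13824 : allR (guard Pst0 (nat_lit 25920)) 8 (nat_lit 13824) = true := allR_join (mid := nat_lit 13952) rfl st0_7_13824 st0_7_13952
theorem st0_8_14080 : allR (guard Pst0 (nat_lit 25920)) 8 (nat_lit 14080) = true := allR_join (mid := nat_lit 14208) rfl st0_7_14080 st0_7_14208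
theorem st0_8_14336 : allR (guard Pst0 (nat_lit 25920)) 8 (nat_lit 14336) = true := allR_join (mid := nat_lit 14464) rfl st0_7_14336 st0_7_14464
theorem st0_8_14592 : allR (guard Pst0 (nat_lit 25920)) 8 (nat_lit 14592) = true := allR_join (mid := nat_lit 14720) rfl st0_7_14592 st0_7_14720
theorem st0_8_14848 : allR (guard Pst0 (nat_lit 25920)) 8 (nat_lit 14848) = true := allR_join (mid := nat_lit 14976) rfl st0_7_14848 st0_7_14976
theorem st0_8_15104 : allR (guard Pst0 (nat_lit 25920)) 8 (nat_lit 15104) = true := allR_join (mid := nat_lit 15232) rfl st0_7_15104 st0_7_15232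
theorem st0_8_15360 : allR (guard Pst0 (nat_lit 25920)) 8 (nat_lit 15360) = true := allR_join (mid := nat_lit 15488) rfl st0_7_15360 st0_7_15488
theorem st0_8_15616 : allR (guard Pst0 (nat_lit 25920)) 8 (nat_lit 15616) = true := allR_join (mid := nat_lit 15744) rfl st0_7_15616 st0_7_15744
theorem st0_8_15872 : allR (guard Pst0 (nat_lit 25920)) 8 (nat_lit 15872) = true := allR_join (mid := nat_lit 16000) rfl st0_7_15872 st0_7_16000
theorem st0_8_16128 : allR (guard Pst0 (nat_lit 25920)) 8 (nat_lit 16128) = true := allR_join (mid := nat_lit 16256) rfl st0_7_16128 st0_7_16256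
theorem st0_8_16384 : allR (guard Pst0 (nat_lit 25920)) 8 (nat_lit 16384) = true := allR_join (mid := nat_lit 16512) rfl st0_7_16384 st0_7_16512
theorem st0_8_16640 : allR (guard Pst0 (nat_lit 25920)) 8 (nat_lit 16640) = true := allR_join (mid := nat_lit 16768) rfl st0_7_16640 st0_7_16768
theorem st0_8_16896 : allR (guard Pst0 (nat_lit 25920)) 8 (nat_lit 16896) = true := allR_join (mid := nat_lit 17024) rfl st0_7_16896 st0_7_17024
theorem st0_8_17152 : allR (guard Pst0 (nat_lit 25920)) 8 (nat_lit 17152) = true := allR_join (mid := nat_lit 17280) rfl st0_7_17152 st0_7_17280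
theorem st0_8_17408 : allR (guard Pst0 (nat_lit 25920)) 8 (nat_lit 17408) = true := allR_join (mid := nat_lit 17536) rfl st0_7_17408 st0_7_17536
theorem st0_8_17664 : allR (guard Pst0 (nat_lit 25920)) 8 (nat_lit 17664) = true := allR_join (mid := nat_lit 17792) rfl st0_7_17664 st0_7_17792
theorem st0_8_17920 : allR (guard Pst0 (nat_lit 25920)) 8 (nat_lit 17920) = true := allR_join (mid := nat_lit 18048) rfl st0_7_17920 st0_7_18048
theorem st0_8_18176 : allR (guard Pst0 (nat_lit 25920)) 8 (nat_lit 18176) = true := allR_join (mid := nat_lit 18304) rfl st0_7_18176 st0_7_18304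
theorem st0_8_18432 : allR (guard Pst0 (nat_lit 25920)) 8 (nat_lit 18432) = true := allR_join (mid := nat_lit 18560) rfl st0_7_18432 st0_7_18560
theorem st0_8_18688 : allR (guard Pst0 (nat_lit 25920)) 8 (nat_lit 18688) = true := allR_join (mid := nat_lit 18816) rfl st0_7_18688 st0_7_18816
theorem st0_8_18944 : allR (guard Pst0 (nat_lit 25920)) 8 (nat_lit 18944) = true := allR_join (mid := nat_lit 19072) rfl st0_7_18944 st0_7_19072
theorem st0_8_19200 : allR (guard Pst0 (nat_lit 25920)) 8 (nat_lit 19200) = true := allR_join (mid := nat_lit 19328) rfl st0_7_19200 st0_7_19328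
theorem st0_8_19456 : allR (guard Pst0 (nat_lit 25920)) 8 (nat_lit 19456) = true := allR_join (mid := nat_lit 19584) rfl st0_7_19456 st0_7_19584
theorem st0_8_19712 : allR (guard Pst0 (nat_lit 25920)) 8 (nat_lit 19712) = true := allR_join (mid := nat_lit 19840) rfl st0_7_19712 st0_7_19840
theorem st0_8_19968 : allR (guard Pst0 (nat_lit 25920)) 8 (nat_lit 19968) = true := allR_join (mid := nat_lit 20096) rfl st0_7_19968 st0_7_20096
theorem st0_8_20224 : allR (guard Pst0 (nat_lit 25920)) 8 (nat_lit 20224) = true := allR_join (mid := nat_lit 20352) rfl st0_7_20224 st0_7_20352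
theorem st0_8_20480 : allR (guard Pst0 (nat_lit 25920)) 8 (nat_lit 20480) = true := allR_join (mid := nat_lit 20608) rfl st0_7_20480 st0_7_20608
theorem st0_8_20736 : allR (guard Pst0 (nat_lit 25920)) 8 (nat_lit 20736) = true := allR_join (mid := nat_lit 20864) rfl st0_7_20736 st0_7_20864
theorem st0_8_20992 : allR (guard Pst0 (nat_lit 25920)) 8 (nat_lit 20992) = true := allR_join (mid := nat_lit 21120) rfl st0_7_20992 st0_7_21120
theorem st0_8_21248 : allR (guard Pst0 (nat_lit 25920)) 8 (nat_lit 21248) = true := allR_join (mid := nat_lit 21376) rfl st0_7_21248 st0_7_21376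
theorem st0_8_21504 : allR (guard Pst0 (nat_lit 25920)) 8 (nat_lit 21504) = true := allR_join (mid := nat_lit 21632) rfl st0_7_21504 st0_7_21632
theorem st0_8_21760 : allR (guard Pst0 (nat_lit 25920)) 8 (nat_lit 21760) = true := allR_join (mid := nat_lit 21888) rfl st0_7_21760 st0_7_21888
theorem st0_8_22016 : allR (guard Pst0 (nat_lit 25920)) 8 (nat_lit 22016) = true := allR_join (mid := nat_lit 22144) rfl st0_7_22016 st0_7_22144
theorem st0_8_22272 : allR (guard Pst0 (nat_lit 25920)) 8 (nat_lit 22272) = true := allR_join (mid := nat_lit 22400) rfl st0_7_22272 st0_7_22400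
theorem st0_8_22528 : allR (guard Pst0 (nat_lit 25920)) 8 (nat_lit 22528) = true := allR_join (mid := nat_lit 22656) rfl st0_7_22528 st0_7_22656
theorem st0_8_22784 : allR (guard Pst0 (nat_lit 25920)) 8 (nat_lit 22784) = true := allR_join (mid := nat_lit 22912) rfl st0_7_22784 st0_7_22912
theorem st0_8_23040 : allR (guard Pst0 (nat_lit 25920)) 8 (nat_lit 23040) = true := allR_join (mid := nat_lit 23168) rfl st0_7_23040 st0_7_23168
theorem st0_8_23296 : allR (guard Pst0 (nat_lit 25920)) 8 (nat_lit 23296) = true := allR_join (mid := nat_lit 23424) rfl st0_7_23296 st0_7_23424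
theorem st0_8_23552 : allR (guard Pst0 (nat_lit 25920)) 8 (nat_lit 23552) = true := allR_join (mid := nat_lit 23680) rfl st0_7_23552 st0_7_23680
theorem st0_8_23808 : allR (guard Pst0 (nat_lit 25920)) 8 (nat_lit 23808) = true := allR_join (mid := nat_lit 23936) rfl st0_7_23808 st0_7_23936
theorem st0_8_24064 : allR (guard Pst0 (nat_lit 25920)) 8 (nat_lit 24064) = true := allR_join (mid := nat_lit 24192) rfl st0_7_24064 st0_7_24192
theorem st0_8_24320 : allR (guard Pst0 (nat_lit 25920)) 8 (nat_lit 24320) = true := allR_join (mid := nat_lit 24448) rfl st0_7_24320 st0_7_24448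
theorem st0_8_24576 : allR (guard Pst0 (nat_lit 25920)) 8 (nat_lit 24576) = true := allR_join (mid := nat_lit 24704) rfl st0_7_24576 st0_7_24704
theorem st0_8_24832 : allR (guard Pst0 (nat_lit 25920)) 8 (nat_lit 24832) = true := allR_join (mid := nat_lit 24960) rfl st0_7_24832 st0_7_24960
theorem st0_8_25088 : allR (guard Pst0 (nat_lit 25920)) 8 (nat_lit 25088) = true := allR_join (mid := nat_lit 25216) rfl st0_7_25088 st0_7_25216
theorem st0_8_25344 : allR (guard Pst0 (nat_lit 25920)) 8 (nat_lit 25344) = true := allR_join (mid := nat_lit 25472) rfl st0_7_25344 st0_7_25472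
theorem st0_8_25600 : allR (guard Pst0 (nat_lit 25920)) 8 (nat_lit 25600) = true := allR_join (mid := nat_lit 25728) rfl st0_7_25600 st0_7_25728
theorem st0_8_25856 : allR (guard Pst0 (nat_lit 25920)) 8 (nat_lit 25856) = true := allR_join (mid := nat_lit 25984) rfl st0_7_25856 st0_7_25984
theorem st0_8_26112 : allR (guard Pst0 (nat_lit 25920)) 8 (nat_lit 26112) = true := allR_join (mid := nat_lit 26240) rfl st0_7_26112 st0_7_26240
theorem st0_8_26368 : allR (guard Pst0 (nat_lit 25920)) 8 (nat_lit 26368) = true := allR_join (mid := nat_lit 26496) rfl st0_7_26368 st0_7_26496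
theorem st0_8_26624 : allR (guard Pst0 (nat_lit 25920)) 8 (nat_lit 26624) = true := allR_join (mid := nat_lit 26752) rfl st0_7_26624 st0_7_26752
theorem st0_8_26880 : allR (guard Pst0 (nat_lit 25920)) 8 (nat_lit 26880) = true := allR_join (mid := nat_lit 27008) rfl st0_7_26880 st0_7_27008
theorem st0_8_27136 : allR (guard Pst0 (nat_lit 25920)) 8 (nat_lit 27136) = true := allR_join (mid := nat_lit 27264) rfl st0_7_27136 st0_7_27264
theorem st0_8_27392 : allR (guard Pst0 (nat_lit 25920)) 8 (nat_lit 27392) = true := allR_join (mid := nat_lit 27520) rfl st0_7_27392 st0_7_27520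
theorem st0_8_27648 : allR (guard Pst0 (nat_lit 25920)) 8 (nat_lit 27648) = true := allR_join (mid := nat_lit 27776) rfl st0_7_27648 st0_7_27776
theorem st0_8_27904 : allR (guard Pst0 (nat_lit 25920)) 8 (nat_lit 27904) = true := allR_join (mid := nat_lit 28032) rfl st0_7_27904 st0_7_28032
theorem st0_8_28160 : allR (guard Pst0 (nat_lit 25920)) 8 (nat_lit 28160) = true := allR_join (mid := nat_lit 28288) rfl st0_7_28160 st0_7_28288
theorem st0_8_28416 : allR (guard Pst0 (nat_lit 25920)) 8 (nat_lit 28416) = true := allR_join (mid := nat_lit 28544) rfl st0_7_28416 st0_7_28544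
theorem st0_8_28672 : allR (guard Pst0 (nat_lit 25920)) 8 (nat_lit 28672) = true := allR_join (mid := nat_lit 28800) rfl st0_7_28672 st0_7_28800
theorem st0_8_28928 : allR (guard Pst0 (nat_lit 25920)) 8 (nat_lit 28928) = true := allR_join (mid := nat_lit 29056) rfl st0_7_28928 st0_7_29056
theorem st0_8_29184 : allR (guard Pst0 (nat_lit 25920)) 8 (nat_lit 29184) = true := allR_join (mid := nat_lit 29312) rfl st0_7_29184 st0_7_29312
theorem st0_8_29440 : allR (guard Pst0 (nat_lit 25920)) 8 (nat_lit 29440) = true := allR_join (mid := nat_lit 29568) rfl st0_7_29440 st0_7_29568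
theorem st0_8_29696 : allR (guard Pst0 (nat_lit 25920)) 8 (nat_lit 29696) = true := allR_join (mid := nat_lit 29824) rfl st0_7_29696 st0_7_29824
theorem st0_8_29952 : allR (guard Pst0 (nat_lit 25920)) 8 (nat_lit 29952) = true := allR_join (mid := nat_lit 30080) rfl st0_7_29952 st0_7_30080
theorem st0_8_30208 : allR (guard Pst0 (nat_lit 25920)) 8 (nat_lit 30208) = true := allR_join (mid := nat_lit 30336) rfl st0_7_30208 st0_7_30336
theorem st0_8_30464 : allR (guard Pst0 (nat_lit 25920)) 8 (nat_lit 30464) = true := allR_join (mid := nat_lit 30592) rfl st0_7_30464 st0_7_30592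
theorem st0_8_30720 : allR (guard Pst0 (nat_lit 25920)) 8 (nat_lit 30720) = true := allR_join (mid := nat_lit 30848) rfl st0_7_30720 st0_7_30848
theorem st0_8_30976 : allR (guard Pst0 (nat_lit 25920)) 8 (nat_lit 30976) = true := allR_join (mid := nat_lit 31104) rfl st0_7_30976 st0_7_31104
theorem st0_8_31232 : allR (guard Pst0 (nat_lit 25920)) 8 (nat_lit 31232) = true := allR_join (mid := nat_lit 31360) rfl st0_7_31232 st0_7_31360
theorem st0_8_31488 : allR (guard Pst0 (nat_lit 25920)) 8 (nat_lit 31488) = true := allR_join (mid := nat_lit 31616) rfl st0_7_31488 st0_7_31616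
theorem st0_8_31744 : allR (guard Pst0 (nat_lit 25920)) 8 (nat_lit 31744) = true := allR_join (mid := nat_lit 31872) rfl st0_7_31744 st0_7_31872
theorem st0_8_32000 : allR (guard Pst0 (nat_lit 25920)) 8 (nat_lit 32000) = true := allR_join (mid := nat_lit 32128) rfl st0_7_32000 st0_7_32128
theorem st0_8_32256 : allR (guard Pst0 (nat_lit 25920)) 8 (nat_lit 32256) = true := allR_join (mid := nat_lit 32384) rfl st0_7_32256 st0_7_32384
theorem st0_8_32512 : allR (guard Pst0 (nat_lit 25920)) 8 (nat_lit 32512) = true := allR_join (mid := nat_lit 32640) rfl st0_7_32512 st0_7_32640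
theorem st0_9_0 : allR (guard Pst0 (nat_lit 25920)) 9 (nat_lit 0) = true := allR_join (mid := nat_lit 256) rfl st0_8_0 st0_8_256
theorem st0_9_512 : allR (guard Pst0 (nat_lit 25920)) 9 (nat_lit 512) = true := allR_join (mid := nat_lit 768) rfl st0_8_512 st0_8_768
theorem st0_9_1024 : allR (guard Pst0 (nat_lit 25920)) 9 (nat_lit 1024) = true := allR_join (mid := nat_lit 1280) rfl st0_8_1024 st0_8_1280
theorem st0_9_1536 : allR (guard Pst0 (nat_lit 25920)) 9 (nat_lit 1536) = true := allR_join (mid := nat_lit 1792) rfl st0_8_1536 st0_8_1792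
theorem st0_9_2048 : allR (guard Pst0 (nat_lit 25920)) 9 (nat_lit 2048) = true := allR_join (mid := nat_lit 2304) rfl st0_8_2048 st0_8_2304
theorem st0_9_2560 : allR (guard Pst0 (nat_lit 25920)) 9 (nat_lit 2560) = true := allR_join (mid := nat_lit 2816) rfl st0_8_2560 st0_8_2816
theorem st0_9_3072 : allR (guard Pst0 (nat_lit 25920)) 9 (nat_lit 3072) = true := allR_join (mid := nat_lit 3328) rfl st0_8_3072 st0_8_3328
theorem st0_9_3584 : allR (guard Pst0 (nat_lit 25920)) 9 (nat_lit 3584) = true := allR_join (mid := nat_lit 3840) rfl st0_8_3584 st0_8_3840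
theorem st0_9_4096 : allR (guard Pst0 (nat_lit 25920)) 9 (nat_lit 4096) = true := allR_join (mid := nat_lit 4352) rfl st0_8_4096 st0_8_4352
theorem st0_9_4608 : allR (guard Pst0 (nat_lit 25920)) 9 (nat_lit 4608) = true := allR_join (mid := nat_lit 4864) rfl st0_8_4608 st0_8_4864
theorem st0_9_5120 : allR (guard Pst0 (nat_lit 25920)) 9 (nat_lit 5120) = true := allR_join (mid := nat_lit 5376) rfl st0_8_5120 st0_8_5376
theorem st0_9_5632 : allR (guard Pst0 (nat_lit 25920)) 9 (nat_lit 5632) = true := allR_join (mid := nat_lit 5888) rfl st0_8_5632 st0_8_5888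
theorem st0_9_6144 : allR (guard Pst0 (nat_lit 25920)) 9 (nat_lit 6144) = true := allR_join (mid := nat_lit 6400) rfl st0_8_6144 st0_8_6400
theorem st0_9_6656 : allR (guard Pst0 (nat_lit 25920)) 9 (nat_lit 6656) = true := allR_join (mid := nat_lit 6912) rfl st0_8_6656 st0_8_6912
theorem st0_9_7168 : allR (guard Pst0 (nat_lit 25920)) 9 (nat_lit 7168) = true := allR_join (mid := nat_lit 7424) rfl st0_8_7168 st0_8_7424
theorem st0_9_7680 : allR (guard Pst0 (nat_lit 25920)) 9 (nat_lit 7680) = true := allR_join (mid := nat_lit 7936) rfl st0_8_7680 st0_8_7936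
theorem st0_9_8192 : allR (guard Pst0 (nat_lit 25920)) 9 (nat_lit 8192) = true := allR_join (mid := nat_lit 8448) rfl st0_8_8192 st0_8_8448
theorem st0_9_8704 : allR (guard Pst0 (nat_lit 25920)) 9 (nat_lit 8704) = true := allR_join (mid := nat_lit 8960) rfl st0_8_8704 st0_8_8960
theorem st0_9_9216 : allR (guard Pst0 (nat_lit 25920)) 9 (nat_lit 9216) = true := allR_join (mid := nat_lit 9472) rfl st0_8_9216 st0_8_9472
theorem st0_9_9728 : allR (guard Pst0 (nat_lit 25920)) 9 (nat_lit 9728) = true := allR_join (mid := nat_lit 9984) rfl st0_8_9728 st0_8_9984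
theorem st0_9_10240 : allR (guard Pst0 (nat_lit 25920)) 9 (nat_lit 10240) = true := allR_join (mid := nat_lit 10496) rfl st0_8_10240 st0_8_10496
theorem st0_9_10752 : allR (guard Pst0 (nat_lit 25920)) 9 (nat_lit 10752) = true := allR_join (mid := nat_lit 11008) rfl st0_8_10752 st0_8_11008
theorem st0_9_11264 : allR (guard Pst0 (nat_lit 25920)) 9 (nat_lit 11264) = true := allR_join (mid := nat_lit 11520) rfl st0_8_11264 st0_8_11520
theorem st0_9_11776 : allR (guard Pst0 (nat_lit 25920)) 9 (nat_lit 11776) = true := allR_join (mid := nat_lit 12032) rfl st0_8_11776 st0_8_12032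
theorem st0_9_12288 : allR (guard Pst0 (nat_lit 25920)) 9 (nat_lit 12288) = true := allR_join (mid := nat_lit 12544) rfl st0_8_12288 st0_8_12544
theorem st0_9_12800 : allR (guard Pst0 (nat_lit 25920)) 9 (nat_lit 12800) = true := allR_join (mid := nat_lit 13056) rfl st0_8_12800 st0_8_13056
theorem st0_9_13312 : allR (guard Pst0 (nat_lit 25920)) 9 (nat_lit 13312) = true := allR_join (mid := nat_lit 13568) rfl st0_8_13312 st0_8_13568
theorem st0_9_13824 : allR (guard Pst0 (nat_lit 25920)) 9 (nat_lit 13824) = true := allR_join (mid := nat_lit 14080) rfl st0_8_13824 st0_8_14080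
theorem st0_9_14336 : allR (guard Pst0 (nat_lit 25920)) 9 (nat_lit 14336) = true := allR_join (mid := nat_lit 14592) rfl st0_8_14336 st0_8_14592
theorem st0_9_14848 : allR (guard Pst0 (nat_lit 25920)) 9 (nat_lit 14848) = true := allR_join (mid := nat_lit 15104) rfl st0_8_14848 st0_8_15104
theorem st0_9_15360 : allR (guard Pst0 (nat_lit 25920)) 9 (nat_lit 15360) = true := allR_join (mid := nat_lit 15616) rfl st0_8_15360 st0_8_15616
theorem st0_9_15872 : allR (guard Pst0 (nat_lit 25920)) 9 (nat_lit 15872) = true := allR_join (mid := nat_lit 16128) rfl st0_8_15872 st0_8_16128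
theorem st0_9_16384 : allR (guard Pst0 (nat_lit 25920)) 9 (nat_lit 16384) = true := allR_join (mid := nat_lit 16640) rfl st0_8_16384 st0_8_16640
theorem st0_9_16896 : allR (guard Pst0 (nat_lit 25920)) 9 (nat_lit 16896) = true := allR_join (mid := nat_lit 17152) rfl st0_8_16896 st0_8_17152
theorem st0_9_17408 : allR (guard Pst0 (nat_lit 25920)) 9 (nat_lit 17408) = true := allR_join (mid := nat_lit 17664) rfl st0_8_17408 st0_8_17664
theorem st0_9_17920 : allR (guard Pst0 (nat_lit 25920)) 9 (nat_lit 17920) = true := allR_join (mid := nat_lit 18176) rfl st0_8_17920 st0_8_18176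
theorem st0_9_18432 : allR (guard Pst0 (nat_lit 25920)) 9 (nat_lit 18432) = true := allR_join (mid := nat_lit 18688) rfl st0_8_18432 st0_8_18688
theorem st0_9_18944 : allR (guard Pst0 (nat_lit 25920)) 9 (nat_lit 18944) = true := allR_join (mid := nat_lit 19200) rfl st0_8_18944 st0_8_19200
theorem st0_9_19456 : allR (guard Pst0 (nat_lit 25920)) 9 (nat_lit 19456) = true := allR_join (mid := nat_lit 19712) rfl st0_8_19456 st0_8_19712
theorem st0_9_19968 : allR (guard Pst0 (nat_lit 25920)) 9 (nat_lit 19968) = true := allR_join (mid := nat_lit 20224) rfl st0_8_19968 st0_8_20224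
theorem st0_9_20480 : allR (guard Pst0 (nat_lit 25920)) 9 (nat_lit 20480) = true := allR_join (mid := nat_lit 20736) rfl st0_8_20480 st0_8_20736
theorem st0_9_20992 : allR (guard Pst0 (nat_lit 25920)) 9 (nat_lit 20992) = true := allR_join (mid := nat_lit 21248) rfl st0_8_20992 st0_8_21248
theorem st0_9_21504 : allR (guard Pst0 (nat_lit 25920)) 9 (nat_lit 21504) = true := allR_join (mid := nat_lit 21760) rfl st0_8_21504 st0_8_21760
theorem st0_9_22016 : allR (guard Pst0 (nat_lit 25920)) 9 (nat_lit 22016) = true := allR_join (mid := nat_lit 22272) rfl st0_8_22016 st0_8_22272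
theorem st0_9_22528 : allR (guard Pst0 (nat_lit 25920)) 9 (nat_lit 22528) = true := allR_join (mid := nat_lit 22784) rfl st0_8_22528 st0_8_22784
theorem st0_9_23040 : allR (guard Pst0 (nat_lit 25920)) 9 (nat_lit 23040) = true := allR_join (mid := nat_lit 23296) rfl st0_8_23040 st0_8_23296
theorem st0_9_23552 : allR (guard Pst0 (nat_lit 25920)) 9 (nat_lit 23552) = true := allR_join (mid := nat_lit 23808) rfl st0_8_23552 st0_8_23808
theorem st0_9_24064 : allR (guard Pst0 (nat_lit 25920)) 9 (nat_lit 24064) = true := allR_join (mid := nat_lit 24320) rfl st0_8_24064 st0_8_24320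
theorem st0_9_24576 : allR (guard Pst0 (nat_lit 25920)) 9 (nat_lit 24576) = true := allR_join (mid := nat_lit 24832) rfl st0_8_24576 st0_8_24832
theorem st0_9_25088 : allR (guard Pst0 (nat_lit 25920)) 9 (nat_lit 25088) = true := allR_join (mid := nat_lit 25344) rfl st0_8_25088 st0_8_25344
theorem st0_9_25600 : allR (guard Pst0 (nat_lit 25920)) 9 (nat_lit 25600) = true := allR_join (mid := nat_lit 25856) rfl st0_8_25600 st0_8_25856
theorem st0_9_26112 : allR (guard Pst0 (nat_lit 25920)) 9 (nat_lit 26112) = true := allR_join (mid := nat_lit 26368) rfl st0_8_26112 st0_8_26368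
theorem st0_9_26624 : allR (guard Pst0 (nat_lit 25920)) 9 (nat_lit 26624) = true := allR_join (mid := nat_lit 26880) rfl st0_8_26624 st0_8_26880
theorem st0_9_27136 : allR (guard Pst0 (nat_lit 25920)) 9 (nat_lit 27136) = true := allR_join (mid := nat_lit 27392) rfl st0_8_27136 st0_8_27392
theorem st0_9_27648 : allR (guard Pst0 (nat_lit 25920)) 9 (nat_lit 27648) = true := allR_join (mid := nat_lit 27904) rfl st0_8_27648 st0_8_27904
theorem st0_9_28160 : allR (guard Pst0 (nat_lit 25920)) 9 (nat_lit 28160) = true := allR_join (mid := nat_lit 28416) rfl st0_8_28160 st0_8_28416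
theorem st0_9_28672 : allR (guard Pst0 (nat_lit 25920)) 9 (nat_lit 28672) = true := allR_join (mid := nat_lit 28928) rfl st0_8_28672 st0_8_28928
theorem st0_9_29184 : allR (guard Pst0 (nat_lit 25920)) 9 (nat_lit 29184) = true := allR_join (mid := nat_lit 29440) rfl st0_8_29184 st0_8_29440
theorem st0_9_29696 : allR (guard Pst0 (nat_lit 25920)) 9 (nat_lit 29696) = true := allR_join (mid := nat_lit 29952) rfl st0_8_29696 st0_8_29952
theorem st0_9_30208 : allR (guard Pst0 (nat_lit 25920)) 9 (nat_lit 30208) = true := allR_join (mid := nat_lit 30464) rfl st0_8_30208 st0_8_30464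
theorem st0_9_30720 : allR (guard Pst0 (nat_lit 25920)) 9 (nat_lit 30720) = true := allR_join (mid := nat_lit 30976) rfl st0_8_30720 st0_8_30976
theorem st0_9_31232 : allR (guard Pst0 (nat_lit 25920)) 9 (nat_lit 31232) = true := allR_join (mid := nat_lit 31488) rfl st0_8_31232 st0_8_31488
theorem st0_9_31744 : allR (guard Pst0 (nat_lit 25920)) 9 (nat_lit 31744) = true := allR_join (mid := nat_lit 32000) rfl st0_8_31744 st0_8_32000
theorem st0_9_32256 : allR (guard Pst0 (nat_lit 25920)) 9 (nat_lit 32256) = true := allR_join (mid := nat_lit 32512) rfl st0_8_32256 st0_8_32512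
theorem st0_10_0 : allR (guard Pst0 (nat_lit 25920)) 10 (nat_lit 0) = true := allR_join (mid := nat_lit 512) rfl st0_9_0 st0_9_512
theorem st0_10_1024 : allR (guard Pst0 (nat_lit 25920)) 10 (nat_lit 1024) = true := allR_join (mid := nat_lit 1536) rfl st0_9_1024 st0_9_1536
theorem st0_10_2048 : allR (guard Pst0 (nat_lit 25920)) 10 (nat_lit 2048) = true := allR_join (mid := nat_lit 2560) rfl st0_9_2048 st0_9_2560
theorem st0_10_3072 : allR (guard Pst0 (nat_lit 25920)) 10 (nat_lit 3072) = true := allR_join (mid := nat_lit 3584) rfl st0_9_3072 st0_9_3584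
theorem st0_10_4096 : allR (guard Pst0 (nat_lit 25920)) 10 (nat_lit 4096) = true := allR_join (mid := nat_lit 4608) rfl st0_9_4096 st0_9_4608
theorem st0_10_5120 : allR (guard Pst0 (nat_lit 25920)) 10 (nat_lit 5120) = true := allR_join (mid := nat_lit 5632) rfl st0_9_5120 st0_9_5632
theorem st0_10_6144 : allR (guard Pst0 (nat_lit 25920)) 10 (nat_lit 6144) = true := allR_join (mid := nat_lit 6656) rfl st0_9_6144 st0_9_6656
theorem st0_10_7168 : allR (guard Pst0 (nat_lit 25920)) 10 (nat_lit 7168) = true := allR_join (mid := nat_lit 7680) rfl st0_9_7168 st0_9_7680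
theorem st0_10_8192 : allR (guard Pst0 (nat_lit 25920)) 10 (nat_lit 8192) = true := allR_join (mid := nat_lit 8704) rfl st0_9_8192 st0_9_8704
theorem st0_10_9216 : allR (guard Pst0 (nat_lit 25920)) 10 (nat_lit 9216) = true := allR_join (mid := nat_lit 9728) rfl st0_9_9216 st0_9_9728
theorem st0_10_10240 : allR (guard Pst0 (nat_lit 25920)) 10 (nat_lit 10240) = true := allR_join (mid := nat_lit 10752) rfl st0_9_10240 st0_9_10752
theorem st0_10_11264 : allR (guard Pst0 (nat_lit 25920)) 10 (nat_lit 11264) = true := allR_join (mid := nat_lit 11776) rfl st0_9_11264 st0_9_11776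
theorem st0_10_12288 : allR (guard Pst0 (nat_lit 25920)) 10 (nat_lit 12288) = true := allR_join (mid := nat_lit 12800) rfl st0_9_12288 st0_9_12800
theorem st0_10_13312 : allR (guard Pst0 (nat_lit 25920)) 10 (nat_lit 13312) = true := allR_join (mid := nat_lit 13824) rfl st0_9_13312 st0_9_13824
theorem st0_10_14336 : allR (guard Pst0 (nat_lit 25920)) 10 (nat_lit 14336) = true := allR_join (mid := nat_lit 14848) rfl st0_9_14336 st0_9_14848
theorem st0_10_15360 : allR (guard Pst0 (nat_lit 25920)) 10 (nat_lit 15360) = true := allR_join (mid := nat_lit 15872) rfl st0_9_15360 st0_9_15872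
theorem st0_10_16384 : allR (guard Pst0 (nat_lit 25920)) 10 (nat_lit 16384) = true := allR_join (mid := nat_lit 16896) rfl st0_9_16384 st0_9_16896
theorem st0_10_17408 : allR (guard Pst0 (nat_lit 25920)) 10 (nat_lit 17408) = true := allR_join (mid := nat_lit 17920) rfl st0_9_17408 st0_9_17920
theorem st0_10_18432 : allR (guard Pst0 (nat_lit 25920)) 10 (nat_lit 18432) = true := allR_join (mid := nat_lit 18944) rfl st0_9_18432 st0_9_18944
theorem st0_10_19456 : allR (guard Pst0 (nat_lit 25920)) 10 (nat_lit 19456) = true := allR_join (mid := nat_lit 19968) rfl st0_9_19456 st0_9_19968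
theorem st0_10_20480 : allR (guard Pst0 (nat_lit 25920)) 10 (nat_lit 20480) = true := allR_join (mid := nat_lit 20992) rfl st0_9_20480 st0_9_20992
theorem st0_10_21504 : allR (guard Pst0 (nat_lit 25920)) 10 (nat_lit 21504) = true := allR_join (mid := nat_lit 22016) rfl st0_9_21504 st0_9_22016
theorem st0_10_22528 : allR (guard Pst0 (nat_lit 25920)) 10 (nat_lit 22528) = true := allR_join (mid := nat_lit 23040) rfl st0_9_22528 st0_9_23040
theorem st0_10_23552 : allR (guard Pst0 (nat_lit 25920)) 10 (nat_lit 23552) = true := allR_join (mid := nat_lit 24064) rfl st0_9_23552 st0_9_24064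
theorem st0_10_24576 : allR (guard Pst0 (nat_lit 25920)) 10 (nat_lit 24576) = true := allR_join (mid := nat_lit 25088) rfl st0_9_24576 st0_9_25088
theorem st0_10_25600 : allR (guard Pst0 (nat_lit 25920)) 10 (nat_lit 25600) = true := allR_join (mid := nat_lit 26112) rfl st0_9_25600 st0_9_26112
theorem st0_10_26624 : allR (guard Pst0 (nat_lit 25920)) 10 (nat_lit 26624) = true := allR_join (mid := nat_lit 27136) rfl st0_9_26624 st0_9_27136
theorem st0_10_27648 : allR (guard Pst0 (nat_lit 25920)) 10 (nat_lit 27648) = true := allR_join (mid := nat_lit 28160) rfl st0_9_27648 st0_9_28160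
theorem st0_10_28672 : allR (guard Pst0 (nat_lit 25920)) 10 (nat_lit 28672) = true := allR_join (mid := nat_lit 29184) rfl st0_9_28672 st0_9_29184
theorem st0_10_29696 : allR (guard Pst0 (nat_lit 25920)) 10 (nat_lit 29696) = true := allR_join (mid := nat_lit 30208) rfl st0_9_29696 st0_9_30208
theorem st0_10_30720 : allR (guard Pst0 (nat_lit 25920)) 10 (nat_lit 30720) = true := allR_join (mid := nat_lit 31232) rfl st0_9_30720 st0_9_31232
theorem st0_10_31744 : allR (guard Pst0 (nat_lit 25920)) 10 (nat_lit 31744) = true := allR_join (mid := nat_lit 32256) rfl st0_9_31744 st0_9_32256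
theorem st0_11_0 : allR (guard Pst0 (nat_lit 25920)) 11 (nat_lit 0) = true := allR_join (mid := nat_lit 1024) rfl st0_10_0 st0_10_1024
theorem st0_11_2048 : allR (guard Pst0 (nat_lit 25920)) 11 (nat_lit 2048) = true := allR_join (mid := nat_lit 3072) rfl st0_10_2048 st0_10_3072
theorem st0_11_4096 : allR (guard Pst0 (nat_lit 25920)) 11 (nat_lit 4096) = true := allR_join (mid := nat_lit 5120) rfl st0_10_4096 st0_10_5120
theorem st0_11_6144 : allR (guard Pst0 (nat_lit 25920)) 11 (nat_lit 6144) = true := allR_join (mid := nat_lit 7168) rfl st0_10_6144 st0_10_7168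
theorem st0_11_8192 : allR (guard Pst0 (nat_lit 25920)) 11 (nat_lit 8192) = true := allR_join (mid := nat_lit 9216) rfl st0_10_8192 st0_10_9216
theorem st0_11_10240 : allR (guard Pst0 (nat_lit 25920)) 11 (nat_lit 10240) = true := allR_join (mid := nat_lit 11264) rfl st0_10_10240 st0_10_11264
theorem st0_11_12288 : allR (guard Pst0 (nat_lit 25920)) 11 (nat_lit 12288) = true := allR_join (mid := nat_lit 13312) rfl st0_10_12288 st0_10_13312
theorem st0_11_14336 : allR (guard Pst0 (nat_lit 25920)) 11 (nat_lit 14336) = true := allR_join (mid := nat_lit 15360) rfl st0_10_14336 st0_10_15360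
theorem st0_11_16384 : allR (guard Pst0 (nat_lit 25920)) 11 (nat_lit 16384) = true := allR_join (mid := nat_lit 17408) rfl st0_10_16384 st0_10_17408
theorem st0_11_18432 : allR (guard Pst0 (nat_lit 25920)) 11 (nat_lit 18432) = true := allR_join (mid := nat_lit 19456) rfl st0_10_18432 st0_10_19456
theorem st0_11_20480 : allR (guard Pst0 (nat_lit 25920)) 11 (nat_lit 20480) = true := allR_join (mid := nat_lit 21504) rfl st0_10_20480 st0_10_21504
theorem st0_11_22528 : allR (guard Pst0 (nat_lit 25920)) 11 (nat_lit 22528) = true := allR_join (mid := nat_lit 23552) rfl st0_10_22528 st0_10_23552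
theorem st0_11_24576 : allR (guard Pst0 (nat_lit 25920)) 11 (nat_lit 24576) = true := allR_join (mid := nat_lit 25600) rfl st0_10_24576 st0_10_25600
theorem st0_11_26624 : allR (guard Pst0 (nat_lit 25920)) 11 (nat_lit 26624) = true := allR_join (mid := nat_lit 27648) rfl st0_10_26624 st0_10_27648
theorem st0_11_28672 : allR (guard Pst0 (nat_lit 25920)) 11 (nat_lit 28672) = true := allR_join (mid := nat_lit 29696) rfl st0_10_28672 st0_10_29696
theorem st0_11_30720 : allR (guard Pst0 (nat_lit 25920)) 11 (nat_lit 30720) = true := allR_join (mid := nat_lit 31744) rfl st0_10_30720 st0_10_31744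
theorem st0_12_0 : allR (guard Pst0 (nat_lit 25920)) 12 (nat_lit 0) = true := allR_join (mid := nat_lit 2048) rfl st0_11_0 st0_11_2048
theorem st0_12_4096 : allR (guard Pst0 (nat_lit 25920)) 12 (nat_lit 4096) = true := allR_join (mid := nat_lit 6144) rfl st0_11_4096 st0_11_6144
theorem st0_12_8192 : allR (guard Pst0 (nat_lit 25920)) 12 (nat_lit 8192) = true := allR_join (mid := nat_lit 10240) rfl st0_11_8192 st0_11_10240
theorem st0_12_12288 : allR (guard Pst0 (nat_lit 25920)) 12 (nat_lit 12288) = true := allR_join (mid := nat_lit 14336) rfl st0_11_12288 st0_11_14336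
theorem st0_12_16384 : allR (guard Pst0 (nat_lit 25920)) 12 (nat_lit 16384) = true := allR_join (mid := nat_lit 18432) rfl st0_11_16384 st0_11_18432
theorem st0_12_20480 : allR (guard Pst0 (nat_lit 25920)) 12 (nat_lit 20480) = true := allR_join (mid := nat_lit 22528) rfl st0_11_20480 st0_11_22528
theorem st0_12_24576 : allR (guard Pst0 (nat_lit 25920)) 12 (nat_lit 24576) = true := allR_join (mid := nat_lit 26624) rfl st0_11_24576 st0_11_26624
theorem st0_12_28672 : allR (guard Pst0 (nat_lit 25920)) 12 (nat_lit 28672) = true := allR_join (mid := nat_lit 30720) rfl st0_11_28672 st0_11_30720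
theorem st0_13_0 : allR (guard Pst0 (nat_lit 25920)) 13 (nat_lit 0) = true := allR_join (mid := nat_lit 4096) rfl st0_12_0 st0_12_4096
theorem st0_13_8192 : allR (guard Pst0 (nat_lit 25920)) 13 (nat_lit 8192) = true := allR_join (mid := nat_lit 12288) rfl st0_12_8192 st0_12_12288
theorem st0_13_16384 : allR (guard Pst0 (nat_lit 25920)) 13 (nat_lit 16384) = true := allR_join (mid := nat_lit 20480) rfl st0_12_16384 st0_12_20480
theorem st0_13_24576 : allR (guard Pst0 (nat_lit 25920)) 13 (nat_lit 24576) = true := allR_join (mid := nat_lit 28672) rfl st0_12_24576 st0_12_28672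
theorem st0_14_0 : allR (guard Pst0 (nat_lit 25920)) 14 (nat_lit 0) = true := allR_join (mid := nat_lit 8192) rfl st0_13_0 st0_13_8192
theorem st0_14_16384 : allR (guard Pst0 (nat_lit 25920)) 14 (nat_lit 16384) = true := allR_join (mid := nat_lit 24576) rfl st0_13_16384 st0_13_24576
theorem st0_15_0 : allR (guard Pst0 (nat_lit 25920)) 15 (nat_lit 0) = true := allR_join (mid := nat_lit 16384) rfl st0_14_0 st0_14_16384
theorem st0_all : ∀ i, i < (nat_lit 25920) → Pst0 i = true := of_guard (k := 15) (by norm_num) st0_15_0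

end Cfsg.Agent.Lib.O8PSt0
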