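import Cfsg.Agent.Lib.O8PTab

set_option autoImplicit false
set_option maxRecDepth 100000
set_option Elab.async false

namespace Cfsg.Agent.Lib.O8PSt1

open Cfsg.Agent.Lib.ChainCert Cfsg.Agent.Lib.ProgBits Cfsg.Agent.Lib.ProgChain Cfsg.Agent.Lib.PermChain Cfsg.Agent.Lib.TcBits
open Cfsg.Agent.Lib.O8PTab

theorem st1_9_0 : allR (guard Pst1 (nat_lit 6480)) 9 (nat_lit 0) = true := by decide +kernel
theorem st1_9_512 : allR (guard Pst1 (nat_lit 6480)) 9 (nat_lit 512) = true := by decide +kernel
theorem st1_9_1024 : allR (guard Pst1 (nat_lit 6480)) 9 (nat_lit 1024) = true := by decide +kernel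
theorem st1_9_1536 : allR (guard Pst1 (nat_lit 6480)) 9 (nat_lit 1536) = true := by decide +kernel
theorem st1_9_2048 : allR (guard Pst1 (nat_lit 6480)) 9 (nat_lit 2048) = true := by decide +kernel
theorem st1_9_2560 : allR (guard Pst1 (nat_lit 6480)) 9 (nat_lit 2560) = true := by decide +kernel
theorem st1_9_3072 : allR (guard Pst1 (nat_lit 6480)) 9 (nat_lit 3072) = true := by decide +kernel
theorem st1_9_3584 : allR (guard Pst1 (nat_lit 6480)) 9 (nat_lit 3584) = true := by decide +kernel
theorem st1_9_4096 : allR (guard Pst1 (nat_lit 6480)) 9 (nat_lit 4096) = true := by decide +kernel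
theorem st1_9_4608 : allR (guard Pst1 (nat_lit 6480)) 9 (nat_lit 4608) = true := by decide +kernel
theorem st1_9_5120 : allR (guard Pst1 (nat_lit 6480)) 9 (nat_lit 5120) = true := by decide +kernel
theorem st1_9_5632 : allR (guard Pst1 (nat_lit 6480)) 9 (nat_lit 5632) = true := by decide +kernel
theorem st1_9_6144 : allR (guard Pst1 (nat_lit 6480)) 9 (nat_lit 6144) = true := by decide +kernel
theorem st1_9_6656 : allR (guard Pst1 (nat_lit 6480)) 9 (nat_lit 6656) = true := by decide +kernel
theorem st1_9_7168 : allR (guard Pst1 (nat_lit 6480)) 9 (nat_lit 7168) = true := by decide +kernel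
theorem st1_9_7680 : allR (guard Pst1 (nat_lit 6480)) 9 (nat_lit 7680) = true := by decide +kernel
theorem st1_10_0 : allR (guard Pst1 (nat_lit 6480)) 10 (nat_lit 0) = true := allR_join (mid := nat_lit 512) rfl st1_9_0 st1_9_512
theorem st1_10_1024 : allR (guard Pst1 (nat_lit 6480)) 10 (nat_lit 1024) = true := allR_join (mid := nat_lit 1536) rfl st1_9_1024 st1_9_1536
theorem st1_10_2048 : allR (guard Pst1 (nat_lit 6480)) 10 (nat_lit 2048) = true := allR_join (mid := nat_lit 2560) rfl st1_9_2048 st1_9_2560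
theorem st1_10_3072 : allR (guard Pst1 (nat_lit 6480)) 10 (nat_lit 3072) = true := allR_join (mid := nat_lit 3584) rfl st1_9_3072 st1_9_3584
theorem st1_10_4096 : allR (guard Pst1 (nat_lit 6480)) 10 (nat_lit 4096) = true := allR_join (mid := nat_lit 4608) rfl st1_9_4096 st1_9_4608
theorem st1_10_5120 : allR (guard Pst1 (nat_lit 6480)) 10 (nat_lit 5120) = true := allR_join (mid := nat_lit 5632) rfl st1_9_5120 st1_9_5632
theorem st1_10_6144 : allR (guard Pst1 (nat_lit 6480)) 10 (nat_lit 6144) = true := allR_join (mid := nat_lit 6656) rfl st1_9_6144 st1_9_6656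
theorem st1_10_7168 : allR (guard Pst1 (nat_lit 6480)) 10 (nat_lit 7168) = true := allR_join (mid := nat_lit 7680) rfl st1_9_7168 st1_9_7680
theorem st1_11_0 : allR (guard Pst1 (nat_lit 6480)) 11 (nat_lit 0) = true := allR_join (mid := nat_lit 1024) rfl st1_10_0 st1_10_1024
theorem st1_11_2048 : allR (guard Pst1 (nat_lit 6480)) 11 (nat_lit 2048) = true := allR_join (mid := nat_lit 3072) rfl st1_10_2048 st1_10_3072
theorem st1_11_4096 : allR (guard Pst1 (nat_lit 6480)) 11 (nat_lit 4096) = true := allR_join (mid := nat_lit 5120) rfl st1_10_4096 st1_10_5120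
theorem st1_11_6144 : allR (guard Pst1 (nat_lit 6480)) 11 (nat_lit 6144) = true := allR_join (mid := nat_lit 7168) rfl st1_10_6144 st1_10_7168
theorem st1_12_0 : allR (guard Pst1 (nat_lit 6480)) 12 (nat_lit 0) = true := allR_join (mid := nat_lit 2048) rfl st1_11_0 st1_11_2048
theorem st1_12_4096 : allR (guard Pst1 (nat_lit 6480)) 12 (nat_lit 4096) = true := allR_join (mid := nat_lit 6144) rfl st1_11_4096 st1_11_6144
theorem st1_13_0 : allR (guard Pst1 (nat_lit 6480)) 13 (nat_lit 0) = true := allR_join (mid := nat_lit 4096) rfl st1_12_0 st1_12_4096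
theorem st1_all : ∀ i, i < (nat_lit 6480) → Pst1 i = true := of_guard (k := 13) (by norm_num) st1_13_0

end Cfsg.Agent.Lib.O8PSt1
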