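import Cfsg.Agent.Lib.O8PChk
import Cfsg.Agent.Lib.O8PSt0
import Cfsg.Agent.Lib.O8PSt1
import Cfsg.Agent.Lib.O8PSt2
import Cfsg.Agent.Lib.O8PSt3
import Cfsg.Agent.Lib.O8PSt4
import Cfsg.Agent.Lib.O8PSt5
import Cfsg.Agent.Lib.O8PSt6
import Cfsg.Agent.Lib.O8PSt7
import Cfsg.Agent.Lib.O8PSt8
import Cfsg.Agent.Lib.O8PSt9

set_option autoImplicit false
set_option maxRecDepth 100000
set_option linter.unusedSectionVars false

/-! Generated file: the chain and the order of the group. -/

namespace Cfsg.Agent.Lib.O8PMain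

open Cfsg.Agent.Lib.ChainCert Cfsg.Agent.Lib.ProgBits Cfsg.Agent.Lib.ProgChain Cfsg.Agent.Lib.PermChain Cfsg.Agent.Lib.TcBits
open Cfsg.Agent.Lib.O8PTab
open Cfsg.Agent.Lib.O8PChk Cfsg.Agent.Lib.O8PSt0 Cfsg.Agent.Lib.O8PSt1 Cfsg.Agent.Lib.O8PSt2 Cfsg.Agent.Lib.O8PSt3 Cfsg.Agent.Lib.O8PSt4 Cfsg.Agent.Lib.O8PSt5 Cfsg.Agent.Lib.O8PSt6 Cfsg.Agent.Lib.O8PSt7 Cfsg.Agent.Lib.O8PSt8 Cfsg.Agent.Lib.O8PSt9

theorem hN : nat_lit 4096 = 2 ^ 12 := by norm_num
theorem hM : M = 2 ^ 3240 - 1 := by decide +kernel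
theorem hR : R = repU 4096 12 := by decide +kernel
theorem hY : Y = yId 12 := by decide +kernel
theorem htot : ∀ e, 172 ≤ e → pr e = [] := by
  intro e he
  rw [pr, show Nat.ble ((nat_lit 172)) e = true from Nat.ble_eq_true_of_le he]
  rfl

/-- the context -/
theorem ctx : Ctx 3240 12 pr R Y :=
  ctx_mk' (N := (nat_lit 4096)) (M := M) (tot := 172) (by norm_num) hN hM hR hY let_all htot

/-- the letters -/
noncomputable abbrev g : ℕ → Equiv.Perm (Fin 3240) := lp pr 3240

theorem hOb9 : Om9.testBit 3 = true := by decide +kernel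
theorem hroot9 : tw9 3 = [] := by decide +kernel
theorem lev9 : (∀ e, 170 ≤ e → g e ∈ grp g 170 2) ∧
    Level (grp g 170 2) (grp g 172 0) ⟨3, by norm_num⟩
      (fun p => prodW g (tw9 p.val)) (orbF 3240 Om9) :=
  level_bundle ctx (lo := 170) (ns := 2) (hi := 172) (ns' := 0) (b := 3) (Om := Om9) (tw := tw9) (st := stE9) (der := derT) (wA := certA) (wB := certB) (by norm_num)
    der9_all cert9_all fix9_all img9_all hOb9 hroot9 st9_all (letters_bottom ctx htot)
theorem cOm9 : (orbF 3240 Om9).card = 2 := by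
  rw [card_orbF]; decide +kernel
theorem hOb8 : Om8.testBit 352 = true := by decide +kernel
theorem hroot8 : tw8 352 = [] := by decide +kernel
theorem lev8 : (∀ e, 168 ≤ e → g e ∈ grp g 168 2) ∧
    Level (grp g 168 2) (grp g 170 2) ⟨352, by norm_num⟩
      (fun p => prodW g (tw8 p.val)) (orbF 3240 Om8) :=
  level_bundle ctx (lo := 168) (ns := 2) (hi := 170) (ns' := 2) (b := 352) (Om := Om8) (tw := tw8) (st := stE8) (der := derT) (wA := certA) (wB := certB) (by norm_num)
    der8_all cert8_all fix8_all img8_all hOb8 hroot8 st8_all (lev9).1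
theorem cOm8 : (orbF 3240 Om8).card = 2 := by
  rw [card_orbF]; decide +kernel
theorem hOb7 : Om7.testBit 351 = true := by decide +kernel
theorem hroot7 : tw7 351 = [] := by decide +kernel
theorem lev7 : (∀ e, 166 ≤ e → g e ∈ grp g 166 2) ∧
    Level (grp g 166 2) (grp g 168 2) ⟨351, by norm_num⟩
      (fun p => prodW g (tw7 p.val)) (orbF 3240 Om7) :=
  level_bundle ctx (lo := 166) (ns := 2) (hi := 168) (ns' := 2) (b := 351) (Om := Om7) (tw := tw7) (st := stE7) (der := derT) (wA := certA) (wB := certB) (by norm_num)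
    der7_all cert7_all fix7_all img7_all hOb7 hroot7 st7_all (lev8).1
theorem cOm7 : (orbF 3240 Om7).card = 3 := by
  rw [card_orbF]; decide +kernel
theorem hOb6 : Om6.testBit 109 = true := by decide +kernel
theorem hroot6 : tw6 109 = [] := by decide +kernel
theorem lev6 : (∀ e, 164 ≤ e → g e ∈ grp g 164 2) ∧
    Level (grp g 164 2) (grp g 166 2) ⟨109, by norm_num⟩
      (fun p => prodW g (tw6 p.val)) (orbF 3240 Om6) :=
  level_bundle ctx (lo := 164) (ns := 2) (hi := 166) (ns' := 2) (b := 109) (Om := Om6) (tw := tw6) (st := stE6) (der := derT) (wA := certA) (wB := certB) (by norm_num)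
    der6_all cert6_all fix6_all img6_all hOb6 hroot6 st6_all (lev7).1
theorem cOm6 : (orbF 3240 Om6).card = 2 := by
  rw [card_orbF]; decide +kernel
theorem hOb5 : Om5.testBit 108 = true := by decide +kernel
theorem hroot5 : tw5 108 = [] := by decide +kernel
theorem lev5 : (∀ e, 157 ≤ e → g e ∈ grp g 157 2) ∧
    Level (grp g 157 2) (grp g 164 2) ⟨108, by norm_num⟩
      (fun p => prodW g (tw5 p.val)) (orbF 3240 Om5) :=
  level_bundle ctx (lo := 157) (ns := 2) (hi := 164) (ns' := 2) (b := 108) (Om := Om5) (tw := tw5) (st := stE5) (der := derT) (wA := certA) (wB := certB) (by norm_num)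
    der5_all cert5_all fix5_all img5_all hOb5 hroot5 st5_all (lev6).1
theorem cOm5 : (orbF 3240 Om5).card = 12 := by
  rw [card_orbF]; decide +kernel
theorem hOb4 : Om4.testBit 1 = true := by decide +kernel
theorem hroot4 : tw4 1 = [] := by decide +kernel
theorem lev4 : (∀ e, 151 ≤ e → g e ∈ grp g 151 3) ∧
    Level (grp g 151 3) (grp g 157 2) ⟨1, by norm_num⟩
      (fun p => prodW g (tw4 p.val)) (orbF 3240 Om4) :=
  level_bundle ctx (lo := 151) (ns := 3) (hi := 157) (ns' := 2) (b := 1) (Om := Om4) (tw := tw4) (st := stE4) (der := derT) (wA := certA) (wB := certB) (by norm_num)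
    der4_all cert4_all fix4_all img4_all hOb4 hroot4 st4_all (lev5).1
theorem cOm4 : (orbF 3240 Om4).card = 8 := by
  rw [card_orbF]; decide +kernel
theorem hOb3 : Om3.testBit 99 = true := by decide +kernel
theorem hroot3 : tw3 99 = [] := by decide +kernel
theorem lev3 : (∀ e, 137 ≤ e → g e ∈ grp g 137 2) ∧
    Level (grp g 137 2) (grp g 151 3) ⟨99, by norm_num⟩
      (fun p => prodW g (tw3 p.val)) (orbF 3240 Om3) :=
  level_bundle ctx (lo := 137) (ns := 2) (hi := 151) (ns' := 3) (b := 99) (Om := Om3) (tw := tw3) (st := stE3) (der := derT) (wA := certA) (wB := certB) (by norm_num)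
    der3_all cert3_all fix3_all img3_all hOb3 hroot3 st3_all (lev4).1
theorem cOm3 : (orbF 3240 Om3).card = 45 := by
  rw [card_orbF]; decide +kernel
theorem hOb2 : Om2.testBit 64 = true := by decide +kernel
theorem hroot2 : tw2 64 = [] := by decide +kernel
theorem lev2 : (∀ e, 113 ≤ e → g e ∈ grp g 113 2) ∧
    Level (grp g 113 2) (grp g 137 2) ⟨64, by norm_num⟩
      (fun p => prodW g (tw2 p.val)) (orbF 3240 Om2) :=
  level_bundle ctx (lo := 113) (ns := 2) (hi := 137) (ns' := 2) (b := 64) (Om := Om2) (tw := tw2) (st := stE2) (der := derT) (wA := certA) (wB := certB) (by norm_num)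
    der2_all cert2_all fix2_all img2_all hOb2 hroot2 st2_all (lev3).1
theorem cOm2 : (orbF 3240 Om2).card = 126 := by
  rw [card_orbF]; decide +kernel
theorem hOb1 : Om1.testBit 27 = true := by decide +kernel
theorem hroot1 : tw1 27 = [] := by decide +kernel
theorem lev1 : (∀ e, 72 ≤ e → g e ∈ grp g 72 2) ∧
    Level (grp g 72 2) (grp g 113 2) ⟨27, by norm_num⟩
      (fun p => prodW g (tw1 p.val)) (orbF 3240 Om1) :=
  level_bundle ctx (lo := 72) (ns := 2) (hi := 113) (ns' := 2) (b := 27) (Om := Om1) (tw := tw1) (st := stE1) (der := derT) (wA := certA) (wB := certB) (by norm_num)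
    der1_all cert1_all fix1_all img1_all hOb1 hroot1 st1_all (lev2).1
theorem cOm1 : (orbF 3240 Om1).card = 351 := by
  rw [card_orbF]; decide +kernel
theorem hOb0 : Om0.testBit 0 = true := by decide +kernel
theorem hroot0 : tw0 0 = [] := by decide +kernel
theorem lev0 : (∀ e, 0 ≤ e → g e ∈ grp g 0 8) ∧
    Level (grp g 0 8) (grp g 72 2) ⟨0, by norm_num⟩
      (fun p => prodW g (tw0 p.val)) (orbF 3240 Om0) :=
  level_bundle ctx (lo := 0) (ns := 8) (hi := 72) (ns' := 2) (b := 0) (Om := Om0) (tw := tw0) (st := stE0) (der := derT) (wA := certA) (wB := certB) (by norm_num)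
    der0_all cert0_all fix0_all img0_all hOb0 hroot0 st0_all (lev1).1
theorem cOm0 : (orbF 3240 Om0).card = 1080 := by
  rw [card_orbF]; decide +kernel
theorem cardH10 : Nat.card (grp g 172 0) = 1 := by
  rw [grp_zero]; simp
theorem cardH9 : Nat.card (grp g 170 2) = 2 := by
  rw [(lev9).2.card, cOm9, cardH10]
theorem cardH8 : Nat.card (grp g 168 2) = 4 := by
  rw [(lev8).2.card, cOm8, cardH9]
theorem cardH7 : Nat.card (grp g 166 2) = 12 := by
  rw [(lev7).2.card, cOm7, cardH8]
theorem cardH6 : Nat.card (grp g 164 2) = 24 := by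
  rw [(lev6).2.card, cOm6, cardH7]
theorem cardH5 : Nat.card (grp g 157 2) = 288 := by
  rw [(lev5).2.card, cOm5, cardH6]
theorem cardH4 : Nat.card (grp g 151 3) = 2304 := by
  rw [(lev4).2.card, cOm4, cardH5]
theorem cardH3 : Nat.card (grp g 137 2) = 103680 := by
  rw [(lev3).2.card, cOm3, cardH4]
theorem cardH2 : Nat.card (grp g 113 2) = 13063680 := by
  rw [(lev2).2.card, cOm2, cardH3]
theorem cardH1 : Nat.card (grp g 72 2) = 4585351680 := by
  rw [(lev1).2.card, cOm1, cardH2]
theorem cardH0 : Nat.card (grp g 0 8) = 4952179814400 := by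
  rw [(lev0).2.card, cOm0, cardH1]

end Cfsg.Agent.Lib.O8PMain
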