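import Mathlib

set_option autoImplicit false

namespace Cfsg.Agent.Lib.OM11CProg0

/-- program of a letter -/
def P0 (_ : ℕ) : List (ℕ × ℕ) := [(nat_lit 0xc3, (nat_lit 8)), (nat_lit 0x803, (nat_lit 4)), (nat_lit 0x100, (nat_lit 2)), (nat_lit 0x115, (nat_lit 1)), (nat_lit 0x200, (nat_lit 2)), (nat_lit 0xc00, (nat_lit 4)), (nat_lit 0xc4, (nat_lit 8))]
/-- program of a letter -/
def P1 (_ : ℕ) : List (ℕ × ℕ) := [(nat_lit 0x3b, (nat_lit 8)), (nat_lit 0x304, (nat_lit 4)), (nat_lit 0x102, (nat_lit 2)), (nat_lit 0x544, (nat_lit 1)), (nat_lit 0x2, (nat_lit 2)), (nat_lit 0x4, (nat_lit 4)), (nat_lit 0x3c, (nat_lit 8))]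
/-- program of a letter -/
def P2 (_ : ℕ) : List (ℕ × ℕ) := [(nat_lit 0xfb, (nat_lit 8)), (nat_lit 0x300, (nat_lit 4)), (nat_lit 0x3200, (nat_lit 2)), (nat_lit 0x1400, (nat_lit 1)), (nat_lit 0x2200, (nat_lit 2)), (nat_lit 0xc00, (nat_lit 4)), (nat_lit 0xfc, (nat_lit 8))]
/-- program of a letter -/
def P3 (_ : ℕ) : List (ℕ × ℕ) := [(nat_lit 0x9d, (nat_lit 8)), (nat_lit 0xc02, (nat_lit 4)), (nat_lit 0x1221, (nat_lit 2)), (nat_lit 0x4041, (nat_lit 1)), (nat_lit 0x20, (nat_lit 2)), (nat_lit 0x400, (nat_lit 4)), (nat_lit 0x98, (nat_lit 8))]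
/-- program of a letter -/
def P4 (_ : ℕ) : List (ℕ × ℕ) := [(nat_lit 0x98, (nat_lit 8)), (nat_lit 0x104, (nat_lit 4)), (nat_lit 0x2323, (nat_lit 2)), (nat_lit 0x1444, (nat_lit 1)), (nat_lit 0x2222, (nat_lit 2)), (nat_lit 0x802, (nat_lit 4)), (nat_lit 0x98, (nat_lit 8))]
/-- program of a letter -/
def P5 (_ : ℕ) : List (ℕ × ℕ) := [(nat_lit 0xe, (nat_lit 8)), (nat_lit 0xc, (nat_lit 4)), (nat_lit 0x322, (nat_lit 2)), (nat_lit 0x40, (nat_lit 1)), (nat_lit 0x20, (nat_lit 2)), (nat_lit 0xc, (nat_lit 4)), (nat_lit 0x8, (nat_lit 8))]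
/-- program of a letter -/
def P6 (_ : ℕ) : List (ℕ × ℕ) := [(nat_lit 0xe, (nat_lit 8)), (nat_lit 0xc, (nat_lit 4)), (nat_lit 0x322, (nat_lit 2)), (nat_lit 0x40, (nat_lit 1)), (nat_lit 0x20, (nat_lit 2)), (nat_lit 0xc, (nat_lit 4)), (nat_lit 0x8, (nat_lit 8))]
/-- program of a letter -/
def P7 (_ : ℕ) : List (ℕ × ℕ) := [(nat_lit 0x74, (nat_lit 8)), (nat_lit 0x50c, (nat_lit 4)), (nat_lit 0x1002, (nat_lit 2)), (nat_lit 0x140, (nat_lit 1)), (nat_lit 0x20c, (nat_lit 4)), (nat_lit 0x76, (nat_lit 8))]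
/-- program of a letter -/
def P8 (_ : ℕ) : List (ℕ × ℕ) := [(nat_lit 0xd4, (nat_lit 8)), (nat_lit 0x90e, (nat_lit 4)), (nat_lit 0x1120, (nat_lit 2)), (nat_lit 0x440, (nat_lit 1)), (nat_lit 0x200, (nat_lit 2)), (nat_lit 0x80c, (nat_lit 4)), (nat_lit 0xd2, (nat_lit 8))]
/-- program of a letter -/
def P9 (_ : ℕ) : List (ℕ × ℕ) := [(nat_lit 0x70, (nat_lit 8)), (nat_lit 0x700, (nat_lit 4)), (nat_lit 0x2302, (nat_lit 2)), (nat_lit 0x4404, (nat_lit 1)), (nat_lit 0x2202, (nat_lit 2)), (nat_lit 0x74, (nat_lit 8))]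
/-- program of a letter -/
def P10 (_ : ℕ) : List (ℕ × ℕ) := [(nat_lit 0xbe, (nat_lit 8)), (nat_lit 0xd00, (nat_lit 4)), (nat_lit 0x202, (nat_lit 2)), (nat_lit 0x5004, (nat_lit 1)), (nat_lit 0x2, (nat_lit 2)), (nat_lit 0x400, (nat_lit 4)), (nat_lit 0xb8, (nat_lit 8))]
/-- program of a letter -/
def P11 (_ : ℕ) : List (ℕ × ℕ) := [(nat_lit 0x70, (nat_lit 8)), (nat_lit 0x700, (nat_lit 4)), (nat_lit 0x2302, (nat_lit 2)), (nat_lit 0x4404, (nat_lit 1)), (nat_lit 0x2202, (nat_lit 2)), (nat_lit 0x74, (nat_lit 8))]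
/-- program of a letter -/
def P12 (_ : ℕ) : List (ℕ × ℕ) := [(nat_lit 0xbe, (nat_lit 8)), (nat_lit 0xd00, (nat_lit 4)), (nat_lit 0x202, (nat_lit 2)), (nat_lit 0x5004, (nat_lit 1)), (nat_lit 0x2, (nat_lit 2)), (nat_lit 0x400, (nat_lit 4)), (nat_lit 0xb8, (nat_lit 8))]
/-- program of a letter -/
def P13 (_ : ℕ) : List (ℕ × ℕ) := [(nat_lit 0x2a, (nat_lit 8)), (nat_lit 0x208, (nat_lit 4)), (nat_lit 0x100, (nat_lit 2)), (nat_lit 0x404, (nat_lit 1)), (nat_lit 0x202, (nat_lit 2)), (nat_lit 0x20c, (nat_lit 4)), (nat_lit 0x2a, (nat_lit 8))]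
/-- program of a letter -/
def P14 (_ : ℕ) : List (ℕ × ℕ) := [(nat_lit 0xf4, (nat_lit 8)), (nat_lit 0x600, (nat_lit 4)), (nat_lit 0x3200, (nat_lit 2)), (nat_lit 0x404, (nat_lit 1)), (nat_lit 0x200, (nat_lit 2)), (nat_lit 0x400, (nat_lit 4)), (nat_lit 0xf0, (nat_lit 8))]
/-- program of a letter -/
def P15 (_ : ℕ) : List (ℕ × ℕ) := [(nat_lit 0x68, (nat_lit 8)), (nat_lit 0x608, (nat_lit 4)), (nat_lit 0x2300, (nat_lit 2)), (nat_lit 0x4504, (nat_lit 1)), (nat_lit 0x2000, (nat_lit 2)), (nat_lit 0x8, (nat_lit 4)), (nat_lit 0x68, (nat_lit 8))]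
/-- program of a letter -/
def P16 (_ : ℕ) : List (ℕ × ℕ) := [(nat_lit 0x24, (nat_lit 8)), (nat_lit 0x20c, (nat_lit 4)), (nat_lit 0x20, (nat_lit 2)), (nat_lit 0x14, (nat_lit 1)), (nat_lit 0x20, (nat_lit 2)), (nat_lit 0xc, (nat_lit 4)), (nat_lit 0x20, (nat_lit 8))]
/-- program of a letter -/
def P17 (_ : ℕ) : List (ℕ × ℕ) := [(nat_lit 0xa6, (nat_lit 8)), (nat_lit 0xa0e, (nat_lit 4)), (nat_lit 0x130, (nat_lit 2)), (nat_lit 0x410, (nat_lit 1)), (nat_lit 0x200, (nat_lit 2)), (nat_lit 0xa0e, (nat_lit 4)), (nat_lit 0xa6, (nat_lit 8))]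
/-- program of a letter -/
def P18 (_ : ℕ) : List (ℕ × ℕ) := [(nat_lit 0xcc, (nat_lit 8)), (nat_lit 0x404, (nat_lit 4)), (nat_lit 0x310, (nat_lit 2)), (nat_lit 0x4410, (nat_lit 1)), (nat_lit 0x804, (nat_lit 4)), (nat_lit 0xcc, (nat_lit 8))]
/-- program of a letter -/
def P19 (_ : ℕ) : List (ℕ × ℕ) := [(nat_lit 0xf8, (nat_lit 8)), (nat_lit 0xf00, (nat_lit 4)), (nat_lit 0x300, (nat_lit 2)), (nat_lit 0x1400, (nat_lit 1)), (nat_lit 0xf8, (nat_lit 8))]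
/-- program of a letter -/
def P20 (_ : ℕ) : List (ℕ × ℕ) := [(nat_lit 0x8, (nat_lit 8)), (nat_lit 0x110, (nat_lit 2)), (nat_lit 0x510, (nat_lit 1)), (nat_lit 0x20, (nat_lit 2)), (nat_lit 0x8, (nat_lit 8))]
/-- program of a letter -/
def P21 (_ : ℕ) : List (ℕ × ℕ) := [(nat_lit 0x8, (nat_lit 8)), (nat_lit 0x330, (nat_lit 2)), (nat_lit 0x50, (nat_lit 1)), (nat_lit 0x8, (nat_lit 8))]
/-- program of a letter -/
def P22 (_ : ℕ) : List (ℕ × ℕ) := [(nat_lit 0xf8, (nat_lit 8)), (nat_lit 0xf00, (nat_lit 4)), (nat_lit 0x2300, (nat_lit 2)), (nat_lit 0x4100, (nat_lit 1)), (nat_lit 0x200, (nat_lit 2)), (nat_lit 0xf8, (nat_lit 8))]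
/-- program of a letter -/
def P23 (_ : ℕ) : List (ℕ × ℕ) := [(nat_lit 0xf8, (nat_lit 8)), (nat_lit 0xf00, (nat_lit 4)), (nat_lit 0x1000, (nat_lit 2)), (nat_lit 0x4400, (nat_lit 1)), (nat_lit 0x200, (nat_lit 2)), (nat_lit 0xf8, (nat_lit 8))]
/-- program of a letter -/
def P24 (_ : ℕ) : List (ℕ × ℕ) := [(nat_lit 0xf8, (nat_lit 8)), (nat_lit 0xf00, (nat_lit 4)), (nat_lit 0x1000, (nat_lit 2)), (nat_lit 0x4400, (nat_lit 1)), (nat_lit 0x200, (nat_lit 2)), (nat_lit 0xf8, (nat_lit 8))]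

end Cfsg.Agent.Lib.OM11CProg0
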