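import Cfsg.Agent.Lib.ProgChain
import Cfsg.Agent.Lib.OM11CProg0

set_option autoImplicit false

namespace Cfsg.Agent.Lib.OM11CTab

open Cfsg.Agent.Lib.ChainCert Cfsg.Agent.Lib.ProgBits Cfsg.Agent.Lib.ProgChain Cfsg.Agent.Lib.PermChain Cfsg.Agent.Lib.TcBits

def sel1_3 (c : ℕ) : List (ℕ × ℕ) := cond (Nat.ble c ((nat_lit 1))) (Cfsg.Agent.Lib.OM11CProg0.P1 c) (Cfsg.Agent.Lib.OM11CProg0.P2 c)
def sel0_3 (c : ℕ) : List (ℕ × ℕ) := cond (Nat.ble c ((nat_lit 0))) (Cfsg.Agent.Lib.OM11CProg0.P0 c) (sel1_3 c)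
def sel4_6 (c : ℕ) : List (ℕ × ℕ) := cond (Nat.ble c ((nat_lit 4))) (Cfsg.Agent.Lib.OM11CProg0.P4 c) (Cfsg.Agent.Lib.OM11CProg0.P5 c)
def sel3_6 (c : ℕ) : List (ℕ × ℕ) := cond (Nat.ble c ((nat_lit 3))) (Cfsg.Agent.Lib.OM11CProg0.P3 c) (sel4_6 c)
def sel0_6 (c : ℕ) : List (ℕ × ℕ) := cond (Nat.ble c ((nat_lit 2))) (sel0_3 c) (sel3_6 c)
def sel7_9 (c : ℕ) : List (ℕ × ℕ) := cond (Nat.ble c ((nat_lit 7))) (Cfsg.Agent.Lib.OM11CProg0.P7 c) (Cfsg.Agent.Lib.OM11CProg0.P8 c)
def sel6_9 (c : ℕ) : List (ℕ × ℕ) := cond (Nat.ble c ((nat_lit 6))) (Cfsg.Agent.Lib.OM11CProg0.P6 c) (sel7_9 c)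
def sel10_12 (c : ℕ) : List (ℕ × ℕ) := cond (Nat.ble c ((nat_lit 10))) (Cfsg.Agent.Lib.OM11CProg0.P10 c) (Cfsg.Agent.Lib.OM11CProg0.P11 c)
def sel9_12 (c : ℕ) : List (ℕ × ℕ) := cond (Nat.ble c ((nat_lit 9))) (Cfsg.Agent.Lib.OM11CProg0.P9 c) (sel10_12 c)
def sel6_12 (c : ℕ) : List (ℕ × ℕ) := cond (Nat.ble c ((nat_lit 8))) (sel6_9 c) (sel9_12 c)
def sel0_12 (c : ℕ) : List (ℕ × ℕ) := cond (Nat.ble c ((nat_lit 5))) (sel0_6 c) (sel6_12 c)
def sel13_15 (c : ℕ) : List (ℕ × ℕ) := cond (Nat.ble c ((nat_lit 13))) (Cfsg.Agent.Lib.OM11CProg0.P13 c) (Cfsg.Agent.Lib.OM11CProg0.P14 c)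
def sel12_15 (c : ℕ) : List (ℕ × ℕ) := cond (Nat.ble c ((nat_lit 12))) (Cfsg.Agent.Lib.OM11CProg0.P12 c) (sel13_15 c)
def sel16_18 (c : ℕ) : List (ℕ × ℕ) := cond (Nat.ble c ((nat_lit 16))) (Cfsg.Agent.Lib.OM11CProg0.P16 c) (Cfsg.Agent.Lib.OM11CProg0.P17 c)
def sel15_18 (c : ℕ) : List (ℕ × ℕ) := cond (Nat.ble c ((nat_lit 15))) (Cfsg.Agent.Lib.OM11CProg0.P15 c) (sel16_18 c)
def sel12_18 (c : ℕ) : List (ℕ × ℕ) := cond (Nat.ble c ((nat_lit 14))) (sel12_15 c) (sel15_18 c)
def sel19_21 (c : ℕ) : List (ℕ × ℕ) := cond (Nat.ble c ((nat_lit 19))) (Cfsg.Agent.Lib.OM11CProg0.P19 c) (Cfsg.Agent.Lib.OM11CProg0.P20 c)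
def sel18_21 (c : ℕ) : List (ℕ × ℕ) := cond (Nat.ble c ((nat_lit 18))) (Cfsg.Agent.Lib.OM11CProg0.P18 c) (sel19_21 c)
def sel21_23 (c : ℕ) : List (ℕ × ℕ) := cond (Nat.ble c ((nat_lit 21))) (Cfsg.Agent.Lib.OM11CProg0.P21 c) (Cfsg.Agent.Lib.OM11CProg0.P22 c)
def sel23_25 (c : ℕ) : List (ℕ × ℕ) := cond (Nat.ble c ((nat_lit 23))) (Cfsg.Agent.Lib.OM11CProg0.P23 c) (Cfsg.Agent.Lib.OM11CProg0.P24 c)
def sel21_25 (c : ℕ) : List (ℕ × ℕ) := cond (Nat.ble c ((nat_lit 22))) (sel21_23 c) (sel23_25 c)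
def sel18_25 (c : ℕ) : List (ℕ × ℕ) := cond (Nat.ble c ((nat_lit 20))) (sel18_21 c) (sel21_25 c)
def sel12_25 (c : ℕ) : List (ℕ × ℕ) := cond (Nat.ble c ((nat_lit 17))) (sel12_18 c) (sel18_25 c)
def sel0_25 (c : ℕ) : List (ℕ × ℕ) := cond (Nat.ble c ((nat_lit 11))) (sel0_12 c) (sel12_25 c)
/-- the programs -/
def pr (e : ℕ) : List (ℕ × ℕ) := cond (Nat.ble ((nat_lit 25)) e) [] (sel0_25 e)

/-- the repunit -/
def R : ℕ := nat_lit 0x1000100010001
/-- all the slices of the identity -/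
def Y : ℕ := nat_lit 0xff00f0f0ccccaaaa
/-- the mask of the points -/
def M : ℕ := nat_lit 0x7ff

def derT_0 (_ : ℕ) : ℕ := nat_lit 0x1601501301401401301401400000000000001100d00d01000e00e00d00d00000000000000700b008007007009008007000000000000002003000004000003002001000000000000000000
/-- table lookup -/
def derT (i : ℕ) : ℕ := Nat.land (Nat.shiftRight (derT_0 (Nat.shiftRight i (nat_lit 6))) (Nat.mul (nat_lit 24) (Nat.land i (nat_lit 63)))) (nat_lit 16777215)
def certA_0 (_ : ℕ) : ℕ := nat_lit 0xb00800a00000000b00d00b008008000000000000000000000000000000000000000000000000000000000000000000000000000000000000000006002002007006004005007005004006002002000000000000000000000000000000000000000000000000000000000000000000000000000000000000000000000000000000000000000000000000000000000000000000000000000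
def certA_1 (_ : ℕ) : ℕ := nat_lit 0xe01001201001201001000f013013013011010000000000000000000000000000000000000000000000000000000000000000
def certA_s0_2 (c : ℕ) : ℕ := cond (Nat.ble c (nat_lit 0)) (certA_0 c) (certA_1 c)
/-- table lookup -/
def certA (i : ℕ) : ℕ := Nat.land (Nat.shiftRight (certA_s0_2 (Nat.shiftRight i (nat_lit 4))) (Nat.mul (nat_lit 84) (Nat.land i (nat_lit 15)))) (nat_lit 19342813113834066795298815)
def certB_0 (_ : ℕ) : ℕ := nat_lit 0x8009000009000000000000000000000000000000001006000000000000000000000000000000000000000000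
def certB_1 (_ : ℕ) : ℕ := nat_lit 0xf000011000000000000000000
def certB_s0_2 (c : ℕ) : ℕ := cond (Nat.ble c (nat_lit 0)) (certB_0 c) (certB_1 c)
/-- table lookup -/
def certB (i : ℕ) : ℕ := Nat.land (Nat.shiftRight (certB_s0_2 (Nat.shiftRight i (nat_lit 4))) (Nat.mul (nat_lit 24) (Nat.land i (nat_lit 15)))) (nat_lit 16777215)
/-- the orbit -/
def Om0 : ℕ := nat_lit 0x7ff
def twE0_0 (_ : ℕ) : ℕ := nat_lit 0x1006000005002000000002001002006000000005000000001000002003001006001000002006000001002000000000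
/-- table lookup -/
def twE0 (i : ℕ) : ℕ := Nat.land (Nat.shiftRight (twE0_0 (Nat.shiftRight i (nat_lit 6))) (Nat.mul (nat_lit 36) (Nat.land i (nat_lit 63)))) (nat_lit 68719476735)
/-- transversal words -/
def tw0 (p : ℕ) : List ℕ := unpW (nat_lit 32) (twE0 p)
def stE0_0 (_ : ℕ) : ℕ := nat_lit 0x1501000700000000000000000000300000000000001801300a00001800f01000900900700000000000001400900500000000000000001300100001600e00f00a00b00201401800f01000800900a00000000000000000000900000000001500900900000000000000000000000100000000001500900900800000000000000001300000000001500f01000800900000000001500900900400000001401801300800200000000001400e00f00300000001500f01000800600000000001600800900600000000001401600f004000000000000000000008000000000000000000005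
/-- table lookup -/
def stE0 (i : ℕ) : ℕ := Nat.land (Nat.shiftRight (stE0_0 (Nat.shiftRight i (nat_lit 6))) (Nat.mul (nat_lit 84) (Nat.land i (nat_lit 63)))) (nat_lit 19342813113834066795298815)
/-- step check -/
def Pst0 : ℕ → Bool := ProgChain.stepChk R Y pr (nat_lit 11) (nat_lit 0) (nat_lit 2) (nat_lit 7) Om0 tw0 stE0
/-- images -/
def Pimg0 : ℕ → Bool := imgChk pr (nat_lit 0) Om0 tw0 (nat_lit 0)
/-- derived letters -/
def Pder0 (e : ℕ) : Bool := cond (Nat.ble ((nat_lit 2)) e) (derChk R Y pr (nat_lit 0) derT e) true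
/-- next generators -/
def Pcert0 (e : ℕ) : Bool := cond (Nat.ble ((nat_lit 7)) e) (certChk R Y pr (nat_lit 0) (nat_lit 7) certA certB e) true
/-- next generators fix the point -/
def Pfix0 (e : ℕ) : Bool := cond (Nat.ble ((nat_lit 7)) e) (ptChk pr [e] (nat_lit 0) (nat_lit 0)) true
/-- the orbit -/
def Om1 : ℕ := nat_lit 0x7fe
def twE1_0 (_ : ℕ) : ℕ := nat_lit 0xb00a00b00800b00b00900900900000800000900800900000a000000000000
/-- table lookup -/
def twE1 (i : ℕ) : ℕ := Nat.land (Nat.shiftRight (twE1_0 (Nat.shiftRight i (nat_lit 6))) (Nat.mul (nat_lit 24) (Nat.land i (nat_lit 63)))) (nat_lit 16777215)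
/-- transversal words -/
def tw1 (p : ℕ) : List ℕ := unpW (nat_lit 32) (twE1 p)
def stE1_0 (_ : ℕ) : ℕ := nat_lit 0x700000001500f00301401600f01100500000000001300701401600f01100200000001401800900001800e00f00900000000f01100100000000001400800000001801300800000000000000300000000000e00400000000000000600000000000000200001401601000a00000000000000a00000000000f001000000000018006000000000000004000000000000005000000000000000000000000000000
/-- table lookup -/
def stE1 (i : ℕ) : ℕ := Nat.land (Nat.shiftRight (stE1_0 (Nat.shiftRight i (nat_lit 6))) (Nat.mul (nat_lit 60) (Nat.land i (nat_lit 63)))) (nat_lit 1152921504606846975)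
/-- step check -/
def Pst1 : ℕ → Bool := ProgChain.stepChk R Y pr (nat_lit 11) (nat_lit 7) (nat_lit 2) (nat_lit 13) Om1 tw1 stE1
/-- images -/
def Pimg1 : ℕ → Bool := imgChk pr (nat_lit 7) Om1 tw1 (nat_lit 1)
/-- derived letters -/
def Pder1 (e : ℕ) : Bool := cond (Nat.ble ((nat_lit 9)) e) (derChk R Y pr (nat_lit 7) derT e) true
/-- next generators -/
def Pcert1 (e : ℕ) : Bool := cond (Nat.ble ((nat_lit 13)) e) (certChk R Y pr (nat_lit 7) (nat_lit 13) certA certB e) true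
/-- next generators fix the point -/
def Pfix1 (e : ℕ) : Bool := cond (Nat.ble ((nat_lit 13)) e) (ptChk pr [e] (nat_lit 1) (nat_lit 1)) true
/-- the orbit -/
def Om2 : ℕ := nat_lit 0x7fc
def twE2_0 (_ : ℕ) : ℕ := nat_lit 0x1100001300f01000001000000e00e00f00f01100000f000000000000000000
/-- table lookup -/
def twE2 (i : ℕ) : ℕ := Nat.land (Nat.shiftRight (twE2_0 (Nat.shiftRight i (nat_lit 6))) (Nat.mul (nat_lit 24) (Nat.land i (nat_lit 63)))) (nat_lit 16777215)
/-- transversal words -/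
def tw2 (p : ℕ) : List ℕ := unpW (nat_lit 32) (twE2 p)
def stE2_0 (_ : ℕ) : ℕ := nat_lit 0x401401800301401800600001700200001400800001500a01401600900001800900000000500000000700001700700001600800000000200001800400000000a000016005000000003000000006000000000000000000000000000000000000
/-- table lookup -/
def stE2 (i : ℕ) : ℕ := Nat.land (Nat.shiftRight (stE2_0 (Nat.shiftRight i (nat_lit 6))) (Nat.mul (nat_lit 36) (Nat.land i (nat_lit 63)))) (nat_lit 68719476735)
/-- step check -/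
def Pst2 : ℕ → Bool := ProgChain.stepChk R Y pr (nat_lit 11) (nat_lit 13) (nat_lit 2) (nat_lit 19) Om2 tw2 stE2
/-- images -/
def Pimg2 : ℕ → Bool := imgChk pr (nat_lit 13) Om2 tw2 (nat_lit 2)
/-- derived letters -/
def Pder2 (e : ℕ) : Bool := cond (Nat.ble ((nat_lit 15)) e) (derChk R Y pr (nat_lit 13) derT e) true
/-- next generators -/
def Pcert2 (e : ℕ) : Bool := cond (Nat.ble ((nat_lit 19)) e) (certChk R Y pr (nat_lit 13) (nat_lit 19) certA certB e) true
/-- next generators fix the point -/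
def Pfix2 (e : ℕ) : Bool := cond (Nat.ble ((nat_lit 19)) e) (ptChk pr [e] (nat_lit 2) (nat_lit 2)) true
/-- the orbit -/
def Om3 : ℕ := nat_lit 0x7f8
def twE3_0 (_ : ℕ) : ℕ := nat_lit 0x14018000016000015014016000017000018000014000000000000000000000000
/-- table lookup -/
def twE3 (i : ℕ) : ℕ := Nat.land (Nat.shiftRight (twE3_0 (Nat.shiftRight i (nat_lit 6))) (Nat.mul (nat_lit 24) (Nat.land i (nat_lit 63)))) (nat_lit 16777215)
/-- transversal words -/
def tw3 (p : ℕ) : List ℕ := unpW (nat_lit 32) (twE3 p)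
def stE3_0 (_ : ℕ) : ℕ := nat_lit 0x300500a00700900600600300400a007008005009008004000000000000000000
/-- table lookup -/
def stE3 (i : ℕ) : ℕ := Nat.land (Nat.shiftRight (stE3_0 (Nat.shiftRight i (nat_lit 6))) (Nat.mul (nat_lit 12) (Nat.land i (nat_lit 63)))) (nat_lit 4095)
/-- step check -/
def Pst3 : ℕ → Bool := ProgChain.stepChk R Y pr (nat_lit 11) (nat_lit 19) (nat_lit 2) (nat_lit 25) Om3 tw3 stE3
/-- images -/
def Pimg3 : ℕ → Bool := imgChk pr (nat_lit 19) Om3 tw3 (nat_lit 3)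
/-- derived letters -/
def Pder3 (e : ℕ) : Bool := cond (Nat.ble ((nat_lit 21)) e) (derChk R Y pr (nat_lit 19) derT e) true
/-- next generators -/
def Pcert3 (e : ℕ) : Bool := cond (Nat.ble ((nat_lit 25)) e) (certChk R Y pr (nat_lit 19) (nat_lit 25) certA certB e) true
/-- next generators fix the point -/
def Pfix3 (e : ℕ) : Bool := cond (Nat.ble ((nat_lit 25)) e) (ptChk pr [e] (nat_lit 3) (nat_lit 3)) true
/-- letters -/
def Plet (e : ℕ) : Bool := letterChk (nat_lit 16) M (pr e)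
def colT_0 (_ : ℕ) : ℕ := nat_lit 0x101010101010101010100
/-- table lookup -/
def colT (i : ℕ) : ℕ := Nat.land (Nat.shiftRight (colT_0 (Nat.shiftRight i (nat_lit 6))) (Nat.mul (nat_lit 8) (Nat.land i (nat_lit 63)))) (nat_lit 255)
def rtT_0 (_ : ℕ) : ℕ := nat_lit 0x1000
/-- table lookup -/
def rtT (i : ℕ) : ℕ := Nat.land (Nat.shiftRight (rtT_0 (Nat.shiftRight i (nat_lit 6))) (Nat.mul (nat_lit 12) (Nat.land i (nat_lit 63)))) (nat_lit 4095)
def parT_0 (_ : ℕ) : ℕ := nat_lit 0x300800600a004001001005004000000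
/-- table lookup -/
def parT (i : ℕ) : ℕ := Nat.land (Nat.shiftRight (parT_0 (Nat.shiftRight i (nat_lit 6))) (Nat.mul (nat_lit 12) (Nat.land i (nat_lit 63)))) (nat_lit 4095)
def ltT_0 (_ : ℕ) : ℕ := nat_lit 0x7007007008008007008008007000000
/-- table lookup -/
def ltT (i : ℕ) : ℕ := Nat.land (Nat.shiftRight (ltT_0 (Nat.shiftRight i (nat_lit 6))) (Nat.mul (nat_lit 12) (Nat.land i (nat_lit 63)))) (nat_lit 4095)
def rkT_0 (_ : ℕ) : ℕ := nat_lit 0x3004003004002001001002002000000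
/-- table lookup -/
def rkT (i : ℕ) : ℕ := Nat.land (Nat.shiftRight (rkT_0 (Nat.shiftRight i (nat_lit 6))) (Nat.mul (nat_lit 12) (Nat.land i (nat_lit 63)))) (nat_lit 4095)
/-- sizes of the classes -/
def szT (c : ℕ) : ℕ := [1, 10].getD c 0
/-- tree of the classes -/
def Ptree : ℕ → Bool := treeChk pr (nat_lit 11) (nat_lit 7) colT rtT parT ltT rkT
/-- colours -/
def Pcol (p : ℕ) : Bool := Nat.ble (Nat.succ (colT p)) (nat_lit 2)

end Cfsg.Agent.Lib.OM11CTab
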