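import Cfsg.Agent.TcData.ON.L37

/-!
# The O'Nan group: words, points and the base of the chain

Elements of the group are given by signed words in the generators.  An element is trivial if it fixes the three points
`0`, `1`, `31`, and this is checked with the programs of the generators.
-/

set_option autoImplicit false
set_option maxRecDepth 100000

namespace Cfsg.Agent.Lib.ONBase

open Cfsg.Spor Cfsg.Agent.Lib.TcFacts Cfsg.Agent.Lib.TcBits Cfsg.Agent.Lib.TcPres Cfsg.Agent.Lib.TcChain
  Cfsg.Spor.ON Cfsg.Agent.TcData.ON Cfsg.Agent.TcData.ON.I122760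

/-! ### a level of the chain gives the stabilizer -/

section levels

variable {pL : ℕ → List (ℕ × ℕ)} {N : ℕ}

/-- In a level with equal cardinalities, the next group is the stabilizer. -/
theorem level_mem (hv : ∀ i, validProg (2 ^ N) (pL i) = true) (S S' : List ℕ)
    (W : ℕ → List (ℕ × Bool))
    (hW : ∀ t ∈ S', ∀ a ∈ W t, a.1 ∈ S)
    (heq : ∀ t ∈ S', ∀ j, j < N → wordApply (sgnProg pL) ((t, false) :: W t) (slice N j) = slice N j)
    {p : ℕ} (hfix : ∀ t ∈ S', progApply (pL t) (2 ^ p) = 2 ^ p)
    {t0 O o : ℕ} (hgrow : growLN pL S t0 (2 ^ p) = O)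
    (hc : sumRange O.testBit N 0 = o) (hfin : Nat.card (Gp pL S) ≠ 0)
    (hcard : o * Nat.card (Gp pL S') = Nat.card (Gp pL S)) {z : Equiv.Perm ℕ} (hz : z ∈ Gp pL S)
    (hzp : z p = p) : z ∈ Gp pL S' := by
  classical
  have hval : ∀ a : ℕ × Bool, validProg (2 ^ N) (sgnProg pL a) = true := valid_sgnProg hv
  have hle : Gp pL S' ≤ Gp pL S := by
    apply (Subgroup.closure_le _).mpr
    rintro _ ⟨t, ht, rfl⟩
    have h1 : wordPerm (sgnProg pL) ((t, false) :: W t) = 1 :=
      wordPerm_eq_one N _ _ (fun a _ => hval a) (heq t ht)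
    have h2 : wordPerm (sgnProg pL) ((t, false) :: W t) =
        (progPerm (pL t))⁻¹ * wordPerm (sgnProg pL) (W t) := by
      have : progPerm (sgnProg pL (t, false)) = (progPerm (pL t))⁻¹ :=
        progPerm_reverse_mul _ _ (hv t)
      simp [wordPerm, this]
    rw [h2, inv_mul_eq_one] at h1
    show progPerm (pL t) ∈ _
    rw [h1]
    exact word_mem_Gp hv (hW t ht)
  have hfix' : ∀ g ∈ Gp pL S', g p = p := by
    intro g hg
    induction hg using Subgroup.closure_induction with
    | mem x hx =>
      obtain ⟨t, ht, rfl⟩ := hx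
      have h1 := testBit_progApply _ _ (hv t) (2 ^ p) p
      rw [hfix t ht, Nat.testBit_two_pow_self] at h1
      have h2 := h1.symm
      rw [Nat.testBit_two_pow] at h2
      exact (of_decide_eq_true h2).symm
    | one => rfl
    | mul x y _ _ hx hy => rw [Equiv.Perm.mul_apply, hy, hx]
    | inv x _ hx =>
      rw [Equiv.Perm.inv_eq_iff_eq]
      exact hx.symm
  have hS := sound_growLN hv S t0 (2 ^ p) (sound_single _ p)
  rw [hgrow] at hS
  have hF : (((Finset.Ico 0 (0 + 2 ^ N)).filter fun i => O.testBit i = true).card) = o := by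
    rw [← sumRange_spec, hc]
  have hfinite : Finite (Gp pL S) := Nat.finite_of_card_ne_zero hfin
  let St := MulAction.stabilizer (Gp pL S) p
  have h1 : Nat.card St * St.index = Nat.card (Gp pL S) := Subgroup.card_mul_index St
  have h2 : St.index = (MulAction.orbit (Gp pL S) p).ncard := MulAction.index_stabilizer (Gp pL S) p
  have h3 : o ≤ (MulAction.orbit (Gp pL S) p).ncard := by
    rw [← hF]
    have hsub : (((Finset.Ico 0 (0 + 2 ^ N)).filter fun i => O.testBit i = true : Finset ℕ) : Set ℕ) ⊆
        MulAction.orbit (Gp pL S) p := by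
      intro i hi
      rw [Finset.mem_coe, Finset.mem_filter] at hi
      obtain ⟨g, hg, h3⟩ := hS i hi.2
      exact ⟨⟨g, hg⟩, h3⟩
    have hfino : (MulAction.orbit (Gp pL S) p).Finite := Set.finite_range _
    have := Set.ncard_le_ncard hsub hfino
    rwa [Set.ncard_coe_finset] at this
  let f : Gp pL S' → St := fun g => ⟨⟨g.1, hle g.2⟩, by
    show (⟨g.1, hle g.2⟩ : Gp pL S) • p = p
    exact hfix' g.1 g.2⟩
  have hf : Function.Injective f := by
    intro a b hab
    have := congrArg (fun x : St => ((x : Gp pL S) : Equiv.Perm ℕ)) hab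
    exact Subtype.ext this
  have hfin' : Finite (Gp pL S') := Finite.of_injective (Subgroup.inclusion hle) (Subgroup.inclusion_injective hle)
  have h4 : Nat.card (Gp pL S') ≤ Nat.card St := Nat.card_le_card_of_injective f hf
  have ho : 0 < o := by
    rcases Nat.eq_zero_or_pos o with h | h
    · rw [h, zero_mul] at hcard
      exact absurd hcard.symm hfin
    · exact h
  have hSt : 0 < Nat.card St := Nat.card_pos
  have h5 : Nat.card St ≤ Nat.card (Gp pL S') := by
    rw [h2] at h1
    rw [← h1] at hcard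
    have h6 : Nat.card St * o ≤ Nat.card St * (MulAction.orbit (Gp pL S) p).ncard :=
      Nat.mul_le_mul_left _ h3
    rw [← hcard, mul_comm o] at h6
    exact Nat.le_of_mul_le_mul_right h6 ho
  have hb : Function.Bijective f :=
    (Nat.bijective_iff_injective_and_card f).mpr ⟨hf, le_antisymm h4 h5⟩
  have hmem : (⟨z, hz⟩ : Gp pL S) ∈ St := hzp
  obtain ⟨a, ha⟩ := hb.2 ⟨⟨z, hz⟩, hmem⟩
  have h7 : a.1 = z := by
    have := congrArg (fun x : St => ((x : Gp pL S) : Equiv.Perm ℕ)) ha
    exact this
  rw [← h7]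
  exact a.2

end levels

/-! ### the base -/

/-- the group -/
abbrev GO : Type := PresentedGroup RR

open Cfsg.Agent.TcData.ON.Ch

theorem card_GO : Nat.card GO = 460815505920 := Cfsg.Agent.TcData.ON.Fin.main.1

theorem inj_Phi : Function.Injective Phi := Cfsg.Agent.TcData.ON.Fin.main.2

instance : Finite GO := Cfsg.Agent.TcData.ON.Fin.instFinite

theorem card_range : Nat.card Phi.range = 460815505920 := by
  rw [← card_GO]
  exact (Nat.card_congr (MonoidHom.ofInjective inj_Phi).toEquiv).symm

instance : Finite Phi.range := by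
  exact Nat.finite_of_card_ne_zero (by rw [card_range]; norm_num)

theorem finite_S0 : Finite (Gp pL S0) := Finite.of_injective (Subgroup.inclusion hK) (Subgroup.inclusion_injective hK)

theorem card_levels : Nat.card (Gp pL S0) = 460815505920 ∧ Nat.card (Gp pL S1) = 3753792 ∧
    Nat.card (Gp pL S2) = 64 ∧ Nat.card (Gp pL S3) = 1 := by
  have hfin := finite_S0
  have h0 : Nat.card (Gp pL S0) ≠ 0 := Nat.card_pos.ne'
  have L0 := lv0 h0
  have L1 := lv1 L0.1
  have L2 := lv2 L1.1
  have h3 : Nat.card (Gp pL S3) = 1 := by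
    have : Gp pL Ch.S3 = ⊥ := by
      simp [Gp, Ch.S3]
    rw [this]
    simp
  have hle : Nat.card (Gp pL S0) ≤ 460815505920 := by
    rw [← card_range]
    exact Subgroup.card_le_of_le hK
  have h01 := L0.2
  have h12 := L1.2
  have h23 := L2.2
  rw [h3] at h23 ⊢
  refine ⟨?_, ?_, ?_, rfl⟩ <;> omega

theorem range_le : Phi.range ≤ Gp pL S0 := by
  have h1 : Gp pL S0 = Phi.range := by
    apply Subgroup.eq_of_le_of_card_ge hK
    rw [card_range, card_levels.1]
  exact h1.ge

/-- an element fixing the three base points is trivial -/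
theorem eq_one_of_base {z : GO} (h0 : Phi z 0 = 0) (h1 : Phi z 1 = 1) (h31 : Phi z 31 = 31) : z = 1 := by
  obtain ⟨c0, c1, c2, c3⟩ := card_levels
  have hz0 : Phi z ∈ Gp pL S0 := range_le ⟨z, rfl⟩
  have hz1 : Phi z ∈ Gp pL S1 :=
    level_mem hvp S0 S1 W hW0 heq0 hfx0 hgrow0 hc0 (by rw [c0]; norm_num) (by rw [c0, c1]) hz0 h0
  have hz2 : Phi z ∈ Gp pL S2 :=
    level_mem hvp S1 S2 W hW1 heq1 hfx1 hgrow1 hc1 (by rw [c1]; norm_num) (by rw [c1, c2]) hz1 h1
  have hz3 : Phi z ∈ Gp pL S3 :=
    level_mem hvp S2 S3 W hW2 heq2 hfx2 hgrow2 hc2 (by rw [c2]; norm_num) (by rw [c2, c3]) hz2 h31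
  have hb : Gp pL Ch.S3 = ⊥ := by
    simp [Gp, Ch.S3]
  rw [hb, Subgroup.mem_bot] at hz3
  apply inj_Phi
  rw [hz3, map_one]

/-! ### words -/

/-- the element of a word -/
noncomputable def elt (L : List (Gen × Bool)) : GO := PresentedGroup.mk RR (FreeGroup.mk L)

theorem elt_nil : elt [] = 1 := map_one _

theorem elt_append (u v : List (Gen × Bool)) : elt (u ++ v) = elt u * elt v := by
  simp only [elt]
  rw [← map_mul, FreeGroup.mul_mk]

/-- the inverse word -/
def invW (L : List (Gen × Bool)) : List (Gen × Bool) := (L.map fun p => (p.1, !p.2)).reverse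

theorem elt_invW (L : List (Gen × Bool)) : elt (invW L) = (elt L)⁻¹ := by
  simp only [elt]
  rw [← map_inv, FreeGroup.inv_mk]
  rfl

/-- the permutation of a word -/
noncomputable abbrev wP (L : List (Gen × Bool)) : Equiv.Perm ℕ := wordPerm (sgnProg pr) L

theorem Phi_elt (L : List (Gen × Bool)) : Phi (elt L) = wP L := by
  rw [wP, wordPerm_sgn hv]
  show repOf RR pr hR (PresentedGroup.mk RR (FreeGroup.mk L)) = _
  rw [repOf_mk hR hv, ← lift_eq_wordPerm hv, FreeGroup.lift_mk]

theorem hvs (L : List (Gen × Bool)) : ∀ a ∈ L, validProg (2 ^ 17) (sgnProg pr a) = true :=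
  fun a _ => valid_sgnProg hv a

/-- the image of a point from a mask -/
theorem wP_apply {L : List (Gen × Bool)} {p q : ℕ} (h : wordApply (sgnProg pr) L (2 ^ q) = 2 ^ p) :
    wP L p = q := by
  have h1 := testBit_wordApply _ _ L (hvs L) (2 ^ q) p
  rw [h, Nat.testBit_two_pow_self, Nat.testBit_two_pow] at h1
  exact (of_decide_eq_true h1.symm).symm

/-- the check that a word fixes the base -/
noncomputable def fixChk (L : List (Gen × Bool)) : Bool :=
  Nat.beq (wordApply (sgnProg pr) L (2 ^ 0)) (2 ^ 0) && Nat.beq (wordApply (sgnProg pr) L (2 ^ 1)) (2 ^ 1) &&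
    Nat.beq (wordApply (sgnProg pr) L (2 ^ 31)) (2 ^ 31)

theorem one_of_fixChk {L : List (Gen × Bool)} (h : fixChk L = true) : elt L = 1 := by
  simp only [fixChk, Bool.and_eq_true] at h
  obtain ⟨⟨h0, h1⟩, h31⟩ := h
  apply eq_one_of_base
  · rw [Phi_elt]
    exact wP_apply (Nat.eq_of_beq_eq_true h0)
  · rw [Phi_elt]
    exact wP_apply (Nat.eq_of_beq_eq_true h1)
  · rw [Phi_elt]
    exact wP_apply (Nat.eq_of_beq_eq_true h31)

/-- the check that a word fixes a point -/
noncomputable def fixAt (L : List (Gen × Bool)) (p : ℕ) : Bool :=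
  Nat.beq (wordApply (sgnProg pr) L (2 ^ p)) (2 ^ p)

theorem one_of_fixAt {L : List (Gen × Bool)} (h0 : fixAt L 0 = true) (h1 : fixAt L 1 = true) (h31 : fixAt L 31 = true) :
    elt L = 1 := by
  apply one_of_fixChk
  simp only [fixChk, Bool.and_eq_true]
  exact ⟨⟨h0, h1⟩, h31⟩

/-- an equality of words from the check -/
theorem eq_of_fixChk {u v : List (Gen × Bool)} (h : fixChk (u ++ invW v) = true) : elt u = elt v := by
  have h1 := one_of_fixChk h
  rw [elt_append, elt_invW] at h1
  exact mul_inv_eq_one.mp h1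

/-- the check of the image of a point -/
noncomputable def imgAt (L : List (Gen × Bool)) (q p : ℕ) : Bool :=
  Nat.beq (wordApply (sgnProg pr) L (2 ^ q)) (2 ^ p)

theorem wP_of_imgAt {L : List (Gen × Bool)} {q p : ℕ} (h : imgAt L q p = true) : wP L p = q :=
  wP_apply (Nat.eq_of_beq_eq_true h)

/-- the check that a word moves a point -/
theorem ne_one_of_moved {L : List (Gen × Bool)} {p : ℕ}
    (h : fixAt L p = false) : elt L ≠ 1 := by
  unfold fixAt at h
  intro h1
  have h2 : wP L = 1 := by
    rw [← Phi_elt, h1, map_one]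
  have h3 : wordApply (sgnProg pr) L (2 ^ p) = 2 ^ p := by
    apply Nat.eq_of_testBit_eq
    intro i
    have h2' : wordPerm (sgnProg pr) L = 1 := h2
    rw [testBit_wordApply _ _ L (hvs L), h2']
    rfl
  rw [h3] at h
  simp at h

/-! ### the fixed points -/

theorem fix_high (z : GO) {i : ℕ} (hi : 122760 ≤ i) : Phi z i = i :=
  fix_above_all hR (fun x => Cfsg.Agent.TcData.ON.Fin.hab x i hi) z

theorem lt_of_image (z : GO) : Phi z 0 < 122760 := by
  by_contra h
  have h1 := fix_high z (i := Phi z 0) (by omega)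
  have h2 := (Phi z).injective h1
  omega

/-- the mask of the moved points -/
noncomputable def movedMask (L : List (Gen × Bool)) : ℕ :=
  (List.range 17).foldr (fun j D => Nat.lor (Nat.xor (wordApply (sgnProg pr) L (slice 17 j)) (slice 17 j)) D) 0

theorem movedMask_fixed {L : List (Gen × Bool)} {i : ℕ} (hi : wP L i = i) : (movedMask L).testBit i = false := by
  have key : ∀ l : List ℕ,
      (l.foldr (fun j D => Nat.lor (Nat.xor (wordApply (sgnProg pr) L (slice 17 j)) (slice 17 j)) D) 0).testBit i = false := by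
    intro l
    induction l with
    | nil => simp
    | cons j l ih =>
      rw [List.foldr_cons]
      have hlor : ∀ a b k : ℕ, (Nat.lor a b).testBit k = (a.testBit k || b.testBit k) := fun a b k => Nat.testBit_or a b k
      have hxor : ∀ a b k : ℕ, (Nat.xor a b).testBit k = (a.testBit k ^^ b.testBit k) := fun a b k => Nat.testBit_xor a b k
      have hi' : wordPerm (sgnProg pr) L i = i := hi
      rw [hlor, ih, Bool.or_false, hxor, testBit_wordApply _ _ L (hvs L), hi']
      simp
  exact key _

/-- the fixed points of a word are in a mask -/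
theorem fixed_mem {L : List (Gen × Bool)} {F : ℕ} (h : Nat.lor (movedMask L) F = 2 ^ 122760 - 1) {i : ℕ}
    (hlt : i < 122760) (hi : wP L i = i) : F.testBit i = true := by
  have h1 : (Nat.lor (movedMask L) F).testBit i = true := by
    rw [h, Nat.testBit_two_pow_sub_one]
    simp [hlt]
  have h2 : (Nat.lor (movedMask L) F).testBit i = ((movedMask L).testBit i || F.testBit i) := Nat.testBit_or _ _ _
  rw [h2, movedMask_fixed hi, Bool.false_or] at h1
  exact h1

/-- an element commuting with a word fixing `0` sends `0` to a fixed point -/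
theorem image_fixed {L : List (Gen × Bool)} {z : GO} (h0 : wP L 0 = 0) (hc : z * elt L = elt L * z) :
    wP L (Phi z 0) = Phi z 0 := by
  have h1 := congrArg (fun t => Phi t 0) hc
  simp only [map_mul, Equiv.Perm.mul_apply, Phi_elt] at h1
  rw [h0] at h1
  exact h1.symm

/-! ### the stabilizer of `0` -/

theorem mem_HH {z : GO} (h : Phi z 0 = 0) : z ∈ HH := by
  have h1 : betaF HH Phi hfix (z : GO ⧸ HH) = betaF HH Phi hfix ((1 : GO) : GO ⧸ HH) := by
    rw [betaF_mk, betaF_mk, h, map_one]
    rfl
  have h2 := bij.2.1 h1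
  have h3 := QuotientGroup.eq.mp h2.symm
  simpa using h3

/-- the letters of the subgroup -/
def gOf (i : ℕ) : Gen := [Gen.a, Gen.b, Gen.c, Gen.d, Gen.e, Gen.f].getD i Gen.a

/-- the word of a list of letters of the subgroup -/
def wH (w : List ℕ) : List (Gen × Bool) := w.map fun i => (gOf i, true)

theorem wH_append (u v : List ℕ) : wH (u ++ v) = wH u ++ wH v := by simp [wH]

theorem elt_wH_mem (w : List ℕ) : elt (wH w) ∈ HH := by
  show PresentedGroup.mk RR (FreeGroup.mk (wH w)) ∈ Cfsg.Agent.TcData.ON.L37.HH'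
  rw [Cfsg.Agent.TcData.ON.L37.hHeq]
  apply Cfsg.Agent.Lib.TcAbs.mk_mem_subOf
  intro p hp
  rw [wH, List.mem_map] at hp
  obtain ⟨i, -, rfl⟩ := hp
  have : ∀ i, gOf i ∈ Cfsg.Agent.TcData.ON.R0.SL := by
    intro i
    unfold gOf
    rcases Nat.lt_or_ge i 6 with h | h
    · interval_cases i <;> decide
    · rw [List.getD_eq_default _ _ (by simpa using h)]
      decide
  exact this i

end Cfsg.Agent.Lib.ONBase
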