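import Cfsg.Agent.Lib.ONLTab

set_option autoImplicit false
set_option maxRecDepth 100000
set_option Elab.async false

namespace Cfsg.Agent.Lib.ONLSt0

open Cfsg.Agent.Lib.ChainCert Cfsg.Agent.Lib.ProgBits Cfsg.Agent.Lib.ProgChain Cfsg.Agent.Lib.PermChain Cfsg.Agent.Lib.TcBits
open Cfsg.Agent.Lib.ONLTab

theorem st0_6_0 : allR (guard Pst0 (nat_lit 684)) 6 (nat_lit 0) = true := by decide +kernel
theorem st0_6_64 : allR (guard Pst0 (nat_lit 684)) 6 (nat_lit 64) = true := by decide +kernel
theorem st0_6_128 : allR (guard Pst0 (nat_lit 684)) 6 (nat_lit 128) = true := by decide +kernel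
theorem st0_6_192 : allR (guard Pst0 (nat_lit 684)) 6 (nat_lit 192) = true := by decide +kernel
theorem st0_6_256 : allR (guard Pst0 (nat_lit 684)) 6 (nat_lit 256) = true := by decide +kernel
theorem st0_6_320 : allR (guard Pst0 (nat_lit 684)) 6 (nat_lit 320) = true := by decide +kernel
theorem st0_6_384 : allR (guard Pst0 (nat_lit 684)) 6 (nat_lit 384) = true := by decide +kernel
theorem st0_6_448 : allR (guard Pst0 (nat_lit 684)) 6 (nat_lit 448) = true := by decide +kernel
theorem st0_6_512 : allR (guard Pst0 (nat_lit 684)) 6 (nat_lit 512) = true := by decide +kernel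
theorem st0_6_576 : allR (guard Pst0 (nat_lit 684)) 6 (nat_lit 576) = true := by decide +kernel
theorem st0_6_640 : allR (guard Pst0 (nat_lit 684)) 6 (nat_lit 640) = true := by decide +kernel
theorem st0_6_704 : allR (guard Pst0 (nat_lit 684)) 6 (nat_lit 704) = true := by decide +kernel
theorem st0_6_768 : allR (guard Pst0 (nat_lit 684)) 6 (nat_lit 768) = true := by decide +kernel
theorem st0_6_832 : allR (guard Pst0 (nat_lit 684)) 6 (nat_lit 832) = true := by decide +kernel
theorem st0_6_896 : allR (guard Pst0 (nat_lit 684)) 6 (nat_lit 896) = true := by decide +kernel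
theorem st0_6_960 : allR (guard Pst0 (nat_lit 684)) 6 (nat_lit 960) = true := by decide +kernel
theorem st0_7_0 : allR (guard Pst0 (nat_lit 684)) 7 (nat_lit 0) = true := allR_join (mid := nat_lit 64) rfl st0_6_0 st0_6_64
theorem st0_7_128 : allR (guard Pst0 (nat_lit 684)) 7 (nat_lit 128) = true := allR_join (mid := nat_lit 192) rfl st0_6_128 st0_6_192
theorem st0_7_256 : allR (guard Pst0 (nat_lit 684)) 7 (nat_lit 256) = true := allR_join (mid := nat_lit 320) rfl st0_6_256 st0_6_320
theorem st0_7_384 : allR (guard Pst0 (nat_lit 684)) 7 (nat_lit 384) = true := allR_join (mid := nat_lit 448) rfl st0_6_384 st0_6_448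
theorem st0_7_512 : allR (guard Pst0 (nat_lit 684)) 7 (nat_lit 512) = true := allR_join (mid := nat_lit 576) rfl st0_6_512 st0_6_576
theorem st0_7_640 : allR (guard Pst0 (nat_lit 684)) 7 (nat_lit 640) = true := allR_join (mid := nat_lit 704) rfl st0_6_640 st0_6_704
theorem st0_7_768 : allR (guard Pst0 (nat_lit 684)) 7 (nat_lit 768) = true := allR_join (mid := nat_lit 832) rfl st0_6_768 st0_6_832
theorem st0_7_896 : allR (guard Pst0 (nat_lit 684)) 7 (nat_lit 896) = true := allR_join (mid := nat_lit 960) rfl st0_6_896 st0_6_960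
theorem st0_8_0 : allR (guard Pst0 (nat_lit 684)) 8 (nat_lit 0) = true := allR_join (mid := nat_lit 128) rfl st0_7_0 st0_7_128
theorem st0_8_256 : allR (guard Pst0 (nat_lit 684)) 8 (nat_lit 256) = true := allR_join (mid := nat_lit 384) rfl st0_7_256 st0_7_384
theorem st0_8_512 : allR (guard Pst0 (nat_lit 684)) 8 (nat_lit 512) = true := allR_join (mid := nat_lit 640) rfl st0_7_512 st0_7_640
theorem st0_8_768 : allR (guard Pst0 (nat_lit 684)) 8 (nat_lit 768) = true := allR_join (mid := nat_lit 896) rfl st0_7_768 st0_7_896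
theorem st0_9_0 : allR (guard Pst0 (nat_lit 684)) 9 (nat_lit 0) = true := allR_join (mid := nat_lit 256) rfl st0_8_0 st0_8_256
theorem st0_9_512 : allR (guard Pst0 (nat_lit 684)) 9 (nat_lit 512) = true := allR_join (mid := nat_lit 768) rfl st0_8_512 st0_8_768
theorem st0_10_0 : allR (guard Pst0 (nat_lit 684)) 10 (nat_lit 0) = true := allR_join (mid := nat_lit 512) rfl st0_9_0 st0_9_512
theorem st0_all : ∀ i, i < (nat_lit 684) → Pst0 i = true := of_guard (k := 10) (by norm_num) st0_10_0

end Cfsg.Agent.Lib.ONLSt0
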