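import Cfsg.Agent.Lib.ONOutW

/-!
# `Out` of the O'Nan group: centralizers in the subgroup `L₃(7):2`
-/

set_option autoImplicit false
set_option maxRecDepth 100000

namespace Cfsg.Agent.Lib.ONOutD

open Cfsg.Agent.Lib.PermChain Cfsg.Agent.Lib.ProgChain Cfsg.Agent.Lib.SparseDfs
  Cfsg.Agent.Lib.SparseDfs2 Cfsg.Agent.Lib.SparseDfs3 Cfsg.Agent.Lib.ONLMain
  Cfsg.Agent.Lib.ONOutL Cfsg.Agent.Lib.ONOutT Cfsg.Agent.Lib.ONOutW

local notation "P114" => Equiv.Perm (Fin 114)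

/-- a word in the first frame -/
theorem inC1_eq (a : List ℕ) : prodW g (inC1 a) = prodW g wc1 * prodW g a * (prodW g wc1)⁻¹ := by
  have h := eq_of_eqW c1_inv
  rw [prodW_append, prodW_nil] at h
  have h2 : prodW g wc1i = (prodW g wc1)⁻¹ := (inv_eq_of_mul_eq_one_right h).symm
  simp only [inC1, prodW_append, h2]

/-- a word in the second frame -/
theorem inC2_eq (a : List ℕ) : prodW g (inC2 a) = prodW g wc2 * prodW g a * (prodW g wc2)⁻¹ := by
  have h := eq_of_eqW c2_inv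
  rw [prodW_append, prodW_nil] at h
  have h2 : prodW g wc2i = (prodW g wc2)⁻¹ := (inv_eq_of_mul_eq_one_right h).symm
  simp only [inC2, prodW_append, h2]

theorem rep_x1 : RepW WW MM (prodW g (inC1 wx)) x1T := rep_of_tabW chk_x1T
theorem rep_f2 : RepW WW MM (prodW g (inC2 wf)) f2T := rep_of_tabW chk_f2T
theorem rep_f22 : RepW WW MM (prodW g (inC2 wf ++ inC2 wf)) f22T := rep_of_tabW chk_f22T
theorem rep_f23 : RepW WW MM (prodW g (inC2 wf ++ inC2 wf ++ inC2 wf)) f23T := rep_of_tabW chk_f23T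

/-- the centralizer of `x` in the subgroup -/
theorem cent_x_L {y : P114} (hy : y ∈ GG) (hc : y * prodW g wx = prodW g wx * y) :
    ∃ k : ℕ, y = prodW g wx ^ k := by
  set c := prodW g wc1 with hcd
  set y' := c * y * c⁻¹ with hy'd
  have hy' : y' ∈ GG := GG.mul_mem (GG.mul_mem (mem_word _) hy) (GG.inv_mem (mem_word _))
  have hc' : y' * prodW g (inC1 wx) = prodW g (inC1 wx) * y' := by
    rw [inC1_eq, ← hcd, hy'd]
    calc c * y * c⁻¹ * (c * prodW g wx * c⁻¹) = c * (y * prodW g wx) * c⁻¹ := by group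
      _ = c * (prodW g wx * y) * c⁻¹ := by rw [hc]
      _ = _ := by group
  have hsat : ∀ eqs ∈ Ex, ∀ e ∈ eqs, SatE WW MM y' e := by
    intro eqs he e hee
    obtain ⟨h1, h2⟩ := chkEx eqs he e hee
    obtain ⟨t, p, q⟩ := e
    simp only at h1 h2
    subst h1
    exact satE_of_comm hc' (fun hp hq => Fin.ext (by rw [rep_x1]; exact h2)) rep_x1
  obtain ⟨L, hL, ht⟩ := dfs_H chainH testX okx hy' hsat dX
  have hb := eqB_of hbase hL rep_x1 rep_x1 hc'
  simp only [testX, hb, Bool.not_true, Bool.false_or, List.any_eq_true, powsX, List.mem_map, List.mem_range] at ht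
  obtain ⟨A, ⟨k, -, rfl⟩, hag⟩ := ht
  have h1 : y' = prodW g (inC1 wx) ^ k :=
    eq_of_agree' hy' (GG.pow_mem (mem_word _) k) hL (repL_pow rep_x1 k) hag
  refine ⟨k, ?_⟩
  rw [inC1_eq, ← hcd, conj_pow] at h1
  calc y = c⁻¹ * (c * y * c⁻¹) * c := by group
    _ = c⁻¹ * (c * prodW g wx ^ k * c⁻¹) * c := by rw [← hy'd, h1]
    _ = prodW g wx ^ k := by group

theorem chkQ_of {d : QD} (hd : d ∈ QS) : chkQ d = true := (List.all_eq_true.mp chkQS) d hd

/-- the elements of the subgroup conjugating `f` to a conjugate of the list -/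
theorem conj_f_L {h : P114} (hh : h ∈ GG) {d : QD} (hd : d ∈ QS) (hc : h * prodW g wf = prodW g d.wq * h) :
    ∃ c ∈ d.cands, h = prodW g c.1 := by
  have hq := chkQ_of hd
  simp only [chkQ, Bool.and_eq_true, List.all_eq_true] at hq
  obtain ⟨⟨⟨⟨⟨⟨⟨hs, ht1⟩, ht2⟩, ht3⟩, hok⟩, hes⟩, hcs⟩, hdfs⟩ := hq
  have rep1 := rep_of_tabW ht1
  have rep2 := rep_of_tabW ht2
  have rep3 := rep_of_tabW ht3
  set c := prodW g wc2 with hcd
  set h' := c * h * c⁻¹ with hh'd
  have hh' : h' ∈ GG := GG.mul_mem (GG.mul_mem (mem_word _) hh) (GG.inv_mem (mem_word _))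
  have hc1 : h' * prodW g (inC2 wf) = prodW g (inC2 d.wq) * h' := by
    rw [inC2_eq, inC2_eq, ← hcd, hh'd]
    calc c * h * c⁻¹ * (c * prodW g wf * c⁻¹) = c * (h * prodW g wf) * c⁻¹ := by group
      _ = c * (prodW g d.wq * h) * c⁻¹ := by rw [hc]
      _ = _ := by group
  have hc2 : h' * prodW g (inC2 wf ++ inC2 wf) = prodW g (inC2 d.wq ++ inC2 d.wq) * h' := by
    rw [prodW_append, prodW_append, ← mul_assoc, hc1, mul_assoc, hc1, mul_assoc]
  have hc3 : h' * prodW g (inC2 wf ++ inC2 wf ++ inC2 wf) = prodW g (inC2 d.wq ++ inC2 d.wq ++ inC2 d.wq) * h' := by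
    rw [prodW_append, prodW_append (v := inC2 d.wq ++ inC2 d.wq), ← mul_assoc, hc2, mul_assoc, hc1, mul_assoc]
  have hsat : ∀ eqs ∈ d.Es, ∀ e ∈ eqs, SatE WW MM h' e := by
    intro eqs he e hee
    have h5 := hes eqs he e hee
    obtain ⟨t, p, q⟩ := e
    simp only [Bool.or_eq_true, Bool.and_eq_true] at h5
    rcases h5 with (⟨h6, h7⟩ | ⟨h6, h7⟩) | ⟨h6, h7⟩
    · have h8 := Nat.eq_of_beq_eq_true h6
      have h9 := Nat.eq_of_beq_eq_true h7
      subst h8
      exact satE_of_comm hc1 (fun hp hq => Fin.ext (by rw [rep_f2]; exact h9)) rep1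
    · have h8 := Nat.eq_of_beq_eq_true h6
      have h9 := Nat.eq_of_beq_eq_true h7
      subst h8
      exact satE_of_comm hc2 (fun hp hq => Fin.ext (by rw [rep_f22]; exact h9)) rep2
    · have h8 := Nat.eq_of_beq_eq_true h6
      have h9 := Nat.eq_of_beq_eq_true h7
      subst h8
      exact satE_of_comm hc3 (fun hp hq => Fin.ext (by rw [rep_f23]; exact h9)) rep3
  obtain ⟨L, hL, ht⟩ := dfs_H chainH (testQ d) hok hh' hsat hdfs
  have hb := eqB_of hbase hL rep_f2 rep1 hc1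
  simp only [testQ, hb, Bool.not_true, Bool.false_or, List.any_eq_true] at ht
  obtain ⟨C, hC, hag⟩ := ht
  have hC2 := hcs C hC
  have h1 : h' = prodW g (inC2 C.1) :=
    eq_of_agree' hh' (mem_word _) hL (repL_of_repW (rep_of_tabW hC2.2)) hag
  refine ⟨C, hC, ?_⟩
  rw [inC2_eq, ← hcd] at h1
  calc h = c⁻¹ * (c * h * c⁻¹) * c := by group
    _ = c⁻¹ * (c * prodW g C.1 * c⁻¹) * c := by rw [← hh'd, h1]
    _ = prodW g C.1 := by group

end Cfsg.Agent.Lib.ONOutD
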