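import Cfsg.Agent.Lib.ONOutW
import Cfsg.Agent.Lib.ONBase

/-!
# `Out` of the O'Nan group: the words
-/

set_option autoImplicit false
set_option maxRecDepth 100000
set_option Elab.async false

namespace Cfsg.Agent.Lib.ONOutG

noncomputable section

open Cfsg.Agent.Lib.PermChain Cfsg.Agent.Lib.ProgChain Cfsg.Agent.Lib.SparseDfs
  Cfsg.Agent.Lib.SparseDfs2 Cfsg.Agent.Lib.SparseDfs3 Cfsg.Agent.Lib.ONLMain
  Cfsg.Agent.Lib.ONOutL Cfsg.Agent.Lib.ONOutT Cfsg.Agent.Lib.ONOutW Cfsg.Agent.Lib.ONBase
open Cfsg.Spor Cfsg.Spor.ON Cfsg.Agent.TcData.ON Cfsg.Agent.TcData.ON.I122760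
  Cfsg.Agent.Lib.TcPres Cfsg.Agent.Lib.TcBits

/-- the word of `x` -/
def wxG : List (Gen × Bool) := wH wx
/-- the word of `f` -/
def wfG : List (Gen × Bool) := wH wf
/-- the words of the powers of `x` -/
def xpow (e : ℕ) : List (Gen × Bool) := (List.replicate e wxG).flatten

/-- the letters `x`, `x⁻¹`, `f`, `f⁻¹`, `y`, `y⁻¹` with the values `x ^ e` and `z` -/
def SS (e : ℕ) (z : List (Gen × Bool)) : ℕ → List (Gen × Bool)
  | 0 => xpow e
  | 1 => invW (xpow e)
  | 2 => wfG
  | 3 => invW wfG
  | 4 => z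
  | 5 => invW z
  | _ => []

/-- a word in the letters -/
def flat (e : ℕ) (z : List (Gen × Bool)) (r : List ℕ) : List (Gen × Bool) := r.flatMap (SS e z)

/-- the words of the elements commuting with `f` -/
def allC : List (List (Gen × Bool)) := QS.flatMap fun d => d.cands.map fun c => d.U ++ wH c.1

/-- the word of an element commuting with `f` -/
def cd (i : ℕ) : List (Gen × Bool) := allC.getD i []

/-- the word of `y` -/
def wyG : List (Gen × Bool) := cd 71
/-- the word of the image of `y` by the outer automorphism -/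
def wypG : List (Gen × Bool) := cd 43

/-- a relation of `x`, `f`, `y` -/
def rB : List ℕ := [5, 1, 1, 1, 4, 0, 5, 3, 0, 4, 1, 1, 5, 1, 1, 1, 1, 5, 1, 1, 1, 1, 5, 0, 3, 0, 3]

/-- the word of a generator in the letters -/
def wds : Gen → List ℕ
  | .a => [0, 4, 0, 4, 1, 1, 4, 1, 4, 2, 0, 4, 1, 1, 4, 3, 1, 3, 1]
  | .b => [0, 0, 4, 0, 4, 1, 1, 4, 1, 4, 2, 0, 4, 1, 1, 4, 3, 0, 3, 0]
  | .c => [0, 0, 0, 4, 0, 4, 1, 1, 4, 1, 4, 2, 0, 4, 1, 1, 4, 3, 0, 3]
  | .d => [1, 2, 1, 2, 2, 4, 1, 4, 0, 0, 4, 0, 4, 2, 1, 4, 0, 0, 4, 2, 0]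
  | .e => [2, 1, 2, 2, 4, 1, 4, 0, 0, 4, 0, 4, 2, 1, 4, 0, 0, 4, 2]
  | .f => [2, 2, 1, 2, 4, 1, 4, 0, 0, 4, 0, 4, 2, 1, 4, 0, 0, 4, 2, 1]
  | .g => [0, 4, 1, 2, 4, 4, 1, 3, 4, 0, 3, 4, 4, 0, 4, 0, 4, 4, 1, 4, 2, 0, 3]

/-- the images of the generators by the outer automorphism -/
def wB : Gen → List (Gen × Bool)
  | .a => [(.b, true), (.d, true), (.e, true), (.d, true), (.c, true), (.d, true), (.g, false), (.b, true), (.c, true), (.e, true), (.g, true), (.d, true), (.g, true), (.c, true), (.d, true), (.b, true), (.c, true), (.d, true), (.e, true), (.g, true), (.d, true), (.c, true), (.d, true), (.e, true), (.d, true), (.b, true)]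
  | .b => [(.b, true), (.a, true), (.d, true), (.c, true), (.d, true), (.e, true), (.g, false), (.b, true), (.d, true), (.e, true), (.d, true), (.c, true), (.d, true), (.b, true), (.c, true), (.d, true), (.e, true), (.b, true), (.g, false), (.d, true), (.e, true), (.c, true), (.d, true), (.b, true)]
  | .c => [(.d, true), (.g, true), (.b, true), (.c, true), (.e, true), (.g, false), (.d, true), (.c, true), (.e, true), (.g, true), (.b, true), (.d, true), (.c, true), (.g, false), (.d, true), (.b, true), (.c, true), (.d, true), (.e, true), (.c, true), (.d, true), (.c, true), (.g, false), (.b, true), (.c, true), (.d, true), (.e, true)]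
  | .d => [(.b, true), (.c, true), (.d, true), (.e, true), (.g, true), (.d, true), (.c, true), (.b, true), (.d, true), (.c, true), (.d, true), (.c, true), (.e, true), (.g, true), (.d, true), (.e, true), (.c, true), (.g, false), (.d, true), (.b, true), (.c, true), (.g, true), (.d, true), (.e, true), (.b, true), (.g, false), (.c, true)]
  | .e => [(.c, true), (.b, true), (.e, true), (.d, true), (.c, true), (.g, true), (.b, true), (.c, true), (.d, true), (.c, true), (.e, true), (.d, true), (.g, true), (.c, true), (.g, true), (.d, true), (.e, true), (.b, true), (.g, false), (.c, true), (.d, true), (.e, true), (.b, true), (.c, true)]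
  | .f => [(.b, true), (.c, true), (.b, true), (.e, true), (.d, true), (.c, true), (.g, false), (.b, true), (.c, true), (.d, true), (.c, true), (.e, true), (.d, true), (.g, true), (.c, true), (.g, true), (.d, true), (.e, true), (.b, true), (.g, true), (.c, true), (.d, true), (.e, true), (.b, true), (.c, true), (.b, true)]
  | .g => [(.a, true), (.b, true), (.c, true), (.b, true), (.e, true), (.d, true), (.g, true), (.b, true), (.c, true), (.b, true), (.e, true), (.g, false), (.d, true), (.c, true), (.b, true), (.e, true), (.d, true), (.g, false), (.e, true), (.c, true), (.a, true), (.b, true), (.g, true), (.d, true), (.c, true), (.b, true), (.g, true), (.b, true)]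

/-- the image of a word by the outer automorphism -/
def expandB (L : List (Gen × Bool)) : List (Gen × Bool) := L.flatMap fun p => cond p.2 (wB p.1) (invW (wB p.1))

/-- the fixed points of `f` -/
def Fm : ℕ := (QS.map QD.q).foldr (fun q M => Nat.lor (2 ^ q) M) 0

theorem allC_len : allC.length = 72 := by decide +kernel
theorem x_ord : fixChk (xpow 19) = true := by decide +kernel
theorem x_moved : fixAt wxG 1 = false := by decide +kernel
theorem f_x : fixChk (wfG ++ wxG ++ invW wfG ++ invW (xpow 8)) = true := by decide +kernel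
theorem y_f : fixChk (wyG ++ wfG ++ invW wyG ++ invW wfG) = true := by decide +kernel
theorem y_ord : fixChk (wyG ++ wyG ++ wyG) = true := by decide +kernel
theorem y_rB : fixChk (flat 1 wyG rB) = true := by decide +kernel
theorem y_ne : fixAt (wyG ++ invW wypG) 0 = false := by decide +kernel
theorem mask_x : Nat.lor (movedMask wxG) 1 = 2 ^ 122760 - 1 := by decide +kernel
theorem mask_f : Nat.lor (movedMask wfG) Fm = 2 ^ 122760 - 1 := by decide +kernel
theorem u_0 : imgAt qd0.U qd0.q 0 = true := by decide +kernel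
theorem q_0 : fixChk (invW qd0.U ++ wfG ++ qd0.U ++ invW (wH qd0.wq)) = true := by decide +kernel
theorem u_1 : imgAt qd1.U qd1.q 0 = true := by decide +kernel
theorem q_1 : fixChk (invW qd1.U ++ wfG ++ qd1.U ++ invW (wH qd1.wq)) = true := by decide +kernel
theorem u_2 : imgAt qd2.U qd2.q 0 = true := by decide +kernel
theorem q_2 : fixChk (invW qd2.U ++ wfG ++ qd2.U ++ invW (wH qd2.wq)) = true := by decide +kernel
theorem u_3 : imgAt qd3.U qd3.q 0 = true := by decide +kernel
theorem q_3 : fixChk (invW qd3.U ++ wfG ++ qd3.U ++ invW (wH qd3.wq)) = true := by decide +kernel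
theorem u_4 : imgAt qd4.U qd4.q 0 = true := by decide +kernel
theorem q_4 : fixChk (invW qd4.U ++ wfG ++ qd4.U ++ invW (wH qd4.wq)) = true := by decide +kernel
theorem u_5 : imgAt qd5.U qd5.q 0 = true := by decide +kernel
theorem q_5 : fixChk (invW qd5.U ++ wfG ++ qd5.U ++ invW (wH qd5.wq)) = true := by decide +kernel
theorem u_6 : imgAt qd6.U qd6.q 0 = true := by decide +kernel
theorem q_6 : fixChk (invW qd6.U ++ wfG ++ qd6.U ++ invW (wH qd6.wq)) = true := by decide +kernel
theorem u_7 : imgAt qd7.U qd7.q 0 = true := by decide +kernel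
theorem q_7 : fixChk (invW qd7.U ++ wfG ++ qd7.U ++ invW (wH qd7.wq)) = true := by decide +kernel
theorem u_8 : imgAt qd8.U qd8.q 0 = true := by decide +kernel
theorem q_8 : fixChk (invW qd8.U ++ wfG ++ qd8.U ++ invW (wH qd8.wq)) = true := by decide +kernel

/-- the data of each fixed point is correct -/
theorem chkU : ∀ d ∈ QS, imgAt d.U d.q 0 = true ∧
    fixChk (invW d.U ++ wfG ++ d.U ++ invW (wH d.wq)) = true := by
  intro d hd
  simp only [QS, List.mem_cons, List.not_mem_nil, or_false] at hd
  rcases hd with rfl | rfl | rfl | rfl | rfl | rfl | rfl | rfl | rfl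
  exacts [⟨u_0, q_0⟩, ⟨u_1, q_1⟩, ⟨u_2, q_2⟩, ⟨u_3, q_3⟩, ⟨u_4, q_4⟩, ⟨u_5, q_5⟩, ⟨u_6, q_6⟩, ⟨u_7, q_7⟩, ⟨u_8, q_8⟩]
theorem gen_a : fixChk (flat 1 wyG (wds .a) ++ invW [(.a, true)]) = true := by decide +kernel
theorem gen_b : fixChk (flat 1 wyG (wds .b) ++ invW [(.b, true)]) = true := by decide +kernel
theorem gen_c : fixChk (flat 1 wyG (wds .c) ++ invW [(.c, true)]) = true := by decide +kernel
theorem gen_d : fixChk (flat 1 wyG (wds .d) ++ invW [(.d, true)]) = true := by decide +kernel
theorem gen_e : fixChk (flat 1 wyG (wds .e) ++ invW [(.e, true)]) = true := by decide +kernel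
theorem gen_f : fixChk (flat 1 wyG (wds .f) ++ invW [(.f, true)]) = true := by decide +kernel
theorem gen_g : fixChk (flat 1 wyG (wds .g) ++ invW [(.g, true)]) = true := by decide +kernel

theorem chk_gen : ∀ t, fixChk (flat 1 wyG (wds t) ++ invW [(t, true)]) = true := by
  intro t
  cases t
  exacts [gen_g, gen_a, gen_b, gen_c, gen_d, gen_e, gen_f]

end

end Cfsg.Agent.Lib.ONOutG
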