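import Cfsg.Agent.Lib.ONOutT
import Cfsg.Agent.Lib.ONBase
import Cfsg.Agent.Lib.PresBridge

/-!
# `Out` of the O'Nan group: the subgroup `L₃(7):2` acting on 114 points
-/

set_option autoImplicit false
set_option maxRecDepth 100000

namespace Cfsg.Agent.Lib.ONOutH

noncomputable section

open Cfsg.Agent.Lib.PermChain Cfsg.Agent.Lib.ProgChain Cfsg.Agent.Lib.SparseDfs
  Cfsg.Agent.Lib.SparseDfs2 Cfsg.Agent.Lib.SparseDfs3 Cfsg.Agent.Lib.ONLMain
  Cfsg.Agent.Lib.ONOutL Cfsg.Agent.Lib.ONOutT Cfsg.Agent.Lib.ONBase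
open Cfsg.Spor Cfsg.Spor.ON Cfsg.Agent.TcData.ON Cfsg.Agent.TcData.ON.I122760 Cfsg.Agent.TcData.ON.L37
  Cfsg.Agent.Lib.TcPres Cfsg.Agent.Lib.TcRel Cfsg.Agent.Lib.TcAbs

/-- the values of the generators on the 114 points -/
def wL : Gen → List ℕ
  | .g => []
  | .a => [0]
  | .b => [1]
  | .c => [2]
  | .d => [3]
  | .e => [4]
  | .f => [5]

theorem invL : ∀ x, eqW (wL x ++ wL x) [] = true := by intro x; cases x <;> decide +kernel

theorem relsL : ∀ r ∈ R0.relLS, eqW (PresBridge.expand wL r.toWord) [] = true := by decide +kernel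

theorem hinvL : ∀ x, prodW g (wL x) * prodW g (wL x) = 1 := by
  intro x
  have h := eq_of_eqW (invL x)
  rw [PresBridge.prodW_append] at h
  exact h

theorem hrelL : ∀ r ∈ RS, FreeGroup.lift (fun x => prodW g (wL x)) r = 1 := by
  intro r hr
  rw [PresBridge.lift_eq _ _ hinvL]
  exact eq_of_eqW (relsL r hr)

/-- the map from the group presented by the relators of the subgroup -/
def psiL : PresentedGroup RS →* Equiv.Perm (Fin 114) := PresentedGroup.toGroup hrelL

theorem psiL_mk (r : FreeGroup Gen) : psiL (PresentedGroup.mk RS r) = FreeGroup.lift (fun x => prodW g (wL x)) r := rfl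

theorem psiL_wH (w : List ℕ) (hw : ∀ i ∈ w, i < 6) :
    psiL (PresentedGroup.mk RS (FreeGroup.mk (wH w))) = prodW g w := by
  rw [psiL_mk, FreeGroup.lift_mk]
  induction w with
  | nil => rfl
  | cons i w ih =>
    have h1 := ih (fun j hj => hw j (List.mem_cons_of_mem _ hj))
    simp only [wH, List.map_cons, List.prod_cons] at h1 ⊢
    rw [h1, prodW_cons]
    congr 1
    have hi := hw i List.mem_cons_self
    interval_cases i <;> exact mul_one _

theorem exists_theta : ∃ θ : HH →* Equiv.Perm (Fin 114), Function.Injective θ ∧ (∀ u, θ u ∈ GG) ∧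
    ∀ w : List ℕ, (∀ i ∈ w, i < 6) → θ ⟨elt (wH w), elt_wH_mem w⟩ = prodW g w := by
  obtain ⟨θ₀, hθ₀⟩ := exists_hom hRS R0.SL t2 (by rw [cardSub]) psiL
  let θ : HH →* Equiv.Perm (Fin 114) := θ₀.comp (MulEquiv.subgroupCongr hHeq).toMonoidHom
  have hval : ∀ w : List ℕ, (∀ i ∈ w, i < 6) → θ ⟨elt (wH w), elt_wH_mem w⟩ = prodW g w := by
    intro w hw
    have hL : ∀ p ∈ wH w, p.1 ∈ R0.SL := by
      intro p hp
      rw [wH, List.mem_map] at hp
      obtain ⟨i, hi, rfl⟩ := hp
      have := hw i hi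
      interval_cases i <;> decide
    have hk : PresentedGroup.mk RS (FreeGroup.mk (wH w)) ∈ subOf RS R0.SL := mk_mem_subOf hL
    have hk' : piOf hRS (PresentedGroup.mk RS (FreeGroup.mk (wH w))) ∈ subOf RR R0.SL := by
      rw [← map_subOf hRS R0.SL]
      exact Subgroup.mem_map_of_mem _ hk
    have h1 := hθ₀ _ hk hk'
    rw [psiL_wH w hw] at h1
    rw [← h1]
    show θ₀ _ = θ₀ _
    congr 1
    apply Subtype.ext
    exact (piOf_mk hRS _).symm
  -- the values on the generators
  have hgen : ∀ i, i < 6 → θ ⟨elt (wH [i]), elt_wH_mem [i]⟩ = g i := by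
    intro i hi
    have := hval [i] (by simpa using hi)
    rw [this, prodW_cons, prodW_nil, mul_one]
  -- the image lies in the group
  have hmem : ∀ u, θ u ∈ GG := by
    let Q : Subgroup HH := GG.comap θ
    have h1 : HH ≤ Q.map HH.subtype := by
      show (Subgroup.closure SS).map (PresentedGroup.mk RR) ≤ _
      rw [Subgroup.map_le_iff_le_comap, Subgroup.closure_le]
      intro s hs
      have hs' : PresentedGroup.mk RR s ∈ HH := Subgroup.mem_map_of_mem _ (Subgroup.subset_closure hs)
      refine ⟨⟨_, hs'⟩, ?_, rfl⟩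
      show θ ⟨_, hs'⟩ ∈ GG
      simp only [SS, Set.mem_insert_iff, Set.mem_singleton_iff] at hs
      rcases hs with rfl | rfl | rfl | rfl | rfl | rfl
      · exact hgen 0 (by norm_num) ▸ lev0.1 0 (Nat.zero_le _)
      · exact hgen 1 (by norm_num) ▸ lev0.1 1 (Nat.zero_le _)
      · exact hgen 2 (by norm_num) ▸ lev0.1 2 (Nat.zero_le _)
      · exact hgen 3 (by norm_num) ▸ lev0.1 3 (Nat.zero_le _)
      · exact hgen 4 (by norm_num) ▸ lev0.1 4 (Nat.zero_le _)
      · exact hgen 5 (by norm_num) ▸ lev0.1 5 (Nat.zero_le _)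
    intro u
    obtain ⟨v, hv, hv2⟩ := h1 u.2
    have : v = u := Subtype.ext hv2
    rw [← this]
    exact hv
  refine ⟨θ, ?_, hmem, hval⟩
  -- surjectivity
  let θ' : HH →* GG := θ.codRestrict GG hmem
  have hsurj : Function.Surjective θ' := by
    rw [← MonoidHom.range_eq_top]
    have h2 : (θ.range) = GG := by
      apply le_antisymm
      · rintro _ ⟨u, rfl⟩
        exact hmem u
      · show Subgroup.closure _ ≤ _
        rw [Subgroup.closure_le]
        rintro _ ⟨e, he, rfl⟩
        have he6 : e < 6 := by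
          have := (List.mem_range'_1.mp he).2
          simpa using this
        exact ⟨_, hgen e he6⟩
    rw [eq_top_iff]
    rintro ⟨z, hz⟩ -
    rw [← h2] at hz
    obtain ⟨u, hu⟩ := hz
    exact ⟨u, Subtype.ext hu⟩
  have hfinH : Finite HH := inferInstance
  have hcard : Nat.card HH = Nat.card GG := by
    rw [cardH0]
    exact cardH
  have hfinG : Finite GG := inferInstance
  have hb : Function.Bijective θ' := (Nat.bijective_iff_surjective_and_card θ').mpr ⟨hsurj, hcard⟩
  intro u v huv
  apply hb.1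
  exact Subtype.ext huv

/-- the isomorphism of the subgroup with its action on 114 points -/
def theta : HH →* Equiv.Perm (Fin 114) := Classical.choose exists_theta

theorem theta_inj : Function.Injective theta := (Classical.choose_spec exists_theta).1
theorem theta_mem (u : HH) : theta u ∈ GG := (Classical.choose_spec exists_theta).2.1 u
theorem theta_wH (w : List ℕ) (hw : ∀ i ∈ w, i < 6) : theta ⟨elt (wH w), elt_wH_mem w⟩ = prodW g w :=
  (Classical.choose_spec exists_theta).2.2 w hw

end

end Cfsg.Agent.Lib.ONOutH
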