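import Cfsg.Agent.Lib.ONOutG

/-!
# `Out` of the O'Nan group: the elements commuting with `f` excluded
-/

set_option autoImplicit false
set_option maxRecDepth 100000
set_option Elab.async false

namespace Cfsg.Agent.Lib.ONOutK

noncomputable section

open Cfsg.Agent.Lib.PermChain Cfsg.Agent.Lib.ProgChain Cfsg.Agent.Lib.SparseDfs
  Cfsg.Agent.Lib.SparseDfs2 Cfsg.Agent.Lib.SparseDfs3 Cfsg.Agent.Lib.ONLMain
  Cfsg.Agent.Lib.ONOutL Cfsg.Agent.Lib.ONOutT Cfsg.Agent.Lib.ONOutW Cfsg.Agent.Lib.ONBase
open Cfsg.Spor Cfsg.Spor.ON Cfsg.Agent.TcData.ON Cfsg.Agent.TcData.ON.I122760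
  Cfsg.Agent.Lib.TcPres Cfsg.Agent.Lib.TcBits
  Cfsg.Agent.Lib.ONOutG

theorem k0_1 : fixAt (flat 1 (cd 0) rB) 1 = false := by decide +kernel
theorem k0_2 : fixAt (flat 2 (cd 0) rB) 1 = false := by decide +kernel
theorem k0_4 : fixAt (flat 4 (cd 0) rB) 1 = false := by decide +kernel
theorem k1_1 : fixAt (flat 1 (cd 1) rB) 31 = false := by decide +kernel
theorem k1_2 : fixAt (flat 2 (cd 1) rB) 1 = false := by decide +kernel
theorem k1_4 : fixAt (flat 4 (cd 1) rB) 1 = false := by decide +kernel
theorem k2 : fixAt (cd 2 ++ cd 2 ++ cd 2) 1 = false := by decide +kernel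
theorem k3_1 : fixAt (flat 1 (cd 3) rB) 1 = false := by decide +kernel
theorem k3_2 : fixAt (flat 2 (cd 3) rB) 1 = false := by decide +kernel
theorem k3_4 : fixAt (flat 4 (cd 3) rB) 1 = false := by decide +kernel
theorem k4 : fixAt (cd 4 ++ cd 4 ++ cd 4) 1 = false := by decide +kernel
theorem k5 : fixAt (cd 5 ++ cd 5 ++ cd 5) 1 = false := by decide +kernel
theorem k6 : fixAt (cd 6 ++ cd 6 ++ cd 6) 1 = false := by decide +kernel
theorem k7 : fixAt (cd 7 ++ cd 7 ++ cd 7) 1 = false := by decide +kernel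
theorem k8 : fixAt (cd 8 ++ cd 8 ++ cd 8) 1 = false := by decide +kernel
theorem k9 : fixAt (cd 9 ++ cd 9 ++ cd 9) 1 = false := by decide +kernel
theorem k10 : fixAt (cd 10 ++ cd 10 ++ cd 10) 1 = false := by decide +kernel
theorem k11 : fixAt (cd 11 ++ cd 11 ++ cd 11) 1 = false := by decide +kernel
theorem k12 : fixAt (cd 12 ++ cd 12 ++ cd 12) 0 = false := by decide +kernel
theorem k13 : fixAt (cd 13 ++ cd 13 ++ cd 13) 0 = false := by decide +kernel
theorem k14 : fixAt (cd 14 ++ cd 14 ++ cd 14) 0 = false := by decide +kernel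
theorem k15 : fixAt (cd 15 ++ cd 15 ++ cd 15) 0 = false := by decide +kernel
theorem k16 : fixAt (cd 16 ++ cd 16 ++ cd 16) 0 = false := by decide +kernel
theorem k17 : fixAt (cd 17 ++ cd 17 ++ cd 17) 0 = false := by decide +kernel
theorem k18 : fixAt (cd 18 ++ cd 18 ++ cd 18) 0 = false := by decide +kernel
theorem k19 : fixAt (cd 19 ++ cd 19 ++ cd 19) 0 = false := by decide +kernel
theorem k20 : fixAt (cd 20 ++ cd 20 ++ cd 20) 0 = false := by decide +kernel
theorem k21 : fixAt (cd 21 ++ cd 21 ++ cd 21) 0 = false := by decide +kernel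
theorem k22 : fixAt (cd 22 ++ cd 22 ++ cd 22) 0 = false := by decide +kernel
theorem k23 : fixAt (cd 23 ++ cd 23 ++ cd 23) 0 = false := by decide +kernel
theorem k24 : fixAt (cd 24 ++ cd 24 ++ cd 24) 0 = false := by decide +kernel
theorem k25 : fixAt (cd 25 ++ cd 25 ++ cd 25) 0 = false := by decide +kernel
theorem k26 : fixAt (cd 26 ++ cd 26 ++ cd 26) 0 = false := by decide +kernel
theorem k27 : fixAt (cd 27 ++ cd 27 ++ cd 27) 0 = false := by decide +kernel
theorem k28 : fixAt (cd 28 ++ cd 28 ++ cd 28) 0 = false := by decide +kernel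
theorem k29 : fixAt (cd 29 ++ cd 29 ++ cd 29) 0 = false := by decide +kernel
theorem k30 : fixAt (cd 30 ++ cd 30 ++ cd 30) 0 = false := by decide +kernel
theorem k31 : fixAt (cd 31 ++ cd 31 ++ cd 31) 0 = false := by decide +kernel
theorem k32 : fixAt (cd 32 ++ cd 32 ++ cd 32) 0 = false := by decide +kernel
theorem k33 : fixAt (cd 33 ++ cd 33 ++ cd 33) 0 = false := by decide +kernel
theorem k34 : fixAt (cd 34 ++ cd 34 ++ cd 34) 0 = false := by decide +kernel
theorem k35 : fixAt (cd 35 ++ cd 35 ++ cd 35) 0 = false := by decide +kernel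
theorem k36 : fixAt (cd 36 ++ cd 36 ++ cd 36) 1 = false := by decide +kernel
theorem k37 : fixAt (cd 37 ++ cd 37 ++ cd 37) 1 = false := by decide +kernel
theorem k38 : fixAt (cd 38 ++ cd 38 ++ cd 38) 1 = false := by decide +kernel
theorem k39 : fixAt (cd 39 ++ cd 39 ++ cd 39) 1 = false := by decide +kernel
theorem k40 : fixAt (cd 40 ++ cd 40 ++ cd 40) 1 = false := by decide +kernel
theorem k41 : fixAt (cd 41 ++ cd 41 ++ cd 41) 1 = false := by decide +kernel
theorem k42_1 : fixAt (flat 1 (cd 42) rB) 0 = false := by decide +kernel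
theorem k42_2 : fixAt (flat 2 (cd 42) rB) 0 = false := by decide +kernel
theorem k42_4 : fixAt (flat 4 (cd 42) rB) 0 = false := by decide +kernel
theorem k43_2 : fixAt (flat 2 (cd 43) rB) 0 = false := by decide +kernel
theorem k43_4 : fixAt (flat 4 (cd 43) rB) 0 = false := by decide +kernel
theorem k44 : fixAt (cd 44 ++ cd 44 ++ cd 44) 1 = false := by decide +kernel
theorem k45_1 : fixAt (flat 1 (cd 45) rB) 0 = false := by decide +kernel
theorem k45_2 : fixAt (flat 2 (cd 45) rB) 0 = false := by decide +kernel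
theorem k45_4 : fixAt (flat 4 (cd 45) rB) 0 = false := by decide +kernel
theorem k46 : fixAt (cd 46 ++ cd 46 ++ cd 46) 1 = false := by decide +kernel
theorem k47 : fixAt (cd 47 ++ cd 47 ++ cd 47) 1 = false := by decide +kernel
theorem k48 : fixAt (cd 48 ++ cd 48 ++ cd 48) 0 = false := by decide +kernel
theorem k49 : fixAt (cd 49 ++ cd 49 ++ cd 49) 0 = false := by decide +kernel
theorem k50 : fixAt (cd 50 ++ cd 50 ++ cd 50) 0 = false := by decide +kernel
theorem k51 : fixAt (cd 51 ++ cd 51 ++ cd 51) 0 = false := by decide +kernel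
theorem k52 : fixAt (cd 52 ++ cd 52 ++ cd 52) 0 = false := by decide +kernel
theorem k53 : fixAt (cd 53 ++ cd 53 ++ cd 53) 0 = false := by decide +kernel
theorem k54 : fixAt (cd 54 ++ cd 54 ++ cd 54) 0 = false := by decide +kernel
theorem k55 : fixAt (cd 55 ++ cd 55 ++ cd 55) 0 = false := by decide +kernel
theorem k56 : fixAt (cd 56 ++ cd 56 ++ cd 56) 0 = false := by decide +kernel
theorem k57 : fixAt (cd 57 ++ cd 57 ++ cd 57) 0 = false := by decide +kernel
theorem k58 : fixAt (cd 58 ++ cd 58 ++ cd 58) 0 = false := by decide +kernel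
theorem k59 : fixAt (cd 59 ++ cd 59 ++ cd 59) 0 = false := by decide +kernel
theorem k60 : fixAt (cd 60 ++ cd 60 ++ cd 60) 1 = false := by decide +kernel
theorem k61 : fixAt (cd 61 ++ cd 61 ++ cd 61) 1 = false := by decide +kernel
theorem k62 : fixAt (cd 62 ++ cd 62 ++ cd 62) 1 = false := by decide +kernel
theorem k63 : fixAt (cd 63 ++ cd 63 ++ cd 63) 1 = false := by decide +kernel
theorem k64 : fixAt (cd 64 ++ cd 64 ++ cd 64) 1 = false := by decide +kernel
theorem k65 : fixAt (cd 65 ++ cd 65 ++ cd 65) 1 = false := by decide +kernel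
theorem k66 : fixAt (cd 66 ++ cd 66 ++ cd 66) 1 = false := by decide +kernel
theorem k67 : fixAt (cd 67 ++ cd 67 ++ cd 67) 1 = false := by decide +kernel
theorem k68_1 : fixAt (flat 1 (cd 68) rB) 0 = false := by decide +kernel
theorem k68_2 : fixAt (flat 2 (cd 68) rB) 0 = false := by decide +kernel
theorem k68_4 : fixAt (flat 4 (cd 68) rB) 0 = false := by decide +kernel
theorem k69 : fixAt (cd 69 ++ cd 69 ++ cd 69) 1 = false := by decide +kernel
theorem k70_1 : fixAt (flat 1 (cd 70) rB) 0 = false := by decide +kernel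
theorem k70_2 : fixAt (flat 2 (cd 70) rB) 0 = false := by decide +kernel
theorem k70_4 : fixAt (flat 4 (cd 70) rB) 0 = false := by decide +kernel
theorem k71_2 : fixAt (flat 2 (cd 71) rB) 0 = false := by decide +kernel
theorem k71_4 : fixAt (flat 4 (cd 71) rB) 0 = false := by decide +kernel

/-- the only elements commuting with `f` satisfying the relations -/
theorem rig {e i : ℕ} (he : e = 1 ∨ e = 2 ∨ e = 4) (hi : i < 72) (h3 : elt (cd i ++ cd i ++ cd i) = 1)
    (hB : elt (flat e (cd i) rB) = 1) : e = 1 ∧ (i = 71 ∨ i = 43) := by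
  interval_cases i
  · rcases he with rfl | rfl | rfl
    · exact absurd hB (ne_one_of_moved k0_1)
    · exact absurd hB (ne_one_of_moved k0_2)
    · exact absurd hB (ne_one_of_moved k0_4)
  · rcases he with rfl | rfl | rfl
    · exact absurd hB (ne_one_of_moved k1_1)
    · exact absurd hB (ne_one_of_moved k1_2)
    · exact absurd hB (ne_one_of_moved k1_4)
  · exact absurd h3 (ne_one_of_moved k2)
  · rcases he with rfl | rfl | rfl
    · exact absurd hB (ne_one_of_moved k3_1)
    · exact absurd hB (ne_one_of_moved k3_2)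
    · exact absurd hB (ne_one_of_moved k3_4)
  · exact absurd h3 (ne_one_of_moved k4)
  · exact absurd h3 (ne_one_of_moved k5)
  · exact absurd h3 (ne_one_of_moved k6)
  · exact absurd h3 (ne_one_of_moved k7)
  · exact absurd h3 (ne_one_of_moved k8)
  · exact absurd h3 (ne_one_of_moved k9)
  · exact absurd h3 (ne_one_of_moved k10)
  · exact absurd h3 (ne_one_of_moved k11)
  · exact absurd h3 (ne_one_of_moved k12)
  · exact absurd h3 (ne_one_of_moved k13)
  · exact absurd h3 (ne_one_of_moved k14)
  · exact absurd h3 (ne_one_of_moved k15)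
  · exact absurd h3 (ne_one_of_moved k16)
  · exact absurd h3 (ne_one_of_moved k17)
  · exact absurd h3 (ne_one_of_moved k18)
  · exact absurd h3 (ne_one_of_moved k19)
  · exact absurd h3 (ne_one_of_moved k20)
  · exact absurd h3 (ne_one_of_moved k21)
  · exact absurd h3 (ne_one_of_moved k22)
  · exact absurd h3 (ne_one_of_moved k23)
  · exact absurd h3 (ne_one_of_moved k24)
  · exact absurd h3 (ne_one_of_moved k25)
  · exact absurd h3 (ne_one_of_moved k26)
  · exact absurd h3 (ne_one_of_moved k27)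
  · exact absurd h3 (ne_one_of_moved k28)
  · exact absurd h3 (ne_one_of_moved k29)
  · exact absurd h3 (ne_one_of_moved k30)
  · exact absurd h3 (ne_one_of_moved k31)
  · exact absurd h3 (ne_one_of_moved k32)
  · exact absurd h3 (ne_one_of_moved k33)
  · exact absurd h3 (ne_one_of_moved k34)
  · exact absurd h3 (ne_one_of_moved k35)
  · exact absurd h3 (ne_one_of_moved k36)
  · exact absurd h3 (ne_one_of_moved k37)
  · exact absurd h3 (ne_one_of_moved k38)
  · exact absurd h3 (ne_one_of_moved k39)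
  · exact absurd h3 (ne_one_of_moved k40)
  · exact absurd h3 (ne_one_of_moved k41)
  · rcases he with rfl | rfl | rfl
    · exact absurd hB (ne_one_of_moved k42_1)
    · exact absurd hB (ne_one_of_moved k42_2)
    · exact absurd hB (ne_one_of_moved k42_4)
  · rcases he with rfl | rfl | rfl
    · exact ⟨rfl, by decide⟩
    · exact absurd hB (ne_one_of_moved k43_2)
    · exact absurd hB (ne_one_of_moved k43_4)
  · exact absurd h3 (ne_one_of_moved k44)
  · rcases he with rfl | rfl | rfl
    · exact absurd hB (ne_one_of_moved k45_1)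
    · exact absurd hB (ne_one_of_moved k45_2)
    · exact absurd hB (ne_one_of_moved k45_4)
  · exact absurd h3 (ne_one_of_moved k46)
  · exact absurd h3 (ne_one_of_moved k47)
  · exact absurd h3 (ne_one_of_moved k48)
  · exact absurd h3 (ne_one_of_moved k49)
  · exact absurd h3 (ne_one_of_moved k50)
  · exact absurd h3 (ne_one_of_moved k51)
  · exact absurd h3 (ne_one_of_moved k52)
  · exact absurd h3 (ne_one_of_moved k53)
  · exact absurd h3 (ne_one_of_moved k54)
  · exact absurd h3 (ne_one_of_moved k55)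
  · exact absurd h3 (ne_one_of_moved k56)
  · exact absurd h3 (ne_one_of_moved k57)
  · exact absurd h3 (ne_one_of_moved k58)
  · exact absurd h3 (ne_one_of_moved k59)
  · exact absurd h3 (ne_one_of_moved k60)
  · exact absurd h3 (ne_one_of_moved k61)
  · exact absurd h3 (ne_one_of_moved k62)
  · exact absurd h3 (ne_one_of_moved k63)
  · exact absurd h3 (ne_one_of_moved k64)
  · exact absurd h3 (ne_one_of_moved k65)
  · exact absurd h3 (ne_one_of_moved k66)
  · exact absurd h3 (ne_one_of_moved k67)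
  · rcases he with rfl | rfl | rfl
    · exact absurd hB (ne_one_of_moved k68_1)
    · exact absurd hB (ne_one_of_moved k68_2)
    · exact absurd hB (ne_one_of_moved k68_4)
  · exact absurd h3 (ne_one_of_moved k69)
  · rcases he with rfl | rfl | rfl
    · exact absurd hB (ne_one_of_moved k70_1)
    · exact absurd hB (ne_one_of_moved k70_2)
    · exact absurd hB (ne_one_of_moved k70_4)
  · rcases he with rfl | rfl | rfl
    · exact ⟨rfl, by decide⟩
    · exact absurd hB (ne_one_of_moved k71_2)
    · exact absurd hB (ne_one_of_moved k71_4)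

end

end Cfsg.Agent.Lib.ONOutK
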