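import Cfsg.Agent.Lib.ONOutG

/-!
# `Out` of the O'Nan group: the relators for the outer automorphism
-/

set_option autoImplicit false
set_option maxRecDepth 100000
set_option Elab.async false

namespace Cfsg.Agent.Lib.ONOutR

noncomputable section

open Cfsg.Agent.Lib.PermChain Cfsg.Agent.Lib.ProgChain Cfsg.Agent.Lib.SparseDfs
  Cfsg.Agent.Lib.SparseDfs2 Cfsg.Agent.Lib.SparseDfs3 Cfsg.Agent.Lib.ONLMain
  Cfsg.Agent.Lib.ONOutL Cfsg.Agent.Lib.ONOutT Cfsg.Agent.Lib.ONOutW Cfsg.Agent.Lib.ONBase
open Cfsg.Spor Cfsg.Spor.ON Cfsg.Agent.TcData.ON Cfsg.Agent.TcData.ON.I122760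
  Cfsg.Agent.Lib.TcPres Cfsg.Agent.Lib.TcBits
  Cfsg.Agent.Lib.ONOutG

theorem c_a_a : fixChk (expandB ((FreeGroup.of Gen.a * FreeGroup.of Gen.a) ^ coxLabel edges Gen.a Gen.a).toWord) = true := by decide +kernel
theorem c_a_b : fixChk (expandB ((FreeGroup.of Gen.a * FreeGroup.of Gen.b) ^ coxLabel edges Gen.a Gen.b).toWord) = true := by decide +kernel
theorem c_a_c : fixChk (expandB ((FreeGroup.of Gen.a * FreeGroup.of Gen.c) ^ coxLabel edges Gen.a Gen.c).toWord) = true := by decide +kernel
theorem c_a_d : fixChk (expandB ((FreeGroup.of Gen.a * FreeGroup.of Gen.d) ^ coxLabel edges Gen.a Gen.d).toWord) = true := by decide +kernel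
theorem c_a_e : fixChk (expandB ((FreeGroup.of Gen.a * FreeGroup.of Gen.e) ^ coxLabel edges Gen.a Gen.e).toWord) = true := by decide +kernel
theorem c_a_f : fixChk (expandB ((FreeGroup.of Gen.a * FreeGroup.of Gen.f) ^ coxLabel edges Gen.a Gen.f).toWord) = true := by decide +kernel
theorem c_b_a : fixChk (expandB ((FreeGroup.of Gen.b * FreeGroup.of Gen.a) ^ coxLabel edges Gen.b Gen.a).toWord) = true := by decide +kernel
theorem c_b_b : fixChk (expandB ((FreeGroup.of Gen.b * FreeGroup.of Gen.b) ^ coxLabel edges Gen.b Gen.b).toWord) = true := by decide +kernel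
theorem c_b_c : fixChk (expandB ((FreeGroup.of Gen.b * FreeGroup.of Gen.c) ^ coxLabel edges Gen.b Gen.c).toWord) = true := by decide +kernel
theorem c_b_d : fixChk (expandB ((FreeGroup.of Gen.b * FreeGroup.of Gen.d) ^ coxLabel edges Gen.b Gen.d).toWord) = true := by decide +kernel
theorem c_b_e : fixChk (expandB ((FreeGroup.of Gen.b * FreeGroup.of Gen.e) ^ coxLabel edges Gen.b Gen.e).toWord) = true := by decide +kernel
theorem c_b_f : fixChk (expandB ((FreeGroup.of Gen.b * FreeGroup.of Gen.f) ^ coxLabel edges Gen.b Gen.f).toWord) = true := by decide +kernel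
theorem c_c_a : fixChk (expandB ((FreeGroup.of Gen.c * FreeGroup.of Gen.a) ^ coxLabel edges Gen.c Gen.a).toWord) = true := by decide +kernel
theorem c_c_b : fixChk (expandB ((FreeGroup.of Gen.c * FreeGroup.of Gen.b) ^ coxLabel edges Gen.c Gen.b).toWord) = true := by decide +kernel
theorem c_c_c : fixChk (expandB ((FreeGroup.of Gen.c * FreeGroup.of Gen.c) ^ coxLabel edges Gen.c Gen.c).toWord) = true := by decide +kernel
theorem c_c_d : fixChk (expandB ((FreeGroup.of Gen.c * FreeGroup.of Gen.d) ^ coxLabel edges Gen.c Gen.d).toWord) = true := by decide +kernel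
theorem c_c_e : fixChk (expandB ((FreeGroup.of Gen.c * FreeGroup.of Gen.e) ^ coxLabel edges Gen.c Gen.e).toWord) = true := by decide +kernel
theorem c_c_f : fixChk (expandB ((FreeGroup.of Gen.c * FreeGroup.of Gen.f) ^ coxLabel edges Gen.c Gen.f).toWord) = true := by decide +kernel
theorem c_d_a : fixChk (expandB ((FreeGroup.of Gen.d * FreeGroup.of Gen.a) ^ coxLabel edges Gen.d Gen.a).toWord) = true := by decide +kernel
theorem c_d_b : fixChk (expandB ((FreeGroup.of Gen.d * FreeGroup.of Gen.b) ^ coxLabel edges Gen.d Gen.b).toWord) = true := by decide +kernel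
theorem c_d_c : fixChk (expandB ((FreeGroup.of Gen.d * FreeGroup.of Gen.c) ^ coxLabel edges Gen.d Gen.c).toWord) = true := by decide +kernel
theorem c_d_d : fixChk (expandB ((FreeGroup.of Gen.d * FreeGroup.of Gen.d) ^ coxLabel edges Gen.d Gen.d).toWord) = true := by decide +kernel
theorem c_d_e : fixChk (expandB ((FreeGroup.of Gen.d * FreeGroup.of Gen.e) ^ coxLabel edges Gen.d Gen.e).toWord) = true := by decide +kernel
theorem c_d_f : fixChk (expandB ((FreeGroup.of Gen.d * FreeGroup.of Gen.f) ^ coxLabel edges Gen.d Gen.f).toWord) = true := by decide +kernel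
theorem c_e_a : fixChk (expandB ((FreeGroup.of Gen.e * FreeGroup.of Gen.a) ^ coxLabel edges Gen.e Gen.a).toWord) = true := by decide +kernel
theorem c_e_b : fixChk (expandB ((FreeGroup.of Gen.e * FreeGroup.of Gen.b) ^ coxLabel edges Gen.e Gen.b).toWord) = true := by decide +kernel
theorem c_e_c : fixChk (expandB ((FreeGroup.of Gen.e * FreeGroup.of Gen.c) ^ coxLabel edges Gen.e Gen.c).toWord) = true := by decide +kernel
theorem c_e_d : fixChk (expandB ((FreeGroup.of Gen.e * FreeGroup.of Gen.d) ^ coxLabel edges Gen.e Gen.d).toWord) = true := by decide +kernel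
theorem c_e_e : fixChk (expandB ((FreeGroup.of Gen.e * FreeGroup.of Gen.e) ^ coxLabel edges Gen.e Gen.e).toWord) = true := by decide +kernel
theorem c_e_f : fixChk (expandB ((FreeGroup.of Gen.e * FreeGroup.of Gen.f) ^ coxLabel edges Gen.e Gen.f).toWord) = true := by decide +kernel
theorem c_f_a : fixChk (expandB ((FreeGroup.of Gen.f * FreeGroup.of Gen.a) ^ coxLabel edges Gen.f Gen.a).toWord) = true := by decide +kernel
theorem c_f_b : fixChk (expandB ((FreeGroup.of Gen.f * FreeGroup.of Gen.b) ^ coxLabel edges Gen.f Gen.b).toWord) = true := by decide +kernel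
theorem c_f_c : fixChk (expandB ((FreeGroup.of Gen.f * FreeGroup.of Gen.c) ^ coxLabel edges Gen.f Gen.c).toWord) = true := by decide +kernel
theorem c_f_d : fixChk (expandB ((FreeGroup.of Gen.f * FreeGroup.of Gen.d) ^ coxLabel edges Gen.f Gen.d).toWord) = true := by decide +kernel
theorem c_f_e : fixChk (expandB ((FreeGroup.of Gen.f * FreeGroup.of Gen.e) ^ coxLabel edges Gen.f Gen.e).toWord) = true := by decide +kernel
theorem c_f_f : fixChk (expandB ((FreeGroup.of Gen.f * FreeGroup.of Gen.f) ^ coxLabel edges Gen.f Gen.f).toWord) = true := by decide +kernel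
theorem e_0 : fixChk (expandB (extra.getD 0 1).toWord) = true := by decide +kernel
theorem e_1 : fixChk (expandB (extra.getD 1 1).toWord) = true := by decide +kernel
theorem e_2 : fixChk (expandB (extra.getD 2 1).toWord) = true := by decide +kernel
theorem e_3 : fixChk (expandB (extra.getD 3 1).toWord) = true := by decide +kernel
theorem e_4 : fixChk (expandB (extra.getD 4 1).toWord) = true := by decide +kernel
theorem e_5 : fixChk (expandB (extra.getD 5 1).toWord) = true := by decide +kernel
theorem e_6 : fixChk (expandB (extra.getD 6 1).toWord) = true := by decide +kernel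
theorem s_x : fixChk (expandB wxG ++ invW wxG) = true := by decide +kernel
theorem s_f : fixChk (expandB wfG ++ invW wfG) = true := by decide +kernel
theorem s_y_0 : fixAt (expandB wyG ++ invW wypG) 0 = true := by decide +kernel
theorem s_y_1 : fixAt (expandB wyG ++ invW wypG) 1 = true := by decide +kernel
theorem s_y_31 : fixAt (expandB wyG ++ invW wypG) 31 = true := by decide +kernel

theorem hc : ∀ x ∈ nodesL, ∀ y ∈ nodesL,
    fixChk (expandB ((FreeGroup.of x * FreeGroup.of y) ^ coxLabel edges x y).toWord) = true := by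
  intro x hx y hy
  simp only [nodesL, List.mem_cons, List.not_mem_nil, or_false] at hx hy
  rcases hx with rfl | rfl | rfl | rfl | rfl | rfl <;> rcases hy with rfl | rfl | rfl | rfl | rfl | rfl
  exacts [c_a_a, c_a_b, c_a_c, c_a_d, c_a_e, c_a_f, c_b_a, c_b_b, c_b_c, c_b_d, c_b_e, c_b_f, c_c_a, c_c_b, c_c_c, c_c_d, c_c_e, c_c_f, c_d_a, c_d_b, c_d_c, c_d_d, c_d_e, c_d_f, c_e_a, c_e_b, c_e_c, c_e_d, c_e_e, c_e_f, c_f_a, c_f_b, c_f_c, c_f_d, c_f_e, c_f_f]

theorem he0 : ∀ i, i < extra.length → fixChk (expandB (extra.getD i 1).toWord) = true := by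
  intro i hi
  have hl : extra.length = 7 := rfl
  rw [hl] at hi
  interval_cases i
  exacts [e_0, e_1, e_2, e_3, e_4, e_5, e_6]

theorem he : ∀ r ∈ extra, fixChk (expandB r.toWord) = true := by
  intro r hr
  obtain ⟨i, hi, rfl⟩ := List.getElem_of_mem hr
  have := he0 i hi
  rwa [List.getD_eq_getElem _ _ hi] at this

end

end Cfsg.Agent.Lib.ONOutR
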