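import Cfsg.Agent.Lib.ONOutD
import Cfsg.Agent.Lib.ONOutK
import Cfsg.Agent.Lib.ONOutR
import Cfsg.Agent.Lib.OutNorm2

/-!
# `Out` of the O'Nan group has order 2
-/

set_option autoImplicit false
set_option maxRecDepth 100000

namespace Cfsg.Agent.Lib.ONOutM

open Cfsg Cfsg.Agent.Lib.PermChain Cfsg.Agent.Lib.ProgChain Cfsg.Agent.Lib.SparseDfs
  Cfsg.Agent.Lib.SparseDfs2 Cfsg.Agent.Lib.SparseDfs3 Cfsg.Agent.Lib.ONLMain
  Cfsg.Agent.Lib.ONOutL Cfsg.Agent.Lib.ONOutT Cfsg.Agent.Lib.ONOutW Cfsg.Agent.Lib.ONBase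
  Cfsg.Agent.Lib.ONOutH Cfsg.Agent.Lib.ONOutD Cfsg.Agent.Lib.ONOutG Cfsg.Agent.Lib.ONOutK Cfsg.Agent.Lib.ONOutR
  Cfsg.Agent.Lib.OutNorm Cfsg.Agent.Lib.OutNorm2
open Cfsg.Spor Cfsg.Spor.ON Cfsg.Agent.TcData.ON Cfsg.Agent.TcData.ON.I122760
  Cfsg.Agent.Lib.TcPres Cfsg.Agent.Lib.TcBits

/-- the element `x` of order 19 -/
noncomputable abbrev xG : GO := elt wxG
/-- the element `f` of order 6 acting on `x` -/
noncomputable abbrev fG : GO := elt wfG
/-- the element `y` of order 3 commuting with `f` -/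
noncomputable abbrev yG : GO := elt wyG
/-- the image of `y` by the outer automorphism -/
noncomputable abbrev ypG : GO := elt wypG

theorem elt_xpow (e : ℕ) : elt (xpow e) = xG ^ e := by
  induction e with
  | zero => exact elt_nil
  | succ e ih =>
    have : xpow (e + 1) = wxG ++ xpow e := by
      simp [xpow, List.replicate_succ]
    rw [this, elt_append, ih, pow_succ']

theorem x_pow : xG ^ 19 = 1 := by
  rw [← elt_xpow]
  exact one_of_fixChk x_ord

theorem x_ne : xG ≠ 1 := ne_one_of_moved x_moved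

theorem order_x : orderOf xG = 19 := by
  have : Fact (Nat.Prime 19) := ⟨by norm_num⟩
  exact orderOf_eq_prime x_pow x_ne

theorem f_x_G : fG * xG * fG⁻¹ = xG ^ 8 := by
  have h := one_of_fixChk f_x
  simp only [elt_append, elt_invW, elt_xpow] at h
  rw [mul_inv_eq_one] at h
  exact h

theorem y_f_G : yG * fG = fG * yG := by
  have h := one_of_fixChk y_f
  simp only [elt_append, elt_invW] at h
  rw [mul_inv_eq_one, mul_inv_eq_iff_eq_mul] at h
  exact h

theorem small_spec {w : List ℕ} (h : small w = true) : ∀ i ∈ w, i < 6 := by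
  intro i hi
  have := (List.all_eq_true.mp h) i hi
  exact Nat.le_of_ble_eq_true this

theorem x_fix0 : wP wxG 0 = 0 := by
  rw [← Phi_elt]
  exact hfix _ (elt_wH_mem wx)

theorem f_fix0 : wP wfG 0 = 0 := by
  rw [← Phi_elt]
  exact hfix _ (elt_wH_mem wf)

theorem testBit_one {k : ℕ} (h : Nat.testBit 1 k = true) : k = 0 := by
  cases k with
  | zero => rfl
  | succ k => simp [Nat.testBit_succ] at h

/-- the centralizer of `x` -/
theorem cent_x (y : GO) (hc : y * xG = xG * y) : ∃ k : ℕ, y = xG ^ k := by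
  have h0 : Phi y 0 = 0 := testBit_one (fixed_mem mask_x (lt_of_image y) (image_fixed x_fix0 hc))
  have hy : y ∈ HH := mem_HH h0
  let xH : HH := ⟨elt (wH wx), elt_wH_mem wx⟩
  have hc' : (⟨y, hy⟩ : HH) * xH = xH * ⟨y, hy⟩ := Subtype.ext hc
  have h2 := congrArg theta hc'
  rw [map_mul, map_mul] at h2
  have h3 : theta xH = prodW g wx := theta_wH wx (small_spec small_wx)
  rw [h3] at h2
  obtain ⟨k, hk⟩ := cent_x_L (theta_mem _) h2
  refine ⟨k, ?_⟩
  have h4 : (⟨y, hy⟩ : HH) = xH ^ k := theta_inj (by rw [hk, map_pow, h3])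
  exact congrArg Subtype.val h4

theorem testBit_foldr {p : ℕ} : ∀ l : List ℕ,
    (l.foldr (fun q M => Nat.lor (2 ^ q) M) 0).testBit p = true → p ∈ l := by
  intro l
  induction l with
  | nil => simp
  | cons q l ih =>
    intro h
    rw [List.foldr_cons] at h
    have h1 : ∀ a b k : ℕ, (Nat.lor a b).testBit k = (a.testBit k || b.testBit k) :=
      fun a b k => Nat.testBit_or a b k
    rw [h1, Bool.or_eq_true, Nat.testBit_two_pow] at h
    rcases h with h | h
    · rw [of_decide_eq_true h]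
      exact List.mem_cons_self
    · exact List.mem_cons_of_mem _ (ih h)

/-- the elements commuting with `f` -/
theorem cent_f (z : GO) (hc : z * fG = fG * z) : ∃ i, i < 72 ∧ z = elt (cd i) := by
  have h1 : Fm.testBit (Phi z 0) = true := fixed_mem mask_f (lt_of_image z) (image_fixed f_fix0 hc)
  have h2 := testBit_foldr _ h1
  rw [List.mem_map] at h2
  obtain ⟨d, hd, hdq⟩ := h2
  obtain ⟨hu, hq⟩ := chkU d hd
  set U := elt d.U with hU
  have hU0 : Phi U 0 = d.q := by
    rw [hU, Phi_elt]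
    exact wP_of_imgAt hu
  have hh0 : Phi (U⁻¹ * z) 0 = 0 := by
    rw [map_mul, map_inv, Equiv.Perm.mul_apply, ← hdq, ← hU0]
    exact (Phi U).symm_apply_apply 0
  have hH : U⁻¹ * z ∈ HH := mem_HH hh0
  have hq' : U⁻¹ * fG * U = elt (wH d.wq) := by
    have h := one_of_fixChk hq
    simp only [elt_append, elt_invW] at h
    rw [mul_inv_eq_one] at h
    exact h
  have hconj : (U⁻¹ * z) * fG = elt (wH d.wq) * (U⁻¹ * z) := by
    rw [← hq']
    calc U⁻¹ * z * fG = U⁻¹ * (z * fG) := by group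
      _ = U⁻¹ * (fG * z) := by rw [hc]
      _ = U⁻¹ * fG * U * (U⁻¹ * z) := by group
  have hq2 := chkQ_of hd
  simp only [chkQ, Bool.and_eq_true, List.all_eq_true] at hq2
  obtain ⟨⟨⟨⟨⟨⟨⟨hs, -⟩, -⟩, -⟩, -⟩, -⟩, hcs⟩, -⟩ := hq2
  let fH : HH := ⟨elt (wH wf), elt_wH_mem wf⟩
  let qH : HH := ⟨elt (wH d.wq), elt_wH_mem d.wq⟩
  have hc' : (⟨U⁻¹ * z, hH⟩ : HH) * fH = qH * ⟨U⁻¹ * z, hH⟩ := Subtype.ext hconj
  have h3 := congrArg theta hc'
  rw [map_mul, map_mul] at h3
  have h4 : theta fH = prodW g wf := theta_wH wf (small_spec small_wf)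
  have h5 : theta qH = prodW g d.wq := theta_wH d.wq (small_spec hs)
  rw [h4, h5] at h3
  obtain ⟨C, hC, hCe⟩ := conj_f_L (theta_mem _) hd h3
  have hC2 := hcs C hC
  have h6 : (⟨U⁻¹ * z, hH⟩ : HH) = ⟨elt (wH C.1), elt_wH_mem C.1⟩ :=
    theta_inj (by rw [hCe, theta_wH C.1 (small_spec hC2.1)])
  have h7 : U⁻¹ * z = elt (wH C.1) := congrArg Subtype.val h6
  have h8 : z = elt (d.U ++ wH C.1) := by
    rw [elt_append, ← h7, ← hU]
    group
  have hmem : d.U ++ wH C.1 ∈ allC :=
    List.mem_flatMap.mpr ⟨d, hd, List.mem_map.mpr ⟨C, hC, rfl⟩⟩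
  obtain ⟨i, hi, hie⟩ := List.getElem_of_mem hmem
  refine ⟨i, allC_len ▸ hi, ?_⟩
  rw [h8, ← hie]
  congr 1
  exact (List.getD_eq_getElem _ _ hi).symm

/-! ### the images of words in the letters -/

theorem SS_map (β : MulAut GO) {e : ℕ} {z : List (Gen × Bool)} (h1 : β xG = xG ^ e) (h2 : β fG = fG) (h3 : β yG = elt z)
    (l : ℕ) : β (elt (SS 1 wyG l)) = elt (SS e z l) := by
  match l with
  | 0 =>
    show β (elt (xpow 1)) = elt (xpow e)
    rw [elt_xpow, elt_xpow, pow_one, h1]
  | 1 =>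
    show β (elt (invW (xpow 1))) = elt (invW (xpow e))
    rw [elt_invW, elt_invW, elt_xpow, elt_xpow, pow_one, map_inv, h1]
  | 2 => exact h2
  | 3 =>
    show β (elt (invW wfG)) = elt (invW wfG)
    rw [elt_invW, map_inv, h2]
  | 4 => exact h3
  | 5 =>
    show β (elt (invW wyG)) = elt (invW z)
    rw [elt_invW, elt_invW, map_inv, h3]
  | n + 6 =>
    show β (elt []) = elt []
    rw [elt_nil, map_one]

theorem flat_map (β : MulAut GO) {e : ℕ} {z : List (Gen × Bool)} (h1 : β xG = xG ^ e) (h2 : β fG = fG)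
    (h3 : β yG = elt z) (r : List ℕ) : β (elt (flat 1 wyG r)) = elt (flat e z r) := by
  induction r with
  | nil =>
    show β (elt []) = elt []
    rw [elt_nil, map_one]
  | cons l r ih =>
    have h4 : ∀ e z, flat e z (l :: r) = SS e z l ++ flat e z r := fun _ _ => List.flatMap_cons ..
    rw [h4, h4, elt_append, elt_append, map_mul, ih, SS_map β h1 h2 h3]

/-- the rigidity of `x`, `f` -/
theorem norm_rig (β : MulAut GO) {e : ℕ} (he : e = 1 ∨ e = 2 ∨ e = 4) (h1 : β xG = xG ^ e) (h2 : β fG = fG) :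
    e = 1 ∧ (β yG = yG ∨ β yG = ypG) := by
  have hc : β yG * fG = fG * β yG := by
    have h3 := congrArg β y_f_G
    simp only [map_mul, h2] at h3
    exact h3
  obtain ⟨i, hi, hz⟩ := cent_f _ hc
  have h3 : elt (cd i ++ cd i ++ cd i) = 1 := by
    have h4 := one_of_fixChk y_ord
    have h5 := congrArg β h4
    simp only [elt_append, map_mul, map_one] at h5
    simp only [elt_append]
    rw [← hz]
    exact h5
  have hB : elt (flat e (cd i) rB) = 1 := by
    rw [← flat_map β h1 h2 hz, one_of_fixChk y_rB, map_one]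
  obtain ⟨he1, h5⟩ := rig he hi h3 hB
  refine ⟨he1, ?_⟩
  rcases h5 with rfl | rfl
  · exact Or.inl hz
  · exact Or.inr hz

theorem hcand (β : MulAut GO) (h1 : β xG = xG) (h2 : β fG = fG) : β yG = yG ∨ β yG = ypG :=
  (norm_rig β (Or.inl rfl) (by rw [pow_one]; exact h1) h2).2

/-- automorphisms fixing `x`, `f`, `y` are trivial -/
theorem hgen (β : MulAut GO) (h1 : β xG = xG) (h2 : β fG = fG) (h3 : β yG = yG) : β = 1 := by
  have hS : ∀ t : Gen, β (PresentedGroup.of t) = PresentedGroup.of t := by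
    intro t
    have h4 : elt (flat 1 wyG (wds t)) = elt [(t, true)] := eq_of_fixChk (chk_gen t)
    have h5 := flat_map β (by rw [pow_one]; exact h1) h2 h3 (wds t)
    rw [h4] at h5
    exact h5
  apply MulEquiv.ext
  intro z
  have hz : z ∈ Subgroup.closure (Set.range (PresentedGroup.of : Gen → GO)) := by
    rw [PresentedGroup.closure_range_of]
    trivial
  induction hz using Subgroup.closure_induction with
  | mem y hy =>
    obtain ⟨t, rfl⟩ := hy
    exact hS t
  | one => simp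
  | mul a b _ _ ha hb => rw [map_mul, ha, hb]; rfl
  | inv a _ ha => rw [map_inv, ha]; rfl

/-- the normal form of an automorphism -/
theorem hnf (α : MulAut GO) : ∃ c : GO, (MulAut.conj c * α) xG = xG ∧ (MulAut.conj c * α) fG = fG := by
  have : Fact (Nat.Prime 19) := ⟨by norm_num⟩
  obtain ⟨c, e, he, h1, h2⟩ := normal_form2 (p := 19) (a := 8) (b := 11) [1, 2, 4] (x := xG) (f := fG) (by decide)
    (by rw [card_GO]; norm_num)
    order_x f_x_G
    (by
      intro k hk
      have harith : ∀ r : Fin 19, r.val ≠ 0 → ∃ j : Fin 6, ∃ e ∈ [1, 2, 4], (r.val * 8 ^ j.val) % 19 = e % 19 := by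
        decide
      have hk' : k % 19 ≠ 0 := fun h => hk (Nat.dvd_of_mod_eq_zero h)
      obtain ⟨j, e, he, hj⟩ := harith ⟨k % 19, Nat.mod_lt _ (by norm_num)⟩ hk'
      simp only at hj
      exact ⟨j.val, e, he, ((Nat.mod_modEq k 19).mul_right _).symm.trans hj⟩)
    (by decide)
    cent_x
    α
  have he' : e = 1 ∨ e = 2 ∨ e = 4 := by simpa using he
  have h3 := (norm_rig _ he' h1 h2).1
  subst h3
  exact ⟨c, by simpa using h1, h2⟩

/-! ### the outer automorphism -/

theorem lift_expandB (L : List (Gen × Bool)) :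
    FreeGroup.lift (fun x => elt (wB x)) (FreeGroup.mk L) = elt (expandB L) := by
  rw [FreeGroup.lift_mk]
  induction L with
  | nil => exact elt_nil.symm
  | cons a L ih =>
    have h1 : expandB (a :: L) = cond a.2 (wB a.1) (invW (wB a.1)) ++ expandB L := List.flatMap_cons ..
    rw [h1, elt_append, List.map_cons, List.prod_cons, ih]
    obtain ⟨x, b⟩ := a
    cases b with
    | true => rfl
    | false =>
      simp only [cond_false]
      rw [elt_invW]

theorem hrelB : ∀ r ∈ RR, FreeGroup.lift (fun x => elt (wB x)) r = 1 := by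
  rintro r (⟨x, hx, y, hy, rfl⟩ | hr)
  · rw [← FreeGroup.mk_toWord (x := (FreeGroup.of x * FreeGroup.of y) ^ coxLabel edges x y), lift_expandB]
    exact one_of_fixChk (hc x (hnodes x hx) y (hnodes y hy))
  · rw [← FreeGroup.mk_toWord (x := r), lift_expandB]
    exact one_of_fixChk (he r hr)

/-- the homomorphism of the outer automorphism -/
noncomputable def sigma0 : GO →* GO := PresentedGroup.toGroup hrelB

theorem sigma0_elt (L : List (Gen × Bool)) : sigma0 (elt L) = elt (expandB L) := by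
  rw [← lift_expandB]
  rfl

theorem sigma0_x : sigma0 xG = xG := by
  rw [sigma0_elt]
  exact eq_of_fixChk s_x

theorem simple_GO : IsSimpleGroup GO := Cfsg.Agent.TcData.ON.Fin.final.1

theorem sigma0_bij : Function.Bijective sigma0 :=
  PresBridge.bijective_of_simple simple_GO le_rfl sigma0 (z := xG) (by rw [sigma0_x]; exact x_ne)

/-- the outer automorphism -/
noncomputable def sigma : MulAut GO := MulEquiv.ofBijective sigma0 sigma0_bij

theorem sigma_x : sigma xG = xG := sigma0_x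
theorem sigma_f : sigma fG = fG := by
  show sigma0 fG = fG
  rw [sigma0_elt]
  exact eq_of_fixChk s_f
theorem sigma_y : sigma yG = ypG := by
  show sigma0 yG = ypG
  rw [sigma0_elt]
  have h := one_of_fixAt s_y_0 s_y_1 s_y_31
  rw [elt_append, elt_invW, mul_inv_eq_one] at h
  exact h

theorem y_ne_yp : yG ≠ ypG := by
  intro h
  have h1 := ne_one_of_moved y_ne
  have h' : elt wyG = elt wypG := h
  rw [elt_append, elt_invW, h', mul_inv_cancel] at h1
  exact h1 rfl

theorem sigma_notMem : sigma ∉ Inn GO := by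
  rintro ⟨c, hc⟩
  have h1 : c * xG * c⁻¹ = xG := by
    have := sigma_x
    rw [← hc] at this
    exact this
  have h2 : c * fG * c⁻¹ = fG := by
    have := sigma_f
    rw [← hc] at this
    exact this
  have h3 : c * yG * c⁻¹ = ypG := by
    have := sigma_y
    rw [← hc] at this
    exact this
  obtain ⟨k, rfl⟩ := cent_x c (by rw [mul_inv_eq_iff_eq_mul] at h1; exact h1)
  have h4 : fG * xG ^ k * fG⁻¹ = xG ^ k := by
    have h5 : fG * xG ^ k = xG ^ k * fG := by
      rw [mul_inv_eq_iff_eq_mul] at h2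
      exact h2.symm
    rw [h5, mul_inv_cancel_right]
  rw [← conj_pow, f_x_G, ← pow_mul, pow_eq_pow_iff_modEq, order_x] at h4
  have h5 : k % 19 = 0 := by
    have h6 : (8 * k) % 19 = k % 19 := h4
    omega
  have h6 : xG ^ k = 1 := by
    rw [← orderOf_dvd_iff_pow_eq_one, order_x]
    exact Nat.dvd_of_mod_eq_zero h5
  rw [h6] at h3
  simp only [one_mul, inv_one, mul_one] at h3
  exact y_ne_yp h3

/-- The order of `Out(O'N)`. -/
theorem card_out_ON : Nat.card (Out Cfsg.Spor.ON) = 2 :=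
  card_out_eq_two hnf hgen hcand sigma sigma_notMem

end Cfsg.Agent.Lib.ONOutM
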