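import Mathlib
import Cfsg.Agent.Lib.OddA2
import Cfsg.Agent.Lib.OddLift

set_option autoImplicit false
set_option linter.style.haveILetI false

/-! Piece A2 of S1161 with A1 (`OddLift.exists_lift_character`) plugged in. -/

namespace Cfsg.Agent.Lib.OddA2F

open Cfsg

universe u v

theorem final {D : Type u} {E : Type v} [Group D] [Finite D] [AddCommGroup E] [Finite E]
    [Nontrivial E] [DistribMulAction D E] [FaithfulSMul D E]
    (hodd : Odd (Nat.card D))
    (htrans : ∀ a b : E, a ≠ 0 → b ≠ 0 → ∃ d : D, d • a = b) :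
    IsCyclic D ∨ ∃ (r : ℕ) (x : D) (W : D → ℂ), r.Prime ∧ orderOf x = r ∧
      IsCyclic ↥(Subgroup.centralizer ({x} : Set D)) ∧ IsCharacter D W ∧
      (∀ g, W g = W 1 → g = 1) ∧ (∃ n : ℕ, W 1 = n ∧ 2 * n + 1 ≤ r) ∧
      ∑ i ∈ Finset.range r, W (x ^ i) = 0 := by
  letI := Fintype.ofFinite D
  refine Cfsg.Agent.Lib.OddA2.main hodd htrans ?_
  intro F _ _ hc d rho hd
  haveI : Fact (ringChar F).Prime := ⟨CharP.char_is_prime F (ringChar F)⟩
  exact Cfsg.Agent.Lib.OddLift.exists_lift_character (p := ringChar F) hc hd rho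

end Cfsg.Agent.Lib.OddA2F
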