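import Mathlib

set_option autoImplicit false

namespace Cfsg.Agent.Lib.OddClassSylow

variable {G : Type*} [Group G] [Finite G]

/-- A subgroup of odd index contains a Sylow 2-subgroup. -/
theorem exists_sylow_le_of_odd (D : Subgroup G) (hD : ¬ 2 ∣ D.index) :
    ∃ Q : Sylow 2 G, (Q : Subgroup G) ≤ D := by
  obtain ⟨S⟩ : Nonempty (Sylow 2 D) := inferInstance
  have hcard : Nat.card ((S : Subgroup D).map D.subtype) =
      2 ^ (Nat.card G).factorization 2 := by
    have h1 : Nat.card ((S : Subgroup D).map D.subtype) = Nat.card (S : Subgroup D) :=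
      Subgroup.card_map_of_injective D.subtype_injective
    rw [h1, S.card_eq_multiplicity]
    have h2 : Nat.card D * D.index = Nat.card G := D.card_mul_index
    have hD0 : Nat.card D ≠ 0 := Nat.card_pos.ne'
    have hI0 : D.index ≠ 0 := Subgroup.index_ne_zero_of_finite
    rw [← h2, Nat.factorization_mul hD0 hI0]
    have h3 : D.index.factorization 2 = 0 := Nat.factorization_eq_zero_of_not_dvd hD
    simp [h3]
  refine ⟨Sylow.ofCard _ hcard, ?_⟩
  rw [Sylow.coe_ofCard]
  exact Subgroup.map_subtype_le _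

/-- An element inverted by an involution and with odd class size commutes with it. -/
theorem comm_of_inverted (v i : G) (hv : ¬ 2 ∣ (Subgroup.centralizer ({v} : Set G)).index)
    (hi : i * i = 1) (hiv : i * v * i⁻¹ = v⁻¹) : i * v = v * i := by
  classical
  set C := Subgroup.centralizer ({v} : Set G) with hC
  by_contra hne
  have hiinv : i⁻¹ = i := by
    rw [inv_eq_iff_mul_eq_one]; exact hi
  have hiC : i ∉ C := by
    intro h
    apply hne
    rw [hC, Subgroup.mem_centralizer_singleton_iff] at h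
    exact h
  set N := C ⊔ Subgroup.zpowers i with hN
  have hCN : C ≤ N := le_sup_left
  have hiN : i ∈ N := Subgroup.mem_sup_right (Subgroup.mem_zpowers i)
  have hnorm : N ≤ Subgroup.normalizer (C : Set G) := by
    refine sup_le Subgroup.le_normalizer ?_
    rw [Subgroup.zpowers_le]
    rw [Subgroup.mem_normalizer_iff]
    intro g
    have hv' : i * v⁻¹ * i⁻¹ = v := by
      have := congrArg (·⁻¹) hiv
      simpa [mul_assoc] using this
    have key : ∀ g : G, g ∈ C → i * g * i⁻¹ ∈ C := by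
      intro g hg
      rw [hC, Subgroup.mem_centralizer_singleton_iff] at hg ⊢
      have h1 : g * v⁻¹ = v⁻¹ * g := by
        calc g * v⁻¹ = v⁻¹ * (v * g) * v⁻¹ := by group
          _ = v⁻¹ * (g * v) * v⁻¹ := by rw [hg]
          _ = v⁻¹ * g := by group
      calc i * g * i⁻¹ * v = i * g * i⁻¹ * (i * v⁻¹ * i⁻¹) := by rw [hv']
        _ = i * (g * v⁻¹) * i⁻¹ := by group
        _ = i * (v⁻¹ * g) * i⁻¹ := by rw [h1]
        _ = (i * v⁻¹ * i⁻¹) * (i * g * i⁻¹) := by group
        _ = v * (i * g * i⁻¹) := by rw [hv']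
    constructor
    · exact key g
    · intro h
      have := key _ h
      have h4 : i * (i * g * i⁻¹) * i⁻¹ = g := by
        rw [hiinv]
        calc i * (i * g * i) * i = (i * i) * g * (i * i) := by group
          _ = g := by rw [hi]; group
      rwa [h4] at this
  haveI hnn : (C.subgroupOf N).Normal :=
    (Subgroup.normal_subgroupOf_iff_le_normalizer hCN).mpr hnorm
  let ibar : N ⧸ C.subgroupOf N := QuotientGroup.mk ⟨i, hiN⟩
  have hibar1 : ibar ≠ 1 := by
    intro h
    apply hiC
    have := (QuotientGroup.eq_one_iff _).mp h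
    exact this
  have hibar2 : ibar ^ 2 = 1 := by
    have : (⟨i, hiN⟩ : N) ^ 2 = 1 := by
      apply Subtype.ext
      simp [pow_two, hi]
    show (QuotientGroup.mk ⟨i, hiN⟩ : N ⧸ C.subgroupOf N) ^ 2 = 1
    rw [← QuotientGroup.mk_pow, this]
    rfl
  have hord : orderOf ibar = 2 := orderOf_eq_prime hibar2 hibar1
  have hdvd : 2 ∣ Nat.card (N ⧸ C.subgroupOf N) := by
    rw [← hord]
    exact orderOf_dvd_natCard ibar
  have hrel : C.relIndex N * N.index = C.index := Subgroup.relIndex_mul_index hCN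
  apply hv
  rw [← hrel]
  exact Dvd.dvd.mul_right hdvd _

/-- The key root lemma. -/
theorem exists_root (H : ∀ x : G, (∃ k : ℕ, orderOf x = 2 ^ k) →
      ¬ 2 ∣ (Subgroup.centralizer ({x} : Set G)).index)
    (x : G) (hx : ∃ k : ℕ, orderOf x = 2 ^ k) (R : Subgroup G) (hR : IsPGroup 2 R)
    (hRs : ∀ r ∈ R, r * (x * x) = (x * x) * r) :
    ∃ (Q : Subgroup G) (e : G), IsPGroup 2 Q ∧ R ≤ Q ∧ e ∈ Q ∧ e * e = x * x ∧
      ∀ q ∈ Q, e * q = q * e := by
  classical
  haveI : Fact (Nat.Prime 2) := ⟨Nat.prime_two⟩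
  obtain ⟨Q0, hQ0⟩ := exists_sylow_le_of_odd _ (H x hx)
  set C := Subgroup.centralizer ({x * x} : Set G) with hC
  have hcomm : ∀ q ∈ (Q0 : Subgroup G), q * x = x * q := by
    intro q hq
    have := hQ0 hq
    rwa [Subgroup.mem_centralizer_singleton_iff] at this
  have hQ0C : (Q0 : Subgroup G) ≤ C := by
    intro q hq
    rw [hC, Subgroup.mem_centralizer_singleton_iff]
    calc q * (x * x) = (q * x) * x := by group
      _ = (x * q) * x := by rw [hcomm q hq]
      _ = x * (q * x) := by group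
      _ = x * (x * q) := by rw [hcomm q hq]
      _ = x * x * q := by group
  have hxQ0 : x ∈ (Q0 : Subgroup G) := by
    have hz : IsPGroup 2 (Subgroup.zpowers x) := by
      obtain ⟨k, hk⟩ := hx
      rw [IsPGroup.iff_card, Nat.card_zpowers, hk]
      exact ⟨k, rfl⟩
    have h1 := hz.inf_normalizer_sylow Q0
    have h2 : x ∈ Subgroup.zpowers x ⊓ Subgroup.normalizer (Q0 : Set G) := by
      refine Subgroup.mem_inf.mpr ⟨Subgroup.mem_zpowers x, ?_⟩
      show x ∈ Subgroup.normalizer (((Q0 : Subgroup G)) : Set G)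
      rw [Subgroup.mem_normalizer_iff]
      intro q
      have h3 : x * q * x⁻¹ ∈ (Q0 : Subgroup G) ↔ q ∈ (Q0 : Subgroup G) := by
        constructor
        · intro hq
          have h4 := hcomm _ hq
          have h5 : x * q * x⁻¹ = q := by
            have h6 : x * (x * q * x⁻¹) * x⁻¹ = x * q * x⁻¹ := by
              rw [← h4]; group
            have h7 : x * (x * q * x⁻¹) * x⁻¹ = x * (x * q * x⁻¹ * x⁻¹) := by group
            rw [h7] at h6
            have h8 : x * q * x⁻¹ * x⁻¹ = q * x⁻¹ := mul_left_cancel (a := x) (by rw [h6]; group)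
            exact mul_right_cancel h8
          rwa [h5] at hq
        · intro hq
          have h5 : x * q * x⁻¹ = q := by
            rw [← hcomm q hq]; group
          rwa [h5]
      exact h3.symm
    rw [h1] at h2
    exact (Subgroup.mem_inf.mp h2).2
  let S0 : Sylow 2 C := Q0.subtype hQ0C
  have hR' : IsPGroup 2 (R.subgroupOf C) := hR.comap_of_injective C.subtype C.subtype_injective
  obtain ⟨S, hS⟩ := hR'.exists_le_sylow
  obtain ⟨c, hc⟩ := MulAction.exists_smul_eq C S0 S
  set Q := (Q0 : Subgroup G).map (MulAut.conj (c : G)).toMonoidHom with hQ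
  refine ⟨Q, (c : G) * x * (c : G)⁻¹, Q0.isPGroup'.map _, ?_, ⟨x, hxQ0, rfl⟩, ?_, ?_⟩
  · intro r hr
    have hrC : r ∈ C := by
      rw [hC, Subgroup.mem_centralizer_singleton_iff]
      exact hRs r hr
    have h1 : (⟨r, hrC⟩ : C) ∈ (S : Subgroup C) := hS hr
    rw [← hc, Sylow.smul_def, Sylow.pointwise_smul_def,
      Subgroup.mem_pointwise_smul_iff_inv_smul_mem] at h1
    have h2 : (c : G)⁻¹ * r * (c : G) ∈ (Q0 : Subgroup G) := by
      have h3 : ((MulAut.conj c)⁻¹ • (⟨r, hrC⟩ : C) : C) ∈ (S0 : Subgroup C) := h1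
      rw [show (S0 : Subgroup C) = (Q0 : Subgroup G).subgroupOf C from Sylow.coe_subtype _ _,
        Subgroup.mem_subgroupOf] at h3
      simpa [MulAut.smul_def, MulAut.conj_symm_apply, mul_assoc] using h3
    refine ⟨_, h2, ?_⟩
    show (c : G) * ((c : G)⁻¹ * r * (c : G)) * (c : G)⁻¹ = r
    group
  · have hcc : (c : G) * (x * x) * (c : G)⁻¹ = x * x := by
      have h9 : (c : G) ∈ Subgroup.centralizer ({x * x} : Set G) := c.2
      rw [Subgroup.mem_centralizer_singleton_iff] at h9
      rw [h9]; group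
    calc (c : G) * x * (c : G)⁻¹ * ((c : G) * x * (c : G)⁻¹) = (c : G) * (x * x) * (c : G)⁻¹ := by
          group
      _ = x * x := hcc
  · rintro _ ⟨q, hq, rfl⟩
    have h1 := hcomm q hq
    show (c : G) * x * (c : G)⁻¹ * ((c : G) * q * (c : G)⁻¹) =
      ((c : G) * q * (c : G)⁻¹) * ((c : G) * x * (c : G)⁻¹)
    calc (c : G) * x * (c : G)⁻¹ * ((c : G) * q * (c : G)⁻¹) = (c : G) * (x * q) * (c : G)⁻¹ := by
          group
      _ = (c : G) * (q * x) * (c : G)⁻¹ := by rw [h1]
      _ = _ := by group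

/-- The pair lemma: a nontrivial central commutator of order two cannot exist. -/
theorem pair_lemma (H : ∀ x : G, (∃ k : ℕ, orderOf x = 2 ^ k) →
      ¬ 2 ∣ (Subgroup.centralizer ({x} : Set G)).index)
    (P : Subgroup G) (hP : IsPGroup 2 P) (x y c : G) (hx : x ∈ P) (hy : y ∈ P)
    (hxy : x * y = c * (y * x)) (hcx : c * x = x * c) (hcy : c * y = y * c) (hc2 : c * c = 1) :
    c = 1 := by
  classical
  haveI : Fact (Nat.Prime 2) := ⟨Nat.prime_two⟩
  have ordP : ∀ (Q : Subgroup G), IsPGroup 2 Q → ∀ w ∈ Q, ∃ k : ℕ, orderOf w = 2 ^ k := by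
    intro Q hQ w hw
    obtain ⟨k, hk⟩ := (IsPGroup.iff_orderOf.mp hQ) ⟨w, hw⟩
    exact ⟨k, by rwa [Subgroup.orderOf_mk] at hk⟩
  -- general squares commute
  have sq_comm : ∀ a b : G, a * b = c * (b * a) → c * a = a * c → c * b = b * c →
      b * (a * a) = (a * a) * b := by
    intro a b hab hca hcb
    have h1 : a * (a * b) = c * (a * (b * a)) := by
      rw [hab]
      calc a * (c * (b * a)) = (a * c) * (b * a) := by group
        _ = (c * a) * (b * a) := by rw [hca]
        _ = c * (a * (b * a)) := by group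
    have h2 : a * (b * a) = c * (b * (a * a)) := by
      calc a * (b * a) = (a * b) * a := by group
        _ = (c * (b * a)) * a := by rw [hab]
        _ = c * (b * (a * a)) := by group
    rw [h2] at h1
    have h3 : a * a * b = b * (a * a) := by
      calc a * a * b = a * (a * b) := by group
        _ = c * (c * (b * (a * a))) := h1
        _ = (c * c) * (b * (a * a)) := by group
        _ = b * (a * a) := by rw [hc2]; group
    exact h3.symm
  -- the first root
  obtain ⟨R0, hR0⟩ : ∃ R0 : Subgroup G, R0 = Subgroup.closure {x, y} := ⟨_, rfl⟩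
  have hcases : ∀ (a b w : G), w ∈ ({a, b} : Set G) → w = a ∨ w = b := by
    intro a b w hw
    simpa using hw
  have hR0P : R0 ≤ P := by
    rw [hR0, Subgroup.closure_le]
    intro w hw
    rcases hcases _ _ _ hw with h | h <;> rw [h]
    · exact hx
    · exact hy
  have hxR0 : x ∈ R0 := hR0 ▸ Subgroup.subset_closure (by simp)
  have hyR0 : y ∈ R0 := hR0 ▸ Subgroup.subset_closure (by simp)
  have hR0p : IsPGroup 2 R0 := hP.to_le hR0P
  have hs1 : ∀ r ∈ R0, r * (x * x) = (x * x) * r := by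
    intro r hr
    have hle : R0 ≤ Subgroup.centralizer ({x * x} : Set G) := by
      rw [hR0, Subgroup.closure_le]
      intro w hw
      rcases hcases _ _ _ hw with h | h <;> rw [h]
      · rw [SetLike.mem_coe, Subgroup.mem_centralizer_singleton_iff]
        group
      · rw [SetLike.mem_coe, Subgroup.mem_centralizer_singleton_iff]
        exact sq_comm x y hxy hcx hcy
    have := hle hr
    rwa [Subgroup.mem_centralizer_singleton_iff] at this
  obtain ⟨Q1, e1, hQ1p, hR0Q1, he1Q1, he1, he1c⟩ :=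
    exists_root H x (ordP P hP x hx) R0 hR0p hs1
  obtain ⟨i, hi⟩ : ∃ i, i = x * e1⁻¹ := ⟨_, rfl⟩
  have hxQ1 : x ∈ Q1 := hR0Q1 hxR0
  have hyQ1 : y ∈ Q1 := hR0Q1 hyR0
  have hiQ1 : i ∈ Q1 := hi ▸ Q1.mul_mem hxQ1 (Q1.inv_mem he1Q1)
  have he1inv : ∀ q ∈ Q1, e1⁻¹ * q = q * e1⁻¹ := fun q hq =>
    (Commute.inv_left (he1c q hq : Commute e1 q)).eq
  have hi2 : i * i = 1 := by
    calc i * i = x * (e1⁻¹ * x) * e1⁻¹ := by rw [hi]; group
      _ = x * (x * e1⁻¹) * e1⁻¹ := by rw [he1inv x hxQ1]
      _ = (x * x) * (e1 * e1)⁻¹ := by group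
      _ = 1 := by rw [he1]; group
  have hcQ1 : c ∈ Q1 := by
    have h1 : c = x * y * (y * x)⁻¹ := by
      rw [hxy]; group
    rw [h1]
    exact Q1.mul_mem (Q1.mul_mem hxQ1 hyQ1) (Q1.inv_mem (Q1.mul_mem hyQ1 hxQ1))
  have hiy : i * y = c * (y * i) := by
    calc i * y = x * (e1⁻¹ * y) := by rw [hi]; group
      _ = x * (y * e1⁻¹) := by rw [he1inv y hyQ1]
      _ = (x * y) * e1⁻¹ := by group
      _ = c * (y * x) * e1⁻¹ := by rw [hxy]
      _ = c * (y * i) := by rw [hi]; group
  have hci : c * i = i * c := by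
    calc c * i = (c * x) * e1⁻¹ := by rw [hi]; group
      _ = (x * c) * e1⁻¹ := by rw [hcx]
      _ = x * (c * e1⁻¹) := by group
      _ = x * (e1⁻¹ * c) := by rw [he1inv c hcQ1]
      _ = i * c := by rw [hi]; group
  -- the second root
  obtain ⟨R1, hR1⟩ : ∃ R1 : Subgroup G, R1 = Subgroup.closure {i, y} := ⟨_, rfl⟩
  have hR1Q1 : R1 ≤ Q1 := by
    rw [hR1, Subgroup.closure_le]
    intro w hw
    rcases hcases _ _ _ hw with h | h <;> rw [h]
    · exact hiQ1
    · exact hyQ1
  have hiR1 : i ∈ R1 := hR1 ▸ Subgroup.subset_closure (by simp)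
  have hyR1 : y ∈ R1 := hR1 ▸ Subgroup.subset_closure (by simp)
  have hR1p : IsPGroup 2 R1 := hQ1p.to_le hR1Q1
  have hyi : y * i = c * (i * y) := by
    rw [hiy, ← mul_assoc, hc2, one_mul]
  have hs2 : ∀ r ∈ R1, r * (y * y) = (y * y) * r := by
    intro r hr
    have hle : R1 ≤ Subgroup.centralizer ({y * y} : Set G) := by
      rw [hR1, Subgroup.closure_le]
      intro w hw
      rcases hcases _ _ _ hw with h | h <;> rw [h]
      · rw [SetLike.mem_coe, Subgroup.mem_centralizer_singleton_iff]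
        exact sq_comm y i hyi hcy hci
      · rw [SetLike.mem_coe, Subgroup.mem_centralizer_singleton_iff]
        group
    have := hle hr
    rwa [Subgroup.mem_centralizer_singleton_iff] at this
  obtain ⟨Q2, e2, hQ2p, hR1Q2, he2Q2, he2, he2c⟩ :=
    exists_root H y (ordP P hP y hy) R1 hR1p hs2
  obtain ⟨j, hj⟩ : ∃ j, j = y * e2⁻¹ := ⟨_, rfl⟩
  have hyQ2 : y ∈ Q2 := hR1Q2 hyR1
  have hiQ2 : i ∈ Q2 := hR1Q2 hiR1
  have hjQ2 : j ∈ Q2 := hj ▸ Q2.mul_mem hyQ2 (Q2.inv_mem he2Q2)
  have he2inv : ∀ q ∈ Q2, e2⁻¹ * q = q * e2⁻¹ := fun q hq =>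
    (Commute.inv_left (he2c q hq : Commute e2 q)).eq
  have hj2 : j * j = 1 := by
    calc j * j = y * (e2⁻¹ * y) * e2⁻¹ := by rw [hj]; group
      _ = y * (y * e2⁻¹) * e2⁻¹ := by rw [he2inv y hyQ2]
      _ = (y * y) * (e2 * e2)⁻¹ := by group
      _ = 1 := by rw [he2]; group
  have hij : i * j = c * (j * i) := by
    calc i * j = (i * y) * e2⁻¹ := by rw [hj]; group
      _ = c * (y * i) * e2⁻¹ := by rw [hiy]
      _ = c * y * (i * e2⁻¹) := by group
      _ = c * y * (e2⁻¹ * i) := by rw [he2inv i hiQ2]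
      _ = c * (j * i) := by rw [hj]; group
  -- finish with the inverted element
  have hvQ2 : i * j ∈ Q2 := Q2.mul_mem hiQ2 hjQ2
  have hiinv : i⁻¹ = i := by
    rw [inv_eq_iff_mul_eq_one]; exact hi2
  have hjinv : j⁻¹ = j := by
    rw [inv_eq_iff_mul_eq_one]; exact hj2
  have hinv : i * (i * j) * i⁻¹ = (i * j)⁻¹ := by
    rw [hiinv, mul_inv_rev, hiinv, hjinv]
    calc i * (i * j) * i = (i * i) * j * i := by group
      _ = j * i := by rw [hi2]; group
  have hcomm := comm_of_inverted (i * j) i (H _ (ordP Q2 hQ2p _ hvQ2)) hi2 hinv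
  have h5 : i * (i * j) = j := by
    rw [← mul_assoc, hi2, one_mul]
  rw [h5] at hcomm
  have h7 : i * j = j * i := by
    calc i * j = i * (i * j * i) := by rw [← hcomm]
      _ = (i * i) * (j * i) := by group
      _ = j * i := by rw [hi2]; group
  have h8 : c * (j * i) = 1 * (j * i) := by rw [← hij, h7, one_mul]
  exact mul_right_cancel h8

theorem comm_pow {K : Type*} [Group K] (x y c : K) (hxy : x * y = c * (y * x))
    (hcx : c * x = x * c) : ∀ n : ℕ, x ^ n * y = c ^ n * (y * x ^ n) := by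
  intro n
  induction n with
  | zero => simp
  | succ n ih =>
    have h1 : x * c ^ n = c ^ n * x := (Commute.pow_left (hcx : Commute c x) n).eq.symm
    calc x ^ (n + 1) * y = x * (x ^ n * y) := by rw [pow_succ']; group
      _ = x * (c ^ n * (y * x ^ n)) := by rw [ih]
      _ = (x * c ^ n) * (y * x ^ n) := by group
      _ = c ^ n * ((x * y) * x ^ n) := by rw [h1]; group
      _ = c ^ n * (c * (y * x) * x ^ n) := by rw [hxy]
      _ = c ^ (n + 1) * (y * (x * x ^ n)) := by rw [pow_succ]; group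
      _ = c ^ (n + 1) * (y * x ^ (n + 1)) := by rw [← pow_succ']

/-- Main: all 2-subgroups are abelian when all 2-elements have odd class size. -/
theorem comm_of_odd (H : ∀ x : G, (∃ k : ℕ, orderOf x = 2 ^ k) →
      ¬ 2 ∣ (Subgroup.centralizer ({x} : Set G)).index)
    (P : Subgroup G) (hP : IsPGroup 2 P) : ∀ a ∈ P, ∀ b ∈ P, a * b = b * a := by
  classical
  haveI : Fact (Nat.Prime 2) := ⟨Nat.prime_two⟩
  -- central commutators vanish
  have key : ∀ x y c : P, x * y = c * (y * x) → c ∈ Subgroup.center P → c = 1 := by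
    intro x y c hxy hc
    by_contra hne
    have hcord : ∃ k : ℕ, c ^ (2 ^ k) = 1 := by
      obtain ⟨k, hk⟩ := hP c
      exact ⟨k, hk⟩
    classical
    have hm : c ^ (2 ^ Nat.find hcord) = 1 := Nat.find_spec hcord
    have hm0 : Nat.find hcord ≠ 0 := by
      intro h0
      apply hne
      rw [h0, pow_zero, pow_one] at hm
      exact hm
    obtain ⟨l, hl⟩ := Nat.exists_eq_succ_of_ne_zero hm0
    have hml : c ^ (2 ^ l) ≠ 1 := Nat.find_min hcord (by omega)
    have hdc : c ^ (2 ^ l) * c ^ (2 ^ l) = 1 := by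
      rw [← pow_add, ← two_mul, ← pow_succ']
      rw [hl] at hm
      exact hm
    have hcc : ∀ w : P, c * w = w * c := fun w => (Subgroup.mem_center_iff.mp hc w).symm
    have hdcen : ∀ w : P, c ^ (2 ^ l) * w = w * c ^ (2 ^ l) := fun w =>
      (Commute.pow_left (hcc w : Commute c w) _).eq
    have hpow := comm_pow x y c hxy (hcc x) (2 ^ l)
    apply hml
    apply Subtype.ext
    refine pair_lemma H P hP ((x ^ (2 ^ l) : P) : G) (y : G) ((c ^ (2 ^ l) : P) : G) (SetLike.coe_mem _) y.2
      ?_ ?_ ?_ ?_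
    · exact congrArg Subtype.val hpow
    · exact congrArg Subtype.val (hdcen _)
    · exact congrArg Subtype.val (hdcen _)
    · exact congrArg Subtype.val hdc
  -- upper central series
  have hup : ∀ n : ℕ, Subgroup.upperCentralSeries P n ≤ Subgroup.center P := by
    intro n
    induction n with
    | zero =>
      intro x hx
      rw [Subgroup.upperCentralSeries_zero] at hx
      have : x = 1 := by simpa using hx
      rw [this]; exact Subgroup.one_mem _
    | succ n ih =>
      intro x hx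
      rw [Subgroup.mem_upperCentralSeries_succ_iff] at hx
      rw [Subgroup.mem_center_iff]
      intro y
      have h1 := ih (hx y)
      have h2 := key x y (x * y * x⁻¹ * y⁻¹) (by group) h1
      have h3 : x * y = y * x := by
        have : x * y = (x * y * x⁻¹ * y⁻¹) * (y * x) := by group
        rw [this, h2, one_mul]
      exact h3.symm
  haveI : Group.IsNilpotent P := hP.isNilpotent
  obtain ⟨n, hn⟩ := Group.IsNilpotent.nilpotent P
  have htop : Subgroup.center P = ⊤ := by
    rw [eq_top_iff, ← hn]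
    exact hup n
  intro a ha b hb
  have h1 : (⟨a, ha⟩ : P) ∈ Subgroup.center P := htop ▸ Subgroup.mem_top _
  have h2 := (Subgroup.mem_center_iff.mp h1) ⟨b, hb⟩
  exact (congrArg Subtype.val h2).symm

end Cfsg.Agent.Lib.OddClassSylow
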