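import Mathlib
import Cfsg.Prelude.Def_Local
import Cfsg.Prelude.Def_CaseTheorems
import Cfsg.Agent.Lib.PCore
import Cfsg.Agent.Lib.LocalCore
import Cfsg.Agent.Lib.CompFitting
import Cfsg.Agent.Lib.Subnormal

/-!
# Odd cores of centralizers of an elementary abelian 2-group inverted by an involution

If `F*(C(z)) = O₂(C(z))` and `x` commutes with `z`, then `z` acts without fixed points on `O(C(x))`, hence
inverts it.  This gives a direct proof of the "balance" `O(C(x)) ∩ C(y) ≤ O(C(y))` when `C(y)` has no components.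
-/

set_option autoImplicit false
set_option linter.unusedSectionVars false

open Cfsg Cfsg.Agent.Lib.PCore Cfsg.Agent.Lib.LocalCore

namespace Cfsg.Agent.Lib.OddInvert

variable {X : Type*} [Group X]

/-- `O(C(x))`, as a subgroup of the group. -/
abbrev Oc (x : X) : Subgroup X :=
  (oddCore ↥(Subgroup.centralizer ({x} : Set X))).map (Subgroup.centralizer ({x} : Set X)).subtype

theorem mem_C {x y : X} : y ∈ Subgroup.centralizer ({x} : Set X) ↔ Commute y x := by
  rw [Subgroup.mem_centralizer_singleton_iff]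
  rfl

theorem Oc_commute {x v : X} (hv : v ∈ Oc x) : Commute v x := by
  obtain ⟨u, _, rfl⟩ := hv
  exact mem_C.mp u.2

theorem Oc_conj {x c v : X} (hc : Commute c x) (hv : v ∈ Oc x) : c * v * c⁻¹ ∈ Oc x := by
  obtain ⟨u, hu, rfl⟩ := hv
  have hn : (oddCore ↥(Subgroup.centralizer ({x} : Set X))).Normal := inferInstance
  have := hn.conj_mem u hu ⟨c, mem_C.mpr hc⟩
  exact ⟨_, this, rfl⟩

theorem coprime_of_card [Finite X] {O : Subgroup X} (hO : (Nat.card O).Coprime 2) {v : X} (hv : v ∈ O) :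
    (orderOf v).Coprime 2 := by
  have h1 : orderOf (⟨v, hv⟩ : O) ∣ Nat.card O := orderOf_dvd_natCard _
  have h2 : orderOf v = orderOf (⟨v, hv⟩ : O) := (Subgroup.orderOf_mk v hv).symm
  rw [h2]
  exact Nat.Coprime.coprime_dvd_left h1 hO

theorem Oc_card [Finite X] (x : X) : (Nat.card (Oc x)).Coprime 2 := by
  have h := card_pPrimeCore_coprime (G := ↥(Subgroup.centralizer ({x} : Set X))) 2
  rw [Subgroup.card_map_of_injective (Subgroup.subtype_injective _)]
  exact h

theorem Oc_odd [Finite X] {x v : X} (hv : v ∈ Oc x) : (orderOf v).Coprime 2 :=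
  coprime_of_card (Oc_card x) hv

/-- An element of odd order whose power of 2 is trivial is trivial. -/
theorem eq_one_of_odd_of_two {a : X} (h1 : (orderOf a).Coprime 2) {n : ℕ} (h2 : a ^ (2 ^ n) = 1) : a = 1 := by
  have h3 : orderOf a ∣ 2 ^ n := orderOf_dvd_of_pow_eq_one h2
  have h4 : (orderOf a).Coprime (2 ^ n) := Nat.Coprime.pow_right n h1
  have h5 : orderOf a = 1 := Nat.Coprime.eq_one_of_dvd h4 h3
  exact orderOf_eq_one_iff.mp h5

theorem eq_one_of_odd_of_mem {a : X} {Q : Subgroup X} (hQ : IsPGroup 2 Q) (hq : a ∈ Q)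
    (h1 : (orderOf a).Coprime 2) : a = 1 := by
  obtain ⟨n, hn⟩ := hQ ⟨a, hq⟩
  apply eq_one_of_odd_of_two h1 (n := n)
  exact congrArg Subtype.val hn

/-- A commuting element with `d ^ 2` commutes with `d` when `d` has odd order. -/
theorem commute_of_sq {d v : X} (hodd : (orderOf d).Coprime 2) (h : Commute (d ^ 2) v) : Commute d v := by
  obtain ⟨k, hk⟩ : ∃ k : ℕ, (d ^ 2) ^ k = d := by
    have h1 : Odd (orderOf d) := Nat.Coprime.odd_of_right hodd
    obtain ⟨m, hm⟩ := h1
    refine ⟨m + 1, ?_⟩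
    rw [← pow_mul]
    have e : 2 * (m + 1) = orderOf d + 1 := by omega
    rw [e, pow_succ, pow_orderOf_eq_one, one_mul]
  rw [← hk]
  exact h.pow_left k

section fpf

variable [Finite X]

/-- A fixed-point-free involution inverts. -/
theorem invert_of_fpf {O : Subgroup X} {z : X} (hz2 : z ^ 2 = 1) (hzO : ∀ v ∈ O, z * v * z⁻¹ ∈ O)
    (hfp : ∀ v ∈ O, z * v = v * z → v = 1) : ∀ v ∈ O, z * v * z⁻¹ = v⁻¹ := by
  have hzi : z⁻¹ = z := by
    rw [pow_two] at hz2
    exact inv_eq_of_mul_eq_one_left hz2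
  let f : O → O := fun v => ⟨(v : X)⁻¹ * (z * v * z⁻¹), O.mul_mem (O.inv_mem v.2) (hzO _ v.2)⟩
  have hinj : Function.Injective f := by
    intro a b hab
    have h1 : (a : X)⁻¹ * (z * a * z⁻¹) = (b : X)⁻¹ * (z * b * z⁻¹) := congrArg Subtype.val hab
    have h2 : (a : X)⁻¹ * z * a = (b : X)⁻¹ * z * b := by
      have := congrArg (fun t => t * z) h1
      simpa [mul_assoc] using this
    have h3 : z * ((b : X) * (a : X)⁻¹) = ((b : X) * (a : X)⁻¹) * z := by
      calc z * ((b : X) * (a : X)⁻¹) = (b : X) * ((b : X)⁻¹ * z * b) * (a : X)⁻¹ := by group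
        _ = (b : X) * ((a : X)⁻¹ * z * a) * (a : X)⁻¹ := by rw [h2]
        _ = _ := by group
    have h4 := hfp _ (O.mul_mem b.2 (O.inv_mem a.2)) h3
    apply Subtype.ext
    exact (mul_inv_eq_one.mp h4).symm
  have hsurj : Function.Surjective f := Finite.surjective_of_injective hinj
  intro u hu
  obtain ⟨v, hv⟩ := hsurj ⟨u, hu⟩
  have hu' : u = (v : X)⁻¹ * (z * v * z⁻¹) := (congrArg Subtype.val hv).symm
  subst hu'
  rw [hzi]
  have hzz : z * z = 1 := by rw [← pow_two]; exact hz2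
  have h1 : z * ((v : X)⁻¹ * (z * v * z)) * z = z * (v : X)⁻¹ * z * v * (z * z) := by group
  have h2 : ((v : X)⁻¹ * (z * v * z))⁻¹ = z⁻¹ * (v : X)⁻¹ * z⁻¹ * v := by group
  rw [h1, h2, hzi, hzz, mul_one]

theorem comm_of_invert {O : Subgroup X} {z : X} (h : ∀ v ∈ O, z * v * z⁻¹ = v⁻¹) {a b : X} (ha : a ∈ O)
    (hb : b ∈ O) : a * b = b * a := by
  have h1 := h _ (O.mul_mem ha hb)
  have e : z * (a * b) * z⁻¹ = (z * a * z⁻¹) * (z * b * z⁻¹) := by group
  rw [e, h a ha, h b hb] at h1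
  have h2 : a⁻¹ * b⁻¹ = (b * a)⁻¹ := by group
  have h3 : (a * b)⁻¹ = (b * a)⁻¹ := by rw [← h1, h2]
  exact inv_injective h3

end fpf

/-- If `z` inverts both `O` and `d`, and `d` normalizes `O`, and has odd order, then `d` centralizes `O`. -/
theorem commute_of_invert {O : Subgroup X} {z d : X} (hinv : ∀ v ∈ O, z * v * z⁻¹ = v⁻¹)
    (hd : z * d * z⁻¹ = d⁻¹) (hdO : ∀ v ∈ O, d * v * d⁻¹ ∈ O) (hodd : (orderOf d).Coprime 2) {v : X}
    (hv : v ∈ O) : Commute d v := by
  have h1 := hinv _ (hdO v hv)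
  have hdi : z * d⁻¹ * z⁻¹ = d := by
    have : z * d⁻¹ * z⁻¹ = (z * d * z⁻¹)⁻¹ := by group
    rw [this, hd, inv_inv]
  have e : z * (d * v * d⁻¹) * z⁻¹ = (z * d * z⁻¹) * (z * v * z⁻¹) * (z * d⁻¹ * z⁻¹) := by group
  rw [e, hd, hinv v hv, hdi] at h1
  -- `d⁻¹ * v⁻¹ * d = d * v⁻¹ * d⁻¹`
  have h2 : d⁻¹ * v⁻¹ * d = d * v⁻¹ * d⁻¹ := by
    rw [h1]; group
  have h3 : Commute (d ^ 2) v⁻¹ := by
    show d ^ 2 * v⁻¹ = v⁻¹ * d ^ 2
    have : d ^ 2 * v⁻¹ = d * (d * v⁻¹ * d⁻¹) * d := by rw [pow_two]; group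
    rw [this, ← h2]
    rw [pow_two]; group
  have h4 : Commute (d ^ 2) v := by simpa using h3.inv_right
  exact commute_of_sq hodd h4

section Cgroup

variable {C : Type*} [Group C]

theorem layer_eq_bot_of_normal (h : layer C = ⊥) (N : Subgroup C) (hN : N.Normal) : layer N = ⊥ := by
  rw [layer, sSup_eq_bot]
  intro K hK
  exfalso
  have h1 := comp_map_subtype hN.isSubnormal hK
  have h2 := comp_le_layer h1
  rw [h, le_bot_iff] at h2
  exact comp_ne_bot h1 h2

theorem map_char_normal {N : Subgroup C} (hN : N.Normal) (K : Subgroup N) (hK : K.Characteristic) :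
    (K.map N.subtype).Normal := by
  haveI := hN
  haveI := hK
  infer_instance

/-- The main abstract lemma. -/
theorem mem_oddCore_of_commute [Finite C] (hL : layer C = ⊥)
    (hab : ∀ a ∈ oddCore C, ∀ b ∈ oddCore C, a * b = b * a) {d : C} (hodd : (orderOf d).Coprime 2)
    (hdO : ∀ v ∈ oddCore C, d * v = v * d)
    (hdR : ∀ r ∈ (pCore 2 ↥(Subgroup.centralizer (oddCore C : Set C))).map
      (Subgroup.centralizer (oddCore C : Set C)).subtype, d * r = r * d) :
    d ∈ oddCore C := by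
  classical
  haveI hOn : (oddCore C).Normal := inferInstance
  set N : Subgroup C := Subgroup.centralizer (oddCore C : Set C) with hN
  haveI hNn : N.Normal := Subgroup.normal_centralizer
  have hdN : d ∈ N := Subgroup.mem_centralizer_iff.mpr fun h hh => (hdO h hh).symm
  let dN : N := ⟨d, hdN⟩
  have hLN : layer N = ⊥ := layer_eq_bot_of_normal hL N hNn
  have hFS : generalizedFittingSubgroup N = fittingSubgroup N := by
    rw [generalizedFittingSubgroup, hLN, bot_sup_eq]
  -- the odd core of `N` lies in the odd core of `C`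
  have hON : ∀ b ∈ oddCore N, (b : C) ∈ oddCore C := by
    intro b hb
    have h1 : ((oddCore N).map N.subtype).Normal := map_char_normal hNn _ inferInstance
    have h2 : (Nat.card ((oddCore N).map N.subtype)).Coprime 2 := by
      rw [Subgroup.card_map_of_injective (Subgroup.subtype_injective _)]
      exact card_pPrimeCore_coprime 2
    exact le_pPrimeCore h1 h2 ⟨b, hb, rfl⟩
  have hcomm : ∀ y ∈ pCore 2 N ⊔ oddCore N, dN * y = y * dN := by
    intro y hy
    obtain ⟨a, ha, b, hb, rfl⟩ := Subgroup.mem_sup_of_normal_right.mp hy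
    have h1 : dN * a = a * dN := Subtype.ext (hdR a ⟨a, ha, rfl⟩)
    have h2 : dN * b = b * dN := Subtype.ext (hdO b (hON b hb))
    calc dN * (a * b) = (dN * a) * b := by group
      _ = a * (dN * b) := by rw [h1]; group
      _ = a * (b * dN) := by rw [h2]
      _ = _ := by group
  have hdC : dN ∈ Subgroup.centralizer (generalizedFittingSubgroup N : Set N) := by
    rw [Subgroup.mem_centralizer_iff]
    intro y hy
    rw [hFS] at hy
    exact (hcomm y (fittingSubgroup_le_sup 2 hy)).symm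
  have hdF := centralizer_generalizedFitting_le hdC
  rw [hFS] at hdF
  obtain ⟨a, ha, b, hb, hab'⟩ := Subgroup.mem_sup_of_normal_right.mp (fittingSubgroup_le_sup (G := N) 2 hdF)
  -- `a = dN * b⁻¹`
  have haeq : a = dN * b⁻¹ := by rw [← hab']; group
  have hbc : dN * b⁻¹ = b⁻¹ * dN := by
    have h2 : dN * b = b * dN := Subtype.ext (hdO b (hON b hb))
    have : Commute dN b := h2
    exact this.inv_right
  have hodd' : (orderOf dN).Coprime 2 := by
    rw [Subgroup.orderOf_mk]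
    exact hodd
  have hbodd : (orderOf b⁻¹).Coprime 2 := by
    rw [orderOf_inv]
    exact coprime_of_card (card_pPrimeCore_coprime 2) hb
  have haodd : (orderOf a).Coprime 2 := by
    rw [haeq]
    have h1 : orderOf (dN * b⁻¹) ∣ orderOf dN * orderOf b⁻¹ := Commute.orderOf_mul_dvd_mul_orderOf hbc
    exact Nat.Coprime.coprime_dvd_left h1 (Nat.Coprime.mul_left hodd' hbodd)
  have ha1 : a = 1 := eq_one_of_odd_of_mem (isPGroup_pCore 2) ha haodd
  have hdb : dN = b := by rw [← hab', ha1, one_mul]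
  have hfinal : (dN : C) ∈ oddCore C := by rw [hdb]; exact hON b hb
  exact hfinal

end Cgroup

section main

variable [Finite X]

/-- Step 1: `C_{O(C(x))}(z) = 1` when `F*(C(z)) = O₂(C(z))`. -/
theorem eq_one_of_mem_Oc {z x d : X}
    (hz : generalizedFittingSubgroup ↥(Subgroup.centralizer ({z} : Set X)) =
      pCore 2 ↥(Subgroup.centralizer ({z} : Set X)))
    (hxz : Commute x z) (hx2 : x ^ 2 = 1) (hd : d ∈ Oc x) (hdz : Commute d z) : d = 1 := by
  classical
  set Cz : Subgroup X := Subgroup.centralizer ({z} : Set X) with hCz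
  set Q : Subgroup X := (pCore 2 Cz).map Cz.subtype with hQ
  have hQp : IsPGroup 2 Q := (isPGroup_pCore 2).map _
  have hQn : ∀ c ∈ Cz, ∀ v ∈ Q, c * v * c⁻¹ ∈ Q := by
    rintro c hc _ ⟨v, hv, rfl⟩
    have h := (inferInstance : (pCore 2 Cz).Normal).conj_mem v hv ⟨c, hc⟩
    exact ⟨_, h, rfl⟩
  have hdCz : d ∈ Cz := mem_C.mpr hdz
  have hxCz : x ∈ Cz := mem_C.mpr hxz
  have hdodd := Oc_odd hd
  have hT : IsPGroup 2 (Subgroup.zpowers x) := by
    rintro ⟨t, k, rfl⟩
    refine ⟨1, ?_⟩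
    apply Subtype.ext
    show (x ^ k) ^ 2 ^ 1 = 1
    rw [pow_one, ← zpow_natCast, ← zpow_mul, mul_comm, zpow_mul, zpow_natCast, hx2, one_zpow]
  have hdx : Commute d x := Oc_commute hd
  have hcomm : ∀ v ∈ Q, d * v = v * d := by
    apply CompFitting.ab_lemma Q (Subgroup.zpowers x) d hQp hT (hQn d hdCz)
    · intro t ht
      have htC : t ∈ Cz := (Subgroup.zpowers_le.mpr hxCz) ht
      exact hQn t htC
    · intro t ht
      obtain ⟨k, rfl⟩ := Subgroup.mem_zpowers_iff.mp ht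
      exact (hdx.zpow_right k).eq
    · exact hdodd
    · intro v hv hvT
      have hvx : Commute v x := (hvT x (Subgroup.mem_zpowers x)).symm
      -- the commutator
      have h1 : d * (v * d⁻¹ * v⁻¹) ∈ Oc x :=
        (Oc x).mul_mem hd (Oc_conj hvx ((Oc x).inv_mem hd))
      have h2 : (d * v * d⁻¹) * v⁻¹ ∈ Q := Q.mul_mem (hQn d hdCz v hv) (Q.inv_mem hv)
      have e : d * (v * d⁻¹ * v⁻¹) = (d * v * d⁻¹) * v⁻¹ := by group
      rw [← e] at h2
      have h3 := eq_one_of_odd_of_mem hQp h2 (Oc_odd h1)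
      have h4 : d * v * d⁻¹ * v⁻¹ = 1 := by rw [← e]; exact h3
      have h5 : d * v * d⁻¹ = v := mul_inv_eq_one.mp h4
      exact mul_inv_eq_iff_eq_mul.mp h5
  have hcen : (⟨d, hdCz⟩ : Cz) ∈ Subgroup.centralizer (generalizedFittingSubgroup Cz : Set Cz) := by
    rw [Subgroup.mem_centralizer_iff]
    intro y hy
    rw [hz] at hy
    exact Subtype.ext (hcomm _ ⟨y, hy, rfl⟩).symm
  have h6 := centralizer_generalizedFitting_le hcen
  rw [hz] at h6
  exact eq_one_of_odd_of_mem hQp ⟨_, h6, rfl⟩ hdodd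

/-- Step 2: balance. -/
theorem mem_Oc_of_commute {z x y d : X} (hLy : layer ↥(Subgroup.centralizer ({y} : Set X)) = ⊥)
    (hinvx : ∀ v ∈ Oc x, z * v * z⁻¹ = v⁻¹) (hinvy : ∀ v ∈ Oc y, z * v * z⁻¹ = v⁻¹)
    (hxy : Commute x y) (hx2 : x ^ 2 = 1) (hd : d ∈ Oc x) (hdy : Commute d y) : d ∈ Oc y := by
  classical
  set Cy : Subgroup X := Subgroup.centralizer ({y} : Set X) with hCy
  have hdC : d ∈ Cy := mem_C.mpr hdy
  have hxC : x ∈ Cy := mem_C.mpr hxy
  have hdodd := Oc_odd hd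
  have hdx : Commute d x := Oc_commute hd
  have hoddC : (orderOf (⟨d, hdC⟩ : Cy)).Coprime 2 := by
    rw [Subgroup.orderOf_mk]; exact hdodd
  have hab : ∀ a ∈ oddCore Cy, ∀ b ∈ oddCore Cy, a * b = b * a := by
    intro a ha b hb
    have h1 : (a : X) * b = b * a :=
      comm_of_invert hinvy (a := (a : X)) (b := (b : X)) ⟨a, ha, rfl⟩ ⟨b, hb, rfl⟩
    exact Subtype.ext h1
  have hdO : ∀ v ∈ oddCore Cy, (⟨d, hdC⟩ : Cy) * v = v * ⟨d, hdC⟩ := by
    intro v hv
    have h1 : Commute d (v : X) := by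
      apply commute_of_invert hinvy (hinvx d hd) _ hdodd ⟨v, hv, rfl⟩
      intro u hu
      exact Oc_conj hdy hu
    exact Subtype.ext h1
  have hmem := mem_oddCore_of_commute hLy hab hoddC hdO ?_
  · exact ⟨_, hmem, rfl⟩
  · -- A × B lemma in `Cy`
    set N : Subgroup Cy := Subgroup.centralizer (oddCore Cy : Set Cy) with hN
    haveI hNn : N.Normal := Subgroup.normal_centralizer
    set V : Subgroup Cy := (pCore 2 N).map N.subtype with hV
    have hVp : IsPGroup 2 V := (isPGroup_pCore 2).map _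
    haveI hVn : V.Normal := map_char_normal hNn _ inferInstance
    let xC : Cy := ⟨x, hxC⟩
    let dC : Cy := ⟨d, hdC⟩
    have hxC2 : xC ^ 2 = 1 := Subtype.ext (by simpa using hx2)
    have hT : IsPGroup 2 (Subgroup.zpowers xC) := by
      rintro ⟨t, k, rfl⟩
      refine ⟨1, ?_⟩
      apply Subtype.ext
      show (xC ^ k) ^ 2 ^ 1 = 1
      rw [pow_one, ← zpow_natCast, ← zpow_mul, mul_comm, zpow_mul, zpow_natCast, hxC2, one_zpow]
    have hdxC : Commute dC xC := Subtype.ext hdx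
    apply CompFitting.ab_lemma V (Subgroup.zpowers xC) dC hVp hT (fun v hv => hVn.conj_mem v hv dC)
    · intro t _ v hv
      exact hVn.conj_mem v hv t
    · intro t ht
      obtain ⟨k, rfl⟩ := Subgroup.mem_zpowers_iff.mp ht
      exact (hdxC.zpow_right k).eq
    · exact hoddC
    · intro v hv hvT
      have hvx : Commute v xC := (hvT xC (Subgroup.mem_zpowers xC)).symm
      have hvx' : Commute (v : X) x := congrArg Subtype.val hvx
      have h1 : d * ((v : X) * d⁻¹ * (v : X)⁻¹) ∈ Oc x :=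
        (Oc x).mul_mem hd (Oc_conj hvx' ((Oc x).inv_mem hd))
      have h2 : (dC * v * dC⁻¹) * v⁻¹ ∈ V := V.mul_mem (hVn.conj_mem v hv dC) (V.inv_mem hv)
      have e : (((dC * v * dC⁻¹) * v⁻¹ : Cy) : X) = d * ((v : X) * d⁻¹ * (v : X)⁻¹) := by
        show d * (v : X) * d⁻¹ * (v : X)⁻¹ = _
        group
      have h3 : (orderOf ((dC * v * dC⁻¹) * v⁻¹ : Cy)).Coprime 2 := by
        have := Oc_odd h1
        rw [← e] at this
        rwa [Subgroup.orderOf_coe] at this
      have h4 := eq_one_of_odd_of_mem hVp h2 h3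
      have h5 : dC * v * dC⁻¹ = v := mul_inv_eq_one.mp h4
      exact mul_inv_eq_iff_eq_mul.mp h5

/-- The decomposition. -/
theorem exists_decomp {z x a v : X} (hab : ∀ s ∈ Oc x, ∀ t ∈ Oc x, s * t = t * s)
    (hinv : ∀ u ∈ Oc x, z * u * z⁻¹ = u⁻¹) (hax : Commute a x) (ha2 : a ^ 2 = 1) (hv : v ∈ Oc x) :
    ∃ p ∈ Oc x, ∃ q ∈ Oc x, Commute p a ∧ Commute q (a * z) ∧ v ^ 2 = p * q := by
  have hav : a * v * a⁻¹ ∈ Oc x := Oc_conj hax hv
  have haa : a⁻¹ = a := by
    rw [pow_two] at ha2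
    exact inv_eq_of_mul_eq_one_left ha2
  refine ⟨v * (a * v * a⁻¹), (Oc x).mul_mem hv hav, v * (a * v * a⁻¹)⁻¹,
    (Oc x).mul_mem hv ((Oc x).inv_mem hav), ?_, ?_, ?_⟩
  · -- `a` commutes with `p`
    show v * (a * v * a⁻¹) * a = a * (v * (a * v * a⁻¹))
    have h1 : a * (v * (a * v * a⁻¹)) = (a * v * a⁻¹) * (a * (a * v * a⁻¹) * a⁻¹) * a := by group
    have h2 : a * (a * v * a⁻¹) * a⁻¹ = v := by
      have : a * (a * v * a⁻¹) * a⁻¹ = a * a * v * (a⁻¹ * a⁻¹) := by group
      rw [this, haa]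
      have haa2 : a * a = 1 := by rw [← pow_two]; exact ha2
      rw [haa2]; simp
    rw [h1, h2, hab _ hav _ hv]
  · -- `a z` commutes with `q`
    set w := a * v * a⁻¹ with hw
    have hq : v * w⁻¹ ∈ Oc x := (Oc x).mul_mem hv ((Oc x).inv_mem hav)
    have hzq : z * (v * w⁻¹) * z⁻¹ = (v * w⁻¹)⁻¹ := hinv _ hq
    have h2 : a * w * a⁻¹ = v := by
      have : a * (a * v * a⁻¹) * a⁻¹ = a * a * v * (a⁻¹ * a⁻¹) := by group
      rw [hw, this, haa]
      have haa2 : a * a = 1 := by rw [← pow_two]; exact ha2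
      rw [haa2]; simp
    have h3 : a * (v * w⁻¹)⁻¹ * a⁻¹ = v * w⁻¹ := by
      have e : a * (v * w⁻¹)⁻¹ * a⁻¹ = (a * w * a⁻¹) * (a * v * a⁻¹)⁻¹ := by group
      rw [e, h2]
    show (v * w⁻¹) * (a * z) = (a * z) * (v * w⁻¹)
    have h4 : (a * z) * (v * w⁻¹) = (a * (z * (v * w⁻¹) * z⁻¹) * a⁻¹) * (a * z) := by group
    rw [h4, hzq, h3]
  · calc v ^ 2 = v * (v * (a * v * a⁻¹)) * (a * v * a⁻¹)⁻¹ := by rw [pow_two]; group
      _ = v * ((a * v * a⁻¹) * v) * (a * v * a⁻¹)⁻¹ := by rw [hab _ hav _ hv]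
      _ = _ := by group

/-- Two elements of odd cores commute when they both commute with a common `y`. -/
theorem final_theorem {Y : Subgroup X} (hY : IsElementaryAbelian 2 Y) (h8 : 8 ≤ Nat.card Y)
    (hE : ∀ x ∈ Y, x ≠ 1 → layer ↥(Subgroup.centralizer ({x} : Set X)) = ⊥)
    (hz : ∃ z ∈ Y, z ≠ 1 ∧ generalizedFittingSubgroup ↥(Subgroup.centralizer ({z} : Set X)) =
      pCore 2 ↥(Subgroup.centralizer ({z} : Set X))) :
    ∀ x ∈ Y, x ≠ 1 → ∀ x' ∈ Y, x' ≠ 1 → ∀ v ∈ Oc x, ∀ w ∈ Oc x', Commute v w := by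
  classical
  obtain ⟨z, hzY, hz1, hzF⟩ := hz
  have hYc : ∀ a ∈ Y, ∀ b ∈ Y, Commute a b := by
    intro a ha b hb
    haveI := hY.1
    have := mul_comm' (⟨a, ha⟩ : Y) ⟨b, hb⟩
    exact congrArg Subtype.val this
  have hY2 : ∀ a ∈ Y, a ^ 2 = 1 := hY.2
  have hfp : ∀ x ∈ Y, ∀ v ∈ Oc x, z * v = v * z → v = 1 := by
    intro x hx v hv hc
    exact eq_one_of_mem_Oc hzF (hYc x hx z hzY) (hY2 x hx) hv hc.symm
  have hinv : ∀ x ∈ Y, ∀ v ∈ Oc x, z * v * z⁻¹ = v⁻¹ := by
    intro x hx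
    exact invert_of_fpf (hY2 z hzY) (fun v hv => Oc_conj (hYc z hzY x hx) hv) (hfp x hx)
  have habel : ∀ x ∈ Y, ∀ s ∈ Oc x, ∀ t ∈ Oc x, s * t = t * s := by
    intro x hx s hs t ht
    exact comm_of_invert (hinv x hx) hs ht
  have hbal : ∀ x ∈ Y, ∀ y ∈ Y, y ≠ 1 → ∀ v ∈ Oc x, Commute v y → v ∈ Oc y := by
    intro x hx y hy hy1 v hv hvy
    exact mem_Oc_of_commute (hE y hy hy1) (hinv x hx) (hinv y hy) (hYc x hx y hy) (hY2 x hx) hv hvy
  have hkey : ∀ x ∈ Y, ∀ x' ∈ Y, ∀ y ∈ Y, y ≠ 1 → ∀ v ∈ Oc x, ∀ w ∈ Oc x', Commute v y → Commute w y →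
      Commute v w := by
    intro x hx x' hx' y hy hy1 v hv w hw hvy hwy
    exact habel y hy _ (hbal x hx y hy hy1 v hv hvy) _ (hbal x' hx' y hy hy1 w hw hwy)
  intro x hx hx1 x' hx' hx'1 v hv w hw
  have hvodd := Oc_odd hv
  have hwodd := Oc_odd hw
  have hvx : Commute v x := Oc_commute hv
  have hwx' : Commute w x' := Oc_commute hw
  by_cases hcase : z = x * x'
  · -- choose `b`
    obtain ⟨b, hbY, hb1, hbx, hbx', hbz⟩ : ∃ b ∈ Y, b ≠ 1 ∧ b ≠ x ∧ b ≠ x' ∧ b ≠ z := by
      by_contra hcon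
      push Not at hcon
      have hsub : (Y : Set X) ⊆ (({1, x, x', z} : Finset X) : Set X) := by
        intro b hb
        by_cases h1 : b = 1
        · simp [h1]
        by_cases h2 : b = x
        · simp [h2]
        by_cases h3 : b = x'
        · simp [h3]
        have := hcon b hb h1 h2 h3
        simp [this]
      have hcard : Nat.card Y ≤ 4 := by
        have h1 : Nat.card Y = (Y : Set X).ncard := Nat.card_coe_set_eq (Y : Set X)
        rw [h1]
        calc (Y : Set X).ncard ≤ ((({1, x, x', z} : Finset X) : Set X)).ncard :=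
              Set.ncard_le_ncard hsub (Finset.finite_toSet _)
          _ = ({1, x, x', z} : Finset X).card := Set.ncard_coe_finset _
          _ ≤ 4 := Finset.card_le_four
      omega
    have hbz2 : b * z ≠ 1 := by
      intro h
      apply hbz
      have h2 : z * z = 1 := by rw [← pow_two]; exact hY2 z hzY
      calc b = b * z * z := by rw [mul_assoc, h2, mul_one]
        _ = z := by rw [h, one_mul]
    obtain ⟨p₁, hp₁, p₂, hp₂, hp₁b, hp₂b, hv2⟩ :=
      exists_decomp (habel x hx) (hinv x hx) (hYc b hbY x hx) (hY2 b hbY) hv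
    obtain ⟨r₁, hr₁, r₂, hr₂, hr₁b, hr₂b, hw2⟩ :=
      exists_decomp (habel x' hx') (hinv x' hx') (hYc b hbY x' hx') (hY2 b hbY) hw
    have hbzY : b * z ∈ Y := Y.mul_mem hbY hzY
    have hxb : x * b ∈ Y := Y.mul_mem hx hbY
    have hx'b : x' * b ∈ Y := Y.mul_mem hx' hbY
    have hxb1 : x * b ≠ 1 := by
      intro h
      apply hbx
      have h2 : x * x = 1 := by rw [← pow_two]; exact hY2 x hx
      calc b = x * (x * b) := by rw [← mul_assoc, h2, one_mul]
        _ = x := by rw [h, mul_one]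
    have hx'b1 : x' * b ≠ 1 := by
      intro h
      apply hbx'
      have h2 : x' * x' = 1 := by rw [← pow_two]; exact hY2 x' hx'
      calc b = x' * (x' * b) := by rw [← mul_assoc, h2, one_mul]
        _ = x' := by rw [h, mul_one]
    have h11 : Commute p₁ r₁ := hkey x hx x' hx' b hbY hb1 _ hp₁ _ hr₁ hp₁b hr₁b
    have h22 : Commute p₂ r₂ := hkey x hx x' hx' _ hbzY hbz2 _ hp₂ _ hr₂ hp₂b hr₂b
    have e1 : x' * (b * z) = x * b := by
      have h2 : x' * x' = 1 := by rw [← pow_two]; exact hY2 x' hx'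
      rw [hcase]
      calc x' * (b * (x * x')) = x' * ((b * x) * x') := by group
        _ = x' * ((x * b) * x') := by rw [(hYc b hbY x hx).eq]
        _ = x' * ((x * b) * x') := rfl
        _ = (x' * (x * b)) * x' := by group
        _ = ((x * b) * x') * x' := by rw [(hYc x' hx' _ hxb).eq]
        _ = (x * b) * (x' * x') := by group
        _ = x * b := by rw [h2, mul_one]
    have e2 : x * (b * z) = x' * b := by
      have h2 : x * x = 1 := by rw [← pow_two]; exact hY2 x hx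
      rw [hcase]
      calc x * (b * (x * x')) = x * ((b * x) * x') := by group
        _ = x * ((x * b) * x') := by rw [(hYc b hbY x hx).eq]
        _ = (x * x) * b * x' := by group
        _ = b * x' := by rw [h2, one_mul]
        _ = x' * b := (hYc b hbY x' hx').eq
    have h12 : Commute p₁ r₂ := by
      apply hkey x hx x' hx' (x * b) hxb hxb1 _ hp₁ _ hr₂
      · exact (Oc_commute hp₁).mul_right hp₁b
      · rw [← e1]
        exact (Oc_commute hr₂).mul_right hr₂b
    have h21 : Commute p₂ r₁ := by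
      apply hkey x hx x' hx' (x' * b) hx'b hx'b1 _ hp₂ _ hr₁
      · rw [← e2]
        exact (Oc_commute hp₂).mul_right hp₂b
      · exact (Oc_commute hr₁).mul_right hr₁b
    have h3 : Commute (v ^ 2) (w ^ 2) := by
      rw [hv2, hw2]
      exact Commute.mul_left (Commute.mul_right h11 h12) (Commute.mul_right h21 h22)
    exact commute_of_sq hvodd (commute_of_sq hwodd h3.symm).symm
  · -- the other case
    have hy : x * (x' * z) ≠ 1 := by
      intro h
      apply hcase
      have h2 : (x * x') * z = 1 := by rw [mul_assoc]; exact h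
      have h3 : (x * x') * (x * x') = 1 := by
        have hc := (hYc x hx x' hx').eq
        calc (x * x') * (x * x') = x * (x' * x) * x' := by group
          _ = x * (x * x') * x' := by rw [← hc]
          _ = (x * x) * (x' * x') := by group
          _ = 1 := by
            rw [← pow_two, ← pow_two, hY2 x hx, hY2 x' hx', one_mul]
      calc z = ((x * x') * (x * x')) * z := by rw [h3, one_mul]
        _ = (x * x') * ((x * x') * z) := by group
        _ = x * x' := by rw [h2, mul_one]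
    have hyY : x * (x' * z) ∈ Y := Y.mul_mem hx (Y.mul_mem hx' hzY)
    obtain ⟨p₁, hp₁, p₂, hp₂, hp₁b, hp₂b, hv2⟩ :=
      exists_decomp (habel x hx) (hinv x hx) (hYc x' hx' x hx) (hY2 x' hx') hv
    obtain ⟨r₁, hr₁, r₂, hr₂, hr₁b, hr₂b, hw2⟩ :=
      exists_decomp (habel x' hx') (hinv x' hx') (hYc x hx x' hx') (hY2 x hx) hw
    have h1w : Commute p₁ w := hkey x hx x' hx' x' hx' hx'1 _ hp₁ _ hw hp₁b hwx'
    have h21 : Commute p₂ r₁ := hkey x hx x' hx' x hx hx1 _ hp₂ _ hr₁ (Oc_commute hp₂) hr₁b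
    have e : x' * (x * z) = x * (x' * z) := by
      rw [← mul_assoc, ← mul_assoc, (hYc x' hx' x hx).eq]
    have h22 : Commute p₂ r₂ := by
      apply hkey x hx x' hx' _ hyY hy _ hp₂ _ hr₂
      · exact (Oc_commute hp₂).mul_right hp₂b
      · rw [← e]
        exact (Oc_commute hr₂).mul_right hr₂b
    have h2w : Commute p₂ w := by
      apply (commute_of_sq hwodd _).symm
      rw [hw2]
      exact (Commute.mul_right h21 h22).symm
    have h3 : Commute (v ^ 2) w := by
      rw [hv2]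
      exact Commute.mul_left h1w h2w
    exact commute_of_sq hvodd h3

end main

end Cfsg.Agent.Lib.OddInvert
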