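import Mathlib
import Cfsg.Agent.Lib.OmCalc
import Cfsg.Agent.Lib.TvGL
import Cfsg.Agent.Lib.SympTIPair

/-!
# The stabiliser in `Ω` of a totally singular subspace
-/

set_option autoImplicit false
set_option linter.unusedSectionVars false
set_option linter.unusedVariables false

namespace Cfsg.Agent.Lib.OmTS

open Matrix QuadraticMap Cfsg Cfsg.Geo Module
open Cfsg.Agent.Lib.OrthoBasic Cfsg.Agent.Lib.OrthoSiegel Cfsg.Agent.Lib.OmCalc Cfsg.Agent.Lib.TvGL
open Cfsg.Agent.Lib.SympT (GL_ext mulVec_mul_GL mulVec_inv_GL inv_mulVec_GL)
open Cfsg.Agent.Lib.QuadFF (nondegenerate_of_ND polar_sm_r polar_sm_l Q_ad Q_sm)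

local notation:70 g:71 " ⋆ " x:70 => Matrix.mulVec (Units.val g) x

variable {ι : Type} [Fintype ι] [DecidableEq ι] {F : Type*} [Field F] [Fintype F]
  {Q : QuadraticForm F (ι → F)}

theorem polar_of_ts {W : Submodule F (ι → F)} (hW : ∀ w ∈ W, Q w = 0) {u v : ι → F} (hu : u ∈ W) (hv : v ∈ W) :
    polar Q u v = 0 := by
  rw [polar, hW _ (W.add_mem hu hv), hW _ hu, hW _ hv]
  ring

/-- The stabiliser of a totally singular subspace is maximal in `Ω` (when the orthogonal modulo the subspace is not
a plus-type plane). -/
theorem ts_maximal (hQ : Nondeg Q) (h11 : 11 ≤ Fintype.card ι) {W : Submodule F (ι → F)} (hW0 : W ≠ ⊥)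
    (hW : ∀ w ∈ W, Q w = 0)
    (hgood : ∀ u, u ∉ W → (∀ w ∈ W, polar Q w u = 0) → Q u = 0 → 2 * (finrank F W + 1) ≠ Fintype.card ι) :
    IsMaximalIn (omegaGL ⇑Q) (subspaceStabilizer W ⊓ omegaGL ⇑Q) := by
  classical
  have hND := nd_of hQ
  have hd : finrank F (ι → F) = Fintype.card ι := by simp
  have hB : (polarBilin Q : LinearMap.BilinForm F (ι → F)).Nondegenerate := nondegenerate_of_ND hND
  have hrefl : (polarBilin Q : LinearMap.BilinForm F (ι → F)).IsRefl := by
    intro x y hxy
    have : polar Q x y = 0 := hxy
    show polar Q y x = 0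
    rwa [polar_comm]
  refine ⟨lt_of_le_of_ne inf_le_right ?_, ?_⟩
  · -- properness
    intro he
    obtain ⟨w, hw, hw0⟩ := Submodule.exists_mem_ne_zero_of_ne_bot hW0
    obtain ⟨e, he0, hwe⟩ := Cfsg.Agent.Lib.OmGeo.exists_sing_opp hND (by omega) hw0
    obtain ⟨a, b, hab, h1⟩ := Cfsg.Agent.Lib.OmGeo.exists_hyp_perp hND {e} (by simp; omega)
    obtain ⟨h1a, h1b⟩ := h1 e (by simp)
    set y := a + b with hy
    have hQy : Q y = 1 := by
      rw [hy, Q_ad, hab.Qv, hab.Qw, hab.vw]
      ring
    have hey : polar Q e y = 0 := by rw [hy, polar_add_right, h1a, h1b, add_zero]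
    have ht : sE hQ he0 hey ∈ subspaceStabilizer W ⊓ omegaGL ⇑Q := by
      rw [he]
      exact sE_mem_omegaGL hQ h11 he0 hey
    have h2 := ((mem_stab_iff W _).1 ht.1 w).1 hw
    have h3 := polar_of_ts hW hw h2
    rw [sE_apply', polar_sub_right, polar_add_right, polar_sm_r, polar_sm_r, polar_of_ts hW hw hw, hQy] at h3
    apply hwe
    have h4 : polar Q w e * polar Q w e = 0 := by
      linear_combination -h3
    exact mul_self_eq_zero.1 h4
  · intro M hHM hMK
    by_cases hne : M = subspaceStabilizer W ⊓ omegaGL ⇑Q
    · exact Or.inl hne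
    right
    obtain ⟨g, hgM, hgH⟩ : ∃ g ∈ M, g ∉ subspaceStabilizer W ⊓ omegaGL ⇑Q := by
      by_contra hcon
      push Not at hcon
      exact hne (le_antisymm hcon hHM)
    have hgS : g ∉ subspaceStabilizer W := fun h => hgH ⟨h, hMK hgM⟩
    have hMi : ∀ t ∈ M, ∀ v, Q (t ⋆ v) = Q v := fun t ht => iso_omega (hMK ht)
    -- the subspace consists of good centres
    have hTW : ∀ w ∈ W, T hQ M w := by
      intro w hw
      refine ⟨hW w hw, fun y hy => ?_⟩
      refine ⟨hW w hw, hy, hHM ⟨mem_stab_of_map_le W _ ?_, sE_mem_omegaGL hQ h11 _ _⟩⟩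
      intro x hx
      rw [sE_apply', polar_of_ts hW hx hw]
      simp only [zero_smul, add_zero, mul_zero]
      exact W.sub_mem hx (W.smul_mem _ hw)
    obtain ⟨w, hw, hgw⟩ : ∃ w ∈ W, g ⋆ w ∉ W := by
      by_contra h1
      push Not at h1
      exact hgS (mem_stab_of_map_le W g h1)
    set u := g ⋆ w with hu
    have huT : T hQ M u := T_conj (hMi g hgM) hgM (hTW w hw)
    have hQu : Q u = 0 := huT.1
    refine le_antisymm hMK ?_
    by_cases huperp : ∀ w' ∈ W, polar Q w' u = 0
    · -- `u` lies in the orthogonal
      have hgd := hgood u hgw huperp hQu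
      -- a partner in the orthogonal
      set B : LinearMap.BilinForm F (ι → F) := polarBilin Q with hBdef
      have hperp : ∀ z, z ∈ B.orthogonal W ↔ ∀ s ∈ W, polar Q s z = 0 := fun z =>
        LinearMap.BilinForm.mem_orthogonal_iff
      have hperpW : B.orthogonal (B.orthogonal W) = W := LinearMap.BilinForm.orthogonal_orthogonal hB hrefl W
      obtain ⟨a, haW, hua⟩ : ∃ a ∈ B.orthogonal W, polar Q a u ≠ 0 := by
        by_contra hcon
        push Not at hcon
        apply hgw
        rw [← hperpW, LinearMap.BilinForm.mem_orthogonal_iff]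
        exact hcon
      set a' : ι → F := (polar Q a u)⁻¹ • a with ha'
      have ha'u : polar Q a' u = 1 := by
        rw [ha', polar_sm_l, inv_mul_cancel₀ hua]
      have ha'W : a' ∈ B.orthogonal W := Submodule.smul_mem _ _ haW
      have huW : u ∈ B.orthogonal W := (hperp u).2 huperp
      set c : ι → F := a' - Q a' • u with hc
      have hcW : c ∈ B.orthogonal W := Submodule.sub_mem _ ha'W (Submodule.smul_mem _ _ huW)
      have hcu : polar Q c u = 1 := by
        rw [hc, polar_sub_left, polar_sm_l Q (Q a') u u, ha'u, polar_self_zero hQu]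
        ring
      have hQc : Q c = 0 := by
        rw [hc, sub_eq_add_neg, Q_ad, QuadraticMap.map_neg, Q_sm (c := Q a') (x := u), hQu, polar_neg_right,
          polar_sm_r, ha'u]
        ring
      -- a non-singular vector orthogonal to everything
      obtain ⟨y, hyW, hQy⟩ : ∃ y ∈ B.orthogonal (W ⊔ Submodule.span F {u, c}), Q y ≠ 0 := by
        by_contra hcon
        push Not at hcon
        set Y := B.orthogonal (W ⊔ Submodule.span F {u, c}) with hY
        have hfY : finrank F Y = finrank F (ι → F) - finrank F ↥(W ⊔ Submodule.span F {u, c}) :=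
          LinearMap.BilinForm.finrank_orthogonal hB _
        have h1 : finrank F ↥(W ⊔ Submodule.span F {u, c}) ≤ finrank F W + 2 := by
          have h2 := Submodule.finrank_add_le_finrank_add_finrank W (Submodule.span F {u, c})
          have h3 := Cfsg.Agent.Lib.SympTIPair.finrank_span_two (F := F) u c
          omega
        have hleY : ∀ z ∈ Y, polar Q u z = 0 := by
          intro z hz
          exact LinearMap.BilinForm.mem_orthogonal_iff.1 hz u
            (Submodule.mem_sup_right (Submodule.subset_span (by simp)))
        -- `Y + ⟨u⟩` is totally singular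
        have hts : ∀ z ∈ Y ⊔ Submodule.span F {u}, Q z = 0 := by
          intro z hz
          obtain ⟨y', hy', z', hz', rfl⟩ := Submodule.mem_sup.1 hz
          obtain ⟨r, rfl⟩ := Submodule.mem_span_singleton.1 hz'
          rw [Q_ad, hcon y' hy', Q_sm, hQu, polar_sm_r, polar_comm, hleY y' hy']
          ring
        have h2 := Cfsg.Agent.Lib.OmGeo.finrank_le_of_ts hND _ hts
        have huY : u ∉ Y := by
          intro hmem
          have := LinearMap.BilinForm.mem_orthogonal_iff.1 hmem c
            (Submodule.mem_sup_right (Submodule.subset_span (by simp)))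
          have h3 : polar Q c u = 0 := this
          rw [hcu] at h3
          exact one_ne_zero h3
        have h3 : finrank F ↥(Y ⊔ Submodule.span F {u}) = finrank F Y + 1 := by
          have hdisj : Disjoint Y (Submodule.span F {u}) := by
            rw [Submodule.disjoint_def]
            intro x hx hx'
            obtain ⟨r, rfl⟩ := Submodule.mem_span_singleton.1 hx'
            by_contra hne0
            have hr : r ≠ 0 := by
              rintro rfl
              simp at hne0
            apply huY
            have := Y.smul_mem r⁻¹ hx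
            rwa [smul_smul, inv_mul_cancel₀ hr, one_smul] at this
          have h4 := Submodule.finrank_sup_add_finrank_inf_eq Y (Submodule.span F {u})
          rw [hdisj.eq_bot, finrank_bot, add_zero] at h4
          have hu0 : u ≠ 0 := by
            intro h0
            rw [h0, polar_zero_right] at hcu
            exact zero_ne_one hcu
          rw [finrank_span_singleton hu0] at h4
          exact h4
        -- `W + ⟨u⟩` is totally singular
        have hts' : ∀ z ∈ W ⊔ Submodule.span F {u}, Q z = 0 := by
          intro z hz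
          obtain ⟨y', hy', z', hz', rfl⟩ := Submodule.mem_sup.1 hz
          obtain ⟨r, rfl⟩ := Submodule.mem_span_singleton.1 hz'
          rw [Q_ad, hW y' hy', Q_sm, hQu, polar_sm_r, huperp y' hy']
          ring
        have h4 := Cfsg.Agent.Lib.OmGeo.finrank_le_of_ts hND _ hts'
        have h5 : finrank F ↥(W ⊔ Submodule.span F {u}) = finrank F W + 1 := by
          have hdisj : Disjoint W (Submodule.span F {u}) := by
            rw [Submodule.disjoint_def]
            intro x hx hx'
            obtain ⟨r, rfl⟩ := Submodule.mem_span_singleton.1 hx'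
            by_contra hne0
            have hr : r ≠ 0 := by
              rintro rfl
              simp at hne0
            apply hgw
            have := W.smul_mem r⁻¹ hx
            rwa [smul_smul, inv_mul_cancel₀ hr, one_smul] at this
          have h6 := Submodule.finrank_sup_add_finrank_inf_eq W (Submodule.span F {u})
          rw [hdisj.eq_bot, finrank_bot, add_zero] at h6
          have hu0 : u ≠ 0 := by
            intro h0
            rw [h0, polar_zero_right] at hcu
            exact zero_ne_one hcu
          rw [finrank_span_singleton hu0] at h6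
          exact h6
        have hne' := Submodule.finrank_le (W ⊔ Submodule.span F {u, c})
        rw [hd] at h2 h4 hne' hfY
        omega
      have hyperp : ∀ s ∈ W ⊔ Submodule.span F {u, c}, polar Q s y = 0 := fun s hs =>
        LinearMap.BilinForm.mem_orthogonal_iff.1 hyW s hs
      have hyc : polar Q c y = 0 := hyperp c (Submodule.mem_sup_right (Submodule.subset_span (by simp)))
      have hyu : polar Q u y = 0 := hyperp u (Submodule.mem_sup_right (Submodule.subset_span (by simp)))
      have hywW : ∀ x ∈ W, polar Q x y = 0 := fun x hx => hyperp x (Submodule.mem_sup_left hx)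
      have hcwW : ∀ x ∈ W, polar Q x c = 0 := (hperp c).1 hcW
      have htH : sE hQ hQc hyc ∈ M := by
        refine hHM ⟨mem_stab_of_map_le W _ ?_, sE_mem_omegaGL hQ h11 _ _⟩
        intro x hx
        rw [sE_apply', hywW x hx, hcwW x hx]
        simpa using hx
      have h6 := T_conj (sE_iso hQ hQc hyc) htH huT
      have huc : polar Q u c = 1 := by rw [polar_comm]; exact hcu
      have h7 : polar Q (sE hQ hQc hyc ⋆ u) u ≠ 0 := by
        rw [sE_apply', huc, hyu, polar_sub_left, polar_add_left, polar_sm_l, polar_sm_l, polar_self_zero hQu,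
          hcu, polar_comm Q y u, hyu]
        simpa using hQy
      exact omega_le_of_opp h11 huT h6 h7
    · push Not at huperp
      obtain ⟨w', hw', hne'⟩ := huperp
      exact omega_le_of_opp h11 huT (hTW w' hw') hne'

end Cfsg.Agent.Lib.OmTS
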