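import Mathlib
import Cfsg.Agent.Lib.OJ1Pres
import Cfsg.Agent.Lib.OM11Pres
import Cfsg.Agent.Lib.PresEmb
import Cfsg.Agent.TcData.ON.I122760.Rep

/-!
# Words for the first Janko group and the Mathieu group of degree eleven in the O'Nan group
-/

set_option autoImplicit false
set_option maxRecDepth 1000000
set_option Elab.async false

namespace Cfsg.Agent.Lib.OnChk

open Cfsg.Spor Cfsg.Agent.Lib.TcBits Cfsg.Agent.Lib.PresEmb Cfsg.Agent.TcData.ON.I122760
open Cfsg.Spor.ON (Gen)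

/-- the words for the Janko group -/
def AJ : Cfsg.Agent.Lib.OJ1Pres.Gen → List (Gen × Bool)
  | .x => [(.c, true), (.d, true), (.b, true), (.g, true), (.c, true), (.b, true), (.d, true), (.e, true), (.f, true), (.c, true), (.d, true), (.c, true), (.d, true), (.c, true), (.f, true), (.e, true), (.d, true), (.b, true), (.c, true), (.g, false), (.b, true), (.d, true), (.c, true)]
  | .y => [(.a, true), (.b, true)]

/-- the words for the Mathieu group -/
def AM : Cfsg.Agent.Lib.OM11Pres.Gen → List (Gen × Bool)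
  | .x => [(.g, false), (.g, false), (.b, true), (.g, false), (.a, true), (.c, true), (.a, true), (.d, true), (.c, true), (.b, true), (.c, true), (.g, true), (.a, true), (.d, true), (.e, true), (.d, true), (.c, true), (.d, true), (.e, true), (.d, true), (.a, true), (.g, false), (.c, true), (.b, true), (.c, true), (.d, true), (.a, true), (.c, true), (.a, true), (.g, true), (.b, true), (.g, true), (.g, true)]
  | .y => [(.g, false), (.g, false), (.b, true), (.g, false), (.a, true), (.c, true), (.a, true), (.d, true), (.c, true), (.b, true), (.c, true), (.g, true), (.a, true), (.d, true), (.e, true), (.d, true), (.c, true), (.d, true), (.e, true), (.d, true), (.a, true), (.g, false), (.c, true), (.b, true), (.c, true), (.d, true), (.a, true), (.c, true), (.a, true), (.g, true), (.b, true), (.g, true), (.g, true), (.e, true), (.d, true), (.c, true), (.b, true), (.g, false)]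

theorem cM_0_0 : wordApply (sgnProg pr) (substW AM (Cfsg.Agent.Lib.OM11Pres.extra.getD 0 1).toWord) (slice 17 0) = slice 17 0 := by decide +kernel

theorem cM_0_1 : wordApply (sgnProg pr) (substW AM (Cfsg.Agent.Lib.OM11Pres.extra.getD 0 1).toWord) (slice 17 1) = slice 17 1 := by decide +kernel

theorem cM_0_2 : wordApply (sgnProg pr) (substW AM (Cfsg.Agent.Lib.OM11Pres.extra.getD 0 1).toWord) (slice 17 2) = slice 17 2 := by decide +kernel

theorem cM_0_3 : wordApply (sgnProg pr) (substW AM (Cfsg.Agent.Lib.OM11Pres.extra.getD 0 1).toWord) (slice 17 3) = slice 17 3 := by decide +kernel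

theorem cM_0_4 : wordApply (sgnProg pr) (substW AM (Cfsg.Agent.Lib.OM11Pres.extra.getD 0 1).toWord) (slice 17 4) = slice 17 4 := by decide +kernel

theorem cM_0_5 : wordApply (sgnProg pr) (substW AM (Cfsg.Agent.Lib.OM11Pres.extra.getD 0 1).toWord) (slice 17 5) = slice 17 5 := by decide +kernel

theorem cM_0_6 : wordApply (sgnProg pr) (substW AM (Cfsg.Agent.Lib.OM11Pres.extra.getD 0 1).toWord) (slice 17 6) = slice 17 6 := by decide +kernel

theorem cM_0_7 : wordApply (sgnProg pr) (substW AM (Cfsg.Agent.Lib.OM11Pres.extra.getD 0 1).toWord) (slice 17 7) = slice 17 7 := by decide +kernel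

theorem cM_0_8 : wordApply (sgnProg pr) (substW AM (Cfsg.Agent.Lib.OM11Pres.extra.getD 0 1).toWord) (slice 17 8) = slice 17 8 := by decide +kernel

theorem cM_0_9 : wordApply (sgnProg pr) (substW AM (Cfsg.Agent.Lib.OM11Pres.extra.getD 0 1).toWord) (slice 17 9) = slice 17 9 := by decide +kernel

theorem cM_0_10 : wordApply (sgnProg pr) (substW AM (Cfsg.Agent.Lib.OM11Pres.extra.getD 0 1).toWord) (slice 17 10) = slice 17 10 := by decide +kernel

theorem cM_0_11 : wordApply (sgnProg pr) (substW AM (Cfsg.Agent.Lib.OM11Pres.extra.getD 0 1).toWord) (slice 17 11) = slice 17 11 := by decide +kernel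

theorem cM_0_12 : wordApply (sgnProg pr) (substW AM (Cfsg.Agent.Lib.OM11Pres.extra.getD 0 1).toWord) (slice 17 12) = slice 17 12 := by decide +kernel

theorem cM_0_13 : wordApply (sgnProg pr) (substW AM (Cfsg.Agent.Lib.OM11Pres.extra.getD 0 1).toWord) (slice 17 13) = slice 17 13 := by decide +kernel

theorem cM_0_14 : wordApply (sgnProg pr) (substW AM (Cfsg.Agent.Lib.OM11Pres.extra.getD 0 1).toWord) (slice 17 14) = slice 17 14 := by decide +kernel

theorem cM_0_15 : wordApply (sgnProg pr) (substW AM (Cfsg.Agent.Lib.OM11Pres.extra.getD 0 1).toWord) (slice 17 15) = slice 17 15 := by decide +kernel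

theorem cM_0_16 : wordApply (sgnProg pr) (substW AM (Cfsg.Agent.Lib.OM11Pres.extra.getD 0 1).toWord) (slice 17 16) = slice 17 16 := by decide +kernel

theorem cM_0 : ∀ j, j < 17 → wordApply (sgnProg pr) (substW AM (Cfsg.Agent.Lib.OM11Pres.extra.getD 0 1).toWord) (slice 17 j) = slice 17 j := by
  intro j hj
  interval_cases j
  exacts [cM_0_0, cM_0_1, cM_0_2, cM_0_3, cM_0_4, cM_0_5, cM_0_6, cM_0_7, cM_0_8, cM_0_9, cM_0_10, cM_0_11, cM_0_12, cM_0_13, cM_0_14, cM_0_15, cM_0_16]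

theorem cM_1_0 : wordApply (sgnProg pr) (substW AM (Cfsg.Agent.Lib.OM11Pres.extra.getD 1 1).toWord) (slice 17 0) = slice 17 0 := by decide +kernel

theorem cM_1_1 : wordApply (sgnProg pr) (substW AM (Cfsg.Agent.Lib.OM11Pres.extra.getD 1 1).toWord) (slice 17 1) = slice 17 1 := by decide +kernel

theorem cM_1_2 : wordApply (sgnProg pr) (substW AM (Cfsg.Agent.Lib.OM11Pres.extra.getD 1 1).toWord) (slice 17 2) = slice 17 2 := by decide +kernel

theorem cM_1_3 : wordApply (sgnProg pr) (substW AM (Cfsg.Agent.Lib.OM11Pres.extra.getD 1 1).toWord) (slice 17 3) = slice 17 3 := by decide +kernel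

theorem cM_1_4 : wordApply (sgnProg pr) (substW AM (Cfsg.Agent.Lib.OM11Pres.extra.getD 1 1).toWord) (slice 17 4) = slice 17 4 := by decide +kernel

theorem cM_1_5 : wordApply (sgnProg pr) (substW AM (Cfsg.Agent.Lib.OM11Pres.extra.getD 1 1).toWord) (slice 17 5) = slice 17 5 := by decide +kernel

theorem cM_1_6 : wordApply (sgnProg pr) (substW AM (Cfsg.Agent.Lib.OM11Pres.extra.getD 1 1).toWord) (slice 17 6) = slice 17 6 := by decide +kernel

theorem cM_1_7 : wordApply (sgnProg pr) (substW AM (Cfsg.Agent.Lib.OM11Pres.extra.getD 1 1).toWord) (slice 17 7) = slice 17 7 := by decide +kernel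

theorem cM_1_8 : wordApply (sgnProg pr) (substW AM (Cfsg.Agent.Lib.OM11Pres.extra.getD 1 1).toWord) (slice 17 8) = slice 17 8 := by decide +kernel

theorem cM_1_9 : wordApply (sgnProg pr) (substW AM (Cfsg.Agent.Lib.OM11Pres.extra.getD 1 1).toWord) (slice 17 9) = slice 17 9 := by decide +kernel

theorem cM_1_10 : wordApply (sgnProg pr) (substW AM (Cfsg.Agent.Lib.OM11Pres.extra.getD 1 1).toWord) (slice 17 10) = slice 17 10 := by decide +kernel

theorem cM_1_11 : wordApply (sgnProg pr) (substW AM (Cfsg.Agent.Lib.OM11Pres.extra.getD 1 1).toWord) (slice 17 11) = slice 17 11 := by decide +kernel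

theorem cM_1_12 : wordApply (sgnProg pr) (substW AM (Cfsg.Agent.Lib.OM11Pres.extra.getD 1 1).toWord) (slice 17 12) = slice 17 12 := by decide +kernel

theorem cM_1_13 : wordApply (sgnProg pr) (substW AM (Cfsg.Agent.Lib.OM11Pres.extra.getD 1 1).toWord) (slice 17 13) = slice 17 13 := by decide +kernel

theorem cM_1_14 : wordApply (sgnProg pr) (substW AM (Cfsg.Agent.Lib.OM11Pres.extra.getD 1 1).toWord) (slice 17 14) = slice 17 14 := by decide +kernel

theorem cM_1_15 : wordApply (sgnProg pr) (substW AM (Cfsg.Agent.Lib.OM11Pres.extra.getD 1 1).toWord) (slice 17 15) = slice 17 15 := by decide +kernel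

theorem cM_1_16 : wordApply (sgnProg pr) (substW AM (Cfsg.Agent.Lib.OM11Pres.extra.getD 1 1).toWord) (slice 17 16) = slice 17 16 := by decide +kernel

theorem cM_1 : ∀ j, j < 17 → wordApply (sgnProg pr) (substW AM (Cfsg.Agent.Lib.OM11Pres.extra.getD 1 1).toWord) (slice 17 j) = slice 17 j := by
  intro j hj
  interval_cases j
  exacts [cM_1_0, cM_1_1, cM_1_2, cM_1_3, cM_1_4, cM_1_5, cM_1_6, cM_1_7, cM_1_8, cM_1_9, cM_1_10, cM_1_11, cM_1_12, cM_1_13, cM_1_14, cM_1_15, cM_1_16]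

theorem cM_2_0 : wordApply (sgnProg pr) (substW AM (Cfsg.Agent.Lib.OM11Pres.extra.getD 2 1).toWord) (slice 17 0) = slice 17 0 := by decide +kernel

theorem cM_2_1 : wordApply (sgnProg pr) (substW AM (Cfsg.Agent.Lib.OM11Pres.extra.getD 2 1).toWord) (slice 17 1) = slice 17 1 := by decide +kernel

theorem cM_2_2 : wordApply (sgnProg pr) (substW AM (Cfsg.Agent.Lib.OM11Pres.extra.getD 2 1).toWord) (slice 17 2) = slice 17 2 := by decide +kernel

theorem cM_2_3 : wordApply (sgnProg pr) (substW AM (Cfsg.Agent.Lib.OM11Pres.extra.getD 2 1).toWord) (slice 17 3) = slice 17 3 := by decide +kernel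

theorem cM_2_4 : wordApply (sgnProg pr) (substW AM (Cfsg.Agent.Lib.OM11Pres.extra.getD 2 1).toWord) (slice 17 4) = slice 17 4 := by decide +kernel

theorem cM_2_5 : wordApply (sgnProg pr) (substW AM (Cfsg.Agent.Lib.OM11Pres.extra.getD 2 1).toWord) (slice 17 5) = slice 17 5 := by decide +kernel

theorem cM_2_6 : wordApply (sgnProg pr) (substW AM (Cfsg.Agent.Lib.OM11Pres.extra.getD 2 1).toWord) (slice 17 6) = slice 17 6 := by decide +kernel

theorem cM_2_7 : wordApply (sgnProg pr) (substW AM (Cfsg.Agent.Lib.OM11Pres.extra.getD 2 1).toWord) (slice 17 7) = slice 17 7 := by decide +kernel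

theorem cM_2_8 : wordApply (sgnProg pr) (substW AM (Cfsg.Agent.Lib.OM11Pres.extra.getD 2 1).toWord) (slice 17 8) = slice 17 8 := by decide +kernel

theorem cM_2_9 : wordApply (sgnProg pr) (substW AM (Cfsg.Agent.Lib.OM11Pres.extra.getD 2 1).toWord) (slice 17 9) = slice 17 9 := by decide +kernel

theorem cM_2_10 : wordApply (sgnProg pr) (substW AM (Cfsg.Agent.Lib.OM11Pres.extra.getD 2 1).toWord) (slice 17 10) = slice 17 10 := by decide +kernel

theorem cM_2_11 : wordApply (sgnProg pr) (substW AM (Cfsg.Agent.Lib.OM11Pres.extra.getD 2 1).toWord) (slice 17 11) = slice 17 11 := by decide +kernel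

theorem cM_2_12 : wordApply (sgnProg pr) (substW AM (Cfsg.Agent.Lib.OM11Pres.extra.getD 2 1).toWord) (slice 17 12) = slice 17 12 := by decide +kernel

theorem cM_2_13 : wordApply (sgnProg pr) (substW AM (Cfsg.Agent.Lib.OM11Pres.extra.getD 2 1).toWord) (slice 17 13) = slice 17 13 := by decide +kernel

theorem cM_2_14 : wordApply (sgnProg pr) (substW AM (Cfsg.Agent.Lib.OM11Pres.extra.getD 2 1).toWord) (slice 17 14) = slice 17 14 := by decide +kernel

theorem cM_2_15 : wordApply (sgnProg pr) (substW AM (Cfsg.Agent.Lib.OM11Pres.extra.getD 2 1).toWord) (slice 17 15) = slice 17 15 := by decide +kernel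

theorem cM_2_16 : wordApply (sgnProg pr) (substW AM (Cfsg.Agent.Lib.OM11Pres.extra.getD 2 1).toWord) (slice 17 16) = slice 17 16 := by decide +kernel

theorem cM_2 : ∀ j, j < 17 → wordApply (sgnProg pr) (substW AM (Cfsg.Agent.Lib.OM11Pres.extra.getD 2 1).toWord) (slice 17 j) = slice 17 j := by
  intro j hj
  interval_cases j
  exacts [cM_2_0, cM_2_1, cM_2_2, cM_2_3, cM_2_4, cM_2_5, cM_2_6, cM_2_7, cM_2_8, cM_2_9, cM_2_10, cM_2_11, cM_2_12, cM_2_13, cM_2_14, cM_2_15, cM_2_16]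

theorem cM_3_0 : wordApply (sgnProg pr) (substW AM (Cfsg.Agent.Lib.OM11Pres.extra.getD 3 1).toWord) (slice 17 0) = slice 17 0 := by decide +kernel

theorem cM_3_1 : wordApply (sgnProg pr) (substW AM (Cfsg.Agent.Lib.OM11Pres.extra.getD 3 1).toWord) (slice 17 1) = slice 17 1 := by decide +kernel

theorem cM_3_2 : wordApply (sgnProg pr) (substW AM (Cfsg.Agent.Lib.OM11Pres.extra.getD 3 1).toWord) (slice 17 2) = slice 17 2 := by decide +kernel

theorem cM_3_3 : wordApply (sgnProg pr) (substW AM (Cfsg.Agent.Lib.OM11Pres.extra.getD 3 1).toWord) (slice 17 3) = slice 17 3 := by decide +kernel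

theorem cM_3_4 : wordApply (sgnProg pr) (substW AM (Cfsg.Agent.Lib.OM11Pres.extra.getD 3 1).toWord) (slice 17 4) = slice 17 4 := by decide +kernel

theorem cM_3_5 : wordApply (sgnProg pr) (substW AM (Cfsg.Agent.Lib.OM11Pres.extra.getD 3 1).toWord) (slice 17 5) = slice 17 5 := by decide +kernel

theorem cM_3_6 : wordApply (sgnProg pr) (substW AM (Cfsg.Agent.Lib.OM11Pres.extra.getD 3 1).toWord) (slice 17 6) = slice 17 6 := by decide +kernel

theorem cM_3_7 : wordApply (sgnProg pr) (substW AM (Cfsg.Agent.Lib.OM11Pres.extra.getD 3 1).toWord) (slice 17 7) = slice 17 7 := by decide +kernel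

theorem cM_3_8 : wordApply (sgnProg pr) (substW AM (Cfsg.Agent.Lib.OM11Pres.extra.getD 3 1).toWord) (slice 17 8) = slice 17 8 := by decide +kernel

theorem cM_3_9 : wordApply (sgnProg pr) (substW AM (Cfsg.Agent.Lib.OM11Pres.extra.getD 3 1).toWord) (slice 17 9) = slice 17 9 := by decide +kernel

theorem cM_3_10 : wordApply (sgnProg pr) (substW AM (Cfsg.Agent.Lib.OM11Pres.extra.getD 3 1).toWord) (slice 17 10) = slice 17 10 := by decide +kernel

theorem cM_3_11 : wordApply (sgnProg pr) (substW AM (Cfsg.Agent.Lib.OM11Pres.extra.getD 3 1).toWord) (slice 17 11) = slice 17 11 := by decide +kernel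

theorem cM_3_12 : wordApply (sgnProg pr) (substW AM (Cfsg.Agent.Lib.OM11Pres.extra.getD 3 1).toWord) (slice 17 12) = slice 17 12 := by decide +kernel

theorem cM_3_13 : wordApply (sgnProg pr) (substW AM (Cfsg.Agent.Lib.OM11Pres.extra.getD 3 1).toWord) (slice 17 13) = slice 17 13 := by decide +kernel

theorem cM_3_14 : wordApply (sgnProg pr) (substW AM (Cfsg.Agent.Lib.OM11Pres.extra.getD 3 1).toWord) (slice 17 14) = slice 17 14 := by decide +kernel

theorem cM_3_15 : wordApply (sgnProg pr) (substW AM (Cfsg.Agent.Lib.OM11Pres.extra.getD 3 1).toWord) (slice 17 15) = slice 17 15 := by decide +kernel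

theorem cM_3_16 : wordApply (sgnProg pr) (substW AM (Cfsg.Agent.Lib.OM11Pres.extra.getD 3 1).toWord) (slice 17 16) = slice 17 16 := by decide +kernel

theorem cM_3 : ∀ j, j < 17 → wordApply (sgnProg pr) (substW AM (Cfsg.Agent.Lib.OM11Pres.extra.getD 3 1).toWord) (slice 17 j) = slice 17 j := by
  intro j hj
  interval_cases j
  exacts [cM_3_0, cM_3_1, cM_3_2, cM_3_3, cM_3_4, cM_3_5, cM_3_6, cM_3_7, cM_3_8, cM_3_9, cM_3_10, cM_3_11, cM_3_12, cM_3_13, cM_3_14, cM_3_15, cM_3_16]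

theorem cM_4_0 : wordApply (sgnProg pr) (substW AM (Cfsg.Agent.Lib.OM11Pres.extra.getD 4 1).toWord) (slice 17 0) = slice 17 0 := by decide +kernel

theorem cM_4_1 : wordApply (sgnProg pr) (substW AM (Cfsg.Agent.Lib.OM11Pres.extra.getD 4 1).toWord) (slice 17 1) = slice 17 1 := by decide +kernel

theorem cM_4_2 : wordApply (sgnProg pr) (substW AM (Cfsg.Agent.Lib.OM11Pres.extra.getD 4 1).toWord) (slice 17 2) = slice 17 2 := by decide +kernel

theorem cM_4_3 : wordApply (sgnProg pr) (substW AM (Cfsg.Agent.Lib.OM11Pres.extra.getD 4 1).toWord) (slice 17 3) = slice 17 3 := by decide +kernel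

theorem cM_4_4 : wordApply (sgnProg pr) (substW AM (Cfsg.Agent.Lib.OM11Pres.extra.getD 4 1).toWord) (slice 17 4) = slice 17 4 := by decide +kernel

theorem cM_4_5 : wordApply (sgnProg pr) (substW AM (Cfsg.Agent.Lib.OM11Pres.extra.getD 4 1).toWord) (slice 17 5) = slice 17 5 := by decide +kernel

theorem cM_4_6 : wordApply (sgnProg pr) (substW AM (Cfsg.Agent.Lib.OM11Pres.extra.getD 4 1).toWord) (slice 17 6) = slice 17 6 := by decide +kernel

theorem cM_4_7 : wordApply (sgnProg pr) (substW AM (Cfsg.Agent.Lib.OM11Pres.extra.getD 4 1).toWord) (slice 17 7) = slice 17 7 := by decide +kernel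

theorem cM_4_8 : wordApply (sgnProg pr) (substW AM (Cfsg.Agent.Lib.OM11Pres.extra.getD 4 1).toWord) (slice 17 8) = slice 17 8 := by decide +kernel

theorem cM_4_9 : wordApply (sgnProg pr) (substW AM (Cfsg.Agent.Lib.OM11Pres.extra.getD 4 1).toWord) (slice 17 9) = slice 17 9 := by decide +kernel

theorem cM_4_10 : wordApply (sgnProg pr) (substW AM (Cfsg.Agent.Lib.OM11Pres.extra.getD 4 1).toWord) (slice 17 10) = slice 17 10 := by decide +kernel

theorem cM_4_11 : wordApply (sgnProg pr) (substW AM (Cfsg.Agent.Lib.OM11Pres.extra.getD 4 1).toWord) (slice 17 11) = slice 17 11 := by decide +kernel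

theorem cM_4_12 : wordApply (sgnProg pr) (substW AM (Cfsg.Agent.Lib.OM11Pres.extra.getD 4 1).toWord) (slice 17 12) = slice 17 12 := by decide +kernel

theorem cM_4_13 : wordApply (sgnProg pr) (substW AM (Cfsg.Agent.Lib.OM11Pres.extra.getD 4 1).toWord) (slice 17 13) = slice 17 13 := by decide +kernel

theorem cM_4_14 : wordApply (sgnProg pr) (substW AM (Cfsg.Agent.Lib.OM11Pres.extra.getD 4 1).toWord) (slice 17 14) = slice 17 14 := by decide +kernel

theorem cM_4_15 : wordApply (sgnProg pr) (substW AM (Cfsg.Agent.Lib.OM11Pres.extra.getD 4 1).toWord) (slice 17 15) = slice 17 15 := by decide +kernel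

theorem cM_4_16 : wordApply (sgnProg pr) (substW AM (Cfsg.Agent.Lib.OM11Pres.extra.getD 4 1).toWord) (slice 17 16) = slice 17 16 := by decide +kernel

theorem cM_4 : ∀ j, j < 17 → wordApply (sgnProg pr) (substW AM (Cfsg.Agent.Lib.OM11Pres.extra.getD 4 1).toWord) (slice 17 j) = slice 17 j := by
  intro j hj
  interval_cases j
  exacts [cM_4_0, cM_4_1, cM_4_2, cM_4_3, cM_4_4, cM_4_5, cM_4_6, cM_4_7, cM_4_8, cM_4_9, cM_4_10, cM_4_11, cM_4_12, cM_4_13, cM_4_14, cM_4_15, cM_4_16]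

theorem chkM : ∀ r ∈ Cfsg.Agent.Lib.OM11Pres.extra, ∀ j, j < 17 → wordApply (sgnProg pr) (substW AM r.toWord) (slice 17 j) = slice 17 j := by
  intro r hr
  obtain ⟨i, hi, rfl⟩ := List.getElem_of_mem hr
  have hi' : i < 5 := hi
  have h : ∀ i, (hi : i < 5) → ∀ j, j < 17 → wordApply (sgnProg pr) (substW AM (Cfsg.Agent.Lib.OM11Pres.extra.getD i 1).toWord) (slice 17 j) = slice 17 j := by
    intro i hi
    interval_cases i
    exacts [cM_0, cM_1, cM_2, cM_3, cM_4]
  have := h i hi'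
  rwa [List.getD_eq_getElem _ _ hi] at this

theorem cJ_0_0 : wordApply (sgnProg pr) (substW AJ (Cfsg.Agent.Lib.OJ1Pres.extra.getD 0 1).toWord) (slice 17 0) = slice 17 0 := by decide +kernel

theorem cJ_0_1 : wordApply (sgnProg pr) (substW AJ (Cfsg.Agent.Lib.OJ1Pres.extra.getD 0 1).toWord) (slice 17 1) = slice 17 1 := by decide +kernel

theorem cJ_0_2 : wordApply (sgnProg pr) (substW AJ (Cfsg.Agent.Lib.OJ1Pres.extra.getD 0 1).toWord) (slice 17 2) = slice 17 2 := by decide +kernel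

theorem cJ_0_3 : wordApply (sgnProg pr) (substW AJ (Cfsg.Agent.Lib.OJ1Pres.extra.getD 0 1).toWord) (slice 17 3) = slice 17 3 := by decide +kernel

theorem cJ_0_4 : wordApply (sgnProg pr) (substW AJ (Cfsg.Agent.Lib.OJ1Pres.extra.getD 0 1).toWord) (slice 17 4) = slice 17 4 := by decide +kernel

theorem cJ_0_5 : wordApply (sgnProg pr) (substW AJ (Cfsg.Agent.Lib.OJ1Pres.extra.getD 0 1).toWord) (slice 17 5) = slice 17 5 := by decide +kernel

theorem cJ_0_6 : wordApply (sgnProg pr) (substW AJ (Cfsg.Agent.Lib.OJ1Pres.extra.getD 0 1).toWord) (slice 17 6) = slice 17 6 := by decide +kernel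

theorem cJ_0_7 : wordApply (sgnProg pr) (substW AJ (Cfsg.Agent.Lib.OJ1Pres.extra.getD 0 1).toWord) (slice 17 7) = slice 17 7 := by decide +kernel

theorem cJ_0_8 : wordApply (sgnProg pr) (substW AJ (Cfsg.Agent.Lib.OJ1Pres.extra.getD 0 1).toWord) (slice 17 8) = slice 17 8 := by decide +kernel

theorem cJ_0_9 : wordApply (sgnProg pr) (substW AJ (Cfsg.Agent.Lib.OJ1Pres.extra.getD 0 1).toWord) (slice 17 9) = slice 17 9 := by decide +kernel

theorem cJ_0_10 : wordApply (sgnProg pr) (substW AJ (Cfsg.Agent.Lib.OJ1Pres.extra.getD 0 1).toWord) (slice 17 10) = slice 17 10 := by decide +kernel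

theorem cJ_0_11 : wordApply (sgnProg pr) (substW AJ (Cfsg.Agent.Lib.OJ1Pres.extra.getD 0 1).toWord) (slice 17 11) = slice 17 11 := by decide +kernel

theorem cJ_0_12 : wordApply (sgnProg pr) (substW AJ (Cfsg.Agent.Lib.OJ1Pres.extra.getD 0 1).toWord) (slice 17 12) = slice 17 12 := by decide +kernel

theorem cJ_0_13 : wordApply (sgnProg pr) (substW AJ (Cfsg.Agent.Lib.OJ1Pres.extra.getD 0 1).toWord) (slice 17 13) = slice 17 13 := by decide +kernel

theorem cJ_0_14 : wordApply (sgnProg pr) (substW AJ (Cfsg.Agent.Lib.OJ1Pres.extra.getD 0 1).toWord) (slice 17 14) = slice 17 14 := by decide +kernel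

theorem cJ_0_15 : wordApply (sgnProg pr) (substW AJ (Cfsg.Agent.Lib.OJ1Pres.extra.getD 0 1).toWord) (slice 17 15) = slice 17 15 := by decide +kernel

theorem cJ_0_16 : wordApply (sgnProg pr) (substW AJ (Cfsg.Agent.Lib.OJ1Pres.extra.getD 0 1).toWord) (slice 17 16) = slice 17 16 := by decide +kernel

theorem cJ_0 : ∀ j, j < 17 → wordApply (sgnProg pr) (substW AJ (Cfsg.Agent.Lib.OJ1Pres.extra.getD 0 1).toWord) (slice 17 j) = slice 17 j := by
  intro j hj
  interval_cases j
  exacts [cJ_0_0, cJ_0_1, cJ_0_2, cJ_0_3, cJ_0_4, cJ_0_5, cJ_0_6, cJ_0_7, cJ_0_8, cJ_0_9, cJ_0_10, cJ_0_11, cJ_0_12, cJ_0_13, cJ_0_14, cJ_0_15, cJ_0_16]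

theorem cJ_1_0 : wordApply (sgnProg pr) (substW AJ (Cfsg.Agent.Lib.OJ1Pres.extra.getD 1 1).toWord) (slice 17 0) = slice 17 0 := by decide +kernel

theorem cJ_1_1 : wordApply (sgnProg pr) (substW AJ (Cfsg.Agent.Lib.OJ1Pres.extra.getD 1 1).toWord) (slice 17 1) = slice 17 1 := by decide +kernel

theorem cJ_1_2 : wordApply (sgnProg pr) (substW AJ (Cfsg.Agent.Lib.OJ1Pres.extra.getD 1 1).toWord) (slice 17 2) = slice 17 2 := by decide +kernel

theorem cJ_1_3 : wordApply (sgnProg pr) (substW AJ (Cfsg.Agent.Lib.OJ1Pres.extra.getD 1 1).toWord) (slice 17 3) = slice 17 3 := by decide +kernel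

theorem cJ_1_4 : wordApply (sgnProg pr) (substW AJ (Cfsg.Agent.Lib.OJ1Pres.extra.getD 1 1).toWord) (slice 17 4) = slice 17 4 := by decide +kernel

theorem cJ_1_5 : wordApply (sgnProg pr) (substW AJ (Cfsg.Agent.Lib.OJ1Pres.extra.getD 1 1).toWord) (slice 17 5) = slice 17 5 := by decide +kernel

theorem cJ_1_6 : wordApply (sgnProg pr) (substW AJ (Cfsg.Agent.Lib.OJ1Pres.extra.getD 1 1).toWord) (slice 17 6) = slice 17 6 := by decide +kernel

theorem cJ_1_7 : wordApply (sgnProg pr) (substW AJ (Cfsg.Agent.Lib.OJ1Pres.extra.getD 1 1).toWord) (slice 17 7) = slice 17 7 := by decide +kernel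

theorem cJ_1_8 : wordApply (sgnProg pr) (substW AJ (Cfsg.Agent.Lib.OJ1Pres.extra.getD 1 1).toWord) (slice 17 8) = slice 17 8 := by decide +kernel

theorem cJ_1_9 : wordApply (sgnProg pr) (substW AJ (Cfsg.Agent.Lib.OJ1Pres.extra.getD 1 1).toWord) (slice 17 9) = slice 17 9 := by decide +kernel

theorem cJ_1_10 : wordApply (sgnProg pr) (substW AJ (Cfsg.Agent.Lib.OJ1Pres.extra.getD 1 1).toWord) (slice 17 10) = slice 17 10 := by decide +kernel

theorem cJ_1_11 : wordApply (sgnProg pr) (substW AJ (Cfsg.Agent.Lib.OJ1Pres.extra.getD 1 1).toWord) (slice 17 11) = slice 17 11 := by decide +kernel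

theorem cJ_1_12 : wordApply (sgnProg pr) (substW AJ (Cfsg.Agent.Lib.OJ1Pres.extra.getD 1 1).toWord) (slice 17 12) = slice 17 12 := by decide +kernel

theorem cJ_1_13 : wordApply (sgnProg pr) (substW AJ (Cfsg.Agent.Lib.OJ1Pres.extra.getD 1 1).toWord) (slice 17 13) = slice 17 13 := by decide +kernel

theorem cJ_1_14 : wordApply (sgnProg pr) (substW AJ (Cfsg.Agent.Lib.OJ1Pres.extra.getD 1 1).toWord) (slice 17 14) = slice 17 14 := by decide +kernel

theorem cJ_1_15 : wordApply (sgnProg pr) (substW AJ (Cfsg.Agent.Lib.OJ1Pres.extra.getD 1 1).toWord) (slice 17 15) = slice 17 15 := by decide +kernel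

theorem cJ_1_16 : wordApply (sgnProg pr) (substW AJ (Cfsg.Agent.Lib.OJ1Pres.extra.getD 1 1).toWord) (slice 17 16) = slice 17 16 := by decide +kernel

theorem cJ_1 : ∀ j, j < 17 → wordApply (sgnProg pr) (substW AJ (Cfsg.Agent.Lib.OJ1Pres.extra.getD 1 1).toWord) (slice 17 j) = slice 17 j := by
  intro j hj
  interval_cases j
  exacts [cJ_1_0, cJ_1_1, cJ_1_2, cJ_1_3, cJ_1_4, cJ_1_5, cJ_1_6, cJ_1_7, cJ_1_8, cJ_1_9, cJ_1_10, cJ_1_11, cJ_1_12, cJ_1_13, cJ_1_14, cJ_1_15, cJ_1_16]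

theorem cJ_2_0 : wordApply (sgnProg pr) (substW AJ (Cfsg.Agent.Lib.OJ1Pres.extra.getD 2 1).toWord) (slice 17 0) = slice 17 0 := by decide +kernel

theorem cJ_2_1 : wordApply (sgnProg pr) (substW AJ (Cfsg.Agent.Lib.OJ1Pres.extra.getD 2 1).toWord) (slice 17 1) = slice 17 1 := by decide +kernel

theorem cJ_2_2 : wordApply (sgnProg pr) (substW AJ (Cfsg.Agent.Lib.OJ1Pres.extra.getD 2 1).toWord) (slice 17 2) = slice 17 2 := by decide +kernel

theorem cJ_2_3 : wordApply (sgnProg pr) (substW AJ (Cfsg.Agent.Lib.OJ1Pres.extra.getD 2 1).toWord) (slice 17 3) = slice 17 3 := by decide +kernel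

theorem cJ_2_4 : wordApply (sgnProg pr) (substW AJ (Cfsg.Agent.Lib.OJ1Pres.extra.getD 2 1).toWord) (slice 17 4) = slice 17 4 := by decide +kernel

theorem cJ_2_5 : wordApply (sgnProg pr) (substW AJ (Cfsg.Agent.Lib.OJ1Pres.extra.getD 2 1).toWord) (slice 17 5) = slice 17 5 := by decide +kernel

theorem cJ_2_6 : wordApply (sgnProg pr) (substW AJ (Cfsg.Agent.Lib.OJ1Pres.extra.getD 2 1).toWord) (slice 17 6) = slice 17 6 := by decide +kernel

theorem cJ_2_7 : wordApply (sgnProg pr) (substW AJ (Cfsg.Agent.Lib.OJ1Pres.extra.getD 2 1).toWord) (slice 17 7) = slice 17 7 := by decide +kernel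

theorem cJ_2_8 : wordApply (sgnProg pr) (substW AJ (Cfsg.Agent.Lib.OJ1Pres.extra.getD 2 1).toWord) (slice 17 8) = slice 17 8 := by decide +kernel

theorem cJ_2_9 : wordApply (sgnProg pr) (substW AJ (Cfsg.Agent.Lib.OJ1Pres.extra.getD 2 1).toWord) (slice 17 9) = slice 17 9 := by decide +kernel

theorem cJ_2_10 : wordApply (sgnProg pr) (substW AJ (Cfsg.Agent.Lib.OJ1Pres.extra.getD 2 1).toWord) (slice 17 10) = slice 17 10 := by decide +kernel

theorem cJ_2_11 : wordApply (sgnProg pr) (substW AJ (Cfsg.Agent.Lib.OJ1Pres.extra.getD 2 1).toWord) (slice 17 11) = slice 17 11 := by decide +kernel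

theorem cJ_2_12 : wordApply (sgnProg pr) (substW AJ (Cfsg.Agent.Lib.OJ1Pres.extra.getD 2 1).toWord) (slice 17 12) = slice 17 12 := by decide +kernel

theorem cJ_2_13 : wordApply (sgnProg pr) (substW AJ (Cfsg.Agent.Lib.OJ1Pres.extra.getD 2 1).toWord) (slice 17 13) = slice 17 13 := by decide +kernel

theorem cJ_2_14 : wordApply (sgnProg pr) (substW AJ (Cfsg.Agent.Lib.OJ1Pres.extra.getD 2 1).toWord) (slice 17 14) = slice 17 14 := by decide +kernel

theorem cJ_2_15 : wordApply (sgnProg pr) (substW AJ (Cfsg.Agent.Lib.OJ1Pres.extra.getD 2 1).toWord) (slice 17 15) = slice 17 15 := by decide +kernel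

theorem cJ_2_16 : wordApply (sgnProg pr) (substW AJ (Cfsg.Agent.Lib.OJ1Pres.extra.getD 2 1).toWord) (slice 17 16) = slice 17 16 := by decide +kernel

theorem cJ_2 : ∀ j, j < 17 → wordApply (sgnProg pr) (substW AJ (Cfsg.Agent.Lib.OJ1Pres.extra.getD 2 1).toWord) (slice 17 j) = slice 17 j := by
  intro j hj
  interval_cases j
  exacts [cJ_2_0, cJ_2_1, cJ_2_2, cJ_2_3, cJ_2_4, cJ_2_5, cJ_2_6, cJ_2_7, cJ_2_8, cJ_2_9, cJ_2_10, cJ_2_11, cJ_2_12, cJ_2_13, cJ_2_14, cJ_2_15, cJ_2_16]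

theorem cJ_3_0 : wordApply (sgnProg pr) (substW AJ (Cfsg.Agent.Lib.OJ1Pres.extra.getD 3 1).toWord) (slice 17 0) = slice 17 0 := by decide +kernel

theorem cJ_3_1 : wordApply (sgnProg pr) (substW AJ (Cfsg.Agent.Lib.OJ1Pres.extra.getD 3 1).toWord) (slice 17 1) = slice 17 1 := by decide +kernel

theorem cJ_3_2 : wordApply (sgnProg pr) (substW AJ (Cfsg.Agent.Lib.OJ1Pres.extra.getD 3 1).toWord) (slice 17 2) = slice 17 2 := by decide +kernel

theorem cJ_3_3 : wordApply (sgnProg pr) (substW AJ (Cfsg.Agent.Lib.OJ1Pres.extra.getD 3 1).toWord) (slice 17 3) = slice 17 3 := by decide +kernel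

theorem cJ_3_4 : wordApply (sgnProg pr) (substW AJ (Cfsg.Agent.Lib.OJ1Pres.extra.getD 3 1).toWord) (slice 17 4) = slice 17 4 := by decide +kernel

theorem cJ_3_5 : wordApply (sgnProg pr) (substW AJ (Cfsg.Agent.Lib.OJ1Pres.extra.getD 3 1).toWord) (slice 17 5) = slice 17 5 := by decide +kernel

theorem cJ_3_6 : wordApply (sgnProg pr) (substW AJ (Cfsg.Agent.Lib.OJ1Pres.extra.getD 3 1).toWord) (slice 17 6) = slice 17 6 := by decide +kernel

theorem cJ_3_7 : wordApply (sgnProg pr) (substW AJ (Cfsg.Agent.Lib.OJ1Pres.extra.getD 3 1).toWord) (slice 17 7) = slice 17 7 := by decide +kernel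

theorem cJ_3_8 : wordApply (sgnProg pr) (substW AJ (Cfsg.Agent.Lib.OJ1Pres.extra.getD 3 1).toWord) (slice 17 8) = slice 17 8 := by decide +kernel

theorem cJ_3_9 : wordApply (sgnProg pr) (substW AJ (Cfsg.Agent.Lib.OJ1Pres.extra.getD 3 1).toWord) (slice 17 9) = slice 17 9 := by decide +kernel

theorem cJ_3_10 : wordApply (sgnProg pr) (substW AJ (Cfsg.Agent.Lib.OJ1Pres.extra.getD 3 1).toWord) (slice 17 10) = slice 17 10 := by decide +kernel

theorem cJ_3_11 : wordApply (sgnProg pr) (substW AJ (Cfsg.Agent.Lib.OJ1Pres.extra.getD 3 1).toWord) (slice 17 11) = slice 17 11 := by decide +kernel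

theorem cJ_3_12 : wordApply (sgnProg pr) (substW AJ (Cfsg.Agent.Lib.OJ1Pres.extra.getD 3 1).toWord) (slice 17 12) = slice 17 12 := by decide +kernel

theorem cJ_3_13 : wordApply (sgnProg pr) (substW AJ (Cfsg.Agent.Lib.OJ1Pres.extra.getD 3 1).toWord) (slice 17 13) = slice 17 13 := by decide +kernel

theorem cJ_3_14 : wordApply (sgnProg pr) (substW AJ (Cfsg.Agent.Lib.OJ1Pres.extra.getD 3 1).toWord) (slice 17 14) = slice 17 14 := by decide +kernel

theorem cJ_3_15 : wordApply (sgnProg pr) (substW AJ (Cfsg.Agent.Lib.OJ1Pres.extra.getD 3 1).toWord) (slice 17 15) = slice 17 15 := by decide +kernel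

theorem cJ_3_16 : wordApply (sgnProg pr) (substW AJ (Cfsg.Agent.Lib.OJ1Pres.extra.getD 3 1).toWord) (slice 17 16) = slice 17 16 := by decide +kernel

theorem cJ_3 : ∀ j, j < 17 → wordApply (sgnProg pr) (substW AJ (Cfsg.Agent.Lib.OJ1Pres.extra.getD 3 1).toWord) (slice 17 j) = slice 17 j := by
  intro j hj
  interval_cases j
  exacts [cJ_3_0, cJ_3_1, cJ_3_2, cJ_3_3, cJ_3_4, cJ_3_5, cJ_3_6, cJ_3_7, cJ_3_8, cJ_3_9, cJ_3_10, cJ_3_11, cJ_3_12, cJ_3_13, cJ_3_14, cJ_3_15, cJ_3_16]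

theorem cJ_4_0 : wordApply (sgnProg pr) (substW AJ (Cfsg.Agent.Lib.OJ1Pres.extra.getD 4 1).toWord) (slice 17 0) = slice 17 0 := by decide +kernel

theorem cJ_4_1 : wordApply (sgnProg pr) (substW AJ (Cfsg.Agent.Lib.OJ1Pres.extra.getD 4 1).toWord) (slice 17 1) = slice 17 1 := by decide +kernel

theorem cJ_4_2 : wordApply (sgnProg pr) (substW AJ (Cfsg.Agent.Lib.OJ1Pres.extra.getD 4 1).toWord) (slice 17 2) = slice 17 2 := by decide +kernel

theorem cJ_4_3 : wordApply (sgnProg pr) (substW AJ (Cfsg.Agent.Lib.OJ1Pres.extra.getD 4 1).toWord) (slice 17 3) = slice 17 3 := by decide +kernel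

theorem cJ_4_4 : wordApply (sgnProg pr) (substW AJ (Cfsg.Agent.Lib.OJ1Pres.extra.getD 4 1).toWord) (slice 17 4) = slice 17 4 := by decide +kernel

theorem cJ_4_5 : wordApply (sgnProg pr) (substW AJ (Cfsg.Agent.Lib.OJ1Pres.extra.getD 4 1).toWord) (slice 17 5) = slice 17 5 := by decide +kernel

theorem cJ_4_6 : wordApply (sgnProg pr) (substW AJ (Cfsg.Agent.Lib.OJ1Pres.extra.getD 4 1).toWord) (slice 17 6) = slice 17 6 := by decide +kernel

theorem cJ_4_7 : wordApply (sgnProg pr) (substW AJ (Cfsg.Agent.Lib.OJ1Pres.extra.getD 4 1).toWord) (slice 17 7) = slice 17 7 := by decide +kernel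

theorem cJ_4_8 : wordApply (sgnProg pr) (substW AJ (Cfsg.Agent.Lib.OJ1Pres.extra.getD 4 1).toWord) (slice 17 8) = slice 17 8 := by decide +kernel

theorem cJ_4_9 : wordApply (sgnProg pr) (substW AJ (Cfsg.Agent.Lib.OJ1Pres.extra.getD 4 1).toWord) (slice 17 9) = slice 17 9 := by decide +kernel

theorem cJ_4_10 : wordApply (sgnProg pr) (substW AJ (Cfsg.Agent.Lib.OJ1Pres.extra.getD 4 1).toWord) (slice 17 10) = slice 17 10 := by decide +kernel

theorem cJ_4_11 : wordApply (sgnProg pr) (substW AJ (Cfsg.Agent.Lib.OJ1Pres.extra.getD 4 1).toWord) (slice 17 11) = slice 17 11 := by decide +kernel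

theorem cJ_4_12 : wordApply (sgnProg pr) (substW AJ (Cfsg.Agent.Lib.OJ1Pres.extra.getD 4 1).toWord) (slice 17 12) = slice 17 12 := by decide +kernel

theorem cJ_4_13 : wordApply (sgnProg pr) (substW AJ (Cfsg.Agent.Lib.OJ1Pres.extra.getD 4 1).toWord) (slice 17 13) = slice 17 13 := by decide +kernel

theorem cJ_4_14 : wordApply (sgnProg pr) (substW AJ (Cfsg.Agent.Lib.OJ1Pres.extra.getD 4 1).toWord) (slice 17 14) = slice 17 14 := by decide +kernel

theorem cJ_4_15 : wordApply (sgnProg pr) (substW AJ (Cfsg.Agent.Lib.OJ1Pres.extra.getD 4 1).toWord) (slice 17 15) = slice 17 15 := by decide +kernel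

theorem cJ_4_16 : wordApply (sgnProg pr) (substW AJ (Cfsg.Agent.Lib.OJ1Pres.extra.getD 4 1).toWord) (slice 17 16) = slice 17 16 := by decide +kernel

theorem cJ_4 : ∀ j, j < 17 → wordApply (sgnProg pr) (substW AJ (Cfsg.Agent.Lib.OJ1Pres.extra.getD 4 1).toWord) (slice 17 j) = slice 17 j := by
  intro j hj
  interval_cases j
  exacts [cJ_4_0, cJ_4_1, cJ_4_2, cJ_4_3, cJ_4_4, cJ_4_5, cJ_4_6, cJ_4_7, cJ_4_8, cJ_4_9, cJ_4_10, cJ_4_11, cJ_4_12, cJ_4_13, cJ_4_14, cJ_4_15, cJ_4_16]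

theorem cJ_5_0 : wordApply (sgnProg pr) (substW AJ (Cfsg.Agent.Lib.OJ1Pres.extra.getD 5 1).toWord) (slice 17 0) = slice 17 0 := by decide +kernel

theorem cJ_5_1 : wordApply (sgnProg pr) (substW AJ (Cfsg.Agent.Lib.OJ1Pres.extra.getD 5 1).toWord) (slice 17 1) = slice 17 1 := by decide +kernel

theorem cJ_5_2 : wordApply (sgnProg pr) (substW AJ (Cfsg.Agent.Lib.OJ1Pres.extra.getD 5 1).toWord) (slice 17 2) = slice 17 2 := by decide +kernel

theorem cJ_5_3 : wordApply (sgnProg pr) (substW AJ (Cfsg.Agent.Lib.OJ1Pres.extra.getD 5 1).toWord) (slice 17 3) = slice 17 3 := by decide +kernel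

theorem cJ_5_4 : wordApply (sgnProg pr) (substW AJ (Cfsg.Agent.Lib.OJ1Pres.extra.getD 5 1).toWord) (slice 17 4) = slice 17 4 := by decide +kernel

theorem cJ_5_5 : wordApply (sgnProg pr) (substW AJ (Cfsg.Agent.Lib.OJ1Pres.extra.getD 5 1).toWord) (slice 17 5) = slice 17 5 := by decide +kernel

theorem cJ_5_6 : wordApply (sgnProg pr) (substW AJ (Cfsg.Agent.Lib.OJ1Pres.extra.getD 5 1).toWord) (slice 17 6) = slice 17 6 := by decide +kernel

theorem cJ_5_7 : wordApply (sgnProg pr) (substW AJ (Cfsg.Agent.Lib.OJ1Pres.extra.getD 5 1).toWord) (slice 17 7) = slice 17 7 := by decide +kernel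

theorem cJ_5_8 : wordApply (sgnProg pr) (substW AJ (Cfsg.Agent.Lib.OJ1Pres.extra.getD 5 1).toWord) (slice 17 8) = slice 17 8 := by decide +kernel

theorem cJ_5_9 : wordApply (sgnProg pr) (substW AJ (Cfsg.Agent.Lib.OJ1Pres.extra.getD 5 1).toWord) (slice 17 9) = slice 17 9 := by decide +kernel

theorem cJ_5_10 : wordApply (sgnProg pr) (substW AJ (Cfsg.Agent.Lib.OJ1Pres.extra.getD 5 1).toWord) (slice 17 10) = slice 17 10 := by decide +kernel

theorem cJ_5_11 : wordApply (sgnProg pr) (substW AJ (Cfsg.Agent.Lib.OJ1Pres.extra.getD 5 1).toWord) (slice 17 11) = slice 17 11 := by decide +kernel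

theorem cJ_5_12 : wordApply (sgnProg pr) (substW AJ (Cfsg.Agent.Lib.OJ1Pres.extra.getD 5 1).toWord) (slice 17 12) = slice 17 12 := by decide +kernel

theorem cJ_5_13 : wordApply (sgnProg pr) (substW AJ (Cfsg.Agent.Lib.OJ1Pres.extra.getD 5 1).toWord) (slice 17 13) = slice 17 13 := by decide +kernel

theorem cJ_5_14 : wordApply (sgnProg pr) (substW AJ (Cfsg.Agent.Lib.OJ1Pres.extra.getD 5 1).toWord) (slice 17 14) = slice 17 14 := by decide +kernel

theorem cJ_5_15 : wordApply (sgnProg pr) (substW AJ (Cfsg.Agent.Lib.OJ1Pres.extra.getD 5 1).toWord) (slice 17 15) = slice 17 15 := by decide +kernel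

theorem cJ_5_16 : wordApply (sgnProg pr) (substW AJ (Cfsg.Agent.Lib.OJ1Pres.extra.getD 5 1).toWord) (slice 17 16) = slice 17 16 := by decide +kernel

theorem cJ_5 : ∀ j, j < 17 → wordApply (sgnProg pr) (substW AJ (Cfsg.Agent.Lib.OJ1Pres.extra.getD 5 1).toWord) (slice 17 j) = slice 17 j := by
  intro j hj
  interval_cases j
  exacts [cJ_5_0, cJ_5_1, cJ_5_2, cJ_5_3, cJ_5_4, cJ_5_5, cJ_5_6, cJ_5_7, cJ_5_8, cJ_5_9, cJ_5_10, cJ_5_11, cJ_5_12, cJ_5_13, cJ_5_14, cJ_5_15, cJ_5_16]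

theorem cJ_6_0 : wordApply (sgnProg pr) (substW AJ (Cfsg.Agent.Lib.OJ1Pres.extra.getD 6 1).toWord) (slice 17 0) = slice 17 0 := by decide +kernel

theorem cJ_6_1 : wordApply (sgnProg pr) (substW AJ (Cfsg.Agent.Lib.OJ1Pres.extra.getD 6 1).toWord) (slice 17 1) = slice 17 1 := by decide +kernel

theorem cJ_6_2 : wordApply (sgnProg pr) (substW AJ (Cfsg.Agent.Lib.OJ1Pres.extra.getD 6 1).toWord) (slice 17 2) = slice 17 2 := by decide +kernel

theorem cJ_6_3 : wordApply (sgnProg pr) (substW AJ (Cfsg.Agent.Lib.OJ1Pres.extra.getD 6 1).toWord) (slice 17 3) = slice 17 3 := by decide +kernel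

theorem cJ_6_4 : wordApply (sgnProg pr) (substW AJ (Cfsg.Agent.Lib.OJ1Pres.extra.getD 6 1).toWord) (slice 17 4) = slice 17 4 := by decide +kernel

theorem cJ_6_5 : wordApply (sgnProg pr) (substW AJ (Cfsg.Agent.Lib.OJ1Pres.extra.getD 6 1).toWord) (slice 17 5) = slice 17 5 := by decide +kernel

theorem cJ_6_6 : wordApply (sgnProg pr) (substW AJ (Cfsg.Agent.Lib.OJ1Pres.extra.getD 6 1).toWord) (slice 17 6) = slice 17 6 := by decide +kernel

theorem cJ_6_7 : wordApply (sgnProg pr) (substW AJ (Cfsg.Agent.Lib.OJ1Pres.extra.getD 6 1).toWord) (slice 17 7) = slice 17 7 := by decide +kernel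

theorem cJ_6_8 : wordApply (sgnProg pr) (substW AJ (Cfsg.Agent.Lib.OJ1Pres.extra.getD 6 1).toWord) (slice 17 8) = slice 17 8 := by decide +kernel

theorem cJ_6_9 : wordApply (sgnProg pr) (substW AJ (Cfsg.Agent.Lib.OJ1Pres.extra.getD 6 1).toWord) (slice 17 9) = slice 17 9 := by decide +kernel

theorem cJ_6_10 : wordApply (sgnProg pr) (substW AJ (Cfsg.Agent.Lib.OJ1Pres.extra.getD 6 1).toWord) (slice 17 10) = slice 17 10 := by decide +kernel

theorem cJ_6_11 : wordApply (sgnProg pr) (substW AJ (Cfsg.Agent.Lib.OJ1Pres.extra.getD 6 1).toWord) (slice 17 11) = slice 17 11 := by decide +kernel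

theorem cJ_6_12 : wordApply (sgnProg pr) (substW AJ (Cfsg.Agent.Lib.OJ1Pres.extra.getD 6 1).toWord) (slice 17 12) = slice 17 12 := by decide +kernel

theorem cJ_6_13 : wordApply (sgnProg pr) (substW AJ (Cfsg.Agent.Lib.OJ1Pres.extra.getD 6 1).toWord) (slice 17 13) = slice 17 13 := by decide +kernel

theorem cJ_6_14 : wordApply (sgnProg pr) (substW AJ (Cfsg.Agent.Lib.OJ1Pres.extra.getD 6 1).toWord) (slice 17 14) = slice 17 14 := by decide +kernel

theorem cJ_6_15 : wordApply (sgnProg pr) (substW AJ (Cfsg.Agent.Lib.OJ1Pres.extra.getD 6 1).toWord) (slice 17 15) = slice 17 15 := by decide +kernel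

theorem cJ_6_16 : wordApply (sgnProg pr) (substW AJ (Cfsg.Agent.Lib.OJ1Pres.extra.getD 6 1).toWord) (slice 17 16) = slice 17 16 := by decide +kernel

theorem cJ_6 : ∀ j, j < 17 → wordApply (sgnProg pr) (substW AJ (Cfsg.Agent.Lib.OJ1Pres.extra.getD 6 1).toWord) (slice 17 j) = slice 17 j := by
  intro j hj
  interval_cases j
  exacts [cJ_6_0, cJ_6_1, cJ_6_2, cJ_6_3, cJ_6_4, cJ_6_5, cJ_6_6, cJ_6_7, cJ_6_8, cJ_6_9, cJ_6_10, cJ_6_11, cJ_6_12, cJ_6_13, cJ_6_14, cJ_6_15, cJ_6_16]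

theorem cJ_7_0 : wordApply (sgnProg pr) (substW AJ (Cfsg.Agent.Lib.OJ1Pres.extra.getD 7 1).toWord) (slice 17 0) = slice 17 0 := by decide +kernel

theorem cJ_7_1 : wordApply (sgnProg pr) (substW AJ (Cfsg.Agent.Lib.OJ1Pres.extra.getD 7 1).toWord) (slice 17 1) = slice 17 1 := by decide +kernel

theorem cJ_7_2 : wordApply (sgnProg pr) (substW AJ (Cfsg.Agent.Lib.OJ1Pres.extra.getD 7 1).toWord) (slice 17 2) = slice 17 2 := by decide +kernel

theorem cJ_7_3 : wordApply (sgnProg pr) (substW AJ (Cfsg.Agent.Lib.OJ1Pres.extra.getD 7 1).toWord) (slice 17 3) = slice 17 3 := by decide +kernel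

theorem cJ_7_4 : wordApply (sgnProg pr) (substW AJ (Cfsg.Agent.Lib.OJ1Pres.extra.getD 7 1).toWord) (slice 17 4) = slice 17 4 := by decide +kernel

theorem cJ_7_5 : wordApply (sgnProg pr) (substW AJ (Cfsg.Agent.Lib.OJ1Pres.extra.getD 7 1).toWord) (slice 17 5) = slice 17 5 := by decide +kernel

theorem cJ_7_6 : wordApply (sgnProg pr) (substW AJ (Cfsg.Agent.Lib.OJ1Pres.extra.getD 7 1).toWord) (slice 17 6) = slice 17 6 := by decide +kernel

theorem cJ_7_7 : wordApply (sgnProg pr) (substW AJ (Cfsg.Agent.Lib.OJ1Pres.extra.getD 7 1).toWord) (slice 17 7) = slice 17 7 := by decide +kernel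

theorem cJ_7_8 : wordApply (sgnProg pr) (substW AJ (Cfsg.Agent.Lib.OJ1Pres.extra.getD 7 1).toWord) (slice 17 8) = slice 17 8 := by decide +kernel

theorem cJ_7_9 : wordApply (sgnProg pr) (substW AJ (Cfsg.Agent.Lib.OJ1Pres.extra.getD 7 1).toWord) (slice 17 9) = slice 17 9 := by decide +kernel

theorem cJ_7_10 : wordApply (sgnProg pr) (substW AJ (Cfsg.Agent.Lib.OJ1Pres.extra.getD 7 1).toWord) (slice 17 10) = slice 17 10 := by decide +kernel

theorem cJ_7_11 : wordApply (sgnProg pr) (substW AJ (Cfsg.Agent.Lib.OJ1Pres.extra.getD 7 1).toWord) (slice 17 11) = slice 17 11 := by decide +kernel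

theorem cJ_7_12 : wordApply (sgnProg pr) (substW AJ (Cfsg.Agent.Lib.OJ1Pres.extra.getD 7 1).toWord) (slice 17 12) = slice 17 12 := by decide +kernel

theorem cJ_7_13 : wordApply (sgnProg pr) (substW AJ (Cfsg.Agent.Lib.OJ1Pres.extra.getD 7 1).toWord) (slice 17 13) = slice 17 13 := by decide +kernel

theorem cJ_7_14 : wordApply (sgnProg pr) (substW AJ (Cfsg.Agent.Lib.OJ1Pres.extra.getD 7 1).toWord) (slice 17 14) = slice 17 14 := by decide +kernel

theorem cJ_7_15 : wordApply (sgnProg pr) (substW AJ (Cfsg.Agent.Lib.OJ1Pres.extra.getD 7 1).toWord) (slice 17 15) = slice 17 15 := by decide +kernel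

theorem cJ_7_16 : wordApply (sgnProg pr) (substW AJ (Cfsg.Agent.Lib.OJ1Pres.extra.getD 7 1).toWord) (slice 17 16) = slice 17 16 := by decide +kernel

theorem cJ_7 : ∀ j, j < 17 → wordApply (sgnProg pr) (substW AJ (Cfsg.Agent.Lib.OJ1Pres.extra.getD 7 1).toWord) (slice 17 j) = slice 17 j := by
  intro j hj
  interval_cases j
  exacts [cJ_7_0, cJ_7_1, cJ_7_2, cJ_7_3, cJ_7_4, cJ_7_5, cJ_7_6, cJ_7_7, cJ_7_8, cJ_7_9, cJ_7_10, cJ_7_11, cJ_7_12, cJ_7_13, cJ_7_14, cJ_7_15, cJ_7_16]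

theorem cJ_8_0 : wordApply (sgnProg pr) (substW AJ (Cfsg.Agent.Lib.OJ1Pres.extra.getD 8 1).toWord) (slice 17 0) = slice 17 0 := by decide +kernel

theorem cJ_8_1 : wordApply (sgnProg pr) (substW AJ (Cfsg.Agent.Lib.OJ1Pres.extra.getD 8 1).toWord) (slice 17 1) = slice 17 1 := by decide +kernel

theorem cJ_8_2 : wordApply (sgnProg pr) (substW AJ (Cfsg.Agent.Lib.OJ1Pres.extra.getD 8 1).toWord) (slice 17 2) = slice 17 2 := by decide +kernel

theorem cJ_8_3 : wordApply (sgnProg pr) (substW AJ (Cfsg.Agent.Lib.OJ1Pres.extra.getD 8 1).toWord) (slice 17 3) = slice 17 3 := by decide +kernel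

theorem cJ_8_4 : wordApply (sgnProg pr) (substW AJ (Cfsg.Agent.Lib.OJ1Pres.extra.getD 8 1).toWord) (slice 17 4) = slice 17 4 := by decide +kernel

theorem cJ_8_5 : wordApply (sgnProg pr) (substW AJ (Cfsg.Agent.Lib.OJ1Pres.extra.getD 8 1).toWord) (slice 17 5) = slice 17 5 := by decide +kernel

theorem cJ_8_6 : wordApply (sgnProg pr) (substW AJ (Cfsg.Agent.Lib.OJ1Pres.extra.getD 8 1).toWord) (slice 17 6) = slice 17 6 := by decide +kernel

theorem cJ_8_7 : wordApply (sgnProg pr) (substW AJ (Cfsg.Agent.Lib.OJ1Pres.extra.getD 8 1).toWord) (slice 17 7) = slice 17 7 := by decide +kernel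

theorem cJ_8_8 : wordApply (sgnProg pr) (substW AJ (Cfsg.Agent.Lib.OJ1Pres.extra.getD 8 1).toWord) (slice 17 8) = slice 17 8 := by decide +kernel

theorem cJ_8_9 : wordApply (sgnProg pr) (substW AJ (Cfsg.Agent.Lib.OJ1Pres.extra.getD 8 1).toWord) (slice 17 9) = slice 17 9 := by decide +kernel

theorem cJ_8_10 : wordApply (sgnProg pr) (substW AJ (Cfsg.Agent.Lib.OJ1Pres.extra.getD 8 1).toWord) (slice 17 10) = slice 17 10 := by decide +kernel

theorem cJ_8_11 : wordApply (sgnProg pr) (substW AJ (Cfsg.Agent.Lib.OJ1Pres.extra.getD 8 1).toWord) (slice 17 11) = slice 17 11 := by decide +kernel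

theorem cJ_8_12 : wordApply (sgnProg pr) (substW AJ (Cfsg.Agent.Lib.OJ1Pres.extra.getD 8 1).toWord) (slice 17 12) = slice 17 12 := by decide +kernel

theorem cJ_8_13 : wordApply (sgnProg pr) (substW AJ (Cfsg.Agent.Lib.OJ1Pres.extra.getD 8 1).toWord) (slice 17 13) = slice 17 13 := by decide +kernel

theorem cJ_8_14 : wordApply (sgnProg pr) (substW AJ (Cfsg.Agent.Lib.OJ1Pres.extra.getD 8 1).toWord) (slice 17 14) = slice 17 14 := by decide +kernel

theorem cJ_8_15 : wordApply (sgnProg pr) (substW AJ (Cfsg.Agent.Lib.OJ1Pres.extra.getD 8 1).toWord) (slice 17 15) = slice 17 15 := by decide +kernel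

theorem cJ_8_16 : wordApply (sgnProg pr) (substW AJ (Cfsg.Agent.Lib.OJ1Pres.extra.getD 8 1).toWord) (slice 17 16) = slice 17 16 := by decide +kernel

theorem cJ_8 : ∀ j, j < 17 → wordApply (sgnProg pr) (substW AJ (Cfsg.Agent.Lib.OJ1Pres.extra.getD 8 1).toWord) (slice 17 j) = slice 17 j := by
  intro j hj
  interval_cases j
  exacts [cJ_8_0, cJ_8_1, cJ_8_2, cJ_8_3, cJ_8_4, cJ_8_5, cJ_8_6, cJ_8_7, cJ_8_8, cJ_8_9, cJ_8_10, cJ_8_11, cJ_8_12, cJ_8_13, cJ_8_14, cJ_8_15, cJ_8_16]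

theorem chkJ : ∀ r ∈ Cfsg.Agent.Lib.OJ1Pres.extra, ∀ j, j < 17 → wordApply (sgnProg pr) (substW AJ r.toWord) (slice 17 j) = slice 17 j := by
  intro r hr
  obtain ⟨i, hi, rfl⟩ := List.getElem_of_mem hr
  have hi' : i < 9 := hi
  have h : ∀ i, (hi : i < 9) → ∀ j, j < 17 → wordApply (sgnProg pr) (substW AJ (Cfsg.Agent.Lib.OJ1Pres.extra.getD i 1).toWord) (slice 17 j) = slice 17 j := by
    intro i hi
    interval_cases i
    exacts [cJ_0, cJ_1, cJ_2, cJ_3, cJ_4, cJ_5, cJ_6, cJ_7, cJ_8]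
  have := h i hi'
  rwa [List.getD_eq_getElem _ _ hi] at this

theorem neM : wordApply (sgnProg pr) (AM .y) (slice 17 0) ≠ slice 17 0 := by decide +kernel

theorem neJ : wordApply (sgnProg pr) (AJ .y) (slice 17 0) ≠ slice 17 0 := by decide +kernel

end Cfsg.Agent.Lib.OnChk
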