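import Mathlib
import Cfsg.Agent.Lib.OneClassY
import Cfsg.Agent.Lib.PCore
import Cfsg.Agent.Lib.PLengthSeries
import Cfsg.Agent.Lib.ItoEnd
import Cfsg.Agent.Lib.Coprime
import Cfsg.Agent.S3798

/-!
The core of the theorem on solvable groups with one class of involutions:
if `O(H) = 1`, all involutions of the solvable group `H` are conjugate and there are at least two
of them, then `O_2(H)` has odd index.
-/

set_option autoImplicit false

namespace Cfsg.Agent.Lib.OneClassZ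

open Cfsg Cfsg.Agent.Lib.PCore Cfsg.Agent.Lib.OneClassX Cfsg.Agent.Lib.OneClassY

variable {H : Type*} [Group H]

theorem alg1 {V : Type*} [CommGroup V] (φ : V →* V) {r : ℕ} (hr : Odd r) {w : V}
    (hrw : φ^[r] w = w) (hfix : φ (w * φ w) = w * φ w) : φ w = w := by
  have h1 : φ (φ w) = w := by
    rw [map_mul] at hfix
    have : φ w * φ (φ w) = φ w * w := by rw [hfix, mul_comm]
    exact mul_left_cancel this
  have h2 : ∀ k : ℕ, φ^[2 * k] w = w := by
    intro k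
    induction k with
    | zero => rfl
    | succ k ih =>
      rw [show 2 * (k + 1) = 2 * k + 2 by ring, Function.iterate_add_apply]
      simp only [Function.iterate_succ, Function.iterate_zero, Function.comp_apply, id_eq, h1, ih]
  obtain ⟨k, hk⟩ := hr
  subst hk
  have h3 := Function.iterate_succ_apply' (⇑φ) (2 * k) w
  rw [h2] at h3
  exact h3.symm.trans hrw

theorem alg2 {V : Type*} [CommGroup V] (hsq : ∀ x : V, x * x = 1) (φ ν : V →* V)
    (hcomm : ∀ v, φ (ν v) = ν (φ v)) {r : ℕ} (hr : Odd r) (hrw : ∀ v, φ^[r] v = v) {z₁ z : V}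
    (h1 : φ z₁ = z₁) (hν : ν (z₁ * (z * φ z)) = z₁ * (z * φ z)) :
    ν z₁ = z₁ ∧ ν (z * φ z) = z * φ z := by
  have hinv : ∀ x : V, x⁻¹ = x := fun x => inv_eq_of_mul_eq_one_left (hsq x)
  set w := ν z * z with hw
  have hd : ν z₁ * z₁ = w * φ w := by
    rw [map_mul, map_mul] at hν
    have h2 : φ w = ν (φ z) * φ z := by rw [hw, map_mul, hcomm]
    rw [h2, hw]
    have h3 : ν z₁ = z₁ * (z * φ z) * (ν z * ν (φ z))⁻¹ := by
      rw [← hν]
      group
    rw [h3, hinv]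
    calc z₁ * (z * φ z) * (ν z * ν (φ z)) * z₁
        = (z₁ * z₁) * (ν z * z * (ν (φ z) * φ z)) := by
          simp only [mul_comm, mul_left_comm, mul_assoc]
      _ = _ := by rw [hsq, one_mul]
  have hfixd : φ (w * φ w) = w * φ w := by
    rw [← hd, map_mul, hcomm, h1]
  have hww := alg1 φ hr (hrw w) hfixd
  have hd1 : ν z₁ * z₁ = 1 := by
    rw [hd, hww, hsq]
  have h5 : ν z₁ = z₁ := by
    have := eq_inv_of_mul_eq_one_left hd1
    rwa [hinv] at this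
  refine ⟨h5, ?_⟩
  rw [map_mul, map_mul, h5] at hν
  rw [map_mul]
  exact mul_left_cancel hν

/-- Fixed points of the elements of a normal subgroup acting as an abelian group on `Z`. -/
theorem free_of_A [Finite H] {Q Z : Subgroup H} (B : Base Q Z)
    (htrans : ∀ x ∈ Z, ∀ y ∈ Z, x ≠ 1 → y ≠ 1 → IsConj x y) {A : Subgroup H} (hAn : A.Normal)
    {r : ℕ} (hr : Odd r)
    (hAr : ∀ a ∈ A, ∀ z ∈ Z, a ^ r * z = z * a ^ r)
    (hAc : ∀ a ∈ A, ∀ b ∈ A, ∀ z ∈ Z, (a * b) * z * (a * b)⁻¹ = (b * a) * z * (b * a)⁻¹)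
    {m : H} (hmA : m ∈ A) (hmL : ∃ z ∈ Z, m * z ≠ z * m) :
    ∀ z₁ ∈ Z, m * z₁ = z₁ * m → z₁ = 1 := by
  classical
  intro z₁ hz₁ hmz₁
  by_contra hne
  obtain ⟨z, hz, hmz⟩ := hmL
  have hZc : ∀ a ∈ Z, ∀ b ∈ Z, a * b = b * a := fun a ha b hb => B.Zc a ha b (B.ZQ hb)
  letI instC : CommGroup Z :=
    { (inferInstance : Group Z) with mul_comm := fun a b => Subtype.ext (hZc a a.2 b b.2) }
  let conjZ : H → (Z →* Z) := fun h =>
    { toFun := fun v => ⟨h * v * h⁻¹, B.Zn.conj_mem v v.2 h⟩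
      map_one' := by
        apply Subtype.ext
        show h * 1 * h⁻¹ = 1
        group
      map_mul' := by
        intro a b
        apply Subtype.ext
        show h * ((a : H) * b) * h⁻¹ = (h * a * h⁻¹) * (h * b * h⁻¹)
        group }
  have hconjZ : ∀ (h : H) (v : Z), ((conjZ h v : Z) : H) = h * v * h⁻¹ := fun h v => rfl
  have hsq : ∀ x : Z, x * x = 1 := fun x => Subtype.ext (B.Zsq x x.2)
  have hiter : ∀ (h : H) (k : ℕ) (v : Z), (((conjZ h)^[k] v : Z) : H) = h ^ k * v * (h ^ k)⁻¹ := by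
    intro h k v
    induction k with
    | zero => simp
    | succ k ih =>
      rw [Function.iterate_succ_apply', hconjZ, ih, pow_succ']
      group
  have hrall : ∀ v : Z, (conjZ m)^[r] v = v := by
    intro v
    apply Subtype.ext
    rw [hiter, hAr m hmA v v.2]
    group
  have hcommZ : ∀ n ∈ A, ∀ v : Z, conjZ m (conjZ n v) = conjZ n (conjZ m v) := by
    intro n hn v
    apply Subtype.ext
    rw [hconjZ, hconjZ, hconjZ, hconjZ]
    have h1 := hAc m hmA n hn v v.2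
    calc m * (n * (v : H) * n⁻¹) * m⁻¹ = (m * n) * v * (m * n)⁻¹ := by group
      _ = (n * m) * v * (n * m)⁻¹ := h1
      _ = _ := by group
  let Z₁ : Z := ⟨z₁, hz₁⟩
  let z' : Z := ⟨z, hz⟩
  have hZ₁fix : conjZ m Z₁ = Z₁ := by
    apply Subtype.ext
    show m * z₁ * m⁻¹ = z₁
    rw [hmz₁]
    group
  have hz'mv : conjZ m z' ≠ z' := by
    intro h
    have h1 : m * z * m⁻¹ = z := congrArg Subtype.val h
    exact hmz (mul_inv_eq_iff_eq_mul.mp h1)
  set z₂ : Z := z' * conjZ m z' with hz₂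
  have hz₂mv : conjZ m z₂ ≠ z₂ := by
    intro h
    exact hz'mv (alg1 (conjZ m) hr (hrall z') h)
  set a : Z := Z₁ * z₂ with ha
  have ha1 : a ≠ 1 := by
    intro h
    have h1 : z₂ = Z₁ := by
      have h2 := eq_inv_of_mul_eq_one_right h
      rwa [inv_eq_of_mul_eq_one_left (hsq Z₁)] at h2
    apply hz₂mv
    rw [h1]
    exact hZ₁fix
  have hZ₁1 : Z₁ ≠ 1 := fun h => hne (congrArg Subtype.val h)
  let stab : H → Subgroup H := fun x => A ⊓ Subgroup.centralizer ({x} : Set H)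
  have hstab : ∀ {x n : H}, n ∈ stab x ↔ n ∈ A ∧ n * x = x * n := by
    intro x n
    constructor
    · rintro ⟨h1, h2⟩
      exact ⟨h1, (Subgroup.mem_centralizer_iff.mp h2 x rfl).symm⟩
    · rintro ⟨h1, h2⟩
      refine ⟨h1, Subgroup.mem_centralizer_iff.mpr ?_⟩
      intro y hy
      rw [Set.mem_singleton_iff] at hy
      rw [hy]
      exact h2.symm
  have hcard : ∀ x y : H, x ∈ Z → y ∈ Z → x ≠ 1 → y ≠ 1 →
      Nat.card (stab x) ≤ Nat.card (stab y) := by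
    intro x y hx hy hx1 hy1
    obtain ⟨c, hc'⟩ := isConj_iff.mp (htrans x hx y hy hx1 hy1)
    let f : stab x → stab y := fun n => ⟨(c : H) * n * (c : H)⁻¹, by
      obtain ⟨h1, h2⟩ := hstab.mp n.2
      refine hstab.mpr ⟨hAn.conj_mem _ h1 _, ?_⟩
      rw [← hc']
      calc (c : H) * n * (c : H)⁻¹ * ((c : H) * x * (c : H)⁻¹) = (c : H) * ((n : H) * x) * (c : H)⁻¹ := by group
        _ = (c : H) * (x * (n : H)) * (c : H)⁻¹ := by rw [h2]
        _ = _ := by group⟩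
    have hf : Function.Injective f := by
      intro n₁ n₂ h
      have h1 : (c : H) * n₁ * (c : H)⁻¹ = (c : H) * n₂ * (c : H)⁻¹ := congrArg Subtype.val h
      exact Subtype.ext (mul_left_cancel (mul_right_cancel h1))
    exact Nat.card_le_card_of_injective f hf
  have hkey : ∀ n ∈ A, n * (a : H) = (a : H) * n →
      conjZ n Z₁ = Z₁ ∧ conjZ n z₂ = z₂ := by
    intro n hn h
    have hν : conjZ n (Z₁ * (z' * conjZ m z')) = Z₁ * (z' * conjZ m z') := by
      apply Subtype.ext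
      show n * (a : H) * n⁻¹ = (a : H)
      rw [h]
      group
    exact alg2 hsq (conjZ m) (conjZ n) (hcommZ n hn) hr hrall hZ₁fix hν
  have hle : stab (a : H) ≤ stab z₁ := by
    intro n hn
    obtain ⟨h1, h2⟩ := hstab.mp hn
    refine hstab.mpr ⟨h1, ?_⟩
    have h3 := (hkey n h1 h2).1
    have h4 : n * z₁ * n⁻¹ = z₁ := congrArg Subtype.val h3
    exact mul_inv_eq_iff_eq_mul.mp h4
  have hcardeq : Nat.card (stab z₁) ≤ Nat.card (stab (a : H)) :=
    hcard z₁ a hz₁ a.2 hne (fun h => ha1 (Subtype.ext h))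
  have heq : stab (a : H) = stab z₁ := Subgroup.eq_of_le_of_card_ge hle hcardeq
  have hmS : m ∈ stab (a : H) := by
    rw [heq]
    exact hstab.mpr ⟨hmA, hmz₁⟩
  obtain ⟨h1, h2⟩ := hstab.mp hmS
  exact hz₂mv (hkey m h1 h2).2

theorem le_L_of_fix {Z : Subgroup H}
    (htrans : ∀ x ∈ Z, ∀ y ∈ Z, x ≠ 1 → y ≠ 1 → IsConj x y) {R : Subgroup H} (hRn : R.Normal)
    {e : H} (he : e ∈ Z) (he1 : e ≠ 1) (hfix : ∀ x ∈ R, x * e = e * x) :
    ∀ x ∈ R, ∀ z ∈ Z, x * z = z * x := by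
  intro x hx z hz
  by_cases hz1 : z = 1
  · rw [hz1]
    group
  obtain ⟨c, hc⟩ := isConj_iff.mp (htrans e he z hz he1 hz1)
  have h1 : c⁻¹ * x * c⁻¹⁻¹ ∈ R := hRn.conj_mem x hx c⁻¹
  have h2 := hfix _ h1
  rw [← hc]
  calc x * (c * e * c⁻¹) = c * ((c⁻¹ * x * c⁻¹⁻¹) * e) * c⁻¹ := by group
    _ = c * (e * (c⁻¹ * x * c⁻¹⁻¹)) * c⁻¹ := by rw [h2]
    _ = _ := by group

theorem mem_centralizer_iff' {Z : Subgroup H} {x : H} :
    x ∈ Subgroup.centralizer (Z : Set H) ↔ ∀ z ∈ Z, x * z = z * x := by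
  rw [Subgroup.mem_centralizer_iff]
  exact ⟨fun h z hz => (h z hz).symm, fun h z hz => (h z hz).symm⟩

/-- The normal subgroup `A`. -/
theorem exists_A [Finite H] [hs : Group.IsSolvable H] {Q Z : Subgroup H} (B : Base Q Z)
    (htrans : ∀ x ∈ Z, ∀ y ∈ Z, x ≠ 1 → y ≠ 1 → IsConj x y)
    (htwo : ∃ x ∈ Z, ∃ y ∈ Z, x ≠ y ∧ x ≠ 1 ∧ y ≠ 1) :
    ∃ (r : ℕ) (A : Subgroup H), r.Prime ∧ r ≠ 2 ∧ A.Normal ∧ Subgroup.centralizer (Z : Set H) ≤ A ∧
      (∃ a ∈ A, a ∉ Subgroup.centralizer (Z : Set H)) ∧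
      (∀ a ∈ A, a ^ r ∈ Subgroup.centralizer (Z : Set H)) ∧
      (∀ a ∈ A, a ∉ Subgroup.centralizer (Z : Set H) → ∀ z ∈ Z, a * z = z * a → z = 1) := by
  classical
  haveI hZn := B.Zn
  haveI hLn : (Subgroup.centralizer (Z : Set H)).Normal := inferInstance
  set L := Subgroup.centralizer (Z : Set H) with hL
  have hLmem : ∀ {x : H}, x ∈ L ↔ ∀ z ∈ Z, x * z = z * x := mem_centralizer_iff'
  have hLne : L ≠ ⊤ := by
    intro h
    obtain ⟨x, hx, y, hy, hxy, hx1, hy1⟩ := htwo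
    obtain ⟨c, hc⟩ := isConj_iff.mp (htrans x hx y hy hx1 hy1)
    have hcL : c ∈ L := by rw [h]; trivial
    apply hxy
    rw [← hc, hLmem.mp hcL x hx]
    group
  have hne : (⊤ : Subgroup (H ⧸ L)) ≠ ⊥ := by
    haveI : Nontrivial (H ⧸ L) := QuotientGroup.nontrivial_iff.mpr hLne
    exact top_ne_bot
  obtain ⟨ρ, M, hρ, hMn, hMne, hMc, hMe⟩ :=
    Cfsg.Agent.Lib.ItoEnd.exists_elem_abelian_normal (⊤ : Subgroup (H ⧸ L)) inferInstance hne
      inferInstance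
  let π := QuotientGroup.mk' L
  let A : Subgroup H := M.comap π
  have hAn : A.Normal := inferInstance
  have hone : ∀ {x : H}, π x = 1 ↔ x ∈ L := fun {x} => QuotientGroup.eq_one_iff x
  have hLA : L ≤ A := by
    intro x hx
    show π x ∈ M
    rw [hone.mpr hx]
    exact M.one_mem
  have hAr : ∀ a ∈ A, a ^ ρ ∈ L := by
    intro a ha
    rw [← hone, map_pow]
    exact hMe _ ha
  have hAc : ∀ a ∈ A, ∀ b ∈ A, ∀ z ∈ Z, (a * b) * z * (a * b)⁻¹ = (b * a) * z * (b * a)⁻¹ := by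
    intro a ha b hb z hz
    have h1 : (b * a)⁻¹ * (a * b) ∈ L := by
      rw [← hone, map_mul, map_inv, map_mul, map_mul, hMc _ ha _ hb]
      group
    have h2 := hLmem.mp h1 z hz
    have h3 : ((b * a)⁻¹ * (a * b)) * z * ((b * a)⁻¹ * (a * b))⁻¹ = z := by
      rw [h2]
      group
    calc (a * b) * z * (a * b)⁻¹
        = (b * a) * (((b * a)⁻¹ * (a * b)) * z * ((b * a)⁻¹ * (a * b))⁻¹) * (b * a)⁻¹ := by group
      _ = _ := by rw [h3]
  obtain ⟨a₀, ha₀, ha₀L⟩ : ∃ a ∈ A, a ∉ L := by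
    obtain ⟨x, hx, hx1⟩ := Cfsg.Agent.Lib.BrolineGT.exists_mem_ne_one hMne
    obtain ⟨a, rfl⟩ := QuotientGroup.mk'_surjective L x
    exact ⟨a, hx, fun h => hx1 (hone.mpr h)⟩
  have hmove : ∀ a, a ∉ L → ∃ z ∈ Z, a * z ≠ z * a := by
    intro a ha
    by_contra hcon
    push Not at hcon
    exact ha (hLmem.mpr hcon)
  have hρ2 : ρ ≠ 2 := by
    intro h2
    subst h2
    have hYc : ∀ a ∈ Z, ∀ b ∈ Z, a * b = b * a := fun a ha b hb => B.Zc a ha b (B.ZQ hb)
    obtain ⟨y, hy, hy1, heig, -⟩ := exists_eigen (Y := Z) (D := A) hYc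
      (fun t _ y hy => hZn.conj_mem y hy t)
      (fun s hs t ht y hy => hAc s hs t ht y hy)
      (fun t ht y hy => by
        have h1 : t * t ∈ L := by
          rw [← pow_two]
          exact hAr t ht
        rw [hLmem.mp h1 y hy]
        group)
      (by
        obtain ⟨z, hz, hzm⟩ := hmove a₀ ha₀L
        refine ⟨a₀, ha₀, z, hz, fun h => hzm (mul_inv_eq_iff_eq_mul.mp h)⟩)
    have hyinv : y⁻¹ = y := inv_eq_of_mul_eq_one_left (B.Zsq y hy)
    have hfix : ∀ x ∈ A, x * y = y * x := by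
      intro x hx
      have h1 : x * y * x⁻¹ = y := by
        rcases heig x hx with h | h
        · exact h
        · rw [h, hyinv]
      exact mul_inv_eq_iff_eq_mul.mp h1
    have := le_L_of_fix htrans hAn hy hy1 hfix
    exact ha₀L (hLmem.mpr (this a₀ ha₀))
  refine ⟨ρ, A, hρ, hρ2, hAn, hLA, ⟨a₀, ha₀, ha₀L⟩, hAr, ?_⟩
  intro a ha haL
  refine free_of_A B htrans hAn (hρ.odd_of_ne_two hρ2) (fun a ha z hz => hLmem.mp (hAr a ha) z hz) hAc ha
    (hmove a haL)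

theorem two_free {Q Z : Subgroup H} (B : Base Q Z) {g : H} (hfree : ∀ z ∈ Z, g * z = z * g → z = 1)
    {t : H} {k : ℕ} (ht : t ^ (2 ^ k) = 1) (hgt : g * t * g⁻¹ = t) : t = 1 := by
  by_contra ht1
  obtain ⟨j, hj1, hj2⟩ := exists_invol_pow ht ht1
  have hcomm : Commute g t := mul_inv_eq_iff_eq_mul.mp hgt
  exact hj2 (hfree _ (B.invol _ hj1) (hcomm.pow_right j))

theorem P_le_L [Finite H] {Q Z : Subgroup H} (B : Base Q Z) {r : ℕ} [hrp : Fact r.Prime] (hr : r ≠ 2)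
    {P A : Subgroup H} (hP2 : IsPGroup 2 P) (hAn : A.Normal)
    (hAr : ∀ a ∈ A, a ^ r ∈ Subgroup.centralizer (Z : Set H))
    {g : H} {e : ℕ} (hg : g ^ (r ^ e) = 1) (hgA : g ∈ A) (hgP : g ∈ Subgroup.normalizer (P : Set H))
    (hfree : ∀ z ∈ Z, g * z = z * g → z = 1) : P ≤ Subgroup.centralizer (Z : Set H) := by
  haveI hZn := B.Zn
  haveI hLn : (Subgroup.centralizer (Z : Set H)).Normal := inferInstance
  set L := Subgroup.centralizer (Z : Set H) with hL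
  intro p hp
  let K : Subgroup H := P ⊓ L
  obtain ⟨b, hb⟩ : ∃ b, Nat.card K = 2 ^ b := IsPGroup.iff_card.mp (hP2.to_le inf_le_left)
  have hgP' := Subgroup.mem_normalizer_iff.mp hgP
  have hinv : ∀ k ∈ K, p⁻¹ * (g * (p * k) * g⁻¹) ∈ K := by
    rintro k ⟨hk1, hk2⟩
    have e1 : p⁻¹ * (g * (p * k) * g⁻¹) = (p⁻¹ * (g * p * g⁻¹)) * (g * k * g⁻¹) := by group
    rw [e1]
    have h1 : g * p * g⁻¹ ∈ P := (hgP' p).mp hp
    have h2 : g * k * g⁻¹ ∈ P := (hgP' k).mp hk1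
    have h3 : p⁻¹ * (g * p * g⁻¹) ∈ P := P.mul_mem (P.inv_mem hp) h1
    have h4 : p⁻¹ * (g * p * g⁻¹) ∈ A := by
      have e2 : p⁻¹ * (g * p * g⁻¹) = (p⁻¹ * g * p⁻¹⁻¹) * g⁻¹ := by group
      rw [e2]
      exact A.mul_mem (hAn.conj_mem g hgA p⁻¹) (A.inv_mem hgA)
    have h5 : p⁻¹ * (g * p * g⁻¹) ∈ L := by
      obtain ⟨k', hk'⟩ := hP2 ⟨_, h3⟩
      have hk'' : (p⁻¹ * (g * p * g⁻¹)) ^ (2 ^ k') = 1 := congrArg Subtype.val hk'
      have hcop : Nat.Coprime r (orderOf (p⁻¹ * (g * p * g⁻¹))) := by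
        have h6 := orderOf_dvd_of_pow_eq_one hk''
        exact Nat.Coprime.coprime_dvd_right h6
          (Nat.Coprime.pow_right _ (Nat.coprime_two_right.mpr (hrp.out.odd_of_ne_two hr)))
      obtain ⟨c, hc⟩ := exists_pow_eq_self_of_coprime hcop
      rw [← hc]
      exact L.pow_mem (hAr _ h4) c
    exact K.mul_mem ⟨h3, h5⟩ ⟨h2, hLn.conj_mem k hk2 g⟩
  obtain ⟨k, hk, hfix⟩ := coset_fixed hr hb hg hinv
  have hpk : p * k ∈ P := P.mul_mem hp hk.1
  obtain ⟨k', hk'⟩ := hP2 ⟨_, hpk⟩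
  have hk'' : (p * k) ^ (2 ^ k') = 1 := congrArg Subtype.val hk'
  have h1 := two_free B hfree hk'' hfix
  have e2 : p = k⁻¹ := eq_inv_of_mul_eq_one_left h1
  rw [e2]
  exact L.inv_mem hk.2

theorem sup_eq_of_hall [Finite H] {A O Y : Subgroup H} [A.Normal] (hAO : A ≤ O) (hYO : Y ≤ O)
    (hd : A ⊓ Y = ⊥) (hc : Nat.card Y = A.relIndex O) : A ⊔ Y = O := by
  have hdisj : Disjoint Y A := by
    rw [disjoint_comm, disjoint_iff]
    exact hd
  apply Subgroup.eq_of_le_of_card_ge (sup_le hAO hYO)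
  have h1 := Cfsg.Agent.Lib.Coprime.card_sup_eq Y A
  rw [Cfsg.Agent.Lib.Coprime.relIndex_eq_card_of_disjoint hdisj] at h1
  have h2 := Cfsg.Agent.Lib.Coprime.relIndex_mul_card_of_le hAO
  rw [sup_comm, h1, mul_comm (Nat.card Y), hc]
  rw [mul_comm]
  exact h2.ge

/-- `R` centralizes `Z`. -/
theorem R_central [Finite H] {Q Z : Subgroup H} (B : Base Q Z)
    (htrans : ∀ x ∈ Z, ∀ y ∈ Z, x ≠ 1 → y ≠ 1 → IsConj x y) {R : Subgroup H} (hRn : R.Normal)
    (hQR : Q ≤ R) (hc : (Nat.card Q).Coprime (Q.relIndex R))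
    (hev : ∃ a : H, a ∉ Q ∧ a * a ∈ Q) :
    ∀ x ∈ R, ∀ z ∈ Z, x * z = z * x := by
  classical
  haveI hQn := B.Qn
  haveI := hRn
  haveI : Fact (Nat.Prime 2) := ⟨Nat.prime_two⟩
  have hQs : Group.IsSolvable Q := by
    haveI := B.Q2.isNilpotent
    infer_instance
  obtain ⟨Y, hYR, hdisj, hcard, hsup⟩ := Cfsg.Agent.S3798.frattini_hall Q R hQR hQs hc
  have hsupR : Q ⊔ Y = R := sup_eq_of_hall hQR hYR hdisj hcard
  obtain ⟨a, haQ, haa⟩ := hev
  have ha : a ∈ ((Q ⊔ Subgroup.normalizer (Y : Set H) : Subgroup H) : Set H) := by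
    rw [hsup]
    trivial
  rw [Subgroup.normal_mul] at ha
  obtain ⟨q, hq, j, hj, rfl⟩ := Set.mem_mul.mp ha
  have hj' : j ∈ Subgroup.normalizer (Y : Set H) := hj
  have hjQ : j ∉ Q := fun h => haQ (Q.mul_mem hq h)
  have hjj : j * j ∈ Q := by
    have e : j * j = q⁻¹ * (q * j * (q * j)) * (j⁻¹ * q⁻¹ * j⁻¹⁻¹) := by group
    rw [e]
    exact Q.mul_mem (Q.mul_mem (Q.inv_mem hq) haa) (hQn.conj_mem _ (Q.inv_mem hq) _)
  obtain ⟨e, b, hb, hord⟩ := Nat.exists_eq_pow_mul_and_not_dvd (n := orderOf j)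
    (orderOf_pos j).ne' 2 (by norm_num)
  set t := j ^ b with ht
  have ht2 : t ^ (2 ^ e) = 1 := by
    rw [ht, ← pow_mul, mul_comm, ← hord, pow_orderOf_eq_one]
  have hbodd : Odd b := by
    rw [Nat.odd_iff]
    omega
  obtain ⟨c, hc'⟩ := hbodd
  have hjpow : ∀ k : ℕ, j ^ (2 * k) ∈ Q := by
    intro k
    rw [pow_mul, pow_two]
    exact Q.pow_mem hjj k
  have htQ : t ∉ Q := by
    intro h
    apply hjQ
    have e1 : j = (j ^ (2 * c))⁻¹ * t := by
      rw [ht, hc', pow_succ]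
      group
    rw [e1]
    exact Q.mul_mem (Q.inv_mem (hjpow c)) h
  have htt : t * t ∈ Q := by
    rw [← pow_two, ht, ← pow_mul, mul_comm]
    exact hjpow b
  have htN : t ∈ Subgroup.normalizer (Y : Set H) := Subgroup.pow_mem _ hj' b
  have htt1 : t * t ≠ 1 := fun h => htQ (B.ZQ (B.invol t h))
  have htt2 : (t * t) ^ (2 ^ e) = 1 := by
    rw [← pow_two, ← pow_mul, mul_comm, pow_mul, ht2, one_pow]
  obtain ⟨i, hi1, hi2⟩ := exists_invol_pow htt2 htt1
  have hyc : ∀ y ∈ Y, (t * t) * y = y * (t * t) := by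
    intro y hy
    have h1 : (t * t) * y * (t * t)⁻¹ ∈ Y :=
      (Subgroup.mem_normalizer_iff.mp (Subgroup.mul_mem _ htN htN) y).mp hy
    have h2 : (t * t) * y * (t * t)⁻¹ * y⁻¹ ∈ Y := Y.mul_mem h1 (Y.inv_mem hy)
    have h3 : (t * t) * y * (t * t)⁻¹ * y⁻¹ ∈ Q := by
      have e1 : (t * t) * y * (t * t)⁻¹ * y⁻¹ = (t * t) * (y * (t * t)⁻¹ * y⁻¹) := by group
      rw [e1]
      exact Q.mul_mem htt (hQn.conj_mem _ (Q.inv_mem htt) y)
    have h4 : (t * t) * y * (t * t)⁻¹ * y⁻¹ ∈ Q ⊓ Y := ⟨h3, h2⟩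
    rw [hdisj, Subgroup.mem_bot] at h4
    have h5 := mul_inv_eq_one.mp h4
    exact mul_inv_eq_iff_eq_mul.mp h5
  have hcomm : ∀ x ∈ R, x * (t * t) ^ i = (t * t) ^ i * x := by
    intro x hx
    rw [← hsupR] at hx
    have hx' : x ∈ ((Q ⊔ Y : Subgroup H) : Set H) := hx
    rw [Subgroup.normal_mul] at hx'
    obtain ⟨q', hq', y, hy, rfl⟩ := Set.mem_mul.mp hx'
    have h1 : (t * t) ^ i * q' = q' * (t * t) ^ i := B.Zc _ (B.invol _ hi1) q' hq'
    have h2 : (t * t) ^ i * y = y * (t * t) ^ i := by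
      have : Commute (t * t) y := hyc y hy
      exact this.pow_left i
    calc q' * y * (t * t) ^ i = q' * (y * (t * t) ^ i) := by group
      _ = q' * ((t * t) ^ i * y) := by rw [h2]
      _ = (q' * (t * t) ^ i) * y := by group
      _ = ((t * t) ^ i * q') * y := by rw [h1]
      _ = _ := by group
  exact le_L_of_fix htrans hRn (B.invol _ hi1) hi2 hcomm

/-- The subgroup of all elements of square one. -/
theorem setup [Finite H] [Group.IsSolvable H] (hO : pPrimeCore 2 H = ⊥)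
    (hconj : ∀ x y : H, x ≠ 1 → x * x = 1 → y ≠ 1 → y * y = 1 → IsConj x y)
    (htwo : ∃ x y : H, x ≠ y ∧ x ≠ 1 ∧ x * x = 1 ∧ y ≠ 1 ∧ y * y = 1) :
    ∃ Z : Subgroup H, Base (pCore 2 H) Z ∧ ∀ x, x ∈ Z ↔ x * x = 1 := by
  classical
  haveI : Fact (Nat.Prime 2) := ⟨Nat.prime_two⟩
  have hQn : (pCore 2 H).Normal := inferInstance
  have hQp : IsPGroup 2 (pCore 2 H) := isPGroup_pCore 2
  have hcen := centralizer_pCore_le (G := H) 2 hO
  obtain ⟨x₀, y₀, -, hx₀1, hx₀, -, -⟩ := htwo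
  have hQne : pCore 2 H ≠ ⊥ := by
    intro h
    rw [h] at hcen
    have h1 : x₀ ∈ Subgroup.centralizer (((⊥ : Subgroup H) : Subgroup H) : Set H) := by
      rw [Subgroup.mem_centralizer_iff]
      intro y hy
      have : y = 1 := Subgroup.mem_bot.mp hy
      simp [this]
    exact hx₀1 (Subgroup.mem_bot.mp (hcen h1))
  haveI hnt : Nontrivial (pCore 2 H) := (Subgroup.nontrivial_iff_ne_bot _).mpr hQne
  have hz := hQp.center_nontrivial
  obtain ⟨x, hx⟩ := exists_ne (1 : Subgroup.center (pCore 2 H))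
  obtain ⟨k, hk⟩ := hQp.to_subgroup (Subgroup.center (pCore 2 H)) x
  obtain ⟨j, hj1, hj2⟩ := exists_invol_pow hk hx
  set z₀ : H := (x ^ j).1.1 with hz₀
  have hz₀Q : z₀ ∈ pCore 2 H := (x ^ j).1.2
  have hz₀c : ∀ q ∈ pCore 2 H, z₀ * q = q * z₀ := by
    intro q hq
    have := Subgroup.mem_center_iff.mp (x ^ j : Subgroup.center (pCore 2 H)).2 ⟨q, hq⟩
    exact (congrArg Subtype.val this).symm
  have hz₀sq : z₀ * z₀ = 1 := by
    have := congrArg (fun y : Subgroup.center (pCore 2 H) => ((y : pCore 2 H) : H)) hj1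
    exact this
  have hz₀1 : z₀ ≠ 1 := by
    intro h
    apply hj2
    apply Subtype.ext
    apply Subtype.ext
    exact h
  have hall : ∀ e : H, e * e = 1 → e ∈ pCore 2 H ∧ ∀ q ∈ pCore 2 H, e * q = q * e := by
    intro e he
    by_cases he1 : e = 1
    · rw [he1]
      exact ⟨Subgroup.one_mem _, fun q _ => by group⟩
    obtain ⟨c, hc⟩ := isConj_iff.mp (hconj z₀ e hz₀1 hz₀sq he1 he)
    rw [← hc]
    refine ⟨hQn.conj_mem _ hz₀Q c, fun q hq => ?_⟩
    have h1 : c⁻¹ * q * c⁻¹⁻¹ ∈ pCore 2 H := hQn.conj_mem q hq c⁻¹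
    have h2 := hz₀c _ h1
    calc c * z₀ * c⁻¹ * q = c * (z₀ * (c⁻¹ * q * c⁻¹⁻¹)) * c⁻¹ := by group
      _ = c * ((c⁻¹ * q * c⁻¹⁻¹) * z₀) * c⁻¹ := by rw [h2]
      _ = _ := by group
  let Z : Subgroup H :=
    { carrier := {x | x * x = 1}
      one_mem' := by simp
      mul_mem' := by
        intro a b ha hb
        have ha' : a * a = 1 := ha
        have hb' : b * b = 1 := hb
        have h1 := (hall a ha').2 b (hall b hb').1
        show a * b * (a * b) = 1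
        calc a * b * (a * b) = a * (b * a) * b := by group
          _ = a * (a * b) * b := by rw [h1]
          _ = (a * a) * (b * b) := by group
          _ = 1 := by rw [ha', hb', one_mul]
      inv_mem' := by
        intro a ha
        have ha' : a * a = 1 := ha
        show a⁻¹ * a⁻¹ = 1
        rw [← mul_inv_rev, ha', inv_one] }
  refine ⟨Z, ⟨hQn, ⟨?_⟩, fun x hx => (hall x hx).1, hQp, fun x hx => hx, fun z hz q hq => (hall z hz).2 q hq,
    fun z hz => hz⟩, fun x => Iff.rfl⟩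
  intro n hn g
  have hn' : n * n = 1 := hn
  show g * n * g⁻¹ * (g * n * g⁻¹) = 1
  calc g * n * g⁻¹ * (g * n * g⁻¹) = g * (n * n) * g⁻¹ := by group
    _ = 1 := by rw [hn']; group

/-- The core of the theorem: `O_2(H)` has odd index. -/
theorem core [Finite H] [hs : Group.IsSolvable H] (hO : pPrimeCore 2 H = ⊥)
    (hconj : ∀ x y : H, x ≠ 1 → x * x = 1 → y ≠ 1 → y * y = 1 → IsConj x y)
    (htwo : ∃ x y : H, x ≠ y ∧ x ≠ 1 ∧ x * x = 1 ∧ y ≠ 1 ∧ y * y = 1) :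
    (Nat.card (H ⧸ pCore 2 H)).Coprime 2 := by
  classical
  haveI h2F : Fact (Nat.Prime 2) := ⟨Nat.prime_two⟩
  have hQn : (pCore 2 H).Normal := inferInstance
  have hQp : IsPGroup 2 (pCore 2 H) := isPGroup_pCore 2
  have hcen := centralizer_pCore_le (G := H) 2 hO
  obtain ⟨Z, B, hZ⟩ := setup hO hconj htwo
  haveI := B.Zn
  set Q := pCore 2 H with hQdef
  have htrans : ∀ x ∈ Z, ∀ y ∈ Z, x ≠ 1 → y ≠ 1 → IsConj x y := fun x hx y hy hx1 hy1 =>
    hconj x y hx1 ((hZ x).mp hx) hy1 ((hZ y).mp hy)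
  have htwo' : ∃ x ∈ Z, ∃ y ∈ Z, x ≠ y ∧ x ≠ 1 ∧ y ≠ 1 := by
    obtain ⟨x, y, hxy, hx1, hx, hy1, hy⟩ := htwo
    exact ⟨x, (hZ x).mpr hx, y, (hZ y).mpr hy, hxy, hx1, hy1⟩
  by_contra hev
  have hev' : 2 ∣ Nat.card (H ⧸ Q) := by
    by_contra h
    exact hev ((Nat.Prime.coprime_iff_not_dvd Nat.prime_two).mpr h).symm
  haveI hLn : (Subgroup.centralizer (Z : Set H)).Normal := inferInstance
  set L := Subgroup.centralizer (Z : Set H) with hL
  have hLmem : ∀ {x : H}, x ∈ L ↔ ∀ z ∈ Z, x * z = z * x := mem_centralizer_iff'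
  have hQL : Q ≤ L := fun q hq => hLmem.mpr fun z hz => (B.Zc z hz q hq).symm
  -- the quotient by `Q`
  let π := QuotientGroup.mk' Q
  have hπs : Function.Surjective π := QuotientGroup.mk'_surjective Q
  have hπ1 : ∀ {x : H}, π x = 1 ↔ x ∈ Q := fun {x} => QuotientGroup.eq_one_iff x
  obtain ⟨ā, hā⟩ : ∃ ā : H ⧸ Q, orderOf ā = 2 := exists_prime_orderOf_dvd_card' 2 hev'
  obtain ⟨a₁, ha₁⟩ := hπs ā
  have hev'' : ∃ a : H, a ∉ Q ∧ a * a ∈ Q := by
    refine ⟨a₁, ?_, ?_⟩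
    · intro h
      have h1 : ā = 1 := by rw [← ha₁]; exact hπ1.mpr h
      rw [h1, orderOf_one] at hā
      omega
    · rw [← hπ1, map_mul, ha₁, ← pow_two, ← hā]
      exact pow_orderOf_eq_one ā
  have hπQ : IsPGroup 2 Q := hQp
  have hpcoreQ : pCore 2 (H ⧸ Q) = ⊥ := pCore_quotient_pCore 2
  set Tq := pPrimeCore 2 (H ⧸ Q) with hTq
  let R : Subgroup H := Tq.comap π
  haveI hRn : R.Normal := inferInstance
  have hQR : Q ≤ R := by
    intro x hx
    show π x ∈ Tq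
    rw [hπ1.mpr hx]
    exact Tq.one_mem
  have hrelR : Q.relIndex R = Nat.card Tq := Cfsg.Agent.Lib.PLengthSeries.relIndex_comap_mk Q Tq
  have hTqcop : (Nat.card Tq).Coprime 2 := card_pPrimeCore_coprime 2
  obtain ⟨eQ, heQ⟩ := IsPGroup.iff_card.mp hQp
  have hcR : (Nat.card Q).Coprime (Q.relIndex R) := by
    rw [hrelR, heQ]
    exact Nat.Coprime.pow_left _ hTqcop.symm
  have hRL : R ≤ L := fun x hx =>
    hLmem.mpr (R_central B htrans hRn hQR hcR hev'' x hx)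
  -- the next term of the series
  have hTqne : Tq ≠ ⊤ := by
    intro h
    rw [h] at hTqcop
    rw [Subgroup.card_top] at hTqcop
    exact hev hTqcop
  haveI hXnt : Nontrivial ((H ⧸ Q) ⧸ Tq) := QuotientGroup.nontrivial_iff.mpr hTqne
  have hXO : pPrimeCore 2 ((H ⧸ Q) ⧸ Tq) = ⊥ := pPrimeCore_quotient_pPrimeCore 2
  obtain ⟨p, hp, hpne⟩ := exists_pCore_ne_bot (G := (H ⧸ Q) ⧸ Tq)
  have hp2 : p = 2 := by
    by_contra hne
    haveI : Fact p.Prime := ⟨hp⟩
    apply hpne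
    have := pCore_le_pPrimeCore (G := (H ⧸ Q) ⧸ Tq) (p := 2) (q := p) hne
    rw [hXO] at this
    exact le_bot_iff.mp this
  subst hp2
  set W := pCore 2 ((H ⧸ Q) ⧸ Tq) with hW
  have hWp : IsPGroup 2 W := isPGroup_pCore 2
  let π₂ : H →* (H ⧸ Q) ⧸ Tq := (QuotientGroup.mk' Tq).comp π
  have hπ₂s : Function.Surjective π₂ :=
    (QuotientGroup.mk'_surjective Tq).comp hπs
  have hπ₂1 : ∀ {x : H}, π₂ x = 1 ↔ x ∈ R := fun {x} => QuotientGroup.eq_one_iff (π x)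
  have hker : π₂.ker = R := by
    ext x
    rw [MonoidHom.mem_ker]
    exact hπ₂1
  let M : Subgroup H := W.comap π₂
  haveI hMn : M.Normal := inferInstance
  have hRM : R ≤ M := by
    intro x hx
    show π₂ x ∈ W
    rw [hπ₂1.mpr hx]
    exact W.one_mem
  have hrelM : R.relIndex M = Nat.card W := by
    have h1 := Subgroup.relIndex_ker π₂ (K := M)
    rw [hker] at h1
    rw [h1]
    have h2 : M.map π₂ = W := Subgroup.map_comap_eq_self_of_surjective hπ₂s W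
    rw [h2]
  obtain ⟨eW, heW⟩ := IsPGroup.iff_card.mp hWp
  -- a Sylow subgroup of `M`
  let P₀ : Sylow 2 M := default
  let P : Subgroup H := (P₀ : Subgroup M).map M.subtype
  have hP2 : IsPGroup 2 P := P₀.2.map _
  have hPM : P ≤ M := Subgroup.map_subtype_le _
  have hrelP : ¬ 2 ∣ P.relIndex M := by
    have h1 : P.relIndex M = (P₀ : Subgroup M).index := by
      show ((((P₀ : Subgroup M).map M.subtype).comap M.subtype)).index = _
      rw [Subgroup.comap_map_eq_self_of_injective M.subtype_injective]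
    rw [h1]
    exact P₀.not_dvd_index
  have hMsup : M ≤ R ⊔ P := by
    rw [← Subgroup.relIndex_eq_one]
    have h1 : (R ⊔ P).relIndex M ∣ R.relIndex M := Subgroup.relIndex_dvd_of_le_left M le_sup_left
    have h2 : (R ⊔ P).relIndex M ∣ P.relIndex M := Subgroup.relIndex_dvd_of_le_left M le_sup_right
    rw [hrelM, heW] at h1
    obtain ⟨j, -, hj⟩ := (Nat.dvd_prime_pow Nat.prime_two).mp h1
    rcases Nat.eq_zero_or_pos j with rfl | hjpos
    · simpa using hj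
    · exfalso
      apply hrelP
      rw [hj] at h2
      exact (dvd_pow_self 2 hjpos.ne').trans h2
  have hMne : ∃ x ∈ M, x ∉ R := by
    obtain ⟨x, hx, hx1⟩ := Cfsg.Agent.Lib.BrolineGT.exists_mem_ne_one hpne
    obtain ⟨a, rfl⟩ := hπ₂s x
    exact ⟨a, hx, fun h => hx1 (hπ₂1.mpr h)⟩
  obtain ⟨a, haP, haR⟩ : ∃ a ∈ P, a ∉ R := by
    by_contra hcon
    push Not at hcon
    obtain ⟨x, hxM, hxR⟩ := hMne
    have h1 := hMsup hxM
    rw [sup_of_le_left (fun y hy => hcon y hy)] at h1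
    exact hxR h1
  have hQP : Q ≤ P := by
    intro q hq
    have hqM : q ∈ M := hRM (hQR hq)
    have h1 : IsPGroup 2 (Q.subgroupOf M) :=
      hQp.to_le (H := (Q.subgroupOf M).map M.subtype) (by
        rintro _ ⟨y, hy, rfl⟩
        exact hy) |>.of_equiv (Subgroup.equivMapOfInjective _ _ M.subtype_injective).symm
    haveI hn : (Q.subgroupOf M).Normal := inferInstance
    have h2 := h1.le_sylow_of_normal P₀
    exact ⟨⟨q, hqM⟩, h2 hq, rfl⟩
  -- the Frattini argument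
  have hFrat : ∀ h : H, ∃ ρ ∈ R, ∃ n ∈ Subgroup.normalizer (P : Set H), h = ρ * n := by
    intro h
    have h1 : h ∈ ((Subgroup.normalizer (P : Set H) ⊔ M : Subgroup H) : Set H) := by
      rw [Sylow.normalizer_sup_eq_top P₀]
      trivial
    rw [Subgroup.mul_normal] at h1
    obtain ⟨n, hn, x, hx, rfl⟩ := Set.mem_mul.mp h1
    have hx' := hMsup hx
    have hx'' : x ∈ ((R ⊔ P : Subgroup H) : Set H) := hx'
    rw [Subgroup.normal_mul] at hx''
    obtain ⟨ρ, hρ, p, hp, rfl⟩ := Set.mem_mul.mp hx''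
    have hpN : p ∈ Subgroup.normalizer (P : Set H) := Subgroup.le_normalizer hp
    refine ⟨n * ρ * n⁻¹, hRn.conj_mem ρ hρ n, n * p, Subgroup.mul_mem _ hn hpN, ?_⟩
    group
  obtain ⟨r, A, hr, hr2, hAn, hLA, ⟨m, hmA, hmL⟩, hAr, hAfree⟩ := exists_A B htrans htwo'
  haveI hrF : Fact r.Prime := ⟨hr⟩
  -- the prime `s`
  have hFle : fittingSubgroup (H ⧸ Q) ≤ Tq := by
    have h1 := fittingSubgroup_le_sup (G := H ⧸ Q) 2
    rwa [hpcoreQ, bot_sup_eq] at h1
  have haF : π a ∉ Subgroup.centralizer ((fittingSubgroup (H ⧸ Q) : Subgroup (H ⧸ Q)) : Set (H ⧸ Q)) := by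
    intro h
    exact haR (hFle (centralizer_fittingSubgroup_le h))
  obtain ⟨s, hsprime, xb, hxb, hxba⟩ : ∃ s : ℕ, s.Prime ∧ ∃ x ∈ pCore s (H ⧸ Q), x * π a ≠ π a * x := by
    by_contra hcon
    push Not at hcon
    apply haF
    rw [Subgroup.mem_centralizer_iff, fittingSubgroup_eq_iSup_pCore]
    have hle : (⨆ p : Nat.Primes, pCore (p : ℕ) (H ⧸ Q)) ≤ Subgroup.centralizer ({π a} : Set (H ⧸ Q)) := by
      refine iSup_le fun p => ?_
      intro x hx
      rw [Subgroup.mem_centralizer_iff]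
      intro y hy
      rw [Set.mem_singleton_iff] at hy
      rw [hy]
      exact (hcon p p.2 x hx).symm
    intro x hx
    have h1 := Subgroup.mem_centralizer_iff.mp (hle hx) (π a) rfl
    exact h1.symm
  haveI hsF : Fact s.Prime := ⟨hsprime⟩
  have hs2 : s ≠ 2 := by
    rintro rfl
    rw [hpcoreQ, Subgroup.mem_bot] at hxb
    rw [hxb] at hxba
    apply hxba
    group
  let Ts : Subgroup H := (pCore s (H ⧸ Q)).comap π
  haveI hTsn : Ts.Normal := inferInstance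
  have hQTs : Q ≤ Ts := by
    intro x hx
    show π x ∈ pCore s (H ⧸ Q)
    rw [hπ1.mpr hx]
    exact Subgroup.one_mem _
  have hTsR : Ts ≤ R := fun x hx => pCore_le_pPrimeCore (G := H ⧸ Q) (p := 2) (q := s) hs2 hx
  have hrelTs : Q.relIndex Ts = Nat.card (pCore s (H ⧸ Q)) :=
    Cfsg.Agent.Lib.PLengthSeries.relIndex_comap_mk Q _
  obtain ⟨es, hes⟩ := IsPGroup.iff_card.mp (isPGroup_pCore (G := H ⧸ Q) s)
  have hcTs : (Nat.card Q).Coprime (Q.relIndex Ts) := by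
    rw [hrelTs, hes, heQ]
    exact Nat.Coprime.pow _ _ ((Nat.coprime_primes Nat.prime_two hsprime).mpr hs2.symm)
  have hQs : Group.IsSolvable Q := by
    haveI := hQp.isNilpotent
    infer_instance
  obtain ⟨S, hSTs, hdisj, hcard, hsup⟩ := Cfsg.Agent.S3798.frattini_hall Q Ts hQTs hQs hcTs
  have hsupTs : Q ⊔ S = Ts := sup_eq_of_hall hQTs hSTs hdisj hcard
  have hSp : IsPGroup s S := IsPGroup.iff_card.mpr ⟨es, by rw [hcard, hrelTs, hes]⟩
  have hSL : S ≤ L := hSTs.trans (hTsR.trans hRL)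
  have hSZ : ∀ c ∈ S, ∀ z ∈ Z, c * z = z * c := fun c hc z hz => hLmem.mp (hSL hc) z hz
  have hSm : ∀ c ∈ S, c ≠ 1 → ∃ q ∈ Q, c * q * c⁻¹ ≠ q := by
    intro c hc hc1
    by_contra hcon
    push Not at hcon
    apply hc1
    have h1 : c ∈ Q := by
      apply hcen
      rw [Subgroup.mem_centralizer_iff]
      intro q hq
      exact (mul_inv_eq_iff_eq_mul.mp (hcon q hq)).symm
    have h2 : c ∈ Q ⊓ S := ⟨h1, hc⟩
    rwa [hdisj, Subgroup.mem_bot] at h2
  have hQJ : ∀ h : H, ∃ q ∈ Q, ∃ j ∈ Subgroup.normalizer (S : Set H), h = q * j := by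
    intro h
    have h1 : h ∈ ((Q ⊔ Subgroup.normalizer (S : Set H) : Subgroup H) : Set H) := by
      rw [hsup]
      trivial
    rw [Subgroup.normal_mul] at h1
    obtain ⟨q, hq, j, hj, rfl⟩ := Set.mem_mul.mp h1
    exact ⟨q, hq, j, hj, rfl⟩
  -- the element `g`
  obtain ⟨ρ, hρ, n, hn, hmn⟩ := hFrat m
  obtain ⟨q, hq, j, hj, hnj⟩ := hQJ n
  have hjN : j ∈ Subgroup.normalizer (P : Set H) := by
    have e : j = q⁻¹ * n := by rw [hnj]; group
    rw [e]
    exact Subgroup.mul_mem _ (Subgroup.le_normalizer (P.inv_mem (hQP hq))) hn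
  have hnA : n ∈ A := by
    have e : n = ρ⁻¹ * m := by rw [hmn]; group
    rw [e]
    exact A.mul_mem (A.inv_mem (hLA (hRL hρ))) hmA
  have hjA : j ∈ A := by
    have e : j = q⁻¹ * n := by rw [hnj]; group
    rw [e]
    exact A.mul_mem (A.inv_mem (hLA (hQL hq))) hnA
  have hjL : j ∉ L := by
    intro h
    apply hmL
    rw [hmn, hnj]
    exact L.mul_mem (hRL hρ) (L.mul_mem (hQL hq) h)
  obtain ⟨e, b, hb, hord⟩ := Nat.exists_eq_pow_mul_and_not_dvd (n := orderOf j)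
    (orderOf_pos j).ne' r hr.ne_one
  set g := j ^ b with hg
  have hg1 : g ^ (r ^ e) = 1 := by
    rw [hg, ← pow_mul, mul_comm, ← hord, pow_orderOf_eq_one]
  have hgA : g ∈ A := A.pow_mem hjA b
  have hgN : g ∈ Subgroup.normalizer (P : Set H) := Subgroup.pow_mem _ hjN b
  have hgS : g ∈ Subgroup.normalizer (S : Set H) := Subgroup.pow_mem _ hj b
  have hgL : g ∉ L := by
    intro h
    apply hjL
    have h1 := hAr j hjA
    have h2 : (QuotientGroup.mk' L j) ^ r = 1 := by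
      rw [← map_pow]
      exact (QuotientGroup.eq_one_iff _).mpr h1
    have h3 : (QuotientGroup.mk' L j) ^ b = 1 := by
      rw [← map_pow]
      exact (QuotientGroup.eq_one_iff _).mpr h
    have h4 := Nat.dvd_gcd (orderOf_dvd_of_pow_eq_one h2) (orderOf_dvd_of_pow_eq_one h3)
    have h5 : Nat.gcd r b = 1 := (Nat.Prime.coprime_iff_not_dvd hr).mpr hb
    rw [h5, Nat.dvd_one, orderOf_eq_one_iff] at h4
    exact (QuotientGroup.eq_one_iff _).mp h4
  have hfree := hAfree g hgA hgL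
  have hgr : ∀ z ∈ Z, g ^ r * z = z * g ^ r := fun z hz => hLmem.mp (hAr g hgA) z hz
  have hPL : P ≤ L := P_le_L B hr2 hP2 hAn hAr hg1 hgA hgN hfree
  -- the subgroup `D`
  let D : Subgroup H := P ⊓ Subgroup.normalizer (S : Set H)
  have hD2 : IsPGroup 2 D := hP2.to_le inf_le_left
  have hDZ : ∀ d ∈ D, ∀ z ∈ Z, d * z = z * d := fun d hd z hz => hLmem.mp (hPL hd.1) z hz
  have hDS : ∀ d ∈ D, d ∈ Subgroup.normalizer (S : Set H) := fun d hd => hd.2
  have hne : ∃ d ∈ D, ∃ c ∈ S, d * c * d⁻¹ ≠ c := by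
    obtain ⟨x₀, rfl⟩ := hπs xb
    have hx₀ : x₀ ∈ Ts := hxb
    rw [← hsupTs] at hx₀
    have hx₀' : x₀ ∈ ((Q ⊔ S : Subgroup H) : Set H) := hx₀
    rw [Subgroup.normal_mul] at hx₀'
    obtain ⟨q₁, hq₁, c, hc, rfl⟩ := Set.mem_mul.mp hx₀'
    obtain ⟨q₂, hq₂, d, hd, had⟩ := hQJ a
    have hdP : d ∈ P := by
      have e : d = q₂⁻¹ * a := by rw [had]; group
      rw [e]
      exact P.mul_mem (P.inv_mem (hQP hq₂)) haP
    refine ⟨d, ⟨hdP, hd⟩, c, hc, ?_⟩
    intro hdc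
    apply hxba
    have h1 : π (q₁ * c) = π c := by
      rw [map_mul, hπ1.mpr hq₁, one_mul]
    have h2 : π a = π d := by
      rw [had, map_mul, hπ1.mpr hq₂, one_mul]
    rw [h1, h2]
    have h3 : d * c = c * d := mul_inv_eq_iff_eq_mul.mp hdc
    rw [← map_mul, ← map_mul, h3]
  have hgD : g ∈ Subgroup.normalizer (D : Set H) := by
    rw [Subgroup.mem_normalizer_iff]
    intro x
    constructor
    · rintro ⟨h1, h2⟩
      refine ⟨(Subgroup.mem_normalizer_iff.mp hgN x).mp h1, ?_⟩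
      exact Subgroup.mul_mem _ (Subgroup.mul_mem _ hgS h2) (Subgroup.inv_mem _ hgS)
    · rintro ⟨h1, h2⟩
      refine ⟨(Subgroup.mem_normalizer_iff.mp hgN x).mpr h1, ?_⟩
      have e1 : x = g⁻¹ * (g * x * g⁻¹) * g := by group
      rw [e1]
      exact Subgroup.mul_mem _ (Subgroup.mul_mem _ (Subgroup.inv_mem _ hgS) h2) hgS
  exact no_config B hs2 hr2 hSp hD2 hSZ hSm hDZ hDS hne hg1 hgS hgD hgr hfree

end Cfsg.Agent.Lib.OneClassZ
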