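import Mathlib
import Cfsg.Prelude.Def_Classical

/-! Element of order 65 in `PSU 4 F 8` for `|F| = 64`: the Levi factor `SL₂(64)` of the stabiliser of a
maximal isotropic subspace, conjugated to the standard Hermitian form by an explicit involution. -/

set_option autoImplicit false

namespace Cfsg.Agent.Lib.Ord65

open scoped Matrix
open Matrix

namespace U

variable {F : Type*} [Field F]

/-- The Chebyshev-type sequence of `[[0,1],[1,c]]`. -/
def sq (c : F) : ℕ → F
  | 0 => 0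
  | 1 => 1
  | (n + 2) => c * sq c (n + 1) + sq c n

theorem sq_add_two (c : F) (n : ℕ) : sq c (n + 2) = c * sq c (n + 1) + sq c n := rfl

theorem chain (hs2 : (2:F) = 0) (c : F) (hc : c ^ 6 = c + 1) :
    sq c 5 = c^4 + c^2 + 1 ∧ sq c 13 = c^5 + c^4 + c^3 + c^2 ∧ sq c 64 = 1 ∧ sq c 65 = 0 ∧ sq c 66 = 1 := by
  have h0 : sq c 0 = 0 := rfl
  have h1 : sq c 1 = 1 := rfl
  have h2 : sq c 2 = c := by
    rw [sq_add_two, h1, h0]
    linear_combination (0) * hc + (0) * hs2
  have h3 : sq c 3 = c^2 + 1 := by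
    rw [sq_add_two, h2, h1]
    linear_combination (0) * hc + (0) * hs2
  have h4 : sq c 4 = c^3 := by
    rw [sq_add_two, h3, h2]
    linear_combination (0) * hc + (c) * hs2
  have h5 : sq c 5 = c^4 + c^2 + 1 := by
    rw [sq_add_two, h4, h3]
    linear_combination (0) * hc + (0) * hs2
  have h6 : sq c 6 = c^5 + c := by
    rw [sq_add_two, h5, h4]
    linear_combination (0) * hc + (c^3) * hs2
  have h7 : sq c 7 = c^4 + c := by
    rw [sq_add_two, h6, h5]
    linear_combination (1) * hc + (c^2 + 1) * hs2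
  have h8 : sq c 8 = c^2 + c := by
    rw [sq_add_two, h7, h6]
    linear_combination (0) * hc + (c^5) * hs2
  have h9 : sq c 9 = c^4 + c^3 + c^2 + c := by
    rw [sq_add_two, h8, h7]
    linear_combination (0) * hc + (0) * hs2
  have h10 : sq c 10 = c^5 + c^4 + c^3 + c := by
    rw [sq_add_two, h9, h8]
    linear_combination (0) * hc + (c^2) * hs2
  have h11 : sq c 11 = c^5 + c^3 + 1 := by
    rw [sq_add_two, h10, h9]
    linear_combination (1) * hc + (c^4 + c^2 + c) * hs2
  have h12 : sq c 12 = c^5 + c^3 + c + 1 := by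
    rw [sq_add_two, h11, h10]
    linear_combination (1) * hc + (c^4 + c) * hs2
  have h13 : sq c 13 = c^5 + c^4 + c^3 + c^2 := by
    rw [sq_add_two, h12, h11]
    linear_combination (1) * hc + (c + 1) * hs2
  have h14 : sq c 14 = c^4 := by
    rw [sq_add_two, h13, h12]
    linear_combination (1) * hc + (c^5 + c^3 + c + 1) * hs2
  have h15 : sq c 15 = c^4 + c^3 + c^2 := by
    rw [sq_add_two, h14, h13]
    linear_combination (0) * hc + (c^5) * hs2
  have h16 : sq c 16 = c^5 + c^3 := by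
    rw [sq_add_two, h15, h14]
    linear_combination (0) * hc + (c^4) * hs2
  have h17 : sq c 17 = c^3 + c^2 + c + 1 := by
    rw [sq_add_two, h16, h15]
    linear_combination (1) * hc + (c^4) * hs2
  have h18 : sq c 18 = c^5 + c^4 + c^2 + c := by
    rw [sq_add_two, h17, h16]
    linear_combination (0) * hc + (c^3) * hs2
  have h19 : sq c 19 = c^5 := by
    rw [sq_add_two, h18, h17]
    linear_combination (1) * hc + (c^3 + c^2 + c + 1) * hs2
  have h20 : sq c 20 = c^5 + c^4 + c^2 + 1 := by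
    rw [sq_add_two, h19, h18]
    linear_combination (1) * hc + (c) * hs2
  have h21 : sq c 21 = c^3 + 1 := by
    rw [sq_add_two, h20, h19]
    linear_combination (1) * hc + (c^5 + c) * hs2
  have h22 : sq c 22 = c^5 + c^2 + c + 1 := by
    rw [sq_add_two, h21, h20]
    linear_combination (0) * hc + (c^4) * hs2
  have h23 : sq c 23 = c^2 := by
    rw [sq_add_two, h22, h21]
    linear_combination (1) * hc + (c^3 + c + 1) * hs2
  have h24 : sq c 24 = c^5 + c^3 + c^2 + c + 1 := by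
    rw [sq_add_two, h23, h22]
    linear_combination (0) * hc + (0) * hs2
  have h25 : sq c 25 = c^4 + c^3 + 1 := by
    rw [sq_add_two, h24, h23]
    linear_combination (1) * hc + (c^2 + c) * hs2
  have h26 : sq c 26 = c^4 + c^3 + c^2 + 1 := by
    rw [sq_add_two, h25, h24]
    linear_combination (0) * hc + (c^5 + c) * hs2
  have h27 : sq c 27 = c^5 + c + 1 := by
    rw [sq_add_two, h26, h25]
    linear_combination (0) * hc + (c^4 + c^3) * hs2
  have h28 : sq c 28 = c^4 + c^3 := by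
    rw [sq_add_two, h27, h26]
    linear_combination (1) * hc + (c^2 + c + 1) * hs2
  have h29 : sq c 29 = c^4 + c + 1 := by
    rw [sq_add_two, h28, h27]
    linear_combination (0) * hc + (c^5) * hs2
  have h30 : sq c 30 = c^5 + c^4 + c^3 + c^2 + c := by
    rw [sq_add_two, h29, h28]
    linear_combination (0) * hc + (0) * hs2
  have h31 : sq c 31 = c^5 + c^3 + c^2 := by
    rw [sq_add_two, h30, h29]
    linear_combination (1) * hc + (c^4 + c + 1) * hs2
  have h32 : sq c 32 = c^5 + c^2 + 1 := by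
    rw [sq_add_two, h31, h30]
    linear_combination (1) * hc + (c^4 + c^3 + c) * hs2
  have h33 : sq c 33 = c^5 + c^2 + 1 := by
    rw [sq_add_two, h32, h31]
    linear_combination (1) * hc + (c^3 + c) * hs2
  have h34 : sq c 34 = c^5 + c^3 + c^2 := by
    rw [sq_add_two, h33, h32]
    linear_combination (1) * hc + (c + 1) * hs2
  have h35 : sq c 35 = c^5 + c^4 + c^3 + c^2 + c := by
    rw [sq_add_two, h34, h33]
    linear_combination (1) * hc + (1) * hs2
  have h36 : sq c 36 = c^4 + c + 1 := by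
    rw [sq_add_two, h35, h34]
    linear_combination (1) * hc + (c^5 + c^3 + c^2) * hs2
  have h37 : sq c 37 = c^4 + c^3 := by
    rw [sq_add_two, h36, h35]
    linear_combination (0) * hc + (c^5 + c^2 + c) * hs2
  have h38 : sq c 38 = c^5 + c + 1 := by
    rw [sq_add_two, h37, h36]
    linear_combination (0) * hc + (c^4) * hs2
  have h39 : sq c 39 = c^4 + c^3 + c^2 + 1 := by
    rw [sq_add_two, h38, h37]
    linear_combination (1) * hc + (c) * hs2
  have h40 : sq c 40 = c^4 + c^3 + 1 := by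
    rw [sq_add_two, h39, h38]
    linear_combination (0) * hc + (c^5 + c) * hs2
  have h41 : sq c 41 = c^5 + c^3 + c^2 + c + 1 := by
    rw [sq_add_two, h40, h39]
    linear_combination (0) * hc + (c^4) * hs2
  have h42 : sq c 42 = c^2 := by
    rw [sq_add_two, h41, h40]
    linear_combination (1) * hc + (c^4 + c^3 + c + 1) * hs2
  have h43 : sq c 43 = c^5 + c^2 + c + 1 := by
    rw [sq_add_two, h42, h41]
    linear_combination (0) * hc + (c^3) * hs2
  have h44 : sq c 44 = c^3 + 1 := by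
    rw [sq_add_two, h43, h42]
    linear_combination (1) * hc + (c^2 + c) * hs2
  have h45 : sq c 45 = c^5 + c^4 + c^2 + 1 := by
    rw [sq_add_two, h44, h43]
    linear_combination (0) * hc + (c) * hs2
  have h46 : sq c 46 = c^5 := by
    rw [sq_add_two, h45, h44]
    linear_combination (1) * hc + (c^3 + c + 1) * hs2
  have h47 : sq c 47 = c^5 + c^4 + c^2 + c := by
    rw [sq_add_two, h46, h45]
    linear_combination (1) * hc + (1) * hs2
  have h48 : sq c 48 = c^3 + c^2 + c + 1 := by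
    rw [sq_add_two, h47, h46]
    linear_combination (1) * hc + (c^5) * hs2
  have h49 : sq c 49 = c^5 + c^3 := by
    rw [sq_add_two, h48, h47]
    linear_combination (0) * hc + (c^4 + c^2 + c) * hs2
  have h50 : sq c 50 = c^4 + c^3 + c^2 := by
    rw [sq_add_two, h49, h48]
    linear_combination (1) * hc + (c + 1) * hs2
  have h51 : sq c 51 = c^4 := by
    rw [sq_add_two, h50, h49]
    linear_combination (0) * hc + (c^5 + c^3) * hs2
  have h52 : sq c 52 = c^5 + c^4 + c^3 + c^2 := by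
    rw [sq_add_two, h51, h50]
    linear_combination (0) * hc + (0) * hs2
  have h53 : sq c 53 = c^5 + c^3 + c + 1 := by
    rw [sq_add_two, h52, h51]
    linear_combination (1) * hc + (c^4) * hs2
  have h54 : sq c 54 = c^5 + c^3 + 1 := by
    rw [sq_add_two, h53, h52]
    linear_combination (1) * hc + (c^4 + c^2 + c) * hs2
  have h55 : sq c 55 = c^5 + c^4 + c^3 + c := by
    rw [sq_add_two, h54, h53]
    linear_combination (1) * hc + (c + 1) * hs2
  have h56 : sq c 56 = c^4 + c^3 + c^2 + c := by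
    rw [sq_add_two, h55, h54]
    linear_combination (1) * hc + (c^5 + 1) * hs2
  have h57 : sq c 57 = c^2 + c := by
    rw [sq_add_two, h56, h55]
    linear_combination (0) * hc + (c^5 + c^4 + c^3) * hs2
  have h58 : sq c 58 = c^4 + c := by
    rw [sq_add_two, h57, h56]
    linear_combination (0) * hc + (c^3 + c^2) * hs2
  have h59 : sq c 59 = c^5 + c := by
    rw [sq_add_two, h58, h57]
    linear_combination (0) * hc + (c^2) * hs2
  have h60 : sq c 60 = c^4 + c^2 + 1 := by
    rw [sq_add_two, h59, h58]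
    linear_combination (1) * hc + (c) * hs2
  have h61 : sq c 61 = c^3 := by
    rw [sq_add_two, h60, h59]
    linear_combination (0) * hc + (c^5 + c) * hs2
  have h62 : sq c 62 = c^2 + 1 := by
    rw [sq_add_two, h61, h60]
    linear_combination (0) * hc + (c^4) * hs2
  have h63 : sq c 63 = c := by
    rw [sq_add_two, h62, h61]
    linear_combination (0) * hc + (c^3) * hs2
  have h64 : sq c 64 = 1 := by
    rw [sq_add_two, h63, h62]
    linear_combination (0) * hc + (c^2) * hs2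
  have h65 : sq c 65 = 0 := by
    rw [sq_add_two, h64, h63]
    linear_combination (0) * hc + (c) * hs2
  have h66 : sq c 66 = 1 := by
    rw [sq_add_two, h65, h64]
    linear_combination (0) * hc + (0) * hs2
  exact ⟨h5, h13, h64, h65, h66⟩

theorem s5_ne (hs2 : (2:F) = 0) (c : F) (hc : c ^ 6 = c + 1) : sq c 5 ≠ 0 := by
  obtain ⟨h5, h13, -⟩ := chain hs2 c hc
  intro h
  rw [h5] at h
  have key : (c^4 + c^2 + 1) * (c^5 + c + 1) = 1 := by
    linear_combination (c^3 + c) * hc + (c^5 + c^4 + c^3 + c^2 + c) * hs2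
  rw [h, zero_mul] at key
  exact zero_ne_one key

theorem s13_ne (hs2 : (2:F) = 0) (c : F) (hc : c ^ 6 = c + 1) : sq c 13 ≠ 0 := by
  obtain ⟨h5, h13, -⟩ := chain hs2 c hc
  intro h
  rw [h13] at h
  have key : (c^5 + c^4 + c^3 + c^2) * (c^5 + c^4 + c^2 + c + 1) = 1 := by
    linear_combination (c^4 + c + 1) * hc + (c^9 + c^8 + c^7 + c^6 + (2)*c^5 + (2)*c^4 + c^3 + c^2 + c) * hs2
  rw [h, zero_mul] at key
  exact zero_ne_one key

theorem exists_omega (hs2 : (2:F) = 0) (c : F) (hc : c ^ 6 = c + 1) : ∃ a : F, a ^ 2 + a + 1 = 0 :=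
  ⟨c^5 + c^4 + c^3 + c, by linear_combination (c^4 + c^2 + 1) * hc + (c^9 + c^8 + c^7 + c^6 + (2)*c^5 + (2)*c^4 + c^3 + c^2 + c + 1) * hs2⟩

noncomputable def QQ (F : Type*) [Field F] : Polynomial F := Polynomial.X^58 + Polynomial.X^53 + Polynomial.X^52 + Polynomial.X^48 + Polynomial.X^46 + Polynomial.X^43 + Polynomial.X^42 + Polynomial.X^41 + Polynomial.X^40 + Polynomial.X^38 + Polynomial.X^34 + Polynomial.X^33 + Polynomial.X^32 + Polynomial.X^29 + Polynomial.X^26 + Polynomial.X^24 + Polynomial.X^23 + Polynomial.X^21 + Polynomial.X^20 + Polynomial.X^19 + Polynomial.X^17 + Polynomial.X^16 + Polynomial.X^13 + Polynomial.X^12 + Polynomial.X^10 + Polynomial.X^8 + Polynomial.X^6 + Polynomial.X^5 + Polynomial.X^4 + Polynomial.X^3 + Polynomial.X^2 + Polynomial.X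

theorem QQ_eval (hs2 : (2:F) = 0) (x : F) : (x ^ 6 + x + 1) * (QQ F).eval x = x ^ 64 + x := by
  simp only [QQ, Polynomial.eval_add, Polynomial.eval_pow, Polynomial.eval_X]
  linear_combination (x^59 + x^58 + x^54 + x^53 + x^52 + x^49 + x^48 + x^47 + x^46 + x^44 + x^43 + x^42 + x^41 + x^40 + x^39 + x^38 + x^35 + x^34 + x^33 + x^32 + x^30 + x^29 + x^27 + x^26 + x^25 + x^24 + x^23 + x^22 + x^21 + x^20 + x^19 + x^18 + x^17 + x^16 + x^14 + x^13 + x^12 + x^11 + x^10 + x^9 + x^8 + x^7 + x^6 + x^5 + x^4 + x^3 + x^2) * hs2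

def PP (a b : F) : Matrix (Fin 4) (Fin 4) F := !![a,0,b,0; 0,a,0,b; b,0,a,0; 0,b,0,a]

def lev (p q r s : F) : Matrix (Fin 4) (Fin 4) F :=
  !![p,q,0,0; r,s,0,0; 0,0,s^8,r^8; 0,0,q^8,p^8]

def h0 (u v : Fin 4 → F) : F := u 0 * v 2 ^ 8 + u 1 * v 3 ^ 8 + u 2 * v 0 ^ 8 + u 3 * v 1 ^ 8

theorem PP_mulVec (a b : F) (u : Fin 4 → F) :
    PP a b *ᵥ u = ![a*u 0 + b*u 2, a*u 1 + b*u 3, b*u 0 + a*u 2, b*u 1 + a*u 3] := by
  ext i; fin_cases i <;> simp [PP, mulVec, dotProduct, Fin.sum_univ_four]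

theorem lev_mulVec (p q r s : F) (u : Fin 4 → F) :
    lev p q r s *ᵥ u =
      ![p*u 0 + q*u 1, r*u 0 + s*u 1, s^8*u 2 + r^8*u 3, q^8*u 2 + p^8*u 3] := by
  ext i; fin_cases i <;> simp [lev, mulVec, dotProduct, Fin.sum_univ_four]

theorem frob [CharP F 2] (x y : F) : (x + y) ^ 8 = x ^ 8 + y ^ 8 := by
  have := add_pow_char_pow (R := F) (p := 2) (n := 3) x y
  simpa using this

theorem PP_form [CharP F 2] (hs2 : (2:F) = 0) {a b : F} (hab : a + b = 1) (ha : a^8 = b)
    (hb : b^8 = a) (u v : Fin 4 → F) :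
    Cfsg.hermForm 4 F 8 (PP a b *ᵥ u) (PP a b *ᵥ v) = h0 u v := by
  rw [PP_mulVec, PP_mulVec]
  simp only [Cfsg.hermForm, Fin.sum_univ_four, h0]
  simp only [Matrix.cons_val_zero, Matrix.cons_val_one, Matrix.cons_val]
  simp only [frob, mul_pow, ha, hb]
  linear_combination (a + b + 1) * (u 0 * v 2 ^ 8 + u 1 * v 3 ^ 8 + u 2 * v 0 ^ 8 + u 3 * v 1 ^ 8) * hab
    + a * b * ((u 0 * v 0 ^ 8 + u 1 * v 1 ^ 8 + u 2 * v 2 ^ 8 + u 3 * v 3 ^ 8)
        - (u 0 * v 2 ^ 8 + u 1 * v 3 ^ 8 + u 2 * v 0 ^ 8 + u 3 * v 1 ^ 8)) * hs2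

theorem lev_form [CharP F 2] (hs2 : (2:F) = 0) (hF : ∀ x : F, (x ^ 8) ^ 8 = x) {p q r s : F}
    (hd : p * s + q * r = 1) (u v : Fin 4 → F) :
    h0 (lev p q r s *ᵥ u) (lev p q r s *ᵥ v) = h0 u v := by
  have hd' : p ^ 8 * s ^ 8 + q ^ 8 * r ^ 8 = 1 := by
    have := congrArg (· ^ 8) hd
    simpa [frob, mul_pow] using this
  rw [lev_mulVec, lev_mulVec]
  simp only [h0, Matrix.cons_val_zero, Matrix.cons_val_one, Matrix.cons_val]
  simp only [frob, mul_pow, hF]
  linear_combination (u 0 * v 2 ^ 8 + u 1 * v 3 ^ 8) * hd + (u 2 * v 0 ^ 8 + u 3 * v 1 ^ 8) * hd'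
    + (p * r * u 0 * v 3 ^ 8 + q * s * u 1 * v 2 ^ 8 + s ^ 8 * q ^ 8 * u 2 * v 1 ^ 8
        + p ^ 8 * r ^ 8 * u 3 * v 0 ^ 8) * hs2

theorem PP_sq (hs2 : (2:F) = 0) {a b : F} (hab : a + b = 1) : PP a b * PP a b = 1 := by
  have h1 : a * a + b * b = 1 := by linear_combination (a + b + 1) * hab - a * b * hs2
  have h2 : a * b + b * a = 0 := by linear_combination a * b * hs2
  ext i j
  have h1' : b * b + a * a = 1 := by rw [add_comm]; exact h1
  have h2' : b * a + a * b = 0 := by rw [add_comm]; exact h2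
  fin_cases i <;> fin_cases j <;> simp [PP, Matrix.mul_apply, Fin.sum_univ_four, h1, h2, h1', h2']

/-- The conjugated Levi element. -/
def gmat (a b p q r s : F) : Matrix (Fin 4) (Fin 4) F := PP a b * lev p q r s * PP a b

theorem gmat_form [CharP F 2] (hs2 : (2:F) = 0) (hF : ∀ x : F, (x ^ 8) ^ 8 = x) {a b p q r s : F}
    (hab : a + b = 1) (ha : a^8 = b) (hb : b^8 = a) (hd : p * s + q * r = 1) (u v : Fin 4 → F) :
    Cfsg.hermForm 4 F 8 (gmat a b p q r s *ᵥ u) (gmat a b p q r s *ᵥ v) = Cfsg.hermForm 4 F 8 u v := by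
  have e : ∀ w : Fin 4 → F, gmat a b p q r s *ᵥ w = PP a b *ᵥ (lev p q r s *ᵥ (PP a b *ᵥ w)) := by
    intro w
    simp only [gmat, Matrix.mulVec_mulVec, Matrix.mul_assoc]
  rw [e, e, PP_form hs2 hab ha hb, lev_form hs2 hF hd, ← PP_form hs2 hab ha hb,
    Matrix.mulVec_mulVec, Matrix.mulVec_mulVec, PP_sq hs2 hab, Matrix.one_mulVec, Matrix.one_mulVec]

theorem lev_det (hs2 : (2:F) = 0) [CharP F 2] {p q r s : F} (hd : p * s + q * r = 1) :
    (lev p q r s).det = 1 := by
  have hd' : p ^ 8 * s ^ 8 + q ^ 8 * r ^ 8 = 1 := by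
    have := congrArg (· ^ 8) hd
    simpa [frob, mul_pow] using this
  have : (lev p q r s).det = (p * s + q * r) * (p ^ 8 * s ^ 8 + q ^ 8 * r ^ 8) := by
    simp [lev, Matrix.det_succ_row_zero, Fin.sum_univ_succ, Fin.succAbove, Matrix.submatrix]
    linear_combination (-(p * s * q ^ 8 * r ^ 8 + q * r * p ^ 8 * s ^ 8)) * hs2
  rw [this, hd, hd', one_mul]

theorem gmat_det (hs2 : (2:F) = 0) [CharP F 2] {a b p q r s : F} (hab : a + b = 1)
    (hd : p * s + q * r = 1) : (gmat a b p q r s).det = 1 := by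
  have : (PP a b).det * (PP a b).det = 1 := by
    rw [← Matrix.det_mul, PP_sq hs2 hab, Matrix.det_one]
  rw [gmat, Matrix.det_mul, Matrix.det_mul, lev_det hs2 hd, mul_one, this]

theorem lev_pow (c : F) (n : ℕ) :
    lev 0 1 1 c ^ (n + 1) =
      !![sq c n, sq c (n+1), 0, 0;
         sq c (n+1), sq c (n+2), 0, 0;
         0, 0, sq (c^8) (n+2), sq (c^8) (n+1);
         0, 0, sq (c^8) (n+1), sq (c^8) n] := by
  induction n with
  | zero =>
    ext i j; fin_cases i <;> fin_cases j <;> simp [lev, sq]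
  | succ n ih =>
    rw [pow_succ, ih]
    have e1 : sq c (n + 1 + 2) = c * sq c (n + 2) + sq c (n + 1) := rfl
    have e2 : sq c (n + 2) = c * sq c (n + 1) + sq c n := rfl
    have e3 : sq (c^8) (n + 1 + 2) = c^8 * sq (c^8) (n + 2) + sq (c^8) (n + 1) := rfl
    have e4 : sq (c^8) (n + 2) = c^8 * sq (c^8) (n + 1) + sq (c^8) n := rfl
    ext i j
    fin_cases i <;> fin_cases j <;>
      simp [lev, Matrix.mul_apply, Fin.sum_univ_four, e1, e2, e3, e4] <;> ring

theorem gmat_pow (hs2 : (2:F) = 0) {a b : F} (hab : a + b = 1) (p q r s : F) (n : ℕ) :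
    gmat a b p q r s ^ n = PP a b * lev p q r s ^ n * PP a b := by
  induction n with
  | zero => simp [PP_sq hs2 hab]
  | succ n ih =>
    rw [pow_succ, ih, pow_succ, gmat]
    calc _ = PP a b * lev p q r s ^ n * (PP a b * PP a b) * lev p q r s * PP a b := by
          simp only [Matrix.mul_assoc]
      _ = _ := by rw [PP_sq hs2 hab, Matrix.mul_one]; simp only [Matrix.mul_assoc]

theorem sq_zero_of_comm (hs2 : (2:F) = 0) {a b : F} (hab : a + b = 1) (c : F) (n : ℕ)
    (h : gmat a b 1 1 0 1 * gmat a b 0 1 1 c ^ (n + 1)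
      = gmat a b 0 1 1 c ^ (n + 1) * gmat a b 1 1 0 1) : sq c (n + 1) = 0 := by
  rw [gmat_pow hs2 hab] at h
  have h' : lev 1 1 0 1 * lev 0 1 1 c ^ (n + 1) = lev 0 1 1 c ^ (n + 1) * lev (1:F) 1 0 1 := by
    have h2 := congrArg (fun M => PP a b * M * PP a b) h
    have e : ∀ X Y : Matrix (Fin 4) (Fin 4) F,
        PP a b * ((PP a b * X * PP a b) * (PP a b * Y * PP a b)) * PP a b = X * Y := by
      intro X Y
      calc _ = (PP a b * PP a b) * X * (PP a b * PP a b) * Y * (PP a b * PP a b) := by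
            simp only [Matrix.mul_assoc]
        _ = _ := by rw [PP_sq hs2 hab]; simp
    simp only [gmat] at h2
    rwa [e, e] at h2
  rw [lev_pow] at h'
  have h3 := congrFun (congrFun h' 0) 0
  simp [lev, Matrix.mul_apply, Fin.sum_univ_four] at h3
  exact h3

set_option maxRecDepth 100000 in
theorem exists_root [Fintype F] (hs2 : (2:F) = 0) (h : Fintype.card F = 64) :
    ∃ c : F, c ^ 6 = c + 1 := by
  have hmon : (QQ F).Monic := by unfold QQ; monicity!
  have hdeg : (QQ F).natDegree < Fintype.card F := by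
    rw [h]
    have : (QQ F).natDegree ≤ 58 := by unfold QQ; compute_degree
    omega
  obtain ⟨x, hx⟩ := Polynomial.exists_eval_ne_zero_of_natDegree_lt_card (QQ F) hmon.ne_zero
    (by simpa using hdeg)
  have hp : x ^ 64 = x := by rw [← h]; exact FiniteField.pow_card x
  have h1 := QQ_eval hs2 x
  rw [hp] at h1
  have h2x : x + x = 0 := by linear_combination x * hs2
  rw [h2x] at h1
  rcases mul_eq_zero.mp h1 with h' | h'
  · exact ⟨x, by linear_combination h' - (x + 1) * hs2⟩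
  · exact absurd h' hx

end U

open U in
/-- `PSU₄(8)` has an element of order `65`. -/
theorem psu4 {F : Type*} [Field F] [Fintype F] (h : Fintype.card F = 64) :
    ∃ x : Cfsg.PSU 4 F 8, orderOf x = 65 := by
  classical
  have hs2 : (2:F) = 0 := by
    have h6 : (64:F) = 0 := by
      have := FiniteField.cast_card_eq_zero F
      rw [h] at this
      exact_mod_cast this
    have h7 : (2:F) ^ 6 = 0 := by rw [← h6]; norm_num
    exact pow_eq_zero_iff (by norm_num) |>.mp h7
  have : CharP F 2 := CharTwo.of_one_ne_zero_of_two_eq_zero one_ne_zero hs2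
  have h64 : ∀ x : F, x ^ 64 = x := by
    intro x; rw [← h]; exact FiniteField.pow_card x
  have hF : ∀ x : F, (x ^ 8) ^ 8 = x := by
    intro x; rw [← pow_mul]; exact h64 x
  obtain ⟨c, hc⟩ := exists_root hs2 h
  obtain ⟨a, ha⟩ := exists_omega hs2 c hc
  have hab : a + (a + 1) = 1 := by linear_combination a * hs2
  have ha2 : a ^ 2 = a + 1 := by linear_combination ha - (a + 1) * hs2
  have ha8 : a ^ 8 = a + 1 := by
    have e4 : a ^ 4 = a := by
      calc a ^ 4 = (a ^ 2) ^ 2 := by ring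
        _ = (a + 1) ^ 2 := by rw [ha2]
        _ = a ^ 2 + 2 * a + 1 := by ring
        _ = a := by rw [ha2]; linear_combination (a + 1) * hs2
    calc a ^ 8 = (a ^ 4) ^ 2 := by ring
      _ = a ^ 2 := by rw [e4]
      _ = a + 1 := ha2
  have hb8 : (a + 1) ^ 8 = a := by
    rw [frob, ha8, one_pow]; linear_combination hs2
  have hd : (c ^ 8) ^ 6 = c ^ 8 + 1 := by
    have h1 := congrArg (· ^ 8) hc
    simp only [frob, one_pow] at h1
    rw [← h1]; ring
  have hdet1 : (0:F) * c + 1 * 1 = 1 := by ring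
  have hdet2 : (1:F) * 1 + 1 * 0 = 1 := by ring
  have hdetg := gmat_det hs2 hab hdet1
  have hdett := gmat_det hs2 hab hdet2
  let g : Matrix.SpecialLinearGroup (Fin 4) F := ⟨gmat a (a + 1) 0 1 1 c, hdetg⟩
  let t : Matrix.SpecialLinearGroup (Fin 4) F := ⟨gmat a (a + 1) 1 1 0 1, hdett⟩
  have hg : g ∈ Cfsg.SU 4 F 8 := fun u v => gmat_form hs2 hF hab ha8 hb8 hdet1 u v
  have ht : t ∈ Cfsg.SU 4 F 8 := fun u v => gmat_form hs2 hF hab ha8 hb8 hdet2 u v
  let G : Cfsg.SU 4 F 8 := ⟨g, hg⟩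
  let T : Cfsg.SU 4 F 8 := ⟨t, ht⟩
  have coeG : ∀ n : ℕ, ((G ^ n : Cfsg.SU 4 F 8) : Matrix.SpecialLinearGroup (Fin 4) F).1
      = gmat a (a + 1) 0 1 1 c ^ n := by
    intro n
    exact Matrix.SpecialLinearGroup.coe_pow g n
  have hpow : G ^ 65 = 1 := by
    obtain ⟨-, -, h64c, h65c, h66c⟩ := chain hs2 c hc
    obtain ⟨-, -, h64d, h65d, h66d⟩ := chain hs2 (c ^ 8) hd
    apply Subtype.ext
    apply Subtype.ext
    rw [coeG, gmat_pow hs2 hab, lev_pow c 64]
    have : (!![sq c 64, sq c (64+1), 0, 0;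
         sq c (64+1), sq c (64+2), 0, 0;
         0, 0, sq (c^8) (64+2), sq (c^8) (64+1);
         0, 0, sq (c^8) (64+1), sq (c^8) 64] : Matrix (Fin 4) (Fin 4) F) = 1 := by
      simp only [h64c, h65c, h66c, h64d, h65d, h66d]
      ext i j
      fin_cases i <;> fin_cases j <;> simp
    rw [this, Matrix.mul_one, PP_sq hs2 hab]
    rfl
  have hnc : ∀ n : ℕ, sq c (n + 1) ≠ 0 → G ^ (n + 1) ∉ Subgroup.center (Cfsg.SU 4 F 8) := by
    intro n hn hmem
    apply hn
    have h1 := (Subgroup.mem_center_iff.mp hmem) T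
    have h2 := congrArg (fun z : Cfsg.SU 4 F 8 => (z : Matrix.SpecialLinearGroup (Fin 4) F).1) h1
    simp only [Subgroup.coe_mul, Matrix.SpecialLinearGroup.coe_mul] at h2
    rw [coeG] at h2
    exact sq_zero_of_comm hs2 hab c n h2
  refine ⟨QuotientGroup.mk G, ?_⟩
  apply orderOf_eq_of_pow_and_pow_div_prime (by norm_num)
  · rw [← QuotientGroup.mk_pow, hpow]; rfl
  · intro p hp hdvd
    have h5 : p = 5 ∨ p = 13 := by
      have h65 : p ∣ 5 * 13 := by simpa using hdvd
      rcases (Nat.Prime.dvd_mul hp).1 h65 with h' | h'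
      · exact Or.inl ((Nat.prime_dvd_prime_iff_eq hp (by norm_num)).1 h')
      · exact Or.inr ((Nat.prime_dvd_prime_iff_eq hp (by norm_num)).1 h')
    rw [← QuotientGroup.mk_pow]
    intro hx
    rw [QuotientGroup.eq_one_iff] at hx
    rcases h5 with rfl | rfl
    · exact hnc 12 (s13_ne hs2 c hc) hx
    · exact hnc 4 (s5_ne hs2 c hc) hx

end Cfsg.Agent.Lib.Ord65
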