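import Mathlib
import Cfsg.Agent.Lib.ClassFix

/-!
# No simple group of order 5040: the easy values of the number of Sylow 5-subgroups
-/

set_option autoImplicit false
set_option linter.unusedSectionVars false

namespace Cfsg.Agent.Lib.Order5040

open Subgroup Cfsg Cfsg.Agent.Lib.SmallGroups Cfsg.Agent.Lib.SmallGroups2 Cfsg.Agent.Lib.SmallGroups3
  Cfsg.Agent.Lib.SmallGroups4 Cfsg.Agent.Lib.Small168 Cfsg.Agent.Lib.Small168K Cfsg.Agent.Lib.TwoLocal
  Cfsg.Agent.Lib.TwoLocal2 Cfsg.Agent.Lib.TwoLocal3 Cfsg.Agent.Lib.ClassFix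

instance fact5 : Fact (Nat.Prime 5) := ⟨by norm_num⟩
instance fact7 : Fact (Nat.Prime 7) := ⟨by norm_num⟩

variable {G : Type*} [Group G] [Finite G]

/-- Normalizers normalize centralizers. -/
theorem normalizer_le_normalizer_centralizer (P : Subgroup G) :
    normalizer (P : Set G) ≤ normalizer ((centralizer (P : Set G) : Subgroup G) : Set G) := by
  intro x hx
  apply mem_normalizer_of_conj_le
  intro y hy
  rw [mem_centralizer_iff] at hy ⊢
  intro p hp
  have h1 : x⁻¹ * p * x ∈ P := by
    have := (mem_normalizer_iff.1 ((normalizer (P : Set G)).inv_mem hx) p).1 hp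
    simpa using this
  have h2 := hy _ h1
  calc p * (x * y * x⁻¹) = x * ((x⁻¹ * p * x) * y) * x⁻¹ := by group
    _ = x * (y * (x⁻¹ * p * x)) * x⁻¹ := by rw [h2]
    _ = x * y * x⁻¹ * p := by group

variable [IsSimpleGroup G] (h : Nat.card G = 5040)
include h

theorem nonab : ¬ IsMulCommutative G := not_isMulCommutative_of_not_prime (by rw [h]; norm_num)

theorem index_ge8 (H : Subgroup G) (hH : H ≠ ⊤) : 8 ≤ H.index := by
  refine index_ge (nonab h) H hH ?_
  intro i hi
  rw [h]
  interval_cases i <;> decide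

omit [Finite G] [IsSimpleGroup G] in
theorem hp25 : ¬ 5 ^ 2 ∣ Nat.card G := by rw [h]; norm_num

theorem card_Q (Q : Sylow 5 G) : Nat.card (Q : Subgroup G) = 5 := by
  have := sylow_card_of_card_eq (p := 5) (a := 1) (m := 1008) (by rw [h]; norm_num) (by norm_num) Q
  simpa using this

theorem n5_cases : Nat.card (Sylow 5 G) = 6 ∨ Nat.card (Sylow 5 G) = 16 ∨ Nat.card (Sylow 5 G) = 21 ∨
    Nat.card (Sylow 5 G) = 36 ∨ Nat.card (Sylow 5 G) = 56 ∨ Nat.card (Sylow 5 G) = 126 ∨
    Nat.card (Sylow 5 G) = 336 := by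
  have h1 := card_sylow_mem_filter (p := 5) (a := 1) (m := 1008) (by rw [h]; norm_num) (by norm_num)
  have h2 := card_sylow_ne_one (nonab h) (p := 5) ⟨1008, by rw [h]⟩
  have h3 : (Nat.divisors 1008).filter (fun d => d % 5 = 1 % 5) = {1, 6, 16, 21, 36, 56, 126, 336} := by
    decide +kernel
  rw [h3] at h1
  simp only [Finset.mem_insert, Finset.mem_singleton] at h1
  omega

omit [IsSimpleGroup G] in
theorem card_N (Q : Sylow 5 G) {n k : ℕ} (hn : Nat.card (Sylow 5 G) = n) (hk : n * k = 5040) :
    Nat.card (normalizer ((Q : Subgroup G) : Set G)) = k := by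
  have h1 := card_normalizer_mul_card_sylow Q
  rw [h, hn] at h1
  have hn0 : 0 < n := Nat.pos_of_ne_zero (by rintro rfl; omega)
  apply Nat.eq_of_mul_eq_mul_left hn0
  rw [hk, mul_comm, h1]

/-- The centralizer of `Q` has index `r`, `r ∣ 4`, `r ≠ 1`, in the normalizer. -/
theorem relIndex_C (Q : Sylow 5 G) :
    ∃ r : ℕ, (r = 2 ∨ r = 4) ∧ Nat.card (centralizer ((Q : Subgroup G) : Set G)) * r =
      Nat.card (normalizer ((Q : Subgroup G) : Set G)) := by
  have h1 := relIndex_dvd_of_prime_card Q (card_Q h Q)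
  have h2 : (centralizer ((Q : Subgroup G) : Set G)).relIndex (normalizer ((Q : Subgroup G) : Set G)) ≠ 1 := by
    intro e
    exact not_normalizer_le_centralizer (nonab h) ⟨1008, by rw [h]⟩ Q (Subgroup.relIndex_eq_one.1 e)
  refine ⟨_, ?_, card_mul_relIndex (centralizer_le_normalizer _)⟩
  have h3 : (centralizer ((Q : Subgroup G) : Set G)).relIndex (normalizer ((Q : Subgroup G) : Set G)) ∈
      Nat.divisors 4 := by
    rw [Nat.mem_divisors]
    exact ⟨h1, by norm_num⟩
  have h4 : Nat.divisors 4 = {1, 2, 4} := by decide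
  rw [h4] at h3
  simp only [Finset.mem_insert, Finset.mem_singleton] at h3
  omega

theorem case6 (hn : Nat.card (Sylow 5 G) = 6) : False := by
  have h1 := two_mul_card_dvd_factorial_card_sylow (nonab h) (p := 5) ⟨1008, by rw [h]⟩
  rw [h, hn] at h1
  exact absurd h1 (by decide)

theorem case16 (hn : Nat.card (Sylow 5 G) = 16) : False := by
  obtain ⟨Q⟩ : Nonempty (Sylow 5 G) := inferInstance
  obtain ⟨r, hr, hc⟩ := relIndex_C h Q
  rw [card_N h Q hn (k := 315) rfl] at hc
  rcases hr with rfl | rfl <;> omega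

theorem case336 (hn : Nat.card (Sylow 5 G) = 336) : False := by
  obtain ⟨Q⟩ : Nonempty (Sylow 5 G) := inferInstance
  obtain ⟨r, hr, hc⟩ := relIndex_C h Q
  rw [card_N h Q hn (k := 15) rfl] at hc
  rcases hr with rfl | rfl <;> omega

theorem case56 (hn : Nat.card (Sylow 5 G) = 56) : False := by
  obtain ⟨Q⟩ : Nonempty (Sylow 5 G) := inferInstance
  have hQ := card_Q h Q
  obtain ⟨r, hr, hc⟩ := relIndex_C h Q
  have hN := card_N h Q hn (k := 90) rfl
  rw [hN] at hc
  have hC : Nat.card (centralizer ((Q : Subgroup G) : Set G)) = 3 ^ 2 * 5 := by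
    rcases hr with rfl | rfl <;> omega
  have hu : Nat.card (Sylow 3 (centralizer ((Q : Subgroup G) : Set G))) = 1 := by
    have h1 := card_sylow_dvd (p := 3) hC (by norm_num)
    have h2 := card_sylow_mod (p := 3) (G := (centralizer ((Q : Subgroup G) : Set G)))
    have h3 : Nat.card (Sylow 3 (centralizer ((Q : Subgroup G) : Set G))) = 1 ∨
        Nat.card (Sylow 3 (centralizer ((Q : Subgroup G) : Set G))) = 5 :=
      (Nat.dvd_prime (by norm_num)).1 h1
    rcases h3 with h3 | h3
    · exact h3
    · rw [h3] at h2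
      norm_num at h2
  obtain ⟨A, hAC, hA⟩ := exists_subgroup_le_card (q := 3) (a := 2) (centralizer ((Q : Subgroup G) : Set G))
    (by rw [hC]; norm_num)
  have hNA : normalizer ((Q : Subgroup G) : Set G) ≤ normalizer (A : Set G) :=
    le_normalizer_of_unique_sylow hAC hA hC (by norm_num) hu (normalizer_le_normalizer_centralizer _)
  have hi := index_mod_of_normalizer_le (hp25 h) Q hQ (normalizer (A : Set G)) hNA
  have hM : Nat.card (normalizer (A : Set G)) * (normalizer (A : Set G)).index = 5040 := by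
    rw [Subgroup.card_mul_index, h]
  have hd : 90 ∣ Nat.card (normalizer (A : Set G)) := by
    rw [← hN]
    exact Subgroup.card_dvd_of_le hNA
  obtain ⟨m, hm⟩ := hd
  have hidx : (normalizer (A : Set G)).index ∣ 56 := by
    rw [hm] at hM
    have : m * (normalizer (A : Set G)).index = 56 := by nlinarith
    exact ⟨m, by rw [mul_comm]; exact this.symm⟩
  have hne : normalizer (A : Set G) ≠ ⊤ := by
    intro e
    rcases eq_bot_or_top_of_normalizer_eq_top A e with e' | e'
    · rw [e'] at hA
      simp at hA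
    · rw [e', Subgroup.card_top, h] at hA
      norm_num at hA
  have hge := index_ge8 h _ hne
  have hi56 : (normalizer (A : Set G)).index = 56 := by
    have h3 : (normalizer (A : Set G)).index ∈ Nat.divisors 56 := by
      rw [Nat.mem_divisors]
      exact ⟨hidx, by norm_num⟩
    have h4 : Nat.divisors 56 = {1, 2, 4, 7, 8, 14, 28, 56} := by decide +kernel
    rw [h4] at h3
    simp only [Finset.mem_insert, Finset.mem_singleton] at h3
    unfold Nat.ModEq at hi
    omega
  -- `A` is a Sylow 3-subgroup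
  obtain ⟨S, rfl⟩ := exists_sylow_eq (p := 3) (a := 2) (m := 560) (by rw [h]; norm_num) (by norm_num) A hA
  have hS : Nat.card (Sylow 3 G) = 56 := by
    rw [← hi56, Sylow.card_eq_index_normalizer S]
    rfl
  have h6 := card_sylow_mod (p := 3) (G := G)
  rw [hS] at h6
  norm_num at h6

end Cfsg.Agent.Lib.Order5040
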