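import Mathlib
import Cfsg.Agent.Lib.Order5040

/-!
# No simple group of order 5040: the case of 36 Sylow 5-subgroups
-/

set_option autoImplicit false
set_option linter.unusedSectionVars false

namespace Cfsg.Agent.Lib.Order5040

open Subgroup Cfsg Cfsg.Agent.Lib.SmallGroups Cfsg.Agent.Lib.SmallGroups2 Cfsg.Agent.Lib.SmallGroups3
  Cfsg.Agent.Lib.SmallGroups4 Cfsg.Agent.Lib.Small168 Cfsg.Agent.Lib.Small168K Cfsg.Agent.Lib.TwoLocal
  Cfsg.Agent.Lib.TwoLocal2 Cfsg.Agent.Lib.TwoLocal3 Cfsg.Agent.Lib.ClassFix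

variable {G : Type*} [Group G] [Finite G] [IsSimpleGroup G] (h : Nat.card G = 5040)
  (hn : Nat.card (Sylow 5 G) = 36)
include h

theorem card_P7 (P : Sylow 7 G) : Nat.card (P : Subgroup G) = 7 := by
  have := sylow_card_of_card_eq (p := 7) (a := 1) (m := 720) (by rw [h]; norm_num) (by norm_num) P
  simpa using this

theorem hp27 : ¬ 7 ^ 2 ∣ Nat.card G := by rw [h]; norm_num

include hn

theorem D_data (Q : Sylow 5 G) : ∃ P : Sylow 7 G,
    normalizer ((P : Subgroup G) : Set G) = normalizer ((Q : Subgroup G) : Set G) := by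
  have hQ := card_Q h Q
  have hN := card_N h Q hn (k := 140) rfl
  have hN7 : Nat.card (normalizer ((Q : Subgroup G) : Set G)) = 7 ^ 1 * 20 := by rw [hN]; norm_num
  have hu : Nat.card (Sylow 7 (normalizer ((Q : Subgroup G) : Set G))) = 1 := by
    have h1 := card_sylow_dvd (p := 7) hN7 (by norm_num)
    have h2 := card_sylow_mod (p := 7) (G := (normalizer ((Q : Subgroup G) : Set G)))
    have h3 : Nat.card (Sylow 7 (normalizer ((Q : Subgroup G) : Set G))) ∈ Nat.divisors 20 :=
      Nat.mem_divisors.2 ⟨h1, by norm_num⟩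
    have h4 : Nat.divisors 20 = {1, 2, 4, 5, 10, 20} := by decide +kernel
    rw [h4] at h3
    simp only [Finset.mem_insert, Finset.mem_singleton] at h3
    omega
  obtain ⟨A, hAN, hA⟩ := exists_subgroup_le_card (q := 7) (a := 1) (normalizer ((Q : Subgroup G) : Set G))
    (by rw [hN]; norm_num)
  have hNA : normalizer ((Q : Subgroup G) : Set G) ≤ normalizer (A : Set G) :=
    le_normalizer_of_unique_sylow hAN hA hN7 (by norm_num) hu le_normalizer
  obtain ⟨P, rfl⟩ := exists_sylow_eq (p := 7) (a := 1) (m := 720) (by rw [h]; norm_num) (by norm_num) A hA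
  refine ⟨P, ?_⟩
  have hi5 := index_mod_of_normalizer_le (hp25 h) Q hQ _ hNA
  have hi7 : (normalizer ((P : Subgroup G) : Set G)).index % 7 = 1 := by
    have h1 := card_sylow_mod (p := 7) (G := G)
    rw [Sylow.card_eq_index_normalizer P] at h1
    exact h1
  have hM : Nat.card (normalizer ((P : Subgroup G) : Set G)) * (normalizer ((P : Subgroup G) : Set G)).index = 5040 := by
    rw [Subgroup.card_mul_index, h]
  have hd : 140 ∣ Nat.card (normalizer ((P : Subgroup G) : Set G)) := by
    rw [← hN]
    exact Subgroup.card_dvd_of_le hNA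
  obtain ⟨m, hm⟩ := hd
  have hidx : (normalizer ((P : Subgroup G) : Set G)).index ∣ 36 := by
    rw [hm] at hM
    have : m * (normalizer ((P : Subgroup G) : Set G)).index = 36 := by nlinarith
    exact ⟨m, by rw [mul_comm]; exact this.symm⟩
  have hne : normalizer ((P : Subgroup G) : Set G) ≠ ⊤ := by
    intro e
    have hcP := card_P7 h P
    rcases eq_bot_or_top_of_normalizer_eq_top (P : Subgroup G) e with e' | e'
    · rw [e'] at hcP
      simp at hcP
    · rw [e', Subgroup.card_top, h] at hcP
      norm_num at hcP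
  have hge := index_ge8 h _ hne
  have hi36 : (normalizer ((P : Subgroup G) : Set G)).index = 36 := by
    have h3 : (normalizer ((P : Subgroup G) : Set G)).index ∈ Nat.divisors 36 :=
      Nat.mem_divisors.2 ⟨hidx, by norm_num⟩
    have h4 : Nat.divisors 36 = {1, 2, 3, 4, 6, 9, 12, 18, 36} := by decide +kernel
    rw [h4] at h3
    simp only [Finset.mem_insert, Finset.mem_singleton] at h3
    omega
  rw [hi36] at hM
  have hcM : Nat.card (normalizer ((P : Subgroup G) : Set G)) = 140 := by omega
  exact (Subgroup.eq_of_le_of_card_ge hNA (by rw [hcM, hN])).symm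

omit hn in
theorem P_le_C (Q : Sylow 5 G) (P : Sylow 7 G)
    (hPQ : normalizer ((P : Subgroup G) : Set G) = normalizer ((Q : Subgroup G) : Set G)) :
    (P : Subgroup G) ≤ centralizer ((Q : Subgroup G) : Set G) := by
  intro x hx
  apply mem_centralizer_of_coprime (by norm_num : Nat.Prime 5) _ (card_Q h Q)
  · rw [← hPQ]
    exact Subgroup.le_normalizer hx
  · have h1 : orderOf x ∣ 7 := by
      have := Subgroup.orderOf_dvd_natCard (P : Subgroup G) hx
      rwa [card_P7 h P] at this
    have h2 := (Nat.dvd_prime (by norm_num : Nat.Prime 7)).1 h1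
    rcases h2 with h2 | h2 <;> rw [h2] <;> norm_num

omit hn in
theorem Q_le_CP (Q : Sylow 5 G) (P : Sylow 7 G)
    (hPQ : normalizer ((P : Subgroup G) : Set G) = normalizer ((Q : Subgroup G) : Set G)) :
    (Q : Subgroup G) ≤ centralizer ((P : Subgroup G) : Set G) := by
  intro y hy
  rw [mem_centralizer_iff]
  intro x hx
  exact ((mem_centralizer_iff.1 (P_le_C h Q P hPQ hx)) y hy).symm

omit hn in
theorem card_CP (P : Sylow 7 G) (hN : Nat.card (normalizer ((P : Subgroup G) : Set G)) = 140) :
    Nat.card (centralizer ((P : Subgroup G) : Set G)) = 70 := by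
  have hP := card_P7 h P
  have h1 := relIndex_dvd_of_prime_card P hP
  have h2 : (centralizer ((P : Subgroup G) : Set G)).relIndex (normalizer ((P : Subgroup G) : Set G)) ≠ 1 := by
    intro e
    exact not_normalizer_le_centralizer (nonab h) ⟨720, by rw [h]⟩ P (Subgroup.relIndex_eq_one.1 e)
  have h3 : (centralizer ((P : Subgroup G) : Set G)).relIndex (normalizer ((P : Subgroup G) : Set G)) ∣ 140 := by
    rw [← hN]
    exact Subgroup.relIndex_dvd_card _ _
  have h4 := card_mul_relIndex (centralizer_le_normalizer ((P : Subgroup G) : Set G))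
  have h5 : (centralizer ((P : Subgroup G) : Set G)).relIndex (normalizer ((P : Subgroup G) : Set G)) ∈
      Nat.divisors 6 := Nat.mem_divisors.2 ⟨h1, by norm_num⟩
  have h6 : Nat.divisors 6 = {1, 2, 3, 6} := by decide +kernel
  rw [h6] at h5
  simp only [Finset.mem_insert, Finset.mem_singleton] at h5
  rcases h5 with h5 | h5 | h5 | h5
  · exact absurd h5 h2
  · rw [h5, hN] at h4
    omega
  · rw [h5] at h3
    norm_num at h3
  · rw [h5] at h3
    norm_num at h3

/-- The first subcase: `u` centralizes `Q`. -/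
theorem D_sub1 (Q : Sylow 5 G) (P : Sylow 7 G)
    (hPQ : normalizer ((P : Subgroup G) : Set G) = normalizer ((Q : Subgroup G) : Set G)) {u : G}
    (huP : u ∈ centralizer ((P : Subgroup G) : Set G)) (huQ : u ∈ centralizer ((Q : Subgroup G) : Set G))
    (ho : orderOf u = 2) : False := by
  have hQc := card_Q h Q
  have hPc := card_P7 h P
  have hN := card_N h Q hn (k := 140) rfl
  have hNP : Nat.card (normalizer ((P : Subgroup G) : Set G)) = 140 := by rw [hPQ, hN]
  have hCP := card_CP h P hNP
  have hPCQ := P_le_C h Q P hPQ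
  have hQCP := Q_le_CP h Q P hPQ
  have hQCQ : (Q : Subgroup G) ≤ centralizer ((Q : Subgroup G) : Set G) :=
    le_centralizer_of_card_prime (by norm_num) hQc
  have hPCP : (P : Subgroup G) ≤ centralizer ((P : Subgroup G) : Set G) :=
    le_centralizer_of_card_prime (by norm_num) hPc
  -- `C(P) ⊓ C(Q)` has order `70`
  have h70 : 70 ∣ Nat.card ↥(centralizer ((P : Subgroup G) : Set G) ⊓ centralizer ((Q : Subgroup G) : Set G)) := by
    have h7 : 7 ∣ Nat.card ↥(centralizer ((P : Subgroup G) : Set G) ⊓ centralizer ((Q : Subgroup G) : Set G)) := by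
      have h0 := Subgroup.card_dvd_of_le (le_inf hPCP hPCQ)
      rwa [hPc] at h0
    have h5 : 5 ∣ Nat.card ↥(centralizer ((P : Subgroup G) : Set G) ⊓ centralizer ((Q : Subgroup G) : Set G)) := by
      have h0 := Subgroup.card_dvd_of_le (le_inf hQCP hQCQ)
      rwa [hQc] at h0
    have h2 : 2 ∣ Nat.card ↥(centralizer ((P : Subgroup G) : Set G) ⊓ centralizer ((Q : Subgroup G) : Set G)) := by
      rw [← ho]
      exact Subgroup.orderOf_dvd_natCard _ ⟨huP, huQ⟩
    omega
  obtain ⟨r, hr, hc⟩ := relIndex_C h Q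
  rw [hN] at hc
  have hCQ70 : Nat.card (centralizer ((Q : Subgroup G) : Set G)) = 70 := by
    have h1 : Nat.card ↥(centralizer ((P : Subgroup G) : Set G) ⊓ centralizer ((Q : Subgroup G) : Set G)) ∣
        Nat.card (centralizer ((Q : Subgroup G) : Set G)) := Subgroup.card_dvd_of_le inf_le_right
    have h2 := h70.trans h1
    rcases hr with rfl | rfl <;> omega
  have hCeq : ∀ {a : G}, a ∈ centralizer ((Q : Subgroup G) : Set G) → a ∈ centralizer ((P : Subgroup G) : Set G) := by
    have h1 : centralizer ((P : Subgroup G) : Set G) ⊓ centralizer ((Q : Subgroup G) : Set G) =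
        centralizer ((Q : Subgroup G) : Set G) := by
      apply Subgroup.eq_of_le_of_card_ge inf_le_right
      rw [hCQ70]
      exact Nat.le_of_dvd (Nat.pos_of_ne_zero Nat.card_pos.ne') h70
    intro a ha
    rw [← h1] at ha
    exact ha.1
  -- the central cyclic subgroup of order 35
  obtain ⟨x₀, hx₀⟩ := exists_prime_orderOf_dvd_card' (G := (P : Subgroup G)) 7 (by rw [hPc])
  obtain ⟨y₀, hy₀⟩ := exists_prime_orderOf_dvd_card' (G := (Q : Subgroup G)) 5 (by rw [hQc])
  have hx₀' : orderOf (x₀ : G) = 7 := by rw [Subgroup.orderOf_coe]; exact hx₀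
  have hy₀' : orderOf (y₀ : G) = 5 := by rw [Subgroup.orderOf_coe]; exact hy₀
  have hcomm : Commute (x₀ : G) (y₀ : G) := (mem_centralizer_iff.1 (hPCQ x₀.2)) y₀ y₀.2 |>.symm
  set e : G := (x₀ : G) * y₀ with he
  have hoe : orderOf e = 35 := by
    rw [he, hcomm.orderOf_mul_eq_mul_orderOf_of_coprime (by rw [hx₀', hy₀']; norm_num), hx₀', hy₀']
  have heC : e ∈ centralizer ((Q : Subgroup G) : Set G) :=
    (centralizer ((Q : Subgroup G) : Set G)).mul_mem (hPCQ x₀.2) (hQCQ y₀.2)
  have hEle : zpowers e ≤ centralizer ((Q : Subgroup G) : Set G) := by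
    rw [Subgroup.zpowers_le]
    exact heC
  have hecent : ∀ a ∈ centralizer ((Q : Subgroup G) : Set G), a * e = e * a := by
    intro a ha
    have h1 : (y₀ : G) * a = a * y₀ := (mem_centralizer_iff.1 ha) y₀ y₀.2
    have h2 : (x₀ : G) * a = a * x₀ := (mem_centralizer_iff.1 (hCeq ha)) x₀ x₀.2
    rw [he, ← mul_assoc, ← h2, mul_assoc, mul_assoc, h1]
  have hidx2 : ((zpowers e).subgroupOf (centralizer ((Q : Subgroup G) : Set G))).index = 2 := by
    have h1 := card_mul_relIndex hEle
    rw [Nat.card_zpowers, hoe, hCQ70] at h1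
    have h2 : (zpowers e).relIndex (centralizer ((Q : Subgroup G) : Set G)) = 2 := by omega
    exact h2
  have hnotE : ∀ w : G, orderOf w = 2 → w ∉ zpowers e := by
    intro w hw hwE
    have h1 := Subgroup.orderOf_dvd_natCard (zpowers e) hwE
    rw [Nat.card_zpowers, hoe, hw] at h1
    norm_num at h1
  -- uniqueness of the involution
  have huniq : ∀ w ∈ centralizer ((Q : Subgroup G) : Set G), orderOf w = 2 → w = u := by
    intro w hw hw2
    let w' : centralizer ((Q : Subgroup G) : Set G) := ⟨w, hw⟩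
    let u' : centralizer ((Q : Subgroup G) : Set G) := ⟨u, huQ⟩
    have h1 := Subgroup.mul_mem_iff_of_index_two hidx2 (a := w') (b := u')
    have h2 : w' * u' ∈ (zpowers e).subgroupOf (centralizer ((Q : Subgroup G) : Set G)) := by
      rw [h1]
      constructor
      · intro hh
        exact absurd hh (by rw [mem_subgroupOf]; exact hnotE w hw2)
      · intro hh
        exact absurd hh (by rw [mem_subgroupOf]; exact hnotE u ho)
    rw [mem_subgroupOf] at h2
    have hb : w * u ∈ zpowers e := h2
    obtain ⟨k, hk⟩ := hb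
    have hbc : (w * u) * u = u * (w * u) := by
      rw [← hk]
      have h3 : Commute u e := hecent u huQ
      exact (h3.zpow_right k).eq.symm
    have hu2 : u ^ 2 = 1 := by rw [← ho]; exact pow_orderOf_eq_one u
    have hw22 : w ^ 2 = 1 := by rw [← hw2]; exact pow_orderOf_eq_one w
    have hbs : (w * u) ^ 2 = 1 := by
      have h4 : u * u = 1 := by rw [← hu2, sq]
      have h5 : w * w = 1 := by rw [← hw22, sq]
      -- `w u` commutes with `u`, hence `w` and `u` commute
      have h6 : w * u = u * w := by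
        have h7 : w * (u * u) = u * (w * u) := by rw [← mul_assoc]; exact hbc
        rw [h4, mul_one] at h7
        calc w * u = (u * (w * u)) * u := by rw [← h7]
          _ = u * w * (u * u) := by group
          _ = u * w := by rw [h4, mul_one]
      rw [sq]
      calc w * u * (w * u) = w * (u * w) * u := by group
        _ = w * (w * u) * u := by rw [h6]
        _ = (w * w) * (u * u) := by group
        _ = 1 := by rw [h4, h5, mul_one]
    have hord : orderOf (w * u) ∣ 2 := orderOf_dvd_of_pow_eq_one hbs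
    have hord2 : orderOf (w * u) ∣ 35 := by
      have h1 := Subgroup.orderOf_dvd_natCard (zpowers e) (show w * u ∈ zpowers e from ⟨k, hk⟩)
      rwa [Nat.card_zpowers, hoe] at h1
    have hone : orderOf (w * u) = 1 := Nat.eq_one_of_dvd_coprimes (by norm_num : Nat.Coprime 2 35) hord hord2
    have hone' : w * u = 1 := orderOf_eq_one_iff.1 hone
    have h4 : u * u = 1 := by rw [← hu2, sq]
    calc w = (w * u) * u := by rw [mul_assoc, h4, mul_one]
      _ = u := by rw [hone', one_mul]
  -- `u` is central in `N`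
  have hNC : normalizer ((Q : Subgroup G) : Set G) ≤ centralizer ({u} : Set G) := by
    intro n hn'
    rw [mem_centralizer_singleton_iff]
    have h1 : n * u * n⁻¹ ∈ centralizer ((Q : Subgroup G) : Set G) :=
      (mem_normalizer_iff.1 (normalizer_le_normalizer_centralizer _ hn') u).1 huQ
    have h2 : orderOf (n * u * n⁻¹) = 2 := by
      rw [← ho]
      exact (orderOf_eq_of_isConj (isConj_iff.2 ⟨n, rfl⟩)).symm
    have h3 := huniq _ h1 h2
    calc n * u = n * u * n⁻¹ * n := by group
      _ = u * n := by rw [h3]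
  have hu1 : u ≠ 1 := by
    rintro rfl
    rw [orderOf_one] at ho
    norm_num at ho
  have hne := centralizer_singleton_ne_top (nonab h) hu1
  have hge := index_ge8 h _ hne
  have hi5 := index_mod_of_normalizer_le (hp25 h) Q hQc _ hNC
  have hi7 := index_mod_of_normalizer_le (hp27 h) P hPc (centralizer ({u} : Set G)) (by rw [hPQ]; exact hNC)
  have hM : Nat.card (centralizer ({u} : Set G)) * (centralizer ({u} : Set G)).index = 5040 := by
    rw [Subgroup.card_mul_index, h]
  have hd : 140 ∣ Nat.card (centralizer ({u} : Set G)) := by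
    rw [← hN]
    exact Subgroup.card_dvd_of_le hNC
  obtain ⟨m, hm⟩ := hd
  have hidx : (centralizer ({u} : Set G)).index ∣ 36 := by
    rw [hm] at hM
    have : m * (centralizer ({u} : Set G)).index = 36 := by nlinarith
    exact ⟨m, by rw [mul_comm]; exact this.symm⟩
  have hi36 : (centralizer ({u} : Set G)).index = 36 := by
    have h3 : (centralizer ({u} : Set G)).index ∈ Nat.divisors 36 :=
      Nat.mem_divisors.2 ⟨hidx, by norm_num⟩
    have h4 : Nat.divisors 36 = {1, 2, 3, 4, 6, 9, 12, 18, 36} := by decide +kernel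
    rw [h4] at h3
    simp only [Finset.mem_insert, Finset.mem_singleton] at h3
    unfold Nat.ModEq at hi5 hi7
    omega
  have hcard : Nat.card (centralizer ({u} : Set G)) = 140 := by
    rw [hi36] at hM
    omega
  have hX : Nat.card (CC u) = 36 := by
    have h1 := card_CC_mul u
    rw [hcard, h] at h1
    omega
  have hmod4 := card_mod_four (nonab h) (z := u) (t := u) (by rw [← ho]; exact pow_orderOf_eq_one u)
  have hconj : ∀ w : G, IsConj u w → orderOf w = 2 := fun w hw => by
    rw [← ho]
    exact (orderOf_eq_of_isConj hw).symm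
  have hmod5 : Nat.card (MulAction.fixedBy (CC u) u) ≡ 1 [MOD 5] :=
    fix_modEq_of_unique (p := 5) (Q : Subgroup G) Q.isPGroup' huQ (IsConj.refl u)
      (fun w hw _ hg => huniq w (mem_centralizer_iff.2 hg) (hconj w hw))
  have hmod7 : Nat.card (MulAction.fixedBy (CC u) u) ≡ 1 [MOD 7] :=
    fix_modEq_of_unique (p := 7) (P : Subgroup G) P.isPGroup' huP (IsConj.refl u)
      (fun w hw _ hg => by
        have hwP : w ∈ centralizer ((P : Subgroup G) : Set G) := mem_centralizer_iff.2 hg
        -- `C(P)` and `C(Q)` have the same order, and `C(P) ⊓ C(Q)` is both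
        have h1 : centralizer ((P : Subgroup G) : Set G) ⊓ centralizer ((Q : Subgroup G) : Set G) =
            centralizer ((P : Subgroup G) : Set G) := by
          apply Subgroup.eq_of_le_of_card_ge inf_le_left
          rw [hCP]
          exact Nat.le_of_dvd (Nat.pos_of_ne_zero Nat.card_pos.ne') h70
        rw [← h1] at hwP
        exact huniq w hwP.2 (hconj w hw))
  have hle : Nat.card (MulAction.fixedBy (CC u) u) ≤ 36 := by
    rw [← hX]
    exact Nat.card_le_card_of_injective (fun x => x.1) Subtype.val_injective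
  have hneq := fix_ne_card (nonab h) hu1
  rw [hX] at hneq hmod4
  unfold Nat.ModEq at hmod4 hmod5 hmod7
  omega

/-- The second subcase: `u` does not centralize `Q`. -/
theorem D_sub2 (Q : Sylow 5 G) (P : Sylow 7 G)
    (hPQ : normalizer ((P : Subgroup G) : Set G) = normalizer ((Q : Subgroup G) : Set G)) {u : G}
    (huP : u ∈ centralizer ((P : Subgroup G) : Set G)) (huQ : u ∉ centralizer ((Q : Subgroup G) : Set G))
    (ho : orderOf u = 2) : False := by
  have hQc := card_Q h Q
  have hPc := card_P7 h P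
  have hN := card_N h Q hn (k := 140) rfl
  have hNP : Nat.card (normalizer ((P : Subgroup G) : Set G)) = 140 := by rw [hPQ, hN]
  have hCP := card_CP h P hNP
  have hPCQ := P_le_C h Q P hPQ
  have hQCP := Q_le_CP h Q P hPQ
  have hu1 : u ≠ 1 := by
    rintro rfl
    rw [orderOf_one] at ho
    norm_num at ho
  have huN : u ∈ normalizer ((Q : Subgroup G) : Set G) := by
    rw [← hPQ]
    exact centralizer_le_normalizer _ huP
  obtain ⟨R, hRN, hRc, huR⟩ := exists_card_le_mem (q := 2) (a := 2) (normalizer ((Q : Subgroup G) : Set G))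
    (by rw [hN]; norm_num) (by norm_num) huN ho
  have hRH : R ≤ centralizer ({u} : Set G) := le_centralizer_of_sq R hRc huR
  have hPH : (P : Subgroup G) ≤ centralizer ({u} : Set G) := by
    intro x hx
    rw [mem_centralizer_singleton_iff]
    exact (mem_centralizer_iff.1 huP) x hx
  obtain ⟨n', hn1, hn2, hn3, -, -, -⟩ := centralizer_data (nonab h) (p := 7) (hp27 h) (by rw [h]; norm_num) P hPc hu1 huP
  have hn7 : Nat.card (Sylow 7 G) = 36 := by
    rw [Sylow.card_eq_index_normalizer P]
    have h1 := Subgroup.card_mul_index (normalizer ((P : Subgroup G) : Set G))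
    rw [hNP, h] at h1
    have h2 : (normalizer ((P : Subgroup G) : Set G)).index = 36 := by omega
    exact h2
  rw [hn7] at hn2
  have hm : Nat.card ↥(centralizer ({u} : Set G) ⊓ normalizer ((P : Subgroup G) : Set G)) = 28 := by
    have h7 : 7 ∣ Nat.card ↥(centralizer ({u} : Set G) ⊓ normalizer ((P : Subgroup G) : Set G)) := by
      have h0 := Subgroup.card_dvd_of_le (le_inf hPH (le_normalizer (H := (P : Subgroup G))))
      rwa [hPc] at h0
    have h4 : 4 ∣ Nat.card ↥(centralizer ({u} : Set G) ⊓ normalizer ((P : Subgroup G) : Set G)) := by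
      have hRN' : R ≤ normalizer ((P : Subgroup G) : Set G) := by
        rw [hPQ]
        exact hRN
      have h0 := Subgroup.card_dvd_of_le (le_inf hRH hRN')
      rw [hRc] at h0
      exact h0
    have h140 : Nat.card ↥(centralizer ({u} : Set G) ⊓ normalizer ((P : Subgroup G) : Set G)) ∣ 140 := by
      have h0 : Nat.card ↥(centralizer ({u} : Set G) ⊓ normalizer ((P : Subgroup G) : Set G)) ∣ Nat.card
        (normalizer ((P : Subgroup G) : Set G)) := Subgroup.card_dvd_of_le inf_le_right
      rwa [hNP] at h0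
    have hne140 : Nat.card ↥(centralizer ({u} : Set G) ⊓ normalizer ((P : Subgroup G) : Set G)) ≠ 140 := by
      intro e
      have h1 : centralizer ({u} : Set G) ⊓ normalizer ((P : Subgroup G) : Set G) =
          normalizer ((P : Subgroup G) : Set G) :=
        Subgroup.eq_of_le_of_card_ge inf_le_right (by rw [e, hNP])
      apply huQ
      rw [mem_centralizer_iff]
      intro y hy
      have hyN : y ∈ normalizer ((P : Subgroup G) : Set G) := by
        rw [hPQ]
        exact Subgroup.le_normalizer hy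
      rw [← h1] at hyN
      exact mem_centralizer_singleton_iff.1 hyN.1
    obtain ⟨k, hk⟩ := h140
    obtain ⟨a, ha⟩ := h7
    obtain ⟨b, hb⟩ := h4
    have hk0 : k ≠ 0 := by
      rintro rfl
      omega
    have hk1 : k ≠ 1 := by
      rintro rfl
      omega
    -- `k ∣ 5` by arithmetic
    have hle : k ≤ 5 := by
      by_contra hgt
      push Not at hgt
      have h5 : 28 ∣ Nat.card ↥(centralizer ({u} : Set G) ⊓ normalizer ((P : Subgroup G) : Set G)) := by omega
      obtain ⟨c, hc⟩ := h5
      have hc0 : 0 < c := by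
        rcases Nat.eq_zero_or_pos c with rfl | hc0
        · rw [hc] at hk
          omega
        · exact hc0
      rw [hc] at hk
      nlinarith
    have h5 : 28 ∣ Nat.card ↥(centralizer ({u} : Set G) ⊓ normalizer ((P : Subgroup G) : Set G)) := by omega
    interval_cases k <;> omega
  rw [hm] at hn3
  have hnot8 : ¬ 8 ∣ Nat.card (centralizer ({u} : Set G)) := by
    have hd : Nat.card (centralizer ({u} : Set G)) ∣ 5040 := by
      rw [← h]
      exact Subgroup.card_subgroup_dvd_card _
    rw [hn3] at hd ⊢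
    interval_cases n' <;> omega
  by_cases hcyc : ∃ r ∈ R, orderOf r = 4
  · obtain ⟨r, hrR, hro⟩ := hcyc
    have hzr : zpowers r = R :=
      Subgroup.eq_of_le_of_card_ge ((zpowers_le).2 hrR) (by rw [Nat.card_zpowers, hro, hRc]; norm_num)
    have hRp : IsPGroup 2 R := IsPGroup.of_card hRc
    obtain ⟨S, hRS⟩ := hRp.exists_le_sylow
    have hSc : Nat.card (S : Subgroup G) = 16 := by
      have := sylow_card_of_card_eq (p := 2) (a := 4) (m := 315) (by rw [h]; norm_num) (by norm_num) S
      simpa using this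
    have hlt : R < (S : Subgroup G) := by
      refine lt_of_le_of_ne hRS ?_
      intro e
      rw [e, hSc] at hRc
      norm_num at hRc
    obtain ⟨g, hgS, hgR, hgN⟩ := exists_mem_normalizer_of_lt (q := 2) S.isPGroup' hlt
    have hgu : g * u * g⁻¹ = u := by
      have h1 : g * u * g⁻¹ ∈ R := (mem_normalizer_iff.1 hgN u).1 huR
      have hu2 : u ^ 2 = 1 := by rw [← ho]; exact pow_orderOf_eq_one u
      have h2 : u = r ^ 2 := eq_sq_of_mem_zpowers_of_order4 hro (by rw [hzr]; exact huR) hu2 hu1
      have h3 : g * u * g⁻¹ = r ^ 2 := by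
        apply eq_sq_of_mem_zpowers_of_order4 hro (by rw [hzr]; exact h1)
        · have : (g * u * g⁻¹) ^ 2 = g * u ^ 2 * g⁻¹ := by
            rw [sq, sq]
            group
          rw [this, hu2]
          group
        · intro e
          apply hu1
          have : u = g⁻¹ * (g * u * g⁻¹) * g := by group
          rw [this, e]
          group
      rw [h3, ← h2]
    have hgC : g ∈ centralizer ({u} : Set G) := by
      rw [mem_centralizer_singleton_iff]
      calc g * u = g * u * g⁻¹ * g := by group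
        _ = u * g := by rw [hgu]
    have hK1 : R ≤ centralizer ({u} : Set G) ⊓ (S : Subgroup G) := le_inf hRH hRS
    have hK2 : Nat.card ↥(centralizer ({u} : Set G) ⊓ (S : Subgroup G)) ∣ 16 := by
      have h0 : Nat.card ↥(centralizer ({u} : Set G) ⊓ (S : Subgroup G)) ∣ Nat.card (S : Subgroup G) :=
        Subgroup.card_dvd_of_le inf_le_right
      rwa [hSc] at h0
    have hK3 : 4 ∣ Nat.card ↥(centralizer ({u} : Set G) ⊓ (S : Subgroup G)) := by
      have h0 := Subgroup.card_dvd_of_le hK1
      rw [hRc] at h0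
      exact h0
    have hK4 : Nat.card ↥(centralizer ({u} : Set G) ⊓ (S : Subgroup G)) ≠ 4 := by
      intro e
      have h1 : R = centralizer ({u} : Set G) ⊓ (S : Subgroup G) :=
        Subgroup.eq_of_le_of_card_ge hK1 (by rw [e, hRc]; norm_num)
      apply hgR
      rw [h1]
      exact ⟨hgC, hgS⟩
    have hK5 : 8 ∣ Nat.card ↥(centralizer ({u} : Set G) ⊓ (S : Subgroup G)) := by
      have h3 : Nat.card ↥(centralizer ({u} : Set G) ⊓ (S : Subgroup G)) ∈ Nat.divisors 16 :=
        Nat.mem_divisors.2 ⟨hK2, by norm_num⟩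
      have h4 : Nat.divisors 16 = {1, 2, 4, 8, 16} := by decide +kernel
      rw [h4] at h3
      simp only [Finset.mem_insert, Finset.mem_singleton] at h3
      omega
    exact hnot8 (hK5.trans (Subgroup.card_dvd_of_le inf_le_left))
  · push Not at hcyc
    have hR2 : ∀ r ∈ R, r ^ 2 = 1 := by
      intro r hr
      have h1 := Subgroup.orderOf_dvd_natCard R hr
      rw [hRc] at h1
      have h3 : orderOf r ∈ Nat.divisors (2 ^ 2) := Nat.mem_divisors.2 ⟨h1, by norm_num⟩
      have h4 : Nat.divisors (2 ^ 2) = {1, 2, 4} := by decide +kernel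
      rw [h4] at h3
      simp only [Finset.mem_insert, Finset.mem_singleton] at h3
      rcases h3 with h3 | h3 | h3
      · rw [orderOf_eq_one_iff.1 h3, one_pow]
      · rw [← h3]
        exact pow_orderOf_eq_one r
      · exact absurd h3 (hcyc r hr)
    obtain ⟨a, haR, haP⟩ : ∃ a ∈ R, a ∉ centralizer ((P : Subgroup G) : Set G) := by
      by_contra hcon
      push Not at hcon
      have h0 := Subgroup.card_dvd_of_le (show R ≤ centralizer ((P : Subgroup G) : Set G) from hcon)
      rw [hRc, hCP] at h0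
      norm_num at h0
    obtain ⟨b, hbR, hbP, hbQ⟩ : ∃ b ∈ R, b ∉ centralizer ((P : Subgroup G) : Set G) ∧
        b ∉ centralizer ((Q : Subgroup G) : Set G) := by
      by_cases haQ : a ∈ centralizer ((Q : Subgroup G) : Set G)
      · refine ⟨u * a, R.mul_mem huR haR, ?_, ?_⟩
        · intro hh
          apply haP
          have : a = u⁻¹ * (u * a) := by group
          rw [this]
          exact Subgroup.mul_mem _ (Subgroup.inv_mem _ huP) hh
        · intro hh
          apply huQ
          have : u = (u * a) * a⁻¹ := by group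
          rw [this]
          exact Subgroup.mul_mem _ hh (Subgroup.inv_mem _ haQ)
      · exact ⟨a, haR, haP, haQ⟩
    have hb2 := hR2 b hbR
    have hmod := card_modEq_fixedBy_four (nonab h) (X := Sylow 5 G) b hb2
    rw [hn] at hmod
    have hbN : b ∈ normalizer ((Q : Subgroup G) : Set G) := hRN hbR
    have hbNP : b ∈ normalizer ((P : Subgroup G) : Set G) := by rw [hPQ]; exact hbN
    have hQF : b • Q = Q := smul_eq_iff'.2 hbN
    have hF3 : 3 ≤ Nat.card (MulAction.fixedBy (Sylow 5 G) b) := by
      have hpos : 0 < Nat.card (MulAction.fixedBy (Sylow 5 G) b) := by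
        have : Nonempty (MulAction.fixedBy (Sylow 5 G) b) := ⟨⟨Q, hQF⟩⟩
        exact Nat.card_pos
      unfold Nat.ModEq at hmod
      omega
    obtain ⟨Q₀, hQ₀, Q₁, hQ₁, h0, h1, h01⟩ := exists_two_others _ hF3 Q
    have hQ₀' : b • Q₀ = Q₀ := hQ₀
    have hQ₁' : b • Q₁ = Q₁ := hQ₁
    have hpow5 : ∀ y ∈ (Q : Subgroup G), y ^ 5 = 1 := by
      intro y hy
      have := pow_card_eq_one' (x := (⟨y, hy⟩ : (Q : Subgroup G)))
      rw [hQc] at this
      exact congrArg Subtype.val this
    have hpow7 : ∀ x ∈ (P : Subgroup G), x ^ 7 = 1 := by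
      intro x hx
      have := pow_card_eq_one' (x := (⟨x, hx⟩ : (P : Subgroup G)))
      rw [hPc] at this
      exact congrArg Subtype.val this
    have hcommPQ : ∀ x ∈ (P : Subgroup G), ∀ y ∈ (Q : Subgroup G), x * y = y * x := by
      intro x hx y hy
      exact ((mem_centralizer_iff.1 (hPCQ hx)) y hy).symm
    have hinjlem : ∀ x₁ ∈ (P : Subgroup G), ∀ y₁ ∈ (Q : Subgroup G), (x₁ * y₁) • Q₀ = Q₀ → x₁ = 1 ∧ y₁ = 1 := by
      intro x₁ hx₁ y₁ hy₁ hfix
      have hcN : x₁ * y₁ ∈ normalizer ((Q₀ : Subgroup G) : Set G) := smul_eq_iff'.1 hfix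
      have hy1 : y₁ = 1 := by
        by_contra hne
        have hc7 : (x₁ * y₁) ^ 7 = y₁ ^ 7 := by
          have hcm : Commute x₁ y₁ := hcommPQ x₁ hx₁ y₁ hy₁
          rw [hcm.mul_pow, hpow7 x₁ hx₁, one_mul]
        have ht : y₁ ^ 7 ∈ normalizer ((Q₀ : Subgroup G) : Set G) := by
          rw [← hc7]
          exact Subgroup.pow_mem _ hcN 7
        have htQ : y₁ ^ 7 ∈ (Q : Subgroup G) := Subgroup.pow_mem _ hy₁ 7
        have ht1 : y₁ ^ 7 ≠ 1 := by
          intro e
          have h5 := hpow5 y₁ hy₁
          have h2 : y₁ ^ 2 = 1 := by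
            have : y₁ ^ 7 = y₁ ^ 5 * y₁ ^ 2 := by rw [← pow_add]
            rw [this, h5, one_mul] at e
            exact e
          have h1' : orderOf y₁ = 1 := Nat.eq_one_of_dvd_coprimes (by norm_num : Nat.Coprime 5 2)
            (orderOf_dvd_of_pow_eq_one h5) (orderOf_dvd_of_pow_eq_one h2)
          exact hne (orderOf_eq_one_iff.1 h1')
        have hoo := orderOf_eq_of_mem_of_ne_one (by norm_num : Nat.Prime 5) hQc htQ ht1
        have hm := mem_of_orderOf_of_mem_normalizer Q₀ hoo ht
        exact h0 (sylow_eq_of_mem_of_ne_one (card_Q h Q₀) hQc hm htQ ht1)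
      refine ⟨?_, hy1⟩
      by_contra hne
      rw [hy1, mul_one] at hcN
      obtain ⟨P₀, hP₀⟩ := D_data h hn Q₀
      have hoo := orderOf_eq_of_mem_of_ne_one (by norm_num : Nat.Prime 7) hPc hx₁ hne
      have hm := mem_of_orderOf_of_mem_normalizer P₀ hoo (by rw [hP₀]; exact hcN)
      have hPP : P = P₀ := sylow_eq_of_mem_of_ne_one hPc (card_P7 h P₀) hx₁ hm hne
      have hNN : normalizer ((Q : Subgroup G) : Set G) = normalizer ((Q₀ : Subgroup G) : Set G) := by
        rw [← hPQ, ← hP₀, hPP]
      have hle : (Q₀ : Subgroup G) ≤ normalizer ((Q : Subgroup G) : Set G) := by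
        rw [hNN]
        exact le_normalizer
      exact h0 (sylow_eq_of_le_normalizer hle)
    have hval : ∀ (a : ↥(P : Subgroup G) × ↥(Q : Subgroup G)), ((a.1 : G) * a.2) • Q₀ ≠ Q := by
      intro a e
      apply h0
      have hm : (a.1 : G) * a.2 ∈ normalizer ((Q : Subgroup G) : Set G) := by
        refine Subgroup.mul_mem _ ?_ (Subgroup.le_normalizer a.2.2)
        rw [← hPQ]
        exact Subgroup.le_normalizer a.1.2
      have h2 : ((a.1 : G) * a.2) • Q = Q := smul_eq_iff'.2 hm
      have h3 : ((a.1 : G) * a.2) • Q₀ = ((a.1 : G) * a.2) • Q := by rw [e, h2]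
      exact smul_left_cancel _ h3
    let Φ : ↥(P : Subgroup G) × ↥(Q : Subgroup G) → {r : Sylow 5 G // r ≠ Q} :=
      fun a => ⟨((a.1 : G) * a.2) • Q₀, hval a⟩
    have hΦ : ∀ {x x' y y' : G}, x ∈ (P : Subgroup G) → x' ∈ (P : Subgroup G) → y ∈ (Q : Subgroup G) →
        y' ∈ (Q : Subgroup G) → (x * y) • Q₀ = (x' * y') • Q₀ → x = x' ∧ y = y' := by
      intro x x' y y' hx hx' hy hy' hxy
      have h2 : ((x'⁻¹ * x) * (y'⁻¹ * y)) • Q₀ = Q₀ := by
        have h3 : (x'⁻¹ * x) * (y'⁻¹ * y) = (x' * y')⁻¹ * (x * y) := by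
          have h4 := hcommPQ x' hx' y' hy'
          have h5 := hcommPQ x hx y' hy'
          rw [h4]
          calc (x'⁻¹ * x) * (y'⁻¹ * y) = x'⁻¹ * (x * y'⁻¹) * y := by group
            _ = x'⁻¹ * (y'⁻¹ * (y' * x) * y'⁻¹) * y := by group
            _ = x'⁻¹ * (y'⁻¹ * (x * y') * y'⁻¹) * y := by rw [h5]
            _ = (y' * x')⁻¹ * (x * y) := by group
        rw [h3, mul_smul, hxy, inv_smul_smul]
      obtain ⟨h6, h7⟩ := hinjlem _ (Subgroup.mul_mem _ (Subgroup.inv_mem _ hx') hx) _
        (Subgroup.mul_mem _ (Subgroup.inv_mem _ hy') hy) h2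
      exact ⟨(inv_mul_eq_one.1 h6).symm, (inv_mul_eq_one.1 h7).symm⟩
    have hinj : Function.Injective Φ := by
      rintro ⟨x, y⟩ ⟨x', y'⟩ e
      have h2 : ((x : G) * y) • Q₀ = ((x' : G) * y') • Q₀ := congrArg Subtype.val e
      obtain ⟨h6, h7⟩ := hΦ x.2 x'.2 y.2 y'.2 h2
      exact Prod.ext (Subtype.ext h6) (Subtype.ext h7)
    have hbij : Function.Bijective Φ := hinj.bijective_of_nat_card_le (by
      rw [Nat.card_prod, hPc, hQc]
      have h2 := card_subtype_ne Q
      rw [hn] at h2
      omega)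
    obtain ⟨⟨x, y⟩, hxy⟩ := hbij.2 ⟨Q₁, h1⟩
    have hxy' : ((x : G) * y) • Q₀ = Q₁ := congrArg Subtype.val hxy
    have hx' : b * x * b⁻¹ ∈ (P : Subgroup G) := (mem_normalizer_iff.1 hbNP x).1 x.2
    have hy' : b * y * b⁻¹ ∈ (Q : Subgroup G) := (mem_normalizer_iff.1 hbN y).1 y.2
    have h2 : ((b * x * b⁻¹) * (b * y * b⁻¹)) • Q₀ = ((x : G) * y) • Q₀ := by
      have h3 : (b * x * b⁻¹) * (b * y * b⁻¹) = b * ((x : G) * y) * b⁻¹ := by group
      have h4 : b⁻¹ • Q₀ = Q₀ := by
        conv_lhs => rw [← hQ₀']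
        exact inv_smul_smul b Q₀
      rw [h3, mul_smul, mul_smul, h4, hxy', hQ₁']
    obtain ⟨h6, h7⟩ := hΦ hx' x.2 hy' y.2 h2
    have hy1 : b * (y : G) = y * b := by
      calc b * (y : G) = b * y * b⁻¹ * b := by group
        _ = y * b := by rw [h7]
    have hxb : b * (x : G) = x * b := by
      calc b * (x : G) = b * x * b⁻¹ * b := by group
        _ = x * b := by rw [h6]
    by_cases hxne : (x : G) = 1
    · by_cases hyne : (y : G) = 1
      · apply h01
        rw [← hxy', hxne, hyne, mul_one, one_smul]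
      · exact hbQ (mem_centralizer_of_commute_of_prime (by norm_num) hQc y.2 hyne hy1)
    · exact hbP (mem_centralizer_of_commute_of_prime (by norm_num) hPc x.2 hxne hxb)

theorem case36 : False := by
  obtain ⟨Q⟩ : Nonempty (Sylow 5 G) := inferInstance
  obtain ⟨P, hPQ⟩ := D_data h hn Q
  have hN := card_N h Q hn (k := 140) rfl
  have hNP : Nat.card (normalizer ((P : Subgroup G) : Set G)) = 140 := by rw [hPQ, hN]
  have hCP := card_CP h P hNP
  obtain ⟨u, hu⟩ := exists_prime_orderOf_dvd_card' (G := ↥(centralizer ((P : Subgroup G) : Set G))) 2 (by rw [hCP]; norm_num)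
  have ho : orderOf (u : G) = 2 := by rw [Subgroup.orderOf_coe]; exact hu
  by_cases huQ : (u : G) ∈ centralizer ((Q : Subgroup G) : Set G)
  · exact D_sub1 h hn Q P hPQ u.2 huQ ho
  · exact D_sub2 h hn Q P hPQ u.2 huQ ho

end Cfsg.Agent.Lib.Order5040
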