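import Mathlib
import Cfsg.Agent.Lib.Order5040

/-!
# No simple group of order 5040: the case of 21 Sylow 5-subgroups
-/

set_option autoImplicit false
set_option linter.unusedSectionVars false

namespace Cfsg.Agent.Lib.Order5040

open Subgroup Cfsg Cfsg.Agent.Lib.SmallGroups Cfsg.Agent.Lib.SmallGroups2 Cfsg.Agent.Lib.SmallGroups3
  Cfsg.Agent.Lib.SmallGroups4 Cfsg.Agent.Lib.Small168 Cfsg.Agent.Lib.Small168K Cfsg.Agent.Lib.TwoLocal
  Cfsg.Agent.Lib.TwoLocal2 Cfsg.Agent.Lib.TwoLocal3 Cfsg.Agent.Lib.ClassFix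

variable {G : Type*} [Group G] [Finite G] [IsSimpleGroup G] (h : Nat.card G = 5040)
  (hn : Nat.card (Sylow 5 G) = 21)
include h hn

theorem E1 (p : Sylow 5 G) {t : G} (htC : t ∈ centralizer ((p : Subgroup G) : Set G)) (ho : orderOf t = 2)
    {q : Sylow 5 G} (hq : t • q = q) : q = p := by
  have ht2 : t ^ 2 = 1 := by rw [← ho]; exact pow_orderOf_eq_one t
  have h1 := card_modEq_fixedBy_four (nonab h) (X := Sylow 5 G) t ht2
  have h2 := card_fixedBy_modEq_one p htC
  have h3 : Nat.card (MulAction.fixedBy (Sylow 5 G) t) ≤ 21 := by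
    rw [← hn]
    exact Nat.card_le_card_of_injective (fun x => x.1) Subtype.val_injective
  unfold Nat.ModEq at h1 h2
  rw [hn] at h1
  have h4 : Nat.card (MulAction.fixedBy (Sylow 5 G) t) = 1 ∨ Nat.card (MulAction.fixedBy (Sylow 5 G) t) = 21 := by
    omega
  rcases h4 with h4 | h4
  · rw [Nat.card_eq_one_iff_unique] at h4
    have hp' : t • p = p := smul_eq_iff'.2 (centralizer_le_normalizer _ htC)
    have h5 : (⟨q, hq⟩ : MulAction.fixedBy (Sylow 5 G) t) = ⟨p, hp'⟩ := h4.1.elim _ _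
    exact congrArg Subtype.val h5
  · exfalso
    have h5 : t = 1 := eq_one_of_forall_smul_sylow (nonab h) (p := 5) ⟨1008, by rw [h]⟩
      (fun Q => forall_of_card_fixedBy (by rw [h4, hn]) Q)
    rw [h5, orderOf_one] at ho
    norm_num at ho

theorem E2a (p q : Sylow 5 G) (hne : q ≠ p) :
    Nat.card ↥(centralizer ((p : Subgroup G) : Set G) ⊓ normalizer ((q : Subgroup G) : Set G)) ∣ 3 := by
  set C := centralizer ((p : Subgroup G) : Set G) with hCdef
  set D := C ⊓ normalizer ((q : Subgroup G) : Set G) with hD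
  have h2 : ¬ 2 ∣ Nat.card D := by
    intro hd
    have : Fact (Nat.Prime 2) := ⟨Nat.prime_two⟩
    obtain ⟨t, ht⟩ := exists_prime_orderOf_dvd_card' 2 hd
    have ht' : orderOf (t : G) = 2 := by rw [Subgroup.orderOf_coe]; exact ht
    exact hne (E1 h hn p t.2.1 ht' (smul_eq_iff'.2 t.2.2))
  have h5 : ¬ 5 ∣ Nat.card D := by
    intro hd
    obtain ⟨t, ht⟩ := exists_prime_orderOf_dvd_card' 5 hd
    have ht' : orderOf (t : G) = 5 := by rw [Subgroup.orderOf_coe]; exact ht
    have h6 : (t : G) ∈ (p : Subgroup G) :=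
      mem_of_orderOf_of_mem_normalizer p ht' (centralizer_le_normalizer _ t.2.1)
    have h7 : (t : G) ∈ (q : Subgroup G) := mem_of_orderOf_of_mem_normalizer q ht' t.2.2
    have h8 : (t : G) ≠ 1 := by
      intro e
      rw [e, orderOf_one] at ht'
      norm_num at ht'
    exact hne (sylow_eq_of_mem_of_ne_one (card_Q h q) (card_Q h p) h7 h6 h8)
  obtain ⟨r, -, hc⟩ := relIndex_C h p
  rw [card_N h p hn (k := 240) rfl] at hc
  have h9 : Nat.card D ∣ 240 := by
    have h10 : Nat.card D ∣ Nat.card C := Subgroup.card_dvd_of_le inf_le_left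
    exact h10.trans ⟨r, hc.symm⟩
  have h11 : (Nat.card D).Coprime (2 ^ 4 * 5) := by
    apply Nat.Coprime.mul_right
    · exact Nat.Coprime.pow_right _ ((Nat.Prime.coprime_iff_not_dvd Nat.prime_two).2 h2).symm
    · exact ((Nat.Prime.coprime_iff_not_dvd (by norm_num : Nat.Prime 5)).2 h5).symm
  exact h11.dvd_of_dvd_mul_left (by simpa using h9)

theorem E2 (p q : Sylow 5 G) (hne : q ≠ p) :
    Nat.card ↥(centralizer ((p : Subgroup G) : Set G) ⊓ normalizer ((q : Subgroup G) : Set G)) = 3 := by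
  have h1 := E2a h hn p q hne
  set C := centralizer ((p : Subgroup G) : Set G) with hCdef
  set D := C ⊓ normalizer ((q : Subgroup G) : Set G) with hD
  have hr := relIndex_normalizer_add_one_le C p q (centralizer_le_normalizer _) hne
  rw [hn] at hr
  have h2 : Nat.card D * D.relIndex C = Nat.card C := card_mul_relIndex inf_le_left
  rw [hD, Subgroup.inf_relIndex_left, ← hD] at h2
  obtain ⟨r, hr2, hc⟩ := relIndex_C h p
  rw [card_N h p hn (k := 240) rfl] at hc
  have hc' : Nat.card C * r = 240 := hc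
  have h3 : Nat.card D = 1 ∨ Nat.card D = 3 := (Nat.dvd_prime (by norm_num)).1 h1
  rcases h3 with h3 | h3
  · rw [h3] at h2
    rcases hr2 with rfl | rfl <;> omega
  · exact h3

theorem E3 (q q' : Sylow 5 G) (hne : q' ≠ q) {τ : G} (ho : orderOf τ = 3) (h1 : τ • q = q) (h2 : τ • q' = q') :
    τ ∈ centralizer ((q : Subgroup G) : Set G) ⊓ normalizer ((q' : Subgroup G) : Set G) := by
  refine ⟨?_, smul_eq_iff'.1 h2⟩
  apply mem_centralizer_of_coprime (by norm_num : Nat.Prime 5) _ (card_Q h q) (smul_eq_iff'.1 h1)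
  rw [ho]
  norm_num

theorem E4 (p : Sylow 5 G) {τ : G} (ht : τ ∈ centralizer ((p : Subgroup G) : Set G)) (ho : orderOf τ = 3) :
    Nat.card (MulAction.fixedBy (Sylow 5 G) τ) = 6 := by
  have h1 := card_fixedBy_modEq_one p ht
  have h2 := card_fixedBy_modEq_prime (X := Sylow 5 G) (q := 3) ho
  have h3 : Nat.card (MulAction.fixedBy (Sylow 5 G) τ) ≤ 21 := by
    rw [← hn]
    exact Nat.card_le_card_of_injective (fun x => x.1) Subtype.val_injective
  have h4 : Nat.card (MulAction.fixedBy (Sylow 5 G) τ) ≠ 21 := by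
    intro e
    have h5 : τ = 1 := eq_one_of_forall_smul_sylow (nonab h) (p := 5) ⟨1008, by rw [h]⟩
      (fun Q => forall_of_card_fixedBy (by rw [e, hn]) Q)
    rw [h5, orderOf_one] at ho
    norm_num at ho
  unfold Nat.ModEq at h1 h2
  rw [hn] at h2
  omega

theorem case21 : False := by
  have h1lt : 1 < Nat.card (Sylow 5 G) := by rw [hn]; norm_num
  have hnt : Nontrivial (Sylow 5 G) := (Finite.one_lt_card_iff_nontrivial).1 h1lt
  obtain ⟨p₀, q₀, hpq⟩ := exists_pair_ne (Sylow 5 G)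
  -- an element of order three in `C_{p₀} ∩ N_{q₀}`
  have hex : ∀ p q : Sylow 5 G, q ≠ p → ∃ σ : G, orderOf σ = 3 ∧ σ ∈ centralizer ((p : Subgroup G) : Set G) ∧
      σ • q = q := by
    intro p q hne
    obtain ⟨t, ht⟩ := exists_prime_orderOf_dvd_card' (G := ↥(centralizer ((p : Subgroup G) : Set G) ⊓
      normalizer ((q : Subgroup G) : Set G))) 3 (by rw [E2 h hn p q hne])
    exact ⟨t, by rw [Subgroup.orderOf_coe]; exact ht, t.2.1, smul_eq_iff'.2 t.2.2⟩
  obtain ⟨τ, hτo, hτC, -⟩ := hex q₀ p₀ hpq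
  have hF := E4 h hn q₀ hτC hτo
  have hτ1 : τ ≠ 1 := by
    rintro rfl
    rw [orderOf_one] at hτo
    norm_num at hτo
  obtain ⟨p, hp⟩ : ∃ p : Sylow 5 G, τ • p ≠ p := by
    by_contra hcon
    push Not at hcon
    exact hτ1 (eq_one_of_forall_smul_sylow (nonab h) (p := 5) ⟨1008, by rw [h]⟩ hcon)
  have hFp : ∀ q : MulAction.fixedBy (Sylow 5 G) τ, q.1 ≠ p := by
    intro q e
    apply hp
    rw [← e]
    exact q.2
  have hval : ∀ (y : (p : Subgroup G)) (q : MulAction.fixedBy (Sylow 5 G) τ), (y : G) • q.1 ≠ p := by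
    intro y q e
    apply hFp q
    have h1 : (y : G) • p = p := smul_eq_iff'.2 (Subgroup.le_normalizer y.2)
    have h2 : (y : G) • q.1 = (y : G) • p := by rw [e, h1]
    exact smul_left_cancel _ h2
  let f : ↥(p : Subgroup G) × MulAction.fixedBy (Sylow 5 G) τ → {r : Sylow 5 G // r ≠ p} :=
    fun a => ⟨(a.1 : G) • a.2.1, hval a.1 a.2⟩
  have hnotinj : ¬ Function.Injective f := by
    intro hinj
    have h1 := Nat.card_le_card_of_injective f hinj
    rw [Nat.card_prod, card_Q h p, hF] at h1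
    have h2 := card_subtype_ne p
    rw [hn] at h2
    omega
  unfold Function.Injective at hnotinj
  push Not at hnotinj
  obtain ⟨⟨y, q⟩, ⟨y', q'⟩, hff, hne⟩ := hnotinj
  have hff' : (y : G) • q.1 = (y' : G) • q'.1 := congrArg Subtype.val hff
  have hqq : q.1 ≠ q'.1 := by
    intro e
    apply hne
    have hq : q = q' := Subtype.ext e
    subst hq
    have h1 : ((y' : G)⁻¹ * y) • q.1 = q.1 := by
      rw [mul_smul, hff', inv_smul_smul]
    by_cases hy : (y : G) = y'
    · exact Prod.ext (Subtype.ext hy) rfl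
    · exfalso
      have hm : (y' : G)⁻¹ * y ∈ (p : Subgroup G) := (p : Subgroup G).mul_mem ((p : Subgroup G).inv_mem y'.2) y.2
      have hne1 : (y' : G)⁻¹ * y ≠ 1 := by
        intro e1
        exact hy (inv_mul_eq_one.1 e1).symm
      have ho := orderOf_eq_of_mem_of_ne_one (by norm_num : Nat.Prime 5) (card_Q h p) hm hne1
      have hm' := mem_of_orderOf_of_mem_normalizer q.1 ho (smul_eq_iff'.1 h1)
      exact hFp q (sylow_eq_of_mem_of_ne_one (card_Q h q.1) (card_Q h p) hm' hm hne1)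
  -- `c • q = q'`
  set c : G := (y' : G)⁻¹ * y with hc
  have hcp : c ∈ (p : Subgroup G) := (p : Subgroup G).mul_mem ((p : Subgroup G).inv_mem y'.2) y.2
  have hcq : c • q.1 = q'.1 := by
    rw [hc, mul_smul, hff', inv_smul_smul]
  obtain ⟨σ, hσo, hσC, hσq⟩ := hex p q.1 (hFp q)
  have hσq' : σ • q'.1 = q'.1 := by
    have hcomm : σ * c = c * σ := (mem_centralizer_iff.1 hσC c hcp).symm
    rw [← hcq, smul_smul, hcomm, mul_smul, hσq]
  have hτD := E3 h hn q.1 q'.1 (Ne.symm hqq) hτo q.2 q'.2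
  have hσD := E3 h hn q.1 q'.1 (Ne.symm hqq) hσo hσq hσq'
  have hσ1 : σ ≠ 1 := by
    rintro rfl
    rw [orderOf_one] at hσo
    norm_num at hσo
  have hcardD := E2 h hn q.1 q'.1 (Ne.symm hqq)
  have hz := zpowers_eq_of_mem_of_ne_one (by norm_num : Nat.Prime 3) hcardD hσD hσ1
  have hτz : τ ∈ zpowers σ := by rw [hz]; exact hτD
  obtain ⟨k, rfl⟩ := hτz
  apply hp
  have hσp : σ • p = p := smul_eq_iff'.2 (centralizer_le_normalizer _ hσC)
  have hn2 : σ ∈ normalizer ((p : Subgroup G) : Set G) := smul_eq_iff'.1 hσp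
  exact smul_eq_iff'.2 ((normalizer ((p : Subgroup G) : Set G)).zpow_mem hn2 k)

end Cfsg.Agent.Lib.Order5040
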