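import Mathlib
import Cfsg.Agent.Lib.ClassFix

/-!
# A configuration in a 2-group of order 16 with an abelian subgroup of index 2

The output is a subgroup of order 8 with a single involution, which is the input of Thompson transfer.
-/

set_option autoImplicit false
set_option linter.unusedSectionVars false

namespace Cfsg.Agent.Lib.Order5040F0

open Subgroup Cfsg Cfsg.Agent.Lib.SmallGroups2 Cfsg.Agent.Lib.TwoLocal2 Cfsg.Agent.Lib.ClassFix

variable {G : Type*} [Group G]

/-- The subgroup `A ∪ A h`. -/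
def extSub (A : Subgroup G) (h : G) (hn : h ∈ normalizer (A : Set G)) (hs : h ^ 2 ∈ A) : Subgroup G where
  carrier := {x | x ∈ A ∨ x * h⁻¹ ∈ A}
  one_mem' := Or.inl A.one_mem
  mul_mem' := by
    rintro x y (hx | hx) (hy | hy)
    · exact Or.inl (A.mul_mem hx hy)
    · right
      rw [mul_assoc]
      exact A.mul_mem hx hy
    · right
      have : x * y * h⁻¹ = (x * h⁻¹) * (h * y * h⁻¹) := by group
      rw [this]
      exact A.mul_mem hx ((mem_normalizer_iff.1 hn y).1 hy)
    · left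
      have : x * y = (x * h⁻¹) * (h * (y * h⁻¹) * h⁻¹) * h ^ 2 := by group
      rw [this]
      exact A.mul_mem (A.mul_mem hx ((mem_normalizer_iff.1 hn _).1 hy)) hs
  inv_mem' := by
    rintro x (hx | hx)
    · exact Or.inl (A.inv_mem hx)
    · right
      have h1 : x⁻¹ * h⁻¹ = (h⁻¹ * (x * h⁻¹)⁻¹ * h) * (h ^ 2)⁻¹ := by group
      rw [h1]
      refine A.mul_mem ?_ (A.inv_mem hs)
      have h2 := (mem_normalizer_iff.1 ((normalizer (A : Set G)).inv_mem hn) _).1 (A.inv_mem hx)
      simpa using h2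

theorem mem_extSub {A : Subgroup G} {h : G} {hn : h ∈ normalizer (A : Set G)} {hs : h ^ 2 ∈ A} {x : G} :
    x ∈ extSub A h hn hs ↔ x ∈ A ∨ x * h⁻¹ ∈ A := Iff.rfl

theorem extSub_le {A S : Subgroup G} {h : G} {hn : h ∈ normalizer (A : Set G)} {hs : h ^ 2 ∈ A} (hAS : A ≤ S)
    (hhS : h ∈ S) : extSub A h hn hs ≤ S := by
  rintro x (hx | hx)
  · exact hAS hx
  · have : x = (x * h⁻¹) * h := by group
    rw [this]
    exact S.mul_mem (hAS hx) hhS

theorem card_extSub [Finite G] {A : Subgroup G} {h : G} {hn : h ∈ normalizer (A : Set G)} {hs : h ^ 2 ∈ A}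
    (hh : h ∉ A) : Nat.card (extSub A h hn hs) = 2 * Nat.card A := by
  have hle : A ≤ extSub A h hn hs := fun x hx => Or.inl hx
  have h1 := Cfsg.Agent.Lib.Small168.card_mul_relIndex hle
  have h2 : A.relIndex (extSub A h hn hs) = 2 := by
    rw [Subgroup.relIndex, Subgroup.index_eq_two_iff]
    refine ⟨⟨h, Or.inr (by simp [A.one_mem])⟩, ?_⟩
    rintro ⟨b, hb⟩
    simp only [mem_subgroupOf, Subgroup.coe_mul]
    by_cases hbA : b ∈ A
    · right
      refine ⟨hbA, ?_⟩
      intro hbh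
      apply hh
      have : h = b⁻¹ * (b * h) := by group
      rw [this]
      exact A.mul_mem (A.inv_mem hbA) hbh
    · left
      refine ⟨?_, hbA⟩
      have hb' : b * h⁻¹ ∈ A := hb.resolve_left hbA
      have : b * h = (b * h⁻¹) * h ^ 2 := by group
      rw [this]
      exact A.mul_mem hb' hs
  rw [← h1, h2, mul_comm]

variable [Finite G]

/-- In a cyclic group of order 8 the only involution is the fourth power of the generator. -/
theorem eq_pow4_of_mem_zpowers_of_order8 {r x : G} (ho : orderOf r = 8) (hx : x ∈ zpowers r) (hx2 : x ^ 2 = 1)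
    (hx1 : x ≠ 1) : x = r ^ 4 := by
  rw [← mem_powers_iff_mem_zpowers] at hx
  obtain ⟨k, rfl⟩ := Submonoid.mem_powers_iff _ _ |>.1 hx
  have hk' : r ^ k = r ^ (k % 8) := by rw [← ho, pow_mod_orderOf]
  rw [hk'] at hx2 hx1 ⊢
  have hk : k % 8 < 8 := Nat.mod_lt _ (by norm_num)
  generalize k % 8 = j at *
  have h2 : 8 ∣ j * 2 := by
    rw [← ho]
    apply orderOf_dvd_of_pow_eq_one
    rw [pow_mul]
    exact hx2
  have h3 : j = 0 ∨ j = 4 := by omega
  rcases h3 with rfl | rfl
  · exact absurd (pow_zero r) hx1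
  · rfl

theorem ext_config {a h : G} (ho : orderOf a = 4) (hn : h ∈ normalizer ((zpowers a : Subgroup G) : Set G))
    (hs : h ^ 2 ∈ zpowers a) (hh : h ∉ zpowers a) (hfree : ∀ b ∈ zpowers a, (b * h) ^ 2 ≠ 1) :
    Nat.card (extSub (zpowers a) h hn hs) = 8 ∧
      ∀ x ∈ extSub (zpowers a) h hn hs, x ^ 2 = 1 → x ≠ 1 → x = a ^ 2 := by
  constructor
  · rw [card_extSub hh, Nat.card_zpowers, ho]
  · rintro x (hx | hx) hx2 hx1
    · exact eq_sq_of_mem_zpowers_of_order4 ho hx hx2 hx1
    · exfalso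
      apply hfree _ hx
      have : x * h⁻¹ * h = x := by group
      rw [this]
      exact hx2

/-- The 2-group configuration. -/
theorem config {T S : Subgroup G} {g z w : G} (hTab : ∀ a ∈ T, ∀ b ∈ T, a * b = b * a) (hT8 : Nat.card T = 8)
    (hTS : T ≤ S) (hgS : g ∈ S) (hgT : g ∉ T) (hgN : g ∈ normalizer (T : Set G)) (hg2 : g ^ 2 ∈ T)
    (hzT : z ∈ T) (hz2 : z ^ 2 = 1) (hz1 : z ≠ 1) (hzg : g * z * g⁻¹ ≠ z) (hwT : w ∈ T) (hw1 : w ^ 2 ≠ 1)
    (hwz : w ^ 2 ≠ z) :
    ∃ (v : G) (M : Subgroup G), v ≠ 1 ∧ v ∈ T ∧ g * v * g⁻¹ = v ∧ M ≤ S ∧ Nat.card M = 8 ∧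
      ∀ x ∈ M, x ^ 2 = 1 → x ≠ 1 → x = v := by
  have hfT : ∀ t ∈ T, g * t * g⁻¹ ∈ T := fun t ht => (mem_normalizer_iff.1 hgN t).1 ht
  have hzz : z * z = 1 := by rw [← sq]; exact hz2
  -- `f ∘ f = id` on `T`
  have hff : ∀ t ∈ T, g * (g * t * g⁻¹) * g⁻¹ = t := by
    intro t ht
    have h1 : g ^ 2 * t = t * g ^ 2 := hTab _ hg2 _ ht
    calc g * (g * t * g⁻¹) * g⁻¹ = g ^ 2 * t * (g ^ 2)⁻¹ := by rw [sq]; group
      _ = t := by rw [h1]; group
  have hfmul : ∀ a b : G, g * (a * b) * g⁻¹ = (g * a * g⁻¹) * (g * b * g⁻¹) := by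
    intro a b
    group
  have hfsq : ∀ a : G, g * (a ^ 2) * g⁻¹ = (g * a * g⁻¹) ^ 2 := by
    intro a
    rw [sq, sq, hfmul]
  have hfinj : ∀ a b : G, g * a * g⁻¹ = g * b * g⁻¹ → a = b := by
    intro a b hab
    have := congrArg (fun y => g⁻¹ * y * g) hab
    simpa [mul_assoc] using this
  have hw8 : w ^ 8 = 1 := by
    have := pow_card_eq_one' (x := (⟨w, hwT⟩ : T))
    rw [hT8] at this
    exact congrArg Subtype.val this
  have hw4 : w ^ 4 = 1 := by
    by_contra hne
    have ho8 : orderOf w = 2 ^ (2 + 1) := by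
      have : Fact (Nat.Prime 2) := ⟨Nat.prime_two⟩
      exact orderOf_eq_prime_pow (by simpa using hne) (by simpa using hw8)
    have hzw : zpowers w = T := Subgroup.eq_of_le_of_card_ge ((zpowers_le).2 hwT) (by
      rw [Nat.card_zpowers, ho8, hT8]
      norm_num)
    have h8 : orderOf w = 8 := by rw [ho8]; norm_num
    have h1 := eq_pow4_of_mem_zpowers_of_order8 h8 (by rw [hzw]; exact hzT) hz2 hz1
    have h2 := eq_pow4_of_mem_zpowers_of_order8 h8 (by rw [hzw]; exact hfT z hzT) (by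
      rw [← hfsq, hz2]
      group) (by
      intro e
      apply hz1
      apply hfinj z 1
      rw [e]
      group)
    exact hzg (by rw [h2, h1])
  set v : G := w ^ 2 with hv
  have hvT : v ∈ T := T.pow_mem hwT 2
  have hv2 : v ^ 2 = 1 := by rw [hv, ← pow_mul]; exact hw4
  have hvv : v * v = 1 := by rw [← sq]; exact hv2
  have horder4 : ∀ {u : G}, u ^ 2 = v → orderOf u = 4 := by
    intro u hu
    have : Fact (Nat.Prime 2) := ⟨Nat.prime_two⟩
    have : orderOf u = 2 ^ (1 + 1) := orderOf_eq_prime_pow (by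
      simp only [pow_one]
      rw [hu]
      exact hw1) (by
      have : u ^ 2 ^ (1 + 1) = (u ^ 2) ^ 2 := by rw [← pow_mul]; norm_num
      rw [this, hu]
      exact hv2)
    rw [this]
    norm_num
  -- Splitting of `T` along a cyclic subgroup of order 4 missing `z`.
  have hsplitg : ∀ {u : G}, u ∈ T → u ^ 2 = v → ∀ t ∈ T, t ∈ zpowers u ∨ t * z ∈ zpowers u := by
    intro u huT hu t ht
    have hle : zpowers u ≤ T := (zpowers_le).2 huT
    have h1 := Cfsg.Agent.Lib.Small168.card_mul_relIndex hle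
    rw [Nat.card_zpowers, horder4 hu, hT8] at h1
    have h2 : (zpowers u).relIndex T = 2 := by omega
    have hzu : z ∉ zpowers u := by
      intro hzu
      apply hwz
      have := eq_sq_of_mem_zpowers_of_order4 (horder4 hu) hzu hz2 hz1
      rw [this, hu]
    have h3 := Subgroup.mul_mem_iff_of_index_two h2 (a := (⟨t, ht⟩ : T)) (b := (⟨z, hzT⟩ : T))
    by_cases htu : t ∈ zpowers u
    · exact Or.inl htu
    · right
      have h4 : (⟨t, ht⟩ * ⟨z, hzT⟩ : T) ∈ (zpowers u).subgroupOf T := by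
        rw [h3]
        constructor
        · intro hh
          exact absurd hh (by rw [mem_subgroupOf]; exact htu)
        · intro hh
          exact absurd hh (by rw [mem_subgroupOf]; exact hzu)
      rw [mem_subgroupOf] at h4
      exact h4
  have hsplit := hsplitg hwT rfl
  have hcomm_sq : ∀ a b : G, a * b = b * a → (a * b) ^ 2 = a ^ 2 * b ^ 2 := by
    intro a b hab
    have : Commute a b := hab
    exact this.mul_pow 2
  -- Elements of `T` square into `{1, v}`.
  have hsqA : ∀ a ∈ zpowers w, a ^ 2 = 1 ∨ a ^ 2 = v := by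
    intro a ha
    rw [← mem_powers_iff_mem_zpowers] at ha
    obtain ⟨k, rfl⟩ := Submonoid.mem_powers_iff _ _ |>.1 ha
    have ho := horder4 (u := w) rfl
    have hk' : w ^ k = w ^ (k % 4) := by rw [← ho, pow_mod_orderOf]
    rw [hk']
    have hk : k % 4 < 4 := Nat.mod_lt _ (by norm_num)
    generalize k % 4 = j at *
    interval_cases j
    · left; simp
    · right; simp [hv]
    · left
      rw [← pow_mul]
      exact hw4
    · right
      rw [hv, ← pow_mul, show 3 * 2 = 4 + 2 by norm_num, pow_add, hw4, one_mul]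
  have hsqT : ∀ t ∈ T, t ^ 2 = 1 ∨ t ^ 2 = v := by
    intro t ht
    rcases hsplit t ht with h1 | h1
    · exact hsqA t h1
    · have h2 := hsqA _ h1
      rw [hcomm_sq _ _ (hTab t ht z hzT), hz2, mul_one] at h2
      exact h2
  have hinv : ∀ t ∈ T, t ^ 2 = 1 → t = 1 ∨ t = v ∨ t = z ∨ t = v * z := by
    intro t ht ht2
    rcases hsplit t ht with h1 | h1
    · by_cases ht1 : t = 1
      · exact Or.inl ht1
      · exact Or.inr (Or.inl (eq_sq_of_mem_zpowers_of_order4 (horder4 rfl) h1 ht2 ht1))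
    · have h2 : (t * z) ^ 2 = 1 := by
        rw [hcomm_sq _ _ (hTab t ht z hzT), hz2, ht2, mul_one]
      have hzinv : ∀ y : G, y * z * z = y := by
        intro y
        rw [mul_assoc, hzz, mul_one]
      by_cases ht1 : t * z = 1
      · right; right; left
        calc t = t * z * z := (hzinv t).symm
          _ = z := by rw [ht1, one_mul]
      · right; right; right
        have h3 := eq_sq_of_mem_zpowers_of_order4 (horder4 rfl) h1 h2 ht1
        calc t = t * z * z := (hzinv t).symm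
          _ = v * z := by rw [h3]
  -- the action on `v` and `z`
  have hfv : g * v * g⁻¹ = v := by
    have h1 := hsqT _ (hfT w hwT)
    rw [← hfsq] at h1
    rcases h1 with h1 | h1
    · exfalso
      apply hw1
      apply hfinj (w ^ 2) 1
      rw [h1]
      group
    · exact h1
  have hfz : g * z * g⁻¹ = v * z := by
    have h0 : (g * z * g⁻¹) ^ 2 = 1 := by
      rw [← hfsq, hz2]
      group
    rcases hinv _ (hfT z hzT) h0 with h1 | h1 | h1 | h1
    · exfalso
      apply hz1
      apply hfinj z 1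
      rw [h1]
      group
    · exfalso
      apply hwz
      have : z = v := by
        apply hfinj
        rw [h1, hfv]
      rw [this]
    · exact absurd h1 hzg
    · exact h1
  have hcvz : v * z = z * v := hTab v hvT z hzT
  have hvzv : ∀ y : G, v * (v * y) = y := by
    intro y
    rw [← mul_assoc, hvv, one_mul]
  -- the action on `w`
  obtain ⟨w₀, hw₀T, hw₀2, hfw₀⟩ : ∃ w₀ ∈ T, w₀ ^ 2 = v ∧ g * w₀ * g⁻¹ = w₀ := by
    have hw'T := hfT w hwT
    have heT : (g * w * g⁻¹) * w⁻¹ ∈ T := T.mul_mem hw'T (T.inv_mem hwT)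
    have hw'2 : (g * w * g⁻¹) ^ 2 = v := by rw [← hfsq]; exact hfv
    have he2 : ((g * w * g⁻¹) * w⁻¹) ^ 2 = 1 := by
      rw [hcomm_sq _ _ (hTab _ hw'T _ (T.inv_mem hwT)), hw'2, inv_pow]
      exact mul_inv_cancel v
    have hfe : g * ((g * w * g⁻¹) * w⁻¹) * g⁻¹ = (g * w * g⁻¹) * w⁻¹ := by
      rw [hfmul, hff w hwT]
      have h1 : g * w⁻¹ * g⁻¹ = (g * w * g⁻¹)⁻¹ := by group
      rw [h1]
      -- `e⁻¹ = e`
      have h2 : w * (g * w * g⁻¹)⁻¹ = ((g * w * g⁻¹) * w⁻¹)⁻¹ := by group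
      rw [h2]
      have h3 : ((g * w * g⁻¹) * w⁻¹) * ((g * w * g⁻¹) * w⁻¹) = 1 := by rw [← sq]; exact he2
      exact inv_eq_of_mul_eq_one_left h3
    rcases hinv _ heT he2 with h1 | h1 | h1 | h1
    · refine ⟨w, hwT, rfl, ?_⟩
      have := mul_inv_eq_one.1 h1
      exact this
    · refine ⟨z * w, T.mul_mem hzT hwT, ?_, ?_⟩
      · rw [hcomm_sq _ _ (hTab z hzT w hwT), hz2, one_mul]
      · have h2 : g * w * g⁻¹ = v * w := by
          have := mul_inv_eq_iff_eq_mul.1 h1
          exact this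
        rw [hfmul, hfz, h2]
        have h3 : z * v = v * z := hcvz.symm
        calc v * z * (v * w) = v * (z * v) * w := by group
          _ = v * (v * z) * w := by rw [h3]
          _ = z * w := by rw [hvzv]
    · exfalso
      rw [h1] at hfe
      exact hzg hfe
    · exfalso
      rw [h1, hfmul, hfv, hfz, hvzv] at hfe
      -- `z = v * z`
      apply hw1
      exact mul_right_cancel (b := z) (a := v) (c := 1) (by rw [one_mul]; exact hfe.symm)
  have hw₀o := horder4 hw₀2
  have hsplit₀ := hsplitg hw₀T hw₀2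
  have hgw₀ : Commute g w₀ := by
    have : g * w₀ = w₀ * g := by
      calc g * w₀ = g * w₀ * g⁻¹ * g := by group
        _ = w₀ * g := by rw [hfw₀]
    exact this
  have hgA : ∀ a ∈ zpowers w₀, g * a = a * g := by
    rintro a ⟨k, rfl⟩
    exact (hgw₀.zpow_right k).eq
  have hw₀le : zpowers w₀ ≤ T := (zpowers_le).2 hw₀T
  have hgg : g * g ^ 2 * g⁻¹ = g ^ 2 := by group
  -- `g²` lies in the cyclic subgroup
  have hc : g ^ 2 ∈ zpowers w₀ := by
    rcases hsplit₀ _ hg2 with h1 | h1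
    · exact h1
    · exfalso
      apply hw1
      have h2 := hgA _ h1
      have h3 : g * (g ^ 2 * z) * g⁻¹ = g ^ 2 * z := by
        rw [h2]
        group
      rw [hfmul, hgg, hfz] at h3
      have h4 := mul_left_cancel h3
      exact mul_right_cancel (b := z) (a := v) (c := 1) (by rw [one_mul]; exact h4)
  have hb4 : ∀ b ∈ zpowers w₀, b ^ 4 = 1 := by
    rintro b ⟨k, rfl⟩
    show (w₀ ^ k) ^ 4 = 1
    rw [← zpow_natCast, ← zpow_mul, mul_comm, zpow_mul]
    have : w₀ ^ ((4 : ℕ) : ℤ) = 1 := by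
      rw [zpow_natCast, ← hw₀o]
      exact pow_orderOf_eq_one w₀
    rw [this, one_zpow]
  by_cases hc2 : (g ^ 2) ^ 2 = 1
  · -- second case: quaternion group
    have hc3 : g ^ 2 = 1 ∨ g ^ 2 = v := by
      by_cases h1 : g ^ 2 = 1
      · exact Or.inl h1
      · right
        rw [eq_sq_of_mem_zpowers_of_order4 hw₀o hc hc2 h1, hw₀2]
    obtain ⟨h, hhS, hhT, hh2, hht⟩ : ∃ h ∈ S, h ∉ T ∧ h ^ 2 = v ∧ ∀ t ∈ T, h * t * h⁻¹ = g * t * g⁻¹ := by
      rcases hc3 with h1 | h1
      · refine ⟨g * w₀, S.mul_mem hgS (hTS hw₀T), ?_, ?_, ?_⟩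
        · intro hh
          apply hgT
          have : g = g * w₀ * w₀⁻¹ := by group
          rw [this]
          exact T.mul_mem hh (T.inv_mem hw₀T)
        · rw [hcomm_sq _ _ hgw₀.eq, h1, one_mul, hw₀2]
        · intro t ht
          have h2 := hTab w₀ hw₀T t ht
          calc g * w₀ * t * (g * w₀)⁻¹ = g * (w₀ * t) * w₀⁻¹ * g⁻¹ := by group
            _ = g * (t * w₀) * w₀⁻¹ * g⁻¹ := by rw [h2]
            _ = g * t * g⁻¹ := by group
      · exact ⟨g, hgS, hgT, h1, fun _ _ => rfl⟩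
    set a : G := z * w₀ with ha
    have haT : a ∈ T := T.mul_mem hzT hw₀T
    have ha2 : a ^ 2 = v := by
      rw [ha, hcomm_sq _ _ (hTab z hzT w₀ hw₀T), hz2, one_mul, hw₀2]
    have hao := horder4 ha2
    have hfa : h * a * h⁻¹ = a⁻¹ := by
      rw [hht a haT, ha, hfmul, hfz, hfw₀]
      have h3 : (z * w₀) * (z * w₀) = v := by rw [← sq]; rw [← ha]; exact ha2
      -- `v * z * w₀ = (z * w₀)⁻¹`
      apply eq_inv_of_mul_eq_one_left
      have h4 : z * w₀ = w₀ * z := hTab z hzT w₀ hw₀T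
      have h5 : v * z * w₀ * (z * w₀) = v * (z * w₀) * (z * w₀) := by group
      rw [h5, mul_assoc, h3, hvv]
    have hconjz : ∀ b ∈ zpowers a, h * b * h⁻¹ = b⁻¹ := by
      rintro b ⟨k, rfl⟩
      show h * a ^ k * h⁻¹ = (a ^ k)⁻¹
      rw [← conj_zpow, hfa, inv_zpow]
    have hn : h ∈ normalizer ((zpowers a : Subgroup G) : Set G) := by
      apply mem_normalizer_of_conj_le
      intro y hy
      rw [hconjz y hy]
      exact (zpowers a).inv_mem hy
    have hs : h ^ 2 ∈ zpowers a := by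
      rw [hh2, ← ha2]
      exact (zpowers a).pow_mem (mem_zpowers a) 2
    have hh : h ∉ zpowers a := fun hh => hhT ((zpowers_le).2 haT hh)
    obtain ⟨hM1, hM2⟩ := ext_config hao hn hs hh (by
      intro b hb e
      apply hw1
      have h6 : (b * h) ^ 2 = b * (h * b * h⁻¹) * h ^ 2 := by
        rw [sq, sq]
        group
      rw [h6, hconjz b hb, hh2] at e
      simpa using e)
    refine ⟨v, extSub (zpowers a) h hn hs, hw1, hvT, hfv, ?_, hM1, ?_⟩
    · exact extSub_le ((zpowers_le).2 (hTS haT)) hhS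
    · intro x hx hx2 hx1
      rw [hM2 x hx hx2 hx1, ha2]
  · -- first case: cyclic group of order 8
    have hn : g ∈ normalizer ((zpowers w₀ : Subgroup G) : Set G) := by
      apply mem_normalizer_of_conj_le
      intro y hy
      rw [hgA y hy]
      have : y * g * g⁻¹ = y := by group
      rw [this]
      exact hy
    have hh : g ∉ zpowers w₀ := fun hh => hgT (hw₀le hh)
    obtain ⟨hM1, hM2⟩ := ext_config hw₀o hn hc hh (by
      intro b hb e
      apply hc2
      have hcb : Commute b g := (hgA b hb).symm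
      rw [hcb.mul_pow] at e
      have h7 : g ^ 2 = (b ^ 2)⁻¹ := eq_inv_of_mul_eq_one_right e
      rw [h7, inv_pow, ← pow_mul, hb4 b hb, inv_one])
    refine ⟨v, extSub (zpowers w₀) g hn hc, hw1, hvT, hfv, ?_, hM1, ?_⟩
    · exact extSub_le (hw₀le.trans hTS) hgS
    · intro x hx hx2 hx1
      rw [hM2 x hx hx2 hx1, hw₀2]

end Cfsg.Agent.Lib.Order5040F0
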