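import Mathlib
import Cfsg.Agent.Lib.Order5040
import Cfsg.Agent.Lib.Order5040F0
import Cfsg.Agent.Lib.ThompsonTransfer
import Cfsg.Agent.Lib.PuigBasic

/-!
# No simple group of order 5040: the case of 126 Sylow 5-subgroups
-/

set_option autoImplicit false
set_option linter.unusedSectionVars false

namespace Cfsg.Agent.Lib.Order5040

open Subgroup Cfsg Cfsg.Agent.Lib.SmallGroups Cfsg.Agent.Lib.SmallGroups2 Cfsg.Agent.Lib.SmallGroups3
  Cfsg.Agent.Lib.SmallGroups4 Cfsg.Agent.Lib.Small168 Cfsg.Agent.Lib.Small168K Cfsg.Agent.Lib.TwoLocal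
  Cfsg.Agent.Lib.TwoLocal2 Cfsg.Agent.Lib.TwoLocal3 Cfsg.Agent.Lib.ClassFix Cfsg.Agent.Lib.Order5040F0

variable {G : Type*} [Group G] [Finite G]

/-- Conjugating a Sylow subgroup by an element commuting with `x`. -/
theorem mem_centralizer_smul {p : ℕ} {q : Sylow p G} {c x : G} (hc : c * x = x * c)
    (hx : x ∈ centralizer ((q : Subgroup G) : Set G)) :
    x ∈ centralizer (((c • q : Sylow p G) : Subgroup G) : Set G) := by
  rw [mem_centralizer_iff] at hx ⊢
  intro u hu
  have h1 := hx _ (mem_smul_sylow_iff.1 hu)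
  have hci : c⁻¹ * x = x * c⁻¹ := by
    have : Commute c x := hc
    exact (this.inv_left).eq
  calc u * x = c * (c⁻¹ * u * c) * c⁻¹ * x := by group
    _ = c * ((c⁻¹ * u * c) * (c⁻¹ * x)) := by group
    _ = c * ((c⁻¹ * u * c) * (x * c⁻¹)) := by rw [hci]
    _ = c * ((c⁻¹ * u * c) * x) * c⁻¹ := by group
    _ = c * (x * (c⁻¹ * u * c)) * c⁻¹ := by rw [h1]
    _ = (c * x) * (c⁻¹ * u * c) * c⁻¹ := by group
    _ = (x * c) * (c⁻¹ * u * c) * c⁻¹ := by rw [hc]
    _ = x * u := by group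

/-- A surjection on automorphisms of a group of order five. -/
theorem exists_w {Q : Subgroup G} (hQ : Nat.card Q = 5) {T : Subgroup G} (hTN : T ≤ normalizer (Q : Set G))
    (hT8 : Nat.card T = 8) (hK : Nat.card ↥(T ⊓ centralizer (Q : Set G)) = 2) :
    ∃ w ∈ T, w ^ 2 ∉ centralizer (Q : Set G) := by
  have h5 : Fact (Nat.Prime 5) := ⟨by norm_num⟩
  have hcyc : IsCyclic Q := isCyclic_of_prime_card hQ
  have hc4 : Nat.card (MulAut Q) = 4 := by
    rw [IsCyclic.card_mulAut, hQ]
    decide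
  have hcycA : IsCyclic (MulAut Q) := by
    have : IsCyclic (ZMod (Nat.card Q))ˣ := by
      rw [hQ]
      exact ZMod.isCyclic_units_prime (by norm_num)
    exact isCyclic_of_surjective _ (IsCyclic.mulAutMulEquiv Q).symm.surjective
  let ψ : ↥T →* MulAut Q := (Q.normalizerMonoidHom).comp (Subgroup.inclusion hTN)
  have hker : ∀ t : ↥T, ψ t = 1 ↔ (t : G) ∈ centralizer (Q : Set G) := by
    intro t
    have h1 : ψ t = 1 ↔ Subgroup.inclusion hTN t ∈ (Q.normalizerMonoidHom).ker := Iff.rfl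
    rw [h1, normalizerMonoidHom_ker, mem_subgroupOf]
    rfl
  have hcardker : Nat.card ψ.ker = 2 := by
    rw [← hK]
    have h1 : ψ.ker = (T ⊓ centralizer (Q : Set G)).subgroupOf T := by
      ext t
      rw [MonoidHom.mem_ker, hker, mem_subgroupOf]
      exact ⟨fun h => ⟨t.2, h⟩, fun h => h.2⟩
    rw [h1]
    exact Nat.card_congr (subgroupOfEquivOfLe inf_le_left).toEquiv
  have hrange : Nat.card ψ.range = 4 := by
    have h1 := Subgroup.card_mul_index ψ.ker
    rw [Subgroup.index_ker, hcardker, hT8] at h1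
    omega
  have hsurj : ψ.range = ⊤ := Subgroup.eq_top_of_card_eq _ (by rw [hrange, hc4])
  obtain ⟨γ, hγ⟩ := hcycA.exists_generator
  have hoγ : orderOf γ = 4 := by
    rw [orderOf_eq_card_of_forall_mem_zpowers hγ, hc4]
  obtain ⟨w, hw⟩ : γ ∈ ψ.range := by
    rw [hsurj]
    exact mem_top γ
  refine ⟨w.1, w.2, ?_⟩
  intro hw2
  have h1 : ψ (w ^ 2) = 1 := (hker (w ^ 2)).2 (by simpa using hw2)
  rw [map_pow, hw] at h1
  have h2 := orderOf_dvd_of_pow_eq_one h1
  rw [hoγ] at h2
  norm_num at h2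

variable [IsSimpleGroup G] (h : Nat.card G = 5040) (hn : Nat.card (Sylow 5 G) = 126)
include h hn

theorem F_central (Q : Sylow 5 G) {x : G} (hx1 : x ≠ 1) (hxQ : x ∈ centralizer ((Q : Subgroup G) : Set G))
    (hN : normalizer ((Q : Subgroup G) : Set G) ≤ centralizer ({x} : Set G)) :
    Nat.card (centralizer ({x} : Set G)) = 40 ∨ Nat.card (centralizer ({x} : Set G)) = 240 := by
  obtain ⟨n', hn1, hn2, hn3, -, -, -⟩ := centralizer_data (nonab h) (p := 5) (hp25 h) (by rw [h]; norm_num) Q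
    (card_Q h Q) hx1 hxQ
  rw [hn] at hn2
  rw [inf_eq_right.2 hN, card_N h Q hn (k := 40) rfl] at hn3
  have hd : Nat.card (centralizer ({x} : Set G)) ∣ 5040 := by
    rw [← h]
    exact Subgroup.card_subgroup_dvd_card _
  have hge := index_ge8 h _ (centralizer_singleton_ne_top (nonab h) hx1)
  have hM := Subgroup.card_mul_index (centralizer ({x} : Set G))
  rw [h] at hM
  rw [hn3] at hd hM
  have hcases : n' = 1 ∨ n' = 6 ∨ n' = 21 := by
    interval_cases n' <;> omega
  rcases hcases with rfl | rfl | rfl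
  · left; omega
  · right; omega
  · exfalso; omega

theorem Q_le_Cx (Q : Sylow 5 G) {x : G} (hxQ : x ∈ centralizer ((Q : Subgroup G) : Set G)) :
    (Q : Subgroup G) ≤ centralizer ({x} : Set G) := by
  intro y hy
  rw [mem_centralizer_singleton_iff]
  exact (mem_centralizer_iff.1 hxQ) y hy

theorem F_240 (Q : Sylow 5 G) {x : G} (hx1 : x ≠ 1) (hxQ : x ∈ centralizer ((Q : Subgroup G) : Set G))
    (hc : Nat.card (centralizer ({x} : Set G)) = 240) :
    normalizer ((Q : Subgroup G) : Set G) ≤ centralizer ({x} : Set G) := by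
  obtain ⟨n', hn1, hn2, hn3, -, -, -⟩ := centralizer_data (nonab h) (p := 5) (hp25 h) (by rw [h]; norm_num) Q
    (card_Q h Q) hx1 hxQ
  rw [hn] at hn2
  have hN := card_N h Q hn (k := 40) rfl
  have hm40 : Nat.card ↥(centralizer ({x} : Set G) ⊓ normalizer ((Q : Subgroup G) : Set G)) ∣ 40 := by
    have h0 : Nat.card ↥(centralizer ({x} : Set G) ⊓ normalizer ((Q : Subgroup G) : Set G)) ∣
      Nat.card (normalizer ((Q : Subgroup G) : Set G)) := Subgroup.card_dvd_of_le inf_le_right
    rwa [hN] at h0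
  have hm5 : 5 ∣ Nat.card ↥(centralizer ({x} : Set G) ⊓ normalizer ((Q : Subgroup G) : Set G)) := by
    have h0 := Subgroup.card_dvd_of_le (le_inf (Q_le_Cx h hn Q hxQ) (le_normalizer (H := (Q : Subgroup G))))
    rwa [card_Q h Q] at h0
  rw [hc] at hn3
  have h3 : Nat.card ↥(centralizer ({x} : Set G) ⊓ normalizer ((Q : Subgroup G) : Set G)) ∈ Nat.divisors 40 :=
    Nat.mem_divisors.2 ⟨hm40, by norm_num⟩
  have h4 : Nat.divisors 40 = {1, 2, 4, 5, 8, 10, 20, 40} := by decide +kernel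
  rw [h4] at h3
  simp only [Finset.mem_insert, Finset.mem_singleton] at h3
  have hm : Nat.card ↥(centralizer ({x} : Set G) ⊓ normalizer ((Q : Subgroup G) : Set G)) = 40 := by
    rcases h3 with h3 | h3 | h3 | h3 | h3 | h3 | h3 | h3 <;> rw [h3] at hn3 hm5 <;> omega
  have h5 : centralizer ({x} : Set G) ⊓ normalizer ((Q : Subgroup G) : Set G) =
      normalizer ((Q : Subgroup G) : Set G) :=
    Subgroup.eq_of_le_of_card_ge inf_le_right (by rw [hm, hN])
  exact inf_eq_right.1 h5

theorem F_m6 (Q : Sylow 5 G) {x : G} (hxQ : x ∈ centralizer ((Q : Subgroup G) : Set G)) (ho : orderOf x = 2)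
    (hc : Nat.card (centralizer ({x} : Set G)) = 240)
    (hu : ∀ x' ∈ centralizer ((Q : Subgroup G) : Set G), IsConj x x' → x' = x) : False := by
  have hx1 : x ≠ 1 := by
    rintro rfl
    rw [orderOf_one] at ho
    norm_num at ho
  have hX : Nat.card (CC x) = 21 := by
    have h1 := card_CC_mul x
    rw [hc, h] at h1
    omega
  have h4 := card_mod_four (nonab h) (z := x) (t := x) (by rw [← ho]; exact pow_orderOf_eq_one x)
  have h5 : Nat.card (MulAction.fixedBy (CC x) x) ≡ 1 [MOD 5] :=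
    fix_modEq_of_unique (p := 5) (Q : Subgroup G) Q.isPGroup' hxQ (IsConj.refl x)
      (fun w hw _ hg => hu w (mem_centralizer_iff.2 hg) hw)
  have hle : Nat.card (MulAction.fixedBy (CC x) x) ≤ 21 := by
    rw [← hX]
    exact Nat.card_le_card_of_injective (fun x => x.1) Subtype.val_injective
  have h1 := fix_ne_one (nonab h) ho
  have h2 := fix_ne_card (nonab h) hx1
  rw [hX] at h2 h4
  unfold Nat.ModEq at h4 h5
  omega

theorem Fx_arg (Q : Sylow 5 G) {x x' : G} (hxQ : x ∈ centralizer ((Q : Subgroup G) : Set G))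
    (hx'Q : x' ∈ centralizer ((Q : Subgroup G) : Set G)) (ho' : orderOf x' = 2)
    (hc : Nat.card (centralizer ({x} : Set G)) = 240)
    (hNC : normalizer ((Q : Subgroup G) : Set G) ≤ centralizer ({x} : Set G)) (hxx' : x * x' = x' * x)
    (hM : centralizer ({x} : Set G) ⊓ centralizer ({x'} : Set G) ≤ normalizer ((Q : Subgroup G) : Set G)) : False := by
  have hQc := card_Q h Q
  have hN := card_N h Q hn (k := 40) rfl
  set H := centralizer ({x} : Set G) with hH
  have hmemH : ∀ {c : G}, c ∈ H ↔ c * x = x * c := by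
    intro c
    rw [hH, mem_centralizer_singleton_iff]
  have hx'2 : x' ^ 2 = 1 := by rw [← ho']; exact pow_orderOf_eq_one x'
  -- the set of Sylow subgroups centralized by `x`
  have hstab : MulAction.stabilizer H Q = (normalizer ((Q : Subgroup G) : Set G)).subgroupOf H := by
    ext c
    rw [MulAction.mem_stabilizer_iff, mem_subgroupOf]
    exact smul_eq_iff'
  have hrel : (normalizer ((Q : Subgroup G) : Set G)).relIndex H = 6 := by
    have h1 := card_mul_relIndex hNC
    rw [hN, hc] at h1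
    omega
  have horb : (MulAction.orbit H Q) = {q : Sylow 5 G | x ∈ centralizer ((q : Subgroup G) : Set G)} := by
    ext q
    constructor
    · rintro ⟨c, rfl⟩
      exact mem_centralizer_smul (hmemH.1 c.2) hxQ
    · intro hq
      have hq' : (q : Subgroup G) ≤ H := by
        intro y hy
        rw [hmemH]
        exact (mem_centralizer_iff.1 hq) y hy
      obtain ⟨c, hc', hcq⟩ := exists_conj_of_sylow_le H Q q (Q_le_Cx h hn Q hxQ) hq'
      exact ⟨⟨c, hc'⟩, hcq⟩
  have hncard : {q : Sylow 5 G | x ∈ centralizer ((q : Subgroup G) : Set G)}.ncard = 6 := by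
    rw [← horb, ← MulAction.index_stabilizer, hstab]
    exact hrel
  have hncard' : ({q : Sylow 5 G | x ∈ centralizer ((q : Subgroup G) : Set G)} \ {Q}).ncard = 5 := by
    rw [Set.ncard_sdiff_singleton_of_mem (show Q ∈ {q : Sylow 5 G | x ∈ centralizer ((q : Subgroup G) : Set G)} from hxQ),
      hncard]
  -- `Q` is transitive on the other points
  have htrans : ∀ q r : Sylow 5 G, x ∈ centralizer ((q : Subgroup G) : Set G) → q ≠ Q →
      x ∈ centralizer ((r : Subgroup G) : Set G) → r ≠ Q → ∃ y ∈ (Q : Subgroup G), y • q = r := by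
    intro q r hq hqQ hr hrQ
    have hval : ∀ y : (Q : Subgroup G), (y : G) • q ∈
        ({q : Sylow 5 G | x ∈ centralizer ((q : Subgroup G) : Set G)} \ {Q}) := by
      intro y
      constructor
      · exact mem_centralizer_smul (hmemH.1 (Q_le_Cx h hn Q hxQ y.2)) hq
      · intro e
        apply hqQ
        have h2 : (y : G) • Q = Q := smul_eq_iff'.2 (Subgroup.le_normalizer y.2)
        have h3 : (y : G) • q = (y : G) • Q := by rw [h2]; exact e
        exact smul_left_cancel _ h3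
    let φ : ↥(Q : Subgroup G) → ↥({q : Sylow 5 G | x ∈ centralizer ((q : Subgroup G) : Set G)} \ {Q}) :=
      fun y => ⟨(y : G) • q, hval y⟩
    have hinj : Function.Injective φ := by
      intro y y' e
      have h2 : (y : G) • q = (y' : G) • q := congrArg Subtype.val e
      by_contra hne
      have hne' : (y' : G)⁻¹ * y ≠ 1 := by
        intro e1
        apply hne
        exact Subtype.ext (inv_mul_eq_one.1 e1).symm
      have hm : (y' : G)⁻¹ * y ∈ (Q : Subgroup G) := (Q : Subgroup G).mul_mem ((Q : Subgroup G).inv_mem y'.2) y.2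
      have hfix : ((y' : G)⁻¹ * y) • q = q := by rw [mul_smul, h2, inv_smul_smul]
      have hoo := orderOf_eq_of_mem_of_ne_one (by norm_num : Nat.Prime 5) hQc hm hne'
      have hm' := mem_of_orderOf_of_mem_normalizer q hoo (smul_eq_iff'.1 hfix)
      exact hqQ (sylow_eq_of_mem_of_ne_one (card_Q h q) hQc hm' hm hne')
    have hbij : Function.Bijective φ := hinj.bijective_of_nat_card_le (by
      rw [hQc]
      show ({q : Sylow 5 G | x ∈ centralizer ((q : Subgroup G) : Set G)} \ {Q}).ncard ≤ 5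
      rw [hncard'])
    obtain ⟨y, hy⟩ := hbij.2 ⟨r, hr, hrQ⟩
    exact ⟨y, y.2, congrArg Subtype.val hy⟩
  -- `x'` fixes every point
  have hx'Nq : ∀ {q : Sylow 5 G}, x' • q = Q → q = Q := by
    intro q hq
    have h2 : x' • Q = Q := smul_eq_iff'.2 (centralizer_le_normalizer _ hx'Q)
    have h3 : x' • q = x' • Q := by rw [h2, hq]
    exact smul_left_cancel _ h3
  have hfix : ∀ q : Sylow 5 G, x ∈ centralizer ((q : Subgroup G) : Set G) → x' • q = q := by
    intro q hq
    by_cases hqQ : q = Q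
    · rw [hqQ]
      exact smul_eq_iff'.2 (centralizer_le_normalizer _ hx'Q)
    have h1 : x' • q ≠ Q := fun e => hqQ (hx'Nq e)
    have h2 : x ∈ centralizer (((x' • q : Sylow 5 G) : Subgroup G) : Set G) := mem_centralizer_smul hxx'.symm hq
    obtain ⟨y, hy, hyq⟩ := htrans q (x' • q) hq hqQ h2 h1
    have hcomm : x' * y = y * x' := (mem_centralizer_iff.1 hx'Q y hy).symm
    have h3 : (y * y) • q = q := by
      have h4 : (x' * x') • q = q := by
        rw [← sq, hx'2, one_smul]
      calc (y * y) • q = y • (y • q) := mul_smul _ _ _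
        _ = y • (x' • q) := by rw [hyq]
        _ = (y * x') • q := (mul_smul _ _ _).symm
        _ = (x' * y) • q := by rw [hcomm]
        _ = x' • (y • q) := mul_smul _ _ _
        _ = x' • (x' • q) := by rw [hyq]
        _ = (x' * x') • q := (mul_smul _ _ _).symm
        _ = q := h4
    have hyy : y * y = 1 := by
      by_contra hne
      have hm : y * y ∈ (Q : Subgroup G) := (Q : Subgroup G).mul_mem hy hy
      have hoo := orderOf_eq_of_mem_of_ne_one (by norm_num : Nat.Prime 5) hQc hm hne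
      have hm' := mem_of_orderOf_of_mem_normalizer q hoo (smul_eq_iff'.1 h3)
      exact hqQ (sylow_eq_of_mem_of_ne_one (card_Q h q) hQc hm' hm hne)
    have hy5 : y ^ 5 = 1 := by
      have := pow_card_eq_one' (x := (⟨y, hy⟩ : (Q : Subgroup G)))
      rw [hQc] at this
      exact congrArg Subtype.val this
    have hy1 : orderOf y = 1 := Nat.eq_one_of_dvd_coprimes (by norm_num : Nat.Coprime 5 2)
      (orderOf_dvd_of_pow_eq_one hy5) (orderOf_dvd_of_pow_eq_one (by rw [sq]; exact hyy))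
    rw [← hyq, orderOf_eq_one_iff.1 hy1, one_smul]
  -- a second Sylow subgroup
  obtain ⟨Q₀, hQ₀⟩ : ({q : Sylow 5 G | x ∈ centralizer ((q : Subgroup G) : Set G)} \ {Q}).Nonempty := by
    rw [← Set.ncard_pos (Set.toFinite _), hncard']
    norm_num
  have hQ₀c : x ∈ centralizer ((Q₀ : Subgroup G) : Set G) := hQ₀.1
  have hQ₀Q : Q₀ ≠ Q := hQ₀.2
  have hcommQ₀ : (Q₀ : Subgroup G) ≤ centralizer ({x'} : Set G) := by
    intro y₀ hy₀
    rw [mem_centralizer_singleton_iff]
    set c : G := x' * y₀ * x'⁻¹ * y₀⁻¹ with hcdef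
    have hx'N : x' ∈ normalizer ((Q₀ : Subgroup G) : Set G) := smul_eq_iff'.1 (hfix Q₀ hQ₀c)
    have hcQ₀ : c ∈ (Q₀ : Subgroup G) :=
      (Q₀ : Subgroup G).mul_mem ((mem_normalizer_iff.1 hx'N y₀).1 hy₀) ((Q₀ : Subgroup G).inv_mem hy₀)
    have hy₀x : y₀ * x = x * y₀ := (mem_centralizer_iff.1 hQ₀c) y₀ hy₀
    have hy₀x' : y₀⁻¹ * x = x * y₀⁻¹ := by
      have : Commute y₀ x := hy₀x
      exact (this.inv_left).eq
    have hr : x ∈ centralizer (((y₀⁻¹ • Q : Sylow 5 G) : Subgroup G) : Set G) := mem_centralizer_smul hy₀x' hxQ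
    have hfr := hfix _ hr
    have hfr' : x'⁻¹ • (y₀⁻¹ • Q) = y₀⁻¹ • Q := by
      conv_lhs => rw [← hfr]
      exact inv_smul_smul x' _
    have hcQ : c • Q = Q := by
      rw [hcdef]
      calc (x' * y₀ * x'⁻¹ * y₀⁻¹) • Q = x' • (y₀ • (x'⁻¹ • (y₀⁻¹ • Q))) := by
            simp only [mul_smul]
        _ = x' • (y₀ • (y₀⁻¹ • Q)) := by rw [hfr']
        _ = x' • Q := by rw [smul_inv_smul]
        _ = Q := smul_eq_iff'.2 (centralizer_le_normalizer _ hx'Q)
    have hc1 : c = 1 := by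
      by_contra hne
      have hoo := orderOf_eq_of_mem_of_ne_one (by norm_num : Nat.Prime 5) (card_Q h Q₀) hcQ₀ hne
      have hm' := mem_of_orderOf_of_mem_normalizer Q hoo (smul_eq_iff'.1 hcQ)
      exact hQ₀Q (sylow_eq_of_mem_of_ne_one (card_Q h Q₀) hQc hcQ₀ hm' hne)
    have h3 : x' * y₀ * x'⁻¹ = y₀ := by
      have := mul_inv_eq_one.1 hc1
      exact this
    calc y₀ * x' = x' * y₀ * x'⁻¹ * x' := by rw [h3]
      _ = x' * y₀ := by group
  -- contradiction
  apply hQ₀Q
  apply sylow_eq_of_le_normalizer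
  refine le_trans (le_inf ?_ hcommQ₀) hM
  intro y hy
  rw [hmemH]
  exact (mem_centralizer_iff.1 hQ₀c) y hy

/-- Decomposition of the normalizer. -/
theorem F0 (Q : Sylow 5 G) {T : Subgroup G} (hTN : T ≤ normalizer ((Q : Subgroup G) : Set G)) (hT8 : Nat.card T = 8)
    {n : G} (hn' : n ∈ normalizer ((Q : Subgroup G) : Set G)) : ∃ y ∈ (Q : Subgroup G), ∃ t ∈ T, n = y * t := by
  refine exists_mul_of_card le_normalizer hTN ?_ ?_ hn'
  · intro x hx hxT
    have h1 := Subgroup.orderOf_dvd_natCard (Q : Subgroup G) hx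
    have h2 := Subgroup.orderOf_dvd_natCard T hxT
    rw [card_Q h Q] at h1
    rw [hT8] at h2
    exact orderOf_eq_one_iff.1 (Nat.eq_one_of_dvd_coprimes (by norm_num : Nat.Coprime 5 8) h1 h2)
  · rw [card_Q h Q, hT8, card_N h Q hn (k := 40) rfl]

theorem F1 (Q : Sylow 5 G) {T : Subgroup G} (hTN : T ≤ normalizer ((Q : Subgroup G) : Set G)) (hT8 : Nat.card T = 8)
    {x : G} (hxQ : x ∈ centralizer ((Q : Subgroup G) : Set G)) (hx2 : x ^ 2 = 1) : x ∈ T := by
  obtain ⟨y, hy, t, ht, rfl⟩ := F0 h hn Q hTN hT8 (centralizer_le_normalizer _ hxQ)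
  have hyx : y * (y * t) = (y * t) * y := (mem_centralizer_iff.1 hxQ) y hy
  have hyt : y * t = t * y := by
    have h1 : y * (y * t) = y * (t * y) := by rw [hyx, mul_assoc]
    exact mul_left_cancel h1
  have hs : y ^ 2 * t ^ 2 = 1 := by
    have hcm : Commute y t := hyt
    rw [← hcm.mul_pow]
    exact hx2
  have ht2 : t ^ 2 = (y ^ 2)⁻¹ := eq_inv_of_mul_eq_one_right hs
  have hQ2 : t ^ 2 ∈ (Q : Subgroup G) := by
    rw [ht2]
    exact (Q : Subgroup G).inv_mem ((Q : Subgroup G).pow_mem hy 2)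
  have hT2 : t ^ 2 ∈ T := T.pow_mem ht 2
  have h1 : t ^ 2 = 1 := by
    have h1 := Subgroup.orderOf_dvd_natCard (Q : Subgroup G) hQ2
    have h2 := Subgroup.orderOf_dvd_natCard T hT2
    rw [card_Q h Q] at h1
    rw [hT8] at h2
    exact orderOf_eq_one_iff.1 (Nat.eq_one_of_dvd_coprimes (by norm_num : Nat.Coprime 5 8) h1 h2)
  have hy2 : y ^ 2 = 1 := by
    rw [h1] at hs
    simpa using hs
  have hy5 : y ^ 5 = 1 := by
    have := pow_card_eq_one' (x := (⟨y, hy⟩ : (Q : Subgroup G)))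
    rw [card_Q h Q] at this
    exact congrArg Subtype.val this
  have hy1 : orderOf y = 1 := Nat.eq_one_of_dvd_coprimes (by norm_num : Nat.Coprime 5 2)
    (orderOf_dvd_of_pow_eq_one hy5) (orderOf_dvd_of_pow_eq_one hy2)
  rw [orderOf_eq_one_iff.1 hy1, one_mul]
  exact ht

theorem N_le_C (Q : Sylow 5 G) {T : Subgroup G} (hTN : T ≤ normalizer ((Q : Subgroup G) : Set G)) (hT8 : Nat.card T = 8)
    {x : G} (hxQ : x ∈ centralizer ((Q : Subgroup G) : Set G)) (hxT : ∀ t ∈ T, t * x = x * t) :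
    normalizer ((Q : Subgroup G) : Set G) ≤ centralizer ({x} : Set G) := by
  intro n hn'
  obtain ⟨y, hy, t, ht, rfl⟩ := F0 h hn Q hTN hT8 hn'
  rw [mem_centralizer_singleton_iff]
  have h1 : y * x = x * y := (mem_centralizer_iff.1 hxQ) y hy
  rw [mul_assoc, hxT t ht, ← mul_assoc, h1, mul_assoc]

end Cfsg.Agent.Lib.Order5040
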