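import Mathlib
import Cfsg.Agent.Lib.Order5040F
import Cfsg.Agent.Lib.Order5040E
import Cfsg.Agent.Lib.Order5040D

/-!
# No simple group of order 5040
-/

set_option autoImplicit false
set_option linter.unusedSectionVars false

namespace Cfsg.Agent.Lib.Order5040

open Subgroup Cfsg Cfsg.Agent.Lib.SmallGroups Cfsg.Agent.Lib.SmallGroups2 Cfsg.Agent.Lib.SmallGroups3
  Cfsg.Agent.Lib.SmallGroups4 Cfsg.Agent.Lib.Small168 Cfsg.Agent.Lib.Small168K Cfsg.Agent.Lib.TwoLocal
  Cfsg.Agent.Lib.TwoLocal2 Cfsg.Agent.Lib.TwoLocal3 Cfsg.Agent.Lib.ClassFix Cfsg.Agent.Lib.Order5040F0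

variable {G : Type*} [Group G] [Finite G] [IsSimpleGroup G] (h : Nat.card G = 5040)
include h

theorem F_S {T : Subgroup G} (hT8 : Nat.card T = 8) : ∃ (S : Sylow 2 G) (g : G), T ≤ (S : Subgroup G) ∧
    Nat.card (S : Subgroup G) = 16 ∧ g ∈ (S : Subgroup G) ∧ g ∉ T ∧ g ∈ normalizer (T : Set G) ∧ g ^ 2 ∈ T := by
  have hTp : IsPGroup 2 T := IsPGroup.of_card (n := 3) hT8
  obtain ⟨S, hTS⟩ := hTp.exists_le_sylow
  have hSc : Nat.card (S : Subgroup G) = 16 := by
    have := sylow_card_of_card_eq (p := 2) (a := 4) (m := 315) (by rw [h]; norm_num) (by norm_num) S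
    simpa using this
  have hlt : T < (S : Subgroup G) := by
    refine lt_of_le_of_ne hTS ?_
    intro e
    rw [e, hSc] at hT8
    norm_num at hT8
  obtain ⟨g, hgS, hgT, hgN⟩ := exists_mem_normalizer_of_lt (q := 2) S.isPGroup' hlt
  refine ⟨S, g, hTS, hSc, hgS, hgT, hgN, ?_⟩
  have h1 := card_mul_relIndex hTS
  rw [hT8, hSc] at h1
  have h2 : T.relIndex (S : Subgroup G) = 2 := by omega
  have h3 := Subgroup.sq_mem_of_index_two h2 (⟨g, hgS⟩ : (S : Subgroup G))
  rw [mem_subgroupOf] at h3
  exact h3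

variable (hn : Nat.card (Sylow 5 G) = 126)
include hn

theorem exists_inv_C (Q : Sylow 5 G) : ∃ x ∈ centralizer ((Q : Subgroup G) : Set G), orderOf x = 2 := by
  obtain ⟨r, hr, hc⟩ := relIndex_C h Q
  rw [card_N h Q hn (k := 40) rfl] at hc
  have hCev : 2 ∣ Nat.card (centralizer ((Q : Subgroup G) : Set G)) := by
    rcases hr with rfl | rfl <;> omega
  obtain ⟨x₀, hx₀⟩ := exists_prime_orderOf_dvd_card' (G := ↥(centralizer ((Q : Subgroup G) : Set G))) 2 hCev
  exact ⟨x₀, x₀.2, by rw [Subgroup.orderOf_coe]; exact hx₀⟩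

theorem F_nonab (Q : Sylow 5 G) {T : Subgroup G} (hTN : T ≤ normalizer ((Q : Subgroup G) : Set G))
    (hT8 : Nat.card T = 8) (hnon : ¬ ∀ a ∈ T, ∀ b ∈ T, a * b = b * a) : False := by
  push Not at hnon
  obtain ⟨a, ha, b, hb, hab⟩ := hnon
  obtain ⟨S, g, hTS, hSc, hgS, hgT, hgN, -⟩ := F_S h hT8
  obtain ⟨x₀, hx₀, hx₀o⟩ := exists_inv_C h hn Q
  have hx₀2 : x₀ ^ 2 = 1 := by rw [← hx₀o]; exact pow_orderOf_eq_one x₀
  have hx₀T := F1 h hn Q hTN hT8 hx₀ hx₀2
  have hx₀1 : x₀ ≠ 1 := by
    rintro rfl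
    rw [orderOf_one] at hx₀o
    norm_num at hx₀o
  -- a central involution in `K`
  let K : Subgroup T := (centralizer ((Q : Subgroup G) : Set G)).subgroupOf T
  have hKn : K.Normal := by
    refine ⟨fun k hk t => ?_⟩
    rw [mem_subgroupOf] at hk ⊢
    exact (mem_normalizer_iff.1 (normalizer_le_normalizer_centralizer _ (hTN t.2)) k).1 hk
  have hKne : K ≠ ⊥ := by
    intro e
    have h1 : (⟨x₀, hx₀T⟩ : T) ∈ K := by
      rw [mem_subgroupOf]
      exact hx₀
    rw [e, mem_bot] at h1
    exact hx₀1 (congrArg Subtype.val h1)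
  have hTp : IsPGroup 2 T := IsPGroup.of_card (n := 3) hT8
  obtain ⟨z', hz'K, hz'1, hz'c⟩ := Cfsg.Agent.Lib.PuigBasic.exists_mem_center_of_normal hTp K hKne
  set z : G := (z' : G) with hzdef
  have hzQ : z ∈ centralizer ((Q : Subgroup G) : Set G) := by
    have := hz'K
    rwa [mem_subgroupOf] at this
  have hzT : z ∈ T := z'.2
  have hz1 : z ≠ 1 := fun e => hz'1 (Subtype.ext e)
  have hzcent : ∀ t ∈ T, t * z = z * t := by
    intro t ht
    have := (Subgroup.mem_center_iff.1 hz'c) ⟨t, ht⟩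
    exact congrArg Subtype.val this
  -- the centre
  set ZT : Subgroup G := T ⊓ centralizer (T : Set G) with hZT
  set L : Subgroup G := T ⊓ centralizer ({a} : Set G) with hL
  have hZL : ZT ≤ L := by
    intro x hx
    refine Subgroup.mem_inf.2 ⟨hx.1, ?_⟩
    rw [mem_centralizer_singleton_iff]
    exact ((mem_centralizer_iff.1 hx.2) a ha).symm
  have hLd : Nat.card L ∣ 8 := by
    have h0 : Nat.card L ∣ Nat.card T := Subgroup.card_dvd_of_le inf_le_left
    rwa [hT8] at h0
  have hLne : Nat.card L ≠ 8 := by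
    intro e
    have h1 : L = T := Subgroup.eq_of_le_of_card_ge inf_le_left (by rw [e, hT8])
    have h2 : b ∈ L := by rw [h1]; exact hb
    have h3 := mem_centralizer_singleton_iff.1 h2.2
    exact hab h3.symm
  have hZd : Nat.card ZT ∣ Nat.card L := Subgroup.card_dvd_of_le hZL
  have hZne : Nat.card ZT ≠ Nat.card L := by
    intro e
    have h1 : ZT = L := Subgroup.eq_of_le_of_card_ge hZL (by rw [e])
    have h2 : a ∈ L := Subgroup.mem_inf.2 ⟨ha, by rw [mem_centralizer_singleton_iff]⟩
    rw [← h1] at h2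
    exact hab ((mem_centralizer_iff.1 h2.2) b hb).symm
  have hzZ : z ∈ ZT := ⟨hzT, mem_centralizer_iff.2 hzcent⟩
  have hZ1 : Nat.card ZT ≠ 1 := by
    intro e
    have h1 : ZT = ⊥ := Subgroup.card_eq_one.1 e
    rw [h1, mem_bot] at hzZ
    exact hz1 hzZ
  have hZ2 : Nat.card ZT = 2 := by
    have h3 : Nat.card L ∈ Nat.divisors 8 := Nat.mem_divisors.2 ⟨hLd, by norm_num⟩
    have h4 : Nat.divisors 8 = {1, 2, 4, 8} := by decide +kernel
    rw [h4] at h3
    simp only [Finset.mem_insert, Finset.mem_singleton] at h3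
    rcases h3 with h3 | h3 | h3 | h3
    · rw [h3] at hZd
      exact absurd (Nat.eq_one_of_dvd_one hZd) hZ1
    · rw [h3] at hZd hZne
      have := (Nat.dvd_prime Nat.prime_two).1 hZd
      omega
    · rw [h3] at hZd hZne
      have h5 : Nat.card ZT ∈ Nat.divisors 4 := Nat.mem_divisors.2 ⟨hZd, by norm_num⟩
      have h6 : Nat.divisors 4 = {1, 2, 4} := by decide +kernel
      rw [h6] at h5
      simp only [Finset.mem_insert, Finset.mem_singleton] at h5
      omega
    · exact absurd h3 hLne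
  have hz2 : z ^ 2 = 1 := by
    have := pow_card_eq_one' (x := (⟨z, hzZ⟩ : ZT))
    rw [hZ2] at this
    exact congrArg Subtype.val this
  have hzo : orderOf z = 2 := by
    have : Fact (Nat.Prime 2) := ⟨Nat.prime_two⟩
    exact orderOf_eq_prime hz2 hz1
  have huniq : ∀ x ∈ ZT, x ≠ 1 → x = z := by
    intro x hx hx1
    obtain ⟨y, hy, hyu⟩ := (Nat.card_eq_two_iff' (1 : ZT)).1 hZ2
    have h1 : (⟨x, hx⟩ : ZT) = y := hyu _ (fun e => hx1 (congrArg Subtype.val e))
    have h2 : (⟨z, hzZ⟩ : ZT) = y := hyu _ (fun e => hz1 (congrArg Subtype.val e))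
    have := h1.trans h2.symm
    exact congrArg Subtype.val this
  -- `g` fixes `z`
  have hgz : g * z * g⁻¹ = z := by
    apply huniq
    · refine Subgroup.mem_inf.2 ⟨(mem_normalizer_iff.1 hgN z).1 hzT, ?_⟩
      rw [mem_centralizer_iff]
      intro t ht
      have ht' : g⁻¹ * t * g ∈ T := by
        have := (mem_normalizer_iff.1 ((normalizer (T : Set G)).inv_mem hgN) t).1 ht
        simpa using this
      have h1 := hzcent _ ht'
      calc t * (g * z * g⁻¹) = g * ((g⁻¹ * t * g) * z) * g⁻¹ := by group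
        _ = g * (z * (g⁻¹ * t * g)) * g⁻¹ := by rw [h1]
        _ = g * z * g⁻¹ * t := by group
    · intro e
      apply hz1
      have : z = g⁻¹ * (g * z * g⁻¹) * g := by group
      rw [this, e]
      group
  have hgC : g ∈ centralizer ({z} : Set G) := by
    rw [mem_centralizer_singleton_iff]
    calc g * z = g * z * g⁻¹ * g := by group
      _ = z * g := by rw [hgz]
  have hTC : T ≤ centralizer ({z} : Set G) := by
    intro t ht
    rw [mem_centralizer_singleton_iff]
    exact hzcent t ht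
  have hSC : (S : Subgroup G) ≤ centralizer ({z} : Set G) :=
    le_of_two_mul_card hTS hTC hgS hgC hgT (by rw [hSc, hT8])
  have h16 : 16 ∣ Nat.card (centralizer ({z} : Set G)) := by
    have h0 := Subgroup.card_dvd_of_le hSC
    rwa [hSc] at h0
  have hNC := N_le_C h hn Q hTN hT8 hzQ hzcent
  have hc240 : Nat.card (centralizer ({z} : Set G)) = 240 := by
    rcases F_central h hn Q hz1 hzQ hNC with h0 | h0
    · rw [h0] at h16
      norm_num at h16
    · exact h0
  apply F_m6 h hn Q hzQ hzo hc240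
  intro x' hx'Q hconj
  have ho' : orderOf x' = 2 := by
    rw [← hzo]
    exact (orderOf_eq_of_isConj hconj).symm
  have hx'2 : x' ^ 2 = 1 := by rw [← ho']; exact pow_orderOf_eq_one x'
  have hx'1 : x' ≠ 1 := by
    rintro rfl
    rw [orderOf_one] at ho'
    norm_num at ho'
  have hx'T := F1 h hn Q hTN hT8 hx'Q hx'2
  have hc' : Nat.card (centralizer ({x'} : Set G)) = 240 := by
    obtain ⟨c, rfl⟩ := isConj_iff.1 hconj
    rw [card_centralizer_conj]
    exact hc240
  have hN' := F_240 h hn Q hx'1 hx'Q hc'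
  apply huniq _ _ hx'1
  refine Subgroup.mem_inf.2 ⟨hx'T, ?_⟩
  rw [mem_centralizer_iff]
  intro t ht
  exact mem_centralizer_singleton_iff.1 (hN' (hTN ht))

theorem F_A1 (Q : Sylow 5 G) {T : Subgroup G} (hTN : T ≤ normalizer ((Q : Subgroup G) : Set G))
    (hT8 : Nat.card T = 8) (hTab : ∀ a ∈ T, ∀ b ∈ T, a * b = b * a) {x : G}
    (hxQ : x ∈ centralizer ((Q : Subgroup G) : Set G)) (ho : orderOf x = 2) :
    Nat.card (centralizer ({x} : Set G)) = 40 := by
  have hx2 : x ^ 2 = 1 := by rw [← ho]; exact pow_orderOf_eq_one x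
  have hx1 : x ≠ 1 := by
    rintro rfl
    rw [orderOf_one] at ho
    norm_num at ho
  have hxT := F1 h hn Q hTN hT8 hxQ hx2
  have hN := N_le_C h hn Q hTN hT8 hxQ (fun t ht => hTab t ht x hxT)
  rcases F_central h hn Q hx1 hxQ hN with h40 | h240
  · exact h40
  exfalso
  by_cases hu : ∀ x' ∈ centralizer ((Q : Subgroup G) : Set G), IsConj x x' → x' = x
  · exact F_m6 h hn Q hxQ ho h240 hu
  push Not at hu
  obtain ⟨x', hx'Q, hconj, hne⟩ := hu
  have ho' : orderOf x' = 2 := by
    rw [← ho]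
    exact (orderOf_eq_of_isConj hconj).symm
  have hx'2 : x' ^ 2 = 1 := by rw [← ho']; exact pow_orderOf_eq_one x'
  have hx'T := F1 h hn Q hTN hT8 hx'Q hx'2
  have hN' := N_le_C h hn Q hTN hT8 hx'Q (fun t ht => hTab t ht x' hx'T)
  have hc' : Nat.card (centralizer ({x'} : Set G)) = 240 := by
    obtain ⟨c, rfl⟩ := isConj_iff.1 hconj
    rw [card_centralizer_conj]
    exact h240
  have hxx' : x * x' = x' * x := hTab x hxT x' hx'T
  have hNc := card_N h Q hn (k := 40) rfl
  set M : Subgroup G := centralizer ({x} : Set G) ⊓ centralizer ({x'} : Set G) with hMdef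
  have hNM : normalizer ((Q : Subgroup G) : Set G) ≤ M := le_inf hN hN'
  have hi5 := index_mod_of_normalizer_le (hp25 h) Q (card_Q h Q) M hNM
  have hM : Nat.card M * M.index = 5040 := by
    rw [Subgroup.card_mul_index, h]
  have h40d : 40 ∣ Nat.card M := by
    have h0 := Subgroup.card_dvd_of_le hNM
    rwa [hNc] at h0
  have hMd : Nat.card M ∣ 240 := by
    have h0 : Nat.card M ∣ Nat.card (centralizer ({x} : Set G)) := Subgroup.card_dvd_of_le inf_le_left
    rwa [h240] at h0
  have hcases : Nat.card M = 40 ∨ Nat.card M = 240 := by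
    have h3 : Nat.card M ∈ Nat.divisors 240 := Nat.mem_divisors.2 ⟨hMd, by norm_num⟩
    have h4 : (Nat.divisors 240).filter (fun d => 40 ∣ d) = {40, 80, 120, 240} := by decide +kernel
    have h5 : Nat.card M ∈ (Nat.divisors 240).filter (fun d => 40 ∣ d) := Finset.mem_filter.2 ⟨h3, h40d⟩
    rw [h4] at h5
    simp only [Finset.mem_insert, Finset.mem_singleton] at h5
    unfold Nat.ModEq at hi5
    rcases h5 with h5 | h5 | h5 | h5
    · exact Or.inl h5
    · rw [h5] at hM
      have : M.index = 63 := by omega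
      omega
    · rw [h5] at hM
      have : M.index = 42 := by omega
      omega
    · exact Or.inr h5
  rcases hcases with h0 | h0
  · have h1 : normalizer ((Q : Subgroup G) : Set G) = M :=
      Subgroup.eq_of_le_of_card_ge hNM (by rw [h0, hNc])
    exact Fx_arg h hn Q hxQ hx'Q ho' h240 hN hxx' (by rw [h1])
  · -- `C(x) = C(x')`
    have h1 : M = centralizer ({x} : Set G) := Subgroup.eq_of_le_of_card_ge inf_le_left (by rw [h0, h240])
    have h2 : M = centralizer ({x'} : Set G) := Subgroup.eq_of_le_of_card_ge inf_le_right (by rw [h0, hc'])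
    have h3 : centralizer ({x'} : Set G) = centralizer ({x} : Set G) := by rw [← h1, ← h2]
    obtain ⟨y, rfl⟩ := isConj_iff.1 hconj
    have hyN : y ∈ normalizer ((centralizer ({x} : Set G) : Subgroup G) : Set G) := by
      apply mem_normalizer_of_conj_le
      intro u hu
      rw [← h3, mem_centralizer_singleton_iff]
      have h4 := mem_centralizer_singleton_iff.1 hu
      calc y * u * y⁻¹ * (y * x * y⁻¹) = y * (u * x) * y⁻¹ := by group
        _ = y * (x * u) * y⁻¹ := by rw [h4]
        _ = y * x * y⁻¹ * (y * u * y⁻¹) := by group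
    have hyH : y ∉ centralizer ({x} : Set G) := by
      intro hy
      apply hne
      have h4 := mem_centralizer_singleton_iff.1 hy
      rw [h4]
      group
    set H : Subgroup G := centralizer ({x} : Set G) with hHdef
    have hHL : H ≤ normalizer (H : Set G) := le_normalizer
    have hLne : normalizer (H : Set G) ≠ ⊤ := by
      intro e
      rcases eq_bot_or_top_of_normalizer_eq_top H e with e' | e'
      · rw [e'] at h240
        simp at h240
      · rw [e', Subgroup.card_top, h] at h240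
        norm_num at h240
    have hge := index_ge8 h _ hLne
    have hL1 := Subgroup.card_mul_index (normalizer (H : Set G))
    rw [h] at hL1
    have hLd : 240 ∣ Nat.card (normalizer (H : Set G)) := by
      have h0 := Subgroup.card_dvd_of_le hHL
      rwa [h240] at h0
    have hLne2 : Nat.card (normalizer (H : Set G)) ≠ 240 := by
      intro e
      have h4 : H = normalizer (H : Set G) := Subgroup.eq_of_le_of_card_ge hHL (by rw [e, h240])
      apply hyH
      rw [h4]
      exact hyN
    obtain ⟨c, hc⟩ := hLd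
    rw [hc] at hL1 hLne2
    have hc1 : c ≠ 1 := by
      rintro rfl
      exact hLne2 rfl
    have hc0 : 0 < c := by
      rcases Nat.eq_zero_or_pos c with rfl | hc0
      · simp at hL1
      · exact hc0
    have hid : c * (normalizer (H : Set G)).index = 21 := by nlinarith
    have hc2 : c ∣ 21 := ⟨_, hid.symm⟩
    have hc3 : 3 ≤ c := by
      have h5 : c ∈ Nat.divisors 21 := Nat.mem_divisors.2 ⟨hc2, by norm_num⟩
      have h6 : Nat.divisors 21 = {1, 3, 7, 21} := by decide +kernel
      rw [h6] at h5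
      simp only [Finset.mem_insert, Finset.mem_singleton] at h5
      omega
    nlinarith

theorem F_ab (Q : Sylow 5 G) {T : Subgroup G} (hTN : T ≤ normalizer ((Q : Subgroup G) : Set G))
    (hT8 : Nat.card T = 8) (hTab : ∀ a ∈ T, ∀ b ∈ T, a * b = b * a) : False := by
  obtain ⟨S, g, hTS, hSc, hgS, hgT, hgN, hg2⟩ := F_S h hT8
  have hCx : ∀ x ∈ T, T ≤ centralizer ({x} : Set G) := by
    intro x hx t ht
    rw [mem_centralizer_singleton_iff]
    exact hTab t ht x hx
  have hA2 : ∀ x ∈ centralizer ((Q : Subgroup G) : Set G), orderOf x = 2 → g * x * g⁻¹ ≠ x := by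
    intro x hx ho e
    have hx2 : x ^ 2 = 1 := by rw [← ho]; exact pow_orderOf_eq_one x
    have hxT := F1 h hn Q hTN hT8 hx hx2
    have hgC : g ∈ centralizer ({x} : Set G) := by
      rw [mem_centralizer_singleton_iff]
      calc g * x = g * x * g⁻¹ * g := by group
        _ = x * g := by rw [e]
    have hSC : (S : Subgroup G) ≤ centralizer ({x} : Set G) :=
      le_of_two_mul_card hTS (hCx x hxT) hgS hgC hgT (by rw [hSc, hT8])
    have h0 := Subgroup.card_dvd_of_le hSC
    rw [hSc, F_A1 h hn Q hTN hT8 hTab hx ho] at h0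
    norm_num at h0
  obtain ⟨z, hzQ, hzo⟩ := exists_inv_C h hn Q
  have hz2 : z ^ 2 = 1 := by rw [← hzo]; exact pow_orderOf_eq_one z
  have hzT := F1 h hn Q hTN hT8 hzQ hz2
  have hz1 : z ≠ 1 := by
    rintro rfl
    rw [orderOf_one] at hzo
    norm_num at hzo
  have hzg := hA2 z hzQ hzo
  have hff : ∀ t ∈ T, g * (g * t * g⁻¹) * g⁻¹ = t := by
    intro t ht
    have h1 : g ^ 2 * t = t * g ^ 2 := hTab _ hg2 _ ht
    calc g * (g * t * g⁻¹) * g⁻¹ = g ^ 2 * t * (g ^ 2)⁻¹ := by rw [sq]; group
      _ = t := by rw [h1]; group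
  set K : Subgroup G := T ⊓ centralizer ((Q : Subgroup G) : Set G) with hKdef
  have hKd : Nat.card K ∣ 8 := by
    have h0 : Nat.card K ∣ Nat.card T := Subgroup.card_dvd_of_le inf_le_left
    rwa [hT8] at h0
  have hK2 : 2 ∣ Nat.card K := by
    rw [← hzo]
    exact Subgroup.orderOf_dvd_natCard K ⟨hzT, hzQ⟩
  have hK4 : ¬ 4 ∣ Nat.card K := by
    intro h4
    let K' : Subgroup G := K.map (MulAut.conj g).toMonoidHom
    have hK'T : K' ≤ T := by
      rintro _ ⟨k, hk, rfl⟩
      exact (mem_normalizer_iff.1 hgN k).1 hk.1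
    have hcK' : Nat.card K' = Nat.card K := Subgroup.card_map_of_injective (MulAut.conj g).injective
    have hle : K ≤ T := inf_le_left
    have hr1 := card_mul_relIndex hle
    have hr2 := card_mul_relIndex hK'T
    rw [hT8] at hr1 hr2
    rw [hcK'] at hr2
    have hr3 : (K ⊓ K').relIndex T ≤ K.relIndex T * K'.relIndex T := Subgroup.relIndex_inf_le
    have hr4 := card_mul_relIndex (show K ⊓ K' ≤ T from inf_le_left.trans hle)
    rw [hT8] at hr4
    obtain ⟨c, hc⟩ := h4
    have hc0 : 0 < c := by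
      rcases Nat.eq_zero_or_pos c with rfl | hc0
      · rw [hc] at hr1
        simp at hr1
      · exact hc0
    have hrK : K.relIndex T ≤ 2 := by
      rw [hc] at hr1
      nlinarith
    have hrK' : K'.relIndex T ≤ 2 := by
      rw [hc] at hr2
      nlinarith
    have hrr : (K ⊓ K').relIndex T ≤ 4 := by
      calc (K ⊓ K').relIndex T ≤ K.relIndex T * K'.relIndex T := hr3
        _ ≤ 2 * 2 := Nat.mul_le_mul hrK hrK'
        _ = 4 := by norm_num
    have hdvd : Nat.card ↥(K ⊓ K') ∣ 8 := ⟨_, hr4.symm⟩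
    have hev : 2 ∣ Nat.card ↥(K ⊓ K') := by
      have h3 : Nat.card ↥(K ⊓ K') ∈ Nat.divisors 8 := Nat.mem_divisors.2 ⟨hdvd, by norm_num⟩
      have h5 : Nat.divisors 8 = {1, 2, 4, 8} := by decide +kernel
      rw [h5] at h3
      simp only [Finset.mem_insert, Finset.mem_singleton] at h3
      rcases h3 with h3 | h3 | h3 | h3
      · rw [h3] at hr4
        omega
      all_goals omega
    obtain ⟨y, hy⟩ := exists_prime_orderOf_dvd_card' 2 hev
    have hyo : orderOf (y : G) = 2 := by rw [Subgroup.orderOf_coe]; exact hy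
    obtain ⟨k, hk, hky⟩ := y.2.2
    have hky' : g * k * g⁻¹ = (y : G) := hky
    have hgy : g * (y : G) * g⁻¹ = k := by
      rw [← hky']
      exact hff k hk.1
    have hkQ : k ∈ K := hk
    have hko : orderOf k = 2 := by
      rw [← hyo, ← hky']
      exact orderOf_eq_of_isConj (isConj_iff.2 ⟨g, rfl⟩)
    by_cases hky2 : k = y
    · apply hA2 (y : G) y.2.1.2 hyo
      rw [hgy, hky2]
    · have hyT : (y : G) ∈ T := y.2.1.1
      have hkT : k ∈ T := hk.1
      have hcomm : (y : G) * k = k * y := hTab _ hyT _ hkT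
      have hyy : (y : G) ^ 2 = 1 := by rw [← hyo]; exact pow_orderOf_eq_one (y : G)
      have hkk : k ^ 2 = 1 := by rw [← hko]; exact pow_orderOf_eq_one k
      have he2 : ((y : G) * k) ^ 2 = 1 := by
        have hcm : Commute (y : G) k := hcomm
        rw [hcm.mul_pow, hyy, hkk, one_mul]
      have he1 : (y : G) * k ≠ 1 := by
        intro e
        apply hky2
        have h6 : (y : G) = k⁻¹ := eq_inv_of_mul_eq_one_left e
        have h7 : k⁻¹ = k := by
          have : k * k = 1 := by rw [← sq]; exact hkk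
          exact inv_eq_of_mul_eq_one_left this
        rw [h6, h7]
      have heo : orderOf ((y : G) * k) = 2 := by
        have : Fact (Nat.Prime 2) := ⟨Nat.prime_two⟩
        exact orderOf_eq_prime he2 he1
      apply hA2 _ (Subgroup.mul_mem _ y.2.1.2 hk.2) heo
      have h8 : g * ((y : G) * k) * g⁻¹ = (g * (y : G) * g⁻¹) * (g * k * g⁻¹) := by group
      rw [h8, hgy, hky', hcomm]
  have hK2' : Nat.card K = 2 := by
    have h3 : Nat.card K ∈ Nat.divisors 8 := Nat.mem_divisors.2 ⟨hKd, by norm_num⟩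
    have h5 : Nat.divisors 8 = {1, 2, 4, 8} := by decide +kernel
    rw [h5] at h3
    simp only [Finset.mem_insert, Finset.mem_singleton] at h3
    omega
  obtain ⟨w, hwT, hw⟩ := exists_w (card_Q h Q) hTN hT8 hK2'
  have hw1 : w ^ 2 ≠ 1 := by
    intro e
    apply hw
    rw [e]
    exact Subgroup.one_mem _
  have hwz : w ^ 2 ≠ z := by
    intro e
    apply hw
    rw [e]
    exact hzQ
  obtain ⟨v, M, hv1, hvT, hfv, hMS, hM8, hMinv⟩ :=
    config hTab hT8 hTS hgS hgT hgN hg2 hzT hz2 hz1 hzg hwT hw1 hwz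
  have hindex2 : ∀ H : Subgroup G, H.index ≠ 2 := by
    intro H e
    by_cases hH : H = ⊤
    · rw [hH, Subgroup.index_top] at e
      norm_num at e
    · have := index_ge8 h H hH
      omega
  have hrel : M.relIndex (S : Subgroup G) = 2 := by
    have h1 := card_mul_relIndex hMS
    rw [hM8, hSc] at h1
    omega
  have hSi : ¬ 2 ∣ (S : Subgroup G).index := by
    have h1 := Subgroup.card_mul_index (S : Subgroup G)
    rw [hSc, h] at h1
    omega
  obtain ⟨k, hk⟩ := Cfsg.Agent.Lib.ThompsonTransfer.exists_conj_mem hindex2 (S : Subgroup G) M hMS hrel hSi z 1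
    (by simpa using hz2) (by
      rintro m g' ⟨m', rfl⟩ - -
      rw [pow_mul, hz2, one_pow]
      simp [M.one_mem])
  have hk2 : (k⁻¹ * z * k) ^ 2 = 1 := by
    have : (k⁻¹ * z * k) ^ 2 = k⁻¹ * z ^ 2 * k := by
      rw [sq, sq]
      group
    rw [this, hz2]
    group
  have hk1 : k⁻¹ * z * k ≠ 1 := by
    intro e
    apply hz1
    have : z = k * (k⁻¹ * z * k) * k⁻¹ := by group
    rw [this, e]
    group
  have hkv := hMinv _ hk hk2 hk1
  have hcv : Nat.card (centralizer ({v} : Set G)) = 40 := by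
    rw [← hkv]
    have h1 := card_centralizer_conj z k⁻¹
    rw [inv_inv] at h1
    rw [h1]
    exact F_A1 h hn Q hTN hT8 hTab hzQ hzo
  have hgC : g ∈ centralizer ({v} : Set G) := by
    rw [mem_centralizer_singleton_iff]
    calc g * v = g * v * g⁻¹ * g := by group
      _ = v * g := by rw [hfv]
  have hSC : (S : Subgroup G) ≤ centralizer ({v} : Set G) :=
    le_of_two_mul_card hTS (hCx v hvT) hgS hgC hgT (by rw [hSc, hT8])
  have h0 := Subgroup.card_dvd_of_le hSC
  rw [hSc, hcv] at h0
  norm_num at h0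

theorem case126 : False := by
  obtain ⟨Q⟩ : Nonempty (Sylow 5 G) := inferInstance
  obtain ⟨T, hTN, hT8⟩ := exists_subgroup_le_card (q := 2) (a := 3) (normalizer ((Q : Subgroup G) : Set G))
    (by rw [card_N h Q hn (k := 40) rfl]; norm_num)
  have hT8' : Nat.card T = 8 := by rw [hT8]; norm_num
  by_cases hTab : ∀ a ∈ T, ∀ b ∈ T, a * b = b * a
  · exact F_ab h hn Q hTN hT8' hTab
  · exact F_nonab h hn Q hTN hT8' hTab

end Cfsg.Agent.Lib.Order5040

namespace Cfsg.Agent.Lib.Order5040

/-- No simple group has order 5040. -/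
theorem card_ne_5040 {G : Type*} [Group G] [Finite G] [IsSimpleGroup G] : Nat.card G ≠ 5040 := by
  intro h
  rcases n5_cases h with hn | hn | hn | hn | hn | hn | hn
  · exact case6 h hn
  · exact case16 h hn
  · exact case21 h hn
  · exact case36 h hn
  · exact case56 h hn
  · exact case126 h hn
  · exact case336 h hn

end Cfsg.Agent.Lib.Order5040
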