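import Mathlib
import Cfsg.Agent.Lib.OrdR3640A
import Cfsg.Agent.S0974
import Cfsg.Agent.S0975
import Cfsg.Agent.S0976
import Cfsg.Agent.S0978
import Cfsg.Agent.S0979
import Cfsg.Agent.S0980

/-!
# The table for the orders in the range 3640 < |G| ≤ 6232: Sylow test, and the orders treated by direct citation
-/

set_option autoImplicit false
set_option linter.style.haveILetI false
set_option maxRecDepth 100000

namespace Cfsg.Agent.Lib.OrdR3640B

open Cfsg.Agent.Lib.OrdR3640A Cfsg.Agent.Lib.SmallGroups2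

/-- Primality test for small numbers. -/
def isP (p : ℕ) : Bool :=
  decide (2 ≤ p) && decide (p < 6400) && (List.range 80).all (fun d => decide (d < 2) || decide (p < d * d) || decide (p % d ≠ 0))

theorem prime_of_isP {p : ℕ} (h : isP p = true) : p.Prime := by
  simp only [isP, Bool.and_eq_true, decide_eq_true_eq, List.all_eq_true, List.mem_range, Bool.or_eq_true] at h
  obtain ⟨⟨h1, h2⟩, h3⟩ := h
  rw [Nat.prime_def_le_sqrt]
  refine ⟨h1, fun m hm hle hdvd => ?_⟩
  have hmm : m * m ≤ p := Nat.le_sqrt.1 hle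
  have hm80 : m < 80 := by
    by_contra hc
    have : 80 * 80 ≤ m * m := Nat.mul_le_mul (by omega) (by omega)
    omega
  rcases h3 m hm80 with (h4 | h4) | h4
  · omega
  · omega
  · exact h4 (Nat.mod_eq_zero_of_dvd hdvd)

/-- One row of the Sylow test. -/
def chk (n p a : ℕ) : Bool :=
  isP p && decide (1 ≤ a) && decide (p ^ a * (n / p ^ a) = n) && decide (n / p ^ a % p ≠ 0) &&
    (List.range (n / p ^ a / p + 1)).all (fun t => decide (t = 0) || decide (n / p ^ a % (1 + t * p) ≠ 0) ||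
      (decide (a = 1) && decide (Nat.gcd (n / p ^ a / (1 + t * p)) (p - 1) = 1)) ||
      (decide (1 + t * p < 40) && decide ((1 + t * p).factorial % (2 * n) ≠ 0)))

theorem chk_sound {G : Type*} [Group G] [Finite G] [IsSimpleGroup G] (hG : ¬ IsMulCommutative G) {n p a : ℕ}
    (h : chk n p a = true) (hc : Nat.card G = n) : False := by
  simp only [chk, Bool.and_eq_true, decide_eq_true_eq, List.all_eq_true, List.mem_range, Bool.or_eq_true] at h
  obtain ⟨⟨⟨⟨hp, ha⟩, hn⟩, hm⟩, hk⟩ := h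
  refine sylow_kill hG (prime_of_isP hp) ha hn.symm (fun hd => hm (Nat.mod_eq_zero_of_dvd hd)) hc ?_
  intro t ht ht0 hdvd
  rcases hk t (Finset.mem_range.1 ht) with ((h1 | h1) | h1) | h1
  · exact absurd h1 ht0
  · exact absurd (Nat.mod_eq_zero_of_dvd hdvd) h1
  · exact Or.inl h1
  · refine Or.inr ⟨h1.1, fun hd => h1.2 (Nat.mod_eq_zero_of_dvd hd)⟩

/-- The orders not treated by the Sylow test. -/
def listL : List ℕ := [3648, 3672, 3696, 3744, 3780, 3800, 3840, 3888, 3960, 3968, 4000, 4032, 4080, 4160, 4200, 4212, 4224, 4284, 4320, 4368, 4400, 4416, 4480, 4500, 4512, 4536, 4560, 4563, 4620, 4680, 4725, 4752, 4760, 4800, 4896, 4900, 4928, 4960, 5040, 5104, 5148, 5184, 5200, 5220, 5236, 5280, 5292, 5320, 5376, 5400, 5460, 5472, 5508, 5520, 5544, 5600, 5616, 5700, 5724, 5760, 5852, 5880, 5940, 5952, 6000, 6048, 6072, 6075, 6080, 6120, 6160]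

/-- Witness for the Sylow test for each number in the range, in order. -/
def witT : List (ℕ × ℕ) := [(331, 1), (607, 1), (3643, 1), (911, 1), (5, 1), (1823, 1), (521, 1), (0, 0), (89, 1), (73, 1), (1217, 1), (83, 1), (281, 1), (29, 1), (43, 1), (457, 1), (53, 1), (59, 1), (3659, 1), (61, 1), (523, 1), (1831, 1), (37, 1), (229, 1), (733, 1), (47, 1), (193, 1), (131, 1), (1223, 1), (367, 1), (3671, 1), (0, 0), (3673, 1), (167, 1), (3, 1), (919, 1), (3677, 1), (613, 1), (283, 1), (23, 1), (409, 1), (263, 1), (127, 1), (307, 1), (67, 1), (97, 1), (1229, 1), (461, 1), (31, 1), (41, 1), (3691, 1), (71, 1), (1231, 1), (1847, 1), (739, 1), (0, 0), (3697, 1), (43, 2), (137, 1), (37, 1), (3701, 1), (617, 1), (23, 2), (463, 1), (19, 1), (109, 1), (337, 1), (103, 1), (3709, 1), (53, 1), (1237, 1), (29, 1), (79, 1), (619, 1), (743, 1), (929, 1), (59, 1), (13, 2), (3719, 1), (31, 1), (61, 2), (1861, 1), (73, 1), (19, 1), (149, 1), (23, 1), (3727, 1), (233, 1), (113, 1), (373,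 1), (41, 1), (311, 1), (3733, 1), (1867, 1), (83, 1), (467, 1), (101, 1), (89, 1), (3739, 1), (17, 1), (43, 1), (1871, 1), (197, 1), (0, 0), (107, 1), (1873, 1), (1249, 1), (937, 1), (163, 1), (5, 4), (31, 1), (67, 1), (139, 1), (1877, 1), (751, 1), (313, 1), (17, 2), (1879, 1), (179, 1), (47, 1), (3761, 1), (19, 1), (71, 1), (941, 1), (251, 1), (269, 1), (3767, 1), (157, 1), (3769, 1), (29, 1), (419, 1), (41, 1), (11, 1), (37, 1), (151, 1), (59, 1), (1259, 1), (1889, 1), (3779, 1), (0, 0), (199, 1), (61, 1), (97, 1), (11, 1), (757, 1), (631, 1), (541, 1), (947, 1), (421, 1), (379, 1), (223, 1), (79, 1), (3793, 1), (271, 1), (23, 1), (73, 1), (3797, 1), (211, 1), (131, 1), (0, 0), (181, 1), (1901, 1), (3803, 1), (317, 1), (761, 1), (173, 1), (47, 1), (17, 1), (293, 1), (127, 1), (103, 1), (953, 1), (41, 1), (1907, 1), (109, 1), (53, 1), (347, 1), (83, 1), (67, 1), (191, 1), (3821, 1), (2, 1), (3823, 1), (239, 1), (17, 1), (1913, 1), (89, 1), (29, 1), (547, 1),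 (383, 1), (1277, 1), (479, 1), (3833, 1), (71, 1), (59, 1), (137, 1), (1279, 1), (101, 1), (349, 1), (0, 0), (167, 1), (113, 1), (61, 1), (31, 2), (769, 1), (641, 1), (3847, 1), (37, 1), (1283, 1), (11, 1), (3851, 1), (107, 1), (3853, 1), (47, 1), (257, 1), (241, 1), (29, 1), (643, 1), (227, 1), (193, 1), (13, 1), (1931, 1), (3863, 1), (23, 1), (773, 1), (1933, 1), (1289, 1), (967, 1), (73, 1), (43, 1), (79, 1), (11, 2), (1291, 1), (149, 1), (31, 1), (19, 1), (3877, 1), (277, 1), (431, 1), (97, 1), (3881, 1), (647, 1), (353, 1), (971, 1), (37, 1), (67, 1), (23, 1), (0, 0), (3889, 1), (389, 1), (1297, 1), (139, 1), (229, 1), (59, 1), (41, 1), (487, 1), (433, 1), (1949, 1), (557, 1), (13, 1), (83, 1), (1951, 1), (1301, 1), (61, 1), (71, 1), (7, 1), (3907, 1), (977, 1), (1303, 1), (23, 1), (3911, 1), (163, 1), (43, 1), (103, 1), (29, 1), (89, 1), (3917, 1), (653, 1), (3919, 1), (7, 2), (1307, 1), (53, 1), (3923, 1), (109, 1), (157, 1), (151, 1), (17, 1), (491, 1),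 (3929, 1), (131, 1), (3931, 1), (983, 1), (23, 1), (281, 1), (787, 1), (41, 1), (127, 1), (179, 1), (101, 1), (197, 1), (563, 1), (73, 1), (3943, 1), (29, 1), (263, 1), (1973, 1), (3947, 1), (47, 1), (359, 1), (79, 1), (439, 1), (19, 1), (67, 1), (659, 1), (113, 1), (43, 1), (1319, 1), (1979, 1), (107, 1), (0, 0), (233, 1), (283, 1), (1321, 1), (991, 1), (61, 1), (661, 1), (3967, 1), (0, 0), (7, 2), (397, 1), (19, 2), (331, 1), (137, 1), (1987, 1), (53, 1), (71, 1), (97, 1), (17, 1), (173, 1), (199, 1), (1327, 1), (181, 1), (569, 1), (83, 1), (797, 1), (1993, 1), (443, 1), (997, 1), (3989, 1), (19, 1), (307, 1), (499, 1), (11, 3), (1997, 1), (47, 1), (37, 1), (571, 1), (1999, 1), (43, 1), (0, 0), (4001, 1), (29, 1), (4003, 1), (11, 1), (89, 1), (2003, 1), (4007, 1), (167, 1), (211, 1), (401, 1), (191, 1), (59, 1), (4013, 1), (223, 1), (73, 1), (251, 1), (103, 1), (41, 1), (4019, 1), (67, 1), (4021, 1), (2011, 1), (149, 1), (503, 1), (23, 1), (61, 1), (4027, 1),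 (53, 1), (79, 1), (31, 1), (139, 1), (0, 0), (109, 1), (2017, 1), (269, 1), (1009, 1), (367, 1), (673, 1), (577, 1), (101, 1), (449, 1), (47, 1), (311, 1), (337, 1), (809, 1), (17, 2), (71, 1), (23, 1), (4049, 1), (2, 1), (4051, 1), (1013, 1), (193, 1), (2027, 1), (811, 1), (13, 2), (4057, 1), (2029, 1), (41, 1), (29, 1), (131, 1), (677, 1), (239, 1), (127, 1), (271, 1), (107, 1), (83, 1), (113, 1), (313, 1), (37, 1), (59, 1), (509, 1), (4073, 1), (97, 1), (163, 1), (1019, 1), (151, 1), (2039, 1), (4079, 1), (0, 0), (53, 1), (157, 1), (1361, 1), (1021, 1), (43, 1), (227, 1), (67, 1), (73, 1), (47, 1), (409, 1), (4091, 1), (31, 1), (4093, 1), (89, 1), (5, 1), (2, 12), (241, 1), (683, 1), (4099, 1), (41, 1), (1367, 1), (293, 1), (373, 1), (19, 1), (821, 1), (2053, 1), (37, 2), (79, 1), (587, 1), (137, 1), (4111, 1), (257, 1), (457, 1), (17, 1), (823, 1), (7, 3), (179, 1), (71, 1), (1373, 1), (103, 1), (317, 1), (229, 1), (31, 1), (1031, 1), (11, 1), (2063, 1), (4127,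 1), (43, 1), (4129, 1), (59, 1), (17, 1), (1033, 1), (4133, 1), (53, 1), (827, 1), (47, 1), (197, 1), (2069, 1), (4139, 1), (23, 1), (101, 1), (109, 1), (1381, 1), (37, 1), (829, 1), (691, 1), (29, 1), (61, 1), (461, 1), (83, 1), (593, 1), (173, 1), (4153, 1), (67, 1), (277, 1), (1039, 1), (4157, 1), (11, 1), (4159, 1), (0, 0), (73, 1), (2081, 1), (181, 1), (347, 1), (17, 1), (2083, 1), (463, 1), (521, 1), (379, 1), (139, 1), (97, 1), (149, 1), (107, 1), (2087, 1), (167, 1), (29, 1), (4177, 1), (2089, 1), (199, 1), (19, 1), (113, 1), (41, 1), (89, 1), (523, 1), (31, 1), (23, 1), (79, 1), (349, 1), (71, 1), (419, 1), (127, 1), (131, 1), (599, 1), (233, 1), (839, 1), (1049, 1), (1399, 1), (2099, 1), (19, 1), (0, 0), (4201, 1), (191, 1), (467, 1), (1051, 1), (29, 2), (701, 1), (601, 1), (263, 1), (61, 1), (421, 1), (4211, 1), (0, 0), (383, 1), (43, 1), (281, 1), (31, 1), (4217, 1), (19, 1), (4219, 1), (211, 1), (67, 1), (2111, 1), (103, 1), (0, 0), (13, 2), (2113,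 1), (1409, 1), (151, 1), (4229, 1), (47, 1), (4231, 1), (23, 2), (83, 1), (73, 1), (11, 2), (353, 1), (223, 1), (163, 1), (157, 1), (53, 1), (4241, 1), (101, 1), (4243, 1), (1061, 1), (283, 1), (193, 1), (137, 1), (59, 1), (607, 1), (17, 1), (109, 1), (1063, 1), (4253, 1), (709, 1), (37, 1), (19, 1), (43, 1), (2129, 1), (4259, 1), (71, 1), (4261, 1), (2131, 1), (29, 1), (41, 1), (853, 1), (79, 1), (251, 1), (97, 1), (1423, 1), (61, 1), (4271, 1), (89, 1), (4273, 1), (2137, 1), (19, 1), (1069, 1), (47, 1), (31, 1), (389, 1), (107, 1), (1427, 1), (2141, 1), (4283, 1), (0, 0), (857, 1), (2143, 1), (1429, 1), (67, 1), (4289, 1), (13, 1), (613, 1), (37, 1), (53, 1), (113, 1), (859, 1), (179, 1), (4297, 1), (307, 1), (1433, 1), (43, 1), (23, 1), (239, 1), (331, 1), (269, 1), (41, 1), (2153, 1), (73, 1), (359, 1), (139, 1), (431, 1), (479, 1), (11, 1), (227, 1), (719, 1), (863, 1), (83, 1), (1439, 1), (127, 1), (617, 1), (0, 0), (149, 1), (2161, 1), (131, 1), (47, 1),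 (173, 1), (103, 1), (4327, 1), (541, 1), (37, 1), (433, 1), (71, 1), (19, 2), (619, 1), (197, 1), (17, 2), (271, 1), (4337, 1), (241, 1), (4339, 1), (31, 1), (1447, 1), (167, 1), (101, 1), (181, 1), (79, 1), (53, 1), (23, 1), (1087, 1), (4349, 1), (29, 1), (229, 1), (17, 1), (1451, 1), (311, 1), (67, 1), (11, 2), (4357, 1), (2179, 1), (1453, 1), (109, 1), (89, 1), (727, 1), (4363, 1), (1091, 1), (97, 1), (59, 1), (397, 1), (0, 0), (257, 1), (23, 1), (47, 1), (1093, 1), (4373, 1), (3, 7), (7, 1), (547, 1), (1459, 1), (199, 1), (151, 1), (73, 1), (337, 1), (313, 1), (487, 1), (137, 1), (877, 1), (43, 1), (107, 1), (1097, 1), (11, 1), (439, 1), (4391, 1), (61, 1), (191, 1), (13, 3), (293, 1), (157, 1), (4397, 1), (733, 1), (83, 1), (0, 0), (163, 1), (71, 1), (37, 1), (367, 1), (881, 1), (2203, 1), (113, 1), (29, 1), (4409, 1), (2, 1), (401, 1), (1103, 1), (1471, 1), (2207, 1), (883, 1), (0, 0), (631, 1), (47, 2), (491, 1), (17, 1), (4421, 1), (67, 1), (4423, 1), (79,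 1), (59, 1), (2213, 1), (233, 1), (41, 1), (103, 1), (443, 1), (211, 1), (277, 1), (31, 1), (739, 1), (887, 1), (1109, 1), (29, 1), (317, 1), (193, 1), (37, 1), (4441, 1), (2221, 1), (1481, 1), (101, 1), (127, 1), (13, 1), (4447, 1), (139, 1), (1483, 1), (89, 1), (4451, 1), (53, 1), (73, 1), (131, 1), (11, 1), (557, 1), (4457, 1), (743, 1), (13, 1), (223, 1), (1487, 1), (97, 1), (4463, 1), (31, 1), (47, 1), (29, 1), (1489, 1), (1117, 1), (109, 1), (149, 1), (263, 1), (43, 1), (71, 1), (2237, 1), (179, 1), (373, 1), (37, 1), (2239, 1), (1493, 1), (0, 0), (4481, 1), (83, 1), (4483, 1), (59, 1), (23, 1), (2243, 1), (641, 1), (17, 1), (67, 2), (449, 1), (499, 1), (1123, 1), (4493, 1), (107, 1), (31, 1), (281, 1), (1499, 1), (173, 1), (409, 1), (0, 0), (643, 1), (2251, 1), (79, 1), (563, 1), (53, 1), (751, 1), (4507, 1), (23, 1), (167, 1), (41, 1), (347, 1), (0, 0), (4513, 1), (61, 1), (43, 1), (1129, 1), (4517, 1), (251, 1), (4519, 1), (113, 1), (137, 1), (19, 1),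 (4523, 1), (29, 1), (181, 1), (73, 1), (503, 1), (283, 1), (647, 1), (151, 1), (197, 1), (103, 1), (1511, 1), (2267, 1), (907, 1), (0, 0), (349, 1), (2269, 1), (89, 1), (227, 1), (239, 1), (757, 1), (59, 1), (71, 1), (101, 1), (2273, 1), (4547, 1), (379, 1), (4549, 1), (13, 1), (41, 1), (569, 1), (157, 1), (23, 1), (911, 1), (67, 1), (31, 1), (53, 1), (97, 1), (0, 0), (4561, 1), (2281, 1), (0, 0), (163, 1), (83, 1), (761, 1), (4567, 1), (571, 1), (1523, 1), (457, 1), (653, 1), (127, 1), (269, 1), (2287, 1), (61, 1), (13, 1), (199, 1), (109, 1), (241, 1), (229, 1), (509, 1), (79, 1), (4583, 1), (191, 1), (131, 1), (2293, 1), (139, 1), (37, 1), (353, 1), (17, 1), (4591, 1), (41, 1), (1531, 1), (2297, 1), (919, 1), (383, 1), (4597, 1), (19, 1), (73, 1), (23, 1), (107, 1), (59, 1), (4603, 1), (1151, 1), (307, 1), (47, 1), (271, 1), (2, 9), (419, 1), (461, 1), (53, 1), (1153, 1), (659, 1), (769, 1), (71, 1), (577, 1), (19, 1), (2309, 1), (149, 1), (0, 0), (4621, 1),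 (2311, 1), (67, 1), (17, 2), (37, 1), (257, 1), (661, 1), (89, 1), (1543, 1), (463, 1), (421, 1), (193, 1), (113, 1), (331, 1), (103, 1), (61, 1), (4637, 1), (773, 1), (4639, 1), (29, 1), (17, 1), (211, 1), (4643, 1), (43, 1), (929, 1), (101, 1), (1549, 1), (83, 1), (4649, 1), (31, 1), (4651, 1), (1163, 1), (47, 1), (179, 1), (19, 1), (97, 1), (4657, 1), (137, 1), (1553, 1), (233, 1), (79, 1), (37, 1), (4663, 1), (53, 1), (311, 1), (2333, 1), (359, 1), (389, 1), (29, 1), (467, 1), (173, 1), (73, 1), (4673, 1), (41, 1), (17, 1), (167, 1), (1559, 1), (2339, 1), (4679, 1), (0, 0), (151, 1), (2341, 1), (223, 1), (1171, 1), (937, 1), (71, 1), (109, 1), (293, 1), (521, 1), (67, 1), (4691, 1), (23, 1), (19, 2), (2347, 1), (313, 1), (587, 1), (61, 1), (29, 1), (127, 1), (47, 1), (1567, 1), (2351, 1), (4703, 1), (7, 2), (941, 1), (181, 1), (523, 1), (107, 1), (277, 1), (157, 1), (673, 1), (31, 1), (1571, 1), (2357, 1), (41, 1), (131, 1), (89, 1), (337, 1), (13, 1), (59,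 1), (4721, 1), (787, 1), (4723, 1), (1181, 1), (0, 0), (139, 1), (163, 1), (197, 1), (4729, 1), (43, 1), (83, 1), (13, 2), (4733, 1), (263, 1), (947, 1), (37, 1), (1579, 1), (103, 1), (677, 1), (79, 1), (431, 1), (2371, 1), (31, 1), (593, 1), (73, 1), (113, 1), (101, 1), (1187, 1), (1583, 1), (19, 1), (4751, 1), (0, 0), (97, 1), (2377, 1), (317, 1), (41, 1), (71, 1), (61, 1), (4759, 1), (0, 0), (23, 2), (2381, 1), (433, 1), (397, 1), (953, 1), (2383, 1), (227, 1), (149, 1), (251, 1), (53, 1), (367, 1), (1193, 1), (43, 1), (31, 1), (191, 1), (199, 1), (281, 1), (2389, 1), (59, 1), (239, 1), (683, 1), (797, 1), (4783, 1), (23, 1), (29, 1), (2393, 1), (4787, 1), (19, 1), (4789, 1), (479, 1), (1597, 1), (599, 1), (4793, 1), (47, 1), (137, 1), (109, 1), (41, 1), (2399, 1), (4799, 1), (0, 0), (4801, 1), (7, 4), (1601, 1), (1201, 1), (31, 2), (89, 1), (23, 1), (601, 1), (229, 1), (37, 1), (283, 1), (401, 1), (4813, 1), (83, 1), (107, 1), (43, 1), (4817, 1), (73, 1), (79,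 1), (241, 1), (1607, 1), (2411, 1), (53, 1), (67, 1), (193, 1), (127, 1), (1609, 1), (71, 1), (439, 1), (23, 1), (4831, 1), (151, 1), (179, 1), (2417, 1), (967, 1), (31, 1), (691, 1), (59, 1), (1613, 1), (11, 2), (103, 1), (269, 1), (167, 1), (173, 1), (19, 1), (2423, 1), (131, 1), (101, 1), (373, 1), (97, 1), (11, 1), (1213, 1), (211, 1), (809, 1), (971, 1), (607, 1), (1619, 1), (347, 1), (113, 1), (3, 5), (4861, 1), (17, 1), (1621, 1), (19, 1), (139, 1), (811, 1), (157, 1), (1217, 1), (541, 1), (487, 1), (4871, 1), (29, 1), (443, 1), (2437, 1), (13, 1), (53, 1), (4877, 1), (271, 1), (41, 1), (61, 1), (1627, 1), (2441, 1), (257, 1), (37, 1), (977, 1), (349, 1), (181, 1), (47, 1), (4889, 1), (163, 1), (73, 1), (1223, 1), (233, 1), (2447, 1), (89, 1), (0, 0), (83, 1), (79, 1), (71, 1), (0, 0), (29, 1), (43, 1), (4903, 1), (613, 1), (109, 1), (223, 1), (701, 1), (409, 1), (4909, 1), (491, 1), (1637, 1), (307, 1), (17, 3), (2, 1), (983, 1), (1229, 1), (149, 1), (2459,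 1), (4919, 1), (41, 1), (37, 1), (107, 1), (547, 1), (1231, 1), (197, 1), (821, 1), (379, 1), (0, 0), (53, 1), (29, 1), (4931, 1), (137, 1), (4933, 1), (2467, 1), (47, 1), (617, 1), (4937, 1), (823, 1), (449, 1), (19, 1), (61, 1), (353, 1), (4943, 1), (103, 1), (43, 1), (2473, 1), (97, 1), (1237, 1), (101, 1), (2, 1), (4951, 1), (619, 1), (127, 1), (2477, 1), (991, 1), (59, 1), (4957, 1), (67, 1), (29, 1), (0, 0), (41, 1), (827, 1), (709, 1), (73, 1), (331, 1), (191, 1), (4967, 1), (23, 1), (4969, 1), (71, 1), (1657, 1), (113, 1), (4973, 1), (829, 1), (199, 1), (311, 1), (79, 1), (131, 1), (383, 1), (83, 1), (293, 1), (53, 1), (151, 1), (89, 1), (997, 1), (277, 1), (4987, 1), (43, 1), (1663, 1), (499, 1), (31, 1), (13, 1), (4993, 1), (227, 1), (37, 1), (1249, 1), (263, 1), (17, 1), (4999, 1), (5, 4), (1667, 1), (61, 1), (5003, 1), (139, 1), (13, 1), (2503, 1), (1669, 1), (313, 1), (5009, 1), (167, 1), (5011, 1), (179, 1), (557, 1), (109, 1), (59, 1), (19, 1), (173,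 1), (193, 1), (239, 1), (251, 1), (5021, 1), (31, 1), (5023, 1), (157, 1), (67, 1), (359, 1), (457, 1), (419, 1), (107, 1), (503, 1), (43, 1), (37, 1), (719, 1), (839, 1), (53, 1), (1259, 1), (73, 1), (229, 1), (5039, 1), (0, 0), (71, 2), (2521, 1), (41, 2), (97, 1), (1009, 1), (29, 2), (103, 1), (631, 1), (17, 1), (101, 1), (5051, 1), (421, 1), (163, 1), (19, 2), (337, 1), (79, 1), (389, 1), (281, 1), (5059, 1), (23, 1), (241, 1), (2531, 1), (83, 1), (211, 1), (1013, 1), (149, 1), (563, 1), (181, 1), (137, 1), (13, 2), (461, 1), (317, 1), (89, 1), (59, 1), (29, 1), (47, 1), (5077, 1), (2539, 1), (1693, 1), (127, 1), (5081, 1), (11, 2), (23, 1), (41, 1), (113, 1), (2543, 1), (5087, 1), (53, 1), (727, 1), (509, 1), (1697, 1), (67, 1), (463, 1), (283, 1), (1019, 1), (7, 2), (1699, 1), (2549, 1), (5099, 1), (17, 1), (5101, 1), (2551, 1), (7, 1), (0, 0), (1021, 1), (37, 1), (5107, 1), (1277, 1), (131, 1), (73, 1), (269, 1), (71, 1), (5113, 1), (2557, 1), (31, 1), (1279,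 1), (43, 1), (853, 1), (5119, 1), (2, 10), (569, 1), (197, 1), (109, 1), (61, 1), (41, 1), (233, 1), (1709, 1), (641, 1), (223, 1), (19, 1), (733, 1), (1283, 1), (59, 1), (151, 1), (79, 1), (107, 1), (467, 1), (367, 1), (571, 1), (257, 1), (97, 1), (857, 1), (139, 1), (643, 1), (7, 3), (83, 1), (5147, 1), (0, 0), (271, 1), (103, 1), (101, 1), (23, 1), (5153, 1), (859, 1), (1031, 1), (1289, 1), (191, 1), (2579, 1), (67, 1), (43, 1), (397, 1), (89, 1), (1721, 1), (1291, 1), (1033, 1), (41, 1), (5167, 1), (19, 1), (1723, 1), (47, 1), (5171, 1), (431, 1), (739, 1), (199, 1), (23, 1), (647, 1), (167, 1), (863, 1), (5179, 1), (37, 1), (157, 1), (2591, 1), (73, 1), (0, 0), (61, 1), (2593, 1), (19, 1), (1297, 1), (5189, 1), (173, 1), (179, 1), (59, 1), (577, 1), (53, 1), (1039, 1), (433, 1), (5197, 1), (113, 1), (1733, 1), (0, 0), (743, 1), (17, 2), (43, 1), (1301, 1), (347, 1), (137, 1), (127, 1), (31, 1), (5209, 1), (521, 1), (193, 1), (1303, 1), (401, 1), (79, 1), (149,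 1), (163, 1), (47, 1), (2609, 1), (307, 1), (0, 0), (227, 1), (373, 1), (1741, 1), (653, 1), (19, 1), (67, 1), (5227, 1), (1307, 1), (83, 1), (523, 1), (5231, 1), (109, 1), (5233, 1), (2617, 1), (349, 1), (0, 0), (5237, 1), (97, 1), (31, 1), (131, 1), (1747, 1), (2621, 1), (107, 1), (23, 1), (1049, 1), (61, 1), (53, 1), (41, 1), (181, 1), (2, 1), (89, 1), (101, 1), (103, 1), (71, 1), (1051, 1), (73, 1), (751, 1), (239, 1), (1753, 1), (263, 1), (5261, 1), (877, 1), (277, 1), (47, 1), (5, 1), (2633, 1), (229, 1), (439, 1), (479, 1), (31, 1), (251, 1), (659, 1), (5273, 1), (293, 1), (211, 1), (1319, 1), (1759, 1), (29, 1), (5279, 1), (0, 0), (5281, 1), (139, 1), (587, 1), (1321, 1), (151, 1), (881, 1), (311, 1), (661, 1), (43, 1), (23, 2), (37, 1), (0, 0), (79, 1), (2647, 1), (353, 1), (331, 1), (5297, 1), (883, 1), (757, 1), (53, 1), (31, 1), (241, 1), (5303, 1), (13, 1), (1061, 1), (379, 1), (61, 1), (1327, 1), (5309, 1), (59, 1), (113, 1), (83, 1), (23, 1), (2657,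 1), (1063, 1), (443, 1), (409, 1), (2659, 1), (197, 1), (0, 0), (313, 1), (887, 1), (5323, 1), (11, 3), (71, 1), (2663, 1), (761, 1), (37, 1), (73, 2), (41, 1), (1777, 1), (43, 1), (5333, 1), (127, 1), (97, 1), (29, 1), (593, 1), (157, 1), (281, 1), (89, 1), (109, 1), (2671, 1), (137, 1), (167, 1), (1069, 1), (2, 1), (5347, 1), (191, 1), (1783, 1), (107, 1), (5351, 1), (223, 1), (101, 1), (2677, 1), (17, 1), (103, 1), (487, 1), (47, 1), (233, 1), (67, 1), (1787, 1), (383, 1), (173, 1), (149, 1), (37, 1), (2683, 1), (1789, 1), (61, 1), (59, 1), (179, 1), (131, 1), (79, 1), (199, 1), (2687, 1), (43, 1), (0, 0), (283, 1), (2689, 1), (163, 1), (269, 1), (5381, 1), (23, 1), (769, 1), (673, 1), (359, 1), (2693, 1), (5387, 1), (449, 1), (317, 1), (11, 1), (599, 1), (337, 1), (5393, 1), (31, 1), (83, 1), (71, 1), (257, 1), (2699, 1), (5399, 1), (0, 0), (491, 1), (73, 1), (1801, 1), (193, 1), (47, 1), (53, 1), (5407, 1), (13, 2), (601, 1), (541, 1), (773, 1), (41, 1), (5413,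 1), (2707, 1), (19, 2), (677, 1), (5417, 1), (43, 1), (5419, 1), (271, 1), (139, 1), (2711, 1), (29, 1), (113, 1), (31, 1), (2713, 1), (67, 1), (59, 1), (89, 1), (181, 1), (5431, 1), (97, 1), (1811, 1), (19, 1), (1087, 1), (151, 1), (5437, 1), (2719, 1), (37, 1), (17, 1), (5441, 1), (907, 1), (5443, 1), (1361, 1), (5, 1), (389, 1), (419, 1), (227, 1), (5449, 1), (109, 1), (79, 1), (47, 1), (41, 1), (101, 1), (1091, 1), (31, 1), (107, 1), (2729, 1), (103, 1), (0, 0), (127, 1), (2731, 1), (607, 1), (683, 1), (1093, 1), (911, 1), (71, 1), (1367, 1), (1823, 1), (547, 1), (5471, 1), (0, 0), (421, 1), (23, 1), (73, 1), (37, 2), (5477, 1), (83, 1), (5479, 1), (137, 1), (29, 1), (2741, 1), (5483, 1), (457, 1), (1097, 1), (211, 1), (59, 1), (7, 3), (499, 1), (61, 1), (19, 1), (1373, 1), (1831, 1), (67, 1), (157, 1), (229, 1), (239, 1), (2749, 1), (47, 1), (5, 3), (5501, 1), (131, 1), (5503, 1), (43, 1), (367, 1), (2753, 1), (5507, 1), (0, 0), (787, 1), (29, 1), (167, 1),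 (53, 1), (149, 1), (919, 1), (1103, 1), (197, 1), (613, 1), (89, 1), (5519, 1), (0, 0), (5521, 1), (251, 1), (263, 1), (1381, 1), (17, 1), (307, 1), (5527, 1), (691, 1), (97, 1), (79, 1), (5531, 1), (461, 1), (503, 1), (2767, 1), (41, 1), (173, 1), (113, 1), (71, 1), (191, 1), (277, 1), (1847, 1), (163, 1), (241, 1), (0, 0), (1109, 1), (59, 1), (43, 2), (73, 1), (179, 1), (2, 1), (61, 1), (347, 1), (617, 1), (2777, 1), (101, 1), (463, 1), (5557, 1), (397, 1), (109, 1), (139, 1), (83, 1), (103, 1), (5563, 1), (107, 1), (53, 1), (23, 1), (293, 1), (29, 1), (5569, 1), (557, 1), (619, 1), (199, 1), (5573, 1), (929, 1), (223, 1), (41, 1), (13, 2), (2789, 1), (797, 1), (31, 1), (5581, 1), (2791, 1), (1861, 1), (349, 1), (1117, 1), (19, 1), (151, 1), (127, 1), (23, 1), (43, 1), (5591, 1), (233, 1), (47, 1), (2797, 1), (373, 1), (1399, 1), (193, 1), (311, 1), (509, 1), (0, 0), (1867, 1), (2801, 1), (431, 1), (467, 1), (59, 1), (2803, 1), (89, 1), (701, 1), (79, 1), (17,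 1), (181, 1), (61, 1), (1871, 1), (401, 1), (1123, 1), (0, 0), (137, 1), (53, 2), (1873, 1), (281, 1), (73, 1), (937, 1), (5623, 1), (19, 1), (5, 4), (97, 1), (331, 1), (67, 1), (433, 1), (563, 1), (1877, 1), (11, 1), (131, 1), (313, 1), (23, 1), (1409, 1), (1879, 1), (2819, 1), (5639, 1), (47, 1), (5641, 1), (31, 1), (19, 1), (83, 1), (1129, 1), (941, 1), (5647, 1), (353, 1), (269, 1), (113, 1), (5651, 1), (157, 1), (5653, 1), (257, 1), (29, 1), (101, 1), (5657, 1), (41, 1), (5659, 1), (283, 1), (37, 1), (149, 1), (809, 1), (59, 1), (103, 1), (2833, 1), (1889, 1), (109, 1), (5669, 1), (2, 1), (107, 1), (709, 1), (61, 1), (2837, 1), (227, 1), (11, 1), (811, 1), (167, 1), (631, 1), (71, 1), (23, 1), (947, 1), (5683, 1), (29, 1), (379, 1), (2843, 1), (47, 1), (79, 1), (5689, 1), (569, 1), (271, 1), (1423, 1), (5693, 1), (73, 1), (67, 1), (89, 1), (211, 1), (37, 1), (139, 1), (0, 0), (5701, 1), (2851, 1), (1901, 1), (31, 1), (163, 1), (317, 1), (439, 1), (1427, 1),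 (173, 1), (571, 1), (5711, 1), (17, 1), (197, 1), (2857, 1), (127, 1), (1429, 1), (5717, 1), (953, 1), (43, 1), (13, 1), (1907, 1), (2861, 1), (97, 1), (0, 0), (229, 1), (409, 1), (83, 1), (179, 1), (337, 1), (191, 1), (521, 1), (1433, 1), (13, 1), (61, 1), (37, 1), (239, 1), (5737, 1), (151, 1), (1913, 1), (41, 1), (5741, 1), (29, 1), (5743, 1), (359, 1), (383, 1), (17, 1), (821, 1), (479, 1), (5749, 1), (23, 1), (71, 1), (719, 1), (523, 1), (137, 1), (1151, 1), (1439, 1), (101, 1), (2879, 1), (443, 1), (0, 0), (823, 1), (67, 1), (113, 1), (131, 1), (1153, 1), (31, 2), (79, 1), (103, 1), (641, 1), (577, 1), (199, 1), (37, 1), (251, 1), (2887, 1), (11, 1), (19, 2), (109, 1), (107, 1), (5779, 1), (17, 2), (47, 1), (59, 1), (5783, 1), (241, 1), (89, 1), (263, 1), (643, 1), (1447, 1), (827, 1), (193, 1), (5791, 1), (181, 1), (1931, 1), (2897, 1), (61, 1), (23, 1), (31, 1), (223, 1), (1933, 1), (29, 1), (5801, 1), (967, 1), (829, 1), (1451, 1), (43, 1), (2903, 1),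 (5807, 1), (11, 2), (157, 1), (83, 1), (149, 1), (1453, 1), (5813, 1), (2, 1), (1163, 1), (727, 1), (277, 1), (2909, 1), (23, 2), (97, 1), (5821, 1), (71, 1), (647, 1), (7, 1), (233, 1), (971, 1), (5827, 1), (47, 1), (67, 1), (53, 1), (17, 1), (3, 6), (307, 1), (2917, 1), (389, 1), (1459, 1), (449, 1), (139, 1), (5839, 1), (73, 1), (59, 1), (127, 1), (5843, 1), (487, 1), (167, 1), (79, 1), (1949, 1), (43, 1), (5849, 1), (13, 1), (5851, 1), (0, 0), (1951, 1), (2927, 1), (1171, 1), (61, 1), (5857, 1), (101, 1), (7, 1), (293, 1), (5861, 1), (977, 1), (41, 1), (733, 1), (23, 1), (419, 1), (5867, 1), (163, 1), (5869, 1), (587, 1), (103, 1), (367, 1), (839, 1), (89, 1), (47, 1), (113, 1), (653, 1), (2939, 1), (5879, 1), (0, 0), (5881, 1), (173, 1), (53, 1), (1471, 1), (107, 1), (109, 1), (29, 2), (23, 1), (151, 1), (31, 1), (137, 1), (491, 1), (83, 1), (421, 1), (131, 1), (67, 1), (5897, 1), (983, 1), (347, 1), (59, 1), (281, 1), (227, 1), (5903, 1), (41, 1), (1181,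 1), (2953, 1), (179, 1), (211, 1), (311, 1), (197, 1), (257, 1), (739, 1), (73, 1), (2957, 1), (13, 2), (29, 1), (97, 1), (269, 1), (1973, 1), (37, 1), (191, 1), (47, 1), (5923, 1), (1481, 1), (79, 1), (2963, 1), (5927, 1), (13, 1), (11, 2), (593, 1), (659, 1), (1483, 1), (349, 1), (43, 1), (1187, 1), (53, 1), (1979, 1), (2969, 1), (5939, 1), (0, 0), (457, 1), (2971, 1), (283, 1), (743, 1), (41, 1), (991, 1), (313, 1), (1487, 1), (661, 1), (5, 2), (541, 1), (0, 0), (5953, 1), (229, 1), (397, 1), (1489, 1), (37, 1), (331, 1), (101, 1), (149, 1), (1987, 1), (271, 1), (89, 1), (71, 1), (1193, 1), (157, 1), (17, 1), (373, 1), (127, 1), (199, 1), (853, 1), (1493, 1), (181, 1), (103, 1), (239, 1), (83, 1), (139, 1), (61, 1), (1993, 1), (23, 1), (5981, 1), (997, 1), (193, 1), (17, 1), (19, 1), (73, 1), (5987, 1), (499, 1), (113, 1), (599, 1), (1997, 1), (107, 1), (461, 1), (37, 1), (109, 1), (1499, 1), (1999, 1), (2999, 1), (857, 1), (0, 0), (353, 1), (3001, 1), (29,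 1), (79, 1), (1201, 1), (11, 1), (6007, 1), (751, 1), (2003, 1), (601, 1), (6011, 1), (167, 1), (859, 1), (97, 1), (401, 1), (47, 1), (547, 1), (59, 1), (463, 1), (43, 1), (223, 1), (3011, 1), (317, 1), (251, 1), (241, 1), (131, 1), (41, 1), (137, 1), (6029, 1), (67, 1), (163, 1), (29, 1), (2011, 1), (431, 1), (71, 1), (503, 1), (6037, 1), (3019, 1), (61, 1), (151, 1), (863, 1), (53, 1), (6043, 1), (1511, 1), (31, 1), (3023, 1), (6047, 1), (0, 0), (263, 1), (11, 2), (2017, 1), (89, 1), (6053, 1), (1009, 1), (173, 1), (757, 1), (673, 1), (233, 1), (83, 1), (101, 1), (29, 1), (433, 1), (47, 1), (379, 1), (1213, 1), (337, 1), (6067, 1), (41, 1), (17, 2), (607, 1), (467, 1), (0, 0), (6073, 1), (3037, 1), (0, 0), (31, 1), (103, 1), (1013, 1), (6079, 1), (0, 0), (2027, 1), (3041, 1), (79, 1), (13, 2), (1217, 1), (179, 1), (2029, 1), (761, 1), (6089, 1), (5, 1), (6091, 1), (1523, 1), (677, 1), (277, 1), (53, 1), (127, 1), (67, 1), (3049, 1), (107, 1), (61, 1), (6101,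 1), (113, 1), (359, 1), (109, 1), (37, 1), (71, 1), (197, 1), (509, 1), (149, 1), (47, 1), (97, 1), (191, 1), (6113, 1), (1019, 1), (1223, 1), (139, 1), (2039, 1), (23, 1), (211, 1), (0, 0), (6121, 1), (3061, 1), (157, 1), (1531, 1), (7, 2), (1021, 1), (557, 1), (383, 1), (227, 1), (613, 1), (6131, 1), (73, 1), (6133, 1), (3067, 1), (409, 1), (59, 1), (19, 2), (31, 1), (877, 1), (307, 1), (89, 1), (83, 1), (6143, 1), (2, 11), (1229, 1), (439, 1), (683, 1), (53, 1), (43, 1), (41, 1), (6151, 1), (769, 1), (293, 1), (181, 1), (1231, 1), (19, 1), (131, 1), (3079, 1), (2053, 1), (0, 0), (101, 1), (79, 1), (6163, 1), (67, 1), (137, 1), (3083, 1), (881, 1), (257, 1), (199, 1), (617, 1), (17, 1), (1543, 1), (6173, 1), (7, 3), (19, 1), (193, 1), (71, 1), (3089, 1), (167, 1), (103, 1), (883, 1), (281, 1), (229, 1), (773, 1), (1237, 1), (1031, 1), (269, 1), (17, 1), (2063, 1), (619, 1), (151, 1), (43, 1), (563, 1), (163, 1), (59, 1), (1549, 1), (6197, 1), (1033, 1), (6199,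 1), (31, 1), (53, 1), (443, 1), (6203, 1), (47, 1), (73, 1), (107, 1), (2069, 1), (97, 1), (887, 1), (23, 1), (6211, 1), (1553, 1), (109, 1), (239, 1), (113, 1), (37, 1), (6217, 1), (3109, 1), (691, 1), (311, 1), (6221, 1), (61, 1), (127, 1), (389, 1), (83, 1), (283, 1), (479, 1), (173, 1), (6229, 1), (89, 1), (67, 1), (41, 1)]

def checkAll : ℕ → List (ℕ × ℕ) → Bool
  | n, [] => decide (n = 6233)
  | n, r :: l => (listL.elem n || chk n r.1 r.2) && checkAll (n + 1) l

theorem checkAll_cover : ∀ (l : List (ℕ × ℕ)) (n : ℕ), checkAll n l = true →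
    ∀ k, n ≤ k → k < 6233 → k ∈ listL ∨ ∃ p a, chk k p a = true := by
  intro l
  induction l with
  | nil =>
    intro n h k h1 h2
    simp only [checkAll, decide_eq_true_eq] at h
    omega
  | cons r l ih =>
    intro n h k h1 h2
    simp only [checkAll, Bool.and_eq_true, Bool.or_eq_true] at h
    obtain ⟨h3, h4⟩ := h
    rcases Nat.eq_or_lt_of_le h1 with rfl | h5
    · rcases h3 with h3 | h3
      · left
        exact List.elem_iff.1 h3
      · right
        exact ⟨_, _, h3⟩
    · exact ih (n + 1) h4 k h5 h2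

theorem checkAll_true : checkAll 3641 witT = true := by decide +kernel

/-- Every number in the range is in `listL` or passes the Sylow test. -/
theorem cover {k : ℕ} (h1 : 3640 < k) (h2 : k ≤ 6232) : k ∈ listL ∨ ∃ p a, chk k p a = true :=
  checkAll_cover witT 3641 checkAll_true k h1 (by omega)

section Orders

variable {G : Type*} [Group G] [Finite G] [IsSimpleGroup G] (hG : ¬ IsMulCommutative G)
include hG

theorem ne_3648 : Nat.card G ≠ 3648 := Cfsg.Agent.S0974.result

theorem ne_3744 : Nat.card G ≠ 3744 := Cfsg.Agent.S0975.result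

theorem ne_4032 : Nat.card G ≠ 4032 := Cfsg.Agent.S0976.result

theorem ne_5040 : Nat.card G ≠ 5040 := Cfsg.Agent.S0978.result

theorem ne_5472 : Nat.card G ≠ 5472 := Cfsg.Agent.S0979.result

theorem ne_5760 : Nat.card G ≠ 5760 := Cfsg.Agent.S0980.result

theorem ne_3888 : Nat.card G ≠ 3888 := ne_of_burnside hG (p := 2) (q := 3) (a := 4) (b := 5) (by norm_num) (by norm_num)

theorem ne_3968 : Nat.card G ≠ 3968 := ne_of_burnside hG (p := 2) (q := 31) (a := 7) (b := 1) (by norm_num) (by norm_num)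

theorem ne_4000 : Nat.card G ≠ 4000 := ne_of_burnside hG (p := 2) (q := 5) (a := 5) (b := 3) (by norm_num) (by norm_num)

theorem ne_4563 : Nat.card G ≠ 4563 := ne_of_burnside hG (p := 3) (q := 13) (a := 3) (b := 2) (by norm_num) (by norm_num)

theorem ne_5184 : Nat.card G ≠ 5184 := ne_of_burnside hG (p := 2) (q := 3) (a := 6) (b := 4) (by norm_num) (by norm_num)

theorem ne_6075 : Nat.card G ≠ 6075 := ne_of_burnside hG (p := 3) (q := 5) (a := 5) (b := 2) (by norm_num) (by norm_num)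

theorem ne_3672 : Nat.card G ≠ 3672 := ne_of_large hG (p := 17) (by norm_num) (by norm_num) (by norm_num) (by norm_num) (by norm_num)

theorem ne_3800 : Nat.card G ≠ 3800 := ne_of_large hG (p := 19) (by norm_num) (by norm_num) (by norm_num) (by norm_num) (by norm_num)

theorem ne_4284 : Nat.card G ≠ 4284 := ne_of_large hG (p := 17) (by norm_num) (by norm_num) (by norm_num) (by norm_num) (by norm_num)

theorem ne_4416 : Nat.card G ≠ 4416 := ne_of_large hG (p := 23) (by norm_num) (by norm_num) (by norm_num) (by norm_num) (by norm_num)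

theorem ne_4512 : Nat.card G ≠ 4512 := ne_of_large hG (p := 47) (by norm_num) (by norm_num) (by norm_num) (by norm_num) (by norm_num)

theorem ne_4560 : Nat.card G ≠ 4560 := ne_of_large hG (p := 19) (by norm_num) (by norm_num) (by norm_num) (by norm_num) (by norm_num)

theorem ne_4760 : Nat.card G ≠ 4760 := ne_of_large hG (p := 17) (by norm_num) (by norm_num) (by norm_num) (by norm_num) (by norm_num)

theorem ne_4896 : Nat.card G ≠ 4896 := ne_of_large hG (p := 17) (by norm_num) (by norm_num) (by norm_num) (by norm_num) (by norm_num)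

theorem ne_4960 : Nat.card G ≠ 4960 := ne_of_large hG (p := 31) (by norm_num) (by norm_num) (by norm_num) (by norm_num) (by norm_num)

theorem ne_5104 : Nat.card G ≠ 5104 := ne_of_large hG (p := 29) (by norm_num) (by norm_num) (by norm_num) (by norm_num) (by norm_num)

theorem ne_5220 : Nat.card G ≠ 5220 := ne_of_large hG (p := 29) (by norm_num) (by norm_num) (by norm_num) (by norm_num) (by norm_num)

theorem ne_5320 : Nat.card G ≠ 5320 := ne_of_large hG (p := 19) (by norm_num) (by norm_num) (by norm_num) (by norm_num) (by norm_num)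

theorem ne_5520 : Nat.card G ≠ 5520 := ne_of_large hG (p := 23) (by norm_num) (by norm_num) (by norm_num) (by norm_num) (by norm_num)

theorem ne_5700 : Nat.card G ≠ 5700 := ne_of_large hG (p := 19) (by norm_num) (by norm_num) (by norm_num) (by norm_num) (by norm_num)

theorem ne_5724 : Nat.card G ≠ 5724 := ne_of_large hG (p := 53) (by norm_num) (by norm_num) (by norm_num) (by norm_num) (by norm_num)

theorem ne_5852 : Nat.card G ≠ 5852 := ne_of_large hG (p := 19) (by norm_num) (by norm_num) (by norm_num) (by norm_num) (by norm_num)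

theorem ne_5952 : Nat.card G ≠ 5952 := ne_of_large hG (p := 31) (by norm_num) (by norm_num) (by norm_num) (by norm_num) (by norm_num)

theorem ne_6080 : Nat.card G ≠ 6080 := ne_of_large hG (p := 19) (by norm_num) (by norm_num) (by norm_num) (by norm_num) (by norm_num)

theorem ne_4212 : Nat.card G ≠ 4212 := ne_of_four hG (p := 13) (q := 3) (a := 1) (b := 4) (by norm_num) (by norm_num) (by norm_num) (by norm_num) (by norm_num)

theorem ne_4500 : Nat.card G ≠ 4500 := ne_of_four hG (p := 3) (q := 5) (a := 2) (b := 3) (by norm_num) (by norm_num) (by norm_num) (by norm_num) (by norm_num)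

theorem ne_4900 : Nat.card G ≠ 4900 := ne_of_four hG (p := 5) (q := 7) (a := 2) (b := 2) (by norm_num) (by norm_num) (by norm_num) (by norm_num) (by norm_num)

theorem ne_5292 : Nat.card G ≠ 5292 := ne_of_four hG (p := 7) (q := 3) (a := 2) (b := 3) (by norm_num) (by norm_num) (by norm_num) (by norm_num) (by norm_num)

theorem ne_3840 : Nat.card G ≠ 3840 := ne_of_three hG (p := 5) (q := 2) (a := 1) (b := 8) (by norm_num) (by norm_num) (by norm_num) (by norm_num) (by norm_num) (by norm_num)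

theorem ne_4800 : Nat.card G ≠ 4800 := ne_of_three hG (p := 5) (q := 2) (a := 2) (b := 6) (by norm_num) (by norm_num) (by norm_num) (by norm_num) (by norm_num) (by norm_num)

theorem ne_5376 : Nat.card G ≠ 5376 := ne_of_three hG (p := 7) (q := 2) (a := 1) (b := 8) (by norm_num) (by norm_num) (by norm_num) (by norm_num) (by norm_num) (by norm_num)

theorem ne_3696 : Nat.card G ≠ 3696 := by
  haveI : Fact (Nat.Prime 11) := ⟨by norm_num⟩
  exact not_card_third hG (p := 11) (m := 336) (by norm_num) (by norm_num) (by clear hG; decide +kernel)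

theorem ne_3960 : Nat.card G ≠ 3960 := by
  haveI : Fact (Nat.Prime 11) := ⟨by norm_num⟩
  exact not_card_third hG (p := 11) (m := 360) (by norm_num) (by norm_num) (by clear hG; decide +kernel)

theorem ne_4160 : Nat.card G ≠ 4160 := by
  haveI : Fact (Nat.Prime 13) := ⟨by norm_num⟩
  exact not_card_third hG (p := 13) (m := 320) (by norm_num) (by norm_num) (by clear hG; decide +kernel)

theorem ne_4224 : Nat.card G ≠ 4224 := by
  haveI : Fact (Nat.Prime 11) := ⟨by norm_num⟩
  exact not_card_third hG (p := 11) (m := 384) (by norm_num) (by norm_num) (by clear hG; decide +kernel)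

theorem ne_4368 : Nat.card G ≠ 4368 := by
  haveI : Fact (Nat.Prime 13) := ⟨by norm_num⟩
  exact not_card_third hG (p := 13) (m := 336) (by norm_num) (by norm_num) (by clear hG; decide +kernel)

theorem ne_4400 : Nat.card G ≠ 4400 := by
  haveI : Fact (Nat.Prime 11) := ⟨by norm_num⟩
  exact not_card_third hG (p := 11) (m := 400) (by norm_num) (by norm_num) (by clear hG; decide +kernel)

theorem ne_4680 : Nat.card G ≠ 4680 := by
  haveI : Fact (Nat.Prime 13) := ⟨by norm_num⟩
  exact not_card_third hG (p := 13) (m := 360) (by norm_num) (by norm_num) (by clear hG; decide +kernel)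

theorem ne_4752 : Nat.card G ≠ 4752 := by
  haveI : Fact (Nat.Prime 11) := ⟨by norm_num⟩
  exact not_card_third hG (p := 11) (m := 432) (by norm_num) (by norm_num) (by clear hG; decide +kernel)

theorem ne_4928 : Nat.card G ≠ 4928 := by
  haveI : Fact (Nat.Prime 11) := ⟨by norm_num⟩
  exact not_card_third hG (p := 11) (m := 448) (by norm_num) (by norm_num) (by clear hG; decide +kernel)

theorem ne_5148 : Nat.card G ≠ 5148 := by
  haveI : Fact (Nat.Prime 13) := ⟨by norm_num⟩
  exact not_card_third hG (p := 13) (m := 396) (by norm_num) (by norm_num) (by clear hG; decide +kernel)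

theorem ne_5200 : Nat.card G ≠ 5200 := by
  haveI : Fact (Nat.Prime 13) := ⟨by norm_num⟩
  exact not_card_third hG (p := 13) (m := 400) (by norm_num) (by norm_num) (by clear hG; decide +kernel)

theorem ne_5236 : Nat.card G ≠ 5236 := by
  haveI : Fact (Nat.Prime 17) := ⟨by norm_num⟩
  exact not_card_third hG (p := 17) (m := 308) (by norm_num) (by norm_num) (by clear hG; decide +kernel)

theorem ne_5280 : Nat.card G ≠ 5280 := by
  haveI : Fact (Nat.Prime 11) := ⟨by norm_num⟩
  exact not_card_third hG (p := 11) (m := 480) (by norm_num) (by norm_num) (by clear hG; decide +kernel)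

theorem ne_5508 : Nat.card G ≠ 5508 := by
  haveI : Fact (Nat.Prime 17) := ⟨by norm_num⟩
  exact not_card_third hG (p := 17) (m := 324) (by norm_num) (by norm_num) (by clear hG; decide +kernel)

theorem ne_5544 : Nat.card G ≠ 5544 := by
  haveI : Fact (Nat.Prime 11) := ⟨by norm_num⟩
  exact not_card_third hG (p := 11) (m := 504) (by norm_num) (by norm_num) (by clear hG; decide +kernel)

theorem ne_5940 : Nat.card G ≠ 5940 := by
  haveI : Fact (Nat.Prime 11) := ⟨by norm_num⟩
  exact not_card_third hG (p := 11) (m := 540) (by norm_num) (by norm_num) (by clear hG; decide +kernel)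

theorem ne_6120 : Nat.card G ≠ 6120 := by
  haveI : Fact (Nat.Prime 17) := ⟨by norm_num⟩
  exact not_card_third hG (p := 17) (m := 360) (by norm_num) (by norm_num) (by clear hG; decide +kernel)

theorem ne_6160 : Nat.card G ≠ 6160 := by
  haveI : Fact (Nat.Prime 11) := ⟨by norm_num⟩
  exact not_card_third hG (p := 11) (m := 560) (by norm_num) (by norm_num) (by clear hG; decide +kernel)


end Orders

end Cfsg.Agent.Lib.OrdR3640B
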