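-- Shared library: `Ac` has index 2 with no parity hypothesis on the dimension.
import Mathlib
import Cfsg.Agent.Lib.OrthAc

set_option autoImplicit false
set_option linter.unusedSectionVars false
set_option linter.unusedSimpArgs false
set_option linter.unusedVariables false

namespace Cfsg.Agent.Lib.OrthAcOdd

open Module
open scoped commutatorElement
open Cfsg.Agent.Lib.OrthGroup Cfsg.Agent.Lib.OrthOmega Cfsg.Agent.Lib.OrthSiegel2 Cfsg.Agent.Lib.OrthSpin Cfsg.Agent.Lib.OrthAc

variable {F V : Type*} [Field F] [AddCommGroup V] [Module F V] [FiniteDimensional F V]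
variable {Q : QuadraticForm F V}
variable [Fintype F] [DecidableEq F]

/-- The degenerate plane. -/
theorem reflO_mul_mem_Ac_of_deg' (hQ : (B Q).Nondegenerate) (h2 : (2 : F) ≠ 0) (hOG : O Q ≤ G Q) {c : F} (hc : c ≠ 0)
    (h5 : Fintype.card F = 3 → 5 ≤ finrank F V)
    {v w : V} (hv : Q v ≠ 0) (hvw : Q v = Q w) (hclass : quadraticChar F (Q v) ≠ quadraticChar F c)
    (hdeg : B Q v w = 2 * Q v) : reflO Q v * reflO Q w ∈ Ac Q c := by
  set d := Q v with hd
  have h2d : 2 * d ≠ 0 := mul_ne_zero h2 hv
  set u : V := v - w with hu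
  by_cases hu0 : u = 0
  · have : v = w := sub_eq_zero.mp hu0
    rw [← this, reflO_mul_self]
    exact one_mem _
  have hQu : Q u = 0 := by
    rw [hu, Q_sub, hdeg, ← hd, ← hvw]
    ring
  have hvu : B Q v u = 0 := by
    rw [hu, map_sub, hdeg, B_self, ← hd]
    ring
  have huv : B Q u v = 0 := by rw [B_comm]; exact hvu
  -- a hyperbolic partner orthogonal to `v`
  obtain ⟨t₀, ht₀⟩ : ∃ t, B Q u t ≠ 0 := by
    by_contra hcon
    push Not at hcon
    exact hu0 (hQ.1 _ hcon)
  obtain ⟨t, hut⟩ : ∃ t, B Q u t = 1 := by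
    refine ⟨(B Q u t₀)⁻¹ • t₀, ?_⟩
    rw [map_smul, smul_eq_mul]
    exact inv_mul_cancel₀ ht₀
  set e : F := (2 * d)⁻¹ with he
  have he2 : e * (2 * d) = 1 := inv_mul_cancel₀ h2d
  set t' : V := t - (e * B Q v t) • v with ht'
  have hvt' : B Q v t' = 0 := by
    rw [ht', map_sub, map_smul, B_self, ← hd, smul_eq_mul]
    linear_combination (-B Q v t) * he2
  have hut' : B Q u t' = 1 := by
    rw [ht', map_sub, map_smul, huv, hut]
    simp
  set u' : V := t' - Q t' • u with hu'
  have hQu' : Q u' = 0 := by
    rw [hu', Q_sub, Q_smul, hQu, map_smul, smul_eq_mul, B_comm, hut']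
    ring
  have hvu' : B Q v u' = 0 := by
    rw [hu', map_sub, map_smul, hvt', hvu]
    simp
  have huu' : B Q u u' = 1 := by
    rw [hu', map_sub, map_smul, hut', B_self, hQu]
    simp
  have huu : B Q u u = 0 := by rw [B_self, hQu, mul_zero]
  have hw_eq : w = v - u := by rw [hu]; abel
  have hdim : 3 ≤ finrank F V := by
    have hli : LinearIndependent F ![v, u, u'] := by
      rw [Fintype.linearIndependent_iff]
      intro g hg i
      have hg' : g 0 • v + g 1 • u + g 2 • u' = 0 := by
        have := hg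
        simpa [Fin.sum_univ_three] using this
      have h1 := congrArg (B Q v) hg'
      have h3 := congrArg (B Q u) hg'
      have h4 := congrArg (B Q u') hg'
      simp only [map_add, map_smul, map_zero, smul_eq_mul, hvu, hvu', huv, huu', huu, B_self, hQu, hQu', ← hd, B_comm Q u' u, B_comm Q u' v] at h1 h3 h4
      have g0 : g 0 = 0 := by
        have : g 0 * (2 * d) = 0 := by linear_combination h1
        exact (mul_eq_zero.mp this).resolve_right h2d
      have g2 : g 2 = 0 := by linear_combination h3
      have g1 : g 1 = 0 := by linear_combination h4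
      fin_cases i
      · exact g0
      · exact g1
      · exact g2
    have := hli.fintype_card_le_finrank
    simpa using this
  obtain ⟨z, hz1, hz2, hz3⟩ : ∃ z, Q z = d ∧ (B Q v z) ^ 2 ≠ 4 * d ^ 2 ∧ (B Q z w) ^ 2 ≠ 4 * d ^ 2 := by
    have h4d : 4 * d ^ 2 ≠ 0 := by
      have : 4 * d ^ 2 = (2 * d) ^ 2 := by ring
      rw [this]
      exact pow_ne_zero _ h2d
    by_cases hq : Fintype.card F = 3
    · have hn6 : 5 ≤ finrank F V := h5 hq
      obtain ⟨z, hz, hvz, huz⟩ := exists_norm_perp hQ h2 (k := 1) (fun _ => v) (fun _ => hv)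
        (fun i j hij => absurd (Subsingleton.elim i j) hij) hQu (fun _ => hvu) (Or.inl (by omega)) d
      have hvz' : B Q v z = 0 := hvz 0
      refine ⟨z, hz, ?_, ?_⟩
      · rw [hvz']
        simpa using h4d.symm
      · have : B Q z w = 0 := by
          rw [B_comm, hw_eq, map_sub, LinearMap.sub_apply, hvz', huz]
          simp
        rw [this]
        simpa using h4d.symm
    · -- choose γ outside {0, ±2d}
      have hcard : 3 < Fintype.card F := by
        have h1 : 1 < Fintype.card F := Fintype.one_lt_card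
        have hchar : ringChar F ≠ 2 := by
          intro h
          apply h2
          have h3 : ((2 : ℕ) : F) = 0 := by
            rw [CharP.cast_eq_zero_iff F (ringChar F)]
            rw [h]
          simpa using h3
        have hodd := FiniteField.odd_card_of_char_ne_two hchar
        omega
      obtain ⟨γ, hγ⟩ : ∃ γ : F, γ ∉ ({0, 2 * d, -(2 * d)} : Finset F) := by
        by_contra hcon
        push Not at hcon
        have h5 : (Finset.univ : Finset F) ⊆ {0, 2 * d, -(2 * d)} := fun x _ => hcon x
        have h6 := Finset.card_le_card h5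
        have h7 : ({0, 2 * d, -(2 * d)} : Finset F).card ≤ 3 := Finset.card_le_three
        rw [Finset.card_univ] at h6
        omega
      simp only [Finset.mem_insert, Finset.mem_singleton, not_or] at hγ
      obtain ⟨hγ0, hγ1, hγ2⟩ := hγ
      set z : V := (d * γ⁻¹) • u + γ • u' with hz
      refine ⟨z, ?_, ?_, ?_⟩
      · rw [hz, Q_add, Q_smul, Q_smul, hQu, hQu', map_smul, map_smul, LinearMap.smul_apply, huu']
        simp only [smul_eq_mul]
        field_simp
        ring
      · have : B Q v z = 0 := by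
          rw [hz, map_add, map_smul, map_smul, hvu, hvu']
          simp
        rw [this]
        simpa using h4d.symm
      · have : B Q z w = -γ := by
          rw [B_comm, hw_eq, map_sub, LinearMap.sub_apply, hz, map_add, map_add, map_smul, map_smul, map_smul, map_smul,
            hvu, hvu', huu, huu']
          simp
        rw [this]
        intro h
        have h8 : (γ - 2 * d) * (γ + 2 * d) = 0 := by linear_combination h
        rcases mul_eq_zero.mp h8 with h9 | h9
        · exact hγ1 (sub_eq_zero.mp h9)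
        · exact hγ2 (eq_neg_of_add_eq_zero_left h9)
  have hz0 : Q z ≠ 0 := by rw [hz1]; exact hv
  have hzc : quadraticChar F (Q z) ≠ quadraticChar F c := by rw [hz1]; exact hclass
  have h1 := reflO_mul_mem_Ac_of_nondeg hQ h2 hOG hc hv hz1.symm hclass hz2
  have h3 := reflO_mul_mem_Ac_of_nondeg hQ h2 hOG hc hz0 (hz1.trans hvw) hzc (by rw [hz1]; exact hz3)
  have e' : reflO Q v * reflO Q w = (reflO Q v * reflO Q z) * (reflO Q z * reflO Q w) := by
    calc reflO Q v * reflO Q w = reflO Q v * (reflO Q z * reflO Q z) * reflO Q w := by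
          rw [reflO_mul_self, mul_one]
      _ = _ := by group
  rw [e']
  exact mul_mem h1 h3

/-- Two reflections with equal values agree modulo `Ac`. -/
theorem reflO_mul_mem_Ac_of_eq' (hQ : (B Q).Nondegenerate) (h2 : (2 : F) ≠ 0) (hOG : O Q ≤ G Q) {c : F} (hc : c ≠ 0)
    (h5 : Fintype.card F = 3 → 5 ≤ finrank F V)
    {v w : V} (hv : Q v ≠ 0) (hvw : Q v = Q w) : reflO Q v * reflO Q w ∈ Ac Q c := by
  by_cases hclass : quadraticChar F (Q v) = quadraticChar F c
  · exact mul_mem (reflO_mem_Ac_of_class hc hv hclass)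
      (reflO_mem_Ac_of_class hc (by rw [← hvw]; exact hv) (by rw [← hvw]; exact hclass))
  · by_cases hnd : (B Q v w) ^ 2 = 4 * (Q v) ^ 2
    · have h3 : (B Q v w - 2 * Q v) * (B Q v w + 2 * Q v) = 0 := by linear_combination hnd
      rcases mul_eq_zero.mp h3 with h4 | h4
      · exact reflO_mul_mem_Ac_of_deg' hQ h2 hOG hc h5 hv hvw hclass (sub_eq_zero.mp h4)
      · have := reflO_mul_mem_Ac_of_deg' (w := -w) hQ h2 hOG hc h5 hv (by rw [Q_neg]; exact hvw) hclass
          (by rw [map_neg]; linear_combination -h4)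
        rwa [reflO_neg] at this
    · exact reflO_mul_mem_Ac_of_nondeg hQ h2 hOG hc hv hvw hclass hnd

/-- Two reflections in the same class agree modulo `Ac`. -/
theorem reflO_mul_mem_Ac_of_class' (hQ : (B Q).Nondegenerate) (h2 : (2 : F) ≠ 0) (hOG : O Q ≤ G Q) {c : F} (hc : c ≠ 0)
    (h5 : Fintype.card F = 3 → 5 ≤ finrank F V)
    {v w : V} (hv : Q v ≠ 0) (hw : Q w ≠ 0) (hvw : quadraticChar F (Q v) = quadraticChar F (Q w)) :
    reflO Q v * reflO Q w ∈ Ac Q c := by
  obtain ⟨e, he, hew⟩ := isSquare_mul_of_char hv hw hvw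
  have := reflO_mul_mem_Ac_of_eq' (w := e • w) hQ h2 hOG hc h5 hv (by rw [Q_smul, hew])
  rwa [reflO_smul he] at this

/-- `Ac` is the kernel of `psi`. -/
theorem Ac_eq_ker' (hQ : (B Q).Nondegenerate) (h2 : (2 : F) ≠ 0) (hOG : O Q ≤ G Q) {c : F} (hc : c ≠ 0)
    (h5 : Fintype.card F = 3 → 5 ≤ finrank F V)
    {b : V} (hb : Q b ≠ 0) (hbc : quadraticChar F (Q b) ≠ quadraticChar F c) :
    Ac Q c = (psi hQ hOG c).ker := by
  apply le_antisymm (Ac_le_ker hQ hOG hc)
  have hN := Ac_normal (Q := Q) c
  have main : ∀ L : List V, (∀ v ∈ L, Q v ≠ 0) →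
      (psi hQ hOG c (prodO Q L) = 1 → prodO Q L ∈ Ac Q c) ∧
      (psi hQ hOG c (prodO Q L) = -1 → prodO Q L * reflO Q b ∈ Ac Q c) := by
    intro L
    induction L with
    | nil =>
      intro _
      refine ⟨fun _ => one_mem _, fun h => ?_⟩
      rw [prodO_nil, map_one] at h
      exact absurd h (by decide)
    | cons v L ih =>
      intro hL
      obtain ⟨ih1, ih2⟩ := ih (fun w hw => hL w (List.mem_cons_of_mem _ hw))
      have hv := hL v List.mem_cons_self
      rw [prodO_cons, map_mul]
      by_cases hvc : quadraticChar F (Q v) = quadraticChar F c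
      · have hvA := reflO_mem_Ac_of_class hc hv hvc
        rw [psi_reflO_of_class hQ hOG hc hv hvc, one_mul]
        refine ⟨fun h => mul_mem hvA (ih1 h), fun h => ?_⟩
        rw [mul_assoc]
        exact mul_mem hvA (ih2 h)
      · have hvb : reflO Q v * reflO Q b ∈ Ac Q c := by
          apply reflO_mul_mem_Ac_of_class' hQ h2 hOG hc h5 hv hb
          rcases quadraticChar_dichotomy hc with h1 | h1 <;> rcases quadraticChar_dichotomy hv with h3 | h3 <;>
            rcases quadraticChar_dichotomy hb with h4 | h4 <;> simp_all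
        rw [psi_reflO_of_not_class hQ hOG hc hv hvc]
        constructor
        · intro h
          have h3 : psi hQ hOG c (prodO Q L) = -1 := by
            have : (-1 : ℤˣ) * (-1 * psi hQ hOG c (prodO Q L)) = -1 := by rw [h]; rfl
            simpa [← mul_assoc] using this
          have h4 := ih2 h3
          have e : reflO Q v * prodO Q L = (reflO Q v * (prodO Q L * reflO Q b) * (reflO Q v)⁻¹) * (reflO Q v * reflO Q b) := by
            have : reflO Q b * reflO Q b = 1 := reflO_mul_self Q b
            calc reflO Q v * prodO Q L = reflO Q v * prodO Q L * (reflO Q b * reflO Q b) := by rw [this, mul_one]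
              _ = _ := by group
          rw [e]
          exact mul_mem (hN.conj_mem _ h4 _) hvb
        · intro h
          have h3 : psi hQ hOG c (prodO Q L) = 1 := by
            have : (-1 : ℤˣ) * (-1 * psi hQ hOG c (prodO Q L)) = (-1) * (-1) := by rw [h]
            simpa [← mul_assoc] using this
          have h4 := ih1 h3
          have e : reflO Q v * prodO Q L * reflO Q b = (reflO Q v * prodO Q L * (reflO Q v)⁻¹) * (reflO Q v * reflO Q b) := by
            group
          rw [e]
          exact mul_mem (hN.conj_mem _ h4 _) hvb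
  intro g hg
  obtain ⟨L, hL, rfl⟩ := exists_list hOG g
  exact (main L hL).1 hg

theorem Ac_index' (hQ : (B Q).Nondegenerate) (h2 : (2 : F) ≠ 0) (hOG : O Q ≤ G Q) {c : F} (hc : c ≠ 0)
    (h5 : Fintype.card F = 3 → 5 ≤ finrank F V)
    {b : V} (hb : Q b ≠ 0) (hbc : quadraticChar F (Q b) ≠ quadraticChar F c) :
    (Ac Q c).index = 2 := by
  rw [Ac_eq_ker' hQ h2 hOG hc h5 hb hbc, Subgroup.index_ker]
  have : (psi hQ hOG c).range = ⊤ := by
    rw [eq_top_iff]
    intro y _
    rcases Int.units_eq_one_or y with rfl | rfl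
    · exact ⟨1, map_one _⟩
    · exact ⟨_, psi_reflO_of_not_class hQ hOG hc hb hbc⟩
  rw [this]
  simp

end Cfsg.Agent.Lib.OrthAcOdd
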