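import Mathlib
import Cfsg.Prelude.Def_Classical
import Cfsg.Agent.Lib.SemisimpleConj
import Cfsg.Agent.Lib.WittForms
import Cfsg.Agent.Lib.SpinorCrit

/-!
# Conjugacy of semisimple elements of odd order in orthogonal groups
-/

set_option autoImplicit false
set_option linter.unusedSectionVars false
set_option linter.unusedSimpArgs false

namespace Cfsg.Agent.Lib.SemisimpleOrth

open Matrix Cfsg.Agent.Lib.SemisimpleConj Cfsg.Agent.Lib.SpinorCrit Cfsg.Agent.Lib.OrthGroup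
open scoped MatrixGroups

variable {F : Type*} [Field F] {ι : Type} [Fintype ι] [DecidableEq ι]
variable (Q : QuadraticForm F (ι → F))

theorem Q_sub (u v : ι → F) : Q (u - v) = Q u + Q v - QuadraticMap.polar ⇑Q u v := by
  have h1 : QuadraticMap.polar ⇑Q u (-v) = - QuadraticMap.polar ⇑Q u v := by
    simpa using QuadraticMap.polar_neg_right Q u v
  have h2 : QuadraticMap.polar ⇑Q u (-v) = Q (u - v) - Q u - Q v := by
    rw [QuadraticMap.polar, ← sub_eq_add_neg, QuadraticMap.map_neg]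
  rw [h1] at h2
  linear_combination -h2

/-- The partial map on the non-involutory part preserves `Q`. -/
theorem Q_partial {a b e h w : Matrix ι ι F}
    (hh : ∀ u v, QuadraticMap.polar ⇑Q (h *ᵥ u) (h *ᵥ v) = QuadraticMap.polar ⇑Q u (e *ᵥ v))
    (ha : ∀ v, Q (a *ᵥ v) = Q v) (hb : ∀ v, Q (b *ᵥ v) = Q v) (hab : h * a = b * h)
    (hw : (a - 1) * w = e) (hwe : w * e = e * w) (y : ι → F) (hy : e *ᵥ y = y) :
    Q (h *ᵥ y) = Q y := by
  by_cases h2 : (2 : F) = 0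
  · obtain ⟨z, hz⟩ : ∃ z, z = w *ᵥ y := ⟨_, rfl⟩
    have hez : e *ᵥ z = z := by
      rw [hz, Matrix.mulVec_mulVec, ← hwe, ← Matrix.mulVec_mulVec, hy]
    have hyz : y = a *ᵥ z - z := by
      have h3 : (a - 1) *ᵥ z = y := by
        rw [hz, Matrix.mulVec_mulVec, hw, hy]
      rw [← h3, Matrix.sub_mulVec, Matrix.one_mulVec]
    have hhy : h *ᵥ y = b *ᵥ (h *ᵥ z) - h *ᵥ z := by
      rw [hyz, Matrix.mulVec_sub, Matrix.mulVec_mulVec, Matrix.mulVec_mulVec, hab]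
    have h4 : QuadraticMap.polar ⇑Q (b *ᵥ (h *ᵥ z)) (h *ᵥ z) = QuadraticMap.polar ⇑Q (a *ᵥ z) z := by
      have h5 : b *ᵥ (h *ᵥ z) = h *ᵥ (a *ᵥ z) := by
        rw [Matrix.mulVec_mulVec, Matrix.mulVec_mulVec, hab]
      rw [h5, hh, hez]
    rw [hhy, Q_sub, hb, h4]
    conv_rhs => rw [hyz, Q_sub, ha]
    have h6 : Q (h *ᵥ z) + Q (h *ᵥ z) = 0 := by
      rw [← two_mul, h2, zero_mul]
    have h7 : Q z + Q z = 0 := by
      rw [← two_mul, h2, zero_mul]
    rw [h6, h7]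
  · have h3 := hh y y
    rw [hy, B_self' Q, B_self' Q] at h3
    exact mul_left_cancel₀ h2 h3
where
  B_self' (Q : QuadraticForm F (ι → F)) (x : ι → F) : QuadraticMap.polar ⇑Q x x = 2 * Q x :=
    B_self Q x

theorem isGram_of_nondeg (hQ : (QuadraticMap.polarBilin Q).Nondegenerate) :
    IsGram (gram₀ Q) (gram₀ Q)⁻¹ (1 : F) := by
  have hinj : Function.Injective (gram₀ Q).mulVec := by
    intro v w h
    rw [← sub_eq_zero]
    apply hQ.1
    intro y
    rw [QuadraticMap.polarBilin_apply_apply, QuadraticMap.polar_comm, polar_eq_gram, Matrix.mulVec_sub, h, sub_self,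
      dotProduct_zero]
  have hU : IsUnit (gram₀ Q) := Matrix.mulVec_injective_iff_isUnit.mp hinj
  have hdet : IsUnit (gram₀ Q).det := (Matrix.isUnit_iff_isUnit_det _).mp hU
  refine ⟨Matrix.mul_nonsing_inv _ hdet, Matrix.nonsing_inv_mul _ hdet, ?_, one_mul 1⟩
  rw [one_smul]
  ext i j
  simp only [gram₀, Matrix.transpose_apply, Matrix.of_apply]
  exact QuadraticMap.polar_comm _ _ _

theorem gram_form_of_isometry {a : Matrix ι ι F} (ha : ∀ v, Q (a *ᵥ v) = Q v) (u v : ι → F) :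
    (a *ᵥ u) ⬝ᵥ (gram₀ Q *ᵥ (a *ᵥ v)) = u ⬝ᵥ (gram₀ Q *ᵥ v) := by
  rw [← polar_eq_gram, ← polar_eq_gram, QuadraticMap.polar, QuadraticMap.polar, ← Matrix.mulVec_add, ha, ha, ha]

/-- Semisimple elements of odd order: the geometric form of the conjugacy theorem. -/
theorem orth_conj [Fintype F] {p : ℕ} [Fact p.Prime] [CharP F p]
    (hQ : (QuadraticMap.polarBilin Q).Nondegenerate) {a b c c' : Matrix ι ι F}
    (ha : ∀ v, Q (a *ᵥ v) = Q v) (hb : ∀ v, Q (b *ᵥ v) = Q v)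
    (hcc' : c * c' = 1) (hc'c : c' * c = 1) (hab : c * a = b * c) {k : ℕ} (hk : a ^ k = 1)
    (hodd : Odd k) (hkp : k.Coprime p) :
    ∃ g : (ι → F) ≃ₗ[F] (ι → F), (∀ v, Q (g v) = Q v) ∧ ∀ v, g (a *ᵥ v) = b *ᵥ g v := by
  have hG := isGram_of_nondeg Q hQ
  obtain ⟨G, hGd⟩ : ∃ G, G = gram₀ Q := ⟨_, rfl⟩
  obtain ⟨G', hGd'⟩ : ∃ G', G' = (gram₀ Q)⁻¹ := ⟨_, rfl⟩
  rw [← hGd', ← hGd] at hG
  have hpol : ∀ u v : ι → F, QuadraticMap.polar ⇑Q u v = u ⬝ᵥ (G *ᵥ v) := by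
    intro u v
    rw [hGd, polar_eq_gram]
  have ha1 : adj G G' a * a = 1 := adj_mul_self hG (by
    intro u v
    rw [hGd]
    exact gram_form_of_isometry Q ha u v)
  have hb1 : adj G G' b * b = 1 := adj_mul_self hG (by
    intro u v
    rw [hGd]
    exact gram_form_of_isometry Q hb u v)
  have ha2 : a * adj G G' a = 1 := mul_eq_one_comm.mp ha1
  obtain ⟨e, eb, h, h', w, N, he, heb, hebc, hee, hebb, hste, hsteb, hhh', hh'h, heh', hebh, hhe, hsth, hha,
    hea, hw, hwe⟩ := exists_partial hG ha1 hb1 hcc' hc'c hab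
  have hcompl : a * (1 - e) = 1 - e :=
    odd_aux hk hodd (sq_compl ha2 ha1 hk hkp he hee)
  have hcomplb : b * (1 - eb) = 1 - eb := by
    rw [hebc]
    exact conj_compl hcc' hc'c hab hcompl
  have hP : PartialIso (adj G G') a b e eb h h' :=
    ⟨hee, hebb, hste, hsteb, hhh', hh'h, heh', hebh, hsth, hha, hea, hcompl, hcomplb⟩
  have hh : ∀ u v, QuadraticMap.polar ⇑Q (h *ᵥ u) (h *ᵥ v) = QuadraticMap.polar ⇑Q u (e *ᵥ v) := by
    intro u v
    have h9 : adj G G' h *ᵥ (h *ᵥ v) = e *ᵥ v := by rw [Matrix.mulVec_mulVec, hsth]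
    rw [hpol, hpol, bil_adj hG, h9]
  have hQp : ∀ x : fixS e, Q ((partEquiv hhh' hh'h heh' hebh x : fixS eb) : ι → F) = Q (x : ι → F) := by
    intro x
    rw [partEquiv_apply]
    exact Q_partial Q hh ha hb hha hw hwe x.1 x.2
  obtain ⟨g, hg1, hg2⟩ := Cfsg.Agent.Lib.WittForms.witt_quad hQ (fixS e) (fixS eb) (partEquiv hhh' hh'h heh' hebh) hQp
  refine ⟨g, hg1, ?_⟩
  refine finish hG hP g.toLinearMap ?_ ?_
  · intro u v
    rw [← hpol, ← hpol, QuadraticMap.polar, QuadraticMap.polar]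
    show Q (g u + g v) - Q (g u) - Q (g v) = _
    rw [← map_add, hg1, hg1, hg1]
  · intro v hv
    exact hg2 ⟨v, hv⟩

end Cfsg.Agent.Lib.SemisimpleOrth
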