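import Mathlib
import Cfsg.Agent.Lib.HermFrame

/-!
# Regular elements of the unitary group with prescribed characteristic polynomial

For a monic polynomial `f` over the field with `q²` elements which is self-dual for the
Frobenius-twisted reciprocal, the algebra `F[X]/(f)` carries a non-degenerate Hermitian form
preserved by multiplication by the root.
-/

set_option autoImplicit false
set_option linter.unusedSectionVars false

namespace Cfsg.Agent.Lib.SUCyc

open Polynomial Module Matrix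
open Cfsg Cfsg.Agent.Lib.UnitaryBasic Cfsg.Agent.Lib.HermFrame

variable {F : Type*} [Field F] [Fintype F] {q : ℕ}

/-- Hilbert 90 for the quadratic extension of finite fields. -/
lemma exists_pow_q_eq (hF : Fintype.card F = q ^ 2) (v : F) (hv : v ^ (q + 1) = 1) :
    ∃ ρ : F, ρ ≠ 0 ∧ ρ ^ q = ρ * v := by
  classical
  have hq2 : 2 ≤ q := HermCount.two_le_q hF
  have hv0 : v ≠ 0 := by
    rintro rfl
    rw [zero_pow (by omega)] at hv
    exact zero_ne_one hv
  obtain ⟨g, hg⟩ := IsCyclic.exists_generator (α := Fˣ)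
  have hord : orderOf g = (q - 1) * (q + 1) := by
    rw [orderOf_eq_card_of_forall_mem_zpowers hg, Nat.card_eq_fintype_card, Fintype.card_units, hF]
    obtain ⟨t, rfl⟩ : ∃ t, q = t + 1 := ⟨q - 1, by omega⟩
    simp only [Nat.add_sub_cancel]
    have : (t + 1) ^ 2 = t * (t + 1 + 1) + 1 := by ring
    omega
  let u : Fˣ := Units.mk0 v hv0
  have hu : u ∈ Submonoid.powers g := mem_powers_iff_mem_zpowers.mpr (hg u)
  obtain ⟨e, he⟩ := hu
  have h1 : g ^ (e * (q + 1)) = 1 := by
    rw [pow_mul]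
    simp only at he
    rw [he]
    apply Units.ext
    simpa [u] using hv
  have h2 := orderOf_dvd_of_pow_eq_one h1
  rw [hord] at h2
  have h3 : q - 1 ∣ e := Nat.dvd_of_mul_dvd_mul_right (by omega) h2
  obtain ⟨c, rfl⟩ := h3
  refine ⟨((g ^ c : Fˣ) : F), Units.ne_zero _, ?_⟩
  have h4 : ((g ^ ((q - 1) * c) : Fˣ) : F) = v := by
    have := congrArg Units.val he
    simpa [u] using this
  rw [← h4, ← Units.val_pow_eq_pow_val, ← Units.val_mul]
  congr 1
  rw [← pow_mul, ← pow_add]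
  congr 1
  obtain ⟨t, rfl⟩ : ∃ t, q = t + 1 := ⟨q - 1, by omega⟩
  simp only [Nat.add_sub_cancel]
  ring

section algebra

variable (f : F[X])

/-- The root of `f` in the quotient algebra. -/
local notation "t" => AdjoinRoot.root f

lemma aeval_divX (hf0 : f.coeff 0 ≠ 0) :
    (t : AdjoinRoot f) * aeval t (divX f) = - AdjoinRoot.of f (f.coeff 0) := by
  have h1 : aeval (t : AdjoinRoot f) f = 0 := by
    rw [AdjoinRoot.aeval_eq, AdjoinRoot.mk_self]
  have h2 := congrArg (aeval (t : AdjoinRoot f)) (divX_mul_X_add f)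
  rw [h1, map_add, map_mul, aeval_X, aeval_C] at h2
  rw [mul_comm]
  have h3 : algebraMap F (AdjoinRoot f) (f.coeff 0) = AdjoinRoot.of f (f.coeff 0) := rfl
  rw [h3] at h2
  linear_combination h2

/-- The inverse of the root. -/
noncomputable def sinv : AdjoinRoot f := - AdjoinRoot.of f (f.coeff 0)⁻¹ * aeval t (divX f)

lemma root_mul_sinv (hf0 : f.coeff 0 ≠ 0) : (t : AdjoinRoot f) * sinv f = 1 := by
  unfold sinv
  have h1 := aeval_divX f hf0
  have h2 : AdjoinRoot.of f (f.coeff 0)⁻¹ * AdjoinRoot.of f (f.coeff 0) = 1 := by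
    rw [← map_mul, inv_mul_cancel₀ hf0, map_one]
  linear_combination (- AdjoinRoot.of f (f.coeff 0)⁻¹) * h1 + h2

lemma sinv_mul_root (hf0 : f.coeff 0 ≠ 0) : sinv f * (t : AdjoinRoot f) = 1 := by
  rw [mul_comm, root_mul_sinv f hf0]

/-- The coefficient functional. -/
noncomputable def lam0 (hf : f.Monic) (hn : f.natDegree ≠ 0) : AdjoinRoot f →ₗ[F] F :=
  (AdjoinRoot.powerBasis hf.ne_zero).basis.coord ⟨f.natDegree - 1, by
    rw [AdjoinRoot.powerBasis_dim]; omega⟩

lemma lam0_pow (hf : f.Monic) (hn : f.natDegree ≠ 0) {i : ℕ} (hi : i < f.natDegree) :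
    lam0 f hf hn ((t : AdjoinRoot f) ^ i) = if i = f.natDegree - 1 then 1 else 0 := by
  have h1 : (t : AdjoinRoot f) ^ i =
      (AdjoinRoot.powerBasis hf.ne_zero).basis ⟨i, by rw [AdjoinRoot.powerBasis_dim]; exact hi⟩ := by
    rw [PowerBasis.coe_basis]
    simp
  unfold lam0
  rw [h1, Basis.coord_apply, Basis.repr_self, Finsupp.single_apply]
  simp only [Fin.mk.injEq]

lemma lam0_aeval (hf : f.Monic) (hn : f.natDegree ≠ 0) (g : F[X]) (hg : g.natDegree < f.natDegree) :
    lam0 f hf hn (aeval t g) = g.coeff (f.natDegree - 1) := by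
  rw [aeval_eq_sum_range' hg, map_sum]
  simp only [map_smul, smul_eq_mul]
  rw [Finset.sum_congr rfl (fun i hi => by rw [lam0_pow f hf hn (Finset.mem_range.mp hi)])]
  simp only [mul_ite, mul_one, mul_zero]
  rw [Finset.sum_ite_eq' (Finset.range f.natDegree) (f.natDegree - 1)]
  rw [if_pos (Finset.mem_range.mpr (by omega))]

lemma lam0_sinv (hf : f.Monic) (hn : f.natDegree ≠ 0) (hf0 : f.coeff 0 ≠ 0) :
    lam0 f hf hn (sinv f) = - (f.coeff 0)⁻¹ := by
  have h1 : sinv f = (- (f.coeff 0)⁻¹) • aeval (t : AdjoinRoot f) (divX f) := by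
    unfold sinv
    rw [Algebra.smul_def, map_neg]
    rfl
  rw [h1, map_smul, lam0_aeval f hf hn, coeff_divX, Nat.sub_add_cancel (by omega)]
  · rw [hf.coeff_natDegree, smul_eq_mul, mul_one]
  · rw [natDegree_divX_eq_natDegree_tsub_one]
    omega

lemma lam0_nondeg (hf : f.Monic) (hn : f.natDegree ≠ 0) (x : AdjoinRoot f) (hx : x ≠ 0) :
    ∃ i : ℕ, lam0 f hf hn (x * t ^ i) ≠ 0 := by
  obtain ⟨g₀, rfl⟩ := AdjoinRoot.mk_surjective x
  set g := g₀ %ₘ f with hg
  have h1 : AdjoinRoot.mk f g₀ = AdjoinRoot.mk f g := by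
    rw [AdjoinRoot.mk_eq_mk]
    have := modByMonic_add_div g₀ f
    exact ⟨g₀ /ₘ f, by rw [hg]; linear_combination -this⟩
  rw [h1] at hx ⊢
  have hg0 : g ≠ 0 := by
    rintro h
    rw [h, map_zero] at hx
    exact hx rfl
  have hdeg : g.natDegree < f.natDegree := by
    apply natDegree_modByMonic_lt _ hf
    intro h
    rw [h, natDegree_one] at hn
    exact hn rfl
  refine ⟨f.natDegree - 1 - g.natDegree, ?_⟩
  have h2 : AdjoinRoot.mk f g * (t : AdjoinRoot f) ^ (f.natDegree - 1 - g.natDegree) =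
      aeval t (g * X ^ (f.natDegree - 1 - g.natDegree)) := by
    rw [map_mul, map_pow, aeval_X, AdjoinRoot.aeval_eq]
  rw [h2, lam0_aeval f hf hn]
  · have h3 : f.natDegree - 1 = g.natDegree + (f.natDegree - 1 - g.natDegree) := by omega
    have h4 : (g * X ^ (f.natDegree - 1 - g.natDegree)).coeff (g.natDegree + (f.natDegree - 1 - g.natDegree)) ≠ 0 := by
      rw [coeff_mul_X_pow]
      exact leadingCoeff_ne_zero.mpr hg0
    rwa [← h3] at h4
  · rw [natDegree_mul_X_pow _ hg0]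
    omega

lemma pow_mul_sinv_pow (hf0 : f.coeff 0 ≠ 0) {i j : ℕ} (hij : j ≤ i) :
    (t : AdjoinRoot f) ^ i * sinv f ^ j = t ^ (i - j) := by
  obtain ⟨c, rfl⟩ := Nat.exists_eq_add_of_le hij
  rw [Nat.add_sub_cancel_left, add_comm j c, pow_add, mul_assoc, ← mul_pow, root_mul_sinv f hf0,
    one_pow, mul_one]

/-- A unit criterion for `t - a`. -/
lemma exists_mul_eq_one_of_eval_ne_zero (hf : f.Monic) (a : F) (ha : f.eval a ≠ 0) :
    ∃ y : AdjoinRoot f, ((t : AdjoinRoot f) - AdjoinRoot.of f a) * y = 1 := by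
  have h1 : (X - C a) * (f /ₘ (X - C a)) + C (f.eval a) = f := by
    have := modByMonic_add_div f (X - C a)
    rw [modByMonic_X_sub_C_eq_C_eval] at this
    linear_combination this
  have h2 := congrArg (AdjoinRoot.mk f) h1
  rw [AdjoinRoot.mk_self, map_add, map_mul, map_sub, AdjoinRoot.mk_X, AdjoinRoot.mk_C, AdjoinRoot.mk_C] at h2
  refine ⟨- AdjoinRoot.of f (f.eval a)⁻¹ * AdjoinRoot.mk f (f /ₘ (X - C a)), ?_⟩
  have h3 : AdjoinRoot.of f (f.eval a)⁻¹ * AdjoinRoot.of f (f.eval a) = 1 := by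
    rw [← map_mul, inv_mul_cancel₀ ha, map_one]
  have h4 : AdjoinRoot.of f a = (AdjoinRoot.of f a) := rfl
  change _ = (0 : AdjoinRoot f) at h2
  have h5 : (AdjoinRoot.of f (f.eval a) : AdjoinRoot f) =
    (algebraMap F (AdjoinRoot f) (f.eval a)) := rfl
  linear_combination (- AdjoinRoot.of f (f.eval a)⁻¹) * h2 + h3

lemma lam0_ts_le (hf : f.Monic) (hn : f.natDegree ≠ 0) (hf0 : f.coeff 0 ≠ 0) {a b : ℕ} (hab : b ≤ a)
    (h : a - b < f.natDegree) :
    lam0 f hf hn ((t : AdjoinRoot f) ^ a * sinv f ^ b) = if a - b = f.natDegree - 1 then 1 else 0 := by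
  rw [pow_mul_sinv_pow f hf0 hab, lam0_pow f hf hn h]

lemma lam0_ts_succ (hf : f.Monic) (hn : f.natDegree ≠ 0) (hf0 : f.coeff 0 ≠ 0) (a : ℕ) :
    lam0 f hf hn ((t : AdjoinRoot f) ^ a * sinv f ^ (a + 1)) = - (f.coeff 0)⁻¹ := by
  rw [pow_succ, ← mul_assoc, ← mul_pow, root_mul_sinv f hf0, one_pow, one_mul, lam0_sinv f hf hn hf0]

end algebra

section tilde

variable {f : F[X]} (hF : Fintype.card F = q ^ 2)

lemma eval_sinv (hf0 : f.coeff 0 ≠ 0)
    (hself : (f.map (sigma hF)).reverse = C ((f.coeff 0) ^ q) * f) :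
    eval₂ ((AdjoinRoot.of f).comp (sigma hF)) (sinv f) f = 0 := by
  rw [← eval₂_map]
  letI : Invertible (sinv f) := ⟨AdjoinRoot.root f, root_mul_sinv f hf0, sinv_mul_root f hf0⟩
  have h1 := eval₂_reverse_mul_pow (AdjoinRoot.of f) (sinv f) (f.map (sigma hF))
  rw [← h1, hself]
  have h2 : ⅟(sinv f) = AdjoinRoot.root f := rfl
  rw [h2, eval₂_mul, eval₂_C, AdjoinRoot.eval₂_root, mul_zero, zero_mul]

/-- The semilinear involution of the quotient algebra. -/
noncomputable def tilde (hf0 : f.coeff 0 ≠ 0)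
    (hself : (f.map (sigma hF)).reverse = C ((f.coeff 0) ^ q) * f) : AdjoinRoot f →+* AdjoinRoot f :=
  AdjoinRoot.lift ((AdjoinRoot.of f).comp (sigma hF)) (sinv f) (eval_sinv hF hf0 hself)

variable (hf0 : f.coeff 0 ≠ 0) (hself : (f.map (sigma hF)).reverse = C ((f.coeff 0) ^ q) * f)

lemma tilde_of (c : F) : tilde hF hf0 hself (AdjoinRoot.of f c) = AdjoinRoot.of f (c ^ q) := by
  unfold tilde
  rw [AdjoinRoot.lift_of]
  rfl

lemma tilde_root : tilde hF hf0 hself (AdjoinRoot.root f) = sinv f := by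
  unfold tilde
  rw [AdjoinRoot.lift_root]

lemma tilde_sinv : tilde hF hf0 hself (sinv f) = AdjoinRoot.root f := by
  have h1 : tilde hF hf0 hself (AdjoinRoot.root f * sinv f) = 1 := by
    rw [root_mul_sinv f hf0, map_one]
  rw [map_mul, tilde_root] at h1
  calc tilde hF hf0 hself (sinv f) = (AdjoinRoot.root f * sinv f) * tilde hF hf0 hself (sinv f) := by
        rw [root_mul_sinv f hf0, one_mul]
    _ = AdjoinRoot.root f * (sinv f * tilde hF hf0 hself (sinv f)) := by ring
    _ = AdjoinRoot.root f := by rw [h1, mul_one]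

lemma tilde_tilde (x : AdjoinRoot f) : tilde hF hf0 hself (tilde hF hf0 hself x) = x := by
  have h : (tilde hF hf0 hself).comp (tilde hF hf0 hself) = RingHom.id _ := by
    apply AdjoinRoot.ringHom_ext
    · ext c
      simp only [RingHom.comp_apply, tilde_of, RingHom.id_apply]
      rw [HermCount.pow_q_pow_q hF c]
    · simp only [RingHom.comp_apply, tilde_root, tilde_sinv, RingHom.id_apply]
  exact RingHom.congr_fun h x

lemma tilde_smul (c : F) (x : AdjoinRoot f) :
    tilde hF hf0 hself (c • x) = (c ^ q) • tilde hF hf0 hself x := by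
  rw [Algebra.smul_def, Algebra.smul_def, map_mul]
  congr 1
  exact tilde_of hF hf0 hself c

include hself in
lemma coeff_zero_pow (hf : f.Monic) : (f.coeff 0) ^ (q + 1) = 1 := by
  have h1 := congrArg (fun g => coeff g 0) hself
  simp only [coeff_zero_reverse, coeff_C_mul] at h1
  have h2 : (f.map (sigma hF)).leadingCoeff = 1 := (hf.map _).leadingCoeff
  rw [h2] at h1
  rw [pow_succ]
  exact h1.symm

lemma conj_of_basis (hf : f.Monic) (hn : f.natDegree ≠ 0) (lam : AdjoinRoot f →ₗ[F] F) (a : ℕ)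
    (h : ∀ i, i < f.natDegree → lam (tilde hF hf0 hself (sinv f ^ a * AdjoinRoot.root f ^ i)) =
      (lam (sinv f ^ a * AdjoinRoot.root f ^ i)) ^ q) (x : AdjoinRoot f) :
    lam (tilde hF hf0 hself x) = (lam x) ^ q := by
  have hq0 : q ≠ 0 := by
    have := HermCount.two_le_q hF
    omega
  let S : Submodule F (AdjoinRoot f) :=
    { carrier := {x | lam (tilde hF hf0 hself x) = (lam x) ^ q}
      add_mem' := by
        intro u v hu hv
        simp only [Set.mem_ofPred_eq] at hu hv ⊢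
        rw [map_add, map_add, map_add, hu, hv, HermCount.add_pow_q hF]
      zero_mem' := by
        simp only [Set.mem_ofPred_eq, map_zero]
        rw [zero_pow hq0]
      smul_mem' := by
        intro c u hu
        simp only [Set.mem_ofPred_eq] at hu ⊢
        rw [tilde_smul, map_smul, map_smul, hu, smul_eq_mul, smul_eq_mul, mul_pow] }
  have hmem : ∀ g : F[X], g.natDegree < f.natDegree → sinv f ^ a * aeval (AdjoinRoot.root f) g ∈ S := by
    intro g hg
    rw [aeval_eq_sum_range' hg, Finset.mul_sum]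
    apply Submodule.sum_mem
    intro i hi
    rw [mul_smul_comm]
    exact S.smul_mem _ (h i (Finset.mem_range.mp hi))
  obtain ⟨g₀, hg₀⟩ := AdjoinRoot.mk_surjective (AdjoinRoot.root f ^ a * x)
  have h1 : AdjoinRoot.mk f g₀ = AdjoinRoot.mk f (g₀ %ₘ f) := by
    rw [AdjoinRoot.mk_eq_mk]
    have := modByMonic_add_div g₀ f
    exact ⟨g₀ /ₘ f, by linear_combination -this⟩
  have hdeg : (g₀ %ₘ f).natDegree < f.natDegree := by
    apply natDegree_modByMonic_lt _ hf
    intro h
    rw [h, natDegree_one] at hn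
    exact hn rfl
  have hx : x = sinv f ^ a * aeval (AdjoinRoot.root f) (g₀ %ₘ f) := by
    rw [AdjoinRoot.aeval_eq, ← h1, hg₀, ← mul_assoc, ← mul_pow, sinv_mul_root f hf0, one_pow, one_mul]
  have h2 := hmem _ hdeg
  rw [← hx] at h2
  exact h2

/-- A functional given by an element of the algebra. -/
noncomputable def lamW (hf : f.Monic) (hn : f.natDegree ≠ 0) (w : AdjoinRoot f) : AdjoinRoot f →ₗ[F] F :=
  (lam0 f hf hn).comp (LinearMap.mulLeft F w)

lemma lamW_apply (hf : f.Monic) (hn : f.natDegree ≠ 0) (w x : AdjoinRoot f) :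
    lamW hf hn w x = lam0 f hf hn (w * x) := rfl

lemma lamW_nondeg (hf : f.Monic) (hn : f.natDegree ≠ 0) (w w' : AdjoinRoot f) (hw : w * w' = 1)
    (x : AdjoinRoot f) (hx : x ≠ 0) : ∃ z, lamW hf hn w (x * z) ≠ 0 := by
  have h1 : w * x ≠ 0 := by
    intro h
    apply hx
    calc x = (w * w') * x := by rw [hw, one_mul]
      _ = w' * (w * x) := by ring
      _ = 0 := by rw [h, mul_zero]
  obtain ⟨i, hi⟩ := lam0_nondeg f hf hn _ h1
  refine ⟨AdjoinRoot.root f ^ i, ?_⟩
  rw [lamW_apply, ← mul_assoc]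
  exact hi

lemma neg_one_pow_succ (hF : Fintype.card F = q ^ 2) : (-1 : F) ^ (q + 1) = 1 := by
  rw [pow_succ, neg_pow_q hF, one_pow]
  ring

/-- The functional for polynomials of even degree. -/
lemma exists_lam_even (hf : f.Monic) (hn : f.natDegree ≠ 0) {k : ℕ} (hk : 1 ≤ k) (hnk : f.natDegree = 2 * k) :
    ∃ lam : AdjoinRoot f →ₗ[F] F, (∀ x, lam (tilde hF hf0 hself x) = (lam x) ^ q) ∧
      ∀ x, x ≠ 0 → ∃ z, lam (x * z) ≠ 0 := by
  have hf1 := coeff_zero_pow hF hself hf
  obtain ⟨κ, hκ0, hκ⟩ := exists_pow_q_eq hF (- (f.coeff 0)⁻¹) (by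
    rw [neg_pow, neg_one_pow_succ hF, one_mul, inv_pow, hf1, inv_one])
  obtain ⟨k', rfl⟩ : ∃ k', k = k' + 1 := ⟨k - 1, by omega⟩
  set w : AdjoinRoot f := AdjoinRoot.of f κ * AdjoinRoot.root f ^ k' with hw
  set w' : AdjoinRoot f := AdjoinRoot.of f κ⁻¹ * sinv f ^ k' with hw'
  have hww : w * w' = 1 := by
    have h1 : AdjoinRoot.of f κ * AdjoinRoot.of f κ⁻¹ = 1 := by
      rw [← map_mul, mul_inv_cancel₀ hκ0, map_one]
    have h2 : (AdjoinRoot.root f) ^ k' * sinv f ^ k' = 1 := by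
      rw [← mul_pow, root_mul_sinv f hf0, one_pow]
    calc w * w' = (AdjoinRoot.of f κ * AdjoinRoot.of f κ⁻¹) * ((AdjoinRoot.root f) ^ k' * sinv f ^ k') := by
          rw [hw, hw']; ring
      _ = 1 := by rw [h1, h2, one_mul]
  refine ⟨lamW hf hn w, ?_, lamW_nondeg hf hn w w' hww⟩
  apply conj_of_basis hF hf0 hself hf hn _ k'
  intro i hi
  have e1 : w * (sinv f ^ k' * AdjoinRoot.root f ^ i) =
      κ • (AdjoinRoot.root f ^ (k' + i) * sinv f ^ k') := by
    rw [Algebra.smul_def, hw, pow_add]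
    change _ = AdjoinRoot.of f κ * _
    ring
  have e2 : w * tilde hF hf0 hself (sinv f ^ k' * AdjoinRoot.root f ^ i) =
      κ • (AdjoinRoot.root f ^ (k' + k') * sinv f ^ i) := by
    rw [map_mul, map_pow, map_pow, tilde_sinv, tilde_root, Algebra.smul_def, hw, pow_add]
    change _ = AdjoinRoot.of f κ * _
    ring
  rw [lamW_apply, lamW_apply, e1, e2, map_smul, map_smul, smul_eq_mul, smul_eq_mul]
  have a1 := lam0_ts_le f hf hn hf0 (a := k' + i) (b := k') (by omega) (by omega)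
  have e3 : k' + i - k' = i := by omega
  rw [e3] at a1
  rw [a1]
  by_cases hi2 : i = f.natDegree - 1
  · have e4 : i = k' + k' + 1 := by omega
    rw [if_pos hi2, e4, lam0_ts_succ f hf hn hf0, mul_one]
    rw [hκ]
  · rw [if_neg hi2, mul_zero, zero_pow (by have := HermCount.two_le_q hF; omega)]
    rw [lam0_ts_le f hf hn hf0 (by omega) (by omega), if_neg (by omega), mul_zero]

/-- The functional for polynomials of odd degree. -/
lemma exists_lam_odd (hf : f.Monic) (hn : f.natDegree ≠ 0) {k : ℕ} (hk : 1 ≤ k) (hnk : f.natDegree = 2 * k + 1)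
    (ξ : F) (hξ : ξ ^ (q + 1) = 1) (hev : f.eval ξ⁻¹ ≠ 0) :
    ∃ lam : AdjoinRoot f →ₗ[F] F, (∀ x, lam (tilde hF hf0 hself x) = (lam x) ^ q) ∧
      ∀ x, x ≠ 0 → ∃ z, lam (x * z) ≠ 0 := by
  have hf1 := coeff_zero_pow hF hself hf
  have hq0 : q ≠ 0 := by
    have := HermCount.two_le_q hF
    omega
  have hξ0 : ξ ≠ 0 := by
    rintro rfl
    rw [zero_pow (by omega)] at hξ
    exact zero_ne_one hξ
  obtain ⟨ρ, hρ0, hρ⟩ := exists_pow_q_eq hF (ξ * (f.coeff 0)⁻¹) (by
    rw [mul_pow, hξ, inv_pow, hf1, inv_one, one_mul])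
  obtain ⟨y, hy⟩ := exists_mul_eq_one_of_eval_ne_zero f hf ξ⁻¹ hev
  obtain ⟨k', rfl⟩ : ∃ k', k = k' + 1 := ⟨k - 1, by omega⟩
  set T : AdjoinRoot f := AdjoinRoot.root f with hT
  set S : AdjoinRoot f := sinv f with hS
  have hTS : T * S = 1 := root_mul_sinv f hf0
  set w : AdjoinRoot f := AdjoinRoot.of f ρ * T ^ k' * (1 - AdjoinRoot.of f ξ * T) with hw
  set w' : AdjoinRoot f := AdjoinRoot.of f ρ⁻¹ * S ^ k' * (- AdjoinRoot.of f ξ⁻¹ * y) with hw'
  have hww : w * w' = 1 := by
    have h1 : AdjoinRoot.of f ρ * AdjoinRoot.of f ρ⁻¹ = 1 := by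
      rw [← map_mul, mul_inv_cancel₀ hρ0, map_one]
    have h2 : T ^ k' * S ^ k' = 1 := by
      rw [← mul_pow, hTS, one_pow]
    have h3 : AdjoinRoot.of f ξ * AdjoinRoot.of f ξ⁻¹ = 1 := by
      rw [← map_mul, mul_inv_cancel₀ hξ0, map_one]
    have h4 : (1 - AdjoinRoot.of f ξ * T) * (- AdjoinRoot.of f ξ⁻¹ * y) = 1 := by
      calc _ = (AdjoinRoot.of f ξ * AdjoinRoot.of f ξ⁻¹) * ((T - AdjoinRoot.of f ξ⁻¹) * y) := by
            linear_combination (AdjoinRoot.of f ξ⁻¹ * y) * h3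
        _ = 1 := by rw [h3, hy, one_mul]
    calc w * w' = (AdjoinRoot.of f ρ * AdjoinRoot.of f ρ⁻¹) * (T ^ k' * S ^ k') *
          ((1 - AdjoinRoot.of f ξ * T) * (- AdjoinRoot.of f ξ⁻¹ * y)) := by
          rw [hw, hw']; ring
      _ = 1 := by rw [h1, h2, h4, one_mul, one_mul]
  refine ⟨lamW hf hn w, ?_, lamW_nondeg hf hn w w' hww⟩
  apply conj_of_basis hF hf0 hself hf hn _ (k' + 1)
  intro i hi
  have e1 : w * (S ^ (k' + 1) * T ^ i) =
      ρ • (T ^ (k' + i) * S ^ (k' + 1) - ξ • (T ^ (k' + 1 + i) * S ^ (k' + 1))) := by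
    rw [Algebra.smul_def, Algebra.smul_def, hw, pow_add, pow_add, pow_add]
    change _ = AdjoinRoot.of f ρ * (_ - AdjoinRoot.of f ξ * _)
    ring
  have e2 : w * tilde hF hf0 hself (S ^ (k' + 1) * T ^ i) =
      ρ • (T ^ (k' + (k' + 1)) * S ^ i - ξ • (T ^ (k' + 1 + (k' + 1)) * S ^ i)) := by
    rw [map_mul, map_pow, map_pow, tilde_sinv, tilde_root, Algebra.smul_def, Algebra.smul_def, hw, pow_add, pow_add]
    change _ = AdjoinRoot.of f ρ * (_ - AdjoinRoot.of f ξ * _)
    ring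
  rw [lamW_apply, lamW_apply, e2, e1]
  simp only [map_smul, map_sub, smul_eq_mul]
  have L1 : ∀ {a b : ℕ}, b ≤ a → a - b < f.natDegree → lam0 f hf hn (T ^ a * S ^ b) =
      if a - b = f.natDegree - 1 then 1 else 0 := fun h h' => lam0_ts_le f hf hn hf0 h h'
  have L2 : ∀ a : ℕ, lam0 f hf hn (T ^ a * S ^ (a + 1)) = - (f.coeff 0)⁻¹ := lam0_ts_succ f hf hn hf0
  rcases Nat.eq_zero_or_pos i with rfl | hi0
  · -- `i = 0`
    have a1 : lam0 f hf hn (T ^ (k' + 0) * S ^ (k' + 1)) = - (f.coeff 0)⁻¹ := L2 k'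
    have a2 := L1 (a := k' + 1 + 0) (b := k' + 1) (by omega) (by omega)
    have a3 := L1 (a := k' + (k' + 1)) (b := 0) (by omega) (by omega)
    have a4 := L1 (a := k' + 1 + (k' + 1)) (b := 0) (by omega) (by omega)
    rw [if_neg (by omega)] at a2 a3
    rw [if_pos (by omega)] at a4
    rw [a1, a2, a3, a4]
    simp only [add_zero, mul_zero, sub_zero, zero_sub, mul_one]
    rw [mul_pow, neg_pow_q hF, inv_pow, hρ]
    have h5 : (f.coeff 0) * (f.coeff 0) ^ q = 1 := by
      rw [← pow_succ']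
      exact hf1
    have h6 : ((f.coeff 0) ^ q)⁻¹ = f.coeff 0 := inv_eq_of_mul_eq_one_left h5
    have hf00 : f.coeff 0 ≠ 0 := hf0
    rw [h6]
    field_simp
  · by_cases hi2 : i = 2 * (k' + 1)
    · -- `i = 2k`
      subst hi2
      have a1 := L1 (a := k' + 2 * (k' + 1)) (b := k' + 1) (by omega) (by omega)
      have a2 := L1 (a := k' + 1 + 2 * (k' + 1)) (b := k' + 1) (by omega) (by omega)
      have a3 : lam0 f hf hn (T ^ (k' + (k' + 1)) * S ^ (2 * (k' + 1))) = - (f.coeff 0)⁻¹ := by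
        have := L2 (k' + (k' + 1))
        rwa [show k' + (k' + 1) + 1 = 2 * (k' + 1) by ring] at this
      have a4 := L1 (a := k' + 1 + (k' + 1)) (b := 2 * (k' + 1)) (by omega) (by omega)
      rw [if_neg (by omega)] at a1 a4
      rw [if_pos (by omega)] at a2
      rw [a1, a2, a3, a4]
      simp only [mul_zero, sub_zero, zero_sub, mul_one]
      rw [mul_pow, neg_pow_q hF, hρ]
      have hξ2 : ξ * ξ ^ q = 1 := by
        rw [← pow_succ']
        exact hξ
      have hf00 : f.coeff 0 ≠ 0 := hf0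
      field_simp
      linear_combination hξ2
    · have hi3 : i ≤ 2 * k' + 1 := by omega
      have a1 := L1 (a := k' + i) (b := k' + 1) (by omega) (by omega)
      have a2 := L1 (a := k' + 1 + i) (b := k' + 1) (by omega) (by omega)
      have a3 := L1 (a := k' + (k' + 1)) (b := i) (by omega) (by omega)
      have a4 := L1 (a := k' + 1 + (k' + 1)) (b := i) (by omega) (by omega)
      rw [if_neg (by omega)] at a1 a2 a3 a4
      rw [a1, a2, a3, a4]
      simp only [mul_zero, sub_zero]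
      rw [zero_pow hq0]

end tilde

/-- **Regular elements**: every self-dual monic polynomial (with a mild condition) is the characteristic
polynomial of a cyclic element of the unitary group. -/
theorem exists_regular (hF : Fintype.card F = q ^ 2) (f : F[X]) (hf : f.Monic) (hn : 2 ≤ f.natDegree)
    (hf0 : f.coeff 0 ≠ 0) (hself : (f.map (sigma hF)).reverse = C ((f.coeff 0) ^ q) * f)
    (hξ : ∃ ξ : F, ξ ^ (q + 1) = 1 ∧ f.eval ξ⁻¹ ≠ 0) :
    ∃ Y : Matrix (Fin f.natDegree) (Fin f.natDegree) F,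
      (∀ u v, hermForm f.natDegree F q (Y *ᵥ u) (Y *ᵥ v) = hermForm f.natDegree F q u v) ∧
      Y.charpoly = f ∧ ∀ (k : ℕ) (c : F), Y ^ k = c • 1 → f ∣ X ^ k - C c := by
  have hn0 : f.natDegree ≠ 0 := by omega
  obtain ⟨lam, hconj, hnd⟩ : ∃ lam : AdjoinRoot f →ₗ[F] F, (∀ x, lam (tilde hF hf0 hself x) = (lam x) ^ q) ∧
      ∀ x, x ≠ 0 → ∃ z, lam (x * z) ≠ 0 := by
    rcases Nat.even_or_odd' f.natDegree with ⟨k, hk | hk⟩
    · exact exists_lam_even hF hf0 hself hf hn0 (by omega) hk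
    · obtain ⟨ξ, h1, h2⟩ := hξ
      exact exists_lam_odd hF hf0 hself hf hn0 (by omega) hk ξ h1 h2
  set τ := tilde hF hf0 hself with hτ
  let h : AdjoinRoot f → AdjoinRoot f → F := fun a b => lam (a * τ b)
  have hh : IsHerm q h :=
    { add_left := by
        intro u u' v
        simp only [h, add_mul, map_add]
      smul_left := by
        intro c u v
        simp only [h, smul_mul_assoc, map_smul, smul_eq_mul]
      conj := by
        intro u v
        simp only [h]
        rw [← hconj, map_mul, hτ, tilde_tilde, mul_comm]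
      nondeg := by
        intro x hx
        by_contra hx0
        obtain ⟨z, hz⟩ := hnd x hx0
        apply hz
        have := hx (τ z)
        simp only [h] at this
        rwa [hτ, tilde_tilde] at this }
  let pb := AdjoinRoot.powerBasis hf.ne_zero
  haveI : FiniteDimensional F (AdjoinRoot f) := pb.finite
  have hd : finrank F (AdjoinRoot f) = f.natDegree := by
    rw [pb.finrank, AdjoinRoot.powerBasis_dim]
  obtain ⟨e, he⟩ := exists_equiv hF hd hh
  let g : (AdjoinRoot f) →ₗ[F] (AdjoinRoot f) := LinearMap.mulLeft F (AdjoinRoot.root f)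
  let Y := LinearMap.toMatrix' (e.toLinearMap ∘ₗ g ∘ₗ e.symm.toLinearMap)
  have hY : ∀ a, Y *ᵥ (e a) = e (AdjoinRoot.root f * a) := by
    intro a
    simp only [Y]
    rw [LinearMap.toMatrix'_mulVec]
    simp [g]
  refine ⟨Y, ?_, ?_, ?_⟩
  · intro u v
    obtain ⟨a, rfl⟩ := e.surjective u
    obtain ⟨b, rfl⟩ := e.surjective v
    rw [hY, hY, ← he, ← he]
    show lam (AdjoinRoot.root f * a * τ (AdjoinRoot.root f * b)) = lam (a * τ b)
    have h3 : τ (AdjoinRoot.root f * b) = sinv f * τ b := by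
      rw [map_mul, hτ, tilde_root]
    rw [h3]
    congr 1
    have := root_mul_sinv f hf0
    linear_combination (a * τ b) * this
  · have h1 : Y.charpoly = (e.conj g).charpoly := by
      rw [← LinearMap.charpoly_toMatrix (e.conj g) (Pi.basisFun F (Fin f.natDegree)),
        LinearMap.toMatrix_eq_toMatrix']
      rfl
    rw [h1, LinearEquiv.charpoly_conj, ← LinearMap.charpoly_toMatrix g pb.basis, Algebra.toMatrix_lmul_eq]
    have h2 := charpoly_leftMulMatrix pb
    rw [AdjoinRoot.minpoly_powerBasis_gen_of_monic hf] at h2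
    exact h2
  · intro k c hk
    have hpow : ∀ (k : ℕ) a, (Y ^ k) *ᵥ (e a) = e (AdjoinRoot.root f ^ k * a) := by
      intro k
      induction k with
      | zero => intro a; simp
      | succ k ih =>
        intro a
        rw [pow_succ, ← Matrix.mulVec_mulVec, hY, ih, pow_succ, mul_assoc]
    have h1 := hpow k 1
    rw [hk, mul_one, Matrix.smul_mulVec, Matrix.one_mulVec, ← map_smul] at h1
    have h2 : AdjoinRoot.root f ^ k = c • (1 : AdjoinRoot f) := (e.injective h1).symm
    rw [← AdjoinRoot.mk_eq_zero, map_sub, map_pow, AdjoinRoot.mk_X, AdjoinRoot.mk_C, h2,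
      Algebra.smul_def, mul_one]
    exact sub_self _

end Cfsg.Agent.Lib.SUCyc
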