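import Mathlib
import Cfsg.Agent.Lib.HermOrtho
import Cfsg.Agent.Lib.UnitaryConjGU
import Cfsg.Agent.Lib.SUCyc
import Cfsg.Agent.Lib.SemisimpleGL

/-!
# Centralisers of semisimple elements of `GU_n(q)` have all determinants of norm one

Consequently semisimple elements of `SU_n(q)` with the same characteristic polynomial are conjugate.
-/

set_option autoImplicit false
set_option linter.unusedSectionVars false
set_option linter.unusedSimpArgs false
set_option linter.unusedVariables false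

namespace Cfsg.Agent.Lib.SUSemi

open Module Matrix Polynomial
open Cfsg Cfsg.Agent.Lib.HermForm Cfsg.Agent.Lib.HermOrtho Cfsg.Agent.Lib.UnitaryConjGU

universe u

section alg

variable {K A : Type*} [Field K] [Semiring A] [Algebra K A]

theorem comm_aeval {π T : A} (h : π * T = T * π) (p : K[X]) : π * aeval T p = aeval T p * π := by
  induction p using Polynomial.induction_on with
  | C a => rw [aeval_C, Algebra.commutes]
  | add p r hp hr => rw [map_add, mul_add, add_mul, hp, hr]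
  | monomial n a ih =>
    rw [pow_succ, ← mul_assoc, map_mul, aeval_X, ← mul_assoc, ih, mul_assoc, mul_assoc, h]

end alg

variable {K : Type u} [Field K] [Fintype K] {q n : ℕ}

theorem herm_adj (hK : Fintype.card K = q ^ 2) (M : Matrix (Fin n) (Fin n) K) (u v : Fin n → K) :
    hermForm n K q (M *ᵥ u) v = hermForm n K q u (st q M *ᵥ v) := by
  unfold hermForm
  have h1 : ∀ j, (st q M *ᵥ v) j ^ q = ∑ i, M i j * v i ^ q := by
    intro j
    rw [Matrix.mulVec, dotProduct, sum_pow_q hK]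
    refine Finset.sum_congr rfl fun i _ => ?_
    rw [st_apply, mul_pow, Cfsg.Agent.Lib.HermCount.pow_q_pow_q hK]
  simp_rw [h1, Matrix.mulVec, dotProduct, Finset.sum_mul, Finset.mul_sum]
  rw [Finset.sum_comm]
  refine Finset.sum_congr rfl fun i _ => Finset.sum_congr rfl fun j _ => ?_
  ring

theorem herm_right_nondeg (hK : Fintype.card K = q ^ 2) {y : Fin n → K} (h : ∀ u, hermForm n K q u y = 0) : y = 0 := by
  by_contra hy
  obtain ⟨w, hw⟩ := exists_hermForm_ne_zero hK hy
  apply hw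
  rw [← hermForm_conj hK w y, h, zero_pow]
  have := Cfsg.Agent.Lib.HermCount.two_le_q hK
  omega

/-- The cyclic subspace generated by a vector. -/
def cyc (T : Matrix (Fin n) (Fin n) K) (x : Fin n → K) : Submodule K (Fin n → K) where
  carrier := {v | ∃ p : K[X], aeval T p *ᵥ x = v}
  add_mem' := by
    rintro _ _ ⟨p, rfl⟩ ⟨r, rfl⟩
    exact ⟨p + r, by rw [map_add, Matrix.add_mulVec]⟩
  zero_mem' := ⟨0, by simp⟩
  smul_mem' := by
    rintro c _ ⟨p, rfl⟩
    exact ⟨c • p, by rw [map_smul, Matrix.smul_mulVec]⟩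

theorem cyc_T {T : Matrix (Fin n) (Fin n) K} {x v : Fin n → K} (hv : v ∈ cyc T x) : T *ᵥ v ∈ cyc T x := by
  obtain ⟨p, rfl⟩ := hv
  exact ⟨X * p, by rw [map_mul, aeval_X, Matrix.mulVec_mulVec]⟩

theorem cyc_pow {T : Matrix (Fin n) (Fin n) K} {x v : Fin n → K} (j : ℕ) (hv : v ∈ cyc T x) : T ^ j *ᵥ v ∈ cyc T x := by
  obtain ⟨p, rfl⟩ := hv
  exact ⟨X ^ j * p, by rw [map_mul, map_pow, aeval_X, Matrix.mulVec_mulVec]⟩

theorem self_mem_cyc (T : Matrix (Fin n) (Fin n) K) (x : Fin n → K) : x ∈ cyc T x :=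
  ⟨1, by rw [map_one, Matrix.one_mulVec]⟩

theorem aeval_mem {T : Matrix (Fin n) (Fin n) K} {S : Submodule K (Fin n → K)} (hS : ∀ v ∈ S, T *ᵥ v ∈ S) (p : K[X]) :
    ∀ {v}, v ∈ S → aeval T p *ᵥ v ∈ S := by
  induction p using Polynomial.induction_on with
  | C a =>
    intro v hv
    rw [aeval_C, Algebra.algebraMap_eq_smul_one, Matrix.smul_mulVec, Matrix.one_mulVec]
    exact S.smul_mem _ hv
  | add p r hp hr =>
    intro v hv
    rw [map_add, Matrix.add_mulVec]
    exact S.add_mem (hp hv) (hr hv)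
  | monomial j a ih =>
    intro v hv
    rw [pow_succ, ← mul_assoc, map_mul, aeval_X, ← Matrix.mulVec_mulVec]
    exact ih (hS v hv)

theorem st_aeval (hK : Fintype.card K = q ^ 2) (T : Matrix (Fin n) (Fin n) K) (p : K[X]) :
    st q (aeval T p) = aeval (st q T) (p.map (Cfsg.Agent.Lib.UnitaryBasic.sigma hK)) := by
  induction p using Polynomial.induction_on with
  | C a =>
    rw [aeval_C, Polynomial.map_C, aeval_C, Algebra.algebraMap_eq_smul_one, Algebra.algebraMap_eq_smul_one, st_smul_one hK]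
    rfl
  | add p r hp hr => rw [map_add, st_add hK, hp, hr, Polynomial.map_add, map_add]
  | monomial j a ih =>
    rw [pow_succ, ← mul_assoc]
    obtain ⟨r, hr⟩ : ∃ r, r = C a * X ^ j := ⟨_, rfl⟩
    rw [← hr] at ih ⊢
    have e1 : aeval T (r * X) = aeval T r * T := by rw [map_mul, aeval_X]
    have e2 : aeval (st q T) ((r * X).map (Cfsg.Agent.Lib.UnitaryBasic.sigma hK)) =
        aeval (st q T) (r.map (Cfsg.Agent.Lib.UnitaryBasic.sigma hK)) * st q T := by
      rw [Polynomial.map_mul, Polynomial.map_X, map_mul, aeval_X]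
    rw [e1, e2, st_mul hK, ih]
    exact comm_aeval rfl _

theorem det_st (hK : Fintype.card K = q ^ 2) (X : Matrix (Fin n) (Fin n) K) : (st q X).det = X.det ^ q := by
  rw [st_eq hK, Matrix.det_transpose]
  exact (RingHom.map_det (Cfsg.Agent.Lib.UnitaryBasic.sigma hK) X).symm

section proj

variable {T : Matrix (Fin n) (Fin n) K} {m : ℕ}

/-- A nondegenerate nonzero cyclic subspace. -/
theorem exists_nd_cyc (hK : Fintype.card K = q ^ 2) (hn : 1 ≤ n) (hst : st q T * T = 1) (hT : T ^ m = 1) (hm : (m : K) ≠ 0) :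
    ∃ x' : Fin n → K, x' ≠ 0 ∧ ND q (cyc T x') := by
  classical
  have hm0 : m ≠ 0 := by
    rintro rfl
    simp at hm
  have hTinv : T * T ^ (m - 1) = 1 := by rw [← pow_succ', Nat.sub_add_cancel (by omega), hT]
  have hiso : ∀ u v, hermForm n K q (T *ᵥ u) (T *ᵥ v) = hermForm n K q u v := by
    intro u v
    rw [herm_adj hK, Matrix.mulVec_mulVec, hst, Matrix.one_mulVec]
  have hiso' : ∀ u v, hermForm n K q (T *ᵥ u) v = hermForm n K q u (T ^ (m - 1) *ᵥ v) := by
    intro u v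
    have e : v = T *ᵥ (T ^ (m - 1) *ᵥ v) := by rw [Matrix.mulVec_mulVec, hTinv, Matrix.one_mulVec]
    conv_lhs => rw [e]
    exact hiso _ _
  -- semisimplicity
  have hpow : (Matrix.toLin' T : End K (Fin n → K)) ^ m = 1 := by
    have := congrArg (Matrix.toLinAlgEquiv' (R := K) (n := Fin n)) hT
    rw [map_pow, map_one] at this
    exact this
  have hss : Module.End.IsSemisimple (Matrix.toLin' T : End K (Fin n → K)) := by
    refine Module.End.isSemisimple_of_squarefree_aeval_eq_zero (p := X ^ m - C 1) ?_ ?_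
    · exact (Polynomial.separable_X_pow_sub_C (1 : K) hm one_ne_zero).squarefree
    · rw [map_sub, map_pow, aeval_X, aeval_C, map_one, hpow, sub_self]
  -- the starting vector
  let i₀ : Fin n := ⟨0, by omega⟩
  obtain ⟨x, hxx⟩ : ∃ x : Fin n → K, hermForm n K q x x = 1 := ⟨Pi.single i₀ 1, by
    rw [hermForm_single_right hK]
    simp⟩
  -- the radical
  obtain ⟨W₀, hW₀⟩ : ∃ W₀, W₀ = cyc T x := ⟨_, rfl⟩
  have hW₀T : ∀ v ∈ W₀, T *ᵥ v ∈ W₀ := fun v hv => by
    rw [hW₀] at hv ⊢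
    exact cyc_T hv
  have hW₀T' : ∀ v ∈ W₀, T ^ (m - 1) *ᵥ v ∈ W₀ := fun v hv => by
    rw [hW₀] at hv ⊢
    exact cyc_pow _ hv
  have hxW₀ : x ∈ W₀ := by
    rw [hW₀]
    exact self_mem_cyc T x
  obtain ⟨R, hR⟩ : ∃ R, R = W₀ ⊓ perp (q := q) W₀ := ⟨_, rfl⟩
  have hRmem : ∀ v, v ∈ R ↔ v ∈ W₀ ∧ ∀ w ∈ W₀, hermForm n K q v w = 0 := fun v => by
    rw [hR]
    rfl
  have hRT : ∀ v ∈ R, T *ᵥ v ∈ R := by
    intro v hv
    rw [hRmem] at hv ⊢
    refine ⟨hW₀T v hv.1, fun w hw => ?_⟩
    rw [hiso']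
    exact hv.2 _ (hW₀T' w hw)
  have hRinv : R ∈ Module.End.invtSubmodule (Matrix.toLin' T : End K (Fin n → K)) := by
    rw [Module.End.mem_invtSubmodule]
    intro v hv
    exact hRT v hv
  obtain ⟨Q, hQinv, hRQ⟩ := Module.End.isSemisimple_iff.1 hss R hRinv
  have hQT : ∀ v ∈ Q, T *ᵥ v ∈ Q := by
    intro v hv
    rw [Module.End.mem_invtSubmodule] at hQinv
    exact hQinv hv
  obtain ⟨r, hr, x', hx', hsum⟩ := Submodule.mem_sup.1 (by rw [hRQ.sup_eq_top]; trivial : x ∈ R ⊔ Q)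
  have hx'0 : x' ≠ 0 := by
    rintro rfl
    rw [add_zero] at hsum
    subst hsum
    rw [((hRmem r).1 hr).2 r ((hRmem r).1 hr).1] at hxx
    exact zero_ne_one hxx
  refine ⟨x', hx'0, ?_⟩
  -- the cyclic subspace
  have hWQ : ∀ v ∈ cyc T x', v ∈ Q := by
    intro v hv
    obtain ⟨p, rfl⟩ := hv
    exact aeval_mem hQT p hx'
  have hx'W₀ : x' ∈ W₀ := by
    have e : x' = x - r := by rw [← hsum]; abel
    rw [e]
    exact W₀.sub_mem hxW₀ ((hRmem r).1 hr).1
  have hWW₀ : ∀ v ∈ cyc T x', v ∈ W₀ := by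
    intro v hv
    obtain ⟨p, rfl⟩ := hv
    exact aeval_mem hW₀T p hx'W₀
  have hdec₀ : ∀ w ∈ W₀, ∃ w' ∈ cyc T x', ∃ r' ∈ R, w = w' + r' := by
    intro w hw
    rw [hW₀] at hw
    obtain ⟨p, rfl⟩ := hw
    refine ⟨aeval T p *ᵥ x', ⟨p, rfl⟩, aeval T p *ᵥ r, aeval_mem hRT p hr, ?_⟩
    rw [← hsum, Matrix.mulVec_add, add_comm]
  intro u hu hperp
  have h1 : u ∈ R := by
    rw [hRmem]
    refine ⟨hWW₀ u hu, fun w hw => ?_⟩
    obtain ⟨w', hw', r', hr', rfl⟩ := hdec₀ w hw
    rw [hermForm_add_right hK, hperp w' hw', zero_add, ← hermForm_conj hK r' u,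
      ((hRmem r').1 hr').2 u (hWW₀ u hu), zero_pow]
    have := Cfsg.Agent.Lib.HermCount.two_le_q hK
    omega
  have h2 := Submodule.mem_inf.2 ⟨h1, hWQ u hu⟩
  rw [hRQ.inf_eq_bot, Submodule.mem_bot] at h2
  exact h2

/-- On a cyclic subspace a polynomial in `T` has prescribed determinant. -/
theorem exists_poly_on {x' : Fin n → K} (hne : x' ≠ 0) (hT : T ^ m = 1) (hm : (m : K) ≠ 0) {δ : K} (hδ : δ ≠ 0)
    {W : Submodule K (Fin n → K)} (hW : W = cyc T x') :
    ∃ (Z' : End K W) (p : K[X]), LinearMap.det Z' = δ ∧ ∀ w : W, ((Z' w : W) : Fin n → K) = aeval T p *ᵥ w.1 := by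
  classical
  have hx'W : x' ∈ W := by
    rw [hW]
    exact self_mem_cyc T x'
  have hWT : ∀ v ∈ W, T *ᵥ v ∈ W := fun v hv => by
    rw [hW] at hv ⊢
    exact cyc_T hv
  have hWne : W ≠ ⊥ := by
    intro h0
    rw [h0, Submodule.mem_bot] at hx'W
    exact hne hx'W
  have hk : 1 ≤ finrank K W := Submodule.one_le_finrank_iff.2 hWne
  obtain ⟨T', hT'apply⟩ : ∃ T' : End K W, ∀ w : W, ((T' w : W) : Fin n → K) = T *ᵥ w.1 :=
    ⟨(Matrix.toLin' T : End K (Fin n → K)).restrict hWT, fun w => rfl⟩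
  have hT'pow : ∀ j (w : W), (((T' ^ j) w : W) : Fin n → K) = T ^ j *ᵥ w.1 := by
    intro j
    induction j with
    | zero => intro w; simp
    | succ j ih =>
      intro w
      rw [pow_succ, Module.End.mul_apply, ih, hT'apply, Matrix.mulVec_mulVec, pow_succ]
  have hT'm : T' ^ m = 1 := by
    refine LinearMap.ext fun w => Subtype.ext ?_
    rw [hT'pow, hT, Matrix.one_mulVec]
    rfl
  obtain ⟨b⟩ : Nonempty (Basis (Fin (finrank K W)) K W) := ⟨Module.finBasis K W⟩
  have hA' : (LinearMap.toMatrixAlgEquiv b T') ^ m = 1 := by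
    rw [← map_pow, hT'm, map_one]
  obtain ⟨Zm, hZdet, hZcomm⟩ := Cfsg.Agent.Lib.SemisimpleGL.mat_centralizer hk hm hA' hδ
  obtain ⟨Z', hZ'm⟩ : ∃ Z' : End K W, LinearMap.toMatrixAlgEquiv b Z' = Zm :=
    ⟨(LinearMap.toMatrixAlgEquiv b).symm Zm, AlgEquiv.apply_symm_apply _ _⟩
  have hZ'T : Z' * T' = T' * Z' := by
    apply (LinearMap.toMatrixAlgEquiv b).injective
    rw [map_mul, map_mul, hZ'm]
    exact hZcomm
  have hZ'det : LinearMap.det Z' = δ := by
    rw [← hZdet, ← hZ'm]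
    exact (LinearMap.det_toMatrix b Z').symm
  -- it is a polynomial in `T`
  have hcoe : ∀ (r' : K[X]) (y : W), ((aeval T' r' y : W) : Fin n → K) = aeval T r' *ᵥ y.1 := by
    intro r'
    induction r' using Polynomial.induction_on with
    | C a =>
      intro y
      rw [aeval_C, aeval_C, Algebra.algebraMap_eq_smul_one, Algebra.algebraMap_eq_smul_one, Matrix.smul_mulVec, Matrix.one_mulVec]
      rfl
    | add p r hp hr =>
      intro y
      rw [map_add, map_add, Matrix.add_mulVec, LinearMap.add_apply, Submodule.coe_add, hp, hr]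
    | monomial j a ih =>
      intro y
      rw [pow_succ, ← mul_assoc]
      obtain ⟨r, hr⟩ : ∃ r, r = C a * X ^ j := ⟨_, rfl⟩
      rw [← hr] at ih ⊢
      have e1 : aeval T (r * X) = aeval T r * T := by rw [map_mul, aeval_X]
      have e2 : aeval T' (r * X) = aeval T' r * T' := by rw [map_mul, aeval_X]
      rw [e1, e2, Module.End.mul_apply, ih, hT'apply, Matrix.mulVec_mulVec]
  have hWmem : ∀ v ∈ W, ∃ p : K[X], aeval T p *ᵥ x' = v := by
    intro v hv
    rw [hW] at hv
    exact hv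
  obtain ⟨p, hp⟩ : ∃ p : K[X], aeval T p *ᵥ x' = ((Z' ⟨x', hx'W⟩ : W) : Fin n → K) := hWmem _ (Z' ⟨x', hx'W⟩).2
  refine ⟨Z', p, hZ'det, ?_⟩
  intro w
  obtain ⟨r', hr'⟩ : ∃ r' : K[X], aeval T r' *ᵥ x' = w.1 := hWmem _ w.2
  have e1 : w = aeval T' r' ⟨x', hx'W⟩ := by
    apply Subtype.ext
    rw [hcoe, ← hr']
  have e2 : Z' (aeval T' r' ⟨x', hx'W⟩) = aeval T' r' (Z' ⟨x', hx'W⟩) := by
    have h5 : Z' * aeval T' r' = aeval T' r' * Z' := comm_aeval hZ'T r'
    have := LinearMap.congr_fun h5 (⟨x', hx'W⟩ : W)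
    simpa only [Module.End.mul_apply] using this
  rw [e1, e2, hcoe, hcoe, ← hp, Matrix.mulVec_mulVec, Matrix.mulVec_mulVec]
  rw [← map_mul, ← map_mul, mul_comm]

/-- The key construction: an orthogonal projection onto a cyclic nondegenerate subspace, on which some polynomial
in `T` has prescribed determinant. -/
theorem exists_proj (hK : Fintype.card K = q ^ 2) (hn : 1 ≤ n) (hst : st q T * T = 1) (hT : T ^ m = 1) (hm : (m : K) ≠ 0)
    {δ : K} (hδ : δ ≠ 0) :
    ∃ (π : Matrix (Fin n) (Fin n) K) (p : K[X]), π * π = π ∧ st q π = π ∧ π * T = T * π ∧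
      ((1 - π) + π * aeval T p).det = δ := by
  classical
  have hm0 : m ≠ 0 := by
    rintro rfl
    simp at hm
  have hTinv : T * T ^ (m - 1) = 1 := by rw [← pow_succ', Nat.sub_add_cancel (by omega), hT]
  have hiso : ∀ u v, hermForm n K q (T *ᵥ u) (T *ᵥ v) = hermForm n K q u v := by
    intro u v
    rw [herm_adj hK, Matrix.mulVec_mulVec, hst, Matrix.one_mulVec]
  have hiso' : ∀ u v, hermForm n K q (T *ᵥ u) v = hermForm n K q u (T ^ (m - 1) *ᵥ v) := by
    intro u v
    have e : v = T *ᵥ (T ^ (m - 1) *ᵥ v) := by rw [Matrix.mulVec_mulVec, hTinv, Matrix.one_mulVec]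
    conv_lhs => rw [e]
    exact hiso _ _
  obtain ⟨x', hx'0, hND'⟩ := exists_nd_cyc hK hn hst hT hm
  obtain ⟨W, hW⟩ : ∃ W, W = cyc T x' := ⟨_, rfl⟩
  rw [← hW] at hND'
  have hND : ND q W := hND'
  have hWT : ∀ v ∈ W, T *ᵥ v ∈ W := fun v hv => by
    rw [hW] at hv ⊢
    exact cyc_T hv
  have hWT' : ∀ v ∈ W, T ^ (m - 1) *ᵥ v ∈ W := fun v hv => by
    rw [hW] at hv ⊢
    exact cyc_pow _ hv
  obtain ⟨Z', p, hZ'det, hZ'p⟩ := exists_poly_on hx'0 hT hm hδ hW
  -- the complement
  have hc : IsCompl W (perp (q := q) W) := by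
    have h1 := (perp_props hK hND rfl).1
    rw [Submodule.isCompl_iff_disjoint]
    · rw [Submodule.disjoint_def]
      intro v hv hv'
      exact hND v hv hv'
    · have h2 := W.finrank_le
      simp only [finrank_fin_fun] at h2 ⊢
      omega
  have hpT : ∀ v ∈ perp (q := q) W, T *ᵥ v ∈ perp (q := q) W := by
    intro v hv w hw
    rw [hiso']
    exact hv _ (hWT' w hw)
  -- the projection
  obtain ⟨π, hπapp⟩ : ∃ π : Matrix (Fin n) (Fin n) K, ∀ v, π *ᵥ v =
      ((Submodule.projectionOnto W (perp (q := q) W) hc v : W) : Fin n → K) :=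
    ⟨LinearMap.toMatrix' (W.subtype ∘ₗ Submodule.projectionOnto W (perp (q := q) W) hc), fun v =>
      LinearMap.toMatrix'_mulVec _ v⟩
  have hπW : ∀ w ∈ W, π *ᵥ w = w := by
    intro w hw
    rw [hπapp]
    have h1 := Submodule.projectionOnto_apply_left hc ⟨w, hw⟩
    exact congrArg Subtype.val h1
  have hπP : ∀ w ∈ perp (q := q) W, π *ᵥ w = 0 := by
    intro w hw
    rw [hπapp]
    have h1 := Submodule.projectionOnto_apply_right hc ⟨w, hw⟩
    exact congrArg Subtype.val h1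
  have hdec : ∀ v, ∃ w ∈ W, ∃ u ∈ perp (q := q) W, v = w + u := by
    intro v
    obtain ⟨w, hw, u, hu, h⟩ := Submodule.mem_sup.1 (by rw [hc.sup_eq_top]; trivial : v ∈ W ⊔ perp (q := q) W)
    exact ⟨w, hw, u, hu, h.symm⟩
  have hmat : ∀ {X Y : Matrix (Fin n) (Fin n) K}, (∀ v, X *ᵥ v = Y *ᵥ v) → X = Y := by
    intro X Y h
    apply Matrix.toLin'.injective
    exact LinearMap.ext h
  have hπval : ∀ w ∈ W, ∀ u ∈ perp (q := q) W, π *ᵥ (w + u) = w := by
    intro w hw u hu
    rw [Matrix.mulVec_add, hπW w hw, hπP u hu, add_zero]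
  have hconj0 : ∀ {a b : Fin n → K}, hermForm n K q a b = 0 → hermForm n K q b a = 0 := by
    intro a b hab
    rw [← hermForm_conj hK a b, hab, zero_pow]
    have := Cfsg.Agent.Lib.HermCount.two_le_q hK
    omega
  refine ⟨π, p, ?_, ?_, ?_, ?_⟩
  · apply hmat
    intro v
    obtain ⟨w, hw, u, hu, rfl⟩ := hdec v
    rw [← Matrix.mulVec_mulVec, hπval w hw u hu, hπW w hw]
  · apply hmat
    intro v
    rw [← sub_eq_zero]
    apply herm_right_nondeg hK
    intro z
    rw [hermForm_sub_right hK, ← herm_adj hK, sub_eq_zero]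
    obtain ⟨w, hw, u, hu, rfl⟩ := hdec z
    obtain ⟨w₁, hw₁, u₁, hu₁, rfl⟩ := hdec v
    rw [hπval w hw u hu, hπval w₁ hw₁ u₁ hu₁, hermForm_add_left, hermForm_add_right hK, hu _ hw₁, add_zero,
      hconj0 (hu₁ w hw), add_zero]
  · apply hmat
    intro v
    obtain ⟨w, hw, u, hu, rfl⟩ := hdec v
    rw [← Matrix.mulVec_mulVec, ← Matrix.mulVec_mulVec, hπval w hw u hu, Matrix.mulVec_add, hπval _ (hWT w hw) _ (hpT u hu)]
  · -- the determinant
    obtain ⟨e, he⟩ : ∃ e : (W × ↥(perp (q := q) W)) ≃ₗ[K] (Fin n → K), ∀ y, e y = y.1.1 + y.2.1 :=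
      ⟨Submodule.prodEquivOfIsCompl W (perp (q := q) W) hc, fun y => rfl⟩
    have hC : Matrix.toLin' ((1 - π) + π * aeval T p) =
        (e : _ →ₗ[K] _) ∘ₗ (LinearMap.prodMap Z' (LinearMap.id : End K (perp (q := q) W))) ∘ₗ (e.symm : _ →ₗ[K] _) := by
      refine LinearMap.ext fun v => ?_
      obtain ⟨y, rfl⟩ := e.surjective v
      obtain ⟨w, u⟩ := y
      have e2 : aeval T p *ᵥ u.1 ∈ perp (q := q) W := aeval_mem hpT p u.2
      have e3 : aeval T p *ᵥ w.1 ∈ W := by
        rw [← hZ'p]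
        exact (Z' w).2
      simp only [LinearMap.comp_apply, LinearEquiv.coe_coe, LinearEquiv.symm_apply_apply, LinearMap.prodMap_apply,
        LinearMap.id_apply]
      rw [he, he, Matrix.toLin'_apply, Matrix.add_mulVec, Matrix.sub_mulVec, Matrix.one_mulVec]
      simp only
      rw [hπval _ w.2 _ u.2, ← Matrix.mulVec_mulVec, Matrix.mulVec_add, hπval _ e3 _ e2, hZ'p]
      abel
    rw [← LinearMap.det_toLin', hC]
    have := LinearMap.det_conj (LinearMap.prodMap Z' (LinearMap.id : End K (perp (q := q) W))) e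
    rw [← LinearMap.comp_assoc] at this ⊢
    rw [this, LinearMap.det_prodMap, hZ'det, LinearMap.det_id, mul_one]

end proj

/-- The centraliser of a semisimple element of `GU_n(q)` has all determinants of norm one. -/
theorem exists_comm_det (hK : Fintype.card K = q ^ 2) (hn : 1 ≤ n) (g : ↥(GU n K q)) {m : ℕ} (hg : g ^ m = 1)
    (hm : (m : K) ≠ 0) {d : K} (hd : d ^ (q + 1) = 1) :
    ∃ z : ↥(GU n K q), z * g = g * z ∧ ((z : GL (Fin n) K) : Matrix (Fin n) (Fin n) K).det = d := by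
  classical
  obtain ⟨T, hTdef⟩ : ∃ T : Matrix (Fin n) (Fin n) K, T = ((g : GL (Fin n) K) : Matrix (Fin n) (Fin n) K) := ⟨_, rfl⟩
  have hst : st q T * T = 1 := by
    rw [hTdef]
    exact st_mul_self_of_mem hK g.2
  have hT : T ^ m = 1 := by
    have := congrArg (fun x : ↥(GU n K q) => ((x : GL (Fin n) K) : Matrix (Fin n) (Fin n) K)) hg
    simpa [hTdef] using this
  have hm0 : m ≠ 0 := by
    rintro rfl
    simp at hm
  have hTinv : T * T ^ (m - 1) = 1 := by rw [← pow_succ', Nat.sub_add_cancel (by omega), hT]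
  have hstT : st q T = T ^ (m - 1) := by
    have h1 : st q T * T * T ^ (m - 1) = T ^ (m - 1) := by rw [hst, one_mul]
    rwa [mul_assoc, hTinv, mul_one] at h1
  have hd0 : d ≠ 0 := by
    rintro rfl
    rw [zero_pow (by omega)] at hd
    exact zero_ne_one hd
  have hdi : d⁻¹ ^ (q + 1) = 1 := by rw [inv_pow, hd, inv_one]
  obtain ⟨ρ, hρ, hρq⟩ := Cfsg.Agent.Lib.SUCyc.exists_pow_q_eq hK d⁻¹ hdi
  obtain ⟨π, p, hπ1, hπ2, hπ3, hπ4⟩ := exists_proj hK hn hst hT hm hρ
  obtain ⟨a, ha⟩ : ∃ a, a = aeval T p := ⟨_, rfl⟩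
  obtain ⟨b, hb⟩ : ∃ b, b = st q a := ⟨_, rfl⟩
  rw [← ha] at hπ4
  obtain ⟨c, hc⟩ : ∃ c, c = (1 - π) + π * a := ⟨_, rfl⟩
  rw [← hc] at hπ4
  have hπa : π * a = a * π := by
    rw [ha]
    exact comm_aeval hπ3 p
  have haT : a * T = T * a := by
    rw [ha]
    exact (comm_aeval rfl p).symm
  have hπT' : π * st q T = st q T * π := by
    rw [hstT]
    exact (Commute.pow_right hπ3 _)
  have hb' : b = aeval (st q T) (p.map (Cfsg.Agent.Lib.UnitaryBasic.sigma hK)) := by
    rw [hb, ha, st_aeval hK]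
  have hπb : π * b = b * π := by
    rw [hb']
    exact comm_aeval hπT' _
  have hTb : T * b = b * T := by
    rw [hb']
    refine comm_aeval ?_ _
    rw [hstT]
    exact (Commute.pow_right (Commute.refl T) _)
  have hab : a * b = b * a := by
    rw [hb', ha]
    have h1 : aeval T p * st q T = st q T * aeval T p := by
      rw [hstT]
      exact (Commute.pow_right (show Commute (aeval T p) T from (comm_aeval rfl p).symm) _)
    exact comm_aeval h1 _
  have hstc : st q c = (1 - π) + π * b := by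
    have e : st q (1 - π) = 1 - π := by
      have h0 := st_add hK (1 - π) π
      rw [sub_add_cancel, st_one hK, hπ2] at h0
      exact (eq_sub_of_add_eq h0.symm)
    rw [hc, st_add hK, e, st_mul hK, hπ2, ← hb, hπb]
  -- normality
  have hnorm : c * st q c = st q c * c := by
    rw [hstc, hc]
    have h1 : ((1 : Matrix (Fin n) (Fin n) K) - π) * π = 0 := by rw [sub_mul, one_mul, hπ1, sub_self]
    have h2 : π * ((1 : Matrix (Fin n) (Fin n) K) - π) = 0 := by rw [mul_sub, mul_one, hπ1, sub_self]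
    have expand : ∀ x y : Matrix (Fin n) (Fin n) K, π * x = x * π → π * y = y * π →
        ((1 - π) + π * x) * ((1 - π) + π * y) = (1 - π) + π * (x * y) := by
      intro x y hx hy
      have h3 : (1 - π) * (1 - π) = (1 - π) := by
        rw [sub_mul, one_mul, mul_sub, mul_one, hπ1, sub_self, sub_zero]
      calc ((1 - π) + π * x) * ((1 - π) + π * y)
          = (1 - π) * (1 - π) + ((1 - π) * π) * y + x * (π * (1 - π)) + π * π * (x * y) := by
            rw [add_mul, mul_add, mul_add, h3, ← mul_assoc (1 - π) π y]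
            have e1 : π * x * (1 - π) = x * (π * (1 - π)) := by
              rw [hx, mul_assoc]
            have e2 : π * x * (π * y) = π * π * (x * y) := by
              calc π * x * (π * y) = x * (π * π) * y := by rw [hx]; simp only [mul_assoc]
                _ = π * π * (x * y) := by rw [hπ1, ← hx, mul_assoc]
            rw [e1, e2]
            abel
        _ = _ := by rw [h1, h2, h3, hπ1]; simp
    rw [expand a b hπa hπb, expand b a hπb hπa, hab]
  -- invertibility
  have hcdet : IsUnit c.det := by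
    rw [hπ4]
    exact hρ.isUnit
  obtain ⟨c', hcc', hc'c⟩ : ∃ c', c * c' = 1 ∧ c' * c = 1 :=
    ⟨c⁻¹, Matrix.mul_nonsing_inv c hcdet, Matrix.nonsing_inv_mul c hcdet⟩
  have hsc : st q c * st q c' = 1 := by rw [← st_mul hK, hc'c, st_one hK]
  have hsc' : st q c' * st q c = 1 := by rw [← st_mul hK, hcc', st_one hK]
  obtain ⟨Z, hZ⟩ : ∃ Z, Z = c * st q c' := ⟨_, rfl⟩
  have hZZ : st q Z * Z = 1 := by
    have e : st q Z = c' * st q c := by rw [hZ, st_mul hK, st_st hK]
    rw [e, hZ]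
    calc c' * st q c * (c * st q c') = c' * (st q c * c) * st q c' := by simp only [mul_assoc]
      _ = c' * (c * st q c) * st q c' := by rw [hnorm]
      _ = (c' * c) * (st q c * st q c') := by simp only [mul_assoc]
      _ = 1 := by rw [hc'c, hsc, one_mul]
  let z₀ : GL (Fin n) K := ⟨Z, st q Z, mul_eq_one_comm.mp hZZ, hZZ⟩
  have hz₀ : z₀ ∈ GU n K q := mem_of_st_mul_self hK hZZ
  refine ⟨⟨z₀, hz₀⟩, ?_, ?_⟩
  · -- commutation
    have hcT : c * T = T * c := by
      rw [hc, add_mul, mul_add, sub_mul, mul_sub, one_mul, mul_one, hπ3, mul_assoc, haT, ← mul_assoc, ← mul_assoc, hπ3]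
    have hc'T : c' * T = T * c' := by
      calc c' * T = c' * (T * (c * c')) := by rw [hcc', mul_one]
        _ = c' * (c * T) * c' := by rw [hcT]; simp only [mul_assoc]
        _ = (c' * c) * T * c' := by simp only [mul_assoc]
        _ = T * c' := by rw [hc'c, one_mul]
    have hstc'T : st q c' * T = T * st q c' := by
      have h1 : c' * st q T = st q T * c' := by
        rw [hstT]
        exact (Commute.pow_right (show Commute c' T from hc'T) _)
      have h2 := congrArg (st q) h1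
      rw [st_mul hK, st_mul hK, st_st hK] at h2
      exact h2.symm
    apply Subtype.ext
    apply Units.ext
    show Z * ((g : GL (Fin n) K) : Matrix (Fin n) (Fin n) K) = ((g : GL (Fin n) K) : Matrix (Fin n) (Fin n) K) * Z
    rw [← hTdef, hZ, mul_assoc, hstc'T, ← mul_assoc, hcT, mul_assoc]
  · show Z.det = d
    have h1 : c'.det = ρ⁻¹ := by
      have := congrArg Matrix.det hcc'
      rw [Matrix.det_mul, Matrix.det_one, hπ4] at this
      exact eq_inv_of_mul_eq_one_right this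
    rw [hZ, Matrix.det_mul, det_st hK, hπ4, h1, inv_pow, hρq, mul_inv, inv_inv]
    field_simp

end Cfsg.Agent.Lib.SUSemi
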