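import Mathlib
import Cfsg.Agent.Lib.SUSemi
import Cfsg.Agent.Lib.GUOrderP

/-!
# Self-dual polynomials for unitary groups, and a fixed point count
-/

set_option autoImplicit false
set_option linter.unusedSectionVars false
set_option linter.unusedSimpArgs false
set_option linter.unusedVariables false

namespace Cfsg.Agent.Lib.SelfDual

open Module Matrix Polynomial
open Cfsg Cfsg.Agent.Lib.HermForm Cfsg.Agent.Lib.HermCount Cfsg.Agent.Lib.UnitaryConjGU

universe u

section gen

variable {K : Type*} [Field K]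

theorem charpoly_transpose' {n : ℕ} (A : Matrix (Fin n) (Fin n) K) : Aᵀ.charpoly = A.charpoly := by
  rw [Matrix.charpoly, Matrix.charpoly, ← Matrix.det_transpose]
  congr 1
  ext i j
  simp [Matrix.charmatrix_apply, Matrix.transpose_apply, Matrix.diagonal_apply, eq_comm]

theorem reverse_charpoly_of_inv {n : ℕ} {A A' : Matrix (Fin n) (Fin n) K} (h : A * A' = 1) :
    A.charpoly.reverse = C (A.charpoly.coeff 0) * A'.charpoly := by
  have hdet : A.det ≠ 0 := by
    intro h0
    have := congrArg Matrix.det h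
    rw [Matrix.det_mul, h0, zero_mul, Matrix.det_one] at this
    exact zero_ne_one this
  have hU : IsUnit A := (Matrix.isUnit_iff_isUnit_det A).2 hdet.isUnit
  have hinv : A⁻¹ = A' := Matrix.inv_eq_right_inv h
  have h1 := Matrix.charpoly_inv A hU
  rw [hinv, ← Matrix.reverse_charpoly, Ring.inverse_eq_inv'] at h1
  have e : A.charpoly.coeff 0 = (-1) ^ n * A.det := by
    have h3 := Matrix.det_eq_sign_charpoly_coeff A
    rw [Fintype.card_fin] at h3
    rw [h3, ← mul_assoc, ← mul_pow]
    simp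
  rw [h1, e, map_mul, map_pow, map_neg, map_one]
  have h4 : (C A.det : K[X]) * C A.det⁻¹ = 1 := by
    rw [← map_mul, mul_inv_cancel₀ hdet, map_one]
  rw [Fintype.card_fin]
  have h5 : ((-1 : K[X]) ^ n) * ((-1 : K[X]) ^ n) = 1 := by
    rw [← mul_pow]
    simp
  calc A.charpoly.reverse = ((-1 : K[X]) ^ n * (-1 : K[X]) ^ n) * ((C A.det : K[X]) * C A.det⁻¹) * A.charpoly.reverse := by
        rw [h4, h5, one_mul, one_mul]
    _ = _ := by ring

theorem reverse_map_eq (σ : K →+* K) (f : K[X]) : (f.map σ).reverse = f.reverse.map σ := by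
  ext i
  rw [coeff_reverse, coeff_map, coeff_map, coeff_reverse, natDegree_map_eq_of_injective σ.injective]

end gen

section hermitian

variable {K : Type u} [Field K] [Fintype K] {q n : ℕ}

/-- The self-duality condition for polynomials. -/
def SD (hK : Fintype.card K = q ^ 2) (f : K[X]) : Prop :=
  (f.map (Cfsg.Agent.Lib.UnitaryBasic.sigma hK)).reverse = C (f.coeff 0 ^ q) * f

theorem map_sigma_sigma (hK : Fintype.card K = q ^ 2) (f : K[X]) :
    (f.map (Cfsg.Agent.Lib.UnitaryBasic.sigma hK)).map (Cfsg.Agent.Lib.UnitaryBasic.sigma hK) = f := by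
  ext i
  rw [coeff_map, coeff_map]
  exact pow_q_pow_q hK _

theorem charpoly_st (hK : Fintype.card K = q ^ 2) (A : Matrix (Fin n) (Fin n) K) :
    (st q A).charpoly = A.charpoly.map (Cfsg.Agent.Lib.UnitaryBasic.sigma hK) := by
  rw [st_eq hK, charpoly_transpose', Matrix.charpoly_map]

theorem sd_of_unitary (hK : Fintype.card K = q ^ 2) {A : Matrix (Fin n) (Fin n) K} (h : st q A * A = 1) :
    SD hK A.charpoly := by
  have h1 := reverse_charpoly_of_inv (mul_eq_one_comm.mp h)
  rw [charpoly_st hK] at h1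
  have h2 := congrArg (Polynomial.map (Cfsg.Agent.Lib.UnitaryBasic.sigma hK)) h1
  rw [Polynomial.map_mul, map_C, map_sigma_sigma hK, ← reverse_map_eq] at h2
  exact h2

/-- Realisation in `GU`. -/
theorem exists_GU_of_sd (p : ℕ) [Fact p.Prime] [CharP K p] (hK : Fintype.card K = q ^ 2) {f : K[X]} (hf : f.Monic)
    (hd : f.natDegree = n) (h0 : f.coeff 0 ≠ 0) (hsd : SD hK f) :
    ∃ B : ↥(GU n K q), (orderOf B).Coprime p ∧ ((B : GL (Fin n) K) : Matrix (Fin n) (Fin n) K).charpoly = f := by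
  classical
  obtain ⟨A, m, hA, hm, hc⟩ := Cfsg.Agent.Lib.SemisimpleGL.mat_exists p f hf hd h0
  have hp : p.Prime := Fact.out
  have hm0 : m ≠ 0 := by
    rintro rfl
    exact hp.one_lt.ne' (Nat.coprime_zero_left p |>.mp hm)
  have hAA' : A * A ^ (m - 1) = 1 := by rw [← pow_succ', Nat.sub_add_cancel (by omega), hA]
  have hA'A : A ^ (m - 1) * A = 1 := mul_eq_one_comm.mp hAA'
  obtain ⟨A', hA'⟩ : ∃ A', A' = A ^ (m - 1) := ⟨_, rfl⟩
  rw [← hA'] at hAA' hA'A
  let g : GL (Fin n) K := ⟨A, A', hAA', hA'A⟩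
  have hgm : g ^ m = 1 := Units.ext (by rw [Units.val_pow_eq_pow_val]; exact hA)
  have hord : orderOf g ∣ m := orderOf_dvd_of_pow_eq_one hgm
  -- the dual matrix
  obtain ⟨B, hB⟩ : ∃ B, B = st q A' := ⟨_, rfl⟩
  have hBm : B ^ m = 1 := by
    rw [hB, ← Cfsg.Agent.Lib.GUOrderP.st_pow hK, hA', ← pow_mul, mul_comm, pow_mul, hA, one_pow, st_one hK]
  have hBc : B.charpoly = f := by
    have h1 := reverse_charpoly_of_inv hAA'
    rw [hc] at h1
    have h2 := congrArg (Polynomial.map (Cfsg.Agent.Lib.UnitaryBasic.sigma hK)) h1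
    rw [Polynomial.map_mul, map_C, ← reverse_map_eq, ← charpoly_st hK, ← hB] at h2
    have h3 : (Cfsg.Agent.Lib.UnitaryBasic.sigma hK) (f.coeff 0) = f.coeff 0 ^ q := rfl
    rw [h3, hsd] at h2
    have h4 : (C (f.coeff 0 ^ q) : K[X]) ≠ 0 := by
      rw [Ne, C_eq_zero]
      exact pow_ne_zero _ h0
    exact (mul_left_cancel₀ h4 h2).symm
  have hcm := Cfsg.Agent.Lib.SemisimpleGL.cast_ne_of_coprime (F := K) p hm
  obtain ⟨Y, hY, hYA⟩ := Cfsg.Agent.Lib.SemisimpleGL.mat_conj hcm hcm hA hBm (by rw [hc, hBc])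
  have hconj : IsConj (g : Matrix (Fin n) (Fin n) K) (((g : Matrix (Fin n) (Fin n) K).map (fun x : K => x ^ q)).transpose)⁻¹ := by
    have e : (((g : Matrix (Fin n) (Fin n) K).map (fun x : K => x ^ q)).transpose)⁻¹ = B := by
      refine Matrix.inv_eq_right_inv ?_
      rw [hB]
      have e2 : ((g : Matrix (Fin n) (Fin n) K).map (fun x : K => x ^ q)).transpose = st q A := rfl
      rw [e2, ← st_mul hK, hA'A, st_one hK]
    rw [e]
    have hYU : IsUnit Y := (Matrix.isUnit_iff_isUnit_det Y).2 hY.isUnit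
    obtain ⟨u, hu⟩ := hYU
    exact ⟨u, by rw [hu]; exact hYA⟩
  obtain ⟨B', hB'⟩ := (exists_GU_conj_iff hK g).2 hconj
  refine ⟨B', ?_, ?_⟩
  · have h1 : orderOf (B' : GL (Fin n) K) = orderOf g := (Cfsg.Agent.Lib.Inv2Count.orderOf_of_isConj hB').symm
    rw [← Subgroup.orderOf_coe, h1]
    exact Nat.Coprime.coprime_dvd_left hord hm
  · obtain ⟨c, hcc⟩ := isConj_iff.1 hB'
    rw [← hcc, ← hc]
    show ((c : Matrix (Fin n) (Fin n) K) * A * ((c⁻¹ : GL (Fin n) K) : Matrix (Fin n) (Fin n) K)).charpoly = _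
    rw [Matrix.charpoly_mul_comm, ← mul_assoc, Units.inv_mul, one_mul]

end hermitian

section fix

variable {K : Type u} [Field K] [Fintype K] {q : ℕ}

/-- Descent: a semilinear involution has `q ^ m` fixed points. -/
theorem card_fix (hK : Fintype.card K = q ^ 2) {ι : Type*} [Fintype ι] (τ : (ι → K) → (ι → K))
    (hadd : ∀ a b, τ (a + b) = τ a + τ b) (hsmul : ∀ (c : K) a, τ (c • a) = c ^ q • τ a)
    (hinv : ∀ a, τ (τ a) = a) :
    Nat.card {a : ι → K // τ a = a} = q ^ Fintype.card ι := by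
  classical
  -- the trace
  let L : (ι → K) →+ (ι → K) :=
    { toFun := fun a => a + τ a
      map_zero' := by
        have h0 : τ 0 = 0 := by
          have := hadd 0 0
          rw [add_zero] at this
          exact left_eq_add.mp this
        rw [h0, add_zero]
      map_add' := fun a b => by
        rw [hadd]
        abel }
  have hL : ∀ a, L a = a + τ a := fun _ => rfl
  obtain ⟨t, ht⟩ := Cfsg.Agent.Lib.HermLines.exists_trace hK (one_pow (M := K) q)
  obtain ⟨w, hw⟩ := exists_ne_pow hK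
  have hq2 := two_le_q hK
  have hτ0 : τ 0 = 0 := by
    have := hadd 0 0
    rw [add_zero] at this
    exact left_eq_add.mp this
  -- the range
  have hrange : Nat.card L.range = Nat.card {a : ι → K // τ a = a} := by
    refine Nat.card_congr ⟨fun y => ⟨y.1, ?_⟩, fun y => ⟨y.1, ?_⟩, fun _ => rfl, fun _ => rfl⟩
    · obtain ⟨y, hy⟩ := y
      obtain ⟨a, rfl⟩ := hy
      show τ (L a) = L a
      rw [hL, hadd, hinv, add_comm]
    · obtain ⟨y, hy⟩ := y
      refine ⟨t • y, ?_⟩
      show t • y + τ (t • y) = y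
      rw [hsmul, hy, ← add_smul, ht, one_smul]
  -- the kernel
  obtain ⟨θ, hθ0, hθ⟩ : ∃ θ : K, θ ≠ 0 ∧ θ ^ q = -θ := by
    refine ⟨w - w ^ q, sub_ne_zero.mpr (Ne.symm hw), ?_⟩
    rw [sub_pow_q hK, pow_q_pow_q hK]
    abel
  have hker : Nat.card L.ker = Nat.card {a : ι → K // τ a = a} := by
    refine Nat.card_congr ⟨fun y => ⟨θ⁻¹ • y.1, ?_⟩, fun y => ⟨θ • y.1, ?_⟩, ?_, ?_⟩
    · obtain ⟨y, hy⟩ := y
      have hy' : y + τ y = 0 := hy
      have h1 : τ y = -y := eq_neg_of_add_eq_zero_right hy'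
      show τ (θ⁻¹ • y) = θ⁻¹ • y
      rw [hsmul, h1, inv_pow, hθ, inv_neg, smul_neg, neg_smul, neg_neg]
    · obtain ⟨y, hy⟩ := y
      show θ • y + τ (θ • y) = 0
      rw [hsmul, hy, hθ, neg_smul, add_neg_cancel]
    · intro y
      apply Subtype.ext
      simp [smul_smul, hθ0]
    · intro y
      apply Subtype.ext
      simp [smul_smul, hθ0]
  have hmul : Nat.card L.range * Nat.card L.ker = Nat.card (ι → K) := by
    rw [← AddSubgroup.index_ker, mul_comm]
    exact AddSubgroup.card_mul_index L.ker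
  rw [hrange, hker, Nat.card_eq_fintype_card (α := ι → K), Fintype.card_fun, hK, ← pow_mul] at hmul
  have h2 : Nat.card {a : ι → K // τ a = a} ^ 2 = (q ^ Fintype.card ι) ^ 2 := by
    rw [_root_.sq, hmul, ← pow_mul, mul_comm]
  exact Nat.pow_left_injective (n := 2) (by omega) h2

end fix

section count

variable {K : Type u} [Field K] [Fintype K] {q : ℕ}

theorem exists_poly (k : ℕ) (ε : K) (a : Fin k → K) :
    ∃ f : K[X], f.Monic ∧ f.natDegree = k + 1 ∧ f.coeff 0 = ε ∧ ∀ j : Fin k, f.coeff (j.val + 1) = a j := by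
  classical
  let g : K[X] := C ε + ∑ i : Fin k, C (a i) * X ^ (i.val + 1)
  have hg : ∀ j, g.coeff j = if h : j = 0 then ε else
      if h' : j - 1 < k then a ⟨j - 1, h'⟩ else 0 := by
    intro j
    simp only [g, coeff_add, finsetSum_coeff, coeff_C_mul_X_pow, coeff_C]
    by_cases h : j = 0
    · subst h
      simp
    · rw [if_neg h, dif_neg h, zero_add]
      by_cases h' : j - 1 < k
      · rw [dif_pos h', Finset.sum_eq_single ⟨j - 1, h'⟩]
        · rw [if_pos (by simp; omega)]
        · intro b _ hb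
          rw [if_neg]
          intro e
          apply hb
          apply Fin.ext
          simp
          omega
        · simp
      · rw [dif_neg h']
        apply Finset.sum_eq_zero
        intro b _
        rw [if_neg]
        have := b.2
        omega
  have hdeg : g.degree < ((k + 1 : ℕ) : WithBot ℕ) := by
    rw [Polynomial.degree_lt_iff_coeff_zero]
    intro j hj
    rw [hg, dif_neg (by omega), dif_neg (by omega)]
  have hm : (X ^ (k + 1) + g).Monic := monic_X_pow_add hdeg
  have hd : (X ^ (k + 1) + g).natDegree = k + 1 := by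
    apply natDegree_eq_of_degree_eq_some
    rw [degree_add_eq_left_of_degree_lt (by rw [degree_X_pow]; exact hdeg), degree_X_pow]
  refine ⟨X ^ (k + 1) + g, hm, hd, ?_, ?_⟩
  · rw [coeff_add, coeff_X_pow, if_neg (by omega), zero_add, hg, dif_pos rfl]
  · intro i
    have := i.2
    rw [coeff_add, coeff_X_pow, if_neg (by omega), zero_add, hg, dif_neg (by omega),
      dif_pos (by simp)]
    simp

theorem poly_ext {k : ℕ} {f f' : K[X]} (hf : f.Monic) (hf' : f'.Monic) (hd : f.natDegree = k + 1) (hd' : f'.natDegree = k + 1)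
    (h0 : f.coeff 0 = f'.coeff 0) (hs : ∀ j : Fin k, f.coeff (j.val + 1) = f'.coeff (j.val + 1)) : f = f' := by
  ext j
  rcases lt_trichotomy j (k + 1) with hj | hj | hj
  · cases j with
    | zero => exact h0
    | succ j => exact hs ⟨j, by omega⟩
  · rw [hj]
    have e1 := hf.coeff_natDegree
    have e2 := hf'.coeff_natDegree
    rw [hd] at e1
    rw [hd'] at e2
    rw [e1, e2]
  · rw [coeff_eq_zero_of_natDegree_lt (by omega), coeff_eq_zero_of_natDegree_lt (by omega)]

/-- The coefficient form of self-duality. -/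
theorem sd_iff (hK : Fintype.card K = q ^ 2) {k : ℕ} {f : K[X]} (hf : f.Monic) (hd : f.natDegree = k + 1) {ε : K}
    (hε : ε ^ (q + 1) = 1) (h0 : f.coeff 0 = ε) :
    SD hK f ↔ ∀ j : Fin k, ε * (f.coeff ((Fin.rev j).val + 1)) ^ q = f.coeff (j.val + 1) := by
  have hq2 := two_le_q hK
  have hdm : (f.map (Cfsg.Agent.Lib.UnitaryBasic.sigma hK)).natDegree = k + 1 := by
    rw [natDegree_map_eq_of_injective (RingHom.injective _), hd]
  have hco : ∀ i, i ≤ k + 1 → (f.map (Cfsg.Agent.Lib.UnitaryBasic.sigma hK)).reverse.coeff i = (f.coeff (k + 1 - i)) ^ q := by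
    intro i hi
    rw [coeff_reverse, hdm, revAt_le hi, coeff_map]
    rfl
  have hrev : ∀ j : Fin k, k + 1 - (j.val + 1) = (Fin.rev j).val + 1 := by
    intro j
    have := j.2
    rw [Fin.val_rev]
    omega
  unfold SD
  rw [h0]
  have hεq : ε ^ q * ε = 1 := by rw [← pow_succ, hε]
  have hε0 : ε ≠ 0 := by
    rintro rfl
    rw [zero_pow (by omega)] at hε
    exact zero_ne_one hε
  constructor
  · intro h j
    have h1 := congrArg (fun P => Polynomial.coeff P (j.val + 1)) h
    simp only [coeff_C_mul] at h1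
    rw [hco _ (by have := j.2; omega), hrev] at h1
    rw [h1, ← mul_assoc, mul_comm ε, hεq, one_mul]
  · intro h
    ext i
    rw [coeff_C_mul]
    rcases Nat.lt_or_ge (k + 1) i with hi | hi
    · rw [coeff_reverse, hdm, revAt_eq_self_of_lt hi, coeff_eq_zero_of_natDegree_lt (by rw [hdm]; exact hi),
        coeff_eq_zero_of_natDegree_lt (by rw [hd]; exact hi), mul_zero]
    · rw [hco i hi]
      rcases Nat.eq_zero_or_pos i with rfl | hi0
      · have e1 := hf.coeff_natDegree
        rw [hd] at e1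
        rw [Nat.sub_zero, e1, one_pow, h0, hεq]
      · rcases Nat.lt_or_ge i (k + 1) with hik | hik
        · obtain ⟨l, rfl⟩ : ∃ l, i = l + 1 := ⟨i - 1, by omega⟩
          have hl : l < k := by omega
          have e := h ⟨l, hl⟩
          simp only at e
          rw [hrev ⟨l, hl⟩, ← e, ← mul_assoc, hεq, one_mul]
        · have hi' : i = k + 1 := by omega
          subst hi'
          have e1 := hf.coeff_natDegree
          rw [hd] at e1
          rw [Nat.sub_self, h0, e1, mul_one]

/-- The number of self-dual polynomials with given constant term. -/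
theorem card_sd (hK : Fintype.card K = q ^ 2) (k : ℕ) {ε : K} (hε : ε ^ (q + 1) = 1) :
    Nat.card {f : K[X] // f.Monic ∧ f.natDegree = k + 1 ∧ f.coeff 0 = ε ∧ SD hK f} = q ^ k := by
  classical
  have hq2 := two_le_q hK
  have hεq : ε ^ q * ε = 1 := by rw [← pow_succ, hε]
  let τ : (Fin k → K) → (Fin k → K) := fun a j => ε * (a (Fin.rev j)) ^ q
  have hadd : ∀ a b, τ (a + b) = τ a + τ b := by
    intro a b
    funext j
    show ε * (a (Fin.rev j) + b (Fin.rev j)) ^ q = ε * (a (Fin.rev j)) ^ q + ε * (b (Fin.rev j)) ^ q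
    rw [HermForm.add_pow_q hK, mul_add]
  have hsmul : ∀ (c : K) a, τ (c • a) = c ^ q • τ a := by
    intro c a
    funext j
    show ε * (c * a (Fin.rev j)) ^ q = c ^ q * (ε * (a (Fin.rev j)) ^ q)
    rw [mul_pow]
    ring
  have hinv : ∀ a, τ (τ a) = a := by
    intro a
    funext j
    show ε * (ε * (a (Fin.rev (Fin.rev j))) ^ q) ^ q = a j
    rw [Fin.rev_rev, mul_pow, pow_q_pow_q hK, ← mul_assoc, mul_comm ε, hεq, one_mul]
  have hfix := card_fix hK τ hadd hsmul hinv
  rw [Fintype.card_fin] at hfix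
  rw [← hfix]
  refine Nat.card_eq_of_bijective (fun f => ⟨fun j => f.1.coeff (j.val + 1), ?_⟩) ⟨?_, ?_⟩
  · funext j
    exact ((sd_iff hK f.2.1 f.2.2.1 hε f.2.2.2.1).1 f.2.2.2.2) j
  · intro f f' h
    apply Subtype.ext
    refine poly_ext f.2.1 f'.2.1 f.2.2.1 f'.2.2.1 (by rw [f.2.2.2.1, f'.2.2.2.1]) fun j => ?_
    exact congrFun (congrArg Subtype.val h) j
  · rintro ⟨a, ha⟩
    obtain ⟨f, h1, h2, h3, h4⟩ := exists_poly k ε a
    refine ⟨⟨f, h1, h2, h3, (sd_iff hK h1 h2 hε h3).2 fun j => ?_⟩, Subtype.ext ?_⟩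
    · rw [h4, h4]
      exact congrFun ha j
    · funext j
      exact h4 j

end count

end Cfsg.Agent.Lib.SelfDual
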