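import Mathlib
import Cfsg.Agent.Lib.DualFactors
import Cfsg.Agent.Lib.SelfDual
import Cfsg.Agent.Lib.SemisimpleSp
import Cfsg.Agent.Lib.SpBasic
import Cfsg.Agent.Lib.RegSp2
import Cfsg.Agent.Lib.SympEquiv
import Cfsg.Agent.S2589

/-!
# Realising reciprocal polynomials as characteristic polynomials of symplectic matrices
-/

set_option autoImplicit false
set_option linter.unusedSectionVars false
set_option linter.unusedSimpArgs false
set_option linter.unusedVariables false

namespace Cfsg.Agent.Lib.SpRealize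

open Module Polynomial
open Cfsg.Agent.Lib.PrimeFactors Cfsg.Agent.Lib.DualFactors Cfsg.Agent.Lib.SemisimpleGL

universe u

section gen

variable {F : Type u} [Field F] {ι : Type*} [Fintype ι] [DecidableEq ι]

theorem reverse_charpoly_of_inv_gen {A A' : Matrix ι ι F} (h : A * A' = 1) :
    A.charpoly.reverse = C (A.charpoly.coeff 0) * A'.charpoly := by
  have h1 := Cfsg.Agent.Lib.SelfDual.reverse_charpoly_of_inv (A := Matrix.reindexAlgEquiv F F (Fintype.equivFin ι) A)
    (A' := Matrix.reindexAlgEquiv F F (Fintype.equivFin ι) A') (by rw [← map_mul, h, map_one])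
  rwa [Matrix.coe_reindexAlgEquiv, Matrix.charpoly_reindex, Matrix.charpoly_reindex] at h1

theorem mat_conj_gen {A B : Matrix ι ι F} {m m' : ℕ} (hm : (m : F) ≠ 0) (hm' : (m' : F) ≠ 0) (hA : A ^ m = 1) (hB : B ^ m' = 1)
    (hc : A.charpoly = B.charpoly) : ∃ Y : Matrix ι ι F, Y.det ≠ 0 ∧ Y * A = B * Y := by
  obtain ⟨φ, hφ⟩ : ∃ φ, φ = Matrix.reindexAlgEquiv F F (Fintype.equivFin ι) := ⟨_, rfl⟩
  have hcp : ∀ M : Matrix ι ι F, (φ M).charpoly = M.charpoly := by
    intro M
    rw [hφ, Matrix.coe_reindexAlgEquiv, Matrix.charpoly_reindex]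
  have hdet : ∀ M : Matrix ι ι F, (φ M).det = M.det := by
    intro M
    rw [hφ, Matrix.coe_reindexAlgEquiv, Matrix.det_reindex_self]
  obtain ⟨Y, hY, hYA⟩ := Cfsg.Agent.Lib.SemisimpleGL.mat_conj (A := φ A) (B := φ B) hm hm' (by rw [← map_pow, hA, map_one])
    (by rw [← map_pow, hB, map_one]) (by rw [hcp, hcp, hc])
  refine ⟨φ.symm Y, ?_, ?_⟩
  · rw [← hdet, φ.apply_symm_apply]
    exact hY
  · apply φ.injective
    rw [map_mul, map_mul, φ.apply_symm_apply]
    exact hYA

theorem pow_eq_one_of_dvd_gen [Fintype F] {A : Matrix ι ι F} {m : ℕ} (hm : (m : F) ≠ 0) (hA : A ^ m = 1) (r : ℕ)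
    (h : ∀ g : F[X], g.Monic → Irreducible g → g ∣ A.charpoly → g ∣ X ^ r - 1) : A ^ r = 1 := by
  obtain ⟨φ, hφ⟩ : ∃ φ, φ = Matrix.reindexAlgEquiv F F (Fintype.equivFin ι) := ⟨_, rfl⟩
  have hcp : ∀ M : Matrix ι ι F, (φ M).charpoly = M.charpoly := by
    intro M
    rw [hφ, Matrix.coe_reindexAlgEquiv, Matrix.charpoly_reindex]
  have h1 := Cfsg.Agent.Lib.PrimeFactors.pow_eq_one_of_dvd (A := φ A) hm (by rw [← map_pow, hA, map_one]) r
    (fun g hg hi hd => h g hg hi (by rwa [hcp] at hd))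
  apply φ.injective
  rwa [map_pow, map_one]

theorem dvd_of_pow_eq_one_gen [Fintype F] {A : Matrix ι ι F} {r : ℕ} (hr : (r : F) ≠ 0) (hA : A ^ r = 1) {g : F[X]}
    (hi : Irreducible g) (hd : g ∣ A.charpoly) : g ∣ X ^ r - 1 := by
  obtain ⟨φ, hφ⟩ : ∃ φ, φ = Matrix.reindexAlgEquiv F F (Fintype.equivFin ι) := ⟨_, rfl⟩
  have hcp : ∀ M : Matrix ι ι F, (φ M).charpoly = M.charpoly := by
    intro M
    rw [hφ, Matrix.coe_reindexAlgEquiv, Matrix.charpoly_reindex]
  exact Cfsg.Agent.Lib.PrimeFactors.dvd_of_pow_eq_one (A := φ A) hr (by rw [← map_pow, hA, map_one]) hi (by rwa [hcp])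

end gen

section realize

variable {F : Type u} [Field F] [Fintype F] (p : ℕ) [Fact p.Prime] [CharP F p]

/-- A polynomial is realised by an isometry of order prime to `p` of an alternating space. -/
def Rz (f : F[X]) : Prop :=
  ∃ (V : Type u) (_ : AddCommGroup V) (_ : Module F V) (_ : FiniteDimensional F V)
    (B : LinearMap.BilinForm F V) (T : V →ₗ[F] V) (k : ℕ),
    B.IsAlt ∧ B.Nondegenerate ∧ (∀ x y, B (T x) (T y) = B x y) ∧ T ^ k = 1 ∧ k.Coprime p ∧ T.charpoly = f

theorem Rz_one : Rz p (1 : F[X]) := by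
  refine ⟨PUnit, inferInstance, inferInstance, inferInstance, 0, 0, 1, ?_, ?_, ?_, ?_, ?_, ?_⟩
  · intro x
    rfl
  · constructor
    · intro x _
      exact Subsingleton.elim _ _
    · intro x _
      exact Subsingleton.elim _ _
  · intro x y
    rfl
  · apply LinearMap.ext
    intro x
    exact Subsingleton.elim _ _
  · exact Nat.coprime_one_left p
  · apply Polynomial.eq_one_of_monic_natDegree_zero (LinearMap.charpoly_monic _)
    rw [LinearMap.charpoly_natDegree]
    exact Module.finrank_zero_of_subsingleton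

theorem prodMap_pow' {V W : Type*} [AddCommGroup V] [Module F V] [AddCommGroup W] [Module F W]
    (T : V →ₗ[F] V) (T' : W →ₗ[F] W) (n : ℕ) : (T.prodMap T') ^ n = (T ^ n).prodMap (T' ^ n) := by
  induction n with
  | zero =>
    apply LinearMap.ext
    intro x
    rfl
  | succ n ih =>
    rw [pow_succ, ih, pow_succ, pow_succ]
    rfl

variable {p}

theorem Rz_mul {f g : F[X]} (hf : Rz p f) (hg : Rz p g) : Rz p (f * g) := by
  obtain ⟨V, _, _, _, B, T, k, hA, hN, hI, hk, hc, hch⟩ := hf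
  obtain ⟨W, _, _, _, B', T', k', hA', hN', hI', hk', hc', hch'⟩ := hg
  let B'' : LinearMap.BilinForm F (V × W) :=
    B.compl₁₂ (LinearMap.fst F V W) (LinearMap.fst F V W) + B'.compl₁₂ (LinearMap.snd F V W) (LinearMap.snd F V W)
  have hB'' : ∀ u v, B'' u v = B u.1 v.1 + B' u.2 v.2 := fun u v => rfl
  refine ⟨V × W, inferInstance, inferInstance, inferInstance, B'', T.prodMap T', k * k', ?_, ?_, ?_, ?_, ?_, ?_⟩
  · intro x
    rw [hB'', hA, hA', add_zero]
  · constructor
    · rintro ⟨x, y⟩ h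
      have h1 : x = 0 := hN.1 x fun z => by
        have := h (z, 0)
        rw [hB''] at this
        simpa using this
      have h2 : y = 0 := hN'.1 y fun z => by
        have := h (0, z)
        rw [hB''] at this
        simpa using this
      rw [h1, h2]
      rfl
    · rintro ⟨x, y⟩ h
      have h1 : x = 0 := hN.2 x fun z => by
        have := h (z, 0)
        rw [hB''] at this
        simpa using this
      have h2 : y = 0 := hN'.2 y fun z => by
        have := h (0, z)
        rw [hB''] at this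
        simpa using this
      rw [h1, h2]
      rfl
  · intro x y
    rw [hB'', hB'']
    exact congrArg₂ (· + ·) (hI _ _) (hI' _ _)
  · rw [prodMap_pow', pow_mul, hk, one_pow, mul_comm, pow_mul, hk', one_pow]
    rfl
  · exact Nat.Coprime.mul_left hc hc'
  · rw [LinearMap.charpoly_prodMap, hch, hch']

theorem dot_adj {ι : Type*} [Fintype ι] (A : Matrix ι ι F) (x y : ι → F) :
    (A.mulVec x) ⬝ᵥ y = x ⬝ᵥ (A.transpose.mulVec y) := by
  rw [Matrix.dotProduct_mulVec, Matrix.vecMul_transpose]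

theorem toLin_pow {ι : Type*} [Fintype ι] [DecidableEq ι] (M : Matrix ι ι F) (n : ℕ) :
    (Matrix.toLin' M) ^ n = Matrix.toLin' (M ^ n) :=
  (map_pow (Matrix.toLinAlgEquiv' (R := F) (n := ι)) M n).symm

theorem Rz_hyper {g : F[X]} (hm : g.Monic) (h0 : g.coeff 0 ≠ 0) : Rz p (g * Dl (RingHom.id F) g) := by
  classical
  obtain ⟨A, k, hAk, hco, hA⟩ := mat_exists p g hm rfl h0
  have hk0 : k ≠ 0 := by
    rintro rfl
    have hp : p.Prime := Fact.out
    rw [Nat.coprime_zero_left] at hco
    exact hp.one_lt.ne' hco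
  obtain ⟨A', hA'⟩ : ∃ A', A' = A ^ (k - 1) := ⟨_, rfl⟩
  have h1 : A * A' = 1 := by
    rw [hA', ← pow_succ', Nat.sub_add_cancel (by omega), hAk]
  have h2 : A' * A = 1 := mul_eq_one_comm.mp h1
  have hA'k : A' ^ k = 1 := by
    rw [hA', ← pow_mul, mul_comm, pow_mul, hAk, one_pow]
  let B : LinearMap.BilinForm F ((Fin g.natDegree → F) × (Fin g.natDegree → F)) := LinearMap.mk₂ F (fun u v => u.1 ⬝ᵥ v.2 - u.2 ⬝ᵥ v.1)
    (fun u u' v => by
      simp only [Prod.fst_add, Prod.snd_add, add_dotProduct]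
      ring)
    (fun c u v => by
      simp only [Prod.smul_fst, Prod.smul_snd, smul_dotProduct, smul_eq_mul, mul_sub])
    (fun u v v' => by
      simp only [Prod.fst_add, Prod.snd_add, dotProduct_add]
      ring)
    (fun c u v => by
      simp only [Prod.smul_fst, Prod.smul_snd, dotProduct_smul, smul_eq_mul, mul_sub])
  have hB : ∀ u v, B u v = u.1 ⬝ᵥ v.2 - u.2 ⬝ᵥ v.1 := fun u v => rfl
  refine ⟨(Fin g.natDegree → F) × (Fin g.natDegree → F), inferInstance, inferInstance, inferInstance, B,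
    (Matrix.toLin' A).prodMap (Matrix.toLin' A'.transpose), k, ?_, ?_, ?_, ?_, hco, ?_⟩
  · intro x
    rw [hB, dotProduct_comm, sub_self]
  · constructor
    · rintro ⟨x, y⟩ h
      have h3 : x = 0 := dotProduct_eq_zero x fun z => by
        have := h (0, z)
        rw [hB] at this
        simpa using this
      have h4 : y = 0 := dotProduct_eq_zero y fun z => by
        have := h (z, 0)
        rw [hB] at this
        simpa using this
      rw [h3, h4]
      rfl
    · rintro ⟨x, y⟩ h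
      have h3 : x = 0 := dotProduct_eq_zero x fun z => by
        have := h (0, z)
        rw [hB] at this
        simpa [dotProduct_comm] using this
      have h4 : y = 0 := dotProduct_eq_zero y fun z => by
        have := h (z, 0)
        rw [hB] at this
        simpa [dotProduct_comm] using this
      rw [h3, h4]
      rfl
  · rintro ⟨x, y⟩ ⟨x', y'⟩
    rw [hB, hB]
    show (A.mulVec x) ⬝ᵥ (A'.transpose.mulVec y') - (A'.transpose.mulVec y) ⬝ᵥ (A.mulVec x') = x ⬝ᵥ y' - y ⬝ᵥ x'
    rw [dot_adj A, dot_adj A'.transpose, Matrix.mulVec_mulVec, Matrix.transpose_transpose, Matrix.mulVec_mulVec, h2,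
      ← Matrix.transpose_mul, h2, Matrix.transpose_one, Matrix.one_mulVec, Matrix.one_mulVec]
  · rw [prodMap_pow', toLin_pow, toLin_pow, hAk, ← Matrix.transpose_pow, hA'k, Matrix.transpose_one, Matrix.toLin'_one]
    apply LinearMap.ext
    intro x
    rfl
  · rw [LinearMap.charpoly_prodMap, Matrix.charpoly_toLin', Matrix.charpoly_toLin', hA, Matrix.charpoly_transpose]
    congr 1
    have h3 := Cfsg.Agent.Lib.SelfDual.reverse_charpoly_of_inv h1
    rw [hA] at h3
    unfold Dl
    rw [Polynomial.map_id, h3, RingHom.id_apply, ← mul_assoc, ← C_mul, inv_mul_cancel₀ h0, C_1, one_mul]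

/-- The block attached to an irreducible self-reciprocal polynomial of degree at least two. -/
theorem Rz_field {j : F[X]} (hm : j.Monic) (hi : Irreducible j) (hfix : Dl (RingHom.id F) j = j)
    (hdeg : 2 ≤ j.natDegree) : Rz p j := by
  classical
  haveI : Fact (Irreducible j) := ⟨hi⟩
  haveI : Module.Finite F (AdjoinRoot j) := hm.finite_adjoinRoot
  haveI : Finite (AdjoinRoot j) := Module.finite_of_finite F
  haveI : Fintype (AdjoinRoot j) := Fintype.ofFinite _
  obtain ⟨θ, hθ⟩ : ∃ θ, θ = AdjoinRoot.root j := ⟨_, rfl⟩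
  have hdvd_le : ∀ P : F[X], P ≠ 0 → P.natDegree ≤ 1 → AdjoinRoot.mk j P ≠ 0 := by
    intro P hP hPd h
    rw [AdjoinRoot.mk_eq_zero] at h
    have := natDegree_le_of_dvd h hP
    omega
  have hθ0 : θ ≠ 0 := by
    intro h
    apply hdvd_le X X_ne_zero (by simp)
    rw [AdjoinRoot.mk_X, ← hθ, h]
  have hroot : aeval θ j = 0 := by
    rw [hθ]
    exact aeval_root_eq j
  have hinv : aeval θ⁻¹ j = 0 := by
    have h1 := aeval_Dl_inv (σ := RingHom.id F) (RingHom.id (AdjoinRoot j)) (fun x => rfl) hθ0 hroot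
    rwa [hfix] at h1
  have hne : θ - θ⁻¹ ≠ 0 := by
    intro h
    have h1 : θ * θ = 1 := by
      have h2 : θ = θ⁻¹ := sub_eq_zero.1 h
      calc θ * θ = θ * θ⁻¹ := by rw [← h2]
        _ = 1 := mul_inv_cancel₀ hθ0
    have h2 : (θ - 1) * (θ + 1) = 0 := by
      have : (θ - 1) * (θ + 1) = θ * θ - 1 := by ring
      rw [this, h1, sub_self]
    rcases mul_eq_zero.1 h2 with h3 | h3
    · apply hdvd_le (X - C 1) (X_sub_C_ne_zero 1) (natDegree_X_sub_C 1).le
      rw [map_sub, AdjoinRoot.mk_X, AdjoinRoot.mk_C, map_one, ← hθ, h3]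
    · apply hdvd_le (X + C 1) (X_add_C_ne_zero 1) (natDegree_X_add_C 1).le
      rw [map_add, AdjoinRoot.mk_X, AdjoinRoot.mk_C, map_one, ← hθ, h3]
  obtain ⟨lam, hlam⟩ : ∃ lam : Module.Dual F (AdjoinRoot j), lam (θ - θ⁻¹) ≠ 0 := by
    by_contra hno
    push Not at hno
    exact hne ((Module.forall_dual_apply_eq_zero_iff F _).1 hno)
  -- the involution
  obtain ⟨bar, hbar⟩ : ∃ bar : AdjoinRoot j →ₐ[F] AdjoinRoot j, bar θ = θ⁻¹ := by
    refine ⟨AdjoinRoot.liftAlgHom j (Algebra.ofId F (AdjoinRoot j)) θ⁻¹ hinv, ?_⟩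
    have := AdjoinRoot.liftAlgHom_root j (Algebra.ofId F (AdjoinRoot j)) θ⁻¹ hinv
    rwa [← hθ] at this
  have hbb : ∀ x, bar (bar x) = x := by
    have h1 : bar.comp bar = AlgHom.id F (AdjoinRoot j) := by
      apply AdjoinRoot.algHom_ext
      rw [← hθ, AlgHom.comp_apply, hbar, map_inv₀, hbar, inv_inv]
      rfl
    intro x
    have := congrArg (fun φ : AdjoinRoot j →ₐ[F] AdjoinRoot j => φ x) h1
    exact this
  let B : LinearMap.BilinForm F (AdjoinRoot j) := LinearMap.mk₂ F (fun u v => lam (u * bar v - bar u * v))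
    (fun u u' v => by
      have : (u + u') * bar v - bar (u + u') * v = (u * bar v - bar u * v) + (u' * bar v - bar u' * v) := by
        rw [map_add]
        ring
      rw [this, map_add])
    (fun c u v => by
      have : (c • u) * bar v - bar (c • u) * v = c • (u * bar v - bar u * v) := by
        rw [map_smul, smul_mul_assoc, smul_mul_assoc, smul_sub]
      rw [this, map_smul])
    (fun u v v' => by
      have : u * bar (v + v') - bar u * (v + v') = (u * bar v - bar u * v) + (u * bar v' - bar u * v') := by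
        rw [map_add]
        ring
      rw [this, map_add])
    (fun c u v => by
      have : u * bar (c • v) - bar u * (c • v) = c • (u * bar v - bar u * v) := by
        rw [map_smul, mul_smul_comm, mul_smul_comm, smul_sub]
      rw [this, map_smul])
  have hB : ∀ u v, B u v = lam (u * bar v - bar u * v) := fun u v => rfl
  have hAlt : B.IsAlt := by
    intro x
    rw [hB, mul_comm, sub_self, map_zero]
  have hsep : ∀ x, (∀ y, B x y = 0) → x = 0 := by
    intro x h
    by_contra hx
    have h1 := h (bar (θ * x⁻¹))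
    rw [hB, hbb, ← map_mul] at h1
    have h2 : x * (θ * x⁻¹) = θ := by
      field_simp
    rw [h2, hbar] at h1
    exact hlam h1
  obtain ⟨N, hN⟩ : ∃ N, N = Fintype.card (AdjoinRoot j) := ⟨_, rfl⟩
  have hθN : θ ^ (N - 1) = 1 := by
    rw [hN]
    exact FiniteField.pow_card_sub_one_eq_one θ hθ0
  refine ⟨AdjoinRoot j, inferInstance, inferInstance, inferInstance, B, Cfsg.Agent.Lib.SemisimpleGL.rootMul j, N - 1,
    hAlt, ⟨hsep, ?_⟩, ?_, ?_, ?_, ?_⟩
  · intro x h
    apply hsep
    intro y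
    rw [← LinearMap.IsAlt.neg hAlt, h y, neg_zero]
  · intro x y
    rw [hB, hB, Cfsg.Agent.Lib.SemisimpleGL.rootMul_apply, Cfsg.Agent.Lib.SemisimpleGL.rootMul_apply, ← hθ, map_mul, map_mul, hbar]
    congr 1
    field_simp
  · have h1 : Cfsg.Agent.Lib.SemisimpleGL.rootMul j = Algebra.lmul F (AdjoinRoot j) θ := by
      rw [hθ]
      rfl
    rw [h1, ← map_pow, hθN, map_one]
  · have hp : p.Prime := Fact.out
    haveI : CharP (AdjoinRoot j) p := charP_of_injective_algebraMap (algebraMap F (AdjoinRoot j)).injective p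
    obtain ⟨n, -, hn⟩ := FiniteField.card (AdjoinRoot j) p
    have hnpos : 0 < (n : ℕ) := n.pos
    rw [← hN] at hn
    apply Nat.Coprime.symm
    rw [hp.coprime_iff_not_dvd]
    intro hd
    have h1 : p ∣ N := by
      rw [hn]
      exact dvd_pow_self p hnpos.ne'
    have h2 : 1 ≤ N := by
      rw [hn]
      exact Nat.one_le_pow _ _ hp.pos
    have h3 := Nat.dvd_sub h1 hd
    have h4 : N - (N - 1) = 1 := by omega
    rw [h4] at h3
    exact hp.one_lt.ne' (Nat.dvd_one.1 h3)
  · exact Cfsg.Agent.Lib.SemisimpleGL.charpoly_rootMul hm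

theorem eval_of_odd {h : F[X]} {e : F} (he : e * e = 1) (hrev : h.reverse = C e * h) (hd : Odd h.natDegree) :
    h.eval (-e) = 0 := by
  obtain ⟨c, hc⟩ : ∃ c, c = -e := ⟨_, rfl⟩
  rw [← hc]
  have hcc : c * c = 1 := by rw [hc, neg_mul_neg, he]
  obtain ⟨d, hd'⟩ : ∃ d, d = h.natDegree := ⟨_, rfl⟩
  rw [← hd'] at hd
  have hco : ∀ i, i ≤ d → h.coeff (d - i) = e * h.coeff i := by
    intro i hi
    have h1 := congrArg (fun P => Polynomial.coeff P i) hrev
    simp only [coeff_reverse, coeff_C_mul] at h1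
    rwa [← hd', revAt_le hi] at h1
  have hpow2 : ∀ i : ℕ, c ^ i * c ^ i = 1 := by
    intro i
    rw [← mul_pow, hcc, one_pow]
  have hpowd : c ^ d = c := by
    obtain ⟨k, hk⟩ := hd
    rw [hk, pow_succ, pow_mul, pow_two, hcc, one_pow, one_mul]
  rw [eval_eq_sum_range, ← hd']
  refine Finset.sum_involution (fun i _ => d - i) ?_ ?_ ?_ ?_
  · intro i hi
    have hi' : i ≤ d := Nat.lt_succ_iff.1 (Finset.mem_range.1 hi)
    rw [hco i hi']
    have h1 : c ^ (d - i) = c * c ^ i := by
      calc c ^ (d - i) = c ^ (d - i) * (c ^ i * c ^ i) := by rw [hpow2, mul_one]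
        _ = (c ^ (d - i) * c ^ i) * c ^ i := by ring
        _ = c ^ d * c ^ i := by rw [← pow_add, Nat.sub_add_cancel hi']
        _ = c * c ^ i := by rw [hpowd]
    rw [h1, hc]
    have h2 : h.coeff i * (-e) ^ i + e * h.coeff i * (-e * (-e) ^ i) = h.coeff i * (-e) ^ i * (1 - e * e) := by ring
    rw [h2, he, sub_self, mul_zero]
  · intro i hi _ hii
    have hi' : i ≤ d := Nat.lt_succ_iff.1 (Finset.mem_range.1 hi)
    have h1 : d = 2 * i := by omega
    rw [h1] at hd
    exact (Nat.not_odd_iff_even.2 (even_two_mul i)) hd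
  · intro i hi
    have hi' : i ≤ d := Nat.lt_succ_iff.1 (Finset.mem_range.1 hi)
    exact Finset.mem_range.2 (by omega)
  · intro i hi
    have hi' : i ≤ d := Nat.lt_succ_iff.1 (Finset.mem_range.1 hi)
    show d - (d - i) = i
    omega

theorem dl_id_apply (f : F[X]) : Dl (RingHom.id F) f = C (f.coeff 0)⁻¹ * f.reverse := by
  unfold Dl
  rw [Polynomial.map_id, RingHom.id_apply]

theorem dual_facts {j : F[X]} (hm : j.Monic) (h0 : j.coeff 0 ≠ 0) (hfix : Dl (RingHom.id F) j = j) :
    j.coeff 0 * j.coeff 0 = 1 ∧ j.reverse = C (j.coeff 0) * j := by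
  constructor
  · have h1 := coeff_zero_Dl (σ := RingHom.id F) hm
    rw [hfix, RingHom.id_apply] at h1
    nth_rewrite 1 [h1]
    exact inv_mul_cancel₀ h0
  · have h1 := hfix
    rw [dl_id_apply] at h1
    have h2 : C (j.coeff 0) * (C (j.coeff 0)⁻¹ * j.reverse) = C (j.coeff 0) * j := congrArg _ h1
    rwa [← mul_assoc, ← C_mul, mul_inv_cancel₀ h0, C_1, one_mul] at h2

theorem no_root {j : F[X]} (hi : Irreducible j) (hd : 2 ≤ j.natDegree) (a : F) : j.eval a ≠ 0 := by
  intro h
  have h1 := Polynomial.degree_eq_one_of_irreducible_of_root hi h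
  have h2 : j.natDegree = 1 := natDegree_eq_of_degree_eq_some h1
  omega

variable (p) in
theorem Rz_of_rev : ∀ (d : ℕ) (f : F[X]), f.natDegree = d → f.Monic → f.coeff 0 = 1 → f.reverse = f → Even d → Rz p f := by
  intro d
  induction d using Nat.strong_induction_on with
  | _ d ih =>
  intro f hd hm h0 hrev hev
  by_cases hd0 : d = 0
  · rw [Polynomial.eq_one_of_monic_natDegree_zero hm (hd.trans hd0)]
    exact Rz_one p
  have hσ : ∀ x : F, RingHom.id F (RingHom.id F x) = x := fun x => rfl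
  have hDf : Dl (RingHom.id F) f = f := by
    rw [dl_id_apply, h0, inv_one, C_1, one_mul, hrev]
  obtain ⟨j, hjm, hji, hjd⟩ := Polynomial.exists_monic_irreducible_factor f (by
    intro hu
    apply hd0
    rw [← hd]
    exact natDegree_eq_zero_of_isUnit hu)
  obtain ⟨h, hh⟩ := hjd
  have hj0 : j.coeff 0 ≠ 0 := by
    intro h1
    rw [hh, mul_coeff_zero, h1, zero_mul] at h0
    exact zero_ne_one h0
  have hh0 : h.coeff 0 ≠ 0 := by
    intro h1
    rw [hh, mul_coeff_zero, h1, mul_zero] at h0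
    exact zero_ne_one h0
  have hjh0 : j.coeff 0 * h.coeff 0 = 1 := by
    rw [← mul_coeff_zero, ← hh, h0]
  have hhm : h.Monic := hjm.of_mul_monic_left (hh ▸ hm)
  have step1 : ∀ h₁ : F[X], f = j * Dl (RingHom.id F) j * h₁ → Rz p f := by
    intro h₁ hf₁
    have hDjm : (Dl (RingHom.id F) j).Monic := monic_Dl hj0
    have hjj : (j * Dl (RingHom.id F) j).Monic := hjm.mul hDjm
    have h1m : h₁.Monic := hjj.of_mul_monic_left (hf₁ ▸ hm)
    have hc : (Dl (RingHom.id F) j).coeff 0 = (j.coeff 0)⁻¹ := coeff_zero_Dl hjm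
    have h10 : h₁.coeff 0 = 1 := by
      have h2 := h0
      rw [hf₁, mul_coeff_zero, mul_coeff_zero, hc, mul_inv_cancel₀ hj0, one_mul] at h2
      exact h2
    have hDh : Dl (RingHom.id F) h₁ = h₁ := by
      have h2 : Dl (RingHom.id F) (j * Dl (RingHom.id F) j * h₁) = j * Dl (RingHom.id F) j * h₁ := by
        rw [← hf₁]
        exact hDf
      rw [Dl_mul, Dl_mul, Dl_Dl hσ hjm hj0] at h2
      have h3 : (j * Dl (RingHom.id F) j) * Dl (RingHom.id F) h₁ = (j * Dl (RingHom.id F) j) * h₁ := by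
        rw [← h2]
        ring
      exact mul_left_cancel₀ hjj.ne_zero h3
    have hrev₁ : h₁.reverse = h₁ := by
      have h2 := hDh
      rwa [dl_id_apply, h10, inv_one, C_1, one_mul] at h2
    have hdeg₁ : d = 2 * j.natDegree + h₁.natDegree := by
      rw [← hd, hf₁, hjj.natDegree_mul h1m, hjm.natDegree_mul hDjm, natDegree_Dl hj0]
      ring
    have hpos := hji.natDegree_pos
    have hIH := ih h₁.natDegree (by omega) h₁ rfl h1m h10 hrev₁ (by
      rw [hdeg₁] at hev
      have h2 : Even (2 * j.natDegree) := even_two_mul _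
      exact (Nat.even_add.1 hev).1 h2)
    rw [hf₁]
    exact Rz_mul (Rz_hyper hjm hj0) hIH
  by_cases hfix : Dl (RingHom.id F) j = j
  · obtain ⟨hjj, hjrev⟩ := dual_facts hjm hj0 hfix
    have hDh : Dl (RingHom.id F) h = h := by
      have h2 : Dl (RingHom.id F) (j * h) = j * h := by
        rw [← hh]
        exact hDf
      rw [Dl_mul, hfix] at h2
      exact mul_left_cancel₀ hjm.ne_zero h2
    obtain ⟨hh2, hhrev⟩ := dual_facts hhm hh0 hDh
    have hdsum : d = j.natDegree + h.natDegree := by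
      rw [← hd, hh, hjm.natDegree_mul hhm]
    have hpos := hji.natDegree_pos
    by_cases hdeg : j.natDegree = 1
    · have hodd : Odd h.natDegree := by
        rw [hdeg] at hdsum
        rw [hdsum] at hev
        by_contra hno
        rw [Nat.not_odd_iff_even] at hno
        exact (Nat.not_even_iff_odd.2 odd_one) ((Nat.even_add.1 hev).2 hno)
      have hroot := eval_of_odd hh2 hhrev hodd
      have hh00 : h.coeff 0 = j.coeff 0 := by
        calc h.coeff 0 = (j.coeff 0 * j.coeff 0) * h.coeff 0 := by rw [hjj, one_mul]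
          _ = j.coeff 0 * (j.coeff 0 * h.coeff 0) := by ring
          _ = j.coeff 0 := by rw [hjh0, mul_one]
      have hdv : j ∣ h := by
        have h3 : (X - C (-h.coeff 0)) ∣ h := dvd_iff_isRoot.2 hroot
        have h4 : X - C (-h.coeff 0) = j := by
          conv_rhs => rw [hjm.eq_X_add_C hdeg]
          rw [C_neg, sub_neg_eq_add, hh00]
        rwa [h4] at h3
      obtain ⟨h₁, hh₁⟩ := hdv
      apply step1 h₁
      rw [hfix, hh, hh₁]
      ring
    · have hdeg2 : 2 ≤ j.natDegree := by omega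
      have hj1 : j.coeff 0 = 1 := by
        by_contra hne
        have h1 : j.coeff 0 = -1 := by
          have h2 : (j.coeff 0 - 1) * (j.coeff 0 + 1) = 0 := by
            have : (j.coeff 0 - 1) * (j.coeff 0 + 1) = j.coeff 0 * j.coeff 0 - 1 := by ring
            rw [this, hjj, sub_self]
          rcases mul_eq_zero.1 h2 with h3 | h3
          · exact absurd (sub_eq_zero.1 h3) hne
          · exact eq_neg_of_add_eq_zero_left h3
        have h2 : (2 : F) ≠ 0 := by
          intro h2
          apply hne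
          rw [h1]
          have : (-1 : F) = 1 := by
            have : (2 : F) = 1 + 1 := by norm_num
            rw [this] at h2
            exact neg_eq_of_add_eq_zero_left h2
          exact this
        have h3 : j.reverse.eval 1 = j.eval 1 := by
          letI : Invertible (1 : F) := invertibleOne
          have h4 := eval₂_reverse_mul_pow (RingHom.id F) (1 : F) j
          rw [invOf_one, one_pow, mul_one, eval₂_id, eval₂_id] at h4
          exact h4
        rw [hjrev, h1, eval_mul, eval_C] at h3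
        have h4 : 2 * j.eval 1 = 0 := by linear_combination -h3
        exact no_root hji hdeg2 1 ((mul_eq_zero.1 h4).resolve_left h2)
      have hevj : Even j.natDegree := by
        by_contra hodd
        rw [Nat.not_even_iff_odd] at hodd
        exact no_root hji hdeg2 _ (eval_of_odd hjj hjrev hodd)
      have hh1 : h.coeff 0 = 1 := by
        rw [hj1, one_mul] at hjh0
        exact hjh0
      have hrevh : h.reverse = h := by
        rw [hhrev, hh1, C_1, one_mul]
      have hIH := ih h.natDegree (by omega) h rfl hhm hh1 hrevh (by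
        rw [hdsum] at hev
        exact (Nat.even_add.1 hev).1 hevj)
      rw [hh]
      exact Rz_mul (Rz_field hjm hji hfix hdeg2) hIH
  · have hdvd : Dl (RingHom.id F) j ∣ j * h := by
      rw [← hh, ← hDf, hh, Dl_mul]
      exact Dvd.intro _ rfl
    have hirr := irreducible_Dl hσ hjm hj0 hji
    rcases hirr.prime.dvd_or_dvd hdvd with h3 | h3
    · exact absurd (eq_of_monic_of_associated (monic_Dl hj0) hjm (hirr.associated_of_dvd hji h3)) hfix
    · obtain ⟨h₁, hh₁⟩ := h3
      apply step1 h₁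
      rw [hh, hh₁]
      ring

theorem exists_sp_of_Rz {m : ℕ} {f : F[X]} (hf : Rz p f) (hd : f.natDegree = 2 * m) :
    ∃ g : ↥(Matrix.symplecticGroup (Fin m) F), (orderOf g).Coprime p ∧
      (g : Matrix (Fin m ⊕ Fin m) (Fin m ⊕ Fin m) F).charpoly = f := by
  classical
  obtain ⟨V, _, _, _, B, T, k, hA, hN, hI, hk, hc, hch⟩ := hf
  have hfr : finrank F V = finrank F (Fin m ⊕ Fin m → F) := by
    rw [← LinearMap.charpoly_natDegree T, hch, hd, Module.finrank_fintype_fun_eq_card, Fintype.card_sum, Fintype.card_fin]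
    ring
  obtain ⟨φ, hφ⟩ := Cfsg.Agent.Lib.SemisimpleSp.alt_isometry B (Cfsg.Agent.Lib.SemisimpleSp.bform (Matrix.J (Fin m) F)) hA
    Cfsg.Agent.Lib.RegSp2.halt_J hN Cfsg.Agent.Lib.RegSp2.hnd_J hfr
  obtain ⟨T', hT'⟩ : ∃ T', T' = φ.conj T := ⟨_, rfl⟩
  have hT'v : ∀ v, T' v = φ (T (φ.symm v)) := by
    intro v
    rw [hT']
    rfl
  have hT'pow : ∀ n v, (T' ^ n) v = φ ((T ^ n) (φ.symm v)) := by
    intro n
    induction n with
    | zero =>
      intro v
      simp
    | succ n ih =>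
      intro v
      rw [pow_succ, pow_succ, Module.End.mul_apply, Module.End.mul_apply, ih, hT'v, φ.symm_apply_apply]
  obtain ⟨γ, hγ⟩ : ∃ γ : Matrix (Fin m ⊕ Fin m) (Fin m ⊕ Fin m) F, γ = LinearMap.toMatrix' T' := ⟨_, rfl⟩
  have hγv : ∀ v, γ.mulVec v = T' v := fun v => by
    rw [hγ, LinearMap.toMatrix'_mulVec]
  have hγm : γ ∈ Matrix.symplecticGroup (Fin m) F := Cfsg.Agent.Lib.SpBasic.mem_symplecticGroup_iff.mpr fun x y => by
    rw [hγv, hγv, hT'v, hT'v]
    have e : ∀ a b : Fin m ⊕ Fin m → F, Cfsg.Agent.Lib.SpBasic.ω a b = Cfsg.Agent.Lib.SemisimpleSp.bform (Matrix.J (Fin m) F) a b := by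
      intro a b
      rw [Cfsg.Agent.Lib.SemisimpleSp.bform_apply]
      rfl
    rw [e, e, hφ, hI, ← hφ, φ.apply_symm_apply, φ.apply_symm_apply]
  refine ⟨⟨γ, hγm⟩, ?_, ?_⟩
  · have h1 : (⟨γ, hγm⟩ : ↥(Matrix.symplecticGroup (Fin m) F)) ^ k = 1 := by
      apply Subtype.ext
      show γ ^ k = 1
      have h2 : Matrix.toLin' (γ ^ k) = Matrix.toLin' (1 : Matrix (Fin m ⊕ Fin m) (Fin m ⊕ Fin m) F) := by
        rw [← toLin_pow, hγ, Matrix.toLin'_toMatrix', Matrix.toLin'_one]
        apply LinearMap.ext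
        intro v
        rw [hT'pow, hk]
        simp
      exact Matrix.toLin'.injective h2
    exact Nat.Coprime.coprime_dvd_left (orderOf_dvd_of_pow_eq_one h1) hc
  · show γ.charpoly = f
    rw [← Matrix.charpoly_toLin', hγ, Matrix.toLin'_toMatrix', hT', LinearEquiv.charpoly_conj, hch]

/-- Reciprocal polynomials are characteristic polynomials of semisimple symplectic elements. -/
theorem exists_sp {m : ℕ} {f : F[X]} (hf : f.Monic) (hd : f.natDegree = 2 * m) (h0 : f.coeff 0 = 1) (hrev : f.reverse = f) :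
    ∃ g : ↥(Matrix.symplecticGroup (Fin m) F), (orderOf g).Coprime p ∧
      (g : Matrix (Fin m ⊕ Fin m) (Fin m ⊕ Fin m) F).charpoly = f :=
  exists_sp_of_Rz (Rz_of_rev p _ f rfl hf h0 hrev (by rw [hd]; exact even_two_mul m)) hd

omit [Fintype F] in
theorem charpoly_sp_coeff {m : ℕ} (g : ↥(Matrix.symplecticGroup (Fin m) F)) :
    (g : Matrix (Fin m ⊕ Fin m) (Fin m ⊕ Fin m) F).charpoly.coeff 0 = 1 := by
  have h1 := Matrix.det_eq_sign_charpoly_coeff (g : Matrix (Fin m ⊕ Fin m) (Fin m ⊕ Fin m) F)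
  rw [Cfsg.Agent.Lib.SympEquiv.det_sp g, Fintype.card_sum, Fintype.card_fin, ← two_mul, pow_mul] at h1
  norm_num at h1
  exact h1.symm

omit [Fintype F] in
theorem charpoly_sp_reverse {m : ℕ} (g : ↥(Matrix.symplecticGroup (Fin m) F)) :
    (g : Matrix (Fin m ⊕ Fin m) (Fin m ⊕ Fin m) F).charpoly.reverse = (g : Matrix (Fin m ⊕ Fin m) (Fin m ⊕ Fin m) F).charpoly := by
  obtain ⟨A, hA⟩ := g
  have h1 : A * Matrix.J (Fin m) F * A.transpose = Matrix.J (Fin m) F := (SymplecticGroup.mem_iff).1 hA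
  have hJJ : Matrix.J (Fin m) F * Matrix.J (Fin m) F = -1 := Matrix.J_squared _ _
  have h2 : A * (Matrix.J (Fin m) F * A.transpose * (-Matrix.J (Fin m) F)) = 1 := by
    rw [← mul_assoc, ← mul_assoc, h1, mul_neg, hJJ, neg_neg]
  have h3 := reverse_charpoly_of_inv_gen h2
  have h4 : (Matrix.J (Fin m) F * A.transpose * (-Matrix.J (Fin m) F)).charpoly = A.charpoly := by
    rw [Matrix.charpoly_mul_comm, ← mul_assoc, neg_mul, hJJ, neg_neg, one_mul, Matrix.charpoly_transpose]
  show A.charpoly.reverse = A.charpoly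
  rw [h3, h4, charpoly_sp_coeff ⟨A, hA⟩]
  simp

/-- Semisimple symplectic elements with the same characteristic polynomial are conjugate. -/
theorem isConj_sp {m : ℕ} (g g' : ↥(Matrix.symplecticGroup (Fin m) F)) (hg : (orderOf g).Coprime p) (hg' : (orderOf g').Coprime p)
    (hc : (g : Matrix (Fin m ⊕ Fin m) (Fin m ⊕ Fin m) F).charpoly = (g' : Matrix (Fin m ⊕ Fin m) (Fin m ⊕ Fin m) F).charpoly) :
    IsConj g g' := by
  classical
  have hpow : ∀ h : ↥(Matrix.symplecticGroup (Fin m) F), (h : Matrix (Fin m ⊕ Fin m) (Fin m ⊕ Fin m) F) ^ orderOf h = 1 := by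
    intro h
    let f : Matrix.symplecticGroup (Fin m) F →* Matrix (Fin m ⊕ Fin m) (Fin m ⊕ Fin m) F := Submonoid.subtype _
    have h1 : f (h ^ orderOf h) = 1 := by rw [pow_orderOf_eq_one, map_one]
    rw [map_pow] at h1
    exact h1
  rw [Cfsg.Agent.S2589.result g g' hg]
  obtain ⟨Y, hY, hYA⟩ := mat_conj_gen (cast_ne_of_coprime (F := F) p hg) (cast_ne_of_coprime (F := F) p hg') (hpow g) (hpow g') hc
  obtain ⟨u, hu⟩ := (Matrix.isUnit_iff_isUnit_det Y).2 (isUnit_iff_ne_zero.2 hY)
  refine ⟨u, ?_⟩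
  show (u : Matrix (Fin m ⊕ Fin m) (Fin m ⊕ Fin m) F) * _ = _ * (u : Matrix (Fin m ⊕ Fin m) (Fin m ⊕ Fin m) F)
  rw [hu]
  exact hYA

end realize

end Cfsg.Agent.Lib.SpRealize
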