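import Mathlib
import Cfsg.Agent.Lib.SpRealize
import Cfsg.Agent.Lib.QuadClass2
import Cfsg.Agent.Lib.OrthoOrder
import Cfsg.Agent.Lib.SemisimpleOrth

/-!
# Realising dual polynomials as characteristic polynomials of orthogonal matrices
-/

set_option autoImplicit false
set_option linter.unusedSectionVars false
set_option linter.unusedSimpArgs false
set_option linter.unusedVariables false

namespace Cfsg.Agent.Lib.OrthRealize

open Module Polynomial QuadraticMap
open Cfsg.Agent.Lib.PrimeFactors Cfsg.Agent.Lib.DualFactors Cfsg.Agent.Lib.SemisimpleGL Cfsg.Agent.Lib.SpRealize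
open Cfsg.Agent.Lib.QuadFF Cfsg.Agent.Lib.OrthoBasic Cfsg.Agent.Lib.OrthoCount Cfsg.Agent.Lib.QuadClass

universe u

section realize

variable {F : Type u} [Field F] [Fintype F] (p : ℕ) [Fact p.Prime] [CharP F p]

/-- A polynomial is realised by an isometry of order prime to `p` of a quadratic space. -/
def Rq (f : F[X]) : Prop :=
  ∃ (V : Type u) (_ : AddCommGroup V) (_ : Module F V) (_ : FiniteDimensional F V)
    (Q : QuadraticForm F V) (T : V →ₗ[F] V) (k : ℕ),
    ND Q ∧ (∀ x, Q (T x) = Q x) ∧ T ^ k = 1 ∧ k.Coprime p ∧ T.charpoly = f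

theorem Rq_one : Rq p (1 : F[X]) := by
  refine ⟨PUnit, inferInstance, inferInstance, inferInstance, 0, 0, 1, ?_, ?_, ?_, ?_, ?_⟩
  · intro x _
    exact Subsingleton.elim _ _
  · intro x
    rfl
  · apply LinearMap.ext
    intro x
    exact Subsingleton.elim _ _
  · exact Nat.coprime_one_left p
  · apply Polynomial.eq_one_of_monic_natDegree_zero (LinearMap.charpoly_monic _)
    rw [LinearMap.charpoly_natDegree]
    exact Module.finrank_zero_of_subsingleton

variable {p}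

theorem Rq_mul {f g : F[X]} (hf : Rq p f) (hg : Rq p g) : Rq p (f * g) := by
  obtain ⟨V, _, _, _, Q, T, k, hN, hI, hk, hc, hch⟩ := hf
  obtain ⟨W, _, _, _, Q', T', k', hN', hI', hk', hc', hch'⟩ := hg
  refine ⟨V × W, inferInstance, inferInstance, inferInstance, Q.prod Q', T.prodMap T', k * k', ?_, ?_, ?_, ?_, ?_⟩
  · rintro ⟨x, y⟩ h
    have h1 : x = 0 := hN x fun z => by
      have := h (z, 0)
      rw [polar_prod] at this
      simpa using this
    have h2 : y = 0 := hN' y fun z => by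
      have := h (0, z)
      rw [polar_prod] at this
      simpa using this
    rw [h1, h2]
    rfl
  · rintro ⟨x, y⟩
    show Q (T x) + Q' (T' y) = Q x + Q' y
    rw [hI, hI']
  · rw [prodMap_pow', pow_mul, hk, one_pow, mul_comm, pow_mul, hk', one_pow]
    rfl
  · exact Nat.Coprime.mul_left hc hc'
  · rw [LinearMap.charpoly_prodMap, hch, hch']

theorem Rq_hyper {g : F[X]} (hm : g.Monic) (h0 : g.coeff 0 ≠ 0) : Rq p (g * Dl (RingHom.id F) g) := by
  classical
  obtain ⟨A, k, hAk, hco, hA⟩ := mat_exists p g hm rfl h0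
  have hk0 : k ≠ 0 := by
    rintro rfl
    have hp : p.Prime := Fact.out
    rw [Nat.coprime_zero_left] at hco
    exact hp.one_lt.ne' hco
  obtain ⟨A', hA'⟩ : ∃ A', A' = A ^ (k - 1) := ⟨_, rfl⟩
  have h1 : A * A' = 1 := by
    rw [hA', ← pow_succ', Nat.sub_add_cancel (by omega), hAk]
  have h2 : A' * A = 1 := mul_eq_one_comm.mp h1
  have hA'k : A' ^ k = 1 := by
    rw [hA', ← pow_mul, mul_comm, pow_mul, hAk, one_pow]
  let B : LinearMap.BilinForm F ((Fin g.natDegree → F) × (Fin g.natDegree → F)) := LinearMap.mk₂ F (fun u v => u.1 ⬝ᵥ v.2)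
    (fun u u' v => by
      simp only [Prod.fst_add, add_dotProduct])
    (fun c u v => by
      simp only [Prod.smul_fst, smul_dotProduct, smul_eq_mul])
    (fun u v v' => by
      simp only [Prod.snd_add, dotProduct_add])
    (fun c u v => by
      simp only [Prod.smul_snd, dotProduct_smul, smul_eq_mul])
  have hB : ∀ u v, B u v = u.1 ⬝ᵥ v.2 := fun u v => rfl
  have hpolar : ∀ u v, polar (LinearMap.BilinMap.toQuadraticMap B) u v = u.1 ⬝ᵥ v.2 + v.1 ⬝ᵥ u.2 := by
    intro u v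
    rw [LinearMap.BilinMap.polar_toQuadraticMap, hB, hB]
  refine ⟨(Fin g.natDegree → F) × (Fin g.natDegree → F), inferInstance, inferInstance, inferInstance,
    LinearMap.BilinMap.toQuadraticMap B,
    (Matrix.toLin' A).prodMap (Matrix.toLin' A'.transpose), k, ?_, ?_, ?_, hco, ?_⟩
  · rintro ⟨x, y⟩ h
    have h3 : x = 0 := dotProduct_eq_zero x fun z => by
      have := h (0, z)
      rw [hpolar] at this
      simpa using this
    have h4 : y = 0 := dotProduct_eq_zero y fun z => by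
      have := h (z, 0)
      rw [hpolar] at this
      simpa [dotProduct_comm] using this
    rw [h3, h4]
    rfl
  · rintro ⟨x, y⟩
    rw [LinearMap.BilinMap.toQuadraticMap_apply, LinearMap.BilinMap.toQuadraticMap_apply, hB, hB]
    show (A.mulVec x) ⬝ᵥ (A'.transpose.mulVec y) = x ⬝ᵥ y
    rw [dot_adj A, Matrix.mulVec_mulVec, ← Matrix.transpose_mul, h2, Matrix.transpose_one, Matrix.one_mulVec]
  · rw [prodMap_pow', toLin_pow, toLin_pow, hAk, ← Matrix.transpose_pow, hA'k, Matrix.transpose_one, Matrix.toLin'_one]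
    apply LinearMap.ext
    intro x
    rfl
  · rw [LinearMap.charpoly_prodMap, Matrix.charpoly_toLin', Matrix.charpoly_toLin', hA, Matrix.charpoly_transpose]
    congr 1
    have h3 := reverse_charpoly_of_inv_gen h1
    rw [hA] at h3
    unfold Dl
    rw [Polynomial.map_id, h3, RingHom.id_apply, ← mul_assoc, ← C_mul, inv_mul_cancel₀ h0, C_1, one_mul]

/-- The block attached to an irreducible self-reciprocal polynomial of degree at least two. -/
theorem Rq_field {j : F[X]} (hm : j.Monic) (hi : Irreducible j) (hfix : Dl (RingHom.id F) j = j)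
    (hdeg : 2 ≤ j.natDegree) : Rq p j := by
  classical
  haveI : Fact (Irreducible j) := ⟨hi⟩
  haveI : Module.Finite F (AdjoinRoot j) := hm.finite_adjoinRoot
  haveI : Finite (AdjoinRoot j) := Module.finite_of_finite F
  haveI : Fintype (AdjoinRoot j) := Fintype.ofFinite _
  obtain ⟨θ, hθ⟩ : ∃ θ, θ = AdjoinRoot.root j := ⟨_, rfl⟩
  have hdvd_le : ∀ P : F[X], P ≠ 0 → P.natDegree ≤ 1 → AdjoinRoot.mk j P ≠ 0 := by
    intro P hP hPd h
    rw [AdjoinRoot.mk_eq_zero] at h
    have := natDegree_le_of_dvd h hP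
    omega
  have hθ0 : θ ≠ 0 := by
    intro h
    apply hdvd_le X X_ne_zero (by simp)
    rw [AdjoinRoot.mk_X, ← hθ, h]
  have hroot : aeval θ j = 0 := by
    rw [hθ]
    exact aeval_root_eq j
  have hinv : aeval θ⁻¹ j = 0 := by
    have h1 := aeval_Dl_inv (σ := RingHom.id F) (RingHom.id (AdjoinRoot j)) (fun x => rfl) hθ0 hroot
    rwa [hfix] at h1
  have hne : θ - θ⁻¹ ≠ 0 := by
    intro h
    have h1 : θ * θ = 1 := by
      have h2 : θ = θ⁻¹ := sub_eq_zero.1 h
      calc θ * θ = θ * θ⁻¹ := by rw [← h2]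
        _ = 1 := mul_inv_cancel₀ hθ0
    have h2 : (θ - 1) * (θ + 1) = 0 := by
      have : (θ - 1) * (θ + 1) = θ * θ - 1 := by ring
      rw [this, h1, sub_self]
    rcases mul_eq_zero.1 h2 with h3 | h3
    · apply hdvd_le (X - C 1) (X_sub_C_ne_zero 1) (natDegree_X_sub_C 1).le
      rw [map_sub, AdjoinRoot.mk_X, AdjoinRoot.mk_C, map_one, ← hθ, h3]
    · apply hdvd_le (X + C 1) (X_add_C_ne_zero 1) (natDegree_X_add_C 1).le
      rw [map_add, AdjoinRoot.mk_X, AdjoinRoot.mk_C, map_one, ← hθ, h3]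
  -- the involution
  obtain ⟨bar, hbar⟩ : ∃ bar : AdjoinRoot j →ₐ[F] AdjoinRoot j, bar θ = θ⁻¹ := by
    refine ⟨AdjoinRoot.liftAlgHom j (Algebra.ofId F (AdjoinRoot j)) θ⁻¹ hinv, ?_⟩
    have := AdjoinRoot.liftAlgHom_root j (Algebra.ofId F (AdjoinRoot j)) θ⁻¹ hinv
    rwa [← hθ] at this
  have hbb : ∀ x, bar (bar x) = x := by
    have h1 : bar.comp bar = AlgHom.id F (AdjoinRoot j) := by
      apply AdjoinRoot.algHom_ext
      rw [← hθ, AlgHom.comp_apply, hbar, map_inv₀, hbar, inv_inv]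
      rfl
    intro x
    have := congrArg (fun φ : AdjoinRoot j →ₐ[F] AdjoinRoot j => φ x) h1
    exact this
  -- an element of non-zero trace
  obtain ⟨w, hw⟩ : ∃ w : AdjoinRoot j, w + bar w ≠ 0 := by
    by_cases h2 : (2 : AdjoinRoot j) = 0
    · refine ⟨θ, ?_⟩
      rw [hbar]
      intro h3
      apply hne
      have h4 : θ - θ⁻¹ = (θ + θ⁻¹) - 2 * θ⁻¹ := by ring
      rw [h4, h3, h2]
      ring
    · refine ⟨1, ?_⟩
      rw [map_one]
      intro h3
      apply h2
      rw [← h3]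
      norm_num
  obtain ⟨lam, hlam⟩ : ∃ lam : Module.Dual F (AdjoinRoot j), lam (w + bar w) ≠ 0 := by
    by_contra hno
    push Not at hno
    exact hw ((Module.forall_dual_apply_eq_zero_iff F _).1 hno)
  let B : LinearMap.BilinForm F (AdjoinRoot j) := LinearMap.mk₂ F (fun u v => lam (u * bar v))
    (fun u u' v => by
      rw [add_mul, map_add])
    (fun c u v => by
      rw [smul_mul_assoc, map_smul])
    (fun u v v' => by
      rw [map_add, mul_add, map_add])
    (fun c u v => by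
      rw [map_smul, mul_smul_comm, map_smul])
  have hB : ∀ u v, B u v = lam (u * bar v) := fun u v => rfl
  have hpolar : ∀ u v, polar (LinearMap.BilinMap.toQuadraticMap B) u v = lam (u * bar v + bar u * v) := by
    intro u v
    rw [LinearMap.BilinMap.polar_toQuadraticMap, hB, hB, map_add]
    congr 2
    ring
  obtain ⟨N, hN⟩ : ∃ N, N = Fintype.card (AdjoinRoot j) := ⟨_, rfl⟩
  have hθN : θ ^ (N - 1) = 1 := by
    rw [hN]
    exact FiniteField.pow_card_sub_one_eq_one θ hθ0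
  refine ⟨AdjoinRoot j, inferInstance, inferInstance, inferInstance, LinearMap.BilinMap.toQuadraticMap B,
    Cfsg.Agent.Lib.SemisimpleGL.rootMul j, N - 1, ?_, ?_, ?_, ?_, ?_⟩
  · intro x h
    by_contra hx
    have h1 := h (bar (w * x⁻¹))
    rw [hpolar, hbb, ← map_mul] at h1
    have h2 : x * (w * x⁻¹) = w := by
      field_simp
    rw [h2] at h1
    exact hlam h1
  · intro x
    rw [LinearMap.BilinMap.toQuadraticMap_apply, LinearMap.BilinMap.toQuadraticMap_apply, hB, hB,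
      Cfsg.Agent.Lib.SemisimpleGL.rootMul_apply, ← hθ, map_mul bar, hbar]
    congr 1
    field_simp
  · have h1 : Cfsg.Agent.Lib.SemisimpleGL.rootMul j = Algebra.lmul F (AdjoinRoot j) θ := by
      rw [hθ]
      rfl
    rw [h1, ← map_pow, hθN, map_one]
  · have hp : p.Prime := Fact.out
    haveI : CharP (AdjoinRoot j) p := charP_of_injective_algebraMap (algebraMap F (AdjoinRoot j)).injective p
    obtain ⟨n, -, hn⟩ := FiniteField.card (AdjoinRoot j) p
    have hnpos : 0 < (n : ℕ) := n.pos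
    rw [← hN] at hn
    apply Nat.Coprime.symm
    rw [hp.coprime_iff_not_dvd]
    intro hd
    have h1 : p ∣ N := by
      rw [hn]
      exact dvd_pow_self p hnpos.ne'
    have h2 : 1 ≤ N := by
      rw [hn]
      exact Nat.one_le_pow _ _ hp.pos
    have h3 := Nat.dvd_sub h1 hd
    have h4 : N - (N - 1) = 1 := by omega
    rw [h4] at h3
    exact hp.one_lt.ne' (Nat.dvd_one.1 h3)
  · exact Cfsg.Agent.Lib.SemisimpleGL.charpoly_rootMul hm

/-- An irreducible self-reciprocal factor of `X^r - 1`, `r` odd, has degree at least two. -/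
theorem two_le_of_fix {r : ℕ} (hr0 : r ≠ 0) (hrodd : r % 2 = 1) (hrF : (r : F) ≠ 0) {j : F[X]} (hj : j ∈ Idx F r)
    (hfix : Dl (RingHom.id F) j = j) : 2 ≤ j.natDegree := by
  obtain ⟨hi, hm, -⟩ := (mem_Idx hr0).1 hj
  have hpos := hi.natDegree_pos
  by_contra hlt
  have hdeg : j.natDegree = 1 := by omega
  have hj0 : j.coeff 0 ≠ 0 := coeff_zero_ne_of_dvd hr0 (mem_dvd hr0 hj)
  have hjj := (dual_facts hm hj0 hfix).1
  have hj2 := hm.eq_X_add_C hdeg
  obtain ⟨c, hc⟩ : ∃ c, c = -j.coeff 0 := ⟨_, rfl⟩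
  have hcc : c * c = 1 := by rw [hc, neg_mul_neg, hjj]
  have hjc : j = X - C c := by
    rw [hc, C_neg, sub_neg_eq_add]
    exact hj2
  have h1 : (X ^ r - 1 : F[X]).IsRoot c := by
    have h2 : X - C c ∣ X ^ r - 1 := by
      rw [← hjc]
      exact mem_dvd hr0 hj
    exact dvd_iff_isRoot.1 h2
  have h3 : c ^ r = 1 := by
    have := h1
    simp only [IsRoot, eval_sub, eval_pow, eval_X, eval_one] at this
    exact sub_eq_zero.1 this
  have h4 : c = 1 := by
    obtain ⟨k, hk⟩ : ∃ k, r = 2 * k + 1 := ⟨r / 2, by omega⟩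
    rw [hk, pow_succ, pow_mul, pow_two, hcc, one_pow, one_mul] at h3
    exact h3
  rw [hjc, h4, C_1] at hj
  exact one_not_mem hrF hr0 hj

variable (p) in
theorem Rq_of_dual {r : ℕ} (hr0 : r ≠ 0) (hrodd : r % 2 = 1) (hrF : (r : F) ≠ 0) :
    ∀ (d : ℕ) (f : F[X]), f.natDegree = d → f.Monic → Dl (RingHom.id F) f = f →
      (∀ j : F[X], j.Monic → Irreducible j → j ∣ f → j ∈ Idx F r) → Rq p f := by
  intro d
  induction d using Nat.strong_induction_on with
  | _ d ih =>
  intro f hd hm hDf hsup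
  by_cases hd0 : d = 0
  · rw [Polynomial.eq_one_of_monic_natDegree_zero hm (hd.trans hd0)]
    exact Rq_one p
  have hσ : ∀ x : F, RingHom.id F (RingHom.id F x) = x := fun x => rfl
  obtain ⟨j, hjm, hji, hjd⟩ := Polynomial.exists_monic_irreducible_factor f (by
    intro hu
    apply hd0
    rw [← hd]
    exact natDegree_eq_zero_of_isUnit hu)
  have hjI := hsup j hjm hji hjd
  have hj0 : j.coeff 0 ≠ 0 := coeff_zero_ne_of_dvd hr0 (mem_dvd hr0 hjI)
  obtain ⟨h, hh⟩ := hjd
  have hhm : h.Monic := hjm.of_mul_monic_left (hh ▸ hm)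
  have hpos := hji.natDegree_pos
  have hsup' : ∀ h₁ g : F[X], f = g * h₁ → (∀ j : F[X], j.Monic → Irreducible j → j ∣ h₁ → j ∈ Idx F r) := by
    intro h₁ g hf j' hm' hi' hd'
    exact hsup j' hm' hi' (hf ▸ Dvd.dvd.mul_left hd' g)
  by_cases hfix : Dl (RingHom.id F) j = j
  · have hdeg2 := two_le_of_fix hr0 hrodd hrF hjI hfix
    have hDh : Dl (RingHom.id F) h = h := by
      have h2 : Dl (RingHom.id F) (j * h) = j * h := by
        rw [← hh]
        exact hDf
      rw [Dl_mul, hfix] at h2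
      exact mul_left_cancel₀ hjm.ne_zero h2
    have hdsum : d = j.natDegree + h.natDegree := by
      rw [← hd, hh, hjm.natDegree_mul hhm]
    have hIH := ih h.natDegree (by omega) h rfl hhm hDh (hsup' h j hh)
    rw [hh]
    exact Rq_mul (Rq_field hjm hji hfix hdeg2) hIH
  · have hdvd : Dl (RingHom.id F) j ∣ j * h := by
      rw [← hh, ← hDf, hh, Dl_mul]
      exact Dvd.intro _ rfl
    have hirr := irreducible_Dl hσ hjm hj0 hji
    rcases hirr.prime.dvd_or_dvd hdvd with h3 | h3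
    · exact absurd (eq_of_monic_of_associated (monic_Dl hj0) hjm (hirr.associated_of_dvd hji h3)) hfix
    · obtain ⟨h₁, hh₁⟩ := h3
      have hf₁ : f = j * Dl (RingHom.id F) j * h₁ := by
        rw [hh, hh₁]
        ring
      have hDjm : (Dl (RingHom.id F) j).Monic := monic_Dl hj0
      have hjj : (j * Dl (RingHom.id F) j).Monic := hjm.mul hDjm
      have h1m : h₁.Monic := hjj.of_mul_monic_left (hf₁ ▸ hm)
      have hDh : Dl (RingHom.id F) h₁ = h₁ := by
        have h2 : Dl (RingHom.id F) (j * Dl (RingHom.id F) j * h₁) = j * Dl (RingHom.id F) j * h₁ := by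
          rw [← hf₁]
          exact hDf
        rw [Dl_mul, Dl_mul, Dl_Dl hσ hjm hj0] at h2
        have h3 : (j * Dl (RingHom.id F) j) * Dl (RingHom.id F) h₁ = (j * Dl (RingHom.id F) j) * h₁ := by
          rw [← h2]
          ring
        exact mul_left_cancel₀ hjj.ne_zero h3
      have hdeg₁ : d = 2 * j.natDegree + h₁.natDegree := by
        rw [← hd, hf₁, hjj.natDegree_mul h1m, hjm.natDegree_mul hDjm, natDegree_Dl hj0]
        ring
      have hIH := ih h₁.natDegree (by omega) h₁ rfl h1m hDh (hsup' h₁ _ hf₁)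
      rw [hf₁]
      exact Rq_mul (Rq_hyper hjm hj0) hIH

end realize

section fibres

variable {F : Type u} [Field F] [Fintype F]

lemma natCard_fibre_hyp {W : Type*} [AddCommGroup W] [Module F W] [Finite W] (Q' : QuadraticForm F W) (c : F) :
    Nat.card {p : F × F × W // hypQ Q' p = c}
      = (Fintype.card F - 1) * Nat.card W + Fintype.card F * Nat.card {w // Q' w = c} := by
  rw [← natCard_hyp_fibre (fun w => Q' w) c]
  apply Nat.card_congr
  apply Equiv.subtypeEquivRight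
  rintro ⟨x, y, w⟩
  rw [hypQ_apply]

theorem fibre_plus (k : ℕ) {c : F} (hc : c ≠ 0) :
    (Nat.card {v // qPlus (k + 1) F v = c} : ℤ) = (Fintype.card F : ℤ) ^ k * ((Fintype.card F : ℤ) ^ (k + 1) - 1) := by
  have hq := one_lt_q (F := F)
  have hq' : ((Fintype.card F - 1 : ℕ) : ℤ) = (Fintype.card F : ℤ) - 1 := by
    push_cast [Nat.one_le_of_lt hq]; ring
  induction k with
  | zero =>
    rw [natCard_fibre_congr (splitFin 0).symm (Q := hypQ (qPlus 0 F)) (fun v => by
      rw [← qPlus_split, LinearEquiv.apply_symm_apply]) c |>.symm]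
    rw [natCard_fibre_hyp, card_fun_plus]
    have : Nat.card {w // qPlus 0 F w = c} = 0 := by
      rw [Nat.card_eq_zero]
      left
      constructor
      rintro ⟨w, hw⟩
      apply hc
      rw [← hw, qPlus_apply]
      simp [Cfsg.quadFormPlus]
    rw [this]
    push_cast [Nat.one_le_of_lt hq]
    ring
  | succ k ih =>
    rw [natCard_fibre_congr (splitFin (k + 1)).symm (Q := hypQ (qPlus (k + 1) F)) (fun v => by
      rw [← qPlus_split, LinearEquiv.apply_symm_apply]) c |>.symm]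
    rw [natCard_fibre_hyp, card_fun_plus]
    push_cast
    rw [ih, hq']
    ring

/-- The norm form on pairs. -/
def pairN (ζ : F) (z : F × F) : F := z.1 ^ 2 + z.1 * z.2 + ζ * z.2 ^ 2

theorem pairN_mul (ζ : F) (z w : F × F) :
    pairN ζ (z.1 * w.1 - ζ * z.2 * w.2, z.1 * w.2 + z.2 * w.1 + z.2 * w.2) = pairN ζ z * pairN ζ w := by
  simp only [pairN]
  ring

theorem pairN_zero {ζ : F} (hζ : ∀ t : F, t ^ 2 + t + ζ ≠ 0) {z : F × F} (h : pairN ζ z = 0) : z = 0 := by
  obtain ⟨h1, h2⟩ := Cfsg.Agent.Lib.QuadClass2.ani_of_zeta hζ z.1 z.2 (by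
    rw [← h, pairN]
    ring)
  exact Prod.ext h1 h2

theorem pair_fibre_eq {ζ : F} (hζ : ∀ t : F, t ^ 2 + t + ζ ≠ 0) {c : F} (hc : c ≠ 0) :
    Nat.card {z : F × F // pairN ζ z = c} = Nat.card {z : F × F // pairN ζ z = 1} := by
  classical
  obtain ⟨s, t, hst⟩ := exists_norm_eq hζ c
  have hst' : pairN ζ (s, t) = c := hst
  let M : F × F → F × F := fun w => (s * w.1 - ζ * t * w.2, s * w.2 + t * w.1 + t * w.2)
  have hM : ∀ w, pairN ζ (M w) = c * pairN ζ w := by
    intro w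
    rw [← hst']
    exact pairN_mul ζ (s, t) w
  have hMinj : Function.Injective M := by
    intro w w' h
    have h1 : M (w - w') = 0 := by
      have h2 := congrArg Prod.fst h
      have h3 := congrArg Prod.snd h
      simp only [M] at h2 h3
      apply Prod.ext
      · simp only [M, Prod.fst_sub, Prod.snd_sub, Prod.fst_zero]
        linear_combination h2
      · simp only [M, Prod.fst_sub, Prod.snd_sub, Prod.snd_zero]
        linear_combination h3
    have h2 := hM (w - w')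
    rw [h1] at h2
    have h3 : pairN ζ (0 : F × F) = 0 := by simp [pairN]
    rw [h3] at h2
    have h4 := (mul_eq_zero.1 h2.symm).resolve_left hc
    exact sub_eq_zero.1 (pairN_zero hζ h4)
  have hMbij : Function.Bijective M := Finite.injective_iff_bijective.1 hMinj
  symm
  refine Nat.card_congr ((Equiv.ofBijective M hMbij).subtypeEquiv fun w => ?_)
  show pairN ζ w = 1 ↔ pairN ζ (M w) = c
  rw [hM]
  constructor
  · intro h
    rw [h, mul_one]
  · intro h
    exact mul_left_cancel₀ hc (by rw [h, mul_one])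

theorem pair_card {ζ : F} (hζ : ∀ t : F, t ^ 2 + t + ζ ≠ 0) {c : F} (hc : c ≠ 0) :
    Nat.card {z : F × F // pairN ζ z = c} = Fintype.card F + 1 := by
  classical
  rw [pair_fibre_eq hζ hc]
  have hq := one_lt_q (F := F)
  have h0 : Nat.card {z : F × F // pairN ζ z = 0} = 1 := by
    rw [Nat.card_eq_one_iff_unique]
    refine ⟨⟨?_⟩, ⟨⟨0, by simp [pairN]⟩⟩⟩
    rintro ⟨a, ha⟩ ⟨b, hb⟩
    exact Subtype.ext ((pairN_zero hζ ha).trans (pairN_zero hζ hb).symm)
  have h1 : Nat.card (F × F) = ∑ c : F, Nat.card {z : F × F // pairN ζ z = c} := by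
    rw [← Nat.card_sigma]
    exact Nat.card_congr (Equiv.sigmaFiberEquiv _).symm
  rw [Nat.card_prod, Nat.card_eq_fintype_card, ← Finset.add_sum_erase _ _ (Finset.mem_univ (0 : F)), h0,
    Finset.sum_congr rfl (fun c hc => pair_fibre_eq hζ (Finset.ne_of_mem_erase hc)), Finset.sum_const,
    Finset.card_erase_of_mem (Finset.mem_univ _), Finset.card_univ, smul_eq_mul] at h1
  obtain ⟨q, hq'⟩ : ∃ q, q = Fintype.card F := ⟨_, rfl⟩
  rw [← hq'] at h1 hq ⊢
  obtain ⟨N, hN⟩ : ∃ N, N = Nat.card {z : F × F // pairN ζ z = 1} := ⟨_, rfl⟩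
  rw [← hN] at h1 ⊢
  obtain ⟨s, rfl⟩ : ∃ s, q = s + 2 := ⟨q - 2, by omega⟩
  have e : s + 2 - 1 = s + 1 := by omega
  rw [e] at h1
  have h2 : (s + 1) * N = (s + 1) * (s + 2 + 1) := by nlinarith
  exact Nat.eq_of_mul_eq_mul_left (by omega) h2

/-- Coordinates of the zero-rank minus form. -/
def minusZeroEquiv (F : Type u) : ((Fin 0 ⊕ Fin 0) ⊕ Fin 2 → F) ≃ F × F where
  toFun v := (v (Sum.inr 0), v (Sum.inr 1))
  invFun z := Sum.elim (fun i => (Sum.elim Fin.elim0 Fin.elim0 i : F)) ![z.1, z.2]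
  left_inv v := by
    funext s
    rcases s with (i | i) | i
    · exact i.elim0
    · exact i.elim0
    · fin_cases i <;> rfl
  right_inv z := rfl

theorem fibre_minus_zero {ζ : F} (hζ : ∀ t : F, t ^ 2 + t + ζ ≠ 0) {c : F} (hc : c ≠ 0) :
    Nat.card {v // qMinus 0 (1 : F) ζ v = c} = Fintype.card F + 1 := by
  rw [← pair_card hζ hc]
  refine Nat.card_congr ((minusZeroEquiv F).subtypeEquiv fun v => ?_)
  rw [qMinus_apply]
  have : Cfsg.quadFormMinus 0 F 1 ζ v = pairN ζ (minusZeroEquiv F v) := by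
    have h1 : minusZeroEquiv F v = (v (Sum.inr 0), v (Sum.inr 1)) := rfl
    rw [h1]
    simp [Cfsg.quadFormMinus, pairN]
  rw [this]

theorem fibre_minus {ζ : F} (hζ : ∀ t : F, t ^ 2 + t + ζ ≠ 0) (k : ℕ) {c : F} (hc : c ≠ 0) :
    (Nat.card {v // qMinus k (1 : F) ζ v = c} : ℤ) = (Fintype.card F : ℤ) ^ k * ((Fintype.card F : ℤ) ^ (k + 1) + 1) := by
  have hq := one_lt_q (F := F)
  have hq' : ((Fintype.card F - 1 : ℕ) : ℤ) = (Fintype.card F : ℤ) - 1 := by
    push_cast [Nat.one_le_of_lt hq]; ring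
  induction k with
  | zero =>
    rw [fibre_minus_zero hζ hc]
    push_cast
    ring
  | succ k ih =>
    rw [natCard_fibre_congr (splitMinus k).symm (Q := hypQ (qMinus k (1 : F) ζ)) (fun v => by
      rw [← qMinus_split, LinearEquiv.apply_symm_apply]) c |>.symm]
    rw [natCard_fibre_hyp, card_fun_minus]
    push_cast
    rw [ih, hq']
    ring

theorem aux_modEq {α : Type*} (inst : Fintype α) [h : IsEmpty α] {a r : ℕ} (h1 : a ≡ @Fintype.card α inst [MOD r]) :
    a ≡ 0 [MOD r] := by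
  rw [(@Fintype.card_eq_zero_iff α inst).2 h] at h1
  exact h1

/-- A fixed-point-free isometry of prime order divides the fibres. -/
theorem dvd_fibre {V : Type*} [AddCommGroup V] [Module F V] [Finite V] (Q : QuadraticForm F V) (T : V →ₗ[F] V)
    (hT : ∀ x, Q (T x) = Q x) {r : ℕ} [hrp : Fact r.Prime] (hr : T ^ r = 1) (hfree : ∀ x, T x = x → x = 0) {c : F} (hc : c ≠ 0) :
    r ∣ Nat.card {v // Q v = c} := by
  classical
  haveI : Fintype V := Fintype.ofFinite _
  obtain ⟨σ, hσ⟩ : ∃ σ : Function.End {v // Q v = c}, ∀ v, (σ v).1 = T v.1 :=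
    ⟨fun v => ⟨T v.1, by rw [hT]; exact v.2⟩, fun v => rfl⟩
  have hpow : ∀ n (v : {v // Q v = c}), ((σ ^ n) v).1 = (T ^ n) v.1 := by
    intro n
    induction n with
    | zero =>
      intro v
      rfl
    | succ n ih =>
      intro v
      rw [pow_succ, pow_succ]
      show ((σ ^ n) (σ v)).1 = (T ^ n) (T v.1)
      rw [ih, hσ]
  have hσr : σ ^ r ^ 1 = 1 := by
    rw [pow_one]
    funext v
    apply Subtype.ext
    rw [hpow, hr]
    rfl
  have h1 := Equiv.Perm.card_fixedPoints_modEq hσr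
  haveI h2 : IsEmpty (Function.fixedPoints σ) := by
    constructor
    rintro ⟨v, hv⟩
    have h3 : T v.1 = v.1 := by
      rw [← hσ, hv]
    have h4 := hfree _ h3
    apply hc
    rw [← v.2, h4, map_zero]
  rw [Nat.card_eq_fintype_card]
  exact (Nat.modEq_zero_iff_dvd).1 (aux_modEq _ h1)

/-- The type of a form admitting a fixed-point-free isometry. -/
theorem free_type {V : Type u} [AddCommGroup V] [Module F V] [FiniteDimensional F V] {Q : QuadraticForm F V} (hQ : ND Q) {k : ℕ}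
    (T : V →ₗ[F] V)
    (hT : ∀ x, Q (T x) = Q x) {r : ℕ} [hrp : Fact r.Prime] (hr : T ^ r = 1) (hfree : ∀ x, T x = x → x = 0)
    (hrq : ((Fintype.card F : ℕ) : ZMod r) ≠ 0) :
    ((∃ b : Basis (Fin (k + 1) ⊕ Fin (k + 1)) F V, IsHypBasis Q b) → ((Fintype.card F : ℕ) : ZMod r) ^ (k + 1) = 1) ∧
    ((∃ (b : Basis ((Fin k ⊕ Fin k) ⊕ Fin 2) F V) (ζ : F), IsMinusBasis Q b ζ) → ((Fintype.card F : ℕ) : ZMod r) ^ (k + 1) = -1) := by
  haveI : Finite V := Module.finite_of_finite F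
  have hd := dvd_fibre Q T hT hr hfree (c := (1 : F)) one_ne_zero
  have hcast : ∀ N : ℕ, r ∣ N → (N : ZMod r) = 0 := fun N h => (ZMod.natCast_eq_zero_iff _ _).2 h
  have hcastZ : ∀ N : ℤ, (r : ℤ) ∣ N → ((N : ℤ) : ZMod r) = 0 := fun N h => (ZMod.intCast_zmod_eq_zero_iff_dvd N r).2 h
  have h0 := hcast _ hd
  constructor
  · rintro ⟨b, hb⟩
    obtain ⟨e, he⟩ := iso_qPlus_of_hyp hb
    rw [natCard_fibre_congr e he 1] at h0
    have h1 := fibre_plus (F := F) k (c := 1) one_ne_zero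
    have h2 := congrArg (Int.cast : ℤ → ZMod r) h1
    push_cast at h2
    rw [h0] at h2
    have h3 := (mul_eq_zero.1 h2.symm).resolve_left (pow_ne_zero _ hrq)
    exact sub_eq_zero.1 h3
  · rintro ⟨b, ζ, hb⟩
    obtain ⟨e, he⟩ := Cfsg.Agent.Lib.QuadClass2.iso_of_minus_basis hQ hb
    rw [natCard_fibre_congr e he 1] at h0
    have h1 := fibre_minus (F := F) hb.1 k (c := 1) one_ne_zero
    have h2 := congrArg (Int.cast : ℤ → ZMod r) h1
    push_cast at h2
    rw [h0] at h2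
    have h3 := (mul_eq_zero.1 h2.symm).resolve_left (pow_ne_zero _ hrq)
    exact eq_neg_of_add_eq_zero_left h3

end fibres

section embed

variable {F : Type u} [Field F]

variable {V₁ V₂ V₃ : Type*} [AddCommGroup V₁] [Module F V₁] [AddCommGroup V₂] [Module F V₂] [AddCommGroup V₃] [Module F V₃]

/-- Isometric embeddings. -/
def Emb (Q : QuadraticForm F V₁) (Q' : QuadraticForm F V₂) : Prop := ∃ i : V₁ →ₗ[F] V₂, ∀ v, Q' (i v) = Q v

theorem Emb.trans {Q : QuadraticForm F V₁} {Q' : QuadraticForm F V₂} {Q'' : QuadraticForm F V₃}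
    (h : Emb Q Q') (h' : Emb Q' Q'') : Emb Q Q'' := by
  obtain ⟨i, hi⟩ := h
  obtain ⟨j, hj⟩ := h'
  exact ⟨j.comp i, fun v => by rw [LinearMap.comp_apply, hj, hi]⟩

theorem Emb.hyp {Q : QuadraticForm F V₁} {Q' : QuadraticForm F V₂} (h : Emb Q Q') : Emb (hypQ Q) (hypQ Q') := by
  obtain ⟨i, hi⟩ := h
  refine ⟨LinearMap.prodMap LinearMap.id (LinearMap.prodMap LinearMap.id i), ?_⟩
  rintro ⟨x, y, w⟩
  show hypQ Q' (x, y, i w) = _
  rw [hypQ_apply, hypQ_apply, hi]

theorem emb_self_hyp (Q : QuadraticForm F V₁) : Emb Q (hypQ Q) := by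
  refine ⟨(LinearMap.inr F F (F × V₁)).comp (LinearMap.inr F F V₁), fun v => ?_⟩
  show hypQ Q (0, 0, v) = _
  rw [hypQ_apply]
  simp

theorem emb_refl (Q : QuadraticForm F V₁) : Emb Q Q := ⟨LinearMap.id, fun v => rfl⟩

theorem emb_plus_down (m : ℕ) : Emb (qPlus (m + 1) F) (hypQ (qPlus m F)) :=
  ⟨(splitFin m).toLinearMap, qPlus_split m⟩

theorem emb_plus_up (m : ℕ) : Emb (hypQ (qPlus m F)) (qPlus (m + 1) F) :=
  ⟨(splitFin m).symm.toLinearMap, fun v => by
    show qPlus (m + 1) F ((splitFin m).symm v) = _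
    rw [← qPlus_split, LinearEquiv.apply_symm_apply]⟩

theorem emb_minus_down (m : ℕ) (a b : F) : Emb (qMinus (m + 1) a b) (hypQ (qMinus m a b)) :=
  ⟨(splitMinus m).toLinearMap, qMinus_split m a b⟩

theorem emb_minus_up (m : ℕ) (a b : F) : Emb (hypQ (qMinus m a b)) (qMinus (m + 1) a b) :=
  ⟨(splitMinus m).symm.toLinearMap, fun v => by
    show qMinus (m + 1) a b ((splitMinus m).symm v) = _
    rw [← qMinus_split, LinearEquiv.apply_symm_apply]⟩

theorem emb_odd_up (m : ℕ) : Emb (hypQ (qOdd m F)) (qOdd (m + 1) F) :=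
  ⟨(splitOdd m).symm.toLinearMap, fun v => by
    show qOdd (m + 1) F ((splitOdd m).symm v) = _
    rw [← qOdd_split, LinearEquiv.apply_symm_apply]⟩

theorem emb_plus_zero (Q : QuadraticForm F V₁) : Emb (qPlus 0 F) Q := by
  refine ⟨0, fun v => ?_⟩
  rw [LinearMap.zero_apply, QuadraticMap.map_zero, qPlus_apply]
  simp [Cfsg.quadFormPlus]

theorem emb_plus_plus : ∀ (m' m : ℕ), m' ≤ m → Emb (qPlus m' F) (qPlus m F) := by
  intro m'
  induction m' with
  | zero => exact fun m _ => emb_plus_zero _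
  | succ m' ih =>
    intro m hm
    obtain ⟨m, rfl⟩ : ∃ k, m = k + 1 := ⟨m - 1, by omega⟩
    exact (emb_plus_down m').trans ((ih m (by omega)).hyp.trans (emb_plus_up m))

theorem emb_plus_minus (a b : F) : ∀ (m' k : ℕ), m' ≤ k → Emb (qPlus m' F) (qMinus k a b) := by
  intro m'
  induction m' with
  | zero => exact fun m _ => emb_plus_zero _
  | succ m' ih =>
    intro m hm
    obtain ⟨m, rfl⟩ : ∃ k, m = k + 1 := ⟨m - 1, by omega⟩
    exact (emb_plus_down m').trans ((ih m (by omega)).hyp.trans (emb_minus_up m a b))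

theorem emb_plus_odd : ∀ (m' m : ℕ), m' ≤ m → Emb (qPlus m' F) (qOdd m F) := by
  intro m'
  induction m' with
  | zero => exact fun m _ => emb_plus_zero _
  | succ m' ih =>
    intro m hm
    obtain ⟨m, rfl⟩ : ∃ k, m = k + 1 := ⟨m - 1, by omega⟩
    exact (emb_plus_down m').trans ((ih m (by omega)).hyp.trans (emb_odd_up m))

theorem emb_minus_minus (a b : F) : ∀ (k k' : ℕ), k ≤ k' → Emb (qMinus k a b) (qMinus k' a b) := by
  intro k
  induction k with
  | zero =>
    intro k' _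
    induction k' with
    | zero => exact emb_refl _
    | succ k' ih => exact (ih (Nat.zero_le _)).trans ((emb_self_hyp _).trans (emb_minus_up k' a b))
  | succ k ih =>
    intro m hm
    obtain ⟨m, rfl⟩ : ∃ k, m = k + 1 := ⟨m - 1, by omega⟩
    exact (emb_minus_down k a b).trans ((ih m (by omega)).hyp.trans (emb_minus_up m a b))

theorem emb_pad_plus {Q : QuadraticForm F V₁} : ∀ (m d : ℕ), Emb Q (qPlus m F) → Emb Q (qPlus (m + d) F) := by
  intro m d h
  induction d with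
  | zero => exact h
  | succ d ih => exact ih.trans ((emb_self_hyp _).trans (emb_plus_up _))

theorem emb_pad_odd {Q : QuadraticForm F V₁} : ∀ (m d : ℕ), Emb Q (qOdd m F) → Emb Q (qOdd (m + d) F) := by
  intro m d h
  induction d with
  | zero => exact h
  | succ d ih => exact ih.trans ((emb_self_hyp _).trans (emb_odd_up _))

theorem emb_minus_plus_base (a b : F) : Emb (qMinus 0 a b) (qPlus 2 F) := by
  let p₀ : ((Fin 0 ⊕ Fin 0) ⊕ Fin 2 → F) →ₗ[F] F := LinearMap.proj (Sum.inr 0)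
  let p₁ : ((Fin 0 ⊕ Fin 0) ⊕ Fin 2 → F) →ₗ[F] F := LinearMap.proj (Sum.inr 1)
  refine ⟨LinearMap.pi (Sum.elim ![p₀ + a • p₁, p₁] ![p₀, b • p₁]), fun v => ?_⟩
  rw [qPlus_apply, qMinus_apply]
  simp only [Cfsg.quadFormPlus, Cfsg.quadFormMinus, Fin.sum_univ_two, LinearMap.pi_apply, Sum.elim_inl, Sum.elim_inr]
  simp [p₀, p₁]
  ring

theorem emb_minus_plus (a b : F) : ∀ (k m : ℕ), k + 2 ≤ m → Emb (qMinus k a b) (qPlus m F) := by
  intro k
  induction k with
  | zero =>
    intro m hm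
    obtain ⟨d, rfl⟩ : ∃ d, m = 2 + d := ⟨m - 2, by omega⟩
    exact emb_pad_plus 2 d (emb_minus_plus_base a b)
  | succ k ih =>
    intro m hm
    obtain ⟨m, rfl⟩ : ∃ k, m = k + 1 := ⟨m - 1, by omega⟩
    exact (emb_minus_down k a b).trans ((ih m (by omega)).hyp.trans (emb_plus_up m))

theorem emb_minus_odd_base (b : F) : Emb (qMinus 0 (0 : F) b) (qOdd 1 F) := by
  let p₀ : ((Fin 0 ⊕ Fin 0) ⊕ Fin 2 → F) →ₗ[F] F := LinearMap.proj (Sum.inr 0)
  let p₁ : ((Fin 0 ⊕ Fin 0) ⊕ Fin 2 → F) →ₗ[F] F := LinearMap.proj (Sum.inr 1)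
  refine ⟨LinearMap.pi (Sum.elim (fun _ => p₀) (Sum.elim ![p₁] ![b • p₁])), fun v => ?_⟩
  rw [qOdd_apply, qMinus_apply]
  simp only [Cfsg.quadFormOdd, Cfsg.quadFormMinus, Fin.sum_univ_one, LinearMap.pi_apply, Sum.elim_inl, Sum.elim_inr]
  simp [p₀, p₁]
  ring

theorem emb_minus_odd (b : F) : ∀ (k m : ℕ), k + 1 ≤ m → Emb (qMinus k (0 : F) b) (qOdd m F) := by
  intro k
  induction k with
  | zero =>
    intro m hm
    obtain ⟨d, rfl⟩ : ∃ d, m = 1 + d := ⟨m - 1, by omega⟩
    exact emb_pad_odd 1 d (emb_minus_odd_base b)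
  | succ k ih =>
    intro m hm
    obtain ⟨m, rfl⟩ : ∃ k, m = k + 1 := ⟨m - 1, by omega⟩
    exact (emb_minus_down k 0 b).trans ((ih m (by omega)).hyp.trans (emb_odd_up m))

/-- Extending an isometry of a non-degenerate subspace by the identity. -/
theorem exists_ext [Fintype F] [FiniteDimensional F V₁] [FiniteDimensional F V₂] {QU : QuadraticForm F V₁} {QV : QuadraticForm F V₂} (hU : ND QU)
    (h : Emb QU QV) (T : V₁ →ₗ[F] V₁) (hT : ∀ x, QU (T x) = QU x) :
    ∃ g : V₂ →ₗ[F] V₂, (∀ v, QV (g v) = QV v) ∧ (∀ k, T ^ k = 1 → g ^ k = 1) ∧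
      g.charpoly = T.charpoly * (X - 1) ^ (finrank F V₂ - finrank F V₁) := by
  classical
  obtain ⟨i, hi⟩ := h
  have hinj : Function.Injective i := injective_of_preserves hU i hi
  have hpol : ∀ u v, polar QV (i u) (i v) = polar QU u v := by
    intro u v
    simp only [polar]
    rw [← map_add, hi, hi, hi]
  have hrefl : LinearMap.BilinForm.IsRefl (polarBilin QV) := by
    intro x y hxy
    rw [polarBilin_apply_apply] at hxy ⊢
    rw [polar_comm]
    exact hxy
  have hres : (LinearMap.BilinForm.restrict (polarBilin QV) (LinearMap.range i)).Nondegenerate := by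
    constructor
    · rintro ⟨_, u, rfl⟩ h
      apply Subtype.ext
      have h1 : u = 0 := hU u fun v => by
        have h2 := h ⟨i v, v, rfl⟩
        rw [← hpol]
        exact h2
      subst h1
      exact map_zero i
    · rintro ⟨_, u, rfl⟩ h
      apply Subtype.ext
      have h1 : u = 0 := hU u fun v => by
        have h2 := h ⟨i v, v, rfl⟩
        rw [← hpol, polar_comm]
        exact h2
      subst h1
      exact map_zero i
  have hcompl := LinearMap.BilinForm.isCompl_orthogonal_of_restrict_nondegenerate hrefl hres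
  obtain ⟨W, hW, hcompl⟩ : ∃ W : Submodule F V₂, (∀ w ∈ W, ∀ u, polar QV (i u) w = 0) ∧ IsCompl (LinearMap.range i) W := by
    refine ⟨_, ?_, hcompl⟩
    intro w hw u
    rw [LinearMap.BilinForm.mem_orthogonal_iff] at hw
    exact hw (i u) ⟨u, rfl⟩
  obtain ⟨φ, hφ⟩ : ∃ φ : (V₁ × W) ≃ₗ[F] V₂, ∀ u w, φ (u, w) = i u + (w : V₂) :=
    ⟨((LinearEquiv.ofInjective i hinj).prodCongr (LinearEquiv.refl F W)).trans (Submodule.prodEquivOfIsCompl _ W hcompl), fun u w => rfl⟩
  have hQφ : ∀ u (w : W), QV (φ (u, w)) = QU u + QV (w : V₂) := by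
    intro u w
    have h0 : polar QV (i u) (w : V₂) = 0 := hW _ w.2 u
    rw [hφ]
    simp only [polar] at h0
    rw [hi] at h0
    linear_combination h0
  obtain ⟨g, hg⟩ : ∃ g, g = φ.conj (T.prodMap (1 : Module.End F W)) := ⟨_, rfl⟩
  have hgv : ∀ v, g v = φ ((T.prodMap (1 : Module.End F W)) (φ.symm v)) := by
    intro v
    rw [hg]
    rfl
  have hgpow : ∀ n v, (g ^ n) v = φ (((T.prodMap (1 : Module.End F W)) ^ n) (φ.symm v)) := by
    intro n
    induction n with
    | zero =>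
      intro v
      simp
    | succ n ih =>
      intro v
      rw [pow_succ, pow_succ, Module.End.mul_apply, Module.End.mul_apply, ih, hgv, φ.symm_apply_apply]
  refine ⟨g, ?_, ?_, ?_⟩
  · intro v
    obtain ⟨⟨u, w⟩, rfl⟩ := φ.surjective v
    rw [hgv, φ.symm_apply_apply]
    show QV (φ (T u, w)) = _
    rw [hQφ, hQφ, hT]
  · intro k hk
    apply LinearMap.ext
    intro v
    rw [hgpow, prodMap_pow', hk, one_pow]
    show φ (φ.symm v) = v
    rw [φ.apply_symm_apply]
  · rw [hg, LinearEquiv.charpoly_conj, LinearMap.charpoly_prodMap, LinearMap.charpoly_one]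
    congr 2
    have h1 := φ.finrank_eq
    rw [Module.finrank_prod] at h1
    omega

end embed

section classes

variable {F : Type u} [Field F] [Fintype F] {ι : Type} [Fintype ι] [DecidableEq ι]

theorem dual_of_isometry (Q : QuadraticForm F (ι → F)) (hQ : (polarBilin Q).Nondegenerate) {A : Matrix ι ι F}
    (hdet : A.det ≠ 0) (ha : ∀ v, Q (A.mulVec v) = Q v) : Dl (RingHom.id F) A.charpoly = A.charpoly := by
  have hG := Cfsg.Agent.Lib.SemisimpleOrth.isGram_of_nondeg Q hQ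
  have h1 := Cfsg.Agent.Lib.SemisimpleConj.adj_mul_self hG (Cfsg.Agent.Lib.SemisimpleOrth.gram_form_of_isometry Q ha)
  have h2 := mul_eq_one_comm.mp h1
  have h3 := reverse_charpoly_of_inv_gen h2
  have h4 : (Cfsg.Agent.Lib.SemisimpleConj.adj (Cfsg.Agent.Lib.SpinorCrit.gram₀ Q) (Cfsg.Agent.Lib.SpinorCrit.gram₀ Q)⁻¹ A).charpoly = A.charpoly := by
    rw [Cfsg.Agent.Lib.SemisimpleConj.adj, Matrix.charpoly_mul_comm, ← mul_assoc, hG.h1, one_mul, Matrix.charpoly_transpose]
  rw [h4] at h3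
  have h0 : A.charpoly.coeff 0 ≠ 0 := by
    intro h
    rw [Matrix.det_eq_sign_charpoly_coeff, h, mul_zero] at hdet
    exact hdet rfl
  rw [dl_id_apply, h3, ← mul_assoc, ← C_mul, inv_mul_cancel₀ h0, C_1, one_mul]

/-- Matrices with no eigenvalue one. -/
theorem free_of_eval {V : Type*} [AddCommGroup V] [Module F V] [FiniteDimensional F V] {T : V →ₗ[F] V}
    (h : T.charpoly.eval 1 ≠ 0) (x : V) (hx : T x = x) : x = 0 := by
  by_contra hne
  have h1 : Module.End.HasEigenvalue T 1 := by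
    apply Module.End.hasEigenvalue_of_hasEigenvector (x := x)
    refine ⟨?_, hne⟩
    rw [Module.End.mem_eigenspace_iff, hx, one_smul]
  exact h ((Module.End.hasEigenvalue_iff_isRoot_charpoly T 1).1 h1)

theorem eval_one_mem {r : ℕ} (hr : (r : F) ≠ 0) (hr0 : r ≠ 0) {j : F[X]} (hj : j ∈ Idx F r) : j.eval 1 ≠ 0 := by
  obtain ⟨hi, hm, -⟩ := (mem_Idx hr0).1 hj
  intro h
  have h1 : X - C 1 ∣ j := dvd_iff_isRoot.2 h
  have h2 := eq_of_monic_of_associated (monic_X_sub_C (1 : F)) hm ((irreducible_X_sub_C (1 : F)).associated_of_dvd hi h1)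
  rw [← h2, C_1] at hj
  exact one_not_mem hr hr0 hj

theorem eval_prod_ne {r : ℕ} (hr : (r : F) ≠ 0) (hr0 : r ≠ 0) (a : ↥(Idx F r) → ℕ) :
    (∏ j : ↥(Idx F r), (j : F[X]) ^ a j).eval 1 ≠ 0 := by
  rw [eval_prod, Finset.prod_ne_zero_iff]
  intro j _
  rw [eval_pow]
  exact pow_ne_zero _ (eval_one_mem hr hr0 j.2)

/-- The part of `Pa` without the factor `X - 1`. -/
theorem Pa_top {r : ℕ} (a : ↥(Idx F r) → ℕ) :
    Pa F r (orderOf ((Fintype.card F : ℕ) : ZMod r) * ∑ j, a j) a = ∏ j : ↥(Idx F r), (j : F[X]) ^ a j := by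
  rw [Pa, Nat.sub_self, pow_zero, one_mul]

theorem Pa_eq_mul {r n : ℕ} (a : ↥(Idx F r) → ℕ) :
    Pa F r n a = (∏ j : ↥(Idx F r), (j : F[X]) ^ a j) * (X - 1) ^ (n - orderOf ((Fintype.card F : ℕ) : ZMod r) * ∑ j, a j) := by
  rw [Pa, mul_comm]

theorem even_dim {r : ℕ} [hrp : Fact r.Prime] (hr2 : r ≠ 2) (hrF : (r : F) ≠ 0) (hr0 : r ≠ 0) {a : ↥(Idx F r) → ℕ}
    (hinv : a ∘ dl (σ := RingHom.id F) (fun x => rfl) rfl hrF hr0 = a) :
    Even (orderOf ((Fintype.card F : ℕ) : ZMod r) * ∑ j, a j) := by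
  have hr : r.Prime := Fact.out
  have hrodd : r % 2 = 1 := (hr.eq_two_or_odd).resolve_left hr2
  by_contra hodd
  rw [Nat.not_even_iff_odd] at hodd
  have hs : orderOf ((Fintype.card F : ℕ) : ZMod r) * ∑ j, a j ≤ orderOf ((Fintype.card F : ℕ) : ZMod r) * ∑ j, a j := le_rfl
  have hm : (Pa F r _ a).Monic := Pa_monic (n := orderOf ((Fintype.card F : ℕ) : ZMod r) * ∑ j, a j) hr0
  have hd := Pa_natDegree (a := a) hrF hs
  have hsupp : ∀ g : F[X], Irreducible g → g ∣ Pa F r (orderOf ((Fintype.card F : ℕ) : ZMod r) * ∑ j, a j) a → g ∣ X ^ r - 1 :=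
    fun g hg hgd => Pa_dvd hr0 hg hgd
  have h0 := coeff_zero_of_supp hr0 hm hsupp
  have hfix : Dl (RingHom.id F) (Pa F r (orderOf ((Fintype.card F : ℕ) : ZMod r) * ∑ j, a j) a) = Pa F r (orderOf ((Fintype.card F : ℕ) : ZMod r) * ∑ j, a j) a := by
    rw [Dl_Pa (σ := RingHom.id F) (fun x => rfl) rfl hrF hr0, hinv]
  obtain ⟨h2, hrev⟩ := dual_facts hm h0 hfix
  rw [← hd] at hodd
  have h3 := eval_of_odd h2 hrev hodd
  obtain ⟨c, hc⟩ : ∃ c, c = -(Pa F r (orderOf ((Fintype.card F : ℕ) : ZMod r) * ∑ j, a j) a).coeff 0 := ⟨_, rfl⟩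
  rw [← hc] at h3
  have hcc : c * c = 1 := by rw [hc, neg_mul_neg, h2]
  have h4 : X - C c ∣ X ^ r - 1 := hsupp _ (irreducible_X_sub_C c) (dvd_iff_isRoot.2 h3)
  have h5 : c ^ r = 1 := by
    have h6 := dvd_iff_isRoot.1 h4
    simp only [IsRoot, eval_sub, eval_pow, eval_X, eval_one] at h6
    exact sub_eq_zero.1 h6
  have h7 : c = 1 := by
    obtain ⟨k, hk⟩ : ∃ k, r = 2 * k + 1 := ⟨r / 2, by omega⟩
    rw [hk, pow_succ, pow_mul, pow_two, hcc, one_pow, one_mul] at h5
    exact h5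
  rw [h7, Pa_top] at h3
  exact eval_prod_ne hrF hr0 a h3

end classes

section main

variable {F : Type u} [Field F] [Fintype F] {p : ℕ} [Fact p.Prime] [CharP F p] {ι : Type} [Fintype ι] [DecidableEq ι]

theorem exists_model (p : ℕ) [Fact p.Prime] [CharP F p] {r : ℕ} [hrp : Fact r.Prime] (hr2 : r ≠ 2) (hrF : (r : F) ≠ 0) (hr0 : r ≠ 0) {a : ↥(Idx F r) → ℕ}
    (hinv : a ∘ dl (σ := RingHom.id F) (fun x => rfl) rfl hrF hr0 = a) :
    ∃ (U : Type u) (_ : AddCommGroup U) (_ : Module F U) (_ : FiniteDimensional F U) (QU : QuadraticForm F U) (T : U →ₗ[F] U),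
      ND QU ∧ (∀ x, QU (T x) = QU x) ∧ T ^ r = 1 ∧ (∀ x, T x = x → x = 0) ∧ T.charpoly = ∏ j : ↥(Idx F r), (j : F[X]) ^ a j := by
  have hr : r.Prime := Fact.out
  have hrodd : r % 2 = 1 := (hr.eq_two_or_odd).resolve_left hr2
  have hs : orderOf ((Fintype.card F : ℕ) : ZMod r) * ∑ j, a j ≤ orderOf ((Fintype.card F : ℕ) : ZMod r) * ∑ j, a j := le_rfl
  have hm : (Pa F r _ a).Monic := Pa_monic (n := orderOf ((Fintype.card F : ℕ) : ZMod r) * ∑ j, a j) hr0
  have hfix : Dl (RingHom.id F) (Pa F r (orderOf ((Fintype.card F : ℕ) : ZMod r) * ∑ j, a j) a) = Pa F r (orderOf ((Fintype.card F : ℕ) : ZMod r) * ∑ j, a j) a := by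
    rw [Dl_Pa (σ := RingHom.id F) (fun x => rfl) rfl hrF hr0, hinv]
  have hsup : ∀ j : F[X], j.Monic → Irreducible j → j ∣ Pa F r (orderOf ((Fintype.card F : ℕ) : ZMod r) * ∑ j, a j) a → j ∈ Idx F r := by
    intro j hjm hji hjd
    rcases eq_or_mem hr0 hjm hji (Pa_dvd hr0 hji hjd) with h | h
    · exfalso
      rw [h, Pa_top] at hjd
      apply eval_prod_ne hrF hr0 a
      have h1 : X - C (1 : F) ∣ ∏ j : ↥(Idx F r), (j : F[X]) ^ a j := by
        rw [C_1]
        exact hjd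
      exact dvd_iff_isRoot.1 h1
    · exact h
  obtain ⟨U, _, _, _, QU, T, k, hN, hI, hk, hc, hch⟩ := Rq_of_dual p hr0 hrodd hrF _ _ rfl hm hfix hsup
  rw [Pa_top] at hch
  refine ⟨U, inferInstance, inferInstance, inferInstance, QU, T, hN, hI, ?_, ?_, hch⟩
  · classical
    have hMk : (LinearMap.toMatrix (Module.finBasis F U) (Module.finBasis F U) T) ^ k = 1 := by
      have h1 := congrArg (LinearMap.toMatrixAlgEquiv (Module.finBasis F U)) hk
      rw [map_pow, map_one] at h1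
      exact h1
    have hMc : (LinearMap.toMatrix (Module.finBasis F U) (Module.finBasis F U) T).charpoly = T.charpoly :=
      LinearMap.charpoly_toMatrix T _
    have hMr := pow_eq_one_of_dvd_gen (cast_ne_of_coprime (F := F) p hc) hMk r (fun g _ hg hgd => by
      rw [hMc, hch, ← Pa_top (a := a)] at hgd
      exact Pa_dvd hr0 hg hgd)
    have h1 : LinearMap.toMatrixAlgEquiv (Module.finBasis F U) (T ^ r) = LinearMap.toMatrixAlgEquiv (Module.finBasis F U) 1 := by
      rw [map_pow, map_one]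
      exact hMr
    exact (LinearMap.toMatrixAlgEquiv (Module.finBasis F U)).injective h1
  · apply free_of_eval
    rw [hch]
    exact eval_prod_ne hrF hr0 a

theorem exists_elt (p : ℕ) [Fact p.Prime] [CharP F p] (f : (ι → F) → F) (Q : QuadraticForm F (ι → F)) (hf : ∀ v, f v = Q v)
    {r : ℕ} [hrp : Fact r.Prime] (hr2 : r ≠ 2) (hrF : (r : F) ≠ 0) (hr0 : r ≠ 0) {a : ↥(Idx F r) → ℕ} (ha : a ≠ 0)
    (hinv : a ∘ dl (σ := RingHom.id F) (fun x => rfl) rfl hrF hr0 = a)
    (hle : orderOf ((Fintype.card F : ℕ) : ZMod r) * ∑ j, a j ≤ Fintype.card ι)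
    (hemb : ∀ (U : Type u) (_ : AddCommGroup U) (_ : Module F U) (_ : FiniteDimensional F U) (QU : QuadraticForm F U) (T : U →ₗ[F] U),
      ND QU → (∀ x, QU (T x) = QU x) → T ^ r = 1 → (∀ x, T x = x → x = 0) →
        finrank F U = orderOf ((Fintype.card F : ℕ) : ZMod r) * ∑ j, a j → Emb QU Q) :
    ∃ g : ↥(Cfsg.isometryGroup F f), ((g : Matrix.GeneralLinearGroup ι F) : Matrix ι ι F).charpoly = Pa F r (Fintype.card ι) a ∧ orderOf g = r := by
  classical
  obtain ⟨U, _, _, _, QU, T, hN, hI, hk, hfree, hch⟩ := exists_model p hr2 hrF hr0 hinv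
  have hdim : finrank F U = orderOf ((Fintype.card F : ℕ) : ZMod r) * ∑ j, a j := by
    rw [← LinearMap.charpoly_natDegree T, hch, ← Pa_top (a := a)]
    exact Pa_natDegree hrF le_rfl
  obtain ⟨g₀, hg₀, hpow, hcg⟩ := exists_ext hN (hemb U inferInstance inferInstance inferInstance QU T hN hI hk hfree hdim) T hI
  rw [hdim, hch, Module.finrank_fintype_fun_eq_card, ← Pa_eq_mul] at hcg
  obtain ⟨A, hA⟩ : ∃ A : Matrix ι ι F, A = LinearMap.toMatrix' g₀ := ⟨_, rfl⟩
  have hAv : ∀ v, A.mulVec v = g₀ v := fun v => by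
    rw [hA, LinearMap.toMatrix'_mulVec]
  have hAr : A ^ r = 1 := by
    have h1 : Matrix.toLin' (A ^ r) = Matrix.toLin' (1 : Matrix ι ι F) := by
      rw [← toLin_pow, hA, Matrix.toLin'_toMatrix', hpow r hk, Matrix.toLin'_one]
      rfl
    exact Matrix.toLin'.injective h1
  have hAc : A.charpoly = Pa F r (Fintype.card ι) a := by
    rw [← Matrix.charpoly_toLin', hA, Matrix.toLin'_toMatrix', hcg]
  have hmem : Units.ofPowEqOne A r hAr hr0 ∈ Cfsg.isometryGroup F f := by
    intro u v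
    show f (A.mulVec u) = f u
    rw [hf, hf, hAv, hg₀]
  refine ⟨⟨Units.ofPowEqOne A r hAr hr0, hmem⟩, hAc, orderOf_eq_prime ?_ ?_⟩
  · apply Subtype.ext
    apply Units.ext
    exact hAr
  · intro h1
    have h2 : A = 1 := congrArg (fun x : ↥(Cfsg.isometryGroup F f) => ((x : Matrix.GeneralLinearGroup ι F) : Matrix ι ι F)) h1
    rw [h2, Matrix.charpoly_one] at hAc
    apply ha
    apply Pa_inj (n := Fintype.card ι) hrF hr0
    rw [← hAc, Pa]
    simp

/-- The conjugacy classes of elements of odd prime order. -/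
theorem classes_card (p : ℕ) [Fact p.Prime] [CharP F p] (f : (ι → F) → F) (Q : QuadraticForm F (ι → F)) (hf : ∀ v, f v = Q v)
    (hQ : (polarBilin Q).Nondegenerate) {r : ℕ} [hrp : Fact r.Prime] (hr2 : r ≠ 2) (hrF : (r : F) ≠ 0) (hr0 : r ≠ 0)
    (P : (↥(Idx F r) → ℕ) → Prop)
    (hex : ∀ a : ↥(Idx F r) → ℕ, a ≠ 0 → a ∘ dl (σ := RingHom.id F) (fun x => rfl) rfl hrF hr0 = a →
      orderOf ((Fintype.card F : ℕ) : ZMod r) * ∑ j, a j ≤ Fintype.card ι → P a →
      ∃ g : ↥(Cfsg.isometryGroup F f), ((g : Matrix.GeneralLinearGroup ι F) : Matrix ι ι F).charpoly = Pa F r (Fintype.card ι) a ∧ orderOf g = r)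
    (hP : ∀ (a : ↥(Idx F r) → ℕ) (g : ↥(Cfsg.isometryGroup F f)), orderOf g = r →
      ((g : Matrix.GeneralLinearGroup ι F) : Matrix ι ι F).charpoly = Pa F r (Fintype.card ι) a →
      orderOf ((Fintype.card F : ℕ) : ZMod r) * ∑ j, a j ≤ Fintype.card ι → P a) :
    Nat.card {C : ConjClasses ↥(Cfsg.isometryGroup F f) // ∃ g : ↥(Cfsg.isometryGroup F f), ConjClasses.mk g = C ∧ orderOf g = r} =
    Nat.card {a : ↥(Idx F r) → ℕ // a ≠ 0 ∧ a ∘ dl (σ := RingHom.id F) (fun x => rfl) rfl hrF hr0 = a ∧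
      orderOf ((Fintype.card F : ℕ) : ZMod r) * ∑ j, a j ≤ Fintype.card ι ∧ P a} := by
  classical
  have hr : r.Prime := Fact.out
  have hrodd : Odd r := hr.odd_of_ne_two hr2
  have hcop : r.Coprime p := by
    have hpp : p.Prime := Fact.out
    apply Nat.Coprime.symm
    rw [hpp.coprime_iff_not_dvd]
    intro hd
    apply hrF
    rw [← (Nat.prime_dvd_prime_iff_eq hpp hr).1 hd]
    exact CharP.cast_eq_zero F p
  symm
  have hpow : ∀ g : ↥(Cfsg.isometryGroup F f), ((g : Matrix.GeneralLinearGroup ι F) : Matrix ι ι F) ^ orderOf g = 1 := by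
    intro g
    have h1 : ((g ^ orderOf g : ↥(Cfsg.isometryGroup F f)) : Matrix.GeneralLinearGroup ι F) = 1 := by
      rw [pow_orderOf_eq_one]
      rfl
    have h2 := congrArg Units.val h1
    rw [Subgroup.coe_pow, Units.val_pow_eq_pow_val] at h2
    exact h2
  have hQg : ∀ (g : ↥(Cfsg.isometryGroup F f)) v, Q (((g : Matrix.GeneralLinearGroup ι F) : Matrix ι ι F).mulVec v) = Q v := by
    intro g v
    rw [← hf, ← hf]
    exact g.2 v v
  have hex' : ∀ a : {a : ↥(Idx F r) → ℕ // a ≠ 0 ∧ a ∘ dl (σ := RingHom.id F) (fun x => rfl) rfl hrF hr0 = a ∧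
      orderOf ((Fintype.card F : ℕ) : ZMod r) * ∑ j, a j ≤ Fintype.card ι ∧ P a},
      ∃ g : ↥(Cfsg.isometryGroup F f), ((g : Matrix.GeneralLinearGroup ι F) : Matrix ι ι F).charpoly = Pa F r (Fintype.card ι) a.1 ∧ orderOf g = r :=
    fun a => hex a.1 a.2.1 a.2.2.1 a.2.2.2.1 a.2.2.2.2
  choose elt hchar hord using hex'
  refine Nat.card_eq_of_bijective (fun a => ⟨ConjClasses.mk (elt a), elt a, rfl, hord a⟩) ⟨?_, ?_⟩
  · intro a a' h
    have h1 : ConjClasses.mk (elt a) = ConjClasses.mk (elt a') := congrArg Subtype.val h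
    rw [ConjClasses.mk_eq_mk_iff_isConj] at h1
    have h2 := (Cfsg.isometryGroup F f).subtype.map_isConj h1
    rw [isConj_iff] at h2
    obtain ⟨c, hc⟩ := h2
    apply Subtype.ext
    apply Pa_inj (n := Fintype.card ι) hrF hr0
    rw [← hchar a, ← hchar a']
    have hc' : ((elt a' : Matrix.GeneralLinearGroup ι F) : Matrix ι ι F) = c.val * ((elt a : Matrix.GeneralLinearGroup ι F) : Matrix ι ι F) * (c⁻¹).val := by
      have := congrArg Units.val hc
      exact this.symm
    rw [hc', Matrix.charpoly_mul_comm, ← mul_assoc, Units.inv_mul, one_mul]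
  · rintro ⟨C, g, rfl, hg⟩
    have hmonic := Matrix.charpoly_monic ((g : Matrix.GeneralLinearGroup ι F) : Matrix ι ι F)
    have hdeg : ((g : Matrix.GeneralLinearGroup ι F) : Matrix ι ι F).charpoly.natDegree = Fintype.card ι := Matrix.charpoly_natDegree_eq_dim _
    have hgr : ((g : Matrix.GeneralLinearGroup ι F) : Matrix ι ι F) ^ r = 1 := hg ▸ hpow g
    obtain ⟨a, ha, haeq⟩ := exists_Pa (n := Fintype.card ι) hrF hmonic hdeg
      (fun f hf hfd => dvd_of_pow_eq_one_gen hrF hgr hf hfd)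
    have ha0 : a ≠ 0 := by
      rintro rfl
      have hgone : ((g : Matrix.GeneralLinearGroup ι F) : Matrix ι ι F) ^ 1 = 1 := by
        refine pow_eq_one_of_dvd_gen hrF hgr 1 (fun f _ hf hfd => ?_)
        rw [haeq, Pa] at hfd
        simp only [Pi.zero_apply, pow_zero, Finset.prod_const_one, mul_one] at hfd
        rw [pow_one]
        exact hf.prime.dvd_of_dvd_pow hfd
      have h1 : g = 1 := by
        apply Subtype.ext
        apply Units.ext
        rw [pow_one] at hgone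
        exact hgone
      rw [h1, orderOf_one] at hg
      have := hr.one_lt
      omega
    have hdet : ((g : Matrix.GeneralLinearGroup ι F) : Matrix ι ι F).det ≠ 0 :=
      ((Matrix.isUnit_iff_isUnit_det _).mp (g : Matrix.GeneralLinearGroup ι F).isUnit).ne_zero
    have hD := dual_of_isometry Q hQ hdet (hQg g)
    rw [haeq, Dl_Pa (σ := RingHom.id F) (fun x => rfl) rfl hrF hr0] at hD
    have hinv := Pa_inj (n := Fintype.card ι) hrF hr0 hD
    refine ⟨⟨a, ha0, hinv, ha, hP a g hg haeq ha⟩, Subtype.ext ?_⟩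
    obtain ⟨a', ha'⟩ : ∃ a' : {a : ↥(Idx F r) → ℕ // a ≠ 0 ∧ a ∘ dl (σ := RingHom.id F) (fun x => rfl) rfl hrF hr0 = a ∧
      orderOf ((Fintype.card F : ℕ) : ZMod r) * ∑ j, a j ≤ Fintype.card ι ∧ P a}, a' = ⟨a, ha0, hinv, ha, hP a g hg haeq ha⟩ := ⟨_, rfl⟩
    rw [← ha']
    show ConjClasses.mk (elt a') = ConjClasses.mk g
    rw [ConjClasses.mk_eq_mk_iff_isConj]
    have hA : ((elt a' : Matrix.GeneralLinearGroup ι F) : Matrix ι ι F) ^ r = 1 := by
      have := hpow (elt a')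
      rwa [hord a'] at this
    have hc : ((elt a' : Matrix.GeneralLinearGroup ι F) : Matrix ι ι F).charpoly = ((g : Matrix.GeneralLinearGroup ι F) : Matrix ι ι F).charpoly := by
      rw [hchar, ha', haeq]
    obtain ⟨Y, hY, hYA⟩ := mat_conj_gen hrF hrF hA hgr hc
    have hYu : IsUnit Y.det := isUnit_iff_ne_zero.2 hY
    obtain ⟨φ, hφ1, hφ2⟩ := Cfsg.Agent.Lib.SemisimpleOrth.orth_conj (p := p) Q hQ (a := ((elt a' : Matrix.GeneralLinearGroup ι F) : Matrix ι ι F))
      (b := ((g : Matrix.GeneralLinearGroup ι F) : Matrix ι ι F)) (c := Y) (c' := Y⁻¹) (hQg _) (hQg _)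
      (Matrix.mul_nonsing_inv _ hYu) (Matrix.nonsing_inv_mul _ hYu) hYA hA hrodd hcop
    obtain ⟨γ, hγ⟩ : ∃ γ : Matrix ι ι F, ∀ v, γ.mulVec v = φ v :=
      ⟨LinearMap.toMatrix' φ.toLinearMap, fun v => by rw [LinearMap.toMatrix'_mulVec]; rfl⟩
    obtain ⟨γ', hγ'⟩ : ∃ γ' : Matrix ι ι F, ∀ v, γ'.mulVec v = φ.symm v :=
      ⟨LinearMap.toMatrix' φ.symm.toLinearMap, fun v => by rw [LinearMap.toMatrix'_mulVec]; rfl⟩
    have hγγ' : γ * γ' = 1 := by
      apply Matrix.mulVec_injective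
      funext w
      rw [← Matrix.mulVec_mulVec, hγ', hγ, Matrix.one_mulVec, LinearEquiv.apply_symm_apply]
    have hγ'γ : γ' * γ = 1 := mul_eq_one_comm.mp hγγ'
    have hmem : (⟨γ, γ', hγγ', hγ'γ⟩ : Matrix.GeneralLinearGroup ι F) ∈ Cfsg.isometryGroup F f := by
      intro u v
      show f (γ.mulVec u) = f u
      rw [hf, hf, hγ, hφ1]
    refine isConj_iff.mpr ⟨⟨_, hmem⟩, ?_⟩
    rw [mul_inv_eq_iff_eq_mul]
    apply Subtype.ext
    apply Units.ext
    show γ * _ = _ * γ
    apply Matrix.mulVec_injective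
    funext v
    rw [← Matrix.mulVec_mulVec, ← Matrix.mulVec_mulVec, hγ, hγ]
    exact hφ2 v

end main

end Cfsg.Agent.Lib.OrthRealize
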