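import Mathlib
import Cfsg.Agent.Lib.Co1Stage1
import Cfsg.Agent.Lib.OutCo3Abs

set_option autoImplicit false
set_option linter.unusedVariables false
set_option linter.unusedSectionVars false
set_option linter.style.haveILetI false
set_option linter.unusedSimpArgs false
set_option linter.constructorNameAsVariable false

/-!
# The outer automorphism group of the first Conway group

Automorphisms permute the stabilisers of the pairs of short vectors by `Co1Stage`. The stabiliser has no outer automorphisms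
by `OutCo2`. The subgroup of elements fixed by an automorphism which is the identity on one stabiliser contains a second
one, and the index of a point stabiliser together with the suborbit lengths give that it is everything.
-/

namespace Cfsg.Agent.Lib.OutCo1

open Finset MulAction Cfsg Cfsg.Agent.Lib.CoVec Cfsg.Agent.Lib.CoConf Cfsg.Agent.Lib.Co1W Cfsg.Agent.S0398
  Cfsg.Agent.Lib.Golay Co1G Cfsg.Agent.Lib.Co1T Cfsg.Agent.Lib.Co1Fix Cfsg.Agent.Lib.Co1Path Cfsg.Agent.Lib.Co1Stage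
  Cfsg.Agent.Lib.OutHat Cfsg.Agent.Lib.OutHS Cfsg.Agent.Lib.OutCo3Abs Cfsg.Agent.Lib.Co0Mono

/-! ### The stabilisers -/

/-- The map from the stabiliser of a vector to the stabiliser of its pair. -/
noncomputable def stabHom (v : LL) (hv : sqNorm (v : GolayPt → ℤ) = 32) : stb v →* stabilizer Gq (pr v hv) where
  toFun k := ⟨((k : Co0) : Gq), by
    rcases k with ⟨k, hk⟩
    show ((k : Co0) : Gq) • pr v hv = pr v hv
    rw [mk_smul_pair, smul_pr]
    exact pr_congr _ _ hk⟩
  map_one' := rfl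
  map_mul' a b := rfl

theorem stabHom_bij (v : LL) (hv : sqNorm (v : GolayPt → ℤ) = 32) : Function.Bijective (stabHom v hv) := by
  constructor
  · rw [injective_iff_map_eq_one]
    rintro ⟨k, hk⟩ h
    have h1 : ((k : Co0) : Gq) = 1 := congrArg Subtype.val h
    have h2 : k ∈ Zc := (QuotientGroup.eq_one_iff k).1 h1
    rcases Cfsg.Agent.Lib.Co0Frame.center_cases h2 with rfl | rfl
    · rfl
    · exfalso
      have h3 : (-v : LL) = v := hk
      exact ne_neg_self hv h3.symm
  · rintro ⟨q, hq⟩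
    obtain ⟨g, rfl⟩ := QuotientGroup.mk_surjective q
    have h1 : g • pr v hv = pr v hv := hq
    have h2 : g • v ∈ (pr v hv).1 := by
      rw [← h1]
      exact ⟨v, Or.inl rfl, rfl⟩
    rcases h2 with h2 | h2
    · exact ⟨⟨g, h2⟩, rfl⟩
    · have h3 : (negCo0 * g) ∈ stb v := by
        show (negCo0 * g) • v = v
        rw [mul_smul, h2]
        show -(-v) = v
        simp
      refine ⟨⟨negCo0 * g, h3⟩, ?_⟩
      apply Subtype.ext
      show ((negCo0 * g : Co0) : Gq) = (g : Gq)
      rw [QuotientGroup.mk_mul]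
      have : ((negCo0 : Co0) : Gq) = 1 := (QuotientGroup.eq_one_iff _).2 Cfsg.Agent.S0398.neg_center
      rw [this, one_mul]

theorem card_out_stab (x : Om1) : Nat.card (Out (stabilizer Gq x)) = 1 := by
  obtain ⟨v, hv, rfl⟩ : ∃ (v : LL) (hv : sqNorm (v : GolayPt → ℤ) = 32), x = pr v hv :=
    ⟨rp x, rp_norm x, (pr_rp x).symm⟩
  rw [← card_out_congr (MulEquiv.ofBijective _ (stabHom_bij v hv))]
  obtain ⟨g, hg⟩ := Cfsg.Agent.Lib.Co0Trans.trans32 v McLG.lv0 hv norm_v0
  have e : Nonempty (stb v ≃* stb McLG.lv0) := by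
    have e0 := conjStb g (K := stb v) (K' := stb (g • v)) (fun k => mem_stb_conj g k v)
    rw [hg] at e0
    exact ⟨e0⟩
  obtain ⟨e⟩ := e
  rw [card_out_congr e]
  exact Cfsg.Agent.Lib.OutCo2.card_out

theorem inn_of_out {L : Type} [Group L] (h : Nat.card (Out L) = 1) (β : MulAut L) : ∃ c : L, β = MulAut.conj c := by
  have h0 : Subsingleton (Out L) := (Nat.card_eq_one_iff_unique.1 h).1
  have h1 : ((β : MulAut L) : Out L) = 1 := Subsingleton.elim _ _
  obtain ⟨c, hc⟩ := (QuotientGroup.eq_one_iff β).1 h1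
  exact ⟨c, hc.symm⟩

theorem haut (x : Om1) (β : MulAut (stabilizer Gq x)) :
    ∃ c ∈ stabilizer Gq x, ∀ n : stabilizer Gq x, ((β n : stabilizer Gq x) : Gq) = c * n.1 * c⁻¹ := by
  obtain ⟨c, hc⟩ := inn_of_out (card_out_stab x) β
  refine ⟨c.1, c.2, fun n => ?_⟩
  rw [hc]
  rfl

theorem himg2 (α : MulAut Gq) (y : Om1) : ∃ y' : Om1, (stabilizer Gq y).map α.toMonoidHom = stabilizer Gq y' := by
  obtain ⟨y₀, hy₀⟩ := himg α
  obtain ⟨g, hg⟩ := MulAction.exists_smul_eq Gq x₀ y
  refine ⟨α g • y₀, ?_⟩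
  rw [← hg, stabilizer_smul_eq_stabilizer_map_conj, stabilizer_smul_eq_stabilizer_map_conj, ← hy₀,
    Subgroup.map_map, Subgroup.map_map]
  congr 1
  ext n
  simp

/-! ### The two-point stabiliser -/

/-- The stabiliser of the two points. -/
noncomputable abbrev DD : Subgroup Gq := stabilizer Gq x₀ ⊓ stabilizer Gq y₁

theorem uq_mem_D : uq ∈ DD := ⟨uq_fix, smul_y1 u_fix_v0⟩

theorem e4_mem_D : (e4 : Gq) ∈ DD := ⟨smul_x0 g1_fix, smul_y1 g1_fix_v0⟩

theorem e4_moves (fc : ℕ) (hSt : St fc) (l : LL) (hl : (l : GolayPt → ℤ) = dec fc) (hn : sqNorm (l : GolayPt → ℤ) = 32) (d : ℤ)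
    (hd : dotInt (dec (act 4 fc)) (dec fc) = d) (hd2 : d.natAbs ≠ 32) : e4 • pr l hn ≠ pr l hn := by
  intro h
  have h1 : dd1 (e4 • pr l hn) (pr l hn) = 32 := dd1_self.2 h
  have h2 : ((e4 • l : LL) : GolayPt → ℤ) = dec (act 4 fc) := by
    obtain rfl : l = ⟨dec fc, hSt.2.1⟩ := Subtype.ext hl
    exact (acts4 fc hSt).2
  rw [smul_pr, dd1_pr, h2, hl, hd] at h1
  exact hd2 h1

theorem e4_F2 : e4 • F2 ≠ F2 := e4_moves f2c St_f2 lf2 rfl hf2 0 g1_f2 (by decide)
theorem e4_F3 : e4 • F3 ≠ F3 := e4_moves f3c St_f3 lf3 rfl hf3 8 g1_f3 (by decide)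
theorem e4_F4 : e4 • F4 ≠ F4 := e4_moves f4c St_f4 lf4 rfl hf4 0 g1_f4 (by decide)
theorem e4_F6 : e4 • F6 ≠ F6 := e4_moves f6c St_f6 lf6 rfl hf6 8 g1_f6 (by decide)

theorem hfixD (z : Om1) (h : DD ≤ stabilizer Gq z) : z = x₀ ∨ z = y₁ := by
  have h1 : uE • z = z := h uq_mem_D
  have h2 : e4 • z = z := h e4_mem_D
  rcases ufix z h1 with e | e | e | e | e | e
  · exact Or.inr e
  · rw [e] at h2
    exact absurd h2 e4_F2
  · rw [e] at h2
    exact absurd h2 e4_F3
  · rw [e] at h2
    exact absurd h2 e4_F4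
  · exact Or.inl e
  · rw [e] at h2
    exact absurd h2 e4_F6

theorem y1_ne_x0 : y₁ ≠ x₀ := by
  intro h
  have h1 := dd_y1
  rw [h, dd_x0] at h1
  omega

theorem stab_ne : stabilizer Gq y₁ ≠ stabilizer Gq x₀ := by
  intro h
  have h1 : tq ∈ stabilizer Gq y₁ := by
    rw [h]
    exact tq_fix
  exact y1_ne_x0 (htfix y₁ h1)

/-- The centre of the two-point stabiliser is trivial. -/
theorem center_D (c : Gq) (hc : c ∈ DD) (hcomm : ∀ d ∈ DD, c * d = d * c) : c = 1 := by
  obtain ⟨⟨c', hc'⟩, e⟩ := (stabHom_bij ly0 norm_y0).2 ⟨c, hc.1⟩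
  have e' : ((c' : Co0) : Gq) = c := congrArg Subtype.val e
  subst e'
  have hc'' : c' • ly0 = ly0 := hc'
  have hdot : dotInt (ly0 : GolayPt → ℤ) (McLG.lv0 : GolayPt → ℤ) = -8 := by
    rw [dot_comm]
    exact dot_lv0_y0
  have hc2 : c' • McLG.lv0 = McLG.lv0 := by
    have h1 : c' • y₁ = y₁ := hc.2
    have h2 : c' • McLG.lv0 ∈ y₁.1 := by
      rw [← h1]
      exact ⟨McLG.lv0, Or.inl rfl, rfl⟩
    rcases h2 with h2 | h2
    · exact h2
    · exfalso
      have h3 := dot_smul c' ly0 McLG.lv0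
      have h4 : ((-McLG.lv0 : LL) : GolayPt → ℤ) = -(McLG.lv0 : GolayPt → ℤ) := rfl
      have h5 : c' • McLG.lv0 = -McLG.lv0 := h2
      rw [hc'', h5, hdot, h4, dot_neg_right, hdot] at h3
      omega
  haveI hS : IsSimpleGroup ↥(stb ly0 ⊓ stb McLG.lv0) := mcl_simple ly0 McLG.lv0 norm_y0 norm_v0 hdot
  have hmem : c' ∈ stb ly0 ⊓ stb McLG.lv0 := ⟨hc'', hc2⟩
  have hcen : (⟨c', hmem⟩ : ↥(stb ly0 ⊓ stb McLG.lv0)) ∈ Subgroup.center ↥(stb ly0 ⊓ stb McLG.lv0) := by
    rw [Subgroup.mem_center_iff]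
    rintro ⟨d, hd⟩
    apply Subtype.ext
    show d * c' = c' * d
    have h1 : ((d : Co0) : Gq) ∈ DD := ⟨smul_x0 hd.1, smul_y1 hd.2⟩
    have h2 : ((c' * d : Co0) : Gq) = ((d * c' : Co0) : Gq) := hcomm _ h1
    have h3 : (c' * d)⁻¹ * (d * c') ∈ Zc := QuotientGroup.eq.1 h2
    have h4 : ((c' * d)⁻¹ * (d * c')) • ly0 = ly0 := by
      have e1 : (c' * d) • ly0 = ly0 := by rw [mul_smul, show d • ly0 = ly0 from hd.1, hc'']
      have e2 : (d * c') • ly0 = ly0 := by rw [mul_smul, hc'', show d • ly0 = ly0 from hd.1]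
      rw [mul_smul, e2, inv_smul_eq_iff, e1]
    rcases Cfsg.Agent.Lib.Co0Frame.center_cases h3 with h5 | h5
    · have h6 : c' * d = d * c' := by
        have := inv_mul_eq_one.1 h5
        exact this
      exact h6.symm
    · exfalso
      rw [h5] at h4
      exact ne_neg_self norm_y0 h4.symm
  rcases IsSimpleGroup.eq_bot_or_eq_top_of_normal (Subgroup.center ↥(stb ly0 ⊓ stb McLG.lv0)) inferInstance with h | h
  · rw [h, Subgroup.mem_bot] at hcen
    have h1 : c' = 1 := congrArg Subtype.val hcen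
    rw [h1]
    rfl
  · exfalso
    have hcm : ∀ a b : ↥(stb ly0 ⊓ stb McLG.lv0), a * b = b * a := by
      intro a b
      have h1 : a ∈ Subgroup.center ↥(stb ly0 ⊓ stb McLG.lv0) := by
        rw [h]
        trivial
      exact ((Subgroup.mem_center_iff.1 h1) b).symm
    letI : CommGroup ↥(stb ly0 ⊓ stb McLG.lv0) := { (inferInstance : Group ↥(stb ly0 ⊓ stb McLG.lv0)) with mul_comm := hcm }
    have h2 := IsSimpleGroup.prime_card (α := ↥(stb ly0 ⊓ stb McLG.lv0))
    rw [card_mcl ly0 McLG.lv0 norm_y0 norm_v0 hdot] at h2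
    norm_num at h2

/-! ### Suborbit lengths -/

theorem card_sub (d : ℕ) (hd : d = 16 ∨ d = 8 ∨ d = 0) (N : ℕ)
    (hN : {s : Om1 | s ≠ x₀ ∧ fab ly0 s = d}.ncard = N) : (univ.filter (fun y : Om1 => dd1 x₀ y = d)).card = N := by
  rw [← hN, ← Set.ncard_coe_finset]
  congr 1
  ext s
  simp only [Finset.coe_filter, mem_univ, true_and, Set.mem_ofPred_eq]
  unfold x₀
  rw [fab_eq ly0 norm_y0]
  constructor
  · intro h
    refine ⟨fun e => ?_, h⟩
    rw [e, dd1_self.2 rfl] at h
    rcases hd with rfl | rfl | rfl <;> omega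
  · exact fun h => h.2

theorem card16 : (univ.filter (fun y : Om1 => dd1 x₀ y = 16)).card = 4600 := card_sub 16 (by simp) _ (ncard_sub16 ly0 norm_y0)
theorem card8 : (univ.filter (fun y : Om1 => dd1 x₀ y = 8)).card = 47104 := card_sub 8 (by simp) _ (ncard_sub8 ly0 norm_y0)
theorem card0 : (univ.filter (fun y : Om1 => dd1 x₀ y = 0)).card = 46575 := card_sub 0 (by simp) _ (ncard_sub0 ly0 norm_y0)

theorem card32 : (univ.filter (fun y : Om1 => dd1 x₀ y = 32)).card = 1 := by
  rw [Finset.card_eq_one]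
  refine ⟨x₀, ?_⟩
  ext y
  simp only [mem_filter, mem_univ, true_and, mem_singleton]
  rw [dd1_self]
  exact eq_comm

/-- A subgroup containing the point stabiliser with a further element is everything. -/
theorem maximal_stab (H : Subgroup Gq) (hM : stabilizer Gq x₀ ≤ H) (g : Gq) (hg : g ∈ H) (hmove : g • x₀ ≠ x₀) : H = ⊤ := by
  classical
  set X := orbF H x₀ with hX
  have h0 : x₀ ∈ X := self_mem_orbF H x₀
  have h1 : g • x₀ ∈ X := smul_mem_orbF hg h0
  have hlt : 1 < X.card := Finset.one_lt_card.2 ⟨_, h0, _, h1, hmove.symm⟩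
  have hmul : X.card * 42305421312000 = Nat.card H := by
    have h2 := card_orbF_mul H x₀
    rw [inf_eq_right.2 hM, card_stab_Gq] at h2
    exact h2
  have hdvd : Nat.card H ∣ 4157776806543360000 := by
    have h2 := Subgroup.card_subgroup_dvd_card H
    rw [card_Gq] at h2
    exact h2
  have hX98 : X.card ∣ 98280 := by
    rw [← hmul] at hdvd
    exact Nat.dvd_of_mul_dvd_mul_right (k := 42305421312000) (by norm_num) (by simpa using hdvd)
  have hcase : ∀ d : ℕ, (X.filter (fun y => dd1 x₀ y = d)).card = 0 ∨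
      (X.filter (fun y => dd1 x₀ y = d)).card = (univ.filter (fun y : Om1 => dd1 x₀ y = d)).card := by
    intro d
    by_cases hne : ∃ y ∈ X, dd1 x₀ y = d
    · right
      obtain ⟨y, hy, hyd⟩ := hne
      congr 1
      ext y'
      simp only [mem_filter, mem_univ, true_and]
      refine ⟨fun e => e.2, fun e => ⟨?_, e⟩⟩
      obtain ⟨k, hk1, hk2⟩ := same_orbit (x := x₀) (y := y) (x' := x₀) (y' := y') (hyd.trans e.symm)
      have hk : (k : Gq) ∈ H := hM hk1
      rw [← hk2]
      exact smul_mem_orbF hk hy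
    · left
      rw [Finset.card_eq_zero, Finset.filter_eq_empty_iff]
      intro y hy e
      exact hne ⟨y, hy, e⟩
  have hsum : X.card = (X.filter (fun y => dd1 x₀ y = 32)).card + (X.filter (fun y => dd1 x₀ y = 16)).card +
      (X.filter (fun y => dd1 x₀ y = 8)).card + (X.filter (fun y => dd1 x₀ y = 0)).card := by
    have h2 := Finset.card_eq_sum_card_fiberwise (s := X) (t := ({32, 16, 8, 0} : Finset ℕ)) (f := fun y => dd1 x₀ y)
      (by
        intro y _
        have := dd1_values x₀ y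
        simpa using this)
    rw [h2]
    rw [Finset.sum_insert (by decide), Finset.sum_insert (by decide), Finset.sum_insert (by decide), Finset.sum_singleton]
    omega
  have h32 : (X.filter (fun y => dd1 x₀ y = 32)).card = 1 := by
    rw [Finset.card_eq_one]
    refine ⟨x₀, ?_⟩
    ext y
    simp only [mem_filter, mem_singleton]
    rw [dd1_self]
    constructor
    · exact fun e => e.2.symm
    · rintro rfl
      exact ⟨h0, rfl⟩
  have hall : X.card = 98280 := by
    have a1 := hcase 16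
    have b1 := hcase 8
    have c1 := hcase 0
    rw [card16] at a1
    rw [card8] at b1
    rw [card0] at c1
    rw [h32] at hsum
    generalize (X.filter (fun y => dd1 x₀ y = 16)).card = a at a1 hsum
    generalize (X.filter (fun y => dd1 x₀ y = 8)).card = b at b1 hsum
    generalize (X.filter (fun y => dd1 x₀ y = 0)).card = c at c1 hsum
    generalize X.card = m at hsum hX98 hlt ⊢
    clear hcase h32 hmul hdvd h0 h1
    rcases a1 with rfl | rfl <;> rcases b1 with rfl | rfl <;> rcases c1 with rfl | rfl <;> subst hsum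
    all_goals omega
  have hH : Nat.card H = Nat.card Gq := by
    rw [card_Gq, ← hmul, hall]
  exact Subgroup.eq_top_of_card_eq H hH

/-! ### Rigidity -/

theorem hrigid (β : MulAut Gq) (hβ : ∀ n ∈ stabilizer Gq x₀, β n = n) : β = 1 := by
  have hmap : (stabilizer Gq x₀).map β.toMonoidHom = stabilizer Gq x₀ := by
    ext n
    constructor
    · rintro ⟨m, hm, rfl⟩
      show β m ∈ _
      rw [hβ m hm]
      exact hm
    · intro hn
      exact ⟨n, hn, hβ n hn⟩
  obtain ⟨z, hz⟩ := himg2 β y₁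
  have hDz : DD ≤ stabilizer Gq z := by
    intro g hg
    rw [← hz]
    exact ⟨g, hg.2, hβ g hg.1⟩
  have hK : (stabilizer Gq y₁).map β.toMonoidHom = stabilizer Gq y₁ := by
    rcases hfixD z hDz with e | e
    · exfalso
      rw [e, ← hmap] at hz
      exact stab_ne (Subgroup.map_injective β.injective hz)
    · rw [hz, e]
  have hmem : ∀ n : stabilizer Gq y₁, β n.1 ∈ stabilizer Gq y₁ := by
    intro n
    have h1 : β n.1 ∈ (stabilizer Gq y₁).map β.toMonoidHom := ⟨n.1, n.2, rfl⟩
    rwa [hK] at h1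
  have hmem' : ∀ n : stabilizer Gq y₁, β⁻¹ n.1 ∈ stabilizer Gq y₁ := by
    intro n
    have : n.1 ∈ (stabilizer Gq y₁).map β.toMonoidHom := by
      rw [hK]
      exact n.2
    obtain ⟨m, hm, e⟩ := this
    have e2 : β⁻¹ n.1 = m := by
      rw [← e]
      exact β.symm_apply_apply m
    rw [e2]
    exact hm
  let β' : MulAut (stabilizer Gq y₁) :=
    { toFun := fun n => ⟨β n.1, hmem n⟩
      invFun := fun n => ⟨β⁻¹ n.1, hmem' n⟩
      left_inv := fun n => Subtype.ext (β.symm_apply_apply n.1)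
      right_inv := fun n => Subtype.ext (β.apply_symm_apply n.1)
      map_mul' := fun a b => Subtype.ext (map_mul β a.1 b.1) }
  obtain ⟨c, hc, hc'⟩ := haut y₁ β'
  have hconj : ∀ n ∈ stabilizer Gq y₁, β n = c * n * c⁻¹ := fun n hn => hc' ⟨n, hn⟩
  have hcD : ∀ d ∈ DD, c * d = d * c := by
    intro d hd
    have h1 := hconj d hd.2
    rw [hβ d hd.1] at h1
    have h2 : d * c = c * d * c⁻¹ * c := by rw [← h1]
    rw [h2]
    group
  have hcx : c • x₀ = x₀ := by
    have h1 : DD ≤ stabilizer Gq (c • x₀) := by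
      intro d hd
      show d • (c • x₀) = c • x₀
      rw [← mul_smul, ← hcD d hd, mul_smul, show d • x₀ = x₀ from hd.1]
    rcases hfixD _ h1 with e | e
    · exact e
    · exfalso
      have h2 : c • y₁ = y₁ := hc
      have h3 : c • x₀ = c • y₁ := by rw [e, h2]
      exact y1_ne_x0 (smul_left_cancel c h3).symm
  have hc1 : c = 1 := center_D c ⟨hcx, hc⟩ hcD
  have hid : ∀ n ∈ stabilizer Gq y₁, β n = n := by
    intro n hn
    rw [hconj n hn, hc1]
    simp
  let H : Subgroup Gq :=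
    { carrier := {g | β g = g}
      one_mem' := map_one β
      mul_mem' := by
        intro a b ha hb
        show β (a * b) = a * b
        rw [map_mul, show β a = a from ha, show β b = b from hb]
      inv_mem' := by
        intro a ha
        show β a⁻¹ = a⁻¹
        rw [map_inv, show β a = a from ha] }
  have hHtop : H = ⊤ := by
    obtain ⟨g, hg, hmove⟩ : ∃ g ∈ stabilizer Gq y₁, g • x₀ ≠ x₀ := by
      by_contra hn
      push Not at hn
      have h1 : stabilizer Gq y₁ ≤ stabilizer Gq x₀ := fun g hg => hn g hg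
      apply stab_ne
      apply Subgroup.eq_of_le_of_card_ge h1
      rw [card_stab_Gq, card_stab_Gq]
    exact maximal_stab H (fun n hn => hβ n hn) g (hid g hg) hmove
  ext g
  have h1 : g ∈ H := by
    rw [hHtop]
    trivial
  exact h1

/-! ### The conclusion -/

theorem hinn (α : MulAut Gq) : α ∈ Inn Gq := by
  obtain ⟨y₀, hy₀⟩ := himg α
  obtain ⟨g, hg⟩ := MulAction.exists_smul_eq Gq y₀ x₀
  let α₁ : MulAut Gq := MulAut.conj g * α
  have hα₁ : (stabilizer Gq x₀).map α₁.toMonoidHom = stabilizer Gq x₀ := by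
    have e1 : α₁.toMonoidHom = (MulAut.conj g).toMonoidHom.comp α.toMonoidHom := rfl
    rw [e1, ← Subgroup.map_map, hy₀, ← hg, stabilizer_smul_eq_stabilizer_map_conj]
  have hmem : ∀ n : stabilizer Gq x₀, α₁ n.1 ∈ stabilizer Gq x₀ := by
    intro n
    have h1 : α₁ n.1 ∈ (stabilizer Gq x₀).map α₁.toMonoidHom := ⟨n.1, n.2, rfl⟩
    rwa [hα₁] at h1
  have hmem' : ∀ n : stabilizer Gq x₀, α₁⁻¹ n.1 ∈ stabilizer Gq x₀ := by
    intro n
    have : n.1 ∈ (stabilizer Gq x₀).map α₁.toMonoidHom := by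
      rw [hα₁]
      exact n.2
    obtain ⟨m, hm, e⟩ := this
    have e2 : α₁⁻¹ n.1 = m := by
      rw [← e]
      exact α₁.symm_apply_apply m
    rw [e2]
    exact hm
  let β : MulAut (stabilizer Gq x₀) :=
    { toFun := fun n => ⟨α₁ n.1, hmem n⟩
      invFun := fun n => ⟨α₁⁻¹ n.1, hmem' n⟩
      left_inv := fun n => Subtype.ext (α₁.symm_apply_apply n.1)
      right_inv := fun n => Subtype.ext (α₁.apply_symm_apply n.1)
      map_mul' := fun a b => Subtype.ext (map_mul α₁ a.1 b.1) }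
  obtain ⟨c, -, hc⟩ := haut x₀ β
  let α₂ : MulAut Gq := MulAut.conj c⁻¹ * α₁
  have hα₂ : α₂ = 1 := by
    apply hrigid
    intro n hn
    have h1 := hc ⟨n, hn⟩
    have h2 : α₁ n = c * n * c⁻¹ := h1
    show (MulAut.conj c⁻¹) (α₁ n) = n
    rw [h2, MulAut.conj_apply]
    group
  have h3 : α = MulAut.conj (g⁻¹ * c) := by
    have h4 : MulAut.conj c⁻¹ * (MulAut.conj g * α) = 1 := hα₂
    rw [← mul_assoc] at h4
    have h5 := eq_inv_of_mul_eq_one_right h4
    rw [h5, ← map_mul, ← map_inv]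
    simp
  rw [h3]
  exact ⟨_, rfl⟩

theorem card_out : Nat.card (Out Gq) = 1 := by
  rw [Nat.card_eq_one_iff_unique]
  refine ⟨⟨?_⟩, ⟨1⟩⟩
  intro a b
  induction a using QuotientGroup.induction_on with
  | H a =>
    induction b using QuotientGroup.induction_on with
    | H b =>
      rw [(QuotientGroup.eq_one_iff a).2 (hinn a), (QuotientGroup.eq_one_iff b).2 (hinn b)]

end Cfsg.Agent.Lib.OutCo1
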