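import Mathlib
import Cfsg.Agent.Lib.McLConc
import Cfsg.Agent.Lib.OutCo3Abs
import Cfsg.Agent.Lib.CoSimple2

set_option autoImplicit false
set_option linter.unusedVariables false
set_option linter.unusedSimpArgs false
set_option linter.style.haveILetI false
set_option linter.unusedSectionVars false

/-!
# The outer automorphism group of Conway's third group is trivial

The group acts on the 552 vectors of squared length 32 and inner product 24 with a vector of squared
length 48; the stabilisers are McLaughlin groups.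
-/

namespace Cfsg.Agent.Lib.OutCo3

open Finset MulAction Cfsg Cfsg.Agent.Lib.CoConf Cfsg.Agent.Lib.CoVec Cfsg.Agent.Lib.OutMcL Cfsg.Agent.Lib.OutHat
  Cfsg.Agent.Lib.OutHS Cfsg.Agent.Lib.McLConc Cfsg.Agent.Lib.OutCo3Abs

noncomputable abbrev A₂ : List (LL × ℤ) := [(u, 24)]

noncomputable abbrev G : Subgroup Co0 := stb u

theorem hG1 : ∀ k ∈ G, ∀ p ∈ A₂, k • p.1 = p.1 := by
  intro k hk p hp
  simp only [List.mem_singleton] at hp
  subst hp
  exact hk

noncomputable instance instAct₂ : MulAction G (DS A₂) := dsAct hG1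

noncomputable instance instFin₂ : Fintype (DS A₂) :=
  haveI : Finite (DS A₂) := (finite_DS A₂).to_subtype
  Fintype.ofFinite _

instance instFinG : Finite G :=
  haveI := finite_Co0'
  inferInstance

theorem smul_val₂ (k : G) (x : DS A₂) : ((k • x : DS A₂) : LL) = (k : Co0) • (x : LL) := rfl

theorem mem_A₂ {y : LL} : y ∈ DS A₂ ↔ sqNorm (y : GolayPt → ℤ) = 32 ∧ dotInt (u : GolayPt → ℤ) (y : GolayPt → ℤ) = 24 := by
  constructor
  · intro h
    exact ⟨h.1, h.2 (u, 24) (by simp)⟩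
  · rintro ⟨h1, h2⟩
    refine ⟨h1, ?_⟩
    intro p hp
    simp only [List.mem_singleton] at hp
    subst hp
    exact h2

theorem phi_mem {y : LL} (hy : y ∈ DS A₂) : u - y ∈ DS A₂ := by
  obtain ⟨h1, h2⟩ := mem_A₂.1 hy
  refine mem_A₂.2 ⟨?_, ?_⟩
  · show sqNorm ((u : GolayPt → ℤ) - (y : GolayPt → ℤ)) = 32
    rw [norm_sub, hu, h1, h2]
    norm_num
  · show dotInt (u : GolayPt → ℤ) ((u : GolayPt → ℤ) - (y : GolayPt → ℤ)) = 24
    rw [dot_sub_right, h2, dot_self, hu]
    norm_num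

/-- The pairing of the points. -/
noncomputable def Φ (y : DS A₂) : DS A₂ := ⟨u - y.1, phi_mem y.2⟩

theorem Φ_val (y : DS A₂) : (Φ y : LL) = u - y.1 := rfl

theorem Φ_inv (y : DS A₂) : Φ (Φ y) = y := Subtype.ext (sub_sub_cancel u y.1)

theorem Φ_ne (y : DS A₂) : Φ y ≠ y := by
  intro e
  have h1 : u - y.1 = y.1 := congrArg Subtype.val e
  obtain ⟨h2, h3⟩ := mem_A₂.1 y.2
  have h4 : dotInt (y.1 : GolayPt → ℤ) ((u : GolayPt → ℤ) - (y.1 : GolayPt → ℤ)) = dotInt (y.1 : GolayPt → ℤ) (y.1 : GolayPt → ℤ) := by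
    have : (u : GolayPt → ℤ) - (y.1 : GolayPt → ℤ) = (y.1 : GolayPt → ℤ) := congrArg Subtype.val h1
    rw [this]
  rw [dot_sub_right, dot_comm, h3, dot_self, h2] at h4
  norm_num at h4

theorem Φ_comm (g : G) (y : DS A₂) : g • Φ y = Φ (g • y) := by
  apply Subtype.ext
  show (g : Co0) • (u - y.1) = u - (g : Co0) • y.1
  have hgu : (g : Co0) • u = u := g.2
  rw [smul_sub', hgu]

theorem trans₂ (x y : DS A₂) : ∃ k : G, k • x = y := by
  obtain ⟨h1, h2⟩ := mem_A₂.1 x.2
  obtain ⟨h3, h4⟩ := mem_A₂.1 y.2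
  obtain ⟨g₁, a1, a2⟩ := std_move u x.1 hu h1 h2
  obtain ⟨g₂, b1, b2⟩ := std_move u y.1 hu h3 h4
  have hk : g₂⁻¹ * g₁ ∈ G := by
    show (g₂⁻¹ * g₁) • u = u
    rw [mul_smul, a1, ← b1, inv_smul_smul]
  refine ⟨⟨_, hk⟩, Subtype.ext ?_⟩
  show (g₂⁻¹ * g₁) • x.1 = y.1
  rw [mul_smul, a2, ← b2, inv_smul_smul]

instance instPre₂ : IsPretransitive G (DS A₂) := ⟨trans₂⟩

theorem hsimple : IsSimpleGroup G := co3_simple u hu

/-- The stabiliser of a point. -/
noncomputable def stabE (y : DS A₂) : stabilizer G y ≃* ↥(stb y.1 ⊓ stb (u - y.1)) where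
  toFun n := ⟨n.1.1, congrArg Subtype.val n.2, by
    show n.1.1 • (u - y.1) = u - y.1
    have h1 : n.1.1 • y.1 = y.1 := congrArg Subtype.val n.2
    have h2 : n.1.1 • u = u := n.1.2
    rw [smul_sub', h1, h2]⟩
  invFun k := ⟨⟨k.1, by
    show k.1 • u = u
    have h1 : k.1 • y.1 = y.1 := k.2.1
    have h2 : k.1 • (u - y.1) = u - y.1 := k.2.2
    have e : (u - y.1) + y.1 = u := sub_add_cancel _ _
    calc k.1 • u = k.1 • ((u - y.1) + y.1) := by rw [e]
      _ = (u - y.1) + y.1 := by rw [smul_add', h1, h2]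
      _ = u := e⟩, Subtype.ext k.2.1⟩
  left_inv n := rfl
  right_inv k := rfl
  map_mul' a b := rfl

theorem norm_phi (y : DS A₂) : sqNorm ((u - y.1 : LL) : GolayPt → ℤ) = 32 := (phi_mem y.2).1

theorem dot_phi (y : DS A₂) : dotInt (y.1 : GolayPt → ℤ) ((u - y.1 : LL) : GolayPt → ℤ) = -8 := by
  obtain ⟨h1, h2⟩ := mem_A₂.1 y.2
  show dotInt (y.1 : GolayPt → ℤ) ((u : GolayPt → ℤ) - (y.1 : GolayPt → ℤ)) = -8
  rw [dot_sub_right, dot_comm, h2, dot_self, h1]
  norm_num

theorem card_stab₂ (y : DS A₂) : Nat.card (stabilizer G y) = 898128000 := by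
  rw [Nat.card_congr (stabE y).toEquiv]
  exact card_mcl _ _ (mem_A₂.1 y.2).1 (norm_phi y) (dot_phi y)

theorem card_G : Nat.card G = 495766656000 := card_stb48 u hu

theorem card_Om₂ : Fintype.card (DS A₂) = 552 := by
  obtain ⟨x⟩ : Nonempty (DS A₂) := ⟨⟨v, mem_A₂.2 ⟨hv, huv⟩⟩⟩
  have h1 := Subgroup.card_mul_index (stabilizer G x)
  have h2 : orbit G x = Set.univ := by
    ext y
    simp only [Set.mem_univ, iff_true]
    obtain ⟨k, hk⟩ := trans₂ x y
    exact ⟨k, hk⟩
  rw [index_stabilizer, h2, Set.ncard_univ, Nat.card_eq_fintype_card (α := DS A₂), card_stab₂, card_G] at h1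
  omega

/-- The base point. -/
noncomputable def x₀ : DS A₂ := ⟨v, mem_A₂.2 ⟨hv, huv⟩⟩

theorem ncard_A₂ : (DS A₂).ncard = 552 := by
  rw [← Nat.card_coe_set_eq, Nat.card_eq_fintype_card, card_Om₂]

/-- The inner products with the base point. -/
theorem dots {y : LL} (hy : y ∈ DS A₂) : y = v ∨ y = u - v ∨ dotInt (v : GolayPt → ℤ) (y : GolayPt → ℤ) = 16 ∨
    dotInt (v : GolayPt → ℤ) (y : GolayPt → ℤ) = 8 := by
  have hvm : v ∈ DS [(v, (32 : ℤ)), (u, 24)] :=
    mem_DS_cons.2 ⟨x₀.2, (dot_self _).trans hv⟩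
  have hwm : u - v ∈ DS [(v, (-8 : ℤ)), (u, 24)] := by
    refine mem_DS_cons.2 ⟨phi_mem x₀.2, ?_⟩
    have := dot_phi x₀
    exact this
  have h := partition A₂ v ({32, 16, 8, -8} : Finset ℤ)
    (fun d => if d = 32 then 1 else if d = 16 then 275 else if d = 8 then 275 else 1) (by
      intro d hd
      simp only [Finset.mem_insert, Finset.mem_singleton] at hd
      rcases hd with rfl | rfl | rfl | rfl
      · exact one_le_of_mem hvm
      · exact parts_std.1.ge
      · exact parts_std.2.ge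
      · exact one_le_of_mem hwm) (by
      rw [ncard_A₂]
      decide)
  have h1 := h.2 y hy
  simp only [Finset.mem_insert, Finset.mem_singleton] at h1
  rcases h1 with e | e | e | e
  · left
    have h2 := h.1 32 (by decide)
    have h3 := fibre32_eq (a := v) x₀.2 (by simpa using h2)
    have h4 : y ∈ DS [(v, (32 : ℤ)), (u, 24)] := mem_DS_cons.2 ⟨hy, e⟩
    rw [h3] at h4
    exact h4
  · exact Or.inr (Or.inr (Or.inl e))
  · exact Or.inr (Or.inr (Or.inr e))
  · right
    left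
    have h2 := h.1 (-8) (by decide)
    have h3 : (DS [(v, (-8 : ℤ)), (u, 24)]).ncard = 1 := by simpa using h2
    obtain ⟨b, hb⟩ := Set.ncard_eq_one.1 h3
    have h4 : y ∈ DS [(v, (-8 : ℤ)), (u, 24)] := mem_DS_cons.2 ⟨hy, e⟩
    rw [hb] at h4 hwm
    exact h4.trans hwm.symm

/-- Points other than the two base ones are related to a point of the 275. -/
theorem to_A (y : DS A₂) (h1 : y ≠ x₀) (h2 : y ≠ Φ x₀) : ∃ y₁ : DS A, y₁.1 = y.1 ∨ y₁.1 = u - y.1 := by
  obtain ⟨a1, a2⟩ := mem_A₂.1 y.2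
  rcases dots y.2 with e | e | e | e
  · exact absurd (Subtype.ext e) h1
  · exact absurd (Subtype.ext e) h2
  · refine ⟨⟨y.1, ?_⟩, Or.inl rfl⟩
    refine ⟨a1, ?_⟩
    intro p hp
    simp only [List.mem_cons, List.not_mem_nil, or_false] at hp
    rcases hp with rfl | rfl
    · exact e
    · exact a2
  · refine ⟨⟨u - y.1, ?_⟩, Or.inr rfl⟩
    refine ⟨norm_phi y, ?_⟩
    intro p hp
    simp only [List.mem_cons, List.not_mem_nil, or_false] at hp
    rcases hp with rfl | rfl
    · show dotInt (v : GolayPt → ℤ) ((u : GolayPt → ℤ) - (y.1 : GolayPt → ℤ)) = 16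
      rw [dot_sub_right, e, dot_comm, huv]
      norm_num
    · exact (phi_mem y.2).2 (u, 24) (by simp)

theorem stabΦ₂ (y : DS A₂) : stabilizer G (Φ y) = stabilizer G y := by
  ext g
  constructor
  · intro hg
    have h1 : g • Φ y = Φ y := hg
    rw [Φ_comm] at h1
    have h2 := congrArg Φ h1
    rw [Φ_inv, Φ_inv] at h2
    exact h2
  · intro hg
    have h1 : g • y = y := hg
    show g • Φ y = Φ y
    rw [Φ_comm, h1]

/-- The inclusion of the McLaughlin group. -/
def ι (k : K) : G := ⟨k.1, fix_u k⟩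

theorem ι_fix_x₀ (k : K) : ι k • x₀ = x₀ := Subtype.ext k.2.1

/-- The stabiliser of the base point is the McLaughlin group. -/
noncomputable def eN : stabilizer G x₀ ≃* K where
  toFun n := ⟨n.1.1, congrArg Subtype.val n.2, by
    show n.1.1 • w = w
    have h1 : n.1.1 • v = v := congrArg Subtype.val n.2
    have h2 : n.1.1 • u = u := n.1.2
    have e : w = u - v := by
      rw [← e_uvw]
      abel
    rw [e, smul_sub', h1, h2]⟩
  invFun k := ⟨ι k, ι_fix_x₀ k⟩
  left_inv n := rfl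
  right_inv k := rfl
  map_mul' a b := rfl

theorem eN_val (n : stabilizer G x₀) : ((eN n : K) : Co0) = n.1.1 := rfl

/-- Pair stabilisers at the base point. -/
theorem ps_base (z : DS A) : ps G x₀ (⟨z.1, mem_A₂.2 ⟨z.2.1, z.2.2 (u, 24) (by simp)⟩⟩ : DS A₂) = 3265920 := by
  rw [← card_stab z]
  unfold ps
  apply Nat.card_congr
  exact
    { toFun := fun m => ⟨⟨m.1.1, (congrArg Subtype.val m.2.1 : m.1.1 • v = v), by
          show m.1.1 • w = w
          have h1 : m.1.1 • v = v := congrArg Subtype.val m.2.1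
          have h2 : m.1.1 • u = u := m.1.2
          have e : w = u - v := by
            rw [← e_uvw]
            abel
          rw [e, smul_sub', h1, h2]⟩, by
          have h1 := mem_stabilizer_iff.1 m.2.2
          refine mem_stabilizer_iff.2 (Subtype.ext ?_)
          have h2 := congrArg Subtype.val h1
          exact h2⟩
      invFun := fun m => ⟨ι m.1, ι_fix_x₀ m.1, by
        have h : m.1 • z = z := m.2
        refine mem_stabilizer_iff.2 (Subtype.ext ?_)
        have h2 := congrArg Subtype.val h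
        exact h2⟩
      left_inv := fun m => rfl
      right_inv := fun m => rfl }

theorem ps_x₀ (z : DS A₂) (h1 : z ≠ x₀) (h2 : z ≠ Φ x₀) : ps G x₀ z = 3265920 := by
  obtain ⟨z₁, h | h⟩ := to_A z h1 h2
  · have e : z = ⟨z₁.1, mem_A₂.2 ⟨z₁.2.1, z₁.2.2 (u, 24) (by simp)⟩⟩ := Subtype.ext h.symm
    rw [e]
    exact ps_base z₁
  · have e : Φ z = ⟨z₁.1, mem_A₂.2 ⟨z₁.2.1, z₁.2.2 (u, 24) (by simp)⟩⟩ := Subtype.ext h.symm
    have h3 := ps_base z₁
    rw [← e] at h3
    unfold ps at h3 ⊢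
    rwa [stabΦ₂] at h3

theorem data3 : Data3 G Φ where
  card := card_Om₂
  inv := Φ_inv
  ne := Φ_ne
  comm := Φ_comm
  stab := card_stab₂
  pstab := by
    intro y z h1 h2
    obtain ⟨g, hg⟩ := trans₂ y x₀
    have h3 := card_pair_smul g y z
    have h4 : g • z ≠ x₀ := by
      rw [← hg]
      exact fun e => h1 (MulAction.injective g e)
    have h5 : g • z ≠ Φ x₀ := by
      rw [← hg, ← Φ_comm]
      exact fun e => h2 (MulAction.injective g e)
    have h6 := ps_x₀ (g • z) h4 h5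
    rw [← hg] at h6
    unfold ps at h6 ⊢
    rw [← h3]
    exact h6

/-! ### Subgroups of the stabiliser -/

theorem hno_sub (H : Subgroup G) (hH : H ≤ stabilizer G x₀) :
    Nat.card H ≠ 449064000 ∧ Nat.card H ≠ 5103000 ∧ Nat.card H ≠ 2551500 := by
  let H' : Subgroup K := (H.subgroupOf (stabilizer G x₀)).map eN.toMonoidHom
  have hc : Nat.card H' = Nat.card H := by
    rw [← Nat.card_congr (Subgroup.equivMapOfInjective _ _ eN.injective).toEquiv]
    exact Nat.card_congr (Subgroup.subgroupOfEquivOfLe hH).toEquiv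
  refine ⟨?_, ?_, ?_⟩
  · intro h
    rw [← hc] at h
    haveI := mcl_simple v w hv hw hvw
    have hi : H'.index = 2 := by
      have h1 := Subgroup.card_mul_index H'
      rw [h, card_K] at h1
      omega
    haveI hn : H'.Normal := Subgroup.normal_of_index_eq_two hi
    rcases IsSimpleGroup.eq_bot_or_eq_top_of_normal H' hn with e | e
    · rw [e] at h
      simp at h
    · rw [e, Subgroup.index_top] at hi
      omega
  · intro h
    rw [← hc] at h
    exact no_big data H' (by rw [h]; norm_num) (by rw [h]; norm_num) (by rw [h]; norm_num) (by rw [h]; norm_num)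
  · intro h
    rw [← hc] at h
    exact no_big data H' (by rw [h]; norm_num) (by rw [h]; norm_num) (by rw [h]; norm_num) (by rw [h]; norm_num)

/-! ### Automorphisms of the stabiliser -/

section Aut

variable (g₀ : Co0) (hg1 : g₀ • v = w) (hg2 : g₀ • w = v)

include hg1 hg2

/-- Conjugation by the element interchanging the two vectors. -/
noncomputable def γ : MulAut K where
  toFun k := ⟨g₀ * k.1 * g₀⁻¹, conj_mem g₀ hg1 hg2 k⟩
  invFun k := ⟨g₀⁻¹ * k.1 * g₀, by
    have h := conj_mem g₀⁻¹ (swap_inv g₀ hg1 hg2).1 (swap_inv g₀ hg1 hg2).2 k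
    rwa [inv_inv] at h⟩
  left_inv k := Subtype.ext (by simp [mul_assoc])
  right_inv k := Subtype.ext (by simp [mul_assoc])
  map_mul' a b := Subtype.ext (by simp [mul_assoc])

theorem γ_not : γ g₀ hg1 hg2 ∉ Inn K := by
  rintro ⟨k₀, hk₀⟩
  apply T_not g₀ hg1 hg2 k₀
  have hH := hatData data
  ext1 x
  by_contra hne
  have hne' : k₀ • x ≠ T g₀ hg1 hg2 x := fun e => hne e.symm
  obtain ⟨h, hh, hh'⟩ := hH.uniq (k₀ • x) (T g₀ hg1 hg2 x) hne'
  apply hh'
  have e1 : k₀⁻¹ * h * k₀ ∈ stabilizer K x := by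
    show (k₀⁻¹ * h * k₀) • x = x
    rw [mul_smul, mul_smul, show h • k₀ • x = k₀ • x from hh, inv_smul_smul]
  let k := k₀⁻¹ * h * k₀
  have e2 : γ g₀ hg1 hg2 k = h := by
    rw [← hk₀]
    simp [k, MulAut.conj_apply, mul_assoc]
  have e3 : (g₀ * k.1 * g₀⁻¹) = h.1 := congrArg Subtype.val e2
  apply Subtype.ext
  show h.1 • (u - g₀ • x.1) = u - g₀ • x.1
  rw [smul_sub', fix_u, ← e3, mul_smul, mul_smul, inv_smul_smul]
  have e4 : k.1 • x.1 = x.1 := congrArg Subtype.val e1
  rw [e4]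

/-- Every automorphism of the McLaughlin group comes from the group `G`. -/
theorem aut_K (β : MulAut K) : ∃ c : Co0, c • u = u ∧ ∀ k : K, ((β k : K) : Co0) = c * k.1 * c⁻¹ := by
  have hgu := u_smul g₀ hg1 hg2
  have hcard : Nat.card (Out K) = 2 := card_out
  obtain ⟨x, y, hxy, hU⟩ := Nat.card_eq_two_iff.1 hcard
  have hall : ∀ a : Out K, a = x ∨ a = y := by
    intro a
    have : a ∈ ({x, y} : Set (Out K)) := by
      rw [hU]
      trivial
    simpa using this
  let qβ : Out K := QuotientGroup.mk β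
  let qγ : Out K := QuotientGroup.mk (γ g₀ hg1 hg2)
  have hne : (1 : Out K) ≠ qγ := by
    intro e
    exact γ_not g₀ hg1 hg2 ((QuotientGroup.eq_one_iff _).1 e.symm)
  have hcase : qβ = 1 ∨ qβ = qγ := by
    rcases hall 1 with e1 | e1 <;> rcases hall qγ with e2 | e2 <;> rcases hall qβ with e3 | e3
    all_goals
      first
      | exact Or.inl (e3.trans e1.symm)
      | exact Or.inr (e3.trans e2.symm)
      | exact absurd (e1.trans e2.symm) hne
  rcases hcase with h | h
  · obtain ⟨k₀, hk₀⟩ := (QuotientGroup.eq_one_iff β).1 h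
    refine ⟨k₀.1, fix_u k₀, fun k => ?_⟩
    rw [← hk₀]
    rfl
  · have h1 : (γ g₀ hg1 hg2)⁻¹ * β ∈ Inn K := QuotientGroup.eq.1 h.symm
    obtain ⟨k₀, hk₀⟩ := h1
    refine ⟨g₀ * k₀.1, ?_, fun k => ?_⟩
    · rw [mul_smul, fix_u, hgu]
    · have e : β = γ g₀ hg1 hg2 * MulAut.conj k₀ := by
        rw [hk₀, mul_inv_cancel_left]
      rw [e]
      show g₀ * (k₀ * k * k₀⁻¹).1 * g₀⁻¹ = _
      simp [mul_assoc]

end Aut

theorem haut₂ (β : MulAut (stabilizer G x₀)) :
    ∃ c : G, ∀ n : stabilizer G x₀, ((β n : stabilizer G x₀) : G) = c * n.1 * c⁻¹ := by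
  obtain ⟨g₀, hg1, hg2⟩ := Cfsg.Agent.Lib.Co0Pair.pairM8 hv hw hw hv hvw (by rw [dot_comm]; exact hvw)
  let β' : MulAut K := eN.symm.trans (β.trans eN)
  obtain ⟨c, hc, hc'⟩ := aut_K g₀ hg1 hg2 β'
  refine ⟨⟨c, hc⟩, fun n => ?_⟩
  apply Subtype.ext
  have h1 := hc' (eN n)
  have h2 : ((β' (eN n) : K) : Co0) = (β n).1.1 := by
    show ((eN (β (eN.symm (eN n))) : K) : Co0) = _
    rw [MulEquiv.symm_apply_apply]
    rfl
  rw [h2] at h1
  exact h1

theorem hfix₂ (y z : DS A₂) (h1 : y ≠ x₀) (h2 : y ≠ Φ x₀)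
    (h3 : stabilizer G x₀ ⊓ stabilizer G y ≤ stabilizer G z) : z = x₀ ∨ z = Φ x₀ ∨ z = y ∨ z = Φ y := by
  by_cases h4 : z = x₀
  · exact Or.inl h4
  by_cases h5 : z = Φ x₀
  · exact Or.inr (Or.inl h5)
  right
  right
  obtain ⟨y₁, hy₁⟩ := to_A y h1 h2
  obtain ⟨z₁, hz₁⟩ := to_A z h4 h5
  by_cases hyz : y₁ = z₁
  · subst hyz
    rcases hy₁ with e1 | e1 <;> rcases hz₁ with e2 | e2
    · left
      exact Subtype.ext (e2.symm.trans e1)
    · right
      apply Subtype.ext
      show z.1 = u - y.1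
      rw [← e1, e2, sub_sub_cancel]
    · right
      apply Subtype.ext
      show z.1 = u - y.1
      rw [← e2, e1]
    · left
      apply Subtype.ext
      have : u - z.1 = u - y.1 := e2.symm.trans e1
      exact sub_right_injective this
  · exfalso
    obtain ⟨k, hk, hk'⟩ := (hatData data).uniq y₁ z₁ hyz
    have hkv : k.1 • y₁.1 = y₁.1 := congrArg Subtype.val hk
    have hku := fix_u k
    have hm : ι k ∈ stabilizer G x₀ ⊓ stabilizer G y := by
      refine ⟨ι_fix_x₀ k, Subtype.ext ?_⟩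
      show k.1 • y.1 = y.1
      rcases hy₁ with e | e
      · rw [← e]
        exact hkv
      · have e2 : y.1 = u - y₁.1 := by
          rw [e, sub_sub_cancel]
        rw [e2, smul_sub', hku, hkv]
    have h6 : k.1 • z.1 = z.1 := congrArg Subtype.val (h3 hm)
    apply hk'
    apply Subtype.ext
    show k.1 • z₁.1 = z₁.1
    rcases hz₁ with e | e
    · rw [e]
      exact h6
    · rw [e, smul_sub', hku, h6]

theorem card_out₂ : Nat.card (Out G) = 1 := by
  haveI := hsimple
  exact out_trivial G data3 x₀ hno_sub haut₂ hfix₂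

/-! ### The group of the statement -/

theorem lu0_eq : McLG.lu0 = -Spor.leechV := by
  apply Subtype.ext
  funext p
  show dec McLG.u0 p = -(Spor.vecV p)
  revert p
  decide +kernel

/-- Conway's third group as a stabiliser. -/
def co3Equiv : Spor.Co3 ≃* G where
  toFun σ := ⟨⟨σ.1, σ.2.1⟩, by
      show (⟨σ.1, σ.2.1⟩ : Co0) • McLG.lu0 = McLG.lu0
      have h1 : (⟨σ.1, σ.2.1⟩ : Co0) • Spor.leechV = Spor.leechV := σ.2.2
      rw [lu0_eq, smul_neg', h1]⟩
  invFun k := ⟨k.1.1, ⟨k.1.2, by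
      show k.1 • Spor.leechV = Spor.leechV
      have h1 : k.1 • McLG.lu0 = McLG.lu0 := k.2
      have e : Spor.leechV = -McLG.lu0 := by
        rw [lu0_eq, neg_neg]
      rw [e, smul_neg', h1]⟩⟩
  left_inv σ := rfl
  right_inv k := rfl
  map_mul' a b := rfl

theorem card_out_Co3 : Nat.card (Out Spor.Co3) = 1 := by
  rw [card_out_congr co3Equiv]
  exact card_out₂

end Cfsg.Agent.Lib.OutCo3
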