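import Mathlib
import Cfsg.Prelude.Def_KGroupFacts

/-!
# A criterion for `Out(G)` to have order 2 (or 1)

An element `x` of prime order `p`, with `p² ∤ |G|`, self-centralizing, with an element `f` acting on `⟨x⟩` as a
generator of `Aut ⟨x⟩`: up to inner automorphisms any automorphism fixes `x` and `f`.
-/

set_option autoImplicit false

namespace Cfsg.Agent.Lib.OutNorm

open Cfsg

universe u

/-- `Out` only depends on the isomorphism type. -/
theorem card_out_congr {A B : Type u} [Group A] [Group B] (e : A ≃* B) :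
    Nat.card (Out A) = Nat.card (Out B) := by
  refine Nat.card_congr (QuotientGroup.congr (Inn A) (Inn B) (MulAut.congr e) ?_).toEquiv
  ext β
  constructor
  · rintro ⟨_, ⟨a, rfl⟩, rfl⟩
    refine ⟨e a, ?_⟩
    ext y
    simp [MulAut.congr, MulAut.conj_apply]
  · rintro ⟨b, rfl⟩
    refine ⟨MulAut.conj (e.symm b), ⟨_, rfl⟩, ?_⟩
    ext y
    simp [MulAut.congr, MulAut.conj_apply]

/-- Elements of prime order are conjugate to powers of each other, if a Sylow subgroup has prime order. -/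
theorem exists_conj_pow {G : Type*} [Group G] [Finite G] {p : ℕ} [hp : Fact p.Prime]
    (hp2 : ¬ p ^ 2 ∣ Nat.card G) {a b : G} (ha : orderOf a = p) (hb : orderOf b = p) :
    ∃ (c : G) (k : ℕ), c * b * c⁻¹ = a ^ k ∧ ¬ p ∣ k := by
  have hne : Nat.card G ≠ 0 := Nat.card_pos.ne'
  have h1 : p ∣ Nat.card G := ha ▸ orderOf_dvd_natCard a
  have hfac : (Nat.card G).factorization p = 1 := by
    apply le_antisymm
    · by_contra h
      exact hp2 ((hp.out.pow_dvd_iff_le_factorization hne).mpr (by omega))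
    · exact (hp.out.dvd_iff_one_le_factorization hne).mp h1
  have hca : Nat.card (Subgroup.zpowers a) = p ^ (Nat.card G).factorization p := by
    rw [Nat.card_zpowers, ha, hfac, pow_one]
  have hcb : Nat.card (Subgroup.zpowers b) = p ^ (Nat.card G).factorization p := by
    rw [Nat.card_zpowers, hb, hfac, pow_one]
  let P : Sylow p G := Sylow.ofCard _ hca
  let Q : Sylow p G := Sylow.ofCard _ hcb
  obtain ⟨c, hc⟩ := MulAction.exists_smul_eq G Q P
  have h2 : c * b * c⁻¹ ∈ ((c • Q : Sylow p G) : Subgroup G) := by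
    rw [Sylow.coe_subgroup_smul]
    exact Subgroup.smul_mem_pointwise_smul _ (MulAut.conj c) (Q : Subgroup G) (Subgroup.mem_zpowers b)
  rw [hc] at h2
  have h3 : c * b * c⁻¹ ∈ Subgroup.zpowers a := h2
  rw [← mem_powers_iff_mem_zpowers] at h3
  obtain ⟨k, hk⟩ := h3
  refine ⟨c, k, hk.symm, ?_⟩
  rintro ⟨m, rfl⟩
  have h4 : a ^ (p * m) = 1 := by rw [pow_mul, ← ha, pow_orderOf_eq_one, one_pow]
  have hk' : a ^ (p * m) = c * b * c⁻¹ := hk
  rw [h4] at hk'
  have h5 : c * b * c⁻¹ = 1 := hk'.symm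
  have h6 : b = 1 := by
    have : c * b = c := by rwa [mul_inv_eq_one] at h5
    simpa using this
  rw [h6, orderOf_one] at hb
  exact hp.out.one_lt.ne hb

/-- Conjugating a power by a power of an element acting as a power map. -/
theorem conj_pow_pow {G : Type*} [Group G] {f y : G} {m : ℕ} (h : f * y * f⁻¹ = y ^ m) (j k : ℕ) :
    f ^ j * y ^ k * (f ^ j)⁻¹ = y ^ (k * m ^ j) := by
  induction j with
  | zero => simp
  | succ j ih =>
    have h1 : f * y ^ (k * m ^ j) * f⁻¹ = y ^ (k * m ^ j * m) := by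
      rw [← conj_pow, h, ← pow_mul, mul_comm m]
    rw [pow_succ' f, pow_succ m, ← mul_assoc k]
    rw [← h1, ← ih]
    group

/-- The normal form of an automorphism. -/
theorem normal_form {Γ : Type*} [Group Γ] [Finite Γ] {p a b : ℕ} [hp : Fact p.Prime]
    (hp2 : ¬ p ^ 2 ∣ Nat.card Γ) {x f : Γ} (hx : orderOf x = p) (hfx : f * x * f⁻¹ = x ^ a)
    (hroot : ∀ k, ¬ p ∣ k → ∃ j, k * a ^ j ≡ 1 [MOD p])
    (hb : b * a ≡ b + 1 [MOD p])
    (hC : ∀ y : Γ, y * x = x * y → ∃ k : ℕ, y = x ^ k)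
    (α : MulAut Γ) : ∃ c : Γ, (MulAut.conj c * α) x = x ∧ (MulAut.conj c * α) f = f := by
  have hα : orderOf (α x) = p := by rw [MulEquiv.orderOf_eq, hx]
  obtain ⟨c₀, k, hck, hk⟩ := exists_conj_pow hp2 hx hα
  obtain ⟨j, hj⟩ := hroot k hk
  have hxk : x ^ (k * a ^ j) = x := by
    have : x ^ (k * a ^ j) = x ^ 1 := by
      rw [pow_eq_pow_iff_modEq, hx]
      exact hj
    simpa using this
  set c₁ : Γ := f ^ j * c₀ with hc₁
  have hβx : (MulAut.conj c₁ * α) x = x := by
    have h1 := conj_pow_pow hfx j k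
    rw [hxk] at h1
    rw [← hck] at h1
    calc (MulAut.conj c₁ * α) x = f ^ j * (c₀ * α x * c₀⁻¹) * (f ^ j)⁻¹ := by
          simp only [MulAut.mul_apply, MulAut.conj_apply]
          rw [hc₁]
          group
      _ = x := h1
  set β := MulAut.conj c₁ * α with hβ
  have h2 : β f * x * (β f)⁻¹ = x ^ a := by
    have h1 := congrArg β hfx
    simp only [map_mul, map_inv, map_pow, hβx] at h1
    exact h1
  have h3 : (f⁻¹ * β f) * x = x * (f⁻¹ * β f) := by
    have h4 : β f * x = x ^ a * β f := by rw [← h2]; group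
    have h5 : f * x = x ^ a * f := by rw [← hfx]; group
    have h6 : f⁻¹ * x ^ a = x * f⁻¹ := by
      have : x ^ a = f * x * f⁻¹ := hfx.symm
      rw [this]; group
    calc (f⁻¹ * β f) * x = f⁻¹ * (β f * x) := by group
      _ = f⁻¹ * (x ^ a * β f) := by rw [h4]
      _ = (f⁻¹ * x ^ a) * β f := by group
      _ = x * (f⁻¹ * β f) := by rw [h6]; group
  obtain ⟨e, he⟩ := hC _ h3
  have h4 : β f = f * x ^ e := by rw [← he]; group
  -- the correction
  set i := b * e with hi
  have h5 : x ^ (i + e) = x ^ (i * a) := by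
    rw [pow_eq_pow_iff_modEq, hx]
    have : i * a = (b * a) * e := by rw [hi]; ring
    rw [this]
    have h6 : (b * a) * e ≡ (b + 1) * e [MOD p] := hb.mul_right e
    have h7 : (b + 1) * e = i + e := by rw [hi]; ring
    rw [h7] at h6
    exact h6.symm
  have h6 : f * x ^ i * f⁻¹ = x ^ (i * a) := by
    rw [← conj_pow, hfx, ← pow_mul, mul_comm]
  set d : Γ := x ^ (i * a) with hd
  have h7 : d * β f * d⁻¹ = f := by
    rw [h4]
    have h8 : d * f = f * x ^ i := by rw [← h6]; group
    have h9 : x ^ i * x ^ e = d := by rw [← pow_add, h5]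
    calc d * (f * x ^ e) * d⁻¹ = (d * f) * x ^ e * d⁻¹ := by group
      _ = f * (x ^ i * x ^ e) * d⁻¹ := by rw [h8]; group
      _ = f := by rw [h9]; group
  refine ⟨d * c₁, ?_, ?_⟩
  · have h8 : MulAut.conj (d * c₁) * α = MulAut.conj d * β := by
      rw [hβ, map_mul, mul_assoc]
    rw [h8]
    simp only [MulAut.mul_apply, MulAut.conj_apply]
    rw [hβx, hd]
    have : Commute (x ^ (i * a)) x := (Commute.refl x).pow_left _
    rw [this.eq]
    group
  · have h8 : MulAut.conj (d * c₁) * α = MulAut.conj d * β := by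
      rw [hβ, map_mul, mul_assoc]
    rw [h8]
    simp only [MulAut.mul_apply, MulAut.conj_apply]
    exact h7

/-- The criterion for `Out` to have order two. -/
theorem card_out_eq_two {Γ : Type u} [Group Γ] {x f y y₁ : Γ}
    (hnf : ∀ α : MulAut Γ, ∃ c : Γ, (MulAut.conj c * α) x = x ∧ (MulAut.conj c * α) f = f)
    (hgen : ∀ β : MulAut Γ, β x = x → β f = f → β y = y → β = 1)
    (hcand : ∀ β : MulAut Γ, β x = x → β f = f → β y = y ∨ β y = y₁)
    (σ : MulAut Γ) (hσ : σ ∉ Inn Γ) : Nat.card (Out Γ) = 2 := by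
  have key : ∀ α γ : MulAut Γ, α ∉ Inn Γ → γ ∉ Inn Γ → α * γ⁻¹ ∈ Inn Γ := by
    intro α γ hα hγ
    obtain ⟨c, h1, h2⟩ := hnf α
    obtain ⟨c', h3, h4⟩ := hnf γ
    have hout : ∀ (δ : MulAut Γ) (d : Γ), δ ∉ Inn Γ → (MulAut.conj d * δ) x = x →
        (MulAut.conj d * δ) f = f → (MulAut.conj d * δ) y = y₁ := by
      intro δ d hδ h5 h6
      rcases hcand _ h5 h6 with h7 | h7
      · exfalso
        have h8 := hgen _ h5 h6 h7
        apply hδ
        refine ⟨d⁻¹, ?_⟩
        have h9 : δ = (MulAut.conj d)⁻¹ := eq_inv_of_mul_eq_one_right h8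
        rw [h9, map_inv]
      · exact h7
    have h5 := hout α c hα h1 h2
    have h6 := hout γ c' hγ h3 h4
    set α' := MulAut.conj c * α with hα'
    set γ' := MulAut.conj c' * γ with hγ'
    have hinv : ∀ z, γ' z = z → γ'⁻¹ z = z := fun z hz => by
      have := MulAut.inv_apply_self Γ γ' z
      rwa [hz] at this
    have h7 : γ'⁻¹ * α' = 1 := by
      apply hgen
      · show γ'⁻¹ (α' x) = x
        rw [h1]
        exact hinv _ h3
      · show γ'⁻¹ (α' f) = f
        rw [h2]
        exact hinv _ h4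
      · show γ'⁻¹ (α' y) = y
        rw [h5, ← h6]
        exact MulAut.inv_apply_self Γ γ' y
    have h8 : α' = γ' := (inv_mul_eq_one.mp h7).symm
    refine ⟨c⁻¹ * c', ?_⟩
    have h9 : MulAut.conj c * α = MulAut.conj c' * γ := h8
    rw [map_mul, map_inv]
    have h10 : α = (MulAut.conj c)⁻¹ * (MulAut.conj c' * γ) := by
      rw [← h9]; group
    rw [h10]; group
  show (Inn Γ).index = 2
  rw [Subgroup.index_eq_two_iff_exists_notMem_and]
  refine ⟨σ, hσ, fun α => ?_⟩
  by_cases hα : α ∈ Inn Γ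
  · exact Or.inr hα
  · left
    have h1 : σ⁻¹ ∉ Inn Γ := fun h => hσ (by simpa using (Inn Γ).inv_mem h)
    have h2 := key α σ⁻¹ hα h1
    simpa using h2

end Cfsg.Agent.Lib.OutNorm
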