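import Mathlib

/-!
# A concrete model of the centraliser of a `2`-central involution of `PSp₄(3)`

Elements are codes `x * 48 + y * 2 + s` with `x < 12`, `y < 24`, `s < 2` for the class of
`(x, y) σ^s`, with `(x, y)` in `SL₂(3) × SL₂(3)` modulo `(-1, -1)`, and `σ` the swap.
-/

set_option autoImplicit false
set_option maxRecDepth 100000
set_option maxHeartbeats 0

namespace Cfsg.Agent.Lib.P43Tab

/-- Multiplication table of `SL₂(3)`: the negative of `i` is `(i + 12) % 24`. -/
def tS : ℕ := 360873693914604484226431674095298307168365526008197453642189775938777502487499225493441094801462354352537639117301214836419909401028090427756252532888457176829535268015580275209183004972918103367964832601983765733532738417399540251258005215707043613719022172914349213226934706274279353689978453206077753956639284754397876815485568994978144448581364531335583357739791607614793987666678326404866461373352785560866518150780513241092067161717438366759737870499863408161181728220376941567038372957736589119455848248978589240462495482995165505867573603299010184078957548661287340043814361118059867097640910524630665640512257445425823253206542977079957432655446436407843231283549165939508019668539020941521178900038544481335144983578181533367067150371874838627701549651568544262507392567421127131176387087428776251793129215266103786128928021906948754276731023905164011604000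

/-- Inverses in `SL₂(3)`. -/
def tI : ℕ := 475829436188628512358561224823810464

/-- The types of involutions and some subgroups, as bit masks. -/
def mA : ℕ := 62074196631537819406979410617946314113663551218069833215193336029148835263797573374548040068289640365215188856617119639213966679438273143250356733763779913367984085319811072
def mB : ℕ := 123665200736552267030251260609719548627768280795438597335736744084098951177734622019075974359397965401349858424438723900542206494824916370459359687136272515941510826938073090
def mC : ℕ := 7371020360981248929588030639921443764677469218692360949137480288487915184208483330754972561536009497310696672610590729177379296604851282360988313520123569020988293120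
def mE : ℕ := 185497812161358942014736321159914829015417528184076517874337725013661723076049726074271016744186149741491457737863524325591521148182861267320929114191182116643475707731640323
def mS0 : ℕ := 186222634120738260180677443588687241347173566341875482863896533157436922437042839247227636558978935522946612489516480434807942494495427822580426931983159823677063868176187407
def mN : ℕ := 186222634120738425750355487188773384450569844585612607463664168029453193024346132584679153744326578140542089399783533426800669115972792497180830489939161591939479941224120335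

/-- Product in `SL₂(3)`. -/
def mS (i j : ℕ) : ℕ := Nat.mod (Nat.shiftRight tS (Nat.mul 5 (Nat.add (Nat.mul 24 i) j))) 32

/-- Inverse in `SL₂(3)`. -/
def iS (i : ℕ) : ℕ := Nat.mod (Nat.shiftRight tI (Nat.mul 5 i)) 32

/-- The normal form. -/
def nfC (x y s : ℕ) : ℕ :=
  bif Nat.blt x 12 then Nat.add (Nat.add (Nat.mul x 48) (Nat.mul y 2)) s
  else Nat.add (Nat.add (Nat.mul (Nat.sub x 12) 48) (Nat.mul (Nat.mod (Nat.add y 12) 24) 2)) s

/-- The first coordinate. -/
def cX (c : ℕ) : ℕ := Nat.div c 48
/-- The second coordinate. -/
def cY (c : ℕ) : ℕ := Nat.mod (Nat.div c 2) 24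
/-- The last coordinate. -/
def cS (c : ℕ) : ℕ := Nat.mod c 2

/-- The product of codes. -/
def mulC (c d : ℕ) : ℕ :=
  bif Nat.beq (cS c) 0 then nfC (mS (cX c) (cX d)) (mS (cY c) (cY d)) (cS d)
  else nfC (mS (cX c) (cY d)) (mS (cY c) (cX d)) (Nat.sub 1 (cS d))

/-- The inverse of a code. -/
def invC (c : ℕ) : ℕ :=
  bif Nat.beq (cS c) 0 then nfC (iS (cX c)) (iS (cY c)) 0
  else nfC (iS (cY c)) (iS (cX c)) 1

/-- Conjugation of codes. -/
def cjC (g x : ℕ) : ℕ := mulC (mulC g x) (invC g)

/-- Commutation of codes. -/
def cmC (x y : ℕ) : Bool := Nat.beq (mulC x y) (mulC y x)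

/-- Powers of codes. -/
def powC (x : ℕ) : ℕ → ℕ
  | 0 => 0
  | n + 1 => mulC (powC x n) x

/-- A bit of a mask. -/
def bitM (m c : ℕ) : Bool := Nat.beq (Nat.mod (Nat.shiftRight m c) 2) 1

def isA (c : ℕ) : Bool := bitM mA c
def isB (c : ℕ) : Bool := bitM mB c
def isC (c : ℕ) : Bool := bitM mC c
def isE (c : ℕ) : Bool := bitM mE c
def isS (c : ℕ) : Bool := bitM mS0 c
def isN (c : ℕ) : Bool := bitM mN c

/-- A bounded loop. -/
def allN : ℕ → (ℕ → Bool) → Bool
  | 0, _ => true
  | n + 1, p => p n && allN n p

/-- A bounded search. -/
def anyN : ℕ → (ℕ → Bool) → Bool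
  | 0, _ => false
  | n + 1, p => p n || anyN n p

/-- Implication. -/
def impB (a b : Bool) : Bool := bif a then b else true

theorem impB_spec {a b : Bool} (h : impB a b = true) (ha : a = true) : b = true := by
  subst ha; exact h

theorem allN_spec {n : ℕ} {p : ℕ → Bool} (h : allN n p = true) : ∀ i, i < n → p i = true := by
  induction n with
  | zero => intro i hi; omega
  | succ n ih =>
    simp only [allN, Bool.and_eq_true] at h
    intro i hi
    rcases Nat.lt_succ_iff_lt_or_eq.mp hi with h1 | h1
    · exact ih h.2 i h1
    · rw [h1]; exact h.1

theorem anyN_spec {n : ℕ} {p : ℕ → Bool} (h : anyN n p = true) : ∃ i, i < n ∧ p i = true := by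
  induction n with
  | zero => simp [anyN] at h
  | succ n ih =>
    simp only [anyN, Bool.or_eq_true] at h
    rcases h with h | h
    · exact ⟨n, Nat.lt_succ_self n, h⟩
    · obtain ⟨i, hi, h2⟩ := ih h
      exact ⟨i, Nat.lt_succ_of_lt hi, h2⟩

theorem allN_of {n : ℕ} {p : ℕ → Bool} (h : ∀ i, i < n → p i = true) : allN n p = true := by
  induction n with
  | zero => rfl
  | succ n ih =>
    simp only [allN, Bool.and_eq_true]
    exact ⟨h n (Nat.lt_succ_self n), ih (fun j hj => h j (Nat.lt_succ_of_lt hj))⟩

theorem impB_of {a b : Bool} (h : a = true → b = true) : impB a b = true := by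
  cases a with
  | false => rfl
  | true => exact h rfl

theorem allN2_spec {n m : ℕ} {p : ℕ → ℕ → Bool} (h : allN n (fun i => allN m (p i)) = true) :
    ∀ i, i < n → ∀ j, j < m → p i j = true :=
  fun i hi => allN_spec (allN_spec h i hi)

theorem beq_spec {a b : ℕ} (h : Nat.beq a b = true) : a = b := Nat.eq_of_beq_eq_true h

theorem blt_spec {a b : ℕ} (h : Nat.blt a b = true) : a < b := by
  simpa [Nat.blt] using h

theorem beq_refl' (a : ℕ) : Nat.beq a a = true := Nat.beq_refl a

theorem beq_of_eq {a b : ℕ} (h : a = b) : Nat.beq a b = true := by
  subst h; exact Nat.beq_refl a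

theorem mulC_lt : ∀ i, i < 576 → ∀ j, j < 576 → mulC i j < 576 := by
  have h := allN2_spec (n := 576) (m := 576) (p := fun i j => Nat.blt (mulC i j) 576)
    (by decide +kernel)
  intro i hi j hj
  exact blt_spec (h i hi j hj)

theorem mulC_zero : mulC 0 0 = 0 := by decide +kernel

theorem invC_spec : ∀ i, i < 576 → invC i < 576 ∧ mulC i (invC i) = 0 ∧ mulC (invC i) i = 0 := by
  have h := allN_spec (n := 576) (p := fun i => Nat.blt (invC i) 576 &&
    (Nat.beq (mulC i (invC i)) 0 && Nat.beq (mulC (invC i) i) 0)) (by decide +kernel)
  intro i hi
  have h1 := h i hi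
  simp only [Bool.and_eq_true] at h1
  exact ⟨blt_spec h1.1, beq_spec h1.2.1, beq_spec h1.2.2⟩

theorem invC_lt {i : ℕ} (hi : i < 576) : invC i < 576 := (invC_spec i hi).1

theorem cjC_lt {h i : ℕ} (hh : h < 576) (hi : i < 576) : cjC h i < 576 :=
  mulC_lt _ (mulC_lt _ hh _ hi) _ (invC_lt hh)

theorem zero_lt : (0 : ℕ) < 576 := by norm_num
theorem z_lt : (24 : ℕ) < 576 := by norm_num

end Cfsg.Agent.Lib.P43Tab
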