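import Mathlib
import Cfsg.Agent.Lib.P43Tab

/-!
# Finite facts about the table, first part
-/

set_option autoImplicit false
set_option maxRecDepth 100000
set_option maxHeartbeats 0

namespace Cfsg.Agent.Lib.P43Fa1

open Cfsg.Agent.Lib.P43Tab

theorem isS_zero : isS 0 = true := by decide +kernel
theorem isS_z : isS 24 = true := by decide +kernel

theorem isS_mul : ∀ i j, i < 576 → j < 576 → isS i = true → isS j = true → isS (mulC i j) = true := by
  have h := allN_spec (n := 576) (p := fun i => impB (isS i)
    (allN 576 fun j => impB (isS j) (isS (mulC i j)))) (by decide +kernel)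
  intro i j hi hj h1 h2
  exact impB_spec (allN_spec (impB_spec (h i hi) h1) j hj) h2

theorem isS_inv : ∀ i, i < 576 → isS i = true → isS (invC i) = true := by
  have h := allN_spec (n := 576) (p := fun i => impB (isS i) (isS (invC i))) (by decide +kernel)
  intro i hi h1
  exact impB_spec (h i hi) h1

theorem card_S : ((Finset.range 576).filter (fun i => isS i = true)).card = 64 := by decide +kernel

/-- The centre of the Sylow subgroup. -/
theorem centre_S : ∀ i, i < 576 → isS i = true →
    (∀ j, j < 576 → isS j = true → cmC i j = true) → i = 0 ∨ i = 24 := by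
  have h := allN_spec (n := 576) (p := fun i => impB (isS i)
    (impB (allN 576 fun j => impB (isS j) (cmC i j)) (Nat.beq i 0 || Nat.beq i 24)))
    (by decide +kernel)
  intro i hi h1 h2
  have h3 := impB_spec (impB_spec (h i hi) h1) (allN_of fun j hj => impB_of (h2 j hj))
  simp only [Bool.or_eq_true] at h3
  rcases h3 with h3 | h3
  · exact Or.inl (beq_spec h3)
  · exact Or.inr (beq_spec h3)

/-- Elements normalizing the Sylow subgroup. -/
theorem norm_S : ∀ i, i < 576 → isS i = false → (∀ j, j < 576 → isS j = true → isS (cjC i j) = true) →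
    powC i 64 ≠ 0 ∧ powC (powC i 64) 3 = 0 := by
  have h := allN_spec (n := 576) (p := fun i => impB (!isS i)
    (impB (allN 576 fun j => impB (isS j) (isS (cjC i j)))
      (!Nat.beq (powC i 64) 0 && Nat.beq (powC (powC i 64) 3) 0))) (by decide +kernel)
  intro i hi h1 h2
  have h3 := impB_spec (impB_spec (h i hi) (by simp [h1])) (allN_of fun j hj => impB_of (h2 j hj))
  simp only [Bool.and_eq_true, Bool.not_eq_true'] at h3
  refine ⟨?_, beq_spec h3.2⟩
  intro h4
  rw [h4] at h3
  have := h3.1
  revert this
  decide

theorem pow_three_pow : ∀ i, i < 576 → powC (powC i 3) 16 = 0 := by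
  have h := allN_spec (n := 576) (p := fun i => Nat.beq (powC (powC i 3) 16) 0) (by decide +kernel)
  intro i hi
  exact beq_spec (h i hi)

/-- No nontrivial normal subgroup of odd order. -/
theorem odd_core : ∀ i, i < 576 → i ≠ 0 → powC i 3 = 0 →
    ∃ j, j < 576 ∧ powC (mulC (cjC i j) (invC j)) 3 ≠ 0 := by
  have h := allN_spec (n := 576) (p := fun i => impB (!Nat.beq i 0)
    (impB (Nat.beq (powC i 3) 0)
      (anyN 576 fun j => !Nat.beq (powC (mulC (cjC i j) (invC j)) 3) 0))) (by decide +kernel)
  intro i hi h0 h3
  have h1 := impB_spec (impB_spec (h i hi) (by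
    cases h5 : Nat.beq i 0 with
    | false => rfl
    | true => exact absurd (beq_spec h5) h0)) (beq_of_eq h3)
  obtain ⟨j, hj, h2⟩ := anyN_spec h1
  refine ⟨j, hj, ?_⟩
  intro h4
  rw [h4] at h2
  revert h2
  decide

/-- The even part. -/
def isEv (c : ℕ) : Bool := Nat.beq (cS c) 0

theorem isEv_zero : isEv 0 = true := by decide +kernel

theorem isEv_mul : ∀ i j, i < 576 → j < 576 → isEv i = true → isEv j = true → isEv (mulC i j) = true := by
  have h := allN_spec (n := 576) (p := fun i => impB (isEv i)
    (allN 576 fun j => impB (isEv j) (isEv (mulC i j)))) (by decide +kernel)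
  intro i j hi hj h1 h2
  exact impB_spec (allN_spec (impB_spec (h i hi) h1) j hj) h2

theorem isEv_inv : ∀ i, i < 576 → isEv i = true → isEv (invC i) = true := by
  have h := allN_spec (n := 576) (p := fun i => impB (isEv i) (isEv (invC i))) (by decide +kernel)
  intro i hi h1
  exact impB_spec (h i hi) h1

theorem card_Ev : ((Finset.range 576).filter (fun i => isEv i = true)).card = 288 := by
  decide +kernel

theorem card_all : ((Finset.range 576).filter (fun i => (fun _ => true) i = true)).card = 576 := by
  decide +kernel

theorem z_sq : mulC 24 24 = 0 := by decide +kernel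

end Cfsg.Agent.Lib.P43Fa1
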