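import Mathlib
import Cfsg.Agent.Lib.P43Tab

/-!
# Groups modelled on the table `P43Tab`
-/

set_option autoImplicit false
set_option linter.unusedVariables false
set_option linter.unusedSectionVars false
set_option maxHeartbeats 0

namespace Cfsg.Agent.Lib.P43Mod

open Cfsg.Agent.Lib.P43Tab

variable {G : Type*} [Group G]

/-- The centraliser of `x` is parametrised by the table. -/
structure Mod (x : G) (ph : ℕ → G) : Prop where
  mul : ∀ i j, i < 576 → j < 576 → ph (mulC i j) = ph i * ph j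
  inj : ∀ i j, i < 576 → j < 576 → ph i = ph j → i = j
  rng : ∀ g, g * x = x * g → ∃ i, i < 576 ∧ ph i = g
  mem : ∀ i, i < 576 → ph i * x = x * ph i
  z : ph 24 = x

namespace Mod

variable {x : G} {ph : ℕ → G} (hm : Mod x ph)
include hm

theorem one : ph 0 = 1 := by
  have h := hm.mul 0 0 zero_lt zero_lt
  rw [mulC_zero] at h
  exact (mul_eq_left.mp h.symm)

theorem inv {i : ℕ} (hi : i < 576) : ph (invC i) = (ph i)⁻¹ := by
  have h := hm.mul i (invC i) hi (invC_lt hi)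
  rw [(invC_spec i hi).2.1, hm.one] at h
  exact eq_inv_of_mul_eq_one_right h.symm

theorem cj {h i : ℕ} (hh : h < 576) (hi : i < 576) : ph (cjC h i) = ph h * ph i * (ph h)⁻¹ := by
  unfold cjC
  rw [hm.mul _ _ (mulC_lt _ hh _ hi) (invC_lt hh), hm.mul _ _ hh hi, hm.inv hh]

theorem eq_iff {i j : ℕ} (hi : i < 576) (hj : j < 576) : ph i = ph j ↔ i = j :=
  ⟨hm.inj i j hi hj, fun h => by rw [h]⟩

theorem eq_one_iff {i : ℕ} (hi : i < 576) : ph i = 1 ↔ i = 0 := by
  rw [← hm.one]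
  exact hm.eq_iff hi zero_lt

theorem comm_iff {i j : ℕ} (hi : i < 576) (hj : j < 576) :
    ph i * ph j = ph j * ph i ↔ cmC i j = true := by
  rw [← hm.mul i j hi hj, ← hm.mul j i hj hi, hm.eq_iff (mulC_lt _ hi _ hj) (mulC_lt _ hj _ hi)]
  unfold cmC
  exact ⟨beq_of_eq, beq_spec⟩

theorem pow {i : ℕ} (hi : i < 576) (n : ℕ) : powC i n < 576 ∧ ph (powC i n) = ph i ^ n := by
  induction n with
  | zero => exact ⟨zero_lt, by simpa [powC] using hm.one⟩
  | succ n ih =>
    refine ⟨mulC_lt _ ih.1 _ hi, ?_⟩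
    show ph (mulC (powC i n) i) = _
    rw [hm.mul _ _ ih.1 hi, ih.2, pow_succ]

/-- The conjugate model. -/
theorem conj (g : G) : Mod (g * x * g⁻¹) (fun i => g * ph i * g⁻¹) where
  mul i j hi hj := by
    rw [hm.mul i j hi hj]
    group
  inj i j hi hj h := by
    apply hm.inj i j hi hj
    have h2 := mul_left_cancel (mul_right_cancel h)
    exact h2
  rng y hy := by
    have h1 : (g⁻¹ * y * g) * x = x * (g⁻¹ * y * g) := by
      have : g⁻¹ * (y * (g * x * g⁻¹)) * g = g⁻¹ * ((g * x * g⁻¹) * y) * g := by rw [hy]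
      have h3 : g⁻¹ * (y * (g * x * g⁻¹)) * g = (g⁻¹ * y * g) * x := by group
      have h4 : g⁻¹ * ((g * x * g⁻¹) * y) * g = x * (g⁻¹ * y * g) := by group
      rw [← h3, this, h4]
    obtain ⟨i, hi, h2⟩ := hm.rng _ h1
    refine ⟨i, hi, ?_⟩
    rw [h2]
    group
  mem i hi := by
    have h1 := hm.mem i hi
    have : g * ph i * g⁻¹ * (g * x * g⁻¹) = g * (ph i * x) * g⁻¹ := by group
    rw [this, h1]
    group
  z := by
    rw [hm.z]

/-- The central element. -/
theorem x_eq : x = ph 24 := hm.z.symm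

theorem code_of_comm {g : G} (h : g * x = x * g) : ∃ i, i < 576 ∧ ph i = g := hm.rng g h

end Mod

/-- Conjugates of an element. -/
def Cl (t y : G) : Prop := ∃ g : G, g * t * g⁻¹ = y

theorem Cl.conj {t y : G} (h : Cl t y) (g : G) : Cl t (g * y * g⁻¹) := by
  obtain ⟨k, rfl⟩ := h
  exact ⟨g * k, by group⟩

theorem Cl.of_conj {t y : G} (g : G) (h : Cl t (g * y * g⁻¹)) : Cl t y := by
  obtain ⟨k, hk⟩ := h
  refine ⟨g⁻¹ * k, ?_⟩
  have : g⁻¹ * k * t * (g⁻¹ * k)⁻¹ = g⁻¹ * (k * t * k⁻¹) * g := by group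
  rw [this, hk]
  group

theorem Cl.refl (t : G) : Cl t t := ⟨1, by group⟩

theorem Cl.trans {a b c : G} (h1 : Cl a b) (h2 : Cl b c) : Cl a c := by
  obtain ⟨g, rfl⟩ := h1
  obtain ⟨k, rfl⟩ := h2
  exact ⟨k * g, by group⟩

theorem Cl.symm {a b : G} (h1 : Cl a b) : Cl b a := by
  obtain ⟨g, rfl⟩ := h1
  exact ⟨g⁻¹, by group⟩

/-- A subgroup cut out by a predicate on codes. -/
def subQ {x : G} {ph : ℕ → G} (hm : Mod x ph) (q : ℕ → Bool) (h0 : q 0 = true)
    (hq : ∀ i j, i < 576 → j < 576 → q i = true → q j = true → q (mulC i j) = true)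
    (hi : ∀ i, i < 576 → q i = true → q (invC i) = true) : Subgroup G where
  carrier := {y | ∃ i, i < 576 ∧ q i = true ∧ ph i = y}
  one_mem' := ⟨0, zero_lt, h0, hm.one⟩
  mul_mem' := by
    rintro _ _ ⟨i, hi1, hi2, rfl⟩ ⟨j, hj1, hj2, rfl⟩
    exact ⟨mulC i j, mulC_lt _ hi1 _ hj1, hq i j hi1 hj1 hi2 hj2, hm.mul i j hi1 hj1⟩
  inv_mem' := by
    rintro _ ⟨i, hi1, hi2, rfl⟩
    exact ⟨invC i, invC_lt hi1, hi i hi1 hi2, hm.inv hi1⟩

theorem mem_subQ {x : G} {ph : ℕ → G} (hm : Mod x ph) {q : ℕ → Bool} {h0 : q 0 = true}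
    {hq : ∀ i j, i < 576 → j < 576 → q i = true → q j = true → q (mulC i j) = true}
    {hi : ∀ i, i < 576 → q i = true → q (invC i) = true} {y : G} :
    y ∈ subQ hm q h0 hq hi ↔ ∃ i, i < 576 ∧ q i = true ∧ ph i = y := Iff.rfl

theorem card_subQ {x : G} {ph : ℕ → G} (hm : Mod x ph) {q : ℕ → Bool} {h0 : q 0 = true}
    {hq : ∀ i j, i < 576 → j < 576 → q i = true → q j = true → q (mulC i j) = true}
    {hi : ∀ i, i < 576 → q i = true → q (invC i) = true} :
    Nat.card (subQ hm q h0 hq hi) = ((Finset.range 576).filter (fun i => q i = true)).card := by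
  classical
  let T := (Finset.range 576).filter (fun i => q i = true)
  have hinj : Set.InjOn ph (T : Set ℕ) := by
    intro a ha b hb hab
    have ha1 : a ∈ T := ha
    have hb1 : b ∈ T := hb
    simp only [T, Finset.mem_filter, Finset.mem_range] at ha1 hb1
    exact hm.inj a b ha1.1 hb1.1 hab
  have h1 : ((subQ hm q h0 hq hi : Subgroup G) : Set G) = ph '' (T : Set ℕ) := by
    ext y
    constructor
    · rintro ⟨i, h1, h2, rfl⟩
      exact ⟨i, by simp [T, h1, h2], rfl⟩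
    · rintro ⟨i, h1, rfl⟩
      have h3 : i ∈ T := h1
      simp only [T, Finset.mem_filter, Finset.mem_range] at h3
      exact ⟨i, h3.1, h3.2, rfl⟩
  have h2 : Nat.card (subQ hm q h0 hq hi) = Set.ncard ((subQ hm q h0 hq hi : Subgroup G) : Set G) := by
    exact Nat.card_coe_set_eq _
  rw [h2, h1, hinj.ncard_image, Set.ncard_coe_finset]

end Cfsg.Agent.Lib.P43Mod
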