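import Mathlib
import Cfsg.Agent.Lib.P43Mod
import Cfsg.Agent.Lib.P43Fa1

/-!
# The Sylow subgroup
-/

set_option autoImplicit false
set_option linter.unusedVariables false
set_option linter.unusedSectionVars false
set_option maxHeartbeats 0

namespace Cfsg.Agent.Lib.P43Syl

open Cfsg.Agent.Lib.P43Tab Cfsg.Agent.Lib.P43Mod Cfsg.Agent.Lib.P43Fa1

variable {G : Type*} [Group G] [Finite G] {x : G} {ph : ℕ → G}

/-- The Sylow subgroup. -/
def SG (hm : Mod x ph) : Subgroup G := subQ hm isS isS_zero isS_mul isS_inv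

theorem mem_SG (hm : Mod x ph) {y : G} : y ∈ SG hm ↔ ∃ i, i < 576 ∧ isS i = true ∧ ph i = y := Iff.rfl

theorem card_SG (hm : Mod x ph) : Nat.card (SG hm) = 64 := by
  have := card_subQ hm (q := isS) (h0 := isS_zero) (hq := isS_mul) (hi := isS_inv)
  rw [card_S] at this
  exact this

theorem x_mem_SG (hm : Mod x ph) : x ∈ SG hm := ⟨24, z_lt, isS_z, hm.z⟩

theorem x_ne_one (hm : Mod x ph) : x ≠ 1 := by
  rw [← hm.z]
  intro h
  have := (hm.eq_one_iff z_lt).1 h
  omega

theorem exists_sylow (hm : Mod x ph) : ∃ P : Sylow 2 G, (P : Subgroup G) = SG hm := by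
  classical
  have : Fact (Nat.Prime 2) := ⟨Nat.prime_two⟩
  have hc := card_SG hm
  have hp : IsPGroup 2 (SG hm) := IsPGroup.of_card (n := 6) (by rw [hc]; norm_num)
  obtain ⟨P, hP⟩ := hp.exists_le_sylow
  refine ⟨P, ?_⟩
  by_contra hne
  have hlt : (SG hm).subgroupOf (P : Subgroup G) < ⊤ := by
    rw [lt_top_iff_ne_top]
    intro htop
    apply hne
    apply le_antisymm _ hP
    intro y hy
    have : (⟨y, hy⟩ : (P : Subgroup G)) ∈ (SG hm).subgroupOf (P : Subgroup G) := by
      rw [htop]; trivial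
    exact Subgroup.mem_subgroupOf.mp this
  have hnil : Group.IsNilpotent (P : Subgroup G) := P.isPGroup'.isNilpotent
  have h1 := Group.normalizerCondition_of_isNilpotent (G := (P : Subgroup G)) _ hlt
  obtain ⟨p, hp1, hp2⟩ := SetLike.exists_of_lt h1
  have hN : ∀ s ∈ SG hm, (p : G) * s * (p : G)⁻¹ ∈ SG hm := by
    intro s hs
    have hsP : s ∈ (P : Subgroup G) := hP hs
    have := (Subgroup.mem_normalizer_iff.mp hp1 ⟨s, hsP⟩).1 (Subgroup.mem_subgroupOf.mpr hs)
    exact Subgroup.mem_subgroupOf.mp this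
  have hN' : ∀ s ∈ SG hm, (p : G)⁻¹ * s * (p : G) ∈ SG hm := by
    intro s hs
    have hsP : s ∈ (P : Subgroup G) := hP hs
    have hm2 : (⟨(p : G)⁻¹ * s * (p : G), (P : Subgroup G).mul_mem ((P : Subgroup G).mul_mem
        ((P : Subgroup G).inv_mem p.2) hsP) p.2⟩ : (P : Subgroup G)) ∈
        (SG hm).subgroupOf (P : Subgroup G) := by
      rw [Subgroup.mem_normalizer_iff.mp hp1]
      apply Subgroup.mem_subgroupOf.mpr
      show (p : G) * ((p : G)⁻¹ * s * (p : G)) * (p : G)⁻¹ ∈ SG hm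
      have : (p : G) * ((p : G)⁻¹ * s * (p : G)) * (p : G)⁻¹ = s := by group
      rw [this]
      exact hs
    exact Subgroup.mem_subgroupOf.mp hm2
  -- the centre
  obtain ⟨i, hi, hiS, hiy⟩ := hN x (x_mem_SG hm)
  have hcomm : ∀ j, j < 576 → isS j = true → cmC i j = true := by
    intro j hj hjS
    rw [← hm.comm_iff hi hj, hiy]
    have hs' := hN' (ph j) ⟨j, hj, hjS, rfl⟩
    obtain ⟨k, hk, hkS, hky⟩ := hs'
    have hck : ph k * x = x * ph k := hm.mem k hk
    rw [hky] at hck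
    have e1 : (p : G) * x * (p : G)⁻¹ * ph j =
        (p : G) * (x * ((p : G)⁻¹ * ph j * (p : G))) * (p : G)⁻¹ := by group
    have e2 : ph j * ((p : G) * x * (p : G)⁻¹) =
        (p : G) * (((p : G)⁻¹ * ph j * (p : G)) * x) * (p : G)⁻¹ := by group
    rw [e1, e2, hck]
  have hcent : (p : G) * x * (p : G)⁻¹ = x := by
    rcases centre_S i hi hiS hcomm with h0 | h24
    · exfalso
      rw [h0, hm.one] at hiy
      apply x_ne_one hm
      have h3 : (p : G) * x * (p : G)⁻¹ = 1 := hiy.symm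
      have h4 : x = (p : G)⁻¹ * ((p : G) * x * (p : G)⁻¹) * (p : G) := by group
      rw [h4, h3]
      group
    · rw [h24, hm.z] at hiy
      exact hiy.symm
  have hpx : (p : G) * x = x * (p : G) := by
    have h2 := congrArg (· * (p : G)) hcent
    simpa using h2
  obtain ⟨j, hj, hjp⟩ := hm.rng (p : G) hpx
  have hjS : isS j = false := by
    cases h3 : isS j with
    | false => rfl
    | true =>
      exfalso
      apply hp2
      apply Subgroup.mem_subgroupOf.mpr
      exact ⟨j, hj, h3, hjp⟩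
  have hnorm : ∀ k, k < 576 → isS k = true → isS (cjC j k) = true := by
    intro k hk hkS
    obtain ⟨l, hl, hlS, hly⟩ := hN (ph k) ⟨k, hk, hkS, rfl⟩
    rw [← hjp, ← hm.cj hj hk] at hly
    rw [← hm.inj _ _ hl (cjC_lt hj hk) hly]
    exact hlS
  obtain ⟨h64, h3⟩ := norm_S j hj hjS hnorm
  have hw := hm.pow hj 64
  have hw3 := hm.pow hw.1 3
  rw [h3, hm.one, hw.2, hjp] at hw3
  have hord : orderOf (((p : G)) ^ 64) = 3 := by
    apply orderOf_eq_prime hw3.2.symm
    rw [← hjp, ← hw.2]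
    intro h5
    exact h64 ((hm.eq_one_iff hw.1).1 h5)
  obtain ⟨k, hk⟩ := (IsPGroup.iff_orderOf.mp P.isPGroup') p
  have hk' : orderOf (p : G) = 2 ^ k := by
    rw [← hk]; exact Subgroup.orderOf_coe p
  have hdvd : orderOf ((p : G) ^ 64) ∣ orderOf (p : G) := orderOf_pow_dvd _
  rw [hord, hk'] at hdvd
  have := (Nat.prime_dvd_prime_iff_eq Nat.prime_three Nat.prime_two).1
    (Nat.Prime.dvd_of_dvd_pow Nat.prime_three hdvd)
  omega

end Cfsg.Agent.Lib.P43Syl
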