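import Mathlib
import Cfsg.Agent.Lib.P43Syl
import Cfsg.Agent.S0215

/-!
# The central involution is not isolated
-/

set_option autoImplicit false
set_option linter.unusedVariables false
set_option linter.unusedSectionVars false
set_option maxHeartbeats 0

namespace Cfsg.Agent.Lib.P43Z1

open Cfsg.Agent.Lib.P43Tab Cfsg.Agent.Lib.P43Mod Cfsg.Agent.Lib.P43Fa1 Cfsg.Agent.Lib.P43Syl

variable {G : Type*} [Group G] [Finite G] {x : G} {ph : ℕ → G}

theorem x_sq (hm : Mod x ph) : x * x = 1 := by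
  have h := hm.mul 24 24 z_lt z_lt
  rw [z_sq, hm.one, hm.z] at h
  exact h.symm

theorem orderOf_x (hm : Mod x ph) : orderOf x = 2 := by
  apply orderOf_eq_prime
  · rw [pow_two]; exact x_sq hm
  · exact x_ne_one hm

theorem eq_one_of_odd {N : Subgroup G} (hN : Odd (Nat.card N)) {y : G} (hy : y ∈ N)
    (h16 : y ^ 16 = 1) : y = 1 := by
  have h1 : orderOf y ∣ 16 := orderOf_dvd_of_pow_eq_one h16
  have h2 : orderOf y ∣ Nat.card N := by
    have := orderOf_dvd_natCard (⟨y, hy⟩ : N)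
    rwa [Subgroup.orderOf_mk] at this
  have h3 : Nat.Coprime (Nat.card N) 16 := by
    have : (16 : ℕ) = 2 ^ 4 := by norm_num
    rw [this]
    exact Nat.Coprime.pow_right _ (Nat.coprime_two_right.mpr hN)
  have h4 : orderOf y = 1 := Nat.Coprime.eq_one_of_dvd (Nat.Coprime.coprime_dvd_left h2 h3) h1
  exact orderOf_eq_one_iff.mp h4

/-- A normal subgroup of odd order meets the centraliser trivially. -/
theorem inf_centralizer (hm : Mod x ph) (N : Subgroup G) [hn : N.Normal] (hN : Odd (Nat.card N))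
    {y : G} (hy : y ∈ N) (hyx : y * x = x * y) : y = 1 := by
  have key : ∀ i, i < 576 → ph i ∈ N → powC i 3 = 0 := by
    intro i hi hiN
    have h1 := hm.pow hi 3
    have h2 := hm.pow h1.1 16
    rw [pow_three_pow i hi, hm.one, h1.2] at h2
    have h3 : ph i ^ 3 ∈ N := N.pow_mem hiN 3
    have h4 := eq_one_of_odd hN h3 h2.2.symm
    rw [← h1.2] at h4
    exact (hm.eq_one_iff h1.1).1 h4
  obtain ⟨i, hi, rfl⟩ := hm.rng y hyx
  by_contra hne
  have hi0 : i ≠ 0 := by
    intro h0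
    apply hne
    rw [h0, hm.one]
  obtain ⟨j, hj, h5⟩ := odd_core i hi hi0 (key i hi hy)
  apply h5
  apply key _ (mulC_lt _ (cjC_lt hi hj) _ (invC_lt hj))
  rw [hm.mul _ _ (cjC_lt hi hj) (invC_lt hj), hm.cj hi hj, hm.inv hj]
  have h6 : ph j * (ph i)⁻¹ * (ph j)⁻¹ ∈ N := hn.conj_mem _ (N.inv_mem hy) _
  have h7 : ph i * ph j * (ph i)⁻¹ * (ph j)⁻¹ = ph i * (ph j * (ph i)⁻¹ * (ph j)⁻¹) := by group
  rw [h7]
  exact N.mul_mem hy h6

/-- Conjugacy of involutions with product in a subgroup of odd order. -/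
theorem conj_of_mul_mem {N : Subgroup G} (hN : Odd (Nat.card N)) {x w : G} (hx : x * x = 1)
    (hw : w * w = 1) (ha : x * w ∈ N) : ∃ b ∈ N, b * x * b⁻¹ = w := by
  set a := x * w with hadef
  obtain ⟨k, hk⟩ : Odd (orderOf a) := by
    have h2 : orderOf a ∣ Nat.card N := by
      have := orderOf_dvd_natCard (⟨a, ha⟩ : N)
      rwa [Subgroup.orderOf_mk] at this
    exact Odd.of_dvd_nat hN h2
  have hxi : x⁻¹ = x := inv_eq_of_mul_eq_one_left hx
  have hwi : w⁻¹ = w := inv_eq_of_mul_eq_one_left hw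
  have h1 : a ^ (2 * k + 1) = 1 := by
    rw [← hk]; exact pow_orderOf_eq_one a
  have h2 : a ^ k * a ^ k = a⁻¹ := by
    rw [← pow_add, ← two_mul]
    apply eq_inv_of_mul_eq_one_left
    rw [← pow_succ]
    exact h1
  have hconj : ∀ n : ℕ, x * a ^ n * x = (a ^ n)⁻¹ := by
    intro n
    induction n with
    | zero => simp [hx]
    | succ n ih =>
      have h3 : x * a ^ (n + 1) * x = (x * a ^ n * x) * (x * a * x) := by
        rw [pow_succ]
        calc x * (a ^ n * a) * x = x * a ^ n * 1 * a * x := by group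
          _ = x * a ^ n * (x * x) * a * x := by rw [hx]
          _ = _ := by group
      have h4 : x * a * x = a⁻¹ := by
        rw [hadef]
        calc x * (x * w) * x = (x * x) * w * x := by group
          _ = w * x := by rw [hx, one_mul]
          _ = w⁻¹ * x⁻¹ := by rw [hwi, hxi]
          _ = (x * w)⁻¹ := by group
      rw [h3, ih, h4, pow_succ]
      group
  refine ⟨a ^ k, N.pow_mem ha k, ?_⟩
  have h5 : a ^ k * x * (a ^ k)⁻¹ = a ^ k * (x * (a ^ k)⁻¹ * x) * x := by
    calc a ^ k * x * (a ^ k)⁻¹ = a ^ k * x * (a ^ k)⁻¹ * 1 := by group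
      _ = a ^ k * x * (a ^ k)⁻¹ * (x * x) := by rw [hx]
      _ = _ := by group
  have h6 : x * (a ^ k)⁻¹ * x = a ^ k := by
    have := hconj k
    have h7 : x * (a ^ k)⁻¹ * x = (x * a ^ k * x)⁻¹ := by
      calc x * (a ^ k)⁻¹ * x = x⁻¹ * (a ^ k)⁻¹ * x⁻¹ := by rw [hxi]
        _ = _ := by group
    rw [h7, this, inv_inv]
  rw [h5, h6, h2, hadef]
  calc (x * w)⁻¹ * x = w⁻¹ * (x⁻¹ * x) := by group
    _ = w := by simp [hwi]

theorem no_isolated (hm : Mod x ph) (hG : ∀ H : Subgroup G, H.index ≠ 2)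
    (hiso : ∀ g : G, g * x * g⁻¹ ∈ SG hm → g * x * g⁻¹ = x) : False := by
  classical
  obtain ⟨P, hP⟩ := exists_sylow hm
  obtain ⟨N, hn, hodd, hcomm⟩ := Cfsg.Agent.S0215.result P x (orderOf_x hm)
    (by
      show x ∈ (P : Subgroup G)
      rw [hP]; exact x_mem_SG hm) (by
      intro g hg
      have hg' : g * x * g⁻¹ ∈ (P : Subgroup G) := hg
      rw [hP] at hg'
      exact hiso g hg')
  have hxx := x_sq hm
  have hxi : x⁻¹ = x := inv_eq_of_mul_eq_one_left hxx
  let K : Subgroup G := subQ hm isEv isEv_zero isEv_mul isEv_inv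
  let H : Subgroup G := subQ hm (fun _ => true) rfl (fun _ _ _ _ _ _ => rfl) (fun _ _ _ => rfl)
  have hcK : Nat.card K = 288 := by
    have := card_subQ hm (q := isEv) (h0 := isEv_zero) (hq := isEv_mul) (hi := isEv_inv)
    rw [card_Ev] at this
    exact this
  have hcH : Nat.card H = 576 := by
    have := card_subQ hm (q := fun _ => true) (h0 := rfl) (hq := fun _ _ _ _ _ _ => rfl)
      (hi := fun _ _ _ => rfl)
    rw [card_all] at this
    exact this
  have hHmem : ∀ y, y ∈ H ↔ y * x = x * y := by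
    intro y
    constructor
    · rintro ⟨i, hi, -, rfl⟩
      exact hm.mem i hi
    · intro h
      obtain ⟨i, hi, rfl⟩ := hm.rng y h
      exact ⟨i, hi, rfl, rfl⟩
  have hinfH : N ⊓ H = ⊥ := by
    rw [eq_bot_iff]
    intro y hy
    have h1 := Subgroup.mem_inf.mp hy
    rw [Subgroup.mem_bot]
    exact inf_centralizer hm N hodd h1.1 ((hHmem y).1 h1.2)
  have hinfK : N ⊓ K = ⊥ := by
    rw [eq_bot_iff]
    intro y hy
    have h1 := Subgroup.mem_inf.mp hy
    obtain ⟨i, hi, -, rfl⟩ := h1.2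
    rw [Subgroup.mem_bot]
    exact inf_centralizer hm N hodd h1.1 (hm.mem i hi)
  have hsup : H ⊔ N = ⊤ := by
    rw [eq_top_iff]
    intro g _
    have hw : (g * x * g⁻¹) * (g * x * g⁻¹) = 1 := by
      calc (g * x * g⁻¹) * (g * x * g⁻¹) = g * (x * x) * g⁻¹ := by group
        _ = 1 := by rw [hxx]; group
    have ha : x * (g * x * g⁻¹) ∈ N := by
      have h1 := hcomm g
      have : x * g * x⁻¹ * g⁻¹ = x * (g * x * g⁻¹) := by
        rw [hxi]; group
      rw [← this]; exact h1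
    obtain ⟨b, hb, hbx⟩ := conj_of_mul_mem hodd hxx hw ha
    have hc : (b⁻¹ * g) * x = x * (b⁻¹ * g) := by
      have h3 : b * x = g * x * g⁻¹ * b := by
        rw [← hbx]; group
      have h4 : g * x = b * x * b⁻¹ * g := by
        rw [hbx]; group
      calc b⁻¹ * g * x = b⁻¹ * (g * x) := by group
        _ = b⁻¹ * (b * x * b⁻¹ * g) := by rw [h4]
        _ = x * (b⁻¹ * g) := by group
    have h5 : g = b * (b⁻¹ * g) := by group
    rw [h5, sup_comm]
    exact Subgroup.mul_mem_sup hb ((hHmem _).2 hc)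
  have h1 : N.relIndex (H ⊔ N) = N.relIndex H := Subgroup.relIndex_sup_right H N
  have h2 : N.relIndex (K ⊔ N) = N.relIndex K := Subgroup.relIndex_sup_right K N
  have h3 : N.relIndex H = Nat.card H := by
    rw [← Subgroup.inf_relIndex_right, hinfH, Subgroup.relIndex_bot_left]
  have h4 : N.relIndex K = Nat.card K := by
    rw [← Subgroup.inf_relIndex_right, hinfK, Subgroup.relIndex_bot_left]
  have h5 : N.index = 576 := by
    rw [hsup, Subgroup.relIndex_top_right, h3, hcH] at h1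
    exact h1
  have h6 := Subgroup.relIndex_mul_index (le_sup_right : N ≤ K ⊔ N)
  rw [h2, h4, hcK, h5] at h6
  apply hG (K ⊔ N)
  omega

end Cfsg.Agent.Lib.P43Z1
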