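import Mathlib
import Cfsg.Agent.Lib.P43Z1
import Cfsg.Agent.Lib.P43Fa2
import Cfsg.Agent.Lib.SylowConjLemmas
import Cfsg.Agent.Lib.TwoLocal2

/-!
# Fusion in the elementary abelian subgroup
-/

set_option autoImplicit false
set_option linter.unusedVariables false
set_option linter.unusedSectionVars false
set_option maxHeartbeats 0

namespace Cfsg.Agent.Lib.P43Fus

open Cfsg.Agent.Lib.P43Tab Cfsg.Agent.Lib.P43Mod Cfsg.Agent.Lib.P43Fa1 Cfsg.Agent.Lib.P43Syl
open Cfsg.Agent.Lib.P43Fa2 Cfsg.Agent.Lib.P43Z1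

variable {G : Type*} [Group G] [Finite G] {x : G} {ph : ℕ → G}

/-- The elementary abelian subgroup. -/
def EG (hm : Mod x ph) : Subgroup G := subQ hm isE isE_zero isE_mul isE_inv

theorem mem_EG (hm : Mod x ph) {y : G} : y ∈ EG hm ↔ ∃ i, i < 576 ∧ isE i = true ∧ ph i = y := Iff.rfl

theorem card_EG (hm : Mod x ph) : Nat.card (EG hm) = 16 := by
  have := card_subQ hm (q := isE) (h0 := isE_zero) (hq := isE_mul) (hi := isE_inv)
  rw [card_E] at this
  exact this

theorem EG_sq (hm : Mod x ph) {y : G} (hy : y ∈ EG hm) : y * y = 1 := by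
  obtain ⟨i, hi, h1, rfl⟩ := hy
  rw [← hm.mul i i hi hi, (E_elem i i hi hi h1 h1).1, hm.one]

theorem EG_comm (hm : Mod x ph) {y z : G} (hy : y ∈ EG hm) (hz : z ∈ EG hm) : y * z = z * y := by
  obtain ⟨i, hi, h1, rfl⟩ := hy
  obtain ⟨j, hj, h2, rfl⟩ := hz
  exact (hm.comm_iff hi hj).2 (E_elem i j hi hj h1 h2).2

theorem x_mem_EG (hm : Mod x ph) : x ∈ EG hm := ⟨24, z_lt, isE_z, hm.z⟩

theorem exists_not_mem (A : Subgroup G) (S : Set G) [Finite S] (h : Nat.card S < Nat.card A) :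
    ∃ a ∈ A, a ∉ S := by
  by_contra hno
  push Not at hno
  have h1 : Nat.card A ≤ Nat.card S := by
    apply Nat.card_le_card_of_injective (fun a : A => (⟨a.1, hno a.1 a.2⟩ : S))
    intro a b hab
    apply Subtype.ext
    have := congrArg Subtype.val hab
    simpa using this
  omega

theorem card_set_le_eight (a1 a2 a3 a4 a5 a6 a7 a8 : G) :
    Nat.card ({a1, a2, a3, a4, a5, a6, a7, a8} : Set G) ≤ 8 := by
  classical
  have h : ({a1, a2, a3, a4, a5, a6, a7, a8} : Set G) =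
      (({a1, a2, a3, a4, a5, a6, a7, a8} : Finset G) : Set G) := by simp
  rw [Nat.card_coe_set_eq, h, Set.ncard_coe_finset]
  have e1 := Finset.card_insert_le a1 ({a2, a3, a4, a5, a6, a7, a8} : Finset G)
  have e2 := Finset.card_insert_le a2 ({a3, a4, a5, a6, a7, a8} : Finset G)
  have e3 := Finset.card_insert_le a3 ({a4, a5, a6, a7, a8} : Finset G)
  have e4 := Finset.card_insert_le a4 ({a5, a6, a7, a8} : Finset G)
  have e5 := Finset.card_insert_le a5 ({a6, a7, a8} : Finset G)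
  have e6 := Finset.card_insert_le a6 ({a7, a8} : Finset G)
  have e7 := Finset.card_insert_le a7 ({a8} : Finset G)
  have e8 : ({a8} : Finset G).card = 1 := Finset.card_singleton _
  omega

theorem sq_code (hm : Mod x ph) {i : ℕ} (hi : i < 576) (h : ph i * ph i = 1) : mulC i i = 0 := by
  apply hm.inj _ _ (mulC_lt _ hi _ hi) zero_lt
  rw [hm.mul i i hi hi, h, hm.one]

/-- An elementary abelian subgroup of order sixteen of the centraliser containing `x` is one of
three. -/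
theorem E16 (hm : Mod x ph) (A : Subgroup G) (hxA : x ∈ A) (hc : ∀ a ∈ A, a * x = x * a)
    (hs : ∀ a ∈ A, a * a = 1) (hcard : Nat.card A = 16) :
    ∃ k, k < 3 ∧ ∀ a ∈ A, ∃ e, e < 576 ∧ isE e = true ∧
      a = ph (hr k) * ph e * (ph (hr k))⁻¹ := by
  classical
  have hcomm : ∀ a ∈ A, ∀ b ∈ A, a * b = b * a := by
    intro a ha b hb
    have h1 := hs _ (A.mul_mem ha hb)
    have h2 := hs a ha
    have h3 := hs b hb
    have ia : a⁻¹ = a := inv_eq_of_mul_eq_one_left h2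
    have ib : b⁻¹ = b := inv_eq_of_mul_eq_one_left h3
    calc a * b = (b⁻¹ * a⁻¹)⁻¹ := by group
      _ = (b * a)⁻¹ := by rw [ia, ib]
      _ = b * a := inv_eq_of_mul_eq_one_left (hs _ (A.mul_mem hb ha))
  obtain ⟨p, hpA, hp⟩ := exists_not_mem A ({1, x, 1, 1, 1, 1, 1, 1} : Set G) (by
    rw [hcard]
    have := card_set_le_eight (1 : G) x 1 1 1 1 1 1
    omega)
  have hp1 : p ≠ 1 := fun h => hp (by simp [h])
  have hpx : p ≠ x := fun h => hp (by simp [h])
  obtain ⟨ip, hip, rfl⟩ := hm.rng p (hc p hpA)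
  have hip0 : ip ≠ 0 := fun h => hp1 (by rw [h, hm.one])
  have hip24 : ip ≠ 24 := fun h => hpx (by rw [h, hm.z])
  have hipsq := sq_code hm hip (hs _ hpA)
  obtain ⟨k, hk, hkl⟩ := lin_ex ip hip hip0 hip24 hipsq
  refine ⟨k, hk, ?_⟩
  intro a haA
  obtain ⟨ia, hia, rfl⟩ := hm.rng a (hc a haA)
  have key : lin k ia = true := by
    by_cases h0 : ia = 0
    · rw [h0]; exact (lin_zero k hk).1
    by_cases h24 : ia = 24
    · rw [h24]; exact (lin_zero k hk).2
    by_cases hsame : ia = ip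
    · rw [hsame]; exact hkl
    cases hsl : sameL ip ia with
    | true =>
      obtain ⟨k', hk', h1⟩ := anyN_spec hsl
      simp only [Bool.and_eq_true] at h1
      have := lin_uniq ip k' k hip hk' hk hip0 hip24 h1.1 hkl
      rw [← this]
      exact h1.2
    | false =>
      exfalso
      obtain ⟨r, hrA, hr'⟩ := exists_not_mem A
        ({1, x, ph ip, ph ia, ph ip * x, ph ia * x, ph ip * ph ia, ph ip * ph ia * x} : Set G) (by
          rw [hcard]
          have := card_set_le_eight (1 : G) x (ph ip) (ph ia) (ph ip * x) (ph ia * x)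
            (ph ip * ph ia) (ph ip * ph ia * x)
          omega)
      obtain ⟨ir, hir, rfl⟩ := hm.rng r (hc r hrA)
      have hir0 : ir ≠ 0 := fun h => hr' (by simp [h, hm.one])
      have h1 := cross ip ia ir hip hia hir hip0 h0 hir0 hip24 h24 hipsq
        (sq_code hm hia (hs _ haA)) (sq_code hm hir (hs _ hrA))
        ((hm.comm_iff hip hia).1 (hcomm _ hpA _ haA))
        ((hm.comm_iff hir hip).1 (hcomm _ hrA _ hpA))
        ((hm.comm_iff hir hia).1 (hcomm _ hrA _ haA)) hsl (Ne.symm hsame)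
      apply hr'
      rcases h1 with h1 | h1 | h1 | h1 | h1 | h1 | h1
      · simp [h1, hm.z]
      · simp [h1]
      · simp [h1]
      · rw [h1, hm.mul _ _ hip z_lt, hm.z]; simp
      · rw [h1, hm.mul _ _ hia z_lt, hm.z]; simp
      · rw [h1, hm.mul _ _ hip hia]; simp
      · rw [h1, hm.mul _ _ (mulC_lt _ hip _ hia) z_lt, hm.mul _ _ hip hia, hm.z]; simp
  have hh := hr_lt k hk
  refine ⟨cjC (invC (hr k)) ia, cjC_lt (invC_lt hh) hia, key, ?_⟩
  rw [hm.cj (invC_lt hh) hia, hm.inv hh]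
  group

/-- Fusion in `E` is controlled by its normaliser. -/
theorem exists_norm (hm : Mod x ph) {i : ℕ} (hi : i < 576) (hE : isE i = true) (hcl : Cl x (ph i)) :
    ∃ n : G, n * x * n⁻¹ = ph i ∧ n ∈ Subgroup.normalizer ((EG hm : Subgroup G) : Set G) := by
  classical
  obtain ⟨g, hg⟩ := hcl
  let A : Subgroup G := (EG hm).map (MulAut.conj g⁻¹).toMonoidHom
  have hmemA : ∀ a, a ∈ A ↔ g * a * g⁻¹ ∈ EG hm := by
    intro a
    constructor
    · rintro ⟨e, he, rfl⟩
      have : g * ((MulAut.conj g⁻¹).toMonoidHom e) * g⁻¹ = e := by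
        simp
        group
      rw [this]
      exact he
    · intro h
      refine ⟨_, h, ?_⟩
      simp
      group
  have hiE : ph i ∈ EG hm := ⟨i, hi, hE, rfl⟩
  have hxA : x ∈ A := by
    rw [hmemA, hg]
    exact hiE
  have hc : ∀ a ∈ A, a * x = x * a := by
    intro a ha
    have h1 := EG_comm hm ((hmemA a).1 ha) hiE
    rw [← hg] at h1
    have e1 : g * a * g⁻¹ * (g * x * g⁻¹) = g * (a * x) * g⁻¹ := by group
    have e2 : g * x * g⁻¹ * (g * a * g⁻¹) = g * (x * a) * g⁻¹ := by group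
    rw [e1, e2] at h1
    exact mul_left_cancel (mul_right_cancel h1)
  have hs : ∀ a ∈ A, a * a = 1 := by
    intro a ha
    have h1 := EG_sq hm ((hmemA a).1 ha)
    have e1 : g * a * g⁻¹ * (g * a * g⁻¹) = g * (a * a) * g⁻¹ := by group
    rw [e1] at h1
    have h2 : a * a = g⁻¹ * (g * (a * a) * g⁻¹) * g := by group
    rw [h2, h1]
    group
  have hcard : Nat.card A = 16 := by
    rw [← card_EG hm]
    exact Nat.card_congr ((EG hm).equivMapOfInjective _ (MulAut.conj g⁻¹).injective).toEquiv.symm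
  obtain ⟨k, hk, hk2⟩ := E16 hm A hxA hc hs hcard
  have hh := hr_lt k hk
  refine ⟨g * ph (hr k), ?_, ?_⟩
  · have h1 := hm.mem _ hh
    have : g * ph (hr k) * x * (g * ph (hr k))⁻¹ = g * (ph (hr k) * x * (ph (hr k))⁻¹) * g⁻¹ := by
      group
    rw [this]
    have h2 : ph (hr k) * x * (ph (hr k))⁻¹ = x := by
      rw [h1]; group
    rw [h2, hg]
  · have hinv : (g * ph (hr k))⁻¹ ∈ Subgroup.normalizer ((EG hm : Subgroup G) : Set G) := by
      apply Cfsg.Agent.Lib.TwoLocal2.mem_normalizer_of_conj_le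
      intro f hf
      have hfA : g⁻¹ * f * g ∈ A := by
        rw [hmemA]
        have : g * (g⁻¹ * f * g) * g⁻¹ = f := by group
        rw [this]
        exact hf
      obtain ⟨e, he, hE2, h3⟩ := hk2 _ hfA
      have h4 : (g * ph (hr k))⁻¹ * f * (g * ph (hr k))⁻¹⁻¹ = ph e := by
        have : (g * ph (hr k))⁻¹ * f * (g * ph (hr k))⁻¹⁻¹ =
            (ph (hr k))⁻¹ * (g⁻¹ * f * g) * ph (hr k) := by group
        rw [this, h3]
        group
      rw [h4]
      exact ⟨e, he, hE2, rfl⟩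
    have := Subgroup.inv_mem _ hinv
    simpa using this

/-- Elements of the normaliser of `E` have no action of order four. -/
theorem sq_cent (hm : Mod x ph) {y : G}
    (hy : y ∈ Subgroup.normalizer ((EG hm : Subgroup G) : Set G))
    (h4 : ∀ e ∈ EG hm, y ^ 4 * e = e * y ^ 4) : ∀ e ∈ EG hm, y ^ 2 * e = e * y ^ 2 := by
  classical
  have : Fact (Nat.Prime 2) := ⟨Nat.prime_two⟩
  obtain ⟨P, hP⟩ := exists_sylow hm
  set N := Subgroup.normalizer ((EG hm : Subgroup G) : Set G) with hN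
  have hconj : ∀ s ∈ SG hm, s ∈ N := by
    rintro _ ⟨s, hs, hsS, rfl⟩
    apply Cfsg.Agent.Lib.TwoLocal2.mem_normalizer_of_conj_le
    rintro _ ⟨e, he, heE, rfl⟩
    exact ⟨cjC s e, cjC_lt hs he, (S_E s e hs he hsS heE).1, hm.cj hs he⟩
  have hPN : (P : Subgroup G) ≤ N := by
    rw [hP]; exact hconj
  obtain ⟨k, m, hm1, hm2⟩ := Nat.exists_eq_two_pow_mul_odd (orderOf_pos y).ne'
  have hy2 : (y ^ m) ^ (2 ^ k) = 1 := by
    rw [← pow_mul, mul_comm, ← hm2, pow_orderOf_eq_one]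
  have hT : IsPGroup 2 (Subgroup.zpowers (y ^ m)) := by
    rintro ⟨z, hz⟩
    obtain ⟨l, rfl⟩ := Subgroup.mem_zpowers_iff.1 hz
    refine ⟨k, Subtype.ext ?_⟩
    show ((y ^ m) ^ l) ^ (2 ^ k) = 1
    rw [← zpow_natCast, ← zpow_mul, mul_comm, zpow_mul, zpow_natCast, hy2, one_zpow]
  have hym : y ^ m ∈ N := N.pow_mem hy m
  obtain ⟨c, hc, hcT⟩ := Cfsg.Agent.Lib.SylowConjLemmas.exists_conj_mem_of_le P N hPN
    (Subgroup.zpowers (y ^ m)) hT ((Subgroup.zpowers_le).2 hym)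
  have hs := hcT (y ^ m) (Subgroup.mem_zpowers _)
  rw [hP] at hs
  obtain ⟨s, hs1, hs2, hs3⟩ := hs
  have h2m : ∀ e ∈ EG hm, (y ^ m) ^ 2 * e = e * (y ^ m) ^ 2 := by
    intro e he
    have hce : c * e * c⁻¹ ∈ EG hm := (Subgroup.mem_normalizer_iff.1 hc e).1 he
    obtain ⟨f, hf, hfE, hf2⟩ := hce
    have h3 := (hm.comm_iff (mulC_lt _ hs1 _ hs1) hf).2 (S_E s f hs1 hf hs2 hfE).2
    rw [hm.mul _ _ hs1 hs1, hs3, hf2] at h3
    have e1 : c * y ^ m * c⁻¹ * (c * y ^ m * c⁻¹) * (c * e * c⁻¹) =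
        c * ((y ^ m) ^ 2 * e) * c⁻¹ := by
      rw [pow_two]; group
    have e2 : c * e * c⁻¹ * (c * y ^ m * c⁻¹ * (c * y ^ m * c⁻¹)) =
        c * (e * (y ^ m) ^ 2) * c⁻¹ := by
      rw [pow_two]; group
    rw [e1, e2] at h3
    exact mul_left_cancel (mul_right_cancel h3)
  intro e he
  obtain ⟨j, rfl⟩ := hm1
  have c1 : Commute (y ^ 4) e := h4 e he
  have c2 : Commute ((y ^ (2 * j + 1)) ^ 2) e := h2m e he
  have e3 : y ^ 2 = ((y ^ 4) ^ j)⁻¹ * (y ^ (2 * j + 1)) ^ 2 := by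
    rw [← pow_mul, ← pow_mul]
    have : (2 * j + 1) * 2 = 4 * j + 2 := by ring
    rw [this, pow_add]
    group
  have c3 : Commute (y ^ 2) e := by
    rw [e3]
    exact ((c1.pow_left j).inv_left).mul_left c2
  exact c3

end Cfsg.Agent.Lib.P43Fus
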