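import Mathlib
import Cfsg.Agent.Lib.P43Fus

/-!
# The fusion pattern
-/

set_option autoImplicit false
set_option linter.unusedVariables false
set_option linter.unusedSectionVars false
set_option maxHeartbeats 0
set_option maxRecDepth 100000

namespace Cfsg.Agent.Lib.P43Fus2

open Cfsg.Agent.Lib.P43Tab Cfsg.Agent.Lib.P43Mod Cfsg.Agent.Lib.P43Fa1 Cfsg.Agent.Lib.P43Syl
open Cfsg.Agent.Lib.P43Fa2 Cfsg.Agent.Lib.P43Z1 Cfsg.Agent.Lib.P43Fus

variable {G : Type*} [Group G] [Finite G] {x : G} {ph : ℕ → G}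

theorem sel_cases (v k a : ℕ) : sel v k a = a ∧ sel v k 0 = 0 ∨ sel v k a = 0 := by
  unfold sel
  cases Nat.beq (Nat.mod (Nat.shiftRight v k) 2) 1
  · right; rfl
  · left; exact ⟨rfl, rfl⟩

theorem sel_lt {v k a n : ℕ} (ha : a < n) (hn : 0 < n) : sel v k a < n := by
  unfold sel
  cases Nat.beq (Nat.mod (Nat.shiftRight v k) 2) 1
  · exact hn
  · exact ha

theorem ap_lt {m0 m1 m2 m3 : ℕ} (v : ℕ) (h0 : m0 < 16) (h1 : m1 < 16) (h2 : m2 < 16) (h3 : m3 < 16) :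
    ap m0 m1 m2 m3 v < 16 := by
  unfold ap
  have s0 : sel v 0 m0 < 2 ^ 4 := sel_lt h0 (by norm_num)
  have s1 : sel v 1 m1 < 2 ^ 4 := sel_lt h1 (by norm_num)
  have s2 : sel v 2 m2 < 2 ^ 4 := sel_lt h2 (by norm_num)
  have s3 : sel v 3 m3 < 2 ^ 4 := sel_lt h3 (by norm_num)
  have := Nat.xor_lt_two_pow (Nat.xor_lt_two_pow (Nat.xor_lt_two_pow s0 s1) s2) s3
  exact this

theorem mk_lt (m k : ℕ) : mk m k < 16 := by
  unfold mk
  exact Nat.mod_lt _ (by norm_num)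

theorem apP_lt (m v : ℕ) : apP m v < 16 := ap_lt v (mk_lt _ _) (mk_lt _ _) (mk_lt _ _) (mk_lt _ _)

theorem conj_sel (hm : Mod x ph) {n : G} {a m : ℕ} (v k : ℕ)
    (h : n * ph a * n⁻¹ = ph (eC m)) : n * ph (sel v k a) * n⁻¹ = ph (eC (sel v k m)) := by
  unfold sel
  cases Nat.beq (Nat.mod (Nat.shiftRight v k) 2) 1
  · show n * ph 0 * n⁻¹ = ph (eC 0)
    rw [eC_zero, hm.one]; group
  · exact h

theorem acts_of_basis (hm : Mod x ph) {n : G} {m0 m1 m2 m3 : ℕ} (h0 : m0 < 16) (h1 : m1 < 16)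
    (h2 : m2 < 16) (h3 : m3 < 16) (h0' : n * ph 24 * n⁻¹ = ph (eC m0))
    (h1' : n * ph 1 * n⁻¹ = ph (eC m1)) (h2' : n * ph 75 * n⁻¹ = ph (eC m2))
    (h3' : n * ph 375 * n⁻¹ = ph (eC m3)) (v : ℕ) :
    n * ph (eC v) * n⁻¹ = ph (eC (ap m0 m1 m2 m3 v)) := by
  have l0 : sel v 0 24 < 576 := sel_lt (by norm_num) (by norm_num)
  have l1 : sel v 1 1 < 576 := sel_lt (by norm_num) (by norm_num)
  have l2 : sel v 2 75 < 576 := sel_lt (by norm_num) (by norm_num)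
  have l3 : sel v 3 375 < 576 := sel_lt (by norm_num) (by norm_num)
  have e1 : ph (eC v) = ph (sel v 0 24) * ph (sel v 1 1) * ph (sel v 2 75) * ph (sel v 3 375) := by
    unfold eC
    rw [hm.mul _ _ (mulC_lt _ (mulC_lt _ l0 _ l1) _ l2) l3, hm.mul _ _ (mulC_lt _ l0 _ l1) l2,
      hm.mul _ _ l0 l1]
  have c0 := conj_sel hm v 0 h0'
  have c1 := conj_sel hm v 1 h1'
  have c2 := conj_sel hm v 2 h2'
  have c3 := conj_sel hm v 3 h3'
  have e2 : n * (ph (sel v 0 24) * ph (sel v 1 1) * ph (sel v 2 75) * ph (sel v 3 375)) * n⁻¹ =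
      (n * ph (sel v 0 24) * n⁻¹) * (n * ph (sel v 1 1) * n⁻¹) * (n * ph (sel v 2 75) * n⁻¹) *
        (n * ph (sel v 3 375) * n⁻¹) := by group
  rw [e1, e2, c0, c1, c2, c3]
  have s0 : sel v 0 m0 < 2 ^ 4 := sel_lt h0 (by norm_num)
  have s1 : sel v 1 m1 < 2 ^ 4 := sel_lt h1 (by norm_num)
  have s2 : sel v 2 m2 < 2 ^ 4 := sel_lt h2 (by norm_num)
  have s3 : sel v 3 m3 < 2 ^ 4 := sel_lt h3 (by norm_num)
  have x1 : Nat.xor (sel v 0 m0) (sel v 1 m1) < 2 ^ 4 := Nat.xor_lt_two_pow s0 s1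
  have x2 : Nat.xor (Nat.xor (sel v 0 m0) (sel v 1 m1)) (sel v 2 m2) < 2 ^ 4 :=
    Nat.xor_lt_two_pow x1 s2
  unfold ap
  rw [eC_xor _ _ x2 s3, eC_xor _ _ x1 s2, eC_xor _ _ s0 s1]
  have l00 := (eC_lt _ s0).1
  have l01 := (eC_lt _ s1).1
  have l02 := (eC_lt _ s2).1
  have l03 := (eC_lt _ s3).1
  rw [hm.mul _ _ (mulC_lt _ (mulC_lt _ l00 _ l01) _ l02) l03, hm.mul _ _ (mulC_lt _ l00 _ l01) l02,
    hm.mul _ _ l00 l01]

theorem eC_vals : eC 1 = 24 ∧ eC 2 = 1 ∧ eC 4 = 75 ∧ eC 8 = 375 ∧ eC 6 = 74 := by decide +kernel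

theorem basis_code (hm : Mod x ph) {n : G} (hn : n ∈ Subgroup.normalizer ((EG hm : Subgroup G) : Set G))
    {i : ℕ} (hi : i < 576) (hE : isE i = true) : ∃ m, m < 16 ∧ n * ph i * n⁻¹ = ph (eC m) := by
  have h1 : n * ph i * n⁻¹ ∈ EG hm := (Subgroup.mem_normalizer_iff.1 hn _).1 ⟨i, hi, hE, rfl⟩
  obtain ⟨e, he, heE, h2⟩ := h1
  obtain ⟨m, hm1, rfl⟩ := E_surj e he heE
  exact ⟨m, hm1, h2.symm⟩

theorem not_A (hm : Mod x ph) : ¬ Cl x (ph 74) := by
  intro hcl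
  obtain ⟨n, hn1, hn⟩ := exists_norm hm (i := 74) (by norm_num) (by decide +kernel) hcl
  obtain ⟨m1, hm1, h1'⟩ := basis_code hm hn (i := 1) (by norm_num) (by decide +kernel)
  obtain ⟨m2, hm2, h2'⟩ := basis_code hm hn (i := 75) (by norm_num) (by decide +kernel)
  obtain ⟨m3, hm3, h3'⟩ := basis_code hm hn (i := 375) (by norm_num) (by decide +kernel)
  have h0' : n * ph 24 * n⁻¹ = ph (eC 6) := by
    rw [eC_vals.2.2.2.2, hm.z, hn1]
  have hact := acts_of_basis hm (by norm_num) hm1 hm2 hm3 h0' h1' h2' h3'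
  have hinj : injM 6 m1 m2 m3 = true := by
    apply allN_of
    intro v hv
    apply impB_of
    intro hv0
    have hv1 : v ≠ 0 := by
      intro h
      rw [h] at hv0
      exact absurd hv0 (by decide)
    cases h5 : Nat.beq (ap 6 m1 m2 m3 v) 0 with
    | false => rfl
    | true =>
      exfalso
      have h6 := hact v
      rw [beq_spec h5, eC_zero, hm.one] at h6
      have h7 : ph (eC v) = 1 := by
        have : ph (eC v) = n⁻¹ * (n * ph (eC v) * n⁻¹) * n := by group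
        rw [this, h6]; group
      have h8 := (hm.eq_one_iff (eC_lt v hv).1).1 h7
      rw [← eC_zero] at h8
      exact hv1 (eC_inj v 0 hv (by norm_num) h8)
  obtain ⟨i, j, hi, hj, hord⟩ := no_A m1 m2 m3 hm1 hm2 hm3 hinj
  simp only [ord4, Bool.and_eq_true] at hord
  obtain ⟨hi1, hi2⟩ := bRep_act i hi
  obtain ⟨hj1, hj2⟩ := bRep_act j hj
  set a := bRep.getD i 0
  set b := bRep.getD j 0
  set A := bMat.getD i 0
  set B := bMat.getD j 0
  let y := n * ph a * n * ph b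
  have hya : ∀ v, v < 16 → y * ph (eC v) * y⁻¹ = ph (eC (fW 6 m1 m2 m3 A B v)) := by
    intro v hv
    have h1 : y * ph (eC v) * y⁻¹ =
        n * (ph a * (n * (ph b * ph (eC v) * (ph b)⁻¹) * n⁻¹) * (ph a)⁻¹) * n⁻¹ := by
      show n * ph a * n * ph b * ph (eC v) * (n * ph a * n * ph b)⁻¹ = _
      group
    have h2 : ph b * ph (eC v) * (ph b)⁻¹ = ph (eC (apP B v)) := by
      rw [← hm.cj hj1 (eC_lt v hv).1, hj2 v hv]
    have h3 : ph a * ph (eC (ap 6 m1 m2 m3 (apP B v))) * (ph a)⁻¹ =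
        ph (eC (apP A (ap 6 m1 m2 m3 (apP B v)))) := by
      have hl := ap_lt (apP B v) (by norm_num : 6 < 16) hm1 hm2 hm3
      rw [← hm.cj hi1 (eC_lt _ hl).1, hi2 _ hl]
    rw [h1, h2, hact, h3, hact]
    rfl
  have hfl : ∀ v, fW 6 m1 m2 m3 A B v < 16 := fun v =>
    ap_lt _ (by norm_num) hm1 hm2 hm3
  have hy2 : ∀ v, v < 16 → y ^ 2 * ph (eC v) * (y ^ 2)⁻¹ =
      ph (eC (fW 6 m1 m2 m3 A B (fW 6 m1 m2 m3 A B v))) := by
    intro v hv
    have : y ^ 2 * ph (eC v) * (y ^ 2)⁻¹ = y * (y * ph (eC v) * y⁻¹) * y⁻¹ := by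
      rw [pow_two]; group
    rw [this, hya v hv, hya _ (hfl v)]
  have hy4 : ∀ v, v < 16 → y ^ 4 * ph (eC v) * (y ^ 4)⁻¹ =
      ph (eC (fW 6 m1 m2 m3 A B (fW 6 m1 m2 m3 A B (fW 6 m1 m2 m3 A B (fW 6 m1 m2 m3 A B v))))) := by
    intro v hv
    have : y ^ 4 * ph (eC v) * (y ^ 4)⁻¹ = y ^ 2 * (y ^ 2 * ph (eC v) * (y ^ 2)⁻¹) * (y ^ 2)⁻¹ := by
      have : y ^ 4 = y ^ 2 * y ^ 2 := by rw [← pow_add]
      rw [this]; group
    rw [this, hy2 v hv, hy2 _ (hfl _)]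
  have hyN : y ∈ Subgroup.normalizer ((EG hm : Subgroup G) : Set G) := by
    apply Cfsg.Agent.Lib.TwoLocal2.mem_normalizer_of_conj_le
    rintro _ ⟨e, he, heE, rfl⟩
    obtain ⟨v, hv, rfl⟩ := E_surj e he heE
    rw [hya v hv]
    have hl := hfl v
    exact ⟨_, (eC_lt _ hl).1, (eC_lt _ hl).2, rfl⟩
  have hcen := sq_cent hm hyN (by
    rintro _ ⟨e, he, heE, rfl⟩
    obtain ⟨v, hv, rfl⟩ := E_surj e he heE
    have h1 := hy4 v hv
    have h2 := beq_spec (allN_spec hord.1 v hv)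
    rw [h2] at h1
    have h3 := congrArg (· * y ^ 4) h1
    simpa using h3)
  obtain ⟨v, hv, h9⟩ := anyN_spec hord.2
  have h10 := hcen (ph (eC v)) ⟨_, (eC_lt v hv).1, (eC_lt v hv).2, rfl⟩
  have h11 := hy2 v hv
  have h12 : y ^ 2 * ph (eC v) * (y ^ 2)⁻¹ = ph (eC v) := by
    rw [h10]; group
  rw [h12] at h11
  have h13 := hm.inj _ _ (eC_lt v hv).1 (eC_lt _ (hfl _)).1 h11
  have h14 := eC_inj _ _ hv (hfl _) h13
  rw [← h14] at h9
  simp at h9

theorem cl_of_code (hm : Mod x ph) {h i : ℕ} (hh : h < 576) (hi : i < 576)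
    (hc : Cl x (ph (cjC h i))) : Cl x (ph i) := by
  rw [hm.cj hh hi] at hc
  exact Cl.of_conj _ hc

theorem code_of_cl (hm : Mod x ph) {h i : ℕ} (hh : h < 576) (hi : i < 576)
    (hc : Cl x (ph i)) : Cl x (ph (cjC h i)) := by
  rw [hm.cj hh hi]
  exact hc.conj _

theorem not_both (hm : Mod x ph) (hB : Cl x (ph 1)) (hC : Cl x (ph 25)) : False := by
  have hA := not_A hm
  obtain ⟨n, hn1, hn⟩ := exists_norm hm (i := 1) (by norm_num) (by decide +kernel) hB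
  have key : ∀ i, i < 576 → isE i = true → isA i = true → ∃ f, f < 576 ∧ isE f = true ∧ isA f = true ∧
      n * ph i * n⁻¹ = ph f := by
    intro i hi hiE hiA
    have h1 : n * ph i * n⁻¹ ∈ EG hm := (Subgroup.mem_normalizer_iff.1 hn _).1 ⟨i, hi, hiE, rfl⟩
    obtain ⟨f, hf, hfE, h2⟩ := h1
    refine ⟨f, hf, hfE, ?_, h2.symm⟩
    have hne : f ≠ 0 := by
      intro h3
      rw [h3, hm.one] at h2
      have : ph i = 1 := by
        have e : ph i = n⁻¹ * (n * ph i * n⁻¹) * n := by group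
        rw [e, ← h2]; group
      have h4 := (hm.eq_one_iff hi).1 this
      rw [h4] at hiA
      exact absurd hiA (by decide +kernel)
    have hcl0 : ¬ Cl x (ph f) := by
      intro hf2
      rw [h2] at hf2
      have h5 : Cl x (ph i) := Cl.of_conj n hf2
      obtain ⟨h6, h7, h8⟩ := trans_A i hi hiA
      rw [← h8] at h5
      exact hA (cl_of_code hm h7 (by norm_num) h5)
    rcases inv_class f hf hne (E_elem f f hf hf hfE hfE).1 with h3 | h3 | h3 | h3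
    · exfalso
      apply hcl0
      rw [h3, hm.z]
      exact Cl.refl x
    · exact h3
    · exfalso
      apply hcl0
      obtain ⟨h6, h7, h8⟩ := trans_B f hf h3
      rw [← h8]
      exact code_of_cl hm h7 (by norm_num) hB
    · exfalso
      apply hcl0
      obtain ⟨h6, h7, h8⟩ := trans_C f hf h3
      rw [← h8]
      exact code_of_cl hm h7 (by norm_num) hC
  obtain ⟨f1, hf1, hf1E, hf1A, h1⟩ := key 74 (by norm_num) (by decide +kernel) types_base.1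
  obtain ⟨f2, hf2, hf2E, hf2A, h2⟩ := key 50 (by norm_num) (by decide +kernel) types_base.2.2.2
  have h3 : ph 74 * ph 50 = x := by
    rw [← hm.mul 74 50 (by norm_num) (by norm_num), mul_74_50, hm.z]
  have h4 : n * x * n⁻¹ = ph f1 * ph f2 := by
    rw [← h1, ← h2, ← h3]; group
  rw [hn1, ← hm.mul _ _ hf1 hf2] at h4
  have h5 := hm.inj _ _ (by norm_num) (mulC_lt _ hf1 _ hf2) h4
  exact A_prod f1 f2 hf1 hf2 hf1E hf2E hf1A hf2A h5.symm

end Cfsg.Agent.Lib.P43Fus2
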