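import Mathlib
import Cfsg.Agent.Lib.P43Fus2

/-!
# The fusion pattern, final form
-/

set_option autoImplicit false
set_option linter.unusedVariables false
set_option linter.unusedSectionVars false
set_option maxHeartbeats 0
set_option maxRecDepth 100000

namespace Cfsg.Agent.Lib.P43Fus3

open Cfsg.Agent.Lib.P43Tab Cfsg.Agent.Lib.P43Mod Cfsg.Agent.Lib.P43Fa1 Cfsg.Agent.Lib.P43Syl
open Cfsg.Agent.Lib.P43Fa2 Cfsg.Agent.Lib.P43Z1 Cfsg.Agent.Lib.P43Fus Cfsg.Agent.Lib.P43Fus2

variable {G : Type*} [Group G] [Finite G] {x : G} {ph : ℕ → G}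

theorem cS_nfC (a b s : ℕ) : cS (nfC a b s) = s % 2 := by
  unfold cS nfC
  cases Nat.blt a 12 with
  | true =>
    show (a * 48 + b * 2 + s) % 2 = s % 2
    omega
  | false =>
    show ((a - 12) * 48 + ((b + 12) % 24) * 2 + s) % 2 = s % 2
    omega

theorem cS_lt (c : ℕ) : cS c = 0 ∨ cS c = 1 := by
  unfold cS
  show c % 2 = 0 ∨ c % 2 = 1
  omega

theorem cS_mul (i j : ℕ) : cS (mulC i j) = (cS i + cS j) % 2 := by
  unfold mulC
  rcases cS_lt i with h | h <;> rcases cS_lt j with h2 | h2 <;> rw [h, h2] <;>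
    simp only [cond_true, cond_false, Nat.beq] <;> rw [cS_nfC]

theorem B_facts : ∀ i, i < 576 → isB i = true → cS i = 1 ∧ isC (mulC 24 i) = true := by
  have h := allN_spec (n := 576) (p := fun i => impB (isB i)
    (Nat.beq (cS i) 1 && isC (mulC 24 i))) (by decide +kernel)
  intro i hi h1
  have h3 := impB_spec (h i hi) h1
  simp only [Bool.and_eq_true] at h3
  exact ⟨beq_spec h3.1, h3.2⟩

theorem C_facts : ∀ i, i < 576 → isC i = true → cS i = 1 ∧ isB (mulC 24 i) = true := by
  have h := allN_spec (n := 576) (p := fun i => impB (isC i)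
    (Nat.beq (cS i) 1 && isB (mulC 24 i))) (by decide +kernel)
  intro i hi h1
  have h3 := impB_spec (h i hi) h1
  simp only [Bool.and_eq_true] at h3
  exact ⟨beq_spec h3.1, h3.2⟩

theorem A_facts : ∀ i, i < 576 → isA i = true → cS i = 0 ∧ isA (mulC 24 i) = true := by
  have h := allN_spec (n := 576) (p := fun i => impB (isA i)
    (Nat.beq (cS i) 0 && isA (mulC 24 i))) (by decide +kernel)
  intro i hi h1
  have h3 := impB_spec (h i hi) h1
  simp only [Bool.and_eq_true] at h3
  exact ⟨beq_spec h3.1, h3.2⟩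

theorem cS_z : cS 24 = 0 := by decide

/-- The twisted parametrisation. -/
def twist (x : G) (ph : ℕ → G) (i : ℕ) : G := bif Nat.beq (cS i) 0 then ph i else x * ph i

theorem twist_zero {i : ℕ} (h : cS i = 0) : twist x ph i = ph i := by
  unfold twist
  rw [h]
  rfl

theorem twist_one {i : ℕ} (h : cS i = 1) : twist x ph i = x * ph i := by
  unfold twist
  rw [h]
  rfl

theorem twist_mod (hm : Mod x ph) : Mod x (twist x ph) where
  mul i j hi hj := by
    have hxx := x_sq hm
    have hc : ∀ k, k < 576 → ph k * x = x * ph k := hm.mem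
    rcases cS_lt i with h | h <;> rcases cS_lt j with h2 | h2
    · rw [twist_zero h, twist_zero h2, twist_zero (by rw [cS_mul, h, h2]), hm.mul i j hi hj]
    · rw [twist_zero h, twist_one h2, twist_one (by rw [cS_mul, h, h2]), hm.mul i j hi hj]
      calc x * (ph i * ph j) = (x * ph i) * ph j := by group
        _ = (ph i * x) * ph j := by rw [hc i hi]
        _ = _ := by group
    · rw [twist_one h, twist_zero h2, twist_one (by rw [cS_mul, h, h2]), hm.mul i j hi hj]
      group
    · rw [twist_one h, twist_one h2, twist_zero (by rw [cS_mul, h, h2]), hm.mul i j hi hj]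
      calc ph i * ph j = ph i * 1 * ph j := by group
        _ = ph i * (x * x) * ph j := by rw [hxx]
        _ = (ph i * x) * x * ph j := by group
        _ = (x * ph i) * x * ph j := by rw [hc i hi]
        _ = _ := by group
  inj i j hi hj h := by
    rcases cS_lt i with h1 | h1 <;> rcases cS_lt j with h2 | h2
    · rw [twist_zero h1, twist_zero h2] at h
      exact hm.inj i j hi hj h
    · exfalso
      rw [twist_zero h1, twist_one h2, ← hm.z, ← hm.mul 24 j z_lt hj, hm.eq_iff hi (mulC_lt _ z_lt _ hj)] at h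
      have := cS_mul 24 j
      rw [← h, h1, h2, cS_z] at this
      omega
    · exfalso
      rw [twist_one h1, twist_zero h2, ← hm.z, ← hm.mul 24 i z_lt hi, hm.eq_iff (mulC_lt _ z_lt _ hi) hj] at h
      have := cS_mul 24 i
      rw [h, h1, h2, cS_z] at this
      omega
    · rw [twist_one h1, twist_one h2] at h
      exact hm.inj i j hi hj (mul_left_cancel h)
  rng g hg := by
    obtain ⟨i, hi, rfl⟩ := hm.rng g hg
    rcases cS_lt i with h1 | h1
    · exact ⟨i, hi, twist_zero h1⟩
    · refine ⟨mulC 24 i, mulC_lt _ z_lt _ hi, ?_⟩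
      have h2 : cS (mulC 24 i) = 1 := by rw [cS_mul, h1, cS_z]
      rw [twist_one h2, hm.mul 24 i z_lt hi, hm.z, ← mul_assoc, x_sq hm, one_mul]
  mem i hi := by
    rcases cS_lt i with h1 | h1
    · rw [twist_zero h1]; exact hm.mem i hi
    · rw [twist_one h1, mul_assoc, hm.mem i hi]
  z := by
    rw [twist_zero cS_z]; exact hm.z

/-- The fusion pattern. -/
structure Fus (x : G) (ph : ℕ → G) : Prop where
  hm : Mod x ph
  hB : ∀ i, i < 576 → isB i = true → Cl x (ph i)
  hA : ∀ i, i < 576 → isA i = true → ¬ Cl x (ph i)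
  hC : ∀ i, i < 576 → isC i = true → ¬ Cl x (ph i)

theorem base_lt : (74 : ℕ) < 576 ∧ (1 : ℕ) < 576 ∧ (25 : ℕ) < 576 := by norm_num

theorem cl_A (hm : Mod x ph) {i : ℕ} (hi : i < 576) (hA : isA i = true) (h : Cl x (ph i)) :
    Cl x (ph 74) := by
  obtain ⟨k, hk, h2⟩ := trans_A i hi hA
  rw [← h2] at h
  exact cl_of_code hm hk base_lt.1 h

theorem cl_B (hm : Mod x ph) {i : ℕ} (hi : i < 576) (hA : isB i = true) (h : Cl x (ph i)) :
    Cl x (ph 1) := by
  obtain ⟨k, hk, h2⟩ := trans_B i hi hA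
  rw [← h2] at h
  exact cl_of_code hm hk base_lt.2.1 h

theorem cl_C (hm : Mod x ph) {i : ℕ} (hi : i < 576) (hA : isC i = true) (h : Cl x (ph i)) :
    Cl x (ph 25) := by
  obtain ⟨k, hk, h2⟩ := trans_C i hi hA
  rw [← h2] at h
  exact cl_of_code hm hk base_lt.2.2 h

theorem cl_B' (hm : Mod x ph) {i : ℕ} (hi : i < 576) (hA : isB i = true) (h : Cl x (ph 1)) :
    Cl x (ph i) := by
  obtain ⟨k, hk, h2⟩ := trans_B i hi hA
  rw [← h2]
  exact code_of_cl hm hk base_lt.2.1 h

theorem cl_C' (hm : Mod x ph) {i : ℕ} (hi : i < 576) (hA : isC i = true) (h : Cl x (ph 25)) :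
    Cl x (ph i) := by
  obtain ⟨k, hk, h2⟩ := trans_C i hi hA
  rw [← h2]
  exact code_of_cl hm hk base_lt.2.2 h

theorem exists_fus (hm : Mod x ph) (hG : ∀ H : Subgroup G, H.index ≠ 2) : ∃ ph', Fus x ph' := by
  have hA := not_A hm
  by_cases hB : Cl x (ph 1)
  · have hC : ¬ Cl x (ph 25) := fun hC => not_both hm hB hC
    exact ⟨ph, hm, fun i hi h => cl_B' hm hi h hB, fun i hi h h2 => hA (cl_A hm hi h h2),
      fun i hi h h2 => hC (cl_C hm hi h h2)⟩
  · by_cases hC : Cl x (ph 25)
    · refine ⟨twist x ph, twist_mod hm, ?_, ?_, ?_⟩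
      · intro i hi h
        obtain ⟨h1, h2⟩ := B_facts i hi h
        have e : x * ph i = ph (mulC 24 i) := by rw [hm.mul 24 i z_lt hi, hm.z]
        rw [twist_one h1, e]
        exact cl_C' hm (mulC_lt _ z_lt _ hi) h2 hC
      · intro i hi h h3
        obtain ⟨h1, h2⟩ := A_facts i hi h
        rw [twist_zero h1] at h3
        exact hA (cl_A hm hi h h3)
      · intro i hi h h3
        obtain ⟨h1, h2⟩ := C_facts i hi h
        have e : x * ph i = ph (mulC 24 i) := by rw [hm.mul 24 i z_lt hi, hm.z]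
        rw [twist_one h1, e] at h3
        exact hB (cl_B hm (mulC_lt _ z_lt _ hi) h2 h3)
    · exfalso
      apply no_isolated hm hG
      intro g hg
      obtain ⟨i, hi, hiS, h1⟩ := hg
      have hcl : Cl x (ph i) := ⟨g, h1.symm⟩
      have hi0 : i ≠ 0 := by
        intro h0
        rw [h0, hm.one] at h1
        apply x_ne_one hm
        have e : x = g⁻¹ * (g * x * g⁻¹) * g := by group
        rw [e, ← h1]
        group
      have hsq : mulC i i = 0 := by
        apply hm.inj _ _ (mulC_lt _ hi _ hi) zero_lt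
        rw [hm.mul i i hi hi, h1, hm.one]
        calc g * x * g⁻¹ * (g * x * g⁻¹) = g * (x * x) * g⁻¹ := by group
          _ = 1 := by rw [x_sq hm]; group
      rcases inv_class i hi hi0 hsq with h2 | h2 | h2 | h2
      · rw [← h1, h2, hm.z]
      · exact absurd (cl_A hm hi h2 hcl) hA
      · exact absurd (cl_B hm hi h2 hcl) hB
      · exact absurd (cl_C hm hi h2 hcl) hC

/-- The conjugate of a fusion pattern. -/
theorem Fus.conj (hf : Fus x ph) (g : G) : Fus (g * x * g⁻¹) (fun i => g * ph i * g⁻¹) where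
  hm := hf.hm.conj g
  hB i hi h := by
    have h1 := hf.hB i hi h
    have h2 : Cl (g * x * g⁻¹) x := ⟨g⁻¹, by group⟩
    exact h2.trans (h1.conj g)
  hA i hi h h3 := by
    apply hf.hA i hi h
    have h2 : Cl x (g * x * g⁻¹) := ⟨g, rfl⟩
    exact Cl.of_conj g (h2.trans h3)
  hC i hi h h3 := by
    apply hf.hC i hi h
    have h2 : Cl x (g * x * g⁻¹) := ⟨g, rfl⟩
    exact Cl.of_conj g (h2.trans h3)

theorem Fus.inv_type (hf : Fus x ph) {i : ℕ} (hi : i < 576) (h0 : i ≠ 0) (hsq : mulC i i = 0)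
    (h24 : i ≠ 24) (hcl : Cl x (ph i)) : isB i = true := by
  rcases inv_class i hi h0 hsq with h2 | h2 | h2 | h2
  · exact absurd h2 h24
  · exact absurd hcl (hf.hA i hi h2)
  · exact h2
  · exact absurd hcl (hf.hC i hi h2)

end Cfsg.Agent.Lib.P43Fus3
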