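import Mathlib
import Cfsg.Agent.Lib.P43Fus3
import Cfsg.Agent.Lib.BSWGroup

/-!
# The centraliser of an involution of the second class
-/

set_option autoImplicit false
set_option linter.unusedVariables false
set_option linter.unusedSectionVars false
set_option maxHeartbeats 0
set_option maxRecDepth 100000

namespace Cfsg.Agent.Lib.P43C1

open Cfsg.Agent.Lib.P43Tab Cfsg.Agent.Lib.P43Mod Cfsg.Agent.Lib.P43Fa1 Cfsg.Agent.Lib.P43Syl
open Cfsg.Agent.Lib.P43Fa2 Cfsg.Agent.Lib.P43Z1 Cfsg.Agent.Lib.P43Fus Cfsg.Agent.Lib.P43Fus2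
open Cfsg.Agent.Lib.P43Fus3

section abstract

variable {C : Type*} [Group C] [Finite C]

theorem odd_elem {N : Subgroup C} (hN : Odd (Nat.card N)) {y : C} (hy : y ∈ N) {k : ℕ}
    (h : y ^ (2 ^ k) = 1) : y = 1 := by
  have h1 : orderOf y ∣ 2 ^ k := orderOf_dvd_of_pow_eq_one h
  have h2 : orderOf y ∣ Nat.card N := by
    have := orderOf_dvd_natCard (⟨y, hy⟩ : N)
    rwa [Subgroup.orderOf_mk] at this
  have h3 : Nat.Coprime (Nat.card N) (2 ^ k) :=
    Nat.Coprime.pow_right _ (Nat.coprime_two_right.mpr hN)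
  have h4 : orderOf y = 1 := Nat.Coprime.eq_one_of_dvd (Nat.Coprime.coprime_dvd_left h2 h3) h1
  exact orderOf_eq_one_iff.mp h4

/-- The quotient argument. -/
theorem abstract_R1 {u a d1 d2 d3 : C} (hu : ∀ c : C, c * u = u * c) (huu : u * u = 1)
    (haa : a * a = 1) (ha1 : a ≠ 1) (hau : a ≠ u)
    (T : Subgroup C) (hTp : IsPGroup 2 T) (huT : u ∈ T) (haT : a ∈ T)
    (hmax : ∀ R : Subgroup C, IsPGroup 2 R → T ≤ R → R = T)
    (hiso : ∀ c : C, c * a * c⁻¹ ∈ T → c * a * c⁻¹ = a ∨ c * a * c⁻¹ = a * u)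
    (hd1 : d1 * d1 = 1) (hd2 : d2 * d2 = 1) (hd3 : d3 * d3 = 1) (hprod : d1 * d2 * d3 = u)
    (hf1 : ∀ w : C, w * d1 = d1 * w → w ^ 4 = 1)
    (hf2 : ∀ w : C, w * d2 = d2 * w → w ^ 4 = 1)
    (hf3 : ∀ w : C, w * d3 = d3 * w → w ^ 4 = 1) :
    ∀ c : C, c * a * c⁻¹ = a ∨ c * a * c⁻¹ = a * u := by
  classical
  have : Fact (Nat.Prime 2) := ⟨Nat.prime_two⟩
  let U₀ : Subgroup C := Subgroup.zpowers u
  have hUmem : ∀ y, y ∈ U₀ ↔ y = 1 ∨ y = u := by
    intro y
    constructor
    · intro hy
      obtain ⟨k, rfl⟩ := Subgroup.mem_zpowers_iff.1 hy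
      have h2 : u ^ (2 : ℤ) = 1 := by
        rw [zpow_two, huu]
      rcases Int.emod_two_eq_zero_or_one k with h | h
      · left
        have : k = 2 * (k / 2) := by omega
        rw [this, zpow_mul, h2, one_zpow]
      · right
        have : k = 2 * (k / 2) + 1 := by omega
        rw [this, zpow_add, zpow_mul, h2, one_zpow, one_mul, zpow_one]
    · rintro (rfl | rfl)
      · exact U₀.one_mem
      · exact Subgroup.mem_zpowers _
  have hUn : U₀.Normal := by
    constructor
    intro n hn g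
    rcases (hUmem n).1 hn with rfl | rfl
    · simp
    · have : g * n * g⁻¹ = n := by
        rw [hu g]; group
      rw [this]
      exact hn
  let π : C →* C ⧸ U₀ := QuotientGroup.mk' U₀
  have hπ : Function.Surjective π := QuotientGroup.mk'_surjective U₀
  have hπ1 : ∀ y, π y = 1 ↔ y = 1 ∨ y = u := by
    intro y
    rw [← hUmem]
    exact QuotientGroup.eq_one_iff y
  have hπu : π u = 1 := (hπ1 u).2 (Or.inr rfl)
  -- Sylow
  have hTb : IsPGroup 2 (T.map π) := hTp.map π
  obtain ⟨P, hP⟩ := hTb.exists_le_sylow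
  have hcomap : P.comap π = T := by
    apply hmax
    · rintro ⟨r, hr⟩
      have hr' : π r ∈ (P : Subgroup (C ⧸ U₀)) := hr
      obtain ⟨k, hk⟩ := P.isPGroup' ⟨π r, hr'⟩
      have hk2 : π (r ^ 2 ^ k) = 1 := by
        rw [map_pow]
        exact congrArg Subtype.val hk
      refine ⟨k + 1, Subtype.ext ?_⟩
      show r ^ 2 ^ (k + 1) = 1
      rw [pow_succ, pow_mul]
      rcases (hπ1 _).1 hk2 with h | h
      · rw [h, one_pow]
      · rw [h, pow_two, huu]
    · intro r hr
      exact hP ⟨r, hr, rfl⟩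
  have hmemP : ∀ r, π r ∈ (P : Subgroup (C ⧸ U₀)) ↔ r ∈ T := by
    intro r
    rw [← hcomap]
    rfl
  have haa' : π a * π a = 1 := by rw [← map_mul, haa, map_one]
  have hab : π a ≠ 1 := by
    intro h
    rcases (hπ1 a).1 h with h | h
    · exact ha1 h
    · exact hau h
  have hord : orderOf (π a) = 2 := by
    apply orderOf_eq_prime
    · rw [pow_two]; exact haa'
    · exact hab
  have hπau : π (a * u) = π a := by rw [map_mul, hπu, mul_one]
  obtain ⟨N, hNn, hNo, hcomm⟩ := Cfsg.Agent.S0215.result P (π a) hord ((hmemP a).2 haT) (by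
    intro g hg
    obtain ⟨c, rfl⟩ := hπ g
    have e : π c * π a * (π c)⁻¹ = π (c * a * c⁻¹) := by simp
    have hg' : π c * π a * (π c)⁻¹ ∈ (P : Subgroup (C ⧸ U₀)) := hg
    rw [e] at hg' ⊢
    rcases hiso c ((hmemP _).1 hg') with h | h
    · rw [h]
    · rw [h, hπau])
  have hfpf : ∀ d : C, d * d = 1 → (∀ w : C, w * d = d * w → w ^ 4 = 1) →
      ∀ n ∈ N, π d * n * (π d)⁻¹ = n → n = 1 := by
    intro d hd hfd n hn h1
    obtain ⟨m, rfl⟩ := hπ n
    have h2 : π (d * m * d⁻¹ * m⁻¹) = 1 := by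
      rw [map_mul, map_mul, map_mul, map_inv, map_inv, h1]
      group
    have h3 : d * (m * m) * d⁻¹ = m * m := by
      rcases (hπ1 _).1 h2 with h | h
      · have e : d * m * d⁻¹ = m := by
          have := congrArg (· * m) h
          simpa using this
        calc d * (m * m) * d⁻¹ = (d * m * d⁻¹) * (d * m * d⁻¹) := by group
          _ = m * m := by rw [e]
      · have e : d * m * d⁻¹ = u * m := by
          have := congrArg (· * m) h
          simpa using this
        calc d * (m * m) * d⁻¹ = (d * m * d⁻¹) * (d * m * d⁻¹) := by group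
          _ = (u * m) * (u * m) := by rw [e]
          _ = u * (m * u) * m := by group
          _ = u * (u * m) * m := by rw [hu m]
          _ = (u * u) * (m * m) := by group
          _ = m * m := by rw [huu, one_mul]
    have h4 : (m * m) * d = d * (m * m) := by
      have := congrArg (· * d) h3
      simpa using this.symm
    have h5 := hfd _ h4
    apply odd_elem hNo hn (k := 3)
    have e : (2 : ℕ) ^ 3 = 2 * 4 := by norm_num
    rw [e, pow_mul, pow_two, ← map_mul, ← map_pow, h5, map_one]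
  have hinv : ∀ d : C, d * d = 1 → (∀ w : C, w * d = d * w → w ^ 4 = 1) →
      ∀ n ∈ N, π d * n * (π d)⁻¹ = n⁻¹ := by
    intro d hd hfd
    apply Cfsg.Agent.Lib.BSW.fpf_inverts N
    · rw [← map_mul, hd, map_one]
    · intro n hn
      exact hNn.conj_mem n hn _
    · exact hfpf d hd hfd
  have hbot : ∀ n ∈ N, n = 1 := by
    intro n hn
    have i1 := hinv d1 hd1 hf1
    have i2 := hinv d2 hd2 hf2
    have i3 := hinv d3 hd3 hf3
    have hp : π d3 = (π d2)⁻¹ * (π d1)⁻¹ := by
      have h1 : π d1 * π d2 * π d3 = 1 := by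
        rw [← map_mul, ← map_mul, hprod, hπu]
      have e : π d3 = (π d1 * π d2)⁻¹ * (π d1 * π d2 * π d3) := by group
      rw [e, h1]
      group
    have hp2 : π d2 * n⁻¹ * (π d2)⁻¹ = n := by
      have := i2 n⁻¹ (N.inv_mem hn)
      simpa using this
    have h3 := i3 n hn
    have h4 : π d3 * n * (π d3)⁻¹ = (π d2)⁻¹ * ((π d1)⁻¹ * n * π d1) * π d2 := by
      rw [hp]; group
    have id1 : (π d1)⁻¹ = π d1 := by
      apply inv_eq_of_mul_eq_one_left
      rw [← map_mul, hd1, map_one]
    have id2 : (π d2)⁻¹ = π d2 := by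
      apply inv_eq_of_mul_eq_one_left
      rw [← map_mul, hd2, map_one]
    have h5 : (π d1)⁻¹ * n * π d1 = n⁻¹ := by
      have := i1 n hn
      rw [id1] at this ⊢
      exact this
    have h6 : (π d2)⁻¹ * n⁻¹ * π d2 = n := by
      rw [id2] at hp2 ⊢
      exact hp2
    rw [h5, h6] at h4
    rw [h3] at h4
    apply odd_elem hNo hn (k := 1)
    have e : n⁻¹ * n⁻¹ = 1 := by
      have := congrArg (· * n⁻¹) h4
      simpa using this
    have e2 : n ^ 2 ^ 1 = (n⁻¹ * n⁻¹)⁻¹ := by
      simp [pow_two]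
    rw [e2, e, inv_one]
  intro c
  have h1 := hbot _ (hcomm (π c))
  have h2 : π (a * c * a⁻¹ * c⁻¹) = 1 := by
    rw [map_mul, map_mul, map_mul, map_inv, map_inv]
    exact h1
  have ia : a⁻¹ = a := inv_eq_of_mul_eq_one_left haa
  have e : c * a * c⁻¹ = a * (a * c * a⁻¹ * c⁻¹) := by
    rw [ia]
    calc c * a * c⁻¹ = 1 * c * a * c⁻¹ := by group
      _ = (a * a) * c * a * c⁻¹ := by rw [haa]
      _ = _ := by group
  rcases (hπ1 _).1 h2 with h | h
  · left
    rw [e, h, mul_one]
  · right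
    rw [e, h]

end abstract

variable {G : Type*} [Group G] [Finite G] {x : G} {ph : ℕ → G}

/-- A large two-subgroup centralising `ph 74` does not exist. -/
theorem no_big (hf : Fus x ph) (R : Subgroup G) (hp : IsPGroup 2 R) (huR : ph 74 ∈ R)
    (hc : ∀ r ∈ R, r * ph 74 = ph 74 * r) (hcard : 32 < Nat.card R) : False := by
  classical
  have : Fact (Nat.Prime 2) := ⟨Nat.prime_two⟩
  have hm := hf.hm
  obtain ⟨P, hP⟩ := exists_sylow hm
  obtain ⟨g, hg⟩ := Cfsg.Agent.Lib.SylowConjLemmas.exists_conj_mem P R hp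
  let R' : Subgroup G := R.map (MulAut.conj g).toMonoidHom
  have hle : R' ≤ SG hm := by
    rintro _ ⟨r, hr, rfl⟩
    have := hg r hr
    rw [hP] at this
    exact this
  have hcR : Nat.card R' = Nat.card R :=
    Nat.card_congr (R.equivMapOfInjective _ (MulAut.conj g).injective).toEquiv.symm
  have hdvd : Nat.card R' ∣ Nat.card (SG hm) := Subgroup.card_dvd_of_le hle
  rw [card_SG, hcR] at hdvd
  have h64 : Nat.card R = 64 := by
    obtain ⟨k, hk⟩ := hdvd
    have hk1 : k = 1 := by
      have : k < 2 := by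
        by_contra h2
        have : 2 ≤ k := by omega
        nlinarith
      have : k ≠ 0 := by
        rintro rfl
        omega
      omega
    rw [hk1] at hk
    omega
  have heq : R' = SG hm := Subgroup.eq_of_le_of_card_ge hle (by rw [card_SG, hcR, h64])
  have hy : g * ph 74 * g⁻¹ ∈ SG hm := by
    rw [← heq]
    exact ⟨_, huR, rfl⟩
  obtain ⟨i, hi, hiS, hiy⟩ := hy
  have hcomm : ∀ j, j < 576 → isS j = true → cmC i j = true := by
    intro j hj hjS
    rw [← hm.comm_iff hi hj, hiy]
    have h1 : ph j ∈ R' := by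
      rw [heq]; exact ⟨j, hj, hjS, rfl⟩
    obtain ⟨r, hr, hr2⟩ := h1
    have h2 : ph j = g * r * g⁻¹ := hr2.symm
    rw [h2]
    have h3 := hc r hr
    calc g * ph 74 * g⁻¹ * (g * r * g⁻¹) = g * (ph 74 * r) * g⁻¹ := by group
      _ = g * (r * ph 74) * g⁻¹ := by rw [h3]
      _ = _ := by group
  rcases centre_S i hi hiS hcomm with h0 | h24
  · rw [h0, hm.one] at hiy
    have h74 : ph 74 = 1 := by
      have e : ph 74 = g⁻¹ * (g * ph 74 * g⁻¹) * g := by group
      rw [e, ← hiy]
      group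
    have := (hm.eq_one_iff (by norm_num)).1 h74
    omega
  · rw [h24, hm.z] at hiy
    exact hf.hA 74 (by norm_num) types_base.1 ⟨g⁻¹, by rw [hiy]; group⟩

/-- The centraliser of `ph 74` in `C(x)`, as a predicate. -/
def isT (i : ℕ) : Bool := cmC i 74

theorem isT_zero : isT 0 = true := by decide +kernel

theorem isT_mul : ∀ i j, i < 576 → j < 576 → isT i = true → isT j = true → isT (mulC i j) = true := by
  have h := allN_spec (n := 576) (p := fun i => impB (isT i)
    (allN 576 fun j => impB (isT j) (isT (mulC i j)))) (by decide +kernel)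
  intro i j hi hj h1 h2
  exact impB_spec (allN_spec (impB_spec (h i hi) h1) j hj) h2

theorem isT_inv : ∀ i, i < 576 → isT i = true → isT (invC i) = true := by
  have h := allN_spec (n := 576) (p := fun i => impB (isT i) (isT (invC i))) (by decide +kernel)
  intro i hi h1
  exact impB_spec (h i hi) h1

theorem card_T : ((Finset.range 576).filter (fun i => isT i = true)).card = 32 := by decide +kernel

theorem isT_exp : ∀ i, i < 576 → isT i = true → powC i 4 = 0 := by
  have h := allN_spec (n := 576) (p := fun i => impB (isT i) (Nat.beq (powC i 4) 0)) (by decide +kernel)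
  intro i hi h1
  exact beq_spec (impB_spec (h i hi) h1)

theorem P_check : ∀ i, i < 576 → isT i = true → (Nat.beq i 24 || isB i) = true →
    (Nat.beq (mulC i 74) 24 || isB (mulC i 74)) = true → i = 1 ∨ i = 75 := by
  have h := allN_spec (n := 576) (p := fun i => impB (isT i && (Nat.beq i 24 || isB i) &&
    (Nat.beq (mulC i 74) 24 || isB (mulC i 74))) (Nat.beq i 1 || Nat.beq i 75)) (by decide +kernel)
  intro i hi h1 h2 h3
  have h4 := impB_spec (h i hi) (by simp only [Bool.and_eq_true]; exact ⟨⟨h1, h2⟩, h3⟩)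
  simp only [Bool.or_eq_true] at h4
  rcases h4 with h4 | h4
  · exact Or.inl (beq_spec h4)
  · exact Or.inr (beq_spec h4)

theorem A_exp : ∀ v j, v < 576 → j < 576 → isA v = true → cmC j v = true → powC j 4 = 0 := by
  have h := allN_spec (n := 576) (p := fun v => impB (isA v)
    (allN 576 fun j => impB (cmC j v) (Nat.beq (powC j 4) 0))) (by decide +kernel)
  intro v j hv hj h1 h2
  exact beq_spec (impB_spec (allN_spec (impB_spec (h v hv) h1) j hj) h2)

theorem code_facts : mulC 1 75 = 74 ∧ mulC (mulC 24 375) 575 = 74 ∧ mulC 24 74 = 50 ∧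
    mulC 375 74 = 551 ∧ mulC 575 74 = 351 ∧ isC 551 = true ∧ isC 351 = true ∧ isB 375 = true ∧
    isB 575 = true ∧ isB 1 = true ∧ isB 75 = true ∧ isA 50 = true ∧ mulC 74 1 = 75 ∧
    isT 1 = true ∧ isT 74 = true ∧ cmC 24 74 = true ∧ cmC 375 74 = true ∧ cmC 575 74 = true ∧
    cmC 1 74 = true ∧ cmC 75 74 = true ∧ mulC 1 74 = 75 := by decide +kernel

theorem type_of_cl (hf : Fus x ph) {i : ℕ} (hi : i < 576) {y : G} (hiy : ph i = y) (hy1 : y ≠ 1)
    (hyy : y * y = 1) (hcl : Cl x y) : (Nat.beq i 24 || isB i) = true := by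
  have hm := hf.hm
  subst hiy
  have h0 : i ≠ 0 := fun h => hy1 (by rw [h, hm.one])
  have hsq : mulC i i = 0 := by
    apply hm.inj _ _ (mulC_lt _ hi _ hi) zero_lt
    rw [hm.mul i i hi hi, hyy, hm.one]
  by_cases h24 : i = 24
  · rw [h24]; rfl
  · rw [hf.inv_type hi h0 hsq h24 hcl]
    simp

/-- Elements commuting with a point of the first class and an element not of the form `b z`. -/
theorem frame_A (hf : Fus x ph) {a u w : G} (ha : Cl x a) (hau : a * u = u * a) (hu1 : u ≠ 1)
    (huu : u * u = 1) (hua : u ≠ a) (hcu : ¬ Cl x u) (hcau : ¬ Cl x (a * u)) (hw1 : w * a = a * w)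
    (hw2 : w * u = u * w) : w ^ 4 = 1 := by
  obtain ⟨g, rfl⟩ := ha
  have hF := hf.conj g
  have hm := hF.hm
  obtain ⟨v, hv, rfl⟩ := hm.rng u hau.symm
  obtain ⟨j, hj, rfl⟩ := hm.rng w hw1
  have hv0 : v ≠ 0 := fun h => hu1 (by rw [h, hm.one])
  have hv24 : v ≠ 24 := fun h => hua (by rw [h, hm.z])
  have hvsq : mulC v v = 0 := by
    apply hm.inj _ _ (mulC_lt _ hv _ hv) zero_lt
    rw [hm.mul v v hv hv, huu, hm.one]
  have hxg : Cl x (g * x * g⁻¹) := ⟨g, rfl⟩
  have hvA : isA v = true := by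
    rcases inv_class v hv hv0 hvsq with h | h | h | h
    · exact absurd h hv24
    · exact h
    · exact absurd (hxg.trans (hF.hB v hv h)) hcu
    · exfalso
      obtain ⟨h1, h2⟩ := C_facts v hv h
      have h3 := hF.hB _ (mulC_lt _ z_lt _ hv) h2
      rw [hm.mul 24 v z_lt hv, hm.z] at h3
      exact hcau (hxg.trans h3)
  have h4 := A_exp v j hv hj hvA ((hm.comm_iff hj hv).1 hw2)
  have h5 := hm.pow hj 4
  rw [h4, hm.one] at h5
  exact h5.2.symm

/-- Every element centralising `ph 74` fixes the pair. -/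
theorem R1 (hf : Fus x ph) {c : G} (hc : c * ph 74 = ph 74 * c) :
    c * ph 1 * c⁻¹ = ph 1 ∨ c * ph 1 * c⁻¹ = ph 75 := by
  classical
  have : Fact (Nat.Prime 2) := ⟨Nat.prime_two⟩
  have hm := hf.hm
  obtain ⟨f1, f2, f3, f4, f5, f6, f7, f8, f9, f10, f11, f12, f13, f14, f15, f16, f17, f18, f19, f20, f21⟩ :=
    code_facts
  set u := ph 74 with hu
  let CC : Subgroup G := Subgroup.centralizer {u}
  have hCC : ∀ y, y ∈ CC ↔ y * u = u * y := fun y => Subgroup.mem_centralizer_singleton_iff
  have hsq : ∀ i, i < 576 → mulC i i = 0 → ph i * ph i = 1 := by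
    intro i hi h
    rw [← hm.mul i i hi hi, h, hm.one]
  have hlt74 : (74 : ℕ) < 576 := by norm_num
  have hcomm : ∀ i, i < 576 → cmC i 74 = true → ph i ∈ CC := by
    intro i hi h
    rw [hCC]
    exact (hm.comm_iff hi hlt74).2 h
  let U : CC := ⟨u, (hCC u).2 rfl⟩
  let A : CC := ⟨ph 1, hcomm 1 (by norm_num) f19⟩
  let D1 : CC := ⟨ph 24, hcomm 24 (by norm_num) f16⟩
  let D2 : CC := ⟨ph 375, hcomm 375 (by norm_num) f17⟩
  let D3 : CC := ⟨ph 575, hcomm 575 (by norm_num) f18⟩
  have h74 : mulC 74 74 = 0 := by decide +kernel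
  have huu : U * U = 1 := Subtype.ext (hsq 74 hlt74 h74)
  have hU : ∀ c : CC, c * U = U * c := by
    rintro ⟨c, hc⟩
    exact Subtype.ext ((hCC c).1 hc)
  let T' : Subgroup G := subQ hm isT isT_zero isT_mul isT_inv
  have hT'c : Nat.card T' = 32 := by
    have := card_subQ hm (q := isT) (h0 := isT_zero) (hq := isT_mul) (hi := isT_inv)
    rw [card_T] at this
    exact this
  have hT'CC : T' ≤ CC := by
    rintro _ ⟨i, hi, hiT, rfl⟩
    exact hcomm i hi hiT
  have hT'p : ∀ y ∈ T', y ^ 4 = 1 := by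
    rintro _ ⟨i, hi, hiT, rfl⟩
    have h5 := hm.pow hi 4
    rw [isT_exp i hi hiT, hm.one] at h5
    exact h5.2.symm
  let T : Subgroup CC := T'.subgroupOf CC
  have hne_z : ∀ {i j : ℕ}, i < 576 → j < 576 → i ≠ j → ph i ≠ ph j := by
    intro i j hi hj hij h
    exact hij (hm.inj i j hi hj h)
  have key := abstract_R1 (u := U) (a := A) (d1 := D1) (d2 := D2) (d3 := D3) hU huu
    (Subtype.ext (hsq 1 (by norm_num) (by decide +kernel)))
    (fun h => by
      have h1 : ph 1 = 1 := congrArg Subtype.val h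
      have := (hm.eq_one_iff (by norm_num)).1 h1
      omega)
    (fun h => by
      have h1 : ph 1 = ph 74 := congrArg Subtype.val h
      have := hm.inj _ _ (by norm_num) (by norm_num) h1
      omega) T
    (by
      rintro ⟨y, hy⟩
      refine ⟨2, Subtype.ext (Subtype.ext ?_)⟩
      have hy' : (y : G) ∈ T' := Subgroup.mem_subgroupOf.1 hy
      show (y : G) ^ (2 ^ 2) = 1
      exact hT'p _ hy')
    (Subgroup.mem_subgroupOf.2 ⟨74, hlt74, f15, rfl⟩)
    (Subgroup.mem_subgroupOf.2 ⟨1, by norm_num, f14, rfl⟩)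
    (by
      intro R hR hTR
      by_contra hne
      let R' : Subgroup G := R.map CC.subtype
      have hR'p : IsPGroup 2 R' := hR.map CC.subtype
      have hTR' : T' ≤ R' := by
        intro y hy
        exact ⟨⟨y, hT'CC hy⟩, hTR (Subgroup.mem_subgroupOf.2 hy), rfl⟩
      by_cases hc32 : Nat.card R' ≤ 32
      · have heq : T' = R' := Subgroup.eq_of_le_of_card_ge hTR' (by rw [hT'c]; exact hc32)
        apply hne
        apply le_antisymm _ hTR
        intro y hy
        have : (y : G) ∈ R' := ⟨y, hy, rfl⟩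
        rw [← heq] at this
        exact Subgroup.mem_subgroupOf.2 this
      · apply no_big hf R' hR'p (hTR' ⟨74, hlt74, f15, rfl⟩) _ (by omega)
        rintro _ ⟨r, hr, rfl⟩
        exact (hCC _).1 r.2)
    (by
      rintro ⟨c, hc⟩ hcT
      have hcT' : c * ph 1 * c⁻¹ ∈ T' := Subgroup.mem_subgroupOf.1 hcT
      obtain ⟨i, hi, hiT, hiy⟩ := hcT'
      have hcl1 : Cl x (ph 1) := hf.hB 1 (by norm_num) f10
      have hcl2 : Cl x (ph 75) := hf.hB 75 (by norm_num) f11
      have hclI : Cl x (ph i) := by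
        rw [hiy]
        exact hcl1.conj c
      have hcu : c * u * c⁻¹ = u := by
        rw [(hCC c).1 hc]; group
      have hi2 : ph (mulC i 74) = c * ph 75 * c⁻¹ := by
        calc ph (mulC i 74) = ph i * u := hm.mul i 74 hi hlt74
          _ = c * ph 1 * c⁻¹ * (c * u * c⁻¹) := by rw [hiy, hcu]
          _ = c * (ph 1 * u) * c⁻¹ := by group
          _ = c * ph 75 * c⁻¹ := by
            rw [hu, ← hm.mul 1 74 (by norm_num) hlt74, f21]
      have hne1 : ∀ k, k < 576 → k ≠ 0 → c * ph k * c⁻¹ ≠ 1 := by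
        intro k hk hk0 h
        have e : ph k = c⁻¹ * (c * ph k * c⁻¹) * c := by group
        rw [h] at e
        exact hk0 ((hm.eq_one_iff hk).1 (by rw [e]; group))
      have hsq1 : ∀ k, k < 576 → mulC k k = 0 → c * ph k * c⁻¹ * (c * ph k * c⁻¹) = 1 := by
        intro k hk h
        calc c * ph k * c⁻¹ * (c * ph k * c⁻¹) = c * (ph k * ph k) * c⁻¹ := by group
          _ = 1 := by rw [hsq k hk h]; group
      have hi3 := mulC_lt i hi 74 hlt74
      have t1 := type_of_cl hf hi hiy (hne1 1 (by norm_num) (by norm_num))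
        (hsq1 1 (by norm_num) (by decide +kernel)) (by rw [← hiy]; exact hclI)
      have t2 := type_of_cl hf hi3 hi2 (hne1 75 (by norm_num) (by norm_num))
        (hsq1 75 (by norm_num) (by decide +kernel)) (by rw [← hi2]; exact hcl2.conj c |>.trans (by rw [hi2]; exact Cl.refl _))
      rcases P_check i hi hiT t1 t2 with h | h
      · left
        apply Subtype.ext
        show c * ph 1 * c⁻¹ = ph 1
        rw [← hiy, h]
      · right
        apply Subtype.ext
        show c * ph 1 * c⁻¹ = ph 1 * u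
        rw [← hiy, h, hu, ← hm.mul 1 74 (by norm_num) hlt74, f21])
    (Subtype.ext (hsq 24 z_lt (by decide +kernel)))
    (Subtype.ext (hsq 375 (by norm_num) (by decide +kernel)))
    (Subtype.ext (hsq 575 (by norm_num) (by decide +kernel)))
    (Subtype.ext (by
      show ph 24 * ph 375 * ph 575 = ph 74
      rw [← hm.mul 24 375 z_lt (by norm_num), ← hm.mul _ _ (mulC_lt _ z_lt _ (by norm_num)) (by norm_num), f2]))
    (by
      rintro ⟨w, hw⟩ hw2
      apply Subtype.ext
      refine frame_A hf (u := u) (a := ph 24) (Cl.refl x |>.trans (by rw [hm.z]; exact Cl.refl x))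
        ((hm.comm_iff z_lt hlt74).2 f16) ?_ (hsq 74 hlt74 h74) ?_ (hf.hA 74 hlt74 types_base.1) ?_
        (congrArg Subtype.val hw2) ((hCC w).1 hw)
      · intro h
        have := (hm.eq_one_iff hlt74).1 h
        omega
      · intro h
        have := hm.inj _ _ hlt74 z_lt h
        omega
      · rw [hu, ← hm.mul 24 74 z_lt hlt74, f3]
        exact hf.hA 50 (by norm_num) f12)
    (by
      rintro ⟨w, hw⟩ hw2
      apply Subtype.ext
      refine frame_A hf (u := u) (a := ph 375) (hf.hB 375 (by norm_num) f8)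
        ((hm.comm_iff (by norm_num) hlt74).2 f17) ?_ (hsq 74 hlt74 h74) ?_ (hf.hA 74 hlt74 types_base.1) ?_
        (congrArg Subtype.val hw2) ((hCC w).1 hw)
      · intro h
        have := (hm.eq_one_iff hlt74).1 h
        omega
      · intro h
        have := hm.inj _ _ hlt74 (by norm_num) h
        omega
      · rw [hu, ← hm.mul 375 74 (by norm_num) hlt74, f4]
        exact hf.hC 551 (by norm_num) f6)
    (by
      rintro ⟨w, hw⟩ hw2
      apply Subtype.ext
      refine frame_A hf (u := u) (a := ph 575) (hf.hB 575 (by norm_num) f9)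
        ((hm.comm_iff (by norm_num) hlt74).2 f18) ?_ (hsq 74 hlt74 h74) ?_ (hf.hA 74 hlt74 types_base.1) ?_
        (congrArg Subtype.val hw2) ((hCC w).1 hw)
      · intro h
        have := (hm.eq_one_iff hlt74).1 h
        omega
      · intro h
        have := hm.inj _ _ hlt74 (by norm_num) h
        omega
      · rw [hu, ← hm.mul 575 74 (by norm_num) hlt74, f5]
        exact hf.hC 351 (by norm_num) f7)
  rcases key ⟨c, (hCC c).2 hc⟩ with h | h
  · left
    exact congrArg Subtype.val h
  · right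
    have h2 : c * ph 1 * c⁻¹ = ph 1 * u := congrArg Subtype.val h
    rw [h2, hu, ← hm.mul 1 74 (by norm_num) hlt74, f21]

end Cfsg.Agent.Lib.P43C1
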