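import Mathlib
import Cfsg.Agent.Lib.P43C1

/-!
# Consequences: the points commuting with an involution of the second class
-/

set_option autoImplicit false
set_option linter.unusedVariables false
set_option linter.unusedSectionVars false
set_option maxHeartbeats 0
set_option maxRecDepth 100000

namespace Cfsg.Agent.Lib.P43C2

open Cfsg.Agent.Lib.P43Tab Cfsg.Agent.Lib.P43Mod Cfsg.Agent.Lib.P43Fa1 Cfsg.Agent.Lib.P43Syl
open Cfsg.Agent.Lib.P43Fa2 Cfsg.Agent.Lib.P43Z1 Cfsg.Agent.Lib.P43Fus Cfsg.Agent.Lib.P43Fus2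
open Cfsg.Agent.Lib.P43Fus3 Cfsg.Agent.Lib.P43C1

variable {G : Type*} [Group G] [Finite G] {x : G} {ph : ℕ → G}

/-- The points. -/
def isD (c : ℕ) : Bool := Nat.beq c 24 || Nat.beq c 1 || Nat.beq c 75 || Nat.beq c 375 || Nat.beq c 575

theorem isD_facts : ∀ d, d < 576 → isD d = true →
    isE d = true ∧ mulC d d = 0 ∧ d ≠ 0 ∧ (Nat.beq d 24 || isB d) = true := by
  have h := allN_spec (n := 576) (p := fun d => impB (isD d)
    (isE d && Nat.beq (mulC d d) 0 && !Nat.beq d 0 && (Nat.beq d 24 || isB d))) (by decide +kernel)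
  intro d hd h1
  have h2 := impB_spec (h d hd) h1
  simp only [Bool.and_eq_true, Bool.not_eq_true'] at h2
  refine ⟨h2.1.1.1, beq_spec h2.1.1.2, ?_, h2.2⟩
  intro h3
  rw [h3] at h2
  exact absurd h2.1.2 (by decide)

theorem D_of_E : ∀ d, d < 576 → isE d = true → (Nat.beq d 24 || isB d) = true → isD d = true := by
  have h := allN_spec (n := 576) (p := fun d => impB (isE d && (Nat.beq d 24 || isB d)) (isD d))
    (by decide +kernel)
  intro d hd h1 h2
  exact impB_spec (h d hd) (by simp only [Bool.and_eq_true]; exact ⟨h1, h2⟩)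

theorem D_lt {d : ℕ} (h : isD d = true) : d < 576 := by
  unfold isD at h
  simp only [Bool.or_eq_true] at h
  rcases h with (((h | h) | h) | h) | h <;> rw [beq_spec h] <;> norm_num

theorem D_cl (hf : Fus x ph) {d : ℕ} (hd : isD d = true) : Cl x (ph d) := by
  have hd' := D_lt hd
  have h := (isD_facts d hd' hd).2.2.2
  simp only [Bool.or_eq_true] at h
  rcases h with h | h
  · rw [beq_spec h, hf.hm.z]
    exact Cl.refl x
  · exact hf.hB d hd' h

theorem code2 : ∀ v, v < 576 → mulC 24 (mulC 24 v) = v ∧ (mulC v v = 0 → mulC (mulC 24 v) (mulC 24 v) = 0) := by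
  have h := allN_spec (n := 576) (p := fun v => Nat.beq (mulC 24 (mulC 24 v)) v &&
    impB (Nat.beq (mulC v v) 0) (Nat.beq (mulC (mulC 24 v) (mulC 24 v)) 0)) (by decide +kernel)
  intro v hv
  have h1 := h v hv
  simp only [Bool.and_eq_true] at h1
  exact ⟨beq_spec h1.1, fun h2 => beq_spec (impB_spec h1.2 (beq_of_eq h2))⟩

theorem mul24 : mulC 24 0 = 24 ∧ mulC 24 24 = 0 := by decide +kernel

/-- The code of the second involution of a pair. -/
theorem C_type (hf : Fus x ph) (g : G) {v : ℕ} (hv : v < 576) (h0 : v ≠ 0) (h24 : v ≠ 24)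
    (hsq : mulC v v = 0) (hcl : Cl x (g * x * g⁻¹ * (g * ph v * g⁻¹))) : isC v = true := by
  have hF := hf.conj g
  have hm := hF.hm
  have hlt := mulC_lt 24 z_lt v hv
  obtain ⟨c1, c2⟩ := code2 v hv
  have e : g * x * g⁻¹ * (g * ph v * g⁻¹) = g * ph (mulC 24 v) * g⁻¹ := by
    have := hm.mul 24 v z_lt hv
    rw [this, hf.hm.z]
  rw [e] at hcl
  have hc0 : Cl (g * x * g⁻¹) x := ⟨g⁻¹, by group⟩
  have hcl' : Cl (g * x * g⁻¹) (g * ph (mulC 24 v) * g⁻¹) := hc0.trans hcl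
  have h1 : mulC 24 v ≠ 0 := by
    intro h
    rw [h, mul24.1] at c1
    exact h24 c1.symm
  have h2 : mulC 24 v ≠ 24 := by
    intro h
    rw [h, mul24.2] at c1
    exact h0 c1.symm
  have h3 := hF.inv_type hlt h1 (c2 hsq) h2 hcl'
  have h4 := (B_facts _ hlt h3).2
  rwa [c1] at h4

/-- Transitivity on pairs. -/
theorem trans_pair (hf : Fus x ph) {g g' : G} {v v' : ℕ} (hv : v < 576) (hv' : v' < 576)
    (h1 : isC v = true) (h2 : isC v' = true) (e : g * ph v * g⁻¹ = g' * ph v' * g'⁻¹) :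
    ∃ c : G, c * (g * x * g⁻¹) * c⁻¹ = g' * x * g'⁻¹ ∧
      c * (g * ph v * g⁻¹) * c⁻¹ = g * ph v * g⁻¹ := by
  have hm := hf.hm
  obtain ⟨k, hk, hk2⟩ := trans_C v hv h1
  obtain ⟨k', hk', hk2'⟩ := trans_C v' hv' h2
  have a1 : ph v = ph k * ph 25 * (ph k)⁻¹ := by
    rw [← hk2, hm.cj hk (by norm_num)]
  have a2 : ph v' = ph k' * ph 25 * (ph k')⁻¹ := by
    rw [← hk2', hm.cj hk' (by norm_num)]
  have cx : ∀ j, j < 576 → ph j * x * (ph j)⁻¹ = x := by
    intro j hj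
    rw [hm.mem j hj]
    group
  refine ⟨g' * ph k' * (ph k)⁻¹ * g⁻¹, ?_, ?_⟩
  · have : g' * ph k' * (ph k)⁻¹ * g⁻¹ * (g * x * g⁻¹) * (g' * ph k' * (ph k)⁻¹ * g⁻¹)⁻¹ =
        g' * (ph k' * ((ph k)⁻¹ * x * (ph k)⁻¹⁻¹) * (ph k')⁻¹) * g'⁻¹ := by group
    rw [this]
    have h3 : (ph k)⁻¹ * x * (ph k)⁻¹⁻¹ = x := by
      have := cx k hk
      calc (ph k)⁻¹ * x * (ph k)⁻¹⁻¹ = (ph k)⁻¹ * (ph k * x * (ph k)⁻¹) * (ph k)⁻¹⁻¹ := by rw [this]
        _ = x := by group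
    rw [h3, cx k' hk']
  · have : g' * ph k' * (ph k)⁻¹ * g⁻¹ * (g * ph v * g⁻¹) * (g' * ph k' * (ph k)⁻¹ * g⁻¹)⁻¹ =
        g' * (ph k' * ((ph k)⁻¹ * ph v * ph k) * (ph k')⁻¹) * g'⁻¹ := by group
    rw [this, e]
    have h3 : (ph k)⁻¹ * ph v * ph k = ph 25 := by
      rw [a1]; group
    rw [h3, a2]

theorem u_facts (hf : Fus x ph) : ph 74 ≠ 1 ∧ ph 74 * ph 74 = 1 ∧ ¬ Cl x (ph 74) := by
  have hm := hf.hm
  refine ⟨?_, ?_, hf.hA 74 (by norm_num) types_base.1⟩
  · intro h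
    have := (hm.eq_one_iff (by norm_num)).1 h
    omega
  · rw [← hm.mul 74 74 (by norm_num) (by norm_num)]
    rw [show mulC 74 74 = 0 by decide +kernel, hm.one]

/-- The frame of an element commuting with `ph 74`. -/
theorem frame_code (hf : Fus x ph) (g : G) (hc : g * x * g⁻¹ * ph 74 = ph 74 * (g * x * g⁻¹)) :
    ∃ v, v < 576 ∧ g * ph v * g⁻¹ = ph 74 ∧ v ≠ 0 ∧ v ≠ 24 ∧ mulC v v = 0 := by
  have hF := hf.conj g
  have hm := hF.hm
  obtain ⟨h1, h2, h3⟩ := u_facts hf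
  obtain ⟨v, hv, e⟩ := hm.rng (ph 74) hc.symm
  refine ⟨v, hv, e, ?_, ?_, ?_⟩
  · intro h
    rw [h, hm.one] at e
    exact h1 e.symm
  · intro h
    rw [h, hf.hm.z] at e
    exact h3 ⟨g, e⟩
  · apply hm.inj _ _ (mulC_lt _ hv _ hv) zero_lt
    rw [hm.mul v v hv hv, e, h2, hm.one]

/-- The pair is determined by the element of the second class. -/
theorem pair_trans (hf : Fus x ph) {y y' : G} (hy : Cl x y) (hy' : Cl x y') (hyu : y * ph 74 = ph 74 * y)
    (hyu' : y' * ph 74 = ph 74 * y') (h2 : Cl x (y * ph 74)) (h2' : Cl x (y' * ph 74)) :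
    ∃ c : G, c * y * c⁻¹ = y' ∧ c * ph 74 = ph 74 * c := by
  obtain ⟨g, rfl⟩ := hy
  obtain ⟨g', rfl⟩ := hy'
  obtain ⟨v, hv, e, a1, a2, a3⟩ := frame_code hf g hyu
  obtain ⟨v', hv', e', a1', a2', a3'⟩ := frame_code hf g' hyu'
  have c1 := C_type hf g hv a1 a2 a3 (by rw [e]; exact h2)
  have c2 := C_type hf g' hv' a1' a2' a3' (by rw [e']; exact h2')
  obtain ⟨c, h1, h3⟩ := trans_pair hf hv hv' c1 c2 (by rw [e, e'])
  refine ⟨c, h1, ?_⟩
  rw [e] at h3
  have := congrArg (· * c) h3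
  simpa using this

theorem codes : mulC 1 74 = 75 ∧ mulC 75 74 = 1 ∧ cmC 1 74 = true ∧ cmC 75 74 = true ∧
    isB 1 = true ∧ isB 75 = true ∧ mulC 1 75 = 74 ∧ cmC 1 75 = true := by decide +kernel

theorem pair1 (hf : Fus x ph) : ph 1 * ph 74 = ph 75 ∧ ph 75 * ph 74 = ph 1 ∧
    ph 1 * ph 74 = ph 74 * ph 1 ∧ ph 75 * ph 74 = ph 74 * ph 75 ∧ Cl x (ph 1) ∧ Cl x (ph 75) := by
  have hm := hf.hm
  obtain ⟨c1, c2, c3, c4, c5, c6, c7, c8⟩ := codes
  refine ⟨?_, ?_, (hm.comm_iff (by norm_num) (by norm_num)).2 c3,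
    (hm.comm_iff (by norm_num) (by norm_num)).2 c4, hf.hB 1 (by norm_num) c5, hf.hB 75 (by norm_num) c6⟩
  · rw [← hm.mul 1 74 (by norm_num) (by norm_num), c1]
  · rw [← hm.mul 75 74 (by norm_num) (by norm_num), c2]

/-- The pair of `ph 74`. -/
theorem pair_eq (hf : Fus x ph) {y : G} (hy : Cl x y) (hyu : y * ph 74 = ph 74 * y)
    (h2 : Cl x (y * ph 74)) : y = ph 1 ∨ y = ph 75 := by
  obtain ⟨p1, p2, p3, p4, p5, p6⟩ := pair1 hf
  obtain ⟨c, h1, h3⟩ := pair_trans hf p5 hy p3 hyu (by rw [p1]; exact p6) h2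
  rw [← h1]
  exact R1 hf h3

/-- The swap of the pair. -/
theorem pair_swap (hf : Fus x ph) : ∃ c : G, c * ph 1 * c⁻¹ = ph 75 ∧ c * ph 74 = ph 74 * c := by
  obtain ⟨p1, p2, p3, p4, p5, p6⟩ := pair1 hf
  exact pair_trans hf p5 p6 p3 p4 (by rw [p1]; exact p6) (by rw [p2]; exact p5)

/-- Elements normalising the elementary abelian subgroup. -/
def isNm (c : ℕ) : Bool := allN 576 fun e => impB (isE e) (isE (cjC c e))

theorem isN_check : ∀ k e, k < 576 → e < 576 → isE e = true → e ≠ 0 → e ≠ 24 → isE (cjC k e) = true →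
    isN k = true := by
  have h := allN_spec (n := 576) (p := fun e => impB (isE e && !Nat.beq e 0 && !Nat.beq e 24)
    (allN 576 fun k => impB (isE (cjC k e)) (isN k))) (by decide +kernel)
  intro k e hk he h1 h2 h3 h4
  have e0 : Nat.beq e 0 = false := by
    cases h7 : Nat.beq e 0 with
    | false => rfl
    | true => exact absurd (beq_spec h7) h2
  have e2 : Nat.beq e 24 = false := by
    cases h7 : Nat.beq e 24 with
    | false => rfl
    | true => exact absurd (beq_spec h7) h3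
  have := impB_spec (h e he) (by simp [h1, e0, e2])
  exact impB_spec (allN_spec this k hk) h4

theorem isN_norm : ∀ k e, k < 576 → e < 576 → isN k = true → isE e = true → isE (cjC k e) = true := by
  have h := allN_spec (n := 576) (p := fun k => impB (isN k)
    (allN 576 fun e => impB (isE e) (isE (cjC k e)))) (by decide +kernel)
  intro k e hk he h1 h2
  exact impB_spec (allN_spec (impB_spec (h k hk) h1) e he) h2

theorem isN_mem (hm : Mod x ph) {k : ℕ} (hk : k < 576) (h : isN k = true) :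
    ph k ∈ Subgroup.normalizer ((EG hm : Subgroup G) : Set G) := by
  apply Cfsg.Agent.Lib.TwoLocal2.mem_normalizer_of_conj_le
  rintro _ ⟨e, he, heE, rfl⟩
  exact ⟨_, cjC_lt hk he, isN_norm k e hk he h heE, hm.cj hk he⟩

/-- Every element of `E` outside the points and one is a product of two points. -/
theorem E_split : ∀ e, e < 576 → isE e = true → e ≠ 0 → isD e = false →
    ∃ d d', d < 576 ∧ d' < 576 ∧ isD d = true ∧ isD d' = true ∧ mulC d e = d' := by
  have h := allN_spec (n := 576) (p := fun e => impB (isE e && !Nat.beq e 0 && !isD e)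
    (anyN 576 fun d => anyN 576 fun d' => isD d && isD d' && Nat.beq (mulC d e) d')) (by decide +kernel)
  intro e he h1 h2 h3
  have e0 : Nat.beq e 0 = false := by
    cases h7 : Nat.beq e 0 with
    | false => rfl
    | true => exact absurd (beq_spec h7) h2
  have h4 := impB_spec (h e he) (by simp [h1, e0, h3])
  obtain ⟨d, hd, h5⟩ := anyN_spec h4
  obtain ⟨d', hd', h6⟩ := anyN_spec h5
  simp only [Bool.and_eq_true] at h6
  exact ⟨d, d', hd, hd', h6.1.1, h6.1.2, beq_spec h6.2⟩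

theorem lin_code : ∀ k v, k < 3 → v < 576 → lin k v = true → isE (cjC (invC (hr k)) v) = true :=
  fun k v _ _ h => h

theorem conj_of_code (hm : Mod x ph) {n : G} (hn : n ∈ Subgroup.normalizer ((EG hm : Subgroup G) : Set G))
    {e : ℕ} (he : e < 576) (hE : isE e = true) : ∃ f, f < 576 ∧ isE f = true ∧ n * ph e * n⁻¹ = ph f := by
  obtain ⟨f, hf, hfE, h⟩ := (Subgroup.mem_normalizer_iff.1 hn _).1 (⟨e, he, hE, rfl⟩ : ph e ∈ EG hm)
  exact ⟨f, hf, hfE, h.symm⟩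

/-- The elements of the first class commuting with `ph 74` are the five points. -/
theorem point_of_comm (hf : Fus x ph) {y : G} (hy : Cl x y) (hyu : y * ph 74 = ph 74 * y) :
    ∃ d, isD d = true ∧ y = ph d := by
  have hm := hf.hm
  obtain ⟨h74a, h74b, h74c⟩ := u_facts hf
  obtain ⟨g, rfl⟩ := hy
  obtain ⟨v, hv, e, a1, a2, a3⟩ := frame_code hf g hyu
  obtain ⟨k, hk, hkl⟩ := lin_ex v hv a1 a2 a3
  have hκ := hr_lt k hk
  set κ := hr k with hκdef
  set e0 := cjC (invC κ) v with he0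
  have he0E : isE e0 = true := hkl
  have he0lt : e0 < 576 := cjC_lt (invC_lt hκ) hv
  have cx : ∀ j, j < 576 → ph j * x * (ph j)⁻¹ = x := by
    intro j hj
    rw [hm.mem j hj]
    group
  let h := g * ph κ
  have hx : h * x * h⁻¹ = g * x * g⁻¹ := by
    show g * ph κ * x * (g * ph κ)⁻¹ = _
    have : g * ph κ * x * (g * ph κ)⁻¹ = g * (ph κ * x * (ph κ)⁻¹) * g⁻¹ := by group
    rw [this, cx κ hκ]
  have hu : h * ph e0 * h⁻¹ = ph 74 := by
    rw [he0, hm.cj (invC_lt hκ) hv, hm.inv hκ, ← e]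
    show g * ph κ * _ * (g * ph κ)⁻¹ = _
    group
  have hee0 : e0 ≠ 0 := by
    intro h0
    rw [h0, hm.one] at hu
    apply h74a
    rw [← hu]
    group
  have hD0 : isD e0 = false := by
    cases h1 : isD e0 with
    | false => rfl
    | true =>
      exfalso
      apply h74c
      rw [← hu]
      exact (D_cl hf h1).conj h
  obtain ⟨d, d', hd, hd', hdD, hdD', hdd⟩ := E_split e0 he0lt he0E hee0 hD0
  have hcl1 : Cl x (h * ph d * h⁻¹) := (D_cl hf hdD).conj h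
  have hcomm0 : ph d * ph e0 = ph e0 * ph d := (hm.comm_iff hd he0lt).2
    (E_elem d e0 hd he0lt (isD_facts d hd hdD).1 he0E).2
  have hcl1c : h * ph d * h⁻¹ * ph 74 = ph 74 * (h * ph d * h⁻¹) := by
    rw [← hu]
    calc h * ph d * h⁻¹ * (h * ph e0 * h⁻¹) = h * (ph d * ph e0) * h⁻¹ := by group
      _ = h * (ph e0 * ph d) * h⁻¹ := by rw [hcomm0]
      _ = _ := by group
  have hcl2 : Cl x (h * ph d * h⁻¹ * ph 74) := by
    rw [← hu]
    have : h * ph d * h⁻¹ * (h * ph e0 * h⁻¹) = h * ph d' * h⁻¹ := by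
      rw [← hdd, hm.mul d e0 hd he0lt]
      group
    rw [this]
    exact (D_cl hf hdD').conj h
  have hpair := pair_eq hf hcl1 hcl1c hcl2
  -- a point on both lines
  have hp : ∃ p, p < 576 ∧ isD p = true ∧ h * ph d * h⁻¹ = ph p := by
    rcases hpair with h1 | h1
    · exact ⟨1, by norm_num, by decide +kernel, h1⟩
    · exact ⟨75, by norm_num, by decide +kernel, h1⟩
  obtain ⟨p, hp, hpD, hpe⟩ := hp
  obtain ⟨n1, hn1x, hn1⟩ := exists_norm hm hp (isD_facts p hp hpD).1 (D_cl hf hpD)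
  obtain ⟨n2, hn2x, hn2⟩ := exists_norm hm hd (isD_facts d hd hdD).1 (D_cl hf hdD)
  have hmem : n1⁻¹ * (h * n2) * x = x * (n1⁻¹ * (h * n2)) := by
    have e1 : h * n2 * x * (h * n2)⁻¹ = n1 * x * n1⁻¹ := by
      have : h * n2 * x * (h * n2)⁻¹ = h * (n2 * x * n2⁻¹) * h⁻¹ := by group
      rw [this, hn2x, hpe, hn1x]
    have e2 : n1⁻¹ * (h * n2) * x = n1⁻¹ * (h * n2 * x * (h * n2)⁻¹) * (h * n2) := by group
    rw [e2, e1]
    group
  obtain ⟨κ', hκ', hκe⟩ := hm.rng _ hmem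
  have hhn : h * n2 = n1 * ph κ' := by
    rw [hκe]; group
  -- the code of the element in the two frames
  have hn2i := Subgroup.inv_mem _ hn2
  have hn1i := Subgroup.inv_mem _ hn1
  obtain ⟨e1, he1, he1E, he1e⟩ := conj_of_code hm hn2i he0lt he0E
  obtain ⟨w0, hw0, hw0E, hw0e⟩ := conj_of_code hm hn1i (by norm_num : (74 : ℕ) < 576) (by decide +kernel)
  have hrel : ph κ' * ph e1 * (ph κ')⁻¹ = ph w0 := by
    rw [← he1e, ← hw0e]
    have e3 : ph κ' = n1⁻¹ * (h * n2) := by rw [hκe]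
    rw [e3, ← hu]
    group
  have hcode : cjC κ' e1 = w0 := by
    apply hm.inj _ _ (cjC_lt hκ' he1) hw0
    rw [hm.cj hκ' he1, hrel]
  have he1_ne0 : e1 ≠ 0 := by
    intro h0
    rw [h0, hm.one] at he1e
    apply hee0
    apply (hm.eq_one_iff he0lt).1
    have e4 : ph e0 = n2⁻¹⁻¹ * (n2⁻¹ * ph e0 * n2⁻¹⁻¹) * n2⁻¹ := by group
    rw [e4, he1e]
    group
  have he1_ne24 : e1 ≠ 24 := by
    intro h0
    rw [h0, hm.z] at he1e
    apply h74c
    rw [← hu]
    have e4 : ph e0 = n2⁻¹⁻¹ * (n2⁻¹ * ph e0 * n2⁻¹⁻¹) * n2⁻¹ := by group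
    rw [e4, he1e]
    have hc1 : Cl x (n2⁻¹⁻¹ * x * n2⁻¹) := ⟨n2⁻¹⁻¹, by group⟩
    exact hc1.conj h
  have hκN := isN_check κ' e1 hκ' he1 he1E he1_ne0 he1_ne24 (by rw [hcode]; exact hw0E)
  have hhN : h ∈ Subgroup.normalizer ((EG hm : Subgroup G) : Set G) := by
    have e5 : h = n1 * ph κ' * n2⁻¹ := by
      rw [← hhn]; group
    rw [e5]
    exact Subgroup.mul_mem _ (Subgroup.mul_mem _ hn1 (isN_mem hm hκ' hκN)) hn2i
  obtain ⟨f, hf1, hfE, hfe⟩ := conj_of_code hm hhN z_lt isE_z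
  rw [hm.z] at hfe
  rw [hx] at hfe
  refine ⟨f, ?_, hfe⟩
  apply D_of_E f hf1 hfE
  apply type_of_cl hf hf1 hfe.symm
  · intro h0
    apply x_ne_one hm
    have e6 : x = g⁻¹ * (g * x * g⁻¹) * g := by group
    rw [e6, h0]
    group
  · calc g * x * g⁻¹ * (g * x * g⁻¹) = g * (x * x) * g⁻¹ := by group
      _ = 1 := by rw [x_sq hm]; group
  · exact ⟨g, rfl⟩

/-- Two elements of the first class commuting with `ph 74` commute. -/
theorem comm_of_points (hf : Fus x ph) {y y' : G} (hy : Cl x y) (hy' : Cl x y')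
    (hyu : y * ph 74 = ph 74 * y) (hyu' : y' * ph 74 = ph 74 * y') : y * y' = y' * y := by
  obtain ⟨d, hd, rfl⟩ := point_of_comm hf hy hyu
  obtain ⟨d', hd', rfl⟩ := point_of_comm hf hy' hyu'
  have h1 := D_lt hd
  have h2 := D_lt hd'
  exact (hf.hm.comm_iff h1 h2).2 (E_elem d d' h1 h2 (isD_facts d h1 hd).1 (isD_facts d' h2 hd').1).2

end Cfsg.Agent.Lib.P43C2
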