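import Mathlib
import Cfsg.Agent.Lib.P43C2
import Cfsg.Agent.Lib.J1Ord4

/-!
# The order bound
-/

set_option autoImplicit false
set_option linter.unusedVariables false
set_option linter.unusedSectionVars false
set_option maxHeartbeats 0
set_option maxRecDepth 100000

namespace Cfsg.Agent.Lib.P43Cnt

open Cfsg.Agent.Lib.P43Tab Cfsg.Agent.Lib.P43Mod Cfsg.Agent.Lib.P43Fa1 Cfsg.Agent.Lib.P43Syl
open Cfsg.Agent.Lib.P43Fa2 Cfsg.Agent.Lib.P43Z1 Cfsg.Agent.Lib.P43Fus Cfsg.Agent.Lib.P43Fus2
open Cfsg.Agent.Lib.P43Fus3 Cfsg.Agent.Lib.P43C1 Cfsg.Agent.Lib.P43C2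

variable {G : Type*} [Group G] [Finite G] {x : G} {ph : ℕ → G}

theorem card_class (z : G) :
    Nat.card {y : G // Cl z y} * Nat.card (Subgroup.centralizer ({z} : Set G)) = Nat.card G := by
  have h := Cfsg.Agent.Lib.J1Ord.card_orbit_conj (⊤ : Subgroup G) z
  have e1 : Nat.card {y : G // ∃ g ∈ (⊤ : Subgroup G), g * z * g⁻¹ = y} = Nat.card {y : G // Cl z y} := by
    apply Nat.card_congr
    refine ⟨fun a => ⟨a.1, ?_⟩, fun a => ⟨a.1, ?_⟩, fun _ => rfl, fun _ => rfl⟩
    · obtain ⟨g, -, hx⟩ := a.2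
      exact ⟨g, hx⟩
    · obtain ⟨g, hx⟩ := a.2
      exact ⟨g, trivial, hx⟩
  have e2 : ((⊤ : Subgroup G) ⊓ Subgroup.centralizer ({z} : Set G)) = Subgroup.centralizer ({z} : Set G) :=
    top_inf_eq _
  rw [e1, e2, Nat.card_congr (Subgroup.topEquiv (G := G)).toEquiv] at h
  exact h

theorem cl_base (g : G) {y : G} : Cl (g * x * g⁻¹) y ↔ Cl x y := by
  have h1 : Cl (g * x * g⁻¹) x := ⟨g⁻¹, by group⟩
  have h2 : Cl x (g * x * g⁻¹) := ⟨g, rfl⟩
  exact ⟨fun h => h2.trans h, fun h => h1.trans h⟩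

/-- The conjugates of `ph 74` include all the elements of types `A` and `C`. -/
theorem A_cl (hf : Fus x ph) {i : ℕ} (hi : i < 576) (h : isA i = true) : Cl (ph 74) (ph i) := by
  obtain ⟨k, hk, h2⟩ := trans_A i hi h
  rw [← h2, hf.hm.cj hk (by norm_num)]
  exact ⟨_, rfl⟩

theorem C_cl (hf : Fus x ph) {i : ℕ} (hi : i < 576) (h : isC i = true) : Cl (ph 74) (ph i) := by
  have hm := hf.hm
  obtain ⟨p1, p2, p3, p4, p5, p6⟩ := pair1 hf
  obtain ⟨g, hg⟩ := p5
  obtain ⟨v, hv, e, a1, a2, a3⟩ := frame_code hf g (by rw [hg]; exact p3)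
  have hC := C_type hf g hv a1 a2 a3 (by rw [e, hg, p1]; exact p6)
  obtain ⟨k, hk, h2⟩ := trans_C i hi h
  obtain ⟨k', hk', h2'⟩ := trans_C v hv hC
  have e1 : Cl (ph 74) (ph v) := ⟨g⁻¹, by rw [← e]; group⟩
  have e2 : Cl (ph v) (ph 25) := by
    rw [← h2', hm.cj hk' (by norm_num)]
    exact ⟨(ph k')⁻¹, by group⟩
  have e3 : Cl (ph 25) (ph i) := by
    rw [← h2, hm.cj hk (by norm_num)]
    exact ⟨_, rfl⟩
  exact e1.trans (e2.trans e3)

theorem not_both_cl (hf : Fus x ph) {y : G} (h1 : Cl (ph 74) y) (h2 : Cl x y) : False :=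
  hf.hA 74 (by norm_num) types_base.1 (h2.trans h1.symm)

theorem I2_sq (hf : Fus x ph) {y : G} (h : Cl (ph 74) y) : y * y = 1 ∧ y ≠ 1 := by
  obtain ⟨h1, h2, h3⟩ := u_facts hf
  obtain ⟨g, rfl⟩ := h
  constructor
  · calc g * ph 74 * g⁻¹ * (g * ph 74 * g⁻¹) = g * (ph 74 * ph 74) * g⁻¹ := by group
      _ = 1 := by rw [h2]; group
  · intro h4
    apply h1
    have e : ph 74 = g⁻¹ * (g * ph 74 * g⁻¹) * g := by group
    rw [e, h4]
    group

theorem dih_pow {a b : G} (ha : a * a = 1) (hb : b * b = 1) (m : ℕ) :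
    b * (a * b) ^ m * b⁻¹ = ((a * b) ^ m)⁻¹ := by
  have ib : b⁻¹ = b := inv_eq_of_mul_eq_one_left hb
  have ia : a⁻¹ = a := inv_eq_of_mul_eq_one_left ha
  have h1 : b * (a * b) * b⁻¹ = (a * b)⁻¹ := by
    rw [mul_inv_rev, ia, ib]
    calc b * (a * b) * b = b * a * (b * b) := by group
      _ = b * a := by rw [hb, mul_one]
  induction m with
  | zero => simp
  | succ n ih =>
    have e : b * (a * b) ^ (n + 1) * b⁻¹ = (b * (a * b) ^ n * b⁻¹) * (b * (a * b) * b⁻¹) := by
      rw [pow_succ]; group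
    rw [e, ih, h1, ← mul_inv_rev, pow_succ']

theorem dih_pow' {a b : G} (ha : a * a = 1) (hb : b * b = 1) (m : ℕ) :
    a * (a * b) ^ m * a⁻¹ = ((a * b) ^ m)⁻¹ := by
  have ib : b⁻¹ = b := inv_eq_of_mul_eq_one_left hb
  have ia : a⁻¹ = a := inv_eq_of_mul_eq_one_left ha
  have h1 : a * (a * b) * a⁻¹ = (a * b)⁻¹ := by
    rw [mul_inv_rev, ia, ib]
    calc a * (a * b) * a = (a * a) * b * a := by group
      _ = b * a := by rw [ha, one_mul]
  induction m with
  | zero => simp
  | succ n ih =>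
    have e : a * (a * b) ^ (n + 1) * a⁻¹ = (a * (a * b) ^ n * a⁻¹) * (a * (a * b) * a⁻¹) := by
      rw [pow_succ]; group
    rw [e, ih, h1, ← mul_inv_rev, pow_succ']

theorem comm_of_dih {a b w : G} (ha : a * a = 1) (hb : b * b = 1) {m : ℕ} (hw : (a * b) ^ m = w)
    (hww : w * w = 1) : a * w = w * a ∧ b * w = w * b := by
  have iw : w⁻¹ = w := inv_eq_of_mul_eq_one_left hww
  have h1 := dih_pow ha hb m
  have h2 := dih_pow' ha hb m
  rw [hw, iw] at h1 h2
  constructor
  · have := congrArg (· * a) h2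
    simpa using this
  · have := congrArg (· * b) h1
    simpa using this

/-- Every element of the second class gives an involution of the centraliser. -/
theorem exists_power (hf : Fus x ph) {y : G} (hy : Cl (ph 74) y) :
    ∃ i m, i < 576 ∧ (x * y) ^ m = ph i ∧ i ≠ 0 ∧ i ≠ 24 ∧ mulC i i = 0 := by
  classical
  have hm := hf.hm
  have hxx := x_sq hm
  obtain ⟨hyy, hy1⟩ := I2_sq hf hy
  set q := x * y with hq
  have hn0 : orderOf q ≠ 0 := (orderOf_pos q).ne'
  rcases Nat.even_or_odd (orderOf q) with hev | hodd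
  · obtain ⟨m, hm2⟩ := hev
    have hm0 : m ≠ 0 := by
      rintro rfl
      exact hn0 (by simpa using hm2)
    have hww : q ^ m * q ^ m = 1 := by
      rw [← pow_add, ← hm2, pow_orderOf_eq_one]
    have hw1 : q ^ m ≠ 1 := by
      intro h
      have h2 := orderOf_dvd_of_pow_eq_one h
      have := Nat.le_of_dvd (Nat.pos_of_ne_zero hm0) h2
      omega
    obtain ⟨c1, c2⟩ := comm_of_dih hxx hyy (m := m) rfl hww
    obtain ⟨i, hi, hie⟩ := hm.rng _ c1.symm
    refine ⟨i, m, hi, hie.symm, ?_, ?_, ?_⟩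
    · intro h
      rw [h, hm.one] at hie
      exact hw1 hie.symm
    · intro h
      rw [h, hm.z] at hie
      -- the power is `x`
      have h1 : x * y = y * x := by
        have c3 : y * q ^ m = q ^ m * y := c2
        rw [← hie] at c3
        exact c3.symm
      have h2 : q * q = 1 := by
        rw [hq]
        calc x * y * (x * y) = x * (y * x) * y := by group
          _ = x * (x * y) * y := by rw [h1]
          _ = (x * x) * (y * y) := by group
          _ = 1 := by rw [hxx, hyy, one_mul]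
      have h3 : orderOf q ∣ 2 := orderOf_dvd_of_pow_eq_one (by rw [pow_two]; exact h2)
      have h4 : orderOf q ≤ 2 := Nat.le_of_dvd (by norm_num) h3
      have h5 : m = 1 := by omega
      rw [h5, pow_one] at hie
      apply hy1
      have h6 : x * y = x * 1 := by rw [mul_one]; exact hie.symm
      exact mul_left_cancel h6
    · apply hm.inj _ _ (mulC_lt _ hi _ hi) zero_lt
      rw [hm.mul i i hi hi, hm.one, hie, hww]
  · exfalso
    have hcard : Odd (Nat.card (Subgroup.zpowers q)) := by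
      rwa [Nat.card_zpowers]
    obtain ⟨b, -, hb⟩ := conj_of_mul_mem hcard hxx hyy (Subgroup.mem_zpowers q)
    exact not_both_cl hf hy ⟨b, hb⟩

/-- Powers of an element of order dividing four. -/
theorem pow_cases {q w : G} {m : ℕ} (h4 : q ^ 4 = 1) (hw : q ^ m = w) (hww : w * w = 1) (hw1 : w ≠ 1) :
    (w = q ∧ q * q = 1) ∨ w = q * q := by
  have hm : m = 4 * (m / 4) + m % 4 := (Nat.div_add_mod m 4).symm
  have e : w = q ^ (m % 4) := by
    rw [← hw]
    conv_lhs => rw [hm]
    rw [pow_add, pow_mul, h4, one_pow, one_mul]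
  have hlt : m % 4 < 4 := Nat.mod_lt _ (by norm_num)
  generalize m % 4 = r at e hlt
  interval_cases r
  · exact absurd (by simpa using e) hw1
  · left
    rw [pow_one] at e
    rw [← e]
    exact ⟨rfl, hww⟩
  · right
    rw [e, pow_two]
  · left
    have h6 : q * q = 1 := by
      have h5 : q ^ 6 = 1 := by
        have : q ^ 6 = w * w := by
          rw [e, ← pow_add]
        rw [this, hww]
      have h7 : q ^ 6 = q ^ 4 * (q * q) := by
        rw [← pow_two, ← pow_add]
      rw [h7, h4, one_mul] at h5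
      exact h5
    have h8 : w = q := by
      rw [e, pow_succ, pow_two, h6, one_mul]
    rw [h8]
    exact ⟨rfl, h6⟩

/-- The fibres. -/
def Fb (x : G) (ph : ℕ → G) (i : ℕ) : Set G := {y | Cl (ph 74) y ∧ ∃ m, (x * y) ^ m = ph i}

/-- The dihedral analysis in the centraliser of an element of the second class. -/
theorem fib_dih (hf : Fus x ph) {i : ℕ} (hi : i < 576) (hw : Cl (ph 74) (ph i)) {y : G}
    (hy : y ∈ Fb x ph i) :
    y * ph i = ph i * y ∧ ((ph i = x * y ∧ (x * y) * (x * y) = 1) ∨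
      ph i = x * y * (x * y)) := by
  classical
  have hm := hf.hm
  have hxx := x_sq hm
  obtain ⟨hyc, m, hpow⟩ := hy
  obtain ⟨hyy, hy1⟩ := I2_sq hf hyc
  obtain ⟨hww, hw1⟩ := I2_sq hf hw
  obtain ⟨c1, c2⟩ := comm_of_dih hxx hyy hpow hww
  refine ⟨c2, ?_⟩
  obtain ⟨g, hg⟩ := hw
  have hF := hf.conj g
  have hbase : ph i = g * ph 74 * g⁻¹ := hg.symm
  have iy : y⁻¹ = y := inv_eq_of_mul_eq_one_left hyy
  have hxI : Cl (g * x * g⁻¹) x := (cl_base g).2 (Cl.refl x)
  have hdI : Cl (g * x * g⁻¹) (y * x * y⁻¹) := hxI.conj y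
  have hxc : x * (g * ph 74 * g⁻¹) = (g * ph 74 * g⁻¹) * x := by
    rw [← hbase]; exact c1
  have hdc : (y * x * y⁻¹) * (g * ph 74 * g⁻¹) = (g * ph 74 * g⁻¹) * (y * x * y⁻¹) := by
    rw [← hbase]
    calc y * x * y⁻¹ * ph i = y * x * (y⁻¹ * ph i) := by group
      _ = y * x * (ph i * y⁻¹) := by
        have : y⁻¹ * ph i = ph i * y⁻¹ := by rw [iy]; exact c2
        rw [this]
      _ = y * (x * ph i) * y⁻¹ := by group
      _ = y * (ph i * x) * y⁻¹ := by rw [c1]
      _ = (y * ph i) * x * y⁻¹ := by group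
      _ = (ph i * y) * x * y⁻¹ := by rw [c2]
      _ = _ := by group
  have hcomm := comm_of_points hF hxI hdI hxc hdc
  have hq2 : (x * y) * (x * y) = x * (y * x * y⁻¹) := by
    rw [iy]; group
  have hq4 : (x * y) ^ 4 = 1 := by
    have e : (x * y) ^ 4 = ((x * y) * (x * y)) * ((x * y) * (x * y)) := by
      simp only [pow_succ, pow_zero, one_mul, mul_assoc]
    rw [e, hq2]
    calc x * (y * x * y⁻¹) * (x * (y * x * y⁻¹)) = x * ((y * x * y⁻¹) * x) * (y * x * y⁻¹) := by group
      _ = x * (x * (y * x * y⁻¹)) * (y * x * y⁻¹) := by rw [hcomm]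
      _ = (x * x) * (y * (x * x) * y⁻¹) := by group
      _ = 1 := by rw [hxx, one_mul]; group
  exact pow_cases hq4 hpow hww hw1

/-- The fibre of an element of type `A`. -/
theorem fib_A (hf : Fus x ph) {i : ℕ} (hi : i < 576) (hA : isA i = true) :
    Fb x ph i ⊆ {x * ph i} := by
  intro y hy
  have hm := hf.hm
  have hxx := x_sq hm
  obtain ⟨c2, h⟩ := fib_dih hf hi (A_cl hf hi hA) hy
  have hyy := (I2_sq hf hy.1).1
  have iy : y⁻¹ = y := inv_eq_of_mul_eq_one_left hyy
  rcases h with ⟨h1, -⟩ | h1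
  · rw [Set.mem_singleton_iff, h1, ← mul_assoc, hxx, one_mul]
  · exfalso
    obtain ⟨a1, a2⟩ := A_facts i hi hA
    apply hf.hA _ (mulC_lt _ z_lt _ hi) a2
    rw [hm.mul 24 i z_lt hi, hm.z, h1]
    refine ⟨y * x, ?_⟩
    rw [mul_inv_rev]
    have : y * x * x * y⁻¹ = 1 := by
      calc y * x * x * y⁻¹ = y * (x * x) * y⁻¹ := by group
        _ = 1 := by rw [hxx]; group
    calc y * x * x * (x⁻¹ * y⁻¹) = y * x * x * y⁻¹ * (y * x⁻¹ * y⁻¹) := by group
      _ = y * x⁻¹ * y⁻¹ := by rw [this, one_mul]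
      _ = y * x * y⁻¹ := by rw [inv_eq_of_mul_eq_one_left hxx]
      _ = x * (x * y * (x * y)) := by
        rw [iy]
        calc y * x * y = (x * x) * (y * x * y) := by rw [hxx, one_mul]
          _ = _ := by group

/-- Exponent check. -/
theorem exp12 : ∀ c, c < 576 → powC c 12 = 0 := by
  have h := allN_spec (n := 576) (p := fun c => Nat.beq (powC c 12) 0) (by decide +kernel)
  intro c hc
  exact beq_spec (h c hc)

/-- The set of candidates for the fibre of an element of type `B`. -/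
def VB (b : ℕ) : Finset ℕ :=
  (Finset.range 576).filter (fun v => ((isA v || isC v) && anyN 12 (fun m => Nat.beq (powC (mulC b v) m) 24)) = true)

theorem card_VB : ∀ b, b < 576 → isB b = true → (VB b).card ≤ 9 := by
  have h := allN_spec (n := 576) (p := fun b => impB (isB b) (Nat.ble (VB b).card 9)) (by decide +kernel)
  intro b hb h1
  exact Nat.le_of_ble_eq_true (impB_spec (h b hb) h1)

/-- The fibre of an element of type `B`. -/
theorem fib_B (hf : Fus x ph) {i : ℕ} (hi : i < 576) (hB : isB i = true) :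
    (Fb x ph i).ncard ≤ 9 := by
  classical
  have hm0 := hf.hm
  have hxx := x_sq hm0
  obtain ⟨g, hg⟩ := hf.hB i hi hB
  have hF := hf.conj g
  have hm := hF.hm
  have hz : g * ph 24 * g⁻¹ = ph i := by rw [hm0.z]; exact hg
  have hcomm : x * (g * x * g⁻¹) = (g * x * g⁻¹) * x := by
    rw [hg]; exact (hm0.mem i hi).symm
  obtain ⟨b, hb, hbe'⟩ := hm.rng x hcomm
  have hbe : g * ph b * g⁻¹ = x := hbe'
  have hwi : i ≠ 24 := by
    rintro rfl
    exact absurd hB (by decide +kernel)
  have hbB : isB b = true := by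
    apply hF.inv_type hb
    · intro h
      rw [h] at hbe
      simp only [hm0.one] at hbe
      apply x_ne_one hm0
      rw [← hbe]
      group
    · apply hm.inj _ _ (mulC_lt _ hb _ hb) zero_lt
      rw [hm.mul b b hb hb, hm.one, hbe, hxx]
    · intro h
      rw [h, hz] at hbe
      apply hwi
      exact hm0.inj _ _ hi z_lt (by rw [hm0.z]; exact hbe)
    · exact (by rw [hbe]; exact (cl_base g).2 (Cl.refl x))
  let φ : ℕ → G := fun v => g * ph v * g⁻¹
  have hsub : Fb x ph i ⊆ φ '' ((VB b : Finset ℕ) : Set ℕ) := by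
    rintro y ⟨hyc, m, hpow⟩
    obtain ⟨hyy, hy1⟩ := I2_sq hf hyc
    have hww : ph i * ph i = 1 := by
      rw [← hm0.mul i i hi hi]
      rw [← hm0.one]
      congr 1
      exact (isI_facts i hi (by unfold isI; simp [hB])).2
    obtain ⟨c1, c2⟩ := comm_of_dih hxx hyy hpow hww
    obtain ⟨v, hv, hve⟩ := hm.rng y (by
      rw [hg]
      exact c2)
    refine ⟨v, ?_, hve⟩
    have hv0 : v ≠ 0 := by
      intro h
      rw [h] at hve
      apply hy1
      rw [← hve]
      simp only [hm0.one]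
      group
    have hvsq : mulC v v = 0 := by
      apply hm.inj _ _ (mulC_lt _ hv _ hv) zero_lt
      rw [hm.mul v v hv hv, hm.one, hve, hyy]
    have hv24 : v ≠ 24 := by
      intro h
      rw [h, hz] at hve
      exact not_both_cl hf hyc (by
        rw [← hve]
        exact hf.hB i hi hB)
    have hvAC : (isA v || isC v) = true := by
      rcases inv_class v hv hv0 hvsq with h | h | h | h
      · exact absurd h hv24
      · simp [h]
      · exfalso
        exact not_both_cl hf hyc (by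
          have h2 := hF.hB v hv h
          rw [hve] at h2
          exact (cl_base g).1 h2)
      · simp [h]
    have hc : mulC b v < 576 := mulC_lt _ hb _ hv
    have hpc : (x * y) = g * ph (mulC b v) * g⁻¹ := by
      have := hm.mul b v hb hv
      rw [this, hbe, hve]
    have h12 : (x * y) ^ 12 = 1 := by
      have h1 := (hm.pow hc 12).2
      rw [exp12 _ hc, hm.one] at h1
      rw [hpc]
      exact h1.symm
    have hmod : (x * y) ^ (m % 12) = ph i := by
      rw [← pow_eq_pow_mod m h12, hpow]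
    have hany : anyN 12 (fun m => Nat.beq (powC (mulC b v) m) 24) = true := by
      have hlt : m % 12 < 12 := Nat.mod_lt _ (by norm_num)
      have h1 := (hm.pow hc (m % 12)).2
      have h2 : g * ph (powC (mulC b v) (m % 12)) * g⁻¹ = g * ph 24 * g⁻¹ := by
        rw [h1, hz, ← hpc, hmod]
      have h3 := hm.inj _ _ (hm.pow hc (m % 12)).1 z_lt h2
      have : ∀ (n : ℕ) (p : ℕ → Bool) (j : ℕ), j < n → p j = true → anyN n p = true := by
        intro n p j
        induction n with
        | zero => intro h; omega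
        | succ n ih =>
          intro hj hp
          simp only [anyN, Bool.or_eq_true]
          rcases Nat.lt_succ_iff_lt_or_eq.mp hj with h | h
          · exact Or.inr (ih h hp)
          · left; rw [← h]; exact hp
      exact this 12 _ _ hlt (beq_of_eq h3)
    have hmemV : v ∈ VB b := by
      simp only [VB, Finset.mem_filter, Finset.mem_range, Bool.and_eq_true]
      exact ⟨hv, hvAC, hany⟩
    exact hmemV
  calc (Fb x ph i).ncard ≤ (φ '' ((VB b : Finset ℕ) : Set ℕ)).ncard :=
        Set.ncard_le_ncard hsub (Set.toFinite _)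
    _ ≤ ((VB b : Finset ℕ) : Set ℕ).ncard := Set.ncard_image_le (Set.toFinite _)
    _ = (VB b).card := Set.ncard_coe_finset _
    _ ≤ 9 := card_VB b hb hbB

end Cfsg.Agent.Lib.P43Cnt
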