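import Mathlib
import Cfsg.Agent.Lib.P43Cnt

/-!
# The order bound, second part
-/

set_option autoImplicit false
set_option linter.unusedVariables false
set_option linter.unusedSectionVars false
set_option maxHeartbeats 0
set_option maxRecDepth 100000

namespace Cfsg.Agent.Lib.P43Cnt

open Cfsg.Agent.Lib.P43Tab Cfsg.Agent.Lib.P43Mod Cfsg.Agent.Lib.P43Fa1 Cfsg.Agent.Lib.P43Syl
open Cfsg.Agent.Lib.P43Fa2 Cfsg.Agent.Lib.P43Z1 Cfsg.Agent.Lib.P43Fus Cfsg.Agent.Lib.P43Fus2
open Cfsg.Agent.Lib.P43Fus3 Cfsg.Agent.Lib.P43C1 Cfsg.Agent.Lib.P43C2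

variable {G : Type*} [Group G] [Finite G] {x : G} {ph : ℕ → G}

/-- Candidates for the element `y`. -/
def JJ (a b : ℕ) : Finset ℕ :=
  (Finset.range 576).filter (fun j => (Nat.beq (mulC j j) 0 && cmC j a && !cmC j b) = true)

theorem card_JJ : ∀ a b, a < 576 → b < 576 → isA a = true → isB b = true → cmC b a = true →
    (JJ a b).card ≤ 4 := by
  have h := allN_spec (n := 576) (p := fun a => impB (isA a)
    (allN 576 fun b => impB (isB b && cmC b a) (Nat.ble (JJ a b).card 4))) (by decide +kernel)
  intro a b ha hb h1 h2 h3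
  exact Nat.le_of_ble_eq_true (impB_spec (allN_spec (impB_spec (h a ha) h1) b hb)
    (by simp only [Bool.and_eq_true]; exact ⟨h2, h3⟩))

theorem four (hf : Fus x ph) {p w x' : G} (hp : Cl x p) (hw : Cl (ph 74) w) (hpw : p * w = w * p)
    (hn : ¬ Cl x (p * w)) (hx' : Cl x x') (hx'w : x' * w = w * x') (hx'p : x' * p = p * x')
    (hne : x' ≠ p) :
    {y : G | y * y = 1 ∧ y * p = p * y ∧ y * w = w * y ∧ y * x' ≠ x' * y}.ncard ≤ 4 := by
  classical
  obtain ⟨g, rfl⟩ := hp
  have hF := hf.conj g
  have hm := hF.hm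
  obtain ⟨hww, hw1⟩ := I2_sq hf hw
  obtain ⟨a, ha, hae'⟩ := hm.rng w hpw.symm
  have hae : g * ph a * g⁻¹ = w := hae'
  have hxg : Cl x (g * x * g⁻¹) := ⟨g, rfl⟩
  have hcw : ¬ Cl x w := fun h => not_both_cl hf hw h
  have ha0 : a ≠ 0 := by
    intro h
    rw [h, hf.hm.one] at hae
    apply hw1
    rw [← hae]
    group
  have ha24 : a ≠ 24 := by
    intro h
    rw [h, hf.hm.z] at hae
    exact hcw ⟨g, hae⟩
  have hasq : mulC a a = 0 := by
    apply hm.inj _ _ (mulC_lt _ ha _ ha) zero_lt
    rw [hm.mul a a ha ha, hm.one, hae, hww]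
  have haA : isA a = true := by
    rcases inv_class a ha ha0 hasq with h | h | h | h
    · exact absurd h ha24
    · exact h
    · exfalso
      have h2 := hF.hB a ha h
      rw [hae] at h2
      exact hcw (hxg.trans h2)
    · exfalso
      obtain ⟨h1, h2⟩ := C_facts a ha h
      have h3 := hF.hB _ (mulC_lt _ z_lt _ ha) h2
      have e : g * ph (mulC 24 a) * g⁻¹ = g * x * g⁻¹ * w := by
        have := hm.mul 24 a z_lt ha
        rw [this, hae, hf.hm.z]
      rw [e] at h3
      exact hn (hxg.trans h3)
  obtain ⟨b, hb, hbe'⟩ := hm.rng x' hx'p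
  have hbe : g * ph b * g⁻¹ = x' := hbe'
  have hbB : isB b = true := by
    apply hF.inv_type hb
    · intro h
      rw [h, hf.hm.one] at hbe
      have hx'1 : x' = 1 := by rw [← hbe]; group
      rw [hx'1] at hx'
      exact x_ne_one hf.hm (by
        obtain ⟨c, hc⟩ := hx'
        have e : x = c⁻¹ * (c * x * c⁻¹) * c := by group
        rw [e, hc]
        group)
    · apply hm.inj _ _ (mulC_lt _ hb _ hb) zero_lt
      rw [hm.mul b b hb hb, hm.one, hbe]
      obtain ⟨c, rfl⟩ := hx'
      calc c * x * c⁻¹ * (c * x * c⁻¹) = c * (x * x) * c⁻¹ := by group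
        _ = 1 := by rw [x_sq hf.hm]; group
    · intro h
      rw [h, hf.hm.z] at hbe
      exact hne hbe.symm
    · rw [hbe]
      exact (Cfsg.Agent.Lib.P43Cnt.cl_base g).2 hx'
  have hcmba : cmC b a = true := by
    apply (hm.comm_iff hb ha).1
    rw [hbe, hae]
    exact hx'w
  let φ : ℕ → G := fun v => g * ph v * g⁻¹
  have hsub : {y : G | y * y = 1 ∧ y * (g * x * g⁻¹) = (g * x * g⁻¹) * y ∧ y * w = w * y ∧ y * x' ≠ x' * y} ⊆
      φ '' ((JJ a b : Finset ℕ) : Set ℕ) := by
    rintro y ⟨h1, h2, h3, h4⟩
    obtain ⟨j, hj, hje'⟩ := hm.rng y h2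
    have hje : g * ph j * g⁻¹ = y := hje'
    refine ⟨j, ?_, hje⟩
    have hjsq : mulC j j = 0 := by
      apply hm.inj _ _ (mulC_lt _ hj _ hj) zero_lt
      rw [hm.mul j j hj hj, hm.one, hje, h1]
    have hcja : cmC j a = true := by
      apply (hm.comm_iff hj ha).1
      rw [hje, hae]
      exact h3
    have hcjb : cmC j b = false := by
      cases h5 : cmC j b with
      | false => rfl
      | true =>
        exfalso
        apply h4
        rw [← hje, ← hbe]
        exact (hm.comm_iff hj hb).2 h5
    have hmemJ : j ∈ JJ a b := by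
      simp only [JJ, Finset.mem_filter, Finset.mem_range, Bool.and_eq_true, Bool.not_eq_true']
      exact ⟨hj, ⟨beq_of_eq hjsq, hcja⟩, hcjb⟩
    exact hmemJ
  calc _ ≤ (φ '' ((JJ a b : Finset ℕ) : Set ℕ)).ncard := Set.ncard_le_ncard hsub (Set.toFinite _)
    _ ≤ ((JJ a b : Finset ℕ) : Set ℕ).ncard := Set.ncard_image_le (Set.toFinite _)
    _ = (JJ a b).card := Set.ncard_coe_finset _
    _ ≤ 4 := card_JJ a b ha hb haA hbB hcmba

theorem fib_codes : mulC 24 74 = 50 ∧ mulC 375 74 = 551 ∧ mulC 575 74 = 351 ∧ isA 50 = true ∧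
    isC 551 = true ∧ isC 351 = true ∧ cmC 24 74 = true ∧ cmC 375 74 = true ∧ cmC 575 74 = true ∧
    isD 24 = true ∧ isD 375 = true ∧ isD 575 = true := by decide +kernel

/-- The fibre of an element of type `C`. -/
theorem fib_C (hf : Fus x ph) {i : ℕ} (hi : i < 576) (hC : isC i = true) :
    (Fb x ph i).ncard ≤ 12 := by
  classical
  have hm0 := hf.hm
  have hxx := x_sq hm0
  have hwc := C_cl hf hi hC
  obtain ⟨g, hg⟩ := id hwc
  have hF := hf.conj g
  have hm := hF.hm
  let P : ℕ → G := fun c => g * ph c * g⁻¹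
  have hPw : P 74 = ph i := hg
  have hPinj : ∀ a b, a < 576 → b < 576 → P a = P b → a = b := fun a b ha hb h => hm.inj a b ha hb h
  have hcx : ph i * x = x * ph i := hm0.mem i hi
  obtain ⟨c1, c2⟩ := C_facts i hi hC
  have hlt24 := mulC_lt 24 z_lt i hi
  have hb0 : ph (mulC 24 i) = x * ph i := by rw [hm0.mul 24 i z_lt hi, hm0.z]
  have hclb : Cl x (x * ph i) := by
    rw [← hb0]; exact hf.hB _ hlt24 c2
  have hxpt : x = P 1 ∨ x = P 75 := by
    apply pair_eq hF
    · exact (cl_base g).2 (Cl.refl x)
    · show x * P 74 = P 74 * x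
      rw [hPw]; exact hcx.symm
    · show Cl (g * x * g⁻¹) (x * P 74)
      rw [hPw]; exact (cl_base g).2 hclb
  have hp1 : P 1 * P 74 = P 75 := by
    have := hm.mul 1 74 (by norm_num) (by norm_num)
    rw [show mulC 1 74 = 75 by decide +kernel] at this
    exact this.symm
  have hp2 : P 75 * P 74 = P 1 := by
    have := hm.mul 75 74 (by norm_num) (by norm_num)
    rw [show mulC 75 74 = 1 by decide +kernel] at this
    exact this.symm
  -- `x` and `x * w` are the two members of the pair
  have hpair : (x = P 1 ∧ x * ph i = P 75) ∨ (x = P 75 ∧ x * ph i = P 1) := by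
    rcases hxpt with h | h
    · left
      refine ⟨h, ?_⟩
      rw [← hPw, h, hp1]
    · right
      refine ⟨h, ?_⟩
      rw [← hPw, h, hp2]
  obtain ⟨f1, f2, f3, f4, f5, f6, f7, f8, f9, f10, f11, f12⟩ := fib_codes
  let A : ℕ → Set G := fun d => {y : G | y * y = 1 ∧ y * P d = P d * y ∧ y * ph i = ph i * y ∧ y * x ≠ x * y}
  have hxne : ∀ d, (d = 24 ∨ d = 375 ∨ d = 575) → x ≠ P d := by
    intro d hd h
    have hd' : d < 576 := by omega
    rcases hxpt with h2 | h2
    · have := hPinj d 1 hd' (by norm_num) (by rw [← h, ← h2])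
      omega
    · have := hPinj d 75 hd' (by norm_num) (by rw [← h, ← h2])
      omega
  have hAc : ∀ d, (d = 24 ∨ d = 375 ∨ d = 575) → (A d).ncard ≤ 4 := by
    intro d hd
    have hd' : d < 576 := by omega
    have hdD : isD d = true := by
      rcases hd with rfl | rfl | rfl <;> decide +kernel
    have hclP : Cl x (P d) := (cl_base g).1 (D_cl hF hdD)
    have hdd : cmC d 74 = true := by
      rcases hd with rfl | rfl | rfl <;> decide +kernel
    have hcomm : P d * P 74 = P 74 * P d := (hm.comm_iff hd' (by norm_num)).2 hdd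
    have hnC : ¬ Cl x (P d * ph i) := by
      rw [← hPw]
      intro h
      have h2 : P d * P 74 = P (mulC d 74) := (hm.mul d 74 hd' (by norm_num)).symm
      rw [h2] at h
      have h3 : Cl (g * x * g⁻¹) (P (mulC d 74)) := (cl_base g).2 h
      rcases hd with rfl | rfl | rfl
      · rw [f1] at h3
        exact hF.hA 50 (by norm_num) f4 h3
      · rw [f2] at h3
        exact hF.hC 551 (by norm_num) f5 h3
      · rw [f3] at h3
        exact hF.hC 351 (by norm_num) f6 h3
    have hxcP : x * P d = P d * x := by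
      have h1 : Cl (g * x * g⁻¹) x := (cl_base g).2 (Cl.refl x)
      have h2 : Cl (g * x * g⁻¹) (P d) := D_cl hF hdD
      apply comm_of_points hF h1 h2
      · show x * P 74 = P 74 * x
        rw [hPw]; exact hcx.symm
      · show P d * P 74 = P 74 * P d
        exact hcomm
    have := four hf hclP hwc (by rw [← hPw]; exact hcomm) hnC (Cl.refl x) hcx.symm hxcP (hxne d hd)
    exact this
  have hsub : Fb x ph i ⊆ A 24 ∪ (A 375 ∪ A 575) := by
    intro y hy
    obtain ⟨hyc, hy2⟩ := fib_dih hf hi hwc hy
    have hyy := (I2_sq hf hy.1).1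
    have iy : y⁻¹ = y := inv_eq_of_mul_eq_one_left hyy
    have hcase : y * x * y⁻¹ = x * ph i := by
      rcases hy2 with ⟨h1, -⟩ | h1
      · exfalso
        apply not_both_cl hf hy.1
        have e : y = x * ph i := by
          rw [h1, ← mul_assoc, hxx, one_mul]
        rw [e]
        exact hclb
      · rw [h1, iy]
        calc y * x * y = (x * x) * (y * x * y) := by rw [hxx, one_mul]
          _ = x * (x * y * (x * y)) := by group
    have hcase2 : y * (x * ph i) * y⁻¹ = x := by
      rw [← hcase]
      calc y * (y * x * y⁻¹) * y⁻¹ = (y * y) * x * (y * y)⁻¹ := by group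
        _ = x := by rw [hyy]; group
    have hycx : y * x ≠ x * y := by
      intro h
      have h2 : y * x * y⁻¹ = x := by
        rw [h]; group
      rw [h2] at hcase
      have h3 : ph i = 1 := by
        have h4 : x * 1 = x * ph i := by rw [mul_one]; exact hcase
        exact (mul_left_cancel h4).symm
      exact (I2_sq hf hwc).2 h3
    have hs : y * P 1 * y⁻¹ = P 75 ∧ y * P 75 * y⁻¹ = P 1 := by
      rcases hpair with ⟨h1, h2⟩ | ⟨h1, h2⟩
      · constructor
        · calc y * P 1 * y⁻¹ = y * x * y⁻¹ := by rw [h1]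
            _ = x * ph i := hcase
            _ = P 75 := h2
        · calc y * P 75 * y⁻¹ = y * (x * ph i) * y⁻¹ := by rw [h2]
            _ = x := hcase2
            _ = P 1 := h1
      · constructor
        · calc y * P 1 * y⁻¹ = y * (x * ph i) * y⁻¹ := by rw [h2]
            _ = x := hcase2
            _ = P 75 := h1
        · calc y * P 75 * y⁻¹ = y * x * y⁻¹ := by rw [h1]
            _ = x * ph i := hcase
            _ = P 1 := h2
    -- the action on the other three points
    have hact : ∀ d, (d = 24 ∨ d = 375 ∨ d = 575) → ∃ d', (d' = 24 ∨ d' = 375 ∨ d' = 575) ∧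
        y * P d * y⁻¹ = P d' := by
      intro d hd
      have hd' : d < 576 := by omega
      have hdD : isD d = true := by
        rcases hd with rfl | rfl | rfl <;> decide +kernel
      have hdd : cmC d 74 = true := by
        rcases hd with rfl | rfl | rfl <;> decide +kernel
      have hcomm : P d * P 74 = P 74 * P d := (hm.comm_iff hd' (by norm_num)).2 hdd
      have hcl : Cl (g * x * g⁻¹) (y * P d * y⁻¹) := (D_cl hF hdD).conj y
      have hc2 : (y * P d * y⁻¹) * P 74 = P 74 * (y * P d * y⁻¹) := by
        rw [hPw] at hcomm ⊢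
        have e1 : y⁻¹ * ph i = ph i * y⁻¹ := by
          rw [iy]; exact hyc
        calc y * P d * y⁻¹ * ph i = y * P d * (y⁻¹ * ph i) := by group
          _ = y * (P d * ph i) * y⁻¹ := by rw [e1]; group
          _ = y * (ph i * P d) * y⁻¹ := by rw [hcomm]
          _ = (y * ph i) * P d * y⁻¹ := by group
          _ = (ph i * y) * P d * y⁻¹ := by rw [hyc]
          _ = _ := by group
      obtain ⟨d', hd'D, he⟩ := point_of_comm hF hcl hc2
      have he' : y * P d * y⁻¹ = P d' := he
      have hd'lt := D_lt hd'D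
      refine ⟨d', ?_, he'⟩
      have hne1 : d' ≠ 1 ∧ d' ≠ 75 := by
        have hback : P d = y * P d' * y⁻¹ := by
          rw [← he']
          calc P d = (y * y) * P d * (y * y)⁻¹ := by rw [hyy]; group
            _ = _ := by group
        constructor
        · intro h
          subst h
          have h3 : P d = P 75 := by rw [hback, hs.1]
          have := hPinj _ _ hd' (by norm_num) h3
          omega
        · intro h
          subst h
          have h3 : P d = P 1 := by rw [hback, hs.2]
          have := hPinj _ _ hd' (by norm_num) h3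
          omega
      unfold isD at hd'D
      simp only [Bool.or_eq_true] at hd'D
      rcases hd'D with (((h | h) | h) | h) | h
      · left; exact beq_spec h
      · exact absurd (beq_spec h) hne1.1
      · exact absurd (beq_spec h) hne1.2
      · right; left; exact beq_spec h
      · right; right; exact beq_spec h
    have hmemA : ∀ d, y * P d = P d * y → y ∈ A d := by
      intro d hd
      exact ⟨hyy, hd, hyc, hycx⟩
    have hfix : y * P 24 * y⁻¹ = P 24 ∨ y * P 375 * y⁻¹ = P 375 ∨ y * P 575 * y⁻¹ = P 575 := by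
      obtain ⟨e1, he1, h1⟩ := hact 24 (Or.inl rfl)
      have hinv : ∀ a b, y * P a * y⁻¹ = P b → y * P b * y⁻¹ = P a := by
        intro a b h
        rw [← h]
        calc y * (y * P a * y⁻¹) * y⁻¹ = (y * y) * P a * (y * y)⁻¹ := by group
          _ = P a := by rw [hyy]; group
      have hcancel : ∀ a b, y * P a * y⁻¹ = y * P b * y⁻¹ → P a = P b := by
        intro a b h
        exact mul_left_cancel (mul_right_cancel h)
      rcases he1 with rfl | rfl | rfl
      · exact Or.inl h1
      · -- `24 ↦ 375`, so `575` is fixed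
        right; right
        obtain ⟨e3, he3, h3⟩ := hact 575 (Or.inr (Or.inr rfl))
        rcases he3 with rfl | rfl | rfl
        · exfalso
          have h4 := hinv _ _ h3
          have := hPinj _ _ (by norm_num) (by norm_num) (by rw [← h4, h1] : P 375 = P 575)
          omega
        · exfalso
          have h4 := hcancel _ _ (h1.trans h3.symm)
          have := hPinj _ _ (by norm_num) (by norm_num) h4
          omega
        · exact h3
      · right; left
        obtain ⟨e3, he3, h3⟩ := hact 375 (Or.inr (Or.inl rfl))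
        rcases he3 with rfl | rfl | rfl
        · exfalso
          have h4 := hinv _ _ h3
          have := hPinj _ _ (by norm_num) (by norm_num) (by rw [← h4, h1] : P 575 = P 375)
          omega
        · exact h3
        · exfalso
          have h4 := hcancel _ _ (h1.trans h3.symm)
          have := hPinj _ _ (by norm_num) (by norm_num) h4
          omega
    have hcm : ∀ d, y * P d * y⁻¹ = P d → y * P d = P d * y := by
      intro d h
      have := congrArg (· * y) h
      simpa using this
    rcases hfix with h | h | h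
    · exact Or.inl (hmemA _ (hcm _ h))
    · exact Or.inr (Or.inl (hmemA _ (hcm _ h)))
    · exact Or.inr (Or.inr (hmemA _ (hcm _ h)))
  have h1 := Set.ncard_le_ncard hsub (Set.toFinite _)
  have h2 := Set.ncard_union_le (A 24) (A 375 ∪ A 575)
  have h3 := Set.ncard_union_le (A 375) (A 575)
  have h4 := hAc 24 (Or.inl rfl)
  have h5 := hAc 375 (Or.inr (Or.inl rfl))
  have h6 := hAc 575 (Or.inr (Or.inr rfl))
  omega

end Cfsg.Agent.Lib.P43Cnt
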