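import Mathlib
import Cfsg.Agent.Lib.P43Cnt2

/-!
# The order bound, final part
-/

set_option autoImplicit false
set_option linter.unusedVariables false
set_option linter.unusedSectionVars false
set_option maxHeartbeats 0
set_option maxRecDepth 100000

namespace Cfsg.Agent.Lib.P43Cnt

open Cfsg.Agent.Lib.P43Tab Cfsg.Agent.Lib.P43Mod Cfsg.Agent.Lib.P43Fa1 Cfsg.Agent.Lib.P43Syl
open Cfsg.Agent.Lib.P43Fa2 Cfsg.Agent.Lib.P43Z1 Cfsg.Agent.Lib.P43Fus Cfsg.Agent.Lib.P43Fus2
open Cfsg.Agent.Lib.P43Fus3 Cfsg.Agent.Lib.P43C1 Cfsg.Agent.Lib.P43C2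

variable {G : Type*} [Group G] [Finite G] {x : G} {ph : ℕ → G}

/-- The bound on a fibre. -/
def bd (i : ℕ) : ℕ := bif isA i then 1 else bif isB i then 9 else 12

/-- The involutions other than the centre of the table. -/
def tI : Finset ℕ := (Finset.range 576).filter (fun i => (isA i || isB i || isC i) = true)

theorem sum_bd : ∑ i ∈ tI, bd i = 270 := by decide +kernel

theorem fib_bd (hf : Fus x ph) {i : ℕ} (hi : i ∈ tI) : (Fb x ph i).ncard ≤ bd i := by
  simp only [tI, Finset.mem_filter, Finset.mem_range, Bool.or_eq_true] at hi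
  obtain ⟨hlt, h⟩ := hi
  unfold bd
  cases hA : isA i with
  | true =>
    have : (Fb x ph i).ncard ≤ ({x * ph i} : Set G).ncard :=
      Set.ncard_le_ncard (fib_A hf hlt hA) (Set.toFinite _)
    simpa using this
  | false =>
    cases hB : isB i with
    | true => exact fib_B hf hlt hB
    | false =>
      have hC : isC i = true := by
        rcases h with (h | h) | h
        · rw [hA] at h; exact absurd h (by decide)
        · rw [hB] at h; exact absurd h (by decide)
        · exact h
      exact fib_C hf hlt hC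

theorem card_I2 (hf : Fus x ph) : Nat.card {y : G // Cl (ph 74) y} ≤ 270 := by
  classical
  let S : Set G := {y | Cl (ph 74) y}
  have h1 : Nat.card {y : G // Cl (ph 74) y} = S.ncard := Nat.card_coe_set_eq S
  rw [h1]
  let F : ℕ → Finset G := fun i => (Set.toFinite (Fb x ph i)).toFinset
  have hF : ∀ i, (F i).card = (Fb x ph i).ncard := fun i =>
    (Set.ncard_eq_toFinset_card _ _).symm
  have hsub : S ⊆ ((tI.biUnion F : Finset G) : Set G) := by
    intro y hy
    obtain ⟨i, m, hi, h2, h3, h4, h5⟩ := exists_power hf hy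
    have hmem : i ∈ tI := by
      simp only [tI, Finset.mem_filter, Finset.mem_range, Bool.or_eq_true]
      refine ⟨hi, ?_⟩
      rcases inv_class i hi h3 h5 with h | h | h | h
      · exact absurd h h4
      · exact Or.inl (Or.inl h)
      · exact Or.inl (Or.inr h)
      · exact Or.inr h
    have : y ∈ tI.biUnion F := by
      rw [Finset.mem_biUnion]
      refine ⟨i, hmem, ?_⟩
      rw [Set.Finite.mem_toFinset]
      exact ⟨hy, m, h2⟩
    exact this
  calc S.ncard ≤ ((tI.biUnion F : Finset G) : Set G).ncard := Set.ncard_le_ncard hsub (Set.toFinite _)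
    _ = (tI.biUnion F).card := Set.ncard_coe_finset _
    _ ≤ ∑ i ∈ tI, (F i).card := Finset.card_biUnion_le
    _ ≤ ∑ i ∈ tI, bd i := Finset.sum_le_sum (fun i hi => by rw [hF]; exact fib_bd hf hi)
    _ = 270 := sum_bd

theorem card_centC : ∀ v, v < 576 → isC v = true →
    ((Finset.range 576).filter (fun j => cmC j v = true)).card = 48 := by
  have h := allN_spec (n := 576) (p := fun v => impB (isC v)
    (Nat.beq ((Finset.range 576).filter (fun j => cmC j v = true)).card 48)) (by decide +kernel)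
  intro v hv h1
  exact beq_spec (impB_spec (h v hv) h1)

theorem card_C_le (hf : Fus x ph) : Nat.card (Subgroup.centralizer ({ph 74} : Set G)) ≤ 96 := by
  classical
  have hm0 := hf.hm
  obtain ⟨p1, p2, p3, p4, p5, p6⟩ := pair1 hf
  obtain ⟨g, hg⟩ := id p5
  have hF := hf.conj g
  have hm := hF.hm
  obtain ⟨v, hv, e, a1, a2, a3⟩ := frame_code hf g (by rw [hg]; exact p3)
  have hC := C_type hf g hv a1 a2 a3 (by rw [e, hg, p1]; exact p6)
  obtain ⟨s, hs1, hs2⟩ := pair_swap hf
  let T₀ : Finset ℕ := (Finset.range 576).filter (fun j => cmC j v = true)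
  let φ : ℕ → G := fun j => g * ph j * g⁻¹
  let ψ : ℕ → G := fun j => s * (g * ph j * g⁻¹)
  let S : Set G := (Subgroup.centralizer ({ph 74} : Set G) : Set G)
  have h0 : Nat.card (Subgroup.centralizer ({ph 74} : Set G)) = S.ncard := Nat.card_coe_set_eq _
  have hfix : ∀ c : G, c * ph 74 = ph 74 * c → c * ph 1 * c⁻¹ = ph 1 → c ∈ φ '' (T₀ : Set ℕ) := by
    intro c hc1 hc2
    have h1 : c * (g * x * g⁻¹) = (g * x * g⁻¹) * c := by
      rw [hg]
      have := congrArg (· * c) hc2
      simpa using this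
    obtain ⟨j, hj, hje'⟩ := hm.rng c h1
    have hje : g * ph j * g⁻¹ = c := hje'
    refine ⟨j, ?_, hje⟩
    have hcm : cmC j v = true := by
      apply (hm.comm_iff hj hv).1
      show (g * ph j * g⁻¹) * (g * ph v * g⁻¹) = (g * ph v * g⁻¹) * (g * ph j * g⁻¹)
      rw [hje, e]
      exact hc1
    have : j ∈ T₀ := by
      simp only [T₀, Finset.mem_filter, Finset.mem_range]
      exact ⟨hj, hcm⟩
    exact this
  have hsub : S ⊆ φ '' (T₀ : Set ℕ) ∪ ψ '' (T₀ : Set ℕ) := by
    intro c hc
    have hc' : c * ph 74 = ph 74 * c := Subgroup.mem_centralizer_singleton_iff.1 hc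
    rcases R1 hf hc' with h | h
    · exact Or.inl (hfix c hc' h)
    · right
      have h2 : (s⁻¹ * c) * ph 74 = ph 74 * (s⁻¹ * c) := by
        have h3 : s⁻¹ * ph 74 = ph 74 * s⁻¹ := by
          have e1 : s⁻¹ * ph 74 = s⁻¹ * (ph 74 * s) * s⁻¹ := by group
          rw [e1, ← hs2]
          group
        calc s⁻¹ * c * ph 74 = s⁻¹ * (c * ph 74) := by group
          _ = s⁻¹ * (ph 74 * c) := by rw [hc']
          _ = (s⁻¹ * ph 74) * c := by group
          _ = (ph 74 * s⁻¹) * c := by rw [h3]
          _ = _ := by group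
      have h3 : (s⁻¹ * c) * ph 1 * (s⁻¹ * c)⁻¹ = ph 1 := by
        have e1 : (s⁻¹ * c) * ph 1 * (s⁻¹ * c)⁻¹ = s⁻¹ * (c * ph 1 * c⁻¹) * s := by group
        rw [e1, h, ← hs1]
        group
      obtain ⟨j, hj, hje⟩ := hfix _ h2 h3
      refine ⟨j, hj, ?_⟩
      show s * (g * ph j * g⁻¹) = c
      have : g * ph j * g⁻¹ = s⁻¹ * c := hje
      rw [this]
      group
  have hcard := card_centC v hv hC
  have h1 : (φ '' (T₀ : Set ℕ)).ncard ≤ 48 := by
    calc _ ≤ (T₀ : Set ℕ).ncard := Set.ncard_image_le (Set.toFinite _)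
      _ = T₀.card := Set.ncard_coe_finset _
      _ = 48 := hcard
  have h2 : (ψ '' (T₀ : Set ℕ)).ncard ≤ 48 := by
    calc _ ≤ (T₀ : Set ℕ).ncard := Set.ncard_image_le (Set.toFinite _)
      _ = T₀.card := Set.ncard_coe_finset _
      _ = 48 := hcard
  rw [h0]
  have h3 := Set.ncard_le_ncard hsub (Set.toFinite _)
  have h4 := Set.ncard_union_le (φ '' (T₀ : Set ℕ)) (ψ '' (T₀ : Set ℕ))
  omega

theorem card_G_le (hf : Fus x ph) : Nat.card G ≤ 25920 := by
  rw [← card_class (ph 74)]
  calc _ ≤ 270 * 96 := Nat.mul_le_mul (card_I2 hf) (card_C_le hf)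
    _ = 25920 := by norm_num

theorem card_cent_ge (hf : Fus x ph) : 576 ≤ Nat.card (Subgroup.centralizer ({x} : Set G)) := by
  classical
  have hm := hf.hm
  have hinj : Set.InjOn ph ((Finset.range 576 : Finset ℕ) : Set ℕ) := by
    intro a ha b hb hab
    have ha' : a < 576 := by simpa using ha
    have hb' : b < 576 := by simpa using hb
    exact hm.inj a b ha' hb' hab
  have hsub : ph '' ((Finset.range 576 : Finset ℕ) : Set ℕ) ⊆
      (Subgroup.centralizer ({x} : Set G) : Set G) := by
    rintro _ ⟨a, ha, rfl⟩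
    have ha' : a < 576 := by simpa using ha
    exact Subgroup.mem_centralizer_singleton_iff.2 (hm.mem a ha')
  have h1 := Set.ncard_le_ncard hsub (Set.toFinite _)
  rw [hinj.ncard_image, Set.ncard_coe_finset, Finset.card_range] at h1
  rw [show Nat.card (Subgroup.centralizer ({x} : Set G)) =
    ((Subgroup.centralizer ({x} : Set G) : Set G)).ncard from Nat.card_coe_set_eq _]
  exact h1

theorem card_I1 (hf : Fus x ph) : Nat.card {y : G // Cl x y} ≤ 45 := by
  have h1 := card_class x
  have h2 := card_cent_ge hf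
  have h3 := card_G_le hf
  by_contra h4
  have h5 : 46 ≤ Nat.card {y : G // Cl x y} := by omega
  have h6 := Nat.mul_le_mul h5 h2
  omega

end Cfsg.Agent.Lib.P43Cnt
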