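import Mathlib
import Cfsg.Agent.Lib.P43Cnt3

/-!
# The quadrangle property
-/

set_option autoImplicit false
set_option linter.unusedVariables false
set_option linter.unusedSectionVars false
set_option maxHeartbeats 0
set_option maxRecDepth 100000

namespace Cfsg.Agent.Lib.P43GQ

open Cfsg.Agent.Lib.P43Tab Cfsg.Agent.Lib.P43Mod Cfsg.Agent.Lib.P43Fa1 Cfsg.Agent.Lib.P43Syl
open Cfsg.Agent.Lib.P43Fa2 Cfsg.Agent.Lib.P43Z1 Cfsg.Agent.Lib.P43Fus Cfsg.Agent.Lib.P43Fus2
open Cfsg.Agent.Lib.P43Fus3 Cfsg.Agent.Lib.P43C1 Cfsg.Agent.Lib.P43C2 Cfsg.Agent.Lib.P43Cnt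

variable {G : Type*} [Group G] [Finite G] {x : G} {ph : ℕ → G}

/-- The points, listed. -/
def dl : Fin 5 → ℕ := ![24, 1, 75, 375, 575]

/-- The other elements of type `B`. -/
def b8 : Fin 8 → ℕ := ![117, 185, 203, 249, 307, 415, 445, 485]

theorem dl_D : ∀ a, isD (dl a) = true := by decide +kernel

theorem dl_inj : ∀ a b, dl a = dl b → a = b := by decide +kernel

theorem b8_inj : ∀ a b, b8 a = b8 b → a = b := by decide +kernel

theorem b8_facts : ∀ a, b8 a < 576 ∧ isB (b8 a) = true ∧ isE (b8 a) = false := by decide +kernel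

theorem noncomm : ∀ i b, i < 576 → b < 576 → isB i = true → isE i = false → isB b = true → isE b = true →
    cmC i b = false := by
  have h := allN_spec (n := 576) (p := fun i => impB (isB i && !isE i)
    (allN 576 fun b => impB (isB b && isE b) (!cmC i b))) (by decide +kernel)
  intro i b hi hb h1 h2 h3 h4
  have h5 := impB_spec (allN_spec (impB_spec (h i hi) (by simp [h1, h2])) b hb) (by simp [h3, h4])
  simpa using h5

/-- A frame of the point. -/
theorem exists_frame (hf : Fus x ph) {d : ℕ} (hd : isD d = true) :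
    ∃ n : G, n * x * n⁻¹ = ph d ∧ n ∈ Subgroup.normalizer ((EG hf.hm : Subgroup G) : Set G) :=
  exists_norm hf.hm (D_lt hd) (isD_facts d (D_lt hd) hd).1 (D_cl hf hd)

/-- A point of `E` seen from another point. -/
theorem point_code (hf : Fus x ph) {n : G} (hn : n ∈ Subgroup.normalizer ((EG hf.hm : Subgroup G) : Set G))
    {d d' : ℕ} (hd : isD d = true) (hd' : isD d' = true) (hne : d ≠ d') (hnx : n * x * n⁻¹ = ph d) :
    ∃ b, b < 576 ∧ isB b = true ∧ isE b = true ∧ n * ph b * n⁻¹ = ph d' := by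
  have hm := hf.hm
  have hni := Subgroup.inv_mem _ hn
  obtain ⟨b, hb, hbE, hbe⟩ := conj_of_code hm hni (D_lt hd') (isD_facts d' (D_lt hd') hd').1
  have hbe' : n * ph b * n⁻¹ = ph d' := by
    rw [← hbe]; group
  refine ⟨b, hb, ?_, hbE, hbe'⟩
  have h0 := isD_facts d' (D_lt hd') hd'
  apply hf.inv_type hb
  · intro h
    rw [h, hm.one] at hbe'
    apply h0.2.2.1
    apply (hm.eq_one_iff (D_lt hd')).1
    rw [← hbe']
    group
  · apply hm.inj _ _ (mulC_lt _ hb _ hb) zero_lt
    rw [hm.mul b b hb hb, ← hbe, hm.one]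
    have h1 : ph d' * ph d' = 1 := by
      rw [← hm.mul _ _ (D_lt hd') (D_lt hd'), h0.2.1, hm.one]
    calc n⁻¹ * ph d' * n⁻¹⁻¹ * (n⁻¹ * ph d' * n⁻¹⁻¹) = n⁻¹ * (ph d' * ph d') * n⁻¹⁻¹ := by group
      _ = 1 := by rw [h1]; group
  · intro h
    rw [h, hm.z, hnx] at hbe'
    exact hne (hm.inj _ _ (D_lt hd) (D_lt hd') hbe')
  · rw [← hbe]
    have := (D_cl hf hd').conj n⁻¹
    exact this

/-- The quadrangle property. -/
theorem gq (hf : Fus x ph) {y : G} (hy : Cl x y) : ∃ d, isD d = true ∧ y * ph d = ph d * y := by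
  classical
  have hm := hf.hm
  have hfr : ∀ a : Fin 5, ∃ n : G, n * x * n⁻¹ = ph (dl a) ∧
      n ∈ Subgroup.normalizer ((EG hm : Subgroup G) : Set G) := fun a => exists_frame hf (dl_D a)
  choose n hn1 hn2 using hfr
  let Ψ : (Fin 5 × Fin 8) ⊕ Fin 5 → {y : G // Cl x y} := fun k =>
    match k with
    | .inl (a, b) => ⟨n a * ph (b8 b) * (n a)⁻¹, (hf.hB _ (b8_facts b).1 (b8_facts b).2.1).conj _⟩
    | .inr a => ⟨ph (dl a), D_cl hf (dl_D a)⟩
  have hnot : ∀ a b a', n a * ph (b8 b) * (n a)⁻¹ ≠ ph (dl a') := by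
    intro a b a' h
    obtain ⟨h1, h2, h3⟩ := b8_facts b
    obtain ⟨f, hf1, hfE, hfe⟩ := conj_of_code hm (Subgroup.inv_mem _ (hn2 a)) (D_lt (dl_D a'))
      (isD_facts _ (D_lt (dl_D a')) (dl_D a')).1
    rw [← h] at hfe
    have e : (n a)⁻¹ * (n a * ph (b8 b) * (n a)⁻¹) * (n a)⁻¹⁻¹ = ph (b8 b) := by group
    rw [e] at hfe
    have := hm.inj _ _ h1 hf1 hfe
    rw [this] at h3
    rw [h3] at hfE
    exact absurd hfE (by decide)
  have hinj : Function.Injective Ψ := by
    rintro (⟨a, b⟩ | a) (⟨a', b'⟩ | a') h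
    · have h1 : n a * ph (b8 b) * (n a)⁻¹ = n a' * ph (b8 b') * (n a')⁻¹ := congrArg Subtype.val h
      by_cases haa : a = a'
      · subst haa
        have h2 := mul_left_cancel (mul_right_cancel h1)
        have h3 := b8_inj _ _ (hm.inj _ _ (b8_facts b).1 (b8_facts b').1 h2)
        rw [h3]
      · exfalso
        have hne : dl a ≠ dl a' := fun h => haa (dl_inj _ _ h)
        obtain ⟨c, hc, hcB, hcE, hce⟩ := point_code hf (hn2 a) (dl_D a) (dl_D a') hne (hn1 a)
        -- `y` commutes with both points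
        have h2 : ph (b8 b') * x = x * ph (b8 b') := hm.mem _ (b8_facts b').1
        have h3 : (n a * ph (b8 b) * (n a)⁻¹) * ph (dl a') = ph (dl a') * (n a * ph (b8 b) * (n a)⁻¹) := by
          rw [h1, ← hn1 a']
          calc n a' * ph (b8 b') * (n a')⁻¹ * (n a' * x * (n a')⁻¹) = n a' * (ph (b8 b') * x) * (n a')⁻¹ := by group
            _ = n a' * (x * ph (b8 b')) * (n a')⁻¹ := by rw [h2]
            _ = _ := by group
        rw [← hce] at h3
        have h4 : ph (b8 b) * ph c = ph c * ph (b8 b) := by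
          have e1 : n a * ph (b8 b) * (n a)⁻¹ * (n a * ph c * (n a)⁻¹) = n a * (ph (b8 b) * ph c) * (n a)⁻¹ := by group
          have e2 : n a * ph c * (n a)⁻¹ * (n a * ph (b8 b) * (n a)⁻¹) = n a * (ph c * ph (b8 b)) * (n a)⁻¹ := by group
          rw [e1, e2] at h3
          exact mul_left_cancel (mul_right_cancel h3)
        have h5 := (hm.comm_iff (b8_facts b).1 hc).1 h4
        have h6 := noncomm _ c (b8_facts b).1 hc (b8_facts b).2.1 (b8_facts b).2.2 hcB hcE
        rw [h6] at h5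
        exact absurd h5 (by decide)
    · exact absurd (congrArg Subtype.val h) (hnot a b a')
    · exact absurd (congrArg Subtype.val h).symm (hnot a' b' a)
    · have h1 : ph (dl a) = ph (dl a') := congrArg Subtype.val h
      have := dl_inj _ _ (hm.inj _ _ (D_lt (dl_D a)) (D_lt (dl_D a')) h1)
      rw [this]
  have hbij : Function.Bijective Ψ := by
    apply hinj.bijective_of_nat_card_le
    have h1 : Nat.card ((Fin 5 × Fin 8) ⊕ Fin 5) = 45 := by
      simp [Nat.card_eq_fintype_card]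
    rw [h1]
    exact card_I1 hf
  obtain ⟨k, hk⟩ := hbij.2 ⟨y, hy⟩
  rcases k with ⟨a, b⟩ | a
  · have h1 : n a * ph (b8 b) * (n a)⁻¹ = y := congrArg Subtype.val hk
    refine ⟨dl a, dl_D a, ?_⟩
    rw [← h1, ← hn1 a]
    have h2 : ph (b8 b) * x = x * ph (b8 b) := hm.mem _ (b8_facts b).1
    calc n a * ph (b8 b) * (n a)⁻¹ * (n a * x * (n a)⁻¹) = n a * (ph (b8 b) * x) * (n a)⁻¹ := by group
      _ = n a * (x * ph (b8 b)) * (n a)⁻¹ := by rw [h2]
      _ = _ := by group
  · have h1 : ph (dl a) = y := congrArg Subtype.val hk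
    exact ⟨dl a, dl_D a, by rw [h1]⟩

/-- An element of the first class commuting with two points is a point. -/
theorem two_points (hf : Fus x ph) {y : G} (hy : Cl x y) {d d' : ℕ} (hd : isD d = true)
    (hd' : isD d' = true) (hne : d ≠ d') (h1 : y * ph d = ph d * y) (h2 : y * ph d' = ph d' * y) :
    ∃ f, isD f = true ∧ y = ph f := by
  have hm := hf.hm
  obtain ⟨n, hn1, hn2⟩ := exists_frame hf hd
  obtain ⟨c, hc, hcB, hcE, hce⟩ := point_code hf hn2 hd hd' hne hn1
  have hc1 : (n⁻¹ * y * n) * x = x * (n⁻¹ * y * n) := by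
    rw [← hn1] at h1
    have e1 : n⁻¹ * (y * (n * x * n⁻¹)) * n = (n⁻¹ * y * n) * x := by group
    have e2 : n⁻¹ * ((n * x * n⁻¹) * y) * n = x * (n⁻¹ * y * n) := by group
    rw [← e1, h1, e2]
  obtain ⟨i, hi, hie⟩ := hm.rng _ hc1
  have hy2 : y = n * ph i * n⁻¹ := by
    rw [hie]; group
  have hcli : Cl x (ph i) := by
    rw [hie]
    have := hy.conj n⁻¹
    have e : n⁻¹ * y * n⁻¹⁻¹ = n⁻¹ * y * n := by group
    rwa [e] at this
  have hi0 : i ≠ 0 := by
    intro h
    have hy1 : y = 1 := by rw [hy2, h, hm.one]; group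
    obtain ⟨c', hc'⟩ := hy
    apply x_ne_one hm
    have e : x = c'⁻¹ * (c' * x * c'⁻¹) * c' := by group
    rw [e, hc', hy1]
    group
  have hisq : mulC i i = 0 := by
    apply hm.inj _ _ (mulC_lt _ hi _ hi) zero_lt
    rw [hm.mul i i hi hi, hm.one]
    obtain ⟨c', hc'⟩ := hcli
    rw [← hc']
    calc c' * x * c'⁻¹ * (c' * x * c'⁻¹) = c' * (x * x) * c'⁻¹ := by group
      _ = 1 := by rw [x_sq hm]; group
  by_cases h24 : i = 24
  · refine ⟨d, hd, ?_⟩
    rw [hy2, h24, hm.z, hn1]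
  · have hiB := hf.inv_type hi hi0 hisq h24 hcli
    have hiE : isE i = true := by
      cases h5 : isE i with
      | true => rfl
      | false =>
        exfalso
        have h6 := noncomm i c hi hc hiB h5 hcB hcE
        have h7 : ph i * ph c = ph c * ph i := by
          rw [← hce] at h2
          rw [hy2] at h2
          have e1 : n * ph i * n⁻¹ * (n * ph c * n⁻¹) = n * (ph i * ph c) * n⁻¹ := by group
          have e2 : n * ph c * n⁻¹ * (n * ph i * n⁻¹) = n * (ph c * ph i) * n⁻¹ := by group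
          rw [e1, e2] at h2
          exact mul_left_cancel (mul_right_cancel h2)
        have h8 := (hm.comm_iff hi hc).1 h7
        rw [h6] at h8
        exact absurd h8 (by decide)
    obtain ⟨f, hf1, hfE, hfe⟩ := conj_of_code hm hn2 hi hiE
    refine ⟨f, ?_, by rw [hy2, hfe]⟩
    apply D_of_E f hf1 hfE
    apply type_of_cl hf hf1 rfl
    · intro h
      rw [h] at hfe
      apply hi0
      apply (hm.eq_one_iff hi).1
      have e : ph i = n⁻¹ * (n * ph i * n⁻¹) * n := by group
      rw [e, hfe]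
      group
    · have : ph f * ph f = ph (mulC f f) := (hm.mul f f hf1 hf1).symm
      rw [this, (E_elem f f hf1 hf1 hfE hfE).1, hm.one]
    · rw [← hfe, ← hy2]
      exact hy

end Cfsg.Agent.Lib.P43GQ
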