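import Mathlib
import Cfsg.Agent.Lib.P43Mod
import Cfsg.Agent.Lib.PSp43Spec

/-!
# The model of the centraliser inside the symplectic group
-/

set_option autoImplicit false
set_option linter.unusedVariables false
set_option linter.unusedSectionVars false
set_option maxHeartbeats 0
set_option maxRecDepth 100000

namespace Cfsg.Agent.Lib.P43PSp

open Matrix Cfsg.Agent.Lib.P43Tab Cfsg.Agent.Lib.P43Mod
open Cfsg.Agent.Lib.PSp43Spec Cfsg.Agent.Lib.SpCenter

/-- The table of the entries of `SL₂(3)`. -/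
def tSL : ℕ := 2112403715100472423218843999680296279631631802618242933825

/-- An entry of an element of `SL₂(3)`. -/
def slE (i r c : ℕ) : ℕ := Nat.mod (Nat.shiftRight tSL (Nat.mul 2 (Nat.add (Nat.mul 4 i) (Nat.add (Nat.mul 2 r) c)))) 4

/-- The plane of an index. -/
def pl : I4 → ℕ
  | .inl k => k.val
  | .inr k => k.val

/-- The type of an index. -/
def tp : I4 → ℕ
  | .inl _ => 0
  | .inr _ => 1

/-- The action on the first plane. -/
def Lm (i : ℕ) : M4 := fun a b =>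
  bif (Nat.beq (pl a) 0 && Nat.beq (pl b) 0) then ((slE i (tp a) (tp b) : ℕ) : ZMod 3)
  else bif (Nat.beq (pl a) (pl b) && Nat.beq (tp a) (tp b)) then 1 else 0

/-- The action on the second plane. -/
def Rm (i : ℕ) : M4 := fun a b =>
  bif (Nat.beq (pl a) 1 && Nat.beq (pl b) 1) then ((slE i (tp a) (tp b) : ℕ) : ZMod 3)
  else bif (Nat.beq (pl a) (pl b) && Nat.beq (tp a) (tp b)) then 1 else 0

/-- The swap of the planes. -/
def Sg : M4 := fun a b => bif (!Nat.beq (pl a) (pl b) && Nat.beq (tp a) (tp b)) then 1 else 0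

/-- A power of the swap. -/
def Sgm (s : ℕ) : M4 := bif Nat.beq s 0 then 1 else Sg

/-- The matrix of a code. -/
def mat (c : ℕ) : M4 := Lm (cX c) * Rm (cY c) * Sgm (cS c)

theorem L_mul : ∀ i j, i < 24 → j < 24 → mS i j < 24 ∧ Lm (mS i j) = Lm i * Lm j ∧ Rm (mS i j) = Rm i * Rm j := by
  have h := allN2_spec (n := 24) (m := 24) (p := fun i j => Nat.blt (mS i j) 24 &&
    (decide (Lm (mS i j) = Lm i * Lm j) && decide (Rm (mS i j) = Rm i * Rm j))) (by decide +kernel)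
  intro i j hi hj
  have h1 := h i hi j hj
  simp only [Bool.and_eq_true, decide_eq_true_eq] at h1
  exact ⟨blt_spec h1.1, h1.2.1, h1.2.2⟩

theorem LR_comm : ∀ i j, i < 24 → j < 24 → Lm i * Rm j = Rm j * Lm i := by
  have h := allN2_spec (n := 24) (m := 24) (p := fun i j => decide (Lm i * Rm j = Rm j * Lm i))
    (by decide +kernel)
  intro i j hi hj
  exact of_decide_eq_true (h i hi j hj)

theorem S_facts : ∀ i, i < 24 → Sg * Lm i = Rm i * Sg ∧ Sg * Rm i = Lm i * Sg := by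
  have h := allN_spec (n := 24) (p := fun i => decide (Sg * Lm i = Rm i * Sg) && decide (Sg * Rm i = Lm i * Sg))
    (by decide +kernel)
  intro i hi
  have h1 := h i hi
  simp only [Bool.and_eq_true, decide_eq_true_eq] at h1
  exact h1

theorem Sg_sq : Sg * Sg = 1 := by decide +kernel

theorem neg_check : ∀ a b, a < 24 → b < 24 → 12 ≤ a → Lm (a - 12) * Rm ((b + 12) % 24) = -(Lm a * Rm b) := by
  have h := allN2_spec (n := 24) (m := 24) (p := fun a b => impB (Nat.ble 12 a)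
    (decide (Lm (a - 12) * Rm ((b + 12) % 24) = -(Lm a * Rm b)))) (by decide +kernel)
  intro a b ha hb h12
  exact of_decide_eq_true (impB_spec (h a ha b hb) (Nat.ble_eq.mpr h12))

theorem nf_check : ∀ a b s, a < 24 → b < 24 → s < 2 →
    (a < 12 ∧ cX (nfC a b s) = a ∧ cY (nfC a b s) = b ∧ cS (nfC a b s) = s) ∨
    (12 ≤ a ∧ cX (nfC a b s) = a - 12 ∧ cY (nfC a b s) = (b + 12) % 24 ∧ cS (nfC a b s) = s) := by
  have h := allN_spec (n := 24) (p := fun a => allN 24 fun b => allN 2 fun s =>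
    (Nat.blt a 12 && Nat.beq (cX (nfC a b s)) a && Nat.beq (cY (nfC a b s)) b && Nat.beq (cS (nfC a b s)) s) ||
    (Nat.ble 12 a && Nat.beq (cX (nfC a b s)) (a - 12) && Nat.beq (cY (nfC a b s)) ((b + 12) % 24) &&
      Nat.beq (cS (nfC a b s)) s)) (by decide +kernel)
  intro a b s ha hb hs
  have h1 := allN_spec (allN_spec (h a ha) b hb) s hs
  simp only [Bool.or_eq_true, Bool.and_eq_true] at h1
  rcases h1 with ⟨⟨⟨h2, h3⟩, h4⟩, h5⟩ | ⟨⟨⟨h2, h3⟩, h4⟩, h5⟩
  · exact Or.inl ⟨blt_spec h2, beq_spec h3, beq_spec h4, beq_spec h5⟩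
  · exact Or.inr ⟨Nat.le_of_ble_eq_true h2, beq_spec h3, beq_spec h4, beq_spec h5⟩

theorem mat_nfC {a b s : ℕ} (ha : a < 24) (hb : b < 24) (hs : s < 2) :
    mat (nfC a b s) = Lm a * Rm b * Sgm s ∨ mat (nfC a b s) = -(Lm a * Rm b * Sgm s) := by
  unfold mat
  rcases nf_check a b s ha hb hs with ⟨h1, h2, h3, h4⟩ | ⟨h1, h2, h3, h4⟩
  · left
    rw [h2, h3, h4]
  · right
    rw [h2, h3, h4, neg_check a b ha hb h1]
    exact Matrix.neg_mul _ _

theorem code_bounds {c : ℕ} (hc : c < 576) : cX c < 24 ∧ cY c < 24 ∧ cS c < 2 := by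
  unfold cX cY cS
  refine ⟨?_, ?_, ?_⟩
  · show c / 48 < 24
    omega
  · show c / 2 % 24 < 24
    omega
  · show c % 2 < 2
    omega

theorem Sgm_one {s : ℕ} (hs : s < 2) : Sg * Sgm s = Sgm (Nat.sub 1 s) := by
  interval_cases s
  · show Sg * 1 = Sg
    exact Matrix.mul_one _
  · exact Sg_sq

/-- The multiplication of matrices, up to sign. -/
theorem mat_mul {i j : ℕ} (hi : i < 576) (hj : j < 576) :
    mat (mulC i j) = mat i * mat j ∨ mat (mulC i j) = -(mat i * mat j) := by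
  obtain ⟨x1, y1, s1⟩ := code_bounds hi
  obtain ⟨u1, v1, w1⟩ := code_bounds hj
  have e : ∀ {a b s : ℕ}, a < 24 → b < 24 → s < 2 → Lm a * Rm b * Sgm s = mat i * mat j →
      nfC a b s = mulC i j → mat (mulC i j) = mat i * mat j ∨ mat (mulC i j) = -(mat i * mat j) := by
    intro a b s ha hb hs h1 h2
    rw [← h2, ← h1]
    exact mat_nfC ha hb hs
  unfold mulC
  have hs0 : cS i = 0 ∨ cS i = 1 := by omega
  rcases hs0 with h0 | h0
  · rw [h0]
    show mat (nfC (mS (cX i) (cX j)) (mS (cY i) (cY j)) (cS j)) = _ ∨ mat (nfC (mS (cX i) (cX j)) (mS (cY i) (cY j)) (cS j)) = _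
    obtain ⟨a1, a2, a3⟩ := L_mul _ _ x1 u1
    obtain ⟨b1, b2, b3⟩ := L_mul _ _ y1 v1
    have := mat_nfC (a := mS (cX i) (cX j)) (b := mS (cY i) (cY j)) a1 b1 w1
    have e2 : Lm (mS (cX i) (cX j)) * Rm (mS (cY i) (cY j)) * Sgm (cS j) = mat i * mat j := by
      unfold mat
      rw [h0, a2, b3]
      show Lm (cX i) * Lm (cX j) * (Rm (cY i) * Rm (cY j)) * Sgm (cS j) =
        Lm (cX i) * Rm (cY i) * 1 * (Lm (cX j) * Rm (cY j) * Sgm (cS j))
      have c1 := LR_comm (cX j) (cY i) u1 y1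
      simp only [Matrix.mul_one, Matrix.mul_assoc]
      congr 1
      rw [← Matrix.mul_assoc (Lm (cX j)), c1]
      simp only [Matrix.mul_assoc]
    rw [e2] at this
    exact this
  · rw [h0]
    show mat (nfC (mS (cX i) (cY j)) (mS (cY i) (cX j)) (Nat.sub 1 (cS j))) = _ ∨
      mat (nfC (mS (cX i) (cY j)) (mS (cY i) (cX j)) (Nat.sub 1 (cS j))) = _
    obtain ⟨a1, a2, a3⟩ := L_mul _ _ x1 v1
    obtain ⟨b1, b2, b3⟩ := L_mul _ _ y1 u1
    have hsub : Nat.sub 1 (cS j) < 2 := by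
      show 1 - cS j < 2
      omega
    have := mat_nfC (a := mS (cX i) (cY j)) (b := mS (cY i) (cX j)) a1 b1 hsub
    have e2 : Lm (mS (cX i) (cY j)) * Rm (mS (cY i) (cX j)) * Sgm (Nat.sub 1 (cS j)) = mat i * mat j := by
      unfold mat
      rw [h0, a2, b3, ← Sgm_one w1]
      show Lm (cX i) * Lm (cY j) * (Rm (cY i) * Rm (cX j)) * (Sg * Sgm (cS j)) =
        Lm (cX i) * Rm (cY i) * Sg * (Lm (cX j) * Rm (cY j) * Sgm (cS j))
      obtain ⟨s1', s2'⟩ := S_facts (cX j) u1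
      obtain ⟨s3', s4'⟩ := S_facts (cY j) v1
      have c1 := LR_comm (cY j) (cY i) v1 y1
      have c2 := LR_comm (cY j) (cX j) v1 u1
      calc Lm (cX i) * Lm (cY j) * (Rm (cY i) * Rm (cX j)) * (Sg * Sgm (cS j))
          = Lm (cX i) * (Lm (cY j) * Rm (cY i)) * Rm (cX j) * Sg * Sgm (cS j) := by
            simp only [Matrix.mul_assoc]
        _ = Lm (cX i) * (Rm (cY i) * Lm (cY j)) * Rm (cX j) * Sg * Sgm (cS j) := by rw [c1]
        _ = Lm (cX i) * Rm (cY i) * (Lm (cY j) * Rm (cX j)) * Sg * Sgm (cS j) := by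
            simp only [Matrix.mul_assoc]
        _ = Lm (cX i) * Rm (cY i) * (Rm (cX j) * Lm (cY j)) * Sg * Sgm (cS j) := by rw [c2]
        _ = Lm (cX i) * Rm (cY i) * (Rm (cX j) * (Lm (cY j) * Sg)) * Sgm (cS j) := by
            simp only [Matrix.mul_assoc]
        _ = Lm (cX i) * Rm (cY i) * (Rm (cX j) * (Sg * Rm (cY j))) * Sgm (cS j) := by rw [s4']
        _ = Lm (cX i) * Rm (cY i) * ((Rm (cX j) * Sg) * Rm (cY j)) * Sgm (cS j) := by
            simp only [Matrix.mul_assoc]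
        _ = Lm (cX i) * Rm (cY i) * ((Sg * Lm (cX j)) * Rm (cY j)) * Sgm (cS j) := by rw [s1']
        _ = _ := by simp only [Matrix.mul_assoc]
    rw [e2] at this
    exact this

end Cfsg.Agent.Lib.P43PSp
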