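import Mathlib
import Cfsg.Agent.Lib.P43PSp

/-!
# The model of the centraliser inside the symplectic group, second part
-/

set_option autoImplicit false
set_option linter.unusedVariables false
set_option linter.unusedSectionVars false
set_option maxHeartbeats 0
set_option maxRecDepth 100000

namespace Cfsg.Agent.Lib.P43PSp

open Matrix Cfsg.Agent.Lib.P43Tab Cfsg.Agent.Lib.P43Mod
open Cfsg.Agent.Lib.PSp43Spec Cfsg.Agent.Lib.SpCenter

theorem L_mem : ∀ i, i < 24 → Lm i ∈ symplecticGroup (Fin 2) (ZMod 3) ∧ Rm i ∈ symplecticGroup (Fin 2) (ZMod 3) := by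
  have h := allN_spec (n := 24) (p := fun i =>
    decide (Lm i * J (Fin 2) (ZMod 3) * (Lm i)ᵀ = J (Fin 2) (ZMod 3)) &&
    decide (Rm i * J (Fin 2) (ZMod 3) * (Rm i)ᵀ = J (Fin 2) (ZMod 3))) (by decide +kernel)
  intro i hi
  have h1 := h i hi
  simp only [Bool.and_eq_true, decide_eq_true_eq] at h1
  exact ⟨SymplecticGroup.mem_iff.2 h1.1, SymplecticGroup.mem_iff.2 h1.2⟩

theorem Sg_mem : Sg ∈ symplecticGroup (Fin 2) (ZMod 3) := by
  rw [SymplecticGroup.mem_iff]
  decide +kernel

theorem Sgm_mem {s : ℕ} : Sgm s ∈ symplecticGroup (Fin 2) (ZMod 3) := by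
  unfold Sgm
  cases Nat.beq s 0 with
  | true => exact one_mem _
  | false => exact Sg_mem

theorem mat_mem {c : ℕ} (h : c < 576) : mat c ∈ symplecticGroup (Fin 2) (ZMod 3) := by
  obtain ⟨h1, h2, h3⟩ := code_bounds h
  unfold mat
  exact mul_mem (mul_mem (L_mem _ h1).1 (L_mem _ h2).2) Sgm_mem

/-- The lift of a code. -/
def lf {c : ℕ} (h : c < 576) : S4 := ⟨mat c, mat_mem h⟩

/-- The parametrisation of the centraliser. -/
noncomputable def phP (c : ℕ) : Cfsg.PSp 2 (ZMod 3) :=
  if h : c < 576 then ((lf h : S4) : S4 ⧸ Subgroup.center S4) else 1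

theorem phP_lt {c : ℕ} (h : c < 576) : phP c = ((lf h : S4) : S4 ⧸ Subgroup.center S4) := by
  unfold phP
  rw [dif_pos h]

theorem mk_eq {A B : S4} (h : A.1 = B.1 ∨ A.1 = -B.1) :
    (A : S4 ⧸ Subgroup.center S4) = (B : S4 ⧸ Subgroup.center S4) := by
  rw [QuotientGroup.eq, mem_center_iff]
  rcases h with h | h
  · left
    have : A = B := Subtype.ext h
    rw [this]
    group
  · right
    apply Subtype.ext
    have hB : B = A * negOne := by
      apply Subtype.ext
      show B.1 = A.1 * (-1)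
      rw [h]
      simp
    rw [hB]
    group

theorem mk_eq_iff {A B : S4} (h : (A : S4 ⧸ Subgroup.center S4) = (B : S4 ⧸ Subgroup.center S4)) :
    A.1 = B.1 ∨ A.1 = -B.1 := by
  rw [QuotientGroup.eq, mem_center_iff] at h
  rcases h with h | h
  · left
    have : B = A := by
      have h2 : A * (A⁻¹ * B) = A * 1 := by rw [h]
      simpa using h2
    rw [this]
  · right
    have h2 : B = A * negOne := by
      have h3 : A * (A⁻¹ * B) = A * negOne := by rw [h]
      simpa using h3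
    rw [h2]
    show A.1 = -(A.1 * (-1))
    simp

theorem mat_zero : mat 0 = 1 := by decide +kernel

theorem mat_zero_check : ∀ c, c < 576 → (mat c = 1 ∨ mat c = -1) → c = 0 := by
  have h := allN_spec (n := 576) (p := fun c => impB (decide (mat c = 1) || decide (mat c = -1)) (Nat.beq c 0))
    (by decide +kernel)
  intro c hc h1
  apply beq_spec
  apply impB_spec (h c hc)
  rcases h1 with h1 | h1
  · simp [h1]
  · simp [h1]

theorem inv_uniq : ∀ j i, j < 576 → i < 576 → mulC (invC j) i = 0 → i = j := by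
  have h := allN_spec (n := 576) (p := fun j => allN 576 fun i => impB (Nat.beq (mulC (invC j) i) 0) (Nat.beq i j))
    (by decide +kernel)
  intro j i hj hi h1
  exact beq_spec (impB_spec (allN_spec (h j hj) i hi) (P43Tab.beq_of_eq h1))

theorem cm24 : ∀ i, i < 576 → cmC i 24 = true := by
  have h := allN_spec (n := 576) (p := fun i => cmC i 24) (by decide +kernel)
  exact h

theorem phP_mul {i j : ℕ} (hi : i < 576) (hj : j < 576) : phP (mulC i j) = phP i * phP j := by
  rw [phP_lt (mulC_lt i hi j hj), phP_lt hi, phP_lt hj, ← QuotientGroup.mk_mul]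
  exact mk_eq (mat_mul hi hj)

theorem phP_zero : phP 0 = 1 := by
  rw [phP_lt zero_lt]
  apply (QuotientGroup.eq_one_iff _).2
  rw [mem_center_iff]
  left
  exact Subtype.ext mat_zero

theorem phP_inj {i j : ℕ} (hi : i < 576) (hj : j < 576) (h : phP i = phP j) : i = j := by
  have hc : mulC (invC j) i < 576 := mulC_lt _ (invC_lt hj) _ hi
  have h1 : phP (mulC (invC j) i) = 1 := by
    rw [phP_mul (invC_lt hj) hi, h, ← phP_mul (invC_lt hj) hj, (invC_spec j hj).2.2, phP_zero]
  rw [phP_lt hc] at h1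
  have h2 := (QuotientGroup.eq_one_iff _).1 h1
  rw [mem_center_iff] at h2
  have h3 : mulC (invC j) i = 0 := by
    apply mat_zero_check _ hc
    rcases h2 with h2 | h2
    · left
      exact congrArg Subtype.val h2
    · right
      exact congrArg Subtype.val h2
  exact inv_uniq j i hj hi h3

/-- The diagonal element. -/
def dd (a : I4) : ZMod 3 := bif Nat.beq (pl a) 0 then 1 else -1

theorem tt_eq : mat 24 = diagonal dd := by decide +kernel

theorem Sg_tt : Sg * mat 24 = -(mat 24 * Sg) := by decide +kernel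

theorem off_zero {A : M4} (h : A * mat 24 = mat 24 * A) {a b : I4} (hab : pl a ≠ pl b) : A a b = 0 := by
  rw [tt_eq] at h
  have h1 := congrFun (congrFun h a) b
  rw [mul_diagonal, diagonal_mul] at h1
  have key1 : ∀ x : ZMod 3, x * (-1) = 1 * x → x = 0 := by decide
  have key2 : ∀ x : ZMod 3, x * 1 = (-1) * x → x = 0 := by decide
  have hpl : ∀ c : I4, pl c = 0 ∨ pl c = 1 := by
    intro c
    rcases c with c | c <;> fin_cases c <;> simp [pl]
  rcases hpl a with ha | ha <;> rcases hpl b with hb | hb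
  · exact absurd (by rw [ha, hb]) hab
  · apply key1
    simp only [dd, ha, hb] at h1
    exact h1
  · apply key2
    simp only [dd, ha, hb] at h1
    exact h1
  · exact absurd (by rw [ha, hb]) hab

/-- The block form. -/
def dgE (i j : ℕ) : M4 := fun a b =>
  bif !Nat.beq (pl a) (pl b) then 0
  else bif Nat.beq (pl a) 0 then ((slE i (tp a) (tp b) : ℕ) : ZMod 3) else ((slE j (tp a) (tp b) : ℕ) : ZMod 3)

theorem LR_form : ∀ i j, i < 24 → j < 24 → Lm i * Rm j = dgE i j := by
  have h := allN2_spec (n := 24) (m := 24) (p := fun i j => decide (Lm i * Rm j = dgE i j)) (by decide +kernel)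
  intro i j hi hj
  exact of_decide_eq_true (h i hi j hj)

theorem exists_sl : ∀ a b c d : ZMod 3, a * d - b * c = 1 → anyN 24 (fun i =>
    decide (((slE i 0 0 : ℕ) : ZMod 3) = a) && decide (((slE i 0 1 : ℕ) : ZMod 3) = b) &&
    decide (((slE i 1 0 : ℕ) : ZMod 3) = c) && decide (((slE i 1 1 : ℕ) : ZMod 3) = d)) = true := by
  decide +kernel

theorem exists_sl' {a b c d : ZMod 3} (h : a * d - b * c = 1) : ∃ i, i < 24 ∧
    ((slE i 0 0 : ℕ) : ZMod 3) = a ∧ ((slE i 0 1 : ℕ) : ZMod 3) = b ∧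
    ((slE i 1 0 : ℕ) : ZMod 3) = c ∧ ((slE i 1 1 : ℕ) : ZMod 3) = d := by
  obtain ⟨i, hi, h1⟩ := anyN_spec (exists_sl a b c d h)
  simp only [Bool.and_eq_true, decide_eq_true_eq] at h1
  exact ⟨i, hi, h1.1.1.1, h1.1.1.2, h1.1.2, h1.2⟩

/-- The expansion of the form. -/
theorem form_entry (A : M4) (p : Fin 2) :
    (A * J (Fin 2) (ZMod 3) * Aᵀ) (Sum.inl p) (Sum.inr p) =
      A (Sum.inl p) (Sum.inr 0) * A (Sum.inr p) (Sum.inl 0) - A (Sum.inl p) (Sum.inl 0) * A (Sum.inr p) (Sum.inr 0) +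
      (A (Sum.inl p) (Sum.inr 1) * A (Sum.inr p) (Sum.inl 1) - A (Sum.inl p) (Sum.inl 1) * A (Sum.inr p) (Sum.inr 1)) := by
  simp only [Matrix.mul_apply, Fintype.sum_sum_type, Fin.sum_univ_two, J, fromBlocks_apply₁₁,
    fromBlocks_apply₁₂, fromBlocks_apply₂₁, fromBlocks_apply₂₂, transpose_apply]
  simp
  ring

theorem J_entry (p : Fin 2) : J (Fin 2) (ZMod 3) (Sum.inl p) (Sum.inr p) = -1 := by
  simp [J]

theorem block_of_comm {A : M4} (hA : A ∈ symplecticGroup (Fin 2) (ZMod 3)) (h : A * mat 24 = mat 24 * A) :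
    ∃ i j, i < 24 ∧ j < 24 ∧ A = Lm i * Rm j := by
  have hJ := SymplecticGroup.mem_iff.1 hA
  have hoff : ∀ a b : I4, pl a ≠ pl b → A a b = 0 := fun a b hab => off_zero h hab
  have d0 := congrFun (congrFun hJ (Sum.inl 0)) (Sum.inr 0)
  have d1 := congrFun (congrFun hJ (Sum.inl 1)) (Sum.inr 1)
  rw [form_entry, J_entry] at d0 d1
  have z1 : A (Sum.inl 0) (Sum.inr 1) = 0 := hoff _ _ (by decide)
  have z2 : A (Sum.inr 0) (Sum.inl 1) = 0 := hoff _ _ (by decide)
  have z3 : A (Sum.inl 0) (Sum.inl 1) = 0 := hoff _ _ (by decide)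
  have z4 : A (Sum.inr 0) (Sum.inr 1) = 0 := hoff _ _ (by decide)
  have z5 : A (Sum.inl 1) (Sum.inr 0) = 0 := hoff _ _ (by decide)
  have z6 : A (Sum.inr 1) (Sum.inl 0) = 0 := hoff _ _ (by decide)
  have z7 : A (Sum.inl 1) (Sum.inl 0) = 0 := hoff _ _ (by decide)
  have z8 : A (Sum.inr 1) (Sum.inr 0) = 0 := hoff _ _ (by decide)
  rw [z1, z3] at d0
  rw [z5, z7] at d1
  have hd0 : A (Sum.inl 0) (Sum.inl 0) * A (Sum.inr 0) (Sum.inr 0) -
      A (Sum.inl 0) (Sum.inr 0) * A (Sum.inr 0) (Sum.inl 0) = 1 := by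
    linear_combination -d0
  have hd1 : A (Sum.inl 1) (Sum.inl 1) * A (Sum.inr 1) (Sum.inr 1) -
      A (Sum.inl 1) (Sum.inr 1) * A (Sum.inr 1) (Sum.inl 1) = 1 := by
    linear_combination -d1
  obtain ⟨i, hi, i00, i01, i10, i11⟩ := exists_sl' hd0
  obtain ⟨j, hj, j00, j01, j10, j11⟩ := exists_sl' hd1
  refine ⟨i, j, hi, hj, ?_⟩
  rw [LR_form i j hi hj]
  funext a b
  rcases a with a | a <;> rcases b with b | b <;> fin_cases a <;> fin_cases b
  · exact i00.symm
  · exact z3
  · exact z7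
  · exact j00.symm
  · exact i01.symm
  · exact z1
  · exact z5
  · exact j01.symm
  · exact i10.symm
  · exact z2
  · exact z6
  · exact j10.symm
  · exact i11.symm
  · exact z4
  · exact z8
  · exact j11.symm

theorem nf_lt {a b s : ℕ} (ha : a < 24) (hb : b < 24) (hs : s < 2) : nfC a b s < 576 := by
  unfold nfC
  cases h : Nat.blt a 12 with
  | true =>
    have h1 : a < 12 := blt_spec h
    show a * 48 + b * 2 + s < 576
    omega
  | false =>
    show (a - 12) * 48 + ((b + 12) % 24) * 2 + s < 576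
    have h2 : (b + 12) % 24 < 24 := Nat.mod_lt _ (by norm_num)
    omega

/-- The centraliser is parametrised. -/
theorem phP_rng (g : Cfsg.PSp 2 (ZMod 3)) (hg : g * phP 24 = phP 24 * g) : ∃ i, i < 576 ∧ phP i = g := by
  obtain ⟨A, rfl⟩ := QuotientGroup.mk_surjective g
  rw [phP_lt z_lt, ← QuotientGroup.mk_mul, ← QuotientGroup.mk_mul] at hg
  have h1 := mk_eq_iff hg
  have hform : ∃ i j s, i < 24 ∧ j < 24 ∧ s < 2 ∧ A.1 = Lm i * Rm j * Sgm s := by
    rcases h1 with h1 | h1
    · obtain ⟨i, j, hi, hj, he⟩ := block_of_comm A.2 h1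
      refine ⟨i, j, 0, hi, hj, by norm_num, ?_⟩
      rw [he]
      exact (Matrix.mul_one _).symm
    · have hS : A.1 * Sg ∈ symplecticGroup (Fin 2) (ZMod 3) := mul_mem A.2 Sg_mem
      have h2 : (A.1 * Sg) * mat 24 = mat 24 * (A.1 * Sg) := by
        have e1 : A.1 * mat 24 = -(mat 24 * A.1) := h1
        calc (A.1 * Sg) * mat 24 = A.1 * (Sg * mat 24) := Matrix.mul_assoc _ _ _
          _ = A.1 * (-(mat 24 * Sg)) := by rw [Sg_tt]
          _ = -((A.1 * mat 24) * Sg) := by rw [Matrix.mul_neg, Matrix.mul_assoc]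
          _ = -((-(mat 24 * A.1)) * Sg) := by rw [e1]
          _ = (mat 24 * A.1) * Sg := by rw [Matrix.neg_mul, neg_neg]
          _ = mat 24 * (A.1 * Sg) := Matrix.mul_assoc _ _ _
      obtain ⟨i, j, hi, hj, he⟩ := block_of_comm hS h2
      refine ⟨i, j, 1, hi, hj, by norm_num, ?_⟩
      show A.1 = Lm i * Rm j * Sg
      rw [← he, Matrix.mul_assoc, Sg_sq, Matrix.mul_one]
  obtain ⟨i, j, s, hi, hj, hs, he⟩ := hform
  have hlt := nf_lt hi hj hs
  refine ⟨nfC i j s, hlt, ?_⟩
  rw [phP_lt hlt]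
  apply mk_eq
  rcases mat_nfC hi hj hs with h2 | h2
  · left
    show mat _ = _
    rw [h2, he]
  · right
    show mat _ = _
    rw [h2, he]

/-- The central involution. -/
noncomputable def t₁ : Cfsg.PSp 2 (ZMod 3) := phP 24

/-- The model. -/
theorem mod_phP : Mod t₁ phP where
  mul i j hi hj := phP_mul hi hj
  inj i j hi hj h := phP_inj hi hj h
  rng g hg := phP_rng g hg
  mem i hi := by
    unfold t₁
    rw [← phP_mul hi z_lt, ← phP_mul z_lt hi]
    have h1 := cm24 i hi
    unfold cmC at h1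
    rw [beq_spec h1]
  z := rfl

end Cfsg.Agent.Lib.P43PSp
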