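import Mathlib
import Cfsg.Agent.Lib.P43GQ

/-!
# The element swapping two commuting points
-/

set_option autoImplicit false
set_option linter.unusedVariables false
set_option linter.unusedSectionVars false
set_option maxHeartbeats 0
set_option maxRecDepth 100000

namespace Cfsg.Agent.Lib.P43Nu

open Cfsg.Agent.Lib.P43Tab Cfsg.Agent.Lib.P43Mod Cfsg.Agent.Lib.P43Fa1 Cfsg.Agent.Lib.P43Syl
open Cfsg.Agent.Lib.P43Fa2 Cfsg.Agent.Lib.P43Z1 Cfsg.Agent.Lib.P43Fus Cfsg.Agent.Lib.P43Fus2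
open Cfsg.Agent.Lib.P43Fus3 Cfsg.Agent.Lib.P43C1 Cfsg.Agent.Lib.P43C2 Cfsg.Agent.Lib.P43Cnt
open Cfsg.Agent.Lib.P43GQ

variable {G : Type*} [Group G] [Finite G] {x : G} {ph : ℕ → G}

/-- A criterion for normalising `E`. -/
theorem norm_of_two (hf : Fus x ph) {h : G} {d p e e' : ℕ} (hd : isD d = true) (hp : isD p = true)
    (he : e < 576) (heE : isE e = true) (he0 : e ≠ 0) (heD : isD e = false) (he' : e' < 576)
    (he'E : isE e' = true) (h1 : h * ph d * h⁻¹ = ph p) (h2 : h * ph e * h⁻¹ = ph e') :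
    h ∈ Subgroup.normalizer ((EG hf.hm : Subgroup G) : Set G) := by
  have hm := hf.hm
  obtain ⟨n1, hn1x, hn1⟩ := exists_frame hf hp
  obtain ⟨n2, hn2x, hn2⟩ := exists_frame hf hd
  have hk : (n1⁻¹ * h * n2) * x = x * (n1⁻¹ * h * n2) := by
    have e1 : (n1⁻¹ * h * n2) * x = n1⁻¹ * (h * (n2 * x * n2⁻¹) * h⁻¹) * (h * n2) := by group
    rw [e1, hn2x, h1, ← hn1x]
    group
  obtain ⟨κ, hκ, hκe⟩ := hm.rng _ hk
  have hn2i := Subgroup.inv_mem _ hn2
  have hn1i := Subgroup.inv_mem _ hn1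
  obtain ⟨e1, he1, he1E, he1e⟩ := conj_of_code hm hn2i he heE
  obtain ⟨w0, hw0, hw0E, hw0e⟩ := conj_of_code hm hn1i he' he'E
  have hrel : ph κ * ph e1 * (ph κ)⁻¹ = ph w0 := by
    rw [← he1e, ← hw0e, hκe, ← h2]
    group
  have hcode : cjC κ e1 = w0 := by
    apply hm.inj _ _ (cjC_lt hκ he1) hw0
    rw [hm.cj hκ he1, hrel]
  have hback : ph e = n2 * ph e1 * n2⁻¹ := by
    rw [← he1e]; group
  have he1_ne0 : e1 ≠ 0 := by
    intro h0
    apply he0
    apply (hm.eq_one_iff he).1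
    rw [hback, h0, hm.one]
    group
  have he1_ne24 : e1 ≠ 24 := by
    intro h0
    have hcl : Cl x (ph e) := by
      rw [hback, h0, hm.z]
      exact ⟨n2, rfl⟩
    have h3 : isD e = true := by
      apply D_of_E e he heE
      apply type_of_cl hf he rfl
      · intro h4
        exact he0 ((hm.eq_one_iff he).1 h4)
      · rw [← hm.mul e e he he, (E_elem e e he he heE heE).1, hm.one]
      · exact hcl
    rw [heD] at h3
    exact absurd h3 (by decide)
  have hκN := isN_check κ e1 hκ he1 he1E he1_ne0 he1_ne24 (by rw [hcode]; exact hw0E)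
  have e5 : h = n1 * ph κ * n2⁻¹ := by
    rw [hκe]; group
  rw [e5]
  exact Subgroup.mul_mem _ (Subgroup.mul_mem _ hn1 (isN_mem hm hκ hκN)) hn2i

theorem E_type : ∀ e, e < 576 → isE e = true → e ≠ 0 → isD e = false → isA e = true ∨ isC e = true := by
  have h := allN_spec (n := 576) (p := fun e => impB (isE e && !Nat.beq e 0 && !isD e) (isA e || isC e))
    (by decide +kernel)
  intro e he h1 h2 h3
  have e0 : Nat.beq e 0 = false := by
    cases h7 : Nat.beq e 0 with
    | false => rfl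
    | true => exact absurd (beq_spec h7) h2
  have := impB_spec (h e he) (by simp [h1, e0, h3])
  simpa using this

/-- The elements of the first class commuting with a non-point of `E` are points. -/
theorem point_comm_E (hf : Fus x ph) {e : ℕ} (he : e < 576) (heE : isE e = true) (he0 : e ≠ 0)
    (heD : isD e = false) {y : G} (hy : Cl x y) (hc : y * ph e = ph e * y) :
    ∃ f, isD f = true ∧ y = ph f := by
  have hm := hf.hm
  have hcl : Cl (ph 74) (ph e) := by
    rcases E_type e he heE he0 heD with h | h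
    · exact A_cl hf he h
    · exact C_cl hf he h
  obtain ⟨c, hc'⟩ := hcl
  have hF := hf.conj c
  have hc74 : c * ph 74 * c⁻¹ = ph e := hc'
  -- `c` normalises `E`
  obtain ⟨d, d', hd, hd', hdD, hdD', hdd⟩ := E_split e he heE he0 heD
  have hpair : ph d = c * ph 1 * c⁻¹ ∨ ph d = c * ph 75 * c⁻¹ := by
    apply pair_eq hF
    · exact (cl_base c).2 (D_cl hf hdD)
    · show ph d * (c * ph 74 * c⁻¹) = (c * ph 74 * c⁻¹) * ph d
      rw [hc74]
      exact (hm.comm_iff hd he).2 (E_elem d e hd he (isD_facts d hd hdD).1 heE).2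
    · show Cl (c * x * c⁻¹) (ph d * (c * ph 74 * c⁻¹))
      rw [hc74, ← hm.mul d e hd he, hdd]
      exact (cl_base c).2 (D_cl hf hdD')
  have hN : c ∈ Subgroup.normalizer ((EG hm : Subgroup G) : Set G) := by
    rcases hpair with h | h
    · exact norm_of_two hf (d := 1) (p := d) (e := 74) (e' := e) (by decide +kernel) hdD (by norm_num)
        (by decide +kernel) (by norm_num) (by decide +kernel) he heE h.symm hc74
    · exact norm_of_two hf (d := 75) (p := d) (e := 74) (e' := e) (by decide +kernel) hdD (by norm_num)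
        (by decide +kernel) (by norm_num) (by decide +kernel) he heE h.symm hc74
  obtain ⟨d1, hd1, hd1e⟩ := point_of_comm hF ((cl_base c).2 hy) (by
    show y * (c * ph 74 * c⁻¹) = (c * ph 74 * c⁻¹) * y
    rw [hc74]
    exact hc)
  have hd1e' : y = c * ph d1 * c⁻¹ := hd1e
  obtain ⟨f, hf1, hfE, hfe⟩ := conj_of_code hm hN (D_lt hd1) (isD_facts d1 (D_lt hd1) hd1).1
  refine ⟨f, ?_, by rw [hd1e', hfe]⟩
  apply D_of_E f hf1 hfE
  apply type_of_cl hf hf1 rfl
  · intro h
    apply (isD_facts d1 (D_lt hd1) hd1).2.2.1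
    apply (hm.eq_one_iff (D_lt hd1)).1
    rw [h] at hfe
    have e2 : ph d1 = c⁻¹ * (c * ph d1 * c⁻¹) * c := by group
    rw [e2, hfe]
    group
  · rw [← hm.mul f f hf1 hf1, (E_elem f f hf1 hf1 hfE hfE).1, hm.one]
  · rw [← hfe, ← hd1e']
    exact hy

theorem nu_codes : mulC 24 25 = 1 ∧ mulC 1 25 = 24 ∧ mulC 25 25 = 0 ∧ mulC 100 (mulC 100 100) = 0 ∧
    invC 100 = 500 ∧ cjC 100 24 = 24 ∧ cjC 100 1 = 1 ∧ cjC 100 75 = 575 ∧ cjC 100 375 = 75 ∧
    cjC 100 575 = 375 ∧ isE 25 = true ∧ isD 25 = false ∧ mulC 100 100 = 500 ∧ isC 25 = true := by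
  decide +kernel

/-- A swap of the two points. -/
def Swp (x : G) (ph : ℕ → G) (g : G) : Prop := g * x * g⁻¹ = ph 1 ∧ g * ph 1 * g⁻¹ = x

theorem exists_swp (hf : Fus x ph) : ∃ g : G, Swp x ph g := by
  have hm := hf.hm
  obtain ⟨f1, f2, f3, f4, f5, f6, f7, f8, f9, f10, f11, f12, f13, f14⟩ := nu_codes
  obtain ⟨c, hc⟩ := C_cl hf (by norm_num) f14
  have hF := hf.conj c
  have h25 : c * ph 74 * c⁻¹ = ph 25 := hc
  have ez : x * ph 25 = ph 1 := by rw [← hm.z, ← hm.mul 24 25 z_lt (by norm_num), f1]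
  have e1 : ph 1 * ph 25 = x := by
    rw [← hm.mul 1 25 (by norm_num) (by norm_num), f2, hm.z]
  have hcl1 : Cl x (ph 1) := hf.hB 1 (by norm_num) (by decide +kernel)
  have c1 : x * ph 25 = ph 25 * x := (hm.mem 25 (by norm_num)).symm
  have c2 : ph 1 * ph 25 = ph 25 * ph 1 :=
    (hm.comm_iff (by norm_num) (by norm_num)).2 (by decide +kernel)
  obtain ⟨s, hs1, hs2⟩ := pair_trans hF (y := x) (y' := ph 1) ((cl_base c).2 (Cl.refl x)) ((cl_base c).2 hcl1)
    (by show x * (c * ph 74 * c⁻¹) = (c * ph 74 * c⁻¹) * x; rw [h25]; exact c1)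
    (by show ph 1 * (c * ph 74 * c⁻¹) = (c * ph 74 * c⁻¹) * ph 1; rw [h25]; exact c2)
    (by show Cl (c * x * c⁻¹) (x * (c * ph 74 * c⁻¹)); rw [h25, ez]; exact (cl_base c).2 hcl1)
    (by show Cl (c * x * c⁻¹) (ph 1 * (c * ph 74 * c⁻¹)); rw [h25, e1]; exact (cl_base c).2 (Cl.refl x))
  have hs2' : s * ph 25 = ph 25 * s := by
    have : s * (c * ph 74 * c⁻¹) = (c * ph 74 * c⁻¹) * s := hs2
    rwa [h25] at this
  refine ⟨s, hs1, ?_⟩
  calc s * ph 1 * s⁻¹ = s * (x * ph 25) * s⁻¹ := by rw [ez]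
    _ = (s * x * s⁻¹) * (s * ph 25 * s⁻¹) := by group
    _ = ph 1 * ph 25 := by
      rw [hs1, hs2']
      group
    _ = x := e1

/-- The other three points. -/
def T3 (d : ℕ) : Prop := d = 75 ∨ d = 375 ∨ d = 575

theorem T3_lt {d : ℕ} (h : T3 d) : d < 576 := by
  rcases h with rfl | rfl | rfl <;> norm_num

theorem T3_D {d : ℕ} (h : T3 d) : isD d = true := by
  rcases h with rfl | rfl | rfl <;> decide +kernel

theorem Swp.comm25 (hf : Fus x ph) {g : G} (h : Swp x ph g) : g * ph 25 = ph 25 * g := by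
  have hm := hf.hm
  obtain ⟨f1, f2, f3, f4, f5, f6, f7, f8, f9, f10, f11, f12, f13, f14⟩ := nu_codes
  have ez : x * ph 25 = ph 1 := by rw [← hm.z, ← hm.mul 24 25 z_lt (by norm_num), f1]
  have h25 : ph 25 = x * ph 1 := by
    rw [← hm.z, ← hm.mul 24 1 z_lt (by norm_num)]
    rw [show mulC 24 1 = 25 by decide +kernel]
  have hc : x * ph 1 = ph 1 * x := (hm.mem 1 (by norm_num)).symm
  have e : g * ph 25 * g⁻¹ = ph 25 := by
    rw [h25]
    calc g * (x * ph 1) * g⁻¹ = (g * x * g⁻¹) * (g * ph 1 * g⁻¹) := by group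
      _ = ph 1 * x := by rw [h.1, h.2]
      _ = x * ph 1 := hc.symm
  have := congrArg (· * g) e
  simpa using this

/-- The swap permutes the three points. -/
theorem Swp.act (hf : Fus x ph) {g : G} (h : Swp x ph g) {d : ℕ} (hd : T3 d) :
    ∃ d', T3 d' ∧ g * ph d * g⁻¹ = ph d' := by
  have hm := hf.hm
  obtain ⟨f1, f2, f3, f4, f5, f6, f7, f8, f9, f10, f11, f12, f13, f14⟩ := nu_codes
  have hc25 := Swp.comm25 hf h
  have hcl : Cl x (g * ph d * g⁻¹) := (D_cl hf (T3_D hd)).conj g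
  have hcd : ph d * ph 25 = ph 25 * ph d := by
    apply (hm.comm_iff (T3_lt hd) (by norm_num)).2
    rcases hd with rfl | rfl | rfl <;> decide +kernel
  have hcomm : (g * ph d * g⁻¹) * ph 25 = ph 25 * (g * ph d * g⁻¹) := by
    have e1 : g⁻¹ * ph 25 = ph 25 * g⁻¹ := by
      have : g⁻¹ * ph 25 = g⁻¹ * (ph 25 * g) * g⁻¹ := by group
      rw [this, ← hc25]
      group
    calc g * ph d * g⁻¹ * ph 25 = g * ph d * (g⁻¹ * ph 25) := by group
      _ = g * (ph d * ph 25) * g⁻¹ := by rw [e1]; group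
      _ = g * (ph 25 * ph d) * g⁻¹ := by rw [hcd]
      _ = (g * ph 25) * ph d * g⁻¹ := by group
      _ = (ph 25 * g) * ph d * g⁻¹ := by rw [hc25]
      _ = _ := by group
  obtain ⟨f, hfD, hfe⟩ := point_comm_E hf (e := 25) (by norm_num) f11 (by norm_num) f12 hcl hcomm
  refine ⟨f, ?_, hfe⟩
  have hdlt := T3_lt hd
  have hne24 : f ≠ 24 := by
    rintro rfl
    rw [hm.z, ← h.2] at hfe
    have e2 := mul_left_cancel (mul_right_cancel hfe)
    have := hm.inj _ _ hdlt (by norm_num) e2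
    rcases hd with rfl | rfl | rfl <;> omega
  have hne1 : f ≠ 1 := by
    rintro rfl
    rw [← h.1] at hfe
    have e2 := mul_left_cancel (mul_right_cancel hfe)
    rw [← hm.z] at e2
    have := hm.inj _ _ hdlt z_lt e2
    rcases hd with rfl | rfl | rfl <;> omega
  unfold isD at hfD
  simp only [Bool.or_eq_true] at hfD
  rcases hfD with (((h1 | h1) | h1) | h1) | h1
  · exact absurd (beq_spec h1) hne24
  · exact absurd (beq_spec h1) hne1
  · exact Or.inl (beq_spec h1)
  · exact Or.inr (Or.inl (beq_spec h1))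
  · exact Or.inr (Or.inr (beq_spec h1))

theorem Swp.mul100 (hf : Fus x ph) {g : G} (h : Swp x ph g) : Swp x ph (ph 100 * g) := by
  have hm := hf.hm
  obtain ⟨f1, f2, f3, f4, f5, f6, f7, f8, f9, f10, f11, f12, f13, f14⟩ := nu_codes
  have c1 : ph 100 * x * (ph 100)⁻¹ = x := by
    rw [hm.mem 100 (by norm_num)]; group
  have c2 : ph 100 * ph 1 * (ph 100)⁻¹ = ph 1 := by
    rw [← hm.cj (by norm_num) (by norm_num), f7]
  constructor
  · have : ph 100 * g * x * (ph 100 * g)⁻¹ = ph 100 * (g * x * g⁻¹) * (ph 100)⁻¹ := by group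
    rw [this, h.1, c2]
  · have : ph 100 * g * ph 1 * (ph 100 * g)⁻¹ = ph 100 * (g * ph 1 * g⁻¹) * (ph 100)⁻¹ := by group
    rw [this, h.2, c1]

/-- A normalised swap. -/
theorem exists_swp575 (hf : Fus x ph) : ∃ g : G, Swp x ph g ∧ g * ph 575 * g⁻¹ = ph 575 := by
  have hm := hf.hm
  obtain ⟨f1, f2, f3, f4, f5, f6, f7, f8, f9, f10, f11, f12, f13, f14⟩ := nu_codes
  obtain ⟨g, hg⟩ := exists_swp hf
  obtain ⟨d, hd, he⟩ := Swp.act hf hg (d := 575) (Or.inr (Or.inr rfl))
  have a75 : ph 100 * ph 75 * (ph 100)⁻¹ = ph 575 := by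
    rw [← hm.cj (by norm_num) (by norm_num), f8]
  have a375 : ph 100 * ph 375 * (ph 100)⁻¹ = ph 75 := by
    rw [← hm.cj (by norm_num) (by norm_num), f9]
  rcases hd with rfl | rfl | rfl
  · refine ⟨_, Swp.mul100 hf hg, ?_⟩
    have : ph 100 * g * ph 575 * (ph 100 * g)⁻¹ = ph 100 * (g * ph 575 * g⁻¹) * (ph 100)⁻¹ := by group
    rw [this, he, a75]
  · refine ⟨_, Swp.mul100 hf (Swp.mul100 hf hg), ?_⟩
    have : ph 100 * (ph 100 * g) * ph 575 * (ph 100 * (ph 100 * g))⁻¹ =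
        ph 100 * (ph 100 * (g * ph 575 * g⁻¹) * (ph 100)⁻¹) * (ph 100)⁻¹ := by group
    rw [this, he, a375, a75]
  · exact ⟨g, hg, he⟩

theorem fix_check : ∀ k b b' b'', k < 576 → b < 576 → b' < 576 → b'' < 576 → isB b = true → isE b = true →
    isB b' = true → isE b' = true → isB b'' = true → isE b'' = true → b ≠ b' →
    cjC k b = b → cjC k b' = b' → cjC k b'' = b'' := by
  have h := allN_spec (n := 576) (p := fun k =>
    allN 576 fun b => impB (isB b && isE b && Nat.beq (cjC k b) b)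
      (allN 576 fun b' => impB (isB b' && isE b' && Nat.beq (cjC k b') b' && !Nat.beq b b')
        (allN 576 fun b'' => impB (isB b'' && isE b'') (Nat.beq (cjC k b'') b'')))) (by decide +kernel)
  intro k b b' b'' hk hb hb' hb'' h1 h2 h3 h4 h5 h6 h7 h8 h9
  have e0 : Nat.beq b b' = false := by
    cases h10 : Nat.beq b b' with
    | false => rfl
    | true => exact absurd (beq_spec h10) h7
  have h10 := impB_spec (allN_spec (h k hk) b hb) (by simp only [Bool.and_eq_true]; exact ⟨⟨h1, h2⟩, P43Tab.beq_of_eq h8⟩)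
  have h11 := impB_spec (allN_spec h10 b' hb') (by simp only [Bool.and_eq_true, e0, Bool.not_false]; exact ⟨⟨⟨h3, h4⟩, P43Tab.beq_of_eq h9⟩, trivial⟩)
  exact beq_spec (impB_spec (allN_spec h11 b'' hb'') (by simp [h5, h6]))

/-- The swap fixing `ph 575` exchanges the two others. -/
theorem swp_act (hf : Fus x ph) {g : G} (hg : Swp x ph g) (h575 : g * ph 575 * g⁻¹ = ph 575) :
    g * ph 75 * g⁻¹ = ph 375 ∧ g * ph 375 * g⁻¹ = ph 75 := by
  have hm := hf.hm
  obtain ⟨d1, hd1, he1⟩ := Swp.act hf hg (d := 75) (Or.inl rfl)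
  obtain ⟨d2, hd2, he2⟩ := Swp.act hf hg (d := 375) (Or.inr (Or.inl rfl))
  have hcancel : ∀ a b, g * ph a * g⁻¹ = g * ph b * g⁻¹ → ph a = ph b := fun a b h =>
    mul_left_cancel (mul_right_cancel h)
  have n1 : d1 ≠ 575 := by
    rintro rfl
    have := hm.inj _ _ (by norm_num) (by norm_num) (hcancel 75 575 (he1.trans h575.symm))
    omega
  have n2 : d2 ≠ 575 := by
    rintro rfl
    have := hm.inj _ _ (by norm_num) (by norm_num) (hcancel 375 575 (he2.trans h575.symm))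
    omega
  have n3 : d1 ≠ d2 := by
    rintro rfl
    have := hm.inj _ _ (by norm_num) (by norm_num) (hcancel 75 375 (he1.trans he2.symm))
    omega
  have hcases : (d1 = 75 ∧ d2 = 375) ∨ (d1 = 375 ∧ d2 = 75) := by
    rcases hd1 with rfl | rfl | rfl <;> rcases hd2 with rfl | rfl | rfl <;> simp_all
  rcases hcases with ⟨rfl, rfl⟩ | ⟨rfl, rfl⟩
  · exfalso
    obtain ⟨n, hn1, hn2⟩ := exists_frame hf (d := 575) (by decide +kernel)
    have hk : (n⁻¹ * g * n) * x = x * (n⁻¹ * g * n) := by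
      have e1 : (n⁻¹ * g * n) * x = n⁻¹ * (g * (n * x * n⁻¹) * g⁻¹) * (g * n) := by group
      rw [e1, hn1, h575, ← hn1]
      group
    obtain ⟨κ, hκ, hκe⟩ := hm.rng _ hk
    have hp : ∀ d, isD d = true → d ≠ 575 → ∃ b, b < 576 ∧ isB b = true ∧ isE b = true ∧
        n * ph b * n⁻¹ = ph d := by
      intro d hd hne
      exact point_code hf hn2 (by decide +kernel) hd (Ne.symm hne) hn1
    obtain ⟨b75, l75, B75, E75, e75⟩ := hp 75 (by decide +kernel) (by norm_num)
    obtain ⟨b375, l375, B375, E375, e375⟩ := hp 375 (by decide +kernel) (by norm_num)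
    obtain ⟨b24, l24, B24, E24, e24⟩ := hp 24 (by decide +kernel) (by norm_num)
    obtain ⟨b1, l1, B1, E1, e1⟩ := hp 1 (by decide +kernel) (by norm_num)
    have hact : ∀ b d d', n * ph b * n⁻¹ = ph d → g * ph d * g⁻¹ = ph d' →
        ph κ * ph b * (ph κ)⁻¹ = n⁻¹ * ph d' * n := by
      intro b d d' h1 h2
      rw [hκe, ← h2, ← h1]
      group
    have hne : b75 ≠ b375 := by
      rintro rfl
      have := hm.inj _ _ (by norm_num) (by norm_num) (e75.symm.trans e375)
      omega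
    have hfix : ∀ b, b < 576 → ∀ d, n * ph b * n⁻¹ = ph d → g * ph d * g⁻¹ = ph d → cjC κ b = b := by
      intro b hb d h1 h2
      apply hm.inj _ _ (cjC_lt hκ hb) hb
      rw [hm.cj hκ hb, hact b d d h1 h2, ← h1]
      group
    have h3 := fix_check κ b75 b375 b24 hκ l75 l375 l24 B75 E75 B375 E375 B24 E24 hne
      (hfix _ l75 _ e75 he1) (hfix _ l375 _ e375 he2)
    have h4 := hact b24 24 1 e24 (by rw [hm.z]; exact hg.1)
    rw [← hm.cj hκ l24, h3, ← e1] at h4
    have h5 : ph b24 = ph b1 := by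
      rw [h4]; group
    have h6 : n * ph b24 * n⁻¹ = n * ph b1 * n⁻¹ := by rw [h5]
    rw [e24, e1] at h6
    have := hm.inj _ _ (by norm_num) (by norm_num) h6
    omega
  · exact ⟨he1, he2⟩

end Cfsg.Agent.Lib.P43Nu
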