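import Mathlib
import Cfsg.Agent.Lib.P43Nu

/-!
# The involution `ν`, and the extra relations
-/

set_option autoImplicit false
set_option linter.unusedVariables false
set_option linter.unusedSectionVars false
set_option maxHeartbeats 0
set_option maxRecDepth 100000

namespace Cfsg.Agent.Lib.P43Nu

open Cfsg.Agent.Lib.P43Tab Cfsg.Agent.Lib.P43Mod Cfsg.Agent.Lib.P43Fa1 Cfsg.Agent.Lib.P43Syl
open Cfsg.Agent.Lib.P43Fa2 Cfsg.Agent.Lib.P43Z1 Cfsg.Agent.Lib.P43Fus Cfsg.Agent.Lib.P43Fus2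
open Cfsg.Agent.Lib.P43Fus3 Cfsg.Agent.Lib.P43C1 Cfsg.Agent.Lib.P43C2 Cfsg.Agent.Lib.P43Cnt
open Cfsg.Agent.Lib.P43GQ

variable {G : Type*} [Group G] [Finite G] {x : G} {ph : ℕ → G}

/-- The relations of `ν`. -/
structure NuRel (x : G) (ph : ℕ → G) (ν : G) : Prop where
  sq : ν * ν = 1
  n24 : ν * x * ν⁻¹ = ph 1
  n1 : ν * ph 1 * ν⁻¹ = x
  n75 : ν * ph 75 * ν⁻¹ = ph 375
  n375 : ν * ph 375 * ν⁻¹ = ph 75
  n575 : ν * ph 575 * ν⁻¹ = ph 575
  n100 : ν * ph 100 * ν⁻¹ = ph 500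

theorem r_check : ∀ c, c < 576 → powC c 3 = 0 → cjC c 75 = 375 → cjC c 375 = 575 → cjC c 575 = 75 →
    ∃ l, l < 576 ∧ isE l = true ∧ c = cjC l 500 := by
  have h := allN_spec (n := 576) (p := fun c =>
    impB (Nat.beq (powC c 3) 0 && Nat.beq (cjC c 75) 375 && Nat.beq (cjC c 375) 575 && Nat.beq (cjC c 575) 75)
      (anyN 576 fun l => isE l && Nat.beq c (cjC l 500))) (by decide +kernel)
  intro c hc h1 h2 h3 h4
  have h5 := impB_spec (h c hc) (by
    simp only [Bool.and_eq_true]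
    exact ⟨⟨⟨P43Tab.beq_of_eq h1, P43Tab.beq_of_eq h2⟩, P43Tab.beq_of_eq h3⟩, P43Tab.beq_of_eq h4⟩)
  obtain ⟨l, hl, h6⟩ := anyN_spec h5
  simp only [Bool.and_eq_true] at h6
  exact ⟨l, hl, h6.1, beq_spec h6.2⟩

theorem E_of_comm : ∀ i, i < 576 → cmC i 1 = true → cmC i 75 = true → cmC i 375 = true → isE i = true := by
  have h := allN_spec (n := 576) (p := fun i => impB (cmC i 1 && cmC i 75 && cmC i 375) (isE i))
    (by decide +kernel)
  intro i hi h1 h2 h3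
  exact impB_spec (h i hi) (by simp only [Bool.and_eq_true]; exact ⟨⟨h1, h2⟩, h3⟩)

theorem E100 : ∀ i, i < 576 → isE i = true → cmC i 100 = true → i = 0 ∨ i = 1 ∨ i = 24 ∨ i = 25 := by
  have h := allN_spec (n := 576) (p := fun i => impB (isE i && cmC i 100)
    (Nat.beq i 0 || Nat.beq i 1 || Nat.beq i 24 || Nat.beq i 25)) (by decide +kernel)
  intro i hi h1 h2
  have h3 := impB_spec (h i hi) (by simp only [Bool.and_eq_true]; exact ⟨h1, h2⟩)
  simp only [Bool.or_eq_true] at h3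
  rcases h3 with ((h3 | h3) | h3) | h3
  · exact Or.inl (beq_spec h3)
  · exact Or.inr (Or.inl (beq_spec h3))
  · exact Or.inr (Or.inr (Or.inl (beq_spec h3)))
  · exact Or.inr (Or.inr (Or.inr (beq_spec h3)))

theorem exists_nu (hf : Fus x ph) : ∃ ν : G, NuRel x ph ν := by
  have hm := hf.hm
  obtain ⟨f1, f2, f3, f4, f5, f6, f7, f8, f9, f10, f11, f12, f13, f14⟩ := nu_codes
  obtain ⟨g, hg, h575⟩ := exists_swp575 hf
  obtain ⟨h75, h375⟩ := swp_act hf hg h575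
  have hlt100 : (100 : ℕ) < 576 := by norm_num
  have hi : ∀ a b : G, g * a * g⁻¹ = b → g⁻¹ * b * g = a := by
    rintro a _ rfl
    group
  have i75 := hi _ _ h75
  have i375 := hi _ _ h375
  have i575 := hi _ _ h575
  have c100 : ph 100 * ph 1 = ph 1 * ph 100 := (hm.comm_iff hlt100 (by norm_num)).2 (by decide +kernel)
  have hr1 : (g * ph 100 * g⁻¹) * x = x * (g * ph 100 * g⁻¹) := by
    rw [← hg.2]
    calc g * ph 100 * g⁻¹ * (g * ph 1 * g⁻¹) = g * (ph 100 * ph 1) * g⁻¹ := by group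
      _ = g * (ph 1 * ph 100) * g⁻¹ := by rw [c100]
      _ = _ := by group
  obtain ⟨r0, hr0, hr0e⟩ := hm.rng _ hr1
  have hcj : ∀ a b c : ℕ, a < 576 → b < 576 → c < 576 → ∀ d, d < 576 → g⁻¹ * ph a * g = ph b →
      cjC 100 b = c → g * ph c * g⁻¹ = ph d → cjC r0 a = d := by
    intro a b c ha hb hc d hd h1 h2 h3
    apply hm.inj _ _ (cjC_lt hr0 ha) hd
    rw [hm.cj hr0 ha, hr0e, ← h3, ← h2, hm.cj hlt100 hb, ← h1]
    group
  have c1 := hcj 75 375 75 (by norm_num) (by norm_num) (by norm_num) 375 (by norm_num) i375 f9 h75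
  have c2 := hcj 375 75 575 (by norm_num) (by norm_num) (by norm_num) 575 (by norm_num) i75 f8 h575
  have c3 := hcj 575 575 375 (by norm_num) (by norm_num) (by norm_num) 75 (by norm_num) i575 f10 h375
  have hp3 : powC r0 3 = 0 := by
    apply (hm.eq_one_iff (hm.pow hr0 3).1).1
    rw [(hm.pow hr0 3).2, hr0e]
    have h3 : ph 100 ^ 3 = 1 := by
      have := (hm.pow hlt100 3).2
      rw [show powC 100 3 = 0 by decide +kernel, hm.one] at this
      exact this.symm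
    have : (g * ph 100 * g⁻¹) ^ 3 = g * ph 100 ^ 3 * g⁻¹ := by
      simp only [pow_succ, pow_zero, one_mul]
      group
    rw [this, h3]
    group
  obtain ⟨l, hl, hlE, hle⟩ := r_check r0 hr0 hp3 c1 c2 c3
  let ν₁ := (ph l)⁻¹ * g
  have hlc : ∀ d, d < 576 → isE d = true → (ph l)⁻¹ * ph d * ph l = ph d := by
    intro d hd hE
    have h1 := (hm.comm_iff hl hd).2 (E_elem l d hl hd hlE hE).2
    rw [mul_assoc, ← h1]
    group
  have hact : ∀ d d', d' < 576 → isE d' = true → g * ph d * g⁻¹ = ph d' → ν₁ * ph d * ν₁⁻¹ = ph d' := by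
    intro d d' h1 h2 h3
    show (ph l)⁻¹ * g * ph d * ((ph l)⁻¹ * g)⁻¹ = _
    have e : (ph l)⁻¹ * g * ph d * ((ph l)⁻¹ * g)⁻¹ = (ph l)⁻¹ * (g * ph d * g⁻¹) * ph l := by group
    rw [e, h3, hlc d' h1 h2]
  have hcE : ∀ k, isD k = true → isE k = true := fun k h => (isD_facts k (D_lt h) h).1
  have a24 : ν₁ * x * ν₁⁻¹ = ph 1 := by
    rw [← hm.z]
    apply hact _ _ (by norm_num) (by decide +kernel)
    rw [hm.z]
    exact hg.1
  have a1 : ν₁ * ph 1 * ν₁⁻¹ = x := by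
    rw [← hm.z]
    apply hact _ _ z_lt (by decide +kernel)
    rw [hm.z]
    exact hg.2
  have a75 := hact 75 375 (by norm_num) (by decide +kernel) h75
  have a375 := hact 375 75 (by norm_num) (by decide +kernel) h375
  have a575 := hact 575 575 (by norm_num) (by decide +kernel) h575
  have a100 : ν₁ * ph 100 * ν₁⁻¹ = ph 500 := by
    show (ph l)⁻¹ * g * ph 100 * ((ph l)⁻¹ * g)⁻¹ = _
    have e : (ph l)⁻¹ * g * ph 100 * ((ph l)⁻¹ * g)⁻¹ = (ph l)⁻¹ * (g * ph 100 * g⁻¹) * ph l := by group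
    rw [e, ← hr0e, hle, hm.cj hl (by norm_num)]
    group
  have h500 : ph 500 = (ph 100)⁻¹ := by
    rw [← f5, hm.inv hlt100]
  have a500 : ν₁ * ph 500 * ν₁⁻¹ = ph 100 := by
    have : ν₁ * ph 500 * ν₁⁻¹ = (ν₁ * ph 100 * ν₁⁻¹)⁻¹ := by
      rw [h500]; group
    rw [this, a100, h500, inv_inv]
  -- the square
  have hcomm2 : ∀ d, ν₁ * (ν₁ * ph d * ν₁⁻¹) * ν₁⁻¹ = ph d → (ν₁ * ν₁) * ph d = ph d * (ν₁ * ν₁) := by
    intro d h
    have e : (ν₁ * ν₁) * ph d * (ν₁ * ν₁)⁻¹ = ν₁ * (ν₁ * ph d * ν₁⁻¹) * ν₁⁻¹ := by group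
    rw [h] at e
    exact mul_inv_eq_iff_eq_mul.mp e
  have hs1 : (ν₁ * ν₁) * x = x * (ν₁ * ν₁) := by
    have h1 := hcomm2 24 (by rw [hm.z, a24, a1])
    rwa [hm.z] at h1
  obtain ⟨i, hi0, hie⟩ := hm.rng _ hs1
  have hc1 : cmC i 1 = true := (hm.comm_iff hi0 (by norm_num)).1 (by
    rw [hie]; exact hcomm2 1 (by rw [a1, a24]))
  have hc75 : cmC i 75 = true := (hm.comm_iff hi0 (by norm_num)).1 (by
    rw [hie]; exact hcomm2 75 (by rw [a75, a375]))
  have hc375 : cmC i 375 = true := (hm.comm_iff hi0 (by norm_num)).1 (by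
    rw [hie]; exact hcomm2 375 (by rw [a375, a75]))
  have hc100 : cmC i 100 = true := (hm.comm_iff hi0 hlt100).1 (by
    rw [hie]; exact hcomm2 100 (by rw [a100, a500]))
  have hiE := E_of_comm i hi0 hc1 hc75 hc375
  have hfixw : ν₁ * ph i * ν₁⁻¹ = ph i := by
    rw [hie]; group
  have hconst : ν₁ * x * ν₁⁻¹ = ph 1 := a24
  rcases E100 i hi0 hiE hc100 with h0 | h0 | h0 | h0
  · -- the square is trivial
    rw [h0, hm.one] at hie
    exact ⟨ν₁, hie.symm, a24, a1, a75, a375, a575, a100⟩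
  · exfalso
    rw [h0, a1, ← hm.z] at hfixw
    have := hm.inj _ _ z_lt (by norm_num) hfixw
    omega
  · exfalso
    rw [h0, hm.z, a24, ← hm.z] at hfixw
    have := hm.inj _ _ (by norm_num) z_lt hfixw
    omega
  · -- the square is `ph 25`
    rw [h0] at hie
    have hxx := x_sq hm
    have ix : x⁻¹ = x := inv_eq_of_mul_eq_one_left hxx
    have hact2 : ∀ j, j < 576 → (ν₁ * x) * ph j * (ν₁ * x)⁻¹ = ν₁ * ph j * ν₁⁻¹ := by
      intro j hj
      have h1 := hm.mem j hj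
      have e : (ν₁ * x) * ph j * (ν₁ * x)⁻¹ = ν₁ * (x * ph j * x⁻¹) * ν₁⁻¹ := by group
      rw [e, ← h1]
      have e2 : ph j * x * x⁻¹ = ph j := by group
      rw [e2]
    refine ⟨ν₁ * x, ?_, ?_, ?_, ?_, ?_, ?_, ?_⟩
    · have e1 : ph 1 * ph 25 = x := by
        rw [← hm.mul 1 25 (by norm_num) (by norm_num), f2, hm.z]
      have e : (ν₁ * x) * (ν₁ * x) = (ν₁ * x * ν₁⁻¹) * (ν₁ * ν₁) * x := by group
      rw [e, a24, ← hie, e1, hxx]
    · have h1 := hact2 24 z_lt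
      rw [hm.z] at h1
      rw [h1, a24]
    · rw [hact2 1 (by norm_num), a1]
    · rw [hact2 75 (by norm_num), a75]
    · rw [hact2 375 (by norm_num), a375]
    · rw [hact2 575 (by norm_num), a575]
    · rw [hact2 100 hlt100, a100]

theorem NuRel.inv_eq {ν : G} (hn : NuRel x ph ν) : ν⁻¹ = ν := inv_eq_of_mul_eq_one_left hn.sq

/-- Generation. -/
theorem gen (hf : Fus x ph) {ν : G} (hn : NuRel x ph ν) (K : Subgroup G) (hK : ∀ i, i < 576 → ph i ∈ K)
    (hν : ν ∈ K) : K = ⊤ := by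
  have hm := hf.hm
  have hxK : x ∈ K := by
    rw [← hm.z]; exact hK 24 z_lt
  have step : ∀ y : G, Cl x y → y * x = x * y → ∃ k ∈ K, k * x * k⁻¹ = y := by
    intro y hy hc
    obtain ⟨i, hi, rfl⟩ := hm.rng y hc
    have h0 : i ≠ 0 := by
      intro h
      rw [h, hm.one] at hy
      obtain ⟨c, hc'⟩ := hy
      apply x_ne_one hm
      have e : x = c⁻¹ * (c * x * c⁻¹) * c := by group
      rw [e, hc']
      group
    have hsq : mulC i i = 0 := by
      apply hm.inj _ _ (mulC_lt _ hi _ hi) zero_lt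
      rw [hm.mul i i hi hi, hm.one]
      obtain ⟨c, hc'⟩ := hy
      rw [← hc']
      calc c * x * c⁻¹ * (c * x * c⁻¹) = c * (x * x) * c⁻¹ := by group
        _ = 1 := by rw [x_sq hm]; group
    by_cases h24 : i = 24
    · refine ⟨1, K.one_mem, ?_⟩
      rw [h24, hm.z]
      group
    · have hB := hf.inv_type hi h0 hsq h24 hy
      obtain ⟨c, hc1, hc2⟩ := trans_B i hi hB
      refine ⟨ph c * ν, K.mul_mem (hK c hc1) hν, ?_⟩
      rw [← hc2, hm.cj hc1 (by norm_num), ← hn.n24]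
      group
  have hall : ∀ y : G, Cl x y → ∃ k ∈ K, k * x * k⁻¹ = y := by
    intro y hy
    obtain ⟨d, hd, hc⟩ := gq hf hy
    have hdlt := D_lt hd
    obtain ⟨k0, hk0, hk0e⟩ := step (ph d) (D_cl hf hd) (hm.mem d hdlt)
    have hc2 : (k0⁻¹ * y * k0) * x = x * (k0⁻¹ * y * k0) := by
      rw [← hk0e] at hc
      have e1 : k0⁻¹ * (y * (k0 * x * k0⁻¹)) * k0 = (k0⁻¹ * y * k0) * x := by group
      have e2 : k0⁻¹ * ((k0 * x * k0⁻¹) * y) * k0 = x * (k0⁻¹ * y * k0) := by group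
      rw [← e1, hc, e2]
    have hcl : Cl x (k0⁻¹ * y * k0) := by
      have := hy.conj k0⁻¹
      have e : k0⁻¹ * y * k0⁻¹⁻¹ = k0⁻¹ * y * k0 := by group
      rwa [e] at this
    obtain ⟨k1, hk1, hk1e⟩ := step _ hcl hc2
    refine ⟨k0 * k1, K.mul_mem hk0 hk1, ?_⟩
    have e : k0 * k1 * x * (k0 * k1)⁻¹ = k0 * (k1 * x * k1⁻¹) * k0⁻¹ := by group
    rw [e, hk1e]
    group
  rw [eq_top_iff]
  intro g _
  obtain ⟨k, hk, hke⟩ := hall _ (⟨g, rfl⟩ : Cl x (g * x * g⁻¹))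
  have hc : (k⁻¹ * g) * x = x * (k⁻¹ * g) := by
    have e : (k⁻¹ * g) * x = k⁻¹ * (g * x * g⁻¹) * g := by group
    rw [e, ← hke]
    group
  obtain ⟨i, hi, hie⟩ := hm.rng _ hc
  have : g = k * ph i := by
    rw [hie]; group
  rw [this]
  exact K.mul_mem hk (hK i hi)

theorem r5_codes : cjC 48 1 = 75 ∧ cjC 48 24 = 24 ∧ cjC 48 375 = 575 ∧ cjC 48 575 = 375 ∧ cjC 48 75 = 1 ∧
    eC 4 = 75 ∧ eC 1 = 24 ∧ eC 15 = 575 ∧ eC 2 = 1 ∧ eC 8 = 375 := by decide +kernel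

theorem fixed_zero : ∀ v, v < 16 → Nat.beq (ap 4 1 15 2 v) v = true → v = 0 := by
  have h := allN_spec (n := 16) (p := fun v => impB (Nat.beq (ap 4 1 15 2 v) v) (Nat.beq v 0))
    (by decide +kernel)
  intro v hv h1
  exact beq_spec (impB_spec (h v hv) h1)

/-- The relation of order five. -/
theorem r5 (hf : Fus x ph) {ν : G} (hn : NuRel x ph ν) : (ph 48 * ν) ^ 5 = 1 := by
  have hm := hf.hm
  obtain ⟨g1, g2, g3, g4, g5, g6, g7, g8, g9, g10⟩ := r5_codes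
  set y := ph 48 * ν with hy
  have hlt48 : (48 : ℕ) < 576 := by norm_num
  have hcj : ∀ a b, a < 576 → ph b = ph (cjC 48 a) → ∀ c, ν * ph c * ν⁻¹ = ph a → y * ph c * y⁻¹ = ph b := by
    intro a b ha h1 c h2
    have e : y * ph c * y⁻¹ = ph 48 * (ν * ph c * ν⁻¹) * (ph 48)⁻¹ := by
      rw [hy]; group
    rw [e, h2, ← hm.cj hlt48 ha, h1]
  have s24 : y * ph 24 * y⁻¹ = ph 75 :=
    hcj 1 75 (by norm_num) (by rw [g1]) 24 (by rw [hm.z]; exact hn.n24)
  have s75 : y * ph 75 * y⁻¹ = ph 575 :=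
    hcj 375 575 (by norm_num) (by rw [g3]) 75 hn.n75
  have s575 : y * ph 575 * y⁻¹ = ph 375 :=
    hcj 575 375 (by norm_num) (by rw [g4]) 575 hn.n575
  have s375 : y * ph 375 * y⁻¹ = ph 1 :=
    hcj 75 1 (by norm_num) (by rw [g5]) 375 hn.n375
  have s1 : y * ph 1 * y⁻¹ = ph 24 :=
    hcj 24 24 (by norm_num) (by rw [g2]) 1 (by rw [hn.n1, hm.z])
  have hp5 : ∀ a : G, y ^ 5 * a * (y ^ 5)⁻¹ = y * (y * (y * (y * (y * a * y⁻¹) * y⁻¹) * y⁻¹) * y⁻¹) * y⁻¹ := by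
    intro a
    simp only [pow_succ, pow_zero, one_mul]
    group
  have f24 : y ^ 5 * ph 24 * (y ^ 5)⁻¹ = ph 24 := by
    rw [hp5, s24, s75, s575, s375, s1]
  have f75 : y ^ 5 * ph 75 * (y ^ 5)⁻¹ = ph 75 := by
    rw [hp5, s75, s575, s375, s1, s24]
  have f375 : y ^ 5 * ph 375 * (y ^ 5)⁻¹ = ph 375 := by
    rw [hp5, s375, s1, s24, s75, s575]
  have f1 : y ^ 5 * ph 1 * (y ^ 5)⁻¹ = ph 1 := by
    rw [hp5, s1, s24, s75, s575, s375]
  have hcm : ∀ a : G, y ^ 5 * a * (y ^ 5)⁻¹ = a → y ^ 5 * a = a * y ^ 5 := by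
    intro a h
    have := congrArg (· * y ^ 5) h
    simpa using this
  have hcx : y ^ 5 * x = x * y ^ 5 := by
    have := hcm _ f24
    rwa [hm.z] at this
  obtain ⟨i, hi, hie⟩ := hm.rng _ hcx
  have hc1 : cmC i 1 = true := (hm.comm_iff hi (by norm_num)).1 (by rw [hie]; exact hcm _ f1)
  have hc75 : cmC i 75 = true := (hm.comm_iff hi (by norm_num)).1 (by rw [hie]; exact hcm _ f75)
  have hc375 : cmC i 375 = true := (hm.comm_iff hi (by norm_num)).1 (by rw [hie]; exact hcm _ f375)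
  have hiE := E_of_comm i hi hc1 hc75 hc375
  obtain ⟨v, hv, hve⟩ := E_surj i hi hiE
  have hact := acts_of_basis hm (n := y) (m0 := 4) (m1 := 1) (m2 := 15) (m3 := 2) (by norm_num)
    (by norm_num) (by norm_num) (by norm_num) (by rw [g6]; exact s24) (by rw [g7]; exact s1)
    (by rw [g8]; exact s75) (by rw [g9]; exact s375) v
  rw [hve, hie] at hact
  have hfix : y * y ^ 5 * y⁻¹ = y ^ 5 := by
    rw [← pow_succ', pow_succ]
    group
  rw [hfix, ← hie, ← hve] at hact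
  have hap : ap 4 1 15 2 v < 16 := ap_lt v (by norm_num) (by norm_num) (by norm_num) (by norm_num)
  have h2 := hm.inj _ _ (eC_lt v hv).1 (eC_lt _ hap).1 hact
  have h3 := eC_inj _ _ hv hap h2
  have h4 := fixed_zero v hv (P43Tab.beq_of_eq h3.symm)
  rw [← hie, ← hve, h4, eC_zero, hm.one]

theorem q_codes : cjC 144 1 = 185 ∧ cmC 1 185 = false ∧ cjC 350 100 = 200 ∧ mulC 75 575 = 350 ∧
    mulC 375 575 = 50 ∧ cjC 50 500 = 150 ∧ cjC (invC 144) 150 = 150 ∧ cjC 6 24 = 24 ∧ cjC 6 1 = 415 ∧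
    cjC 6 75 = 203 ∧ cjC 6 375 = 117 ∧ cjC 6 575 = 445 ∧ cjC 200 415 = 117 ∧ cjC 200 117 = 445 ∧
    cjC 200 445 = 415 ∧ cjC 200 203 = 203 ∧ cmC 200 24 = true := by decide +kernel

theorem E_line : ∀ d, isD d = true → cmC d 24 = true := by
  intro d h
  have h1 := D_lt h
  exact (E_elem d 24 h1 z_lt (isD_facts d h1 h).1 isE_z).2

/-- The quadrangle relation. -/
theorem quad (hf : Fus x ph) {ν : G} (hn : NuRel x ph ν) :
    let gz := ν * ph 144 * ν
    x * (gz * ph 203 * gz⁻¹) = (gz * ph 203 * gz⁻¹) * x := by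
  intro gz
  have hm := hf.hm
  obtain ⟨q1, q2, q3, q4, q5, q6, q7, q8, q9, q10, q11, q12, q13, q14, q15, q16, q17⟩ := q_codes
  have iν := hn.inv_eq
  have hlt144 : (144 : ℕ) < 576 := by norm_num
  have hlt6 : (6 : ℕ) < 576 := by norm_num
  have hlt200 : (200 : ℕ) < 576 := by norm_num
  let h := gz * ph 6
  have hF := hf.conj h
  -- the conjugate of `x`
  have hz : h * x * h⁻¹ = ν * ph 185 * ν := by
    have e1 : ph 6 * x * (ph 6)⁻¹ = x := by
      rw [hm.mem 6 hlt6]; group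
    have e2 : h * x * h⁻¹ = gz * (ph 6 * x * (ph 6)⁻¹) * gz⁻¹ := by
      show gz * ph 6 * x * (gz * ph 6)⁻¹ = _
      group
    rw [e2, e1]
    show ν * ph 144 * ν * x * (ν * ph 144 * ν)⁻¹ = _
    have e3 : ν * ph 144 * ν * x * (ν * ph 144 * ν)⁻¹ =
        ν * (ph 144 * (ν * x * ν⁻¹) * (ph 144)⁻¹) * ν⁻¹ := by group
    rw [e3, hn.n24, ← hm.cj hlt144 (by norm_num), q1, iν]
  have hnc : x * (h * x * h⁻¹) ≠ (h * x * h⁻¹) * x := by
    intro hc
    rw [hz] at hc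
    have e1 : ν * (x * (ν * ph 185 * ν)) * ν⁻¹ = (ν * x * ν⁻¹) * ph 185 := by
      rw [iν]; calc ν * (x * (ν * ph 185 * ν)) * ν = (ν * x * ν) * ph 185 * (ν * ν) := by group
        _ = (ν * x * ν) * ph 185 := by rw [hn.sq]; group
    have e2 : ν * ((ν * ph 185 * ν) * x) * ν⁻¹ = ph 185 * (ν * x * ν⁻¹) := by
      rw [iν]; calc ν * ((ν * ph 185 * ν) * x) * ν = (ν * ν) * ph 185 * (ν * x * ν) := by group
        _ = ph 185 * (ν * x * ν) := by rw [hn.sq, one_mul]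
    have e3 : ν * (x * (ν * ph 185 * ν)) * ν⁻¹ = ν * ((ν * ph 185 * ν) * x) * ν⁻¹ := by rw [hc]
    rw [e1, e2, hn.n24] at e3
    have := (hm.comm_iff (by norm_num) (by norm_num)).1 e3
    rw [q2] at this
    exact absurd this (by decide)
  -- the element of order three
  have hρν : ν * ph 200 * ν⁻¹ = ph 150 := by
    have e1 : ν * ph 350 * ν⁻¹ = ph 50 := by
      rw [← q4, hm.mul 75 575 (by norm_num) (by norm_num), ← q5, hm.mul 375 575 (by norm_num) (by norm_num)]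
      calc ν * (ph 75 * ph 575) * ν⁻¹ = (ν * ph 75 * ν⁻¹) * (ν * ph 575 * ν⁻¹) := by group
        _ = _ := by rw [hn.n75, hn.n575]
    have e2 : ph 200 = ph 350 * ph 100 * (ph 350)⁻¹ := by
      rw [← q3, hm.cj (by norm_num) (by norm_num)]
    have e3 : ν * ph 200 * ν⁻¹ = (ν * ph 350 * ν⁻¹) * (ν * ph 100 * ν⁻¹) * (ν * ph 350 * ν⁻¹)⁻¹ := by
      rw [e2]; group
    rw [e3, e1, hn.n100, ← hm.cj (by norm_num) (by norm_num), q6]
  have hρν2 : ν * ph 150 * ν⁻¹ = ph 200 := by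
    rw [← hρν]
    calc ν * (ν * ph 200 * ν⁻¹) * ν⁻¹ = (ν * ν) * ph 200 * (ν * ν)⁻¹ := by group
      _ = ph 200 := by rw [hn.sq]; group
  have hρ : gz⁻¹ * ph 200 * gz = ph 200 := by
    show (ν * ph 144 * ν)⁻¹ * ph 200 * (ν * ph 144 * ν) = _
    have e1 : (ν * ph 144 * ν)⁻¹ * ph 200 * (ν * ph 144 * ν) =
        ν⁻¹ * ((ph 144)⁻¹ * (ν⁻¹ * ph 200 * ν) * ph 144) * ν := by group
    have e2 : ν⁻¹ * ph 200 * ν = ph 150 := by
      rw [iν]; rw [iν] at hρν; exact hρν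
    have e3 : (ph 144)⁻¹ * ph 150 * ph 144 = ph 150 := by
      have := hm.cj (invC_lt hlt144) (by norm_num : (150 : ℕ) < 576)
      rw [q7, hm.inv hlt144, inv_inv] at this
      exact this.symm
    rw [e1, e2, e3, iν]
    rw [iν] at hρν2
    exact hρν2
  have hρgz : ph 200 * gz = gz * ph 200 := by
    have e1 : ph 200 = gz * (gz⁻¹ * ph 200 * gz) * gz⁻¹ := by group
    calc ph 200 * gz = gz * (gz⁻¹ * ph 200 * gz) := by group
      _ = gz * ph 200 := by rw [hρ]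
  have hPd : ∀ d, d < 576 → h * ph d * h⁻¹ = gz * ph (cjC 6 d) * gz⁻¹ := by
    intro d hd
    rw [hm.cj hlt6 hd]
    show gz * ph 6 * ph d * (gz * ph 6)⁻¹ = _
    group
  -- the action of the element of order three
  have hρact : ∀ c, c < 576 → ph 200 * (gz * ph c * gz⁻¹) * (ph 200)⁻¹ = gz * ph (cjC 200 c) * gz⁻¹ := by
    intro c hc
    rw [hm.cj hlt200 hc]
    have e1 : gz * (ph 200 * ph c * (ph 200)⁻¹) * gz⁻¹ =
        (gz * ph 200) * ph c * (gz * ph 200)⁻¹ := by group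
    rw [e1, ← hρgz]
    group
  have hρx : ph 200 * x * (ph 200)⁻¹ = x := by
    rw [hm.mem 200 hlt200]; group
  have hcomm_ρ : ∀ c, c < 576 → x * (gz * ph c * gz⁻¹) = (gz * ph c * gz⁻¹) * x →
      x * (gz * ph (cjC 200 c) * gz⁻¹) = (gz * ph (cjC 200 c) * gz⁻¹) * x := by
    intro c hc h1
    rw [← hρact c hc]
    have e : ph 200 * (x * (gz * ph c * gz⁻¹)) * (ph 200)⁻¹ = ph 200 * ((gz * ph c * gz⁻¹) * x) * (ph 200)⁻¹ := by
      rw [h1]
    have e1 : ph 200 * (x * (gz * ph c * gz⁻¹)) * (ph 200)⁻¹ =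
        (ph 200 * x * (ph 200)⁻¹) * (ph 200 * (gz * ph c * gz⁻¹) * (ph 200)⁻¹) := by group
    have e2 : ph 200 * ((gz * ph c * gz⁻¹) * x) * (ph 200)⁻¹ =
        (ph 200 * (gz * ph c * gz⁻¹) * (ph 200)⁻¹) * (ph 200 * x * (ph 200)⁻¹) := by group
    rw [e1, e2, hρx] at e
    exact e
  obtain ⟨d, hd, hdc⟩ := gq hF (y := x) ((P43Cnt.cl_base h).2 (Cl.refl x))
  have hdc' : x * (h * ph d * h⁻¹) = (h * ph d * h⁻¹) * x := hdc
  -- two distinct points on the line commuting with `x` are impossible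
  have htwo : ∀ a b, isD a = true → isD b = true → a ≠ b →
      x * (h * ph a * h⁻¹) = (h * ph a * h⁻¹) * x →
      x * (h * ph b * h⁻¹) = (h * ph b * h⁻¹) * x → False := by
    intro a b ha hb hab h1 h2
    obtain ⟨f, hfD, hfe⟩ := two_points hF (y := x) ((P43Cnt.cl_base h).2 (Cl.refl x)) ha hb hab h1 h2
    have hfe' : x = h * ph f * h⁻¹ := hfe
    apply hnc
    have hfl := D_lt hfD
    have h3 := (hm.comm_iff hfl z_lt).2 (E_line f hfD)
    rw [hm.z] at h3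
    have e : (h * ph f * h⁻¹) * (h * x * h⁻¹) = (h * x * h⁻¹) * (h * ph f * h⁻¹) := by
      calc (h * ph f * h⁻¹) * (h * x * h⁻¹) = h * (ph f * x) * h⁻¹ := by group
        _ = h * (x * ph f) * h⁻¹ := by rw [h3]
        _ = _ := by group
    rw [← hfe'] at e
    exact e
  have hline : ∀ a b, isD a = true → isD b = true → a ≠ b → cjC 200 (cjC 6 a) = cjC 6 b →
      x * (h * ph a * h⁻¹) = (h * ph a * h⁻¹) * x → False := by
    intro a b ha hb hab he h1
    apply htwo a b ha hb hab h1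
    have hal := D_lt ha
    have hbl := D_lt hb
    rw [hPd a hal] at h1
    rw [hPd b hbl, ← he]
    exact hcomm_ρ _ (cjC_lt hlt6 hal) h1
  have hdcases : d = 24 ∨ d = 1 ∨ d = 75 ∨ d = 375 ∨ d = 575 := by
    unfold isD at hd
    simp only [Bool.or_eq_true] at hd
    rcases hd with (((h1 | h1) | h1) | h1) | h1
    · exact Or.inl (beq_spec h1)
    · exact Or.inr (Or.inl (beq_spec h1))
    · exact Or.inr (Or.inr (Or.inl (beq_spec h1)))
    · exact Or.inr (Or.inr (Or.inr (Or.inl (beq_spec h1))))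
    · exact Or.inr (Or.inr (Or.inr (Or.inr (beq_spec h1))))
  rcases hdcases with rfl | rfl | rfl | rfl | rfl
  · exfalso
    apply hnc
    rw [hm.z] at hdc'
    exact hdc'
  · exact (hline 1 375 (by decide +kernel) (by decide +kernel) (by norm_num) (by rw [q9, q13, q11]) hdc').elim
  · rw [hPd 75 (by norm_num), q10] at hdc'
    exact hdc'
  · exact (hline 375 575 (by decide +kernel) (by decide +kernel) (by norm_num) (by rw [q11, q14, q12]) hdc').elim
  · exact (hline 575 1 (by decide +kernel) (by decide +kernel) (by norm_num) (by rw [q12, q15, q9]) hdc').elim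

end Cfsg.Agent.Lib.P43Nu
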