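import Mathlib
import Cfsg.Agent.Lib.P43TcData
import Cfsg.Agent.Lib.P43Nu2
import Cfsg.Agent.Lib.TableAction

/-!
# The relations and the recognition of the group
-/

set_option autoImplicit false
set_option linter.unusedVariables false
set_option linter.unusedSectionVars false
set_option maxHeartbeats 0
set_option maxRecDepth 100000

namespace Cfsg.Agent.Lib.P43Pres

open Cfsg.Agent.Lib.MiniTC Cfsg.Agent.Lib.P43TcData
open Cfsg.Agent.Lib.P43Tab Cfsg.Agent.Lib.P43Mod Cfsg.Agent.Lib.P43Fa1 Cfsg.Agent.Lib.P43Syl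
open Cfsg.Agent.Lib.P43Fa2 Cfsg.Agent.Lib.P43Z1 Cfsg.Agent.Lib.P43Fus Cfsg.Agent.Lib.P43Fus2
open Cfsg.Agent.Lib.P43Fus3 Cfsg.Agent.Lib.P43C1 Cfsg.Agent.Lib.P43C2 Cfsg.Agent.Lib.P43Cnt
open Cfsg.Agent.Lib.P43GQ Cfsg.Agent.Lib.P43Nu

section general

variable {X Y : Type*} [Group X] [Group Y]

/-- The letters. -/
def lett (a b s n : X) : ℕ → X
  | 0 => a
  | 1 => b
  | 2 => s
  | 3 => n
  | 4 => a⁻¹
  | 5 => b⁻¹
  | 6 => s⁻¹
  | 7 => n⁻¹
  | _ + 8 => 1

/-- The value of a word. -/
def evW (g : ℕ → X) (w : List ℕ) : X := (w.map g).prod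

@[simp] theorem evW_nil (g : ℕ → X) : evW g [] = 1 := rfl

@[simp] theorem evW_cons (g : ℕ → X) (i : ℕ) (w : List ℕ) : evW g (i :: w) = g i * evW g w := by
  simp [evW]

theorem evW_append (g : ℕ → X) (u w : List ℕ) : evW g (u ++ w) = evW g u * evW g w := by
  simp [evW]

theorem lett_invL (a b s n : X) (g : ℕ) : lett a b s n (invL g) = (lett a b s n g)⁻¹ := by
  by_cases h : g < 8
  · interval_cases g <;> simp [invL, lett]
  · obtain ⟨k, rfl⟩ : ∃ k, g = k + 8 := ⟨g - 8, by omega⟩
    have h1 : invL (k + 8) = k + 8 := by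
      unfold invL
      rw [if_neg (by omega), if_neg (by omega)]
    rw [h1]
    simp [lett]

theorem lett_map (f : X →* Y) (a b s n : X) (g : ℕ) :
    f (lett a b s n g) = lett (f a) (f b) (f s) (f n) g := by
  by_cases h : g < 8
  · interval_cases g <;> simp [lett]
  · obtain ⟨k, rfl⟩ : ∃ k, g = k + 8 := ⟨g - 8, by omega⟩
    simp [lett]

theorem evW_map (f : X →* Y) (a b s n : X) (w : List ℕ) :
    f (evW (lett a b s n) w) = evW (lett (f a) (f b) (f s) (f n)) w := by
  induction w with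
  | nil => simp
  | cons l w ih => rw [evW_cons, evW_cons, map_mul, ih, lett_map]

/-- The relations. -/
def Rl (a b s n : X) : Prop := ∀ ri, ri < 14 → evW (lett a b s n) (relsSub.getD ri []) = 1

theorem Rl.prod {a b s n : X} {a' b' s' n' : Y} (h : Rl a b s n) (h' : Rl a' b' s' n') :
    Rl (a, a') (b, b') (s, s') (n, n') := by
  intro ri hri
  apply Prod.ext
  · have := evW_map (MonoidHom.fst X Y) (a, a') (b, b') (s, s') (n, n') (relsSub.getD ri [])
    rw [MonoidHom.coe_fst] at this
    rw [this]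
    exact h ri hri
  · have := evW_map (MonoidHom.snd X Y) (a, a') (b, b') (s, s') (n, n') (relsSub.getD ri [])
    rw [MonoidHom.coe_snd] at this
    rw [this]
    exact h' ri hri

theorem Rl.sub {a b s n : X} (h : Rl a b s n) (K : Subgroup X) (ha : a ∈ K) (hb : b ∈ K) (hs : s ∈ K)
    (hn : n ∈ K) : Rl (⟨a, ha⟩ : K) ⟨b, hb⟩ ⟨s, hs⟩ ⟨n, hn⟩ := by
  intro ri hri
  apply Subtype.ext
  have := evW_map K.subtype (⟨a, ha⟩ : K) ⟨b, hb⟩ ⟨s, hs⟩ ⟨n, hn⟩ (relsSub.getD ri [])
  have e : ((evW (lett (⟨a, ha⟩ : K) ⟨b, hb⟩ ⟨s, hs⟩ ⟨n, hn⟩) (relsSub.getD ri []) : K) : X) =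
      K.subtype (evW (lett (⟨a, ha⟩ : K) ⟨b, hb⟩ ⟨s, hs⟩ ⟨n, hn⟩) (relsSub.getD ri [])) := rfl
  rw [e, this]
  exact h ri hri

/-- The closure of the table, in a usable form. -/
theorem closed_form {j g : ℕ} (hj : j ∈ live) (hg : g < 8) :
    ∃ y, qEdge cfg (final cfg lets relsSub 14 tree trace) j g = y + 1 ∧ y ∈ live := by
  have h := closed_check
  unfold closedB at h
  rw [List.all_eq_true] at h
  have h1 := h j hj
  rw [List.all_eq_true] at h1
  have h2 := h1 g (by
    simp only [lets, List.mem_cons, List.not_mem_nil, or_false]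
    omega)
  revert h2
  cases hq : qEdge cfg (final cfg lets relsSub 14 tree trace) j g with
  | zero => simp
  | succ y =>
    intro h2
    exact ⟨y, rfl, memB_iff _ _ h2⟩

theorem index_le_45 [Finite X] {a b s n : X} (h : Rl a b s n)
    (hgen : Subgroup.closure (Set.range (fun i : Fin 4 => lett a b s n i)) = ⊤)
    (H : Subgroup X) (ha : a ∈ H) (hb : b ∈ H) (hs : s ∈ H) : H.index ≤ 45 := by
  classical
  let g := lett a b s n
  let act : ℕ → (X ⧸ H) → (X ⧸ H) := fun i x => (g i)⁻¹ • x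
  have hw : ∀ (w : List ℕ) (x : X ⧸ H), wAct act w x = (evW g w)⁻¹ • x := by
    intro w
    induction w with
    | nil => intro x; simp [wAct]
    | cons i w ih =>
      intro x
      simp only [wAct, ih, evW_cons, mul_inv_rev, mul_smul, act]
  have hi := lett_invL a b s n
  have hinv : ∀ i x, act (cfg.inv i) (act i x) = x := by
    intro i x
    show (g (invL i))⁻¹ • (g i)⁻¹ • x = x
    rw [show g (invL i) = (g i)⁻¹ from hi i, inv_inv, smul_inv_smul]
  have hinv' : ∀ i x, act i (act (cfg.inv i) x) = x := by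
    intro i x
    show (g i)⁻¹ • (g (invL i))⁻¹ • x = x
    rw [show g (invL i) = (g i)⁻¹ from hi i, inv_inv, inv_smul_smul]
  have hfix : ∀ u ∈ H, u⁻¹ • ((1 : X) : X ⧸ H) = ((1 : X) : X ⧸ H) := by
    intro u hu
    rw [MulAction.Quotient.smul_coe]
    simp only [smul_eq_mul, mul_one]
    exact QuotientGroup.eq.mpr (by simpa using hu)
  have hR : ∀ ri x, ri < 14 → wAct act (relsSub.getD ri []) x = x := by
    intro ri x hri
    rw [hw, h ri hri]
    simp
  have hS : ∀ ri, wAct act (relsSub.getD ri []) ((1 : X) : X ⧸ H) = ((1 : X) : X ⧸ H) := by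
    intro ri
    by_cases hri : ri < 14
    · exact hR ri _ hri
    · by_cases h14 : ri = 14
      · subst h14
        rw [hw]
        have : evW g (relsSub.getD 14 []) = a := by
          show a * 1 = a
          exact mul_one a
        rw [this]
        exact hfix a ha
      · by_cases h15 : ri = 15
        · subst h15
          rw [hw]
          have : evW g (relsSub.getD 15 []) = b := by
            show b * 1 = b
            exact mul_one b
          rw [this]
          exact hfix b hb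
        · by_cases h16 : ri = 16
          · subst h16
            rw [hw]
            have : evW g (relsSub.getD 16 []) = s := by
              show s * 1 = s
              exact mul_one s
            rw [this]
            exact hfix s hs
          · have : relsSub.getD ri [] = [] := by
              rw [List.getD_eq_default]
              have : relsSub.length = 17 := by decide
              omega
            rw [this]
            rfl
  obtain ⟨v, h0, hg⟩ := exists_good (C := cfg) (act := act) hinv hinv' ((1 : X) : X ⧸ H)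
    (L := lets) (R := relsSub) (nrel := 14) hR hS tree trace
  have hstep : ∀ {j i : ℕ}, j ∈ live → i < 8 → ∃ y ∈ live, v y = (g i)⁻¹ • v j := by
    intro j i hj hi'
    obtain ⟨y, hy, hyl⟩ := closed_form hj hi'
    exact ⟨y, hyl, qEdge_sound hg hy⟩
  let S : Submonoid X :=
    { carrier := {u | ∀ j ∈ live, ∃ y ∈ live, v y = u⁻¹ • v j}
      one_mem' := fun j hj => ⟨j, hj, by simp⟩
      mul_mem' := by
        intro u u' hu hu' j hj
        obtain ⟨y, hy, hy1⟩ := hu j hj
        obtain ⟨y', hy', hy1'⟩ := hu' y hy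
        exact ⟨y', hy', by rw [hy1', hy1, mul_inv_rev, mul_smul]⟩ }
  have hSt : S = ⊤ := by
    apply Cfsg.Agent.Lib.TableAction.submonoid_eq_top_of_closure _ hgen
    intro i j hj
    have hi2 : (i : ℕ) < 8 := by have := i.2; omega
    exact hstep hj hi2
  have hsurj : ∀ x : X ⧸ H, ∃ y ∈ live, v y = x := by
    intro x
    obtain ⟨u, rfl⟩ := QuotientGroup.mk_surjective x
    have hx : u⁻¹ ∈ S := by rw [hSt]; trivial
    obtain ⟨y, hy, h1⟩ := hx 0 zero_mem
    refine ⟨y, hy, ?_⟩
    rw [h1, h0, inv_inv, MulAction.Quotient.smul_coe]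
    simp
  let F : Fin live.length → X ⧸ H := fun i => v live[i]
  have hF : Function.Surjective F := by
    intro x
    obtain ⟨y, hy, h1⟩ := hsurj x
    obtain ⟨i, hi', rfl⟩ := List.getElem_of_mem hy
    exact ⟨⟨i, hi'⟩, h1⟩
  have h3 := Nat.card_le_card_of_surjective F hF
  rw [Nat.card_fin, live_length] at h3
  exact h3

end general

variable {G : Type*} [Group G] [Finite G] {x : G} {ph : ℕ → G}

/-- Codes of letters. -/
def cL : ℕ → ℕ
  | 0 => 48
  | 1 => 144
  | 2 => 1
  | 4 => invC 48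
  | 5 => invC 144
  | 6 => invC 1
  | _ => 0

/-- Words without `ν`. -/
def pureW (w : List ℕ) : Bool := w.all (fun l => Nat.blt l 7 && !Nat.beq l 3)

/-- The code of a word. -/
def evC : List ℕ → ℕ
  | [] => 0
  | l :: w => mulC (cL l) (evC w)

theorem lett_pure (hm : Mod x ph) (n : G) {l : ℕ} (h : l < 7) (h3 : l ≠ 3) :
    cL l < 576 ∧ lett (ph 48) (ph 144) (ph 1) n l = ph (cL l) := by
  interval_cases l
  · exact ⟨by norm_num [cL], rfl⟩
  · exact ⟨by norm_num [cL], rfl⟩
  · exact ⟨by norm_num [cL], rfl⟩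
  · exact absurd rfl h3
  · exact ⟨invC_lt (by norm_num), (hm.inv (by norm_num)).symm⟩
  · exact ⟨invC_lt (by norm_num), (hm.inv (by norm_num)).symm⟩
  · exact ⟨invC_lt (by norm_num), (hm.inv (by norm_num)).symm⟩

theorem evW_pure (hm : Mod x ph) (n : G) (w : List ℕ) (h : pureW w = true) :
    evC w < 576 ∧ evW (lett (ph 48) (ph 144) (ph 1) n) w = ph (evC w) := by
  induction w with
  | nil => exact ⟨zero_lt, hm.one.symm⟩
  | cons l w ih =>
    simp only [pureW, List.all_cons, Bool.and_eq_true, Bool.not_eq_true'] at h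
    obtain ⟨⟨h1, h2⟩, h3⟩ := h
    have hl : l < 7 := by simpa using h1
    have hl3 : l ≠ 3 := Nat.ne_of_beq_eq_false h2
    obtain ⟨i1, i2⟩ := ih h3
    obtain ⟨j1, j2⟩ := lett_pure hm n hl hl3
    refine ⟨mulC_lt _ j1 _ i1, ?_⟩
    rw [evW_cons, j2, i2]
    exact (hm.mul _ _ j1 i1).symm

theorem pure_rel (hm : Mod x ph) (n : G) (w : List ℕ) (h1 : pureW w = true) (h2 : evC w = 0) :
    evW (lett (ph 48) (ph 144) (ph 1) n) w = 1 := by
  rw [(evW_pure hm n w h1).2, h2, hm.one]

theorem nu_rel (hm : Mod x ph) {n : G} (hni : n⁻¹ = n) {A B : List ℕ} {c' : ℕ} (hc' : c' < 576)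
    (hA : pureW A = true) (hB : pureW B = true) (h : n * ph (evC A) * n⁻¹ = ph c')
    (h0 : mulC c' (evC B) = 0) : evW (lett (ph 48) (ph 144) (ph 1) n) (3 :: (A ++ 3 :: B)) = 1 := by
  obtain ⟨b1, b2⟩ := evW_pure hm n B hB
  obtain ⟨a1, a2⟩ := evW_pure hm n A hA
  rw [evW_cons, evW_append, evW_cons, a2, b2]
  have e : lett (ph 48) (ph 144) (ph 1) n 3 * (ph (evC A) * (lett (ph 48) (ph 144) (ph 1) n 3 * ph (evC B))) =
      (n * ph (evC A) * n⁻¹) * ph (evC B) := by
    show n * (ph (evC A) * (n * ph (evC B))) = _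
    rw [hni]
    group
  rw [e, h, ← hm.mul _ _ hc' b1, h0, hm.one]

theorem rel_G (hf : Fus x ph) {ν : G} (hn : NuRel x ph ν) : Rl (ph 48) (ph 144) (ph 1) ν := by
  have hm := hf.hm
  have iν := hn.inv_eq
  intro ri hri
  interval_cases ri
  · exact pure_rel hm ν _ (by decide +kernel) (by decide +kernel)
  · exact pure_rel hm ν _ (by decide +kernel) (by decide +kernel)
  · exact pure_rel hm ν _ (by decide +kernel) (by decide +kernel)
  · exact pure_rel hm ν _ (by decide +kernel) (by decide +kernel)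
  · exact pure_rel hm ν _ (by decide +kernel) (by decide +kernel)
  · exact pure_rel hm ν _ (by decide +kernel) (by decide +kernel)
  · exact pure_rel hm ν _ (by decide +kernel) (by decide +kernel)
  · show ν * (ν * 1) = 1
    rw [mul_one, hn.sq]
  · show evW (lett (ph 48) (ph 144) (ph 1) ν) (3 :: ([0, 0] ++ 3 :: [6])) = 1
    apply nu_rel hm iν (c' := 1) (by norm_num) (by decide +kernel) (by decide +kernel) _ (by decide +kernel)
    rw [show evC [0, 0] = 24 by decide +kernel, hm.z]
    exact hn.n24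
  · show evW (lett (ph 48) (ph 144) (ph 1) ν) (3 :: ([2] ++ 3 :: [4, 4])) = 1
    apply nu_rel hm iν (c' := 24) (by norm_num) (by decide +kernel) (by decide +kernel) _ (by decide +kernel)
    rw [show evC [2] = 1 by decide +kernel, hm.z]
    exact hn.n1
  · show evW (lett (ph 48) (ph 144) (ph 1) ν) (3 :: ([0, 2, 0, 5, 0, 2, 5, 0] ++ 3 :: [6, 4, 5, 4, 6, 4, 5, 4])) = 1
    apply nu_rel hm iν (c' := 500) (by norm_num) (by decide +kernel) (by decide +kernel) _ (by decide +kernel)
    rw [show evC [0, 2, 0, 5, 0, 2, 5, 0] = 100 by decide +kernel]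
    exact hn.n100
  · show evW (lett (ph 48) (ph 144) (ph 1) ν) (3 :: ([2, 5, 0, 1, 2, 5, 0, 1] ++ 3 :: [5, 4, 1, 6, 5, 4, 1, 6])) = 1
    apply nu_rel hm iν (c' := 550) (by norm_num) (by decide +kernel) (by decide +kernel) _ (by decide +kernel)
    rw [show evC [2, 5, 0, 1, 2, 5, 0, 1] = 550 by decide +kernel]
    have e1 : ph 550 = ph 75 * ph 375 := by
      rw [← hm.mul 75 375 (by norm_num) (by norm_num), show mulC 75 375 = 550 by decide +kernel]
    have e2 : ph 550 = ph 375 * ph 75 := by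
      rw [← hm.mul 375 75 (by norm_num) (by norm_num), show mulC 375 75 = 550 by decide +kernel]
    calc ν * ph 550 * ν⁻¹ = (ν * ph 75 * ν⁻¹) * (ν * ph 375 * ν⁻¹) := by rw [e1]; group
      _ = ph 375 * ph 75 := by rw [hn.n75, hn.n375]
      _ = ph 550 := e2.symm
  · show ph 48 * (ν * (ph 48 * (ν * (ph 48 * (ν * (ph 48 * (ν * (ph 48 * (ν * 1))))))))) = 1
    have e : ph 48 * (ν * (ph 48 * (ν * (ph 48 * (ν * (ph 48 * (ν * (ph 48 * (ν * 1))))))))) = (ph 48 * ν) ^ 5 := by
      simp only [pow_succ, pow_zero, one_mul, mul_one, mul_assoc]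
    rw [e]
    exact r5 hf hn
  · have hq := quad hf hn
    simp only at hq
    set y := ν * ph 144 * ν * ph 203 * (ν * ph 144 * ν)⁻¹ with hy
    have hu : evW (lett (ph 48) (ph 144) (ph 1) ν) [0, 0, 3, 1, 3, 0, 5, 2, 1, 4, 7, 5, 7] = x * y := by
      have e0 : ([0, 0, 3, 1, 3, 0, 5, 2, 1, 4, 7, 5, 7] : List ℕ) = [0, 0] ++ ([3, 1, 3] ++ ([0, 5, 2, 1, 4] ++ [7, 5, 7])) := rfl
      rw [e0, evW_append, evW_append, evW_append]
      rw [(evW_pure hm ν [0, 0] (by decide +kernel)).2, (evW_pure hm ν [0, 5, 2, 1, 4] (by decide +kernel)).2,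
        show evC [0, 0] = 24 by decide +kernel, show evC [0, 5, 2, 1, 4] = 203 by decide +kernel, hm.z]
      show x * ((ν * (ph 144 * (ν * 1))) * (ph 203 * (ν⁻¹ * ((ph 144)⁻¹ * (ν⁻¹ * 1))))) = _
      rw [hy]
      group
    show evW (lett (ph 48) (ph 144) (ph 1) ν) ([0, 0, 3, 1, 3, 0, 5, 2, 1, 4, 7, 5, 7] ++ [0, 0, 3, 1, 3, 0, 5, 2, 1, 4, 7, 5, 7]) = 1
    rw [evW_append, hu]
    have hyy : y * y = 1 := by
      have h203 : ph 203 * ph 203 = 1 := by
        rw [← hm.mul 203 203 (by norm_num) (by norm_num), show mulC 203 203 = 0 by decide +kernel, hm.one]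
      rw [hy]
      calc _ = (ν * ph 144 * ν) * (ph 203 * ph 203) * (ν * ph 144 * ν)⁻¹ := by group
        _ = 1 := by rw [h203]; group
    have hxx := x_sq hm
    calc x * y * (x * y) = x * (y * x) * y := by group
      _ = x * (x * y) * y := by rw [hq]
      _ = (x * x) * (y * y) := by group
      _ = 1 := by rw [hxx, hyy, one_mul]

/-- Ranks for the generation of the table. -/
def tR : ℕ := 1760962602581774464232179523955085612141811344019215643271607459513764940677808679982424990770721655936343687260666380418966179632672853037022935646896562039804516869508470827762495925672171995368200622558808096479949745947113317815541679557023210210192811352303578618618363877904348943357765639303624090236156004707650597700552976754261073247169342902396464712096252837509669346267225660627034272362489948863362306185806673271705348933029455042491996083773464684989989880172326708769584000590322839902197836706126000741835922042112229988239389198751452717732067230234838522987026883831660485295653745910060861542217542336227039662846155444540081032506246497327081077642592488433594568376918800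

/-- The rank. -/
def rk (c : ℕ) : ℕ := Nat.mod (Nat.shiftRight tR (Nat.mul 4 c)) 16

/-- The generators of the table and their inverses. -/
def lL : ℕ → ℕ
  | 0 => 48
  | 1 => 144
  | 2 => 1
  | 3 => 72
  | _ => 408

theorem rank_check : ∀ c, c < 576 → c = 0 ∨ ∃ li, li < 5 ∧ mulC (mulC c (invC (lL li))) (lL li) = c ∧
    rk (mulC c (invC (lL li))) < rk c := by
  have h := allN_spec (n := 576) (p := fun c => Nat.beq c 0 || anyN 5 fun li =>
    Nat.beq (mulC (mulC c (invC (lL li))) (lL li)) c && Nat.blt (rk (mulC c (invC (lL li)))) (rk c))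
    (by decide +kernel)
  intro c hc
  have h1 := h c hc
  simp only [Bool.or_eq_true] at h1
  rcases h1 with h1 | h1
  · exact Or.inl (beq_spec h1)
  · right
    obtain ⟨li, hli, h2⟩ := anyN_spec h1
    simp only [Bool.and_eq_true] at h2
    exact ⟨li, hli, beq_spec h2.1, blt_spec h2.2⟩

theorem lL_facts : invC 48 = 72 ∧ invC 144 = 408 := by decide +kernel

theorem gen_codes (hm : Mod x ph) (S : Subgroup G) (h48 : ph 48 ∈ S) (h144 : ph 144 ∈ S) (h1 : ph 1 ∈ S) :
    ∀ c, c < 576 → ph c ∈ S := by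
  have hL : ∀ li, li < 5 → lL li < 576 ∧ ph (lL li) ∈ S := by
    intro li hli
    interval_cases li
    · exact ⟨by norm_num [lL], h48⟩
    · exact ⟨by norm_num [lL], h144⟩
    · exact ⟨by norm_num [lL], h1⟩
    · refine ⟨by norm_num [lL], ?_⟩
      show ph 72 ∈ S
      rw [← lL_facts.1, hm.inv (by norm_num)]
      exact S.inv_mem h48
    · refine ⟨by norm_num [lL], ?_⟩
      show ph 408 ∈ S
      rw [← lL_facts.2, hm.inv (by norm_num)]
      exact S.inv_mem h144
  have key : ∀ n, ∀ c, c < 576 → rk c = n → ph c ∈ S := by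
    intro n
    induction n using Nat.strong_induction_on with
    | _ n ih =>
      intro c hc hrk
      rcases rank_check c hc with h0 | ⟨li, hli, h2, h3⟩
      · rw [h0, hm.one]
        exact S.one_mem
      · obtain ⟨l1, l2⟩ := hL li hli
        have hp := mulC_lt c hc _ (invC_lt l1)
        have h4 := ih _ (by rw [← hrk]; exact h3) _ hp rfl
        rw [← h2, hm.mul _ _ hp l1]
        exact S.mul_mem h4 l2
  exact fun c hc => key _ c hc rfl

section main

variable {G' : Type*} [Group G'] [Finite G'] {x' : G'} {ph' : ℕ → G'}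

/-- The subgroup of pairs. -/
def graphH (hm : Mod x ph) (hm' : Mod x' ph') : Subgroup (G × G') where
  carrier := {y | ∃ i, i < 576 ∧ y = (ph i, ph' i)}
  one_mem' := ⟨0, zero_lt, by rw [hm.one, hm'.one]; rfl⟩
  mul_mem' := by
    rintro _ _ ⟨i, hi, rfl⟩ ⟨j, hj, rfl⟩
    refine ⟨mulC i j, mulC_lt _ hi _ hj, ?_⟩
    rw [hm.mul i j hi hj, hm'.mul i j hi hj]
    rfl
  inv_mem' := by
    rintro _ ⟨i, hi, rfl⟩
    refine ⟨invC i, invC_lt hi, ?_⟩
    rw [hm.inv hi, hm'.inv hi]
    rfl

theorem card_graphH (hm : Mod x ph) (hm' : Mod x' ph') : Nat.card (graphH hm hm') ≤ 576 := by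
  classical
  have h1 : ((graphH hm hm' : Subgroup (G × G')) : Set (G × G')) ⊆
      (fun i => (ph i, ph' i)) '' ((Finset.range 576 : Finset ℕ) : Set ℕ) := by
    rintro _ ⟨i, hi, rfl⟩
    exact ⟨i, by simpa using hi, rfl⟩
  rw [show Nat.card (graphH hm hm') = ((graphH hm hm' : Subgroup (G × G')) : Set (G × G')).ncard from
    Nat.card_coe_set_eq _]
  calc _ ≤ _ := Set.ncard_le_ncard h1 (Set.toFinite _)
    _ ≤ ((Finset.range 576 : Finset ℕ) : Set ℕ).ncard := Set.ncard_image_le (Set.toFinite _)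
    _ = 576 := by rw [Set.ncard_coe_finset, Finset.card_range]

/-- The main recognition theorem. -/
theorem iso_of_fus (hf : Fus x ph) (hf' : Fus x' ph') (hcard : Nat.card G' = 25920)
    (hs : IsSimpleGroup G') : Nonempty (G' ≃* G) := by
  classical
  have hm := hf.hm
  have hm' := hf'.hm
  obtain ⟨ν, hn⟩ := exists_nu hf
  obtain ⟨ν', hn'⟩ := exists_nu hf'
  have hP := (rel_G hf hn).prod (rel_G hf' hn')
  let A : G × G' := (ph 48, ph' 48)
  let B : G × G' := (ph 144, ph' 144)
  let S : G × G' := (ph 1, ph' 1)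
  let N : G × G' := (ν, ν')
  let k : Set (G × G') := Set.range (fun i : Fin 4 => lett A B S N i)
  let K : Subgroup (G × G') := Subgroup.closure k
  have hA : A ∈ K := Subgroup.subset_closure ⟨0, rfl⟩
  have hB : B ∈ K := Subgroup.subset_closure ⟨1, rfl⟩
  have hS : S ∈ K := Subgroup.subset_closure ⟨2, rfl⟩
  have hN : N ∈ K := Subgroup.subset_closure ⟨3, rfl⟩
  have hK := Rl.sub hP K hA hB hS hN
  have hgen : Subgroup.closure (Set.range (fun i : Fin 4 =>
      lett (⟨A, hA⟩ : K) ⟨B, hB⟩ ⟨S, hS⟩ ⟨N, hN⟩ i)) = ⊤ := by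
    rw [eq_top_iff, ← Subgroup.closure_closure_coe_preimage (k := k)]
    apply Subgroup.closure_mono
    rintro ⟨y, hy⟩ hy'
    obtain ⟨i, hi⟩ := hy'
    refine ⟨i, ?_⟩
    apply Subtype.ext
    rw [← hi]
    fin_cases i <;> rfl
  let H : Subgroup K := (graphH hm hm').subgroupOf K
  have hA2 : (⟨A, hA⟩ : K) ∈ H := Subgroup.mem_subgroupOf.2 ⟨48, by norm_num, rfl⟩
  have hB2 : (⟨B, hB⟩ : K) ∈ H := Subgroup.mem_subgroupOf.2 ⟨144, by norm_num, rfl⟩
  have hS2 : (⟨S, hS⟩ : K) ∈ H := Subgroup.mem_subgroupOf.2 ⟨1, by norm_num, rfl⟩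
  have hidx := index_le_45 hK hgen H hA2 hB2 hS2
  have hcH : Nat.card H ≤ 576 := by
    refine le_trans ?_ (card_graphH hm hm')
    apply Nat.card_le_card_of_injective (fun y : H => (⟨(y : K), Subgroup.mem_subgroupOf.1 y.2⟩ : graphH hm hm'))
    intro a b hab
    have := congrArg Subtype.val hab
    exact Subtype.ext (Subtype.ext this)
  have hcK : Nat.card K ≤ 25920 := by
    rw [← Subgroup.card_mul_index H]
    calc _ ≤ 576 * 45 := Nat.mul_le_mul hcH hidx
      _ = 25920 := by norm_num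
  let π₂ : K →* G' := (MonoidHom.snd G G').comp K.subtype
  let π₁ : K →* G := (MonoidHom.fst G G').comp K.subtype
  have hR : π₂.range = ⊤ := by
    apply gen hf' hn' π₂.range
    · apply gen_codes hm' π₂.range
      · exact ⟨⟨A, hA⟩, rfl⟩
      · exact ⟨⟨B, hB⟩, rfl⟩
      · exact ⟨⟨S, hS⟩, rfl⟩
    · exact ⟨⟨N, hN⟩, rfl⟩
  have hs₂ : Function.Surjective π₂ := MonoidHom.range_eq_top.1 hR
  have hb₂ : Function.Bijective π₂ := by
    apply hs₂.bijective_of_nat_card_le
    rw [hcard]
    exact hcK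
  let ε : K ≃* G' := MulEquiv.ofBijective π₂ hb₂
  let ψ : G' →* G := π₁.comp ε.symm.toMonoidHom
  have hψ : ∀ (y : G × G') (hy : y ∈ K), ψ y.2 = y.1 := by
    intro y hy
    have h1 : ε.symm y.2 = ⟨y, hy⟩ := by
      rw [MulEquiv.symm_apply_eq]
      rfl
    show ((ε.symm y.2 : K) : G × G').1 = y.1
    rw [h1]
  have hRψ : ψ.range = ⊤ := by
    apply gen hf hn ψ.range
    · apply gen_codes hm ψ.range
      · exact ⟨ph' 48, hψ A hA⟩
      · exact ⟨ph' 144, hψ B hB⟩
      · exact ⟨ph' 1, hψ S hS⟩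
    · exact ⟨ν', hψ N hN⟩
  have hinj : Function.Injective ψ := by
    rw [injective_iff_map_eq_one]
    rcases IsSimpleGroup.eq_bot_or_eq_top_of_normal ψ.ker inferInstance with hk | hk
    · intro y hy
      have : y ∈ ψ.ker := hy
      rwa [hk] at this
    · exfalso
      obtain ⟨w, hw⟩ := (MonoidHom.range_eq_top.1 hRψ) x
      have : w ∈ ψ.ker := by rw [hk]; trivial
      rw [MonoidHom.mem_ker, hw] at this
      exact x_ne_one hm this
  exact ⟨MulEquiv.ofBijective ψ ⟨hinj, MonoidHom.range_eq_top.1 hRψ⟩⟩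

end main

end Cfsg.Agent.Lib.P43Pres
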