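import Mathlib
import Cfsg.Agent.Lib.P43PSp2
import Cfsg.Agent.Lib.P43Pres
import Cfsg.Agent.Lib.P43Fus3
import Cfsg.Agent.Lib.P43Fa1
import Cfsg.Agent.Lib.SpOrder
import Cfsg.Agent.Lib.SpCenter
import Cfsg.Agent.Lib.SpSimple

/-!
# The recognition of `PSp₄(3)` from the centraliser of a central involution
-/

set_option autoImplicit false
set_option linter.unusedVariables false
set_option linter.unusedSectionVars false
set_option maxHeartbeats 0
set_option maxRecDepth 100000

namespace Cfsg.Agent.Lib.P43Main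

open Cfsg.Agent.Lib.P43Tab Cfsg.Agent.Lib.P43Mod Cfsg.Agent.Lib.P43Syl Cfsg.Agent.Lib.P43Fa1

theorem centre_all : ∀ i, i < 576 → (∀ j, j < 576 → cmC i j = true) → i = 0 ∨ i = 24 := by
  have h := allN_spec (n := 576) (p := fun i =>
    (impB (allN 576 fun j => cmC i j) (Nat.beq i 0 || Nat.beq i 24)))
    (by decide +kernel)
  intro i hi h2
  have h3 := impB_spec (h i hi) (allN_of fun j hj => h2 j hj)
  simp only [Bool.or_eq_true] at h3
  rcases h3 with h3 | h3
  · exact Or.inl (Nat.eq_of_beq_eq_true h3)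
  · exact Or.inr (Nat.eq_of_beq_eq_true h3)

section transport

variable {A B : Type*} [Group A] [Group B]

/-- Transport of a model along an isomorphism. -/
theorem map_equiv (Ψ : A ≃* B) {x : B} {ph : ℕ → B} (hm : Mod x ph) :
    Mod (Ψ.symm x) (fun i => Ψ.symm (ph i)) where
  mul i j hi hj := by
    show Ψ.symm (ph (mulC i j)) = _
    rw [hm.mul i j hi hj, map_mul]
  inj i j hi hj h := hm.inj i j hi hj (Ψ.symm.injective h)
  rng g hg := by
    have h1 : Ψ g * x = x * Ψ g := by
      have := congrArg Ψ hg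
      simpa using this
    obtain ⟨i, hi, h2⟩ := hm.rng _ h1
    exact ⟨i, hi, by simp [h2]⟩
  mem i hi := by
    have := congrArg Ψ.symm (hm.mem i hi)
    simpa using this
  z := by
    show Ψ.symm (ph 24) = _
    rw [hm.z]

/-- A central involution of a Sylow `2`-subgroup carries the model too. -/
theorem conj_model [Finite A] {x : A} {ph : ℕ → A} (hm : Mod x ph) (U : Sylow 2 A) (t₀ : A)
    (ht₀ : orderOf t₀ = 2) (ht₀U : t₀ ∈ (U : Subgroup A))
    (ht₀c : ∀ u ∈ (U : Subgroup A), u * t₀ = t₀ * u) : ∃ ph₀, Mod t₀ ph₀ := by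
  obtain ⟨P, hP⟩ := exists_sylow hm
  obtain ⟨g, hg⟩ := MulAction.exists_smul_eq A U P
  have hU : ∀ y, y ∈ (U : Subgroup A) → g * y * g⁻¹ ∈ (P : Subgroup A) := by
    intro y hy
    rw [← hg]
    show g * y * g⁻¹ ∈ ((g • U : Sylow 2 A) : Subgroup A)
    rw [Sylow.coe_subgroup_smul, Subgroup.mem_pointwise_smul_iff_inv_smul_mem]
    show (MulAut.conj g)⁻¹ • (g * y * g⁻¹) ∈ (U : Subgroup A)
    have : (MulAut.conj g)⁻¹ • (g * y * g⁻¹) = y := by
      rw [MulAut.smul_def]
      simp [MulAut.conj_symm_apply]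
      group
    rw [this]
    exact hy
  have hU' : ∀ y, y ∈ (P : Subgroup A) → g⁻¹ * y * g ∈ (U : Subgroup A) := by
    intro y hy
    rw [← hg] at hy
    have hy' : y ∈ ((g • U : Sylow 2 A) : Subgroup A) := hy
    rw [Sylow.coe_subgroup_smul, Subgroup.mem_pointwise_smul_iff_inv_smul_mem] at hy'
    have : (MulAut.conj g)⁻¹ • y = g⁻¹ * y * g := by
      rw [MulAut.smul_def]
      simp [MulAut.conj_symm_apply]
    rw [← this]
    exact hy'
  have hmem : g * t₀ * g⁻¹ ∈ SG hm := by
    rw [← hP]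
    exact hU _ ht₀U
  obtain ⟨i, hi, hiS, hiy⟩ := (mem_SG hm).1 hmem
  have hcent : ∀ j, j < 576 → isS j = true → cmC i j = true := by
    intro j hj hjS
    rw [← hm.comm_iff hi hj, hiy]
    have hjP : ph j ∈ (P : Subgroup A) := by
      rw [hP]
      exact (mem_SG hm).2 ⟨j, hj, hjS, rfl⟩
    have h1 := ht₀c _ (hU' _ hjP)
    have h2 : g * (g⁻¹ * ph j * g * t₀) * g⁻¹ = g * (t₀ * (g⁻¹ * ph j * g)) * g⁻¹ := by rw [h1]
    have h3 : g * (g⁻¹ * ph j * g * t₀) * g⁻¹ = ph j * (g * t₀ * g⁻¹) := by group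
    have h4 : g * (t₀ * (g⁻¹ * ph j * g)) * g⁻¹ = (g * t₀ * g⁻¹) * ph j := by group
    rw [h3, h4] at h2
    exact h2.symm
  have ht₀1 : t₀ ≠ 1 := by
    intro h
    rw [h, orderOf_one] at ht₀
    omega
  rcases centre_S i hi hiS hcent with h0 | h0
  · exfalso
    rw [h0, hm.one] at hiy
    apply ht₀1
    have h8 : g⁻¹ * (g * t₀ * g⁻¹) * g = g⁻¹ * 1 * g := by rw [hiy]
    have h9 : g⁻¹ * (g * t₀ * g⁻¹) * g = t₀ := by group
    rw [h9] at h8
    rw [h8]
    group
  · rw [h0, hm.z] at hiy
    refine ⟨fun i => g⁻¹ * ph i * g, ?_⟩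
    have h5 := hm.conj g⁻¹
    simp only [inv_inv] at h5
    have he : g⁻¹ * x * g = t₀ := by
      rw [hiy]
      group
    rwa [he] at h5

/-- The model passes along an isomorphism of centralisers. -/
theorem model_of_cent_iso {t : A} {t₀ : B} (ht : t ≠ 1)
    (e : ↥(Subgroup.centralizer ({t} : Set A)) ≃* ↥(Subgroup.centralizer ({t₀} : Set B)))
    {ph₀ : ℕ → B} (hm : Mod t₀ ph₀) : ∃ ph, Mod t ph := by
  classical
  have hmem : ∀ i, i < 576 → ph₀ i ∈ Subgroup.centralizer ({t₀} : Set B) := by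
    intro i hi
    rw [Subgroup.mem_centralizer_singleton_iff]
    exact hm.mem i hi
  let ps : ℕ → ↥(Subgroup.centralizer ({t₀} : Set B)) :=
    fun i => if h : i < 576 then ⟨ph₀ i, hmem i h⟩ else 1
  have hps : ∀ i, i < 576 → ((ps i : ↥(Subgroup.centralizer ({t₀} : Set B))) : B) = ph₀ i := by
    intro i hi
    simp only [ps, dif_pos hi]
  have ht_mem : t ∈ Subgroup.centralizer ({t} : Set A) := by
    rw [Subgroup.mem_centralizer_singleton_iff]
  refine ⟨fun i => ((e.symm (ps i) : ↥(Subgroup.centralizer ({t} : Set A))) : A), ?_⟩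
  refine ⟨?_, ?_, ?_, ?_, ?_⟩
  · intro i j hi hj
    have h : ps (mulC i j) = ps i * ps j := by
      apply Subtype.ext
      rw [Subgroup.coe_mul, hps _ (mulC_lt _ hi _ hj), hps _ hi, hps _ hj, hm.mul i j hi hj]
    show ((e.symm (ps (mulC i j)) : ↥(Subgroup.centralizer ({t} : Set A))) : A) = _
    rw [h, map_mul, Subgroup.coe_mul]
  · intro i j hi hj h
    have h1 : ps i = ps j := e.symm.injective (Subtype.ext h)
    have h2 := congrArg (fun z : ↥(Subgroup.centralizer ({t₀} : Set B)) => (z : B)) h1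
    simp only [hps i hi, hps j hj] at h2
    exact hm.inj i j hi hj h2
  · intro g hg
    have hg' : g ∈ Subgroup.centralizer ({t} : Set A) := by
      rw [Subgroup.mem_centralizer_singleton_iff]
      exact hg
    have h1 := (e ⟨g, hg'⟩).2
    rw [Subgroup.mem_centralizer_singleton_iff] at h1
    obtain ⟨i, hi, h2⟩ := hm.rng _ h1
    refine ⟨i, hi, ?_⟩
    have h3 : ps i = e ⟨g, hg'⟩ := by
      apply Subtype.ext
      rw [hps i hi, h2]
    show ((e.symm (ps i) : ↥(Subgroup.centralizer ({t} : Set A))) : A) = g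
    rw [h3, MulEquiv.symm_apply_apply]
  · intro i hi
    have h := (e.symm (ps i)).2
    rw [Subgroup.mem_centralizer_singleton_iff] at h
    exact h
  · -- the central element
    have h1 := (e ⟨t, ht_mem⟩).2
    rw [Subgroup.mem_centralizer_singleton_iff] at h1
    obtain ⟨i, hi, h2⟩ := hm.rng _ h1
    have hcent : ∀ j, j < 576 → cmC i j = true := by
      intro j hj
      rw [← hm.comm_iff hi hj, h2]
      have hc : ∀ y : ↥(Subgroup.centralizer ({t} : Set A)), (⟨t, ht_mem⟩ : ↥(Subgroup.centralizer ({t} : Set A))) * y = y * ⟨t, ht_mem⟩ := by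
        intro y
        apply Subtype.ext
        have hy := y.2
        rw [Subgroup.mem_centralizer_singleton_iff] at hy
        exact hy.symm
      have h3 := hc (e.symm (ps j))
      have h4 := congrArg e h3
      rw [map_mul, map_mul, MulEquiv.apply_symm_apply] at h4
      have h5 := congrArg (fun z : ↥(Subgroup.centralizer ({t₀} : Set B)) => (z : B)) h4
      simp only [Subgroup.coe_mul, hps j hj] at h5
      exact h5
    have ht1 : e ⟨t, ht_mem⟩ ≠ 1 := by
      intro h
      have h3 : (⟨t, ht_mem⟩ : ↥(Subgroup.centralizer ({t} : Set A))) = 1 := by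
        rwa [map_eq_one_iff e e.injective] at h
      exact ht (congrArg Subtype.val h3)
    rcases centre_all i hi hcent with h0 | h0
    · exfalso
      rw [h0, hm.one] at h2
      exact ht1 (Subtype.ext h2.symm)
    · rw [h0, hm.z] at h2
      have h3 : ps 24 = e ⟨t, ht_mem⟩ := by
        apply Subtype.ext
        rw [hps 24 z_lt, hm.z]
        exact h2
      show ((e.symm (ps 24) : ↥(Subgroup.centralizer ({t} : Set A))) : A) = t
      rw [h3, MulEquiv.symm_apply_apply]

end transport

section final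

variable {F : Type*} [Field F] [Fintype F]

theorem card_PSp (hF : Fintype.card F = 3) : Nat.card (Cfsg.PSp 2 F) = 25920 := by
  have h1 := Subgroup.card_eq_card_quotient_mul_card_subgroup
    (Subgroup.center (Matrix.symplecticGroup (Fin 2) F))
  have h2 := Cfsg.Agent.Lib.SpOrder.card_Sp (F := F) 2
  have h3 : Nat.card (Subgroup.center (Matrix.symplecticGroup (Fin 2) F)) = 2 := by
    have := Cfsg.Agent.Lib.SpCenter.card_center (l := Fin 2) (F := F)
    rw [hF] at this
    simpa using this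
  rw [hF] at h2
  simp only [Finset.prod_range_succ, Finset.prod_range_zero] at h2
  norm_num at h2
  rw [h3] at h1
  have h4 : Nat.card (Matrix.symplecticGroup (Fin 2) F) = 51840 := h2
  rw [h4] at h1
  show Nat.card (_ ⧸ _) = _
  omega

theorem simple_PSp (hF : Fintype.card F = 3) : IsSimpleGroup (Cfsg.PSp 2 F) := by
  exact Cfsg.Agent.Lib.SpSimple.isSimpleGroup_PSp' (F := F) 2 (by norm_num) (fun _ => by rw [hF])

theorem no_index_two (hF : Fintype.card F = 3) (H : Subgroup (Cfsg.PSp 2 F)) : H.index ≠ 2 := by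
  intro h
  have hs := simple_PSp hF
  have hn : H.Normal := Subgroup.normal_of_index_eq_two h
  have hc := card_PSp hF
  rcases hn.eq_bot_or_eq_top with h0 | h0
  · rw [h0, Subgroup.index_bot, hc] at h
    omega
  · rw [h0, Subgroup.index_top] at h
    omega

theorem field_equiv (hF : Fintype.card F = 3) : Nonempty (F ≃+* ZMod 3) := by
  have hc : Fintype.card F = Fintype.card (ZMod 3) := by rw [hF, ZMod.card]
  have : Fact (Nat.Prime 3) := ⟨Nat.prime_three⟩
  have : CharP F 3 := by
    have hd : Nat.card F = 3 := by rw [Nat.card_eq_fintype_card, hF]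
    obtain ⟨p, hp⟩ := CharP.exists F
    have hp' : p.Prime := (CharP.char_is_prime_or_zero F p).resolve_right (fun h0 => by
      subst h0
      exact CharP.char_ne_zero_of_finite F 0 rfl)
    have hfact : Fact p.Prime := ⟨hp'⟩
    have hdvd : p ∣ Fintype.card F := by
      obtain ⟨n, hn, hcard⟩ := FiniteField.card F p
      rw [hcard]
      exact dvd_pow_self _ n.pos.ne'
    rw [hF, Nat.prime_dvd_prime_iff_eq hp' Nat.prime_three] at hdvd
    exact hdvd ▸ hp
  exact ⟨FiniteField.ringEquivOfCardEq hc⟩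

end final

end Cfsg.Agent.Lib.P43Main
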