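import Mathlib
import Cfsg.Agent.Lib.PAbJ
import Cfsg.Agent.Lib.TransferEval
import Cfsg.Agent.S0118

/-!
# Groups whose `p'`-subgroups are abelian of exponent dividing `p - 1` are solvable
-/

set_option autoImplicit false
set_option linter.unusedSectionVars false
set_option linter.unusedVariables false
set_option linter.style.longLine false
set_option linter.style.haveILetI false

open Subgroup

namespace Cfsg.Agent.Lib.PAbD

universe u

open Cfsg.Agent.Lib.CoprimeInv Cfsg.Agent.Lib.PAbA Cfsg.Agent.Lib.PAbB Cfsg.Agent.Lib.PAbC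
open scoped commutatorElement

section NumberTheory

theorem card_add_two_le {T : Finset ℕ} {a : ℕ} (ha : 2 ≤ a) (hT : ∀ x ∈ T, 2 ≤ x ∧ x < a) : T.card + 2 ≤ a := by
  have h : T ⊆ Finset.Ico 2 a := fun x hx => Finset.mem_Ico.mpr (hT x hx)
  have h2 := Finset.card_le_card h
  rw [Nat.card_Ico] at h2
  omega

theorem factorial_le_prod (S : Finset ℕ) (h : ∀ x ∈ S, 2 ≤ x) : (S.card + 1).factorial ≤ ∏ q ∈ S, q := by
  induction S using Finset.induction_on_max with
  | empty => simp
  | insert a T hlt ih =>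
    have hna : a ∉ T := fun hh => lt_irrefl _ (hlt a hh)
    have ha : 2 ≤ a := h a (Finset.mem_insert_self _ _)
    have hT : ∀ x ∈ T, 2 ≤ x := fun x hx => h x (Finset.mem_insert_of_mem hx)
    have h1 := card_add_two_le ha (fun x hx => ⟨hT x hx, hlt x hx⟩)
    rw [Finset.prod_insert hna, Finset.card_insert_of_notMem hna, Nat.factorial_succ]
    exact Nat.mul_le_mul (by omega) (ih hT)

theorem prod_le_mul_prod_pred (S : Finset ℕ) (h : ∀ x ∈ S, 2 ≤ x) :
    ∏ q ∈ S, q ≤ (S.card + 1) * ∏ q ∈ S, (q - 1) := by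
  induction S using Finset.induction_on_max with
  | empty => simp
  | insert a T hlt ih =>
    have hna : a ∉ T := fun hh => lt_irrefl _ (hlt a hh)
    have ha : 2 ≤ a := h a (Finset.mem_insert_self _ _)
    have hT : ∀ x ∈ T, 2 ≤ x := fun x hx => h x (Finset.mem_insert_of_mem hx)
    have h1 := card_add_two_le ha (fun x hx => ⟨hT x hx, hlt x hx⟩)
    rw [Finset.prod_insert hna, Finset.prod_insert hna, Finset.card_insert_of_notMem hna]
    set U := ∏ q ∈ T, q
    set V := ∏ q ∈ T, (q - 1)
    set t := T.card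
    have h2 := ih hT
    obtain ⟨b, rfl⟩ : ∃ b, a = b + 1 := ⟨a - 1, by omega⟩
    simp only [Nat.add_sub_cancel]
    have h3 : (b + 1) * U ≤ (b + 1) * ((t + 1) * V) := Nat.mul_le_mul_left _ h2
    refine h3.trans ?_
    have h4 : (b + 1) * (t + 1) ≤ (t + 1 + 1) * b := by nlinarith
    calc (b + 1) * ((t + 1) * V) = ((b + 1) * (t + 1)) * V := by ring
      _ ≤ ((t + 1 + 1) * b) * V := Nat.mul_le_mul_right _ h4
      _ = (t + 1 + 1) * (b * V) := by ring

theorem nt1 {n : ℕ} (hn : n ≠ 0) : n.primeFactors.card * (n.primeFactors.card + 1) ≤ n := by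
  set s := n.primeFactors.card with hs
  have h1 : (∏ q ∈ n.primeFactors, q) ∣ n := Nat.prod_primeFactors_dvd n
  have h2 := Nat.le_of_dvd (Nat.pos_of_ne_zero hn) h1
  have h3 := factorial_le_prod n.primeFactors (fun x hx => (Nat.prime_of_mem_primeFactors hx).two_le)
  have h4 : s * (s + 1) ≤ (s + 1).factorial := by
    rcases s with _ | s
    · simp
    · rw [Nat.factorial_succ, Nat.factorial_succ, mul_comm]
      apply Nat.mul_le_mul_left
      exact Nat.le_mul_of_pos_right _ (Nat.factorial_pos _)
  calc s * (s + 1) ≤ (s + 1).factorial := h4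
    _ ≤ _ := h3
    _ ≤ n := h2

theorem nt2 {n N : ℕ} (hN : N ≠ 0) (h : n ∣ N) : n ≤ (N.primeFactors.card + 1) * n.totient := by
  have hn : n ≠ 0 := fun hh => hN (by rw [hh] at h; exact zero_dvd_iff.mp h)
  have h1 : n.totient * ∏ q ∈ n.primeFactors, q = n * ∏ q ∈ n.primeFactors, (q - 1) :=
    Nat.totient_mul_prod_primeFactors n
  have h2 := prod_le_mul_prod_pred n.primeFactors (fun x hx => (Nat.prime_of_mem_primeFactors hx).two_le)
  have h3 : n.primeFactors.card ≤ N.primeFactors.card := Finset.card_le_card (Nat.primeFactors_mono h hN)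
  have h4 : 0 < ∏ q ∈ n.primeFactors, (q - 1) := by
    apply Finset.prod_pos
    intro x hx
    have := (Nat.prime_of_mem_primeFactors hx).two_le
    omega
  apply Nat.le_of_mul_le_mul_right _ h4
  rw [← h1]
  calc n.totient * ∏ q ∈ n.primeFactors, q ≤ n.totient * ((n.primeFactors.card + 1) * ∏ q ∈ n.primeFactors, (q - 1)) :=
        Nat.mul_le_mul_left _ h2
    _ ≤ n.totient * ((N.primeFactors.card + 1) * ∏ q ∈ n.primeFactors, (q - 1)) :=
        Nat.mul_le_mul_left _ (Nat.mul_le_mul_right _ (by omega))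
    _ = _ := by ring

end NumberTheory

/-- **The minimal counterexample does not exist.** -/
theorem Setup.false {G : Type u} [Group G] [Finite G] {p : ℕ} [Fact p.Prime] {P : Sylow p G} {A : Subgroup G}
    (S : Setup p P A) : False := by
  have hp2 : 2 ≤ p := (Fact.out : p.Prime).two_le
  have hN : p - 1 ≠ 0 := by omega
  have h1 := nt1 hN
  by_cases hU : UU p P A = (P : Subgroup G)
  · apply S.caseI hU
    set s := (p - 1).primeFactors.card
    rcases s with _ | s
    · omega
    · have : (s + 1) * (s + 1 + 1) ≥ 2 * (s + 1) := by nlinarith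
      omega
  · exact S.caseII hU (by omega) (fun n hn => nt2 hN hn)

section Quaternion

variable {X : Type*} [Group X]

theorem exists_Q {i j : X} (h1 : i * i = j * j) (h2 : (i * i) * (i * i) = 1)
    (h3 : j * i = (i * i) * i * j) :
    ∃ Q : Subgroup X, i ∈ Q ∧ j ∈ Q ∧ ∀ g ∈ Q, g ^ 4 = 1 := by
  set m := i * i with hm
  have hmi : Commute m i := by
    rw [hm]; exact (Commute.refl i).mul_left (Commute.refl i)
  have hmj : Commute m j := by
    rw [h1]; exact (Commute.refl j).mul_left (Commute.refl j)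
  have hji1 : ∀ b : ℕ, j * i ^ b = m ^ b * i ^ b * j := by
    intro b
    induction b with
    | zero => simp
    | succ b ih =>
      have e1 : Commute (m ^ b) i := hmi.pow_left b
      calc j * i ^ (b + 1) = (j * i ^ b) * i := by rw [pow_succ, mul_assoc]
        _ = m ^ b * i ^ b * (j * i) := by rw [ih]; group
        _ = m ^ b * i ^ b * (m * i * j) := by rw [h3]
        _ = m ^ b * i ^ b * m * i * j := by group
        _ = m ^ b * m * i ^ b * i * j := by
            rw [mul_assoc (m ^ b), ((hmi.pow_right b).eq).symm, ← mul_assoc]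
        _ = m ^ (b + 1) * i ^ (b + 1) * j := by rw [pow_succ m, pow_succ i]; group
  have hji : ∀ c b : ℕ, j ^ c * i ^ b = m ^ (c * b) * i ^ b * j ^ c := by
    intro c b
    induction c with
    | zero => simp
    | succ c ih =>
      have e1 : Commute (m ^ b) (j ^ c) := (hmj.pow_left b).pow_right c
      have e2 : Commute (m ^ b) (m ^ (c * b)) := (Commute.refl m).pow_pow _ _
      calc j ^ (c + 1) * i ^ b = j ^ c * (j * i ^ b) := by rw [pow_succ]; group
        _ = j ^ c * (m ^ b * i ^ b * j) := by rw [hji1]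
        _ = (j ^ c * m ^ b) * i ^ b * j := by group
        _ = (m ^ b * j ^ c) * i ^ b * j := by rw [e1.eq]
        _ = m ^ b * (j ^ c * i ^ b) * j := by group
        _ = m ^ b * (m ^ (c * b) * i ^ b * j ^ c) * j := by rw [ih]
        _ = m ^ ((c + 1) * b) * i ^ b * j ^ (c + 1) := by
            rw [pow_succ j, add_mul, one_mul, add_comm (c * b), pow_add]
            group
  have hmul : ∀ a b c a' b' c' : ℕ, (m ^ a * i ^ b * j ^ c) * (m ^ a' * i ^ b' * j ^ c') =
      m ^ (a + a' + c * b') * i ^ (b + b') * j ^ (c + c') := by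
    intro a b c a' b' c'
    have e1 : Commute (j ^ c) (m ^ a') := ((hmj.pow_left a').pow_right c).symm
    have e2 : Commute (i ^ b) (m ^ a') := ((hmi.pow_left a').pow_right b).symm
    have e3 : Commute (i ^ b) (m ^ (c * b')) := ((hmi.pow_left _).pow_right b).symm
    calc (m ^ a * i ^ b * j ^ c) * (m ^ a' * i ^ b' * j ^ c')
        = m ^ a * i ^ b * (j ^ c * m ^ a') * i ^ b' * j ^ c' := by group
      _ = m ^ a * (i ^ b * m ^ a') * j ^ c * i ^ b' * j ^ c' := by rw [e1.eq]; group
      _ = m ^ a * m ^ a' * i ^ b * (j ^ c * i ^ b') * j ^ c' := by rw [e2.eq]; group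
      _ = m ^ a * m ^ a' * (i ^ b * m ^ (c * b')) * i ^ b' * j ^ c * j ^ c' := by rw [hji]; group
      _ = m ^ a * m ^ a' * m ^ (c * b') * i ^ b * i ^ b' * j ^ c * j ^ c' := by rw [e3.eq]; group
      _ = _ := by rw [pow_add, pow_add, pow_add, pow_add]; group
  have hpow2 : ∀ k : ℕ, i ^ (2 * k) = m ^ k := by
    intro k; rw [pow_mul, pow_two]
  have hpow2' : ∀ k : ℕ, j ^ (2 * k) = m ^ k := by
    intro k; rw [pow_mul, pow_two, ← h1]
  have hpow4 : ∀ a b c : ℕ, (m ^ a * i ^ b * j ^ c) ^ 4 = 1 := by
    intro a b c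
    have e1 : (m ^ a * i ^ b * j ^ c) ^ 2 = m ^ (a + a + c * b + b + c) := by
      rw [pow_two, hmul, ← two_mul b, ← two_mul c, hpow2, hpow2', ← pow_add, ← pow_add]
    have e2 : (m ^ a * i ^ b * j ^ c) ^ 4 = ((m ^ a * i ^ b * j ^ c) ^ 2) ^ 2 := by
      rw [← pow_mul]
    rw [e2, e1, ← pow_mul, mul_comm, pow_mul, pow_two m, h2, one_pow]
  let Q : Subgroup X :=
    { carrier := {g | ∃ a b c : ℕ, g = m ^ a * i ^ b * j ^ c}
      mul_mem' := by
        rintro _ _ ⟨a, b, c, rfl⟩ ⟨a', b', c', rfl⟩
        exact ⟨_, _, _, hmul a b c a' b' c'⟩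
      one_mem' := ⟨0, 0, 0, by simp⟩
      inv_mem' := by
        rintro _ ⟨a, b, c, rfl⟩
        have e : (m ^ a * i ^ b * j ^ c)⁻¹ = (m ^ a * i ^ b * j ^ c) * ((m ^ a * i ^ b * j ^ c) * (m ^ a * i ^ b * j ^ c)) := by
          rw [inv_eq_iff_mul_eq_one]
          have := hpow4 a b c
          rw [show (4 : ℕ) = 1 + 1 + 1 + 1 from rfl, pow_succ, pow_succ, pow_succ, pow_one] at this
          rw [← this]
          group
        rw [e, hmul, hmul]
        exact ⟨_, _, _, rfl⟩ }
  refine ⟨Q, ⟨0, 1, 0, by simp⟩, ⟨0, 0, 1, by simp⟩, ?_⟩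
  rintro g ⟨a, b, c, rfl⟩
  exact hpow4 a b c

end Quaternion

section SL2

open Matrix

theorem not_hy_SL2 (p : ℕ) [Fact p.Prime] (hp : p ≠ 2) : ¬ Hy p (SpecialLinearGroup (Fin 2) (ZMod p)) := by
  intro hy
  have hpp : p.Prime := Fact.out
  haveI : Fact (2 < p) := ⟨by have := hpp.two_le; omega⟩
  have hne : (-1 : ZMod p) ≠ 1 := ZMod.neg_one_ne_one
  obtain ⟨a, b, hab⟩ := ZMod.sq_add_sq p (-1)
  obtain ⟨i, hI⟩ : ∃ i : SpecialLinearGroup (Fin 2) (ZMod p),
      (i : Matrix (Fin 2) (Fin 2) (ZMod p)) = !![0, 1; -1, 0] :=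
    ⟨⟨!![0, 1; -1, 0], by simp [Matrix.det_fin_two]⟩, rfl⟩
  obtain ⟨j, hJ⟩ : ∃ j : SpecialLinearGroup (Fin 2) (ZMod p),
      (j : Matrix (Fin 2) (Fin 2) (ZMod p)) = !![a, b; b, -a] :=
    ⟨⟨!![a, b; b, -a], by
      simp only [Matrix.det_fin_two, Matrix.of_apply, Matrix.cons_val', Matrix.cons_val_zero, Matrix.cons_val_one,
        Matrix.cons_val_fin_one]
      linear_combination -hab⟩, rfl⟩
  have inj : ∀ x y : SpecialLinearGroup (Fin 2) (ZMod p),
      (x : Matrix (Fin 2) (Fin 2) (ZMod p)) = y → x = y := fun x y h => Subtype.ext h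
  have cm : ∀ x y : SpecialLinearGroup (Fin 2) (ZMod p),
      ((x * y : SpecialLinearGroup (Fin 2) (ZMod p)) : Matrix (Fin 2) (Fin 2) (ZMod p)) =
        (x : Matrix (Fin 2) (Fin 2) (ZMod p)) * (y : Matrix (Fin 2) (Fin 2) (ZMod p)) := fun x y => rfl
  have co : ((1 : SpecialLinearGroup (Fin 2) (ZMod p)) : Matrix (Fin 2) (Fin 2) (ZMod p)) = 1 := rfl
  have hii : ((i * i : SpecialLinearGroup (Fin 2) (ZMod p)) : Matrix (Fin 2) (Fin 2) (ZMod p)) = !![-1, 0; 0, -1] := by
    rw [cm, hI, Matrix.mul_fin_two]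
    simp
  have hjj : ((j * j : SpecialLinearGroup (Fin 2) (ZMod p)) : Matrix (Fin 2) (Fin 2) (ZMod p)) = !![-1, 0; 0, -1] := by
    rw [cm, hJ, Matrix.mul_fin_two]
    have e1 : a * a + b * b = -1 := by linear_combination hab
    have e2 : a * b + b * -a = 0 := by ring
    have e3 : b * a + -a * b = 0 := by ring
    have e4 : b * b + -a * -a = -1 := by linear_combination hab
    rw [e1, e2, e3, e4]
  have h1 : i * i = j * j := inj _ _ (hii.trans hjj.symm)
  have h2 : (i * i) * (i * i) = 1 := by
    apply inj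
    rw [cm, hii, Matrix.mul_fin_two, co, Matrix.one_fin_two]
    simp
  have h3 : j * i = (i * i) * i * j := by
    apply inj
    rw [cm, cm, cm, hii, hI, hJ, Matrix.mul_fin_two, Matrix.mul_fin_two, Matrix.mul_fin_two]
    simp
  obtain ⟨Q, hi, hj, hQ⟩ := exists_Q h1 h2 h3
  have hQp : IsPGroup 2 Q := by
    intro g
    refine ⟨2, ?_⟩
    apply Subtype.ext
    have := hQ g g.2
    simpa using this
  haveI : Fact (Nat.Prime 2) := ⟨Nat.prime_two⟩
  have hc : (Nat.card Q).Coprime p := by
    obtain ⟨k, hk⟩ := IsPGroup.iff_card.mp hQp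
    rw [hk]
    exact Nat.Coprime.pow_left k ((Nat.coprime_primes Nat.prime_two hpp).mpr (Ne.symm hp))
  have hcomm := (hy Q hc).1
  have h4 : (⟨i, hi⟩ : Q) * ⟨j, hj⟩ = ⟨j, hj⟩ * ⟨i, hi⟩ := hcomm.is_comm.comm _ _
  have h5 : i * j = j * i := by simpa using congrArg Subtype.val h4
  have h6 : i * j = (i * i) * (i * j) :=
    calc i * j = j * i := h5
      _ = (i * i) * i * j := h3
      _ = (i * i) * (i * j) := by group
  have h7 : i * i = 1 := by
    have e : (i * i) * (i * j) = 1 * (i * j) := by rw [one_mul]; exact h6.symm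
    exact mul_right_cancel e
  have h8 := hii
  rw [h7] at h8
  have h9 := congrFun (congrFun h8 0) 0
  simp at h9
  exact hne h9.symm

end SL2

section Main

variable {G : Type u} [Group G] [Finite G] {p : ℕ} [Fact p.Prime]

theorem hfree_of_hy (hp : p ≠ 2) (hy : Hy p G) : ¬ ∃ (H K : Subgroup G) (hK : (K.subgroupOf H).Normal),
    Nonempty ((H ⧸ K.subgroupOf H) ≃* Matrix.SpecialLinearGroup (Fin 2) (ZMod p)) := by
  rintro ⟨H, K, hK, ⟨e⟩⟩
  have h1 : Hy p H := hy.subgroup H
  have h2 := h1.of_surjective (e.toMonoidHom.comp (QuotientGroup.mk' _))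
    (e.surjective.comp (QuotientGroup.mk'_surjective _))
  exact not_hy_SL2 p hp h2

/-- A normal subgroup which together with the commutator subgroup generates a solvable group is the
whole group. -/
theorem eq_top_of_sup_commutator {X : Type*} [Group X] [Group.IsSolvable X] (R : Subgroup X) [R.Normal]
    (h : R ⊔ commutator X = ⊤) : R = ⊤ := by
  let π : X →* X ⧸ R := QuotientGroup.mk' R
  have hπ : Function.Surjective π := QuotientGroup.mk'_surjective R
  have hker : R.map π = ⊥ := by
    rw [eq_bot_iff]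
    rintro _ ⟨a, ha, rfl⟩
    exact (QuotientGroup.eq_one_iff a).2 ha
  have h1 : commutator (X ⧸ R) = ⊤ := by
    have h2 := congrArg (Subgroup.map π) h
    rw [Subgroup.map_sup, hker, bot_sup_eq, Subgroup.map_top_of_surjective _ hπ] at h2
    rw [← h2]
    apply le_antisymm
    · rw [h2]; exact le_top
    · rw [_root_.commutator_def, _root_.commutator_def, Subgroup.map_commutator,
        Subgroup.map_top_of_surjective _ hπ]
  have h3 : Subsingleton (X ⧸ R) := by
    by_contra hcon
    haveI : Nontrivial (X ⧸ R) := not_subsingleton_iff_nontrivial.mp hcon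
    have := Group.IsSolvable.commutator_lt_top_of_nontrivial (X ⧸ R)
    rw [h1] at this
    exact lt_irrefl _ this
  rw [eq_top_iff]
  intro x _
  have h4 : π x = 1 := Subsingleton.elim _ _
  exact (QuotientGroup.eq_one_iff x).1 h4

/-- The reduction: no simple nonabelian group all of whose proper subgroups are solvable satisfies
the hypothesis. -/
theorem no_simple (hp : p ≠ 2) (hy : Hy p G) (hs : IsSimpleGroup G) (hnc : ¬ ∀ a b : G, a * b = b * a)
    (hsolv : ∀ H : Subgroup G, H ≠ ⊤ → Group.IsSolvable H) : False := by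
  classical
  obtain ⟨P⟩ : Nonempty (Sylow p G) := inferInstance
  have hpp : p.Prime := Fact.out
  have hP : (P : Subgroup G) ≠ ⊥ := by
    intro h
    have h1 : ¬ p ∣ Nat.card G := fun hd => P.ne_bot_of_dvd_card hd h
    have h2 : (Nat.card (⊤ : Subgroup G)).Coprime p := by
      rw [Subgroup.card_top]
      exact ((Nat.Prime.coprime_iff_not_dvd hpp).mpr h1).symm
    obtain ⟨h3, -⟩ := hy ⊤ h2
    apply hnc
    intro a b
    have := h3.is_comm.comm ⟨a, mem_top a⟩ ⟨b, mem_top b⟩
    simpa using congrArg Subtype.val this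
  have hcomm : commutator G = ⊤ := by
    rcases hs.eq_bot_or_eq_top_of_normal (commutator G) inferInstance with h | h
    · exfalso
      apply hnc
      intro a b
      have h1 : ⁅a, b⁆ ∈ commutator G := by
        rw [_root_.commutator_def]
        exact commutator_mem_commutator (mem_top a) (mem_top b)
      rw [h, mem_bot] at h1
      exact commutatorElement_eq_one_iff_mul_comm.mp h1
    · exact h
  set W : Subgroup G := Cfsg.centerThompsonOf p (P : Subgroup G) with hW
  have hWne : W ≠ ⊥ := Cfsg.Agent.S0118.ZT_ne_bot P.2 hP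
  have hWP : W ≤ (P : Subgroup G) := Cfsg.Agent.S0118.ZT_le _
  set X : Subgroup G := normalizer (W : Set G) with hX
  have hPX : (P : Subgroup G) ≤ X := fun g hg =>
    Cfsg.Agent.S0118.mem_NN_ZT_of_NN (show g ∈ normalizer ((P : Subgroup G) : Set G) from le_normalizer hg)
  have hXne : X ≠ ⊤ := by
    intro h
    have h1 : W.Normal := normalizer_eq_top_iff.mp h
    rcases hs.eq_bot_or_eq_top_of_normal W h1 with h2 | h2
    · exact hWne h2
    · haveI : Nontrivial G := hs.toNontrivial
      have h3 : IsPGroup p G := by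
        have h4 : IsPGroup p W := P.2.to_le hWP
        rw [h2] at h4
        exact IsPGroup.of_equiv h4 Subgroup.topEquiv
      haveI := h3.center_nontrivial
      have h5 : center G ≠ ⊥ := (Subgroup.nontrivial_iff_ne_bot _).mp this
      rcases hs.eq_bot_or_eq_top_of_normal (center G) inferInstance with h6 | h6
      · exact h5 h6
      · apply hnc
        intro a b
        have : a ∈ center G := by rw [h6]; trivial
        exact (Subgroup.mem_center_iff.mp this b).symm
  haveI hXs : Group.IsSolvable X := hsolv X hXne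
  have hctrl : ∀ R : Set G, R ⊆ (P : Subgroup G) → ∀ g : G, (∀ r ∈ R, g⁻¹ * r * g ∈ (P : Subgroup G)) →
      ∃ n ∈ X, ∀ r ∈ R, n⁻¹ * r * n = g⁻¹ * r * g := by
    intro R hR g hg
    exact Cfsg.Agent.S0118.result hp (hfree_of_hy hp hy) P R hR g (by
      rintro _ ⟨r, hr, rfl⟩
      exact hg r hr)
  have hPcomm : (P : Subgroup G) ≤ ⁅X, X⁆ := by
    have h1 := Cfsg.Agent.Lib.TransferEval.commutator_inf_le_of_control P X hPX (by
      intro x hx g hg
      obtain ⟨n, hn, hn2⟩ := hctrl {x} (Set.singleton_subset_iff.mpr hx) g (by rintro r rfl; exact hg)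
      exact ⟨n, hn, hn2 x rfl⟩)
    rwa [hcomm, top_inf_eq] at h1
  have hRnorm : ((resOf p X).subgroupOf X).Normal := by
    refine ⟨fun n hn g => ?_⟩
    rw [mem_subgroupOf] at hn ⊢
    exact conj_mem_of_mem_normalizer (le_normalizer_resOf X g.2) hn
  -- `X` is generated by its regular elements
  have hXR : X ≤ (P : Subgroup G) ⊔ resOf p X := by
    apply le_sylow_sup_resOf X _ hPX
    have h1 : (P : Subgroup G).relIndex X * X.index = (P : Subgroup G).index := Subgroup.relIndex_mul_index hPX
    have h2 : ¬ p ∣ (P : Subgroup G).index := P.not_dvd_index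
    have h3 : ¬ p ∣ (P : Subgroup G).relIndex X := fun hd => h2 (by rw [← h1]; exact Dvd.dvd.mul_right hd _)
    exact ((Nat.Prime.coprime_iff_not_dvd hpp).mpr h3).symm
  have htop : (resOf p X).subgroupOf X = ⊤ := by
    apply eq_top_of_sup_commutator
    rw [eq_top_iff]
    intro x _
    have h2 : (x : G) ∈ ⁅X, X⁆ ⊔ resOf p X := (sup_le_sup_right hPcomm _) (hXR x.2)
    have h3 : ((resOf p X).subgroupOf X ⊔ commutator X).map X.subtype = ⁅X, X⁆ ⊔ resOf p X := by
      rw [Subgroup.map_sup, Subgroup.map_subtype_commutator, Subgroup.subgroupOf_map_subtype, sup_comm,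
        inf_eq_left.mpr (resOf_le X)]
    rw [← h3] at h2
    exact (Subgroup.mem_map_iff_mem X.subtype_injective).1 h2
  have hXle : X ≤ resOf p X := by
    intro x hx
    have : (⟨x, hx⟩ : X) ∈ (resOf p X).subgroupOf X := by rw [htop]; trivial
    exact this
  obtain ⟨S₀, hS₀⟩ := exists_core hy X hXs
  have hPS₀ : (P : Subgroup G) ≤ S₀ := fun u hu => hS₀.mem u (hXle (hPX hu)) (pelt_of_mem P.2 hu)
  have hS₀P : S₀ = (P : Subgroup G) := P.3 hS₀.isP hPS₀
  have hXN : X ≤ normalizer ((P : Subgroup G) : Set G) := by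
    have := hS₀.le_normalizer
    rwa [hS₀P] at this
  -- the complement
  set M : Subgroup G := normalizer ((P : Subgroup G) : Set G) with hM
  have hPM : (P : Subgroup G) ≤ M := le_normalizer
  have hnorm : ((P : Subgroup G).subgroupOf M).Normal :=
    (Subgroup.normal_subgroupOf_iff_le_normalizer hPM).2 le_rfl
  have hidx : ((P : Subgroup G).subgroupOf M).index.Coprime p := by
    have h1 : (P : Subgroup G).relIndex M * M.index = (P : Subgroup G).index := Subgroup.relIndex_mul_index hPM
    have h2 : ¬ p ∣ (P : Subgroup G).index := P.not_dvd_index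
    have h3 : ¬ p ∣ (P : Subgroup G).relIndex M := fun hd => h2 (by rw [← h1]; exact Dvd.dvd.mul_right hd _)
    exact ((Nat.Prime.coprime_iff_not_dvd hpp).mpr h3).symm
  have hcard : Nat.card ((P : Subgroup G).subgroupOf M) = Nat.card (P : Subgroup G) := card_subgroupOf_of_le hPM
  have hcop : (Nat.card ((P : Subgroup G).subgroupOf M)).Coprime ((P : Subgroup G).subgroupOf M).index := by
    rw [hcard]
    obtain ⟨n, hn⟩ := IsPGroup.iff_card.mp P.2
    rw [hn]
    exact Nat.Coprime.pow_left n hidx.symm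
  obtain ⟨B, hB⟩ := Subgroup.exists_right_complement'_of_coprime hcop
  have hBc : (Nat.card (B.map M.subtype)).Coprime p := by
    rw [Subgroup.card_map_of_injective M.subtype_injective]
    have := hB.symm.index_eq_card
    rw [← this]
    exact hidx
  have hSup : B.map M.subtype ⊔ (P : Subgroup G) = M := by
    apply le_antisymm
    · exact sup_le (Subgroup.map_subtype_le B) hPM
    · intro x hx
      have h1 : (⟨x, hx⟩ : M) ∈ B ⊔ (P : Subgroup G).subgroupOf M := by
        rw [sup_comm, hB.sup_eq_top]; trivial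
      obtain ⟨b, hb, s, hs, hbs⟩ := mem_sup_of_le_normalizer (le_normalizer_of_normal hnorm B) h1
      have h2 : x = (b : G) * (s : G) := by
        have := congrArg Subtype.val hbs
        simpa using this
      rw [h2]
      exact mul_mem (mem_sup_left ⟨b, hb, rfl⟩) (mem_sup_right hs)
  have S : Setup p P (B.map M.subtype) :=
    { hy := hy
      simple := hs
      noncomm := hnc
      solv := hsolv
      ctrl := by
        intro R hR g hg
        obtain ⟨n, hn, hn2⟩ := hctrl R hR g hg
        exact ⟨n, hXN hn, hn2⟩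
      hA_cop := hBc
      hA_sup := hSup
      hP := hP }
  exact S.false

end Main

/-- **Groups in which all `p'`-subgroups are abelian of exponent dividing `p - 1` are solvable.** -/
theorem solvable_of_hy (p : ℕ) [Fact p.Prime] : ∀ (n : ℕ) (G : Type u) [Group G] [Finite G], Nat.card G = n →
    Hy p G → Group.IsSolvable G := by
  intro n
  induction n using Nat.strong_induction_on with
  | _ n ih =>
  intro G _ _ hn hy
  have hpp : p.Prime := Fact.out
  by_cases hp : p = 2
  · subst hp
    have h1 : IsPGroup 2 G := by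
      intro x
      obtain ⟨s, t, e, hc, ⟨k, hk⟩, hr, hs, ht⟩ := exists_decomp (p := 2) x
      have h2 := (hy (zpowers t) hr.card_zpowers).2 t (mem_zpowers t)
      have h3 : t = 1 := by simpa using h2
      refine ⟨k, ?_⟩
      rw [e, h3, mul_one]
      exact hk
    haveI := h1.isNilpotent
    infer_instance
  by_cases hab : ∀ a b : G, a * b = b * a
  · exact Group.isSolvable_of_comm hab
  by_cases hs : IsSimpleGroup G
  · exfalso
    refine no_simple hp hy hs hab ?_
    intro H hH
    have hlt : Nat.card H < n := by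
      rw [← hn]
      have h1 := Subgroup.card_le_card_group H
      have h2 : Nat.card H ≠ Nat.card G := fun h3 => hH (Subgroup.eq_top_of_card_eq H h3)
      omega
    exact ih _ hlt H rfl (hy.subgroup H)
  · -- a proper nontrivial normal subgroup
    have hnt : Nontrivial G := by
      by_contra hcon
      haveI : Subsingleton G := not_nontrivial_iff_subsingleton.mp hcon
      exact hab (fun a b => Subsingleton.elim _ _)
    have : ∃ N : Subgroup G, N.Normal ∧ N ≠ ⊥ ∧ N ≠ ⊤ := by
      by_contra hcon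
      push Not at hcon
      apply hs
      refine ⟨fun N hN => ?_⟩
      by_cases h : N = ⊥
      · exact Or.inl h
      · exact Or.inr (hcon N hN h)
    obtain ⟨N, hN, hN1, hN2⟩ := this
    have h1 : Group.IsSolvable N := by
      have hlt : Nat.card N < n := by
        rw [← hn]
        have h1 := Subgroup.card_le_card_group N
        have h2 : Nat.card N ≠ Nat.card G := fun h3 => hN2 (Subgroup.eq_top_of_card_eq N h3)
        omega
      exact ih _ hlt N rfl (hy.subgroup N)
    have h2 : Group.IsSolvable (G ⧸ N) := by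
      have hlt : Nat.card (G ⧸ N) < n := by
        rw [← hn]
        have h3 := Subgroup.card_eq_card_quotient_mul_card_subgroup N
        have h4 : 1 < Nat.card N := by
          rw [Subgroup.one_lt_card_iff_ne_bot]
          exact hN1
        have h5 : 0 < Nat.card (G ⧸ N) := Nat.card_pos
        rw [h3]
        nlinarith
      exact ih _ hlt (G ⧸ N) rfl (hy.of_surjective (QuotientGroup.mk' N) (QuotientGroup.mk'_surjective N))
    exact Group.isSolvable_of_ker_le_range N.subtype (QuotientGroup.mk' N) (by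
      rw [QuotientGroup.ker_mk', Subgroup.range_subtype])

end Cfsg.Agent.Lib.PAbD
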