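import Mathlib
import Cfsg.Agent.Lib.PDegKernel71

/-!
# Kernels of the irreducible characters of degree prime to `p`, continued

The normal core of `N P'` lies in these kernels; the elements of a Sylow subgroup in the kernels
are in `P'`; the centralized `p'`-elements in the kernels are trivial.
-/

set_option autoImplicit false
set_option linter.style.haveILetI false
set_option linter.unusedVariables false
set_option linter.unusedSectionVars false

namespace Cfsg.Agent.Lib.PDegKernel71

open Cfsg Cfsg.Agent.Lib.CharBasic Cfsg.Agent.Lib.CharInd Cfsg.Agent.Lib.CharKernel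
open Cfsg.Agent.Lib.CharDecomp Cfsg.Agent.Lib.CharNormal Cfsg.Agent.Lib.CharAut
open Cfsg.Agent.Lib.CharAutP Cfsg.Agent.Lib.CharCentral Cfsg.Agent.Lib.CharTable
open scoped ComplexConjugate commutatorElement

universe u

section Core

theorem isIntegral_natCast_71 {n : ℕ} : IsIntegral ℤ (n : ℂ) := by
  exact_mod_cast (isIntegral_algebraMap (R := ℤ) (A := ℂ) (x := (n : ℤ)))

variable {G : Type u} [Group G] [Finite G]

/-- A linear character vanishes on nothing and is trivial on the derived subgroup: the elements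
of `P'` as elements of `P`. -/
theorem exists_hom_eq_one_of_mem_commutator (P : Subgroup G) (D : P →* ℂˣ) {u : G}
    (hu : u ∈ ⁅P, P⁆) : ∃ hP : u ∈ P, D ⟨u, hP⟩ = 1 := by
  have hle : ⁅P, P⁆ ≤ (D.ker).map P.subtype := by
    rw [Subgroup.commutator_le]
    intro a ha b hb
    refine ⟨⁅(⟨a, ha⟩ : P), (⟨b, hb⟩ : P)⁆, ?_, rfl⟩
    rw [SetLike.mem_coe, MonoidHom.mem_ker, map_commutatorElement, commutatorElement_def]
    simp [mul_comm]
  obtain ⟨v, hv, rfl⟩ := hle hu
  exact ⟨v.2, hv⟩

/-- A character with a linear constituent on `P` has the trivial character as constituent on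
`P'`. -/
theorem sum_commutator_ne_zero (p : ℕ) [hp : Fact p.Prime] (P : Subgroup G) (hP : IsPGroup p P)
    (χ : IrrCharacter G) (hχ : ¬ p ∣ charDegree (χ : G → ℂ))
    [Fintype (⁅P, P⁆ : Subgroup G)] :
    ∑ u : (⁅P, P⁆ : Subgroup G), (χ : G → ℂ) u ≠ 0 := by
  letI : Fintype P := Fintype.ofFinite _
  have hχc := IsIrrCharacter.isCharacter χ.2
  let R : P → ℂ := fun n => (χ : G → ℂ) n
  have hR : IsCharacter P R := isCharacter_restrict _ hχc
  have hdeg : charDegree R = charDegree (χ : G → ℂ) := by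
    unfold charDegree
    simp [R]
  obtain ⟨ξ, hξ, hξp⟩ := exists_pprime_constituent p hR (by rwa [hdeg])
  have hξ1 : (ξ : P → ℂ) 1 = 1 := by
    rcases pGroup_degree_one_or_dvd hP ξ.2 with h | h
    · rw [one_eq_charDegree (IsIrrCharacter.isCharacter ξ.2), h]; simp
    · exact absurd h hξp
  obtain ⟨D, hD⟩ := exists_hom_of_degree_one (IsIrrCharacter.isCharacter ξ.2) hξ1
  obtain ⟨ψ', hψ', hRe⟩ := exists_char_add hR ξ.2 hξ
  set Q : Subgroup G := ⁅P, P⁆ with hQ
  have hQP : Q ≤ P := by
    rw [hQ, Subgroup.commutator_le]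
    intro a ha b hb
    rw [commutatorElement_def]
    exact P.mul_mem (P.mul_mem (P.mul_mem ha hb) (P.inv_mem ha)) (P.inv_mem hb)
  let inc : Q →* P := Subgroup.inclusion hQP
  let S : Q → ℂ := ψ' ∘ inc
  have hS : IsCharacter Q S := isCharacter_comp inc hψ'
  obtain ⟨n, hn⟩ := classInner_char_irr hS (isIrrCharacter_one (G := Q))
  have hval : ∀ u : Q, (χ : G → ℂ) u = 1 + S u := by
    intro u
    have h1 : R (inc u) = (ξ : P → ℂ) (inc u) + ψ' (inc u) := by
      rw [hRe]; rfl
    have h2 : (ξ : P → ℂ) (inc u) = 1 := by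
      obtain ⟨hP', h3⟩ := exists_hom_eq_one_of_mem_commutator P D u.2
      rw [hD]
      have h4 : inc u = ⟨u, hP'⟩ := rfl
      rw [h4, h3]
      simp
    rw [h2] at h1
    exact h1
  have hsum : ∑ u : Q, (χ : G → ℂ) u = (Nat.card Q : ℂ) * (1 + n) := by
    have h5 : ∑ u : Q, S u = (Nat.card Q : ℂ) * n := by
      rw [← hn]
      unfold classInner
      have hc : (Nat.card Q : ℂ) ≠ 0 := by exact_mod_cast Nat.card_pos.ne'
      rw [mul_inv_cancel_left₀ hc]
      simp
    rw [Finset.sum_congr rfl fun u _ => hval u, Finset.sum_add_distrib, h5]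
    simp [Nat.card_eq_fintype_card]
    ring
  have hc : (Nat.card Q : ℂ) ≠ 0 := by exact_mod_cast Nat.card_pos.ne'
  have hne : (Nat.card Q : ℂ) * (1 + n) ≠ 0 := by
    refine mul_ne_zero hc ?_
    have : ((1 + n : ℕ) : ℂ) ≠ 0 := by exact_mod_cast (by omega : 1 + n ≠ 0)
    simpa using this
  intro h0
  exact hne (hsum.symm.trans (by convert h0))

/-- **The normal core of `N P'` lies in the kernel of each character of degree prime to `p`.** -/
theorem core_le_ker (p : ℕ) [hp : Fact p.Prime] (P : Sylow p G) (N : Subgroup G) [N.Normal]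
    (hN : N ⊓ Subgroup.centralizer ((P : Subgroup G) : Set G) = ⊥)
    (χ : IrrCharacter G) (hχ : ¬ p ∣ charDegree (χ : G → ℂ)) {x : G}
    (hx : x ∈ (N ⊔ ⁅(P : Subgroup G), (P : Subgroup G)⁆).normalCore) :
    (χ : G → ℂ) x = (χ : G → ℂ) 1 := by
  classical
  letI : Fintype G := Fintype.ofFinite G
  set Q : Subgroup G := ⁅(P : Subgroup G), (P : Subgroup G)⁆ with hQ
  set L : Subgroup G := (N ⊔ Q).normalCore with hL
  letI : Fintype Q := Fintype.ofFinite _
  letI : Fintype L := Fintype.ofFinite _
  have hsumQ := sum_commutator_ne_zero p (P : Subgroup G) P.isPGroup' χ hχ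
  have hNker := fun y (hy : y ∈ N) => normal_le_ker p P N hN χ hχ hy
  obtain ⟨χ₀, hχ₀⟩ := χ
  obtain ⟨n, ρ, hρ, rfl⟩ := id hχ₀
  -- a nonzero vector fixed by `Q`
  let e : Module.End ℂ (Fin n → ℂ) := ∑ u : Q, ρ (u : G)
  have he0 : e ≠ 0 := by
    intro h0
    apply hsumQ
    have : LinearMap.trace ℂ (Fin n → ℂ) e = ∑ u : Q, ρ.character (u : G) := by
      simp only [e, map_sum]
      rfl
    rw [← this, h0, map_zero]
  obtain ⟨w, hw⟩ : ∃ w, e w ≠ 0 := by
    by_contra hcon
    push Not at hcon
    exact he0 (LinearMap.ext hcon)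
  have hQfix : ∀ q ∈ Q, ρ q (e w) = e w := by
    intro q hq
    simp only [e, LinearMap.sum_apply, map_sum]
    rw [← Equiv.sum_comp (Equiv.mulLeft (⟨q, hq⟩ : Q)) (fun u : Q => ρ (u : G) w)]
    refine Finset.sum_congr rfl fun u _ => ?_
    simp [map_mul]
  have hNfix : ∀ y ∈ N, ρ y (e w) = e w := by
    intro y hy
    have h1 := (charKer_iff_rep ρ).mp (hNker y hy)
    rw [h1]; rfl
  let St : Subgroup G :=
    { carrier := {g | ρ g (e w) = e w}
      mul_mem' := by
        intro a b ha hb
        simp only [Set.mem_setOf_eq] at ha hb ⊢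
        rw [map_mul, Module.End.mul_apply, hb, ha]
      one_mem' := by simp
      inv_mem' := by
        intro a ha
        simp only [Set.mem_setOf_eq] at ha ⊢
        nth_rewrite 1 [← ha]
        rw [← Module.End.mul_apply, ← map_mul]
        simp }
  have hSt : N ⊔ Q ≤ St := sup_le hNfix hQfix
  have hLfix : ∀ y ∈ L, ρ y (e w) = e w := fun y hy => hSt (Subgroup.normalCore_le _ hy)
  have hid : ρ x = LinearMap.id := by
    by_contra hne
    have h0 := sum_normal_eq_zero hρ L ⟨x, hx, hne⟩
    have h1 := congrArg (fun T : Module.End ℂ (Fin n → ℂ) => T (e w)) h0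
    simp only [LinearMap.sum_apply, LinearMap.zero_apply] at h1
    rw [Finset.sum_congr rfl fun (u : L) _ => hLfix u u.2, Finset.sum_const, smul_eq_zero] at h1
    rcases h1 with h1 | h1
    · simp at h1
    · exact hw h1
  exact (charKer_iff_rep ρ).mpr hid

/-- **An element of a Sylow subgroup in all kernels lies in its derived subgroup.** -/
theorem mem_commutator_of_ker (p : ℕ) [hp : Fact p.Prime] (P : Sylow p G) {y : G}
    (hyP : y ∈ (P : Subgroup G))
    (hy : ∀ χ : IrrCharacter G, ¬ p ∣ charDegree (χ : G → ℂ) → (χ : G → ℂ) y = (χ : G → ℂ) 1) :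
    y ∈ ⁅(P : Subgroup G), (P : Subgroup G)⁆ := by
  classical
  letI : Fintype G := Fintype.ofFinite G
  letI : Fintype (P : Subgroup G) := Fintype.ofFinite _
  let y' : (P : Subgroup G) := ⟨y, hyP⟩
  by_contra hne
  have ha : Abelianization.of y' ≠ 1 := by
    intro h1
    have h2 : y' ∈ (Abelianization.of (G := (P : Subgroup G))).ker := h1
    rw [Abelianization.ker_of] at h2
    apply hne
    rw [← Subgroup.map_subtype_commutator]
    exact ⟨y', h2, rfl⟩
  obtain ⟨φ, hφ⟩ := CommGroup.exists_apply_ne_one_of_hasEnoughRootsOfUnity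
    (Abelianization (P : Subgroup G)) ℂ ha
  let D : (P : Subgroup G) →* ℂˣ := φ.comp Abelianization.of
  let lam : ↥(P : Subgroup G) → ℂ := fun u => ((D u : ℂˣ) : ℂ)
  have hlam : IsIrrCharacter (P : Subgroup G) lam := isIrrCharacter_of_hom D
  have hlamc := IsIrrCharacter.isCharacter hlam
  have hτ : IsCharacter G (indFun (P : Subgroup G) lam) := indFun_isCharacter _ hlamc
  have hdeg : charDegree (indFun (P : Subgroup G) lam) = (P : Subgroup G).index := by
    have h1 := one_eq_charDegree hτ
    rw [indFun_one] at h1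
    have h2 : lam 1 = 1 := by simp [lam]
    rw [h2, mul_one] at h1
    exact_mod_cast h1.symm
  obtain ⟨χ, hχ, hχp⟩ := exists_pprime_constituent p hτ (by
    rw [hdeg]; exact P.not_dvd_index)
  have hχc := IsIrrCharacter.isCharacter χ.2
  rw [CharInd.frobenius _ _ (isClassFunction_of_isCharacter hχc)] at hχ
  have hχ' : classInner (fun h : ↥(P : Subgroup G) => (χ : G → ℂ) h) lam ≠ 0 := by
    rw [← classInner_conj_symm]
    simpa using hχ
  have h1 := ker_of_constituent (y := y') (isCharacter_restrict _ hχc) hlam hχ' (hy χ hχp)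
  apply hφ
  have h2 : ((D y' : ℂˣ) : ℂ) = 1 := by
    have h3 : lam 1 = 1 := by simp [lam]
    rw [← h3]
    exact h1
  exact Units.ext h2

/-- **A centralized element of order prime to `p` in all kernels is trivial.** -/
theorem eq_one_of_centralizing (p : ℕ) [hp : Fact p.Prime] (P : Sylow p G) {w : G}
    (hwC : w ∈ Subgroup.centralizer ((P : Subgroup G) : Set G)) (hwo : ¬ p ∣ orderOf w)
    (hw : ∀ χ : IrrCharacter G, ¬ p ∣ charDegree (χ : G → ℂ) → (χ : G → ℂ) w = (χ : G → ℂ) 1) :
    w = 1 := by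
  classical
  letI : Fintype G := Fintype.ofFinite G
  letI : Fintype (P : Subgroup G) := Fintype.ofFinite _
  by_contra hne
  let one' : ↥(P : Subgroup G) → ℂ := fun _ => 1
  have hτ : IsCharacter G (indFun (P : Subgroup G) one') := indFun_isCharacter _ isCharacter_one
  obtain ⟨m, hm⟩ := exists_nat_decomp hτ
  have hval : ∀ g, indFun (P : Subgroup G) one' g = ∑ i, (m i : ℂ) * (i : G → ℂ) g := by
    intro g
    rw [hm, Finset.sum_apply]
    refine Finset.sum_congr rfl fun i _ => ?_
    simp
  have h0 : indFun (P : Subgroup G) one' w = 0 := by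
    apply indFun_eq_zero_of_not_conj
    intro x hx
    have h1 : IsPGroup p (P : Subgroup G) := P.isPGroup'
    obtain ⟨k, hk⟩ := (IsPGroup.iff_orderOf.mp h1) ⟨_, hx⟩
    have h2 : orderOf (x⁻¹ * w * x) = p ^ k := by
      rw [← hk]
      exact (Subgroup.orderOf_mk _ _).symm
    have h3 : orderOf w = p ^ k := by
      rw [← h2]
      have h4 : x⁻¹ * w * x = MulAut.conj x⁻¹ w := by simp [MulAut.conj_apply]
      rw [h4]
      exact (MulEquiv.orderOf_eq _ _).symm
    rcases Nat.eq_zero_or_pos k with rfl | hk0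
    · apply hne
      rw [pow_zero] at h3
      exact orderOf_eq_one_iff.mp h3
    · exact hwo (h3 ▸ dvd_pow_self p hk0.ne')
  have h1 : indFun (P : Subgroup G) one' 1 = ((P : Subgroup G).index : ℂ) := by
    rw [indFun_one]
    simp [one']
  let c : ℕ := (Subgroup.centralizer ({w} : Set G)).index
  have hPle : (P : Subgroup G) ≤ Subgroup.centralizer ({w} : Set G) := by
    intro a ha
    rw [Subgroup.mem_centralizer_singleton_iff]
    rw [Subgroup.mem_centralizer_iff] at hwC
    exact hwC a ha
  have hcdvd : c ∣ (P : Subgroup G).index := Subgroup.index_dvd_of_le hPle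
  have hcp : ¬ p ∣ c := fun h => P.not_dvd_index (h.trans hcdvd)
  have hidx : ¬ p ∣ (P : Subgroup G).index := P.not_dvd_index
  have hpC : (p : ℂ) ≠ 0 := by exact_mod_cast hp.out.ne_zero
  -- the identity
  have hid : (((c * (P : Subgroup G).index : ℕ) : ℂ)) / (p : ℂ) =
      ∑ i : IrrCharacter G, (m i : ℂ) * (((c : ℂ) * (i : G → ℂ) 1 - (c : ℂ) * (i : G → ℂ) w) / p) := by
    have h2 : ((P : Subgroup G).index : ℂ) = ∑ i : IrrCharacter G, (m i : ℂ) * ((i : G → ℂ) 1 - (i : G → ℂ) w) := by
      simp only [mul_sub, Finset.sum_sub_distrib]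
      rw [← hval, ← hval, h0, h1, sub_zero]
    push_cast
    rw [h2, Finset.mul_sum, Finset.sum_div]
    refine Finset.sum_congr rfl fun i _ => ?_
    ring
  have hint : IsIntegral ℤ (((c * (P : Subgroup G).index : ℕ) : ℂ) / (p : ℂ)) := by
    rw [hid]
    refine IsIntegral.sum _ fun i _ => ?_
    refine IsIntegral.mul isIntegral_natCast_71 ?_
    by_cases hi : p ∣ charDegree (i : G → ℂ)
    · obtain ⟨d, hd⟩ := hi
      obtain ⟨θ, hθ⟩ := i
      obtain ⟨n, ρ, hρ, rfl⟩ := id hθ
      have h3 := Cfsg.Agent.Lib.CharIntegrality.isIntegral_index_mul_character_div ρ hρ w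
      simp only [Module.finrank_fin_fun] at h3
      have hn : n = p * d := by
        have : charDegree ρ.character = n := by
          have h4 := one_eq_charDegree (⟨n, ρ, rfl⟩ : IsCharacter G ρ.character)
          rw [char_one_eq_rep] at h4
          exact_mod_cast h4.symm
        rw [← this]; exact hd
      have hnC : (n : ℂ) = (p : ℂ) * d := by rw [hn]; push_cast; rfl
      have hd0 : (d : ℂ) ≠ 0 := by
        intro h
        have h5 : d = 0 := by exact_mod_cast h
        have h6 : charDegree ρ.character ≠ 0 := charDegree_ne_zero hθ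
        rw [hd, h5] at h6
        simp at h6
      have h4 : ((c : ℂ) * ρ.character 1 - (c : ℂ) * ρ.character w) / (p : ℂ) =
          (c : ℂ) * d - (d : ℂ) * ((c : ℂ) * ρ.character w / (n : ℂ)) := by
        rw [char_one_eq_rep, hnC]
        field_simp
      show IsIntegral ℤ (((c : ℂ) * ρ.character 1 - (c : ℂ) * ρ.character w) / (p : ℂ))
      rw [h4]
      exact IsIntegral.sub (IsIntegral.mul isIntegral_natCast_71 isIntegral_natCast_71)
        (IsIntegral.mul isIntegral_natCast_71 h3)
    · rw [hw i hi]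
      simp [isIntegral_zero]
  have hdvd := Cfsg.Agent.Lib.CharIntegrality.dvd_of_isIntegral_div hp.out.ne_zero hint
  rcases hp.out.dvd_mul.mp hdvd with h | h
  · exact hcp h
  · exact hidx h

end Core

end Cfsg.Agent.Lib.PDegKernel71
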