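import Mathlib
import Cfsg.Agent.Lib.PDegKernel71b

/-!
# Kernels of the irreducible characters of degree prime to `p`, conclusion

A normal subgroup in all the kernels with no nontrivial linear character of `p`-power order has
order prime to `p`; the intersection of the kernels is the normal core of `N P'`.
-/

set_option autoImplicit false
set_option linter.style.haveILetI false
set_option linter.unusedVariables false
set_option linter.unusedSectionVars false

namespace Cfsg.Agent.Lib.PDegKernel71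

open Cfsg Cfsg.Agent.Lib.CharBasic Cfsg.Agent.Lib.CharInd Cfsg.Agent.Lib.CharKernel
open Cfsg.Agent.Lib.CharDecomp Cfsg.Agent.Lib.CharNormal Cfsg.Agent.Lib.CharAut
open Cfsg.Agent.Lib.CharAutP Cfsg.Agent.Lib.CharCentral Cfsg.Agent.Lib.CharTable
open Cfsg.Agent.Lib.DetChar Cfsg.Agent.Lib.DetExt Cfsg.Agent.Lib.LinearExt
open scoped ComplexConjugate commutatorElement

universe u

section Coprime

variable {G : Type u} [Group G] [Finite G]

theorem charDegree_irrAut {K : Type u} [Group K] [Finite K] (f : MulAut K) (θ : IrrCharacter K) :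
    charDegree (irrAut f θ : K → ℂ) = charDegree (θ : K → ℂ) := by
  unfold charDegree
  rw [irrAut_apply, map_one]

theorem charDegree_oneIrr {K : Type u} [Group K] [Finite K] :
    charDegree (oneIrr71 K : K → ℂ) = 1 := by
  simp [charDegree, oneIrr71]

/-- A `p`-group acting on the characters of a group of order divisible by `p` fixes a nontrivial
character of degree prime to `p`. -/
theorem exists_fixed_irr (p : ℕ) [hp : Fact p.Prime] {P W : Subgroup G} [W.Normal]
    (hP : IsPGroup p P) (hW : p ∣ Nat.card W) :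
    ∃ ζ : IrrCharacter W, (∀ a : P, irrAut (conjHom P W a) ζ = ζ) ∧ ζ ≠ oneIrr71 W ∧
      ¬ p ∣ charDegree (ζ : W → ℂ) := by
  classical
  letI : Fintype {z : IrrCharacter W // ∀ g : P, irrAut (conjHom P W g) z = z} :=
    Fintype.ofFinite _
  by_contra hcon
  push Not at hcon
  have h := sum_eq_sum_fixed (A := P) (S := ZMod p) p hP (ZMod.natCast_self p)
    (fun g θ => irrAut (conjHom P W g) θ)
    (fun z => by simp [irrAut_one]) (fun g h z => by simp [irrAut_mul])
    (fun θ => ((charDegree (θ : W → ℂ) ^ 2 : ℕ) : ZMod p))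
    (fun g θ => by simp only [charDegree_irrAut])
  have hL : ∑ θ : IrrCharacter W, ((charDegree (θ : W → ℂ) ^ 2 : ℕ) : ZMod p) = 0 := by
    rw [← Nat.cast_sum, sum_charDegree_sq]
    exact (ZMod.natCast_eq_zero_iff _ _).mpr hW
  have hfix1 : ∀ a : P, irrAut (conjHom P W a) (oneIrr71 W) = oneIrr71 W := by
    intro a
    apply Subtype.ext
    funext k
    rfl
  have hR : ∑ z : {z : IrrCharacter W // ∀ g : P, irrAut (conjHom P W g) z = z},
      ((charDegree (z.1 : W → ℂ) ^ 2 : ℕ) : ZMod p) = 1 := by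
    rw [Finset.sum_eq_single (⟨oneIrr71 W, hfix1⟩ : {z : IrrCharacter W // ∀ g : P, irrAut (conjHom P W g) z = z})]
    · rw [charDegree_oneIrr]; simp
    · intro z _ hz
      have hne : z.1 ≠ oneIrr71 W := fun h => hz (Subtype.ext h)
      have hd := hcon z.1 z.2 hne
      rw [ZMod.natCast_eq_zero_iff]
      exact Dvd.dvd.pow hd two_ne_zero
    · simp
  rw [hL, hR] at h
  exact zero_ne_one h

/-- An invariant character of degree prime to `p` extends across a `p`-group when there are no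
linear characters of `p`-power order. -/
theorem exists_extension_to_sup (p : ℕ) [hp : Fact p.Prime] {P W : Subgroup G} [hWn : W.Normal]
    (hP : IsPGroup p P)
    (hf : ∀ (f : W →* ℂˣ) (k : ℕ), (∀ x, f x ^ (p ^ k) = 1) → f = 1)
    (ζ : IrrCharacter W) (hfix : ∀ a : P, irrAut (conjHom P W a) ζ = ζ)
    (hdeg : ¬ p ∣ charDegree (ζ : W → ℂ)) :
    ∃ ζ' : ↥(W ⊔ P) → ℂ, IsIrrCharacter ↥(W ⊔ P) ζ' ∧
      ∀ (n : G) (hn : n ∈ W), ζ' ⟨n, (le_sup_left : W ≤ W ⊔ P) hn⟩ = (ζ : W → ℂ) ⟨n, hn⟩ := by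
  classical
  set H : Subgroup G := W ⊔ P with hH
  have hWH : W ≤ H := le_sup_left
  have hζc := IsIrrCharacter.isCharacter ζ.2
  -- invariance
  let T : Subgroup G :=
    { carrier := {g | ∀ n : W, (ζ : W → ℂ) ⟨g * n * g⁻¹, hWn.conj_mem (n : G) n.2 g⟩ = (ζ : W → ℂ) n}
      mul_mem' := by
        intro a b ha hb n
        have h1 := ha ⟨b * n * b⁻¹, hWn.conj_mem (n : G) n.2 b⟩
        have h2 := hb n
        rw [← h2, ← h1]
        refine congrArg (ζ : W → ℂ) (Subtype.ext ?_)
        simp [mul_assoc]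
      one_mem' := by
        intro n
        refine congrArg (ζ : W → ℂ) (Subtype.ext ?_)
        simp
      inv_mem' := by
        intro a ha n
        have h1 := ha ⟨a⁻¹ * n * a⁻¹⁻¹, hWn.conj_mem (n : G) n.2 a⁻¹⟩
        rw [← h1]
        refine congrArg (ζ : W → ℂ) (Subtype.ext ?_)
        simp [mul_assoc] }
  have hWT : W ≤ T := by
    intro w hw n
    have h1 := isClassFunction_of_isCharacter hζc n ⟨w, hw⟩
    rw [← h1]
    rfl
  have hPT : P ≤ T := by
    intro a ha n
    have h1 := congrArg (fun η : IrrCharacter W => (η : W → ℂ) n) (hfix (⟨a, ha⟩ : P)⁻¹)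
    simp only [irrAut_apply] at h1
    rw [← h1]
    refine congrArg (ζ : W → ℂ) (Subtype.ext ?_)
    rw [conjHom_symm_apply_coe]
    simp
  have hHT : H ≤ T := sup_le hWT hPT
  let W' : Subgroup H := W.subgroupOf H
  haveI hW'n : W'.Normal := Subgroup.normal_subgroupOf
  let ε : W' ≃* W := Subgroup.subgroupOfEquivOfLe hWH
  let ϑ : W' → ℂ := (ζ : W → ℂ) ∘ ε
  have hϑ : IsIrrCharacter W' ϑ := isIrrCharacter_comp_of_surjective ε.toMonoidHom ε.surjective ζ.2
  have hϑc := IsIrrCharacter.isCharacter hϑ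
  have hinv : ∀ (g : H) (n : W'), ϑ ⟨g * n * g⁻¹, hW'n.conj_mem (n : H) n.2 g⟩ = ϑ n := by
    intro g n
    exact hHT g.2 (ε n)
  have hd : ϑ 1 = (charDegree (ζ : W → ℂ) : ℂ) := by
    rw [← one_eq_charDegree hζc]
    simp [ϑ]
  -- the index
  obtain ⟨k₀, hk₀⟩ : ∃ k, W'.index = p ^ k := by
    have h1 : W'.index = W.relIndex P := by
      show W.relIndex H = _
      rw [hH, Subgroup.relIndex_sup_left]
    have h2 : W.relIndex P ∣ Nat.card P := Subgroup.relIndex_dvd_card _ _
    obtain ⟨n, hn⟩ := IsPGroup.iff_card.mp hP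
    rw [hn] at h2
    obtain ⟨k, -, hk⟩ := (Nat.dvd_prime_pow hp.out).mp h2
    exact ⟨k, h1.trans hk⟩
  have hcop : Nat.Coprime W'.index (charDegree (ζ : W → ℂ)) := by
    rw [hk₀]
    exact Nat.Coprime.pow_left _ ((Nat.Prime.coprime_iff_not_dvd hp.out).mpr hdeg)
  -- the determinant
  obtain ⟨f₀, hf₀⟩ := exists_detHom hϑc
  have hf₀inv : ∀ (g : H) (n : W'), f₀ ⟨g * n * g⁻¹, hW'n.conj_mem (n : H) n.2 g⟩ = f₀ n := by
    intro g n
    apply Units.ext
    rw [← hf₀, ← hf₀]
    let c : W' →* W' := (MulAut.conjNormal (H := W') g).toMonoidHom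
    have h1 := detChar_comp c hϑc n
    have h2 : ϑ ∘ c = ϑ := by
      funext m
      have h3 : c m = ⟨g * m * g⁻¹, hW'n.conj_mem (m : H) m.2 g⟩ := by
        apply Subtype.ext
        simp [c, MulAut.conjNormal_apply]
      simp only [Function.comp, h3]
      exact hinv g m
    rw [h2] at h1
    have h3 : c n = ⟨g * n * g⁻¹, hW'n.conj_mem (n : H) n.2 g⟩ := by
      apply Subtype.ext
      simp [c, MulAut.conjNormal_apply]
    rw [h3] at h1
    exact h1.symm
  -- the order
  let o : ℕ := ordCompl[p] (Nat.card W')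
  have hcard0 : Nat.card W' ≠ 0 := Nat.card_pos.ne'
  have ho0 : o ≠ 0 := (Nat.ordCompl_pos p hcard0).ne'
  have hop : ¬ p ∣ o := Nat.not_dvd_ordCompl hp.out hcard0
  have ho : ∀ x, f₀ x ^ o = 1 := by
    let f₁ : W →* ℂˣ := (powMonoidHom o : ℂˣ →* ℂˣ).comp (f₀.comp ε.symm.toMonoidHom)
    have h1 : f₁ = 1 := by
      apply hf f₁ ((Nat.card W').factorization p)
      intro x
      simp only [f₁, MonoidHom.comp_apply, powMonoidHom_apply]
      rw [← pow_mul, mul_comm, Nat.ordProj_mul_ordCompl_eq_self, ← map_pow, pow_card_eq_one', map_one]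
    intro x
    have h2 := congrArg (fun F : W →* ℂˣ => F (ε x)) h1
    simpa [f₁] using h2
  obtain ⟨μ, hμ⟩ := exists_extension W' f₀ hf₀inv ho ho0 (by
    intro q hq hqo
    refine ⟨W', le_refl _, f₀, ?_, fun n => rfl⟩
    rw [hk₀]
    refine Nat.Coprime.pow_left _ ((Nat.coprime_primes hp.out hq).mpr ?_)
    rintro rfl
    exact hop hqo)
  obtain ⟨ζ', hζ', hres⟩ := ext_of_det W' hϑ hinv hd hcop (isCharacter_of_hom μ) (by simp) (by
    intro n
    rw [hf₀ n, hμ])
  refine ⟨ζ', hζ', fun n hn => ?_⟩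
  exact hres ⟨⟨n, hWH hn⟩, hn⟩

/-- **A normal subgroup in all the kernels without linear characters of `p`-power order has order
prime to `p`.** -/
theorem not_dvd_card_of_no_pHom (p : ℕ) [hp : Fact p.Prime] (P : Sylow p G) (W : Subgroup G)
    [hWn : W.Normal]
    (hWK : ∀ w ∈ W, ∀ χ : IrrCharacter G, ¬ p ∣ charDegree (χ : G → ℂ) →
      (χ : G → ℂ) w = (χ : G → ℂ) 1)
    (hf : ∀ (f : W →* ℂˣ) (k : ℕ), (∀ x, f x ^ (p ^ k) = 1) → f = 1) : ¬ p ∣ Nat.card W := by
  classical
  letI : Fintype G := Fintype.ofFinite G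
  letI : Fintype W := Fintype.ofFinite W
  intro hdvd
  have hPp : IsPGroup p (P : Subgroup G) := P.isPGroup'
  obtain ⟨ζ, hfix, hne, hdeg⟩ := exists_fixed_irr p hPp hdvd
  let H : Subgroup G := W ⊔ (P : Subgroup G)
  obtain ⟨ζ', hζ', hres⟩ : ∃ ζ' : H → ℂ, IsIrrCharacter H ζ' ∧
      ∀ (n : G) (hn : n ∈ W), ζ' ⟨n, (le_sup_left : W ≤ H) hn⟩ = (ζ : W → ℂ) ⟨n, hn⟩ :=
    exists_extension_to_sup p hPp hf ζ hfix hdeg
  letI : Fintype H := Fintype.ofFinite H
  have hWH : W ≤ H := le_sup_left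
  have hPH : (P : Subgroup G) ≤ H := le_sup_right
  have hζ'c := IsIrrCharacter.isCharacter hζ'
  have hζc := IsIrrCharacter.isCharacter ζ.2
  have hτ : IsCharacter G (indFun H ζ') := indFun_isCharacter _ hζ'c
  have hone : ζ' 1 = (ζ : W → ℂ) 1 := hres 1 W.one_mem
  have hdegτ : charDegree (indFun H ζ') = H.index * charDegree (ζ : W → ℂ) := by
    have h1 := one_eq_charDegree hτ
    rw [indFun_one, hone, one_eq_charDegree hζc] at h1
    exact_mod_cast h1.symm
  obtain ⟨χ, hχ, hχp⟩ := exists_pprime_constituent p hτ (by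
    rw [hdegτ]
    intro h
    rcases hp.out.dvd_mul.mp h with h | h
    · exact P.not_dvd_index (h.trans (Subgroup.index_dvd_of_le hPH))
    · exact hdeg h)
  have hχc := IsIrrCharacter.isCharacter χ.2
  rw [CharInd.frobenius _ _ (isClassFunction_of_isCharacter hχc)] at hχ
  have hχ' : classInner (fun h : H => (χ : G → ℂ) h) ζ' ≠ 0 := by
    rw [← classInner_conj_symm]
    simpa using hχ
  have hconst : ∀ n : W, (ζ : W → ℂ) n = (ζ : W → ℂ) 1 := by
    intro n
    have h1 := ker_of_constituent (y := ⟨n, hWH n.2⟩) (isCharacter_restrict _ hχc) hζ' hχ'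
      (hWK n n.2 χ hχp)
    rw [hone, hres n n.2] at h1
    exact h1
  have h0 := classInner_irr_ne ζ.2 (oneIrr71 W).2 (fun h => hne (Subtype.ext h))
  unfold classInner at h0
  have h2 : ∑ g : W, (ζ : W → ℂ) g * conj ((oneIrr71 W : W → ℂ) g) =
      (Nat.card W : ℂ) * (ζ : W → ℂ) 1 := by
    rw [Finset.sum_congr rfl (g := fun _ => (ζ : W → ℂ) 1) (fun n _ => by
      rw [hconst n]
      simp [oneIrr71])]
    simp [Nat.card_eq_fintype_card]
  rw [h2] at h0
  have hc : (Nat.card W : ℂ) ≠ 0 := by exact_mod_cast Nat.card_pos.ne'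
  rw [inv_mul_cancel_left₀ hc, one_eq_charDegree hζc] at h0
  have h3 : charDegree (ζ : W → ℂ) = 0 := by exact_mod_cast h0
  exact charDegree_ne_zero ζ.2 h3

end Coprime

section Main

variable {G : Type u} [Group G] [Finite G]

/-- The intersection of the kernels of the characters of degree prime to `p`. -/
noncomputable def pKer (p : ℕ) (G : Type u) [Group G] [Finite G] : Subgroup G :=
  ⨅ χ : {χ : IrrCharacter G // ¬ p ∣ charDegree (χ : G → ℂ)},
    charKer (IsIrrCharacter.isCharacter χ.1.2)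

theorem mem_pKer (p : ℕ) {x : G} : x ∈ pKer p G ↔
    ∀ χ : IrrCharacter G, ¬ p ∣ charDegree (χ : G → ℂ) → (χ : G → ℂ) x = (χ : G → ℂ) 1 := by
  unfold pKer
  rw [Subgroup.mem_iInf]
  constructor
  · intro h χ hχ
    exact h ⟨χ, hχ⟩
  · intro h χ
    exact h χ.1 χ.2

instance pKer_normal (p : ℕ) : (pKer p G).Normal := by
  unfold pKer
  exact Subgroup.normal_iInf_normal fun χ => inferInstance

/-- **The intersection of the kernels lies in the normal core of `N P'`.** -/
theorem pKer_le_core (p : ℕ) [hp : Fact p.Prime] (P : Sylow p G) (N : Subgroup G) [N.Normal]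
    (hmax : ∀ L : Subgroup G, L.Normal →
      L ⊓ Subgroup.centralizer ((P : Subgroup G) : Set G) = ⊥ → L ≤ N) :
    pKer p G ≤ (N ⊔ ⁅(P : Subgroup G), (P : Subgroup G)⁆).normalCore := by
  classical
  apply Subgroup.normal_le_normalCore.mpr
  let S : Set G := {x | x ∈ pKer p G ∧ ¬ p ∣ orderOf x}
  let W : Subgroup G := Subgroup.normalClosure S
  haveI hWn : W.Normal := Subgroup.normalClosure_normal
  have hWK : W ≤ pKer p G := Subgroup.normalClosure_le_normal (fun x hx => hx.1)
  have hSW : S ⊆ W := Subgroup.subset_normalClosure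
  have hno : ∀ (f : W →* ℂˣ) (k : ℕ), (∀ x, f x ^ (p ^ k) = 1) → f = 1 := by
    intro f k hk
    have hle : W ≤ f.ker.map W.subtype := by
      show Subgroup.closure _ ≤ _
      rw [Subgroup.closure_le]
      intro y hy
      rw [Group.mem_conjugatesOfSet_iff] at hy
      obtain ⟨a, haS, hay⟩ := hy
      obtain ⟨c, rfl⟩ := isConj_iff.mp hay
      have hyW : c * a * c⁻¹ ∈ W := hWn.conj_mem a (hSW haS) c
      refine ⟨⟨_, hyW⟩, ?_, rfl⟩
      rw [SetLike.mem_coe, MonoidHom.mem_ker]
      have h1 := hk ⟨_, hyW⟩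
      have h2 : f ⟨_, hyW⟩ ^ orderOf a = 1 := by
        rw [← map_pow]
        have h3 : (⟨_, hyW⟩ : W) ^ orderOf a = 1 := by
          apply Subtype.ext
          simp only [SubmonoidClass.coe_pow, Subgroup.coe_one]
          rw [conj_pow, pow_orderOf_eq_one]
          simp
        rw [h3, map_one]
      have h4 : Nat.Coprime (p ^ k) (orderOf a) :=
        Nat.Coprime.pow_left _ ((Nat.Prime.coprime_iff_not_dvd hp.out).mpr haS.2)
      have h5 := orderOf_dvd_of_pow_eq_one h1
      have h6 := orderOf_dvd_of_pow_eq_one h2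
      have h7 := Nat.dvd_gcd h5 h6
      rw [h4.gcd_eq_one, Nat.dvd_one] at h7
      exact orderOf_eq_one_iff.mp h7
    refine MonoidHom.ext fun x => ?_
    obtain ⟨v, hv, hvx⟩ := hle x.2
    have : v = x := Subtype.ext hvx
    rw [← this]
    exact hv
  have hcop : ¬ p ∣ Nat.card W := not_dvd_card_of_no_pHom p P W
    (fun w hw χ hχ => (mem_pKer p).mp (hWK hw) χ hχ) hno
  have hbot : W ⊓ Subgroup.centralizer ((P : Subgroup G) : Set G) = ⊥ := by
    rw [eq_bot_iff]
    intro x hx
    obtain ⟨hxW, hxC⟩ := Subgroup.mem_inf.mp hx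
    rw [Subgroup.mem_bot]
    refine eq_one_of_centralizing p P hxC ?_ ((mem_pKer p).mp (hWK hxW))
    intro h
    apply hcop
    have h1 : orderOf (⟨x, hxW⟩ : W) ∣ Nat.card W := orderOf_dvd_natCard _
    rw [Subgroup.orderOf_mk] at h1
    exact h.trans h1
  have hWN : W ≤ N := hmax W hWn hbot
  let π : G →* G ⧸ W := QuotientGroup.mk' W
  have hπ : Function.Surjective π := QuotientGroup.mk'_surjective W
  have hB : IsPGroup p ((pKer p G).map π) := by
    rintro ⟨_, x, hx, rfl⟩
    set o := orderOf x with ho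
    have ho0 : o ≠ 0 := (orderOf_pos x).ne'
    have h1 : ordProj[p] o * ordCompl[p] o = o := Nat.ordProj_mul_ordCompl_eq_self o p
    have h2 : o / ordCompl[p] o = ordProj[p] o :=
      Nat.div_eq_of_eq_mul_left (Nat.ordCompl_pos p ho0) h1.symm
    have h3 : orderOf (x ^ (o / ordCompl[p] o)) = ordCompl[p] o :=
      orderOf_pow_orderOf_div ho0 (Nat.ordCompl_dvd o p)
    rw [h2] at h3
    have h4 : x ^ (ordProj[p] o) ∈ S := by
      refine ⟨(pKer p G).pow_mem hx _, ?_⟩
      rw [h3]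
      exact Nat.not_dvd_ordCompl hp.out ho0
    refine ⟨o.factorization p, ?_⟩
    apply Subtype.ext
    show (π x) ^ (p ^ (o.factorization p)) = 1
    rw [← map_pow]
    exact (QuotientGroup.eq_one_iff _).mpr (hSW h4)
  let R : Sylow p (G ⧸ W) := P.mapSurjective hπ
  haveI hBn : ((pKer p G).map π).Normal := Subgroup.Normal.map inferInstance π hπ
  have hBR : (pKer p G).map π ≤ (R : Subgroup (G ⧸ W)) := hB.le_sylow_of_normal R
  intro x hx
  obtain ⟨u, huP, hu⟩ := hBR ⟨x, hx, rfl⟩
  have huW : u⁻¹ * x ∈ W := by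
    exact QuotientGroup.eq.mp hu
  have huK : u ∈ pKer p G := by
    have h1 : u = x * (u⁻¹ * x)⁻¹ := by group
    rw [h1]
    exact (pKer p G).mul_mem hx ((pKer p G).inv_mem (hWK huW))
  have huQ := mem_commutator_of_ker p P huP ((mem_pKer p).mp huK)
  have h2 : x = u * (u⁻¹ * x) := by group
  rw [h2]
  exact Subgroup.mul_mem _ ((le_sup_right : _ ≤ N ⊔ _) huQ) ((le_sup_left : N ≤ _) (hWN huW))

end Main

end Cfsg.Agent.Lib.PDegKernel71
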