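import Mathlib

/-!
# Explicit elements of `SL_{k+1}(F)` with a unique eigenline

* the regular unipotent matrix `uMat`;
* block matrices `blk a M` where `M` has no eigenvector, coming from a field extension of degree `k`.
-/

set_option autoImplicit false

namespace Cfsg.Agent.Lib.PGLElems

open scoped Matrix MatrixGroups

variable {F : Type*} [Field F]

/-! ### Block matrices -/

/-- The block diagonal matrix `diag(a, M)`. -/
def blk {k : ℕ} (a : F) (M : Matrix (Fin k) (Fin k) F) : Matrix (Fin (k + 1)) (Fin (k + 1)) F :=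
  Matrix.of (Fin.cases (Fin.cases a (fun _ => 0)) (fun i => Fin.cases 0 (fun j => M i j)))

@[simp] lemma blk_zero_zero {k : ℕ} (a : F) (M : Matrix (Fin k) (Fin k) F) : blk a M 0 0 = a := rfl
@[simp] lemma blk_zero_succ {k : ℕ} (a : F) (M : Matrix (Fin k) (Fin k) F) (j : Fin k) :
    blk a M 0 j.succ = 0 := rfl
@[simp] lemma blk_succ_zero {k : ℕ} (a : F) (M : Matrix (Fin k) (Fin k) F) (i : Fin k) :
    blk a M i.succ 0 = 0 := rfl
@[simp] lemma blk_succ_succ {k : ℕ} (a : F) (M : Matrix (Fin k) (Fin k) F) (i j : Fin k) :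
    blk a M i.succ j.succ = M i j := rfl

lemma blk_mul {k : ℕ} (a b : F) (M N : Matrix (Fin k) (Fin k) F) :
    blk a M * blk b N = blk (a * b) (M * N) := by
  ext i j
  rw [Matrix.mul_apply, Fin.sum_univ_succ]
  refine Fin.cases ?_ (fun i => ?_) i <;> refine Fin.cases ?_ (fun j => ?_) j <;>
    simp [Matrix.mul_apply]

lemma blk_one {k : ℕ} : blk (1 : F) (1 : Matrix (Fin k) (Fin k) F) = 1 := by
  ext i j
  refine Fin.cases ?_ (fun i => ?_) i <;> refine Fin.cases ?_ (fun j => ?_) j
  · simp [Matrix.one_apply]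
  · simp [Matrix.one_apply, (Fin.succ_ne_zero j).symm]
  · simp [Matrix.one_apply, Fin.succ_ne_zero]
  · simp [Matrix.one_apply]

lemma blk_pow {k : ℕ} (a : F) (M : Matrix (Fin k) (Fin k) F) (t : ℕ) :
    blk a M ^ t = blk (a ^ t) (M ^ t) := by
  induction t with
  | zero => simp [blk_one]
  | succ t ih => rw [pow_succ, ih, blk_mul, pow_succ, pow_succ]

lemma blk_det {k : ℕ} (a : F) (M : Matrix (Fin k) (Fin k) F) : (blk a M).det = a * M.det := by
  rw [Matrix.det_succ_row_zero, Fin.sum_univ_succ]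
  have h0 : (blk a M).submatrix Fin.succ Fin.succ = M := by
    ext i j
    simp
  simp [h0]

lemma blk_mulVec_zero {k : ℕ} (a : F) (M : Matrix (Fin k) (Fin k) F) (w : Fin (k + 1) → F) :
    (blk a M *ᵥ w) 0 = a * w 0 := by
  simp [Matrix.mulVec, dotProduct, Fin.sum_univ_succ]

lemma blk_mulVec_succ {k : ℕ} (a : F) (M : Matrix (Fin k) (Fin k) F) (w : Fin (k + 1) → F) (i : Fin k) :
    (blk a M *ᵥ w) i.succ = (M *ᵥ (Fin.tail w)) i := by
  simp [Matrix.mulVec, dotProduct, Fin.sum_univ_succ, Fin.tail]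

/-! ### The regular unipotent matrix -/

/-- The superdiagonal matrix. -/
def nMat (F : Type*) [Field F] (k : ℕ) : Matrix (Fin (k + 1)) (Fin (k + 1)) F :=
  Matrix.of fun i j => if (i : ℕ) + 1 = j then 1 else 0

/-- The regular unipotent matrix. -/
def uMat (F : Type*) [Field F] (k : ℕ) : Matrix (Fin (k + 1)) (Fin (k + 1)) F := 1 + nMat F k

lemma nMat_mulVec (k : ℕ) (w : Fin (k + 1) → F) (i : Fin (k + 1)) :
    (nMat F k *ᵥ w) i = if h : (i : ℕ) + 1 < k + 1 then w ⟨i + 1, h⟩ else 0 := by
  classical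
  simp only [Matrix.mulVec, dotProduct, nMat, Matrix.of_apply, ite_mul, one_mul, zero_mul]
  split_ifs with h
  · rw [Finset.sum_eq_single (⟨(i : ℕ) + 1, h⟩ : Fin (k + 1))]
    · simp
    · intro b _ hb
      rw [if_neg]
      intro h2
      apply hb
      apply Fin.ext
      exact h2.symm
    · simp
  · apply Finset.sum_eq_zero
    intro j _
    rw [if_neg]
    intro h2
    have := j.2
    omega

lemma nMat_pow_mulVec (k t : ℕ) (w : Fin (k + 1) → F) (i : Fin (k + 1)) :
    (nMat F k ^ t *ᵥ w) i = if h : (i : ℕ) + t < k + 1 then w ⟨i + t, h⟩ else 0 := by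
  induction t generalizing w with
  | zero =>
    simp only [pow_zero, Matrix.one_mulVec, add_zero, Fin.is_lt, ↓reduceDIte]
  | succ t ih =>
    rw [pow_succ, ← Matrix.mulVec_mulVec, ih]
    split_ifs with h1 h2 h2
    · rw [nMat_mulVec]
      have h3 : (((⟨(i : ℕ) + t, h1⟩ : Fin (k + 1)) : ℕ)) + 1 < k + 1 := by
        simp only
        omega
      rw [dif_pos h3]
      rfl
    · rw [nMat_mulVec]
      rw [dif_neg]
      simp only
      omega
    · omega
    · rfl

lemma nMat_pow_eq_zero (k t : ℕ) (ht : k + 1 ≤ t) : nMat F k ^ t = 0 := by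
  apply Matrix.mulVec_injective
  funext w
  funext i
  rw [nMat_pow_mulVec, dif_neg (by omega)]
  simp

lemma uMat_pow {p : ℕ} [Fact p.Prime] [CharP F p] (k m : ℕ) (hm : k + 1 ≤ p ^ m) :
    uMat F k ^ (p ^ m) = 1 := by
  unfold uMat
  rw [add_pow_char_pow_of_commute p m (Commute.one_left _), one_pow, nMat_pow_eq_zero k _ hm, add_zero]

lemma uMat_det (k : ℕ) : (uMat F k).det = 1 := by
  have h : (uMat F k).IsUpperTriangular := by
    intro i j hij
    simp only [uMat, nMat, Matrix.add_apply, Matrix.one_apply, Matrix.of_apply]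
    have h1 : i ≠ j := fun h => by
      rw [h] at hij
      exact lt_irrefl _ hij
    have h2 : ¬ ((i : ℕ) + 1 = j) := by
      have : (j : ℕ) < i := hij
      omega
    simp [h1, h2]
  rw [Matrix.det_of_isUpperTriangular h]
  apply Finset.prod_eq_one
  intro i _
  simp [uMat, nMat]

lemma uMat_mulVec (k : ℕ) (w : Fin (k + 1) → F) (i : Fin (k + 1)) :
    (uMat F k *ᵥ w) i = w i + if h : (i : ℕ) + 1 < k + 1 then w ⟨i + 1, h⟩ else 0 := by
  rw [uMat, Matrix.add_mulVec, Matrix.one_mulVec, Pi.add_apply, nMat_mulVec]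

/-- Eigenvectors of the regular unipotent matrix are multiples of `e₀`. -/
lemma uMat_eigen (k : ℕ) (w : Fin (k + 1) → F) (c : F) (hw : w ≠ 0) (h : uMat F k *ᵥ w = c • w)
    (i : Fin k) : w i.succ = 0 := by
  classical
  -- the largest index with nonzero coordinate
  have hex : ∃ j : Fin (k + 1), w j ≠ 0 := by
    by_contra hno
    push Not at hno
    exact hw (funext hno)
  obtain ⟨j, hj, hmax⟩ : ∃ j : Fin (k + 1), w j ≠ 0 ∧ ∀ l : Fin (k + 1), j < l → w l = 0 := by
    obtain ⟨j, hj, hmax⟩ := Finset.exists_max_image (Finset.univ.filter fun j => w j ≠ 0) id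
      (by
        obtain ⟨j, hj⟩ := hex
        exact ⟨j, by simp [hj]⟩)
    refine ⟨j, (Finset.mem_filter.mp hj).2, ?_⟩
    intro l hl
    by_contra hne
    have := hmax l (by simp [hne])
    simp only [id] at this
    exact absurd hl (not_lt.mpr this)
  have hc : c = 1 := by
    have h1 := congrFun h j
    rw [uMat_mulVec, Pi.smul_apply, smul_eq_mul] at h1
    have h2 : (if h : (j : ℕ) + 1 < k + 1 then w ⟨j + 1, h⟩ else 0) = 0 := by
      split_ifs with h3
      · apply hmax
        rw [Fin.lt_def]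
        simp
      · rfl
    rw [h2, add_zero] at h1
    have h3 : (c - 1) * w j = 0 := by linear_combination -h1
    have h4 := (mul_eq_zero.mp h3).resolve_right hj
    linear_combination h4
  subst hc
  have h1 := congrFun h i.castSucc
  rw [uMat_mulVec, Pi.smul_apply, one_smul] at h1
  have h2 : (i.castSucc : ℕ) + 1 < k + 1 := by
    simp
  rw [dif_pos h2] at h1
  have h3 : w ⟨(i.castSucc : ℕ) + 1, h2⟩ = 0 := by simpa using h1
  have h4 : (⟨(i.castSucc : ℕ) + 1, h2⟩ : Fin (k + 1)) = i.succ := by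
    apply Fin.ext
    simp
  rwa [h4] at h3

/-! ### A matrix without eigenvectors of prime power order -/

lemma sum_pow_succ (q k : ℕ) : ∑ i ∈ Finset.range (k + 1), q ^ i = q * (∑ i ∈ Finset.range k, q ^ i) + 1 := by
  rw [Finset.sum_range_succ', Finset.mul_sum]
  simp [pow_succ']

lemma not_dvd_sum (s q k : ℕ) (hs : s.Prime) (h : s ∣ q ∨ s ∣ ∑ i ∈ Finset.range k, q ^ i) :
    ¬ s ∣ ∑ i ∈ Finset.range (k + 1), q ^ i := by
  rw [sum_pow_succ]
  intro h1
  have h2 : s ∣ q * (∑ i ∈ Finset.range k, q ^ i) := by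
    rcases h with h | h
    · exact dvd_mul_of_dvd_left h _
    · exact dvd_mul_of_dvd_right h _
  have h3 : s ∣ 1 := (Nat.dvd_add_right h2).mp h1
  exact hs.one_lt.ne' (Nat.dvd_one.mp h3)

lemma geom_eq (q k : ℕ) (hq : 1 ≤ q) : (∑ i ∈ Finset.range k, q ^ i) * (q - 1) + 1 = q ^ k := by
  obtain ⟨x, rfl⟩ : ∃ x, q = x + 1 := ⟨q - 1, by omega⟩
  simpa using geom_sum_mul_add x k

/-- For `k ≥ 2` there is a prime `r` dividing `1 + q + ... + q^(k-1)` and a `k × k` matrix of
`r`-power order without eigenvectors. -/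
theorem exists_noEig (F : Type*) [Field F] [Finite F] (k : ℕ) (hk : 2 ≤ k) :
    ∃ r : ℕ, r.Prime ∧ r ∣ ∑ i ∈ Finset.range k, (Nat.card F) ^ i ∧
      ∃ (M : Matrix (Fin k) (Fin k) F) (v : ℕ), M ^ (r ^ v) = 1 ∧
        ∀ (w : Fin k → F) (c : F), M *ᵥ w = c • w → w = 0 := by
  classical
  set q := Nat.card F with hq
  have hq2 : 2 ≤ q := Finite.one_lt_card
  set N := ∑ i ∈ Finset.range k, q ^ i with hN
  have hN1 : N ≠ 1 := by
    obtain ⟨k', rfl⟩ : ∃ k', k = k' + 1 := ⟨k - 1, by omega⟩
    rw [hN, sum_pow_succ]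
    have : 0 < ∑ i ∈ Finset.range k', q ^ i := by
      apply Finset.sum_pos
      · intro i _
        positivity
      · exact ⟨0, Finset.mem_range.mpr (by omega)⟩
    have h3 : 0 < q * ∑ i ∈ Finset.range k', q ^ i := by positivity
    omega
  let r := N.minFac
  have hr : r.Prime := Nat.minFac_prime hN1
  have hrN : r ∣ N := Nat.minFac_dvd N
  refine ⟨r, hr, hrN, ?_⟩
  obtain ⟨p, hcp⟩ := CharP.exists F
  haveI : Fact p.Prime := ⟨CharP.char_is_prime F p⟩
  haveI : NeZero k := ⟨by omega⟩
  let K := FiniteField.Extension F p k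
  have hKcard : Nat.card K = q ^ k := FiniteField.natCard_extension F p k
  have hKfin : Module.finrank F K = k := FiniteField.finrank_extension F p k
  haveI : Finite K := Nat.finite_of_card_ne_zero (by rw [hKcard]; positivity)
  obtain ⟨γ, hγ⟩ := IsCyclic.exists_generator (α := Kˣ)
  have hγord : orderOf γ = q ^ k - 1 := by
    rw [orderOf_eq_card_of_forall_mem_zpowers hγ, Nat.card_units, hKcard]
  set L := q ^ k - 1 with hL
  have hgeom : N * (q - 1) + 1 = q ^ k := geom_eq q k (by omega)
  have hLeq : L = N * (q - 1) := by omega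
  have hL0 : L ≠ 0 := by
    rw [hLeq]
    apply mul_ne_zero
    · intro h0
      rw [h0] at hrN
      exact hN1 (by
        have hpos : 0 < N := by
          rw [hN]
          apply Finset.sum_pos
          · intro i _
            positivity
          · exact ⟨0, Finset.mem_range.mpr (by omega)⟩
        omega)
    · omega
  set e := L.factorization r with he
  set W := L / r ^ e with hW
  have hRW : r ^ e * W = L := Nat.ordProj_mul_ordCompl_eq_self L r
  have hWdvd : W ∣ orderOf γ := by
    rw [hγord]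
    exact ⟨r ^ e, by rw [← hRW]; ring⟩
  have hW0 : W ≠ 0 := by
    intro h
    rw [h, mul_zero] at hRW
    exact hL0 hRW.symm
  let ζ : Kˣ := γ ^ W
  have hζord : orderOf ζ = r ^ e := by
    show orderOf (γ ^ W) = r ^ e
    rw [orderOf_pow_of_dvd hW0 hWdvd, hγord]
    rw [← hRW]
    exact Nat.mul_div_cancel _ (Nat.pos_of_ne_zero hW0)
  have hζ : ζ ^ (r ^ e) = 1 := by
    rw [← hζord]
    exact pow_orderOf_eq_one ζ
  -- `ζ` is not in `F`
  have hnotF : ∀ c : F, (ζ : K) ≠ algebraMap F K c := by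
    intro c hc
    have hc0 : c ≠ 0 := by
      rintro rfl
      rw [map_zero] at hc
      exact ζ.ne_zero hc
    haveI := Fintype.ofFinite F
    have h1 : c ^ (q - 1) = 1 := by
      rw [hq, Nat.card_eq_fintype_card]
      exact FiniteField.pow_card_sub_one_eq_one c hc0
    have h2 : ζ ^ (q - 1) = 1 := by
      apply Units.ext
      rw [Units.val_pow_eq_pow_val, hc, ← map_pow, h1, map_one, Units.val_one]
    have h3 : r ^ e ∣ q - 1 := by
      rw [← hζord]
      exact orderOf_dvd_of_pow_eq_one h2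
    have h4 : r ^ (e + 1) ∣ L := by
      rw [hLeq, pow_succ']
      exact Nat.mul_dvd_mul hrN h3
    exact Nat.pow_succ_factorization_not_dvd hL0 hr h4
  -- the matrix
  let b : Module.Basis (Fin k) F K := Module.finBasisOfFinrankEq F K hKfin
  let φ : K →ₐ[F] Matrix (Fin k) (Fin k) F := Algebra.leftMulMatrix b
  refine ⟨φ (ζ : K), e, ?_, ?_⟩
  · rw [← map_pow, ← Units.val_pow_eq_pow_val, hζ, Units.val_one, map_one]
  · intro w c hw
    let x : K := b.equivFun.symm w
    have hxw : (⇑(b.repr x) : Fin k → F) = w := by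
      have := b.equivFun.apply_symm_apply w
      rwa [Module.Basis.equivFun_apply] at this
    have h1 : (φ (ζ : K)) *ᵥ (⇑(b.repr x)) = ⇑(b.repr ((ζ : K) * x)) := by
      have := LinearMap.toMatrix_mulVec_repr b b (LinearMap.mulLeft F (ζ : K)) x
      simpa [φ, Algebra.leftMulMatrix_apply] using this
    rw [hxw, hw] at h1
    have h2 : b.repr ((ζ : K) * x) = b.repr (c • x) := by
      apply Finsupp.ext
      intro i
      have := congrFun h1 i
      simp only [Pi.smul_apply, smul_eq_mul] at this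
      rw [map_smul, Finsupp.smul_apply, smul_eq_mul, hxw]
      exact this.symm
    have h3 : (ζ : K) * x = c • x := b.repr.injective h2
    have h4 : x = 0 := by
      by_contra hx0
      apply hnotF c
      rw [Algebra.smul_def] at h3
      exact mul_right_cancel₀ hx0 h3
    rw [← hxw, h4]
    simp

/-- If a regular unipotent matrix commutes with `diag(a, M)`, then `M` has eigenvalue `a`. -/
theorem uMat_blk_not_comm (k : ℕ) (a : F) (M : Matrix (Fin (k + 1)) (Fin (k + 1)) F)
    (hM : ∀ (w : Fin (k + 1) → F) (c : F), M *ᵥ w = c • w → w = 0) :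
    uMat F (k + 1) * blk a M ≠ blk a M * uMat F (k + 1) := by
  classical
  intro hcomm
  -- the first row of `M - a` vanishes
  have hrow : ∀ w : Fin (k + 1) → F, (M *ᵥ w) 0 = a * w 0 := by
    intro w
    let w' : Fin (k + 2) → F := Fin.cons 0 w
    have h1 : (uMat F (k + 1) * blk a M) *ᵥ w' = (blk a M * uMat F (k + 1)) *ᵥ w' := by rw [hcomm]
    rw [← Matrix.mulVec_mulVec, ← Matrix.mulVec_mulVec] at h1
    have h2 := congrFun h1 0
    rw [uMat_mulVec, blk_mulVec_zero, blk_mulVec_zero, uMat_mulVec] at h2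
    have h3 : ((0 : Fin (k + 2)) : ℕ) + 1 < k + 1 + 1 := by simp
    rw [dif_pos h3, dif_pos h3] at h2
    have h4 : (⟨((0 : Fin (k + 2)) : ℕ) + 1, h3⟩ : Fin (k + 2)) = (0 : Fin (k + 1)).succ := by
      apply Fin.ext
      simp
    rw [h4, blk_mulVec_succ] at h2
    have h5 : Fin.tail w' = w := by
      funext i
      simp [w', Fin.tail]
    rw [h5] at h2
    have h6 : w' 0 = 0 := rfl
    have h7 : w' (0 : Fin (k + 1)).succ = w 0 := rfl
    rw [h6, h7] at h2
    simp only [mul_zero, zero_add, add_zero] at h2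
    exact h2
  -- hence `M - a` is singular
  have hdet : (M - a • 1).det = 0 := by
    rw [← Matrix.exists_vecMul_eq_zero_iff]
    refine ⟨Pi.single 0 1, ?_, ?_⟩
    · intro h
      have := congrFun h 0
      simp at this
    · funext j
      have h1 := hrow (Pi.single j 1)
      simp only [Matrix.mulVec_single_one] at h1
      simp only [Matrix.vecMul, dotProduct, Pi.zero_apply]
      rw [Finset.sum_eq_single 0]
      · simp only [Pi.single_eq_same, one_mul, Matrix.sub_apply, Matrix.smul_apply, smul_eq_mul]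
        have h2 : M 0 j = a * (Pi.single j 1 : Fin (k + 1) → F) 0 := by simpa [Matrix.col] using h1
        rw [h2]
        by_cases h0 : j = 0
        · subst h0
          simp
        · simp [h0, Matrix.one_apply, Ne.symm h0]
      · intro b _ hb
        simp [hb]
      · simp
  obtain ⟨v, hv0, hv⟩ := Matrix.exists_mulVec_eq_zero_iff.mpr hdet
  apply hv0
  apply hM v a
  rw [Matrix.sub_mulVec, sub_eq_zero] at hv
  rw [hv]
  funext i
  simp [Matrix.smul_mulVec]

end Cfsg.Agent.Lib.PGLElems
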