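import Mathlib
import Cfsg.Agent.Lib.NilpFix
import Cfsg.Agent.Lib.NilpForced
import Cfsg.Agent.Lib.PGLElems

/-!
# Subgroups of `PGL_n(F)` containing `PSL_n(F)`, and nilpotent subgroups fixing points
-/

set_option autoImplicit false

namespace Cfsg.Agent.Lib.PGLCover

open scoped LinearAlgebra.Projectivization Matrix MatrixGroups
open Cfsg.Agent.Lib.NilpFix Cfsg.Agent.Lib.NilpForced Cfsg.Agent.Lib.PGLElems

variable {F : Type*} [Field F] {n : ℕ}

/-- Projective points. -/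
abbrev Pt (F : Type*) [Field F] (n : ℕ) := ℙ F (Fin n → F)

/-- The quotient of `GL` by its centre. -/
abbrev PG (F : Type*) [Field F] (n : ℕ) := GL (Fin n) F ⧸ Subgroup.center (GL (Fin n) F)

lemma center_smul (z : GL (Fin n) F) (hz : z ∈ Subgroup.center (GL (Fin n) F)) (L : Pt F n) :
    z • L = L := by
  induction L using Projectivization.ind with
  | _ v hv =>
    rw [Projectivization.smul_mk, Projectivization.mk_eq_mk_iff]
    obtain ⟨a, ha⟩ := Matrix.GeneralLinearGroup.mem_center_iff_val_mem_range_scalar.mp hz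
    have hsm : z • v = a • v := by
      show (z : Matrix (Fin n) (Fin n) F) *ᵥ v = a • v
      rw [← ha]
      funext i
      simp [Matrix.scalar_apply, Matrix.mulVec_diagonal]
    have ha0 : a ≠ 0 := by
      rintro rfl
      apply hv
      have h1 : z⁻¹ • (z • v) = v := inv_smul_smul z v
      rw [hsm, zero_smul, smul_zero] at h1
      exact h1.symm
    refine ⟨Units.mk0 a ha0, ?_⟩
    rw [hsm]
    rfl

/-- The stabilizer of a projective point in a subgroup `G` of `PGL`. -/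
def bor (G : Subgroup (PG F n)) (L : Pt F n) : Subgroup ↥G :=
  ((MulAction.stabilizer (GL (Fin n) F) L).map (QuotientGroup.mk' (Subgroup.center (GL (Fin n) F)))).comap
    G.subtype

lemma mem_bor_of {G : Subgroup (PG F n)} {L : Pt F n} {g : ↥G} {h : GL (Fin n) F}
    (hg : (h : PG F n) = (g : PG F n)) (hfix : h • L = L) : g ∈ bor G L := by
  refine ⟨h, hfix, hg⟩

lemma smul_of_mem_bor {G : Subgroup (PG F n)} {L : Pt F n} {g : ↥G} (hgb : g ∈ bor G L)
    {h : GL (Fin n) F} (hg : (h : PG F n) = (g : PG F n)) : h • L = L := by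
  obtain ⟨h', hfix, hh'⟩ := hgb
  have h1 : (h' : PG F n) = (h : PG F n) := by
    rw [hg]
    exact hh'
  rw [QuotientGroup.eq] at h1
  have hz := center_smul _ h1 L
  have h2 : h = h' * (h'⁻¹ * h) := by group
  rw [h2, mul_smul, hz]
  exact hfix

/-- The forcing lemma for subgroups of `PGL`. -/
theorem forced_le [Finite F] (G : Subgroup (PG F n)) (A : Subgroup ↥G) (hA : Group.IsNilpotent ↥A) (s m : ℕ)
    [Fact s.Prime] (hs : ¬ s ∣ Nat.card (Pt F n)) (x : GL (Fin n) F) (hx : x ∈ lift G A)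
    (hord : x ^ (s ^ m) = 1) (L : Pt F n) (huniq : ∀ w : Pt F n, x • w = w → w = L) :
    A ≤ bor G L := by
  intro a ha
  obtain ⟨g, hg⟩ := QuotientGroup.mk_surjective (a : PG F n)
  have hgA : g ∈ lift G A := mem_lift.mpr ⟨a, ha, hg.symm⟩
  exact mem_bor_of hg (forcing (lift G A) (isNilpotent_lift G A hA) s m hs x hx hord L huniq g hgA)

lemma toGL_smul (g : Matrix.SpecialLinearGroup (Fin n) F) (L : Pt F n) :
    (Matrix.SpecialLinearGroup.toGL g : GL (Fin n) F) • L = g • L := by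
  induction L using Projectivization.ind with
  | _ v hv => rfl

lemma sl_transitive (L₁ L₂ : Pt F n) :
    ∃ g : Matrix.SpecialLinearGroup (Fin n) F, (Matrix.SpecialLinearGroup.toGL g : GL (Fin n) F) • L₁ = L₂ := by
  obtain ⟨g, hg⟩ := MulAction.exists_smul_eq (Matrix.SpecialLinearGroup (Fin n) F) L₁ L₂
  exact ⟨g, by rw [toGL_smul, hg]⟩

/-- The image of an element of `SL` in `G`. -/
def slIn (G : Subgroup (PG F n))
    (hG : ((Matrix.SpecialLinearGroup.toGL : Matrix.SpecialLinearGroup (Fin n) F →* GL (Fin n) F).range).map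
      (QuotientGroup.mk' (Subgroup.center (GL (Fin n) F))) ≤ G) (g : Matrix.SpecialLinearGroup (Fin n) F) : ↥G :=
  ⟨((Matrix.SpecialLinearGroup.toGL g : GL (Fin n) F) : PG F n), hG ⟨_, ⟨g, rfl⟩, rfl⟩⟩

lemma bor_ne_top (G : Subgroup (PG F n))
    (hG : ((Matrix.SpecialLinearGroup.toGL : Matrix.SpecialLinearGroup (Fin n) F →* GL (Fin n) F).range).map
      (QuotientGroup.mk' (Subgroup.center (GL (Fin n) F))) ≤ G) (L L' : Pt F n) (hne : L ≠ L') :
    bor G L ≠ ⊤ := by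
  intro htop
  obtain ⟨g, hg⟩ := sl_transitive L L'
  have h1 : slIn G hG g ∈ bor G L := by
    rw [htop]
    trivial
  have h2 := smul_of_mem_bor h1 (h := (Matrix.SpecialLinearGroup.toGL g : GL (Fin n) F)) rfl
  rw [hg] at h2
  exact hne h2.symm

section basePoint

variable {k : ℕ}

/-- The standard basis vector `e₀`. -/
def e0 (F : Type*) [Field F] (k : ℕ) : Fin (k + 1) → F := Pi.single 0 1

lemma e0_ne (k : ℕ) : e0 F k ≠ 0 := by
  intro h
  have := congrFun h 0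
  simp [e0] at this

/-- The base point `⟨e₀⟩`. -/
def pt0 (F : Type*) [Field F] (k : ℕ) : Pt F (k + 1) := Projectivization.mk F (e0 F k) (e0_ne k)

/-- An element all of whose eigenvectors are multiples of `e₀` has `⟨e₀⟩` as its unique fixed
point. -/
lemma uniq_of_eigen (x : GL (Fin (k + 1)) F)
    (h : ∀ (w : Fin (k + 1) → F) (c : F), w ≠ 0 → (x : Matrix _ _ F) *ᵥ w = c • w → ∀ i : Fin k, w i.succ = 0) :
    ∀ L : Pt F (k + 1), x • L = L → L = pt0 F k := by
  intro L hL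
  induction L using Projectivization.ind with
  | _ w hw =>
    rw [Projectivization.smul_mk, Projectivization.mk_eq_mk_iff] at hL
    obtain ⟨a, ha⟩ := hL
    have h1 : (x : Matrix _ _ F) *ᵥ w = (a : F) • w := ha.symm
    have h2 := h w a hw h1
    have h3 : w 0 ≠ 0 := by
      intro h0
      apply hw
      funext i
      refine Fin.cases h0 (fun j => h2 j) i
    rw [pt0, Projectivization.mk_eq_mk_iff]
    refine ⟨Units.mk0 (w 0) h3, ?_⟩
    funext i
    refine Fin.cases ?_ (fun j => ?_) i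
    · simp [Units.smul_def, e0]
    · simp [Units.smul_def, e0, h2 j, Fin.succ_ne_zero]

lemma card_pt [Finite F] (k : ℕ) : Nat.card (Pt F (k + 1)) = ∑ i ∈ Finset.range (k + 1), (Nat.card F) ^ i :=
  Projectivization.card_of_finrank F (Fin (k + 1) → F) (by simp)

/-- The regular unipotent in `SL`. -/
def uSL (F : Type*) [Field F] (k : ℕ) : Matrix.SpecialLinearGroup (Fin (k + 1)) F := ⟨uMat F k, uMat_det k⟩

/-- `diag(det(M)⁻¹, M)` in `SL`. -/
def ySL {k : ℕ} (M : Matrix (Fin k) (Fin k) F) (hM : M.det ≠ 0) : Matrix.SpecialLinearGroup (Fin (k + 1)) F :=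
  ⟨blk (M.det)⁻¹ M, by rw [blk_det, inv_mul_cancel₀ hM]⟩

lemma pt_ne (k : ℕ) : pt0 F (k + 1) ≠
    Projectivization.mk F (Pi.single (1 : Fin (k + 2)) 1) (by
      intro h
      have := congrFun h 1
      simp at this) := by
  intro h
  rw [pt0, Projectivization.mk_eq_mk_iff] at h
  obtain ⟨a, ha⟩ := h
  have := congrFun ha 0
  simp [e0, Units.smul_def] at this

end basePoint

/-- The main theorem for `n ≥ 3`. -/
theorem no_cover_large [Fintype F] (k : ℕ) (hk : 2 ≤ k) (G : Subgroup (PG F (k + 1)))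
    (hG : ((Matrix.SpecialLinearGroup.toGL : Matrix.SpecialLinearGroup (Fin (k + 1)) F →* GL (Fin (k + 1)) F).range).map
      (QuotientGroup.mk' (Subgroup.center (GL (Fin (k + 1)) F))) ≤ G) :
    ¬ ∃ 𝓐 : Finset (Subgroup ↥G), ((∀ A ∈ 𝓐, A ≠ ⊤) ∧ (∀ g : ↥G, ∃ A ∈ 𝓐, g ∈ A)) ∧
      (∀ 𝓑 : Finset (Subgroup ↥G), (∀ A ∈ 𝓑, A ≠ ⊤) ∧ (∀ g : ↥G, ∃ A ∈ 𝓑, g ∈ A) → 𝓐.card ≤ 𝓑.card) ∧
      (∀ A ∈ 𝓐, Group.IsNilpotent ↥A) := by
  classical
  obtain ⟨k', rfl⟩ : ∃ k', k = k' + 1 := ⟨k - 1, by omega⟩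
  obtain ⟨p, hcp⟩ := CharP.exists F
  haveI : Fact p.Prime := ⟨CharP.char_is_prime F p⟩
  have hpp : p.Prime := Fact.out
  set q := Nat.card F with hq
  have hpq : p ∣ q := by
    rw [hq, Nat.card_eq_fintype_card]
    exact (CharP.cast_eq_zero_iff F p _).mp (Nat.cast_card_eq_zero F)
  obtain ⟨r, hr, hrN, M, v, hMv, hMe⟩ := exists_noEig F (k' + 1) hk
  haveI : Fact r.Prime := ⟨hr⟩
  have hrp : r ≠ p := by
    rintro rfl
    exact not_dvd_sum r q k' hr (Or.inl hpq) hrN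
  have hδ : M.det ^ (r ^ v) = 1 := by
    rw [← Matrix.det_pow, hMv, Matrix.det_one]
  have hδ0 : M.det ≠ 0 := by
    intro h
    rw [h, zero_pow (pow_ne_zero _ hr.ne_zero)] at hδ
    exact zero_ne_one hδ
  let x₀ : GL (Fin (k' + 1 + 1)) F := Matrix.SpecialLinearGroup.toGL (uSL F (k' + 1))
  let y₀ : GL (Fin (k' + 1 + 1)) F := Matrix.SpecialLinearGroup.toGL (ySL M hδ0)
  have hxval : (x₀ : Matrix _ _ F) = uMat F (k' + 1) := rfl
  have hyval : (y₀ : Matrix _ _ F) = blk (M.det)⁻¹ M := rfl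
  have hxord : x₀ ^ (p ^ (k' + 2)) = 1 := by
    apply Units.ext
    rw [Units.val_pow_eq_pow_val, hxval, Units.val_one]
    exact uMat_pow (k' + 1) (k' + 2) (Nat.lt_pow_self hpp.one_lt).le
  have hyord : y₀ ^ (r ^ v) = 1 := by
    apply Units.ext
    rw [Units.val_pow_eq_pow_val, hyval, Units.val_one, blk_pow, hMv, inv_pow, hδ, inv_one, blk_one]
  have hxu : ∀ L : Pt F (k' + 1 + 1), x₀ • L = L → L = pt0 F (k' + 1) := by
    apply uniq_of_eigen
    intro w c hw hwc i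
    exact uMat_eigen (k' + 1) w c hw hwc i
  have hyu : ∀ L : Pt F (k' + 1 + 1), y₀ • L = L → L = pt0 F (k' + 1) := by
    apply uniq_of_eigen
    intro w c hw hwc i
    have h1 : M *ᵥ (Fin.tail w) = c • Fin.tail w := by
      funext j
      have := congrFun hwc j.succ
      rw [hyval, blk_mulVec_succ] at this
      exact this
    have h2 := hMe _ c h1
    exact congrFun h2 i
  have hps : ¬ p ∣ Nat.card (Pt F (k' + 1 + 1)) := by
    rw [card_pt]
    exact not_dvd_sum p q (k' + 1) hpp (Or.inl hpq)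
  have hrs : ¬ r ∣ Nat.card (Pt F (k' + 1 + 1)) := by
    rw [card_pt]
    exact not_dvd_sum r q (k' + 1) hr (Or.inr hrN)
  refine no_cover_forced (slIn G hG (uSL F (k' + 1))) (slIn G hG (ySL M hδ0)) (bor G (pt0 F (k' + 1)))
    (bor_ne_top G hG _ _ (pt_ne k')) ?_ ?_ ?_
  · intro A hA hxA
    exact forced_le G A hA p (k' + 2) hps x₀ (mem_lift.mpr ⟨_, hxA, rfl⟩) hxord _ hxu
  · intro A hA hyA
    exact forced_le G A hA r v hrs y₀ (mem_lift.mpr ⟨_, hyA, rfl⟩) hyord _ hyu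
  · intro A hA hxA hyA
    have hnil := isNilpotent_lift G A hA
    have hxL : x₀ ∈ lift G A := mem_lift.mpr ⟨_, hxA, rfl⟩
    have hyL : y₀ ∈ lift G A := mem_lift.mpr ⟨_, hyA, rfl⟩
    have hcomm : (⟨x₀, hxL⟩ : ↥(lift G A)) * ⟨y₀, hyL⟩ = ⟨y₀, hyL⟩ * ⟨x₀, hxL⟩ := by
      apply commute_of_coprime
      rw [Subgroup.orderOf_mk, Subgroup.orderOf_mk]
      obtain ⟨a, _, ha⟩ := (Nat.dvd_prime_pow hpp).mp (orderOf_dvd_of_pow_eq_one hxord)
      obtain ⟨b, _, hb⟩ := (Nat.dvd_prime_pow hr).mp (orderOf_dvd_of_pow_eq_one hyord)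
      rw [ha, hb]
      exact Nat.Coprime.pow _ _ ((Nat.coprime_primes hpp hr).mpr hrp.symm)
    have h1 : x₀ * y₀ = y₀ * x₀ := congrArg Subtype.val hcomm
    have h2 : (x₀ : Matrix (Fin (k' + 1 + 1)) (Fin (k' + 1 + 1)) F) * (y₀ : Matrix (Fin (k' + 1 + 1)) (Fin (k' + 1 + 1)) F) = (y₀ : Matrix (Fin (k' + 1 + 1)) (Fin (k' + 1 + 1)) F) * (x₀ : Matrix (Fin (k' + 1 + 1)) (Fin (k' + 1 + 1)) F) := by
      rw [← Units.val_mul, ← Units.val_mul, h1]
    rw [hxval, hyval] at h2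
    exact uMat_blk_not_comm k' _ M hMe h2

end Cfsg.Agent.Lib.PGLCover
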