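import Mathlib
import Cfsg.Agent.Lib.NilpFix
import Cfsg.Agent.Lib.NilpForced
import Cfsg.Agent.Lib.PGLElems
import Cfsg.Agent.Lib.PGLCover

/-!
# Nilpotent subgroups of `PGL_2(F)`
-/

set_option autoImplicit false

namespace Cfsg.Agent.Lib.PGLCover2

open scoped LinearAlgebra.Projectivization Matrix MatrixGroups
open Cfsg.Agent.Lib.NilpFix Cfsg.Agent.Lib.NilpForced Cfsg.Agent.Lib.PGLElems
open Cfsg.Agent.Lib.PGLCover Cfsg.Agent.Lib.NilpCover

variable {F : Type*} [Field F]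

/-- The matrix `[[1,1],[0,1]]`. -/
def u2 (F : Type*) [Field F] : Matrix.SpecialLinearGroup (Fin 2) F :=
  ⟨!![1, 1; 0, 1], by simp [Matrix.det_fin_two]⟩

/-- Image in `GL`. -/
abbrev u2G (F : Type*) [Field F] : GL (Fin 2) F := Matrix.SpecialLinearGroup.toGL (u2 F)

lemma u2G_val : ((u2G F : GL (Fin 2) F) : Matrix (Fin 2) (Fin 2) F) = !![1, 1; 0, 1] := rfl

lemma u2_pow (t : ℕ) : (!![1, 1; 0, 1] : Matrix (Fin 2) (Fin 2) F) ^ t = !![1, (t : F); 0, 1] := by
  induction t with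
  | zero =>
    ext i j
    fin_cases i <;> fin_cases j <;> simp
  | succ t ih =>
    rw [pow_succ, ih]
    ext i j
    fin_cases i <;> fin_cases j <;> simp [Matrix.mul_apply, Fin.sum_univ_two] <;> ring

lemma u2G_pow (p : ℕ) [Fact p.Prime] [CharP F p] : (u2G F) ^ (p ^ 1) = 1 := by
  apply Units.ext
  rw [Units.val_pow_eq_pow_val, u2G_val, Units.val_one, pow_one, u2_pow, CharP.cast_eq_zero]
  ext i j
  fin_cases i <;> fin_cases j <;> simp

/-- The base point. -/
def e2 (F : Type*) [Field F] : Fin 2 → F := ![1, 0]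

lemma e2_ne : e2 F ≠ 0 := by
  intro h
  have := congrFun h 0
  simp [e2] at this

/-- The base point of the projective line. -/
def p0 (F : Type*) [Field F] : Pt F 2 := Projectivization.mk F (e2 F) e2_ne

lemma mk_eq_p0 (w : Fin 2 → F) (hw : w ≠ 0) (h : w 1 = 0) : Projectivization.mk F w hw = p0 F := by
  rw [p0, Projectivization.mk_eq_mk_iff']
  refine ⟨w 0, ?_⟩
  funext i
  fin_cases i
  · simp [e2]
  · simp [e2, h]

lemma eq_p0_of_u2 (L : Pt F 2) (h : (u2G F) • L = L) : L = p0 F := by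
  induction L using Projectivization.ind with
  | _ w hw =>
    rw [Projectivization.smul_mk, Projectivization.mk_eq_mk_iff'] at h
    obtain ⟨a, ha⟩ := h
    apply mk_eq_p0
    have h0 := congrFun ha 0
    have h1 := congrFun ha 1
    have e0 : ((u2G F) • w) 0 = w 0 + w 1 := by
      show ((u2G F : GL (Fin 2) F) : Matrix (Fin 2) (Fin 2) F).mulVec w 0 = _
      rw [u2G_val]
      simp [Matrix.mulVec, dotProduct, Fin.sum_univ_two]
    have e1 : ((u2G F) • w) 1 = w 1 := by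
      show ((u2G F : GL (Fin 2) F) : Matrix (Fin 2) (Fin 2) F).mulVec w 1 = _
      rw [u2G_val]
      simp [Matrix.mulVec, dotProduct, Fin.sum_univ_two]
    simp only [Pi.smul_apply, smul_eq_mul] at h0 h1
    rw [e0] at h0
    rw [e1] at h1
    by_contra hw1
    have ha1 : a = 1 := by
      have : (a - 1) * w 1 = 0 := by linear_combination h1
      have h2 := (mul_eq_zero.mp this).resolve_right hw1
      linear_combination h2
    rw [ha1] at h0
    apply hw1
    linear_combination -h0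

/-- An element fixing the base point has a zero lower left entry. -/
lemma entry_of_fix (g : GL (Fin 2) F) (h : g • p0 F = p0 F) :
    (g : Matrix (Fin 2) (Fin 2) F) 1 0 = 0 := by
  rw [p0, Projectivization.smul_mk, Projectivization.mk_eq_mk_iff'] at h
  obtain ⟨a, ha⟩ := h
  have h1 := congrFun ha 1
  have e1 : (g • e2 F) 1 = (g : Matrix (Fin 2) (Fin 2) F) 1 0 := by
    show (g : Matrix (Fin 2) (Fin 2) F).mulVec (e2 F) 1 = _
    simp [Matrix.mulVec, dotProduct, Fin.sum_univ_two, e2]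
  rw [e1] at h1
  rw [← h1]
  simp [e2]

lemma not_dvd_card_pt2 [Finite F] (s : ℕ) (hs : s.Prime) (h : s ∣ Nat.card F) :
    ¬ s ∣ Nat.card (Pt F 2) := by
  have h1 := card_pt (F := F) 1
  have h2 := not_dvd_sum s (Nat.card F) 1 hs (Or.inl h)
  rw [← h1] at h2
  exact h2

lemma charP_dvd_card [Finite F] (p : ℕ) [CharP F p] : p ∣ Nat.card F := by
  haveI := Fintype.ofFinite F
  rw [Nat.card_eq_fintype_card]
  exact (CharP.cast_eq_zero_iff F p _).mp (Nat.cast_card_eq_zero F)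

lemma pow_eq_one_of_char {p : ℕ} [Fact p.Prime] [CharP F p] (a : F) (l : ℕ) (h : a ^ (p ^ l) = 1) :
    a = 1 := by
  have h1 : (a - 1) ^ (p ^ l) = a ^ (p ^ l) - 1 ^ (p ^ l) := sub_pow_char_pow a 1 l
  rw [h, one_pow, sub_self] at h1
  have h2 := pow_eq_zero_iff (pow_ne_zero l (Fact.out : p.Prime).ne_zero) |>.mp h1
  exact sub_eq_zero.mp h2

/-- Powers of upper triangular matrices. -/
lemma upper_pow (M : Matrix (Fin 2) (Fin 2) F) (hM : M 1 0 = 0) (t : ℕ) :
    (M ^ t) 1 0 = 0 ∧ (M ^ t) 0 0 = (M 0 0) ^ t ∧ (M ^ t) 1 1 = (M 1 1) ^ t := by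
  induction t with
  | zero => simp
  | succ t ih =>
    obtain ⟨h1, h2, h3⟩ := ih
    rw [pow_succ]
    simp only [Matrix.mul_apply, Fin.sum_univ_two, h1, h2, h3, hM]
    simp [pow_succ]

/-- A nilpotent subgroup of `GL_2(F)` containing `u2` consists of matrices
`[[α, β], [0, α]]`. -/
theorem form_of_nilp [Finite F] (B : Subgroup (GL (Fin 2) F)) (hB : Group.IsNilpotent ↥B)
    (hu : u2G F ∈ B) (h : GL (Fin 2) F) (hh : h ∈ B) :
    (h : Matrix (Fin 2) (Fin 2) F) 1 0 = 0 ∧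
      (h : Matrix (Fin 2) (Fin 2) F) 0 0 = (h : Matrix (Fin 2) (Fin 2) F) 1 1 := by
  classical
  obtain ⟨p, hcp⟩ := CharP.exists F
  haveI : Fact p.Prime := ⟨CharP.char_is_prime F p⟩
  have hpp : p.Prime := Fact.out
  have hfix := forcing B hB p 1 (not_dvd_card_pt2 p hpp (charP_dvd_card p)) (u2G F) hu (u2G_pow p)
    (p0 F) eq_p0_of_u2
  have hlow : ∀ g ∈ B, (g : Matrix (Fin 2) (Fin 2) F) 1 0 = 0 := fun g hg =>
    entry_of_fix g (hfix g hg)
  refine ⟨hlow h hh, ?_⟩
  obtain ⟨s, t, hst, -, ⟨l, hl⟩, hcop, hsz, htz⟩ := exists_decomp p (⟨h, hh⟩ : ↥B)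
  have hs0 := hlow s s.2
  have ht0 := hlow t t.2
  -- `t` commutes with `u2`
  have hcomm : (t : ↥B) * ⟨u2G F, hu⟩ = ⟨u2G F, hu⟩ * t := by
    apply commute_of_coprime
    obtain ⟨a, _, ha⟩ := (Nat.dvd_prime_pow hpp).mp (orderOf_dvd_of_pow_eq_one (u2G_pow (F := F) p))
    have e : orderOf (⟨u2G F, hu⟩ : ↥B) = orderOf (u2G F) := Subgroup.orderOf_mk _ _
    rw [e, ha]
    exact Nat.Coprime.pow_right _ hcop
  have hcomm2 : ((t : GL (Fin 2) F) : Matrix (Fin 2) (Fin 2) F) * !![1, 1; 0, 1] =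
      !![1, 1; 0, 1] * ((t : GL (Fin 2) F) : Matrix (Fin 2) (Fin 2) F) := by
    have := congrArg (fun g : ↥B => ((g : GL (Fin 2) F) : Matrix (Fin 2) (Fin 2) F)) hcomm
    exact this
  have ht2 : ((t : GL (Fin 2) F) : Matrix (Fin 2) (Fin 2) F) 0 0 =
      ((t : GL (Fin 2) F) : Matrix (Fin 2) (Fin 2) F) 1 1 := by
    have := congrFun (congrFun hcomm2 0) 1
    simp [Matrix.mul_apply, Fin.sum_univ_two] at this
    linear_combination this
  -- `s` has ones on the diagonal
  have hsl : ((s : GL (Fin 2) F) : Matrix (Fin 2) (Fin 2) F) ^ (p ^ l) = 1 := by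
    have := congrArg (fun g : ↥B => ((g : GL (Fin 2) F) : Matrix (Fin 2) (Fin 2) F)) hl
    simpa using this
  obtain ⟨-, hs00, hs11⟩ := upper_pow _ hs0 (p ^ l)
  rw [hsl] at hs00 hs11
  have hs001 := pow_eq_one_of_char (p := p) _ l (by simpa using hs00.symm)
  have hs111 := pow_eq_one_of_char (p := p) _ l (by simpa using hs11.symm)
  have hprod : (h : Matrix (Fin 2) (Fin 2) F) =
      ((s : GL (Fin 2) F) : Matrix (Fin 2) (Fin 2) F) * ((t : GL (Fin 2) F) : Matrix (Fin 2) (Fin 2) F) := by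
    have := congrArg (fun g : ↥B => ((g : GL (Fin 2) F) : Matrix (Fin 2) (Fin 2) F)) hst
    simpa using this
  rw [hprod]
  simp only [Matrix.mul_apply, Fin.sum_univ_two, hs0, ht0, hs001, hs111, ht2]
  simp

/-- The image of `SL_2` in `PGL_2`. -/
def pslIm (F : Type*) [Field F] : Subgroup (PG F 2) :=
  ((Matrix.SpecialLinearGroup.toGL : Matrix.SpecialLinearGroup (Fin 2) F →* GL (Fin 2) F).range).map
    (QuotientGroup.mk' (Subgroup.center (GL (Fin 2) F)))

lemma det_of_form (h : GL (Fin 2) F) (h10 : (h : Matrix (Fin 2) (Fin 2) F) 1 0 = 0) :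
    (h : Matrix (Fin 2) (Fin 2) F) 0 0 * (h : Matrix (Fin 2) (Fin 2) F) 1 1 ≠ 0 := by
  have hdet : (h : Matrix (Fin 2) (Fin 2) F).det ≠ 0 := by
    have : IsUnit (h : Matrix (Fin 2) (Fin 2) F).det := (Matrix.isUnit_iff_isUnit_det _).mp h.isUnit
    exact this.ne_zero
  rw [Matrix.det_fin_two, h10, mul_zero, sub_zero] at hdet
  exact hdet

/-- An element of the form `[[α, β], [0, α]]` maps into `PSL_2`. -/
lemma form_mem (h : GL (Fin 2) F) (h10 : (h : Matrix (Fin 2) (Fin 2) F) 1 0 = 0)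
    (h00 : (h : Matrix (Fin 2) (Fin 2) F) 0 0 = (h : Matrix (Fin 2) (Fin 2) F) 1 1) :
    (h : PG F 2) ∈ pslIm F := by
  set M := (h : Matrix (Fin 2) (Fin 2) F) with hM
  have hα : M 0 0 ≠ 0 := by
    have := det_of_form h h10
    exact left_ne_zero_of_mul this
  let s : Matrix.SpecialLinearGroup (Fin 2) F := ⟨!![1, -(M 0 1 / M 0 0); 0, 1], by simp [Matrix.det_fin_two]⟩
  refine ⟨Matrix.SpecialLinearGroup.toGL s⁻¹, ⟨s⁻¹, rfl⟩, ?_⟩
  show ((Matrix.SpecialLinearGroup.toGL s⁻¹ : GL (Fin 2) F) : PG F 2) = (h : PG F 2)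
  rw [QuotientGroup.eq, map_inv, inv_inv]
  rw [Matrix.GeneralLinearGroup.mem_center_iff_val_mem_range_scalar]
  refine ⟨M 0 0, ?_⟩
  ext i j
  have e : ((Matrix.SpecialLinearGroup.toGL s * h : GL (Fin 2) F) : Matrix (Fin 2) (Fin 2) F) =
      !![1, -(M 0 1 / M 0 0); 0, 1] * M := rfl
  rw [e]
  fin_cases i <;> fin_cases j <;> simp [Matrix.mul_apply, Fin.sum_univ_two, Matrix.scalar_apply, h10, ← h00, hα]

lemma det_square (h : GL (Fin 2) F) (hh : (h : PG F 2) ∈ pslIm F) :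
    ∃ β : F, (h : Matrix (Fin 2) (Fin 2) F).det = β ^ 2 := by
  obtain ⟨_, ⟨s, rfl⟩, hs⟩ := hh
  have hs' : ((Matrix.SpecialLinearGroup.toGL s : GL (Fin 2) F) : PG F 2) = (h : PG F 2) := hs
  rw [QuotientGroup.eq, Matrix.GeneralLinearGroup.mem_center_iff_val_mem_range_scalar] at hs'
  obtain ⟨β, hβ⟩ := hs'
  refine ⟨β, ?_⟩
  have h1 : h = (Matrix.SpecialLinearGroup.toGL s : GL (Fin 2) F) *
      ((Matrix.SpecialLinearGroup.toGL s : GL (Fin 2) F)⁻¹ * h) := by group
  have h2 : (h : Matrix (Fin 2) (Fin 2) F) = (s : Matrix (Fin 2) (Fin 2) F) * Matrix.scalar (Fin 2) β := by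
    rw [hβ]
    conv_lhs => rw [h1]
    rfl
  rw [h2, Matrix.det_mul, s.2, one_mul, Matrix.det_fin_two]
  simp [Matrix.scalar_apply]
  ring

/-- Commuting modulo the centre. -/
lemma central_mul (z g : GL (Fin 2) F)
    (h : (z : PG F 2) * (g : PG F 2) = (g : PG F 2) * (z : PG F 2)) :
    ∃ μ : F, (z : Matrix (Fin 2) (Fin 2) F) * (g : Matrix (Fin 2) (Fin 2) F) =
      μ • ((g : Matrix (Fin 2) (Fin 2) F) * (z : Matrix (Fin 2) (Fin 2) F)) := by
  have h1 : ((g * z : GL (Fin 2) F) : PG F 2) = ((z * g : GL (Fin 2) F) : PG F 2) := by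
    rw [QuotientGroup.mk_mul, QuotientGroup.mk_mul, h]
  rw [QuotientGroup.eq, Matrix.GeneralLinearGroup.mem_center_iff_val_mem_range_scalar] at h1
  obtain ⟨μ, hμ⟩ := h1
  refine ⟨μ, ?_⟩
  have h2 : z * g = (g * z) * ((g * z)⁻¹ * (z * g)) := by group
  have h3 : ((z * g : GL (Fin 2) F) : Matrix (Fin 2) (Fin 2) F) =
      ((g * z : GL (Fin 2) F) : Matrix (Fin 2) (Fin 2) F) * Matrix.scalar (Fin 2) μ := by
    rw [hμ]
    conv_lhs => rw [h2]
    rfl
  have h4 : ((z * g : GL (Fin 2) F) : Matrix (Fin 2) (Fin 2) F) = (z : Matrix (Fin 2) (Fin 2) F) * (g : Matrix (Fin 2) (Fin 2) F) := rfl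
  have h5 : ((g * z : GL (Fin 2) F) : Matrix (Fin 2) (Fin 2) F) = (g : Matrix (Fin 2) (Fin 2) F) * (z : Matrix (Fin 2) (Fin 2) F) := rfl
  rw [h4, h5] at h3
  rw [h3]
  ext i j
  simp [Matrix.mul_apply, Matrix.scalar_apply, Fin.sum_univ_two, Matrix.diagonal_apply, mul_comm]

/-- Matrices commuting up to scalar with a non-scalar diagonal matrix of square determinant have
eigenvectors when their determinant is a square. -/
lemma eig_of_diag (g : Matrix (Fin 2) (Fin 2) F) (d1 d2 μ s s' : F) (hd : d1 ≠ d2) (hd1 : d1 ≠ 0)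
    (hd2 : d2 ≠ 0) (hrel : !![d1, 0; 0, d2] * g = μ • (g * !![d1, 0; 0, d2])) (hD : d1 * d2 = s ^ 2)
    (hg : g.det = s' ^ 2) : ∃ v : Fin 2 → F, v ≠ 0 ∧ ∃ κ : F, g *ᵥ v = κ • v := by
  have e00 := congrFun (congrFun hrel 0) 0
  have e01 := congrFun (congrFun hrel 0) 1
  have e10 := congrFun (congrFun hrel 1) 0
  have e11 := congrFun (congrFun hrel 1) 1
  simp [Matrix.mul_apply, Fin.sum_univ_two] at e00 e01 e10 e11
  by_cases hβ : g 0 1 = 0
  · refine ⟨![0, 1], ?_, g 1 1, ?_⟩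
    · intro h
      have := congrFun h 1
      simp at this
    · funext i
      fin_cases i <;> simp [Matrix.mulVec, dotProduct, Fin.sum_univ_two, hβ]
  by_cases hγ : g 1 0 = 0
  · refine ⟨![1, 0], ?_, g 0 0, ?_⟩
    · intro h
      have := congrFun h 0
      simp at this
    · funext i
      fin_cases i <;> simp [Matrix.mulVec, dotProduct, Fin.sum_univ_two, hγ]
  have h1 : d1 = μ * d2 := by
    have : g 0 1 * (d1 - μ * d2) = 0 := by linear_combination e01
    have := (mul_eq_zero.mp this).resolve_left hβ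
    linear_combination this
  have h2 : d2 = μ * d1 := by
    have : g 1 0 * (d2 - μ * d1) = 0 := by linear_combination e10
    have := (mul_eq_zero.mp this).resolve_left hγ
    linear_combination this
  have hμ1 : μ ≠ 1 := by
    rintro rfl
    apply hd
    rw [h1, one_mul]
  have hμ2 : μ = -1 := by
    have : (μ - 1) * (μ + 1) * d1 = 0 := by
      linear_combination -h1 - μ * h2
    have h3 : (μ - 1) * (μ + 1) = 0 := (mul_eq_zero.mp this).resolve_right hd1
    have h4 := (mul_eq_zero.mp h3).resolve_left (sub_ne_zero.mpr hμ1)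
    linear_combination h4
  have hα : g 0 0 = 0 := by
    have : (1 - μ) * d1 * g 0 0 = 0 := by linear_combination e00
    exact (mul_eq_zero.mp this).resolve_left (mul_ne_zero (sub_ne_zero.mpr hμ1.symm) hd1)
  have hδ : g 1 1 = 0 := by
    have : (1 - μ) * d2 * g 1 1 = 0 := by linear_combination e11
    exact (mul_eq_zero.mp this).resolve_left (mul_ne_zero (sub_ne_zero.mpr hμ1.symm) hd2)
  subst hμ2
  have hd12 : d1 = -d2 := by rw [h1]; ring
  -- `-1` is a square
  let i := s / d2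
  have hi : i ^ 2 = -1 := by
    show (s / d2) ^ 2 = -1
    rw [div_pow, ← hD, hd12]
    field_simp
  let w := i * s'
  have hw : w ^ 2 = g 0 1 * g 1 0 := by
    show (i * s') ^ 2 = _
    rw [mul_pow, hi, ← hg, Matrix.det_fin_two, hα, hδ]
    ring
  refine ⟨![g 0 1, w], ?_, w, ?_⟩
  · intro h
    have := congrFun h 0
    simp at this
    exact hβ this
  · funext j
    fin_cases j
    · simp [Matrix.mulVec, dotProduct, Fin.sum_univ_two, hα]
      ring
    · simp [Matrix.mulVec, dotProduct, Fin.sum_univ_two, hδ]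
      linear_combination -hw

/-- The diagonal element `diag(a, a⁻¹)`. -/
def tauSL (a : F) (ha : a ≠ 0) : Matrix.SpecialLinearGroup (Fin 2) F :=
  ⟨!![a, 0; 0, a⁻¹], by simp [Matrix.det_fin_two, ha]⟩

/-- The diagonal element in `GL`. -/
abbrev tauG (a : F) (ha : a ≠ 0) : GL (Fin 2) F := Matrix.SpecialLinearGroup.toGL (tauSL a ha)

lemma tauG_val (a : F) (ha : a ≠ 0) :
    ((tauG a ha : GL (Fin 2) F) : Matrix (Fin 2) (Fin 2) F) = !![a, 0; 0, a⁻¹] := rfl

/-- Elements of a nilpotent subgroup of `PSL_2(F)` containing a nontrivial diagonal element have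
eigenvectors. -/
theorem eig_of_nilp [Finite F] (G : Subgroup (PG F 2)) (hGS : G ≤ pslIm F) (C : Subgroup ↥G)
    (hC : Group.IsNilpotent ↥C) (a : F) (ha : a ≠ 0) (ha2 : a ^ 2 ≠ 1)
    (hτ : tauG a ha ∈ lift G C) (h : GL (Fin 2) F) (hh : h ∈ lift G C) :
    ∃ v : Fin 2 → F, v ≠ 0 ∧ ∃ κ : F, (h : Matrix (Fin 2) (Fin 2) F) *ᵥ v = κ • v := by
  classical
  obtain ⟨t, htC, htq⟩ := mem_lift.mp hτ
  obtain ⟨c, hcC, hcq⟩ := mem_lift.mp hh
  have hne : (⊤ : Subgroup ↥C) ≠ ⊥ := by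
    intro hbot
    have h1 : (⟨t, htC⟩ : ↥C) ∈ (⊤ : Subgroup ↥C) := trivial
    rw [hbot, Subgroup.mem_bot] at h1
    have h2 : t = 1 := congrArg Subtype.val h1
    rw [h2] at htq
    have h3 : tauG a ha ∈ Subgroup.center (GL (Fin 2) F) :=
      (QuotientGroup.eq_one_iff _).mp htq.symm
    rw [Matrix.GeneralLinearGroup.mem_center_iff_val_mem_range_scalar] at h3
    obtain ⟨β, hβ⟩ := h3
    rw [tauG_val] at hβ
    have e0 := congrFun (congrFun hβ 0) 0
    have e1 := congrFun (congrFun hβ 1) 1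
    simp [Matrix.scalar_apply] at e0 e1
    apply ha2
    have h34 : a⁻¹ = a := e1.symm.trans e0
    calc a ^ 2 = a * a⁻¹ := by rw [h34, pow_two]
      _ = 1 := mul_inv_cancel₀ ha
  obtain ⟨z, -, hz1, hzc⟩ := exists_central_of_normal (⊤ : Subgroup ↥C) hne
  obtain ⟨zh, hzh⟩ := QuotientGroup.mk_surjective (((z : ↥G) : PG F 2))
  have hcomm : ∀ y ∈ C, (zh : PG F 2) * (y : PG F 2) = (y : PG F 2) * (zh : PG F 2) := by
    intro y hy
    have h1 := Subgroup.mem_center_iff.mp hzc ⟨y, hy⟩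
    have h2 := congrArg (fun w : ↥C => (((w : ↥G) : PG F 2))) h1
    simp only [Subgroup.coe_mul] at h2
    rw [hzh]
    exact h2.symm
  obtain ⟨l, hl⟩ := central_mul zh (tauG a ha) (by rw [← htq]; exact hcomm t htC)
  obtain ⟨μ, hμ⟩ := central_mul zh h (by rw [← hcq]; exact hcomm c hcC)
  obtain ⟨s, hs⟩ := det_square zh (by rw [hzh]; exact hGS (z : ↥G).2)
  obtain ⟨s', hs'⟩ := det_square h (by rw [← hcq]; exact hGS c.2)
  set Z : Matrix (Fin 2) (Fin 2) F := (zh : Matrix (Fin 2) (Fin 2) F) with hZ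
  have hZdet : Z.det ≠ 0 := by
    have : IsUnit Z.det := (Matrix.isUnit_iff_isUnit_det _).mp zh.isUnit
    exact this.ne_zero
  rw [tauG_val] at hl
  have e00 := congrFun (congrFun hl 0) 0
  have e01 := congrFun (congrFun hl 0) 1
  have e10 := congrFun (congrFun hl 1) 0
  have e11 := congrFun (congrFun hl 1) 1
  simp [Matrix.mul_apply, Fin.sum_univ_two, Matrix.vecMul, dotProduct] at e00 e01 e10 e11
  have hainv : a⁻¹ ≠ 0 := inv_ne_zero ha
  have hZdet2 := hZdet
  rw [Matrix.det_fin_two] at hZdet2 hs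
  by_cases hdiag : Z 0 1 = 0 ∧ Z 1 0 = 0
  · obtain ⟨h01, h10⟩ := hdiag
    have hZform : Z = !![Z 0 0, 0; 0, Z 1 1] := by
      ext i j
      fin_cases i <;> fin_cases j <;> simp [h01, h10]
    have hne2 : Z 0 0 ≠ Z 1 1 := by
      intro heq
      apply hz1
      have h1 : zh ∈ Subgroup.center (GL (Fin 2) F) := by
        rw [Matrix.GeneralLinearGroup.mem_center_iff_val_mem_range_scalar]
        refine ⟨Z 0 0, ?_⟩
        show _ = Z
        rw [hZform]
        ext i j
        fin_cases i <;> fin_cases j <;> simp [Matrix.scalar_apply, heq, h01, h10]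
      have h2 : ((zh : GL (Fin 2) F) : PG F 2) = 1 := (QuotientGroup.eq_one_iff _).mpr h1
      rw [h2] at hzh
      apply Subtype.ext
      apply Subtype.ext
      exact hzh.symm
    rw [h01, h10, mul_zero, sub_zero] at hZdet2 hs
    refine eig_of_diag _ (Z 0 0) (Z 1 1) μ s s' hne2 (left_ne_zero_of_mul hZdet2)
      (right_ne_zero_of_mul hZdet2) ?_ hs hs'
    rw [← hZform]
    exact hμ
  · have hl1 : l ≠ 1 := by
      rintro rfl
      apply hdiag
      constructor
      · by_contra h01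
        apply ha2
        have : Z 0 1 * (a⁻¹ - a) = 0 := by linear_combination e01
        have h2 := (mul_eq_zero.mp this).resolve_left h01
        have h3 : a⁻¹ = a := sub_eq_zero.mp h2
        calc a ^ 2 = a * a⁻¹ := by rw [h3, pow_two]
          _ = 1 := mul_inv_cancel₀ ha
      · by_contra h10
        apply ha2
        have : Z 1 0 * (a - a⁻¹) = 0 := by linear_combination e10
        have h2 := (mul_eq_zero.mp this).resolve_left h10
        have h3 : a = a⁻¹ := sub_eq_zero.mp h2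
        calc a ^ 2 = a * a⁻¹ := by rw [← h3, pow_two]
          _ = 1 := mul_inv_cancel₀ ha
    have hc1 : Z 0 0 = 0 := by
      have : (1 - l) * a * Z 0 0 = 0 := by linear_combination e00
      exact (mul_eq_zero.mp this).resolve_left (mul_ne_zero (sub_ne_zero.mpr hl1.symm) ha)
    have hc4 : Z 1 1 = 0 := by
      have : (1 - l) * a⁻¹ * Z 1 1 = 0 := by linear_combination e11
      exact (mul_eq_zero.mp this).resolve_left (mul_ne_zero (sub_ne_zero.mpr hl1.symm) hainv)
    rw [hc1, hc4, zero_mul, zero_sub] at hZdet2 hs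
    have hc23 : Z 0 1 * Z 1 0 ≠ 0 := fun h0 => hZdet2 (by rw [h0, neg_zero])
    have hc2 := left_ne_zero_of_mul hc23
    have hc3 := right_ne_zero_of_mul hc23
    have h1 : a⁻¹ = l * a := by
      have : Z 0 1 * (a⁻¹ - l * a) = 0 := by linear_combination e01
      have h2 := (mul_eq_zero.mp this).resolve_left hc2
      exact sub_eq_zero.mp h2
    have h2 : a = l * a⁻¹ := by
      have : Z 1 0 * (a - l * a⁻¹) = 0 := by linear_combination e10
      have h2 := (mul_eq_zero.mp this).resolve_left hc3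
      exact sub_eq_zero.mp h2
    have hl2 : l = -1 := by
      have h3 : (l - 1) * (l + 1) * a = 0 := by
        linear_combination -h2 - l * h1
      have h4 := (mul_eq_zero.mp h3).resolve_right ha
      have h5 := (mul_eq_zero.mp h4).resolve_left (sub_ne_zero.mpr hl1)
      linear_combination h5
    subst hl2
    have haa : a ^ 2 = -1 := by
      have h3 : a⁻¹ * a = 1 := inv_mul_cancel₀ ha
      rw [h1] at h3
      linear_combination -h3
    have h2ne : (2 : F) ≠ 0 := by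
      intro h20
      apply hl1
      linear_combination -h20 / 1 + 0
    set w := a * s with hw
    have hw2 : w ^ 2 = Z 0 1 * Z 1 0 := by
      rw [hw, mul_pow, haa, ← hs]
      ring
    have hw0 : w ≠ 0 := by
      intro h0
      rw [h0] at hw2
      apply hc23
      rw [← hw2]
      ring
    let P : Matrix (Fin 2) (Fin 2) F := !![Z 0 1, Z 0 1; w, -w]
    let D : Matrix (Fin 2) (Fin 2) F := !![w, 0; 0, -w]
    have hPdet : P.det ≠ 0 := by
      have : P.det = -(2 * Z 0 1 * w) := by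
        rw [Matrix.det_fin_two]
        simp [P]
        ring
      rw [this]
      exact neg_ne_zero.mpr (mul_ne_zero (mul_ne_zero h2ne hc2) hw0)
    have hPu : IsUnit P.det := isUnit_iff_ne_zero.mpr hPdet
    have hZP : Z * P = P * D := by
      ext i j
      fin_cases i <;> fin_cases j <;> simp [P, D, Matrix.mul_apply, Fin.sum_univ_two, hc1, hc4]
      · linear_combination -hw2
      · linear_combination -hw2
    let g' : Matrix (Fin 2) (Fin 2) F := P⁻¹ * (h : Matrix (Fin 2) (Fin 2) F) * P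
    have hD' : D = P⁻¹ * Z * P := by
      rw [mul_assoc, hZP, ← mul_assoc, Matrix.nonsing_inv_mul _ hPu, one_mul]
    have hrel : D * g' = μ • (g' * D) := by
      calc D * g' = P⁻¹ * Z * P * (P⁻¹ * (h : Matrix (Fin 2) (Fin 2) F) * P) := by rw [← hD']
        _ = P⁻¹ * (Z * (P * P⁻¹) * (h : Matrix (Fin 2) (Fin 2) F)) * P := by
            simp only [mul_assoc]
        _ = P⁻¹ * (Z * (h : Matrix (Fin 2) (Fin 2) F)) * P := by
            rw [Matrix.mul_nonsing_inv _ hPu, mul_one]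
        _ = P⁻¹ * (μ • ((h : Matrix (Fin 2) (Fin 2) F) * Z)) * P := by rw [hμ]
        _ = μ • (P⁻¹ * (h : Matrix (Fin 2) (Fin 2) F) * (Z * P)) := by
            simp only [Matrix.mul_smul, Matrix.smul_mul, mul_assoc]
        _ = μ • (P⁻¹ * (h : Matrix (Fin 2) (Fin 2) F) * (P * D)) := by rw [hZP]
        _ = μ • (g' * D) := by simp only [g', mul_assoc]
    have hdet' : g'.det = s' ^ 2 := by
      rw [← hs']
      simp only [g', Matrix.det_mul]
      have h3 : P⁻¹.det * P.det = 1 := by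
        rw [← Matrix.det_mul, Matrix.nonsing_inv_mul _ hPu, Matrix.det_one]
      linear_combination ((h : Matrix (Fin 2) (Fin 2) F).det) * h3
    have hDD : w * (-w) = s ^ 2 := by
      rw [← hs]
      linear_combination -hw2
    have hnew : w ≠ -w := by
      intro h0
      have : 2 * w = 0 := by linear_combination h0
      exact (mul_ne_zero h2ne hw0) this
    obtain ⟨v, hv0, κ, hv⟩ := eig_of_diag g' w (-w) μ s s' hnew hw0 (neg_ne_zero.mpr hw0) hrel hDD hdet'
    refine ⟨P *ᵥ v, ?_, κ, ?_⟩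
    · intro h0
      apply hv0
      have h3 : P⁻¹ *ᵥ (P *ᵥ v) = v := by
        rw [Matrix.mulVec_mulVec, Matrix.nonsing_inv_mul _ hPu, Matrix.one_mulVec]
      rw [← h3, h0, Matrix.mulVec_zero]
    · have h3 : (h : Matrix (Fin 2) (Fin 2) F) * P = P * g' := by
        simp only [g', ← mul_assoc]
        rw [Matrix.mul_nonsing_inv _ hPu, one_mul]
      rw [Matrix.mulVec_mulVec, h3, ← Matrix.mulVec_mulVec, hv, Matrix.mulVec_smul]

/-- Conjugates of `u2`. -/
theorem form_conj [Finite F] (B : Subgroup (GL (Fin 2) F)) (hB : Group.IsNilpotent ↥B)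
    (g : GL (Fin 2) F) (hu : g * u2G F * g⁻¹ ∈ B) (h : GL (Fin 2) F) (hh : h ∈ B) :
    ((g⁻¹ * h * g : GL (Fin 2) F) : Matrix (Fin 2) (Fin 2) F) 1 0 = 0 ∧
      ((g⁻¹ * h * g : GL (Fin 2) F) : Matrix (Fin 2) (Fin 2) F) 0 0 =
        ((g⁻¹ * h * g : GL (Fin 2) F) : Matrix (Fin 2) (Fin 2) F) 1 1 := by
  let B' := B.map (MulAut.conj g⁻¹).toMonoidHom
  have hB' : Group.IsNilpotent ↥B' :=
    Group.nilpotent_of_mulEquiv (B.equivMapOfInjective _ (MulAut.conj g⁻¹).injective)
  have hu' : u2G F ∈ B' := ⟨_, hu, by simp [MulAut.conj_apply]; group⟩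
  have hh' : g⁻¹ * h * g ∈ B' := ⟨_, hh, by simp [MulAut.conj_apply]⟩
  exact form_of_nilp B' hB' hu' _ hh'

/-- `diag(a, a⁻¹)` with `a² ≠ 1` is not a scalar times a conjugate of a unipotent. -/
theorem tau_not_form (a : F) (ha : a ≠ 0) (ha2 : a ^ 2 ≠ 1) (g : GL (Fin 2) F)
    (h1 : ((g⁻¹ * tauG a ha * g : GL (Fin 2) F) : Matrix (Fin 2) (Fin 2) F) 1 0 = 0)
    (h2 : ((g⁻¹ * tauG a ha * g : GL (Fin 2) F) : Matrix (Fin 2) (Fin 2) F) 0 0 =
        ((g⁻¹ * tauG a ha * g : GL (Fin 2) F) : Matrix (Fin 2) (Fin 2) F) 1 1) : False := by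
  set H : Matrix (Fin 2) (Fin 2) F := ((g⁻¹ * tauG a ha * g : GL (Fin 2) F) : Matrix (Fin 2) (Fin 2) F) with hH
  set α := H 0 0 with hα
  have hN : (H - α • 1) * (H - α • 1) = 0 := by
    ext i j
    fin_cases i <;> fin_cases j <;>
      simp [Matrix.mul_apply, Fin.sum_univ_two, h1, ← h2, ← hα, Matrix.one_apply]
  have hT : ((tauG a ha : GL (Fin 2) F) : Matrix (Fin 2) (Fin 2) F) - α • 1 =
      (g : Matrix (Fin 2) (Fin 2) F) * (H - α • 1) * ((g⁻¹ : GL (Fin 2) F) : Matrix (Fin 2) (Fin 2) F) := by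
    have e1 : (g : Matrix (Fin 2) (Fin 2) F) * ((g⁻¹ : GL (Fin 2) F) : Matrix (Fin 2) (Fin 2) F) = 1 := by
      rw [← Units.val_mul, mul_inv_cancel, Units.val_one]
    have e2 : (g : Matrix (Fin 2) (Fin 2) F) * H * ((g⁻¹ : GL (Fin 2) F) : Matrix (Fin 2) (Fin 2) F) =
        ((tauG a ha : GL (Fin 2) F) : Matrix (Fin 2) (Fin 2) F) := by
      rw [hH, ← Units.val_mul, ← Units.val_mul]
      congr 1
      group
    rw [mul_sub, sub_mul, e2]
    congr 1
    rw [Matrix.mul_smul, mul_one, Matrix.smul_mul, e1]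
  have hT2 : (((tauG a ha : GL (Fin 2) F) : Matrix (Fin 2) (Fin 2) F) - α • 1) *
      (((tauG a ha : GL (Fin 2) F) : Matrix (Fin 2) (Fin 2) F) - α • 1) = 0 := by
    have e1 : ((g⁻¹ : GL (Fin 2) F) : Matrix (Fin 2) (Fin 2) F) * (g : Matrix (Fin 2) (Fin 2) F) = 1 := by
      rw [← Units.val_mul, inv_mul_cancel, Units.val_one]
    rw [hT]
    calc (g : Matrix (Fin 2) (Fin 2) F) * (H - α • 1) * ((g⁻¹ : GL (Fin 2) F) : Matrix (Fin 2) (Fin 2) F) *
          ((g : Matrix (Fin 2) (Fin 2) F) * (H - α • 1) * ((g⁻¹ : GL (Fin 2) F) : Matrix (Fin 2) (Fin 2) F))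
        = (g : Matrix (Fin 2) (Fin 2) F) * (H - α • 1) * (((g⁻¹ : GL (Fin 2) F) : Matrix (Fin 2) (Fin 2) F) *
          (g : Matrix (Fin 2) (Fin 2) F)) * (H - α • 1) * ((g⁻¹ : GL (Fin 2) F) : Matrix (Fin 2) (Fin 2) F) := by
            simp only [mul_assoc]
      _ = 0 := by
            rw [e1, mul_one, mul_assoc (g : Matrix (Fin 2) (Fin 2) F), hN]
            simp
  rw [tauG_val] at hT2
  have e0 := congrFun (congrFun hT2 0) 0
  have e1 := congrFun (congrFun hT2 1) 1
  simp [Matrix.mul_apply, Fin.sum_univ_two, Matrix.one_apply] at e0 e1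
  have h3 : a = α := by
    have := e0
    exact sub_eq_zero.mp this
  have h4 : a⁻¹ = α := by
    have := e1
    exact sub_eq_zero.mp this
  apply ha2
  have h34 : a⁻¹ = a := h4.trans h3.symm
  calc a ^ 2 = a * a⁻¹ := by rw [h34, pow_two]
    _ = 1 := mul_inv_cancel₀ ha

end Cfsg.Agent.Lib.PGLCover2
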