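import Mathlib
import Cfsg.Agent.Lib.PGLCover2

/-!
# Subgroups of `PGL_2(F)` containing `PSL_2(F)` have no nilpotent minimal cover
-/

set_option autoImplicit false

namespace Cfsg.Agent.Lib.PGLCover3

open scoped LinearAlgebra.Projectivization Matrix MatrixGroups
open Cfsg.Agent.Lib.NilpFix Cfsg.Agent.Lib.NilpForced Cfsg.Agent.Lib.PGLElems
open Cfsg.Agent.Lib.PGLCover Cfsg.Agent.Lib.PGLCover2

variable {F : Type*} [Field F]

/-- The matrix `[[0,1],[-1,0]]`. -/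
def w2 (F : Type*) [Field F] : Matrix.SpecialLinearGroup (Fin 2) F :=
  ⟨!![0, 1; -1, 0], by simp [Matrix.det_fin_two]⟩

/-- The matrix `[[1,0],[-1,1]]`. -/
def l2 (F : Type*) [Field F] : Matrix.SpecialLinearGroup (Fin 2) F :=
  ⟨!![1, 0; -1, 1], by simp [Matrix.det_fin_two]⟩

lemma l2_conj : (Matrix.SpecialLinearGroup.toGL (l2 F) : GL (Fin 2) F) =
    (Matrix.SpecialLinearGroup.toGL (w2 F) : GL (Fin 2) F) * u2G F *
      (Matrix.SpecialLinearGroup.toGL (w2 F) : GL (Fin 2) F)⁻¹ := by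
  rw [eq_mul_inv_iff_mul_eq]
  apply Units.ext
  ext i j
  show (!![1, 0; -1, 1] * !![0, 1; -1, 0] : Matrix (Fin 2) (Fin 2) F) i j =
    (!![0, 1; -1, 0] * !![1, 1; 0, 1] : Matrix (Fin 2) (Fin 2) F) i j
  fin_cases i <;> fin_cases j <;> simp [Matrix.mul_apply, Fin.sum_univ_two]

/-- The case `G ≠ PSL_2(F)`. -/
theorem no_cover_big [Finite F] (G : Subgroup (PG F 2)) (hG : pslIm F ≤ G) (hne : ¬ G ≤ pslIm F) :
    ¬ ∃ 𝓐 : Finset (Subgroup ↥G), ((∀ A ∈ 𝓐, A ≠ ⊤) ∧ (∀ g : ↥G, ∃ A ∈ 𝓐, g ∈ A)) ∧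
      (∀ 𝓑 : Finset (Subgroup ↥G), (∀ A ∈ 𝓑, A ≠ ⊤) ∧ (∀ g : ↥G, ∃ A ∈ 𝓑, g ∈ A) → 𝓐.card ≤ 𝓑.card) ∧
      (∀ A ∈ 𝓐, Group.IsNilpotent ↥A) := by
  classical
  have hwm : ((Matrix.SpecialLinearGroup.toGL (w2 F) : GL (Fin 2) F) : PG F 2) ∈ pslIm F :=
    ⟨_, ⟨w2 F, rfl⟩, rfl⟩
  refine no_cover_forced (slIn G hG (u2 F)) (slIn G hG (l2 F)) ((pslIm F).comap G.subtype) ?_ ?_ ?_ ?_
  · intro htop
    apply hne
    intro g hg
    have : (⟨g, hg⟩ : ↥G) ∈ (pslIm F).comap G.subtype := by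
      rw [htop]
      trivial
    exact this
  · intro A hA hxA a ha
    obtain ⟨h, hh⟩ := QuotientGroup.mk_surjective (a : PG F 2)
    have hL : h ∈ lift G A := mem_lift.mpr ⟨a, ha, hh.symm⟩
    have huL : u2G F ∈ lift G A := mem_lift.mpr ⟨_, hxA, rfl⟩
    obtain ⟨h1, h2⟩ := form_of_nilp _ (isNilpotent_lift G A hA) huL h hL
    show (a : PG F 2) ∈ pslIm F
    rw [← hh]
    exact form_mem h h1 h2
  · intro A hA hyA a ha
    obtain ⟨h, hh⟩ := QuotientGroup.mk_surjective (a : PG F 2)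
    have hL : h ∈ lift G A := mem_lift.mpr ⟨a, ha, hh.symm⟩
    have huL : (Matrix.SpecialLinearGroup.toGL (w2 F) : GL (Fin 2) F) * u2G F *
      (Matrix.SpecialLinearGroup.toGL (w2 F) : GL (Fin 2) F)⁻¹ ∈ lift G A := by
      rw [← l2_conj]
      exact mem_lift.mpr ⟨_, hyA, rfl⟩
    obtain ⟨h1, h2⟩ := form_conj _ (isNilpotent_lift G A hA) _ huL h hL
    have h3 := form_mem _ h1 h2
    show (a : PG F 2) ∈ pslIm F
    rw [← hh]
    have h4 : (h : PG F 2) = ((Matrix.SpecialLinearGroup.toGL (w2 F) : GL (Fin 2) F) : PG F 2) *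
        (((Matrix.SpecialLinearGroup.toGL (w2 F) : GL (Fin 2) F)⁻¹ * h * (Matrix.SpecialLinearGroup.toGL (w2 F) : GL (Fin 2) F) : GL (Fin 2) F) : PG F 2) *
        ((Matrix.SpecialLinearGroup.toGL (w2 F) : GL (Fin 2) F) : PG F 2)⁻¹ := by
      rw [← QuotientGroup.mk_mul, ← QuotientGroup.mk_inv, ← QuotientGroup.mk_mul]
      congr 1
      group
    rw [h4]
    exact (pslIm F).mul_mem ((pslIm F).mul_mem hwm h3) ((pslIm F).inv_mem hwm)
  · intro A hA hxA hyA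
    have hnil := isNilpotent_lift G A hA
    have huL : u2G F ∈ lift G A := mem_lift.mpr ⟨_, hxA, rfl⟩
    have hlL : (Matrix.SpecialLinearGroup.toGL (l2 F) : GL (Fin 2) F) ∈ lift G A :=
      mem_lift.mpr ⟨_, hyA, rfl⟩
    obtain ⟨h1, -⟩ := form_of_nilp _ hnil huL _ hlL
    have h2 : ((Matrix.SpecialLinearGroup.toGL (l2 F) : GL (Fin 2) F) : Matrix (Fin 2) (Fin 2) F) 1 0 = -1 := rfl
    rw [h2] at h1
    exact one_ne_zero (neg_eq_zero.mp h1)

lemma exists_a [Fintype F] (hq : 4 ≤ Fintype.card F) : ∃ a : F, a ≠ 0 ∧ a ^ 2 ≠ 1 := by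
  classical
  by_contra hno
  push Not at hno
  have hsub : (Finset.univ : Finset F) ⊆ {0, 1, -1} := by
    intro x _
    simp only [Finset.mem_insert, Finset.mem_singleton]
    by_cases hx : x = 0
    · exact Or.inl hx
    · right
      have h1 := hno x hx
      rw [pow_two] at h1
      exact mul_self_eq_one_iff.mp h1
  have := Finset.card_le_card hsub
  have h2 : ({0, 1, -1} : Finset F).card ≤ 3 := Finset.card_le_three
  rw [Finset.card_univ] at this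
  omega

/-- The case `G = PSL_2(F)`, `q ≥ 4`. -/
theorem no_cover_small [Fintype F] (hq : 4 ≤ Fintype.card F) (G : Subgroup (PG F 2))
    (hG : pslIm F ≤ G) (hGS : G ≤ pslIm F) :
    ¬ ∃ 𝓐 : Finset (Subgroup ↥G), ((∀ A ∈ 𝓐, A ≠ ⊤) ∧ (∀ g : ↥G, ∃ A ∈ 𝓐, g ∈ A)) ∧
      (∀ 𝓑 : Finset (Subgroup ↥G), (∀ A ∈ 𝓑, A ≠ ⊤) ∧ (∀ g : ↥G, ∃ A ∈ 𝓑, g ∈ A) → 𝓐.card ≤ 𝓑.card) ∧
      (∀ A ∈ 𝓐, Group.IsNilpotent ↥A) := by
  classical
  rintro ⟨𝓐, ⟨hprop, hcov⟩, hmin, hnil⟩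
  obtain ⟨p, hcp⟩ := CharP.exists F
  haveI : Fact p.Prime := ⟨CharP.char_is_prime F p⟩
  have hpp : p.Prime := Fact.out
  have hps : ¬ p ∣ Nat.card (Pt F 2) := not_dvd_card_pt2 p hpp (charP_dvd_card p)
  have hcard0 : Nat.card (Pt F 2) ≠ 0 := by
    intro h
    exact hps (h ▸ dvd_zero p)
  haveI : Finite (Pt F 2) := Nat.finite_of_card_ne_zero hcard0
  haveI : Fintype (Pt F 2) := Fintype.ofFinite _
  have hg : ∀ L : Pt F 2, ∃ g : Matrix.SpecialLinearGroup (Fin 2) F,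
      (Matrix.SpecialLinearGroup.toGL g : GL (Fin 2) F) • p0 F = L := fun L => sl_transitive _ L
  choose gg hgg using hg
  let GG : Pt F 2 → GL (Fin 2) F := fun L => Matrix.SpecialLinearGroup.toGL (gg L)
  let xS : Pt F 2 → Matrix.SpecialLinearGroup (Fin 2) F := fun L => gg L * u2 F * (gg L)⁻¹
  let xG : Pt F 2 → GL (Fin 2) F := fun L => GG L * u2G F * (GG L)⁻¹
  have hxS : ∀ L, (Matrix.SpecialLinearGroup.toGL (xS L) : GL (Fin 2) F) = xG L := by
    intro L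
    simp only [xS, xG, GG, map_mul, map_inv]
  let ξ : Pt F 2 → ↥G := fun L => slIn G hG (xS L)
  have hξval : ∀ L, ((ξ L : ↥G) : PG F 2) = (xG L : PG F 2) := by
    intro L
    rw [← hxS]
    rfl
  have hcovξ : ∀ L, ∃ A ∈ 𝓐, ξ L ∈ A := fun L => hcov _
  choose A hA hξ using hcovξ
  have huniq : ∀ L w, xG L • w = w → w = L := by
    intro L w hw
    have h1 : (GG L)⁻¹ • w = p0 F := by
      apply eq_p0_of_u2
      have h2 : (GG L * u2G F * (GG L)⁻¹) • w = w := hw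
      rw [mul_smul, mul_smul] at h2
      rw [← smul_left_cancel_iff (GG L), smul_inv_smul]
      exact h2
    rw [← hgg L]
    show w = GG L • p0 F
    rw [← h1, smul_inv_smul]
  have hord : ∀ L, xG L ^ (p ^ 1) = 1 := by
    intro L
    show (GG L * u2G F * (GG L)⁻¹) ^ (p ^ 1) = 1
    rw [conj_pow, u2G_pow p]
    group
  have hxL : ∀ L, xG L ∈ lift G (A L) := fun L => mem_lift.mpr ⟨_, hξ L, hξval L⟩
  have hAle : ∀ L, A L ≤ bor G L := fun L =>
    forced_le G (A L) (hnil _ (hA L)) p 1 hps _ (hxL L) (hord L) L (huniq L)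
  have hinj : Function.Injective A := by
    intro L L' heq
    have h1 : ξ L' ∈ bor G L := hAle L (by rw [heq]; exact hξ L')
    have h2 := smul_of_mem_bor h1 (h := xG L') (hξval L').symm
    exact huniq L' L h2
  obtain ⟨a, ha, ha2⟩ := exists_a hq
  let τ : ↥G := slIn G hG (tauSL a ha)
  obtain ⟨C, hC, hτC⟩ := hcov τ
  have hτL : tauG a ha ∈ lift G C := mem_lift.mpr ⟨τ, hτC, rfl⟩
  have hCne : ∀ L, C ≠ A L := by
    intro L hCA
    have h1 : xG L ∈ lift G C := by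
      rw [hCA]
      exact hxL L
    obtain ⟨h2, h3⟩ := form_conj _ (isNilpotent_lift G C (hnil C hC)) (GG L) h1 _ hτL
    exact tau_not_form a ha ha2 (GG L) h2 h3
  have hCfix : ∀ c ∈ C, ∃ L, c ∈ bor G L := by
    intro c hc
    obtain ⟨h, hh⟩ := QuotientGroup.mk_surjective (c : PG F 2)
    have hL : h ∈ lift G C := mem_lift.mpr ⟨c, hc, hh.symm⟩
    obtain ⟨v, hv, κ, hκ⟩ := eig_of_nilp G hGS C (hnil C hC) a ha ha2 hτL h hL
    refine ⟨Projectivization.mk F v hv, mem_bor_of hh ?_⟩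
    rw [Projectivization.smul_mk, Projectivization.mk_eq_mk_iff']
    exact ⟨κ, hκ.symm⟩
  -- two distinct points
  have hne2 : ∀ L : Pt F 2, ∃ L' : Pt F 2, L ≠ L' := by
    intro L
    let q1 : Pt F 2 := Projectivization.mk F ![0, 1] (by
      intro h
      have := congrFun h 1
      simp at this)
    have hpq : p0 F ≠ q1 := by
      intro h
      rw [p0, Projectivization.mk_eq_mk_iff'] at h
      obtain ⟨b, hb⟩ := h
      have := congrFun hb 0
      simp [e2] at this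
    by_cases hL : L = p0 F
    · exact ⟨q1, by rw [hL]; exact hpq⟩
    · exact ⟨p0 F, hL⟩
  let 𝓒 : Finset (Subgroup ↥G) := Finset.univ.image A
  let 𝓑₀ : Finset (Subgroup ↥G) := Finset.univ.image (bor G)
  let 𝓑 : Finset (Subgroup ↥G) := (𝓐 \ insert C 𝓒) ∪ 𝓑₀
  have hCnot : C ∉ 𝓒 := by
    intro h
    obtain ⟨L, -, hL⟩ := Finset.mem_image.mp h
    exact hCne L hL.symm
  have hcardC : (insert C 𝓒).card = Fintype.card (Pt F 2) + 1 := by
    rw [Finset.card_insert_of_notMem hCnot, Finset.card_image_of_injective _ hinj, Finset.card_univ]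
  have hsub : insert C 𝓒 ⊆ 𝓐 := by
    intro X hX
    rcases Finset.mem_insert.mp hX with rfl | hX
    · exact hC
    · obtain ⟨L, -, rfl⟩ := Finset.mem_image.mp hX
      exact hA L
  have hle := hmin 𝓑 ⟨by
      intro X hX
      rcases Finset.mem_union.mp hX with hX | hX
      · exact hprop X (Finset.mem_sdiff.mp hX).1
      · obtain ⟨L, -, rfl⟩ := Finset.mem_image.mp hX
        obtain ⟨L', hL'⟩ := hne2 L
        exact bor_ne_top G hG L L' hL', by
      intro g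
      obtain ⟨X, hX, hgX⟩ := hcov g
      by_cases hmem : X ∈ insert C 𝓒
      · rcases Finset.mem_insert.mp hmem with rfl | hX2
        · obtain ⟨L, hL⟩ := hCfix g hgX
          exact ⟨bor G L, Finset.mem_union_right _ (Finset.mem_image.mpr ⟨L, Finset.mem_univ _, rfl⟩), hL⟩
        · obtain ⟨L, -, rfl⟩ := Finset.mem_image.mp hX2
          exact ⟨bor G L, Finset.mem_union_right _ (Finset.mem_image.mpr ⟨L, Finset.mem_univ _, rfl⟩), hAle L hgX⟩
      · exact ⟨X, Finset.mem_union_left _ (Finset.mem_sdiff.mpr ⟨hX, hmem⟩), hgX⟩⟩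
  have h1 : 𝓑.card ≤ (𝓐 \ insert C 𝓒).card + 𝓑₀.card := Finset.card_union_le _ _
  have h2 : 𝓑₀.card ≤ Fintype.card (Pt F 2) := by
    rw [← Finset.card_univ]
    exact Finset.card_image_le
  have h3 : (𝓐 \ insert C 𝓒).card = 𝓐.card - (insert C 𝓒).card := Finset.card_sdiff_of_subset hsub
  have h4 := Finset.card_le_card hsub
  omega

end Cfsg.Agent.Lib.PGLCover3
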