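import Mathlib

/-!
If a `p`-group of odd index-like action has a fixed point on a set of size prime to `p`, all point
stabilizers are `p`-groups and any two points have a common nontrivial stabilizing element, then
any two Sylow `p`-subgroups meet nontrivially.
-/

set_option autoImplicit false

open scoped Pointwise

namespace Cfsg.Agent.Lib.SylowMeet

theorem sylow_inter {G α : Type*} [Group G] [Finite G] [MulAction G α] [Finite α]
    (p : ℕ) [Fact p.Prime] (hodd : ¬ p ∣ Nat.card α)
    (hstab : ∀ a : α, IsPGroup p (MulAction.stabilizer G a))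
    (hcommon : ∀ a b : α, ∃ t : G, t ≠ 1 ∧ t • a = a ∧ t • b = b)
    (H : Sylow p G) (x : G) :
    (H : Subgroup G) ⊓ MulAut.conj x • (H : Subgroup G) ≠ ⊥ := by
  obtain ⟨a, ha⟩ := H.isPGroup'.nonempty_fixed_point_of_prime_not_dvd_card α hodd
  have hle : (H : Subgroup G) ≤ MulAction.stabilizer G a := by
    intro h hh
    exact ha ⟨h, hh⟩
  have hEq : MulAction.stabilizer G a = (H : Subgroup G) := H.is_maximal' (hstab a) hle
  obtain ⟨s, hs1, hta, htb⟩ := hcommon a (x • a)
  intro hbot
  have hmem : s ∈ (H : Subgroup G) ⊓ MulAut.conj x • (H : Subgroup G) := by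
    constructor
    · rw [← hEq]; exact hta
    · show s ∈ MulAut.conj x • (H : Subgroup G)
      rw [Subgroup.mem_pointwise_smul_iff_inv_smul_mem, ← hEq]
      show _ • a = a
      have : ((MulAut.conj x)⁻¹ • s) = x⁻¹ * s * x := by
        simp [MulAut.smul_def]
      rw [this, mul_smul, mul_smul, htb, inv_smul_smul]
  rw [hbot] at hmem
  exact hs1 (Subgroup.mem_bot.mp hmem)

/-- Two-to-one surjections. -/
theorem card_two_to_one {X Y : Type*} [Finite X] [Finite Y] (f : X → Y)
    (hsurj : Function.Surjective f) (τ : X → X) (hτ : ∀ x, τ x ≠ x)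
    (hf : ∀ x x', f x = f x' ↔ x' = x ∨ x' = τ x) :
    Nat.card X = 2 * Nat.card Y := by
  classical
  haveI := Fintype.ofFinite X
  haveI := Fintype.ofFinite Y
  rw [Nat.card_eq_fintype_card, Nat.card_eq_fintype_card]
  rw [← Finset.card_univ (α := X), Finset.card_eq_sum_card_fiberwise (f := f) (t := Finset.univ)
    (fun _ _ => Finset.mem_univ _)]
  rw [Finset.sum_const_nat (m := 2)]
  · rw [Finset.card_univ, mul_comm]
  · intro y _
    obtain ⟨x, rfl⟩ := hsurj y
    have : (Finset.univ.filter (fun a => f a = f x)) = {x, τ x} := by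
      ext a
      simp only [Finset.mem_filter, Finset.mem_univ, true_and, Finset.mem_insert,
        Finset.mem_singleton]
      rw [eq_comm]
      exact hf x a
    rw [this]
    exact Finset.card_pair (hτ x).symm

end Cfsg.Agent.Lib.SylowMeet
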