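import Mathlib
import Cfsg.Agent.Lib.SL2Core
import Cfsg.Agent.Lib.SL2Torus
import Cfsg.Agent.Lib.SylowMeet
import Cfsg.Agent.Lib.ClassicalSmall

/-!
# Conjugacy class sizes of `PSL₂(F)`, by counting matrices with given trace.
-/

set_option autoImplicit false
set_option linter.unusedSectionVars false

namespace Cfsg.Agent.Lib.PSL2Classes

open Matrix Cfsg.Agent.Lib.SL2Core Cfsg.Agent.Lib.SylowMeet
open scoped MatrixGroups

/-- The index of a centralizer is the size of the class. -/
lemma index_centralizer_eq {G : Type*} [Group G] [Finite G] (x : G) :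
    (Subgroup.centralizer ({x} : Set G)).index = Nat.card {y : G // IsConj x y} := by
  have h0 : (Subgroup.centralizer ({x} : Set G)).index =
      (MulAction.stabilizer (ConjAct G) x).index := by
    have h1 := Subgroup.index_comap_of_surjective
      (f := (ConjAct.toConjAct (G := G)).toMonoidHom)
      (MulAction.stabilizer (ConjAct G) x) (ConjAct.toConjAct (G := G)).surjective
    exact (congrArg Subgroup.index (Subgroup.centralizer_eq_comap_stabilizer x)).trans h1
  rw [h0, MulAction.index_stabilizer, ConjAct.orbit_eq_carrier_conjClasses,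
    ← Nat.card_coe_set_eq]
  apply Nat.card_congr
  apply Equiv.subtypeEquivRight
  intro y
  rw [ConjClasses.mem_carrier_iff_mk_eq, ConjClasses.mk_eq_mk_iff_isConj]
  exact isConj_comm

variable {F : Type*} [Field F] [Fintype F]

/-- Matrices of given trace in `SL₂`. -/
abbrev T (τ : F) := {B : SL2 F // tr B = τ}

/-- The number of roots of `X² - τ X + 1`. -/
def R [DecidableEq F] (τ : F) : ℕ := (Finset.univ.filter (fun a : F => a * a - τ * a + 1 = 0)).card

lemma sum_c [DecidableEq F] (b D : F) : ∑ c : F, (if b * c = D then 1 else 0) =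
    if b = 0 then (if D = 0 then Fintype.card F else 0) else 1 := by
  by_cases hb : b = 0
  · subst hb
    simp only [zero_mul, if_true]
    by_cases hD : D = 0
    · subst hD
      simp
    · have : (0 : F) ≠ D := fun h => hD h.symm
      simp [this, hD]
  · rw [if_neg hb]
    have : ∀ c : F, (if b * c = D then 1 else 0) = if c = b⁻¹ * D then 1 else 0 := by
      intro c
      by_cases h : b * c = D
      · rw [if_pos h, if_pos]
        rw [← h]; field_simp
      · rw [if_neg h, if_neg]
        intro h2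
        apply h
        rw [h2]; field_simp
    simp only [this]
    simp

lemma sum_bc [DecidableEq F] (D : F) : ∑ b : F, ∑ c : F, (if b * c = D then 1 else 0) =
    (Fintype.card F - 1) + (if D = 0 then Fintype.card F else 0) := by
  simp only [sum_c]
  rw [← Finset.add_sum_erase Finset.univ _ (Finset.mem_univ (0 : F))]
  rw [if_pos rfl, add_comm]
  congr 1
  rw [Finset.sum_congr rfl (g := fun _ => 1)]
  · simp [Finset.card_erase_of_mem]
  · intro b hb
    rw [if_neg (Finset.ne_of_mem_erase hb)]

/-- Number of matrices in `SL₂` with trace `τ`. -/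
lemma card_T [DecidableEq F] (τ : F) :
    Nat.card (T τ) = Fintype.card F * (Fintype.card F - 1) + Fintype.card F * R τ := by
  classical
  let D : F → F := fun a => a * (τ - a) - 1
  have e : T τ ≃ {p : F × F × F // p.2.1 * p.2.2 = D p.1} :=
    { toFun := fun B => ⟨((B.1 : Matrix (Fin 2) (Fin 2) F) 0 0, (B.1 : Matrix (Fin 2) (Fin 2) F) 0 1,
        (B.1 : Matrix (Fin 2) (Fin 2) F) 1 0), by
          have h1 := det_entries B.1
          have h2 := B.2
          rw [tr_eq] at h2
          show _ = (B.1 : Matrix (Fin 2) (Fin 2) F) 0 0 * (τ - (B.1 : Matrix (Fin 2) (Fin 2) F) 0 0) - 1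
          show (B.1 : Matrix (Fin 2) (Fin 2) F) 0 1 * (B.1 : Matrix (Fin 2) (Fin 2) F) 1 0 = _
          linear_combination (-1 : F) * h1 + (B.1 : Matrix (Fin 2) (Fin 2) F) 0 0 * h2⟩
      invFun := fun p => ⟨mk2 p.1.1 p.1.2.1 p.1.2.2 (τ - p.1.1) (by
          have := p.2
          simp only [D] at this
          rw [this]; ring), by
          rw [tr_eq]
          simp⟩
      left_inv := by
        intro B
        apply Subtype.ext
        apply Subtype.ext
        have h2 := B.2
        rw [tr_eq] at h2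
        ext i j
        fin_cases i <;> fin_cases j
        · rfl
        · rfl
        · rfl
        · show τ - (B.1 : Matrix (Fin 2) (Fin 2) F) 0 0 = (B.1 : Matrix (Fin 2) (Fin 2) F) 1 1
          linear_combination (-1 : F) * h2
      right_inv := by
        intro p
        apply Subtype.ext
        rfl }
  rw [Nat.card_congr e, Nat.card_eq_fintype_card, Fintype.card_subtype, Finset.card_filter,
    Fintype.sum_prod_type]
  simp only [Fintype.sum_prod_type]
  simp only [sum_bc]
  rw [Finset.sum_add_distrib]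
  congr 1
  · simp
  · have h1 : ∀ a : F, D a = 0 ↔ a * a - τ * a + 1 = 0 := by
      intro a
      simp only [D]
      constructor
      · intro h; linear_combination (-1 : F) * h
      · intro h; linear_combination (-1 : F) * h
    simp only [h1]
    rw [Finset.sum_ite, Finset.sum_const_zero, add_zero, Finset.sum_const, smul_eq_mul, mul_comm, R]

/-- The map from matrices of the given trace to the class. -/
def toClass (A : SL2 F) (hτ : tr A * tr A ≠ 4) :
    T (tr A) → {y : PSL2 F // IsConj (proj A) y} := fun B => ⟨proj B.1, by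
  have hA : A ∉ Subgroup.center (SL2 F) := fun h => hτ (central_tr A h)
  have hB : B.1 ∉ Subgroup.center (SL2 F) := by
    intro h
    apply hτ
    have := central_tr B.1 h
    rwa [B.2] at this
  obtain ⟨U, hU⟩ := exists_conj A B.1 hA hB B.2.symm hτ
  rw [isConj_iff]
  exact ⟨proj U, by rw [← hU, map_mul, map_mul, map_inv]⟩⟩

lemma toClass_surjective (A : SL2 F) (hτ : tr A * tr A ≠ 4) :
    Function.Surjective (toClass A hτ) := by
  rintro ⟨y, hy⟩
  rw [isConj_iff] at hy
  obtain ⟨c, rfl⟩ := hy
  obtain ⟨U, rfl⟩ := proj_surjective c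
  refine ⟨⟨U * A * U⁻¹, tr_conj U A⟩, ?_⟩
  apply Subtype.ext
  show proj (U * A * U⁻¹) = _
  rw [map_mul, map_mul, map_inv]

/-- Classes of non-parabolic elements whose trace is not its own negative, or in char 2. -/
lemma index_eq_card_T (A : SL2 F) (hτ : tr A * tr A ≠ 4)
    (h : tr A ≠ - tr A ∨ (2 : F) = 0) :
    (Subgroup.centralizer ({proj A} : Set (PSL2 F))).index = Nat.card (T (tr A)) := by
  classical
  rw [index_centralizer_eq]
  symm
  apply Nat.card_congr
  refine Equiv.ofBijective (toClass A hτ) ⟨?_, toClass_surjective A hτ⟩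
  intro B B' hBB
  have h1 : proj B.1 = proj B'.1 := congrArg Subtype.val hBB
  rcases (proj_eq_proj_iff' _ _).1 h1 with h2 | h2
  · exact Subtype.ext h2.symm
  · have h3 : tr B'.1 = - tr B.1 := by rw [h2, tr_negS]
    rw [B.2, B'.2] at h3
    rcases h with h | h
    · exact absurd h3 h
    · apply Subtype.ext
      rw [h2]
      apply Subtype.ext
      rw [negS_coe]
      ext i j
      simp only [Matrix.neg_apply]
      have h5 : (2 : F) * (B.1 : Matrix (Fin 2) (Fin 2) F) i j = 0 := by rw [h, zero_mul]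
      linear_combination h5

/-- Classes of trace zero elements in odd characteristic. -/
lemma two_mul_index_eq_card_T (A : SL2 F) (hτ : tr A = 0) (h2 : (2 : F) ≠ 0) :
    2 * (Subgroup.centralizer ({proj A} : Set (PSL2 F))).index = Nat.card (T (tr A)) := by
  classical
  have hτ' : tr A * tr A ≠ 4 := by
    rw [hτ, mul_zero]
    intro h
    apply h2
    have h5 : (2 : F) * 2 = 0 := by linear_combination -h
    exact mul_self_eq_zero.mp h5
  rw [index_centralizer_eq]
  symm
  apply card_two_to_one (toClass A hτ') (toClass_surjective A hτ')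
    (fun B => ⟨negS B.1, by rw [tr_negS, B.2, hτ, neg_zero]⟩)
  · intro B hB
    have h1 : negS B.1 = B.1 := congrArg Subtype.val hB
    have h3 : ∀ i j, (B.1 : Matrix (Fin 2) (Fin 2) F) i j = 0 := by
      intro i j
      have h4 := congrArg (fun C : SL2 F => (C : Matrix (Fin 2) (Fin 2) F) i j) h1
      simp only [negS_coe, Matrix.neg_apply] at h4
      have h5 : 2 * (B.1 : Matrix (Fin 2) (Fin 2) F) i j = 0 := by
        rw [neg_eq_iff_add_eq_zero] at h4
        linear_combination h4
      exact (mul_eq_zero.mp h5).resolve_left h2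
    have h6 := det_entries B.1
    simp [h3] at h6
  · intro B B'
    constructor
    · intro h
      have h1 : proj B.1 = proj B'.1 := congrArg Subtype.val h
      rcases (proj_eq_proj_iff' _ _).1 h1 with h3 | h3
      · left; exact Subtype.ext h3
      · right; exact Subtype.ext h3
    · rintro (h | h)
      · rw [h]
      · apply Subtype.ext
        show proj B.1 = proj B'.1
        rw [h]
        show proj B.1 = proj (negS B.1)
        rw [proj_negS]

lemma comp00 (s : F) : ((Cfsg.Agent.Lib.SL2Core.comp s : SL2 F) : Matrix (Fin 2) (Fin 2) F) 0 0 = 0 := rfl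
lemma comp01 (s : F) : ((Cfsg.Agent.Lib.SL2Core.comp s : SL2 F) : Matrix (Fin 2) (Fin 2) F) 0 1 = -1 := rfl
lemma comp10 (s : F) : ((Cfsg.Agent.Lib.SL2Core.comp s : SL2 F) : Matrix (Fin 2) (Fin 2) F) 1 0 = 1 := rfl
lemma comp11 (s : F) : ((Cfsg.Agent.Lib.SL2Core.comp s : SL2 F) : Matrix (Fin 2) (Fin 2) F) 1 1 = s := rfl

lemma entries_of_comm (τ : F) (B : SL2 F)
    (hB : B * Cfsg.Agent.Lib.SL2Core.comp τ = Cfsg.Agent.Lib.SL2Core.comp τ * B) :
    (B : Matrix (Fin 2) (Fin 2) F) 0 1 = -(B : Matrix (Fin 2) (Fin 2) F) 1 0 ∧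
    (B : Matrix (Fin 2) (Fin 2) F) 1 1 = (B : Matrix (Fin 2) (Fin 2) F) 0 0 + τ * (B : Matrix (Fin 2) (Fin 2) F) 1 0 := by
  have h0 := congrArg (fun C : SL2 F => (C : Matrix (Fin 2) (Fin 2) F) 0 0) hB
  have h1 := congrArg (fun C : SL2 F => (C : Matrix (Fin 2) (Fin 2) F) 1 0) hB
  simp only [Matrix.SpecialLinearGroup.coe_mul, mul2, comp00, comp01, comp10, comp11] at h0 h1
  constructor
  · linear_combination h0
  · linear_combination h1

lemma comm_of_entries (τ : F) (B : SL2 F)
    (h2 : (B : Matrix (Fin 2) (Fin 2) F) 0 1 = -(B : Matrix (Fin 2) (Fin 2) F) 1 0)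
    (h3 : (B : Matrix (Fin 2) (Fin 2) F) 1 1 = (B : Matrix (Fin 2) (Fin 2) F) 0 0 + τ * (B : Matrix (Fin 2) (Fin 2) F) 1 0) :
    B * Cfsg.Agent.Lib.SL2Core.comp τ = Cfsg.Agent.Lib.SL2Core.comp τ * B := by
  apply Subtype.ext
  ext i j
  fin_cases i <;> fin_cases j
  · show ((B * Cfsg.Agent.Lib.SL2Core.comp τ : SL2 F) : Matrix (Fin 2) (Fin 2) F) 0 0 =
      ((Cfsg.Agent.Lib.SL2Core.comp τ * B : SL2 F) : Matrix (Fin 2) (Fin 2) F) 0 0
    simp only [Matrix.SpecialLinearGroup.coe_mul, mul2, comp00, comp01, comp10, comp11]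
    linear_combination h2
  · show ((B * Cfsg.Agent.Lib.SL2Core.comp τ : SL2 F) : Matrix (Fin 2) (Fin 2) F) 0 1 =
      ((Cfsg.Agent.Lib.SL2Core.comp τ * B : SL2 F) : Matrix (Fin 2) (Fin 2) F) 0 1
    simp only [Matrix.SpecialLinearGroup.coe_mul, mul2, comp00, comp01, comp10, comp11]
    linear_combination τ * h2 + h3
  · show ((B * Cfsg.Agent.Lib.SL2Core.comp τ : SL2 F) : Matrix (Fin 2) (Fin 2) F) 1 0 =
      ((Cfsg.Agent.Lib.SL2Core.comp τ * B : SL2 F) : Matrix (Fin 2) (Fin 2) F) 1 0
    simp only [Matrix.SpecialLinearGroup.coe_mul, mul2, comp00, comp01, comp10, comp11]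
    linear_combination h3
  · show ((B * Cfsg.Agent.Lib.SL2Core.comp τ : SL2 F) : Matrix (Fin 2) (Fin 2) F) 1 1 =
      ((Cfsg.Agent.Lib.SL2Core.comp τ * B : SL2 F) : Matrix (Fin 2) (Fin 2) F) 1 1
    simp only [Matrix.SpecialLinearGroup.coe_mul, mul2, comp00, comp01, comp10, comp11]
    linear_combination (-1 : F) * h2

/-- Centralizers of parabolic elements -/
lemma card_centralizer_comp (τ ε : F) (hτ : τ = 2 * ε) (hε : ε * ε = 1) :
    Nat.card {B : SL2 F // B * Cfsg.Agent.Lib.SL2Core.comp τ = Cfsg.Agent.Lib.SL2Core.comp τ * B} =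
      Nat.card {w : F // w * w = 1} * Fintype.card F := by
  classical
  have e : {B : SL2 F // B * Cfsg.Agent.Lib.SL2Core.comp τ = Cfsg.Agent.Lib.SL2Core.comp τ * B} ≃
      {w : F // w * w = 1} × F :=
    { toFun := fun B => (⟨(B.1 : Matrix (Fin 2) (Fin 2) F) 0 0 + ε * (B.1 : Matrix (Fin 2) (Fin 2) F) 1 0, by
          have h1 := det_entries B.1
          obtain ⟨h2, h3⟩ := entries_of_comm τ B.1 B.2
          linear_combination h1 - (B.1 : Matrix (Fin 2) (Fin 2) F) 0 0 * h3 +
            (B.1 : Matrix (Fin 2) (Fin 2) F) 1 0 * h2 -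
            (B.1 : Matrix (Fin 2) (Fin 2) F) 0 0 * (B.1 : Matrix (Fin 2) (Fin 2) F) 1 0 * hτ +
            ((B.1 : Matrix (Fin 2) (Fin 2) F) 1 0) ^ 2 * hε⟩,
        (B.1 : Matrix (Fin 2) (Fin 2) F) 1 0)
      invFun := fun p => ⟨mk2 (p.1.1 - ε * p.2) (-p.2) p.2 (p.1.1 + ε * p.2) (by
          have := p.1.2
          linear_combination this - p.2 ^ 2 * hε), by
          apply comm_of_entries
          · rfl
          · show p.1.1 + ε * p.2 = p.1.1 - ε * p.2 + τ * p.2
            rw [hτ]; ring⟩
      left_inv := by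
        intro B
        obtain ⟨h2, h3⟩ := entries_of_comm τ B.1 B.2
        apply Subtype.ext
        apply Subtype.ext
        ext i j
        fin_cases i <;> fin_cases j
        · show (B.1 : Matrix (Fin 2) (Fin 2) F) 0 0 + ε * (B.1 : Matrix (Fin 2) (Fin 2) F) 1 0 -
            ε * (B.1 : Matrix (Fin 2) (Fin 2) F) 1 0 = (B.1 : Matrix (Fin 2) (Fin 2) F) 0 0
          ring
        · show -(B.1 : Matrix (Fin 2) (Fin 2) F) 1 0 = (B.1 : Matrix (Fin 2) (Fin 2) F) 0 1
          exact h2.symm
        · rfl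
        · show (B.1 : Matrix (Fin 2) (Fin 2) F) 0 0 + ε * (B.1 : Matrix (Fin 2) (Fin 2) F) 1 0 +
            ε * (B.1 : Matrix (Fin 2) (Fin 2) F) 1 0 = (B.1 : Matrix (Fin 2) (Fin 2) F) 1 1
          linear_combination (-1 : F) * h3 - (B.1 : Matrix (Fin 2) (Fin 2) F) 1 0 * hτ
      right_inv := by
        intro p
        apply Prod.ext
        · apply Subtype.ext
          show p.1.1 - ε * p.2 + ε * p.2 = p.1.1
          ring
        · rfl }
  rw [Nat.card_congr e, Nat.card_prod, Nat.card_eq_fintype_card (α := F)]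

lemma conjGL_inv_conjGL (Q : GL (Fin 2) F) (B : SL2 F) : conjGL Q⁻¹ (conjGL Q B) = B := by
  apply Subtype.ext
  simp only [conjGL_coe]
  rw [inv_inv]
  have h1 : ((Q⁻¹ : GL (Fin 2) F) : Matrix (Fin 2) (Fin 2) F) * (Q : Matrix (Fin 2) (Fin 2) F) = 1 := by
    rw [← Matrix.GeneralLinearGroup.coe_mul]; simp
  calc _ = (((Q⁻¹ : GL (Fin 2) F) : Matrix (Fin 2) (Fin 2) F) * (Q : Matrix (Fin 2) (Fin 2) F)) * (B : Matrix (Fin 2) (Fin 2) F) *
        (((Q⁻¹ : GL (Fin 2) F) : Matrix (Fin 2) (Fin 2) F) * (Q : Matrix (Fin 2) (Fin 2) F)) := by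
          simp only [Matrix.mul_assoc]
    _ = _ := by rw [h1]; simp

/-- Conjugation by an element of `GL₂`, as an equivalence. -/
def conjEquiv (Q : GL (Fin 2) F) : SL2 F ≃ SL2 F where
  toFun := conjGL Q
  invFun := conjGL Q⁻¹
  left_inv := conjGL_inv_conjGL Q
  right_inv := fun B => by
    have := conjGL_inv_conjGL Q⁻¹ B
    rwa [inv_inv] at this

/-- The centralizer of an arbitrary noncentral element, transported. -/
lemma card_centralizer_eq (A : SL2 F) (hA : A ∉ Subgroup.center (SL2 F)) :
    Nat.card (Subgroup.centralizer ({A} : Set (SL2 F))) =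
      Nat.card {B : SL2 F // B * Cfsg.Agent.Lib.SL2Core.comp (tr A) = Cfsg.Agent.Lib.SL2Core.comp (tr A) * B} := by
  classical
  obtain ⟨Q, hQ⟩ := exists_companion A hA
  have hA' : A = conjGL Q (Cfsg.Agent.Lib.SL2Core.comp (tr A)) := Subtype.ext hQ
  symm
  apply Nat.card_congr
  refine Equiv.subtypeEquiv (conjEquiv Q) ?_
  intro B
  show _ ↔ conjGL Q B ∈ Subgroup.centralizer ({A} : Set (SL2 F))
  rw [Subgroup.mem_centralizer_singleton_iff]
  constructor
  · intro h
    conv_lhs => rw [hA']
    conv_rhs => rw [hA']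
    rw [← map_mul, ← map_mul, h]
  · intro h
    rw [hA', ← map_mul, ← map_mul] at h
    have h2 := congrArg (conjGL Q⁻¹) h
    rwa [conjGL_inv_conjGL, conjGL_inv_conjGL] at h2

lemma negS_eq_of_two (h : (2 : F) = 0) (X : SL2 F) : negS X = X := by
  apply Subtype.ext
  rw [negS_coe]
  ext i j
  simp only [Matrix.neg_apply]
  have h5 : (2 : F) * (X : Matrix (Fin 2) (Fin 2) F) i j = 0 := by rw [h, zero_mul]
  rw [neg_eq_iff_add_eq_zero]
  linear_combination h5

/-- Parabolic elements: comparison with the centralizer in `SL₂`. -/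
lemma index_parabolic (A : SL2 F) (hA : A ∉ Subgroup.center (SL2 F)) (hτ : tr A * tr A = 4) :
    (Subgroup.centralizer ({proj A} : Set (PSL2 F))).index *
        (Nat.card {w : F // w * w = 1} * Fintype.card F) =
      (Fintype.card F + 1) * Fintype.card F * (Fintype.card F - 1) := by
  classical
  -- the half-trace
  obtain ⟨ε, hε1, hε2⟩ : ∃ ε : F, tr A = 2 * ε ∧ ε * ε = 1 := by
    by_cases h2 : (2 : F) = 0
    · refine ⟨1, ?_, by simp⟩
      rw [h2, zero_mul]
      have : tr A * tr A = 0 := by rw [hτ]; linear_combination (2 : F) * h2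
      exact mul_self_eq_zero.mp this
    · refine ⟨tr A / 2, by field_simp, ?_⟩
      field_simp
      linear_combination hτ
  -- reduction to the centralizer in `SL₂`
  have hcomap : (Subgroup.centralizer ({proj A} : Set (PSL2 F))).comap (proj (F := F)) =
      Subgroup.centralizer ({A} : Set (SL2 F)) := by
    ext B
    rw [Subgroup.mem_comap, Subgroup.mem_centralizer_singleton_iff,
      Subgroup.mem_centralizer_singleton_iff]
    constructor
    · intro h
      rw [← map_mul, ← map_mul] at h
      rcases (proj_eq_proj_iff' _ _).1 h with h3 | h3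
      · exact h3.symm
      · -- traces
        have h5 : A = negS (B * A * B⁻¹) := by
          apply Subtype.ext
          calc (A : Matrix (Fin 2) (Fin 2) F) = ((A * B * B⁻¹ : SL2 F) : Matrix (Fin 2) (Fin 2) F) := by
                rw [mul_inv_cancel_right]
            _ = _ := by
                rw [Matrix.SpecialLinearGroup.coe_mul, h3, negS_coe, Matrix.neg_mul, negS_coe,
                  Matrix.SpecialLinearGroup.coe_mul (B * A)]
        have h6 : tr A = - tr A := by
          conv_lhs => rw [h5, tr_negS, tr_conj]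
        have h7 : (2 : F) = 0 := by
          have h8 : ε ≠ 0 := by
            intro h9
            rw [h9] at hε2
            simp at hε2
          have h9 : (2 : F) * 2 * ε = 0 := by
            rw [hε1] at h6
            linear_combination h6
          exact mul_self_eq_zero.mp ((mul_eq_zero.mp h9).resolve_right h8)
        rw [h3, negS_eq_of_two h7]
    · intro h
      rw [← map_mul, ← map_mul, h]
  have h1 := Subgroup.index_comap_of_surjective
    (Subgroup.centralizer ({proj A} : Set (PSL2 F))) (proj_surjective (F := F))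
  rw [hcomap] at h1
  rw [← h1]
  have h2 := (Subgroup.centralizer ({A} : Set (SL2 F))).index_mul_card
  rw [card_centralizer_eq A hA, card_centralizer_comp (tr A) ε hε1 hε2,
    Cfsg.Agent.Lib.ClassicalSmall.card_SL2] at h2
  exact h2

lemma R_eq_two [DecidableEq F] (τ r : F) (hτ : τ * τ ≠ 4) (hr : r * r - τ * r + 1 = 0) : R τ = 2 := by
  have h1 : (Finset.univ.filter (fun a : F => a * a - τ * a + 1 = 0)) = {r, τ - r} := by
    ext a
    simp only [Finset.mem_filter, Finset.mem_univ, true_and, Finset.mem_insert,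
      Finset.mem_singleton]
    constructor
    · intro h
      have h2 : (a - r) * (a - (τ - r)) = 0 := by linear_combination h - hr
      rcases mul_eq_zero.mp h2 with h3 | h3
      · left; linear_combination h3
      · right; linear_combination h3
    · rintro (rfl | rfl)
      · exact hr
      · linear_combination hr
  unfold R
  rw [h1]
  apply Finset.card_pair
  intro h
  apply hτ
  have h2 : τ = 2 * r := by linear_combination (-1 : F) * h
  rw [h2] at hr ⊢
  have h3 : r * r = 1 := by linear_combination (-1 : F) * hr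
  linear_combination 4 * h3

lemma R_eq_zero [DecidableEq F] (τ : F) (h : ∀ l : F, l * l - τ * l + 1 ≠ 0) : R τ = 0 := by
  unfold R
  rw [Finset.card_eq_zero, Finset.filter_eq_empty_iff]
  exact fun a _ => h a

lemma index_of_center (A : SL2 F) (hA : A ∈ Subgroup.center (SL2 F)) :
    (Subgroup.centralizer ({proj A} : Set (PSL2 F))).index = 1 := by
  rw [(proj_eq_one_iff A).2 hA]
  have : Subgroup.centralizer ({1} : Set (PSL2 F)) = ⊤ := by
    ext x
    simp [Subgroup.mem_centralizer_singleton_iff]
  rw [this, Subgroup.index_top]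

lemma comp_not_center (s : F) : Cfsg.Agent.Lib.SL2Core.comp s ∉ Subgroup.center (SL2 F) := by
  rw [mem_center_iff']
  rintro ⟨-, h, -⟩
  simp [comp10] at h

lemma tr_comp' (s : F) : tr (Cfsg.Agent.Lib.SL2Core.comp s : SL2 F) = s := by
  rw [tr_eq, comp00, comp11, zero_add]

/-- number of square roots of one, odd characteristic -/
lemma card_sqrt_one_odd (h2 : (2 : F) ≠ 0) : Nat.card {w : F // w * w = 1} = 2 := by
  classical
  have : (Finset.univ.filter (fun w : F => w * w = 1)) = {1, -1} := by
    ext a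
    simp [mul_self_eq_one_iff]
  rw [Nat.card_eq_fintype_card, Fintype.card_subtype, this]
  apply Finset.card_pair
  intro h
  apply h2
  linear_combination h

lemma card_sqrt_one_even (h2 : (2 : F) = 0) : Nat.card {w : F // w * w = 1} = 1 := by
  classical
  have : (Finset.univ.filter (fun w : F => w * w = 1)) = {1} := by
    ext a
    simp only [Finset.mem_filter, Finset.mem_univ, true_and, Finset.mem_singleton]
    constructor
    · intro h
      have : (a - 1) * (a - 1) = 0 := by linear_combination h - a * h2 + h2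
      have := mul_self_eq_zero.mp this
      linear_combination this
    · rintro rfl
      simp
  rw [Nat.card_eq_fintype_card, Fintype.card_subtype, this]
  simp

/-- Existence of an element of large multiplicative order. -/
lemma exists_elem (n : ℕ) (hn : 0 < n) (h : n + 1 < Fintype.card F) : ∃ r : F, r ≠ 0 ∧ r ^ n ≠ 1 := by
  classical
  obtain ⟨w, hw⟩ := IsCyclic.exists_ofOrder_eq_natCard (α := Fˣ)
  rw [Nat.card_eq_fintype_card, Fintype.card_units] at hw
  refine ⟨(w : F), w.ne_zero, ?_⟩
  intro h1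
  have h2 : w ^ n = 1 := Units.ext (by simpa using h1)
  have h3 := orderOf_dvd_of_pow_eq_one h2
  have h4 := Nat.le_of_dvd hn h3
  omega

lemma index_split (A : SL2 F) (hτ : tr A * tr A ≠ 4) (h : tr A ≠ - tr A ∨ (2 : F) = 0)
    (r : F) (hr : r * r - tr A * r + 1 = 0) :
    (Subgroup.centralizer ({proj A} : Set (PSL2 F))).index =
      Fintype.card F * (Fintype.card F + 1) := by
  classical
  rw [index_eq_card_T A hτ h, card_T, R_eq_two _ r hτ hr]
  have : 0 < Fintype.card F := Fintype.card_pos
  obtain ⟨m, hm⟩ : ∃ m, Fintype.card F = m + 1 := ⟨Fintype.card F - 1, by omega⟩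
  rw [hm]
  simp only [Nat.add_sub_cancel]
  ring

lemma index_nonsplit (A : SL2 F) (hτ : tr A * tr A ≠ 4) (h : tr A ≠ - tr A ∨ (2 : F) = 0)
    (hr : ∀ l : F, l * l - tr A * l + 1 ≠ 0) :
    (Subgroup.centralizer ({proj A} : Set (PSL2 F))).index =
      Fintype.card F * (Fintype.card F - 1) := by
  classical
  rw [index_eq_card_T A hτ h, card_T, R_eq_zero _ hr]
  simp

lemma two_index_zero_split (A : SL2 F) (hτ : tr A = 0) (h2 : (2 : F) ≠ 0)
    (r : F) (hr : r * r = -1) :
    2 * (Subgroup.centralizer ({proj A} : Set (PSL2 F))).index =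
      Fintype.card F * (Fintype.card F + 1) := by
  classical
  have hτ' : tr A * tr A ≠ 4 := by
    rw [hτ, mul_zero]
    intro h
    apply h2
    have h5 : (2 : F) * 2 = 0 := by linear_combination -h
    exact mul_self_eq_zero.mp h5
  rw [two_mul_index_eq_card_T A hτ h2, card_T, R_eq_two _ r hτ' (by rw [hτ]; linear_combination hr)]
  have : 0 < Fintype.card F := Fintype.card_pos
  obtain ⟨m, hm⟩ : ∃ m, Fintype.card F = m + 1 := ⟨Fintype.card F - 1, by omega⟩
  rw [hm]
  simp only [Nat.add_sub_cancel]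
  ring

lemma two_index_zero_nonsplit (A : SL2 F) (hτ : tr A = 0) (h2 : (2 : F) ≠ 0)
    (hr : ∀ r : F, r * r ≠ -1) :
    2 * (Subgroup.centralizer ({proj A} : Set (PSL2 F))).index =
      Fintype.card F * (Fintype.card F - 1) := by
  classical
  rw [two_mul_index_eq_card_T A hτ h2, card_T, R_eq_zero]
  · simp
  · intro l h
    apply hr l
    rw [hτ] at h
    linear_combination h

/-- Characteristic two, or not. -/
lemma two_eq_zero_iff : (2 : F) = 0 ↔ 2 ∣ Fintype.card F := by
  rw [Nat.dvd_iff_mod_eq_zero, ← FiniteField.even_card_iff_char_two]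
  constructor
  · intro h
    have h1 : ringChar F ∣ 2 := by
      apply ringChar.dvd
      exact_mod_cast h
    rcases (Nat.dvd_prime Nat.prime_two).1 h1 with h3 | h3
    · exfalso
      have := CharP.ringChar_ne_one (R := F)
      exact this h3
    · exact h3
  · intro h
    have h1 := ringChar.Nat.cast_ringChar (R := F)
    rw [h] at h1
    exact_mod_cast h1

/-- Arithmetic helpers. -/
lemma arith_even (q x : ℕ) (hq : 0 < q) (h : x * (1 * q) = (q + 1) * q * (q - 1)) : x = q ^ 2 - 1 := by
  obtain ⟨m, rfl⟩ : ∃ m, q = m + 1 := ⟨q - 1, by omega⟩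
  simp only [Nat.add_sub_cancel] at h
  have h1 : x * (m + 1) = ((m + 1 + 1) * m) * (m + 1) := by
    rw [one_mul] at h
    rw [h]; ring
  have h2 := Nat.eq_of_mul_eq_mul_right (Nat.succ_pos m) h1
  rw [h2, show (m + 1) ^ 2 = m * m + 2 * m + 1 by ring]
  simp only [Nat.add_sub_cancel]
  ring

lemma arith_odd (q x : ℕ) (hq : 0 < q) (h : x * (2 * q) = (q + 1) * q * (q - 1)) :
    x = (q ^ 2 - 1) / 2 := by
  obtain ⟨m, rfl⟩ : ∃ m, q = m + 1 := ⟨q - 1, by omega⟩
  simp only [Nat.add_sub_cancel] at h
  have h1 : (2 * x) * (m + 1) = ((m + 1 + 1) * m) * (m + 1) := by rw [← mul_assoc] at h; linarith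
  have h2 := Nat.eq_of_mul_eq_mul_right (Nat.succ_pos m) h1
  have h3 : (m + 1) ^ 2 - 1 = 2 * x := by
    rw [h2, show (m + 1) ^ 2 = (m + 1 + 1) * m + 1 by ring]
    simp
  rw [h3]
  simp

section existence

lemma exists_split_odd (h2 : (2 : F) ≠ 0) (hq : 7 ≤ Fintype.card F) :
    ∃ τ : F, τ ≠ -τ ∧ τ * τ ≠ 4 ∧ ∃ r : F, r * r - τ * r + 1 = 0 := by
  obtain ⟨r, hr0, hr⟩ := exists_elem (F := F) 4 (by norm_num) (by omega)
  refine ⟨r + r⁻¹, ?_, ?_, r, by field_simp; ring⟩
  · intro h
    apply hr
    have h3 : r + r⁻¹ = 0 := by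
      have : 2 * (r + r⁻¹) = 0 := by linear_combination h
      exact (mul_eq_zero.mp this).resolve_left h2
    have h4 : r * r = -1 := by
      have : r * (r + r⁻¹) = 0 := by rw [h3, mul_zero]
      rw [mul_add, mul_inv_cancel₀ hr0] at this
      linear_combination this
    calc r ^ 4 = (r * r) * (r * r) := by ring
      _ = 1 := by rw [h4]; ring
  · intro h
    apply hr
    have h3 : (r - r⁻¹) * (r - r⁻¹) = 0 := by
      have h5 : r * r⁻¹ = 1 := mul_inv_cancel₀ hr0
      linear_combination h - 4 * h5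
    have h4 : r = r⁻¹ := by
      have := mul_self_eq_zero.mp h3
      linear_combination this
    have h5 : r * r = 1 := by
      nth_rewrite 2 [h4]
      exact mul_inv_cancel₀ hr0
    calc r ^ 4 = (r * r) * (r * r) := by ring
      _ = 1 := by rw [h5]; ring

lemma exists_split_even (h2 : (2 : F) = 0) (hq : 4 ≤ Fintype.card F) :
    ∃ τ : F, τ * τ ≠ 4 ∧ ∃ r : F, r * r - τ * r + 1 = 0 := by
  obtain ⟨r, hr0, hr⟩ := exists_elem (F := F) 2 (by norm_num) (by omega)
  refine ⟨r + r⁻¹, ?_, r, by field_simp; ring⟩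
  intro h
  apply hr
  have h4 : (4 : F) = 0 := by linear_combination 2 * h2
  rw [h4] at h
  have h3 : r + r⁻¹ = 0 := mul_self_eq_zero.mp h
  have h5 : r * r = -1 := by
    have : r * (r + r⁻¹) = 0 := by rw [h3, mul_zero]
    rw [mul_add, mul_inv_cancel₀ hr0] at this
    linear_combination this
  calc r ^ 2 = r * r := by ring
    _ = 1 := by rw [h5]; linear_combination (-1 : F) * h2

lemma exists_nonsplit_odd (h2 : (2 : F) ≠ 0) (hq : 7 ≤ Fintype.card F) :
    ∃ τ : F, τ ≠ -τ ∧ τ * τ ≠ 4 ∧ ∀ l : F, l * l - τ * l + 1 ≠ 0 := by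
  obtain ⟨D⟩ := Cfsg.Agent.Lib.SL2Torus.exists_normOneData (F := F)
  refine ⟨D.t, ?_, ?_, D.nonsplit⟩
  · intro h
    have h3 : D.t = 0 := by
      have : 2 * D.t = 0 := by linear_combination h
      exact (mul_eq_zero.mp this).resolve_left h2
    have h4 := D.quad
    rw [h3, map_zero] at h4
    have h5 : D.z * D.z = -1 := by linear_combination h4
    have h6 : D.z ^ 4 = 1 := by
      calc D.z ^ 4 = (D.z * D.z) * (D.z * D.z) := by ring
        _ = 1 := by rw [h5]; ring
    have h7 := (D.pow_iff 4).1 h6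
    have h8 := Nat.le_of_dvd (by norm_num) h7
    omega
  · intro h
    apply D.nonsplit (D.t / 2)
    field_simp
    linear_combination (-1 : F) * h

lemma exists_nonsplit_even (h2 : (2 : F) = 0) :
    ∃ τ : F, τ * τ ≠ 4 ∧ ∀ l : F, l * l - τ * l + 1 ≠ 0 := by
  obtain ⟨D⟩ := Cfsg.Agent.Lib.SL2Torus.exists_normOneData (F := F)
  refine ⟨D.t, ?_, D.nonsplit⟩
  intro h
  have h4 : (4 : F) = 0 := by linear_combination 2 * h2
  rw [h4] at h
  have h3 : D.t = 0 := mul_self_eq_zero.mp h
  apply D.nonsplit 1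
  rw [h3]
  linear_combination h2

end existence

end Cfsg.Agent.Lib.PSL2Classes
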