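import Mathlib
import Cfsg.Agent.Lib.PMinDefs29
import Cfsg.Agent.Lib.PSL2Classes
import Cfsg.Agent.Lib.PSL2Max
import Cfsg.Agent.Lib.SmallGroups2
import Cfsg.Agent.S0806

/-!
# `PSL₂(8)` at the prime `3`

The normalizer of a subgroup of order `3` of `PSL₂(8)` normalizes the Sylow `3`-subgroups containing it.
-/

set_option autoImplicit false
set_option linter.unusedSectionVars false
set_option linter.unusedVariables false

namespace Cfsg.Agent.Lib.PMin29

open Matrix Subgroup Cfsg.Agent.Lib.SL2Core

variable {F : Type*} [Field F] [Fintype F]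

lemma l28_card (hF : Fintype.card F = 8) :
    Nat.card (ProjectiveSpecialLinearGroup (Fin 2) F) = 504 := by
  have h := Cfsg.Agent.Lib.PSL2Max.card_PSL2_form (K := F)
  rw [hF] at h
  norm_num at h
  omega

lemma l28_two (hF : Fintype.card F = 8) : (2 : F) = 0 :=
  (Cfsg.Agent.Lib.PSL2Classes.two_eq_zero_iff (F := F)).2 (by rw [hF]; norm_num)

/-- The centralizer of an involution of `PSL₂(8)` has order `8`. -/
lemma l28_card_cent (hF : Fintype.card F = 8) (x : ProjectiveSpecialLinearGroup (Fin 2) F)
    (hx : orderOf x = 2) : Nat.card (centralizer ({x} : Set (ProjectiveSpecialLinearGroup (Fin 2) F))) = 8 := by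
  have h2 := l28_two hF
  obtain ⟨A, rfl⟩ := proj_surjective x
  have hA : A ∉ Subgroup.center (SL2 F) := by
    intro h
    rw [(proj_eq_one_iff A).2 h, orderOf_one] at hx
    omega
  have hsq : proj (A * A) = 1 := by
    have h := pow_orderOf_eq_one (proj A)
    rw [hx] at h
    rw [map_mul, ← pow_two]
    exact h
  have hAA : A * A = 1 := by
    rcases center_eq _ ((proj_eq_one_iff _).1 hsq) with h | h
    · exact h
    · rw [h, Cfsg.Agent.Lib.PSL2Classes.negS_eq_of_two h2]
  have htr : tr A = 0 := by
    by_contra hne
    have hc := cayley A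
    have h1 : (A : Matrix (Fin 2) (Fin 2) F) * (A : Matrix (Fin 2) (Fin 2) F) = 1 := by
      rw [← Matrix.SpecialLinearGroup.coe_mul, hAA, Matrix.SpecialLinearGroup.coe_one]
    rw [h1] at hc
    have h3 : tr A • (A : Matrix (Fin 2) (Fin 2) F) = 0 := by
      have h4 : tr A • (A : Matrix (Fin 2) (Fin 2) F) = (1 : Matrix (Fin 2) (Fin 2) F) + 1 := by
        rw [eq_sub_iff_add_eq] at hc
        exact hc.symm
      rw [h4]
      ext i j
      have : (1 : Matrix (Fin 2) (Fin 2) F) i j + (1 : Matrix (Fin 2) (Fin 2) F) i j =
          2 * (1 : Matrix (Fin 2) (Fin 2) F) i j := by ring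
      simp only [Matrix.add_apply, Matrix.zero_apply]
      rw [this, h2, zero_mul]
    have h5 : (A : Matrix (Fin 2) (Fin 2) F) = 0 := by
      rcases smul_eq_zero.1 h3 with h | h
      · exact absurd h hne
      · exact h
    have h6 := A.2
    rw [h5, Matrix.det_zero] at h6
    exact zero_ne_one h6
  have hτ : tr A * tr A = 4 := by
    rw [htr]
    have : (4 : F) = 2 * 2 := by norm_num
    rw [this, h2]
  have h3 := Cfsg.Agent.Lib.PSL2Classes.index_parabolic A hA hτ
  rw [Cfsg.Agent.Lib.PSL2Classes.card_sqrt_one_even h2, hF] at h3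
  have h4 := (centralizer ({proj A} : Set (ProjectiveSpecialLinearGroup (Fin 2) F))).card_mul_index
  rw [l28_card hF] at h4
  norm_num at h3
  have h5 : (centralizer ({proj A} : Set (ProjectiveSpecialLinearGroup (Fin 2) F))).index = 63 := by omega
  rw [h5] at h4
  omega

/-- `PSL₂(8)`: the normalizer of every nontrivial subgroup of a Sylow `3`-subgroup normalizes it. -/
theorem l28_localOne (hF : Fintype.card F = 8) :
    HasLocalOne 3 (ProjectiveSpecialLinearGroup (Fin 2) F) := by
  classical
  haveI : Fact (Nat.Prime 3) := ⟨by norm_num⟩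
  haveI : Fact (Nat.Prime 2) := ⟨by norm_num⟩
  set K := ProjectiveSpecialLinearGroup (Fin 2) F with hK
  have hcard : Nat.card K = 504 := l28_card hF
  obtain ⟨U⟩ : Nonempty (Sylow 3 K) := inferInstance
  refine ⟨U, fun R hR hRU hUN => ?_⟩
  have hU9 : Nat.card (U : Subgroup K) = 9 := by
    have := Cfsg.Agent.Lib.SmallGroups2.sylow_card_of_card_eq (G := K) (p := 3) (a := 2) (m := 56)
      (by rw [hcard]; norm_num) (by norm_num) U
    simpa using this
  have hRd : Nat.card R ∣ 3 ^ 2 := by
    have := Subgroup.card_dvd_of_le hRU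
    rw [hU9] at this
    simpa using this
  obtain ⟨i, hi, hRi⟩ := (Nat.dvd_prime_pow Nat.prime_three).1 hRd
  have hR1 : Nat.card R ≠ 1 := fun h => hR (Subgroup.card_eq_one.1 h)
  interval_cases i
  · rw [pow_zero] at hRi; exact absurd hRi hR1
  · -- order 3
    have hR3 : Nat.card R = 3 := by simpa using hRi
    set L := normalizer ((R : Subgroup K) : Set K) with hL
    have hUL : (U : Subgroup K) ≤ L := hUN
    have h9 : 9 ∣ Nat.card L := by
      rw [← hU9]; exact Subgroup.card_dvd_of_le hUL
    have hLd : Nat.card L ∣ 504 := by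
      rw [← hcard]; exact Subgroup.card_subgroup_dvd_card L
    -- an element of order three
    obtain ⟨y, hyR, hy1⟩ : ∃ y ∈ R, y ≠ 1 := by
      by_contra hcon
      push_neg at hcon
      exact hR ((Subgroup.eq_bot_iff_forall R).2 hcon)
    have hyo : orderOf y = 3 := by
      have h1 : orderOf y ∣ 3 := by
        have := Subgroup.orderOf_dvd_natCard R hyR
        rwa [hR3] at this
      rcases (Nat.dvd_prime Nat.prime_three).1 h1 with h | h
      · exact absurd (orderOf_eq_one_iff.1 h) hy1
      · exact h
    -- no involution centralizes `R`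
    have hnoinv : ∀ x : K, orderOf x = 2 → x ∉ centralizer ((R : Subgroup K) : Set K) := by
      intro x hx hxc
      have h1 : y ∈ centralizer ({x} : Set K) := by
        rw [Subgroup.mem_centralizer_singleton_iff]
        exact (Subgroup.mem_centralizer_iff.1 hxc) y hyR
      have h2 := Subgroup.orderOf_dvd_natCard _ h1
      rw [hyo, l28_card_cent hF x hx] at h2
      norm_num at h2
    -- so `4` does not divide `|L|`
    have h4 : ¬ 4 ∣ Nat.card L := by
      intro h4
      have hrel : (centralizer ((R : Subgroup K) : Set K)).relIndex L ∣ 3 - 1 := by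
        have hc : IsCyclic R := isCyclic_of_prime_card hR3
        have h1 := Cfsg.Agent.Lib.SmallGroups2.relIndex_centralizer_normalizer_dvd R
        rw [IsCyclic.card_mulAut, hR3, Nat.totient_prime Nat.prime_three] at h1
        exact h1
      have hmul := Subgroup.index_mul_card ((centralizer ((R : Subgroup K) : Set K)).subgroupOf L)
      have hrel' : ((centralizer ((R : Subgroup K) : Set K)).subgroupOf L).index ∣ 2 := hrel
      have h2d : 2 ∣ Nat.card ((centralizer ((R : Subgroup K) : Set K)).subgroupOf L) := by
        rcases (Nat.dvd_prime Nat.prime_two).1 hrel' with h | h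
        · rw [h, one_mul] at hmul
          rw [hmul]
          exact dvd_trans (by norm_num) h4
        · rw [h] at hmul
          obtain ⟨k, hk⟩ := h4
          exact ⟨k, by omega⟩
      obtain ⟨x, hx⟩ := exists_prime_orderOf_dvd_card' (G := (centralizer ((R : Subgroup K) : Set K)).subgroupOf L) 2 h2d
      have hxc : ((x : L) : K) ∈ centralizer ((R : Subgroup K) : Set K) := Subgroup.mem_subgroupOf.1 x.2
      apply hnoinv ((x : L) : K) _ hxc
      rw [Subgroup.orderOf_coe, Subgroup.orderOf_coe, hx]
    -- `L` is a proper subgroup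
    have hne : L ≠ ⊤ := by
      intro h
      apply h4
      rw [h, Subgroup.card_top, hcard]
      norm_num
    have hidx : 9 ≤ L.index := (Cfsg.Agent.S0806.result (F := F) hF (by decide)).1 L hne
    have hmul := L.index_mul_card
    rw [hcard] at hmul
    have hle : Nat.card L ≤ 56 := by
      by_contra hcon
      push_neg at hcon
      have : 9 * 57 ≤ L.index * Nat.card L := Nat.mul_le_mul hidx hcon
      omega
    have hcases : Nat.card L = 9 ∨ Nat.card L = 18 := by
      obtain ⟨d, hd⟩ := h9
      have hd6 : d ≤ 6 := by omega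
      interval_cases d
      · omega
      · left; omega
      · right; omega
      · exfalso
        rw [hd] at hLd
        norm_num at hLd
      · exfalso; apply h4; rw [hd]; norm_num
      · exfalso
        rw [hd] at hLd
        norm_num at hLd
      · exfalso
        rw [hd] at hLd
        norm_num at hLd
    have hcardU : Nat.card ((U : Subgroup K).subgroupOf L) = 9 := by
      rw [← hU9]
      exact Nat.card_congr (Subgroup.subgroupOfEquivOfLe hUL).toEquiv
    have hidxU := Subgroup.index_mul_card ((U : Subgroup K).subgroupOf L)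
    rw [hcardU] at hidxU
    haveI hnorm : ((U : Subgroup K).subgroupOf L).Normal := by
      rcases hcases with h | h
      · have h1 : ((U : Subgroup K).subgroupOf L).index = 1 := by omega
        rw [Subgroup.index_eq_one.1 h1]
        infer_instance
      · have h1 : ((U : Subgroup K).subgroupOf L).index = 2 := by omega
        exact Subgroup.normal_of_index_eq_two h1
    exact Subgroup.le_normalizer_of_normal_subgroupOf hUL
  · -- `R = U`
    have hRU' : R = (U : Subgroup K) := by
      apply Subgroup.eq_of_le_of_card_ge hRU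
      rw [hU9, hRi]; norm_num
    rw [hRU']

end Cfsg.Agent.Lib.PMin29
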