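/-
Products of normal subgroups of the weak closure of a weakly closed `p`-subgroup.
-/
import Mathlib
import Cfsg.Agent.Lib.YTheory4
import Cfsg.Agent.Lib.CharPLocal

set_option autoImplicit false
set_option linter.unusedSectionVars false
set_option linter.unusedVariables false
set_option linter.style.haveILetI false
set_option linter.unusedSimpArgs false

namespace Cfsg.Agent.Lib.WeakProd

open Cfsg Cfsg.Agent.Lib.LocalLarge Cfsg.Agent.Lib.CharTwoLocal Cfsg.Agent.Lib.YTheory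
open Cfsg.Agent.Lib.YTheory4
open Cfsg.Agent.Lib.CoprimeInv (IsSylowIn)
open scoped commutatorElement

variable {G : Type*} [Group G] [Finite G] {p : ℕ} [hp : Fact p.Prime]

/-- Two conjugates of a weakly closed subgroup inside a `p`-group agree. -/
theorem wc_eq {Q P : Subgroup G} (hwc : IsWeaklyClosedSubgroup p Q) (hP : IsPGroup p P) (hQP : Q ≤ P)
    {g : G} (hg : cj g Q ≤ P) : cj g Q = Q := by
  obtain ⟨T, hQT, hT⟩ := hwc
  obtain ⟨T', hT'⟩ := hP.exists_le_sylow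
  obtain ⟨x, hx⟩ := Cfsg.Agent.Lib.PResid.exists_conj_sylow T T'
  have hx' : (T' : Subgroup G) = cj x (T : Subgroup G) := hx
  have h1 : Q ≤ cj x (T : Subgroup G) := by rw [← hx']; exact hQP.trans hT'
  have h2 : cj g Q ≤ cj x (T : Subgroup G) := by rw [← hx']; exact hg.trans hT'
  have h3 : cj x⁻¹ Q ≤ (T : Subgroup G) := by
    have := cj_mono (g := x⁻¹) h1
    rwa [cj_inv_cj] at this
  have h4 : cj (x⁻¹ * g) Q ≤ (T : Subgroup G) := by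
    have := cj_mono (g := x⁻¹) h2
    rwa [cj_inv_cj, ← cj_mul] at this
  have h5 : cj x⁻¹ Q = Q := hT x⁻¹ h3
  have h6 : cj (x⁻¹ * g) Q = Q := hT (x⁻¹ * g) h4
  rw [cj_mul] at h6
  exact cj_inj (h6.trans h5.symm)

/-- Conjugates of `Q` inside `W ≥ Q` are `W`-conjugate. -/
theorem wc_conj_in {Q W : Subgroup G} (hwc : IsWeaklyClosedSubgroup p Q) (hQp : IsPGroup p Q)
    (hQW : Q ≤ W) {g : G} (hg : cj g Q ≤ W) : ∃ w ∈ W, cj g Q = cj w Q := by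
  obtain ⟨P, hP, hQP⟩ := Cfsg.Agent.Lib.CoprimeInv.exists_isSylowIn_ge p hQW hQp
  obtain ⟨P', hP', hgP'⟩ := Cfsg.Agent.Lib.CoprimeInv.exists_isSylowIn_ge p hg (isPGroup_cj hQp)
  obtain ⟨w, hw, hwP⟩ := hP'.exists_conj hP
  have h1 : cj (w * g) Q ≤ P := by
    rw [cj_mul, hwP]
    exact cj_mono hgP'
  have h2 := wc_eq hwc hP.2.1 hQP h1
  refine ⟨w⁻¹, W.inv_mem hw, ?_⟩
  rw [cj_mul] at h2
  conv_rhs => rw [← h2]
  rw [cj_inv_cj]

theorem comm_comm_abstract {Γ : Type*} [Group Γ] {Y A B : Γ} (hU : ∀ c, ⁅Y, A⁆ * c = c * ⁅Y, A⁆)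
    (hV : ∀ c, ⁅Y, B⁆ * c = c * ⁅Y, B⁆) : Y * ⁅A, B⁆ * Y⁻¹ = ⁅A, B⁆ := by
  set U := ⁅Y, A⁆ with hUdef
  set V := ⁅Y, B⁆ with hVdef
  have hA : Y * A * Y⁻¹ = U * A := by
    rw [hUdef, commutatorElement_def]
    group
  have hB : Y * B * Y⁻¹ = V * B := by
    rw [hVdef, commutatorElement_def]
    group
  have h1 : Y * ⁅A, B⁆ * Y⁻¹ = (Y * A * Y⁻¹) * (Y * B * Y⁻¹) * (Y * A * Y⁻¹)⁻¹ * (Y * B * Y⁻¹)⁻¹ := by
    rw [commutatorElement_def]
    group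
  rw [h1, hA, hB, commutatorElement_def]
  calc U * A * (V * B) * (U * A)⁻¹ * (V * B)⁻¹
      = A * (U * (V * B)) * U⁻¹ * A⁻¹ * (V * B)⁻¹ := by
        rw [hU A]
        group
    _ = A * (V * B) * A⁻¹ * (V * B)⁻¹ := by
        rw [hU (V * B)]
        group
    _ = V * ((A * B * A⁻¹ * B⁻¹)) * V⁻¹ := by
        have h2 : A * V = V * A := (hV A).symm
        calc A * (V * B) * A⁻¹ * (V * B)⁻¹ = (A * V) * B * A⁻¹ * B⁻¹ * V⁻¹ := by group
          _ = V * (A * B * A⁻¹ * B⁻¹) * V⁻¹ := by rw [h2]; group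
    _ = A * B * A⁻¹ * B⁻¹ := by
        rw [hV]
        group

theorem comm_comm_mem {X O : Subgroup G} (hX : X ≤ Subgroup.normalizer (O : Set G))
    {a b y : G} (ha : a ∈ X) (hb : b ∈ X) (hy : y ∈ X)
    (h1 : ∀ c ∈ X, ⁅⁅y, a⁆, c⁆ ∈ O) (h2 : ∀ c ∈ X, ⁅⁅y, b⁆, c⁆ ∈ O) : ⁅y, ⁅a, b⁆⁆ ∈ O := by
  let O' := O.subgroupOf X
  haveI hO' : O'.Normal := by
    constructor
    intro n hn g
    rw [Subgroup.mem_subgroupOf] at hn ⊢
    exact (Subgroup.mem_normalizer_iff.mp (hX g.2) n).mp hn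
  let π := QuotientGroup.mk' O'
  have hπ : ∀ e : X, π e = 1 ↔ (e : G) ∈ O := fun e => by
    rw [QuotientGroup.mk'_apply, QuotientGroup.eq_one_iff]
    exact Subgroup.mem_subgroupOf
  set aa : X := ⟨a, ha⟩
  set bb : X := ⟨b, hb⟩
  set yy : X := ⟨y, hy⟩
  have key : ∀ (u : X), (∀ c ∈ X, ⁅(u : G), c⁆ ∈ O) → ∀ c, π u * c = c * π u := by
    intro u hu c
    obtain ⟨cc, rfl⟩ := QuotientGroup.mk'_surjective O' c
    have h3 : π ⁅u, cc⁆ = 1 := (hπ _).mpr (hu _ cc.2)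
    rw [commutatorElement_def, map_mul, map_mul, map_mul, map_inv, map_inv] at h3
    have h4 : π u * π cc = (π u * π cc * (π u)⁻¹ * (π cc)⁻¹) * (π cc * π u) := by group
    rw [h4, h3, one_mul]
  have h3 := comm_comm_abstract (Γ := X ⧸ O') (Y := π yy) (A := π aa) (B := π bb)
    (by
      have := key ⁅yy, aa⁆ (fun c hc => h1 c hc)
      simpa [commutatorElement_def] using this)
    (by
      have := key ⁅yy, bb⁆ (fun c hc => h2 c hc)
      simpa [commutatorElement_def] using this)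
  have h4 : π ⁅yy, ⁅aa, bb⁆⁆ = 1 := by
    have h5 : π ⁅yy, ⁅aa, bb⁆⁆ = (π yy * ⁅π aa, π bb⁆ * (π yy)⁻¹) * (⁅π aa, π bb⁆)⁻¹ := by
      simp only [commutatorElement_def, map_mul, map_inv]
    rw [h5, h3]
    group
  exact (hπ _).mp h4

/-! ### Closure of `Q` under conjugation in a group -/

/-- Let `W` be a group with `Q ≤ W` which is the normal closure of `Q` (in the sense that normal subgroups containing
`Q` are everything). Then `W = O^p(W) Q`. -/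
theorem Rz_sup_of_closure {Q W : Subgroup G} (hQW : Q ≤ W)
    (hcl : ∀ K : Subgroup G, Q ≤ K → K ≤ W → W ≤ Subgroup.normalizer (K : Set G) → K = W) :
    Rz p W ⊔ Q = W := by
  refine le_antisymm (sup_le (Rz_le W) hQW) ?_
  set K := (Rz p W ⊔ Q).subgroupOf W with hK
  have hKtop : K = ⊤ := by
    by_contra hne
    have h1 : pResidual p ↥W ≤ K := by
      intro x hx
      rw [hK, Subgroup.mem_subgroupOf]
      exact (le_sup_left : Rz p W ≤ Rz p W ⊔ Q) ⟨x, hx, rfl⟩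
    obtain ⟨K₁, hKK₁, hK₁, hK₁n⟩ := exists_normal_of_ne_top h1 hne
    have h2 : K₁.map W.subtype = W := by
      refine hcl _ ?_ (Subgroup.map_subtype_le _) ?_
      · intro r hr
        refine ⟨⟨r, hQW hr⟩, hKK₁ ?_, rfl⟩
        rw [hK, Subgroup.mem_subgroupOf]
        exact (le_sup_right : Q ≤ Rz p W ⊔ Q) hr
      · intro l hl
        apply cj_le_self_iff.mp
        rintro _ ⟨_, ⟨y, hy, rfl⟩, rfl⟩
        exact ⟨⟨l, hl⟩ * y * (⟨l, hl⟩ : W)⁻¹, hK₁n.conj_mem y hy _, rfl⟩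
    apply hK₁
    rw [eq_top_iff]
    intro x _
    have hx : (x : G) ∈ K₁.map W.subtype := by
      rw [h2]
      exact x.2
    obtain ⟨y, hy, hxy⟩ := hx
    have : y = x := Subtype.ext hxy
    rwa [← this]
  intro x hx
  have : (⟨x, hx⟩ : W) ∈ K := by rw [hKtop]; trivial
  exact this

/-- `[O^p(W), Q] = O^p(W)` under the same hypothesis. -/
theorem commutator_Rz_of_closure {Q W : Subgroup G} (hQW : Q ≤ W) (hQp : IsPGroup p Q)
    (hcl : ∀ K : Subgroup G, Q ≤ K → K ≤ W → W ≤ Subgroup.normalizer (K : Set G) → K = W) :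
    ⁅Rz p W, Q⁆ = Rz p W := by
  set R₀ := Rz p W with hR₀
  have hWR : W ≤ Subgroup.normalizer ((R₀ : Subgroup G) : Set G) := le_normalizer_Rz W
  have hle : ⁅R₀, Q⁆ ≤ R₀ := by
    rw [Subgroup.commutator_le]
    intro a ha y hy
    have h1 : y * a⁻¹ * y⁻¹ ∈ R₀ :=
      (Subgroup.mem_normalizer_iff.mp (hWR (hQW hy)) _).mp (Subgroup.inv_mem _ ha)
    have : ⁅a, y⁆ = a * (y * a⁻¹ * y⁻¹) := by
      rw [commutatorElement_def]
      group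
    rw [this]
    exact Subgroup.mul_mem _ ha h1
  have hs : R₀ ⊔ Q = W := Rz_sup_of_closure hQW hcl
  have hN1 : R₀ ≤ Subgroup.normalizer ((⁅R₀, Q⁆ : Subgroup G) : Set G) := by
    intro r hr
    apply cj_le_self_iff.mp
    rintro _ ⟨z, hz, rfl⟩
    exact Cfsg.Agent.Lib.CharPLocal.conj_mem_commutator_left hr hz
  have hN2 : Q ≤ Subgroup.normalizer ((⁅R₀, Q⁆ : Subgroup G) : Set G) := by
    intro r hr
    apply cj_le_self_iff.mp
    rw [Subgroup.commutator_comm]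
    rintro _ ⟨z, hz, rfl⟩
    exact Cfsg.Agent.Lib.CharPLocal.conj_mem_commutator_left hr hz
  have hWN : W ≤ Subgroup.normalizer ((⁅R₀, Q⁆ : Subgroup G) : Set G) := by
    rw [← hs]
    exact sup_le hN1 hN2
  set K' := ⁅R₀, Q⁆ with hK'
  have hK'W : K' ≤ W := hle.trans (Rz_le W)
  have hsup : Q ⊔ K' = W := by
    refine hcl _ le_sup_left (sup_le hQW hK'W) ?_
    conv_lhs => rw [← hs]
    refine sup_le ?_ ?_
    · intro r hr
      apply cj_le_self_iff.mp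
      rw [cj_sup, cj_eq_iff.mpr (hWN (Rz_le W hr))]
      refine sup_le ?_ le_sup_right
      rintro _ ⟨y, hy, rfl⟩
      have h1 : r * y * r⁻¹ = ⁅r, y⁆ * y := by
        rw [commutatorElement_def]
        group
      show r * y * r⁻¹ ∈ _
      rw [h1]
      exact Subgroup.mul_mem _
        ((le_sup_right : K' ≤ Q ⊔ K') (Subgroup.commutator_mem_commutator hr hy))
        ((le_sup_left : Q ≤ Q ⊔ K') hy)
    · intro q hq
      apply cj_eq_iff.mp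
      rw [cj_sup, cj_eq_self hq, cj_eq_iff.mpr (hN2 hq)]
  exact le_antisymm hle (Rz_le_of_sup hK'W hWN hQW hQp hsup)

/-- Generators of `O^p` lie in `O^p`. -/
theorem Rz_eq_closure (W : Subgroup G) :
    Rz p W = Subgroup.closure {x : G | x ∈ W ∧ (orderOf x).Coprime p} :=
  Cfsg.Agent.Lib.PResid.map_pResidual_eq_closure p W

/-- Quotient `K / L` abelian, `K` generated by `p'`-elements: no `p`-torsion in `K / L`. -/
theorem mem_of_pow_mem_of_comm {K L S : Subgroup G} (hKS : K = Subgroup.closure ({x : G | x ∈ S ∧ (orderOf x).Coprime p}))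
    (hSK : ∀ x : G, x ∈ S → (orderOf x).Coprime p → x ∈ K)
    (hLK : L ≤ K) (hn : K ≤ Subgroup.normalizer (L : Set G))
    (hc : ∀ a ∈ K, ∀ b ∈ K, ⁅a, b⁆ ∈ L) {x : G} (hx : x ∈ K) {m : ℕ} (hm : x ^ p ^ m ∈ L) : x ∈ L := by
  let L' := L.subgroupOf K
  haveI hL' : L'.Normal := by
    constructor
    intro n hn' g
    rw [Subgroup.mem_subgroupOf] at hn' ⊢
    exact (Subgroup.mem_normalizer_iff.mp (hn g.2) n).mp hn'
  let π := QuotientGroup.mk' L'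
  have hπ : ∀ e : K, π e = 1 ↔ (e : G) ∈ L := fun e => by
    rw [QuotientGroup.mk'_apply, QuotientGroup.eq_one_iff]
    exact Subgroup.mem_subgroupOf
  have hcomm : ∀ a b : K, π a * π b = π b * π a := by
    intro a b
    have h3 : π ⁅a, b⁆ = 1 := (hπ _).mpr (hc _ a.2 _ b.2)
    rw [commutatorElement_def, map_mul, map_mul, map_mul, map_inv, map_inv] at h3
    have h4 : π a * π b = (π a * π b * (π a)⁻¹ * (π b)⁻¹) * (π b * π a) := by group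
    rw [h4, h3, one_mul]
  have hall : ∀ y (hy : y ∈ K), ∃ n : ℕ, n.Coprime p ∧ (π ⟨y, hy⟩) ^ n = 1 := by
    intro y hy
    have hy' := hy
    rw [hKS] at hy'
    induction hy' using Subgroup.closure_induction with
    | mem z hz =>
      refine ⟨orderOf z, hz.2, ?_⟩
      rw [← map_pow]
      have : (⟨z, hy⟩ : K) ^ orderOf z = 1 := by
        apply Subtype.ext
        simp [pow_orderOf_eq_one]
      rw [this, map_one]
    | one => exact ⟨1, Nat.coprime_one_left _, by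
        rw [pow_one]
        exact map_one π⟩
    | mul a b ha hb iha ihb =>
      have haK : a ∈ K := by rw [hKS]; exact ha
      have hbK : b ∈ K := by rw [hKS]; exact hb
      obtain ⟨n₁, hn₁, h₁⟩ := iha haK
      obtain ⟨n₂, hn₂, h₂⟩ := ihb hbK
      refine ⟨n₁ * n₂, Nat.Coprime.mul_left hn₁ hn₂, ?_⟩
      have h5 : π ⟨a * b, hy⟩ = π ⟨a, haK⟩ * π ⟨b, hbK⟩ := by
        rw [← map_mul]
        rfl
      have h6 : Commute (π ⟨a, haK⟩) (π ⟨b, hbK⟩) := hcomm _ _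
      rw [h5, h6.mul_pow, pow_mul, h₁, one_pow, one_mul, mul_comm n₁ n₂, pow_mul, h₂, one_pow]
    | inv a ha iha =>
      have haK : a ∈ K := by rw [hKS]; exact ha
      obtain ⟨n₁, hn₁, h₁⟩ := iha haK
      refine ⟨n₁, hn₁, ?_⟩
      have h5 : π ⟨a⁻¹, hy⟩ = (π ⟨a, haK⟩)⁻¹ := by
        rw [← map_inv]
        rfl
      rw [h5, inv_pow, h₁, inv_one]
  obtain ⟨n, hn₁, hn₂⟩ := hall x hx
  have h1 : (π ⟨x, hx⟩) ^ p ^ m = 1 := by
    rw [← map_pow]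
    apply (hπ _).mpr
    simpa using hm
  have h2 := Cfsg.Agent.Lib.PResid.eq_one_of_pow_eq_one_of_coprime h1 hn₂ hn₁
  exact (hπ _).mp h2

/-! ### The setting -/

/-- The hypotheses. -/
structure WP (p : ℕ) (Q Hc H₁ H₂ : Subgroup G) : Prop where
  hQp : IsPGroup p Q
  hwc : IsWeaklyClosedSubgroup p Q
  hHc : Hc = weakClosure Q ⊤
  le₁ : H₁ ≤ Hc
  n₁ : Hc ≤ Subgroup.normalizer (H₁ : Set G)
  le₂ : H₂ ≤ Hc
  n₂ : Hc ≤ Subgroup.normalizer (H₂ : Set G)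
  prod : H₁ ⊔ H₂ = Hc
  comm : ⁅H₁, H₂⁆ ≤ Subgroup.normalizer (Q : Set G)

variable {Q Hc H₁ H₂ : Subgroup G}

theorem WP.symm (h : WP p Q Hc H₁ H₂) : WP p Q Hc H₂ H₁ :=
  ⟨h.hQp, h.hwc, h.hHc, h.le₂, h.n₂, h.le₁, h.n₁, by rw [sup_comm]; exact h.prod,
    by rw [Subgroup.commutator_comm]; exact h.comm⟩

theorem WP.Q_le (h : WP p Q Hc H₁ H₂) : Q ≤ Hc := by
  rw [h.hHc]; exact self_le_weakClosure le_top

theorem WP.cj_le (h : WP p Q Hc H₁ H₂) (g : G) : cj g Q ≤ Hc := by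
  rw [h.hHc]; exact le_weakClosure le_top

/-- `K₁`. -/
abbrev Kk (p : ℕ) (Q H₁ : Subgroup G) : Subgroup G := Rz p (weakClosure Q (H₁ ⊔ Q))

theorem WP.W_le (h : WP p Q Hc H₁ H₂) : weakClosure Q (H₁ ⊔ Q) ≤ H₁ ⊔ Q := weakClosure_le_self _ _

theorem WP.Q_le_W (h : WP p Q Hc H₁ H₂) : Q ≤ weakClosure Q (H₁ ⊔ Q) :=
  self_le_weakClosure le_sup_right

theorem WP.cl (h : WP p Q Hc H₁ H₂) (K : Subgroup G) (hQK : Q ≤ K) (hKW : K ≤ weakClosure Q (H₁ ⊔ Q))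
    (hn : weakClosure Q (H₁ ⊔ Q) ≤ Subgroup.normalizer (K : Set G)) : K = weakClosure Q (H₁ ⊔ Q) := by
  refine le_antisymm hKW (weakClosure_le fun g hg => ?_)
  obtain ⟨w, hw, hgw⟩ := wc_conj_in h.hwc h.hQp h.Q_le_W (le_weakClosure hg)
  rw [hgw]
  have := cj_mono (g := w) hQK
  rwa [cj_eq_iff.mpr (hn hw)] at this

theorem WP.sup_Q (h : WP p Q Hc H₁ H₂) : Kk p Q H₁ ⊔ Q = weakClosure Q (H₁ ⊔ Q) :=
  Rz_sup_of_closure h.Q_le_W h.cl

theorem WP.comm_Q (h : WP p Q Hc H₁ H₂) : ⁅Kk p Q H₁, Q⁆ = Kk p Q H₁ :=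
  commutator_Rz_of_closure h.Q_le_W h.hQp h.cl

theorem WP.sup_le_Hc (h : WP p Q Hc H₁ H₂) : H₁ ⊔ Q ≤ Hc := sup_le h.le₁ h.Q_le

theorem WP.Kk_le₁ (h : WP p Q Hc H₁ H₂) : Kk p Q H₁ ≤ H₁ := by
  refine (Rz_eq_closure (p := p) (weakClosure Q (H₁ ⊔ Q))).le.trans ?_
  rw [Subgroup.closure_le]
  rintro x ⟨hx, hc⟩
  refine mem_of_coprime_of_sup h.hQp (h.Q_le.trans h.n₁) ?_ hc
  rw [sup_comm]
  exact h.W_le hx

theorem WP.sup_le_N_W (h : WP p Q Hc H₁ H₂) :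
    H₁ ⊔ Q ≤ Subgroup.normalizer ((weakClosure Q (H₁ ⊔ Q) : Subgroup G) : Set G) := by
  intro x hx
  apply cj_eq_iff.mp
  rw [cj_weakClosure, cj_eq_self hx]

theorem WP.sup_le_N_K (h : WP p Q Hc H₁ H₂) :
    H₁ ⊔ Q ≤ Subgroup.normalizer ((Kk p Q H₁ : Subgroup G) : Set G) :=
  h.sup_le_N_W.trans (Cfsg.Agent.Lib.PResid.normalizer_le_normalizer_of_characteristic
    (Cfsg.Agent.Lib.PResid.pResidual_characteristic p))

theorem WP.Z_le₁ (h : WP p Q Hc H₁ H₂) : ⁅H₁, H₂⁆ ≤ H₁ := by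
  rw [Subgroup.commutator_le]
  intro a ha b hb
  rw [commutatorElement_def]
  have h1 : a * b * a⁻¹ * b⁻¹ = a * (b * a⁻¹ * b⁻¹) := by group
  rw [h1]
  exact H₁.mul_mem ha ((Subgroup.mem_normalizer_iff.mp (h.n₁ (h.le₂ hb)) _).mp (H₁.inv_mem ha))

theorem WP.Z_le₂ (h : WP p Q Hc H₁ H₂) : ⁅H₁, H₂⁆ ≤ H₂ := by
  rw [Subgroup.commutator_comm]
  exact h.symm.Z_le₁

theorem WP.N_Z (h : WP p Q Hc H₁ H₂) : Hc ≤ Subgroup.normalizer ((⁅H₁, H₂⁆ : Subgroup G) : Set G) := by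
  intro x hx
  apply cj_eq_iff.mp
  show Subgroup.map (MulAut.conj x).toMonoidHom _ = _
  have h1 : Subgroup.map (MulAut.conj x).toMonoidHom H₁ = H₁ := cj_eq_iff.mpr (h.n₁ hx)
  have h2 : Subgroup.map (MulAut.conj x).toMonoidHom H₂ = H₂ := cj_eq_iff.mpr (h.n₂ hx)
  rw [Subgroup.map_commutator, h1, h2]

/-- `[K₁, H₁] = K₁`. -/
theorem WP.comm_H (h : WP p Q Hc H₁ H₂) : ⁅Kk p Q H₁, H₁⁆ = Kk p Q H₁ := by
  set K := Kk p Q H₁ with hK
  have hKH := h.Kk_le₁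
  have hHK : H₁ ≤ Subgroup.normalizer ((K : Subgroup G) : Set G) := le_sup_left.trans h.sup_le_N_K
  have hQK : Q ≤ Subgroup.normalizer ((K : Subgroup G) : Set G) := le_sup_right.trans h.sup_le_N_K
  set L := ⁅K, H₁⁆ with hL
  have hLK : L ≤ K := by
    rw [hL, Subgroup.commutator_le]
    intro a ha b hb
    rw [commutatorElement_def]
    have h1 : a * b * a⁻¹ * b⁻¹ = a * (b * a⁻¹ * b⁻¹) := by group
    rw [h1]
    exact K.mul_mem ha ((Subgroup.mem_normalizer_iff.mp (hHK hb) _).mp (K.inv_mem ha))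
  have hNL : H₁ ⊔ Q ≤ Subgroup.normalizer ((L : Subgroup G) : Set G) := by
    intro x hx
    apply cj_eq_iff.mp
    show Subgroup.map (MulAut.conj x).toMonoidHom _ = _
    have h1 : Subgroup.map (MulAut.conj x).toMonoidHom K = K := cj_eq_iff.mpr (h.sup_le_N_K hx)
    have h2 : Subgroup.map (MulAut.conj x).toMonoidHom H₁ = H₁ := cj_eq_iff.mpr (h.n₁ (h.sup_le_Hc hx))
    rw [hL, Subgroup.map_commutator, h1, h2]
  set Z := ⁅H₁, H₂⁆ with hZ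
  have hZ₁ : Z ≤ H₁ := h.Z_le₁
  have hNZ : Hc ≤ Subgroup.normalizer ((Z : Subgroup G) : Set G) := h.N_Z
  -- step 1
  have hstep1 : ∀ k ∈ K, ∀ q ∈ Q, ⁅k, q⁆ ∈ Z ⊔ L := by
    intro k hk q hq
    have hq' : q ∈ H₁ ⊔ H₂ := by rw [h.prod]; exact h.Q_le hq
    obtain ⟨x, hx, y, hy, rfl⟩ := exists_mul_of_mem_sup (h.le₁.trans h.n₂) hq'
    have h1 : ⁅k, x * y⁆ = ⁅k, x⁆ * (x * ⁅k, y⁆ * x⁻¹) := by
      simp only [commutatorElement_def]
      group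
    rw [h1]
    refine Subgroup.mul_mem _ ((le_sup_right : L ≤ Z ⊔ L) (Subgroup.commutator_mem_commutator hk hx))
      ((le_sup_left : Z ≤ Z ⊔ L) ?_)
    exact (Subgroup.mem_normalizer_iff.mp (hNZ (h.le₁ hx)) _).mp
      (Subgroup.commutator_mem_commutator (hKH hk) hy)
  have hcq : ⁅K, Q⁆ = K := h.comm_Q
  have hKsup : K ≤ Z ⊔ L := hcq.ge.trans (Subgroup.commutator_le.mpr hstep1)
  -- step 3
  have hZL : Z ≤ Subgroup.normalizer ((L : Subgroup G) : Set G) := hZ₁.trans (le_sup_left.trans hNL)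
  have hcomm : ∀ a ∈ K, ∀ b ∈ K, ⁅a, b⁆ ∈ L := fun a ha b hb =>
    Subgroup.commutator_mem_commutator ha (hKH hb)
  have hgen : ∀ k ∈ K, ∀ q ∈ Q, ⁅k, q⁆ ∈ L := by
    intro k hk q hq
    obtain ⟨z, hz, l, hl, rfl⟩ := exists_mul_of_mem_sup hZL (hKsup hk)
    have h1 : ⁅z * l, q⁆ = (z * ⁅l, q⁆ * z⁻¹) * ⁅z, q⁆ := by
      simp only [commutatorElement_def]
      group
    have hlq : ⁅l, q⁆ ∈ L := by
      rw [commutatorElement_def]
      have h3 : l * q * l⁻¹ * q⁻¹ = l * (q * l⁻¹ * q⁻¹) := by group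
      rw [h3]
      exact L.mul_mem hl ((Subgroup.mem_normalizer_iff.mp
        ((le_sup_right : Q ≤ H₁ ⊔ Q).trans hNL hq) _).mp (L.inv_mem hl))
    have hzq : ⁅z, q⁆ ∈ Q := by
      rw [commutatorElement_def]
      have h2 : z * q * z⁻¹ ∈ Q := (Subgroup.mem_normalizer_iff.mp (h.comm hz) q).mp hq
      exact Q.mul_mem h2 (Q.inv_mem hq)
    have hmem : ⁅z * l, q⁆ ∈ K := by
      have := Subgroup.commutator_mem_commutator hk hq
      rwa [hcq] at this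
    have hmem2 : ⁅z * l, q⁆ ∈ Q ⊔ L := by
      rw [h1, sup_comm]
      exact Subgroup.mul_mem_sup ((Subgroup.mem_normalizer_iff.mp (hZL hz) _).mp hlq) hzq
    have hQL : Q ≤ Subgroup.normalizer ((L : Subgroup G) : Set G) := le_sup_right.trans hNL
    obtain ⟨m, hm⟩ := pow_mem_of_mem_sup hQL (fun d hd => by
      obtain ⟨k, hk⟩ := h.hQp ⟨d, hd⟩
      refine ⟨k, ?_⟩
      have : d ^ p ^ k = 1 := by simpa using congrArg Subtype.val hk
      rw [this]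
      exact L.one_mem) _ hmem2
    exact mem_of_pow_mem_of_comm (Rz_eq_closure (p := p) _) (fun x hx hc =>
      Cfsg.Agent.Lib.PResid.mem_map_pResidual_of_coprime hx hc) hLK
      (hKH.trans (le_sup_left.trans hNL)) hcomm hmem hm
  exact le_antisymm hLK (hcq.ge.trans (Subgroup.commutator_le.mpr hgen))

theorem WP.Kk_le_comm (h : WP p Q Hc H₁ H₂) : Kk p Q H₁ ≤ ⁅H₁, H₁⁆ := by
  have h1 := h.comm_H
  calc Kk p Q H₁ = ⁅Kk p Q H₁, H₁⁆ := h1.symm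
    _ ≤ ⁅H₁, H₁⁆ := Subgroup.commutator_mono h.Kk_le₁ le_rfl

theorem WP.N_O (h : WP p Q Hc H₁ H₂) : Hc ≤ Subgroup.normalizer ((Oc p ⁅H₁, H₂⁆ : Subgroup G) : Set G) :=
  h.N_Z.trans (normalizer_le_normalizer_Oc _)

theorem WP.le_modStab_Z (h : WP p Q Hc H₁ H₂) : Hc ≤ modStab ⁅H₁, H₂⁆ (Oc p ⁅H₁, H₂⁆) := by
  have hHcle : weakClosure Q ⊤ ≤ modStab ⁅H₁, H₂⁆ (Oc p ⁅H₁, H₂⁆) := by
    refine weakClosure_le fun g _ => ?_
    obtain ⟨w, hw, hgw⟩ := wc_conj_in h.hwc h.hQp h.Q_le (h.cj_le g)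
    rw [hgw]
    rintro _ ⟨q, hq, rfl⟩
    show w * q * w⁻¹ ∈ modStab ⁅H₁, H₂⁆ (Oc p ⁅H₁, H₂⁆)
    have hmem : w * q * w⁻¹ ∈ Hc := Hc.mul_mem (Hc.mul_mem hw (h.Q_le hq)) (Hc.inv_mem hw)
    refine ⟨h.N_Z hmem, h.N_O hmem, ?_⟩
    intro z hz
    have hz' : w⁻¹ * z * w ∈ ⁅H₁, H₂⁆ := by
      have := (Subgroup.mem_normalizer_iff.mp (h.N_Z (Hc.inv_mem hw)) z).mp hz
      simpa using this
    have h1 : ⁅w * q * w⁻¹, z⁆ = w * ⁅q, w⁻¹ * z * w⁆ * w⁻¹ := by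
      simp only [commutatorElement_def]
      group
    rw [h1]
    refine (Subgroup.mem_normalizer_iff.mp (h.N_O hw) _).mp ?_
    have hQZ : Q ⊓ ⁅H₁, H₂⁆ ≤ Oc p ⁅H₁, H₂⁆ := by
      refine le_Oc inf_le_right (h.hQp.to_le inf_le_left) ?_
      intro l hl a ha
      exact ⟨(Subgroup.mem_normalizer_iff.mp (h.comm hl) a).mp ha.1,
        Subgroup.mul_mem _ (Subgroup.mul_mem _ hl ha.2) (Subgroup.inv_mem _ hl)⟩
    apply hQZ
    rw [commutatorElement_def]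
    set z' := w⁻¹ * z * w with hz'def
    constructor
    · have h2 : q * z' * q⁻¹ * z'⁻¹ = q * (z' * q⁻¹ * z'⁻¹) := by group
      rw [h2]
      exact Q.mul_mem hq ((Subgroup.mem_normalizer_iff.mp (h.comm hz') _).mp (Q.inv_mem hq))
    · exact Subgroup.mul_mem _ ((Subgroup.mem_normalizer_iff.mp (h.N_Z (h.Q_le hq)) z').mp hz')
        (Subgroup.inv_mem _ hz')
  rw [h.hHc]
  exact hHcle

theorem WP.comm_H₁_H₂ (h : WP p Q Hc H₁ H₂) : ⁅H₁, H₁⁆ ≤ modStab H₂ (Oc p ⁅H₁, H₂⁆) := by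
  rw [Subgroup.commutator_le]
  intro a ha b hb
  have haH := h.le₁ ha
  have hbH := h.le₁ hb
  have hcmem : ⁅a, b⁆ ∈ Hc := by
    rw [commutatorElement_def]
    exact Hc.mul_mem (Hc.mul_mem (Hc.mul_mem haH hbH) (Hc.inv_mem haH)) (Hc.inv_mem hbH)
  refine ⟨h.n₂ hcmem, h.N_O hcmem, ?_⟩
  intro y hy
  have key : ∀ x ∈ H₁, ∀ c ∈ Hc, ⁅⁅y, x⁆, c⁆ ∈ Oc p ⁅H₁, H₂⁆ := by
    intro x hx c hc
    have h1 : ⁅y, x⁆ ∈ ⁅H₁, H₂⁆ := by
      rw [Subgroup.commutator_comm]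
      exact Subgroup.commutator_mem_commutator hy hx
    have h2 := (h.le_modStab_Z hc).2.2 _ h1
    have h3 : ⁅⁅y, x⁆, c⁆ = ⁅c, ⁅y, x⁆⁆⁻¹ := by
      rw [commutatorElement_inv]
    rw [h3]
    exact Subgroup.inv_mem _ h2
  have h1 := comm_comm_mem h.N_O haH hbH (h.le₂ hy) (key a ha) (key b hb)
  have h3 : ⁅⁅a, b⁆, y⁆ = ⁅y, ⁅a, b⁆⁆⁻¹ := by
    rw [commutatorElement_inv]
  rw [h3]
  exact Subgroup.inv_mem _ h1

theorem WP.K_H₂ (h : WP p Q Hc H₁ H₂) : ⁅Kk p Q H₁, H₂⁆ ≤ Oc p ⁅H₁, H₂⁆ :=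
  commutator_le_of_le_modStab (h.Kk_le_comm.trans h.comm_H₁_H₂)

theorem WP.N_K (h : WP p Q Hc H₁ H₂) : Hc ≤ Subgroup.normalizer ((Kk p Q H₁ : Subgroup G) : Set G) := by
  have hsup : H₁ ⊔ H₂ ≤ Subgroup.normalizer ((Kk p Q H₁ : Subgroup G) : Set G) := by
    refine sup_le (le_sup_left.trans h.sup_le_N_K) ?_
    intro y hy
    apply cj_le_self_iff.mp
    have h1 : Kk p Q H₁ ≤ cj y⁻¹ (Kk p Q H₁) := by
      refine (Rz_eq_closure (p := p) (weakClosure Q (H₁ ⊔ Q))).le.trans ?_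
      rw [Subgroup.closure_le]
      rintro x ⟨hx, hc⟩
      apply mem_cj.mpr
      simp only [inv_inv]
      have hxK : x ∈ Kk p Q H₁ := Cfsg.Agent.Lib.PResid.mem_map_pResidual_of_coprime hx hc
      have h2 : ⁅y, x⁆ ∈ Oc p ⁅H₁, H₂⁆ := by
        have h3 : ⁅y, x⁆ = ⁅x, y⁆⁻¹ := by rw [commutatorElement_inv]
        rw [h3]
        exact Subgroup.inv_mem _ (h.K_H₂ (Subgroup.commutator_mem_commutator hxK hy))
      have h4 : y * x * y⁻¹ = ⁅y, x⁆ * x := by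
        rw [commutatorElement_def]
        group
      have hO : Oc p ⁅H₁, H₂⁆ ≤ Subgroup.normalizer ((Kk p Q H₁ : Subgroup G) : Set G) :=
        (Cfsg.Agent.Lib.CharTwoLocal.Oc_le p _).trans (h.Z_le₁.trans (le_sup_left.trans h.sup_le_N_K))
      refine mem_of_coprime_of_sup (isPGroup_Oc p _) hO ?_ ?_
      · rw [h4]
        exact Subgroup.mul_mem_sup h2 hxK
      · rw [Cfsg.Agent.Lib.CharTwoLocal.orderOf_conj_eq]
        exact hc
    have h5 := cj_mono (g := y) h1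
    rwa [cj_cj_inv] at h5
  rw [← h.prod]
  exact hsup

theorem WP.comm_K₁K₂ (h : WP p Q Hc H₁ H₂) : ⁅Kk p Q H₁, Kk p Q H₂⁆ ≤ Oc p Hc := by
  have h1 : ⁅Kk p Q H₁, Kk p Q H₂⁆ ≤ ⁅Kk p Q H₁, H₂⁆ := Subgroup.commutator_mono le_rfl h.symm.Kk_le₁
  refine h1.trans (h.K_H₂.trans ?_)
  exact Oc_le_Oc_of_normal (h.Z_le₁.trans h.le₁) h.N_Z

theorem WP.Kk_le_Rz (h : WP p Q Hc H₁ H₂) : Kk p Q H₁ ≤ Rz p Hc := by
  refine (Rz_eq_closure (p := p) (weakClosure Q (H₁ ⊔ Q))).le.trans ?_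
  rw [Subgroup.closure_le]
  rintro x ⟨hx, hc⟩
  exact Cfsg.Agent.Lib.PResid.mem_map_pResidual_of_coprime (h.sup_le_Hc (h.W_le hx)) hc

theorem WP.sup_eq (h : WP p Q Hc H₁ H₂) : Kk p Q H₁ ⊔ Kk p Q H₂ = Rz p Hc := by
  set K := Kk p Q H₁ ⊔ Kk p Q H₂ with hK
  have hKH : K ≤ Hc := sup_le (h.Kk_le_Rz.trans (Rz_le Hc)) (h.symm.Kk_le_Rz.trans (Rz_le Hc))
  have hNK : Hc ≤ Subgroup.normalizer ((K : Subgroup G) : Set G) := by
    intro x hx
    apply cj_eq_iff.mp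
    rw [hK, cj_sup, cj_eq_iff.mpr (h.N_K hx), cj_eq_iff.mpr (h.symm.N_K hx)]
  refine le_antisymm (sup_le h.Kk_le_Rz h.symm.Kk_le_Rz) ?_
  refine Rz_le_of_sup hKH hNK h.Q_le h.hQp ?_
  refine le_antisymm (sup_le h.Q_le hKH) ?_
  have hW₁ : weakClosure Q (H₁ ⊔ Q) ≤ Q ⊔ K := by
    have := h.sup_Q
    rw [← this]
    exact sup_le ((le_sup_left : Kk p Q H₁ ≤ K).trans le_sup_right) le_sup_left
  have hW₂ : weakClosure Q (H₂ ⊔ Q) ≤ Q ⊔ K := by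
    have := h.symm.sup_Q
    rw [← this]
    exact sup_le ((le_sup_right : Kk p Q H₂ ≤ K).trans le_sup_right) le_sup_left
  have hgen : ∀ (A : Subgroup G) (hA : A ≤ Hc) (hAn : Hc ≤ Subgroup.normalizer (A : Set G)), ∀ y ∈ A,
      cj y Q ≤ weakClosure Q (A ⊔ Q) := by
    intro A hA hAn y hy
    apply le_weakClosure
    rintro _ ⟨q, hq, rfl⟩
    show y * q * y⁻¹ ∈ A ⊔ Q
    have h1 : y * q * y⁻¹ = (y * (q * y⁻¹ * q⁻¹)) * q := by group
    rw [h1]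
    refine Subgroup.mul_mem_sup (A.mul_mem hy ?_) hq
    exact (Subgroup.mem_normalizer_iff.mp (hAn (h.Q_le hq)) _).mp (A.inv_mem hy)
  have hQK : Q ⊔ K ≥ weakClosure Q ⊤ := by
    refine weakClosure_le fun g _ => ?_
    obtain ⟨w, hw, hgw⟩ := wc_conj_in h.hwc h.hQp h.Q_le (h.cj_le g)
    rw [hgw]
    have hw' : w ∈ H₁ ⊔ H₂ := by rw [h.prod]; exact hw
    obtain ⟨x, hx, y, hy, rfl⟩ := exists_mul_of_mem_sup (h.le₁.trans h.n₂) hw'
    rw [cj_mul]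
    have h2 : cj y Q ≤ Q ⊔ K := (hgen H₂ h.le₂ h.n₂ y hy).trans hW₂
    have h3 := cj_mono (g := x) h2
    refine h3.trans ?_
    rw [cj_sup, cj_eq_iff.mpr (hNK (h.le₁ hx))]
    exact sup_le ((hgen H₁ h.le₁ h.n₁ x hx).trans hW₁) le_sup_right
  rw [h.hHc]
  exact hQK

end Cfsg.Agent.Lib.WeakProd
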