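/-
Finite groups `X` with `O_p(X) = 1` and `O^p(X)` quasisimple.
-/
import Mathlib
import Cfsg.Agent.Lib.WeakProd
import Cfsg.Agent.Lib.LocalCore
import Cfsg.Agent.Lib.PComp

set_option autoImplicit false
set_option linter.unusedSectionVars false
set_option linter.unusedVariables false
set_option linter.style.haveILetI false
set_option linter.unusedSimpArgs false

namespace Cfsg.Agent.Lib.QSLocal

open Cfsg Cfsg.Agent.Lib.LocalLarge Cfsg.Agent.Lib.CharTwoLocal Cfsg.Agent.Lib.YTheory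
open Cfsg.Agent.Lib.YTheory4 Cfsg.Agent.Lib.WeakProd Cfsg.Agent.Lib.LocalCore
open Cfsg.Agent.Lib.CoprimeInv (IsSylowIn)
open scoped commutatorElement

section abstract

variable {X : Type*} [Group X] [Finite X] {p : ℕ} [hp : Fact p.Prime]

theorem comm_self_of_qs {F : Subgroup X} (hF : IsQuasisimple F) : ⁅F, F⁆ = F := by
  have h1 : commutator F = ⊤ := qs_commutator hF
  have h2 := Subgroup.map_subtype_commutator F
  rw [h1, ← MonoidHom.range_eq_map, Subgroup.range_subtype] at h2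
  exact h2.symm

theorem qs_dichotomy {F K : Subgroup X} (hF : IsQuasisimple F) (hKF : K ≤ F)
    (hn : F ≤ Subgroup.normalizer (K : Set X)) : F ≤ K ∨ ⁅K, F⁆ ≤ ⁅K, F⁆ ∧ (∀ k ∈ K, ∀ f ∈ F, k * f = f * k) := by
  haveI hN : (K.subgroupOf F).Normal := by
    constructor
    intro n hn' g
    rw [Subgroup.mem_subgroupOf] at hn' ⊢
    exact (Subgroup.mem_normalizer_iff.mp (hn g.2) n).mp hn'
  rcases qs_normal hF (K.subgroupOf F) with h | h
  · left
    intro f hf
    have : (⟨f, hf⟩ : F) ∈ K.subgroupOf F := by rw [h]; trivial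
    exact this
  · right
    refine ⟨le_rfl, ?_⟩
    intro k hk f hf
    have h1 : (⟨k, hKF hk⟩ : F) ∈ Subgroup.center F := h (Subgroup.mem_subgroupOf.mpr hk)
    have h2 := Subgroup.mem_center_iff.mp h1 ⟨f, hf⟩
    exact (congrArg Subtype.val h2).symm

/-- If `[K, F]` is central in `F`, `F` perfect, `K` normalizing `F`... then `[K, F] = 1`. -/
theorem comm_eq_bot_of_central {F D : Subgroup X} (hFF : ⁅F, F⁆ = F)
    (h : ∀ c ∈ ⁅F, D⁆, ∀ f ∈ F, c * f = f * c) : ⁅F, D⁆ = ⊥ := by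
  have h1 : ⁅⁅F, D⁆, F⁆ = ⊥ := by
    rw [Subgroup.commutator_eq_bot_iff_le_centralizer]
    intro c hc
    rw [Subgroup.mem_centralizer_iff]
    intro f hf
    exact (h c hc f hf).symm
  have h2 : ⁅⁅D, F⁆, F⁆ = ⊥ := by
    rw [Subgroup.commutator_comm D F]
    exact h1
  have h3 : ⁅⁅F, F⁆, D⁆ = ⊥ := Subgroup.commutator_commutator_eq_bot_of_rotate h1 h2
  rwa [hFF] at h3

theorem pow_mem_residual (a : X) : ∃ k : ℕ, a ^ p ^ k ∈ pResidual p X := by
  haveI : (pResidual p X).Normal := Cfsg.Agent.Lib.PResid.pResidual_normal p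
  obtain ⟨k, hk⟩ := Cfsg.Agent.Lib.PResid.isPGroup_quotient_pResidual (G := X) p (a : X ⧸ pResidual p X)
  refine ⟨k, ?_⟩
  rw [← QuotientGroup.mk_pow] at hk
  exact (QuotientGroup.eq_one_iff _).mp hk

/-- The centralizer of `F = O^p(X)`. -/
theorem centralizer_props (hO : pCore p X = ⊥) (hF : IsQuasisimple (pResidual p X)) :
    (∀ a ∈ Subgroup.centralizer ((pResidual p X : Subgroup X) : Set X), a ∈ pResidual p X) ∧
    ∀ T : Subgroup X, T ≤ Subgroup.centralizer ((pResidual p X : Subgroup X) : Set X) → IsPGroup p T → T = ⊥ := by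
  set F := pResidual p X with hFdef
  haveI hFn : F.Normal := Cfsg.Agent.Lib.PResid.pResidual_normal p
  set A := Subgroup.centralizer ((F : Subgroup X) : Set X) with hA
  haveI hAn : A.Normal := Subgroup.normal_centralizer
  have hcomm : ∀ a ∈ A, ∀ f ∈ F, a * f = f * a := fun a ha f hf =>
    (Subgroup.mem_centralizer_iff.mp ha f hf).symm
  set C₀ := A ⊓ F with hC₀
  have hC₀n : A ≤ Subgroup.normalizer ((C₀ : Subgroup X) : Set X) := by
    intro a ha
    apply cj_eq_iff.mp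
    rw [hC₀, cj_inf, cj_eq_self ha, cj_normal hFn]
  have hAA : A ≤ Subgroup.normalizer ((A : Subgroup X) : Set X) := Subgroup.le_normalizer
  have hpw : ∀ d ∈ A, ∃ k : ℕ, d ^ p ^ k ∈ C₀ := by
    intro d hd
    obtain ⟨k, hk⟩ := pow_mem_residual (p := p) d
    exact ⟨k, A.pow_mem hd _, hk⟩
  have hSyl : ∀ T₀ : Subgroup X, IsSylowIn p T₀ A → T₀ = ⊥ := by
    intro T₀ hT₀
    have hdec := exists_sylow_mul hT₀ inf_le_left hC₀n le_rfl hAA hpw
    have hAT : A ≤ Subgroup.normalizer ((T₀ : Subgroup X) : Set X) := by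
      intro d hd
      obtain ⟨t, ht, c, hc, rfl⟩ := hdec d hd
      refine Subgroup.mul_mem _ (Subgroup.le_normalizer ht) ?_
      apply cj_le_self_iff.mp
      rintro _ ⟨x, hx, rfl⟩
      show c * x * c⁻¹ ∈ T₀
      have h1 : c * x = x * c := by
        have := hcomm x (hT₀.1 hx) c hc.2
        exact this.symm
      rw [h1, mul_inv_cancel_right]
      exact hx
    have h1 : T₀ ≤ Oc p A := le_Oc hT₀.1 hT₀.2.1
      (fun l hl a ha => (Subgroup.mem_normalizer_iff.mp (hAT hl) a).mp ha)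
    have h2 : Oc p A ≤ pCore p X := by
      apply Cfsg.Agent.Lib.PCore.le_pCore
      · constructor
        intro n hn g
        refine conj_mem_Oc_of_normalizer ?_ hn
        rw [Subgroup.normalizer_eq_top_iff.mpr hAn]
        trivial
      · exact isPGroup_Oc p A
    rw [hO] at h2
    exact le_bot_iff.mp (h1.trans h2)
  constructor
  · intro a ha
    obtain ⟨T₀, hT₀⟩ := Cfsg.Agent.Lib.CoprimeInv.exists_isSylowIn p A
    obtain ⟨t, ht, c, hc, rfl⟩ := exists_sylow_mul hT₀ inf_le_left hC₀n le_rfl hAA hpw a ha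
    rw [hSyl T₀ hT₀, Subgroup.mem_bot] at ht
    rw [ht, one_mul]
    exact hc.2
  · intro T hT hTp
    obtain ⟨T₁, hT₁, hTT₁⟩ := Cfsg.Agent.Lib.CoprimeInv.exists_isSylowIn_ge p hT hTp
    rw [hSyl T₁ hT₁] at hTT₁
    exact le_bot_iff.mp hTT₁

/-- Normal subgroups contain `O^p(X)` or centralize it. -/
theorem normal_dichotomy (hF : IsQuasisimple (pResidual p X)) {D : Subgroup X} (hD : D.Normal) :
    pResidual p X ≤ D ∨ D ≤ Subgroup.centralizer ((pResidual p X : Subgroup X) : Set X) := by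
  set F := pResidual p X with hFdef
  haveI hFn : F.Normal := Cfsg.Agent.Lib.PResid.pResidual_normal p
  have hFF := comm_self_of_qs hF
  rcases qs_dichotomy hF (K := F ⊓ D) inf_le_left (by
    intro f hf
    apply cj_eq_iff.mp
    rw [cj_inf, cj_eq_self hf, cj_normal hD]) with h | ⟨_, h⟩
  · left
    exact h.trans inf_le_right
  · right
    have hbot : ⁅F, D⁆ = ⊥ := by
      apply comm_eq_bot_of_central hFF
      intro c hc f hf
      have hc' : c ∈ F ⊓ D := (Subgroup.commutator_le_inf F D) hc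
      exact h c hc' f hf
    intro d hd
    rw [Subgroup.mem_centralizer_iff]
    intro f hf
    have h1 : ⁅f, d⁆ ∈ ⁅F, D⁆ := Subgroup.commutator_mem_commutator hf hd
    rw [hbot, Subgroup.mem_bot, commutatorElement_eq_one_iff_mul_comm] at h1
    exact h1

/-- `[O^p(X), Y] = O^p(X)` for `p`-subgroups `Y ≠ 1`. -/
theorem commutator_residual_eq (hO : pCore p X = ⊥) (hF : IsQuasisimple (pResidual p X))
    {Y : Subgroup X} (hYp : IsPGroup p Y) (hY1 : Y ≠ ⊥) : ⁅pResidual p X, Y⁆ = pResidual p X := by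
  set F := pResidual p X with hFdef
  haveI hFn : F.Normal := Cfsg.Agent.Lib.PResid.pResidual_normal p
  have hFF := comm_self_of_qs hF
  have hle : ⁅F, Y⁆ ≤ F := Subgroup.commutator_le_left F Y
  rcases qs_dichotomy hF hle (by
    intro f hf
    apply cj_le_self_iff.mp
    rintro _ ⟨z, hz, rfl⟩
    exact Cfsg.Agent.Lib.CharPLocal.conj_mem_commutator_left hf hz) with h | ⟨_, h⟩
  · exact le_antisymm hle h
  · exfalso
    have hbot : ⁅F, Y⁆ = ⊥ := comm_eq_bot_of_central hFF h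
    apply hY1
    refine (centralizer_props hO hF).2 Y ?_ hYp
    intro d hd
    rw [Subgroup.mem_centralizer_iff]
    intro f hf
    have h1 : ⁅f, d⁆ ∈ ⁅F, Y⁆ := Subgroup.commutator_mem_commutator hf hd
    rw [hbot, Subgroup.mem_bot, commutatorElement_eq_one_iff_mul_comm] at h1
    exact h1

end abstract

/-! ### The ambient situation -/

section ambient

variable {G : Type*} [Group G] [Finite G] {p : ℕ} [hp : Fact p.Prime]

/-- Large subgroups are weakly closed. -/
theorem large_weaklyClosed {Q : Subgroup G} (hQ : IsLarge Q) (hQp : IsPGroup p Q) (hQ1 : Q ≠ ⊥) :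
    IsWeaklyClosedSubgroup p Q := by
  obtain ⟨T, hT⟩ := hQp.exists_le_sylow
  refine ⟨T, hT, ?_⟩
  intro g hg
  -- the centre of `T`
  by_contra hne
  apply hne
  have hT1 : (T : Subgroup G) ≠ ⊥ := fun h => hQ1 (le_bot_iff.mp (h ▸ hT))
  have hTz : zc (T : Subgroup G) ≠ ⊥ := zc_ne_bot T.isPGroup' hT1
  refine large_cj_eq_of_inf_ne_bot hQ hQp hQ1 ?_
  intro hbot
  apply hTz
  rw [eq_bot_iff, ← hbot]
  refine le_inf ?_ ?_
  · exact (zc_le_centralizer hT)
  · exact (zc_le_centralizer hg)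

theorem closure_of_wc {Q L : Subgroup G} (hwc : IsWeaklyClosedSubgroup p Q) (hQp : IsPGroup p Q)
    (hQL : Q ≤ L) (K : Subgroup G) (hQK : Q ≤ K) (hKW : K ≤ weakClosure Q L)
    (hn : weakClosure Q L ≤ Subgroup.normalizer (K : Set G)) : K = weakClosure Q L := by
  refine le_antisymm hKW (weakClosure_le fun g hg => ?_)
  obtain ⟨w, hw, hgw⟩ := wc_conj_in hwc hQp (self_le_weakClosure hQL) (le_weakClosure hg)
  rw [hgw]
  have := cj_mono (g := w) hQK
  rwa [cj_eq_iff.mpr (hn hw)] at this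

/-- The standing hypotheses. -/
structure QE (p : ℕ) (Q U E : Subgroup G) : Prop where
  hQp : IsPGroup p Q
  hQ1 : Q ≠ ⊥
  hQ : IsLarge Q
  hUp : IsPGroup p U
  hU1 : U ≠ ⊥
  hQE : Q ≤ E
  hEU : E ≤ Subgroup.normalizer (U : Set G)
  hQn : ¬ E ≤ Subgroup.normalizer (Q : Set G)

variable {Q U E : Subgroup G}

theorem QE.hwc (h : QE p Q U E) : IsWeaklyClosedSubgroup p Q := large_weaklyClosed h.hQ h.hQp h.hQ1

theorem QE.W_le (h : QE p Q U E) : weakClosure Q E ≤ E := weakClosure_le_self _ _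

theorem QE.Q_le_W (h : QE p Q U E) : Q ≤ weakClosure Q E := self_le_weakClosure h.hQE

theorem QE.N_W (h : QE p Q U E) : E ≤ Subgroup.normalizer ((weakClosure Q E : Subgroup G) : Set G) := by
  intro x hx
  apply cj_eq_iff.mp
  rw [cj_weakClosure, cj_eq_self hx]

theorem QE.Er_le_W (h : QE p Q U E) : Rz p (weakClosure Q E) ≤ weakClosure Q E := Rz_le _

theorem QE.Er_le (h : QE p Q U E) : Rz p (weakClosure Q E) ≤ E := (Rz_le _).trans h.W_le

theorem QE.N_Er (h : QE p Q U E) :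
    E ≤ Subgroup.normalizer ((Rz p (weakClosure Q E) : Subgroup G) : Set G) :=
  h.N_W.trans (Cfsg.Agent.Lib.PResid.normalizer_le_normalizer_of_characteristic
    (Cfsg.Agent.Lib.PResid.pResidual_characteristic p))

theorem QE.sup_Q (h : QE p Q U E) : Rz p (weakClosure Q E) ⊔ Q = weakClosure Q E :=
  Rz_sup_of_closure h.Q_le_W (closure_of_wc h.hwc h.hQp h.hQE)

theorem QE.comm_Q (h : QE p Q U E) : ⁅Rz p (weakClosure Q E), Q⁆ = Rz p (weakClosure Q E) :=
  commutator_Rz_of_closure h.Q_le_W h.hQp (closure_of_wc h.hwc h.hQp h.hQE)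

theorem QE.C_le_N (h : QE p Q U E) {g : G} (hg : cj g Q ≤ E) :
    Subgroup.centralizer (U : Set G) ≤ Subgroup.normalizer ((cj g Q : Subgroup G) : Set G) :=
  large_centralizer_le_normalizer (large_cj h.hQ g) (isPGroup_cj h.hQp) h.hUp h.hU1 (hg.trans h.hEU)

theorem QE.N_C₀ (h : QE p Q U E) :
    E ≤ Subgroup.normalizer ((E ⊓ Subgroup.centralizer (U : Set G) : Subgroup G) : Set G) := by
  intro x hx
  apply cj_eq_iff.mp
  rw [cj_inf, cj_eq_self hx, cj_eq_iff.mpr ((h.hEU.trans (normalizer_le_normalizer_centralizer U)) hx)]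

theorem QE.W_stab (h : QE p Q U E) :
    weakClosure Q E ≤ modStab (E ⊓ Subgroup.centralizer (U : Set G)) (Oc p (E ⊓ Subgroup.centralizer (U : Set G))) := by
  set C₀ := E ⊓ Subgroup.centralizer (U : Set G) with hC₀
  have hNO : E ≤ Subgroup.normalizer ((Oc p C₀ : Subgroup G) : Set G) :=
    h.N_C₀.trans (normalizer_le_normalizer_Oc C₀)
  refine weakClosure_le fun g hg => ?_
  rintro _ ⟨q, hq, rfl⟩
  show g * q * g⁻¹ ∈ modStab C₀ (Oc p C₀)
  have ha : g * q * g⁻¹ ∈ cj g Q := ⟨q, hq, rfl⟩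
  set a := g * q * g⁻¹ with hadef
  have haE : a ∈ E := hg ha
  refine ⟨h.N_C₀ haE, hNO haE, ?_⟩
  intro c hc
  have hle : cj g Q ⊓ C₀ ≤ Oc p C₀ := by
    refine le_Oc inf_le_right ((isPGroup_cj h.hQp).to_le inf_le_left) ?_
    intro l hl x hx
    exact ⟨(Subgroup.mem_normalizer_iff.mp (h.C_le_N hg hl.2) x).mp hx.1,
      Subgroup.mul_mem _ (Subgroup.mul_mem _ hl hx.2) (Subgroup.inv_mem _ hl)⟩
  apply hle
  rw [commutatorElement_def]
  constructor
  · have h1 : a * c * a⁻¹ * c⁻¹ = a * (c * a⁻¹ * c⁻¹) := by group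
    rw [h1]
    exact Subgroup.mul_mem _ ha ((Subgroup.mem_normalizer_iff.mp (h.C_le_N hg hc.2) _).mp
      (Subgroup.inv_mem _ ha))
  · exact Subgroup.mul_mem _ ((Subgroup.mem_normalizer_iff.mp (h.N_C₀ haE) c).mp hc) (Subgroup.inv_mem _ hc)

/-- `[Er ∩ C, Er] ≤ O_p(Er)`. -/
theorem QE.comm_mem (h : QE p Q U E) {e x : G} (he : e ∈ Rz p (weakClosure Q E))
    (hx : x ∈ Rz p (weakClosure Q E)) (hxC : x ∈ Subgroup.centralizer (U : Set G)) :
    ⁅e, x⁆ ∈ Oc p (Rz p (weakClosure Q E)) := by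
  set C₀ := E ⊓ Subgroup.centralizer (U : Set G) with hC₀
  set Er := Rz p (weakClosure Q E) with hEr
  have h1 : ⁅e, x⁆ ∈ Oc p C₀ := (h.W_stab (h.Er_le_W he)).2.2 x ⟨h.Er_le hx, hxC⟩
  have h2 : ⁅e, x⁆ ∈ Er := by
    rw [commutatorElement_def]
    exact Er.mul_mem (Er.mul_mem (Er.mul_mem he hx) (Er.inv_mem he)) (Er.inv_mem hx)
  have hNO : E ≤ Subgroup.normalizer ((Oc p C₀ : Subgroup G) : Set G) :=
    h.N_C₀.trans (normalizer_le_normalizer_Oc C₀)
  have hle : Oc p C₀ ⊓ Er ≤ Oc p Er := by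
    refine le_Oc inf_le_right ((isPGroup_Oc p C₀).to_le inf_le_left) ?_
    intro l hl a ha
    exact ⟨(Subgroup.mem_normalizer_iff.mp (hNO (h.Er_le hl)) a).mp ha.1,
      Er.mul_mem (Er.mul_mem hl ha.2) (Er.inv_mem hl)⟩
  exact hle ⟨h1, h2⟩

theorem QE.dichotomy (h : QE p Q U E) :
    ¬ weakClosure Q E ≤ Subgroup.centralizer (U : Set G) := by
  intro hle
  rcases large_weakClosure_dichotomy h.hQ h.hQp h.hQ1 h.hQE with h1 | h1
  · apply h.hQn
    intro x hx
    have h2 : cj x Q ≤ E := by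
      have := cj_mono (g := x) h.hQE
      rwa [cj_eq_self hx] at this
    have h3 : cj x Q ≤ weakClosure Q E := le_weakClosure h2
    rw [h1] at h3
    exact cj_le_self_iff.mp h3
  · apply h.hU1
    rw [eq_bot_iff, ← h1]
    intro u hu
    rw [Subgroup.mem_centralizer_iff]
    intro w hw
    exact (Subgroup.mem_centralizer_iff.mp (hle hw) u hu).symm

section quot

variable [hn : ((Subgroup.centralizer (U : Set G)).subgroupOf E).Normal]

/-- The quotient map. -/
abbrev piE (U E : Subgroup G) [hn : ((Subgroup.centralizer (U : Set G)).subgroupOf E).Normal] :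
    ↥E →* ↥E ⧸ (Subgroup.centralizer (U : Set G)).subgroupOf E :=
  QuotientGroup.mk' ((Subgroup.centralizer (U : Set G)).subgroupOf E)

theorem piE_eq_one {x : E} : piE U E x = 1 ↔ (x : G) ∈ Subgroup.centralizer (U : Set G) := by
  rw [QuotientGroup.mk'_apply, QuotientGroup.eq_one_iff]
  exact Subgroup.mem_subgroupOf

theorem piE_eq_iff {x y : E} : piE U E x = piE U E y ↔ (x : G)⁻¹ * y ∈ Subgroup.centralizer (U : Set G) := by
  rw [QuotientGroup.mk'_apply, QuotientGroup.mk'_apply, QuotientGroup.eq]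
  exact Subgroup.mem_subgroupOf

theorem piE_surj : Function.Surjective (piE U E) := QuotientGroup.mk'_surjective _

theorem map_residual_eq :
    ((pResidual p ↥E) ⊔ (Subgroup.centralizer (U : Set G)).subgroupOf E).map (piE U E) =
      pResidual p (↥E ⧸ (Subgroup.centralizer (U : Set G)).subgroupOf E) := by
  rw [Subgroup.map_sup]
  have h1 : ((Subgroup.centralizer (U : Set G)).subgroupOf E).map (piE U E) = ⊥ :=
    QuotientGroup.map_mk'_self _
  rw [h1, sup_bot_eq]
  exact Cfsg.Agent.Lib.PResid.map_pResidual_of_surjective _ piE_surj p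

/-- Images of normal subgroups. -/
theorem map_normal {D : Subgroup G} (hD : E ≤ Subgroup.normalizer (D : Set G)) :
    ((D.subgroupOf E).map (piE U E)).Normal := by
  refine Subgroup.Normal.map ?_ _ piE_surj
  constructor
  intro n hn' g
  rw [Subgroup.mem_subgroupOf] at hn' ⊢
  exact (Subgroup.mem_normalizer_iff.mp (hD g.2) n).mp hn'

theorem map_isPGroup {D : Subgroup G} (hD : IsPGroup p D) :
    IsPGroup p ((D.subgroupOf E).map (piE U E)) := by
  have h1 : IsPGroup p (D.subgroupOf E) := hD.comap_subtype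
  exact h1.map _

theorem QE.Er_le_Rz (h : QE p Q U E) : Rz p (weakClosure Q E) ≤ Rz p E := by
  refine (Rz_eq_closure (p := p) (weakClosure Q E)).le.trans ?_
  rw [Subgroup.closure_le]
  rintro x ⟨hx, hc⟩
  exact Cfsg.Agent.Lib.PResid.mem_map_pResidual_of_coprime (h.W_le hx) hc

/-- Lifting elements of order prime to `p`. -/
theorem QE.lift (h : QE p Q U E) {w : E} (hw : (w : G) ∈ weakClosure Q E)
    (hc : (orderOf (piE U E w)).Coprime p) :
    piE U E w ∈ ((Rz p (weakClosure Q E)).subgroupOf E).map (piE U E) := by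
  classical
  obtain ⟨k, m, hm, hk⟩ := Nat.exists_eq_pow_mul_and_not_dvd (n := orderOf (w : G)) (orderOf_pos _).ne' p
    hp.out.ne_one
  set x := (w : G) ^ p ^ k with hx
  have hxW : x ∈ weakClosure Q E := Subgroup.pow_mem _ hw _
  have hxm : x ^ m = 1 := by
    rw [hx, ← pow_mul, ← hk, pow_orderOf_eq_one]
  have hco : (orderOf x).Coprime p := by
    have h1 : orderOf x ∣ m := orderOf_dvd_of_pow_eq_one hxm
    refine Nat.Coprime.coprime_dvd_left h1 ?_
    exact ((Nat.Prime.coprime_iff_not_dvd hp.out).mpr hm).symm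
  have hxE : x ∈ Rz p (weakClosure Q E) := Cfsg.Agent.Lib.PResid.mem_map_pResidual_of_coprime hxW hco
  have h2 : (piE U E w) ^ p ^ k ∈ ((Rz p (weakClosure Q E)).subgroupOf E).map (piE U E) := by
    refine ⟨w ^ p ^ k, ?_, map_pow _ _ _⟩
    rw [SetLike.mem_coe, Subgroup.mem_subgroupOf]
    simpa using hxE
  exact Cfsg.Agent.Lib.CharTwoLocal.mem_of_pow_mem_of_coprime h2 (Nat.Coprime.pow_right k hc)

/-- The image of `Er` is `O^p(E/C)`. -/
theorem QE.im_Er (h : QE p Q U E)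
    (hO : pCore p (↥E ⧸ (Subgroup.centralizer (U : Set G)).subgroupOf E) = ⊥)
    (hF : IsQuasisimple (pResidual p (↥E ⧸ (Subgroup.centralizer (U : Set G)).subgroupOf E))) :
    ((Rz p (weakClosure Q E)).subgroupOf E).map (piE U E) =
      pResidual p (↥E ⧸ (Subgroup.centralizer (U : Set G)).subgroupOf E) := by
  apply le_antisymm
  · rintro _ ⟨x, hx, rfl⟩
    have hx1 : (x : G) ∈ Rz p E := h.Er_le_Rz (Subgroup.mem_subgroupOf.mp hx)
    obtain ⟨y, hy, hyx⟩ := hx1
    have : y = x := Subtype.ext hyx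
    rw [← this, ← map_residual_eq (p := p)]
    exact ⟨y, (le_sup_left : pResidual p ↥E ≤ _) hy, rfl⟩
  · have hnorm := map_normal (U := U) (E := E) h.N_W
    rcases normal_dichotomy hF hnorm with h1 | h1
    · conv_lhs => rw [pResidual]
      rw [Subgroup.closure_le]
      intro y hy
      obtain ⟨w, hw, rfl⟩ := h1 (Subgroup.subset_closure hy)
      exact h.lift (Subgroup.mem_subgroupOf.mp hw) hy
    · exfalso
      apply h.dichotomy
      refine weakClosure_le fun g hg => ?_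
      have h2 : ((cj g Q).subgroupOf E).map (piE U E) ≤
          ((weakClosure Q E).subgroupOf E).map (piE U E) := by
        apply Subgroup.map_mono
        intro x hx
        rw [Subgroup.mem_subgroupOf] at hx ⊢
        exact (le_weakClosure hg) hx
      have h3 := (centralizer_props hO hF).2 _ (h2.trans h1) (map_isPGroup (isPGroup_cj h.hQp))
      intro x hx
      have h4 : piE U E ⟨x, hg hx⟩ ∈ ((cj g Q).subgroupOf E).map (piE U E) :=
        ⟨⟨x, hg hx⟩, hx, rfl⟩
      rw [h3, Subgroup.mem_bot] at h4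
      exact piE_eq_one.mp h4

/-- Elements of `Er` modulo `C`. -/
theorem QE.exists_of_le (h : QE p Q U E)
    (hO : pCore p (↥E ⧸ (Subgroup.centralizer (U : Set G)).subgroupOf E) = ⊥)
    (hF : IsQuasisimple (pResidual p (↥E ⧸ (Subgroup.centralizer (U : Set G)).subgroupOf E)))
    {K : Subgroup G} (hK : pResidual p (↥E ⧸ (Subgroup.centralizer (U : Set G)).subgroupOf E) ≤
      (K.subgroupOf E).map (piE U E)) (hKEr : K ≤ Rz p (weakClosure Q E))
    {k : G} (hk : k ∈ Rz p (weakClosure Q E)) :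
    ∃ c ∈ K, ∃ z ∈ Rz p (weakClosure Q E), z ∈ Subgroup.centralizer (U : Set G) ∧ k = c * z := by
  have hkE := h.Er_le hk
  have h1 : piE U E ⟨k, hkE⟩ ∈ ((K.subgroupOf E).map (piE U E)) := by
    apply hK
    rw [← h.im_Er hO hF]
    exact ⟨⟨k, hkE⟩, Subgroup.mem_subgroupOf.mpr hk, rfl⟩
  obtain ⟨c, hc, hce⟩ := h1
  have hc' : (c : G) ∈ K := Subgroup.mem_subgroupOf.mp hc
  refine ⟨c, hc', (c : G)⁻¹ * k, ?_, piE_eq_iff.mp hce, by group⟩
  exact Subgroup.mul_mem _ (Subgroup.inv_mem _ (hKEr hc')) hk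

/-- `Er` is perfect. -/
theorem QE.perfect (h : QE p Q U E)
    (hO : pCore p (↥E ⧸ (Subgroup.centralizer (U : Set G)).subgroupOf E) = ⊥)
    (hF : IsQuasisimple (pResidual p (↥E ⧸ (Subgroup.centralizer (U : Set G)).subgroupOf E))) :
    ⁅Rz p (weakClosure Q E), Rz p (weakClosure Q E)⁆ = Rz p (weakClosure Q E) := by
  set Er := Rz p (weakClosure Q E) with hEr
  set D₁ := ⁅Er, Er⁆ with hD₁
  have hD₁Er : D₁ ≤ Er := Subgroup.commutator_le_self Er
  have hF' := comm_self_of_qs hF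
  have hIm := h.im_Er hO hF
  have hle : pResidual p (↥E ⧸ (Subgroup.centralizer (U : Set G)).subgroupOf E) ≤
      (D₁.subgroupOf E).map (piE U E) := by
    rw [← hF', Subgroup.commutator_le]
    intro f₁ hf₁ f₂ hf₂
    rw [← hIm] at hf₁ hf₂
    obtain ⟨e₁, he₁, rfl⟩ := hf₁
    obtain ⟨e₂, he₂, rfl⟩ := hf₂
    refine ⟨⁅e₁, e₂⁆, ?_, map_commutatorElement _ _ _⟩
    rw [SetLike.mem_coe, Subgroup.mem_subgroupOf]
    exact Subgroup.commutator_mem_commutator (Subgroup.mem_subgroupOf.mp he₁) (Subgroup.mem_subgroupOf.mp he₂)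
  have hED : E ≤ Subgroup.normalizer ((D₁ : Subgroup G) : Set G) := by
    intro x hx
    apply cj_eq_iff.mp
    show Subgroup.map (MulAut.conj x).toMonoidHom ⁅Er, Er⁆ = ⁅Er, Er⁆
    have h1 : Subgroup.map (MulAut.conj x).toMonoidHom Er = Er := cj_eq_iff.mpr (h.N_Er hx)
    rw [Subgroup.map_commutator, h1]
  have hgen : ∀ k ∈ Er, ∀ q ∈ Q, ⁅k, q⁆ ∈ D₁ := by
    intro k hk q hq
    obtain ⟨d, hd, z, hzE, hzC, rfl⟩ := h.exists_of_le hO hF hle hD₁Er hk
    have hqE := h.hQE hq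
    have hzEE := h.Er_le hzE
    set d' := z⁻¹ * d * z with hd'
    have hd'D : d' ∈ D₁ := by
      have := (Subgroup.mem_normalizer_iff.mp (hED (E.inv_mem hzEE)) d).mp hd
      simpa [hd'] using this
    have he : d * z = z * d' := by rw [hd']; group
    rw [he]
    have h1 : ⁅z * d', q⁆ = (z * ⁅d', q⁆ * z⁻¹) * ⁅z, q⁆ := by
      simp only [commutatorElement_def]
      group
    have hdq : ⁅d', q⁆ ∈ D₁ := by
      rw [commutatorElement_def]
      have h3 : d' * q * d'⁻¹ * q⁻¹ = d' * (q * d'⁻¹ * q⁻¹) := by group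
      rw [h3]
      exact D₁.mul_mem hd'D ((Subgroup.mem_normalizer_iff.mp (hED hqE) _).mp (D₁.inv_mem hd'D))
    have hCN : Subgroup.centralizer (U : Set G) ≤ Subgroup.normalizer (Q : Set G) :=
      large_centralizer_le_normalizer h.hQ h.hQp h.hUp h.hU1 (h.hQE.trans h.hEU)
    have hzq : ⁅z, q⁆ ∈ Q := by
      rw [commutatorElement_def]
      exact Q.mul_mem ((Subgroup.mem_normalizer_iff.mp (hCN hzC) q).mp hq) (Q.inv_mem hq)
    have hmem : ⁅z * d', q⁆ ∈ Er := by
      have := Subgroup.commutator_mem_commutator (show z * d' ∈ Er from by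
        rw [← he]; exact Er.mul_mem (hD₁Er hd) hzE) hq
      rwa [h.comm_Q] at this
    have hmem2 : ⁅z * d', q⁆ ∈ Q ⊔ D₁ := by
      rw [h1, sup_comm]
      exact Subgroup.mul_mem_sup ((Subgroup.mem_normalizer_iff.mp (hED hzEE) _).mp hdq) hzq
    obtain ⟨m, hm⟩ := pow_mem_of_mem_sup (h.hQE.trans hED) (fun d hd => by
      obtain ⟨k, hk⟩ := h.hQp ⟨d, hd⟩
      refine ⟨k, ?_⟩
      have : d ^ p ^ k = 1 := by simpa using congrArg Subtype.val hk
      rw [this]
      exact D₁.one_mem) _ hmem2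
    refine mem_of_pow_mem_of_comm (Rz_eq_closure (p := p) _) (fun x hx hc =>
      Cfsg.Agent.Lib.PResid.mem_map_pResidual_of_coprime hx hc) hD₁Er
      (h.Er_le.trans hED) ?_ hmem hm
    intro a ha b hb
    exact Subgroup.commutator_mem_commutator ha hb
  refine le_antisymm hD₁Er ?_
  have hcq : ⁅Er, Q⁆ = Er := h.comm_Q
  exact hcq.ge.trans (Subgroup.commutator_le.mpr hgen)

/-- `O^p(Er) = Er`. -/
theorem Rz_Rz (W : Subgroup G) : Rz p (Rz p W) = Rz p W := by
  refine le_antisymm (Rz_le _) ?_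
  refine (Rz_eq_closure (p := p) W).le.trans ?_
  rw [Subgroup.closure_le]
  rintro x ⟨hx, hc⟩
  exact Cfsg.Agent.Lib.PResid.mem_map_pResidual_of_coprime
    (Cfsg.Agent.Lib.PResid.mem_map_pResidual_of_coprime hx hc) hc

/-- `[Er, Y] = Er`. -/
theorem QE.comm_Y (h : QE p Q U E)
    (hO : pCore p (↥E ⧸ (Subgroup.centralizer (U : Set G)).subgroupOf E) = ⊥)
    (hF : IsQuasisimple (pResidual p (↥E ⧸ (Subgroup.centralizer (U : Set G)).subgroupOf E)))
    {Y : Subgroup G} (hYE : Y ≤ E) (hYp : IsPGroup p Y) (hYC : ¬ Y ≤ Subgroup.centralizer (U : Set G)) :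
    ⁅Rz p (weakClosure Q E), Y⁆ = Rz p (weakClosure Q E) := by
  set Er := Rz p (weakClosure Q E) with hEr
  set K := ⁅Er, Y⁆ with hK
  have hKEr : K ≤ Er := by
    rw [hK, Subgroup.commutator_le]
    intro a ha y hy
    rw [commutatorElement_def]
    have h3 : a * y * a⁻¹ * y⁻¹ = a * (y * a⁻¹ * y⁻¹) := by group
    rw [h3]
    exact Er.mul_mem ha ((Subgroup.mem_normalizer_iff.mp (h.N_Er (hYE hy)) _).mp (Er.inv_mem ha))
  have hErK : Er ≤ Subgroup.normalizer ((K : Subgroup G) : Set G) := by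
    intro r hr
    apply cj_le_self_iff.mp
    rintro _ ⟨z, hz, rfl⟩
    exact Cfsg.Agent.Lib.CharPLocal.conj_mem_commutator_left hr hz
  have hIm := h.im_Er hO hF
  have hY1 : (Y.subgroupOf E).map (piE U E) ≠ ⊥ := by
    intro hb
    apply hYC
    intro y hy
    have h4 : piE U E ⟨y, hYE hy⟩ ∈ (Y.subgroupOf E).map (piE U E) :=
      ⟨⟨y, hYE hy⟩, Subgroup.mem_subgroupOf.mpr hy, rfl⟩
    rw [hb, Subgroup.mem_bot] at h4
    exact piE_eq_one.mp h4
  have hcomm := commutator_residual_eq hO hF (map_isPGroup hYp) hY1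
  have hle : pResidual p (↥E ⧸ (Subgroup.centralizer (U : Set G)).subgroupOf E) ≤
      (K.subgroupOf E).map (piE U E) := by
    rw [← hcomm, Subgroup.commutator_le]
    intro f₁ hf₁ f₂ hf₂
    rw [← hIm] at hf₁
    obtain ⟨e₁, he₁, rfl⟩ := hf₁
    obtain ⟨e₂, he₂, rfl⟩ := hf₂
    refine ⟨⁅e₁, e₂⁆, ?_, map_commutatorElement _ _ _⟩
    rw [SetLike.mem_coe, Subgroup.mem_subgroupOf]
    exact Subgroup.commutator_mem_commutator (Subgroup.mem_subgroupOf.mp he₁) (Subgroup.mem_subgroupOf.mp he₂)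
  set B₀ := Oc p Er with hB₀
  have hErB : Er ≤ Subgroup.normalizer ((B₀ : Subgroup G) : Set G) := le_normalizer_Oc Er
  have hB₀Er : B₀ ≤ Er := Cfsg.Agent.Lib.CharTwoLocal.Oc_le p Er
  have hper := h.perfect hO hF
  have hs : B₀ ⊔ K = Er := by
    refine le_antisymm (sup_le hB₀Er hKEr) ?_
    refine hper.ge.trans ?_
    rw [Subgroup.commutator_le]
    intro a ha b hb
    obtain ⟨c, hc, z, hzE, hzC, rfl⟩ := h.exists_of_le hO hF hle hKEr ha
    have h1 : ⁅c * z, b⁆ = (c * ⁅z, b⁆ * c⁻¹) * ⁅c, b⁆ := by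
      simp only [commutatorElement_def]
      group
    rw [h1]
    refine Subgroup.mul_mem_sup ?_ ?_
    · refine (Subgroup.mem_normalizer_iff.mp (hErB (hKEr hc)) _).mp ?_
      have h2 : ⁅z, b⁆ = ⁅b, z⁆⁻¹ := by rw [commutatorElement_inv]
      rw [h2]
      exact B₀.inv_mem (h.comm_mem hb hzE hzC)
    · rw [commutatorElement_def]
      have h3 : c * b * c⁻¹ * b⁻¹ = c * (b * c⁻¹ * b⁻¹) := by group
      rw [h3]
      exact K.mul_mem hc ((Subgroup.mem_normalizer_iff.mp (hErK hb) _).mp (K.inv_mem hc))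
  have h5 := Rz_le_of_sup hKEr hErK hB₀Er (isPGroup_Oc p Er) hs
  rw [Rz_Rz] at h5
  exact le_antisymm hKEr h5

/-- Quasisimplicity modulo `C`. -/
theorem QE.qs_C (h : QE p Q U E)
    (hO : pCore p (↥E ⧸ (Subgroup.centralizer (U : Set G)).subgroupOf E) = ⊥)
    (hF : IsQuasisimple (pResidual p (↥E ⧸ (Subgroup.centralizer (U : Set G)).subgroupOf E)))
    [hn2 : ((Subgroup.centralizer (U : Set G)).subgroupOf (Rz p (weakClosure Q E))).Normal] :
    IsQuasisimple (↥(Rz p (weakClosure Q E)) ⧸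
      (Subgroup.centralizer (U : Set G)).subgroupOf (Rz p (weakClosure Q E))) := by
  set Er := Rz p (weakClosure Q E) with hEr
  let φ : ↥Er →* (↥E ⧸ (Subgroup.centralizer (U : Set G)).subgroupOf E) :=
    (piE U E).comp (Subgroup.inclusion h.Er_le)
  have hker : (Subgroup.centralizer (U : Set G)).subgroupOf Er = φ.ker := by
    ext x
    rw [MonoidHom.mem_ker, Subgroup.mem_subgroupOf]
    show _ ↔ piE U E (Subgroup.inclusion h.Er_le x) = 1
    rw [piE_eq_one]
    rfl
  have hrange : φ.range = pResidual p (↥E ⧸ (Subgroup.centralizer (U : Set G)).subgroupOf E) := by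
    rw [← h.im_Er hO hF]
    ext y
    constructor
    · rintro ⟨x, rfl⟩
      exact ⟨Subgroup.inclusion h.Er_le x, Subgroup.mem_subgroupOf.mpr x.2, rfl⟩
    · rintro ⟨x, hx, rfl⟩
      exact ⟨⟨x, Subgroup.mem_subgroupOf.mp hx⟩, rfl⟩
  let e := (QuotientGroup.quotientMulEquivOfEq hker).trans
    ((QuotientGroup.quotientKerEquivRange φ).trans (MulEquiv.subgroupCongr hrange))
  exact qs_of_mulEquiv e.symm hF

/-- Quasisimplicity modulo the `p`-core. -/
theorem QE.qs_pCore (h : QE p Q U E)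
    (hO : pCore p (↥E ⧸ (Subgroup.centralizer (U : Set G)).subgroupOf E) = ⊥)
    (hF : IsQuasisimple (pResidual p (↥E ⧸ (Subgroup.centralizer (U : Set G)).subgroupOf E)))
    [hn2 : ((Subgroup.centralizer (U : Set G)).subgroupOf (Rz p (weakClosure Q E))).Normal] :
    IsQuasisimple (↥(Rz p (weakClosure Q E)) ⧸ pCore p ↥(Rz p (weakClosure Q E))) := by
  have hY := h.qs_C hO hF
  set Er := Rz p (weakClosure Q E) with hEr
  have hNO : E ≤ Subgroup.normalizer ((Oc p Er : Subgroup G) : Set G) :=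
    h.N_Er.trans (normalizer_le_normalizer_Oc Er)
  have hOC : Oc p Er ≤ Subgroup.centralizer (U : Set G) := by
    have h1 : ((Oc p Er).subgroupOf E).map (piE U E) ≤ pCore p _ :=
      Cfsg.Agent.Lib.PCore.le_pCore (map_normal hNO) (map_isPGroup (isPGroup_Oc p Er))
    rw [hO] at h1
    intro x hx
    have hxE : x ∈ E := h.Er_le (Cfsg.Agent.Lib.CharTwoLocal.Oc_le p Er hx)
    have h2 : piE U E ⟨x, hxE⟩ ∈ ((Oc p Er).subgroupOf E).map (piE U E) :=
      ⟨⟨x, hxE⟩, Subgroup.mem_subgroupOf.mpr hx, rfl⟩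
    have h3 := h1 h2
    rw [Subgroup.mem_bot] at h3
    exact piE_eq_one.mp h3
  have hle : pCore p ↥Er ≤ ((Subgroup.centralizer (U : Set G)).subgroupOf Er).comap (MonoidHom.id _) := by
    intro x hx
    show x ∈ (Subgroup.centralizer (U : Set G)).subgroupOf Er
    rw [Subgroup.mem_subgroupOf]
    exact hOC ⟨x, hx, rfl⟩
  let f := QuotientGroup.map (pCore p ↥Er) ((Subgroup.centralizer (U : Set G)).subgroupOf Er)
    (MonoidHom.id _) hle
  have hf : Function.Surjective f := by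
    intro y
    obtain ⟨x, rfl⟩ := QuotientGroup.mk'_surjective _ y
    exact ⟨QuotientGroup.mk' _ x, rfl⟩
  have hper : Group.IsPerfect ↥Er := Subgroup.isPerfect_iff.mpr (h.perfect hO hF)
  have hA : commutator (↥Er ⧸ pCore p ↥Er) = ⊤ :=
    (Group.IsPerfect.ofSurjective (f := QuotientGroup.mk' (pCore p ↥Er))
      (QuotientGroup.mk'_surjective _)).commutator_eq_top
  refine Cfsg.Agent.Lib.PComp.qs_of_central_ext hY hA f hf ?_
  intro a ha
  obtain ⟨x, rfl⟩ := QuotientGroup.mk'_surjective _ a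
  have hx : QuotientGroup.mk' ((Subgroup.centralizer (U : Set G)).subgroupOf Er) x = 1 := ha
  have hxC : (x : G) ∈ Subgroup.centralizer (U : Set G) :=
    Subgroup.mem_subgroupOf.mp ((QuotientGroup.eq_one_iff _).mp hx)
  rw [Subgroup.mem_center_iff]
  intro b
  obtain ⟨y, rfl⟩ := QuotientGroup.mk'_surjective _ b
  have hcm : ⁅(y : G)⁻¹, (x : G)⁻¹⁆ ∈ Oc p Er :=
    h.comm_mem (Er.inv_mem y.2) (Er.inv_mem x.2) (Subgroup.inv_mem _ hxC)
  obtain ⟨w, hw, hwe⟩ := hcm
  rw [← map_mul, ← map_mul]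
  apply QuotientGroup.eq.mpr
  have h5 : (y * x)⁻¹ * (x * y) = w⁻¹ := by
    apply Subtype.ext
    have h6 : (w : G) = ⁅(y : G)⁻¹, (x : G)⁻¹⁆ := hwe
    push_cast
    rw [h6]
    simp only [commutatorElement_def]
    group
  rw [h5]
  exact Subgroup.inv_mem _ hw

end quot

end ambient

end Cfsg.Agent.Lib.QSLocal
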