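/-
Products of `p`-minimal and of strongly `p`-irreducible subgroups modulo `O_p`.
-/
import Mathlib
import Cfsg.Agent.Lib.YTheory5
import Cfsg.Agent.Lib.QSLocal
import Cfsg.Agent.Lib.PClosed

set_option autoImplicit false
set_option linter.unusedSectionVars false
set_option linter.style.haveILetI false

namespace Cfsg.Agent.Lib.PMinProd

open Cfsg Cfsg.Agent.Lib.LocalLarge Cfsg.Agent.Lib.CharTwoLocal Cfsg.Agent.Lib.YTheory
open Cfsg.Agent.Lib.YTheory4 Cfsg.Agent.Lib.YTheory5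
open Cfsg.Agent.Lib.CoprimeInv (IsSylowIn)
open scoped commutatorElement

variable {H : Type*} [Group H] [Finite H] {p : ℕ} [hp : Fact p.Prime]

/-- The standing hypotheses on the family `𝒦`. -/
structure KS (p : ℕ) (𝒦 : Set (Subgroup H)) : Prop where
  hne : 𝒦.Nonempty
  hinv : ∀ h : H, ∀ E ∈ 𝒦, E.map (MulAut.conj h).toMonoidHom ∈ 𝒦
  htr : ∀ E ∈ 𝒦, ∀ K ∈ 𝒦, ∃ h : H, K = E.map (MulAut.conj h).toMonoidHom
  hres : pResidual p H ≤ sSup 𝒦
  hnorm : ∀ E ∈ 𝒦, sSup 𝒦 ⊔ pCore p H ≤ Subgroup.normalizer ((E ⊔ pCore p H : Subgroup H) : Set H)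

theorem isPGroup_O : IsPGroup p (pCore p H) := Cfsg.Agent.Lib.PCore.isPGroup_pCore p

instance normal_O : (pCore p H).Normal := inferInstance

/-- Elements with `p`-power order generate `p`-subgroups. -/
theorem isPGroup_zpowers_of_pow {x : H} {k : ℕ} (h : x ^ p ^ k = 1) : IsPGroup p (Subgroup.zpowers x) := by
  rw [IsPGroup.iff_card]
  obtain ⟨j, -, hj⟩ := (Nat.dvd_prime_pow hp.out).mp (orderOf_dvd_of_pow_eq_one h)
  exact ⟨j, by rw [Nat.card_zpowers, hj]⟩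

theorem O_le_sylow (T : Sylow p H) : pCore p H ≤ (T : Subgroup H) :=
  Cfsg.Agent.Lib.PCore.pCore_le_sylow p T

omit [Finite H] hp in
theorem Rz_eq (K : Subgroup H) : Rz p K = Subgroup.closure {x : H | x ∈ K ∧ (orderOf x).Coprime p} :=
  Cfsg.Agent.Lib.PResid.map_pResidual_eq_closure p K

/-- Every element of `L` is a product of an element of a Sylow subgroup of `L` with an element of `O^p(L)`. -/
theorem mem_sylow_mul_Rz {S E : Subgroup H} (hS : IsSylowIn p S E) {x : H} (hx : x ∈ E) :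
    ∃ t ∈ S, ∃ c ∈ Rz p E, x = t * c := by
  refine exists_sylow_mul hS (Rz_le E) (le_normalizer_Rz E) (le_refl E) Subgroup.le_normalizer ?_ x hx
  intro d hd
  obtain ⟨k, hk⟩ := Cfsg.Agent.Lib.QSLocal.pow_mem_residual (p := p) (⟨d, hd⟩ : E)
  exact ⟨k, ⟨_, hk, rfl⟩⟩

theorem Rz_sup_sylow {S E : Subgroup H} (hS : IsSylowIn p S E) : S ⊔ Rz p E = E := by
  refine le_antisymm (sup_le hS.1 (Rz_le E)) ?_
  intro x hx
  obtain ⟨t, ht, c, hc, rfl⟩ := mem_sylow_mul_Rz hS hx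
  exact Subgroup.mul_mem _ (Subgroup.mem_sup_left ht) (Subgroup.mem_sup_right hc)

section
variable {𝒦 : Set (Subgroup H)} (hK : KS p 𝒦)
include hK

theorem R_normal : (sSup 𝒦).Normal := by
  constructor
  intro n hn g
  have h1 : sSup 𝒦 ≤ (sSup 𝒦).comap (MulAut.conj g).toMonoidHom := by
    refine sSup_le fun E hE => ?_
    rw [← Subgroup.map_le_iff_le_comap]
    exact le_sSup (hK.hinv g E hE)
  exact h1 hn

theorem RO_normal : (sSup 𝒦 ⊔ pCore p H).Normal := by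
  have := R_normal hK
  exact Subgroup.sup_normal _ _

theorem le_R {E : Subgroup H} (hE : E ∈ 𝒦) : E ≤ sSup 𝒦 := le_sSup hE

theorem EO_le_RO {E : Subgroup H} (hE : E ∈ 𝒦) : E ⊔ pCore p H ≤ sSup 𝒦 ⊔ pCore p H :=
  sup_le_sup_right (le_R hK hE) _

/-- `O_p` of a subgroup normalized by everything lies in `O_p(H)`. -/
theorem Oc_le_O_of_normal {A : Subgroup H} (hA : A.Normal) : Oc p A ≤ pCore p H := by
  have hn : (Oc p A).Normal := by
    constructor
    intro x hx g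
    exact conj_mem_Oc_of_normalizer (by
      rw [Subgroup.normalizer_eq_top_iff.mpr hA]; trivial) hx
  exact Cfsg.Agent.Lib.PCore.le_pCore hn (isPGroup_Oc p A)

theorem Oc_RO_le : Oc p (sSup 𝒦 ⊔ pCore p H) ≤ pCore p H :=
  Oc_le_O_of_normal hK (RO_normal hK)

theorem Oc_EO_le {E : Subgroup H} (hE : E ∈ 𝒦) : Oc p (E ⊔ pCore p H) ≤ pCore p H :=
  (Oc_le_Oc_of_normal (EO_le_RO hK hE) (hK.hnorm E hE)).trans (Oc_RO_le hK)

theorem Oc_E_le {E : Subgroup H} (hE : E ∈ 𝒦) : Oc p E ≤ pCore p H := by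
  have hp1 : IsPGroup p ↥(Oc p E ⊔ pCore p H) :=
    IsPGroup.to_sup_of_normal_right' (isPGroup_Oc p E) isPGroup_O (by
      rw [Subgroup.normalizer_eq_top_iff.mpr inferInstance]; exact le_top)
  have hle : Oc p E ⊔ pCore p H ≤ Oc p (E ⊔ pCore p H) := by
    refine le_Oc (sup_le_sup_right (Oc_le p E) _) hp1 ?_
    have hnorm : E ⊔ pCore p H ≤ Subgroup.normalizer ((Oc p E ⊔ pCore p H : Subgroup H) : Set H) := by
      refine sup_le ?_ ?_
      · intro e he
        apply cj_eq_iff.mp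
        have h1 : cj e (Oc p E) = Oc p E := cj_eq_iff.mpr (le_normalizer_Oc E he)
        rw [cj_sup, h1, cj_normal (inferInstance : (pCore p H).Normal)]
      · intro o ho
        exact Subgroup.le_normalizer (Subgroup.mem_sup_right ho)
    intro h hh x hx
    exact (Subgroup.mem_normalizer_iff.mp (hnorm hh) x).mp hx
  exact (le_sup_left.trans hle).trans (Oc_EO_le hK hE)

/-- `T ∩ A` is Sylow in `A = E O_p(H)`. -/
theorem sylow_EO (T : Sylow p H) {E : Subgroup H} (hE : E ∈ 𝒦) :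
    IsSylowIn p ((T : Subgroup H) ⊓ (E ⊔ pCore p H)) (E ⊔ pCore p H) := by
  have h1 : IsSylowIn p ((T : Subgroup H) ⊓ (sSup 𝒦 ⊔ pCore p H)) (sSup 𝒦 ⊔ pCore p H) :=
    isSylowIn_inf (le_top) le_top (by
      rw [Subgroup.normalizer_eq_top_iff.mpr (RO_normal hK)])
  have h2 := isSylowIn_inf_rel h1 (EO_le_RO hK hE) (hK.hnorm E hE)
  have h3 : (T : Subgroup H) ⊓ (sSup 𝒦 ⊔ pCore p H) ⊓ (E ⊔ pCore p H) =
      (T : Subgroup H) ⊓ (E ⊔ pCore p H) := by
    rw [inf_assoc, inf_eq_right.mpr (EO_le_RO hK hE)]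
  rwa [h3] at h2

/-- Dedekind: elements of `E ⊔ O`. -/
theorem mem_EO {E : Subgroup H} {x : H} (hx : x ∈ E ⊔ pCore p H) :
    ∃ e ∈ E, ∃ o ∈ pCore p H, x = e * o :=
  exists_mul_of_mem_sup (by rw [Subgroup.normalizer_eq_top_iff.mpr inferInstance]; exact le_top) hx

/-- `T ∩ E` is Sylow in `E`. -/
theorem sylow_E (T : Sylow p H) {E : Subgroup H} (hE : E ∈ 𝒦) :
    IsSylowIn p ((T : Subgroup H) ⊓ E) E := by
  refine ⟨inf_le_right, T.isPGroup'.to_le inf_le_left, ?_⟩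
  intro D hDE hDp hTD
  refine le_antisymm ?_ hTD
  have hS := sylow_EO hK T hE
  have hDO : IsPGroup p ↥(D ⊔ pCore p H) :=
    IsPGroup.to_sup_of_normal_right' hDp isPGroup_O (by
      rw [Subgroup.normalizer_eq_top_iff.mpr inferInstance]; exact le_top)
  have hle : (T : Subgroup H) ⊓ (E ⊔ pCore p H) ≤ D ⊔ pCore p H := by
    rintro x ⟨hxT, hxA⟩
    obtain ⟨e, he, o, ho, rfl⟩ := mem_EO hK hxA
    have heT : e ∈ (T : Subgroup H) := by
      have h1 : e = e * o * o⁻¹ := by group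
      rw [h1]
      exact Subgroup.mul_mem _ hxT (Subgroup.inv_mem _ (O_le_sylow T ho))
    exact Subgroup.mul_mem _ (Subgroup.mem_sup_left (hTD ⟨heT, he⟩)) (Subgroup.mem_sup_right ho)
  have heq := hS.2.2 _ (sup_le_sup_right hDE _) hDO hle
  intro d hd
  have hd1 : d ∈ (T : Subgroup H) ⊓ (E ⊔ pCore p H) := by
    rw [← heq]; exact Subgroup.mem_sup_left hd
  exact ⟨hd1.1, hDE hd⟩

/-- `O^p(H)`-control: if `O^p(K) ≤ N` for all `K`, then `O^p(H) ≤ N`. -/
theorem residual_le {N : Subgroup H} (hN : N.Normal) (h : ∀ K ∈ 𝒦, Rz p K ≤ N) :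
    pResidual p H ≤ N := by
  obtain ⟨T⟩ : Nonempty (Sylow p H) := inferInstance
  haveI := hN
  refine Cfsg.Agent.Lib.PClosed.pResidual_le_of_le_sup (X := (T : Subgroup H)) T.isPGroup' ?_
  refine hK.hres.trans (sSup_le fun K hK' => ?_)
  rw [← Rz_sup_sylow (sylow_E hK T hK')]
  exact sup_le_sup inf_le_left (h K hK')

end

/-! ### Commutators modulo `O_p(H)` -/

local notation "π" => QuotientGroup.mk' (pCore p H)

omit [Finite H] hp in
theorem pi_eq_one {x : H} : π x = 1 ↔ x ∈ pCore p H := QuotientGroup.eq_one_iff x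

theorem lemZ {A : Subgroup H} (hOA : pCore p H ≤ A) (hOc : Oc p A ≤ pCore p H) {z : H} (hzA : z ∈ A)
    (hc : ∀ b ∈ A, Commute (π b) (π z)) {k : ℕ} (hk : (π z) ^ p ^ k = 1) : π z = 1 := by
  have h1 : z ^ p ^ k ∈ pCore p H := by
    rw [← pi_eq_one, map_pow]; exact hk
  obtain ⟨l, hl⟩ := Cfsg.Agent.Lib.PResid.exists_pow_eq_one_of_isPGroup (isPGroup_O (p := p) (H := H)) h1
  have h2 : z ^ p ^ (k + l) = 1 := by
    rw [pow_add, pow_mul]; exact hl
  have hzp : IsPGroup p (Subgroup.zpowers z) := isPGroup_zpowers_of_pow h2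
  have hJp : IsPGroup p ↥(Subgroup.zpowers z ⊔ pCore p H) :=
    IsPGroup.to_sup_of_normal_right' hzp isPGroup_O (by
      rw [Subgroup.normalizer_eq_top_iff.mpr inferInstance]; exact le_top)
  have hJA : Subgroup.zpowers z ⊔ pCore p H ≤ A :=
    sup_le (Subgroup.zpowers_le.mpr hzA) hOA
  have hle : Subgroup.zpowers z ⊔ pCore p H ≤ Oc p A := by
    refine le_Oc hJA hJp ?_
    intro h hh x hx
    have hmem : h ∈ Subgroup.normalizer ((Subgroup.zpowers z ⊔ pCore p H : Subgroup H) : Set H) := by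
      apply cj_le_self_iff.mp
      rw [cj_sup, cj_normal (inferInstance : (pCore p H).Normal)]
      refine sup_le ?_ le_sup_right
      have h3 : cj h (Subgroup.zpowers z) = Subgroup.zpowers (h * z * h⁻¹) := by
        show (Subgroup.zpowers z).map (MulAut.conj h).toMonoidHom = _
        rw [MonoidHom.map_zpowers]
        rfl
      rw [h3, Subgroup.zpowers_le]
      have h4 : h * z * h⁻¹ * z⁻¹ ∈ pCore p H := by
        rw [← pi_eq_one]
        have := hc h hh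
        simp only [map_mul, map_inv]
        rw [this.eq]
        group
      have h5 : h * z * h⁻¹ = (h * z * h⁻¹ * z⁻¹) * z := by group
      rw [h5]
      exact Subgroup.mul_mem _ (Subgroup.mem_sup_right h4)
        (Subgroup.mem_sup_left (Subgroup.mem_zpowers z))
    exact (Subgroup.mem_normalizer_iff.mp hmem x).mp hx
  rw [pi_eq_one]
  exact hOc (hle (Subgroup.mem_sup_left (Subgroup.mem_zpowers z)))

theorem lemY (a : H) {E A : Subgroup H} (hEA : E ≤ A) (hOA : pCore p H ≤ A) (hOc : Oc p A ≤ pCore p H)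
    (hgen : ∀ B : Subgroup H, (∀ x ∈ E, (∃ k : ℕ, x ^ p ^ k = 1) → x ∈ B) → E ≤ B)
    (h : ∀ x ∈ E, a * x * a⁻¹ * x⁻¹ ∈ A ∧ ∀ b ∈ A, Commute (π b) (π (a * x * a⁻¹ * x⁻¹))) :
    ∀ x ∈ E, Commute (π x) (π a) := by
  have hle : E ≤ (Subgroup.centralizer ({π a} : Set _)).comap π := by
    apply hgen
    rintro x hx ⟨k, hk⟩
    obtain ⟨h1, h2⟩ := h x hx
    have hw := h2 x (hEA hx)
    set w := π (a * x * a⁻¹ * x⁻¹) with hwdef
    have hw2 : π a * π x * (π a)⁻¹ = w * π x := by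
      rw [hwdef]
      simp only [map_mul, map_inv]
      group
    have hpow : w ^ p ^ k = 1 := by
      have hxp : (π x) ^ p ^ k = 1 := by rw [← map_pow, hk, map_one]
      have h3 := conj_pow (a := π a) (b := π x) (i := p ^ k)
      rw [hw2, hxp, mul_one, mul_inv_cancel, hw.symm.mul_pow, hxp, mul_one] at h3
      exact h3
    have hw1 : w = 1 := lemZ hOA hOc h1 h2 hpow
    rw [Subgroup.mem_comap, Subgroup.mem_centralizer_singleton_iff]
    have h4 : π a * π x * (π a)⁻¹ = π x := by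
      rw [hw2, hw1, one_mul]
    rw [mul_inv_eq_iff_eq_mul] at h4
    exact h4.symm
  intro x hx
  have := hle hx
  rw [Subgroup.mem_comap, Subgroup.mem_centralizer_singleton_iff] at this
  exact this

/-- If every `p`-element of `N` lies in `O_p(H)`, then `N` is `p`-closed. -/
theorem isPClosed_of_le_O {N : Subgroup H} (h : ∀ x ∈ N, (∃ k : ℕ, x ^ p ^ k = 1) → x ∈ pCore p H) :
    IsPClosed p ↥N := by
  rw [Cfsg.Agent.Lib.PClosed.isPClosed_iff_forall]
  rintro x ⟨n, hn⟩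
  have h1 : (x : H) ∈ pCore p H := h x x.2 ⟨n, by simpa using congrArg Subtype.val hn⟩
  have h2 : ((pCore p H).subgroupOf N).Normal := inferInstance
  have h3 : IsPGroup p ((pCore p H).subgroupOf N) :=
    isPGroup_O.comap_of_injective N.subtype N.subtype_injective
  exact Cfsg.Agent.Lib.PCore.le_pCore h2 h3 (Subgroup.mem_subgroupOf.mpr h1)

section
variable {𝒦 : Set (Subgroup H)} (hK : KS p 𝒦)
include hK

/-- Translation of strong irreducibility. -/
theorem irr_of {E X : Subgroup H} (hEK : E ∈ 𝒦) (hE : IsStronglyPIrreducible p ↥E) (hXE : X ≤ E)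
    (hn : E ≤ Subgroup.normalizer (X : Set H)) :
    (∀ x ∈ X, ∀ e ∈ E, Commute (π x) (π e)) ∨ Rz p E ≤ X := by
  have hN : (X.subgroupOf E).Normal := by
    constructor
    intro n hn' g
    rw [Subgroup.mem_subgroupOf] at hn' ⊢
    exact (Subgroup.mem_normalizer_iff.mp (hn g.2) n).mp hn'
  by_cases hc : ⁅X.subgroupOf E, (⊤ : Subgroup E)⁆ ≤ pCore p ↥E
  · left
    intro x hx e he
    have h1 : ⁅(⟨x, hXE hx⟩ : E), (⟨e, he⟩ : E)⁆ ∈ pCore p ↥E :=
      hc (Subgroup.commutator_mem_commutator (Subgroup.mem_subgroupOf.mpr hx) (Subgroup.mem_top _))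
    have h2 : x * e * x⁻¹ * e⁻¹ ∈ Oc p E := ⟨_, h1, rfl⟩
    have h3 := Oc_E_le hK hEK h2
    rw [← pi_eq_one] at h3
    simp only [map_mul, map_inv] at h3
    have h4 : π x * π e * (π x)⁻¹ = π e := by
      rwa [mul_inv_eq_one] at h3
    rw [mul_inv_eq_iff_eq_mul] at h4
    exact h4
  · right
    have h1 := hE.2 _ hN hc
    rintro _ ⟨y, hy, rfl⟩
    exact Subgroup.mem_subgroupOf.mp (h1 hy)

/-- A strongly `p`-irreducible member of `𝒦` is generated by its `p`-elements. -/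
theorem gen_of {E : Subgroup H} (hEK : E ∈ 𝒦) (hE : IsStronglyPIrreducible p ↥E) (B : Subgroup H)
    (hB : ∀ x ∈ E, (∃ k : ℕ, x ^ p ^ k = 1) → x ∈ B) : E ≤ B := by
  classical
  obtain ⟨T⟩ : Nonempty (Sylow p H) := inferInstance
  have hS := sylow_E hK T hEK
  set S : Subgroup E := ((T : Subgroup H) ⊓ E).subgroupOf E with hSdef
  let D : Subgroup E := Subgroup.normalClosure (S : Set E)
  have hDn : D.Normal := Subgroup.normalClosure_normal
  have hSD : S ≤ D := Subgroup.subset_normalClosure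
  have hDB : D.map E.subtype ≤ B := by
    rw [Subgroup.map_le_iff_le_comap]
    show Subgroup.closure _ ≤ _
    rw [Subgroup.closure_le]
    intro y hy
    obtain ⟨s, hs, hc⟩ := Group.mem_conjugatesOfSet_iff.mp hy
    obtain ⟨c, rfl⟩ := isConj_iff.mp hc
    have hs2 : (s : H) ∈ (T : Subgroup H) ⊓ E := Subgroup.mem_subgroupOf.mp hs
    obtain ⟨k, hk⟩ := Cfsg.Agent.Lib.PResid.exists_pow_eq_one_of_isPGroup (T.isPGroup'.to_le inf_le_left) hs2
    refine hB _ (c * s * c⁻¹).2 ⟨k, ?_⟩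
    have h1 : (s : E) ^ p ^ k = 1 := Subtype.ext (by simpa using hk)
    have h2 : (c * s * c⁻¹) ^ p ^ k = 1 := by
      rw [conj_pow, h1]; group
    exact congrArg Subtype.val h2
  have hDtop : pResidual p ↥E ≤ D := by
    by_contra hne
    by_cases hc : ⁅D, (⊤ : Subgroup E)⁆ ≤ pCore p ↥E
    · -- then `S` is normal
      apply hE.1
      have hSn : S.Normal := by
        constructor
        intro s hs g
        have h1 : ⁅s⁻¹, g⁆ ∈ pCore p ↥E :=
          hc (Subgroup.commutator_mem_commutator (hSD (S.inv_mem hs)) (Subgroup.mem_top _))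
        have h2 : ⁅s⁻¹, g⁆ ∈ S := Cfsg.Agent.Lib.PCore.pCore_le_sylow p hS.toSylow h1
        have h3 : g * s * g⁻¹ = s * ⁅s⁻¹, g⁆ := by
          rw [commutatorElement_def]; group
        rw [h3]
        exact S.mul_mem hs h2
      rw [Cfsg.Agent.Lib.PClosed.isPClosed_iff_exists]
      exact ⟨hS.toSylow, Cfsg.Agent.Lib.PCore.le_pCore hSn hS.toSylow.isPGroup'⟩
    · exact hne (hE.2 D hDn hc)
  intro x hx
  obtain ⟨t, ht, c, hc, rfl⟩ := mem_sylow_mul_Rz hS hx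
  obtain ⟨c', hc', rfl⟩ := hc
  have ht2 : (⟨t, ht.2⟩ : E) ∈ D := hSD (Subgroup.mem_subgroupOf.mpr ht)
  exact B.mul_mem (hDB ⟨_, ht2, rfl⟩) (hDB ⟨_, hDtop hc', rfl⟩)

theorem not_closed (hirr : ∀ E ∈ 𝒦, IsStronglyPIrreducible p ↥E) : ¬ IsPClosed p H := by
  intro hc
  obtain ⟨E, hE⟩ := hK.hne
  apply (hirr E hE).1
  apply isPClosed_of_le_O
  intro x _ hk
  exact (Cfsg.Agent.Lib.PClosed.isPClosed_iff_forall.mp hc) x hk

theorem res_le_of_not_closed (hirr : ∀ E ∈ 𝒦, IsStronglyPIrreducible p ↥E) {N : Subgroup H}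
    (hN : N.Normal) (hnc : ¬ IsPClosed p ↥N) : pResidual p H ≤ N := by
  classical
  by_contra hcon
  haveI hNi := hN
  have hN₁ : (N ⊔ pCore p H).Normal := Subgroup.sup_normal _ _
  have hRO := RO_normal hK
  have hU : ∀ E ∈ 𝒦, ¬ Rz p E ≤ N ⊔ pCore p H := by
    intro E hE hle
    apply hcon
    apply residual_le hK hN
    intro K hK'
    obtain ⟨h, rfl⟩ := hK.htr E hE K hK'
    rw [Rz_eq, Subgroup.closure_le]
    rintro y ⟨hy, hc⟩
    have hy1 : h⁻¹ * y * h ∈ E := mem_cj.mp hy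
    have hord : orderOf (h⁻¹ * y * h) = orderOf y := by
      have := orderOf_conj_eq h⁻¹ y
      simpa using this
    have hy2 : h⁻¹ * y * h ∈ Rz p E := by
      rw [Rz_eq]
      exact Subgroup.subset_closure ⟨hy1, by rw [hord]; exact hc⟩
    have hy3 := hle hy2
    have hy4 : y ∈ N ⊔ pCore p H := by
      have h5 := hN₁.conj_mem _ hy3 h
      have h6 : h * (h⁻¹ * y * h) * h⁻¹ = y := by group
      rwa [h6] at h5
    rw [sup_comm] at hy4
    exact Cfsg.Agent.Lib.PClosed.mem_of_coprime_of_mem_sup isPGroup_O hc hy4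
  have h1 : ∀ E ∈ 𝒦, ∀ x ∈ E ⊓ (N ⊔ pCore p H), ∀ e ∈ E, Commute (π x) (π e) := by
    intro E hE
    have hn : E ≤ Subgroup.normalizer ((E ⊓ (N ⊔ pCore p H) : Subgroup H) : Set H) := by
      intro e he
      apply cj_eq_iff.mp
      rw [cj_inf, cj_eq_self he, cj_normal hN₁]
    rcases irr_of hK hE (hirr E hE) inf_le_left hn with h | h
    · exact h
    · exact absurd (h.trans inf_le_right) (hU E hE)
  have h2 : ∀ E ∈ 𝒦, ∀ a ∈ (N ⊔ pCore p H) ⊓ (sSup 𝒦 ⊔ pCore p H), ∀ x ∈ E, Commute (π x) (π a) := by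
    intro E hE a ha
    refine lemY a le_sup_left le_sup_right (Oc_EO_le hK hE) (gen_of hK hE (hirr E hE)) ?_
    intro x hx
    have hz1 : a * x * a⁻¹ * x⁻¹ ∈ E ⊔ pCore p H := by
      refine Subgroup.mul_mem _ ?_ (Subgroup.inv_mem _ (Subgroup.mem_sup_left hx))
      exact (Subgroup.mem_normalizer_iff.mp (hK.hnorm E hE ha.2) x).mp (Subgroup.mem_sup_left hx)
    have hz2 : a * x * a⁻¹ * x⁻¹ ∈ N ⊔ pCore p H := by
      have h5 : a * x * a⁻¹ * x⁻¹ = a * (x * a⁻¹ * x⁻¹) := by group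
      rw [h5]
      exact Subgroup.mul_mem _ ha.1 (hN₁.conj_mem _ (Subgroup.inv_mem _ ha.1) x)
    refine ⟨hz1, ?_⟩
    intro b hb
    obtain ⟨e, he, o, ho, hz⟩ := mem_EO hK hz1
    obtain ⟨b', hb', o', ho', rfl⟩ := mem_EO hK hb
    have hem : e ∈ E ⊓ (N ⊔ pCore p H) := by
      refine ⟨he, ?_⟩
      have h5 : e = (a * x * a⁻¹ * x⁻¹) * o⁻¹ := by rw [hz]; group
      rw [h5]
      exact Subgroup.mul_mem _ hz2 (Subgroup.inv_mem _ (Subgroup.mem_sup_right ho))
    have e1 : π (e * o) = π e := by rw [map_mul, pi_eq_one.mpr ho, mul_one]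
    have e2 : π (b' * o') = π b' := by rw [map_mul, pi_eq_one.mpr ho', mul_one]
    rw [hz, e1, e2]
    exact (h1 E hE e hem b' hb').symm
  have hRcomm : ∀ y ∈ (N ⊔ pCore p H) ⊓ (sSup 𝒦 ⊔ pCore p H), ∀ b ∈ sSup 𝒦 ⊔ pCore p H,
      Commute (π b) (π y) := by
    intro y hy b hb
    have hle : sSup 𝒦 ≤ (Subgroup.centralizer ({π y} : Set _)).comap π := by
      refine sSup_le fun E hE x hx => ?_
      rw [Subgroup.mem_comap, Subgroup.mem_centralizer_singleton_iff]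
      exact h2 E hE y hy x hx
    obtain ⟨r, hr, o, ho, rfl⟩ := mem_EO hK hb
    rw [map_mul, pi_eq_one.mpr ho, mul_one]
    have := hle hr
    rw [Subgroup.mem_comap, Subgroup.mem_centralizer_singleton_iff] at this
    exact this
  have h3 : ∀ E ∈ 𝒦, ∀ a ∈ N ⊔ pCore p H, ∀ x ∈ E, Commute (π x) (π a) := by
    intro E hE a ha
    refine lemY a ((le_R hK hE).trans le_sup_left) le_sup_right (Oc_RO_le hK)
      (gen_of hK hE (hirr E hE)) ?_
    intro x hx
    have hxR : x ∈ sSup 𝒦 ⊔ pCore p H := Subgroup.mem_sup_left (le_R hK hE hx)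
    have hz1 : a * x * a⁻¹ * x⁻¹ ∈ sSup 𝒦 ⊔ pCore p H :=
      Subgroup.mul_mem _ (hRO.conj_mem _ hxR a) (Subgroup.inv_mem _ hxR)
    have hz2 : a * x * a⁻¹ * x⁻¹ ∈ N ⊔ pCore p H := by
      have h5 : a * x * a⁻¹ * x⁻¹ = a * (x * a⁻¹ * x⁻¹) := by group
      rw [h5]
      exact Subgroup.mul_mem _ ha (hN₁.conj_mem _ (Subgroup.inv_mem _ ha) x)
    exact ⟨hz1, fun b hb => hRcomm _ ⟨hz2, hz1⟩ b hb⟩
  -- the centralizer of `R` modulo `O`
  let Rb : Subgroup (H ⧸ pCore p H) := (sSup 𝒦).map π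
  have hRbn : Rb.Normal := (R_normal hK).map π (QuotientGroup.mk'_surjective _)
  let C : Subgroup H := (Subgroup.centralizer (Rb : Set (H ⧸ pCore p H))).comap π
  have hCn : C.Normal := Subgroup.Normal.comap (Subgroup.normal_centralizer) π
  have hmemC : ∀ x, x ∈ C ↔ ∀ r ∈ sSup 𝒦, Commute (π r) (π x) := by
    intro x
    constructor
    · intro hx r hr
      exact Subgroup.mem_centralizer_iff.mp hx (π r) ⟨r, hr, rfl⟩
    · intro hx
      rw [Subgroup.mem_comap, Subgroup.mem_centralizer_iff]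
      rintro _ ⟨r, hr, rfl⟩
      exact hx r hr
  have hN₁C : N ⊔ pCore p H ≤ C := by
    intro a ha
    rw [hmemC]
    intro r hr
    have hle : sSup 𝒦 ≤ (Subgroup.centralizer ({π a} : Set _)).comap π := by
      refine sSup_le fun E hE x hx => ?_
      rw [Subgroup.mem_comap, Subgroup.mem_centralizer_singleton_iff]
      exact h3 E hE a ha x hx
    have := hle hr
    rw [Subgroup.mem_comap, Subgroup.mem_centralizer_singleton_iff] at this
    exact this
  have hOC : pCore p H ≤ C := le_sup_right.trans hN₁C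
  have hDN : ∀ d ∈ C ⊓ (sSup 𝒦 ⊔ pCore p H), ∀ q ∈ C, Commute (π d) (π q) := by
    intro d hd q hq
    obtain ⟨r, hr, o, ho, rfl⟩ := mem_EO hK hd.2
    rw [map_mul, pi_eq_one.mpr ho, mul_one]
    exact (hmemC q).mp hq r hr
  have hRzC : Rz p C ≤ C ⊓ (sSup 𝒦 ⊔ pCore p H) := by
    rw [Rz_eq, Subgroup.closure_le]
    rintro y ⟨hy, hc⟩
    refine ⟨hy, ?_⟩
    obtain ⟨k, hk⟩ := Cfsg.Agent.Lib.QSLocal.pow_mem_residual (p := p) y
    have h5 : y ^ p ^ k ∈ sSup 𝒦 ⊔ pCore p H := Subgroup.mem_sup_left (hK.hres hk)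
    exact mem_of_pow_mem_of_coprime h5 (Nat.Coprime.pow_right k hc)
  obtain ⟨Q, hQ, hOQ⟩ := Cfsg.Agent.Lib.CoprimeInv.exists_isSylowIn_ge p hOC (isPGroup_O (p := p))
  have hCNQ : C ≤ Subgroup.normalizer (Q : Set H) := by
    intro x hx
    obtain ⟨t, ht, c, hc, rfl⟩ := mem_sylow_mul_Rz hQ hx
    refine Subgroup.mul_mem _ (Subgroup.le_normalizer ht) ?_
    apply cj_le_self_iff.mp
    rw [cj_le_iff]
    intro q hq
    have h5 := hDN c (hRzC hc) q (hQ.1 hq)
    have h6 : c * q * c⁻¹ * q⁻¹ ∈ pCore p H := by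
      rw [← pi_eq_one]
      simp only [map_mul, map_inv]
      rw [h5.eq]
      group
    have h7 : c * q * c⁻¹ = (c * q * c⁻¹ * q⁻¹) * q := by group
    rw [h7]
    exact Q.mul_mem (hOQ h6) hq
  have hQO : Q ≤ pCore p H := by
    have h5 : Q ≤ Oc p C := le_Oc hQ.1 hQ.2.1 (fun h hh x hx =>
      (Subgroup.mem_normalizer_iff.mp (hCNQ hh) x).mp hx)
    exact h5.trans (Oc_le_O_of_normal hK hCn)
  apply hnc
  apply isPClosed_of_le_O
  rintro x hx ⟨k, hk⟩
  have hxC : x ∈ C := hN₁C (Subgroup.mem_sup_left hx)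
  have hzp : IsPGroup p (Subgroup.zpowers x) := isPGroup_zpowers_of_pow hk
  have hJp : IsPGroup p ↥(Subgroup.zpowers x ⊔ Q) :=
    IsPGroup.to_sup_of_normal_right' hzp hQ.2.1 (by
      rw [Subgroup.zpowers_le]; exact hCNQ hxC)
  have heq := hQ.2.2 _ (sup_le (Subgroup.zpowers_le.mpr hxC) hQ.1) hJp le_sup_right
  apply hQO
  rw [← heq]
  exact Subgroup.mem_sup_left (Subgroup.mem_zpowers x)

theorem rz_le_of_not_comm (hirr : ∀ E ∈ 𝒦, IsStronglyPIrreducible p ↥E) {E K : Subgroup H}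
    (hE : E ∈ 𝒦) (hK' : K ∈ 𝒦) (h : ¬ ⁅E, K⁆ ≤ pCore p H) : Rz p E ≤ K ⊔ pCore p H := by
  have hn : E ≤ Subgroup.normalizer ((E ⊓ (K ⊔ pCore p H) : Subgroup H) : Set H) := by
    intro e he
    apply cj_eq_iff.mp
    have h1 : cj e (K ⊔ pCore p H) = K ⊔ pCore p H :=
      cj_eq_iff.mpr (hK.hnorm K hK' (Subgroup.mem_sup_left (le_R hK hE he)))
    rw [cj_inf, cj_eq_self he, h1]
  rcases irr_of hK hE (hirr E hE) inf_le_left hn with hc | hc
  · exfalso
    apply h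
    have key : ∀ a ∈ K, ∀ x ∈ E, Commute (π x) (π a) := by
      intro a ha
      refine lemY a le_sup_left le_sup_right (Oc_EO_le hK hE) (gen_of hK hE (hirr E hE)) ?_
      intro x hx
      have hz1 : a * x * a⁻¹ * x⁻¹ ∈ E ⊔ pCore p H := by
        refine Subgroup.mul_mem _ ?_ (Subgroup.inv_mem _ (Subgroup.mem_sup_left hx))
        exact (Subgroup.mem_normalizer_iff.mp
          (hK.hnorm E hE (Subgroup.mem_sup_left (le_R hK hK' ha))) x).mp (Subgroup.mem_sup_left hx)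
      have hz2 : a * x * a⁻¹ * x⁻¹ ∈ K ⊔ pCore p H := by
        have h5 : a * x * a⁻¹ * x⁻¹ = a * (x * a⁻¹ * x⁻¹) := by group
        rw [h5]
        refine Subgroup.mul_mem _ (Subgroup.mem_sup_left ha) ?_
        exact (Subgroup.mem_normalizer_iff.mp
          (hK.hnorm K hK' (Subgroup.mem_sup_left (le_R hK hE hx))) _).mp
            (Subgroup.inv_mem _ (Subgroup.mem_sup_left ha))
      refine ⟨hz1, ?_⟩
      intro b hb
      obtain ⟨e, he, o, ho, hz⟩ := mem_EO hK hz1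
      obtain ⟨b', hb', o', ho', rfl⟩ := mem_EO hK hb
      have hem : e ∈ E ⊓ (K ⊔ pCore p H) := by
        refine ⟨he, ?_⟩
        have h5 : e = (a * x * a⁻¹ * x⁻¹) * o⁻¹ := by rw [hz]; group
        rw [h5]
        exact Subgroup.mul_mem _ hz2 (Subgroup.inv_mem _ (Subgroup.mem_sup_right ho))
      have e1 : π (e * o) = π e := by rw [map_mul, pi_eq_one.mpr ho, mul_one]
      have e2 : π (b' * o') = π b' := by rw [map_mul, pi_eq_one.mpr ho', mul_one]
      rw [hz, e1, e2]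
      exact (hc e hem b' hb').symm
    rw [Subgroup.commutator_le]
    intro x hx a ha
    rw [← pi_eq_one, commutatorElement_def]
    simp only [map_mul, map_inv]
    rw [(key a ha x hx).eq]
    group
  · exact hc.trans inf_le_right

theorem rz_half (hirr : ∀ E ∈ 𝒦, IsStronglyPIrreducible p ↥E) {E K : Subgroup H}
    (hE : E ∈ 𝒦) (hK' : K ∈ 𝒦) (h : ¬ ⁅E, K⁆ ≤ pCore p H) :
    Rz p (E ⊔ pCore p H) ≤ Rz p (K ⊔ pCore p H) := by
  obtain ⟨T⟩ : Nonempty (Sylow p H) := inferInstance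
  have hS := sylow_E hK T hE
  have hle := rz_le_of_not_comm hK hirr hE hK' h
  rw [Rz_eq, Subgroup.closure_le]
  rintro y ⟨hy, hc⟩
  have hsup : E ⊔ pCore p H = ((T : Subgroup H) ⊓ E) ⊔ (Rz p E ⊔ pCore p H) := by
    rw [← sup_assoc, Rz_sup_sylow hS]
  rw [hsup] at hy
  have hn : (T : Subgroup H) ⊓ E ≤ Subgroup.normalizer ((Rz p E ⊔ pCore p H : Subgroup H) : Set H) := by
    intro t ht
    apply cj_eq_iff.mp
    have h1 : cj t (Rz p E) = Rz p E := cj_eq_iff.mpr (le_normalizer_Rz E ht.2)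
    rw [cj_sup, h1, cj_normal (inferInstance : (pCore p H).Normal)]
  have hy2 := mem_of_coprime_of_sup hS.2.1 hn hy hc
  have hy3 : y ∈ K ⊔ pCore p H := (sup_le hle le_sup_right) hy2
  show y ∈ Rz p (K ⊔ pCore p H)
  rw [Rz_eq]
  exact Subgroup.subset_closure ⟨hy3, hc⟩

end

/-! ### `p`-minimal case -/

/-- The join of the proper subgroups of `A` containing `S`. -/
def UU (S A : Subgroup H) : Subgroup H := sSup {X | S ≤ X ∧ X < A}

omit [Finite H] hp in
theorem le_UU {S A X : Subgroup H} (h1 : S ≤ X) (h2 : X < A) : X ≤ UU S A := le_sSup ⟨h1, h2⟩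

omit [Finite H] hp in
theorem UU_le {S A V : Subgroup H} (h : ∀ X, S ≤ X → X < A → X ≤ V) : UU S A ≤ V :=
  sSup_le fun X hX => h X hX.1 hX.2

omit [Finite H] hp in
theorem cj_UU (g : H) (S A : Subgroup H) : cj g (UU S A) = UU (cj g S) (cj g A) := by
  have key : ∀ (g : H) (S A : Subgroup H), cj g (UU S A) ≤ UU (cj g S) (cj g A) := by
    intro g S A
    rw [cj, Subgroup.map_le_iff_le_comap]
    refine UU_le fun X h1 h2 => ?_
    rw [← Subgroup.map_le_iff_le_comap]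
    exact le_UU (cj_mono h1) (lt_of_le_of_ne (cj_mono h2.le) (fun h => h2.ne (cj_inj h)))
  refine le_antisymm (key g S A) ?_
  have h1 := key g⁻¹ (cj g S) (cj g A)
  rw [cj_inv_cj, cj_inv_cj] at h1
  have h2 := cj_mono (g := g) h1
  rwa [cj_cj_inv] at h2

section
variable {𝒦 : Set (Subgroup H)} (hK : KS p 𝒦)
include hK

theorem exists_T_mul (T : Sylow p H) (x : H) : ∃ t ∈ (T : Subgroup H), ∃ r ∈ pResidual p H, x = t * r := by
  haveI : (pResidual p H).Normal := Cfsg.Agent.Lib.PResid.pResidual_normal p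
  refine exists_sylow_mul (isSylowIn_of_le T le_top) le_top
    (by rw [Subgroup.normalizer_eq_top_iff.mpr inferInstance]) (le_refl ⊤) Subgroup.le_normalizer ?_ x (Subgroup.mem_top x)
  intro d _
  exact Cfsg.Agent.Lib.QSLocal.pow_mem_residual d

omit hK in
theorem cj_EO (g : H) (E : Subgroup H) : cj g (E ⊔ pCore p H) = cj g E ⊔ pCore p H := by
  rw [cj_sup, cj_normal (inferInstance : (pCore p H).Normal)]

theorem normalClosure_top (hmin : ∀ E ∈ 𝒦, ∀ S : Sylow p ↥E, IsMinimalOver (S : Subgroup ↥E))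
    (T : Sylow p H) : Subgroup.normalClosure ((T : Subgroup H) : Set H) = ⊤ := by
  set W := Subgroup.normalClosure ((T : Subgroup H) : Set H) with hW
  have hWn : W.Normal := Subgroup.normalClosure_normal
  have hTW : (T : Subgroup H) ≤ W := Subgroup.subset_normalClosure
  have hEW : ∀ E ∈ 𝒦, E ≤ W := by
    intro E hE
    have hS := sylow_E hK T hE
    have hM := (hmin E hE hS.toSylow).1
    rw [hS.coe_toSylow] at hM
    have h1 : (Subgroup.normalClosure ((((T : Subgroup H) ⊓ E).subgroupOf E : Subgroup E) : Set E)).map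
        E.subtype ≤ W := by
      rw [Subgroup.map_le_iff_le_comap]
      show Subgroup.closure _ ≤ _
      rw [Subgroup.closure_le]
      intro y hy
      obtain ⟨s, hs, hc⟩ := Group.mem_conjugatesOfSet_iff.mp hy
      obtain ⟨c, rfl⟩ := isConj_iff.mp hc
      have hs2 : (s : H) ∈ (T : Subgroup H) ⊓ E := Subgroup.mem_subgroupOf.mp hs
      exact hWn.conj_mem _ (hTW hs2.1) (c : H)
    rw [hM] at h1
    intro e he
    exact h1 ⟨⟨e, he⟩, Subgroup.mem_top _, rfl⟩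
  have hRW : sSup 𝒦 ≤ W := sSup_le hEW
  rw [eq_top_iff]
  intro x _
  obtain ⟨t, ht, r, hr, rfl⟩ := exists_T_mul hK T x
  exact W.mul_mem (hTW ht) (hRW (hK.hres hr))

theorem UU_lt (hmin : ∀ E ∈ 𝒦, ∀ S : Sylow p ↥E, IsMinimalOver (S : Subgroup ↥E))
    (T : Sylow p H) {E : Subgroup H} (hE : E ∈ 𝒦) :
    (T : Subgroup H) ⊓ (E ⊔ pCore p H) < E ⊔ pCore p H ∧
      UU ((T : Subgroup H) ⊓ (E ⊔ pCore p H)) (E ⊔ pCore p H) < E ⊔ pCore p H := by
  have hS := sylow_E hK T hE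
  have hM := (hmin E hE hS.toSylow).2
  rw [hS.coe_toSylow] at hM
  obtain ⟨M, ⟨hMc, hMT⟩, huniq⟩ := hM
  set V := M.map E.subtype ⊔ pCore p H with hV
  have hOT := O_le_sylow T
  have hOS : pCore p H ≤ (T : Subgroup H) ⊓ (E ⊔ pCore p H) := le_inf hOT le_sup_right
  have hVA : V ≤ E ⊔ pCore p H := sup_le_sup_right (Subgroup.map_subtype_le _) _
  have hVne : ¬ E ⊔ pCore p H ≤ V := by
    intro hle
    apply hMc.1
    rw [eq_top_iff]
    rintro ⟨e, he⟩ _
    have h1 : e ∈ V := hle (Subgroup.mem_sup_left he)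
    obtain ⟨m, hm, o, ho, rfl⟩ := mem_EO hK h1
    obtain ⟨m', hm', rfl⟩ := hm
    have ho2 : o ∈ E := by
      have h2 : o = (E.subtype m')⁻¹ * (E.subtype m' * o) := by group
      rw [h2]
      exact E.mul_mem (E.inv_mem m'.2) he
    have ho3 : (⟨o, ho2⟩ : E) ∈ M := hMT (Subgroup.mem_subgroupOf.mpr ⟨hOT ho, ho2⟩)
    have h3 : (⟨E.subtype m' * o, he⟩ : E) = m' * ⟨o, ho2⟩ := Subtype.ext rfl
    rw [h3]
    exact M.mul_mem hm' ho3
  have hSV : (T : Subgroup H) ⊓ (E ⊔ pCore p H) ≤ V := by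
    rintro x ⟨hxT, hxA⟩
    obtain ⟨e, he, o, ho, rfl⟩ := mem_EO hK hxA
    have heT : e ∈ (T : Subgroup H) := by
      have h1 : e = e * o * o⁻¹ := by group
      rw [h1]
      exact Subgroup.mul_mem _ hxT (Subgroup.inv_mem _ (hOT ho))
    have : (⟨e, he⟩ : E) ∈ M := hMT (Subgroup.mem_subgroupOf.mpr ⟨heT, he⟩)
    exact Subgroup.mul_mem _ (Subgroup.mem_sup_left ⟨_, this, rfl⟩) (Subgroup.mem_sup_right ho)
  have hVlt : V < E ⊔ pCore p H := lt_of_le_not_ge hVA hVne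
  refine ⟨lt_of_le_of_lt hSV hVlt, lt_of_le_of_lt (UU_le ?_) hVlt⟩
  intro X hSX hXA
  have hOX : pCore p H ≤ X := hOS.trans hSX
  have hX0 : (X ⊓ E).subgroupOf E ≠ ⊤ := by
    intro h0
    apply hXA.not_ge
    refine sup_le ?_ hOX
    intro e he
    have h1 : (⟨e, he⟩ : E) ∈ (X ⊓ E).subgroupOf E := by rw [h0]; trivial
    exact (Subgroup.mem_subgroupOf.mp h1).1
  obtain ⟨M', hM', hXM'⟩ := (eq_top_or_exists_le_coatom ((X ⊓ E).subgroupOf E)).resolve_left hX0
  have hST : ((T : Subgroup H) ⊓ E).subgroupOf E ≤ M' := by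
    refine le_trans ?_ hXM'
    intro y hy
    have hy2 := Subgroup.mem_subgroupOf.mp hy
    exact Subgroup.mem_subgroupOf.mpr ⟨hSX ⟨hy2.1, Subgroup.mem_sup_left hy2.2⟩, hy2.2⟩
  have hM'eq : M' = M := huniq M' ⟨hM', hST⟩
  intro x hx
  obtain ⟨e, he, o, ho, rfl⟩ := mem_EO hK (hXA.le hx)
  have heX : e ∈ X := by
    have h1 : e = e * o * o⁻¹ := by group
    rw [h1]
    exact X.mul_mem hx (X.inv_mem (hOX ho))
  have h2 : (⟨e, he⟩ : E) ∈ M := by
    rw [← hM'eq]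
    exact hXM' (Subgroup.mem_subgroupOf.mpr ⟨heX, he⟩)
  exact Subgroup.mul_mem _ (Subgroup.mem_sup_left ⟨_, h2, rfl⟩) (Subgroup.mem_sup_right ho)

/-- The stabilizer of the family of the `UU`. -/
def M0 (hK : KS p 𝒦) (T : Sylow p H) : Subgroup H where
  carrier := {x | ∀ E ∈ 𝒦, cj x (UU ((T : Subgroup H) ⊓ (E ⊔ pCore p H)) (E ⊔ pCore p H)) =
    UU ((T : Subgroup H) ⊓ cj x (E ⊔ pCore p H)) (cj x (E ⊔ pCore p H))}
  one_mem' := by
    intro E _
    rw [cj_one, cj_one]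
  mul_mem' := by
    intro x y hx hy E hE
    rw [cj_mul, hy E hE, cj_mul, cj_EO]
    exact hx _ (hK.hinv y E hE)
  inv_mem' := by
    intro x hx E hE
    have h1 := hx _ (hK.hinv x⁻¹ E hE)
    rw [← cj_EO, cj_cj_inv] at h1
    rw [← h1, cj_inv_cj]

theorem mem_M0 {T : Sylow p H} {x : H} : x ∈ M0 hK T ↔ ∀ E ∈ 𝒦,
    cj x (UU ((T : Subgroup H) ⊓ (E ⊔ pCore p H)) (E ⊔ pCore p H)) =
    UU ((T : Subgroup H) ⊓ cj x (E ⊔ pCore p H)) (cj x (E ⊔ pCore p H)) := Iff.rfl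

theorem T_le_M0 (T : Sylow p H) : (T : Subgroup H) ≤ M0 hK T := by
  intro t ht
  rw [mem_M0]
  intro E _
  have h1 : cj t (T : Subgroup H) = T := cj_eq_self ht
  rw [cj_UU, cj_inf, h1]

theorem M0_ne_top (hmin : ∀ E ∈ 𝒦, ∀ S : Sylow p ↥E, IsMinimalOver (S : Subgroup ↥E))
    (T : Sylow p H) : M0 hK T ≠ ⊤ := by
  intro htop
  obtain ⟨E, hE⟩ := hK.hne
  obtain ⟨h1, h2⟩ := UU_lt hK hmin T hE
  set A := E ⊔ pCore p H with hA
  set F := UU ((T : Subgroup H) ⊓ A) A with hF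
  have hEN : E ≤ Subgroup.normalizer (F : Set H) := by
    intro y hy
    apply cj_eq_iff.mp
    have hyM : y ∈ M0 hK T := by rw [htop]; trivial
    have h3 := (mem_M0 hK).mp hyM E hE
    have h4 : cj y A = A := cj_eq_self (Subgroup.mem_sup_left hy)
    rw [h4] at h3
    exact h3
  have hSF : (T : Subgroup H) ⊓ A ≤ F := le_UU le_rfl h1
  have hS := sylow_E hK T hE
  have hM := (hmin E hE hS.toSylow).1
  rw [hS.coe_toSylow] at hM
  have hXn : (F.subgroupOf E).Normal := by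
    constructor
    intro n hn g
    rw [Subgroup.mem_subgroupOf] at hn ⊢
    exact (Subgroup.mem_normalizer_iff.mp (hEN g.2) n).mp hn
  have hST : ((T : Subgroup H) ⊓ E).subgroupOf E ≤ F.subgroupOf E := by
    intro y hy
    have hy2 := Subgroup.mem_subgroupOf.mp hy
    exact Subgroup.mem_subgroupOf.mpr (hSF ⟨hy2.1, Subgroup.mem_sup_left hy2.2⟩)
  have htop2 : F.subgroupOf E = ⊤ := by
    rw [eq_top_iff, ← hM]
    exact Subgroup.normalClosure_le_normal hST
  have hEF : E ≤ F := by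
    intro e he
    have : (⟨e, he⟩ : E) ∈ F.subgroupOf E := by rw [htop2]; trivial
    exact Subgroup.mem_subgroupOf.mp this
  have hOF : pCore p H ≤ F := (le_inf (O_le_sylow T) le_sup_right).trans hSF
  exact h2.not_ge (sup_le hEF hOF)

theorem not_EO_le {T : Sylow p H} {M : Subgroup H} (hM : IsCoatom M) (hTM : (T : Subgroup H) ≤ M)
    {E : Subgroup H} (hE : E ∈ 𝒦) : ¬ E ⊔ pCore p H ≤ M := by
  intro hle
  have hOT := O_le_sylow T
  have hall : ∀ K ∈ 𝒦, K ≤ M := by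
    intro K hK'
    obtain ⟨h, rfl⟩ := hK.htr E hE K hK'
    obtain ⟨t, ht, r, hr, rfl⟩ := exists_T_mul hK T h
    have h1 : cj r (E ⊔ pCore p H) = E ⊔ pCore p H :=
      cj_eq_iff.mpr (hK.hnorm E hE (Subgroup.mem_sup_left (hK.hres hr)))
    have h2 : cj (t * r) E ≤ cj t (E ⊔ pCore p H) := by
      rw [cj_mul]
      refine cj_mono ?_
      rw [← h1]
      exact cj_mono le_sup_left
    refine h2.trans ?_
    rw [cj_le_iff]
    intro x hx
    exact M.mul_mem (M.mul_mem (hTM ht) (hle hx)) (M.inv_mem (hTM ht))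
  apply hM.1
  rw [eq_top_iff]
  intro x _
  obtain ⟨t, ht, r, hr, rfl⟩ := exists_T_mul hK T x
  exact M.mul_mem (hTM ht) (sSup_le hall (hK.hres hr))

theorem le_M0 (hmin : ∀ E ∈ 𝒦, ∀ S : Sylow p ↥E, IsMinimalOver (S : Subgroup ↥E))
    {T : Sylow p H} {M : Subgroup H} (hM : IsCoatom M) (hTM : (T : Subgroup H) ≤ M) : M ≤ M0 hK T := by
  intro x hx
  obtain ⟨t, ht, r, hr, rfl⟩ := exists_T_mul hK T x
  refine (M0 hK T).mul_mem (T_le_M0 hK T ht) ?_
  have hrM : r ∈ M := by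
    have h1 : r = t⁻¹ * (t * r) := by group
    rw [h1]
    exact M.mul_mem (M.inv_mem (hTM ht)) hx
  rw [mem_M0]
  intro E hE
  set A := E ⊔ pCore p H with hA
  have hrA : r ∈ Subgroup.normalizer (A : Set H) :=
    hK.hnorm E hE (Subgroup.mem_sup_left (hK.hres hr))
  have hcjA : cj r A = A := cj_eq_iff.mpr hrA
  rw [hcjA]
  set S := (T : Subgroup H) ⊓ A with hS
  have hSA : IsSylowIn p S A := sylow_EO hK T hE
  have hB : M ⊓ A < A := by
    exact lt_of_le_of_ne inf_le_right (fun h => not_EO_le hK hM hTM hE (inf_eq_right.mp h))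
  have hSB : S ≤ M ⊓ A := inf_le_inf_right _ hTM
  have hBF : M ⊓ A ≤ UU S A := le_UU hSB hB
  have hSyl : ∀ S' : Subgroup H, IsSylowIn p S' A → S' ≤ M ⊓ A → IsSylowIn p S' (M ⊓ A) := by
    intro S' h1 h2
    exact ⟨h2, h1.2.1, fun R' hR' hp' hle => h1.2.2 R' (hR'.trans inf_le_right) hp' hle⟩
  have h1 := hSyl S hSA hSB
  have h2' : IsSylowIn p (Cfsg.Agent.Lib.CoprimeInv.cj S r) A := hSA.cj_of_normalizer hrA
  have hrS : Cfsg.Agent.Lib.CoprimeInv.cj S r ≤ M ⊓ A := by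
    refine le_inf ?_ h2'.1
    rintro _ ⟨s, hs, rfl⟩
    exact M.mul_mem (M.mul_mem hrM (hSB hs).1) (M.inv_mem hrM)
  have h2 := hSyl _ h2' hrS
  obtain ⟨y, hy, hyS⟩ := h1.exists_conj h2
  -- `n = y⁻¹ r` normalizes `S` and `A`.
  have hnS : cj (y⁻¹ * r) S = S := by
    rw [cj_mul]
    have h3 : cj r S = cj y S := hyS
    rw [h3, cj_inv_cj]
  have hnA : cj (y⁻¹ * r) A = A := by
    rw [cj_mul, hcjA]
    exact cj_eq_self (A.inv_mem hy.2)
  have hnU : cj (y⁻¹ * r) (UU S A) = UU S A := by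
    rw [cj_UU, hnS, hnA]
  have hyU : cj y (UU S A) = UU S A := cj_eq_self (hBF hy)
  have hr1 : r = y * (y⁻¹ * r) := by group
  rw [hr1, cj_mul, hnU, hyU]

/-- **`p`-minimal** case. -/
theorem isMinimalOver_of (hmin : ∀ E ∈ 𝒦, ∀ S : Sylow p ↥E, IsMinimalOver (S : Subgroup ↥E))
    (T : Sylow p H) : IsMinimalOver (T : Subgroup H) := by
  refine ⟨normalClosure_top hK hmin T, ?_⟩
  have hne : M0 hK T ≠ ⊤ := M0_ne_top hK hmin T
  have hTne : (T : Subgroup H) ≠ ⊤ := fun h => hne (top_le_iff.mp (h ▸ T_le_M0 hK T))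
  obtain ⟨M, hM, hTM⟩ := (eq_top_or_exists_le_coatom (T : Subgroup H)).resolve_left hTne
  have key : ∀ M' : Subgroup H, IsCoatom M' → (T : Subgroup H) ≤ M' → M' = M0 hK T := by
    intro M' hM' hTM'
    have h1 := le_M0 hK hmin hM' hTM'
    rcases (hM'.le_iff).mp h1 with h | h
    · exact absurd h hne
    · exact h.symm
  refine ⟨M, ⟨hM, hTM⟩, ?_⟩
  rintro M' ⟨hM', hTM'⟩
  rw [key M' hM' hTM', key M hM hTM]

end

end Cfsg.Agent.Lib.PMinProd
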