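import Mathlib
import Cfsg.Agent.Lib.PMinDefs29
import Cfsg.Agent.Lib.OverChev29

/-!
# Nodes of the twisted groups of types `²E₆`, `³D₄`, `²F₄`
-/

set_option autoImplicit false
set_option linter.unusedSectionVars false
set_option linter.unusedVariables false
set_option linter.style.haveILetI false

namespace Cfsg.Agent.Lib.PMin29

open Cfsg Cfsg.Lie Cfsg.Agent.Lib.Chev Cfsg.Agent.Lib.LTAut33 Cfsg.Agent.Lib.BNPair
open Cfsg.Agent.Lib.OverU29 Cfsg.Agent.Lib.TwSt50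

section tw

variable {T : Tabs} {X : Extra} {R : RootTab} {D : ChevalleyDatum}
variable {hF : Full T X R D} {F : Type*} [Field F] [Fintype F] {τ : Tw hF F}

/-- A twisted group has a node for each class of simple roots. -/
theorem tw_hasNodes_h83 (A : TwG τ)
    (hcls : ∀ i < D.rank, ∀ j < D.rank, j ∈ A.cls i → A.nC j = A.nC i)
    (hne : ∀ i < D.rank, ∃ x ∈ UL D F (A.cls i), τ.s x = x ∧ x ≠ 1)
    {r : ℕ} (c : Fin r → ℕ) (hc : ∀ i, c i < D.rank) (hsep : ∀ i j, i ≠ j → c j ∉ A.cls (c i))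
    (p : ℕ) [Fact p.Prime] [CharP F p] : HasNodes p r ↥A.G1 := by
  refine ⟨A.bnPair hcls hne, U1 A, ⟨hUB A hcls hne, hUn A hcls hne, hUT A hcls hne, hUp A, hT A hcls hne⟩,
    fun i => ⟨(A.nC (c i)).1, A.nC_mem _ (hc i)⟩, ?_, fun i => ⟨c i, hc i, rfl⟩⟩
  intro i j hij
  by_contra hne'
  have h1 : (A.nC (c i)).1 = (A.nC (c j)).1 := congrArg (fun x : ↥A.G1 => x.1) hij
  have h2 : A.nC (c i) = A.nC (c j) := Subtype.ext h1
  exact hsep i j hne' (A.mem_cls_of_rho_eq (hc i) (hc j) (by rw [h2]))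

theorem sc_hasNodes_h83 {f : F ≃+* F} {ρ' π' : ℕ → ℕ} {J : ℕ → List ℕ} {A dd : ℕ → ℕ}
    (h : SCOK τ f ρ' π' J A dd) (hJJ : ∀ i < D.rank, ∀ j < D.rank, j ∈ J i → J j = J i)
    {r : ℕ} (c : Fin r → ℕ) (hc : ∀ i, c i < D.rank) (hsep : ∀ i j, i ≠ j → c j ∉ J (c i))
    (p : ℕ) [Fact p.Prime] [CharP F p] : HasNodes p r ↥h.G1 :=
  tw_hasNodes_h83 (h.twG) (fun i hi j hj hjc => by
      show ((J j).map (hF.nNt F)).prod = ((J i).map (hF.nNt F)).prod
      rw [hJJ i hi j hj hjc]) (fun i hi => h.ne_one_of_class hi) c hc hsep p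

end tw

section concrete

variable {K : Type*} [Field K] [Fintype K]

theorem nodes_twE6_h83 (p : ℕ) [Fact p.Prime] [CharP K p] {q : ℕ} (hq : IsPrimePow q)
    (hK : Fintype.card K = q ^ 2) : HasNodes p 3 ↥(twistedE6 K q) := by
  obtain ⟨f, hf, hf3⟩ := TwE6.exists_frob2 hq hK
  rw [← TwE6.G1_eq f hf hf3]
  exact sc_hasNodes_h83 (TwE6.sc f) TwE6.hJJ ![0, 2, 1] (by decide) (by decide) p

theorem nodes_twD4_h83 (p : ℕ) [Fact p.Prime] [CharP K p] {q : ℕ} (hq : IsPrimePow q)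
    (hK : Fintype.card K = q ^ 3) : HasNodes p 2 ↥(twistedD4 K q) := by
  obtain ⟨f, hf, hf3⟩ := TwD4.exists_frob3 hq hK
  rw [← TwD4.G1_eq f hf hf3]
  exact sc_hasNodes_h83 (TwD4.sc f) TwD4.hJJ ![0, 1] (by decide) (by decide) p

theorem nodes_twF4_h83 {m : ℕ} (hK : Fintype.card K = 2 ^ (2 * m + 1)) :
    HasNodes 2 2 ↥(twistedF4 K (2 ^ m)) := by
  obtain ⟨d⟩ := TwF4.exists_dat (K := K) hK
  have := TwF4.charP2 hK
  have : Fact (Nat.Prime 2) := ⟨Nat.prime_two⟩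
  exact tw_hasNodes_h83 (d.twG) d.hcls d.hne ![0, 1] (by decide) (by
    intro i j hij
    show _ ∉ TwWF4.gen _
    revert i j
    decide) 2

end concrete

end Cfsg.Agent.Lib.PMin29
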