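import Mathlib
import Cfsg.Prelude.Def_LocalEven
import Cfsg.Prelude.Def_Solvable
import Cfsg.Prelude.Def_Transfer
import Cfsg.Agent.Lib.PCore
import Cfsg.Agent.Lib.PResid
import Cfsg.Agent.Lib.Subnormal
import Cfsg.Agent.Lib.CoprimeHyper

/-!
# Elementary theory of `p`-minimal groups
-/

set_option autoImplicit false

open Cfsg
open Cfsg.Agent.Lib.PCore Cfsg.Agent.Lib.PResid
open scoped Pointwise

namespace Cfsg.Agent.Lib.PMinimal

variable {P : Type*} [Group P] [Finite P] {p : ℕ} [Fact p.Prime]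

/-- A proper subgroup containing `S` lies in `M`. -/
theorem le_M (hP : IsPMinimal p P) (S : Sylow p P) {M : Subgroup P} (hM : IsCoatom M)
    (hSM : (S : Subgroup P) ≤ M) {K : Subgroup P} (hK : K ≠ ⊤) (hSK : (S : Subgroup P) ≤ K) : K ≤ M := by
  obtain rfl | ⟨C, hC, hKC⟩ := eq_top_or_exists_le_coatom K
  · exact absurd rfl hK
  · obtain ⟨M₀, -, huniq⟩ := (hP S).2
    have h1 := huniq M ⟨hM, hSM⟩
    have h2 := huniq C ⟨hC, hSK.trans hKC⟩
    rw [h1, ← h2]
    exact hKC

theorem eq_top_of_not_le (hP : IsPMinimal p P) (S : Sylow p P) {M : Subgroup P} (hM : IsCoatom M)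
    (hSM : (S : Subgroup P) ≤ M) {K : Subgroup P} (hK : ¬ K ≤ M) (hSK : (S : Subgroup P) ≤ K) : K = ⊤ := by
  by_contra h
  exact hK (le_M hP S hM hSM h hSK)

/-- If `N` is normal and `N S = P` with `S` a `p`-group, then `P ⧸ N` is a `p`-group. -/
theorem isPGroup_quotient_of_sup {S N : Subgroup P} (hS : IsPGroup p S) [hN : N.Normal]
    (hsup : N ⊔ S = ⊤) : IsPGroup p (P ⧸ N) := by
  apply hS.of_surjective ((QuotientGroup.mk' N).comp S.subtype)
  intro q
  obtain ⟨x, rfl⟩ := QuotientGroup.mk'_surjective N q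
  have hx : x ∈ ((N ⊔ S : Subgroup P) : Set P) := by rw [hsup]; trivial
  rw [Subgroup.normal_mul] at hx
  obtain ⟨n, hn, s, hs, rfl⟩ := hx
  refine ⟨⟨s, hs⟩, ?_⟩
  simp only [MonoidHom.coe_comp, Function.comp_apply, Subgroup.coe_subtype, map_mul]
  have : (QuotientGroup.mk' N) n = 1 := (QuotientGroup.eq_one_iff n).mpr hn
  rw [this, one_mul]

/-- Every normal subgroup contains `O^p(P)` or lies in the core of `M`. -/
theorem normal_dichotomy (hP : IsPMinimal p P) (S : Sylow p P) {M : Subgroup P} (hM : IsCoatom M)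
    (hSM : (S : Subgroup P) ≤ M) (N : Subgroup P) (hN : N.Normal) :
    pResidual p P ≤ N ∨ N ≤ M.normalCore := by
  by_cases hNM : N ≤ M
  · right
    exact (Subgroup.normal_le_normalCore (hN := hN)).mpr hNM
  · left
    have hsup : N ⊔ (S : Subgroup P) = ⊤ :=
      eq_top_of_not_le hP S hM hSM (fun h => hNM (le_sup_left.trans h)) le_sup_right
    exact pResidual_le_of_isPGroup_quotient (isPGroup_quotient_of_sup S.isPGroup' hsup)

theorem pResidual_not_le (S : Sylow p P) {M : Subgroup P} (hM : IsCoatom M)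
    (hSM : (S : Subgroup P) ≤ M) : ¬ pResidual p P ≤ M := by
  intro h
  apply hM.1
  rw [eq_top_iff, ← sylow_sup_pResidual S]
  exact sup_le hSM h

/-- The core is properly contained in `O^p(P) F`. -/
theorem core_lt (S : Sylow p P) {M : Subgroup P} (hM : IsCoatom M)
    (hSM : (S : Subgroup P) ≤ M) : M.normalCore < pResidual p P ⊔ M.normalCore := by
  refine lt_of_le_of_ne le_sup_right ?_
  intro h
  apply pResidual_not_le S hM hSM
  have h1 : pResidual p P ≤ M.normalCore := by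
    rw [h]; exact le_sup_left
  exact h1.trans (Subgroup.normalCore_le M)

/-- Minimal normality. -/
theorem eq_or_eq (hP : IsPMinimal p P) (S : Sylow p P) {M : Subgroup P} (hM : IsCoatom M)
    (hSM : (S : Subgroup P) ≤ M) (N : Subgroup P) (hN : N.Normal) (h1 : M.normalCore ≤ N)
    (h2 : N ≤ pResidual p P ⊔ M.normalCore) : N = M.normalCore ∨ N = pResidual p P ⊔ M.normalCore := by
  rcases normal_dichotomy hP S hM hSM N hN with h | h
  · right
    exact le_antisymm h2 (sup_le h h1)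
  · left
    exact le_antisymm h h1

/-- A normal subgroup inside `M` meets `S` inside `O_p(P)`: Frattini. -/
theorem normal_inf_le (hP : IsPMinimal p P) (S : Sylow p P) {M : Subgroup P} (hM : IsCoatom M)
    (hSM : (S : Subgroup P) ≤ M) (L : Subgroup P) [hL : L.Normal] (hLM : L ≤ M) :
    L ⊓ (S : Subgroup P) ≤ pCore p P := by
  obtain ⟨T, hT⟩ := exists_sylow_inf_of_normal S L
  have hTeq : (S : Subgroup P) ⊓ L = L ⊓ (S : Subgroup P) := inf_comm _ _
  have hfr := Sylow.normalizer_sup_eq_top T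
  rw [hT] at hfr
  have hSN : (S : Subgroup P) ≤ Subgroup.normalizer (((S : Subgroup P) ⊓ L : Subgroup P) : Set P) := by
    intro s hs
    rw [Subgroup.mem_normalizer_iff]
    intro x
    constructor
    · rintro ⟨h1, h2⟩
      exact ⟨S.toSubgroup.mul_mem (S.toSubgroup.mul_mem hs h1) (S.toSubgroup.inv_mem hs), hL.conj_mem x h2 s⟩
    · rintro ⟨h1, h2⟩
      have e : x = s⁻¹ * (s * x * s⁻¹) * s := by group
      rw [e]
      refine ⟨S.toSubgroup.mul_mem (S.toSubgroup.mul_mem (S.toSubgroup.inv_mem hs) h1) hs, ?_⟩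
      have := hL.conj_mem _ h2 s⁻¹
      simpa using this
  have hN : Subgroup.normalizer (((S : Subgroup P) ⊓ L : Subgroup P) : Set P) = ⊤ := by
    by_contra hne
    have h1 := le_M hP S hM hSM hne hSN
    apply hM.1
    rw [eq_top_iff, ← hfr]
    exact sup_le h1 hLM
  have hnorm : ((S : Subgroup P) ⊓ L).Normal := Subgroup.normalizer_eq_top_iff.mp hN
  rw [← hTeq]
  exact le_pCore hnorm (S.isPGroup'.to_le inf_le_left)

/-- A subnormal non-normal subgroup has a conjugate, different from it, which normalizes it. -/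
theorem exists_conj_ne_le_normalizer (L : Subgroup P) (hL : L.IsSubnormal) (hn : ¬ L.Normal) :
    ∃ g : P, L.map (MulAut.conj g).toMonoidHom ≠ L ∧
      L.map (MulAut.conj g).toMonoidHom ≤ Subgroup.normalizer (L : Set P) := by
  let 𝒦 : Set (Subgroup P) := {K | K.IsSubnormal ∧ L ≤ K ∧ K ≤ Subgroup.normalizer (L : Set P)}
  have h0 : L ∈ 𝒦 := ⟨hL, le_rfl, Subgroup.le_normalizer⟩
  obtain ⟨K, hK⟩ := (Set.toFinite 𝒦).exists_le_maximal h0 |>.imp fun _ h => h.2
  obtain ⟨hKs, hLK, hKN⟩ := hK.1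
  have hKtop : K ≠ ⊤ := by
    rintro rfl
    exact hn (Subgroup.normalizer_eq_top_iff.mp (top_le_iff.mp hKN))
  rcases Subgroup.IsSubnormal.iff_eq_top_or_exists.mp hKs with h | ⟨K₁, hlt, hK₁s, hK₁n⟩
  · exact absurd h hKtop
  · have hK₁ : ¬ K₁ ≤ Subgroup.normalizer (L : Set P) := by
      intro h
      have : K₁ ∈ 𝒦 := ⟨hK₁s, hLK.trans hlt.le, h⟩
      exact absurd (hK.2 this hlt.le) (not_le_of_gt hlt)
    obtain ⟨g, hg, hgN⟩ := SetLike.not_le_iff_exists.mp hK₁
    refine ⟨g, ?_, ?_⟩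
    · intro h
      exact hgN (mem_normalizer_of_conj_map_eq h)
    · rintro _ ⟨x, hx, rfl⟩
      apply hKN
      have hKn : K₁ ≤ Subgroup.normalizer (K : Set P) :=
        (Subgroup.normal_subgroupOf_iff_le_normalizer hlt.le).mp hK₁n
      exact (Subgroup.mem_normalizer_iff.mp (hKn hg) x).mp (hLK hx)

/-- The `S`-closure of a subnormal subgroup. -/
theorem exists_closure (S T : Subgroup P) (J : Subgroup P) (hJ : J.IsSubnormal) (hJT : J ≤ T) (hST : S ≤ T) :
    ∃ J' : Subgroup P, J ≤ J' ∧ J'.IsSubnormal ∧ J' ≤ T ∧ S ≤ Subgroup.normalizer (J' : Set P) := by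
  let C : Set (Subgroup P) := {U | ∃ g : P, U = MulAut.conj g • J}
  let S₀ : Set (Subgroup P) := {U | ∃ g ∈ S, U = MulAut.conj g • J}
  refine ⟨sSup S₀, ?_, ?_, ?_, ?_⟩
  · refine le_sSup ⟨1, S.one_mem, ?_⟩
    simp
  · refine Cfsg.Agent.Lib.Subnormal.sSup_isSubnormal C ?_ ?_ S₀ ?_
    · rintro U ⟨g, rfl⟩
      exact hJ.smul _
    · rintro U ⟨g, rfl⟩ g'
      exact ⟨g' * g, by rw [map_mul, mul_smul]⟩
    · rintro U ⟨g, _, rfl⟩
      exact ⟨g, rfl⟩
  · apply sSup_le
    rintro U ⟨g, hg, rfl⟩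
    exact Cfsg.Agent.Lib.Subnormal.conj_smul_le_of_mem hJT (hST hg)
  · intro s hs
    apply Cfsg.Agent.Lib.Subnormal.mem_normalizer_of_conj_mem
    apply Cfsg.Agent.Lib.Subnormal.conj_mem_sSup_of_closed
    rintro U ⟨g, hg, rfl⟩
    exact ⟨s * g, S.mul_mem hs hg, by rw [map_mul, mul_smul]⟩

/-- Part (a): a subnormal subgroup inside `M`. -/
theorem subnormal_inf_le (hP : IsPMinimal p P) (S : Sylow p P) {M : Subgroup P} (hM : IsCoatom M)
    (hSM : (S : Subgroup P) ≤ M) (N : Subgroup P) (hN : N.IsSubnormal) (hNM : N ≤ M) :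
    N ⊓ (S : Subgroup P) ≤ pCore p P := by
  obtain ⟨N₁, hNN₁, hN₁s, hN₁M, hN₁S⟩ := exists_closure (S : Subgroup P) M N hN hNM hSM
  let 𝒜 : Set (Subgroup P) := {L | L.IsSubnormal ∧ L ≤ M ∧ (S : Subgroup P) ≤ Subgroup.normalizer (L : Set P)}
  have h0 : N₁ ∈ 𝒜 := ⟨hN₁s, hN₁M, hN₁S⟩
  obtain ⟨L, hN₁L, hL⟩ := (Set.toFinite 𝒜).exists_le_maximal h0
  obtain ⟨hLs, hLM, hLS⟩ := hL.1
  have hLn : L.Normal := by
    by_contra hn
    obtain ⟨g, hgne, hgle⟩ := exists_conj_ne_le_normalizer L hLs hn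
    have hNtop : Subgroup.normalizer (L : Set P) ≠ ⊤ := fun h => hn (Subgroup.normalizer_eq_top_iff.mp h)
    have hNM' := le_M hP S hM hSM hNtop hLS
    have hgs : (L.map (MulAut.conj g).toMonoidHom).IsSubnormal := by
      have := hLs.smul (MulAut.conj g)
      exact this
    have hJs := Cfsg.Agent.Lib.Subnormal.sup_isSubnormal L _ hLs hgs
    have hJM : L ⊔ L.map (MulAut.conj g).toMonoidHom ≤ M := sup_le hLM (hgle.trans hNM')
    obtain ⟨J', hJJ', hJ's, hJ'M, hJ'S⟩ := exists_closure (S : Subgroup P) M _ hJs hJM hSM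
    have hmem : J' ∈ 𝒜 := ⟨hJ's, hJ'M, hJ'S⟩
    have hLJ' : L ≤ J' := le_sup_left.trans hJJ'
    have hle := hL.2 hmem hLJ'
    have hgL : L.map (MulAut.conj g).toMonoidHom ≤ L := (le_sup_right.trans hJJ').trans hle
    apply hgne
    apply Subgroup.eq_of_le_of_card_ge hgL
    rw [Subgroup.card_map_of_injective (MulAut.conj g).injective]
  have := normal_inf_le hP S hM hSM L hLM
  exact (inf_le_inf_right _ (hNN₁.trans hN₁L)).trans this

/-- Part (b): if `O^p(P)` has a normal Sylow `p`-subgroup then `|P|` has at most two prime divisors. -/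
theorem primes_le_two (hP : IsPMinimal p P) (S : Sylow p P) {M : Subgroup P} (hM : IsCoatom M)
    (hSM : (S : Subgroup P) ≤ M)
    (hT : ∀ T : Sylow p ↥(pResidual p P), (T : Subgroup ↥(pResidual p P)).Normal) :
    (Nat.card P).primeFactors.card ≤ 2 := by
  classical
  set Y : Subgroup P := pResidual p P with hYdef
  haveI hYn : Y.Normal := pResidual_normal p
  obtain ⟨T⟩ : Nonempty (Sylow p Y) := inferInstance
  have hTn := hT T
  haveI hTc : (T : Subgroup Y).Characteristic := Sylow.characteristic_of_normal T hTn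
  set T₀ : Subgroup P := (T : Subgroup Y).map Y.subtype with hT₀
  haveI hT₀n : T₀.Normal := normal_map_of_characteristic hYn hTc
  have hT₀p : IsPGroup p T₀ := T.isPGroup'.map _
  have hT₀S : T₀ ≤ (S : Subgroup P) := (le_pCore hT₀n hT₀p).trans (pCore_le_sylow p S)
  let π : P →* P ⧸ T₀ := QuotientGroup.mk' T₀
  have hπs : Function.Surjective π := QuotientGroup.mk'_surjective T₀
  have hπker : ∀ x : P, π x = 1 ↔ x ∈ T₀ := fun x => QuotientGroup.eq_one_iff x
  let X : Subgroup (P ⧸ T₀) := Y.map π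
  let A : Subgroup (P ⧸ T₀) := (S : Subgroup P).map π
  have hAp : IsPGroup p A := S.isPGroup'.map π
  have hXp : ¬ p ∣ Nat.card X := by
    let f : Y →* P ⧸ T₀ := π.comp Y.subtype
    have hker : f.ker = T := by
      ext x
      rw [MonoidHom.mem_ker]
      show π (x : P) = 1 ↔ _
      rw [hπker]
      constructor
      · rintro ⟨y, hy, hyx⟩
        have : y = x := Subtype.ext hyx
        exact this ▸ hy
      · intro hx
        exact ⟨x, hx, rfl⟩
    have hrange : f.range = X := by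
      show (π.comp Y.subtype).range = Y.map π
      rw [MonoidHom.range_comp, Subgroup.range_subtype]
    have h1 : Nat.card X = (T : Subgroup Y).index := by
      rw [← hker, Subgroup.index_ker, hrange]
    rw [h1]
    exact T.not_dvd_index
  have hXn : X.Normal := hYn.map π hπs
  have hAX : A ≤ Subgroup.normalizer (X : Set (P ⧸ T₀)) := by
    rw [Subgroup.normalizer_eq_top_iff.mpr hXn]
    exact le_top
  have key : ∀ (q : ℕ) [Fact q.Prime], ∃ Q : Sylow q ↥X, ∀ a ∈ A, ∀ x ∈ ((Q : Subgroup ↥X).map X.subtype),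
      a * x * a⁻¹ ∈ ((Q : Subgroup ↥X).map X.subtype) := fun q _ =>
    Cfsg.Agent.Lib.CoprimeHyper.exists_invariant_sylow A X hAp hXp hAX
  by_cases h : ∀ (q : ℕ) [Fact q.Prime] (Q : Sylow q ↥X),
      (∀ a ∈ A, ∀ x ∈ ((Q : Subgroup ↥X).map X.subtype), a * x * a⁻¹ ∈ ((Q : Subgroup ↥X).map X.subtype)) →
      ((Q : Subgroup ↥X).map X.subtype).comap π ≤ M
  · exfalso
    have htop : (M.map π).subgroupOf X = ⊤ := by
      apply Cfsg.Agent.Lib.CoprimeHyper.eq_top_of_forall_sylow_le'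
      intro q _
      obtain ⟨Q, hQ⟩ := key q
      refine ⟨Q, ?_⟩
      intro x hx
      rw [Subgroup.mem_subgroupOf]
      obtain ⟨y, hy⟩ := hπs (x : P ⧸ T₀)
      have hy' : y ∈ ((Q : Subgroup ↥X).map X.subtype).comap π := by
        rw [Subgroup.mem_comap, hy]
        exact ⟨x, hx, rfl⟩
      exact ⟨y, h q Q hQ hy', hy⟩
    apply pResidual_not_le S hM hSM
    intro y hy
    have h1 : (⟨π y, ⟨y, hy, rfl⟩⟩ : X) ∈ (M.map π).subgroupOf X := htop ▸ Subgroup.mem_top _
    rw [Subgroup.mem_subgroupOf] at h1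
    obtain ⟨m, hm, hmy⟩ := h1
    have h2 : m⁻¹ * y ∈ T₀ := by
      rw [← hπker, map_mul, map_inv]
      have : π m = π y := hmy
      rw [this]
      simp
    have h3 : y = m * (m⁻¹ * y) := by group
    rw [h3]
    exact M.mul_mem hm (hSM (hT₀S h2))
  · push Not at h
    obtain ⟨q, hq, Q, hQ, hnot⟩ := h
    set Z : Subgroup (P ⧸ T₀) := (Q : Subgroup ↥X).map X.subtype with hZ
    set W : Subgroup P := Z.comap π with hW
    have hZp : IsPGroup q Z := Q.isPGroup'.map _
    have hSW : (S : Subgroup P) ≤ Subgroup.normalizer (W : Set P) := by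
      intro s hs
      apply Cfsg.Agent.Lib.Subnormal.mem_normalizer_of_conj_mem
      intro w hw
      rw [hW, Subgroup.mem_comap, map_mul, map_mul, map_inv]
      exact hQ (π s) ⟨s, hs, rfl⟩ (π w) hw
    have hsup : W ⊔ (S : Subgroup P) = ⊤ :=
      eq_top_of_not_le hP S hM hSM (fun h => hnot (le_sup_left.trans h)) le_sup_right
    have hWn : W.Normal := by
      rw [← Subgroup.normalizer_eq_top_iff, eq_top_iff, ← hsup]
      exact sup_le Subgroup.le_normalizer hSW
    have hPq : IsPGroup p (P ⧸ W) := isPGroup_quotient_of_sup S.isPGroup' hsup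
    have hsub : (Nat.card P).primeFactors ⊆ {p, q} := by
      intro r hr
      have hrp := Nat.prime_of_mem_primeFactors hr
      have hrd := Nat.dvd_of_mem_primeFactors hr
      have hpq : Nat.Prime p := Fact.out
      have hqq : Nat.Prime q := Fact.out
      rw [← Subgroup.card_mul_index W] at hrd
      rw [Finset.mem_insert, Finset.mem_singleton]
      rcases (Nat.Prime.dvd_mul hrp).mp hrd with h1 | h1
      · haveI : Fact r.Prime := ⟨hrp⟩
        obtain ⟨x, hx⟩ := exists_prime_orderOf_dvd_card' r h1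
        obtain ⟨k, hk⟩ := hZp ⟨π x, x.2⟩
        have hk' : (π x) ^ q ^ k = 1 := congrArg Subtype.val hk
        have h2 : (x : P) ^ q ^ k ∈ T₀ := by
          rw [← hπker, map_pow]
          exact hk'
        obtain ⟨m, hm⟩ := hT₀p ⟨_, h2⟩
        have hm' : ((x : P) ^ q ^ k) ^ p ^ m = 1 := congrArg Subtype.val hm
        have h3 : orderOf (x : P) ∣ q ^ k * p ^ m := by
          apply orderOf_dvd_of_pow_eq_one
          rw [pow_mul]
          exact hm'
        have h4 : orderOf (x : P) = r := by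
          rw [Subgroup.orderOf_coe]; exact hx
        rw [h4] at h3
        rcases (Nat.Prime.dvd_mul hrp).mp h3 with h5 | h5
        · right
          exact (Nat.prime_dvd_prime_iff_eq hrp hqq).mp (hrp.dvd_of_dvd_pow h5)
        · left
          exact (Nat.prime_dvd_prime_iff_eq hrp hpq).mp (hrp.dvd_of_dvd_pow h5)
      · left
        obtain ⟨k, hk⟩ := IsPGroup.iff_card.mp hPq
        have h2 : W.index = p ^ k := hk
        rw [h2] at h1
        exact (Nat.prime_dvd_prime_iff_eq hrp hpq).mp (hrp.dvd_of_dvd_pow h1)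
    calc (Nat.card P).primeFactors.card ≤ ({p, q} : Finset ℕ).card := Finset.card_le_card hsub
      _ ≤ 2 := Finset.card_le_two

end Cfsg.Agent.Lib.PMinimal
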