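import Mathlib
import Cfsg.Agent.Lib.PMinimal
import Cfsg.Agent.Lib.LocalCore
import Cfsg.Agent.Lib.FrobNPC
import Cfsg.Agent.Lib.SylowChainTools
import Cfsg.Agent.Lib.SubnormalSylow

/-!
# Components of `p`-minimal groups with `O_p = 1`
-/

set_option autoImplicit false

open Cfsg
open Cfsg.Agent.Lib.PCore Cfsg.Agent.Lib.PResid Cfsg.Agent.Lib.LocalCore Cfsg.Agent.Lib.PMinimal
open Cfsg.Agent.Lib.SylowChainTools
open scoped commutatorElement

namespace Cfsg.Agent.Lib.PMinimalComp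

variable {P : Type*} [Group P] [Finite P] {p : ℕ} [Fact p.Prime]

/-- `p`-minimality can be tested on one Sylow subgroup. -/
theorem isPMinimal_of_one {H : Type*} [Group H] [Finite H] (S₁ : Sylow p H)
    (h1 : ¬ (S₁ : Subgroup H).Normal) (h2 : ∃! M : Subgroup H, IsCoatom M ∧ (S₁ : Subgroup H) ≤ M) :
    IsPMinimal p H := by
  intro T
  obtain ⟨g, rfl⟩ := MulAction.exists_smul_eq H S₁ T
  let φ : H ≃* H := MulAut.conj g
  let e : Subgroup H ≃o Subgroup H := φ.mapSubgroup
  have hT : ((g • S₁ : Sylow p H) : Subgroup H) = e S₁ := by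
    exact coe_smul_eq_conj_map S₁ g
  rw [hT]
  constructor
  · intro hn
    apply h1
    have h3 : (S₁ : Subgroup H) = e.symm (e S₁) := (e.symm_apply_apply _).symm
    rw [h3]
    exact hn.map φ.symm.toMonoidHom φ.symm.surjective
  · obtain ⟨M, ⟨hM, hSM⟩, huniq⟩ := h2
    refine ⟨e M, ⟨e.isCoatom_iff _ |>.mpr hM, e.monotone hSM⟩, ?_⟩
    rintro C ⟨hC, hSC⟩
    have h3 : e.symm C = M := by
      apply huniq
      refine ⟨e.symm.isCoatom_iff _ |>.mpr hC, ?_⟩
      have := e.symm.monotone hSC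
      rwa [e.symm_apply_apply] at this
    rw [← h3, e.apply_symm_apply]

/-- A normal subgroup inside `M` is nilpotent. -/
theorem nilpotent_of_normal_le (hP : IsPMinimal p P) (hOp : pCore p P = ⊥) (S : Sylow p P) {M : Subgroup P}
    (hM : IsCoatom M) (hSM : (S : Subgroup P) ≤ M) (L : Subgroup P) [hL : L.Normal] (hLM : L ≤ M) :
    Group.IsNilpotent L := by
  have hinf := normal_inf_le hP S hM hSM L hLM
  rw [hOp] at hinf
  obtain ⟨T, hT⟩ := exists_sylow_inf_of_normal S L
  have hT0 : (T : Subgroup L) = ⊥ := by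
    have h1 : (T : Subgroup L).map L.subtype = ⊥ := by
      rw [hT, inf_comm]
      exact le_bot_iff.mp hinf
    exact (Subgroup.map_eq_bot_iff_of_injective _ L.subtype_injective).mp h1
  have hnd : ¬ p ∣ Nat.card L := fun h => T.ne_bot_of_dvd_card h hT0
  apply ((Group.isNilpotent_of_finite_tfae (G := L)).out 0 3).mpr
  intro q _ Q
  obtain ⟨Q₁, hQ₁⟩ := Cfsg.Agent.Lib.CoprimeHyper.exists_invariant_sylow (q := q) (S : Subgroup P) L
    S.isPGroup' hnd (by rw [Subgroup.normalizer_eq_top_iff.mpr hL]; exact le_top)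
  have hfr := Sylow.normalizer_sup_eq_top Q₁
  have hSN : (S : Subgroup P) ≤ Subgroup.normalizer (((Q₁ : Subgroup L).map L.subtype : Subgroup P) : Set P) :=
    fun s hs => Cfsg.Agent.Lib.Subnormal.mem_normalizer_of_conj_mem _ s (hQ₁ s hs)
  have hN : Subgroup.normalizer (((Q₁ : Subgroup L).map L.subtype : Subgroup P) : Set P) = ⊤ := by
    by_contra hne
    have h1 := le_M hP S hM hSM hne hSN
    apply hM.1
    rw [eq_top_iff, ← hfr]
    exact sup_le h1 hLM
  have hnorm : ((Q₁ : Subgroup L).map L.subtype).Normal := Subgroup.normalizer_eq_top_iff.mp hN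
  have hQ₁n : (Q₁ : Subgroup L).Normal := by
    have h1 := hnorm.comap L.subtype
    rwa [Subgroup.comap_map_eq_self_of_injective L.subtype_injective] at h1
  haveI := Sylow.unique_of_normal Q₁ hQ₁n
  have : Q = Q₁ := Subsingleton.elim _ _
  rw [this]
  exact hQ₁n

theorem not_nilpotent_of_le {K L : Subgroup P} (hK : IsComponent K) (h : K ≤ L) : ¬ Group.IsNilpotent L := by
  intro hn
  have h1 : Group.IsNilpotent K :=
    Subgroup.isNilpotent_of_ker_le_center (Subgroup.inclusion h) (by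
      rw [(MonoidHom.ker_eq_bot_iff _).mpr (Subgroup.inclusion_injective h)]
      exact bot_le)
  exact comp_not_solvable hK inferInstance

theorem comp_le_normalizer {K K' : Subgroup P} (hK : IsComponent K) (hK' : IsComponent K') :
    K' ≤ Subgroup.normalizer (K : Set P) := by
  by_cases h : K' = K
  · subst h
    exact Subgroup.le_normalizer
  · exact (comp_le_centralizer_of_ne hK' hK h).trans (Subgroup.centralizer_le_normalizer _)

theorem layer_le_normalizer {K : Subgroup P} (hK : IsComponent K) :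
    layer P ≤ Subgroup.normalizer (K : Set P) :=
  sSup_le fun _ hK' => comp_le_normalizer hK hK'

theorem layer_sup_eq_top (hP : IsPMinimal p P) (hOp : pCore p P = ⊥) (S : Sylow p P) {M : Subgroup P}
    (hM : IsCoatom M) (hSM : (S : Subgroup P) ≤ M) {K : Subgroup P} (hK : IsComponent K) :
    layer P ⊔ (S : Subgroup P) = ⊤ := by
  by_contra hne
  have h1 := le_M hP S hM hSM hne le_sup_right
  have h2 := nilpotent_of_normal_le hP hOp S hM hSM (layer P) (le_sup_left.trans h1)
  exact not_nilpotent_of_le hK (comp_le_layer hK) h2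

/-- The subgroup generated by the `S`-conjugates. -/
def conjSup (K : Subgroup P) (S : Subgroup P) : Subgroup P :=
  ⨆ s : ↥S, K.map (MulAut.conj (s : P)).toMonoidHom

theorem le_conjSup (K S : Subgroup P) : K ≤ conjSup K S := by
  have := le_iSup (fun s : ↥S => K.map (MulAut.conj (s : P)).toMonoidHom) 1
  have h1 : K.map (MulAut.conj ((1 : ↥S) : P)).toMonoidHom = K := conj_map_one K
  rw [h1] at this
  exact this

theorem conjSup_normalized (K S : Subgroup P) : S ≤ Subgroup.normalizer (conjSup K S : Set P) := by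
  intro t ht
  apply Cfsg.Agent.Lib.Subnormal.mem_normalizer_of_conj_mem
  have key : conjSup K S ≤ (conjSup K S).comap (MulAut.conj t).toMonoidHom := by
    apply iSup_le
    rintro s x ⟨y, hy, rfl⟩
    rw [Subgroup.mem_comap]
    have : (MulAut.conj t).toMonoidHom ((MulAut.conj (s : P)).toMonoidHom y) =
        (MulAut.conj ((⟨t, ht⟩ * s : ↥S) : P)).toMonoidHom y := by
      simp [mul_assoc]
    rw [this]
    exact (le_iSup (fun s : ↥S => K.map (MulAut.conj (s : P)).toMonoidHom) (⟨t, ht⟩ * s))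
      ⟨y, hy, rfl⟩
  exact fun d hd => key hd

theorem conjSup_le_of_le {K S T : Subgroup P} (hK : K ≤ T) (hS : S ≤ T) : conjSup K S ≤ T := by
  apply iSup_le
  rintro s x ⟨y, hy, rfl⟩
  exact T.mul_mem (T.mul_mem (hS s.2) (hK hy)) (T.inv_mem (hS s.2))

theorem conjSup_normal (hP : IsPMinimal p P) (hOp : pCore p P = ⊥) (S : Sylow p P) {M : Subgroup P}
    (hM : IsCoatom M) (hSM : (S : Subgroup P) ≤ M) {K : Subgroup P} (hK : IsComponent K) :
    (conjSup K (S : Subgroup P)).Normal := by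
  rw [← Subgroup.normalizer_eq_top_iff, eq_top_iff, ← layer_sup_eq_top hP hOp S hM hSM hK]
  refine sup_le ?_ (conjSup_normalized _ _)
  intro e he
  apply Cfsg.Agent.Lib.Subnormal.mem_normalizer_of_conj_mem
  have key : conjSup K (S : Subgroup P) ≤ (conjSup K (S : Subgroup P)).comap (MulAut.conj e).toMonoidHom := by
    apply iSup_le
    rintro s x hx
    rw [Subgroup.mem_comap]
    have h1 : e ∈ Subgroup.normalizer ((K.map (MulAut.conj (s : P)).toMonoidHom : Subgroup P) : Set P) :=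
      layer_le_normalizer (comp_conj hK s) he
    have h2 := (Subgroup.mem_normalizer_iff.mp h1 x).mp hx
    exact (le_iSup (fun s : ↥(S : Subgroup P) => K.map (MulAut.conj (s : P)).toMonoidHom) s) h2
  exact fun d hd => key hd

theorem not_le_M (hP : IsPMinimal p P) (hOp : pCore p P = ⊥) (S : Sylow p P) {M : Subgroup P}
    (hM : IsCoatom M) (hSM : (S : Subgroup P) ≤ M) {K : Subgroup P} (hK : IsComponent K) : ¬ K ≤ M := by
  intro hKM
  haveI := conjSup_normal hP hOp S hM hSM hK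
  have h1 := nilpotent_of_normal_le hP hOp S hM hSM (conjSup K (S : Subgroup P)) (conjSup_le_of_le hKM hSM)
  exact not_nilpotent_of_le hK (le_conjSup _ _) h1

theorem perfect_le_pResidual (L : Subgroup P) (hL : ⁅L, L⁆ = L) : L ≤ pResidual p P := by
  haveI : (pResidual p P).Normal := pResidual_normal p
  let π := QuotientGroup.mk' (pResidual p P)
  have h1 : ⁅L.map π, L.map π⁆ = L.map π := by
    rw [← Subgroup.map_commutator, hL]
  have h2 : IsPGroup p (L.map π) := (isPGroup_quotient_pResidual (G := P) p).to_subgroup _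
  have h3 : L.map π = ⊥ := by
    by_contra hne
    haveI : Nontrivial (L.map π) := Subgroup.nontrivial_iff_ne_bot _ |>.mpr hne
    haveI : Group.IsPerfect (L.map π) := Subgroup.isPerfect_iff.mpr h1
    exact Group.IsPerfect.not_isNilpotent (L.map π) h2.isNilpotent
  intro x hx
  have h4 : π x ∈ L.map π := ⟨x, hx, rfl⟩
  rw [h3] at h4
  exact (QuotientGroup.eq_one_iff x).mp h4

theorem layer_le_pResidual : layer P ≤ pResidual p P :=
  sSup_le fun _ hK => perfect_le_pResidual _ (comp_perfect hK)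

theorem fitting_le_pResidual (hOp : pCore p P = ⊥) : fittingSubgroup P ≤ pResidual p P := by
  intro x hx
  have h1 := fittingSubgroup_le_sup (G := P) p hx
  rw [hOp, bot_sup_eq] at h1
  apply mem_pResidual_of_coprime
  have h2 : orderOf x ∣ Nat.card (pPrimeCore p P) := by
    have := orderOf_dvd_natCard (⟨x, h1⟩ : pPrimeCore p P)
    rwa [Subgroup.orderOf_mk] at this
  exact Nat.Coprime.coprime_dvd_left h2 (card_pPrimeCore_coprime p)

/-- The first three equalities. -/
theorem equalities (hP : IsPMinimal p P) (hOp : pCore p P = ⊥) (S : Sylow p P) {M : Subgroup P}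
    (hM : IsCoatom M) (hSM : (S : Subgroup P) ≤ M) {K : Subgroup P} (hK : IsComponent K) :
    pResidual p P = generalizedFittingSubgroup P ∧ generalizedFittingSubgroup P = layer P ∧
      layer P = conjSup K (S : Subgroup P) := by
  haveI hn := conjSup_normal hP hOp S hM hSM hK
  have h1 : pResidual p P ≤ conjSup K (S : Subgroup P) := by
    rcases normal_dichotomy hP S hM hSM _ hn with h | h
    · exact h
    · exact absurd (((le_conjSup K _).trans h).trans (Subgroup.normalCore_le M))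
        (not_le_M hP hOp S hM hSM hK)
  have h2 : conjSup K (S : Subgroup P) ≤ layer P := by
    apply iSup_le
    intro s
    exact comp_le_layer (comp_conj hK s)
  have h3 : layer P = pResidual p P :=
    le_antisymm layer_le_pResidual (h1.trans h2)
  have h4 : conjSup K (S : Subgroup P) = layer P := le_antisymm h2 (h3.le.trans h1)
  have h5 : generalizedFittingSubgroup P = layer P := by
    apply le_antisymm
    · exact sup_le le_rfl ((fitting_le_pResidual hOp).trans h3.ge)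
    · exact le_sup_left
  exact ⟨by rw [h5, h3], h5, h4.symm⟩

theorem normalizer_le_normalizer_centralizer (K : Subgroup P) :
    Subgroup.normalizer (K : Set P) ≤ Subgroup.normalizer ((Subgroup.centralizer (K : Set P) : Subgroup P) : Set P) := by
  intro g hg
  rw [Subgroup.mem_normalizer_iff]
  intro c
  have hgB := Subgroup.mem_normalizer_iff.mp hg
  rw [Subgroup.mem_centralizer_iff, Subgroup.mem_centralizer_iff]
  constructor
  · intro hc b hb
    have h3 := hc (g⁻¹ * b * g) (by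
      have := (hgB (g⁻¹ * b * g)).mpr
      apply this
      have e : g * (g⁻¹ * b * g) * g⁻¹ = b := by group
      rwa [e])
    have e1 : b * (g * c * g⁻¹) = g * ((g⁻¹ * b * g) * c) * g⁻¹ := by group
    rw [e1, h3]; group
  · intro hc b hb
    have h3 := hc (g * b * g⁻¹) ((hgB b).mp hb)
    have e1 : g * b * g⁻¹ * (g * c * g⁻¹) = g * (b * c) * g⁻¹ := by group
    have e2 : g * c * g⁻¹ * (g * b * g⁻¹) = g * (c * b) * g⁻¹ := by group
    rw [e1, e2] at h3
    have := mul_right_cancel h3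
    exact mul_left_cancel this

/-- Powers modulo a normalized subgroup. -/
theorem mul_pow_mem {C : Subgroup P} {c s : P} (hc : c ∈ C) (hs : s ∈ Subgroup.normalizer (C : Set P)) (n : ℕ) :
    (c * s) ^ n * (s ^ n)⁻¹ ∈ C := by
  induction n with
  | zero => simp [C.one_mem]
  | succ n ih =>
    have hsn : s ^ n ∈ Subgroup.normalizer (C : Set P) := pow_mem hs n
    have h1 : s ^ n * c * (s ^ n)⁻¹ ∈ C := (Subgroup.mem_normalizer_iff.mp hsn c).mp hc
    have e : (c * s) ^ (n + 1) * (s ^ (n + 1))⁻¹ = ((c * s) ^ n * (s ^ n)⁻¹) * (s ^ n * c * (s ^ n)⁻¹) := by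
      rw [pow_succ, pow_succ]
      group
    rw [e]
    exact C.mul_mem ih h1

/-- The decomposition lemma. -/
theorem decomp (S : Sylow p P) {K : Subgroup P} (hTK : IsSylIn p ((S : Subgroup P) ⊓ K) K) {z c s : P}
    (hz : z ∈ K) (hc : c ∈ Subgroup.centralizer (K : Set P))
    (hs : s ∈ (S : Subgroup P) ⊓ Subgroup.normalizer (K : Set P)) (he : z = c * s) :
    ∃ u ∈ (S : Subgroup P) ⊓ K, ∃ w ∈ K ⊓ Subgroup.centralizer (K : Set P), z = u * w := by
  set C : Subgroup P := Subgroup.centralizer (K : Set P) with hC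
  set S₀ : Subgroup P := (S : Subgroup P) ⊓ Subgroup.normalizer (K : Set P) with hS₀
  have hNC := normalizer_le_normalizer_centralizer (P := P) K
  have hS₀C : S₀ ≤ Subgroup.normalizer (C : Set P) := inf_le_right.trans hNC
  let A : Subgroup P := K ⊓ (C ⊔ S₀)
  have hAK : A ≤ K := inf_le_left
  have hzA : z ∈ A := ⟨hz, by rw [he]; exact Subgroup.mul_mem _ (Subgroup.mem_sup_left hc) (Subgroup.mem_sup_right hs)⟩
  haveI hCn : (C.subgroupOf A).Normal := by
    constructor
    intro n hn g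
    rw [Subgroup.mem_subgroupOf] at hn ⊢
    have hg : (g : P) ∈ Subgroup.normalizer (C : Set P) := hNC (Subgroup.le_normalizer (hAK g.2))
    have := (Subgroup.mem_normalizer_iff.mp hg n).mp hn
    simpa using this
  have hTA : IsSylIn p ((S : Subgroup P) ⊓ K) A := by
    refine ⟨le_inf hTK.1 ?_, hTK.2.1, fun E hE hEp hle => hTK.2.2 E (hE.trans hAK) hEp hle⟩
    intro x hx
    exact Subgroup.mem_sup_right ⟨hx.1, Subgroup.le_normalizer hx.2⟩
  obtain ⟨Q, hQ⟩ := exists_sylow_iff.mpr hTA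
  have hpow : ∀ a : A, ∃ k : ℕ, a ^ (p ^ k) ∈ C.subgroupOf A := by
    rintro ⟨a, haK, haS⟩
    have h1 : a ∈ ((C ⊔ S₀ : Subgroup P) : Set P) := haS
    rw [Subgroup.coe_mul_of_right_le_normalizer_left C S₀ hS₀C] at h1
    obtain ⟨c₁, hc₁, s₁, hs₁, rfl⟩ := h1
    have hs₁p : IsPGroup p S₀ := S.isPGroup'.to_le inf_le_left
    obtain ⟨k, hk⟩ := hs₁p ⟨s₁, hs₁⟩
    have hk' : s₁ ^ p ^ k = 1 := congrArg Subtype.val hk
    refine ⟨k, ?_⟩
    rw [Subgroup.mem_subgroupOf]
    have h2 := mul_pow_mem hc₁ (hS₀C hs₁) (p ^ k)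
    rw [hk', inv_one, mul_one] at h2
    simpa using h2
  obtain ⟨u, hu, w, hw, hzuw⟩ := Cfsg.Agent.Lib.FrobNPC.exists_mul_of_quot (C.subgroupOf A) hpow Q ⟨z, hzA⟩
  refine ⟨u, ?_, w, ⟨hAK w.2, hw⟩, congrArg Subtype.val hzuw⟩
  rw [← hQ]
  exact ⟨u, hu, rfl⟩

/-- Proper `S₀`-invariant subgroups of `K` containing `S ∩ K` lie in `M`. -/
theorem le_M_of_lt (hP : IsPMinimal p P) (S : Sylow p P) {M : Subgroup P}
    (hM : IsCoatom M) (hSM : (S : Subgroup P) ≤ M) {K : Subgroup P} (hK : IsComponent K)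
    (hTK : IsSylIn p ((S : Subgroup P) ⊓ K) K) {Y₀ : Subgroup P} (hY₀K : Y₀ ≤ K) (hne : Y₀ ≠ K)
    (hTY : (S : Subgroup P) ⊓ K ≤ Y₀)
    (hS₀ : (S : Subgroup P) ⊓ Subgroup.normalizer (K : Set P) ≤ Subgroup.normalizer (Y₀ : Set P)) :
    Y₀ ≤ M := by
  set Ŷ : Subgroup P := conjSup Y₀ (S : Subgroup P) with hŶ
  have hSŶ : (S : Subgroup P) ≤ Subgroup.normalizer (Ŷ : Set P) := conjSup_normalized _ _
  by_cases hR : Ŷ ⊔ (S : Subgroup P) = ⊤
  · exfalso
    set C : Subgroup P := Subgroup.centralizer (K : Set P) with hC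
    set N : Subgroup P := Subgroup.normalizer (K : Set P) with hN
    have hNC := normalizer_le_normalizer_centralizer (P := P) K
    have hCN : C ≤ N := Subgroup.centralizer_le_normalizer _
    have hKN : K ≤ N := Subgroup.le_normalizer
    have hY₀C : Y₀ ≤ Subgroup.normalizer (C : Set P) := (hY₀K.trans hKN).trans hNC
    have hŶW : Ŷ ≤ Y₀ ⊔ C := by
      apply iSup_le
      intro t
      by_cases ht : (t : P) ∈ N
      · have h1 : Y₀.map (MulAut.conj (t : P)).toMonoidHom = Y₀ :=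
          conj_map_eq_of_mem_normalizer (hS₀ ⟨t.2, ht⟩)
        rw [h1]
        exact le_sup_left
      · have h1 : K.map (MulAut.conj (t : P)).toMonoidHom ≠ K := fun h =>
          ht (mem_normalizer_of_conj_map_eq h)
        have h2 := comp_le_centralizer_of_ne (comp_conj hK t) hK h1
        exact (Subgroup.map_mono hY₀K).trans (h2.trans le_sup_right)
    -- every element of `K` is a product
    have hdec : ∀ x ∈ K, ∃ y ∈ Y₀, ∃ w ∈ K ⊓ C, x = y * w := by
      intro x hx
      have h1 : x ∈ ((Ŷ ⊔ (S : Subgroup P) : Subgroup P) : Set P) := by rw [hR]; trivial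
      rw [Subgroup.coe_mul_of_right_le_normalizer_left Ŷ (S : Subgroup P) hSŶ] at h1
      obtain ⟨y, hy, s, hs, rfl⟩ := h1
      have h2 : y ∈ ((Y₀ ⊔ C : Subgroup P) : Set P) := hŶW hy
      rw [Subgroup.coe_mul_of_left_le_normalizer_right Y₀ C hY₀C] at h2
      obtain ⟨y₀, hy₀, c, hc, rfl⟩ := h2
      have hsN : s ∈ N := by
        have e : s = (y₀ * c)⁻¹ * ((y₀ * c) * s) := by group
        rw [e]
        exact N.mul_mem (N.inv_mem (N.mul_mem (hKN (hY₀K hy₀)) (hCN hc))) (hKN hx)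
      have hz : c * s ∈ K := by
        have e : c * s = y₀⁻¹ * (y₀ * c * s) := by group
        rw [e]
        exact K.mul_mem (K.inv_mem (hY₀K hy₀)) hx
      obtain ⟨u, hu, w, hw, huw⟩ := decomp S hTK hz hc ⟨hs, hsN⟩ rfl
      refine ⟨y₀ * u, Y₀.mul_mem hy₀ (hTY hu), w, hw, ?_⟩
      calc y₀ * c * s = y₀ * (c * s) := by group
        _ = y₀ * (u * w) := by rw [huw]
        _ = _ := by group
    apply hne
    apply le_antisymm hY₀K
    rw [← comp_perfect hK, Subgroup.commutator_le]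
    intro a ha b hb
    obtain ⟨y₁, hy₁, w₁, hw₁, rfl⟩ := hdec a ha
    obtain ⟨y₂, hy₂, w₂, hw₂, rfl⟩ := hdec b hb
    have hcomm : ∀ w ∈ K ⊓ C, ∀ k ∈ K, w * k = k * w := fun w hw k hk =>
      (Subgroup.mem_centralizer_iff.mp hw.2 k hk).symm
    have h12 := hcomm w₁ hw₁ y₂ (hY₀K hy₂)
    have h21 := hcomm w₂ hw₂ y₁ (hY₀K hy₁)
    have hww := hcomm w₁ hw₁ w₂ hw₂.1
    have e1 : y₁ * w₁ * (y₂ * w₂) = y₁ * y₂ * (w₁ * w₂) := by
      calc y₁ * w₁ * (y₂ * w₂) = y₁ * (w₁ * y₂) * w₂ := by group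
        _ = y₁ * (y₂ * w₁) * w₂ := by rw [h12]
        _ = _ := by group
    have e2 : y₂ * w₂ * (y₁ * w₁) = y₂ * y₁ * (w₁ * w₂) := by
      calc y₂ * w₂ * (y₁ * w₁) = y₂ * (w₂ * y₁) * w₁ := by group
        _ = y₂ * (y₁ * w₂) * w₁ := by rw [h21]
        _ = y₂ * y₁ * (w₂ * w₁) := by group
        _ = _ := by rw [hww]
    have e3 : ⁅y₁ * w₁, y₂ * w₂⁆ = y₁ * y₂ * (y₂ * y₁)⁻¹ := by
      rw [commutatorElement_def]
      calc y₁ * w₁ * (y₂ * w₂) * (y₁ * w₁)⁻¹ * (y₂ * w₂)⁻¹
          = (y₁ * w₁ * (y₂ * w₂)) * (y₂ * w₂ * (y₁ * w₁))⁻¹ := by group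
        _ = (y₁ * y₂ * (w₁ * w₂)) * (y₂ * y₁ * (w₁ * w₂))⁻¹ := by rw [e1, e2]
        _ = _ := by group
    rw [e3]
    exact Y₀.mul_mem (Y₀.mul_mem hy₁ hy₂) (Y₀.inv_mem (Y₀.mul_mem hy₂ hy₁))
  · have h1 := le_M hP S hM hSM hR le_sup_right
    exact (le_conjSup _ _).trans (le_sup_left.trans h1)

/-- `K N_S(K)` is `p`-minimal. -/
theorem isPMinimal_comp (hP : IsPMinimal p P) (hOp : pCore p P = ⊥) (S : Sylow p P) {M : Subgroup P}
    (hM : IsCoatom M) (hSM : (S : Subgroup P) ≤ M) {K : Subgroup P} (hK : IsComponent K) :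
    IsPMinimal p ↥(K ⊔ ((S : Subgroup P) ⊓ Subgroup.normalizer (K : Set P))) := by
  have hKM := not_le_M hP hOp S hM hSM hK
  set S₀ : Subgroup P := (S : Subgroup P) ⊓ Subgroup.normalizer (K : Set P) with hS₀
  set H : Subgroup P := K ⊔ S₀ with hH
  have hS₀N : S₀ ≤ Subgroup.normalizer (K : Set P) := inf_le_right
  have hHdec : ∀ a ∈ H, ∃ k ∈ K, ∃ s ∈ S₀, a = k * s := by
    intro a ha
    have h1 : a ∈ ((K ⊔ S₀ : Subgroup P) : Set P) := ha
    rw [Subgroup.coe_mul_of_right_le_normalizer_left K S₀ hS₀N] at h1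
    obtain ⟨k, hk, s, hs, rfl⟩ := h1
    exact ⟨k, hk, s, hs, rfl⟩
  have hTK : IsSylIn p ((S : Subgroup P) ⊓ K) K :=
    exists_sylow_iff.mp (Cfsg.Agent.Lib.SubnormalSylow.exists_sylow_inf_of_isSubnormal S K hK.1)
  have hTS₀ : (S : Subgroup P) ⊓ K ≤ S₀ := fun x hx => ⟨hx.1, Subgroup.le_normalizer hx.2⟩
  have hKH : K ≤ H := le_sup_left
  have hS₀H : S₀ ≤ H := le_sup_right
  have hS₀p : IsPGroup p S₀ := S.isPGroup'.to_le inf_le_left
  have hsyl : IsSylIn p S₀ H := by
    refine ⟨hS₀H, hS₀p, ?_⟩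
    intro E hEH hE hle
    apply le_antisymm _ hle
    intro a ha
    obtain ⟨k, hk, s, hs, rfl⟩ := hHdec a (hEH ha)
    have hkE : k ∈ E := by
      have e : k = k * s * s⁻¹ := by group
      rw [e]
      exact E.mul_mem ha (E.inv_mem (hle hs))
    have h1 : E ⊓ K = (S : Subgroup P) ⊓ K :=
      hTK.2.2 _ inf_le_right (hE.to_le inf_le_left) (le_inf (hTS₀.trans hle) inf_le_right)
    have hkS : k ∈ (S : Subgroup P) ⊓ K := h1 ▸ (⟨hkE, hk⟩ : k ∈ E ⊓ K)
    exact S₀.mul_mem (hTS₀ hkS) hs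
  obtain ⟨S₁, hS₁⟩ := exists_sylow_iff.mpr hsyl
  have hS₁mem : ∀ x : H, x ∈ (S₁ : Subgroup H) ↔ (x : P) ∈ S₀ := by
    intro x
    rw [← hS₁]
    constructor
    · intro hx
      exact ⟨x, hx, rfl⟩
    · rintro ⟨y, hy, hyx⟩
      have : y = x := Subtype.ext hyx
      exact this ▸ hy
  apply isPMinimal_of_one S₁
  · -- not normal
    intro hn
    have hKS₀ : ∀ k ∈ K, ∀ s ∈ S₀, k * s * k⁻¹ ∈ S₀ := by
      intro k hk s hs
      have h1 : (⟨s, hS₀H hs⟩ : H) ∈ (S₁ : Subgroup H) := (hS₁mem _).mpr hs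
      have h2 := hn.conj_mem _ h1 ⟨k, hKH hk⟩
      exact (hS₁mem _).mp h2
    have hTn : K ≤ Subgroup.normalizer (((S : Subgroup P) ⊓ K : Subgroup P) : Set P) := by
      intro k hk
      apply Cfsg.Agent.Lib.Subnormal.mem_normalizer_of_conj_mem
      intro t ht
      have h1 := hKS₀ k hk t (hTS₀ ht)
      exact ⟨h1.1, K.mul_mem (K.mul_mem hk ht.2) (K.inv_mem hk)⟩
    have hTs : ((S : Subgroup P) ⊓ K).IsSubnormal := by
      refine Subgroup.IsSubnormal.step _ K inf_le_right hK.1 ?_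
      exact (Subgroup.normal_subgroupOf_iff_le_normalizer inf_le_right).mpr hTn
    have hT1 : (S : Subgroup P) ⊓ K = ⊥ :=
      eq_bot_of_isSubnormal_of_isPGroup hOp hTs (S.isPGroup'.to_le inf_le_left)
    have hcomm : ∀ s ∈ S₀, ∀ k ∈ K, s * k = k * s := by
      intro s hs k hk
      have h1 : s * k * s⁻¹ * k⁻¹ ∈ K := by
        have := (Subgroup.mem_normalizer_iff.mp (hS₀N hs) k).mp hk
        exact K.mul_mem this (K.inv_mem hk)
      have h2 : s * k * s⁻¹ * k⁻¹ ∈ S₀ := by
        have := hKS₀ k hk s⁻¹ (S₀.inv_mem hs)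
        have e : s * k * s⁻¹ * k⁻¹ = s * (k * s⁻¹ * k⁻¹) := by group
        rw [e]
        exact S₀.mul_mem hs this
      have h3 : s * k * s⁻¹ * k⁻¹ ∈ (S : Subgroup P) ⊓ K := ⟨h2.1, h1⟩
      rw [hT1, Subgroup.mem_bot] at h3
      have h4 : s * k * s⁻¹ = k := by
        have := mul_eq_one_iff_eq_inv.mp h3
        rwa [inv_inv] at this
      calc s * k = s * k * s⁻¹ * s := by group
        _ = k * s := by rw [h4]
    obtain ⟨x, hxK, hxM⟩ := SetLike.not_le_iff_exists.mp hKM
    have hzK : Subgroup.zpowers x ≤ K := by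
      rw [Subgroup.zpowers_le]; exact hxK
    have hzne : Subgroup.zpowers x ≠ K := by
      intro h
      apply comp_not_comm hK
      rw [← h]
      infer_instance
    have hz := le_M_of_lt hP S hM hSM hK hTK hzK hzne (by rw [hT1]; exact bot_le) (by
      intro s hs
      apply Cfsg.Agent.Lib.Subnormal.mem_normalizer_of_conj_mem
      intro y hy
      have h1 := hcomm s hs y (hzK hy)
      have h2 : s * y * s⁻¹ = y := by rw [h1]; group
      rw [h2]
      exact hy)
    exact hxM (hz (Subgroup.mem_zpowers x))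
  · -- unique coatom
    have key : ∀ Y : Subgroup H, Y ≠ ⊤ → (S₁ : Subgroup H) ≤ Y → Y ≤ M.subgroupOf H := by
      intro Y hY hSY
      set Y₁ : Subgroup P := Y.map H.subtype with hY₁
      have hS₀Y : S₀ ≤ Y₁ := by
        rw [← hS₁]
        exact Subgroup.map_mono hSY
      have hY₁H : Y₁ ≤ H := Subgroup.map_subtype_le _
      have hne : Y₁ ⊓ K ≠ K := by
        intro h
        have hKY : K ≤ Y₁ := inf_eq_right.mp h
        have hHY : H ≤ Y₁ := sup_le hKY hS₀Y
        apply hY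
        rw [eq_top_iff]
        intro x _
        obtain ⟨y, hy, hyx⟩ := hHY x.2
        have : y = x := Subtype.ext hyx
        exact this ▸ hy
      have h0 := le_M_of_lt hP S hM hSM hK hTK (inf_le_right : Y₁ ⊓ K ≤ K) hne
        (le_inf (hTS₀.trans hS₀Y) inf_le_right) (by
          intro s hs
          apply Cfsg.Agent.Lib.Subnormal.mem_normalizer_of_conj_mem
          intro y hy
          exact ⟨Y₁.mul_mem (Y₁.mul_mem (hS₀Y hs) hy.1) (Y₁.inv_mem (hS₀Y hs)),
            (Subgroup.mem_normalizer_iff.mp (hS₀N hs) y).mp hy.2⟩)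
      intro y hy
      rw [Subgroup.mem_subgroupOf]
      obtain ⟨k, hk, s, hs, hks⟩ := hHdec y y.2
      have hyY : (y : P) ∈ Y₁ := ⟨y, hy, rfl⟩
      have hkY : k ∈ Y₁ := by
        have e : k = y * s⁻¹ := by rw [hks]; group
        rw [e]
        exact Y₁.mul_mem hyY (Y₁.inv_mem (hS₀Y hs))
      rw [hks]
      exact M.mul_mem (h0 ⟨hkY, hk⟩) (hSM hs.1)
    have hMne : M.subgroupOf H ≠ ⊤ := by
      intro h
      apply hKM
      intro k hk
      have : (⟨k, hKH hk⟩ : H) ∈ M.subgroupOf H := h ▸ Subgroup.mem_top _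
      exact this
    have hSM₁ : (S₁ : Subgroup H) ≤ M.subgroupOf H := by
      intro x hx
      rw [Subgroup.mem_subgroupOf]
      exact hSM ((hS₁mem x).mp hx).1
    refine ⟨M.subgroupOf H, ⟨⟨hMne, ?_⟩, hSM₁⟩, ?_⟩
    · intro Y hlt
      by_contra hne
      exact absurd (key Y hne (hSM₁.trans hlt.le)) (not_le_of_gt hlt)
    · rintro C ⟨hC, hSC⟩
      have h1 := key C hC.1 hSC
      rcases h1.lt_or_eq with h2 | h2
      · exact absurd (hC.2 _ h2) hMne
      · exact h2

end Cfsg.Agent.Lib.PMinimalComp
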