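import Mathlib
import Cfsg.Agent.Lib.PReduced3
import Cfsg.Agent.Lib.CharTwoLocal2

/-!
# `p`-reduced normal subgroups, part 4: `Y_L` for subnormal `L`.
-/

set_option autoImplicit false
set_option linter.unusedSectionVars false
set_option linter.style.haveILetI false

open Cfsg
open scoped commutatorElement

namespace Cfsg.Agent.Lib.PReduced4

open Cfsg.Agent.Lib.PCore Cfsg.Agent.Lib.PResid Cfsg.Agent.Lib.LocalTools
  Cfsg.Agent.Lib.LocalTools2 Cfsg.Agent.Lib.PClosed Cfsg.Agent.Lib.SubnormalP
  Cfsg.Agent.Lib.PReduced Cfsg.Agent.Lib.PReduced2 Cfsg.Agent.Lib.PReduced3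
  Cfsg.Agent.Lib.PLocalTools

universe u v

section transport

variable {A : Type u} {B : Type v} [Group A] [Group B] [Finite A] [Finite B] {p : ℕ}
  [hp : Fact p.Prime]

/-- `p`-reduced normal subgroups transport along isomorphisms. -/
theorem isPReducedNormal_map_equiv (e : A ≃* B) {V : Subgroup A} (hV : IsPReducedNormal p V) :
    IsPReducedNormal p (V.map e.toMonoidHom) := by
  obtain ⟨hab, hpw⟩ := isElementaryAbelian_iff.mp hV.2.1
  rw [isPReducedNormal_iff]
  have hC : ∀ a : A, e a ∈ Subgroup.centralizer ((V.map e.toMonoidHom : Subgroup B) : Set B) ↔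
      a ∈ Subgroup.centralizer (V : Set A) := by
    intro a
    rw [Subgroup.mem_centralizer_iff, Subgroup.mem_centralizer_iff]
    constructor
    · intro h v hv
      have h1 := h (e v) ⟨v, hv, rfl⟩
      rw [← map_mul, ← map_mul] at h1
      exact e.injective h1
    · rintro h _ ⟨v, hv, rfl⟩
      show e v * e a = e a * e v
      rw [← map_mul, ← map_mul, h v hv]
  refine ⟨(pr_normal hV).map _ e.surjective, ?_, ?_⟩
  · rw [isElementaryAbelian_iff]
    constructor
    · rintro _ ⟨a, ha, rfl⟩ _ ⟨b, hb, rfl⟩
      show e a * e b = e b * e a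
      rw [← map_mul, ← map_mul, hab a ha b hb]
    · rintro _ ⟨a, ha, rfl⟩
      show e a ^ p = 1
      rw [← map_pow, hpw a ha, map_one]
  · intro D hD hpow
    have h1 : D.comap e.toMonoidHom ≤ Subgroup.centralizer (V : Set A) := by
      apply pr_le_centralizer hV (hD.comap _)
      intro d hd
      obtain ⟨n, hn⟩ := hpow (e d) hd
      refine ⟨n, ?_⟩
      rw [← hC, map_pow]
      exact hn
    intro b hb
    obtain ⟨a, rfl⟩ := e.surjective b
    rw [hC]
    exact h1 hb

/-- `Y` transports along isomorphisms. -/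
theorem largestPReduced_map_equiv (e : A ≃* B) :
    (largestPReduced p A).map e.toMonoidHom = largestPReduced p B := by
  apply le_antisymm
  · exact le_largest (isPReducedNormal_map_equiv e isPReducedNormal_largest)
  · have h1 : (largestPReduced p B).map e.symm.toMonoidHom ≤ largestPReduced p A :=
      le_largest (isPReducedNormal_map_equiv e.symm isPReducedNormal_largest)
    intro b hb
    exact ⟨e.symm b, h1 ⟨b, hb, rfl⟩, by simp⟩

end transport

section main

variable {G : Type u} [Group G] [Finite G] {p : ℕ} [hp : Fact p.Prime]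

/-- `Y_L` is characteristic. -/
theorem largestPReduced_characteristic : (largestPReduced p G).Characteristic := by
  rw [Subgroup.characteristic_iff_map_eq]
  intro φ
  exact largestPReduced_map_equiv φ

/-- `Y_L` is normal, for `L` normal. -/
theorem largestPReducedOf_normal {L : Subgroup G} (hL : L.Normal) : (largestPReducedOf p L).Normal :=
  normal_map_of_characteristic hL largestPReduced_characteristic

/-- A subgroup of `L` normalized by `L` acting as a `p`-group on `Y_L` centralizes it. -/
theorem le_centralizer_of_normalized {L E : Subgroup G} (hEL : E ≤ L)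
    (hE : L ≤ Subgroup.normalizer (E : Set G))
    (hpow : ∀ e ∈ E, ∃ n : ℕ, e ^ p ^ n ∈
      Subgroup.centralizer ((largestPReducedOf p L : Subgroup G) : Set G)) :
    E ≤ Subgroup.centralizer ((largestPReducedOf p L : Subgroup G) : Set G) := by
  have hW : IsPReducedNormal p ((largestPReducedOf p L).subgroupOf L) := isPReducedNormal_of
  have h1 : E.subgroupOf L ≤
      Subgroup.centralizer (((largestPReducedOf p L).subgroupOf L : Subgroup L) : Set L) := by
    apply pr_le_centralizer hW ((Subgroup.normal_subgroupOf_iff_le_normalizer hEL).mpr hE)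
    intro e he
    obtain ⟨n, hn⟩ := hpow e he
    refine ⟨n, ?_⟩
    rw [Subgroup.mem_centralizer_iff]
    intro y hy
    apply Subtype.ext
    exact Subgroup.mem_centralizer_iff.mp hn (y : G) hy
  intro x hx
  rw [Subgroup.mem_centralizer_iff]
  intro y hy
  have hyL : y ∈ L := largestPReducedOf_le hy
  have h2 := Subgroup.mem_centralizer_iff.mp
    (h1 (show (⟨x, hEL hx⟩ : L) ∈ E.subgroupOf L from hx)) ⟨y, hyL⟩ hy
  exact congrArg Subtype.val h2

/-- **Normal case**: `C_L(Y_G) ≤ C_L(Y_L)` for `L` normal in `G`. -/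
theorem inf_centralizer_le_of_normal {L : Subgroup G} (hL : L.Normal) :
    L ⊓ Subgroup.centralizer (largestPReduced p G : Set G) ≤
      Subgroup.centralizer ((largestPReducedOf p L : Subgroup G) : Set G) := by
  set W : Subgroup G := largestPReducedOf p L with hW
  have hWn : W.Normal := largestPReducedOf_normal hL
  have hWab : ∀ a ∈ W, ∀ b ∈ W, a * b = b * a := largestPReducedOf_comm
  have hWpow : ∀ a ∈ W, a ^ p = 1 := largestPReducedOf_pow
  let 𝓕 : Set (Subgroup G) := {U | U.Normal ∧ U ≤ W ∧
    L ⊓ Subgroup.centralizer (U : Set G) ≤ Subgroup.centralizer (W : Set G)}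
  have h𝓕 : 𝓕.Nonempty := ⟨W, hWn, le_rfl, inf_le_right⟩
  obtain ⟨U, hU⟩ := 𝓕.toFinite.exists_minimal h𝓕
  obtain ⟨hUn, hUW, hUC⟩ := hU.1
  have hUmin : ∀ U' ∈ 𝓕, U' ≤ U → U ≤ U' := fun U' h1 h2 => hU.2 h1 h2
  have hUab : ∀ a ∈ U, ∀ b ∈ U, a * b = b * a := fun a ha b hb => hWab a (hUW ha) b (hUW hb)
  have hUpow : ∀ a ∈ U, a ^ p = 1 := fun a ha => hWpow a (hUW ha)
  have hUp : IsPGroup p U := isPGroup_of_pow_eq_one hUpow
  have hUO : U ≤ pCore p G := le_pCore hUn hUp
  have hUCU : U ≤ Subgroup.centralizer (U : Set G) := by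
    intro a ha
    rw [Subgroup.mem_centralizer_iff]
    intro b hb
    exact hUab b hb a ha
  suffices hUr : IsPReducedNormal p U by
    intro x hx
    exact hUC ⟨hx.1, Subgroup.centralizer_le (by exact_mod_cast le_largest hUr) hx.2⟩
  rw [isPReducedNormal_iff]
  refine ⟨hUn, isElementaryAbelian_iff.mpr ⟨hUab, hUpow⟩, ?_⟩
  intro D hD hpow
  -- enlarge `D` by `U`
  have hDn := hD
  set D₁ : Subgroup G := D ⊔ U with hD₁
  have hD₁n : D₁.Normal := Subgroup.sup_normal D U
  have hCUn : (Subgroup.centralizer (U : Set G)).Normal := inferInstance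
  have hD₁p : ∀ d ∈ D₁, ∃ n : ℕ, d ^ p ^ n ∈ Subgroup.centralizer (U : Set G) := by
    intro x hx
    obtain ⟨d, hd, u, hu, rfl⟩ := Subgroup.mem_sup_of_normal_left.mp hx
    obtain ⟨n, hn⟩ := hpow d hd
    refine ⟨n, ?_⟩
    have h1 : u ∈ Subgroup.centralizer (U : Set G) := hUCU hu
    obtain ⟨c', hc', e⟩ := pow_mul_mem (C := Subgroup.centralizer (U : Set G))
      (by rw [Subgroup.normalizer_eq_top_iff.mpr hCUn]; trivial) h1 (p ^ n) (d := d)
    rw [e]
    exact Subgroup.mul_mem _ hn hc'
  -- `D₁ ⊓ L` centralizes `U`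
  have hD₁L : D₁ ⊓ L ≤ Subgroup.centralizer (U : Set G) := by
    have h1 : D₁ ⊓ L ≤ Subgroup.centralizer (W : Set G) := by
      apply le_centralizer_of_normalized inf_le_right
      · intro l hl
        apply mem_normalizer_inf
        · rw [Subgroup.normalizer_eq_top_iff.mpr hD₁n]; trivial
        · exact Subgroup.le_normalizer hl
      · intro e he
        obtain ⟨n, hn⟩ := hD₁p e he.1
        exact ⟨n, hUC ⟨L.pow_mem he.2 _, hn⟩⟩
    exact h1.trans (Subgroup.centralizer_le (by exact_mod_cast hUW))
  -- the fixed points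
  set U₀ : Subgroup G := U ⊓ Subgroup.centralizer (D : Set G) with hU₀
  have hCDn : (Subgroup.centralizer (D : Set G)).Normal := inferInstance
  have hU₀n : U₀.Normal := Subgroup.normal_inf_normal _ _
  have hU₀U : U₀ ≤ U := inf_le_left
  -- choose a Sylow subgroup
  obtain ⟨T⟩ : Nonempty (Sylow p G) := inferInstance
  have hUT : U ≤ (T : Subgroup G) := hUO.trans (pCore_le_sylow p T)
  set S : Subgroup G := (T : Subgroup G) ⊓ D₁ with hS
  have hSp : IsPGroup p S := T.isPGroup'.to_le inf_le_left
  have hUS : U ≤ S := le_inf hUT le_sup_right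
  -- coprime elements
  have hkey : ∀ e ∈ L ⊓ Subgroup.centralizer (U₀ : Set G), (orderOf e).Coprime p →
      e ∈ Subgroup.centralizer (U : Set G) := by
    intro e he hec
    have he1 : e ∈ L := he.1
    have he2 : e ∈ Subgroup.centralizer (U₀ : Set G) := he.2
    rw [Subgroup.mem_centralizer_iff]
    intro u hu
    refine (Cfsg.Agent.Lib.CharTwoLocal2.commute_of_commute_fixed hSp hUS hUab
      (fun v hv => hUn.conj_mem v hv e) (fun q _ v hv => hUn.conj_mem v hv q) ?_ hec ?_ u hu).symm
    · intro q hq v hv
      -- the commutator of `q` and `e` centralizes `U`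
      have hc : ⁅q, e⁆ ∈ D₁ ⊓ L := by
        constructor
        · have e1 : ⁅q, e⁆ = q * (e * q⁻¹ * e⁻¹) := by rw [commutatorElement_def]; group
          rw [e1]
          exact D₁.mul_mem hq.2 (hD₁n.conj_mem _ (D₁.inv_mem hq.2) e)
        · have e1 : ⁅q, e⁆ = (q * e * q⁻¹) * e⁻¹ := by rw [commutatorElement_def]
          rw [e1]
          exact L.mul_mem (hL.conj_mem e he1 q) (L.inv_mem he1)
      have hc' := hD₁L hc
      have hv' : (e * q) * v * (e * q)⁻¹ ∈ U := hUn.conj_mem v hv _
      have e2 : q * e = ⁅q, e⁆ * (e * q) := by rw [commutatorElement_def]; group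
      rw [e2]
      have h3 := Subgroup.mem_centralizer_iff.mp hc' _ hv'
      calc ⁅q, e⁆ * (e * q) * v * (⁅q, e⁆ * (e * q))⁻¹
          = ⁅q, e⁆ * ((e * q) * v * (e * q)⁻¹) * ⁅q, e⁆⁻¹ := by group
        _ = ((e * q) * v * (e * q)⁻¹) * ⁅q, e⁆ * ⁅q, e⁆⁻¹ := by rw [← h3]
        _ = _ := by group
    · intro w hw hwS
      have hwU₀ : w ∈ U₀ := by
        refine ⟨hw, ?_⟩
        show w ∈ Subgroup.centralizer _
        rw [Subgroup.mem_centralizer_iff]
        intro d hd
        have hdD₁ : d ∈ D₁ := Subgroup.mem_sup_left hd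
        obtain ⟨s, hs, c, hc, rfl⟩ := exists_mul_of_pow_mem (D := D₁) T hD₁p hdD₁
        have h1 := hwS s hs
        have h2 : w * c = c * w := Subgroup.mem_centralizer_iff.mp hc.1 w hw
        calc s * c * w = s * (w * c) := by rw [mul_assoc, h2]
          _ = (s * w) * c := by group
          _ = w * s * c := by rw [h1]
          _ = w * (s * c) := by group
      exact (Subgroup.mem_centralizer_iff.mp he2 w hwU₀).symm
  -- `U₀` belongs to the family
  have hU₀F : U₀ ∈ 𝓕 := by
    refine ⟨hU₀n, hU₀U.trans hUW, ?_⟩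
    apply le_centralizer_of_normalized inf_le_left
    · intro l hl
      apply mem_normalizer_inf (Subgroup.le_normalizer hl)
      rw [Subgroup.normalizer_eq_top_iff.mpr inferInstance]
      trivial
    · apply exists_pow_mem_of_coprime_mem
      intro e he hec
      exact hUC ⟨he.1, hkey e he hec⟩
  have hUU₀ := hUmin U₀ hU₀F hU₀U
  have hUCD : U ≤ Subgroup.centralizer (D : Set G) := hUU₀.trans inf_le_right
  rwa [Subgroup.le_centralizer_iff] at hUCD

/-- `Y` of a subgroup, transported to the subgroup of a subgroup. -/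
theorem map_largestPReducedOf_subgroupOf {M K : Subgroup G} (hMK : M ≤ K) :
    (largestPReducedOf p (M.subgroupOf K)).map K.subtype = largestPReducedOf p M := by
  unfold largestPReducedOf
  rw [← largestPReduced_map_equiv (Subgroup.subgroupOfEquivOfLe hMK), Subgroup.map_map,
    Subgroup.map_map]
  rfl

/-- `C_L(Y_H) ≤ C_L(Y_L)`, for `L` subnormal. -/
theorem inf_centralizer_le_of_subnormal {L : Subgroup G} (hL : L.IsSubnormal) :
    L ⊓ Subgroup.centralizer (largestPReduced p G : Set G) ≤
      Subgroup.centralizer ((largestPReducedOf p L : Subgroup G) : Set G) := by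
  induction hL with
  | top =>
    have h1 : largestPReducedOf p (⊤ : Subgroup G) = largestPReduced p G :=
      largestPReduced_map_equiv (Subgroup.topEquiv (G := G))
    rw [h1]
    exact inf_le_right
  | step M K hMK hK hMn ih =>
    rintro x ⟨hxM, hxC⟩
    have hxK : x ∈ K := hMK hxM
    have h1 : x ∈ Subgroup.centralizer ((largestPReducedOf p K : Subgroup G) : Set G) :=
      ih ⟨hxK, hxC⟩
    have h2 := inf_centralizer_le_of_normal (p := p) (G := K) hMn
      (x := ⟨x, hxK⟩) ⟨hxM, by
        show (⟨x, hxK⟩ : K) ∈ Subgroup.centralizer _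
        rw [Subgroup.mem_centralizer_iff]
        intro y hy
        apply Subtype.ext
        exact Subgroup.mem_centralizer_iff.mp h1 (y : G) ⟨y, hy, rfl⟩⟩
    rw [Subgroup.mem_centralizer_iff]
    intro y hy
    rw [← map_largestPReducedOf_subgroupOf hMK] at hy
    obtain ⟨y', hy', rfl⟩ := hy
    have h3 := Subgroup.mem_centralizer_iff.mp h2 y' hy'
    exact congrArg Subtype.val h3

/-- **S2825** -/
theorem subnormal_facts {L : Subgroup G} (hL : L.IsSubnormal) :
    largestPReduced p G ⊓ L = largestPReduced p G ⊓ largestPReducedOf p L ∧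
      IsPReducedNormal p ((largestPReduced p G ⊓ L).subgroupOf L) ∧
      L ⊓ Subgroup.centralizer ((largestPReducedOf p L : Subgroup G) : Set G) =
        L ⊓ Subgroup.centralizer (largestPReduced p G : Set G) ∧
      L ⊓ Subgroup.centralizer (largestPReduced p G : Set G) =
        L ⊓ Subgroup.centralizer ((largestPReduced p G ⊓ L : Subgroup G) : Set G) ∧
      (pResidual p G ≤ L → (⁅largestPReducedOf p L, L⁆ = ⊥ ↔ ⁅largestPReduced p G, (⊤ : Subgroup G)⁆ = ⊥)) := by
  set Y : Subgroup G := largestPReduced p G with hY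
  have hYr : IsPReducedNormal p Y := isPReducedNormal_largest
  have hYn : Y.Normal := pr_normal hYr
  set U : Subgroup G := Y ⊓ L with hU
  have hcomm : ⁅Y, (pResidual p L).map L.subtype⁆ ≤ U :=
    le_inf (Subgroup.commutator_le_left _ _)
      ((commutator_le_map_pResidual hYr hL).trans (Subgroup.map_subtype_le _))
  have hLU : L ≤ Subgroup.normalizer (U : Set G) := fun l hl =>
    mem_normalizer_inf (by rw [Subgroup.normalizer_eq_top_iff.mpr hYn]; trivial)
      (Subgroup.le_normalizer hl)
  have h2 : IsPReducedNormal p (U.subgroupOf L) :=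
    isPReducedNormal_subgroupOf hYr hL inf_le_left inf_le_right hLU hcomm
  have h1 : U ≤ largestPReducedOf p L := le_largestPReducedOf inf_le_right h2
  have h4 : L ⊓ Subgroup.centralizer (Y : Set G) = L ⊓ Subgroup.centralizer (U : Set G) := by
    apply le_antisymm
    · exact inf_le_inf_left L (Subgroup.centralizer_le (by exact_mod_cast (inf_le_left : U ≤ Y)))
    · apply le_inf inf_le_left
      apply le_centralizer_of_subnormal_of_commutator_le hYr inf_le_left hcomm inf_le_left
      · refine Subgroup.IsSubnormal.step _ L inf_le_left hL ?_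
        apply (Subgroup.normal_subgroupOf_iff_le_normalizer inf_le_left).mpr
        intro l hl
        apply mem_normalizer_inf (Subgroup.le_normalizer hl)
        exact mem_normalizer_centralizer (hLU hl)
      · intro d hd
        refine ⟨0, ?_⟩
        rw [pow_zero, pow_one]
        exact hd.2
  have h3 : L ⊓ Subgroup.centralizer ((largestPReducedOf p L : Subgroup G) : Set G) =
      L ⊓ Subgroup.centralizer (Y : Set G) := by
    apply le_antisymm
    · rw [h4]
      exact inf_le_inf_left L (Subgroup.centralizer_le (by exact_mod_cast h1))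
    · exact le_inf inf_le_left (inf_centralizer_le_of_subnormal hL)
  refine ⟨?_, h2, h3, h4, ?_⟩
  · apply le_antisymm
    · exact le_inf inf_le_left h1
    · exact inf_le_inf_left Y largestPReducedOf_le
  · intro hres
    constructor
    · intro h
      have h5 : L ≤ Subgroup.centralizer ((largestPReducedOf p L : Subgroup G) : Set G) := by
        rw [Subgroup.commutator_eq_bot_iff_le_centralizer] at h
        rwa [Subgroup.le_centralizer_iff] at h
      have h6 : L ≤ L ⊓ Subgroup.centralizer (Y : Set G) := by
        rw [← h3]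
        exact le_inf le_rfl h5
      have h7 : L ≤ Subgroup.centralizer (Y : Set G) := h6.trans inf_le_right
      have h8 : (⊤ : Subgroup G) ≤ Subgroup.centralizer (Y : Set G) := by
        apply pr_le_centralizer hYr inferInstance
        apply exists_pow_mem_of_coprime_mem
        intro e _ hec
        exact h7 (hres (Subgroup.subset_closure hec))
      rw [Subgroup.commutator_eq_bot_iff_le_centralizer]
      rw [Subgroup.le_centralizer_iff]
      exact h8
    · intro h
      rw [Subgroup.commutator_eq_bot_iff_le_centralizer] at h ⊢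
      have h5 : (⊤ : Subgroup G) ≤ Subgroup.centralizer (Y : Set G) := by
        rwa [Subgroup.le_centralizer_iff] at h
      have h6 : L ≤ L ⊓ Subgroup.centralizer ((largestPReducedOf p L : Subgroup G) : Set G) := by
        rw [h3]
        exact le_inf le_rfl (le_top.trans h5)
      have h7 := h6.trans inf_le_right
      rwa [Subgroup.le_centralizer_iff] at h7

end main

end Cfsg.Agent.Lib.PReduced4
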