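import Mathlib
import Cfsg.Agent.Lib.GL2Irr
import Cfsg.Agent.Lib.CharClifford
import Cfsg.Agent.Lib.CharTable

/-!
# Characters of `SL₂(q)` as constituents of restrictions from `GL₂(q)`.
-/

set_option autoImplicit false
set_option linter.unusedSectionVars false
set_option linter.unusedSimpArgs false
set_option linter.style.haveILetI false

namespace Cfsg.Agent.Lib.SL2Char

open Cfsg Cfsg.Agent.Lib.CharBasic Cfsg.Agent.Lib.CharInd Cfsg.Agent.Lib.GL2Char
  Cfsg.Agent.Lib.GL2Irr Cfsg.Agent.Lib.CharDecomp Cfsg.Agent.Lib.Clifford Matrix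
open scoped ComplexConjugate

variable {F : Type*} [Field F]

local notation "G2" => Matrix.GeneralLinearGroup (Fin 2) F
local notation "S2" => Matrix.SpecialLinearGroup (Fin 2) F
local notation "B2" => Cfsg.upperTriangularGL 2 F
local notation "B3" => Subgroup.comap (Matrix.SpecialLinearGroup.toGL (n := Fin 2) (R := F)) (Cfsg.upperTriangularGL 2 F)
local notation "ι" => Matrix.SpecialLinearGroup.toGL (n := Fin 2) (R := F)

theorem sl_det (g : S2) : (g : Matrix (Fin 2) (Fin 2) F) 0 0 * (g : Matrix (Fin 2) (Fin 2) F) 1 1 -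
    (g : Matrix (Fin 2) (Fin 2) F) 0 1 * (g : Matrix (Fin 2) (Fin 2) F) 1 0 = 1 := by
  have := g.2
  rwa [Matrix.det_fin_two] at this

/-- An explicit element of `SL₂`. -/
def mkS (a b c d : F) (h : a * d - b * c = 1) : S2 :=
  ⟨!![a, b; c, d], by rw [Matrix.det_fin_two_of]; exact h⟩

@[simp] theorem mkS_00 (a b c d : F) (h : a * d - b * c = 1) :
    (mkS a b c d h : S2).1 0 0 = a := rfl
@[simp] theorem mkS_01 (a b c d : F) (h : a * d - b * c = 1) :
    (mkS a b c d h : S2).1 0 1 = b := rfl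
@[simp] theorem mkS_10 (a b c d : F) (h : a * d - b * c = 1) :
    (mkS a b c d h : S2).1 1 0 = c := rfl
@[simp] theorem mkS_11 (a b c d : F) (h : a * d - b * c = 1) :
    (mkS a b c d h : S2).1 1 1 = d := rfl

/-- Coset representatives for `B'` in `SL₂`. -/
noncomputable def repS : Option F → S2
  | none => 1
  | some t => mkS t (-1) 1 0 (by ring)

theorem col_repS (o : Option F) : col (ι (repS o)) = o := by
  cases o with
  | none =>
    apply col_of_eq
    simp [repS]
  | some t =>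
    rw [col_of_ne]
    · have h0 : ((ι (repS (some t)) : G2) : Matrix (Fin 2) (Fin 2) F) 0 0 = t := rfl
      have h1 : ((ι (repS (some t)) : G2) : Matrix (Fin 2) (Fin 2) F) 1 0 = 1 := rfl
      rw [h0, h1]
      simp
    · have h1 : ((ι (repS (some t)) : G2) : Matrix (Fin 2) (Fin 2) F) 1 0 = 1 := rfl
      rw [h1]
      exact one_ne_zero

theorem repS_bijective_S :
    Function.Bijective (fun o : Option F => (QuotientGroup.mk (repS o) : S2 ⧸ B3)) := by
  constructor
  · intro o o' h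
    have h2 : (repS o : S2)⁻¹ * repS o' ∈ B3 := QuotientGroup.eq.mp h
    have h3 : (ι (repS o))⁻¹ * ι (repS o') ∈ B2 := by
      have := Subgroup.mem_comap.mp h2
      rwa [map_mul, map_inv] at this
    have := (col_eq_iff _ _).mpr h3
    rwa [col_repS, col_repS] at this
  · intro q
    induction q using QuotientGroup.induction_on with
    | H x =>
      refine ⟨col (ι x), ?_⟩
      apply QuotientGroup.eq.mpr
      rw [Subgroup.mem_comap, map_mul, map_inv, ← col_eq_iff, col_repS]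

theorem repS_bijective_G :
    Function.Bijective (fun o : Option F => (QuotientGroup.mk (ι (repS o)) : G2 ⧸ B2)) := by
  constructor
  · intro o o' h
    have h2 : (ι (repS o))⁻¹ * ι (repS o') ∈ B2 := QuotientGroup.eq.mp h
    have := (col_eq_iff _ _).mpr h2
    rwa [col_repS, col_repS] at this
  · intro q
    induction q using QuotientGroup.induction_on with
    | H x =>
      refine ⟨col x, ?_⟩
      apply QuotientGroup.eq.mpr
      rw [← col_eq_iff, col_repS]

/-- The linear character of the Borel subgroup of `SL₂`. -/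
noncomputable def thetaS (α : MulChar F ℂ) : B3 → ℂ :=
  fun b => α (((b : S2) : Matrix (Fin 2) (Fin 2) F) 0 0)

theorem mem_B3_iff (x : S2) : x ∈ B3 ↔ (x : Matrix (Fin 2) (Fin 2) F) 1 0 = 0 := by
  rw [Subgroup.mem_comap, mem_B_iff]
  rfl

theorem B3_diag (b : S2) (hb : b ∈ B3) : (b : Matrix (Fin 2) (Fin 2) F) 0 0 *
    (b : Matrix (Fin 2) (Fin 2) F) 1 1 = 1 := by
  have h := sl_det b
  rw [(mem_B3_iff b).mp hb, mul_zero, sub_zero] at h
  exact h

theorem lam_toB (α β : MulChar F ℂ) (b : B3) :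
    lam α β ⟨ι (b : S2), b.2⟩ = thetaS (α * β⁻¹) b := by
  have h := B3_diag (b : S2) b.2
  have h0 : (((b : S2) : Matrix (Fin 2) (Fin 2) F) 0 0)⁻¹ = ((b : S2) : Matrix (Fin 2) (Fin 2) F) 1 1 :=
    (eq_inv_of_mul_eq_one_right h).symm
  simp only [lam, thetaS, MulChar.mul_apply, MulChar.inv_apply', h0]
  rfl

theorem thetaS_class (α : MulChar F ℂ) : IsClassFunction B3 (thetaS α) := by
  intro g h
  have h1 : ∀ x : B3, thetaS α x = lam α 1 ⟨ι (x : S2), x.2⟩ := by
    intro x
    have := lam_toB α 1 x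
    simp only [inv_one, mul_one] at this
    exact this.symm
  rw [h1, h1]
  have h2 := lam_class α 1 ⟨ι (g : S2), g.2⟩ ⟨ι (h : S2), h.2⟩
  rw [← h2]
  congr 1
  apply Subtype.ext
  simp [map_mul, map_inv]

variable [DecidableEq F] [Fintype F]

/-- The principal series of `SL₂`. -/
noncomputable def ff (α : MulChar F ℂ) : S2 → ℂ := indFun B3 (thetaS α)

theorem ext_B_eq (α β : MulChar F ℂ) (h : S2) :
    extendByZero B2 (lam α β) (ι h) = extendByZero B3 (thetaS (α * β⁻¹)) h := by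
  by_cases hh : h ∈ B3
  · rw [extendByZero_of_mem _ _ hh, extendByZero_of_mem _ _ (Subgroup.mem_comap.mp hh)]
    exact lam_toB α β ⟨h, hh⟩
  · rw [extendByZero_of_not_mem _ _ hh, extendByZero_of_not_mem _ _ (fun e => hh (Subgroup.mem_comap.mpr e))]

/-- The restriction of a principal series character of `GL₂`. -/
theorem chi_toGL (α β : MulChar F ℂ) (g : S2) : chi α β (ι g) = ff (α * β⁻¹) g := by
  classical
  haveI : Fintype B2 := Fintype.ofFinite _
  haveI : Fintype B3 := Fintype.ofFinite _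
  unfold chi ff
  rw [indFun_eq_sum_reps B2 (fun o : Option F => ι (repS o)) repS_bijective_G _ (lam_class α β),
    indFun_eq_sum_reps B3 repS repS_bijective_S _ (thetaS_class _)]
  refine Finset.sum_congr rfl fun o _ => ?_
  rw [← ext_B_eq, map_mul, map_mul, map_inv]

theorem ff_eq_chi (α : MulChar F ℂ) (g : S2) : ff α g = chi α 1 (ι g) := by
  rw [chi_toGL]
  simp

theorem ff_isChar (α : MulChar F ℂ) : IsCharacter S2 (ff α) := by
  have := isCharacter_comp ι (chi_isChar α 1)
  have e : chi α 1 ∘ ι = ff α := funext fun g => (ff_eq_chi α g).symm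
  rwa [e] at this

theorem ff_isClass (α : MulChar F ℂ) : IsClassFunction S2 (ff α) :=
  isClassFunction_of_isCharacter (ff_isChar α)

/-- The elements of the Borel subgroup of `SL₂`. -/
noncomputable def bS (a : Fˣ) (s : F) : B3 :=
  ⟨mkS a s 0 ((a⁻¹ : Fˣ) : F) (by simp), (mem_B3_iff _).mpr rfl⟩

theorem bS_bijective : Function.Bijective (fun p : Fˣ × F => bS p.1 p.2) := by
  constructor
  · rintro ⟨a, s⟩ ⟨a', s'⟩ h
    have h0 := congrArg (fun b : B3 => ((b : S2) : Matrix (Fin 2) (Fin 2) F)) h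
    have h00 : (a : F) = a' := congrFun (congrFun h0 0) 0
    have h01 : s = s' := congrFun (congrFun h0 0) 1
    rw [Units.ext h00, h01]
  · intro b
    have hd := B3_diag (b : S2) b.2
    refine ⟨(Units.mk0 _ (left_ne_zero_of_mul_eq_one hd), ((b : S2) : Matrix (Fin 2) (Fin 2) F) 0 1), ?_⟩
    apply Subtype.ext
    apply Subtype.ext
    ext i j
    have h10 := (mem_B3_iff (b : S2)).mp b.2
    have h11 : (((b : S2) : Matrix (Fin 2) (Fin 2) F) 0 0)⁻¹ = ((b : S2) : Matrix (Fin 2) (Fin 2) F) 1 1 :=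
      (eq_inv_of_mul_eq_one_right hd).symm
    fin_cases i <;> fin_cases j
    · rfl
    · rfl
    · exact h10.symm
    · simpa [bS, mkS] using h11

theorem sum_B3 [Fintype B3] (f : B3 → ℂ) :
    ∑ b : B3, f b = ∑ a : Fˣ, ∑ s : F, f (bS a s) := by
  rw [← Function.Bijective.sum_comp bS_bijective, Fintype.sum_prod_type]

theorem card_B3 : Nat.card B3 = (Fintype.card F - 1) * Fintype.card F := by
  classical
  have h := Nat.card_congr (Equiv.ofBijective _ (bS_bijective (F := F)))
  rw [← h, Nat.card_eq_fintype_card, Fintype.card_prod, Fintype.card_units]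

theorem natCard_B3_complex :
    (Nat.card B3 : ℂ) = ((Fintype.card F : ℂ) - 1) * Fintype.card F := by
  rw [card_B3]
  push_cast
  rw [cardF_sub_one_cast]

/-- Inner product with `ff`. -/
theorem classInner_ff_left (α : MulChar F ℂ) {ψ : S2 → ℂ} (hψ : IsClassFunction S2 ψ) :
    classInner (ff α) ψ = (((Fintype.card F : ℂ) - 1) * Fintype.card F)⁻¹ *
      ∑ a : Fˣ, α a * conj (∑ s : F, ψ ((bS a s : B3) : S2)) := by
  classical
  haveI : Fintype B3 := Fintype.ofFinite _
  unfold ff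
  rw [frobenius B3 (thetaS α) hψ]
  unfold classInner
  rw [natCard_B3_complex, sum_B3]
  congr 1
  refine Finset.sum_congr rfl fun a _ => ?_
  rw [map_sum, Finset.mul_sum]
  rfl

theorem bS_toGL (a : Fˣ) (s : F) : ι ((bS a s : B3) : S2) = ((bmk a a⁻¹ s : B2) : G2) := by
  apply ext2 <;> rfl

theorem sum_ff_bS (β : MulChar F ℂ) (a : Fˣ) :
    ∑ s : F, ff β ((bS a s : B3) : S2) = (Fintype.card F : ℂ) * (β a + β⁻¹ a) := by
  simp only [ff_eq_chi, bS_toGL]
  rw [sum_chi_bmk]
  have h1 : (1 : MulChar F ℂ) ((a : F)⁻¹) = 1 := MulChar.one_apply (by simp)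
  have h2 : (1 : MulChar F ℂ) (a : F) = 1 := MulChar.one_apply (by simp)
  simp [MulChar.inv_apply', h1, h2]

theorem ite_calc3 {q Q : ℂ} (hq : q ≠ 0) (hQ : Q ≠ 0) (p₁ p₂ : Prop) [Decidable p₁]
    [Decidable p₂] :
    (Q * q)⁻¹ * (q * ((if p₁ then Q else 0) + (if p₂ then Q else 0))) =
    (if p₁ then 1 else 0) + (if p₂ then 1 else 0) := by
  by_cases h1 : p₁ <;> by_cases h2 : p₂ <;>
    simp only [h1, h2, if_true, if_false, add_zero, zero_add, mul_zero] <;>
    field_simp

theorem classInner_ff_ff (α β : MulChar F ℂ) :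
    classInner (ff α) (ff β) = (if α = β then 1 else 0) + (if α = β⁻¹ then 1 else 0) := by
  rw [classInner_ff_left α (ff_isClass β)]
  simp only [sum_ff_bS, map_mul, map_add, map_natCast]
  have h : ∀ a : Fˣ, α a * ((Fintype.card F : ℂ) * (conj (β a) + conj (β⁻¹ a))) =
      (Fintype.card F : ℂ) * (α a * conj (β a) + α a * conj (β⁻¹ a)) := by
    intro a; ring
  simp only [h, ← Finset.mul_sum, Finset.sum_add_distrib, orth_mulChar]
  exact ite_calc3 card_ne card_sub_one_ne _ _

/-- The principal series of `SL₂`: irreducibility criterion. -/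
theorem ff_isIrr_iff (α : MulChar F ℂ) : IsIrrCharacter S2 (ff α) ↔ α ^ 2 ≠ 1 := by
  rw [isIrrCharacter_iff_norm_one, classInner_ff_ff]
  have h : α = α⁻¹ ↔ α ^ 2 = 1 := by
    rw [eq_inv_iff_mul_eq_one, sq]
  simp only [if_true, h]
  constructor
  · rintro ⟨-, h2⟩ h3
    rw [if_pos h3] at h2
    norm_num at h2
  · intro h3
    rw [if_neg h3]
    exact ⟨ff_isChar α, by simp⟩

/-! ### Restriction from `GL₂` to `SL₂` -/

/-- The diagonal matrices used to pass from `SL₂` to `GL₂`. -/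
noncomputable def dm (a : Fˣ) : G2 := mk2 (a : F) 0 0 1 (by simp)

theorem det_ι (s : S2) : Matrix.GeneralLinearGroup.det (ι s) = 1 := by
  ext
  simp only [Matrix.GeneralLinearGroup.val_det_apply, Units.val_one]
  exact s.2

/-- Elements of determinant one come from `SL₂`. -/
theorem exists_ι_of_det {g : G2} (h : Matrix.GeneralLinearGroup.det g = 1) : ∃ s : S2, ι s = g := by
  have h2 : (g : Matrix (Fin 2) (Fin 2) F).det = 1 := by
    have := congrArg Units.val h
    simpa using this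
  exact ⟨⟨g.1, h2⟩, Units.ext rfl⟩

theorem det_dm (a : Fˣ) : Matrix.GeneralLinearGroup.det (dm a : G2) = a := by
  ext
  simp [dm, Matrix.det_fin_two_of]

theorem card_G_eq : Nat.card G2 = Nat.card S2 * (Fintype.card F - 1) := by
  classical
  have hb : Function.Bijective (fun p : S2 × Fˣ => ι p.1 * dm p.2) := by
    constructor
    · rintro ⟨s, a⟩ ⟨s', a'⟩ h
      have h1 := congrArg Matrix.GeneralLinearGroup.det h
      simp only [map_mul, det_ι, det_dm, one_mul] at h1
      subst h1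
      have h2 : ι s = ι s' := mul_right_cancel h
      rw [Matrix.SpecialLinearGroup.toGL_injective h2]
    · intro g
      obtain ⟨s, hs⟩ := exists_ι_of_det (g := g * (dm (Matrix.GeneralLinearGroup.det g))⁻¹)
        (by simp [det_dm])
      refine ⟨(s, Matrix.GeneralLinearGroup.det g), ?_⟩
      simp [hs]
  have := Nat.card_congr (Equiv.ofBijective _ hb)
  rw [← this, Nat.card_prod, Nat.card_eq_fintype_card (α := Fˣ), Fintype.card_units]

theorem sum_det_one (t : G2 → ℂ) :
    ∑ g : G2, (if Matrix.GeneralLinearGroup.det g = 1 then t g else 0) = ∑ s : S2, t (ι s) := by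
  classical
  rw [← Finset.sum_filter]
  symm
  refine Finset.sum_bij (fun s _ => ι s) ?_ ?_ ?_ ?_
  · intro s _
    simp [det_ι]
  · intro a _ b _ h
    exact Matrix.SpecialLinearGroup.toGL_injective h
  · intro g hg
    obtain ⟨s, hs⟩ := exists_ι_of_det (Finset.mem_filter.mp hg).2
    exact ⟨s, Finset.mem_univ _, hs⟩
  · intro _ _
    rfl

/-- Twisting by a linear character. -/
noncomputable def tw (l : MulChar F ℂ) (θ : G2 → ℂ) : G2 → ℂ := fun g => lin l g * θ g

theorem lin_eq_det (l : MulChar F ℂ) (g : G2) :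
    lin l g = l ((Matrix.GeneralLinearGroup.det g : Fˣ) : F) := by
  simp [lin]

theorem classInner_res (θ θ' : G2 → ℂ) :
    classInner (θ ∘ ι) (θ' ∘ ι) = ∑ l : MulChar F ℂ, classInner (tw l θ) θ' := by
  unfold classInner tw
  rw [← Finset.mul_sum]
  have h1 : ∑ l : MulChar F ℂ, ∑ g : G2, lin l g * θ g * conj (θ' g) =
      ((Fintype.card F : ℂ) - 1) * ∑ s : S2, θ (ι s) * conj (θ' (ι s)) := by
    rw [Finset.sum_comm]
    have h2 : ∀ g : G2, ∑ l : MulChar F ℂ, lin l g * θ g * conj (θ' g) =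
        ((Fintype.card F : ℂ) - 1) *
          (if Matrix.GeneralLinearGroup.det g = 1 then θ g * conj (θ' g) else 0) := by
      intro g
      simp only [lin_eq_det]
      rw [← Finset.sum_mul, ← Finset.sum_mul, sum_X_apply]
      split_ifs <;> ring
    simp only [h2]
    rw [← Finset.mul_sum, sum_det_one (fun g => θ g * conj (θ' g))]
  rw [h1, card_G_eq]
  simp only [Function.comp_apply]
  push_cast
  rw [cardF_sub_one_cast]
  have hQ := card_sub_one_ne (F := F)
  have hS : (Nat.card S2 : ℂ) ≠ 0 := natCard_ne_zero'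
  field_simp

theorem lin_mul_conj (l : MulChar F ℂ) (g : G2) : lin l g * conj (lin l g) = 1 := by
  have h := norm_mulChar_eq_one l (det_ne g)
  rw [Complex.mul_conj, Complex.normSq_eq_norm_sq]
  simp only [lin, h]
  norm_num

theorem tw_isIrr (l : MulChar F ℂ) {χ : G2 → ℂ} (hχ : IsIrrCharacter G2 χ) :
    IsIrrCharacter G2 (tw l χ) := by
  have hc : IsCharacter G2 (tw l χ) :=
    isCharacter_mul (lin_isChar l) (IsIrrCharacter.isCharacter hχ)
  apply isIrrCharacter_of_norm_one hc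
  have h1 := classInner_irr_self hχ
  rw [← h1]
  unfold classInner tw
  congr 1
  refine Finset.sum_congr rfl fun g _ => ?_
  rw [map_mul]
  calc _ = (lin l g * conj (lin l g)) * (χ g * conj (χ g)) := by ring
    _ = _ := by rw [lin_mul_conj, one_mul]

theorem irr_central_ne {χ : G2 → ℂ} (hχ : IsIrrCharacter G2 χ) (z : G2)
    (hz : ∀ y : G2, y * z = z * y) : χ z ≠ 0 := by
  have h1 := Cfsg.Agent.Lib.CharAvg.irr_avg hχ z z⁻¹
  have h2 : ∀ b : G2, χ (z * (b * z⁻¹ * b⁻¹)) = χ 1 := by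
    intro b
    congr 1
    have hz' : b * z⁻¹ = z⁻¹ * b := by
      apply eq_inv_mul_of_mul_eq
      rw [← mul_assoc, ← hz, mul_assoc, mul_inv_cancel, mul_one]
    rw [hz', mul_assoc, mul_inv_cancel, mul_one, mul_inv_cancel]
  simp only [h2, Finset.sum_const, Finset.card_univ, nsmul_eq_mul] at h1
  intro h0
  rw [h0, mul_zero, zero_mul] at h1
  have h3 := irr_degree_ne_zero hχ
  have h4 : (Fintype.card G2 : ℂ) ≠ 0 := by
    exact_mod_cast Fintype.card_ne_zero
  exact (mul_ne_zero h3 (mul_ne_zero h4 h3)) h1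

theorem tw_fixed_sq (l : MulChar F ℂ) {χ : G2 → ℂ} (hχ : IsIrrCharacter G2 χ)
    (h : tw l χ = χ) : l ^ 2 = 1 := by
  ext c
  have h1 := congrFun h (scal c)
  have h2 := irr_central_ne hχ (scal c) (fun y => scal_comm c y)
  have h3 : lin l (scal c) = 1 := by
    have h4 : lin l (scal c) * χ (scal c) = 1 * χ (scal c) := by rw [one_mul]; exact h1
    exact mul_right_cancel₀ h2 h4
  simp only [scal, lin_mk2] at h3
  rw [MulChar.one_apply_coe, MulChar.pow_apply_coe]
  rw [sq]
  simpa using h3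

/-- The group of multiplicative characters is cyclic. -/
theorem isCyclic_X : IsCyclic (MulChar F ℂ) := by
  obtain ⟨e⟩ := MulChar.mulEquiv_units F ℂ
  exact isCyclic_of_surjective e.symm e.symm.surjective

theorem card_sq_one_le :
    (Finset.univ.filter (fun l : MulChar F ℂ => l ^ 2 = 1)).card ≤ 2 := by
  classical
  haveI := isCyclic_X (F := F)
  exact IsCyclic.card_pow_eq_one_le (by norm_num)

theorem classInner_res_self {χ : G2 → ℂ} (hχ : IsIrrCharacter G2 χ) :
    classInner (χ ∘ ι) (χ ∘ ι) =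
      (((Finset.univ.filter (fun l : MulChar F ℂ => tw l χ = χ)).card : ℕ) : ℂ) := by
  classical
  rw [classInner_res, Finset.card_eq_sum_ones, Finset.sum_filter]
  push_cast
  refine Finset.sum_congr rfl fun l _ => ?_
  split_ifs with h
  · rw [h, classInner_irr_self hχ]
  · exact classInner_irr_ne (tw_isIrr l hχ) hχ h

theorem tw_one (χ : G2 → ℂ) : tw 1 χ = χ := by
  funext g
  have h : lin (1 : MulChar F ℂ) g = 1 :=
    MulChar.one_apply ((Matrix.isUnit_iff_isUnit_det _).mp g.isUnit)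
  simp [tw, h]

theorem res_norm_cases {χ : G2 → ℂ} (hχ : IsIrrCharacter G2 χ) :
    classInner (χ ∘ ι) (χ ∘ ι) = 1 ∨ classInner (χ ∘ ι) (χ ∘ ι) = 2 := by
  classical
  rw [classInner_res_self hχ]
  have h1 : (Finset.univ.filter (fun l : MulChar F ℂ => tw l χ = χ)).card ≤ 2 :=
    le_trans (Finset.card_le_card (fun l hl => by
      simp only [Finset.mem_filter, Finset.mem_univ, true_and] at hl ⊢
      exact tw_fixed_sq l hχ hl)) card_sq_one_le
  have h2 : 1 ≤ (Finset.univ.filter (fun l : MulChar F ℂ => tw l χ = χ)).card :=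
    Finset.card_pos.mpr ⟨1, by simp [tw_one]⟩
  have h3 : (Finset.univ.filter (fun l : MulChar F ℂ => tw l χ = χ)).card = 1 ∨
      (Finset.univ.filter (fun l : MulChar F ℂ => tw l χ = χ)).card = 2 := by omega
  rcases h3 with h | h <;> rw [h] <;> simp

/-! ### Every irreducible of `SL₂` lies under one of `GL₂` -/

theorem exists_over {φ : S2 → ℂ} (hφ : IsIrrCharacter S2 φ) :
    ∃ χ : G2 → ℂ, IsIrrCharacter G2 χ ∧ classInner (χ ∘ ι) φ ≠ 0 := by
  classical
  by_contra hcon
  push Not at hcon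
  have h1 : ∑ χ : IrrCharacter G2, conj (χ.1 1) * classInner (χ.1 ∘ ι) φ = 0 :=
    Finset.sum_eq_zero fun χ _ => by rw [hcon χ.1 χ.2, mul_zero]
  have h2 : ∑ χ : IrrCharacter G2, conj (χ.1 1) * classInner (χ.1 ∘ ι) φ =
      (Nat.card S2 : ℂ)⁻¹ * ((Nat.card G2 : ℂ) * conj (φ 1)) := by
    unfold classInner
    simp only [Function.comp_apply]
    have h3 : ∀ χ : IrrCharacter G2, conj (χ.1 1) * ((Nat.card S2 : ℂ)⁻¹ *
        ∑ s : S2, χ.1 (ι s) * conj (φ s)) = (Nat.card S2 : ℂ)⁻¹ *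
        ∑ s : S2, (χ.1 (ι s) * conj (χ.1 1)) * conj (φ s) := by
      intro χ
      rw [mul_left_comm, Finset.mul_sum]
      congr 1
      refine Finset.sum_congr rfl fun s _ => ?_
      ring
    rw [Finset.sum_congr rfl (fun χ _ => h3 χ), ← Finset.mul_sum, Finset.sum_comm]
    congr 1
    simp only [← Finset.sum_mul]
    have h4 : ∀ s : S2, (∑ χ : IrrCharacter G2, χ.1 (ι s) * conj (χ.1 1)) =
        if s = 1 then (Nat.card G2 : ℂ) else 0 := by
      intro s
      have h5 := sum_irr_mul_conj (ι s) (1 : G2)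
      rw [h5]
      by_cases hs : s = 1
      · subst hs
        rw [if_pos rfl, map_one, if_pos (IsConj.refl _)]
        congr 1
        have h6 : Subgroup.centralizer ({(1 : G2)} : Set G2) = ⊤ := by
          ext x
          simp [Subgroup.mem_centralizer_iff]
        rw [h6]
        exact Nat.card_congr Subgroup.topEquiv.toEquiv
      · rw [if_neg hs, if_neg]
        intro hc
        have hc' := isConj_one_right.mp hc.symm
        exact hs (Matrix.SpecialLinearGroup.toGL_injective (by rw [hc', map_one]))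
    simp only [h4]
    rw [Finset.sum_eq_single (1 : S2)]
    · simp
    · intro s _ hs
      simp [hs]
    · intro h0; exact absurd (Finset.mem_univ _) h0
  rw [h2] at h1
  have h7 : (Nat.card S2 : ℂ) ≠ 0 := natCard_ne_zero'
  have h8 : (Nat.card G2 : ℂ) ≠ 0 := natCard_ne_zero'
  have h9 : conj (φ 1) ≠ 0 := (map_ne_zero (starRingEnd ℂ)).mpr (irr_degree_ne_zero hφ)
  exact (mul_ne_zero (inv_ne_zero h7) (mul_ne_zero h8 h9)) h1

/-! ### Clifford in this setting -/

theorem range_normal : (MonoidHom.range ι).Normal := by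
  constructor
  rintro _ ⟨s, rfl⟩ y
  obtain ⟨s', hs'⟩ := exists_ι_of_det (g := y * ι s * y⁻¹) (by simp [det_ι])
  exact ⟨s', hs'⟩

/-- The isomorphism of `SL₂` with the range of `ι`. -/
noncomputable def eS : Matrix.SpecialLinearGroup (Fin 2) F ≃* MonoidHom.range ι :=
  MonoidHom.ofInjective Matrix.SpecialLinearGroup.toGL_injective

theorem clifford_S {θ : G2 → ℂ} (hθ : IsIrrCharacter G2 θ) {φ φ' : S2 → ℂ}
    (hφ : IsIrrCharacter S2 φ) (hφ' : IsIrrCharacter S2 φ') (h1 : classInner (θ ∘ ι) φ ≠ 0)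
    (h2 : classInner (θ ∘ ι) φ' ≠ 0) :
    ∃ y : G2, ∀ g h : S2, ι h = y * ι g * y⁻¹ → φ' h = φ g := by
  classical
  haveI : Fintype (MonoidHom.range ι) := Fintype.ofFinite _
  have hconv : ∀ ψ : S2 → ℂ, classInner (fun n : MonoidHom.range ι => θ n) (ψ ∘ eS.symm) =
      classInner (θ ∘ ι) ψ := by
    intro ψ
    rw [← Cfsg.Agent.Lib.Clifford.classInner_comp_mulEquiv eS]
    congr 1
    funext s
    simp
  have hirr : ∀ {ψ : S2 → ℂ}, IsIrrCharacter S2 ψ →
      IsIrrCharacter (MonoidHom.range ι) (ψ ∘ eS.symm) := by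
    intro ψ hψ
    exact isIrrCharacter_comp_of_surjective eS.symm.toMonoidHom
      eS.symm.surjective hψ
  obtain ⟨y, hy⟩ := Cfsg.Agent.Lib.CharClifford.exists_conj_of_constituents (MonoidHom.range ι) range_normal hθ
    (hirr hφ') (hirr hφ) (by rwa [hconv]) (by rwa [hconv])
  refine ⟨y, fun g h hgh => ?_⟩
  have h3 := congrFun hy (eS (F := F) g)
  simp only [Function.comp_apply, MulEquiv.symm_apply_apply] at h3
  rw [h3, Cfsg.Agent.Lib.CharInduction.conjBy_apply]
  simp only [Function.comp_apply]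
  congr 1
  rw [eq_comm, MulEquiv.symm_apply_eq]
  apply Subtype.ext
  show y * ι g * y⁻¹ = ι h
  exact hgh.symm

/-! ### Branching -/

theorem res_isChar {χ : G2 → ℂ} (hχ : IsCharacter G2 χ) : IsCharacter S2 (χ ∘ ι) :=
  isCharacter_comp ι hχ

/-- Splitting off an irreducible constituent from a character of norm two. -/
theorem split_norm_two {ψ φ : S2 → ℂ} (hψ : IsCharacter S2 ψ) (hφ : IsIrrCharacter S2 φ)
    (hn : classInner ψ ψ = 2) (h : classInner ψ φ ≠ 0) :
    ∃ φ', IsIrrCharacter S2 φ' ∧ φ' ≠ φ ∧ ψ = φ + φ' ∧ classInner ψ φ' ≠ 0 := by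
  obtain ⟨ψ', hψ', rfl⟩ := exists_char_add hψ hφ h
  obtain ⟨n, hn1⟩ := classInner_char_irr hψ' hφ
  obtain ⟨m, hm⟩ := classInner_char_char hψ' hψ'
  have hn2 : classInner φ ψ' = n := by
    rw [← classInner_conj_symm, hn1, Complex.conj_natCast]
  rw [classInner_add_left, classInner_add_right, classInner_add_right, classInner_irr_self hφ, hn1,
    hn2, hm] at hn
  have h3 : 1 + n + (n + m) = 2 := by exact_mod_cast hn
  have hn0 : n = 0 := by omega
  have hm1 : m = 1 := by omega
  have hirr : IsIrrCharacter S2 ψ' := by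
    apply isIrrCharacter_of_norm_one hψ'
    rw [hm, hm1]
    simp
  refine ⟨ψ', hirr, ?_, rfl, ?_⟩
  · intro e
    rw [e, classInner_irr_self hφ, hn0] at hn1
    simp at hn1
  · rw [classInner_add_left, hn2, hm, hn0, hm1]
    simp

/-- The restriction to `SL₂` of an irreducible character of `GL₂`. -/
theorem branch {χ : G2 → ℂ} (hχ : IsIrrCharacter G2 χ) {φ : S2 → ℂ} (hφ : IsIrrCharacter S2 φ)
    (h : classInner (χ ∘ ι) φ ≠ 0) :
    χ ∘ ι = φ ∨ ∃ φ', IsIrrCharacter S2 φ' ∧ φ' ≠ φ ∧ χ ∘ ι = φ + φ' ∧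
      ∃ y : G2, ∀ g h : S2, ι h = y * ι g * y⁻¹ → φ' h = φ g := by
  have hc := res_isChar (IsIrrCharacter.isCharacter hχ)
  rcases res_norm_cases hχ with hn | hn
  · left
    by_contra hne
    exact h (classInner_irr_ne (isIrrCharacter_of_norm_one hc hn) hφ hne)
  · right
    obtain ⟨φ', h1, h2, h3, h4⟩ := split_norm_two hc hφ hn h
    exact ⟨φ', h1, h2, h3, clifford_S hχ hφ h1 h h4⟩

/-- Equal degrees of the conjugate. -/
theorem conj_deg {φ φ' : S2 → ℂ} {y : G2}
    (h : ∀ g h : S2, ι h = y * ι g * y⁻¹ → φ' h = φ g) : φ' 1 = φ 1 :=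
  h 1 1 (by simp)

/-! ### The constant character and the Steinberg character of `SL₂` -/

/-- The trivial character. -/
def one' : S2 → ℂ := fun _ => 1

theorem one'_isIrr : IsIrrCharacter S2 (one' (F := F)) := isIrrCharacter_one

/-- The Steinberg character of `SL₂`. -/
noncomputable def stS : S2 → ℂ := ff 1 - one'

theorem lin_res (α : MulChar F ℂ) : lin α ∘ ι = one' := by
  funext s
  have h : ((ι s : G2) : Matrix (Fin 2) (Fin 2) F).det = 1 := s.2
  simp [lin, h, one']

theorem chi_res (α β : MulChar F ℂ) : chi α β ∘ ι = ff (α * β⁻¹) :=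
  funext fun s => chi_toGL α β s

theorem st_res (α : MulChar F ℂ) : st α ∘ ι = stS := by
  funext s
  simp only [st, Function.comp_apply, Pi.sub_apply, stS]
  rw [chi_toGL]
  have := congrFun (lin_res α) s
  simp only [Function.comp_apply] at this
  rw [this]
  simp

theorem classInner_ff_one (α : MulChar F ℂ) : classInner (ff α) (one' (F := F)) =
    if α = 1 then 1 else 0 := by
  rw [classInner_ff_left α (isClassFunction_of_isCharacter
    (IsIrrCharacter.isCharacter one'_isIrr))]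
  have h : ∀ a : Fˣ, α a * conj (∑ s : F, (one' (F := F)) ((bS a s : B3) : S2)) =
      (Fintype.card F : ℂ) * α a := by
    intro a
    simp [one', Finset.card_univ, mul_comm]
  simp only [h, ← Finset.mul_sum, sum_units_mulChar]
  have hq := card_ne (F := F)
  have hQ := card_sub_one_ne (F := F)
  split_ifs
  · field_simp
  · simp

theorem classInner_one_ff (α : MulChar F ℂ) : classInner (one' (F := F)) (ff α) =
    if α = 1 then 1 else 0 := by
  rw [← classInner_conj_symm, classInner_ff_one]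
  split_ifs <;> simp

theorem stS_isChar : IsCharacter S2 (stS (F := F)) := by
  have := res_isChar (st_isChar (1 : MulChar F ℂ))
  rwa [st_res] at this

theorem classInner_stS_stS : classInner (stS (F := F)) stS = 1 := by
  unfold stS
  rw [classInner_sub_left, classInner_sub_right, classInner_sub_right, classInner_ff_ff,
    classInner_ff_one, classInner_one_ff, classInner_irr_self one'_isIrr]
  simp

theorem stS_isIrr : IsIrrCharacter S2 (stS (F := F)) :=
  isIrrCharacter_of_norm_one stS_isChar classInner_stS_stS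

theorem ff_one (α : MulChar F ℂ) : ff α (1 : S2) = (Fintype.card F : ℂ) + 1 := by
  rw [ff_eq_chi, map_one, chi_one]

theorem stS_one : stS (1 : S2) = (Fintype.card F : ℂ) := by
  simp [stS, ff_one, one']

theorem ff_comm_inv (μ : MulChar F ℂ) : ff μ⁻¹ = ff μ := by
  have h1 := chi_res (1 : MulChar F ℂ) μ
  have h2 := chi_res μ (1 : MulChar F ℂ)
  rw [chi_comm] at h1
  rw [h1] at h2
  simpa using h2

theorem ff_eq_iff (μ ν : MulChar F ℂ) : ff μ = ff ν ↔ μ = ν ∨ μ = ν⁻¹ := by
  constructor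
  · intro h
    by_contra hcon
    push Not at hcon
    have h1 := classInner_ff_ff μ ν
    rw [← h, classInner_ff_ff, if_neg hcon.1, if_neg hcon.2, if_pos rfl] at h1
    split_ifs at h1 <;> norm_num at h1
  · rintro (rfl | rfl)
    · rfl
    · exact ff_comm_inv _

/-! ### Classification -/

/-- Constituents of a principal series character of `SL₂` which is not irreducible. -/
def IsHalfP (φ : S2 → ℂ) : Prop :=
  ∃ μ : MulChar F ℂ, μ ^ 2 = 1 ∧ μ ≠ 1 ∧ ∃ φ', IsIrrCharacter S2 φ' ∧ φ' ≠ φ ∧ ff μ = φ + φ' ∧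
    ∃ y : G2, ∀ g h : S2, ι h = y * ι g * y⁻¹ → φ' h = φ g

/-- Restrictions of irreducible cuspidal characters which remain irreducible. -/
def IsCuspFull (φ : S2 → ℂ) : Prop :=
  ∃ χ : G2 → ℂ, IsIrrCharacter G2 χ ∧ IsCusp χ ∧ χ ∘ ι = φ

/-- Constituents of reducible restrictions of irreducible cuspidal characters. -/
def IsCuspHalf (φ : S2 → ℂ) : Prop :=
  ∃ χ : G2 → ℂ, IsIrrCharacter G2 χ ∧ IsCusp χ ∧ ∃ φ', IsIrrCharacter S2 φ' ∧ φ' ≠ φ ∧
    χ ∘ ι = φ + φ' ∧ ∃ y : G2, ∀ g h : S2, ι h = y * ι g * y⁻¹ → φ' h = φ g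

theorem classify_S {φ : S2 → ℂ} (hφ : IsIrrCharacter S2 φ) :
    φ = one' ∨ φ = stS ∨ (∃ μ : MulChar F ℂ, μ ^ 2 ≠ 1 ∧ φ = ff μ) ∨ IsHalfP φ ∨ IsCuspFull φ ∨
      IsCuspHalf φ := by
  obtain ⟨χ, hχ, hne⟩ := exists_over hφ
  rcases classify hχ with ⟨α, rfl⟩ | ⟨α, rfl⟩ | ⟨α, β, hαβ, rfl⟩ | hc
  · left
    rw [lin_res] at hne
    by_contra h
    exact hne (classInner_irr_ne one'_isIrr hφ (fun e => h e.symm))
  · right; left
    rw [st_res] at hne
    by_contra h
    exact hne (classInner_irr_ne stS_isIrr hφ (fun e => h e.symm))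
  · have hne' := hne
    rw [chi_res] at hne'
    by_cases hμ : (α * β⁻¹) ^ 2 = 1
    · have hμ1 : α * β⁻¹ ≠ 1 := by
        rwa [Ne, mul_inv_eq_one]
      rcases branch (chi_isIrr α β hαβ) hφ hne with h | ⟨φ', h1, h2, h3, h4⟩
      · exfalso
        rw [chi_res] at h
        rw [← h] at hφ
        exact (ff_isIrr_iff _).mp hφ hμ
      · right; right; right; left
        rw [chi_res] at h3
        exact ⟨_, hμ, hμ1, φ', h1, h2, h3, h4⟩
    · right; right; left
      refine ⟨_, hμ, ?_⟩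
      by_contra h
      exact hne' (classInner_irr_ne ((ff_isIrr_iff _).mpr hμ) hφ (fun e => h e.symm))
  · right; right; right; right
    rcases branch hχ hφ hne with h | ⟨φ', h1, h2, h3, h4⟩
    · exact Or.inl ⟨χ, hχ, hc, h⟩
    · exact Or.inr ⟨χ, hχ, hc, φ', h1, h2, h3, h4⟩

/-- The degrees. -/
theorem isHalfP_deg {φ : S2 → ℂ} (h : IsHalfP φ) : 2 * φ 1 = (Fintype.card F : ℂ) + 1 := by
  obtain ⟨μ, -, -, φ', -, -, h3, y, hy⟩ := h
  have h1 := congrFun h3 1
  rw [ff_one, Pi.add_apply, conj_deg hy] at h1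
  rw [h1]
  ring

theorem isCuspFull_deg {φ : S2 → ℂ} (h : IsCuspFull φ) : φ 1 = (Fintype.card F : ℂ) - 1 := by
  obtain ⟨χ, hχ, hc, rfl⟩ := h
  simpa using (cusp_degree hχ hc).1

theorem isCuspHalf_deg {φ : S2 → ℂ} (h : IsCuspHalf φ) : 2 * φ 1 = (Fintype.card F : ℂ) - 1 := by
  obtain ⟨χ, hχ, hc, φ', -, -, h3, y, hy⟩ := h
  have h1 := congrFun h3 1
  simp only [Function.comp_apply, map_one, Pi.add_apply] at h1
  rw [(cusp_degree hχ hc).1, conj_deg hy] at h1
  rw [h1]
  ring

/-- Degree `q` forces Steinberg. -/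
theorem eq_stS_of_deg {φ : S2 → ℂ} (hφ : IsIrrCharacter S2 φ) (h : φ 1 = (Fintype.card F : ℂ)) :
    φ = stS := by
  have hq : (Fintype.card F : ℂ) ≠ 1 := q_ne_one
  rcases classify_S hφ with rfl | h1 | ⟨μ, -, rfl⟩ | h1 | h1 | h1
  · exact absurd h.symm hq
  · exact h1
  · rw [ff_one] at h
    exact absurd h q_add_one_ne_q
  · have := isHalfP_deg h1
    rw [h] at this
    exact absurd (by linear_combination this) hq
  · have := isCuspFull_deg h1
    rw [h] at this
    exact absurd this.symm q_sub_one_ne_q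
  · exfalso
    have := isCuspHalf_deg h1
    rw [h] at this
    have h2 : (((Fintype.card F + 1 : ℕ) : ℂ)) = 0 := by
      push_cast
      linear_combination this
    have h3 : Fintype.card F + 1 = 0 := by exact_mod_cast h2
    omega

/-- The half principal series. -/
theorem half_principal (α : MulChar F ℂ) (hα : α ^ 2 = 1) (hα1 : α ≠ 1) :
    ∃ χ₁ χ₂ : S2 → ℂ, IsIrrCharacter S2 χ₁ ∧ IsIrrCharacter S2 χ₂ ∧ χ₁ ≠ χ₂ ∧ ff α = χ₁ + χ₂ ∧
      ∃ x : G2, ∀ g h : S2, ι h = x * ι g * x⁻¹ → χ₂ h = χ₁ g := by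
  have hirr : IsIrrCharacter G2 (chi α 1) := chi_isIrr α 1 hα1
  have hres : chi α 1 ∘ ι = ff α := by
    rw [chi_res]
    simp
  obtain ⟨φ, hφ⟩ : ∃ φ : IrrCharacter S2, classInner (ff α) (φ : S2 → ℂ) ≠ 0 := by
    by_contra hcon
    push Not at hcon
    have h0 := eq_zero_of_orthogonal (ff_isClass α) hcon
    have h1 := congrFun h0 1
    rw [ff_one] at h1
    have h2 : ((Fintype.card F + 1 : ℕ) : ℂ) = 0 := by
      push_cast
      exact h1
    have h3 : Fintype.card F + 1 = 0 := by exact_mod_cast h2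
    omega
  rcases branch hirr φ.2 (by rwa [hres]) with h | ⟨φ', h1, h2, h3, y, hy⟩
  · exfalso
    have h4 := φ.2
    rw [← h, hres] at h4
    exact (ff_isIrr_iff α).mp h4 hα
  · rw [hres] at h3
    exact ⟨φ, φ', φ.2, h1, fun e => h2 e.symm, h3, y, hy⟩

/-- `(q + 1) / 2` as a degree. -/
theorem half_deg {φ : S2 → ℂ} (hφ : IsIrrCharacter S2 φ) (h : 2 * φ 1 = (Fintype.card F : ℂ) + 1) :
    φ 1 = (((Fintype.card F + 1) / 2 : ℕ) : ℂ) := by
  obtain ⟨d, -, hd⟩ := irr_degree_pos hφ
  rw [hd] at h ⊢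
  have h2 : 2 * d = Fintype.card F + 1 := by exact_mod_cast h
  have h3 : (Fintype.card F + 1) / 2 = d := by omega
  rw [h3]

theorem one_apply_unit (a : Fˣ) : (1 : MulChar F ℂ) (a : F) = 1 :=
  MulChar.one_apply a.isUnit

/-- Values of the Steinberg character of `SL₂`. -/
theorem stS_diag (g : S2) (h01 : (g : Matrix (Fin 2) (Fin 2) F) 0 1 = 0)
    (h10 : (g : Matrix (Fin 2) (Fin 2) F) 1 0 = 0) (h : (g : Matrix (Fin 2) (Fin 2) F) 0 0 ^ 2 ≠ 1) :
    stS g = 1 := by
  obtain ⟨a, d, hg, ha, hd⟩ := eq_bmk_of_diag (ι g) h01 h10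
  have hdet := sl_det g
  rw [h01, h10, zero_mul, sub_zero] at hdet
  have had : a ≠ d := by
    intro e
    apply h
    have h1 : (ι g : G2).1 0 0 = (g : Matrix (Fin 2) (Fin 2) F) 0 0 := rfl
    have h2 : (ι g : G2).1 1 1 = (g : Matrix (Fin 2) (Fin 2) F) 1 1 := rfl
    rw [h1] at ha
    rw [h2] at hd
    rw [sq]
    nth_rewrite 2 [ha]
    rw [e, ← hd]
    exact hdet
  simp only [stS, Pi.sub_apply, one', ff_eq_chi, hg]
  rw [chi_diag 1 1 a d had]
  simp only [one_apply_unit]
  norm_num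

theorem stS_noEig (g : S2) (h : NoEig (ι g)) : stS g = -1 := by
  simp only [stS, Pi.sub_apply, one', ff_eq_chi]
  rw [chi_noEig 1 1 h]
  simp

theorem stS_unip (g : S2) (h10 : (g : Matrix (Fin 2) (Fin 2) F) 1 0 = 0)
    (h : (g : Matrix (Fin 2) (Fin 2) F) 0 0 = (g : Matrix (Fin 2) (Fin 2) F) 1 1)
    (h01 : (g : Matrix (Fin 2) (Fin 2) F) 0 1 ≠ 0) : stS g = 0 := by
  have hdet := sl_det g
  rw [h10, mul_zero, sub_zero] at hdet
  have hu0 : IsUnit ((g : Matrix (Fin 2) (Fin 2) F) 0 0) := IsUnit.of_mul_eq_one _ hdet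
  have hu1 : IsUnit ((g : Matrix (Fin 2) (Fin 2) F) 1 1) := by
    rw [← h]; exact hu0
  simp only [stS, Pi.sub_apply, one', ff_eq_chi]
  rw [chi_apply]
  have e00 : ((ι g : G2) : Matrix (Fin 2) (Fin 2) F) 0 0 = (g : Matrix (Fin 2) (Fin 2) F) 0 0 := rfl
  have e01 : ((ι g : G2) : Matrix (Fin 2) (Fin 2) F) 0 1 = (g : Matrix (Fin 2) (Fin 2) F) 0 1 := rfl
  have e10 : ((ι g : G2) : Matrix (Fin 2) (Fin 2) F) 1 0 = (g : Matrix (Fin 2) (Fin 2) F) 1 0 := rfl
  have e11 : ((ι g : G2) : Matrix (Fin 2) (Fin 2) F) 1 1 = (g : Matrix (Fin 2) (Fin 2) F) 1 1 := rfl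
  rw [e00, e01, e10, e11, h10, if_pos rfl, MulChar.one_apply hu0, MulChar.one_apply hu1]
  have hs : ∀ t : F, ¬ ((g : Matrix (Fin 2) (Fin 2) F) 0 0 * t + (g : Matrix (Fin 2) (Fin 2) F) 0 1 -
      t * (g : Matrix (Fin 2) (Fin 2) F) 1 1 = 0) := by
    intro t h0
    apply h01
    rw [h] at h0
    linear_combination h0
  simp [hs]

end Cfsg.Agent.Lib.SL2Char
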