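import Mathlib
import Cfsg.Agent.Lib.SL2Char

/-!
# Counting the irreducible characters of `SL₂(q)` by degree.
-/

set_option autoImplicit false
set_option linter.unusedSectionVars false
set_option linter.unusedSimpArgs false
set_option linter.style.haveILetI false

namespace Cfsg.Agent.Lib.SL2Count

open Cfsg Cfsg.Agent.Lib.CharBasic Cfsg.Agent.Lib.CharInd Cfsg.Agent.Lib.GL2Char
  Cfsg.Agent.Lib.GL2Irr Cfsg.Agent.Lib.CharDecomp Cfsg.Agent.Lib.Clifford
  Cfsg.Agent.Lib.SL2Char Matrix
open scoped ComplexConjugate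

variable {F : Type*} [Field F] [DecidableEq F] [Fintype F]

local notation "G2" => Matrix.GeneralLinearGroup (Fin 2) F
local notation "S2" => Matrix.SpecialLinearGroup (Fin 2) F
local notation "ι" => Matrix.SpecialLinearGroup.toGL (n := Fin 2) (R := F)

theorem card_S2 : Nat.card S2 = (Fintype.card F - 1) * Fintype.card F * (Fintype.card F + 1) := by
  have h1 := card_G_eq (F := F)
  have h2 := card_GL2 (F := F)
  have hq : 0 < Fintype.card F - 1 := by
    have : 1 < Fintype.card F := Fintype.one_lt_card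
    omega
  rw [h2] at h1
  apply Nat.eq_of_mul_eq_mul_right hq
  rw [← h1]
  ring

/-- The degree of an irreducible character. -/
noncomputable def degS (φ : IrrCharacter S2) : ℕ := (irr_degree_pos φ.2).choose

theorem degS_pos (φ : IrrCharacter S2) : 0 < degS φ := (irr_degree_pos φ.2).choose_spec.1

theorem degS_spec (φ : IrrCharacter S2) : φ.1 1 = (degS φ : ℂ) := (irr_degree_pos φ.2).choose_spec.2

theorem degS_eq_iff (φ : IrrCharacter S2) (d : ℕ) : degS φ = d ↔ φ.1 1 = (d : ℂ) := by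
  rw [degS_spec]
  exact Nat.cast_inj.symm

theorem sum_degS_sq : ∑ φ : IrrCharacter S2, (degS φ) ^ 2 = Nat.card S2 := by
  have h := sum_irr_degree_sq (G := S2)
  have h2 : ((∑ φ : IrrCharacter S2, (degS φ) ^ 2 : ℕ) : ℂ) = (Nat.card S2 : ℂ) := by
    rw [← h]
    push_cast
    refine Finset.sum_congr rfl fun φ _ => ?_
    rw [degS_spec, Complex.conj_natCast, sq]
  exact_mod_cast h2

/-- Counting by degree. -/
noncomputable def NN (d : ℕ) : ℕ := Nat.card {φ : IrrCharacter S2 // φ.1 1 = (d : ℂ)}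

theorem NN_eq (d : ℕ) : NN (F := F) d = (Finset.univ.filter (fun φ : IrrCharacter S2 => degS φ = d)).card := by
  classical
  unfold NN
  rw [Nat.card_eq_fintype_card, Fintype.card_subtype]
  congr 1
  ext φ
  simp only [Finset.mem_filter, Finset.mem_univ, true_and, degS_eq_iff]

theorem sum_partition (D : Finset ℕ) (hD : ∀ φ : IrrCharacter S2, degS φ ∈ D) :
    ∑ d ∈ D, d ^ 2 * NN (F := F) d = Nat.card S2 := by
  classical
  rw [← sum_degS_sq, ← Finset.sum_fiberwise_of_maps_to (fun φ _ => hD φ)]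
  refine Finset.sum_congr rfl fun d _ => ?_
  rw [NN_eq, mul_comm, ← smul_eq_mul, ← Finset.sum_const]
  refine Finset.sum_congr rfl fun φ hφ => ?_
  rw [(Finset.mem_filter.mp hφ).2]

/-! ### The principal series of degree `q + 1` -/

theorem q_pos_cast : ((Fintype.card F : ℕ) : ℂ) ≠ 0 := card_ne

/-- A linear relation between the order of the field and degrees forces a numerical equation. -/
theorem nat_of_cast {a b : ℕ} (h : (a : ℂ) = (b : ℂ)) : a = b := by exact_mod_cast h

theorem eq_ff_of_deg {φ : S2 → ℂ} (hφ : IsIrrCharacter S2 φ)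
    (h : φ 1 = (Fintype.card F : ℂ) + 1) : ∃ μ : MulChar F ℂ, μ ^ 2 ≠ 1 ∧ φ = ff μ := by
  have hq : 1 < Fintype.card F := Fintype.one_lt_card
  rcases classify_S hφ with rfl | rfl | h1 | h1 | h1 | h1
  · exfalso
    have h2 : ((1 : ℕ) : ℂ) = ((Fintype.card F + 1 : ℕ) : ℂ) := by
      push_cast
      exact h
    have := nat_of_cast h2
    omega
  · exfalso
    rw [stS_one] at h
    exact q_add_one_ne_q h.symm
  · exact h1
  · exfalso
    have h2 := isHalfP_deg h1
    rw [h] at h2
    have h3 : ((Fintype.card F + 1 : ℕ) : ℂ) = 0 := by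
      push_cast
      linear_combination h2
    have h4 : Fintype.card F + 1 = 0 := by exact_mod_cast h3
    omega
  · exfalso
    have h2 := isCuspFull_deg h1
    rw [h] at h2
    exact q_sub_one_ne_q_add_one h2.symm
  · exfalso
    have h2 := isCuspHalf_deg h1
    rw [h] at h2
    have h3 : ((Fintype.card F + 3 : ℕ) : ℂ) = 0 := by
      push_cast
      linear_combination h2
    have h4 : Fintype.card F + 3 = 0 := by exact_mod_cast h3
    omega

theorem two_NN_q_add_one :
    2 * NN (F := F) (Fintype.card F + 1) =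
      (Finset.univ.filter (fun μ : MulChar F ℂ => μ ^ 2 ≠ 1)).card := by
  classical
  set Y := Finset.univ.filter (fun μ : MulChar F ℂ => μ ^ 2 ≠ 1) with hY
  have hcast : ((Fintype.card F + 1 : ℕ) : ℂ) = (Fintype.card F : ℂ) + 1 := by push_cast; rfl
  set C' : Finset (S2 → ℂ) := Y.image ff with hC'
  have h1 : NN (F := F) (Fintype.card F + 1) = C'.card := by
    unfold NN
    have hmem : ∀ x : {φ : IrrCharacter S2 // φ.1 1 = ((Fintype.card F + 1 : ℕ) : ℂ)}, x.1.1 ∈ C' := by
      rintro ⟨φ, hφ⟩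
      rw [hcast] at hφ
      obtain ⟨μ, hμ, h2⟩ := eq_ff_of_deg φ.2 hφ
      refine Finset.mem_image.mpr ⟨μ, ?_, h2.symm⟩
      simpa [hY] using hμ
    let e : {φ : IrrCharacter S2 // φ.1 1 = ((Fintype.card F + 1 : ℕ) : ℂ)} ≃ C' :=
      Equiv.ofBijective (fun x => ⟨x.1.1, hmem x⟩) (by
        constructor
        · intro x y h
          have := congrArg Subtype.val h
          exact Subtype.ext (Subtype.ext this)
        · rintro ⟨f, hf⟩
          obtain ⟨μ, hμ, rfl⟩ := Finset.mem_image.mp hf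
          have hμ' : μ ^ 2 ≠ 1 := by simpa [hY] using hμ
          exact ⟨⟨⟨ff μ, (ff_isIrr_iff μ).mpr hμ'⟩, by rw [hcast]; exact ff_one μ⟩, rfl⟩)
    rw [Nat.card_congr e, Nat.card_eq_fintype_card, Fintype.card_coe]
  rw [h1, Finset.card_eq_sum_card_image ff Y, ← hC', mul_comm, ← smul_eq_mul, ← Finset.sum_const]
  refine Finset.sum_congr rfl fun f hf => ?_
  obtain ⟨μ, hμ, rfl⟩ := Finset.mem_image.mp hf
  have hμ' : μ ^ 2 ≠ 1 := by simpa [hY] using hμ
  have hne : μ ≠ μ⁻¹ := by
    intro e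
    apply hμ'
    rw [sq]
    nth_rewrite 2 [e]
    exact mul_inv_cancel μ
  have hfib : Y.filter (fun ν => ff ν = ff μ) = {μ, μ⁻¹} := by
    ext ν
    simp only [Finset.mem_filter, Finset.mem_insert, Finset.mem_singleton, ff_eq_iff]
    constructor
    · rintro ⟨-, h | h⟩
      · exact Or.inl h
      · exact Or.inr h
    · rintro (rfl | rfl)
      · exact ⟨hμ, Or.inl rfl⟩
      · refine ⟨?_, Or.inr rfl⟩
        simp only [hY, Finset.mem_filter, Finset.mem_univ, true_and, inv_pow]
        rwa [Ne, inv_eq_one]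
  rw [hfib, Finset.card_pair hne]

theorem NN_q : NN (F := F) (Fintype.card F) = 1 := by
  unfold NN
  rw [Nat.card_eq_one_iff_unique]
  refine ⟨⟨?_⟩, ⟨⟨⟨stS, stS_isIrr⟩, stS_one⟩⟩⟩
  rintro ⟨⟨φ, hφ⟩, h⟩ ⟨⟨ψ, hψ⟩, h'⟩
  have e1 := eq_stS_of_deg hφ h
  have e2 := eq_stS_of_deg hψ h'
  subst e1
  subst e2
  rfl

theorem NN_congr {d : ℕ} {z : ℂ} (hz : z = d) :
    Nat.card {φ : IrrCharacter S2 // (φ : S2 → ℂ) 1 = z} = NN (F := F) d := by
  subst hz
  rfl

/-! ### Even characteristic -/

section Even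

variable [CharP F 2]

theorem sq_one_even (l : MulChar F ℂ) (h : l ^ 2 = 1) : l = 1 := by
  have h1 : l ^ (Fintype.card F - 1) = 1 := by
    have := MulChar.pow_card_eq_one l
    rwa [Fintype.card_units] at this
  have hodd : Odd (Fintype.card F - 1) := by
    have h2 : Even (Fintype.card F) :=
      Nat.even_iff.mpr (FiniteField.even_card_of_char_two (ringChar.eq F 2))
    have h3 : 1 < Fintype.card F := Fintype.one_lt_card
    obtain ⟨k, hk⟩ := h2
    exact ⟨k - 1, by omega⟩
  obtain ⟨k, hk⟩ := hodd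
  rw [hk, pow_succ, pow_mul, h, one_pow, one_mul] at h1
  exact h1

theorem res_norm_even {χ : G2 → ℂ} (hχ : IsIrrCharacter G2 χ) :
    classInner (χ ∘ ι) (χ ∘ ι) = 1 := by
  classical
  rw [classInner_res_self hχ]
  have h1 : Finset.univ.filter (fun l : MulChar F ℂ => tw l χ = χ) = {1} := by
    ext l
    simp only [Finset.mem_filter, Finset.mem_univ, true_and, Finset.mem_singleton]
    constructor
    · intro h
      exact sq_one_even l (tw_fixed_sq l hχ h)
    · rintro rfl
      exact tw_one χ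
  rw [h1]
  simp

theorem not_isHalfP {φ : S2 → ℂ} : ¬ IsHalfP φ := by
  rintro ⟨μ, h1, h2, -⟩
  exact h2 (sq_one_even μ h1)

theorem not_isCuspHalf {φ : S2 → ℂ} (hφ : IsIrrCharacter S2 φ) : ¬ IsCuspHalf φ := by
  rintro ⟨χ, hχ, -, φ', h1, h2, h3, -⟩
  have h4 := res_norm_even hχ
  rw [h3, classInner_add_left, classInner_add_right, classInner_add_right,
    classInner_irr_self hφ, classInner_irr_self h1, classInner_irr_ne hφ h1 (fun e => h2 e.symm),
    classInner_irr_ne h1 hφ h2] at h4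
  norm_num at h4

theorem classify_even {φ : S2 → ℂ} (hφ : IsIrrCharacter S2 φ) :
    φ = one' ∨ φ = stS ∨ (∃ μ : MulChar F ℂ, μ ^ 2 ≠ 1 ∧ φ = ff μ) ∨ IsCuspFull φ := by
  rcases classify_S hφ with h | h | h | h | h | h
  · exact Or.inl h
  · exact Or.inr (Or.inl h)
  · exact Or.inr (Or.inr (Or.inl h))
  · exact absurd h not_isHalfP
  · exact Or.inr (Or.inr (Or.inr h))
  · exact absurd h (not_isCuspHalf hφ)

theorem degs_even {φ : S2 → ℂ} (hφ : IsIrrCharacter S2 φ) :
    φ 1 = 1 ∨ φ 1 = (Fintype.card F : ℂ) - 1 ∨ φ 1 = (Fintype.card F : ℂ) ∨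
      φ 1 = (Fintype.card F : ℂ) + 1 := by
  rcases classify_even hφ with rfl | rfl | ⟨μ, -, rfl⟩ | h
  · exact Or.inl rfl
  · exact Or.inr (Or.inr (Or.inl stS_one))
  · exact Or.inr (Or.inr (Or.inr (ff_one μ)))
  · exact Or.inr (Or.inl (isCuspFull_deg h))

theorem card_sq_ne_even : (Finset.univ.filter (fun μ : MulChar F ℂ => μ ^ 2 ≠ 1)).card =
    Fintype.card F - 2 := by
  classical
  have h1 : Finset.univ.filter (fun μ : MulChar F ℂ => μ ^ 2 ≠ 1) = Finset.univ.erase 1 := by
    ext μ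
    simp only [Finset.mem_filter, Finset.mem_univ, true_and, Finset.mem_erase, and_true]
    constructor
    · rintro h rfl
      exact h (one_pow 2)
    · intro h h2
      exact h (sq_one_even μ h2)
  rw [h1, Finset.card_erase_of_mem (Finset.mem_univ _), Finset.card_univ, card_X]
  omega

theorem NN_one_even (hq : 4 ≤ Fintype.card F) : NN (F := F) 1 = 1 := by
  unfold NN
  rw [Nat.card_eq_one_iff_unique]
  refine ⟨⟨?_⟩, ⟨⟨⟨one', one'_isIrr⟩, by simp [one']⟩⟩⟩
  rintro ⟨⟨φ, hφ⟩, h⟩ ⟨⟨ψ, hψ⟩, h'⟩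
  have key : ∀ {φ : S2 → ℂ}, IsIrrCharacter S2 φ → φ 1 = ((1 : ℕ) : ℂ) → φ = one' := by
    intro φ hφ h
    rw [Nat.cast_one] at h
    rcases classify_even hφ with h1 | rfl | ⟨μ, -, rfl⟩ | h1
    · exact h1
    · exfalso
      rw [stS_one] at h
      exact q_ne_one h
    · exfalso
      rw [ff_one] at h
      exact q_add_one_ne_one h
    · exfalso
      rw [isCuspFull_deg h1] at h
      exact q_sub_one_ne_one (by omega) h
  have e1 := key hφ h
  have e2 := key hψ h'
  subst e1
  subst e2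
  rfl

theorem arith_even {q N : ℕ} (hq : 4 ≤ q)
    (h : 1 + q ^ 2 + (q + 1) ^ 2 * ((q - 2) / 2) + (q - 1) ^ 2 * N = (q - 1) * q * (q + 1))
    (heven : Even q) : N = q / 2 := by
  obtain ⟨k, rfl⟩ := heven
  obtain ⟨P, rfl⟩ : ∃ P, k = P + 2 := ⟨k - 2, by omega⟩
  have e1 : (P + 2 + (P + 2) - 2) / 2 = P + 1 := by omega
  have e2 : (P + 2 + (P + 2)) / 2 = P + 2 := by omega
  have e3 : P + 2 + (P + 2) - 1 = 2 * P + 3 := by omega
  rw [e1, e3] at h
  rw [e2]
  have e4 : P + 2 + (P + 2) = 2 * P + 4 := by omega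
  rw [e4] at h
  have hpos : 0 < (2 * P + 3) ^ 2 := by positivity
  apply Nat.eq_of_mul_eq_mul_left hpos
  have h5 : (2 * P + 3) * (2 * P + 4) * (2 * P + 4 + 1) =
      1 + (2 * P + 4) ^ 2 + (2 * P + 4 + 1) ^ 2 * (P + 1) + (2 * P + 3) ^ 2 * (P + 2) := by ring
  rw [h5] at h
  omega

/-- The counts for `q` even. -/
theorem NN_q_sub_one_even (hq : 4 ≤ Fintype.card F) :
    NN (F := F) (Fintype.card F - 1) = Fintype.card F / 2 := by
  classical
  have hD : ∀ φ : IrrCharacter S2, degS φ ∈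
      ({1, Fintype.card F, Fintype.card F + 1, Fintype.card F - 1} : Finset ℕ) := by
    intro φ
    simp only [Finset.mem_insert, Finset.mem_singleton]
    rcases degs_even φ.2 with h | h | h | h
    · left
      exact (degS_eq_iff φ 1).mpr (by simpa using h)
    · right; right; right
      apply (degS_eq_iff φ _).mpr
      rw [h, cardF_sub_one_cast]
    · right; left
      exact (degS_eq_iff φ _).mpr h
    · right; right; left
      apply (degS_eq_iff φ _).mpr
      rw [h]
      push_cast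
      rfl
  have hsum := sum_partition (F := F) _ hD
  rw [Finset.sum_insert (by simp; omega), Finset.sum_insert (by simp; omega),
    Finset.sum_insert (by simp; omega), Finset.sum_singleton, card_S2, NN_q, NN_one_even hq] at hsum
  have h2 := two_NN_q_add_one (F := F)
  rw [card_sq_ne_even] at h2
  have h3 : NN (F := F) (Fintype.card F + 1) = (Fintype.card F - 2) / 2 := by omega
  rw [h3] at hsum
  apply arith_even hq _ (Nat.even_iff.mpr (FiniteField.even_card_of_char_two (ringChar.eq F 2)))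
  rw [← hsum]
  ring

end Even

end Cfsg.Agent.Lib.SL2Count
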