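import Mathlib
import Cfsg.Agent.Lib.SL2Count
import Cfsg.Agent.S2301

/-!
# `SL₂(q)`, `q` odd: the outer automorphism moves exactly four classes, and exactly four
irreducible characters.
-/

set_option autoImplicit false
set_option linter.unusedSectionVars false
set_option linter.unusedSimpArgs false
set_option linter.style.haveILetI false

namespace Cfsg.Agent.Lib.SL2Odd

open Cfsg Cfsg.Agent.Lib.CharBasic Cfsg.Agent.Lib.CharInd Cfsg.Agent.Lib.GL2Char
  Cfsg.Agent.Lib.GL2Irr Cfsg.Agent.Lib.CharDecomp Cfsg.Agent.Lib.Clifford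
  Cfsg.Agent.Lib.SL2Char Cfsg.Agent.Lib.SL2Count Matrix
open scoped ComplexConjugate

variable {F : Type*} [Field F] [DecidableEq F] [Fintype F]

local notation "G2" => Matrix.GeneralLinearGroup (Fin 2) F
local notation "S2" => Matrix.SpecialLinearGroup (Fin 2) F
local notation "ι" => Matrix.SpecialLinearGroup.toGL (n := Fin 2) (R := F)

/-- Conjugation by an element of `GL₂` on `SL₂`. -/
noncomputable def cy (y : G2) : S2 ≃* S2 :=
  eS.trans ((Cfsg.Agent.Lib.CharInduction.conjAut _ range_normal y).trans eS.symm)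

theorem eS_coe (s : S2) : ((eS s : MonoidHom.range ι) : G2) = ι s := rfl

theorem ι_eS_symm (w : MonoidHom.range ι) : ι (eS.symm w) = (w : G2) := by
  rw [← eS_coe, MulEquiv.apply_symm_apply]

theorem ι_cy (y : G2) (g : S2) : ι (cy y g) = y * ι g * y⁻¹ := by
  simp only [cy, MulEquiv.trans_apply]
  rw [ι_eS_symm]
  rfl

theorem ι_inj {a b : S2} (h : ι a = ι b) : a = b := Matrix.SpecialLinearGroup.toGL_injective h

/-- Restrictions of class functions are invariant. -/
theorem res_cy {χ : G2 → ℂ} (hχ : IsClassFunction G2 χ) (y : G2) (g : S2) :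
    χ (ι (cy y g)) = χ (ι g) := by
  rw [ι_cy, hχ]

/-- Being fixed by the outer automorphism. -/
def Fixed (n : Fˣ) (φ : S2 → ℂ) : Prop := ∀ g : S2, φ (cy (dm n) g) = φ g

theorem det_scal (c : Fˣ) : Matrix.GeneralLinearGroup.det (scal c : G2) = c * c := by
  ext
  simp [scal, Matrix.det_fin_two_of]

theorem scal_conj (c : Fˣ) (w : G2) : scal c * w * (scal c)⁻¹ = w := by
  rw [← scal_comm, mul_assoc, mul_inv_cancel, mul_one]

/-- Square classes. -/
theorem decomp_det (hodd : Odd (Fintype.card F)) (n : Fˣ) (hn : ¬ IsSquare (n : F)) (d : Fˣ) :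
    ∃ c : Fˣ, d = c * c ∨ d = n * (c * c) := by
  have hF : ringChar F ≠ 2 := by
    intro h
    have := FiniteField.even_card_iff_char_two.mp h
    rcases hodd with ⟨k, hk⟩
    omega
  by_cases hd : IsSquare (d : F)
  · obtain ⟨c, hc⟩ := hd
    have hc0 : c ≠ 0 := by
      rintro rfl
      simp at hc
    exact ⟨Units.mk0 c hc0, Or.inl (Units.ext (by simpa using hc))⟩
  · have h1 : quadraticChar F ((d : F) * n) = 1 := by
      rw [map_mul, quadraticChar_neg_one_iff_not_isSquare.mpr hd,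
        quadraticChar_neg_one_iff_not_isSquare.mpr hn]
      norm_num
    have h2 := (quadraticChar_one_iff_isSquare (mul_ne_zero d.ne_zero n.ne_zero)).mp h1
    obtain ⟨e, he⟩ := h2
    have he0 : e ≠ 0 := by
      rintro rfl
      simp at he
    refine ⟨Units.mk0 e he0 * n⁻¹, Or.inr (Units.ext ?_)⟩
    simp only [Units.val_mul, Units.val_mk0, Units.val_inv_eq_inv_val]
    have hn0 := n.ne_zero
    field_simp
    linear_combination he

/-- A class function fixed by the outer automorphism is fixed by all of `GL₂`. -/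
theorem conj_fixed (hodd : Odd (Fintype.card F)) (n : Fˣ) (hn : ¬ IsSquare (n : F)) {φ : S2 → ℂ}
    (hcl : IsClassFunction S2 φ) (hfix : Fixed n φ) (y : G2) (g h : S2)
    (hgh : ι h = y * ι g * y⁻¹) : φ h = φ g := by
  obtain ⟨c, hc | hc⟩ := decomp_det hodd n hn (Matrix.GeneralLinearGroup.det y)
  · obtain ⟨s, hs⟩ := exists_ι_of_det (g := y * (scal c)⁻¹) (by simp [det_scal, hc])
    have hy : y = ι s * scal c := by rw [hs]; group
    have h1 : h = s * g * s⁻¹ := by
      apply ι_inj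
      rw [hgh, map_mul, map_mul, map_inv, hy]
      calc _ = ι s * (scal c * ι g * (scal c)⁻¹) * (ι s)⁻¹ := by group
        _ = _ := by rw [scal_conj]
    rw [h1, hcl]
  · obtain ⟨s, hs⟩ := exists_ι_of_det (g := y * (scal c * dm n)⁻¹) (by
      simp only [map_mul, map_inv, det_scal, det_dm, hc]
      rw [mul_inv_eq_one, mul_comm])
    have hy : y = ι s * (scal c * dm n) := by rw [hs]; group
    have h1 : h = s * cy (dm n) g * s⁻¹ := by
      apply ι_inj
      rw [hgh, map_mul, map_mul, map_inv, ι_cy, hy]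
      calc _ = ι s * (scal c * (dm n * ι g * (dm n)⁻¹) * (scal c)⁻¹) * (ι s)⁻¹ := by group
        _ = _ := by rw [scal_conj]
    rw [h1, hcl, hfix]

/-- A restriction is fixed. -/
theorem fixed_of_res {χ : G2 → ℂ} (hχ : IsClassFunction G2 χ) (n : Fˣ) : Fixed n (χ ∘ ι) :=
  fun g => res_cy hχ _ g

theorem fixed_one' (n : Fˣ) : Fixed n (one' (F := F)) := fun _ => rfl

theorem fixed_stS (n : Fˣ) : Fixed n (stS (F := F)) := by
  rw [← st_res 1]
  exact fixed_of_res (isClassFunction_of_isCharacter (st_isChar 1)) n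

theorem fixed_ff (n : Fˣ) (μ : MulChar F ℂ) : Fixed n (ff μ) := by
  have h := chi_res μ 1
  simp only [inv_one, mul_one] at h
  rw [← h]
  exact fixed_of_res (chi_isClass μ 1) n

/-- If a constituent is fixed, its conjugates are itself. -/
theorem not_fixed_of_pair (hodd : Odd (Fintype.card F)) (n : Fˣ) (hn : ¬ IsSquare (n : F))
    {φ φ' : S2 → ℂ} (hφ : IsCharacter S2 φ) (hne : φ' ≠ φ) (y : G2)
    (hy : ∀ g h : S2, ι h = y * ι g * y⁻¹ → φ' h = φ g) : ¬ Fixed n φ := by
  intro hfix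
  apply hne
  funext h
  have h1 : ι h = y * ι ((cy y).symm h) * y⁻¹ := by
    rw [← ι_cy, MulEquiv.apply_symm_apply]
  rw [hy _ _ h1]
  exact (conj_fixed hodd n hn (isClassFunction_of_isCharacter hφ) hfix y _ _ h1).symm

theorem isHalfP_not_fixed (hodd : Odd (Fintype.card F)) (n : Fˣ) (hn : ¬ IsSquare (n : F))
    {φ : S2 → ℂ} (hφ : IsIrrCharacter S2 φ) (h : IsHalfP φ) : ¬ Fixed n φ := by
  obtain ⟨-, -, -, φ', -, h2, -, y, hy⟩ := h
  exact not_fixed_of_pair hodd n hn (IsIrrCharacter.isCharacter hφ) h2 y hy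

theorem isCuspHalf_not_fixed (hodd : Odd (Fintype.card F)) (n : Fˣ) (hn : ¬ IsSquare (n : F))
    {φ : S2 → ℂ} (hφ : IsIrrCharacter S2 φ) (h : IsCuspHalf φ) : ¬ Fixed n φ := by
  obtain ⟨-, -, -, φ', -, h2, -, y, hy⟩ := h
  exact not_fixed_of_pair hodd n hn (IsIrrCharacter.isCharacter hφ) h2 y hy

/-- The moved irreducible characters. -/
theorem not_fixed_iff (hodd : Odd (Fintype.card F)) (n : Fˣ) (hn : ¬ IsSquare (n : F))
    {φ : S2 → ℂ} (hφ : IsIrrCharacter S2 φ) : ¬ Fixed n φ ↔ IsHalfP φ ∨ IsCuspHalf φ := by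
  constructor
  · intro h
    rcases classify_S hφ with rfl | rfl | ⟨μ, -, rfl⟩ | h1 | h1 | h1
    · exact absurd (fixed_one' n) h
    · exact absurd (fixed_stS n) h
    · exact absurd (fixed_ff n μ) h
    · exact Or.inl h1
    · exfalso
      obtain ⟨χ, hχ, -, rfl⟩ := h1
      exact h (fixed_of_res (isClassFunction_of_isCharacter (IsIrrCharacter.isCharacter hχ)) n)
    · exact Or.inr h1
  · rintro (h | h)
    · exact isHalfP_not_fixed hodd n hn hφ h
    · exact isCuspHalf_not_fixed hodd n hn hφ h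

/-! ### The action on classes -/

local notation "uS" => Cfsg.Agent.S2301.uu (F := F)
local notation "trS" => Cfsg.Agent.S2301.tr (F := F)

/-- The central element `-1`. -/
def zz : S2 := mkS (-1) 0 0 (-1) (by ring)

theorem ι_zz : ι (zz : S2) = scal (-1 : Fˣ) := by
  apply Units.ext
  ext i j
  fin_cases i <;> fin_cases j <;> rfl

theorem zz_comm (g : S2) : zz * g = g * zz := by
  apply ι_inj
  rw [map_mul, map_mul, ι_zz, scal_comm]

theorem zz_mul_zz : (zz : S2) * zz = 1 := by
  apply Subtype.ext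
  show (!![-1, 0; 0, -1] * !![-1, 0; 0, -1] : Matrix (Fin 2) (Fin 2) F) = 1
  simp [Matrix.mul_fin_two, Matrix.one_fin_two]

theorem cy_zz (y : G2) : cy y (zz : S2) = zz := by
  apply ι_inj
  rw [ι_cy, ι_zz, scal_comm, mul_assoc, mul_inv_cancel, mul_one]

theorem uS_ι_00 (b : F) : ((ι (uS b) : G2) : Matrix (Fin 2) (Fin 2) F) 0 0 = 1 := rfl
theorem uS_ι_01 (b : F) : ((ι (uS b) : G2) : Matrix (Fin 2) (Fin 2) F) 0 1 = b := rfl
theorem uS_ι_10 (b : F) : ((ι (uS b) : G2) : Matrix (Fin 2) (Fin 2) F) 1 0 = 0 := rfl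
theorem uS_ι_11 (b : F) : ((ι (uS b) : G2) : Matrix (Fin 2) (Fin 2) F) 1 1 = 1 := rfl
theorem dm_00 (n : Fˣ) : ((dm n : G2) : Matrix (Fin 2) (Fin 2) F) 0 0 = n := rfl
theorem dm_01 (n : Fˣ) : ((dm n : G2) : Matrix (Fin 2) (Fin 2) F) 0 1 = 0 := rfl
theorem dm_10 (n : Fˣ) : ((dm n : G2) : Matrix (Fin 2) (Fin 2) F) 1 0 = 0 := rfl
theorem dm_11 (n : Fˣ) : ((dm n : G2) : Matrix (Fin 2) (Fin 2) F) 1 1 = 1 := rfl

theorem cy_uS (n : Fˣ) (b : F) : cy (dm n) (uS b) = uS (n * b) := by
  apply ι_inj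
  rw [ι_cy, mul_inv_eq_iff_eq_mul]
  apply ext2
  · rw [(mul_entries _ _).1, (mul_entries _ _).1]
    simp only [uS_ι_00, uS_ι_01, uS_ι_10, uS_ι_11, dm_00, dm_01, dm_10, dm_11]
    ring
  · rw [(mul_entries _ _).2.1, (mul_entries _ _).2.1]
    simp only [uS_ι_00, uS_ι_01, uS_ι_10, uS_ι_11, dm_00, dm_01, dm_10, dm_11]
    ring
  · rw [(mul_entries _ _).2.2.1, (mul_entries _ _).2.2.1]
    simp only [uS_ι_00, uS_ι_01, uS_ι_10, uS_ι_11, dm_00, dm_01, dm_10, dm_11]
    ring
  · rw [(mul_entries _ _).2.2.2, (mul_entries _ _).2.2.2]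
    simp only [uS_ι_00, uS_ι_01, uS_ι_10, uS_ι_11, dm_00, dm_01, dm_10, dm_11]
    ring

theorem tr_isConj {a b : S2} (h : IsConj a b) : trS a = trS b := by
  obtain ⟨y, hy⟩ := isConj_iff.mp h
  have h1 := isConj_trace (g := ι a) (h := ι b) (isConj_iff.mpr ⟨ι y, by rw [← map_inv, ← map_mul, ← map_mul, hy]⟩)
  have h2 : ∀ x : S2, ((ι x : G2) : Matrix (Fin 2) (Fin 2) F).trace = trS x := by
    intro x
    rw [Matrix.trace_fin_two]
    rfl
  rw [← h2, ← h2, h1]

theorem isConj_cy (y : G2) {a b : S2} (h : IsConj a b) : IsConj (cy y a) (cy y b) := by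
  obtain ⟨w, hw⟩ := isConj_iff.mp h
  exact isConj_iff.mpr ⟨cy y w, by rw [← map_inv, ← map_mul, ← map_mul, hw]⟩

theorem isConj_zz {a b : S2} (h : IsConj a b) : IsConj (zz * a) (zz * b) := by
  obtain ⟨w, hw⟩ := isConj_iff.mp h
  refine isConj_iff.mpr ⟨w, ?_⟩
  rw [← hw]
  calc w * (zz * a) * w⁻¹ = (w * zz) * a * w⁻¹ := by group
    _ = (zz * w) * a * w⁻¹ := by rw [zz_comm w]
    _ = _ := by group

theorem zz_mul_zz_mul (a : S2) : zz * (zz * a) = a := by
  rw [← mul_assoc, zz_mul_zz, one_mul]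

theorem isConj_zz_iff {a b : S2} : IsConj (zz * a) (zz * b) ↔ IsConj a b := by
  constructor
  · intro h
    have := isConj_zz h
    rwa [zz_mul_zz_mul, zz_mul_zz_mul] at this
  · exact isConj_zz

theorem tr_uS (b : F) : trS (uS b) = 2 := by
  simp [Cfsg.Agent.S2301.tr, Cfsg.Agent.S2301.uu, Cfsg.Agent.S2301.mkSL]
  norm_num

theorem tr_zz_mul (a : S2) : trS (zz * a) = - trS a := by
  have h : ((zz * a : S2) : Matrix (Fin 2) (Fin 2) F) = (zz : S2).1 * a.1 := rfl
  unfold Cfsg.Agent.S2301.tr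
  rw [h]
  simp [Matrix.mul_apply, Fin.sum_univ_two, zz, mkS]
  ring

theorem two_ne (hodd : Odd (Fintype.card F)) : (2 : F) ≠ 0 := by
  apply Ring.two_ne_zero
  intro h
  have := FiniteField.even_card_iff_char_two.mp h
  rcases hodd with ⟨k, hk⟩
  omega

/-- Elements with trace different from `±2` are fixed. -/
theorem fix_of_tr (hodd : Odd (Fintype.card F)) (n : Fˣ) (g : S2) (ht : (trS g) ^ 2 ≠ 4) :
    IsConj g (cy (dm n) g) := by
  have h2 := two_ne hodd
  have hodd' : Fintype.card F % 2 = 1 := Nat.odd_iff.mp hodd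
  set t := trS g with ht'
  set D : F := 1 - t ^ 2 / 4 with hD
  have h4 : (4 : F) ≠ 0 := by
    have : (4 : F) = 2 * 2 := by norm_num
    rw [this]
    exact mul_ne_zero h2 h2
  have hD0 : D ≠ 0 := by
    intro h0
    apply ht
    rw [hD] at h0
    field_simp at h0
    linear_combination -h0
  obtain ⟨a, b, hab⟩ := FiniteField.exists_root_sum_quadratic (R := F)
    (f := Polynomial.X ^ 2) (g := Polynomial.C D * Polynomial.X ^ 2 + Polynomial.C 0 * Polynomial.X +
      Polynomial.C (-(n : F))) (Polynomial.degree_X_pow 2) (Polynomial.degree_quadratic hD0) hodd'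
  simp only [Polynomial.eval_pow, Polynomial.eval_X, Polynomial.eval_add, Polynomial.eval_mul,
    Polynomial.eval_C, zero_mul, add_zero] at hab
  set A : F := a - t * b / 2 with hA
  have hdet1 := sl_det g
  have hsum : t = (g : Matrix (Fin 2) (Fin 2) F) 0 0 + (g : Matrix (Fin 2) (Fin 2) F) 1 1 := rfl
  have hAB : (A + b * (g : Matrix (Fin 2) (Fin 2) F) 0 0) * (A + b * (g : Matrix (Fin 2) (Fin 2) F) 1 1) -
      (b * (g : Matrix (Fin 2) (Fin 2) F) 0 1) * (b * (g : Matrix (Fin 2) (Fin 2) F) 1 0) = n := by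
    have : (A + b * (g : Matrix (Fin 2) (Fin 2) F) 0 0) * (A + b * (g : Matrix (Fin 2) (Fin 2) F) 1 1) -
      (b * (g : Matrix (Fin 2) (Fin 2) F) 0 1) * (b * (g : Matrix (Fin 2) (Fin 2) F) 1 0) =
      A ^ 2 + A * b * t + b ^ 2 * ((g : Matrix (Fin 2) (Fin 2) F) 0 0 * (g : Matrix (Fin 2) (Fin 2) F) 1 1 -
        (g : Matrix (Fin 2) (Fin 2) F) 0 1 * (g : Matrix (Fin 2) (Fin 2) F) 1 0) := by
      rw [hsum]; ring
    rw [this, hdet1, hA, hD] at *
    field_simp at hab ⊢
    linear_combination hab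
  have hne : (A + b * (g : Matrix (Fin 2) (Fin 2) F) 0 0) * (A + b * (g : Matrix (Fin 2) (Fin 2) F) 1 1) -
      (b * (g : Matrix (Fin 2) (Fin 2) F) 0 1) * (b * (g : Matrix (Fin 2) (Fin 2) F) 1 0) ≠ 0 := by
    rw [hAB]; exact n.ne_zero
  set z : G2 := mk2 _ _ _ _ hne with hz
  have hzdet : Matrix.GeneralLinearGroup.det z = n := by
    ext
    simp only [Matrix.GeneralLinearGroup.val_det_apply, hz, coe_mk2, Matrix.det_fin_two_of]
    exact hAB
  have hcomm : z * ι g = ι g * z := by
    have e00 : ((ι g : G2) : Matrix (Fin 2) (Fin 2) F) 0 0 = (g : Matrix (Fin 2) (Fin 2) F) 0 0 := rfl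
    have e01 : ((ι g : G2) : Matrix (Fin 2) (Fin 2) F) 0 1 = (g : Matrix (Fin 2) (Fin 2) F) 0 1 := rfl
    have e10 : ((ι g : G2) : Matrix (Fin 2) (Fin 2) F) 1 0 = (g : Matrix (Fin 2) (Fin 2) F) 1 0 := rfl
    have e11 : ((ι g : G2) : Matrix (Fin 2) (Fin 2) F) 1 1 = (g : Matrix (Fin 2) (Fin 2) F) 1 1 := rfl
    apply ext2
    · rw [(mul_entries _ _).1, (mul_entries _ _).1]
      simp only [e00, e01, e10, e11, hz, mk2_apply00, mk2_apply01, mk2_apply10, mk2_apply11]
      ring
    · rw [(mul_entries _ _).2.1, (mul_entries _ _).2.1]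
      simp only [e00, e01, e10, e11, hz, mk2_apply00, mk2_apply01, mk2_apply10, mk2_apply11]
      ring
    · rw [(mul_entries _ _).2.2.1, (mul_entries _ _).2.2.1]
      simp only [e00, e01, e10, e11, hz, mk2_apply00, mk2_apply01, mk2_apply10, mk2_apply11]
      ring
    · rw [(mul_entries _ _).2.2.2, (mul_entries _ _).2.2.2]
      simp only [e00, e01, e10, e11, hz, mk2_apply00, mk2_apply01, mk2_apply10, mk2_apply11]
      ring
  obtain ⟨s, hs⟩ := exists_ι_of_det (g := dm n * z⁻¹) (by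
    simp only [map_mul, map_inv, det_dm, hzdet]
    exact mul_inv_cancel n)
  refine isConj_iff.mpr ⟨s, ?_⟩
  apply ι_inj
  rw [map_mul, map_mul, map_inv, ι_cy, hs]
  have h5 : z⁻¹ * ι g * z = ι g := by
    rw [mul_assoc, ← hcomm, ← mul_assoc, inv_mul_cancel, one_mul]
  calc _ = dm n * (z⁻¹ * ι g * z) * (dm n)⁻¹ := by group
    _ = _ := by rw [h5]

/-! ### The classes moved -/

/-- The four moved classes. -/
noncomputable def TT (n : Fˣ) : Finset (ConjClasses S2) := by
  classical
  exact {ConjClasses.mk (uS 1), ConjClasses.mk (uS n), ConjClasses.mk (zz * uS 1),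
    ConjClasses.mk (zz * uS n)}

theorem mem_TT (n : Fˣ) (C : ConjClasses S2) : C ∈ TT n ↔ C = ConjClasses.mk (uS 1) ∨
    C = ConjClasses.mk (uS n) ∨ C = ConjClasses.mk (zz * uS 1) ∨ C = ConjClasses.mk (zz * uS n) := by
  classical
  simp [TT]

theorem uS_not_conj {n : Fˣ} (hn : ¬ IsSquare (n : F)) : ¬ IsConj (uS 1) (uS n) := by
  intro h
  have := (Cfsg.Agent.S2301.isConj_uu_iff one_ne_zero n.ne_zero).mp h
  rw [one_mul] at this
  exact hn this

theorem tr_ne (hodd : Odd (Fintype.card F)) : (2 : F) ≠ -2 := by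
  intro h
  have h2 := two_ne hodd
  have : (2 : F) * 2 = 0 := by linear_combination h * 1 + 0 * h
  exact (mul_ne_zero h2 h2) this

theorem uS_ne_zz (hodd : Odd (Fintype.card F)) (b b' : F) : ¬ IsConj (uS b) (zz * uS b') := by
  intro h
  have := tr_isConj h
  rw [tr_zz_mul, tr_uS, tr_uS] at this
  exact tr_ne hodd this

theorem card_TT (hodd : Odd (Fintype.card F)) (n : Fˣ) (hn : ¬ IsSquare (n : F)) :
    (TT n).card = 4 := by
  classical
  have h12 : ConjClasses.mk (uS 1) ≠ ConjClasses.mk (uS n) := fun e =>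
    uS_not_conj hn (ConjClasses.mk_eq_mk_iff_isConj.mp e)
  have h13 : ConjClasses.mk (uS 1) ≠ ConjClasses.mk (zz * uS 1) := fun e =>
    uS_ne_zz hodd _ _ (ConjClasses.mk_eq_mk_iff_isConj.mp e)
  have h14 : ConjClasses.mk (uS 1) ≠ ConjClasses.mk (zz * uS n) := fun e =>
    uS_ne_zz hodd _ _ (ConjClasses.mk_eq_mk_iff_isConj.mp e)
  have h23 : ConjClasses.mk (uS n) ≠ ConjClasses.mk (zz * uS 1) := fun e =>
    uS_ne_zz hodd _ _ (ConjClasses.mk_eq_mk_iff_isConj.mp e)
  have h24 : ConjClasses.mk (uS n) ≠ ConjClasses.mk (zz * uS n) := fun e =>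
    uS_ne_zz hodd _ _ (ConjClasses.mk_eq_mk_iff_isConj.mp e)
  have h34 : ConjClasses.mk (zz * uS 1) ≠ ConjClasses.mk (zz * uS n) := fun e =>
    uS_not_conj hn (isConj_zz_iff.mp (ConjClasses.mk_eq_mk_iff_isConj.mp e))
  unfold TT
  rw [Finset.card_insert_of_notMem (by simp [h12, h13, h14]),
    Finset.card_insert_of_notMem (by simp [h23, h24]),
    Finset.card_insert_of_notMem (by simp [h34]), Finset.card_singleton]

theorem uS_conj_of_square {s b : F} (hs : s ≠ 0) (hb : b ≠ 0) (h : IsSquare (s * b)) :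
    IsConj (uS s) (uS b) := (Cfsg.Agent.S2301.isConj_uu_iff hs hb).mpr h

/-- Every element of trace `2` is the identity or is conjugate to `u₁` or `u_n`. -/
theorem tr_two_cases (hodd : Odd (Fintype.card F)) (n : Fˣ) (hn : ¬ IsSquare (n : F)) (g : S2)
    (hg : g ≠ 1) (ht : trS g = 2) : IsConj g (uS 1) ∨ IsConj g (uS n) := by
  have h1 := Cfsg.Agent.S2301.conj_tt g hg ht
  have h0 := Cfsg.Agent.S2301.tt_ne_zero g hg ht
  set s := Cfsg.Agent.S2301.tt g with hs
  by_cases hq : IsSquare s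
  · left
    refine h1.symm.trans (uS_conj_of_square h0 one_ne_zero ?_)
    simpa using hq
  · right
    refine h1.symm.trans (uS_conj_of_square h0 n.ne_zero ?_)
    have hF : ringChar F ≠ 2 := by
      intro h
      have := FiniteField.even_card_iff_char_two.mp h
      rcases hodd with ⟨k, hk⟩
      omega
    have h2 : quadraticChar F (s * n) = 1 := by
      rw [map_mul, quadraticChar_neg_one_iff_not_isSquare.mpr hq,
        quadraticChar_neg_one_iff_not_isSquare.mpr hn]
      norm_num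
    exact (quadraticChar_one_iff_isSquare (mul_ne_zero h0 n.ne_zero)).mp h2

theorem moved_iff (hodd : Odd (Fintype.card F)) (n : Fˣ) (hn : ¬ IsSquare (n : F)) (g : S2) :
    ConjClasses.mk (cy (dm n) g) ≠ ConjClasses.mk g ↔ ConjClasses.mk g ∈ TT n := by
  rw [mem_TT]
  have hmul : uS ((n : F) * n) = uS ((n : F) * n) := rfl
  have hnn : IsConj (uS ((n : F) * n)) (uS 1) :=
    uS_conj_of_square (mul_ne_zero n.ne_zero n.ne_zero) one_ne_zero ⟨(n : F), by ring⟩
  have h12 : ConjClasses.mk (uS 1) ≠ ConjClasses.mk (uS n) := fun e =>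
    uS_not_conj hn (ConjClasses.mk_eq_mk_iff_isConj.mp e)
  constructor
  · intro h
    by_contra hcon
    push Not at hcon
    obtain ⟨h1, h2, h3, h4⟩ := hcon
    apply h
    rw [ConjClasses.mk_eq_mk_iff_isConj]
    by_cases ht : (trS g) ^ 2 = 4
    · have h5 : (trS g - 2) * (trS g + 2) = 0 := by linear_combination ht
      rcases mul_eq_zero.mp h5 with h6 | h6
      · have ht2 : trS g = 2 := sub_eq_zero.mp h6
        by_cases hg : g = 1
        · subst hg
          simp
        · exfalso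
          rcases tr_two_cases hodd n hn g hg ht2 with h7 | h7
          · exact h1 (ConjClasses.mk_eq_mk_iff_isConj.mpr h7)
          · exact h2 (ConjClasses.mk_eq_mk_iff_isConj.mpr h7)
      · have ht2 : trS g = -2 := by linear_combination h6
        have ht3 : trS (zz * g) = 2 := by rw [tr_zz_mul, ht2]; ring
        by_cases hg : zz * g = 1
        · have hg' : g = zz := by
            have := congrArg (fun x => zz * x) hg
            simp only [zz_mul_zz_mul, mul_one] at this
            exact this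
          subst hg'
          rw [cy_zz]
        · exfalso
          rcases tr_two_cases hodd n hn _ hg ht3 with h7 | h7
          · have h8 := isConj_zz h7
            rw [zz_mul_zz_mul] at h8
            exact h3 (ConjClasses.mk_eq_mk_iff_isConj.mpr h8)
          · have h8 := isConj_zz h7
            rw [zz_mul_zz_mul] at h8
            exact h4 (ConjClasses.mk_eq_mk_iff_isConj.mpr h8)
    · exact (fix_of_tr hodd n g ht).symm
  · rintro (h | h | h | h) e
    · have h1 := ConjClasses.mk_eq_mk_iff_isConj.mp h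
      have h2 := isConj_cy (dm n) h1
      rw [cy_uS, mul_one] at h2
      rw [ConjClasses.mk_eq_mk_iff_isConj] at e
      exact uS_not_conj hn (h1.symm.trans (e.symm.trans h2))
    · have h1 := ConjClasses.mk_eq_mk_iff_isConj.mp h
      have h2 := isConj_cy (dm n) h1
      rw [cy_uS] at h2
      rw [ConjClasses.mk_eq_mk_iff_isConj] at e
      exact uS_not_conj hn (hnn.symm.trans (h2.symm.trans (e.trans h1)))
    · have h1 := ConjClasses.mk_eq_mk_iff_isConj.mp h
      have h2 := isConj_cy (dm n) h1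
      rw [map_mul, cy_zz, cy_uS, mul_one] at h2
      rw [ConjClasses.mk_eq_mk_iff_isConj] at e
      exact uS_not_conj hn (isConj_zz_iff.mp (h1.symm.trans (e.symm.trans h2)))
    · have h1 := ConjClasses.mk_eq_mk_iff_isConj.mp h
      have h2 := isConj_cy (dm n) h1
      rw [map_mul, cy_zz, cy_uS] at h2
      rw [ConjClasses.mk_eq_mk_iff_isConj] at e
      exact uS_not_conj hn (hnn.symm.trans (isConj_zz_iff.mp (h2.symm.trans (e.trans h1))))

/-! ### Brauer's permutation lemma -/

/-- The action on irreducible characters. -/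
noncomputable def sigma (n : Fˣ) (φ : IrrCharacter S2) : IrrCharacter S2 :=
  ⟨φ.1 ∘ cy (dm n), isIrrCharacter_comp_of_surjective (cy (dm n)).toMonoidHom
    (cy (dm n)).surjective φ.2⟩

theorem card_moved (hodd : Odd (Fintype.card F)) (n : Fˣ) (hn : ¬ IsSquare (n : F)) :
    Nat.card {φ : IrrCharacter S2 // ¬ Fixed n φ.1} = 4 := by
  classical
  haveI : Fintype (ConjClasses S2) := Fintype.ofFinite _
  let π : ConjClasses S2 → ConjClasses S2 := ConjClasses.map (cy (dm n)).toMonoidHom
  have hπ : ∀ g, π (ConjClasses.mk g) = ConjClasses.mk (cy (dm n) g) := fun g => rfl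
  have hB := Cfsg.Agent.Lib.CharTable.card_fixed_irr_eq_card_fixed_class (sigma n) π (by
    intro φ g
    simp only [sigma, hπ, Function.comp_apply]
    exact Cfsg.Agent.Lib.CharTable.char_eq_of_isConj (IsIrrCharacter.isCharacter φ.2)
      (Cfsg.Agent.Lib.CharTable.isConj_out_mk _).symm)
  have hfix : ∀ φ : IrrCharacter S2, sigma n φ = φ ↔ Fixed n φ.1 := by
    intro φ
    constructor
    · intro h g
      have := congrFun (congrArg Subtype.val h) g
      exact this
    · intro h
      exact Subtype.ext (funext h)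
  have hclass : ∀ C : ConjClasses S2, π C ≠ C ↔ C ∈ TT n := by
    intro C
    obtain ⟨g, rfl⟩ := ConjClasses.mk_surjective C
    rw [hπ]
    exact moved_iff hodd n hn g
  have hT : Nat.card {C : ConjClasses S2 // π C ≠ C} = 4 := by
    rw [Nat.card_eq_fintype_card, Fintype.card_of_subtype (TT n) (fun C => (hclass C).symm)]
    exact card_TT hodd n hn
  have hI := card_irr_eq_card_conjClasses (G := S2)
  rw [Nat.card_eq_fintype_card, Nat.card_eq_fintype_card] at hI
  rw [Nat.card_eq_fintype_card, Nat.card_eq_fintype_card] at hB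
  rw [Nat.card_eq_fintype_card] at hT ⊢
  have h1 : Fintype.card {φ : IrrCharacter S2 // ¬ Fixed n φ.1} =
      Fintype.card (IrrCharacter S2) - Fintype.card {φ : IrrCharacter S2 // sigma n φ = φ} := by
    rw [← Fintype.card_subtype_compl]
    exact Fintype.card_congr (Equiv.subtypeEquivRight (fun φ => by rw [hfix]))
  have h2 : Fintype.card {C : ConjClasses S2 // π C ≠ C} =
      Fintype.card (ConjClasses S2) - Fintype.card {C : ConjClasses S2 // π C = C} := by
    rw [← Fintype.card_subtype_compl]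
  rw [h1, hI, hB, ← h2, hT]

/-! ### The degree table -/

theorem deg_table (φ : IrrCharacter S2) :
    (φ.1 = one' ∧ degS φ = 1) ∨ (φ.1 = stS ∧ degS φ = Fintype.card F) ∨
    ((∃ μ : MulChar F ℂ, μ ^ 2 ≠ 1 ∧ φ.1 = ff μ) ∧ degS φ = Fintype.card F + 1) ∨
    (IsHalfP φ.1 ∧ 2 * degS φ = Fintype.card F + 1) ∨
    (IsCuspFull φ.1 ∧ degS φ + 1 = Fintype.card F) ∨
    (IsCuspHalf φ.1 ∧ 2 * degS φ + 1 = Fintype.card F) := by
  have hd := degS_spec φ
  rcases classify_S φ.2 with h | h | ⟨μ, h0, h⟩ | h | h | h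
  · left
    refine ⟨h, ?_⟩
    rw [h] at hd
    have : ((1 : ℕ) : ℂ) = (degS φ : ℂ) := by
      rw [← hd]; simp [one']
    exact_mod_cast this.symm
  · right; left
    refine ⟨h, ?_⟩
    rw [h, stS_one] at hd
    exact_mod_cast hd.symm
  · right; right; left
    refine ⟨⟨μ, h0, h⟩, ?_⟩
    rw [h, ff_one] at hd
    exact_mod_cast hd.symm
  · right; right; right; left
    refine ⟨h, ?_⟩
    have h1 := isHalfP_deg h
    rw [hd] at h1
    exact_mod_cast h1
  · right; right; right; right; left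
    refine ⟨h, ?_⟩
    have h1 := isCuspFull_deg h
    rw [hd] at h1
    have h2 : ((degS φ + 1 : ℕ) : ℂ) = (Fintype.card F : ℂ) := by
      push_cast
      rw [h1]
      ring
    exact_mod_cast h2
  · right; right; right; right; right
    refine ⟨h, ?_⟩
    have h1 := isCuspHalf_deg h
    rw [hd] at h1
    have h2 : ((2 * degS φ + 1 : ℕ) : ℂ) = (Fintype.card F : ℂ) := by
      push_cast
      rw [h1]
      ring
    exact_mod_cast h2

/-! ### Quadratic characters -/

theorem exists_quadratic (hodd : Odd (Fintype.card F)) :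
    ∃ μ : MulChar F ℂ, μ ^ 2 = 1 ∧ μ ≠ 1 := by
  have h1 : 2 ∣ Nat.card (MulChar F ℂ) := by
    rw [Nat.card_eq_fintype_card, card_X]
    obtain ⟨k, hk⟩ := hodd
    exact ⟨k, by omega⟩
  obtain ⟨x, hx⟩ := exists_prime_orderOf_dvd_card' 2 h1
  refine ⟨x, ?_, ?_⟩
  · rw [← hx]
    exact pow_orderOf_eq_one x
  · rintro rfl
    rw [orderOf_one] at hx
    omega

theorem quad_unique {μ ν : MulChar F ℂ} (h1 : μ ^ 2 = 1) (h2 : μ ≠ 1) (h3 : ν ^ 2 = 1) (h4 : ν ≠ 1) :
    μ = ν := by
  classical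
  by_contra hne
  have h5 : ({1, μ, ν} : Finset (MulChar F ℂ)) ⊆ Finset.univ.filter (fun l => l ^ 2 = 1) := by
    intro l hl
    simp only [Finset.mem_insert, Finset.mem_singleton] at hl
    simp only [Finset.mem_filter, Finset.mem_univ, true_and]
    rcases hl with rfl | rfl | rfl
    · exact one_pow 2
    · exact h1
    · exact h3
  have h6 := Finset.card_le_card h5
  have h7 : ({1, μ, ν} : Finset (MulChar F ℂ)).card = 3 := by
    rw [Finset.card_eq_three]
    exact ⟨1, μ, ν, h2.symm, h4.symm, hne, rfl⟩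
  have h8 := card_sq_one_le (F := F)
  omega

theorem card_sq_ne_odd (hodd : Odd (Fintype.card F)) :
    (Finset.univ.filter (fun μ : MulChar F ℂ => μ ^ 2 ≠ 1)).card = Fintype.card F - 3 := by
  classical
  obtain ⟨μ₀, h1, h2⟩ := exists_quadratic hodd
  have h3 : Finset.univ.filter (fun μ : MulChar F ℂ => μ ^ 2 = 1) = {1, μ₀} := by
    ext l
    simp only [Finset.mem_filter, Finset.mem_univ, true_and, Finset.mem_insert,
      Finset.mem_singleton]
    constructor
    · intro h
      by_cases hl : l = 1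
      · exact Or.inl hl
      · exact Or.inr (quad_unique h hl h1 h2)
    · rintro (rfl | rfl)
      · exact one_pow 2
      · exact h1
  have h4 := Finset.card_filter_add_card_filter_not (s := (Finset.univ : Finset (MulChar F ℂ)))
    (fun μ : MulChar F ℂ => μ ^ 2 = 1)
  rw [h3, Finset.card_pair h2.symm, Finset.card_univ, card_X] at h4
  have h5 : Finset.univ.filter (fun μ : MulChar F ℂ => μ ^ 2 ≠ 1) =
      Finset.univ.filter (fun μ : MulChar F ℂ => ¬ μ ^ 2 = 1) := rfl
  rw [h5]
  omega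

/-! ### The counts -/

theorem NN_one_odd (hq : 5 ≤ Fintype.card F) : NN (F := F) 1 = 1 := by
  unfold NN
  rw [Nat.card_eq_one_iff_unique]
  refine ⟨⟨?_⟩, ⟨⟨⟨one', one'_isIrr⟩, by simp [one']⟩⟩⟩
  have key : ∀ φ : IrrCharacter S2, φ.1 1 = ((1 : ℕ) : ℂ) → φ.1 = one' := by
    intro φ h
    have hd := (degS_eq_iff φ 1).mpr h
    rcases deg_table φ with h1 | h1 | h1 | h1 | h1 | h1
    · exact h1.1
    all_goals exfalso; have := h1.2; omega
  rintro ⟨φ, h⟩ ⟨ψ, h'⟩
  apply Subtype.ext
  apply Subtype.ext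
  rw [key φ h, key ψ h']

theorem half_classification (hq : 5 ≤ Fintype.card F) (φ : IrrCharacter S2) :
    (2 * degS φ = Fintype.card F + 1 → IsHalfP φ.1) ∧
      (2 * degS φ + 1 = Fintype.card F → IsCuspHalf φ.1) := by
  constructor
  · intro hd
    rcases deg_table φ with h1 | h1 | h1 | h1 | h1 | h1
    · exfalso; have := h1.2; omega
    · exfalso; have := h1.2; omega
    · exfalso; have := h1.2; omega
    · exact h1.1
    · exfalso; have := h1.2; omega
    · exfalso; have := h1.2; omega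
  · intro hd
    rcases deg_table φ with h1 | h1 | h1 | h1 | h1 | h1
    · exfalso; have := h1.2; omega
    · exfalso; have := h1.2; omega
    · exfalso; have := h1.2; omega
    · exfalso; have := h1.2; omega
    · exfalso; have := h1.2; omega
    · exact h1.1

theorem isHalfP_degS (φ : IrrCharacter S2) (h : IsHalfP φ.1) :
    2 * degS φ = Fintype.card F + 1 := by
  have h1 := isHalfP_deg h
  rw [degS_spec φ] at h1
  exact_mod_cast h1

theorem isCuspHalf_degS (φ : IrrCharacter S2) (h : IsCuspHalf φ.1) :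
    2 * degS φ + 1 = Fintype.card F := by
  have h1 := isCuspHalf_deg h
  rw [degS_spec φ] at h1
  have h2 : ((2 * degS φ + 1 : ℕ) : ℂ) = (Fintype.card F : ℂ) := by
    push_cast
    rw [h1]
    ring
  exact_mod_cast h2

theorem NN_half_plus (hodd : Odd (Fintype.card F)) (hq : 5 ≤ Fintype.card F) :
    NN (F := F) ((Fintype.card F + 1) / 2) = 2 := by
  classical
  obtain ⟨μ₀, hμ1, hμ2⟩ := exists_quadratic hodd
  obtain ⟨χ₁, χ₂, h1, h2, h3, h4, x, hx⟩ := half_principal μ₀ hμ1 hμ2
  have hd := conj_deg hx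
  have h5 : 2 * χ₁ 1 = (Fintype.card F : ℂ) + 1 := by
    have := congrFun h4 1
    rw [ff_one, Pi.add_apply, hd] at this
    rw [this]
    ring
  have h6 := half_deg h1 h5
  have h6' : χ₂ 1 = (((Fintype.card F + 1) / 2 : ℕ) : ℂ) := by rw [hd, h6]
  unfold NN
  rw [Nat.card_eq_two_iff]
  refine ⟨⟨⟨χ₁, h1⟩, h6⟩, ⟨⟨χ₂, h2⟩, h6'⟩, ?_, ?_⟩
  · intro e
    exact h3 (congrArg (fun y : {φ : IrrCharacter S2 // φ.1 1 = (((Fintype.card F + 1) / 2 : ℕ) : ℂ)} =>
      y.1.1) e)
  · ext ⟨φ, hφ⟩
    simp only [Set.mem_insert_iff, Set.mem_singleton_iff, Set.mem_univ, iff_true]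
    have hdeg : 2 * degS φ = Fintype.card F + 1 := by
      have h7 := (degS_eq_iff φ _).mpr hφ
      obtain ⟨k, hk⟩ := hodd
      omega
    obtain ⟨μ, h8, h9, φ', h10, h11, h12, -⟩ := (half_classification hq φ).1 hdeg
    have h13 : μ = μ₀ := quad_unique h8 h9 hμ1 hμ2
    subst h13
    rw [h4] at h12
    by_cases e1 : φ.1 = χ₁
    · left
      exact Subtype.ext (Subtype.ext e1)
    · right
      apply Subtype.ext
      apply Subtype.ext
      by_contra e2
      have h14 := congrArg (fun f => classInner f φ.1) h12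
      simp only [classInner_add_left] at h14
      rw [classInner_irr_ne h1 φ.2 (fun e => e1 e.symm),
        classInner_irr_ne h2 φ.2 (fun e => e2 e.symm), classInner_irr_self φ.2,
        classInner_irr_ne h10 φ.2 h11] at h14
      norm_num at h14

theorem NN_half_add (hodd : Odd (Fintype.card F)) (hq : 5 ≤ Fintype.card F) :
    NN (F := F) ((Fintype.card F + 1) / 2) + NN (F := F) ((Fintype.card F - 1) / 2) = 4 := by
  classical
  have hF : ringChar F ≠ 2 := by
    intro h
    have := FiniteField.even_card_iff_char_two.mp h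
    rcases hodd with ⟨k, hk⟩
    omega
  obtain ⟨n₀, hn₀⟩ := FiniteField.exists_nonsquare hF
  have hn0 : n₀ ≠ 0 := by
    rintro rfl
    exact hn₀ ⟨0, by simp⟩
  set n : Fˣ := Units.mk0 n₀ hn0 with hn
  have hns : ¬ IsSquare (n : F) := hn₀
  have h1 := card_moved hodd n hns
  rw [Nat.card_eq_fintype_card, Fintype.card_subtype] at h1
  obtain ⟨k, hk⟩ := hodd
  have h2 : Finset.univ.filter (fun φ : IrrCharacter S2 => ¬ Fixed n φ.1) =
      Finset.univ.filter (fun φ : IrrCharacter S2 => degS φ = (Fintype.card F + 1) / 2) ∪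
      Finset.univ.filter (fun φ : IrrCharacter S2 => degS φ = (Fintype.card F - 1) / 2) := by
    ext φ
    simp only [Finset.mem_filter, Finset.mem_univ, true_and, Finset.mem_union]
    rw [not_fixed_iff ⟨k, hk⟩ n hns φ.2]
    have h3 := half_classification hq φ
    constructor
    · rintro (h | h)
      · left
        have := isHalfP_degS φ h
        omega
      · right
        have := isCuspHalf_degS φ h
        omega
    · rintro (h | h)
      · left
        apply h3.1
        omega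
      · right
        apply h3.2
        omega
  rw [h2, Finset.card_union_of_disjoint] at h1
  · rw [NN_eq, NN_eq]
    exact h1
  · rw [Finset.disjoint_filter]
    intro φ _ h h'
    omega

theorem NN_half_minus (hodd : Odd (Fintype.card F)) (hq : 5 ≤ Fintype.card F) :
    NN (F := F) ((Fintype.card F - 1) / 2) = 2 := by
  have h1 := NN_half_add hodd hq
  have h2 := NN_half_plus hodd hq
  omega

theorem NN_q_add_one_odd (hodd : Odd (Fintype.card F)) :
    NN (F := F) (Fintype.card F + 1) = (Fintype.card F - 3) / 2 := by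
  have h1 := two_NN_q_add_one (F := F)
  rw [card_sq_ne_odd hodd] at h1
  omega

theorem NN_q_sub_one_odd (hodd : Odd (Fintype.card F)) (hq : 5 ≤ Fintype.card F) :
    NN (F := F) (Fintype.card F - 1) = (Fintype.card F - 1) / 2 := by
  classical
  obtain ⟨k, hk⟩ := hodd
  obtain ⟨P, rfl⟩ : ∃ P, k = P + 2 := ⟨k - 2, by omega⟩
  have hD : ∀ φ : IrrCharacter S2, degS φ ∈
      ({1, Fintype.card F, Fintype.card F + 1, Fintype.card F - 1, (Fintype.card F + 1) / 2,
        (Fintype.card F - 1) / 2} : Finset ℕ) := by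
    intro φ
    simp only [Finset.mem_insert, Finset.mem_singleton]
    rcases deg_table φ with h1 | h1 | h1 | h1 | h1 | h1
    all_goals have := h1.2
    all_goals omega
  have hsum := sum_partition (F := F) _ hD
  have e1 : (Fintype.card F + 1) / 2 = P + 3 := by omega
  have e2 : (Fintype.card F - 1) / 2 = P + 2 := by omega
  have e3 : Fintype.card F - 1 = 2 * P + 4 := by omega
  have e4 : (Fintype.card F - 3) / 2 = P + 1 := by omega
  have h1 := NN_half_plus ⟨P + 2, hk⟩ hq
  have h2 := NN_half_minus ⟨P + 2, hk⟩ hq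
  have h3 := NN_q_add_one_odd ⟨P + 2, hk⟩
  rw [Finset.sum_insert (by simp; omega), Finset.sum_insert (by simp; omega),
    Finset.sum_insert (by simp; omega), Finset.sum_insert (by simp; omega),
    Finset.sum_insert (by simp; omega), Finset.sum_singleton, card_S2, NN_q, NN_one_odd hq,
    h1, h2, h3] at hsum
  rw [e1, e2, e3, e4, hk] at hsum
  rw [e2, e3]
  have hpos : 0 < (2 * P + 4) ^ 2 := by positivity
  apply Nat.eq_of_mul_eq_mul_left hpos
  have h5 : (2 * P + 4) * (2 * (P + 2) + 1) * (2 * (P + 2) + 1 + 1) =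
      1 + (2 * P + 5) ^ 2 + (2 * P + 6) ^ 2 * (P + 1) + (2 * P + 4) ^ 2 * (P + 2) +
        2 * (P + 3) ^ 2 + 2 * (P + 2) ^ 2 := by ring
  rw [h5] at hsum
  linarith [hsum]

theorem degs_odd {φ : S2 → ℂ} (hφ : IsIrrCharacter S2 φ) (hodd : Odd (Fintype.card F)) :
    φ 1 = 1 ∨ φ 1 = (Fintype.card F : ℂ) ∨ φ 1 = (Fintype.card F : ℂ) + 1 ∨
      φ 1 = (Fintype.card F : ℂ) - 1 ∨ φ 1 = (((Fintype.card F + 1) / 2 : ℕ) : ℂ) ∨
      φ 1 = (((Fintype.card F - 1) / 2 : ℕ) : ℂ) := by
  have hd := degS_spec ⟨φ, hφ⟩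
  simp only at hd
  rw [hd]
  have hq : 1 < Fintype.card F := Fintype.one_lt_card
  rcases deg_table ⟨φ, hφ⟩ with h1 | h1 | h1 | h1 | h1 | h1 <;> have h2 := h1.2
  · left; rw [h2]; simp
  · right; left; rw [h2]
  · right; right; left; rw [h2]; push_cast; rfl
  · right; right; right; right; left
    congr 1
    omega
  · right; right; right; left
    rw [← cardF_sub_one_cast]
    congr 1
    omega
  · right; right; right; right; right
    congr 1
    omega

end Cfsg.Agent.Lib.SL2Odd
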