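import Mathlib
import Cfsg.Prelude.Def_DegreeGraph
import Cfsg.Agent.Lib.SL2Odd
import Cfsg.Agent.Lib.CharKernel

/-!
# The irreducible character degrees of `PSL₂(q)`

The irreducible characters of `PSL₂(F)` are the irreducible characters of `SL₂(F)` with `-1` in the
kernel. `charDegrees` of isomorphic groups agree. The Steinberg character and, for `q` large, a
principal series and a cuspidal character descend to `PSL₂(F)`.
-/

set_option autoImplicit false
set_option linter.unusedSectionVars false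
set_option linter.unusedSimpArgs false
set_option linter.style.haveILetI false

namespace Cfsg.Agent.Lib.PSL2Deg

open Cfsg Cfsg.Agent.Lib.CharBasic Cfsg.Agent.Lib.CharInd Cfsg.Agent.Lib.GL2Char
  Cfsg.Agent.Lib.GL2Irr Cfsg.Agent.Lib.SL2Char Cfsg.Agent.Lib.SL2Count Cfsg.Agent.Lib.SL2Odd
  Cfsg.Agent.Lib.CharKernel Matrix

theorem charDegrees_subset_of_equiv {A B : Type*} [Group A] [Group B] (f : A ≃* B) :
    charDegrees B ⊆ charDegrees A := by
  intro d hd
  obtain ⟨χ, rfl⟩ := hd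
  refine ⟨⟨χ.1 ∘ f.toMonoidHom, isIrrCharacter_comp_of_surjective _ f.surjective χ.2⟩, ?_⟩
  simp [charDegree]

/-- Isomorphic groups have the same irreducible character degrees. -/
theorem charDegrees_congr {S T : Type*} [Group S] [Group T] (e : S ≃* T) :
    charDegrees S = charDegrees T :=
  Set.Subset.antisymm (charDegrees_subset_of_equiv e.symm) (charDegrees_subset_of_equiv e)

theorem degreePrimes_congr {S T : Type*} [Group S] [Group T] (e : S ≃* T) :
    degreePrimes S = degreePrimes T := by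
  unfold degreePrimes
  rw [charDegrees_congr e]

theorem degreeGraph_adj_congr {S T : Type*} [Group S] [Group T] (e : S ≃* T) (r s : ℕ) :
    (degreeGraph S).Adj r s ↔ (degreeGraph T).Adj r s := by
  show _ ∧ _ ∧ _ ∧ (∃ d ∈ charDegrees S, _) ↔ _ ∧ _ ∧ _ ∧ (∃ d ∈ charDegrees T, _)
  rw [charDegrees_congr e]

variable {F : Type*} [Field F] [DecidableEq F] [Fintype F]

local notation "G2" => Matrix.GeneralLinearGroup (Fin 2) F
local notation "S2" => Matrix.SpecialLinearGroup (Fin 2) F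
local notation "ι" => Matrix.SpecialLinearGroup.toGL (n := Fin 2) (R := F)
local notation "P2" => Matrix.ProjectiveSpecialLinearGroup (Fin 2) F

theorem charDegree_eq_degS (φ : IrrCharacter S2) : charDegree φ.1 = degS φ := by
  have h1 := one_eq_charDegree (IsIrrCharacter.isCharacter φ.2)
  rw [degS_spec] at h1
  exact_mod_cast h1.symm

theorem mem_center_cases {g : S2} (hg : g ∈ Subgroup.center S2) : g = 1 ∨ g = zz := by
  obtain ⟨r, hr, hrA⟩ := Matrix.SpecialLinearGroup.mem_center_iff.mp hg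
  simp only [Fintype.card_fin] at hr
  have h2 : (r - 1) * (r + 1) = 0 := by linear_combination hr
  rcases mul_eq_zero.mp h2 with h | h
  · left
    apply Subtype.ext
    rw [← hrA, sub_eq_zero.mp h]
    simp
  · right
    apply Subtype.ext
    rw [← hrA, eq_neg_of_add_eq_zero_left h]
    ext i j
    fin_cases i <;> fin_cases j <;> simp [zz, mkS]

theorem zz_mem_center : (zz : S2) ∈ Subgroup.center S2 := by
  rw [Subgroup.mem_center_iff]
  intro g
  exact (zz_comm g).symm

theorem forall_center_iff (φ : S2 → ℂ) :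
    (∀ x ∈ Subgroup.center S2, φ x = φ 1) ↔ φ zz = φ 1 := by
  constructor
  · intro h
    exact h _ zz_mem_center
  · intro h x hx
    rcases mem_center_cases hx with rfl | rfl
    · rfl
    · exact h

/-- The projection `SL₂ → PSL₂`. -/
def pi : S2 →* P2 := QuotientGroup.mk' _

theorem pi_surjective : Function.Surjective (pi (F := F)) := QuotientGroup.mk'_surjective _

theorem zz_mem_ker : pi (zz : S2) = 1 := by
  have : (zz : S2) ∈ (pi (F := F)).ker := by
    rw [pi, QuotientGroup.ker_mk']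
    exact zz_mem_center
  exact this

/-- Irreducible characters of `PSL₂` inflate. -/
noncomputable def inflate (χ : IrrCharacter P2) : IrrCharacter S2 :=
  ⟨χ.1 ∘ pi, isIrrCharacter_comp_of_surjective _ pi_surjective χ.2⟩

theorem inflate_apply (χ : IrrCharacter P2) (g : S2) : (inflate χ).1 g = χ.1 (pi g) := rfl

theorem inflate_one (χ : IrrCharacter P2) : (inflate χ).1 1 = χ.1 1 := by
  rw [inflate_apply, map_one]

theorem inflate_zz (χ : IrrCharacter P2) : (inflate χ).1 zz = (inflate χ).1 1 := by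
  rw [inflate_apply, inflate_apply, zz_mem_ker, map_one]

theorem inflate_injective : Function.Injective (inflate (F := F)) := by
  intro χ ψ h
  apply Subtype.ext
  funext x
  obtain ⟨g, rfl⟩ := pi_surjective x
  have := congrArg (fun φ : IrrCharacter S2 => φ.1 g) h
  simpa [inflate_apply] using this

theorem charDegree_inflate (χ : IrrCharacter P2) : charDegree χ.1 = degS (inflate χ) := by
  rw [← charDegree_eq_degS]
  simp only [charDegree]
  rw [inflate_one]

/-- Irreducible characters of `SL₂` with `-1` in the kernel descend. -/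
theorem exists_descend (φ : IrrCharacter S2) (h : φ.1 zz = φ.1 1) :
    ∃ χ : IrrCharacter P2, inflate χ = φ := by
  obtain ⟨χ', h1, h2⟩ := exists_quotient_irr (Subgroup.center S2) φ.2
    ((forall_center_iff φ.1).mpr h)
  refine ⟨⟨χ', h1⟩, ?_⟩
  apply Subtype.ext
  funext g
  exact h2 g

theorem mem_charDegrees_psl (φ : IrrCharacter S2) (h : φ.1 zz = φ.1 1) :
    degS φ ∈ charDegrees P2 := by
  obtain ⟨χ, rfl⟩ := exists_descend φ h
  exact ⟨χ, charDegree_inflate χ⟩

theorem mem_charDegrees_sl (φ : IrrCharacter S2) : degS φ ∈ charDegrees S2 :=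
  ⟨φ, charDegree_eq_degS φ⟩

theorem charDegrees_psl_subset : charDegrees P2 ⊆ charDegrees S2 := by
  rintro d ⟨χ, rfl⟩
  rw [charDegree_inflate]
  exact mem_charDegrees_sl _

/-! ### Central values -/

theorem ι_zz_00 : ((ι (zz : S2) : G2) : Matrix (Fin 2) (Fin 2) F) 0 0 = -1 := rfl
theorem ι_zz_01 : ((ι (zz : S2) : G2) : Matrix (Fin 2) (Fin 2) F) 0 1 = 0 := rfl
theorem ι_zz_10 : ((ι (zz : S2) : G2) : Matrix (Fin 2) (Fin 2) F) 1 0 = 0 := rfl
theorem ι_zz_11 : ((ι (zz : S2) : G2) : Matrix (Fin 2) (Fin 2) F) 1 1 = -1 := rfl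

theorem ff_zz (μ : MulChar F ℂ) : ff μ zz = ((Fintype.card F : ℂ) + 1) * μ (-1) := by
  rw [ff_eq_chi, chi_apply, ι_zz_00, ι_zz_01, ι_zz_10, ι_zz_11, if_pos rfl]
  have hu : IsUnit (-1 : F) := isUnit_one.neg
  have h1 : (1 : MulChar F ℂ) (-1 : F) = 1 := MulChar.one_apply hu
  have h2 : ∀ t : F, -1 * t + 0 - t * (0 * t + -1) = 0 := by intro t; ring
  have h3 : ∀ t : F, (1 : MulChar F ℂ) (-1 - t * 0) = 1 := by
    intro t
    rw [mul_zero, sub_zero]
    exact h1
  have h4 : ∀ t : F, μ (0 * t + -1) = μ (-1) := by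
    intro t
    rw [zero_mul, zero_add]
  simp only [h2, if_true, h3, h4, h1, Finset.sum_const, Finset.card_univ, nsmul_eq_mul]
  ring

theorem stS_zz : stS (zz : S2) = (Fintype.card F : ℂ) := by
  simp only [stS, Pi.sub_apply, one', ff_zz]
  have hu : IsUnit (-1 : F) := isUnit_one.neg
  rw [MulChar.one_apply hu]
  ring

/-- The Steinberg character of `PSL₂`. -/
theorem q_mem_charDegrees : Fintype.card F ∈ charDegrees P2 := by
  have h := mem_charDegrees_psl (F := F) ⟨stS, stS_isIrr⟩ (by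
    simp only [stS_zz, stS_one])
  have h2 : degS (⟨stS, stS_isIrr⟩ : IrrCharacter S2) = Fintype.card F :=
    (degS_eq_iff _ _).mpr stS_one
  rwa [h2] at h

/-- Principal series with trivial central character descend. -/
theorem ff_mem_charDegrees (μ : MulChar F ℂ) (h1 : μ ^ 2 ≠ 1) (h2 : μ (-1) = 1) :
    Fintype.card F + 1 ∈ charDegrees P2 := by
  have h := mem_charDegrees_psl (F := F) ⟨ff μ, (ff_isIrr_iff μ).mpr h1⟩ (by
    simp only [ff_zz, ff_one, h2, mul_one])
  have h3 : degS (⟨ff μ, (ff_isIrr_iff μ).mpr h1⟩ : IrrCharacter S2) = Fintype.card F + 1 :=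
    (degS_eq_iff _ _).mpr (by push_cast; exact ff_one μ)
  rwa [h3] at h

/-! ### The characters with `μ (-1) = 1`, `q` odd -/

/-- The characters trivial at `-1`. -/
noncomputable def KK : Finset (MulChar F ℂ) := by
  classical exact Finset.univ.filter (fun μ : MulChar F ℂ => μ (-1) = 1)

theorem mem_KK (μ : MulChar F ℂ) : μ ∈ KK (F := F) ↔ μ (-1) = 1 := by
  classical
  simp [KK]

theorem sq_neg_one (μ : MulChar F ℂ) : μ (-1) * μ (-1) = 1 := by
  rw [← map_mul]
  simp

theorem neg_one_cases (μ : MulChar F ℂ) : μ (-1) = 1 ∨ μ (-1) = -1 := by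
  have h := sq_neg_one μ
  have h2 : (μ (-1) - 1) * (μ (-1) + 1) = 0 := by linear_combination h
  rcases mul_eq_zero.mp h2 with h | h
  · exact Or.inl (sub_eq_zero.mp h)
  · exact Or.inr (eq_neg_of_add_eq_zero_left h)

theorem neg_one_ne_one (hodd : Odd (Fintype.card F)) : (-1 : F) ≠ 1 := by
  intro h
  have h2 : (2 : F) = 0 := by linear_combination -h
  exact two_ne hodd h2

theorem exists_neg_one (hodd : Odd (Fintype.card F)) : ∃ μ : MulChar F ℂ, μ (-1) = -1 := by
  haveI : NeZero (Monoid.exponent Fˣ) := ⟨Monoid.exponent_ne_zero_of_finite⟩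
  obtain ⟨μ, hμ⟩ := MulChar.exists_apply_ne_one_of_hasEnoughRootsOfUnity F ℂ (neg_one_ne_one hodd)
  rcases neg_one_cases μ with h | h
  · exact absurd h hμ
  · exact ⟨μ, h⟩

theorem two_card_KK (hodd : Odd (Fintype.card F)) : 2 * (KK (F := F)).card + 1 = Fintype.card F := by
  classical
  obtain ⟨μ₁, h1⟩ := exists_neg_one hodd
  have h2 : (KK (F := F))ᶜ.card = (KK (F := F)).card := by
    symm
    apply Finset.card_bij (fun μ _ => μ * μ₁)
    · intro μ hμ
      rw [Finset.mem_compl, mem_KK]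
      rw [mem_KK] at hμ
      rw [MulChar.mul_apply, hμ, h1]
      norm_num
    · intro μ _ ν _ h
      exact mul_right_cancel h
    · intro ν hν
      rw [Finset.mem_compl, mem_KK] at hν
      have h3 : ν (-1) = -1 := (neg_one_cases ν).resolve_left hν
      refine ⟨ν * μ₁⁻¹, ?_, by simp⟩
      rw [mem_KK, MulChar.mul_apply, h3, MulChar.inv_apply', inv_neg_one, h1]
      norm_num
  have h3 := Finset.card_add_card_compl (KK (F := F))
  rw [h2, card_X] at h3
  have : 1 < Fintype.card F := Fintype.one_lt_card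
  omega

theorem card_KK_filter_add (hodd : Odd (Fintype.card F)) (hq : 7 ≤ Fintype.card F) :
    ∃ μ : MulChar F ℂ, μ ^ 2 ≠ 1 ∧ μ (-1) = 1 := by
  classical
  have h1 := two_card_KK hodd
  have h2 := card_sq_ne_odd hodd
  by_contra hcon
  push Not at hcon
  have h3 : KK (F := F) ⊆ Finset.univ.filter (fun μ : MulChar F ℂ => ¬ μ ^ 2 ≠ 1) := by
    intro μ hμ
    rw [mem_KK] at hμ
    simp only [Finset.mem_filter, Finset.mem_univ, true_and]
    intro h
    exact hcon μ h hμ
  have h4 := Finset.card_le_card h3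
  have h5 := Finset.card_filter_add_card_filter_not (s := (Finset.univ : Finset (MulChar F ℂ)))
    (fun μ : MulChar F ℂ => μ ^ 2 ≠ 1)
  rw [h2, Finset.card_univ, card_X] at h5
  omega

/-- `q + 1` is a degree of `PSL₂(q)`, `q ≥ 7` odd. -/
theorem q_add_one_mem (hodd : Odd (Fintype.card F)) (hq : 7 ≤ Fintype.card F) :
    Fintype.card F + 1 ∈ charDegrees P2 := by
  obtain ⟨μ, h1, h2⟩ := card_KK_filter_add hodd hq
  exact ff_mem_charDegrees μ h1 h2

/-- At most `(q - 3) / 4` principal series with trivial central character. -/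
theorem four_card_ff_le (hodd : Odd (Fintype.card F)) :
    2 * (Finset.univ.filter (fun φ : IrrCharacter S2 => φ.1 zz = φ.1 1 ∧
      degS φ = Fintype.card F + 1)).card + 1 ≤ (KK (F := F)).card := by
  classical
  set A := Finset.univ.filter (fun φ : IrrCharacter S2 => φ.1 zz = φ.1 1 ∧
      degS φ = Fintype.card F + 1) with hA
  set Y := (KK (F := F)).filter (fun μ => μ ^ 2 ≠ 1) with hY
  set C' : Finset (S2 → ℂ) := Y.image ff with hC'
  have hcast : ((Fintype.card F + 1 : ℕ) : ℂ) = (Fintype.card F : ℂ) + 1 := by push_cast; rfl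
  have hne0 : (Fintype.card F : ℂ) + 1 ≠ 0 := by
    intro h
    have h2 : ((Fintype.card F + 1 : ℕ) : ℂ) = 0 := by rw [hcast]; exact h
    have h3 : Fintype.card F + 1 = 0 := by exact_mod_cast h2
    omega
  -- `A` injects in `C'`
  have h1 : A.card ≤ C'.card := by
    apply Finset.card_le_card_of_injOn (fun φ => φ.1)
    · intro φ hφ
      have hφ' := (Finset.mem_filter.mp hφ).2
      have hd : φ.1 1 = (Fintype.card F : ℂ) + 1 := by
        rw [← hcast]
        exact (degS_eq_iff φ _).mp hφ'.2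
      obtain ⟨μ, hμ, h2⟩ := eq_ff_of_deg φ.2 hd
      refine Finset.mem_coe.mpr (Finset.mem_image.mpr ⟨μ, ?_, h2.symm⟩)
      refine Finset.mem_filter.mpr ⟨?_, hμ⟩
      rw [mem_KK]
      have h3 := hφ'.1
      rw [h2, ff_zz, ff_one] at h3
      exact mul_left_cancel₀ hne0 (by rw [h3, mul_one])
    · intro φ _ ψ _ h
      exact Subtype.ext h
  -- `Y` maps two to one
  have h2 : 2 * C'.card ≤ Y.card := by
    rw [Finset.card_eq_sum_card_image ff Y, ← hC', mul_comm, ← smul_eq_mul, ← Finset.sum_const]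
    refine Finset.sum_le_sum fun f hf => ?_
    obtain ⟨μ, hμ, rfl⟩ := Finset.mem_image.mp hf
    obtain ⟨hμK, hμ'⟩ := Finset.mem_filter.mp hμ
    have hne : μ ≠ μ⁻¹ := by
      intro e
      apply hμ'
      rw [sq]
      nth_rewrite 2 [e]
      exact mul_inv_cancel μ
    have hsub : ({μ, μ⁻¹} : Finset (MulChar F ℂ)) ⊆ Y.filter (fun ν => ff ν = ff μ) := by
      intro ν hν
      rw [Finset.mem_insert, Finset.mem_singleton] at hν
      rcases hν with rfl | rfl
      · exact Finset.mem_filter.mpr ⟨hμ, rfl⟩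
      · refine Finset.mem_filter.mpr ⟨Finset.mem_filter.mpr ⟨?_, ?_⟩, ff_comm_inv _⟩
        · rw [mem_KK] at hμK ⊢
          rw [MulChar.inv_apply', inv_neg_one]
          exact hμK
        · simp only [inv_pow]
          rwa [Ne, inv_eq_one]
    have := Finset.card_le_card hsub
    rwa [Finset.card_pair hne] at this
  -- `1 ∉ Y`
  have h3 : Y.card + 1 ≤ (KK (F := F)).card := by
    have h4 : Y ⊂ KK (F := F) := by
      refine Finset.ssubset_iff_subset_ne.mpr ⟨Finset.filter_subset _ _, ?_⟩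
      intro e
      have h5 : (1 : MulChar F ℂ) ∈ KK (F := F) := by
        rw [mem_KK]
        exact MulChar.one_apply isUnit_one.neg
      rw [← e] at h5
      exact (Finset.mem_filter.mp h5).2 (one_pow 2)
    exact Finset.card_lt_card h4
  omega

/-- The sum of the squares of the degrees of the irreducible characters of `SL₂` trivial at `-1`. -/
theorem sum_zz (hodd : Odd (Fintype.card F)) :
    2 * ∑ φ : IrrCharacter S2, (if φ.1 zz = φ.1 1 then degS φ ^ 2 else 0) = Nat.card S2 := by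
  classical
  have h := sum_ker_deg_sq (Subgroup.center S2)
  have hc : Nat.card (Subgroup.center S2) = 2 := by
    have h1 : (zz : S2) ≠ 1 := by
      intro e
      have h2 := congrArg (fun g : S2 => (g : Matrix (Fin 2) (Fin 2) F) 0 0) e
      simp only [zz, mkS_00, Matrix.SpecialLinearGroup.coe_one, Matrix.one_apply_eq] at h2
      exact neg_one_ne_one hodd h2
    have h2 : ((Subgroup.center S2 : Subgroup S2) : Set S2) = {1, zz} := by
      ext g
      constructor
      · intro hg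
        rcases mem_center_cases hg with rfl | rfl
        · simp
        · simp
      · rintro (rfl | rfl)
        · exact Subgroup.one_mem _
        · exact zz_mem_center
    show Nat.card ((Subgroup.center S2 : Subgroup S2) : Set S2) = 2
    rw [Nat.card_coe_set_eq, h2, Set.ncard_pair h1.symm]
  rw [hc] at h
  rw [← h]
  congr 1
  refine Finset.sum_congr rfl fun φ _ => ?_
  by_cases h1 : φ.1 zz = φ.1 1
  · rw [if_pos h1, if_pos ((forall_center_iff φ.1).mpr h1), charDegree_eq_degS]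
  · rw [if_neg h1, if_neg (fun h2 => h1 ((forall_center_iff φ.1).mp h2))]

theorem arith_sub (M a b1 b2 b3 b4 : ℕ)
    (hsum : 2 * (1 ^ 2 * b1 + ((2 * (M + 3) + 1) ^ 2 * b2 + ((2 * (M + 3) + 1 + 1) ^ 2 * a +
      ((M + 4) ^ 2 * b3 + (M + 3) ^ 2 * b4)))) =
      2 * (M + 3) * (2 * (M + 3) + 1) * (2 * (M + 3) + 1 + 1))
    (h1 : b1 ≤ 1) (h2 : b2 ≤ 1) (h3 : b3 ≤ 2) (h4 : b4 ≤ 2) (ha : 2 * a ≤ M + 2) : False := by
  have e2 : (2 * (M + 3) + 1) ^ 2 * b2 ≤ (2 * (M + 3) + 1) ^ 2 * 1 := Nat.mul_le_mul_left _ h2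
  have e3 : (M + 4) ^ 2 * b3 ≤ (M + 4) ^ 2 * 2 := Nat.mul_le_mul_left _ h3
  have e4 : (M + 3) ^ 2 * b4 ≤ (M + 3) ^ 2 * 2 := Nat.mul_le_mul_left _ h4
  have e5 : (2 * (M + 3) + 1 + 1) ^ 2 * (2 * a) ≤ (2 * (M + 3) + 1 + 1) ^ 2 * (M + 2) :=
    Nat.mul_le_mul_left _ ha
  nlinarith [e2, e3, e4, e5, hsum, Nat.zero_le M, Nat.zero_le (M ^ 2), Nat.zero_le (M ^ 3)]

/-- `q - 1` is a degree of `PSL₂(q)`, `q ≥ 7` odd. -/
theorem q_sub_one_mem (hodd : Odd (Fintype.card F)) (hq : 7 ≤ Fintype.card F) :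
    Fintype.card F - 1 ∈ charDegrees P2 := by
  classical
  by_contra hcon
  have hno : ∀ φ : IrrCharacter S2, φ.1 zz = φ.1 1 → degS φ ≠ Fintype.card F - 1 := by
    intro φ h1 h2
    exact hcon (h2 ▸ mem_charDegrees_psl φ h1)
  obtain ⟨m, hm⟩ := hodd
  have hodd : Odd (Fintype.card F) := ⟨m, hm⟩
  have h5 : 5 ≤ Fintype.card F := by omega
  set T := Finset.univ.filter (fun φ : IrrCharacter S2 => φ.1 zz = φ.1 1) with hT
  have hsum : 2 * ∑ φ ∈ T, degS φ ^ 2 = Nat.card S2 := by
    rw [← sum_zz hodd, hT, Finset.sum_filter]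
  -- partition by degree
  set D : Finset ℕ := {1, Fintype.card F, Fintype.card F + 1, (Fintype.card F + 1) / 2,
    (Fintype.card F - 1) / 2} with hD
  have hmaps : ∀ φ ∈ T, degS φ ∈ D := by
    intro φ hφ
    have hφ' := (Finset.mem_filter.mp hφ).2
    simp only [hD, Finset.mem_insert, Finset.mem_singleton]
    rcases deg_table φ with h1 | h1 | h1 | h1 | h1 | h1 <;> have h2 := h1.2
    · exact Or.inl h2
    · exact Or.inr (Or.inl h2)
    · exact Or.inr (Or.inr (Or.inl h2))
    · right; right; right; left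
      omega
    · exact absurd (by omega) (hno φ hφ')
    · right; right; right; right
      omega
  have hpart : ∑ φ ∈ T, degS φ ^ 2 =
      ∑ d ∈ D, d ^ 2 * (T.filter (fun φ => degS φ = d)).card := by
    rw [← Finset.sum_fiberwise_of_maps_to hmaps]
    refine Finset.sum_congr rfl fun d _ => ?_
    rw [mul_comm, ← smul_eq_mul, ← Finset.sum_const]
    refine Finset.sum_congr rfl fun φ hφ => ?_
    rw [(Finset.mem_filter.mp hφ).2]
  have hle : ∀ d, (T.filter (fun φ => degS φ = d)).card ≤ NN (F := F) d := by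
    intro d
    rw [NN_eq]
    exact Finset.card_le_card (fun φ hφ => Finset.mem_filter.mpr ⟨Finset.mem_univ _,
      (Finset.mem_filter.mp hφ).2⟩)
  have h1 := hle 1
  have h2 := hle (Fintype.card F)
  have h3 := hle ((Fintype.card F + 1) / 2)
  have h4 := hle ((Fintype.card F - 1) / 2)
  rw [NN_one_odd h5] at h1
  rw [NN_q] at h2
  rw [NN_half_plus hodd h5] at h3
  rw [NN_half_minus hodd h5] at h4
  have h6 : (T.filter (fun φ => degS φ = Fintype.card F + 1)).card =
      (Finset.univ.filter (fun φ : IrrCharacter S2 => φ.1 zz = φ.1 1 ∧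
        degS φ = Fintype.card F + 1)).card := by
    rw [hT, Finset.filter_filter]
  have h7 := four_card_ff_le hodd
  rw [← h6] at h7
  have h8 := two_card_KK hodd
  set a := (T.filter (fun φ => degS φ = Fintype.card F + 1)).card with ha
  obtain ⟨M, hM⟩ : ∃ M, m = M + 3 := ⟨m - 3, by omega⟩
  subst hM
  have e1 : (Fintype.card F + 1) / 2 = M + 4 := by omega
  have e2 : (Fintype.card F - 1) / 2 = M + 3 := by omega
  rw [e1] at h3
  rw [e2] at h4
  rw [hpart, hD, Finset.sum_insert (by simp; omega), Finset.sum_insert (by simp; omega),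
    Finset.sum_insert (by simp; omega), Finset.sum_insert (by simp; omega), Finset.sum_singleton,
    card_S2, e1, e2] at hsum
  rw [← ha] at hsum
  rw [hm] at hsum
  have hK : (KK (F := F)).card = M + 3 := by omega
  have ha2 : 2 * a ≤ M + 2 := by omega
  have e3 : 2 * (M + 3) + 1 - 1 = 2 * (M + 3) := by omega
  rw [e3] at hsum
  rw [hm] at h2
  exact arith_sub M a _ _ _ _ hsum h1 h2 h3 h4 ha2

/-! ### Summary of the degree sets -/

theorem charDegrees_sl_odd {d : ℕ} (hd : d ∈ charDegrees S2) :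
    d = 1 ∨ d = Fintype.card F ∨ d = Fintype.card F + 1 ∨ d = Fintype.card F - 1 ∨
      d = (Fintype.card F + 1) / 2 ∨ d = (Fintype.card F - 1) / 2 := by
  obtain ⟨χ, rfl⟩ := hd
  rw [charDegree_eq_degS]
  rcases deg_table χ with h1 | h1 | h1 | h1 | h1 | h1 <;> have h2 := h1.2 <;> omega

/-- `PSL₂(q)`, `q` even. -/
theorem zz_eq_one [CharP F 2] : (zz : S2) = 1 := by
  apply Subtype.ext
  ext i j
  have h : (-1 : F) = 1 := by
    rw [neg_eq_iff_add_eq_zero]
    have : (2 : F) = 0 := CharTwo.two_eq_zero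
    linear_combination this
  fin_cases i <;> fin_cases j <;> simp [zz, mkS, h]

theorem q_add_one_mem_even [CharP F 2] (hq : 4 ≤ Fintype.card F) :
    Fintype.card F + 1 ∈ charDegrees P2 := by
  classical
  have h1 := card_sq_ne_even (F := F)
  have h2 : (Finset.univ.filter (fun μ : MulChar F ℂ => μ ^ 2 ≠ 1)).Nonempty := by
    rw [← Finset.card_pos, h1]
    omega
  obtain ⟨μ, hμ⟩ := h2
  have hμ' := (Finset.mem_filter.mp hμ).2
  refine ff_mem_charDegrees μ hμ' ?_
  have h : (-1 : F) = 1 := by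
    rw [neg_eq_iff_add_eq_zero]
    have : (2 : F) = 0 := CharTwo.two_eq_zero
    linear_combination this
  rw [h, map_one]

theorem q_sub_one_mem_even [CharP F 2] (hq : 4 ≤ Fintype.card F) :
    Fintype.card F - 1 ∈ charDegrees P2 := by
  classical
  have h1 := NN_q_sub_one_even hq
  rw [NN_eq] at h1
  have h2 : (Finset.univ.filter (fun φ : IrrCharacter S2 => degS φ = Fintype.card F - 1)).Nonempty := by
    rw [← Finset.card_pos, h1]
    omega
  obtain ⟨φ, hφ⟩ := h2
  have hφ' := (Finset.mem_filter.mp hφ).2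
  rw [← hφ']
  exact mem_charDegrees_psl φ (by rw [zz_eq_one])

theorem charDegrees_sl_even {d : ℕ} (hd : d ∈ charDegrees S2) [CharP F 2] :
    d = 1 ∨ d = Fintype.card F ∨ d = Fintype.card F + 1 ∨ d = Fintype.card F - 1 := by
  obtain ⟨χ, rfl⟩ := hd
  rw [charDegree_eq_degS]
  have hq : 1 < Fintype.card F := Fintype.one_lt_card
  have h1 := degs_even χ.2
  rw [degS_spec] at h1
  rcases h1 with h | h | h | h
  · left; exact_mod_cast h
  · right; right; right
    rw [← cardF_sub_one_cast] at h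
    exact_mod_cast h
  · right; left; exact_mod_cast h
  · right; right; left; exact_mod_cast h

/-! ### The graph from the degree set -/

theorem degreePrimes_eq_of {S : Type*} [Group S] {q : ℕ}
    (hD : ∀ d ∈ charDegrees S, d ∣ q * (q ^ 2 - 1)) (h1 : q ∈ charDegrees S)
    (h2 : q + 1 ∈ charDegrees S) (h3 : q - 1 ∈ charDegrees S) :
    degreePrimes S = {r : ℕ | r.Prime ∧ r ∣ q * (q ^ 2 - 1)} := by
  ext r
  constructor
  · rintro ⟨hr, d, hd, hrd⟩
    exact ⟨hr, hrd.trans (hD d hd)⟩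
  · rintro ⟨hr, hrd⟩
    refine ⟨hr, ?_⟩
    rcases (Nat.Prime.dvd_mul hr).mp hrd with h | h
    · exact ⟨q, h1, h⟩
    · have e : q ^ 2 - 1 = (q + 1) * (q - 1) := by
        rw [← Nat.sq_sub_sq q 1]
      rw [e] at h
      rcases (Nat.Prime.dvd_mul hr).mp h with h | h
      · exact ⟨q + 1, h2, h⟩
      · exact ⟨q - 1, h3, h⟩

theorem mul_dvd_of_primes {r s n : ℕ} (hne : r ≠ s) (hr : r.Prime) (hs : s.Prime) (h1 : r ∣ n)
    (h2 : s ∣ n) : r * s ∣ n :=
  Nat.Coprime.mul_dvd_of_dvd_of_dvd ((Nat.coprime_primes hr hs).mpr hne) h1 h2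

theorem eq_of_dvd_prime_pow {t k r : ℕ} (ht : t.Prime) (hr : r.Prime) (h : r ∣ t ^ k) : r = t :=
  (Nat.prime_dvd_prime_iff_eq hr ht).mp (hr.dvd_of_dvd_pow h)

/-- The graph for `q` odd. -/
theorem adj_odd {S : Type*} [Group S] {q t k : ℕ} (ht : t.Prime) (hqt : q = t ^ k) (hodd : Odd q)
    (hD : ∀ d ∈ charDegrees S, d = 1 ∨ d = q ∨ d = q + 1 ∨ d = q - 1 ∨ d = (q + 1) / 2 ∨
      d = (q - 1) / 2)
    (h2 : q + 1 ∈ charDegrees S) (h3 : q - 1 ∈ charDegrees S) (r s : ℕ) :
    (degreeGraph S).Adj r s ↔ (r ≠ s ∧ r.Prime ∧ s.Prime ∧ r ∣ q ^ 2 - 1 ∧ s ∣ q ^ 2 - 1 ∧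
      (r = 2 ∨ s = 2 ∨ (r ∣ q + 1 ∧ s ∣ q + 1) ∨ (r ∣ q - 1 ∧ s ∣ q - 1))) := by
  have e : q ^ 2 - 1 = (q + 1) * (q - 1) := by
    rw [← Nat.sq_sub_sq q 1]
  have hplus : (q + 1) / 2 ∣ q + 1 := Nat.div_dvd_of_dvd (by
    obtain ⟨m, hm⟩ := hodd
    exact ⟨m + 1, by omega⟩)
  have hminus : (q - 1) / 2 ∣ q - 1 := Nat.div_dvd_of_dvd (by
    obtain ⟨m, hm⟩ := hodd
    exact ⟨m, by omega⟩)
  have h2q1 : 2 ∣ q + 1 := by
    obtain ⟨m, hm⟩ := hodd
    exact ⟨m + 1, by omega⟩
  have h2q2 : 2 ∣ q - 1 := by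
    obtain ⟨m, hm⟩ := hodd
    exact ⟨m, by omega⟩
  constructor
  · rintro ⟨hne, hr, hs, d, hd, hrd⟩
    have hrd1 : r ∣ d := (dvd_mul_right r s).trans hrd
    have hrd2 : s ∣ d := (dvd_mul_left s r).trans hrd
    have key : (r ∣ q + 1 ∧ s ∣ q + 1) ∨ (r ∣ q - 1 ∧ s ∣ q - 1) := by
      rcases hD d hd with rfl | rfl | rfl | rfl | rfl | rfl
      · exact absurd (Nat.dvd_one.mp hrd1) hr.one_lt.ne'
      · exfalso
        rw [hqt] at hrd1 hrd2
        exact hne ((eq_of_dvd_prime_pow ht hr hrd1).trans (eq_of_dvd_prime_pow ht hs hrd2).symm)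
      · exact Or.inl ⟨hrd1, hrd2⟩
      · exact Or.inr ⟨hrd1, hrd2⟩
      · exact Or.inl ⟨hrd1.trans hplus, hrd2.trans hplus⟩
      · exact Or.inr ⟨hrd1.trans hminus, hrd2.trans hminus⟩
    refine ⟨hne, hr, hs, ?_, ?_, Or.inr (Or.inr key)⟩
    · rw [e]
      rcases key with h | h
      · exact h.1.trans (dvd_mul_right _ _)
      · exact h.1.trans (dvd_mul_left _ _)
    · rw [e]
      rcases key with h | h
      · exact h.2.trans (dvd_mul_right _ _)
      · exact h.2.trans (dvd_mul_left _ _)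
  · rintro ⟨hne, hr, hs, h1, h1', h⟩
    refine ⟨hne, hr, hs, ?_⟩
    rw [e] at h1 h1'
    have two_case : ∀ {s : ℕ}, s ≠ 2 → s.Prime → s ∣ (q + 1) * (q - 1) →
        (2 * s ∣ q + 1) ∨ (2 * s ∣ q - 1) := by
      intro s hs0 hs h
      rcases (Nat.Prime.dvd_mul hs).mp h with h | h
      · exact Or.inl (mul_dvd_of_primes hs0.symm Nat.prime_two hs h2q1 h)
      · exact Or.inr (mul_dvd_of_primes hs0.symm Nat.prime_two hs h2q2 h)
    rcases h with rfl | rfl | h | h
    · rcases two_case hne.symm hs h1' with h | h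
      · exact ⟨_, h2, h⟩
      · exact ⟨_, h3, h⟩
    · rcases two_case hne hr h1 with h | h
      · exact ⟨_, h2, by rwa [mul_comm] at h⟩
      · exact ⟨_, h3, by rwa [mul_comm] at h⟩
    · exact ⟨_, h2, mul_dvd_of_primes hne hr hs h.1 h.2⟩
    · exact ⟨_, h3, mul_dvd_of_primes hne hr hs h.1 h.2⟩

/-- The graph for `q` even. -/
theorem adj_even {S : Type*} [Group S] {q k : ℕ} (hqt : q = 2 ^ k)
    (hD : ∀ d ∈ charDegrees S, d = 1 ∨ d = q ∨ d = q + 1 ∨ d = q - 1)
    (h2 : q + 1 ∈ charDegrees S) (h3 : q - 1 ∈ charDegrees S) (r s : ℕ) :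
    (degreeGraph S).Adj r s ↔ (r ≠ s ∧ r.Prime ∧ s.Prime ∧
      ((r ∣ q + 1 ∧ s ∣ q + 1) ∨ (r ∣ q - 1 ∧ s ∣ q - 1))) := by
  constructor
  · rintro ⟨hne, hr, hs, d, hd, hrd⟩
    have hrd1 : r ∣ d := (dvd_mul_right r s).trans hrd
    have hrd2 : s ∣ d := (dvd_mul_left s r).trans hrd
    refine ⟨hne, hr, hs, ?_⟩
    rcases hD d hd with rfl | rfl | rfl | rfl
    · exact absurd (Nat.dvd_one.mp hrd1) hr.one_lt.ne'
    · exfalso
      rw [hqt] at hrd1 hrd2
      exact hne ((eq_of_dvd_prime_pow Nat.prime_two hr hrd1).trans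
        (eq_of_dvd_prime_pow Nat.prime_two hs hrd2).symm)
    · exact Or.inl ⟨hrd1, hrd2⟩
    · exact Or.inr ⟨hrd1, hrd2⟩
  · rintro ⟨hne, hr, hs, h⟩
    refine ⟨hne, hr, hs, ?_⟩
    rcases h with h | h
    · exact ⟨_, h2, mul_dvd_of_primes hne hr hs h.1 h.2⟩
    · exact ⟨_, h3, mul_dvd_of_primes hne hr hs h.1 h.2⟩

end Cfsg.Agent.Lib.PSL2Deg
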