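import Mathlib
import Cfsg.Agent.Lib.PSL2Solv
import Cfsg.Agent.Lib.PSL2Lat
import Cfsg.Agent.Lib.PSL2LatOdd
import Cfsg.Agent.Lib.PSL2Pol

/-!
# Solubilizers in `PSL₂`
-/

set_option autoImplicit false
set_option linter.style.haveILetI false
set_option linter.unusedVariables false
set_option linter.unusedSectionVars false

namespace Cfsg.Agent.Lib.PSL2Solub

open Matrix Subgroup
open Cfsg.Agent.Lib.SL2Core Cfsg.Agent.Lib.DicksonMat Cfsg.Agent.Lib.DicksonAbs Cfsg.Agent.Lib.DicksonStruct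
open Cfsg.Agent.Lib.DicksonTT Cfsg.Agent.Lib.DicksonRed Cfsg.Agent.Lib.PSL2Sub
open Cfsg.Agent.Lib.PSL2Max Cfsg.Agent.Lib.PSL2Cnt Cfsg.Agent.Lib.PSL2Coat Cfsg.Agent.Lib.PSL2Nor
open Cfsg.Agent.Lib.PSL2Solv Cfsg.Agent.Lib.PSL2Lat Cfsg.Agent.Lib.PSL2LatOdd Cfsg.Agent.Lib.PSL2Pol

variable {F : Type*} [Field F]

/-- The normalizer of the member of `proj A`. -/
abbrev Nn (A : SL2 F) : Subgroup (PSL2 F) := normalizer ((MM (proj A) : Subgroup (PSL2 F)) : Set (PSL2 F))

/-- Generating a solvable subgroup. -/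
abbrev Sv {G : Type*} [Group G] (x y : G) : Prop := Group.IsSolvable ↥(closure ({x, y} : Set G))

lemma sv_of_mem {G : Type*} [Group G] {H : Subgroup G} [Group.IsSolvable H] {x y : G} (hx : x ∈ H) (hy : y ∈ H) : Sv x y := by
  have hle : closure ({x, y} : Set G) ≤ H := by
    rw [closure_le]
    rintro z (rfl | rfl)
    · exact hx
    · exact hy
  exact Group.isSolvable_of_isSolvable_injective (Subgroup.inclusion_injective hle)

lemma sv_comm {G : Type*} [Group G] {x y : G} (h : Sv x y) : Sv y x := by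
  unfold Sv at *
  rwa [Set.pair_comm]

lemma sv_map {G : Type*} [Group G] (θ : G ≃* G) {x y : G} : Sv (θ x) (θ y) ↔ Sv x y := by
  have h1 : closure ({θ x, θ y} : Set G) = (closure ({x, y} : Set G)).map (θ : G →* G) := by
    rw [MonoidHom.map_closure]
    congr 1
    simp [Set.image_pair]
  have e : ↥(closure ({x, y} : Set G)) ≃* ↥((closure ({x, y} : Set G)).map (θ : G →* G)) := θ.subgroupMap _
  unfold Sv
  rw [h1]
  constructor
  · intro h
    exact isSolvable_of_equiv e
  · intro h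
    exact isSolvable_of_equiv e.symm

lemma card_sv_map {G : Type*} [Group G] (θ : G ≃* G) (x : G) :
    Nat.card {y : G // Sv (θ x) y} = Nat.card {y : G // Sv x y} := by
  refine Nat.card_congr (Equiv.subtypeEquiv θ.toEquiv.symm ?_)
  intro y
  have := sv_map θ (x := x) (y := θ.symm y)
  simpa using this

section fin

variable [Fintype F]

lemma not_solvable_PSL2 (h4 : 4 ≤ Fintype.card F) : ¬ Group.IsSolvable (PSL2 F) := by
  intro hs
  haveI : IsSimpleGroup (PSL2 F) := Matrix.ProjectiveSpecialLinearGroup.rank_two_simple (by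
    rwa [Nat.card_eq_fintype_card])
  have h1 := (IsSimpleGroup.comm_iff_isSolvable (G := PSL2 F)).mpr inferInstance
  exact proj_uu_vv_ne (h1 _ _)

lemma exists_coatom_of_sv (h4 : 4 ≤ Fintype.card F) {x y : PSL2 F} (h : Sv x y) :
    ∃ M : Subgroup (PSL2 F), IsCoatom M ∧ x ∈ M ∧ y ∈ M := by
  classical
  rcases eq_top_or_exists_le_coatom (closure ({x, y} : Set (PSL2 F))) with ht | ⟨M, hM, hle⟩
  · exfalso
    unfold Sv at h
    rw [ht] at h
    exact not_solvable_PSL2 h4 (isSolvable_of_equiv Subgroup.topEquiv.symm)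
  · exact ⟨M, hM, hle (subset_closure (by simp)), hle (subset_closure (by simp))⟩

variable (p : ℕ) [hp : Fact p.Prime] [CharP F p]

include p in
lemma isSolvable_Nn {A : SL2 F} (hA : A ∉ center (SL2 F)) : Group.IsSolvable (Nn A) := by
  by_cases ht : tr A * tr A = 4
  · exact isSolvable_normalizer_parabolic hA ht
  · obtain ⟨e⟩ := dihedral_of_eq_normalizer p hA ht rfl
    haveI := isSolvable_dihedral (Nat.card (MM (proj A)))
    exact isSolvable_of_equiv e

include p in
lemma sv_of_Nn {A : SL2 F} (hA : A ∉ center (SL2 F)) {x y : PSL2 F} (hx : x ∈ Nn A) (hy : y ∈ Nn A) : Sv x y := by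
  haveI := isSolvable_Nn p hA
  exact sv_of_mem hx hy

lemma proj_mem_Nn (A : SL2 F) : proj A ∈ Nn A := Subgroup.le_normalizer (mem_MM_proj.mpr rfl)

/-- Coatoms containing an element of order three in a subgroup of order six. -/
lemma coatom_of_card_six {M : Subgroup (PSL2 F)} (hq : 3 ≤ Fintype.card F) (hM : IsCoatom M) (hc : Nat.card M = 6) (hp3 : p ≠ 3) :
    ∃ A : SL2 F, A ∉ center (SL2 F) ∧ M = Nn A := by
  haveI : Fact (Nat.Prime 3) := ⟨Nat.prime_three⟩
  obtain ⟨x, hx⟩ := exists_prime_orderOf_dvd_card' 3 (G := M) (by rw [hc]; norm_num)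
  obtain ⟨A, hAx⟩ := proj_surjective (x : PSL2 F)
  have hx1 : proj A ≠ 1 := by
    rw [hAx]
    intro h
    have : x = 1 := Subtype.ext h
    rw [this, orderOf_one] at hx
    omega
  have hA := not_center_of_proj_ne_one hx1
  have ht : tr A * tr A ≠ 4 := by
    intro ht
    have hpt := ptype_parabolic p hA ht
    have h1 : proj A ∈ MM (proj A) := mem_MM_proj.mpr rfl
    have h3 := Cfsg.Agent.Lib.DicksonStruct.p_dvd_orderOf_of_pgroup hx1 hpt h1
    rw [hAx] at h3
    have h4 : orderOf (x : PSL2 F) = 3 := by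
      rw [Subgroup.orderOf_coe]
      exact hx
    rw [h4] at h3
    exact hp3 ((Nat.prime_dvd_prime_iff_eq hp.out Nat.prime_three).mp h3)
  have hidx : (Subgroup.zpowers x).index = 2 := by
    have h1 := Subgroup.card_mul_index (Subgroup.zpowers x)
    rw [Nat.card_zpowers, hx, hc] at h1
    omega
  haveI hCn : (Subgroup.zpowers x).Normal := Subgroup.normal_of_index_eq_two hidx
  have hle : M ≤ Nn A := by
    intro y hy
    apply mem_normalizer_of_conj_mem hx1
    have h1 := hCn.conj_mem x (Subgroup.mem_zpowers x) ⟨y, hy⟩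
    obtain ⟨n, hn⟩ := h1
    have h3 : y * proj A * y⁻¹ = ((⟨y, hy⟩ * x * (⟨y, hy⟩ : M)⁻¹ : M) : PSL2 F) := by
      rw [hAx]
      rfl
    rw [h3, ← hn]
    have h5 : (x : PSL2 F) ∈ MM (proj A) := by
      rw [← hAx]
      exact mem_MM_proj.mpr rfl
    simpa using (MM (proj A)).zpow_mem h5 n
  have hMA : M = Nn A :=
    hle.eq_or_lt.resolve_right (fun h => normalizer_ne_top p hq hA ht (hM.2 _ h))
  exact ⟨A, hA, hMA⟩

/-- Coatoms in characteristic two. -/
theorem coatom_even [CharP F 2] (r : ℕ) (hr : r.Prime) (hF : Fintype.card F = 2 ^ r) (M : Subgroup (PSL2 F)) (hM : IsCoatom M) :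
    ∃ A : SL2 F, A ∉ center (SL2 F) ∧ M = Nn A := by
  haveI : Fact (Nat.Prime 2) := ⟨Nat.prime_two⟩
  have h4 : 4 ≤ Fintype.card F := by
    rw [hF]
    calc 4 = 2 ^ 2 := by norm_num
      _ ≤ 2 ^ r := Nat.pow_le_pow_right (by norm_num) hr.two_le
  have heven : Even (Fintype.card F) := by
    rw [hF]
    exact (Nat.even_pow.mpr ⟨even_two, hr.ne_zero⟩)
  rcases coatom_cases 2 (by omega) M hM with h | ⟨A, hA, ht, hMA⟩ | ⟨S, hb, hn⟩ | ⟨-, h, -⟩ | ⟨-, h, -⟩ | ⟨-, h, -⟩
  · obtain ⟨A, hA, -, hMA⟩ := exists_parabolic_of_card 2 hM h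
    exact ⟨A, hA, hMA⟩
  · exact ⟨A, hA, hMA⟩
  · obtain ⟨F₀, _, _, r', hr', hcard, ⟨e⟩⟩ := even_two_trans M hM S hb hn
    have h5 : Fintype.card F₀ ^ r' = 2 ^ r := by rw [← hcard, hF]
    obtain ⟨h6, -⟩ := pow_prime_eq Nat.prime_two hr hr' h5
    have hc : Nat.card M = 6 := by
      rw [Nat.card_congr e.toEquiv]
      have h3 := card_PSL2_form (K := F₀)
      rw [h6] at h3
      have h5 : Nat.gcd 2 (2 - 1) = 1 := by norm_num
      rw [h5, one_mul] at h3
      change Nat.card (PSL2 F₀) = 6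
      rw [h3]
      norm_num
    exact coatom_of_card_six 2 (by omega) hM hc (by norm_num)
  · exact absurd rfl h
  · exact absurd rfl h
  · exact absurd rfl h

/-- Every element of `PSL₂(F₃)` has order at most three. -/
lemma psl_three_elt {K : Type*} [Field K] [Fintype K] (hK : Fintype.card K = 3) (a : PSL2 K) : a ^ 2 = 1 ∨ a ^ 3 = 1 := by
  obtain ⟨A, rfl⟩ := proj_surjective a
  have hd := ee_det A
  have htt := ee_tr A
  have h3 : (tr A) ^ 3 = tr A := by
    have := FiniteField.pow_card (tr A)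
    rwa [hK] at this
  have h3' : tr A * (tr A - 1) * (tr A + 1) = 0 := by linear_combination h3
  have hcase : tr A = 0 ∨ tr A * tr A = 1 := by
    rcases mul_eq_zero.mp h3' with h | h
    · rcases mul_eq_zero.mp h with h | h
      · exact Or.inl h
      · right
        rw [sub_eq_zero.mp h, mul_one]
    · right
      have : tr A = -1 := by linear_combination h
      rw [this]
      ring
  rcases hcase with h0 | h1
  · left
    rw [← map_pow, proj_eq_one_iff, pow_two, mem_center_iff'']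
    rw [htt] at h0
    have e01 := ee_mul A A 0 1
    have e10 := ee_mul A A 1 0
    have e00 := ee_mul A A 0 0
    have e11 := ee_mul A A 1 1
    refine ⟨?_, ?_, ?_⟩
    · rw [e01]
      linear_combination (ee A 0 1) * h0
    · rw [e10]
      linear_combination (ee A 1 0) * h0
    · rw [e00, e11]
      linear_combination (ee A 0 0 - ee A 1 1) * h0
  · right
    rw [← map_pow, proj_eq_one_iff, pow_three, mem_center_iff'']
    rw [htt] at h1
    have e : ∀ i j, ee (A * (A * A)) i j = ee A i 0 * (ee A 0 0 * ee A 0 j + ee A 0 1 * ee A 1 j) + ee A i 1 * (ee A 1 0 * ee A 0 j + ee A 1 1 * ee A 1 j) := by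
      intro i j
      rw [ee_mul, ee_mul, ee_mul]
    refine ⟨?_, ?_, ?_⟩
    · rw [e]
      linear_combination (ee A 0 1) * h1 - (ee A 0 1) * hd
    · rw [e]
      linear_combination (ee A 1 0) * h1 - (ee A 1 0) * hd
    · rw [e, e]
      linear_combination (ee A 0 0 - ee A 1 1) * h1 - (ee A 0 0 - ee A 1 1) * hd

/-- Coatoms in characteristic three. -/
theorem coatom_three [CharP F 3] (r : ℕ) (hr : r.Prime) (hodd : Odd r) (hF : Fintype.card F = 3 ^ r) (M : Subgroup (PSL2 F)) (hM : IsCoatom M) :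
    (∃ A : SL2 F, A ∉ center (SL2 F) ∧ M = Nn A) ∨ ((∀ a ∈ M, a ^ 2 = 1 ∨ a ^ 3 = 1) ∧ Group.IsSolvable M) := by
  haveI : Fact (Nat.Prime 3) := ⟨Nat.prime_three⟩
  have h9 : 27 ≤ Fintype.card F := by
    rw [hF]
    have : 3 ≤ r := by
      have := hr.two_le
      obtain ⟨k, hk⟩ := hodd
      omega
    calc 27 = 3 ^ 3 := by norm_num
      _ ≤ 3 ^ r := Nat.pow_le_pow_right (by norm_num) this
  have hoddq : Odd (Fintype.card F) := by
    rw [hF]
    exact Odd.pow (by decide)
  rcases coatom_cases 3 (by omega) M hM with h | ⟨A, hA, ht, hMA⟩ | ⟨S, hb, hn⟩ | ⟨-, -, h⟩ | ⟨-, -, h⟩ | ⟨⟨e⟩, h2, h5⟩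
  · obtain ⟨A, hA, -, hMA⟩ := exists_parabolic_of_card 3 hM h
    exact Or.inl ⟨A, hA, hMA⟩
  · exact Or.inl ⟨A, hA, hMA⟩
  · rcases odd_two_trans 3 hoddq M hM S hb hn with ⟨F₀, _, _, hcard, -⟩ | ⟨F₀, _, _, r', hr', -, hcard, ⟨e⟩⟩
    · exfalso
      have h5 : Fintype.card F₀ ^ 2 = 3 ^ r := by rw [← hcard, hF]
      obtain ⟨-, h6⟩ := pow_prime_eq Nat.prime_three hr Nat.prime_two h5
      subst h6
      exact absurd hodd (by decide)
    · have h5 : Fintype.card F₀ ^ r' = 3 ^ r := by rw [← hcard, hF]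
      obtain ⟨h6, -⟩ := pow_prime_eq Nat.prime_three hr hr' h5
      right
      constructor
      · intro a ha
        rcases psl_three_elt h6 (e ⟨a, ha⟩) with h7 | h7
        · left
          have h8 : ((⟨a, ha⟩ : M) ^ 2) = 1 := by
            apply e.injective
            rw [map_pow, h7, map_one]
          simpa using congrArg Subtype.val h8
        · right
          have h8 : ((⟨a, ha⟩ : M) ^ 3) = 1 := by
            apply e.injective
            rw [map_pow, h7, map_one]
          simpa using congrArg Subtype.val h8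
      · haveI := isSolvable_PSL2_three h6
        exact isSolvable_of_equiv e
  · exact absurd rfl h
  · exact absurd rfl h
  · exfalso
    obtain ⟨-, h6⟩ := A5_conditions 3 h2 h5 M hM e
    rw [hF] at h6
    rcases h6 with h6 | ⟨h6, -⟩
    · have : r = 1 := Nat.pow_right_injective (a := 3) (le_of_lt (by norm_num)) (show 3 ^ r = 3 ^ 1 by simpa using h6)
      exact hr.ne_one this
    · have : r = 2 := Nat.pow_right_injective (a := 3) (le_of_lt (by norm_num)) h6
      subst this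
      exact absurd hodd (by decide)

/-- Generation of a solvable subgroup in characteristic two. -/
lemma sv_iff_even [CharP F 2] (r : ℕ) (hr : r.Prime) (hF : Fintype.card F = 2 ^ r) {x y : PSL2 F} :
    Sv x y ↔ ∃ B : SL2 F, B ∉ center (SL2 F) ∧ x ∈ Nn B ∧ y ∈ Nn B := by
  haveI : Fact (Nat.Prime 2) := ⟨Nat.prime_two⟩
  constructor
  · intro h
    have h4 : 4 ≤ Fintype.card F := by
      rw [hF]
      calc 4 = 2 ^ 2 := by norm_num
        _ ≤ 2 ^ r := Nat.pow_le_pow_right (by norm_num) hr.two_le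
    obtain ⟨M, hM, hx, hy⟩ := exists_coatom_of_sv h4 h
    obtain ⟨A, hA, rfl⟩ := coatom_even r hr hF M hM
    exact ⟨A, hA, hx, hy⟩
  · rintro ⟨B, hB, hx, hy⟩
    exact sv_of_Nn 2 hB hx hy

/-- Generation of a solvable subgroup in characteristic three. -/
lemma sv_cases_three [CharP F 3] (r : ℕ) (hr : r.Prime) (hodd : Odd r) (hF : Fintype.card F = 3 ^ r) {x y : PSL2 F} (h : Sv x y) :
    (∃ B : SL2 F, B ∉ center (SL2 F) ∧ x ∈ Nn B ∧ y ∈ Nn B) ∨
      ∃ M : Subgroup (PSL2 F), x ∈ M ∧ y ∈ M ∧ ∀ a ∈ M, a ^ 2 = 1 ∨ a ^ 3 = 1 := by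
  have h4 : 4 ≤ Fintype.card F := by
    rw [hF]
    have : 2 ≤ r := hr.two_le
    calc 4 ≤ 3 ^ 2 := by norm_num
      _ ≤ 3 ^ r := Nat.pow_le_pow_right (by norm_num) this
  obtain ⟨M, hM, hx, hy⟩ := exists_coatom_of_sv h4 h
  rcases coatom_three r hr hodd hF M hM with ⟨A, hA, rfl⟩ | ⟨h1, -⟩
  · exact Or.inl ⟨A, hA, hx, hy⟩
  · exact Or.inr ⟨M, hx, hy, h1⟩

end fin

end Cfsg.Agent.Lib.PSL2Solub
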