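import Mathlib
import Cfsg.Agent.Lib.PSL2Solub

/-!
# Solubilizers in `PSL₂`: semisimple elements
-/

set_option autoImplicit false
set_option linter.style.haveILetI false
set_option linter.unusedVariables false
set_option linter.unusedSectionVars false
set_option linter.unusedSimpArgs false

namespace Cfsg.Agent.Lib.PSL2SolubB

open Matrix Subgroup
open Cfsg.Agent.Lib.SL2Core Cfsg.Agent.Lib.DicksonMat Cfsg.Agent.Lib.DicksonAbs Cfsg.Agent.Lib.DicksonStruct
open Cfsg.Agent.Lib.DicksonTT Cfsg.Agent.Lib.DicksonRed Cfsg.Agent.Lib.PSL2Sub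
open Cfsg.Agent.Lib.PSL2Max Cfsg.Agent.Lib.PSL2Cnt Cfsg.Agent.Lib.PSL2Coat Cfsg.Agent.Lib.PSL2Nor
open Cfsg.Agent.Lib.PSL2Solv Cfsg.Agent.Lib.PSL2Solub

section groups

variable {G : Type*} [Group G]

lemma sv_of_commute {x y : G} (h : x * y = y * x) : Sv x y := by
  have h' : ∀ a ∈ ({x, y} : Set G), ∀ b ∈ ({x, y} : Set G), a * b = b * a := by
    rintro a (rfl | rfl) b (rfl | rfl)
    · rfl
    · exact h
    · exact h.symm
    · rfl
  haveI := Subgroup.isMulCommutative_closure h'
  exact Group.isSolvable_of_comm (fun a b => mul_comm' a b)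

lemma sv_of_mul {x y : G} (h : Sv x (x * y)) : Sv x y := by
  have hle : closure ({x, y} : Set G) ≤ closure ({x, x * y} : Set G) := by
    rw [closure_le]
    have h1 : x ∈ closure ({x, x * y} : Set G) := subset_closure (by simp)
    have h2 : x * y ∈ closure ({x, x * y} : Set G) := subset_closure (by simp)
    rintro z (hz | hz)
    · rw [hz]
      exact h1
    · have hz' : z = y := hz
      rw [hz']
      have := mul_mem (inv_mem h1) h2
      simpa using this
  exact Group.isSolvable_of_isSolvable_injective (Subgroup.inclusion_injective hle)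

/-- Counting by fibres. -/
lemma card_fiberwise {α β : Type*} [Finite α] [Finite β] (f : α → β) (Q : β → Prop) (k : ℕ)
    (h : ∀ b, Q b → Nat.card {a // f a = b} = k) :
    Nat.card {a // Q (f a)} = Nat.card {b // Q b} * k := by
  classical
  haveI : Fintype {b // Q b} := Fintype.ofFinite _
  let e : {a // Q (f a)} ≃ Σ b : {b // Q b}, {a // f a = b.1} :=
    { toFun := fun a => ⟨⟨f a.1, a.2⟩, ⟨a.1, rfl⟩⟩
      invFun := fun z => ⟨z.2.1, by rw [z.2.2]; exact z.1.2⟩
      left_inv := fun a => rfl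
      right_inv := by
        rintro ⟨⟨b, hb⟩, ⟨a, ha⟩⟩
        have ha' : f a = b := ha
        subst ha'
        rfl }
  rw [Nat.card_congr e, Nat.card_sigma]
  have : ∀ b : {b // Q b}, Nat.card {a // f a = b.1} = k := fun b => h b.1 b.2
  simp only [this, Finset.sum_const, Finset.card_univ, smul_eq_mul, Nat.card_eq_fintype_card]

lemma card_or {α : Type*} [Finite α] (P Q : α → Prop) :
    Nat.card {a // P a ∨ Q a} = Nat.card {a // P a} + Nat.card {a // ¬ P a ∧ Q a} := by
  classical
  rw [← Nat.card_sum]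
  refine Nat.card_congr
    { toFun := fun a => if h : P a.1 then Sum.inl ⟨a.1, h⟩ else Sum.inr ⟨a.1, h, a.2.resolve_left h⟩
      invFun := fun z => match z with
        | Sum.inl a => ⟨a.1, Or.inl a.2⟩
        | Sum.inr a => ⟨a.1, Or.inr a.2.2⟩
      left_inv := ?_
      right_inv := ?_ }
  · rintro ⟨a, ha⟩
    by_cases h : P a <;> simp [h]
  · rintro (⟨a, ha⟩ | ⟨a, ha, hb⟩)
    · simp [ha]
    · simp [ha]

end groups

variable {F : Type*} [Field F]

lemma ee_mul_self00 (Z : SL2 F) : ee (Z * Z) 0 0 = ee Z 0 0 * ee Z 0 0 + ee Z 0 1 * ee Z 1 0 := ee_mul _ _ _ _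
lemma ee_mul_self01 (Z : SL2 F) : ee (Z * Z) 0 1 = ee Z 0 0 * ee Z 0 1 + ee Z 0 1 * ee Z 1 1 := ee_mul _ _ _ _
lemma ee_mul_self10 (Z : SL2 F) : ee (Z * Z) 1 0 = ee Z 1 0 * ee Z 0 0 + ee Z 1 1 * ee Z 1 0 := ee_mul _ _ _ _
lemma ee_mul_self11 (Z : SL2 F) : ee (Z * Z) 1 1 = ee Z 1 0 * ee Z 0 1 + ee Z 1 1 * ee Z 1 1 := ee_mul _ _ _ _

lemma tr_or_center_of_sq {Z : SL2 F} (h : proj Z * proj Z = 1) : tr Z = 0 ∨ Z ∈ center (SL2 F) := by
  rw [← map_mul, proj_eq_one_iff, mem_center_iff'', ee_mul_self01, ee_mul_self10, ee_mul_self00, ee_mul_self11] at h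
  obtain ⟨h1, h2, h3⟩ := h
  have htt := ee_tr Z
  by_cases ht : tr Z = 0
  · exact Or.inl ht
  · right
    rw [mem_center_iff'']
    refine ⟨?_, ?_, ?_⟩
    · apply (mul_eq_zero.mp (show tr Z * ee Z 0 1 = 0 by rw [htt]; linear_combination h1)).resolve_left ht
    · apply (mul_eq_zero.mp (show tr Z * ee Z 1 0 = 0 by rw [htt]; linear_combination h2)).resolve_left ht
    · apply mul_left_cancel₀ ht
      rw [htt]
      linear_combination h3

lemma tr_or_center_of_cube {Z : SL2 F} (h : proj Z ^ 3 = 1) : tr Z * tr Z = 1 ∨ Z ∈ center (SL2 F) := by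
  rw [← map_pow, proj_eq_one_iff, pow_three, mem_center_iff''] at h
  have e : ∀ i j, ee (Z * (Z * Z)) i j = ee Z i 0 * (ee Z 0 0 * ee Z 0 j + ee Z 0 1 * ee Z 1 j) + ee Z i 1 * (ee Z 1 0 * ee Z 0 j + ee Z 1 1 * ee Z 1 j) := by
    intro i j
    rw [ee_mul, ee_mul, ee_mul]
  rw [e, e, e, e] at h
  obtain ⟨h1, h2, h3⟩ := h
  have htt := ee_tr Z
  have hd := ee_det Z
  by_cases ht : tr Z * tr Z - 1 = 0
  · exact Or.inl (by linear_combination ht)
  · right
    rw [mem_center_iff'']
    refine ⟨?_, ?_, ?_⟩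
    · apply (mul_eq_zero.mp (show (tr Z * tr Z - 1) * ee Z 0 1 = 0 by rw [htt]; linear_combination h1 + ee Z 0 1 * hd)).resolve_left ht
    · apply (mul_eq_zero.mp (show (tr Z * tr Z - 1) * ee Z 1 0 = 0 by rw [htt]; linear_combination h2 + ee Z 1 0 * hd)).resolve_left ht
    · apply mul_left_cancel₀ ht
      rw [htt]
      linear_combination h3 + (ee Z 0 0 - ee Z 1 1) * hd

lemma tr_sq_of_center {Z : SL2 F} (h : Z ∈ center (SL2 F)) : tr Z * tr Z = 4 := by
  rw [mem_center_iff''] at h
  obtain ⟨h1, h2, h3⟩ := h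
  have hd := ee_det Z
  rw [ee_tr, ← h3]
  rw [h1, ← h3] at hd
  linear_combination 4 * hd

/-- Diagonal elements. -/
def dg (l : F) (hl : l ≠ 0) : SL2 F := mk2 l 0 0 l⁻¹ (by field_simp; ring)

@[simp] lemma dg00 (l : F) (hl : l ≠ 0) : ee (dg l hl) 0 0 = l := rfl
@[simp] lemma dg01 (l : F) (hl : l ≠ 0) : ee (dg l hl) 0 1 = 0 := rfl
@[simp] lemma dg10 (l : F) (hl : l ≠ 0) : ee (dg l hl) 1 0 = 0 := rfl
@[simp] lemma dg11 (l : F) (hl : l ≠ 0) : ee (dg l hl) 1 1 = l⁻¹ := rfl

lemma uu_one_not_center' : (uu 1 : SL2 F) ∉ center (SL2 F) := by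
  rw [not_center_iff]
  left
  simp

lemma tr_uu (b : F) : tr (uu b) = 2 := by
  rw [ee_tr]
  simp
  norm_num

lemma tr_uu_sq (b : F) : tr (uu b) * tr (uu b) = 4 := by
  rw [tr_uu]
  norm_num

lemma vv_one_not_center' : (vv 1 : SL2 F) ∉ center (SL2 F) := by
  rw [not_center_iff]
  right
  left
  simp

lemma tr_vv (b : F) : tr (vv b) = 2 := by
  rw [ee_tr]
  simp
  norm_num

/-- Upper triangular elements normalize the unipotent member. -/
lemma mem_Nn_uu (U : SL2 F) : proj U ∈ Nn (uu 1 : SL2 F) ↔ ee U 1 0 = 0 := by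
  have h := mem_normalizer_parabolic (A := (uu 1 : SL2 F)) (g := 1) (X := uu 1) uu_one_not_center' (by simp) (by simp) (by simp) (by simp) U
  simpa using h

lemma ww_entries (U : SL2 F) : ee ((ww 1 one_ne_zero)⁻¹ * U * ww 1 one_ne_zero) 1 0 = - ee U 0 1 := by
  simp only [ee_mul, ee_inv00, ee_inv01, ee_inv10, ee_inv11, ww00, ww01, ww10, ww11]
  simp

/-- Lower triangular elements normalize the opposite unipotent member. -/
lemma mem_Nn_vv (U : SL2 F) : proj U ∈ Nn (vv 1 : SL2 F) ↔ ee U 0 1 = 0 := by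
  have hg : (vv 1 : SL2 F) * ww 1 one_ne_zero = ww 1 one_ne_zero * uu (-1) := by
    have := conj_ww_vv (1 : F) one_ne_zero 1
    simp only [one_mul] at this
    rw [← this]
    group
  have h := mem_normalizer_parabolic (A := (vv 1 : SL2 F)) (g := ww 1 one_ne_zero) (X := uu (-1)) vv_one_not_center' hg (by simp) (by simp) (by simp) U
  rw [h, ww_entries, neg_eq_zero]

/-- In the normalizer of a parabolic member, a unipotent element forces triangularity. -/
lemma upper_of_mem_Nn {B : SL2 F} (hB : B ∉ center (SL2 F)) (ht : tr B * tr B = 4) {b : F} (hb : b ≠ 0) {Y : SL2 F}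
    (hx : proj (uu b) ∈ Nn B) (hy : proj Y ∈ Nn B) : ee Y 1 0 = 0 := by
  obtain ⟨g, X, hg, h10, h00, h01⟩ := exists_upper hB ht
  have e1 := (mem_normalizer_parabolic hB hg h10 h00 h01 (uu b)).mp hx
  have e2 := (mem_normalizer_parabolic hB hg h10 h00 h01 Y).mp hy
  simp only [ee_mul, ee_inv00, ee_inv01, ee_inv10, ee_inv11, uu00, uu01, uu10, uu11] at e1 e2
  have hγ : ee g 1 0 = 0 := by
    have : b * (ee g 1 0 * ee g 1 0) = 0 := by linear_combination -e1
    rcases mul_eq_zero.mp this with h | h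
    · exact absurd h hb
    · exact mul_self_eq_zero.mp h
  have hd := ee_det g
  rw [hγ, mul_zero, sub_zero] at hd
  rw [hγ] at e2
  have hα : ee g 0 0 ≠ 0 := by
    intro h
    rw [h, zero_mul] at hd
    exact zero_ne_one hd
  have : ee g 0 0 * ee g 0 0 * ee Y 1 0 = 0 := by linear_combination e2
  rcases mul_eq_zero.mp this with h | h
  · exact absurd (mul_self_eq_zero.mp h) hα
  · exact h

/-- In the normalizer of a parabolic member, a diagonal element forces triangularity. -/
lemma tri_of_mem_Nn {B : SL2 F} (hB : B ∉ center (SL2 F)) (ht : tr B * tr B = 4) {l : F} (hl : l ≠ 0) (hl2 : l * l ≠ 1) {Y : SL2 F}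
    (hx : proj (dg l hl) ∈ Nn B) (hy : proj Y ∈ Nn B) : ee Y 1 0 = 0 ∨ ee Y 0 1 = 0 := by
  obtain ⟨g, X, hg, h10, h00, h01⟩ := exists_upper hB ht
  have e1 := (mem_normalizer_parabolic hB hg h10 h00 h01 (dg l hl)).mp hx
  have e2 := (mem_normalizer_parabolic hB hg h10 h00 h01 Y).mp hy
  simp only [ee_mul, ee_inv00, ee_inv01, ee_inv10, ee_inv11, dg00, dg01, dg10, dg11] at e1 e2
  have hd := ee_det g
  have hll : l⁻¹ - l ≠ 0 := by
    intro h
    apply hl2
    field_simp at h
    linear_combination -h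
  have hcase : ee g 0 0 * ee g 1 0 = 0 := by
    have : (l⁻¹ - l) * (ee g 0 0 * ee g 1 0) = 0 := by linear_combination e1
    exact (mul_eq_zero.mp this).resolve_left hll
  rcases mul_eq_zero.mp hcase with hα | hγ
  · right
    rw [hα, zero_mul, zero_sub] at hd
    rw [hα] at e2
    have hγ : ee g 1 0 ≠ 0 := by
      intro h
      rw [h, mul_zero, neg_zero] at hd
      exact zero_ne_one hd
    have : ee g 1 0 * ee g 1 0 * ee Y 0 1 = 0 := by linear_combination -e2
    rcases mul_eq_zero.mp this with h | h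
    · exact absurd (mul_self_eq_zero.mp h) hγ
    · exact h
  · left
    rw [hγ, mul_zero, sub_zero] at hd
    rw [hγ] at e2
    have hα : ee g 0 0 ≠ 0 := by
      intro h
      rw [h, zero_mul] at hd
      exact zero_ne_one hd
    have : ee g 0 0 * ee g 0 0 * ee Y 1 0 = 0 := by linear_combination e2
    rcases mul_eq_zero.mp this with h | h
    · exact absurd (mul_self_eq_zero.mp h) hα
    · exact h

section fin

variable [Fintype F] (p : ℕ) [hp : Fact p.Prime] [CharP F p]

include p in
lemma sv_of_inverting {x y : PSL2 F} (h : x * y * x⁻¹ = y⁻¹) : Sv x y := by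
  by_cases hy : y = 1
  · subst hy
    exact sv_of_commute (by simp)
  obtain ⟨Y, rfl⟩ := proj_surjective y
  have hY := not_center_of_proj_ne_one hy
  have h1 : x ∈ Nn Y := mem_normalizer_of_conj_mem hy (by
    rw [h]
    exact inv_mem (mem_MM_proj.mpr rfl))
  exact sv_of_Nn p hY h1 (proj_mem_Nn Y)

include p in
lemma sv_of_invol {x y : PSL2 F} (hx : x * x = 1) (hy : y * y = 1) : Sv x y := by
  apply sv_of_mul
  apply sv_of_inverting p
  have h1 : x⁻¹ = x := inv_eq_of_mul_eq_one_left hx
  have h2 : y⁻¹ = y := inv_eq_of_mul_eq_one_left hy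
  rw [_root_.mul_inv_rev, h1, h2, ← mul_assoc, hx, one_mul]

include p in
lemma sv_of_mul_sq {x y : PSL2 F} (hx : x * x = 1) (hxy : (x * y) * (x * y) = 1) : Sv x y := by
  apply sv_of_inverting p
  have h1 : x⁻¹ = x := inv_eq_of_mul_eq_one_left hx
  rw [h1]
  apply eq_inv_of_mul_eq_one_left
  rw [← hxy]
  group

lemma card_preimage (Q : PSL2 F → Prop) :
    Nat.card {Y : SL2 F // Q (proj Y)} = Nat.card {y // Q y} * Nat.gcd 2 (Fintype.card F - 1) := by
  apply card_fiberwise
  intro y _
  rw [← card_center]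
  obtain ⟨Y₀, rfl⟩ := proj_surjective y
  refine Nat.card_congr
    { toFun := fun Y => ⟨Y₀⁻¹ * Y.1, ?_⟩
      invFun := fun Z => ⟨Y₀ * Z.1, ?_⟩
      left_inv := ?_
      right_inv := ?_ }
  · rw [← proj_eq_one_iff, map_mul, Y.2, map_inv, inv_mul_cancel]
  · rw [map_mul, (proj_eq_one_iff _).mpr Z.2, mul_one]
  · rintro ⟨Y, hY⟩
    simp
  · rintro ⟨Z, hZ⟩
    simp

lemma card_c0 : Nat.card {Y : SL2 F // ee Y 1 0 = 0} = Fintype.card F * (Fintype.card F - 1) := by
  rw [← Cfsg.Agent.Lib.SL2Prin.card_Bor]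
  refine Nat.card_congr (Equiv.subtypeEquivRight ?_)
  intro Y
  rw [Cfsg.Agent.Lib.SL2Bor.mem_Bor]
  rfl

lemma card_units' : Nat.card Fˣ = Fintype.card F - 1 := by
  classical
  rw [Nat.card_eq_fintype_card, Fintype.card_units]

/-- The count for a split torus. -/
lemma card_S_split : Nat.card {Y : SL2 F // ee Y 1 0 = 0 ∨ ee Y 0 1 = 0 ∨ (ee Y 0 0 = 0 ∧ ee Y 1 1 = 0)} =
    2 * Fintype.card F * (Fintype.card F - 1) := by
  classical
  rw [card_or, card_c0]
  have h1 : Nat.card {Y : SL2 F // ¬ ee Y 1 0 = 0 ∧ (ee Y 0 1 = 0 ∨ (ee Y 0 0 = 0 ∧ ee Y 1 1 = 0))} =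
      (Fintype.card F - 1) * (Fintype.card F - 1) + (Fintype.card F - 1) := by
    have e : {Y : SL2 F // ¬ ee Y 1 0 = 0 ∧ (ee Y 0 1 = 0 ∨ (ee Y 0 0 = 0 ∧ ee Y 1 1 = 0))} ≃ (Fˣ × Fˣ) ⊕ Fˣ :=
      { toFun := fun Y => if h : ee Y.1 0 1 = 0 then
            Sum.inl (Units.mk0 (ee Y.1 0 0) (by
              intro h0
              have hd := ee_det Y.1
              rw [h0, h, zero_mul, zero_mul, sub_zero] at hd
              exact zero_ne_one hd), Units.mk0 (ee Y.1 1 0) Y.2.1)
          else Sum.inr (Units.mk0 (ee Y.1 1 0) Y.2.1)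
        invFun := fun z => match z with
          | Sum.inl (a, c) => ⟨mk2 (a : F) 0 (c : F) ((a : F)⁻¹) (by simp), by
              exact ⟨c.ne_zero, Or.inl rfl⟩⟩
          | Sum.inr c => ⟨mk2 0 (-(c : F)⁻¹) (c : F) 0 (by simp), by
              exact ⟨c.ne_zero, Or.inr ⟨rfl, rfl⟩⟩⟩
        left_inv := by
          rintro ⟨Y, h1, h2⟩
          have hd := ee_det Y
          by_cases h : ee Y 0 1 = 0
          · simp only [h, dif_pos]
            apply Subtype.ext
            rw [h, mul_comm, zero_mul, sub_zero] at hd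
            apply ee_ext
            · rfl
            · exact h.symm
            · rfl
            · change (ee Y 0 0)⁻¹ = _
              exact (eq_inv_of_mul_eq_one_left hd).symm
          · simp only [h, dif_neg, not_false_eq_true]
            have h3 := h2.resolve_left h
            apply Subtype.ext
            rw [h3.1, h3.2, zero_mul, zero_sub] at hd
            apply ee_ext
            · exact h3.1.symm
            · change -(ee Y 1 0)⁻¹ = _
              field_simp
              linear_combination hd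
            · rfl
            · exact h3.2.symm
        right_inv := by
          rintro (⟨a, c⟩ | c)
          · have h0 : ee (mk2 (a : F) 0 (c : F) ((a : F)⁻¹) (by simp)) 0 1 = 0 := rfl
            simp only [h0, dif_pos]
            congr 2 <;> (apply Units.ext; rfl)
          · have h0 : ee (mk2 0 (-(c : F)⁻¹) (c : F) 0 (by simp)) 0 1 ≠ 0 := by
              change -(c : F)⁻¹ ≠ 0
              simp
            simp only [h0, dif_neg, not_false_eq_true]
            congr 1
            apply Units.ext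
            rfl }
    rw [Nat.card_congr e, Nat.card_sum, Nat.card_prod, card_units']
  rw [h1]
  have hq : 1 < Fintype.card F := Fintype.one_lt_card
  obtain ⟨y, hy⟩ : ∃ y, Fintype.card F = y + 1 := ⟨Fintype.card F - 1, by omega⟩
  rw [hy]
  simp only [Nat.add_sub_cancel]
  ring

include p in
/-- Elements of order coprime to the field size are semisimple. -/
lemma tr_ne_of_coprime {A : SL2 F} (hA : A ∉ center (SL2 F)) (h : (orderOf (proj A)).Coprime (Fintype.card F)) :
    tr A * tr A ≠ 4 := by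
  intro ht
  have hpt := ptype_parabolic p hA ht
  have h1 : proj A ∈ MM (proj A) := mem_MM_proj.mpr rfl
  have hA1 : proj A ≠ 1 := fun h' => hA ((proj_eq_one_iff A).mp h')
  have h2 := p_dvd_orderOf_of_pgroup hA1 hpt h1
  obtain ⟨n, -, hn⟩ := FiniteField.card F p
  have h3 : p ∣ Fintype.card F := by
    rw [hn]
    exact dvd_pow_self _ n.ne_zero
  exact hp.out.one_lt.ne' (Nat.eq_one_of_dvd_coprimes h h2 h3)

lemma orderOf_dvd_of_mem_MM {A : SL2 F} {x : PSL2 F} (hx : x ∈ MM (proj A)) : orderOf x ∣ Nat.card (MM (proj A)) := by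
  have := orderOf_dvd_natCard (⟨x, hx⟩ : MM (proj A))
  rwa [Subgroup.orderOf_mk] at this

lemma orderOf_dvd_of_mem_Nn {A : SL2 F} {x : PSL2 F} (hx : x ∈ Nn A) : orderOf x ∣ Nat.card (Nn A) := by
  have := orderOf_dvd_natCard (⟨x, hx⟩ : Nn A)
  rwa [Subgroup.orderOf_mk] at this

lemma sq_of_dvd_two {x : PSL2 F} (h : orderOf x ∣ 2) : x * x = 1 := by
  rw [← pow_two]
  exact orderOf_dvd_iff_pow_eq_one.mp h

include p in
/-- Elements whose order divides `q + 1`. -/
theorem card_sv_nonsplit {x : PSL2 F} (hx1 : x ≠ 1) (hx2 : x * x ≠ 1) (hord : orderOf x ∣ Fintype.card F + 1)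
    (hH : ∀ y, Sv x y → ∃ B : SL2 F, B ∉ center (SL2 F) ∧ x ∈ Nn B ∧ y ∈ Nn B) :
    Nat.card {y // Sv x y} * Nat.gcd 2 (Fintype.card F - 1) = 2 * (Fintype.card F + 1) := by
  obtain ⟨A, rfl⟩ := proj_surjective x
  have hA := not_center_of_proj_ne_one hx1
  have hq1 : 1 < Fintype.card F := Fintype.one_lt_card
  have hco : (orderOf (proj A)).Coprime (Fintype.card F) :=
    Nat.Coprime.coprime_dvd_left hord (by simp)
  have ht := tr_ne_of_coprime p hA hco
  have hord2 : ¬ orderOf (proj A) ∣ Fintype.card F - 1 := by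
    intro h
    have h1 : orderOf (proj A) ∣ 2 := by
      have := Nat.dvd_sub hord h
      have e : Fintype.card F + 1 - (Fintype.card F - 1) = 2 := by omega
      rwa [e] at this
    exact hx2 (sq_of_dvd_two h1)
  have hMM : Nat.card (MM (proj A)) * Nat.gcd 2 (Fintype.card F - 1) = Fintype.card F + 1 := by
    rcases card_MM_cases A hA ht with h | h
    · exfalso
      apply hord2
      rw [← h]
      exact (orderOf_dvd_of_mem_MM (mem_MM_proj.mpr rfl)).trans (dvd_mul_right _ _)
    · exact h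
  have hset : ∀ y, Sv (proj A) y ↔ y ∈ Nn A := by
    intro y
    constructor
    · intro h
      obtain ⟨B, hB, hxB, hyB⟩ := hH y h
      by_cases htB : tr B * tr B = 4
      · exfalso
        have h1 := card_normalizer_parabolic p hB htB
        have h2 := orderOf_dvd_of_mem_Nn hxB
        have h3 : orderOf (proj A) ∣ Fintype.card F * (Fintype.card F - 1) := by
          rw [← h1]
          exact h2.trans (dvd_mul_left _ _)
        exact hord2 (hco.dvd_of_dvd_mul_left h3)
      · have hss := isSS_of p hB htB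
        by_cases hm : proj A ∈ MM (proj B)
        · have hB1 : proj B ≠ 1 := fun h' => hB ((proj_eq_one_iff B).mp h')
          have e : MM (proj A) = MM (proj B) := dpart.eq_of_mem _ _ hB1 hx1 hm
          change y ∈ normalizer _
          rw [e]
          exact hyB
        · exact absurd (hss.outer _ hxB hm).1 hx2
    · intro h
      exact sv_of_Nn p hA (proj_mem_Nn A) h
  have hc : Nat.card {y // Sv (proj A) y} = Nat.card (Nn A) := Nat.card_congr (Equiv.subtypeEquivRight hset)
  rw [hc, card_normalizer_ss p hA ht, mul_assoc, hMM]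

include p in
/-- Diagonal elements. -/
theorem card_sv_dg {l : F} (hl : l ≠ 0) (hl2 : l * l ≠ 1) (hx2 : proj (dg l hl) * proj (dg l hl) ≠ 1)
    (hH : ∀ y, Sv (proj (dg l hl)) y → ∃ B : SL2 F, B ∉ center (SL2 F) ∧ proj (dg l hl) ∈ Nn B ∧ y ∈ Nn B) :
    Nat.card {y // Sv (proj (dg l hl)) y} * Nat.gcd 2 (Fintype.card F - 1) =
      2 * Fintype.card F * (Fintype.card F - 1) := by
  have ht : tr (dg l hl) * tr (dg l hl) ≠ 4 := by
    rw [ee_tr, dg00, dg11]
    intro h
    apply hl2
    have h1 : (l - l⁻¹) * (l - l⁻¹) = 0 := by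
      have h2 : l * l⁻¹ = 1 := mul_inv_cancel₀ hl
      linear_combination h - 4 * h2
    have h3 : l - l⁻¹ = 0 := mul_self_eq_zero.mp h1
    have h4 : l = l⁻¹ := sub_eq_zero.mp h3
    nth_rewrite 2 [h4]
    exact mul_inv_cancel₀ hl
  have hD : dg l hl ∉ center (SL2 F) := fun h => ht (tr_sq_of_center h)
  have hll : l - l⁻¹ ≠ 0 := by
    intro h
    apply hl2
    have h4 : l = l⁻¹ := sub_eq_zero.mp h
    nth_rewrite 2 [h4]
    exact mul_inv_cancel₀ hl
  have key : ∀ Y : SL2 F, Sv (proj (dg l hl)) (proj Y) ↔ (ee Y 1 0 = 0 ∨ ee Y 0 1 = 0 ∨ (ee Y 0 0 = 0 ∧ ee Y 1 1 = 0)) := by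
    intro Y
    constructor
    · intro h
      obtain ⟨B, hB, hxB, hyB⟩ := hH _ h
      by_cases htB : tr B * tr B = 4
      · rcases tri_of_mem_Nn hB htB hl hl2 hxB hyB with h1 | h1
        · exact Or.inl h1
        · exact Or.inr (Or.inl h1)
      · have hss := isSS_of p hB htB
        by_cases hm : proj (dg l hl) ∈ MM (proj B)
        · have hB1 : proj B ≠ 1 := fun h' => hB ((proj_eq_one_iff B).mp h')
          have hD1 : proj (dg l hl) ≠ 1 := fun h' => hD ((proj_eq_one_iff _).mp h')
          have e : MM (proj (dg l hl)) = MM (proj B) := dpart.eq_of_mem _ _ hB1 hD1 hm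
          have hyD : proj Y ∈ Nn (dg l hl) := by
            change proj Y ∈ normalizer _
            rw [e]
            exact hyB
          have hdet := ee_det Y
          rcases conj_cases hD ht (normalizer_comm hyD) (tr_conj Y (dg l hl)) with h1 | h1
          · right
            left
            have h2 : Y * dg l hl = dg l hl * Y := mul_inv_eq_iff_eq_mul.mp h1
            have h3 := congrArg (fun A : SL2 F => ee A 0 1) h2
            simp only [ee_mul, dg00, dg01, dg10, dg11] at h3
            have h4 : ee Y 0 1 * (l - l⁻¹) = 0 := by linear_combination -h3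
            exact (mul_eq_zero.mp h4).resolve_right hll
          · right
            right
            have h2 : Y * dg l hl = (dg l hl)⁻¹ * Y := mul_inv_eq_iff_eq_mul.mp h1
            have h3 := congrArg (fun A : SL2 F => ee A 0 0) h2
            have h3' := congrArg (fun A : SL2 F => ee A 1 1) h2
            simp only [ee_mul, dg00, dg01, dg10, dg11, ee_inv00, ee_inv01, ee_inv10, ee_inv11] at h3 h3'
            constructor
            · have h4 : ee Y 0 0 * (l - l⁻¹) = 0 := by linear_combination h3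
              exact (mul_eq_zero.mp h4).resolve_right hll
            · have h4 : ee Y 1 1 * (l - l⁻¹) = 0 := by linear_combination -h3'
              exact (mul_eq_zero.mp h4).resolve_right hll
        · exact absurd (hss.outer _ hxB hm).1 hx2
    · rintro (h | h | ⟨h1, h2⟩)
      · exact sv_of_Nn p uu_one_not_center' ((mem_Nn_uu _).mpr rfl) ((mem_Nn_uu _).mpr h)
      · exact sv_of_Nn p vv_one_not_center' ((mem_Nn_vv _).mpr rfl) ((mem_Nn_vv _).mpr h)
      · have hdet := ee_det Y
        rw [h1, zero_mul, zero_sub] at hdet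
        have h3 : Y * dg l hl * Y⁻¹ = (dg l hl)⁻¹ := by
          have hl' : l * l⁻¹ = 1 := mul_inv_cancel₀ hl
          apply ee_ext <;> simp only [ee_mul, ee_inv00, ee_inv01, ee_inv10, ee_inv11, dg00, dg01, dg10, dg11, h1, h2]
          · linear_combination (l⁻¹) * hdet
          · ring
          · ring
          · linear_combination (l) * hdet
        exact sv_of_Nn p hD (proj_mem_Nn _) (inverting_mem_normalizer hD h3)
  rw [← card_preimage (fun y => Sv (proj (dg l hl)) y), Nat.card_congr (Equiv.subtypeEquivRight key), card_S_split]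

include p in
/-- Elements whose order divides `q - 1`. -/
theorem card_sv_split {x : PSL2 F} (hx1 : x ≠ 1) (hx2 : x * x ≠ 1) (hord : orderOf x ∣ Fintype.card F - 1)
    (hH : ∀ x' y : PSL2 F, orderOf x' = orderOf x → Sv x' y → ∃ B : SL2 F, B ∉ center (SL2 F) ∧ x' ∈ Nn B ∧ y ∈ Nn B) :
    Nat.card {y // Sv x y} * Nat.gcd 2 (Fintype.card F - 1) = 2 * Fintype.card F * (Fintype.card F - 1) := by
  obtain ⟨A, rfl⟩ := proj_surjective x
  have hA := not_center_of_proj_ne_one hx1
  have hq1 : 1 < Fintype.card F := Fintype.one_lt_card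
  have hco : (orderOf (proj A)).Coprime (Fintype.card F) := by
    apply Nat.Coprime.coprime_dvd_left hord
    have h : (Fintype.card F - 1).Coprime (Fintype.card F - 1 + 1) := by simp
    rwa [Nat.sub_add_cancel hq1.le] at h
  have ht := tr_ne_of_coprime p hA hco
  by_cases hs : ∃ l : F, l * l - tr A * l + 1 = 0
  · obtain ⟨l, hl⟩ := hs
    have hl0 : l ≠ 0 := by
      rintro rfl
      simp at hl
    have htl : l + l⁻¹ = tr A := by
      field_simp
      linear_combination hl
    have hl2 : l * l ≠ 1 := by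
      intro h
      apply ht
      rw [← htl]
      have h1 : l * l⁻¹ = 1 := mul_inv_cancel₀ hl0
      have h2 : l⁻¹ = l := by
        field_simp
        linear_combination -h
      rw [h2]
      linear_combination 4 * h
    have htD : tr (dg l hl0) = tr A := by
      rw [ee_tr, dg00, dg11, htl]
    have hD : dg l hl0 ∉ center (SL2 F) := fun h => ht (by
      rw [← htD]
      exact tr_sq_of_center h)
    obtain ⟨U, hU⟩ := exists_conj A (dg l hl0) hA hD htD.symm ht
    let θ : PSL2 F ≃* PSL2 F := MulAut.conj (proj U)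
    have hθ : θ (proj A) = proj (dg l hl0) := by
      rw [← hU]
      simp [θ, MulAut.conj_apply]
    have hordθ : orderOf (proj (dg l hl0)) = orderOf (proj A) := by
      rw [← hθ]
      exact MulEquiv.orderOf_eq θ _
    have h1 := card_sv_map θ (proj A)
    rw [← h1, hθ]
    apply card_sv_dg p hl0 hl2
    · intro h
      apply hx2
      rw [← hθ, ← map_mul] at h
      exact θ.injective (by rw [h, map_one])
    · intro y hy
      exact hH _ y hordθ hy
  · exfalso
    push Not at hs
    have h1 := card_TT_nonsplit A hA ht hs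
    rw [← card_MM_mul] at h1
    have h2 : orderOf (proj A) ∣ Fintype.card F + 1 := by
      rw [← h1]
      exact (orderOf_dvd_of_mem_MM (mem_MM_proj.mpr rfl)).trans (dvd_mul_right _ _)
    have h3 : orderOf (proj A) ∣ 2 := by
      have := Nat.dvd_sub h2 hord
      have e : Fintype.card F + 1 - (Fintype.card F - 1) = 2 := by omega
      rwa [e] at this
    exact hx2 (sq_of_dvd_two h3)

end fin

end Cfsg.Agent.Lib.PSL2SolubB
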