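import Mathlib
import Cfsg.Agent.Lib.PSL2SolubB

/-!
# Solubilizers in `PSL₂`: unipotent elements
-/

set_option autoImplicit false
set_option linter.style.haveILetI false
set_option linter.unusedVariables false
set_option linter.unusedSectionVars false
set_option linter.unusedSimpArgs false

namespace Cfsg.Agent.Lib.PSL2SolubU

open Matrix Subgroup
open Cfsg.Agent.Lib.SL2Core Cfsg.Agent.Lib.DicksonMat Cfsg.Agent.Lib.DicksonAbs Cfsg.Agent.Lib.DicksonStruct
open Cfsg.Agent.Lib.DicksonTT Cfsg.Agent.Lib.DicksonRed Cfsg.Agent.Lib.PSL2Sub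
open Cfsg.Agent.Lib.PSL2Max Cfsg.Agent.Lib.PSL2Cnt Cfsg.Agent.Lib.PSL2Coat Cfsg.Agent.Lib.PSL2Nor
open Cfsg.Agent.Lib.PSL2Solv Cfsg.Agent.Lib.PSL2Solub Cfsg.Agent.Lib.PSL2SolubB

variable {F : Type*} [Field F]

lemma mul_sq_of_inverting {G : Type*} [Group G] {x y : G} (hx : x * x = 1) (h : x * y * x⁻¹ = y⁻¹) :
    (x * y) * (x * y) = 1 := by
  have h1 : x⁻¹ = x := inv_eq_of_mul_eq_one_left hx
  rw [h1] at h
  rw [← mul_assoc, h, inv_mul_cancel]

lemma tr_negS' (A : SL2 F) : tr (negS A) = - tr A := by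
  rw [ee_tr, ee_tr, ee_neg, ee_neg]
  ring

lemma negS_mul' (A B : SL2 F) : negS A * B = negS (A * B) := by
  apply ee_ext <;> simp only [ee_mul, ee_neg] <;> ring

lemma tr_dConj (ρ : F) (hρ : ρ ≠ 0) (W : SL2 F) : tr (dConj ρ hρ W) = tr W := by
  rw [ee_tr, ee_tr, dConj00, dConj11]

lemma tr_conj' (g Z : SL2 F) : tr (g⁻¹ * Z * g) = tr Z := by
  have := tr_conj g⁻¹ Z
  simpa using this

/-- Normal form for non-central elements with `tr² = 4`. -/
lemma exists_theta_uu {Y : SL2 F} (hY : Y ∉ center (SL2 F)) (ht : tr Y * tr Y = 4) :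
    ∃ θ : PSL2 F ≃* PSL2 F, θ (proj Y) = proj (uu 1) ∧ ∀ Z : SL2 F, ∃ Z' : SL2 F, θ (proj Z) = proj Z' ∧ tr Z' = tr Z ∧
      tr (uu 1 * Z') * tr (uu 1 * Z') = tr (Y * Z) * tr (Y * Z) := by
  obtain ⟨g, X, hg, h10, h00, h01⟩ := exists_upper hY ht
  have hd := ee_det X
  rw [h10, mul_zero, sub_zero, ← h00] at hd
  have he : ee X 0 0 ≠ 0 := by
    intro h
    rw [h, zero_mul] at hd
    exact zero_ne_one hd
  have hρ : ee X 0 0 * (ee X 0 1)⁻¹ ≠ 0 := mul_ne_zero he (inv_ne_zero h01)
  have hX : g⁻¹ * Y * g = X := by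
    rw [mul_assoc, hg]
    group
  have hcase : dConj _ hρ X = uu 1 ∨ dConj _ hρ X = negS (uu 1) := by
    have h1 : (ee X 0 0 - 1) * (ee X 0 0 + 1) = 0 := by linear_combination hd
    rcases mul_eq_zero.mp h1 with h2 | h2
    · left
      have h3 : ee X 0 0 = 1 := sub_eq_zero.mp h2
      apply ee_ext <;> simp only [dConj00, dConj01, dConj10, dConj11, uu00, uu01, uu10, uu11, h10, ← h00, h3]
      · field_simp
      · simp
    · right
      have h3 : ee X 0 0 = -1 := by linear_combination h2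
      apply ee_ext <;> simp only [dConj00, dConj01, dConj10, dConj11, ee_neg, uu00, uu01, uu10, uu11, h10, ← h00, h3]
      · field_simp
      · simp
  have hp : proj (uu (1 : F)) = proj (dConj _ hρ X) := (proj_eq_proj_iff' _ _).mpr hcase
  refine ⟨theta g _ hρ, ?_, ?_⟩
  · rw [theta_proj, hX, dPSL_proj]
    exact hp.symm
  · intro Z
    refine ⟨dConj _ hρ (g⁻¹ * Z * g), ?_, ?_, ?_⟩
    · rw [theta_proj, dPSL_proj]
    · rw [tr_dConj, tr_conj']
    · have e1 : tr (Y * Z) = tr (dConj _ hρ X * dConj _ hρ (g⁻¹ * Z * g)) := by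
        rw [← map_mul, tr_dConj, ← hX, ← tr_conj' g (Y * Z)]
        congr 1
        group
      rw [e1]
      rcases hcase with h | h
      · rw [h]
      · rw [h, negS_mul', tr_negS']
        ring

lemma sq_of_tr_zero {Z : SL2 F} (h : tr Z = 0) : proj Z * proj Z = 1 := by
  rw [ee_tr] at h
  rw [← map_mul, proj_eq_one_iff, mem_center_iff'', ee_mul_self01, ee_mul_self10, ee_mul_self00, ee_mul_self11]
  refine ⟨?_, ?_, ?_⟩
  · linear_combination (ee Z 0 1) * h
  · linear_combination (ee Z 1 0) * h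
  · linear_combination (ee Z 0 0 - ee Z 1 1) * h

lemma tr_uu_mul (b : F) (Y : SL2 F) : tr (uu b * Y) = tr Y + b * ee Y 1 0 := by
  rw [ee_tr, ee_tr]
  simp only [ee_mul, uu00, uu01, uu10, uu11]
  ring

section fin

variable [Fintype F]

lemma card_fib_ct {c : F} (hc : c ≠ 0) (t : F) : Nat.card {Y : SL2 F // (ee Y 1 0, tr Y) = (c, t)} = Fintype.card F := by
  rw [← Nat.card_eq_fintype_card]
  refine Nat.card_congr
    { toFun := fun Y => ee Y.1 0 0
      invFun := fun a => ⟨mk2 a ((a * (t - a) - 1) / c) c (t - a) (by field_simp; ring), by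
        rw [ee_tr]
        change (c, a + (t - a)) = (c, t)
        congr 1
        ring⟩
      left_inv := ?_
      right_inv := fun a => rfl }
  rintro ⟨Y, hY⟩
  have h1 : ee Y 1 0 = c := (Prod.ext_iff.mp hY).1
  have h2 : tr Y = t := (Prod.ext_iff.mp hY).2
  have hd := ee_det Y
  rw [ee_tr] at h2
  apply Subtype.ext
  apply ee_ext
  · rfl
  · change (ee Y 0 0 * (t - ee Y 0 0) - 1) / c = ee Y 0 1
    rw [div_eq_iff hc, ← h2, ← h1]
    linear_combination hd
  · exact h1.symm
  · change t - ee Y 0 0 = ee Y 1 1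
    rw [← h2]
    ring

lemma card_pair (Q : F × F → Prop) (hQ : ∀ z, Q z → z.1 ≠ 0) :
    Nat.card {Y : SL2 F // Q (ee Y 1 0, tr Y)} = Nat.card {z : F × F // Q z} * Fintype.card F := by
  apply card_fiberwise (fun Y : SL2 F => (ee Y 1 0, tr Y)) Q
  rintro ⟨c, t⟩ hz
  exact card_fib_ct (hQ _ hz) t

/-- The count for characteristic two. -/
lemma card_pairs_even : Nat.card {z : F × F // ¬ z.1 = 0 ∧ (z.2 = 0 ∨ z.2 + z.1 = 0)} = (Fintype.card F - 1) * 2 := by
  classical
  rw [← card_units' (F := F), ← Nat.card_fin 2, ← Nat.card_prod]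
  symm
  refine Nat.card_congr
    { toFun := fun z => if z.2 = 0 then ⟨((z.1 : F), 0), z.1.ne_zero, Or.inl rfl⟩ else ⟨((z.1 : F), -(z.1 : F)), z.1.ne_zero, Or.inr (by ring)⟩
      invFun := fun z => (Units.mk0 z.1.1 z.2.1, if z.1.2 = 0 then 0 else 1)
      left_inv := ?_
      right_inv := ?_ }
  · rintro ⟨c, i⟩
    fin_cases i
    · simp
    · simp [c.ne_zero]
  · rintro ⟨⟨c, t⟩, hc, ht⟩
    by_cases h : t = 0
    · simp [h]
    · have ht' : t + c = 0 := ht.resolve_left h
      have ht2 : t = -c := by linear_combination ht'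
      simp [h]
      exact ht2.symm

variable [CharP F 2]

lemma two_eq_zero' : (2 : F) = 0 := CharP.cast_eq_zero F 2

lemma tr_eq_zero_of_sq {Z : SL2 F} (h : proj Z * proj Z = 1) : tr Z = 0 := by
  rcases tr_or_center_of_sq h with h1 | h1
  · exact h1
  · have h2 := tr_sq_of_center h1
    have h4 : (4 : F) = 0 := by
      have : (4 : F) = 2 * 2 := by norm_num
      rw [this, two_eq_zero', zero_mul]
    rw [h4] at h2
    exact mul_self_eq_zero.mp h2

/-- The solubilizer of the standard involution in characteristic two. -/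
theorem card_sv_uu_even (r : ℕ) (hr : r.Prime) (hF : Fintype.card F = 2 ^ r) :
    Nat.card {y // Sv (proj (uu (1 : F))) y} = 3 * Fintype.card F * (Fintype.card F - 1) := by
  classical
  haveI : Fact (Nat.Prime 2) := ⟨Nat.prime_two⟩
  have hd : Nat.gcd 2 (Fintype.card F - 1) = 1 := by
    rw [Nat.coprime_two_left.mpr]
    rw [hF]
    obtain ⟨y, hy⟩ : Even (2 ^ r) := Nat.even_pow.mpr ⟨even_two, hr.ne_zero⟩
    rw [hy]
    have : 0 < 2 ^ r := by positivity
    exact ⟨y - 1, by omega⟩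
  have hx : proj (uu (1 : F)) * proj (uu (1 : F)) = 1 := by
    rw [← pow_two]
    exact proj_uu_pow (p := 2) 1
  have hx1 : proj (uu (1 : F)) ≠ 1 := fun h => uu_one_not_center' ((proj_eq_one_iff _).mp h)
  have hord : orderOf (proj (uu (1 : F))) = 2 := orderOf_eq_prime (by rw [pow_two]; exact hx) hx1
  have key : ∀ Y : SL2 F, Sv (proj (uu (1 : F))) (proj Y) ↔ (ee Y 1 0 = 0 ∨ (tr Y = 0 ∨ tr Y + ee Y 1 0 = 0)) := by
    intro Y
    constructor
    · intro h
      obtain ⟨B, hB, hxB, hyB⟩ := (sv_iff_even r hr hF).mp h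
      by_cases htB : tr B * tr B = 4
      · exact Or.inl (upper_of_mem_Nn hB htB one_ne_zero hxB hyB)
      · have hss := isSS_of 2 hB htB
        have hm : proj (uu (1 : F)) ∉ MM (proj B) := by
          intro hm
          have h1 := orderOf_dvd_of_mem_MM hm
          rw [hord] at h1
          have h2 := hss.coprime
          exact Nat.Prime.one_lt Nat.prime_two |>.ne' (Nat.eq_one_of_dvd_coprimes h2 h1 (dvd_refl 2))
        obtain ⟨h1, h2⟩ := hss.outer _ hxB hm
        right
        by_cases hyM : proj Y ∈ MM (proj B)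
        · right
          have h3 := h2 _ hyM
          have h5 : proj (uu 1 * Y) * proj (uu 1 * Y) = 1 := by
            rw [map_mul]
            exact mul_sq_of_inverting hx h3
          have h6 := tr_eq_zero_of_sq h5
          rw [tr_uu_mul, one_mul] at h6
          exact h6
        · left
          exact tr_eq_zero_of_sq (hss.outer _ hyB hyM).1
    · rintro (h | h | h)
      · exact sv_of_Nn 2 uu_one_not_center' ((mem_Nn_uu _).mpr rfl) ((mem_Nn_uu _).mpr h)
      · exact sv_of_invol 2 hx (sq_of_tr_zero h)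
      · refine sv_of_mul_sq 2 hx ?_
        rw [← map_mul]
        apply sq_of_tr_zero
        rw [tr_uu_mul, one_mul]
        exact h
  have h1 := card_preimage (fun y : PSL2 F => Sv (proj (uu (1 : F))) y)
  rw [hd, mul_one] at h1
  rw [← h1, Nat.card_congr (Equiv.subtypeEquivRight key), card_or, card_c0]
  have h2 := card_pair (F := F) (fun z => ¬ z.1 = 0 ∧ (z.2 = 0 ∨ z.2 + z.1 = 0)) (fun z hz => hz.1)
  rw [card_pairs_even] at h2
  simp only at h2
  rw [h2]
  ring

end fin

end Cfsg.Agent.Lib.PSL2SolubU
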