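import Mathlib
import Cfsg.Agent.Lib.PSL2SolubU

/-!
# Solubilizers in `PSL₂(3^r)`
-/

set_option autoImplicit false
set_option linter.style.haveILetI false
set_option linter.unusedVariables false
set_option linter.unusedSectionVars false
set_option linter.unusedSimpArgs false

namespace Cfsg.Agent.Lib.PSL2SolubT

open Matrix Subgroup
open Cfsg.Agent.Lib.SL2Core Cfsg.Agent.Lib.DicksonMat Cfsg.Agent.Lib.DicksonAbs Cfsg.Agent.Lib.DicksonStruct
open Cfsg.Agent.Lib.DicksonTT Cfsg.Agent.Lib.DicksonRed Cfsg.Agent.Lib.PSL2Sub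
open Cfsg.Agent.Lib.PSL2Max Cfsg.Agent.Lib.PSL2Cnt Cfsg.Agent.Lib.PSL2Coat Cfsg.Agent.Lib.PSL2Nor
open Cfsg.Agent.Lib.PSL2Solv Cfsg.Agent.Lib.PSL2Solub Cfsg.Agent.Lib.PSL2SolubB Cfsg.Agent.Lib.PSL2SolubU

variable {F : Type*} [Field F] [Fintype F] [CharP F 3]

omit [Fintype F] in
lemma three_eq : (3 : F) = 0 := CharP.cast_eq_zero F 3

omit [Fintype F] in
lemma four_eq : (4 : F) = 1 := by
  have := three_eq (F := F)
  linear_combination this

omit [Fintype F] in
lemma two_ne : (2 : F) ≠ 0 := by
  intro h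
  have h1 : (1 : F) = 0 := by
    have := three_eq (F := F)
    linear_combination this - h
  exact one_ne_zero h1

omit [Fintype F] in
lemma neg_one_ne : (1 : F) ≠ -1 := by
  intro h
  apply two_ne (F := F)
  linear_combination h

omit [Fintype F] in
lemma cube_tr_of_elt {Z : SL2 F} (h : proj Z ^ 2 = 1 ∨ proj Z ^ 3 = 1) : tr Z ^ 3 = tr Z := by
  have hcen : Z ∈ center (SL2 F) → tr Z ^ 3 = tr Z := fun hc => by
    have := tr_sq_of_center hc
    rw [four_eq] at this
    linear_combination (tr Z) * this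
  rcases h with h | h
  · rw [pow_two] at h
    rcases tr_or_center_of_sq h with h0 | hc
    · rw [h0]
      ring
    · exact hcen hc
  · rcases tr_or_center_of_cube h with h0 | hc
    · linear_combination (tr Z) * h0
    · exact hcen hc

lemma range_bot_solvable : Group.IsSolvable (pslMap (⊥ : Subfield F).subtype).range := by
  haveI : Fact (Nat.Prime 3) := ⟨Nat.prime_three⟩
  have e2 : (pslMap (⊥ : Subfield F).subtype).range ≃* PSL2 (⊥ : Subfield F) :=
    (MonoidHom.ofInjective (pslMap_injective (⊥ : Subfield F).subtype)).symm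
  haveI : Fintype (⊥ : Subfield F) := Fintype.ofFinite _
  have hK : Fintype.card (⊥ : Subfield F) = 3 := by
    rw [← Nat.card_eq_fintype_card]
    exact card_bot_subfield 3
  haveI := isSolvable_PSL2_three hK
  exact isSolvable_of_equiv e2

lemma mem_bot_of_cube {a : F} (h : a ^ 3 = a) : a ∈ (⊥ : Subfield F) := by
  haveI : Fact (Nat.Prime 3) := ⟨Nat.prime_three⟩
  exact (Subfield.mem_bot_iff_pow_eq_self F 3).mpr h

/-- The generation criterion in characteristic three. -/
lemma sv_uu_of_pair {Y : SL2 F} (hc : ee Y 1 0 * ee Y 1 0 = 1) (ht : tr Y ^ 3 = tr Y) :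
    Sv (proj (uu (1 : F))) (proj Y) := by
  have hd := ee_det Y
  have htt := ee_tr Y
  have h3 : (ee Y 1 0) ^ 3 = ee Y 1 0 := by linear_combination (ee Y 1 0) * hc
  have hdet : (0 : F) * tr Y - (- ee Y 1 0) * ee Y 1 0 = 1 := by linear_combination hc
  let U : SL2 F := uu (-(ee Y 0 0) * ee Y 1 0)
  let θ : PSL2 F ≃* PSL2 F := MulAut.conj (proj U)
  have h1 : θ (proj (uu (1 : F))) = proj (uu 1) := by
    change proj U * proj (uu 1) * (proj U)⁻¹ = proj (uu 1)
    rw [← map_mul, ← map_inv, ← map_mul]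
    congr 1
    rw [mul_inv_eq_iff_eq_mul]
    change uu _ * uu 1 = uu 1 * uu _
    rw [← uu_add, ← uu_add, add_comm]
  have h2 : θ (proj Y) = proj (mk2 0 (- ee Y 1 0) (ee Y 1 0) (tr Y) hdet) := by
    change proj U * proj Y * (proj U)⁻¹ = _
    rw [← map_mul, ← map_inv, ← map_mul]
    congr 1
    apply ee_ext <;> simp only [U, ee_mul, ee_inv00, ee_inv01, ee_inv10, ee_inv11, uu00, uu01, uu10, uu11, mk00, mk01, mk10, mk11]
    · change _ = (0 : F)
      linear_combination (-(ee Y 0 0)) * hc
    · change _ = - ee Y 1 0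
      linear_combination (- ee Y 0 0 * ee Y 0 0 * ee Y 1 0) * hc + (- ee Y 1 0) * hd + (- ee Y 0 1) * hc
    · change _ = ee Y 1 0
      ring
    · change _ = tr Y
      rw [htt]
      linear_combination (ee Y 0 0) * hc
  rw [← sv_map θ, h1, h2]
  haveI := range_bot_solvable (F := F)
  apply sv_of_mem (H := (pslMap (⊥ : Subfield F).subtype).range)
  · rw [mem_range_psl]
    refine ⟨uu 1, ?_, rfl⟩
    intro i j
    fin_cases i <;> fin_cases j <;> first | exact Subfield.one_mem _ | exact Subfield.zero_mem _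
  · rw [mem_range_psl]
    refine ⟨_, ?_, rfl⟩
    intro i j
    fin_cases i <;> fin_cases j
    · exact Subfield.zero_mem _
    · exact Subfield.neg_mem _ (mem_bot_of_cube h3)
    · exact mem_bot_of_cube h3
    · exact mem_bot_of_cube ht

lemma card_cube : Nat.card {t : F // t ^ 3 = t} = 3 := by
  haveI : Fact (Nat.Prime 3) := ⟨Nat.prime_three⟩
  refine (Nat.card_congr (Equiv.subtypeEquivRight ?_)).trans (card_bot_subfield (F := F) 3)
  intro a
  exact (Subfield.mem_bot_iff_pow_eq_self F 3).symm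

lemma card_sq_one : Nat.card {c : F // c * c = 1} = 2 := by
  have h : ({1, -1} : Set F) = {c : F | c * c = 1} := by
    ext c
    simp only [Set.mem_insert_iff, Set.mem_singleton_iff, Set.mem_ofPred_eq]
    constructor
    · rintro (rfl | rfl) <;> ring
    · intro hc
      have : (c - 1) * (c + 1) = 0 := by linear_combination hc
      rcases mul_eq_zero.mp this with h | h
      · left
        exact sub_eq_zero.mp h
      · right
        linear_combination h
  have h2 := Set.ncard_pair (neg_one_ne (F := F))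
  rw [h, ← Nat.card_coe_set_eq] at h2
  exact h2

lemma card_pairs_three : Nat.card {z : F × F // ¬ z.1 = 0 ∧ (z.1 * z.1 = 1 ∧ z.2 ^ 3 = z.2)} = 6 := by
  have e : {z : F × F // ¬ z.1 = 0 ∧ (z.1 * z.1 = 1 ∧ z.2 ^ 3 = z.2)} ≃ {c : F // c * c = 1} × {t : F // t ^ 3 = t} :=
    { toFun := fun z => (⟨z.1.1, z.2.2.1⟩, ⟨z.1.2, z.2.2.2⟩)
      invFun := fun w => ⟨(w.1.1, w.2.1), fun h0 => by
        have := w.1.2
        simp only at h0
        rw [h0, zero_mul] at this
        exact zero_ne_one this, w.1.2, w.2.2⟩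
      left_inv := fun z => rfl
      right_inv := fun w => rfl }
  rw [Nat.card_congr e, Nat.card_prod, card_sq_one, card_cube]

/-- The solubilizer of an element of order three. -/
theorem card_sv_uu_three (r : ℕ) (hr : r.Prime) (hodd : Odd r) (hF : Fintype.card F = 3 ^ r) :
    2 * Nat.card {y // Sv (proj (uu (1 : F))) y} = Fintype.card F * (Fintype.card F + 5) := by
  classical
  haveI : Fact (Nat.Prime 3) := ⟨Nat.prime_three⟩
  have hd : Nat.gcd 2 (Fintype.card F - 1) = 2 := by
    apply Nat.gcd_eq_left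
    rw [hF]
    have : Odd (3 ^ r) := Odd.pow (by decide)
    obtain ⟨k, hk⟩ := this
    rw [hk]
    exact ⟨k, by omega⟩
  have hx3 : proj (uu (1 : F)) ^ 3 = 1 := proj_uu_pow (p := 3) 1
  have hx1 : proj (uu (1 : F)) ≠ 1 := fun h => uu_one_not_center' ((proj_eq_one_iff _).mp h)
  have hord : orderOf (proj (uu (1 : F))) = 3 := orderOf_eq_prime hx3 hx1
  have key : ∀ Y : SL2 F, Sv (proj (uu (1 : F))) (proj Y) ↔ (ee Y 1 0 = 0 ∨ (ee Y 1 0 * ee Y 1 0 = 1 ∧ tr Y ^ 3 = tr Y)) := by
    intro Y
    constructor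
    · intro h
      rcases sv_cases_three r hr hodd hF h with ⟨B, hB, hxB, hyB⟩ | ⟨M, hxM, hyM, hM⟩
      · by_cases htB : tr B * tr B = 4
        · exact Or.inl (upper_of_mem_Nn hB htB one_ne_zero hxB hyB)
        · exfalso
          have hss := isSS_of 3 hB htB
          by_cases hm : proj (uu (1 : F)) ∈ MM (proj B)
          · have h1 := orderOf_dvd_of_mem_MM hm
            rw [hord] at h1
            have h2 := hss.coprime
            exact Nat.Prime.one_lt Nat.prime_three |>.ne' (Nat.eq_one_of_dvd_coprimes h2 h1 (dvd_refl 3))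
          · have h1 := (hss.outer _ hxB hm).1
            have h2 := sq_of_dvd_two (x := proj (uu (1 : F)))
            have h3 : orderOf (proj (uu (1 : F))) ∣ 2 := orderOf_dvd_iff_pow_eq_one.mpr (by rw [pow_two]; exact h1)
            rw [hord] at h3
            omega
      · have h1 := cube_tr_of_elt (hM _ hyM)
        have h2 : proj (uu 1 * Y) ^ 2 = 1 ∨ proj (uu 1 * Y) ^ 3 = 1 := by
          rw [map_mul]
          exact hM _ (mul_mem hxM hyM)
        have h3 := cube_tr_of_elt h2
        rw [tr_uu_mul, one_mul] at h3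
        have h4 : (ee Y 1 0) ^ 3 = ee Y 1 0 := by
          have h5 : (tr Y + ee Y 1 0) ^ 3 = tr Y ^ 3 + ee Y 1 0 ^ 3 := by
            have h6 := three_eq (F := F)
            linear_combination (tr Y * tr Y * ee Y 1 0 + tr Y * ee Y 1 0 * ee Y 1 0) * h6
          rw [h5, h1] at h3
          linear_combination h3
        have h5 : ee Y 1 0 * (ee Y 1 0 * ee Y 1 0 - 1) = 0 := by linear_combination h4
        rcases mul_eq_zero.mp h5 with h6 | h6
        · exact Or.inl h6
        · exact Or.inr ⟨sub_eq_zero.mp h6, h1⟩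
    · rintro (h | ⟨h, h'⟩)
      · exact sv_of_Nn 3 uu_one_not_center' ((mem_Nn_uu _).mpr rfl) ((mem_Nn_uu _).mpr h)
      · exact sv_uu_of_pair h h'
  have h1 := card_preimage (fun y : PSL2 F => Sv (proj (uu (1 : F))) y)
  rw [hd, Nat.card_congr (Equiv.subtypeEquivRight key), card_or, card_c0] at h1
  have h2 := card_pair (F := F) (fun z => ¬ z.1 = 0 ∧ (z.1 * z.1 = 1 ∧ z.2 ^ 3 = z.2)) (fun z hz => hz.1)
  rw [card_pairs_three] at h2
  simp only at h2
  rw [h2] at h1
  have hq : 1 ≤ Fintype.card F := Fintype.card_pos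
  obtain ⟨y, hy⟩ : ∃ y, Fintype.card F = y + 1 := ⟨Fintype.card F - 1, by omega⟩
  rw [hy] at h1 ⊢
  simp only [Nat.add_sub_cancel] at h1
  rw [mul_comm 2, ← h1]
  ring

/-! ### Involutions -/

omit [Fintype F] [CharP F 3] in
lemma card_or_disj {α : Type*} [Finite α] (P Q : α → Prop) (h : ∀ a, P a → ¬ Q a) :
    Nat.card {a // P a ∨ Q a} = Nat.card {a // P a} + Nat.card {a // Q a} := by
  rw [card_or]
  congr 1
  refine Nat.card_congr (Equiv.subtypeEquivRight ?_)
  intro a
  exact ⟨fun h1 => h1.2, fun h1 => ⟨fun h2 => h a h2 h1, h1⟩⟩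

omit [CharP F 3] in
lemma card_not (P : F → Prop) : Nat.card {a // ¬ P a} + Nat.card {a // P a} = Fintype.card F := by
  classical
  simp only [Nat.card_eq_fintype_card]
  have h1 := Fintype.card_subtype_compl P
  have h2 := Fintype.card_subtype_le P
  omega

/-- The monomial involution. -/
def XX : SL2 F := mk2 0 1 (-1) 0 (by ring)

omit [Fintype F] [CharP F 3] in
@[simp] lemma XX00 : ee (XX : SL2 F) 0 0 = 0 := rfl
omit [Fintype F] [CharP F 3] in
@[simp] lemma XX01 : ee (XX : SL2 F) 0 1 = 1 := rfl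
omit [Fintype F] [CharP F 3] in
@[simp] lemma XX10 : ee (XX : SL2 F) 1 0 = -1 := rfl
omit [Fintype F] [CharP F 3] in
@[simp] lemma XX11 : ee (XX : SL2 F) 1 1 = 0 := rfl

omit [Fintype F] [CharP F 3] in
lemma tr_XX : tr (XX : SL2 F) = 0 := by
  rw [ee_tr]
  simp

omit [Fintype F] [CharP F 3] in
lemma tr_XX_mul (Y : SL2 F) : tr (XX * Y) = ee Y 1 0 - ee Y 0 1 := by
  rw [ee_tr]
  simp only [ee_mul, XX00, XX01, XX10, XX11]
  ring

omit [Fintype F] [CharP F 3] in
lemma tr_mul_XX (Y : SL2 F) : tr (Y * XX) = ee Y 1 0 - ee Y 0 1 := by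
  rw [ee_tr]
  simp only [ee_mul, XX00, XX01, XX10, XX11]
  ring

omit [Fintype F] in
lemma XX_not_center : (XX : SL2 F) ∉ center (SL2 F) := by
  rw [not_center_iff]
  left
  simp

omit [Fintype F] in
lemma tr_XX_ne : tr (XX : SL2 F) * tr (XX : SL2 F) ≠ 4 := by
  rw [tr_XX, mul_zero, four_eq]
  exact zero_ne_one

lemma no_sq_sum (r : ℕ) (hodd : Odd r) (hF : Fintype.card F = 3 ^ r) (a b : F) (h : a * a + b * b = 0) : a = 0 ∧ b = 0 := by
  have hq : Fintype.card F % 4 = 3 := by
    rw [hF]
    obtain ⟨k, rfl⟩ := hodd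
    rw [pow_succ, pow_mul, Nat.mul_mod, Nat.pow_mod]
    norm_num
  have hn : ¬ IsSquare (-1 : F) := by
    rw [FiniteField.isSquare_neg_one_iff]
    simp [hq]
  by_cases hb : b = 0
  · subst hb
    refine ⟨?_, rfl⟩
    have : a * a = 0 := by linear_combination h
    exact mul_self_eq_zero.mp this
  · exfalso
    apply hn
    refine ⟨a / b, ?_⟩
    field_simp
    linear_combination -h

lemma card_n_one (r : ℕ) (hodd : Odd r) (hF : Fintype.card F = 3 ^ r) :
    Nat.card {w : F × F // w.1 * w.1 + w.2 * w.2 = 1} = Fintype.card F + 1 := by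
  have hi := no_sq_sum (F := F) r hodd hF
  have h := card_TT_nonsplit (XX : SL2 F) XX_not_center tr_XX_ne (by
    intro l hl
    rw [tr_XX] at hl
    have h1 := hi l 1 (by linear_combination hl)
    exact one_ne_zero h1.2)
  rw [← h]
  refine Nat.card_congr
    { toFun := fun w => ⟨mk2 w.1.1 (-w.1.2) w.1.2 w.1.1 (by have := w.2; linear_combination this), mem_TT.mpr ?_⟩
      invFun := fun Y => ⟨(ee Y.1 0 0, ee Y.1 1 0), ?_⟩
      left_inv := fun w => rfl
      right_inv := ?_ }
  · apply ee_ext <;> simp only [ee_mul, XX00, XX01, XX10, XX11] <;> simp only [ee, mk2_coe] <;> simp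
  · have h1 := mem_TT.mp Y.2
    have e01 := congrArg (fun A : SL2 F => ee A 0 0) h1
    have e11 := congrArg (fun A : SL2 F => ee A 0 1) h1
    simp only [ee_mul, XX00, XX01, XX10, XX11] at e01 e11
    have hd := ee_det Y.1
    change ee Y.1 0 0 * ee Y.1 0 0 + ee Y.1 1 0 * ee Y.1 1 0 = 1
    have e2 : ee Y.1 1 1 = ee Y.1 0 0 := by linear_combination -e11
    have e3 : ee Y.1 0 1 = - ee Y.1 1 0 := by linear_combination -e01
    rw [e2, e3] at hd
    linear_combination hd
  · rintro ⟨Y, hY⟩
    have h1 := mem_TT.mp hY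
    have e01 := congrArg (fun A : SL2 F => ee A 0 0) h1
    have e11 := congrArg (fun A : SL2 F => ee A 0 1) h1
    simp only [ee_mul, XX00, XX01, XX10, XX11] at e01 e11
    apply Subtype.ext
    apply ee_ext
    · rfl
    · change - ee Y 1 0 = ee Y 0 1
      linear_combination e01
    · rfl
    · change ee Y 0 0 = ee Y 1 1
      linear_combination e11

lemma card_n_ne (r : ℕ) (hodd : Odd r) (hF : Fintype.card F = 3 ^ r) {e : F} (he : e ≠ 0) :
    Nat.card {w : F × F // w.1 * w.1 + w.2 * w.2 = e} = Fintype.card F + 1 := by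
  rw [← card_n_one r hodd hF]
  obtain ⟨u, v, huv⟩ := exists_norm_eq (0 : F) (by rw [mul_zero, four_eq]; exact zero_ne_one) e he
  have huv' : u * u + v * v = e := by linear_combination huv
  refine Nat.card_congr
    { toFun := fun w => ⟨((w.1.1 * u + w.1.2 * v) / e, (w.1.2 * u - w.1.1 * v) / e), ?_⟩
      invFun := fun w => ⟨(w.1.1 * u - w.1.2 * v, w.1.1 * v + w.1.2 * u), ?_⟩
      left_inv := ?_
      right_inv := ?_ }
  · have := w.2
    change ((w.1.1 * u + w.1.2 * v) / e) * ((w.1.1 * u + w.1.2 * v) / e) + ((w.1.2 * u - w.1.1 * v) / e) * ((w.1.2 * u - w.1.1 * v) / e) = 1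
    field_simp
    linear_combination (u * u + v * v) * this + e * huv'
  · have := w.2
    change (w.1.1 * u - w.1.2 * v) * (w.1.1 * u - w.1.2 * v) + (w.1.1 * v + w.1.2 * u) * (w.1.1 * v + w.1.2 * u) = e
    linear_combination (u * u + v * v) * this + huv'
  · rintro ⟨⟨a, b⟩, hw⟩
    apply Subtype.ext
    apply Prod.ext
    · change (a * u + b * v) / e * u - (b * u - a * v) / e * v = a
      field_simp
      linear_combination a * huv'
    · change (a * u + b * v) / e * v + (b * u - a * v) / e * u = b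
      field_simp
      linear_combination b * huv'
  · rintro ⟨⟨a, b⟩, hw⟩
    apply Subtype.ext
    apply Prod.ext
    · change ((a * u - b * v) * u + (a * v + b * u) * v) / e = a
      field_simp
      linear_combination a * huv'
    · change ((a * v + b * u) * u - (a * u - b * v) * v) / e = b
      field_simp
      linear_combination b * huv'

lemma card_n_zero (r : ℕ) (hodd : Odd r) (hF : Fintype.card F = 3 ^ r) :
    Nat.card {w : F × F // w.1 * w.1 + w.2 * w.2 = 0} = 1 := by
  have hi := no_sq_sum (F := F) r hodd hF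
  rw [Nat.card_eq_one_iff_unique]
  refine ⟨⟨?_⟩, ⟨⟨(0, 0), by simp⟩⟩⟩
  rintro ⟨⟨a, b⟩, h1⟩ ⟨⟨c, d⟩, h2⟩
  obtain ⟨rfl, rfl⟩ := hi _ _ h1
  obtain ⟨rfl, rfl⟩ := hi _ _ h2
  rfl

omit [Fintype F] in
lemma two_mul_two : (2 : F) * 2 = 1 := by
  have := four_eq (F := F)
  linear_combination this

lemma card_fib_ts (t s : F) : Nat.card {Y : SL2 F // (tr Y, ee Y 1 0 - ee Y 0 1) = (t, s)} =
    Nat.card {w : F × F // w.1 * w.1 + w.2 * w.2 = t * t + s * s - 4} := by
  have h4 := four_eq (F := F)
  refine Nat.card_congr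
    { toFun := fun Y => ⟨(ee Y.1 0 0 - ee Y.1 1 1, ee Y.1 0 1 + ee Y.1 1 0), ?_⟩
      invFun := fun w => ⟨mk2 ((t + w.1.1) * 2) ((w.1.2 - s) * 2) ((w.1.2 + s) * 2) ((t - w.1.1) * 2) ?_, ?_⟩
      left_inv := ?_
      right_inv := ?_ }
  · obtain ⟨Y, hY⟩ := Y
    have h1 : tr Y = t := (Prod.ext_iff.mp hY).1
    have h2 : ee Y 1 0 - ee Y 0 1 = s := (Prod.ext_iff.mp hY).2
    have hd := ee_det Y
    rw [ee_tr] at h1
    change (ee Y 0 0 - ee Y 1 1) * (ee Y 0 0 - ee Y 1 1) + (ee Y 0 1 + ee Y 1 0) * (ee Y 0 1 + ee Y 1 0) = t * t + s * s - 4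
    rw [← h1, ← h2]
    linear_combination (-4) * hd
  · have h := w.2
    linear_combination (-4) * h + 5 * h4
  · have h := w.2
    rw [ee_tr]
    change ((t + w.1.1) * 2 + (t - w.1.1) * 2, (w.1.2 + s) * 2 - (w.1.2 - s) * 2) = (t, s)
    apply Prod.ext
    · change (t + w.1.1) * 2 + (t - w.1.1) * 2 = t
      linear_combination t * h4
    · change (w.1.2 + s) * 2 - (w.1.2 - s) * 2 = s
      linear_combination s * h4
  · rintro ⟨Y, hY⟩
    have h1 : tr Y = t := (Prod.ext_iff.mp hY).1
    have h2 : ee Y 1 0 - ee Y 0 1 = s := (Prod.ext_iff.mp hY).2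
    rw [ee_tr] at h1
    apply Subtype.ext
    apply ee_ext
    · change (t + (ee Y 0 0 - ee Y 1 1)) * 2 = ee Y 0 0
      rw [← h1]
      linear_combination (ee Y 0 0) * h4
    · change ((ee Y 0 1 + ee Y 1 0) - s) * 2 = ee Y 0 1
      rw [← h2]
      linear_combination (ee Y 0 1) * h4
    · change ((ee Y 0 1 + ee Y 1 0) + s) * 2 = ee Y 1 0
      rw [← h2]
      linear_combination (ee Y 1 0) * h4
    · change (t - (ee Y 0 0 - ee Y 1 1)) * 2 = ee Y 1 1
      rw [← h1]
      linear_combination (ee Y 1 1) * h4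
  · rintro ⟨⟨u, v⟩, hw⟩
    apply Subtype.ext
    apply Prod.ext
    · change (t + u) * 2 - (t - u) * 2 = u
      linear_combination u * h4
    · change (v - s) * 2 + (v + s) * 2 = v
      linear_combination v * h4

/-- The count of the pairs of traces. -/
lemma card_pairs_a (hq : 3 ≤ Fintype.card F) :
    Nat.card {z : F × F // ¬ (z.1 * z.1 + z.2 * z.2 = 1) ∧ (z.1 = 0 ∨ z.2 = 0 ∨ (z.1 * z.1 = 1 ∧ z.2 * z.2 = 1))} =
      2 * Fintype.card F - 1 := by
  have h10 : (1 : F) ≠ 0 := one_ne_zero
  have hiff : ∀ z : F × F, (¬ (z.1 * z.1 + z.2 * z.2 = 1) ∧ (z.1 = 0 ∨ z.2 = 0 ∨ (z.1 * z.1 = 1 ∧ z.2 * z.2 = 1))) ↔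
      ((z.1 = 0 ∧ ¬ z.2 * z.2 = 1) ∨ ((z.2 = 0 ∧ ¬ z.1 ^ 3 = z.1) ∨ (z.1 * z.1 = 1 ∧ z.2 * z.2 = 1))) := by
    rintro ⟨t, s⟩
    simp only
    constructor
    · rintro ⟨h1, h2 | h2 | h2⟩
      · left
        subst h2
        refine ⟨rfl, fun h => h1 (by linear_combination h)⟩
      · by_cases ht : t = 0
        · left
          subst ht
          subst h2
          refine ⟨rfl, fun h => h1 (by linear_combination h)⟩
        · right
          left
          subst h2
          refine ⟨rfl, fun h => h1 ?_⟩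
          have h3 : t * (t * t - 1) = 0 := by linear_combination h
          have h4 := (mul_eq_zero.mp h3).resolve_left ht
          linear_combination h4
      · exact Or.inr (Or.inr h2)
    · rintro (⟨h1, h2⟩ | ⟨h1, h2⟩ | ⟨h1, h2⟩)
      · subst h1
        exact ⟨fun h => h2 (by linear_combination h), Or.inl rfl⟩
      · subst h1
        exact ⟨fun h => h2 (by linear_combination t * h), Or.inr (Or.inl rfl)⟩
      · refine ⟨fun h => ?_, Or.inr (Or.inr ⟨h1, h2⟩)⟩
        apply h10
        rw [h1, h2] at h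
        linear_combination h
  rw [Nat.card_congr (Equiv.subtypeEquivRight hiff), card_or_disj, card_or_disj]
  · have e1 : Nat.card {z : F × F // z.1 = 0 ∧ ¬ z.2 * z.2 = 1} = Nat.card {s : F // ¬ s * s = 1} :=
      Nat.card_congr
        { toFun := fun z => ⟨z.1.2, z.2.2⟩
          invFun := fun s => ⟨(0, s.1), rfl, s.2⟩
          left_inv := by
            rintro ⟨⟨a, b⟩, h1, h2⟩
            simp only at h1
            subst h1
            rfl
          right_inv := fun s => rfl }
    have e2 : Nat.card {z : F × F // z.2 = 0 ∧ ¬ z.1 ^ 3 = z.1} = Nat.card {s : F // ¬ s ^ 3 = s} :=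
      Nat.card_congr
        { toFun := fun z => ⟨z.1.1, z.2.2⟩
          invFun := fun s => ⟨(s.1, 0), rfl, s.2⟩
          left_inv := by
            rintro ⟨⟨a, b⟩, h1, h2⟩
            simp only at h1
            subst h1
            rfl
          right_inv := fun s => rfl }
    have e3 : Nat.card {z : F × F // z.1 * z.1 = 1 ∧ z.2 * z.2 = 1} = Nat.card ({s : F // s * s = 1} × {s : F // s * s = 1}) :=
      Nat.card_congr
        { toFun := fun z => (⟨z.1.1, z.2.1⟩, ⟨z.1.2, z.2.2⟩)
          invFun := fun w => ⟨(w.1.1, w.2.1), w.1.2, w.2.2⟩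
          left_inv := fun z => rfl
          right_inv := fun w => rfl }
    have e4 := card_not (F := F) (fun s => s * s = 1)
    have e5 := card_not (F := F) (fun s => s ^ 3 = s)
    rw [card_sq_one] at e4
    rw [card_cube] at e5
    rw [e1, e2, e3, Nat.card_prod, card_sq_one]
    omega
  · rintro ⟨t, s⟩ ⟨h1, h2⟩ ⟨h3, h4⟩
    simp only at h1 h2 h3 h4
    subst h1
    rw [zero_mul] at h4
    exact h10 h4.symm
  · rintro ⟨t, s⟩ ⟨h1, h2⟩ (⟨h3, h4⟩ | ⟨h3, h4⟩)
    · simp only at h1 h2 h3 h4
      subst h1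
      exact h4 (by ring)
    · simp only at h1 h2 h3 h4
      subst h1
      rw [zero_mul] at h3
      exact h10 h3.symm

/-- The order of a Borel normalizer is not divisible by four... -/
lemma not_two_dvd_Nn (r : ℕ) (hodd : Odd r) (hF : Fintype.card F = 3 ^ r) {B : SL2 F} (hB : B ∉ center (SL2 F)) (ht : tr B * tr B = 4) :
    ¬ 2 ∣ Nat.card (Nn B) := by
  haveI : Fact (Nat.Prime 3) := ⟨Nat.prime_three⟩
  intro h
  have h1 := card_normalizer_parabolic 3 hB ht
  have hq : Fintype.card F % 4 = 3 := by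
    rw [hF]
    obtain ⟨k, rfl⟩ := hodd
    rw [pow_succ, pow_mul, Nat.mul_mod, Nat.pow_mod]
    norm_num
  have hd : Nat.gcd 2 (Fintype.card F - 1) = 2 := by
    apply Nat.gcd_eq_left
    exact ⟨(Fintype.card F - 1) / 2, by omega⟩
  rw [hd] at h1
  obtain ⟨k, hk⟩ := h
  change Nat.card (Nn B) = 2 * k at hk
  change 2 * Nat.card (Nn B) = _ at h1
  rw [hk] at h1
  obtain ⟨m, hm⟩ : ∃ m, Fintype.card F = 4 * m + 3 := ⟨Fintype.card F / 4, by omega⟩
  rw [hm] at h1
  have h2 : 4 * m + 3 - 1 = 4 * m + 2 := by omega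
  rw [h2] at h1
  have h3 : (4 * m + 3) * (4 * m + 2) = 4 * (4 * m * m + 5 * m + 1) + 2 := by ring
  rw [h3] at h1
  omega

/-- The solubilizer of an involution. -/
theorem card_sv_XX (r : ℕ) (hr : r.Prime) (hodd : Odd r) (hF : Fintype.card F = 3 ^ r) :
    Nat.card {y // Sv (proj (XX : SL2 F)) y} = Fintype.card F * (Fintype.card F + 1) := by
  classical
  haveI : Fact (Nat.Prime 3) := ⟨Nat.prime_three⟩
  have hi := no_sq_sum (F := F) r hodd hF
  have h4 := four_eq (F := F)
  have hq : Fintype.card F % 4 = 3 := by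
    rw [hF]
    obtain ⟨k, rfl⟩ := hodd
    rw [pow_succ, pow_mul, Nat.mul_mod, Nat.pow_mod]
    norm_num
  have hq3 : 3 ≤ Fintype.card F := by
    have := Nat.mod_le (Fintype.card F) 4
    omega
  have hd : Nat.gcd 2 (Fintype.card F - 1) = 2 := by
    apply Nat.gcd_eq_left
    exact ⟨(Fintype.card F - 1) / 2, by omega⟩
  have hX := XX_not_center (F := F)
  have htX := tr_XX_ne (F := F)
  have hx : proj (XX : SL2 F) * proj XX = 1 := sq_of_tr_zero tr_XX
  have hx1 : proj (XX : SL2 F) ≠ 1 := fun h => hX ((proj_eq_one_iff _).mp h)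
  have hord : orderOf (proj (XX : SL2 F)) = 2 := orderOf_eq_prime (by rw [pow_two]; exact hx) hx1
  have key : ∀ Y : SL2 F, Sv (proj (XX : SL2 F)) (proj Y) ↔
      ((tr Y * tr Y + (ee Y 1 0 - ee Y 0 1) * (ee Y 1 0 - ee Y 0 1) = 1) ∨
        (tr Y = 0 ∨ ee Y 1 0 - ee Y 0 1 = 0 ∨ (tr Y * tr Y = 1 ∧ (ee Y 1 0 - ee Y 0 1) * (ee Y 1 0 - ee Y 0 1) = 1))) := by
    intro Y
    have hdet := ee_det Y
    have htt := ee_tr Y
    constructor
    · intro h
      rcases sv_cases_three r hr hodd hF h with ⟨B, hB, hxB, hyB⟩ | ⟨M, hxM, hyM, hM⟩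
      · by_cases htB : tr B * tr B = 4
        · exfalso
          apply not_two_dvd_Nn r hodd hF hB htB
          have h1 := orderOf_dvd_of_mem_Nn hxB
          rwa [hord] at h1
        · have hss := isSS_of 3 hB htB
          by_cases hm : proj (XX : SL2 F) ∈ MM (proj B)
          · have hB1 : proj B ≠ 1 := fun h' => hB ((proj_eq_one_iff B).mp h')
            have e : MM (proj (XX : SL2 F)) = MM (proj B) := dpart.eq_of_mem _ _ hB1 hx1 hm
            have hyX : proj Y ∈ Nn (XX : SL2 F) := by
              change proj Y ∈ normalizer _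
              rw [e]
              exact hyB
            rcases conj_cases hX htX (normalizer_comm hyX) (tr_conj Y XX) with h1 | h1
            · left
              have h2 : Y * XX = XX * Y := mul_inv_eq_iff_eq_mul.mp h1
              have e01 := congrArg (fun A : SL2 F => ee A 0 0) h2
              have e11 := congrArg (fun A : SL2 F => ee A 0 1) h2
              simp only [ee_mul, XX00, XX01, XX10, XX11] at e01 e11
              rw [htt]
              have e2 : ee Y 1 1 = ee Y 0 0 := by linear_combination -e11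
              have e3 : ee Y 0 1 = - ee Y 1 0 := by linear_combination -e01
              rw [e2, e3] at hdet ⊢
              linear_combination 4 * hdet + h4
            · right
              left
              have h2 : Y * XX = XX⁻¹ * Y := mul_inv_eq_iff_eq_mul.mp h1
              have e01 := congrArg (fun A : SL2 F => ee A 0 1) h2
              simp only [ee_mul, XX00, XX01, XX10, XX11, ee_inv00, ee_inv01, ee_inv10, ee_inv11] at e01
              rw [htt]
              linear_combination e01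
          · obtain ⟨h1, h2⟩ := hss.outer _ hxB hm
            right
            by_cases hyM : proj Y ∈ MM (proj B)
            · right
              left
              have h5 : proj (XX * Y) * proj (XX * Y) = 1 := by
                rw [map_mul]
                exact mul_sq_of_inverting hx (h2 _ hyM)
              rcases tr_or_center_of_sq h5 with h6 | h6
              · rwa [tr_XX_mul] at h6
              · exfalso
                have h7 : proj XX * proj Y = 1 := by
                  rw [← map_mul]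
                  exact (proj_eq_one_iff _).mpr h6
                have h8 : proj (XX : SL2 F) = (proj Y)⁻¹ := eq_inv_of_mul_eq_one_left h7
                apply hm
                rw [h8]
                exact inv_mem hyM
            · left
              rcases tr_or_center_of_sq (hss.outer _ hyB hyM).1 with h6 | h6
              · exact h6
              · exfalso
                apply hyM
                rw [(proj_eq_one_iff _).mpr h6]
                exact one_mem _
      · right
        have h1 := cube_tr_of_elt (hM _ hyM)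
        have h2 : proj (XX * Y) ^ 2 = 1 ∨ proj (XX * Y) ^ 3 = 1 := by
          rw [map_mul]
          exact hM _ (mul_mem hxM hyM)
        have h3 := cube_tr_of_elt h2
        rw [tr_XX_mul] at h3
        by_cases h5 : tr Y = 0
        · exact Or.inl h5
        · by_cases h6 : ee Y 1 0 - ee Y 0 1 = 0
          · exact Or.inr (Or.inl h6)
          · refine Or.inr (Or.inr ⟨?_, ?_⟩)
            · have h7 : tr Y * (tr Y * tr Y - 1) = 0 := by linear_combination h1
              have h8 := (mul_eq_zero.mp h7).resolve_left h5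
              linear_combination h8
            · have h7 : (ee Y 1 0 - ee Y 0 1) * ((ee Y 1 0 - ee Y 0 1) * (ee Y 1 0 - ee Y 0 1) - 1) = 0 := by linear_combination h3
              have h8 := (mul_eq_zero.mp h7).resolve_left h6
              linear_combination h8
    · rintro (h | h | h | ⟨h, h'⟩)
      · -- the centralizer
        apply sv_of_commute
        rw [← map_mul, ← map_mul]
        congr 1
        rw [htt] at h
        have h1 : (ee Y 0 0 - ee Y 1 1) * (ee Y 0 0 - ee Y 1 1) + (ee Y 0 1 + ee Y 1 0) * (ee Y 0 1 + ee Y 1 0) = 0 := by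
          linear_combination h - 4 * hdet - h4
        obtain ⟨h2, h3⟩ := hi _ _ h1
        have e2 : ee Y 1 1 = ee Y 0 0 := by linear_combination -h2
        have e3 : ee Y 0 1 = - ee Y 1 0 := by linear_combination h3
        apply ee_ext <;> simp only [ee_mul, XX00, XX01, XX10, XX11, e2, e3] <;> ring
      · exact sv_of_invol 3 hx (sq_of_tr_zero h)
      · refine sv_of_mul_sq 3 hx ?_
        rw [← map_mul]
        apply sq_of_tr_zero
        rwa [tr_XX_mul]
      · -- two elements of order three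
        have hY : Y ∉ center (SL2 F) := by
          intro hc
          rw [mem_center_iff''] at hc
          rw [hc.1, hc.2.1, sub_zero, zero_mul] at h'
          exact zero_ne_one h'
        have htY : tr Y * tr Y = 4 := by rw [h, h4]
        obtain ⟨θ, hθ, hθZ⟩ := exists_theta_uu hY htY
        obtain ⟨Z', h1, h2, h3⟩ := hθZ XX
        apply sv_comm
        rw [← sv_map θ, hθ, h1]
        apply sv_uu_of_pair
        · rw [tr_uu_mul, one_mul, h2, tr_XX, zero_add, tr_mul_XX, h'] at h3
          exact h3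
        · rw [h2, tr_XX]
          ring
  have h1 := card_preimage (fun y : PSL2 F => Sv (proj (XX : SL2 F)) y)
  rw [hd, Nat.card_congr (Equiv.subtypeEquivRight key)] at h1
  let f : SL2 F → F × F := fun Y => (tr Y, ee Y 1 0 - ee Y 0 1)
  have h2 : Nat.card {Y : SL2 F // (tr Y * tr Y + (ee Y 1 0 - ee Y 0 1) * (ee Y 1 0 - ee Y 0 1) = 1)} = Fintype.card F + 1 := by
    have := card_fiberwise f (fun z => z.1 * z.1 + z.2 * z.2 = 1) 1 (by
      rintro ⟨t, s⟩ hz
      simp only at hz
      have := card_fib_ts (F := F) t s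
      rw [this, hz]
      have h0 : (1 : F) - 4 = 0 := by linear_combination -h4
      rw [h0]
      exact card_n_zero r hodd hF)
    simp only [f] at this
    rw [this, mul_one]
    exact card_n_one r hodd hF
  have h3 : Nat.card {Y : SL2 F // ¬ (tr Y * tr Y + (ee Y 1 0 - ee Y 0 1) * (ee Y 1 0 - ee Y 0 1) = 1) ∧
      (tr Y = 0 ∨ ee Y 1 0 - ee Y 0 1 = 0 ∨ (tr Y * tr Y = 1 ∧ (ee Y 1 0 - ee Y 0 1) * (ee Y 1 0 - ee Y 0 1) = 1))} =
      (2 * Fintype.card F - 1) * (Fintype.card F + 1) := by
    have := card_fiberwise f (fun z => ¬ (z.1 * z.1 + z.2 * z.2 = 1) ∧ (z.1 = 0 ∨ z.2 = 0 ∨ (z.1 * z.1 = 1 ∧ z.2 * z.2 = 1))) (Fintype.card F + 1) (by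
      rintro ⟨t, s⟩ ⟨hz, -⟩
      simp only at hz
      have := card_fib_ts (F := F) t s
      rw [this]
      apply card_n_ne r hodd hF
      intro h0
      apply hz
      linear_combination h0 + h4)
    simp only [f] at this
    rw [this, card_pairs_a hq3]
  rw [card_or, h2, h3] at h1
  have h5 : 1 ≤ Fintype.card F := Fintype.card_pos
  obtain ⟨y, hy⟩ : ∃ y, Fintype.card F = y + 1 := ⟨Fintype.card F - 1, by omega⟩
  rw [hy] at h1 ⊢
  have h6 : 2 * (y + 1) - 1 = 2 * y + 1 := by omega
  rw [h6] at h1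
  have h7 : (y + 1 + 1) + (2 * y + 1) * (y + 1 + 1) = ((y + 1) * (y + 1 + 1)) * 2 := by ring
  rw [h7] at h1
  omega

end Cfsg.Agent.Lib.PSL2SolubT
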