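import Mathlib
import Cfsg.Agent.Lib.PSLFusionBasic
import Cfsg.Agent.Lib.FusionSimpleGen
import Cfsg.Agent.Lib.PuigBasic
import Cfsg.Agent.Lib.FusionAlperin

set_option autoImplicit false
set_option linter.unusedSectionVars false
set_option linter.style.haveILetI false

/-!
# The `p`-fusion system of `PSL_n(K)`, `n ≥ 3`, in defining characteristic is simple
-/

namespace Cfsg.Agent.Lib.PSLFusion

open Matrix Cfsg.Agent.Lib.SLSpec Cfsg.Agent.Lib.PSLFusionBasic Cfsg.Agent.Lib.FusionSimpleCrit
  Cfsg.Agent.Lib.FusionSimpleGen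

variable {K : Type*} [Field K] {n : ℕ}

local notation "SL'" => Matrix.SpecialLinearGroup (Fin n) K
local notation "PSL'" => Matrix.ProjectiveSpecialLinearGroup (Fin n) K
local notation "x'" => Matrix.SpecialLinearGroup.transvection

variable [Finite K]

/-- The image of `U` in `PSL_n(K)`. -/
def Ubar (K : Type*) [Field K] [Finite K] (n : ℕ) : Subgroup (Matrix.ProjectiveSpecialLinearGroup (Fin n) K) :=
  (U K n).map proj

theorem proj_mem_Ubar {u : SL'} (hu : u ∈ U K n) : proj u ∈ Ubar K n := ⟨u, hu, rfl⟩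

instance instFinitePSL : Finite PSL' := by
  classical
  exact Finite.of_surjective (proj (F := K) (n := n)) proj_surjective

theorem isPGroup_Ubar (p : ℕ) [Fact p.Prime] [CharP K p] : IsPGroup p (Ubar K n) := by
  rintro ⟨_, u, hu, rfl⟩
  obtain ⟨m, hm⟩ := pow_eq_one_of_mem_U p hu
  refine ⟨m, Subtype.ext ?_⟩
  show (proj u) ^ p ^ m = 1
  rw [← map_pow, hm, map_one]

/-- If a matrix conjugates `U` (backwards) into itself then it is upper triangular. -/
theorem upper_of_normalizes {A : SL'} (h : ∀ u ∈ U K n, A⁻¹ * u * A ∈ U K n) :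
    ∀ i j, j < i → (A : Matrix (Fin n) (Fin n) K) i j = 0 := by
  have key : ∀ (m : ℕ) (k : Fin n), (k : ℕ) = m → ∀ l, k < l → (A : Matrix (Fin n) (Fin n) K) l k = 0 := by
    intro m
    induction m using Nat.strong_induction_on with
    | _ m ih =>
      intro k hk l hkl
      have hne : k ≠ l := ne_of_lt hkl
      have hY := h _ (transvection_mem_U hne hkl 1)
      set Y : SL' := A⁻¹ * x' hne 1 * A with hYdef
      have h1 : x' hne (1 : K) * A = A * Y := by
        rw [hYdef]; group
      have h2 : (Matrix.transvection k l (1 : K)) * (A : Matrix (Fin n) (Fin n) K) =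
          (A : Matrix (Fin n) (Fin n) K) * (Y : Matrix (Fin n) (Fin n) K) := congrArg Subtype.val h1
      have h3 := congrFun (congrFun h2 k) k
      rw [Matrix.transvection_mul_apply_same, Matrix.mul_apply, Finset.sum_eq_single k] at h3
      · rw [hY.2, one_mul, mul_one] at h3
        simpa using h3
      · intro j _ hj
        rcases lt_or_gt_of_ne hj with hlt | hlt
        · rw [ih j (by rw [← hk]; exact hlt) j rfl k hlt, zero_mul]
        · rw [hY.1 j k hlt, mul_zero]
      · simp
  intro i j hij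
  exact key j j rfl i hij

/-- Normalizing the image of `U` lifts to normalizing `U`. -/
theorem conj_mem_U_of_normalizes (p : ℕ) [Fact p.Prime] [CharP K p] {A : SL'}
    (hA : ∀ s ∈ Ubar K n, proj A * s * (proj A)⁻¹ ∈ Ubar K n) : ∀ u ∈ U K n, A * u * A⁻¹ ∈ U K n := by
  intro u hu
  obtain ⟨v, hv, hve⟩ := hA _ (proj_mem_Ubar hu)
  obtain ⟨m, hm⟩ := pow_eq_one_of_mem_U p hu
  obtain ⟨m', hm'⟩ := pow_eq_one_of_mem_U p hv
  have h1 : proj (A * u * A⁻¹) = proj v := by
    rw [map_mul, map_mul, map_inv]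
    exact hve.symm
  have h2 : (A * u * A⁻¹) ^ p ^ m = 1 := by
    rw [conj_pow, hm]; group
  rw [eq_of_proj_eq p h1 h2 hm']
  exact hv

theorem upper_of_proj_normalizes (p : ℕ) [Fact p.Prime] [CharP K p] {A : SL'}
    (hA : ∀ s ∈ Ubar K n, proj A * s * (proj A)⁻¹ ∈ Ubar K n) :
    ∀ i j, j < i → (A : Matrix (Fin n) (Fin n) K) i j = 0 := by
  apply upper_of_normalizes
  exact conj_inv_mem_of_finite (U K n : Set SL') (conj_mem_U_of_normalizes p hA)

/-- An element of `SL` which is upper triangular with constant diagonal is a scalar times an element of `U`. -/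
theorem exists_scalar_factor (hn : 0 < n) {A : SL'} {a : K} (hup : ∀ i j, j < i → (A : Matrix (Fin n) (Fin n) K) i j = 0)
    (hd : ∀ i, (A : Matrix (Fin n) (Fin n) K) i i = a) :
    ∃ w : SL', w ∈ U K n ∧ proj w = proj A ∧ (w : Matrix (Fin n) (Fin n) K) = a⁻¹ • (A : Matrix (Fin n) (Fin n) K) := by
  have hdet : a ^ n = 1 := by
    have h0 : (A : Matrix (Fin n) (Fin n) K).BlockTriangular id := fun i j h => hup i j h
    have h1 := Matrix.det_of_isUpperTriangular h0
    rw [A.2] at h1
    simp only [hd, Finset.prod_const, Finset.card_univ, Fintype.card_fin] at h1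
    exact h1.symm
  have ha : a ≠ 0 := by
    rintro rfl
    rw [zero_pow hn.ne'] at hdet
    exact zero_ne_one hdet
  have hw : (a⁻¹ • (A : Matrix (Fin n) (Fin n) K)).det = 1 := by
    rw [Matrix.det_smul, A.2, Fintype.card_fin, inv_pow, hdet]
    simp
  let w : SL' := ⟨a⁻¹ • (A : Matrix (Fin n) (Fin n) K), hw⟩
  have hwU : w ∈ U K n := by
    refine ⟨fun i j hij => ?_, fun i => ?_⟩
    · show (a⁻¹ • (A : Matrix (Fin n) (Fin n) K)) i j = 0
      rw [Matrix.smul_apply, hup i j hij, smul_zero]
    · show (a⁻¹ • (A : Matrix (Fin n) (Fin n) K)) i i = 1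
      rw [Matrix.smul_apply, hd, smul_eq_mul, inv_mul_cancel₀ ha]
  refine ⟨w, hwU, ?_, rfl⟩
  have hz : ((A * w⁻¹ : SL') : Matrix (Fin n) (Fin n) K) = a • 1 := by
    have h1 : (A * w⁻¹ : SL') * w = A := by group
    have h2 : ((A * w⁻¹ : SL') : Matrix (Fin n) (Fin n) K) * (a⁻¹ • (A : Matrix (Fin n) (Fin n) K)) =
        (A : Matrix (Fin n) (Fin n) K) := congrArg Subtype.val h1
    have h3 := congrArg (fun M : Matrix (Fin n) (Fin n) K => a • (M * (A⁻¹ : SL').1)) h2
    have h4 : (A : Matrix (Fin n) (Fin n) K) * ((A⁻¹ : SL') : Matrix (Fin n) (Fin n) K) = 1 := by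
      have := congrArg Subtype.val (mul_inv_cancel A)
      exact this
    simp only [Matrix.mul_smul, Matrix.smul_mul, Matrix.mul_assoc, h4, Matrix.mul_one, smul_smul,
      mul_inv_cancel₀ ha, one_smul] at h3
    exact h3
  have hc := mem_center_of_scalar _ a hz
  rw [← proj_eq_one_iff, map_mul, map_inv, mul_inv_eq_one] at hc
  exact hc.symm

/-- Elements of `SL_n(K)` that are diagonal matrices are generated by the adjacent elements `diag2n`. -/
theorem diag_mem_of (H : Subgroup SL')
    (hH : ∀ (i j : Fin n) (hij : i ≠ j), (i : ℕ) + 1 = j → ∀ (a : K) (ha : a ≠ 0),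
      Matrix.SpecialLinearGroup.diag2n hij a ha ∈ H) (w : SL') (d : Fin n → K)
    (hw : (w : Matrix (Fin n) (Fin n) K) = Matrix.diagonal d) : w ∈ H := by
  classical
  have key : ∀ (m k : ℕ), k + m = n → ∀ (w : SL') (d : Fin n → K),
      (w : Matrix (Fin n) (Fin n) K) = Matrix.diagonal d → (∀ i : Fin n, (i : ℕ) < k → d i = 1) → w ∈ H := by
    intro m
    induction m with
    | zero =>
      intro k hk w d hw hd
      have h1 : w = 1 := by
        apply Subtype.ext
        rw [hw, show d = fun _ => 1 from funext fun i => hd i (by have := i.2; omega)]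
        exact Matrix.diagonal_one
      rw [h1]
      exact H.one_mem
    | succ m ih =>
      intro k hk w d hw hd
      have hdet : ∏ i, d i = 1 := by
        have := w.2
        rwa [hw, Matrix.det_diagonal] at this
      have hne : ∀ i, d i ≠ 0 := by
        intro i hi
        have : ∏ i, d i = 0 := Finset.prod_eq_zero (Finset.mem_univ i) hi
        rw [this] at hdet
        exact zero_ne_one hdet
      have hkn : k < n := by omega
      by_cases hk1 : k + 1 = n
      · refine ih (k + 1) (by omega) w d hw ?_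
        intro i hi
        by_cases h : (i : ℕ) < k
        · exact hd i h
        · have hi' : i = ⟨k, hkn⟩ := Fin.ext (by simp; omega)
          rw [hi']
          rw [Finset.prod_eq_single (⟨k, hkn⟩ : Fin n)] at hdet
          · exact hdet
          · intro b _ hb
            apply hd b
            have h1 : (b : ℕ) ≠ k := fun h' => hb (Fin.ext h')
            have h2 := b.2
            omega
          · simp
      · have hk2 : k + 1 < n := by omega
        let ik : Fin n := ⟨k, hkn⟩
        let il : Fin n := ⟨k + 1, hk2⟩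
        have hne' : ik ≠ il := by
          intro h
          have := congrArg Fin.val h
          simp [ik, il] at this
        let t := Matrix.SpecialLinearGroup.diag2n hne' (d ik)⁻¹ (inv_ne_zero (hne ik))
        have ht : t ∈ H := hH ik il hne' rfl _ _
        have h1 : t * w ∈ H := by
          refine ih (k + 1) (by omega) (t * w) (fun i => (if i = ik then (d ik)⁻¹ else if i = il then (d ik)⁻¹⁻¹ else 1) * d i) ?_ ?_
          · show (t : Matrix (Fin n) (Fin n) K) * (w : Matrix (Fin n) (Fin n) K) = _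
            rw [hw, Matrix.SpecialLinearGroup.diag2n_coe, Matrix.diagonal_mul_diagonal]
          · intro i hi
            by_cases h : i = ik
            · subst h
              simp only [if_true]
              exact inv_mul_cancel₀ (hne ik)
            · have h3 : (i : ℕ) < k := by
                have : (i : ℕ) ≠ k := fun h' => h (Fin.ext h')
                omega
              have h4 : i ≠ il := by
                intro h'
                have := congrArg Fin.val h'
                simp [il] at this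
                omega
              simp only [if_neg h, if_neg h4, one_mul]
              exact hd i h3
        have h2 : w = t⁻¹ * (t * w) := by group
        rw [h2]
        exact H.mul_mem (H.inv_mem ht) h1
  exact key n 0 (by omega) w d hw (fun i hi => absurd hi (Nat.not_lt_zero _))


/-- The inverse of a diagonal element. -/
theorem diag_inv_apply {D : SL'} {d : Fin n → K} (hD : (D : Matrix (Fin n) (Fin n) K) = Matrix.diagonal d) (r s : Fin n) :
    ((D⁻¹ : SL') : Matrix (Fin n) (Fin n) K) r s = if r = s then (d s)⁻¹ else 0 := by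
  have h1 : ((D⁻¹ : SL') : Matrix (Fin n) (Fin n) K) * (D : Matrix (Fin n) (Fin n) K) = 1 :=
    congrArg Subtype.val (inv_mul_cancel D)
  rw [hD] at h1
  have hne : ∀ s, d s ≠ 0 := by
    intro s hs
    have h2 := congrFun (congrFun h1 s) s
    rw [Matrix.mul_diagonal, hs, mul_zero, Matrix.one_apply_eq] at h2
    exact zero_ne_one h2
  have h2 := congrFun (congrFun h1 r) s
  rw [Matrix.mul_diagonal] at h2
  by_cases h : r = s
  · subst h
    rw [if_pos rfl]
    rw [Matrix.one_apply_eq] at h2
    exact eq_inv_of_mul_eq_one_left h2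
  · rw [if_neg h]
    rw [Matrix.one_apply_ne h] at h2
    exact (mul_eq_zero.mp h2).resolve_right (hne s)

/-- Diagonal elements normalize `U`. -/
theorem diag_conj_mem_U {D : SL'} {d : Fin n → K} (hD : (D : Matrix (Fin n) (Fin n) K) = Matrix.diagonal d)
    {u : SL'} (hu : u ∈ U K n) : D * u * D⁻¹ ∈ U K n := by
  have hne : ∀ s, d s ≠ 0 := by
    intro s hs
    have h1 : ((D⁻¹ : SL') : Matrix (Fin n) (Fin n) K) * (D : Matrix (Fin n) (Fin n) K) = 1 :=
      congrArg Subtype.val (inv_mul_cancel D)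
    rw [hD] at h1
    have h2 := congrFun (congrFun h1 s) s
    rw [Matrix.mul_diagonal, hs, mul_zero, Matrix.one_apply_eq] at h2
    exact zero_ne_one h2
  have hap : ∀ r s, ((D * u * D⁻¹ : SL') : Matrix (Fin n) (Fin n) K) r s =
      d r * (u : Matrix (Fin n) (Fin n) K) r s * (d s)⁻¹ := by
    intro r s
    have h1 : ((D * u * D⁻¹ : SL') : Matrix (Fin n) (Fin n) K) =
        (D : Matrix (Fin n) (Fin n) K) * (u : Matrix (Fin n) (Fin n) K) * ((D⁻¹ : SL') : Matrix (Fin n) (Fin n) K) := rfl
    rw [h1, Matrix.mul_apply, Finset.sum_eq_single s]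
    · rw [diag_inv_apply hD, if_pos rfl, hD, Matrix.diagonal_mul]
    · intro b _ hb
      rw [diag_inv_apply hD, if_neg hb, mul_zero]
    · simp
  refine ⟨fun r s hrs => ?_, fun r => ?_⟩
  · rw [hap, hu.1 r s hrs]
    simp
  · rw [hap, hu.2, mul_one, mul_inv_cancel₀ (hne r)]

/-- The subgroup of `U` with vanishing `(i, j)` entry, for adjacent `i`, `j`. -/
def Rt (K : Type*) [Field K] [Finite K] {n : ℕ} (i j : Fin n) (hij : (i : ℕ) + 1 = j) :
    Subgroup (Matrix.SpecialLinearGroup (Fin n) K) :=
  let M : Submonoid (Matrix.SpecialLinearGroup (Fin n) K) :=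
    { carrier := {A | IsUni (A : Matrix (Fin n) (Fin n) K) ∧ (A : Matrix (Fin n) (Fin n) K) i j = 0}
      one_mem' := ⟨IsUni.one, by
        apply Matrix.one_apply_ne
        intro h
        have := congrArg Fin.val h
        omega⟩
      mul_mem' := by
        rintro A B ⟨hA, hA0⟩ ⟨hB, hB0⟩
        refine ⟨IsUni.mul hA hB, ?_⟩
        show ((A : Matrix (Fin n) (Fin n) K) * (B : Matrix (Fin n) (Fin n) K)) i j = 0
        rw [Matrix.mul_apply]
        refine Finset.sum_eq_zero fun l _ => ?_
        by_cases h1 : l < i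
        · rw [hA.1 i l h1, zero_mul]
        by_cases h2 : j < l
        · rw [hB.1 l j h2, mul_zero]
        have h3 : l = i ∨ l = j := by
          rw [not_lt, Fin.le_def] at h1 h2
          rcases Nat.lt_or_ge (l : ℕ) j with h | h
          · left; apply Fin.ext; omega
          · right; apply Fin.ext; omega
        rcases h3 with rfl | rfl
        · rw [hB0, mul_zero]
        · rw [hA0, zero_mul] }
  { M with
    inv_mem' := by
      intro A hA
      exact inv_mem_of_finite M hA }

theorem mem_Rt {i j : Fin n} {hij : (i : ℕ) + 1 = j} {A : SL'} :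
    A ∈ Rt K i j hij ↔ IsUni (A : Matrix (Fin n) (Fin n) K) ∧ (A : Matrix (Fin n) (Fin n) K) i j = 0 := Iff.rfl

theorem Rt_le {i j : Fin n} {hij : (i : ℕ) + 1 = j} : Rt K i j hij ≤ U K n := fun _ h => h.1

/-- Transvections normalize `Rt` -/
theorem transvection_conj_mem_Rt {i j : Fin n} (hij : (i : ℕ) + 1 = j) (hne : i ≠ j) (b : K) {u : SL'}
    (hu : u ∈ Rt K i j hij) : x' hne b * u * (x' hne b)⁻¹ ∈ Rt K i j hij := by
  have hlt : i < j := Fin.lt_def.mpr (by omega)
  refine ⟨?_, ?_⟩
  · have hx := transvection_mem_U hne hlt b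
    exact (U K n).mul_mem ((U K n).mul_mem hx hu.1) ((U K n).inv_mem hx)
  · rw [conj_transvection_apply]
    simp [hu.2, hu.1.2, hu.1.1 j i hlt]

theorem transvection_conj_mem_Rt' {i j : Fin n} (hij : (i : ℕ) + 1 = j) (hne : j ≠ i) (b : K) {u : SL'}
    (hu : u ∈ Rt K i j hij) : x' hne b * u * (x' hne b)⁻¹ ∈ Rt K i j hij := by
  have hlt : i < j := Fin.lt_def.mpr (by omega)
  obtain ⟨⟨hu1, hu2⟩, hu0⟩ := hu
  refine ⟨⟨fun r s hrs => ?_, fun r => ?_⟩, ?_⟩
  · rw [conj_transvection_apply, hu1 r s hrs]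
    by_cases hr : r = j
    · subst hr
      by_cases hs : s = i
      · subst hs
        simp [hu2, hu0]
      · have hsi : s < i := by
          rw [Fin.lt_def] at hrs ⊢
          have : (s : ℕ) ≠ i := fun h => hs (Fin.ext h)
          omega
        simp [hu1 i s hsi, hs]
    · by_cases hs : s = i
      · subst hs
        have hjr : j < r := by
          rw [Fin.lt_def] at hrs ⊢
          have : (r : ℕ) ≠ j := fun h => hr (Fin.ext h)
          omega
        simp [hr, hu1 r j hjr]
      · simp [hr, hs]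
  · rw [conj_transvection_apply, hu2]
    by_cases hr : r = j
    · subst hr
      simp [hu0, hne]
    · by_cases hs : r = i
      · subst hs
        simp [hr, hu0]
      · simp [hr, hs]
  · rw [conj_transvection_apply, hu0]
    have h1 : i ≠ j := hne.symm
    simp [h1, hne]

/-- `x` normalizing a subgroup of `SL` gives `proj x` normalizing its image. -/
theorem proj_mem_normalizer {H : Subgroup SL'} {x : SL'} (h : ∀ u ∈ H, x * u * x⁻¹ ∈ H) :
    proj x ∈ Subgroup.normalizer ((H.map proj : Subgroup PSL') : Set PSL') := by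
  have h' := conj_inv_mem_of_finite (H : Set SL') h
  rw [Subgroup.mem_normalizer_iff]
  intro y
  constructor
  · rintro ⟨u, hu, rfl⟩
    exact ⟨_, h u hu, by rw [map_mul, map_mul, map_inv]⟩
  · rintro ⟨v, hv, hve⟩
    refine ⟨_, h' v hv, ?_⟩
    rw [map_mul, map_mul, map_inv, hve]
    group

theorem transvection_pow {i j : Fin n} (hne : i ≠ j) (b : K) (m : ℕ) :
    (x' hne b) ^ m = x' hne ((m : K) * b) := by
  induction m with
  | zero => simp
  | succ m ih =>
    rw [pow_succ, ih, ← SpecialLinearGroup.transvection_add]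
    congr 1
    push_cast
    ring


/-- The image of an elementary transvection has `p`-power order. -/
theorem orderOf_proj_transvection (p : ℕ) [hp : Fact p.Prime] [CharP K p] {i j : Fin n} (hne : i ≠ j) (b : K) :
    ∃ k : ℕ, orderOf (proj (x' hne b)) = p ^ k := by
  have h1 : (proj (x' hne b)) ^ p = 1 := by
    rw [← map_pow, transvection_pow, CharP.cast_eq_zero, zero_mul, SpecialLinearGroup.transvection_coeff_zero, map_one]
  rcases (Nat.dvd_prime hp.out).mp (orderOf_dvd_of_pow_eq_one h1) with h | h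
  · exact ⟨0, by simpa using h⟩
  · exact ⟨1, by simpa using h⟩

/-- The adjacent diagonal elements are `p`-generated in the normalizer of `Rt`. -/
theorem diag_mem_closure (p : ℕ) [hp : Fact p.Prime] [CharP K p] {i j : Fin n} (hij : (i : ℕ) + 1 = j) (hne : i ≠ j)
    (a : K) (ha : a ≠ 0) :
    proj (Matrix.SpecialLinearGroup.diag2n hne a ha) ∈ Subgroup.closure {w : PSL' |
      w ∈ Subgroup.normalizer (((Rt K i j hij).map proj : Subgroup PSL') : Set PSL') ∧ ∃ k : ℕ, orderOf w = p ^ k} := by
  have h1 : ∀ b : K, proj (x' hne b) ∈ Subgroup.closure {w : PSL' |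
      w ∈ Subgroup.normalizer (((Rt K i j hij).map proj : Subgroup PSL') : Set PSL') ∧ ∃ k : ℕ, orderOf w = p ^ k} :=
    fun b => Subgroup.subset_closure ⟨proj_mem_normalizer fun u hu => transvection_conj_mem_Rt hij hne b hu,
      orderOf_proj_transvection p hne b⟩
  have h2 : ∀ b : K, proj (x' hne.symm b) ∈ Subgroup.closure {w : PSL' |
      w ∈ Subgroup.normalizer (((Rt K i j hij).map proj : Subgroup PSL') : Set PSL') ∧ ∃ k : ℕ, orderOf w = p ^ k} :=
    fun b => Subgroup.subset_closure ⟨proj_mem_normalizer fun u hu => transvection_conj_mem_Rt' hij hne.symm b hu,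
      orderOf_proj_transvection p hne.symm b⟩
  rw [Cfsg.Agent.Lib.ClassicalSL.diag2n_eq_prod hne a ha]
  simp only [map_mul]
  exact mul_mem (mul_mem (mul_mem (mul_mem (mul_mem (h1 _) (h2 _)) (h1 _)) (h1 _)) (h2 _)) (h1 _)

/-- The subgroup `Rt` is self-centralizing modulo the center. -/
theorem selfCentralizing (p : ℕ) [Fact p.Prime] [CharP K p] (hn : 3 ≤ n) {i j : Fin n} (hij : (i : ℕ) + 1 = j)
    (c : PSL') (hc : ∀ r ∈ ((Rt K i j hij).map proj : Subgroup PSL'), c * r = r * c) :
    c ∈ ((Rt K i j hij).map proj : Subgroup PSL') := by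
  classical
  obtain ⟨A, rfl⟩ := proj_surjective c
  have hallow : ∀ (r s : Fin n), r < s → ¬ (r = i ∧ s = j) →
      (∀ t, t ≠ s → (A : Matrix (Fin n) (Fin n) K) s t = 0) ∧
      (∀ t, t ≠ r → (A : Matrix (Fin n) (Fin n) K) t r = 0) ∧
      (A : Matrix (Fin n) (Fin n) K) r r = (A : Matrix (Fin n) (Fin n) K) s s := by
    intro r s hrs hnot
    have hne : r ≠ s := ne_of_lt hrs
    have hmem : x' hne (1 : K) ∈ Rt K i j hij := by
      refine ⟨transvection_mem_U hne hrs 1, ?_⟩
      show (Matrix.transvection r s (1 : K)) i j = 0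
      have hij' : i ≠ j := by
        intro h
        have := congrArg Fin.val h
        omega
      rw [Matrix.transvection, Matrix.add_apply, Matrix.one_apply_ne hij', Matrix.single_apply_of_ne, add_zero]
      rintro ⟨rfl, rfl⟩
      exact hnot ⟨rfl, rfl⟩
    obtain ⟨m, hm⟩ := pow_eq_one_of_mem_U p (Rt_le hmem)
    have h1 := comm_of_proj_comm p (hc _ ⟨_, hmem, rfl⟩) hm
    exact entries_of_comm hne h1
  -- a third index
  obtain ⟨t, ht⟩ : ∃ t : Fin n, t < i ∨ j < t := by
    by_cases h : (i : ℕ) = 0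
    · have h1 : (j : ℕ) = 1 := by omega
      exact ⟨⟨2, by omega⟩, Or.inr (Fin.lt_def.mpr (by simp [h1]))⟩
    · exact ⟨⟨0, by omega⟩, Or.inl (Fin.lt_def.mpr (by simp; omega))⟩
  have hijlt : i < j := Fin.lt_def.mpr (by omega)
  have hijne : i ≠ j := ne_of_lt hijlt
  have hkey : (A : Matrix (Fin n) (Fin n) K) i j = 0 ∧ (A : Matrix (Fin n) (Fin n) K) j i = 0 ∧
      (A : Matrix (Fin n) (Fin n) K) i i = (A : Matrix (Fin n) (Fin n) K) j j := by
    rcases ht with ht | ht
    · have hti : t ≠ i := ne_of_lt ht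
      obtain ⟨h1, -, h3⟩ := hallow t i ht (fun h => hti h.1)
      obtain ⟨h4, -, h6⟩ := hallow t j (ht.trans hijlt) (fun h => hti h.1)
      exact ⟨h1 j hijne.symm, h4 i hijne, h3.symm.trans h6⟩
    · have htj : j ≠ t := ne_of_lt ht
      obtain ⟨-, h2, h3⟩ := hallow i t (hijlt.trans ht) (fun h => htj h.2.symm)
      obtain ⟨-, h5, h6⟩ := hallow j t ht (fun h => hijne h.1.symm)
      exact ⟨h5 i hijne, h2 j hijne.symm, h3.trans h6.symm⟩
  obtain ⟨hk1, hk2, hk3⟩ := hkey
  have hlow : ∀ r s, s < r → (A : Matrix (Fin n) (Fin n) K) r s = 0 := by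
    intro r s hsr
    by_cases h : s = i ∧ r = j
    · obtain ⟨rfl, rfl⟩ := h
      exact hk2
    · exact (hallow s r hsr h).2.1 r (ne_of_gt hsr)
  have hdiag : ∀ r, (A : Matrix (Fin n) (Fin n) K) r r = (A : Matrix (Fin n) (Fin n) K) i i := by
    intro r
    by_cases h1 : r = i
    · rw [h1]
    by_cases h2 : r = j
    · rw [h2, hk3]
    rcases lt_or_gt_of_ne h1 with h | h
    · exact (hallow r i h (fun h' => h1 h'.1)).2.2
    · exact (hallow i r h (fun h' => h2 h'.2)).2.2.symm
  obtain ⟨w, hwU, hwp, hwe⟩ := exists_scalar_factor (by omega) hlow hdiag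
  refine ⟨w, ⟨hwU, ?_⟩, hwp⟩
  rw [hwe, Matrix.smul_apply, hk1, smul_zero]


/-- The local data of the adjacent diagonal elements. -/
theorem localGen_diag (p : ℕ) [hp : Fact p.Prime] [CharP K p] (hn : 3 ≤ n) {i j : Fin n} (hij : (i : ℕ) + 1 = j)
    (hne : i ≠ j) (a : K) (ha : a ≠ 0) :
    LocalGen p (Ubar K n) (proj (Matrix.SpecialLinearGroup.diag2n hne a ha)) := by
  refine ⟨?_, (Rt K i j hij).map proj, ?_, selfCentralizing p hn hij, diag_mem_closure p hij hne a ha⟩
  · rintro _ ⟨u, hu, rfl⟩
    refine ⟨_, diag_conj_mem_U (Matrix.SpecialLinearGroup.diag2n_coe hne a ha) hu, ?_⟩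
    rw [map_mul, map_mul, map_inv]
  · exact Subgroup.map_mono Rt_le

/-- The set of local generators. -/
def gens (K : Type*) [Field K] [Finite K] (n : ℕ) : Set (Matrix.ProjectiveSpecialLinearGroup (Fin n) K) :=
  {w | ∃ (i j : Fin n) (_ : (i : ℕ) + 1 = j) (hne : i ≠ j) (a : K) (ha : a ≠ 0),
    w = proj (Matrix.SpecialLinearGroup.diag2n hne a ha)}

/-- Upper triangular elements are generated by `U` and the adjacent diagonal elements. -/
theorem upper_mem (H : Subgroup SL') (hU : U K n ≤ H)
    (hH : ∀ (i j : Fin n) (hij : i ≠ j), (i : ℕ) + 1 = j → ∀ (a : K) (ha : a ≠ 0),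
      Matrix.SpecialLinearGroup.diag2n hij a ha ∈ H) {A : SL'}
    (hA : ∀ i j, j < i → (A : Matrix (Fin n) (Fin n) K) i j = 0) : A ∈ H := by
  have h0 : (A : Matrix (Fin n) (Fin n) K).BlockTriangular id := fun i j h => hA i j h
  have hdet := Matrix.det_of_isUpperTriangular h0
  rw [A.2] at hdet
  have hne : ∀ i, (A : Matrix (Fin n) (Fin n) K) i i ≠ 0 := by
    intro i hi
    have : ∏ i, (A : Matrix (Fin n) (Fin n) K) i i = 0 := Finset.prod_eq_zero (Finset.mem_univ i) hi
    rw [this] at hdet
    exact one_ne_zero hdet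
  let w : SL' := ⟨Matrix.diagonal fun i => ((A : Matrix (Fin n) (Fin n) K) i i)⁻¹, by
    rw [Matrix.det_diagonal, Finset.prod_inv_distrib, ← hdet, inv_one]⟩
  have hw : w ∈ H := diag_mem_of H hH w _ rfl
  have hwA : w * A ∈ U K n := by
    have h1 : ∀ r s, ((w * A : SL') : Matrix (Fin n) (Fin n) K) r s =
        ((A : Matrix (Fin n) (Fin n) K) r r)⁻¹ * (A : Matrix (Fin n) (Fin n) K) r s := by
      intro r s
      show (Matrix.diagonal (fun i => ((A : Matrix (Fin n) (Fin n) K) i i)⁻¹) * (A : Matrix (Fin n) (Fin n) K)) r s = _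
      rw [Matrix.diagonal_mul]
    refine ⟨fun r s hrs => ?_, fun r => ?_⟩
    · rw [h1, hA r s hrs, mul_zero]
    · rw [h1, inv_mul_cancel₀ (hne r)]
  have h2 : A = w⁻¹ * (w * A) := by group
  rw [h2]
  exact H.mul_mem (H.inv_mem hw) (hU hwA)

/-- The normalizer of `Ubar` is generated by `Ubar` and the local generators. -/
theorem normalizer_le (p : ℕ) [Fact p.Prime] [CharP K p] (g : PSL')
    (hg : ∀ s ∈ Ubar K n, g * s * g⁻¹ ∈ Ubar K n) :
    g ∈ Subgroup.closure ((Ubar K n : Set PSL') ∪ gens K n) := by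
  obtain ⟨A, rfl⟩ := proj_surjective g
  have hup := upper_of_proj_normalizes p hg
  have hmem := upper_mem ((Subgroup.closure ((Ubar K n : Set PSL') ∪ gens K n)).comap proj) ?_ ?_ hup
  · exact hmem
  · intro u hu
    exact Subgroup.subset_closure (Or.inl (proj_mem_Ubar hu))
  · intro i j hij hadj a ha
    exact Subgroup.subset_closure (Or.inr ⟨i, j, hadj, hij, a, ha, rfl⟩)

/-- Any two nontrivial elementary transvections are conjugate in `SL_n(K)`, `n ≥ 3`. -/
theorem exists_conj_transvection (hn : 3 ≤ n) {i j k l : Fin n} (hij : i ≠ j) (hkl : k ≠ l) {c c' : K} (hc : c ≠ 0)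
    (hc' : c' ≠ 0) : ∃ g : SL', g * x' hij c * g⁻¹ = x' hkl c' := by
  classical
  -- a third index
  obtain ⟨t, hti, htj⟩ : ∃ t : Fin n, t ≠ i ∧ t ≠ j := by
    by_contra hcon
    push Not at hcon
    have hsub : (Finset.univ : Finset (Fin n)) ⊆ {i, j} := by
      intro t _
      by_cases h : t = i
      · simp [h]
      · simp [hcon t h]
    have h1 := Finset.card_le_card hsub
    have h2 : ({i, j} : Finset (Fin n)).card ≤ 2 := Finset.card_le_two
    rw [Finset.card_univ, Fintype.card_fin] at h1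
    omega
  -- a permutation
  obtain ⟨σ, hσi, hσj⟩ : ∃ σ : Equiv.Perm (Fin n), σ i = k ∧ σ j = l := by
    let σ₁ := Equiv.swap i k
    have h1 : σ₁ i = k := Equiv.swap_apply_left i k
    have h2 : σ₁ j ≠ k := by
      intro h
      rw [← h1] at h
      exact hij (σ₁.injective h).symm
    refine ⟨(Equiv.swap (σ₁ j) l) * σ₁, ?_, ?_⟩
    · rw [Equiv.Perm.mul_apply, h1]
      exact Equiv.swap_apply_of_ne_of_ne h2.symm hkl
    · rw [Equiv.Perm.mul_apply]
      exact Equiv.swap_apply_left _ _
  let ε : K := ((Equiv.Perm.sign σ.symm : ℤˣ) : ℤ)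
  have hε : ε * ε = 1 := by
    show (((Equiv.Perm.sign σ.symm : ℤˣ) : ℤ) : K) * (((Equiv.Perm.sign σ.symm : ℤˣ) : ℤ) : K) = 1
    rw [← Int.cast_mul, ← Units.val_mul, Int.units_mul_self]
    simp
  have hε0 : ε ≠ 0 := by
    intro h
    rw [h, zero_mul] at hε
    exact zero_ne_one hε
  let a : K := c' / c
  let b : K := ε * (c / c')
  have hab : a * b = ε := by
    simp only [a, b]
    field_simp
  let d : Fin n → K := fun s => (if s = i then a else 1) * (if s = t then b else 1)
  have hdprod : ∏ s, d s = ε := by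
    simp only [d]
    rw [Finset.prod_mul_distrib, Finset.prod_ite_eq' , Finset.prod_ite_eq']
    simpa using hab
  have hdj : d j = 1 := by
    simp [d, hij.symm, htj.symm]
  have hdi : d i = a := by
    simp [d, hti.symm]
  let G : Matrix (Fin n) (Fin n) K := (Matrix.diagonal d).submatrix σ.symm id
  have hGapply : ∀ r s, G r s = if σ.symm r = s then d s else 0 := by
    intro r s
    simp only [G, Matrix.submatrix_apply, id, Matrix.diagonal_apply]
    by_cases h : σ.symm r = s
    · subst h; simp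
    · simp [h]
  have hGdet : G.det = 1 := by
    simp only [G]
    rw [Matrix.det_permute, Matrix.det_diagonal, hdprod]
    exact hε
  let g : SL' := ⟨G, hGdet⟩
  refine ⟨g, ?_⟩
  rw [mul_inv_eq_iff_eq_mul]
  apply Subtype.ext
  show G * Matrix.transvection i j c = Matrix.transvection k l c' * G
  ext r s
  have hL : (G * Matrix.transvection i j c) r s = G r s + (if s = j then c * G r i else 0) := by
    by_cases hs : s = j
    · subst hs
      rw [Matrix.mul_transvection_apply_same, if_pos rfl]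
    · rw [Matrix.mul_transvection_apply_of_ne _ _ _ _ hs, if_neg hs, add_zero]
  have hR : (Matrix.transvection k l c' * G) r s = G r s + (if r = k then c' * G l s else 0) := by
    by_cases hr : r = k
    · subst hr
      rw [Matrix.transvection_mul_apply_same, if_pos rfl]
    · rw [Matrix.transvection_mul_apply_of_ne _ _ _ _ hr, if_neg hr, add_zero]
  rw [hL, hR, hGapply, hGapply r i, hGapply l s]
  have hsymm1 : σ.symm l = j := by rw [← hσj]; simp
  have hsymm2 : σ.symm k = i := by rw [← hσi]; simp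
  rw [hsymm1]
  by_cases hs : s = j
  · subst hs
    by_cases hr : r = k
    · subst hr
      simp only [hsymm2, if_true, hdi, hdj]
      simp only [a]
      field_simp
    · have : σ.symm r ≠ i := by
        intro h
        apply hr
        rw [← hσi, ← h]
        simp
      simp [this, hr]
  · have h1 : j ≠ s := fun h => hs h.symm
    simp [h1, hs]


/-- Fusion-closed subgroups of `Ubar` are trivial. -/
theorem closed_dichotomy (p : ℕ) [hp : Fact p.Prime] [CharP K p] (hn : 3 ≤ n) (T : Subgroup PSL') (hT : T ≤ Ubar K n)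
    (hc : FusionClosed (Ubar K n) T) : T = ⊥ ∨ T = Ubar K n := by
  classical
  by_cases hbot : T = ⊥
  · exact Or.inl hbot
  right
  apply le_antisymm hT
  -- a central element of `Ubar` in `T`
  have hP : IsPGroup p (Ubar K n) := isPGroup_Ubar p
  haveI hnorm : (T.subgroupOf (Ubar K n)).Normal := by
    refine ⟨fun t ht g => ?_⟩
    rw [Subgroup.mem_subgroupOf] at ht ⊢
    exact hc _ ht _ ((Ubar K n).mul_mem ((Ubar K n).mul_mem g.2 t.2) ((Ubar K n).inv_mem g.2))
  have hne : T.subgroupOf (Ubar K n) ≠ ⊥ := by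
    intro h
    apply hbot
    rw [eq_bot_iff]
    intro t ht
    have h1 : (⟨t, hT ht⟩ : Ubar K n) ∈ T.subgroupOf (Ubar K n) := Subgroup.mem_subgroupOf.mpr ht
    rw [h, Subgroup.mem_bot] at h1
    exact congrArg Subtype.val h1
  obtain ⟨z, hzT, hz1, hzc⟩ := Cfsg.Agent.Lib.PuigBasic.exists_mem_center_of_normal hP _ hne
  obtain ⟨⟨_, u, hu, rfl⟩, hzdef⟩ : ∃ z' : Ubar K n, z' = z := ⟨z, rfl⟩
  subst hzdef
  have htT : proj u ∈ T := Subgroup.mem_subgroupOf.mp hzT
  have hcomm : ∀ v ∈ U K n, u * v = v * u := by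
    intro v hv
    obtain ⟨m, hm⟩ := pow_eq_one_of_mem_U p hv
    have h1 := Subgroup.mem_center_iff.mp hzc ⟨proj v, proj_mem_Ubar hv⟩
    have h2 : proj v * proj u = proj u * proj v := congrArg Subtype.val h1
    exact comm_of_proj_comm p h2.symm hm
  let i₀ : Fin n := ⟨0, by omega⟩
  let i₁ : Fin n := ⟨n - 1, by omega⟩
  have hi : i₀ ≠ i₁ := by
    intro h
    have := congrArg Fin.val h
    simp [i₀, i₁] at this
    omega
  have hentry : ∀ j k : Fin n, j < k → (∀ s, s ≠ k → (u : Matrix (Fin n) (Fin n) K) k s = 0) ∧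
      (∀ r, r ≠ j → (u : Matrix (Fin n) (Fin n) K) r j = 0) := by
    intro j k hjk
    have hne : j ≠ k := ne_of_lt hjk
    have h1 := entries_of_comm hne (hcomm _ (transvection_mem_U hne hjk (1 : K)))
    exact ⟨h1.1, h1.2.1⟩
  have hoff : ∀ r s, r ≠ s → ¬ (r = i₀ ∧ s = i₁) → (u : Matrix (Fin n) (Fin n) K) r s = 0 := by
    intro r s hrs h
    by_cases hr : r = i₀
    · have hs : s ≠ i₁ := fun h' => h ⟨hr, h'⟩
      have hlt : s < i₁ := by
        rw [Fin.lt_def]
        have h1 : (s : ℕ) ≠ n - 1 := fun h' => hs (Fin.ext h')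
        have h2 := s.2
        show (s : ℕ) < n - 1
        omega
      exact (hentry s i₁ hlt).2 r hrs
    · have hlt : i₀ < r := by
        rw [Fin.lt_def]
        have h1 : (r : ℕ) ≠ 0 := fun h' => hr (Fin.ext h')
        show 0 < (r : ℕ)
        omega
      exact (hentry i₀ r hlt).1 s hrs.symm
  set c := (u : Matrix (Fin n) (Fin n) K) i₀ i₁ with hcdef
  have hue : u = x' hi c := by
    apply Subtype.ext
    show (u : Matrix (Fin n) (Fin n) K) = Matrix.transvection i₀ i₁ c
    ext r s
    rw [Matrix.transvection, Matrix.add_apply]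
    by_cases h : r = i₀ ∧ s = i₁
    · obtain ⟨rfl, rfl⟩ := h
      rw [Matrix.one_apply_ne hi, Matrix.single_apply_same, zero_add]
    · have hsingle : Matrix.single i₀ i₁ c r s = 0 := by
        apply Matrix.single_apply_of_ne
        rintro ⟨h1, h2⟩
        exact h ⟨h1.symm, h2.symm⟩
      rw [hsingle, add_zero]
      by_cases hrs : r = s
      · subst hrs
        rw [hu.2, Matrix.one_apply_eq]
      · rw [hoff r s hrs h, Matrix.one_apply_ne hrs]
  have hc0 : c ≠ 0 := by
    intro h0
    apply hz1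
    apply Subtype.ext
    show proj u = 1
    rw [hue, h0, SpecialLinearGroup.transvection_coeff_zero, map_one]
  -- all root elements are in `T`
  have hall : U K n ≤ T.comap proj := by
    apply U_le_of_transvections
    intro j k hjk hlt c' hc'
    obtain ⟨g, hg⟩ := exists_conj_transvection hn hi hjk hc0 hc'
    show proj (x' hjk c') ∈ T
    rw [← hg, ← hue, map_mul, map_mul, map_inv]
    apply hc _ htT
    rw [← map_inv, ← map_mul, ← map_mul]
    apply proj_mem_Ubar
    rw [hue, hg]
    exact transvection_mem_U hjk hlt c'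
  rintro _ ⟨v, hv, rfl⟩
  exact hall hv

theorem Ubar_ne_bot (hn : 3 ≤ n) : Ubar K n ≠ ⊥ := by
  classical
  intro h
  let i₀ : Fin n := ⟨0, by omega⟩
  let i₁ : Fin n := ⟨1, by omega⟩
  have hi : i₀ ≠ i₁ := by
    intro h
    have := congrArg Fin.val h
    simp [i₀, i₁] at this
  have hlt : i₀ < i₁ := Fin.lt_def.mpr (by simp [i₀, i₁])
  have h1 := proj_mem_Ubar (transvection_mem_U hi hlt (1 : K))
  rw [h, Subgroup.mem_bot, proj_eq_one_iff, SpecialLinearGroup.transvection_mem_center_iff] at h1
  exact one_ne_zero h1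

/-- An element of `p`-power order in `PSL` normalizing `Ubar` lies in `Ubar`. -/
theorem mem_Ubar_of_normalizes (p : ℕ) [hp : Fact p.Prime] [CharP K p] (hn : 0 < n) (g : PSL')
    (hg : ∀ s ∈ Ubar K n, g * s * g⁻¹ ∈ Ubar K n) {k : ℕ} (hk : g ^ p ^ k = 1) : g ∈ Ubar K n := by
  classical
  obtain ⟨A, rfl⟩ := proj_surjective g
  have hup := upper_of_proj_normalizes p hg
  have hcent : A ^ p ^ k ∈ Subgroup.center SL' := by
    rw [← proj_eq_one_iff, map_pow, hk]
  obtain ⟨c, hc⟩ := scalar_of_mem_center _ hcent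
  have hpowup : ∀ m : ℕ, (∀ i j, j < i → (((A ^ m : SL') : Matrix (Fin n) (Fin n) K)) i j = 0) ∧
      ∀ i, ((A ^ m : SL') : Matrix (Fin n) (Fin n) K) i i = ((A : Matrix (Fin n) (Fin n) K) i i) ^ m := by
    intro m
    induction m with
    | zero =>
      simp only [pow_zero]
      exact ⟨fun i j h => Matrix.one_apply_ne (ne_of_gt h), fun i => Matrix.one_apply_eq i⟩
    | succ m ih =>
      rw [pow_succ]
      have h0 : ((A ^ m * A : SL') : Matrix (Fin n) (Fin n) K) =
          ((A ^ m : SL') : Matrix (Fin n) (Fin n) K) * (A : Matrix (Fin n) (Fin n) K) := rfl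
      rw [h0]
      refine ⟨upper_mul ih.1 hup, fun i => ?_⟩
      rw [upper_mul_apply_diag ih.1 hup, ih.2, pow_succ]
  have hd : ∀ i, (A : Matrix (Fin n) (Fin n) K) i i = (A : Matrix (Fin n) (Fin n) K) ⟨0, hn⟩ ⟨0, hn⟩ := by
    intro i
    apply eq_of_pow_char_pow_eq p (m := k)
    rw [← (hpowup _).2, ← (hpowup _).2, hc]
    simp [Matrix.smul_apply, Matrix.one_apply_eq]
  obtain ⟨w, hw, hwp, -⟩ := exists_scalar_factor hn hup hd
  rw [← hwp]
  exact proj_mem_Ubar hw

/-- `Ubar` is a Sylow subgroup. -/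
def sylowUbar (p : ℕ) [hp : Fact p.Prime] [CharP K p] (hn : 0 < n) :
    Sylow p (Matrix.ProjectiveSpecialLinearGroup (Fin n) K) where
  toSubgroup := Ubar K n
  isPGroup' := isPGroup_Ubar p
  is_maximal' := by
    intro Q hQ hle
    by_contra hne
    have hlt : Ubar K n < Q := lt_of_le_of_ne hle (Ne.symm hne)
    have h1 := Cfsg.Agent.Lib.FusionAlperin.lt_normalizerIn hQ hlt
    obtain ⟨g, hg, hgn⟩ := SetLike.exists_of_lt h1
    obtain ⟨hgQ, hgN⟩ := Subgroup.mem_inf.mp hg
    apply hgn
    obtain ⟨k, hk⟩ := hQ ⟨g, hgQ⟩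
    have hk' : g ^ p ^ k = 1 := congrArg Subtype.val hk
    refine mem_Ubar_of_normalizes p hn g (fun s hs => ?_) hk'
    exact (Subgroup.mem_normalizer_iff.mp hgN s).mp hs

/-- **The `p`-fusion system of `PSL_n(K)`, `n ≥ 3`, is simple.** -/
theorem main (p : ℕ) [hp : Fact p.Prime] [CharP K p] (hn : 3 ≤ n) (S : Sylow p PSL') :
    (Cfsg.groupFusionSystem (S : Subgroup PSL')).IsSimple p := by
  refine isSimple_of_generated' p (sylowUbar p (by omega)) (Ubar_ne_bot hn) (closed_dichotomy p hn) (gens K n) ?_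
    (normalizer_le p) S
  rintro _ ⟨i, j, hij, hne, a, ha, rfl⟩
  exact localGen_diag p hn hij hne a ha

end Cfsg.Agent.Lib.PSLFusion
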