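import Mathlib

/-!
# Abstract counting for minimal indices

`K1 Q K ι`: the elements `l` of a group `H` mapped by `ι` into the normaliser of `Q`, with
`u * ι l ∈ K` for some `u ∈ Q`.  Cosets of `K` along `Q ι(H)`.
-/

set_option autoImplicit false
set_option linter.unusedSectionVars false
set_option linter.unusedVariables false

namespace Cfsg.Agent.Lib.PSUIdx

section Abstract

variable {G H : Type*} [Group G] [Group H]

/-- The elements of `H` lifting into `K` modulo `Q`. -/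
def K1 (Q K : Subgroup G) (ι : H →* G) (hN : ∀ l, ∀ y ∈ Q, ι l * y * (ι l)⁻¹ ∈ Q) : Subgroup H where
  carrier := {l | ∃ u ∈ Q, u * ι l ∈ K}
  mul_mem' := by
    rintro a b ⟨u, hu, hua⟩ ⟨w, hw, hwb⟩
    refine ⟨u * (ι a * w * (ι a)⁻¹), Q.mul_mem hu (hN a w hw), ?_⟩
    have := K.mul_mem hua hwb
    rw [map_mul]
    convert this using 1
    group
  one_mem' := ⟨1, Q.one_mem, by simp [K.one_mem]⟩
  inv_mem' := by
    rintro a ⟨u, hu, hua⟩
    refine ⟨ι a⁻¹ * u⁻¹ * (ι a⁻¹)⁻¹, hN a⁻¹ _ (Q.inv_mem hu), ?_⟩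
    have := K.inv_mem hua
    rw [map_inv] at *
    convert this using 1
    group

lemma mem_K1 {Q K : Subgroup G} {ι : H →* G} {hN : ∀ l, ∀ y ∈ Q, ι l * y * (ι l)⁻¹ ∈ Q} {l : H} :
    l ∈ K1 Q K ι hN ↔ ∃ u ∈ Q, u * ι l ∈ K := Iff.rfl

variable {Q K : Subgroup G} {ι : H →* G} (hN : ∀ l, ∀ y ∈ Q, ι l * y * (ι l)⁻¹ ∈ Q)

/-- The key step of the injectivity. -/
lemma coset_eq {l l' : H} {y y' : G} (hy : y ∈ Q) (hy' : y' ∈ Q)
    (h : ((ι l * y : G) : G ⧸ K) = ((ι l' * y' : G) : G ⧸ K)) :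
    l⁻¹ * l' ∈ K1 Q K ι hN := by
  rw [QuotientGroup.eq] at h
  refine ⟨y⁻¹ * (ι (l⁻¹ * l') * y' * (ι (l⁻¹ * l'))⁻¹), Q.mul_mem (Q.inv_mem hy) (hN _ _ hy'), ?_⟩
  convert h using 1
  simp only [map_mul, map_inv]
  group

/-- The basic injection. -/
theorem mi_core (hN : ∀ l, ∀ y ∈ Q, ι l * y * (ι l)⁻¹ ∈ Q) :
    Function.Injective (fun p : (H ⧸ K1 Q K ι hN) × (Q ⧸ K.subgroupOf Q) =>
      (((ι p.1.out * (p.2.out : G) : G)) : G ⧸ K)) := by
  rintro ⟨c, t⟩ ⟨c', t'⟩ h
  have h0 := coset_eq hN t.out.2 t'.out.2 h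
  have h1 : c = c' := by
    rw [← Quotient.out_eq' c, ← Quotient.out_eq' c']
    exact (QuotientGroup.eq).2 h0
  subst h1
  have h2 : ((ι c.out * (t.out : G) : G) : G ⧸ K) = ((ι c.out * (t'.out : G) : G) : G ⧸ K) := h
  rw [QuotientGroup.eq] at h2
  have h3 : ((t.out : G))⁻¹ * (t'.out : G) ∈ K := by
    convert h2 using 1
    group
  have h4 : t = t' := by
    rw [← Quotient.out_eq' t, ← Quotient.out_eq' t']
    apply (QuotientGroup.eq).2
    rw [Subgroup.mem_subgroupOf]
    simpa using h3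
  rw [h4]

/-- Several families of cosets. -/
theorem mi_families [Finite G] {J : Type*} [Finite J] (x : J → G)
    (hJ : ∀ (j j' : J) (l l' : H) (y y' : G), y ∈ Q → y' ∈ Q →
      ((x j * (ι l * y) : G) : G ⧸ K) = ((x j' * (ι l' * y') : G) : G ⧸ K) → j = j') :
    Nat.card J * ((K1 Q K ι hN).index * (K.subgroupOf Q).index) ≤ K.index := by
  classical
  rw [Subgroup.index, Subgroup.index, Subgroup.index, ← Nat.card_prod, ← Nat.card_prod]
  refine Nat.card_le_card_of_injective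
    (fun p : J × ((H ⧸ K1 Q K ι hN) × (Q ⧸ K.subgroupOf Q)) =>
      ((x p.1 * (ι p.2.1.out * (p.2.2.out : G)) : G) : G ⧸ K)) ?_
  rintro ⟨j, p⟩ ⟨j', p'⟩ h
  have h1 : j = j' := hJ j j' _ _ _ _ (Subtype.property _) (Subtype.property _) h
  subst h1
  have h2 : p = p' := by
    apply mi_core hN
    rw [QuotientGroup.eq] at h ⊢
    convert h using 1
    group
  rw [h2]

/-- The case of a single family. -/
theorem mi_one [Finite G] : (K1 Q K ι hN).index * (K.subgroupOf Q).index ≤ K.index := by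
  have h := mi_families (J := Unit) (Q := Q) (K := K) (ι := ι) hN (fun _ => 1)
    (fun _ _ _ _ _ _ _ _ _ => rfl)
  simpa using h

/-- The version in a subgroup `P` containing `Q` and the image of `ι`. -/
theorem mi_sub [Finite G] {P : Subgroup G} (hQ : Q ≤ P) (hι : ∀ l, ι l ∈ P) :
    (K1 Q K ι hN).index * (K.subgroupOf Q).index ≤ (K.subgroupOf P).index := by
  classical
  rw [Subgroup.index, Subgroup.index, Subgroup.index, ← Nat.card_prod]
  refine Nat.card_le_card_of_injective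
    (fun p : ((H ⧸ K1 Q K ι hN) × (Q ⧸ K.subgroupOf Q)) =>
      (((⟨ι p.1.out * (p.2.out : G), P.mul_mem (hι _) (hQ (Subtype.property _))⟩ : P)) : P ⧸ K.subgroupOf P)) ?_
  intro p p' h
  apply mi_core hN
  rw [QuotientGroup.eq, Subgroup.mem_subgroupOf] at h
  rw [QuotientGroup.eq]
  simpa using h

end Abstract

section Orbit

variable {G Ω : Type*} [Group G] [Finite G]

/-- The relation of indices. -/
lemma relIndex_swap (P K : Subgroup G) : P.relIndex K * K.index = K.relIndex P * P.index := by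
  have h1 : (K ⊓ P).relIndex K * K.index = (K ⊓ P).index := Subgroup.relIndex_mul_index inf_le_left
  have h2 : (K ⊓ P).relIndex P * P.index = (K ⊓ P).index := Subgroup.relIndex_mul_index inf_le_right
  rw [Subgroup.inf_relIndex_left] at h1
  rw [Subgroup.inf_relIndex_right] at h2
  rw [h1, h2]

/-- Orbit of `K` under an action given by a function. -/
lemma card_orbit_eq (P K : Subgroup G) (a : G → Ω) (ha : ∀ g g', a g = a g' ↔ g⁻¹ * g' ∈ P) :
    Nat.card (a '' (K : Set G)) = P.relIndex K := by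
  classical
  rw [Subgroup.relIndex, Subgroup.index]
  symm
  refine Nat.card_congr (Equiv.ofBijective
    (Quotient.lift (fun k : K => (⟨a k.1, k.1, k.2, rfl⟩ : a '' (K : Set G))) ?_) ⟨?_, ?_⟩)
  · intro b c hbc
    apply Subtype.ext
    have hbc' := QuotientGroup.leftRel_apply.1 (show _ from hbc)
    rw [Subgroup.mem_subgroupOf] at hbc'
    exact (ha _ _).2 (by simpa using hbc')
  · intro b c
    refine Quotient.inductionOn₂ b c ?_
    intro b c hbc
    apply Quotient.sound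
    apply QuotientGroup.leftRel_apply.2
    rw [Subgroup.mem_subgroupOf]
    have := (ha _ _).1 (congrArg Subtype.val hbc)
    simpa using this
  · rintro ⟨_, k, hk, rfl⟩
    exact ⟨Quotient.mk'' ⟨k, hk⟩, rfl⟩

end Orbit

end Cfsg.Agent.Lib.PSUIdx

namespace Cfsg.Agent.Lib.PSUIdx

section Isotropy

variable {p : ℕ} [Fact p.Prime] {M : Type*} [AddCommGroup M] [Module (ZMod p) M] [Finite M]

/-- Isotropic subspaces of a non-degenerate pairing on a submodule have at most the square root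
of its order. -/
theorem card_sq_le (φ : M → M → ZMod p) (hl : ∀ a b c, φ (a + b) c = φ a c + φ b c)
    (hr : ∀ a b c, φ a (b + c) = φ a b + φ a c) (M₀ Y : AddSubgroup M) (hY : Y ≤ M₀)
    (hnd : ∀ y ∈ M₀, y ≠ 0 → ∃ y' ∈ M₀, φ y' y ≠ 0)
    (hiso : ∀ y ∈ Y, ∀ y' ∈ Y, φ y' y = 0) :
    Nat.card Y ^ 2 ≤ Nat.card M₀ := by
  classical
  let M₁ : Submodule (ZMod p) M := AddSubgroup.toZModSubmodule p M₀
  let Y₁ : Submodule (ZMod p) M₁ := (AddSubgroup.toZModSubmodule p Y).comap M₁.subtype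
  -- the map from `Y₁` to the dual of `M₁`
  let g₀ : M₁ → M₁ →+ ZMod p := fun y =>
    { toFun := fun y' => φ y'.1 y.1
      map_zero' := by
        have := hl 0 0 y.1
        simpa using this
      map_add' := fun a b => hl a.1 b.1 y.1 }
  let g₁ : M₁ → Module.Dual (ZMod p) M₁ := fun y => (g₀ y).toZModLinearMap p
  have hg₁ : ∀ a b, g₁ (a + b) = g₁ a + g₁ b := by
    intro a b
    ext y'
    exact hr y'.1 a.1 b.1
  let g₂ : M₁ →+ Module.Dual (ZMod p) M₁ :=
    { toFun := g₁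
      map_zero' := by
        ext y'
        have := hr y'.1 0 0
        have h0 : φ y'.1 0 = 0 := by simpa using this
        exact h0
      map_add' := hg₁ }
  let g : M₁ →ₗ[ZMod p] Module.Dual (ZMod p) M₁ := g₂.toZModLinearMap p
  have hg : Function.Injective g := by
    rw [injective_iff_map_eq_zero]
    intro y hy
    by_contra hy0
    obtain ⟨y', hy'1, hy'2⟩ := hnd y.1 y.2 (by
      intro h
      exact hy0 (Subtype.ext h))
    apply hy'2
    have := congrArg (fun f : Module.Dual (ZMod p) M₁ => f ⟨y', hy'1⟩) hy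
    exact this
  let W₁ : Subspace (ZMod p) (Module.Dual (ZMod p) M₁) := Y₁.map g
  have h1 := Subspace.finrank_add_finrank_dualCoannihilator_eq (K := ZMod p) (V := M₁) W₁
  have h2 : Module.finrank (ZMod p) Y₁ = Module.finrank (ZMod p) W₁ :=
    LinearEquiv.finrank_eq (Submodule.equivMapOfInjective g hg Y₁)
  have h3 : Y₁ ≤ W₁.dualCoannihilator := by
    intro y hy
    rw [Submodule.mem_dualCoannihilator]
    rintro f ⟨y', hy', rfl⟩
    exact hiso y'.1 hy' y.1 hy
  have h4 := Submodule.finrank_mono h3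
  have hp : 1 < p := (Fact.out : p.Prime).one_lt
  have hc1 : Nat.card Y = Nat.card Y₁ := by
    refine Nat.card_congr ⟨fun y => ⟨⟨y.1, hY y.2⟩, y.2⟩, fun y => ⟨y.1.1, y.2⟩, fun y => rfl, fun y => rfl⟩
  have hc2 : Nat.card M₀ = Nat.card M₁ := rfl
  rw [hc1, hc2, Module.natCard_eq_pow_finrank (K := ZMod p) (V := Y₁),
    Module.natCard_eq_pow_finrank (K := ZMod p) (V := M₁), Nat.card_zmod, ← pow_mul]
  apply Nat.pow_le_pow_right (by omega)
  omega

end Isotropy

end Cfsg.Agent.Lib.PSUIdx
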