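import Mathlib
import Cfsg.Agent.Lib.UnitaryE
import Cfsg.Agent.Lib.FourierAb
import Cfsg.Agent.Lib.HermLines

/-!
# Root elements of `SU_n` as group elements

`mkE v y s : SU n F q` is the element `x ↦ x + h(x,v)(y + s v) - h(x,y) v` when the defining conditions
hold.
-/

set_option autoImplicit false
set_option linter.unusedSectionVars false
set_option linter.unusedVariables false

namespace Cfsg.Agent.Lib.SUMinDeg

open Matrix Cfsg Cfsg.Agent.Lib.HermForm Cfsg.Agent.Lib.FFNorm Cfsg.Agent.Lib.UnitaryE
  Cfsg.Agent.Lib.UnitarySU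

variable {F : Type*} [Field F] [Fintype F] {q n : ℕ}

/-- The action on vectors. -/
def act (g : SU n F q) (x : Fin n → F) : Fin n → F := (g.1.1 : Matrix (Fin n) (Fin n) F) *ᵥ x

lemma act_mul (g g' : SU n F q) (x : Fin n → F) : act (g * g') x = act g (act g' x) := by
  simp [act, Matrix.mulVec_mulVec]

lemma act_one (x : Fin n → F) : act (1 : SU n F q) x = x := by
  simp [act]

lemma herm_act (g : SU n F q) (x y : Fin n → F) :
    hermForm n F q (act g x) (act g y) = hermForm n F q x y := g.2 x y

lemma act_add (g : SU n F q) (x y : Fin n → F) : act g (x + y) = act g x + act g y := by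
  simp [act, Matrix.mulVec_add]

lemma act_smul (g : SU n F q) (a : F) (x : Fin n → F) : act g (a • x) = a • act g x := by
  simp [act, Matrix.mulVec_smul]

lemma act_sub (g : SU n F q) (x y : Fin n → F) : act g (x - y) = act g x - act g y := by
  simp [act, Matrix.mulVec_sub]

lemma act_zero (g : SU n F q) : act g (0 : Fin n → F) = 0 := by
  simp [act]

lemma ext_act {g g' : SU n F q} (h : ∀ x, act g x = act g' x) : g = g' := by
  apply Subtype.ext
  apply Subtype.ext
  exact eq_of_mulVec_eq h

/-- The defining conditions. -/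
def Good (q : ℕ) (v y : Fin n → F) (s : F) : Prop :=
  hermForm n F q v v = 0 ∧ hermForm n F q y v = 0 ∧ s + s ^ q + hermForm n F q y y = 0

open Classical in
/-- The root element, as an element of `SU` (total function). -/
noncomputable def mkE (hF : Fintype.card F = q ^ 2) (v y : Fin n → F) (s : F) : SU n F q :=
  if hc : Good q v y s then
    SUofMatrix (E q v y s) (E_det hF hc.1 hc.2.1) (E_unitary hF hc.1 hc.2.1 hc.2.2)
  else 1

variable (hF : Fintype.card F = q ^ 2)

include hF

lemma act_mkE {v y : Fin n → F} {s : F} (hc : Good q v y s) (x : Fin n → F) :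
    act (mkE hF v y s) x =
      x + hermForm n F q x v • (y + s • v) - hermForm n F q x y • v := by
  have : mkE hF v y s = SUofMatrix (E q v y s) (E_det hF hc.1 hc.2.1) (E_unitary hF hc.1 hc.2.1 hc.2.2) :=
    dif_pos hc
  rw [this]
  exact E_mulVec v y s x

lemma good_add {v y y' : Fin n → F} {s s' : F} (hc : Good q v y s) (hc' : Good q v y' s') :
    Good q v (y + y') (s + s' - hermForm n F q y' y) := by
  refine ⟨hc.1, ?_, ?_⟩
  · rw [hermForm_add_left, hc.2.1, hc'.2.1, add_zero]
  · have h1 := hc.2.2
    have h2 := hc'.2.2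
    have h3 := hermForm_conj hF y' y
    rw [hermForm_add_left, hermForm_add_right hF, hermForm_add_right hF, sub_pow_q hF, add_pow_q hF, h3]
    linear_combination h1 + h2

/-- The group law. -/
lemma mkE_mul {v y y' : Fin n → F} {s s' : F} (hc : Good q v y s) (hc' : Good q v y' s') :
    mkE hF v y s * mkE hF v y' s' = mkE hF v (y + y') (s + s' - hermForm n F q y' y) := by
  apply ext_act
  intro x
  rw [act_mul, act_mkE hF hc, act_mkE hF hc', act_mkE hF (good_add hF hc hc')]
  have hvv := hc.1
  have hy'v := hc'.2.1
  have hvy : hermForm n F q v y = 0 := herm_zero_of_conj hF hc.2.1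
  simp only [hermForm_sub_left, hermForm_add_left, hermForm_smul_left, hermForm_add_right hF, hvv,
    hy'v, hvy]
  module

/-- Conjugation of root elements. -/
lemma conj_mkE (g : SU n F q) {v y : Fin n → F} {s : F} (hc : Good q v y s) :
    g * mkE hF v y s = mkE hF (act g v) (act g y) s * g := by
  have hc' : Good q (act g v) (act g y) s := by
    refine ⟨?_, ?_, ?_⟩
    · rw [herm_act]; exact hc.1
    · rw [herm_act]; exact hc.2.1
    · rw [herm_act]; exact hc.2.2
  apply ext_act
  intro x
  rw [act_mul, act_mul, act_mkE hF hc, act_mkE hF hc', herm_act, herm_act]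
  simp only [act_sub, act_add, act_smul]

lemma good_tau {v : Fin n → F} {c : F} (hv : hermForm n F q v v = 0) (hc : c + c ^ q = 0) :
    Good q v 0 c := by
  refine ⟨hv, hermForm_zero_left v, ?_⟩
  rw [hermForm_zero_left, add_zero, hc]

/-- The transvection. -/
noncomputable abbrev tau (v : Fin n → F) (c : F) : SU n F q := mkE hF v 0 c

lemma act_tau {v : Fin n → F} {c : F} (hv : hermForm n F q v v = 0) (hc : c + c ^ q = 0)
    (x : Fin n → F) : act (tau hF v c) x = x + (c * hermForm n F q x v) • v := by
  rw [act_mkE hF (good_tau hF hv hc), hermForm_zero_right hF]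
  simp only [zero_add, zero_smul, sub_zero, smul_smul, mul_comm]

lemma tau_zero (v : Fin n → F) (hv : hermForm n F q v v = 0) : tau hF v (0 : F) = 1 := by
  have h2 : (0 : F) ^ q = 0 := zero_pow (by have := two_le hF; omega)
  apply ext_act
  intro x
  rw [act_tau hF hv (by rw [h2, add_zero]), act_one]
  simp

lemma tau_add {v : Fin n → F} {c c' : F} (hv : hermForm n F q v v = 0) (hc : c + c ^ q = 0)
    (hc' : c' + c' ^ q = 0) : tau hF v (c + c') = tau hF v c * tau hF v c' := by
  rw [mkE_mul hF (good_tau hF hv hc) (good_tau hF hv hc')]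
  simp [hermForm_zero_left]

/-- `tau` multiplied on the left. -/
lemma tau_mul {v y : Fin n → F} {c s : F} (hv : hermForm n F q v v = 0) (hc : c + c ^ q = 0)
    (h : Good q v y s) : tau hF v c * mkE hF v y s = mkE hF v y (c + s) := by
  rw [mkE_mul hF (good_tau hF hv hc) h]
  simp [hermForm_zero_right hF]

/-- `tau` multiplied on the right. -/
lemma mul_tau {v y : Fin n → F} {c s : F} (hv : hermForm n F q v v = 0) (hc : c + c ^ q = 0)
    (h : Good q v y s) : mkE hF v y s * tau hF v c = mkE hF v y (c + s) := by
  rw [mkE_mul hF h (good_tau hF hv hc)]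
  simp [hermForm_zero_left, add_comm]

lemma commute_tau {v y : Fin n → F} {c s : F} (hv : hermForm n F q v v = 0) (hc : c + c ^ q = 0)
    (h : Good q v y s) : tau hF v c * mkE hF v y s = mkE hF v y s * tau hF v c := by
  rw [tau_mul hF hv hc h, mul_tau hF hv hc h]

lemma trace_zero_kappa (y y' : Fin n → F) :
    (hermForm n F q y y' - hermForm n F q y' y) + (hermForm n F q y y' - hermForm n F q y' y) ^ q = 0 := by
  rw [sub_pow_q hF, hermForm_conj hF, hermForm_conj hF]
  ring

/-- The commutator relation. -/
lemma mkE_comm {v y y' : Fin n → F} {s s' : F} (hc : Good q v y s) (hc' : Good q v y' s') :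
    mkE hF v y s * mkE hF v y' s' =
      tau hF v (hermForm n F q y y' - hermForm n F q y' y) * (mkE hF v y' s' * mkE hF v y s) := by
  rw [mkE_mul hF hc hc', mkE_mul hF hc' hc, tau_mul hF hc.1 (trace_zero_kappa hF y y') (good_add hF hc' hc),
    add_comm y y']
  congr 1
  ring

/-- Scaling the centre of a transvection. -/
lemma tau_smul {v : Fin n → F} {c : F} (hv : hermForm n F q v v = 0) (hc : c + c ^ q = 0) (a : F) :
    tau hF (a • v) c = tau hF v (a * a ^ q * c) := by
  have hv' : hermForm n F q (a • v) (a • v) = 0 := by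
    rw [hermForm_smul_left, hermForm_smul_right, hv]; ring
  have hc' : (a * a ^ q * c) + (a * a ^ q * c) ^ q = 0 := by
    rw [mul_pow, mul_pow, pow_pow_self hF]
    linear_combination (a * a ^ q) * hc
  apply ext_act
  intro x
  rw [act_tau hF hv' hc, act_tau hF hv hc', hermForm_smul_right, smul_smul]
  congr 2
  ring

/-- A transvection fixing the centre is conjugated to itself. -/
lemma conj_tau (g : SU n F q) {v : Fin n → F} {c : F} (hv : hermForm n F q v v = 0) (hc : c + c ^ q = 0) :
    g * tau hF v c = tau hF (act g v) c * g := by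
  rw [conj_mkE hF g (good_tau hF hv hc), act_zero]

lemma mkE_inv_eq {v y : Fin n → F} {s : F} (h : Good q v y s) (hs' : Good q v (-y) (s ^ q)) :
    mkE hF v y s * mkE hF v (-y) (s ^ q) = 1 := by
  rw [mkE_mul hF h hs']
  have h2 := h.2.2
  apply ext_act
  intro x
  have h3 : Good q v (y + -y) (s + s ^ q - hermForm n F q (-y) y) := good_add hF h hs'
  rw [act_mkE hF h3, act_one]
  have h4 : hermForm n F q (-y) y = - hermForm n F q y y := by
    have : (-y : Fin n → F) = (-1 : F) • y := by simp
    rw [this, hermForm_smul_left]; ring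
  rw [h4]
  have h5 : s + s ^ q - - hermForm n F q y y = 0 := by linear_combination h2
  rw [h5]
  simp [hermForm_zero_right hF]

end Cfsg.Agent.Lib.SUMinDeg
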