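import Mathlib
import Cfsg.Agent.Lib.SUMinDeg1

/-!
# The Fourier decomposition along the centre of the Heisenberg group, and the Heisenberg bound
-/

set_option autoImplicit false
set_option linter.unusedSectionVars false
set_option linter.unusedVariables false

namespace Cfsg.Agent.Lib.SUMinDeg

open Matrix Cfsg Cfsg.Agent.Lib.HermForm Cfsg.Agent.Lib.FFNorm Cfsg.Agent.Lib.UnitaryE
  Cfsg.Agent.Lib.UnitarySU Cfsg.Agent.Lib.FourierAb

variable {F : Type*} [Field F] [Fintype F] {q n k : ℕ}

/-- The trace-zero elements. -/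
def Tz (hF : Fintype.card F = q ^ 2) : AddSubgroup F where
  carrier := {c | c + c ^ q = 0}
  zero_mem' := by
    have h2 : (0 : F) ^ q = 0 := zero_pow (by have := two_le hF; omega)
    simp [h2]
  add_mem' := by
    intro a b ha hb
    simp only [Set.mem_ofPred_eq] at ha hb ⊢
    rw [add_pow_q hF]
    linear_combination ha + hb
  neg_mem' := by
    intro a ha
    simp only [Set.mem_ofPred_eq] at ha ⊢
    rw [neg_pow_q hF]
    linear_combination -ha

variable (hF : Fintype.card F = q ^ 2)

lemma mem_Tz {c : F} : c ∈ Tz hF ↔ c + c ^ q = 0 := Iff.rfl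

noncomputable instance : Fintype (Tz hF) := Fintype.ofFinite _

include hF in
lemma exists_Tz_ne : ∃ c₀ : F, c₀ ≠ 0 ∧ c₀ + c₀ ^ q = 0 := by
  classical
  have h1 := frobQ_ne hF
  have h2 : ∃ z : F, z ^ q ≠ z := by
    by_contra hcon
    push Not at hcon
    apply h1
    ext z
    exact hcon z
  obtain ⟨z, hz⟩ := h2
  refine ⟨z - z ^ q, sub_ne_zero.2 hz.symm, ?_⟩
  rw [sub_pow_q hF, pow_pow_self hF]
  ring

/-- The number of trace zero elements. -/
lemma card_Tz : Fintype.card (Tz hF) = q := by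
  classical
  obtain ⟨c₀, hc0, hc⟩ := exists_Tz_ne hF
  have h1 := Cfsg.Agent.Lib.HermLines.card_fixed hF
  rw [← Nat.card_eq_fintype_card]
  refine Eq.trans ?_ h1
  apply Nat.card_congr
  have h2 : c₀ ^ q = - c₀ := by linear_combination hc
  have h3 : c₀ ^ q ≠ 0 := by rw [h2]; exact neg_ne_zero.2 hc0
  refine
    { toFun := fun c => ⟨c.1 / c₀, ?_⟩
      invFun := fun c => ⟨c.1 * c₀, ?_⟩
      left_inv := ?_
      right_inv := ?_ }
  · have h4 : c.1 ^ q = - c.1 := by
      have := c.2
      rw [mem_Tz] at this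
      linear_combination this
    rw [div_pow, h4, h2, neg_div_neg_eq]
  · rw [mem_Tz, mul_pow, c.2, h2]
    ring
  · intro c
    apply Subtype.ext
    field_simp
  · intro c
    apply Subtype.ext
    field_simp

/-- The representation of the centre. -/
noncomputable def rZ (R : SU n F q →* Matrix (Fin k) (Fin k) ℂ) (v : Fin n → F) (c : Tz hF) :
    Matrix (Fin k) (Fin k) ℂ := R (tau hF v c.1)

lemma rZ_zero (R : SU n F q →* Matrix (Fin k) (Fin k) ℂ) {v : Fin n → F}
    (hv : hermForm n F q v v = 0) : rZ hF R v 0 = 1 := by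
  simp only [rZ, ZeroMemClass.coe_zero]
  rw [tau_zero hF v hv, map_one]

lemma rZ_add (R : SU n F q →* Matrix (Fin k) (Fin k) ℂ) {v : Fin n → F}
    (hv : hermForm n F q v v = 0) (a b : Tz hF) :
    rZ hF R v (a + b) = rZ hF R v a * rZ hF R v b := by
  simp only [rZ, AddMemClass.coe_add]
  rw [tau_add hF hv a.2 b.2, map_mul]

/-- The idempotents along the centre. -/
noncomputable def ee (R : SU n F q →* Matrix (Fin k) (Fin k) ℂ) (v : Fin n → F)
    (ζ : AddChar (Tz hF) ℂ) : Matrix (Fin k) (Fin k) ℂ := eA (rZ hF R v) ζ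

section
variable (R : SU n F q →* Matrix (Fin k) (Fin k) ℂ) {v : Fin n → F}
  (hv : hermForm n F q v v = 0)
include hv

lemma ee_idem (ζ : AddChar (Tz hF) ℂ) : ee hF R v ζ * ee hF R v ζ = ee hF R v ζ :=
  eA_idem (rZ_add hF R hv) ζ

lemma ee_orth {ζ ζ' : AddChar (Tz hF) ℂ} (h : ζ ≠ ζ') : ee hF R v ζ * ee hF R v ζ' = 0 :=
  eA_orth (rZ_add hF R hv) h

lemma sum_ee : ∑ ζ, ee hF R v ζ = 1 := sum_eA (rZ_zero hF R hv)

lemma tau_mul_ee (ζ : AddChar (Tz hF) ℂ) (c : Tz hF) :
    R (tau hF v c.1) * ee hF R v ζ = ζ c • ee hF R v ζ :=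
  r_mul_eA (rZ_add hF R hv) c ζ

/-- An element fixing the centre commutes with the idempotents. -/
lemma comm_ee {g : SU n F q} (hg : act g v = v) (ζ : AddChar (Tz hF) ℂ) :
    R g * ee hF R v ζ = ee hF R v ζ * R g := by
  apply comm_eA
  intro a
  simp only [rZ]
  rw [← map_mul, ← map_mul, conj_tau hF g hv a.2, hg]

/-- Elements of the Heisenberg group commute with the idempotents. -/
lemma comm_ee_mkE {y : Fin n → F} {s : F} (h : Good q v y s) (ζ : AddChar (Tz hF) ℂ) :
    R (mkE hF v y s) * ee hF R v ζ = ee hF R v ζ * R (mkE hF v y s) := by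
  apply comm_eA
  intro a
  simp only [rZ]
  rw [← map_mul, ← map_mul, commute_tau hF hv a.2 h]

end

/-- Multiplication by a fixed element of the subfield on the trace zero elements. -/
noncomputable def mulTz (f : F) (hf : f ^ q = f) (hf0 : f ≠ 0) : Tz hF ≃+ Tz hF where
  toFun c := ⟨f * c.1, by
    have := c.2
    rw [mem_Tz] at this ⊢
    rw [mul_pow, hf]
    linear_combination f * this⟩
  invFun c := ⟨f⁻¹ * c.1, by
    have := c.2
    rw [mem_Tz] at this ⊢
    rw [mul_pow, inv_pow, hf]
    linear_combination f⁻¹ * this⟩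
  left_inv c := by
    apply Subtype.ext
    simp [hf0]
  right_inv c := by
    apply Subtype.ext
    simp [hf0]
  map_add' a b := by
    apply Subtype.ext
    simp [mul_add]

/-- Multiplication by an element of the subfield on the trace zero elements, as a homomorphism. -/
noncomputable def mulHomTz (f : F) (hf : f ^ q = f) : Tz hF →+ Tz hF where
  toFun c := ⟨f * c.1, by
    have := c.2
    rw [mem_Tz] at this ⊢
    rw [mul_pow, hf]
    linear_combination f * this⟩
  map_zero' := by
    apply Subtype.ext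
    simp
  map_add' a b := by
    apply Subtype.ext
    simp [mul_add]

/-- Any two nontrivial characters of `Tz` differ by an element of the subfield. -/
lemma exists_mul_of_ne_one (ζ ζ' : AddChar (Tz hF) ℂ) (hζ : ζ ≠ 1) (hζ' : ζ' ≠ 1) :
    ∃ (f : F) (hf : f ^ q = f) (hf0 : f ≠ 0),
      ζ' = ζ.compAddMonoidHom (mulTz hF f hf hf0).toAddMonoidHom := by
  classical
  have hq0 : (0 : F) ^ q = 0 := zero_pow (by have := two_le hF; omega)
  let mf : {f : F // f ^ q = f} → AddChar (Tz hF) ℂ := fun f =>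
    ζ.compAddMonoidHom (mulHomTz hF f.1 f.2)
  have hinj : Function.Injective mf := by
    intro f g hfg
    by_contra hne
    have hne' : f.1 - g.1 ≠ 0 := sub_ne_zero.2 (fun h => hne (Subtype.ext h))
    apply hζ
    ext c
    have hd : (f.1 - g.1)⁻¹ * c.1 ∈ Tz hF := by
      have := c.2
      rw [mem_Tz] at this ⊢
      rw [mul_pow, inv_pow, sub_pow_q hF, f.2, g.2]
      linear_combination (f.1 - g.1)⁻¹ * this
    let d : Tz hF := ⟨_, hd⟩
    have h1 : ζ (mulHomTz hF f.1 f.2 d) = ζ (mulHomTz hF g.1 g.2 d) := DFunLike.congr_fun hfg d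
    have h2 : c = mulHomTz hF f.1 f.2 d + -(mulHomTz hF g.1 g.2 d) := by
      apply Subtype.ext
      simp only [mulHomTz, d, AddMonoidHom.mk'_apply, AddMemClass.coe_add, NegMemClass.coe_neg,
        AddMonoidHom.coe_mk, ZeroHom.coe_mk]
      field_simp
      ring
    rw [h2, AddChar.map_add_eq_mul, h1, ← AddChar.map_add_eq_mul, add_neg_cancel,
      AddChar.map_zero_eq_one]
    simp
  have hcard : Nat.card {f : F // f ^ q = f} = Fintype.card (AddChar (Tz hF) ℂ) := by
    rw [Cfsg.Agent.Lib.HermLines.card_fixed hF, AddChar.card_eq, card_Tz hF]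
  let _ : Fintype {f : F // f ^ q = f} := Fintype.ofFinite _
  have hsurj : Function.Surjective mf := by
    have h5 : Fintype.card {f : F // f ^ q = f} = Fintype.card (AddChar (Tz hF) ℂ) := by
      rw [← hcard, Nat.card_eq_fintype_card]
    exact ((Fintype.bijective_iff_injective_and_card mf).2 ⟨hinj, h5⟩).2
  obtain ⟨f, hf⟩ := hsurj ζ'
  have hf0 : f.1 ≠ 0 := by
    intro h0
    apply hζ'
    rw [← hf]
    ext c
    simp only [mf, AddChar.compAddMonoidHom_apply, AddChar.one_apply]
    have : mulHomTz hF f.1 f.2 c = 0 := by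
      apply Subtype.ext
      simp [mulHomTz, h0]
    rw [this, AddChar.map_zero_eq_one]
  refine ⟨f.1, f.2, hf0, ?_⟩
  rw [← hf]
  rfl

end Cfsg.Agent.Lib.SUMinDeg
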