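import Mathlib
import Cfsg.Agent.Lib.SUMinDeg2

/-!
# The Heisenberg bound for the rank of a central isotypic component
-/

set_option autoImplicit false
set_option linter.unusedSectionVars false
set_option linter.unusedVariables false

namespace Cfsg.Agent.Lib.SUMinDeg

open Matrix Cfsg Cfsg.Agent.Lib.HermForm Cfsg.Agent.Lib.FFNorm Cfsg.Agent.Lib.UnitaryE
  Cfsg.Agent.Lib.UnitarySU Cfsg.Agent.Lib.FourierAb

variable {F : Type*} [Field F] [Fintype F] {q n k : ℕ}

/-- Extension by zero from a set of coordinates. -/
def extS (S' : Finset (Fin n)) (y : S' → F) : Fin n → F :=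
  fun i => if hi : i ∈ S' then y ⟨i, hi⟩ else 0

lemma extS_apply_mem (S' : Finset (Fin n)) (y : S' → F) {i : Fin n} (hi : i ∈ S') :
    extS S' y i = y ⟨i, hi⟩ := dif_pos hi

lemma extS_apply_not (S' : Finset (Fin n)) (y : S' → F) {i : Fin n} (hi : i ∉ S') :
    extS S' y i = 0 := dif_neg hi

variable (hF : Fintype.card F = q ^ 2)

include hF in
lemma exists_sig (y : Fin n → F) : ∃ s : F, s + s ^ q + hermForm n F q y y = 0 := by
  have h1 : (- hermForm n F q y y) ^ q = - hermForm n F q y y := by
    rw [neg_pow_q hF, hermForm_conj hF]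
  obtain ⟨s, hs⟩ := exists_trace_eq hF h1
  exact ⟨s, by rw [hs]; ring⟩

/-- A solution of the trace condition. -/
noncomputable def sig (y : Fin n → F) : F := Classical.choose (exists_sig (n := n) hF y)

lemma sig_spec (y : Fin n → F) : sig hF y + (sig hF y) ^ q + hermForm n F q y y = 0 :=
  Classical.choose_spec (exists_sig (n := n) hF y)

/-- The Heisenberg element attached to a vector. -/
noncomputable def xx (v y : Fin n → F) : SU n F q := mkE hF v y (sig hF y)

lemma good_xx {v y : Fin n → F} (hv : hermForm n F q v v = 0) (hy : hermForm n F q y v = 0) :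
    Good q v y (sig hF y) := ⟨hv, hy, sig_spec hF y⟩

/-- The commutator value, as a trace zero element. -/
noncomputable def kap (u y : Fin n → F) : Tz hF :=
  ⟨hermForm n F q u y - hermForm n F q y u, trace_zero_kappa hF u y⟩

lemma kap_add_right (u y y' : Fin n → F) : kap hF u (y + y') = kap hF u y + kap hF u y' := by
  apply Subtype.ext
  simp only [kap, AddMemClass.coe_add]
  rw [hermForm_add_right hF, hermForm_add_left]
  ring

include hF in
lemma herm_zero_of_support {x v : Fin n → F} (h : ∀ i, x i = 0 ∨ v i = 0) :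
    hermForm n F q x v = 0 := by
  have h2 : (0 : F) ^ q = 0 := zero_pow (by have := two_le hF; omega)
  simp only [hermForm]
  refine Finset.sum_eq_zero fun i _ => ?_
  rcases h i with h3 | h3 <;> simp [h3, h2]

section heis

variable (R : SU n F q →* Matrix (Fin k) (Fin k) ℂ) {v : Fin n → F}
  (hv : hermForm n F q v v = 0) (S' : Finset (Fin n)) (hvS : ∀ i ∈ S', v i = 0)

include hF hvS in
lemma herm_extS (y : S' → F) : hermForm n F q (extS S' y) v = 0 := by
  apply herm_zero_of_support hF
  intro i
  by_cases hi : i ∈ S'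
  · exact Or.inr (hvS i hi)
  · exact Or.inl (extS_apply_not S' y hi)

lemma ne_zero_char (ζ : AddChar (Tz hF) ℂ) (a : Tz hF) : ζ a ≠ 0 := (ζ.val_isUnit a).ne_zero

include hv in
lemma tau_inv_eq (c : Tz hF) : (tau hF v c.1)⁻¹ = tau hF v (-c).1 := by
  apply inv_eq_of_mul_eq_one_right
  rw [← tau_add hF hv c.2 (-c).2]
  simp only [NegMemClass.coe_neg, add_neg_cancel]
  exact tau_zero hF v hv

include hv hvS in
/-- The Heisenberg bound. -/
theorem heis_bound {P : Matrix (Fin k) (Fin k) ℂ} (hP : P * P = P) (hP0 : P ≠ 0)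
    (hcomm : ∀ y : S' → F, R (xx hF v (extS S' y)) * P = P * R (xx hF v (extS S' y)))
    (ζ : AddChar (Tz hF) ℂ) (hζ : ζ ≠ 1) (hτ : ∀ c : Tz hF, R (tau hF v c.1) * P = ζ c • P) :
    q ^ S'.card ≤ rk P := by
  classical
  let x : (S' → F) → SU n F q := fun y => xx hF v (extS S' y)
  have hgood : ∀ y : S' → F, Good q v (extS S' y) (sig hF (extS S' y)) := fun y =>
    good_xx hF hv (herm_extS hF S' hvS y)
  have hcomm' : ∀ y : S' → F, R (x y)⁻¹ * P = P * R (x y)⁻¹ := by
    intro y
    have h1 : R (x y) * R (x y)⁻¹ = 1 := by rw [← map_mul, mul_inv_cancel, map_one]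
    have h2 : R (x y)⁻¹ * R (x y) = 1 := by rw [← map_mul, inv_mul_cancel, map_one]
    calc R (x y)⁻¹ * P = R (x y)⁻¹ * P * (R (x y) * R (x y)⁻¹) := by rw [h1, mul_one]
      _ = R (x y)⁻¹ * (P * R (x y)) * R (x y)⁻¹ := by noncomm_ring
      _ = R (x y)⁻¹ * (R (x y) * P) * R (x y)⁻¹ := by rw [hcomm y]
      _ = (R (x y)⁻¹ * R (x y)) * P * R (x y)⁻¹ := by noncomm_ring
      _ = _ := by rw [h2, one_mul]
  have hrel : ∀ u y : S' → F, x u * x y = tau hF v (kap hF (extS S' u) (extS S' y)).1 * (x y * x u) := by
    intro u y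
    exact mkE_comm hF (hgood u) (hgood y)
  have htr0 : P.trace ≠ 0 := by
    rw [trace_eq_rk P hP]
    exact Nat.cast_ne_zero.2 (rk_pos_of_ne hP hP0).ne'
  -- the independence
  have hind : ∀ g : (S' → F) → ℂ, ∑ i, g i • (R (x i) * P) = 0 → ∀ i, g i = 0 := by
    intro g hg i
    refine indep_of_eigen (fun y => R (x y) * P) (fun y => R (x y)⁻¹ * P) (fun u => R (x u))
      (fun u => R (x u)⁻¹) (fun u => by rw [← map_mul, inv_mul_cancel, map_one])
      (fun y u => ζ (kap hF (extS S' u) (extS S' y))) (fun y u => ne_zero_char hF ζ _)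
      ?_ ?_ ?_ ?_ g hg i
    · intro u y
      have h1 : R (x u) * R (x y) =
          R (tau hF v (kap hF (extS S' u) (extS S' y)).1) * (R (x y) * R (x u)) := by
        rw [← map_mul, hrel, map_mul, map_mul]
      have h2 : R (tau hF v (kap hF (extS S' u) (extS S' y)).1) * R (x y) =
          R (x y) * R (tau hF v (kap hF (extS S' u) (extS S' y)).1) := by
        rw [← map_mul, ← map_mul]
        congr 1
        exact commute_tau hF hv (kap hF (extS S' u) (extS S' y)).2 (hgood y)
      change R (x u) * (R (x y) * P) = ζ _ • (R (x y) * P * R (x u))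
      calc R (x u) * (R (x y) * P) = (R (x u) * R (x y)) * P := by rw [mul_assoc]
        _ = (R (tau hF v (kap hF (extS S' u) (extS S' y)).1) * R (x y)) * (R (x u) * P) := by
          rw [h1]; noncomm_ring
        _ = R (x y) * (R (tau hF v (kap hF (extS S' u) (extS S' y)).1) * P) * R (x u) := by
          rw [h2, hcomm u]; noncomm_ring
        _ = _ := by
          rw [hτ, Matrix.mul_smul, Matrix.smul_mul]
    · intro u y
      -- the relation for the inverse
      set c := kap hF (extS S' u) (extS S' y) with hc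
      have h1 : x u * (x y)⁻¹ = tau hF v (-c).1 * ((x y)⁻¹ * x u) := by
        have h2 : tau hF v c.1 * x y = x y * tau hF v c.1 := commute_tau hF hv c.2 (hgood y)
        have h3 := hrel u y
        rw [← tau_inv_eq hF hv c]
        calc x u * (x y)⁻¹ = (tau hF v c.1)⁻¹ * (tau hF v c.1 * (x u * (x y)⁻¹)) := by group
          _ = (tau hF v c.1)⁻¹ * ((x y)⁻¹ * (x y * tau hF v c.1) * (x u * (x y)⁻¹)) := by group
          _ = (tau hF v c.1)⁻¹ * ((x y)⁻¹ * (tau hF v c.1 * x y) * (x u * (x y)⁻¹)) := by rw [h2]
          _ = (tau hF v c.1)⁻¹ * ((x y)⁻¹ * (tau hF v c.1 * (x y * x u)) * (x y)⁻¹ * (x y) * (x y)⁻¹) := by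
            group
          _ = (tau hF v c.1)⁻¹ * ((x y)⁻¹ * (x u * x y) * (x y)⁻¹) := by
            rw [← h3]; group
          _ = _ := by group
      have h2 : R (tau hF v (-c).1) * R (x y)⁻¹ = R (x y)⁻¹ * R (tau hF v (-c).1) := by
        rw [← map_mul, ← map_mul]
        congr 1
        have h5 : tau hF v (-c).1 * x y = x y * tau hF v (-c).1 :=
          commute_tau hF hv (-c).2 (hgood y)
        calc tau hF v (-c).1 * (x y)⁻¹ = (x y)⁻¹ * (x y * tau hF v (-c).1) * (x y)⁻¹ := by group
          _ = (x y)⁻¹ * (tau hF v (-c).1 * x y) * (x y)⁻¹ := by rw [h5]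
          _ = _ := by group
      have h6 : ζ (-c) = (ζ c)⁻¹ := AddChar.map_neg_eq_inv ζ c
      change R (x u) * (R (x y)⁻¹ * P) = (ζ c)⁻¹ • (R (x y)⁻¹ * P * R (x u))
      rw [← h6]
      calc R (x u) * (R (x y)⁻¹ * P) = R (x u * (x y)⁻¹) * P := by rw [map_mul, mul_assoc]
        _ = (R (tau hF v (-c).1) * R (x y)⁻¹) * (R (x u) * P) := by
          rw [h1, map_mul, map_mul]; noncomm_ring
        _ = R (x y)⁻¹ * (R (tau hF v (-c).1) * P) * R (x u) := by
          rw [h2, hcomm u]; noncomm_ring
        _ = _ := by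
          rw [hτ (-c), Matrix.mul_smul, Matrix.smul_mul]
    · intro y y' hyy
      -- find a separating element
      have h1 : ∃ i : S', y i ≠ y' i := by
        by_contra hcon
        push Not at hcon
        exact hyy (funext hcon)
      obtain ⟨i, hi⟩ := h1
      have h0 : ∃ c : Tz hF, ζ c ≠ 1 := AddChar.ne_one_iff.1 hζ
      obtain ⟨c, hc⟩ := h0
      have hcq : c.1 ^ q + c.1 = 0 := by
        have := c.2
        rw [mem_Tz] at this
        linear_combination this
      obtain ⟨l, hl⟩ := exists_sub_eq hF hcq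
      set z := y i - y' i with hz
      have hz0 : z ≠ 0 := sub_ne_zero.2 hi
      have hzq : z ^ q ≠ 0 := pow_ne_zero _ hz0
      let u : S' → F := Pi.single i (-l / z ^ q)
      refine ⟨u, ?_⟩
      have hu : extS S' u = Pi.single i.1 (-l / z ^ q) := by
        funext j
        by_cases hj : j ∈ S'
        · rw [extS_apply_mem S' u hj]
          by_cases hji : j = i.1
          · subst hji
            simp [u]
          · have : (⟨j, hj⟩ : S') ≠ i := fun h => hji (congrArg Subtype.val h)
            simp [u, Pi.single_apply, this, hji]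
        · rw [extS_apply_not S' u hj]
          have : j ≠ i.1 := fun h => hj (h ▸ i.2)
          simp [Pi.single_apply, this]
      have hsplit : extS S' y = extS S' y' + extS S' (y - y') := by
        funext j
        by_cases hj : j ∈ S'
        · simp [extS_apply_mem _ _ hj]
        · simp [extS_apply_not _ _ hj]
      have hval : kap hF (extS S' u) (extS S' (y - y')) = c := by
        apply Subtype.ext
        simp only [kap]
        rw [hu]
        have h1 : (extS S' (y - y')) i.1 = z := by
          rw [extS_apply_mem S' _ i.2]; simp [hz]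
        have h2 : ∀ a : Fin n → F, a i.1 = z → ∀ b : F,
            hermForm n F q (Pi.single i.1 b) a = b * z ^ q ∧
            hermForm n F q a (Pi.single i.1 b) = z * b ^ q := by
          intro a ha b
          have h3 : (Pi.single i.1 b : Fin n → F) = b • Pi.single i.1 (1 : F) := by
            funext j
            by_cases hj : j = i.1
            · subst hj; simp
            · simp [Pi.single_apply, hj]
          rw [h3, hermForm_smul_left, hermForm_smul_right, hermForm_single_left,
            hermForm_single_right hF, ha]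
          exact ⟨rfl, mul_comm _ _⟩
        obtain ⟨h3, h4⟩ := h2 _ h1 (-l / z ^ q)
        rw [h3, h4, div_pow, neg_pow_q hF, pow_pow_self hF]
        field_simp
        linear_combination hl
      intro heq
      apply hc
      have h5 : ζ (kap hF (extS S' u) (extS S' y)) = ζ (kap hF (extS S' u) (extS S' y')) * ζ c := by
        rw [← AddChar.map_add_eq_mul, hsplit, kap_add_right, hval]
      change ζ (kap hF (extS S' u) (extS S' y)) = ζ (kap hF (extS S' u) (extS S' y')) at heq
      rw [heq] at h5
      have h6 := ne_zero_char hF ζ (kap hF (extS S' u) (extS S' y'))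
      have h7 : ζ (kap hF (extS S' u) (extS S' y')) * (ζ c - 1) = 0 := by
        linear_combination -h5
      rcases mul_eq_zero.1 h7 with h8 | h8
      · exact absurd h8 h6
      · linear_combination h8
    · intro y
      change (R (x y)⁻¹ * P * (R (x y) * P)).trace ≠ 0
      have h1 : R (x y)⁻¹ * P * (R (x y) * P) = P := by
        calc R (x y)⁻¹ * P * (R (x y) * P) = R (x y)⁻¹ * (P * R (x y)) * P := by noncomm_ring
          _ = (R (x y)⁻¹ * R (x y)) * (P * P) := by rw [← hcomm y]; noncomm_ring
          _ = P := by rw [← map_mul, inv_mul_cancel, map_one, one_mul, hP]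
      rw [h1]
      exact htr0
  have hcard := card_le_rk_sq hP (fun y : S' → F => R (x y) * P)
    (fun y => by
      change P * (R (x y) * P) = R (x y) * P
      calc P * (R (x y) * P) = (P * R (x y)) * P := by rw [mul_assoc]
        _ = R (x y) * (P * P) := by rw [← hcomm y]; noncomm_ring
        _ = _ := by rw [hP])
    (fun y => by
      change R (x y) * P * P = R (x y) * P
      rw [mul_assoc, hP])
    hind
  have hcardF : Fintype.card (S' → F) = q ^ S'.card * q ^ S'.card := by
    rw [Fintype.card_fun, hF]
    simp only [Fintype.card_coe]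
    ring
  rw [hcardF] at hcard
  by_contra hlt
  push Not at hlt
  have : rk P * rk P < q ^ S'.card * q ^ S'.card := Nat.mul_lt_mul'' hlt hlt
  omega

end heis

end Cfsg.Agent.Lib.SUMinDeg
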