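import Mathlib
import Cfsg.Agent.Lib.SUMinDeg3

/-!
# The Gauss sum estimate for the trace of a transvection on a central isotypic component
-/

set_option autoImplicit false
set_option linter.unusedSectionVars false
set_option linter.unusedVariables false

namespace Cfsg.Agent.Lib.SUMinDeg

open Matrix Cfsg Cfsg.Agent.Lib.HermForm Cfsg.Agent.Lib.FFNorm Cfsg.Agent.Lib.UnitaryE
  Cfsg.Agent.Lib.UnitarySU Cfsg.Agent.Lib.FourierAb

variable {F : Type*} [Field F] [Fintype F] {q n k : ℕ}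
variable (hF : Fintype.card F = q ^ 2)

/-- The quadratic parameter. -/
noncomputable def cmu (c₀ : Tz hF) (μ : F) : F × Tz hF :=
  (c₀.1 * μ, ⟨c₀.1 * (μ * μ ^ q), by
    have h := c₀.2
    rw [mem_Tz] at h ⊢
    rw [mul_pow, mul_pow, pow_pow_self hF]
    linear_combination (μ * μ ^ q) * h⟩)

/-- The linear term in the expansion of `cmu (ν + δ) - cmu ν`. -/
noncomputable def linT (c₀ : Tz hF) (δ : F) : F →+ Tz hF where
  toFun ν := ⟨c₀.1 * (ν * δ ^ q + ν ^ q * δ), by
    have h := c₀.2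
    rw [mem_Tz] at h ⊢
    rw [mul_pow, add_pow_q hF, mul_pow, mul_pow, pow_pow_self hF, pow_pow_self hF]
    linear_combination (ν * δ ^ q + ν ^ q * δ) * h⟩
  map_zero' := by
    apply Subtype.ext
    have h2 : (0 : F) ^ q = 0 := zero_pow (by have := two_le hF; omega)
    simp [h2]
  map_add' a b := by
    apply Subtype.ext
    simp only [AddMemClass.coe_add]
    rw [add_pow_q hF]
    ring

lemma cmu_add (c₀ : Tz hF) (ν δ : F) :
    cmu hF c₀ (ν + δ) = cmu hF c₀ ν + cmu hF c₀ δ + ((0 : F), linT hF c₀ δ ν) := by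
  refine Prod.ext ?_ ?_
  · simp only [cmu, Prod.fst_add]
    ring
  · apply Subtype.ext
    simp only [cmu, linT, Prod.snd_add, AddMemClass.coe_add, AddMonoidHom.coe_mk, ZeroHom.coe_mk]
    rw [add_pow_q hF]
    ring

lemma linT_surj (c₀ : Tz hF) (hc0 : c₀.1 ≠ 0) {δ : F} (hδ : δ ≠ 0) :
    Function.Surjective (linT hF c₀ δ) := by
  intro c
  have hc := c.2
  have hc₀ := c₀.2
  rw [mem_Tz] at hc hc₀
  have h1 : c₀.1 ^ q = - c₀.1 := by linear_combination hc₀
  have h2 : c.1 ^ q = - c.1 := by linear_combination hc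
  have h3 : (c.1 / c₀.1) ^ q = c.1 / c₀.1 := by
    rw [div_pow, h1, h2, neg_div_neg_eq]
  obtain ⟨z, hz⟩ := exists_trace_eq hF h3
  refine ⟨z / δ ^ q, ?_⟩
  apply Subtype.ext
  simp only [linT, AddMonoidHom.coe_mk, ZeroHom.coe_mk]
  have hδq : δ ^ q ≠ 0 := pow_ne_zero _ hδ
  rw [div_pow, pow_pow_self hF]
  field_simp
  have h4 : z * δ + z ^ q * δ = (c.1 / c₀.1) * δ := by rw [← hz]; ring
  field_simp at h4
  linear_combination h4

/-- The embedding of the second factor as a homomorphism. -/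
noncomputable def inrH : Tz hF →+ F × Tz hF := AddMonoidHom.inr F (Tz hF)

/-- The Gauss sum. -/
theorem gauss_sum (c₀ : Tz hF) (hc0 : c₀.1 ≠ 0) (χ : AddChar (F × Tz hF) ℂ)
    (hχ : χ.compAddMonoidHom (inrH hF) ≠ 1) :
    ‖∑ μ : F, χ (cmu hF c₀ μ)‖ = q := by
  classical
  set S := ∑ μ : F, χ (cmu hF c₀ μ) with hS
  have h1 : S * (starRingEnd ℂ) S = ((q ^ 2 : ℕ) : ℂ) := by
    rw [hS, map_sum, Finset.sum_mul_sum]
    -- reorganise
    have h2 : ∀ ν : F, ∑ μ : F, χ (cmu hF c₀ μ) * (starRingEnd ℂ) (χ (cmu hF c₀ ν)) =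
        ∑ δ : F, χ (cmu hF c₀ δ) * χ ((0 : F), linT hF c₀ δ ν) := by
      intro ν
      refine Fintype.sum_equiv (Equiv.subLeft ν |>.trans (Equiv.neg F)) _ _ fun μ => ?_
      simp only [Equiv.trans_apply, Equiv.subLeft_apply, Equiv.neg_apply, neg_sub]
      rw [← AddChar.map_neg_eq_conj, ← AddChar.map_add_eq_mul, ← AddChar.map_add_eq_mul]
      congr 1
      have h3 := cmu_add hF c₀ ν (μ - ν)
      rw [add_sub_cancel] at h3
      rw [h3]
      abel
    -- the double sum
    have h4 : ∑ μ : F, ∑ ν : F, χ (cmu hF c₀ μ) * (starRingEnd ℂ) (χ (cmu hF c₀ ν)) =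
        ∑ ν : F, ∑ δ : F, χ (cmu hF c₀ δ) * χ ((0 : F), linT hF c₀ δ ν) := by
      rw [Finset.sum_comm]
      exact Finset.sum_congr rfl fun ν _ => h2 ν
    rw [h4, Finset.sum_comm]
    rw [Finset.sum_eq_single (0 : F)]
    · have h5 : ∀ ν : F, χ (cmu hF c₀ 0) * χ ((0 : F), linT hF c₀ 0 ν) = 1 := by
        intro ν
        have h6 : cmu hF c₀ 0 = 0 := by
          have h2 : (0 : F) ^ q = 0 := zero_pow (by have := two_le hF; omega)
          refine Prod.ext ?_ ?_
          · simp [cmu]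
          · apply Subtype.ext
            simp [cmu]
        have h7 : linT hF c₀ 0 ν = 0 := by
          have h2 : (0 : F) ^ q = 0 := zero_pow (by have := two_le hF; omega)
          apply Subtype.ext
          simp [linT, h2]
        have h8 : ((0 : F), (0 : Tz hF)) = 0 := rfl
        rw [h6, h7, h8, AddChar.map_zero_eq_one, one_mul]
      simp only [h5, Finset.sum_const, Finset.card_univ, hF, nsmul_eq_mul, mul_one]
    · intro δ _ hδ
      rw [← Finset.mul_sum]
      -- the inner sum vanishes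
      let Φ : AddChar F ℂ := (χ.compAddMonoidHom (inrH hF)).compAddMonoidHom (linT hF c₀ δ)
      have hΦ : Φ ≠ 1 := by
        obtain ⟨c, hc⟩ := AddChar.ne_one_iff.1 hχ
        obtain ⟨ν, hν⟩ := linT_surj hF c₀ hc0 hδ c
        refine AddChar.ne_one_iff.2 ⟨ν, ?_⟩
        simp only [Φ, AddChar.compAddMonoidHom_apply]
        rw [hν]
        exact hc
      have h9 : ∑ ν : F, χ ((0 : F), linT hF c₀ δ ν) = 0 := AddChar.sum_eq_zero_of_ne_one hΦ
      rw [h9, mul_zero]
    · simp
  have h2 : ‖S‖ ^ 2 = (q : ℝ) ^ 2 := by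
    rw [Complex.mul_conj] at h1
    have h3 : Complex.normSq S = ((q ^ 2 : ℕ) : ℝ) := by exact_mod_cast h1
    rw [Complex.normSq_eq_norm_sq] at h3
    push_cast at h3
    exact h3
  have h4 : 0 ≤ ‖S‖ := norm_nonneg _
  have h5 : (0 : ℝ) ≤ q := Nat.cast_nonneg q
  nlinarith [sq_nonneg (‖S‖ - q), sq_nonneg (‖S‖ + q)]

section tracebound

variable (R : SU n F q →* Matrix (Fin k) (Fin k) ℂ) {v v' w' : Fin n → F}
  (hv : hermForm n F q v v = 0) (hv' : hermForm n F q v' v' = 0) (hvv' : hermForm n F q v' v = 0)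
  (hw' : hermForm n F q w' v' = 1) (hw'v : hermForm n F q w' v = 0)

/-- The representation of `F × Tz`. -/
noncomputable def rB (v v' : Fin n → F) (a : F × Tz hF) : Matrix (Fin k) (Fin k) ℂ :=
  R (mkE hF v (a.1 • v') a.2.1)

include hv hv' hvv' in
lemma good_B (a : F × Tz hF) : Good q v (a.1 • v') a.2.1 := by
  refine ⟨hv, ?_, ?_⟩
  · rw [hermForm_smul_left, hvv', mul_zero]
  · have h := a.2.2
    rw [mem_Tz] at h
    rw [hermForm_smul_left, hermForm_smul_right, hv', h]
    ring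

include hv hv' hvv' in
lemma rB_zero : rB hF R v v' (0 : F × Tz hF) = 1 := by
  simp only [rB, Prod.fst_zero, zero_smul, Prod.snd_zero, ZeroMemClass.coe_zero]
  have : mkE hF v (0 : Fin n → F) (0 : F) = 1 := tau_zero hF v hv
  rw [this, map_one]

include hv hv' hvv' in
lemma rB_add (a b : F × Tz hF) :
    rB hF R v v' (a + b) = rB hF R v v' a * rB hF R v v' b := by
  simp only [rB]
  rw [← map_mul, mkE_mul hF (good_B hF hv hv' hvv' a) (good_B hF hv hv' hvv' b)]
  congr 2
  · rw [Prod.fst_add, add_smul]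
  · rw [hermForm_smul_left, hermForm_smul_right, hv']
    simp

include hv hv' hvv' hw' in
/-- The key relation: `t x = x c t`. -/
lemma t_mul_x (c₀ : Tz hF) (μ s : F) (hx : Good q v (μ • w') s) :
    tau hF v' c₀.1 * mkE hF v (μ • w') s =
      (mkE hF v (μ • w') s * mkE hF v ((cmu hF c₀ μ).1 • v') (cmu hF c₀ μ).2.1) * tau hF v' c₀.1 := by
  have hc₀ := c₀.2
  rw [mem_Tz] at hc₀
  have hvv'' : hermForm n F q v v' = 0 := herm_zero_of_conj hF hvv'
  have h1 : act (tau hF v' c₀.1) v = v := by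
    rw [act_tau hF hv' hc₀, hvv'']
    simp
  have h2 : act (tau hF v' c₀.1) (μ • w') = μ • w' + (c₀.1 * μ) • v' := by
    rw [act_tau hF hv' hc₀, hermForm_smul_left, hw', mul_one]
  rw [conj_mkE hF _ hx, h1, h2]
  congr 1
  rw [mkE_mul hF hx (good_B hF hv hv' hvv' (cmu hF c₀ μ))]
  have h3 : hermForm n F q v' w' = 1 := by
    rw [← hermForm_conj hF w' v', hw', one_pow]
  have h4 : hermForm n F q ((cmu hF c₀ μ).1 • v') (μ • w') = c₀.1 * (μ * μ ^ q) := by
    rw [hermForm_smul_left, hermForm_smul_right, h3]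
    simp only [cmu]
    ring
  rw [h4]
  simp only [cmu]
  congr 1
  ring

include hv hv' hvv' in
lemma t_comm_B (c₀ : Tz hF) (a : F × Tz hF) :
    R (tau hF v' c₀.1) * rB hF R v v' a = rB hF R v v' a * R (tau hF v' c₀.1) := by
  have hc₀ := c₀.2
  rw [mem_Tz] at hc₀
  have hvv'' : hermForm n F q v v' = 0 := herm_zero_of_conj hF hvv'
  have h1 : act (tau hF v' c₀.1) v = v := by
    rw [act_tau hF hv' hc₀, hvv'']
    simp
  have h2 : act (tau hF v' c₀.1) (a.1 • v') = a.1 • v' := by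
    rw [act_smul, act_tau hF hv' hc₀, hv']
    simp
  simp only [rB]
  rw [← map_mul, ← map_mul, conj_mkE hF _ (good_B hF hv hv' hvv' a), h1, h2]

include hv hv' hvv' hw' hw'v in
/-- The trace of a transvection in the Levi subgroup on a central isotypic component. -/
theorem trace_bound (c₀ : Tz hF) (hc0 : c₀.1 ≠ 0) {P : Matrix (Fin k) (Fin k) ℂ} (hP : P * P = P)
    (hPt : R (tau hF v' c₀.1) * P = P * R (tau hF v' c₀.1))
    (hPx : ∀ (μ s : F), Good q v (μ • w') s → R (mkE hF v (μ • w') s) * P = P * R (mkE hF v (μ • w') s))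
    (hPB : ∀ a : F × Tz hF, P * rB hF R v v' a = rB hF R v v' a * P)
    (ζ : AddChar (Tz hF) ℂ) (hζ : ζ ≠ 1) (hτ : ∀ c : Tz hF, R (tau hF v c.1) * P = ζ c • P) :
    (q : ℝ) * ‖(R (tau hF v' c₀.1) * P).trace‖ ≤ (rk P : ℝ) := by
  classical
  have hq2 : 2 ≤ q := two_le hF
  have hqR : (0 : ℝ) < q := by positivity
  set T := R (tau hF v' c₀.1) with hT
  let f : AddChar (F × Tz hF) ℂ → Matrix (Fin k) (Fin k) ℂ := eA (rB hF R v v')
  have h0 := rB_zero hF R hv hv' hvv'
  have hadd := rB_add hF R hv hv' hvv'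
  have hsum : ∑ χ, f χ = 1 := sum_eA h0
  have hfidem : ∀ χ, f χ * f χ = f χ := eA_idem hadd
  have hTf : ∀ χ, T * f χ = f χ * T := comm_eA (fun a => t_comm_B hF R hv hv' hvv' c₀ a)
  have hPf : ∀ χ, P * f χ = f χ * P := comm_eA hPB
  have hPfidem : ∀ χ, (P * f χ) * (P * f χ) = P * f χ := by
    intro χ
    calc (P * f χ) * (P * f χ) = P * (f χ * P) * f χ := by noncomm_ring
      _ = P * (P * f χ) * f χ := by rw [hPf]
      _ = (P * P) * (f χ * f χ) := by noncomm_ring
      _ = _ := by rw [hP, hfidem]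
  have hTPf : ∀ χ, T * (P * f χ) = (P * f χ) * T := by
    intro χ
    calc T * (P * f χ) = (T * P) * f χ := by rw [mul_assoc]
      _ = P * (T * f χ) := by rw [hPt, mul_assoc]
      _ = _ := by rw [hTf, mul_assoc]
  have hX : (T * P) = ∑ χ, T * (P * f χ) := by
    rw [← Finset.mul_sum, ← Finset.mul_sum, hsum, mul_one]
  -- the identity for each `μ`
  have hid : ∀ μ : F, (T * P).trace = ∑ χ, χ (cmu hF c₀ μ) * (T * (P * f χ)).trace := by
    intro μ
    obtain ⟨s, hs⟩ := exists_sig (n := n) hF (μ • w')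
    have hgx : Good q v (μ • w') s := by
      refine ⟨hv, ?_, hs⟩
      rw [hermForm_smul_left, hw'v, mul_zero]
    set x := mkE hF v (μ • w') s with hx
    set C := rB hF R v v' (cmu hF c₀ μ) with hC
    have hrel : T * R x = R x * C * T := by
      have := congrArg R (t_mul_x hF hv hv' hvv' hw' c₀ μ s hgx)
      simp only [map_mul] at this
      exact this
    have hCT : C * T = T * C := (t_comm_B hF R hv hv' hvv' c₀ _).symm
    have hCP : C * P = P * C := (hPB _).symm
    have h1 : (C * (T * P)).trace = (T * P).trace := by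
      have hxx : R x⁻¹ * R x = 1 := by rw [← map_mul, inv_mul_cancel, map_one]
      have hxx' : R x * R x⁻¹ = 1 := by rw [← map_mul, mul_inv_cancel, map_one]
      have h2 : C * (T * P) = R x⁻¹ * ((T * P) * R x) := by
        calc C * (T * P) = R x⁻¹ * (R x * C * T) * P := by
              rw [mul_assoc (R x), ← mul_assoc (R x⁻¹), hxx, one_mul, mul_assoc]
          _ = R x⁻¹ * (T * R x) * P := by rw [hrel]
          _ = R x⁻¹ * T * (R x * P) := by noncomm_ring
          _ = R x⁻¹ * T * (P * R x) := by rw [hPx μ s hgx]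
          _ = _ := by noncomm_ring
      rw [h2, Matrix.trace_mul_comm, mul_assoc, hxx', mul_one]
    rw [← h1]
    have h3 : C * (T * P) = ∑ χ, χ (cmu hF c₀ μ) • (T * (P * f χ)) := by
      calc C * (T * P) = T * P * C := by
            rw [← mul_assoc, hCT, mul_assoc, hCP, mul_assoc]
        _ = T * P * (C * 1) := by rw [mul_one]
        _ = _ := by
          rw [← hsum, Finset.mul_sum, Finset.mul_sum]
          refine Finset.sum_congr rfl fun χ _ => ?_
          rw [r_mul_eA hadd, Matrix.mul_smul, mul_assoc]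
    rw [h3, Matrix.trace_sum]
    refine Finset.sum_congr rfl fun χ _ => ?_
    rw [Matrix.trace_smul, smul_eq_mul]
  -- summing over `μ`
  have hsumμ : ((q ^ 2 : ℕ) : ℂ) * (T * P).trace =
      ∑ χ, (∑ μ : F, χ (cmu hF c₀ μ)) * (T * (P * f χ)).trace := by
    have h1 : ∑ μ : F, (T * P).trace = ((q ^ 2 : ℕ) : ℂ) * (T * P).trace := by
      simp [hF]
    rw [← h1]
    calc ∑ μ : F, (T * P).trace = ∑ μ : F, ∑ χ, χ (cmu hF c₀ μ) * (T * (P * f χ)).trace :=
          Finset.sum_congr rfl fun μ _ => hid μ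
      _ = ∑ χ, ∑ μ : F, χ (cmu hF c₀ μ) * (T * (P * f χ)).trace := Finset.sum_comm
      _ = _ := by
        refine Finset.sum_congr rfl fun χ _ => ?_
        rw [Finset.sum_mul]
  -- finite order of `T`
  obtain ⟨N, hN, hTN⟩ : ∃ N : ℕ, 0 < N ∧ T ^ N = 1 := by
    refine ⟨orderOf (tau hF v' c₀.1), orderOf_pos _, ?_⟩
    rw [hT, ← map_pow, pow_orderOf_eq_one, map_one]
  -- the bound for each character
  have hterm : ∀ χ : AddChar (F × Tz hF) ℂ,
      ‖(∑ μ : F, χ (cmu hF c₀ μ)) * (T * (P * f χ)).trace‖ ≤ (q : ℝ) * (rk (P * f χ) : ℝ) := by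
    intro χ
    by_cases hχ : χ.compAddMonoidHom (inrH hF) = ζ
    · have h1 := gauss_sum hF c₀ hc0 χ (by rw [hχ]; exact hζ)
      rw [norm_mul, h1]
      have h2 := norm_trace_mul_le hN hTN (hPfidem χ) (hTPf χ)
      exact mul_le_mul_of_nonneg_left h2 hqR.le
    · -- `P f χ = 0`
      have hne : ∃ c : Tz hF, χ (inrH hF c) ≠ ζ c := by
        by_contra hcon
        push Not at hcon
        apply hχ
        ext c
        exact hcon c
      obtain ⟨c, hc⟩ := hne
      have h3 : R (tau hF v c.1) = rB hF R v v' (inrH hF c) := by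
        simp only [rB, inrH, AddMonoidHom.inr_apply, zero_smul]
      have h4 : P * f χ = 0 := by
        have h5 : ζ c • (P * f χ) = χ (inrH hF c) • (P * f χ) := by
          calc ζ c • (P * f χ) = (ζ c • P) * f χ := by rw [Matrix.smul_mul]
            _ = (R (tau hF v c.1) * P) * f χ := by rw [hτ]
            _ = P * (rB hF R v v' (inrH hF c) * f χ) := by
              rw [← h3, ← mul_assoc]
              congr 1
              rw [h3, hPB]
            _ = _ := by rw [r_mul_eA hadd, Matrix.mul_smul]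
        have h6 : (ζ c - χ (inrH hF c)) • (P * f χ) = 0 := by
          rw [sub_smul, h5, sub_self]
        exact (smul_eq_zero.1 h6).resolve_left (sub_ne_zero.2 hc.symm)
      rw [h4, mul_zero, Matrix.trace_zero, mul_zero, norm_zero, rk_zero]
      simp
  -- the sum of the ranks
  have hrk : ∑ χ, (rk (P * f χ) : ℝ) = (rk P : ℝ) := by
    have h1 : P.trace = ∑ χ, (P * f χ).trace := by
      rw [← Matrix.trace_sum, ← Finset.mul_sum, hsum, mul_one]
    rw [trace_eq_rk P hP] at h1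
    have h2 : ∀ χ, (P * f χ).trace = ((rk (P * f χ) : ℕ) : ℂ) := fun χ => trace_eq_rk _ (hPfidem χ)
    simp only [h2] at h1
    have h3 : (rk P : ℕ) = ∑ χ, rk (P * f χ) := by exact_mod_cast h1
    rw [h3]
    push_cast
    rfl
  -- conclusion
  have hmain : (q : ℝ) ^ 2 * ‖(T * P).trace‖ ≤ (q : ℝ) * (rk P : ℝ) := by
    have h1 := congrArg norm hsumμ
    rw [norm_mul] at h1
    have h2 : ‖((q ^ 2 : ℕ) : ℂ)‖ = (q : ℝ) ^ 2 := by
      rw [Complex.norm_natCast]
      push_cast
      rfl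
    rw [h2] at h1
    rw [h1]
    calc _ ≤ ∑ χ, ‖(∑ μ : F, χ (cmu hF c₀ μ)) * (T * (P * f χ)).trace‖ := norm_sum_le _ _
      _ ≤ ∑ χ, (q : ℝ) * (rk (P * f χ) : ℝ) := Finset.sum_le_sum fun χ _ => hterm χ
      _ = _ := by rw [← Finset.mul_sum, hrk]
  have h4 : (q : ℝ) * ((q : ℝ) * ‖(T * P).trace‖) ≤ (q : ℝ) * (rk P : ℝ) := by
    calc _ = (q : ℝ) ^ 2 * ‖(T * P).trace‖ := by ring
      _ ≤ _ := hmain
  exact le_of_mul_le_mul_left h4 hqR

end tracebound

end Cfsg.Agent.Lib.SUMinDeg
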