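import Mathlib
import Cfsg.Agent.Lib.SUMinDeg4

/-!
# Vectors, the subgroups `L S`, the torus and the permutation elements
-/

set_option autoImplicit false
set_option linter.unusedSectionVars false
set_option linter.unusedVariables false

namespace Cfsg.Agent.Lib.SUMinDeg

open Matrix Cfsg Cfsg.Agent.Lib.HermForm Cfsg.Agent.Lib.FFNorm Cfsg.Agent.Lib.UnitaryE
  Cfsg.Agent.Lib.UnitarySU Cfsg.Agent.Lib.FourierAb

variable {F : Type*} [Field F] [Fintype F] {q n k : ℕ}
variable (hF : Fintype.card F = q ^ 2)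

/-- Elements fixing the coordinates outside `S`. -/
def InL (S : Finset (Fin n)) (g : SU n F q) : Prop :=
  ∀ j, j ∉ S → act g (Pi.single j 1) = Pi.single j 1

lemma InL.mono {S S' : Finset (Fin n)} (h : S' ⊆ S) {g : SU n F q} (hg : InL S' g) : InL S g :=
  fun j hj => hg j (fun hj' => hj (h hj'))

/-- An element of `L S` fixes vectors vanishing on `S`. -/
lemma InL.act_eq {S : Finset (Fin n)} {g : SU n F q} (hg : InL S g) {x : Fin n → F}
    (hx : ∀ i ∈ S, x i = 0) : act g x = x := by
  classical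
  have h1 : x = ∑ j, x j • (Pi.single j 1 : Fin n → F) := by
    funext i
    simp [Finset.sum_apply, Pi.single_apply]
  rw [h1]
  have h2 : ∀ (s : Finset (Fin n)) (c : Fin n → F) (y : Fin n → Fin n → F),
      act g (∑ j ∈ s, c j • y j) = ∑ j ∈ s, c j • act g (y j) := by
    intro s c y
    simp [act, Matrix.mulVec_sum, Matrix.mulVec_smul]
  rw [h2]
  refine Finset.sum_congr rfl fun j _ => ?_
  by_cases hj : j ∈ S
  · rw [hx j hj]; simp
  · rw [hg j hj]

include hF in
lemma inL_mkE {S : Finset (Fin n)} {v y : Fin n → F} {s : F} (h : Good q v y s)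
    (hv : ∀ j, j ∉ S → v j = 0) (hy : ∀ j, j ∉ S → y j = 0) : InL S (mkE hF v y s) := by
  intro j hj
  have h2 : (0 : F) ^ q = 0 := zero_pow (by have := two_le hF; omega)
  rw [act_mkE hF h, hermForm_single_left, hermForm_single_left, hv j hj, hy j hj, h2]
  simp

/-- The isotropic vector in a coordinate plane. -/
def vv (a : F) (i j : Fin n) : Fin n → F := Pi.single i 1 + a • Pi.single j 1

/-- Its partner. -/
def ww (a b : F) (i j : Fin n) : Fin n → F := Pi.single i 1 + b • vv a i j

include hF in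
lemma herm_single_single {i j : Fin n} (h : i ≠ j) :
    hermForm n F q (Pi.single i 1 : Fin n → F) (Pi.single j 1) = 0 := by
  rw [hermForm_single_right hF]
  simp [Pi.single_apply, h.symm]

include hF in
lemma herm_single_self (i : Fin n) :
    hermForm n F q (Pi.single i 1 : Fin n → F) (Pi.single i 1) = 1 := by
  rw [hermForm_single_right hF]
  simp

section vectors

variable {a b : F} (ha : a ^ q * a = -1) (hb : b + b ^ q = -1) {i j : Fin n} (hij : i ≠ j)

include hij in
lemma vv_left : vv a i j i = 1 := by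
  simp [vv, Pi.single_apply, hij]

lemma vv_right : vv a i j j = (if j = i then 1 else 0) + a := by
  simp [vv, Pi.single_apply]

lemma vv_other {l : Fin n} (h1 : l ≠ i) (h2 : l ≠ j) : vv a i j l = 0 := by
  simp [vv, Pi.single_apply, h1, h2]

include hij in
lemma vv_right' : vv a i j j = a := by
  simp [vv, Pi.single_apply, hij.symm]

include hF ha hij in
lemma vv_iso : hermForm n F q (vv a i j) (vv a i j) = 0 := by
  rw [show hermForm n F q (vv a i j) (vv a i j) =
    hermForm n F q (Pi.single i 1 + a • Pi.single j 1) (vv a i j) from rfl]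
  rw [hermForm_add_left, hermForm_smul_left, hermForm_single_left, hermForm_single_left, vv_left hij,
    vv_right' hij, one_pow]
  linear_combination ha

include hF hij in
lemma single_vv : hermForm n F q (Pi.single i 1 : Fin n → F) (vv a i j) = 1 := by
  rw [hermForm_single_left, vv_left hij, one_pow]

include hF ha hij in
lemma ww_vv : hermForm n F q (ww a b i j) (vv a i j) = 1 := by
  rw [ww, hermForm_add_left, hermForm_smul_left, single_vv hF hij, vv_iso hF ha hij]
  ring

include hF ha hij in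
lemma vv_ww : hermForm n F q (vv a i j) (ww a b i j) = 1 := by
  rw [← hermForm_conj hF, ww_vv hF ha hij, one_pow]

lemma ww_other {l : Fin n} (h1 : l ≠ i) (h2 : l ≠ j) : ww a b i j l = 0 := by
  simp [ww, Pi.single_apply, h1, vv_other h1 h2]

include hF ha hb hij in
lemma ww_iso : hermForm n F q (ww a b i j) (ww a b i j) = 0 := by
  have h1 : ww a b i j i = 1 + b := by
    simp [ww, vv_left hij]
  rw [show hermForm n F q (ww a b i j) (ww a b i j) =
    hermForm n F q (Pi.single i 1 + b • vv a i j) (ww a b i j) from rfl]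
  rw [hermForm_add_left, hermForm_smul_left, hermForm_single_left, vv_ww hF ha hij, h1,
    add_pow_q hF, one_pow]
  linear_combination hb

end vectors

/-- The matrix of the torus element. -/
noncomputable def Dm (q : ℕ) (v w : Fin n → F) (α β : F) : Matrix (Fin n) (Fin n) F :=
  1 + (α - 1) • vecMulVec v (fun l => w l ^ q) + (β - 1) • vecMulVec w (fun l => v l ^ q)

lemma Dm_mulVec (v w : Fin n → F) (α β : F) (x : Fin n → F) :
    Dm q v w α β *ᵥ x =
      x + ((α - 1) * hermForm n F q x w) • v + ((β - 1) * hermForm n F q x v) • w := by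
  have h1 : ∀ a b : Fin n → F, (fun j => b j ^ q) ⬝ᵥ a = hermForm n F q a b := by
    intro a b
    simp only [dotProduct, hermForm]
    exact Finset.sum_congr rfl fun _ _ => mul_comm _ _
  rw [Dm, Matrix.add_mulVec, Matrix.add_mulVec, Matrix.one_mulVec, Matrix.smul_mulVec,
    Matrix.smul_mulVec, Matrix.vecMulVec_mulVec, Matrix.vecMulVec_mulVec, h1, h1]
  ext l
  simp [mul_comm]
  ring

section torus

variable {v w : Fin n → F} (hvv : hermForm n F q v v = 0) (hww : hermForm n F q w w = 0)
  (hvw : hermForm n F q v w = 1) {α β : F} (hαβ : α * β ^ q = 1) (hβα : β * α ^ q = 1)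

include hF hvv hww hvw hαβ hβα in
lemma Dm_unitary (x y : Fin n → F) :
    hermForm n F q (Dm q v w α β *ᵥ x) (Dm q v w α β *ᵥ y) = hermForm n F q x y := by
  have hwv : hermForm n F q w v = 1 := by
    rw [← hermForm_conj hF, hvw, one_pow]
  have h1 := hermForm_conj hF y v
  have h2 := hermForm_conj hF y w
  rw [Dm_mulVec, Dm_mulVec]
  simp only [hermForm_add_left, hermForm_add_right hF, hermForm_smul_left, hermForm_smul_right, hvv,
    hww, hvw, hwv, mul_pow, add_pow_q hF, sub_pow_q hF, one_pow, ← h1, ← h2]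
  linear_combination (hermForm n F q x w * (hermForm n F q y v) ^ q) * hαβ
    + (hermForm n F q x v * (hermForm n F q y w) ^ q) * hβα

include hF hvv hww hvw in
lemma Dm_det : (Dm q v w α β).det = α * β := by
  have hwv : hermForm n F q w v = 1 := by
    rw [← hermForm_conj hF, hvw, one_pow]
  let U : Matrix (Fin n) (Fin 2) F := Matrix.of fun i j => ![(α - 1) * v i, (β - 1) * w i] j
  let W : Matrix (Fin 2) (Fin n) F := Matrix.of fun j i => ![w i ^ q, v i ^ q] j
  have hE : Dm q v w α β = 1 + U * W := by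
    ext i j
    simp only [Dm, Matrix.add_apply, Matrix.smul_apply, Matrix.vecMulVec_apply, Matrix.mul_apply,
      Fin.sum_univ_two, U, W, Matrix.of_apply, smul_eq_mul]
    simp
    ring
  have hdot : ∀ a b : Fin n → F, ∑ i, b i ^ q * a i = hermForm n F q a b := by
    intro a b
    simp only [hermForm]
    exact Finset.sum_congr rfl fun _ _ => mul_comm _ _
  have hdot' : ∀ (c : F) (a b : Fin n → F), ∑ i, b i ^ q * (c * a i) = c * hermForm n F q a b := by
    intro c a b
    rw [← hdot, Finset.mul_sum]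
    exact Finset.sum_congr rfl fun _ _ => by ring
  have h00 : (W * U) 0 0 = α - 1 := by
    simp only [Matrix.mul_apply, U, W, Matrix.of_apply, Matrix.cons_val_zero]
    rw [hdot', hvw, mul_one]
  have h01 : (W * U) 0 1 = 0 := by
    simp only [Matrix.mul_apply, U, W, Matrix.of_apply, Matrix.cons_val_zero, Matrix.cons_val_one]
    rw [hdot', hww, mul_zero]
  have h10 : (W * U) 1 0 = 0 := by
    simp only [Matrix.mul_apply, U, W, Matrix.of_apply, Matrix.cons_val_zero, Matrix.cons_val_one]
    rw [hdot', hvv, mul_zero]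
  have h11 : (W * U) 1 1 = β - 1 := by
    simp only [Matrix.mul_apply, U, W, Matrix.of_apply, Matrix.cons_val_zero, Matrix.cons_val_one]
    rw [hdot', hwv, mul_one]
  rw [hE, Matrix.det_one_add_mul_comm, Matrix.det_fin_two]
  simp only [Matrix.add_apply, h00, h01, h10, h11]
  simp

end torus

include hF in
/-- A torus element scaling `v`, with a third coordinate to correct the determinant. -/
theorem exists_torus {S : Finset (Fin n)} {v w : Fin n → F} (hvv : hermForm n F q v v = 0)
    (hww : hermForm n F q w w = 0) (hvw : hermForm n F q v w = 1)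
    (hvS : ∀ l, l ∉ S → v l = 0) (hwS : ∀ l, l ∉ S → w l = 0) {i₃ : Fin n} (hi₃ : i₃ ∈ S)
    (hv3 : v i₃ = 0) {α : F} (hα : α ≠ 0) :
    ∃ D : SU n F q, InL S D ∧ act D v = α • v := by
  classical
  have hq0 : (0 : F) ^ q = 0 := zero_pow (by have := two_le hF; omega)
  set β : F := (α ^ q)⁻¹ with hβ
  have hαq : α ^ q ≠ 0 := pow_ne_zero _ hα
  have hαβ : α * β ^ q = 1 := by
    rw [hβ, inv_pow, pow_pow_self hF]
    exact mul_inv_cancel₀ hα
  have hβα : β * α ^ q = 1 := by
    rw [hβ]
    exact inv_mul_cancel₀ hαq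
  have hβ0 : β ≠ 0 := inv_ne_zero hαq
  set δ : F := (α * β)⁻¹ with hδ
  have hδnrm : Cfsg.Agent.Lib.HermCount.nrm q δ = 1 := by
    have : δ * δ ^ q = 1 := by
      rw [hδ, inv_pow, mul_pow, ← mul_inv]
      have h1 : α * β * (α ^ q * β ^ q) = (α * β ^ q) * (β * α ^ q) := by ring
      rw [h1, hαβ, hβα]
      simp
    exact this
  let d : Fin n → F := Function.update 1 i₃ δ
  have hd : ∀ l, Cfsg.Agent.Lib.HermCount.nrm q (d l) = 1 := by
    intro l
    by_cases hl : l = i₃
    · subst hl
      simp [d, hδnrm]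
    · simp only [d, Function.update_of_ne hl, Pi.one_apply]
      simp [Cfsg.Agent.Lib.HermCount.nrm]
  have hdet : (Dm q v w α β * Matrix.diagonal d).det = 1 := by
    rw [Matrix.det_mul, Dm_det hF hvv hww hvw, Matrix.det_diagonal]
    have h1 : ∏ l, d l = δ := by
      rw [Finset.prod_eq_single i₃]
      · simp [d]
      · intro l _ hl
        simp [d, Function.update_of_ne hl]
      · simp
    rw [h1, hδ]
    exact mul_inv_cancel₀ (mul_ne_zero hα hβ0)
  have hiso : ∀ x y : Fin n → F, hermForm n F q ((Dm q v w α β * Matrix.diagonal d) *ᵥ x)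
      ((Dm q v w α β * Matrix.diagonal d) *ᵥ y) = hermForm n F q x y := by
    intro x y
    rw [← Matrix.mulVec_mulVec, ← Matrix.mulVec_mulVec, Dm_unitary hF hvv hww hvw hαβ hβα,
      diagonal_unitary hd]
  have hdx : ∀ x : Fin n → F, x i₃ = 0 → Matrix.diagonal d *ᵥ x = x := by
    intro x hx
    funext l
    rw [Matrix.mulVec_diagonal]
    by_cases hl : l = i₃
    · subst hl
      rw [hx, mul_zero]
    · simp [d, Function.update_of_ne hl]
  refine ⟨SUofMatrix _ hdet hiso, ?_, ?_⟩
  · intro l hl
    have hne : l ≠ i₃ := fun h => hl (h ▸ hi₃)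
    change (Dm q v w α β * Matrix.diagonal d) *ᵥ (Pi.single l 1) = Pi.single l 1
    rw [← Matrix.mulVec_mulVec, hdx _ (by simp [Pi.single_apply, hne.symm]), Dm_mulVec,
      hermForm_single_left, hermForm_single_left, hvS l hl, hwS l hl, hq0]
    simp
  · change (Dm q v w α β * Matrix.diagonal d) *ᵥ v = α • v
    rw [← Matrix.mulVec_mulVec, hdx v hv3, Dm_mulVec, hvw, hvv]
    simp only [mul_one, mul_zero, zero_smul, add_zero]
    module

include hF in
/-- A torus element scaling two isotropic vectors in orthogonal hyperbolic planes. -/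
theorem exists_torus2 {S : Finset (Fin n)} {v w v' w' : Fin n → F} (hvv : hermForm n F q v v = 0)
    (hww : hermForm n F q w w = 0) (hvw : hermForm n F q v w = 1)
    (hv'v' : hermForm n F q v' v' = 0)
    (hw'w' : hermForm n F q w' w' = 0) (hv'w' : hermForm n F q v' w' = 1)
    (h1 : hermForm n F q v v' = 0) (h2 : hermForm n F q v w' = 0)
    (h3 : hermForm n F q v' v = 0) (h4 : hermForm n F q v' w = 0)
    (hvS : ∀ l, l ∉ S → v l = 0) (hwS : ∀ l, l ∉ S → w l = 0)
    (hv'S : ∀ l, l ∉ S → v' l = 0) (hw'S : ∀ l, l ∉ S → w' l = 0) {α' : F} (hα : α' ≠ 0) :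
    ∃ D : SU n F q, InL S D ∧ act D v = (α' ^ q) • v ∧ act D v' = α' • v' := by
  classical
  have hq0 : (0 : F) ^ q = 0 := zero_pow (by have := two_le hF; omega)
  set α : F := α' ^ q with hαdef
  have hα0 : α ≠ 0 := pow_ne_zero _ hα
  have hαq : α ^ q = α' := by rw [hαdef, pow_pow_self hF]
  set β : F := α'⁻¹ with hβ
  set β' : F := α⁻¹ with hβ'
  have hβq : β ^ q = α⁻¹ := by rw [hβ, inv_pow]
  have hβ'q : β' ^ q = α'⁻¹ := by rw [hβ', inv_pow, hαq]
  have e1 : α * β ^ q = 1 := by rw [hβq]; exact mul_inv_cancel₀ hα0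
  have e2 : β * α ^ q = 1 := by rw [hαq, hβ]; exact inv_mul_cancel₀ hα
  have e3 : α' * β' ^ q = 1 := by rw [hβ'q]; exact mul_inv_cancel₀ hα
  have e4 : β' * α' ^ q = 1 := by rw [hβ']; exact inv_mul_cancel₀ hα0
  have hdet : (Dm q v w α β * Dm q v' w' α' β').det = 1 := by
    rw [Matrix.det_mul, Dm_det hF hvv hww hvw, Dm_det hF hv'v' hw'w' hv'w', hβ, hβ']
    field_simp
  have hiso : ∀ x y : Fin n → F, hermForm n F q ((Dm q v w α β * Dm q v' w' α' β') *ᵥ x)
      ((Dm q v w α β * Dm q v' w' α' β') *ᵥ y) = hermForm n F q x y := by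
    intro x y
    rw [← Matrix.mulVec_mulVec, ← Matrix.mulVec_mulVec, Dm_unitary hF hvv hww hvw e1 e2,
      Dm_unitary hF hv'v' hw'w' hv'w' e3 e4]
  refine ⟨SUofMatrix _ hdet hiso, ?_, ?_, ?_⟩
  · intro l hl
    change (Dm q v w α β * Dm q v' w' α' β') *ᵥ (Pi.single l 1) = Pi.single l 1
    rw [← Matrix.mulVec_mulVec, Dm_mulVec (x := Pi.single l 1), hermForm_single_left,
      hermForm_single_left, hv'S l hl, hw'S l hl, hq0]
    simp only [mul_zero, zero_smul, add_zero]
    rw [Dm_mulVec, hermForm_single_left, hermForm_single_left, hvS l hl, hwS l hl, hq0]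
    simp
  · change (Dm q v w α β * Dm q v' w' α' β') *ᵥ v = α • v
    rw [← Matrix.mulVec_mulVec, Dm_mulVec (x := v), h1, h2]
    simp only [mul_zero, zero_smul, add_zero]
    rw [Dm_mulVec, hvw, hvv]
    simp only [mul_one, mul_zero, zero_smul, add_zero]
    module
  · change (Dm q v w α β * Dm q v' w' α' β') *ᵥ v' = α' • v'
    rw [← Matrix.mulVec_mulVec, Dm_mulVec (x := v'), hv'w', hv'v']
    simp only [mul_one, mul_zero, zero_smul, add_zero]
    have h5 : v' + (α' - 1) • v' = α' • v' := by module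
    rw [h5, Matrix.mulVec_smul, Dm_mulVec, h3, h4]
    simp

/-- A permutation element moving one coordinate plane to another. -/
theorem exists_perm {S : Finset (Fin n)} (a : F) {i j i' j' : Fin n} (hi : i ∈ S) (hj : j ∈ S)
    (hi' : i' ∈ S) (hj' : j' ∈ S) (h1 : i ≠ j) (h2 : i' ≠ j') (h3 : i ≠ i') (h4 : i ≠ j')
    (h5 : j ≠ i') (h6 : j ≠ j') :
    ∃ g : SU n F q, InL S g ∧ act g (vv a i j) = vv a i' j' := by
  classical
  let σ : Equiv.Perm (Fin n) := Equiv.swap i i' * Equiv.swap j j'
  have hsign : Equiv.Perm.sign σ = 1 := by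
    simp [σ, Equiv.Perm.sign_swap h3, Equiv.Perm.sign_swap h6]
  have hdet : (σ.permMatrix F).det = 1 := by
    rw [Matrix.det_permutation, hsign]
    simp
  have hmul : ∀ x : Fin n → F, σ.permMatrix F *ᵥ x = x ∘ σ := fun x =>
    PEquiv.toMatrix_toPEquiv_mulVec σ x
  have hiso : ∀ x y : Fin n → F, hermForm n F q (σ.permMatrix F *ᵥ x) (σ.permMatrix F *ᵥ y) =
      hermForm n F q x y := by
    intro x y
    rw [hmul, hmul]
    simp only [hermForm, Function.comp_apply]
    exact Equiv.sum_comp σ (fun l => x l * y l ^ q)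
  have hs : ∀ l : Fin n, (Pi.single l 1 : Fin n → F) ∘ σ = Pi.single (σ⁻¹ l) 1 := by
    intro l
    funext m
    simp only [Function.comp_apply, Pi.single_apply]
    by_cases hm : σ m = l
    · have : m = σ⁻¹ l := by rw [← hm]; exact (σ.symm_apply_apply m).symm
      rw [if_pos hm, if_pos this]
    · have : m ≠ σ⁻¹ l := by
        intro h
        apply hm
        rw [h]
        exact σ.apply_symm_apply l
      rw [if_neg hm, if_neg this]
  have hσi : σ⁻¹ i = i' := by
    have : σ i' = i := by
      change Equiv.swap i i' (Equiv.swap j j' i') = i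
      rw [Equiv.swap_apply_of_ne_of_ne h5.symm h2, Equiv.swap_apply_right]
    rw [← this]
    exact σ.symm_apply_apply i'
  have hσj : σ⁻¹ j = j' := by
    have : σ j' = j := by
      change Equiv.swap i i' (Equiv.swap j j' j') = j
      rw [Equiv.swap_apply_right, Equiv.swap_apply_of_ne_of_ne h1.symm h5]
    rw [← this]
    exact σ.symm_apply_apply j'
  refine ⟨SUofMatrix _ hdet hiso, ?_, ?_⟩
  · intro l hl
    change σ.permMatrix F *ᵥ (Pi.single l 1) = Pi.single l 1
    rw [hmul, hs]
    have h7 : σ⁻¹ l = l := by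
      have e1 : l ≠ i := fun h => hl (h ▸ hi)
      have e2 : l ≠ j := fun h => hl (h ▸ hj)
      have e3 : l ≠ i' := fun h => hl (h ▸ hi')
      have e4 : l ≠ j' := fun h => hl (h ▸ hj')
      have : σ l = l := by
        change Equiv.swap i i' (Equiv.swap j j' l) = l
        rw [Equiv.swap_apply_of_ne_of_ne e2 e4, Equiv.swap_apply_of_ne_of_ne e1 e3]
      conv_lhs => rw [← this]
      exact σ.symm_apply_apply l
    rw [h7]
  · change σ.permMatrix F *ᵥ (vv a i j) = vv a i' j'
    rw [hmul]
    have : vv a i j ∘ σ = (Pi.single i 1 : Fin n → F) ∘ σ + a • ((Pi.single j 1 : Fin n → F) ∘ σ) := by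
      funext m
      simp [vv]
    rw [this, hs, hs, hσi, hσj]
    rfl

end Cfsg.Agent.Lib.SUMinDeg
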