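import Mathlib
import Cfsg.Agent.Lib.PSUIdxA
import Cfsg.Agent.Lib.SUMinDeg5
import Cfsg.Agent.Lib.SUGen
import Cfsg.Agent.Lib.UnitarySimple

/-!
# The root group `Q` at the isotropic vector `v`, and the Levi factor `SU_e`
-/

set_option autoImplicit false
set_option linter.unusedSectionVars false
set_option linter.unusedVariables false

namespace Cfsg.Agent.Lib.PSUIdx

open Matrix Cfsg Cfsg.Agent.Lib.HermForm Cfsg.Agent.Lib.FFNorm Cfsg.Agent.Lib.UnitaryE
  Cfsg.Agent.Lib.UnitarySU Cfsg.Agent.Lib.SUMinDeg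

variable {F : Type*} [Field F] [Fintype F] {q n e : ℕ}

/-- Transitivity on non-zero isotropic vectors. -/
lemma exists_act_eq (hF : Fintype.card F = q ^ 2) (hn : 3 ≤ n) {x y : Fin n → F}
    (hx : hermForm n F q x x = 0) (hx0 : x ≠ 0) (hy : hermForm n F q y y = 0) (hy0 : y ≠ 0) :
    ∃ g : SU n F q, act g x = y := by
  obtain ⟨t, ht, hty⟩ := Cfsg.Agent.Lib.UnitaryIso.iso_trans hF hn hx hx0 hy hy0
  refine ⟨(Cfsg.Agent.Lib.UnitarySimple.isoSU n F q).symm ⟨t, Cfsg.Agent.Lib.UnitaryPerfect.TvG_le_SUU ht⟩, ?_⟩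
  have h1 := Cfsg.Agent.Lib.UnitarySimple.isoSU_apply
    ((Cfsg.Agent.Lib.UnitarySimple.isoSU n F q).symm ⟨t, Cfsg.Agent.Lib.UnitaryPerfect.TvG_le_SUU ht⟩) x
  rw [MulEquiv.apply_symm_apply] at h1
  exact h1.symm.trans hty

/-- Inclusion of the last coordinates. -/
def inc (u : Fin e → F) : Fin (e + 2) → F := Fin.cons 0 (Fin.cons 0 u)

@[simp] lemma inc_zero₀ (u : Fin e → F) : inc u 0 = 0 := rfl
@[simp] lemma inc_one₀ (u : Fin e → F) : inc u 1 = 0 := rfl
@[simp] lemma tail_inc (u : Fin e → F) : Fin.tail (Fin.tail (inc u)) = u := by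
  simp [inc]

lemma inc_injective : Function.Injective (inc (F := F) (e := e)) := by
  intro u u' h
  have := congrArg (fun x => Fin.tail (Fin.tail x)) h
  simpa using this

lemma eq_inc {x : Fin (e + 2) → F} (h0 : x 0 = 0) (h1 : x 1 = 0) : x = inc (Fin.tail (Fin.tail x)) := by
  ext i
  refine Fin.cases h0 (fun j => ?_) i
  refine Fin.cases h1 (fun k => ?_) j
  rfl

lemma inc_add (u u' : Fin e → F) : inc (u + u') = inc u + inc u' := by
  ext i
  refine Fin.cases (by simp [inc]) (fun j => ?_) i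
  refine Fin.cases (by simp [inc]) (fun k => ?_) j
  rfl

lemma inc_smul (a : F) (u : Fin e → F) : inc (a • u) = a • inc u := by
  ext i
  refine Fin.cases (by simp [inc]) (fun j => ?_) i
  refine Fin.cases (by simp [inc]) (fun k => ?_) j
  rfl

@[simp] lemma inc_zero : inc (0 : Fin e → F) = 0 := by
  have h : inc ((0 : F) • (0 : Fin e → F)) = (0 : F) • inc 0 := inc_smul 0 0
  simpa using h

lemma inc_sub (u u' : Fin e → F) : inc (u - u') = inc u - inc u' := by
  have h : inc (u - u' + u') = inc (u - u') + inc u' := inc_add _ _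
  rw [sub_add_cancel] at h
  rw [h, add_sub_cancel_right]

lemma inc_neg (u : Fin e → F) : inc (-u) = - inc u := by
  have h : inc ((-1 : F) • u) = (-1 : F) • inc u := inc_smul _ _
  simpa using h

section

variable (hF : Fintype.card F = q ^ 2)
include hF

lemma herm_inc (u u' : Fin e → F) : hermForm (e + 2) F q (inc u) (inc u') = hermForm e F q u u' := by
  have hq := two_le hF
  rw [Cfsg.Agent.Lib.UnitaryBasic.herm_succ, Cfsg.Agent.Lib.UnitaryBasic.herm_succ]
  simp [inc, Fin.tail, zero_pow (show q ≠ 0 by omega)]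

end

/-- The Levi embedding. -/
noncomputable def iota : SU e F q →* SU (e + 2) F q :=
  (SUGen.extSU (n := e + 1)).comp (SUGen.extSU (n := e))

lemma act_iota (g : SU e F q) (x : Fin (e + 2) → F) :
    act (iota g) x = Fin.cons (x 0) (Fin.cons (x 1) (act g (Fin.tail (Fin.tail x)))) := by
  have h1 := SUGen.act_extSU (SUGen.extSU g) x
  have h2 := SUGen.act_extSU g (Fin.tail x)
  change SUGen.act (SUGen.extSU (SUGen.extSU g)) x = _
  rw [h1, h2]
  rfl

lemma act_iota_inc (g : SU e F q) (u : Fin e → F) : act (iota g) (inc u) = inc (act g u) := by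
  rw [act_iota, tail_inc]
  rfl

lemma iota_injective : Function.Injective (iota (F := F) (q := q) (e := e)) := by
  intro g g' h
  apply ext_act
  intro u
  apply inc_injective
  rw [← act_iota_inc, ← act_iota_inc, h]

section Frame

variable (hF : Fintype.card F = q ^ 2) {α b : F} (hα : α ^ q * α = -1) (hb : b + b ^ q = -1)

/-- The isotropic vector. -/
def vE (α : F) : Fin (e + 2) → F := vv α 0 1

/-- The partner. -/
def wE (α b : F) : Fin (e + 2) → F := ww α b 0 1

lemma zero_ne_one' : (0 : Fin (e + 2)) ≠ 1 := by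
  simp

lemma vE_zero : vE (e := e) α 0 = 1 := vv_left zero_ne_one'
lemma vE_one : vE (e := e) α 1 = α := vv_right' zero_ne_one'

include hF hα in
lemma alpha_ne : α ≠ 0 := by
  rintro rfl
  have hq := two_le hF
  rw [zero_pow (by omega), mul_zero] at hα
  have : (1 : F) = 0 := by linear_combination hα
  exact one_ne_zero this

include hF hα in
lemma vE_iso : hermForm (e + 2) F q (vE α) (vE α) = 0 := vv_iso hF hα zero_ne_one'

include hF hα hb in
lemma wE_iso : hermForm (e + 2) F q (wE α b) (wE α b) = 0 := ww_iso hF hα hb zero_ne_one'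

include hF hα in
lemma wE_vE : hermForm (e + 2) F q (wE α b) (vE α) = 1 := ww_vv hF hα zero_ne_one'

include hF hα in
lemma vE_wE : hermForm (e + 2) F q (vE α) (wE α b) = 1 := vv_ww hF hα zero_ne_one'

lemma tail_vE : Fin.tail (Fin.tail (vE (e := e) α)) = 0 := by
  ext i
  simp only [Fin.tail, Pi.zero_apply]
  apply vv_other
  · exact Fin.succ_ne_zero _
  · intro h
    have := Fin.succ_injective _ (show (i.succ : Fin (e + 1)).succ = (0 : Fin (e + 1)).succ from h)
    exact Fin.succ_ne_zero _ this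

lemma tail_wE : Fin.tail (Fin.tail (wE (e := e) α b)) = 0 := by
  ext i
  simp only [Fin.tail, Pi.zero_apply]
  apply ww_other
  · exact Fin.succ_ne_zero _
  · intro h
    have := Fin.succ_injective _ (show (i.succ : Fin (e + 1)).succ = (0 : Fin (e + 1)).succ from h)
    exact Fin.succ_ne_zero _ this

lemma act_iota_of {x : Fin (e + 2) → F} (hx : Fin.tail (Fin.tail x) = 0) (g : SU e F q) :
    act (iota g) x = x := by
  rw [act_iota, hx]
  have : act g (0 : Fin e → F) = 0 := act_zero g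
  rw [this]
  ext i
  refine Fin.cases rfl (fun j => ?_) i
  refine Fin.cases rfl (fun k => ?_) j
  have h := congrFun hx k
  exact h.symm

lemma act_iota_vE (g : SU e F q) : act (iota g) (vE α) = vE α := act_iota_of tail_vE g
lemma act_iota_wE (g : SU e F q) : act (iota g) (wE α b) = wE α b := act_iota_of tail_wE g

include hF in
lemma herm_vE (x : Fin (e + 2) → F) : hermForm (e + 2) F q x (vE α) = x 0 + x 1 * α ^ q := by
  have : vE (e := e) α = Pi.single 0 1 + α • Pi.single 1 1 := rfl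
  rw [this, hermForm_add_right hF, hermForm_smul_right, hermForm_single_right hF, hermForm_single_right hF]
  ring

include hF in
lemma herm_wE (x : Fin (e + 2) → F) :
    hermForm (e + 2) F q x (wE α b) = x 0 + b ^ q * hermForm (e + 2) F q x (vE α) := by
  have : wE (e := e) α b = Pi.single 0 1 + b • vE α := rfl
  rw [this, hermForm_add_right hF, hermForm_smul_right, hermForm_single_right hF]

include hF in
lemma inc_vE (u : Fin e → F) : hermForm (e + 2) F q (inc u) (vE α) = 0 := by
  rw [herm_vE hF]; simp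

include hF in
lemma inc_wE (u : Fin e → F) : hermForm (e + 2) F q (inc u) (wE α b) = 0 := by
  rw [herm_wE hF, inc_vE hF]; simp

include hF in
lemma vE_inc (u : Fin e → F) : hermForm (e + 2) F q (vE α) (inc u) = 0 :=
  herm_zero_of_conj hF (inc_vE hF u)

include hF in
lemma wE_inc (u : Fin e → F) : hermForm (e + 2) F q (wE α b) (inc u) = 0 :=
  herm_zero_of_conj hF (inc_wE hF u)

include hF hα in
/-- Vanishing on the first two coordinates. -/
lemma coords_zero {x : Fin (e + 2) → F} (h1 : hermForm (e + 2) F q x (vE α) = 0)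
    (h2 : hermForm (e + 2) F q x (wE α b) = 0) : x 0 = 0 ∧ x 1 = 0 := by
  have hα0 := alpha_ne hF hα
  rw [herm_wE hF, h1, mul_zero, add_zero] at h2
  refine ⟨h2, ?_⟩
  rw [herm_vE hF, h2, zero_add] at h1
  exact (mul_eq_zero.1 h1).resolve_right (pow_ne_zero _ hα0)

/-- The component in the last coordinates. -/
noncomputable def rest (α b : F) (q : ℕ) (x : Fin (e + 2) → F) : Fin e → F :=
  Fin.tail (Fin.tail (x - hermForm (e + 2) F q x (wE α b) • vE α - hermForm (e + 2) F q x (vE α) • wE α b))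

include hF hα hb in
/-- The decomposition of a vector. -/
lemma decomp (x : Fin (e + 2) → F) :
    x = hermForm (e + 2) F q x (wE α b) • vE α + hermForm (e + 2) F q x (vE α) • wE α b + inc (rest α b q x) := by
  have hv := vE_iso (e := e) hF hα
  have hw := wE_iso (e := e) hF hα hb
  have hwv := wE_vE (e := e) (b := b) hF hα
  have hvw := vE_wE (e := e) (b := b) hF hα
  have h1 : hermForm (e + 2) F q
      (x - hermForm (e + 2) F q x (wE α b) • vE α - hermForm (e + 2) F q x (vE α) • wE α b) (vE α) = 0 := by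
    simp only [hermForm_sub_left, hermForm_smul_left, hv, hwv]
    ring
  have h2 : hermForm (e + 2) F q
      (x - hermForm (e + 2) F q x (wE α b) • vE α - hermForm (e + 2) F q x (vE α) • wE α b) (wE α b) = 0 := by
    simp only [hermForm_sub_left, hermForm_smul_left, hw, hvw]
    ring
  obtain ⟨h3, h4⟩ := coords_zero hF hα h1 h2
  have h5 := eq_inc h3 h4
  rw [rest, ← h5]
  abel

end Frame

section Q

variable (hF : Fintype.card F = q ^ 2) {α : F} (hα : α ^ q * α = -1)

/-- The root element. -/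
noncomputable def EE (hF : Fintype.card F = q ^ 2) (α : F) (u : Fin e → F) (s : F) : SU (e + 2) F q :=
  mkE hF (vE α) (inc u) s

/-- The condition. -/
def Gd (q : ℕ) (u : Fin e → F) (s : F) : Prop := s + s ^ q + hermForm e F q u u = 0

include hα in
lemma good_of (hF : Fintype.card F = q ^ 2) {u : Fin e → F} {s : F} (h : Gd q u s) :
    Good q (vE α) (inc u) s :=
  ⟨vE_iso hF hα, inc_vE hF u, by rw [herm_inc hF]; exact h⟩

include hF in
lemma Gd_add {u u' : Fin e → F} {s s' : F} (h : Gd q u s) (h' : Gd q u' s') :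
    Gd q (u + u') (s + s' - hermForm e F q u' u) := by
  unfold Gd at *
  have h3 := hermForm_conj hF u' u
  rw [hermForm_add_left, hermForm_add_right hF, hermForm_add_right hF, sub_pow_q hF, add_pow_q hF, h3]
  linear_combination h + h'

include hF in
lemma Gd_zero {c : F} (hc : c + c ^ q = 0) : Gd q (0 : Fin e → F) c := by
  unfold Gd
  rw [hermForm_zero_left, hc, add_zero]

include hF in
lemma Gd_neg {u : Fin e → F} {s : F} (h : Gd q u s) : Gd q (-u) (s ^ q) := by
  unfold Gd at *
  have h4 : hermForm e F q (-u) (-u) = hermForm e F q u u := by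
    have : (-u : Fin e → F) = (-1 : F) • u := by simp
    rw [this, hermForm_smul_left, hermForm_smul_right, neg_pow_q hF, one_pow]
    ring
  rw [h4, pow_pow_self hF]
  linear_combination h

include hF in
lemma Gd_comm {u u' : Fin e → F} : Gd q (0 : Fin e → F) (hermForm e F q u u' - hermForm e F q u' u) :=
  Gd_zero hF (trace_zero_kappa hF u u')

include hF in
lemma Gd_trace {c : F} (hc : c + c ^ q = 0) {u : Fin e → F} {s : F} (h : Gd q u s) : Gd q u (c + s) := by
  unfold Gd at *
  rw [add_pow_q hF]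
  linear_combination hc + h

lemma Gd_act (l : SU e F q) {u : Fin e → F} {s : F} (h : Gd q u s) : Gd q (act l u) s := by
  unfold Gd at *
  rwa [herm_act]

include hF hα

lemma EE_mul {u u' : Fin e → F} {s s' : F} (h : Gd q u s) (h' : Gd q u' s') :
    EE hF α u s * EE hF α u' s' = EE hF α (u + u') (s + s' - hermForm e F q u' u) := by
  have := mkE_mul hF (good_of hα hF h) (good_of hα hF h')
  rw [herm_inc hF, ← inc_add] at this
  exact this

lemma act_EE {u : Fin e → F} {s : F} (h : Gd q u s) (x : Fin (e + 2) → F) :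
    act (EE hF α u s) x = x + hermForm (e + 2) F q x (vE α) • (inc u + s • vE α) -
      hermForm (e + 2) F q x (inc u) • vE α := act_mkE hF (good_of hα hF h) x

lemma act_EE_wE {b : F} {u : Fin e → F} {s : F} (h : Gd q u s) :
    act (EE hF α u s) (wE α b) = wE α b + (inc u + s • vE α) := by
  rw [act_EE hF hα h, wE_vE hF hα, wE_inc hF, one_smul, zero_smul, sub_zero]

lemma act_EE_vE {u : Fin e → F} {s : F} (h : Gd q u s) :
    act (EE hF α u s) (vE α) = vE α := by
  rw [act_EE hF hα h, vE_iso hF hα, vE_inc hF, zero_smul, zero_smul, add_zero, sub_zero]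

lemma EE_inj {u u' : Fin e → F} {s s' : F} (h : Gd q u s) (h' : Gd q u' s')
    (hE : EE hF α u s = EE hF α u' s') : u = u' ∧ s = s' := by
  obtain ⟨b, hb⟩ : ∃ b : F, b + b ^ q = -1 :=
    exists_trace_eq hF (t := -1) (by rw [neg_pow_q hF, one_pow])
  have h1 := act_EE_wE hF hα (b := b) h
  have h2 := act_EE_wE hF hα (b := b) h'
  rw [hE, h2] at h1
  have h3 := add_left_cancel h1
  have h4 := congrArg (fun x => hermForm (e + 2) F q x (wE α b)) h3
  simp only [hermForm_add_left, hermForm_smul_left, inc_wE hF, vE_wE hF hα, zero_add, mul_one] at h4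
  subst h4
  refine ⟨inc_injective (add_right_cancel h3).symm, rfl⟩

lemma EE_zero : EE (e := e) hF α 0 0 = 1 := by
  have := tau_zero hF (vE (e := e) α) (vE_iso hF hα)
  rw [EE, inc_zero]
  exact this

lemma EE_zero_eq_tau (c : F) : EE (e := e) hF α 0 c = tau hF (vE α) c := by
  rw [EE, inc_zero]

lemma EE_inv {u : Fin e → F} {s : F} (h : Gd q u s) :
    (EE hF α u s)⁻¹ = EE hF α (-u) (s ^ q) := by
  have h1 := EE_mul hF hα h (Gd_neg hF h)
  have h2 := Gd_add hF h (Gd_neg hF h)
  apply inv_eq_of_mul_eq_one_right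
  rw [h1]
  have h4 : hermForm e F q (-u) u = - hermForm e F q u u := by
    have : (-u : Fin e → F) = (-1 : F) • u := by simp
    rw [this, hermForm_smul_left]; ring
  rw [h4]
  have h5 : s + s ^ q - - hermForm e F q u u = 0 := by
    unfold Gd at h
    linear_combination h
  rw [h5, add_neg_cancel, EE_zero hF hα]

omit hF hα in
/-- The group `Q`. -/
def QQ (hF : Fintype.card F = q ^ 2) (hα : α ^ q * α = -1) (e : ℕ) : Subgroup (SU (e + 2) F q) where
  carrier := {g | ∃ (u : Fin e → F) (s : F), Gd q u s ∧ EE hF α u s = g}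
  mul_mem' := by
    rintro _ _ ⟨u, s, h, rfl⟩ ⟨u', s', h', rfl⟩
    exact ⟨_, _, Gd_add hF h h', (EE_mul hF hα h h').symm⟩
  one_mem' := ⟨0, 0, Gd_zero hF (by rw [zero_pow (by have := two_le hF; omega), add_zero]), EE_zero hF hα⟩
  inv_mem' := by
    rintro _ ⟨u, s, h, rfl⟩
    exact ⟨_, _, Gd_neg hF h, (EE_inv hF hα h).symm⟩

lemma mem_QQ {g : SU (e + 2) F q} :
    g ∈ QQ hF hα e ↔ ∃ (u : Fin e → F) (s : F), Gd q u s ∧ EE hF α u s = g := Iff.rfl

/-- Conjugation by the Levi factor. -/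
lemma iota_conj (l : SU e F q) {u : Fin e → F} {s : F} (h : Gd q u s) :
    iota l * EE hF α u s * (iota l)⁻¹ = EE hF α (act l u) s := by
  have h1 := conj_mkE hF (iota l) (good_of hα hF h)
  rw [act_iota_vE, act_iota_inc] at h1
  rw [EE, h1]
  simp [EE]

lemma hN_QQ : ∀ (l : SU e F q), ∀ y ∈ QQ hF hα e, iota l * y * (iota l)⁻¹ ∈ QQ hF hα e := by
  rintro l _ ⟨u, s, h, rfl⟩
  exact ⟨_, _, Gd_act l h, (iota_conj hF hα l h).symm⟩

/-- Commutator relation. -/
lemma EE_comm {u u' : Fin e → F} {s s' : F} (h : Gd q u s) (h' : Gd q u' s') :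
    EE hF α u s * EE hF α u' s' =
      EE hF α 0 (hermForm e F q u u' - hermForm e F q u' u) * (EE hF α u' s' * EE hF α u s) := by
  have := mkE_comm hF (good_of hα hF h) (good_of hα hF h')
  rw [herm_inc hF, herm_inc hF] at this
  rw [EE_zero_eq_tau hF hα]
  exact this

lemma EE_tau_mul {c : F} (hc : c + c ^ q = 0) {u : Fin e → F} {s : F} (h : Gd q u s) :
    EE hF α 0 c * EE hF α u s = EE hF α u (c + s) := by
  rw [EE_zero_eq_tau hF hα]
  exact tau_mul hF (vE_iso hF hα) hc (good_of hα hF h)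

/-- Conjugation inside `Q`. -/
lemma EE_conj {u u' : Fin e → F} {s s' : F} (h : Gd q u s) (h' : Gd q u' s') :
    EE hF α u s * EE hF α u' s' * (EE hF α u s)⁻¹ =
      EE hF α u' ((hermForm e F q u u' - hermForm e F q u' u) + s') := by
  rw [EE_comm hF hα h h', ← EE_tau_mul hF hα (trace_zero_kappa hF u u') h']
  group

/-- Lower bound for the order of `Q`. -/
lemma card_QQ_ge : (q ^ 2) ^ e * q ≤ Nat.card (QQ hF hα e) := by
  classical
  have hs₀ : ∀ u : Fin e → F, ∃ s : F, Gd q u s := by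
    intro u
    obtain ⟨s, hs⟩ := exists_trace_eq hF (t := - hermForm e F q u u) (by
      rw [neg_pow_q hF, hermForm_conj hF])
    exact ⟨s, by unfold Gd; rw [hs]; ring⟩
  choose s₀ hs₀ using hs₀
  have hcard : Nat.card ((Fin e → F) × Tz hF) = (q ^ 2) ^ e * q := by
    rw [Nat.card_prod, Nat.card_eq_fintype_card, Nat.card_eq_fintype_card, Fintype.card_fun, card_Tz hF, hF,
      Fintype.card_fin]
  rw [← hcard]
  refine Nat.card_le_card_of_injective (fun p => ⟨EE hF α p.1 (p.2.1 + s₀ p.1),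
    ⟨_, _, Gd_trace hF p.2.2 (hs₀ p.1), rfl⟩⟩) ?_
  rintro ⟨u, c⟩ ⟨u', c'⟩ h
  have h1 := congrArg Subtype.val h
  obtain ⟨h2, h3⟩ := EE_inj hF hα (Gd_trace hF c.2 (hs₀ u)) (Gd_trace hF c'.2 (hs₀ u')) h1
  subst h2
  have h4 : c = c' := Subtype.ext (add_right_cancel h3)
  rw [h4]

section Sub

variable (K : Subgroup (SU (e + 2) F q))

/-- The projection of `Q ∩ K`. -/
def YY : AddSubgroup (Fin e → F) where
  carrier := {u | ∃ s, Gd q u s ∧ EE hF α u s ∈ K}
  add_mem' := by
    rintro u u' ⟨s, h, hm⟩ ⟨s', h', hm'⟩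
    refine ⟨_, Gd_add hF h h', ?_⟩
    rw [← EE_mul hF hα h h']
    exact K.mul_mem hm hm'
  zero_mem' := ⟨0, Gd_zero hF (by rw [zero_pow (by have := two_le hF; omega), add_zero]), by
    rw [EE_zero hF hα]; exact K.one_mem⟩
  neg_mem' := by
    rintro u ⟨s, h, hm⟩
    refine ⟨_, Gd_neg hF h, ?_⟩
    rw [← EE_inv hF hα h]
    exact K.inv_mem hm

/-- The intersection of `K` with the transvection group. -/
def ZZ : AddSubgroup F where
  carrier := {c | c + c ^ q = 0 ∧ EE (e := e) hF α 0 c ∈ K}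
  add_mem' := by
    rintro c c' ⟨h, hm⟩ ⟨h', hm'⟩
    have hg := Gd_zero (e := e) hF h
    have hg' := Gd_zero (e := e) hF h'
    refine ⟨by rw [add_pow_q hF]; linear_combination h + h', ?_⟩
    have := EE_mul hF hα hg hg'
    rw [hermForm_zero_left, sub_zero, add_zero] at this
    rw [← this]
    exact K.mul_mem hm hm'
  zero_mem' := ⟨by rw [zero_pow (by have := two_le hF; omega), add_zero], by
    rw [EE_zero hF hα]; exact K.one_mem⟩
  neg_mem' := by
    rintro c ⟨h, hm⟩
    have hg := Gd_zero (e := e) hF h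
    refine ⟨by rw [neg_pow_q hF]; linear_combination -h, ?_⟩
    have h1 := EE_inv hF hα hg
    have h2 : c ^ q = - c := by linear_combination h
    rw [h2, neg_zero] at h1
    rw [← h1]
    exact K.inv_mem hm

variable {K}

lemma mem_YY {u : Fin e → F} : u ∈ YY hF hα K ↔ ∃ s, Gd q u s ∧ EE hF α u s ∈ K := Iff.rfl

lemma mem_ZZ {c : F} : c ∈ ZZ hF hα K ↔ c + c ^ q = 0 ∧ EE (e := e) hF α 0 c ∈ K := Iff.rfl

/-- The commutator pairing on `Y` takes values in `Z`. -/
lemma comm_mem_ZZ {u u' : Fin e → F} (hu : u ∈ YY hF hα K) (hu' : u' ∈ YY hF hα K) :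
    hermForm e F q u u' - hermForm e F q u' u ∈ ZZ hF hα K := by
  obtain ⟨s, h, hm⟩ := hu
  obtain ⟨s', h', hm'⟩ := hu'
  refine ⟨trace_zero_kappa hF u u', ?_⟩
  have h1 := EE_comm hF hα h h'
  have h2 : EE hF α 0 (hermForm e F q u u' - hermForm e F q u' u) =
      (EE hF α u s * EE hF α u' s') * (EE hF α u' s' * EE hF α u s)⁻¹ := by
    rw [h1]; group
  rw [h2]
  exact K.mul_mem (K.mul_mem hm hm') (K.inv_mem (K.mul_mem hm' hm))

/-- In characteristic two norms of `Y` lie in `Z`. -/
lemma norm_mem_ZZ (h2 : (2 : F) = 0) {u : Fin e → F} (hu : u ∈ YY hF hα K) :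
    hermForm e F q u u ∈ ZZ hF hα K := by
  obtain ⟨s, h, hm⟩ := hu
  have h1 := EE_mul hF hα h h
  have hu2 : u + u = 0 := by
    ext i
    have : u i + u i = 2 * u i := by ring
    simp [this, h2]
  have hs2 : s + s - hermForm e F q u u = hermForm e F q u u := by
    have : s + s = 2 * s := by ring
    rw [this, h2, zero_mul]
    have : (2 : F) * hermForm e F q u u = 0 := by rw [h2, zero_mul]
    linear_combination -this
  rw [hu2, hs2] at h1
  have hq : hermForm e F q u u + hermForm e F q u u ^ q = 0 := by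
    rw [hermForm_conj hF]
    have : hermForm e F q u u + hermForm e F q u u = 2 * hermForm e F q u u := by ring
    rw [this, h2, zero_mul]
  refine ⟨hq, ?_⟩
  rw [← h1]
  exact K.mul_mem hm hm

/-- The number of elements of `Q ∩ K`. -/
lemma card_inf_le : Nat.card (K.subgroupOf (QQ hF hα e)) ≤ Nat.card (YY hF hα K) * Nat.card (ZZ hF hα K) := by
  classical
  rw [← Nat.card_prod]
  have hw : ∀ u : YY hF hα K, ∃ s, Gd q u.1 s ∧ EE hF α u.1 s ∈ K := fun u => u.2
  choose s₁ hs₁ hs₁' using hw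
  have hg : ∀ g : K.subgroupOf (QQ hF hα e), ∃ (u : Fin e → F) (s : F), Gd q u s ∧ EE hF α u s = g.1.1 :=
    fun g => g.1.2
  choose U S hUS hE using hg
  have hgK : ∀ g : K.subgroupOf (QQ hF hα e), EE hF α (U g) (S g) ∈ K := by
    intro g
    rw [hE]
    exact g.2
  let Y₀ : K.subgroupOf (QQ hF hα e) → YY hF hα K := fun g => ⟨U g, S g, hUS g, hgK g⟩
  have hZ : ∀ g, S g - s₁ (Y₀ g) ∈ ZZ hF hα K := by
    intro g
    have h1 := hUS g
    have h2 : Gd q (U g) (s₁ (Y₀ g)) := hs₁ (Y₀ g)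
    have h6 : EE hF α (U g) (s₁ (Y₀ g)) ∈ K := hs₁' (Y₀ g)
    generalize s₁ (Y₀ g) = a at h2 h6 ⊢
    have h3 : (S g - a) + (S g - a) ^ q = 0 := by
      unfold Gd at h1 h2
      rw [sub_pow_q hF]
      linear_combination h1 - h2
    refine ⟨h3, ?_⟩
    have h4 := EE_tau_mul hF hα h3 h2
    have h5 : EE (e := e) hF α 0 (S g - a) = EE hF α (U g) (S g) * (EE hF α (U g) a)⁻¹ := by
      rw [eq_mul_inv_iff_mul_eq]
      refine h4.trans ?_
      congr 1
      ring
    rw [h5]
    exact K.mul_mem (hgK g) (K.inv_mem h6)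
  refine Nat.card_le_card_of_injective (fun g => (Y₀ g, ⟨S g - s₁ (Y₀ g), hZ g⟩)) ?_
  intro g g' h
  have h0 : Y₀ g = Y₀ g' := (Prod.ext_iff.1 h).1
  have h1 : U g = U g' := congrArg Subtype.val h0
  have h2 : S g - s₁ (Y₀ g) = S g' - s₁ (Y₀ g') := congrArg Subtype.val (Prod.ext_iff.1 h).2
  rw [h0] at h2
  have h4 : S g = S g' := by
    linear_combination h2
  apply Subtype.ext
  apply Subtype.ext
  rw [← hE, ← hE, h1, h4]

/-- The index inequality. -/
lemma index_ineq : (q ^ 2) ^ e * q ≤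
    (K.subgroupOf (QQ hF hα e)).index * (Nat.card (YY hF hα K) * Nat.card (ZZ hF hα K)) := by
  have h1 := Subgroup.card_mul_index (K.subgroupOf (QQ hF hα e))
  have h2 := card_QQ_ge (e := e) hF hα
  have h3 := card_inf_le hF hα (K := K)
  calc (q ^ 2) ^ e * q ≤ Nat.card (QQ hF hα e) := h2
    _ = Nat.card (K.subgroupOf (QQ hF hα e)) * (K.subgroupOf (QQ hF hα e)).index := h1.symm
    _ ≤ (Nat.card (YY hF hα K) * Nat.card (ZZ hF hα K)) * (K.subgroupOf (QQ hF hα e)).index :=
        Nat.mul_le_mul_right _ h3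
    _ = _ := by ring

/-- The Levi quotient. -/
noncomputable abbrev KK (hF : Fintype.card F = q ^ 2) (hα : α ^ q * α = -1)
    (K : Subgroup (SU (e + 2) F q)) : Subgroup (SU e F q) :=
  K1 (QQ hF hα e) K iota (hN_QQ hF hα)

/-- `Y` is invariant under the Levi quotient. -/
lemma YY_inv {l : SU e F q} (hl : l ∈ KK hF hα K) {u : Fin e → F} (hu : u ∈ YY hF hα K) :
    act l u ∈ YY hF hα K := by
  obtain ⟨w, ⟨u₀, s₀, h₀, rfl⟩, hm⟩ := hl
  obtain ⟨s, h, hm'⟩ := hu
  have h1 := K.mul_mem (K.mul_mem hm hm') (K.inv_mem hm)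
  have h2 : EE hF α u₀ s₀ * iota l * EE hF α u s * (EE hF α u₀ s₀ * iota l)⁻¹ =
      EE hF α u₀ s₀ * (iota l * EE hF α u s * (iota l)⁻¹) * (EE hF α u₀ s₀)⁻¹ := by
    group
  rw [h2, iota_conj hF hα l h, EE_conj hF hα h₀ (Gd_act l h)] at h1
  exact ⟨_, Gd_trace hF (trace_zero_kappa hF _ _) (Gd_act l h), h1⟩

/-- The proper case: `|Z|` is at most half of `q`. -/
lemma two_mul_card_ZZ_le {c : F} (hc : c + c ^ q = 0) (hcK : EE (e := e) hF α 0 c ∉ K) :
    2 * Nat.card (ZZ hF hα K) ≤ q := by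
  classical
  have hle : ZZ hF hα K ≤ Tz hF := fun x hx => hx.1
  have h1 : Nat.card (ZZ hF hα K) ∣ Nat.card (Tz hF) := AddSubgroup.card_dvd_of_le hle
  have h2 : Nat.card (Tz hF) = q := by
    rw [Nat.card_eq_fintype_card]; exact card_Tz hF
  rw [h2] at h1
  obtain ⟨m, hm⟩ := h1
  have hq := two_le hF
  have hm1 : m ≠ 1 := by
    rintro rfl
    rw [mul_one] at hm
    have h3 : (ZZ hF hα K : Set F) = (Tz hF : Set F) := by
      have hfin : Finite (Tz hF) := inferInstance
      apply Set.eq_of_subset_of_ncard_le hle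
      have e1 : Set.ncard (ZZ hF hα K : Set F) = Nat.card (ZZ hF hα K) := rfl
      have e2 : Set.ncard (Tz hF : Set F) = Nat.card (Tz hF) := rfl
      rw [e1, e2, h2]
      exact hm.le
    have h4 : c ∈ (Tz hF : Set F) := hc
    rw [← h3] at h4
    exact hcK h4.2
  have hm0 : m ≠ 0 := by
    rintro rfl
    omega
  have : 2 ≤ m := by omega
  calc 2 * Nat.card (ZZ hF hα K) ≤ m * Nat.card (ZZ hF hα K) := Nat.mul_le_mul_right _ this
    _ = q := by rw [mul_comm]; exact hm.symm

end Sub

end Q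

end Cfsg.Agent.Lib.PSUIdx
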