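import Mathlib
import Cfsg.Agent.Lib.PSUIdxB

/-!
# Orbits on isotropic vectors, scaling of the central part, isotropy bound
-/

set_option autoImplicit false
set_option linter.unusedSectionVars false
set_option linter.unusedVariables false

namespace Cfsg.Agent.Lib.PSUIdx

open Matrix Cfsg Cfsg.Agent.Lib.HermForm Cfsg.Agent.Lib.FFNorm Cfsg.Agent.Lib.UnitaryE
  Cfsg.Agent.Lib.UnitarySU Cfsg.Agent.Lib.SUMinDeg
open scoped Pointwise

variable {F : Type*} [Field F] [Fintype F] {q n e : ℕ}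

/-- Vector stabiliser. -/
def stabV (u : Fin n → F) : Subgroup (SU n F q) where
  carrier := {g | act g u = u}
  mul_mem' := by
    intro a b ha hb
    show act (a * b) u = u
    rw [act_mul, show act b u = u from hb, show act a u = u from ha]
  one_mem' := act_one u
  inv_mem' := by
    intro a ha
    show act a⁻¹ u = u
    have h : act a⁻¹ (act a u) = u := by rw [← act_mul, inv_mul_cancel, act_one]
    rwa [show act a u = u from ha] at h

lemma mem_stabV {u : Fin n → F} {g : SU n F q} : g ∈ stabV u ↔ act g u = u := Iff.rfl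

lemma act_eq_iff (u : Fin n → F) (g g' : SU n F q) : act g u = act g' u ↔ g⁻¹ * g' ∈ stabV u := by
  constructor
  · intro h
    show act (g⁻¹ * g') u = u
    rw [act_mul, ← h, ← act_mul, inv_mul_cancel, act_one]
  · intro h
    have h' : act (g⁻¹ * g') u = u := h
    have := congrArg (act g) h'
    rw [← act_mul, mul_inv_cancel_left] at this
    exact this.symm

/-- The orbit of a vector. -/
def orbV (K : Subgroup (SU n F q)) (u : Fin n → F) : Set (Fin n → F) :=
  (fun g : SU n F q => act g u) '' (K : Set (SU n F q))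

lemma card_orbV (K : Subgroup (SU n F q)) (u : Fin n → F) :
    Nat.card (orbV K u) = (stabV u).relIndex K :=
  card_orbit_eq (stabV u) K (fun g : SU n F q => act g u) (act_eq_iff u)

lemma mem_orbV_self (K : Subgroup (SU n F q)) (u : Fin n → F) : u ∈ orbV K u :=
  ⟨1, K.one_mem, act_one u⟩

/-- The non-zero isotropic vectors. -/
def IsoV (n : ℕ) (F : Type*) [Field F] (q : ℕ) : Set (Fin n → F) :=
  {x | hermForm n F q x x = 0 ∧ x ≠ 0}

section

variable (hF : Fintype.card F = q ^ 2)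
include hF

lemma orbV_top (hn : 3 ≤ n) {u : Fin n → F} (hu : u ∈ IsoV n F q) :
    orbV (⊤ : Subgroup (SU n F q)) u = IsoV n F q := by
  ext x
  constructor
  · rintro ⟨g, -, rfl⟩
    refine ⟨by rw [herm_act]; exact hu.1, ?_⟩
    intro h
    apply hu.2
    have h2 : act g⁻¹ (act g u) = u := by rw [← act_mul, inv_mul_cancel, act_one]
    have h3 : act g u = 0 := h
    rw [h3, act_zero] at h2
    exact h2.symm
  · intro hx
    obtain ⟨g, hg⟩ := exists_act_eq hF hn hu.1 hu.2 hx.1 hx.2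
    exact ⟨g, trivial, hg⟩

lemma index_stabV (hn : 3 ≤ n) {u : Fin n → F} (hu : u ∈ IsoV n F q) :
    (stabV u : Subgroup (SU n F q)).index = Nat.card (IsoV n F q) := by
  have h := card_orbV (⊤ : Subgroup (SU n F q)) u
  rw [orbV_top hF hn hu, Subgroup.relIndex_top_right] at h
  exact h.symm

/-- The basic index formula. -/
lemma orb_index (hn : 3 ≤ n) {u : Fin n → F} (hu : u ∈ IsoV n F q) (K : Subgroup (SU n F q)) :
    Nat.card (orbV K u) * K.index = (K.subgroupOf (stabV u)).index * Nat.card (IsoV n F q) := by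
  rw [card_orbV, ← index_stabV hF hn hu]
  exact relIndex_swap _ _

lemma card_IsoV (n : ℕ) (hn : Even n) :
    Nat.card (IsoV n F q) = (q ^ n - 1) * (q ^ (n - 1) + 1) := by
  classical
  have h1 := Cfsg.Agent.Lib.HermCount.card_isotropic hF n
  rw [if_pos hn] at h1
  have h2 := Cfsg.Agent.Lib.HermLines.card_split (fun w : Fin n → F => hermForm n F q w w = 0) (fun w => w ≠ 0)
  have h3 : Nat.card {w : Fin n → F // hermForm n F q w w = 0 ∧ ¬ w ≠ 0} = 1 := by
    rw [Nat.card_eq_one_iff_unique]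
    refine ⟨⟨?_⟩, ⟨⟨0, ?_, by simp⟩⟩⟩
    · rintro ⟨x, hx, hx'⟩ ⟨y, hy, hy'⟩
      apply Subtype.ext
      push Not at hx' hy'
      exact hx'.trans hy'.symm
    · rw [hermForm_zero_left]
  have h4 : Nat.card (IsoV n F q) = Nat.card {w : Fin n → F // hermForm n F q w w = 0 ∧ w ≠ 0} := rfl
  omega

end

section Family

variable (hF : Fintype.card F = q ^ 2) {α : F} (hα : α ^ q * α = -1)

/-- The norm-one-free scaling group. -/
def FqU (hF : Fintype.card F = q ^ 2) : Subgroup Fˣ where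
  carrier := {t | (t : F) ^ q = t}
  mul_mem' := by
    intro a b ha hb
    simp only [Set.mem_ofPred_eq, Units.val_mul, mul_pow] at *
    rw [ha, hb]
  one_mem' := by simp
  inv_mem' := by
    intro a ha
    simp only [Set.mem_ofPred_eq, Units.val_inv_eq_inv_val, inv_pow] at *
    rw [ha]

lemma mem_FqU {t : Fˣ} : t ∈ FqU hF ↔ (t : F) ^ q = t := Iff.rfl

include hF in
lemma card_FqU : Nat.card (FqU hF) = q - 1 := by
  classical
  have h1 := Cfsg.Agent.Lib.HermLines.card_fixed hF
  have h2 := Cfsg.Agent.Lib.HermLines.card_split (fun c : F => c ^ q = c) (fun c => c ≠ 0)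
  have hq := two_le hF
  have h3 : Nat.card {c : F // c ^ q = c ∧ ¬ c ≠ 0} = 1 := by
    rw [Nat.card_eq_one_iff_unique]
    refine ⟨⟨?_⟩, ⟨⟨0, ?_, by simp⟩⟩⟩
    · rintro ⟨x, hx, hx'⟩ ⟨y, hy, hy'⟩
      apply Subtype.ext
      push Not at hx' hy'
      exact hx'.trans hy'.symm
    · rw [zero_pow (by omega)]
  have h4 : Nat.card (FqU hF) = Nat.card {c : F // c ^ q = c ∧ c ≠ 0} := by
    apply Nat.card_congr
    refine ⟨fun t => ⟨t.1.1, t.2, t.1.ne_zero⟩, fun c => ⟨Units.mk0 c.1 c.2.2, c.2.1⟩, ?_, ?_⟩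
    · intro t
      apply Subtype.ext
      apply Units.ext
      rfl
    · intro c
      rfl
  omega

/-- Arithmetic in the proof of the scaling lemma. -/
lemma zk_arith {k S z Q : ℕ} (hk : k * S = Q - 1) (hS : 1 ≤ S) (h1 : (S + 1) * z ≤ Q) (h2 : S + 1 ≤ z) :
    (Q + 2) * z ≤ k * Q := by
  have hQ : 1 ≤ Q := by nlinarith
  obtain ⟨P, rfl⟩ : ∃ P, Q = P + 1 := ⟨Q - 1, by omega⟩
  simp only [Nat.add_sub_cancel] at hk
  -- `3 (S+1) ≤ P + 3`
  have h3 : (S + 1) * (S + 1) ≤ P + 1 := le_trans (Nat.mul_le_mul_left _ h2) h1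
  have h4 : 3 * (S + 1) ≤ P + 3 := by nlinarith
  have h5 : (P + 3) * S ≤ P * (S + 1) := by nlinarith
  have h6 : (S + 1) * ((P + 1 + 2) * z * S) ≤ (S + 1) * (P * (P + 1)) := by
    calc (S + 1) * ((P + 1 + 2) * z * S) = ((S + 1) * z) * ((P + 3) * S) := by ring
      _ ≤ (P + 1) * (P * (S + 1)) := Nat.mul_le_mul h1 h5
      _ = (S + 1) * (P * (P + 1)) := by ring
  have h7 : (P + 1 + 2) * z * S ≤ P * (P + 1) := Nat.le_of_mul_le_mul_left h6 (by omega)
  have h8 : (P + 1 + 2) * z * S ≤ k * (P + 1) * S := by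
    calc _ ≤ P * (P + 1) := h7
      _ = k * (P + 1) * S := by rw [← hk]; ring
  exact Nat.le_of_mul_le_mul_right h8 (by omega)

/-- The scaling lemma. -/
theorem card_orbit_ZZ (Z : AddSubgroup F) (hZ : Z ≤ Tz hF) (hZ0 : Z ≠ ⊥) {β : F} (hβ : β ∈ Tz hF)
    (hβZ : β ∉ Z) :
    (q + 2) * Nat.card Z ≤ Nat.card (MulAction.orbit (FqU hF) Z) * q := by
  classical
  obtain ⟨ζ, hζ, hζ0⟩ : ∃ ζ ∈ Z, ζ ≠ 0 := by
    by_contra hcon
    push Not at hcon
    apply hZ0
    rw [eq_bot_iff]
    intro x hx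
    exact hcon x hx
  have hq := two_le hF
  set S := MulAction.stabilizer (FqU hF) Z with hS
  have hmem : ∀ t : S, ∀ x ∈ Z, ((t.1.1 : Fˣ) : F) * x ∈ Z := by
    intro t x hx
    have h1 : t.1 • Z = Z := t.2
    have h2 : t.1 • x ∈ t.1 • Z := AddSubgroup.smul_mem_pointwise_smul _ _ _ hx
    rw [h1] at h2
    exact h2
  -- `S` in `F`
  have hk' : Nat.card (MulAction.orbit (FqU hF) Z) * Nat.card S = q - 1 := by
    have h1 := Subgroup.card_mul_index S
    rw [hS, MulAction.index_stabilizer, card_FqU hF, ← Nat.card_coe_set_eq] at h1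
    rw [hS, ← h1, mul_comm]
  have hS1 : 1 ≤ Nat.card S := Nat.card_pos
  -- `S + 1 ≤ z`
  have h2 : Nat.card S + 1 ≤ Nat.card Z := by
    rw [← Finite.card_option (α := S)]
    refine Nat.card_le_card_of_injective (fun o : Option S => match o with
      | none => (0 : Z)
      | some t => ⟨((t.1.1 : Fˣ) : F) * ζ, hmem t ζ hζ⟩) ?_
    rintro (_ | t) (_ | t') h
    · rfl
    · exfalso
      have h3 : (0 : F) = ((t'.1.1 : Fˣ) : F) * ζ := congrArg Subtype.val h
      exact mul_ne_zero (Units.ne_zero _) hζ0 h3.symm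
    · exfalso
      have h3 : ((t.1.1 : Fˣ) : F) * ζ = 0 := congrArg Subtype.val h
      exact mul_ne_zero (Units.ne_zero _) hζ0 h3
    · have h3 : ((t.1.1 : Fˣ) : F) * ζ = ((t'.1.1 : Fˣ) : F) * ζ := congrArg Subtype.val h
      have h4 := mul_right_cancel₀ hζ0 h3
      congr 1
      apply Subtype.ext
      apply Subtype.ext
      exact Units.ext h4
  -- `(S + 1) z ≤ q`
  have hsub : ∀ t t' : S, t ≠ t' → (((t.1.1 : Fˣ) : F) - ((t'.1.1 : Fˣ) : F)) * β ∉ Z := by
    intro t t' hne hin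
    have hd : ((t.1.1 : Fˣ) : F) - ((t'.1.1 : Fˣ) : F) ≠ 0 := by
      intro h
      apply hne
      apply Subtype.ext
      apply Subtype.ext
      exact Units.ext (sub_eq_zero.1 h)
    set d := ((t.1.1 : Fˣ) : F) - ((t'.1.1 : Fˣ) : F) with hd'
    -- multiplication by `d` maps `Z` to itself, hence onto
    have hdZ : ∀ x ∈ Z, d * x ∈ Z := by
      intro x hx
      rw [hd', sub_mul]
      exact Z.sub_mem (hmem t x hx) (hmem t' x hx)
    have hinj : Function.Injective (fun x : Z => (⟨d * x.1, hdZ x.1 x.2⟩ : Z)) := by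
      intro x y hxy
      apply Subtype.ext
      exact mul_left_cancel₀ hd (congrArg Subtype.val hxy)
    have hsurj := Finite.injective_iff_surjective.1 hinj
    obtain ⟨y, hy⟩ := hsurj ⟨d * β, hin⟩
    have hy' : d * y.1 = d * β := congrArg Subtype.val hy
    have := mul_left_cancel₀ hd hy'
    exact hβZ (this ▸ y.2)
  have hqeq : Nat.card (Tz hF) = q := by
    rw [Nat.card_eq_fintype_card]; exact card_Tz hF
  have hS_q : ∀ t : S, ((t.1.1 : Fˣ) : F) ^ q = ((t.1.1 : Fˣ) : F) := fun t => t.1.2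
  have hβ' : β ^ q = - β := by
    have : β + β ^ q = 0 := hβ
    linear_combination this
  have h1 : (Nat.card S + 1) * Nat.card Z ≤ q := by
    refine le_of_le_of_eq ?_ hqeq
    rw [← Finite.card_option (α := S), ← Nat.card_prod]
    let f : Option S → F := fun o => match o with
      | none => 0
      | some t => ((t.1.1 : Fˣ) : F) * β
    have hf : ∀ o, f o ∈ Tz hF := by
      rintro (_ | t)
      · exact (Tz hF).zero_mem
      · show ((t.1.1 : Fˣ) : F) * β + (((t.1.1 : Fˣ) : F) * β) ^ q = 0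
        rw [mul_pow, hS_q, hβ']
        ring
    refine Nat.card_le_card_of_injective (fun p : Option S × Z =>
      (⟨f p.1 + p.2.1, (Tz hF).add_mem (hf p.1) (hZ p.2.2)⟩ : Tz hF)) ?_
    rintro ⟨o, x⟩ ⟨o', x'⟩ h
    have h3 : f o + x.1 = f o' + x'.1 := congrArg Subtype.val h
    have h4 : f o - f o' ∈ Z := by
      have : f o - f o' = x'.1 - x.1 := by linear_combination h3
      rw [this]
      exact Z.sub_mem x'.2 x.2
    have ho : o = o' := by
      rcases o with _ | t <;> rcases o' with _ | t'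
      · rfl
      · exfalso
        have h5 : -(((t'.1.1 : Fˣ) : F) * β) ∈ Z := by simpa [f] using h4
        have h6 := Z.neg_mem h5
        rw [neg_neg] at h6
        -- `t'` has an inverse in `S`
        have h7 : (t'⁻¹ : S).1 • (t'.1 • β) ∈ (t'⁻¹ : S).1 • Z :=
          AddSubgroup.smul_mem_pointwise_smul _ _ _ h6
        rw [show (t'⁻¹ : S).1 • Z = Z from (t'⁻¹ : S).2] at h7
        have h8 : (t'⁻¹ : S).1 • (t'.1 • β) = β := by
          rw [smul_smul]
          have : (t'⁻¹ : S).1 * t'.1 = 1 := by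
            have : ((t'⁻¹ * t' : S) : FqU hF) = 1 := by simp
            simpa using this
          rw [this, one_smul]
        rw [h8] at h7
        exact hβZ h7
      · exfalso
        have h5 : ((t.1.1 : Fˣ) : F) * β ∈ Z := by simpa [f] using h4
        have h7 : (t⁻¹ : S).1 • (t.1 • β) ∈ (t⁻¹ : S).1 • Z :=
          AddSubgroup.smul_mem_pointwise_smul _ _ _ h5
        rw [show (t⁻¹ : S).1 • Z = Z from (t⁻¹ : S).2] at h7
        have h8 : (t⁻¹ : S).1 • (t.1 • β) = β := by
          rw [smul_smul]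
          have : (t⁻¹ : S).1 * t.1 = 1 := by
            have : ((t⁻¹ * t : S) : FqU hF) = 1 := by simp
            simpa using this
          rw [this, one_smul]
        rw [h8] at h7
        exact hβZ h7
      · by_cases htt : t = t'
        · rw [htt]
        · exfalso
          apply hsub t t' htt
          have : ((((t.1.1 : Fˣ) : F) - ((t'.1.1 : Fˣ) : F)) * β) = f (some t) - f (some t') := by
            simp only [f]; ring
          rw [this]
          exact h4
    subst ho
    have hx : x = x' := Subtype.ext (add_left_cancel h3)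
    rw [hx]
  exact zk_arith hk' hS1 h1 h2

end Family

section Conj

variable (hF : Fintype.card F = q ^ 2) {α : F} (hα : α ^ q * α = -1)

include hF hα

/-- A conjugate of a transvection of `v`. -/
lemma conj_tau_vE {x : SU (e + 2) F q} {a : F} (ha : a ≠ 0) (hx : act x (vE α) = a • vE α) {c : F}
    (hc : c + c ^ q = 0) :
    x⁻¹ * EE (e := e) hF α 0 c * x = EE hF α 0 ((a * a ^ q)⁻¹ * c) := by
  have hv := vE_iso (e := e) hF hα
  have h1 := conj_tau hF x⁻¹ hv hc
  have h2 : act x⁻¹ (vE α) = a⁻¹ • vE (e := e) α := by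
    have h3 : act x⁻¹ (act x (vE (e := e) α)) = vE α := by rw [← act_mul, inv_mul_cancel, act_one]
    rw [hx, act_smul] at h3
    rw [← h3, smul_smul, inv_mul_cancel₀ ha, one_smul]
    rw [h3]
  rw [h2, tau_smul hF hv hc] at h1
  rw [EE_zero_eq_tau hF hα, EE_zero_eq_tau hF hα]
  have h4 : (a⁻¹ * (a⁻¹) ^ q * c) = (a * a ^ q)⁻¹ * c := by
    rw [inv_pow, mul_inv]
  rw [h4] at h1
  rw [h1]
  group

end Conj

section Isotropy

variable (hF : Fintype.card F = q ^ 2)
include hF

/-- The isotropy bound in an additive subgroup. -/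
theorem card_sq_le_of {M₀ Y : AddSubgroup (Fin e → F)} (hY : Y ≤ M₀) {Z : AddSubgroup F} {c₁ : F}
    (hc₁ : c₁ ∉ Z)
    (hB : ∀ y ∈ Y, ∀ y' ∈ Y, hermForm e F q y' y - hermForm e F q y y' ∈ Z)
    (hnd : ∀ y ∈ M₀, y ≠ 0 → ∃ y' ∈ M₀, hermForm e F q y' y - hermForm e F q y y' = c₁) :
    Nat.card Y ^ 2 ≤ Nat.card M₀ := by
  classical
  obtain ⟨p, hp⟩ := CharP.exists F
  haveI hpp : Fact p.Prime := ⟨CharP.char_is_prime F p⟩
  letI : Algebra (ZMod p) F := ZMod.algebra F p
  let Z' : Submodule (ZMod p) F := AddSubgroup.toZModSubmodule p Z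
  obtain ⟨ψ, hψ1, hψ2⟩ := Submodule.exists_le_ker_of_notMem (p := Z') (v := c₁) hc₁
  refine card_sq_le (p := p) (fun y' y => ψ (hermForm e F q y' y - hermForm e F q y y')) ?_ ?_ M₀ Y hY ?_ ?_
  · intro a b c
    rw [← map_add]
    congr 1
    rw [hermForm_add_left, hermForm_add_right hF]
    ring
  · intro a b c
    rw [← map_add]
    congr 1
    rw [hermForm_add_left, hermForm_add_right hF]
    ring
  · intro y hy hy0
    obtain ⟨y', hy', h⟩ := hnd y hy hy0
    exact ⟨y', hy', by rw [h]; exact hψ1⟩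
  · intro y hy y' hy'
    have := hψ2 (show _ ∈ Z' from hB y hy y' hy')
    exact this

/-- The isotropy bound. -/
theorem card_sq_le_top {Y : AddSubgroup (Fin e → F)} {Z : AddSubgroup F} {c₁ : F} (hc : c₁ + c₁ ^ q = 0)
    (hc₁ : c₁ ∉ Z)
    (hB : ∀ y ∈ Y, ∀ y' ∈ Y, hermForm e F q y' y - hermForm e F q y y' ∈ Z) :
    Nat.card Y ^ 2 ≤ (q ^ 2) ^ e := by
  have h := card_sq_le_of hF (M₀ := ⊤) le_top hc₁ hB ?_
  · have h2 : Nat.card (⊤ : AddSubgroup (Fin e → F)) = (q ^ 2) ^ e := by
      rw [AddSubgroup.card_top, Nat.card_eq_fintype_card, Fintype.card_fun, hF, Fintype.card_fin]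
    rwa [h2] at h
  · intro y _ hy0
    obtain ⟨y₀, hy₀⟩ := Cfsg.Agent.Lib.HermLines.exists_partner hF hy0
    obtain ⟨l, hl⟩ := exists_sub_eq hF (c := c₁) (by linear_combination hc)
    refine ⟨(-l) • y₀, trivial, ?_⟩
    have h1 := hermForm_conj hF y₀ y
    rw [hy₀, one_pow] at h1
    rw [hermForm_smul_left, hermForm_smul_right, hy₀, ← h1, neg_pow_q hF]
    linear_combination hl

end Isotropy

end Cfsg.Agent.Lib.PSUIdx
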