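import Mathlib
import Cfsg.Agent.Lib.PSUIdxC

/-!
# The master inequality; `SU₂` facts
-/

set_option autoImplicit false
set_option linter.unusedSectionVars false
set_option linter.unusedVariables false

namespace Cfsg.Agent.Lib.PSUIdx

open Matrix Cfsg Cfsg.Agent.Lib.HermForm Cfsg.Agent.Lib.FFNorm Cfsg.Agent.Lib.UnitaryE
  Cfsg.Agent.Lib.UnitarySU Cfsg.Agent.Lib.SUMinDeg
open scoped Pointwise

variable {F : Type*} [Field F] [Fintype F] {q n e : ℕ}

section MI

variable (hF : Fintype.card F = q ^ 2) {α : F} (hα : α ^ q * α = -1)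
include hF hα

lemma vE_ne : vE (e := e) α ≠ 0 := by
  intro h
  have h1 : vE (e := e) α 0 = 1 := vE_zero
  rw [h] at h1
  exact zero_ne_one h1

lemma vE_mem : vE (e := e) α ∈ IsoV (e + 2) F q := ⟨vE_iso hF hα, vE_ne hF hα⟩

lemma QQ_le_stab : QQ hF hα e ≤ stabV (vE α) := by
  rintro _ ⟨u, s, h, rfl⟩
  exact act_EE_vE hF hα h

omit hα in
lemma iota_mem_stab (l : SU e F q) : iota l ∈ stabV (vE (e := e) α) := act_iota_vE l

/-- The membership criterion under a scaling conjugation. -/
lemma conj_mem_iff {K : Subgroup (SU (e + 2) F q)} {g : SU (e + 2) F q} {a : F} (ha : a ≠ 0)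
    (hg : act g (vE α) = a • vE α) {c : F} (hc : c + c ^ q = 0) :
    g⁻¹ * EE (e := e) hF α 0 c * g ∈ K ↔ (a * a ^ q)⁻¹ * c ∈ ZZ hF hα K := by
  rw [conj_tau_vE hF hα ha hg hc, mem_ZZ]
  have hN : (a * a ^ q) ^ q = a * a ^ q := by
    rw [mul_pow, pow_pow_self hF]; ring
  have ht : (a * a ^ q)⁻¹ * c + ((a * a ^ q)⁻¹ * c) ^ q = 0 := by
    rw [mul_pow, inv_pow, hN]
    linear_combination (a * a ^ q)⁻¹ * hc
  exact ⟨fun h => ⟨ht, h⟩, fun h => h.2⟩

lemma ZZ_le_Tz (K : Subgroup (SU (e + 2) F q)) : ZZ hF hα K ≤ Tz hF := fun _ hx => hx.1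

/-- The master inequality with scaling. -/
theorem mi_scaled (K : Subgroup (SU (e + 2) F q)) (he : 1 ≤ e) :
    Nat.card (MulAction.orbit (FqU hF) (ZZ hF hα K)) *
      ((KK hF hα K).index * (K.subgroupOf (QQ hF hα e)).index) ≤ K.index := by
  classical
  have hch : ∀ j : MulAction.orbit (FqU hF) (ZZ hF hα K),
      ∃ (t : FqU hF) (a : F) (x : SU (e + 2) F q), a ≠ 0 ∧ a * a ^ q = ((t.1 : Fˣ) : F) ∧
        t • ZZ hF hα K = j.1 ∧ act x (vE α) = a • vE α := by
    rintro ⟨_, t, rfl⟩
    obtain ⟨a, ha0, ha⟩ := SUGen.exists_norm hF ((t.1 : Fˣ) : F) (Units.ne_zero _) t.2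
    have hv := vE_iso (e := e) hF hα
    obtain ⟨x, hx⟩ := exists_act_eq (n := e + 2) (x := vE α) (y := a • vE α) hF (by omega) hv
      (vE_ne hF hα)
      (by rw [hermForm_smul_left, hermForm_smul_right, hv]; ring)
      (smul_ne_zero ha0 (vE_ne hF hα))
    exact ⟨t, a, x, ha0, ha, rfl, hx⟩
  choose T A X hA0 hA hT hX using hch
  apply mi_families (hN_QQ hF hα) X
  intro j j' l l' y y' hy hy' h
  have hgv : ∀ (j : MulAction.orbit (FqU hF) (ZZ hF hα K)) (l : SU e F q) (y : SU (e + 2) F q), y ∈ QQ hF hα e →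
      act (X j * (iota l * y)) (vE α) = A j • vE α := by
    intro j l y hy
    rw [act_mul, act_mul, QQ_le_stab hF hα hy, act_iota_vE, hX]
  rw [QuotientGroup.eq] at h
  have key : ∀ (j : MulAction.orbit (FqU hF) (ZZ hF hα K)) (l : SU e F q) (y : SU (e + 2) F q), y ∈ QQ hF hα e →
      ∀ c : F, c ∈ j.1 ↔ (c + c ^ q = 0 ∧
        (X j * (iota l * y))⁻¹ * EE (e := e) hF α 0 c * (X j * (iota l * y)) ∈ K) := by
    intro j l y hy c
    rw [← hT j]
    constructor
    · intro hc
      obtain ⟨z, hz, rfl⟩ := AddSubgroup.mem_smul_pointwise_iff_exists _ _ _ |>.1 hc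
      have hzT : z + z ^ q = 0 := hz.1
      have hq : ((T j).1 : F) ^ q = ((T j).1 : F) := (T j).2
      have hsm : (T j) • z = ((T j).1 : F) * z := rfl
      rw [hsm]
      have htr : ((T j).1 : F) * z + (((T j).1 : F) * z) ^ q = 0 := by
        rw [mul_pow, hq]
        linear_combination ((T j).1 : F) * hzT
      refine ⟨htr, ?_⟩
      rw [conj_mem_iff hF hα (hA0 j) (hgv j l y hy) htr, hA, inv_mul_cancel_left₀ (Units.ne_zero _)]
      exact hz
    · rintro ⟨hc, hm⟩
      rw [conj_mem_iff hF hα (hA0 j) (hgv j l y hy) hc, hA] at hm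
      refine (AddSubgroup.mem_smul_pointwise_iff_exists _ _ _).2 ⟨(T j)⁻¹ • c, ?_, smul_inv_smul _ _⟩
      have : ((T j)⁻¹ • c) = ((T j).1 : F)⁻¹ * c := by
        show (((T j)⁻¹ : FqU hF).1 : F) * c = _
        simp
      rw [this]
      exact hm
  apply Subtype.ext
  apply AddSubgroup.ext
  intro c
  rw [key j l y hy c, key j' l' y' hy' c]
  constructor
  · rintro ⟨hc, hm⟩
    refine ⟨hc, ?_⟩
    set g := X j * (iota l * y)
    set g' := X j' * (iota l' * y')
    have h2 : g'⁻¹ * EE (e := e) hF α 0 c * g' = (g⁻¹ * g')⁻¹ * (g⁻¹ * EE (e := e) hF α 0 c * g) * (g⁻¹ * g') := by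
      group
    rw [h2]
    exact K.mul_mem (K.mul_mem (K.inv_mem h) hm) h
  · rintro ⟨hc, hm⟩
    refine ⟨hc, ?_⟩
    set g := X j * (iota l * y)
    set g' := X j' * (iota l' * y')
    have h2 : g⁻¹ * EE (e := e) hF α 0 c * g = (g⁻¹ * g') * (g'⁻¹ * EE (e := e) hF α 0 c * g') * (g⁻¹ * g')⁻¹ := by
      group
    rw [h2]
    exact K.mul_mem (K.mul_mem h hm) (K.inv_mem h)

/-- The scaling count as an inequality. -/
theorem orbit_ge (K : Subgroup (SU (e + 2) F q)) (hZ0 : ZZ hF hα K ≠ ⊥) {c : F} (hc : c + c ^ q = 0)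
    (hcK : EE (e := e) hF α 0 c ∉ K) :
    (q + 2) * Nat.card (ZZ hF hα K) ≤ Nat.card (MulAction.orbit (FqU hF) (ZZ hF hα K)) * q :=
  card_orbit_ZZ hF _ (ZZ_le_Tz hF hα K) hZ0 (β := c) hc (fun h => hcK h.2)

/-- The bound for the norm: `K.index` in terms of the parameters. -/
theorem mi_param (K : Subgroup (SU (e + 2) F q)) (he : 1 ≤ e) {c : F} (hc : c + c ^ q = 0)
    (hcK : EE (e := e) hF α 0 c ∉ K) :
    ∃ k : ℕ, 1 ≤ k ∧ (Nat.card (ZZ hF hα K) = 1 ∨ (q + 2) * Nat.card (ZZ hF hα K) ≤ k * q) ∧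
      (q ^ 2) ^ e * q * k * (KK hF hα K).index ≤
        K.index * (Nat.card (YY hF hα K) * Nat.card (ZZ hF hα K)) := by
  refine ⟨Nat.card (MulAction.orbit (FqU hF) (ZZ hF hα K)), ?_, ?_, ?_⟩
  · haveI : Nonempty (MulAction.orbit (FqU hF) (ZZ hF hα K)) := ⟨⟨_, MulAction.mem_orbit_self _⟩⟩
    exact Nat.card_pos
  · by_cases h : ZZ hF hα K = ⊥
    · left
      rw [h]
      simp
    · right
      exact orbit_ge hF hα K h hc hcK
  · have h1 := mi_scaled hF hα K he
    have h2 := index_ineq hF hα (K := K) (e := e)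
    set k := Nat.card (MulAction.orbit (FqU hF) (ZZ hF hα K))
    set i := (KK hF hα K).index
    set t := (K.subgroupOf (QQ hF hα e)).index
    set rz := Nat.card (YY hF hα K) * Nat.card (ZZ hF hα K)
    calc (q ^ 2) ^ e * q * k * i ≤ (t * rz) * k * i := by gcongr
      _ = (k * (i * t)) * rz := by ring
      _ ≤ K.index * rz := Nat.mul_le_mul_right _ h1

/-- The bound in the stabiliser. -/
theorem mi_stab (K : Subgroup (SU (e + 2) F q)) :
    (KK hF hα K).index * (K.subgroupOf (QQ hF hα e)).index ≤ (K.subgroupOf (stabV (vE α))).index :=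
  mi_sub (hN_QQ hF hα) (QQ_le_stab hF hα) (iota_mem_stab hF)

end MI

section SU2

variable (hF : Fintype.card F = q ^ 2)
include hF

lemma herm2 (x y : Fin 2 → F) : hermForm 2 F q x y = x 0 * y 0 ^ q + x 1 * y 1 ^ q := by
  simp [hermForm, Fin.sum_univ_two]

/-- Proportionality in the plane. -/
lemma prop2 {y x x' : Fin 2 → F} (hy : y ≠ 0) (hx : hermForm 2 F q x y = 0)
    (hx' : hermForm 2 F q x' y = 0) (hx'0 : x' ≠ 0) : ∃ c : F, x = c • x' := by
  rw [herm2 hF] at hx hx'
  have hq0 : q ≠ 0 := by have := two_le hF; omega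
  have hdet : x 0 * x' 1 - x 1 * x' 0 = 0 := by
    by_contra hd
    have h1 : y 0 ^ q = 0 := by
      have : (x 0 * x' 1 - x 1 * x' 0) * y 0 ^ q = 0 := by
        linear_combination (x' 1) * hx - (x 1) * hx'
      exact (mul_eq_zero.1 this).resolve_left hd
    have h2 : y 1 ^ q = 0 := by
      have : (x 0 * x' 1 - x 1 * x' 0) * y 1 ^ q = 0 := by
        linear_combination (- x' 0) * hx + (x 0) * hx'
      exact (mul_eq_zero.1 this).resolve_left hd
    apply hy
    ext i
    fin_cases i
    · exact pow_eq_zero_iff hq0 |>.1 h1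
    · exact pow_eq_zero_iff hq0 |>.1 h2
  by_cases h0 : x' 0 = 0
  · have h1 : x' 1 ≠ 0 := by
      intro h1
      apply hx'0
      ext i
      fin_cases i
      · exact h0
      · exact h1
    refine ⟨x 1 / x' 1, ?_⟩
    ext i
    fin_cases i
    · simp only [Pi.smul_apply, smul_eq_mul, Fin.zero_eta, h0, mul_zero]
      rw [h0, mul_zero, sub_zero] at hdet
      exact (mul_eq_zero.1 hdet).resolve_right h1
    · show x 1 = x 1 / x' 1 * x' 1
      field_simp
  · refine ⟨x 0 / x' 0, ?_⟩
    ext i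
    fin_cases i
    · show x 0 = x 0 / x' 0 * x' 0
      field_simp
    · show x 1 = x 0 / x' 0 * x' 1
      field_simp
      linear_combination -hdet

/-- Entries of an element of `SU₂`. -/
lemma su2_entries (l : SU 2 F q) :
    let M := ((l : Matrix.SpecialLinearGroup (Fin 2) F) : Matrix (Fin 2) (Fin 2) F)
    M 1 1 = (M 0 0) ^ q ∧ M 1 0 = - (M 0 1) ^ q := by
  intro M
  have hdet : M 0 0 * M 1 1 - M 0 1 * M 1 0 = 1 := by
    have := (l : Matrix.SpecialLinearGroup (Fin 2) F).2
    rw [Matrix.det_fin_two] at this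
    exact this
  have hU : ∀ x y : Fin 2 → F, hermForm 2 F q (M *ᵥ x) (M *ᵥ y) = hermForm 2 F q x y := l.2
  have he : ∀ i j : Fin 2, hermForm 2 F q (M *ᵥ Pi.single i 1) (M *ᵥ Pi.single j 1) =
      if i = j then 1 else 0 := by
    intro i j
    rw [hU, hermForm_single_right hF]
    simp [Pi.single_apply, eq_comm]
  have h00 := he 0 0
  have h11 := he 1 1
  have h01 := he 0 1
  simp only [Matrix.mulVec_single_one, herm2 hF] at h00 h11 h01
  simp only [Matrix.col_apply, if_true, zero_ne_one, if_false, one_ne_zero] at h00 h11 h01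
  have h01' : (M 0 0) ^ q * M 0 1 + (M 1 0) ^ q * M 1 1 = 0 := by
    have := congrArg (fun z => z ^ q) h01
    simp only [add_pow_q hF, mul_pow, pow_pow_self hF] at this
    rw [zero_pow (by have := two_le hF; omega)] at this
    exact this
  have hdetq : (M 0 0) ^ q * (M 1 1) ^ q - (M 0 1) ^ q * (M 1 0) ^ q = 1 := by
    have := congrArg (fun z => z ^ q) hdet
    simp only [sub_pow_q hF, mul_pow, one_pow] at this
    exact this
  constructor
  · linear_combination (M 0 0) ^ q * hdet - (M 1 1) * h00 + (M 1 0) * h01'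
  · linear_combination (-(M 0 1) ^ q) * hdet - (M 1 0) * h11 + (M 1 1) * h01

/-- An element of `SU₂` fixing a non-isotropic vector is trivial. -/
lemma free_su2 {l : SU 2 F q} {y : Fin 2 → F} (hy : hermForm 2 F q y y ≠ 0) (hl : act l y = y) : l = 1 := by
  obtain ⟨h1, h2⟩ := su2_entries hF l
  set M := ((l : Matrix.SpecialLinearGroup (Fin 2) F) : Matrix (Fin 2) (Fin 2) F) with hM
  have h3 : M *ᵥ y = y := hl
  have h4 : M 0 0 * y 0 + M 0 1 * y 1 = y 0 := by
    have := congrFun h3 0
    simpa [Matrix.mulVec, dotProduct, Fin.sum_univ_two] using this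
  have h5 : M 1 0 * y 0 + M 1 1 * y 1 = y 1 := by
    have := congrFun h3 1
    simpa [Matrix.mulVec, dotProduct, Fin.sum_univ_two] using this
  rw [h1, h2] at h5
  have h6 : (- M 0 1 ^ q * y 0 + M 0 0 ^ q * y 1) ^ q = y 1 ^ q := by rw [h5]
  simp only [add_pow_q hF, mul_pow, neg_pow_q hF, pow_pow_self hF] at h6
  rw [herm2 hF] at hy
  have ha : M 0 0 = 1 := by
    have : (M 0 0 - 1) * (y 0 * y 0 ^ q + y 1 * y 1 ^ q) = 0 := by
      linear_combination (y 0 ^ q) * h4 + (y 1) * h6
    have := (mul_eq_zero.1 this).resolve_right hy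
    linear_combination this
  have hb : M 0 1 = 0 := by
    have : (M 0 1) * (y 0 * y 0 ^ q + y 1 * y 1 ^ q) = 0 := by
      rw [ha] at h4 h6
      linear_combination (y 1 ^ q) * h4 - (y 0) * h6
    exact (mul_eq_zero.1 this).resolve_right hy
  apply Subtype.ext
  apply Subtype.ext
  show M = 1
  ext i j
  fin_cases i <;> fin_cases j
  · simpa using ha
  · simpa using hb
  · show M 1 0 = _
    rw [h2, hb, zero_pow (by have := two_le hF; omega)]
    simp
  · show M 1 1 = _
    rw [h1, ha, one_pow]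
    simp

/-- The order of `SU₂`. -/
lemma card_SU2 : Nat.card (SU 2 F q) = q * (q ^ 2 - 1) := by
  have h := card_SU hF 2 (by norm_num)
  have hq := two_le hF
  rw [Finset.prod_range_succ, Finset.prod_range_one] at h
  simp only [Even.zero, if_true, zero_add, pow_one] at h
  have h1 : ¬ Even 1 := by decide
  rw [if_neg h1] at h
  norm_num at h
  have h2 : (q + 1) * Nat.card (SU 2 F q) = (q + 1) * (q * (q ^ 2 - 1)) := by
    rw [h]; ring
  exact Nat.eq_of_mul_eq_mul_left (by omega) h2

/-- Real subgroups have small levels. -/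
theorem level_le {Y : AddSubgroup (Fin 2 → F)} (hY : ∀ y ∈ Y, ∀ y' ∈ Y,
      hermForm 2 F q y y' ^ q = hermForm 2 F q y y') {y₀ : Fin 2 → F} (hy₀ : y₀ ∈ Y)
    (ha : hermForm 2 F q y₀ y₀ ≠ 0) :
    Nat.card {y : Y // hermForm 2 F q y.1 y.1 = hermForm 2 F q y₀ y₀} + 1 ≤ 2 * q := by
  classical
  set a := hermForm 2 F q y₀ y₀ with ha'
  have hq := two_le hF
  have hy₀0 : y₀ ≠ 0 := by
    rintro rfl
    exact ha (hermForm_zero_left _)
  have haq : a ^ q = a := hermForm_conj hF y₀ y₀
  -- the coordinate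
  let A : (Fin 2 → F) → F := fun y => hermForm 2 F q y y₀ / a
  have hAq : ∀ y ∈ Y, A y ^ q = A y := by
    intro y hy
    simp only [A, div_pow, hY y hy y₀ hy₀, haq]
  -- the complement
  let C : (Fin 2 → F) → (Fin 2 → F) := fun y => y - A y • y₀
  have hCperp : ∀ y, hermForm 2 F q (C y) y₀ = 0 := by
    intro y
    simp only [C, A, hermForm_sub_left, hermForm_smul_left]
    field_simp
    ring
  have hCy0 : ∀ y, hermForm 2 F q y₀ (C y) = 0 := fun y => herm_zero_of_conj hF (hCperp y)
  have hdec : ∀ y, y = A y • y₀ + C y := by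
    intro y
    simp [C]
  -- the norm of a level vector
  have hnorm : ∀ y ∈ Y, hermForm 2 F q y y = a →
      hermForm 2 F q (C y) (C y) = a * (1 - A y * A y) := by
    intro y hy h
    have h1 : hermForm 2 F q y y = hermForm 2 F q (A y • y₀ + C y) (A y • y₀ + C y) := by
      rw [← hdec y]
    rw [h, hermForm_add_left, hermForm_add_right hF, hermForm_add_right hF, hermForm_smul_left,
      hermForm_smul_left, hermForm_smul_right, hermForm_smul_right, hCperp, hCy0, hAq y hy] at h1
    linear_combination -h1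
  -- the generator of the perpendicular line
  let w₀ : Fin 2 → F := ![- (y₀ 1) ^ q, (y₀ 0) ^ q]
  have hw₀ : hermForm 2 F q w₀ y₀ = 0 := by
    rw [herm2 hF]
    simp [w₀]
    ring
  have hw₀w₀ : hermForm 2 F q w₀ w₀ = a := by
    have e1 : hermForm 2 F q w₀ w₀ = (y₀ 1) ^ q * y₀ 1 + (y₀ 0) ^ q * y₀ 0 := by
      rw [herm2 hF]
      simp only [w₀, Matrix.cons_val_zero, Matrix.cons_val_one, Matrix.cons_val_fin_one, neg_pow_q hF, pow_pow_self hF]
      ring
    rw [e1, ha', herm2 hF]
    ring
  have hw₀0 : w₀ ≠ 0 := by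
    intro h
    rw [h, hermForm_zero_left] at hw₀w₀
    exact ha hw₀w₀.symm
  have hpar : ∀ y, ∃ c : F, C y = c • w₀ := fun y => prop2 hF hy₀0 (hCperp y) hw₀ hw₀0
  choose cc hcc using hpar
  have hCC : ∀ y, hermForm 2 F q (C y) (C y) = cc y * cc y ^ q * a := by
    intro y
    rw [hcc, hermForm_smul_left, hermForm_smul_right, hw₀w₀]
    ring
  -- reality of the mixed term
  have hreal : ∀ y ∈ Y, ∀ y' ∈ Y, (cc y * cc y' ^ q) ^ q = cc y * cc y' ^ q := by
    intro y hy y' hy'
    have h1 : hermForm 2 F q (C y) (C y') = cc y * cc y' ^ q * a := by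
      rw [hcc, hcc, hermForm_smul_left, hermForm_smul_right, hw₀w₀]
      ring
    have h2 : hermForm 2 F q (C y) (C y') ^ q = hermForm 2 F q (C y) (C y') := by
      have e : hermForm 2 F q (C y) (C y') = hermForm 2 F q y y' - A y' ^ q * hermForm 2 F q y y₀
          - A y * hermForm 2 F q y₀ y' + A y * A y' ^ q * a := by
        simp only [C, hermForm_sub_left, hermForm_sub_right hF, hermForm_smul_left, hermForm_smul_right]
        ring
      rw [e]
      simp only [add_pow_q hF, sub_pow_q hF, mul_pow, hY y hy y' hy', hY y hy y₀ hy₀, hY y₀ hy₀ y' hy',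
        haq, hAq y hy, hAq y' hy']
    rw [h1] at h2
    rw [mul_pow, haq] at h2
    exact mul_right_cancel₀ ha h2
  have hfib : ∀ y ∈ Y, ∀ y' ∈ Y, hermForm 2 F q y y = a → hermForm 2 F q y' y' = a → A y = A y' →
      y' = y ∨ y' = (2 * A y) • y₀ - y := by
    intro y hy y' hy' h h' hAA
    have hn := hnorm y hy h
    have hn' := hnorm y' hy' h'
    rw [← hAA, ← hn, hCC, hCC] at hn'
    have hN : cc y' * cc y' ^ q = cc y * cc y ^ q := mul_right_cancel₀ ha hn'
    have hC : cc y' = cc y ∨ cc y' = - cc y := by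
      by_cases hc0 : cc y = 0
      · left
        rw [hc0, zero_mul] at hN
        rcases mul_eq_zero.1 hN with h0 | h0
        · rw [h0, hc0]
        · rw [hc0]
          exact (pow_eq_zero_iff (by omega)).1 h0
      · have hmq : (cc y' / cc y) ^ q = cc y' / cc y := by
          have h1 := hreal y' hy' y hy
          rw [mul_pow, pow_pow_self hF] at h1
          have hcq : cc y ^ q ≠ 0 := pow_ne_zero _ hc0
          rw [div_pow]
          field_simp
          linear_combination h1
        have hm2 : (cc y' / cc y) * (cc y' / cc y) = 1 := by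
          have h1 : cc y' / cc y * (cc y' / cc y) ^ q = 1 := by
            rw [div_pow]
            have hcq : cc y ^ q ≠ 0 := pow_ne_zero _ hc0
            field_simp
            exact hN
          rwa [hmq] at h1
        have hm3 : (cc y' / cc y - 1) * (cc y' / cc y + 1) = 0 := by
          linear_combination hm2
        rcases mul_eq_zero.1 hm3 with h3 | h3
        · left
          have : cc y' / cc y = 1 := by linear_combination h3
          field_simp at this
          exact this
        · right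
          have : cc y' / cc y = -1 := by linear_combination h3
          field_simp at this
          exact this
    rcases hC with hC | hC
    · left
      rw [hdec y', hdec y, ← hAA, hcc, hcc, hC]
    · right
      have h5 := hdec y
      have h6 := hdec y'
      rw [hcc] at h5 h6
      rw [hC, ← hAA] at h6
      calc y' = A y • y₀ + (- cc y) • w₀ := h6
        _ = (2 * A y) • y₀ - (A y • y₀ + cc y • w₀) := by
            rw [two_mul, add_smul, neg_smul]
            abel
        _ = _ := by rw [← h5]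
  have hone : ∀ y ∈ Y, hermForm 2 F q y y = a → A y = 1 → y = y₀ := by
    intro y hy h hA
    have hn := hnorm y hy h
    rw [hA, hCC] at hn
    have h1 : cc y * cc y ^ q = 0 := by
      have : cc y * cc y ^ q * a = 0 := by rw [hn]; ring
      exact (mul_eq_zero.1 this).resolve_right ha
    have h2 : cc y = 0 := by
      rcases mul_eq_zero.1 h1 with h0 | h0
      · exact h0
      · exact (pow_eq_zero_iff (by omega)).1 h0
    rw [hdec y, hcc, h2, hA]
    simp
  -- the count
  let lvl : Finset (Fin 2 → F) := Finset.univ.filter (fun y => y ∈ Y ∧ hermForm 2 F q y y = a)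
  let T := lvl.erase y₀
  let G : Finset F := Finset.univ.filter (fun c => c ^ q = c ∧ c ≠ 1)
  have hy₀l : y₀ ∈ lvl := by
    simp [lvl, hy₀, ha']
  have hG : G.card + 1 ≤ q := by
    have h1 := Cfsg.Agent.Lib.HermLines.card_fixed hF
    rw [Nat.card_eq_fintype_card, Fintype.card_subtype] at h1
    rw [← h1, ← Finset.card_insert_of_notMem (a := (1 : F)) (s := G) (by simp [G])]
    apply Finset.card_le_card
    intro c hc
    rw [Finset.mem_insert] at hc
    rcases hc with rfl | hc
    · simp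
    · simp only [G, Finset.mem_filter, Finset.mem_univ, true_and] at hc
      simp [hc.1]
  have hT : T.card ≤ 2 * (T.image A).card := by
    apply Finset.card_le_mul_card_image
    intro c hc
    obtain ⟨y₁, hy₁, rfl⟩ := Finset.mem_image.1 hc
    have hy₁' := Finset.mem_of_mem_erase hy₁
    simp only [lvl, Finset.mem_filter, Finset.mem_univ, true_and] at hy₁'
    have hsub : (T.filter (fun x => A x = A y₁)) ⊆ {y₁, (2 * A y₁) • y₀ - y₁} := by
      intro y hy
      rw [Finset.mem_filter] at hy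
      have hy' := Finset.mem_of_mem_erase hy.1
      simp only [lvl, Finset.mem_filter, Finset.mem_univ, true_and] at hy'
      rcases hfib y₁ hy₁'.1 y hy'.1 hy₁'.2 hy'.2 hy.2.symm with h | h <;> simp [h]
    exact (Finset.card_le_card hsub).trans Finset.card_le_two
  have hTG : (T.image A).card ≤ G.card := by
    apply Finset.card_le_card
    intro c hc
    obtain ⟨y₁, hy₁, rfl⟩ := Finset.mem_image.1 hc
    have hne := Finset.ne_of_mem_erase hy₁
    have hy₁' := Finset.mem_of_mem_erase hy₁
    simp only [lvl, Finset.mem_filter, Finset.mem_univ, true_and] at hy₁'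
    simp only [G, Finset.mem_filter, Finset.mem_univ, true_and]
    exact ⟨hAq y₁ hy₁'.1, fun h => hne (hone y₁ hy₁'.1 hy₁'.2 h)⟩
  have hlvl : lvl.card = T.card + 1 := (Finset.card_erase_add_one hy₀l).symm
  have hcard : Nat.card {y : Y // hermForm 2 F q y.1 y.1 = a} ≤ lvl.card := by
    rw [← Nat.card_eq_finsetCard]
    refine Nat.card_le_card_of_injective (fun y => ⟨y.1.1, ?_⟩) ?_
    · simp only [lvl, Finset.mem_filter, Finset.mem_univ, true_and]
      exact ⟨y.1.2, y.2⟩
    · intro y y' h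
      apply Subtype.ext
      apply Subtype.ext
      exact congrArg (fun x : {x // x ∈ lvl} => x.1) h
  omega

end SU2

end Cfsg.Agent.Lib.PSUIdx
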