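import Mathlib
import Cfsg.Agent.Lib.CanonExt
import Cfsg.Agent.Lib.CharAut
import Cfsg.Agent.Lib.CharPow
import Cfsg.Agent.Lib.CharKernel
import Cfsg.Agent.Lib.CharValues
import Cfsg.Agent.Lib.FieldDegP

/-!
# Canonical extensions over a `p`-group and Galois invariance

If `H` is a `p'`-group on which a `p`-group `P` acts, then every `P`-invariant set of irreducible
characters of `H` yields a character of `P` whose values are invariant under all prime to `p` powers.
-/

set_option autoImplicit false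
set_option linter.style.haveILetI false
set_option linter.unusedVariables false
set_option linter.unusedSectionVars false

namespace Cfsg.Agent.Lib.PSolvFaith

open Cfsg Cfsg.Agent.Lib.CharBasic Cfsg.Agent.Lib.CharInd Cfsg.Agent.Lib.DetChar
open Cfsg.Agent.Lib.CanonExt Cfsg.Agent.Lib.CharKernel Cfsg.Agent.Lib.CharAut

universe u

section Det

variable {X : Type u} [Group X] [Finite X]

/-- The determinant of a power-twisted character. -/
theorem detChar_pow {χ η : X → ℂ} (hχ : IsCharacter X χ) (hη : IsCharacter X η) {k : ℕ}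
    (h : ∀ g, η g = χ (g ^ k)) (g : X) : detChar η g = detChar χ (g ^ k) := by
  let C : Subgroup X := Subgroup.zpowers g
  have hg : g ∈ C := Subgroup.mem_zpowers g
  have hcomm : ∀ a b : C, a * b = b * a := fun a b => by
    apply Subtype.ext
    obtain ⟨i, hi⟩ := a.2
    obtain ⟨j, hj⟩ := b.2
    show (a : X) * b = b * a
    rw [← hi, ← hj]
    exact (Commute.refl g).zpow_zpow i j
  let f : C →* C :=
    { toFun := fun c => c ^ k
      map_one' := one_pow k
      map_mul' := fun a b => (show Commute a b from hcomm a b).mul_pow k }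
  have h1 : detChar η g = detChar (fun x : C => η x) ⟨g, hg⟩ := (detChar_restrict C hη ⟨g, hg⟩).symm
  have h2 : (fun x : C => η x) = (fun x : C => χ x) ∘ f := by
    funext x
    simp only [Function.comp]
    rw [h]
    rfl
  have h3 := detChar_comp f (isCharacter_restrict C hχ) ⟨g, hg⟩
  have h4 : detChar (fun x : C => χ x) (f ⟨g, hg⟩) = detChar χ (g ^ k) :=
    detChar_restrict C hχ (f ⟨g, hg⟩)
  rw [h1, h2, h3, h4]

variable {p : ℕ} [hp : Fact p.Prime]

/-- **The canonical extension** over a normal subgroup of order prime to `p` and index a power of `p`. -/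
theorem exists_canon_ext (N : Subgroup X) (hN : N.Normal) {s : ℕ} (hidx : N.index = p ^ s)
    (hNp : ¬ p ∣ Nat.card N) {ϑ : N → ℂ} (hϑ : IsIrrCharacter N ϑ)
    (hinv : ∀ (g : X) (n : N), ϑ ⟨g * n * g⁻¹, hN.conj_mem (n : X) n.2 g⟩ = ϑ n) :
    ∃ χ : X → ℂ, IsIrrCharacter X χ ∧ (∀ n : N, χ n = ϑ n) ∧
      ∀ k : ℕ, (Nat.card X).Coprime k → k ≡ 1 [MOD Nat.card N] → ∀ x, χ (x ^ k) = χ x := by
  classical
  haveI := hN
  have hd : ϑ 1 = (charDegree ϑ : ℂ) := one_eq_charDegree (IsIrrCharacter.isCharacter hϑ)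
  have hpd : ¬ p ∣ charDegree ϑ := fun h => hNp (h.trans (charDegree_dvd_card hϑ))
  have hdetϑ : DetP' p ϑ := by
    refine ⟨Nat.card N, hNp, fun g => ?_⟩
    obtain ⟨D, hD⟩ := exists_detHom (IsIrrCharacter.isCharacter hϑ)
    rw [hD, ← Units.val_pow_eq_pow_val, ← map_pow, pow_card_eq_one']
    simp
  obtain ⟨χ, hχ, hres, hdet⟩ := exists_ext_detP' (p := p) s N hN hidx hϑ hinv hd hpd hdetϑ
  refine ⟨χ, hχ, hres, fun k hk hk1 x => ?_⟩
  letI : Fintype X := Fintype.ofFinite X
  have hχc := IsIrrCharacter.isCharacter hχ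
  have hη : IsIrrCharacter X (fun g => χ (g ^ k)) := CharPow.isIrr_pow hχ hk
  have hresf : (fun n : N => χ n) = ϑ := funext hres
  have hχN : IsIrrCharacter N (fun n : N => χ n) := by rw [hresf]; exact hϑ
  have hχ1 : χ 1 = (charDegree ϑ : ℂ) := by
    have := hres 1
    rw [← hd, ← this]
    rfl
  have hresη : ∀ n : N, χ ((n : X) ^ k) = χ n := by
    intro n
    have h1 : (n : X) ^ k = n := by
      have h2 : n ^ k = n := by
        have h3 : orderOf n ∣ Nat.card N := orderOf_dvd_natCard n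
        have h4 : k ≡ 1 [MOD orderOf n] := hk1.of_dvd h3
        have h5 : n ^ k = n ^ 1 := (pow_eq_pow_iff_modEq).mpr h4
        rwa [pow_one] at h5
      exact congrArg Subtype.val h2
    rw [h1]
  have hdetη : DetP' p (fun g => χ (g ^ k)) := by
    obtain ⟨m, hm, hdm⟩ := hdet
    refine ⟨m, hm, fun g => ?_⟩
    rw [detChar_pow hχc (IsIrrCharacter.isCharacter hη) (fun _ => rfl) g]
    exact hdm _
  have h := eq_of_detP' (p := p) N hidx hχ hχN hη hresη hχ1 hpd hdet hdetη
  exact congrFun h x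

end Det

section Semidirect

variable {H S : Type u} [Group H] [Group S] [Finite H] [Finite S] {p : ℕ} [hp : Fact p.Prime]

/-- **The function attached to an invariant character.**  If a `p`-group `S` acts on the `p'`-group
`H` and `θ ∈ Irr H` is `S`-invariant, there is a character `f` of `S` of degree `θ 1`, invariant under
prime to `p` powers, with kernel acting trivially modulo the kernel of `θ`. -/
theorem exists_invariant_char (ψ : S →* MulAut H) (hS : IsPGroup p S) (hH : ¬ p ∣ Nat.card H)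
    {θ : H → ℂ} (hθ : IsIrrCharacter H θ) (hinv : ∀ s h, θ (ψ s h) = θ h) :
    ∃ f : S → ℂ, IsCharacter S f ∧ f 1 = θ 1 ∧
      (∀ k : ℕ, k.Coprime (Nat.card S) → ∀ s, f (s ^ k) = f s) ∧
      ∀ s, f s = f 1 → ∀ h, θ (ψ s h * h⁻¹) = θ 1 := by
  classical
  let X := H ⋊[ψ] S
  haveI : Finite X := Finite.of_equiv _ SemidirectProduct.equivProd.symm
  let inl : H →* X := SemidirectProduct.inl
  let inr : S →* X := SemidirectProduct.inr
  have hinl : Function.Injective inl := SemidirectProduct.inl_injective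
  let N : Subgroup X := inl.range
  have hNker : N = (SemidirectProduct.rightHom : X →* S).ker :=
    SemidirectProduct.range_inl_eq_ker_rightHom
  have hNn : N.Normal := by rw [hNker]; infer_instance
  let eN : H ≃* N := MonoidHom.ofInjective hinl
  have heN : ∀ h, ((eN h : N) : X) = inl h := fun h => rfl
  let ϑ : N → ℂ := θ ∘ eN.symm.toMonoidHom
  have hϑ : IsIrrCharacter N ϑ := isIrrCharacter_comp_of_surjective _ eN.symm.surjective hθ
  have hϑv : ∀ h, ϑ (eN h) = θ h := fun h => by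
    simp [ϑ]
  obtain ⟨s₀, hs₀⟩ := IsPGroup.iff_card.mp hS
  have hidx : N.index = p ^ s₀ := by
    rw [hNker, Subgroup.index_ker, MonoidHom.range_eq_top.mpr SemidirectProduct.rightHom_surjective]
    rw [Subgroup.card_top, hs₀]
  have hNc : Nat.card N = Nat.card H := (Nat.card_congr eN.toEquiv).symm
  have hθcl := isClassFunction_of_isCharacter (IsIrrCharacter.isCharacter hθ)
  have hϑinv : ∀ (g : X) (n : N), ϑ ⟨g * n * g⁻¹, hNn.conj_mem (n : X) n.2 g⟩ = ϑ n := by
    intro g n
    obtain ⟨h, rfl⟩ := eN.surjective n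
    have e : (⟨g * ((eN h : N) : X) * g⁻¹, hNn.conj_mem _ (eN h).2 g⟩ : N) =
        eN (g.left * ψ g.right h * g.left⁻¹) := by
      apply Subtype.ext
      change g * inl h * g⁻¹ = inl (g.left * ψ g.right h * g.left⁻¹)
      conv_lhs => rw [← SemidirectProduct.inl_left_mul_inr_right g]
      rw [map_mul, map_mul, SemidirectProduct.inl_aut]
      simp only [mul_inv_rev, mul_assoc, inl, map_inv, inv_inv]
    rw [e, hϑv, hϑv]
    have h1 := hθcl (ψ g.right h) g.left
    rw [h1, hinv]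
  have hNp : ¬ p ∣ Nat.card N := by rwa [hNc]
  obtain ⟨χ, hχ, hres, hpow⟩ := exists_canon_ext (p := p) N hNn hidx hNp hϑ hϑinv
  have hχc := IsIrrCharacter.isCharacter hχ
  have hχl : ∀ h, χ (inl h) = θ h := fun h => by
    have := hres (eN h)
    rwa [hϑv] at this
  refine ⟨χ ∘ inr, isCharacter_comp inr hχc, ?_, ?_, ?_⟩
  · have h1 := hχl 1
    simp only [Function.comp, map_one] at h1 ⊢
    exact h1
  · intro k hk s
    have hcop : (Nat.card S).Coprime (Nat.card H) := by
      rw [hs₀]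
      exact Nat.Coprime.pow_left _ ((Nat.Prime.coprime_iff_not_dvd hp.out).mpr hH)
    let k' := Nat.chineseRemainder hcop k 1
    have hk'1 : (k' : ℕ) ≡ k [MOD Nat.card S] := k'.2.1
    have hk'2 : (k' : ℕ) ≡ 1 [MOD Nat.card H] := k'.2.2
    have hcX : (Nat.card X).Coprime (k' : ℕ) := by
      have hX : Nat.card X = Nat.card H * Nat.card S := SemidirectProduct.card
      rw [hX]
      refine Nat.Coprime.mul_left ?_ ?_
      · have := hk'2.gcd_eq
        rw [Nat.Coprime, Nat.gcd_comm, this]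
        simp
      · have := hk'1.gcd_eq
        rw [Nat.Coprime, Nat.gcd_comm, this]
        exact hk
    have h1 := hpow k' hcX (by rw [hNc]; exact hk'2) (inr s)
    have h2 : s ^ (k' : ℕ) = s ^ k := by
      rw [pow_eq_pow_iff_modEq]
      exact hk'1.of_dvd (orderOf_dvd_natCard s)
    simp only [Function.comp]
    rw [← h1, ← map_pow, h2]
  · intro s hs h
    simp only [Function.comp, map_one] at hs
    have h1 : inr s ∈ charKer hχc := (mem_charKer hχc).mpr hs
    have h2 : inr s * inl h * (inr s)⁻¹ * (inl h)⁻¹ ∈ charKer hχc := by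
      have h3 := (charKer_normal hχc).conj_mem _ h1 (inl h)
      have h4 := (charKer hχc).mul_mem h1 ((charKer hχc).inv_mem h3)
      have e : inr s * inl h * (inr s)⁻¹ * (inl h)⁻¹ = inr s * (inl h * inr s * (inl h)⁻¹)⁻¹ := by
        rw [mul_inv_rev, mul_inv_rev, inv_inv, mul_assoc, mul_assoc]
      rw [e]
      exact h4
    have h3 := (mem_charKer hχc).mp h2
    have h5 : inr s * inl h * (inr s)⁻¹ * (inl h)⁻¹ = inl (ψ s h * h⁻¹) := by
      rw [map_mul, map_inv]
      congr 1
      have h6 := SemidirectProduct.inl_aut (φ := ψ) s h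
      simp only [inl, inr, map_inv] at h6 ⊢
      exact h6.symm
    rw [h5, hχl] at h3
    rw [h3, ← hχl 1, map_one]

end Semidirect

section Norm

/-- A sum of complex numbers bounded by real numbers which attains the sum of the bounds. -/
theorem eq_of_sum_eq_of_norm_le {ι : Type*} (s : Finset ι) (z : ι → ℂ) (c : ι → ℝ)
    (hz : ∀ i ∈ s, ‖z i‖ ≤ c i) (h : ∑ i ∈ s, z i = ∑ i ∈ s, (c i : ℂ)) : ∀ i ∈ s, z i = c i := by
  have hre := congrArg Complex.re h
  simp only [Complex.re_sum, Complex.ofReal_re] at hre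
  have h0 : ∑ i ∈ s, (c i - (z i).re) = 0 := by rw [Finset.sum_sub_distrib, hre, sub_self]
  have hnn : ∀ i ∈ s, 0 ≤ c i - (z i).re := fun i hi =>
    sub_nonneg.mpr ((Complex.re_le_norm _).trans (hz i hi))
  have h1 := (Finset.sum_eq_zero_iff_of_nonneg hnn).mp h0
  intro i hi
  have hr : (z i).re = c i := by linarith [h1 i hi]
  have hn : ‖z i‖ = c i := le_antisymm (hz i hi) (by rw [← hr]; exact Complex.re_le_norm _)
  apply Complex.ext
  · simpa using hr
  · have h5 := Complex.sq_norm_sub_sq_re (z i)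
    rw [hn, hr] at h5
    have h6 : (z i).im = 0 := by
      have : (z i).im ^ 2 = 0 := by nlinarith
      exact pow_eq_zero_iff two_ne_zero |>.mp this
    simp [h6]

variable {G : Type u} [Group G] [Finite G]

/-- Characters are bounded by their degree. -/
theorem norm_char_le {χ : G → ℂ} (hχ : IsCharacter G χ) (g : G) : ‖χ g‖ ≤ (charDegree χ : ℝ) := by
  obtain ⟨n, ρ, rfl⟩ := hχ
  have h1 := Cfsg.Agent.Lib.CharValues.norm_character_le ρ g
  rw [Module.finrank_fin_fun] at h1
  have h2 : charDegree ρ.character = n := by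
    rw [charDegree, char_one_eq_rep]
    simp
  rwa [h2]

/-- The kernel of a sum of two characters. -/
theorem ker_of_add {χ ψ : G → ℂ} (hχ : IsCharacter G χ) (hψ : IsCharacter G ψ) {y : G}
    (h : χ y + ψ y = χ 1 + ψ 1) : χ y = χ 1 ∧ ψ y = ψ 1 := by
  have h1 := eq_of_sum_eq_of_norm_le (Finset.univ : Finset (Fin 2)) ![χ y, ψ y]
    ![(charDegree χ : ℝ), (charDegree ψ : ℝ)] (by
      intro i _
      fin_cases i
      · exact norm_char_le hχ y
      · exact norm_char_le hψ y) (by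
      rw [Fin.sum_univ_two, Fin.sum_univ_two]
      simp only [Matrix.cons_val_zero, Matrix.cons_val_one, Complex.ofReal_natCast]
      rw [h, one_eq_charDegree hχ, one_eq_charDegree hψ])
  have h2 := h1 0 (Finset.mem_univ _)
  have h3 := h1 1 (Finset.mem_univ _)
  simp only [Matrix.cons_val_zero, Matrix.cons_val_one, Complex.ofReal_natCast] at h2 h3
  rw [one_eq_charDegree hχ, one_eq_charDegree hψ]
  exact ⟨h2, h3⟩

/-- The kernel of an induced character. -/
theorem ker_of_ind [Fintype G] {S : Subgroup G} {f : S → ℂ} (hf : IsCharacter S f) (hf1 : f 1 ≠ 0)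
    {y : G} (h : indFun S f y = indFun S f 1) (x : G) :
    ∃ hx : x⁻¹ * y * x ∈ S, f ⟨x⁻¹ * y * x, hx⟩ = f 1 := by
  classical
  have hbd : ∀ a : G, ‖extendByZero S f a‖ ≤ (charDegree f : ℝ) := by
    intro a
    by_cases ha : a ∈ S
    · rw [extendByZero_of_mem S f ha]
      exact norm_char_le hf _
    · rw [extendByZero_of_not_mem S f ha]
      simp
  have hS : ((Nat.card S : ℕ) : ℂ)⁻¹ ≠ 0 := inv_ne_zero (natCard_subgroup_ne_zero S)
  rw [indFun_apply, indFun_apply] at h
  have h1 := mul_left_cancel₀ hS h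
  have h2 : ∀ x : G, extendByZero S f (x⁻¹ * 1 * x) = ((charDegree f : ℝ) : ℂ) := by
    intro x
    have : x⁻¹ * 1 * x = 1 := by group
    rw [this, extendByZero_of_mem S f S.one_mem]
    simp only [Complex.ofReal_natCast]
    exact one_eq_charDegree hf
  simp only [h2] at h1
  have h3 := eq_of_sum_eq_of_norm_le Finset.univ (fun x : G => extendByZero S f (x⁻¹ * y * x))
    (fun _ => (charDegree f : ℝ)) (fun x _ => hbd _) h1 x (Finset.mem_univ x)
  simp only [Complex.ofReal_natCast] at h3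
  by_cases hx : x⁻¹ * y * x ∈ S
  · refine ⟨hx, ?_⟩
    rw [extendByZero_of_mem S f hx] at h3
    rw [h3, one_eq_charDegree hf]
  · exfalso
    rw [extendByZero_of_not_mem S f hx] at h3
    apply hf1
    rw [one_eq_charDegree hf, ← h3]

end Norm

section Orbit

variable {H P : Type u} [Group H] [Group P] [Finite H] [Finite P] {p : ℕ} [hp : Fact p.Prime]

/-- The action on the irreducible characters. -/
@[instance_reducible] noncomputable def act (φ : P →* MulAut H) : MulAction P (IrrCharacter H) where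
  smul y θ := irrAut (φ y) θ
  one_smul θ := by
    show irrAut (φ 1) θ = θ
    rw [map_one, irrAut_one]
  mul_smul a b θ := by
    show irrAut (φ (a * b)) θ = irrAut (φ a) (irrAut (φ b) θ)
    rw [map_mul, irrAut_mul]

/-- The values of a translate. -/
theorem irrAut_inv_apply (φ : P →* MulAut H) (x : P) (θ : IrrCharacter H) (h : H) :
    (irrAut (φ x) θ : H → ℂ) h = (θ : H → ℂ) (φ x⁻¹ h) := by
  rw [irrAut_apply, map_inv]
  rfl

/-- The character attached to a `P`-orbit on `Irr H`. -/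
theorem exists_orbit_char (φ : P →* MulAut H) (hP : IsPGroup p P) (hH : ¬ p ∣ Nat.card H)
    (θ : IrrCharacter H) (O : Finset (IrrCharacter H)) (hO : ∀ θ', θ' ∈ O ↔ ∃ y : P, irrAut (φ y) θ = θ') :
    ∃ τ : P → ℂ, IsCharacter P τ ∧ τ 1 = ∑ θ' ∈ O, (θ' : H → ℂ) 1 ∧
      (∀ k : ℕ, k.Coprime (Nat.card P) → ∀ g, τ (g ^ k) = τ g) ∧
      ∀ y, τ y = τ 1 → ∀ θ' ∈ O, ∀ h, (θ' : H → ℂ) (φ y h * h⁻¹) = (θ' : H → ℂ) 1 := by
  classical
  letI := act φ
  letI : Fintype P := Fintype.ofFinite P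
  let S : Subgroup P := MulAction.stabilizer P θ
  have hmemS : ∀ y : P, y ∈ S ↔ irrAut (φ y) θ = θ := fun y => Iff.rfl
  let ψ : S →* MulAut H := φ.comp S.subtype
  have hSp : IsPGroup p S := hP.to_subgroup S
  have hinv : ∀ (s : S) (h : H), (θ : H → ℂ) (ψ s h) = (θ : H → ℂ) h := by
    intro s h
    have h1 := congrArg (fun t : IrrCharacter H => (t : H → ℂ) (φ s h)) ((hmemS s).mp s.2)
    simp only [irrAut_apply] at h1
    rw [MulEquiv.symm_apply_apply] at h1
    exact h1.symm
  obtain ⟨f, hf, hf1, hfk, hfker⟩ := exists_invariant_char (p := p) ψ hSp hH θ.2 hinv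
  have hθ1 : (θ : H → ℂ) 1 ≠ 0 := by
    rw [one_eq_charDegree (IsIrrCharacter.isCharacter θ.2)]
    exact_mod_cast charDegree_ne_zero θ.2
  have hO1 : ∀ θ' ∈ O, (θ' : H → ℂ) 1 = (θ : H → ℂ) 1 := by
    intro θ' hθ'
    obtain ⟨y, rfl⟩ := (hO θ').mp hθ'
    rw [irrAut_apply, map_one]
  have hOcard : O.card = S.index := by
    rw [MulAction.index_stabilizer]
    have : MulAction.orbit P θ = (O : Set (IrrCharacter H)) := by
      ext θ'
      rw [Finset.mem_coe, hO]
      rfl
    rw [this, Set.ncard_coe_finset]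
  refine ⟨indFun S f, indFun_isCharacter S hf, ?_, ?_, ?_⟩
  · rw [indFun_one, hf1, Finset.sum_congr rfl hO1, Finset.sum_const, hOcard, nsmul_eq_mul]
  · intro k hk g
    have h1 := Cfsg.Agent.Lib.FieldDegP.ind_pow_eq S f (k := k) hk.symm g
    rw [← h1]
    congr 1
    funext s
    apply hfk
    exact Nat.Coprime.coprime_dvd_right (Subgroup.card_subgroup_dvd_card S) hk
  · intro y hy θ' hθ' h
    obtain ⟨x, rfl⟩ := (hO θ').mp hθ'
    have hf10 : f 1 ≠ 0 := by rw [hf1]; exact hθ1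
    obtain ⟨hx, hxf⟩ := ker_of_ind hf hf10 hy x
    have h2 := hfker ⟨x⁻¹ * y * x, hx⟩ hxf (φ x⁻¹ h)
    have h3 : ψ ⟨x⁻¹ * y * x, hx⟩ (φ x⁻¹ h) = φ x⁻¹ (φ y h) := by
      show φ (x⁻¹ * y * x) (φ x⁻¹ h) = φ x⁻¹ (φ y h)
      have h4 : φ (x⁻¹ * y * x) * φ x⁻¹ = φ x⁻¹ * φ y := by
        rw [← map_mul, ← map_mul]
        congr 1
        group
      exact DFunLike.congr_fun h4 h
    rw [h3] at h2
    rw [irrAut_inv_apply, irrAut_inv_apply, map_mul (φ x⁻¹), map_inv (φ x⁻¹), map_one (φ x⁻¹)]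
    exact h2

/-- **The character attached to a `P`-invariant set of irreducible characters of `H`.** -/
theorem exists_invariant_tau (φ : P →* MulAut H) (hP : IsPGroup p P) (hH : ¬ p ∣ Nat.card H)
    (Ω : Finset (IrrCharacter H)) (hΩ : ∀ y : P, ∀ θ ∈ Ω, irrAut (φ y) θ ∈ Ω) :
    ∃ τ : P → ℂ, IsCharacter P τ ∧ τ 1 = ∑ θ ∈ Ω, (θ : H → ℂ) 1 ∧
      (∀ k : ℕ, k.Coprime (Nat.card P) → ∀ g, τ (g ^ k) = τ g) ∧
      ∀ y, τ y = τ 1 → ∀ θ ∈ Ω, ∀ h, (θ : H → ℂ) (φ y h * h⁻¹) = (θ : H → ℂ) 1 := by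
  classical
  induction Ω using Finset.strongInduction with
  | H Ω ih =>
    rcases Ω.eq_empty_or_nonempty with rfl | ⟨θ, hθ⟩
    · refine ⟨0, isCharacter_zero, by simp, by simp, by simp⟩
    · letI : Fintype (IrrCharacter H) := Fintype.ofFinite _
      let O : Finset (IrrCharacter H) := Finset.univ.filter fun θ' => ∃ y : P, irrAut (φ y) θ = θ'
      have hO : ∀ θ', θ' ∈ O ↔ ∃ y : P, irrAut (φ y) θ = θ' := fun θ' => by simp [O]
      have hOΩ : O ⊆ Ω := by
        intro θ' hθ'
        obtain ⟨y, rfl⟩ := (hO θ').mp hθ'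
        exact hΩ y θ hθ
      have hθO : θ ∈ O := (hO θ).mpr ⟨1, by rw [map_one, irrAut_one]⟩
      have hss : Ω \ O ⊂ Ω := by
        refine Finset.ssubset_iff_subset_ne.mpr ⟨Finset.sdiff_subset, fun he => ?_⟩
        have h1 : θ ∈ Ω \ O := by rw [he]; exact hθ
        exact (Finset.mem_sdiff.mp h1).2 hθO
      have hinv' : ∀ y : P, ∀ θ' ∈ Ω \ O, irrAut (φ y) θ' ∈ Ω \ O := by
        intro y θ' hθ'
        rw [Finset.mem_sdiff] at hθ' ⊢
        refine ⟨hΩ y θ' hθ'.1, fun hc => hθ'.2 ?_⟩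
        obtain ⟨x, hx⟩ := (hO _).mp hc
        refine (hO _).mpr ⟨y⁻¹ * x, ?_⟩
        rw [map_mul, irrAut_mul, hx, ← irrAut_mul, ← map_mul, inv_mul_cancel, map_one, irrAut_one]
      obtain ⟨τ₁, hτ₁, h₁1, h₁k, h₁ker⟩ := exists_orbit_char φ hP hH θ O hO
      obtain ⟨τ₂, hτ₂, h₂1, h₂k, h₂ker⟩ := ih (Ω \ O) hss hinv'
      refine ⟨τ₁ + τ₂, isCharacter_add hτ₁ hτ₂, ?_, ?_, ?_⟩
      · rw [Pi.add_apply, h₁1, h₂1, add_comm, Finset.sum_sdiff hOΩ]
      · intro k hk g
        rw [Pi.add_apply, Pi.add_apply, h₁k k hk, h₂k k hk]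
      · intro y hy θ' hθ' h
        obtain ⟨h1, h2⟩ := ker_of_add hτ₁ hτ₂ hy
        by_cases hc : θ' ∈ O
        · exact h₁ker y h1 θ' hc h
        · exact h₂ker y h2 θ' (Finset.mem_sdiff.mpr ⟨hθ', hc⟩) h

end Orbit

end Cfsg.Agent.Lib.PSolvFaith
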