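import Mathlib
import Cfsg.Agent.Lib.SpSpecMain
import Cfsg.Agent.Lib.SpOrder
import Cfsg.Agent.S2469
import Cfsg.Agent.S2472

/-!
# The prime graph of `PSp₆(3)`
-/

set_option autoImplicit false

namespace Cfsg.Agent.Lib.PSp63

open Polynomial Finset
open Cfsg.Agent.Lib.SpBasic Cfsg.Agent.Lib.SpCenter Cfsg.Agent.Lib.SpSpec

variable {F : Type*} [Field F] [Fintype F]

instance : Fact (Nat.Prime 3) := ⟨by norm_num⟩

theorem charP3 (hF : Fintype.card F = 3) : CharP F 3 := charP_of_card_eq_prime hF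

theorem two_ne (hF : Fintype.card F = 3) : (2 : F) ≠ 0 := by
  haveI := charP3 hF
  intro h
  have h1 : ((2 : ℕ) : F) = 0 := by exact_mod_cast h
  have h2 := (CharP.cast_eq_zero_iff F 3 2).mp h1
  omega

/-- The order of the group. -/
theorem card_PSp (hF : Fintype.card F = 3) : Nat.card (Cfsg.PSp 3 F) = 4585351680 := by
  have h1 := Subgroup.card_eq_card_quotient_mul_card_subgroup
    (Subgroup.center (Matrix.symplecticGroup (Fin 3) F))
  have h2 := Cfsg.Agent.Lib.SpOrder.card_Sp (F := F) 3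
  have h3 : Nat.card (Subgroup.center (Matrix.symplecticGroup (Fin 3) F)) = 2 := by
    have := card_center (l := Fin 3) (F := F)
    rw [hF] at this
    simpa using this
  rw [hF] at h2
  simp only [Finset.prod_range_succ, Finset.prod_range_zero] at h2
  norm_num at h2
  rw [h3] at h1
  have h4 : Nat.card (Matrix.symplecticGroup (Fin 3) F) = 9170703360 := h2
  rw [h4] at h1
  show Nat.card (_ ⧸ _) = _
  omega

theorem prime_dvd_iff (hF : Fintype.card F = 3) {p : ℕ} (hp : p.Prime) :
    p ∣ Nat.card (Cfsg.PSp 3 F) ↔ p = 2 ∨ p = 3 ∨ p = 5 ∨ p = 7 ∨ p = 13 := by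
  rw [card_PSp hF, show 4585351680 = 2 ^ 9 * 3 ^ 9 * 5 * 7 * 13 by norm_num]
  have h2 : ∀ q : ℕ, q.Prime → (p ∣ q ↔ p = q) := fun q hq => Nat.prime_dvd_prime_iff_eq hp hq
  simp only [hp.dvd_mul]
  constructor
  · rintro ((((h | h) | h) | h) | h)
    · exact Or.inl (((h2 2 (by norm_num)).mp (hp.dvd_of_dvd_pow h)))
    · exact Or.inr (Or.inl ((h2 3 (by norm_num)).mp (hp.dvd_of_dvd_pow h)))
    · exact Or.inr (Or.inr (Or.inl ((h2 5 (by norm_num)).mp h)))
    · exact Or.inr (Or.inr (Or.inr (Or.inl ((h2 7 (by norm_num)).mp h))))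
    · exact Or.inr (Or.inr (Or.inr (Or.inr ((h2 13 (by norm_num)).mp h))))
  · rintro (rfl | rfl | rfl | rfl | rfl)
    · exact Or.inl (Or.inl (Or.inl (Or.inl (dvd_pow_self _ (by norm_num)))))
    · exact Or.inl (Or.inl (Or.inl (Or.inr (dvd_pow_self _ (by norm_num)))))
    · exact Or.inl (Or.inl (Or.inr dvd_rfl))
    · exact Or.inl (Or.inr dvd_rfl)
    · exact Or.inr dvd_rfl

theorem ord5 : orderOf ((3 : ℕ) : ZMod 5) = 4 := by
  rw [orderOf_eq_iff (by norm_num)]
  decide

theorem ord7 : orderOf ((3 : ℕ) : ZMod 7) = 6 := by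
  rw [orderOf_eq_iff (by norm_num)]
  decide

theorem ord13 : orderOf ((3 : ℕ) : ZMod 13) = 3 := by
  rw [orderOf_eq_iff (by norm_num)]
  decide

/-- Non-existence and existence for the characteristic. -/
theorem mem15 (hF : Fintype.card F = 3) : (15 : ℕ) ∈ Set.range (orderOf : Cfsg.PSp 3 F → ℕ) := by
  haveI := charP3 hF
  have h := Cfsg.Agent.S2472.result (F := F) 3 3 (by norm_num) (by norm_num) 5 (by norm_num) (by norm_num) (by norm_num)
    ((prime_dvd_iff hF (by norm_num)).mpr (by norm_num)) 4 2 (by rw [hF, ord5]) (Or.inr ⟨by decide, by norm_num⟩)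
  by_contra hc
  have := h.mp hc
  omega

theorem not21 (hF : Fintype.card F = 3) : (21 : ℕ) ∉ Set.range (orderOf : Cfsg.PSp 3 F → ℕ) := by
  haveI := charP3 hF
  have h := Cfsg.Agent.S2472.result (F := F) 3 3 (by norm_num) (by norm_num) 7 (by norm_num) (by norm_num) (by norm_num)
    ((prime_dvd_iff hF (by norm_num)).mpr (by norm_num)) 6 3 (by rw [hF, ord7]) (Or.inr ⟨by decide, by norm_num⟩)
  exact h.mpr (by norm_num)

theorem not39 (hF : Fintype.card F = 3) : (39 : ℕ) ∉ Set.range (orderOf : Cfsg.PSp 3 F → ℕ) := by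
  haveI := charP3 hF
  have h := Cfsg.Agent.S2472.result (F := F) 3 3 (by norm_num) (by norm_num) 13 (by norm_num) (by norm_num) (by norm_num)
    ((prime_dvd_iff hF (by norm_num)).mpr (by norm_num)) 3 3 (by rw [hF, ord13]) (Or.inl ⟨by decide, rfl⟩)
  exact h.mpr (by norm_num)

theorem not35 (hF : Fintype.card F = 3) : (35 : ℕ) ∉ Set.range (orderOf : Cfsg.PSp 3 F → ℕ) := by
  haveI := charP3 hF
  have h := Cfsg.Agent.S2469.result (F := F) 3 3 (by norm_num) (by norm_num) 5 7 (by norm_num) (by norm_num) (by norm_num) (by norm_num)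
    (by norm_num) (by norm_num) (by norm_num)
    ((prime_dvd_iff hF (by norm_num)).mpr (by norm_num)) ((prime_dvd_iff hF (by norm_num)).mpr (by norm_num))
    4 6 2 3 (by rw [hF, ord5]) (by rw [hF, ord7]) (Or.inr ⟨by decide, by norm_num⟩) (Or.inr ⟨by decide, by norm_num⟩) (by norm_num)
  refine h.mpr ⟨by norm_num, ?_⟩
  rintro ⟨t, -, ht⟩
  omega

theorem not65 (hF : Fintype.card F = 3) : (65 : ℕ) ∉ Set.range (orderOf : Cfsg.PSp 3 F → ℕ) := by
  haveI := charP3 hF
  have h := Cfsg.Agent.S2469.result (F := F) 3 3 (by norm_num) (by norm_num) 5 13 (by norm_num) (by norm_num) (by norm_num) (by norm_num)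
    (by norm_num) (by norm_num) (by norm_num)
    ((prime_dvd_iff hF (by norm_num)).mpr (by norm_num)) ((prime_dvd_iff hF (by norm_num)).mpr (by norm_num))
    4 3 2 3 (by rw [hF, ord5]) (by rw [hF, ord13]) (Or.inr ⟨by decide, by norm_num⟩) (Or.inl ⟨by decide, rfl⟩) (by norm_num)
  refine h.mpr ⟨by norm_num, ?_⟩
  rintro ⟨t, -, ht⟩
  omega

theorem not91 (hF : Fintype.card F = 3) : (91 : ℕ) ∉ Set.range (orderOf : Cfsg.PSp 3 F → ℕ) := by
  haveI := charP3 hF
  have h := Cfsg.Agent.S2469.result (F := F) 3 3 (by norm_num) (by norm_num) 7 13 (by norm_num) (by norm_num) (by norm_num) (by norm_num)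
    (by norm_num) (by norm_num) (by norm_num)
    ((prime_dvd_iff hF (by norm_num)).mpr (by norm_num)) ((prime_dvd_iff hF (by norm_num)).mpr (by norm_num))
    6 3 3 3 (by rw [hF, ord7]) (by rw [hF, ord13]) (Or.inr ⟨by decide, by norm_num⟩) (Or.inl ⟨by decide, rfl⟩) (by norm_num)
  refine h.mpr ⟨by norm_num, ?_⟩
  rintro ⟨t, -, ht⟩
  omega

theorem mem6 (hF : Fintype.card F = 3) : (6 : ℕ) ∈ Set.range (orderOf : Cfsg.PSp 3 F → ℕ) := by
  haveI := charP3 hF
  have h1 : 3 ^ 1 ∈ Om 3 F := by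
    rw [pow_one]
    exact mem_Om_mono (transvection_mem (F := F) 3) (by norm_num)
  have h := double_unip (F := F) 3 (two_ne hF) (by decide) (n := 3) (α := 1) (by norm_num) h1 (by norm_num)
  simpa using h

theorem mem10 (hF : Fintype.card F = 3) : (10 : ℕ) ∈ Set.range (orderOf : Cfsg.PSp 3 F → ℕ) := by
  haveI := charP3 hF
  have h1 : 5 ∈ Om 2 F := torus_mem (F := F) 3 (by norm_num) (Or.inl (by rw [hF]; norm_num))
  have h2 : 5 ∈ Om 3 F := mem_Om_mono h1 (by norm_num)
  rcases double_ss (F := F) 3 (two_ne hF) (n := 3) (by norm_num) (by decide) (by norm_num) h2 with h | h | h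
  · simpa using h
  · rw [hF] at h; norm_num at h
  · rw [hF] at h; norm_num at h

theorem mem14 (hF : Fintype.card F = 3) : (14 : ℕ) ∈ Set.range (orderOf : Cfsg.PSp 3 F → ℕ) := by
  haveI := charP3 hF
  have h1 : 28 ∈ Om 3 F := torus_mem (F := F) 3 (by norm_num) (Or.inl (by rw [hF]; norm_num))
  obtain ⟨y, hy⟩ := h1
  set x := projSp 3 F y with hx
  have h2 : x ^ 28 = 1 := by
    rw [hx, ← map_pow, ← hy, pow_orderOf_eq_one, map_one]
  have h3 : orderOf x ∣ 28 := orderOf_dvd_of_pow_eq_one h2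
  have h4 : 14 ∣ orderOf x := by
    have h5 : x ^ orderOf x = 1 := pow_orderOf_eq_one x
    rw [hx, ← map_pow, projSp_eq_one_iff] at h5
    have h6 : y ^ (2 * orderOf (projSp 3 F y)) = 1 := by
      rw [mul_comm, pow_mul]
      rcases h5 with h5 | h5
      · rw [h5, one_pow]
      · rw [h5, pow_two, negOne_sq]
    have h7 := orderOf_dvd_of_pow_eq_one h6
    rw [hy] at h7
    rw [hx]
    omega
  obtain ⟨c, hc⟩ := h3
  obtain ⟨d, hd⟩ := h4
  have hd0 : d = 1 ∨ d = 2 := by
    have : d * c = 2 := by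
      rw [hd] at hc
      have : 14 * (d * c) = 14 * 2 := by rw [← mul_assoc]; omega
      omega
    have hdd : d ∣ 2 := ⟨c, this.symm⟩
    exact (Nat.dvd_prime (by norm_num)).mp hdd
  rcases hd0 with rfl | rfl
  · exact ⟨x, by rw [hd]⟩
  · refine ⟨x ^ 2, ?_⟩
    rw [orderOf_pow, hd]
    norm_num

/-- There is no element of order `26`. -/
theorem not26 (hF : Fintype.card F = 3) : (26 : ℕ) ∉ Set.range (orderOf : Cfsg.PSp 3 F → ℕ) := by
  classical
  haveI := charP3 hF
  rintro ⟨x, hx⟩
  obtain ⟨y, rfl⟩ := projSp_surjective 3 x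
  set A : Matrix (Fin 3 ⊕ Fin 3) (Fin 3 ⊕ Fin 3) F := y.1 with hA
  set N := orderOf y with hN
  have h26 : 26 ∣ N := hx ▸ orderOf_map_dvd _ _
  have h52 : N ∣ 52 := by
    apply orderOf_dvd_of_pow_eq_one
    have h5 : projSp 3 F y ^ 26 = 1 := by
      rw [← hx, pow_orderOf_eq_one]
    rw [← map_pow, projSp_eq_one_iff] at h5
    rw [show 52 = 26 * 2 by norm_num, pow_mul]
    rcases h5 with h5 | h5
    · rw [h5, one_pow]
    · rw [h5, pow_two, negOne_sq]
  have hN0 : N ≠ 0 := by
    intro h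
    rw [h] at h52
    simp at h52
  have hcop : Nat.Coprime N 3 := Nat.Coprime.coprime_dvd_left h52 (by norm_num)
  have hordA : ∀ n, A ^ n = 1 ↔ N * 3 ^ 0 ∣ n := by
    intro n
    rw [pow_zero, mul_one, hN, orderOf_dvd_iff_pow_eq_one]
    constructor
    · intro h
      exact Subtype.ext h
    · intro h
      have := congrArg Subtype.val h
      exact this
  obtain ⟨h1, h2, -⟩ := eigen_decomp 3 A N 0 hcop hN0 hordA
  set s := (chi A).roots with hs
  have hpos : ∀ η, η ∈ s ↔ 0 < rootMultiplicity η (chi A) := by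
    intro η
    rw [hs, ← count_roots, Multiset.count_pos]
  have h52' : ∀ η ∈ s, η ^ 52 = 1 := by
    intro η hη
    obtain ⟨c, hc⟩ := h52
    rw [hc, pow_mul, h1 η hη, one_pow]
  have hfrob : ∀ η ∈ s, η ^ 3 ∈ s := by
    intro η hη
    rw [hpos] at hη ⊢
    have := mult_frob A η
    rw [hF] at this
    rwa [this]
  have hform : A.transpose * Matrix.J (Fin 3) F * A = Matrix.J (Fin 3) F :=
    SymplecticGroup.mem_iff'.mp y.2
  have hinv : ∀ η ∈ s, η ^ 51 ∈ s := by
    intro η hη
    have hη0 : η ≠ 0 := ne_zero_of_pow_eq_one (by norm_num) (h52' η hη)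
    have h3 : η ^ 51 = η⁻¹ := by
      apply eq_inv_of_mul_eq_one_left
      rw [← pow_succ]
      exact h52' η hη
    rw [h3]
    rw [hpos] at hη ⊢
    rwa [mult_inv_of_form A _ (isUnit_J 3) hform η hη0]
  have hcard : Multiset.card s = 6 := by
    rw [hs, chi_card_roots]
    simp
  have hRle : s.toFinset.card ≤ 6 := by
    rw [← hcard]
    exact Multiset.toFinset_card_le s
  -- a root of large order
  obtain ⟨ω, hω, hω4⟩ : ∃ ω ∈ s, ω ^ 4 ≠ 1 := by
    by_contra hcon
    push Not at hcon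
    have h4 := h2 4 hcon
    have : 26 ∣ 4 := h26.trans h4
    omega
  have hE : ∀ i j : ℕ, ω ^ (3 ^ i * 51 ^ j) ∈ s := by
    intro i j
    induction i with
    | zero =>
      induction j with
      | zero => simpa using hω
      | succ j ih =>
        have := hinv _ ih
        rw [← pow_mul] at this
        have e : 3 ^ 0 * 51 ^ (j + 1) = 3 ^ 0 * 51 ^ j * 51 := by ring
        rwa [e]
    | succ i ih =>
      have := hfrob _ ih
      rw [← pow_mul] at this
      have e : 3 ^ (i + 1) * 51 ^ j = 3 ^ i * 51 ^ j * 3 := by ring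
      rwa [e]
  have hω52 := h52' ω hω
  set o := orderOf ω with ho
  have ho52 : o ∣ 52 := orderOf_dvd_of_pow_eq_one hω52
  have ho4 : ¬ o ∣ 4 := by
    intro h
    exact hω4 (orderOf_dvd_iff_pow_eq_one.mp h)
  have hmod := fun a b => pow_eq_pow_iff_modEq' (K := AlgebraicClosure F) (a := 52) (by norm_num) hω52 a b
  have hocases : o = 52 ∨ o = 13 ∨ o = 26 := by
    have h3 : o ∈ Nat.divisors 52 := Nat.mem_divisors.mpr ⟨ho52, by norm_num⟩
    have e : Nat.divisors 52 = {1, 2, 4, 13, 26, 52} := by decide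
    rw [e] at h3
    simp only [Finset.mem_insert, Finset.mem_singleton] at h3
    rcases h3 with h | h | h | h | h | h
    · exact absurd (h ▸ one_dvd 4) ho4
    · exact absurd (h ▸ (by norm_num : 2 ∣ 4)) ho4
    · exact absurd (h ▸ dvd_rfl) ho4
    · exact Or.inr (Or.inl h)
    · exact Or.inr (Or.inr h)
    · exact Or.inl h
  rcases hocases with ho52' | ho13
  · -- twelve roots
    have hinj : ∀ p q : Fin 6 × Fin 2, (3 ^ p.1.1 * 51 ^ p.2.1) ≡ (3 ^ q.1.1 * 51 ^ q.2.1) [MOD 52] → p = q := by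
      decide
    have hle : (Finset.univ : Finset (Fin 6 × Fin 2)).card ≤ s.toFinset.card := by
      apply Finset.card_le_card_of_injOn (fun p => ω ^ (3 ^ p.1.1 * 51 ^ p.2.1))
      · intro p _
        exact Multiset.mem_toFinset.mpr (hE _ _)
      · intro p _ q _ h
        apply hinj
        have := (hmod _ _).mp h
        rwa [← ho, ho52'] at this
    simp at hle
    omega
  · -- six roots
    have hinj : ∀ p q : Fin 3 × Fin 2, (3 ^ p.1.1 * 51 ^ p.2.1) ≡ (3 ^ q.1.1 * 51 ^ q.2.1) [MOD 13] → p = q := by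
      decide
    have hmod13 : ∀ a b : ℕ, a ≡ b [MOD o] → a ≡ b [MOD 13] := by
      intro a b h
      rcases ho13 with h0 | h0
      · rwa [h0] at h
      · rw [h0] at h
        exact h.of_dvd (by norm_num)
    have hgi : Set.InjOn (fun p : Fin 3 × Fin 2 => ω ^ (3 ^ p.1.1 * 51 ^ p.2.1)) (Finset.univ : Finset (Fin 3 × Fin 2)) := by
      intro p _ q _ h
      apply hinj
      exact hmod13 _ _ ((hmod _ _).mp h)
    set T := (Finset.univ : Finset (Fin 3 × Fin 2)).image (fun p => ω ^ (3 ^ p.1.1 * 51 ^ p.2.1)) with hT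
    have hTcard : T.card = 6 := by
      rw [hT, Finset.card_image_of_injOn hgi]
      simp
    have hTsub : T ⊆ s.toFinset := by
      intro η hη
      rw [hT, Finset.mem_image] at hη
      obtain ⟨p, -, rfl⟩ := hη
      exact Multiset.mem_toFinset.mpr (hE _ _)
    have hTeq : T = s.toFinset := Finset.eq_of_subset_of_card_le hTsub (by omega)
    have hall : ∀ η ∈ s, ∃ p : Fin 3 × Fin 2, η = ω ^ (3 ^ p.1.1 * 51 ^ p.2.1) := by
      intro η hη
      have h3 : η ∈ T := by
        rw [hTeq]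
        exact Multiset.mem_toFinset.mpr hη
      rw [hT, Finset.mem_image] at h3
      obtain ⟨p, -, rfl⟩ := h3
      exact ⟨p, rfl⟩
    rcases ho13 with h13 | h26'
    · -- all roots have order dividing `13`
      have h3 : ω ^ 13 = 1 := by
        rw [← orderOf_dvd_iff_pow_eq_one, ← ho, h13]
      have h4 : N ∣ 13 := by
        apply h2 13
        intro η hη
        obtain ⟨p, rfl⟩ := hall η hη
        rw [← pow_mul, mul_comm, pow_mul, h3, one_pow]
      have : 26 ∣ 13 := h26.trans h4
      omega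
    · -- all roots satisfy `η ^ 13 = -1`
      have hne : ω ^ 13 ≠ 1 := by
        intro h
        have h3 := orderOf_dvd_of_pow_eq_one h
        rw [← ho, h26'] at h3
        omega
      have hsq : ω ^ 13 * ω ^ 13 = 1 := by
        rw [← pow_add]
        rw [← orderOf_dvd_iff_pow_eq_one, ← ho, h26']
      have hneg : ω ^ 13 = -1 := (mul_self_eq_one_iff.mp hsq).resolve_left hne
      have hroot : ∀ η ∈ s, η ^ 13 = -1 := by
        intro η hη
        obtain ⟨p, rfl⟩ := hall η hη
        rw [← pow_mul, mul_comm, pow_mul, hneg]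
        apply Odd.neg_one_pow
        exact (Odd.pow (by decide)).mul (Odd.pow (by decide))
      -- the characteristic polynomial divides `X ^ 13 + 1`
      have hnodup : s.Nodup := by
        rw [← Multiset.dedup_card_eq_card_iff_nodup, hcard]
        have h3 : s.toFinset.card = 6 := by
          rw [← hTeq, hTcard]
        exact h3
      set f : F[X] := X ^ 13 + 1 with hf
      set f' : (AlgebraicClosure F)[X] := f.map (algebraMap F (AlgebraicClosure F)) with hf'
      have hf'eq : f' = X ^ 13 + C 1 := by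
        rw [hf', hf]
        simp
      have hf'0 : f' ≠ 0 := by
        rw [hf'eq]
        exact (monic_X_pow_add_C 1 (by norm_num)).ne_zero
      have hle : s ≤ f'.roots := by
        rw [Multiset.le_iff_subset hnodup]
        intro η hη
        rw [mem_roots hf'0, IsRoot, hf'eq]
        simp [hroot η hη]
      have hd : chi A ∣ f' := by
        rw [(IsAlgClosed.splits (chi A)).eq_prod_roots_of_monic (chi_monic A)]
        exact (Multiset.prod_X_sub_C_dvd_iff_le_roots hf'0 _).mpr hle
      have hd' : A.charpoly ∣ f := (map_dvd_map' (algebraMap F (AlgebraicClosure F))).mp hd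
      have hev : aeval A f = 0 := by
        obtain ⟨q, hq⟩ := hd'
        rw [hq, map_mul, Matrix.aeval_self_charpoly, zero_mul]
      have hA13 : A ^ 13 = -1 := by
        rw [hf] at hev
        simp only [map_add, map_pow, aeval_X, map_one] at hev
        exact eq_neg_of_add_eq_zero_left hev
      have hy13 : y ^ 13 = negOne := Subtype.ext hA13
      have h3 : projSp 3 F y ^ 13 = 1 := by
        rw [← map_pow, projSp_eq_one_iff]
        exact Or.inr hy13
      have h4 := orderOf_dvd_of_pow_eq_one h3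
      rw [hx] at h4
      omega

end Cfsg.Agent.Lib.PSp63
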