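import Mathlib

/-!
# Polycyclic sequences of primes three

A list `g₁, …, gₙ` in a finite group, each element normalising the subgroup generated by the later ones, with its cube in
this subgroup but not itself: the subgroup generated by the list has order `3 ^ n`, and its elements are products
`g₁ ^ e₁ * ⋯ * gₙ ^ eₙ` with `eᵢ < 3`.
-/

set_option autoImplicit false
set_option linter.all false

namespace Cfsg.Agent.Lib.PcThree4

open scoped Pointwise

variable {G : Type*} [Group G] [Finite G]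

/-- The subgroup generated by a list. -/
def clo (l : List G) : Subgroup G := Subgroup.closure {x | x ∈ l}

/-- The product with exponents. -/
def nf : List G → List ℕ → G
  | g :: l, e :: es => g ^ e * nf l es
  | _, _ => 1

theorem mem_clo {l : List G} {x : G} (h : x ∈ l) : x ∈ clo l := Subgroup.subset_closure h

theorem clo_cons_le (g : G) (l : List G) : clo l ≤ clo (g :: l) := by
  apply Subgroup.closure_mono
  intro x hx
  exact List.mem_cons_of_mem _ hx

theorem nf_mem (l : List G) (es : List ℕ) : nf l es ∈ clo l := by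
  induction l generalizing es with
  | nil => exact Subgroup.one_mem _
  | cons g l ih =>
    cases es with
    | nil => exact Subgroup.one_mem _
    | cons e es =>
      exact Subgroup.mul_mem _ (Subgroup.pow_mem _ (mem_clo List.mem_cons_self) _) (clo_cons_le g l (ih es))

/-- One step of a polycyclic sequence. -/
theorem step (H : Subgroup G) (g : G) (hn : ∀ y ∈ H, g * y * g⁻¹ ∈ H) (h3 : g ^ 3 ∈ H) (hg : g ∉ H) :
    ∃ K : Subgroup G, (∀ x, x ∈ K ↔ ∃ e, e < 3 ∧ ∃ y ∈ H, x = g ^ e * y) ∧ Nat.card K = 3 * Nat.card H := by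
  have hinv3 : (g ^ 3)⁻¹ ∈ H := H.inv_mem h3
  -- conjugation by `g⁻¹` also preserves `H`
  have hn' : ∀ y ∈ H, g⁻¹ * y * g ∈ H := by
    intro y hy
    have h1 : (g ^ 3)⁻¹ * y * g ^ 3 ∈ H := H.mul_mem (H.mul_mem hinv3 hy) h3
    have h2 := hn _ (hn _ h1)
    have e : g * (g * ((g ^ 3)⁻¹ * y * g ^ 3) * g⁻¹) * g⁻¹ = g⁻¹ * y * g := by group
    rwa [e] at h2
  have hnp : ∀ (e : ℕ), ∀ y ∈ H, g ^ e * y * (g ^ e)⁻¹ ∈ H := by
    intro e
    induction e with
    | zero => intro y hy; simpa using hy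
    | succ e ih =>
      intro y hy
      have h1 := hn _ (ih y hy)
      have e1 : g * (g ^ e * y * (g ^ e)⁻¹) * g⁻¹ = g ^ (e + 1) * y * (g ^ (e + 1))⁻¹ := by group
      rwa [e1] at h1
  have hnp' : ∀ (e : ℕ), ∀ y ∈ H, (g ^ e)⁻¹ * y * g ^ e ∈ H := by
    intro e
    induction e with
    | zero => intro y hy; simpa using hy
    | succ e ih =>
      intro y hy
      have h1 := hn' _ (ih y hy)
      have e1 : g⁻¹ * ((g ^ e)⁻¹ * y * g ^ e) * g = (g ^ (e + 1))⁻¹ * y * g ^ (e + 1) := by group
      rwa [e1] at h1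
  let K : Subgroup G :=
    { carrier := {x | ∃ e, e < 3 ∧ ∃ y ∈ H, x = g ^ e * y}
      one_mem' := ⟨0, by norm_num, 1, H.one_mem, by simp⟩
      mul_mem' := by
        rintro _ _ ⟨e, he, y, hy, rfl⟩ ⟨f, hf, y', hy', rfl⟩
        have h0 : (g ^ f)⁻¹ * y * g ^ f ∈ H := hnp' f y hy
        have e1 : g ^ e * y * (g ^ f * y') = g ^ (e + f) * (((g ^ f)⁻¹ * y * g ^ f) * y') := by
          rw [pow_add]; group
        by_cases hc : e + f < 3
        · exact ⟨e + f, hc, _, H.mul_mem h0 hy', e1⟩
        · refine ⟨e + f - 3, by omega, g ^ 3 * (((g ^ f)⁻¹ * y * g ^ f) * y'), H.mul_mem h3 (H.mul_mem h0 hy'), ?_⟩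
          have e2 : g ^ (e + f) = g ^ (e + f - 3) * g ^ 3 := by
            rw [← pow_add]
            congr 1
            omega
          rw [e1, e2, mul_assoc]
      inv_mem' := by
        rintro _ ⟨e, he, y, hy, rfl⟩
        by_cases h0 : e = 0
        · subst h0
          exact ⟨0, by norm_num, y⁻¹, H.inv_mem hy, by simp⟩
        · refine ⟨3 - e, by omega, (g ^ 3)⁻¹ * (g ^ e * y⁻¹ * (g ^ e)⁻¹), H.mul_mem hinv3 (hnp e _ (H.inv_mem hy)), ?_⟩
          have e2 : g ^ 3 = g ^ (3 - e) * g ^ e := by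
            rw [← pow_add]
            congr 1
            omega
          rw [e2]
          group }
  refine ⟨K, fun x => Iff.rfl, ?_⟩
  -- the count
  have hpow : ∀ e f : ℕ, e < f → f < 3 → ∀ y ∈ H, ∀ y' ∈ H, g ^ e * y ≠ g ^ f * y' := by
    intro e f hef hf y hy y' hy' h
    have h1 : g ^ (f - e) = y * y'⁻¹ := by
      have e2 : g ^ f = g ^ e * g ^ (f - e) := by
        rw [← pow_add]
        congr 1
        omega
      rw [e2, mul_assoc] at h
      have h2 := mul_left_cancel h
      rw [h2]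
      group
    have h2 : g ^ (f - e) ∈ H := by
      rw [h1]
      exact H.mul_mem hy (H.inv_mem hy')
    have hcase : f - e = 1 ∨ f - e = 2 := by omega
    rcases hcase with h3' | h3'
    · rw [h3', pow_one] at h2
      exact hg h2
    · rw [h3'] at h2
      apply hg
      have h4 : (g ^ 2) * (g ^ 2) * (g ^ 3)⁻¹ ∈ H := H.mul_mem (H.mul_mem h2 h2) hinv3
      have e3 : (g ^ 2) * (g ^ 2) * (g ^ 3)⁻¹ = g := by group
      rwa [e3] at h4
  let f : Fin 3 × H → K := fun p => ⟨g ^ (p.1 : ℕ) * (p.2 : G), ⟨p.1, p.1.isLt, p.2, p.2.2, rfl⟩⟩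
  have hf : Function.Bijective f := by
    constructor
    · rintro ⟨e, y⟩ ⟨e', y'⟩ h
      have h1 : g ^ (e : ℕ) * (y : G) = g ^ (e' : ℕ) * (y' : G) := congrArg Subtype.val h
      have he : (e : ℕ) = e' := by
        by_contra hne
        rcases Nat.lt_or_gt_of_ne hne with hlt | hlt
        · exact hpow _ _ hlt e'.isLt _ y.2 _ y'.2 h1
        · exact hpow _ _ hlt e.isLt _ y'.2 _ y.2 h1.symm
      have he' : e = e' := Fin.ext he
      subst he'
      have h2 := mul_left_cancel h1
      exact Prod.ext rfl (Subtype.ext h2)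
    · rintro ⟨x, e, he, y, hy, rfl⟩
      exact ⟨(⟨e, he⟩, ⟨y, hy⟩), rfl⟩
  have := Nat.card_congr (Equiv.ofBijective f hf)
  rw [← this, Nat.card_prod]
  simp

/-- A polycyclic sequence of primes three. -/
def PC : List G → Prop
  | [] => True
  | g :: l => PC l ∧ (∀ h ∈ l, g * h * g⁻¹ ∈ clo l) ∧ g ^ 3 ∈ clo l ∧ g ∉ clo l

theorem PC_spec (l : List G) (h : PC l) :
    Nat.card (clo l) = 3 ^ l.length ∧
      ∀ x ∈ clo l, ∃ es : List ℕ, es.length = l.length ∧ (∀ e ∈ es, e < 3) ∧ x = nf l es := by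
  induction l with
  | nil =>
    constructor
    · have : clo ([] : List G) = ⊥ := by
        unfold clo
        simp
      rw [this]
      simp
    · intro x hx
      have : clo ([] : List G) = ⊥ := by
        unfold clo
        simp
      rw [this, Subgroup.mem_bot] at hx
      exact ⟨[], rfl, by simp, hx⟩
  | cons g l ih =>
    obtain ⟨h1, h2, h3, h4⟩ := h
    obtain ⟨ih1, ih2⟩ := ih h1
    have hn : ∀ y ∈ clo l, g * y * g⁻¹ ∈ clo l := by
      intro y hy
      have hle : clo l ≤ (clo l).comap (MulAut.conj g).toMonoidHom := by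
        apply (Subgroup.closure_le _).2
        intro x hx
        show (MulAut.conj g).toMonoidHom x ∈ clo l
        simpa [MulAut.conj_apply] using h2 x hx
      simpa [MulAut.conj_apply] using hle hy
    obtain ⟨K, hK, hcard⟩ := step (clo l) g hn h3 h4
    have hKeq : clo (g :: l) = K := by
      apply le_antisymm
      · apply (Subgroup.closure_le _).2
        intro x hx
        rcases List.mem_cons.mp hx with rfl | hx
        · exact (hK _).2 ⟨1, by norm_num, 1, Subgroup.one_mem _, by simp⟩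
        · exact (hK _).2 ⟨0, by norm_num, x, mem_clo hx, by simp⟩
      · intro x hx
        obtain ⟨e, _, y, hy, rfl⟩ := (hK x).1 hx
        exact Subgroup.mul_mem _ (Subgroup.pow_mem _ (mem_clo List.mem_cons_self) _) (clo_cons_le g l hy)
    constructor
    · rw [hKeq, hcard, ih1, List.length_cons, pow_succ]
      ring
    · intro x hx
      rw [hKeq] at hx
      obtain ⟨e, he, y, hy, rfl⟩ := (hK x).1 hx
      obtain ⟨es, hes, hes2, rfl⟩ := ih2 y hy
      refine ⟨e :: es, by simp [hes], ?_, rfl⟩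
      intro a ha
      rcases List.mem_cons.mp ha with rfl | ha
      · exact he
      · exact hes2 a ha

/-- A `3`-subgroup of maximal order absorbs the elements of order dividing `3`. -/
theorem exists_conj_mem {N : Subgroup G} (R : Subgroup G) (hRN : R ≤ N) (k : ℕ) (hR : Nat.card R = 3 ^ k)
    (hN : ¬ 3 ^ (k + 1) ∣ Nat.card N) {x : G} (hx : x ∈ N) (h3 : x ^ 3 = 1) :
    ∃ v ∈ N, v * x * v⁻¹ ∈ R := by
  classical
  haveI : Fact (Nat.Prime 3) := ⟨Nat.prime_three⟩
  -- work inside `N`
  let R' : Subgroup N := R.subgroupOf N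
  have hcardR' : Nat.card R' = 3 ^ k := by
    have : Nat.card R' = Nat.card R := by
      exact Nat.card_congr (Subgroup.subgroupOfEquivOfLe hRN).toEquiv
    rw [this, hR]
  let x' : N := ⟨x, hx⟩
  have hx' : x' ^ 3 = 1 := Subtype.ext (by simpa using h3)
  have hp : IsPGroup 3 (Subgroup.zpowers x') := by
    apply IsPGroup.of_card (n := (orderOf x').factorization 3)
    have h1 : orderOf x' ∣ 3 ^ 1 := by simpa using orderOf_dvd_of_pow_eq_one hx'
    rw [Nat.card_zpowers]
    obtain ⟨j, _, hj⟩ := (Nat.dvd_prime_pow Nat.prime_three).1 h1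
    rw [hj]
    simp [Nat.Prime.factorization_self Nat.prime_three, Nat.factorization_pow]
  have hpR : IsPGroup 3 R' := IsPGroup.of_card hcardR'
  -- `R'` is a Sylow subgroup
  obtain ⟨S, hS⟩ := hpR.exists_le_sylow
  have hScard : Nat.card S = 3 ^ k := by
    have h1 : Nat.card R' ∣ Nat.card S := Subgroup.card_dvd_of_le hS
    obtain ⟨j, hj⟩ := S.isPGroup'.exists_card_eq
    rw [hj, hcardR'] at h1
    have h2 : k ≤ j := (Nat.pow_dvd_pow_iff_le_right (by norm_num)).1 h1
    have h3' : (3 : ℕ) ^ j ∣ Nat.card N := by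
      rw [← hj]
      exact Subgroup.card_subgroup_dvd_card _
    have h4 : j ≤ k := by
      by_contra hc
      apply hN
      exact (pow_dvd_pow 3 (by omega)).trans h3'
    rw [hj, le_antisymm h4 h2]
  have hSeq : (S : Subgroup N) = R' := by
    symm
    apply Subgroup.eq_of_le_of_card_ge hS
    rw [hScard, hcardR']
  obtain ⟨S', hS'⟩ := hp.exists_le_sylow
  obtain ⟨c, hc⟩ : ∃ c : N, c • S' = S := MulAction.exists_smul_eq _ _ _
  refine ⟨c, c.2, ?_⟩
  have h1 : x' ∈ (S' : Subgroup N) := hS' (Subgroup.mem_zpowers x')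
  have h2 : c * x' * c⁻¹ ∈ (S : Subgroup N) := by
    have h5 : MulAut.conj c • x' ∈ MulAut.conj c • (S' : Subgroup N) := Subgroup.smul_mem_pointwise_smul _ _ _ h1
    rw [← Sylow.coe_subgroup_smul, hc] at h5
    simpa [MulAut.smul_def, MulAut.conj_apply] using h5
  rw [hSeq] at h2
  exact Subgroup.mem_subgroupOf.mp h2

end Cfsg.Agent.Lib.PcThree4
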