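import Mathlib
import Cfsg.Agent.Lib.BrauerGlobal
import Cfsg.Agent.Lib.GenChar
import Cfsg.Agent.Lib.CharKernel
import Cfsg.Agent.Lib.HallParts
import Cfsg.Agent.Lib.FrobCount
import Cfsg.Agent.Lib.Monomial

/-!
# A normal complement from fusion control and counting

Let `K` be a subgroup of `P`-elements of a finite group `G` such that every subgroup of
`P`-elements is conjugate into `K`, `K` controls fusion of its elements, and for a noncentral
`x ∈ K` the number of non-`P` elements of `C(x)` times `|K ∩ C(x)|` is `|C(x)|`.  Then the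
non-`P` elements form a subgroup.  The proof extends characters of `K` using Brauer's
characterisation.
-/

set_option autoImplicit false
set_option linter.unusedSectionVars false
set_option linter.style.haveILetI false

namespace Cfsg.Agent.Lib.PiExt

open Cfsg Cfsg.Agent.Lib.FrobCount Cfsg.Agent.Lib.CharBasic Cfsg.Agent.Lib.GenChar
  Cfsg.Agent.Lib.CharKernel
open scoped ComplexConjugate

universe u

section Parts

variable {G : Type u} [Group G] [Finite G] (P : ℕ → Prop)

/-- The `P`-part of an element. -/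
noncomputable def pt (g : G) : G := (exists_decomp P g).choose

/-- The complementary part of an element. -/
noncomputable def qt (g : G) : G := (exists_decomp P g).choose_spec.choose

theorem pt_pi (g : G) : PiElt P (pt P g) := (exists_decomp P g).choose_spec.choose_spec.1

theorem qt_pi (g : G) : PiElt (fun q => ¬ P q) (qt P g) :=
  (exists_decomp P g).choose_spec.choose_spec.2.1

theorem pt_comm (g : G) : Commute (pt P g) (qt P g) :=
  (exists_decomp P g).choose_spec.choose_spec.2.2.1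

theorem pt_mul_qt (g : G) : pt P g * qt P g = g :=
  (exists_decomp P g).choose_spec.choose_spec.2.2.2

theorem pt_eq {u v : G} (hu : PiElt P u) (hv : PiElt (fun q => ¬ P q) v) (huv : Commute u v) :
    pt P (u * v) = u ∧ qt P (u * v) = v :=
  decomp_unique P (pt_pi P _) (qt_pi P _) (pt_comm P _) hu hv huv (pt_mul_qt P _)

theorem pi_one : PiElt (fun q => ¬ P q) (1 : G) := PiElt.one

theorem pt_of_pi {x : G} (hx : PiElt P x) : pt P x = x := by
  have := (pt_eq P hx (pi_one P) (Commute.one_right x)).1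
  rwa [mul_one] at this

theorem pt_pt (g : G) : pt P (pt P g) = pt P g := pt_of_pi P (pt_pi P g)

theorem pt_one : pt P (1 : G) = 1 := pt_of_pi P PiElt.one

theorem pt_eq_one_iff {g : G} : pt P g = 1 ↔ PiElt (fun q => ¬ P q) g := by
  constructor
  · intro h
    have h2 := pt_mul_qt P g
    rw [h, one_mul] at h2
    rw [← h2]
    exact qt_pi P g
  · intro h
    have := (pt_eq P (PiElt.one (G := G) (P := P)) h (Commute.one_left g)).1
    rwa [one_mul] at this

theorem pt_conj (h g : G) : pt P (h * g * h⁻¹) = h * pt P g * h⁻¹ := by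
  have hu : PiElt P (h * pt P g * h⁻¹) := (PiElt.conj h).mpr (pt_pi P g)
  have hv : PiElt (fun q => ¬ P q) (h * qt P g * h⁻¹) := (PiElt.conj h).mpr (qt_pi P g)
  have huv : Commute (h * pt P g * h⁻¹) (h * qt P g * h⁻¹) := by
    have := pt_comm P g
    show h * pt P g * h⁻¹ * (h * qt P g * h⁻¹) = h * qt P g * h⁻¹ * (h * pt P g * h⁻¹)
    have e := this.eq
    calc h * pt P g * h⁻¹ * (h * qt P g * h⁻¹) = h * (pt P g * qt P g) * h⁻¹ := by group
      _ = h * (qt P g * pt P g) * h⁻¹ := by rw [e]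
      _ = _ := by group
  have e : h * g * h⁻¹ = (h * pt P g * h⁻¹) * (h * qt P g * h⁻¹) := by
    conv_lhs => rw [← pt_mul_qt P g]
    group
  rw [e]
  exact (pt_eq P hu hv huv).1

end Parts

section Count

variable {G : Type u} [Group G] [Finite G]

/-- Product sets of subgroups. -/
theorem card_mul_set (C K : Subgroup G) (S : Set G)
    (hS : ∀ h, h ∈ S ↔ ∃ c ∈ C, ∃ k ∈ K, h = c * k) :
    Nat.card S * Nat.card ↥(C ⊓ K) = Nat.card C * Nat.card K := by
  classical
  have hS' : ∀ h : S, ∃ c : G, c ∈ C ∧ ∃ k : G, k ∈ K ∧ (h : G) = c * k := fun h => (hS h).mp h.2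
  choose c₀ hc₀ k₀ hk₀ hm₀ using hS'
  have hmem : ∀ (c : C) (k : K), ((c : G) * k) ∈ S := fun c k => (hS _).mpr ⟨c, c.2, k, k.2, rfl⟩
  rw [← Nat.card_prod, ← Nat.card_prod]
  apply Nat.card_congr
  refine
    { toFun := fun x => (⟨c₀ x.1 * x.2.1, C.mul_mem (hc₀ _) x.2.2.1⟩,
        ⟨x.2.1⁻¹ * k₀ x.1, K.mul_mem (K.inv_mem x.2.2.2) (hk₀ _)⟩)
      invFun := fun x => (⟨(x.1 : G) * x.2, hmem x.1 x.2⟩,
        ⟨(c₀ ⟨(x.1 : G) * x.2, hmem x.1 x.2⟩)⁻¹ * x.1, C.mul_mem (C.inv_mem (hc₀ _)) x.1.2, ?_⟩)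
      left_inv := ?_
      right_inv := ?_ }
  · -- membership in `K`
    have h := hm₀ ⟨(x.1 : G) * x.2, hmem x.1 x.2⟩
    have e : (c₀ ⟨(x.1 : G) * x.2, hmem x.1 x.2⟩)⁻¹ * x.1 =
        k₀ ⟨(x.1 : G) * x.2, hmem x.1 x.2⟩ * (x.2 : G)⁻¹ := by
      have h' : (x.1 : G) * x.2 = c₀ ⟨(x.1 : G) * x.2, hmem x.1 x.2⟩ *
        k₀ ⟨(x.1 : G) * x.2, hmem x.1 x.2⟩ := h
      rw [inv_mul_eq_iff_eq_mul, ← mul_assoc, ← h']
      group
    rw [SetLike.mem_coe, e]
    exact K.mul_mem (hk₀ _) (K.inv_mem x.2.2)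
  · rintro ⟨h, d⟩
    have e1 : (c₀ h * d) * ((d : G)⁻¹ * k₀ h) = h := by
      rw [hm₀ h]; group
    have e2 : (⟨(c₀ h * d) * ((d : G)⁻¹ * k₀ h), hmem ⟨c₀ h * d, C.mul_mem (hc₀ _) d.2.1⟩
        ⟨(d : G)⁻¹ * k₀ h, K.mul_mem (K.inv_mem d.2.2) (hk₀ _)⟩⟩ : S) = h := Subtype.ext e1
    refine Prod.ext e2 (Subtype.ext ?_)
    show (c₀ ⟨(c₀ h * d) * ((d : G)⁻¹ * k₀ h), _⟩)⁻¹ * (c₀ h * d) = d
    rw [e2]
    group
  · rintro ⟨c, k⟩
    have hh := hm₀ ⟨(c : G) * k, hmem c k⟩
    have hh' : (c : G) * k = c₀ ⟨(c : G) * k, hmem c k⟩ * k₀ ⟨(c : G) * k, hmem c k⟩ := hh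
    refine Prod.ext (Subtype.ext ?_) (Subtype.ext ?_)
    · show c₀ ⟨(c : G) * k, hmem c k⟩ * ((c₀ ⟨(c : G) * k, hmem c k⟩)⁻¹ * c) = c
      group
    · show ((c₀ ⟨(c : G) * k, hmem c k⟩)⁻¹ * c)⁻¹ * k₀ ⟨(c : G) * k, hmem c k⟩ = k
      rw [mul_inv_rev, inv_inv, mul_assoc, ← hh']
      group

variable (P : ℕ → Prop)

/-- Number of elements with a given `P`-part. -/
noncomputable def fib (u : G) : ℕ := Nat.card {g : G // pt P g = u}

/-- Number of elements conjugating into `K`. -/
noncomputable def rr (K : Subgroup G) (x : G) : ℕ := Nat.card {h : G // h⁻¹ * x * h ∈ K}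

/-- Number of complementary elements commuting with a given element. -/
noncomputable def nn (x : G) : ℕ := Nat.card {y : G // PiElt (fun q => ¬ P q) y ∧ Commute x y}

theorem fib_eq {u : G} (hu : PiElt P u) : fib P u = nn P u := by
  apply Nat.card_congr
  refine
    { toFun := fun g => ⟨qt P g.1, qt_pi P _, ?_⟩
      invFun := fun y => ⟨u * y.1, (pt_eq P hu y.2.1 y.2.2).1⟩
      left_inv := ?_
      right_inv := ?_ }
  · have := pt_comm P g.1
    rwa [g.2] at this
  · rintro ⟨g, rfl⟩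
    exact Subtype.ext (pt_mul_qt P g)
  · rintro ⟨y, hy, huy⟩
    exact Subtype.ext (pt_eq P hu hy huy).2

theorem fib_eq_zero {u : G} (hu : ¬ PiElt P u) : fib P u = 0 := by
  have : IsEmpty {g : G // pt P g = u} := ⟨fun g => hu (g.2 ▸ pt_pi P g.1)⟩
  exact Nat.card_of_isEmpty

theorem fib_conj (g u : G) : fib P (g * u * g⁻¹) = fib P u := by
  apply Nat.card_congr
  refine
    { toFun := fun h => ⟨g⁻¹ * h.1 * g, ?_⟩
      invFun := fun h => ⟨g * h.1 * g⁻¹, ?_⟩
      left_inv := ?_
      right_inv := ?_ }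
  · have h1 := pt_conj P g⁻¹ h.1
    rw [inv_inv] at h1
    rw [h1, h.2]
    group
  · rw [pt_conj, h.2]
  · rintro ⟨h, hh⟩
    exact Subtype.ext (by group)
  · rintro ⟨h, hh⟩
    exact Subtype.ext (by group)

theorem rr_conj (K : Subgroup G) (g x : G) : rr K (g * x * g⁻¹) = rr K x := by
  apply Nat.card_congr
  refine
    { toFun := fun h => ⟨g⁻¹ * h.1, ?_⟩
      invFun := fun h => ⟨g * h.1, ?_⟩
      left_inv := ?_
      right_inv := ?_ }
  · have e : (g⁻¹ * h.1)⁻¹ * x * (g⁻¹ * h.1) = h.1⁻¹ * (g * x * g⁻¹) * h.1 := by group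
    rw [e]; exact h.2
  · have e : (g * h.1)⁻¹ * (g * x * g⁻¹) * (g * h.1) = h.1⁻¹ * x * h.1 := by group
    rw [e]; exact h.2
  · rintro ⟨h, hh⟩
    exact Subtype.ext (by group)
  · rintro ⟨h, hh⟩
    exact Subtype.ext (by group)

theorem sum_pt [Fintype G] (E : G → ℂ) : ∑ g, E (pt P g) = ∑ u, (fib P u : ℂ) * E u := by
  classical
  rw [← Finset.sum_fiberwise Finset.univ (pt P) (fun g => E (pt P g))]
  refine Finset.sum_congr rfl fun u _ => ?_
  have h1 : ∀ g ∈ Finset.univ.filter (fun g => pt P g = u), E (pt P g) = E u := by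
    intro g hg
    rw [(Finset.mem_filter.mp hg).2]
  rw [Finset.sum_congr rfl h1, Finset.sum_const, nsmul_eq_mul]
  congr 2
  rw [fib, Nat.card_eq_fintype_card, Fintype.card_subtype]

theorem sum_rr [Fintype G] (K : Subgroup G) [Fintype K] (W : G → ℂ) :
    ∑ h : G, ∑ k : K, W (h * k * h⁻¹) = ∑ x : G, (rr K x : ℂ) * W x := by
  classical
  have h1 : ∀ h : G, ∑ k : K, W (h * k * h⁻¹) = ∑ x : G, if h⁻¹ * x * h ∈ K then W x else 0 := by
    intro h
    rw [← Finset.sum_filter, Finset.sum_subtype (Finset.univ.filter fun x => h⁻¹ * x * h ∈ K)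
      (p := fun x => h⁻¹ * x * h ∈ K) (by simp)]
    let e : K ≃ {x : G // h⁻¹ * x * h ∈ K} :=
      { toFun := fun k : K => (⟨h * k * h⁻¹, by
            have e : h⁻¹ * (h * (k : G) * h⁻¹) * h = k := by group
            rw [e]; exact k.2⟩ : {x : G // h⁻¹ * x * h ∈ K})
        invFun := fun x => ⟨h⁻¹ * x.1 * h, x.2⟩
        left_inv := fun k => Subtype.ext (by
          show h⁻¹ * (h * (k : G) * h⁻¹) * h = k
          group)
        right_inv := fun x => Subtype.ext (by
          show h * (h⁻¹ * (x : G) * h) * h⁻¹ = x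
          group) }
    exact Fintype.sum_equiv e _ _ (fun k => rfl)
  simp_rw [h1]
  rw [Finset.sum_comm]
  refine Finset.sum_congr rfl fun x _ => ?_
  rw [← Finset.sum_filter, Finset.sum_const, nsmul_eq_mul]
  congr 2
  rw [rr, Nat.card_eq_fintype_card, Fintype.card_subtype]

end Count

/-- The hypotheses on the subgroup `K`. -/
structure Hyp {G : Type u} [Group G] (P : ℕ → Prop) (K : Subgroup G) : Prop where
  pi : ∀ k ∈ K, PiElt P k
  conjInto : ∀ A : Subgroup G, (∀ a ∈ A, PiElt P a) → ∃ h : G, ∀ a ∈ A, h⁻¹ * a * h ∈ K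
  fusion : ∀ x ∈ K, ∀ g : G, g * x * g⁻¹ ∈ K → ∃ k ∈ K, g * x * g⁻¹ = k * x * k⁻¹
  cnt : ∀ x ∈ K, x ∉ Subgroup.center G →
    Nat.card {y : G // PiElt (fun q => ¬ P q) y ∧ Commute x y} *
      Nat.card ↥(K ⊓ Subgroup.centralizer ({x} : Set G)) =
    Nat.card (Subgroup.centralizer ({x} : Set G))

section Key

variable {G : Type u} [Group G] [Finite G] {P : ℕ → Prop} {K : Subgroup G}

theorem rr_eq_zero (hK : Hyp P K) {u : G} (hu : ¬ PiElt P u) : rr K u = 0 := by
  have : IsEmpty {h : G // h⁻¹ * u * h ∈ K} := by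
    refine ⟨fun h => hu ?_⟩
    have h1 := hK.pi _ h.2
    have h2 := (PiElt.conj (P := P) h.1⁻¹ (x := u))
    rw [inv_inv] at h2
    exact h2.mp h1
  exact Nat.card_of_isEmpty

theorem exists_conj_elt (hK : Hyp P K) {u : G} (hu : PiElt P u) : ∃ h : G, h⁻¹ * u * h ∈ K := by
  obtain ⟨h, hh⟩ := hK.conjInto (Subgroup.zpowers u) (by
    rintro a ⟨j, rfl⟩
    exact hu.zpow j)
  exact ⟨h, hh _ (Subgroup.mem_zpowers u)⟩

theorem rr_mul_card (hK : Hyp P K) {k : G} (hk : k ∈ K) :
    rr K k * Nat.card ↥(Subgroup.centralizer ({k} : Set G) ⊓ K) =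
      Nat.card (Subgroup.centralizer ({k} : Set G)) * Nat.card K := by
  refine card_mul_set _ K {h : G | h⁻¹ * k * h ∈ K} ?_
  intro h
  constructor
  · intro hh
    have hh' : h⁻¹ * k * h⁻¹⁻¹ ∈ K := by rwa [inv_inv]
    obtain ⟨k', hk', e⟩ := hK.fusion k hk h⁻¹ hh'
    refine ⟨h * k', ?_, k'⁻¹, K.inv_mem hk', by group⟩
    rw [Subgroup.mem_centralizer_singleton_iff]
    rw [inv_inv] at e
    calc h * k' * k = h * (k' * k * k'⁻¹) * k' := by group
      _ = h * (h⁻¹ * k * h) * k' := by rw [e]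
      _ = k * (h * k') := by group
  · rintro ⟨c, hc, k', hk', rfl⟩
    rw [Subgroup.mem_centralizer_singleton_iff] at hc
    have e : (c * k')⁻¹ * k * (c * k') = k'⁻¹ * k * k' := by
      calc (c * k')⁻¹ * k * (c * k') = k'⁻¹ * c⁻¹ * (k * c) * k' := by group
        _ = k'⁻¹ * c⁻¹ * (c * k) * k' := by rw [hc]
        _ = _ := by group
    show (c * k')⁻¹ * k * (c * k') ∈ K
    rw [e]
    exact K.mul_mem (K.mul_mem (K.inv_mem hk') hk) hk'

/-- Noncentral elements of `K`. -/
theorem fib_mul_of_noncentral (hK : Hyp P K) {k : G} (hk : k ∈ K) (hz : k ∉ Subgroup.center G) :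
    fib P k * Nat.card K = rr K k := by
  have h1 := hK.cnt k hk hz
  have h2 := rr_mul_card hK hk
  rw [fib_eq P (hK.pi k hk)]
  have h3 : 0 < Nat.card ↥(Subgroup.centralizer ({k} : Set G) ⊓ K) := Nat.card_pos
  apply Nat.eq_of_mul_eq_mul_right h3
  rw [h2, ← h1, inf_comm]
  change nn P k * _ * _ = nn P k * _ * _
  ring

/-- Noncentral `P`-elements. -/
theorem fib_mul_of_noncentral' (hK : Hyp P K) {u : G} (hu : PiElt P u)
    (hz : u ∉ Subgroup.center G) : fib P u * Nat.card K = rr K u := by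
  obtain ⟨h, hh⟩ := exists_conj_elt hK hu
  have e : u = h * (h⁻¹ * u * h) * h⁻¹ := by group
  rw [e, fib_conj, rr_conj]
  refine fib_mul_of_noncentral hK hh ?_
  intro hc
  apply hz
  have := (inferInstance : (Subgroup.center G).Normal).conj_mem _ hc h
  rw [e]
  exact this

/-- The value of `fib` on central elements. -/
theorem fib_of_central {u : G} (hz : u ∈ Subgroup.center G) (hu : PiElt P u) :
    fib P u = fib P (1 : G) := by
  rw [fib_eq P hu, fib_eq P PiElt.one]
  apply Nat.card_congr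
  apply Equiv.subtypeEquivRight
  intro y
  constructor
  · rintro ⟨h1, _⟩
    exact ⟨h1, Commute.one_left y⟩
  · rintro ⟨h1, _⟩
    exact ⟨h1, (Subgroup.mem_center_iff.mp hz y).symm⟩

/-- The value of `rr` on central elements. -/
theorem rr_of_central (hK : Hyp P K) {u : G} (hz : u ∈ Subgroup.center G) (hu : PiElt P u) :
    rr K u = Nat.card G := by
  have hmem : ∀ h : G, h⁻¹ * u * h ∈ K := by
    obtain ⟨h₀, hh₀⟩ := exists_conj_elt hK hu
    have e : ∀ h : G, h⁻¹ * u * h = u := by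
      intro h
      rw [mul_assoc, inv_mul_eq_iff_eq_mul, Subgroup.mem_center_iff.mp hz h]
    intro h
    rw [e] at hh₀ ⊢
    exact hh₀
  unfold rr
  exact Nat.card_congr (Equiv.subtypeUnivEquiv hmem)

/-- The key numerical identity. -/
theorem fib_mul_card (hK : Hyp P K) (u : G) : fib P u * Nat.card K = rr K u := by
  classical
  letI : Fintype G := Fintype.ofFinite G
  letI : Fintype K := Fintype.ofFinite K
  have hs1 : ∑ u : G, fib P u = Nat.card G := by
    have := sum_pt (G := G) P (fun _ => 1)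
    simp only [Finset.sum_const, Finset.card_univ, nsmul_eq_mul, mul_one] at this
    have h2 : ((∑ u : G, fib P u : ℕ) : ℂ) = (Nat.card G : ℂ) := by
      push_cast
      rw [← this, Fintype.card_eq_nat_card]
    exact_mod_cast h2
  have hs2 : ∑ u : G, rr K u = Nat.card G * Nat.card K := by
    have := sum_rr (G := G) K (fun _ => 1)
    simp only [Finset.sum_const, Finset.card_univ, nsmul_eq_mul, mul_one] at this
    have h2 : ((∑ u : G, rr K u : ℕ) : ℂ) = ((Nat.card G * Nat.card K : ℕ) : ℂ) := by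
      push_cast
      rw [← this, Fintype.card_eq_nat_card, Fintype.card_eq_nat_card]
    exact_mod_cast h2
  let T : G → Prop := fun u => u ∈ Subgroup.center G ∧ PiElt P u
  have hother : ∀ u : G, ¬ T u → fib P u * Nat.card K = rr K u := by
    intro u hu
    by_cases hp : PiElt P u
    · exact fib_mul_of_noncentral' hK hp (fun hz => hu ⟨hz, hp⟩)
    · rw [fib_eq_zero P hp, rr_eq_zero hK hp, zero_mul]
  have h1 : ∑ u : G, fib P u * Nat.card K = Nat.card G * Nat.card K := by
    rw [← Finset.sum_mul, hs1]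
  have h3 : (Finset.univ.filter T).card * (fib P (1 : G) * Nat.card K) =
      (Finset.univ.filter T).card * Nat.card G := by
    rw [← Finset.sum_filter_add_sum_filter_not Finset.univ T] at h1 hs2
    have h4 : ∑ u ∈ Finset.univ.filter (fun u => ¬ T u), fib P u * Nat.card K =
        ∑ u ∈ Finset.univ.filter (fun u => ¬ T u), rr K u :=
      Finset.sum_congr rfl fun u hu => hother u (Finset.mem_filter.mp hu).2
    have h5 : ∑ u ∈ Finset.univ.filter T, fib P u * Nat.card K =
        (Finset.univ.filter T).card * (fib P (1 : G) * Nat.card K) := by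
      have h8 : ∀ u ∈ Finset.univ.filter T, fib P u * Nat.card K = fib P (1 : G) * Nat.card K :=
        fun u hu => by
          rw [fib_of_central (Finset.mem_filter.mp hu).2.1 (Finset.mem_filter.mp hu).2.2]
      rw [Finset.sum_congr rfl h8, Finset.sum_const, smul_eq_mul]
    have h6 : ∑ u ∈ Finset.univ.filter T, rr K u =
        (Finset.univ.filter T).card * Nat.card G := by
      have h8 : ∀ u ∈ Finset.univ.filter T, rr K u = Nat.card G :=
        fun u hu => rr_of_central hK (Finset.mem_filter.mp hu).2.1 (Finset.mem_filter.mp hu).2.2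
      rw [Finset.sum_congr rfl h8, Finset.sum_const, smul_eq_mul]
    rw [h4, h5] at h1
    rw [h6] at hs2
    omega
  have hT : 0 < (Finset.univ.filter T).card := by
    apply Finset.card_pos.mpr
    exact ⟨1, Finset.mem_filter.mpr ⟨Finset.mem_univ _, Subgroup.one_mem _, PiElt.one⟩⟩
  have h7 := Nat.eq_of_mul_eq_mul_left hT h3
  by_cases ht : T u
  · rw [fib_of_central ht.1 ht.2, h7, rr_of_central hK ht.1 ht.2]
  · exact hother u ht

/-- The counting identity for class functions. -/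
theorem sum_class [Fintype G] [Fintype K] (hK : Hyp P K) (E : G → ℂ)
    (hE : ∀ g x, E (g * x * g⁻¹) = E x) :
    (Nat.card K : ℂ) * ∑ g, E (pt P g) = (Nat.card G : ℂ) * ∑ k : K, E k := by
  rw [sum_pt, Finset.mul_sum]
  have h1 : ∀ u : G, (Nat.card K : ℂ) * ((fib P u : ℂ) * E u) = (rr K u : ℂ) * E u := by
    intro u
    rw [← fib_mul_card hK u]
    push_cast
    ring
  rw [Finset.sum_congr rfl (fun u _ => h1 u), ← sum_rr K E]
  simp only [hE, Finset.sum_const, Finset.card_univ, nsmul_eq_mul]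
  rw [Fintype.card_eq_nat_card]

end Key

section Ext

variable {G : Type u} [Group G] [Finite G] {P : ℕ → Prop} {K : Subgroup G}

theorem exists_conj_pt (hK : Hyp P K) (g : G) : ∃ h : G, h⁻¹ * pt P g * h ∈ K :=
  exists_conj_elt hK (pt_pi P g)

/-- A conjugate in `K` of the `P`-part. -/
noncomputable def rep (hK : Hyp P K) (g : G) : K :=
  ⟨(exists_conj_pt hK g).choose⁻¹ * pt P g * (exists_conj_pt hK g).choose,
    (exists_conj_pt hK g).choose_spec⟩

/-- The extension of a function on `K`. -/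
noncomputable def ext (hK : Hyp P K) (φ : K → ℂ) (g : G) : ℂ := φ (rep hK g)

theorem ext_eq (hK : Hyp P K) {φ : K → ℂ} (hφ : IsClassFunction K φ) (g h : G)
    (hh : h⁻¹ * pt P g * h ∈ K) : ext hK φ g = φ ⟨_, hh⟩ := by
  set w := (exists_conj_pt hK g).choose with hw
  have hr : ((rep hK g : K) : G) = w⁻¹ * pt P g * w := rfl
  set t := h⁻¹ * w with ht
  have e : t * (rep hK g : K) * t⁻¹ = h⁻¹ * pt P g * h := by
    rw [hr, ht]; group
  obtain ⟨k, hk, e2⟩ := hK.fusion _ (rep hK g).2 t (by rw [e]; exact hh)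
  have e3 : (⟨_, hh⟩ : K) = (⟨k, hk⟩ : K) * rep hK g * (⟨k, hk⟩ : K)⁻¹ :=
    Subtype.ext (by
      show h⁻¹ * pt P g * h = _
      rw [← e, e2]; rfl)
  rw [e3, hφ]
  rfl

theorem ext_class (hK : Hyp P K) {φ : K → ℂ} (hφ : IsClassFunction K φ) :
    IsClassFunction G (ext hK φ) := by
  intro a b
  set w := (exists_conj_pt hK a).choose with hw
  have hw2 : w⁻¹ * pt P a * w ∈ K := (exists_conj_pt hK a).choose_spec
  have e : (b * w)⁻¹ * pt P (b * a * b⁻¹) * (b * w) = w⁻¹ * pt P a * w := by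
    rw [pt_conj]; group
  have hh : (b * w)⁻¹ * pt P (b * a * b⁻¹) * (b * w) ∈ K := by rw [e]; exact hw2
  rw [ext_eq hK hφ _ _ hh]
  exact congrArg φ (Subtype.ext e)

theorem ext_pt (hK : Hyp P K) {φ : K → ℂ} (hφ : IsClassFunction K φ) (g : G) :
    ext hK φ (pt P g) = ext hK φ g := by
  set w := (exists_conj_pt hK g).choose with hw
  have hw2 : w⁻¹ * pt P g * w ∈ K := (exists_conj_pt hK g).choose_spec
  have hh : w⁻¹ * pt P (pt P g) * w ∈ K := by rw [pt_pt]; exact hw2
  rw [ext_eq hK hφ _ _ hh]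
  exact congrArg φ (Subtype.ext (by simp only [pt_pt]; rfl))

theorem ext_coe (hK : Hyp P K) {φ : K → ℂ} (hφ : IsClassFunction K φ) (k : K) :
    ext hK φ (k : G) = φ k := by
  have hp : pt P (k : G) = k := pt_of_pi P (hK.pi k k.2)
  have hh : (1 : G)⁻¹ * pt P (k : G) * 1 ∈ K := by simp [hp]
  rw [ext_eq hK hφ _ _ hh]
  exact congrArg φ (Subtype.ext (by simp [hp]))

theorem classInner_ext [Fintype G] [Fintype K] (hK : Hyp P K) {φ : K → ℂ}
    (hφ : IsClassFunction K φ) : classInner (ext hK φ) (ext hK φ) = classInner φ φ := by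
  have hc := ext_class hK hφ
  have h1 := sum_class hK (fun g => ext hK φ g * conj (ext hK φ g))
    (fun g x => by simp only [hc x g])
  simp only [ext_pt hK hφ, ext_coe hK hφ] at h1
  unfold classInner
  have hG : (Nat.card G : ℂ) ≠ 0 := natCard_ne_zero'
  have hKn : (Nat.card K : ℂ) ≠ 0 := natCard_ne_zero'
  field_simp
  rw [mul_comm, h1]

end Ext

section Gen

variable {G : Type u} [Group G] [Fintype G] {P : ℕ → Prop} {K : Subgroup G}

theorem isGen_ext (hK : Hyp P K) {χ : K → ℂ} (hχ : IsCharacter K χ) :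
    IsGeneralizedCharacter G (ext hK χ) := by
  classical
  have hcf := isClassFunction_of_isCharacter hχ
  apply Cfsg.Agent.Lib.BrauerGlobal.isGeneralizedCharacter_of_elementary (ext_class hK hcf)
  intro E p hp hE
  haveI : Fact p.Prime := ⟨hp⟩
  haveI : Group.IsNilpotent E := Cfsg.Agent.Lib.Monomial.isNilpotent_of_isElementary hE
  obtain ⟨a, b, hab, hcop, ha, hb⟩ := exists_split P (Nat.card E) Nat.card_pos
  have hcard : Nat.card E ∣ a * b := by rw [hab]
  obtain ⟨k, k', h1, h2, h3, h4⟩ := Cfsg.Agent.Lib.HallParts.exists_exps a b hcop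
  have htot : ∀ x : E, x ^ (a * b) = 1 := by
    intro x
    rw [hab]
    exact pow_card_eq_one'
  -- the parts inside `E`
  have hA : ∀ x : E, (x ^ k) ^ a = 1 := fun x =>
    Cfsg.Agent.Lib.HallParts.part_pow_left h2 (htot x)
  have hB : ∀ x : E, (x ^ k') ^ b = 1 := fun x =>
    Cfsg.Agent.Lib.HallParts.part_pow_right h3 (htot x)
  have hmul : ∀ x : E, x ^ k * x ^ k' = x := fun x =>
    Cfsg.Agent.Lib.HallParts.parts_mul hcop h1 h2 h3 h4 (htot x)
  let A := Cfsg.Agent.Lib.HallParts.killed hcop hcard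
  let B := Cfsg.Agent.Lib.HallParts.killed' hcop hcard
  have hAm : ∀ x : E, x ^ a = 1 ↔ x ∈ A := fun x => Iff.rfl
  have hBm : ∀ x : E, x ^ b = 1 ↔ x ∈ B := fun x => Iff.rfl
  have hAB : ∀ x ∈ A, ∀ y ∈ B, Commute x y := fun x hx y hy =>
    Cfsg.Agent.Lib.HallParts.killed_commute hcop hcard x y hx hy
  -- the power map is a homomorphism on `E`
  have hhom : ∀ x y : E, (x * y) ^ k = x ^ k * y ^ k := by
    intro x y
    have e : x * y = (x ^ k * y ^ k) * (x ^ k' * y ^ k') := by
      have c : Commute (x ^ k') (y ^ k) := ((hAB _ (hA y) _ (hB x))).symm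
      calc x * y = x ^ k * x ^ k' * (y ^ k * y ^ k') := by rw [hmul, hmul]
        _ = x ^ k * (x ^ k' * y ^ k) * y ^ k' := by group
        _ = x ^ k * (y ^ k * x ^ k') * y ^ k' := by rw [c.eq]
        _ = _ := by group
    rw [e]
    exact Cfsg.Agent.Lib.HallParts.part_left_eq h1 h2
      (hAB _ (A.mul_mem (hA x) (hA y)) _ (B.mul_mem (hB x) (hB y)))
      (A.mul_mem (hA x) (hA y)) (B.mul_mem (hB x) (hB y))
  -- the parts in `G`
  have hpt : ∀ x : E, pt P (x : G) = ((x ^ k : E) : G) := by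
    intro x
    have hu : PiElt P ((x ^ k : E) : G) := by
      apply PiElt.of_pow_eq_one (a := a) _ ha
      have := hA x
      exact_mod_cast congrArg (Subtype.val) this
    have hv : PiElt (fun q => ¬ P q) ((x ^ k' : E) : G) := by
      apply PiElt.of_pow_eq_one (a := b) _ hb
      have := hB x
      exact_mod_cast congrArg (Subtype.val) this
    have hc : Commute ((x ^ k : E) : G) ((x ^ k' : E) : G) := by
      have := hAB _ (hA x) _ (hB x)
      have h9 := congrArg (Subtype.val) this.eq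
      exact h9
    have e : (x : G) = ((x ^ k : E) : G) * ((x ^ k' : E) : G) := by
      have := hmul x
      exact_mod_cast (congrArg (Subtype.val) this).symm
    conv_lhs => rw [e]
    exact (pt_eq P hu hv hc).1
  -- conjugate into `K`
  obtain ⟨h, hh⟩ := hK.conjInto (A.map E.subtype) (by
    rintro _ ⟨y, hy, rfl⟩
    apply PiElt.of_pow_eq_one (a := a) _ ha
    exact congrArg (Subtype.val) hy)
  have hk : ∀ x : E, h⁻¹ * ((x ^ k : E) : G) * h ∈ K := fun x =>
    hh _ ⟨_, hA x, rfl⟩
  let f : E →* K :=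
    { toFun := fun x => ⟨h⁻¹ * ((x ^ k : E) : G) * h, hk x⟩
      map_one' := Subtype.ext (by simp)
      map_mul' := fun x y => Subtype.ext (by
        simp only [hhom, Subgroup.coe_mul]
        group) }
  have hfin : (fun e : E => ext hK χ (e : G)) = χ ∘ f := by
    funext e
    have hh' : h⁻¹ * pt P (e : G) * h ∈ K := by rw [hpt]; exact hk e
    rw [ext_eq hK hcf _ _ hh']
    exact congrArg χ (Subtype.ext (by simp only [hpt]; rfl))
  rw [hfin]
  exact isGen_isCharacter_comp f (isGen_of_isChar hχ)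

end Gen

/-- **Normal complements from fusion control and counting.** -/
theorem exists_subgroup_of_hyp {G : Type u} [Group G] [Finite G] {P : ℕ → Prop} {K : Subgroup G}
    (hK : Hyp P K) : ∃ L : Subgroup G, ∀ x, x ∈ L ↔ PiElt (fun q => ¬ P q) x := by
  classical
  letI : Fintype G := Fintype.ofFinite G
  letI : Fintype K := Fintype.ofFinite K
  have hone : ∀ θ : IrrCharacter K, ext hK θ.1 (1 : G) = θ.1 1 := by
    intro θ
    have := ext_coe hK (isClassFunction_of_isCharacter (IsIrrCharacter.isCharacter θ.2)) (1 : K)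
    simpa using this
  have hT : ∀ θ : IrrCharacter K, IsCharacter G (ext hK θ.1) := by
    intro θ
    have hθ : IsCharacter K θ.1 := IsIrrCharacter.isCharacter θ.2
    have hgen := isGen_ext hK hθ
    have hnorm : classInner (ext hK θ.1) (ext hK θ.1) = 1 := by
      rw [classInner_ext hK (isClassFunction_of_isCharacter hθ)]
      exact classInner_irr_self θ.2
    obtain ⟨d, hd0, hd⟩ := isIrr_one_pos θ.2
    rcases gen_norm_one hgen hnorm with h | h
    · exact IsIrrCharacter.isCharacter h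
    · exfalso
      obtain ⟨d', hd'0, hd'⟩ := isIrr_one_pos h
      rw [Pi.neg_apply, hone, hd] at hd'
      have h1 : (d' : ℂ) + d = 0 := by rw [← hd']; ring
      have h2 : d' + d = 0 := by exact_mod_cast h1
      omega
  refine ⟨⨅ θ : IrrCharacter K, charKer (hT θ), fun g => ?_⟩
  rw [Subgroup.mem_iInf]
  have hstep : (∀ θ : IrrCharacter K, g ∈ charKer (hT θ)) ↔ rep hK g = 1 := by
    constructor
    · intro hg
      by_contra hne
      have hval : ∀ θ : IrrCharacter K, θ.1 (rep hK g) = θ.1 1 := by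
        intro θ
        have := (mem_charKer (hT θ)).mp (hg θ)
        rwa [hone] at this
      have hsum := sum_irr_deg_mul (G := K) (rep hK g)
      rw [if_neg hne] at hsum
      have hsum1 := sum_irr_deg_mul (G := K) (1 : K)
      rw [if_pos rfl] at hsum1
      have heq : ∑ χ : IrrCharacter K, (χ : K → ℂ) 1 * (χ : K → ℂ) (rep hK g) =
          ∑ χ : IrrCharacter K, (χ : K → ℂ) 1 * (χ : K → ℂ) 1 :=
        Finset.sum_congr rfl (fun θ _ => by rw [hval θ])
      rw [heq, hsum1] at hsum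
      exact Nat.card_pos.ne' (by exact_mod_cast hsum)
    · intro hr θ
      rw [mem_charKer, hone]
      show θ.1 (rep hK g) = θ.1 1
      rw [hr]
  rw [hstep]
  rw [← pt_eq_one_iff P]
  have hr : ((rep hK g : K) : G) = (exists_conj_pt hK g).choose⁻¹ * pt P g *
      (exists_conj_pt hK g).choose := rfl
  constructor
  · intro h
    have h2 := congrArg Subtype.val h
    rw [hr] at h2
    have h3 : ((1 : K) : G) = 1 := rfl
    rw [h3, mul_assoc, inv_mul_eq_iff_eq_mul, mul_one] at h2
    exact mul_right_cancel (b := (exists_conj_pt hK g).choose) (by rw [h2, one_mul])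
  · intro h
    apply Subtype.ext
    show (exists_conj_pt hK g).choose⁻¹ * pt P g * (exists_conj_pt hK g).choose = 1
    generalize (exists_conj_pt hK g).choose = w
    rw [h]
    simp

end Cfsg.Agent.Lib.PiExt
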