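import Mathlib
import Cfsg.Prelude.Def_HallClasses
import Cfsg.Agent.Lib.PiExt
import Cfsg.Agent.Lib.CoprimeInv
import Cfsg.Agent.Lib.HallParts

/-!
# Groups with conjugate maximal `π`-subgroups and homogeneous normalizers: basic lemmas
-/

set_option autoImplicit false
set_option linter.unusedSectionVars false
set_option linter.style.haveILetI false

namespace Cfsg.Agent.Lib.PiHom1

open Cfsg Cfsg.Agent.Lib.FrobCount Subgroup

universe u

section Basic

variable {G : Type u} [Group G]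

/-- Conjugate of a subgroup. -/
abbrev cj (g : G) (K : Subgroup G) : Subgroup G := K.map (MulAut.conj g).toMonoidHom

theorem mem_cj {g x : G} {K : Subgroup G} : x ∈ cj g K ↔ g⁻¹ * x * g ∈ K := by
  constructor
  · rintro ⟨y, hy, rfl⟩
    have e : g⁻¹ * (MulAut.conj g).toMonoidHom y * g = y := by
      show g⁻¹ * (g * y * g⁻¹) * g = y
      group
    rw [e]; exact hy
  · intro h
    refine ⟨_, h, ?_⟩
    show g * (g⁻¹ * x * g) * g⁻¹ = x
    group

theorem cj_cj (g h : G) (K : Subgroup G) : cj g (cj h K) = cj (g * h) K := by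
  ext x
  simp only [mem_cj, mul_inv_rev]
  have e : h⁻¹ * (g⁻¹ * x * g) * h = h⁻¹ * g⁻¹ * x * (g * h) := by group
  rw [e]

theorem cj_one (K : Subgroup G) : cj 1 K = K := by
  ext x
  simp

theorem cj_self {k : G} {K : Subgroup G} (hk : k ∈ K) : cj k K = K := by
  ext x
  rw [mem_cj]
  constructor
  · intro h
    have e : x = k * (k⁻¹ * x * k) * k⁻¹ := by group
    rw [e]
    exact K.mul_mem (K.mul_mem hk h) (K.inv_mem hk)
  · intro h
    exact K.mul_mem (K.mul_mem (K.inv_mem hk) h) hk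

theorem cj_le_cj {g : G} {A B : Subgroup G} (h : A ≤ B) : cj g A ≤ cj g B := Subgroup.map_mono h

theorem cj_inv_cj (g : G) (K : Subgroup G) : cj g⁻¹ (cj g K) = K := by
  rw [cj_cj, inv_mul_cancel, cj_one]

theorem cj_cj_inv (g : G) (K : Subgroup G) : cj g (cj g⁻¹ K) = K := by
  rw [cj_cj, mul_inv_cancel, cj_one]

theorem card_cj (g : G) (K : Subgroup G) : Nat.card (cj g K) = Nat.card K :=
  Nat.card_congr (K.equivMapOfInjective _ (MulAut.conj g).injective).symm.toEquiv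

theorem le_cj_iff {g : G} {A B : Subgroup G} : A ≤ cj g B ↔ cj g⁻¹ A ≤ B := by
  constructor
  · intro h
    have := cj_le_cj (g := g⁻¹) h
    rwa [cj_inv_cj] at this
  · intro h
    have := cj_le_cj (g := g) h
    rwa [cj_cj_inv] at this

theorem mem_normalizer_of_cj {m : G} {Q : Subgroup G} (h : cj m Q = Q) :
    m ∈ normalizer (Q : Set G) := by
  rw [Subgroup.mem_normalizer_iff]
  intro x
  constructor
  · intro hx
    have h2 : m * x * m⁻¹ ∈ cj m Q := by
      rw [mem_cj]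
      have e : m⁻¹ * (m * x * m⁻¹) * m = x := by group
      rwa [e]
    rwa [h] at h2
  · intro hx
    have h2 : m⁻¹ * (m * x * m⁻¹) * m ∈ Q := by
      rw [← mem_cj, h]; exact hx
    have e : m⁻¹ * (m * x * m⁻¹) * m = x := by group
    rwa [e] at h2

theorem cj_of_mem_normalizer {m : G} {Q : Subgroup G} (h : m ∈ normalizer (Q : Set G)) :
    cj m Q = Q := by
  ext x
  rw [mem_cj]
  rw [Subgroup.mem_normalizer_iff] at h
  have := h (m⁻¹ * x * m)
  have e : m * (m⁻¹ * x * m) * m⁻¹ = x := by group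
  rw [e] at this
  exact this

theorem cj_eq_of_mem_centralizer {c : G} {Q : Subgroup G} (h : c ∈ centralizer (Q : Set G)) :
    cj c Q = Q :=
  cj_of_mem_normalizer (centralizer_le_normalizer _ h)

theorem cj_inf_of_mem {c : G} {K C : Subgroup G} (hc : c ∈ C) : cj c (K ⊓ C) = cj c K ⊓ C := by
  ext x
  rw [Subgroup.mem_inf, mem_cj, mem_cj, Subgroup.mem_inf]
  constructor
  · rintro ⟨h1, h2⟩
    refine ⟨h1, ?_⟩
    have e : x = c * (c⁻¹ * x * c) * c⁻¹ := by group
    rw [e]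
    exact C.mul_mem (C.mul_mem hc h2) (C.inv_mem hc)
  · rintro ⟨h1, h2⟩
    exact ⟨h1, C.mul_mem (C.mul_mem (C.inv_mem hc) h2) hc⟩

end Basic

section Pi

variable {G : Type u} [Group G] [Finite G] (π : Set ℕ)

/-- `π`-elements. -/
abbrev Pe (x : G) : Prop := PiElt (fun q => q ∈ π) x

/-- `π'`-elements. -/
abbrev Qe (x : G) : Prop := PiElt (fun q => ¬ q ∈ π) x

variable {π}

theorem isPi_iff {H : Subgroup G} : IsPiSubgroup π H ↔ ∀ x ∈ H, Pe π x := by
  constructor
  · intro h x hx q hq hqx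
    exact h q hq (hqx.trans (Subgroup.orderOf_dvd_natCard H hx))
  · intro h q hq hqH
    haveI : Fact q.Prime := ⟨hq⟩
    obtain ⟨x, hx⟩ := exists_prime_orderOf_dvd_card' (G := H) q hqH
    have h1 := h x x.2 q hq
    rw [Subgroup.orderOf_coe, hx] at h1
    exact h1 (dvd_refl q)

theorem pe_qe_eq_one {x : G} (h1 : Pe π x) (h2 : Qe π x) : x = 1 := by
  by_contra hne
  have h3 : orderOf x ≠ 1 := fun h => hne (orderOf_eq_one_iff.mp h)
  obtain ⟨q, hq, hqx⟩ := Nat.exists_prime_and_dvd h3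
  exact h2 q hq hqx (h1 q hq hqx)

theorem isPi_bot : IsPiSubgroup π (⊥ : Subgroup G) := by
  rw [isPi_iff]
  intro x hx
  rw [Subgroup.mem_bot] at hx
  subst hx
  exact PiElt.one

theorem isPi_mono {A B : Subgroup G} (h : A ≤ B) (hB : IsPiSubgroup π B) : IsPiSubgroup π A := by
  rw [isPi_iff] at *
  exact fun x hx => hB x (h hx)

theorem isPi_cj (g : G) {K : Subgroup G} (hK : IsPiSubgroup π K) : IsPiSubgroup π (cj g K) := by
  intro p hp hd
  rw [card_cj] at hd
  exact hK p hp hd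

theorem isPi_zpowers {x : G} (hx : Pe π x) : IsPiSubgroup π (zpowers x) := by
  rw [isPi_iff]
  rintro _ ⟨j, rfl⟩
  exact hx.zpow j

theorem maximal_cj (g : G) {K : Subgroup G} (hK : Maximal (IsPiSubgroup π) K) :
    Maximal (IsPiSubgroup π) (cj g K) := by
  refine ⟨isPi_cj g hK.1, ?_⟩
  intro B hB hle
  have h1 : K ≤ cj g⁻¹ B := by
    rw [le_cj_iff, inv_inv]; exact hle
  have h2 := hK.2 (isPi_cj g⁻¹ hB) h1
  exact le_cj_iff.mpr h2

theorem exists_max {H : Subgroup G} (hH : IsPiSubgroup π H) :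
    ∃ K, Maximal (IsPiSubgroup π) K ∧ H ≤ K := by
  obtain ⟨K, hle, hK⟩ := (Set.toFinite {K : Subgroup G | IsPiSubgroup π K}).exists_le_maximal hH
  exact ⟨K, hK, hle⟩

theorem conj_into (hD : IsDPiGroup π G) {K H : Subgroup G} (hK : Maximal (IsPiSubgroup π) K)
    (hH : IsPiSubgroup π H) : ∃ g : G, H ≤ cj g K := by
  obtain ⟨K', hK', hle⟩ := exists_max hH
  obtain ⟨g, hg⟩ := hD K K' hK hK'
  rw [hg] at hle
  exact ⟨g, hle⟩

theorem not_dvd_index (hD : IsDPiGroup π G) {K : Subgroup G} (hK : Maximal (IsPiSubgroup π) K)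
    {p : ℕ} (hp : p.Prime) (hpπ : p ∈ π) : ¬ p ∣ K.index := by
  haveI : Fact p.Prime := ⟨hp⟩
  let S : Sylow p G := default
  have hS : IsPiSubgroup π (S : Subgroup G) := by
    intro q hq hqS
    obtain ⟨n, hn⟩ := IsPGroup.iff_card.mp S.isPGroup'
    rw [hn] at hqS
    have := (Nat.prime_dvd_prime_iff_eq hq hp).mp (hq.dvd_of_dvd_pow hqS)
    rwa [this]
  obtain ⟨g, hg⟩ := conj_into hD hK hS
  have h1 : cj g⁻¹ (S : Subgroup G) ≤ K := le_cj_iff.mp hg
  have h2 : (cj g⁻¹ (S : Subgroup G)).index = (S : Subgroup G).index :=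
    Subgroup.index_map_of_bijective (MulAut.conj g⁻¹).bijective _
  intro hd
  have h3 := hd.trans (Subgroup.index_dvd_of_le h1)
  rw [h2] at h3
  exact S.not_dvd_index h3

theorem sup_isPi {A B : Subgroup G} (hA : IsPiSubgroup π A) (hB : IsPiSubgroup π B)
    (h : B ≤ normalizer (A : Set G)) : IsPiSubgroup π (B ⊔ A) := by
  intro p hp hd
  have h1 := Cfsg.Agent.Lib.CoprimeInv.card_sup_mul_card_inf h
  have h2 : p ∣ Nat.card B * Nat.card A := by
    rw [← h1]
    exact hd.trans (dvd_mul_right _ _)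
  rcases (Nat.Prime.dvd_mul hp).mp h2 with h3 | h3
  · exact hB p hp h3
  · exact hA p hp h3

variable (π) in
/-- The homogeneity property. -/
def Hom (G : Type u) [Group G] : Prop :=
  ∀ H : Subgroup G, IsPiSubgroup π H → ∀ l ∈ normalizer (H : Set G), Qe π l →
    l ∈ centralizer (H : Set G)

theorem hom_of_relIndex
    (hhom : ∀ H : Subgroup G, H ≠ ⊥ → (∀ p : ℕ, p.Prime → p ∣ Nat.card ↥H → p ∈ π) →
        ∀ p : ℕ, p.Prime → p ∣ (Subgroup.centralizer (H : Set G)).relIndex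
          (Subgroup.normalizer (H : Set G)) → p ∈ π) : Hom π G := by
  intro H hH l hl hq
  by_cases hbot : H = ⊥
  · subst hbot
    rw [Subgroup.mem_centralizer_iff]
    intro h hh
    have : h = 1 := by simpa using hh
    simp [this]
  · have hn := hhom H hbot hH
    let N := normalizer (H : Set G)
    let C := centralizer (H : Set G)
    haveI : (C.subgroupOf N).Normal := Subgroup.normal_subgroupOf_centralizer_normalizer _
    have h1 : (⟨l, hl⟩ : N) ^ (C.subgroupOf N).index ∈ C.subgroupOf N :=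
      Subgroup.pow_index_mem _ _
    have h2 : l ^ (C.subgroupOf N).index ∈ C := h1
    have hcop : Nat.Coprime (C.subgroupOf N).index (orderOf l) := by
      apply Nat.coprime_of_dvd
      intro q hq1 hq2 hq3
      exact hq q hq1 hq3 (hn q hq1 hq2)
    obtain ⟨m, hm⟩ := exists_pow_eq_self_of_coprime hcop
    rw [← hm]
    exact C.pow_mem h2 m

theorem pow_parts (P : ℕ → Prop) (g : G) :
    ∃ k k' : ℕ, PiElt P (g ^ k) ∧ PiElt (fun q => ¬ P q) (g ^ k') ∧ g ^ k * g ^ k' = g := by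
  obtain ⟨a, b, hab, hcop, ha, hb⟩ := exists_split P (orderOf g) (orderOf_pos g)
  obtain ⟨k, k', h1, h2, h3, h4⟩ := Cfsg.Agent.Lib.HallParts.exists_exps a b hcop
  have htot : g ^ (a * b) = 1 := by rw [hab]; exact pow_orderOf_eq_one g
  refine ⟨k, k', ?_, ?_, Cfsg.Agent.Lib.HallParts.parts_mul hcop h1 h2 h3 h4 htot⟩
  · exact PiElt.of_pow_eq_one (Cfsg.Agent.Lib.HallParts.part_pow_left h2 htot) ha
  · exact PiElt.of_pow_eq_one (Cfsg.Agent.Lib.HallParts.part_pow_right h3 htot) hb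

theorem pe_pow {x : G} (hx : Pe π x) (k : ℕ) : Pe π (x ^ k) := by
  have := hx.zpow k
  simpa using this

theorem zpowers_le_normalizer {n : G} {K : Subgroup G} (h : n ∈ normalizer (K : Set G)) :
    zpowers n ≤ normalizer (K : Set G) := by
  rw [Subgroup.zpowers_le]; exact h

/-- Elements normalizing a maximal `π`-subgroup. -/
theorem normalizer_decomp (hom : Hom π G) {K : Subgroup G} (hK : Maximal (IsPiSubgroup π) K)
    {n : G} (hn : n ∈ normalizer (K : Set G)) :
    ∃ u ∈ K, ∃ v ∈ centralizer (K : Set G), n = u * v := by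
  obtain ⟨k, k', h1, h2, h3⟩ := pow_parts (fun q => q ∈ π) n
  refine ⟨n ^ k, ?_, n ^ k', ?_, h3.symm⟩
  · have h4 : IsPiSubgroup π (zpowers (n ^ k) ⊔ K) := by
      apply sup_isPi hK.1 (isPi_zpowers h1)
      rw [Subgroup.zpowers_le]
      exact Subgroup.pow_mem _ hn k
    have h5 := hK.2 h4 le_sup_right
    exact h5 (Subgroup.mem_sup_left (Subgroup.mem_zpowers _))
  · exact hom K hK.1 _ (Subgroup.pow_mem _ hn k') h2

/-- A Cauchy-type consequence: normal `π`-subgroups have centralizers of `π`-index. -/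
theorem qe_sylow_index {p : ℕ} [Fact p.Prime] (hpπ : p ∉ π) {C : Subgroup G}
    (hC : ∀ x : G, Qe π x → x ∈ C) : ¬ p ∣ C.index := by
  let S : Sylow p G := default
  have h1 : (S : Subgroup G) ≤ C := by
    intro x hx
    apply hC
    intro q hq hqx
    obtain ⟨n, hn⟩ := S.isPGroup' ⟨x, hx⟩
    have h2 : x ^ (p ^ n) = 1 := by
      have := congrArg Subtype.val hn
      simpa using this
    have h3 := (orderOf_dvd_of_pow_eq_one h2)
    have h4 := hq.dvd_of_dvd_pow (hqx.trans h3)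
    rw [(Nat.prime_dvd_prime_iff_eq hq Fact.out).mp h4]
    exact hpπ
  intro hd
  exact S.not_dvd_index (hd.trans (Subgroup.index_dvd_of_le h1))

theorem qe_of_orderOf {x : G} {M : Subgroup G} (hx : x ∈ M) :
    Qe π (⟨x, hx⟩ : M) ↔ Qe π x := by
  unfold Qe PiElt
  rw [Subgroup.orderOf_mk]

theorem pe_of_orderOf {x : G} {M : Subgroup G} (hx : x ∈ M) :
    Pe π (⟨x, hx⟩ : M) ↔ Pe π x := by
  unfold Pe PiElt
  rw [Subgroup.orderOf_mk]

end Pi

section Rel

variable {G : Type u} [Group G] [Finite G] {π : Set ℕ}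

variable (π) in
/-- The `π'`-elements form a subgroup. -/
def Closed (G : Type u) [Group G] : Prop := ∃ L : Subgroup G, ∀ x, x ∈ L ↔ Qe π x

variable (π) in
/-- The `π'`-elements of `M` are the elements of `M` in some subgroup. -/
def RelClosed (M : Subgroup G) : Prop := ∃ L : Subgroup G, ∀ x ∈ M, x ∈ L ↔ Qe π x

theorem relClosed_of_closed {M : Subgroup G} (h : Closed π ↥M) : RelClosed π M := by
  obtain ⟨L, hL⟩ := h
  refine ⟨L.map M.subtype, fun x hx => ?_⟩
  rw [← qe_of_orderOf hx, ← hL]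
  constructor
  · rintro ⟨y, hy, rfl⟩
    exact hy
  · intro h
    exact ⟨_, h, rfl⟩

theorem closed_of_relClosed {M : Subgroup G} (h : RelClosed π M) : Closed π ↥M := by
  obtain ⟨L, hL⟩ := h
  refine ⟨L.subgroupOf M, fun x => ?_⟩
  rw [Subgroup.mem_subgroupOf, hL _ x.2]
  exact (qe_of_orderOf x.2).symm

theorem RelClosed.mono {M N : Subgroup G} (h : RelClosed π M) (hle : N ≤ M) : RelClosed π N := by
  obtain ⟨L, hL⟩ := h
  exact ⟨L, fun x hx => hL x (hle hx)⟩

variable (π) in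
/-- Structure of a group whose `π'`-elements form a subgroup. -/
structure Struct (M L J : Subgroup G) : Prop where
  hL : L ≤ M
  hJ : J ≤ M
  memL : ∀ x ∈ M, x ∈ L ↔ Qe π x
  piJ : IsPiSubgroup π J
  card : Nat.card L * Nat.card J = Nat.card M
  dec : ∀ m ∈ M, ∃ l ∈ L, ∃ j ∈ J, m = l * j

theorem struct_top (h : Closed π G) : ∃ L J : Subgroup G, (∀ x, x ∈ L ↔ Qe π x) ∧
    IsPiSubgroup π J ∧ Nat.card L * Nat.card J = Nat.card G ∧
    ∀ g : G, ∃ l ∈ L, ∃ j ∈ J, g = l * j := by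
  classical
  obtain ⟨L, hL⟩ := h
  haveI hn : L.Normal := by
    constructor
    intro n hn g
    rw [hL] at hn ⊢
    exact (PiElt.conj g).mpr hn
  have hindex : ∀ q : ℕ, q.Prime → q ∣ L.index → q ∈ π := by
    intro q hq hd
    by_contra hqπ
    haveI : Fact q.Prime := ⟨hq⟩
    exact qe_sylow_index hqπ (fun x hx => (hL x).mpr hx) hd
  have hcardL : ∀ q : ℕ, q.Prime → q ∣ Nat.card L → q ∉ π := by
    intro q hq hd
    haveI : Fact q.Prime := ⟨hq⟩
    obtain ⟨x, hx⟩ := exists_prime_orderOf_dvd_card' (G := L) q hd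
    have h1 := (hL x).mp x.2 q hq
    rw [Subgroup.orderOf_coe, hx] at h1
    exact h1 (dvd_refl q)
  have hcop : (Nat.card L).Coprime L.index := by
    apply Nat.coprime_of_dvd
    intro q hq h1 h2
    exact hcardL q hq h1 (hindex q hq h2)
  obtain ⟨J, hJ⟩ := Subgroup.exists_right_complement'_of_coprime hcop
  have hJc : Nat.card J = L.index := hJ.symm.index_eq_card.symm
  refine ⟨L, J, hL, ?_, hJ.card_mul_card, ?_⟩
  · intro q hq hd
    rw [hJc] at hd
    exact hindex q hq hd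
  · intro g
    obtain ⟨⟨l, j⟩, hlj⟩ := hJ.2 g
    exact ⟨l, l.2, j, j.2, hlj.symm⟩

theorem struct_rel {M : Subgroup G} (h : RelClosed π M) : ∃ L J : Subgroup G, Struct π M L J := by
  obtain ⟨L, J, h1, h2, h3, h4⟩ := struct_top (closed_of_relClosed h)
  refine ⟨L.map M.subtype, J.map M.subtype, ?_⟩
  refine
    { hL := ?_
      hJ := ?_
      memL := ?_
      piJ := ?_
      card := ?_
      dec := ?_ }
  · rintro _ ⟨y, _, rfl⟩
    exact y.2
  · rintro _ ⟨y, _, rfl⟩
    exact y.2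
  · intro x hx
    rw [← qe_of_orderOf hx, ← h1]
    constructor
    · rintro ⟨y, hy, rfl⟩
      exact hy
    · intro h
      exact ⟨_, h, rfl⟩
  · intro q hq hd
    apply h2 q hq
    rwa [Nat.card_congr (J.equivMapOfInjective _ M.subtype_injective).toEquiv]
  · rw [Nat.card_congr (J.equivMapOfInjective _ M.subtype_injective).symm.toEquiv,
      Nat.card_congr (L.equivMapOfInjective _ M.subtype_injective).symm.toEquiv]
    exact h3
  · intro m hm
    obtain ⟨l, hl, j, hj, e⟩ := h4 ⟨m, hm⟩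
    exact ⟨l, ⟨l, hl, rfl⟩, j, ⟨j, hj, rfl⟩, congrArg Subtype.val e⟩

namespace Struct

variable {M L J : Subgroup G} (S : Struct π M L J)

include S

theorem qe {l : G} (hl : l ∈ L) : Qe π l := (S.memL l (S.hL hl)).mp hl

theorem conj_mem {m l : G} (hm : m ∈ M) (hl : l ∈ L) : m * l * m⁻¹ ∈ L :=
  (S.memL _ (M.mul_mem (M.mul_mem hm (S.hL hl)) (M.inv_mem hm))).mpr
    ((PiElt.conj m).mpr (S.qe hl))

theorem inf_bot {B : Subgroup G} (hB : IsPiSubgroup π B) : B ⊓ L = ⊥ := by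
  rw [eq_bot_iff]
  intro x hx
  rw [Subgroup.mem_bot]
  exact pe_qe_eq_one (isPi_iff.mp hB x hx.1) (S.qe hx.2)

theorem le_normalizer : M ≤ normalizer (L : Set G) := by
  intro m hm
  rw [Subgroup.mem_normalizer_iff]
  intro x
  constructor
  · exact fun hx => S.conj_mem hm hx
  · intro hx
    have := S.conj_mem (M.inv_mem hm) hx
    have e : m⁻¹ * (m * x * m⁻¹) * m⁻¹⁻¹ = x := by group
    rwa [e] at this

theorem card_le {B : Subgroup G} (hB : IsPiSubgroup π B) (hBM : B ≤ M) :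
    Nat.card B ≤ Nat.card J := by
  have h1 := Cfsg.Agent.Lib.CoprimeInv.card_sup_mul_card_inf (hBM.trans S.le_normalizer)
  rw [S.inf_bot hB, Subgroup.card_bot, mul_one] at h1
  have h2 : B ⊔ L ≤ M := sup_le hBM S.hL
  have h3 : Nat.card ↥(B ⊔ L) ≤ Nat.card M :=
    Nat.le_of_dvd Nat.card_pos (Subgroup.card_dvd_of_le h2)
  rw [h1, ← S.card, mul_comm] at h3
  exact Nat.le_of_mul_le_mul_left h3 Nat.card_pos

end Struct

variable (π) in
/-- Maximal `π`-subgroups of `M`, as subgroups of the ambient group. -/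
abbrev RelMax (M A : Subgroup G) : Prop := Maximal (fun A' : Subgroup G => IsPiSubgroup π A' ∧ A' ≤ M) A

theorem Struct.relMax {M L J : Subgroup G} (S : Struct π M L J) : RelMax π M J := by
  refine ⟨⟨S.piJ, S.hJ⟩, ?_⟩
  rintro B ⟨hB, hBM⟩ hle
  have h1 := S.card_le hB hBM
  exact (Subgroup.eq_of_le_of_card_ge hle h1).symm.le

theorem relMax_eq_inf {M A K : Subgroup G} (hA : RelMax π M A) (hK : IsPiSubgroup π K)
    (h : A ≤ K) : A = K ⊓ M := by
  apply le_antisymm (le_inf h hA.1.2)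
  exact hA.2 ⟨isPi_mono inf_le_left hK, inf_le_right⟩ (le_inf h hA.1.2)

theorem relMax_contains {M A Q : Subgroup G} (hA : RelMax π M A) (hQ : IsPiSubgroup π Q)
    (hQM : Q ≤ M) (hAQ : A ≤ normalizer (Q : Set G)) : Q ≤ A := by
  have h1 := sup_isPi hQ hA.1.1 hAQ
  have h2 : A ⊔ Q ≤ A := hA.2 ⟨h1, sup_le hA.1.2 hQM⟩ le_sup_left
  exact le_sup_right.trans h2

theorem relMax_of_maximal {M : Subgroup G} {H₀ : Subgroup M}
    (h : Maximal (IsPiSubgroup π) H₀) : RelMax π M (H₀.map M.subtype) := by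
  have hc : ∀ H : Subgroup M, Nat.card (H.map M.subtype) = Nat.card H := fun H =>
    Nat.card_congr (H.equivMapOfInjective _ M.subtype_injective).symm.toEquiv
  refine ⟨⟨?_, ?_⟩, ?_⟩
  · intro q hq hd
    rw [hc] at hd
    exact h.1 q hq hd
  · rintro _ ⟨y, _, rfl⟩
    exact y.2
  · rintro B ⟨hB, hBM⟩ hle
    have h1 : H₀ ≤ B.subgroupOf M := by
      intro x hx
      exact hle ⟨x, hx, rfl⟩
    have h2 : IsPiSubgroup π (B.subgroupOf M) := by
      rw [isPi_iff]
      intro x hx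
      have := isPi_iff.mp hB x hx
      exact (pe_of_orderOf x.2).mpr this
    have h3 := h.2 h2 h1
    intro x hx
    exact ⟨⟨x, hBM hx⟩, h3 hx, rfl⟩

/-- Conjugacy of maximal `π`-subgroups in `M` from conjugacy in `M` of maximal `π`-subgroups
of the group. -/
theorem dpi_of_orbit {M : Subgroup G}
    (h : ∀ A B, RelMax π M A → RelMax π M B → ∀ K₁ K₂, Maximal (IsPiSubgroup π) K₁ →
      Maximal (IsPiSubgroup π) K₂ → A ≤ K₁ → B ≤ K₂ → ∃ m ∈ M, K₂ = cj m K₁) :
    IsDPiGroup π ↥M := by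
  intro H₀ K₀ hH hK
  have hA := relMax_of_maximal hH
  have hB := relMax_of_maximal hK
  obtain ⟨K₁, hK₁, hle₁⟩ := exists_max hA.1.1
  obtain ⟨K₂, hK₂, hle₂⟩ := exists_max hB.1.1
  obtain ⟨m, hm, e⟩ := h _ _ hA hB K₁ K₂ hK₁ hK₂ hle₁ hle₂
  refine ⟨⟨m, hm⟩, ?_⟩
  have e1 := relMax_eq_inf hA hK₁.1 hle₁
  have e2 := relMax_eq_inf hB hK₂.1 hle₂
  have e3 : K₀.map M.subtype = cj m (H₀.map M.subtype) := by
    rw [e2, e1, e, cj_inf_of_mem hm]
  apply Subgroup.map_injective M.subtype_injective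
  rw [e3, Subgroup.map_map]
  show Subgroup.map (MulAut.conj m).toMonoidHom (Subgroup.map M.subtype H₀) = _
  rw [Subgroup.map_map]
  congr 1

theorem hom_sub (hom : Hom π G) (M : Subgroup G) : Hom π ↥M := by
  intro H hH l hl hq
  have h1 : IsPiSubgroup π (H.map M.subtype) := by
    intro q hq hd
    rw [Nat.card_congr (H.equivMapOfInjective _ M.subtype_injective).symm.toEquiv] at hd
    exact hH q hq hd
  have h2 : (l : G) ∈ normalizer ((H.map M.subtype : Subgroup G) : Set G) := by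
    rw [Subgroup.mem_normalizer_iff]
    intro x
    rw [Subgroup.mem_normalizer_iff] at hl
    constructor
    · rintro ⟨y, hy, rfl⟩
      exact ⟨_, (hl y).mp hy, rfl⟩
    · rintro ⟨y, hy, e⟩
      have hx : x ∈ M := by
        have e2 : x = (l : G)⁻¹ * (y : G) * l := by
          have e3 : (y : G) = l * x * (l : G)⁻¹ := e
          rw [e3]; group
        rw [e2]
        exact M.mul_mem (M.mul_mem (M.inv_mem l.2) y.2) l.2
      refine ⟨⟨x, hx⟩, ?_, rfl⟩
      have e3 : l * ⟨x, hx⟩ * l⁻¹ = y := Subtype.ext e.symm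
      exact (hl ⟨x, hx⟩).mpr (by rw [e3]; exact hy)
  have h3 := hom _ h1 (l : G) h2 ((qe_of_orderOf l.2).mp hq)
  rw [Subgroup.mem_centralizer_iff] at h3 ⊢
  intro h hh
  exact Subtype.ext (h3 _ ⟨h, hh, rfl⟩)

/-- The case of a noncentral normal `π`-subgroup. -/
theorem caseA (hD : IsDPiGroup π G) (hom : Hom π G)
    (hIH : ∀ M : Subgroup G, M ≠ ⊤ → IsDPiGroup π ↥M → Closed π ↥M)
    {H : Subgroup G} [hn : H.Normal] (hH : IsPiSubgroup π H)
    (hC : centralizer (H : Set G) ≠ ⊤) : Closed π G := by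
  classical
  set C := centralizer (H : Set G) with hCdef
  haveI : C.Normal := Subgroup.normal_centralizer
  have hq : ∀ x : G, Qe π x → x ∈ C := by
    intro x hx
    refine hom H hH x ?_ hx
    rw [Subgroup.normalizer_eq_top_iff.mpr hn]
    exact Subgroup.mem_top x
  have hdec : ∀ {K₁ : Subgroup G}, Maximal (IsPiSubgroup π) K₁ → ∀ g : G,
      ∃ c ∈ C, ∃ k ∈ K₁, g = c * k := by
    intro K₁ hK₁ g
    have h1 : (C ⊔ K₁).index = 1 := by
      by_contra hne
      obtain ⟨q, hq1, hq2⟩ := Nat.exists_prime_and_dvd hne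
      have h2 := hq2.trans (Subgroup.index_dvd_of_le (le_sup_left : C ≤ C ⊔ K₁))
      have h3 := hq2.trans (Subgroup.index_dvd_of_le (le_sup_right : K₁ ≤ C ⊔ K₁))
      by_cases hqπ : q ∈ π
      · exact not_dvd_index hD hK₁ hq1 hqπ h3
      · haveI : Fact q.Prime := ⟨hq1⟩
        exact qe_sylow_index hqπ hq h2
    have h2 : g ∈ ((C ⊔ K₁ : Subgroup G) : Set G) := by
      rw [Subgroup.index_eq_one.mp h1]
      exact Subgroup.mem_top g
    rw [Subgroup.normal_mul] at h2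
    obtain ⟨c, hc, k, hk, e⟩ := Set.mem_mul.mp h2
    exact ⟨c, hc, k, hk, e.symm⟩
  have hdpi : IsDPiGroup π ↥C := by
    apply dpi_of_orbit
    intro A B _ _ K₁ K₂ hK₁ hK₂ _ _
    obtain ⟨g, hg⟩ := hD K₁ K₂ hK₁ hK₂
    obtain ⟨c, hc, k, hk, rfl⟩ := hdec hK₁ g
    refine ⟨c, hc, ?_⟩
    rw [hg]
    show cj (c * k) K₁ = _
    rw [← cj_cj, cj_self hk]
  obtain ⟨L, hL⟩ := relClosed_of_closed (hIH C hC hdpi)
  exact ⟨L ⊓ C, fun x => ⟨fun hx => (hL x hx.2).mp hx.1,
    fun hx => ⟨(hL x (hq x hx)).mpr hx, hq x hx⟩⟩⟩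

end Rel

end Cfsg.Agent.Lib.PiHom1
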