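import Mathlib
import Cfsg.Agent.Lib.PiHom1

/-!
# Groups with conjugate maximal `π`-subgroups and homogeneous normalizers: the `π'`-elements form
a subgroup.
-/

set_option autoImplicit false
set_option linter.unusedSectionVars false
set_option linter.style.haveILetI false

namespace Cfsg.Agent.Lib.PiHom2

open Cfsg Cfsg.Agent.Lib.FrobCount Cfsg.Agent.Lib.PiHom1 Subgroup

universe u

section Sylow

variable {G : Type u} [Group G] [Finite G]

theorem isPi_of_isPGroup {π : Set ℕ} {p : ℕ} (hp : p.Prime) (hpπ : p ∈ π) {Q : Subgroup G}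
    (hQ : IsPGroup p Q) : IsPiSubgroup π Q := by
  intro q hq hd
  haveI : Fact p.Prime := ⟨hp⟩
  obtain ⟨n, hn⟩ := IsPGroup.iff_card.mp hQ
  rw [hn] at hd
  rw [(Nat.prime_dvd_prime_iff_eq hq hp).mp (hq.dvd_of_dvd_pow hd)]
  exact hpπ

theorem subgroupOf_isPGroup {p : ℕ} {Q : Subgroup G} (hQ : IsPGroup p Q) (M : Subgroup G) :
    IsPGroup p (Q.subgroupOf M) :=
  hQ.comap_of_injective M.subtype M.subtype_injective

theorem conj_into_sylow {M : Subgroup G} {p : ℕ} [Fact p.Prime] (S₀ : Sylow p M) {R : Subgroup G}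
    (hR : R ≤ M) (hp : IsPGroup p R) :
    ∃ n ∈ M, cj n R ≤ (S₀ : Subgroup M).map M.subtype := by
  obtain ⟨T, hT⟩ := (subgroupOf_isPGroup hp M).exists_le_sylow
  obtain ⟨n, hn⟩ := MulAction.exists_smul_eq M T S₀
  refine ⟨n, n.2, ?_⟩
  rw [← hn]
  rintro _ ⟨r, hr, rfl⟩
  have hr' : (⟨r, hR hr⟩ : M) ∈ (T : Subgroup M) := hT hr
  refine ⟨n * ⟨r, hR hr⟩ * n⁻¹, ?_, rfl⟩
  rw [Sylow.coe_subgroup_smul]
  exact ⟨_, hr', rfl⟩

theorem exists_normalizer_step {p : ℕ} [Fact p.Prime] {P Q : Subgroup G} (hP : IsPGroup p P)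
    (hlt : Q < P) : ∃ x ∈ P, x ∈ normalizer (Q : Set G) ∧ x ∉ Q := by
  haveI : Group.IsNilpotent P := hP.isNilpotent
  have h1 : Q.subgroupOf P < ⊤ := by
    rw [lt_top_iff_ne_top]
    intro h
    apply hlt.not_ge
    intro x hx
    have : (⟨x, hx⟩ : P) ∈ Q.subgroupOf P := h ▸ Subgroup.mem_top _
    exact this
  obtain ⟨y, hy1, hy2⟩ := SetLike.exists_of_lt (Group.normalizerCondition_of_isNilpotent _ h1)
  refine ⟨y, y.2, ?_, hy2⟩
  rw [Subgroup.mem_normalizer_iff]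
  rw [Subgroup.mem_normalizer_iff] at hy1
  intro h
  constructor
  · intro hh
    exact (hy1 ⟨h, hlt.le hh⟩).mp hh
  · intro hh
    have hhP : h ∈ P := by
      have e : h = (y : G)⁻¹ * ((y : G) * h * (y : G)⁻¹) * y := by group
      rw [e]
      exact P.mul_mem (P.mul_mem (P.inv_mem y.2) (hlt.le hh)) y.2
    exact (hy1 ⟨h, hhP⟩).mpr hh

end Sylow

section Ctx

variable {G : Type u} [Group G] [Finite G] {π : Set ℕ}

variable (π) in
/-- The global hypotheses of the main step. -/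
structure Ctx (G : Type u) [Group G] : Prop where
  hD : IsDPiGroup π G
  hom : Hom π G
  hIH : ∀ M : Subgroup G, M ≠ ⊤ → IsDPiGroup π ↥M → Closed π ↥M
  hB : ∀ H : Subgroup G, H.Normal → IsPiSubgroup π H → centralizer (H : Set G) = ⊤

variable (π) in
/-- Control of conjugacy of the maximal `π`-subgroups containing `Q` by the centralizer of `Q`. -/
def CL (Q : Subgroup G) : Prop :=
  ∀ K₁ K₂, Maximal (IsPiSubgroup π) K₁ → Maximal (IsPiSubgroup π) K₂ → Q ≤ K₁ → Q ≤ K₂ →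
    ∃ c ∈ centralizer (Q : Set G), K₂ = cj c K₁

variable (π) in
/-- The normalizer of `Q` is transitive on the maximal `π`-subgroups containing `Q`. -/
def Orb (Q : Subgroup G) : Prop :=
  ∃ KS, Maximal (IsPiSubgroup π) KS ∧ Q ≤ KS ∧ ∀ K₁, Maximal (IsPiSubgroup π) K₁ → Q ≤ K₁ →
    ∃ m ∈ normalizer (Q : Set G), KS = cj m K₁

theorem step1 (c : Ctx π G) {p : ℕ} [Fact p.Prime] (hpπ : p ∈ π) {Q : Subgroup G}
    (hQ : IsPGroup p Q) (IH : ∀ Q' : Subgroup G, Q < Q' → IsPGroup p Q' → CL π Q') : Orb π Q := by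
  classical
  have hpp : p.Prime := Fact.out
  obtain ⟨M, hM⟩ : ∃ M, M = normalizer (Q : Set G) := ⟨_, rfl⟩
  have hQM : Q ≤ M := hM ▸ le_normalizer
  obtain ⟨S₀, hS₀⟩ := (subgroupOf_isPGroup hQ M).exists_le_sylow
  obtain ⟨S, hS⟩ : ∃ S, S = (S₀ : Subgroup M).map M.subtype := ⟨_, rfl⟩
  have hSp : IsPGroup p S := hS ▸ S₀.isPGroup'.map M.subtype
  have hQS : Q ≤ S := by
    intro x hx
    rw [hS]
    exact ⟨⟨x, hQM hx⟩, hS₀ hx, rfl⟩
  obtain ⟨KS, hKS, hSKS⟩ := exists_max (isPi_of_isPGroup hpp hpπ hSp)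
  refine ⟨KS, hKS, hQS.trans hSKS, ?_⟩
  intro K₁ hK₁ hQK₁
  rw [← hM]
  obtain ⟨P₀, hP₀⟩ := (subgroupOf_isPGroup hQ K₁).exists_le_sylow
  obtain ⟨P₁, hP₁⟩ : ∃ P₁, P₁ = (P₀ : Subgroup K₁).map K₁.subtype := ⟨_, rfl⟩
  have hP₁p : IsPGroup p P₁ := hP₁ ▸ P₀.isPGroup'.map K₁.subtype
  have hP₁K : P₁ ≤ K₁ := by
    rw [hP₁]
    rintro _ ⟨y, _, rfl⟩
    exact y.2
  have hQP₁ : Q ≤ P₁ := by
    intro x hx
    rw [hP₁]
    exact ⟨⟨x, hQK₁ hx⟩, hP₀ hx, rfl⟩
  by_cases heq : P₁ = Q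
  · -- `Q` is a Sylow subgroup of `K₁`
    have hcard : Nat.card Q = p ^ (Nat.card K₁).factorization p := by
      rw [← heq, hP₁, Nat.card_congr
        ((P₀ : Subgroup K₁).equivMapOfInjective _ K₁.subtype_injective).symm.toEquiv]
      exact P₀.card_eq_multiplicity
    obtain ⟨g, hg⟩ := c.hD K₁ KS hK₁ hKS
    have hg' : KS = cj g K₁ := hg
    have h1 : cj g Q ≤ KS := by
      rw [hg']; exact cj_le_cj hQK₁
    have hcardKS : Nat.card KS = Nat.card K₁ := by rw [hg', card_cj]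
    have hQKS : Q ≤ KS := hQS.trans hSKS
    have hcard' : Nat.card (Q.subgroupOf KS) = p ^ (Nat.card KS).factorization p := by
      rw [hcardKS, ← hcard]
      exact Nat.card_congr (Subgroup.subgroupOfEquivOfLe hQKS).toEquiv
    let T₀ : Sylow p KS := Sylow.ofCard _ hcard'
    have hT₀ : ((T₀ : Subgroup KS)).map KS.subtype = Q := by
      show (Q.subgroupOf KS).map KS.subtype = Q
      rw [Subgroup.map_subgroupOf_eq_of_le hQKS]
    obtain ⟨k, hk, hle⟩ := conj_into_sylow T₀ h1 (hQ.map _)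
    rw [hT₀, cj_cj] at hle
    have e : cj (k * g) Q = Q := by
      apply Subgroup.eq_of_le_of_card_ge hle
      rw [card_cj]
    refine ⟨k * g, hM ▸ mem_normalizer_of_cj e, ?_⟩
    rw [← cj_cj, ← hg', cj_self hk]
  · have hlt : Q < P₁ := lt_of_le_of_ne hQP₁ (Ne.symm heq)
    obtain ⟨x, hxP, hxN, hxQ⟩ := exists_normalizer_step hP₁p hlt
    have hxM : x ∈ M := hM ▸ hxN
    obtain ⟨n, hn, hle⟩ := conj_into_sylow S₀ (inf_le_right : P₁ ⊓ M ≤ M)
      (hP₁p.to_le inf_le_left)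
    rw [← hS] at hle
    have hQQ₁ : Q < cj n (P₁ ⊓ M) := by
      have hQn : cj n Q = Q := cj_of_mem_normalizer (hM ▸ hn)
      refine lt_of_le_of_ne ?_ ?_
      · have := cj_le_cj (g := n) (le_inf hQP₁ hQM)
        rwa [hQn] at this
      · intro e
        have h2 : n * x * n⁻¹ ∈ cj n (P₁ ⊓ M) := by
          rw [mem_cj]
          have e' : n⁻¹ * (n * x * n⁻¹) * n = x := by group
          rw [e']
          exact ⟨hxP, hxM⟩
        rw [← e] at h2
        apply hxQ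
        have h3 : n⁻¹ * (n * x * n⁻¹) * n ∈ Q := by
          rw [← mem_cj, hQn]; exact h2
        have e' : n⁻¹ * (n * x * n⁻¹) * n = x := by group
        rwa [e'] at h3
    have hpQ₁ : IsPGroup p (cj n (P₁ ⊓ M)) := (hP₁p.to_le inf_le_left).map _
    obtain ⟨d, hd, e⟩ := IH _ hQQ₁ hpQ₁ (cj n K₁) KS (maximal_cj n hK₁) hKS
      (cj_le_cj (inf_le_left.trans hP₁K)) (hle.trans hSKS)
    have hdM : d ∈ M := by
      rw [hM]
      apply centralizer_le_normalizer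
      exact Subgroup.centralizer_le hQQ₁.le hd
    exact ⟨d * n, M.mul_mem hdM hn, by rw [e, cj_cj]⟩

theorem dpi_normalizer {Q : Subgroup G} (hpi : IsPiSubgroup π Q) (hO : Orb π Q) :
    IsDPiGroup π ↥(normalizer (Q : Set G)) := by
  obtain ⟨KS, hKS, hQKS, horb⟩ := hO
  apply dpi_of_orbit
  intro A B hA hB K₁ K₂ hK₁ hK₂ hle₁ hle₂
  have h1 : Q ≤ A := relMax_contains hA hpi le_normalizer hA.1.2
  have h2 : Q ≤ B := relMax_contains hB hpi le_normalizer hB.1.2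
  obtain ⟨m₁, hm₁, e₁⟩ := horb K₁ hK₁ (h1.trans hle₁)
  obtain ⟨m₂, hm₂, e₂⟩ := horb K₂ hK₂ (h2.trans hle₂)
  refine ⟨m₂⁻¹ * m₁, mul_mem (inv_mem hm₂) hm₁, ?_⟩
  rw [← cj_cj, ← e₁, e₂, cj_inv_cj]

theorem cl_of_orb (c : Ctx π G) {Q : Subgroup G} (hpi : IsPiSubgroup π Q) (hO : Orb π Q) :
    CL π Q := by
  intro K₁ K₂ hK₁ hK₂ h₁ h₂
  have hdpi := dpi_normalizer hpi hO
  obtain ⟨KS, hKS, hQKS, horb⟩ := hO
  by_cases hM : normalizer (Q : Set G) = ⊤
  · haveI : Q.Normal := Subgroup.normalizer_eq_top_iff.mp hM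
    have hC := c.hB Q inferInstance hpi
    obtain ⟨g, hg⟩ := c.hD K₁ K₂ hK₁ hK₂
    exact ⟨g, hC ▸ Subgroup.mem_top g, hg⟩
  · obtain ⟨L, J, S⟩ := struct_rel (relClosed_of_closed (c.hIH _ hM hdpi))
    have hQJ : Q ≤ J := relMax_contains S.relMax hpi le_normalizer S.hJ
    obtain ⟨KJ, hKJ, hJKJ⟩ := exists_max S.piJ
    have key : ∀ K, Maximal (IsPiSubgroup π) K → Q ≤ K → ∃ l ∈ L, K = cj l KJ := by
      intro K hK hQK
      obtain ⟨m, hm, e⟩ := horb K hK hQK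
      obtain ⟨m', hm', e'⟩ := horb KJ hKJ (hQJ.trans hJKJ)
      obtain ⟨l, hl, j, hj, e2⟩ := S.dec _ (mul_mem (inv_mem hm) hm')
      refine ⟨l, hl, ?_⟩
      have e3 : K = cj (m⁻¹ * m') KJ := by
        rw [← cj_cj, ← e', e, cj_inv_cj]
      rw [e3, e2, ← cj_cj, cj_self (hJKJ hj)]
    obtain ⟨l₁, hl₁, e₁⟩ := key K₁ hK₁ h₁
    obtain ⟨l₂, hl₂, e₂⟩ := key K₂ hK₂ h₂
    have hLC : ∀ l ∈ L, l ∈ centralizer (Q : Set G) := fun l hl =>
      c.hom Q hpi l (S.hL hl) (S.qe hl)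
    refine ⟨l₂ * l₁⁻¹, mul_mem (hLC _ hl₂) (inv_mem (hLC _ hl₁)), ?_⟩
    rw [e₁, e₂, cj_cj]
    simp

theorem cl_main (c : Ctx π G) {p : ℕ} [Fact p.Prime] (hpπ : p ∈ π) (Q : Subgroup G)
    (hQ : IsPGroup p Q) : CL π Q := by
  induction Q using WellFoundedGT.induction with
  | ind Q ih =>
    exact cl_of_orb c (isPi_of_isPGroup Fact.out hpπ hQ)
      (step1 c hpπ hQ (fun Q' hlt hQ' => ih Q' hlt hQ'))

theorem orb_main (c : Ctx π G) {p : ℕ} [Fact p.Prime] (hpπ : p ∈ π) {Q : Subgroup G}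
    (hQ : IsPGroup p Q) : Orb π Q :=
  step1 c hpπ hQ (fun Q' _ hQ' => cl_main c hpπ Q' hQ')

theorem mem_centralizer_zpowers {y c : G} :
    c ∈ centralizer ((zpowers y : Subgroup G) : Set G) ↔ c ∈ centralizer ({y} : Set G) := by
  rw [Subgroup.mem_centralizer_singleton_iff, Subgroup.mem_centralizer_iff]
  constructor
  · intro h
    exact (h y (Subgroup.mem_zpowers y)).symm
  · rintro h _ ⟨j, rfl⟩
    have h2 : Commute c y := h
    exact (h2.zpow_right j).symm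

theorem centralizer_le_norm_zpowers {y : G} :
    centralizer ({y} : Set G) ≤ normalizer ((zpowers y : Subgroup G) : Set G) := fun _ hc =>
  centralizer_le_normalizer _ (mem_centralizer_zpowers.mpr hc)

theorem isPGroup_zpowers_of_piElt {p : ℕ} [Fact p.Prime] {y : G} (hy : PiElt (fun q => q = p) y) :
    IsPGroup p (zpowers y) := by
  apply IsPGroup.of_card (n := (orderOf y).primeFactorsList.length)
  rw [Nat.card_zpowers]
  exact Nat.eq_prime_pow_of_unique_prime_dvd (orderOf_pos y).ne' (fun {d} hd hdy => hy d hd hdy)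

/-- The centralizer of a noncentral `p`-element has the subgroup property. -/
theorem relClosed_centralizer (c : Ctx π G) {p : ℕ} [Fact p.Prime] (hpπ : p ∈ π) {y : G}
    (hy : IsPGroup p (zpowers y)) (hz : y ∉ center G) : RelClosed π (centralizer ({y} : Set G)) := by
  have hpi := isPi_of_isPGroup Fact.out hpπ hy
  have hM : normalizer ((zpowers y : Subgroup G) : Set G) ≠ ⊤ := by
    intro hM
    haveI : (zpowers y).Normal := Subgroup.normalizer_eq_top_iff.mp hM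
    have hC := c.hB _ inferInstance hpi
    apply hz
    rw [Subgroup.mem_center_iff]
    intro g
    have h1 : g ∈ centralizer ((zpowers y : Subgroup G) : Set G) := hC ▸ Subgroup.mem_top g
    exact Subgroup.mem_centralizer_singleton_iff.mp (mem_centralizer_zpowers.mp h1)
  exact (relClosed_of_closed (c.hIH _ hM (dpi_normalizer hpi (orb_main c hpπ hy)))).mono
    centralizer_le_norm_zpowers

/-- Fusion of `p`-elements. -/
theorem fusion_p (c : Ctx π G) {p : ℕ} [Fact p.Prime] (hpπ : p ∈ π) {y : G}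
    (hy : IsPGroup p (zpowers y)) {K : Subgroup G} (hK : Maximal (IsPiSubgroup π) K)
    (hyK : y ∈ K) {g : G} (hg : g * y * g⁻¹ ∈ K) : ∃ k ∈ K, g * y * g⁻¹ = k * y * k⁻¹ := by
  have h1 : zpowers y ≤ cj g⁻¹ K := by
    rw [Subgroup.zpowers_le, mem_cj, inv_inv]
    exact hg
  obtain ⟨d, hd, e⟩ := cl_main c hpπ _ hy K (cj g⁻¹ K) hK (maximal_cj _ hK)
    ((Subgroup.zpowers_le).mpr hyK) h1
  have hd' : d * y = y * d :=
    Subgroup.mem_centralizer_singleton_iff.mp (mem_centralizer_zpowers.mp hd)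
  have e2 : cj (g * d) K = K := by
    rw [← cj_cj, ← e, cj_cj_inv]
  have hn := mem_normalizer_of_cj e2
  obtain ⟨u, hu, v, hv, e3⟩ := normalizer_decomp c.hom hK hn
  refine ⟨u, hu, ?_⟩
  have hv' : y * v = v * y := by
    rw [Subgroup.mem_centralizer_iff] at hv
    exact hv y hyK
  have e4 : g = u * v * d⁻¹ := by rw [← e3]; group
  rw [e4]
  calc u * v * d⁻¹ * y * (u * v * d⁻¹)⁻¹ = u * v * (d⁻¹ * y * d) * v⁻¹ * u⁻¹ := by group
    _ = u * v * y * v⁻¹ * u⁻¹ := by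
      congr 3
      rw [mul_assoc, ← hd']
      group
    _ = u * (y * v) * v⁻¹ * u⁻¹ := by rw [hv']; group
    _ = u * y * u⁻¹ := by group

/-- Fusion inside the centralizer of a noncentral `p`-element. -/
theorem fusion_local (c : Ctx π G) {p : ℕ} [Fact p.Prime] (hpπ : p ∈ π) {y : G}
    (hy : IsPGroup p (zpowers y)) (hz : y ∉ center G) {K : Subgroup G}
    (hK : Maximal (IsPiSubgroup π) K) (hyK : y ∈ K) {x g : G} (hxK : x ∈ K)
    (hxC : x ∈ centralizer ({y} : Set G)) (hgC : g ∈ centralizer ({y} : Set G))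
    (hg : g * x * g⁻¹ ∈ K) : ∃ b ∈ K, g * x * g⁻¹ = b * x * b⁻¹ := by
  obtain ⟨C, hC⟩ : ∃ C, C = centralizer ({y} : Set G) := ⟨_, rfl⟩
  rw [← hC] at hxC hgC
  have hpi := isPi_of_isPGroup Fact.out hpπ hy
  have hcl := relClosed_centralizer c hpπ hy hz
  rw [← hC] at hcl
  obtain ⟨L, J, S⟩ := struct_rel hcl
  have hyC : zpowers y ≤ C := by
    rw [Subgroup.zpowers_le, hC, Subgroup.mem_centralizer_singleton_iff]
  have hyJ : zpowers y ≤ J := relMax_contains S.relMax hpi hyC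
    (S.hJ.trans (hC ▸ centralizer_le_norm_zpowers))
  obtain ⟨K₁, hK₁, hJK₁⟩ := exists_max S.piJ
  obtain ⟨t, ht, e⟩ := cl_main c hpπ _ hy K K₁ hK hK₁ ((Subgroup.zpowers_le).mpr hyK)
    (hyJ.trans hJK₁)
  have htC : t ∈ C := by
    rw [hC]; exact mem_centralizer_zpowers.mp ht
  have hdec : ∀ m ∈ C, ∃ l ∈ L, ∃ b ∈ K ⊓ C, m = l * b := by
    intro m hm
    obtain ⟨l, hl, j, hj, e2⟩ := S.dec (t * m * t⁻¹) (C.mul_mem (C.mul_mem htC hm) (C.inv_mem htC))
    refine ⟨t⁻¹ * l * t, ?_, t⁻¹ * j * t, ⟨?_, ?_⟩, ?_⟩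
    · have := S.conj_mem (C.inv_mem htC) hl
      rwa [inv_inv] at this
    · have h1 : j ∈ cj t K := e ▸ hJK₁ hj
      exact mem_cj.mp h1
    · exact C.mul_mem (C.mul_mem (C.inv_mem htC) (S.hJ hj)) htC
    · calc m = t⁻¹ * (t * m * t⁻¹) * t := by group
        _ = t⁻¹ * (l * j) * t := by rw [e2]
        _ = _ := by group
  obtain ⟨l, hl, b, hb, e2⟩ := hdec g hgC
  refine ⟨b, hb.1, ?_⟩
  have ha : b * x * b⁻¹ ∈ K ⊓ C :=
    (K ⊓ C).mul_mem ((K ⊓ C).mul_mem hb ⟨hxK, hxC⟩) ((K ⊓ C).inv_mem hb)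
  obtain ⟨a, hae⟩ : ∃ a, a = b * x * b⁻¹ := ⟨_, rfl⟩
  rw [← hae] at ha
  have e3 : g * x * g⁻¹ = l * a * l⁻¹ := by
    rw [e2, hae]; group
  have hla : l * a * l⁻¹ ∈ K ⊓ C := by
    refine ⟨e3 ▸ hg, ?_⟩
    exact C.mul_mem (C.mul_mem (S.hL hl) ha.2) (C.inv_mem (S.hL hl))
  have ht1 : l * a * l⁻¹ * a⁻¹ ∈ K ⊓ C := (K ⊓ C).mul_mem hla ((K ⊓ C).inv_mem ha)
  have ht2 : l * a * l⁻¹ * a⁻¹ ∈ L := by
    have e4 : l * a * l⁻¹ * a⁻¹ = l * (a * l⁻¹ * a⁻¹) := by group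
    rw [e4]
    exact L.mul_mem hl (S.conj_mem ha.2 (L.inv_mem hl))
  have ht3 : l * a * l⁻¹ * a⁻¹ = 1 := by
    have h5 : l * a * l⁻¹ * a⁻¹ ∈ (K ⊓ C) ⊓ L := ⟨ht1, ht2⟩
    rw [S.inf_bot (isPi_mono inf_le_left hK.1)] at h5
    exact h5
  rw [e3, ← hae]
  exact mul_inv_eq_one.mp ht3

/-- **Fusion control in maximal `π`-subgroups.** -/
theorem fusion_gen (c : Ctx π G) {K : Subgroup G} (hK : Maximal (IsPiSubgroup π) K) :
    ∀ x ∈ K, ∀ g : G, g * x * g⁻¹ ∈ K → ∃ k ∈ K, g * x * g⁻¹ = k * x * k⁻¹ := by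
  intro x
  induction hn : orderOf x using Nat.strong_induction_on generalizing x with
  | _ n ih =>
    intro hx g hg
    by_cases hx1 : x = 1
    · subst hx1
      exact ⟨1, K.one_mem, by simp⟩
    have hord : orderOf x ≠ 1 := fun h => hx1 (orderOf_eq_one_iff.mp h)
    obtain ⟨p, hp, hpx⟩ := Nat.exists_prime_and_dvd hord
    haveI : Fact p.Prime := ⟨hp⟩
    have hpπ : p ∈ π := isPi_iff.mp hK.1 x hx p hp hpx
    obtain ⟨a, b, hy, hx', e⟩ := pow_parts (fun q => q = p) x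
    have hyp : IsPGroup p (zpowers (x ^ a)) := isPGroup_zpowers_of_piElt hy
    have hyK : x ^ a ∈ K := K.pow_mem hx a
    have hx'K : x ^ b ∈ K := K.pow_mem hx b
    have hgy : g * x ^ a * g⁻¹ ∈ K := by
      rw [← conj_pow]
      exact K.pow_mem hg a
    have hgx' : g * x ^ b * g⁻¹ ∈ K := by
      rw [← conj_pow]
      exact K.pow_mem hg b
    have hcomm : Commute (x ^ a) (x ^ b) := (Commute.refl x).pow_pow a b
    have hlt : orderOf (x ^ b) < n := by
      rw [← hn]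
      apply lt_of_le_of_ne (Nat.le_of_dvd (orderOf_pos x) (orderOf_pow_dvd b))
      intro h
      exact hx' p hp (h ▸ hpx) rfl
    by_cases hz : x ^ a ∈ center G
    · obtain ⟨k, hk, e2⟩ := ih _ hlt (x ^ b) rfl hx'K g hgx'
      refine ⟨k, hk, ?_⟩
      have hc : ∀ w : G, w * x ^ a = x ^ a * w := Subgroup.mem_center_iff.mp hz
      have e3 : g * x * g⁻¹ = (g * x ^ a * g⁻¹) * (g * x ^ b * g⁻¹) := by
        conv_lhs => rw [← e]
        group
      have e4 : g * x ^ a * g⁻¹ = x ^ a := by rw [hc g]; group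
      rw [e3, e4, e2]
      conv_rhs => rw [← e]
      calc x ^ a * (k * x ^ b * k⁻¹) = (x ^ a * k) * x ^ b * k⁻¹ := by group
        _ = (k * x ^ a) * x ^ b * k⁻¹ := by rw [hc k]
        _ = _ := by group
    · obtain ⟨k, hk, e2⟩ := fusion_p c hpπ hyp hK hyK hgy
      have hg₁ : k⁻¹ * g ∈ centralizer ({x ^ a} : Set G) := by
        rw [Subgroup.mem_centralizer_singleton_iff]
        have e3 : g * x ^ a = k * x ^ a * k⁻¹ * g := by
          rw [← e2]; group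
        calc k⁻¹ * g * x ^ a = k⁻¹ * (g * x ^ a) := by group
          _ = k⁻¹ * (k * x ^ a * k⁻¹ * g) := by rw [e3]
          _ = _ := by group
      have hxC : x ∈ centralizer ({x ^ a} : Set G) := by
        rw [Subgroup.mem_centralizer_singleton_iff]
        exact ((Commute.refl x).pow_right a).eq
      have hg₁K : (k⁻¹ * g) * x * (k⁻¹ * g)⁻¹ ∈ K := by
        have e3 : (k⁻¹ * g) * x * (k⁻¹ * g)⁻¹ = k⁻¹ * (g * x * g⁻¹) * k := by group
        rw [e3]
        exact K.mul_mem (K.mul_mem (K.inv_mem hk) hg) hk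
      obtain ⟨d, hd, e3⟩ := fusion_local c hpπ hyp hz hK hyK hx hxC hg₁ hg₁K
      refine ⟨k * d, K.mul_mem hk hd, ?_⟩
      calc g * x * g⁻¹ = k * ((k⁻¹ * g) * x * (k⁻¹ * g)⁻¹) * k⁻¹ := by group
        _ = k * (d * x * d⁻¹) * k⁻¹ := by rw [e3]
        _ = _ := by group

/-- The count in centralizers. -/
theorem cnt_of (c : Ctx π G) {K : Subgroup G} (hK : Maximal (IsPiSubgroup π) K) {x : G}
    (hx : x ∈ K) (hz : x ∉ center G) :
    Nat.card {y : G // Qe π y ∧ Commute x y} *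
      Nat.card ↥(K ⊓ centralizer ({x} : Set G)) = Nat.card (centralizer ({x} : Set G)) := by
  obtain ⟨C, hC⟩ : ∃ C, C = centralizer ({x} : Set G) := ⟨_, rfl⟩
  rw [← hC]
  have hpix : IsPiSubgroup π (zpowers x) := isPi_zpowers (isPi_iff.mp hK.1 x hx)
  have hxC : zpowers x ≤ C := by
    rw [Subgroup.zpowers_le, hC, Subgroup.mem_centralizer_singleton_iff]
  have hCN : C ≤ normalizer ((zpowers x : Subgroup G) : Set G) := hC ▸ centralizer_le_norm_zpowers
  have hCne : C ≠ ⊤ := by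
    intro h
    apply hz
    rw [Subgroup.mem_center_iff]
    intro g
    have h1 : g ∈ C := h ▸ Subgroup.mem_top g
    rw [hC] at h1
    exact Subgroup.mem_centralizer_singleton_iff.mp h1
  have horb : ∀ K₁ K₂, Maximal (IsPiSubgroup π) K₁ → Maximal (IsPiSubgroup π) K₂ → x ∈ K₁ →
      x ∈ K₂ → ∃ m ∈ C, K₂ = cj m K₁ := by
    intro K₁ K₂ hK₁ hK₂ hx₁ hx₂
    obtain ⟨g, hg⟩ := c.hD K₁ K₂ hK₁ hK₂
    have hg' : K₂ = cj g K₁ := hg
    have h1 : g⁻¹ * x * g⁻¹⁻¹ ∈ K₁ := by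
      rw [inv_inv]
      rw [hg'] at hx₂
      exact mem_cj.mp hx₂
    obtain ⟨b, hb, e⟩ := fusion_gen c hK₁ x hx₁ g⁻¹ h1
    refine ⟨g * b, ?_, ?_⟩
    · rw [hC, Subgroup.mem_centralizer_singleton_iff]
      rw [inv_inv] at e
      calc g * b * x = g * (b * x * b⁻¹) * b := by group
        _ = g * (g⁻¹ * x * g) * b := by rw [e]
        _ = x * (g * b) := by group
    · rw [← cj_cj, cj_self hb]
      exact hg'
  have hdpi : IsDPiGroup π ↥C := by
    apply dpi_of_orbit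
    intro A B hA hB K₁ K₂ hK₁ hK₂ hle₁ hle₂
    have hxA : zpowers x ≤ A := relMax_contains hA hpix hxC (hA.1.2.trans hCN)
    have hxB : zpowers x ≤ B := relMax_contains hB hpix hxC (hB.1.2.trans hCN)
    exact horb K₁ K₂ hK₁ hK₂ (hle₁ (hxA (Subgroup.mem_zpowers x)))
      (hle₂ (hxB (Subgroup.mem_zpowers x)))
  obtain ⟨L, J, S⟩ := struct_rel (relClosed_of_closed (c.hIH C hCne hdpi))
  have hxJ : zpowers x ≤ J := relMax_contains S.relMax hpix hxC (S.hJ.trans hCN)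
  obtain ⟨K₃, hK₃, hJK₃⟩ := exists_max S.piJ
  obtain ⟨t, ht, e⟩ := horb K K₃ hK hK₃ hx (hJK₃ (hxJ (Subgroup.mem_zpowers x)))
  have hcard1 : Nat.card J ≤ Nat.card ↥(K ⊓ C) := by
    have h1 : cj t⁻¹ J ≤ K ⊓ C := by
      intro w hw
      rw [mem_cj, inv_inv] at hw
      refine ⟨?_, ?_⟩
      · have h2 : t * w * t⁻¹ ∈ cj t K := e ▸ hJK₃ hw
        rw [mem_cj] at h2
        have e' : t⁻¹ * (t * w * t⁻¹) * t = w := by group
        rwa [e'] at h2
      · have h2 := S.hJ hw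
        have e' : w = t⁻¹ * (t * w * t⁻¹) * t := by group
        rw [e']
        exact C.mul_mem (C.mul_mem (C.inv_mem ht) h2) ht
    have h2 := Nat.le_of_dvd Nat.card_pos (Subgroup.card_dvd_of_le h1)
    rwa [card_cj] at h2
  have hcard2 := S.card_le (isPi_mono (inf_le_left : K ⊓ C ≤ K) hK.1) inf_le_right
  have hcardL : Nat.card {y : G // Qe π y ∧ Commute x y} = Nat.card L := by
    apply Nat.card_congr
    refine Equiv.subtypeEquivRight ?_
    intro y
    constructor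
    · rintro ⟨h1, h2⟩
      have hyC : y ∈ C := by
        rw [hC, Subgroup.mem_centralizer_singleton_iff]
        exact h2.symm.eq
      exact (S.memL y hyC).mpr h1
    · intro hy
      refine ⟨S.qe hy, ?_⟩
      have h2 := S.hL hy
      rw [hC, Subgroup.mem_centralizer_singleton_iff] at h2
      exact Commute.symm h2
  rw [hcardL, le_antisymm hcard2 hcard1, S.card]

theorem hyp_of_ctx (c : Ctx π G) {K : Subgroup G} (hK : Maximal (IsPiSubgroup π) K) :
    Cfsg.Agent.Lib.PiExt.Hyp (fun q => q ∈ π) K where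
  pi := isPi_iff.mp hK.1
  conjInto := fun A hA => by
    obtain ⟨g, hg⟩ := conj_into c.hD hK (isPi_iff.mpr hA)
    exact ⟨g, fun a ha => mem_cj.mp (hg ha)⟩
  fusion := fun x hx g hg => fusion_gen c hK x hx g hg
  cnt := fun x hx hz => cnt_of c hK hx hz

end Ctx

section Main

variable {G : Type u} [Group G] [Finite G] {π : Set ℕ}

theorem step (hD : IsDPiGroup π G) (hom : Hom π G)
    (hIH : ∀ M : Subgroup G, M ≠ ⊤ → IsDPiGroup π ↥M → Closed π ↥M) : Closed π G := by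
  by_cases hA : ∃ H : Subgroup G, H.Normal ∧ IsPiSubgroup π H ∧ centralizer (H : Set G) ≠ ⊤
  · obtain ⟨H, hn, hH, hC⟩ := hA
    exact caseA hD hom hIH hH hC
  · push Not at hA
    have c : Ctx π G := ⟨hD, hom, hIH, hA⟩
    obtain ⟨K, hK, _⟩ := exists_max (isPi_bot (π := π) (G := G))
    exact Cfsg.Agent.Lib.PiExt.exists_subgroup_of_hyp (hyp_of_ctx c hK)

/-- **Theorem.** If the maximal `π`-subgroups of a finite group are conjugate and `π'`-elements
normalizing a `π`-subgroup centralize it, then the `π'`-elements form a subgroup. -/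
theorem closed_main (hD : IsDPiGroup π G) (hom : Hom π G) : Closed π G := by
  induction hn : Nat.card G using Nat.strong_induction_on generalizing G with
  | _ n ih =>
    apply step hD hom
    intro M hM hDM
    have hlt : Nat.card M < n := by
      rw [← hn]
      apply lt_of_le_of_ne (Nat.le_of_dvd Nat.card_pos (Subgroup.card_subgroup_dvd_card M))
      intro h
      exact hM (Subgroup.eq_top_of_card_eq M h)
    exact ih _ hlt hDM (hom_sub hom M) rfl

end Main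

end Cfsg.Agent.Lib.PiHom2
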