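import Mathlib
import Cfsg.Agent.S0093
import Cfsg.Agent.S0121
import Cfsg.Agent.Lib.OmegaAut
import Cfsg.Agent.Lib.FusionSL2
import Cfsg.Agent.Lib.RankTwoRep

/-!
# The plane of a group of exponent `p`, and the critical section of a rank two `p`-group

`exists_plane`: the abelianization of a group of exponent `p` as a `ZMod p`-module, with the natural representation of
the automorphism group. `coords`: coordinates with respect to a basis. `exists_crit`: the section of a `p`-group of
rank at most two, `p` odd, on which no nontrivial `p'`-automorphism acts trivially.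
-/

set_option autoImplicit false

namespace Cfsg.Agent.Lib.PlaneRep

open Subgroup Cfsg
open scoped commutatorElement

universe u

variable {p : ℕ} [hpp : Fact p.Prime]

/-- The plane of a group of exponent `p`. -/
theorem exists_plane (X : Type u) [Group X] [Finite X] (hexp : ∀ x : X, x ^ p = 1) :
    ∃ (V : Type u) (_ : AddCommGroup V) (_ : Module (ZMod p) V) (ab : X → V)
      (ρ : MulAut X →* (V ≃ₗ[ZMod p] V)),
      (∀ x y, ab (x * y) = ab x + ab y) ∧ Function.Surjective ab ∧
      (∀ x, ab x = 0 ↔ x ∈ commutator X) ∧ (∀ α x, ρ α (ab x) = ab (α x)) ∧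
      Nat.card V = (commutator X).index := by
  classical
  have hexpA : ∀ v : Abelianization X, v ^ p = 1 := by
    intro v
    obtain ⟨x, rfl⟩ := QuotientGroup.mk'_surjective (commutator X) v
    show (Abelianization.of x) ^ p = 1
    rw [← map_pow, hexp, map_one]
  have hpv : ∀ v : Additive (Abelianization X), p • v = 0 := fun x => by
    show Additive.ofMul ((Additive.toMul x) ^ p) = 0
    rw [hexpA]
    rfl
  letI hmod : Module (ZMod p) (Additive (Abelianization X)) := AddCommGroup.zmodModule (n := p) hpv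
  let res : MulAut X →* MulAut (Abelianization X) :=
    { toFun := fun α => MulEquiv.abelianizationCongr α
      map_one' := by
        ext x
        obtain ⟨y, rfl⟩ := QuotientGroup.mk'_surjective (commutator X) x
        rfl
      map_mul' := fun α β => by
        ext x
        obtain ⟨y, rfl⟩ := QuotientGroup.mk'_surjective (commutator X) x
        rfl }
  refine ⟨Additive (Abelianization X), Additive.addCommGroup, hmod, fun x => Additive.ofMul (Abelianization.of x),
    (Cfsg.Agent.Lib.FusionSL2.convHom (p := p) (Abelianization X)).comp res, ?_, ?_, ?_, ?_, ?_⟩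
  · intro x y
    show Additive.ofMul (Abelianization.of (x * y)) = _
    rw [map_mul]
    rfl
  · intro v
    obtain ⟨x, hx⟩ := QuotientGroup.mk'_surjective (commutator X) (Additive.toMul v)
    exact ⟨x, hx⟩
  · intro x
    constructor
    · intro h
      exact (QuotientGroup.eq_one_iff x).mp h
    · intro h
      exact (QuotientGroup.eq_one_iff x).mpr h
  · intro α x
    rfl
  · rfl

/-- Coordinates in the plane. -/
theorem coords {X : Type*} [Group X] {V : Type*} [AddCommGroup V] [Module (ZMod p) V] [Finite V] (ab : X → V)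
    (hmul : ∀ x y, ab (x * y) = ab x + ab y)
    (hker : ∀ x, ab x = 0 ↔ x ∈ commutator X) (hfin : Module.finrank (ZMod p) V = 2) {u v : X}
    (hli : LinearIndependent (ZMod p) ![ab u, ab v]) :
    (∀ x : X, ∃ i j : ℕ, ∃ z ∈ commutator X, x = u ^ i * v ^ j * z) ∧
      (∀ i j : ℕ, u ^ i * v ^ j ∈ commutator X → p ∣ i ∧ p ∣ j) := by
  classical
  have h1 : ab 1 = 0 := by
    have := hmul 1 1
    rw [mul_one] at this
    have h2 : ab 1 + 0 = ab 1 + ab 1 := by rw [add_zero]; exact this
    exact (add_left_cancel h2).symm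
  have hinv : ∀ x, ab x⁻¹ = - ab x := by
    intro x
    have := hmul x⁻¹ x
    rw [inv_mul_cancel, h1] at this
    exact eq_neg_of_add_eq_zero_left this.symm
  have hpow : ∀ (x : X) (n : ℕ), ab (x ^ n) = (n : ZMod p) • ab x := by
    intro x n
    induction n with
    | zero => simp [h1]
    | succ n ih =>
      rw [pow_succ, hmul, ih, Nat.cast_succ, add_smul, one_smul]
  let b : Module.Basis (Fin 2) (ZMod p) V :=
    basisOfLinearIndependentOfCardEqFinrank hli (by simp [hfin])
  have hb0 : b 0 = ab u := by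
    show (basisOfLinearIndependentOfCardEqFinrank hli _) 0 = ab u
    rw [coe_basisOfLinearIndependentOfCardEqFinrank]
    rfl
  have hb1 : b 1 = ab v := by
    show (basisOfLinearIndependentOfCardEqFinrank hli _) 1 = ab v
    rw [coe_basisOfLinearIndependentOfCardEqFinrank]
    rfl
  have hnatc : ∀ c : ZMod p, ((c.val : ℕ) : ZMod p) = c := fun c => by
    rw [ZMod.natCast_val, ZMod.cast_id', id]
  constructor
  · intro x
    refine ⟨(b.repr (ab x) 0).val, (b.repr (ab x) 1).val, (u ^ (b.repr (ab x) 0).val * v ^ (b.repr (ab x) 1).val)⁻¹ * x, ?_, ?_⟩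
    · rw [← hker, hmul, hinv, hmul, hpow, hpow, hnatc, hnatc, ← hb0, ← hb1]
      have := b.sum_repr (ab x)
      rw [Fin.sum_univ_two] at this
      rw [this]
      abel
    · group
  · intro i j hij
    rw [← hker, hmul, hpow, hpow] at hij
    rw [LinearIndependent.pair_iff] at hli
    obtain ⟨h2, h3⟩ := hli _ _ hij
    exact ⟨(ZMod.natCast_eq_zero_iff _ _).mp h2, (ZMod.natCast_eq_zero_iff _ _).mp h3⟩

/-- A `p'`-automorphism acting trivially on `X / X'`, `X'` central in `X`, is trivial on `X`. -/
theorem fixed_of_section {R : Type*} [Group R] (hR : IsPGroup p R) (X : Subgroup R)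
    (hX : ⁅X, X⁆ ≤ centralizer (X : Set R)) (α : MulAut R) (hα : (orderOf α).Coprime p)
    (h : ∀ x ∈ X, x⁻¹ * α x ∈ ⁅X, X⁆) : ∀ x ∈ X, α x = x := by
  have hcX : ∀ c ∈ ⁅X, X⁆, ∀ x ∈ X, c * x = x * c := by
    intro c hc x hx
    exact (Subgroup.mem_centralizer_iff.mp (hX hc) x hx).symm
  have hfixc : ∀ c ∈ ⁅X, X⁆, α c = c := by
    let Fx : Subgroup R :=
      { carrier := {y | α y = y}
        mul_mem' := fun {a b} ha hb => by
          show α (a * b) = a * b
          rw [map_mul]
          rw [show α a = a from ha, show α b = b from hb]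
        one_mem' := map_one _
        inv_mem' := fun {a} ha => by
          show α a⁻¹ = a⁻¹
          rw [map_inv]
          rw [show α a = a from ha] }
    have hle : ⁅X, X⁆ ≤ Fx := by
      rw [Subgroup.commutator_le]
      intro a ha b hb
      show α ⁅a, b⁆ = ⁅a, b⁆
      have hXX : ⁅X, X⁆ ≤ X := by
        rw [Subgroup.commutator_le]
        intro a ha b hb
        exact X.mul_mem (X.mul_mem (X.mul_mem ha hb) (X.inv_mem ha)) (X.inv_mem hb)
      set ca := a⁻¹ * α a with hca
      set cb := b⁻¹ * α b with hcb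
      have e1 : α a = a * ca := by rw [hca]; group
      have e2 : α b = b * cb := by rw [hcb]; group
      have hca' : ca ∈ ⁅X, X⁆ := h a ha
      have hcb' : cb ∈ ⁅X, X⁆ := h b hb
      have hcom := hcX ca hca'
      have hcom2 := hcX cb hcb'
      rw [commutatorElement_def, map_mul, map_mul, map_mul, map_inv, map_inv, e1, e2]
      have h6 : (a * ca) * (b * cb) = a * b * (ca * cb) := by
        calc (a * ca) * (b * cb) = a * (ca * b) * cb := by group
          _ = a * (b * ca) * cb := by rw [hcom b hb]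
          _ = a * b * (ca * cb) := by group
      have h8 : (b * cb) * (a * ca) = b * a * (ca * cb) := by
        calc (b * cb) * (a * ca) = b * (cb * a) * ca := by group
          _ = b * (a * cb) * ca := by rw [hcom2 a ha]
          _ = b * a * (cb * ca) := by group
          _ = b * a * (ca * cb) := by rw [hcom cb (hXX hcb')]
      have h7 : (a * ca)⁻¹ * (b * cb)⁻¹ = ((b * cb) * (a * ca))⁻¹ := by group
      calc (a * ca) * (b * cb) * (a * ca)⁻¹ * (b * cb)⁻¹
          = ((a * ca) * (b * cb)) * ((a * ca)⁻¹ * (b * cb)⁻¹) := by group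
        _ = (a * b * (ca * cb)) * (b * a * (ca * cb))⁻¹ := by rw [h6, h7, h8]
        _ = a * b * a⁻¹ * b⁻¹ := by group
    intro c hc
    exact hle hc
  intro x hx
  exact Cfsg.Agent.Lib.OmegaAut.fixed_of_comm_fixed hR α hα x (hfixc _ (h x hx))

/-- `⁅X, X⁆` in terms of the commutator subgroup of the type `X`. -/
theorem coe_commutator_mem {R : Type*} [Group R] (X : Subgroup R) {x : X} (hx : x ∈ commutator X) :
    (x : R) ∈ ⁅X, X⁆ := by
  have h1 : (commutator X).map X.subtype = ⁅X, X⁆ := Subgroup.map_subtype_commutator X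
  rw [← h1]
  exact ⟨x, hx, rfl⟩

theorem mem_commutator_of_coe {R : Type*} [Group R] (X : Subgroup R) {x : X} (hx : (x : R) ∈ ⁅X, X⁆) :
    x ∈ commutator X := by
  have h1 : (commutator X).map X.subtype = ⁅X, X⁆ := Subgroup.map_subtype_commutator X
  rw [← h1] at hx
  obtain ⟨y, hy, hyx⟩ := hx
  have : y = x := Subtype.ext hyx
  rwa [← this]

/-- The derived group of a non-abelian group of order `p³` and exponent `p`. -/
theorem comm_facts {N : Type*} [Group N] [Finite N] (hN : IsPGroup p N) (hexp : ∀ x : N, x ^ p = 1)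
    (hcard : Nat.card N = p ^ 3) (hna : ∃ x y : N, x * y ≠ y * x) :
    Nat.card (commutator N) = p ∧ (∀ c ∈ commutator N, ∀ x, c * x = x * c) ∧ (commutator N).index = p ^ 2 := by
  classical
  have hpr : p.Prime := hpp.out
  haveI hnt : Nontrivial N := by
    rw [← Finite.one_lt_card_iff_nontrivial, hcard]
    exact Nat.one_lt_pow (by norm_num) hpr.one_lt
  haveI hc : Nontrivial (center N) := hN.center_nontrivial
  obtain ⟨z', hz'⟩ := exists_ne (1 : center N)
  set z : N := z'.1 with hz
  have hzc : ∀ g : N, g * z = z * g := fun g => (Subgroup.mem_center_iff.mp z'.2 g)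
  have hz1 : z ≠ 1 := fun h => hz' (Subtype.ext h)
  have hzo : orderOf z = p := orderOf_eq_prime (hexp z) hz1
  set K := Subgroup.zpowers z with hK
  have hKc : ∀ k ∈ K, ∀ g : N, k * g = g * k := by
    intro k hk g
    obtain ⟨i, rfl⟩ := Subgroup.mem_zpowers_iff.mp hk
    exact ((Commute.symm (hzc g)).zpow_left i)
  haveI hKn : K.Normal := ⟨fun k hk g => by
    rw [← hKc k hk g, mul_assoc, mul_inv_cancel, mul_one]
    exact hk⟩
  have hKcard : Nat.card K = p := by rw [hK, Nat.card_zpowers, hzo]
  have hQcard : Nat.card (N ⧸ K) = p ^ 2 := by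
    have h1 := K.card_mul_index
    have h2 : Nat.card (N ⧸ K) = K.index := rfl
    rw [h2]
    rw [hKcard, hcard, show p ^ 3 = p * p ^ 2 by ring] at h1
    exact Nat.eq_of_mul_eq_mul_left hpr.pos h1
  have hQc : IsMulCommutative (N ⧸ K) := IsPGroup.isMulCommutative_of_card_eq_prime_sq hQcard
  have hle : commutator N ≤ K := by
    rw [_root_.commutator_def, Subgroup.commutator_le]
    intro a _ b _
    have h1 : ((a : N) : N ⧸ K) * (b : N ⧸ K) = (b : N ⧸ K) * (a : N ⧸ K) := hQc.is_comm.comm _ _
    have h2 : ((⁅a, b⁆ : N) : N ⧸ K) = 1 := by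
      rw [commutatorElement_def]
      simp only [QuotientGroup.mk_mul, QuotientGroup.mk_inv]
      rw [h1]
      group
    exact (QuotientGroup.eq_one_iff _).mp h2
  have hne : commutator N ≠ ⊥ := by
    intro h
    obtain ⟨x, y, hxy⟩ := hna
    apply hxy
    have h1 : ⁅x, y⁆ ∈ commutator N := Subgroup.commutator_mem_commutator (mem_top x) (mem_top y)
    rw [h] at h1
    exact commutatorElement_eq_one_iff_mul_comm.mp (Subgroup.mem_bot.mp h1)
  have hcard' : Nat.card (commutator N) = p := by
    have h1 : Nat.card (commutator N) ∣ Nat.card K := Subgroup.card_dvd_of_le hle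
    rw [hKcard] at h1
    rcases (Nat.dvd_prime hpr).mp h1 with h2 | h2
    · exact absurd (Subgroup.eq_bot_of_card_eq _ h2) hne
    · exact h2
  refine ⟨hcard', fun c hc x => hKc c (hle hc) x, ?_⟩
  have h1 := (commutator N).card_mul_index
  rw [hcard', hcard, show p ^ 3 = p * p ^ 2 by ring] at h1
  exact Nat.eq_of_mul_eq_mul_left hpr.pos h1

/-- The linear automorphisms of a module of order at most `p` commute. -/
theorem linear_comm_of_card_le {V : Type*} [AddCommGroup V] [Module (ZMod p) V] [Finite V]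
    (hcard : Nat.card V ≤ p) (f g : V ≃ₗ[ZMod p] V) : f * g = g * f := by
  classical
  have hpr : p.Prime := hpp.out
  by_cases hs : Subsingleton V
  · ext x
    exact Subsingleton.elim _ _
  have hnt : Nontrivial V := not_subsingleton_iff_nontrivial.mp hs
  have hfd : Module.Finite (ZMod p) V := Module.Finite.of_finite
  have h1 := Module.natCard_eq_pow_finrank (K := ZMod p) (V := V)
  rw [Nat.card_zmod] at h1
  have h2 : Module.finrank (ZMod p) V ≠ 0 := Module.finrank_pos.ne'
  have h3 : Module.finrank (ZMod p) V = 1 := by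
    by_contra hne
    have h4 : 2 ≤ Module.finrank (ZMod p) V := by omega
    have h5 : p ^ 2 ≤ p := by
      calc p ^ 2 ≤ p ^ Module.finrank (ZMod p) V := Nat.pow_le_pow_right hpr.pos h4
        _ = Nat.card V := h1.symm
        _ ≤ p := hcard
    nlinarith [hpr.two_le]
  obtain ⟨x, hx⟩ := exists_ne (0 : V)
  obtain ⟨a, ha⟩ := exists_smul_eq_of_finrank_eq_one h3 hx (f x)
  obtain ⟨b, hb⟩ := exists_smul_eq_of_finrank_eq_one h3 hx (g x)
  ext y
  obtain ⟨c, rfl⟩ := exists_smul_eq_of_finrank_eq_one h3 hx y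
  simp only [LinearEquiv.mul_apply, map_smul]
  have e1 : f (g x) = (a * b) • x := by rw [← hb, map_smul, ← ha, smul_smul, mul_comm]
  have e2 : g (f x) = (a * b) • x := by rw [← ha, map_smul, ← hb, smul_smul]
  rw [e1, e2]

section main

variable {R : Type u} [Group R] [Finite R]

/-- The critical section. -/
theorem exists_crit (hp2 : p ≠ 2) (hR : IsPGroup p R) (hr : PRankLE p 2 R) :
    ∃ X : Subgroup R, X.Characteristic ∧ (∀ x ∈ X, x ^ p = 1) ∧
      (((∀ a ∈ X, ∀ b ∈ X, a * b = b * a) ∧ Nat.card X ≤ p ^ 2) ∨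
        ((¬ ∀ a ∈ X, ∀ b ∈ X, a * b = b * a) ∧ Nat.card X ≤ p ^ 3)) ∧
      ⁅X, X⁆ ≤ centralizer (X : Set R) ∧
      ∀ α : MulAut R, (orderOf α).Coprime p → (∀ x ∈ X, x⁻¹ * α x ∈ ⁅X, X⁆) → α = 1 := by
  classical
  have hpr : p.Prime := hpp.out
  obtain ⟨H, hHc, hH1, hH2, hH3⟩ := Cfsg.Agent.S0093.result hR
  set X := Cfsg.Agent.Lib.RankTwoRep.omegaCrit (p := p) H hp2 hH2 with hXdef
  have hXexp : ∀ x : X, x ^ p = 1 := fun x => Subtype.ext x.2.2
  have hXp : IsPGroup p X := hR.to_subgroup X
  have hXH : X ≤ H := fun x hx => hx.1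
  have hHn : H.Normal := Subgroup.normal_of_characteristic H
  have hXc : X.Characteristic := by
    rw [Subgroup.characteristic_iff_le_comap]
    intro α x hx
    refine ⟨?_, ?_⟩
    · have h := hHc.fixed α
      have h2 : x ∈ H.comap α.toMonoidHom := by rw [h]; exact hx.1
      exact h2
    · show (α x) ^ p = 1
      rw [← map_pow, hx.2, map_one]
  have hX' : ⁅X, X⁆ ≤ centralizer (X : Set R) := by
    rw [Subgroup.commutator_le]
    intro a ha b hb
    have h4 : ⁅a, b⁆ ∈ ⁅H, (⊤ : Subgroup R)⁆ :=
      Subgroup.commutator_mem_commutator (hXH ha) (mem_top _)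
    rw [Subgroup.mem_centralizer_iff]
    intro z hz
    exact Subgroup.mem_centralizer_iff.mp (hH2 h4).2 z (hXH hz)
  refine ⟨X, hXc, fun x hx => hx.2, ?_, hX', ?_⟩
  · by_cases hcb : ∀ a ∈ X, ∀ b ∈ X, a * b = b * a
    · refine Or.inl ⟨hcb, ?_⟩
      exact hr X ⟨⟨fun a b => Subtype.ext (hcb a a.2 b b.2)⟩⟩ (fun a ha => ha.2)
    · refine Or.inr ⟨hcb, ?_⟩
      apply Cfsg.Agent.Lib.RankTwoRep.card_le_cube_of_exponent hXp
      intro A hA
      have h := hr (A.map X.subtype) ?_ ?_
      · rwa [Subgroup.card_map_of_injective X.subtype_injective] at h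
      · refine ⟨⟨?_⟩⟩
        rintro ⟨_, a, ha, rfl⟩ ⟨_, b, hb, rfl⟩
        apply Subtype.ext
        have := congrArg Subtype.val (hA.is_comm.comm (⟨a, ha⟩ : A) ⟨b, hb⟩)
        show (a : R) * (b : R) = (b : R) * (a : R)
        exact congrArg Subtype.val (show (a * b : X) = b * a from this)
      · rintro _ ⟨a, ha, rfl⟩
        exact a.2.2
  · intro α hco h
    have hfixX := fixed_of_section hR X hX' α hco h
    have hfixH : ∀ x ∈ H, α x = x := by
      let αH := Cfsg.Agent.Lib.RankTwoRep.resAut H hHc α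
      have hco' : (orderOf αH).Coprime p := by
        have : orderOf αH ∣ orderOf α := orderOf_map_dvd (Cfsg.Agent.Lib.RankTwoRep.resAut H hHc) α
        exact Nat.Coprime.coprime_dvd_left this hco
      have hfixH' := Cfsg.Agent.Lib.OmegaAut.aut_trivial_of_omega _ H p hp2 (hR.to_subgroup H) rfl αH hco' (by
        intro y hy
        apply Subtype.ext
        exact hfixX y ⟨y.2, congrArg Subtype.val hy⟩)
      intro x hx
      exact congrArg Subtype.val (hfixH' ⟨x, hx⟩)
    exact Cfsg.Agent.S0121.result hR H hHc hH1 hH2 hH3 α hco hfixH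

end main

end Cfsg.Agent.Lib.PlaneRep
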