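import Mathlib
import Cfsg.Agent.Lib.Subnormal
import Cfsg.Agent.Lib.SuperSolv2

/-!
Wielandt's zipper lemma, a Baer-Suzuki style normalizer lemma, Sylow subgroups meet subnormal
subgroups in Sylow subgroups, subgroups of nilpotent groups are subnormal.
-/

set_option autoImplicit false

namespace Cfsg.Agent.Lib.Subnormal2

open Subgroup
open scoped Pointwise
open Cfsg.Agent.Lib.Subnormal

universe u

variable {G : Type u} [Group G]

/-- Every subgroup of a finite nilpotent group is subnormal. -/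
theorem isSubnormal_of_isNilpotent [Finite G] [Group.IsNilpotent G] (H : Subgroup G) :
    H.IsSubnormal := by
  induction H using (wellFounded_gt (α := Subgroup G)).induction with
  | _ H ih =>
    by_cases hH : H = ⊤
    · rw [hH]; exact Subgroup.IsSubnormal.top
    · have h1 : H < Subgroup.normalizer (H : Set G) :=
        Group.normalizerCondition_of_isNilpotent H (lt_top_iff_ne_top.2 hH)
      exact Subgroup.IsSubnormal.step H _ h1.le (ih _ h1) Subgroup.normal_in_normalizer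

/-- **Zipper lemma**. -/
theorem zipper [Finite G] (A : Subgroup G) (U : Set (Subgroup G)) (hU : U.Nonempty)
    (S : Subgroup G → Set (Subgroup G))
    (hS : ∀ V B : Subgroup G, B ∈ S V ↔ (∃ g : G, B = MulAut.conj g • A) ∧ B ≤ V ∧
      (B.subgroupOf V).IsSubnormal)
    (h2 : ∀ V ∈ U, ∀ W ∈ U, ∀ B ∈ S W, B ≤ V → B ∈ S V)
    (h3 : ∀ V ∈ U, ∀ W ∈ U, ∃ X ∈ U,
      Subgroup.normalizer ((sSup (S V ∩ S W) : Subgroup G) : Set G) ≤ X) :
    ∃ M ∈ U, ∀ V ∈ U, V ≤ M := by
  classical
  have hfin : U.Finite := Set.toFinite U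
  have hexmax : ∀ V ∈ U, ∃ M, V ≤ M ∧ Maximal (· ∈ U) M :=
    fun V hV => hfin.exists_le_maximal hV
  have hSle : ∀ V B, B ∈ S V → B ≤ V := fun V B h => ((hS V B).1 h).2.1
  have hSconj : ∀ V, ∀ B ∈ S V, ∀ g ∈ V, MulAut.conj g • B ∈ S V := by
    intro V B hB g hg
    obtain ⟨⟨h, rfl⟩, hle, hsn⟩ := (hS V B).1 hB
    rw [hS]
    refine ⟨⟨g * h, by rw [map_mul, mul_smul]⟩, conj_smul_le_of_mem hle hg, ?_⟩
    have h4 := Subgroup.conj_smul_subgroupOf hle ⟨g, hg⟩
    simp only at h4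
    rw [← h4]
    exact hsn.smul _
  let D : Subgroup G → Subgroup G → Subgroup G := fun V W => sSup (S V ∩ S W)
  have hDcomm : ∀ V W, D V W = D W V := fun V W => by
    simp only [D, Set.inter_comm]
  have hDle : ∀ V W, D V W ≤ W := fun V W => sSup_le (fun B hB => hSle W B hB.2)
  -- proper subfamilies give normalizing members
  have hex : ∀ P Q, S P ∩ S Q ≠ S P → ∃ X ∈ S P, X ∉ S Q ∧
      X ≤ Subgroup.normalizer ((D P Q : Subgroup G) : Set G) := by
    intro P Q hne
    have hss : S P ∩ S Q ⊂ S P := Set.ssubset_iff_subset_ne.2 ⟨Set.inter_subset_left, hne⟩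
    obtain ⟨X, hX, hX0, hXn⟩ := wprop_restrict P wprop (S P) (S P ∩ S Q)
      (fun X hX => hSle P X hX) (fun X hX => ((hS P X).1 hX).2.2) (fun X hX g hg => hSconj P X hX g hg)
      hss
    exact ⟨X, hX, fun h => hX0 ⟨hX, h⟩, hXn⟩
  have hNle : ∀ P ∈ U, ∀ Q ∈ U, ∃ Y ∈ U, Subgroup.normalizer ((D P Q : Subgroup G) : Set G) ≤ Y :=
    fun P hP Q hQ => h3 P hP Q hQ
  let Pairs : Set (Subgroup G × Subgroup G) :=
    {p | Maximal (· ∈ U) p.1 ∧ Maximal (· ∈ U) p.2 ∧ p.1 ≠ p.2}
  by_cases hP : Pairs.Nonempty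
  · exfalso
    obtain ⟨⟨V, W⟩, ⟨hVm, hWm, hVW⟩, hmax⟩ := Set.exists_max_image Pairs
      (fun p => Nat.card (D p.1 p.2)) (Set.toFinite _) hP
    simp only at hVm hWm hVW hmax
    -- the key step
    have stepA : ∀ P Q, Maximal (· ∈ U) P → Maximal (· ∈ U) Q →
        (∀ p ∈ Pairs, Nat.card (D p.1 p.2) ≤ Nat.card (D P Q)) →
        ∀ X ∈ S P, X ∉ S Q → X ≤ Subgroup.normalizer ((D P Q : Subgroup G) : Set G) →
        Subgroup.normalizer ((D P Q : Subgroup G) : Set G) ≤ P := by
      intro P Q hPm hQm hmx X hXP hXQ hXn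
      obtain ⟨Y, hY, hNY⟩ := hNle P hPm.prop Q hQm.prop
      obtain ⟨M', hYM', hM'⟩ := hexmax Y hY
      have hNM' := hNY.trans hYM'
      by_cases hM'P : M' = P
      · rw [hM'P] at hNM'; exact hNM'
      · exfalso
        have hle1 : D P Q ≤ D M' P := by
          apply sSup_le
          intro B hB
          apply le_sSup
          refine ⟨h2 M' hM'.prop P hPm.prop B hB.1 ?_, hB.1⟩
          exact (le_sSup hB).trans (Subgroup.le_normalizer.trans hNM')
        have hXM' : X ≤ D M' P := by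
          apply le_sSup
          exact ⟨h2 M' hM'.prop P hPm.prop X hXP (hXn.trans hNM'), hXP⟩
        have hcard : Nat.card (D M' P) ≤ Nat.card (D P Q) := hmx (M', P) ⟨hM', hPm, hM'P⟩
        have heq : D P Q = D M' P := Subgroup.eq_of_le_of_card_ge hle1 hcard
        rw [← heq] at hXM'
        exact hXQ (h2 Q hQm.prop P hPm.prop X hXP (hXM'.trans (hDle P Q)))
    have hmax' : ∀ p ∈ Pairs, Nat.card (D p.1 p.2) ≤ Nat.card (D W V) := by
      rw [hDcomm W V]; exact hmax
    have hDVW : D V W = sSup (S V ∩ S W) := rfl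
    obtain ⟨Y, hY, hNY⟩ := hNle V hVm.prop W hWm.prop
    by_cases hcV : S V ∩ S W = S V
    · -- `V` normalizes
      have hVn : V ≤ Subgroup.normalizer ((D V W : Subgroup G) : Set G) := by
        intro g hg
        apply mem_normalizer_of_conj_mem
        rw [hDVW, hcV]
        exact conj_mem_sSup_of_closed (S V) g (fun B hB => hSconj V B hB g hg)
      have hYV : Y ≤ V := hVm.le_of_ge hY (hVn.trans hNY)
      have hNV := hNY.trans hYV
      by_cases hcW : S V ∩ S W = S W
      · have hWn : W ≤ Subgroup.normalizer ((D V W : Subgroup G) : Set G) := by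
          intro g hg
          apply mem_normalizer_of_conj_mem
          rw [hDVW, hcW]
          exact conj_mem_sSup_of_closed (S W) g (fun B hB => hSconj W B hB g hg)
        have hWV : W ≤ V := hWn.trans hNV
        have hVW' : V ≤ W := hWm.le_of_ge hVm.prop hWV
        exact hVW (le_antisymm hVW' hWV)
      · have hne : S W ∩ S V ≠ S W := by rwa [Set.inter_comm]
        obtain ⟨X, hX, hX0, hXn⟩ := hex W V hne
        rw [hDcomm W V] at hXn
        exact hX0 (h2 V hVm.prop W hWm.prop X hX (hXn.trans hNV))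
    · obtain ⟨X, hX, hX0, hXn⟩ := hex V W hcV
      by_cases hcW : S V ∩ S W = S W
      · have hWn : W ≤ Subgroup.normalizer ((D V W : Subgroup G) : Set G) := by
          intro g hg
          apply mem_normalizer_of_conj_mem
          rw [hDVW, hcW]
          exact conj_mem_sSup_of_closed (S W) g (fun B hB => hSconj W B hB g hg)
        have hYW : Y ≤ W := hWm.le_of_ge hY (hWn.trans hNY)
        exact hX0 (h2 W hWm.prop V hVm.prop X hX (hXn.trans (hNY.trans hYW)))
      · have hne : S W ∩ S V ≠ S W := by rwa [Set.inter_comm]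
        obtain ⟨X', hX', hX'0, hX'n⟩ := hex W V hne
        have hNW := stepA W V hWm hVm hmax' X' hX' hX'0 hX'n
        rw [hDcomm W V] at hNW
        exact hX0 (h2 W hWm.prop V hVm.prop X hX (hXn.trans hNW))
  · obtain ⟨V₀, hV₀⟩ := hU
    obtain ⟨M, -, hM⟩ := hexmax V₀ hV₀
    refine ⟨M, hM.prop, fun V hV => ?_⟩
    obtain ⟨M', hVM', hM'⟩ := hexmax V hV
    have : M' = M := by
      by_contra hne
      exact hP ⟨(M', M), hM', hM, hne⟩
    rwa [this] at hVM'

/-- Baer-Suzuki style: a Sylow subgroup whose set of conjugates of `Z` generates a subgroup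
normalized by `Y`. -/
theorem exists_sylow_normalized [Finite G] (p : ℕ) [Fact p.Prime] (Z Y : Subgroup G)
    (h : ∀ g : G, IsPGroup p ↥(⨆ y ∈ Y, MulAut.conj (y * g) • Z)) :
    ∃ P : Sylow p G, Y ≤ Subgroup.normalizer
      ((⨆ g ∈ {g : G | MulAut.conj g • Z ≤ (P : Subgroup G)}, MulAut.conj g • Z : Subgroup G) : Set G) := by
  classical
  let C : Set (Subgroup G) := {X | ∃ g : G, X = MulAut.conj g • Z}
  let F : Set (Set (Subgroup G)) :=
    {T | T ⊆ C ∧ (∀ X ∈ T, ∀ y ∈ Y, MulAut.conj y • X ∈ T) ∧ IsPGroup p (sSup T : Subgroup G)}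
  have hFne : F.Nonempty := by
    refine ⟨∅, Set.empty_subset _, fun X hX => hX.elim, ?_⟩
    rw [sSup_empty]
    exact IsPGroup.of_bot
  obtain ⟨T₀, hT₀⟩ := (Set.toFinite F).exists_maximal hFne
  obtain ⟨hT₀C, hT₀Y, hT₀p⟩ := hT₀.prop
  obtain ⟨Q, hQ⟩ := hT₀p.exists_le_sylow
  let TQ : Set (Subgroup G) := {X | X ∈ C ∧ X ≤ (Q : Subgroup G)}
  have hT₀TQ : T₀ ⊆ TQ := fun X hX => ⟨hT₀C hX, (le_sSup hX).trans hQ⟩
  have hiSup : (⨆ g ∈ {g : G | MulAut.conj g • Z ≤ (Q : Subgroup G)}, MulAut.conj g • Z : Subgroup G)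
      = sSup TQ := by
    apply le_antisymm
    · exact iSup₂_le (fun g hg => le_sSup ⟨⟨g, rfl⟩, hg⟩)
    · apply sSup_le
      rintro _ ⟨⟨g, rfl⟩, hg⟩
      exact le_iSup₂_of_le g hg le_rfl
  by_cases hTQ : T₀ = TQ
  · refine ⟨Q, ?_⟩
    rw [hiSup, ← hTQ]
    intro y hy
    apply mem_normalizer_of_conj_mem
    exact conj_mem_sSup_of_closed T₀ y (fun X hX => hT₀Y X hX y hy)
  exfalso
  have hss : T₀ ⊂ TQ := Set.ssubset_iff_subset_ne.2 ⟨hT₀TQ, hTQ⟩
  set K := sSup TQ with hK
  have hKQ : K ≤ Q := sSup_le (fun X hX => hX.2)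
  have hKp : IsPGroup p K := (Q.isPGroup').to_le hKQ
  have hKn : Group.IsNilpotent K := hKp.isNilpotent
  obtain ⟨X, hX, hX0, hXn⟩ := wprop_restrict K wprop TQ T₀ (fun X hX => le_sSup hX)
    (fun X _ => isSubnormal_of_isNilpotent _)
    (fun X hX g hg => by
      refine ⟨?_, conj_smul_le_of_mem hX.2 (hKQ hg)⟩
      obtain ⟨⟨g₀, rfl⟩, -⟩ := hX
      exact ⟨g * g₀, by rw [map_mul, mul_smul]⟩) hss
  obtain ⟨⟨g, rfl⟩, -⟩ := hX
  -- the new family
  let T₁ : Set (Subgroup G) := T₀ ∪ {W | ∃ y ∈ Y, W = MulAut.conj (y * g) • Z}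
  have hR : IsPGroup p ↥(⨆ y ∈ Y, MulAut.conj (y * g) • Z) := h g
  have hsup : sSup T₁ = sSup T₀ ⊔ ⨆ y ∈ Y, MulAut.conj (y * g) • Z := by
    rw [sSup_union]
    congr 1
    apply le_antisymm
    · apply sSup_le
      rintro _ ⟨y, hy, rfl⟩
      exact le_iSup₂_of_le y hy le_rfl
    · exact iSup₂_le (fun y hy => le_sSup ⟨y, hy, rfl⟩)
  have hN : (⨆ y ∈ Y, MulAut.conj (y * g) • Z) ≤
      Subgroup.normalizer ((sSup T₀ : Subgroup G) : Set G) := by
    apply iSup₂_le
    intro y hy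
    rw [map_mul, mul_smul]
    apply conj_smul_le_of_mem hXn
    apply mem_normalizer_of_conj_mem
    exact conj_mem_sSup_of_closed T₀ y (fun X hX => hT₀Y X hX y hy)
  have hT₁F : T₁ ∈ F := by
    refine ⟨?_, ?_, ?_⟩
    · rintro W (hW | ⟨y, -, rfl⟩)
      · exact hT₀C hW
      · exact ⟨_, rfl⟩
    · rintro W (hW | ⟨y, hy, rfl⟩) y' hy'
      · exact Or.inl (hT₀Y W hW y' hy')
      · refine Or.inr ⟨y' * y, Y.mul_mem hy' hy, ?_⟩
        rw [← mul_smul, ← map_mul, mul_assoc]
    · rw [hsup]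
      exact hT₀p.to_sup_of_normal_left' hR hN
  have hT₀T₁ : T₀ ≤ T₁ := Set.subset_union_left
  have hle := hT₀.le_of_ge hT₁F hT₀T₁
  apply hX0
  apply hle
  refine Or.inr ⟨1, Y.one_mem, by simp⟩

/-- Relative index with a normal denominator. -/
theorem relIndex_dvd_index_of_normal_right [Finite G] (A N : Subgroup G) [N.Normal] :
    A.relIndex N ∣ A.index := by
  have h1 := Cfsg.Agent.Lib.SuperSolv2.card_sup_mul_card_inf A N
  have ha : A.relIndex N * Nat.card (A ⊓ N : Subgroup G) = Nat.card N := by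
    have h3 := (A.subgroupOf N).index_mul_card
    have h4 : Nat.card (A.subgroupOf N) = Nat.card (A ⊓ N : Subgroup G) := by
      rw [← Subgroup.inf_subgroupOf_right]
      exact Cfsg.Agent.Lib.SuperSolv2.card_subgroupOf_of_le inf_le_right
    rwa [h4] at h3
  have hb : A.relIndex (A ⊔ N) * Nat.card A = Nat.card (A ⊔ N : Subgroup G) := by
    have h3 := (A.subgroupOf (A ⊔ N)).index_mul_card
    rwa [Cfsg.Agent.Lib.SuperSolv2.card_subgroupOf_of_le le_sup_left] at h3
  have hab : A.relIndex N = A.relIndex (A ⊔ N) := by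
    have hpos : 0 < Nat.card A * Nat.card (A ⊓ N : Subgroup G) :=
      Nat.mul_pos Nat.card_pos Nat.card_pos
    apply Nat.eq_of_mul_eq_mul_right hpos
    calc A.relIndex N * (Nat.card A * Nat.card (A ⊓ N : Subgroup G))
        = Nat.card A * (A.relIndex N * Nat.card (A ⊓ N : Subgroup G)) := by ring
      _ = Nat.card A * Nat.card N := by rw [ha]
      _ = Nat.card (A ⊔ N : Subgroup G) * Nat.card (A ⊓ N : Subgroup G) := h1.symm
      _ = A.relIndex (A ⊔ N) * (Nat.card A * Nat.card (A ⊓ N : Subgroup G)) := by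
        rw [← hb]; ring
  rw [hab]
  exact Subgroup.relIndex_dvd_index_of_le le_sup_left

/-- A Sylow subgroup meets each subnormal subgroup in a subgroup of index prime to `p`. -/
theorem not_dvd_relIndex_of_subnormal [Finite G] (p : ℕ) [Fact p.Prime] (H : Subgroup G)
    (hH : H.IsSubnormal) (S : Sylow p G) : ¬ p ∣ (S : Subgroup G).relIndex H := by
  induction hH with
  | top =>
    rw [Subgroup.relIndex_top_right]
    exact S.not_dvd_index
  | step H K hle _ hN ih =>
    intro hdvd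
    apply ih
    have h1 := relIndex_dvd_index_of_normal_right ((S : Subgroup G).subgroupOf K) (H.subgroupOf K)
    have h2 : ((S : Subgroup G).subgroupOf K).relIndex (H.subgroupOf K) =
        (S : Subgroup G).relIndex H := by
      rw [Subgroup.subgroupOf, Subgroup.relIndex_comap, Subgroup.map_subgroupOf_eq_of_le hle]
    rw [h2] at h1
    exact hdvd.trans h1

/-- A Sylow `p`-subgroup of a finite group meets every subnormal subgroup `H` in a Sylow
`p`-subgroup of `H`. -/
theorem exists_sylow_of_subnormal [Finite G] (p : ℕ) [Fact p.Prime] (H : Subgroup G)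
    (hH : H.IsSubnormal) (S : Sylow p G) :
    ∃ Q : Sylow p H, (Q : Subgroup H) = (S : Subgroup G).subgroupOf H := by
  have h1 : IsPGroup p ((S : Subgroup G).subgroupOf H) :=
    S.isPGroup'.comap_of_injective H.subtype H.subtype_injective
  have h2 : ¬ p ∣ ((S : Subgroup G).subgroupOf H).index := not_dvd_relIndex_of_subnormal p H hH S
  exact ⟨h1.toSylow h2, rfl⟩

end Cfsg.Agent.Lib.Subnormal2
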