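import Mathlib
import Cfsg.Agent.Lib.SubnormalP
import Cfsg.Agent.Lib.SubnormalSylow
import Cfsg.Agent.Lib.Subnormal
import Cfsg.Agent.Lib.LocalCore
import Cfsg.Agent.Lib.CompFitting
import Cfsg.Agent.Lib.BrolineGT

/-!
# The Sylow map on subnormal subgroups respects joins

For `A`, `B` subnormal in a finite group `G` and `P` a Sylow `p`-subgroup:
`P ⊓ (A ⊔ B) = (P ⊓ A) ⊔ (P ⊓ B)`.
-/

set_option autoImplicit false
set_option linter.unusedSectionVars false
set_option linter.style.haveILetI false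

open Cfsg
open Cfsg.Agent.Lib.PCore Cfsg.Agent.Lib.PResid Cfsg.Agent.Lib.SubnormalP
  Cfsg.Agent.Lib.SubnormalSylow Cfsg.Agent.Lib.LocalCore Cfsg.Agent.Lib.CompFitting

namespace Cfsg.Agent.Lib.SylowJoin

universe u

variable {p : ℕ} [hp : Fact p.Prime]

/-- The normal case, at the level of types. -/
theorem le_sup_of_normal {G : Type*} [Group G] [Finite G] (P : Sylow p G) (X Y : Subgroup G)
    [hY : Y.Normal] (hX : X.IsSubnormal) (hXY : X ⊔ Y = ⊤) :
    (P : Subgroup G) ≤ ((P : Subgroup G) ⊓ X) ⊔ ((P : Subgroup G) ⊓ Y) := by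
  let π := QuotientGroup.mk' Y
  have hπ : Function.Surjective π := QuotientGroup.mk'_surjective Y
  let f : X →* G ⧸ Y := π.comp X.subtype
  have hf : Function.Surjective f := by
    intro q
    obtain ⟨g, rfl⟩ := hπ q
    have hg : g ∈ X ⊔ Y := by rw [hXY]; trivial
    obtain ⟨x, hx, y, hy, rfl⟩ := Subgroup.mem_sup_of_normal_right.mp hg
    refine ⟨⟨x, hx⟩, ?_⟩
    show π x = π (x * y)
    rw [map_mul]
    have : π y = 1 := (QuotientGroup.eq_one_iff y).mpr hy
    rw [this, mul_one]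
  obtain ⟨Q, hQ⟩ := exists_sylow_inf_of_isSubnormal P X hX
  let Qb : Sylow p (G ⧸ Y) := Q.mapSurjective hf
  let Pb : Sylow p (G ⧸ Y) := P.mapSurjective hπ
  have hle : (Qb : Subgroup (G ⧸ Y)) ≤ (Pb : Subgroup (G ⧸ Y)) := by
    rintro _ ⟨q, hq, rfl⟩
    have h1 : ((q : X) : G) ∈ (Q : Subgroup X).map X.subtype := ⟨q, hq, rfl⟩
    rw [hQ] at h1
    exact ⟨(q : G), h1.1, rfl⟩
  have heq : (Pb : Subgroup (G ⧸ Y)) = Qb := Qb.is_maximal' Pb.isPGroup' hle
  intro u hu
  have h2 : π u ∈ (Qb : Subgroup (G ⧸ Y)) := by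
    rw [← heq]
    exact ⟨u, hu, rfl⟩
  obtain ⟨q, hq, hqu⟩ := h2
  have h1 : ((q : X) : G) ∈ (Q : Subgroup X).map X.subtype := ⟨q, hq, rfl⟩
  rw [hQ] at h1
  have h3 : ((q : X) : G)⁻¹ * u ∈ Y := by
    apply (QuotientGroup.eq_one_iff _).mp
    show π (((q : X) : G)⁻¹ * u) = 1
    rw [map_mul, map_inv]
    have : π ((q : X) : G) = π u := hqu
    rw [this, inv_mul_cancel]
  have h4 : u = ((q : X) : G) * (((q : X) : G)⁻¹ * u) := by group
  rw [h4]
  apply Subgroup.mul_mem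
  · exact Subgroup.mem_sup_left h1
  · exact Subgroup.mem_sup_right ⟨P.toSubgroup.mul_mem (P.toSubgroup.inv_mem h1.1) hu, h3⟩

/-- Transport: a statement in the type `↥J` gives the statement in `G`. -/
theorem inf_sup_le_of_sylow_in {G : Type*} [Group G] [Finite G] (P : Sylow p G) (X Y : Subgroup G)
    (hJ : (X ⊔ Y).IsSubnormal)
    (h : ∀ P' : Sylow p ↥(X ⊔ Y), (P' : Subgroup ↥(X ⊔ Y)) ≤
      ((P' : Subgroup ↥(X ⊔ Y)) ⊓ X.subgroupOf (X ⊔ Y)) ⊔
        ((P' : Subgroup ↥(X ⊔ Y)) ⊓ Y.subgroupOf (X ⊔ Y))) :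
    (P : Subgroup G) ⊓ (X ⊔ Y) ≤ ((P : Subgroup G) ⊓ X) ⊔ ((P : Subgroup G) ⊓ Y) := by
  obtain ⟨P', hP'⟩ := exists_sylow_inf_of_isSubnormal P (X ⊔ Y) hJ
  intro u hu
  have hu' : u ∈ (P' : Subgroup ↥(X ⊔ Y)).map (X ⊔ Y).subtype := by rw [hP']; exact hu
  obtain ⟨v, hv, rfl⟩ := hu'
  have h1 := h P' hv
  have h2 : (X ⊔ Y).subtype v ∈ (((P' : Subgroup ↥(X ⊔ Y)) ⊓ X.subgroupOf (X ⊔ Y)) ⊔
        ((P' : Subgroup ↥(X ⊔ Y)) ⊓ Y.subgroupOf (X ⊔ Y))).map (X ⊔ Y).subtype := ⟨v, h1, rfl⟩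
  rw [Subgroup.map_sup] at h2
  have h5 : ((P' : Subgroup ↥(X ⊔ Y)) ⊓ X.subgroupOf (X ⊔ Y)).map (X ⊔ Y).subtype ⊔
      ((P' : Subgroup ↥(X ⊔ Y)) ⊓ Y.subgroupOf (X ⊔ Y)).map (X ⊔ Y).subtype ≤
      ((P : Subgroup G) ⊓ X) ⊔ ((P : Subgroup G) ⊓ Y) := by
    apply sup_le_sup
    · rintro _ ⟨w, hw, rfl⟩
      have h3 : (X ⊔ Y).subtype w ∈ (P' : Subgroup ↥(X ⊔ Y)).map (X ⊔ Y).subtype := ⟨w, hw.1, rfl⟩
      rw [hP'] at h3
      exact ⟨h3.1, hw.2⟩
    · rintro _ ⟨w, hw, rfl⟩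
      have h3 : (X ⊔ Y).subtype w ∈ (P' : Subgroup ↥(X ⊔ Y)).map (X ⊔ Y).subtype := ⟨w, hw.1, rfl⟩
      rw [hP'] at h3
      exact ⟨h3.1, hw.2⟩
  exact h5 h2

/-- The case where `X` normalizes `Y`. -/
theorem inf_sup_le_of_le_normalizer {G : Type*} [Group G] [Finite G] (P : Sylow p G)
    (X Y : Subgroup G) (hX : X.IsSubnormal) (hY : Y.IsSubnormal)
    (hXY : X ≤ Subgroup.normalizer (Y : Set G)) :
    (P : Subgroup G) ⊓ (X ⊔ Y) ≤ ((P : Subgroup G) ⊓ X) ⊔ ((P : Subgroup G) ⊓ Y) := by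
  apply inf_sup_le_of_sylow_in P X Y (Cfsg.Agent.Lib.Subnormal.sup_isSubnormal X Y hX hY)
  intro P'
  haveI : (Y.subgroupOf (X ⊔ Y)).Normal :=
    (Subgroup.normal_subgroupOf_iff_le_normalizer le_sup_right).mpr
      (sup_le hXY Subgroup.le_normalizer)
  exact le_sup_of_normal P' _ _ hX.subgroupOf (sup_subgroupOf_eq_top X Y)

/-- The induction hypothesis. -/
def JoinIH (p : ℕ) [Fact p.Prime] (n : ℕ) : Prop :=
  ∀ (G : Type u) [Group G] [Finite G], Nat.card G < n → ∀ (P : Sylow p G) (A B : Subgroup G),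
    A.IsSubnormal → B.IsSubnormal →
    (P : Subgroup G) ⊓ (A ⊔ B) ≤ ((P : Subgroup G) ⊓ A) ⊔ ((P : Subgroup G) ⊓ B)

section step

variable {G : Type u} [Group G] [Finite G]

theorem step_proper (ih : JoinIH.{u} p (Nat.card G)) (P : Sylow p G) (X Y : Subgroup G)
    (hX : X.IsSubnormal) (hY : Y.IsSubnormal) (hne : X ⊔ Y ≠ ⊤) :
    (P : Subgroup G) ⊓ (X ⊔ Y) ≤ ((P : Subgroup G) ⊓ X) ⊔ ((P : Subgroup G) ⊓ Y) := by
  apply inf_sup_le_of_sylow_in P X Y (Cfsg.Agent.Lib.Subnormal.sup_isSubnormal X Y hX hY)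
  intro P'
  have h1 := ih ↥(X ⊔ Y) (Cfsg.Agent.Lib.Subnormal.card_lt_of_ne_top hne) P' _ _
    (hX.subgroupOf (K := X ⊔ Y)) (hY.subgroupOf (K := X ⊔ Y))
  rw [sup_subgroupOf_eq_top, inf_top_eq] at h1
  exact h1

/-- Reduction modulo a non-trivial normal subgroup. -/
theorem reduce' (ih : JoinIH.{u} p (Nat.card G)) (P : Sylow p G) (A B : Subgroup G)
    (hA : A.IsSubnormal) (hB : B.IsSubnormal) (hAB : A ⊔ B = ⊤) (N : Subgroup G) [hN : N.Normal]
    (hne : N ≠ ⊥) :
    ∀ u ∈ (P : Subgroup G), ∃ q ∈ ((P : Subgroup G) ⊓ A) ⊔ ((P : Subgroup G) ⊓ B), ∃ n ∈ N,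
      u = q * n := by
  set Q := ((P : Subgroup G) ⊓ A) ⊔ ((P : Subgroup G) ⊓ B) with hQ
  let π := QuotientGroup.mk' N
  have hπ : Function.Surjective π := QuotientGroup.mk'_surjective N
  have hcard : Nat.card (G ⧸ N) < Nat.card G := by
    have h1 := N.card_eq_card_quotient_mul_card_subgroup
    have h2 : 1 < Nat.card N := by
      have : Nontrivial N := by
        rw [Subgroup.nontrivial_iff_ne_bot]; exact hne
      exact Finite.one_lt_card
    have h3 : 0 < Nat.card (G ⧸ N) := Nat.card_pos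
    rw [h1]
    nlinarith
  let Pb : Sylow p (G ⧸ N) := P.mapSurjective hπ
  have h1 := ih (G ⧸ N) hcard Pb (A.map π) (B.map π) (hA.map hπ) (hB.map hπ)
  have htop : A.map π ⊔ B.map π = ⊤ := by
    rw [← Subgroup.map_sup, hAB, Subgroup.map_top_of_surjective _ hπ]
  rw [htop, inf_top_eq] at h1
  -- each piece is in the image of `Q`
  have hpiece : ∀ C : Subgroup G, C.IsSubnormal → (P : Subgroup G) ⊓ C ≤ Q →
      (Pb : Subgroup (G ⧸ N)) ⊓ C.map π ≤ Q.map π := by
    intro C hC hCQ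
    rintro _ ⟨⟨v, hv, rfl⟩, ⟨c, hc, hcv⟩⟩
    have hcn : c⁻¹ * v ∈ N := by
      apply (QuotientGroup.eq_one_iff _).mp
      show π (c⁻¹ * v) = 1
      rw [map_mul, map_inv]
      have : π c = π v := hcv
      rw [this, inv_mul_cancel]
    have hvs : v ∈ C ⊔ N := by
      have : v = c * (c⁻¹ * v) := by group
      rw [this]
      exact Subgroup.mul_mem _ (Subgroup.mem_sup_left hc) (Subgroup.mem_sup_right hcn)
    have h2 := inf_sup_le_of_le_normalizer P C N hC hN.isSubnormal (by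
      rw [Subgroup.normalizer_eq_top]; exact le_top) ⟨hv, hvs⟩
    have h3 : π v ∈ (((P : Subgroup G) ⊓ C) ⊔ ((P : Subgroup G) ⊓ N)).map π := ⟨v, h2, rfl⟩
    rw [Subgroup.map_sup] at h3
    have h4 : ((P : Subgroup G) ⊓ N).map π = ⊥ := by
      rw [Subgroup.map_eq_bot_iff]
      intro x hx
      show x ∈ π.ker
      rw [QuotientGroup.ker_mk']
      exact hx.2
    rw [h4, sup_bot_eq] at h3
    exact Subgroup.map_mono hCQ h3
  have h2 : (Pb : Subgroup (G ⧸ N)) ≤ Q.map π :=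
    h1.trans (sup_le (hpiece A hA le_sup_left) (hpiece B hB le_sup_right))
  intro u hu
  obtain ⟨q, hq, hqu⟩ := h2 (show π u ∈ (Pb : Subgroup (G ⧸ N)) from ⟨u, hu, rfl⟩)
  refine ⟨q, hq, q⁻¹ * u, ?_, by group⟩
  apply (QuotientGroup.eq_one_iff _).mp
  show π (q⁻¹ * u) = 1
  rw [map_mul, map_inv, hqu, inv_mul_cancel]

theorem reduce (ih : JoinIH.{u} p (Nat.card G)) (P : Sylow p G) (A B : Subgroup G)
    (hA : A.IsSubnormal) (hB : B.IsSubnormal) (hAB : A ⊔ B = ⊤) (N : Subgroup G) [hN : N.Normal]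
    (hne : N ≠ ⊥) (hNQ : (P : Subgroup G) ⊓ N ≤ ((P : Subgroup G) ⊓ A) ⊔ ((P : Subgroup G) ⊓ B)) :
    (P : Subgroup G) ≤ ((P : Subgroup G) ⊓ A) ⊔ ((P : Subgroup G) ⊓ B) := by
  intro u hu
  obtain ⟨q, hq, n, hn, rfl⟩ := reduce' ih P A B hA hB hAB N hne u hu
  have hqP : q ∈ (P : Subgroup G) :=
    (sup_le inf_le_left inf_le_left : ((P : Subgroup G) ⊓ A) ⊔ ((P : Subgroup G) ⊓ B) ≤ P) hq
  have hnP : n ∈ (P : Subgroup G) := by
    have := (P : Subgroup G).mul_mem ((P : Subgroup G).inv_mem hqP) hu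
    simpa using this
  exact Subgroup.mul_mem _ hq (hNQ ⟨hnP, hn⟩)

end step

section core

variable {G : Type u} [Group G] [Finite G]

/-- `O^p(A)` as a subgroup of the ambient group. -/
abbrev res (p : ℕ) (A : Subgroup G) : Subgroup G := (pResidual p ↥A).map A.subtype

theorem res_le (A : Subgroup G) : res p A ≤ A := Subgroup.map_subtype_le _

theorem res_subnormal {A : Subgroup G} (hA : A.IsSubnormal) : (res p A).IsSubnormal :=
  isSubnormal_map_of_characteristic hA (pResidual_characteristic p)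

theorem exists_mul_res (P : Sylow p G) {A : Subgroup G} (hA : A.IsSubnormal) {a : G} (ha : a ∈ A) :
    ∃ t ∈ (P : Subgroup G) ⊓ A, ∃ n ∈ res p A, a = t * n := by
  obtain ⟨S, hS⟩ := exists_sylow_inf_of_isSubnormal P A hA
  obtain ⟨t, ht, n, hn, h⟩ := exists_sylow_mul_pResidual S (⟨a, ha⟩ : ↥A)
  refine ⟨(t : G), ?_, (n : G), ⟨n, hn, rfl⟩, congrArg Subtype.val h⟩
  rw [← hS]
  exact ⟨t, ht, rfl⟩

theorem conj_mem_res {A : Subgroup G} {x : G} (hx : x ∈ Subgroup.normalizer (A : Set G)) :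
    ∀ y ∈ res p A, x * y * x⁻¹ ∈ res p A := by
  intro y hy
  rw [res, map_pResidual_eq_closure] at hy ⊢
  induction hy using Subgroup.closure_induction with
  | mem y hy =>
    apply Subgroup.subset_closure
    refine ⟨(Subgroup.mem_normalizer_iff.mp hx y).mp hy.1, ?_⟩
    have : orderOf (x * y * x⁻¹) = orderOf y := (MulAut.conj x).orderOf_eq y
    rw [this]
    exact hy.2
  | one => simp
  | mul a b _ _ ha hb =>
    have : x * (a * b) * x⁻¹ = (x * a * x⁻¹) * (x * b * x⁻¹) := by group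
    rw [this]
    exact Subgroup.mul_mem _ ha hb
  | inv a _ ha =>
    have : x * a⁻¹ * x⁻¹ = (x * a * x⁻¹)⁻¹ := by group
    rw [this]
    exact Subgroup.inv_mem _ ha

/-- The subgroup `O^p(A) ⊔ O^p(B)` is normal once `Q` normalizes `A` and `B`. -/
theorem res_sup_normal (P : Sylow p G) {A B : Subgroup G} (hA : A.IsSubnormal)
    (hB : B.IsSubnormal) (hAB : A ⊔ B = ⊤)
    (hnA : ((P : Subgroup G) ⊓ A) ⊔ ((P : Subgroup G) ⊓ B) ≤ Subgroup.normalizer (A : Set G))
    (hnB : ((P : Subgroup G) ⊓ A) ⊔ ((P : Subgroup G) ⊓ B) ≤ Subgroup.normalizer (B : Set G)) :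
    (res p A ⊔ res p B).Normal := by
  set Q := ((P : Subgroup G) ⊓ A) ⊔ ((P : Subgroup G) ⊓ B) with hQ
  have h1 : Q ≤ Subgroup.normalizer ((res p A ⊔ res p B : Subgroup G) : Set G) := by
    rw [Subgroup.le_normalizer_iff]
    intro q hq y hy
    have hc : (res p A ⊔ res p B).map (MulAut.conj q).toMonoidHom ≤ res p A ⊔ res p B := by
      rw [Subgroup.map_sup]
      apply sup_le_sup
      · rintro _ ⟨z, hz, rfl⟩
        exact conj_mem_res (hnA hq) z hz
      · rintro _ ⟨z, hz, rfl⟩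
        exact conj_mem_res (hnB hq) z hz
    exact hc ⟨y, hy, rfl⟩
  have h2 : ∀ C : Subgroup G, C.IsSubnormal → (P : Subgroup G) ⊓ C ≤ Q → res p C ≤ res p A ⊔ res p B →
      C ≤ Subgroup.normalizer ((res p A ⊔ res p B : Subgroup G) : Set G) := by
    intro C hC hCQ hle c hc
    obtain ⟨t, ht, n, hn, rfl⟩ := exists_mul_res P hC hc
    exact Subgroup.mul_mem _ (h1 (hCQ ht)) (Subgroup.le_normalizer (hle hn))
  rw [← Subgroup.normalizer_eq_top_iff, eq_top_iff, ← hAB]
  exact sup_le (h2 A hA le_sup_left le_sup_left) (h2 B hB le_sup_right le_sup_right)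

theorem core_ne_top (ih : JoinIH.{u} p (Nat.card G)) (P : Sylow p G) {A B : Subgroup G}
    (hA : A.IsSubnormal) (hB : B.IsSubnormal) (hAB : A ⊔ B = ⊤)
    (hn : (res p A ⊔ res p B).Normal) (hne : res p A ⊔ res p B ≠ ⊤) :
    (P : Subgroup G) ≤ ((P : Subgroup G) ⊓ A) ⊔ ((P : Subgroup G) ⊓ B) := by
  set Q := ((P : Subgroup G) ⊓ A) ⊔ ((P : Subgroup G) ⊓ B) with hQ
  have hQP : Q ≤ P := sup_le inf_le_left inf_le_left
  have h1 := step_proper ih P (res p A) (res p B) (res_subnormal hA) (res_subnormal hB) hne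
  have h2 : (P : Subgroup G) ⊓ (res p A ⊔ res p B) ≤ Q :=
    h1.trans (sup_le_sup (inf_le_inf_left _ (res_le A)) (inf_le_inf_left _ (res_le B)))
  have h3 : Q ⊔ (res p A ⊔ res p B) = ⊤ := by
    rw [eq_top_iff, ← hAB]
    apply sup_le
    · intro a ha
      obtain ⟨t, ht, n, hn', rfl⟩ := exists_mul_res P hA ha
      exact Subgroup.mul_mem _ (Subgroup.mem_sup_left (Subgroup.mem_sup_left ht))
        (Subgroup.mem_sup_right (Subgroup.mem_sup_left hn'))
    · intro a ha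
      obtain ⟨t, ht, n, hn', rfl⟩ := exists_mul_res P hB ha
      exact Subgroup.mul_mem _ (Subgroup.mem_sup_left (Subgroup.mem_sup_right ht))
        (Subgroup.mem_sup_right (Subgroup.mem_sup_right hn'))
  intro u hu
  have hu' : u ∈ Q ⊔ (res p A ⊔ res p B) := by rw [h3]; trivial
  obtain ⟨q, hq, g, hg, rfl⟩ := Subgroup.mem_sup_of_normal_right.mp hu'
  have hgP : g ∈ (P : Subgroup G) := by
    have := (P : Subgroup G).mul_mem ((P : Subgroup G).inv_mem (hQP hq)) hu
    simpa using this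
  exact Subgroup.mul_mem _ hq (h2 ⟨hgP, hg⟩)

theorem core_pprime (ih : JoinIH.{u} p (Nat.card G)) (P : Sylow p G) {A B : Subgroup G}
    (hA : A.IsSubnormal) (hB : B.IsSubnormal) (hAB : A ⊔ B = ⊤) (hne : pPrimeCore p G ≠ ⊥) :
    (P : Subgroup G) ≤ ((P : Subgroup G) ⊓ A) ⊔ ((P : Subgroup G) ⊓ B) := by
  apply reduce ih P A B hA hB hAB (pPrimeCore p G) hne
  have h1 : (P : Subgroup G) ⊓ pPrimeCore p G = ⊥ := by
    apply eq_bot_of_isPGroup_of_coprime (p := p) (P.isPGroup'.to_le inf_le_left)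
    exact Nat.Coprime.coprime_dvd_left (Subgroup.card_dvd_of_le inf_le_right)
      (card_pPrimeCore_coprime p)
  rw [h1]
  exact bot_le

theorem core_comp (ih : JoinIH.{u} p (Nat.card G)) (P : Sylow p G) {A B : Subgroup G}
    (hA : A.IsSubnormal) (hB : B.IsSubnormal) (hAB : A ⊔ B = ⊤) {K : Subgroup G}
    (hK : IsComponent K) :
    (P : Subgroup G) ≤ ((P : Subgroup G) ⊓ A) ⊔ ((P : Subgroup G) ⊓ B) := by
  have hE : layer G ≠ ⊥ := by
    intro h
    apply comp_ne_bot hK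
    rw [eq_bot_iff, ← h]
    exact comp_le_layer hK
  apply reduce ih P A B hA hB hAB (layer G) hE
  -- each component lies in `A` or `B`
  have hcase : ∀ L : Subgroup G, IsComponent L → L ≤ A ∨ L ≤ B := by
    intro L hL
    rcases comp_le_or_commute hL hA with h1 | h1
    · exact Or.inl h1
    rcases comp_le_or_commute hL hB with h2 | h2
    · exact Or.inr h2
    exfalso
    apply qs_not_comm hL.2
    have h3 : A ⊔ B ≤ Subgroup.centralizer (L : Set G) := by
      apply sup_le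
      · rw [← Subgroup.le_centralizer_iff]
        exact Subgroup.commutator_eq_bot_iff_le_centralizer.mp h1
      · rw [← Subgroup.le_centralizer_iff]
        exact Subgroup.commutator_eq_bot_iff_le_centralizer.mp h2
    rw [hAB] at h3
    refine ⟨⟨fun a b => Subtype.ext ?_⟩⟩
    have := Subgroup.mem_centralizer_iff.mp (h3 (Subgroup.mem_top (b : G))) (a : G) a.2
    exact this
  have hnorm : ∀ C : Subgroup G, C.IsSubnormal → layer G ≤ Subgroup.normalizer (C : Set G) := by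
    intro C hC
    apply sSup_le
    intro L hL
    rcases comp_le_or_commute hL hC with h1 | h1
    · exact h1.trans Subgroup.le_normalizer
    · have h2 : L ≤ Subgroup.centralizer (C : Set G) :=
        Subgroup.commutator_eq_bot_iff_le_centralizer.mp h1
      exact h2.trans (Subgroup.centralizer_le_normalizer _)
  have hEs : (layer G).IsSubnormal := layer_normal.isSubnormal
  have h1 := inf_sup_le_of_le_normalizer P (A ⊓ layer G) (B ⊓ layer G) (hA.inf hEs) (hB.inf hEs) (by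
    rw [Subgroup.le_normalizer_iff]
    intro x hx y hy
    refine ⟨(Subgroup.mem_normalizer_iff.mp (hnorm B hB hx.2) y).mp hy.1, ?_⟩
    exact (layer G).mul_mem ((layer G).mul_mem hx.2 hy.2) ((layer G).inv_mem hx.2))
  have h2 : layer G ≤ A ⊓ layer G ⊔ B ⊓ layer G := by
    apply sSup_le
    intro L hL
    have hLE : L ≤ layer G := comp_le_layer hL
    rcases hcase L hL with h | h
    · exact (le_inf h hLE).trans le_sup_left
    · exact (le_inf h hLE).trans le_sup_right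
  have h3 : (P : Subgroup G) ⊓ layer G ≤ (P : Subgroup G) ⊓ (A ⊓ layer G ⊔ B ⊓ layer G) :=
    inf_le_inf_left _ h2
  refine h3.trans (h1.trans ?_)
  apply sup_le_sup
  · exact inf_le_inf_left _ inf_le_left
  · exact inf_le_inf_left _ inf_le_left

/-- Commutators of `O^p(C)` with a normal `p`-subgroup `N ≤ P` lie in `N` and in `P ⊓ C`. -/
theorem comm_mem (P : Sylow p G) {C N Q : Subgroup G} (hC : C.IsSubnormal) (hCQ : (P : Subgroup G) ⊓ C ≤ Q)
    [hN : N.Normal] (hNp : IsPGroup p N) (hNP : N ≤ P) :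
    ∀ h ∈ res p C, ∀ n ∈ N, n * h * n⁻¹ * h⁻¹ ∈ Q ⊓ N := by
  intro h hh n hn
  have h1 : N ≤ Subgroup.normalizer ((res p C : Subgroup G) : Set G) :=
    le_normalizer_of_subnormal hN.isSubnormal hNp (res_subnormal hC) (map_pResidual_le_closure C)
  have h2 : n * h * n⁻¹ ∈ res p C := (Subgroup.mem_normalizer_iff.mp (h1 hn) h).mp hh
  have h3 : n * h * n⁻¹ * h⁻¹ ∈ res p C := Subgroup.mul_mem _ h2 (Subgroup.inv_mem _ hh)
  have h4 : n * h * n⁻¹ * h⁻¹ ∈ N := by
    have : n * h * n⁻¹ * h⁻¹ = n * (h * n⁻¹ * h⁻¹) := by group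
    rw [this]
    exact N.mul_mem hn (hN.conj_mem _ (N.inv_mem hn) h)
  exact ⟨hCQ ⟨hNP h4, res_le C h3⟩, h4⟩

/-- The final case: `O_p(G)` is large, `G` generated by `p'`-elements. -/
theorem core_final (ih : JoinIH.{u} p (Nat.card G)) (P : Sylow p G) {A B : Subgroup G}
    (hA : A.IsSubnormal) (hB : B.IsSubnormal) (hAB : A ⊔ B = ⊤)
    (htop : res p A ⊔ res p B = ⊤)
    (h1 : pPrimeCore p G = ⊥) (h2 : ∀ K : Subgroup G, ¬ IsComponent K) :
    (P : Subgroup G) ≤ ((P : Subgroup G) ⊓ A) ⊔ ((P : Subgroup G) ⊓ B) := by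
  classical
  set Q := ((P : Subgroup G) ⊓ A) ⊔ ((P : Subgroup G) ⊓ B) with hQ
  have hQP : Q ≤ P := sup_le inf_le_left inf_le_left
  have hAQ : (P : Subgroup G) ⊓ A ≤ Q := le_sup_left
  have hBQ : (P : Subgroup G) ⊓ B ≤ Q := le_sup_right
  have hC := centralizer_pCore_le_of_no_component h1 h2
  set U := pCore p G with hU
  have hUp : IsPGroup p U := isPGroup_pCore p
  have hUP : U ≤ (P : Subgroup G) := pCore_le_sylow p P
  by_cases hUb : U = ⊥
  · intro u _
    have : u ∈ Subgroup.centralizer (U : Set G) := by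
      rw [Subgroup.mem_centralizer_iff]
      intro x hx
      have hx1 : x = 1 := by
        rw [hUb] at hx
        exact hx
      simp [hx1]
    have hu1 : u ∈ U := hC this
    rw [hUb] at hu1
    have hu2 : u = 1 := hu1
    rw [hu2]
    exact Subgroup.one_mem _
  -- the centre of `U`
  set N : Subgroup G := U ⊓ Subgroup.centralizer (U : Set G) with hN
  haveI hNn : N.Normal := by
    rw [hN]; infer_instance
  have hNp : IsPGroup p N := hUp.to_le inf_le_left
  have hNP : N ≤ (P : Subgroup G) := inf_le_left.trans hUP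
  have hNab : ∀ a ∈ N, ∀ b ∈ N, a * b = b * a := by
    intro a ha b hb
    exact Subgroup.mem_centralizer_iff.mp hb.2 a ha.1
  have hNne : N ≠ ⊥ := by
    haveI : Nontrivial U := (Subgroup.nontrivial_iff_ne_bot U).mpr hUb
    haveI := hUp.center_nontrivial
    obtain ⟨z, hz⟩ := exists_ne (1 : Subgroup.center U)
    intro hb
    apply hz
    have hzN : ((z : U) : G) ∈ N := by
      refine ⟨(z : U).2, Subgroup.mem_centralizer_iff.mpr ?_⟩
      intro x hx
      have := Subgroup.mem_center_iff.mp z.2 ⟨x, hx⟩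
      exact congrArg Subtype.val this
    rw [hb] at hzN
    exact Subtype.ext (Subtype.ext hzN)
  -- the intersection
  set V : Subgroup G := Q ⊓ N with hV
  have hcA := comm_mem (Q := Q) P hA hAQ hNp hNP
  have hcB := comm_mem (Q := Q) P hB hBQ hNp hNP
  have hPfac := reduce' ih P A B hA hB hAB N hNne
  have hVQ : Q ≤ Subgroup.normalizer (V : Set G) := by
    rw [Subgroup.le_normalizer_iff]
    intro q hq v hv
    exact ⟨Subgroup.mul_mem _ (Subgroup.mul_mem _ hq hv.1) (Subgroup.inv_mem _ hq),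
      hNn.conj_mem v hv.2 q⟩
  have hVN : N ≤ Subgroup.normalizer (V : Set G) := by
    rw [Subgroup.le_normalizer_iff]
    intro n hn v hv
    have : n * v * n⁻¹ = v := by rw [hNab n hn v hv.2]; group
    rw [this]; exact hv
  have hVP : (P : Subgroup G) ≤ Subgroup.normalizer (V : Set G) := by
    intro u hu
    obtain ⟨q, hq, n, hn, rfl⟩ := hPfac u hu
    exact Subgroup.mul_mem _ (hVQ hq) (hVN hn)
  have hVres : ∀ C : Subgroup G, (∀ h ∈ res p C, ∀ n ∈ N, n * h * n⁻¹ * h⁻¹ ∈ V) →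
      res p C ≤ Subgroup.normalizer (V : Set G) := by
    intro C hCc
    rw [Subgroup.le_normalizer_iff]
    intro h hh v hv
    have h3 := hCc h hh v⁻¹ (N.inv_mem hv.2)
    have h5 : h * v * h⁻¹ = v * (v⁻¹ * h * (v⁻¹)⁻¹ * h⁻¹) := by group
    rw [h5]
    exact V.mul_mem hv h3
  have hVC : ∀ C : Subgroup G, C.IsSubnormal → (∀ h ∈ res p C, ∀ n ∈ N, n * h * n⁻¹ * h⁻¹ ∈ V) →
      C ≤ Subgroup.normalizer (V : Set G) := by
    intro C hC' hCc c hc
    obtain ⟨t, ht, n, hn, rfl⟩ := exists_mul_res P hC' hc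
    exact Subgroup.mul_mem _ (hVP ht.1) (hVres C hCc hn)
  haveI hVnorm : V.Normal := by
    rw [← Subgroup.normalizer_eq_top_iff, eq_top_iff, ← hAB]
    exact sup_le (hVC A hA hcA) (hVC B hB hcB)
  by_cases hVb : V = ⊥
  swap
  · exact reduce ih P A B hA hB hAB V hVb (inf_le_right.trans inf_le_left)
  exfalso
  -- a central element
  have hcomm1 : ∀ C : Subgroup G, (∀ h ∈ res p C, ∀ n ∈ N, n * h * n⁻¹ * h⁻¹ ∈ V) →
      ∀ h ∈ res p C, ∀ n ∈ N, n * h = h * n := by
    intro C hCc h hh n hn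
    have h3 := hCc h hh n hn
    rw [hVb] at h3
    have h4 : n * h * n⁻¹ * h⁻¹ = 1 := h3
    have h5 : n * h * n⁻¹ = h := by
      rwa [mul_inv_eq_one] at h4
    rw [mul_inv_eq_iff_eq_mul] at h5
    exact h5
  -- the centre of `P` meets `N`
  haveI hPnil : Group.IsNilpotent (P : Subgroup G) := P.isPGroup'.isNilpotent
  have hNP' : (N.subgroupOf (P : Subgroup G)) ≠ ⊥ := by
    intro hb
    apply hNne
    rw [eq_bot_iff]
    intro x hx
    have h3 : (⟨x, hNP hx⟩ : (P : Subgroup G)) ∈ N.subgroupOf (P : Subgroup G) := hx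
    rw [hb] at h3
    have h4 : (⟨x, hNP hx⟩ : (P : Subgroup G)) = 1 := h3
    exact congrArg Subtype.val h4
  have hz0 := Cfsg.Agent.Lib.BrolineGT.inf_center_ne_bot (N.subgroupOf (P : Subgroup G)) hNP'
  obtain ⟨z0, hz0m, hz0ne⟩ := Cfsg.Agent.Lib.BrolineGT.exists_mem_ne_one hz0
  have hz0N : (z0 : G) ∈ N := hz0m.1
  have hz0ne' : (z0 : G) ≠ 1 := fun h => hz0ne (Subtype.ext h)
  have hz0c : ∀ u ∈ (P : Subgroup G), u * (z0 : G) = (z0 : G) * u := by
    intro u hu
    have := Subgroup.mem_center_iff.mp hz0m.2 ⟨u, hu⟩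
    exact congrArg Subtype.val this
  -- order `p`
  obtain ⟨k, hk⟩ := IsPGroup.iff_orderOf.mp hNp ⟨(z0 : G), hz0N⟩
  have hk' : orderOf (z0 : G) = p ^ k := by
    rw [← hk, Subgroup.orderOf_mk]
  have hk0 : k ≠ 0 := by
    rintro rfl
    apply hz0ne'
    rw [pow_zero] at hk'
    exact orderOf_eq_one_iff.mp hk'
  have hpdvd : p ∣ orderOf (z0 : G) := by
    rw [hk']
    exact dvd_pow_self p hk0
  set z : G := (z0 : G) ^ (orderOf (z0 : G) / p) with hz
  have hzord : orderOf z = p := orderOf_pow_orderOf_div (by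
    exact (orderOf_pos (z0 : G)).ne') hpdvd
  have hzN : z ∈ N := N.pow_mem hz0N _
  have hzne : z ≠ 1 := by
    intro h
    rw [h, orderOf_one] at hzord
    exact hp.out.one_lt.ne hzord
  have hzP : ∀ u ∈ (P : Subgroup G), u * z = z * u := by
    intro u hu
    exact (Commute.pow_right (show Commute u (z0 : G) from hz0c u hu) _)
  have hzC : ∀ C : Subgroup G, C.IsSubnormal → (∀ h ∈ res p C, ∀ n ∈ N, n * h * n⁻¹ * h⁻¹ ∈ V) →
      ∀ c ∈ C, c * z = z * c := by
    intro C hC' hCc c hc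
    obtain ⟨t, ht, n, hn, rfl⟩ := exists_mul_res P hC' hc
    have e1 := hzP t ht.1
    have e2 := hcomm1 C hCc n hn z hzN
    calc t * n * z = t * (n * z) := by group
      _ = t * (z * n) := by rw [e2]
      _ = (t * z) * n := by group
      _ = (z * t) * n := by rw [e1]
      _ = z * (t * n) := by group
  have hzcen : ∀ g : G, g * z = z * g := by
    intro g
    have h3 : A ⊔ B ≤ Subgroup.centralizer ({z} : Set G) := by
      apply sup_le
      · intro c hc
        rw [Subgroup.mem_centralizer_singleton_iff]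
        exact hzC A hA hcA c hc
      · intro c hc
        rw [Subgroup.mem_centralizer_singleton_iff]
        exact hzC B hB hcB c hc
    rw [hAB] at h3
    have := h3 (Subgroup.mem_top g)
    rwa [Subgroup.mem_centralizer_singleton_iff] at this
  -- the subgroup generated by `z`
  haveI hZn : (Subgroup.zpowers z).Normal := by
    constructor
    intro x hx g
    obtain ⟨j, rfl⟩ := Subgroup.mem_zpowers_iff.mp hx
    have hcz : Commute g (z ^ j) := Commute.zpow_right (show Commute g z from hzcen g) j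
    have : g * z ^ j * g⁻¹ = z ^ j := by rw [hcz.eq]; group
    rw [this]
    exact Subgroup.zpow_mem_zpowers z j
  have hZne : Subgroup.zpowers z ≠ ⊥ := by
    intro h
    apply hzne
    have := Subgroup.mem_zpowers z
    rw [h] at this
    exact this
  have hfac := reduce' ih P A B hA hB hAB (Subgroup.zpowers z) hZne
  -- `Q` is normal in `P`, with abelian quotient
  set Q₁ : Subgroup (P : Subgroup G) := Q.subgroupOf (P : Subgroup G) with hQ₁
  have hcenpow : ∀ (n : G), n ∈ Subgroup.zpowers z → ∀ g : G, g * n = n * g := by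
    intro n hn g
    obtain ⟨j, rfl⟩ := Subgroup.mem_zpowers_iff.mp hn
    exact Commute.zpow_right (show Commute g z from hzcen g) j
  haveI hQ₁n : Q₁.Normal := by
    constructor
    intro x hx g
    obtain ⟨q, hq, n, hn, hgq⟩ := hfac (g : G) g.2
    show (g : G) * (x : G) * (g : G)⁻¹ ∈ Q
    rw [hgq]
    have e : q * n * (x : G) * (q * n)⁻¹ = q * (x : G) * q⁻¹ := by
      have := hcenpow n hn (x : G)
      calc q * n * (x : G) * (q * n)⁻¹ = q * (n * (x : G)) * n⁻¹ * q⁻¹ := by group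
        _ = q * ((x : G) * n) * n⁻¹ * q⁻¹ := by rw [this]
        _ = q * (x : G) * q⁻¹ := by group
    rw [e]
    exact Subgroup.mul_mem _ (Subgroup.mul_mem _ hq hx) (Subgroup.inv_mem _ hq)
  letI instA : CommGroup ((P : Subgroup G) ⧸ Q₁) :=
    { (inferInstance : Group ((P : Subgroup G) ⧸ Q₁)) with
      mul_comm := by
        intro a b
        induction a using QuotientGroup.induction_on with
        | H x =>
        induction b using QuotientGroup.induction_on with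
        | H y =>
        rw [← QuotientGroup.mk_mul, ← QuotientGroup.mk_mul, QuotientGroup.eq]
        show ((x * y)⁻¹ * (y * x) : (P : Subgroup G)) ∈ Q₁
        obtain ⟨q₁, hq₁, n₁, hn₁, hx⟩ := hfac (x : G) x.2
        obtain ⟨q₂, hq₂, n₂, hn₂, hy⟩ := hfac (y : G) y.2
        show (((x * y)⁻¹ * (y * x) : (P : Subgroup G)) : G) ∈ Q
        have e : (((x * y)⁻¹ * (y * x) : (P : Subgroup G)) : G) = q₂⁻¹ * q₁⁻¹ * q₂ * q₁ := by
          push_cast
          rw [hx, hy]
          have c1 := hcenpow n₁ hn₁ q₂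
          have c2 := hcenpow n₂ hn₂ q₁
          have c3 := hcenpow n₂ hn₂ n₁
          have e2 : q₁ * n₁ * (q₂ * n₂) = q₁ * q₂ * (n₁ * n₂) := by
            calc q₁ * n₁ * (q₂ * n₂) = q₁ * (n₁ * q₂) * n₂ := by group
              _ = q₁ * (q₂ * n₁) * n₂ := by rw [c1]
              _ = q₁ * q₂ * (n₁ * n₂) := by group
          have e3 : q₂ * n₂ * (q₁ * n₁) = q₂ * q₁ * (n₁ * n₂) := by
            calc q₂ * n₂ * (q₁ * n₁) = q₂ * (n₂ * q₁) * n₁ := by group
              _ = q₂ * (q₁ * n₂) * n₁ := by rw [c2]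
              _ = q₂ * q₁ * (n₂ * n₁) := by group
              _ = q₂ * q₁ * (n₁ * n₂) := by rw [c3]
          rw [e2, e3]
          have c4 : ∀ w : G, w * (n₁ * n₂) = (n₁ * n₂) * w := by
            intro w
            have := hcenpow n₁ hn₁ w
            have h' := hcenpow n₂ hn₂ w
            calc w * (n₁ * n₂) = (w * n₁) * n₂ := by group
              _ = (n₁ * w) * n₂ := by rw [this]
              _ = n₁ * (w * n₂) := by group
              _ = n₁ * (n₂ * w) := by rw [h']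
              _ = (n₁ * n₂) * w := by group
          have c5 := c4 (q₂⁻¹ * q₁⁻¹ * q₂ * q₁)
          calc (q₁ * q₂ * (n₁ * n₂))⁻¹ * (q₂ * q₁ * (n₁ * n₂))
              = (n₁ * n₂)⁻¹ * ((q₂⁻¹ * q₁⁻¹ * q₂ * q₁) * (n₁ * n₂)) := by group
            _ = (n₁ * n₂)⁻¹ * ((n₁ * n₂) * (q₂⁻¹ * q₁⁻¹ * q₂ * q₁)) := by rw [c5]
            _ = q₂⁻¹ * q₁⁻¹ * q₂ * q₁ := by group
        rw [e]
        exact Subgroup.mul_mem _ (Subgroup.mul_mem _ (Subgroup.mul_mem _ (Q.inv_mem hq₂) (Q.inv_mem hq₁)) hq₂) hq₁ }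
  let φ : (P : Subgroup G) →* ((P : Subgroup G) ⧸ Q₁) := QuotientGroup.mk' Q₁
  have hApg : IsPGroup p ((P : Subgroup G) ⧸ Q₁) :=
    (P.isPGroup').to_quotient Q₁
  let τ : G →* ((P : Subgroup G) ⧸ Q₁) := φ.transfer
  -- `τ` is trivial, since `G` is generated by `p'`-elements
  have hτ : ∀ C : Subgroup G, res p C ≤ τ.ker := by
    intro C
    rw [res, map_pResidual_eq_closure, Subgroup.closure_le]
    rintro x ⟨_, hxc⟩
    show τ x = 1
    have h3 : orderOf (τ x) ∣ orderOf x := orderOf_map_dvd τ x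
    obtain ⟨m, hm⟩ := IsPGroup.iff_orderOf.mp hApg (τ x)
    have h4 : Nat.Coprime (orderOf (τ x)) p := Nat.Coprime.coprime_dvd_left h3 hxc
    rw [hm] at h4
    have h5 : m = 0 := by
      by_contra hm0
      have : p ∣ Nat.gcd (p ^ m) p := Nat.dvd_gcd (dvd_pow_self p hm0) dvd_rfl
      rw [h4] at this
      exact hp.out.one_lt.ne' (Nat.dvd_one.mp this)
    rw [h5, pow_zero] at hm
    exact orderOf_eq_one_iff.mp hm
  have hτtop : τ z = 1 := by
    have : z ∈ τ.ker := by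
      have h3 : (⊤ : Subgroup G) ≤ τ.ker := by
        rw [← htop]
        exact sup_le (hτ A) (hτ B)
      exact h3 (Subgroup.mem_top z)
    exact this
  -- but `τ z ≠ 1`
  have hkey : ∀ (k : ℕ) (g₀ : G), g₀⁻¹ * z ^ k * g₀ ∈ (P : Subgroup G) →
      g₀⁻¹ * z ^ k * g₀ = z ^ k := by
    intro k g₀ _
    have : g₀ * z ^ k = z ^ k * g₀ := Commute.pow_right (show Commute g₀ z from hzcen g₀) k
    calc g₀⁻¹ * z ^ k * g₀ = g₀⁻¹ * (z ^ k * g₀) := by group
      _ = g₀⁻¹ * (g₀ * z ^ k) := by rw [this]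
      _ = z ^ k := by group
  have hval := MonoidHom.transfer_eq_pow φ z hkey
  have hτ2 : φ ⟨z ^ (P : Subgroup G).index,
      MonoidHom.transfer_eq_pow_aux z hkey⟩ = 1 := by
    rw [← hval]
    exact hτtop
  have hmem : z ^ (P : Subgroup G).index ∈ Q := by
    have := (QuotientGroup.eq_one_iff _).mp hτ2
    exact this
  have hmem2 : z ^ (P : Subgroup G).index ∈ V := ⟨hmem, N.pow_mem hzN _⟩
  rw [hVb] at hmem2
  have hmem3 : z ^ (P : Subgroup G).index = 1 := hmem2
  have hdvd : p ∣ (P : Subgroup G).index := by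
    have := orderOf_dvd_of_pow_eq_one hmem3
    rwa [hzord] at this
  exact P.not_dvd_index hdvd

end core

/-- **Sylow join.** -/
theorem main : ∀ (n : ℕ) (G : Type u) [Group G] [Finite G], Nat.card G = n →
    ∀ (P : Sylow p G) (A B : Subgroup G), A.IsSubnormal → B.IsSubnormal →
    (P : Subgroup G) ⊓ (A ⊔ B) ≤ ((P : Subgroup G) ⊓ A) ⊔ ((P : Subgroup G) ⊓ B) := by
  intro n
  induction n using Nat.strong_induction_on with
  | _ n IH =>
    intro G _ _ hn P A B hA hB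
    have ih : JoinIH.{u} p (Nat.card G) := by
      intro G' _ _ hG' P' A' B' hA' hB'
      exact IH (Nat.card G') (by omega) G' rfl P' A' B' hA' hB'
    by_cases hAB : A ⊔ B = ⊤
    swap
    · exact step_proper ih P A B hA hB hAB
    rw [hAB, inf_top_eq]
    set Q₀ := ((P : Subgroup G) ⊓ A) ⊔ ((P : Subgroup G) ⊓ B) with hQ₀
    have hQ₀P : Q₀ ≤ P := sup_le inf_le_left inf_le_left
    classical
    -- maximal elements
    let F : Set (Subgroup G) := {X | X.IsSubnormal ∧ (P : Subgroup G) ⊓ X ≤ Q₀}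
    have hF : F.Finite := Set.toFinite F
    obtain ⟨A₁, hAA₁, hA₁⟩ := hF.exists_le_maximal (show A ∈ F from ⟨hA, le_sup_left⟩)
    obtain ⟨B₁, hBB₁, hB₁⟩ := hF.exists_le_maximal (show B ∈ F from ⟨hB, le_sup_right⟩)
    by_cases hAt : A₁ = ⊤
    · have := hA₁.1.2
      rw [hAt, inf_top_eq] at this
      exact this
    by_cases hBt : B₁ = ⊤
    · have := hB₁.1.2
      rw [hBt, inf_top_eq] at this
      exact this
    -- a maximal element is normalized by `Q₀`
    have hnorm : ∀ C : Subgroup G, Maximal (· ∈ F) C → C ≠ ⊤ →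
        Q₀ ≤ Subgroup.normalizer (C : Set G) := by
      intro C hC hCt
      have hconj : ∀ x ∈ Q₀, C.map (MulAut.conj x).toMonoidHom ≤ C := by
        intro x hx
        have hxP : x ∈ (P : Subgroup G) := hQ₀P hx
        obtain ⟨M, hMn, hCM, hMt⟩ := hC.1.1.exists_normal_and_le_and_lt_top_of_ne hCt
        have hCx : (C.map (MulAut.conj x).toMonoidHom).IsSubnormal :=
          hC.1.1.map (MulAut.conj x).surjective
        have hCxM : C.map (MulAut.conj x).toMonoidHom ≤ M := by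
          rintro _ ⟨y, hy, rfl⟩
          exact hMn.conj_mem y (hCM hy) x
        have hsup : C ⊔ C.map (MulAut.conj x).toMonoidHom ≠ ⊤ := by
          intro h
          exact hMt.ne (top_le_iff.mp (h ▸ sup_le hCM hCxM))
        have h1 := step_proper ih P C _ hC.1.1 hCx hsup
        have h2 : (P : Subgroup G) ⊓ C.map (MulAut.conj x).toMonoidHom ≤ Q₀ := by
          rintro _ ⟨hv, ⟨y, hy, rfl⟩⟩
          have hv' : x * y * x⁻¹ ∈ (P : Subgroup G) := hv
          have hyP : y ∈ (P : Subgroup G) := by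
            have e : y = x⁻¹ * (x * y * x⁻¹) * x := by group
            rw [e]
            exact Subgroup.mul_mem _ (Subgroup.mul_mem _ (Subgroup.inv_mem _ hxP) hv') hxP
          have hyQ : y ∈ Q₀ := hC.1.2 ⟨hyP, hy⟩
          exact Subgroup.mul_mem _ (Subgroup.mul_mem _ hx hyQ) (Subgroup.inv_mem _ hx)
        have h3 : C ⊔ C.map (MulAut.conj x).toMonoidHom ∈ F :=
          ⟨Cfsg.Agent.Lib.Subnormal.sup_isSubnormal _ _ hC.1.1 hCx, h1.trans (sup_le hC.1.2 h2)⟩
        have h4 : C ⊔ C.map (MulAut.conj x).toMonoidHom ≤ C := hC.2 h3 le_sup_left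
        exact le_sup_right.trans h4
      intro x hx
      rw [Subgroup.mem_normalizer_iff]
      intro y
      constructor
      · intro hy
        exact hconj x hx ⟨y, hy, rfl⟩
      · intro hy
        have h1 := hconj x⁻¹ (Q₀.inv_mem hx) ⟨x * y * x⁻¹, hy, rfl⟩
        have e : (MulAut.conj x⁻¹).toMonoidHom (x * y * x⁻¹) = y := by
          show x⁻¹ * (x * y * x⁻¹) * x⁻¹⁻¹ = y
          group
        rwa [e] at h1
    have hQ₁ : ((P : Subgroup G) ⊓ A₁) ⊔ ((P : Subgroup G) ⊓ B₁) = Q₀ := by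
      apply le_antisymm
      · exact sup_le hA₁.1.2 hB₁.1.2
      · exact sup_le_sup (inf_le_inf_left _ hAA₁) (inf_le_inf_left _ hBB₁)
    have hA₁B₁ : A₁ ⊔ B₁ = ⊤ := by
      rw [eq_top_iff, ← hAB]
      exact sup_le_sup hAA₁ hBB₁
    have hnA := hnorm A₁ hA₁ hAt
    have hnB := hnorm B₁ hB₁ hBt
    rw [← hQ₁]
    have hres : (res p A₁ ⊔ res p B₁).Normal :=
      res_sup_normal P hA₁.1.1 hB₁.1.1 hA₁B₁ (by rw [hQ₁]; exact hnA) (by rw [hQ₁]; exact hnB)
    by_cases hrt : res p A₁ ⊔ res p B₁ = ⊤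
    swap
    · exact core_ne_top ih P hA₁.1.1 hB₁.1.1 hA₁B₁ hres hrt
    by_cases hpp : pPrimeCore p G = ⊥
    swap
    · exact core_pprime ih P hA₁.1.1 hB₁.1.1 hA₁B₁ hpp
    by_cases hcomp : ∃ K : Subgroup G, IsComponent K
    · obtain ⟨K, hK⟩ := hcomp
      exact core_comp ih P hA₁.1.1 hB₁.1.1 hA₁B₁ hK
    · push Not at hcomp
      exact core_final ih P hA₁.1.1 hB₁.1.1 hA₁B₁ hrt hpp hcomp

/-- **Sylow join.** For `A`, `B` subnormal and `P` Sylow, `P ⊓ (A ⊔ B) ≤ (P ⊓ A) ⊔ (P ⊓ B)`. -/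
theorem inf_sup_le {G : Type u} [Group G] [Finite G] (P : Sylow p G) (A B : Subgroup G)
    (hA : A.IsSubnormal) (hB : B.IsSubnormal) :
    (P : Subgroup G) ⊓ (A ⊔ B) ≤ ((P : Subgroup G) ⊓ A) ⊔ ((P : Subgroup G) ⊓ B) :=
  main _ G rfl P A B hA hB

end Cfsg.Agent.Lib.SylowJoin
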