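import Mathlib
import Cfsg.Prelude.Def_LocalEven
import Cfsg.Agent.Lib.SylowJoin
import Cfsg.Agent.Lib.CharPLocal
import Cfsg.Agent.Lib.CocycleAvg
import Cfsg.Agent.Lib.Subnormal2

/-!
# Basic tools for point stabilizers
-/

set_option autoImplicit false
set_option linter.unusedSectionVars false
set_option linter.style.haveILetI false

open Cfsg
open Cfsg.Agent.Lib.PCore Cfsg.Agent.Lib.PResid Cfsg.Agent.Lib.SubnormalP
  Cfsg.Agent.Lib.SubnormalSylow Cfsg.Agent.Lib.CharPLocal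

namespace Cfsg.Agent.Lib.PointStab

universe u

variable {H : Type*} [Group H] {p : ℕ}

/-- The subgroup generated by the `p`-elements of `X`. -/
def pg (p : ℕ) (X : Subgroup H) : Subgroup H :=
  Subgroup.closure {x : H | x ∈ X ∧ ∃ k : ℕ, orderOf x = p ^ k}

theorem pg_le (X : Subgroup H) : pg p X ≤ X := by
  rw [pg, Subgroup.closure_le]
  rintro x ⟨hx, _⟩
  exact hx

theorem mem_pg {X : Subgroup H} {x : H} (hx : x ∈ X) (hk : ∃ k : ℕ, orderOf x = p ^ k) :
    x ∈ pg p X := Subgroup.subset_closure ⟨hx, hk⟩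

/-- Conjugation by an element normalizing `X` and `X'` preserves `pg`. -/
theorem conj_mem_pg {X X' : Subgroup H} {g : H} (hg : ∀ x ∈ X, g * x * g⁻¹ ∈ X') :
    ∀ y ∈ pg p X, g * y * g⁻¹ ∈ pg p X' := by
  intro y hy
  induction hy using Subgroup.closure_induction with
  | mem y hy =>
    apply Subgroup.subset_closure
    refine ⟨hg y hy.1, ?_⟩
    have : orderOf (g * y * g⁻¹) = orderOf y := (MulAut.conj g).orderOf_eq y
    rw [this]
    exact hy.2
  | one => simp
  | mul a b _ _ ha hb =>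
    have : g * (a * b) * g⁻¹ = (g * a * g⁻¹) * (g * b * g⁻¹) := by group
    rw [this]
    exact Subgroup.mul_mem _ ha hb
  | inv a _ ha =>
    have : g * a⁻¹ * g⁻¹ = (g * a * g⁻¹)⁻¹ := by group
    rw [this]
    exact Subgroup.inv_mem _ ha

theorem le_normalizer_pg (X : Subgroup H) : X ≤ Subgroup.normalizer ((pg p X : Subgroup H) : Set H) := by
  rw [Subgroup.le_normalizer_iff]
  intro x hx y hy
  exact conj_mem_pg (fun z hz => X.mul_mem (X.mul_mem hx hz) (X.inv_mem hx)) y hy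

theorem pg_subnormal_in {X Y : Subgroup H} (hYX : Y ≤ X) (hY : (Y.subgroupOf X).IsSubnormal) :
    ((pg p Y).subgroupOf X).IsSubnormal := by
  have hle : pg p Y ≤ Y := pg_le Y
  apply Subgroup.IsSubnormal.step _ (Y.subgroupOf X) (fun z hz => hle hz) hY
  rw [Subgroup.normal_subgroupOf_iff_le_normalizer (H := (pg p Y).subgroupOf X)
    (K := Y.subgroupOf X) (fun z hz => hle hz)]
  intro y hy
  rw [Subgroup.mem_normalizer_iff]
  intro z
  have hy' : (y : H) ∈ Subgroup.normalizer ((pg p Y : Subgroup H) : Set H) := le_normalizer_pg Y hy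
  show (z : H) ∈ pg p Y ↔ ((y : H) * (z : H) * (y : H)⁻¹) ∈ pg p Y
  exact Subgroup.mem_normalizer_iff.mp hy' (z : H)

/-- Elements whose order is a power of `p` lying in a `p`-subgroup. -/
theorem pelt_of_mem [Finite H] [Fact p.Prime] {X : Subgroup H} (hX : IsPGroup p X) {x : H} (hx : x ∈ X) :
    ∃ k : ℕ, orderOf x = p ^ k := orderOf_eq_pow_of_mem hX hx

theorem le_pg [Finite H] [Fact p.Prime] {X S : Subgroup H} (hS : IsPGroup p S) (hSX : S ≤ X) :
    S ≤ pg p X := fun _ hx => mem_pg (hSX hx) (pelt_of_mem hS hx)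

theorem exists_conj_mem_sylow {G : Type*} [Group G] [Finite G] [Fact p.Prime] (S : Sylow p G) (y : G)
    (hy : ∃ k : ℕ, orderOf y = p ^ k) : ∃ g : G, g * y * g⁻¹ ∈ (S : Subgroup G) := by
  have hp : IsPGroup p (Subgroup.zpowers y) := by
    obtain ⟨k, hk⟩ := hy
    rw [IsPGroup.iff_card, Nat.card_zpowers]
    exact ⟨k, hk⟩
  obtain ⟨S', hS'⟩ := hp.exists_le_sylow
  obtain ⟨g, hg⟩ := exists_conj_sylow S' S
  refine ⟨g, ?_⟩
  have h1 : y ∈ (S' : Subgroup G) := hS' (Subgroup.mem_zpowers y)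
  rw [hg]
  exact conj_mem_conj_map h1

/-- A subnormal subgroup containing a Sylow subgroup contains all `p`-elements. -/
theorem pelt_mem_of_subnormal_of_sylow {G : Type*} [Group G] [Finite G] [Fact p.Prime] {X : Subgroup G}
    (hX : X.IsSubnormal) (S : Sylow p G) (hS : (S : Subgroup G) ≤ X) (y : G)
    (hy : ∃ k : ℕ, orderOf y = p ^ k) : y ∈ X := by
  induction hX with
  | top => trivial
  | step X' K hle _ hN ih =>
    have hyK : y ∈ K := ih (hS.trans hle)
    let SK : Sylow p K := S.subtype (hS.trans hle)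
    obtain ⟨g, hg⟩ := exists_conj_mem_sylow SK (⟨y, hyK⟩ : K) (by
      obtain ⟨k, hk⟩ := hy
      exact ⟨k, by rw [Subgroup.orderOf_mk]; exact hk⟩)
    have h1 : ((g * ⟨y, hyK⟩ * g⁻¹ : K) : G) ∈ (S : Subgroup G) := by
      have h2 : (g * ⟨y, hyK⟩ * g⁻¹ : K) ∈ (SK : Subgroup K) := hg
      have h3 : (SK : Subgroup K) = (S : Subgroup G).subgroupOf K := rfl
      rw [h3] at h2
      exact h2
    have h4 : (g : G) * y * (g : G)⁻¹ ∈ X' := hS h1
    have h5 := (Subgroup.normal_subgroupOf_iff_le_normalizer hle).mp hN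
    have h6 : (g : G)⁻¹ ∈ Subgroup.normalizer (X' : Set G) := h5 (K.inv_mem g.2)
    have h7 := (Subgroup.mem_normalizer_iff.mp h6 _).mp h4
    have e : (g : G)⁻¹ * ((g : G) * y * (g : G)⁻¹) * (g : G)⁻¹⁻¹ = y := by group
    rwa [e] at h7

/-- A Sylow subgroup of `A` contained in `Y ≤ A` is Sylow in `Y`: as a `Sylow` object of the type `↥Y`. -/
theorem exists_sylow_of_le [Finite H] [Fact p.Prime] (T : Sylow p H) {A Y : Subgroup H}
    (hA : A.IsSubnormal) (hYA : Y ≤ A) (hTY : (T : Subgroup H) ⊓ A ≤ Y) :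
    ∃ S : Sylow p ↥Y, (S : Subgroup ↥Y) = ((T : Subgroup H) ⊓ A).subgroupOf Y := by
  have h1 : IsPGroup p (((T : Subgroup H) ⊓ A).subgroupOf Y) :=
    (T.isPGroup'.to_le inf_le_left).comap_of_injective Y.subtype Y.subtype_injective
  have h2 : ¬ p ∣ (((T : Subgroup H) ⊓ A).subgroupOf Y).index := by
    intro hd
    have h3 := Cfsg.Agent.Lib.Subnormal2.not_dvd_relIndex_of_subnormal p A hA T
    apply h3
    have h4 : (T : Subgroup H).relIndex A = ((T : Subgroup H) ⊓ A).relIndex A :=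
      (Subgroup.inf_relIndex_right _ _).symm
    rw [h4, ← Subgroup.relIndex_mul_relIndex _ _ _ hTY hYA]
    exact dvd_mul_of_dvd_left hd _
  exact ⟨h1.toSylow h2, rfl⟩

/-- Coprimality of the index. -/
theorem coprime_relIndex [Finite H] [hp : Fact p.Prime] (T : Sylow p H) {A Y : Subgroup H}
    (hA : A.IsSubnormal) (hYA : Y ≤ A) (hTY : (T : Subgroup H) ⊓ A ≤ Y) :
    Nat.Coprime (((T : Subgroup H) ⊓ A).relIndex Y) p := by
  obtain ⟨S, hS⟩ := exists_sylow_of_le T hA hYA hTY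
  have h := S.not_dvd_index
  rw [hS] at h
  exact ((Nat.Prime.coprime_iff_not_dvd hp.out).mpr h).symm

/-- The core of a subgroup, as a subgroup of the ambient group. -/
abbrev coreOf (p : ℕ) (K : Subgroup H) : Subgroup H := (pCore p ↥K).map K.subtype

theorem coreOf_le (K : Subgroup H) : coreOf p K ≤ K := Subgroup.map_subtype_le _

theorem coreOf_isPGroup [Finite H] [Fact p.Prime] (K : Subgroup H) : IsPGroup p (coreOf p K) :=
  (isPGroup_pCore p).map _

theorem le_normalizer_coreOf (K : Subgroup H) :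
    Subgroup.normalizer ((K : Subgroup H) : Set H) ≤ Subgroup.normalizer ((coreOf p K : Subgroup H) : Set H) :=
  normalizer_le_normalizer_of_characteristic (pCore_characteristic p)

/-- A subgroup subnormal in a `p`-local subgroup has characteristic `p`. -/
theorem centralizer_coreOf_le [Finite H] [Fact p.Prime] (hH : IsOfLocalCharacteristic p H)
    {U K : Subgroup H} (hU : IsPGroup p U) (hne : U ≠ ⊥)
    (hKN : K ≤ Subgroup.normalizer (U : Set H))
    (hK : (K.subgroupOf (Subgroup.normalizer (U : Set H))).IsSubnormal) :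
    K ⊓ Subgroup.centralizer ((coreOf p K : Subgroup H) : Set H) ≤ coreOf p K := by
  set N := Subgroup.normalizer (U : Set H) with hN
  have h1 := hH.2 U hU hne
  have h2 := charP_of_isSubnormal h1 (K.subgroupOf N) hK
  have h3 : Subgroup.centralizer ((pCore p ↥K : Subgroup ↥K) : Set ↥K) ≤ pCore p ↥K :=
    charP_congr (Subgroup.subgroupOfEquivOfLe hKN) h2
  rintro c ⟨hc1, hc2⟩
  have h4 : (⟨c, hc1⟩ : ↥K) ∈ Subgroup.centralizer ((pCore p ↥K : Subgroup ↥K) : Set ↥K) := by
    rw [Subgroup.mem_centralizer_iff]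
    intro q hq
    apply Subtype.ext
    exact Subgroup.mem_centralizer_iff.mp hc2 (q : H) ⟨q, hq, rfl⟩
  exact ⟨_, h3 h4, rfl⟩

/-- Normal `p`-subgroups of `K` lie in each Sylow subgroup of `A ≥ K` contained in `K`. -/
theorem coreOf_le_inf [Finite H] [Fact p.Prime] (T : Sylow p H) {A K : Subgroup H}
    (hA : A.IsSubnormal) (hKA : K ≤ A) (hTK : (T : Subgroup H) ⊓ A ≤ K) :
    coreOf p K ≤ (T : Subgroup H) ⊓ A := by
  obtain ⟨S, hS⟩ := exists_sylow_of_le T hA hKA hTK
  rintro _ ⟨q, hq, rfl⟩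
  have h1 : q ∈ (S : Subgroup K) := pCore_le_sylow p S hq
  rw [hS] at h1
  exact h1

/-- The elements of `Ω₁(Z(R))` as a subgroup. -/
def elemZ (p : ℕ) (R : Subgroup H) : Subgroup H where
  carrier := {e | e ∈ R ∧ e ∈ Subgroup.centralizer (R : Set H) ∧ e ^ p = 1}
  one_mem' := ⟨R.one_mem, Subgroup.one_mem _, one_pow p⟩
  inv_mem' := by
    rintro a ⟨h1, h2, h3⟩
    exact ⟨R.inv_mem h1, Subgroup.inv_mem _ h2, by rw [inv_pow, h3, inv_one]⟩
  mul_mem' := by
    rintro a b ⟨h1, h2, h3⟩ ⟨h4, h5, h6⟩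
    refine ⟨R.mul_mem h1 h4, Subgroup.mul_mem _ h2 h5, ?_⟩
    have hc : Commute a b := (Subgroup.mem_centralizer_iff.mp h5 a h1)
    rw [hc.mul_pow, h3, h6, one_mul]

theorem mem_elemZ {R : Subgroup H} {e : H} :
    e ∈ elemZ p R ↔ e ∈ R ∧ e ∈ Subgroup.centralizer (R : Set H) ∧ e ^ p = 1 := Iff.rfl

theorem omegaOne_eq_elemZ (R : Subgroup H) :
    omegaOne p (R ⊓ Subgroup.centralizer (R : Set H)) = elemZ p R := by
  apply le_antisymm
  · rw [omegaOne, Subgroup.closure_le]
    rintro e ⟨⟨h1, h2⟩, h3⟩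
    exact ⟨h1, h2, h3⟩
  · rintro e ⟨h1, h2, h3⟩
    exact Subgroup.subset_closure ⟨⟨h1, h2⟩, h3⟩

theorem elemZ_le (R : Subgroup H) : elemZ p R ≤ R := fun _ h => h.1

theorem elemZ_isPGroup [Finite H] [Fact p.Prime] {R : Subgroup H} (hR : IsPGroup p R) :
    IsPGroup p (elemZ p R) := hR.to_le (elemZ_le R)

/-- `Ω₁(Z(R)) ≠ 1` for a non-trivial `p`-group `R`. -/
theorem elemZ_ne_bot [Finite H] [hp : Fact p.Prime] {R : Subgroup H} (hR : IsPGroup p R) (hne : R ≠ ⊥) :
    elemZ p R ≠ ⊥ := by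
  haveI : Nontrivial R := (Subgroup.nontrivial_iff_ne_bot R).mpr hne
  haveI := hR.center_nontrivial
  obtain ⟨z, hz⟩ := exists_ne (1 : Subgroup.center R)
  have hz' : ((z : R) : H) ≠ 1 := fun h => hz (Subtype.ext (Subtype.ext h))
  have hzc : ((z : R) : H) ∈ Subgroup.centralizer (R : Set H) := by
    refine Subgroup.mem_centralizer_iff.mpr ?_
    intro x hx
    have := Subgroup.mem_center_iff.mp z.2 ⟨x, hx⟩
    exact congrArg Subtype.val this
  obtain ⟨k, hk⟩ := pelt_of_mem hR (z : R).2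
  have hk0 : k ≠ 0 := by
    rintro rfl
    rw [pow_zero] at hk
    exact hz' (orderOf_eq_one_iff.mp hk)
  have hd : p ∣ orderOf ((z : R) : H) := by
    rw [hk]; exact dvd_pow_self p hk0
  have hord : orderOf (((z : R) : H) ^ (orderOf ((z : R) : H) / p)) = p :=
    orderOf_pow_orderOf_div (orderOf_pos _).ne' hd
  intro hb
  have hmem : ((z : R) : H) ^ (orderOf ((z : R) : H) / p) ∈ elemZ p R := by
    refine ⟨R.pow_mem (z : R).2 _, Subgroup.pow_mem _ hzc _, ?_⟩
    have h7 := pow_orderOf_eq_one (((z : R) : H) ^ (orderOf ((z : R) : H) / p))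
    rwa [hord] at h7
  rw [hb] at hmem
  have : ((z : R) : H) ^ (orderOf ((z : R) : H) / p) = 1 := hmem
  rw [this, orderOf_one] at hord
  exact hp.out.one_lt.ne hord

/-- `x` centralizes `Ω₁(Z(R))` in the sense of the prelude iff it commutes with all elements. -/
theorem mem_centralizer_omega {R : Subgroup H} {x : H} :
    x ∈ Subgroup.centralizer ((omegaOne p (R ⊓ Subgroup.centralizer (R : Set H)) : Subgroup H) : Set H) ↔
      ∀ e ∈ elemZ p R, e * x = x * e := by
  rw [omegaOne_eq_elemZ, Subgroup.mem_centralizer_iff]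
  exact Iff.rfl

/-- `p`-th-power-one elements: a power coprime to `p` recovers the commutation. -/
theorem commute_of_pow_coprime {x e : H} {m : ℕ} (he : e ^ p = 1) (hm : Nat.Coprime m p)
    (hc : e ^ m * x = x * e ^ m) : e * x = x * e := by
  have h1 : Commute (e ^ m) x := hc
  have h2 : e ∈ Subgroup.zpowers (e ^ m) := by
    have h3 : orderOf e ∣ p := orderOf_dvd_of_pow_eq_one he
    have h4 : Nat.Coprime (orderOf e) m := (Nat.Coprime.coprime_dvd_left h3 hm.symm)
    have h5 : orderOf (e ^ m) = orderOf e := h4.orderOf_pow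
    obtain ⟨j, hj⟩ := exists_pow_eq_self_of_coprime (n := m) (x := e) h4.symm
    rw [Subgroup.mem_zpowers_iff]
    refine ⟨j, ?_⟩
    rw [zpow_natCast]
    exact hj
  obtain ⟨j, hj⟩ := Subgroup.mem_zpowers_iff.mp h2
  have h3 := Commute.zpow_left h1 j
  rw [hj] at h3
  exact h3

/-- Variant of `conj_mem_pg` only asking the conjugation on `p`-elements. -/
theorem conj_mem_pg' {X X' : Subgroup H} {g : H}
    (hg : ∀ x ∈ X, (∃ k : ℕ, orderOf x = p ^ k) → g * x * g⁻¹ ∈ X') :
    ∀ y ∈ pg p X, g * y * g⁻¹ ∈ pg p X' := by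
  intro y hy
  induction hy using Subgroup.closure_induction with
  | mem y hy =>
    apply Subgroup.subset_closure
    refine ⟨hg y hy.1 hy.2, ?_⟩
    have : orderOf (g * y * g⁻¹) = orderOf y := (MulAut.conj g).orderOf_eq y
    rw [this]
    exact hy.2
  | one => simp
  | mul a b _ _ ha hb =>
    have : g * (a * b) * g⁻¹ = (g * a * g⁻¹) * (g * b * g⁻¹) := by group
    rw [this]
    exact Subgroup.mul_mem _ ha hb
  | inv a _ ha =>
    have : g * a⁻¹ * g⁻¹ = (g * a * g⁻¹)⁻¹ := by group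
    rw [this]
    exact Subgroup.inv_mem _ ha

theorem normalizer_le_normalizer_centralizer' (U : Subgroup H) :
    Subgroup.normalizer (U : Set H) ≤
      Subgroup.normalizer ((Subgroup.centralizer (U : Set H) : Subgroup H) : Set H) := by
  rw [Subgroup.le_normalizer_iff]
  intro n hn c hc
  rw [Subgroup.mem_centralizer_iff] at hc ⊢
  intro u hu
  have h1 : n⁻¹ * u * n ∈ U := by
    have := (Subgroup.mem_normalizer_iff.mp (Subgroup.inv_mem _ hn) u).mp hu
    simpa using this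
  have h2 := hc _ h1
  calc u * (n * c * n⁻¹) = n * ((n⁻¹ * u * n) * c) * n⁻¹ := by group
    _ = n * (c * (n⁻¹ * u * n)) * n⁻¹ := by rw [h2]
    _ = n * c * n⁻¹ * u := by group

/-- The subgroup `pg (A ⊓ C_H(U))` is subnormal in `N_H(U)`. -/
theorem pg_inf_subnormal {U A : Subgroup H} (hA : A.IsSubnormal) :
    ((pg p (A ⊓ Subgroup.centralizer (U : Set H))).subgroupOf (Subgroup.normalizer (U : Set H))).IsSubnormal := by
  have hC : Subgroup.centralizer (U : Set H) ≤ Subgroup.normalizer (U : Set H) :=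
    Subgroup.centralizer_le_normalizer _
  apply pg_subnormal_in (inf_le_right.trans hC)
  have h1 : (A ⊓ Subgroup.centralizer (U : Set H)).subgroupOf (Subgroup.normalizer (U : Set H)) =
      A.subgroupOf (Subgroup.normalizer (U : Set H)) ⊓
        (Subgroup.centralizer (U : Set H)).subgroupOf (Subgroup.normalizer (U : Set H)) := by
    ext x; rfl
  rw [h1]
  apply Subgroup.IsSubnormal.inf hA.subgroupOf
  apply Subgroup.Normal.isSubnormal
  rw [Subgroup.normal_subgroupOf_iff_le_normalizer hC]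
  exact normalizer_le_normalizer_centralizer' U

/-- **(b)**: an element of order `p` of `T` centralizing `T ⊓ A` commutes with the `p`-elements of `A`
centralizing `Ω₁(Z(T ⊓ A))`. -/
theorem commute_of_omega [Finite H] [hp : Fact p.Prime] (hH : IsOfLocalCharacteristic p H)
    (T : Sylow p H) {A : Subgroup H} (hA : A.IsSubnormal) {z : H} (hzp : z ^ p = 1)
    (hzc : ∀ t ∈ (T : Subgroup H) ⊓ A, t * z = z * t) {y : H} (hyA : y ∈ A)
    (hyc : ∀ e ∈ elemZ p ((T : Subgroup H) ⊓ A), e * y = y * e)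
    (hy : ∃ k : ℕ, orderOf y = p ^ k) : y * z = z * y := by
  classical
  set R : Subgroup H := (T : Subgroup H) ⊓ A with hR
  have hRp : IsPGroup p R := T.isPGroup'.to_le inf_le_left
  by_cases hRb : R = ⊥
  · obtain ⟨S, hS⟩ := exists_sylow_inf_of_isSubnormal T A hA
    obtain ⟨g, hg⟩ := exists_conj_mem_sylow S (⟨y, hyA⟩ : A) (by
      obtain ⟨k, hk⟩ := hy
      exact ⟨k, by rw [Subgroup.orderOf_mk]; exact hk⟩)
    have h1 : ((g * ⟨y, hyA⟩ * g⁻¹ : A) : H) ∈ R := by
      rw [hR, ← hS]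
      exact ⟨_, hg, rfl⟩
    rw [hRb] at h1
    have h2 : ((g : H) * y * (g : H)⁻¹) = 1 := h1
    have h3 : y = 1 := by
      have e : y = (g : H)⁻¹ * ((g : H) * y * (g : H)⁻¹) * (g : H) := by group
      rw [e, h2]; group
    rw [h3]; group
  set U : Subgroup H := elemZ p R with hU
  have hUp : IsPGroup p U := elemZ_isPGroup hRp
  have hUne : U ≠ ⊥ := elemZ_ne_bot hRp hRb
  set C : Subgroup H := Subgroup.centralizer (U : Set H) with hC
  set Y : Subgroup H := A ⊓ C with hY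
  set K : Subgroup H := pg p Y with hK
  have hRC : R ≤ C := by
    intro r hr
    refine Subgroup.mem_centralizer_iff.mpr ?_
    intro e he
    exact Subgroup.mem_centralizer_iff.mp he.2.1 r hr |>.symm
  have hRY : R ≤ Y := le_inf inf_le_right hRC
  have hRK : R ≤ K := le_pg hRp hRY
  have hKA : K ≤ A := (pg_le Y).trans inf_le_left
  have hKC : K ≤ C := (pg_le Y).trans inf_le_right
  have hyK : y ∈ K := mem_pg ⟨hyA, Subgroup.mem_centralizer_iff.mpr hyc⟩ hy
  set Q : Subgroup H := coreOf p K with hQ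
  have hQC : K ⊓ Subgroup.centralizer (Q : Set H) ≤ Q :=
    centralizer_coreOf_le hH hUp hUne (hKC.trans (Subgroup.centralizer_le_normalizer _))
      (pg_inf_subnormal hA)
  have hQR : Q ≤ R := coreOf_le_inf T hA hKA hRK
  have hQp : IsPGroup p Q := coreOf_isPGroup K
  have hKQ : K ≤ Subgroup.normalizer (Q : Set H) := Subgroup.le_normalizer.trans (le_normalizer_coreOf K)
  -- `z` and `z⁻¹` normalize `K`
  have hzC' : ∀ w : H, (∀ t ∈ R, t * w = w * t) → ∀ x ∈ Y, (∃ k : ℕ, orderOf x = p ^ k) →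
      w ∈ C → w * x * w⁻¹ ∈ Y := by
    intro w hw x hx hxk hwC
    have hsub : (A.map (MulAut.conj w⁻¹).toMonoidHom).IsSubnormal :=
      hA.map (MulAut.conj w⁻¹).surjective
    obtain ⟨S, hS⟩ := exists_sylow_of_le T hA (inf_le_left : Y ≤ A) hRY
    have hSX : (S : Subgroup Y) ≤ (A.map (MulAut.conj w⁻¹).toMonoidHom).subgroupOf Y := by
      rw [hS]
      intro r hr
      have hr' : (r : H) ∈ R := hr
      refine ⟨(r : H), hr'.2, ?_⟩
      show w⁻¹ * (r : H) * w⁻¹⁻¹ = (r : H)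
      have := hw _ hr'
      calc w⁻¹ * (r : H) * w⁻¹⁻¹ = w⁻¹ * ((r : H) * w) := by group
        _ = w⁻¹ * (w * (r : H)) := by rw [this]
        _ = (r : H) := by group
    have h1 := pelt_mem_of_subnormal_of_sylow (hsub.subgroupOf (K := Y)) S hSX ⟨x, hx⟩ (by
      obtain ⟨k, hk⟩ := hxk
      exact ⟨k, by rw [Subgroup.orderOf_mk]; exact hk⟩)
    obtain ⟨a, ha, hax⟩ := h1
    have hax' : w⁻¹ * a * w⁻¹⁻¹ = x := hax
    have e : w * x * w⁻¹ = a := by
      rw [← hax']; group
    rw [e] 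
    refine ⟨ha, ?_⟩
    have h2 : w * x * w⁻¹ ∈ C := C.mul_mem (C.mul_mem hwC hx.2) (C.inv_mem hwC)
    rwa [e] at h2
  have hzU : z ∈ C := by
    refine Subgroup.mem_centralizer_iff.mpr ?_
    intro e he
    exact hzc e he.1
  have hzinv : ∀ t ∈ R, t * z⁻¹ = z⁻¹ * t := by
    intro t ht
    have := hzc t ht
    calc t * z⁻¹ = z⁻¹ * (z * t) * z⁻¹ := by group
      _ = z⁻¹ * (t * z) * z⁻¹ := by rw [this]
      _ = z⁻¹ * t := by group
  have hzK : ∀ x ∈ K, z * x * z⁻¹ ∈ K :=
    conj_mem_pg' (fun x hx hk => hzC' z hzc x hx hk hzU)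
  -- commutators
  have hzQ : ∀ q ∈ Q, q * z = z * q := fun q hq => hzc q (hQR hq)
  -- the module
  set W₀ : Subgroup H := elemZ p Q with hW₀
  set W : Subgroup K := W₀.subgroupOf K with hW
  have hW₀Q : W₀ ≤ Q := elemZ_le Q
  haveI hWn : W.Normal := by
    constructor
    intro x hx g
    have hx' : (x : H) ∈ W₀ := hx
    show ((g : H) * (x : H) * (g : H)⁻¹) ∈ W₀
    have hgQ : (g : H) ∈ Subgroup.normalizer (Q : Set H) := hKQ g.2
    refine ⟨(Subgroup.mem_normalizer_iff.mp hgQ _).mp hx'.1, ?_, ?_⟩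
    · refine Subgroup.mem_centralizer_iff.mpr ?_
      intro q hq
      have h1 : (g : H)⁻¹ * q * (g : H) ∈ Q := by
        have := (Subgroup.mem_normalizer_iff.mp (Subgroup.inv_mem _ hgQ) q).mp hq
        simpa using this
      have h2 := Subgroup.mem_centralizer_iff.mp hx'.2.1 _ h1
      calc q * ((g : H) * (x : H) * (g : H)⁻¹)
          = (g : H) * (((g : H)⁻¹ * q * (g : H)) * (x : H)) * (g : H)⁻¹ := by group
        _ = (g : H) * ((x : H) * ((g : H)⁻¹ * q * (g : H))) * (g : H)⁻¹ := by rw [h2]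
        _ = (g : H) * (x : H) * (g : H)⁻¹ * q := by group
    · rw [conj_pow, hx'.2.2]
      group
  have hWab : ∀ a ∈ W, ∀ b ∈ W, a * b = b * a := by
    intro a ha b hb
    apply Subtype.ext
    have ha' : (a : H) ∈ W₀ := ha
    have hb' : (b : H) ∈ W₀ := hb
    exact Subgroup.mem_centralizer_iff.mp hb'.2.1 (a : H) ha'.1
  have hWp : IsPGroup p W :=
    (elemZ_isPGroup hQp).comap_of_injective K.subtype K.subtype_injective
  have hcop : ((R.subgroupOf K).index).Coprime (Nat.card W) := by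
    obtain ⟨j, hj⟩ := IsPGroup.iff_card.mp hWp
    rw [hj]
    exact Nat.Coprime.pow_right j (coprime_relIndex T hA hKA hRK)
  -- the cocycle
  have hmemK : ∀ g : K, (g : H) * z * (g : H)⁻¹ * z⁻¹ ∈ K := by
    intro g
    have e : (g : H) * z * (g : H)⁻¹ * z⁻¹ = (g : H) * (z * (g : H)⁻¹ * z⁻¹) := by group
    rw [e]
    exact K.mul_mem g.2 (hzK _ (K.inv_mem g.2))
  let c : K → K := fun g => ⟨(g : H) * z * (g : H)⁻¹ * z⁻¹, hmemK g⟩
  have hccomm : ∀ g : K, ∀ q ∈ Q, q * ((g : H) * z * (g : H)⁻¹) = ((g : H) * z * (g : H)⁻¹) * q := by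
    intro g q hq
    have hgQ : (g : H) ∈ Subgroup.normalizer (Q : Set H) := hKQ g.2
    have h1 : (g : H)⁻¹ * q * (g : H) ∈ Q := by
      have := (Subgroup.mem_normalizer_iff.mp (Subgroup.inv_mem _ hgQ) q).mp hq
      simpa using this
    have h2 := hzQ _ h1
    calc q * ((g : H) * z * (g : H)⁻¹)
        = (g : H) * (((g : H)⁻¹ * q * (g : H)) * z) * (g : H)⁻¹ := by group
      _ = (g : H) * (z * ((g : H)⁻¹ * q * (g : H))) * (g : H)⁻¹ := by rw [h2]
      _ = ((g : H) * z * (g : H)⁻¹) * q := by group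
  have hcQ : ∀ g : K, (g : H) * z * (g : H)⁻¹ * z⁻¹ ∈ Q ∧
      (g : H) * z * (g : H)⁻¹ * z⁻¹ ∈ Subgroup.centralizer (Q : Set H) := by
    intro g
    have h1 : (g : H) * z * (g : H)⁻¹ * z⁻¹ ∈ Subgroup.centralizer (Q : Set H) := by
      refine Subgroup.mem_centralizer_iff.mpr ?_
      intro q hq
      have h2 := hccomm g q hq
      have h3 := hzQ q hq
      have h4 : q * z⁻¹ = z⁻¹ * q := by
        calc q * z⁻¹ = z⁻¹ * (z * q) * z⁻¹ := by group
          _ = z⁻¹ * (q * z) * z⁻¹ := by rw [h3]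
          _ = z⁻¹ * q := by group
      calc q * ((g : H) * z * (g : H)⁻¹ * z⁻¹) = (q * ((g : H) * z * (g : H)⁻¹)) * z⁻¹ := by group
        _ = (((g : H) * z * (g : H)⁻¹) * q) * z⁻¹ := by rw [h2]
        _ = ((g : H) * z * (g : H)⁻¹) * (q * z⁻¹) := by group
        _ = ((g : H) * z * (g : H)⁻¹) * (z⁻¹ * q) := by rw [h4]
        _ = (g : H) * z * (g : H)⁻¹ * z⁻¹ * q := by group
    exact ⟨hQC ⟨hmemK g, h1⟩, h1⟩
  have hcW : ∀ g : K, c g ∈ W := by
    intro g
    obtain ⟨h1, h2⟩ := hcQ g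
    refine ⟨h1, h2, ?_⟩
    -- `c g` commutes with `z`
    have h3 : Commute ((g : H) * z * (g : H)⁻¹ * z⁻¹) z := (hzQ _ h1)
    have h4 : ((g : H) * z * (g : H)⁻¹ * z⁻¹) * z = (g : H) * z * (g : H)⁻¹ := by group
    have h5 : ((g : H) * z * (g : H)⁻¹) ^ p = 1 := by
      rw [conj_pow, hzp]; group
    rw [← h4, h3.mul_pow, hzp, mul_one] at h5
    exact h5
  have hcmul : ∀ g h : K, c (g * h) = c g * (g * c h * g⁻¹) := by
    intro g h
    have h1 : c g * (g * c h * g⁻¹) = (g * c h * g⁻¹) * c g :=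
      hWab _ (hcW g) _ (hWn.conj_mem _ (hcW h) g)
    rw [h1]
    apply Subtype.ext
    show ((g : H) * (h : H)) * z * ((g : H) * (h : H))⁻¹ * z⁻¹ =
      ((g : H) * ((h : H) * z * (h : H)⁻¹ * z⁻¹) * (g : H)⁻¹) * ((g : H) * z * (g : H)⁻¹ * z⁻¹)
    group
  have hcT : ∀ t ∈ R.subgroupOf K, c t = 1 := by
    intro t ht
    apply Subtype.ext
    show (t : H) * z * (t : H)⁻¹ * z⁻¹ = 1
    have e : (t : H) * z = z * (t : H) := hzc _ ht
    rw [e]
    group
  obtain ⟨b, hb, hbc⟩ := Cfsg.Agent.Lib.CocycleAvg.exists_coboundary (R.subgroupOf K) W hWab hcop c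
    hcW hcmul hcT
  have hb' : (b : H) ∈ W₀ := hb
  have hbU : (b : H) ∈ U := by
    refine ⟨hQR hb'.1, ?_, hb'.2.2⟩
    refine Subgroup.mem_centralizer_iff.mpr ?_
    intro t ht
    have htK : t ∈ K := hRK ht
    have h1 := hbc ⟨t, htK⟩
    rw [hcT ⟨t, htK⟩ ht] at h1
    have h2 : (b : H) * (t * (b : H)⁻¹ * t⁻¹) = 1 := (congrArg Subtype.val h1).symm
    have h3 : t * (b : H)⁻¹ * t⁻¹ = (b : H)⁻¹ := by
      exact eq_inv_of_mul_eq_one_right h2
    have h4 : t * (b : H)⁻¹ = (b : H)⁻¹ * t := by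
      rwa [mul_inv_eq_iff_eq_mul] at h3
    calc t * (b : H) = (b : H) * ((b : H)⁻¹ * t) * (b : H) := by group
      _ = (b : H) * (t * (b : H)⁻¹) * (b : H) := by rw [h4]
      _ = (b : H) * t := by group
  have h1 := hbc ⟨y, hyK⟩
  have h2 : (b : H) * y = y * (b : H) := Subgroup.mem_centralizer_iff.mp (hKC hyK) (b : H) hbU
  have h3 : y * (b : H)⁻¹ * y⁻¹ = (b : H)⁻¹ := by
    have h4 : y * (b : H)⁻¹ = (b : H)⁻¹ * y := by
      calc y * (b : H)⁻¹ = (b : H)⁻¹ * ((b : H) * y) * (b : H)⁻¹ := by group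
        _ = (b : H)⁻¹ * (y * (b : H)) * (b : H)⁻¹ := by rw [h2]
        _ = (b : H)⁻¹ * y := by group
    rw [h4]; group
  have h5 : y * z * y⁻¹ * z⁻¹ = (b : H) * (y * (b : H)⁻¹ * y⁻¹) := congrArg Subtype.val h1
  rw [h3, mul_inv_cancel] at h5
  have h6 : y * z * y⁻¹ = z := by
    rwa [mul_inv_eq_one] at h5
  rw [mul_inv_eq_iff_eq_mul] at h6
  exact h6

/-- The trace on an abelian subgroup normalized by `K`. -/
theorem exists_trace [Finite H] (K T₀ M : Subgroup H) (hMab : ∀ a ∈ M, ∀ b ∈ M, a * b = b * a)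
    (hKM : K ≤ Subgroup.normalizer (M : Set H)) :
    ∃ Tr : M → M,
      (∀ a b : M, Tr (a * b) = Tr a * Tr b) ∧
      (∀ e : M, (∀ t ∈ T₀, t * (e : H) = (e : H) * t) → ∀ g ∈ K, g * (Tr e : H) = (Tr e : H) * g) ∧
      (∀ e : M, (∀ g ∈ K, g * (e : H) = (e : H) * g) → (Tr e : H) = (e : H) ^ T₀.relIndex K) ∧
      (∀ s : H, s ∈ Subgroup.normalizer (K : Set H) → s ∈ Subgroup.normalizer (T₀ : Set H) →
        s ∈ Subgroup.normalizer (M : Set H) →
        ∀ (e e' : M), (e' : H) = s * (e : H) * s⁻¹ → (∀ t ∈ T₀, t * (e : H) = (e : H) * t) →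
        (Tr e' : H) = s * (Tr e : H) * s⁻¹) := by
  classical
  letI instM : CommGroup M :=
    { (inferInstance : Group M) with mul_comm := fun a b => Subtype.ext (hMab a a.2 b b.2) }
  haveI : Fintype (K ⧸ T₀.subgroupOf K) := Fintype.ofFinite _
  have hconjM : ∀ (g : K) (e : M), (g : H) * (e : H) * (g : H)⁻¹ ∈ M := by
    intro g e
    exact (Subgroup.mem_normalizer_iff.mp (hKM g.2) _).mp e.2
  let f : (K ⧸ T₀.subgroupOf K) → M → M := fun q e => ⟨(q.out : H) * (e : H) * (q.out : H)⁻¹, hconjM _ e⟩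
  let Tr : M → M := fun e => ∏ q, f q e
  have hfmul : ∀ q (a b : M), f q (a * b) = f q a * f q b := by
    intro q a b
    apply Subtype.ext
    show (q.out : H) * ((a : H) * (b : H)) * (q.out : H)⁻¹ =
      ((q.out : H) * (a : H) * (q.out : H)⁻¹) * ((q.out : H) * (b : H) * (q.out : H)⁻¹)
    group
  -- `f` on an arbitrary representative
  have hfmk : ∀ (e : M), (∀ t ∈ T₀, t * (e : H) = (e : H) * t) → ∀ k : K,
      ((f (QuotientGroup.mk k) e : M) : H) = (k : H) * (e : H) * (k : H)⁻¹ := by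
    intro e he k
    obtain ⟨t, ht⟩ := QuotientGroup.mk_out_eq_mul (T₀.subgroupOf K) k
    show (((QuotientGroup.mk k : K ⧸ T₀.subgroupOf K).out : K) : H) * (e : H) *
      (((QuotientGroup.mk k : K ⧸ T₀.subgroupOf K).out : K) : H)⁻¹ = _
    rw [ht]
    have h1 : (((t : T₀.subgroupOf K) : K) : H) ∈ T₀ := t.2
    have h2 := he _ h1
    push_cast
    set tt : H := (((t : T₀.subgroupOf K) : K) : H) with htt
    calc (k : H) * tt * (e : H) * ((k : H) * tt)⁻¹ = (k : H) * (tt * (e : H)) * tt⁻¹ * (k : H)⁻¹ := by group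
      _ = (k : H) * ((e : H) * tt) * tt⁻¹ * (k : H)⁻¹ := by rw [h2]
      _ = (k : H) * (e : H) * (k : H)⁻¹ := by group
  -- coercion of a product: conjugation is a homomorphism on `M`
  have hprodconj : ∀ (s : H) (hs : s ∈ Subgroup.normalizer (M : Set H)) (F : (K ⧸ T₀.subgroupOf K) → M)
      (F' : (K ⧸ T₀.subgroupOf K) → M), (∀ q, (F' q : H) = s * (F q : H) * s⁻¹) →
      (((∏ q, F' q : M)) : H) = s * ((∏ q, F q : M) : H) * s⁻¹ := by
    intro s hs F F' hF
    let cj : M →* M :=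
      { toFun := fun a => ⟨s * (a : H) * s⁻¹, (Subgroup.mem_normalizer_iff.mp hs _).mp a.2⟩
        map_one' := by
          apply Subtype.ext
          show s * ((1 : M) : H) * s⁻¹ = 1
          simp
        map_mul' := by
          intro a b
          apply Subtype.ext
          show s * ((a : H) * (b : H)) * s⁻¹ = (s * (a : H) * s⁻¹) * (s * (b : H) * s⁻¹)
          group }
    have h1 : ∏ q, F' q = cj (∏ q, F q) := by
      rw [map_prod]
      apply Finset.prod_congr rfl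
      intro q _
      exact Subtype.ext (hF q)
    rw [h1]
    rfl
  refine ⟨Tr, ?_, ?_, ?_, ?_⟩
  · intro a b
    show ∏ q, f q (a * b) = (∏ q, f q a) * ∏ q, f q b
    rw [← Finset.prod_mul_distrib]
    exact Finset.prod_congr rfl (fun q _ => hfmul q a b)
  · intro e he g hg
    -- `Tr e` is fixed by `g`
    have h1 : ∏ q, f (( ⟨g, hg⟩ : K) • q) e = Tr e :=
      Equiv.prod_comp (MulAction.toPerm (⟨g, hg⟩ : K)) (fun q => f q e)
    have h2 := hprodconj g (hKM hg) (fun q => f q e) (fun q => f ((⟨g, hg⟩ : K) • q) e) (by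
      intro q
      have h3 : ((⟨g, hg⟩ : K) • q) = QuotientGroup.mk ((⟨g, hg⟩ : K) * q.out) := by
        conv_lhs => rw [← QuotientGroup.out_eq' q]
        rfl
      rw [h3, hfmk e he]
      show g * (q.out : H) * (e : H) * (g * (q.out : H))⁻¹ = g * ((q.out : H) * (e : H) * (q.out : H)⁻¹) * g⁻¹
      group)
    rw [h1] at h2
    have h4 : ((Tr e : M) : H) = g * ((Tr e : M) : H) * g⁻¹ := h2
    rw [eq_mul_inv_iff_mul_eq] at h4
    exact h4.symm
  · intro e he
    have h1 : ∀ q, f q e = e := by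
      intro q
      apply Subtype.ext
      show (q.out : H) * (e : H) * (q.out : H)⁻¹ = e
      rw [he _ q.out.2]
      group
    show ((∏ q, f q e : M) : H) = _
    rw [Finset.prod_congr rfl (fun q _ => h1 q), Finset.prod_const, Finset.card_univ]
    have h2 : Fintype.card (K ⧸ T₀.subgroupOf K) = T₀.relIndex K := by
      rw [← Nat.card_eq_fintype_card]
      rfl
    rw [h2]
    rfl
  · intro s hsK hsT hsM e e' hee' he
    -- the bijection of cosets
    let τ : K ≃* K := 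
      { toFun := fun k => ⟨s * (k : H) * s⁻¹, (Subgroup.mem_normalizer_iff.mp hsK _).mp k.2⟩
        invFun := fun k => ⟨s⁻¹ * (k : H) * s, by
          have := (Subgroup.mem_normalizer_iff.mp (Subgroup.inv_mem _ hsK) _).mp k.2
          simpa using this⟩
        left_inv := by
          intro k
          apply Subtype.ext
          show s⁻¹ * (s * (k : H) * s⁻¹) * s = k
          group
        right_inv := by
          intro k
          apply Subtype.ext
          show s * (s⁻¹ * (k : H) * s) * s⁻¹ = k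
          group
        map_mul' := by
          intro a b
          apply Subtype.ext
          show s * ((a : H) * (b : H)) * s⁻¹ = (s * (a : H) * s⁻¹) * (s * (b : H) * s⁻¹)
          group }
    let φ : (K ⧸ T₀.subgroupOf K) ≃ (K ⧸ T₀.subgroupOf K) :=
      Quotient.congr τ.toEquiv (by
        intro a b
        rw [QuotientGroup.leftRel_apply, QuotientGroup.leftRel_apply]
        show ((a⁻¹ * b : K) : H) ∈ T₀ ↔ (((τ a)⁻¹ * τ b : K) : H) ∈ T₀
        have e1 : (((τ a)⁻¹ * τ b : K) : H) = s * ((a⁻¹ * b : K) : H) * s⁻¹ := by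
          show (s * (a : H) * s⁻¹)⁻¹ * (s * (b : H) * s⁻¹) = s * ((a : H)⁻¹ * (b : H)) * s⁻¹
          group
        rw [e1]
        exact Subgroup.mem_normalizer_iff.mp hsT _)
    have he' : ∀ t ∈ T₀, t * (e' : H) = (e' : H) * t := by
      intro t ht
      have h1 : s⁻¹ * t * s ∈ T₀ := by
        have := (Subgroup.mem_normalizer_iff.mp (Subgroup.inv_mem _ hsT) _).mp ht
        simpa using this
      have h2 := he _ h1
      rw [hee']
      calc t * (s * (e : H) * s⁻¹) = s * ((s⁻¹ * t * s) * (e : H)) * s⁻¹ := by group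
        _ = s * ((e : H) * (s⁻¹ * t * s)) * s⁻¹ := by rw [h2]
        _ = s * (e : H) * s⁻¹ * t := by group
    have h1 : ∏ q, f (φ q) e' = Tr e' := Equiv.prod_comp φ (fun q => f q e')
    have h2 := hprodconj s hsM (fun q => f q e) (fun q => f (φ q) e') (by
      intro q
      have h3 : φ q = QuotientGroup.mk (τ q.out) := by
        conv_lhs => rw [← QuotientGroup.out_eq' q]
        rfl
      rw [h3, hfmk e' he', hee']
      show (s * (q.out : H) * s⁻¹) * (s * (e : H) * s⁻¹) * (s * (q.out : H) * s⁻¹)⁻¹ =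
        s * ((q.out : H) * (e : H) * (q.out : H)⁻¹) * s⁻¹
      group)
    rw [h1] at h2
    exact h2

/-- **(a)**, one step of a subnormal chain. -/
theorem centralize_step [Finite H] [hp : Fact p.Prime] (hH : IsOfLocalCharacteristic p H)
    (T : Sylow p H) {A A₁ : Subgroup H} (hA : A.IsSubnormal) (hle : A ≤ A₁)
    (hn : A₁ ≤ Subgroup.normalizer (A : Set H)) {x : H} (hxA : x ∈ A)
    (hxc : ∀ e ∈ elemZ p ((T : Subgroup H) ⊓ A₁), e * x = x * e)
    (hx : ∃ k : ℕ, orderOf x = p ^ k) :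
    ∀ e ∈ elemZ p ((T : Subgroup H) ⊓ A), e * x = x * e := by
  classical
  set R : Subgroup H := (T : Subgroup H) ⊓ A with hR
  set R₁ : Subgroup H := (T : Subgroup H) ⊓ A₁ with hR₁
  have hRR₁ : R ≤ R₁ := inf_le_inf_left _ hle
  have hRp : IsPGroup p R := T.isPGroup'.to_le inf_le_left
  have hR₁p : IsPGroup p R₁ := T.isPGroup'.to_le inf_le_left
  by_cases hRb : R = ⊥
  · intro e he
    have h1 : e ∈ R := he.1
    rw [hRb] at h1
    have h2 : e = 1 := h1
    rw [h2]; group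
  have hR₁b : R₁ ≠ ⊥ := by
    intro h
    apply hRb
    rw [eq_bot_iff, ← h]
    exact hRR₁
  set V₁ : Subgroup H := elemZ p R₁ with hV₁
  have hV₁p : IsPGroup p V₁ := elemZ_isPGroup hR₁p
  have hV₁ne : V₁ ≠ ⊥ := elemZ_ne_bot hR₁p hR₁b
  set C : Subgroup H := Subgroup.centralizer (V₁ : Set H) with hC
  set Y : Subgroup H := A ⊓ C with hY
  set K : Subgroup H := pg p Y with hK
  have hR₁C : R₁ ≤ C := by
    intro r hr
    refine Subgroup.mem_centralizer_iff.mpr ?_
    intro e he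
    exact Subgroup.mem_centralizer_iff.mp he.2.1 r hr |>.symm
  have hRY : R ≤ Y := le_inf inf_le_right (hRR₁.trans hR₁C)
  have hRK : R ≤ K := le_pg hRp hRY
  have hKA : K ≤ A := (pg_le Y).trans inf_le_left
  have hKC : K ≤ C := (pg_le Y).trans inf_le_right
  have hxK : x ∈ K := mem_pg ⟨hxA, Subgroup.mem_centralizer_iff.mpr hxc⟩ hx
  set Q : Subgroup H := coreOf p K with hQ
  have hQC : K ⊓ Subgroup.centralizer (Q : Set H) ≤ Q :=
    centralizer_coreOf_le hH hV₁p hV₁ne (hKC.trans (Subgroup.centralizer_le_normalizer _))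
      (pg_inf_subnormal hA)
  have hQR : Q ≤ R := coreOf_le_inf T hA hKA hRK
  have hKQ : Subgroup.normalizer (K : Set H) ≤ Subgroup.normalizer (Q : Set H) := le_normalizer_coreOf K
  set M : Subgroup H := Q ⊓ Subgroup.centralizer (Q : Set H) with hM
  have hMab : ∀ a ∈ M, ∀ b ∈ M, a * b = b * a := by
    intro a ha b hb
    exact Subgroup.mem_centralizer_iff.mp hb.2 a ha.1
  have hNM : Subgroup.normalizer (K : Set H) ≤ Subgroup.normalizer (M : Set H) := by
    intro g hg
    have hg1 := hKQ hg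
    have hg2 := normalizer_le_normalizer_centralizer' Q hg1
    rw [Subgroup.mem_normalizer_iff]
    intro y
    constructor
    · rintro ⟨h1, h2⟩
      exact ⟨(Subgroup.mem_normalizer_iff.mp hg1 y).mp h1, (Subgroup.mem_normalizer_iff.mp hg2 y).mp h2⟩
    · rintro ⟨h1, h2⟩
      exact ⟨(Subgroup.mem_normalizer_iff.mp hg1 y).mpr h1, (Subgroup.mem_normalizer_iff.mp hg2 y).mpr h2⟩
  have hKM : K ≤ Subgroup.normalizer (M : Set H) := Subgroup.le_normalizer.trans hNM
  obtain ⟨Tr, hTmul, hTfix, hTpow, hTeq⟩ := exists_trace K R M hMab hKM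
  have hEM : ∀ e ∈ elemZ p R, e ∈ M := by
    intro e he
    have h1 : e ∈ Subgroup.centralizer (Q : Set H) := by
      refine Subgroup.mem_centralizer_iff.mpr ?_
      intro q hq
      exact Subgroup.mem_centralizer_iff.mp he.2.1 q (hQR hq)
    exact ⟨hQC ⟨hRK he.1, h1⟩, h1⟩
  have hm : Nat.Coprime (R.relIndex K) p := coprime_relIndex T hA hKA hRK
  -- properties of `Tr`
  have hTone : Tr 1 = 1 := by
    have := hTmul 1 1
    rw [mul_one] at this
    have h2 : Tr 1 * 1 = Tr 1 * Tr 1 := by rw [mul_one]; exact this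
    exact (mul_left_cancel h2).symm
  have hTinv : ∀ a, Tr a⁻¹ = (Tr a)⁻¹ := by
    intro a
    have h1 := hTmul a a⁻¹
    rw [mul_inv_cancel, hTone] at h1
    exact (eq_inv_of_mul_eq_one_right h1.symm)
  have hTpow' : ∀ (a : M) (n : ℕ), Tr (a ^ n) = Tr a ^ n := by
    intro a n
    induction n with
    | zero => rw [pow_zero, pow_zero, hTone]
    | succ n ih => rw [pow_succ, pow_succ, hTmul, ih]
  -- the kernel
  let E : Subgroup H :=
    { carrier := {e | ∃ he : e ∈ elemZ p R, Tr ⟨e, hEM e he⟩ = 1}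
      one_mem' := ⟨Subgroup.one_mem _, hTone⟩
      inv_mem' := by
        rintro a ⟨h1, h2⟩
        refine ⟨Subgroup.inv_mem _ h1, ?_⟩
        have : Tr ⟨a⁻¹, hEM _ (Subgroup.inv_mem _ h1)⟩ = Tr (⟨a, hEM a h1⟩ : M)⁻¹ := rfl
        rw [this, hTinv, h2, inv_one]
      mul_mem' := by
        rintro a b ⟨h1, h2⟩ ⟨h3, h4⟩
        refine ⟨Subgroup.mul_mem _ h1 h3, ?_⟩
        have : Tr ⟨a * b, hEM _ (Subgroup.mul_mem _ h1 h3)⟩ = Tr ((⟨a, hEM a h1⟩ : M) * ⟨b, hEM b h3⟩) := rfl
        rw [this, hTmul, h2, h4, one_mul] }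
  have hER₁ : E ≤ R₁ := fun e he => hRR₁ he.1.1
  -- `R₁` normalizes `K`, `R`, `E`
  have hsN : ∀ s ∈ R₁, s ∈ Subgroup.normalizer (K : Set H) := by
    intro s hs
    have hsA : s ∈ Subgroup.normalizer (A : Set H) := hn hs.2
    have hsC := hR₁C hs
    have hconj : ∀ (g : H), g ∈ R₁ → ∀ y ∈ Y, g * y * g⁻¹ ∈ Y := by
      intro g hg y hy
      exact ⟨(Subgroup.mem_normalizer_iff.mp (hn hg.2) y).mp hy.1,
        C.mul_mem (C.mul_mem (hR₁C hg) hy.2) (C.inv_mem (hR₁C hg))⟩
    rw [Subgroup.mem_normalizer_iff]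
    intro y
    constructor
    · intro hy
      exact conj_mem_pg (hconj s hs) y hy
    · intro hy
      have := conj_mem_pg (hconj s⁻¹ (R₁.inv_mem hs)) _ hy
      simpa [mul_assoc] using this
  have hsR : ∀ s ∈ R₁, s ∈ Subgroup.normalizer (R : Set H) := by
    intro s hs
    rw [Subgroup.mem_normalizer_iff]
    intro y
    have hT := hs.1
    have hAn := Subgroup.mem_normalizer_iff.mp (hn hs.2) y
    constructor
    · rintro ⟨h1, h2⟩
      exact ⟨(T : Subgroup H).mul_mem ((T : Subgroup H).mul_mem hT h1) ((T : Subgroup H).inv_mem hT),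
        hAn.mp h2⟩
    · rintro ⟨h1, h2⟩
      refine ⟨?_, hAn.mpr h2⟩
      have := (T : Subgroup H).mul_mem ((T : Subgroup H).mul_mem ((T : Subgroup H).inv_mem hT) h1) hT
      have e : s⁻¹ * (s * y * s⁻¹) * s = y := by group
      rwa [e] at this
  have hconjE : ∀ s ∈ R₁, ∀ e ∈ E, s * e * s⁻¹ ∈ E := by
    rintro s hs e ⟨he, hTe⟩
    have hsRn := hsR s hs
    have h1 : s * e * s⁻¹ ∈ elemZ p R := by
      refine ⟨(Subgroup.mem_normalizer_iff.mp hsRn e).mp he.1, ?_, ?_⟩
      · refine Subgroup.mem_centralizer_iff.mpr ?_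
        intro t ht
        have h2 : s⁻¹ * t * s ∈ R := by
          have := (Subgroup.mem_normalizer_iff.mp (Subgroup.inv_mem _ hsRn) t).mp ht
          simpa using this
        have h3 := Subgroup.mem_centralizer_iff.mp he.2.1 _ h2
        calc t * (s * e * s⁻¹) = s * ((s⁻¹ * t * s) * e) * s⁻¹ := by group
          _ = s * (e * (s⁻¹ * t * s)) * s⁻¹ := by rw [h3]
          _ = s * e * s⁻¹ * t := by group
      · rw [conj_pow, he.2.2]
        group
    refine ⟨h1, ?_⟩
    have h2 := hTeq s (hsN s hs) hsRn (hNM (hsN s hs)) ⟨e, hEM e he⟩ ⟨s * e * s⁻¹, hEM _ h1⟩ rfl (by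
      intro t ht
      exact Subgroup.mem_centralizer_iff.mp he.2.1 t ht)
    rw [hTe] at h2
    apply Subtype.ext
    rw [h2]
    simp
  -- `E = 1`
  have hEb : E = ⊥ := by
    by_contra hne
    haveI hPnil : Group.IsNilpotent R₁ := hR₁p.isNilpotent
    haveI hEn : (E.subgroupOf R₁).Normal := by
      constructor
      intro y hy g
      exact hconjE g g.2 y hy
    have hne' : E.subgroupOf R₁ ≠ ⊥ := by
      intro hb
      apply hne
      rw [eq_bot_iff]
      intro y hy
      have h3 : (⟨y, hER₁ hy⟩ : R₁) ∈ E.subgroupOf R₁ := hy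
      rw [hb] at h3
      have h4 : (⟨y, hER₁ hy⟩ : R₁) = 1 := h3
      exact congrArg Subtype.val h4
    have h1 := Cfsg.Agent.Lib.BrolineGT.inf_center_ne_bot (E.subgroupOf R₁) hne'
    obtain ⟨e0, he0, he0ne⟩ := Cfsg.Agent.Lib.BrolineGT.exists_mem_ne_one h1
    have he0E : (e0 : H) ∈ E := he0.1
    obtain ⟨he1, he2⟩ := he0E
    have he0V : (e0 : H) ∈ V₁ := by
      refine ⟨e0.2, ?_, he1.2.2⟩
      refine Subgroup.mem_centralizer_iff.mpr ?_
      intro u hu
      have := Subgroup.mem_center_iff.mp he0.2 ⟨u, hu⟩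
      exact congrArg Subtype.val this
    have h2 := hTpow ⟨e0, hEM _ he1⟩ (by
      intro g hg
      exact Subgroup.mem_centralizer_iff.mp (hKC hg) _ he0V |>.symm)
    rw [he2] at h2
    have h3 : (e0 : H) ^ R.relIndex K = 1 := h2.symm
    apply he0ne
    apply Subtype.ext
    have h4 : orderOf (e0 : H) ∣ p := orderOf_dvd_of_pow_eq_one he1.2.2
    have h5 : orderOf (e0 : H) ∣ R.relIndex K := orderOf_dvd_of_pow_eq_one h3
    have h6 : orderOf (e0 : H) = 1 := Nat.eq_one_of_dvd_coprimes hm h5 h4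
    exact orderOf_eq_one_iff.mp h6
  -- conclusion
  intro e he
  set eM : M := ⟨e, hEM e he⟩ with heM
  have hfix : ∀ g ∈ K, g * (Tr eM : H) = (Tr eM : H) * g :=
    hTfix eM (fun t ht => Subgroup.mem_centralizer_iff.mp he.2.1 t ht)
  have hf : (Tr eM : H) ∈ elemZ p R := by
    refine ⟨hQR (Tr eM).2.1, ?_, ?_⟩
    · refine Subgroup.mem_centralizer_iff.mpr ?_
      intro t ht
      exact hfix t (hRK ht)
    · have h1 : eM ^ p = 1 := Subtype.ext he.2.2
      have h2 := hTpow' eM p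
      rw [h1, hTone] at h2
      have h3 := congrArg Subtype.val h2
      exact h3.symm
  have hff : (Tr (Tr eM) : H) = (Tr eM : H) ^ R.relIndex K := hTpow (Tr eM) hfix
  have hprod : (Tr eM : H) * (e ^ R.relIndex K)⁻¹ ∈ E := by
    have h1 : (e ^ R.relIndex K) ∈ elemZ p R := Subgroup.pow_mem _ he _
    refine ⟨Subgroup.mul_mem _ hf (Subgroup.inv_mem _ h1), ?_⟩
    have h2 : (⟨(Tr eM : H) * (e ^ R.relIndex K)⁻¹, hEM _ (Subgroup.mul_mem _ hf (Subgroup.inv_mem _ h1))⟩ : M) =
        Tr eM * (eM ^ R.relIndex K)⁻¹ := rfl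
    rw [h2, hTmul, hTinv, hTpow']
    apply Subtype.ext
    show ((Tr (Tr eM) : M) : H) * ((Tr eM ^ R.relIndex K : M) : H)⁻¹ = 1
    rw [hff]
    simp
  rw [hEb] at hprod
  have h1 : (Tr eM : H) * (e ^ R.relIndex K)⁻¹ = 1 := hprod
  have h2 : (Tr eM : H) = e ^ R.relIndex K := by
    rwa [mul_inv_eq_one] at h1
  have h3 := hfix x hxK
  rw [h2] at h3
  exact commute_of_pow_coprime he.2.2 hm h3.symm

/-- **(a)** along a subnormal chain. -/
theorem centralize_chain [Finite H] [hp : Fact p.Prime] (hH : IsOfLocalCharacteristic p H)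
    (T : Sylow p H) {L : Subgroup H} (hL : L.IsSubnormal) {A' : Subgroup L} (hA' : A'.IsSubnormal)
    {x : H} (hxA : x ∈ A'.map L.subtype)
    (hxc : ∀ e ∈ elemZ p ((T : Subgroup H) ⊓ L), e * x = x * e)
    (hx : ∃ k : ℕ, orderOf x = p ^ k) :
    ∀ e ∈ elemZ p ((T : Subgroup H) ⊓ A'.map L.subtype), e * x = x * e := by
  induction hA' with
  | top =>
    rw [← MonoidHom.range_eq_map, Subgroup.range_subtype]
    exact hxc
  | step X K hle hK hN ih =>
    have hXK : X.map L.subtype ≤ K.map L.subtype := Subgroup.map_mono hle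
    have hXs : X.IsSubnormal := Subgroup.IsSubnormal.step X K hle hK hN
    have hn := (Subgroup.normal_subgroupOf_iff_le_normalizer hle).mp hN
    have hn' : K.map L.subtype ≤ Subgroup.normalizer ((X.map L.subtype : Subgroup H) : Set H) :=
      (Subgroup.map_mono hn).trans (Subgroup.le_normalizer_map _)
    exact centralize_step hH T (hXs.trans' hL) hXK hn' hxA (ih (hXK hxA)) hx

/-- The version for a subgroup of `L` given in the ambient group. -/
theorem centralize_of_subnormal [Finite H] [hp : Fact p.Prime] (hH : IsOfLocalCharacteristic p H)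
    (T : Sylow p H) {L A : Subgroup H} (hL : L.IsSubnormal) (hAL : A ≤ L) (hA : A.IsSubnormal)
    {x : H} (hxA : x ∈ A) (hxc : ∀ e ∈ elemZ p ((T : Subgroup H) ⊓ L), e * x = x * e)
    (hx : ∃ k : ℕ, orderOf x = p ^ k) :
    ∀ e ∈ elemZ p ((T : Subgroup H) ⊓ A), e * x = x * e := by
  have h1 : (A.subgroupOf L).map L.subtype = A := Subgroup.map_subgroupOf_eq_of_le hAL
  have h2 := centralize_chain hH T hL (hA.subgroupOf (K := L)) (x := x) (by rw [h1]; exact hxA) hxc hx
  rwa [h1] at h2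

end Cfsg.Agent.Lib.PointStab
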