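import Mathlib

/-!
# Jordan's theorem on prime cycles

A primitive subgroup of `Perm α` containing a cycle of prime length `p` with `p + 3 ≤ |α|` contains
the alternating group.  The proof goes through Witt's lemma: the normalizer of the cycle induces the
full symmetric group on the fixed points.
-/

set_option autoImplicit false
set_option linter.style.haveILetI false
set_option linter.unusedSectionVars false
set_option linter.unusedVariables false

namespace Cfsg.Agent.Lib.PrimeCycleJ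

open Equiv Equiv.Perm MulAction

variable {α : Type*} [Fintype α] [DecidableEq α]

/-- The pointwise stabilizer of `F` in `G`. -/
def ptStab (G : Subgroup (Perm α)) (F : Finset α) : Subgroup (Perm α) where
  carrier := {g | g ∈ G ∧ ∀ w ∈ F, g w = w}
  mul_mem' := by
    rintro a b ⟨ha, ha'⟩ ⟨hb, hb'⟩
    refine ⟨G.mul_mem ha hb, fun w hw => ?_⟩
    rw [Perm.mul_apply, hb' w hw, ha' w hw]
  one_mem' := ⟨G.one_mem, fun w _ => rfl⟩
  inv_mem' := by
    rintro a ⟨ha, ha'⟩
    refine ⟨G.inv_mem ha, fun w hw => ?_⟩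
    rw [Perm.inv_eq_iff_eq, ha' w hw]

theorem mem_ptStab {G : Subgroup (Perm α)} {F : Finset α} {g : Perm α} :
    g ∈ ptStab G F ↔ g ∈ G ∧ ∀ w ∈ F, g w = w := Iff.rfl

/-- The order of the pointwise stabilizer divides the factorial of the number of remaining points. -/
theorem card_ptStab_dvd (G : Subgroup (Perm α)) (F : Finset α) :
    Nat.card (ptStab G F) ∣ (Fintype.card {w // w ∉ F}).factorial := by
  classical
  have hle : ptStab G F ≤ (ofSubtype : Perm {w // w ∉ F} →* Perm α).range := by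
    intro g hg
    rw [mem_range_ofSubtype_iff]
    intro w hw
    simp only [Finset.mem_coe, mem_support] at hw
    show w ∉ F
    intro hwF
    exact hw (hg.2 w hwF)
  have h1 := Subgroup.card_dvd_of_le hle
  have h2 : Nat.card (ofSubtype : Perm {w // w ∉ F} →* Perm α).range
      = (Fintype.card {w // w ∉ F}).factorial := by
    rw [Nat.card_congr (MonoidHom.ofInjective (ofSubtype_injective)).symm.toEquiv, Nat.card_perm,
      Nat.card_eq_fintype_card]
  rwa [h2] at h1

/-- `G` induces the full symmetric group on `F` (and `F` is not required to be invariant). -/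
def IndSym (G : Subgroup (Perm α)) (F : Finset α) : Prop :=
  ∀ π : Perm α, (∀ w ∈ F, π w ∈ F) → ∃ g ∈ G, ∀ w ∈ F, g w = π w

theorem indSym_of_mult {G : Subgroup (Perm α)} {F : Finset α} {n : ℕ}
    (h : IsMultiplyPretransitive G α n) (hn : F.card ≤ n) (hn' : n ≤ Nat.card α) : IndSym G F := by
  intro π hπ
  haveI := h
  haveI hk : IsMultiplyPretransitive G α F.card := isMultiplyPretransitive_of_le hn hn'
  let e : Fin F.card ≃ ↥F := (Finset.equivFinOfCardEq rfl).symm
  let u : Fin F.card ↪ α := ⟨fun i => (e i : α), fun i j hij => e.injective (Subtype.ext hij)⟩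
  let u' : Fin F.card ↪ α := ⟨fun i => π (e i : α), fun i j hij =>
    e.injective (Subtype.ext (π.injective hij))⟩
  obtain ⟨g, hg⟩ := (isMultiplyPretransitive_iff.1 hk) u u'
  refine ⟨g, g.2, fun w hw => ?_⟩
  have := DFunLike.congr_fun hg (e.symm ⟨w, hw⟩)
  have h1 : (g : Perm α) (e (e.symm ⟨w, hw⟩) : α) = π (e (e.symm ⟨w, hw⟩) : α) := this
  rwa [Equiv.apply_symm_apply] at h1

/-- Sylow conjugacy for elements of prime order, when the square of the prime does not divide. -/
theorem exists_conj_zpowers_of_order {A : Type*} [Group A] [Finite A] {r : ℕ} (hr : r.Prime)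
    (hA : ¬ r ^ 2 ∣ Nat.card A) {x y : A} (hx : orderOf x = r) (hy : orderOf y = r) :
    ∃ l : A, l * y * l⁻¹ ∈ Subgroup.zpowers x := by
  haveI : Fact r.Prime := ⟨hr⟩
  have hfac : (Nat.card A).factorization r = 1 := by
    have h1 : r ∣ Nat.card A := hx ▸ orderOf_dvd_natCard x
    have hne : Nat.card A ≠ 0 := Nat.card_pos.ne'
    have h2 : 1 ≤ (Nat.card A).factorization r :=
      (hr.pow_dvd_iff_le_factorization hne).1 (by simpa using h1)
    have h3 : ¬ 2 ≤ (Nat.card A).factorization r := fun h =>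
      hA ((hr.pow_dvd_iff_le_factorization hne).2 h)
    omega
  let P : Sylow r A := Sylow.ofCard (Subgroup.zpowers x) (by
    rw [Nat.card_zpowers, hx, hfac, pow_one])
  let Q : Sylow r A := Sylow.ofCard (Subgroup.zpowers y) (by
    rw [Nat.card_zpowers, hy, hfac, pow_one])
  obtain ⟨l, hl⟩ := MulAction.exists_smul_eq A Q P
  refine ⟨l, ?_⟩
  have h1 : y ∈ (Q : Subgroup A) := by
    show y ∈ Subgroup.zpowers y
    exact Subgroup.mem_zpowers y
  have h2 : l * y * l⁻¹ ∈ ((l • Q : Sylow r A) : Subgroup A) := by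
    rw [Sylow.coe_subgroup_smul, Subgroup.mem_pointwise_smul_iff_inv_smul_mem]
    simpa [mul_assoc] using h1
  rw [hl] at h2
  exact h2

/-- Witt's lemma, prime order version. -/
theorem witt_prime {G : Subgroup (Perm α)} {F : Finset α} (hind : IndSym G F) {x : Perm α}
    (hx : x ∈ G) (hxF : ∀ w ∈ F, x w = w) {r : ℕ} (hr : r.Prime) (hox : orderOf x = r)
    (hL : ¬ r ^ 2 ∣ Nat.card (ptStab G F)) (π : Perm α) (hπ : ∀ w ∈ F, π w ∈ F) :
    ∃ h ∈ G, (∀ w ∈ F, h w = π w) ∧ h * x * h⁻¹ ∈ Subgroup.zpowers x := by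
  classical
  obtain ⟨g, hg, hgπ⟩ := hind π hπ
  -- `g` maps `F` onto `F`
  have hgF : ∀ w ∈ F, g w ∈ F := fun w hw => by rw [hgπ w hw]; exact hπ w hw
  have hgF' : ∀ w ∈ F, g⁻¹ w ∈ F := by
    have himg : F.image g = F := by
      apply Finset.eq_of_subset_of_card_le
      · intro w hw
        obtain ⟨v, hv, rfl⟩ := Finset.mem_image.1 hw
        exact hgF v hv
      · rw [Finset.card_image_of_injective _ g.injective]
    intro w hw
    rw [← himg] at hw
    obtain ⟨v, hv, rfl⟩ := Finset.mem_image.1 hw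
    simpa using hv
  have hxL : x ∈ ptStab G F := ⟨hx, hxF⟩
  have hyL : g * x * g⁻¹ ∈ ptStab G F := by
    refine ⟨G.mul_mem (G.mul_mem hg hx) (G.inv_mem hg), fun w hw => ?_⟩
    simp only [Perm.mul_apply]
    rw [hxF _ (hgF' w hw)]
    simp
  have hoy : orderOf (⟨g * x * g⁻¹, hyL⟩ : ptStab G F) = r := by
    rw [Subgroup.orderOf_mk]
    have : g * x * g⁻¹ = MulAut.conj g x := rfl
    rw [this, MulEquiv.orderOf_eq, hox]
  have hox' : orderOf (⟨x, hxL⟩ : ptStab G F) = r := by
    rw [Subgroup.orderOf_mk, hox]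
  obtain ⟨l, hl⟩ := exists_conj_zpowers_of_order hr hL hox' hoy
  refine ⟨(l : Perm α) * g, G.mul_mem l.2.1 hg, fun w hw => ?_, ?_⟩
  · rw [Perm.mul_apply, hgπ w hw]
    exact l.2.2 _ (hπ w hw)
  · rw [Subgroup.mem_zpowers_iff] at hl ⊢
    obtain ⟨k, hk⟩ := hl
    refine ⟨k, ?_⟩
    have h2 := congrArg (Subtype.val) hk
    simp only [Subgroup.coe_zpow, Subgroup.coe_mul, Subgroup.coe_inv] at h2
    rw [h2]
    group

/-- Two elements normalizing a cyclic group: the commutator centralizes its generator. -/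
theorem commute_comm {A : Type*} [Group A] {x h₁ h₂ : A}
    (h1 : h₁ * x * h₁⁻¹ ∈ Subgroup.zpowers x) (h2 : h₂ * x * h₂⁻¹ ∈ Subgroup.zpowers x) :
    Commute ((h₂ * h₁)⁻¹ * (h₁ * h₂)) x := by
  obtain ⟨a, ha⟩ := Subgroup.mem_zpowers_iff.1 h1
  obtain ⟨b, hb⟩ := Subgroup.mem_zpowers_iff.1 h2
  have e1 : (h₁ * h₂) * x * (h₁ * h₂)⁻¹ = x ^ (a * b) := by
    have : (h₁ * h₂) * x * (h₁ * h₂)⁻¹ = h₁ * (h₂ * x * h₂⁻¹) * h₁⁻¹ := by group
    rw [this, ← hb, ← conj_zpow, ← ha, zpow_mul]
  have e2 : (h₂ * h₁) * x * (h₂ * h₁)⁻¹ = x ^ (a * b) := by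
    have : (h₂ * h₁) * x * (h₂ * h₁)⁻¹ = h₂ * (h₁ * x * h₁⁻¹) * h₂⁻¹ := by group
    rw [this, ← ha, ← conj_zpow, ← hb, mul_comm a b, zpow_mul]
  have e3 : (h₁ * h₂) * x * (h₁ * h₂)⁻¹ = (h₂ * h₁) * x * (h₂ * h₁)⁻¹ := e1.trans e2.symm
  show (h₂ * h₁)⁻¹ * (h₁ * h₂) * x = x * ((h₂ * h₁)⁻¹ * (h₁ * h₂))
  have e4 : (h₁ * h₂) * x = (h₂ * h₁) * x * (h₂ * h₁)⁻¹ * (h₁ * h₂) := by
    rw [← e3]; group
  calc (h₂ * h₁)⁻¹ * (h₁ * h₂) * x = (h₂ * h₁)⁻¹ * ((h₁ * h₂) * x) := by group
    _ = _ := by rw [e4]; group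

/-- The commutator of lifts of two transpositions on `F`. -/
theorem exists_commute_threeCycle {G : Subgroup (Perm α)} {F : Finset α} (hind : IndSym G F)
    {x : Perm α} (hx : x ∈ G) (hxF : ∀ w ∈ F, x w = w) {r : ℕ} (hr : r.Prime)
    (hox : orderOf x = r) (hL : ¬ r ^ 2 ∣ Nat.card (ptStab G F)) {a b c : α} (ha : a ∈ F)
    (hb : b ∈ F) (hc : c ∈ F) :
    ∃ c₀ ∈ G, Commute c₀ x ∧ ∀ w ∈ F, c₀ w = ((swap a b * swap a c) ^ 2) w := by
  have hs : ∀ u v : α, u ∈ F → v ∈ F → ∀ w ∈ F, swap u v w ∈ F := by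
    intro u v hu hv w hw
    rw [swap_apply_def]
    split_ifs <;> assumption
  obtain ⟨h₁, hG₁, hπ₁, hn₁⟩ := witt_prime hind hx hxF hr hox hL (swap a b) (hs a b ha hb)
  obtain ⟨h₂, hG₂, hπ₂, hn₂⟩ := witt_prime hind hx hxF hr hox hL (swap a c) (hs a c ha hc)
  refine ⟨(h₂ * h₁)⁻¹ * (h₁ * h₂), G.mul_mem (G.inv_mem (G.mul_mem hG₂ hG₁)) (G.mul_mem hG₁ hG₂),
    commute_comm hn₁ hn₂, fun w hw => ?_⟩
  rw [Perm.mul_apply, Perm.inv_eq_iff_eq]
  have hτ : ((swap a b * swap a c) ^ 2) w ∈ F := by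
    rw [pow_two, Perm.mul_apply, Perm.mul_apply, Perm.mul_apply]
    exact hs a b ha hb _ (hs a c ha hc _ (hs a b ha hb _ (hs a c ha hc _ hw)))
  have e1 : (h₁ * h₂) w = (swap a b * swap a c) w := by
    rw [Perm.mul_apply, hπ₂ w hw, hπ₁ _ (hs a c ha hc _ hw), Perm.mul_apply]
  have e2 : (h₂ * h₁) (((swap a b * swap a c) ^ 2) w)
      = (swap a c * swap a b * (swap a b * swap a c) ^ 2) w := by
    rw [Perm.mul_apply, hπ₁ _ hτ, hπ₂ _ (hs a b ha hb _ hτ), Perm.mul_apply, Perm.mul_apply]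
  rw [e1, e2]
  have e3 : swap a c * swap a b * (swap a b * swap a c) ^ 2 = swap a b * swap a c := by
    simp only [pow_two, mul_assoc, swap_mul_self_mul]
  rw [e3]

/-- A permutation commuting with a cycle acts as a power of the cycle on its support. -/
theorem exists_zpow_of_commute {x c : Perm α} (hx : x.IsCycle) (hc : Commute c x) :
    ∃ t : ℤ, ∀ w, x w ≠ w → c w = (x ^ t) w := by
  obtain ⟨w₀, hw₀, hcyc⟩ := hx
  have h1 : x (c w₀) ≠ c w₀ := by
    intro h
    have h2 : c (x w₀) = c w₀ := by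
      rw [← Perm.mul_apply, hc.eq, Perm.mul_apply]; exact h
    exact hw₀ (c.injective h2)
  obtain ⟨t, ht⟩ := hcyc h1
  refine ⟨t, fun w hw => ?_⟩
  obtain ⟨i, hi⟩ := hcyc hw
  have hci : Commute c (x ^ i) := hc.zpow_right i
  rw [← hi, ← Perm.mul_apply, hci.eq, Perm.mul_apply, ← ht, ← Perm.mul_apply, ← Perm.mul_apply,
    ← zpow_add, ← zpow_add, add_comm]

theorem not_sq_dvd_factorial {r : ℕ} (hr : r.Prime) : ¬ r ^ 2 ∣ r.factorial := by
  obtain ⟨k, rfl⟩ : ∃ k, r = k + 1 := ⟨r - 1, by have := hr.pos; omega⟩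
  rw [Nat.factorial_succ, pow_two]
  intro h
  have h1 : k + 1 ∣ k.factorial := Nat.dvd_of_mul_dvd_mul_left (Nat.succ_pos k) h
  have h2 := (hr.dvd_factorial).1 h1
  omega

/-- The complement of the support of a perm, number of points not in it. -/
theorem card_notMem_compl_support (x : Perm α) :
    Fintype.card {w // w ∉ x.supportᶜ} = x.support.card := by
  rw [Fintype.card_subtype]
  congr 1
  ext w
  simp

/-- The pointwise stabilizer of the complement of the support of a prime cycle has order prime to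
the square. -/
theorem not_sq_dvd_ptStab {G : Subgroup (Perm α)} {x : Perm α} (hr : x.support.card.Prime) :
    ¬ x.support.card ^ 2 ∣ Nat.card (ptStab G x.supportᶜ) := by
  intro h
  apply not_sq_dvd_factorial hr
  have h1 := card_ptStab_dvd G x.supportᶜ
  rw [card_notMem_compl_support] at h1
  exact h.trans h1

/-- A `3`-cycle from a prime cycle with at least three fixed points, when `G` induces the symmetric
group on the set of these fixed points. -/
theorem exists_threeCycle_of_cycle {G : Subgroup (Perm α)} {x : Perm α}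
    (hind : IndSym G x.supportᶜ) (hx : x ∈ G) (hxc : x.IsCycle) (hr : x.support.card.Prime)
    (hk : x.support.card + 3 ≤ Fintype.card α) : ∃ τ ∈ G, IsThreeCycle τ := by
  classical
  have hcardF : 2 < (x.supportᶜ).card := by
    rw [Finset.card_compl]; omega
  obtain ⟨a, ha, b, hb, c, hc, hab, hac, hbc⟩ := Finset.two_lt_card.1 hcardF
  have hxF : ∀ w ∈ x.supportᶜ, x w = w := fun w hw => by
    simpa using hw
  obtain ⟨c₀, hc₀, hcomm, hact⟩ := exists_commute_threeCycle hind hx hxF hr hxc.orderOf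
    (not_sq_dvd_ptStab hr) ha hb hc
  obtain ⟨t, ht⟩ := exists_zpow_of_commute hxc hcomm
  set τ := (swap a b * swap a c) ^ 2 with hτ
  have hτ3 : IsThreeCycle τ := (isThreeCycle_swap_mul_swap_same hab hac hbc).isThreeCycle_sq
  have hτF : ∀ w, x w ≠ w → τ w = w := by
    intro w hw
    have hwF : w ∉ x.supportᶜ := by simpa using hw
    have h1 : w ≠ a := fun h => hwF (h ▸ ha)
    have h2 : w ≠ b := fun h => hwF (h ▸ hb)
    have h3 : w ≠ c := fun h => hwF (h ▸ hc)
    rw [hτ, pow_two]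
    simp only [Perm.mul_apply]
    rw [swap_apply_of_ne_of_ne h1 h3, swap_apply_of_ne_of_ne h1 h2, swap_apply_of_ne_of_ne h1 h3,
      swap_apply_of_ne_of_ne h1 h2]
  have hfix : ∀ (k : ℤ) w, x w = w → (x ^ k) w = w := by
    intro k w hw
    exact zpow_apply_eq_self_of_apply_eq_self hw k
  have heq : τ = c₀ * x ^ (-t) := by
    ext w
    rw [Perm.mul_apply]
    by_cases hw : x w = w
    · rw [hfix _ _ hw]
      rw [hact w (by simpa using hw)]
    · have h1 : x ((x ^ (-t)) w) ≠ (x ^ (-t)) w := by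
        intro h2
        apply hw
        have h3 : (x ^ (-t)) (x w) = (x ^ (-t)) w := by
          rw [← Perm.mul_apply, (Commute.zpow_left (Commute.refl x) (-t)).eq, Perm.mul_apply]
          exact h2
        exact (x ^ (-t)).injective h3
      rw [ht _ h1, ← Perm.mul_apply, ← zpow_add, add_neg_cancel, zpow_zero, Perm.one_apply]
      exact hτF w hw
  exact ⟨τ, heq ▸ G.mul_mem hc₀ (G.zpow_mem hx _), hτ3⟩

/-- Jordan's multiple transitivity from a prime cycle. -/
theorem isMultiplyPretransitive_of_cycle {G : Subgroup (Perm α)} (hG : IsPreprimitive G α)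
    {x : Perm α} (hx : x ∈ G) (hxc : x.IsCycle) (hr : x.support.card.Prime)
    (hk : x.support.card + 1 ≤ Fintype.card α) :
    IsMultiplyPretransitive G α (Fintype.card α - x.support.card + 1) := by
  classical
  set q := x.support.card with hq
  have hq2 : 2 ≤ q := hr.two_le
  have hcardF : Nat.card α = Fintype.card α := Nat.card_eq_fintype_card
  have hcompl : ((x.support : Set α)ᶜ).ncard = Fintype.card α - q := by
    rw [← Set.ncard_coe_finset x.support] at hq
    rw [Set.ncard_compl, ← hq, hcardF]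
  obtain ⟨m, hm⟩ : ∃ m, Fintype.card α - q = m + 1 := ⟨Fintype.card α - q - 1, by omega⟩
  have hprim : IsPreprimitive (fixingSubgroup G ((x.support : Set α)ᶜ))
      (SubMulAction.ofFixingSubgroup G ((x.support : Set α)ᶜ)) := by
    haveI := isPretransitive_of_isCycle_mem hxc hx
    apply IsPreprimitive.of_prime_card
    convert hr
    rw [Nat.card_eq_fintype_card, Fintype.card_subtype]
    apply congr_arg
    ext w
    simp [SubMulAction.mem_ofFixingSubgroup_iff]
  have hmp : IsMultiplyPreprimitive G α (m + 2) :=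
    hG.isMultiplyPreprimitive (s := ((x.support : Set α)ᶜ)) (n := m) (by rw [hcompl, hm])
      (by omega) hprim
  rw [hm]
  exact IsMultiplyPreprimitive.isMultiplyPretransitive ..

/-- **Jordan's theorem**: a primitive group containing a cycle of prime length `p`, `p + 3 ≤ |α|`,
contains the alternating group. -/
theorem alternatingGroup_le_of_prime_cycle {G : Subgroup (Perm α)} (hG : IsPreprimitive G α)
    {x : Perm α} (hx : x ∈ G) (hxc : x.IsCycle) (hr : x.support.card.Prime)
    (hk : x.support.card + 3 ≤ Fintype.card α) : alternatingGroup α ≤ G := by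
  classical
  have hmt := isMultiplyPretransitive_of_cycle hG hx hxc hr (by omega)
  have hind : IndSym G x.supportᶜ := by
    refine indSym_of_mult hmt ?_ ?_
    · rw [Finset.card_compl]; omega
    · rw [Nat.card_eq_fintype_card]
      have := hr.two_le
      omega
  obtain ⟨τ, hτ, hτ3⟩ := exists_threeCycle_of_cycle hind hx hxc hr hk
  exact alternatingGroup_le_of_isPreprimitive_of_isThreeCycle_mem hG hτ3 hτ

end Cfsg.Agent.Lib.PrimeCycleJ
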