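import Mathlib
import Cfsg.Agent.Lib.ZassAbD19
import Cfsg.Agent.Lib.DicksonRed

/-!
# Recognition of `PGL(2, K)` from its sharply triply transitive action
-/

set_option autoImplicit false
set_option linter.unusedSectionVars false
set_option linter.style.haveILetI false

namespace Cfsg.Agent.Lib.ZassAbG19

open Cfsg MulAction Cfsg.Agent.Lib.ZassCore Cfsg.Agent.Lib.ZassAbL19 Cfsg.Agent.Lib.ZassAbC19 Matrix OnePoint

universe u v w

section Moebius

variable {K : Type w} [Field K] [DecidableEq K]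

/-- The Möbius action of `GL(2,K)`. -/
noncomputable def rhoG : GL (Fin 2) K →* Equiv.Perm (OnePoint K) :=
  MulAction.toPermHom (GL (Fin 2) K) (OnePoint K)

theorem rhoG_infty (g : GL (Fin 2) K) :
    rhoG g (∞ : OnePoint K) = if g 1 0 = 0 then ∞ else ((g 0 0 / g 1 0 : K) : OnePoint K) :=
  smul_infty_eq_ite g

theorem rhoG_coe (g : GL (Fin 2) K) (k : K) :
    rhoG g (k : OnePoint K) = if g 1 0 * k + g 1 1 = 0 then ∞
      else (((g 0 0 * k + g 0 1) / (g 1 0 * k + g 1 1) : K) : OnePoint K) :=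
  smul_some_eq_ite (g := g) (k := k)

/-- Affine maps. -/
noncomputable def matAff (u c : K) (hu : u ≠ 0) : GL (Fin 2) K :=
  GeneralLinearGroup.mkOfDetNeZero !![u, c; 0, 1] (by simp [det_fin_two, hu])

/-- The inversion. -/
noncomputable def matW : GL (Fin 2) K :=
  GeneralLinearGroup.mkOfDetNeZero !![0, 1; 1, 0] (by simp [det_fin_two])

theorem rhoG_aff_infty (u c : K) (hu : u ≠ 0) : rhoG (matAff u c hu) (∞ : OnePoint K) = ∞ := by
  rw [rhoG_infty]
  simp [matAff, GeneralLinearGroup.mkOfDetNeZero]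

theorem rhoG_aff_coe (u c : K) (hu : u ≠ 0) (z : K) :
    rhoG (matAff u c hu) (z : OnePoint K) = ((u * z + c : K) : OnePoint K) := by
  rw [rhoG_coe]
  simp [matAff, GeneralLinearGroup.mkOfDetNeZero]

theorem rhoG_W_infty : rhoG (matW (K := K)) (∞ : OnePoint K) = ((0 : K) : OnePoint K) := by
  rw [rhoG_infty]
  simp [matW, GeneralLinearGroup.mkOfDetNeZero]

theorem rhoG_W_zero : rhoG (matW (K := K)) ((0 : K) : OnePoint K) = ∞ := by
  rw [rhoG_coe]
  simp [matW, GeneralLinearGroup.mkOfDetNeZero]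

theorem rhoG_W_coe (z : K) (hz : z ≠ 0) :
    rhoG (matW (K := K)) (z : OnePoint K) = ((z⁻¹ : K) : OnePoint K) := by
  rw [rhoG_coe]
  simp [matW, GeneralLinearGroup.mkOfDetNeZero, hz]

theorem center_eq_ker : Subgroup.center (GL (Fin 2) K) = (rhoG (K := K)).ker := by
  ext g
  rw [MonoidHom.mem_ker, GeneralLinearGroup.center_eq_range_scalar]
  constructor
  · rintro ⟨r, rfl⟩
    ext w
    induction w using OnePoint.rec with
    | infty => rw [rhoG_infty]; simp
    | coe z =>
      rw [rhoG_coe]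
      simp
  · intro h
    have h1 := congrArg (fun σ : Equiv.Perm (OnePoint K) => σ (∞ : OnePoint K)) h
    have h2 := congrArg (fun σ : Equiv.Perm (OnePoint K) => σ ((0 : K) : OnePoint K)) h
    have h3 := congrArg (fun σ : Equiv.Perm (OnePoint K) => σ ((1 : K) : OnePoint K)) h
    simp only [Equiv.Perm.coe_one, id_eq] at h1 h2 h3
    rw [rhoG_infty] at h1
    have h10 : g 1 0 = 0 := by
      by_contra hne
      rw [if_neg hne] at h1
      exact OnePoint.coe_ne_infty _ h1
    rw [rhoG_coe, h10] at h2 h3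
    simp only [zero_mul, zero_add] at h2 h3
    have hdet : (g : Matrix (Fin 2) (Fin 2) K).det ≠ 0 := by
      have := g.det_ne_zero
      exact this
    rw [det_fin_two] at hdet
    have h10' : (g : Matrix (Fin 2) (Fin 2) K) 1 0 = 0 := h10
    rw [h10'] at hdet
    simp only [mul_zero, sub_zero] at hdet
    have h11 : g 1 1 ≠ 0 := fun h0 => hdet (by
      have h0' : (g : Matrix (Fin 2) (Fin 2) K) 1 1 = 0 := h0
      rw [h0', mul_zero])
    rw [if_neg h11] at h2 h3
    have h2' := OnePoint.coe_eq_coe.mp h2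
    have h3' := OnePoint.coe_eq_coe.mp h3
    simp only [mul_zero, zero_add] at h2'
    have h01 : g 0 1 = 0 := by
      rcases div_eq_zero_iff.mp h2' with h | h
      · exact h
      · exact absurd h h11
    rw [h01] at h3'
    simp only [mul_one, add_zero] at h3'
    have h00 : g 0 0 = g 1 1 := (div_eq_one_iff_eq h11).mp h3'
    refine ⟨Units.mk0 (g 1 1) h11, ?_⟩
    ext i j
    fin_cases i <;> fin_cases j <;> simp [h00, h01, h10]

/-- `PGL(2,K)` is isomorphic to the image of the Möbius action. -/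
noncomputable def pglEquivRange :
    ProjGenLinGroup (Fin 2) K ≃* (rhoG (K := K)).range :=
  (QuotientGroup.quotientMulEquivOfEq center_eq_ker).trans (QuotientGroup.quotientKerEquivRange rhoG)

/-- Criterion for a permutation group to be the image of `GL(2,K)`. -/
theorem eq_range_rhoG (H : Subgroup (Equiv.Perm (OnePoint K)))
    (hA : ∀ (u c : K) (hu : u ≠ 0), rhoG (matAff u c hu) ∈ H) (hW : rhoG (matW (K := K)) ∈ H)
    (hb : ∀ h ∈ H, h (∞ : OnePoint K) = ∞ → h ∈ (rhoG (K := K)).range) :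
    H = (rhoG (K := K)).range := by
  have htr : ∀ w : OnePoint K, ∃ g ∈ H ⊓ (rhoG (K := K)).range, g (∞ : OnePoint K) = w := by
    intro w
    induction w using OnePoint.rec with
    | infty => exact ⟨1, Subgroup.one_mem _, rfl⟩
    | coe z =>
      refine ⟨rhoG (matAff 1 z one_ne_zero) * rhoG matW, ⟨H.mul_mem (hA _ _ _) hW, ⟨_, map_mul _ _ _⟩⟩, ?_⟩
      rw [Equiv.Perm.mul_apply, rhoG_W_infty, rhoG_aff_coe]
      simp
  have h1 : H ⊓ (rhoG (K := K)).range = H := by
    apply Cfsg.Agent.Lib.PSL2Rec.eq_of_transitive inf_le_left ∞ htr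
    intro h hh hi
    exact ⟨hh, hb h hh hi⟩
  have h2 : H ⊓ (rhoG (K := K)).range = (rhoG (K := K)).range := by
    apply Cfsg.Agent.Lib.PSL2Rec.eq_of_transitive inf_le_right ∞ htr
    rintro _ ⟨g, rfl⟩ hi
    refine ⟨?_, ⟨g, rfl⟩⟩
    rw [rhoG_infty] at hi
    have h10 : g 1 0 = 0 := by
      by_contra hne
      rw [if_neg hne] at hi
      exact OnePoint.coe_ne_infty _ hi
    have hdet : (g : Matrix (Fin 2) (Fin 2) K).det ≠ 0 := g.det_ne_zero
    rw [det_fin_two] at hdet
    have h10' : (g : Matrix (Fin 2) (Fin 2) K) 1 0 = 0 := h10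
    rw [h10'] at hdet
    simp only [mul_zero, sub_zero] at hdet
    have h00 : g 0 0 ≠ 0 := fun h0 => hdet (by
      have h0' : (g : Matrix (Fin 2) (Fin 2) K) 0 0 = 0 := h0
      rw [h0', zero_mul])
    have h11 : g 1 1 ≠ 0 := fun h0 => hdet (by
      have h0' : (g : Matrix (Fin 2) (Fin 2) K) 1 1 = 0 := h0
      rw [h0', mul_zero])
    have hu : g 0 0 / g 1 1 ≠ 0 := div_ne_zero h00 h11
    have heq : rhoG g = rhoG (matAff (g 0 0 / g 1 1) (g 0 1 / g 1 1) hu) := by
      ext w
      induction w using OnePoint.rec with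
      | infty =>
        rw [rhoG_aff_infty, rhoG_infty, if_pos h10]
      | coe z =>
        rw [rhoG_aff_coe, rhoG_coe, h10]
        simp only [zero_mul, zero_add]
        rw [if_neg h11]
        congr 1
        field_simp
    rw [heq]
    exact hA _ _ _
  exact h1.symm.trans h2

end Moebius

section FieldLemma

variable {K : Type w} [Field K] [Finite K]

/-- The map induced by an involution fixing `1` is the inversion. -/
theorem inv_lemma (f : K → K) (hf1 : f 1 = 1) (hfmul : ∀ x y, x ≠ 0 → y ≠ 0 → f (x * y) = f x * f y)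
    (hf0 : ∀ z, z ≠ 0 → f z ≠ 0) (hff : ∀ z, z ≠ 0 → f (f z) = z)
    (hk : ∀ Y, Y ≠ 0 → 1 + Y ≠ 0 → 1 + f Y ≠ 0 → f (1 + Y) = 1 - f (1 + f Y)) :
    ∀ z, z ≠ 0 → f z = z⁻¹ := by
  classical
  have hm1 : f (-1) = -1 := by
    have h1 := hfmul (-1) (-1) (by simp) (by simp)
    simp only [mul_neg, mul_one, neg_neg, hf1] at h1
    have h2 : f (-1) * f (-1) = 1 := h1.symm
    rcases mul_self_eq_one_iff.1 h2 with h3 | h3
    · have h4 := hff (-1) (by simp)
      rw [h3, hf1] at h4
      rw [h3, ← h4]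
    · exact h3
  have hinj : ∀ x y, x ≠ 0 → y ≠ 0 → f x = f y → x = y := by
    intro x y hx hy h
    rw [← hff x hx, ← hff y hy, h]
  have hfinv : ∀ z, z ≠ 0 → f z⁻¹ = (f z)⁻¹ := by
    intro z hz
    have h1 := hfmul z z⁻¹ hz (inv_ne_zero hz)
    rw [mul_inv_cancel₀ hz, hf1] at h1
    exact eq_inv_of_mul_eq_one_right h1.symm
  have hne1 : ∀ Y : K, Y ≠ 0 → Y ≠ -1 → 1 + f Y ≠ 0 := by
    intro Y hY hY1 h
    apply hY1
    have h1 : f Y = -1 := by linear_combination h
    apply hinj Y (-1) hY (by simp)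
    rw [h1, hm1]
  have hne2 : ∀ Y : K, Y ≠ -1 → 1 + Y ≠ 0 := by
    intro Y hY1 h
    apply hY1
    linear_combination h
  -- fixed points
  have hfix : ∀ Y, Y ≠ 0 → f Y = Y → Y = 1 ∨ Y = -1 := by
    intro Y hY hfY
    by_cases hY1 : Y = -1
    · exact Or.inr hY1
    left
    have h1 := hk Y hY (hne2 Y hY1) (hne1 Y hY hY1)
    have hYi1 : Y⁻¹ ≠ -1 := by
      intro h
      apply hY1
      have := congrArg (fun t => t⁻¹) h
      simpa using this
    have h2 := hk Y⁻¹ (inv_ne_zero hY) (hne2 _ hYi1) (hne1 _ (inv_ne_zero hY) hYi1)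
    rw [hfinv Y hY, hfY] at h2
    rw [hfY] at h1
    -- `f (1 + 1/Y) = f (1+Y) / Y`
    have h3 : 1 + Y⁻¹ = (1 + Y) * Y⁻¹ := by field_simp; ring
    have h4 : f (1 + Y⁻¹) = f (1 + Y) * Y⁻¹ := by
      rw [h3, hfmul _ _ (hne2 Y hY1) (inv_ne_zero hY), hfinv Y hY, hfY]
    rw [h4] at h2
    field_simp at h2
    linear_combination h1 - h2
  -- the values of `z f z`
  have hθ : ∀ z, z ≠ 0 → z * f z = 1 ∨ z * f z = -1 := by
    intro z hz
    have h1 : z * f z ≠ 0 := mul_ne_zero hz (hf0 z hz)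
    apply hfix _ h1
    rw [hfmul _ _ hz (hf0 z hz), hff z hz, mul_comm]
  by_contra hcon
  push Not at hcon
  obtain ⟨z₀, hz₀, hz₀1⟩ := hcon
  have hz₀2 : z₀ * f z₀ = -1 := by
    rcases hθ z₀ hz₀ with h | h
    · exfalso
      apply hz₀1
      exact eq_inv_of_mul_eq_one_right h
    · exact h
  have hm1ne : (-1 : K) ≠ 1 := by
    intro h
    apply hz₀1
    rw [h] at hz₀2
    exact eq_inv_of_mul_eq_one_right hz₀2
  -- The set `S` of elements with `z f z = 1`.
  have hS_add_one : ∀ Y, Y ≠ 0 → Y ≠ -1 → Y * f Y = 1 → (1 + Y) * f (1 + Y) = 1 := by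
    intro Y hY hY1 hYS
    have hY2 : f Y = Y⁻¹ := eq_inv_of_mul_eq_one_right hYS
    have h1 := hk Y hY (hne2 Y hY1) (hne1 Y hY hY1)
    have h3 : 1 + Y⁻¹ = (1 + Y) * Y⁻¹ := by field_simp; ring
    rw [hY2, h3, hfmul _ _ (hne2 Y hY1) (inv_ne_zero hY), hfinv Y hY, hY2, inv_inv] at h1
    have h4 : f (1 + Y) * (1 + Y) = 1 := by linear_combination h1
    rw [mul_comm]
    exact h4
  have hS_mul : ∀ x y, x ≠ 0 → y ≠ 0 → x * f x = 1 → y * f y = 1 → (x * y) * f (x * y) = 1 := by
    intro x y hx hy h1 h2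
    rw [hfmul x y hx hy]
    calc x * y * (f x * f y) = (x * f x) * (y * f y) := by ring
      _ = 1 := by rw [h1, h2, mul_one]
  -- additive subgroup
  let W : AddSubgroup K :=
    { carrier := {x | x = 0 ∨ x * f x = 1}
      add_mem' := by
        rintro x y (rfl | hx) (rfl | hy)
        · left; simp
        · right; simpa using hy
        · right; simpa using hx
        · by_cases hxy : x + y = 0
          · exact Or.inl hxy
          · right
            have hx0 : x ≠ 0 := by
              rintro rfl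
              simp at hx
            have hy0 : y ≠ 0 := by
              rintro rfl
              simp at hy
            have hyi : y⁻¹ * f y⁻¹ = 1 := by
              rw [hfinv y hy0, ← mul_inv, hy, inv_one]
            have h1 := hS_mul x y⁻¹ hx0 (inv_ne_zero hy0) hx hyi
            have h2 : x * y⁻¹ ≠ -1 := by
              intro h3
              apply hxy
              field_simp at h3
              linear_combination h3
            have h3 := hS_add_one _ (mul_ne_zero hx0 (inv_ne_zero hy0)) h2 h1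
            have h4 := hS_mul _ y (hne2 _ h2) hy0 h3 hy
            have h5 : (1 + x * y⁻¹) * y = x + y := by field_simp; ring
            rwa [h5] at h4
      zero_mem' := Or.inl rfl
      neg_mem' := by
        rintro x (rfl | hx)
        · left; simp
        · right
          have hx0 : x ≠ 0 := by
            rintro rfl
            simp at hx
          have h1 : f (-x) = - f x := by
            have h2 : -x = (-1) * x := by ring
            rw [h2, hfmul _ _ (by simp) hx0, hm1]
            ring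
          rw [h1]
          linear_combination hx }
  have hW : ∀ x : K, x ∈ W ↔ x = 0 ∨ x * f x = 1 := fun _ => Iff.rfl
  -- injective map of `W` into itself missing `0`
  have hz₀W : z₀ ∉ W := by
    rintro (h | h)
    · exact hz₀ h
    · rw [hz₀2] at h
      exact hm1ne h
  have hcomp : ∀ y, y ∉ W → y * f y = -1 := by
    intro y hy
    have hy0 : y ≠ 0 := fun h => hy (Or.inl h)
    rcases hθ y hy0 with h | h
    · exact absurd (Or.inr h) hy
    · exact h
  let g : W → W := fun w => ⟨(z₀ + w) * z₀⁻¹, by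
    right
    have h1 : z₀ + (w : K) ∉ W := by
      intro h
      apply hz₀W
      have := W.sub_mem h w.2
      simpa using this
    have h2 := hcomp _ h1
    have h3 : z₀ + (w : K) ≠ 0 := fun h => h1 (Or.inl h)
    have hzi : z₀⁻¹ * f z₀⁻¹ = -1 := by
      rw [hfinv z₀ hz₀, ← mul_inv, hz₀2]
      simp
    rw [hfmul _ _ h3 (inv_ne_zero hz₀)]
    calc (z₀ + (w : K)) * z₀⁻¹ * (f (z₀ + (w : K)) * f z₀⁻¹)
        = ((z₀ + (w : K)) * f (z₀ + (w : K))) * (z₀⁻¹ * f z₀⁻¹) := by ring
      _ = 1 := by rw [h2, hzi]; ring⟩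
  have hg : Function.Injective g := by
    intro w w' h
    have h1 : (z₀ + (w : K)) * z₀⁻¹ = (z₀ + (w' : K)) * z₀⁻¹ := congrArg Subtype.val h
    have h2 := mul_right_cancel₀ (inv_ne_zero hz₀) h1
    apply Subtype.ext
    exact add_left_cancel h2
  obtain ⟨w, hw⟩ := (Finite.injective_iff_surjective.1 hg) (0 : W)
  have h1 : (z₀ + (w : K)) * z₀⁻¹ = 0 := congrArg Subtype.val hw
  have h2 : z₀ + (w : K) = 0 := by
    rcases mul_eq_zero.1 h1 with h | h
    · exact h
    · exact absurd h (inv_ne_zero hz₀)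
  apply hz₀W
  have h3 : z₀ = -(w : K) := by linear_combination h2
  rw [h3]
  exact W.neg_mem w.2

end FieldLemma

section TheoremA

variable {G : Type u} {Ω : Type v} {K : Type w} [Group G] [MulAction G Ω] [Field K] [Finite K]
  {a b : Ω} {F : Subgroup G}

/-- **Theorem**: a group with the coordinates of a sharply triply transitive group, with field
multiplication, and an involution interchanging `∞` and `0` and fixing `1`, is `PGL(2, K)`. -/
theorem pgl_of_coord [FaithfulSMul G Ω] (hab : a ≠ b) (hF : IsKernelAt G a F) (C : Coord a b F K)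
    (hφ : Function.Surjective C.φ) (s : G) (hsa : s • a = b) (hsb : s • b = a)
    (hs1 : s • C.pt b 1 = C.pt b 1) (hss : s * s = 1) :
    Nonempty (G ≃* ProjGenLinGroup (Fin 2) K) := by
  classical
  have hsi : s⁻¹ = s := inv_eq_of_mul_eq_one_left hss
  have heps_a : ∀ y : K, C.ε y • a = a := C.eps_a hF hab
  have heps : ∀ y z : K, C.ε y • C.pt b z = C.pt b (z + y) := C.eps_pt hF hab
  have hstab : ∀ (h : ↥(stabilizer G a ⊓ stabilizer G b)) (z : K),
      (h : G) • C.pt b z = C.pt b ((C.φ h : K) * z) := C.stab_pt hF hab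
  have hpt0 : C.pt b 0 = b := C.pt_zero hF hab
  have hpt_inj : ∀ {z w : K}, C.pt b z = C.pt b w → z = w := fun h => C.pt_inj hF hab h
  have hex : ∀ z : K, z ≠ 0 → ∃ w : K, w ≠ 0 ∧ s • C.pt b z = C.pt b w := by
    intro z hz
    have hpt_ne := C.pt_ne hF hab
    have h1 : s • C.pt b z ≠ b := by
      intro h
      have h2 : s • C.pt b z = s • a := by rw [h, hsa]
      exact hpt_ne z (smul_left_cancel _ h2)
    have h2 : s • C.pt b z ≠ a := by
      intro h
      have h3 : s • C.pt b z = s • b := by rw [h, hsb]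
      have h4 := smul_left_cancel _ h3
      have h5 : C.pt b z = C.pt b 0 := h4.trans hpt0.symm
      exact hz (hpt_inj h5)
    obtain ⟨w, hw⟩ := C.exists_pt hF hab h2
    refine ⟨w, ?_, hw.symm⟩
    rintro rfl
    exact h1 (hw.symm.trans hpt0)
  choose! f hf0 hfact using hex
  have hf1 : f 1 = 1 := by
    apply hpt_inj
    rw [← hfact 1 one_ne_zero, hs1]
  have hff : ∀ z, z ≠ 0 → f (f z) = z := by
    intro z hz
    apply hpt_inj
    rw [← hfact _ (hf0 z hz), ← hfact z hz, ← mul_smul, hss, one_smul]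
  -- conjugation by `s` on the two-point stabiliser
  have hconj : ∀ h : ↥(stabilizer G a ⊓ stabilizer G b), s * (h : G) * s⁻¹ ∈ stabilizer G a ⊓ stabilizer G b := by
    intro h
    have h1 : s⁻¹ • a = b := by rw [hsi]; exact hsa
    have h2 : s⁻¹ • b = a := by rw [hsi]; exact hsb
    refine ⟨?_, ?_⟩
    · show (s * (h : G) * s⁻¹) • a = a
      rw [mul_smul, mul_smul, h1, show (h : G) • b = b from h.2.2, hsb]
    · show (s * (h : G) * s⁻¹) • b = b
      rw [mul_smul, mul_smul, h2, show (h : G) • a = a from h.2.1, hsa]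
  have hfu : ∀ (h : ↥(stabilizer G a ⊓ stabilizer G b)) (z : K), z ≠ 0 →
      f ((C.φ h : K) * z) = (C.φ ⟨_, hconj h⟩ : K) * f z := by
    intro h z hz
    have hu0 : ((C.φ h : K)) * z ≠ 0 := mul_ne_zero (Units.ne_zero _) hz
    apply hpt_inj
    rw [← hfact _ hu0, ← hstab, ← hstab, ← hfact z hz, ← mul_smul, ← mul_smul]
    congr 1
    show s * (h : G) = s * (h : G) * s⁻¹ * s
    group
  have hfφ : ∀ h : ↥(stabilizer G a ⊓ stabilizer G b), f (C.φ h : K) = (C.φ ⟨_, hconj h⟩ : K) := by
    intro h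
    have h1 := hfu h 1 one_ne_zero
    rwa [mul_one, hf1, mul_one] at h1
  have hfmul : ∀ x y, x ≠ 0 → y ≠ 0 → f (x * y) = f x * f y := by
    intro x y hx hy
    obtain ⟨h, hh⟩ := hφ (Units.mk0 x hx)
    have hx' : (C.φ h : K) = x := by rw [hh]; rfl
    rw [← hx', hfu h y hy, hfφ h]
  have hm1 : f (-1) = -1 := by
    have h1 := hfmul (-1) (-1) (by simp) (by simp)
    simp only [mul_neg, mul_one, neg_neg, hf1] at h1
    have h2 : f (-1) * f (-1) = 1 := h1.symm
    rcases mul_self_eq_one_iff.1 h2 with h3 | h3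
    · have h4 := hff (-1) (by simp)
      rw [h3, hf1] at h4
      rw [h3, ← h4]
    · exact h3
  have hfneg : ∀ z, z ≠ 0 → f (-z) = -f z := by
    intro z hz
    have h2 : -z = (-1) * z := by ring
    rw [h2, hfmul _ _ (by simp) hz, hm1]
    ring
  -- the Bruhat relation at `1`
  have hk : ∀ Y, Y ≠ 0 → 1 + Y ≠ 0 → 1 + f Y ≠ 0 → f (1 + Y) = 1 - f (1 + f Y) := by
    set g := C.ε (-1) * s * C.ε 1 * s * C.ε (-1) * s with hg
    have hga : g • a = a := by
      calc g • a = C.ε (-1) • s • C.ε 1 • s • C.ε (-1) • (s • a) := by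
            simp only [hg, mul_smul]
        _ = C.ε (-1) • s • C.ε 1 • s • C.pt b (-1) := by rw [hsa]; rfl
        _ = C.ε (-1) • s • C.ε 1 • C.pt b (-1) := by
            rw [hfact _ (by simp), hm1]
        _ = C.ε (-1) • s • C.pt b 0 := by rw [heps, neg_add_cancel]
        _ = a := by rw [hpt0, hsb, heps_a]
    have hgb : g • b = b := by
      calc g • b = C.ε (-1) • s • C.ε 1 • s • C.ε (-1) • (s • b) := by
            simp only [hg, mul_smul]
        _ = C.ε (-1) • s • C.ε 1 • b := by rw [hsb, heps_a, hsa]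
        _ = C.ε (-1) • s • C.pt b 1 := rfl
        _ = C.ε (-1) • C.pt b 1 := by rw [hs1]
        _ = C.pt b 0 := by rw [heps, add_neg_cancel]
        _ = b := hpt0
    let k₀ : ↥(stabilizer G a ⊓ stabilizer G b) := ⟨g, hga, hgb⟩
    have hk₀ : ∀ z, g • C.pt b z = C.pt b ((C.φ k₀ : K) * z) := fun z => hstab k₀ z
    have hR : s * C.ε 1 * s = C.ε 1 * g * s * C.ε 1 := by
      have h1 : C.ε 1 * g * s * C.ε 1 = s * C.ε 1 * s * (C.ε 1)⁻¹ * (s * s) * C.ε 1 := by
        simp only [hg, C.eps_neg]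
        group
      rw [h1, hss]
      group
    have hkv : (C.φ k₀ : K) = -1 := by
      have h1 : (s * C.ε 1 * s) • b = b := by
        rw [mul_smul, mul_smul, hsb, heps_a, hsa]
      rw [hR] at h1
      have h2 : (C.ε 1 * g * s * C.ε 1) • b = C.pt b ((C.φ k₀ : K) * 1 + 1) := by
        calc (C.ε 1 * g * s * C.ε 1) • b = C.ε 1 • g • s • C.pt b 1 := by
              simp only [mul_smul]; rfl
          _ = C.ε 1 • g • C.pt b 1 := by rw [hs1]
          _ = C.pt b ((C.φ k₀ : K) * 1 + 1) := by rw [hk₀, heps]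
      rw [h2] at h1
      have h3 : (C.φ k₀ : K) * 1 + 1 = 0 := hpt_inj (h1.trans hpt0.symm)
      linear_combination h3
    intro Y hY hne hne2
    have hfY := hf0 Y hY
    have h1 : (s * C.ε 1 * s) • C.pt b (f Y) = C.pt b (f (1 + Y)) := by
      rw [mul_smul, mul_smul, hfact _ hfY, hff Y hY, heps, add_comm Y 1, hfact _ hne]
    have h2 : (C.ε 1 * g * s * C.ε 1) • C.pt b (f Y) =
        C.pt b ((C.φ k₀ : K) * f (f Y + 1) + 1) := by
      have hne3 : f Y + 1 ≠ 0 := by rwa [add_comm]
      calc (C.ε 1 * g * s * C.ε 1) • C.pt b (f Y) = C.ε 1 • g • s • (C.ε 1 • C.pt b (f Y)) := by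
            simp only [mul_smul]
        _ = C.ε 1 • g • C.pt b (f (f Y + 1)) := by rw [heps, hfact _ hne3]
        _ = C.pt b ((C.φ k₀ : K) * f (f Y + 1) + 1) := by rw [hk₀, heps]
    rw [hR, h2] at h1
    have h3 := hpt_inj h1
    rw [← h3, hkv, add_comm (f Y) 1]
    ring
  have hfinv := inv_lemma f hf1 hfmul hf0 hff hk
  have hPhi_A : ∀ (h : ↥(stabilizer G a ⊓ stabilizer G b)) (u c : K) (hu : u ≠ 0), (C.φ h : K) = u →
      C.Phi hF hab (C.ε c * (h : G)) = rhoG (matAff u c hu) := by
    intro h u c hu hh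
    apply Coord.Phi_eq
    intro p
    induction p using OnePoint.rec with
    | infty =>
      rw [rhoG_aff_infty, Coord.kappa_infty, mul_smul, show (h : G) • a = a from h.2.1, heps_a]
    | coe z =>
      rw [rhoG_aff_coe, Coord.kappa_coe, Coord.kappa_coe, mul_smul, hstab, heps, hh]
  have hPhi_W : C.Phi hF hab s = rhoG (matW (K := K)) := by
    apply Coord.Phi_eq
    intro p
    induction p using OnePoint.rec with
    | infty =>
      rw [rhoG_W_infty, Coord.kappa_infty, Coord.kappa_coe, hpt0]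
      exact hsa
    | coe z =>
      by_cases hz : z = 0
      · subst hz
        rw [rhoG_W_zero, Coord.kappa_infty, Coord.kappa_coe, hpt0]
        exact hsb
      · rw [rhoG_W_coe z hz, Coord.kappa_coe, Coord.kappa_coe, hfact z hz, hfinv z hz]
  have hrange : (C.Phi hF hab).range = (rhoG (K := K)).range := by
    apply eq_range_rhoG
    · intro u c hu
      obtain ⟨h, hh⟩ := hφ (Units.mk0 u hu)
      exact ⟨_, hPhi_A h u c hu (by rw [hh]; rfl)⟩
    · exact ⟨s, hPhi_W⟩
    · rintro _ ⟨g, rfl⟩ hg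
      have hga : g • a = a := by
        have h1 : (C.kappa hF hab).symm (g • (C.kappa hF hab).symm.symm (∞ : OnePoint K)) = ∞ := hg
        rw [Equiv.symm_symm, Equiv.symm_apply_eq, Coord.kappa_infty] at h1
        exact h1
      obtain ⟨k, hk', hk1, hk2⟩ := hF.exists_decomp hab.symm hga
      obtain ⟨c, rfl⟩ := C.surj k hk'
      let y : ↥(stabilizer G a ⊓ stabilizer G b) := ⟨(C.ε c)⁻¹ * g, hk1, hk2⟩
      refine ⟨matAff (C.φ y : K) c (Units.ne_zero _), ?_⟩
      rw [← hPhi_A y _ c _ rfl]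
      congr 1
      show C.ε c * ((C.ε c)⁻¹ * g) = g
      group
  have e1 : G ≃* (C.Phi hF hab).range := MonoidHom.ofInjective (C.Phi_injective hF hab)
  have e2 : (C.Phi hF hab).range ≃* (rhoG (K := K)).range := MulEquiv.subgroupCongr hrange
  exact ⟨e1.trans (e2.trans pglEquivRange.symm)⟩

end TheoremA

end Cfsg.Agent.Lib.ZassAbG19
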