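import Mathlib
import Cfsg.Agent.Lib.ZassAbG19

/-!
# Transitive groups of degree `p + 1` and order `(p + 1) p d`, `d < p`: the basic structure
-/

set_option autoImplicit false
set_option linter.unusedSectionVars false
set_option linter.style.haveILetI false

namespace Cfsg.Agent.Lib.PrimeDegS19

open Cfsg MulAction Cfsg.Agent.Lib.ZassCore

universe u v

variable {Γ : Type u} {Ω : Type v} [Group Γ] [MulAction Γ Ω] [FaithfulSMul Γ Ω] [Fintype Ω]
  [Finite Γ] {p d : ℕ} [hpf : Fact p.Prime]

/-- An element of order `p` on `p + 1` points fixes exactly one point. -/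
theorem exists_fixed (hΩ : Fintype.card Ω = p + 1) {x : Γ} (hx : orderOf x = p) :
    ∃ a : Ω, x • a = a ∧ ∀ c, x • c = c → c = a := by
  classical
  have hx1 : x ≠ 1 := by
    rintro rfl
    rw [orderOf_one] at hx
    exact hpf.out.one_lt.ne hx
  have hP : IsPGroup p (Subgroup.zpowers x) := by
    rw [IsPGroup.iff_card]
    refine ⟨1, ?_⟩
    rw [Nat.card_zpowers, hx, pow_one]
  have hmod := hP.card_modEq_card_fixedPoints Ω
  rw [Nat.card_eq_fintype_card, hΩ] at hmod
  have hfix : ∀ c : Ω, c ∈ fixedPoints (Subgroup.zpowers x) Ω ↔ x • c = c := by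
    intro c
    constructor
    · intro h
      exact h ⟨x, Subgroup.mem_zpowers x⟩
    · rintro h ⟨g, k, rfl⟩
      show x ^ k • c = c
      have h2 : c ∈ fixedBy Ω x := h
      exact fixedBy_subset_fixedBy_zpow _ _ _ h2
  set Fx : Finset Ω := Finset.univ.filter (fun c => x • c = c) with hFx
  have hn : Nat.card (fixedPoints (Subgroup.zpowers x) Ω) = Fx.card := by
    have h1 : Nat.card (fixedPoints (Subgroup.zpowers x) Ω) = Nat.card {c : Ω // x • c = c} :=
      Nat.card_congr (Equiv.subtypeEquivRight hfix)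
    rw [h1, Nat.card_eq_fintype_card, Fintype.card_subtype]
  rw [hn] at hmod
  have hne : Fx ≠ Finset.univ := by
    intro h
    apply hx1
    apply eq_of_smul_eq_smul (α := Ω)
    intro c
    have h1 : c ∈ Fx := by rw [h]; exact Finset.mem_univ c
    rw [one_smul]
    exact (Finset.mem_filter.1 h1).2
  have hlt : Fx.card < p + 1 := by
    rw [← hΩ, ← Finset.card_univ]
    exact Finset.card_lt_card (Finset.ssubset_univ_iff.2 hne)
  have hp2 := hpf.out.two_le
  have hone : Fx.card = 1 := by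
    have h1 : (p + 1) % p = 1 % p := by simp
    have h2 : Fx.card % p = 1 := by
      have h3 : (p + 1) % p = Fx.card % p := hmod
      rw [← h3, h1]
      exact Nat.mod_eq_of_lt (by omega)
    by_cases h3 : Fx.card < p
    · rwa [Nat.mod_eq_of_lt h3] at h2
    · have h4 : Fx.card = p := by omega
      rw [h4, Nat.mod_self] at h2
      omega
  obtain ⟨a, ha⟩ := Finset.card_eq_one.1 hone
  refine ⟨a, ?_, ?_⟩
  · have : a ∈ Fx := by rw [ha]; simp
    exact (Finset.mem_filter.1 this).2
  · intro c hc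
    have : c ∈ Fx := Finset.mem_filter.2 ⟨Finset.mem_univ _, hc⟩
    rw [ha] at this
    exact Finset.mem_singleton.1 this

section Main

variable {x : Γ} {a b : Ω} (hx : orderOf x = p) (hxa : x • a = a) (hxu : ∀ c, x • c = c → c = a)

include hx hxu in
theorem free_pow {u : Γ} (hu : u ∈ Subgroup.zpowers x) (hu1 : u ≠ 1) {c : Ω} (hc : u • c = c) :
    c = a := by
  have hu' : u ∈ Submonoid.powers x := (mem_powers_iff_mem_zpowers).2 hu
  obtain ⟨k, rfl⟩ := hu'
  have hcop : k.Coprime (orderOf x) := by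
    rw [hx, Nat.coprime_comm, Nat.Prime.coprime_iff_not_dvd hpf.out]
    intro h
    apply hu1
    rw [← hx] at h
    exact orderOf_dvd_iff_pow_eq_one.1 h
  obtain ⟨m, hm⟩ := exists_pow_eq_self_of_coprime hcop
  have h1 : ∀ n : ℕ, ((x ^ k) ^ n) • c = c := by
    intro n
    induction n with
    | zero => simp
    | succ n ih => rw [pow_succ, mul_smul, hc, ih]
  apply hxu
  have := h1 m
  rwa [hm] at this

variable (hΩ : Fintype.card Ω = p + 1)

include hx hxa hxu hΩ in
/-- Regularity of the cyclic group on the remaining points. -/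
theorem reg_P (y z : Ω) (hy : y ≠ a) (hz : z ≠ a) : ∃! u : Subgroup.zpowers x, (u : Γ) • y = z := by
  classical
  have hP_a : ∀ u : Subgroup.zpowers x, (u : Γ) • a = a := by
    intro u
    obtain ⟨k, hk⟩ := u.2
    rw [← hk]
    have h2 : a ∈ fixedBy Ω x := hxa
    exact fixedBy_subset_fixedBy_zpow _ _ _ h2
  let f : Subgroup.zpowers x → {c : Ω // c ≠ a} := fun u => ⟨(u : Γ) • y, fun h => hy (by
    have h1 : (u : Γ) • y = (u : Γ) • a := by rw [h, hP_a]
    exact smul_left_cancel _ h1)⟩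
  have hf : Function.Injective f := by
    intro u w h
    have h1 : (u : Γ) • y = (w : Γ) • y := congrArg Subtype.val h
    have h2 : ((w : Γ)⁻¹ * u) • y = y := by rw [mul_smul, h1, inv_smul_smul]
    by_contra hne
    have h3 : (w : Γ)⁻¹ * u ≠ 1 := by
      intro h4
      exact hne (Subtype.ext (inv_mul_eq_one.mp h4).symm)
    exact hy (free_pow hx hxu (Subgroup.mul_mem _ (Subgroup.inv_mem _ w.2) u.2) h3 h2)
  have hcard : Nat.card {c : Ω // c ≠ a} = p := by
    rw [Nat.card_eq_fintype_card, Fintype.card_subtype_compl, Fintype.card_subtype_eq, hΩ]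
    simp
  have hfb := hf.bijective_of_nat_card_le (by rw [hcard, Nat.card_zpowers, hx])
  obtain ⟨u, hu⟩ := hfb.2 ⟨z, hz⟩
  refine ⟨u, congrArg Subtype.val hu, ?_⟩
  intro w hw
  apply hf
  rw [hu]
  exact Subtype.ext hw

variable [IsPretransitive Γ Ω]

include hx hxa hxu hΩ in
/-- Double transitivity. -/
theorem two_trans_aux (hab : a ≠ b) {c e : Ω} (hce : c ≠ e) : ∃ g : Γ, g • a = c ∧ g • b = e := by
  obtain ⟨g₁, hg₁⟩ := exists_smul_eq Γ a c
  have h1 : g₁⁻¹ • e ≠ a := by
    intro h
    apply hce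
    rw [← hg₁, ← h, smul_inv_smul]
  obtain ⟨t, ht, -⟩ := reg_P hx hxa hxu hΩ b (g₁⁻¹ • e) hab.symm h1
  refine ⟨g₁ * t, ?_, ?_⟩
  · have h2 : (t : Γ) • a = a := by
      obtain ⟨k, hk⟩ := t.2
      rw [← hk]
      have h2 : a ∈ fixedBy Ω x := hxa
      exact fixedBy_subset_fixedBy_zpow _ _ _ h2
    rw [mul_smul, h2, hg₁]
  · rw [mul_smul, ht, smul_inv_smul]

include hx hxa hxu hΩ in
theorem two_trans (hab : a ≠ b) : IsMultiplyPretransitive Γ Ω 2 := by
  rw [is_two_pretransitive_iff]
  intro c e c' e' hce hce'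
  obtain ⟨g, hg1, hg2⟩ := two_trans_aux hx hxa hxu hΩ hab hce
  obtain ⟨g', hg1', hg2'⟩ := two_trans_aux hx hxa hxu hΩ hab hce'
  refine ⟨g' * g⁻¹, ?_, ?_⟩
  · rw [mul_smul, ← hg1, inv_smul_smul, hg1']
  · rw [mul_smul, ← hg2, inv_smul_smul, hg2']

variable (hΓ : Nat.card Γ = (p + 1) * p * d) (hd : d < p)

include hΩ hΓ hpf in
theorem card_stab_a (a : Ω) : Nat.card (stabilizer Γ a) = p * d := by
  have h1 := (stabilizer Γ a).card_mul_index
  have h2 : (stabilizer Γ a).index = p + 1 := by
    rw [index_stabilizer, orbit_eq_univ, Set.ncard_univ, Nat.card_eq_fintype_card, hΩ]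
  rw [h2, hΓ] at h1
  have h3 : (p + 1) * Nat.card (stabilizer Γ a) = (p + 1) * (p * d) := by
    rw [mul_comm, h1]; ring
  exact Nat.eq_of_mul_eq_mul_left (by omega) h3

include hx hxa hxu hΩ hΓ in
theorem card_H (hab : a ≠ b) : Nat.card ↥(stabilizer Γ a ⊓ stabilizer Γ b) = d := by
  classical
  have hstab : stabilizer Γ (a, b) = stabilizer Γ a ⊓ stabilizer Γ b := by
    ext g
    simp [mem_stabilizer_iff, Subgroup.mem_inf, Prod.ext_iff]
  have horb : orbit Γ (a, b) = {q : Ω × Ω | q.1 ≠ q.2} := by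
    ext ⟨c, e⟩
    constructor
    · rintro ⟨g, hg⟩
      simp only [Prod.smul_mk, Prod.mk.injEq] at hg
      show c ≠ e
      rw [← hg.1, ← hg.2]
      exact fun h => hab (smul_left_cancel _ h)
    · intro hce
      obtain ⟨g, h1, h2⟩ := two_trans_aux hx hxa hxu hΩ hab hce
      exact ⟨g, by simp [h1, h2]⟩
  have h1 := (stabilizer Γ (a, b)).card_mul_index
  rw [index_stabilizer, horb, hstab] at h1
  have h2 : Set.ncard {q : Ω × Ω | q.1 ≠ q.2} = (p + 1) * p := by
    have : {q : Ω × Ω | q.1 ≠ q.2} = ((Finset.univ : Finset Ω).offDiag : Set (Ω × Ω)) := by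
      ext q; simp
    rw [this, Set.ncard_coe_finset, Finset.offDiag_card, Finset.card_univ, hΩ]
    simp [Nat.add_mul]
    ring
  rw [h2, hΓ] at h1
  have h3 : (p + 1) * p * Nat.card ↥(stabilizer Γ a ⊓ stabilizer Γ b) = (p + 1) * p * d := by
    rw [mul_comm, h1]
  exact Nat.eq_of_mul_eq_mul_left (Nat.mul_pos (by omega) hpf.out.pos) h3

include hΩ hΓ hd hx hxa hxu in
/-- The cyclic group is normal in the point stabiliser. -/
theorem normal_P (hab : a ≠ b) (g : Γ) (hg : g • a = a) (t : Γ) (ht : t ∈ Subgroup.zpowers x) :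
    g * t * g⁻¹ ∈ Subgroup.zpowers x := by
  classical
  have hHc := card_H hx hxa hxu hΩ hΓ hab
  have h0 : 0 < d := by
    rw [← hHc]
    exact Nat.card_pos
  have hcard := card_stab_a (d := d) hΩ hΓ a
  have hP_a : Subgroup.zpowers x ≤ stabilizer Γ a := by
    rw [Subgroup.zpowers_le]
    exact hxa
  let P' : Subgroup (stabilizer Γ a) := (Subgroup.zpowers x).subgroupOf (stabilizer Γ a)
  have hP'c : Nat.card P' = p := by
    have h1 : Nat.card P' = Nat.card (Subgroup.zpowers x) :=
      Nat.card_congr (Subgroup.subgroupOfEquivOfLe hP_a).toEquiv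
    rw [h1, Nat.card_zpowers, hx]
  have hP'p : IsPGroup p P' := by
    rw [IsPGroup.iff_card]
    exact ⟨1, by rw [hP'c, pow_one]⟩
  have hidx : P'.index = d := by
    have h1 := P'.card_mul_index
    rw [hP'c, hcard] at h1
    exact Nat.eq_of_mul_eq_mul_left hpf.out.pos h1
  have hnd : ¬ p ∣ P'.index := by
    rw [hidx]
    intro h
    have := Nat.le_of_dvd h0 h
    omega
  let S : Sylow p (stabilizer Γ a) := hP'p.toSylow hnd
  have hSP : (S : Subgroup (stabilizer Γ a)) = P' := rfl
  have hcount : Nat.card (Sylow p (stabilizer Γ a)) = 1 := by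
    have h1 := Sylow.card_dvd_index S
    rw [hSP, hidx] at h1
    have h2 := Nat.le_of_dvd h0 h1
    have h3 := card_sylow_modEq_one p (stabilizer Γ a)
    have h4 : Nat.card (Sylow p (stabilizer Γ a)) < p := by omega
    have hp2 := hpf.out.two_le
    have h5 : Nat.card (Sylow p (stabilizer Γ a)) % p = 1 % p := h3
    rw [Nat.mod_eq_of_lt h4, Nat.mod_eq_of_lt (by omega)] at h5
    exact h5
  have hsub : Subsingleton (Sylow p (stabilizer Γ a)) := by
    exact (Nat.card_eq_one_iff_unique.1 hcount).1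
  have hnormal : P'.Normal := Sylow.normal_of_subsingleton S
  have hmem : (⟨t, hP_a ht⟩ : stabilizer Γ a) ∈ P' := by
    rw [Subgroup.mem_subgroupOf]
    exact ht
  have h1 := hnormal.conj_mem _ hmem ⟨g, hg⟩
  rw [Subgroup.mem_subgroupOf] at h1
  exact h1

include hx hxa hxu hΩ in
/-- The two-point stabiliser acts freely on the cyclic group by conjugation. -/
theorem free_H (hab : a ≠ b) {h : Γ} (hha : h • a = a) (hhb : h • b = b) {v : Γ}
    (hv : v ∈ Subgroup.zpowers x) (hv1 : v ≠ 1) (hc : h * v * h⁻¹ = v) : h = 1 := by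
  classical
  -- `x` is a power of `v`
  have hu' : v ∈ Submonoid.powers x := (mem_powers_iff_mem_zpowers).2 hv
  obtain ⟨k, rfl⟩ := hu'
  have hcop : k.Coprime (orderOf x) := by
    rw [hx, Nat.coprime_comm, Nat.Prime.coprime_iff_not_dvd hpf.out]
    intro h
    apply hv1
    rw [← hx] at h
    exact orderOf_dvd_iff_pow_eq_one.1 h
  obtain ⟨m, hm⟩ := exists_pow_eq_self_of_coprime hcop
  have hcv : Commute h (x ^ k) := by
    show h * x ^ k = x ^ k * h
    calc h * x ^ k = (h * x ^ k * h⁻¹) * h := by group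
      _ = x ^ k * h := by rw [hc]
  have hcx : Commute h x := by
    have := hcv.pow_right m
    rwa [hm] at this
  apply eq_of_smul_eq_smul (α := Ω)
  intro c
  rw [one_smul]
  by_cases hca : c = a
  · rw [hca, hha]
  · obtain ⟨t, ht, -⟩ := reg_P hx hxa hxu hΩ b c hab.symm hca
    obtain ⟨n, hn⟩ := t.2
    have hct : Commute h (t : Γ) := by
      rw [← hn]
      exact hcx.zpow_right n
    rw [← ht, ← mul_smul, hct.eq, mul_smul, hhb]

include hx hxa hxu hΩ hΓ hd in
/-- No nontrivial element fixes three points. -/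
theorem eq_one_of_three (hab : a ≠ b) (g : Γ) (a' b' c' : Ω) (h1 : a' ≠ b')
    (h2 : b' ≠ c') (h3 : a' ≠ c') (ha : g • a' = a') (hb : g • b' = b') (hc : g • c' = c') :
    g = 1 := by
  obtain ⟨k, hka, hkb⟩ := two_trans_aux hx hxa hxu hΩ hab h1
  set g' := k⁻¹ * g * k with hg'
  have hg'a : g' • a = a := by
    rw [hg', mul_smul, mul_smul, hka, ha, ← hka, inv_smul_smul]
  have hg'b : g' • b = b := by
    rw [hg', mul_smul, mul_smul, hkb, hb, ← hkb, inv_smul_smul]
  set c'' := k⁻¹ • c' with hc''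
  have hg'c : g' • c'' = c'' := by
    rw [hg', hc'', mul_smul, mul_smul, smul_inv_smul, hc]
  have hc''a : c'' ≠ a := by
    intro h
    apply h3
    rw [← hka, ← h, hc'', smul_inv_smul]
  have hc''b : c'' ≠ b := by
    intro h
    apply h2
    rw [← hkb, ← h, hc'', smul_inv_smul]
  obtain ⟨t, ht, hu⟩ := reg_P hx hxa hxu hΩ b c'' hab.symm hc''a
  have hconj : g' * (t : Γ) * g'⁻¹ ∈ Subgroup.zpowers x :=
    normal_P hx hxa hxu hΩ hΓ hd hab g' hg'a t t.2
  have hconj2 : (g' * (t : Γ) * g'⁻¹) • b = c'' := by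
    have h4 : g'⁻¹ • b = b := by
      rw [inv_smul_eq_iff, hg'b]
    rw [mul_smul, mul_smul, h4, ht, hg'c]
  have heq := hu ⟨_, hconj⟩ hconj2
  have heq' : g' * (t : Γ) * g'⁻¹ = t := congrArg Subtype.val heq
  have ht1 : (t : Γ) ≠ 1 := by
    intro h
    rw [h, one_smul] at ht
    exact hc''b ht.symm
  have hg1 : g' = 1 := free_H hx hxa hxu hΩ hab hg'a hg'b t.2 ht1 heq'
  have : g = k * g' * k⁻¹ := by rw [hg']; group
  rw [this, hg1]
  group

include hx hxa hxu hΩ hΓ hd in
/-- The cyclic group is the kernel of the point stabiliser. -/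
theorem isKernelAt (hab : a ≠ b) : IsKernelAt Γ a (Subgroup.zpowers x) := by
  classical
  have hP_a : ∀ u ∈ Subgroup.zpowers x, u • a = a := by
    rintro u ⟨k, rfl⟩
    have h2 : a ∈ fixedBy Ω x := hxa
    exact fixedBy_subset_fixedBy_zpow _ _ _ h2
  refine ⟨hP_a, fun g hg k hk => normal_P hx hxa hxu hΩ hΓ hd hab g hg k hk, ?_, ?_⟩
  · intro g hg
    constructor
    · intro hgm
      by_cases hg1 : g = 1
      · exact Or.inl hg1
      · exact Or.inr fun c hc hgc => hc (free_pow hx hxu hgm hg1 hgc)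
    · rintro (rfl | hfree)
      · exact Subgroup.one_mem _
      · have hgb : g • b ≠ a := fun h => hab (by
          have h1 : g • a = g • b := by rw [h, hg]
          exact smul_left_cancel _ h1)
        obtain ⟨t, ht, -⟩ := reg_P hx hxa hxu hΩ b (g • b) hab.symm hgb
        set h := (t : Γ)⁻¹ * g with hh
        have hha : h • a = a := by
          rw [hh, mul_smul, hg]
          exact inv_smul_eq_iff.2 (hP_a _ t.2).symm
        have hhb : h • b = b := by
          rw [hh, mul_smul, ← ht, inv_smul_smul]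
        by_cases hh1 : h = 1
        · have : g = t := by
            have : (t : Γ) * h = g := by rw [hh]; group
            rw [← this, hh1, mul_one]
          rw [this]
          exact t.2
        · exfalso
          -- the commutator map is a bijection
          have hcomm : ∀ u w : Subgroup.zpowers x, (u : Γ) * w = w * u := by
            intro u w
            obtain ⟨n, hn⟩ := u.2
            obtain ⟨n', hn'⟩ := w.2
            rw [← hn, ← hn']
            exact ((Commute.refl x).zpow_zpow n n').eq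
          let f : Subgroup.zpowers x → Subgroup.zpowers x := fun u =>
            ⟨h * u * h⁻¹ * (u : Γ)⁻¹, Subgroup.mul_mem _
              (normal_P hx hxa hxu hΩ hΓ hd hab h hha u u.2) (Subgroup.inv_mem _ u.2)⟩
          have hf : Function.Injective f := by
            intro u w huw
            have h1 : h * (u : Γ) * h⁻¹ * (u : Γ)⁻¹ = h * w * h⁻¹ * (w : Γ)⁻¹ :=
              congrArg Subtype.val huw
            by_contra hne
            have hne' : (u : Γ) * (w : Γ)⁻¹ ≠ 1 := by
              intro h2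
              exact hne (Subtype.ext (mul_inv_eq_one.1 h2))
            apply hh1
            apply free_H hx hxa hxu hΩ hab hha hhb
              (Subgroup.mul_mem _ u.2 (Subgroup.inv_mem _ w.2)) hne'
            have h3 : h * ((u : Γ) * (w : Γ)⁻¹) * h⁻¹ =
                (h * (u : Γ) * h⁻¹) * (h * (w : Γ) * h⁻¹)⁻¹ := by group
            rw [h3]
            have h4 : h * (u : Γ) * h⁻¹ = (h * w * h⁻¹ * (w : Γ)⁻¹) * u := by
              rw [← h1]; group
            rw [h4]
            have h5 : (h * (w : Γ) * h⁻¹ * (w : Γ)⁻¹) * (u : Γ) * (h * (w : Γ) * h⁻¹)⁻¹ =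
                (h * (w : Γ) * h⁻¹) * ((w : Γ)⁻¹ * u) * (h * (w : Γ) * h⁻¹)⁻¹ := by group
            rw [h5]
            have h6 : (h * (w : Γ) * h⁻¹) * ((w : Γ)⁻¹ * u) =
                ((w : Γ)⁻¹ * u) * (h * (w : Γ) * h⁻¹) :=
              hcomm ⟨_, normal_P hx hxa hxu hΩ hΓ hd hab h hha w w.2⟩
                ⟨_, Subgroup.mul_mem _ (Subgroup.inv_mem _ w.2) u.2⟩
            rw [h6, mul_inv_cancel_right]
            exact (hcomm u ⟨_, Subgroup.inv_mem _ w.2⟩).symm ▸ rfl
          obtain ⟨u, hu⟩ := (Finite.injective_iff_surjective.1 hf) ⟨(t : Γ)⁻¹, Subgroup.inv_mem _ t.2⟩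
          have hu' : h * (u : Γ) * h⁻¹ * (u : Γ)⁻¹ = (t : Γ)⁻¹ := congrArg Subtype.val hu
          have hub : (u : Γ) • b ≠ a := by
            intro h1
            apply hab
            have h2 : (u : Γ) • b = (u : Γ) • a := by rw [h1, hP_a _ u.2]
            exact (smul_left_cancel _ h2).symm
          apply hfree _ hub
          have hg2 : g = t * h := by rw [hh]; group
          have h3 : h * (u : Γ) = (t : Γ)⁻¹ * u * h := by
            rw [← hu']; group
          have h4 : g * (u : Γ) = (u : Γ) * h := by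
            rw [hg2, mul_assoc, h3]
            group
          rw [← mul_smul, h4, mul_smul, hhb]
  · intro c e hc he
    obtain ⟨t, ht, hu⟩ := reg_P hx hxa hxu hΩ c e hc he
    refine ⟨t, ⟨t.2, ht⟩, ?_⟩
    rintro k ⟨hk, hke⟩
    exact congrArg Subtype.val (hu ⟨k, hk⟩ hke)

include hx hxa hxu hΩ hΓ hd in
/-- The two-point stabiliser is abelian. -/
theorem comm_H (hab : a ≠ b) (h h' : Γ) (hha : h • a = a) (hhb : h • b = b)
    (hha' : h' • a = a) (hhb' : h' • b = b) : h * h' = h' * h := by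
  have hx1 : x ≠ 1 := by
    rintro rfl
    rw [orderOf_one] at hx
    exact hpf.out.one_lt.ne hx
  have hm1 := normal_P hx hxa hxu hΩ hΓ hd hab h hha x (Subgroup.mem_zpowers x)
  have hm2 := normal_P hx hxa hxu hΩ hΓ hd hab h' hha' x (Subgroup.mem_zpowers x)
  obtain ⟨m, hm⟩ := hm1
  obtain ⟨n, hn⟩ := hm2
  simp only at hm hn
  have key : ∀ (z : Γ) (k : ℤ), z * x ^ k * z⁻¹ = (z * x * z⁻¹) ^ k := by
    intro z k
    rw [conj_zpow]
  have h1 : (h * h') * x * (h * h')⁻¹ = (h' * h) * x * (h' * h)⁻¹ := by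
    calc (h * h') * x * (h * h')⁻¹ = h * (h' * x * h'⁻¹) * h⁻¹ := by group
      _ = (x ^ m) ^ n := by rw [← hn, key, ← hm]
      _ = (x ^ n) ^ m := by rw [← zpow_mul, ← zpow_mul, mul_comm]
      _ = h' * (h * x * h⁻¹) * h'⁻¹ := by rw [← hm, key, ← hn]
      _ = (h' * h) * x * (h' * h)⁻¹ := by group
  set z := (h' * h)⁻¹ * (h * h') with hz
  have hza : z • a = a := by
    rw [hz, mul_smul, mul_smul, hha', hha, inv_smul_eq_iff, mul_smul, hha, hha']
  have hzb : z • b = b := by
    rw [hz, mul_smul, mul_smul, hhb', hhb, inv_smul_eq_iff, mul_smul, hhb, hhb']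
  have hzc : z * x * z⁻¹ = x := by
    calc z * x * z⁻¹ = (h' * h)⁻¹ * ((h * h') * x * (h * h')⁻¹) * (h' * h) := by
          rw [hz]; group
      _ = (h' * h)⁻¹ * ((h' * h) * x * (h' * h)⁻¹) * (h' * h) := by rw [h1]
      _ = x := by group
  have hz1 : z = 1 := free_H hx hxa hxu hΩ hab hza hzb (Subgroup.mem_zpowers x) hx1 hzc
  have := inv_mul_eq_one.1 hz1
  exact this.symm ▸ rfl

end Main

end Cfsg.Agent.Lib.PrimeDegS19
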