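import Mathlib
import Cfsg.Agent.Lib.PrimeDegS19
import Cfsg.Agent.S0741
import Cfsg.Agent.S0742
import Cfsg.Agent.S0731

/-!
# Transitive groups of degree `p + 1`, order `(p + 1) p d`, `d < p`: the linear cases
-/

set_option autoImplicit false
set_option linter.unusedSectionVars false
set_option linter.style.haveILetI false

namespace Cfsg.Agent.Lib.PrimeDegT19

open Cfsg MulAction Cfsg.Agent.Lib.ZassCore Cfsg.Agent.Lib.ZassAbL19 Cfsg.Agent.Lib.ZassAbC19
  Cfsg.Agent.Lib.PrimeDegS19 Matrix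

universe u v

variable {Γ : Type u} {Ω : Type v} [Group Γ] [MulAction Γ Ω] [FaithfulSMul Γ Ω] [Fintype Ω]
  [Finite Γ] {p d : ℕ} [hpf : Fact p.Prime]
  {x : Γ} {a b : Ω} (hx : orderOf x = p) (hxa : x • a = a) (hxu : ∀ c, x • c = c → c = a)
  (hΩ : Fintype.card Ω = p + 1) [IsPretransitive Γ Ω]
  (hΓ : Nat.card Γ = (p + 1) * p * d) (hd : d < p)

include hx hxa hxu hΩ hΓ hd in
/-- The coordinates: a field of order `p` with the cyclic group as its additive group and the
two-point stabiliser in its multiplicative group. -/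
theorem exists_coord (hab : a ≠ b) :
    ∃ (K : Type u) (_ : Field K) (_ : Finite K) (_ : Coord a b (Subgroup.zpowers x) K),
      Nat.card K = p := by
  classical
  have hF : IsKernelAt Γ a (Subgroup.zpowers x) := isKernelAt hx hxa hxu hΩ hΓ hd hab
  have hc : ∀ y ∈ Subgroup.zpowers x, ∀ z ∈ Subgroup.zpowers x, y * z = z * y := by
    rintro _ ⟨n, rfl⟩ _ ⟨n', rfl⟩
    exact ((Commute.refl x).zpow_zpow n n').eq
  letI := commF hc
  letI := actF hF hc
  let ρ : ↥(stabilizer Γ a ⊓ stabilizer Γ b) →* AddMonoid.End (Additive (Subgroup.zpowers x)) :=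
    (DistribMulAction.toAddMonoidEnd (stabilizer Γ a) (Additive (Subgroup.zpowers x))).comp
      (Subgroup.inclusion inf_le_left)
  have hcommH : ∀ h h' : ↥(stabilizer Γ a ⊓ stabilizer Γ b), h * h' = h' * h := fun h h' =>
    Subtype.ext (comm_H hx hxa hxu hΩ hΓ hd hab h h' h.2.1 h.2.2 h'.2.1 h'.2.2)
  have hcomm : ∀ h h', ρ h * ρ h' = ρ h' * ρ h := by
    intro h h'
    rw [← map_mul, ← map_mul, hcommH]
  have hcardA : Nat.card (Additive (Subgroup.zpowers x)) = p := by
    rw [Nat.card_congr Additive.toMul, Nat.card_zpowers, hx]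
  have hirr : ∀ W : AddSubgroup (Additive (Subgroup.zpowers x)), (∀ h, ∀ y ∈ W, ρ h y ∈ W) →
      W = ⊥ ∨ W = ⊤ := by
    intro W _
    haveI : Fact (Nat.card (Additive (Subgroup.zpowers x))).Prime := ⟨by rw [hcardA]; exact hpf.out⟩
    exact W.eq_bot_or_eq_top_of_prime_card
  have hx1 : x ≠ 1 := by
    rintro rfl
    rw [orderOf_one] at hx
    exact hpf.out.one_lt.ne hx
  let t₀ : Subgroup.zpowers x := ⟨x, Subgroup.mem_zpowers x⟩
  have ht₀ : t₀ ≠ 1 := fun h => hx1 (congrArg Subtype.val h)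
  have hNA : Nontrivial (Additive (Subgroup.zpowers x)) := by
    have : Nontrivial (Subgroup.zpowers x) := ⟨⟨t₀, 1, ht₀⟩⟩
    infer_instance
  have he₀ : Additive.ofMul t₀ ≠ 0 := by
    intro h
    apply ht₀
    exact Additive.ofMul.injective h
  have hρinj : Function.Injective ρ := by
    intro h h' hh
    have h1 := congrArg (fun f : AddMonoid.End (Additive (Subgroup.zpowers x)) =>
      f (Additive.ofMul t₀)) hh
    have h2 : (h : Γ) * x * (h : Γ)⁻¹ = (h' : Γ) * x * (h' : Γ)⁻¹ :=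
      congrArg (fun t : Additive (Subgroup.zpowers x) =>
        ((Additive.toMul t : Subgroup.zpowers x) : Γ)) h1
    have h3 : ((h' : Γ)⁻¹ * h) = 1 := by
      apply free_H hx hxa hxu hΩ hab (Subgroup.mul_mem _ (Subgroup.inv_mem _ h'.2.1) h.2.1)
        (Subgroup.mul_mem _ (Subgroup.inv_mem _ h'.2.2) h.2.2) (Subgroup.mem_zpowers x) hx1
      calc (h' : Γ)⁻¹ * h * x * ((h' : Γ)⁻¹ * h)⁻¹ =
            (h' : Γ)⁻¹ * ((h : Γ) * x * (h : Γ)⁻¹) * h' := by group
        _ = (h' : Γ)⁻¹ * ((h' : Γ) * x * (h' : Γ)⁻¹) * h' := by rw [h2]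
        _ = x := by group
    apply Subtype.ext
    exact (inv_mul_eq_one.mp h3).symm
  obtain ⟨K, _, _, ev, φ, hev, hadd, hconj, hφ⟩ :=
    Cfsg.Agent.Lib.ZassAbF19.exists_field ρ hcomm hirr (Additive.ofMul t₀) he₀ hρinj
  let C : Coord a b (Subgroup.zpowers x) K :=
    { ε := fun y => ((Additive.toMul (ev y) : Subgroup.zpowers x) : Γ)
      add := fun y z => by
        show ((Additive.toMul (ev (y + z)) : Subgroup.zpowers x) : Γ) = _
        rw [hadd]
        rfl
      mem := fun y => (Additive.toMul (ev y)).2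
      surj := fun t ht => by
        obtain ⟨y, hy⟩ := hev.2 (Additive.ofMul ⟨t, ht⟩)
        refine ⟨y, ?_⟩
        show ((Additive.toMul (ev y) : Subgroup.zpowers x) : Γ) = t
        rw [hy]
        rfl
      inj := fun y z h => by
        apply hev.1
        apply Additive.toMul.injective
        exact Subtype.ext h
      φ := φ
      conj := fun h y => by
        show (h : Γ) * ((Additive.toMul (ev y) : Subgroup.zpowers x) : Γ) * (h : Γ)⁻¹ =
          ((Additive.toMul (ev ((φ h : K) * y)) : Subgroup.zpowers x) : Γ)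
        rw [hconj]
        rfl
      φ_inj := hφ }
  refine ⟨K, inferInstance, inferInstance, C, ?_⟩
  rw [← hcardA]
  exact Nat.card_eq_of_bijective ev hev

include hx hxa hxu hΩ hΓ hd in
/-- The first case: `d = p - 1`. -/
theorem case_a (hab : a ≠ b) (hdp : d + 1 = p) : Nonempty (Γ ≃* ProjGenLinGroup (Fin 2) (ZMod p)) := by
  classical
  obtain ⟨K, _, _, C, hK⟩ := exists_coord hx hxa hxu hΩ hΓ hd hab
  have hF : IsKernelAt Γ a (Subgroup.zpowers x) := isKernelAt hx hxa hxu hΩ hΓ hd hab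
  have hcH := card_H hx hxa hxu hΩ hΓ hab
  letI := Fintype.ofFinite K
  have hφ : Function.Surjective C.φ := by
    have h2 : Nat.card Kˣ = p - 1 := by
      rw [Nat.card_eq_fintype_card, Fintype.card_units, ← Nat.card_eq_fintype_card, hK]
    have hb := C.φ_inj.bijective_of_nat_card_le (by rw [h2, hcH]; omega)
    exact hb.2
  obtain ⟨g, hga, hgb⟩ := two_trans_aux hx hxa hxu hΩ hab hab.symm
  have hc1 : g • C.pt b 1 ≠ a := by
    intro h
    have h1 : g • C.pt b 1 = g • b := by rw [h, hgb]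
    have h2 := smul_left_cancel _ h1
    have h3 : C.pt b 1 = C.pt b 0 := h2.trans (C.pt_zero hF hab).symm
    exact one_ne_zero (C.pt_inj hF hab h3)
  obtain ⟨z, hz⟩ := C.exists_pt hF hab hc1
  have hz0 : z ≠ 0 := by
    rintro rfl
    rw [C.pt_zero hF hab] at hz
    have h1 : g • C.pt b 1 = g • a := by rw [← hz, hga]
    exact C.pt_ne hF hab 1 (smul_left_cancel _ h1)
  obtain ⟨h, hh⟩ := hφ (Units.mk0 z hz0)⁻¹
  set s := (h : Γ) * g with hs
  have hsa : s • a = b := by
    rw [hs, mul_smul, hga]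
    exact h.2.2
  have hsb : s • b = a := by
    rw [hs, mul_smul, hgb]
    exact h.2.1
  have hs1 : s • C.pt b 1 = C.pt b 1 := by
    rw [hs, mul_smul, ← hz, C.stab_pt hF hab, hh]
    congr 1
    simp [hz0]
  have hss : s * s = 1 := by
    apply eq_one_of_three hx hxa hxu hΩ hΓ hd hab (s * s) a b (C.pt b 1) hab
    · intro h1
      have h3 : C.pt b 0 = C.pt b 1 := by rw [C.pt_zero hF hab]; exact h1
      exact zero_ne_one (C.pt_inj hF hab h3)
    · exact (C.pt_ne hF hab 1).symm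
    · rw [mul_smul, hsa, hsb]
    · rw [mul_smul, hsb, hsa]
    · rw [mul_smul, hs1, hs1]
  obtain ⟨e⟩ := Cfsg.Agent.Lib.ZassAbG19.pgl_of_coord hab hF C hφ s hsa hsb hs1 hss
  have hcK : Fintype.card K = p := by rw [← Nat.card_eq_fintype_card, hK]
  exact ⟨e.trans (Cfsg.Agent.Lib.DicksonRed.pglEquiv (ZMod.ringEquivOfPrime K hpf.out hcK).symm)⟩

include hx hxa hxu hΩ hΓ hd in
/-- The second case: a Zassenhaus group and `d ≠ p - 1`. -/
theorem case_b (hab : a ≠ b) (hZ : IsZassenhausGroup Γ Ω) (hdp : d + 1 ≠ p) :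
    2 * d + 1 = p ∧ Nonempty (Γ ≃* ProjectiveSpecialLinearGroup (Fin 2) (ZMod p)) := by
  classical
  have hF : IsKernelAt Γ a (Subgroup.zpowers x) := isKernelAt hx hxa hxu hΩ hΓ hd hab
  have hc : ∀ y ∈ Subgroup.zpowers x, ∀ z ∈ Subgroup.zpowers x, y * z = z * y := by
    rintro _ ⟨n, rfl⟩ _ ⟨n', rfl⟩
    exact ((Commute.refl x).zpow_zpow n n').eq
  have hcH := card_H hx hxa hxu hΩ hΓ hab
  have hcF : Nat.card (Subgroup.zpowers x) = p := by rw [Nat.card_zpowers, hx]
  have hd0 : 0 < d := by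
    rw [← hcH]
    exact Nat.card_pos
  have hdvd : d ∣ p - 1 := by
    have := Cfsg.Agent.Lib.ZassAbT19.card_dvd_sub_one hZ hab hF
    rwa [hcH, hcF] at this
  have hp2 := hpf.out.two_le
  have hle : p - 1 ≤ 2 * d := by
    rcases Nat.even_or_odd d with h | h
    · have := Cfsg.Agent.S0741.result hZ hab (by rwa [hcH])
      rw [hΩ, hcH] at this
      omega
    · have := Cfsg.Agent.Lib.ZassAbO19.le_two_mul hZ hab hF hc (by rwa [hcH])
      rwa [hcH, hcF] at this
  have h2d : 2 * d + 1 = p := by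
    obtain ⟨k, hk⟩ := hdvd
    have hk0 : k ≠ 0 := by
      rintro rfl
      omega
    have hk1 : k ≠ 1 := by
      rintro rfl
      omega
    have hk2 : 2 ≤ k := by omega
    have h3 : 2 * d ≤ d * k := by
      rw [mul_comm]
      exact Nat.mul_le_mul_left _ hk2
    omega
  refine ⟨h2d, ?_⟩
  have hs2 : ∀ s : Γ, s • a = b → s • b = a → s * s = 1 := by
    intro s hsa hsb
    rcases Nat.even_or_odd d with h | h
    · apply Cfsg.Agent.S0742.swap_invol hZ hab (by rwa [hcH]) (by rw [hcH, hΩ]; omega) s hsa hsb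
    · apply Cfsg.Agent.S0731.swap_invol_odd hZ hab hF hc (by rwa [hcH]) (by rw [hcH, hcF]; exact h2d)
        s hsa hsb
  obtain ⟨K, _, _, hK, ⟨e⟩⟩ := Cfsg.Agent.Lib.ZassAbD19.psl_of_hyp hZ hab hF hc
    (by rw [hcH, hcF]; exact h2d) hs2
  rw [hcF] at hK
  obtain ⟨e2⟩ := Cfsg.Agent.Lib.PSL2Rec.psl_congr (ZMod.ringEquivOfPrime K hpf.out hK).symm
  exact ⟨e.trans e2⟩

end Cfsg.Agent.Lib.PrimeDegT19
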