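import Mathlib
import Cfsg.Agent.Lib.PrimeDegT19
import Cfsg.Agent.Lib.AutPSL.Faithful

/-!
# Transitive groups of degree `p + 1`, order `(p + 1) p d`, `d < p`: the affine case
-/

set_option autoImplicit false
set_option linter.unusedSectionVars false
set_option linter.style.haveILetI false

namespace Cfsg.Agent.Lib.PrimeDegR19

open Cfsg MulAction Cfsg.Agent.Lib.ZassCore Cfsg.Agent.Lib.ZassAbL19 Cfsg.Agent.Lib.ZassAbC19
  Cfsg.Agent.Lib.PrimeDegS19 Matrix

universe u v w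

/-- An additive bijection which is semilinear with respect to multiplications by nonzero elements
is a scalar multiple of a field automorphism. -/
theorem semilinear_of_conj {K : Type w} [Field K] (Ψ : K → K) (hbij : Function.Bijective Ψ)
    (hadd : ∀ y z, Ψ (y + z) = Ψ y + Ψ z)
    (hconj : ∀ u : K, u ≠ 0 → ∃ u' : K, ∀ y, Ψ (u * y) = u' * Ψ y) :
    ∃ (c : Kˣ) (σ : K ≃+* K), ∀ y, Ψ y = c * σ y := by
  have h0 : Ψ 0 = 0 := by
    have h1 := hadd 0 0
    rw [add_zero] at h1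
    exact left_eq_add.1 h1
  have hc : Ψ 1 ≠ 0 := fun h => one_ne_zero (hbij.1 (h.trans h0.symm))
  let f : K →+* K :=
    { toFun := fun y => (Ψ 1)⁻¹ * Ψ y
      map_one' := inv_mul_cancel₀ hc
      map_zero' := by simp [h0]
      map_add' := by intro y z; rw [hadd, mul_add]
      map_mul' := by
        intro u y
        by_cases hu : u = 0
        · simp [hu, h0]
        · obtain ⟨u', hu'⟩ := hconj u hu
          have h1 : Ψ u = u' * Ψ 1 := by simpa using hu' 1
          rw [hu', h1]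
          field_simp }
  have hfb : Function.Bijective f := by
    constructor
    · intro y z h
      have h1 : (Ψ 1)⁻¹ * Ψ y = (Ψ 1)⁻¹ * Ψ z := h
      exact hbij.1 (mul_left_cancel₀ (inv_ne_zero hc) h1)
    · intro z
      obtain ⟨y, hy⟩ := hbij.2 (Ψ 1 * z)
      refine ⟨y, ?_⟩
      show (Ψ 1)⁻¹ * Ψ y = z
      rw [hy]
      field_simp
  refine ⟨Units.mk0 (Ψ 1) hc, RingEquiv.ofBijective f hfb, ?_⟩
  intro y
  show Ψ y = Ψ 1 * ((Ψ 1)⁻¹ * Ψ y)
  field_simp

variable {Γ : Type u} {Ω : Type v} [Group Γ] [MulAction Γ Ω] [FaithfulSMul Γ Ω] [Fintype Ω]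
  [Finite Γ] {p d : ℕ} [hpf : Fact p.Prime]

/-- The conjugation action on an abelian normal subgroup. -/
@[reducible] def actN {N : Subgroup Γ} (hN : N.Normal) (hc : ∀ x ∈ N, ∀ y ∈ N, x * y = y * x) :
    letI := commF hc
    DistribMulAction Γ (Additive N) :=
  letI := commF hc
  { smul := fun x t => Additive.ofMul
      (⟨x * ((Additive.toMul t : N) : Γ) * x⁻¹, hN.conj_mem _ (Additive.toMul t).2 x⟩ : N)
    one_smul := fun t => by
      apply Additive.toMul.injective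
      apply Subtype.ext
      show (1 : Γ) * ((Additive.toMul t : N) : Γ) * (1 : Γ)⁻¹ = _
      simp
    mul_smul := fun x y t => by
      apply Additive.toMul.injective
      apply Subtype.ext
      show (x * y) * ((Additive.toMul t : N) : Γ) * (x * y)⁻¹ =
        x * (y * ((Additive.toMul t : N) : Γ) * y⁻¹) * x⁻¹
      group
    smul_zero := fun x => by
      apply Additive.toMul.injective
      apply Subtype.ext
      show x * (1 : Γ) * x⁻¹ = 1
      simp
    smul_add := fun x t t' => by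
      apply Additive.toMul.injective
      apply Subtype.ext
      show x * (((Additive.toMul t : N) : Γ) * ((Additive.toMul t' : N) : Γ)) * x⁻¹ =
        (x * ((Additive.toMul t : N) : Γ) * x⁻¹) *
          (x * ((Additive.toMul t' : N) : Γ) * x⁻¹)
      group }

section Main

variable {x : Γ} {a b : Ω} (hx : orderOf x = p) (hxa : x • a = a) (hxu : ∀ c, x • c = c → c = a)
  (hΩ : Fintype.card Ω = p + 1) [IsPretransitive Γ Ω]
  (hΓ : Nat.card Γ = (p + 1) * p * d) (hd : d < p)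
  {N : Subgroup Γ} (hN : N.Normal) (hreg : ∀ y z : Ω, ∃! n : N, (n : Γ) • y = z)

include hreg in
theorem mem_eq {n n' : Γ} (hn : n ∈ N) (hn' : n' ∈ N) (c : Ω) (h : n • c = n' • c) : n = n' := by
  obtain ⟨m, -, hm⟩ := hreg c (n • c)
  have h1 := hm ⟨n, hn⟩ rfl
  have h2 := hm ⟨n', hn'⟩ h.symm
  exact congrArg Subtype.val (h1.trans h2.symm)

include hreg in
theorem smul_ne {n : Γ} (hn : n ∈ N) (hn1 : n ≠ 1) (c : Ω) : n • c ≠ c := by
  intro h
  apply hn1
  apply mem_eq hreg hn (Subgroup.one_mem _) c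
  rw [one_smul, h]

include hreg in
theorem card_N (a : Ω) : Nat.card N = Fintype.card Ω := by
  rw [← Nat.card_eq_fintype_card]
  apply Nat.card_eq_of_bijective (fun n : N => (n : Γ) • a)
  constructor
  · intro n n' h
    exact Subtype.ext (mem_eq hreg n.2 n'.2 a h)
  · intro c
    obtain ⟨m, hm, -⟩ := hreg a c
    exact ⟨m, hm⟩

include hx hxa hxu hΩ hN hreg in
theorem conj_transitive {n n' : Γ} (hn : n ∈ N) (hn' : n' ∈ N) (hn1 : n ≠ 1) (hn1' : n' ≠ 1) :
    ∃ t ∈ Subgroup.zpowers x, t * n * t⁻¹ = n' := by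
  obtain ⟨t, ht, -⟩ := reg_P hx hxa hxu hΩ (n • a) (n' • a) (smul_ne hreg hn hn1 a)
    (smul_ne hreg hn' hn1' a)
  refine ⟨t, t.2, ?_⟩
  apply mem_eq hreg (hN.conj_mem _ hn _) hn' a
  have h1 : (t : Γ)⁻¹ • a = a := by
    have h2 : a ∈ fixedBy Ω (t : Γ)⁻¹ := by
      obtain ⟨k, hk⟩ := (Subgroup.inv_mem _ t.2 : (t : Γ)⁻¹ ∈ Subgroup.zpowers x)
      rw [← hk]
      have h3 : a ∈ fixedBy Ω x := hxa
      exact fixedBy_subset_fixedBy_zpow _ _ _ h3
    exact h2
  rw [mul_smul, mul_smul, h1, ht]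

include hx hxa hxu hΩ hN hreg in
/-- All elements of the regular normal subgroup are involutions. -/
theorem sq_one (hp2 : p ≠ 2) {n : Γ} (hn : n ∈ N) : n * n = 1 := by
  classical
  by_cases hn1 : n = 1
  · rw [hn1, one_mul]
  have hcN := card_N hreg a
  have hodd : Odd p := hpf.out.odd_of_ne_two hp2
  have hev : 2 ∣ Nat.card N := by
    rw [hcN, hΩ]
    exact (hodd.add_one).two_dvd
  haveI : Fact (Nat.Prime 2) := ⟨Nat.prime_two⟩
  obtain ⟨j, hj⟩ := exists_prime_orderOf_dvd_card' 2 hev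
  have hj1 : (j : Γ) ≠ 1 := by
    intro h
    have : j = 1 := Subtype.ext h
    rw [this, orderOf_one] at hj
    omega
  have hjj : (j : Γ) * j = 1 := by
    have h1 : j ^ 2 = 1 := by
      rw [← hj]
      exact pow_orderOf_eq_one j
    have h2 := congrArg Subtype.val h1
    rw [pow_two] at h2
    exact h2
  obtain ⟨t, -, ht⟩ := conj_transitive hx hxa hxu hΩ hN hreg j.2 hn hj1 hn1
  rw [← ht]
  calc t * (j : Γ) * t⁻¹ * (t * (j : Γ) * t⁻¹) = t * ((j : Γ) * j) * t⁻¹ := by group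
    _ = 1 := by rw [hjj]; group

include hx hxa hxu hΩ hN hreg in
theorem comm_N (hp2 : p ≠ 2) : ∀ n ∈ N, ∀ n' ∈ N, n * n' = n' * n := by
  intro n hn n' hn'
  have h1 := sq_one hx hxa hxu hΩ hN hreg hp2 hn
  have h2 := sq_one hx hxa hxu hΩ hN hreg hp2 hn'
  have h3 := sq_one hx hxa hxu hΩ hN hreg hp2 (Subgroup.mul_mem _ hn hn')
  calc n * n' = n * n' * (n' * n * (n' * n)) := by
        rw [sq_one hx hxa hxu hΩ hN hreg hp2 (Subgroup.mul_mem _ hn' hn), mul_one]
    _ = n * (n' * n') * n * (n' * n) := by group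
    _ = n' * n := by rw [h2, mul_one, h1, one_mul]

include hx hxa hxu hΩ hN hreg in
/-- The degree is a power of two, with prime exponent. -/
theorem exists_q (hp2 : p ≠ 2) : ∃ q : ℕ, q.Prime ∧ p + 1 = 2 ^ q := by
  have hcN := card_N hreg a
  haveI : Fact (Nat.Prime 2) := ⟨Nat.prime_two⟩
  have hP : IsPGroup 2 N := by
    intro n
    refine ⟨1, ?_⟩
    apply Subtype.ext
    have h1 := sq_one hx hxa hxu hΩ hN hreg hp2 n.2
    show ((n ^ (2 ^ 1) : N) : Γ) = 1
    rw [pow_one, pow_two]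
    exact h1
  obtain ⟨q, hq⟩ := IsPGroup.iff_card.1 hP
  rw [hcN, hΩ] at hq
  have hp3 : 3 ≤ p := by
    have := hpf.out.two_le
    omega
  have hq1 : q ≠ 1 := by
    rintro rfl
    omega
  have hpq : 2 ^ q - 1 = p := by omega
  have := Nat.prime_of_pow_sub_one_prime hq1 (by rw [hpq]; exact hpf.out)
  exact ⟨q, this.2, hq⟩

/-- The field coordinates of the regular normal subgroup. -/
structure FieldData (a : Ω) (N : Subgroup Γ) (x : Γ) (K : Type w) [Field K] where
  ε : K → Γ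
  add : ∀ y z, ε (y + z) = ε y * ε z
  mem : ∀ y, ε y ∈ N
  surj : ∀ n ∈ N, ∃ y, ε y = n
  inj : Function.Injective ε
  φ : Subgroup.zpowers x →* Kˣ
  conj : ∀ (t : Subgroup.zpowers x) (y : K), (t : Γ) * ε y * (t : Γ)⁻¹ = ε ((φ t : K) * y)
  φ_surj : Function.Surjective φ

include hx hxa hxu hΩ hN hreg in
theorem exists_fieldData (hp2 : p ≠ 2) :
    ∃ (K : Type u) (_ : Field K) (_ : Finite K) (_ : FieldData a N x K), Nat.card K = p + 1 := by
  classical
  have hc := comm_N hx hxa hxu hΩ hN hreg hp2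
  have hcN := card_N hreg a
  rw [hΩ] at hcN
  letI := commF hc
  letI := actN hN hc
  let ρ : Subgroup.zpowers x →* AddMonoid.End (Additive N) :=
    (DistribMulAction.toAddMonoidEnd Γ (Additive N)).comp (Subgroup.zpowers x).subtype
  have hcP : ∀ h h' : Subgroup.zpowers x, h * h' = h' * h := by
    rintro ⟨_, n, rfl⟩ ⟨_, n', rfl⟩
    exact Subtype.ext ((Commute.refl x).zpow_zpow n n').eq
  have hcomm : ∀ h h', ρ h * ρ h' = ρ h' * ρ h := by
    intro h h'
    rw [← map_mul, ← map_mul, hcP]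
  have hcardA : Nat.card (Additive N) = p + 1 := by
    rw [Nat.card_congr Additive.toMul, hcN]
  have hp3 : 2 ≤ p := hpf.out.two_le
  have hirr : ∀ W : AddSubgroup (Additive N), (∀ h, ∀ y ∈ W, ρ h y ∈ W) → W = ⊥ ∨ W = ⊤ := by
    intro W hW
    by_cases hbot : W = ⊥
    · exact Or.inl hbot
    · right
      obtain ⟨w, hw0⟩ := AddSubgroup.ne_bot_iff_exists_ne_zero.1 hbot
      rw [eq_top_iff]
      intro z _
      by_cases hz : z = 0
      · rw [hz]
        exact W.zero_mem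
      have hn1 : ((Additive.toMul (w : Additive N) : N) : Γ) ≠ 1 := by
        intro h
        apply hw0
        apply Subtype.ext
        apply Additive.toMul.injective
        exact Subtype.ext h
      have hn2 : ((Additive.toMul z : N) : Γ) ≠ 1 := by
        intro h
        apply hz
        apply Additive.toMul.injective
        exact Subtype.ext h
      obtain ⟨t, ht, htc⟩ := conj_transitive hx hxa hxu hΩ hN hreg (Additive.toMul (w : Additive N)).2
        (Additive.toMul z).2 hn1 hn2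
      have h1 := hW ⟨t, ht⟩ w w.2
      have h2 : ρ ⟨t, ht⟩ w = z := by
        apply Additive.toMul.injective
        apply Subtype.ext
        exact htc
      rwa [h2] at h1
  have hx1 : x ≠ 1 := by
    rintro rfl
    rw [orderOf_one] at hx
    exact hpf.out.one_lt.ne hx
  haveI hNt : Nontrivial N := by
    rw [← Finite.one_lt_card_iff_nontrivial, hcN]
    omega
  obtain ⟨j, hj⟩ := exists_ne (1 : N)
  have hj1 : (j : Γ) ≠ 1 := fun h => hj (Subtype.ext h)
  have hNA : Nontrivial (Additive N) := inferInstance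
  have he₀ : Additive.ofMul j ≠ 0 := by
    intro h
    apply hj
    exact Additive.ofMul.injective h
  have hP_a : ∀ u ∈ Subgroup.zpowers x, u • a = a := by
    rintro u ⟨k, rfl⟩
    have h2 : a ∈ fixedBy Ω x := hxa
    exact fixedBy_subset_fixedBy_zpow _ _ _ h2
  have hρinj : Function.Injective ρ := by
    intro t t' hh
    have h1 := congrArg (fun f : AddMonoid.End (Additive N) => f (Additive.ofMul j)) hh
    have h2 : (t : Γ) * j * (t : Γ)⁻¹ = (t' : Γ) * j * (t' : Γ)⁻¹ :=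
      congrArg (fun z : Additive N => ((Additive.toMul z : N) : Γ)) h1
    by_contra hne
    have hu1 : (t' : Γ)⁻¹ * t ≠ 1 := by
      intro h3
      exact hne (Subtype.ext (inv_mul_eq_one.1 h3).symm)
    have hum : (t' : Γ)⁻¹ * t ∈ Subgroup.zpowers x := Subgroup.mul_mem _ (Subgroup.inv_mem _ t'.2) t.2
    have hu2 : ((t' : Γ)⁻¹ * t) * j * ((t' : Γ)⁻¹ * t)⁻¹ = j := by
      calc ((t' : Γ)⁻¹ * t) * j * ((t' : Γ)⁻¹ * t)⁻¹ =
            (t' : Γ)⁻¹ * ((t : Γ) * j * (t : Γ)⁻¹) * t' := by group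
        _ = (t' : Γ)⁻¹ * ((t' : Γ) * j * (t' : Γ)⁻¹) * t' := by rw [h2]
        _ = j := by group
    have hu3 : ((t' : Γ)⁻¹ * t) • ((j : Γ) • a) = (j : Γ) • a := by
      have h4 : ((t' : Γ)⁻¹ * t) * j = j * ((t' : Γ)⁻¹ * t) := by
        calc ((t' : Γ)⁻¹ * t) * j = (((t' : Γ)⁻¹ * t) * j * ((t' : Γ)⁻¹ * t)⁻¹) * ((t' : Γ)⁻¹ * t) := by
              group
          _ = j * ((t' : Γ)⁻¹ * t) := by rw [hu2]
      rw [← mul_smul, h4, mul_smul, hP_a _ hum]
    exact smul_ne hreg j.2 hj1 a (free_pow hx hxu hum hu1 hu3)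
  obtain ⟨K, _, _, ev, φ, hev, hadd, hconj, hφ⟩ :=
    Cfsg.Agent.Lib.ZassAbF19.exists_field ρ hcomm hirr (Additive.ofMul j) he₀ hρinj
  have hK : Nat.card K = p + 1 := by
    rw [← hcardA]
    exact Nat.card_eq_of_bijective ev hev
  have hφs : Function.Surjective φ := by
    letI := Fintype.ofFinite K
    have h2 : Nat.card Kˣ = p := by
      rw [Nat.card_eq_fintype_card, Fintype.card_units, ← Nat.card_eq_fintype_card, hK]
      simp
    have hb := hφ.bijective_of_nat_card_le (by rw [h2, Nat.card_zpowers, hx])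
    exact hb.2
  let D : FieldData a N x K :=
    { ε := fun y => ((Additive.toMul (ev y) : N) : Γ)
      add := fun y z => by
        show ((Additive.toMul (ev (y + z)) : N) : Γ) = _
        rw [hadd]
        rfl
      mem := fun y => (Additive.toMul (ev y)).2
      surj := fun t ht => by
        obtain ⟨y, hy⟩ := hev.2 (Additive.ofMul ⟨t, ht⟩)
        refine ⟨y, ?_⟩
        show ((Additive.toMul (ev y) : N) : Γ) = t
        rw [hy]
        rfl
      inj := fun y z h => by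
        apply hev.1
        apply Additive.toMul.injective
        exact Subtype.ext h
      φ := φ
      conj := fun h y => by
        show (h : Γ) * ((Additive.toMul (ev y) : N) : Γ) * (h : Γ)⁻¹ =
          ((Additive.toMul (ev ((φ h : K) * y)) : N) : Γ)
        rw [hconj]
        rfl
      φ_surj := hφs }
  exact ⟨K, inferInstance, inferInstance, D, hK⟩

section Affine

variable {K : Type w} [Field K] (D : FieldData a N x K)

/-- The point with a given coordinate. -/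
def FieldData.Ev (D : FieldData a N x K) (y : K) : Ω := D.ε y • a

theorem FieldData.eps_zero (D : FieldData a N x K) : D.ε 0 = 1 := by
  have h := D.add 0 0
  rw [add_zero] at h
  exact (mul_eq_left.mp h.symm)

include hreg in
theorem FieldData.Ev_bij : Function.Bijective D.Ev := by
  constructor
  · intro y z h
    exact D.inj (mem_eq hreg (D.mem y) (D.mem z) a h)
  · intro c
    obtain ⟨m, hm, -⟩ := hreg a c
    obtain ⟨y, hy⟩ := D.surj m m.2
    refine ⟨y, ?_⟩
    show D.ε y • a = c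
    rw [hy]
    exact hm

include hx hxa hxu hΩ hΓ hd hN hreg in
theorem FieldData.exists_semilinear (hab : a ≠ b) (g₀ : Γ) (hg₀ : g₀ • a = a) :
    ∃ (c : Kˣ) (σ : K ≃+* K), ∀ y, D.ε ((c : K) * σ y) = g₀ * D.ε y * g₀⁻¹ := by
  classical
  choose Ψ hΨ using fun y => D.surj _ (hN.conj_mem _ (D.mem y) g₀)
  have hbij : Function.Bijective Ψ := by
    constructor
    · intro y z h
      apply D.inj
      have h1 := hΨ y
      rw [h, hΨ z] at h1
      exact (mul_left_cancel (mul_right_cancel h1)).symm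
    · intro z
      obtain ⟨y, hy⟩ := D.surj _ (hN.conj_mem _ (D.mem z) g₀⁻¹)
      refine ⟨y, ?_⟩
      apply D.inj
      rw [hΨ, hy]
      group
  have hadd : ∀ y z, Ψ (y + z) = Ψ y + Ψ z := by
    intro y z
    apply D.inj
    rw [hΨ, D.add, D.add, hΨ, hΨ]
    group
  have hconj : ∀ u : K, u ≠ 0 → ∃ u' : K, ∀ y, Ψ (u * y) = u' * Ψ y := by
    intro u hu
    obtain ⟨t, ht⟩ := D.φ_surj (Units.mk0 u hu)
    have ht' : ((D.φ t : Kˣ) : K) = u := by rw [ht]; rfl
    let t' : Subgroup.zpowers x :=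
      ⟨g₀ * t * g₀⁻¹, normal_P hx hxa hxu hΩ hΓ hd hab g₀ hg₀ t t.2⟩
    refine ⟨(D.φ t' : K), fun y => ?_⟩
    apply D.inj
    rw [hΨ, ← ht', ← D.conj, ← D.conj, hΨ]
    show _ = (g₀ * (t : Γ) * g₀⁻¹) * _ * (g₀ * (t : Γ) * g₀⁻¹)⁻¹
    group
  obtain ⟨c, σ, hσ⟩ := semilinear_of_conj Ψ hbij hadd hconj
  refine ⟨c, σ, fun y => ?_⟩
  rw [← hσ, hΨ]

include hx hxa hxu hΩ hΓ hd hN hreg in
/-- The group acts by semi-affine maps in the coordinates. -/
theorem FieldData.smul_Ev (hab : a ≠ b) (g : Γ) :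
    ∃ (c : Kˣ) (σ : K ≃+* K) (b₀ : K), ∀ y, g • D.Ev y = D.Ev ((c : K) * σ y + b₀) := by
  obtain ⟨m, hm, -⟩ := hreg a (g • a)
  obtain ⟨b₀, hb₀⟩ := D.surj m m.2
  have hg₀ : ((m : Γ)⁻¹ * g) • a = a := by
    rw [mul_smul, ← hm, inv_smul_smul]
  obtain ⟨c, σ, hσ⟩ := D.exists_semilinear hx hxa hxu hΩ hΓ hd hN hreg hab _ hg₀
  refine ⟨c, σ, b₀, fun y => ?_⟩
  show g • D.ε y • a = D.ε ((c : K) * σ y + b₀) • a
  rw [add_comm, D.add, hσ, hb₀]
  have h1 : (m : Γ) * (((m : Γ)⁻¹ * g) * D.ε y * ((m : Γ)⁻¹ * g)⁻¹) = g * D.ε y * ((m : Γ)⁻¹ * g)⁻¹ := by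
    group
  rw [h1, mul_smul, inv_smul_eq_iff.2 hg₀.symm, mul_smul]

include hx hxa hxu hΩ hΓ hd hN hreg in
theorem FieldData.exists_sigma (hab : a ≠ b) (h : Γ) (hha : h • a = a)
    (hh1 : h • D.Ev 1 = D.Ev 1) : ∃ σ : K ≃+* K, ∀ y, h • D.Ev y = D.Ev (σ y) := by
  obtain ⟨c, σ, hσ⟩ := D.exists_semilinear hx hxa hxu hΩ hΓ hd hN hreg hab h hha
  have hc : (c : K) = 1 := by
    have h1 := hσ 1
    rw [map_one, mul_one] at h1
    apply D.inj
    rw [h1]
    apply mem_eq hreg (hN.conj_mem _ (D.mem 1) h) (D.mem 1) a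
    rw [mul_smul, mul_smul, inv_smul_eq_iff.2 hha.symm]
    exact hh1
  refine ⟨σ, fun y => ?_⟩
  have h1 := hσ y
  rw [hc, one_mul] at h1
  show h • D.ε y • a = D.ε (σ y) • a
  rw [h1, mul_smul, mul_smul, inv_smul_eq_iff.2 hha.symm]

include hx hxa hxu hΩ hΓ hd hN hreg in
theorem FieldData.card_dvd (hab : a ≠ b) :
    Nat.card ↥(stabilizer Γ a ⊓ stabilizer Γ (D.Ev 1)) ∣ Nat.card (K ≃+* K) := by
  classical
  choose S hS using fun h : ↥(stabilizer Γ a ⊓ stabilizer Γ (D.Ev 1)) =>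
    D.exists_sigma hx hxa hxu hΩ hΓ hd hN hreg hab h h.2.1 h.2.2
  have hbij := D.Ev_bij hreg
  have hmul : ∀ h h', S (h * h') = S h * S h' := by
    intro h h'
    ext y
    apply hbij.1
    show D.Ev (S (h * h') y) = D.Ev (S h (S h' y))
    rw [← hS, ← hS, ← hS]
    exact mul_smul (h : Γ) (h' : Γ) _
  let f : ↥(stabilizer Γ a ⊓ stabilizer Γ (D.Ev 1)) →* (K ≃+* K) := MonoidHom.mk' S hmul
  apply Subgroup.card_dvd_of_injective f
  intro h h' hh
  have hh' : S h = S h' := hh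
  apply Subtype.ext
  apply eq_of_smul_eq_smul (α := Ω)
  intro c
  obtain ⟨y, rfl⟩ := hbij.2 c
  rw [hS, hS, hh']

end Affine

include hx hxa hxu hΩ hΓ hd hN hreg in
/-- The regular case. -/
theorem case_c (hab : a ≠ b) (hp2 : p ≠ 2) :
    ∃ q : ℕ, q.Prime ∧ p + 1 = 2 ^ q ∧ (d = 1 ∨ d = q) ∧ ∃ E : GaloisField 2 q ≃ Ω,
      ∀ g : Γ, ∃ (c : (GaloisField 2 q)ˣ) (σ : GaloisField 2 q ≃+* GaloisField 2 q)
        (b₀ : GaloisField 2 q), ∀ y, g • E y = E ((c : GaloisField 2 q) * σ y + b₀) := by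
  classical
  obtain ⟨q, hq, hpq⟩ := exists_q hx hxa hxu hΩ hN hreg hp2
  obtain ⟨K, _, _, D, hK⟩ := exists_fieldData (a := a) hx hxa hxu hΩ hN hreg hp2
  have hbij := D.Ev_bij hreg
  have hE0 : D.Ev 0 = a := by
    show D.ε 0 • a = a
    rw [D.eps_zero, one_smul]
  have hE1 : a ≠ D.Ev 1 := by
    intro h
    exact zero_ne_one (hbij.1 (hE0.trans h))
  have hcH := card_H hx hxa hxu hΩ hΓ hE1
  have hdvd := D.card_dvd hx hxa hxu hΩ hΓ hd hN hreg hab
  rw [hcH] at hdvd
  letI := Fintype.ofFinite K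
  haveI : Fact (Nat.Prime 2) := ⟨Nat.prime_two⟩
  have hcK : Fintype.card K = 2 ^ q := by
    rw [← Nat.card_eq_fintype_card, hK, hpq]
  rw [Cfsg.Agent.Lib.AutPSL.card_ringAut hcK hq.one_lt.le] at hdvd
  refine ⟨q, hq, hpq, (Nat.dvd_prime hq).1 hdvd, ?_⟩
  letI := Fintype.ofFinite (GaloisField 2 q)
  have hcG : Fintype.card (GaloisField 2 q) = 2 ^ q := by
    rw [← Nat.card_eq_fintype_card, GaloisField.card 2 q hq.ne_zero]
  let θ : K ≃+* GaloisField 2 q := FiniteField.ringEquivOfCardEq (by rw [hcK, hcG])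
  refine ⟨θ.symm.toEquiv.trans (Equiv.ofBijective D.Ev hbij), fun g => ?_⟩
  obtain ⟨c, σ, b₀, hg⟩ := D.smul_Ev hx hxa hxu hΩ hΓ hd hN hreg hab g
  refine ⟨Units.map (θ : K →* GaloisField 2 q) c, θ.symm.trans (σ.trans θ), θ b₀, fun y => ?_⟩
  show g • D.Ev (θ.symm y) = D.Ev (θ.symm _)
  rw [hg]
  congr 1
  simp

end Main

end Cfsg.Agent.Lib.PrimeDegR19
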