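import Cfsg.Agent.Lib.ProgChain

/-!
# Equations between words of two families of programs, and products of permutation groups
-/

set_option autoImplicit false
set_option linter.unusedSectionVars false
set_option linter.style.haveILetI false

namespace Cfsg.Agent.Lib.ProgCross

open Cfsg.Agent.Lib.TcBits Cfsg.Agent.Lib.PermChain Cfsg.Agent.Lib.ProgBits Cfsg.Agent.Lib.ProgChain

variable {n k : ℕ} {pr pr' : ℕ → List (ℕ × ℕ)} {R Y R' Y' : ℕ}

/-- an equation between words in two families of programs -/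
theorem prodW_cross (C : Ctx n k pr R Y) (C' : Ctx n k pr' R' Y') {w w' : List ℕ}
    (h : Nat.beq (xWord R pr Y w) (xWord R' pr' Y' w') = true) :
    prodW (lp pr n) w = prodW (lp pr' n) w' := by
  have h0 := Nat.eq_of_beq_eq_true h
  rw [C.hR, C.hY, C'.hR, C'.hY] at h0
  apply Equiv.ext
  intro i
  apply Fin.ext
  rw [C.prodW_apply, C'.prodW_apply]
  have hi : i.val < 2 ^ k := lt_of_lt_of_le i.isLt C.hn
  have hv := C.hv
  have hv' := C'.hv
  have h1 := wordPerm_lt (L := 2 ^ k) (pr := pr) (w := w) (fun e _ => hv e) hi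
  have h2 := wordPerm_lt (L := 2 ^ k) (pr := pr') (w := w') (fun e _ => hv' e) hi
  apply Nat.eq_of_testBit_eq
  intro j
  by_cases hj : j < k
  · have h3 := testBit_xWord (J := k) (L := 2 ^ k) (pr := pr) (w := w) (fun e _ => hv e) (yId k) hj hi
    have h4 := testBit_xWord (J := k) (L := 2 ^ k) (pr := pr') (w := w') (fun e _ => hv' e) (yId k) hj hi
    rw [h0, h4, testBit_yId hj h2, testBit_yId hj h1] at h3
    exact h3.symm
  · have hk : 2 ^ k ≤ 2 ^ j := Nat.pow_le_pow_right (by norm_num) (by omega)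
    rw [Nat.testBit_lt_two_pow (lt_of_lt_of_le h1 hk), Nat.testBit_lt_two_pow (lt_of_lt_of_le h2 hk)]

/-- the permutations of two disjoint segments -/
def iota (a b : ℕ) : Equiv.Perm (Fin a) × Equiv.Perm (Fin b) →* Equiv.Perm (Fin (a + b)) :=
  (finSumFinEquiv (m := a) (n := b)).permCongrHom.toMonoidHom.comp (Equiv.Perm.sumCongrHom (Fin a) (Fin b))

theorem iota_injective (a b : ℕ) : Function.Injective (iota a b) := by
  intro x y h
  apply Equiv.Perm.sumCongrHom_injective
  exact (finSumFinEquiv (m := a) (n := b)).permCongrHom.injective h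

theorem iota_castAdd {a b : ℕ} (p : Equiv.Perm (Fin a)) (q : Equiv.Perm (Fin b)) (y : Fin a) :
    iota a b (p, q) (Fin.castAdd b y) = Fin.castAdd b (p y) := by
  simp [iota, Equiv.permCongrHom, Equiv.permCongr_apply]

theorem iota_natAdd {a b : ℕ} (p : Equiv.Perm (Fin a)) (q : Equiv.Perm (Fin b)) (y : Fin b) :
    iota a b (p, q) (Fin.natAdd a y) = Fin.natAdd a (q y) := by
  simp [iota, Equiv.permCongrHom, Equiv.permCongr_apply]

theorem iota_low {a b : ℕ} (p : Equiv.Perm (Fin a)) (q : Equiv.Perm (Fin b)) (x : Fin (a + b))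
    (hx : x.val < a) : ((iota a b (p, q)) x).val = (p ⟨x.val, hx⟩).val := by
  have h := iota_castAdd p q ⟨x.val, hx⟩
  have e : Fin.castAdd b (⟨x.val, hx⟩ : Fin a) = x := Fin.ext rfl
  rw [e] at h
  rw [h]
  rfl

theorem iota_high {a b : ℕ} (p : Equiv.Perm (Fin a)) (q : Equiv.Perm (Fin b)) (x : Fin (a + b))
    (hx : a ≤ x.val) : ((iota a b (p, q)) x).val = a + (q ⟨x.val - a, by omega⟩).val := by
  have h := iota_natAdd p q ⟨x.val - a, by omega⟩
  have e : Fin.natAdd a (⟨x.val - a, by omega⟩ : Fin b) = x := Fin.ext (by simp; omega)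
  rw [e] at h
  rw [h]
  rfl

/-- a diagonal subgroup whose order is that of both projections gives an isomorphism between them -/
theorem equiv_of_diag {G1 G2 : Type*} [Group G1] [Group G2] (D : Subgroup (G1 × G2)) [Finite D]
    (A : Subgroup G1) (B : Subgroup G2)
    (hA : D.map (MonoidHom.fst G1 G2) = A) (hB : D.map (MonoidHom.snd G1 G2) = B)
    (hcA : Nat.card D = Nat.card A) (hcB : Nat.card D = Nat.card B) : Nonempty (A ≃* B) := by
  subst hA hB
  have k1 := ((MonoidHom.fst G1 G2).subgroupMap_surjective D).bijective_of_nat_card_le hcA.le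
  have k2 := ((MonoidHom.snd G1 G2).subgroupMap_surjective D).bijective_of_nat_card_le hcB.le
  exact ⟨((MulEquiv.ofBijective _ k1).symm).trans (MulEquiv.ofBijective _ k2)⟩

end Cfsg.Agent.Lib.ProgCross
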