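import Cfsg.Agent.Lib.ProgChain

/-!
# The simplicity criterion on one orbit

A group of permutations of `Fin n` acting faithfully and transitively on one orbit `O` (the first level of a chain).
-/

set_option autoImplicit false
set_option linter.unusedSectionVars false
set_option linter.style.haveILetI false

namespace Cfsg.Agent.Lib.ProgOrbit

open Cfsg.Agent.Lib.TcBits Cfsg.Agent.Lib.PermChain Cfsg.Agent.Lib.ChainCert
  Cfsg.Agent.Lib.ProgBits Cfsg.Agent.Lib.ProgChain Cfsg.Agent.Lib.PrimSimple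

variable {n k : ℕ} {pr : ℕ → List (ℕ × ℕ)} {R Y : ℕ}

/-- the sizes of invariant subsets of an orbit containing the base point -/
theorem block_on (H1 : Subgroup (Equiv.Perm (Fin n))) (b : Fin n) (r m : ℕ) (col sz : ℕ → ℕ)
    (O : Finset (Fin n))
    (hconn : ∀ p q : Fin n, col p.val = col q.val → ∃ h ∈ H1, h p = q)
    (hcol : ∀ p ∈ O, col p.val < r) (hb0 : col b.val = 0)
    (hsz : ∀ c, c < r → cntB (fun i => Nat.beq (col i) c) n = sz c)
    (hsums : ∀ S ∈ (Finset.range r).powerset, 0 ∈ S →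
      (∑ c ∈ S, sz c) ∣ m → (∑ c ∈ S, sz c) = 1 ∨ (∑ c ∈ S, sz c) = m)
    (B : Finset (Fin n)) (hBO : ∀ x ∈ B, x ∈ O) (hbB : b ∈ B) (hinv : ∀ h ∈ H1, ∀ x ∈ B, h x ∈ B)
    (hd : B.card ∣ m) : B.card = 1 ∨ B.card = m := by
  classical
  set S := B.image (fun p => col p.val) with hS
  have hSr : S ∈ (Finset.range r).powerset := by
    rw [Finset.mem_powerset]
    intro c hc
    obtain ⟨p, hp, rfl⟩ := Finset.mem_image.mp hc
    exact Finset.mem_range.mpr (hcol p (hBO p hp))
  have h0 : 0 ∈ S := Finset.mem_image.mpr ⟨b, hbB, hb0⟩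
  have hcard : B.card = ∑ c ∈ S, sz c := by
    rw [Finset.card_eq_sum_card_image (fun p : Fin n => col p.val) B]
    apply Finset.sum_congr rfl
    intro c hc
    rw [← hsz c (Finset.mem_range.mp (Finset.mem_powerset.mp hSr hc)), ← card_filter_eq_cntB]
    congr 1
    ext x
    simp only [Finset.mem_filter, Finset.mem_univ, true_and]
    constructor
    · rintro ⟨_, h2⟩
      rw [h2]
      exact Nat.beq_refl c
    · intro h2
      have h3 : col x.val = c := Nat.eq_of_beq_eq_true h2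
      refine ⟨?_, h3⟩
      obtain ⟨y, hy, hyc⟩ := Finset.mem_image.mp hc
      obtain ⟨h, hh, hhy⟩ := hconn y x (by rw [hyc, h3])
      rw [← hhy]
      exact hinv h hh y hy
  rw [hcard] at hd ⊢
  exact hsums S hSr h0 hd

/-- the orbit as a set with an action -/
def orbitS {H H1 : Subgroup (Equiv.Perm (Fin n))} {b : Fin n} {U : Fin n → Equiv.Perm (Fin n)}
    {O : Finset (Fin n)} (L : Level H H1 b U O) : SubMulAction H (Fin n) where
  carrier := (O : Set (Fin n))
  smul_mem' := by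
    rintro ⟨h, hh⟩ p hp
    have hp' : p ∈ O := hp
    have h1 := (L.cover (h * U p) (H.mul_mem hh (L.mem p hp'))).1
    have h2 : (h * U p) b = h p := by
      rw [Equiv.Perm.mul_apply, L.img p hp']
    rw [h2] at h1
    exact h1

/-- simplicity from the action on an orbit -/
theorem isSimple_of_level_orbit {H H1 : Subgroup (Equiv.Perm (Fin n))} {b : Fin n}
    {U : Fin n → Equiv.Perm (Fin n)} {O : Finset (Fin n)} (L : Level H H1 b U O) {m : ℕ}
    (hm : O.card = m)
    (hfaith : ∀ x ∈ H, (∀ q ∈ O, x q = q) → x = 1)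
    (hprim : ∀ B : Finset (Fin n), (∀ x ∈ B, x ∈ O) → b ∈ B → (∀ h ∈ H1, ∀ x ∈ B, h x ∈ B) →
      B.card ∣ m → B.card = 1 ∨ B.card = m)
    {p : ℕ} (hp : p.Prime) (hpn : ¬ p ∣ Nat.card H1)
    {a : Equiv.Perm (Fin n)} (ha : a ∈ H) (ha1 : a ≠ 1) (hap : a ^ p = 1)
    (S : Set (Equiv.Perm (Fin n))) (hH : H = Subgroup.closure S)
    (hS : ∀ x ∈ S, ∃ w ∈ H, x = w * a * w⁻¹) : IsSimpleGroup H := by
  classical
  set X := orbitS L with hX
  have hmemX : ∀ q : Fin n, q ∈ X ↔ q ∈ O := fun q => Iff.rfl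
  haveI : Fintype X := Fintype.ofFinite _
  have hcardX : Fintype.card X = m := by
    rw [← hm, ← Fintype.card_coe O]
    exact Fintype.card_congr (Equiv.refl _)
  haveI : FaithfulSMul H X := by
    refine ⟨?_⟩
    rintro ⟨x, hx⟩ ⟨y, hy⟩ h
    apply Subtype.ext
    show x = y
    have h1 := hfaith (y⁻¹ * x) (H.mul_mem (H.inv_mem hy) hx) (by
      intro q hq
      have h2 := congrArg Subtype.val (h ⟨q, hq⟩)
      have h3 : x q = y q := h2
      rw [Equiv.Perm.mul_apply, h3]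
      simp)
    have h2 : x = y * (y⁻¹ * x) := by group
    rw [h2, h1, mul_one]
  let bX : X := ⟨b, L.bO⟩
  haveI : MulAction.IsPretransitive H X := by
    have key : ∀ q : X, ∃ h : H, h • bX = q := fun q =>
      ⟨⟨U q.1, L.mem q.1 q.2⟩, Subtype.ext (L.img q.1 q.2)⟩
    refine ⟨fun x y => ?_⟩
    obtain ⟨h1, rfl⟩ := key x
    obtain ⟨h2, rfl⟩ := key y
    exact ⟨h2 * h1⁻¹, by simp [mul_smul]⟩
  have hst := L.stab
  have hstab : Nat.card (MulAction.stabilizer H bX) = Nat.card H1 := by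
    let f : MulAction.stabilizer H bX → H1 := fun x => ⟨x.1.1, by
      rw [hst]
      exact ⟨x.1.2, congrArg Subtype.val x.2⟩⟩
    have hf : Function.Bijective f := by
      constructor
      · rintro ⟨⟨x, hx⟩, hx'⟩ ⟨⟨y, hy⟩, hy'⟩ h
        have : x = y := congrArg Subtype.val h
        subst this
        rfl
      · rintro ⟨x, hx⟩
        have hx2 := hx
        rw [hst] at hx2
        exact ⟨⟨⟨x, hx2.1⟩, Subtype.ext hx2.2⟩, rfl⟩
    exact Nat.card_congr (Equiv.ofBijective f hf)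
  refine simple_of_block (X := X) (G := H) bX ?_ hp ?_ (a := ⟨a, ha⟩) ?_ ?_
    (normalClosure_eq_top_of_conj S hH ha hS)
  · intro B hb hinv hd
    rw [hcardX] at hd ⊢
    let B' : Finset (Fin n) := B.map (Function.Embedding.subtype _)
    have hc : B'.card = B.card := Finset.card_map _
    have hmem : ∀ x : Fin n, x ∈ B' ↔ ∃ hx : x ∈ X, (⟨x, hx⟩ : X) ∈ B := by
      intro x
      simp [B']
    rw [← hc]
    refine hprim B' ?_ ?_ ?_ (by rw [hc]; exact hd)
    · intro x hx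
      exact ((hmem x).mp hx).1
    · exact (hmem b).mpr ⟨L.bO, hb⟩
    · intro h hh x hx
      obtain ⟨hxX, hxB⟩ := (hmem x).mp hx
      have h1 : h ∈ H ⊓ MulAction.stabilizer (Equiv.Perm (Fin n)) b := by rw [← hst]; exact hh
      have h2 := hinv ⟨h, h1.1⟩ (by
        rw [MulAction.mem_stabilizer_iff]
        exact Subtype.ext h1.2) ⟨x, hxX⟩ hxB
      exact (hmem _).mpr ⟨_, h2⟩
  · rw [hstab]
    exact hpn
  · intro h
    exact ha1 (congrArg Subtype.val h)
  · apply Subtype.ext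
    simpa using hap

/-- simplicity of a group generated by two conjugate elements (the letters `0` and `1`), on an orbit -/
theorem simple_orbit_bundle (C : Ctx n k pr R Y) {lo1 ns1 r p b m : ℕ} {Om0 : ℕ} {tw0 : ℕ → List ℕ}
    (hb : b < n)
    (L0 : Level (grp (lp pr n) 0 2) (grp (lp pr n) lo1 ns1) ⟨b, hb⟩
      (fun p => prodW (lp pr n) (tw0 p.val)) (orbF n Om0))
    (hm : (orbF n Om0).card = m)
    (hfaith : ∀ x ∈ grp (lp pr n) 0 2, (∀ q ∈ orbF n Om0, x q = q) → x = 1)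
    (hL0 : ∀ e, 0 ≤ e → lp pr n e ∈ grp (lp pr n) 0 2)
    (hL1 : ∀ e, lo1 ≤ e → lp pr n e ∈ grp (lp pr n) lo1 ns1)
    {col rt par lt rk sz : ℕ → ℕ}
    (ht : ∀ p, p < n → treeChk pr n lo1 col rt par lt rk p = true)
    (hcol : ∀ p, p < n → cond (Nat.testBit Om0 p) (Nat.ble (Nat.succ (col p)) r) true = true)
    (hb0 : col b = 0)
    (hsz : ∀ c, c < r → cntB (fun i => Nat.beq (col i) c) n = sz c)
    (hsums : ∀ S ∈ (Finset.range r).powerset, 0 ∈ S →
      (∑ c ∈ S, sz c) ∣ m → (∑ c ∈ S, sz c) = 1 ∨ (∑ c ∈ S, sz c) = m)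
    (hp : p.Prime) (hpn : ¬ p ∣ Nat.card (grp (lp pr n) lo1 ns1))
    {W : List ℕ} (hconj : ProgBits.wChk R Y pr (W ++ [0]) (1 :: W) = true)
    (hap : ProgBits.wChk R Y pr (List.replicate p 0) [] = true)
    {u v : Fin n} (huv : ptChk pr [0] v.val u.val = true) (hne : v ≠ u) :
    IsSimpleGroup (grp (lp pr n) 0 2) := by
  have hg0 : lp pr n 0 ∈ grp (lp pr n) 0 2 := hL0 0 (le_refl _)
  have hWm : prodW (lp pr n) W ∈ grp (lp pr n) 0 2 := by
    apply Subgroup.list_prod_mem
    intro x hx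
    obtain ⟨e, _, rfl⟩ := List.mem_map.mp hx
    exact hL0 e (Nat.zero_le _)
  have hc := C.prodW_eq hconj
  rw [prodW_append, prodW_cons, prodW_cons, prodW_nil, mul_one] at hc
  have hp' := C.prodW_eq hap
  rw [prodW_replicate, prodW_nil] at hp'
  have huv' := C.prodW_pt (w := [0]) (b := u) huv
  simp only [prodW_cons, prodW_nil, mul_one] at huv'
  refine isSimple_of_level_orbit L0 hm hfaith ?_ hp hpn hg0 ?_ hp'
    {x | ∃ k ∈ List.range' 0 2, x = lp pr n k} rfl ?_
  · intro B hBO hbB hinv hd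
    refine block_on _ ⟨b, hb⟩ r m col sz (orbF n Om0) (connected_of_tree C hL1 ht) (fun q hq => ?_) hb0 hsz
      hsums B hBO hbB hinv hd
    have h1 := hcol q.val q.isLt
    have h2 : Nat.testBit Om0 q.val = true := mem_orbF.mp hq
    rw [h2, cond_true] at h1
    exact Nat.le_of_ble_eq_true h1
  · intro h
    rw [h] at huv'
    exact hne (Fin.ext huv'.symm)
  · rintro x ⟨e, he, rfl⟩
    obtain ⟨h1, h2⟩ := List.mem_range'_1.mp he
    have h3 : e = 0 ∨ e = 1 := by omega
    rcases h3 with rfl | rfl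
    · exact ⟨1, Subgroup.one_mem _, by simp⟩
    · refine ⟨prodW (lp pr n) W, hWm, ?_⟩
      rw [hc]
      simp

end Cfsg.Agent.Lib.ProgOrbit
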