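import Mathlib
import Cfsg.Agent.Lib.CommGraph

/-!
# Explicit computations in `SL₃(3)`

Matrices are coded by natural numbers (nine digits in base `3`).
-/

set_option autoImplicit false
set_option linter.style.haveILetI false

namespace Cfsg.Agent.Lib.Psl33Data

/-- The group `SL₃(3)`. -/
abbrev SL3 := Matrix.SpecialLinearGroup (Fin 3) (ZMod 3)

def d0 (c : ℕ) : ℕ := c % 3
def d1 (c : ℕ) : ℕ := c / 3 % 3
def d2 (c : ℕ) : ℕ := c / 9 % 3
def d3 (c : ℕ) : ℕ := c / 27 % 3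
def d4 (c : ℕ) : ℕ := c / 81 % 3
def d5 (c : ℕ) : ℕ := c / 243 % 3
def d6 (c : ℕ) : ℕ := c / 729 % 3
def d7 (c : ℕ) : ℕ := c / 2187 % 3
def d8 (c : ℕ) : ℕ := c / 6561 % 3

/-- Coding nine digits. -/
def enc9 (a0 a1 a2 a3 a4 a5 a6 a7 a8 : ℕ) : ℕ :=
  a0 % 3 + 3 * (a1 % 3) + 9 * (a2 % 3) + 27 * (a3 % 3) + 81 * (a4 % 3) + 243 * (a5 % 3) +
    729 * (a6 % 3) + 2187 * (a7 % 3) + 6561 * (a8 % 3)

/-- Product of coded matrices. -/
def mulN (a b : ℕ) : ℕ :=
  enc9
    (d0 a * d0 b + d1 a * d3 b + d2 a * d6 b) (d0 a * d1 b + d1 a * d4 b + d2 a * d7 b)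
    (d0 a * d2 b + d1 a * d5 b + d2 a * d8 b)
    (d3 a * d0 b + d4 a * d3 b + d5 a * d6 b) (d3 a * d1 b + d4 a * d4 b + d5 a * d7 b)
    (d3 a * d2 b + d4 a * d5 b + d5 a * d8 b)
    (d6 a * d0 b + d7 a * d3 b + d8 a * d6 b) (d6 a * d1 b + d7 a * d4 b + d8 a * d7 b)
    (d6 a * d2 b + d7 a * d5 b + d8 a * d8 b)

/-- The adjugate of a coded matrix. -/
def invN (m : ℕ) : ℕ :=
  enc9
    (d4 m * d8 m + 2 * (d5 m * d7 m)) (d2 m * d7 m + 2 * (d1 m * d8 m)) (d1 m * d5 m + 2 * (d2 m * d4 m))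
    (d5 m * d6 m + 2 * (d3 m * d8 m)) (d0 m * d8 m + 2 * (d2 m * d6 m)) (d2 m * d3 m + 2 * (d0 m * d5 m))
    (d3 m * d7 m + 2 * (d4 m * d6 m)) (d1 m * d6 m + 2 * (d0 m * d7 m)) (d0 m * d4 m + 2 * (d1 m * d3 m))

/-- The determinant of a coded matrix. -/
def detN (m : ℕ) : ℕ :=
  (d0 m * d4 m * d8 m + 2 * (d0 m * d5 m * d7 m) + 2 * (d1 m * d3 m * d8 m) + d1 m * d5 m * d6 m +
    d2 m * d3 m * d7 m + 2 * (d2 m * d4 m * d6 m)) % 3

/-- The codes of the elements of `SL₃(3)`. -/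
def allS : List ℕ := (List.range 19683).filter (fun c => detN c == 1)

/-- Decoding. -/
def dec (c : ℕ) : Matrix (Fin 3) (Fin 3) (ZMod 3) :=
  !![(d0 c : ZMod 3), (d1 c : ZMod 3), (d2 c : ZMod 3);
     (d3 c : ZMod 3), (d4 c : ZMod 3), (d5 c : ZMod 3);
     (d6 c : ZMod 3), (d7 c : ZMod 3), (d8 c : ZMod 3)]

def one : ℕ := 6643
def t0 : ℕ := 6652
def t02 : ℕ := 6661
def dd : ℕ := 6725
def u1 : ℕ := 6646
def u2 : ℕ := 6886
def Ul : List ℕ := [6643, 6886, 7129, 6652, 6895, 7138, 6661, 6904, 7147, 6646, 6889, 7132, 6655, 6898, 7141, 6664, 6907, 7150, 6649, 6892, 7135, 6658, 6901, 7144, 6667, 6910, 7153]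
def tvL : List ℕ := [8830, 11017, 7372, 8101, 9559, 12475, 11746, 10288, 6886, 7129, 6670, 6697, 6913, 7183, 7156, 6940, 2836, 17740, 7399, 8155, 3592, 19252, 18496, 4348, 4780, 15796, 8128, 7426, 6265, 16579, 17281, 5563, 6652, 6661, 6646, 6649, 6655, 6667, 6664, 6658, 8833, 11023, 830, 14670, 3020, 19050, 5210, 16860, 11020, 8836, 1550, 13950, 5927, 16143, 3743, 18327, 6895, 7147, 6596, 6780, 6848, 7284, 7100, 7032, 2857, 17755, 1343, 14967, 16484, 6396, 11699, 10425, 4792, 15820, 1820, 14490, 19652, 3228, 10241, 11883, 7138, 6904, 6620, 6756, 7115, 7017, 6881, 7251, 15808, 4804, 1127, 15183, 9536, 12588, 18944, 3936, 17761, 2851, 2090, 14220, 12452, 9672, 17252, 5628]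
def cenL : List ℕ := [0, 0, 0, 0, 0, 0, 0, 0, 1, 1, 1, 1, 1, 1, 1, 1, 2, 2, 2, 2, 2, 2, 2, 2, 3, 3, 3, 3, 3, 3, 3, 3, 4, 4, 4, 4, 4, 4, 4, 4, 5, 5, 5, 5, 5, 5, 5, 5, 6, 6, 6, 6, 6, 6, 6, 6, 7, 7, 7, 7, 7, 7, 7, 7, 8, 8, 8, 8, 8, 8, 8, 8, 9, 9, 9, 9, 9, 9, 9, 9, 10, 10, 10, 10, 10, 10, 10, 10, 11, 11, 11, 11, 11, 11, 11, 11, 12, 12, 12, 12, 12, 12, 12, 12]
def axL : List ℕ := [1, 1, 4, 4, 7, 7, 10, 10, 0, 0, 4, 4, 5, 5, 6, 6, 3, 3, 4, 4, 9, 9, 11, 11, 2, 2, 4, 4, 8, 8, 12, 12, 0, 0, 1, 1, 2, 2, 3, 3, 1, 1, 6, 6, 9, 9, 12, 12, 1, 1, 5, 5, 8, 8, 11, 11, 0, 0, 10, 10, 11, 11, 12, 12, 3, 3, 6, 6, 8, 8, 10, 10, 2, 2, 5, 5, 9, 9, 10, 10, 0, 0, 7, 7, 8, 8, 9, 9, 2, 2, 6, 6, 7, 7, 11, 11, 3, 3, 5, 5, 7, 7, 12, 12]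
def witL : List ℕ := [975, 1221, 900, 828, 903, 834, 906, 831, 6594, 6618, 2223, 4419, 2229, 4422, 2226, 4425, 1002, 1248, 927, 855, 930, 861, 933, 858, 1275, 1029, 882, 954, 888, 957, 885, 960, 6643, 6725, 4618, 2432, 4699, 2594, 4780, 2513, 976, 1222, 901, 829, 904, 835, 907, 832, 1223, 977, 830, 902, 836, 905, 833, 908, 6595, 6620, 2224, 4420, 2230, 4423, 2227, 4426, 1003, 1249, 928, 856, 931, 862, 934, 859, 1277, 1031, 884, 956, 890, 959, 887, 962, 6619, 6596, 4421, 2225, 4424, 2231, 4427, 2228, 1030, 1276, 955, 883, 958, 889, 961, 886, 1250, 1004, 857, 929, 863, 932, 860, 935]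
def parL : List ℕ := [0, 2, 0, 0, 0, 0, 0, 0, 10, 10, 2, 2, 10, 10, 10, 10, 18, 18, 2, 2, 18, 18, 18, 18, 26, 26, 2, 2, 26, 26, 26, 26, 34, 34, 0, 0, 34, 34, 34, 34, 0, 0, 40, 40, 40, 40, 40, 40, 0, 0, 48, 48, 48, 48, 48, 48, 58, 58, 6, 6, 58, 58, 58, 58, 70, 70, 70, 70, 70, 70, 6, 6, 78, 78, 78, 78, 78, 78, 6, 6, 82, 82, 4, 4, 82, 82, 82, 82, 92, 92, 92, 92, 4, 4, 92, 92, 100, 100, 100, 100, 4, 4, 100, 100]
def depL : List ℕ := [0, 2, 1, 1, 1, 1, 1, 1, 3, 3, 2, 2, 3, 3, 3, 3, 3, 3, 2, 2, 3, 3, 3, 3, 3, 3, 2, 2, 3, 3, 3, 3, 2, 2, 1, 1, 2, 2, 2, 2, 1, 1, 2, 2, 2, 2, 2, 2, 1, 1, 2, 2, 2, 2, 2, 2, 3, 3, 2, 2, 3, 3, 3, 3, 3, 3, 3, 3, 3, 3, 2, 2, 3, 3, 3, 3, 3, 3, 2, 2, 3, 3, 2, 2, 3, 3, 3, 3, 3, 3, 3, 3, 2, 2, 3, 3, 3, 3, 3, 3, 2, 2, 3, 3]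
def secCL : List ℕ := [0, 8, 16, 24, 32, 40, 48, 56, 64, 72, 80, 88, 96]
def secAL : List ℕ := [8, 0, 24, 16, 2, 12, 14, 4, 28, 20, 6, 22, 30]

/-- Conjugation of coded matrices. -/
def conjN (h t : ℕ) : ℕ := mulN (mulN h t) (invN h)

def pow13 (c : ℕ) : ℕ :=
  let c2 := mulN c c
  let c4 := mulN c2 c2
  let c8 := mulN c4 c4
  mulN (mulN c8 c4) c

def pow24 (c : ℕ) : ℕ :=
  let c3 := mulN (mulN c c) c
  let c6 := mulN c3 c3
  let c12 := mulN c6 c6
  mulN c12 c12


/-! ### Kernel computations -/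

theorem len_allS : allS.length = 5616 := by decide +kernel

theorem card_C_t0 : (allS.filter (fun c => mulN c t0 == mulN t0 c)).length = 54 := by decide +kernel

theorem C_U : allS.all (fun c => !(mulN c u1 == mulN u1 c && mulN c u2 == mulN u2 c) ||
    (c == one || c == t0 || c == t02)) = true := by decide +kernel

theorem conj_t0 : allS.all (fun c => tvL.contains (conjN c t0)) = true := by decide +kernel

theorem order_split : allS.all (fun c => pow13 c == one || pow24 c == one) = true := by decide +kernel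

theorem count13 : (allS.filter (fun c => pow13 c == one)).length = 1729 := by decide +kernel

theorem wit_ok : ∀ i : Fin 104, witL.getD i 0 ∈ allS ∧ conjN (witL.getD i 0) t0 = tvL.getD i 0 := by decide +kernel

theorem tv_inj : ∀ i j : Fin 104, tvL.getD i 0 = tvL.getD j 0 → i = j := by decide +kernel

theorem tv_len : tvL.length = 104 := by decide +kernel

theorem Ul_closed : Ul.all (fun a => Ul.all (fun b => Ul.contains (mulN a b))) = true := by decide +kernel

theorem Ul_cube : Ul.all (fun a => mulN a (mulN a a) == one) = true := by decide +kernel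

theorem Ul_sub : Ul.all (fun a => allS.contains a) = true := by decide +kernel

theorem Ul_nodup : Ul.Nodup := by decide +kernel

theorem Ul_len : Ul.length = 27 := by decide +kernel

theorem one_mem_Ul : one ∈ Ul := by decide +kernel
theorem u1_mem_Ul : u1 ∈ Ul := by decide +kernel
theorem u2_mem_Ul : u2 ∈ Ul := by decide +kernel
theorem one_mem_allS : one ∈ allS := by decide +kernel
theorem t0_mem_allS : t0 ∈ allS := by decide +kernel
theorem dd_mem_allS : dd ∈ allS := by decide +kernel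
theorem conj_dd : conjN dd t0 = t02 := by decide +kernel
theorem t0_ne_one : t0 ≠ one := by decide +kernel

/-- The centre of a transvection. -/
def cen (i : Fin 104) : Fin 13 := Fin.ofNat 13 (cenL.getD i 0)
/-- The axis of a transvection. -/
def ax (i : Fin 104) : Fin 13 := Fin.ofNat 13 (axL.getD i 0)

theorem comm_table : ∀ i j : Fin 104, mulN (tvL.getD i 0) (tvL.getD j 0) = mulN (tvL.getD j 0) (tvL.getD i 0) ↔
    (cen i = cen j ∨ ax i = ax j) := by decide +kernel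

/-! ### Decoding -/

theorem d0_lt (c : ℕ) : d0 c < 3 := Nat.mod_lt _ (by norm_num)
theorem d1_lt (c : ℕ) : d1 c < 3 := Nat.mod_lt _ (by norm_num)
theorem d2_lt (c : ℕ) : d2 c < 3 := Nat.mod_lt _ (by norm_num)
theorem d3_lt (c : ℕ) : d3 c < 3 := Nat.mod_lt _ (by norm_num)
theorem d4_lt (c : ℕ) : d4 c < 3 := Nat.mod_lt _ (by norm_num)
theorem d5_lt (c : ℕ) : d5 c < 3 := Nat.mod_lt _ (by norm_num)
theorem d6_lt (c : ℕ) : d6 c < 3 := Nat.mod_lt _ (by norm_num)
theorem d7_lt (c : ℕ) : d7 c < 3 := Nat.mod_lt _ (by norm_num)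
theorem d8_lt (c : ℕ) : d8 c < 3 := Nat.mod_lt _ (by norm_num)

theorem enc9_lt (a0 a1 a2 a3 a4 a5 a6 a7 a8 : ℕ) : enc9 a0 a1 a2 a3 a4 a5 a6 a7 a8 < 19683 := by
  unfold enc9; omega

theorem dec_enc9 (a0 a1 a2 a3 a4 a5 a6 a7 a8 : ℕ) :
    dec (enc9 a0 a1 a2 a3 a4 a5 a6 a7 a8) =
      !![(a0 : ZMod 3), (a1 : ZMod 3), (a2 : ZMod 3);
         (a3 : ZMod 3), (a4 : ZMod 3), (a5 : ZMod 3);
         (a6 : ZMod 3), (a7 : ZMod 3), (a8 : ZMod 3)] := by
  have h0 : d0 (enc9 a0 a1 a2 a3 a4 a5 a6 a7 a8) = a0 % 3 := by unfold d0 enc9; omega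
  have h1 : d1 (enc9 a0 a1 a2 a3 a4 a5 a6 a7 a8) = a1 % 3 := by unfold d1 enc9; omega
  have h2 : d2 (enc9 a0 a1 a2 a3 a4 a5 a6 a7 a8) = a2 % 3 := by unfold d2 enc9; omega
  have h3 : d3 (enc9 a0 a1 a2 a3 a4 a5 a6 a7 a8) = a3 % 3 := by unfold d3 enc9; omega
  have h4 : d4 (enc9 a0 a1 a2 a3 a4 a5 a6 a7 a8) = a4 % 3 := by unfold d4 enc9; omega
  have h5 : d5 (enc9 a0 a1 a2 a3 a4 a5 a6 a7 a8) = a5 % 3 := by unfold d5 enc9; omega
  have h6 : d6 (enc9 a0 a1 a2 a3 a4 a5 a6 a7 a8) = a6 % 3 := by unfold d6 enc9; omega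
  have h7 : d7 (enc9 a0 a1 a2 a3 a4 a5 a6 a7 a8) = a7 % 3 := by unfold d7 enc9; omega
  have h8 : d8 (enc9 a0 a1 a2 a3 a4 a5 a6 a7 a8) = a8 % 3 := by unfold d8 enc9; omega
  unfold dec
  rw [h0, h1, h2, h3, h4, h5, h6, h7, h8]
  simp only [ZMod.natCast_mod]

theorem dec_mulN (a b : ℕ) : dec (mulN a b) = dec a * dec b := by
  unfold mulN
  rw [dec_enc9]
  ext i j
  fin_cases i <;> fin_cases j <;> simp [dec, Matrix.mul_apply, Fin.sum_univ_three]

theorem two_eq_neg : (2 : ZMod 3) = -1 := by decide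

theorem dec_invN (m : ℕ) : dec (invN m) = (dec m).adjugate := by
  unfold invN
  rw [dec_enc9, Matrix.adjugate_fin_three]
  ext i j
  fin_cases i <;> fin_cases j <;> simp [dec, two_eq_neg] <;> ring

theorem detN_cast (m : ℕ) : ((detN m : ℕ) : ZMod 3) = (dec m).det := by
  unfold detN
  rw [ZMod.natCast_mod, Matrix.det_fin_three]
  simp [dec, two_eq_neg]
  ring

/-- Coding of a matrix. -/
def toCode (M : Matrix (Fin 3) (Fin 3) (ZMod 3)) : ℕ :=
  enc9 (M 0 0).val (M 0 1).val (M 0 2).val (M 1 0).val (M 1 1).val (M 1 2).val (M 2 0).val (M 2 1).val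
    (M 2 2).val

theorem toCode_dec {c : ℕ} (hc : c < 19683) : toCode (dec c) = c := by
  have e : ∀ x : ℕ, ((x : ZMod 3)).val = x % 3 := fun x => ZMod.val_natCast 3 x
  have e00 : (dec c 0 0).val = d0 c % 3 := e _
  have e01 : (dec c 0 1).val = d1 c % 3 := e _
  have e02 : (dec c 0 2).val = d2 c % 3 := e _
  have e10 : (dec c 1 0).val = d3 c % 3 := e _
  have e11 : (dec c 1 1).val = d4 c % 3 := e _
  have e12 : (dec c 1 2).val = d5 c % 3 := e _
  have e20 : (dec c 2 0).val = d6 c % 3 := e _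
  have e21 : (dec c 2 1).val = d7 c % 3 := e _
  have e22 : (dec c 2 2).val = d8 c % 3 := e _
  unfold toCode
  rw [e00, e01, e02, e10, e11, e12, e20, e21, e22]
  unfold enc9 d0 d1 d2 d3 d4 d5 d6 d7 d8
  simp only [Nat.mod_mod]
  have h0 : c = c % 3 + 3 * (c / 3) := by omega
  have h1 : c / 3 = c / 3 % 3 + 3 * (c / 9) := by omega
  have h2 : c / 9 = c / 9 % 3 + 3 * (c / 27) := by omega
  have h3 : c / 27 = c / 27 % 3 + 3 * (c / 81) := by omega
  have h4 : c / 81 = c / 81 % 3 + 3 * (c / 243) := by omega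
  have h5 : c / 243 = c / 243 % 3 + 3 * (c / 729) := by omega
  have h6 : c / 729 = c / 729 % 3 + 3 * (c / 2187) := by omega
  have h7 : c / 2187 = c / 2187 % 3 + 3 * (c / 6561) := by omega
  have h8 : c / 6561 = c / 6561 % 3 := by omega
  linarith

theorem dec_toCode (M : Matrix (Fin 3) (Fin 3) (ZMod 3)) : dec (toCode M) = M := by
  unfold toCode
  rw [dec_enc9]
  ext i j
  fin_cases i <;> fin_cases j <;> simp

theorem toCode_lt (M : Matrix (Fin 3) (Fin 3) (ZMod 3)) : toCode M < 19683 := enc9_lt _ _ _ _ _ _ _ _ _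

theorem mulN_lt (a b : ℕ) : mulN a b < 19683 := enc9_lt _ _ _ _ _ _ _ _ _

theorem invN_lt (a : ℕ) : invN a < 19683 := enc9_lt _ _ _ _ _ _ _ _ _

theorem dec_inj {a b : ℕ} (ha : a < 19683) (hb : b < 19683) (h : dec a = dec b) : a = b := by
  rw [← toCode_dec ha, ← toCode_dec hb, h]

theorem detN_lt (m : ℕ) : detN m < 3 := Nat.mod_lt _ (by norm_num)

theorem mem_allS {c : ℕ} : c ∈ allS ↔ c < 19683 ∧ detN c = 1 := by
  unfold allS
  simp

/-- The code of an element. -/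
def enc (g : SL3) : ℕ := toCode g.1

theorem dec_enc (g : SL3) : dec (enc g) = g.1 := dec_toCode _

theorem enc_lt (g : SL3) : enc g < 19683 := toCode_lt _

theorem enc_mem (g : SL3) : enc g ∈ allS := by
  rw [mem_allS]
  refine ⟨enc_lt g, ?_⟩
  have h1 : ((detN (enc g) : ℕ) : ZMod 3) = 1 := by
    rw [detN_cast, dec_enc]; exact g.2
  have h2 := congrArg ZMod.val h1
  rw [ZMod.val_natCast, Nat.mod_eq_of_lt (detN_lt _)] at h2
  exact h2

theorem enc_injective : Function.Injective enc := fun a b h => by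
  apply Subtype.ext
  rw [← dec_enc a, ← dec_enc b, h]

theorem enc_mul (a b : SL3) : enc (a * b) = mulN (enc a) (enc b) := by
  apply dec_inj (enc_lt _) (mulN_lt _ _)
  rw [dec_enc, dec_mulN, dec_enc, dec_enc]
  rfl

theorem enc_inv (a : SL3) : enc a⁻¹ = invN (enc a) := by
  apply dec_inj (enc_lt _) (invN_lt _)
  rw [dec_enc, dec_invN, dec_enc, Matrix.SpecialLinearGroup.coe_inv]

/-- The element with a given code. -/
def ofCode (c : ℕ) (h : c ∈ allS) : SL3 :=
  ⟨dec c, by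
    have h2 := (mem_allS.1 h).2
    rw [← detN_cast, h2]
    simp⟩

theorem enc_ofCode (c : ℕ) (h : c ∈ allS) : enc (ofCode c h) = c := toCode_dec (mem_allS.1 h).1

/-- The bijection between the group and the list. -/
def encEquiv : SL3 ≃ {c : ℕ // c ∈ allS} where
  toFun g := ⟨enc g, enc_mem g⟩
  invFun c := ofCode c.1 c.2
  left_inv g := enc_injective (enc_ofCode _ _)
  right_inv c := Subtype.ext (enc_ofCode _ _)

theorem nodup_allS : allS.Nodup := by
  unfold allS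
  exact List.nodup_range.filter _

theorem card_mem_of_nodup {L : List ℕ} (h : L.Nodup) : Nat.card {c : ℕ // c ∈ L} = L.length := by
  classical
  rw [← List.toFinset_card_of_nodup h, Nat.card_eq_fintype_card, ← Fintype.card_coe]
  exact Fintype.card_congr (Equiv.subtypeEquivRight (by simp))

/-- Counting with the codes. -/
theorem card_filter (p : ℕ → Bool) :
    Nat.card {g : SL3 // p (enc g) = true} = (allS.filter p).length := by
  rw [← card_mem_of_nodup (nodup_allS.filter p)]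
  refine Nat.card_congr ⟨fun g => ⟨enc g.1, List.mem_filter.2 ⟨enc_mem _, g.2⟩⟩,
    fun c => ⟨ofCode c.1 (List.mem_filter.1 c.2).1, by
      rw [enc_ofCode]; exact (List.mem_filter.1 c.2).2⟩, ?_, ?_⟩
  · intro g
    apply Subtype.ext
    apply enc_injective
    exact enc_ofCode _ (enc_mem _)
  · intro c
    apply Subtype.ext
    exact enc_ofCode _ (List.mem_filter.1 c.2).1

theorem card_SL3 : Nat.card SL3 = 5616 := by
  rw [Nat.card_congr encEquiv, card_mem_of_nodup nodup_allS, len_allS]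

/-- The code of the identity. -/
theorem enc_one : enc 1 = one := by
  have : enc (ofCode one one_mem_allS) = one := enc_ofCode _ _
  have h2 : dec one = 1 := by
    ext i j
    fin_cases i <;> fin_cases j <;> decide
  rw [← this]
  unfold enc ofCode
  simp only
  rw [h2]
  rfl

theorem enc_eq_one {g : SL3} : enc g = one ↔ g = 1 := by
  rw [← enc_one]
  exact enc_injective.eq_iff

/-! ### The group -/

open Subgroup Cfsg.Agent.Lib.SmallGroups2

theorem mulN_comm_iff (a b : SL3) : a * b = b * a ↔ mulN (enc a) (enc b) = mulN (enc b) (enc a) := by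
  rw [← enc_mul, ← enc_mul]
  exact enc_injective.eq_iff.symm

/-- The basic transvection. -/
def t0S : SL3 := ofCode t0 t0_mem_allS

theorem enc_t0S : enc t0S = t0 := enc_ofCode _ _

theorem t0S_ne_one : t0S ≠ 1 := by
  intro h
  apply t0_ne_one
  rw [← enc_t0S, h, enc_one]

def ddS : SL3 := ofCode dd dd_mem_allS

theorem enc_ddS : enc ddS = dd := enc_ofCode _ _

theorem ddS_conj : ddS * t0S * ddS⁻¹ = t0S * t0S := by
  apply enc_injective
  rw [enc_mul, enc_mul, enc_mul, enc_inv, enc_ddS, enc_t0S]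
  exact conj_dd.trans (by decide +kernel)

theorem card_C_t0S : Nat.card (centralizer ({t0S} : Set SL3)) = 54 := by
  rw [← card_C_t0, ← card_filter]
  refine Nat.card_congr (Equiv.subtypeEquivRight fun g => ?_)
  rw [mem_centralizer_singleton_iff, mulN_comm_iff, enc_t0S, beq_iff_eq]

/-- The upper unitriangular subgroup. -/
def U : Subgroup SL3 where
  carrier := {g | enc g ∈ Ul}
  mul_mem' := fun {a b} ha hb => by
    show enc (a * b) ∈ Ul
    rw [enc_mul]
    have h1 := List.all_eq_true.1 Ul_closed _ ha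
    have h2 := List.all_eq_true.1 h1 _ hb
    simpa using h2
  one_mem' := by
    show enc 1 ∈ Ul
    rw [enc_one]
    exact one_mem_Ul
  inv_mem' := fun {a} ha => by
    have h : a * (a * a) = 1 := enc_eq_one.1 (by
      rw [enc_mul, enc_mul]
      exact beq_iff_eq.1 (List.all_eq_true.1 Ul_cube _ ha))
    have h2 : a⁻¹ = a * a := by
      rw [inv_eq_iff_mul_eq_one]
      rw [← mul_assoc, mul_assoc] at h
      simpa [mul_assoc] using h
    show enc a⁻¹ ∈ Ul
    rw [h2, enc_mul]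
    have h1 := List.all_eq_true.1 Ul_closed _ ha
    have h3 := List.all_eq_true.1 h1 _ ha
    simpa using h3

theorem Ul_mem_allS {c : ℕ} (h : c ∈ Ul) : c ∈ allS := by
  have := List.all_eq_true.1 Ul_sub _ h
  simpa using this

theorem card_U : Nat.card U = 27 := by
  rw [← Ul_len, ← card_mem_of_nodup Ul_nodup]
  refine Nat.card_congr ⟨fun g => ⟨enc g.1, g.2⟩, fun c => ⟨ofCode c.1 (Ul_mem_allS c.2), by
      show enc _ ∈ Ul
      rw [enc_ofCode]; exact c.2⟩, ?_, ?_⟩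
  · intro g
    apply Subtype.ext
    apply enc_injective
    exact enc_ofCode _ (enc_mem _)
  · intro c
    apply Subtype.ext
    exact enc_ofCode _ (Ul_mem_allS c.2)

def u1S : SL3 := ofCode u1 (by
  have := List.all_eq_true.1 Ul_sub _ u1_mem_Ul
  simpa using this)
def u2S : SL3 := ofCode u2 (by
  have := List.all_eq_true.1 Ul_sub _ u2_mem_Ul
  simpa using this)

theorem enc_u1S : enc u1S = u1 := enc_ofCode _ _
theorem enc_u2S : enc u2S = u2 := enc_ofCode _ _

theorem u1S_mem : u1S ∈ U := by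
  show enc u1S ∈ Ul
  rw [enc_u1S]; exact u1_mem_Ul

theorem u2S_mem : u2S ∈ U := by
  show enc u2S ∈ Ul
  rw [enc_u2S]; exact u2_mem_Ul

theorem C_U_elts (w : SL3) (h1 : w * u1S = u1S * w) (h2 : w * u2S = u2S * w) :
    w = 1 ∨ w = t0S ∨ w = t0S * t0S := by
  have h3 := List.all_eq_true.1 C_U _ (enc_mem w)
  rw [mulN_comm_iff, enc_u1S] at h1
  rw [mulN_comm_iff, enc_u2S] at h2
  simp only [h1, h2, beq_self_eq_true, Bool.and_self, Bool.not_true, Bool.false_or, Bool.or_eq_true,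
    beq_iff_eq] at h3
  rcases h3 with (h | h) | h
  · exact Or.inl (enc_eq_one.1 h)
  · refine Or.inr (Or.inl (enc_injective ?_))
    rw [h, enc_t0S]
  · refine Or.inr (Or.inr (enc_injective ?_))
    rw [h, enc_mul, enc_t0S]
    decide +kernel

theorem exists_conj_t0 (g : SL3) (hg : g ≠ 1) (h27 : 27 ∣ Nat.card (centralizer ({g} : Set SL3))) :
    ∃ h : SL3, g = h * t0S * h⁻¹ := by
  haveI : Fact (Nat.Prime 3) := ⟨by norm_num⟩
  have hsyl : ∀ P : Sylow 3 SL3, Nat.card P = 27 := fun P => by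
    have := sylow_card_of_card_eq (p := 3) (a := 3) (m := 208) (by rw [card_SL3]; norm_num) (by norm_num) P
    simpa using this
  obtain ⟨K, hK⟩ := Sylow.exists_subgroup_card_pow_prime (G := centralizer ({g} : Set SL3)) 3 (n := 3)
    (by norm_num; exact h27)
  have hQc : Nat.card (K.map (centralizer ({g} : Set SL3)).subtype) = 27 := by
    rw [Subgroup.card_map_of_injective (Subgroup.subtype_injective _), hK]; norm_num
  have hQg : ∀ y ∈ K.map (centralizer ({g} : Set SL3)).subtype, y * g = g * y := by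
    rintro y ⟨z, -, rfl⟩
    exact mem_centralizer_singleton_iff.1 z.2
  have hle : ∀ Q : Subgroup SL3, Nat.card Q = 27 → ∃ P : Sylow 3 SL3, Q = (P : Subgroup SL3) := by
    intro Q hQ
    have hp : IsPGroup 3 Q := by
      rw [IsPGroup.iff_card]
      exact ⟨3, by rw [hQ]; norm_num⟩
    obtain ⟨P, hP⟩ := hp.exists_le_sylow
    exact ⟨P, Subgroup.eq_of_le_of_card_ge hP (by rw [hsyl, hQ])⟩
  obtain ⟨P, hP⟩ := hle _ hQc
  obtain ⟨P0, hP0⟩ := hle U card_U
  obtain ⟨h, hh⟩ := MulAction.exists_smul_eq SL3 P0 P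
  have key : ∀ u ∈ U, u * (h⁻¹ * g * h) = (h⁻¹ * g * h) * u := by
    intro u hu
    have h1 : u ∈ (P0 : Subgroup SL3) := by rw [← hP0]; exact hu
    have h2 : h * u * h⁻¹ ∈ (P : Subgroup SL3) := by
      rw [← hh, mem_smul_sylow_iff]
      simpa [mul_assoc] using h1
    rw [← hP] at h2
    have h3 := hQg _ h2
    calc u * (h⁻¹ * g * h) = h⁻¹ * ((h * u * h⁻¹) * g) * h := by group
      _ = h⁻¹ * (g * (h * u * h⁻¹)) * h := by rw [h3]
      _ = (h⁻¹ * g * h) * u := by group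
  rcases C_U_elts (h⁻¹ * g * h) (key _ u1S_mem).symm (key _ u2S_mem).symm with h1 | h1 | h1
  · exfalso
    apply hg
    have : g = h * (h⁻¹ * g * h) * h⁻¹ := by group
    rw [this, h1]
    group
  · refine ⟨h, ?_⟩
    rw [← h1]
    group
  · refine ⟨h * ddS, ?_⟩
    have h2 : (h * ddS) * t0S * (h * ddS)⁻¹ = h * (ddS * t0S * ddS⁻¹) * h⁻¹ := by group
    rw [h2, ddS_conj, ← h1]
    group

theorem card_centralizer_conj {G : Type*} [Group G] (h x : G) :
    Nat.card (centralizer ({h * x * h⁻¹} : Set G)) = Nat.card (centralizer ({x} : Set G)) := by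
  symm
  refine Nat.card_congr ((MulAut.conj h).toEquiv.subtypeEquiv fun y => ?_)
  rw [mem_centralizer_singleton_iff, mem_centralizer_singleton_iff]
  show _ ↔ (MulAut.conj h) y * _ = _ * (MulAut.conj h) y
  rw [MulAut.conj_apply]
  constructor
  · intro e
    calc h * y * h⁻¹ * (h * x * h⁻¹) = h * (y * x) * h⁻¹ := by group
      _ = h * (x * y) * h⁻¹ := by rw [e]
      _ = _ := by group
  · intro e
    have : h * (y * x) * h⁻¹ = h * (x * y) * h⁻¹ := by
      calc h * (y * x) * h⁻¹ = h * y * h⁻¹ * (h * x * h⁻¹) := by group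
        _ = h * x * h⁻¹ * (h * y * h⁻¹) := e
        _ = _ := by group
    simpa using this

theorem card_C_of_27 (g : SL3) (hg : g ≠ 1) (h27 : 27 ∣ Nat.card (centralizer ({g} : Set SL3))) :
    Nat.card (centralizer ({g} : Set SL3)) = 54 := by
  obtain ⟨h, rfl⟩ := exists_conj_t0 g hg h27
  rw [card_centralizer_conj, card_C_t0S]

/-- The transvections. -/
def tvS (i : Fin 104) : SL3 :=
  ofCode (witL.getD i 0) (wit_ok i).1 * t0S * (ofCode (witL.getD i 0) (wit_ok i).1)⁻¹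

theorem enc_tvS (i : Fin 104) : enc (tvS i) = tvL.getD i 0 := by
  unfold tvS
  rw [enc_mul, enc_mul, enc_inv, enc_ofCode, enc_t0S]
  exact (wit_ok i).2

theorem tvS_ne (i : Fin 104) : tvS i ≠ 1 := by
  intro h
  apply t0S_ne_one
  unfold tvS at h
  have h2 := congrArg (fun z => (ofCode (witL.getD i 0) (wit_ok i).1)⁻¹ * z * (ofCode (witL.getD i 0) (wit_ok i).1)) h
  simpa [mul_assoc] using h2

theorem tvS_card (i : Fin 104) : Nat.card (centralizer ({tvS i} : Set SL3)) = 54 := by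
  unfold tvS
  rw [card_centralizer_conj, card_C_t0S]

theorem tvS_inj : Function.Injective tvS := fun i j h => by
  apply tv_inj
  rw [← enc_tvS, ← enc_tvS, h]

theorem tvS_surj (g : SL3) (hg : g ≠ 1) (h27 : 27 ∣ Nat.card (centralizer ({g} : Set SL3))) :
    ∃ i, tvS i = g := by
  obtain ⟨h, rfl⟩ := exists_conj_t0 g hg h27
  have h1 := List.all_eq_true.1 conj_t0 _ (enc_mem h)
  have h2 : conjN (enc h) t0 ∈ tvL := by simpa using h1
  obtain ⟨n, hn, e⟩ := List.mem_iff_getElem.1 h2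
  rw [tv_len] at hn
  refine ⟨⟨n, hn⟩, enc_injective ?_⟩
  rw [enc_tvS, enc_mul, enc_mul, enc_inv, enc_t0S]
  show tvL.getD n 0 = conjN (enc h) t0
  rw [List.getD_eq_getElem _ _ (by rw [tv_len]; exact hn), e]

theorem tvS_comm (i j : Fin 104) : tvS i * tvS j = tvS j * tvS i ↔ (cen i = cen j ∨ ax i = ax j) := by
  rw [mulN_comm_iff, enc_tvS, enc_tvS]
  exact comm_table i j

theorem enc_pow13 (g : SL3) : pow13 (enc g) = enc (g ^ 13) := by
  have e : g ^ 13 = (((g * g) * (g * g)) * ((g * g) * (g * g))) * ((g * g) * (g * g)) * g := by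
    simp only [pow_succ, pow_zero, one_mul, mul_assoc]
  rw [e]
  simp only [enc_mul, pow13]

theorem enc_pow24 (g : SL3) : pow24 (enc g) = enc (g ^ 24) := by
  have e : g ^ 24 = (((g * g) * g) * ((g * g) * g)) * (((g * g) * g) * ((g * g) * g)) *
      (((g * g) * g) * ((g * g) * g) * (((g * g) * g) * ((g * g) * g))) := by
    simp only [pow_succ, pow_zero, one_mul, mul_assoc]
  rw [e]
  simp only [enc_mul, pow24]

theorem orders_split (g : SL3) : g ^ 13 = 1 ∨ g ^ 24 = 1 := by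
  have h1 := List.all_eq_true.1 order_split _ (enc_mem g)
  simp only [Bool.or_eq_true, beq_iff_eq, enc_pow13, enc_pow24, enc_eq_one] at h1
  exact h1

theorem card_pow13 : Nat.card {g : SL3 // g ^ 13 = 1} = 1729 := by
  rw [← count13, ← card_filter]
  refine Nat.card_congr (Equiv.subtypeEquivRight fun g => ?_)
  rw [beq_iff_eq, enc_pow13, enc_eq_one]

theorem card_order13 : Nat.card {g : SL3 // orderOf g = 13} = 1728 := by
  classical
  haveI := Fintype.ofFinite SL3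
  have e : Nat.card {x : SL3 // x ^ 13 = 1} = Nat.card {g : SL3 // orderOf g = 13} + 1 := by
    rw [Nat.card_eq_fintype_card, Nat.card_eq_fintype_card, Fintype.card_subtype, Fintype.card_subtype]
    have : (Finset.univ.filter fun x : SL3 => x ^ 13 = 1) =
        insert 1 (Finset.univ.filter fun g : SL3 => orderOf g = 13) := by
      ext x
      simp only [Finset.mem_filter, Finset.mem_univ, true_and, Finset.mem_insert]
      constructor
      · intro hx
        by_cases h1 : x = 1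
        · exact Or.inl h1
        · haveI : Fact (Nat.Prime 13) := ⟨by norm_num⟩
          exact Or.inr (orderOf_eq_prime hx h1)
      · rintro (rfl | hx)
        · simp
        · rw [← hx]; exact pow_orderOf_eq_one x
    rw [this, Finset.card_insert_of_notMem]
    simp only [Finset.mem_filter, Finset.mem_univ, true_and, orderOf_one]
    norm_num
  rw [card_pow13] at e
  omega

theorem good13 : Cfsg.Agent.Lib.CommGraph.Good 13 SL3 := by
  haveI : Fact (Nat.Prime 13) := ⟨by norm_num⟩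
  apply Cfsg.Agent.Lib.CommGraph.good_of_orders 13
  · rw [card_SL3]; norm_num
  · intro g q hq hq13 ho
    rcases orders_split g with h | h
    · have h1 := orderOf_dvd_of_pow_eq_one h
      rw [ho] at h1
      have h2 : q ∣ 1 := (Nat.mul_dvd_mul_iff_left (by norm_num : 0 < 13)).1 (by simpa using h1)
      exact hq.one_lt.ne' (Nat.dvd_one.1 h2)
    · have h1 := orderOf_dvd_of_pow_eq_one h
      rw [ho] at h1
      have h2 : 13 ∣ 24 := (Dvd.intro _ rfl).trans h1
      omega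

end Cfsg.Agent.Lib.Psl33Data
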