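import Mathlib

/-!
# Graph automorphisms of the commuting graph of flags
-/

set_option autoImplicit false

namespace Cfsg.Agent.Lib.Psl33Graph

section generic

variable {V P L : Type*} (c : V → P) (a : V → L)

/-- Two vertices are adjacent when they share the first or the second coordinate. -/
def Adj (u v : V) : Prop := c u = c v ∨ a u = a v

/-- Twins. -/
def Tw (u v : V) : Prop := c u = c v ∧ a u = a v

/-- Edges of the first kind. -/
def Sc (u v : V) : Prop := c u = c v ∧ a u ≠ a v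

/-- Edges of the second kind. -/
def Sa (u v : V) : Prop := a u = a v ∧ c u ≠ c v

/-- Maps preserving both kinds. -/
def Pres (σ : V → V) : Prop :=
  (∀ u v, c u = c v → c (σ u) = c (σ v)) ∧ (∀ u v, a u = a v → a (σ u) = a (σ v))

/-- Maps swapping the kinds. -/
def Swap (σ : V → V) : Prop :=
  (∀ u v, c u = c v → a (σ u) = a (σ v)) ∧ (∀ u v, a u = a v → c (σ u) = c (σ v))

variable {c a}

theorem pres_comp {σ τ : V → V} (h1 : Pres c a σ) (h2 : Pres c a τ) : Pres c a (σ ∘ τ) :=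
  ⟨fun _ _ h => h1.1 _ _ (h2.1 _ _ h), fun _ _ h => h1.2 _ _ (h2.2 _ _ h)⟩

theorem swap_comp {σ τ : V → V} (h1 : Swap c a σ) (h2 : Swap c a τ) : Pres c a (σ ∘ τ) :=
  ⟨fun _ _ h => h1.2 _ _ (h2.1 _ _ h), fun _ _ h => h1.1 _ _ (h2.2 _ _ h)⟩

theorem swap_pres_comp {σ τ : V → V} (h1 : Swap c a σ) (h2 : Pres c a τ) : Swap c a (σ ∘ τ) :=
  ⟨fun _ _ h => h1.1 _ _ (h2.1 _ _ h), fun _ _ h => h1.2 _ _ (h2.2 _ _ h)⟩

theorem pres_swap_comp {σ τ : V → V} (h1 : Pres c a σ) (h2 : Swap c a τ) : Swap c a (σ ∘ τ) :=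
  ⟨fun _ _ h => h1.2 _ _ (h2.1 _ _ h), fun _ _ h => h1.1 _ _ (h2.2 _ _ h)⟩

theorem pres_id : Pres c a id := ⟨fun _ _ h => h, fun _ _ h => h⟩

theorem tw_iff (R1 : ∀ u, ∃ w, a w = a u ∧ c w ≠ c u) (R2 : ∀ u, ∃ w, c w = c u ∧ a w ≠ a u) (u v : V) :
    Tw c a u v ↔ ∀ w, Adj c a u w ↔ Adj c a v w := by
  constructor
  · rintro ⟨h1, h2⟩ w
    unfold Adj
    rw [h1, h2]
  · intro h
    rcases (h u).1 (Or.inl rfl) with h0 | h0
    · refine ⟨h0.symm, ?_⟩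
      by_contra hne
      obtain ⟨w, hw1, hw2⟩ := R1 u
      rcases (h w).1 (Or.inr hw1.symm) with h4 | h4
      · exact hw2 (h4.symm.trans h0)
      · exact hne (hw1.symm.trans h4.symm)
    · refine ⟨?_, h0.symm⟩
      by_contra hne
      obtain ⟨w, hw1, hw2⟩ := R2 u
      rcases (h w).1 (Or.inl hw1.symm) with h4 | h4
      · exact hne (hw1.symm.trans h4.symm)
      · exact hw2 (h4.symm.trans h0)

theorem sc_symm {u v : V} (h : Sc c a u v) : Sc c a v u := ⟨h.1.symm, h.2.symm⟩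

theorem sa_symm {u v : V} (h : Sa c a u v) : Sa c a v u := ⟨h.1.symm, h.2.symm⟩

theorem cross {u x y : V} (h1 : Sc c a u x) (h2 : Sa c a u y) : ¬ Adj c a x y := by
  rintro (h | h)
  · exact h2.2 (h1.1.trans h)
  · exact h1.2 (h2.1.trans h.symm)

variable (R1 : ∀ u, ∃ w, a w = a u ∧ c w ≠ c u) (R2 : ∀ u, ∃ w, c w = c u ∧ a w ≠ a u)
  (σ : Equiv.Perm V) (hσ : ∀ u v, Adj c a u v ↔ Adj c a (σ u) (σ v))

include R1 R2 hσ

theorem tw_map {u v : V} (h : Tw c a u v) : Tw c a (σ u) (σ v) := by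
  rw [tw_iff R1 R2] at h ⊢
  intro w
  obtain ⟨w', rfl⟩ := σ.surjective w
  rw [← hσ, ← hσ]
  exact h w'

theorem tw_map' {u v : V} (h : Tw c a (σ u) (σ v)) : Tw c a u v := by
  rw [tw_iff R1 R2] at h ⊢
  intro w
  rw [hσ u w, hσ v w]
  exact h _

theorem sc_img {u v : V} (h : Sc c a u v) : Sc c a (σ u) (σ v) ∨ Sa c a (σ u) (σ v) := by
  have h1 : Adj c a (σ u) (σ v) := (hσ u v).1 (Or.inl h.1)
  rcases h1 with h1 | h1
  · refine Or.inl ⟨h1, fun h2 => ?_⟩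
    exact h.2 (tw_map' R1 R2 σ hσ ⟨h1, h2⟩).2
  · refine Or.inr ⟨h1, fun h2 => ?_⟩
    exact h.2 (tw_map' R1 R2 σ hσ ⟨h2, h1⟩).2

theorem sa_img {u v : V} (h : Sa c a u v) : Sc c a (σ u) (σ v) ∨ Sa c a (σ u) (σ v) := by
  have h1 : Adj c a (σ u) (σ v) := (hσ u v).1 (Or.inr h.1)
  rcases h1 with h1 | h1
  · refine Or.inl ⟨h1, fun h2 => ?_⟩
    exact h.2 (tw_map' R1 R2 σ hσ ⟨h1, h2⟩).1
  · refine Or.inr ⟨h1, fun h2 => ?_⟩
    exact h.2 (tw_map' R1 R2 σ hσ ⟨h2, h1⟩).1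

omit R1 R2 in
theorem same_c {u x x' : V} (h1 : Sc c a u x) (h2 : Sc c a u x') (h3 : Sc c a (σ u) (σ x))
    (h4 : Sa c a (σ u) (σ x')) : False := by
  apply cross h3 h4
  exact (hσ x x').1 (Or.inl (h1.1.symm.trans h2.1))

omit R1 R2 in
theorem opp_c {u x y : V} (h1 : Sc c a u x) (h2 : Sa c a u y) (h3 : Sc c a (σ u) (σ x))
    (h4 : Sc c a (σ u) (σ y)) : False := by
  apply cross h1 h2
  exact (hσ x y).2 (Or.inl (h3.1.symm.trans h4.1))

omit R1 R2 in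
theorem opp_a {u x y : V} (h1 : Sc c a u x) (h2 : Sa c a u y) (h3 : Sa c a (σ u) (σ x))
    (h4 : Sa c a (σ u) (σ y)) : False := by
  apply cross h1 h2
  exact (hσ x y).2 (Or.inr (h3.1.symm.trans h4.1))

theorem exists_sc (u : V) : ∃ w, Sc c a u w := by
  obtain ⟨w, h1, h2⟩ := R2 u
  exact ⟨w, h1.symm, h2.symm⟩

theorem pv_or_sv (u : V) :
    (∀ x, Sc c a u x → Sc c a (σ u) (σ x)) ∨ (∀ x, Sc c a u x → Sa c a (σ u) (σ x)) := by
  obtain ⟨w, hw⟩ := exists_sc R1 R2 σ hσ u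
  rcases sc_img R1 R2 σ hσ hw with h | h
  · refine Or.inl fun x hx => ?_
    rcases sc_img R1 R2 σ hσ hx with h2 | h2
    · exact h2
    · exact (same_c σ hσ hw hx h h2).elim
  · refine Or.inr fun x hx => ?_
    rcases sc_img R1 R2 σ hσ hx with h2 | h2
    · exact (same_c σ hσ hx hw h2 h).elim
    · exact h2

theorem pv_a {u y : V} (hP : ∀ x, Sc c a u x → Sc c a (σ u) (σ x)) (hy : Sa c a u y) :
    Sa c a (σ u) (σ y) := by
  obtain ⟨w, hw⟩ := exists_sc R1 R2 σ hσ u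
  rcases sa_img R1 R2 σ hσ hy with h | h
  · exact (opp_c σ hσ hw hy (hP w hw) h).elim
  · exact h

theorem sv_a {u y : V} (hS : ∀ x, Sc c a u x → Sa c a (σ u) (σ x)) (hy : Sa c a u y) :
    Sc c a (σ u) (σ y) := by
  obtain ⟨w, hw⟩ := exists_sc R1 R2 σ hσ u
  rcases sa_img R1 R2 σ hσ hy with h | h
  · exact h
  · exact (opp_a σ hσ hw hy (hS w hw) h).elim

theorem prop_pv {u v : V} (hP : ∀ x, Sc c a u x → Sc c a (σ u) (σ x)) (huv : Sc c a u v ∨ Sa c a u v) :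
    ∀ x, Sc c a v x → Sc c a (σ v) (σ x) := by
  rcases pv_or_sv R1 R2 σ hσ v with h | h
  · exact h
  · exfalso
    rcases huv with huv | huv
    · have A := hP v huv
      have B := h u (sc_symm huv)
      exact A.2 B.1.symm
    · have A := pv_a R1 R2 σ hσ hP huv
      have B := sv_a R1 R2 σ hσ h (sa_symm huv)
      exact A.2 B.1.symm

theorem prop_sv {u v : V} (hS : ∀ x, Sc c a u x → Sa c a (σ u) (σ x)) (huv : Sc c a u v ∨ Sa c a u v) :
    ∀ x, Sc c a v x → Sa c a (σ v) (σ x) := by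
  rcases pv_or_sv R1 R2 σ hσ v with h | h
  · exfalso
    rcases huv with huv | huv
    · have A := hS v huv
      have B := h u (sc_symm huv)
      exact B.2 A.1.symm
    · have A := sv_a R1 R2 σ hσ hS huv
      have B := pv_a R1 R2 σ hσ h (sa_symm huv)
      exact B.2 A.1.symm
  · exact h

/-- An automorphism of the graph preserves or swaps the two kinds of edges. -/
theorem dich (conn : ∀ S : V → Prop, ∀ u₀, S u₀ → (∀ u v, S u → (Sc c a u v ∨ Sa c a u v) → S v) → ∀ u, S u)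
    (u₀ : V) : Pres c a σ ∨ Swap c a σ := by
  rcases pv_or_sv R1 R2 σ hσ u₀ with h | h
  · have all := conn (fun u => ∀ x, Sc c a u x → Sc c a (σ u) (σ x)) u₀ h
      (fun u v hu huv => prop_pv R1 R2 σ hσ hu huv)
    refine Or.inl ⟨fun u v huv => ?_, fun u v huv => ?_⟩
    · by_cases h2 : a u = a v
      · exact (tw_map R1 R2 σ hσ ⟨huv, h2⟩).1
      · exact (all u v ⟨huv, h2⟩).1
    · by_cases h2 : c u = c v
      · exact (tw_map R1 R2 σ hσ ⟨h2, huv⟩).2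
      · exact (pv_a R1 R2 σ hσ (all u) ⟨huv, h2⟩).1
  · have all := conn (fun u => ∀ x, Sc c a u x → Sa c a (σ u) (σ x)) u₀ h
      (fun u v hu huv => prop_sv R1 R2 σ hσ hu huv)
    refine Or.inr ⟨fun u v huv => ?_, fun u v huv => ?_⟩
    · by_cases h2 : a u = a v
      · exact (tw_map R1 R2 σ hσ ⟨huv, h2⟩).2
      · exact (all u v ⟨huv, h2⟩).1
    · by_cases h2 : c u = c v
      · exact (tw_map R1 R2 σ hσ ⟨h2, huv⟩).1
      · exact (sv_a R1 R2 σ hσ (all u) ⟨huv, h2⟩).1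

theorem not_pres_swap (u₀ : V) (h1 : Pres c a σ) (h2 : Swap c a σ) : False := by
  obtain ⟨w, hw⟩ := exists_sc R1 R2 σ hσ u₀
  have h3 := tw_map' R1 R2 σ hσ ⟨h1.1 _ _ hw.1, h2.1 _ _ hw.1⟩
  exact hw.2 h3.2

end generic

end Cfsg.Agent.Lib.Psl33Graph
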