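import Mathlib
import Cfsg.Agent.Lib.Psl33Data
import Cfsg.Agent.Lib.Psl33Graph

/-!
# The projective plane of order three
-/

set_option autoImplicit false

namespace Cfsg.Agent.Lib.Psl33Geom

open Cfsg.Agent.Lib.Psl33Data Cfsg.Agent.Lib.Psl33Graph

theorem R1 : ∀ u : Fin 104, ∃ w, ax w = ax u ∧ cen w ≠ cen u := by decide +kernel

theorem R2 : ∀ u : Fin 104, ∃ w, cen w = cen u ∧ ax w ≠ ax u := by decide +kernel

/-- The twin of a vertex. -/
def bar (u : Fin 104) : Fin 104 := Fin.ofNat 104 ((u : ℕ) ^^^ 1)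

theorem tw_table : ∀ u v : Fin 104, (cen u = cen v ∧ ax u = ax v) ↔ (v = u ∨ v = bar u) := by decide +kernel

/-- A spanning tree. -/
def par (u : Fin 104) : Fin 104 := Fin.ofNat 104 (parL.getD u 0)
/-- The depth in the spanning tree. -/
def dep (u : Fin 104) : ℕ := depL.getD u 0

theorem conn_table : ∀ u : Fin 104, u = 0 ∨ (dep (par u) < dep u ∧
    ((cen (par u) = cen u ∧ ax (par u) ≠ ax u) ∨ (ax (par u) = ax u ∧ cen (par u) ≠ cen u))) := by
  decide +kernel

theorem conn (S : Fin 104 → Prop) (u₀ : Fin 104) (h0 : S u₀)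
    (hS : ∀ u v, S u → (Sc cen ax u v ∨ Sa cen ax u v) → S v) : ∀ u, S u := by
  have hsym : ∀ u v, S v → (Sc cen ax u v ∨ Sa cen ax u v) → S u := fun u v hv huv =>
    hS v u hv (huv.elim (fun h => Or.inl (sc_symm h)) (fun h => Or.inr (sa_symm h)))
  have key : ∀ n : ℕ, ∀ u : Fin 104, dep u ≤ n → ((S 0 → S u) ∧ (S u → S 0)) := by
    intro n
    induction n with
    | zero =>
      intro u hu
      rcases conn_table u with h | h
      · subst h; exact ⟨id, id⟩
      · omega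
    | succ n ih =>
      intro u hu
      rcases conn_table u with h | ⟨h1, h2⟩
      · subst h; exact ⟨id, id⟩
      · have h3 := ih (par u) (by omega)
        exact ⟨fun h0 => hS _ _ (h3.1 h0) h2, fun h0 => h3.2 (hsym _ _ h0 h2)⟩
  intro u
  exact (key _ u le_rfl).1 ((key _ u₀ le_rfl).2 h0)

def secCf (p : Fin 13) : Fin 104 := Fin.ofNat 104 (secCL.getD p 0)
def secAf (p : Fin 13) : Fin 104 := Fin.ofNat 104 (secAL.getD p 0)

theorem secC_spec : ∀ p : Fin 13, cen (secCf p) = p := by decide +kernel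
theorem secA_spec : ∀ p : Fin 13, ax (secAf p) = p := by decide +kernel

def maskL : List ℕ := [1170, 113, 2584, 4372, 15, 4674, 2338, 7169, 1352, 1572, 897, 2244, 4264]
def lineT : List ℕ := [0, 4, 4, 4, 1, 1, 1, 10, 10, 10, 7, 7, 7, 4, 0, 4, 4, 0, 6, 5, 0, 6, 5, 0, 6, 5, 4, 4, 0, 4, 3, 9, 11, 11, 3, 9, 9, 11, 3, 4, 4, 4, 0, 2, 12, 8, 12, 8, 2, 8, 2, 12, 1, 0, 3, 2, 0, 1, 1, 0, 3, 2, 0, 2, 3, 1, 6, 9, 12, 1, 0, 1, 12, 6, 9, 9, 6, 12, 1, 5, 11, 8, 1, 1, 0, 11, 8, 5, 8, 11, 5, 10, 0, 11, 12, 0, 12, 11, 0, 10, 10, 0, 11, 12, 10, 6, 3, 8, 3, 6, 8, 10, 0, 10, 8, 6, 3, 10, 5, 9, 2, 2, 9, 5, 10, 10, 0, 9, 2, 5, 7, 0, 9, 8, 0, 9, 8, 0, 8, 9, 0, 7, 7, 7, 6, 11, 2, 2, 6, 11, 11, 6, 2, 7, 0, 7, 7, 5, 3, 12, 3, 12, 5, 12, 3, 5, 7, 7, 0]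

/-- Incidence. -/
def incT (p l : Fin 13) : Bool := (maskL.getD l 0).testBit p

/-- Collinearity. -/
def col (p q r : Fin 13) : Bool := p == q || (maskL.getD (lineT.getD (13 * (p : ℕ) + q) 0) 0).testBit r

theorem inc_iff : ∀ p l : Fin 13, incT p l = true ↔ ∃ i : Fin 104, cen i = p ∧ ax i = l := by decide +kernel

theorem col_of_inc : ∀ p q r l : Fin 13, incT p l = true → incT q l = true → incT r l = true →
    col p q r = true := by decide +kernel

theorem inc_of_col : ∀ p q r : Fin 13, col p q r = true →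
    ∃ l : Fin 13, incT p l = true ∧ incT q l = true ∧ incT r l = true := by decide +kernel

theorem line_det : ∀ l l' : Fin 13, (∀ p : Fin 13, incT p l = true → incT p l' = true) → l = l' := by
  decide +kernel

/-- General position. -/
def gp (t : Fin 13 × Fin 13 × Fin 13 × Fin 13) : Bool :=
  !col t.1 t.2.1 t.2.2.1 && !col t.1 t.2.1 t.2.2.2 && !col t.1 t.2.2.1 t.2.2.2 && !col t.2.1 t.2.2.1 t.2.2.2

theorem card_gp : (Finset.univ.filter (fun t : Fin 13 × Fin 13 × Fin 13 × Fin 13 => gp t = true)).card = 5616 := by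
  decide +kernel

theorem gp0 : gp (0, 1, 4, 8) = true := by decide +kernel

/-- The collineations of the plane. -/
def Coll : Set (Equiv.Perm (Fin 13)) := {g | ∀ p q r : Fin 13, col p q r = true ↔ col (g p) (g q) (g r) = true}

theorem step (h : Equiv.Perm (Fin 13)) (hc : h ∈ Coll) (A B C D X : Fin 13) (hA : h A = A) (hB : h B = B)
    (hC : h C = C) (hD : h D = D) (h1 : col A B X = true) (h2 : col C D X = true)
    (hu : ∀ Y, col A B Y = true → col C D Y = true → Y = X) : h X = X := by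
  apply hu
  · have := (hc _ _ _).1 h1
    rwa [hA, hB] at this
  · have := (hc _ _ _).1 h2
    rwa [hC, hD] at this

theorem fix_all (h : Equiv.Perm (Fin 13)) (hc : h ∈ Coll) (h0 : h 0 = 0) (h1 : h 1 = 1) (h4 : h 4 = 4)
    (h8 : h 8 = 8) : h = 1 := by
  have h2 : h 2 = 2 := step h hc 0 1 4 8 2 h0 h1 h4 h8 (by decide +kernel) (by decide +kernel) (by decide +kernel)
  have h5 : h 5 = 5 := step h hc 0 4 1 8 5 h0 h4 h1 h8 (by decide +kernel) (by decide +kernel) (by decide +kernel)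
  have h7 : h 7 = 7 := step h hc 0 8 1 4 7 h0 h8 h1 h4 (by decide +kernel) (by decide +kernel) (by decide +kernel)
  have h3 : h 3 = 3 := step h hc 0 1 5 7 3 h0 h1 h5 h7 (by decide +kernel) (by decide +kernel) (by decide +kernel)
  have h6 : h 6 = 6 := step h hc 0 4 2 7 6 h0 h4 h2 h7 (by decide +kernel) (by decide +kernel) (by decide +kernel)
  have h9 : h 9 = 9 := step h hc 0 7 1 6 9 h0 h7 h1 h6 (by decide +kernel) (by decide +kernel) (by decide +kernel)
  have h10 : h 10 = 10 := step h hc 1 4 2 5 10 h1 h4 h2 h5 (by decide +kernel) (by decide +kernel) (by decide +kernel)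
  have h11 : h 11 = 11 := step h hc 0 10 1 5 11 h0 h10 h1 h5 (by decide +kernel) (by decide +kernel) (by decide +kernel)
  have h12 : h 12 = 12 := step h hc 0 10 1 6 12 h0 h10 h1 h6 (by decide +kernel) (by decide +kernel) (by decide +kernel)
  ext p
  fin_cases p
  · exact congrArg _ h0
  · exact congrArg _ h1
  · exact congrArg _ h2
  · exact congrArg _ h3
  · exact congrArg _ h4
  · exact congrArg _ h5
  · exact congrArg _ h6
  · exact congrArg _ h7
  · exact congrArg _ h8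
  · exact congrArg _ h9
  · exact congrArg _ h10
  · exact congrArg _ h11
  · exact congrArg _ h12

theorem inv_mul_mem {g g' : Equiv.Perm (Fin 13)} (hg : g ∈ Coll) (hg' : g' ∈ Coll) : g'⁻¹ * g ∈ Coll := by
  intro p q r
  rw [hg p q r, hg' ((g'⁻¹ * g) p) ((g'⁻¹ * g) q) ((g'⁻¹ * g) r)]
  simp

theorem card_Coll : Nat.card Coll ≤ 5616 := by
  classical
  let F : Coll → {t : Fin 13 × Fin 13 × Fin 13 × Fin 13 // gp t = true} := fun g =>
    ⟨(g.1 0, g.1 1, g.1 4, g.1 8), by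
      have h : ∀ p q r : Fin 13, col p q r = false → col (g.1 p) (g.1 q) (g.1 r) = false := by
        intro p q r hpq
        by_contra hcon
        rw [Bool.not_eq_false] at hcon
        rw [← g.2 p q r] at hcon
        simp [hcon] at hpq
      have h0 : gp (0, 1, 4, 8) = true := gp0
      simp only [gp, Bool.and_eq_true, Bool.not_eq_eq_eq_not, Bool.not_true] at h0 ⊢
      exact ⟨⟨⟨h _ _ _ h0.1.1.1, h _ _ _ h0.1.1.2⟩, h _ _ _ h0.1.2⟩, h _ _ _ h0.2⟩⟩
  have hF : Function.Injective F := by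
    intro g g' h
    have h1 : (g.1 0, g.1 1, g.1 4, g.1 8) = (g'.1 0, g'.1 1, g'.1 4, g'.1 8) := congrArg Subtype.val h
    simp only [Prod.mk.injEq] at h1
    obtain ⟨e0, e1, e4, e8⟩ := h1
    have h2 := fix_all (g'.1⁻¹ * g.1) (inv_mul_mem g.2 g'.2)
      (by simp [e0]) (by simp [e1]) (by simp [e4]) (by simp [e8])
    apply Subtype.ext
    exact (inv_mul_eq_one.1 h2).symm
  have := Nat.card_le_card_of_injective F hF
  rw [Nat.card_eq_fintype_card (α := {t : Fin 13 × Fin 13 × Fin 13 × Fin 13 // gp t = true}),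
    Fintype.card_subtype, card_gp] at this
  exact this

end Cfsg.Agent.Lib.Psl33Geom

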