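import Mathlib
import Cfsg.Agent.Lib.CommGraph
import Cfsg.Agent.Lib.SmallGroups2
import Cfsg.Agent.Lib.TransferCore

/-!
# Simplicity of a group of order 5616 from its centralizer data
-/

set_option autoImplicit false
set_option linter.style.haveILetI false
set_option linter.unusedSectionVars false

open scoped Pointwise

namespace Cfsg.Agent.Lib.Psl33Simple

open Cfsg.Agent.Lib.SmallGroups2 Cfsg.Agent.Lib.Nse7920 Cfsg.Agent.Lib.CommGraph Subgroup

variable {G : Type*} [Group G] [Finite G]

/-- The key fixed point argument. -/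
theorem exists_sylow_mod13 (N : Subgroup G) [N.Normal] (x : G) (hx : x ^ 13 = 1)
    (hN : ¬ 13 ∣ Nat.card N) (r : ℕ) [hr : Fact r.Prime]
    (hfix : ∀ y : N, (y : G) * x = x * y → y = 1) :
    ∃ Q : Sylow r N, Nat.card (Q : Subgroup N) % 13 = 1 := by
  classical
  haveI : Fintype (Sylow r N) := Fintype.ofFinite _
  haveI : Fact (Nat.Prime 13) := ⟨by norm_num⟩
  let c : MulAut N := MulAut.conjNormal x
  have hc13 : c ^ 13 = 1 := by
    show (MulAut.conjNormal x) ^ 13 = 1
    rw [← map_pow, hx, map_one]
  let f : Function.End (Sylow r N) := fun Q => c • Q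
  have hf : f ^ 13 ^ 1 = 1 := by
    have key : ∀ n : ℕ, ∀ Q, (f ^ n) Q = (c ^ n) • Q := by
      intro n
      induction n with
      | zero => intro Q; rw [pow_zero, pow_zero, one_smul]; rfl
      | succ n ih =>
        intro Q
        rw [pow_succ]
        show (f ^ n) (f Q) = _
        rw [ih, pow_succ, mul_smul]
    funext Q
    rw [pow_one, key, hc13, one_smul]
    rfl
  have hmod := Equiv.Perm.card_fixedPoints_modEq hf
  have hdvdN : Fintype.card (Sylow r N) ∣ Nat.card N := by
    obtain ⟨Q⟩ := (inferInstance : Nonempty (Sylow r N))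
    rw [← Nat.card_eq_fintype_card]
    exact Q.card_dvd_index.trans (Subgroup.index_dvd_card _)
  have hne : Nonempty (Function.fixedPoints f) := by
    by_contra hemp
    rw [not_nonempty_iff] at hemp
    have h0 : Fintype.card (Function.fixedPoints f) = 0 := Fintype.card_eq_zero
    rw [h0] at hmod
    exact hN (((Nat.modEq_zero_iff_dvd).1 hmod).trans hdvdN)
  obtain ⟨⟨Q, hQ⟩⟩ := hne
  have hQc : ∀ y : N, y ∈ (Q : Subgroup N) → c y ∈ (Q : Subgroup N) := by
    intro y hy
    have h1 : c • Q = Q := hQ
    have h2 : c • y ∈ c • (Q : Subgroup N) := Subgroup.smul_mem_pointwise_smul y c _ hy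
    rw [← Sylow.pointwise_smul_def, h1] at h2
    exact h2
  refine ⟨Q, ?_⟩
  let g : Function.End (Q : Subgroup N) := fun y => ⟨c y, hQc y y.2⟩
  have hg : g ^ 13 ^ 1 = 1 := by
    have key : ∀ n : ℕ, ∀ y : (Q : Subgroup N), (((g ^ n) y : (Q : Subgroup N)) : N) = (c ^ n) y := by
      intro n
      induction n with
      | zero => intro y; rfl
      | succ n ih =>
        intro y
        rw [pow_succ]
        show (((g ^ n) (g y) : (Q : Subgroup N)) : N) = _
        rw [ih, pow_succ]
        rfl
    funext y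
    apply Subtype.ext
    rw [pow_one, key, hc13]
    rfl
  haveI : Fintype (Q : Subgroup N) := Fintype.ofFinite _
  have hmod2 := Equiv.Perm.card_fixedPoints_modEq hg
  have hfixed : Fintype.card (Function.fixedPoints g) = 1 := by
    rw [Fintype.card_eq_one_iff]
    refine ⟨⟨1, ?_⟩, ?_⟩
    · show g 1 = 1
      apply Subtype.ext
      show c 1 = 1
      exact map_one c
    · rintro ⟨y, hy⟩
      apply Subtype.ext
      apply Subtype.ext
      have hy' : g y = y := hy
      have hy2 : c (y : N) = y := congrArg Subtype.val hy'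
      have hy3 : x * ((y : N) : G) * x⁻¹ = ((y : N) : G) := by
        have := congrArg Subtype.val hy2
        rwa [show c (y : N) = MulAut.conjNormal x (y : N) from rfl, MulAut.conjNormal_apply] at this
      have hcomm : ((y : N) : G) * x = x * ((y : N) : G) := by
        calc ((y : N) : G) * x = (x * ((y : N) : G) * x⁻¹) * x := by rw [hy3]
          _ = x * ((y : N) : G) := by group
      exact hfix (y : N) hcomm
  rw [hfixed, ← Nat.card_eq_fintype_card] at hmod2
  exact hmod2

theorem two_bound13 (a : ℕ) (ha : 2 ^ a ∣ 5616) (hm : 2 ^ a % 13 = 1) : a = 0 := by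
  have h4 : a ≤ 4 := by
    by_contra hcon
    have h5' : 2 ^ 5 ∣ 2 ^ a := pow_dvd_pow 2 (by omega)
    have := h5'.trans ha
    omega
  interval_cases a
  · rfl
  all_goals omega

theorem three_bound13 (a : ℕ) (ha : 3 ^ a ∣ 5616) (hm : 3 ^ a % 13 = 1) : a = 0 ∨ a = 3 := by
  have h4 : a ≤ 3 := by
    by_contra hcon
    have h5' : 3 ^ 4 ∣ 3 ^ a := pow_dvd_pow 3 (by omega)
    have := h5'.trans ha
    omega
  interval_cases a
  · exact Or.inl rfl
  · omega
  · omega
  · exact Or.inr rfl

/-- A conjugacy class inside a normal subgroup. -/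
theorem index_centralizer_le (N : Subgroup G) [hN : N.Normal] {z : G} (hz : z ∈ N) :
    (centralizer ({z} : Set G)).index ≤ Nat.card N := by
  let F : G ⧸ centralizer ({z} : Set G) → N := fun q => Quotient.liftOn' q
    (fun g => (⟨g * z * g⁻¹, hN.conj_mem z hz g⟩ : N)) (by
      intro a b hab
      have hab' : a⁻¹ * b ∈ centralizer ({z} : Set G) := QuotientGroup.leftRel_apply.1 hab
      rw [mem_centralizer_singleton_iff] at hab'
      apply Subtype.ext
      show a * z * a⁻¹ = b * z * b⁻¹
      calc a * z * a⁻¹ = a * (z * (a⁻¹ * b)) * b⁻¹ := by group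
        _ = a * ((a⁻¹ * b) * z) * b⁻¹ := by rw [hab']
        _ = b * z * b⁻¹ := by group)
  have hF : Function.Injective F := by
    intro p q
    refine Quotient.inductionOn₂' p q ?_
    intro a b hab
    have h1 : a * z * a⁻¹ = b * z * b⁻¹ := congrArg (fun w : N => (w : G)) hab
    apply Quotient.sound'
    apply QuotientGroup.leftRel_apply.2
    rw [mem_centralizer_singleton_iff]
    calc (a⁻¹ * b) * z = a⁻¹ * (b * z * b⁻¹) * b := by group
      _ = a⁻¹ * (a * z * a⁻¹) * b := by rw [h1]
      _ = z * (a⁻¹ * b) := by group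
  exact Nat.card_le_card_of_injective F hF

/-- **Simplicity from the centralizer data.** -/
theorem isSimple (hc : Nat.card G = 5616)
    (h13 : Nat.card {g : G // orderOf g = 13} = 1728) (hgood : Good 13 G)
    (h54 : ∀ x : G, x ≠ 1 → 27 ∣ Nat.card (centralizer ({x} : Set G)) →
      Nat.card (centralizer ({x} : Set G)) = 54) : IsSimpleGroup G := by
  classical
  haveI : Fact (Nat.Prime 13) := ⟨by norm_num⟩
  haveI : Fact (Nat.Prime 2) := ⟨by norm_num⟩
  haveI : Fact (Nat.Prime 3) := ⟨by norm_num⟩
  haveI : Nontrivial G := by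
    apply Finite.one_lt_card_iff_nontrivial.1
    rw [hc]; norm_num
  have hP : ∀ P : Sylow 13 G, Nat.card P = 13 := fun P => by
    have := sylow_card_of_card_eq (p := 13) (a := 1) (m := 432) (by rw [hc]; norm_num) (by norm_num) P
    simpa using this
  have hn : Nat.card (Sylow 13 G) = 144 := by
    have := count_eq (G := G) 13 hP
    rw [h13] at this
    omega
  have hNP : ∀ P : Sylow 13 G, Nat.card (normalizer ((P : Subgroup G) : Set G)) = 39 := fun P => by
    have := card_normalizer_mul_card_sylow P
    rw [hn, hc] at this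
    omega
  obtain ⟨P₀⟩ := (inferInstance : Nonempty (Sylow 13 G))
  obtain ⟨x, hxP, hx1⟩ : ∃ x ∈ (P₀ : Subgroup G), x ≠ 1 := by
    have h1 : (1 : ℕ) < Nat.card (P₀ : Subgroup G) := by rw [hP]; norm_num
    haveI := Finite.one_lt_card_iff_nontrivial.1 h1
    obtain ⟨⟨x, hx⟩, hne⟩ := exists_ne (1 : (P₀ : Subgroup G))
    exact ⟨x, hx, fun h => hne (Subtype.ext h)⟩
  have hxord : orderOf x = 13 := orderOf_eq_of_mem_of_ne_one (by norm_num) (hP P₀) hxP hx1
  have hCx : Nat.card (centralizer ({x} : Set G)) = 13 :=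
    (hgood x hx1 (by
      have := dvd_card_centralizer_self x
      rwa [hxord] at this)).2
  have hx13 : x ^ 13 = 1 := by rw [← hxord]; exact pow_orderOf_eq_one x
  have hdvdG : ∀ N : Subgroup G, Nat.card N ∣ 5616 := fun N => by
    rw [← hc]; exact Subgroup.card_subgroup_dvd_card N
  -- the coprime case
  have hcop : ∀ N : Subgroup G, N.Normal → ¬ 13 ∣ Nat.card N → N = ⊥ := by
    intro N hNn h13N
    have hfix : ∀ y : N, (y : G) * x = x * y → y = 1 := by
      intro y hy
      have h1 : orderOf (y : G) ∣ 13 := by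
        have h2 : (y : G) ∈ centralizer ({x} : Set G) := mem_centralizer_singleton_iff.2 hy
        have h3 := orderOf_dvd_natCard (⟨y, h2⟩ : centralizer ({x} : Set G))
        rwa [Subgroup.orderOf_mk, hCx] at h3
      have h2 : orderOf (y : G) ∣ Nat.card N := by
        rw [Subgroup.orderOf_coe]; exact orderOf_dvd_natCard y
      have h3 : orderOf (y : G) = 1 := by
        rcases (Nat.dvd_prime (by norm_num)).1 h1 with h | h
        · exact h
        · rw [h] at h2; exact absurd h2 h13N
      rw [orderOf_eq_one_iff] at h3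
      exact Subtype.ext h3
    have h2N : ¬ 2 ∣ Nat.card N := by
      intro h2
      obtain ⟨Q, hQ⟩ := exists_sylow_mod13 N x hx13 h13N 2 hfix
      have hQc := Q.card_eq_multiplicity
      have hdv : 2 ^ (Nat.card N).factorization 2 ∣ 5616 := by
        rw [← hQc]
        exact (Subgroup.card_subgroup_dvd_card (Q : Subgroup N)).trans (hdvdG N)
      have ha0 := two_bound13 _ hdv (by rw [← hQc]; exact hQ)
      rw [ha0, pow_zero] at hQc
      exact Q.ne_bot_of_dvd_card h2 (Subgroup.card_eq_one.1 hQc)
    by_cases h3N : 3 ∣ Nat.card N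
    · exfalso
      obtain ⟨Q, hQ⟩ := exists_sylow_mod13 N x hx13 h13N 3 hfix
      have hQc := Q.card_eq_multiplicity
      have hdv : 3 ^ (Nat.card N).factorization 3 ∣ 5616 := by
        rw [← hQc]
        exact (Subgroup.card_subgroup_dvd_card (Q : Subgroup N)).trans (hdvdG N)
      have h27 : Nat.card (Q : Subgroup N) = 27 := by
        rcases three_bound13 _ hdv (by rw [← hQc]; exact hQ) with ha0 | ha3
        · rw [ha0, pow_zero] at hQc
          exact absurd (Subgroup.card_eq_one.1 hQc) (Q.ne_bot_of_dvd_card h3N)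
        · rw [hQc, ha3]; norm_num
      have h27d : 27 ∣ Nat.card N := by
        rw [← h27]; exact Subgroup.card_subgroup_dvd_card _
      have hN27 : Nat.card N = 27 := by
        have h6 : Nat.card N ∈ Nat.divisors 5616 := Nat.mem_divisors.2 ⟨hdvdG N, by norm_num⟩
        have h7 : (Nat.divisors 5616).filter (fun n => ¬ 2 ∣ n ∧ ¬ 13 ∣ n ∧ 27 ∣ n) = {27} := by
          decide +kernel
        have h8 : Nat.card N ∈ (Nat.divisors 5616).filter (fun n => ¬ 2 ∣ n ∧ ¬ 13 ∣ n ∧ 27 ∣ n) :=
          Finset.mem_filter.2 ⟨h6, h2N, h13N, h27d⟩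
        rw [h7] at h8
        simpa using h8
      have hp : IsPGroup 3 N := by
        rw [IsPGroup.iff_card]
        exact ⟨3, by rw [hN27]; norm_num⟩
      haveI : Nontrivial N := by
        apply Finite.one_lt_card_iff_nontrivial.1
        rw [hN27]; norm_num
      haveI := hp.center_nontrivial
      obtain ⟨⟨z, hz⟩, hne⟩ := exists_ne (1 : Subgroup.center N)
      have hz1 : (z : G) ≠ 1 := fun h => hne (Subtype.ext (Subtype.ext h))
      have hle : N ≤ centralizer ({(z : G)} : Set G) := by
        intro y hy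
        rw [mem_centralizer_singleton_iff]
        have h1 := (Subgroup.mem_center_iff.1 hz) ⟨y, hy⟩
        exact congrArg (fun w : N => (w : G)) h1
      have h27C : 27 ∣ Nat.card (centralizer ({(z : G)} : Set G)) := by
        rw [← hN27]; exact Subgroup.card_dvd_of_le hle
      have hC54 := h54 z hz1 h27C
      have hidx := Subgroup.card_mul_index (centralizer ({(z : G)} : Set G))
      rw [hC54, hc] at hidx
      have hle2 := index_centralizer_le N z.2
      rw [hN27] at hle2
      omega
    · have h6 : Nat.card N ∈ Nat.divisors 5616 := Nat.mem_divisors.2 ⟨hdvdG N, by norm_num⟩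
      have h7 : (Nat.divisors 5616).filter (fun n => ¬ 2 ∣ n ∧ ¬ 13 ∣ n ∧ ¬ 3 ∣ n) = {1} := by
        decide +kernel
      have h8 : Nat.card N ∈ (Nat.divisors 5616).filter (fun n => ¬ 2 ∣ n ∧ ¬ 13 ∣ n ∧ ¬ 3 ∣ n) :=
        Finset.mem_filter.2 ⟨h6, h2N, h13N, h3N⟩
      rw [h7] at h8
      exact Subgroup.card_eq_one.1 (by simpa using h8)
  refine ⟨fun N hN => ?_⟩
  by_cases h13N : 13 ∣ Nat.card N
  swap
  · exact Or.inl (hcop N hN h13N)
  right
  have hmul := N.card_mul_index
  rw [hc] at hmul
  by_contra hNt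
  have hidx1 : N.index ≠ 1 := fun h => hNt (Subgroup.index_eq_one.1 h)
  -- Frattini
  obtain ⟨Q⟩ := (inferInstance : Nonempty (Sylow 13 N))
  obtain ⟨d, hd⟩ := hdvdG N
  have hQ : Nat.card (Q : Subgroup N) = 13 := by
    obtain ⟨e, he⟩ := h13N
    have he' : ¬ 13 ∣ e := by
      rintro ⟨e', rfl⟩
      have h169 : 169 ∣ 5616 := by
        refine ⟨e' * d, ?_⟩
        rw [hd, he]; ring
      omega
    have := sylow_card_of_card_eq (p := 13) (a := 1) (m := e) (by rw [he]; ring) he' Q
    simpa using this
  have hsup := Sylow.normalizer_sup_eq_top Q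
  set R : Subgroup G := (Q : Subgroup N).map N.subtype with hR
  have hRcard : Nat.card R = 13 := by
    rw [hR, Subgroup.card_map_of_injective N.subtype_injective, hQ]
  have hRp : IsPGroup 13 R := by
    rw [IsPGroup.iff_card]
    exact ⟨1, by rw [hRcard]; norm_num⟩
  obtain ⟨S, hS⟩ := hRp.exists_le_sylow
  have hRS : R = (S : Subgroup G) :=
    Subgroup.eq_of_le_of_card_ge hS (by rw [hP, hRcard])
  have hH : Nat.card (normalizer (R : Set G)) = 39 := by
    rw [hRS]; exact hNP S
  have hidxrel := Subgroup.relIndex_sup_right (normalizer (R : Set G)) N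
  rw [hsup, Subgroup.relIndex_top_right] at hidxrel
  have hidx : N.index ∣ 39 := by
    rw [hidxrel, ← hH]
    exact Subgroup.relIndex_dvd_card _ _
  have hidx3 : N.index = 3 := by
    have h6 : N.index ∈ Nat.divisors 39 := Nat.mem_divisors.2 ⟨hidx, by norm_num⟩
    have h7 : Nat.divisors 39 = {1, 3, 13, 39} := by decide +kernel
    rw [h7] at h6
    simp only [Finset.mem_insert, Finset.mem_singleton] at h6
    obtain ⟨e, he⟩ := h13N
    rcases h6 with h | h | h | h
    · exact absurd h hidx1
    · exact h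
    · rw [h, he] at hmul; omega
    · rw [h, he] at hmul; omega
  have hNc : Nat.card N = 1872 := by
    rw [hidx3] at hmul; omega
  -- the normalizer of `Q` in `N`
  have hcard13 : Nat.card (N.subgroupOf (normalizer (R : Set G))) = 13 := by
    have h1 := Subgroup.card_mul_index (N.subgroupOf (normalizer (R : Set G)))
    have h2 : (N.subgroupOf (normalizer (R : Set G))).index = 3 := by
      rw [← Subgroup.relIndex, ← hidxrel, hidx3]
    rw [h2, hH] at h1
    omega
  have hRle : ∀ y : G, y ∈ N → y ∈ normalizer (R : Set G) → y ∈ R := by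
    -- `R` has the same size as `N ∩ N(R)`
    have hle : R.subgroupOf (normalizer (R : Set G)) ≤ N.subgroupOf (normalizer (R : Set G)) := by
      intro y hy
      rw [Subgroup.mem_subgroupOf] at hy ⊢
      have hy' : (y : G) ∈ (Q : Subgroup N).map N.subtype := hy
      obtain ⟨z, -, hz⟩ := hy'
      rw [← hz]
      exact z.2
    have hcardR : Nat.card (R.subgroupOf (normalizer (R : Set G))) = 13 := by
      have hle2 : R ≤ normalizer (R : Set G) := Subgroup.le_normalizer
      rw [← hRcard]
      exact Nat.card_congr (Subgroup.subgroupOfEquivOfLe hle2).toEquiv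
    have heq : R.subgroupOf (normalizer (R : Set G)) = N.subgroupOf (normalizer (R : Set G)) :=
      Subgroup.eq_of_le_of_card_ge hle (by rw [hcard13, hcardR])
    intro y hyN hyR
    have h1 : (⟨y, hyR⟩ : normalizer (R : Set G)) ∈ N.subgroupOf (normalizer (R : Set G)) := by
      rw [Subgroup.mem_subgroupOf]; exact hyN
    rw [← heq, Subgroup.mem_subgroupOf] at h1
    exact h1
  have hQzp : IsMulCommutative (Q : Subgroup N) := by
    have hQcyc : IsCyclic (Q : Subgroup N) := isCyclic_of_prime_card hQ
    exact ⟨⟨fun a b => by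
      obtain ⟨g, hg⟩ := hQcyc.exists_generator
      obtain ⟨i, rfl⟩ := Subgroup.mem_zpowers_iff.1 (hg a)
      obtain ⟨j, rfl⟩ := Subgroup.mem_zpowers_iff.1 (hg b)
      exact (Commute.refl g).zpow_zpow i j⟩⟩
  have hNorm : normalizer ((Q : Subgroup N) : Set N) ≤ centralizer ((Q : Subgroup N) : Set N) := by
    intro y hy
    have h1 : (y : G) ∈ normalizer (R : Set G) := by
      rw [Subgroup.mem_normalizer_iff] at hy ⊢
      intro g
      constructor
      · intro hg
        rw [hR] at hg ⊢
        obtain ⟨z, hz, rfl⟩ := hg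
        exact ⟨y * z * y⁻¹, (hy z).1 hz, rfl⟩
      · intro hg
        rw [hR] at hg ⊢
        obtain ⟨z, hz, hz2⟩ := hg
        have hgN : g ∈ N := by
          have h3 : y⁻¹ * z * y ∈ (Q : Subgroup N) := by
            have := (hy (y⁻¹ * z * y)).2 (by
              have e : y * (y⁻¹ * z * y) * y⁻¹ = z := by group
              rw [e]
              exact hz)
            exact this
          have h4 : g = ((y⁻¹ * z * y : N) : G) := by
            have : (y : G) * g * (y : G)⁻¹ = (z : G) := hz2.symm
            have h5 : g = (y : G)⁻¹ * (z : G) * y := by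
              rw [← this]; group
            rw [h5]
            rfl
          rw [h4]
          exact (y⁻¹ * z * y).2
        refine ⟨⟨g, hgN⟩, ?_, rfl⟩
        apply (hy ⟨g, hgN⟩).2
        have h6 : y * ⟨g, hgN⟩ * y⁻¹ = z := by
          apply Subtype.ext
          exact hz2.symm
        rw [h6]
        exact hz
    have h2 : (y : G) ∈ R := hRle _ y.2 h1
    rw [hR] at h2
    obtain ⟨z, hz, hz2⟩ := h2
    have hzy : z = y := Subtype.ext hz2
    rw [← hzy] at *
    rw [Subgroup.mem_centralizer_iff]
    intro w hw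
    have := hQzp.is_comm.comm (⟨w, hw⟩ : (Q : Subgroup N)) ⟨z, hz⟩
    exact congrArg (fun t : (Q : Subgroup N) => (t : N)) this
  -- Burnside's transfer theorem in `N`
  have hKc := MonoidHom.ker_transferSylow_isComplement' Q hNorm
  set K : Subgroup N := (MonoidHom.transferSylow Q hNorm).ker with hK
  have hKcard : Nat.card K = 144 := by
    have := Cfsg.Agent.Lib.TransferCore.card_eq_of_isComplement' hKc
    rw [hQ, hNc] at this
    omega
  have hKmem : ∀ y : N, y ∈ K ↔ Nat.Coprime (orderOf y) 13 :=
    Cfsg.Agent.Lib.TransferCore.mem_of_complement_iff hKc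
  have hK'n : (K.map N.subtype).Normal := by
    refine ⟨fun y hy g => ?_⟩
    obtain ⟨z, hz, rfl⟩ := hy
    have hzN : g * (z : G) * g⁻¹ ∈ N := (inferInstance : N.Normal).conj_mem _ z.2 g
    refine ⟨⟨g * (z : G) * g⁻¹, hzN⟩, ?_, rfl⟩
    show (⟨g * (z : G) * g⁻¹, hzN⟩ : N) ∈ K
    rw [hKmem]
    have h1 : orderOf (⟨g * (z : G) * g⁻¹, hzN⟩ : N) = orderOf z := by
      rw [← Subgroup.orderOf_coe, ← Subgroup.orderOf_coe z]
      show orderOf (g * (z : G) * g⁻¹) = _
      rw [← MulAut.conj_apply, MulEquiv.orderOf_eq]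
    rw [h1]
    exact (hKmem z).1 hz
  have hK'card : Nat.card (K.map N.subtype) = 144 := by
    rw [Subgroup.card_map_of_injective N.subtype_injective, hKcard]
  have := hcop _ hK'n (by rw [hK'card]; norm_num)
  rw [this, Subgroup.card_bot] at hK'card
  omega

end Cfsg.Agent.Lib.Psl33Simple
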