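import Mathlib
import Cfsg.Agent.Lib.Psl33Geom
import Cfsg.Agent.Lib.Psl33Simple

/-!
# Groups with the commuting graph of `SL₃(3)`
-/

set_option autoImplicit false
set_option linter.style.haveILetI false
set_option linter.unusedSectionVars false

namespace Cfsg.Agent.Lib.Psl33Abs

open Subgroup Cfsg.Agent.Lib.Psl33Data Cfsg.Agent.Lib.Psl33Graph Cfsg.Agent.Lib.Psl33Geom
  Cfsg.Agent.Lib.CommGraph Cfsg.Agent.Lib.SmallGroups2

/-- The data extracted from the commuting graph. -/
structure Hyp (X : Type*) [Group X] where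
  card : Nat.card X = 5616
  good : Good 13 X
  cnt : Nat.card {g : X // orderOf g = 13} = 1728
  c54 : ∀ x : X, x ≠ 1 → 27 ∣ Nat.card (centralizer ({x} : Set X)) →
    Nat.card (centralizer ({x} : Set X)) = 54
  τ : Fin 104 → X
  τ_inj : Function.Injective τ
  τ_ne : ∀ i, τ i ≠ 1
  τ_27 : ∀ i, 27 ∣ Nat.card (centralizer ({τ i} : Set X))
  τ_surj : ∀ x : X, x ≠ 1 → 27 ∣ Nat.card (centralizer ({x} : Set X)) → ∃ i, τ i = x
  τ_comm : ∀ i j, τ i * τ j = τ j * τ i ↔ (cen i = cen j ∨ ax i = ax j)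

section

variable {X : Type*} [Group X] [Finite X] (h : Hyp X)

theorem Hyp.exists_act (x : X) (i : Fin 104) : ∃ j, h.τ j = x * h.τ i * x⁻¹ := by
  refine h.τ_surj _ ?_ ?_
  · intro h1
    apply h.τ_ne i
    have h2 := congrArg (fun z => x⁻¹ * z * x) h1
    simpa [mul_assoc] using h2
  · rw [card_centralizer_conj]
    exact h.τ_27 i

/-- The action on the transvections. -/
noncomputable def Hyp.act (x : X) (i : Fin 104) : Fin 104 := (h.exists_act x i).choose

theorem Hyp.τ_act (x : X) (i : Fin 104) : h.τ (h.act x i) = x * h.τ i * x⁻¹ :=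
  (h.exists_act x i).choose_spec

theorem Hyp.act_one (i : Fin 104) : h.act 1 i = i := by
  apply h.τ_inj
  rw [h.τ_act]
  simp

theorem Hyp.act_mul (x y : X) (i : Fin 104) : h.act (x * y) i = h.act x (h.act y i) := by
  apply h.τ_inj
  rw [h.τ_act, h.τ_act, h.τ_act]
  group

/-- The action as a homomorphism. -/
noncomputable def Hyp.actHom : X →* Function.End (Fin 104) where
  toFun := h.act
  map_one' := funext h.act_one
  map_mul' x y := funext (h.act_mul x y)

/-- The action as a homomorphism to permutations. -/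
noncomputable def Hyp.π : X →* Equiv.Perm (Fin 104) := h.actHom.toHomPerm

theorem Hyp.π_apply (x : X) (i : Fin 104) : h.π x i = h.act x i := rfl

theorem Hyp.adj_π (x : X) (u v : Fin 104) : Adj cen ax u v ↔ Adj cen ax (h.π x u) (h.π x v) := by
  show (cen u = cen v ∨ ax u = ax v) ↔ (cen (h.π x u) = cen (h.π x v) ∨ ax (h.π x u) = ax (h.π x v))
  rw [← h.τ_comm, ← h.τ_comm, h.π_apply, h.π_apply, h.τ_act, h.τ_act]
  constructor
  · intro e
    calc x * h.τ u * x⁻¹ * (x * h.τ v * x⁻¹) = x * (h.τ u * h.τ v) * x⁻¹ := by group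
      _ = x * (h.τ v * h.τ u) * x⁻¹ := by rw [e]
      _ = _ := by group
  · intro e
    have : x * (h.τ u * h.τ v) * x⁻¹ = x * (h.τ v * h.τ u) * x⁻¹ := by
      calc x * (h.τ u * h.τ v) * x⁻¹ = x * h.τ u * x⁻¹ * (x * h.τ v * x⁻¹) := by group
        _ = x * h.τ v * x⁻¹ * (x * h.τ u * x⁻¹) := e
        _ = _ := by group
    simpa using this

theorem Hyp.dich_π (x : X) : Pres cen ax (h.π x) ∨ Swap cen ax (h.π x) :=
  dich R1 R2 (h.π x) (h.adj_π x) conn 0

theorem Hyp.not_both (x : X) (h1 : Pres cen ax (h.π x)) (h2 : Swap cen ax (h.π x)) : False :=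
  not_pres_swap R1 R2 (h.π x) (h.adj_π x) 0 h1 h2

include h in
theorem Hyp.isSimple : IsSimpleGroup X :=
  Cfsg.Agent.Lib.Psl33Simple.isSimple h.card h.cnt h.good h.c54

/-- The subgroup preserving both kinds of edges. -/
noncomputable def Hyp.K : Subgroup X where
  carrier := {x | Pres cen ax (h.π x)}
  mul_mem' := fun {a b} ha hb => by
    show Pres cen ax (h.π (a * b))
    rw [map_mul, Equiv.Perm.coe_mul]
    exact pres_comp ha hb
  one_mem' := by
    show Pres cen ax (h.π 1)
    rw [map_one]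
    exact pres_id
  inv_mem' := fun {a} ha => by
    show Pres cen ax (h.π a⁻¹)
    rcases h.dich_π a⁻¹ with h1 | h1
    · exact h1
    · exfalso
      have h2 : Swap cen ax (h.π (a⁻¹ * a)) := by
        rw [map_mul, Equiv.Perm.coe_mul]
        exact swap_pres_comp h1 ha
      rw [inv_mul_cancel] at h2
      apply h.not_both 1 _ h2
      rw [map_one]
      exact pres_id

theorem Hyp.mem_K (x : X) : x ∈ h.K ↔ Pres cen ax (h.π x) := Iff.rfl

theorem Hyp.mul_mem_K {x y : X} (hx : x ∉ h.K) (hy : y ∉ h.K) : x * y ∈ h.K := by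
  rw [h.mem_K] at hx hy ⊢
  rw [map_mul, Equiv.Perm.coe_mul]
  exact swap_comp ((h.dich_π x).resolve_left hx) ((h.dich_π y).resolve_left hy)

theorem Hyp.K_normal : h.K.Normal := by
  refine ⟨fun y hy g => ?_⟩
  by_cases hg : g ∈ h.K
  · exact h.K.mul_mem (h.K.mul_mem hg hy) (h.K.inv_mem hg)
  · have h1 : g * y ∉ h.K := fun h2 => hg (by
      have := h.K.mul_mem h2 (h.K.inv_mem hy)
      simpa using this)
    have h2 : g⁻¹ ∉ h.K := fun h3 => hg (by simpa using h.K.inv_mem h3)
    exact h.mul_mem_K h1 h2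

include h in
theorem Hyp.exists_order13 : ∃ y : X, orderOf y = 13 := by
  have h1 : 0 < Nat.card {g : X // orderOf g = 13} := by rw [h.cnt]; norm_num
  obtain ⟨y⟩ := (Nat.card_pos_iff.1 h1).1
  exact ⟨y.1, y.2⟩

theorem Hyp.order13_mem_K {y : X} (hy : orderOf y = 13) : y ∈ h.K := by
  by_contra hn
  have h1 : y * y ∈ h.K := h.mul_mem_K hn hn
  apply hn
  have h2 : y = (y * y) ^ 7 := by
    have h3 : y ^ 13 = 1 := by rw [← hy]; exact pow_orderOf_eq_one y
    calc y = y ^ 13 * y := by rw [h3, one_mul]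
      _ = (y * y) ^ 7 := by
        simp only [pow_succ, pow_zero, one_mul, mul_assoc]
  rw [h2]
  exact h.K.pow_mem h1 7

theorem Hyp.all_pres (x : X) : Pres cen ax (h.π x) := by
  haveI := h.isSimple
  haveI := h.K_normal
  rcases (inferInstance : h.K.Normal).eq_bot_or_eq_top with hb | ht
  · exfalso
    obtain ⟨y, hy⟩ := h.exists_order13
    have h1 := h.order13_mem_K hy
    rw [hb, Subgroup.mem_bot] at h1
    rw [h1, orderOf_one] at hy
    omega
  · have : x ∈ h.K := by rw [ht]; trivial
    exact this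

/-- The action on points. -/
noncomputable def Hyp.rho (x : X) (p : Fin 13) : Fin 13 := cen (h.π x (secCf p))

/-- The action on lines. -/
noncomputable def Hyp.lam (x : X) (p : Fin 13) : Fin 13 := ax (h.π x (secAf p))

theorem Hyp.rho_spec (x : X) (u : Fin 104) : cen (h.π x u) = h.rho x (cen u) :=
  (h.all_pres x).1 _ _ (secC_spec _).symm

theorem Hyp.lam_spec (x : X) (u : Fin 104) : ax (h.π x u) = h.lam x (ax u) :=
  (h.all_pres x).2 _ _ (secA_spec _).symm

/-- The action on points as a homomorphism. -/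
noncomputable def Hyp.φ₀ : X →* Function.End (Fin 13) where
  toFun := h.rho
  map_one' := by
    funext p
    show cen (h.π 1 (secCf p)) = p
    rw [map_one]
    exact secC_spec p
  map_mul' x y := by
    funext p
    show cen (h.π (x * y) (secCf p)) = h.rho x (cen (h.π y (secCf p)))
    rw [map_mul, ← h.rho_spec]
    rfl

/-- The action on points as a homomorphism to permutations. -/
noncomputable def Hyp.φ : X →* Equiv.Perm (Fin 13) := h.φ₀.toHomPerm

theorem Hyp.φ_apply (x : X) (p : Fin 13) : h.φ x p = h.rho x p := rfl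

theorem Hyp.inc_map (x : X) {p l : Fin 13} (hi : incT p l = true) :
    incT (h.rho x p) (h.lam x l) = true := by
  obtain ⟨i, rfl, rfl⟩ := (inc_iff p l).1 hi
  exact (inc_iff _ _).2 ⟨h.π x i, h.rho_spec x i, h.lam_spec x i⟩

theorem Hyp.col_map (x : X) {p q r : Fin 13} (hc : col p q r = true) :
    col (h.rho x p) (h.rho x q) (h.rho x r) = true := by
  obtain ⟨l, h1, h2, h3⟩ := inc_of_col p q r hc
  exact col_of_inc _ _ _ _ (h.inc_map x h1) (h.inc_map x h2) (h.inc_map x h3)

theorem Hyp.φ_mem (x : X) : h.φ x ∈ Coll := by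
  intro p q r
  constructor
  · exact h.col_map x
  · intro hc
    have h1 := h.col_map x⁻¹ hc
    have e : ∀ p, h.rho x⁻¹ (h.φ x p) = p := by
      intro p
      have : (h.φ (x⁻¹ * x)) p = p := by rw [inv_mul_cancel, map_one]; rfl
      rw [map_mul] at this
      exact this
    rwa [e, e, e] at h1

theorem Hyp.φ_injective : Function.Injective h.φ := by
  haveI := h.isSimple
  rw [← MonoidHom.ker_eq_bot_iff]
  rcases (inferInstance : h.φ.ker.Normal).eq_bot_or_eq_top with hb | ht
  · exact hb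
  · exfalso
    obtain ⟨y, hy⟩ := h.exists_order13
    have hy1 : h.φ y = 1 := by
      rw [← MonoidHom.mem_ker, ht]; trivial
    have hr : ∀ p, h.rho y p = p := fun p => by
      rw [← h.φ_apply, hy1]; rfl
    have hl : ∀ l, h.lam y l = l := fun l => by
      refine (line_det l (h.lam y l) fun p hp => ?_).symm
      have := h.inc_map y hp
      rwa [hr] at this
    have htw : ∀ u, h.π y u = u ∨ h.π y u = bar u := by
      intro u
      refine (tw_table u _).1 ⟨?_, ?_⟩
      · rw [h.rho_spec, hr]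
      · rw [h.lam_spec, hl]
    have hsq : h.π y (h.π y 0) = 0 := by
      rcases htw 0 with h1 | h1
      · rw [h1, h1]
      · rw [h1]
        rcases htw (bar 0) with h2 | h2
        · have h3 : h.π y 0 = h.π y (bar 0) := by rw [h1, h2]
          have h4 := (h.π y).injective h3
          rw [h2, ← h4]
        · rw [h2]
          decide +kernel
    have hcomm : (y * y) * h.τ 0 = h.τ 0 * (y * y) := by
      have h1 : h.τ (h.π (y * y) 0) = (y * y) * h.τ 0 * (y * y)⁻¹ := h.τ_act _ _
      rw [map_mul] at h1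
      have h2 : h.τ 0 = (y * y) * h.τ 0 * (y * y)⁻¹ := by
        rw [← h1]
        show h.τ 0 = h.τ (h.π y (h.π y 0))
        rw [hsq]
      calc (y * y) * h.τ 0 = ((y * y) * h.τ 0 * (y * y)⁻¹) * (y * y) := by group
        _ = h.τ 0 * (y * y) := by rw [← h2]
    have hmem : y ∈ centralizer ({h.τ 0} : Set X) := by
      have h1 : y * y ∈ centralizer ({h.τ 0} : Set X) := mem_centralizer_singleton_iff.2 hcomm
      have h2 : y = (y * y) ^ 7 := by
        have h3 : y ^ 13 = 1 := by rw [← hy]; exact pow_orderOf_eq_one y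
        calc y = y ^ 13 * y := by rw [h3, one_mul]
          _ = (y * y) ^ 7 := by
            simp only [pow_succ, pow_zero, one_mul, mul_assoc]
      rw [h2]
      exact Subgroup.pow_mem _ h1 7
    have h54 := h.c54 _ (h.τ_ne 0) (h.τ_27 0)
    have hd := orderOf_dvd_natCard (⟨y, hmem⟩ : centralizer ({h.τ 0} : Set X))
    rw [Subgroup.orderOf_mk, hy, h54] at hd
    omega

theorem Hyp.range_coe : (h.φ.range : Set (Equiv.Perm (Fin 13))) = Coll := by
  have hsub : (h.φ.range : Set (Equiv.Perm (Fin 13))) ⊆ Coll := by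
    rintro _ ⟨x, rfl⟩
    exact h.φ_mem x
  refine Set.eq_of_subset_of_ncard_le hsub ?_ (Set.toFinite _)
  rw [← Nat.card_coe_set_eq, ← Nat.card_coe_set_eq]
  have h1 : Nat.card (h.φ.range : Set (Equiv.Perm (Fin 13))) = 5616 := by
    show Nat.card h.φ.range = 5616
    rw [← Nat.card_congr (MonoidHom.ofInjective h.φ_injective).toEquiv, h.card]
  rw [h1]
  exact card_Coll

end

theorem iso {X Y : Type*} [Group X] [Finite X] [Group Y] [Finite Y] (hX : Hyp X) (hY : Hyp Y) :
    Nonempty (X ≃* Y) := by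
  have heq : hX.φ.range = hY.φ.range := SetLike.coe_injective (hX.range_coe.trans hY.range_coe.symm)
  exact ⟨(MonoidHom.ofInjective hX.φ_injective).trans
    ((MulEquiv.subgroupCongr heq).trans (MonoidHom.ofInjective hY.φ_injective).symm)⟩

/-- The hypotheses hold for groups with the commuting graph of `SL₃(3)`. -/
noncomputable def hypOfEquiv {X : Type*} [Group X] [Finite X]
    (f : {x : X // x ≠ 1} ≃ {g : SL3 // g ≠ 1})
    (hf : ∀ x y : {x : X // x ≠ 1}, (x : X) * y = y * x ↔ ((f x) : SL3) * (f y) = (f y) * (f x)) : Hyp X where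
  card := by rw [card_eq_of_equiv f, card_SL3]
  good := good_transfer f hf (by norm_num) good13
  cnt := by rw [card_order_transfer f hf (by norm_num) good13, card_order13]
  c54 := fun x hx h27 => by
    have h1 := card_centralizer_transfer f hf ⟨x, hx⟩
    simp only at h1
    rw [h1] at h27 ⊢
    exact card_C_of_27 _ (f ⟨x, hx⟩).2 h27
  τ := fun i => (f.symm ⟨tvS i, tvS_ne i⟩).1
  τ_inj := fun i j hij => by
    apply tvS_inj
    have h1 := f.symm.injective (Subtype.ext hij)
    exact congrArg Subtype.val h1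
  τ_ne := fun i => (f.symm ⟨tvS i, tvS_ne i⟩).2
  τ_27 := fun i => by
    have h1 := card_centralizer_transfer f hf (f.symm ⟨tvS i, tvS_ne i⟩)
    rw [h1, Equiv.apply_symm_apply, tvS_card]
    norm_num
  τ_surj := fun x hx h27 => by
    have h1 := card_centralizer_transfer f hf ⟨x, hx⟩
    simp only at h1
    rw [h1] at h27
    obtain ⟨i, hi⟩ := tvS_surj _ (f ⟨x, hx⟩).2 h27
    refine ⟨i, ?_⟩
    have h2 : (⟨tvS i, tvS_ne i⟩ : {g : SL3 // g ≠ 1}) = f ⟨x, hx⟩ := Subtype.ext hi
    show (f.symm ⟨tvS i, tvS_ne i⟩ : {x : X // x ≠ 1}).1 = x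
    rw [h2, Equiv.symm_apply_apply]
  τ_comm := fun i j => by
    rw [hf, Equiv.apply_symm_apply, Equiv.apply_symm_apply]
    exact tvS_comm i j

end Cfsg.Agent.Lib.Psl33Abs
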