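import Mathlib
import Cfsg.Agent.Lib.PCore
import Cfsg.Agent.Lib.Replacement
import Cfsg.Agent.Lib.AbReplace

/-!
# Rank one pushing up: characters with free orbits and the offender bound
-/

set_option autoImplicit false

namespace Cfsg.Agent.Lib.PushUp1

open Cfsg Cfsg.Agent.Lib.PCore Cfsg.Agent.Lib.Replacement Cfsg.Agent.Lib.AbReplace
open scoped commutatorElement

section Chars

variable {X : Type*} [CommGroup X] [Finite X]

theorem exists_char_of_ne_top (T : Subgroup X) (h : T ≠ ⊤) :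
    ∃ f : X →* ℂˣ, f ≠ 1 ∧ T ≤ f.ker := by
  classical
  obtain ⟨x, hx⟩ : ∃ x, x ∉ T := by
    by_contra hc
    push Not at hc
    exact h (eq_top_iff.mpr fun y _ => hc y)
  let Q := X ⧸ T
  haveI : NeZero (Monoid.exponent Q) := ⟨Monoid.exponent_ne_zero_of_finite⟩
  have hq : (QuotientGroup.mk x : Q) ≠ 1 := by
    rwa [Ne, QuotientGroup.eq_one_iff]
  obtain ⟨φ, hφ⟩ := CommGroup.exists_apply_ne_one_of_hasEnoughRootsOfUnity Q ℂ hq
  refine ⟨φ.comp (QuotientGroup.mk' T), ?_, ?_⟩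
  · intro hc
    apply hφ
    have := congrArg (fun g : X →* ℂˣ => g x) hc
    exact this
  · intro t ht
    rw [MonoidHom.mem_ker, MonoidHom.comp_apply, QuotientGroup.mk'_apply,
      (QuotientGroup.eq_one_iff t).mpr ht, map_one]

theorem card_char_le (C : Subgroup X) :
    Nat.card {f : X →* ℂˣ // C ≤ f.ker} ≤ C.index := by
  classical
  let Q := X ⧸ C
  haveI : NeZero (Monoid.exponent Q) := ⟨Monoid.exponent_ne_zero_of_finite⟩
  have hc : Nat.card (Q →* ℂˣ) = Nat.card Q := CommGroup.card_monoidHom_of_hasEnoughRootsOfUnity Q ℂ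
  have : Finite (Q →* ℂˣ) := by
    apply Nat.finite_of_card_ne_zero
    rw [hc]; exact Nat.card_pos.ne'
  rw [Subgroup.index, ← hc]
  refine Nat.card_le_card_of_injective
    (fun f => QuotientGroup.lift C f.1 (fun t ht => f.2 ht)) ?_
  intro f g hfg
  apply Subtype.ext
  ext x
  have := congrArg (fun h : Q →* ℂˣ => h (QuotientGroup.mk x)) hfg
  exact congrArg Units.val this

end Chars

/-- Index bound from a map whose fibres are the cosets of a subgroup. -/
theorem index_le_of_fibers {A β : Type*} [Group A] [Finite β] (H : Subgroup A) (ψ : A → β)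
    (h : ∀ a b, ψ a = ψ b ↔ a⁻¹ * b ∈ H) : H.index ≤ Nat.card β := by
  classical
  rw [Subgroup.index]
  refine Nat.card_le_card_of_injective
    (Quotient.lift (s := QuotientGroup.leftRel H) ψ (fun a b hab => ?_)) ?_
  · exact (h a b).mpr (QuotientGroup.leftRel_apply.mp hab)
  · intro x y
    refine Quotient.inductionOn₂ x y ?_
    intro a b hab
    exact Quotient.sound (QuotientGroup.leftRel_apply.mpr ((h a b).mp hab))

variable {G : Type*} [Group G]

/-- Relative index times intersection order. -/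
theorem relIndex_mul_card_inf [Finite G] (H K : Subgroup G) :
    H.relIndex K * Nat.card ↥(K ⊓ H) = Nat.card K := by
  have h1 := Subgroup.card_mul_index (H.subgroupOf K)
  rw [card_subgroupOf] at h1
  rw [Subgroup.relIndex, mul_comm]
  exact h1

section Free

variable {X : Subgroup G} [hXn : X.Normal]

/-- The twist of a character of the normal subgroup `X` by `g`. -/
noncomputable def twist (f : ↥X →* ℂˣ) (g : G) : ↥X →* ℂˣ :=
  f.comp (MulAut.conjNormal g).toMonoidHom

@[simp] theorem twist_apply (f : ↥X →* ℂˣ) (g : G) (x : ↥X) :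
    twist f g x = f (MulAut.conjNormal g x) := rfl

theorem twist_mul (f : ↥X →* ℂˣ) (g h : G) : twist f (g * h) = twist (twist f g) h := by
  ext x
  simp [twist, map_mul]

theorem twist_one (f : ↥X →* ℂˣ) : twist f (1 : G) = f := by
  ext x
  simp [twist]

/-- The stabilizer of a character. -/
noncomputable def stabChar (f : ↥X →* ℂˣ) : Subgroup G where
  carrier := {g | twist f g = f}
  one_mem' := twist_one f
  mul_mem' := by
    intro a b ha hb
    simp only [Set.mem_setOf_eq] at ha hb ⊢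
    rw [twist_mul, ha, hb]
  inv_mem' := by
    intro a ha
    simp only [Set.mem_setOf_eq] at ha ⊢
    have h := twist_mul f a a⁻¹
    rw [mul_inv_cancel, twist_one, ha] at h
    exact h.symm

theorem mem_stabChar {f : ↥X →* ℂˣ} {g : G} : g ∈ stabChar f ↔ twist f g = f := Iff.rfl

/-- Existence of a character fixed by the `p`-group `B` but not by all of `G`. -/
theorem exists_free_char [Finite G] {p : ℕ} [Fact p.Prime] (hXp : IsPGroup p X)
    (hXc : ∀ a ∈ X, ∀ b ∈ X, a * b = b * a) (hXne : X ≠ ⊥) (hXG : ⁅X, (⊤ : Subgroup G)⁆ = X)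
    (B : Subgroup G) (hB : IsPGroup p B) :
    ∃ f : ↥X →* ℂˣ, B ≤ stabChar f ∧ stabChar f ≠ ⊤ := by
  classical
  letI : CommGroup ↥X :=
    { (inferInstance : Group ↥X) with
      mul_comm := fun a b => Subtype.ext (hXc a a.2 b b.2) }
  have hne : (⁅X, B⁆ : Subgroup G).subgroupOf X ≠ ⊤ := by
    intro htop
    have hle : X ≤ ⁅X, B⁆ := by
      intro x hx
      have : (⟨x, hx⟩ : ↥X) ∈ (⁅X, B⁆ : Subgroup G).subgroupOf X := by rw [htop]; trivial
      exact Subgroup.mem_subgroupOf.mp this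
    exact hXne (eq_bot_of_le_comm_pgroup hXp hB (fun b _ => by rw [Subgroup.normalizer_eq_top_iff.mpr hXn]; trivial) hle)
  obtain ⟨f, hf1, hfT⟩ := exists_char_of_ne_top _ hne
  have key : ∀ g : G, ∀ x : ↥X, ⁅x.1, g⁆ ∈ X := fun g x => by
    have : ⁅x.1, g⁆ = x.1 * (g * x.1⁻¹ * g⁻¹) := by
      simp [commutatorElement_def, mul_assoc]
    rw [this]
    exact X.mul_mem x.2 (hXn.conj_mem _ (X.inv_mem x.2) g)
  have key2 : ∀ g : G, ∀ x : ↥X, (MulAut.conjNormal g x : ↥X) = x * (⟨⁅x.1⁻¹, g⁆, key g ⟨x.1⁻¹, X.inv_mem x.2⟩⟩ : ↥X) := by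
    intro g x
    apply Subtype.ext
    simp [commutatorElement_def, mul_assoc]
  refine ⟨f, ?_, ?_⟩
  · intro b hb
    rw [mem_stabChar]
    ext x
    rw [twist_apply, key2]
    have hT : (⟨⁅x.1⁻¹, b⁆, key b ⟨x.1⁻¹, X.inv_mem x.2⟩⟩ : ↥X) ∈ f.ker :=
      hfT (Subgroup.mem_subgroupOf.mpr (Subgroup.commutator_mem_commutator (X.inv_mem x.2) hb))
    rw [map_mul, MonoidHom.mem_ker.mp hT, mul_one]
  · intro htop
    apply hf1
    have hall : ∀ g : G, twist f g = f := fun g => by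
      have : g ∈ stabChar f := by rw [htop]; trivial
      exact this
    have hle : X ≤ (f.ker).map X.subtype := by
      conv_lhs => rw [← hXG]
      rw [Subgroup.commutator_le]
      intro x hx g _
      refine ⟨⟨⁅x, g⁆, key g ⟨x, hx⟩⟩, ?_, rfl⟩
      have h1 := key2 g ⟨x⁻¹, X.inv_mem hx⟩
      have h2 : f (MulAut.conjNormal g (⟨x⁻¹, X.inv_mem hx⟩ : ↥X)) = f ⟨x⁻¹, X.inv_mem hx⟩ := by
        have := congrArg (fun h : ↥X →* ℂˣ => h ⟨x⁻¹, X.inv_mem hx⟩) (hall g)
        simpa using this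
      rw [h1, map_mul] at h2
      have h3 : f (⟨⁅(⟨x⁻¹, X.inv_mem hx⟩ : ↥X).1⁻¹, g⁆, key g ⟨(⟨x⁻¹, X.inv_mem hx⟩ : ↥X).1⁻¹, X.inv_mem (X.inv_mem hx)⟩⟩ : ↥X) = 1 := by
        exact mul_left_cancel (h2.trans (mul_one _).symm)
      have h4 : (⟨⁅x, g⁆, key g ⟨x, hx⟩⟩ : ↥X) = ⟨⁅(⟨x⁻¹, X.inv_mem hx⟩ : ↥X).1⁻¹, g⁆, key g ⟨(⟨x⁻¹, X.inv_mem hx⟩ : ↥X).1⁻¹, X.inv_mem (X.inv_mem hx)⟩⟩ := by
        apply Subtype.ext
        simp
      show (⟨⁅x, g⁆, key g ⟨x, hx⟩⟩ : ↥X) ∈ f.ker
      rw [MonoidHom.mem_ker, h4]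
      exact h3
    ext x
    obtain ⟨y, hy, hyx⟩ := hle x.2
    have : y = x := Subtype.ext hyx
    rw [← this, MonoidHom.mem_ker.mp hy]
    rfl

/-- The counting bound: elements of `A` outside `R` move `f`, and `R` centralizes `X`. -/
theorem card_bound [Finite G] (hXc : ∀ a ∈ X, ∀ b ∈ X, a * b = b * a) (A R : Subgroup G)
    (hR : ∀ r ∈ R, ∀ x ∈ X, r * x = x * r) (f : ↥X →* ℂˣ) (hf : ∀ a ∈ A, a ∈ stabChar f → a ∈ R) :
    Nat.card A * Nat.card ↥(X ⊓ Subgroup.centralizer (A : Set G)) ≤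
      Nat.card X * Nat.card ↥(A ⊓ R) := by
  classical
  letI : CommGroup ↥X :=
    { (inferInstance : Group ↥X) with
      mul_comm := fun a b => Subtype.ext (hXc a a.2 b b.2) }
  let C : Subgroup ↥X := (Subgroup.centralizer (A : Set G)).subgroupOf X
  let H : Subgroup ↥A := R.subgroupOf A
  have hmem : ∀ a : ↥A, ∀ c ∈ C, (MulAut.conjNormal a.1⁻¹ c : ↥X) = c := by
    intro a c hc
    apply Subtype.ext
    have h1 : c.1 ∈ Subgroup.centralizer (A : Set G) := Subgroup.mem_subgroupOf.mp hc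
    have h2 : a.1⁻¹ * c.1 = c.1 * a.1⁻¹ :=
      (Subgroup.mem_centralizer_iff.mp h1 a.1⁻¹ (A.inv_mem a.2))
    simp [MulAut.conjNormal_apply, h2]
  let ψ : ↥A → {φ : ↥X →* ℂˣ // C ≤ φ.ker} := fun a =>
    ⟨twist f a.1⁻¹ * f⁻¹, fun c hc => by
      rw [MonoidHom.mem_ker, MonoidHom.mul_apply, twist_apply, hmem a c hc, MonoidHom.inv_apply,
        mul_inv_cancel]⟩
  have hRst : ∀ r ∈ R, twist f r = f := by
    intro r hr
    ext x
    rw [twist_apply]
    have : (MulAut.conjNormal r x : ↥X) = x := by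
      apply Subtype.ext
      simp [MulAut.conjNormal_apply, hR r hr x.1 x.2]
    rw [this]
  have hfib : ∀ a b : ↥A, ψ a = ψ b ↔ a⁻¹ * b ∈ H := by
    intro a b
    have hiff : ψ a = ψ b ↔ twist f a.1⁻¹ = twist f b.1⁻¹ := by
      constructor
      · intro hab
        exact mul_right_cancel (congrArg Subtype.val hab)
      · intro hab
        apply Subtype.ext
        exact congrArg (· * f⁻¹) hab
    rw [hiff]
    constructor
    · intro hab
      have h2 : b.1⁻¹ * a.1 ∈ stabChar f := by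
        rw [mem_stabChar]
        have h := twist_mul f b.1⁻¹ a.1
        rw [← hab, ← twist_mul, inv_mul_cancel, twist_one] at h
        exact h
      have h3 : b.1⁻¹ * a.1 ∈ R := hf _ (A.mul_mem (A.inv_mem b.2) a.2) h2
      have h4 : a.1⁻¹ * b.1 ∈ R := by
        have := R.inv_mem h3
        simpa using this
      exact Subgroup.mem_subgroupOf.mpr h4
    · intro hab
      have h1 : a.1⁻¹ * b.1 ∈ R := Subgroup.mem_subgroupOf.mp hab
      have h2 : b.1⁻¹ * a.1 ∈ R := by
        have := R.inv_mem h1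
        simpa using this
      have h3 : b.1⁻¹ = (b.1⁻¹ * a.1) * a.1⁻¹ := by group
      rw [h3, twist_mul, hRst _ h2]
  have : Finite {φ : ↥X →* ℂˣ // C ≤ φ.ker} := by
    have hfin : Finite (↥X →* ℂˣ) := by
      haveI : NeZero (Monoid.exponent ↥X) := ⟨Monoid.exponent_ne_zero_of_finite⟩
      apply Nat.finite_of_card_ne_zero
      rw [CommGroup.card_monoidHom_of_hasEnoughRootsOfUnity ↥X ℂ]
      exact Nat.card_pos.ne'
    exact Subtype.finite
  have hle := (index_le_of_fibers H ψ hfib).trans (card_char_le C)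
  -- translate
  have h1 : H.index * Nat.card ↥(A ⊓ R) = Nat.card A := by
    have := relIndex_mul_card_inf R A
    rwa [Subgroup.relIndex] at this
  have h2 : C.index * Nat.card ↥(X ⊓ Subgroup.centralizer (A : Set G)) = Nat.card X := by
    have := relIndex_mul_card_inf (Subgroup.centralizer (A : Set G)) X
    rwa [Subgroup.relIndex] at this
  calc Nat.card A * Nat.card ↥(X ⊓ Subgroup.centralizer (A : Set G))
      = H.index * Nat.card ↥(A ⊓ R) * Nat.card ↥(X ⊓ Subgroup.centralizer (A : Set G)) := by rw [h1]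
    _ ≤ C.index * Nat.card ↥(A ⊓ R) * Nat.card ↥(X ⊓ Subgroup.centralizer (A : Set G)) := by gcongr
    _ = C.index * Nat.card ↥(X ⊓ Subgroup.centralizer (A : Set G)) * Nat.card ↥(A ⊓ R) := by ring
    _ = Nat.card X * Nat.card ↥(A ⊓ R) := by rw [h2]

end Free

end Cfsg.Agent.Lib.PushUp1
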