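import Mathlib
import Cfsg.Agent.Lib.PushUp1
import Cfsg.Agent.Lib.CharTwoLocal
import Cfsg.Agent.Lib.HallHigmanAb

/-!
# Rank one pushing up: abstract data, offender bound and maximal abelian subgroups
-/

set_option autoImplicit false

namespace Cfsg.Agent.Lib.PushUp2

open Cfsg Cfsg.Agent.Lib.PCore Cfsg.Agent.Lib.Replacement Cfsg.Agent.Lib.AbReplace
open Cfsg.Agent.Lib.PushUp1 Cfsg.Agent.Lib.CharTwoLocal
open scoped commutatorElement

variable {G : Type*} [Group G] [Finite G] {p : ℕ} [hp : Fact p.Prime]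

/-- Abstract form of the rank one pushing up hypotheses. -/
structure Data (S : Sylow p G) : Prop where
  cent : Subgroup.centralizer (pCore p G : Set G) ≤ pCore p G
  ne : ¬ (S : Subgroup G) ≤ pCore p G
  top : ∀ D : Subgroup G, D.Normal → (S : Subgroup G) ≤ D → D = ⊤
  invar : ∀ R : Subgroup G, R ≤ (S : Subgroup G) →
    (∀ t ∈ Subgroup.normalizer ((S : Subgroup G) : Set G), ∀ r ∈ R, t * r * t⁻¹ ∈ R) →
    R ≤ pCore p G ∨ (S : Subgroup G) ≤ R ⊔ pCore p G
  gen : ∃ B : Subgroup G, IsPGroup p B ∧ ∀ H : Subgroup G, B ≤ H →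
    ∀ a ∈ (S : Subgroup G), a ∉ pCore p G → a ∈ H → H = ⊤

/-- Nilpotent action on `Y` forces `S`-central elements of `Y` to be central in `G`. -/
theorem nilp_central {S : Sylow p G} {Y : Subgroup G} [hY : Y.Normal] (hYp : IsPGroup p Y)
    {k : ℕ} (hk : iterCommutator Y ⊤ k = ⊥) {w : G} (hw : w ∈ Y)
    (hwS : ∀ s ∈ (S : Subgroup G), s * w = w * s) : w ∈ Subgroup.center G := by
  classical
  -- elements of order prime to `p` centralize `Y`
  have hcop : ∀ g : G, (orderOf g).Coprime p → ∀ y ∈ Y, g * y = y * g := by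
    intro g hg
    have hdown : ∀ j : ℕ, j ≤ k → ∀ y ∈ iterCommutator Y ⊤ (k - j), g * y = y * g := by
      intro j
      induction j with
      | zero =>
        intro _ y hy
        rw [Nat.sub_zero, hk, Subgroup.mem_bot] at hy
        simp [hy]
      | succ j ih =>
        intro hj y hy
        have hih := ih (by omega)
        have hsucc : k - j = (k - (j + 1)) + 1 := by omega
        rw [hsucc] at hih
        have hc : ⁅y⁻¹, g⁆ ∈ iterCommutator Y ⊤ ((k - (j + 1)) + 1) :=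
          Subgroup.commutator_mem_commutator (Subgroup.inv_mem _ hy) trivial
        have hcY : ⁅y⁻¹, g⁆ ∈ Y := HallHigmanAb.iterCommutator_le Y ⊤ hY _ hc
        have hconj : g * y * g⁻¹ = y * ⁅y⁻¹, g⁆ := by
          rw [commutatorElement_def]; group
        exact commute_of_conj_eq_mul hYp hcY hg hconj (hih _ hc)
    intro y hy
    have h0 := hdown k le_rfl y
    rw [Nat.sub_self] at h0
    exact h0 hy
  -- the quotient by the centralizer is a `p`-group
  let C : Subgroup G := Subgroup.centralizer (Y : Set G)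
  haveI hCn : C.Normal := Subgroup.normal_centralizer
  have hq : IsPGroup p (G ⧸ C) := by
    intro x
    induction x using QuotientGroup.induction_on with
    | H g =>
      have hpos : orderOf g ≠ 0 := (orderOf_pos g).ne'
      obtain ⟨a, m, hm, hord⟩ := Nat.exists_eq_pow_mul_and_not_dvd hpos p hp.out.ne_one
      refine ⟨a, ?_⟩
      rw [← QuotientGroup.mk_pow, QuotientGroup.eq_one_iff]
      have hmem : g ^ p ^ a ∈ C := by
        rw [Subgroup.mem_centralizer_iff]
        intro y hy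
        have hord' : orderOf (g ^ p ^ a) = m := by
          rw [orderOf_pow_of_dvd (pow_ne_zero _ hp.out.ne_zero) ⟨m, hord⟩, hord]
          exact Nat.mul_div_cancel_left _ (pow_pos hp.out.pos _)
        have hc : (orderOf (g ^ p ^ a)).Coprime p := by
          rw [hord']
          exact ((Nat.Prime.coprime_iff_not_dvd hp.out).mpr hm).symm
        exact (hcop _ hc y hy).symm
      exact hmem
  have htop : (S : Subgroup G) ⊔ C = ⊤ := by
    have h1 : ((S : Subgroup G) ⊔ C).index ∣ (S : Subgroup G).index :=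
      Subgroup.index_dvd_of_le le_sup_left
    have h2 : ((S : Subgroup G) ⊔ C).index ∣ C.index := Subgroup.index_dvd_of_le le_sup_right
    obtain ⟨n, hn⟩ := IsPGroup.iff_card.mp hq
    have h3 : C.index = p ^ n := hn
    rw [h3, Nat.dvd_prime_pow hp.out] at h2
    obtain ⟨i, _, hi⟩ := h2
    rcases i with _ | i
    · rw [pow_zero] at hi
      exact Subgroup.index_eq_one.mp hi
    · exfalso
      apply S.not_dvd_index
      exact (dvd_pow_self p (Nat.succ_ne_zero i)).trans (hi ▸ h1)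
  rw [Subgroup.mem_center_iff]
  intro g
  have hg : g ∈ (S : Subgroup G) ⊔ C := by rw [htop]; trivial
  obtain ⟨s, hs, c, hc, rfl⟩ := Subgroup.mem_sup_of_normal_right.mp hg
  have hcw : c * w = w * c := (Subgroup.mem_centralizer_iff.mp hc w hw).symm
  calc s * c * w = s * (c * w) := by group
    _ = s * (w * c) := by rw [hcw]
    _ = (s * w) * c := by group
    _ = w * s * c := by rw [hwS s hs]
    _ = w * (s * c) := by group

/-- Existence of a `G`-perfect normal subgroup inside a non-nilpotently acted `Y`. -/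
theorem exists_perfect {Y : Subgroup G} [hY : Y.Normal] (hnil : ∀ k, iterCommutator Y ⊤ k ≠ ⊥) :
    ∃ X : Subgroup G, X.Normal ∧ X ≤ Y ∧ X ≠ ⊥ ∧ ⁅X, (⊤ : Subgroup G)⁆ = X := by
  classical
  have hn : ∀ k, (iterCommutator Y ⊤ k).Normal := by
    intro k
    induction k with
    | zero => exact hY
    | succ k ih =>
      exact Subgroup.commutator_normal _ _
  have hle : ∀ k, iterCommutator Y ⊤ (k + 1) ≤ iterCommutator Y ⊤ k := by
    intro k
    haveI := hn k
    show ⁅iterCommutator Y ⊤ k, ⊤⁆ ≤ _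
    rw [Subgroup.commutator_le]
    intro c hc b _
    have h1 : ⁅c, b⁆ = c * (b * c⁻¹ * b⁻¹) := by
      rw [commutatorElement_def]; group
    rw [h1]
    exact Subgroup.mul_mem _ hc ((hn k).conj_mem _ (Subgroup.inv_mem _ hc) b)
  by_contra hc
  push Not at hc
  have hstrict : ∀ k, iterCommutator Y ⊤ (k + 1) ≠ iterCommutator Y ⊤ k := by
    intro k h
    exact hc _ (hn k) (HallHigmanAb.iterCommutator_le Y ⊤ hY k) (hnil k) h
  have hcard : ∀ k, Nat.card (iterCommutator Y ⊤ k) + k ≤ Nat.card Y := by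
    intro k
    induction k with
    | zero => simp [iterCommutator]
    | succ k ih =>
      have h1 : Nat.card (iterCommutator Y ⊤ (k + 1)) < Nat.card (iterCommutator Y ⊤ k) := by
        by_contra hlt
        push Not at hlt
        exact hstrict k (Subgroup.eq_of_le_of_card_ge (hle k) hlt)
      omega
  have := hcard (Nat.card Y + 1)
  omega

/-- The offender bound. -/
theorem offender {S : Sylow p G} (D : Data S) {Y : Subgroup G} [hY : Y.Normal]
    (hYP : Y ≤ pCore p G) (hYc : ∀ x ∈ pCore p G, ∀ y ∈ Y, x * y = y * x)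
    (hnil : ∀ k, iterCommutator Y ⊤ k ≠ ⊥) {A : Subgroup G} (hA : A ≤ (S : Subgroup G)) :
    Nat.card A * Nat.card ↥(Y ⊓ Subgroup.centralizer (A : Set G)) ≤
      Nat.card Y * Nat.card ↥(A ⊓ pCore p G) := by
  classical
  obtain ⟨X, hXn, hXY, hXne, hXG⟩ := exists_perfect hnil
  haveI := hXn
  have hXP : X ≤ pCore p G := hXY.trans hYP
  have hXp : IsPGroup p X := (isPGroup_pCore p).to_le hXP
  have hXc : ∀ a ∈ X, ∀ b ∈ X, a * b = b * a := fun a ha b hb => hYc a (hXP ha) b (hXY hb)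
  obtain ⟨B, hBp, hB⟩ := D.gen
  obtain ⟨f, hfB, hfne⟩ := exists_free_char hXp hXc hXne hXG B hBp
  have hf : ∀ a ∈ A, a ∈ stabChar f → a ∈ pCore p G := by
    intro a ha has
    by_contra hc
    exact hfne (hB _ hfB a (hA ha) hc has)
  have h1 := card_bound hXc A (pCore p G) (fun r hr x hx => hYc r hr x (hXY hx)) f hf
  -- from `X` to `Y`
  set CA := Subgroup.centralizer (A : Set G) with hCA
  have hcomm : ∀ a ∈ Y, ∀ b ∈ Y, a * b = b * a := fun a ha b hb => hYc a (hYP ha) b hb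
  have h2 : Nat.card X * Nat.card ↥(Y ⊓ CA) ≤ Nat.card Y * Nat.card ↥(X ⊓ CA) := by
    have hnorm : X ≤ Subgroup.normalizer ((Y ⊓ CA : Subgroup G) : Set G) := by
      intro x hx
      apply Replacement.mem_normalizer_of_forall
      intro y hy
      rw [hcomm x (hXY hx) y hy.1, mul_inv_cancel_right]
      exact hy
    have h3 := card_sup_mul_card_inf X (Y ⊓ CA) hnorm
    have hinf : X ⊓ (Y ⊓ CA) = X ⊓ CA := by
      rw [← inf_assoc, inf_eq_left.mpr hXY]
    rw [hinf] at h3
    rw [← h3]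
    have hsup : X ⊔ (Y ⊓ CA) ≤ Y := sup_le hXY inf_le_left
    exact Nat.mul_le_mul_right _ (Subgroup.card_le_of_le hsup)
  have hpos : 0 < Nat.card ↥(X ⊓ CA) := Nat.card_pos
  apply Nat.le_of_mul_le_mul_right _ hpos
  calc Nat.card A * Nat.card ↥(Y ⊓ CA) * Nat.card ↥(X ⊓ CA)
      = (Nat.card A * Nat.card ↥(X ⊓ CA)) * Nat.card ↥(Y ⊓ CA) := by ring
    _ ≤ (Nat.card X * Nat.card ↥(A ⊓ pCore p G)) * Nat.card ↥(Y ⊓ CA) :=
        Nat.mul_le_mul_right _ h1
    _ = (Nat.card X * Nat.card ↥(Y ⊓ CA)) * Nat.card ↥(A ⊓ pCore p G) := by ring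
    _ ≤ (Nat.card Y * Nat.card ↥(X ⊓ CA)) * Nat.card ↥(A ⊓ pCore p G) :=
        Nat.mul_le_mul_right _ h2
    _ = Nat.card Y * Nat.card ↥(A ⊓ pCore p G) * Nat.card ↥(X ⊓ CA) := by ring

/-! ### Abelian subgroups of largest order -/

/-- `A` is an abelian subgroup of largest order of the subgroup `S`. -/
def IsMaxAb (S A : Subgroup G) : Prop :=
  A ≤ S ∧ (∀ a ∈ A, ∀ b ∈ A, a * b = b * a) ∧
    ∀ B : Subgroup G, B ≤ S → (∀ a ∈ B, ∀ b ∈ B, a * b = b * a) → Nat.card B ≤ Nat.card A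

theorem exists_isMaxAb (S : Subgroup G) : ∃ A, IsMaxAb S A := by
  classical
  haveI : Nonempty {A : Subgroup G // A ≤ S ∧ ∀ a ∈ A, ∀ b ∈ A, a * b = b * a} :=
    ⟨⟨⊥, bot_le, fun a ha b hb => by
      rw [Subgroup.mem_bot.mp ha, Subgroup.mem_bot.mp hb]⟩⟩
  obtain ⟨A, hA⟩ := Finite.exists_max (fun A : {A : Subgroup G // A ≤ S ∧ ∀ a ∈ A, ∀ b ∈ A, a * b = b * a} =>
    Nat.card A.1)
  exact ⟨A.1, A.2.1, A.2.2, fun B hB hc => hA ⟨B, hB, hc⟩⟩

/-- An element of `S` centralizing a member of `𝔸(S)` lies in it. -/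
theorem IsMaxAb.mem_of_centralizes {S A : Subgroup G} (hA : IsMaxAb S A) {u : G} (hu : u ∈ S)
    (hc : ∀ a ∈ A, a * u = u * a) : u ∈ A := by
  have hz : ∀ a ∈ Subgroup.zpowers u, ∀ b ∈ Subgroup.zpowers u, a * b = b * a := by
    rintro a ⟨i, rfl⟩ b ⟨j, rfl⟩
    exact (Commute.refl u).zpow_zpow i j
  have hAz : ∀ a ∈ A, ∀ b ∈ Subgroup.zpowers u, a * b = b * a := by
    rintro a ha b ⟨j, rfl⟩
    exact (show Commute a u from hc a ha).zpow_right j
  have hcomm := comm_sup A (Subgroup.zpowers u) hA.2.1 hz hAz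
  have hle : A ⊔ Subgroup.zpowers u ≤ S :=
    sup_le hA.1 ((Subgroup.zpowers_le).mpr hu)
  have hcard := hA.2.2 _ hle hcomm
  have heq : A = A ⊔ Subgroup.zpowers u := Subgroup.eq_of_le_of_card_ge le_sup_left hcard
  rw [heq]
  exact Subgroup.mem_sup_right (Subgroup.mem_zpowers u)

/-- Conjugates of members of `𝔸(S)` under `N(S)`. -/
theorem IsMaxAb.conj {S A : Subgroup G} (hA : IsMaxAb S A) {t : G}
    (ht : t ∈ Subgroup.normalizer (S : Set G)) :
    IsMaxAb S (A.map (MulAut.conj t).toMonoidHom) := by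
  have hc : Function.Injective (MulAut.conj t).toMonoidHom := (MulAut.conj t).injective
  refine ⟨?_, ?_, ?_⟩
  · rintro _ ⟨a, ha, rfl⟩
    exact (Subgroup.mem_normalizer_iff.mp ht a).mp (hA.1 ha)
  · rintro _ ⟨a, ha, rfl⟩ _ ⟨b, hb, rfl⟩
    have := hA.2.1 a ha b hb
    simp only [← map_mul, this]
  · intro B hB hBc
    rw [Subgroup.card_map_of_injective hc]
    have hc' : Function.Injective (MulAut.conj t⁻¹).toMonoidHom := (MulAut.conj t⁻¹).injective
    have h := hA.2.2 (B.map (MulAut.conj t⁻¹).toMonoidHom) ?_ ?_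
    · rwa [Subgroup.card_map_of_injective hc'] at h
    · rintro _ ⟨b, hb, rfl⟩
      have := (Subgroup.mem_normalizer_iff.mp (Subgroup.inv_mem _ ht) b).mp (hB hb)
      exact this
    · rintro _ ⟨a, ha, rfl⟩ _ ⟨b, hb, rfl⟩
      have := hBc a ha b hb
      simp only [← map_mul, this]

/-! ### The Thompson subgroup, in `G` -/

theorem le_J {S A : Subgroup G} (hA : IsMaxAb S A) : A ≤ thompsonSubgroupAOf S := by
  intro a ha
  have hS : a ∈ S := hA.1 ha
  refine ⟨⟨a, hS⟩, ?_, rfl⟩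
  have hmem : A.subgroupOf S ∈ maxAbelianSubgroups ↥S := by
    refine ⟨isMulCommutative_of_forall ?_, ?_⟩
    · intro x hx y hy
      exact Subtype.ext (hA.2.1 _ (Subgroup.mem_subgroupOf.mp hx) _ (Subgroup.mem_subgroupOf.mp hy))
    · intro B hB
      have h1 := hA.2.2 (B.map S.subtype) (Subgroup.map_subtype_le B) ?_
      · rw [Subgroup.card_map_of_injective S.subtype_injective] at h1
        rw [Replacement.card_subgroupOf, inf_eq_right.mpr hA.1]
        exact h1
      · rintro _ ⟨x, hx, rfl⟩ _ ⟨y, hy, rfl⟩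
        exact congrArg Subtype.val (forall_of_isMulCommutative hB x hx y hy)
  exact (le_sSup hmem : A.subgroupOf S ≤ thompsonSubgroupA ↥S) (Subgroup.mem_subgroupOf.mpr ha)

theorem J_le {S H : Subgroup G} (h : ∀ A, IsMaxAb S A → A ≤ H) : thompsonSubgroupAOf S ≤ H := by
  rw [thompsonSubgroupAOf, Subgroup.map_le_iff_le_comap]
  apply sSup_le
  rintro A₀ ⟨hc, hm⟩
  have hAm : IsMaxAb S (A₀.map S.subtype) := by
    refine ⟨Subgroup.map_subtype_le A₀, ?_, ?_⟩
    · rintro _ ⟨x, hx, rfl⟩ _ ⟨y, hy, rfl⟩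
      exact congrArg Subtype.val (forall_of_isMulCommutative hc x hx y hy)
    · intro B hB hBc
      rw [Subgroup.card_map_of_injective S.subtype_injective]
      have h1 := hm (B.subgroupOf S) (isMulCommutative_of_forall fun x hx y hy =>
        Subtype.ext (hBc _ (Subgroup.mem_subgroupOf.mp hx) _ (Subgroup.mem_subgroupOf.mp hy)))
      rw [Replacement.card_subgroupOf, inf_eq_right.mpr hB] at h1
      exact h1
  intro x hx
  exact h _ hAm ⟨x, hx, rfl⟩

theorem J_le_self (S : Subgroup G) : thompsonSubgroupAOf S ≤ S := J_le (fun _ h => h.1)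

/-- `Z(J(S))` lies in every member of `𝔸(S)`. -/
theorem V_le {S A : Subgroup G} (hA : IsMaxAb S A) : centerThompsonAOf S ≤ A := by
  intro v hv
  refine hA.mem_of_centralizes (J_le_self S hv.1) ?_
  intro a ha
  exact (Subgroup.mem_centralizer_iff.mp hv.2 a (le_J hA ha))

theorem V_le_self (S : Subgroup G) : centerThompsonAOf S ≤ S := inf_le_left.trans (J_le_self S)

/-- `Z(S)` lies in `Z(J(S))`. -/
theorem center_le_V (S : Subgroup G) :
    S ⊓ Subgroup.centralizer (S : Set G) ≤ centerThompsonAOf S := by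
  intro z hz
  obtain ⟨A, hA⟩ := exists_isMaxAb S
  refine ⟨le_J hA (hA.mem_of_centralizes hz.1 ?_), ?_⟩
  · intro a ha
    exact Subgroup.mem_centralizer_iff.mp hz.2 a (hA.1 ha)
  · refine Subgroup.mem_centralizer_iff.mpr ?_
    intro j hj
    exact Subgroup.mem_centralizer_iff.mp hz.2 j (J_le_self S hj)

/-- `N(S)` normalizes `J(S)`. -/
theorem J_invar {S : Subgroup G} {t : G} (ht : t ∈ Subgroup.normalizer (S : Set G)) {x : G}
    (hx : x ∈ thompsonSubgroupAOf S) : t * x * t⁻¹ ∈ thompsonSubgroupAOf S := by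
  have hle : thompsonSubgroupAOf S ≤ (thompsonSubgroupAOf S).comap (MulAut.conj t).toMonoidHom := by
    apply J_le
    intro A hA a ha
    exact le_J (hA.conj ht) ⟨a, ha, rfl⟩
  exact hle hx

theorem V_invar {S : Subgroup G} {t : G} (ht : t ∈ Subgroup.normalizer (S : Set G)) {x : G}
    (hx : x ∈ centerThompsonAOf S) : t * x * t⁻¹ ∈ centerThompsonAOf S := by
  refine ⟨J_invar ht hx.1, ?_⟩
  refine Subgroup.mem_centralizer_iff.mpr ?_
  intro j hj
  have h1 : t⁻¹ * j * t ∈ thompsonSubgroupAOf S := by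
    have := J_invar (Subgroup.inv_mem _ ht) hj
    simpa using this
  have h2 := Subgroup.mem_centralizer_iff.mp hx.2 _ h1
  calc j * (t * x * t⁻¹) = t * ((t⁻¹ * j * t) * x) * t⁻¹ := by group
    _ = t * (x * (t⁻¹ * j * t)) * t⁻¹ := by rw [h2]
    _ = t * x * t⁻¹ * j := by group

/-- Any subgroup `U` of `P` which together with `A ∩ P` forms an abelian group is bounded. -/
theorem bound {S A U : Subgroup G} {P : Subgroup G} (hA : IsMaxAb S A) (hPS : P ≤ S)
    (hUP : U ≤ P) (hUc : ∀ a ∈ U, ∀ b ∈ U, a * b = b * a)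
    (hDU : ∀ d ∈ A ⊓ P, ∀ u ∈ U, d * u = u * d) :
    Nat.card U * Nat.card ↥(A ⊓ P) ≤
      Nat.card A * Nat.card ↥(U ⊓ Subgroup.centralizer (A : Set G)) := by
  have hDc : ∀ a ∈ A ⊓ P, ∀ b ∈ A ⊓ P, a * b = b * a := fun a ha b hb => hA.2.1 a ha.1 b hb.1
  have hcomm := comm_sup (A ⊓ P) U hDc hUc hDU
  have hle : A ⊓ P ⊔ U ≤ S := sup_le (inf_le_left.trans hA.1) (hUP.trans hPS)
  have hcard := hA.2.2 _ hle hcomm
  have hnorm : A ⊓ P ≤ Subgroup.normalizer ((U : Subgroup G) : Set G) := by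
    intro d hd
    apply Replacement.mem_normalizer_of_forall
    intro u hu
    rw [hDU d hd u hu, mul_inv_cancel_right]
    exact hu
  have h3 := card_sup_mul_card_inf (A ⊓ P) U hnorm
  have hinf : Nat.card ↥(A ⊓ P ⊓ U) = Nat.card ↥(U ⊓ Subgroup.centralizer (A : Set G)) := by
    congr 2
    ext u
    constructor
    · rintro ⟨⟨ha, _⟩, hu⟩
      refine ⟨hu, ?_⟩
      refine Subgroup.mem_centralizer_iff.mpr ?_
      intro a' ha'
      exact hA.2.1 a' ha' u ha
    · rintro ⟨hu, hc⟩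
      refine ⟨⟨hA.mem_of_centralizes (hPS (hUP hu)) ?_, hUP hu⟩, hu⟩
      intro a ha
      exact Subgroup.mem_centralizer_iff.mp hc a ha
  rw [hinf] at h3
  calc Nat.card U * Nat.card ↥(A ⊓ P) = Nat.card ↥(A ⊓ P) * Nat.card U := by ring
    _ = Nat.card ↥(A ⊓ P ⊔ U) * Nat.card ↥(U ⊓ Subgroup.centralizer (A : Set G)) := h3.symm
    _ ≤ _ := Nat.mul_le_mul_right _ hcard

end Cfsg.Agent.Lib.PushUp2
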