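import Mathlib
import Cfsg.Agent.Lib.PushUp2

/-!
# Rank one pushing up: the normal closure of `Z(J(S))` and the two central statements
-/

set_option autoImplicit false

namespace Cfsg.Agent.Lib.PushUp3

open Cfsg Cfsg.Agent.Lib.PCore Cfsg.Agent.Lib.Replacement Cfsg.Agent.Lib.AbReplace
open Cfsg.Agent.Lib.PushUp1 Cfsg.Agent.Lib.PushUp2 Cfsg.Agent.Lib.CharTwoLocal
open scoped commutatorElement

variable {G : Type*} [Group G] [Finite G] {p : ℕ} [hp : Fact p.Prime]

theorem core_le (S : Sylow p G) : pCore p G ≤ (S : Subgroup G) := pCore_le_sylow p S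

/-- Tightness: each abelian `U ≤ P` over `Y`, centralized by `A ∩ P`, is `Y C_U(A)`. -/
theorem tight {S : Sylow p G} (D : Data S) {Y : Subgroup G} [hY : Y.Normal]
    (hYP : Y ≤ pCore p G) (hYc : ∀ x ∈ pCore p G, ∀ y ∈ Y, x * y = y * x)
    (hnil : ∀ k, iterCommutator Y ⊤ k ≠ ⊥) {A U : Subgroup G}
    (hA : IsMaxAb (S : Subgroup G) A)
    (hUP : U ≤ pCore p G) (hYU : Y ≤ U) (hUc : ∀ a ∈ U, ∀ b ∈ U, a * b = b * a)
    (hDU : ∀ d ∈ A ⊓ pCore p G, ∀ u ∈ U, d * u = u * d) :
    ∀ u ∈ U, ∀ a ∈ A, ⁅u, a⁆ ∈ Y := by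
  classical
  have hPS : pCore p G ≤ (S : Subgroup G) := core_le S
  have h1 := offender D hYP hYc hnil hA.1
  have h2 := bound hA hPS hUP hUc hDU
  set CA := Subgroup.centralizer (A : Set G) with hCA
  have h3 : Nat.card U * Nat.card ↥(Y ⊓ CA) ≤ Nat.card Y * Nat.card ↥(U ⊓ CA) := by
    have hpos : 0 < Nat.card A * Nat.card ↥(A ⊓ pCore p G) := Nat.mul_pos Nat.card_pos Nat.card_pos
    apply Nat.le_of_mul_le_mul_right _ hpos
    calc Nat.card U * Nat.card ↥(Y ⊓ CA) * (Nat.card A * Nat.card ↥(A ⊓ pCore p G))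
        = (Nat.card U * Nat.card ↥(A ⊓ pCore p G)) * (Nat.card A * Nat.card ↥(Y ⊓ CA)) := by ring
      _ ≤ (Nat.card A * Nat.card ↥(U ⊓ CA)) * (Nat.card Y * Nat.card ↥(A ⊓ pCore p G)) :=
          Nat.mul_le_mul h2 h1
      _ = _ := by ring
  have hnorm : U ⊓ CA ≤ Subgroup.normalizer (Y : Set G) := by
    rw [Subgroup.normalizer_eq_top_iff.mpr hY]; exact le_top
  have h4 := card_sup_mul_card_inf (U ⊓ CA) Y hnorm
  have hinf : U ⊓ CA ⊓ Y = Y ⊓ CA := by
    ext x
    constructor
    · rintro ⟨⟨_, hx⟩, hy⟩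
      exact ⟨hy, hx⟩
    · rintro ⟨hy, hx⟩
      exact ⟨⟨hYU hy, hx⟩, hy⟩
  rw [hinf] at h4
  have h5 : Nat.card U ≤ Nat.card ↥(U ⊓ CA ⊔ Y) := by
    have hpos : 0 < Nat.card ↥(Y ⊓ CA) := Nat.card_pos
    apply Nat.le_of_mul_le_mul_right _ hpos
    rw [h4]
    calc Nat.card U * Nat.card ↥(Y ⊓ CA) ≤ Nat.card Y * Nat.card ↥(U ⊓ CA) := h3
      _ = _ := by ring
  have hle : U ⊓ CA ⊔ Y ≤ U := sup_le inf_le_left hYU
  have heq : U ⊓ CA ⊔ Y = U := Subgroup.eq_of_le_of_card_ge hle h5
  intro u hu a ha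
  rw [← heq] at hu
  obtain ⟨c, hc, y, hy, rfl⟩ := Subgroup.mem_sup_of_normal_right.mp hu
  have hca : Commute c a := (Subgroup.mem_centralizer_iff.mp hc.2 a ha).symm
  have hinv : a⁻¹ * c⁻¹ = c⁻¹ * a⁻¹ := (Commute.inv_inv hca.symm).eq
  have hform : ⁅c * y, a⁆ = c * ⁅y, a⁆ * c⁻¹ := by
    simp only [commutatorElement_def]
    calc c * y * a * (c * y)⁻¹ * a⁻¹ = c * y * a * y⁻¹ * (c⁻¹ * a⁻¹) := by group
      _ = c * y * a * y⁻¹ * (a⁻¹ * c⁻¹) := by rw [hinv]
      _ = _ := by group
  rw [hform]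
  have hya : ⁅y, a⁆ ∈ Y := by
    have h0 : ⁅y, a⁆ = y * (a * y⁻¹ * a⁻¹) := by
      simp only [commutatorElement_def]; group
    rw [h0]
    exact Y.mul_mem hy (hY.conj_mem _ (Y.inv_mem hy) a)
  exact hY.conj_mem _ hya c

/-- The subgroup `(A ∩ P) Y` belongs to `𝔸(S)`. -/
theorem isMaxAb_sup {S : Sylow p G} (D : Data S) {Y : Subgroup G} [hY : Y.Normal]
    (hYP : Y ≤ pCore p G) (hYc : ∀ x ∈ pCore p G, ∀ y ∈ Y, x * y = y * x)
    (hnil : ∀ k, iterCommutator Y ⊤ k ≠ ⊥) {A : Subgroup G}
    (hA : IsMaxAb (S : Subgroup G) A) :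
    IsMaxAb (S : Subgroup G) ((A ⊓ pCore p G) ⊔ Y) := by
  classical
  have hPS : pCore p G ≤ (S : Subgroup G) := core_le S
  have h1 := offender D hYP hYc hnil hA.1
  have hYa : ∀ a ∈ Y, ∀ b ∈ Y, a * b = b * a := fun a ha b hb => hYc a (hYP ha) b hb
  have hDc : ∀ a ∈ A ⊓ pCore p G, ∀ b ∈ A ⊓ pCore p G, a * b = b * a :=
    fun a ha b hb => hA.2.1 a ha.1 b hb.1
  have hDY : ∀ a ∈ A ⊓ pCore p G, ∀ b ∈ Y, a * b = b * a := fun a ha b hb => hYc a ha.2 b hb
  have hnorm : A ⊓ pCore p G ≤ Subgroup.normalizer (Y : Set G) := by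
    rw [Subgroup.normalizer_eq_top_iff.mpr hY]; exact le_top
  have h2 := card_sup_mul_card_inf (A ⊓ pCore p G) Y hnorm
  have hinf : A ⊓ pCore p G ⊓ Y = Y ⊓ Subgroup.centralizer (A : Set G) := by
    ext u
    constructor
    · rintro ⟨⟨ha, _⟩, hu⟩
      refine ⟨hu, Subgroup.mem_centralizer_iff.mpr ?_⟩
      intro a' ha'
      exact hA.2.1 a' ha' u ha
    · rintro ⟨hu, hc⟩
      refine ⟨⟨hA.mem_of_centralizes (hPS (hYP hu)) ?_, hYP hu⟩, hu⟩
      intro a ha
      exact Subgroup.mem_centralizer_iff.mp hc a ha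
  rw [hinf] at h2
  have h3 : Nat.card A ≤ Nat.card ↥(A ⊓ pCore p G ⊔ Y) := by
    have hpos : 0 < Nat.card ↥(Y ⊓ Subgroup.centralizer (A : Set G)) := Nat.card_pos
    apply Nat.le_of_mul_le_mul_right _ hpos
    rw [h2]
    calc _ ≤ _ := h1
      _ = _ := by ring
  refine ⟨sup_le (inf_le_left.trans hA.1) (hYP.trans hPS), comm_sup _ _ hDc hYa hDY, ?_⟩
  intro B hB hBc
  exact (hA.2.2 B hB hBc).trans h3

/-- Data on the normal closure of a non-normal subgroup of `Z(S)`. -/
theorem Y_data {S : Sylow p G} (D : Data S) {W : Subgroup G}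
    (hW : W ≤ (S : Subgroup G) ⊓ Subgroup.centralizer ((S : Subgroup G) : Set G))
    (hn : ¬ W.Normal) :
    Subgroup.normalClosure (W : Set G) ≤ pCore p G ∧
    (∀ x ∈ pCore p G, ∀ y ∈ Subgroup.normalClosure (W : Set G), x * y = y * x) ∧
    ∀ k, iterCommutator (Subgroup.normalClosure (W : Set G)) ⊤ k ≠ ⊥ := by
  classical
  have hPS : pCore p G ≤ (S : Subgroup G) := core_le S
  haveI hPn : (pCore p G).Normal := pCore_normal p G
  haveI hCn : (Subgroup.centralizer (pCore p G : Set G)).Normal := Subgroup.normal_centralizer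
  have hZn : (pCore p G ⊓ Subgroup.centralizer (pCore p G : Set G)).Normal := by infer_instance
  have hWZ : W ≤ pCore p G ⊓ Subgroup.centralizer (pCore p G : Set G) := by
    intro w hw
    have hwc : w ∈ Subgroup.centralizer (pCore p G : Set G) := by
      refine Subgroup.mem_centralizer_iff.mpr ?_
      intro x hx
      exact Subgroup.mem_centralizer_iff.mp (hW hw).2 x (hPS hx)
    exact ⟨D.cent hwc, hwc⟩
  have hYZ : Subgroup.normalClosure (W : Set G) ≤
      pCore p G ⊓ Subgroup.centralizer (pCore p G : Set G) :=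
    Subgroup.normalClosure_le_normal hWZ
  have hYP : Subgroup.normalClosure (W : Set G) ≤ pCore p G := hYZ.trans inf_le_left
  refine ⟨hYP, ?_, ?_⟩
  · intro x hx y hy
    exact Subgroup.mem_centralizer_iff.mp (hYZ hy).2 x hx
  · intro k hk
    apply hn
    have hYp : IsPGroup p (Subgroup.normalClosure (W : Set G)) := (isPGroup_pCore p).to_le hYP
    have hc : ∀ w ∈ W, w ∈ Subgroup.center G := by
      intro w hw
      refine nilp_central (S := S) hYp hk (Subgroup.subset_normalClosure hw) ?_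
      intro s hs
      exact Subgroup.mem_centralizer_iff.mp (hW hw).2 s hs
    refine ⟨fun w hw g => ?_⟩
    have := (Subgroup.mem_center_iff.mp (hc w hw) g)
    rw [this, mul_inv_cancel_right]
    exact hw

/-- Conjugates of members of `𝔸(S)` inside `P`. -/
theorem isMaxAb_conj_of_le {S : Sylow p G} {A : Subgroup G} (hA : IsMaxAb (S : Subgroup G) A)
    (hAP : A ≤ pCore p G) (g : G) :
    IsMaxAb (S : Subgroup G) (A.map (MulAut.conj g).toMonoidHom) ∧
      A.map (MulAut.conj g).toMonoidHom ≤ pCore p G := by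
  have hPS : pCore p G ≤ (S : Subgroup G) := core_le S
  haveI hPn : (pCore p G).Normal := pCore_normal p G
  have hle : A.map (MulAut.conj g).toMonoidHom ≤ pCore p G := by
    rintro _ ⟨a, ha, rfl⟩
    exact hPn.conj_mem _ (hAP ha) g
  have hc : Function.Injective (MulAut.conj g).toMonoidHom := (MulAut.conj g).injective
  refine ⟨⟨hle.trans hPS, ?_, ?_⟩, hle⟩
  · rintro _ ⟨a, ha, rfl⟩ _ ⟨b, hb, rfl⟩
    have := hA.2.1 a ha b hb
    simp only [← map_mul, this]
  · intro B hB hBc
    rw [Subgroup.card_map_of_injective hc]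
    exact hA.2.2 B hB hBc

theorem J_normal_of {S : Sylow p G}
    (h : ∀ A, IsMaxAb (S : Subgroup G) A → A ≤ pCore p G) :
    (thompsonSubgroupAOf (S : Subgroup G)).Normal := by
  refine ⟨fun x hx g => ?_⟩
  have hle : thompsonSubgroupAOf (S : Subgroup G) ≤
      (thompsonSubgroupAOf (S : Subgroup G)).comap (MulAut.conj g).toMonoidHom := by
    apply J_le
    intro A hA a ha
    exact le_J (isMaxAb_conj_of_le hA (h A hA) g).1 ⟨a, ha, rfl⟩
  exact hle hx

theorem V_normal_of {S : Sylow p G} (h : (thompsonSubgroupAOf (S : Subgroup G)).Normal) :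
    (centerThompsonAOf (S : Subgroup G)).Normal := by
  haveI := h
  haveI : (Subgroup.centralizer (thompsonSubgroupAOf (S : Subgroup G) : Set G)).Normal :=
    Subgroup.normal_centralizer
  unfold centerThompsonAOf
  infer_instance

theorem V_normal_of_J_le {S : Sylow p G} (h : thompsonSubgroupAOf (S : Subgroup G) ≤ pCore p G) :
    (centerThompsonAOf (S : Subgroup G)).Normal :=
  V_normal_of (J_normal_of fun _ hA => (le_J hA).trans h)

/-- The elements whose commutators with `U` lie in `Y`. -/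
def commIn (U Y : Subgroup G) [hU : U.Normal] [hY : Y.Normal] : Subgroup G where
  carrier := {n | ∀ v ∈ U, ⁅v, n⁆ ∈ Y}
  one_mem' := by
    intro v _
    simp [commutatorElement_def]
  mul_mem' := by
    intro a b ha hb v hv
    have h : ⁅v, a * b⁆ = ⁅v, a⁆ * (a * ⁅v, b⁆ * a⁻¹) := by
      simp only [commutatorElement_def]; group
    rw [h]
    exact Y.mul_mem (ha v hv) (hY.conj_mem _ (hb v hv) a)
  inv_mem' := by
    intro a ha v hv
    have h : ⁅v, a⁻¹⁆ = a⁻¹ * ⁅v, a⁆⁻¹ * a⁻¹⁻¹ := by
      simp only [commutatorElement_def]; group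
    rw [h]
    exact hY.conj_mem _ (Y.inv_mem (ha v hv)) _

theorem mem_commIn {U Y : Subgroup G} [hU : U.Normal] [hY : Y.Normal] {n : G} :
    n ∈ commIn U Y ↔ ∀ v ∈ U, ⁅v, n⁆ ∈ Y := Iff.rfl

instance commIn_normal (U Y : Subgroup G) [hU : U.Normal] [hY : Y.Normal] :
    (commIn U Y).Normal := by
  refine ⟨fun n hn g v hv => ?_⟩
  have h : ⁅v, g * n * g⁻¹⁆ = g * ⁅g⁻¹ * v * g, n⁆ * g⁻¹ := by
    simp only [commutatorElement_def]; group
  rw [h]
  refine hY.conj_mem _ (hn _ ?_) g
  have := hU.conj_mem v hv g⁻¹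
  simpa using this

/-- `S ≤ J P` and `⟨J^G⟩ P = G` if `J ≰ P`. -/
theorem sup_top {S : Sylow p G} (D : Data S)
    (hJ : ¬ thompsonSubgroupAOf (S : Subgroup G) ≤ pCore p G) :
    (S : Subgroup G) ≤ thompsonSubgroupAOf (S : Subgroup G) ⊔ pCore p G ∧
    Subgroup.normalClosure (thompsonSubgroupAOf (S : Subgroup G) : Set G) ⊔ pCore p G = ⊤ := by
  haveI hPn : (pCore p G).Normal := pCore_normal p G
  have h1 : (S : Subgroup G) ≤ thompsonSubgroupAOf (S : Subgroup G) ⊔ pCore p G := by
    rcases D.invar _ (J_le_self _) (fun t ht r hr => J_invar ht hr) with h | h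
    · exact absurd h hJ
    · exact h
  refine ⟨h1, D.top _ inferInstance ?_⟩
  exact h1.trans (sup_le_sup_right Subgroup.le_normalClosure _)

/-- Main calculation of `⟨Z(J(S))^G⟩`. -/
theorem V_closure {S : Sylow p G} (D : Data S) {W : Subgroup G}
    (hW : W ≤ (S : Subgroup G) ⊓ Subgroup.centralizer ((S : Subgroup G) : Set G))
    (hn : ¬ W.Normal) (hJ : ¬ thompsonSubgroupAOf (S : Subgroup G) ≤ pCore p G) :
    Subgroup.normalClosure (centerThompsonAOf (S : Subgroup G) : Set G) =
      centerThompsonAOf (S : Subgroup G) ⊔ Subgroup.normalClosure (W : Set G) ∧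
    (∀ a ∈ Subgroup.normalClosure (centerThompsonAOf (S : Subgroup G) : Set G),
      ∀ b ∈ Subgroup.normalClosure (centerThompsonAOf (S : Subgroup G) : Set G), a * b = b * a) := by
  classical
  have hPS : pCore p G ≤ (S : Subgroup G) := core_le S
  haveI hPn : (pCore p G).Normal := pCore_normal p G
  obtain ⟨hYP, hYc, hnil⟩ := Y_data D hW hn
  set Y := Subgroup.normalClosure (W : Set G) with hYdef
  set V := centerThompsonAOf (S : Subgroup G) with hVdef
  set V₀ := Subgroup.normalClosure (V : Set G) with hV₀def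
  haveI hYn : Y.Normal := Subgroup.normalClosure_normal
  haveI hV₀n : V₀.Normal := Subgroup.normalClosure_normal
  -- a member of `𝔸(S)` not in `P`
  -- the product of the members of `𝔸(S)` inside `P`
  let JP : Subgroup G := sSup {A | IsMaxAb (S : Subgroup G) A ∧ A ≤ pCore p G}
  have hJPle : JP ≤ pCore p G := sSup_le fun A hA => hA.2
  have hJPn : JP.Normal := by
    refine ⟨fun x hx g => ?_⟩
    have hle : JP ≤ JP.comap (MulAut.conj g).toMonoidHom := by
      apply sSup_le
      rintro A ⟨hA, hAP⟩ a ha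
      have hmem : A.map (MulAut.conj g).toMonoidHom ∈
          {A | IsMaxAb (S : Subgroup G) A ∧ A ≤ pCore p G} := isMaxAb_conj_of_le hA hAP g
      exact (le_sSup hmem : _ ≤ JP) ⟨a, ha, rfl⟩
    exact hle hx
  haveI := hJPn
  haveI hJPc : (Subgroup.centralizer (JP : Set G)).Normal := Subgroup.normal_centralizer
  have hJPJ : JP ≤ thompsonSubgroupAOf (S : Subgroup G) := sSup_le fun A hA => le_J hA.1
  have hsupmem : ∀ A, IsMaxAb (S : Subgroup G) A → (A ⊓ pCore p G) ⊔ Y ≤ JP := by
    intro A hA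
    have hmem : (A ⊓ pCore p G) ⊔ Y ∈ {A | IsMaxAb (S : Subgroup G) A ∧ A ≤ pCore p G} :=
      ⟨isMaxAb_sup D hYP hYc hnil hA, sup_le inf_le_right hYP⟩
    exact le_sSup hmem
  obtain ⟨A₀, hA₀⟩ := exists_isMaxAb (S : Subgroup G)
  have hVJP : V ≤ JP := (V_le (isMaxAb_sup D hYP hYc hnil hA₀)).trans (hsupmem A₀ hA₀)
  have hVC : V ≤ Subgroup.centralizer (JP : Set G) := by
    intro v hv
    refine Subgroup.mem_centralizer_iff.mpr fun x hx => ?_
    exact Subgroup.mem_centralizer_iff.mp hv.2 x (hJPJ hx)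
  have hV₀Z : V₀ ≤ JP ⊓ Subgroup.centralizer (JP : Set G) :=
    Subgroup.normalClosure_le_normal fun v hv => ⟨hVJP hv, hVC hv⟩
  have hV₀c : ∀ a ∈ V₀, ∀ b ∈ V₀, a * b = b * a := by
    intro a ha b hb
    exact (Subgroup.mem_centralizer_iff.mp (hV₀Z hb).2 a (hV₀Z ha).1)
  have hV₀P : V₀ ≤ pCore p G := hV₀Z.trans (inf_le_left.trans hJPle)
  have hWV : W ≤ V := hW.trans (center_le_V _)
  have hYV₀ : Y ≤ V₀ := Subgroup.normalClosure_mono hWV
  have hVV₀ : V ≤ V₀ := Subgroup.le_normalClosure
  -- commutators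
  have hAT : ∀ A, IsMaxAb (S : Subgroup G) A → A ≤ commIn V₀ Y := by
    intro A hA a ha
    refine fun u hu => tight D hYP hYc hnil hA hV₀P hYV₀ hV₀c ?_ u hu a ha
    intro d hd u hu
    have hdJP : d ∈ JP := hsupmem A hA (Subgroup.mem_sup_left hd)
    exact Subgroup.mem_centralizer_iff.mp (hV₀Z hu).2 d hdJP
  have hNT : Subgroup.normalClosure (thompsonSubgroupAOf (S : Subgroup G) : Set G) ≤ commIn V₀ Y :=
    Subgroup.normalClosure_le_normal (J_le hAT)
  obtain ⟨-, htop⟩ := sup_top D hJ
  -- `V Y` is normal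
  have hnormal : (V ⊔ Y).Normal := by
    rw [← Subgroup.normalizer_eq_top_iff, eq_top_iff, ← htop]
    refine sup_le ?_ ?_
    · intro n hn'
      apply Replacement.mem_normalizer_of_forall
      intro x hx
      obtain ⟨v, hv, y, hy, rfl⟩ := Subgroup.mem_sup_of_normal_right.mp hx
      have h1 : n * (v * y) * n⁻¹ = ⁅v, n⁆⁻¹ * v * (n * y * n⁻¹) := by
        simp only [commutatorElement_def]; group
      rw [h1]
      refine Subgroup.mul_mem _ (Subgroup.mul_mem _ ?_ ?_) ?_
      · exact Subgroup.mem_sup_right (Y.inv_mem (hNT hn' v (hVV₀ hv)))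
      · exact Subgroup.mem_sup_left hv
      · exact Subgroup.mem_sup_right (hYn.conj_mem _ hy n)
    · intro x hx
      apply Replacement.mem_normalizer_of_forall
      intro u hu
      obtain ⟨v, hv, y, hy, rfl⟩ := Subgroup.mem_sup_of_normal_right.mp hu
      have h1 : x * (v * y) * x⁻¹ = (x * v * x⁻¹) * (x * y * x⁻¹) := by group
      rw [h1]
      refine Subgroup.mul_mem _ ?_ ?_
      · exact Subgroup.mem_sup_left (V_invar (Subgroup.le_normalizer (hPS hx)) hv)
      · exact Subgroup.mem_sup_right (hYn.conj_mem _ hy x)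
  refine ⟨le_antisymm ?_ (sup_le hVV₀ hYV₀), hV₀c⟩
  exact Subgroup.normalClosure_le_normal (fun v hv => Subgroup.mem_sup_left hv)

/-- `J̃ = C_S(Z(J(S)))` is invariant under `N(S)`. -/
theorem Jt_invar {S : Sylow p G} {t : G}
    (ht : t ∈ Subgroup.normalizer ((S : Subgroup G) : Set G)) {x : G}
    (hx : x ∈ (S : Subgroup G) ⊓ Subgroup.centralizer (centerThompsonAOf (S : Subgroup G) : Set G)) :
    t * x * t⁻¹ ∈
      (S : Subgroup G) ⊓ Subgroup.centralizer (centerThompsonAOf (S : Subgroup G) : Set G) := by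
  refine ⟨(Subgroup.mem_normalizer_iff.mp ht x).mp hx.1, Subgroup.mem_centralizer_iff.mpr ?_⟩
  intro v hv
  have h1 : t⁻¹ * v * t ∈ centerThompsonAOf (S : Subgroup G) := by
    have := V_invar (Subgroup.inv_mem _ ht) hv
    simpa using this
  have h2 := Subgroup.mem_centralizer_iff.mp hx.2 _ h1
  calc v * (t * x * t⁻¹) = t * ((t⁻¹ * v * t) * x) * t⁻¹ := by group
    _ = t * (x * (t⁻¹ * v * t)) * t⁻¹ := by rw [h2]
    _ = t * x * t⁻¹ * v := by group

theorem J_le_Jt (S : Subgroup G) : thompsonSubgroupAOf S ≤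
    S ⊓ Subgroup.centralizer (centerThompsonAOf S : Set G) := by
  intro x hx
  refine ⟨J_le_self S hx, Subgroup.mem_centralizer_iff.mpr ?_⟩
  intro v hv
  exact (Subgroup.mem_centralizer_iff.mp hv.2 x hx).symm

/-- `J̃` over `P`. -/
theorem Jt_case {S : Sylow p G} (D : Data S)
    (hV : (centerThompsonAOf (S : Subgroup G)).Normal) :
    ((S : Subgroup G) ⊓ Subgroup.centralizer (centerThompsonAOf (S : Subgroup G) : Set G)).Normal ∨
    (S : Subgroup G) ≤
      ((S : Subgroup G) ⊓ Subgroup.centralizer (centerThompsonAOf (S : Subgroup G) : Set G)) ⊔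
        pCore p G := by
  haveI hPn : (pCore p G).Normal := pCore_normal p G
  haveI := hV
  have hPS : pCore p G ≤ (S : Subgroup G) := core_le S
  rcases D.invar _ inf_le_left (fun t ht r hr => Jt_invar ht hr) with h | h
  · left
    have heq : (S : Subgroup G) ⊓ Subgroup.centralizer (centerThompsonAOf (S : Subgroup G) : Set G)
        = pCore p G ⊓ Subgroup.centralizer (centerThompsonAOf (S : Subgroup G) : Set G) := by
      apply le_antisymm
      · exact le_inf h inf_le_right
      · exact inf_le_inf_right _ hPS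
    rw [heq]
    haveI : (Subgroup.centralizer (centerThompsonAOf (S : Subgroup G) : Set G)).Normal :=
      Subgroup.normal_centralizer
    infer_instance
  · exact Or.inr h

/-- When `V` is normal and `S = J̃ P`: elements of `V` centralizing `P` are central in `S`. -/
theorem center_eq_of {S : Sylow p G}
    (h : (S : Subgroup G) ≤
      ((S : Subgroup G) ⊓ Subgroup.centralizer (centerThompsonAOf (S : Subgroup G) : Set G)) ⊔
        pCore p G) {x : G} (hxV : x ∈ centerThompsonAOf (S : Subgroup G))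
    (hxP : x ∈ Subgroup.centralizer (pCore p G : Set G)) :
    x ∈ (S : Subgroup G) ⊓ Subgroup.centralizer ((S : Subgroup G) : Set G) := by
  haveI hPn : (pCore p G).Normal := pCore_normal p G
  refine ⟨V_le_self _ hxV, Subgroup.mem_centralizer_iff.mpr ?_⟩
  intro s hs
  obtain ⟨j, hj, u, hu, rfl⟩ := Subgroup.mem_sup_of_normal_right.mp (h hs)
  have h1 : j * x = x * j := (Subgroup.mem_centralizer_iff.mp hj.2 x hxV).symm
  have h2 : u * x = x * u := Subgroup.mem_centralizer_iff.mp hxP u hu
  calc j * u * x = j * (u * x) := by group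
    _ = j * (x * u) := by rw [h2]
    _ = (j * x) * u := by group
    _ = x * j * u := by rw [h1]
    _ = x * (j * u) := by group

theorem center_le_centralizer_core (S : Sylow p G) :
    (S : Subgroup G) ⊓ Subgroup.centralizer ((S : Subgroup G) : Set G) ≤
      Subgroup.centralizer (pCore p G : Set G) := by
  intro z hz
  refine Subgroup.mem_centralizer_iff.mpr fun x hx => ?_
  exact Subgroup.mem_centralizer_iff.mp hz.2 x (core_le S hx)

/-- Statement S2769 for abstract data. -/
theorem main_comm {S : Sylow p G} (D : Data S) :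
    (⁅centerThompsonAOf (S : Subgroup G), (S : Subgroup G)⁆ ⊓
      ((S : Subgroup G) ⊓ Subgroup.centralizer ((S : Subgroup G) : Set G))).Normal ∨
    ((S : Subgroup G) ⊓ Subgroup.centralizer (centerThompsonAOf (S : Subgroup G) : Set G)).Normal := by
  classical
  haveI hPn : (pCore p G).Normal := pCore_normal p G
  have hPS : pCore p G ≤ (S : Subgroup G) := core_le S
  by_contra hc
  push Not at hc
  obtain ⟨hW, hT⟩ := hc
  set V := centerThompsonAOf (S : Subgroup G) with hVdef
  set Z := (S : Subgroup G) ⊓ Subgroup.centralizer ((S : Subgroup G) : Set G) with hZdef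
  set W := ⁅V, (S : Subgroup G)⁆ ⊓ Z with hWdef
  -- elements of `[V,S]` in terms of `[V,P]`
  have hcomm_le : ∀ {T : Subgroup G} [T.Normal], V ≤ T →
      (S : Subgroup G) ≤ (S : Subgroup G) ⊓ Subgroup.centralizer (V : Set G) ⊔ pCore p G →
      ⁅V, (S : Subgroup G)⁆ ≤ ⁅T, pCore p G⁆ := by
    intro T hTn hVT h
    rw [Subgroup.commutator_le]
    intro v hv s hs
    obtain ⟨j, hj, u, hu, rfl⟩ := Subgroup.mem_sup_of_normal_right.mp (h hs)
    have hjv : j * v = v * j := (Subgroup.mem_centralizer_iff.mp hj.2 v hv).symm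
    have h1 : ⁅v, j * u⁆ = j * ⁅v, u⁆ * j⁻¹ := by
      simp only [commutatorElement_def]
      calc v * (j * u) * v⁻¹ * (j * u)⁻¹ = (v * j) * u * v⁻¹ * u⁻¹ * j⁻¹ := by group
        _ = (j * v) * u * v⁻¹ * u⁻¹ * j⁻¹ := by rw [hjv]
        _ = _ := by group
    rw [h1]
    haveI : (⁅T, pCore p G⁆).Normal := Subgroup.commutator_normal _ _
    exact Subgroup.Normal.conj_mem inferInstance _
      (Subgroup.commutator_mem_commutator (hVT hv) hu) j
  by_cases hV : V.Normal
  · rcases Jt_case D hV with h | h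
    · exact hT h
    · apply hW
      haveI := hV
      have hle := hcomm_le le_rfl h
      haveI hC : (Subgroup.centralizer (pCore p G : Set G)).Normal := Subgroup.normal_centralizer
      haveI : (⁅V, pCore p G⁆).Normal := Subgroup.commutator_normal _ _
      have heq : W = ⁅V, pCore p G⁆ ⊓ Subgroup.centralizer (pCore p G : Set G) := by
        apply le_antisymm
        · exact le_inf (inf_le_left.trans hle) (inf_le_right.trans (center_le_centralizer_core S))
        · rintro x ⟨hx1, hx2⟩
          refine ⟨Subgroup.commutator_mono le_rfl hPS hx1, ?_⟩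
          have hxV : x ∈ V := by
            have hcV : ⁅V, pCore p G⁆ ≤ V := by
              rw [Subgroup.commutator_le]
              intro v hv u _
              have h0 : ⁅v, u⁆ = v * (u * v⁻¹ * u⁻¹) := by
                simp only [commutatorElement_def]; group
              rw [h0]
              exact V.mul_mem hv (hV.conj_mem _ (V.inv_mem hv) u)
            exact hcV hx1
          exact center_eq_of h hxV hx2
      rw [heq]
      infer_instance
  · have hJ : ¬ thompsonSubgroupAOf (S : Subgroup G) ≤ pCore p G :=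
      fun h => hV (V_normal_of_J_le h)
    obtain ⟨hcl, -⟩ := V_closure D (W := W) inf_le_right hW hJ
    obtain ⟨hSle, -⟩ := sup_top D hJ
    have hS' : (S : Subgroup G) ≤ (S : Subgroup G) ⊓ Subgroup.centralizer (V : Set G) ⊔ pCore p G :=
      hSle.trans (sup_le_sup_right (J_le_Jt _) _)
    haveI hV₀n : (Subgroup.normalClosure (V : Set G)).Normal := Subgroup.normalClosure_normal
    obtain ⟨hYP, hYc, -⟩ := Y_data D (W := W) inf_le_right hW
    set Y := Subgroup.normalClosure (W : Set G) with hYdef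
    haveI hYn : Y.Normal := Subgroup.normalClosure_normal
    have hle := hcomm_le (T := Subgroup.normalClosure (V : Set G)) Subgroup.le_normalClosure hS'
    -- `[V₀, P] ≤ V`
    have hV₀P : ⁅Subgroup.normalClosure (V : Set G), pCore p G⁆ ≤ V := by
      rw [Subgroup.commutator_le]
      intro u hu x hx
      rw [hcl] at hu
      obtain ⟨v, hv, y, hy, rfl⟩ := Subgroup.mem_sup_of_normal_right.mp hu
      have hxy : x * y = y * x := hYc x hx y hy
      have h1 : ⁅v * y, x⁆ = v * (x * v⁻¹ * x⁻¹) := by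
        simp only [commutatorElement_def]
        calc v * y * x * (v * y)⁻¹ * x⁻¹ = v * (y * x) * y⁻¹ * v⁻¹ * x⁻¹ := by group
          _ = v * (x * y) * y⁻¹ * v⁻¹ * x⁻¹ := by rw [hxy]
          _ = _ := by group
      rw [h1]
      exact V.mul_mem hv (V_invar (Subgroup.le_normalizer (hPS hx)) (V.inv_mem hv))
    have hYV : Y ≤ V := by
      have : Y ≤ ⁅Subgroup.normalClosure (V : Set G), pCore p G⁆ := by
        haveI : (⁅Subgroup.normalClosure (V : Set G), pCore p G⁆).Normal :=
          Subgroup.commutator_normal _ _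
        exact Subgroup.normalClosure_le_normal (fun x hx => hle hx.1)
      exact this.trans hV₀P
    apply hV
    have : V = Subgroup.normalClosure (V : Set G) := by
      rw [hcl]
      exact (sup_eq_left.mpr hYV).symm
    rw [this]
    exact Subgroup.normalClosure_normal

theorem powerClosure_normal {Z : Subgroup G} (hZ : Z.Normal) (m : ℕ) :
    (powerClosure p m Z).Normal := by
  refine ⟨fun x hx g => ?_⟩
  have hle : powerClosure p m Z ≤ (powerClosure p m Z).comap (MulAut.conj g).toMonoidHom := by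
    unfold powerClosure
    rw [Subgroup.closure_le]
    rintro y ⟨z, hz, rfl⟩
    apply Subgroup.subset_closure
    refine ⟨g * z * g⁻¹, hZ.conj_mem _ hz g, ?_⟩
    exact conj_pow.symm
  exact hle hx

theorem powerClosure_le {Z : Subgroup G} (m : ℕ) : powerClosure p m Z ≤ Z := by
  unfold powerClosure
  rw [Subgroup.closure_le]
  rintro y ⟨z, hz, rfl⟩
  exact Z.pow_mem hz _

/-- The subgroup of `p^k`-th powers of an abelian normal subgroup. -/
def powSub (U : Subgroup G) (hU : ∀ a ∈ U, ∀ b ∈ U, a * b = b * a) (k : ℕ) : Subgroup G where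
  carrier := {x | ∃ y ∈ U, x = y ^ (p ^ k)}
  one_mem' := ⟨1, U.one_mem, by simp⟩
  mul_mem' := by
    rintro _ _ ⟨a, ha, rfl⟩ ⟨b, hb, rfl⟩
    refine ⟨a * b, U.mul_mem ha hb, ?_⟩
    exact ((show Commute a b from hU a ha b hb).mul_pow _).symm
  inv_mem' := by
    rintro _ ⟨a, ha, rfl⟩
    exact ⟨a⁻¹, U.inv_mem ha, by simp⟩

/-- Statement S2770 for abstract data. -/
theorem main_power {S : Sylow p G} (D : Data S) :
    (powerClosure p 1 ((S : Subgroup G) ⊓ Subgroup.centralizer ((S : Subgroup G) : Set G))).Normal ∨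
    ((S : Subgroup G) ⊓ Subgroup.centralizer (centerThompsonAOf (S : Subgroup G) : Set G)).Normal := by
  classical
  haveI hPn : (pCore p G).Normal := pCore_normal p G
  have hPS : pCore p G ≤ (S : Subgroup G) := core_le S
  haveI hCn : (Subgroup.centralizer (pCore p G : Set G)).Normal := Subgroup.normal_centralizer
  by_contra hc
  push Not at hc
  obtain ⟨hW, hT⟩ := hc
  set V := centerThompsonAOf (S : Subgroup G) with hVdef
  set Z := (S : Subgroup G) ⊓ Subgroup.centralizer ((S : Subgroup G) : Set G) with hZdef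
  set W := powerClosure p 1 Z with hWdef
  by_cases hV : V.Normal
  · rcases Jt_case D hV with h | h
    · exact hT h
    · apply hW
      apply powerClosure_normal
      haveI := hV
      have heq : Z = V ⊓ Subgroup.centralizer (pCore p G : Set G) := by
        apply le_antisymm
        · exact le_inf (center_le_V _) (center_le_centralizer_core S)
        · rintro x ⟨hx1, hx2⟩
          exact center_eq_of h hx1 hx2
      rw [heq]
      infer_instance
  · have hJ : ¬ thompsonSubgroupAOf (S : Subgroup G) ≤ pCore p G :=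
      fun h => hV (V_normal_of_J_le h)
    have hWZ : W ≤ Z := powerClosure_le 1
    obtain ⟨hYP, hYc, hnil⟩ := Y_data D hWZ hW
    set Y := Subgroup.normalClosure (W : Set G) with hYdef
    haveI hYn : Y.Normal := Subgroup.normalClosure_normal
    set U := Subgroup.normalClosure (Z : Set G) with hUdef
    haveI hUn : U.Normal := Subgroup.normalClosure_normal
    have hZle : Z ≤ pCore p G ⊓ Subgroup.centralizer (pCore p G : Set G) := by
      intro z hz
      have hzc := center_le_centralizer_core S hz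
      exact ⟨D.cent hzc, hzc⟩
    have hUle : U ≤ pCore p G ⊓ Subgroup.centralizer (pCore p G : Set G) :=
      Subgroup.normalClosure_le_normal hZle
    have hUP : U ≤ pCore p G := hUle.trans inf_le_left
    have hUc : ∀ a ∈ U, ∀ b ∈ U, a * b = b * a := fun a ha b hb =>
      Subgroup.mem_centralizer_iff.mp (hUle hb).2 a (hUle ha).1
    have hYU : Y ≤ U := Subgroup.normalClosure_mono hWZ
    have hZU : Z ≤ U := Subgroup.le_normalClosure
    have hAT : ∀ A, IsMaxAb (S : Subgroup G) A → A ≤ commIn U Y := by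
      intro A hA a ha
      refine fun u hu => tight D hYP hYc hnil hA hUP hYU hUc ?_ u hu a ha
      intro d hd u hu
      exact Subgroup.mem_centralizer_iff.mp (hUle hu).2 d hd.2
    have hNT : Subgroup.normalClosure (thompsonSubgroupAOf (S : Subgroup G) : Set G) ≤ commIn U Y :=
      Subgroup.normalClosure_le_normal (J_le hAT)
    have hPT : pCore p G ≤ commIn U Y := by
      intro x hx v hv
      have hvx : x * v = v * x := Subgroup.mem_centralizer_iff.mp (hUle hv).2 x hx
      have : ⁅v, x⁆ = 1 := by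
        rw [commutatorElement_def, ← hvx]; group
      rw [this]
      exact Y.one_mem
    obtain ⟨-, htop⟩ := sup_top D hJ
    have hTtop : ∀ g : G, ∀ v ∈ U, ⁅v, g⁆ ∈ Y := by
      intro g
      have : g ∈ commIn U Y := by
        have hle : (⊤ : Subgroup G) ≤ commIn U Y := by
          rw [← htop]
          exact sup_le hNT hPT
        exact hle trivial
      exact this
    -- powers
    have hpowN : (powSub (p := p) U hUc 1).Normal := by
      refine ⟨?_⟩
      rintro _ ⟨y, hy, rfl⟩ g
      exact ⟨g * y * g⁻¹, hUn.conj_mem _ hy g, conj_pow.symm⟩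
    have hWQ : W ≤ powSub (p := p) U hUc 1 := by
      rw [hWdef]
      unfold powerClosure
      rw [Subgroup.closure_le]
      rintro y ⟨z, hz, rfl⟩
      exact ⟨z, hZU hz, rfl⟩
    have hYQ : Y ≤ powSub (p := p) U hUc 1 := by
      haveI := hpowN
      exact Subgroup.normalClosure_le_normal hWQ
    have hiter : ∀ k : ℕ, ∀ x ∈ iterCommutator U ⊤ k, x ∈ powSub (p := p) U hUc k := by
      intro k
      induction k with
      | zero =>
        intro x hx
        exact ⟨x, hx, by simp⟩
      | succ k ih =>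
        intro x hx
        have hle : iterCommutator U ⊤ (k + 1) ≤ powSub (p := p) U hUc (k + 1) := by
          show ⁅iterCommutator U ⊤ k, ⊤⁆ ≤ _
          rw [Subgroup.commutator_le]
          intro a ha g _
          obtain ⟨y, hy, rfl⟩ := ih a ha
          obtain ⟨z, hz, hzeq⟩ := hYQ (hTtop g y hy)
          refine ⟨z, hz, ?_⟩
          have hgy : g * y * g⁻¹ ∈ U := hUn.conj_mem _ hy g
          have hcomm : Commute y (g * y⁻¹ * g⁻¹) := by
            refine hUc y hy _ ?_
            exact hUn.conj_mem _ (U.inv_mem hy) g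
          have hform : ∀ m : ℕ, ⁅y ^ m, g⁆ = ⁅y, g⁆ ^ m := by
            intro m
            simp only [commutatorElement_def]
            have h1 : y * g * y⁻¹ * g⁻¹ = y * (g * y⁻¹ * g⁻¹) := by group
            rw [h1, hcomm.mul_pow]
            have h2 : (g * y⁻¹ * g⁻¹) ^ m = g * (y ^ m)⁻¹ * g⁻¹ := by
              rw [conj_pow, inv_pow]
            rw [h2]
            group
          rw [hform, hzeq, ← pow_mul, pow_succ p k]
          congr 1
          simp only [pow_one]
          ring
        exact hle hx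
    -- the action is nilpotent
    have hUp : IsPGroup p U := (isPGroup_pCore p).to_le hUP
    obtain ⟨e, he⟩ := IsPGroup.iff_card.mp hUp
    have hbot : iterCommutator U ⊤ e = ⊥ := by
      rw [eq_bot_iff]
      intro x hx
      obtain ⟨y, hy, rfl⟩ := hiter e x hx
      rw [← he, Subgroup.mem_bot]
      have := pow_card_eq_one' (x := (⟨y, hy⟩ : U))
      exact congrArg Subtype.val this
    apply hW
    refine ⟨fun w hw g => ?_⟩
    have hwZ : w ∈ Z := hWZ hw
    have hwc : w ∈ Subgroup.center G := by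
      refine nilp_central (S := S) hUp hbot (hZU hwZ) ?_
      intro s hs
      exact Subgroup.mem_centralizer_iff.mp hwZ.2 s hs
    have := Subgroup.mem_center_iff.mp hwc g
    rw [this, mul_inv_cancel_right]
    exact hw

end Cfsg.Agent.Lib.PushUp3
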