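import Mathlib
import Cfsg.Agent.Lib.PushUp3
import Cfsg.Agent.Lib.CentralSylow

/-!
# Rank one pushing up: the Sylow statement via transfer
-/

set_option autoImplicit false

namespace Cfsg.Agent.Lib.PushUp4

open Cfsg Cfsg.Agent.Lib.PCore Cfsg.Agent.Lib.Replacement Cfsg.Agent.Lib.AbReplace
open Cfsg.Agent.Lib.PushUp1 Cfsg.Agent.Lib.PushUp2 Cfsg.Agent.Lib.PushUp3
open scoped commutatorElement

section Final

variable {Q : Type*} [Group Q] [Finite Q] {p : ℕ} [hp : Fact p.Prime]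

/-- The two alternatives for the abstract transfer lemma. -/
def QCase (p : ℕ) (R T : Subgroup Q) : Prop :=
  (∃ t₀ : Q, ∀ x ∈ T, ∃ y ∈ T, x = y⁻¹ * t₀ * y * t₀⁻¹) ∨
  (∃ E : Subgroup Q, E.Normal ∧ (∀ a b : Q, ⁅a, b⁆ ∈ E) ∧ R ≤ E ∧
    ∃ t ∈ T, (∀ x ∈ T, ∃ k : ℕ, x = t ^ k) ∧ t ^ p = 1 ∧ (t ∈ E → t = 1))

theorem final_sylow (Sh : Sylow p Q) {R T : Subgroup Q} [hR : R.Normal]
    (hS : (Sh : Subgroup Q) = T ⊔ R)
    (hT : ∀ a ∈ T, ∀ b ∈ T, a * b = b * a)
    (hTR : ∀ a ∈ T, ∀ u ∈ R, a * u = u * a)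
    (hN : Subgroup.normalClosure (T : Set Q) ⊔ R = ⊤)
    (hcase : QCase p R T) : R ⊓ Subgroup.normalClosure (T : Set Q) = ⊥ := by
  classical
  set N := Subgroup.normalClosure (T : Set Q) with hNdef
  haveI hNn : N.Normal := Subgroup.normalClosure_normal
  let X : Subgroup Q := Subgroup.centralizer (R : Set Q)
  haveI hXn : X.Normal := Subgroup.normal_centralizer
  have hTX : T ≤ X := fun a ha =>
    Subgroup.mem_centralizer_iff.mpr fun u hu => (hTR a ha u hu).symm
  have hNX : N ≤ X := Subgroup.normalClosure_le_normal hTX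
  have hdecomp : ∀ q : Q, ∃ n ∈ N, ∃ u ∈ R, q = n * u := by
    intro q
    have : q ∈ N ⊔ R := by rw [hN]; trivial
    obtain ⟨n, hn, u, hu, rfl⟩ := Subgroup.mem_sup_of_normal_right.mp this
    exact ⟨n, hn, u, hu, rfl⟩
  have hRS : R ≤ (Sh : Subgroup Q) := hS ▸ le_sup_right
  have hRp : IsPGroup p R := Sh.isPGroup'.to_le hRS
  obtain ⟨SX, hSX⟩ := Cfsg.Agent.Lib.CentralSylow.exists_sylow_subgroupOf Sh X
  let H : Subgroup X := (SX : Subgroup X)
  have hHmem : ∀ a : X, a ∈ H ↔ (a : Q) ∈ (Sh : Subgroup Q) := by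
    intro a
    show a ∈ (SX : Subgroup X) ↔ _
    rw [hSX]
    exact Subgroup.mem_subgroupOf
  have hcommH : ∀ a ∈ H, ∀ b ∈ H, a * b = b * a := by
    intro a ha b hb
    have ha' := (hHmem a).mp ha
    have hb' := (hHmem b).mp hb
    rw [hS] at ha' hb'
    obtain ⟨s, hs, u, hu, hau⟩ := Subgroup.mem_sup_of_normal_right.mp ha'
    obtain ⟨s', hs', u', hu', hbu⟩ := Subgroup.mem_sup_of_normal_right.mp hb'
    have huX : u ∈ X := by
      have : u = s⁻¹ * a := by rw [← hau]; group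
      rw [this]
      exact X.mul_mem (X.inv_mem (hTX hs)) a.2
    have huu' : u * u' = u' * u := (Subgroup.mem_centralizer_iff.mp huX u' hu').symm
    apply Subtype.ext
    show (a : Q) * b = b * a
    rw [← hau, ← hbu]
    calc s * u * (s' * u') = s * (u * s') * u' := by group
      _ = s * (s' * u) * u' := by rw [(hTR s' hs' u hu).symm]
      _ = (s * s') * (u * u') := by group
      _ = (s' * s) * (u' * u) := by rw [hT s hs s' hs', huu']
      _ = s' * (s * u') * u := by group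
      _ = s' * (u' * s) * u := by rw [hTR s hs u' hu']
      _ = _ := by group
  let τ : X →* Abelianization H := MonoidHom.transfer (Abelianization.of (G := H))
  let Kτ : Subgroup Q := τ.ker.map X.subtype
  have hKmem : ∀ x : X, τ x = 1 → (x : Q) ∈ Kτ := fun x hx => ⟨x, hx, rfl⟩
  have hKn : Kτ.Normal := by
    refine ⟨?_⟩
    rintro _ ⟨x, hx, rfl⟩ q
    obtain ⟨n, hn, u, hu, rfl⟩ := hdecomp q
    have hxu : (x : Q) * u = u * x := (Subgroup.mem_centralizer_iff.mp x.2 u hu).symm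
    have h1 : n * u * (x : Q) * (n * u)⁻¹ = ((⟨n, hNX hn⟩ * x * (⟨n, hNX hn⟩ : X)⁻¹ : X) : Q) := by
      show n * u * (x : Q) * (n * u)⁻¹ = n * x * n⁻¹
      calc n * u * (x : Q) * (n * u)⁻¹ = n * (u * x) * u⁻¹ * n⁻¹ := by group
        _ = n * (x * u) * u⁻¹ * n⁻¹ := by rw [hxu]
        _ = _ := by group
    show n * u * (x : Q) * (n * u)⁻¹ ∈ Kτ
    rw [h1]
    apply hKmem
    have hx' : τ x = 1 := hx
    rw [map_mul, map_mul, hx', map_inv, mul_one, mul_inv_cancel]
  haveI := hKn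
  have hKcomm : ∀ a ∈ X, ∀ b ∈ X, ⁅a, b⁆ ∈ Kτ := by
    intro a ha b hb
    have h1 : ⁅a, b⁆ = ((⁅(⟨a, ha⟩ : X), (⟨b, hb⟩ : X)⁆ : X) : Q) := rfl
    rw [h1]
    apply hKmem
    rw [map_commutatorElement, commutatorElement_eq_one_iff_commute]
    exact Commute.all _ _
  -- elements of `R` in the kernel are trivial
  have hkey : ∀ r ∈ R, r ∈ Kτ → r = 1 := by
    rintro _ hrR ⟨x, hx, rfl⟩
    have hx' : τ x = 1 := hx
    have hkeyc : ∀ (k : ℕ) (g₀ : X), g₀⁻¹ * x ^ k * g₀ ∈ H → g₀⁻¹ * x ^ k * g₀ = x ^ k := by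
      intro k g₀ _
      have hc : Commute x g₀ := by
        apply Subtype.ext
        exact (Subgroup.mem_centralizer_iff.mp g₀.2 _ hrR)
      have hc' : x ^ k * g₀ = g₀ * x ^ k := (hc.pow_left k).eq
      rw [mul_assoc, hc']
      group
    have hτ := MonoidHom.transfer_eq_pow (Abelianization.of (G := H)) x hkeyc
    have hone : Abelianization.of (⟨x ^ H.index, MonoidHom.transfer_eq_pow_aux x hkeyc⟩ : H) = 1 := by
      rw [← hτ]; exact hx'
    have hmem : (⟨x ^ H.index, MonoidHom.transfer_eq_pow_aux x hkeyc⟩ : H) ∈ commutator H :=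
      (QuotientGroup.eq_one_iff _).mp hone
    have hcb : commutator H = ⊥ := by
      unfold commutator
      rw [eq_bot_iff, Subgroup.commutator_le]
      intro a _ b _
      rw [Subgroup.mem_bot, commutatorElement_eq_one_iff_commute]
      exact Subtype.ext (hcommH _ a.2 _ b.2)
    rw [hcb, Subgroup.mem_bot] at hmem
    have hpow : x ^ H.index = 1 := congrArg Subtype.val hmem
    have hpowQ : (x : Q) ^ H.index = 1 := congrArg Subtype.val hpow
    obtain ⟨m, hm⟩ := hRp ⟨(x : Q), hrR⟩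
    have hm' : (x : Q) ^ p ^ m = 1 := congrArg Subtype.val hm
    have hcop : Nat.Coprime H.index (p ^ m) := by
      apply Nat.Coprime.pow_right
      exact ((Nat.Prime.coprime_iff_not_dvd hp.out).mpr SX.not_dvd_index).symm
    have := pow_gcd_eq_one.mpr ⟨hpowQ, hm'⟩
    rwa [hcop, pow_one] at this
  rw [eq_bot_iff]
  rintro r ⟨hrR, hrN⟩
  rw [Subgroup.mem_bot]
  apply hkey r hrR
  rcases hcase with ⟨t₀, ht₀⟩ | ⟨E, hE, hEc, hRE, t, ht, hgen, htp, htE⟩
  · -- Case A
    have hTK : T ≤ Kτ := by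
      intro x hx
      obtain ⟨y, hy, rfl⟩ := ht₀ x hx
      obtain ⟨n, hn, u, hu, rfl⟩ := hdecomp t₀
      have hyu : y * u = u * y := hTR y hy u hu
      have h1 : y⁻¹ * (n * u) * y * (n * u)⁻¹ = ⁅y⁻¹, n⁆ := by
        simp only [commutatorElement_def]
        calc y⁻¹ * (n * u) * y * (n * u)⁻¹ = y⁻¹ * n * (u * y) * u⁻¹ * n⁻¹ := by group
          _ = y⁻¹ * n * (y * u) * u⁻¹ * n⁻¹ := by rw [hyu]
          _ = _ := by group
      rw [h1]
      exact hKcomm _ (X.inv_mem (hTX hy)) _ (hNX hn)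
    exact Subgroup.normalClosure_le_normal hTK hrN
  · -- Case B
    haveI := hE
    let D₀ : Subgroup Q := Kτ ⊓ E
    haveI hD₀n : D₀.Normal := inferInstance
    let M : Subgroup Q := Subgroup.zpowers t ⊔ D₀
    have hzT : Subgroup.zpowers t ≤ T := (Subgroup.zpowers_le).mpr ht
    have hMn : M.Normal := by
      refine ⟨fun m hm q => ?_⟩
      obtain ⟨z, hz, d, hd, rfl⟩ := Subgroup.mem_sup_of_normal_right.mp hm
      obtain ⟨n, hn, u, hu, rfl⟩ := hdecomp q
      have hzu : z * u = u * z := hTR z (hzT hz) u hu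
      have h1 : n * u * (z * d) * (n * u)⁻¹ = ⁅n, z⁆ * z * (n * u * d * (n * u)⁻¹) := by
        simp only [commutatorElement_def]
        calc n * u * (z * d) * (n * u)⁻¹ = n * (u * z) * d * (n * u)⁻¹ := by group
          _ = n * (z * u) * d * (n * u)⁻¹ := by rw [hzu]
          _ = _ := by group
      rw [h1]
      refine M.mul_mem (M.mul_mem ?_ ?_) ?_
      · exact Subgroup.mem_sup_right ⟨hKcomm _ (hNX hn) _ (hTX (hzT hz)), hEc _ _⟩
      · exact Subgroup.mem_sup_left hz
      · exact Subgroup.mem_sup_right (hD₀n.conj_mem _ hd _)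
    haveI := hMn
    have hTM : T ≤ M := by
      intro x hx
      obtain ⟨k, rfl⟩ := hgen x hx
      exact Subgroup.mem_sup_left (Subgroup.pow_mem _ (Subgroup.mem_zpowers t) k)
    have hrM : r ∈ M := Subgroup.normalClosure_le_normal hTM hrN
    obtain ⟨z, hz, d, hd, hzd⟩ := Subgroup.mem_sup_of_normal_right.mp hrM
    have hzE : z ∈ E := by
      have : z = r * d⁻¹ := by rw [← hzd]; group
      rw [this]
      exact E.mul_mem (hRE hrR) (E.inv_mem hd.2)
    obtain ⟨i, rfl⟩ := Subgroup.mem_zpowers_iff.mp hz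
    have hz1 : t ^ i = 1 := by
      by_cases hdvd : (p : ℤ) ∣ i
      · obtain ⟨c, rfl⟩ := hdvd
        rw [zpow_mul, zpow_natCast, htp, one_zpow]
      · have hpi : Prime (p : ℤ) := Nat.prime_iff_prime_int.mp hp.out
        have hcop : IsCoprime (p : ℤ) i := (hpi.irreducible.coprime_iff_not_dvd).mpr hdvd
        obtain ⟨a, b, hab⟩ := hcop
        have h1 : t = (t ^ i) ^ b := by
          have h2 : t ^ (a * p + b * i) = t := by rw [hab, zpow_one]
          rw [zpow_add, mul_comm a, zpow_mul, zpow_natCast, htp, one_zpow, one_mul,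
            mul_comm b, zpow_mul] at h2
          exact h2.symm
        have htE' : t ∈ E := by
          rw [h1]
          exact E.zpow_mem hzE b
        rw [htE htE', one_zpow]
    rw [hz1, one_mul] at hzd
    rw [← hzd]
    exact hd.1

end Final

section Main

variable {G : Type*} [Group G] [Finite G] {p : ℕ} [hp : Fact p.Prime]

/-- The elements of `S` are `N(S)`-commutators modulo `P`. -/
def CaseA (S : Sylow p G) : Prop :=
  ∃ t₀ ∈ Subgroup.normalizer ((S : Subgroup G) : Set G), ∀ x ∈ (S : Subgroup G),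
    ∃ y ∈ (S : Subgroup G), x⁻¹ * (y⁻¹ * t₀ * y * t₀⁻¹) ∈ pCore p G

/-- `S / P` has order `p` and embeds in an abelian quotient of `G`, trivial on `P`. -/
def CaseB (S : Sylow p G) : Prop :=
  ∃ E : Subgroup G, E.Normal ∧ (∀ a b : G, ⁅a, b⁆ ∈ E) ∧ pCore p G ≤ E ∧
    (S : Subgroup G) ⊓ E ≤ pCore p G ∧
    (∀ t ∈ (S : Subgroup G), t ∉ pCore p G → ∀ x ∈ (S : Subgroup G),
      ∃ k : ℕ, (t ^ k)⁻¹ * x ∈ pCore p G) ∧
    ∀ x ∈ (S : Subgroup G), x ^ p ∈ pCore p G

omit [Finite G] hp in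
theorem comm_mem_self {H : Subgroup G} {a b : G} (ha : a ∈ H) (hb : b ∈ H) : ⁅a, b⁆ ∈ H := by
  rw [commutatorElement_def]
  exact H.mul_mem (H.mul_mem (H.mul_mem ha hb) (H.inv_mem ha)) (H.inv_mem hb)

theorem main_sylow {S : Sylow p G} (D : Data S)
    (hab : ∀ x ∈ (S : Subgroup G), ∀ y ∈ (S : Subgroup G), ⁅x, y⁆ ∈ pCore p G)
    (hcase : CaseA S ∨ CaseB S)
    (hZ : ¬ ((S : Subgroup G) ⊓ Subgroup.centralizer ((S : Subgroup G) : Set G)).Normal) :
    (S : Subgroup G) ⊓ Subgroup.normalClosure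
        (((S : Subgroup G) ⊓ Subgroup.centralizer (centerThompsonAOf (S : Subgroup G) : Set G)) : Set G)
      ≤ (S : Subgroup G) ⊓ Subgroup.centralizer (centerThompsonAOf (S : Subgroup G) : Set G) := by
  classical
  haveI hPn : (pCore p G).Normal := pCore_normal p G
  have hPS : pCore p G ≤ (S : Subgroup G) := core_le S
  set V := centerThompsonAOf (S : Subgroup G) with hVdef
  set Z := (S : Subgroup G) ⊓ Subgroup.centralizer ((S : Subgroup G) : Set G) with hZdef
  set Jt := (S : Subgroup G) ⊓ Subgroup.centralizer (V : Set G) with hJtdef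
  set Nt := Subgroup.normalClosure (Jt : Set G) with hNtdef
  haveI hNtn : Nt.Normal := Subgroup.normalClosure_normal
  have hJtNt : Jt ≤ Nt := Subgroup.le_normalClosure
  by_cases hV : V.Normal
  · haveI := hV
    haveI hCV : (Subgroup.centralizer (V : Set G)).Normal := Subgroup.normal_centralizer
    have hle : Nt ≤ Subgroup.centralizer (V : Set G) :=
      Subgroup.normalClosure_le_normal inf_le_right
    rintro x ⟨hx, hxN⟩
    exact ⟨hx, hle hxN⟩
  · have hJ : ¬ thompsonSubgroupAOf (S : Subgroup G) ≤ pCore p G :=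
      fun h => hV (V_normal_of_J_le h)
    obtain ⟨hcl, hV₀c⟩ := V_closure D (W := Z) le_rfl hZ hJ
    obtain ⟨hYP, hYc, -⟩ := Y_data D (W := Z) le_rfl hZ
    set Y := Subgroup.normalClosure (Z : Set G) with hYdef
    set V₀ := Subgroup.normalClosure (V : Set G) with hV₀def
    haveI hV₀n : V₀.Normal := Subgroup.normalClosure_normal
    haveI hV₀C : (Subgroup.centralizer (V₀ : Set G)).Normal := Subgroup.normal_centralizer
    let C₁ : Subgroup G := pCore p G ⊓ Subgroup.centralizer (V₀ : Set G)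
    haveI hC₁n : C₁.Normal := inferInstance
    have hJtV : ∀ j ∈ Jt, ∀ v ∈ V, j * v = v * j := fun j hj v hv =>
      (Subgroup.mem_centralizer_iff.mp hj.2 v hv).symm
    have hC₁eq : ∀ x, x ∈ C₁ ↔ x ∈ Jt ∧ x ∈ pCore p G := by
      intro x
      constructor
      · rintro ⟨hx, hxc⟩
        refine ⟨⟨hPS hx, Subgroup.mem_centralizer_iff.mpr ?_⟩, hx⟩
        intro v hv
        exact Subgroup.mem_centralizer_iff.mp hxc v (Subgroup.le_normalClosure hv)
      · rintro ⟨hx, hxP⟩
        refine ⟨hxP, Subgroup.mem_centralizer_iff.mpr ?_⟩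
        intro u hu
        rw [SetLike.mem_coe, hcl] at hu
        obtain ⟨v, hv, y, hy, rfl⟩ := Subgroup.mem_sup_of_normal_right.mp hu
        have h1 : x * v = v * x := hJtV x hx v hv
        have h2 : x * y = y * x := hYc x hxP y hy
        calc v * y * x = v * (x * y) := by rw [mul_assoc, h2]
          _ = (x * v) * y := by rw [← mul_assoc, h1]
          _ = x * (v * y) := by group
    have hC₁P : C₁ ≤ pCore p G := inf_le_left
    have hC₁Jt : C₁ ≤ Jt := fun x hx => ((hC₁eq x).mp hx).1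
    obtain ⟨hSle, -⟩ := sup_top D hJ
    have hSJt : (S : Subgroup G) ≤ Jt ⊔ pCore p G :=
      hSle.trans (sup_le_sup_right (J_le_Jt _) _)
    have hSeq : (S : Subgroup G) = Jt ⊔ pCore p G := le_antisymm hSJt (sup_le inf_le_left hPS)
    have htop : Nt ⊔ pCore p G = ⊤ :=
      D.top _ inferInstance (hSJt.trans (sup_le_sup_right hJtNt _))
    -- the quotient
    let π : G →* G ⧸ C₁ := QuotientGroup.mk' C₁
    have hπs : Function.Surjective π := QuotientGroup.mk'_surjective C₁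
    have hπ1 : ∀ x, π x = 1 ↔ x ∈ C₁ := fun x => QuotientGroup.eq_one_iff x
    let Sh : Sylow p (G ⧸ C₁) := S.mapSurjective hπs
    let R : Subgroup (G ⧸ C₁) := (pCore p G).map π
    let T : Subgroup (G ⧸ C₁) := Jt.map π
    haveI hRn : R.Normal := Subgroup.Normal.map hPn π hπs
    have hSh : (Sh : Subgroup (G ⧸ C₁)) = T ⊔ R := by
      show (S : Subgroup G).map π = _
      rw [hSeq, Subgroup.map_sup]
    have hTc : ∀ a ∈ T, ∀ b ∈ T, a * b = b * a := by
      rintro _ ⟨a, ha, rfl⟩ _ ⟨b, hb, rfl⟩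
      have h1 : ⁅a, b⁆ ∈ C₁ := (hC₁eq _).mpr
        ⟨comm_mem_self ha hb, hab a ha.1 b hb.1⟩
      have h2 := (hπ1 _).mpr h1
      rw [map_commutatorElement, commutatorElement_eq_one_iff_commute] at h2
      exact h2
    have hTR : ∀ a ∈ T, ∀ u ∈ R, a * u = u * a := by
      rintro _ ⟨j, hj, rfl⟩ _ ⟨u, hu, rfl⟩
      have hcP : ⁅j, u⁆ ∈ pCore p G := by
        have h0 : ⁅j, u⁆ = (j * u * j⁻¹) * u⁻¹ := by
          simp only [commutatorElement_def]
        rw [h0]
        exact Subgroup.mul_mem _ (hPn.conj_mem _ hu j) (Subgroup.inv_mem _ hu)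
      have hcJ : ⁅j, u⁆ ∈ Jt := by
        refine ⟨comm_mem_self hj.1 (hPS hu), Subgroup.mem_centralizer_iff.mpr ?_⟩
        intro v hv
        have huS : u ∈ (S : Subgroup G) := hPS hu
        have hv' : u⁻¹ * v * u ∈ V := by
          have := V_invar (Subgroup.le_normalizer (Subgroup.inv_mem _ huS)) hv
          simpa using this
        have h1 : j⁻¹ * (u⁻¹ * v * u) = (u⁻¹ * v * u) * j⁻¹ := by
          have := hJtV j hj _ hv'
          calc j⁻¹ * (u⁻¹ * v * u) = j⁻¹ * ((u⁻¹ * v * u) * j) * j⁻¹ := by group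
            _ = j⁻¹ * (j * (u⁻¹ * v * u)) * j⁻¹ := by rw [this]
            _ = _ := by group
        have h2 := hJtV j hj v hv
        simp only [commutatorElement_def]
        calc v * (j * u * j⁻¹ * u⁻¹) = (v * j) * u * j⁻¹ * u⁻¹ := by group
          _ = (j * v) * u * j⁻¹ * u⁻¹ := by rw [h2]
          _ = j * u * (u⁻¹ * v * u) * j⁻¹ * u⁻¹ := by group
          _ = j * u * (j⁻¹ * (u⁻¹ * v * u)) * u⁻¹ := by rw [h1]; group
          _ = _ := by group
      have h2 := (hπ1 _).mpr ((hC₁eq _).mpr ⟨hcJ, hcP⟩)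
      rw [map_commutatorElement, commutatorElement_eq_one_iff_commute] at h2
      exact h2
    have hinf : ∀ a ∈ T, a ∈ R → a = 1 := by
      rintro _ ⟨j, hj, rfl⟩ ⟨u, hu, huj⟩
      have h1 : u⁻¹ * j ∈ C₁ := by
        rw [← hπ1, map_mul, map_inv]
        have huj' : π u = π j := huj
        rw [huj']; group
      have h2 : j ∈ pCore p G := by
        have : j = u * (u⁻¹ * j) := by group
        rw [this]
        exact Subgroup.mul_mem _ hu (hC₁P h1)
      exact (hπ1 _).mpr ((hC₁eq _).mpr ⟨hj, h2⟩)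
    have hmapN : Nt.map π ≤ Subgroup.normalClosure (T : Set (G ⧸ C₁)) := by
      rw [Subgroup.map_le_iff_le_comap]
      haveI : (Subgroup.normalClosure (T : Set (G ⧸ C₁))).Normal := Subgroup.normalClosure_normal
      refine Subgroup.normalClosure_le_normal ?_
      intro j hj
      exact Subgroup.subset_normalClosure ⟨j, hj, rfl⟩
    have hN : Subgroup.normalClosure (T : Set (G ⧸ C₁)) ⊔ R = ⊤ := by
      rw [eq_top_iff]
      have h1 : (Nt ⊔ pCore p G).map π = ⊤ := by
        rw [htop, Subgroup.map_top_of_surjective _ hπs]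
      rw [← h1, Subgroup.map_sup]
      exact sup_le_sup_right hmapN _
    have hcase' : QCase p R T := by
      rcases hcase with ⟨t₀, ht₀, hA⟩ | ⟨E, hE, hEc, hPE, hSE, hgen, hpow⟩
      · left
        refine ⟨π t₀, ?_⟩
        rintro _ ⟨x, hx, rfl⟩
        obtain ⟨y, hy, hxy⟩ := hA x hx.1
        obtain ⟨j, hj, u, hu, rfl⟩ := Subgroup.mem_sup_of_normal_right.mp (hSJt hy)
        refine ⟨π j, ⟨j, hj, rfl⟩, ?_⟩
        have he : j⁻¹ * (t₀ * j * t₀⁻¹) ∈ Jt := Jt.mul_mem (Jt.inv_mem hj) (Jt_invar ht₀ hj)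
        set e := j⁻¹ * (t₀ * j * t₀⁻¹) with hedef
        have hu' : t₀ * u * t₀⁻¹ ∈ pCore p G := hPn.conj_mem _ hu t₀
        have h1 : x⁻¹ * ((j * u)⁻¹ * t₀ * (j * u) * t₀⁻¹) = x⁻¹ * u⁻¹ * e * (t₀ * u * t₀⁻¹) := by
          rw [hedef]; group
        rw [h1] at hxy
        have h2 : π x⁻¹ * π u⁻¹ * π e * π (t₀ * u * t₀⁻¹) ∈ R := by
          refine ⟨_, hxy, ?_⟩
          simp only [map_mul]
        have hcu : π u⁻¹ * π e = π e * π u⁻¹ :=
          (hTR _ ⟨e, he, rfl⟩ _ ⟨u⁻¹, Subgroup.inv_mem _ hu, rfl⟩).symm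
        have h3 : π x⁻¹ * π e ∈ R := by
          have h4 : π x⁻¹ * π e = (π x⁻¹ * π u⁻¹ * π e * π (t₀ * u * t₀⁻¹)) *
              ((π (t₀ * u * t₀⁻¹))⁻¹ * π u) := by
            have h5 : π x⁻¹ * π u⁻¹ * π e = π x⁻¹ * π e * π u⁻¹ := by
              rw [mul_assoc, hcu, mul_assoc]
            rw [h5, map_inv π u]
            group
          rw [h4]
          exact R.mul_mem h2 (R.mul_mem (R.inv_mem ⟨_, hu', rfl⟩) ⟨u, hu, rfl⟩)
        have h6 : π x⁻¹ * π e ∈ T := by
          refine ⟨x⁻¹ * e, Jt.mul_mem (Jt.inv_mem hx) he, ?_⟩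
          rw [map_mul]
        have h7 := hinf _ h6 h3
        have h8 : π x = π e := by
          rw [map_inv, inv_mul_eq_one] at h7
          exact h7
        rw [h8, hedef]
        simp only [map_mul, map_inv]
        group
      · right
        haveI := hE
        obtain ⟨t, htJ, htP⟩ : ∃ t ∈ thompsonSubgroupAOf (S : Subgroup G), t ∉ pCore p G := by
          by_contra hc
          push Not at hc
          exact hJ hc
        have htJt : t ∈ Jt := J_le_Jt _ htJ
        refine ⟨E.map π, Subgroup.Normal.map hE π hπs, ?_, Subgroup.map_mono hPE, π t,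
          ⟨t, htJt, rfl⟩, ?_, ?_, ?_⟩
        · intro a b
          obtain ⟨a, rfl⟩ := hπs a
          obtain ⟨b, rfl⟩ := hπs b
          exact ⟨⁅a, b⁆, hEc a b, by rw [map_commutatorElement]⟩
        · rintro _ ⟨x, hx, rfl⟩
          obtain ⟨k, hk⟩ := hgen t htJt.1 htP x hx.1
          refine ⟨k, ?_⟩
          have h1 : π ((t ^ k)⁻¹ * x) ∈ T :=
            ⟨_, Jt.mul_mem (Jt.inv_mem (Jt.pow_mem htJt k)) hx, rfl⟩
          have h2 := hinf _ h1 ⟨_, hk, rfl⟩
          rw [map_mul, map_inv, map_pow, inv_mul_eq_one] at h2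
          exact h2.symm
        · rw [← map_pow]
          exact (hπ1 _).mpr ((hC₁eq _).mpr ⟨Jt.pow_mem htJt p, hpow t htJt.1⟩)
        · rintro ⟨e, he, hee⟩
          exfalso
          have h1 : e⁻¹ * t ∈ C₁ := by
            rw [← hπ1, map_mul, map_inv, hee]; group
          have h2 : t ∈ E := by
            have : t = e * (e⁻¹ * t) := by group
            rw [this]
            exact E.mul_mem he (hPE (hC₁P h1))
          exact htP (hSE ⟨htJt.1, h2⟩)
    have hfinal := final_sylow Sh hSh hTc hTR hN hcase'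
    rintro x ⟨hxS, hxN⟩
    obtain ⟨j, hj, u, hu, rfl⟩ := Subgroup.mem_sup_of_normal_right.mp (hSJt hxS)
    have huN : u ∈ Nt := by
      have : u = j⁻¹ * (j * u) := by group
      rw [this]
      exact Nt.mul_mem (Nt.inv_mem (hJtNt hj)) hxN
    have h1 : π u ∈ R ⊓ Subgroup.normalClosure (T : Set (G ⧸ C₁)) :=
      ⟨⟨u, hu, rfl⟩, hmapN ⟨u, huN, rfl⟩⟩
    rw [hfinal, Subgroup.mem_bot, hπ1] at h1
    exact Jt.mul_mem hj (hC₁Jt h1)

/-- The final form of S2768. -/
theorem main_sylow' {S : Sylow p G} (D : Data S)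
    (hab : ∀ x ∈ (S : Subgroup G), ∀ y ∈ (S : Subgroup G), ⁅x, y⁆ ∈ pCore p G)
    (hcase : CaseA S ∨ CaseB S)
    (hZ : ¬ ((S : Subgroup G) ⊓ Subgroup.centralizer ((S : Subgroup G) : Set G)).Normal) :
    ∃ P : Sylow p ↥(Subgroup.normalClosure (((S : Subgroup G) ⊓
        Subgroup.centralizer (centerThompsonAOf (S : Subgroup G) : Set G)) : Set G)),
      (P : Subgroup ↥(Subgroup.normalClosure (((S : Subgroup G) ⊓
        Subgroup.centralizer (centerThompsonAOf (S : Subgroup G) : Set G)) : Set G))) =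
      (((S : Subgroup G) ⊓ Subgroup.centralizer (centerThompsonAOf (S : Subgroup G) : Set G))).subgroupOf
        (Subgroup.normalClosure (((S : Subgroup G) ⊓
          Subgroup.centralizer (centerThompsonAOf (S : Subgroup G) : Set G)) : Set G)) := by
  haveI : (Subgroup.normalClosure (((S : Subgroup G) ⊓
      Subgroup.centralizer (centerThompsonAOf (S : Subgroup G) : Set G)) : Set G)).Normal :=
    Subgroup.normalClosure_normal
  obtain ⟨P, hP⟩ := Cfsg.Agent.Lib.CentralSylow.exists_sylow_subgroupOf S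
    (Subgroup.normalClosure (((S : Subgroup G) ⊓
      Subgroup.centralizer (centerThompsonAOf (S : Subgroup G) : Set G)) : Set G))
  refine ⟨P, ?_⟩
  rw [hP]
  ext x
  rw [Subgroup.mem_subgroupOf, Subgroup.mem_subgroupOf]
  constructor
  · intro hx
    exact main_sylow D hab hcase hZ ⟨hx, x.2⟩
  · intro hx
    exact hx.1

end Main

end Cfsg.Agent.Lib.PushUp4
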