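import Mathlib
import Cfsg.Agent.Lib.PushUp4
import Cfsg.Agent.Lib.PResid

/-!
# Rank one pushing up: the data from a quotient of rank one type
-/

set_option autoImplicit false

namespace Cfsg.Agent.Lib.PushUp5

open Cfsg Cfsg.Agent.Lib.PCore Cfsg.Agent.Lib.PushUp2 Cfsg.Agent.Lib.PushUp3
open Cfsg.Agent.Lib.PushUp4
open scoped commutatorElement Pointwise

/-- A group with an abelian subgroup `U` behaving like the unipotent radical of a Borel subgroup
in `PSL₂(q)`. -/
structure RankOne {L : Type*} [Group L] (U : Subgroup L) (w : L) (p : ℕ) : Prop where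
  ne : U ≠ ⊥
  max : ∀ H : Subgroup L, U ≤ H → H = ⊤ ∨ H ≤ Subgroup.normalizer (U : Set L)
  sep : ∀ a ∈ U, w⁻¹ * a * w ∈ Subgroup.normalizer (U : Set L) → a = 1
  irr : ∀ R : Subgroup L, R ≤ U →
    (∀ t ∈ Subgroup.normalizer (U : Set L), ∀ r ∈ R, t * r * t⁻¹ ∈ R) → R = ⊥ ∨ R = U
  ab : ∀ a ∈ U, ∀ b ∈ U, a * b = b * a
  case : (∃ t ∈ Subgroup.normalizer (U : Set L), ∀ x ∈ U, ∃ y ∈ U, x = y⁻¹ * t * y * t⁻¹) ∨
    (Nat.card U = p ∧ Subgroup.normalizer (U : Set L) ≤ Subgroup.centralizer (U : Set L))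

variable {G L : Type*} [Group G] [Finite G] [Group L] {p : ℕ} [hp : Fact p.Prime]

theorem data_of (π : G →* L) (hπ : Function.Surjective π) (S : Sylow p G) {U : Subgroup L} {w : L}
    (hR : RankOne U w p) (hS : (S : Subgroup G).map π = U)
    (hcent : Subgroup.centralizer (pCore p G : Set G) ≤ pCore p G)
    (hM : ∃! M : Subgroup G, IsCoatom M ∧ (S : Subgroup G) ≤ M) :
    Data S ∧ (∀ x ∈ (S : Subgroup G), ∀ y ∈ (S : Subgroup G), ⁅x, y⁆ ∈ pCore p G) ∧
      (CaseA S ∨ CaseB S) := by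
  classical
  haveI : Finite L := Finite.of_surjective π hπ
  haveI hPn : (pCore p G).Normal := pCore_normal p G
  have hPS : pCore p G ≤ (S : Subgroup G) := core_le S
  obtain ⟨M, ⟨hMc, hSM⟩, hMu⟩ := hM
  have huniq : ∀ X : Subgroup G, X ≠ ⊤ → (S : Subgroup G) ≤ X → X ≤ M := by
    intro X hX hSX
    obtain ⟨M', hM', hXM'⟩ := (eq_top_or_exists_le_coatom X).resolve_left hX
    rw [← hMu M' ⟨hM', hSX.trans hXM'⟩]
    exact hXM'
  -- the normalizer of `U` is proper
  have hnn : Subgroup.normalizer (U : Set L) ≠ ⊤ := by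
    intro h
    apply hR.ne
    rw [eq_bot_iff]
    intro a ha
    rw [Subgroup.mem_bot]
    apply hR.sep a ha
    rw [h]
    trivial
  have hUtop : U ≠ ⊤ := by
    intro h
    apply hnn
    rw [h]
    exact Subgroup.normalizer_eq_top_iff.mpr inferInstance
  -- `P` lies in the kernel
  have hπP : ∀ x ∈ pCore p G, π x = 1 := by
    intro x hx
    apply hR.sep (π x) (hS ▸ ⟨x, hPS hx, rfl⟩)
    obtain ⟨v, rfl⟩ := hπ w
    have h1 : (π v)⁻¹ * π x * π v = π (v⁻¹ * x * v⁻¹⁻¹) := by simp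
    rw [h1]
    apply Subgroup.le_normalizer
    exact hS ▸ ⟨_, hPS (hPn.conj_mem _ hx v⁻¹), rfl⟩
  have hSnP : ¬ (S : Subgroup G) ≤ pCore p G := by
    intro h
    apply hR.ne
    rw [← hS, eq_bot_iff]
    rintro _ ⟨x, hx, rfl⟩
    exact (hπP x (h hx))
  -- `K ≤ M`
  have hKM : π.ker ≤ M := by
    have hne : (S : Subgroup G) ⊔ π.ker ≠ ⊤ := by
      intro h
      apply hUtop
      rw [eq_top_iff, ← Subgroup.map_top_of_surjective π hπ, ← h, Subgroup.map_sup]
      refine sup_le hS.le ?_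
      rintro _ ⟨k, hk, rfl⟩
      rw [MonoidHom.mem_ker.mp hk]
      exact U.one_mem
    exact le_sup_right.trans (huniq _ hne le_sup_left)
  -- `π(M)` normalizes `U`
  have hMmap : M.map π ≤ Subgroup.normalizer (U : Set L) := by
    rcases hR.max (M.map π) (hS ▸ Subgroup.map_mono hSM) with h | h
    · exfalso
      apply hMc.1
      rw [eq_top_iff]
      intro g _
      have hg : π g ∈ M.map π := by rw [h]; trivial
      obtain ⟨m, hm, hmg⟩ := hg
      have hk : m⁻¹ * g ∈ π.ker := by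
        rw [MonoidHom.mem_ker, map_mul, map_inv, hmg]; group
      have : g = m * (m⁻¹ * g) := by group
      rw [this]
      exact M.mul_mem hm (hKM hk)
    · exact h
  -- `N(S) ≤ M`
  have hNS : Subgroup.normalizer ((S : Subgroup G) : Set G) ≤ M := by
    apply huniq _ _ Subgroup.le_normalizer
    intro h
    apply hSnP
    have hn : (S : Subgroup G).Normal := Subgroup.normalizer_eq_top_iff.mp h
    exact le_pCore hn S.isPGroup'
  -- `S ∩ K = P`
  have hSK : ∀ x ∈ (S : Subgroup G), π x = 1 → x ∈ pCore p G := by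
    intro x hxS hx
    haveI hKn : π.ker.Normal := inferInstance
    obtain ⟨Q₀, hQ₀⟩ := Cfsg.Agent.Lib.PResid.exists_sylow_inf_of_normal S π.ker
    have h1 := Sylow.normalizer_sup_eq_top Q₀
    rw [hQ₀] at h1
    have hnorm : ((S : Subgroup G) ⊓ π.ker).Normal := by
      rw [← Subgroup.normalizer_eq_top_iff]
      by_contra hc
      have hle : (S : Subgroup G) ≤ Subgroup.normalizer (((S : Subgroup G) ⊓ π.ker : Subgroup G) : Set G) := by
        intro s hs
        apply Cfsg.Agent.Lib.Replacement.mem_normalizer_of_forall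
        rintro y ⟨hy1, hy2⟩
        exact ⟨S.toSubgroup.mul_mem (S.toSubgroup.mul_mem hs hy1) (S.toSubgroup.inv_mem hs),
          hKn.conj_mem _ hy2 s⟩
      have h2 := huniq _ hc hle
      apply hMc.1
      rw [eq_top_iff, ← h1]
      exact sup_le h2 hKM
    have hle : (S : Subgroup G) ⊓ π.ker ≤ pCore p G :=
      le_pCore hnorm (S.isPGroup'.to_le inf_le_left)
    exact hle ⟨hxS, hx⟩
  -- lifting the normalizer
  have hlift : ∀ g : G, π g ∈ Subgroup.normalizer (U : Set L) →
      ∃ t ∈ Subgroup.normalizer ((S : Subgroup G) : Set G), π t = π g := by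
    intro g hg
    let D : Subgroup G := π.ker ⊔ (S : Subgroup G)
    let T₂ : Sylow p G := g • S
    have hT₂ : ∀ y, y ∈ (T₂ : Subgroup G) ↔ g⁻¹ * y * g ∈ (S : Subgroup G) := by
      intro y
      show y ∈ MulAut.conj g • (S : Subgroup G) ↔ _
      rw [Subgroup.mem_pointwise_smul_iff_inv_smul_mem, MulAut.smul_def, MulAut.conj_inv_apply]
    have hT₂D : (T₂ : Subgroup G) ≤ D := by
      intro y hy
      have hz := (hT₂ y).mp hy
      have h1 : π y ∈ U := by
        have h2 : π (g⁻¹ * y * g) ∈ U := hS ▸ ⟨_, hz, rfl⟩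
        have h3 : π y = π g * π (g⁻¹ * y * g) * (π g)⁻¹ := by
          simp only [map_mul, map_inv]; group
        rw [h3]
        exact (Subgroup.mem_normalizer_iff.mp hg _).mp h2
      rw [← hS] at h1
      obtain ⟨s, hs, hsy⟩ := h1
      have h4 : y * s⁻¹ ∈ π.ker := by
        rw [MonoidHom.mem_ker, map_mul, map_inv, hsy]; group
      have : y = (y * s⁻¹) * s := by group
      rw [this]
      exact D.mul_mem (Subgroup.mem_sup_left h4) (Subgroup.mem_sup_right hs)
    have hSD : (S : Subgroup G) ≤ D := le_sup_right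
    obtain ⟨h, hh⟩ := MulAction.exists_smul_eq D (S.subtype hSD) (T₂.subtype hT₂D)
    have hkey : ∀ x ∈ (S : Subgroup G), (h : G) * x * (h : G)⁻¹ ∈ (T₂ : Subgroup G) := by
      intro x hx
      have h1 : (⟨x, hSD hx⟩ : D) ∈ ((S.subtype hSD : Sylow p D) : Subgroup D) := hx
      have h2 : MulAut.conj h • (⟨x, hSD hx⟩ : D) ∈
          MulAut.conj h • (((S.subtype hSD : Sylow p D) : Subgroup D)) :=
        Subgroup.smul_mem_pointwise_smul _ _ _ h1
      rw [← Sylow.coe_subgroup_smul, hh] at h2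
      exact h2
    obtain ⟨k, hk, s, hs, hks⟩ := Subgroup.mem_sup_of_normal_left.mp h.2
    refine ⟨k⁻¹ * g, ?_, ?_⟩
    · have hinv : (k⁻¹ * g)⁻¹ ∈ Subgroup.normalizer ((S : Subgroup G) : Set G) := by
        apply Cfsg.Agent.Lib.Replacement.mem_normalizer_of_forall
        intro x hx
        have h1 : s⁻¹ * x * s ∈ (S : Subgroup G) := by
          have := S.toSubgroup.mul_mem (S.toSubgroup.mul_mem (S.toSubgroup.inv_mem hs) hx) hs
          exact this
        have h2 := (hT₂ _).mp (hkey _ h1)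
        have h3 : g⁻¹ * ((h : G) * (s⁻¹ * x * s) * (h : G)⁻¹) * g = (k⁻¹ * g)⁻¹ * x * ((k⁻¹ * g)⁻¹)⁻¹ := by
          rw [← hks]; group
        rw [h3] at h2
        exact h2
      simpa using Subgroup.inv_mem _ hinv
    · rw [map_mul, map_inv, MonoidHom.mem_ker.mp hk]; group
  have hDataInvar : ∀ R : Subgroup G, R ≤ (S : Subgroup G) →
      (∀ t ∈ Subgroup.normalizer ((S : Subgroup G) : Set G), ∀ r ∈ R, t * r * t⁻¹ ∈ R) →
      R ≤ pCore p G ∨ (S : Subgroup G) ≤ R ⊔ pCore p G := by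
    intro R hRS hinv
    have hle : R.map π ≤ U := hS ▸ Subgroup.map_mono hRS
    have hI : ∀ t ∈ Subgroup.normalizer (U : Set L), ∀ r ∈ R.map π, t * r * t⁻¹ ∈ R.map π := by
      rintro t ht _ ⟨r, hr, rfl⟩
      obtain ⟨g, rfl⟩ := hπ t
      obtain ⟨t', ht', htt⟩ := hlift g ht
      refine ⟨t' * r * t'⁻¹, hinv t' ht' r hr, ?_⟩
      simp only [map_mul, map_inv, htt]
    rcases hR.irr _ hle hI with h | h
    · left
      intro r hr
      apply hSK r (hRS hr)
      have : π r ∈ R.map π := ⟨r, hr, rfl⟩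
      rw [h] at this
      exact this
    · right
      intro s hs
      have h1 : π s ∈ R.map π := by
        rw [h, ← hS]
        exact ⟨s, hs, rfl⟩
      obtain ⟨r, hr, hrs⟩ := h1
      have h2 : r⁻¹ * s ∈ pCore p G := by
        apply hSK _ (S.toSubgroup.mul_mem (S.toSubgroup.inv_mem (hRS hr)) hs)
        rw [map_mul, map_inv, hrs]; group
      have : s = r * (r⁻¹ * s) := by group
      rw [this]
      exact Subgroup.mul_mem _ (Subgroup.mem_sup_left hr) (Subgroup.mem_sup_right h2)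
  refine ⟨⟨hcent, hSnP, ?_, hDataInvar, ?_⟩, ?_, ?_⟩
  · -- `top`
    intro D hDn hSD
    haveI := hDn
    by_contra hc
    have h1 := Sylow.normalizer_sup_eq_top' S hSD
    apply hMc.1
    rw [eq_top_iff, ← h1]
    exact sup_le hNS (huniq _ hc hSD)
  · -- `gen`
    obtain ⟨h, hh⟩ := hπ w
    refine ⟨(S : Subgroup G).map (MulAut.conj h).toMonoidHom, S.isPGroup'.map _, ?_⟩
    intro H hBH a haS haP haH
    by_contra hc
    let H₁ : Subgroup G := H.comap (MulAut.conj h).toMonoidHom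
    have hSH₁ : (S : Subgroup G) ≤ H₁ := fun x hx => hBH ⟨x, hx, rfl⟩
    have hH₁ne : H₁ ≠ ⊤ := by
      intro htop
      apply hc
      rw [eq_top_iff]
      intro y _
      have h1 : h⁻¹ * y * h ∈ H₁ := by rw [htop]; trivial
      have h2 : (MulAut.conj h).toMonoidHom (h⁻¹ * y * h) = y := by
        simp [MulAut.conj_apply]; group
      have h3 := (show (MulAut.conj h).toMonoidHom (h⁻¹ * y * h) ∈ H from h1)
      rwa [h2] at h3
    have hle := huniq _ hH₁ne hSH₁
    have hmem : h⁻¹ * a * h ∈ H₁ := by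
      show (MulAut.conj h).toMonoidHom (h⁻¹ * a * h) ∈ H
      have h2 : (MulAut.conj h).toMonoidHom (h⁻¹ * a * h) = a := by
        simp [MulAut.conj_apply]; group
      rwa [h2]
    have hm : π (h⁻¹ * a * h) ∈ Subgroup.normalizer (U : Set L) := hMmap ⟨_, hle hmem, rfl⟩
    have h1 : π (h⁻¹ * a * h) = w⁻¹ * π a * w := by
      simp only [map_mul, map_inv, hh]
    rw [h1] at hm
    exact haP (hSK a haS (hR.sep _ (hS ▸ ⟨a, haS, rfl⟩) hm))
  · -- commutators
    intro x hx y hy
    apply hSK _ (comm_mem_self hx hy)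
    rw [map_commutatorElement, commutatorElement_eq_one_iff_commute]
    exact hR.ab _ (hS ▸ ⟨x, hx, rfl⟩) _ (hS ▸ ⟨y, hy, rfl⟩)
  · -- the alternatives
    rcases hR.case with ⟨t, ht, hA⟩ | ⟨hcard, hcc⟩
    · left
      obtain ⟨g, rfl⟩ := hπ t
      obtain ⟨t₀, ht₀, htt⟩ := hlift g ht
      refine ⟨t₀, ht₀, ?_⟩
      intro x hx
      obtain ⟨y', hy', hxy⟩ := hA (π x) (hS ▸ ⟨x, hx, rfl⟩)
      rw [← hS] at hy'
      obtain ⟨y, hy, rfl⟩ := hy'
      refine ⟨y, hy, ?_⟩
      apply hSK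
      · refine S.toSubgroup.mul_mem (S.toSubgroup.inv_mem hx) ?_
        have h1 : y⁻¹ * t₀ * y * t₀⁻¹ = y⁻¹ * (t₀ * y * t₀⁻¹) := by group
        rw [h1]
        exact S.toSubgroup.mul_mem (S.toSubgroup.inv_mem hy)
          ((Subgroup.mem_normalizer_iff.mp ht₀ y).mp hy)
      · rw [map_mul, map_inv]
        simp only [map_mul, map_inv, htt]
        rw [hxy]
        group
    · right
      let P₀ : Sylow p L := S.mapSurjective hπ
      have hP₀ : (P₀ : Subgroup L) = U := hS
      have hcc' : Subgroup.normalizer ((P₀ : Subgroup L) : Set L) ≤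
          Subgroup.centralizer ((P₀ : Subgroup L) : Set L) := by
        rw [hP₀]; exact hcc
      let τ : L →* (P₀ : Subgroup L) := MonoidHom.transferSylow P₀ hcc'
      let E : Subgroup G := τ.ker.comap π
      have hEn : E.Normal := Subgroup.Normal.comap inferInstance π
      have hdisj := MonoidHom.ker_transferSylow_disjoint P₀ hcc' (P₀ : Subgroup L) P₀.isPGroup'
      refine ⟨E, hEn, ?_, ?_, ?_, ?_, ?_⟩
      · intro a b
        show τ (π ⁅a, b⁆) = 1
        rw [map_commutatorElement, map_commutatorElement, commutatorElement_eq_one_iff_commute]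
        apply Subtype.ext
        exact hR.ab _ (hP₀ ▸ (τ (π a)).2) _ (hP₀ ▸ (τ (π b)).2)
      · intro x hx
        show τ (π x) = 1
        rw [hπP x hx, map_one]
      · rintro x ⟨hxS, hxE⟩
        apply hSK x hxS
        have h1 : π x ∈ τ.ker ⊓ (P₀ : Subgroup L) := ⟨hxE, ⟨x, hxS, rfl⟩⟩
        rw [hdisj.eq_bot, Subgroup.mem_bot] at h1
        exact h1
      · intro t ht htP x hx
        have hπt : π t ∈ U := hS ▸ ⟨t, ht, rfl⟩
        have hπx : π x ∈ U := hS ▸ ⟨x, hx, rfl⟩
        have hne : (⟨π t, hπt⟩ : U) ≠ 1 := by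
          intro h1
          exact htP (hSK t ht (congrArg Subtype.val h1))
        have htop := zpowers_eq_top_of_prime_card hcard hne
        have hmem : (⟨π x, hπx⟩ : U) ∈ Subgroup.zpowers (⟨π t, hπt⟩ : U) := by rw [htop]; trivial
        rw [← mem_powers_iff_mem_zpowers] at hmem
        obtain ⟨k, hk⟩ := hmem
        refine ⟨k, hSK _ (S.toSubgroup.mul_mem (S.toSubgroup.inv_mem (S.toSubgroup.pow_mem ht k)) hx) ?_⟩
        have h1 : π t ^ k = π x := congrArg Subtype.val hk
        rw [map_mul, map_inv, map_pow, h1]; group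
      · intro x hx
        apply hSK _ (S.toSubgroup.pow_mem hx p)
        have hπx : π x ∈ U := hS ▸ ⟨x, hx, rfl⟩
        have h1 : (⟨π x, hπx⟩ : U) ^ Nat.card U = 1 := pow_card_eq_one'
        rw [hcard] at h1
        rw [map_pow]
        exact congrArg Subtype.val h1

end Cfsg.Agent.Lib.PushUp5
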