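import Mathlib
import Cfsg.Agent.Lib.PushUp5
import Cfsg.Agent.Lib.ClassicalSL2
import Cfsg.Agent.Lib.SL2NaturalModule

/-!
# Rank one pushing up: `PSL₂(q)` is of rank one type
-/

set_option autoImplicit false

namespace Cfsg.Agent.Lib.PushUp6

open Matrix Cfsg Cfsg.Agent.Lib.SL2NaturalModule Cfsg.Agent.Lib.PushUp2 Cfsg.Agent.Lib.PushUp4
open Cfsg.Agent.Lib.PushUp5
open scoped commutatorElement Pointwise

section Basic

variable {F : Type*} [Field F]

local notation "SL₂" => Matrix.SpecialLinearGroup (Fin 2) F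
local notation "PSL₂" => Matrix.ProjectiveSpecialLinearGroup (Fin 2) F

/-- The projection to `PSL₂`. -/
abbrev qq : SL₂ →* PSL₂ := QuotientGroup.mk' (Subgroup.center SL₂)

theorem qq_surj : Function.Surjective (qq (F := F)) := QuotientGroup.mk'_surjective _

theorem up_inv (x : F) : (up x)⁻¹ = (up (-x) : SL₂) := by
  apply inv_eq_of_mul_eq_one_right
  rw [up_add]
  simp [up_zero]

/-- The group of upper unitriangular matrices. -/
def upSub : Subgroup SL₂ where
  carrier := {m | ∃ x, m = up x}
  mul_mem' := by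
    rintro _ _ ⟨x, rfl⟩ ⟨y, rfl⟩
    exact ⟨x + y, up_add x y⟩
  one_mem' := ⟨0, up_zero.symm⟩
  inv_mem' := by
    rintro _ ⟨x, rfl⟩
    exact ⟨-x, up_inv x⟩

/-- The image of `upSub` in `PSL₂`. -/
def Ub : Subgroup PSL₂ := (upSub (F := F)).map qq

theorem qq_up_mem (x : F) : qq (up x) ∈ Ub (F := F) := ⟨up x, ⟨x, rfl⟩, rfl⟩

theorem mem_Ub {y : PSL₂} : y ∈ Ub (F := F) ↔ ∃ x : F, y = qq (up x) := by
  constructor
  · rintro ⟨_, ⟨x, rfl⟩, rfl⟩
    exact ⟨x, rfl⟩
  · rintro ⟨x, rfl⟩
    exact qq_up_mem x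

theorem ent_mul_apply (a b : SL₂) (i j : Fin 2) :
    ent (a * b) i j = ent a i 0 * ent b 0 j + ent a i 1 * ent b 1 j := by
  rw [ent_mul, Matrix.mul_apply, Fin.sum_univ_two]

theorem up00 (x : F) : ent (up x : SL₂) 0 0 = 1 := by simp [ent_up]
theorem up01 (x : F) : ent (up x : SL₂) 0 1 = x := by simp [ent_up]
theorem up10 (x : F) : ent (up x : SL₂) 1 0 = 0 := by simp [ent_up]
theorem up11 (x : F) : ent (up x : SL₂) 1 1 = 1 := by simp [ent_up]
theorem lo00 (x : F) : ent (lo x : SL₂) 0 0 = 1 := by simp [ent_lo]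
theorem lo01 (x : F) : ent (lo x : SL₂) 0 1 = 0 := by simp [ent_lo]
theorem lo10 (x : F) : ent (lo x : SL₂) 1 0 = x := by simp [ent_lo]
theorem lo11 (x : F) : ent (lo x : SL₂) 1 1 = 1 := by simp [ent_lo]

/-- Central elements are scalar. -/
theorem center_ent {c : SL₂} (hc : c ∈ Subgroup.center SL₂) :
    ent c 0 1 = 0 ∧ ent c 1 0 = 0 ∧ ent c 0 0 = ent c 1 1 := by
  rw [Matrix.SpecialLinearGroup.mem_center_iff] at hc
  obtain ⟨r, -, hr⟩ := hc
  have h : ent c = scalar (Fin 2) r := hr.symm
  rw [h]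
  simp

theorem qq_eq_iff {m n : SL₂} : qq m = qq n ↔ n⁻¹ * m ∈ Subgroup.center SL₂ := by
  show (QuotientGroup.mk m : PSL₂) = QuotientGroup.mk n ↔ _
  rw [eq_comm, QuotientGroup.eq]

theorem up_center {x : F} (h : (up x : SL₂) ∈ Subgroup.center SL₂) : x = 0 := by
  have := (center_ent h).1
  rwa [up01] at this

theorem qq_up_eq_one {x : F} (h : qq (up x) = 1) : x = 0 := by
  apply up_center
  exact (QuotientGroup.eq_one_iff _).mp h

theorem qq_up_inj {x y : F} (h : qq (up x) = qq (up y)) : x = y := by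
  rw [qq_eq_iff, up_inv, up_add] at h
  have := up_center h
  linear_combination this

/-- Elements of `Ub` have triangular preimages. -/
theorem ent_of_mem {m : SL₂} (h : qq m ∈ Ub (F := F)) : ent m 1 0 = 0 ∧ ent m 0 0 = ent m 1 1 := by
  obtain ⟨x, hx⟩ := mem_Ub.mp h
  rw [qq_eq_iff, up_inv] at hx
  obtain ⟨h1, h2, h3⟩ := center_ent hx
  simp only [ent_mul_apply, up00, up01, up10, up11] at h1 h2 h3
  have h4 : ent m 1 0 = 0 := by linear_combination h2
  refine ⟨h4, ?_⟩
  rw [h4] at h3
  linear_combination h3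

theorem tri_mul_up {m : SL₂} (h : ent m 1 0 = 0) (x : F) :
    m * up x = up (ent m 0 0 ^ 2 * x) * m := by
  have hdet := ent_det m
  rw [h, mul_zero, sub_zero] at hdet
  apply ent_ext <;> simp only [ent_mul_apply, up00, up01, up10, up11, h]
  · ring
  · linear_combination (-(ent m 0 0) * x) * hdet
  · ring
  · ring

theorem qq_tri_conj {m : SL₂} (h : ent m 1 0 = 0) (x : F) :
    qq m * qq (up x) * (qq m)⁻¹ = qq (up (ent m 0 0 ^ 2 * x)) := by
  rw [← map_mul, tri_mul_up h x, map_mul]
  group

/-- The conjugate of `up 1` and the lower left entry. -/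
theorem tri_of_conj {m : SL₂} (h : qq m * qq (up (1 : F)) * (qq m)⁻¹ ∈ Ub (F := F)) :
    ent m 1 0 = 0 := by
  set k : SL₂ := m * up 1 * m⁻¹ with hk
  have hk' : qq k ∈ Ub (F := F) := by
    rw [hk, map_mul, map_mul, map_inv]
    exact h
  obtain ⟨h1, h2⟩ := ent_of_mem hk'
  have hkm : k * m = m * up 1 := by rw [hk]; group
  have e1 : ent k 1 1 * ent m 1 0 = ent m 1 0 := by
    have := congrFun (congrFun (congrArg ent hkm) 1) 0
    simp only [ent_mul_apply, up00, up01, up10, up11, h1] at this
    linear_combination this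
  have e2 : ent k 1 1 * ent m 1 1 = ent m 1 0 + ent m 1 1 := by
    have := congrFun (congrFun (congrArg ent hkm) 1) 1
    simp only [ent_mul_apply, up00, up01, up10, up11, h1] at this
    linear_combination this
  by_contra hc
  have h3 : ent k 1 1 = 1 := by
    have : (ent k 1 1 - 1) * ent m 1 0 = 0 := by linear_combination e1
    rcases mul_eq_zero.mp this with h | h
    · linear_combination h
    · exact absurd h hc
  rw [h3, one_mul] at e2
  apply hc
  linear_combination -e2

/-- Products of unipotent and lower left. -/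
theorem sup_of_nontri {H : Subgroup SL₂} (hU : ∀ x, up x ∈ H) {m : SL₂} (hm : m ∈ H)
    (hc : ent m 1 0 ≠ 0) : H = ⊤ := by
  set c := ent m 1 0 with hcdef
  have hdet := ent_det m
  set y : SL₂ := up (-(ent m 0 0) / c) * m * up (-(ent m 1 1) / c) with hy
  have hyH : y ∈ H := H.mul_mem (H.mul_mem (hU _) hm) (hU _)
  have hy10 : ent y 1 0 = c := by
    rw [hy]
    simp only [ent_mul_apply, up00, up01, up10, up11, ← hcdef]
    ring
  have hy00 : ent y 0 0 = 0 := by
    rw [hy]
    simp only [ent_mul_apply, up00, up01, up10, up11, ← hcdef]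
    field_simp
    ring
  have hy11 : ent y 1 1 = 0 := by
    rw [hy]
    simp only [ent_mul_apply, up00, up01, up10, up11, ← hcdef]
    field_simp
    ring
  have hlo : ∀ z : F, lo z ∈ H := by
    intro z
    have h1 : lo z * y = y * up (-z / c ^ 2) := by
      have hdety := ent_det y
      rw [hy00, hy11, hy10] at hdety
      have hy01 : ent y 0 1 = - (1 / c) := by
        field_simp
        linear_combination -hdety
      apply ent_ext <;>
        simp only [ent_mul_apply, up00, up01, up10, up11, lo00, lo01, lo10, lo11, hy00, hy10, hy11,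
          hy01]
      · ring
      · ring
      · ring
      · field_simp
    have h2 : lo z = y * up (-z / c ^ 2) * y⁻¹ := by
      rw [← h1]; group
    rw [h2]
    exact H.mul_mem (H.mul_mem hyH (hU _)) (H.inv_mem hyH)
  rw [eq_top_iff]
  intro g _
  exact sl2_induction (P := fun a => a ∈ H) (fun a b ha hb => H.mul_mem ha hb) hU hlo g

theorem wey_conj (x : F) : (wey : SL₂)⁻¹ * up x * wey = lo (-x) := by
  have h := wey_lo (F := F) (-x)
  rw [neg_neg] at h
  calc (wey : SL₂)⁻¹ * up x * wey = wey⁻¹ * (up x * wey) := by group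
    _ = wey⁻¹ * (wey * lo (-x)) := by rw [h]
    _ = lo (-x) := by group

theorem exists_diff_squares [Finite F] {p : ℕ} (hp : p.Prime) (hpF : (p : F) = 0) (z : F) :
    ∃ u v : F, z = u ^ 2 - v ^ 2 := by
  classical
  haveI := Fintype.ofFinite F
  by_cases h2 : (2 : F) = 0
  · have hrc : ringChar F = 2 := by
      have : CharP F 2 := by
        rw [CharP.charP_iff_prime_eq_zero Nat.prime_two]
        exact_mod_cast h2
      exact ringChar.eq F 2
    obtain ⟨u, hu⟩ := FiniteField.isSquare_of_char_two hrc z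
    exact ⟨u, 0, by rw [hu]; ring⟩
  · refine ⟨(z + 1) / 2, (z - 1) / 2, ?_⟩
    field_simp
    ring

end Basic

section Main

variable {F : Type*} [Field F] [Fintype F]

local notation "SL₂" => Matrix.SpecialLinearGroup (Fin 2) F
local notation "PSL₂" => Matrix.ProjectiveSpecialLinearGroup (Fin 2) F

theorem qq_mem_normalizer {m : SL₂} (h : ent m 1 0 = 0) :
    qq m ∈ Subgroup.normalizer ((Ub (F := F) : Subgroup PSL₂) : Set PSL₂) := by
  apply Cfsg.Agent.Lib.Replacement.mem_normalizer_of_forall
  intro y hy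
  obtain ⟨x, rfl⟩ := mem_Ub.mp hy
  rw [qq_tri_conj h]
  exact qq_up_mem _

theorem tri_of_normalizer {m : SL₂}
    (h : qq m ∈ Subgroup.normalizer ((Ub (F := F) : Subgroup PSL₂) : Set PSL₂)) :
    ent m 1 0 = 0 := by
  apply tri_of_conj
  exact (Subgroup.mem_normalizer_iff.mp h _).mp (qq_up_mem 1)

theorem rankOne {p n : ℕ} [hp : Fact p.Prime] (hn : 1 ≤ n) (hF : Fintype.card F = p ^ n) :
    RankOne (Ub (F := F)) (qq wey) p := by
  classical
  have hpF : (p : F) = 0 := natCast_p_eq_zero hF
  refine ⟨?_, ?_, ?_, ?_, ?_, ?_⟩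
  · -- `ne`
    intro h
    have h1 : qq (up (1 : F)) ∈ Ub (F := F) := qq_up_mem 1
    rw [h, Subgroup.mem_bot] at h1
    exact one_ne_zero (qq_up_eq_one h1)
  · -- `max`
    intro H hUH
    let H' : Subgroup SL₂ := H.comap qq
    have hU : ∀ x : F, up x ∈ H' := fun x => hUH (qq_up_mem x)
    by_cases hc : ∃ m ∈ H', ent m 1 0 ≠ 0
    · left
      obtain ⟨m, hm, hmc⟩ := hc
      have htop := sup_of_nontri hU hm hmc
      rw [eq_top_iff]
      intro y _
      obtain ⟨g, rfl⟩ := qq_surj y
      have : g ∈ H' := by rw [htop]; trivial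
      exact this
    · right
      push Not at hc
      intro y hy
      obtain ⟨g, rfl⟩ := qq_surj y
      exact qq_mem_normalizer (hc g hy)
  · -- `sep`
    intro a ha h
    obtain ⟨x, rfl⟩ := mem_Ub.mp ha
    have h1 : (qq wey)⁻¹ * qq (up x) * qq wey = qq (lo (-x)) := by
      rw [← map_inv, ← map_mul, ← map_mul, wey_conj]
    rw [h1] at h
    have h2 := tri_of_normalizer h
    have hx : x = 0 := by
      rw [lo10] at h2
      linear_combination -h2
    rw [hx, up_zero, map_one]
  · -- `irr`
    intro R hRU hinv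
    have hsq : ∀ (u x : F), qq (up x) ∈ R → qq (up (u ^ 2 * x)) ∈ R := by
      intro u x hx
      by_cases hu : u = 0
      · rw [hu]
        simp [up_zero, R.one_mem]
      · have htor := qq_tri_conj (m := tor (Units.mk0 u hu)) (by simp [ent_tor]) x
        have hent : ent (tor (Units.mk0 u hu)) 0 0 = u := by simp [ent_tor]
        rw [hent] at htor
        rw [← htor]
        exact hinv _ (qq_mem_normalizer (by simp [ent_tor])) _ hx
    by_cases hbot : R = ⊥
    · exact Or.inl hbot
    · right
      obtain ⟨⟨r, hr⟩, hr1⟩ := (Subgroup.ne_bot_iff_exists_ne_one.mp hbot)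
      obtain ⟨a, rfl⟩ := mem_Ub.mp (hRU hr)
      have ha : a ≠ 0 := by
        rintro rfl
        apply hr1
        apply Subtype.ext
        show qq (up (0 : F)) = 1
        rw [up_zero, map_one]
      refine le_antisymm hRU ?_
      intro y hy
      obtain ⟨b, rfl⟩ := mem_Ub.mp hy
      obtain ⟨u, v, huv⟩ := exists_diff_squares hp.out hpF (b / a)
      have hb : b = u ^ 2 * a + -(v ^ 2 * a) := by
        have : b = (b / a) * a := by field_simp
        rw [this, huv]
        ring
      rw [hb, ← up_add, map_mul, ← up_inv, map_inv]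
      exact R.mul_mem (hsq u a hr) (R.inv_mem (hsq v a hr))
  · -- `ab`
    intro a ha b hb
    obtain ⟨x, rfl⟩ := mem_Ub.mp ha
    obtain ⟨y, rfl⟩ := mem_Ub.mp hb
    rw [← map_mul, ← map_mul, up_add, up_add, add_comm]
  · -- `case`
    by_cases hs : ∃ s : Fˣ, (s : F) ^ 2 ≠ 1
    · left
      obtain ⟨s, hs⟩ := hs
      have hent : ent (tor s) 1 0 = 0 := by simp [ent_tor]
      have hent0 : ent (tor s) 0 0 = (s : F) := by simp [ent_tor]
      refine ⟨qq (tor s), qq_mem_normalizer hent, ?_⟩
      intro x hx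
      obtain ⟨a, rfl⟩ := mem_Ub.mp hx
      have hne : (s : F) ^ 2 - 1 ≠ 0 := sub_ne_zero.mpr hs
      refine ⟨qq (up (a / ((s : F) ^ 2 - 1))), qq_up_mem _, ?_⟩
      set b := a / ((s : F) ^ 2 - 1) with hb
      have h1 : (qq (up b))⁻¹ * qq (tor s) * qq (up b) * (qq (tor s))⁻¹ =
          (qq (up b))⁻¹ * (qq (tor s) * qq (up b) * (qq (tor s))⁻¹) := by group
      rw [h1, qq_tri_conj hent, hent0, ← map_inv, up_inv, ← map_mul, up_add]
      congr 2
      rw [hb]
      field_simp
      ring
    · right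
      push Not at hs
      have hel : ∀ x : F, x = 0 ∨ x = 1 ∨ x = -1 := by
        intro x
        by_cases hx : x = 0
        · exact Or.inl hx
        · right
          have h1 := hs (Units.mk0 x hx)
          have h2 : (x - 1) * (x + 1) = 0 := by
            have h3 : x ^ 2 = 1 := by simpa using h1
            linear_combination h3
          rcases mul_eq_zero.mp h2 with h | h
          · left; linear_combination h
          · right; linear_combination h
      have hcardF : Fintype.card F = p := by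
        have hle : Fintype.card F ≤ 3 := by
          have h1 : (Finset.univ : Finset F) ⊆ {0, 1, -1} := by
            intro x _
            simpa using hel x
          calc Fintype.card F = (Finset.univ : Finset F).card := rfl
            _ ≤ ({0, 1, -1} : Finset F).card := Finset.card_le_card h1
            _ ≤ 3 := Finset.card_le_three
        rw [hF] at hle ⊢
        have hn1 : n = 1 := by
          by_contra hne
          have h2 : 2 ≤ n := by omega
          have h3 : p ^ 2 ≤ p ^ n := Nat.pow_le_pow_right hp.out.pos h2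
          have h4 : 2 ≤ p := hp.out.two_le
          nlinarith
        rw [hn1, pow_one]
      refine ⟨?_, ?_⟩
      · have hbij : Function.Bijective (fun x : F => (⟨qq (up x), qq_up_mem x⟩ : Ub (F := F))) := by
          constructor
          · intro x y hxy
            exact qq_up_inj (congrArg Subtype.val hxy)
          · rintro ⟨y, hy⟩
            obtain ⟨x, rfl⟩ := mem_Ub.mp hy
            exact ⟨x, rfl⟩
        rw [← Nat.card_congr (Equiv.ofBijective _ hbij), Nat.card_eq_fintype_card, hcardF]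
      · intro y hy
        obtain ⟨m, rfl⟩ := qq_surj y
        have h10 := tri_of_normalizer hy
        have hdet := ent_det m
        rw [h10, mul_zero, sub_zero] at hdet
        have ha : ent m 0 0 ≠ 0 := left_ne_zero_of_mul_eq_one hdet
        have hsq : ent m 0 0 ^ 2 = 1 := by
          simpa using hs (Units.mk0 _ ha)
        refine Subgroup.mem_centralizer_iff.mpr ?_
        intro b hb
        obtain ⟨x, rfl⟩ := mem_Ub.mp hb
        have h1 := tri_mul_up h10 x
        rw [hsq, one_mul] at h1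
        rw [← map_mul, ← map_mul, h1]

omit [Fintype F] in
theorem up_eq_transvection (x : F) :
    (up x : SL₂) = SpecialLinearGroup.transvection zero_ne_one x := by
  apply Subtype.ext
  ext i j
  fin_cases i <;> fin_cases j <;> simp [up_val, SpecialLinearGroup.transvection_coe]

/-- The Sylow subgroup `Ub`. -/
theorem exists_sylow_Ub {p n : ℕ} [hp : Fact p.Prime] (hF : Fintype.card F = p ^ n) :
    ∃ P : Sylow p PSL₂, (P : Subgroup PSL₂) = Ub (F := F) := by
  classical
  have hpF : (p : F) = 0 := natCast_p_eq_zero hF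
  haveI : CharP F p := (CharP.charP_iff_prime_eq_zero hp.out).mpr hpF
  refine ⟨(Cfsg.Agent.Lib.ClassicalSL2.sylowX0 (F := F) p).mapSurjective qq_surj, ?_⟩
  show ((Cfsg.Agent.Lib.ClassicalSL2.sylowX0 (F := F) p : Sylow p SL₂) : Subgroup SL₂).map qq = _
  rw [Cfsg.Agent.Lib.ClassicalSL2.coe_sylowX0]
  unfold Ub
  congr 1
  ext m
  constructor
  · intro hm
    refine ⟨ent m 0 1, ?_⟩
    have h1 := Cfsg.Agent.Lib.ClassicalSL2.eq_transvection_of_mem_U_x0 hm
    have h2 : ent m 0 1 = (m : Matrix (Fin 2) (Fin 2) F) 0 1 := rfl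
    rw [h2, up_eq_transvection]
    exact h1
  · rintro ⟨x, rfl⟩
    rw [up_eq_transvection]
    exact Cfsg.Agent.Lib.ClassicalSL2.transvection_mem_U_x0 x

end Main

/-- The abstract data of the rank one hypotheses. -/
theorem data_of_psl {G : Type*} [Group G] [Finite G] {p : ℕ} [hp : Fact p.Prime] (S : Sylow p G)
    (hE₁ : Subgroup.centralizer (Cfsg.pCore p G : Set G) ≤ Cfsg.pCore p G)
    (hE₂ : ∃! M : Subgroup G, IsCoatom M ∧ (S : Subgroup G) ≤ M)
    (K : Subgroup G) [K.Normal] (F : Type) [Field F] [Fintype F] (n : ℕ) (hn : 1 ≤ n)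
    (hF : Fintype.card F = p ^ n)
    (hE₃ : Nonempty (G ⧸ K ≃* Matrix.ProjectiveSpecialLinearGroup (Fin 2) F)) :
    Data S ∧ (∀ x ∈ (S : Subgroup G), ∀ y ∈ (S : Subgroup G), ⁅x, y⁆ ∈ pCore p G) ∧
      (CaseA S ∨ CaseB S) := by
  classical
  obtain ⟨e⟩ := hE₃
  let π₀ : G →* Matrix.ProjectiveSpecialLinearGroup (Fin 2) F :=
    e.toMonoidHom.comp (QuotientGroup.mk' K)
  have hπ₀ : Function.Surjective π₀ := e.surjective.comp (QuotientGroup.mk'_surjective K)
  obtain ⟨P, hP⟩ := exists_sylow_Ub (F := F) hF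
  obtain ⟨l, hl⟩ := MulAction.exists_smul_eq (Matrix.ProjectiveSpecialLinearGroup (Fin 2) F)
    (S.mapSurjective hπ₀) P
  let π : G →* Matrix.ProjectiveSpecialLinearGroup (Fin 2) F :=
    (MulAut.conj l).toMonoidHom.comp π₀
  have hπ : Function.Surjective π := (MulAut.conj l).surjective.comp hπ₀
  have hS : (S : Subgroup G).map π = Ub (F := F) := by
    rw [← hP, ← hl]
    show (S : Subgroup G).map π = MulAut.conj l • ((S : Subgroup G).map π₀)
    ext x
    rw [Subgroup.mem_pointwise_smul_iff_inv_smul_mem]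
    constructor
    · rintro ⟨s, hs, rfl⟩
      refine ⟨s, hs, ?_⟩
      show π₀ s = (MulAut.conj l)⁻¹ • (l * π₀ s * l⁻¹)
      rw [MulAut.smul_def, MulAut.conj_inv_apply]
      group
    · rintro ⟨s, hs, hsx⟩
      refine ⟨s, hs, ?_⟩
      rw [MulAut.smul_def, MulAut.conj_inv_apply] at hsx
      show l * π₀ s * l⁻¹ = x
      rw [hsx]
      group
  exact data_of π hπ S (rankOne hn hF) hS hE₁ hE₂

end Cfsg.Agent.Lib.PushUp6
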