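import Mathlib
import Cfsg.Agent.Lib.ChermakDelgado
import Cfsg.Agent.Lib.PushUp6

/-!
# Centrally large subgroups in the rank one pushing-up situation

`S` is a Sylow `p`-subgroup of `G` with the rank one pushing-up data and `S` centralizes `Z(J(S))`.
If `Z(S)` generates a non-nilpotently acted normal subgroup, then `O_p(G)` is centrally large in `S`.
Conjugation in `G` permutes the minimal centrally large subgroups of `S` inside `O_p(G)`.
-/

set_option autoImplicit false

namespace Cfsg.Agent.Lib.PushCL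

open Cfsg Cfsg.Agent.Lib.PCore Cfsg.Agent.Lib.ChermakDelgado Cfsg.Agent.Lib.PushUp2 Cfsg.Agent.Lib.PushUp3
open scoped commutatorElement

section Iso

variable {T : Type*} [Group T]

/-- Isomorphic subgroups of `T` are simultaneously centrally large. -/
theorem isCentrallyLarge_of_equiv {A B : Subgroup T} (e : ↥A ≃* ↥B) (h : IsCentrallyLarge A) :
    IsCentrallyLarge B := by
  unfold IsCentrallyLarge at h ⊢
  rw [← h, Nat.card_congr e.toEquiv, Nat.card_congr (Subgroup.centerCongr e).toEquiv]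

end Iso

section Conj

variable {G : Type*} [Group G] (S : Subgroup G)

/-- `A^g = B` seen from `G`, for subgroups `A, B` of `S`. -/
def ConjIn (g : G) (A B : Subgroup ↥S) : Prop :=
  (A.map S.subtype).map (MulAut.conj g).toMonoidHom = B.map S.subtype

variable {S}

theorem ConjIn.symm {g : G} {A B : Subgroup ↥S} (h : ConjIn S g A B) : ConjIn S g⁻¹ B A := by
  unfold ConjIn at h ⊢
  rw [← h]
  ext x
  simp only [Subgroup.mem_map]
  constructor
  · rintro ⟨y, ⟨z, ⟨w, hw, rfl⟩, rfl⟩, rfl⟩
    exact ⟨w, hw, by simp; group⟩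
  · rintro ⟨w, hw, rfl⟩
    exact ⟨_, ⟨_, ⟨w, hw, rfl⟩, rfl⟩, by simp; group⟩

/-- The isomorphism induced by conjugation. -/
noncomputable def ConjIn.equiv {g : G} {A B : Subgroup ↥S} (h : ConjIn S g A B) : ↥A ≃* ↥B :=
  let e₁ : ↥A ≃* ↥(A.map S.subtype) := A.equivMapOfInjective S.subtype S.subtype_injective
  let e₂ : ↥(A.map S.subtype) ≃* ↥((A.map S.subtype).map (MulAut.conj g).toMonoidHom) :=
    (A.map S.subtype).equivMapOfInjective _ (MulAut.conj g).injective
  let e₃ : ↥((A.map S.subtype).map (MulAut.conj g).toMonoidHom) ≃* ↥(B.map S.subtype) :=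
    MulEquiv.subgroupCongr h
  let e₄ : ↥B ≃* ↥(B.map S.subtype) := B.equivMapOfInjective S.subtype S.subtype_injective
  e₁.trans (e₂.trans (e₃.trans e₄.symm))

theorem ConjIn.cl {g : G} {A B : Subgroup ↥S} (h : ConjIn S g A B) (hA : IsCentrallyLarge A) :
    IsCentrallyLarge B :=
  isCentrallyLarge_of_equiv h.equiv hA

theorem ConjIn.card {g : G} {A B : Subgroup ↥S} (h : ConjIn S g A B) :
    Nat.card ↥A = Nat.card ↥B := Nat.card_congr h.equiv.toEquiv

/-- Conjugate of a subgroup of `S` which stays inside `S`. -/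
def conjIn (g : G) (A : Subgroup ↥S) : Subgroup ↥S :=
  ((A.map S.subtype).map (MulAut.conj g).toMonoidHom).subgroupOf S

theorem conjIn_spec {g : G} {A : Subgroup ↥S}
    (h : ∀ a ∈ A, g * (a : G) * g⁻¹ ∈ S) : ConjIn S g A (conjIn g A) := by
  unfold ConjIn conjIn
  rw [Subgroup.map_subgroupOf_eq_of_le]
  rintro _ ⟨_, ⟨a, ha, rfl⟩, rfl⟩
  exact h a ha

/-- Minimal centrally large subgroups go to minimal centrally large ones. -/
theorem ConjIn.mcl [Finite G] {g : G} {A B : Subgroup ↥S} (h : ConjIn S g A B)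
    (hA : IsMinimalCentrallyLarge A) : IsMinimalCentrallyLarge B := by
  refine ⟨h.cl hA.1, fun B' hB' hcl => ?_⟩
  have hsymm := h.symm
  -- pull `B'` back
  have hB'A : ∀ b ∈ B', g⁻¹ * ((b : ↥S) : G) * g ∈ S := by
    intro b hb
    have hm : g⁻¹ * ((b : ↥S) : G) * (g⁻¹)⁻¹ ∈ (A.map S.subtype) := by
      have : g⁻¹ * ((b : ↥S) : G) * (g⁻¹)⁻¹ ∈ (B.map S.subtype).map (MulAut.conj g⁻¹).toMonoidHom :=
        ⟨_, ⟨b, hB' hb, rfl⟩, rfl⟩
      rw [hsymm] at this
      exact this
    obtain ⟨a, _, ha⟩ := hm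
    have : g⁻¹ * ((b : ↥S) : G) * g = (a : G) := by
      rw [show (a : G) = S.subtype a from rfl, ha]; group
    rw [this]
    exact a.2
  have hs : ConjIn S g⁻¹ B' (conjIn g⁻¹ B') := by
    apply conjIn_spec
    intro b hb
    have := hB'A b hb
    simpa using this
  have hle : conjIn g⁻¹ B' ≤ A := by
    intro x hx
    have hx' : (x : G) ∈ (conjIn g⁻¹ B').map S.subtype := ⟨x, hx, rfl⟩
    rw [← hs] at hx'
    obtain ⟨_, ⟨b, hb, rfl⟩, hbx⟩ := hx'
    have : (x : G) ∈ (B.map S.subtype).map (MulAut.conj g⁻¹).toMonoidHom :=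
      ⟨_, ⟨b, hB' hb, rfl⟩, hbx⟩
    rw [hsymm] at this
    obtain ⟨a, ha, hax⟩ := this
    have hax' : a = x := Subtype.ext hax
    exact hax' ▸ ha
  have heq := hA.2 _ hle (hs.cl hcl)
  apply Subgroup.eq_of_le_of_card_ge hB'
  rw [← h.card, ← heq, ← hs.card]

/-- Conjugation respects derived subgroups. -/
theorem ConjIn.derived {g : G} {A B : Subgroup ↥S} (h : ConjIn S g A B) :
    ((⁅A, A⁆).map S.subtype).map (MulAut.conj g).toMonoidHom = (⁅B, B⁆).map S.subtype := by
  unfold ConjIn at h
  rw [Subgroup.map_commutator, Subgroup.map_commutator, Subgroup.map_commutator, h]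

end Conj

section Basic

variable {G : Type*} [Group G]

/-- Two minimal centrally large subgroups have the same derived subgroup. -/
theorem mcl_derived_eq {T : Type*} [Group T] [Finite T] {Q R : Subgroup T}
    (hQ : IsMinimalCentrallyLarge Q) (hR : IsMinimalCentrallyLarge R) : ⁅Q, Q⁆ = ⁅R, R⁆ := by
  rw [mcl_commutator hQ hR.1, mcl_commutator hR hQ.1, inf_comm]

/-- Automorphisms permute the minimal centrally large subgroups. -/
theorem mcl_map_equiv {T : Type*} [Group T] [Finite T] {Q : Subgroup T}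
    (hQ : IsMinimalCentrallyLarge Q) (φ : T ≃* T) :
    IsMinimalCentrallyLarge (Q.map φ.toMonoidHom) := by
  refine ⟨isCentrallyLarge_of_equiv (Q.equivMapOfInjective _ φ.injective) hQ.1, fun R' hR' hcl => ?_⟩
  have hle : R'.map φ.symm.toMonoidHom ≤ Q := by
    rintro _ ⟨r, hr, rfl⟩
    obtain ⟨q, hq, hqr⟩ := hR' hr
    have : φ.symm.toMonoidHom r = q := by
      rw [← hqr]; simp
    rw [this]; exact hq
  have heq := hQ.2 _ hle (isCentrallyLarge_of_equiv (R'.equivMapOfInjective _ φ.symm.injective) hcl)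
  apply le_antisymm hR'
  rw [← heq]
  rintro _ ⟨_, ⟨r, hr, rfl⟩, rfl⟩
  simpa using hr

/-- The derived subgroup of a minimal centrally large subgroup is characteristic. -/
theorem mcl_derived_char {T : Type*} [Group T] [Finite T] {Q : Subgroup T}
    (hQ : IsMinimalCentrallyLarge Q) : (⁅Q, Q⁆).Characteristic := by
  rw [Subgroup.characteristic_iff_map_eq]
  intro φ
  rw [Subgroup.map_commutator]
  exact mcl_derived_eq (mcl_map_equiv hQ φ) hQ

/-- Trivial derived subgroup means commutative. -/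
theorem isMulCommutative_of_commutator_eq_bot {T : Type*} [Group T] {Q : Subgroup T}
    (h : ⁅Q, Q⁆ = ⊥) : IsMulCommutative ↥Q := by
  refine ⟨⟨fun a b => Subtype.ext ?_⟩⟩
  have hc : ⁅(a : T), (b : T)⁆ ∈ ⁅Q, Q⁆ := Subgroup.commutator_mem_commutator a.2 b.2
  rw [h, Subgroup.mem_bot] at hc
  exact commutatorElement_eq_one_iff_mul_comm.mp hc

/-- `Z(S)` as a subgroup of the ambient group. -/
abbrev ZS (S : Subgroup G) : Subgroup G := S ⊓ Subgroup.centralizer (S : Set G)

/-- The normal closure of `Z(S)`. -/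
def VV (S : Subgroup G) : Subgroup G := Subgroup.normalClosure (ZS S : Set G)

instance (S : Subgroup G) : (VV S).Normal := Subgroup.normalClosure_normal

theorem ZS_le_VV (S : Subgroup G) : ZS S ≤ VV S := Subgroup.le_normalClosure

variable [Finite G] {p : ℕ} [hp : Fact p.Prime]

theorem ZS_le_cent (S : Sylow p G) :
    ZS (S : Subgroup G) ≤ Subgroup.centralizer (pCore p G : Set G) := by
  intro z hz
  rw [Subgroup.mem_centralizer_iff]
  intro x hx
  exact Subgroup.mem_centralizer_iff.mp hz.2 x (core_le S hx)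

theorem VV_le_cent (S : Sylow p G) :
    VV (S : Subgroup G) ≤ Subgroup.centralizer (pCore p G : Set G) := by
  have hPn : (pCore p G).Normal := pCore_normal p G
  have : (Subgroup.centralizer (pCore p G : Set G)).Normal := Subgroup.normal_centralizer
  exact Subgroup.normalClosure_le_normal (ZS_le_cent S)

theorem VV_comm (S : Sylow p G) : ∀ x ∈ pCore p G, ∀ y ∈ VV (S : Subgroup G), x * y = y * x :=
  fun x hx y hy => Subgroup.mem_centralizer_iff.mp (VV_le_cent S hy) x hx

theorem VV_le_core (S : Sylow p G) (hc : Subgroup.centralizer (pCore p G : Set G) ≤ pCore p G) :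
    VV (S : Subgroup G) ≤ pCore p G := (VV_le_cent S).trans hc

end Basic

section Main

variable {G : Type*} [Group G] [Finite G] {p : ℕ} [hp : Fact p.Prime]

/-- `S = J̃(S)` forces `S` to be centrally large. -/
theorem top_cl (S : Subgroup G)
    (hJ : S ≤ Subgroup.centralizer (centerThompsonAOf S : Set G)) :
    IsCentrallyLarge (⊤ : Subgroup ↥S) := by
  have h1 := isCentrallyLarge_centrallyLargeJoin (G := ↥S)
  have hle : thompsonSubgroupA ↥S ≤ centrallyLargeJoin ↥S := by
    apply sSup_le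
    intro A₂ hA₂
    have h5 := (cl_maxAb h1 hA₂).2.1
    have h6 : centrallyLargeJoin ↥S ⊔ A₂ ≤ centrallyLargeJoin ↥S := le_sSup h5
    exact le_sup_right.trans h6
  have h2 := Cz_center_thompson_le h1 hle
  have htop : centrallyLargeJoin ↥S = ⊤ := by
    rw [eq_top_iff]
    intro x _
    apply h2
    rw [mem_Cz]
    rintro h ⟨hh1, hh2⟩
    have hz : (h : G) ∈ centerThompsonAOf S := by
      refine Subgroup.mem_inf.mpr ⟨⟨h, hh1, rfl⟩, ?_⟩
      rw [Subgroup.mem_centralizer_iff]
      rintro _ ⟨y, hy, rfl⟩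
      have := (mem_Cz.mp hh2) y hy
      exact congrArg Subtype.val this
    have := Subgroup.mem_centralizer_iff.mp (hJ x.2) _ hz
    exact Subtype.ext this
  rw [← htop]
  exact h1

/-- The image of a subgroup of `S` in the ambient group has the same order. -/
theorem card_subgroupOf_of_le {A S : Subgroup G} (h : A ≤ S) :
    Nat.card ↥(A.subgroupOf S) = Nat.card ↥A :=
  Nat.card_congr (Subgroup.subgroupOfEquivOfLe h).toEquiv

/-- If `Z(S)` is not nilpotently acted on, then `O_p(G)` is centrally large in `S`. -/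
theorem core_cl {S : Sylow p G} (D : Data S)
    (hJ : (S : Subgroup G) ≤ Subgroup.centralizer (centerThompsonAOf (S : Subgroup G) : Set G))
    (hnil : ∀ k, iterCommutator (VV (S : Subgroup G)) ⊤ k ≠ ⊥) :
    IsCentrallyLarge ((pCore p G).subgroupOf (S : Subgroup G)) := by
  classical
  set SS := (S : Subgroup G) with hSS
  have hPS : pCore p G ≤ SS := core_le S
  have hVP := VV_le_core S D.cent
  have hof := offender D hVP (VV_comm S) hnil (A := SS) le_rfl
  have htop := top_cl SS hJ
  rw [isCentrallyLarge_iff_fm]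
  intro Y
  refine ((isCentrallyLarge_iff_fm _).mp htop Y).trans ?_
  -- `fm ⊤`
  have hZ : Nat.card ↥((⊤ : Subgroup ↥SS) ⊓ Cz (⊤ : Subgroup ↥SS)) ≤
      Nat.card ↥(VV SS ⊓ Subgroup.centralizer (SS : Set G)) := by
    have hinj : Function.Injective
        (fun x : ↥((⊤ : Subgroup ↥SS) ⊓ Cz (⊤ : Subgroup ↥SS)) =>
          (⟨((x : ↥SS) : G), by
            have hc : ((x : ↥SS) : G) ∈ Subgroup.centralizer (SS : Set G) := by
              rw [Subgroup.mem_centralizer_iff]
              intro y hy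
              have := (mem_Cz.mp x.2.2) ⟨y, hy⟩ trivial
              exact congrArg Subtype.val this
            exact Subgroup.mem_inf.mpr ⟨ZS_le_VV SS (Subgroup.mem_inf.mpr ⟨(x : ↥SS).2, hc⟩), hc⟩⟩ :
            ↥(VV SS ⊓ Subgroup.centralizer (SS : Set G)))) := by
      intro a b hab
      have := congrArg Subtype.val hab
      exact Subtype.ext (Subtype.ext this)
    exact Nat.card_le_card_of_injective _ hinj
  -- `fm Rt`
  have hVt : (VV SS).subgroupOf SS ≤
      (pCore p G).subgroupOf SS ⊓ Cz ((pCore p G).subgroupOf SS) := by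
    intro x hx
    refine Subgroup.mem_inf.mpr ⟨hVP hx, ?_⟩
    rw [mem_Cz]
    intro r hr
    exact Subtype.ext (VV_comm S r hr x hx)
  have hVS : VV SS ≤ SS := hVP.trans hPS
  have hR : Nat.card ↥(VV SS) ≤
      Nat.card ↥((pCore p G).subgroupOf SS ⊓ Cz ((pCore p G).subgroupOf SS)) := by
    rw [← card_subgroupOf_of_le hVS]
    exact Subgroup.card_le_of_le hVt
  unfold fm
  have hcards : Nat.card ↥(⊤ : Subgroup ↥SS) = Nat.card ↥SS := Nat.card_congr Subgroup.topEquiv.toEquiv
  rw [hcards, card_subgroupOf_of_le hPS]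
  calc Nat.card ↥SS * Nat.card ↥((⊤ : Subgroup ↥SS) ⊓ Cz (⊤ : Subgroup ↥SS))
      ≤ Nat.card ↥SS * Nat.card ↥(VV SS ⊓ Subgroup.centralizer (SS : Set G)) :=
        Nat.mul_le_mul_left _ hZ
    _ ≤ Nat.card ↥(VV SS) * Nat.card ↥(SS ⊓ pCore p G) := hof
    _ = Nat.card ↥(VV SS) * Nat.card ↥(pCore p G) := by rw [inf_eq_right.mpr hPS]
    _ ≤ _ := by
        rw [mul_comm]
        exact Nat.mul_le_mul_left _ hR

/-- In the nilpotently acted case `Z(S)` is central in `G`. -/
theorem ZS_central {S : Sylow p G} (hc : Subgroup.centralizer (pCore p G : Set G) ≤ pCore p G)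
    {k : ℕ} (hk : iterCommutator (VV (S : Subgroup G)) ⊤ k = ⊥) :
    ZS (S : Subgroup G) ≤ Subgroup.center G := by
  intro z hz
  have hVp : IsPGroup p (VV (S : Subgroup G)) :=
    (isPGroup_pCore p).to_le (VV_le_core S hc)
  refine nilp_central (S := S) hVp hk (ZS_le_VV _ hz) ?_
  intro s hs
  exact Subgroup.mem_centralizer_iff.mp hz.2 s hs

/-- Conjugates of minimal centrally large subgroups inside `O_p(G)`. -/
theorem mcl_conj {S : Sylow p G} {Q : Subgroup ↥(S : Subgroup G)}
    (hQ : IsMinimalCentrallyLarge Q) (hQR : Q ≤ (pCore p G).subgroupOf (S : Subgroup G)) (g : G) :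
    ∃ Q' : Subgroup ↥(S : Subgroup G), IsMinimalCentrallyLarge Q' ∧
      Q' ≤ (pCore p G).subgroupOf (S : Subgroup G) ∧ ConjIn (S : Subgroup G) g Q Q' := by
  haveI hPn : (pCore p G).Normal := pCore_normal p G
  have hs : ∀ a ∈ Q, g * ((a : ↥(S : Subgroup G)) : G) * g⁻¹ ∈ pCore p G := fun a ha =>
    hPn.conj_mem _ (hQR ha) g
  have hc := conjIn_spec (g := g) (A := Q) (fun a ha => core_le S (hs a ha))
  refine ⟨_, hc.mcl hQ, ?_, hc⟩
  intro x hx
  have hx' : (x : G) ∈ (conjIn g Q).map (S : Subgroup G).subtype := ⟨x, hx, rfl⟩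
  rw [← hc] at hx'
  obtain ⟨_, ⟨a, ha, rfl⟩, hax⟩ := hx'
  show (x : G) ∈ pCore p G
  rw [← hax]
  exact hs a ha

/-- The derived group of a minimal centrally large subgroup is normal if some such subgroup
lies in `O_p(G)`. -/
theorem derived_normal {S : Sylow p G} {Q Q₂ : Subgroup ↥(S : Subgroup G)}
    (hQ : IsMinimalCentrallyLarge Q) (hQ₂ : IsMinimalCentrallyLarge Q₂)
    (hQ₂R : Q₂ ≤ (pCore p G).subgroupOf (S : Subgroup G)) :
    ((⁅Q, Q⁆).map (S : Subgroup G).subtype).Normal := by
  constructor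
  intro n hn g
  rw [mcl_derived_eq hQ hQ₂] at hn ⊢
  obtain ⟨Q', hQ', -, hc⟩ := mcl_conj hQ₂ hQ₂R g
  rw [mcl_derived_eq hQ₂ hQ', ← hc.derived]
  exact ⟨n, hn, rfl⟩

/-- The join of the minimal centrally large subgroups is normal if they all lie in `O_p(G)`. -/
theorem join_normal {S : Sylow p G}
    (h : ∀ Q : Subgroup ↥(S : Subgroup G), IsMinimalCentrallyLarge Q →
      Q ≤ (pCore p G).subgroupOf (S : Subgroup G)) :
    ((minimalCentrallyLargeJoin ↥(S : Subgroup G)).map (S : Subgroup G).subtype).Normal := by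
  constructor
  intro n hn g
  have hle : ((minimalCentrallyLargeJoin ↥(S : Subgroup G)).map (S : Subgroup G).subtype).map
      (MulAut.conj g).toMonoidHom ≤
      (minimalCentrallyLargeJoin ↥(S : Subgroup G)).map (S : Subgroup G).subtype := by
    unfold minimalCentrallyLargeJoin
    rw [Subgroup.map_le_iff_le_comap, Subgroup.map_le_iff_le_comap]
    apply sSup_le
    intro Q hQ
    obtain ⟨Q', hQ', -, hc⟩ := mcl_conj hQ (h Q hQ) g
    rw [← Subgroup.map_le_iff_le_comap, ← Subgroup.map_le_iff_le_comap]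
    unfold ConjIn at hc
    rw [hc]
    exact Subgroup.map_mono (le_sSup hQ')
  exact hle ⟨n, hn, rfl⟩

/-- The key alternative for the derived subgroup. -/
theorem s2990_middle {S : Sylow p G} (D : Data S)
    (hJ : (S : Subgroup G) ≤ Subgroup.centralizer (centerThompsonAOf (S : Subgroup G) : Set G))
    {Q : Subgroup ↥(S : Subgroup G)} (hQ : IsMinimalCentrallyLarge Q) :
    (ZS (S : Subgroup G) ⊓ (⁅Q, Q⁆).map (S : Subgroup G).subtype).Normal ∨
      ((minimalCentrallyLargeJoin ↥(S : Subgroup G)).map (S : Subgroup G).subtype).Normal := by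
  classical
  haveI hPn : (pCore p G).Normal := pCore_normal p G
  have hPS : pCore p G ≤ (S : Subgroup G) := core_le S
  by_cases hnil : ∀ k, iterCommutator (VV (S : Subgroup G)) ⊤ k ≠ ⊥
  · have hcl := core_cl D hJ hnil
    obtain ⟨Q₂, hQ₂, hQ₂R⟩ := exists_minimal_le hcl
    by_cases hall : ∀ Q' : Subgroup ↥(S : Subgroup G), IsMinimalCentrallyLarge Q' →
        Q' ≤ (pCore p G).subgroupOf (S : Subgroup G)
    · exact Or.inr (join_normal hall)
    · left
      push Not at hall
      obtain ⟨Q', hQ', hQ'R⟩ := hall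
      haveI hXn : ((⁅Q, Q⁆).map (S : Subgroup G).subtype).Normal := derived_normal hQ hQ₂ hQ₂R
      haveI hCn : (Subgroup.centralizer (((⁅Q, Q⁆).map (S : Subgroup G).subtype : Subgroup G) : Set G)).Normal :=
        Subgroup.normal_centralizer
      set X := (⁅Q, Q⁆).map (S : Subgroup G).subtype with hX
      -- an element of `Z(Q')` outside `O_p(G)`
      have hZ' : ¬ Cz Q' ≤ (pCore p G).subgroupOf (S : Subgroup G) := by
        intro hz
        apply hQ'R
        rw [← mcl_sup_eq hQ' hQ₂.1]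
        exact sup_le (inf_le_right.trans hQ₂R) hz
      obtain ⟨s, hs, hsR⟩ := SetLike.not_le_iff_exists.mp hZ'
      -- `s` centralizes `X`
      have hsX : (s : G) ∈ Subgroup.centralizer (X : Set G) := by
        rw [Subgroup.mem_centralizer_iff]
        rintro _ ⟨x, hx, rfl⟩
        rw [mcl_derived_eq hQ hQ'] at hx
        have hx' : x ∈ Q' := (Subgroup.commutator_le.mpr fun a ha b hb =>
          Cfsg.Agent.Lib.PushUp4.comm_mem_self ha hb) hx
        have := (mem_Cz.mp hs) x hx'
        exact congrArg Subtype.val this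
      -- apply invariance
      have hinv := D.invar ((S : Subgroup G) ⊓ Subgroup.centralizer (X : Set G)) inf_le_left (by
        intro t ht r hr
        refine ⟨?_, hCn.conj_mem _ hr.2 t⟩
        exact (Subgroup.mem_normalizer_iff.mp ht r).mp hr.1)
      have hcov : (S : Subgroup G) ≤ ((S : Subgroup G) ⊓ Subgroup.centralizer (X : Set G)) ⊔ pCore p G := by
        rcases hinv with h | h
        · exact absurd (h ⟨s.2, hsX⟩) hsR
        · exact h
      constructor
      intro n hn g
      have hnX : g * n * g⁻¹ ∈ X := hXn.conj_mem _ hn.2 g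
      have hnR : g * n * g⁻¹ ∈ Subgroup.centralizer (pCore p G : Set G) :=
        Subgroup.normal_centralizer.conj_mem _ (ZS_le_cent S hn.1) g
      have hnS : g * n * g⁻¹ ∈ (S : Subgroup G) := by
        have : g * n * g⁻¹ ∈ pCore p G :=
          hPn.conj_mem _ (D.cent (ZS_le_cent S hn.1)) g
        exact hPS this
      refine Subgroup.mem_inf.mpr ⟨Subgroup.mem_inf.mpr ⟨hnS, ?_⟩, hnX⟩
      have hle : (S : Subgroup G) ≤ Subgroup.centralizer ({g * n * g⁻¹} : Set G) := by
        refine hcov.trans (sup_le ?_ ?_)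
        · intro y hy
          rw [Subgroup.mem_centralizer_singleton_iff]
          exact (Subgroup.mem_centralizer_iff.mp hy.2 _ hnX).symm
        · intro y hy
          rw [Subgroup.mem_centralizer_singleton_iff]
          exact Subgroup.mem_centralizer_iff.mp hnR y hy
      rw [Subgroup.mem_centralizer_iff]
      intro y hy
      exact Subgroup.mem_centralizer_singleton_iff.mp (hle hy)
  · left
    push Not at hnil
    obtain ⟨k, hk⟩ := hnil
    have hcen := ZS_central (S := S) D.cent hk
    constructor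
    intro n hn g
    have : g * n * g⁻¹ = n := by
      have := Subgroup.mem_center_iff.mp (hcen hn.1) g
      rw [this]; group
    rw [this]
    exact hn

/-- The pushing-up situation gives the abstract data. -/
theorem data_of_situation {S : Subgroup G} (hE : IsPushingUpSituation p S) :
    ∃ P : Sylow p G, (P : Subgroup G) = S ∧ Data P ∧
      (∀ x ∈ (P : Subgroup G), ∀ y ∈ (P : Subgroup G), ⁅x, y⁆ ∈ pCore p G) ∧
      (Cfsg.Agent.Lib.PushUp4.CaseA P ∨ Cfsg.Agent.Lib.PushUp4.CaseB P) := by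
  obtain ⟨-, ⟨P, rfl⟩, hcent, huniq, K, hK, F, hf, hfin, n, hcard, he⟩ := hE
  have hn : 1 ≤ n := by
    rcases Nat.eq_zero_or_pos n with rfl | h
    · exfalso
      have := Fintype.one_lt_card (α := F)
      rw [hcard, pow_zero] at this
      omega
    · exact h
  exact ⟨P, rfl, Cfsg.Agent.Lib.PushUp6.data_of_psl P hcent huniq K F n hn hcard he⟩

end Main

end Cfsg.Agent.Lib.PushCL
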