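import Mathlib
import Cfsg.Agent.Lib.PushCL
import Cfsg.Agent.Lib.Frat
import Cfsg.Agent.Lib.CoprimeInv

/-!
# Replacing a minimal centrally large subgroup by one inside `O_p(G)`

`Q₁ = (Q ∩ R) V` is again minimal centrally large and, when `Ω₁(Z(Q))` has the largest order, it has
the same Frattini subgroup as `Q`.
-/

set_option autoImplicit false

namespace Cfsg.Agent.Lib.PushCL2

open Cfsg Cfsg.Agent.Lib.PCore Cfsg.Agent.Lib.ChermakDelgado Cfsg.Agent.Lib.PushUp2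
open Cfsg.Agent.Lib.PushUp3 Cfsg.Agent.Lib.PushCL
open scoped commutatorElement Pointwise

section Abstract

variable {T : Type*} [Group T] [Finite T]

theorem card_sup_inf_comm {A B : Subgroup T} (h : A ≤ Cz B) :
    Nat.card ↥(A ⊔ B) * Nat.card ↥(A ⊓ B) = Nat.card A * Nat.card B := by
  have hn : A ≤ Subgroup.normalizer (B : Set T) := by
    intro a ha
    rw [Subgroup.mem_normalizer_iff]
    intro b
    have hab : ∀ b ∈ B, b * a = a * b := fun b hb => (mem_Cz.mp (h ha)) b hb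
    constructor
    · intro hb
      rw [← hab b hb, mul_inv_cancel_right]
      exact hb
    · intro hb
      have h1 : b = a⁻¹ * (a * b * a⁻¹) * a := by group
      rw [h1]
      have h2 := hab _ hb
      rw [mul_assoc a⁻¹, h2, inv_mul_cancel_left]
      exact hb
  exact Cfsg.Agent.Lib.CoprimeInv.card_sup_mul_card_inf hn

/-- The replacement `Q₁ = (Q ∩ R) V`. -/
theorem replace_cl {Q Q₂ Rt Vt : Subgroup T}
    (hQ : IsMinimalCentrallyLarge Q) (hQ₂ : IsMinimalCentrallyLarge Q₂) (hQ₂R : Q₂ ≤ Rt)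
    (hVR : Vt ≤ Rt) (hVc : Vt ≤ Cz Rt)
    (hoff : Nat.card Q * Nat.card ↥(Vt ⊓ Cz Q) ≤ Nat.card Vt * Nat.card ↥(Q ⊓ Rt)) :
    (Q ⊓ Rt) ⊔ Cz Q = Q ∧ IsMinimalCentrallyLarge ((Q ⊓ Rt) ⊔ Vt) ∧
      ((Q ⊓ Rt) ⊔ Vt) ⊓ Cz ((Q ⊓ Rt) ⊔ Vt) = (Cz Q ⊓ Rt) ⊔ Vt ∧
      Nat.card ↥(Cz Q) = Nat.card ↥((Cz Q ⊓ Rt) ⊔ Vt) := by
  classical
  set Q₀ := Q ⊓ Rt with hQ₀
  set Z := Cz Q with hZ
  set Z₀ := Z ⊓ Rt with hZ₀
  set Q₁ := Q₀ ⊔ Vt with hQ₁
  set C₁ := Z₀ ⊔ Vt with hC₁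
  set D := Vt ⊓ Z with hD
  have hZQ : Z ≤ Q := cl_Cz_le hQ.1
  have hsup : Q₀ ⊔ Z = Q := by
    apply le_antisymm (sup_le inf_le_left hZQ)
    have h := mcl_sup_eq hQ hQ₂.1
    calc Q = (Q ⊓ Q₂) ⊔ Cz Q := h.symm
      _ ≤ Q₀ ⊔ Z := sup_le_sup (inf_le_inf_left Q hQ₂R) le_rfl
  have hVCz : Vt ≤ Cz Q₀ := hVc.trans (Cz_antitone inf_le_right)
  have hZCz : Z ≤ Cz Q₀ := Cz_antitone inf_le_left
  have hVQ : Vt ⊓ Q ≤ Z := by
    rintro x ⟨hx1, hx2⟩
    have h1 : x ∈ Cz (Q₀ ⊔ Z) := by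
      rw [Cz_sup]
      exact Subgroup.mem_inf.mpr ⟨hVCz hx1, le_Cz_Cz Q hx2⟩
    rw [hsup] at h1
    exact h1
  have hinf1 : Q₀ ⊓ Vt = D := by
    apply le_antisymm
    · rintro x ⟨⟨hx1, _⟩, hx3⟩
      exact Subgroup.mem_inf.mpr ⟨hx3, hVQ (Subgroup.mem_inf.mpr ⟨hx3, hx1⟩)⟩
    · rintro x ⟨hx1, hx2⟩
      exact Subgroup.mem_inf.mpr ⟨Subgroup.mem_inf.mpr ⟨hZQ hx2, hVR hx1⟩, hx1⟩
  have hinf2 : Z₀ ⊓ Vt = D := by
    apply le_antisymm
    · rintro x ⟨⟨hx1, _⟩, hx3⟩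
      exact Subgroup.mem_inf.mpr ⟨hx3, hx1⟩
    · rintro x ⟨hx1, hx2⟩
      exact Subgroup.mem_inf.mpr ⟨Subgroup.mem_inf.mpr ⟨hx2, hVR hx1⟩, hx1⟩
  have hinf3 : Q₀ ⊓ Z = Z₀ := by
    apply le_antisymm
    · rintro x ⟨⟨_, hx2⟩, hx3⟩
      exact Subgroup.mem_inf.mpr ⟨hx3, hx2⟩
    · rintro x ⟨hx1, hx2⟩
      exact Subgroup.mem_inf.mpr ⟨Subgroup.mem_inf.mpr ⟨hZQ hx1, hx2⟩, hx1⟩
  have hQ₀Rt : Q₀ ≤ Rt := inf_le_right
  have hRV : Rt ≤ Cz Vt := le_Cz_comm hVc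
  have c1 : Nat.card ↥Q₁ * Nat.card ↥D = Nat.card ↥Q₀ * Nat.card ↥Vt := by
    have := card_sup_inf_comm (hQ₀Rt.trans hRV)
    rwa [hinf1] at this
  have hZ₀Rt : Z₀ ≤ Rt := inf_le_right
  have c2 : Nat.card ↥C₁ * Nat.card ↥D = Nat.card ↥Z₀ * Nat.card ↥Vt := by
    have := card_sup_inf_comm (hZ₀Rt.trans hRV)
    rwa [hinf2] at this
  have c3 : Nat.card ↥Q * Nat.card ↥Z₀ = Nat.card ↥Q₀ * Nat.card ↥Z := by
    have := card_sup_inf_comm (A := Q₀) (B := Z) (le_Cz_comm hZCz)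
    rwa [hsup, hinf3] at this
  have hD0 : 0 < Nat.card ↥D := Nat.card_pos
  have hQ0 : 0 < Nat.card ↥Q := Nat.card_pos
  have hQ₀0 : 0 < Nat.card ↥Q₀ := Nat.card_pos
  have hoff' : Nat.card ↥Q * Nat.card ↥D ≤ Nat.card ↥Q₀ * Nat.card ↥Vt := by
    rw [mul_comm (Nat.card ↥Q₀)]
    exact hoff
  have hc1 : Nat.card ↥Q ≤ Nat.card ↥Q₁ := by
    apply Nat.le_of_mul_le_mul_right _ hD0
    rw [c1]
    exact hoff'
  have hc2 : Nat.card ↥Z ≤ Nat.card ↥C₁ := by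
    apply Nat.le_of_mul_le_mul_right _ hD0
    rw [c2]
    apply Nat.le_of_mul_le_mul_left _ hQ0
    calc Nat.card ↥Q * (Nat.card ↥Z * Nat.card ↥D)
        = (Nat.card ↥Q * Nat.card ↥D) * Nat.card ↥Z := by ring
      _ ≤ (Nat.card ↥Q₀ * Nat.card ↥Vt) * Nat.card ↥Z := Nat.mul_le_mul_right _ hoff'
      _ = (Nat.card ↥Q₀ * Nat.card ↥Z) * Nat.card ↥Vt := by ring
      _ = (Nat.card ↥Q * Nat.card ↥Z₀) * Nat.card ↥Vt := by rw [c3]
      _ = Nat.card ↥Q * (Nat.card ↥Z₀ * Nat.card ↥Vt) := by ring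
  -- `C₁` is central in `Q₁`
  have hZ₀Q₀ : Z₀ ≤ Q₀ := by
    rintro x ⟨hx1, hx2⟩
    exact Subgroup.mem_inf.mpr ⟨hZQ hx1, hx2⟩
  have hVV : Vt ≤ Cz Vt := hVR.trans hRV
  have hC₁le : C₁ ≤ Q₁ ⊓ Cz Q₁ := by
    apply sup_le
    · apply le_inf (hZ₀Q₀.trans le_sup_left)
      rw [hQ₁, Cz_sup]
      exact le_inf (inf_le_left.trans hZCz) (hZ₀Rt.trans hRV)
    · apply le_inf le_sup_right
      rw [hQ₁, Cz_sup]
      exact le_inf hVCz hVV
  have hfmQ : fm Q = Nat.card ↥Q * Nat.card ↥Z := by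
    unfold fm
    rw [inf_eq_right.mpr hZQ]
  have hfmQ₁ : fm Q₁ = Nat.card ↥Q₁ * Nat.card ↥(Q₁ ⊓ Cz Q₁) := rfl
  have hC' : Nat.card ↥C₁ ≤ Nat.card ↥(Q₁ ⊓ Cz Q₁) := Subgroup.card_le_of_le hC₁le
  have hcl := (isCentrallyLarge_iff_fm Q).mp hQ.1
  have hge : fm Q ≤ fm Q₁ := by
    rw [hfmQ, hfmQ₁]
    exact Nat.mul_le_mul hc1 (hc2.trans hC')
  have hQ₁cl : IsCentrallyLarge Q₁ := by
    rw [isCentrallyLarge_iff_fm]
    exact fun Y => (hcl Y).trans hge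
  have hle := hcl Q₁
  rw [hfmQ, hfmQ₁] at hle
  have hZ0 : 0 < Nat.card ↥Z := Nat.card_pos
  have hQ₁card : Nat.card ↥Q₁ = Nat.card ↥Q := by
    apply le_antisymm _ hc1
    by_contra hlt
    push Not at hlt
    have : Nat.card ↥Q * Nat.card ↥Z < Nat.card ↥Q₁ * Nat.card ↥(Q₁ ⊓ Cz Q₁) :=
      Nat.mul_lt_mul_of_lt_of_le hlt (hc2.trans hC') Nat.card_pos
    omega
  have hC'card : Nat.card ↥(Q₁ ⊓ Cz Q₁) ≤ Nat.card ↥Z := by
    rw [hQ₁card] at hle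
    exact Nat.le_of_mul_le_mul_left hle hQ0
  have hCeq : C₁ = Q₁ ⊓ Cz Q₁ := Subgroup.eq_of_le_of_card_ge hC₁le (hC'card.trans hc2)
  obtain ⟨P, hP, hPle⟩ := exists_minimal_le hQ₁cl
  have hPeq : P = Q₁ := by
    apply Subgroup.eq_of_le_of_card_ge hPle
    rw [hQ₁card, (mcl_card hQ hP).1]
  have hZC : Nat.card ↥Z = Nat.card ↥C₁ := by
    apply le_antisymm hc2
    rw [hCeq]
    exact hC'card
  refine ⟨?_, hPeq ▸ hP, hCeq.symm, hZC⟩
  exact hsup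

/-- The set of `p`-th powers of an abelian subgroup. -/
def PW (p : ℕ) (A : Subgroup T) (hA : ∀ a ∈ A, ∀ b ∈ A, a * b = b * a) : Subgroup T where
  carrier := {x | ∃ y ∈ A, x = y ^ p}
  one_mem' := ⟨1, A.one_mem, by simp⟩
  mul_mem' := by
    rintro _ _ ⟨a, ha, rfl⟩ ⟨b, hb, rfl⟩
    exact ⟨a * b, A.mul_mem ha hb, ((show Commute a b from hA a ha b hb).mul_pow _).symm⟩
  inv_mem' := by
    rintro _ ⟨a, ha, rfl⟩
    exact ⟨a⁻¹, A.inv_mem ha, by simp⟩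

theorem card_omega_mul_PW (p : ℕ) (A : Subgroup T) (hA : ∀ a ∈ A, ∀ b ∈ A, a * b = b * a) :
    Nat.card ↥(omegaOne p A) * Nat.card ↥(PW p A hA) = Nat.card ↥A := by
  classical
  let f : ↥A →* T := MonoidHom.mk' (fun x => (x : T) ^ p) (by
    intro a b
    exact (show Commute (a : T) (b : T) from hA a a.2 b b.2).mul_pow _)
  have hrange : f.range = PW p A hA := by
    ext x
    constructor
    · rintro ⟨a, rfl⟩
      exact ⟨a, a.2, rfl⟩
    · rintro ⟨a, ha, rfl⟩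
      exact ⟨⟨a, ha⟩, rfl⟩
  have hker : omegaOne p A = f.ker.map A.subtype := by
    unfold omegaOne
    apply le_antisymm
    · rw [Subgroup.closure_le]
      rintro x ⟨hx1, hx2⟩
      exact ⟨⟨x, hx1⟩, hx2, rfl⟩
    · rintro _ ⟨a, ha, rfl⟩
      exact Subgroup.subset_closure ⟨a.2, ha⟩
  rw [hker, Subgroup.card_map_of_injective A.subtype_injective, ← hrange, ← Subgroup.index_ker]
  exact Subgroup.card_mul_index _

/-- The Frattini subgroup of a subgroup, viewed in `T`. -/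
def Fr (Q : Subgroup T) : Subgroup T := (frattini ↥Q).map Q.subtype

variable {p : ℕ} [hp : Fact p.Prime]

theorem comm_mem_Fr (hT : IsPGroup p T) {Q : Subgroup T} {x y : T} (hx : x ∈ Q) (hy : y ∈ Q) :
    ⁅x, y⁆ ∈ Fr Q := by
  have hQ : IsPGroup p ↥Q := hT.to_subgroup Q
  have h := Cfsg.Agent.Lib.Frat.commutator_le_frattini hQ
    (show ⁅(⟨x, hx⟩ : ↥Q), (⟨y, hy⟩ : ↥Q)⁆ ∈ commutator ↥Q from by
      rw [commutator_def]
      exact Subgroup.commutator_mem_commutator (Subgroup.mem_top _) (Subgroup.mem_top _))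
  exact ⟨_, h, rfl⟩

theorem pow_mem_Fr (hT : IsPGroup p T) {Q : Subgroup T} {x : T} (hx : x ∈ Q) :
    x ^ p ∈ Fr Q := by
  have hQ : IsPGroup p ↥Q := hT.to_subgroup Q
  exact ⟨_, Cfsg.Agent.Lib.Frat.pow_mem_frattini hQ ⟨x, hx⟩, rfl⟩

theorem Fr_le {Q A : Subgroup T} (hc : ∀ x ∈ Q, ∀ y ∈ Q, ⁅x, y⁆ ∈ A)
    (hpw : ∀ x ∈ Q, x ^ p ∈ A) : Fr Q ≤ A := by
  unfold Fr
  rw [Subgroup.map_le_iff_le_comap]
  apply Cfsg.Agent.Lib.Frat.frattini_le_of_commutator_pow (p := p)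
  · rw [commutator_def, Subgroup.commutator_le]
    rintro a - b -
    exact hc a a.2 b b.2
  · intro x
    exact hpw x x.2

theorem comm_mul_central {x₁ x₂ z₁ z₂ : T} (c1 : Commute z₁ x₁) (c2 : Commute z₁ x₂)
    (c3 : Commute z₂ x₁) (c4 : Commute z₂ x₂) (c5 : Commute z₁ z₂) :
    ⁅x₁ * z₁, x₂ * z₂⁆ = ⁅x₁, x₂⁆ := by
  rw [commutatorElement_def, commutatorElement_def]
  have hz1 : Commute z₁ (x₂ * z₂) := Commute.mul_right c2 c5
  have hz2 : Commute z₂ (x₁ * z₁) := Commute.mul_right c3 c5.symm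
  calc x₁ * z₁ * (x₂ * z₂) * (x₁ * z₁)⁻¹ * (x₂ * z₂)⁻¹
      = x₁ * (z₁ * (x₂ * z₂)) * (z₁⁻¹ * x₁⁻¹) * (x₂ * z₂)⁻¹ := by group
    _ = x₁ * ((x₂ * z₂) * z₁) * (z₁⁻¹ * x₁⁻¹) * (x₂ * z₂)⁻¹ := by rw [hz1.eq]
    _ = x₁ * x₂ * z₂ * x₁⁻¹ * z₂⁻¹ * x₂⁻¹ := by group
    _ = x₁ * x₂ * (z₂ * x₁⁻¹) * z₂⁻¹ * x₂⁻¹ := by group
    _ = x₁ * x₂ * (x₁⁻¹ * z₂) * z₂⁻¹ * x₂⁻¹ := by
        rw [(Commute.inv_right c3).eq]
    _ = x₁ * x₂ * x₁⁻¹ * x₂⁻¹ := by group

/-- The Frattini subgroups of `Q` and of its replacement agree, when the order of `Ω₁(Z(Q))` is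
at least the order of `Ω₁(Z(Q₁))`. -/
theorem replace_Fr (hT : IsPGroup p T) {Q Rt Vt : Subgroup T}
    (hQcl : IsCentrallyLarge Q) (hsup : (Q ⊓ Rt) ⊔ Cz Q = Q)
    (hVR : Vt ≤ Rt) (hVc : Vt ≤ Cz Rt)
    (hZ₁ : ((Q ⊓ Rt) ⊔ Vt) ⊓ Cz ((Q ⊓ Rt) ⊔ Vt) = (Cz Q ⊓ Rt) ⊔ Vt)
    (hcard : Nat.card ↥(Cz Q) = Nat.card ↥((Cz Q ⊓ Rt) ⊔ Vt))
    (hVp : ∀ v ∈ Vt, ∃ z ∈ Cz Q, v ^ p = z ^ p)
    (hmax : Nat.card ↥(omegaOneCenter p ((Q ⊓ Rt) ⊔ Vt)) ≤ Nat.card ↥(omegaOneCenter p Q)) :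
    Nat.card ↥(omegaOneCenter p ((Q ⊓ Rt) ⊔ Vt)) = Nat.card ↥(omegaOneCenter p Q) ∧
      Fr Q = Fr ((Q ⊓ Rt) ⊔ Vt) := by
  classical
  set Q₀ := Q ⊓ Rt with hQ₀
  set Z := Cz Q with hZ
  set Z₀ := Z ⊓ Rt with hZ₀
  set Q₁ := Q₀ ⊔ Vt with hQ₁
  set C₁ := Z₀ ⊔ Vt with hC₁
  have hZQ : Z ≤ Q := cl_Cz_le hQcl
  have hZab : ∀ a ∈ Z, ∀ b ∈ Z, a * b = b * a := fun a ha b hb => (mem_Cz.mp ha) b (hZQ hb) |>.symm
  have hRV : Rt ≤ Cz Vt := le_Cz_comm hVc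
  have hVV : Vt ≤ Cz Vt := hVR.trans hRV
  have hC₁le : C₁ ≤ Q₁ ⊓ Cz Q₁ := hZ₁.ge
  have hC₁ab : ∀ a ∈ C₁, ∀ b ∈ C₁, a * b = b * a := by
    intro a ha b hb
    have h1 := hC₁le ha
    have h2 := hC₁le hb
    exact ((mem_Cz.mp (Subgroup.mem_inf.mp h1).2) b (Subgroup.mem_inf.mp h2).1).symm
  have hQ₀Q : ∀ {x : T}, x ∈ (Q₀ : Set T) → x ∈ Q := fun h => (Subgroup.mem_inf.mp (show _ ∈ Q₀ from h)).1
  have hQ₀R : ∀ {x : T}, x ∈ (Q₀ : Set T) → x ∈ Rt := fun h => (Subgroup.mem_inf.mp (show _ ∈ Q₀ from h)).2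
  have hZ₀Z : ∀ {x : T}, x ∈ (Z₀ : Set T) → x ∈ Z := fun h => (Subgroup.mem_inf.mp (show _ ∈ Z₀ from h)).1
  have hZ₀R : ∀ {x : T}, x ∈ (Z₀ : Set T) → x ∈ Rt := fun h => (Subgroup.mem_inf.mp (show _ ∈ Z₀ from h)).2
  -- the set forms
  have hQset : (Q : Set T) = (Q₀ : Set T) * (Z : Set T) := by
    rw [← coe_sup_eq_mul_of_commute (X := Q₀) (Y := Z) (le_Cz_comm (Cz_antitone inf_le_left)), hsup]
  have hQ₁set : (Q₁ : Set T) = (Q₀ : Set T) * (Vt : Set T) :=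
    coe_sup_eq_mul_of_commute (le_Cz_comm (hVc.trans (Cz_antitone inf_le_right)))
  have hC₁set : (C₁ : Set T) = (Z₀ : Set T) * (Vt : Set T) :=
    coe_sup_eq_mul_of_commute ((inf_le_right).trans hRV)
  -- `PW C₁ ≤ PW Z`
  have hPWle : PW p C₁ hC₁ab ≤ PW p Z hZab := by
    rintro _ ⟨c, hc, rfl⟩
    have hc' : c ∈ (C₁ : Set T) := hc
    rw [hC₁set] at hc'
    obtain ⟨z₀, hz₀, v, hv, rfl⟩ := hc'
    obtain ⟨z, hz, hvz⟩ := hVp v hv
    have hcomm : Commute z₀ v := (mem_Cz.mp (hVc hv)) z₀ (hZ₀R hz₀)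
    have hcomm2 : Commute z₀ z := hZab z₀ (hZ₀Z hz₀) z hz
    refine ⟨z₀ * z, Z.mul_mem (hZ₀Z hz₀) hz, ?_⟩
    rw [hcomm.mul_pow, hcomm2.mul_pow, hvz]
  have hom1 : omegaOneCenter p Q = omegaOne p Z := by
    unfold omegaOneCenter
    rw [show Q ⊓ Subgroup.centralizer (Q : Set T) = Z from inf_eq_right.mpr hZQ]
  have hom2 : omegaOneCenter p Q₁ = omegaOne p C₁ := by
    unfold omegaOneCenter
    rw [show Q₁ ⊓ Subgroup.centralizer (Q₁ : Set T) = C₁ from hZ₁]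
  have h1 := card_omega_mul_PW p Z hZab
  have h2 := card_omega_mul_PW p C₁ hC₁ab
  rw [hom1, hom2] at hmax
  have hPWc : Nat.card ↥(PW p C₁ hC₁ab) ≤ Nat.card ↥(PW p Z hZab) := Subgroup.card_le_of_le hPWle
  have hprod : Nat.card ↥(omegaOne p C₁) * Nat.card ↥(PW p C₁ hC₁ab) =
      Nat.card ↥(omegaOne p Z) * Nat.card ↥(PW p Z hZab) := by
    rw [h1, h2, hcard]
  have hpos1 : 0 < Nat.card ↥(omegaOne p C₁) := Nat.card_pos
  have hpos2 : 0 < Nat.card ↥(PW p C₁ hC₁ab) := Nat.card_pos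
  have heq1 : Nat.card ↥(omegaOne p C₁) = Nat.card ↥(omegaOne p Z) := by
    apply le_antisymm hmax
    by_contra hlt
    push Not at hlt
    have : Nat.card ↥(omegaOne p C₁) * Nat.card ↥(PW p C₁ hC₁ab) <
        Nat.card ↥(omegaOne p Z) * Nat.card ↥(PW p Z hZab) :=
      Nat.mul_lt_mul_of_lt_of_le hlt hPWc Nat.card_pos
    omega
  have heq2 : Nat.card ↥(PW p C₁ hC₁ab) = Nat.card ↥(PW p Z hZab) := by
    rw [heq1] at hprod
    exact Nat.eq_of_mul_eq_mul_left Nat.card_pos hprod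
  have hPWeq : PW p C₁ hC₁ab = PW p Z hZab := Subgroup.eq_of_le_of_card_ge hPWle heq2.ge
  refine ⟨by rw [hom1, hom2, heq1], le_antisymm ?_ ?_⟩
  · -- `Fr Q ≤ Fr Q₁`
    apply Fr_le (p := p)
    · intro x hx y hy
      have hx' : x ∈ (Q : Set T) := hx
      have hy' : y ∈ (Q : Set T) := hy
      rw [hQset] at hx' hy'
      obtain ⟨q, hq, z, hz, rfl⟩ := hx'
      obtain ⟨q', hq', z', hz', rfl⟩ := hy'
      have c1 : Commute z q := ((mem_Cz.mp hz) q (hQ₀Q hq)).symm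
      have c2 : Commute z q' := ((mem_Cz.mp hz) q' (hQ₀Q hq')).symm
      have c3 : Commute z' q := ((mem_Cz.mp hz') q (hQ₀Q hq)).symm
      have c4 : Commute z' q' := ((mem_Cz.mp hz') q' (hQ₀Q hq')).symm
      have c5 : Commute z z' := hZab z hz z' hz'
      rw [comm_mul_central c1 c2 c3 c4 c5]
      exact comm_mem_Fr hT (le_sup_left (a := Q₀) (b := Vt) hq) (le_sup_left (a := Q₀) (b := Vt) hq')
    · intro x hx
      have hx' : x ∈ (Q : Set T) := hx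
      rw [hQset] at hx'
      obtain ⟨q, hq, z, hz, rfl⟩ := hx'
      have c1 : Commute q z := (mem_Cz.mp hz) q (hQ₀Q hq)
      rw [c1.mul_pow]
      refine Subgroup.mul_mem _ (pow_mem_Fr hT (le_sup_left (a := Q₀) (b := Vt) hq)) ?_
      have hzp : z ^ p ∈ PW p Z hZab := ⟨z, hz, rfl⟩
      rw [← hPWeq] at hzp
      obtain ⟨c, hc, hcz⟩ := hzp
      rw [hcz]
      exact pow_mem_Fr hT (Subgroup.mem_inf.mp (hC₁le hc)).1
  · -- `Fr Q₁ ≤ Fr Q`
    apply Fr_le (p := p)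
    · intro x hx y hy
      have hx' : x ∈ (Q₁ : Set T) := hx
      have hy' : y ∈ (Q₁ : Set T) := hy
      rw [hQ₁set] at hx' hy'
      obtain ⟨q, hq, v, hv, rfl⟩ := hx'
      obtain ⟨q', hq', v', hv', rfl⟩ := hy'
      have c1 : Commute v q := ((mem_Cz.mp (hVc hv)) q (hQ₀R hq)).symm
      have c2 : Commute v q' := ((mem_Cz.mp (hVc hv)) q' (hQ₀R hq')).symm
      have c3 : Commute v' q := ((mem_Cz.mp (hVc hv')) q (hQ₀R hq)).symm
      have c4 : Commute v' q' := ((mem_Cz.mp (hVc hv')) q' (hQ₀R hq')).symm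
      have c5 : Commute v v' := ((mem_Cz.mp (hVc hv)) v' (hVR hv')).symm
      rw [comm_mul_central c1 c2 c3 c4 c5]
      exact comm_mem_Fr hT (hQ₀Q hq) (hQ₀Q hq')
    · intro x hx
      have hx' : x ∈ (Q₁ : Set T) := hx
      rw [hQ₁set] at hx'
      obtain ⟨q, hq, v, hv, rfl⟩ := hx'
      have c1 : Commute q v := (mem_Cz.mp (hVc hv)) q (hQ₀R hq)
      rw [c1.mul_pow]
      refine Subgroup.mul_mem _ (pow_mem_Fr hT (hQ₀Q hq)) ?_
      obtain ⟨z, hz, hvz⟩ := hVp v hv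
      rw [hvz]
      exact pow_mem_Fr hT (hZQ hz)

end Abstract

section Transport

variable {T : Type*} [Group T] [Finite T] {p : ℕ}

theorem map_omegaOne {H : Type*} [Group H] (f : T →* H) (hf : Function.Injective f)
    (A : Subgroup T) : (omegaOne p A).map f = omegaOne p (A.map f) := by
  unfold omegaOne
  rw [MonoidHom.map_closure]
  congr 1
  ext x
  constructor
  · rintro ⟨a, ⟨ha, hap⟩, rfl⟩
    exact ⟨⟨a, ha, rfl⟩, by rw [← map_pow, hap, map_one]⟩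
  · rintro ⟨⟨a, ha, rfl⟩, hap⟩
    refine ⟨a, ⟨ha, ?_⟩, rfl⟩
    apply hf
    rw [map_pow, hap, map_one]

theorem map_center_inf {H : Type*} [Group H] (f : T →* H) (hf : Function.Injective f)
    (A : Subgroup T) : (A ⊓ Cz A).map f = A.map f ⊓ Cz (A.map f) := by
  ext x
  constructor
  · rintro ⟨a, ha, rfl⟩
    obtain ⟨ha1, ha2⟩ := Subgroup.mem_inf.mp ha
    refine Subgroup.mem_inf.mpr ⟨⟨a, ha1, rfl⟩, ?_⟩
    rw [mem_Cz]
    rintro _ ⟨b, hb, rfl⟩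
    rw [← map_mul, ← map_mul, (mem_Cz.mp ha2) b hb]
  · intro hx
    obtain ⟨⟨a, ha, rfl⟩, hx2⟩ := Subgroup.mem_inf.mp hx
    refine ⟨a, Subgroup.mem_inf.mpr ⟨ha, ?_⟩, rfl⟩
    rw [mem_Cz]
    intro b hb
    apply hf
    rw [map_mul, map_mul]
    exact (mem_Cz.mp hx2) _ ⟨b, hb, rfl⟩

end Transport

section Top

variable {T : Type*} [Group T] [Finite T] (p : ℕ)

/-- The minimal centrally large subgroups for which `Ω₁(Z(Q))` is largest. -/
def Top (Q : Subgroup T) : Prop :=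
  IsMinimalCentrallyLarge Q ∧ Nat.card ↥(omegaOneCenter p Q) = maxOmegaCenterOfMinimalCL p T

theorem bdd_omega : BddAbove {k : ℕ | ∃ Q : Subgroup T, IsMinimalCentrallyLarge Q ∧
    Nat.card ↥(omegaOneCenter p Q) = k} := by
  refine ⟨Nat.card T, ?_⟩
  rintro k ⟨Q, -, rfl⟩
  exact Subgroup.card_le_card_group _

theorem exists_top : ∃ Q : Subgroup T, Top p Q := by
  have hne : {k : ℕ | ∃ Q : Subgroup T, IsMinimalCentrallyLarge Q ∧
      Nat.card ↥(omegaOneCenter p Q) = k}.Nonempty := by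
    obtain ⟨R, hR⟩ := exists_isCentrallyLarge (G := T)
    obtain ⟨Q, hQ, -⟩ := exists_minimal_le hR
    exact ⟨_, Q, hQ, rfl⟩
  obtain ⟨Q, hQ, hk⟩ := Nat.sSup_mem hne (bdd_omega p)
  exact ⟨Q, hQ, hk⟩

theorem le_max_omega {Q : Subgroup T} (hQ : IsMinimalCentrallyLarge Q) :
    Nat.card ↥(omegaOneCenter p Q) ≤ maxOmegaCenterOfMinimalCL p T :=
  le_csSup (bdd_omega p) ⟨Q, hQ, rfl⟩

theorem Fr_le_join {Q : Subgroup T} (hQ : Top p Q) : Fr Q ≤ frattiniOfMinimalCLJoin p T :=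
  le_iSup (fun Q : {Q : Subgroup T // IsMinimalCentrallyLarge Q ∧
    Nat.card ↥(omegaOneCenter p Q) = maxOmegaCenterOfMinimalCL p T} =>
      (frattini ↥(Q : Subgroup T)).map (Q : Subgroup T).subtype) ⟨Q, hQ⟩

end Top

section Main

variable {G : Type*} [Group G] [Finite G] {p : ℕ} [hp : Fact p.Prime]

theorem ConjIn.omega_card {S : Subgroup G} {g : G} {A B : Subgroup ↥S} (h : ConjIn S g A B) :
    Nat.card ↥(omegaOneCenter p A) = Nat.card ↥(omegaOneCenter p B) := by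
  let f : ↥S →* G := (MulAut.conj g).toMonoidHom.comp S.subtype
  have hf : Function.Injective f := (MulAut.conj g).injective.comp S.subtype_injective
  have hAB : A.map f = B.map S.subtype := by
    unfold ConjIn at h
    rw [← h, Subgroup.map_map]
  have h1 : (omegaOneCenter p A).map f = (omegaOneCenter p B).map S.subtype := by
    unfold omegaOneCenter
    rw [map_omegaOne f hf, map_omegaOne S.subtype S.subtype_injective]
    congr 1
    change (A ⊓ Cz A).map f = (B ⊓ Cz B).map S.subtype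
    rw [map_center_inf f hf, map_center_inf S.subtype S.subtype_injective, hAB]
  rw [← Subgroup.card_map_of_injective hf, h1, Subgroup.card_map_of_injective S.subtype_injective]

theorem ConjIn.Fr_le {S : Subgroup G} (hT : IsPGroup p ↥S) {g : G} {A B : Subgroup ↥S}
    (h : ConjIn S g A B) :
    ((Fr A).map S.subtype).map (MulAut.conj g).toMonoidHom ≤ (Fr B).map S.subtype := by
  have hlift : ∀ x ∈ A, ∃ y ∈ B, (y : G) = g * (x : G) * g⁻¹ := by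
    intro x hx
    have h1 : g * (x : G) * g⁻¹ ∈ B.map S.subtype := by
      unfold ConjIn at h
      rw [← h]
      exact ⟨_, ⟨x, hx, rfl⟩, rfl⟩
    obtain ⟨y, hy, hxy⟩ := h1
    exact ⟨y, hy, hxy⟩
  rw [Subgroup.map_le_iff_le_comap, Subgroup.map_le_iff_le_comap]
  apply PushCL2.Fr_le (p := p)
  · intro x hx y hy
    obtain ⟨x', hx', hxx'⟩ := hlift x hx
    obtain ⟨y', hy', hyy'⟩ := hlift y hy
    refine ⟨⁅x', y'⁆, comm_mem_Fr hT hx' hy', ?_⟩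
    simp only [Subgroup.coe_subtype, MulEquiv.coe_toMonoidHom, MulAut.conj_apply,
      commutatorElement_def, Subgroup.coe_mul, Subgroup.coe_inv, hxx', hyy']
    group
  · intro x hx
    obtain ⟨x', hx', hxx'⟩ := hlift x hx
    refine ⟨x' ^ p, pow_mem_Fr hT hx', ?_⟩
    simp only [Subgroup.coe_subtype, MulEquiv.coe_toMonoidHom, MulAut.conj_apply,
      Subgroup.coe_pow, hxx']
    rw [conj_pow]

/-- The offender inequality, seen in `S`. -/
theorem off_in {S : Sylow p G} (D : Data S)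
    (hnil : ∀ k, iterCommutator (VV (S : Subgroup G)) ⊤ k ≠ ⊥) (Q : Subgroup ↥(S : Subgroup G)) :
    Nat.card Q * Nat.card ↥((VV (S : Subgroup G)).subgroupOf (S : Subgroup G) ⊓ Cz Q) ≤
      Nat.card ↥((VV (S : Subgroup G)).subgroupOf (S : Subgroup G)) *
        Nat.card ↥(Q ⊓ (pCore p G).subgroupOf (S : Subgroup G)) := by
  classical
  have hPS : pCore p G ≤ (S : Subgroup G) := core_le S
  have hVP := VV_le_core S D.cent
  have hof := offender D hVP (VV_comm S) hnil (A := Q.map (S : Subgroup G).subtype) (by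
    rintro _ ⟨a, -, rfl⟩
    exact a.2)
  have e1 : Nat.card ↥(Q.map (S : Subgroup G).subtype) = Nat.card Q :=
    Subgroup.card_map_of_injective (S : Subgroup G).subtype_injective
  have e2 : Nat.card ↥(VV (S : Subgroup G) ⊓ Subgroup.centralizer ((Q.map (S : Subgroup G).subtype : Subgroup G) : Set G)) =
      Nat.card ↥((VV (S : Subgroup G)).subgroupOf (S : Subgroup G) ⊓ Cz Q) := by
    suffices hmap : VV (S : Subgroup G) ⊓ Subgroup.centralizer ((Q.map (S : Subgroup G).subtype : Subgroup G) : Set G) =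
        ((VV (S : Subgroup G)).subgroupOf (S : Subgroup G) ⊓ Cz Q).map (S : Subgroup G).subtype by
      rw [hmap, Subgroup.card_map_of_injective (S : Subgroup G).subtype_injective]
    ext x
    constructor
    · intro hx
      obtain ⟨hx1, hx2⟩ := Subgroup.mem_inf.mp hx
      refine ⟨⟨x, hPS (hVP hx1)⟩, Subgroup.mem_inf.mpr ⟨hx1, ?_⟩, rfl⟩
      rw [mem_Cz]
      intro q hq
      apply Subtype.ext
      exact Subgroup.mem_centralizer_iff.mp hx2 _ ⟨q, hq, rfl⟩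
    · rintro ⟨a, ha, rfl⟩
      obtain ⟨ha1, ha2⟩ := Subgroup.mem_inf.mp ha
      refine Subgroup.mem_inf.mpr ⟨ha1, ?_⟩
      rw [Subgroup.mem_centralizer_iff]
      rintro _ ⟨q, hq, rfl⟩
      exact congrArg Subtype.val ((mem_Cz.mp ha2) q hq)
  have e3 : Nat.card ↥(VV (S : Subgroup G)) = Nat.card ↥((VV (S : Subgroup G)).subgroupOf (S : Subgroup G)) :=
    (card_subgroupOf_of_le (hVP.trans hPS)).symm
  have e4 : Nat.card ↥(Q.map (S : Subgroup G).subtype ⊓ pCore p G) =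
      Nat.card ↥(Q ⊓ (pCore p G).subgroupOf (S : Subgroup G)) := by
    suffices hmap : Q.map (S : Subgroup G).subtype ⊓ pCore p G =
        (Q ⊓ (pCore p G).subgroupOf (S : Subgroup G)).map (S : Subgroup G).subtype by
      rw [hmap, Subgroup.card_map_of_injective (S : Subgroup G).subtype_injective]
    ext x
    constructor
    · intro hx
      obtain ⟨⟨a, ha, rfl⟩, hx2⟩ := Subgroup.mem_inf.mp hx
      exact ⟨a, Subgroup.mem_inf.mpr ⟨ha, hx2⟩, rfl⟩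
    · rintro ⟨a, ha, rfl⟩
      obtain ⟨ha1, ha2⟩ := Subgroup.mem_inf.mp ha
      exact Subgroup.mem_inf.mpr ⟨⟨a, ha1, rfl⟩, ha2⟩
  rw [e1, e2, e3, e4] at hof
  exact hof

/-- `p`-th powers of elements of the normal closure of `Z(S)` are `p`-th powers of elements
of `Z(S)`. -/
theorem VV_pow {S : Sylow p G} (D : Data S) (hJ : (S : Subgroup G) ≤
    Subgroup.centralizer (centerThompsonAOf (S : Subgroup G) : Set G))
    {v : G} (hv : v ∈ VV (S : Subgroup G)) :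
    ∃ z ∈ ZS (S : Subgroup G), v ^ p = z ^ p := by
  classical
  set SS := (S : Subgroup G) with hSS
  have hPS : pCore p G ≤ SS := core_le S
  have hVP := VV_le_core S D.cent
  have hpow : (powerClosure p 1 (SS ⊓ Subgroup.centralizer (SS : Set G))).Normal := by
    rcases main_power D with h | h
    · exact h
    · exfalso
      have heq : SS ⊓ Subgroup.centralizer (centerThompsonAOf SS : Set G) = SS := inf_eq_left.mpr hJ
      rw [heq] at h
      have hle : SS ≤ pCore p G := Cfsg.Agent.Lib.PCore.le_pCore h S.isPGroup'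
      exact D.ne hle
  set W := powerClosure p 1 (SS ⊓ Subgroup.centralizer (SS : Set G)) with hW
  haveI := hpow
  have hZab : ∀ a ∈ ZS SS, ∀ b ∈ ZS SS, a * b = b * a := by
    intro a ha b hb
    exact (Subgroup.mem_centralizer_iff.mp (Subgroup.mem_inf.mp hb).2 a (Subgroup.mem_inf.mp ha).1)
  have hVab : ∀ a ∈ VV SS, ∀ b ∈ VV SS, a * b = b * a := fun a ha b hb =>
    VV_comm S a (hVP ha) b hb
  -- the subgroup of elements of `V` with `p`-th power in `W`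
  let N : Subgroup G :=
    { carrier := {v | v ∈ VV SS ∧ v ^ p ∈ W}
      one_mem' := ⟨(VV SS).one_mem, by simp [W.one_mem]⟩
      mul_mem' := by
        rintro a b ⟨ha, hap⟩ ⟨hb, hbp⟩
        refine ⟨(VV SS).mul_mem ha hb, ?_⟩
        rw [(show Commute a b from hVab a ha b hb).mul_pow]
        exact W.mul_mem hap hbp
      inv_mem' := by
        rintro a ⟨ha, hap⟩
        exact ⟨(VV SS).inv_mem ha, by rw [inv_pow]; exact W.inv_mem hap⟩ }
  haveI hVn : (VV SS).Normal := by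
    unfold VV
    infer_instance
  haveI hNn : N.Normal := by
    constructor
    rintro a ⟨ha, hap⟩ g
    refine ⟨hVn.conj_mem a ha g, ?_⟩
    rw [conj_pow]
    exact hpow.conj_mem _ hap g
  have hle : VV SS ≤ N := by
    unfold VV
    apply Subgroup.normalClosure_le_normal
    intro z hz
    refine ⟨Subgroup.le_normalClosure hz, ?_⟩
    apply Subgroup.subset_closure
    exact ⟨z, hz, by rw [pow_one]⟩
  have hv' := (hle hv).2
  have hWle : W ≤ PW p (ZS SS) hZab := by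
    rw [hW]
    unfold powerClosure
    rw [Subgroup.closure_le]
    rintro _ ⟨x, hx, rfl⟩
    exact ⟨x, hx, by rw [pow_one]⟩
  obtain ⟨z, hz, hvz⟩ := hWle hv'
  exact ⟨z, hz, hvz⟩

/-- Every top subgroup has the same Frattini subgroup as a top subgroup inside `O_p(G)`. -/
theorem replace_top {S : Sylow p G} (D : Data S) (hJ : (S : Subgroup G) ≤
    Subgroup.centralizer (centerThompsonAOf (S : Subgroup G) : Set G))
    (hnil : ∀ k, iterCommutator (VV (S : Subgroup G)) ⊤ k ≠ ⊥)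
    {Q : Subgroup ↥(S : Subgroup G)} (hQ : Top p Q) :
    ∃ Q₁ : Subgroup ↥(S : Subgroup G), Top p Q₁ ∧
      Q₁ ≤ (pCore p G).subgroupOf (S : Subgroup G) ∧ Fr Q = Fr Q₁ := by
  classical
  have hT : IsPGroup p ↥(S : Subgroup G) := S.isPGroup'
  have hPS : pCore p G ≤ (S : Subgroup G) := core_le S
  have hVP := VV_le_core S D.cent
  set Rt := (pCore p G).subgroupOf (S : Subgroup G) with hRt
  set Vt := (VV (S : Subgroup G)).subgroupOf (S : Subgroup G) with hVt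
  have hcl : IsCentrallyLarge Rt := core_cl D hJ hnil
  obtain ⟨Q₂, hQ₂, hQ₂R⟩ := exists_minimal_le hcl
  have hVR : Vt ≤ Rt := Subgroup.subgroupOf_mono _ hVP
  have hVc : Vt ≤ Cz Rt := by
    intro v hv
    rw [mem_Cz]
    intro r hr
    apply Subtype.ext
    exact VV_comm S _ hr _ hv
  have hoff := off_in D hnil Q
  obtain ⟨hs, hQ₁, hZ₁, hcard⟩ := replace_cl hQ.1 hQ₂ hQ₂R hVR hVc hoff
  have hVp : ∀ v ∈ Vt, ∃ z ∈ Cz Q, v ^ p = z ^ p := by
    intro v hv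
    obtain ⟨z, hz, hvz⟩ := VV_pow D hJ hv
    refine ⟨⟨z, (Subgroup.mem_inf.mp hz).1⟩, ?_, Subtype.ext hvz⟩
    rw [mem_Cz]
    intro q _
    apply Subtype.ext
    exact Subgroup.mem_centralizer_iff.mp (Subgroup.mem_inf.mp hz).2 _ q.2
  have hmax : Nat.card ↥(omegaOneCenter p ((Q ⊓ Rt) ⊔ Vt)) ≤ Nat.card ↥(omegaOneCenter p Q) := by
    rw [hQ.2]
    exact le_max_omega p hQ₁
  obtain ⟨h1, h2⟩ := replace_Fr hT hQ.1.1 hs hVR hVc hZ₁ hcard hVp hmax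
  exact ⟨_, ⟨hQ₁, h1.trans hQ.2⟩, sup_le inf_le_right hVR, h2⟩

/-- The join of the Frattini subgroups is normal, when `Z(S)` has a non-nilpotent normal closure. -/
theorem join_Fr_normal {S : Sylow p G} (D : Data S) (hJ : (S : Subgroup G) ≤
    Subgroup.centralizer (centerThompsonAOf (S : Subgroup G) : Set G))
    (hnil : ∀ k, iterCommutator (VV (S : Subgroup G)) ⊤ k ≠ ⊥) :
    ((frattiniOfMinimalCLJoin p ↥(S : Subgroup G)).map (S : Subgroup G).subtype).Normal := by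
  classical
  have hT : IsPGroup p ↥(S : Subgroup G) := S.isPGroup'
  constructor
  intro n hn g
  have hle : ((frattiniOfMinimalCLJoin p ↥(S : Subgroup G)).map (S : Subgroup G).subtype).map
      (MulAut.conj g).toMonoidHom ≤
      (frattiniOfMinimalCLJoin p ↥(S : Subgroup G)).map (S : Subgroup G).subtype := by
    rw [Subgroup.map_le_iff_le_comap, Subgroup.map_le_iff_le_comap]
    unfold frattiniOfMinimalCLJoin
    apply iSup_le
    rintro ⟨Q, hQ⟩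
    rw [← Subgroup.map_le_iff_le_comap, ← Subgroup.map_le_iff_le_comap]
    obtain ⟨Q₁, hQ₁, hQ₁R, hFr⟩ := replace_top D hJ hnil hQ
    change ((Fr Q).map (S : Subgroup G).subtype).map (MulAut.conj g).toMonoidHom ≤ _
    rw [hFr]
    obtain ⟨Q', hQ', -, hc⟩ := mcl_conj hQ₁.1 hQ₁R g
    have hTop : Top p Q' := ⟨hQ', (ConjIn.omega_card hc).symm.trans hQ₁.2⟩
    exact (ConjIn.Fr_le hT hc).trans (Subgroup.map_mono (Fr_le_join p hTop))
  exact hle ⟨n, hn, rfl⟩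

/-- The conclusion when the Frattini join is trivial. -/
theorem join_bot {T : Type*} [Group T] [Finite T] (hT : IsPGroup p T)
    (hb : frattiniOfMinimalCLJoin p T = ⊥) :
    (∀ Q : Subgroup T, IsMinimalCentrallyLarge Q ↔ Q ∈ maxAbelianSubgroups T) ∧
      ∃ A ∈ maxAbelianSubgroups T, IsElementaryAbelian p A := by
  classical
  obtain ⟨Q, hQ⟩ := exists_top (T := T) p
  have hFr : Fr Q = ⊥ := le_bot_iff.mp ((Fr_le_join p hQ).trans hb.le)
  have hab : IsMulCommutative Q := by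
    rw [Cfsg.Agent.Lib.ChermakDelgado.isMulCommutative_iff]
    intro x hx
    rw [mem_Cz]
    intro y hy
    have h1 : ⁅y, x⁆ ∈ Fr Q := comm_mem_Fr hT hy hx
    rw [hFr, Subgroup.mem_bot] at h1
    exact commutatorElement_eq_one_iff_mul_comm.mp h1
  have hiff := mcl_abelian hQ.1 hab
  refine ⟨hiff, Q, (hiff Q).mp hQ.1, hab, ?_⟩
  intro a ha
  have h1 : a ^ p ∈ Fr Q := pow_mem_Fr hT ha
  rwa [hFr, Subgroup.mem_bot] at h1

/-- The main theorem. -/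
theorem main {S : Subgroup G} (hE : IsPushingUpSituation p S)
    (hJ : S ≤ Subgroup.centralizer (centerThompsonAOf S : Set G)) :
    ((S ⊓ Subgroup.centralizer (S : Set G)).Normal ∨
      ((frattiniOfMinimalCLJoin p ↥S).map S.subtype).Normal) ∧
    (frattiniOfMinimalCLJoin p ↥S = ⊥ →
      (∀ Q : Subgroup ↥S, IsMinimalCentrallyLarge Q ↔ Q ∈ maxAbelianSubgroups ↥S) ∧
        ∃ A ∈ maxAbelianSubgroups ↥S, IsElementaryAbelian p A) := by
  classical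
  obtain ⟨P, rfl, D, -, -⟩ := data_of_situation hE
  refine ⟨?_, join_bot P.isPGroup'⟩
  by_cases hnil : ∀ k, iterCommutator (VV (P : Subgroup G)) ⊤ k ≠ ⊥
  · exact Or.inr (join_Fr_normal D hJ hnil)
  · left
    push Not at hnil
    obtain ⟨k, hk⟩ := hnil
    have hcen := ZS_central (S := P) D.cent hk
    constructor
    intro n hn g
    have : g * n * g⁻¹ = n := by
      have := Subgroup.mem_center_iff.mp (hcen hn) g
      rw [this]; group
    rw [this]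
    exact hn

end Main

end Cfsg.Agent.Lib.PushCL2
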