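import Mathlib
import Cfsg.Agent.Lib.QdFree
import Cfsg.Agent.Lib.QdChief
import Cfsg.Agent.Lib.ControlSec
import Cfsg.Agent.Lib.QuadP
import Cfsg.Agent.Lib.StableCore

/-!
# Climbing: if `Qd(p)` is involved in `N_G(R)` and `C_G(R)` has a `p`-element outside `R`, then `Qd(p)` is involved
in `N_G(R₁)` for a larger `p`-subgroup `R₁`.
-/

set_option autoImplicit false
set_option linter.unusedSectionVars false
set_option linter.unusedVariables false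
set_option linter.style.haveILetI false

namespace Cfsg.Agent.Lib.QdClimb

open Cfsg Cfsg.Agent.Lib.InvolvesAPI Cfsg.Agent.Lib.QdSection Cfsg.Agent.Lib.QdNotStable Cfsg.Agent.Lib.AlperinControl
open Cfsg.Agent.Lib.ControlSec Cfsg.Agent.Lib.QdFacts Cfsg.Agent.Lib.QdFree Cfsg.Agent.Lib.ZJSecBasic

universe u

variable {p : ℕ} [hp : Fact p.Prime]

theorem involves_of_le_surj {Y Z : Type*} [Group Y] [Group Z] {X M : Subgroup Y} (hXM : X ≤ M) (f : X →* Z)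
    (hf : Function.Surjective f) : Involves Z ↥M := by
  refine involves_of_surj (X.subgroupOf M) (f.comp (Subgroup.subgroupOfEquivOfLe hXM).toMonoidHom) ?_
  exact hf.comp (Subgroup.subgroupOfEquivOfLe hXM).surjective

/-- A subgroup of `H` minimal with a surjection onto `Qd(p)` normalizes a `p`-subgroup which is mapped onto the
translation subgroup. -/
theorem exists_min {Y : Type u} [Group Y] [Finite Y] (H : Subgroup Y) (h : Involves ↥(qd p) ↥H) :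
    ∃ (X : Subgroup Y) (f : X →* ↥(qd p)) (A : Subgroup Y) (hAX : A ≤ X), X ≤ H ∧ Function.Surjective f ∧ IsPGroup p A ∧
      X ≤ NN A ∧ (∀ a (ha : a ∈ A), f ⟨a, hAX ha⟩ ∈ T (p := p)) ∧
      ∀ t ∈ T (p := p), ∃ a, ∃ ha : a ∈ A, f ⟨a, hAX ha⟩ = t := by
  classical
  let 𝒳 : Set (Subgroup Y) := {X | X ≤ H ∧ ∃ f : X →* ↥(qd p), Function.Surjective f}
  have hne : 𝒳.Nonempty := by
    obtain ⟨K, f, hf⟩ := exists_surj_of_involves h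
    exact ⟨K.map H.subtype, Subgroup.map_subtype_le _,
      f.comp (Subgroup.equivMapOfInjective K H.subtype H.subtype_injective).symm.toMonoidHom,
      hf.comp (MulEquiv.surjective _)⟩
  obtain ⟨X, ⟨hXH, f, hf⟩, hmin⟩ := Set.exists_min_image 𝒳 (fun X => Nat.card X) (Set.toFinite _) hne
  let T₁ : Subgroup Y := ((T (p := p)).comap f).map X.subtype
  have hT₁X : T₁ ≤ X := Subgroup.map_subtype_le _
  have hmemT₁ : ∀ x : X, (x : Y) ∈ T₁ ↔ f x ∈ T (p := p) := by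
    intro x
    constructor
    · rintro ⟨y, hy, hyx⟩
      have : y = x := Subtype.ext hyx
      rwa [← this]
    · intro hx
      exact ⟨x, hx, rfl⟩
  obtain ⟨A, hA, -⟩ := exists_isSyl_ge (p := p) (bot_le : (⊥ : Subgroup Y) ≤ T₁) IsPGroup.of_bot
  have hAX : A ≤ X := hA.le.trans hT₁X
  have hAT : ∀ a (ha : a ∈ A), f ⟨a, hAX ha⟩ ∈ T (p := p) := fun a ha =>
    (hmemT₁ ⟨a, hAX ha⟩).mp (hA.le ha)
  have hTA : ∀ t ∈ T (p := p), ∃ a, ∃ ha : a ∈ A, f ⟨a, hAX ha⟩ = t := by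
    intro t ht
    obtain ⟨x, hx⟩ := hf t
    obtain ⟨S, hS⟩ := hA.sylow_exists
    let f₁ : ↥T₁ →* ↥(qd p) := f.comp (Subgroup.inclusion hT₁X)
    have hz := exists_sylow_of_normal_mod f₁.ker S ⊤ (by
      intro b _
      have hb : f₁ b ∈ T (p := p) := (hmemT₁ ⟨b, hT₁X b.2⟩).mp b.2
      obtain ⟨k, hk⟩ := T_isPGroup (p := p) ⟨_, hb⟩
      refine ⟨k, ?_⟩
      rw [MonoidHom.mem_ker, map_pow]
      simpa using congrArg Subtype.val hk) ⟨x, (hmemT₁ x).mpr (hx ▸ ht)⟩ trivial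
    obtain ⟨s, hs, hsk⟩ := hz
    rw [hS] at hs
    refine ⟨s, Subgroup.mem_subgroupOf.mp hs, ?_⟩
    have h1 : f₁ s = f₁ ⟨x, (hmemT₁ x).mpr (hx ▸ ht)⟩ := by
      rw [MonoidHom.mem_ker, map_mul, map_inv, inv_mul_eq_one] at hsk
      exact hsk
    exact h1.trans hx
  have hXT₁ : ∀ x ∈ X, x ∈ NN T₁ := by
    intro x hx
    apply mem_NN_of_forall
    intro y hy
    have hyX := hT₁X hy
    have h1 : f ⟨y, hyX⟩ ∈ T (p := p) := (hmemT₁ ⟨y, hyX⟩).mp hy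
    have h2 : x * y * x⁻¹ ∈ X := X.mul_mem (X.mul_mem hx hyX) (X.inv_mem hx)
    have h3 : (⟨x * y * x⁻¹, h2⟩ : X) = ⟨x, hx⟩ * ⟨y, hyX⟩ * (⟨x, hx⟩ : X)⁻¹ := rfl
    refine (hmemT₁ ⟨_, h2⟩).mpr ?_
    rw [h3, map_mul, map_mul, map_inv]
    exact (inferInstance : (T (p := p)).Normal).conj_mem _ h1 _
  let f₀ : ↥(X ⊓ NN A) →* ↥(qd p) := f.comp (Subgroup.inclusion inf_le_left)
  have hf₀ : Function.Surjective f₀ := by
    intro q
    obtain ⟨x, rfl⟩ := hf q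
    obtain ⟨d, hd, hdx⟩ := frattini hA (hXT₁ x x.2)
    have hdX : d ∈ X := hT₁X hd
    have hdT : f ⟨d, hdX⟩ ∈ T (p := p) := (hmemT₁ ⟨d, hdX⟩).mp hd
    obtain ⟨a, ha, hae⟩ := hTA _ hdT
    refine ⟨⟨a * (d⁻¹ * x), X.mul_mem (hAX ha) (X.mul_mem (X.inv_mem hdX) x.2),
      (NN A).mul_mem (Subgroup.le_normalizer ha) hdx⟩, ?_⟩
    have e : (Subgroup.inclusion inf_le_left (⟨a * (d⁻¹ * x), X.mul_mem (hAX ha) (X.mul_mem (X.inv_mem hdX) x.2),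
      (NN A).mul_mem (Subgroup.le_normalizer ha) hdx⟩ : ↥(X ⊓ NN A)) : X) =
        ⟨a, hAX ha⟩ * ((⟨d, hdX⟩ : X)⁻¹ * x) := rfl
    show f (Subgroup.inclusion inf_le_left _) = f x
    rw [e, map_mul, map_mul, map_inv, hae]
    group
  have hle : X ⊓ NN A = X := by
    have := hmin (X ⊓ NN A) ⟨inf_le_left.trans hXH, f₀, hf₀⟩
    exact Subgroup.eq_of_le_of_card_ge inf_le_left this
  refine ⟨X, f, A, hAX, hXH, hf, hA.pgrp, ?_, hAT, hTA⟩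
  rw [← hle]
  exact inf_le_right

theorem conj_trans (A : SL2 p) (v : Fin 2 → ZMod p) :
    aff A 0 * aff 1 v * (aff A 0)⁻¹ = aff 1 ((A : Matrix (Fin 2) (Fin 2) (ZMod p)).mulVec v) := by
  rw [aff_conj]
  group

/-- Quadratic action on the translation group. -/
theorem quad_of_mulVec (A : SL2 p)
    (h : ∀ v : Fin 2 → ZMod p, (A : Matrix (Fin 2) (Fin 2) (ZMod p)).mulVec ((A : Matrix (Fin 2) (Fin 2) (ZMod p)).mulVec v - v) =
      (A : Matrix (Fin 2) (Fin 2) (ZMod p)).mulVec v - v) :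
    ∀ t ∈ T (p := p), aff A 0 * (aff A 0 * t * (aff A 0)⁻¹ * t⁻¹) * (aff A 0)⁻¹ = aff A 0 * t * (aff A 0)⁻¹ * t⁻¹ := by
  intro t ht
  obtain ⟨v, rfl⟩ := exists_of_mem_T ht
  have e1 : aff A 0 * aff 1 v * (aff A 0)⁻¹ * (aff 1 v)⁻¹ =
      aff 1 ((A : Matrix (Fin 2) (Fin 2) (ZMod p)).mulVec v - v) := by
    rw [conj_trans, aff_trans_inv, aff_trans_mul, sub_eq_add_neg]
  rw [e1, conj_trans, h]

theorem quad_uu' : ∀ t ∈ T (p := p), aff (Cfsg.Agent.Lib.QdPair.uu p) 0 * (aff (Cfsg.Agent.Lib.QdPair.uu p) 0 * t * (aff (Cfsg.Agent.Lib.QdPair.uu p) 0)⁻¹ * t⁻¹) * (aff (Cfsg.Agent.Lib.QdPair.uu p) 0)⁻¹ =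
    aff (Cfsg.Agent.Lib.QdPair.uu p) 0 * t * (aff (Cfsg.Agent.Lib.QdPair.uu p) 0)⁻¹ * t⁻¹ := by
  apply quad_of_mulVec
  intro v
  rw [Cfsg.Agent.Lib.QdPair.uu_coe]
  ext i
  fin_cases i <;> simp [Matrix.mulVec, dotProduct, Fin.sum_univ_two]

theorem quad_ll' : ∀ t ∈ T (p := p), aff (Cfsg.Agent.Lib.QdPair.ll p) 0 * (aff (Cfsg.Agent.Lib.QdPair.ll p) 0 * t * (aff (Cfsg.Agent.Lib.QdPair.ll p) 0)⁻¹ * t⁻¹) * (aff (Cfsg.Agent.Lib.QdPair.ll p) 0)⁻¹ =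
    aff (Cfsg.Agent.Lib.QdPair.ll p) 0 * t * (aff (Cfsg.Agent.Lib.QdPair.ll p) 0)⁻¹ * t⁻¹ := by
  apply quad_of_mulVec
  intro v
  rw [Cfsg.Agent.Lib.QdPair.ll_coe]
  ext i
  fin_cases i <;> simp [Matrix.mulVec, dotProduct, Fin.sum_univ_two]

theorem word_eq : (Cfsg.Agent.Lib.QdPair.uu p * Cfsg.Agent.Lib.QdPair.ll p ^ (p - 1)) ^ 3 = zz p := by
  have h1 : Cfsg.Agent.Lib.QdPair.ll p ^ (p - 1) = (Cfsg.Agent.Lib.QdPair.ll p)⁻¹ := by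
    apply eq_inv_of_mul_eq_one_left
    rw [← pow_succ, Nat.sub_add_cancel hp.out.one_le]
    exact Cfsg.Agent.Lib.QdPair.ll_p
  rw [h1, pow_three, ← mul_assoc]
  exact Cfsg.Agent.Lib.QdPair.w0_cube

theorem zz_pow (hp2 : p ≠ 2) (k : ℕ) : zz p ^ (p ^ k) = zz p := by
  have hodd : Odd (p ^ k) := (hp.out.odd_of_ne_two hp2).pow
  obtain ⟨m, hm⟩ := hodd
  rw [hm, pow_succ, pow_mul, pow_two, zz_sq, one_pow, one_mul]

/-- **Climbing.** If `C(R)` has a Sylow subgroup `T₁ ≰ R`, and `Qd(p)` is not involved in the normalizer of any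
`p`-subgroup properly containing `R`, then `Qd(p)` is not involved in `N(R)`. -/
theorem climb (hp2 : p ≠ 2) {Y : Type u} [Group Y] [Finite Y] (R : Subgroup Y) (hRp : IsPGroup p R)
    {T₁ : Subgroup Y} (hT₁ : IsSyl p T₁ (Subgroup.centralizer (R : Set Y))) (hne : ¬ T₁ ≤ R)
    (hmax : ∀ R' : Subgroup Y, IsPGroup p R' → R < R' → ¬ Involves ↥(qd p) ↥(NN R')) :
    ¬ Involves ↥(qd p) ↥(NN R) := by
  classical
  intro hinv
  obtain ⟨X, f, A, hAX, hXH, hf, hAp, hXA, hAT, hTA⟩ := exists_min (NN R) hinv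
  set C := Subgroup.centralizer (R : Set Y) with hC
  have hCH : C ≤ NN R := Subgroup.centralizer_le_normalizer _
  have hHC : NN R ≤ NN C := le_NN_centralizer le_rfl
  have hAR : A ≤ R := by
    by_contra h
    have hlt : R < R ⊔ A := lt_of_le_not_ge le_sup_left fun h' => h (le_sup_right.trans h')
    have hp' : IsPGroup p ↥(R ⊔ A) := hRp.to_sup_of_normal_left' hAp (hAX.trans hXH)
    exact hmax _ hp' hlt (involves_of_le_surj (fun x hx => mem_NN_sup (hXH hx) (hXA hx)) f hf)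
  have hT₁C : T₁ ≤ C := hT₁.le
  have hlt₁ : R < R ⊔ T₁ := lt_of_le_not_ge le_sup_left fun h' => hne (le_sup_right.trans h')
  have hp₁ : IsPGroup p ↥(R ⊔ T₁) := hRp.to_sup_of_normal_left' hT₁.pgrp (hT₁C.trans hCH)
  have hfree₁ := hmax _ hp₁ hlt₁
  set H₂ := NN R ⊓ NN T₁ with hH₂def
  have hH₂ : H₂ ≤ NN (R ⊔ T₁) := fun x hx => mem_NN_sup hx.1 hx.2
  have hfree₂ : ¬ Involves ↥(qd p) ↥H₂ := fun h => hfree₁ (Involves.trans h
    (Cfsg.Agent.Lib.QuadP.involves_of_injective (Subgroup.inclusion hH₂) (Subgroup.inclusion_injective _)))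
  have hRH₂ : R ≤ H₂ := by
    intro r hr
    refine ⟨Subgroup.le_normalizer hr, ?_⟩
    apply mem_NN_of_forall
    intro t ht
    have h1 := Subgroup.mem_centralizer_iff.mp (hT₁C ht) r hr
    have e : r * t * r⁻¹ = t := by rw [h1]; group
    rw [e]
    exact ht
  have hlift : ∀ x ∈ X, ∃ h ∈ H₂, ∀ r ∈ R, h * r * h⁻¹ = x * r * x⁻¹ := by
    intro x hx
    obtain ⟨d, hd, hdx⟩ := frattini hT₁ (hHC (hXH hx))
    refine ⟨d⁻¹ * x, ⟨(NN R).mul_mem ((NN R).inv_mem (hCH hd)) (hXH hx), hdx⟩, ?_⟩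
    intro r hr
    have h1 : x * r * x⁻¹ ∈ R := conj_mem_of_mem_NN (hXH hx) hr
    have h2 := Subgroup.mem_centralizer_iff.mp hd _ h1
    calc d⁻¹ * x * r * (d⁻¹ * x)⁻¹ = d⁻¹ * ((x * r * x⁻¹) * d) := by group
      _ = d⁻¹ * (d * (x * r * x⁻¹)) := by rw [h2]
      _ = x * r * x⁻¹ := by group
  -- the kernel part
  let B : Subgroup Y := A ⊓ f.ker.map X.subtype
  have hmemB : ∀ x (hx : x ∈ A), x ∈ B ↔ f ⟨x, hAX hx⟩ = 1 := by
    intro x hx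
    constructor
    · rintro ⟨-, y, hy, hyx⟩
      have : y = ⟨x, hAX hx⟩ := Subtype.ext hyx
      rw [← this]
      exact hy
    · intro h
      exact ⟨hx, ⟨x, hAX hx⟩, h, rfl⟩
  have hBA : B ≤ A := inf_le_left
  have hBX : ∀ x ∈ X, ∀ y ∈ B, x * y * x⁻¹ ∈ B := by
    intro x hx y hy
    have hyA := hBA hy
    have h1 : x * y * x⁻¹ ∈ A := conj_mem_of_mem_NN (hXA hx) hyA
    refine (hmemB _ h1).mpr ?_
    have e : (⟨x * y * x⁻¹, hAX h1⟩ : X) = ⟨x, hx⟩ * ⟨y, hAX hyA⟩ * (⟨x, hx⟩ : X)⁻¹ := rfl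
    rw [e, map_mul, map_mul, map_inv, (hmemB y hyA).mp hy]
    group
  -- the elements
  obtain ⟨a, ha⟩ := hf (aff (Cfsg.Agent.Lib.QdPair.uu p) 0)
  obtain ⟨b, hb⟩ := hf (aff (Cfsg.Agent.Lib.QdPair.ll p) 0)
  obtain ⟨ah, hahH, hah⟩ := hlift a a.2
  obtain ⟨bh, hbhH, hbh⟩ := hlift b b.2
  let W : Subgroup Y := Subgroup.closure ((A : Set Y) ∪ {ah, bh})
  have hAW : A ≤ W := fun x hx => Subgroup.subset_closure (Or.inl hx)
  have hahW : ah ∈ W := Subgroup.subset_closure (Or.inr (Or.inl rfl))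
  have hbhW : bh ∈ W := Subgroup.subset_closure (Or.inr (Or.inr rfl))
  have hWH₂ : W ≤ H₂ := by
    rw [Subgroup.closure_le]
    rintro x (hx | rfl | rfl)
    · exact hRH₂ (hAR hx)
    · exact hahH
    · exact hbhH
  have hWA : W ≤ NN A := by
    rw [Subgroup.closure_le]
    rintro x (hx | rfl | rfl)
    · exact Subgroup.le_normalizer hx
    · apply mem_NN_of_forall
      intro y hy
      rw [hah y (hAR hy)]
      exact conj_mem_of_mem_NN (hXA a.2) hy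
    · apply mem_NN_of_forall
      intro y hy
      rw [hbh y (hAR hy)]
      exact conj_mem_of_mem_NN (hXA b.2) hy
  have hWB : W ≤ NN B := by
    rw [Subgroup.closure_le]
    rintro x (hx | rfl | rfl)
    · exact mem_NN_of_forall fun y hy => hBX x (hAX hx) y hy
    · apply mem_NN_of_forall
      intro y hy
      rw [hah y (hAR (hBA hy))]
      exact hBX a a.2 y hy
    · apply mem_NN_of_forall
      intro y hy
      rw [hbh y (hAR (hBA hy))]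
      exact hBX b b.2 y hy
  haveI hBW : (B.subgroupOf W).Normal := ⟨fun n hn g => conj_mem_of_mem_NN (hWB g.2) hn⟩
  let PY : Subgroup (QQ W B) := img W B A
  haveI hPYn : PY.Normal := by
    constructor
    rintro _ ⟨x, hx, rfl⟩ g
    obtain ⟨g₀, rfl⟩ := pp_surjective g
    rw [← map_inv, ← map_mul, ← map_mul]
    exact mem_img_of (H := W) (V₀ := B) (conj_mem_of_mem_NN (hWA g₀.2) (Subgroup.mem_subgroupOf.mp hx))
  have hPYp : IsPGroup p PY := (hAp.comap_of_injective W.subtype W.subtype_injective).map _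
  let ab : QQ W B := pp W B ⟨ah, hahW⟩
  let bb : QQ W B := pp W B ⟨bh, hbhW⟩
  -- the relation
  let Rel : QQ W B → SL2 p → Prop := fun t w => ∀ x (hx : x ∈ A), ∃ x', ∃ hx' : x' ∈ A,
    t * pp W B ⟨x, hAW hx⟩ * t⁻¹ = pp W B ⟨x', hAW hx'⟩ ∧
      f ⟨x', hAX hx'⟩ = aff w 0 * f ⟨x, hAX hx⟩ * (aff w 0)⁻¹
  have hRel1 : Rel 1 1 := by
    intro x hx
    refine ⟨x, hx, by simp, ?_⟩
    rw [aff_one_zero]
    simp
  have hRelmul : ∀ {t t' w w'}, Rel t w → Rel t' w' → Rel (t * t') (w * w') := by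
    intro t t' w w' h h' x hx
    obtain ⟨x₁, hx₁, h1, h2⟩ := h' x hx
    obtain ⟨x₂, hx₂, h3, h4⟩ := h x₁ hx₁
    refine ⟨x₂, hx₂, ?_, ?_⟩
    · rw [← h3, ← h1]
      group
    · rw [h4, h2, aff_zero_mul]
      group
  have hRelpow : ∀ {t w} (n : ℕ), Rel t w → Rel (t ^ n) (w ^ n) := by
    intro t w n h
    induction n with
    | zero => simpa using hRel1
    | succ n ih =>
      rw [pow_succ, pow_succ]
      exact hRelmul ih h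
  have hRelX : ∀ (x₀ : X) (h : Y) (hW : h ∈ W) (hact : ∀ r ∈ R, h * r * h⁻¹ = x₀ * r * (x₀ : Y)⁻¹)
      (w : SL2 p), f x₀ = aff w 0 → Rel (pp W B ⟨h, hW⟩) w := by
    intro x₀ h hW hact w hw x hx
    have h1 : (x₀ : Y) * x * (x₀ : Y)⁻¹ ∈ A := conj_mem_of_mem_NN (hXA x₀.2) hx
    refine ⟨_, h1, ?_, ?_⟩
    · rw [← map_inv, ← map_mul, ← map_mul]
      congr 1
      apply Subtype.ext
      exact hact x (hAR hx)
    · have e : (⟨(x₀ : Y) * x * (x₀ : Y)⁻¹, hAX h1⟩ : X) = x₀ * ⟨x, hAX hx⟩ * x₀⁻¹ := rfl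
      rw [e, map_mul, map_mul, map_inv, hw]
  have hRa : Rel ab (Cfsg.Agent.Lib.QdPair.uu p) := hRelX a ah hahW hah _ ha
  have hRb : Rel bb (Cfsg.Agent.Lib.QdPair.ll p) := hRelX b bh hbhW hbh _ hb
  set t₀ := (ab * bb ^ (p - 1)) ^ 3 with ht₀
  have hRt₀ : Rel t₀ (zz p) := by
    have h1 := hRelpow 3 (hRelmul hRa (hRelpow (p - 1) hRb))
    rwa [word_eq] at h1
  obtain ⟨k, hk⟩ := Cfsg.Agent.Lib.StableCore.exists_pow_coprime p t₀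
  have hRt₁ : Rel (t₀ ^ p ^ k) (zz p) := by
    have h1 := hRelpow (p ^ k) hRt₀
    rwa [zz_pow hp2] at h1
  have hht : t₀ ^ p ^ k ∈ Subgroup.closure {ab, bb} := by
    apply Subgroup.pow_mem
    apply Subgroup.pow_mem
    apply Subgroup.mul_mem
    · exact Subgroup.subset_closure (Or.inl rfl)
    · apply Subgroup.pow_mem
      exact Subgroup.subset_closure (Or.inr rfl)
  -- the quadratic actions
  have hqX : ∀ (x₀ : X) (h : Y) (hW : h ∈ W) (hact : ∀ r ∈ R, h * r * h⁻¹ = x₀ * r * (x₀ : Y)⁻¹),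
      (∀ t ∈ T (p := p), f x₀ * (f x₀ * t * (f x₀)⁻¹ * t⁻¹) * (f x₀)⁻¹ = f x₀ * t * (f x₀)⁻¹ * t⁻¹) →
      ∀ u ∈ PY, pp W B ⟨h, hW⟩ * (pp W B ⟨h, hW⟩ * u * (pp W B ⟨h, hW⟩)⁻¹ * u⁻¹) * (pp W B ⟨h, hW⟩)⁻¹ =
        pp W B ⟨h, hW⟩ * u * (pp W B ⟨h, hW⟩)⁻¹ * u⁻¹ := by
    rintro x₀ h hW hact hq _ ⟨⟨x, hxW⟩, hx, rfl⟩
    have hxA : x ∈ A := Subgroup.mem_subgroupOf.mp hx
    have h1 : (x₀ : Y) * x * (x₀ : Y)⁻¹ ∈ A := conj_mem_of_mem_NN (hXA x₀.2) hxA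
    have hy : (x₀ : Y) * x * (x₀ : Y)⁻¹ * x⁻¹ ∈ A := A.mul_mem h1 (A.inv_mem hxA)
    have hy2 : (x₀ : Y) * ((x₀ : Y) * x * (x₀ : Y)⁻¹ * x⁻¹) * (x₀ : Y)⁻¹ ∈ A := conj_mem_of_mem_NN (hXA x₀.2) hy
    have e1 : pp W B ⟨h, hW⟩ * pp W B ⟨x, hxW⟩ * (pp W B ⟨h, hW⟩)⁻¹ * (pp W B ⟨x, hxW⟩)⁻¹ =
        pp W B ⟨(x₀ : Y) * x * (x₀ : Y)⁻¹ * x⁻¹, hAW hy⟩ := by
      rw [← map_inv, ← map_inv, ← map_mul, ← map_mul, ← map_mul]
      congr 1
      apply Subtype.ext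
      show h * x * h⁻¹ * x⁻¹ = _
      rw [hact x (hAR hxA)]
    have e2 : pp W B ⟨h, hW⟩ * pp W B ⟨(x₀ : Y) * x * (x₀ : Y)⁻¹ * x⁻¹, hAW hy⟩ * (pp W B ⟨h, hW⟩)⁻¹ =
        pp W B ⟨(x₀ : Y) * ((x₀ : Y) * x * (x₀ : Y)⁻¹ * x⁻¹) * (x₀ : Y)⁻¹, hAW hy2⟩ := by
      rw [← map_inv, ← map_mul, ← map_mul]
      congr 1
      apply Subtype.ext
      exact hact _ (hAR hy)
    rw [e1, e2]
    apply pp_eq_iff.mpr
    have hmem : ((⟨(x₀ : Y) * ((x₀ : Y) * x * (x₀ : Y)⁻¹ * x⁻¹) * (x₀ : Y)⁻¹, hAW hy2⟩ : W) : Y)⁻¹ *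
        ((⟨(x₀ : Y) * x * (x₀ : Y)⁻¹ * x⁻¹, hAW hy⟩ : W) : Y) ∈ A := A.mul_mem (A.inv_mem hy2) hy
    refine (hmemB _ hmem).mpr ?_
    have e3 : (⟨_, hAX hmem⟩ : X) = (x₀ * (x₀ * ⟨x, hAX hxA⟩ * x₀⁻¹ * (⟨x, hAX hxA⟩ : X)⁻¹) * x₀⁻¹)⁻¹ *
        (x₀ * ⟨x, hAX hxA⟩ * x₀⁻¹ * (⟨x, hAX hxA⟩ : X)⁻¹) := rfl
    rw [e3]
    simp only [map_mul, map_inv]
    rw [hq _ (hAT x hxA)]
    group
  have hqa : ∀ u ∈ PY, ab * (ab * u * ab⁻¹ * u⁻¹) * ab⁻¹ = ab * u * ab⁻¹ * u⁻¹ :=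
    hqX a ah hahW hah (by rw [ha]; exact quad_uu')
  have hqb : ∀ u ∈ PY, bb * (bb * u * bb⁻¹ * u⁻¹) * bb⁻¹ = bb * u * bb⁻¹ * u⁻¹ :=
    hqX b bh hbhW hbh (by rw [hb]; exact quad_ll')
  have htc : ∃ u ∈ PY, t₀ ^ p ^ k * u * (t₀ ^ p ^ k)⁻¹ ≠ u := by
    obtain ⟨x, hx, hfx⟩ := hTA (aff 1 ![1, 0]) (aff_mem_T _)
    refine ⟨pp W B ⟨x, hAW hx⟩, mem_img_of (H := W) (V₀ := B) (y := ⟨x, hAW hx⟩) hx, ?_⟩
    obtain ⟨x', hx', h1, h2⟩ := hRt₁ x hx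
    rw [h1]
    intro heq
    have h3 : x'⁻¹ * x ∈ A := A.mul_mem (A.inv_mem hx') hx
    have h4 := pp_eq_iff.mp heq
    have h5 := (hmemB _ h3).mp h4
    have e : (⟨x'⁻¹ * x, hAX h3⟩ : X) = (⟨x', hAX hx'⟩ : X)⁻¹ * ⟨x, hAX hx⟩ := rfl
    rw [e, map_mul, map_inv, inv_mul_eq_one, h2, hfx, conj_trans, zz_mulVec] at h5
    have h6 := congrArg (fun x : ↥(Cfsg.qd p) => ((x : Matrix.SpecialLinearGroup (Fin 3) (ZMod p)) : Matrix (Fin 3) (Fin 3) (ZMod p)) 0 2) h5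
    simp only [aff_coe] at h6
    simp at h6
    have h7 : (2 : ZMod p) = 0 := by linear_combination -h6
    exact Cfsg.Agent.Lib.QdPair.two_ne hp2 h7
  have hinvol : Involves ↥(qd p) (QQ W B) :=
    Cfsg.Agent.Lib.QdChief.involves_of_quadratic' hp2 (fun K _ _ _ => dickson hp2 K) PY hPYp ab bb hqa hqb hht hk htc
  exact hfree₂ (Involves.trans hinvol (involves_of_le_surj hWH₂ (pp W B) pp_surjective))

end Cfsg.Agent.Lib.QdClimb
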