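import Mathlib
import Cfsg.Agent.Lib.QdFree
import Cfsg.Agent.S3074

/-!
# `Z(J(T))` does not control strong fusion in `Qd(p)`
-/

set_option autoImplicit false

namespace Cfsg.Agent.Lib.QdFusion

open Cfsg Cfsg.Agent.Lib.QdSection Cfsg.Agent.Lib.PCore Cfsg.Agent.Lib.ZJCore3
open Cfsg.Agent.Lib.ZJControl Cfsg.Agent.Lib.QdNotStable

universe u

variable {p : ℕ} [hp : Fact p.Prime]

/-- The abstract obstruction to control of strong fusion by `Z(J(T))`. -/
theorem not_controls {Y : Type u} [Group Y] [Finite Y] (V : Subgroup Y) [hVn : V.Normal]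
    (hVc : ∀ x ∈ V, ∀ y ∈ V, x * y = y * x) (hVe : ∀ x ∈ V, x ^ p = 1) (hVcard : Nat.card V = p ^ 2)
    (htrans : ∀ v ∈ V, ∀ w ∈ V, v ≠ 1 → w ≠ 1 → ∃ g : Y, g * v * g⁻¹ = w)
    (T : Sylow p Y) (hT : Nat.card T = p ^ 3)
    (hna : ∃ x ∈ (T : Subgroup Y), ∃ y ∈ (T : Subgroup Y), x * y ≠ y * x) :
    ¬ ControlsStrongFusion p (centerThompsonAOf (T : Subgroup Y)) := by
  classical
  rintro ⟨T', hUT', hctrl⟩
  have hpr : p.Prime := hp.out
  have hVp : IsPGroup p V := IsPGroup.of_card hVcard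
  have hVT : ∀ S : Sylow p Y, V ≤ (S : Subgroup Y) := fun S => (le_pCore hVn hVp).trans (pCore_le_sylow p S)
  set U := centerThompsonAOf (T : Subgroup Y) with hU
  have hUeq : U = sInf (maxFam clsComm (T : Subgroup Y)) := centerThompsonA_eq_sInf _
  -- every abelian subgroup of `T` has at most `p²` elements
  have hab : ∀ B : Subgroup Y, B ≤ (T : Subgroup Y) → clsComm B → Nat.card B ≤ p ^ 2 := by
    intro B hB hcB
    have h1 : Nat.card B ∣ p ^ 3 := hT ▸ Subgroup.card_dvd_of_le hB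
    obtain ⟨k, hk, hk2⟩ := (Nat.dvd_prime_pow hpr).mp h1
    by_cases hk3 : k = 3
    · exfalso
      subst hk3
      have hBT : B = (T : Subgroup Y) := Subgroup.eq_of_le_of_card_ge hB (by rw [hT, hk2])
      obtain ⟨x, hx, y, hy, hxy⟩ := hna
      rw [← hBT] at hx hy
      have hcB' : IsMulCommutative B := hcB
      have := hcB'.is_comm.comm ⟨x, hx⟩ ⟨y, hy⟩
      exact hxy (congrArg Subtype.val this)
    · rw [hk2]
      exact Nat.pow_le_pow_right hpr.pos (by omega)
  have hVcl : clsComm V := ⟨⟨fun x y => Subtype.ext (hVc x x.2 y y.2)⟩⟩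
  have hVfam : V ∈ maxFam clsComm (T : Subgroup Y) :=
    ⟨hVT T, hVcl, fun B hB hcB => by rw [hVcard]; exact hab B hB hcB⟩
  -- a non-central element outside `V`
  obtain ⟨y, hyT, hyV, hync⟩ : ∃ y ∈ (T : Subgroup Y), y ∉ V ∧ ∃ x ∈ (T : Subgroup Y), x * y ≠ y * x := by
    obtain ⟨x, hx, y, hy, hxy⟩ := hna
    by_cases hyV : y ∈ V
    · have hxV : x ∉ V := fun hxV => hxy (hVc x hxV y hyV)
      exact ⟨x, hx, hxV, y, hy, fun h => hxy h.symm⟩
    · exact ⟨y, hy, hyV, x, hx, hxy⟩
  -- a central element of `T`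
  have hTp : IsPGroup p (T : Subgroup Y) := T.isPGroup'
  have hT1 : Nontrivial (T : Subgroup Y) := by
    obtain ⟨x, hx, y, hy, hxy⟩ := hna
    refine ⟨⟨⟨x, hx⟩, 1, fun h => hxy ?_⟩⟩
    have : x = 1 := congrArg Subtype.val h
    rw [this]; simp
  have hcn := hTp.center_nontrivial
  obtain ⟨z', hz'⟩ := exists_ne (1 : Subgroup.center (T : Subgroup Y))
  set z : Y := ((z' : (T : Subgroup Y)) : Y) with hz
  have hzT : z ∈ (T : Subgroup Y) := (z' : (T : Subgroup Y)).2
  have hz1 : z ≠ 1 := by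
    intro h
    apply hz'
    apply Subtype.ext
    apply Subtype.ext
    exact h
  have hzc : ∀ t ∈ (T : Subgroup Y), t * z = z * t := by
    intro t ht
    have := Subgroup.mem_center_iff.mp z'.2 ⟨t, ht⟩
    exact congrArg Subtype.val this
  -- the second member of the family
  let A : Subgroup Y := Subgroup.closure {y, z}
  have hAT : A ≤ (T : Subgroup Y) := by
    rw [Subgroup.closure_le]
    rintro w (rfl | rfl)
    · exact hyT
    · exact hzT
  have hAcomm : ∀ a ∈ ({y, z} : Set Y), ∀ b ∈ ({y, z} : Set Y), a * b = b * a := by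
    rintro a (rfl | rfl) b (rfl | rfl)
    · rfl
    · exact hzc _ hyT
    · exact (hzc _ hyT).symm
    · rfl
  have hAcl : clsComm A := Subgroup.isMulCommutative_closure hAcomm
  have hyA : y ∈ A := Subgroup.subset_closure (by simp)
  have hzA : z ∈ A := Subgroup.subset_closure (by simp)
  have hAcard : p ^ 2 ≤ Nat.card A := by
    by_contra hlt
    push Not at hlt
    have h1 : Nat.card A ∣ p ^ 3 := hT ▸ Subgroup.card_dvd_of_le hAT
    obtain ⟨k, hk, hk2⟩ := (Nat.dvd_prime_pow hpr).mp h1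
    have hk3 : k < 2 := by
      rw [hk2] at hlt
      exact (Nat.pow_lt_pow_iff_right hpr.one_lt).mp hlt
    have h2 : orderOf z ∣ Nat.card A := by
      have := Subgroup.orderOf_dvd_natCard A hzA
      exact this
    rw [hk2] at h2
    obtain ⟨j, hj, hj2⟩ := (Nat.dvd_prime_pow hpr).mp h2
    have hj0 : j ≠ 0 := by
      rintro rfl
      rw [pow_zero, orderOf_eq_one_iff] at hj2
      exact hz1 hj2
    have hkj : j = k := by omega
    have hzA' : Subgroup.zpowers z ≤ A := by
      rw [Subgroup.zpowers_le]; exact hzA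
    have heq : Subgroup.zpowers z = A := Subgroup.eq_of_le_of_card_ge hzA' (by
      rw [Nat.card_zpowers, hj2, hk2, hkj])
    rw [← heq] at hyA
    obtain ⟨n, hn⟩ := hyA
    obtain ⟨x, hx, hxy⟩ := hync
    apply hxy
    have hcz : Commute x z := hzc x hx
    rw [← hn]
    exact (hcz.zpow_right n).eq
  have hAfam : A ∈ maxFam clsComm (T : Subgroup Y) :=
    ⟨hAT, hAcl, fun B hB hcB => (hab B hB hcB).trans hAcard⟩
  have hUV : U ≤ V := by
    rw [hUeq]; exact sInf_le hVfam
  have hUA : U ≤ A := by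
    rw [hUeq]; exact sInf_le hAfam
  have hVA : ¬ V ≤ A := by
    intro h
    have h1 : V = A := Subgroup.eq_of_le_of_card_ge h (by
      rw [hVcard]; exact hab A hAT hAcl)
    exact hyV (h1 ▸ hyA)
  have hUne : U ≠ ⊥ := by
    have hTne : (T : Subgroup Y) ≠ ⊥ := (Subgroup.nontrivial_iff_ne_bot _).mp hT1
    have := WW_ne_bot (dvd_zero p) hTp hTne
    rwa [WW_zero_eq] at this
  have hUneV : U ≠ V := fun h => hVA (h ▸ hUA)
  have hUcard : Nat.card U = p := by
    have h1 : Nat.card U ∣ p ^ 2 := hVcard ▸ Subgroup.card_dvd_of_le hUV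
    obtain ⟨k, hk, hk2⟩ := (Nat.dvd_prime_pow hpr).mp h1
    have hk0 : k ≠ 0 := by
      rintro rfl
      rw [pow_zero] at hk2
      exact hUne ((Subgroup.card_eq_one).mp hk2)
    have hk3 : k ≠ 2 := by
      rintro rfl
      exact hUneV (Subgroup.eq_of_le_of_card_ge hUV (by rw [hk2, hVcard]))
    have : k = 1 := by omega
    rw [hk2, this, pow_one]
  obtain ⟨u, huU, hu1⟩ := (Subgroup.bot_or_exists_ne_one U).resolve_left hUne
  have huV : u ∈ V := hUV huU
  have huord : orderOf u = p := orderOf_eq_prime (hVe u huV) hu1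
  have hUz : U = Subgroup.zpowers u := by
    have hle : Subgroup.zpowers u ≤ U := by
      rw [Subgroup.zpowers_le]; exact huU
    exact (Subgroup.eq_of_le_of_card_ge hle (by rw [Nat.card_zpowers, huord, hUcard])).symm
  obtain ⟨v, hvV, hvU⟩ := SetLike.exists_of_lt (lt_of_le_of_ne hUV hUneV)
  have hv1 : v ≠ 1 := fun h => hvU (h ▸ U.one_mem)
  obtain ⟨g, hg⟩ := htrans v hvV u huV hv1 hu1
  have hvT' : ({v} : Set Y) ⊆ (T' : Subgroup Y) := Set.singleton_subset_iff.mpr (hVT T' hvV)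
  obtain ⟨x, hx, hxa⟩ := (hctrl {v} hvT').2 g (by
    rintro _ ⟨a, ha, rfl⟩
    have ha' : a = v := ha
    show g * a * g⁻¹ ∈ (T' : Subgroup Y)
    rw [ha', hg]
    exact hVT T' huV)
  have hxv : x * v * x⁻¹ = u := by
    rw [← hxa v rfl, hg]
  have hxu : x * u * x⁻¹ ∈ U := (Subgroup.mem_normalizer_iff.mp hx u).mp huU
  rw [hUz, ← mem_powers_iff_mem_zpowers] at hxu
  obtain ⟨k, hk⟩ := hxu
  have hk' : u ^ k = x * u * x⁻¹ := hk
  have hvk : v ^ k = u := by
    have h1 : x * v ^ k * x⁻¹ = x * u * x⁻¹ := by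
      rw [← conj_pow, hxv, hk']
    have h2 : x * v ^ k = x * u := mul_right_cancel h1
    exact mul_left_cancel h2
  have hpk : ¬ p ∣ k := by
    rintro ⟨m, rfl⟩
    apply hu1
    rw [← hvk, pow_mul, hVe v hvV, one_pow]
  have hcop : Nat.Coprime k p := ((Nat.Prime.coprime_iff_not_dvd hpr).mpr hpk).symm
  obtain ⟨m, -, hm⟩ := Nat.exists_mul_mod_eq_one_of_coprime hcop hpr.one_lt
  apply hvU
  have e1 : v = u ^ m := by
    rw [← hvk, ← pow_mul, pow_eq_pow_mod (k * m) (hVe v hvV), hm, pow_one]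
  rw [e1]
  exact U.pow_mem huU m

/-- Translations form an elementary abelian normal subgroup of order `p²`. -/
theorem aff_trans_pow (v : Fin 2 → ZMod p) (n : ℕ) : aff (1 : SL2 p) v ^ n = aff 1 (n • v) := by
  induction n with
  | zero => simp [aff_one_zero]
  | succ n ih => rw [pow_succ, ih, aff_trans_mul, succ_nsmul]

theorem aff_trans_inj {v w : Fin 2 → ZMod p} (h : aff (1 : SL2 p) v = aff 1 w) : v = w := by
  have h0 := congrArg (fun x : ↥(Cfsg.qd p) => ((x : Matrix.SpecialLinearGroup (Fin 3) (ZMod p)) : Matrix (Fin 3) (Fin 3) (ZMod p)) 0 2) h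
  have h1 := congrArg (fun x : ↥(Cfsg.qd p) => ((x : Matrix.SpecialLinearGroup (Fin 3) (ZMod p)) : Matrix (Fin 3) (Fin 3) (ZMod p)) 1 2) h
  simp only [aff_coe] at h0 h1
  ext i
  fin_cases i
  · simpa using h0
  · simpa using h1

theorem card_T : Nat.card (Cfsg.Agent.Lib.QdFacts.T (p := p)) = p ^ 2 := by
  have hb : Function.Bijective (fun v : Fin 2 → ZMod p =>
      (⟨aff 1 v, aff_mem_T v⟩ : Cfsg.Agent.Lib.QdFacts.T (p := p))) := by
    constructor
    · intro v w h
      exact aff_trans_inj (congrArg Subtype.val h)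
    · rintro ⟨t, ht⟩
      obtain ⟨v, rfl⟩ := exists_of_mem_T ht
      exact ⟨v, rfl⟩
  rw [← Nat.card_eq_of_bijective _ hb]
  simp

/-- In a group isomorphic to `Qd(p)`, `Z(J(T))` does not control strong fusion. -/
theorem not_controls_of_equiv (hp2 : p ≠ 2) {X : Type u} [Group X] [Finite X] (e : X ≃* ↥(Cfsg.qd p))
    (T : Sylow p X) : ¬ ControlsStrongFusion p (centerThompsonAOf (T : Subgroup X)) := by
  classical
  have hsurj : Function.Surjective e.toMonoidHom := e.surjective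
  have hinj : Function.Injective e.toMonoidHom := e.injective
  let P : Sylow p ↥(Cfsg.qd p) := T.mapSurjective hsurj
  have hPc : (P : Subgroup ↥(Cfsg.qd p)) = (T : Subgroup X).map e.toMonoidHom := Sylow.coe_mapSurjective _ _
  obtain ⟨hex, hcard, -⟩ := Cfsg.Agent.S3074.result p hp2 P
  have hTcard : Nat.card (T : Subgroup X) = p ^ 3 := by
    rw [← hcard, hPc, Subgroup.card_map_of_injective hinj]
  let V : Subgroup X := (Cfsg.Agent.Lib.QdFacts.T (p := p)).comap e.toMonoidHom
  have hVmem : ∀ x, x ∈ V ↔ e x ∈ Cfsg.Agent.Lib.QdFacts.T (p := p) := fun _ => Iff.rfl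
  haveI hVn : V.Normal := (inferInstance : (Cfsg.Agent.Lib.QdFacts.T (p := p)).Normal).comap e.toMonoidHom
  refine not_controls V ?_ ?_ ?_ ?_ T hTcard ?_
  · intro x hx y hy
    obtain ⟨v, hv⟩ : ∃ v, e x = aff 1 v := exists_of_mem_T hx
    obtain ⟨w, hw⟩ : ∃ w, e y = aff 1 w := exists_of_mem_T hy
    apply e.injective
    rw [map_mul, map_mul]
    change e x * e y = e y * e x
    rw [hv, hw, aff_trans_mul, aff_trans_mul, add_comm]
  · intro x hx
    obtain ⟨v, hv⟩ : ∃ v, e x = aff 1 v := exists_of_mem_T hx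
    apply e.injective
    rw [map_pow, map_one]
    change (e x) ^ p = 1
    rw [hv, aff_trans_pow]
    have : p • v = 0 := by
      ext i
      simp
    rw [this, aff_one_zero]
  · have h1 : V.map e.toMonoidHom = Cfsg.Agent.Lib.QdFacts.T (p := p) :=
      Subgroup.map_comap_eq_self_of_surjective hsurj _
    rw [← card_T (p := p), ← h1, Subgroup.card_map_of_injective hinj]
  · intro v hv w hw hv1 hw1
    obtain ⟨a, ha⟩ : ∃ a, e v = aff 1 a := exists_of_mem_T hv
    obtain ⟨b, hb⟩ : ∃ b, e w = aff 1 b := exists_of_mem_T hw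
    have ha0 : a ≠ 0 := by
      rintro rfl
      apply hv1
      apply e.injective
      rw [map_one]
      change e v = 1
      rw [ha, aff_one_zero]
    have hb0 : b ≠ 0 := by
      rintro rfl
      apply hw1
      apply e.injective
      rw [map_one]
      change e w = 1
      rw [hb, aff_one_zero]
    obtain ⟨A, hA⟩ := exists_sl2_mulVec ha0 hb0
    refine ⟨e.symm (aff A 0), ?_⟩
    apply e.injective
    rw [map_mul, map_mul, map_inv, e.apply_symm_apply]
    change aff A 0 * e v * (aff A 0)⁻¹ = e w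
    rw [ha, hb, aff_conj, hA, mul_inv_cancel_right]
  · have hcent : Nat.card (Subgroup.center (P : Subgroup ↥(Cfsg.qd p))) = p := hex.2
    have hne : Subgroup.center (P : Subgroup ↥(Cfsg.qd p)) ≠ ⊤ := by
      intro h
      rw [h, Subgroup.card_top, hcard] at hcent
      have h2 := hp.out.two_le
      have : p ^ 1 < p ^ 3 := Nat.pow_lt_pow_right hp.out.one_lt (by norm_num)
      rw [pow_one] at this
      omega
    obtain ⟨x, hx⟩ : ∃ x, x ∉ Subgroup.center (P : Subgroup ↥(Cfsg.qd p)) := by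
      by_contra hcon
      push Not at hcon
      exact hne (eq_top_iff.mpr fun x _ => hcon x)
    rw [Subgroup.mem_center_iff] at hx
    push Not at hx
    obtain ⟨y, hy⟩ := hx
    have hxP : (x : ↥(Cfsg.qd p)) ∈ (T : Subgroup X).map e.toMonoidHom := by
      rw [← hPc]; exact x.2
    have hyP : (y : ↥(Cfsg.qd p)) ∈ (T : Subgroup X).map e.toMonoidHom := by
      rw [← hPc]; exact y.2
    obtain ⟨x₀, hx₀, hxe⟩ := hxP
    obtain ⟨y₀, hy₀, hye⟩ := hyP
    refine ⟨y₀, hy₀, x₀, hx₀, ?_⟩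
    intro h
    apply hy
    apply Subtype.ext
    have := congrArg e h
    rw [map_mul, map_mul] at this
    change e y₀ * e x₀ = e x₀ * e y₀ at this
    have h1 : e x₀ = (x : ↥(Cfsg.qd p)) := hxe
    have h2 : e y₀ = (y : ↥(Cfsg.qd p)) := hye
    rw [h1, h2] at this
    exact this

end Cfsg.Agent.Lib.QdFusion
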