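import Mathlib
import Cfsg.Prelude.Def_ConjugacyFunctors
import Cfsg.Agent.Lib.QdFusion

/-!
# The `K`-infinity subgroup of a group of class at most two; failure of control in `Qd(p)`
-/

set_option autoImplicit false

namespace Cfsg.Agent.Lib.QdKInf

open Cfsg Cfsg.Agent.Lib.QdSection Cfsg.Agent.Lib.PCore Cfsg.Agent.Lib.QdFusion
open Cfsg.Agent.Lib.QdNotStable
open scoped commutatorElement

universe u

variable {p : ℕ} [hp : Fact p.Prime]

omit hp in
/-- A group of class at most two is its own lower `K`-infinity subgroup. -/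
theorem kInfLower_eq_top {P : Type u} [Group P] (h : ∀ a b c : P, ⁅⁅a, b⁆, c⁆ = 1) : kInfLower P = ⊤ := by
  have hc : ⁅(⊤ : Subgroup P), (⊤ : Subgroup P)⁆ ≤ (⊤ : Subgroup P) ⊓ Subgroup.centralizer ((⊤ : Subgroup P) : Set P) := by
    rw [Subgroup.commutator_le]
    intro a _ b _
    refine ⟨trivial, ?_⟩
    refine Subgroup.mem_centralizer_iff.mpr ?_
    intro c _
    have := h a b c
    rw [commutatorElement_eq_one_iff_mul_comm] at this
    exact this.symm
  have hmem : (⊤ : Subgroup P) ∈ kLowerStarFamily (kSeqOdd P 0) := by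
    refine ⟨hc.trans inf_le_right, ?_, ?_⟩
    · intro x _
      rw [Subgroup.mem_normalizer_iff]
      simp
    · intro A _ _ _ _ _
      exact (Subgroup.commutator_mono le_rfl le_top).trans hc
  apply top_le_iff.mp
  calc (⊤ : Subgroup P) ≤ sSup (kLowerStarFamily (kSeqOdd P 0)) := le_sSup hmem
    _ = kSeqEven P 0 := rfl
    _ ≤ kInfLower P := le_iSup (fun n => kSeqEven P n) 0

/-- The abstract obstruction to control of strong fusion by a Sylow subgroup. -/
theorem not_controls_sylow_abs {Y : Type u} [Group Y] [Finite Y] (V : Subgroup Y) [hVn : V.Normal]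
    (hVp : IsPGroup p V) (hV1 : V ≠ ⊥)
    (htrans : ∀ v ∈ V, ∀ w ∈ V, v ≠ 1 → w ≠ 1 → ∃ g : Y, g * v * g⁻¹ = w)
    (T : Sylow p Y) (hnc : ∃ v ∈ V, ∃ t ∈ (T : Subgroup Y), t * v ≠ v * t) :
    ¬ ControlsStrongFusion p (T : Subgroup Y) := by
  classical
  rintro ⟨T', hTT', hctrl⟩
  have hT'T : (T' : Subgroup Y) = (T : Subgroup Y) := T.is_maximal' T'.isPGroup' hTT'
  rw [hT'T] at hctrl
  have hVT : V ≤ (T : Subgroup Y) := (le_pCore hVn hVp).trans (pCore_le_sylow p T)
  obtain ⟨v, hvV, t, htT, htv⟩ := hnc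
  have hv1 : v ≠ 1 := by
    rintro rfl
    simp at htv
  -- a central element of `T` in `V`
  haveI : Group.IsNilpotent (T : Subgroup Y) := T.isPGroup'.isNilpotent
  have hN : (V.subgroupOf (T : Subgroup Y)) ≠ ⊥ := by
    intro h
    apply hv1
    have : (⟨v, hVT hvV⟩ : (T : Subgroup Y)) ∈ V.subgroupOf (T : Subgroup Y) := hvV
    rw [h, Subgroup.mem_bot] at this
    exact congrArg Subtype.val this
  obtain ⟨z', hz'V, hz'1, hz'c⟩ := Cfsg.Agent.Lib.ZJCore2.exists_center_of_normal
    (V.subgroupOf (T : Subgroup Y)) hN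
  have hzV : (z' : Y) ∈ V := hz'V
  have hz1 : (z' : Y) ≠ 1 := fun h => hz'1 (Subtype.ext h)
  have hzc : ∀ s ∈ (T : Subgroup Y), s * (z' : Y) = (z' : Y) * s := by
    intro s hs
    have := Subgroup.mem_center_iff.mp hz'c ⟨s, hs⟩
    exact congrArg Subtype.val this
  obtain ⟨g, hg⟩ := htrans v hvV z' hzV hv1 hz1
  obtain ⟨x, hx, hxa⟩ := (hctrl {v} (Set.singleton_subset_iff.mpr (hVT hvV))).2 g (by
    rintro _ ⟨a, ha, rfl⟩
    have ha' : a = v := ha
    show g * a * g⁻¹ ∈ (T : Subgroup Y)
    rw [ha', hg]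
    exact hVT hzV)
  have hxv : x * v * x⁻¹ = z' := by
    rw [← hxa v rfl, hg]
  apply htv
  have hts : x * t * x⁻¹ ∈ (T : Subgroup Y) := (Subgroup.mem_normalizer_iff.mp hx t).mp htT
  have h1 := hzc _ hts
  rw [← hxv] at h1
  have h2 : x * (t * v) * x⁻¹ = x * (v * t) * x⁻¹ := by
    calc x * (t * v) * x⁻¹ = x * t * x⁻¹ * (x * v * x⁻¹) := by group
      _ = x * v * x⁻¹ * (x * t * x⁻¹) := h1
      _ = x * (v * t) * x⁻¹ := by group
  exact mul_left_cancel (mul_right_cancel h2)

/-- In a group isomorphic to `Qd(p)`, a Sylow subgroup does not control strong fusion. -/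
theorem not_controls_sylow {X : Type u} [Group X] [Finite X] (hp2 : p ≠ 2) (e : X ≃* ↥(Cfsg.qd p))
    (T : Sylow p X) : ¬ ControlsStrongFusion p (T : Subgroup X) := by
  classical
  have hsurj : Function.Surjective e.toMonoidHom := e.surjective
  have hinj : Function.Injective e.toMonoidHom := e.injective
  let P : Sylow p ↥(Cfsg.qd p) := T.mapSurjective hsurj
  have hPc : (P : Subgroup ↥(Cfsg.qd p)) = (T : Subgroup X).map e.toMonoidHom := Sylow.coe_mapSurjective _ _
  obtain ⟨hex, hcard, -⟩ := Cfsg.Agent.S3074.result p hp2 P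
  let V : Subgroup X := (Cfsg.Agent.Lib.QdFacts.T (p := p)).comap e.toMonoidHom
  have hVmem : ∀ x, x ∈ V ↔ e x ∈ Cfsg.Agent.Lib.QdFacts.T (p := p) := fun _ => Iff.rfl
  haveI hVn : V.Normal := (inferInstance : (Cfsg.Agent.Lib.QdFacts.T (p := p)).Normal).comap e.toMonoidHom
  have hVcard : Nat.card V = p ^ 2 := by
    have h1 : V.map e.toMonoidHom = Cfsg.Agent.Lib.QdFacts.T (p := p) :=
      Subgroup.map_comap_eq_self_of_surjective hsurj _
    rw [← card_T (p := p), ← h1, Subgroup.card_map_of_injective hinj]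
  have hVp : IsPGroup p V := IsPGroup.of_card hVcard
  have hV1 : V ≠ ⊥ := by
    rintro h
    rw [h, Subgroup.card_bot] at hVcard
    have := hp.out.one_lt
    have h3 : p ^ 0 < p ^ 2 := Nat.pow_lt_pow_right this (by norm_num)
    rw [pow_zero] at h3
    omega
  refine not_controls_sylow_abs V hVp hV1 ?_ T ?_
  · intro v hv w hw hv1 hw1
    obtain ⟨a, ha⟩ : ∃ a, e v = aff 1 a := exists_of_mem_T hv
    obtain ⟨b, hb⟩ : ∃ b, e w = aff 1 b := exists_of_mem_T hw
    have ha0 : a ≠ 0 := by
      rintro rfl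
      apply hv1
      apply e.injective
      rw [map_one]
      change e v = 1
      rw [ha, aff_one_zero]
    have hb0 : b ≠ 0 := by
      rintro rfl
      apply hw1
      apply e.injective
      rw [map_one]
      change e w = 1
      rw [hb, aff_one_zero]
    obtain ⟨A, hA⟩ := exists_sl2_mulVec ha0 hb0
    refine ⟨e.symm (aff A 0), ?_⟩
    apply e.injective
    rw [map_mul, map_mul, map_inv, e.apply_symm_apply]
    change aff A 0 * e v * (aff A 0)⁻¹ = e w
    rw [ha, hb, aff_conj, hA, mul_inv_cancel_right]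
  · -- `V ⊓ T` is not central in `T`: the centre of `T` has order `p`
    have hVT : V ≤ (T : Subgroup X) := (le_pCore hVn hVp).trans (pCore_le_sylow p T)
    by_contra hcon
    push Not at hcon
    have hcent : Nat.card (Subgroup.center (P : Subgroup ↥(Cfsg.qd p))) = p := hex.2
    -- `V` injects into the centre of `P`
    let φ : V → Subgroup.center (P : Subgroup ↥(Cfsg.qd p)) := fun v =>
      ⟨⟨e v, by rw [hPc]; exact ⟨v, hVT v.2, rfl⟩⟩, by
        rw [Subgroup.mem_center_iff]
        rintro ⟨t, ht⟩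
        apply Subtype.ext
        have ht' : t ∈ (T : Subgroup X).map e.toMonoidHom := by rw [← hPc]; exact ht
        obtain ⟨t₀, ht₀, rfl⟩ := ht'
        have := hcon v v.2 t₀ ht₀
        have h2 := congrArg e this
        rw [map_mul, map_mul] at h2
        exact h2⟩
    have hφ : Function.Injective φ := by
      intro a b hab
      have h1 : e (a : X) = e (b : X) := congrArg (fun z : Subgroup.center (P : Subgroup ↥(Cfsg.qd p)) => ((z : P) : ↥(Cfsg.qd p))) hab
      exact Subtype.ext (e.injective h1)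
    have hle := Nat.card_le_card_of_injective φ hφ
    rw [hVcard, hcent] at hle
    have h1 := hp.out.one_lt
    have h3 : p ^ 1 < p ^ 2 := Nat.pow_lt_pow_right h1 (by norm_num)
    rw [pow_one] at h3
    omega

/-- The lower `K`-infinity functor of a Sylow subgroup of `Qd(p)` does not control strong fusion. -/
theorem not_controls_kInf {X : Type u} [Group X] [Finite X] (hp2 : p ≠ 2) (e : X ≃* ↥(Cfsg.qd p))
    (T : Sylow p X) : ¬ ControlsStrongFusion p (inducedFunctor (G := X) kInfLower (T : Subgroup X)) := by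
  classical
  have hsurj : Function.Surjective e.toMonoidHom := e.surjective
  have hinj : Function.Injective e.toMonoidHom := e.injective
  let P : Sylow p ↥(Cfsg.qd p) := T.mapSurjective hsurj
  have hPc : (P : Subgroup ↥(Cfsg.qd p)) = (T : Subgroup X).map e.toMonoidHom := Sylow.coe_mapSurjective _ _
  obtain ⟨hex, hcard, -⟩ := Cfsg.Agent.S3074.result p hp2 P
  have hcl : ∀ a b c : (P : Subgroup ↥(Cfsg.qd p)), ⁅⁅a, b⁆, c⁆ = 1 := by
    intro a b c
    have h1 : ⁅a, b⁆ ∈ commutator (P : Subgroup ↥(Cfsg.qd p)) := Subgroup.commutator_mem_commutator (Subgroup.mem_top a) (Subgroup.mem_top b)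
    have h2 : commutator (P : Subgroup ↥(Cfsg.qd p)) = Subgroup.center (P : Subgroup ↥(Cfsg.qd p)) := hex.1.2.2
    rw [h2] at h1
    rw [commutatorElement_eq_one_iff_mul_comm]
    exact (Subgroup.mem_center_iff.mp h1 c).symm
  have hclT : ∀ a b c : (T : Subgroup X), ⁅⁅a, b⁆, c⁆ = 1 := by
    intro a b c
    let f : ↥(T : Subgroup X) →* ↥(P : Subgroup ↥(Cfsg.qd p)) :=
      (e.toMonoidHom.comp (T : Subgroup X).subtype).codRestrict _ (fun a => by
        rw [hPc]; exact ⟨a, a.2, rfl⟩)
    have hf : Function.Injective f := by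
      intro a b hab
      have h1 : e (a : X) = e (b : X) := congrArg (fun z : ↥(P : Subgroup ↥(Cfsg.qd p)) => (z : ↥(Cfsg.qd p))) hab
      exact Subtype.ext (e.injective h1)
    apply hf
    rw [map_one, map_commutatorElement, map_commutatorElement]
    exact hcl _ _ _
  have hT : inducedFunctor (G := X) kInfLower (T : Subgroup X) = (T : Subgroup X) := by
    unfold inducedFunctor
    rw [kInfLower_eq_top hclT, ← MonoidHom.range_eq_map]
    exact Subgroup.range_subtype _
  rw [hT]
  exact not_controls_sylow hp2 e T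

/-- The characterisation of `Qd(p)`-freeness by control of strong fusion, given the control theorem
for groups all of whose sections are `p`-stable. -/
theorem iff_of_control (hp2 : p ≠ 2)
    (H : ∀ (X : Type u) [Group X] [Finite X],
      (∀ (K R : Subgroup X) [(R.subgroupOf K).Normal], IsNormalizerPStable p (↥K ⧸ R.subgroupOf K)) →
      ∀ S : Sylow p X, ControlsStrongFusion p (inducedFunctor kInfLower (S : Subgroup X)))
    {G : Type u} [Group G] [Finite G] :
    ¬ Involves ↥(Cfsg.qd p) G ↔ ∀ (K R : Subgroup G) [hR : (R.subgroupOf K).Normal],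
      ∀ T : Sylow p (↥K ⧸ R.subgroupOf K), ControlsStrongFusion p
        (inducedFunctor (G := (↥K ⧸ R.subgroupOf K)) kInfLower (T : Subgroup (↥K ⧸ R.subgroupOf K))) := by
  constructor
  · intro hfree K R hR T
    refine H (↥K ⧸ R.subgroupOf K) ?_ T
    intro K' R' hR'
    exact Cfsg.Agent.Lib.QdFree.stable_of_free hp2
      (Cfsg.Agent.Lib.QdFree.free_section (Cfsg.Agent.Lib.QdFree.free_section hfree K R) K' R')
  · rintro hctrl ⟨K, R, hR, ⟨e⟩⟩
    obtain ⟨T⟩ : Nonempty (Sylow p (↥K ⧸ R.subgroupOf K)) := inferInstance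
    haveI := hR
    exact not_controls_kInf hp2 e T (hctrl K R T)

end Cfsg.Agent.Lib.QdKInf
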