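import Mathlib

/-!
# Character sums of quadratic sign functions on a finite group

`χ : S → ℤ` with `χ (s t) = χ s χ t e s t`, `e` bimultiplicative with values `±1`.
-/

set_option autoImplicit false

namespace Cfsg.Agent.Lib.QuadSum

open Finset

section sums

variable {G : Type*} [Group G] [Fintype G]

theorem sum_hom_ne (f : G → ℤ) (hf : ∀ a b, f (a * b) = f a * f b) {g : G} (hg : f g = -1) :
    ∑ x, f x = 0 := by
  have h : ∑ x, f (g * x) = ∑ x, f x := Equiv.sum_comp (Equiv.mulLeft g) f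
  simp only [hf, hg] at h
  rw [← Finset.mul_sum] at h
  linarith

theorem sum_hom_eq [DecidablePred (fun _ : Unit => True)] (f : G → ℤ)
    (hf : ∀ a b, f (a * b) = f a * f b)
    (h1 : ∀ a, f a = 1 ∨ f a = -1) : ∑ x, f x = if ∀ x, f x = 1 then (Fintype.card G : ℤ) else 0 := by
  classical
  split_ifs with h
  · simp [h]
  · push Not at h
    obtain ⟨g, hg⟩ := h
    exact sum_hom_ne f hf ((h1 g).resolve_left hg)

end sums

section quad

variable {S : Type*} [Group S] [Fintype S]
  (χ : S → ℤ) (e : S → S → ℤ)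

/-- Sum of a bimultiplicative sign over the left variable. -/
theorem sum_left (he : ∀ s t, e s t = 1 ∨ e s t = -1)
    (he1 : ∀ s t u, e (s * t) u = e s u * e t u) (u : S) [Decidable (∀ s, e s u = 1)] :
    ∑ s, e s u = if ∀ s, e s u = 1 then (Fintype.card S : ℤ) else 0 := by
  classical
  have := sum_hom_eq (G := S) (fun s => e s u) (fun a b => he1 a b u) (fun a => he a u)
  convert this using 2

variable (hχ : ∀ s, χ s = 1 ∨ χ s = -1)
  (he : ∀ s t, e s t = 1 ∨ e s t = -1)
  (hq : ∀ s t, χ (s * t) = χ s * χ t * e s t)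
  (he1 : ∀ s t u, e (s * t) u = e s u * e t u)
  (he2 : ∀ s t u, e s (t * u) = e s t * e s u)

include hq in
theorem chi_of_rad {u : S} (hσ : ∑ s, χ s ≠ 0) (hu : ∀ s, e s u = 1) : χ u = 1 := by
  have h : ∑ s, χ (s * u) = ∑ s, χ s := Equiv.sum_comp (Equiv.mulRight u) χ
  simp only [hq, hu, mul_one] at h
  have h2 : ∑ s, χ s * χ u = (∑ s, χ s) * χ u := by rw [Finset.sum_mul]
  rw [h2] at h
  have h3 : (∑ s, χ s) * (χ u - 1) = 0 := by linarith
  rcases mul_eq_zero.mp h3 with h4 | h4
  · exact absurd h4 hσ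
  · linarith

include hχ he hq he1 in
/-- `σ² = |S| · #Rad`. -/
theorem sq_sum [DecidablePred fun u : S => ∀ s, e s u = 1] (hσ : ∑ s, χ s ≠ 0) :
    (∑ s, χ s) * (∑ s, χ s) =
      (Fintype.card S : ℤ) * ((univ.filter fun u : S => ∀ s, e s u = 1).card : ℤ) := by
  classical
  have h1 : (∑ s, χ s) * (∑ s, χ s) = ∑ s, ∑ u, χ s * χ (s * u) := by
    rw [Finset.sum_mul]
    refine Finset.sum_congr rfl fun s _ => ?_
    rw [Finset.mul_sum]
    exact (Equiv.sum_comp (Equiv.mulLeft s) (fun x => χ s * χ x)).symm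
  have hsq : ∀ s, χ s * χ s = 1 := fun s => by rcases hχ s with h | h <;> simp [h]
  have h2 : ∀ s u, χ s * χ (s * u) = χ u * e s u := by
    intro s u
    rw [hq]
    calc χ s * (χ s * χ u * e s u) = (χ s * χ s) * (χ u * e s u) := by ring
      _ = _ := by rw [hsq, one_mul]
  rw [h1]
  simp only [h2]
  rw [Finset.sum_comm]
  have h3 : ∀ u, ∑ s, χ u * e s u = if ∀ s, e s u = 1 then (Fintype.card S : ℤ) else 0 := by
    intro u
    rw [← Finset.mul_sum, sum_left e he he1 u]
    split_ifs with h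
    · rw [chi_of_rad χ e hq hσ h, one_mul]
    · simp
  simp only [h3]
  rw [Finset.sum_ite, Finset.sum_const_zero, add_zero, Finset.sum_const, nsmul_eq_mul]
  ring

variable (A : Subgroup S) [Fintype A]
  [DecidablePred fun s : S => ∀ a : A, e s a = 1]

include he he2 in
theorem sum_over_sub (s : S) :
    ∑ a : A, e s a = if ∀ a : A, e s a = 1 then (Fintype.card A : ℤ) else 0 := by
  classical
  have := sum_hom_eq (G := A) (fun a => e s a) (fun a b => by simp [he2]) (fun a => he s a)
  convert this using 2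

include he hq he2 in
/-- If `χ` is trivial on `A` the sum of `χ` over `S` is the sum over `A^⊥`. -/
theorem sum_perp (hA : ∀ a ∈ A, χ a = 1) :
    ∑ s, χ s = ∑ s ∈ univ.filter (fun s : S => ∀ a : A, e s a = 1), χ s := by
  classical
  have hcard : (Fintype.card A : ℤ) ≠ 0 := by
    have : 0 < Fintype.card A := Fintype.card_pos
    exact_mod_cast this.ne'
  apply mul_left_cancel₀ hcard
  have h1 : (Fintype.card A : ℤ) * ∑ s, χ s = ∑ a : A, ∑ s, χ (s * a) := by
    have h : ∀ a : A, ∑ s, χ (s * a) = ∑ s, χ s := fun a =>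
      Equiv.sum_comp (Equiv.mulRight (a : S)) χ
    simp only [h]
    rw [Finset.sum_const]
    simp
  rw [h1, Finset.sum_comm]
  have h2 : ∀ s, ∑ a : A, χ (s * a) =
      χ s * (if ∀ a : A, e s a = 1 then (Fintype.card A : ℤ) else 0) := by
    intro s
    rw [← sum_over_sub e he he2 A s, Finset.mul_sum]
    refine Finset.sum_congr rfl fun a _ => ?_
    rw [hq, hA a a.2, mul_one]
  simp only [h2]
  rw [Finset.mul_sum, Finset.sum_filter]
  refine Finset.sum_congr rfl fun s _ => ?_
  split_ifs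
  · ring
  · ring

include he he1 he2 in
/-- `|A| · #A^⊥ = |S| · #(A ∩ Rad)`. -/
theorem card_mul_perp [DecidablePred fun u : S => ∀ s, e s u = 1] :
    (Fintype.card A : ℤ) * ((univ.filter fun s : S => ∀ a : A, e s a = 1).card : ℤ) =
      (Fintype.card S : ℤ) * ((univ.filter fun a : A => ∀ s, e s (a : S) = 1).card : ℤ) := by
  classical
  have h1 : ∑ s, ∑ a : A, e s a =
      (Fintype.card A : ℤ) * ((univ.filter fun s : S => ∀ a : A, e s a = 1).card : ℤ) := by
    simp only [sum_over_sub e he he2 A]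
    rw [Finset.sum_ite, Finset.sum_const_zero, add_zero, Finset.sum_const, nsmul_eq_mul]
    ring
  have h2 : ∑ a : A, ∑ s, e s a =
      (Fintype.card S : ℤ) * ((univ.filter fun a : A => ∀ s, e s (a : S) = 1).card : ℤ) := by
    have h : ∀ a : A, ∑ s, e s a = if ∀ s, e s a = 1 then (Fintype.card S : ℤ) else 0 :=
      fun a => sum_left e he he1 (a : S)
    simp only [h]
    rw [Finset.sum_ite, Finset.sum_const_zero, add_zero, Finset.sum_const, nsmul_eq_mul]
    ring
  rw [← h1, ← h2, Finset.sum_comm]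

end quad

end Cfsg.Agent.Lib.QuadSum
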