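import Mathlib
import Cfsg.Agent.Lib.QuadSum
import Cfsg.Agent.Lib.ThompsonTransfer
import Cfsg.Agent.Lib.Frat
import Cfsg.Agent.Lib.SuperSolv2

set_option autoImplicit false

namespace Cfsg.Agent.Lib.QuadCentre

open Finset Cfsg.Agent.Lib.QuadSum Cfsg.Agent.Lib.ThompsonTransfer

variable {S : Type*} [Group S]

/-- The group commutator. -/
def cm (t s : S) : S := t * s * t⁻¹ * s⁻¹

theorem comm_mem (h1 : ∀ s : S, s ^ 2 ∈ Subgroup.center S) (t s : S) :
    cm t s ∈ Subgroup.center S := by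
  have e : cm t s = (t * s) ^ 2 * (t ^ 2)⁻¹ * (s ^ 2)⁻¹ := by
    have hc : (t ^ 2)⁻¹ * s = s * (t ^ 2)⁻¹ :=
      (Subgroup.mem_center_iff.mp ((Subgroup.center S).inv_mem (h1 t)) s).symm
    calc cm t s = t * s * t * ((t ^ 2)⁻¹ * s) * (s ^ 2)⁻¹ := by
          rw [cm]; group
      _ = t * s * t * (s * (t ^ 2)⁻¹) * (s ^ 2)⁻¹ := by rw [hc]
      _ = _ := by simp only [pow_two]; group
  rw [e]
  exact (Subgroup.center S).mul_mem ((Subgroup.center S).mul_mem (h1 _)
    ((Subgroup.center S).inv_mem (h1 t))) ((Subgroup.center S).inv_mem (h1 s))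

theorem sq_mul (h1 : ∀ s : S, s ^ 2 ∈ Subgroup.center S) (s t : S) :
    (s * t) ^ 2 = cm t s * s ^ 2 * t ^ 2 := by
  have hc : s * cm t s = cm t s * s := Subgroup.mem_center_iff.mp (comm_mem h1 t s) s
  calc (s * t) ^ 2 = s * cm t s * (s * t * t) := by
        simp only [cm, pow_two]; group
    _ = cm t s * s * (s * t * t) := by rw [hc]
    _ = _ := by simp only [pow_two]; group

theorem comm_mul_left (h1 : ∀ s : S, s ^ 2 ∈ Subgroup.center S) (t u s : S) :
    cm (t * u) s = cm t s * cm u s := by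
  have hc : t * cm u s = cm u s * t := Subgroup.mem_center_iff.mp (comm_mem h1 u s) t
  have hc2 : cm t s * cm u s = cm u s * cm t s :=
    Subgroup.mem_center_iff.mp (comm_mem h1 u s) _
  calc cm (t * u) s = (t * cm u s) * s * t⁻¹ * s⁻¹ := by
        simp only [cm]; group
    _ = (cm u s * t) * s * t⁻¹ * s⁻¹ := by rw [hc]
    _ = cm u s * cm t s := by
        simp only [cm]; group
    _ = _ := hc2.symm

theorem comm_mul_right (h1 : ∀ s : S, s ^ 2 ∈ Subgroup.center S) (u s t : S) :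
    cm u (s * t) = cm u s * cm u t := by
  have hc : (u * s * u⁻¹) * cm u t = cm u t * (u * s * u⁻¹) :=
    Subgroup.mem_center_iff.mp (comm_mem h1 u t) _
  have hc2 : cm u t * cm u s = cm u s * cm u t :=
    Subgroup.mem_center_iff.mp (comm_mem h1 u s) _
  calc cm u (s * t) = ((u * s * u⁻¹) * cm u t) * s⁻¹ := by
        simp only [cm]; group
    _ = (cm u t * (u * s * u⁻¹)) * s⁻¹ := by rw [hc]
    _ = cm u t * cm u s := by
        simp only [cm]; group
    _ = _ := hc2

/-- The sum of `ε(s²)`. -/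
theorem sum_chi [Fintype S] {q : ℕ} (hZ : Nat.card (Subgroup.center S) = q)
    (h1 : ∀ s : S, s ^ 2 ∈ Subgroup.center S) (h2 : ∀ z ∈ Subgroup.center S, z ^ 2 = 1)
    (h3 : ∀ s : S, s ^ 2 = 1 → s ∈ Subgroup.center S)
    (h4 : ∀ c ∈ Subgroup.center S, c ≠ 1 → Nat.card {s : S // s ^ 2 = c} = q * (q + 1))
    (ε : Subgroup.center S →* ℤˣ) {c₁ : Subgroup.center S} (hc₁ : ε c₁ = -1) :
    ∑ s : S, (((ε ⟨s ^ 2, h1 s⟩ : ℤˣ)) : ℤ) = -(q : ℤ) ^ 2 := by
  classical
  haveI : Fintype (Subgroup.center S) := Fintype.ofFinite _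
  have hcard : ∀ c : Subgroup.center S,
      (univ.filter fun s : S => (⟨s ^ 2, h1 s⟩ : Subgroup.center S) = c).card =
        Nat.card {s : S // s ^ 2 = (c : S)} := by
    intro c
    rw [Nat.card_eq_fintype_card, Fintype.card_subtype]
    congr 1
    ext s
    simp [Subtype.ext_iff]
  have hfib : ∀ c : Subgroup.center S,
      ((univ.filter fun s : S => (⟨s ^ 2, h1 s⟩ : Subgroup.center S) = c).card : ℤ) =
        (q : ℤ) * (q + 1) + (if c = 1 then (q : ℤ) - (q : ℤ) * (q + 1) else 0) := by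
    intro c
    rw [hcard]
    split_ifs with hc
    · subst hc
      have : Nat.card {s : S // s ^ 2 = ((1 : Subgroup.center S) : S)} = q := by
        rw [← hZ]
        refine Nat.card_congr ?_
        exact Equiv.subtypeEquivRight fun s => by
          constructor
          · intro h; exact h3 s (by simpa using h)
          · intro h; simpa using h2 s h
      rw [this]
      ring
    · have hc' : (c : S) ≠ 1 := fun h => hc (Subtype.ext h)
      rw [h4 c c.2 hc']
      push_cast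
      ring
  have hs : ∑ x : Subgroup.center S, (((ε x : ℤˣ)) : ℤ) = 0 :=
    sum_hom_ne (G := Subgroup.center S) (fun x => ((ε x : ℤˣ) : ℤ)) (fun a b => by simp) (g := c₁) (by simp [hc₁])
  calc ∑ s : S, (((ε ⟨s ^ 2, h1 s⟩ : ℤˣ)) : ℤ)
      = ∑ c : Subgroup.center S, ∑ s ∈ univ.filter (fun s : S => (⟨s ^ 2, h1 s⟩ : Subgroup.center S) = c),
          (((ε ⟨s ^ 2, h1 s⟩ : ℤˣ)) : ℤ) := (Finset.sum_fiberwise _ _ _).symm
    _ = ∑ c : Subgroup.center S, ((univ.filter fun s : S => (⟨s ^ 2, h1 s⟩ : Subgroup.center S) = c).card : ℤ) * ((ε c : ℤˣ) : ℤ) := by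
        refine Finset.sum_congr rfl fun c _ => ?_
        rw [Finset.sum_congr rfl (g := fun _ => ((ε c : ℤˣ) : ℤ))]
        · simp
        · intro s hs
          rw [(Finset.mem_filter.mp hs).2]
    _ = (q : ℤ) * (q + 1) * ∑ c : Subgroup.center S, ((ε c : ℤˣ) : ℤ) +
          ∑ c : Subgroup.center S, (if c = 1 then (q : ℤ) - (q : ℤ) * (q + 1) else 0) * ((ε c : ℤˣ) : ℤ) := by
        rw [Finset.mul_sum, ← Finset.sum_add_distrib]
        refine Finset.sum_congr rfl fun c _ => ?_
        rw [hfib]; ring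
    _ = _ := by
        rw [hs, mul_zero, zero_add]
        simp only [ite_mul, zero_mul]
        rw [Finset.sum_ite_eq' ]
        simp
        ring

/-- The fixed point count: the subgroup of elements moved by `α` by a central element. -/
def almostFixed (α : S ≃* S) (h1 : ∀ s : S, s ^ 2 ∈ Subgroup.center S) : Subgroup S where
  carrier := {s | α s * s⁻¹ ∈ Subgroup.center S}
  one_mem' := by simp
  mul_mem' := by
    intro a b ha hb
    change α a * a⁻¹ ∈ Subgroup.center S at ha
    change α b * b⁻¹ ∈ Subgroup.center S at hb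
    change α (a * b) * (a * b)⁻¹ ∈ Subgroup.center S
    have e : α (a * b) * (a * b)⁻¹ = (α a * a⁻¹) * (a * (α b * b⁻¹) * a⁻¹) := by
      rw [map_mul]; group
    rw [e]
    have : a * (α b * b⁻¹) * a⁻¹ = α b * b⁻¹ := by
      rw [(Subgroup.mem_center_iff.mp hb a)]; group
    rw [this]
    exact Subgroup.mul_mem _ ha hb
  inv_mem' := by
    intro a ha
    change α a * a⁻¹ ∈ Subgroup.center S at ha
    change α a⁻¹ * a⁻¹⁻¹ ∈ Subgroup.center S
    have e : α a⁻¹ * a⁻¹⁻¹ = a⁻¹ * (α a * a⁻¹)⁻¹ * a := by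
      rw [map_inv]; group
    rw [e]
    have : a⁻¹ * (α a * a⁻¹)⁻¹ * a = (α a * a⁻¹)⁻¹ := by
      rw [(Subgroup.mem_center_iff.mp (Subgroup.inv_mem _ ha) a⁻¹)]; group
    rw [this]
    exact Subgroup.inv_mem _ ha

theorem mem_almostFixed {α : S ≃* S} {h1 : ∀ s : S, s ^ 2 ∈ Subgroup.center S} {s : S} :
    s ∈ almostFixed α h1 ↔ α s * s⁻¹ ∈ Subgroup.center S := Iff.rfl

/-- Lower bound on the almost fixed subgroup of an automorphism whose square is inner. -/
theorem le_card_almostFixed [Finite S] (h1 : ∀ s : S, s ^ 2 ∈ Subgroup.center S)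
    (α : S ≃* S) (g : S) (hα : ∀ s, α (α s) = g * s * g⁻¹) :
    Nat.card S * Nat.card (Subgroup.center S) ≤ Nat.card (almostFixed α h1) ^ 2 := by
  classical
  set Z := Subgroup.center S with hZ
  set A := almostFixed α h1 with hA
  have hZA : Z ≤ A := by
    intro z hz
    rw [hA, mem_almostFixed]
    have h : α z ∈ Z := by
      rw [hZ, Subgroup.mem_center_iff]
      intro y
      have := Subgroup.mem_center_iff.mp hz (α.symm y)
      have h2 := congrArg α this
      simpa using h2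
    exact Z.mul_mem h (Z.inv_mem hz)
  let φ : S →* S ⧸ Z := MonoidHom.mk' (fun s => (QuotientGroup.mk (α s * s⁻¹) : S ⧸ Z)) (by
    intro a b
    rw [← QuotientGroup.mk_mul, QuotientGroup.eq]
    have e : (α (a * b) * (a * b)⁻¹)⁻¹ * (α a * a⁻¹ * (α b * b⁻¹)) = cm a (b * (α b)⁻¹) := by
      rw [map_mul, cm]; group
    rw [e]
    exact comm_mem h1 _ _)
  have hker : φ.ker = A := by
    ext s
    rw [MonoidHom.mem_ker, hA, mem_almostFixed]
    change (QuotientGroup.mk (α s * s⁻¹) : S ⧸ Z) = 1 ↔ _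
    rw [QuotientGroup.eq_one_iff]
  have hrange : φ.range ≤ A.map (QuotientGroup.mk' Z) := by
    rintro _ ⟨s, rfl⟩
    refine ⟨α s * s⁻¹, ?_, rfl⟩
    rw [SetLike.mem_coe, hA, mem_almostFixed]
    have e : α (α s * s⁻¹) * (α s * s⁻¹)⁻¹ = cm g s * (s * (α s)⁻¹) ^ 2 := by
      rw [map_mul, map_inv, hα, cm, pow_two]; group
    rw [e]
    exact Z.mul_mem (comm_mem h1 _ _) (h1 _)
  have h1' : Nat.card φ.range * Nat.card A = Nat.card S := by
    have h := Subgroup.card_mul_index φ.ker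
    rw [Subgroup.index_ker] at h
    rw [← hker, mul_comm]
    exact h
  have h2' : Nat.card (A.map (QuotientGroup.mk' Z)) * Nat.card Z = Nat.card A := by
    have h := Cfsg.Agent.Lib.SuperSolv2.card_comap_mk Z (A.map (QuotientGroup.mk' Z))
    rw [Subgroup.comap_map_eq_self (by rwa [QuotientGroup.ker_mk'])] at h
    exact h.symm
  have h3' : Nat.card φ.range ≤ Nat.card (A.map (QuotientGroup.mk' Z)) :=
    Subgroup.card_le_of_le hrange
  calc Nat.card S * Nat.card Z = Nat.card φ.range * Nat.card A * Nat.card Z := by rw [h1']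
    _ ≤ Nat.card (A.map (QuotientGroup.mk' Z)) * Nat.card A * Nat.card Z := by gcongr
    _ = Nat.card A ^ 2 := by rw [pow_two, ← h2']; ring

/-- An automorphism of a Suzuki-type 2-group with inner square fixes the centre pointwise. -/
theorem fix_center [Finite S] {q : ℕ} (hq0 : 0 < q)
    (hS : Nat.card S = q ^ 3) (hZ : Nat.card (Subgroup.center S) = q)
    (h1 : ∀ s : S, s ^ 2 ∈ Subgroup.center S) (h2 : ∀ z ∈ Subgroup.center S, z ^ 2 = 1)
    (h3 : ∀ s : S, s ^ 2 = 1 → s ∈ Subgroup.center S)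
    (h4 : ∀ c ∈ Subgroup.center S, c ≠ 1 → Nat.card {s : S // s ^ 2 = c} = q * (q + 1))
    (α : S ≃* S) (g : S) (hα : ∀ s, α (α s) = g * s * g⁻¹) :
    ∀ z ∈ Subgroup.center S, α z = z := by
  classical
  haveI := Fintype.ofFinite S
  intro z₀ hz₀
  by_contra hne
  set Z := Subgroup.center S with hZdef
  have hpZ : IsPGroup 2 Z := fun z => ⟨1, Subtype.ext (by simpa using h2 z z.2)⟩
  let Z₀ : Subgroup Z :=
    { carrier := {z | α (z : S) = z}
      mul_mem' := fun {a b} ha hb => by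
        change α (a : S) = a at ha
        change α (b : S) = b at hb
        change α ((a : S) * b) = (a : S) * b
        rw [map_mul, ha, hb]
      one_mem' := by
        change α (1 : S) = 1
        simp
      inv_mem' := fun {a} ha => by
        change α (a : S) = a at ha
        change α ((a : S)⁻¹) = (a : S)⁻¹
        rw [map_inv, ha] }
  have hZ₀ : Z₀ ≠ ⊤ := by
    intro h
    have : (⟨z₀, hz₀⟩ : Z) ∈ Z₀ := by rw [h]; trivial
    exact hne this
  obtain ⟨H, hH, hZ₀H⟩ := (eq_top_or_exists_le_coatom Z₀).resolve_left hZ₀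
  have hidx : H.index = 2 := Cfsg.Agent.Lib.Frat.index_eq_of_isCoatom hpZ hH
  let ε : Z →* ℤˣ := signHom H hidx
  have hε₀ : ∀ (z : S) (hz : z ∈ Z), α z = z → ε ⟨z, hz⟩ = 1 := fun z hz h =>
    signHom_of_mem _ _ (hZ₀H h)
  obtain ⟨c₁, hc₁⟩ : ∃ c₁, c₁ ∉ H := by
    by_contra hc
    push Not at hc
    exact hH.1 (eq_top_iff.mpr fun x _ => hc x)
  have hεc₁ : ε c₁ = -1 := signHom_of_not_mem _ _ hc₁
  let χ : S → ℤ := fun s => ((ε ⟨s ^ 2, h1 s⟩ : ℤˣ) : ℤ)
  let e : S → S → ℤ := fun s t => ((ε ⟨cm t s, comm_mem h1 t s⟩ : ℤˣ) : ℤ)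
  have hχ : ∀ s, χ s = 1 ∨ χ s = -1 := fun s => by
    rcases Int.units_eq_one_or (ε ⟨s ^ 2, h1 s⟩) with h | h <;> simp [χ, h]
  have he : ∀ s t, e s t = 1 ∨ e s t = -1 := fun s t => by
    rcases Int.units_eq_one_or (ε ⟨cm t s, comm_mem h1 t s⟩) with h | h <;> simp [e, h]
  have hq : ∀ s t, χ (s * t) = χ s * χ t * e s t := by
    intro s t
    have hsq : (⟨(s * t) ^ 2, h1 _⟩ : Z) =
        ⟨cm t s, comm_mem h1 t s⟩ * ⟨s ^ 2, h1 s⟩ * ⟨t ^ 2, h1 t⟩ :=
      Subtype.ext (sq_mul h1 s t)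
    simp only [χ, e, hsq, map_mul, Units.val_mul]
    ring
  have he1 : ∀ s t u, e (s * t) u = e s u * e t u := by
    intro s t u
    have h : (⟨cm u (s * t), comm_mem h1 _ _⟩ : Z) =
        ⟨cm u s, comm_mem h1 _ _⟩ * ⟨cm u t, comm_mem h1 _ _⟩ :=
      Subtype.ext (comm_mul_right h1 u s t)
    simp only [e, h, map_mul, Units.val_mul]
  have he2 : ∀ s t u, e s (t * u) = e s t * e s u := by
    intro s t u
    have h : (⟨cm (t * u) s, comm_mem h1 _ _⟩ : Z) =
        ⟨cm t s, comm_mem h1 _ _⟩ * ⟨cm u s, comm_mem h1 _ _⟩ :=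
      Subtype.ext (comm_mul_left h1 t u s)
    simp only [e, h, map_mul, Units.val_mul]
  have hqZ : (q : ℤ) ≠ 0 := by exact_mod_cast hq0.ne'
  have hσ : ∑ s, χ s = -(q : ℤ) ^ 2 := sum_chi hZ h1 h2 h3 h4 ε hεc₁
  have hσ0 : ∑ s, χ s ≠ 0 := by
    rw [hσ]
    exact neg_ne_zero.mpr (pow_ne_zero 2 hqZ)
  have hcardS : (Fintype.card S : ℤ) = (q : ℤ) ^ 3 := by
    rw [← Nat.card_eq_fintype_card, hS]; push_cast; rfl
  have hsq := sq_sum χ e hχ he hq he1 hσ0
  set Rad := univ.filter fun u : S => ∀ s, e s u = 1 with hRad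
  have hRadcard : Rad.card = q := by
    rw [hσ, hcardS] at hsq
    have h : (q : ℤ) ^ 3 * (Rad.card : ℤ) = (q : ℤ) ^ 3 * q := by
      rw [← hsq]; ring
    have h' := mul_left_cancel₀ (pow_ne_zero 3 hqZ) h
    exact_mod_cast h'
  have hZRad : ∀ z ∈ Z, z ∈ Rad := by
    intro z hz
    rw [hRad, Finset.mem_filter]
    refine ⟨Finset.mem_univ _, fun s => ?_⟩
    have h : (⟨cm z s, comm_mem h1 _ _⟩ : Z) = 1 := by
      apply Subtype.ext
      change z * s * z⁻¹ * s⁻¹ = 1
      rw [← Subgroup.mem_center_iff.mp hz s]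
      group
    simp only [e, h, map_one, Units.val_one]
  have hRadZ : ∀ u ∈ Rad, u ∈ Z := by
    have hsub : (univ.filter fun z : S => z ∈ Z) ⊆ Rad := by
      intro z hz
      exact hZRad z (Finset.mem_filter.mp hz).2
    have hc : (univ.filter fun z : S => z ∈ Z).card = Rad.card := by
      rw [hRadcard, ← hZ, Nat.card_eq_fintype_card, Fintype.card_subtype]
    have := Finset.eq_of_subset_of_card_le hsub hc.symm.le
    intro u hu
    rw [← this] at hu
    exact (Finset.mem_filter.mp hu).2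
  set A := almostFixed α h1 with hAdef
  have hZA : Z ≤ A := by
    intro z hz
    rw [hAdef, mem_almostFixed]
    have h : α z ∈ Z := by
      rw [hZdef, Subgroup.mem_center_iff]
      intro y
      have := Subgroup.mem_center_iff.mp hz (α.symm y)
      have h2 := congrArg α this
      simpa using h2
    exact Z.mul_mem h (Z.inv_mem hz)
  have hχA : ∀ a ∈ A, χ a = 1 := by
    intro a ha
    rw [hAdef, mem_almostFixed] at ha
    have hfix : α (a ^ 2) = a ^ 2 := by
      set c := α a * a⁻¹ with hc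
      have hcz : c ∈ Z := ha
      have hαa : α a = c * a := by rw [hc]; group
      rw [map_pow, hαa, pow_two, pow_two]
      have hcomm : a * c = c * a := Subgroup.mem_center_iff.mp hcz a
      calc c * a * (c * a) = c * (a * c) * a := by group
        _ = c * (c * a) * a := by rw [hcomm]
        _ = c ^ 2 * (a * a) := by rw [pow_two]; group
        _ = a * a := by rw [h2 c hcz, one_mul]
    simp only [χ, hε₀ _ (h1 a) hfix, Units.val_one]
  haveI : Fintype A := Fintype.ofFinite _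
  have hle : q ^ 2 ≤ Nat.card A := by
    have h := le_card_almostFixed h1 α g hα
    rw [hS, hZ] at h
    have h5 : (q ^ 2) ^ 2 ≤ Nat.card A ^ 2 := by
      calc (q ^ 2) ^ 2 = q ^ 3 * q := by ring
        _ ≤ _ := h
    exact (Nat.pow_le_pow_iff_left (by norm_num)).mp h5
  have hperp := card_mul_perp e he he1 he2 A
  have hsumperp := sum_perp χ e he hq he2 A hχA
  have hAperp : ∀ a ∈ A, ∀ b : A, e a b = 1 := by
    intro a ha b
    have h := hq a b
    rw [hχA _ (A.mul_mem ha b.2), hχA _ ha, hχA _ b.2] at h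
    linarith
  set Perp := univ.filter (fun s : S => ∀ a : A, e s a = 1) with hPerp
  have hint : (univ.filter fun a : A => ∀ s, e s (a : S) = 1).card = q := by
    rw [← hRadcard]
    apply Finset.card_bij (fun (a : A) _ => (a : S))
    · intro a ha
      rw [hRad, Finset.mem_filter]
      exact ⟨Finset.mem_univ _, (Finset.mem_filter.mp ha).2⟩
    · intro a _ b _ h
      exact Subtype.ext h
    · intro u hu
      refine ⟨⟨u, hZA (hRadZ u hu)⟩, ?_, rfl⟩
      rw [Finset.mem_filter]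
      exact ⟨Finset.mem_univ _, (Finset.mem_filter.mp hu).2⟩
  have hcardA : Fintype.card A = Nat.card A := (Nat.card_eq_fintype_card).symm
  rw [hint, hcardS, hcardA] at hperp
  have hprod : Nat.card A * Perp.card = q ^ 3 * q := by exact_mod_cast hperp
  have hsub : (univ.filter fun z : S => z ∈ A) ⊆ Perp := by
    intro z hz
    rw [hPerp, Finset.mem_filter]
    exact ⟨Finset.mem_univ _, hAperp z (Finset.mem_filter.mp hz).2⟩
  have hcA : (univ.filter fun z : S => z ∈ A).card = Nat.card A := by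
    rw [Nat.card_eq_fintype_card, Fintype.card_subtype]
  have hle2 : Nat.card A ≤ Perp.card := by
    rw [← hcA]; exact Finset.card_le_card hsub
  have hPq : Perp.card ≤ Nat.card A := by
    by_contra hlt
    push Not at hlt
    have h6 : q ^ 2 * q ^ 2 < Nat.card A * Perp.card := by
      calc q ^ 2 * q ^ 2 ≤ Nat.card A * Nat.card A := Nat.mul_le_mul hle hle
        _ < Nat.card A * Perp.card := by
          apply Nat.mul_lt_mul_of_pos_left hlt
          exact lt_of_lt_of_le (by positivity) hle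
    rw [hprod] at h6
    have : q ^ 3 * q = q ^ 2 * q ^ 2 := by ring
    omega
  have heq : (univ.filter fun z : S => z ∈ A) = Perp :=
    Finset.eq_of_subset_of_card_le hsub (by rw [hcA]; exact hPq)
  have hfin : ∑ s ∈ Perp, χ s = (Perp.card : ℤ) := by
    rw [Finset.sum_congr rfl (g := fun _ => (1 : ℤ))]
    · simp
    · intro s hs
      rw [← heq] at hs
      exact hχA s (Finset.mem_filter.mp hs).2
  rw [hσ, hfin] at hsumperp
  have hq2 : (0 : ℤ) < (q : ℤ) ^ 2 := by positivity
  have : (0 : ℤ) ≤ (Perp.card : ℤ) := by positivity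
  linarith

end Cfsg.Agent.Lib.QuadCentre
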