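import Mathlib
import Cfsg.Agent.Lib.QuadPSL
import Cfsg.Agent.Lib.InvQuad
import Cfsg.Agent.Lib.BaerSuzuki

/-!
# No quadratic action: `PSL₂(F)` in odd characteristic, and groups with abelian Sylow `2`-subgroups.
-/

set_option autoImplicit false
set_option linter.style.haveILetI false
set_option linter.unusedSectionVars false

open Cfsg
open scoped commutatorElement

namespace Cfsg.Agent.Lib.QuadPSL2

open Cfsg.Agent.Lib.QuadPSL Cfsg.Agent.Lib.QuadSection Cfsg.Agent.Lib.InvQuad

universe u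

variable {G : Type u} [Group G] [Finite G] {p : ℕ} [hp : Fact p.Prime]

/-- Abelian Sylow `2`-subgroups: a central element of order at most `2` of a group generated by elements of odd order
is trivial. -/
theorem central_trivial {L : Type*} [Group L] [Finite L] (P : Sylow 2 L)
    (hcomm : ∀ x ∈ (P : Subgroup L), ∀ y ∈ (P : Subgroup L), x * y = y * x)
    (S : Set L) (hgen : Subgroup.closure S = ⊤) (hS : ∀ s ∈ S, ∃ n : ℕ, Odd n ∧ s ^ n = 1)
    (z : L) (hz : ∀ w, z * w = w * z) (hz2 : z * z = 1) : z = 1 := by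
  classical
  haveI : IsMulCommutative (P : Subgroup L) := ⟨⟨fun a b => Subtype.ext (hcomm _ a.2 _ b.2)⟩⟩
  haveI : (P : Subgroup L).FiniteIndex := inferInstance
  open scoped IsMulCommutative in
  let τ : L →* (P : Subgroup L) := MonoidHom.transfer (MonoidHom.id (P : Subgroup L))
  have hτ : ∀ s ∈ S, τ s = 1 := by
    intro s hs
    obtain ⟨n, hn, hsn⟩ := hS s hs
    obtain ⟨k, hk⟩ := IsPGroup.iff_orderOf.mp P.isPGroup' (τ s)
    have h1 : (τ s) ^ n = 1 := by rw [← map_pow, hsn, map_one]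
    have h2 : orderOf (τ s) ∣ n := orderOf_dvd_of_pow_eq_one h1
    rw [hk] at h2
    have h3 : k = 0 := by
      by_contra hk0
      have h4 : 2 ∣ n := (dvd_pow_self 2 hk0).trans h2
      exact (Nat.not_even_iff_odd.mpr hn) (even_iff_two_dvd.mpr h4)
    rw [h3, pow_zero] at hk
    exact orderOf_eq_one_iff.mp hk
  have hτ1 : τ = 1 := by
    have h1 : Subgroup.closure S ≤ τ.ker := by
      rw [Subgroup.closure_le]
      intro s hs
      exact hτ s hs
    rw [hgen, top_le_iff] at h1
    exact MonoidHom.ker_eq_top_iff.mp h1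
  open scoped IsMulCommutative in
  have h5 := MonoidHom.transfer_eq_pow (MonoidHom.id (P : Subgroup L)) z (fun k g₀ _ => by
    have hzk : g₀⁻¹ * z ^ k * g₀ = z ^ k := by
      have : Commute (z ^ k) g₀ := (Commute.pow_left (hz g₀) k)
      rw [mul_assoc, this.eq, ← mul_assoc, inv_mul_cancel, one_mul]
    exact hzk)
  have h6 : ((τ z : (P : Subgroup L)) : L) = z ^ (P : Subgroup L).index := by
    exact congrArg Subtype.val h5
  rw [hτ1] at h6
  have hodd : Odd (P : Subgroup L).index := by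
    rw [← Nat.not_even_iff_odd, even_iff_two_dvd]
    exact P.not_dvd_index
  obtain ⟨i, hi⟩ := hodd
  rw [hi, pow_succ, pow_mul, pow_two, hz2, one_pow, one_mul] at h6
  exact h6.symm

section Act

variable (V H : Subgroup G)

/-- The action on an elementary abelian subgroup as endomorphisms. -/
theorem exists_rho (hV : Cfsg.IsElementaryAbelian p V) (hHV : H ≤ Subgroup.normalizer (V : Set G)) :
    ∃ (W : Type u) (_ : AddCommGroup W) (ρ : H →* AddMonoid.End W), (∀ w : W, p • w = 0) ∧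
      (∀ a : H, (∀ v ∈ V, ⁅⁅v, (a : G)⁆, (a : G)⁆ = 1) → (ρ a - 1) * (ρ a - 1) = 0) ∧
      (∀ g : H, (g : G) ∈ Subgroup.centralizer (V : Set G) ↔ ρ g = 1) := by
  classical
  haveI hcV : IsMulCommutative V := hV.1
  letI instE : CommGroup V := { (inferInstance : Group V) with mul_comm := fun a b => mul_comm' a b }
  let π : V →* V := MonoidHom.id V
  have hπ : Function.Surjective π := Function.surjective_id
  let τ : H →* MulAut V := conjHom V H hHV
  obtain ⟨ρ, hρ⟩ := exists_induced π hπ τ (fun g x hx => by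
    have hx' : x = 1 := hx
    rw [hx', map_one]
    rfl)
  refine ⟨Additive ↥V, inferInstance, ρ, ?_, ?_, ?_⟩
  · intro w
    have h1 : (w.toMul : V) ^ p = 1 := by
      apply Subtype.ext
      exact hV.2 _ w.toMul.2
    have h2 : p • w = Additive.ofMul ((w.toMul : V) ^ p) := rfl
    rw [h2, h1]
    rfl
  · intro a ha
    exact quad_of_fix π hπ (ρ a) (τ a) (fun x => hρ a x) (quad_fix V H hHV a ha)
  · intro g
    constructor
    · intro hg
      apply AddMonoidHom.ext
      intro w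
      have h1 := hρ g w.toMul
      have h2 : τ g w.toMul = w.toMul := by
        apply Subtype.ext
        show (g : G) * (w.toMul : V) * (g : G)⁻¹ = (w.toMul : V)
        have h3 := (Subgroup.mem_centralizer_iff.mp hg) (w.toMul : V) (w.toMul : V).2
        rw [← h3]
        group
      have h4 : π (τ g w.toMul) = w.toMul := h2
      rw [h4] at h1
      exact h1
    · intro hg
      rw [Subgroup.mem_centralizer_iff]
      intro v hv
      have h1 := hρ g ⟨v, hv⟩
      rw [hg] at h1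
      have h2 : ((τ g ⟨v, hv⟩ : V) : G) = v := by
        have h3 : Additive.ofMul (π ⟨v, hv⟩) = Additive.ofMul (π (τ g ⟨v, hv⟩)) := h1
        have h4 : (⟨v, hv⟩ : V) = τ g ⟨v, hv⟩ := h3
        rw [← h4]
      have h3 : ((τ g ⟨v, hv⟩ : V) : G) = (g : G) * v * (g : G)⁻¹ := rfl
      rw [h3] at h2
      calc v * (g : G) = ((g : G) * v * (g : G)⁻¹) * (g : G) := by rw [h2]
        _ = (g : G) * v := by group

/-- `2` is cancellable on an elementary abelian `p`-group, `p` odd. -/
theorem two_cancel {W : Type*} [AddCommGroup W] (hp2 : p ≠ 2) (hW : ∀ w : W, p • w = 0) (x : AddMonoid.End W)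
    (hx : x + x = 0) : x = 0 := by
  obtain ⟨m, hm⟩ := hp.out.odd_of_ne_two hp2
  apply AddMonoidHom.ext
  intro w
  have h1 : x w + x w = 0 := DFunLike.congr_fun hx w
  have h2 := hW (x w)
  rw [hm, add_smul, mul_comm, mul_smul, two_smul, h1, smul_zero, zero_add, one_smul] at h2
  exact h2

/-- **No quadratic elements: `PSL₂(F)`.** -/
theorem mem_centralizer_psl2 {F : Type*} [Field F] [CharP F p] (hp2 : p ≠ 2)
    (hV : Cfsg.IsElementaryAbelian p V) (hHV : H ≤ Subgroup.normalizer (V : Set G))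
    [hn : ((Subgroup.centralizer (V : Set G)).subgroupOf H).Normal]
    (e : ↥H ⧸ (Subgroup.centralizer (V : Set G)).subgroupOf H ≃* Matrix.ProjectiveSpecialLinearGroup (Fin 2) F)
    (a : H) (ha : ∀ v ∈ V, ⁅⁅v, (a : G)⁆, (a : G)⁆ = 1) : (a : G) ∈ Subgroup.centralizer (V : Set G) := by
  classical
  by_contra hac
  obtain ⟨W, instW, ρ, hW, hquad, hcen⟩ := exists_rho (p := p) V H hV hHV
  set C := (Subgroup.centralizer (V : Set G)).subgroupOf H with hC
  have hmkC : ∀ g : H, (QuotientGroup.mk g : H ⧸ C) = 1 ↔ (g : G) ∈ Subgroup.centralizer (V : Set G) := by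
    intro g
    rw [QuotientGroup.eq_one_iff, hC, Subgroup.mem_subgroupOf]
  have hVp : IsPGroup p V := by
    intro v
    refine ⟨1, Subtype.ext ?_⟩
    simpa using hV.2 _ v.2
  obtain ⟨k, hk⟩ := exists_pow_mem_centralizer V hVp (hHV a.2) ha
  have hk' : (QuotientGroup.mk (a ^ p ^ k) : H ⧸ C) = 1 := (hmkC _).mpr (by simpa using hk)
  set z := e (QuotientGroup.mk a) with hz
  have hz1 : z ≠ 1 := by
    intro h
    apply hac
    rw [← hmkC]
    exact e.injective (by rw [← hz, h, map_one])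
  have hzk : z ^ p ^ k = 1 := by
    rw [hz, ← map_pow, ← QuotientGroup.mk_pow, hk', map_one]
  obtain ⟨y, h1, h2, h3⟩ := psl2_pair hp2 z hz1 hzk
  -- the lift of the conjugating element
  obtain ⟨g, hg⟩ := QuotientGroup.mk_surjective (e.symm (z * y * z))
  have hgt : e (QuotientGroup.mk g) = z * y * z := by rw [hg, MulEquiv.apply_symm_apply]
  set b : H := g * a * g⁻¹ with hb
  have hby : e (QuotientGroup.mk b) = y := by
    rw [hb, QuotientGroup.mk_mul, QuotientGroup.mk_mul, QuotientGroup.mk_inv, map_mul, map_mul, map_inv, hgt, ← hz]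
    calc z * y * z * z * (z * y * z)⁻¹ = (y * z * y) * z * (z * y * z)⁻¹ := by rw [h1]
      _ = y * (z * y * z) * (z * y * z)⁻¹ := by group
      _ = y := by group
  have hqb : ∀ v ∈ V, ⁅⁅v, (b : G)⁆, (b : G)⁆ = 1 := by
    have := quad_conj (hHV g.2) ha
    intro v hv
    simpa [hb] using this v hv
  -- the induced representation
  have hρC : ∀ x : H, x ∈ C → ρ x = 1 := fun x hx => (hcen x).mp (Subgroup.mem_subgroupOf.mp hx)
  let ρ₀ : H ⧸ C →* AddMonoid.End W := QuotientGroup.lift C ρ hρC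
  let σ : Matrix.ProjectiveSpecialLinearGroup (Fin 2) F →* AddMonoid.End W := ρ₀.comp e.symm.toMonoidHom
  have hσ : ∀ x : H, σ (e (QuotientGroup.mk x)) = ρ x := by
    intro x
    show ρ₀ (e.symm (e (QuotientGroup.mk x))) = ρ x
    rw [MulEquiv.symm_apply_apply]
    rfl
  have hA := hquad a ha
  have hB := hquad b hqb
  rw [← hσ a, ← hz] at hA
  rw [← hσ b, hby] at hB
  have hbr : (1 + (σ z - 1)) * (1 + (σ y - 1)) * (1 + (σ z - 1)) = (1 + (σ y - 1)) * (1 + (σ z - 1)) * (1 + (σ y - 1)) := by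
    simp only [add_sub_cancel]
    rw [← map_mul, ← map_mul, ← map_mul, ← map_mul, h1]
  have hsq : ((1 + (σ z - 1)) * (1 + (σ y - 1)) * (1 + (σ z - 1))) * ((1 + (σ z - 1)) * (1 + (σ y - 1)) * (1 + (σ z - 1))) = 1 := by
    simp only [add_sub_cancel]
    rw [← map_mul, ← map_mul, ← map_mul, h2, map_one]
  have hE := eq_of_braid _ _ hA hB hbr hsq (fun x hx => two_cancel hp2 hW x hx)
  have hzy : σ z = σ y := sub_left_injective hE
  -- conclude
  have hab0 : ρ a = ρ b := by rw [← hσ a, ← hσ b, ← hz, hby, hzy]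
  have hρab : ρ (a⁻¹ * b) = 1 := by
    calc ρ (a⁻¹ * b) = ρ a⁻¹ * ρ b := map_mul _ _ _
      _ = ρ a⁻¹ * ρ a := by rw [hab0]
      _ = ρ (a⁻¹ * a) := (map_mul _ _ _).symm
      _ = 1 := by rw [inv_mul_cancel, map_one]
  have hab := (hcen _).mpr hρab
  have hab' : (QuotientGroup.mk a : H ⧸ C) = QuotientGroup.mk b := QuotientGroup.eq.mpr (Subgroup.mem_subgroupOf.mpr hab)
  apply h3
  rw [← hby, ← hab']

/-- **No quadratic elements: abelian Sylow `2`-subgroups.** -/
theorem mem_centralizer_of_abelian (hp2 : p ≠ 2)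
    (hV : Cfsg.IsElementaryAbelian p V) (hHV : H ≤ Subgroup.normalizer (V : Set G))
    [hn : ((Subgroup.centralizer (V : Set G)).subgroupOf H).Normal]
    (hO : ∀ N : Subgroup (↥H ⧸ (Subgroup.centralizer (V : Set G)).subgroupOf H), N.Normal → IsPGroup p N → N = ⊥)
    (hab : ∀ Q : Subgroup (↥H ⧸ (Subgroup.centralizer (V : Set G)).subgroupOf H), IsPGroup 2 Q →
      ∀ x ∈ Q, ∀ y ∈ Q, x * y = y * x)
    (a : H) (ha : ∀ v ∈ V, ⁅⁅v, (a : G)⁆, (a : G)⁆ = 1) : (a : G) ∈ Subgroup.centralizer (V : Set G) := by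
  classical
  by_contra hac
  set C := (Subgroup.centralizer (V : Set G)).subgroupOf H with hC
  let π : H →* H ⧸ C := QuotientGroup.mk' C
  have hπ : Function.Surjective π := QuotientGroup.mk'_surjective C
  have hmkC : ∀ g : H, π g = 1 ↔ (g : G) ∈ Subgroup.centralizer (V : Set G) := by
    intro g
    show (QuotientGroup.mk g : H ⧸ C) = 1 ↔ _
    rw [QuotientGroup.eq_one_iff, hC, Subgroup.mem_subgroupOf]
  have hVp : IsPGroup p V := by
    intro v
    refine ⟨1, Subtype.ext ?_⟩
    simpa using hV.2 _ v.2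
  obtain ⟨k, hk⟩ := exists_pow_mem_centralizer V hVp (hHV a.2) ha
  have hk' : π a ^ p ^ k = 1 := by
    rw [← map_pow]
    exact (hmkC _).mpr (by simpa using hk)
  let X : Subgroup (H ⧸ C) := Subgroup.zpowers (π a)
  have hXp : IsPGroup p X := by
    rintro ⟨_, n, rfl⟩
    refine ⟨k, Subtype.ext ?_⟩
    show ((π a) ^ n) ^ p ^ k = 1
    rw [← zpow_natCast, ← zpow_mul, mul_comm, zpow_mul, zpow_natCast, hk', one_zpow]
  by_cases hall : ∀ gb : H ⧸ C, IsPGroup p ↥(X ⊔ X.map (MulAut.conj gb).toMonoidHom)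
  · obtain ⟨N, hNn, hNp, hXN⟩ := Cfsg.Agent.Lib.BaerSuzuki.baer_suzuki X hXp hall
    have hN := hO N hNn hNp
    have h1 : π a ∈ N := hXN (Subgroup.mem_zpowers _)
    rw [hN, Subgroup.mem_bot] at h1
    exact hac ((hmkC a).mp h1)
  · push Not at hall
    obtain ⟨gb, hgb⟩ := hall
    obtain ⟨g, rfl⟩ := hπ gb
    set b : H := g * a * g⁻¹ with hb
    have hqb : ∀ v ∈ V, ⁅⁅v, (b : G)⁆, (b : G)⁆ = 1 := by
      have := quad_conj (hHV g.2) ha
      intro v hv
      simpa [hb] using this v hv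
    obtain ⟨kb, hkb⟩ := exists_pow_mem_centralizer V hVp (hHV b.2) hqb
    set Γ' : Subgroup H := Subgroup.closure ({a, b} : Set H) with hΓ'
    have hXle : X ⊔ X.map (MulAut.conj (π g)).toMonoidHom ≤ Γ'.map π := by
      apply sup_le
      · rw [Subgroup.zpowers_le]
        exact ⟨a, Subgroup.subset_closure (by simp), rfl⟩
      · rw [Subgroup.map_le_iff_le_comap, Subgroup.zpowers_le]
        refine ⟨b, Subgroup.subset_closure (by simp), ?_⟩
        simp [MulAut.conj_apply, hb]
    have hnp : ∃ y ∈ X ⊔ X.map (MulAut.conj (π g)).toMonoidHom, ∀ m : ℕ, y ^ p ^ m ≠ 1 := by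
      by_contra hcon
      push Not at hcon
      apply hgb
      intro y
      obtain ⟨m, hm⟩ := hcon y y.2
      exact ⟨m, Subtype.ext hm⟩
    obtain ⟨y, hy, hym⟩ := hnp
    obtain ⟨h, hhΓ, rfl⟩ := hXle hy
    have hcl : Subgroup.closure ({(a : G), (b : G)} : Set G) = Γ'.map H.subtype := by
      rw [hΓ', MonoidHom.map_closure, Set.image_pair]
      rfl
    have hhG : (h : G) ∈ Subgroup.closure ({(a : G), (b : G)} : Set G) := by
      rw [hcl]
      exact ⟨h, hhΓ, rfl⟩
    have hnpG : ∀ m : ℕ, (h : G) ^ p ^ m ∉ Subgroup.centralizer (V : Set G) := by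
      intro m hm
      apply hym m
      rw [← map_pow]
      exact (hmkC _).mpr (by simpa using hm)
    obtain ⟨Z, instZ, φ, y₀, hy1, hy2, hy3, hker, hφa⟩ := exists_hom hp2 V hVp (hHV a.2) (hHV b.2) ha hqb (h : G) hhG hnpG
    have hΓH : Subgroup.closure ({(a : G), (b : G)} : Set G) ≤ H := by
      rw [Subgroup.closure_le]
      rintro x (rfl | hx)
      · exact a.2
      · rw [Set.mem_singleton_iff.mp hx]; exact b.2
    let ψ := φ.rangeRestrict
    have hψ : Function.Surjective ψ := φ.rangeRestrict_surjective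
    haveI : Finite ↥φ.range := Finite.of_surjective ψ hψ
    let T : Sylow 2 ↥(Subgroup.closure ({(a : G), (b : G)} : Set G)) := default
    let P : Sylow 2 ↥φ.range := T.mapSurjective hψ
    let ι : ↥(Subgroup.closure ({(a : G), (b : G)} : Set G)) →* H := Subgroup.inclusion hΓH
    have hcommT : ∀ t₁ ∈ (T : Subgroup ↥(Subgroup.closure ({(a : G), (b : G)} : Set G))), ∀ t₂ ∈ (T : Subgroup ↥(Subgroup.closure ({(a : G), (b : G)} : Set G))), φ t₁ * φ t₂ = φ t₂ * φ t₁ := by
      intro t₁ h₁ t₂ h₂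
      have hQ : IsPGroup 2 ((T : Subgroup ↥(Subgroup.closure ({(a : G), (b : G)} : Set G))).map (π.comp ι)) := T.isPGroup'.map _
      have h3 := hab _ hQ _ ⟨t₁, h₁, rfl⟩ _ ⟨t₂, h₂, rfl⟩
      have h4 : φ (t₁⁻¹ * t₂⁻¹ * t₁ * t₂) = 1 := by
        apply hker
        have h5 : π (ι (t₁⁻¹ * t₂⁻¹ * t₁ * t₂)) = 1 := by
          simp only [map_mul, map_inv]
          have h6 : π (ι t₁) * π (ι t₂) = π (ι t₂) * π (ι t₁) := h3
          rw [mul_assoc ((π (ι t₁))⁻¹ * (π (ι t₂))⁻¹), h6]
          group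
        exact (hmkC _).mp h5
      simp only [map_mul, map_inv] at h4
      have h7 : (φ t₁)⁻¹ * (φ t₂)⁻¹ * φ t₁ * φ t₂ = 1 := h4
      calc φ t₁ * φ t₂ = φ t₂ * φ t₁ * ((φ t₁)⁻¹ * (φ t₂)⁻¹ * φ t₁ * φ t₂) := by group
        _ = φ t₂ * φ t₁ := by rw [h7, mul_one]
    have hcommP : ∀ x ∈ (P : Subgroup ↥φ.range), ∀ y ∈ (P : Subgroup ↥φ.range), x * y = y * x := by
      intro x hx y hy
      have hP : (P : Subgroup ↥φ.range) = (T : Subgroup ↥(Subgroup.closure ({(a : G), (b : G)} : Set G))).map ψ := rfl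
      rw [hP] at hx hy
      obtain ⟨t₁, h₁, rfl⟩ := hx
      obtain ⟨t₂, h₂, rfl⟩ := hy
      apply Subtype.ext
      exact hcommT t₁ h₁ t₂ h₂
    -- generation
    let a' : ↥(Subgroup.closure ({(a : G), (b : G)} : Set G)) := ⟨a, Subgroup.subset_closure (by simp)⟩
    let b' : ↥(Subgroup.closure ({(a : G), (b : G)} : Set G)) := ⟨b, Subgroup.subset_closure (by simp)⟩
    have hgen : Subgroup.closure ({a', b'} : Set ↥(Subgroup.closure ({(a : G), (b : G)} : Set G))) = ⊤ := by
      have h1 := Subgroup.closure_closure_coe_preimage (k := ({(a : G), (b : G)} : Set G))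
      convert h1 using 2
      ext x
      constructor
      · rintro (rfl | hx)
        · simp [a']
        · rw [Set.mem_singleton_iff.mp hx]; simp [b']
      · rintro (hx | hx)
        · left; exact Subtype.ext hx
        · right; exact Subtype.ext hx
    have hgen₁ : Subgroup.closure ({ψ a', ψ b'} : Set ↥φ.range) = ⊤ := by
      have h1 : (Subgroup.closure ({a', b'} : Set ↥(Subgroup.closure ({(a : G), (b : G)} : Set G)))).map ψ = ⊤ := by
        rw [hgen, Subgroup.map_top_of_surjective ψ hψ]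
      rw [MonoidHom.map_closure, Set.image_pair] at h1
      exact h1
    have hoddp : ∀ n : ℕ, Odd (p ^ n) := fun n => Odd.pow (hp.out.odd_of_ne_two hp2)
    have hS : ∀ s ∈ ({ψ a', ψ b'} : Set ↥φ.range), ∃ n : ℕ, Odd n ∧ s ^ n = 1 := by
      rintro s (rfl | hs)
      · refine ⟨p ^ k, hoddp k, Subtype.ext ?_⟩
        show φ a' ^ p ^ k = 1
        rw [← map_pow]
        apply hker
        simpa [a'] using hk
      · rw [Set.mem_singleton_iff.mp hs]
        refine ⟨p ^ kb, hoddp kb, Subtype.ext ?_⟩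
        show φ b' ^ p ^ kb = 1
        rw [← map_pow]
        apply hker
        simpa [b'] using hkb
    have hz := central_trivial P hcommP _ hgen₁ hS (ψ y₀) (fun w => Subtype.ext (hy1 _))
      (Subtype.ext hy2)
    exact hy3 (congrArg Subtype.val hz)

end Act

end Cfsg.Agent.Lib.QuadPSL2
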