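import Mathlib
import Cfsg.Agent.Lib.RangeChar

/-!
# Idempotents and the Tate quotient

A refinement of the bound on the Tate quotient: an idempotent `E` in a conjugation-stable subalgebra `R` of operators
commuting with `x`, with `E R E = k E`.  When the normalizer acts through a cyclic group, then `E` of the Tate quotient
has dimension at most one.
-/

set_option autoImplicit false
set_option linter.unusedSectionVars false
set_option linter.unusedVariables false
set_option linter.style.haveILetI false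

namespace Cfsg.Agent.Lib.RangeGen

open Module Matrix Cfsg Subgroup
open Cfsg.Agent.Lib.RangeMod Cfsg.Agent.Lib.RangeVal Cfsg.Agent.Lib.RangeLat Cfsg.Agent.Lib.RangeAlg
open Cfsg.Agent.Lib.RangeChar

section TateIdem

variable {G : Type*} [Group G] [Fintype G] [DecidableEq G] {p : ℕ} [hp : Fact p.Prime]
variable {k V : Type*} [Field k] [IsAlgClosed k] [AddCommGroup V] [Module k V] [FiniteDimensional k V] [CharP k p]
variable {ρ : G →* Module.End k V} {x : G}

theorem mem_fx_of_comm {r : Module.End k V} (hr : r * ρ x = ρ x * r) {v : V} (hv : v ∈ Fx ρ x) : r v ∈ Fx ρ x := by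
  have hv' : ρ x v = v := by
    have : (ρ x - 1) v = 0 := hv
    simpa [sub_eq_zero] using this
  unfold Fx yy
  rw [LinearMap.mem_ker, LinearMap.sub_apply, Module.End.one_apply, ← Module.End.mul_apply, ← hr, Module.End.mul_apply,
    hv', sub_self]

theorem mem_im_of_comm {r : Module.End k V} (hr : r * ρ x = ρ x * r) {v : V} (hv : v ∈ ImN ρ x p) : r v ∈ ImN ρ x p := by
  obtain ⟨u, rfl⟩ := hv
  refine ⟨r u, ?_⟩
  have hc : r * nrm ρ x p = nrm ρ x p * r := by
    unfold nrm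
    rw [Finset.mul_sum, Finset.sum_mul]
    refine Finset.sum_congr rfl fun i _ => ?_
    exact ((show Commute r (ρ x) from hr).pow_right i).eq
  rw [← Module.End.mul_apply, ← Module.End.mul_apply, hc]

/-- **Lemma A.** -/
theorem tate_idem (hx : orderOf x = p) (hidx : ¬ p ∣ (zpowers x).index)
    (hloc : ∀ φ : Module.End k V, (∀ g, φ * ρ g = ρ g * φ) → IsNilpotent φ ∨ Function.Surjective φ)
    (K : Subgroup G) (R : Subalgebra k (Module.End k V))
    (hRx : ∀ r ∈ R, r * ρ x = ρ x * r) (hRK : ∀ a ∈ K, ρ a ∈ R)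
    (hRc : ∀ n ∈ normalizer (zpowers x : Set G), ∀ r ∈ R, ρ n * r * ρ n⁻¹ ∈ R)
    (hC : ∀ c ∈ centralizer (zpowers x : Set G), ∃ a ∈ K, c * a⁻¹ ∈ zpowers x)
    (E : Module.End k V) (hE : E ∈ R) (hEE : E * E = E) (hEr : ∀ r ∈ R, ∃ c : k, E * r * E = c • E)
    (T : Subgroup G) (hTN : T ≤ normalizer (zpowers x : Set G))
    {h : G} (hh : h ∈ T) (hgen : ∀ t ∈ T, ∃ a : ℕ, t * (h ^ a)⁻¹ ∈ centralizer (zpowers x : Set G))
    {α β : Module.End k V} (hα : α ∈ R) (hβ : β ∈ R) (hβα : β * α = E) (hαβ : α * β = ρ h * E * ρ h⁻¹)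
    (hout : ∀ n ∈ normalizer (zpowers x : Set G), n ∉ T → ∀ r ∈ R, E * r * (ρ n * E * ρ n⁻¹) = 0) :
    finrank k ((Fx ρ x).map E) ≤ finrank k ((ImN ρ x p).map E) + 1 := by
  classical
  set F := Fx ρ x with hFdef
  set I := ImN ρ x p with hIdef
  have hIF : I ≤ F := im_le_fx hx
  set F' := F.map E with hF'
  set I' := I.map E with hI'
  have hRF : ∀ r ∈ R, ∀ v ∈ F, r v ∈ F := fun r hr v hv => mem_fx_of_comm (hRx r hr) hv
  have hRI : ∀ r ∈ R, ∀ v ∈ I, r v ∈ I := fun r hr v hv => mem_im_of_comm (hRx r hr) hv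
  have hI'F' : I' ≤ F' := Submodule.map_mono hIF
  have hEfix : ∀ v ∈ F', E v = v := by
    rintro _ ⟨u, -, rfl⟩
    rw [← Module.End.mul_apply, hEE]
  have hF'F : F' ≤ F := by
    rintro _ ⟨u, hu, rfl⟩
    exact hRF E hE u hu
  have hI'I : I' ≤ I := by
    rintro _ ⟨u, hu, rfl⟩
    exact hRI E hE u hu
  by_cases hle : F' ≤ I'
  · have : F' = I' := le_antisymm hle hI'F'
    rw [this]; omega
  -- the operator
  have hhN : h ∈ normalizer (zpowers x : Set G) := hTN hh
  have hinv : ρ h⁻¹ * ρ h = 1 := by rw [← map_mul, inv_mul_cancel, map_one]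
  have hinv' : ρ h * ρ h⁻¹ = 1 := by rw [← map_mul, mul_inv_cancel, map_one]
  set D : Module.End k V := E * β * ρ h with hD
  have hDF : ∀ v ∈ F', D v ∈ F' := by
    intro v hv
    refine ⟨β (ρ h v), hRF β hβ _ (rho_fx_mem hhN (hF'F hv)), ?_⟩
    rw [hD]; rfl
  have hDI : ∀ v ∈ I', D v ∈ I' := by
    intro v hv
    refine ⟨β (ρ h v), hRI β hβ _ (rho_im_mem hx hhN (hI'I hv)), ?_⟩
    rw [hD]; rfl
  obtain ⟨v₁, hv₁, hv₁'⟩ := SetLike.not_le_iff_exists.1 hle
  have hnt : Nontrivial (QQ F' I') := by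
    refine ⟨⟨Submodule.Quotient.mk ⟨v₁, hv₁⟩, 0, fun h0 => hv₁' ?_⟩⟩
    exact (Submodule.Quotient.mk_eq_zero (I'.comap F'.subtype)).1 h0
  obtain ⟨c, hc⟩ := Module.End.exists_eigenvalue (indQ F' I' D hDF hDI)
  obtain ⟨q₀, hq₀⟩ := hc.exists_hasEigenvector
  obtain ⟨⟨v₀, hv₀⟩, rfl⟩ := Submodule.Quotient.mk_surjective _ q₀
  have hne : v₀ ∉ I' := by
    intro h1
    apply hq₀.2
    exact (Submodule.Quotient.mk_eq_zero (I'.comap F'.subtype)).2 h1
  have hne' : v₀ ∉ I := by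
    intro h1
    apply hne
    exact ⟨v₀, h1, hEfix v₀ hv₀⟩
  have hstep : D v₀ - c • v₀ ∈ I' := by
    have h1 := hq₀.apply_eq_smul
    have h2 : (Submodule.Quotient.mk (⟨D v₀, hDF v₀ hv₀⟩ : F') : QQ F' I') =
        Submodule.Quotient.mk (c • (⟨v₀, hv₀⟩ : F')) := h1
    exact mk_eq_mk_iff.1 h2
  have hEv₀ : E v₀ = v₀ := hEfix v₀ hv₀
  have hv₀F : v₀ ∈ F := hF'F hv₀
  -- `R v₀`
  let Rv : Submodule k V := (Subalgebra.toSubmodule R).map (LinearMap.applyₗ v₀)
  have hRv : ∀ w, w ∈ Rv ↔ ∃ r ∈ R, r v₀ = w := by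
    intro w
    constructor
    · rintro ⟨r, hr, rfl⟩
      exact ⟨r, hr, rfl⟩
    · rintro ⟨r, hr, rfl⟩
      exact ⟨r, hr, rfl⟩
  set W₁ := I ⊔ Rv with hW₁
  have hW₁' : ∀ w, w ∈ W₁ ↔ ∃ i ∈ I, ∃ r ∈ R, w = i + r v₀ := by
    intro w
    rw [hW₁, Submodule.mem_sup]
    constructor
    · rintro ⟨i, hi, s, hs, rfl⟩
      obtain ⟨r, hr, rfl⟩ := (hRv s).1 hs
      exact ⟨i, hi, r, hr, rfl⟩
    · rintro ⟨i, hi, r, hr, rfl⟩
      exact ⟨i, hi, r v₀, (hRv _).2 ⟨r, hr, rfl⟩, rfl⟩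
  have hW₁F : W₁ ≤ F := by
    intro w hw
    obtain ⟨i, hi, r, hr, rfl⟩ := (hW₁' w).1 hw
    exact F.add_mem (hIF hi) (hRF r hr _ hv₀F)
  have hIW₁ : I ≤ W₁ := le_sup_left
  -- stability under `h`
  have hhW : ∀ w ∈ W₁, ρ h w ∈ W₁ := by
    intro w hw
    obtain ⟨i, hi, r, hr, rfl⟩ := (hW₁' w).1 hw
    rw [map_add]
    refine W₁.add_mem (hIW₁ (rho_im_mem hx hhN hi)) ?_
    have h1 : ρ h v₀ = α (D v₀) := by
      have h2 : α * (E * β * ρ h) = (α * β) * (α * β) * ρ h := by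
        rw [← hβα]
        noncomm_ring
      have h3 : (α * β) * (α * β) = ρ h * E * ρ h⁻¹ := by
        rw [hαβ]
        calc ρ h * E * ρ h⁻¹ * (ρ h * E * ρ h⁻¹) = ρ h * E * (ρ h⁻¹ * ρ h) * E * ρ h⁻¹ := by noncomm_ring
          _ = ρ h * (E * E) * ρ h⁻¹ := by rw [hinv]; noncomm_ring
          _ = _ := by rw [hEE]
      rw [hD, ← Module.End.mul_apply, h2, h3]
      have h4 : (ρ h * E * ρ h⁻¹ * ρ h) v₀ = ρ h (E v₀) := by
        rw [mul_assoc, hinv, mul_one]
        rfl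
      rw [h4, hEv₀]
    set r' := ρ h * r * ρ h⁻¹ with hr'
    have hr'R : r' ∈ R := hRc h hhN r hr
    have h5 : ρ h (r v₀) = r' (ρ h v₀) := by
      rw [hr', ← Module.End.mul_apply, ← Module.End.mul_apply]
      congr 1
      calc ρ h * r = ρ h * r * (ρ h⁻¹ * ρ h) := by rw [hinv, mul_one]
        _ = _ := by noncomm_ring
    rw [h5, h1]
    have h6 : D v₀ = c • v₀ + (D v₀ - c • v₀) := by abel
    rw [h6, map_add, map_add, map_smul, map_smul]
    refine W₁.add_mem (W₁.smul_mem _ ((hW₁' _).2 ⟨0, I.zero_mem, r' * α, R.mul_mem hr'R hα, by simp⟩)) ?_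
    exact hIW₁ (hRI r' hr'R _ (hRI α hα _ (hI'I hstep)))
  have hhpow : ∀ (a : ℕ), ∀ w ∈ W₁, (ρ h ^ a) w ∈ W₁ := by
    intro a
    induction a with
    | zero => simp
    | succ a ih =>
      intro w hw
      rw [pow_succ', Module.End.mul_apply]
      exact hhW _ (ih w hw)
  -- stability under `C`
  have hcW : ∀ c ∈ centralizer (zpowers x : Set G), ∀ w ∈ W₁, ρ c w ∈ W₁ := by
    intro c' hc' w hw
    obtain ⟨a, ha, hy⟩ := hC c' hc'
    have hfin : IsOfFinOrder x := isOfFinOrder_of_finite x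
    have h1 : ρ a w ∈ W₁ := by
      obtain ⟨i, hi, r, hr, rfl⟩ := (hW₁' w).1 hw
      rw [map_add]
      refine W₁.add_mem (hIW₁ (hRI _ (hRK a ha) _ hi)) ?_
      exact (hW₁' _).2 ⟨0, I.zero_mem, ρ a * r, R.mul_mem (hRK a ha) hr, by simp⟩
    have h2 : ρ c' w = ρ (c' * a⁻¹) (ρ a w) := by
      rw [← Module.End.mul_apply, ← map_mul, inv_mul_cancel_right]
    rw [h2, rho_zpow_fix (hW₁F h1) hfin hy]
    exact h1
  have hTW : ∀ t ∈ T, ∀ w ∈ W₁, ρ t w ∈ W₁ := by
    intro t ht w hw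
    obtain ⟨a, ha⟩ := hgen t ht
    have h1 : ρ t w = ρ (t * (h ^ a)⁻¹) ((ρ h ^ a) w) := by
      rw [← map_pow, ← Module.End.mul_apply, ← map_mul, inv_mul_cancel_right]
    rw [h1]
    exact hcW _ ha _ (hhpow a w hw)
  -- the span of translates
  let W₂ : Submodule k V := ⨆ n : normalizer (zpowers x : Set G), W₁.map (ρ n)
  have hW₂F : W₂ ≤ F := by
    refine iSup_le fun n => ?_
    rintro _ ⟨w, hw, rfl⟩
    exact rho_fx_mem n.2 (hW₁F hw)
  have hW₁W₂ : W₁ ≤ W₂ := by
    intro w hw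
    refine Submodule.mem_iSup_of_mem (1 : normalizer (zpowers x : Set G)) ⟨w, hw, ?_⟩
    simp
  have hW₂n : ∀ n ∈ normalizer (zpowers x : Set G), ∀ v ∈ W₂, ρ n v ∈ W₂ := by
    intro n hn v hv
    have h1 : W₂ ≤ W₂.comap (ρ n) := by
      refine iSup_le fun m => ?_
      rintro _ ⟨w, hw, rfl⟩
      refine Submodule.mem_iSup_of_mem (⟨n, hn⟩ * m) ⟨w, hw, ?_⟩
      simp [map_mul, Module.End.mul_apply]
    exact h1 hv
  have hv₀W₂ : v₀ ∈ W₂ := hW₁W₂ ((hW₁' _).2 ⟨0, I.zero_mem, 1, R.one_mem, by simp⟩)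
  have hW₂eq : W₂ = F := by
    rcases tate_simple hx hidx hloc W₂ (hIW₁.trans hW₁W₂) hW₂F hW₂n with h4 | h4
    · exfalso
      apply hne'
      rw [hIdef, ← h4]
      exact hv₀W₂
    · exact h4
  -- the image
  set Bd := I' ⊔ Submodule.span k {v₀} with hBd
  have hkey : W₂.map E ≤ Bd := by
    rw [Submodule.map_iSup]
    refine iSup_le fun n => ?_
    rintro _ ⟨_, ⟨w, hw, rfl⟩, rfl⟩
    obtain ⟨i, hi, r, hr, rfl⟩ := (hW₁' w).1 hw
    have hn := n.2
    rw [map_add, map_add]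
    refine Bd.add_mem (Submodule.mem_sup_left ⟨_, rho_im_mem hx hn hi, rfl⟩) ?_
    by_cases hnT : (n : G) ∈ T
    · have h1 := hTW _ hnT (r v₀) ((hW₁' _).2 ⟨0, I.zero_mem, r, hr, by simp⟩)
      obtain ⟨i', hi', r', hr', h2⟩ := (hW₁' _).1 h1
      show E (ρ n (r v₀)) ∈ Bd
      rw [h2, map_add]
      refine Bd.add_mem (Submodule.mem_sup_left ⟨i', hi', rfl⟩) ?_
      obtain ⟨c', hc'⟩ := hEr r' hr'
      have h3 : E (r' v₀) = c' • v₀ := by
        rw [← hEv₀]
        have := congrArg (fun f : Module.End k V => f v₀) hc'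
        simp only [Module.End.mul_apply, LinearMap.smul_apply, hEv₀] at this
        simpa [hEv₀] using this
      rw [h3]
      exact Submodule.mem_sup_right (Submodule.smul_mem _ _ (Submodule.mem_span_singleton_self _))
    · have hr'' := hRc n hn r hr
      have h0 := hout n hn hnT _ hr''
      have hninv : ρ (n : G)⁻¹ * ρ (n : G) = 1 := by rw [← map_mul, inv_mul_cancel, map_one]
      have h1 : E (ρ n (r v₀)) = (E * (ρ n * r * ρ (n : G)⁻¹) * (ρ n * E * ρ (n : G)⁻¹)) (ρ n v₀) := by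
        have h2 : (E * (ρ n * r * ρ (n : G)⁻¹) * (ρ n * E * ρ (n : G)⁻¹)) * ρ n = E * ρ n * r * (ρ (n : G)⁻¹ * ρ n) * E * (ρ (n : G)⁻¹ * ρ n) := by
          noncomm_ring
        have h3 : (E * (ρ n * r * ρ (n : G)⁻¹) * (ρ n * E * ρ (n : G)⁻¹)) (ρ n v₀) =
            ((E * (ρ n * r * ρ (n : G)⁻¹) * (ρ n * E * ρ (n : G)⁻¹)) * ρ n) v₀ := rfl
        rw [h3, h2, hninv]
        simp only [mul_one, Module.End.mul_apply, hEv₀]
      show E (ρ n (r v₀)) ∈ Bd
      rw [h1, h0]
      exact Bd.zero_mem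
  have hF'le : F' ≤ Bd := by
    rw [hF', ← hW₂eq]
    exact hkey
  refine (Submodule.finrank_mono hF'le).trans ?_
  refine (Submodule.finrank_add_le_finrank_add_finrank _ _).trans ?_
  have h1 : finrank k (Submodule.span k {v₀}) = 1 :=
    finrank_span_singleton (K := k) (v := v₀) (fun h0 => hne' (h0 ▸ I.zero_mem))
  omega

end TateIdem

section Lat

variable {G : Type*} [Group G] {K : Type*} [Field K] {A : ValuationSubring K} {I : Type*} [Fintype I] [DecidableEq I]

/-- The part of an eigenspace cut out by `E`. -/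
noncomputable def eigE (T : G →* Matrix I I A) (x : G) (z : K) (E : Matrix I I A) : Submodule K (I → K) :=
  (eig T x z).map (ltM E)

theorem lft_injective : Function.Injective (lft : (I → A) → I → K) := by
  intro a b h
  ext i
  exact congrFun h i

theorem ltM_idem {E : Matrix I I A} (hE : E * E = E) (v : I → K) : ltM E (ltM E v) = ltM E v := by
  rw [← Module.End.mul_apply, ← map_mul, hE]

theorem ltM_comm {E : Matrix I I A} {T : G →* Matrix I I A} {x : G} (hEx : E * T x = T x * E) :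
    ltRep T x * ltM E = ltM E * ltRep T x := by
  show ltM (T x) * ltM E = ltM E * ltM (T x)
  rw [← map_mul, ← map_mul, hEx]

theorem mem_eig_of_eigE {E : Matrix I I A} {T : G →* Matrix I I A} {x : G} {z : K} (hEx : E * T x = T x * E)
    {v : I → K} (hv : v ∈ eigE T x z E) : v ∈ eig T x z := by
  obtain ⟨u, hu, rfl⟩ := hv
  have hu' : u ∈ eig T x z := hu
  rw [mem_eig] at hu' ⊢
  rw [← Module.End.mul_apply, ltM_comm hEx, Module.End.mul_apply, hu', map_smul]

section Between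

variable [IsAlgClosed K] {p : ℕ} [hp : Fact p.Prime] [CharP (IsLocalRing.ResidueField A) p]
variable (T : G →* Matrix I I A) {x : G} (hx : x ^ p = 1) {z : A} (hz : z ^ p = 1)
variable {E : Matrix I I A} (hE : E * E = E) (hEx : E * T x = T x * E)

include hz hE hEx in
theorem redSub_eigE_le : redSub A (eigE T x (z : K) E) ≤ (Fx (redRep T) x).map (rdM E) := by
  rintro w ⟨v, hv, rfl⟩
  have h1 : lft v ∈ eig T x (z : K) := mem_eig_of_eigE hEx hv
  have h2 : rdc v ∈ Fx (redRep T) x := redSub_le_fx T hz ⟨v, h1, rfl⟩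
  refine ⟨rdc v, h2, ?_⟩
  obtain ⟨u, -, hu⟩ := hv
  have h3 : ltM E (lft v) = lft v := by
    rw [← hu, ltM_idem hE]
  rw [ltM_apply] at h3
  have h4 : E *ᵥ v = v := lft_injective h3
  rw [rdM_apply, h4]

include hx hz in
theorem im_le_redSub_eigE : (ImN (redRep T) x p).map (rdM E) ≤ redSub A (eigE T x (z : K) E) := by
  rintro _ ⟨w, hw, rfl⟩
  obtain ⟨v', hv', rfl⟩ := im_le_redSub T hx hz hw
  refine ⟨E *ᵥ v', ⟨lft v', hv', ltM_apply _ _⟩, (rdM_apply _ _).symm⟩

theorem finrank_eigE_between (hx : x ^ p = 1) (hz : z ^ p = 1) (hE : E * E = E) (hEx : E * T x = T x * E) :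
    finrank (IsLocalRing.ResidueField A) ((ImN (redRep T) x p).map (rdM E)) ≤ finrank K (eigE T x (z : K) E) ∧
      finrank K (eigE T x (z : K) E) ≤ finrank (IsLocalRing.ResidueField A) ((Fx (redRep T) x).map (rdM E)) := by
  rw [← finrank_redSub (A := A)]
  exact ⟨Submodule.finrank_mono (im_le_redSub_eigE T hx hz), Submodule.finrank_mono (redSub_eigE_le T hz hE hEx)⟩

end Between

section Mult

variable [CharZero K] {p : ℕ} [hp : Fact p.Prime]

theorem trace_ltM (M : Matrix I I A) : LinearMap.trace K (I → K) (ltM M) = ((M.trace : A) : K) := by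
  show LinearMap.trace K (I → K) (Matrix.toLin' ((A.subtype).mapMatrix M)) = _
  rw [Matrix.trace_toLin'_eq]
  simp [Matrix.trace]

/-- The dimension of the cut eigenspace. -/
theorem finrank_eigE_eq (T : G →* Matrix I I A) {x : G} (hx : x ^ p = 1) {z : K} (hz : z ^ p = 1)
    {E : Matrix I I A} (hE : E * E = E) (hEx : E * T x = T x * E) :
    ((finrank K (eigE T x z E) : ℕ) : K) =
      (p : K)⁻¹ * ∑ i ∈ Finset.range p, (z⁻¹) ^ i * (((T (x ^ i) * E).trace : A) : K) := by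
  have hp0 : (p : K) ≠ 0 := Nat.cast_ne_zero.2 hp.out.ne_zero
  have hz0 : z ≠ 0 := by
    intro h
    rw [h, zero_pow hp.out.ne_zero] at hz
    exact zero_ne_one hz
  set R := ltRep T x with hR
  have hRp : R ^ p = 1 := by rw [hR, ← map_pow, hx, map_one]
  let P : Module.End K (I → K) := (p : K)⁻¹ • ∑ i ∈ Finset.range p, (z⁻¹) ^ i • R ^ i
  have hzip : (z⁻¹) ^ p = 1 := by rw [inv_pow, hz, inv_one]
  have hRP : R * P = z • P := by
    have key : R * ∑ i ∈ Finset.range p, (z⁻¹) ^ i • R ^ i = z • ∑ i ∈ Finset.range p, (z⁻¹) ^ i • R ^ i := by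
      have h5 := Finset.sum_range_succ (fun i => (z * (z⁻¹) ^ i) • R ^ i) p
      have h6 := Finset.sum_range_succ' (fun i => (z * (z⁻¹) ^ i) • R ^ i) p
      rw [h5] at h6
      have h7 : (z * (z⁻¹) ^ p) • R ^ p = (z * (z⁻¹) ^ 0) • R ^ 0 := by
        rw [hRp, hzip]
        simp
      rw [h7] at h6
      have h8 := add_right_cancel h6
      have h9 : ∑ i ∈ Finset.range p, R * (z⁻¹) ^ i • R ^ i = ∑ i ∈ Finset.range p, (z * (z⁻¹) ^ (i + 1)) • R ^ (i + 1) := by
        refine Finset.sum_congr rfl fun i _ => ?_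
        rw [mul_smul_comm, ← pow_succ']
        congr 1
        rw [pow_succ, mul_comm z, mul_assoc, inv_mul_cancel₀ hz0, mul_one]
      rw [Finset.mul_sum, h9, ← h8, Finset.smul_sum]
      refine Finset.sum_congr rfl fun i _ => ?_
      rw [smul_smul]
    simp only [P]
    rw [mul_smul_comm, key, smul_comm]
  have hfix : ∀ v, v ∈ eig T x z → P v = v := by
    intro v hv
    rw [mem_eig] at hv
    have h1 : ∀ i : ℕ, (R ^ i) v = z ^ i • v := by
      intro i
      induction i with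
      | zero => simp
      | succ i ih =>
        rw [pow_succ, Module.End.mul_apply, hv, map_smul, ih, smul_smul, pow_succ, mul_comm z]
    simp only [P]
    rw [LinearMap.smul_apply, LinearMap.sum_apply]
    have h2 : ∀ i ∈ Finset.range p, (((z⁻¹) ^ i • R ^ i : Module.End K (I → K))) v = v := by
      intro i _
      rw [LinearMap.smul_apply, h1, smul_smul, ← mul_pow, inv_mul_cancel₀ hz0, one_pow, one_smul]
    rw [Finset.sum_congr rfl h2, Finset.sum_const, Finset.card_range, ← Nat.cast_smul_eq_nsmul K, smul_smul,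
      inv_mul_cancel₀ hp0, one_smul]
  have hcomm : P * ltM E = ltM E * P := by
    have h1 : ∀ i : ℕ, R ^ i * ltM E = ltM E * R ^ i := by
      intro i
      exact (Commute.pow_left (show Commute R (ltM E) from ltM_comm hEx) i).eq
    simp only [P]
    rw [smul_mul_assoc, mul_smul_comm, Finset.sum_mul, Finset.mul_sum]
    congr 1
    refine Finset.sum_congr rfl fun i _ => ?_
    rw [smul_mul_assoc, mul_smul_comm, h1]
  have hproj : LinearMap.IsProj (eigE T x z E) (P * ltM E) := by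
    refine LinearMap.IsProj.mk ?_ ?_
    · intro v
      rw [hcomm]
      refine ⟨P v, ?_, rfl⟩
      show P v ∈ eig T x z
      rw [mem_eig]
      rw [← Module.End.mul_apply, ← hR, hRP]
      rfl
    · intro v hv
      have hve := mem_eig_of_eigE hEx hv
      obtain ⟨u, hu, rfl⟩ := hv
      rw [Module.End.mul_apply, ltM_idem hE, hfix _ hve]
  have htr := hproj.trace
  rw [← htr]
  simp only [P]
  rw [smul_mul_assoc, map_smul, Finset.sum_mul, map_sum, smul_eq_mul]
  congr 1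
  refine Finset.sum_congr rfl fun i _ => ?_
  rw [smul_mul_assoc, map_smul, smul_eq_mul, hR, ← map_pow]
  congr 1
  show LinearMap.trace K (I → K) (ltM (T (x ^ i)) * ltM E) = _
  rw [← map_mul, trace_ltM]

end Mult

section Bound

variable [IsAlgClosed K] [CharZero K] {p : ℕ} [hp : Fact p.Prime] [CharP (IsLocalRing.ResidueField A) p]

/-- The lifted comparison. -/
theorem finrank_eigE_le (T : G →* Matrix I I A) {x : G} (hx : x ^ p = 1) {z z' : K} (hz : z ^ p = 1) (hz' : z' ^ p = 1)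
    {E : Matrix I I A} (hE : E * E = E) (hEx : E * T x = T x * E) :
    finrank K (eigE T x z E) + finrank (IsLocalRing.ResidueField A) ((ImN (redRep T) x p).map (rdM E)) ≤
      finrank K (eigE T x z' E) + finrank (IsLocalRing.ResidueField A) ((Fx (redRep T) x).map (rdM E)) := by
  have hA : ∀ w : K, w ^ p = 1 → w ∈ A := by
    intro w hw
    apply mem_of_isIntegral
    refine ⟨Polynomial.X ^ p - 1, Polynomial.monic_X_pow_sub_C 1 hp.out.ne_zero, ?_⟩
    simp [hw]
  let y : A := ⟨z, hA z hz⟩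
  let y' : A := ⟨z', hA z' hz'⟩
  have h1 := finrank_eigE_between (A := A) T (z := y) hx (Subtype.ext (by simpa [y] using hz)) hE hEx
  have h2 := finrank_eigE_between (A := A) T (z := y') hx (Subtype.ext (by simpa [y'] using hz')) hE hEx
  have h3 := h1.2
  have h4 := h2.1
  simp only [y, y'] at h3 h4
  omega

end Bound

end Lat

end Cfsg.Agent.Lib.RangeGen
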