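import Mathlib
import Cfsg.Agent.Lib.RangeChar
import Cfsg.Agent.Lib.DefectOne

/-!
# The range theorem for a subgroup of prime order

For `x` of order `p`, with `p` not dividing the index of `⟨x⟩`, and a local idempotent `e`: the multiplicities of two
characters of `⟨x⟩` in `∑_{χ ∈ B} χ(e) χ` differ by at most one, when the centralizer acts trivially on the Tate quotient.
-/

set_option autoImplicit false
set_option linter.unusedSectionVars false
set_option linter.unusedVariables false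
set_option linter.style.haveILetI false

namespace Cfsg.Agent.Lib.RangeThm

open Module Matrix Cfsg Subgroup
open Cfsg.Agent.Lib.RangeMod Cfsg.Agent.Lib.RangeVal Cfsg.Agent.Lib.RangeLat Cfsg.Agent.Lib.RangeAlg Cfsg.Agent.Lib.RangeChar
open Cfsg.Agent.Lib.CharBasic Cfsg.Agent.Lib.BlkBasic Cfsg.Agent.Lib.BlockIdem Cfsg.Agent.Lib.DefectOne
open scoped ComplexConjugate

variable {M : Ideal AlgInt} {p : ℕ} {A : ValuationSubring ℂ} {G : Type*} [Group G] [Fintype G] [DecidableEq G]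

theorem blkInd_sum (S : Finset (IrrCharacter G)) (F : IrrCharacter G → ℂ) :
    ∑ χ, blkInd (S : Set (IrrCharacter G)) χ * F χ = ∑ χ ∈ S, F χ := by
  classical
  rw [← Finset.sum_subset (Finset.subset_univ S)]
  · refine Finset.sum_congr rfl fun χ hχ => ?_
    rw [blkInd_of_mem (by simpa using hχ), one_mul]
  · intro χ _ hχ
    rw [blkInd_of_not_mem (by simpa using hχ), zero_mul]

theorem blkInd_univ_sum (F : IrrCharacter G → ℂ) :
    ∑ χ, blkInd (Set.univ : Set (IrrCharacter G)) χ * F χ = ∑ χ, F χ := by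
  refine Finset.sum_congr rfl fun χ _ => ?_
  rw [blkInd_of_mem (Set.mem_univ χ), one_mul]

/-- The multiplicity in terms of the inner product on `⟨x⟩`. -/
theorem classInner_chi_eq_mlt {x : G} (hx : orderOf x = p) [Fintype (zpowers x)] (f : zpowers x →* ℂˣ) {ψ : G → ℂ}
    (hψ : IsCharacter G ψ) :
    classInner (chi f) (fun w : zpowers x => ψ w) = mlt p x ((f ⟨x, mem_zpowers x⟩ : ℂˣ) : ℂ) ψ := by
  unfold classInner mlt
  have hcard : Nat.card (zpowers x) = p := by rw [Nat.card_zpowers, hx]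
  rw [hcard]
  congr 1
  have h1 : ∑ g : zpowers x, chi f g * conj (ψ g) = ∑ g : zpowers x, chi f g⁻¹ * conj (ψ ((g⁻¹ : zpowers x) : G)) :=
    (Equiv.sum_comp (Equiv.inv (zpowers x)) _).symm
  rw [h1]
  have hfin : IsOfFinOrder x := isOfFinOrder_of_finite x
  rw [← Equiv.sum_comp (finEquivZPowers hfin)]
  rw [← hx, ← Fin.sum_univ_eq_sum_range (fun i => (((f ⟨x, mem_zpowers x⟩ : ℂˣ) : ℂ)⁻¹) ^ i * ψ (x ^ i))]
  refine Finset.sum_congr rfl fun i _ => ?_
  rw [finEquivZPowers_apply]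
  have h2 : (⟨x ^ (i : ℕ), (i : ℕ), zpow_natCast x i⟩ : zpowers x) = (⟨x, mem_zpowers x⟩ : zpowers x) ^ (i : ℕ) := by
    apply Subtype.ext
    simp
  rw [h2]
  have h3 : conj (ψ ((((⟨x, mem_zpowers x⟩ : zpowers x) ^ (i : ℕ))⁻¹ : zpowers x) : G)) = ψ (x ^ (i : ℕ)) := by
    rw [char_conj_eq_inv hψ]
    simp
  rw [h3]
  congr 1
  show (((f (((⟨x, mem_zpowers x⟩ : zpowers x) ^ (i : ℕ))⁻¹) : ℂˣ)) : ℂ) = _
  rw [map_inv, map_pow, Units.val_inv_eq_inv_val, Units.val_pow_eq_pow_val, inv_pow]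

section Bound

variable [hp : Fact p.Prime] [CharP (IsLocalRing.ResidueField A) p]

/-- The bound on multiplicities. -/
theorem bound_of_hC {x : G} (hx : orderOf x = p) (hidx : ¬ p ∣ (zpowers x).index)
    {e : MonoidAlgebra A G} (he : e * e = e)
    (hprim : ∀ f : MonoidAlgebra A G, f * f = f → e * f = f → f * e = f → f = 0 ∨ f = e)
    {B : Set (IrrCharacter G)} (D : LatData A (xi e B))
    (hC : ∀ y ∈ centralizer (zpowers x : Set G), ∀ v ∈ Fx (redRep D.repT) x, redRep D.repT y v - v ∈ ImN (redRep D.repT) x p)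
    {z z' : ℂ} (hz : z ^ p = 1) (hz' : z' ^ p = 1) :
    finrank ℂ (eig D.repT x z) ≤ finrank ℂ (eig D.repT x z') + 1 := by
  have hxp : x ^ p = 1 := by rw [← hx]; exact pow_orderOf_eq_one x
  have h1 := finrank_eig_le D.repT hxp hz hz'
  have h2 := tate_le_one hx hidx (fun φ hφ => D.hloc he hprim (iota_mul_xi he B) φ hφ) hC
  omega

/-- For a genuine idempotent, the multiplicities agree. -/
theorem eq_of_proj {x : G} (hx : orderOf x = p) {e : MonoidAlgebra A G} (he : e * e = e)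
    (D : LatData A (xi e (Set.univ : Set (IrrCharacter G)))) {z z' : ℂ} (hz : z ^ p = 1) (hz' : z' ^ p = 1) :
    finrank ℂ (eig D.repT x z) ≤ finrank ℂ (eig D.repT x z') := by
  have hxp : x ^ p = 1 := by rw [← hx]; exact pow_orderOf_eq_one x
  have h1 := finrank_eig_le D.repT hxp hz hz'
  have hξ : xi e (Set.univ : Set (IrrCharacter G)) = iota A G e := by
    unfold xi
    rw [eps_univ, mul_one]
  have h2 := D.fx_le_im he hξ hx
  have h3 := Submodule.finrank_mono h2
  omega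

end Bound

/-- **Range theorem** for a self-centralizing subgroup of prime order.  -/
theorem pim_bounds_hyp {P : Subgroup G} (H : Hyp P p) (hidx : ¬ p ∣ P.index) (hM : IsPModular p M)
    (m : (↥P →* ℂˣ) → IrrCharacter G → ℤ) (hm : ∀ f (χ : IrrCharacter G), classInner (theta P f) (χ : G → ℂ) = (m f χ : ℂ))
    (χ₀ : IrrCharacter G) :
    ∃ d : IrrCharacter G → ℕ, d χ₀ ≠ 0 ∧ (∀ f, ∑ χ, (d χ : ℤ) * m f χ = 0) ∧
      ∀ (S : Finset (IrrCharacter G)) (f : ↥P →* ℂˣ), |∑ χ ∈ S, (d χ : ℤ) * m f χ| ≤ 1 := by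
  classical
  haveI hp : Fact p.Prime := ⟨H.prime⟩
  obtain ⟨A, hD⟩ := exists_dom hM
  haveI := hD.charP hM
  -- a generator
  obtain ⟨x, hxP, hx1⟩ : ∃ x ∈ P, x ≠ 1 := by
    have : Nontrivial P := by
      rw [← Finite.one_lt_card_iff_nontrivial (α := P), H.card]
      exact H.prime.one_lt
    obtain ⟨y, hy⟩ := exists_ne (1 : P)
    exact ⟨y, y.2, fun h => hy (Subtype.ext h)⟩
  have hPx : zpowers x = P := H.zpowers_eq hxP hx1
  subst hPx
  have hx : orderOf x = p := by rw [← Nat.card_zpowers, H.card]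
  haveI : Fintype (zpowers x) := Fintype.ofFinite _
  -- the idempotent
  have heps : eps ({χ₀} : Set (IrrCharacter G)) ≠ 0 := by
    intro h0
    have h1 : blockCoeff ({χ₀} : Set (IrrCharacter G)) = 0 := by
      funext g
      rw [← eps_coeff, h0]
      rfl
    have h2 := omega_blockCoeff ({χ₀} : Set (IrrCharacter G)) χ₀
    rw [h1, blkInd_of_mem (Set.mem_singleton χ₀)] at h2
    simp [omega] at h2
  obtain ⟨e, he, hne, hprim⟩ := exists_local_idem (A := A) heps
  have hdn := dval_nat (A := A) he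
  choose d hd using hdn
  have hd0 : d χ₀ ≠ 0 := by
    intro h
    apply dval_ne_zero he hne
    rw [hd, h]
    simp
  have hroot : ∀ f : zpowers x →* ℂˣ, (((f ⟨x, mem_zpowers x⟩ : ℂˣ) : ℂ)) ^ p = 1 := by
    intro f
    have h1 : (⟨x, mem_zpowers x⟩ : zpowers x) ^ p = 1 := by
      apply Subtype.ext
      simp [← hx, pow_orderOf_eq_one]
    have h2 : (f ⟨x, mem_zpowers x⟩) ^ p = 1 := by rw [← map_pow, h1, map_one]
    have h3 := congrArg (Units.val) h2
    simpa using h3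
  -- the integers `m` in terms of `mlt`
  have hmm : ∀ (f : zpowers x →* ℂˣ) (χ : IrrCharacter G), (m f χ : ℂ) =
      mlt p x ((f ⟨x, mem_zpowers x⟩ : ℂˣ) : ℂ) χ - mlt p x (((1 : zpowers x →* ℂˣ) ⟨x, mem_zpowers x⟩ : ℂˣ) : ℂ) χ := by
    intro f χ
    have hχ := IsIrrCharacter.isCharacter χ.2
    rw [← hm, classInner_theta f (isClassFunction_of_isCharacter hχ), classInner_chi_eq_mlt hx f hχ,
      classInner_chi_eq_mlt hx 1 hχ]
  set z₁ : ℂ := (((1 : zpowers x →* ℂˣ) ⟨x, mem_zpowers x⟩ : ℂˣ) : ℂ) with hz₁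
  have hz₁p : z₁ ^ p = 1 := hroot 1
  have hxp : x ^ p = 1 := by rw [← hx]; exact pow_orderOf_eq_one x
  -- the key identity for a set
  have hkey : ∀ (B : Set (IrrCharacter G)) (D : LatData A (xi e B)) (f : zpowers x →* ℂˣ),
      ((finrank ℂ (eig D.repT x ((f ⟨x, mem_zpowers x⟩ : ℂˣ) : ℂ)) : ℕ) : ℂ) - ((finrank ℂ (eig D.repT x z₁) : ℕ) : ℂ) =
        ∑ χ, blkInd B χ * ((d χ : ℂ) * (m f χ : ℂ)) := by
    intro B D f
    rw [finrank_eig_lat he D hxp (hroot f), finrank_eig_lat he D hxp hz₁p, ← Finset.sum_sub_distrib]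
    refine Finset.sum_congr rfl fun χ _ => ?_
    rw [hmm, hd]
    ring
  refine ⟨d, hd0, ?_, ?_⟩
  · intro f
    obtain ⟨D⟩ := nonempty_latData (A := A) (xi e (Set.univ : Set (IrrCharacter G)))
    have h1 := eq_of_proj hx he D (hroot f) hz₁p
    have h2 := eq_of_proj hx he D hz₁p (hroot f)
    have h3 := hkey Set.univ D f
    rw [blkInd_univ_sum, le_antisymm h1 h2] at h3
    have h4 : ((∑ χ, (d χ : ℤ) * m f χ : ℤ) : ℂ) = 0 := by
      push_cast
      rw [← h3]
      simp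
    exact_mod_cast h4
  · intro S f
    obtain ⟨D⟩ := nonempty_latData (A := A) (xi e (S : Set (IrrCharacter G)))
    have hC : ∀ y ∈ centralizer (zpowers x : Set G), ∀ v ∈ Fx (redRep D.repT) x,
        redRep D.repT y v - v ∈ ImN (redRep D.repT) x p := by
      intro y hy v hv
      have h1 : y ∈ zpowers x := by
        rw [← H.cent x hxP hx1]
        rw [mem_centralizer_singleton_iff]
        exact (mem_centralizer_iff.1 hy x (mem_zpowers x)).symm
      rw [rho_zpow_fix hv (isOfFinOrder_of_finite x) h1, sub_self]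
      exact Submodule.zero_mem _
    have h1 := bound_of_hC hx (by simpa using hidx) he hprim D hC (hroot f) hz₁p
    have h2 := bound_of_hC hx (by simpa using hidx) he hprim D hC hz₁p (hroot f)
    have h3 := hkey (S : Set (IrrCharacter G)) D f
    rw [blkInd_sum] at h3
    have h4 : ((∑ χ ∈ S, (d χ : ℤ) * m f χ : ℤ) : ℂ) =
        (((finrank ℂ (eig D.repT x ((f ⟨x, mem_zpowers x⟩ : ℂˣ) : ℂ)) : ℤ) - finrank ℂ (eig D.repT x z₁) : ℤ) : ℂ) := by
      push_cast
      push_cast at h3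
      rw [h3]
    have h5 : ∑ χ ∈ S, (d χ : ℤ) * m f χ =
        (finrank ℂ (eig D.repT x ((f ⟨x, mem_zpowers x⟩ : ℂˣ) : ℂ)) : ℤ) - finrank ℂ (eig D.repT x z₁) := by
      exact_mod_cast h4
    rw [h5, abs_le]
    omega

end Cfsg.Agent.Lib.RangeThm
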