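import Mathlib
import Cfsg.Agent.Lib.RangeGen
import Cfsg.Agent.Lib.RangeThm
import Cfsg.Agent.Lib.TICentMain

/-!
# The range theorem for `C = P × K`, linear characters of `C` trivial on `K`

`E` is the averaging idempotent of `K`.  The multiplicities of `f ∘ r` in the character of a lattice, for `f` a linear character
of `P`, differ by at most one.
-/

set_option autoImplicit false
set_option linter.unusedSectionVars false
set_option linter.unusedVariables false
set_option linter.style.haveILetI false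

namespace Cfsg.Agent.Lib.RangeB0

open Module Matrix Cfsg Subgroup
open Cfsg.Agent.Lib.RangeMod Cfsg.Agent.Lib.RangeVal Cfsg.Agent.Lib.RangeLat Cfsg.Agent.Lib.RangeAlg
open Cfsg.Agent.Lib.RangeChar Cfsg.Agent.Lib.RangeGen
open Cfsg.Agent.Lib.CharBasic Cfsg.Agent.Lib.BlkBasic Cfsg.Agent.Lib.BlockIdem Cfsg.Agent.Lib.DefectOne
open scoped ComplexConjugate

section Avg

variable {G : Type*} [Group G] [Fintype G] [DecidableEq G] {p : ℕ} [hp : Fact p.Prime]
variable {A : ValuationSubring ℂ} [CharP (IsLocalRing.ResidueField A) p]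
variable {I : Type*} [Fintype I] [DecidableEq I]

/-- The averaging idempotent of a subgroup. -/
noncomputable def avgM (T : G →* Matrix I I A) (L : Subgroup G) [Fintype L] (u : A) : Matrix I I A :=
  ∑ a : L, u • T a

variable {T : G →* Matrix I I A} {L : Subgroup G} [Fintype L] {u : A}

theorem avgM_mul (b : L) : avgM T L u * T b = avgM T L u := by
  unfold avgM
  rw [Finset.sum_mul]
  simp_rw [smul_mul_assoc, ← map_mul]
  exact Fintype.sum_equiv (Equiv.mulRight b) _ _ (fun a => by simp)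

theorem mul_avgM (b : L) : T b * avgM T L u = avgM T L u := by
  unfold avgM
  rw [Finset.mul_sum]
  simp_rw [mul_smul_comm, ← map_mul]
  exact Fintype.sum_equiv (Equiv.mulLeft b) _ _ (fun a => by simp)

theorem avgM_idem (hu : u * (Nat.card L : A) = 1) : avgM T L u * avgM T L u = avgM T L u := by
  conv_lhs => rw [show avgM T L u * avgM T L u = avgM T L u * ∑ a : L, u • T a from rfl]
  rw [Finset.mul_sum]
  simp_rw [mul_smul_comm, avgM_mul]
  rw [Finset.sum_const, Finset.card_univ, ← Nat.card_eq_fintype_card, ← Nat.cast_smul_eq_nsmul A, smul_smul,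
    mul_comm, hu, one_smul]

theorem avgM_comm {x : G} (hL : ∀ a ∈ L, a * x = x * a) : avgM T L u * T x = T x * avgM T L u := by
  unfold avgM
  rw [Finset.sum_mul, Finset.mul_sum]
  refine Finset.sum_congr rfl fun a _ => ?_
  rw [smul_mul_assoc, mul_smul_comm, ← map_mul, ← map_mul, hL a a.2]

theorem trace_mul_avgM (g : G) : (T g * avgM T L u).trace = ∑ a : L, u * (T (g * a)).trace := by
  unfold avgM
  rw [Finset.mul_sum, Matrix.trace_sum]
  refine Finset.sum_congr rfl fun a _ => ?_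
  rw [mul_smul_comm, Matrix.trace_smul, ← map_mul, smul_eq_mul]

theorem rdM_smul (c : A) (M : Matrix I I A) : rdM (c • M) = (res A c) • rdM M := by
  refine LinearMap.ext fun w => ?_
  obtain ⟨w', rfl⟩ := exists_rdc w
  rw [LinearMap.smul_apply, rdM_apply, rdM_apply, Matrix.smul_mulVec]
  ext j
  simp

theorem rdM_avgM : rdM (avgM T L u) = ∑ a : L, (res A u) • redRep T a := by
  unfold avgM
  rw [map_sum]
  refine Finset.sum_congr rfl fun a _ => ?_
  rw [rdM_smul]
  rfl

section Bound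

variable {x : G}

local notation "k" => IsLocalRing.ResidueField A

/-- **Bound**. -/
theorem finrank_eigE_avg_le (hx : orderOf x = p) (hidx : ¬ p ∣ (zpowers x).index)
    (hloc : ∀ φ : Module.End (IsLocalRing.ResidueField A) (I → IsLocalRing.ResidueField A),
      (∀ g, φ * redRep T g = redRep T g * φ) → IsNilpotent φ ∨ Function.Surjective φ)
    (hL : ∀ a ∈ L, a * x = x * a) (hLn : ∀ n ∈ normalizer (zpowers x : Set G), ∀ a ∈ L, n * a * n⁻¹ ∈ L)
    (hC : ∀ c ∈ centralizer (zpowers x : Set G), ∃ a ∈ L, c * a⁻¹ ∈ zpowers x) (hu : u * (Nat.card L : A) = 1)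
    {z z' : ℂ} (hz : z ^ p = 1) (hz' : z' ^ p = 1) :
    finrank ℂ (eigE T x z (avgM T L u)) ≤ finrank ℂ (eigE T x z' (avgM T L u)) + 1 := by
  classical
  set E := avgM T L u with hEdef
  have hEE : E * E = E := avgM_idem hu
  have hEx : E * T x = T x * E := avgM_comm hL
  have hxp : x ^ p = 1 := by rw [← hx]; exact pow_orderOf_eq_one x
  have h1 := finrank_eigE_le T hxp hz hz' hEE hEx
  suffices h2 : finrank k ((Fx (redRep T) x).map (rdM E)) ≤ finrank k ((ImN (redRep T) x p).map (rdM E)) + 1 by omega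
  set ρ := redRep T with hρ
  set R : Subalgebra k (Module.End k (I → k)) := Algebra.adjoin k (Set.image (fun a => ρ a) (L : Set G)) with hR
  have hgen : ∀ a ∈ L, ρ a ∈ R := fun a ha => Algebra.subset_adjoin ⟨a, ha, rfl⟩
  have hEb : rdM E = ∑ a : L, (res A u) • ρ a := rdM_avgM
  have hEmem : rdM E ∈ R := by
    rw [hEb]
    exact Subalgebra.sum_mem _ fun a _ => Subalgebra.smul_mem _ (hgen a a.2) _
  have hres : res A u * ((Nat.card L : ℕ) : k) = 1 := by
    have := congrArg (res A) hu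
    rw [map_mul, map_natCast, map_one] at this
    exact this
  have hEbb : rdM E * rdM E = rdM E := by rw [← map_mul, hEE]
  have hEρ : ∀ a ∈ L, rdM E * ρ a = rdM E := by
    intro a ha
    show rdM E * rdM (T a) = rdM E
    rw [← map_mul]
    exact congrArg rdM (avgM_mul (T := T) (u := u) (⟨a, ha⟩ : L))
  have hRx : ∀ r ∈ R, r * ρ x = ρ x * r := by
    intro r hr
    have hle : R ≤ Subalgebra.centralizer k {ρ x} := by
      refine Algebra.adjoin_le ?_
      rintro _ ⟨a, ha, rfl⟩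
      rw [SetLike.mem_coe, Subalgebra.mem_centralizer_iff]
      rintro _ rfl
      show ρ x * ρ a = ρ a * ρ x
      rw [← map_mul, ← map_mul, hL a ha]
    have := hle hr
    rw [Subalgebra.mem_centralizer_iff] at this
    exact (this _ rfl).symm
  have hRc : ∀ n ∈ normalizer (zpowers x : Set G), ∀ r ∈ R, ρ n * r * ρ n⁻¹ ∈ R := by
    intro n hn r hr
    have hn1 : ρ n⁻¹ * ρ n = 1 := by rw [← map_mul, inv_mul_cancel, map_one]
    have hn2 : ρ n * ρ n⁻¹ = 1 := by rw [← map_mul, mul_inv_cancel, map_one]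
    induction hr using Algebra.adjoin_induction with
    | mem y hy =>
      obtain ⟨a, ha, rfl⟩ := hy
      have : ρ n * ρ a * ρ n⁻¹ = ρ (n * a * n⁻¹) := by simp only [map_mul]
      rw [this]
      exact hgen _ (hLn n hn a ha)
    | algebraMap c =>
      have : ρ n * (algebraMap k (Module.End k (I → k)) c) * ρ n⁻¹ = algebraMap k (Module.End k (I → k)) c := by
        rw [← Algebra.commutes c (ρ n), mul_assoc, hn2, mul_one]
      rw [this]
      exact R.algebraMap_mem c
    | add a b _ _ ha hb =>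
      rw [mul_add, add_mul]
      exact R.add_mem ha hb
    | mul a b _ _ ha hb =>
      have : ρ n * (a * b) * ρ n⁻¹ = (ρ n * a * ρ n⁻¹) * (ρ n * b * ρ n⁻¹) := by
        calc ρ n * (a * b) * ρ n⁻¹ = ρ n * a * 1 * b * ρ n⁻¹ := by noncomm_ring
          _ = ρ n * a * (ρ n⁻¹ * ρ n) * b * ρ n⁻¹ := by rw [hn1]
          _ = _ := by noncomm_ring
      rw [this]
      exact R.mul_mem ha hb
  have hEr : ∀ r ∈ R, ∃ c : k, rdM E * r * rdM E = c • rdM E := by
    intro r hr
    have hkey : ∃ c : k, rdM E * r = c • rdM E := by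
      induction hr using Algebra.adjoin_induction with
      | mem y hy =>
        obtain ⟨a, ha, rfl⟩ := hy
        exact ⟨1, by simpa using hEρ a ha⟩
      | algebraMap c =>
        exact ⟨c, by rw [← Algebra.commutes', Algebra.smul_def]⟩
      | add a b _ _ ha hb =>
        obtain ⟨c, hc⟩ := ha
        obtain ⟨d, hd⟩ := hb
        exact ⟨c + d, by rw [mul_add, hc, hd, add_smul]⟩
      | mul a b _ _ ha hb =>
        obtain ⟨c, hc⟩ := ha
        obtain ⟨d, hd⟩ := hb
        exact ⟨c * d, by rw [← mul_assoc, hc, smul_mul_assoc, hd, smul_smul]⟩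
    obtain ⟨c, hc⟩ := hkey
    exact ⟨c, by rw [hc, smul_mul_assoc, hEbb]⟩
  obtain ⟨h, hh, hgn⟩ := exists_gen (G := G) (p := p) hx
  have hconjE : ρ h * rdM E * ρ h⁻¹ = rdM E := by
    have hmul : T h * E * T h⁻¹ = E := by
      rw [hEdef]
      unfold avgM
      rw [Finset.mul_sum, Finset.sum_mul]
      simp_rw [mul_smul_comm, smul_mul_assoc, ← map_mul]
      let e : L ≃ L :=
        { toFun := fun a => ⟨h * a * h⁻¹, hLn h hh a a.2⟩
          invFun := fun a => ⟨h⁻¹ * a * h, by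
            have := hLn h⁻¹ (Subgroup.inv_mem _ hh) a a.2
            simpa using this⟩
          left_inv := fun a => by ext; simp; group
          right_inv := fun a => by ext; simp; group }
      exact Fintype.sum_equiv e _ _ (fun a => rfl)
    show rdM (T h) * rdM E * rdM (T h⁻¹) = rdM E
    rw [← map_mul, ← map_mul, hmul]
  exact tate_idem hx hidx hloc L R hRx hgen hRc hC (rdM E) hEmem hEbb hEr (normalizer (zpowers x : Set G)) le_rfl hh hgn
    hEmem hEmem hEbb (by rw [hEbb, hconjE]) (fun n hn hn' => absurd hn hn')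

/-- When the Tate quotient vanishes the multiplicities agree. -/
theorem finrank_eigE_avg_eq (hFI : Fx (redRep T) x ≤ ImN (redRep T) x p) (hxp : x ^ p = 1)
    (hL : ∀ a ∈ L, a * x = x * a) (hu : u * (Nat.card L : A) = 1)
    {z z' : ℂ} (hz : z ^ p = 1) (hz' : z' ^ p = 1) :
    finrank ℂ (eigE T x z (avgM T L u)) ≤ finrank ℂ (eigE T x z' (avgM T L u)) := by
  have hEE : avgM T L u * avgM T L u = avgM T L u := avgM_idem hu
  have hEx := avgM_comm (T := T) (u := u) hL
  have h1 := finrank_eigE_le T hxp hz hz' hEE hEx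
  have h2 := Submodule.finrank_mono (Submodule.map_mono (f := rdM (avgM T L u)) hFI)
  omega

end Bound

end Avg

section Pim

open Cfsg.Agent.Lib.RangeThm Cfsg.Agent.Lib.TICent

variable {G : Type*} [Group G] [Fintype G] [DecidableEq G] {p : ℕ}

/-- Units of the valuation ring. -/
theorem exists_inv_of_not_dvd {A : ValuationSubring ℂ} [CharP (IsLocalRing.ResidueField A) p] {n : ℕ} (hn : ¬ p ∣ n) :
    ∃ u : A, u * (n : A) = 1 := by
  have h1 : res A (n : A) ≠ 0 := by
    rw [map_natCast]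
    intro h
    exact hn ((CharP.cast_eq_zero_iff _ p n).1 h)
  rw [Ne, res_eq_zero_iff, not_not] at h1
  exact ⟨↑(h1.unit⁻¹), h1.val_inv_mul⟩

/-- A variant of the multiplicity formula for hermitian functions. -/
theorem classInner_chi_eq_mlt' {x : G} (hx : orderOf x = p) [Fintype (zpowers x)] (f : zpowers x →* ℂˣ) (ψ : G → ℂ)
    (hψ : ∀ g ∈ zpowers x, conj (ψ g) = ψ g⁻¹) :
    classInner (chi f) (fun w : zpowers x => ψ w) = mlt p x ((f ⟨x, mem_zpowers x⟩ : ℂˣ) : ℂ) ψ := by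
  unfold classInner mlt
  have hcard : Nat.card (zpowers x) = p := by rw [Nat.card_zpowers, hx]
  rw [hcard]
  congr 1
  have h1 : ∑ g : zpowers x, chi f g * conj (ψ g) = ∑ g : zpowers x, chi f g⁻¹ * conj (ψ ((g⁻¹ : zpowers x) : G)) :=
    (Equiv.sum_comp (Equiv.inv (zpowers x)) _).symm
  rw [h1]
  have hfin : IsOfFinOrder x := isOfFinOrder_of_finite x
  rw [← Equiv.sum_comp (finEquivZPowers hfin)]
  rw [← hx, ← Fin.sum_univ_eq_sum_range (fun i => (((f ⟨x, mem_zpowers x⟩ : ℂˣ) : ℂ)⁻¹) ^ i * ψ (x ^ i))]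
  refine Finset.sum_congr rfl fun i _ => ?_
  rw [finEquivZPowers_apply]
  have h2 : (⟨x ^ (i : ℕ), (i : ℕ), zpow_natCast x i⟩ : zpowers x) = (⟨x, mem_zpowers x⟩ : zpowers x) ^ (i : ℕ) := by
    apply Subtype.ext
    simp
  rw [h2]
  have h3 : conj (ψ ((((⟨x, mem_zpowers x⟩ : zpowers x) ^ (i : ℕ))⁻¹ : zpowers x) : G)) = ψ (x ^ (i : ℕ)) := by
    rw [hψ _ (SetLike.coe_mem _)]
    simp
  rw [h3]
  congr 1
  show (((f (((⟨x, mem_zpowers x⟩ : zpowers x) ^ (i : ℕ))⁻¹) : ℂˣ)) : ℂ) = _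
  rw [map_inv, map_pow, Units.val_inv_eq_inv_val, Units.val_pow_eq_pow_val, inv_pow]

/-- The average of a function over `L`. -/
noncomputable def psiL (L : Subgroup G) [Fintype L] (w : ℂ) (f : G → ℂ) : G → ℂ := fun g => ∑ a : L, w * f (g * a)

section

variable {A : ValuationSubring ℂ} [hp : Fact p.Prime] [CharP (IsLocalRing.ResidueField A) p]

/-- The dimension of the cut eigenspace, for the lattice. -/
theorem finrank_eigE_lat {e : MonoidAlgebra A G} (he : e * e = e) {B : Set (IrrCharacter G)}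
    (D : LatData A (xi e B)) {x : G} (hx : x ^ p = 1) {z : ℂ} (hz : z ^ p = 1) {L : Subgroup G} [Fintype L] {u : A}
    (hu : u * (Nat.card L : A) = 1) (hL : ∀ a ∈ L, a * x = x * a) :
    ((finrank ℂ (eigE D.repT x z (avgM D.repT L u)) : ℕ) : ℂ) =
      ∑ χ : IrrCharacter G, blkInd B χ * (dval e χ * mlt p x z (psiL L (u : ℂ) (χ : G → ℂ))) := by
  rw [finrank_eigE_eq D.repT hx hz (avgM_idem hu) (avgM_comm hL)]
  have h1 : ∀ g : G, (((D.repT g * avgM D.repT L u).trace : A) : ℂ) =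
      ∑ χ : IrrCharacter G, (blkInd B χ * dval e χ) * psiL L (u : ℂ) (χ : G → ℂ) g := by
    intro g
    rw [trace_mul_avgM]
    push_cast
    have h2 : ∀ a : L, (u : ℂ) * (((D.repT (g * a)).trace : A) : ℂ) =
        ∑ χ : IrrCharacter G, (blkInd B χ * dval e χ) * ((u : ℂ) * (χ : G → ℂ) (g * a)) := by
      intro a
      have h3 : (((D.repT (g * a)).trace : A) : ℂ) = chr D.repT (g * a) := rfl
      rw [h3, chr_lat he D, Finset.mul_sum]
      refine Finset.sum_congr rfl fun χ _ => ?_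
      ring
    simp_rw [h2]
    rw [Finset.sum_comm]
    refine Finset.sum_congr rfl fun χ _ => ?_
    unfold psiL
    rw [Finset.mul_sum]
  have h4 := mlt_sum (p := p) Finset.univ (fun χ : IrrCharacter G => blkInd B χ * dval e χ)
    (fun χ => psiL L (u : ℂ) (χ : G → ℂ)) x z
  have h5 : (p : ℂ)⁻¹ * ∑ i ∈ Finset.range p, (z⁻¹) ^ i * (((D.repT (x ^ i) * avgM D.repT L u).trace : A) : ℂ) =
      mlt p x z (fun g => ∑ χ : IrrCharacter G, (blkInd B χ * dval e χ) * psiL L (u : ℂ) (χ : G → ℂ) g) := by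
    unfold mlt
    congr 1
    refine Finset.sum_congr rfl fun i _ => ?_
    rw [h1]
  rw [h5, h4]
  refine Finset.sum_congr rfl fun χ _ => ?_
  ring

end

/-- **Range theorem** for `C = P × K`. -/
theorem pim_bounds_C {P C : Subgroup G} {r : ↥C →* ↥P} {e₀ : ℕ} (H : Cfsg.Agent.Lib.TICent.Hyp p P C r e₀)
    (hcard : Nat.card P = p) (hidx : ¬ p ∣ P.index) {M : Ideal AlgInt} (hM : IsPModular p M) [Fintype C]
    (a : (↥P →* ℂˣ) → IrrCharacter G → ℕ)
    (ha : ∀ f (χ : IrrCharacter G), classInner (chi (f.comp r)) (fun c : ↥C => (χ : G → ℂ) c) = (a f χ : ℂ))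
    (χ₀ : IrrCharacter G) :
    ∃ d : IrrCharacter G → ℕ, d χ₀ ≠ 0 ∧ (∀ f, ∑ χ, (d χ : ℤ) * ((a f χ : ℤ) - a 1 χ) = 0) ∧
      ∀ (S : Finset (IrrCharacter G)) (f : ↥P →* ℂˣ), |∑ χ ∈ S, (d χ : ℤ) * ((a f χ : ℤ) - a 1 χ)| ≤ 1 := by
  classical
  haveI hp : Fact p.Prime := ⟨H.prime⟩
  obtain ⟨A, hD⟩ := exists_dom hM
  haveI := hD.charP hM
  -- a generator
  obtain ⟨x, hxP, hx1⟩ : ∃ x ∈ P, x ≠ 1 := by
    have : Nontrivial P := by
      rw [← Finite.one_lt_card_iff_nontrivial (α := P), hcard]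
      exact H.prime.one_lt
    obtain ⟨y, hy⟩ := exists_ne (1 : P)
    exact ⟨y, y.2, fun h => hy (Subtype.ext h)⟩
  have hPx : zpowers x = P := Cfsg.Agent.Lib.SmallGroups2.zpowers_eq_of_mem_of_ne_one H.prime hcard hxP hx1
  subst hPx
  have hx : orderOf x = p := by rw [← Nat.card_zpowers, hcard]
  haveI : Fintype (zpowers x) := Fintype.ofFinite _
  haveI : Fintype r.ker := Fintype.ofFinite _
  -- the idempotent
  have heps : eps ({χ₀} : Set (IrrCharacter G)) ≠ 0 := by
    intro h0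
    have h1 : blockCoeff ({χ₀} : Set (IrrCharacter G)) = 0 := by
      funext g
      rw [← eps_coeff, h0]
      rfl
    have h2 := omega_blockCoeff ({χ₀} : Set (IrrCharacter G)) χ₀
    rw [h1, blkInd_of_mem (Set.mem_singleton χ₀)] at h2
    simp [omega] at h2
  obtain ⟨e, he, hne, hprim⟩ := exists_local_idem (A := A) heps
  have hdn := dval_nat (A := A) he
  choose d hd using hdn
  have hd0 : d χ₀ ≠ 0 := by
    intro h
    apply dval_ne_zero he hne
    rw [hd, h]
    simp
  have hroot : ∀ f : zpowers x →* ℂˣ, (((f ⟨x, mem_zpowers x⟩ : ℂˣ) : ℂ)) ^ p = 1 := by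
    intro f
    have h1 : (⟨x, mem_zpowers x⟩ : zpowers x) ^ p = 1 := by
      apply Subtype.ext
      simp [← hx, pow_orderOf_eq_one]
    have h2 : (f ⟨x, mem_zpowers x⟩) ^ p = 1 := by rw [← map_pow, h1, map_one]
    have h3 := congrArg (Units.val) h2
    simpa using h3
  -- the subgroup `L`
  let L : Subgroup G := r.ker.map C.subtype
  haveI : Fintype L := Fintype.ofFinite _
  let eL : r.ker ≃ L := (Subgroup.equivMapOfInjective r.ker C.subtype C.subtype_injective).toEquiv
  have hcardL : Nat.card L = Nat.card r.ker := (Nat.card_congr eL).symm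
  obtain ⟨u, hu⟩ := exists_inv_of_not_dvd (A := A) (p := p) (n := Nat.card L) (by rw [hcardL]; exact H.ker)
  have huC : (u : ℂ) = (Nat.card r.ker : ℂ)⁻¹ := by
    have h1 : (u : ℂ) * (Nat.card L : ℂ) = 1 := by
      have := congrArg (fun y : A => (y : ℂ)) hu
      simpa using this
    rw [hcardL] at h1
    exact eq_inv_of_mul_eq_one_left h1
  have hLmem : ∀ a ∈ L, ∃ k : ↥C, r k = 1 ∧ (k : G) = a := by
    rintro a ⟨k, hk, rfl⟩
    exact ⟨k, hk, rfl⟩
  have hL : ∀ a ∈ L, a * x = x * a := by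
    intro a ha
    obtain ⟨k, -, rfl⟩ := hLmem a ha
    exact H.comm (mem_zpowers x) k.2
  have hLn : ∀ n ∈ normalizer (zpowers x : Set G), ∀ a ∈ L, n * a * n⁻¹ ∈ L := by
    intro n hn a ha
    obtain ⟨k, hk, rfl⟩ := hLmem a ha
    have hmem : n * (k : G) * n⁻¹ ∈ C := by
      have := H.conj_mem (⟨n⁻¹, Subgroup.inv_mem _ hn⟩ : normalizer (zpowers x : Set G)) k
      simpa using this
    refine ⟨⟨_, hmem⟩, ?_, rfl⟩
    rw [SetLike.mem_coe, MonoidHom.mem_ker]
    apply Subtype.ext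
    rw [H.pow]
    have h1 : ((r k : zpowers x) : G) = (k : G) ^ e₀ := H.pow k
    rw [hk] at h1
    have h2 : (n * (k : G) * n⁻¹) ^ e₀ = n * (k : G) ^ e₀ * n⁻¹ := by
      rw [conj_pow]
    show (n * (k : G) * n⁻¹) ^ e₀ = _
    rw [h2, ← h1]
    simp
  have hC : ∀ c ∈ centralizer (zpowers x : Set G), ∃ a ∈ L, c * a⁻¹ ∈ zpowers x := by
    intro c hc
    rw [H.cen] at hc
    let c' : ↥C := ⟨c, hc⟩
    let y := r c'
    let k : ↥C := (H.inP y)⁻¹ * c'
    have hk : r k = 1 := by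
      simp only [k, map_mul, map_inv, H.r_inP, y, inv_mul_cancel]
    refine ⟨k, ⟨k, hk, rfl⟩, ?_⟩
    have h1 : c * (k : G)⁻¹ = (y : G) := by
      simp only [k, Subgroup.coe_mul, Subgroup.coe_inv, _root_.mul_inv_rev, inv_inv]
      have h2 : ((H.inP y : ↥C) : G) = (y : G) := rfl
      rw [h2]
      simp [c']
    rw [h1]
    exact y.2
  -- the integers `a` in terms of `mlt`
  have hmm : ∀ (f : zpowers x →* ℂˣ) (χ : IrrCharacter G), (a f χ : ℂ) =
      mlt p x ((f ⟨x, mem_zpowers x⟩ : ℂˣ) : ℂ) (psiL L (u : ℂ) (χ : G → ℂ)) := by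
    intro f χ
    rw [← ha, H.inner_eq f (χ : G → ℂ)]
    have hχ := IsIrrCharacter.isCharacter χ.2
    have h1 : avg r H (χ : G → ℂ) = fun w : zpowers x => psiL L (u : ℂ) (χ : G → ℂ) w := by
      funext w
      unfold avg psiL
      rw [← huC, Finset.mul_sum]
      exact Fintype.sum_equiv eL _ _ (fun k => rfl)
    rw [h1]
    apply classInner_chi_eq_mlt' hx
    intro g hg
    unfold psiL
    rw [map_sum]
    have h2 : (conj (u : ℂ)) = (u : ℂ) := by
      rw [huC, map_inv₀, Complex.conj_natCast]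
    simp_rw [map_mul, h2, char_conj_eq_inv hχ]
    refine Fintype.sum_equiv (Equiv.inv L) _ _ fun b => ?_
    congr 1
    obtain ⟨k, -, hk⟩ := hLmem (b : G) b.2
    have hgb : g * (b : G) = (b : G) * g := by
      obtain ⟨i, rfl⟩ := Subgroup.mem_zpowers_iff.1 hg
      have : Commute (b : G) x := hL _ b.2
      exact (this.zpow_right i).eq.symm
    have hχc := isClassFunction_of_isCharacter hχ
    show (χ : G → ℂ) (g * (b : G))⁻¹ = (χ : G → ℂ) (g⁻¹ * (b : G)⁻¹)
    rw [hgb]
    congr 1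
    group
  set z₁ : ℂ := (((1 : zpowers x →* ℂˣ) ⟨x, mem_zpowers x⟩ : ℂˣ) : ℂ) with hz₁
  have hz₁p : z₁ ^ p = 1 := hroot 1
  have hxp : x ^ p = 1 := by rw [← hx]; exact pow_orderOf_eq_one x
  -- the key identity for a set
  have hkey : ∀ (B : Set (IrrCharacter G)) (D : LatData A (xi e B)) (f : zpowers x →* ℂˣ),
      ((finrank ℂ (eigE D.repT x ((f ⟨x, mem_zpowers x⟩ : ℂˣ) : ℂ) (avgM D.repT L u)) : ℕ) : ℂ) -
        ((finrank ℂ (eigE D.repT x z₁ (avgM D.repT L u)) : ℕ) : ℂ) =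
        ∑ χ, blkInd B χ * ((d χ : ℂ) * ((a f χ : ℂ) - (a 1 χ : ℂ))) := by
    intro B D f
    rw [finrank_eigE_lat he D hxp (hroot f) hu hL, finrank_eigE_lat he D hxp hz₁p hu hL, ← Finset.sum_sub_distrib]
    refine Finset.sum_congr rfl fun χ _ => ?_
    rw [hmm f χ, hmm 1 χ, hd]
    ring
  refine ⟨d, hd0, ?_, ?_⟩
  · intro f
    obtain ⟨D⟩ := nonempty_latData (A := A) (xi e (Set.univ : Set (IrrCharacter G)))
    have hξ : xi e (Set.univ : Set (IrrCharacter G)) = iota A G e := by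
      unfold xi
      rw [eps_univ, mul_one]
    have hF := D.fx_le_im he hξ hx
    have h1 := finrank_eigE_avg_eq (L := L) (u := u) hF hxp hL hu (hroot f) hz₁p
    have h2 := finrank_eigE_avg_eq (L := L) (u := u) hF hxp hL hu hz₁p (hroot f)
    have h3 := hkey Set.univ D f
    rw [blkInd_univ_sum, le_antisymm h1 h2] at h3
    have h4 : ((∑ χ, (d χ : ℤ) * ((a f χ : ℤ) - a 1 χ) : ℤ) : ℂ) = 0 := by
      push_cast
      rw [← h3]
      simp
    exact_mod_cast h4
  · intro S f
    obtain ⟨D⟩ := nonempty_latData (A := A) (xi e (S : Set (IrrCharacter G)))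
    have hloc := fun φ hφ => D.hloc he hprim (iota_mul_xi he _) φ hφ
    have h1 := finrank_eigE_avg_le (L := L) (u := u) hx (by simpa using hidx) hloc hL hLn hC hu (hroot f) hz₁p
    have h2 := finrank_eigE_avg_le (L := L) (u := u) hx (by simpa using hidx) hloc hL hLn hC hu hz₁p (hroot f)
    have h3 := hkey (S : Set (IrrCharacter G)) D f
    rw [blkInd_sum] at h3
    have h4 : ((∑ χ ∈ S, (d χ : ℤ) * ((a f χ : ℤ) - a 1 χ) : ℤ) : ℂ) =
        (((finrank ℂ (eigE D.repT x ((f ⟨x, mem_zpowers x⟩ : ℂˣ) : ℂ) (avgM D.repT L u)) : ℤ) -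
          finrank ℂ (eigE D.repT x z₁ (avgM D.repT L u)) : ℤ) : ℂ) := by
      push_cast
      push_cast at h3
      rw [h3]
    have h5 : ∑ χ ∈ S, (d χ : ℤ) * ((a f χ : ℤ) - a 1 χ) =
        (finrank ℂ (eigE D.repT x ((f ⟨x, mem_zpowers x⟩ : ℂˣ) : ℂ) (avgM D.repT L u)) : ℤ) -
          finrank ℂ (eigE D.repT x z₁ (avgM D.repT L u)) := by
      exact_mod_cast h4
    rw [h5, abs_le]
    omega

end Pim

end Cfsg.Agent.Lib.RangeB0
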