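import Mathlib
import Cfsg.Agent.Lib.DefectOne

/-!
# The sunflower theorem with range bounds

Integer vectors `u_j` with Gram matrix `s + δ`, equal weighted sums, such that for each coordinate there is a nonnegative vector
nonzero there, orthogonal to all `u_j`, all of whose partial sums with `u_j` are bounded by one, have the form `w + σ e_{ξ j}`.
-/

set_option autoImplicit false
set_option linter.style.haveILetI false
set_option linter.unusedSectionVars false
set_option linter.unusedVariables false

namespace Cfsg.Agent.Lib.RangeSun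

open Cfsg.Agent.Lib.DefectOne

/-- **Sunflower lemma with range bounds**. -/
theorem sunflower2 {I J : Type*} [Fintype I] [DecidableEq I] [Fintype J] [DecidableEq J] (s : ℕ)
    (u : J → I → ℤ) (x : I → ℤ) (hx : ∀ i, 0 < x i)
    (hu : ∀ j k, ∑ i, u j i * u k i = (s : ℤ) + if j = k then 1 else 0)
    (hd : ∀ j k, ∑ i, x i * u j i = ∑ i, x i * u k i)
    (hJ : Nonempty J)
    (hR : ∀ i₀ : I, ∃ D : I → ℕ, D i₀ ≠ 0 ∧ (∀ j, ∑ i, (D i : ℤ) * u j i = 0) ∧
      ∀ (S : Finset I) (j : J), |∑ i ∈ S, (D i : ℤ) * u j i| ≤ 1) :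
    ∃ (w : I → ℤ) (e : J → I) (σ : ℤ), (σ = 1 ∨ σ = -1) ∧ Function.Injective e ∧ (∀ j, w (e j) = 0) ∧
      ∀ j i, u j i = w i + σ * (if i = e j then 1 else 0) := by
  classical
  obtain ⟨j₀⟩ := hJ
  -- bound on the coordinates
  have hbd : ∀ j i, |u j i| ≤ 1 := by
    intro j i
    obtain ⟨D, hD0, -, hD2⟩ := hR i
    have h1 := hD2 {i} j
    rw [Finset.sum_singleton, abs_mul] at h1
    have h2 : (1 : ℤ) ≤ |(D i : ℤ)| := by
      rw [Nat.abs_cast]
      exact_mod_cast Nat.pos_of_ne_zero hD0
    have h3 := abs_nonneg (u j i)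
    nlinarith
  -- the case of one element
  by_cases hcard1 : ∀ j, j = j₀
  · have h1 := hu j₀ j₀
    rw [if_pos rfl] at h1
    have hI : ∃ i₁, u j₀ i₁ ≠ 0 := by
      by_contra hall
      push Not at hall
      simp only [hall] at h1
      simp at h1
      omega
    obtain ⟨i₁, hi₁⟩ := hI
    have hσ : u j₀ i₁ = 1 ∨ u j₀ i₁ = -1 := by
      have := abs_le.1 (hbd j₀ i₁)
      omega
    refine ⟨fun i => u j₀ i - u j₀ i₁ * (if i = i₁ then 1 else 0), fun _ => i₁, u j₀ i₁, hσ, ?_, ?_, ?_⟩
    · intro a b _
      rw [hcard1 a, hcard1 b]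
    · intro j
      simp
    · intro j i
      rw [hcard1 j]
      ring
  push Not at hcard1
  obtain ⟨j₁, hj₁⟩ := hcard1
  -- the differences
  let d : J → I → ℤ := fun j i => u j i - u j₀ i
  have hdd : ∀ j k, j ≠ j₀ → k ≠ j₀ → ∑ i, d j i * d k i = (if j = k then 2 else 1) := by
    intro j k hj hk
    have h1 : ∑ i, d j i * d k i = ∑ i, u j i * u k i - ∑ i, u j i * u j₀ i - ∑ i, u j₀ i * u k i + ∑ i, u j₀ i * u j₀ i := by
      rw [← Finset.sum_sub_distrib, ← Finset.sum_sub_distrib, ← Finset.sum_add_distrib]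
      refine Finset.sum_congr rfl fun i _ => ?_
      simp only [d]; ring
    rw [h1, hu, hu, hu, hu]
    simp only [if_neg hj, if_neg (Ne.symm hk), if_true]
    by_cases hjk : j = k
    · simp only [if_pos hjk]; ring
    · simp only [if_neg hjk]; ring
  have hd0 : ∀ j, ∑ i, x i * d j i = 0 := by
    intro j
    have h1 : ∑ i, x i * d j i = ∑ i, x i * u j i - ∑ i, x i * u j₀ i := by
      rw [← Finset.sum_sub_distrib]
      refine Finset.sum_congr rfl fun i _ => ?_
      simp only [d]; ring
    rw [h1, hd j j₀, sub_self]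
  have hpair : ∀ j, j ≠ j₀ → ∃ a b, a ≠ b ∧ d j a = 1 ∧ d j b = -1 ∧ ∀ k, k ≠ a → k ≠ b → d j k = 0 := by
    intro j hj
    apply exists_oriented_pair (d j) x hx _ (hd0 j)
    rw [hdd j j hj hj, if_pos rfl]
  have hInon : Nonempty I := by
    by_contra h
    rw [not_nonempty_iff] at h
    have h1 := hu j₀ j₀
    rw [if_pos rfl, Finset.univ_eq_empty, Finset.sum_empty] at h1
    omega
  choose! α β hαβ hα hβ hz using hpair
  -- inner product formula
  have hip : ∀ j k, j ≠ j₀ → k ≠ j₀ → j ≠ k → d k (α j) - d k (β j) = 1 := by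
    intro j k hj hk hjk
    have h1 := hdd j k hj hk
    rw [if_neg hjk] at h1
    have h2 : ∑ i, d j i * d k i = d j (α j) * d k (α j) + d j (β j) * d k (β j) := by
      apply Fintype.sum_eq_add _ _ (hαβ j hj)
      intro i hi
      rw [hz j hj i hi.1 hi.2, zero_mul]
    rw [h2, hα j hj, hβ j hj] at h1
    linarith
  have hval : ∀ k, k ≠ j₀ → ∀ i, d k i = 1 ∨ d k i = -1 ∨ d k i = 0 := by
    intro k hk i
    by_cases h1 : i = α k
    · left; rw [h1]; exact hα k hk
    · by_cases h2 : i = β k
      · right; left; rw [h2]; exact hβ k hk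
      · right; right; exact hz k hk i h1 h2
  have huα : ∀ k, k ≠ j₀ → ∀ i, d k i = 1 → i = α k := by
    intro k hk i hi
    by_contra h1
    by_cases h2 : i = β k
    · rw [h2, hβ k hk] at hi; omega
    · rw [hz k hk i h1 h2] at hi; omega
  have huβ : ∀ k, k ≠ j₀ → ∀ i, d k i = -1 → i = β k := by
    intro k hk i hi
    by_contra h2
    by_cases h1 : i = α k
    · rw [h1, hα k hk] at hi; omega
    · rw [hz k hk i h1 h2] at hi; omega
  have hxor : ∀ j k, j ≠ j₀ → k ≠ j₀ → j ≠ k → (α j = α k ∧ β j ≠ β k) ∨ (β j = β k ∧ α j ≠ α k) := by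
    intro j k hj hk hjk
    have h1 := hip j k hj hk hjk
    rcases hval k hk (α j) with h2 | h2 | h2 <;> rcases hval k hk (β j) with h3 | h3 | h3 <;> rw [h2, h3] at h1 <;>
      first
        | omega
        | (left
           refine ⟨huα k hk _ h2, ?_⟩
           intro h4
           have := hβ k hk
           rw [← h4, h3] at this
           omega)
        | (right
           refine ⟨huβ k hk _ h3, ?_⟩
           intro h4
           have := hα k hk
           rw [← h4, h2] at this
           omega)
  -- pairing with `u j₀`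
  have hpairing0 : ∀ j, j ≠ j₀ → ∑ i, d j i * u j₀ i = -1 := by
    intro j hj
    have h2 : ∑ i, d j i * u j₀ i = ∑ i, u j i * u j₀ i - ∑ i, u j₀ i * u j₀ i := by
      rw [← Finset.sum_sub_distrib]
      refine Finset.sum_congr rfl fun i _ => ?_
      simp only [d]; ring
    rw [h2, hu, hu, if_neg hj, if_pos rfl]
    ring
  -- the star
  obtain ⟨σ', c, g, hσ', hdform, hgc, hginj, hy⟩ : ∃ (σ' : ℤ) (c : I) (g : J → I), (σ' = 1 ∨ σ' = -1) ∧
      (∀ j, j ≠ j₀ → ∀ i, d j i = σ' * ((if i = c then 1 else 0) - (if i = g j then 1 else 0))) ∧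
      (∀ j, j ≠ j₀ → g j ≠ c) ∧ (∀ j k, j ≠ j₀ → k ≠ j₀ → g j = g k → j = k) ∧ σ' * u j₀ c = -1 := by
    by_cases hcard2 : ∃ j₂, j₂ ≠ j₀ ∧ j₂ ≠ j₁
    · obtain ⟨j₂, hj₂, hj₁₂'⟩ := hcard2
      have hj₁₂ : j₁ ≠ j₂ := Ne.symm hj₁₂'
      have hj₁' : j₁ ≠ j₀ := hj₁
      have hj₂' : j₂ ≠ j₀ := hj₂
      -- the star
      obtain ⟨σ', c, g, hσ', hdform, hgc, hginj⟩ : ∃ (σ' : ℤ) (c : I) (g : J → I), (σ' = 1 ∨ σ' = -1) ∧
          (∀ j, j ≠ j₀ → ∀ i, d j i = σ' * ((if i = c then 1 else 0) - (if i = g j then 1 else 0))) ∧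
          (∀ j, j ≠ j₀ → g j ≠ c) ∧ (∀ j k, j ≠ j₀ → k ≠ j₀ → g j = g k → j = k) := by
        rcases hxor j₁ j₂ hj₁' hj₂' hj₁₂ with ⟨h1, h2⟩ | ⟨h1, h2⟩
        · have hall : ∀ k, k ≠ j₀ → α k = α j₁ := by
            intro k hk
            by_cases hk1 : k = j₁
            · rw [hk1]
            by_cases hk2 : k = j₂
            · rw [hk2, h1]
            rcases hxor k j₁ hk hj₁' hk1 with ⟨h3, _⟩ | ⟨h3, _⟩
            · exact h3
            rcases hxor k j₂ hk hj₂' hk2 with ⟨h4, _⟩ | ⟨h4, _⟩
            · rw [h4, h1]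
            · exact absurd (h3.symm.trans h4) h2
          refine ⟨1, α j₁, β, Or.inl rfl, ?_, ?_, ?_⟩
          · intro j hj i
            have hne : α j₁ ≠ β j := by
              rw [← hall j hj]
              exact hαβ j hj
            by_cases hi1 : i = α j₁
            · rw [hi1, if_pos rfl, if_neg hne, ← hall j hj, hα j hj]
              ring
            · by_cases hi2 : i = β j
              · rw [hi2, if_neg (Ne.symm hne), if_pos rfl, hβ j hj]
                ring
              · rw [if_neg hi1, if_neg hi2, hz j hj i (by rwa [hall j hj]) hi2]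
                ring
          · intro j hj
            rw [← hall j hj]
            exact (hαβ j hj).symm
          · intro j k hj hk hjk
            by_contra hne
            rcases hxor j k hj hk hne with ⟨_, h4⟩ | ⟨_, h4⟩
            · exact h4 hjk
            · exact h4 ((hall j hj).trans (hall k hk).symm)
        · have hall : ∀ k, k ≠ j₀ → β k = β j₁ := by
            intro k hk
            by_cases hk1 : k = j₁
            · rw [hk1]
            by_cases hk2 : k = j₂
            · rw [hk2, h1]
            rcases hxor k j₁ hk hj₁' hk1 with ⟨h3, _⟩ | ⟨h3, _⟩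
            · rcases hxor k j₂ hk hj₂' hk2 with ⟨h4, _⟩ | ⟨h4, _⟩
              · exact absurd (h3.symm.trans h4) h2
              · rw [h4, h1]
            · exact h3
          refine ⟨-1, β j₁, α, Or.inr rfl, ?_, ?_, ?_⟩
          · intro j hj i
            have hne : β j₁ ≠ α j := by
              rw [← hall j hj]
              exact (hαβ j hj).symm
            by_cases hi1 : i = β j₁
            · rw [hi1, if_pos rfl, if_neg hne, ← hall j hj, hβ j hj]
              ring
            · by_cases hi2 : i = α j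
              · rw [hi2, if_neg (Ne.symm hne), if_pos rfl, hα j hj]
                ring
              · rw [if_neg hi1, if_neg hi2, hz j hj i hi2 (by rwa [hall j hj])]
                ring
          · intro j hj
            rw [← hall j hj]
            exact (hαβ j hj)
          · intro j k hj hk hjk
            by_contra hne
            rcases hxor j k hj hk hne with ⟨_, h4⟩ | ⟨_, h4⟩
            · exact h4 ((hall j hj).trans (hall k hk).symm)
            · exact h4 hjk
      refine ⟨σ', c, g, hσ', hdform, hgc, hginj, ?_⟩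
      have hσ2 : σ' * σ' = 1 := by rcases hσ' with rfl | rfl <;> norm_num
      have hpairing : ∀ j, j ≠ j₀ → σ' * (u j₀ c - u j₀ (g j)) = -1 := by
        intro j hj
        have h3 : ∑ i, d j i * u j₀ i = σ' * (u j₀ c - u j₀ (g j)) := by
          have h4 : ∀ i, d j i * u j₀ i = σ' * ((if i = c then u j₀ i else 0) - (if i = g j then u j₀ i else 0)) := by
            intro i
            rw [hdform j hj i]
            split_ifs <;> ring
          simp_rw [h4]
          rw [← Finset.mul_sum, Finset.sum_sub_distrib, Finset.sum_ite_eq', Finset.sum_ite_eq']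
          simp
        rw [← h3, hpairing0 j hj]
      -- values
      have hbd' : ∀ i, |σ' * u j₀ i| ≤ 1 := by
        intro i
        rw [abs_mul]
        have : |σ'| = 1 := by rcases hσ' with rfl | rfl <;> norm_num
        rw [this, one_mul]
        exact hbd j₀ i
      by_contra hne
      -- then `σ u(c) = 0` and `σ u(g j) = 1`
      have hg1 : ∀ j, j ≠ j₀ → σ' * u j₀ (g j) = 1 ∧ σ' * u j₀ c = 0 := by
        intro j hj
        have h1 := hpairing j hj
        have h2 := abs_le.1 (hbd' c)
        have h3 := abs_le.1 (hbd' (g j))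
        have h4 : σ' * u j₀ c - σ' * u j₀ (g j) = -1 := by linarith [mul_sub σ' (u j₀ c) (u j₀ (g j))]
        omega
      obtain ⟨D, hD0, hDorth, hDbd⟩ := hR c
      have hDeq : ∀ j, j ≠ j₀ → D (g j) = D c := by
        intro j hj
        have h1 := hDorth j
        have h2 := hDorth j₀
        have h3 : ∑ i, (D i : ℤ) * d j i = 0 := by
          have : ∑ i, (D i : ℤ) * d j i = ∑ i, (D i : ℤ) * u j i - ∑ i, (D i : ℤ) * u j₀ i := by
            rw [← Finset.sum_sub_distrib]
            refine Finset.sum_congr rfl fun i _ => ?_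
            simp only [d]; ring
          rw [this, h1, h2, sub_self]
        have h4 : ∑ i, (D i : ℤ) * d j i = σ' * ((D c : ℤ) - D (g j)) := by
          have h5 : ∀ i, (D i : ℤ) * d j i = σ' * ((if i = c then (D i : ℤ) else 0) - (if i = g j then (D i : ℤ) else 0)) := by
            intro i
            rw [hdform j hj i]
            split_ifs <;> ring
          simp_rw [h5]
          rw [← Finset.mul_sum, Finset.sum_sub_distrib, Finset.sum_ite_eq', Finset.sum_ite_eq']
          simp
        rw [h4] at h3
        have h6 : (D c : ℤ) - D (g j) = 0 := by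
          rcases mul_eq_zero.1 h3 with h7 | h7
          · rcases hσ' with rfl | rfl <;> omega
          · exact h7
        omega
      have hgne : g j₁ ≠ g j₂ := fun h => hj₁₂ (hginj j₁ j₂ hj₁' hj₂' h)
      have h1 := hDbd {g j₁, g j₂} j₀
      rw [Finset.sum_pair hgne, hDeq j₁ hj₁', hDeq j₂ hj₂'] at h1
      have h2 := (hg1 j₁ hj₁').1
      have h3 := (hg1 j₂ hj₂').1
      have h4 : (D c : ℤ) * u j₀ (g j₁) + (D c : ℤ) * u j₀ (g j₂) = σ' * (2 * (D c : ℤ)) := by
        have h5 : σ' * (σ' * u j₀ (g j₁)) = σ' * 1 := by rw [h2]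
        have h6 : σ' * (σ' * u j₀ (g j₂)) = σ' * 1 := by rw [h3]
        rw [← mul_assoc, hσ2, one_mul] at h5 h6
        rw [h5, h6]
        ring
      rw [h4, abs_mul] at h1
      have h5 : |σ'| = 1 := by rcases hσ' with rfl | rfl <;> norm_num
      rw [h5, one_mul, abs_of_nonneg (by positivity)] at h1
      have h6 : (1 : ℤ) ≤ (D c : ℤ) := by exact_mod_cast Nat.pos_of_ne_zero hD0
      omega
    · -- exactly two elements
      push Not at hcard2
      have h1 := hpairing0 j₁ hj₁
      have hsum : ∑ i, d j₁ i * u j₀ i = u j₀ (α j₁) - u j₀ (β j₁) := by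
        have h2 : ∑ i, d j₁ i * u j₀ i = d j₁ (α j₁) * u j₀ (α j₁) + d j₁ (β j₁) * u j₀ (β j₁) := by
          apply Fintype.sum_eq_add _ _ (hαβ j₁ hj₁)
          intro i hi
          rw [hz j₁ hj₁ i hi.1 hi.2, zero_mul]
        rw [h2, hα j₁ hj₁, hβ j₁ hj₁]
        ring
      rw [hsum] at h1
      have h2 := abs_le.1 (hbd j₀ (α j₁))
      have h3 := abs_le.1 (hbd j₀ (β j₁))
      have hcases : u j₀ (α j₁) = -1 ∨ u j₀ (β j₁) = 1 := by omega
      rcases hcases with h4 | h4
      · refine ⟨1, α j₁, fun _ => β j₁, Or.inl rfl, ?_, ?_, ?_, ?_⟩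
        · intro j hj i
          have hj' : j = j₁ := hcard2 j hj
          subst hj'
          by_cases hi1 : i = α j
          · rw [hi1, if_pos rfl, if_neg (hαβ j hj), hα j hj]
            ring
          · by_cases hi2 : i = β j
            · rw [hi2, if_neg (Ne.symm (hαβ j hj)), if_pos rfl, hβ j hj]
              ring
            · rw [if_neg hi1, if_neg hi2, hz j hj i hi1 hi2]
              ring
        · intro j hj
          exact (hαβ j₁ hj₁).symm
        · intro j k hj hk _
          have hj' : j = j₁ := hcard2 j hj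
          have hk' : k = j₁ := hcard2 k hk
          rw [hj', hk']
        · rw [h4]; norm_num
      · refine ⟨-1, β j₁, fun _ => α j₁, Or.inr rfl, ?_, ?_, ?_, ?_⟩
        · intro j hj i
          have hj' : j = j₁ := hcard2 j hj
          subst hj'
          by_cases hi1 : i = α j
          · rw [hi1, if_pos rfl, if_neg (hαβ j hj), hα j hj]
            ring
          · by_cases hi2 : i = β j
            · rw [hi2, if_neg (Ne.symm (hαβ j hj)), if_pos rfl, hβ j hj]
              ring
            · rw [if_neg hi1, if_neg hi2, hz j hj i hi1 hi2]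
              ring
        · intro j hj
          exact (hαβ j₁ hj₁)
        · intro j k hj hk _
          have hj' : j = j₁ := hcard2 j hj
          have hk' : k = j₁ := hcard2 k hk
          rw [hj', hk']
        · rw [h4]; norm_num
  have hσ2 : σ' * σ' = 1 := by rcases hσ' with rfl | rfl <;> norm_num
  have hpairing : ∀ j, j ≠ j₀ → σ' * (u j₀ c - u j₀ (g j)) = -1 := by
    intro j hj
    have h3 : ∑ i, d j i * u j₀ i = σ' * (u j₀ c - u j₀ (g j)) := by
      have h4 : ∀ i, d j i * u j₀ i = σ' * ((if i = c then u j₀ i else 0) - (if i = g j then u j₀ i else 0)) := by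
        intro i
        rw [hdform j hj i]
        split_ifs <;> ring
      simp_rw [h4]
      rw [← Finset.mul_sum, Finset.sum_sub_distrib, Finset.sum_ite_eq', Finset.sum_ite_eq']
      simp
    rw [← h3, hpairing0 j hj]
  have hg0 : ∀ j, j ≠ j₀ → u j₀ (g j) = 0 := by
    intro j hj
    have h1 := hpairing j hj
    have h2 : σ' * u j₀ (g j) = 0 := by linarith [mul_sub σ' (u j₀ c) (u j₀ (g j))]
    rcases mul_eq_zero.1 h2 with h3 | h3
    · rcases hσ' with rfl | rfl <;> omega
    · exact h3
  have hcval : u j₀ c = -σ' := by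
    have : σ' * (σ' * u j₀ c) = σ' * (-1) := by rw [hy]
    rw [← mul_assoc, hσ2, one_mul] at this
    linarith
  refine ⟨fun i => u j₀ i + σ' * (if i = c then 1 else 0), fun j => if j = j₀ then c else g j, -σ', ?_, ?_, ?_, ?_⟩
  · rcases hσ' with rfl | rfl <;> simp
  · intro a b hab
    by_cases ha : a = j₀ <;> by_cases hb : b = j₀
    · rw [ha, hb]
    · simp only [ha, hb, if_true, if_false] at hab
      exact absurd hab.symm (hgc b hb)
    · simp only [ha, hb, if_true, if_false] at hab
      exact absurd hab (hgc a ha)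
    · simp only [ha, hb, if_false] at hab
      exact hginj a b ha hb hab
  · intro j
    by_cases hj : j = j₀
    · simp only [hj, if_true]
      rw [hcval]; ring
    · simp only [hj, if_false]
      rw [hg0 j hj, if_neg (hgc j hj)]; ring
  · intro j i
    by_cases hj : j = j₀
    · subst hj
      simp only [if_true]
      ring
    · simp only [hj, if_false]
      have h1 := hdform j hj i
      simp only [d] at h1
      have h2 : u j i = u j₀ i + σ' * ((if i = c then 1 else 0) - (if i = g j then 1 else 0)) := by linarith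
      rw [h2]
      ring

end Cfsg.Agent.Lib.RangeSun
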