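import Mathlib
import Cfsg.Agent.Lib.RangeB0
import Cfsg.Agent.Lib.RangeSun
import Cfsg.Agent.Lib.BlockOrtho
import Cfsg.Agent.Lib.CoprimeClass
import Cfsg.Agent.Lib.BlkOrth

/-!
# The structure of the principal block for a Sylow subgroup of prime order

`P` a Sylow subgroup of prime order `p`, `C = C(P) = P × K`, `t = |N(P) : C|`.  The differences `a_f - a_1`, `a_f` the multiplicity
of `f ∘ r` in `χ|_C`, have the form `w + σ e_{ξ f}`.
-/

set_option autoImplicit false
set_option linter.style.haveILetI false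
set_option linter.unusedSectionVars false
set_option linter.unusedVariables false

namespace Cfsg.Agent.Lib.RangeStruct

open Cfsg Cfsg.Agent.Lib.CharBasic Subgroup Cfsg.Agent.Lib.DefectOne Cfsg.Agent.Lib.BlkBasic
open Cfsg.Agent.Lib.TICent Cfsg.Agent.Lib.RangeB0 Cfsg.Agent.Lib.RangeSun
open scoped ComplexConjugate

variable {G : Type*} [Group G] [Fintype G] [DecidableEq G] {p : ℕ} {P C : Subgroup G} {r : ↥C →* ↥P} {e₀ : ℕ}

section Regular

variable (H : Cfsg.Agent.Lib.TICent.Hyp p P C r e₀)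
include H

/-- The retraction is trivial on `p`-regular elements. -/
theorem r_eq_one {c : ↥C} (hc : ¬ p ∣ orderOf (c : G)) : r c = 1 := by
  haveI : Fact p.Prime := ⟨H.prime⟩
  obtain ⟨k, hk⟩ := (IsPGroup.iff_orderOf.1 H.pgroup) (r c)
  have h1 : orderOf (r c) ∣ orderOf c := orderOf_map_dvd r c
  rw [hk, ← Subgroup.orderOf_coe] at h1
  rcases Nat.eq_zero_or_pos k with h0 | h0
  · rw [h0, pow_zero, orderOf_eq_one_iff] at hk
    exact hk
  · exfalso
    apply hc
    exact dvd_trans (dvd_pow_self p h0.ne') h1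

/-- `Θ_f` vanishes at `p`-regular elements. -/
theorem tF_regular (f : ↥P →* ℂˣ) {g : G} (hg : ¬ p ∣ orderOf g) : tF r f g = 0 := by
  classical
  haveI : Fintype ↥C := Fintype.ofFinite _
  unfold tF theta indFun
  rw [Finset.sum_eq_zero, mul_zero]
  intro x _
  by_cases hy : x⁻¹ * g * x ∈ C
  · have h1 : extendByZero C (alpha (f.comp r)) (x⁻¹ * g * x) = alpha (f.comp r) ⟨x⁻¹ * g * x, hy⟩ :=
      Cfsg.Agent.Lib.CharInd.extendByZero_coe C _ ⟨x⁻¹ * g * x, hy⟩
    rw [h1]
    apply alpha_comp_eq_zero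
    apply r_eq_one H
    show ¬ p ∣ orderOf (x⁻¹ * g * x)
    have h2 : orderOf (x⁻¹ * g * x) = orderOf g := by
      have := orderOf_injective (MulAut.conj x⁻¹).toMonoidHom (MulAut.conj x⁻¹).injective g
      simpa using this
    rw [h2]
    exact hg
  · exact Cfsg.Agent.Lib.CharInd.extendByZero_of_not_mem C _ hy

end Regular

section Main

variable (H : Cfsg.Agent.Lib.TICent.Hyp p P C r e₀) [Fintype C] [Fintype P] [Fintype r.ker]
include H

/-- The multiplicities exist. -/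
theorem exists_a : ∃ a : (↥P →* ℂˣ) → IrrCharacter G → ℕ,
    ∀ (f : ↥P →* ℂˣ) (χ : IrrCharacter G), classInner (chi (f.comp r)) (fun c : ↥C => (χ : G → ℂ) c) = (a f χ : ℂ) := by
  have h : ∀ (f : ↥P →* ℂˣ) (χ : IrrCharacter G), ∃ n : ℕ, classInner (chi (f.comp r)) (fun c : ↥C => (χ : G → ℂ) c) = n :=
    fun f χ => classInner_char_char (IsIrrCharacter.isCharacter (isIrr_chi _))
      (isCharacter_restrict C (IsIrrCharacter.isCharacter χ.2))
  choose a ha using h
  exact ⟨a, ha⟩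

/-- The coefficients of `Θ_f`. -/
theorem classInner_tF {a : (↥P →* ℂˣ) → IrrCharacter G → ℕ}
    (ha : ∀ (f : ↥P →* ℂˣ) (χ : IrrCharacter G), classInner (chi (f.comp r)) (fun c : ↥C => (χ : G → ℂ) c) = (a f χ : ℂ))
    (f : ↥P →* ℂˣ) (χ : IrrCharacter G) :
    classInner (tF r f) (χ : G → ℂ) = (((a f χ : ℤ) - a 1 χ : ℤ) : ℂ) := by
  unfold tF
  rw [classInner_theta _ (isClassFunction_of_isCharacter (IsIrrCharacter.isCharacter χ.2))]
  have h1 : (1 : ↥C →* ℂˣ) = (1 : ↥P →* ℂˣ).comp r := (MonoidHom.one_comp r).symm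
  rw [h1, ha, ha]
  simp

/-- The expansion of `avg`. -/
theorem avg_eq_sum [Fintype (↥P →* ℂˣ)] {a : (↥P →* ℂˣ) → IrrCharacter G → ℕ}
    (ha : ∀ (f : ↥P →* ℂˣ) (χ : IrrCharacter G), classInner (chi (f.comp r)) (fun c : ↥C => (χ : G → ℂ) c) = (a f χ : ℂ))
    (χ : IrrCharacter G) (z : ↥P) :
    avg r H (χ : G → ℂ) z = ∑ f : ↥P →* ℂˣ, (a f χ : ℂ) * chi f z := by
  classical
  have hc : ∀ u ∈ P, ∀ v ∈ P, u * v = v * u := fun u hu v hv => (H.comm_P hu hv).symm
  have h1 := fourier hc (avg r H (χ : G → ℂ)) z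
  have h2 : ∀ f : ↥P →* ℂˣ, classInner (chi f) (avg r H (χ : G → ℂ)) = (a f χ : ℂ) := by
    intro f
    rw [← H.inner_eq f (χ : G → ℂ), ha]
  simp_rw [h2] at h1
  have h3 := congrArg conj h1
  rw [Complex.conj_conj, map_sum] at h3
  rw [← h3]
  refine Finset.sum_congr rfl fun f _ => ?_
  rw [map_mul, Complex.conj_conj, Complex.conj_natCast]

/-- `a` is invariant under the normalizer. -/
theorem a_smul {a : (↥P →* ℂˣ) → IrrCharacter G → ℕ}
    (ha : ∀ (f : ↥P →* ℂˣ) (χ : IrrCharacter G), classInner (chi (f.comp r)) (fun c : ↥C => (χ : G → ℂ) c) = (a f χ : ℂ))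
    (x : normalizer (P : Set G)) (f : ↥P →* ℂˣ) (χ : IrrCharacter G) : a (x • f) χ = a f χ := by
  have h1 := H.inner_smul_C x f (isClassFunction_of_isCharacter (IsIrrCharacter.isCharacter χ.2))
  rw [ha, ha] at h1
  exact_mod_cast h1

/-- **Structure theorem.** -/
theorem struct_main {M : Ideal AlgInt} {t : ℕ} (hcard : Nat.card P = p) (hidx : ¬ p ∣ P.index) (hM : IsPModular p M)
    (hN : Nat.card (normalizer (P : Set G)) = Nat.card C * t) {a : (↥P →* ℂˣ) → IrrCharacter G → ℕ}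
    (ha : ∀ (f : ↥P →* ℂˣ) (χ : IrrCharacter G), classInner (chi (f.comp r)) (fun c : ↥C => (χ : G → ℂ) c) = (a f χ : ℂ)) :
    ∃ (w : IrrCharacter G → ℤ) (σ : ℤ) (ξ : NT P → IrrCharacter G),
      (σ = 1 ∨ σ = -1) ∧
      (∀ (f : NT P) (χ : IrrCharacter G), (a f.1 χ : ℤ) - a 1 χ = w χ + σ * (if χ = ξ f then 1 else 0)) ∧
      (∀ f, w (ξ f) = 0) ∧ (∀ f g : NT P, ξ f = ξ g ↔ ∃ x : normalizer (P : Set G), x • f = g) ∧
      (∑ χ, (w χ) ^ 2 = t) ∧ (∀ χ, w χ = 0 ∨ w χ = 1 ∨ w χ = -1) ∧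
      (∀ (f : NT P) (g : G), ¬ p ∣ orderOf g →
        ∑ χ : IrrCharacter G, (w χ : ℂ) * (χ : G → ℂ) g + (σ : ℂ) * ((ξ f : IrrCharacter G) : G → ℂ) g = 0) ∧
      Nat.card (Set.range ξ) * t = p - 1 := by
  classical
  have hc : ∀ u ∈ P, ∀ v ∈ P, u * v = v * u := fun u hu v hv => (H.comm_P hu hv).symm
  haveI : Fintype (normalizer (P : Set G)) := Fintype.ofFinite _
  haveI : Finite (↥P →* ℂˣ) := dual_finite hc
  letI : Fintype (↥P →* ℂˣ) := Fintype.ofFinite _
  letI : Fintype (MulAction.orbitRel.Quotient ↥(normalizer (P : Set G)) (NT P)) := Fintype.ofFinite _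
  let J := MulAction.orbitRel.Quotient ↥(normalizer (P : Set G)) (NT P)
  let o : J → NT P := fun j => Quotient.out j
  have hchar : ∀ i : IrrCharacter G, IsCharacter G (i : G → ℂ) := fun i => IsIrrCharacter.isCharacter i.2
  have hclass : ∀ i : IrrCharacter G, IsClassFunction G (i : G → ℂ) :=
    fun i => isClassFunction_of_isCharacter (hchar i)
  have hdeg0 : ∀ i : IrrCharacter G, ∃ n : ℕ, 0 < n ∧ (i : G → ℂ) 1 = n :=
    fun i => Cfsg.Agent.Lib.CharLattice.exists_degree_pos i.2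
  choose d hdpos hd using hdeg0
  let u : J → IrrCharacter G → ℤ := fun j i => (a (o j).1 i : ℤ) - a 1 i
  have hu : ∀ (j : J) (i : IrrCharacter G), classInner (tF r (o j).1) (i : G → ℂ) = u j i :=
    fun j i => classInner_tF H ha (o j).1 i
  have hinner : ∀ j k, ∑ i, u j i * u k i = (t : ℤ) + if j = k then 1 else 0 := by
    intro j k
    have h1 := H.inner_tF hN (o j).2 (o k).2
    rw [parseval (tF_isClass r _)] at h1
    have h2 : (∃ x : normalizer (P : Set G), x • (o k).1 = (o j).1) ↔ j = k := by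
      constructor
      · rintro ⟨x, hx⟩
        have h3 : x • (o k) = o j := Subtype.ext hx
        have h4 : (Quotient.mk _ (o j) : J) = Quotient.mk _ (o k) := by
          apply Quotient.sound
          exact ⟨x, h3⟩
        have h5 : ∀ l : J, (Quotient.mk _ (o l) : J) = l := fun l => Quotient.out_eq l
        rw [h5, h5] at h4
        exact h4
      · rintro rfl
        exact ⟨1, one_smul _ _⟩
    simp only [h2] at h1
    have h3 : ∀ i : IrrCharacter G, conj (classInner (tF r (o k).1) (i : G → ℂ)) *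
        classInner (tF r (o j).1) (i : G → ℂ) = ((u j i * u k i : ℤ) : ℂ) := by
      intro i
      rw [hu, hu]
      simp only [Int.cast_mul, map_intCast]
      ring
    simp_rw [h3] at h1
    rw [← Int.cast_sum] at h1
    have h4 : ((∑ i, u j i * u k i : ℤ) : ℂ) = (((t : ℤ) + if j = k then 1 else 0 : ℤ) : ℂ) := by
      rw [h1]
      split_ifs <;> simp
    exact_mod_cast h4
  have hzero : ∀ j, ∑ i, (d i : ℤ) * u j i = 0 := by
    intro j
    have h1 := eval_eq_sum (tF_isClass r (o j).1) 1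
    rw [tF_one] at h1
    have h2 : ∀ i : IrrCharacter G, classInner (tF r (o j).1) (i : G → ℂ) * (i : G → ℂ) 1 =
        (((d i : ℤ) * u j i : ℤ) : ℂ) := by
      intro i
      rw [hu, hd]
      push_cast
      ring
    simp_rw [h2] at h1
    rw [← Int.cast_sum] at h1
    exact_mod_cast h1.symm
  -- nontrivial characters exist
  have hp := H.prime
  haveI hJne : Nonempty J := by
    have h1 : Nat.card (↥P →* ℂˣ) = p := by rw [card_dual hc, hcard]
    have h2 : Nontrivial (↥P →* ℂˣ) := by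
      rw [← Finite.one_lt_card_iff_nontrivial, h1]
      exact hp.one_lt
    obtain ⟨f, hf⟩ := exists_ne (1 : ↥P →* ℂˣ)
    exact ⟨Quotient.mk _ ⟨f, hf⟩⟩
  have hR : ∀ i₀ : IrrCharacter G, ∃ D : IrrCharacter G → ℕ, D i₀ ≠ 0 ∧ (∀ j, ∑ i, (D i : ℤ) * u j i = 0) ∧
      ∀ (S : Finset (IrrCharacter G)) (j : J), |∑ i ∈ S, (D i : ℤ) * u j i| ≤ 1 := by
    intro i₀
    obtain ⟨D, h1, h2, h3⟩ := pim_bounds_C H hcard hidx hM a ha i₀
    exact ⟨D, h1, fun j => h2 _, fun S j => h3 S _⟩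
  obtain ⟨w, e, σ, hσ, hinj, hwe, hform⟩ := sunflower2 t u (fun i => (d i : ℤ))
    (fun i => by exact_mod_cast hdpos i) hinner (fun j k => by rw [hzero, hzero]) hJne hR
  have hbd : ∀ j i, |u j i| ≤ 1 := by
    intro j i
    obtain ⟨D, hD0, -, hD2⟩ := hR i
    have h1 := hD2 {i} j
    rw [Finset.sum_singleton, abs_mul] at h1
    have h2 : (1 : ℤ) ≤ |(D i : ℤ)| := by
      rw [Nat.abs_cast]
      exact_mod_cast Nat.pos_of_ne_zero hD0
    have h3 := abs_nonneg (u j i)
    nlinarith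
  obtain ⟨j₁⟩ := hJne
  have hout : ∀ b : NT P, ∃ x : normalizer (P : Set G), x • b = o (Quotient.mk _ b) := by
    intro b
    have h1 : (Quotient.out (Quotient.mk _ b : J)) ∈ MulAction.orbit (normalizer (P : Set G)) b :=
      Quotient.mk_out (s := MulAction.orbitRel (normalizer (P : Set G)) (NT P)) b
    obtain ⟨x, hx⟩ := h1
    exact ⟨x, hx⟩
  have ha_o : ∀ (b : NT P) (i : IrrCharacter G), a (o (Quotient.mk _ b)).1 i = a b.1 i := by
    intro b i
    obtain ⟨x, hx⟩ := hout b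
    rw [← hx, ntAction_coe, a_smul H ha]
  refine ⟨w, σ, fun f => e (Quotient.mk _ f), hσ, ?_, ?_, ?_, ?_, ?_, ?_, ?_⟩
  · intro f χ
    have h1 := hform (Quotient.mk _ f) χ
    simp only [u, ha_o] at h1
    exact h1
  · intro f
    exact hwe _
  · intro f g
    constructor
    · intro h
      have h1 : (Quotient.mk _ f : J) = Quotient.mk _ g := hinj h
      have h2 := Quotient.exact h1
      obtain ⟨x, hx⟩ := (MulAction.orbitRel_apply.1 h2)
      have h3 : x • g = f := hx
      exact ⟨x⁻¹, by rw [← h3, inv_smul_smul]⟩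
    · rintro ⟨x, rfl⟩
      have h1 : (Quotient.mk _ (x • f) : J) = Quotient.mk _ f := by
        apply Quotient.sound
        exact ⟨x, rfl⟩
      show e _ = e _
      rw [← h1]
  · have hσ2 : σ * σ = 1 := by rcases hσ with rfl | rfl <;> norm_num
    have h1 := hinner j₁ j₁
    rw [if_pos rfl] at h1
    have h2 : ∀ i, u j₁ i * u j₁ i = w i ^ 2 + ((if i = e j₁ then 2 * σ * w i else 0) + (if i = e j₁ then 1 else 0)) := by
      intro i
      rw [hform j₁ i]
      by_cases h3 : i = e j₁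
      · simp only [if_pos h3]
        rw [h3, hwe j₁]
        nlinarith
      · simp only [if_neg h3]
        ring
    simp_rw [h2] at h1
    rw [Finset.sum_add_distrib, Finset.sum_add_distrib, Finset.sum_ite_eq', Finset.sum_ite_eq'] at h1
    simp only [Finset.mem_univ, if_true, hwe j₁] at h1
    linarith
  · intro χ
    by_cases h1 : χ = e j₁
    · left
      rw [h1]
      exact hwe j₁
    · have h2 := hbd j₁ χ
      rw [hform j₁ χ, if_neg h1, mul_zero, add_zero] at h2
      have := abs_le.1 h2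
      omega
  · intro f g hg
    have h1 := eval_eq_sum (tF_isClass r f.1) g
    rw [tF_regular H f.1 hg] at h1
    have h2 : ∀ i : IrrCharacter G, classInner (tF r f.1) (i : G → ℂ) * (i : G → ℂ) g =
        (w i : ℂ) * (i : G → ℂ) g + (σ : ℂ) * (if i = e (Quotient.mk _ f) then (i : G → ℂ) g else 0) := by
      intro i
      rw [classInner_tF H ha]
      have h3 := hform (Quotient.mk _ f) i
      simp only [u, ha_o] at h3
      rw [h3]
      push_cast
      split_ifs <;> ring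
    simp_rw [h2] at h1
    rw [Finset.sum_add_distrib, ← Finset.mul_sum, Finset.sum_ite_eq'] at h1
    simpa using h1.symm
  · have hrange : Set.range (fun f : NT P => e (Quotient.mk _ f)) = Set.range e := by
      ext i
      constructor
      · rintro ⟨f, rfl⟩
        exact ⟨_, rfl⟩
      · rintro ⟨j, rfl⟩
        obtain ⟨f, rfl⟩ := Quotient.exists_rep j
        exact ⟨f, rfl⟩
    rw [hrange, Nat.card_range_of_injective hinj, Nat.card_eq_fintype_card]
    have h1 := H.sum_dual_eq hN (fun _ => 1) (fun _ _ _ => rfl)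
    simp only [Finset.sum_const, Finset.card_univ, nsmul_eq_mul, mul_one] at h1
    rw [← Nat.card_eq_fintype_card (α := ↥P →* ℂˣ), card_dual hc, hcard] at h1
    have h2 : (p : ℤ) = 1 + t * Fintype.card J := by
      simpa using h1
    have h3 : p = 1 + t * Fintype.card J := by exact_mod_cast h2
    rw [h3]
    simp [mul_comm]

end Main

section Block

variable (H : Cfsg.Agent.Lib.TICent.Hyp p P C r e₀) [Fintype C] [Fintype P] [Fintype r.ker] {M : Ideal AlgInt}
include H

/-- Outside the principal block `a_f` does not depend on `f`. -/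
theorem a_eq_of_not_mem (hM : IsPModular p M) {a : (↥P →* ℂˣ) → IrrCharacter G → ℕ}
    (ha : ∀ (f : ↥P →* ℂˣ) (χ : IrrCharacter G), classInner (chi (f.comp r)) (fun c : ↥C => (χ : G → ℂ) c) = (a f χ : ℂ))
    {χ : IrrCharacter G} (hχ : χ ∉ principalBlock M G) (f : ↥P →* ℂˣ) : a f χ = a 1 χ := by
  classical
  have h0 : ∀ z : ↥P, z ≠ 1 → avg r H (χ : G → ℂ) z = 0 := by
    intro z hz
    have h1 := H.blkInd_mul hM hz (y := 1) (map_one r) χ
    rw [blkInd_of_not_mem hχ, zero_mul] at h1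
    exact h1.symm
  have h1 : ∀ g : ↥P →* ℂˣ, classInner (chi g) (avg r H (χ : G → ℂ)) =
      (Nat.card P : ℂ)⁻¹ * conj (avg r H (χ : G → ℂ) 1) := by
    intro g
    unfold classInner
    congr 1
    rw [Finset.sum_eq_single (1 : ↥P)]
    · simp [chi]
    · intro b _ hb
      rw [h0 b hb, map_zero, mul_zero]
    · intro h
      exact absurd (Finset.mem_univ _) h
  have h2 : (a f χ : ℂ) = a 1 χ := by
    rw [← ha, ← ha, H.inner_eq, H.inner_eq, h1, h1]
  exact_mod_cast h2

/-- Values on the principal block. -/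
theorem val_principal [Fintype (↥P →* ℂˣ)] (hM : IsPModular p M) {a : (↥P →* ℂˣ) → IrrCharacter G → ℕ}
    (ha : ∀ (f : ↥P →* ℂˣ) (χ : IrrCharacter G), classInner (chi (f.comp r)) (fun c : ↥C => (χ : G → ℂ) c) = (a f χ : ℂ))
    {χ : IrrCharacter G} (hχ : χ ∈ principalBlock M G) {z : ↥P} (hz : z ≠ 1) {y : ↥C} (hy : r y = 1) :
    (χ : G → ℂ) ((z : G) * (y : G)) = ∑ f : ↥P →* ℂˣ, ((a f χ : ℂ) - a 1 χ) * chi f z := by
  classical
  have hc : ∀ u ∈ P, ∀ v ∈ P, u * v = v * u := fun u hu v hv => (H.comm_P hu hv).symm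
  have h1 := H.blkInd_mul hM hz hy χ
  rw [blkInd_of_mem hχ, one_mul] at h1
  rw [h1, avg_eq_sum H ha]
  simp_rw [sub_mul]
  rw [Finset.sum_sub_distrib, ← Finset.mul_sum, sum_dual hc hz, mul_zero, sub_zero]

/-- The multiplicities on `P` and `C` agree up to a constant on the principal block. -/
theorem m_sub_eq (hM : IsPModular p M) {a : (↥P →* ℂˣ) → IrrCharacter G → ℕ}
    (ha : ∀ (f : ↥P →* ℂˣ) (χ : IrrCharacter G), classInner (chi (f.comp r)) (fun c : ↥C => (χ : G → ℂ) c) = (a f χ : ℂ))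
    {χ : IrrCharacter G} (hχ : χ ∈ principalBlock M G) (f : ↥P →* ℂˣ) :
    classInner (chi f) (fun z : ↥P => (χ : G → ℂ) z) - (a f χ : ℂ) =
      (Nat.card P : ℂ)⁻¹ * conj ((χ : G → ℂ) 1 - avg r H (χ : G → ℂ) 1) := by
  classical
  rw [← ha, H.inner_eq]
  unfold classInner
  rw [← mul_sub, ← Finset.sum_sub_distrib]
  congr 1
  rw [Finset.sum_eq_single (1 : ↥P)]
  · simp [chi]
  · intro z _ hz
    have h1 := H.blkInd_mul hM hz (y := 1) (map_one r) χ
    rw [blkInd_of_mem hχ, one_mul] at h1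
    have h2 : (χ : G → ℂ) (z : G) = avg r H (χ : G → ℂ) z := by
      rw [← h1]
      simp
    beta_reduce
    rw [h2, sub_self]
  · intro h
    exact absurd (Finset.mem_univ _) h

/-- The degree formula on the principal block. -/
theorem degree_principal [Fintype (↥P →* ℂˣ)] (hcard : Nat.card P = p) (hM : IsPModular p M) {a : (↥P →* ℂˣ) → IrrCharacter G → ℕ}
    (ha : ∀ (f : ↥P →* ℂˣ) (χ : IrrCharacter G), classInner (chi (f.comp r)) (fun c : ↥C => (χ : G → ℂ) c) = (a f χ : ℂ))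
    {χ : IrrCharacter G} (hχ : χ ∈ principalBlock M G) :
    ∃ n : ℤ, (charDegree (χ : G → ℂ) : ℤ) = p * n + ∑ f : ↥P →* ℂˣ, ((a f χ : ℤ) - a 1 χ) := by
  classical
  have hc : ∀ u ∈ P, ∀ v ∈ P, u * v = v * u := fun u hu v hv => (H.comm_P hu hv).symm
  have hic := IsIrrCharacter.isCharacter χ.2
  have hm : ∀ f : ↥P →* ℂˣ, ∃ n : ℕ, classInner (chi f) (fun z : ↥P => (χ : G → ℂ) z) = n :=
    fun f => classInner_char_char (IsIrrCharacter.isCharacter (isIrr_chi f)) (isCharacter_restrict P hic)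
  choose m hm using hm
  have h1 : ∀ f : ↥P →* ℂˣ, (m f : ℤ) - m 1 = (a f χ : ℤ) - a 1 χ := by
    intro f
    have h2 := m_sub_eq H hM ha hχ f
    have h3 := m_sub_eq H hM ha hχ 1
    rw [hm] at h2 h3
    have h4 : (m f : ℂ) - a f χ = (m 1 : ℂ) - a 1 χ := by rw [h2, h3]
    have h5 : (((m f : ℤ) - a f χ : ℤ) : ℂ) = (((m 1 : ℤ) - a 1 χ : ℤ) : ℂ) := by
      push_cast
      exact h4
    have h6 : (m f : ℤ) - a f χ = (m 1 : ℤ) - a 1 χ := by exact_mod_cast h5
    omega
  have hsum : ((∑ f, m f : ℕ) : ℂ) = (charDegree (χ : G → ℂ) : ℂ) := by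
    have h2 := sum_classInner hc (fun z : ↥P => (χ : G → ℂ) z)
    simp_rw [hm] at h2
    push_cast
    rw [h2]
    simp only [Subgroup.coe_one]
    rw [Cfsg.Agent.Lib.CharKernel.one_eq_charDegree hic, Complex.conj_natCast]
  have hsum' : (∑ f, (m f : ℤ)) = charDegree (χ : G → ℂ) := by
    have : ∑ f, m f = charDegree (χ : G → ℂ) := by exact_mod_cast hsum
    exact_mod_cast this
  refine ⟨m 1, ?_⟩
  rw [← hsum']
  have h2 : ∀ f, (m f : ℤ) = (m 1 : ℤ) + ((a f χ : ℤ) - a 1 χ) := by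
    intro f
    have := h1 f
    omega
  rw [Finset.sum_congr rfl (fun f _ => h2 f)]
  rw [Finset.sum_add_distrib, Finset.sum_const, Finset.card_univ, ← Nat.card_eq_fintype_card, card_dual hc, hcard]
  simp

/-- A character of the principal block does not vanish on all `p`-singular elements. -/
theorem exists_ne_of_mem (hcard : Nat.card P = p) (hidx : ¬ p ∣ P.index) (hM : IsPModular p M) {a : (↥P →* ℂˣ) → IrrCharacter G → ℕ}
    (ha : ∀ (f : ↥P →* ℂˣ) (χ : IrrCharacter G), classInner (chi (f.comp r)) (fun c : ↥C => (χ : G → ℂ) c) = (a f χ : ℂ))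
    {χ : IrrCharacter G} (hχ : χ ∈ principalBlock M G) : ∃ f : NT P, a f.1 χ ≠ a 1 χ := by
  classical
  haveI hfact : Fact p.Prime := ⟨H.prime⟩
  have hc : ∀ u ∈ P, ∀ v ∈ P, u * v = v * u := fun u hu v hv => (H.comm_P hu hv).symm
  haveI : Finite (↥P →* ℂˣ) := dual_finite hc
  letI : Fintype (↥P →* ℂˣ) := Fintype.ofFinite _
  by_contra hall
  push Not at hall
  have hall' : ∀ f : ↥P →* ℂˣ, a f χ = a 1 χ := by
    intro f
    by_cases hf : f = 1
    · rw [hf]
    · exact hall ⟨f, hf⟩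
  have hic := IsIrrCharacter.isCharacter χ.2
  have hval : ∀ (z : ↥P), z ≠ 1 → ∀ y : ↥C, r y = 1 → (χ : G → ℂ) ((z : G) * (y : G)) = 0 := by
    intro z hz y hy
    rw [val_principal H hM ha hχ hz hy]
    apply Finset.sum_eq_zero
    intro f _
    rw [hall' f, sub_self, zero_mul]
  have hsing : ∀ g : G, p ∣ orderOf g → (χ : G → ℂ) g = 0 := by
    intro g hg
    obtain ⟨x, y, hxy, hcomm, ⟨k, hk⟩, hy⟩ := Cfsg.Agent.Lib.BlkOrth.exists_isPPart hM.1 g
    have hx1 : x ≠ 1 := by
      rintro rfl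
      rw [one_mul] at hxy
      rw [← hxy] at hg
      exact hy hg
    have hxp : x ^ (p ^ k) = 1 := by rw [← hk]; exact pow_orderOf_eq_one x
    obtain ⟨t, ht⟩ := Cfsg.Agent.Lib.CoprimeClass.exists_conj_mem_of_not_dvd P hidx hxp
    set z : ↥P := ⟨t⁻¹ * x * t, ht⟩ with hz
    have hz1 : z ≠ 1 := by
      intro h0
      apply hx1
      have h1 : t⁻¹ * x * t = 1 := congrArg Subtype.val h0
      have h2 : x = t * (t⁻¹ * x * t) * t⁻¹ := by group
      rw [h2, h1]
      simp
    have hyC : t⁻¹ * y * t ∈ C := by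
      rw [← H.star _ z.2 (fun h => hz1 (Subtype.ext h)), mem_centralizer_singleton_iff]
      show t⁻¹ * y * t * (t⁻¹ * x * t) = t⁻¹ * x * t * (t⁻¹ * y * t)
      have : y * x = x * y := hcomm.eq.symm
      calc t⁻¹ * y * t * (t⁻¹ * x * t) = t⁻¹ * (y * x) * t := by group
        _ = t⁻¹ * (x * y) * t := by rw [this]
        _ = _ := by group
    have hyord : ¬ p ∣ orderOf (t⁻¹ * y * t) := by
      have h2 : orderOf (t⁻¹ * y * t) = orderOf y := by
        have := orderOf_injective (MulAut.conj t⁻¹).toMonoidHom (MulAut.conj t⁻¹).injective y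
        simpa using this
      rw [h2]
      exact hy
    have h3 := hval z hz1 ⟨_, hyC⟩ (r_eq_one H hyord)
    have h4 : (z : G) * ((⟨_, hyC⟩ : ↥C) : G) = t⁻¹ * g * t := by
      show t⁻¹ * x * t * (t⁻¹ * y * t) = _
      rw [← hxy]
      group
    rw [h4] at h3
    have h5 := (isClassFunction_of_isCharacter hic) g t⁻¹
    simp only [inv_inv] at h5
    rw [← h5]
    exact h3
  have hdvd := Cfsg.Agent.Lib.BlockOrtho.dvd_charDegree_of_vanish hM.1 hic hsing
  -- the trivial character is in the block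
  haveI := hM.2.1.isPrime
  have h1 : oneIrr G ∈ blockOf M (χ : G → ℂ) := by
    have h2 : SameBlock M (fun _ : G => (1 : ℂ)) (χ : G → ℂ) := hχ
    exact Cfsg.Agent.Lib.BlockIdem.sameBlock_symm h2
  have h2 := Cfsg.Agent.Lib.BlockOrtho.eq_of_mem_blockOf_of_dvd hM hdvd h1
  -- `p`-singular elements exist
  obtain ⟨z, hz⟩ : ∃ z : ↥P, z ≠ 1 := by
    have : Nontrivial ↥P := by
      rw [← Finite.one_lt_card_iff_nontrivial, hcard]
      exact H.prime.one_lt
    exact exists_ne 1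
  have h3 := hval z hz 1 (map_one r)
  have h4 : ((oneIrr G : IrrCharacter G) : G → ℂ) ((z : G) * ((1 : ↥C) : G)) = 1 := rfl
  rw [← h2, h4] at h3
  exact one_ne_zero h3

end Block

end Cfsg.Agent.Lib.RangeStruct
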