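import Mathlib
import Cfsg.Agent.Lib.RangeStruct

/-!
# The principal block for a Sylow subgroup of prime order
-/

set_option autoImplicit false
set_option linter.style.haveILetI false
set_option linter.unusedSectionVars false
set_option linter.unusedVariables false

namespace Cfsg.Agent.Lib.RangeP0

open Cfsg Cfsg.Agent.Lib.CharBasic Subgroup Cfsg.Agent.Lib.DefectOne Cfsg.Agent.Lib.BlkBasic
open Cfsg.Agent.Lib.TICent Cfsg.Agent.Lib.RangeB0 Cfsg.Agent.Lib.RangeSun Cfsg.Agent.Lib.RangeStruct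
open scoped ComplexConjugate

/-- The star hypothesis for a subgroup of prime order. -/
theorem star_of_prime {G : Type*} [Group G] [Finite G] {p : ℕ} (hp : p.Prime) {P : Subgroup G} (hP : Nat.card P = p)
    (x : G) (hx : x ∈ P) (hx1 : x ≠ 1) : centralizer ({x} : Set G) = centralizer (P : Set G) := by
  have hz := Cfsg.Agent.Lib.SmallGroups2.zpowers_eq_of_mem_of_ne_one hp hP hx hx1
  ext g
  rw [mem_centralizer_singleton_iff, mem_centralizer_iff]
  constructor
  · intro h u hu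
    rw [← hz] at hu
    obtain ⟨i, rfl⟩ := Subgroup.mem_zpowers_iff.1 hu
    have h1 : Commute g x := h
    exact (h1.zpow_right i).eq.symm
  · intro h
    exact (h x hx).symm

/-- The index of the centralizer as a cardinality relation. -/
theorem card_normalizer_eq {G : Type*} [Group G] [Finite G] {C N : Subgroup G} (hCN : C ≤ N) {e : ℕ}
    (he : C.relIndex N = e) : Nat.card N = Nat.card C * e := by
  have h1 := Subgroup.card_mul_index (C.subgroupOf N)
  have h2 : Nat.card (C.subgroupOf N) = Nat.card C := Nat.card_congr (Subgroup.subgroupOfEquivOfLe hCN).toEquiv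
  rw [h2] at h1
  rw [← h1, ← he]
  rfl

/-- **The principal block** in terms of the retraction. -/
theorem principal_aux {G : Type*} [Group G] [Fintype G] {p : ℕ} {PP C : Subgroup G} {r : ↥C →* ↥PP} {e₀ : ℕ}
    (H : Cfsg.Agent.Lib.TICent.Hyp p PP C r e₀) [Fintype C] [Fintype PP] [Fintype r.ker] (M : Ideal AlgInt) (hM : IsPModular p M)
    (hP : Nat.card PP = p) (hidx : ¬ p ∣ PP.index) (e : ℕ) (hN : Nat.card (normalizer (PP : Set G)) = Nat.card C * e) :
    ∃ X Y : Set (IrrCharacter G), principalBlock M G = X ∪ Y ∧ Disjoint X Y ∧ Nat.card X = e ∧ Nat.card Y = (p - 1) / e ∧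
      ∃ (εX : IrrCharacter G → ℤ) (ε : ℤ), (∀ χ ∈ X, (εX χ = 1 ∨ εX χ = -1) ∧
        (charDegree (χ : G → ℂ) : ℤ) ≡ εX χ [ZMOD p] ∧ ∀ x : G, x ∈ PP → x ≠ 1 →
          ∀ y : G, y ∈ C → ¬ p ∣ orderOf y → (χ : G → ℂ) (x * y) = (εX χ : ℂ)) ∧
      (ε = 1 ∨ ε = -1) ∧ (∀ θ ∈ Y, (charDegree (θ : G → ℂ) : ℤ) ≡ ε * (e : ℤ) [ZMOD p]) ∧
      (∀ θ ∈ Y, ∀ θ' ∈ Y, ∀ g : G, ¬ p ∣ orderOf g → (θ : G → ℂ) g = (θ' : G → ℂ) g) ∧
      ∀ θ ∈ Y, ∀ g : G, ¬ p ∣ orderOf g → (ε : ℂ) * (θ : G → ℂ) g = ∑ᶠ χ ∈ X, (εX χ : ℂ) * (χ : G → ℂ) g := by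
  classical
  have hp := H.prime
  have hepos : 0 < e := by
    rcases Nat.eq_zero_or_pos e with h | h
    · rw [h, mul_zero] at hN
      exact absurd hN Nat.card_pos.ne'
    · exact h
  obtain ⟨a, ha⟩ := exists_a H
  obtain ⟨w, σ, ξ, hσ, hform, hw0, hξeq, hnorm, hval, hreg, hrange⟩ := struct_main H hP hidx hM hN ha
  have hc : ∀ u ∈ PP, ∀ v ∈ PP, u * v = v * u := fun u hu v hv => (H.comm_P hu hv).symm
  haveI : Finite (↥PP →* ℂˣ) := dual_finite hc
  letI : Fintype (↥PP →* ℂˣ) := Fintype.ofFinite _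
  have hσne : (σ : ℂ) ≠ 0 := by
    rcases hσ with rfl | rfl <;> norm_num
  obtain ⟨f₀⟩ : Nonempty (NT PP) := by
    have h1 : Nat.card (↥PP →* ℂˣ) = p := by rw [card_dual hc]; exact hP
    have h2 : Nontrivial (↥PP →* ℂˣ) := by
      rw [← Finite.one_lt_card_iff_nontrivial, h1]
      exact hp.one_lt
    obtain ⟨f, hf⟩ := exists_ne (1 : ↥PP →* ℂˣ)
    exact ⟨⟨f, hf⟩⟩
  -- the sums of the `u`
  have hu1 : ∀ χ : IrrCharacter G, (a 1 χ : ℤ) - a 1 χ = 0 := fun χ => sub_self _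
  have hsum : ∀ χ : IrrCharacter G, ∑ f : ↥PP →* ℂˣ, ((a f χ : ℤ) - a 1 χ) =
      ∑ f : NT PP, (w χ + σ * (if χ = ξ f then 1 else 0)) := by
    intro χ
    rw [Fintype.sum_eq_add_sum_subtype_ne (fun f : ↥PP →* ℂˣ => (a f χ : ℤ) - a 1 χ) 1, hu1, zero_add]
    refine Finset.sum_congr rfl fun f _ => ?_
    exact hform f χ
  have hNT : (Fintype.card (NT PP) : ℤ) = p - 1 := by
    have h2 : Fintype.card (NT PP) = Fintype.card (↥PP →* ℂˣ) - 1 := by
      rw [Fintype.card_subtype_compl, Fintype.card_subtype_eq]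
    rw [h2, ← Nat.card_eq_fintype_card, card_dual hc]
    have : Nat.card PP = p := hP
    rw [this, Nat.cast_sub hp.one_lt.le]
    simp
  -- membership
  have hmem : ∀ χ, χ ∈ principalBlock M G ↔ (w χ ≠ 0 ∨ ∃ f, χ = ξ f) := by
    intro χ
    constructor
    · intro hχ
      obtain ⟨f, hf⟩ := exists_ne_of_mem H hP hidx hM ha hχ
      have h1 := hform f χ
      by_cases h2 : χ = ξ f
      · exact Or.inr ⟨f, h2⟩
      · left
        rw [if_neg h2, mul_zero, add_zero] at h1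
        rw [← h1]
        omega
    · intro h
      by_contra hχ
      have hzero := fun f => a_eq_of_not_mem H hM ha hχ f
      rcases h with h | ⟨f, rfl⟩
      · have h1 := hform f₀ χ
        rw [hzero f₀, sub_self] at h1
        by_cases h2 : χ = ξ f₀
        · rw [h2] at h
          exact h (hw0 f₀)
        · rw [if_neg h2, mul_zero, add_zero] at h1
          exact h h1.symm
      · have h1 := hform f (ξ f)
        rw [hzero f, sub_self, hw0, if_pos rfl, zero_add, mul_one] at h1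
        rw [← h1] at hσ
        norm_num at hσ
  refine ⟨{χ | w χ ≠ 0}, Set.range ξ, ?_, ?_, ?_, ?_, fun χ => - w χ, σ, ?_, hσ, ?_, ?_, ?_⟩
  · ext χ
    rw [hmem]
    simp only [Set.mem_union, Set.mem_ofPred_eq, Set.mem_range, eq_comm]
  · rw [Set.disjoint_left]
    rintro χ hχ ⟨f, rfl⟩
    exact hχ (hw0 f)
  · -- the count
    have h1 : ∑ χ, (w χ) ^ 2 = ∑ χ, (if w χ ≠ 0 then 1 else 0) := by
      refine Finset.sum_congr rfl fun χ _ => ?_
      rcases hval χ with h | h | h <;> rw [h] <;> norm_num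
    rw [hnorm] at h1
    rw [Finset.sum_boole] at h1
    rw [Nat.card_eq_fintype_card, Fintype.card_subtype]
    have h2 : ((Finset.univ.filter fun χ => w χ ≠ 0).card : ℤ) = e := by
      rw [← Int.natCast_inj] at *
      simpa using h1.symm
    exact_mod_cast h2
  · rw [← hrange]
    simp [hepos]
  · intro χ hχ
    have hχ' : w χ ≠ 0 := hχ
    have hne : ∀ f, χ ≠ ξ f := by
      rintro f rfl
      exact hχ' (hw0 f)
    have hmemχ : χ ∈ principalBlock M G := (hmem χ).2 (Or.inl hχ')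
    refine ⟨?_, ?_, ?_⟩
    · rcases hval χ with h | h | h
      · exact absurd h hχ'
      · right; show - w χ = -1; rw [h]
      · left; show - w χ = 1; rw [h]; rfl
    · obtain ⟨n, hn⟩ := degree_principal H hP hM ha hmemχ
      rw [hn, hsum]
      have h1 : ∀ f : NT PP, w χ + σ * (if χ = ξ f then 1 else 0) = w χ := by
        intro f
        rw [if_neg (hne f)]
        ring
      simp_rw [h1]
      rw [Finset.sum_const, Finset.card_univ, nsmul_eq_mul, hNT, Int.modEq_iff_dvd]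
      exact ⟨-n - w χ, by ring⟩
    · intro x hx hx1 y hy hyo
      have hz : (⟨x, hx⟩ : ↥PP) ≠ 1 := fun h => hx1 (congrArg Subtype.val h)
      have hy1 : r ⟨y, hy⟩ = 1 := r_eq_one H hyo
      have h1 := val_principal H hM ha hmemχ hz hy1
      have h2 : (χ : G → ℂ) (x * y) = ∑ f : ↥PP →* ℂˣ, ((a f χ : ℂ) - a 1 χ) * chi f (⟨x, hx⟩ : ↥PP) := h1
      rw [h2]
      have h3 : ∀ f : ↥PP →* ℂˣ, ((a f χ : ℂ) - a 1 χ) * chi f (⟨x, hx⟩ : ↥PP) =
          (w χ : ℂ) * chi f (⟨x, hx⟩ : ↥PP) - (if f = 1 then (w χ : ℂ) else 0) := by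
        intro f
        by_cases hf : f = 1
        · subst hf
          simp [chi]
        · have h4 := hform ⟨f, hf⟩ χ
          rw [if_neg (hne _), mul_zero, add_zero] at h4
          have h5 : (a f χ : ℂ) - a 1 χ = (w χ : ℂ) := by
            rw [← h4]
            push_cast
            rfl
          rw [h5, if_neg hf, sub_zero]
      simp_rw [h3]
      rw [Finset.sum_sub_distrib, ← Finset.mul_sum, sum_dual hc hz, mul_zero, Finset.sum_ite_eq']
      simp
  · rintro _ ⟨f, rfl⟩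
    obtain ⟨n, hn⟩ := degree_principal H hP hM ha ((hmem _).2 (Or.inr ⟨f, rfl⟩))
    rw [hn, hsum]
    have h1 : ∀ g : NT PP, w (ξ f) + σ * (if ξ f = ξ g then 1 else 0) = σ * (if ξ f = ξ g then 1 else 0) := by
      intro g
      rw [hw0, zero_add]
    simp_rw [h1]
    rw [← Finset.mul_sum, Finset.sum_boole]
    have h2 : (Finset.univ.filter fun g : NT PP => ξ f = ξ g).card = e := by
      rw [← H.card_orbit hN f, ← Fintype.card_subtype, Nat.card_eq_fintype_card]
      refine Fintype.card_congr (Equiv.subtypeEquivRight fun g => ?_)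
      rw [hξeq]
      constructor
      · rintro ⟨x, hx⟩
        exact ⟨x, hx⟩
      · rintro ⟨x, hx⟩
        exact ⟨x, hx⟩
    rw [h2, Int.modEq_iff_dvd]
    exact ⟨-n, by push_cast; ring⟩
  · rintro _ ⟨f, rfl⟩ _ ⟨f', rfl⟩ g hg
    have h1 := hreg f g hg
    have h2 := hreg f' g hg
    have h3 : (σ : ℂ) * ((ξ f : IrrCharacter G) : G → ℂ) g = (σ : ℂ) * ((ξ f' : IrrCharacter G) : G → ℂ) g := by
      linear_combination h1 - h2
    exact mul_left_cancel₀ hσne h3
  · rintro _ ⟨f, rfl⟩ g hg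
    have h1 := hreg f g hg
    rw [Cfsg.Agent.Lib.BlkBasic.finsum_mem_eq_sum_blkInd]
    have h2 : ∀ χ : IrrCharacter G, blkInd {χ | w χ ≠ 0} χ * (((- w χ : ℤ) : ℂ) * (χ : G → ℂ) g) = - ((w χ : ℂ) * (χ : G → ℂ) g) := by
      intro χ
      by_cases h3 : w χ = 0
      · rw [h3]
        simp
      · rw [blkInd_of_mem (show χ ∈ {χ | w χ ≠ 0} from h3), one_mul]
        push_cast
        ring
    simp_rw [h2]
    rw [Finset.sum_neg_distrib]
    linear_combination h1

/-- **The principal block.** -/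
theorem principal_main {G : Type*} [Group G] [Finite G] (p : ℕ) [hfact : Fact p.Prime] (M : Ideal AlgInt) (hM : IsPModular p M)
    (P : Sylow p G) (hP : Nat.card P = p) (e : ℕ)
    (he : (centralizer ((P : Subgroup G) : Set G)).relIndex (normalizer ((P : Subgroup G) : Set G)) = e) :
    ∃ X Y : Set (IrrCharacter G), principalBlock M G = X ∪ Y ∧ Disjoint X Y ∧ Nat.card X = e ∧ Nat.card Y = (p - 1) / e ∧
      ∃ (εX : IrrCharacter G → ℤ) (ε : ℤ), (∀ χ ∈ X, (εX χ = 1 ∨ εX χ = -1) ∧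
        (charDegree (χ : G → ℂ) : ℤ) ≡ εX χ [ZMOD p] ∧ ∀ x : G, x ∈ (P : Subgroup G) → x ≠ 1 →
          ∀ y : G, y ∈ centralizer ((P : Subgroup G) : Set G) → ¬ p ∣ orderOf y → (χ : G → ℂ) (x * y) = (εX χ : ℂ)) ∧
      (ε = 1 ∨ ε = -1) ∧ (∀ θ ∈ Y, (charDegree (θ : G → ℂ) : ℤ) ≡ ε * (e : ℤ) [ZMOD p]) ∧
      (∀ θ ∈ Y, ∀ θ' ∈ Y, ∀ g : G, ¬ p ∣ orderOf g → (θ : G → ℂ) g = (θ' : G → ℂ) g) ∧
      ∀ θ ∈ Y, ∀ g : G, ¬ p ∣ orderOf g → (ε : ℂ) * (θ : G → ℂ) g = ∑ᶠ χ ∈ X, (εX χ : ℂ) * (χ : G → ℂ) g := by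
  classical
  letI : Fintype G := Fintype.ofFinite _
  have hp := hfact.out
  have hP1 : 1 < Nat.card (P : Subgroup G) := by
    show 1 < Nat.card P
    rw [hP]
    exact hp.one_lt
  obtain ⟨r, e₀, H⟩ := exists_hyp p hp P (fun x hx hx1 => star_of_prime hp hP x hx hx1) hP1
  haveI : Fintype (centralizer ((P : Subgroup G) : Set G)) := Fintype.ofFinite _
  haveI : Fintype (P : Subgroup G) := Fintype.ofFinite _
  haveI : Fintype r.ker := Fintype.ofFinite _
  exact principal_aux H M hM hP P.not_dvd_index e (card_normalizer_eq H.le_normalizer he)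

end Cfsg.Agent.Lib.RangeP0
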