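import Mathlib
import Cfsg.Agent.Lib.PuigBasic

/-!
Abstract lemmas for the analysis of rank two `p`-groups with a coprime operator group:
commutators of small normal subgroups, bilinearity of commutators modulo a normal subgroup,
eigenvectors of coprime automorphisms, and a power-commutator lemma.
-/

set_option autoImplicit false

namespace Cfsg.Agent.Lib.RankTwoA1

open Subgroup
open scoped commutatorElement

section abstractP
variable {P : Type*} [Group P]

theorem comm_of_card_le_sq [Finite P] {p : ℕ} [hp : Fact p.Prime] (hP : IsPGroup p P)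
    (h : Nat.card P ≤ p ^ 2) (x y : P) : x * y = y * x := by
  obtain ⟨n, hn⟩ := IsPGroup.iff_card.mp hP
  have hpp := hp.out
  have hn2 : n ≤ 2 := by
    rw [hn] at h
    exact (Nat.pow_le_pow_iff_right hpp.one_lt).mp h
  interval_cases n
  · have h1 : Nat.card P = 1 := by simpa using hn
    have : Subsingleton P := (Nat.card_eq_one_iff_unique.mp h1).1
    exact Subsingleton.elim _ _
  · have h1 : Nat.card P = p := by simpa using hn
    have : IsCyclic P := isCyclic_of_prime_card h1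
    exact (IsCyclic.commutative).is_comm.comm x y
  · exact (IsPGroup.isMulCommutative_of_card_eq_prime_sq hn).is_comm.comm x y

theorem comm_mem_zpowers [Finite P] {p : ℕ} [hp : Fact p.Prime] (hP : IsPGroup p P)
    {N : Subgroup P} (hN : Nat.card N ≤ p ^ 2) [N.Normal] {z : P} (hzN : z ∈ N) (hz1 : z ≠ 1)
    (hzc : z ∈ center P) {x : P} (hx : x ∈ N) (r : P) : ⁅x, r⁆ ∈ zpowers z := by
  classical
  have hpp := hp.out
  haveI hnorm : (zpowers z).Normal := by
    constructor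
    intro n hn g
    have hnc : n ∈ center P := (zpowers_le.mpr hzc) hn
    have : g * n * g⁻¹ = n := by
      rw [mem_center_iff.mp hnc g]
      group
    rwa [this]
  let π := QuotientGroup.mk' (zpowers z)
  have hQ : IsPGroup p (P ⧸ zpowers z) := hP.to_quotient _
  have hxc : π x ∈ center (P ⧸ zpowers z) := by
    by_cases hbar : N.map π = ⊥
    · have : π x ∈ N.map π := ⟨x, hx, rfl⟩
      rw [hbar, mem_bot] at this
      rw [this]
      exact one_mem _
    obtain ⟨w, ⟨c, hc, rfl⟩, hw1, hwc⟩ :=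
      Cfsg.Agent.Lib.PuigBasic.exists_mem_center_of_normal hQ (N.map π) hbar
    let f : N →* (P ⧸ zpowers z) := π.comp N.subtype
    have hrange : f.range = N.map π := by
      rw [MonoidHom.range_comp, Subgroup.range_subtype]
    have h1 : Nat.card f.ker * Nat.card f.range = Nat.card N := by
      rw [← Subgroup.index_ker f]
      exact Subgroup.card_mul_index f.ker
    have hker : IsPGroup p f.ker := (hP.to_subgroup N).to_subgroup f.ker
    have hker2 : p ≤ Nat.card f.ker := by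
      obtain ⟨m, hm⟩ := IsPGroup.iff_card.mp hker
      have hm0 : m ≠ 0 := by
        rintro rfl
        rw [pow_zero] at hm
        have h2 := Subgroup.card_eq_one.mp hm
        have h3 : (⟨z, hzN⟩ : N) ∈ f.ker := by
          rw [MonoidHom.mem_ker]
          exact (QuotientGroup.eq_one_iff z).mpr (mem_zpowers z)
        rw [h2, mem_bot] at h3
        exact hz1 (congrArg Subtype.val h3)
      rw [hm]
      exact Nat.le_self_pow hm0 p
    have h2 : Nat.card (N.map π) ≤ p := by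
      rw [← hrange]
      have h3 : p * Nat.card f.range ≤ p * p := by
        calc p * Nat.card f.range ≤ Nat.card f.ker * Nat.card f.range := Nat.mul_le_mul_right _ hker2
          _ = Nat.card N := h1
          _ ≤ p ^ 2 := hN
          _ = p * p := by ring
      exact Nat.le_of_mul_le_mul_left h3 hpp.pos
    have hNb : IsPGroup p (N.map π) := hQ.to_subgroup _
    have h3 : Nat.card (N.map π) = p := by
      obtain ⟨m, hm⟩ := IsPGroup.iff_card.mp hNb
      rcases m with _ | m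
      · rw [pow_zero] at hm
        exact absurd (Subgroup.card_eq_one.mp hm) hbar
      · apply le_antisymm h2
        rw [hm]
        exact Nat.le_self_pow (Nat.succ_ne_zero m) p
    have hg : (⟨π c, c, hc, rfl⟩ : N.map π) ≠ 1 := by
      intro h
      exact hw1 (congrArg Subtype.val h)
    have h4 := mem_zpowers_of_prime_card (g' := (⟨π x, x, hx, rfl⟩ : N.map π)) h3 hg
    obtain ⟨k, hk⟩ := h4
    have h5 : (π c) ^ k = π x := congrArg Subtype.val hk
    rw [← h5]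
    exact zpow_mem hwc k
  have h1 : π ⁅x, r⁆ = 1 := by
    rw [map_commutatorElement, commutatorElement_eq_one_iff_mul_comm]
    exact (mem_center_iff.mp hxc (π r)).symm
  exact (QuotientGroup.eq_one_iff _).mp h1

theorem comm_comm_eq_one [Finite P] {p : ℕ} [hp : Fact p.Prime] (hP : IsPGroup p P)
    {N : Subgroup P} (hN : Nat.card N ≤ p ^ 2) [N.Normal] {x : P} (hx : x ∈ N) (r s : P) :
    ⁅⁅x, r⁆, s⁆ = 1 := by
  by_cases hbot : N = ⊥
  · subst hbot
    rw [mem_bot] at hx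
    subst hx
    simp
  obtain ⟨z, hzN, hz1, hzc⟩ := Cfsg.Agent.Lib.PuigBasic.exists_mem_center_of_normal hP N hbot
  have h1 := comm_mem_zpowers hP hN hzN hz1 hzc hx r
  have h2 : ⁅x, r⁆ ∈ center P := (zpowers_le.mpr hzc) h1
  rw [commutatorElement_eq_one_iff_mul_comm]
  exact (mem_center_iff.mp h2 s).symm

section bilin
variable {N : Subgroup P} [hNn : N.Normal]
  (hab : ∀ x ∈ N, ∀ y ∈ N, x * y = y * x) (hcl : ∀ x ∈ N, ∀ r s : P, ⁅⁅x, r⁆, s⁆ = 1)

include hNn in
theorem comm_mem_normal {x : P} (hx : x ∈ N) (r : P) : ⁅x, r⁆ ∈ N := by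
  rw [commutatorElement_def]
  have := hNn.conj_mem x⁻¹ (inv_mem hx) r
  rw [mul_assoc, mul_assoc]
  refine mul_mem hx ?_
  rw [← mul_assoc]
  exact this

include hab hNn in
theorem bilin_left {x y : P} (hx : x ∈ N) (hy : y ∈ N) (r : P) : ⁅x * y, r⁆ = ⁅x, r⁆ * ⁅y, r⁆ := by
  have h1 := comm_mem_normal hx r
  have h2 := comm_mem_normal hy r
  have e : ⁅x * y, r⁆ = (x * ⁅y, r⁆ * x⁻¹) * ⁅x, r⁆ := by
    simp only [commutatorElement_def]
    group
  rw [e, hab x hx _ h2, mul_inv_cancel_right]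
  exact hab _ h2 _ h1

include hcl in
theorem bilin_right {x : P} (hx : x ∈ N) (r s : P) : ⁅x, r * s⁆ = ⁅x, r⁆ * ⁅x, s⁆ := by
  have h1 := hcl x hx s r
  rw [commutatorElement_eq_one_iff_mul_comm] at h1
  have e : ⁅x, r * s⁆ = ⁅x, r⁆ * (r * ⁅x, s⁆ * r⁻¹) := by
    simp only [commutatorElement_def]
    group
  rw [e, ← h1, mul_inv_cancel_right]

include hab hNn in
theorem bilin_pow_left {x : P} (hx : x ∈ N) (r : P) (i : ℕ) : ⁅x ^ i, r⁆ = ⁅x, r⁆ ^ i := by
  induction i with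
  | zero => simp
  | succ i ih =>
    rw [pow_succ, bilin_left hab (pow_mem hx i) hx, ih, pow_succ]

include hcl in
theorem bilin_pow_right {x : P} (hx : x ∈ N) (r : P) (j : ℕ) : ⁅x, r ^ j⁆ = ⁅x, r⁆ ^ j := by
  induction j with
  | zero => simp
  | succ j ih =>
    rw [pow_succ, bilin_right hcl hx, ih, pow_succ]

include hab hcl hNn in
theorem comm_bilin {x : P} (hx : x ∈ N) (r d : P) (i j : ℕ) :
    ⁅x ^ i, r ^ j * d⁆ = ⁅x, r⁆ ^ (i * j) * ⁅x, d⁆ ^ i := by
  rw [bilin_right hcl (pow_mem hx i), bilin_pow_right hcl (pow_mem hx i), bilin_pow_left hab hx,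
    bilin_pow_left hab hx, ← pow_mul]

end bilin

end abstractP

section glevel
variable {G : Type*} [Group G]

/-- Bilinearity of commutators modulo a normal subgroup, in the ambient group. -/
theorem comm_bilin_mod {R N M : Subgroup G} (hNR : N ≤ R) (hNn : ∀ r ∈ R, ∀ x ∈ N, r * x * r⁻¹ ∈ N)
    (hMn : ∀ r ∈ R, ∀ x ∈ M, r * x * r⁻¹ ∈ M) (hab : ∀ x ∈ N, ∀ y ∈ N, ⁅x, y⁆ ∈ M)
    (hcl : ∀ x ∈ N, ∀ r ∈ R, ∀ s ∈ R, ⁅⁅x, r⁆, s⁆ ∈ M) {x r d : G} (hx : x ∈ N) (hr : r ∈ R)
    (hd : d ∈ R) (i j : ℕ) :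
    ⁅x ^ i, r ^ j * d⁆ * (⁅x, r⁆ ^ (i * j) * ⁅x, d⁆ ^ i)⁻¹ ∈ M := by
  let M' : Subgroup R := M.subgroupOf R
  haveI hM' : M'.Normal := ⟨fun n hn g => by
    rw [mem_subgroupOf] at hn ⊢
    exact hMn g g.2 n hn⟩
  let N' : Subgroup R := N.subgroupOf R
  haveI hN' : N'.Normal := ⟨fun n hn g => by
    rw [mem_subgroupOf] at hn ⊢
    exact hNn g g.2 n hn⟩
  let π : R →* (R ⧸ M') := QuotientGroup.mk' M'
  have hπ : Function.Surjective π := QuotientGroup.mk'_surjective M'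
  let Nb : Subgroup (R ⧸ M') := N'.map π
  haveI hNb : Nb.Normal := Subgroup.Normal.map hN' π hπ
  have hab' : ∀ u ∈ Nb, ∀ v ∈ Nb, u * v = v * u := by
    rintro _ ⟨u, hu, rfl⟩ _ ⟨v, hv, rfl⟩
    rw [← commutatorElement_eq_one_iff_mul_comm, ← map_commutatorElement]
    apply (QuotientGroup.eq_one_iff _).mpr
    exact hab _ hu _ hv
  have hcl' : ∀ u ∈ Nb, ∀ v w : R ⧸ M', ⁅⁅u, v⁆, w⁆ = 1 := by
    rintro _ ⟨u, hu, rfl⟩ v w
    obtain ⟨v, rfl⟩ := hπ v
    obtain ⟨w, rfl⟩ := hπ w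
    rw [← map_commutatorElement, ← map_commutatorElement]
    apply (QuotientGroup.eq_one_iff _).mpr
    exact hcl _ hu _ v.2 _ w.2
  have key := comm_bilin hab' hcl' (x := π ⟨x, hNR hx⟩) ⟨⟨x, hNR hx⟩, hx, rfl⟩ (π ⟨r, hr⟩) (π ⟨d, hd⟩) i j
  let u : R := ⁅(⟨x, hNR hx⟩ : R) ^ i, (⟨r, hr⟩ : R) ^ j * ⟨d, hd⟩⁆ *
    (⁅(⟨x, hNR hx⟩ : R), (⟨r, hr⟩ : R)⁆ ^ (i * j) * ⁅(⟨x, hNR hx⟩ : R), (⟨d, hd⟩ : R)⁆ ^ i)⁻¹
  have hu : π u = 1 := by
    simp only [u, map_mul, map_inv, map_pow, map_commutatorElement]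
    rw [key]
    group
  have h1 : u ∈ M' := (QuotientGroup.eq_one_iff u).mp hu
  exact h1

/-- The commutator estimate modulo a normal subgroup, in the ambient group. -/
theorem comm_comm_mem [Finite G] {p : ℕ} [hp : Fact p.Prime] {R N M : Subgroup G} (hR : IsPGroup p R)
    (hNR : N ≤ R) (hNn : ∀ r ∈ R, ∀ x ∈ N, r * x * r⁻¹ ∈ N)
    (hMn : ∀ r ∈ R, ∀ x ∈ M, r * x * r⁻¹ ∈ M)
    (hcard : ∀ (M' : Subgroup R) [M'.Normal], M' = M.subgroupOf R →
      Nat.card ((N.subgroupOf R).map (QuotientGroup.mk' M')) ≤ p ^ 2) :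
    (∀ x ∈ N, ∀ y ∈ N, ⁅x, y⁆ ∈ M) ∧ (∀ x ∈ N, ∀ r ∈ R, ∀ s ∈ R, ⁅⁅x, r⁆, s⁆ ∈ M) := by
  let M' : Subgroup R := M.subgroupOf R
  haveI hM' : M'.Normal := ⟨fun n hn g => by
    rw [mem_subgroupOf] at hn ⊢
    exact hMn g g.2 n hn⟩
  let N' : Subgroup R := N.subgroupOf R
  haveI hN' : N'.Normal := ⟨fun n hn g => by
    rw [mem_subgroupOf] at hn ⊢
    exact hNn g g.2 n hn⟩
  let π : R →* (R ⧸ M') := QuotientGroup.mk' M'
  have hπ : Function.Surjective π := QuotientGroup.mk'_surjective M'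
  let Nb : Subgroup (R ⧸ M') := N'.map π
  haveI hNb : Nb.Normal := Subgroup.Normal.map hN' π hπ
  have hQ : IsPGroup p (R ⧸ M') := hR.to_quotient _
  have hc := hcard M' rfl
  constructor
  · intro x hx y hy
    have h1 : (⟨x, hNR hx⟩ : R) ∈ N' := hx
    have h2 : (⟨y, hNR hy⟩ : R) ∈ N' := hy
    have h3 := comm_of_card_le_sq (hQ.to_subgroup Nb) hc ⟨π ⟨x, hNR hx⟩, _, h1, rfl⟩ ⟨π ⟨y, hNR hy⟩, _, h2, rfl⟩
    have h4 : π ⟨x, hNR hx⟩ * π ⟨y, hNR hy⟩ = π ⟨y, hNR hy⟩ * π ⟨x, hNR hx⟩ := congrArg Subtype.val h3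
    rw [← commutatorElement_eq_one_iff_mul_comm, ← map_commutatorElement] at h4
    have h5 : ⁅(⟨x, hNR hx⟩ : R), (⟨y, hNR hy⟩ : R)⁆ ∈ M' := (QuotientGroup.eq_one_iff _).mp h4
    exact h5
  · intro x hx r hr s hs
    have h1 : (⟨x, hNR hx⟩ : R) ∈ N' := hx
    have h3 := comm_comm_eq_one hQ hc (x := π ⟨x, hNR hx⟩) ⟨_, h1, rfl⟩ (π ⟨r, hr⟩) (π ⟨s, hs⟩)
    rw [← map_commutatorElement, ← map_commutatorElement] at h3
    have h5 : ⁅⁅(⟨x, hNR hx⟩ : R), (⟨r, hr⟩ : R)⁆, (⟨s, hs⟩ : R)⁆ ∈ M' := (QuotientGroup.eq_one_iff _).mp h3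
    exact h5

end glevel

section eigen
variable {V : Type*} [CommGroup V]

/-- The Horner-style sequence producing an eigenvector. -/
def eigenSeq (α : V →* V) (c : ℕ) (t : V) : ℕ → V
  | 0 => 1
  | n + 1 => (eigenSeq α c t n) ^ c * (α^[n]) t

theorem eigenSeq_spec (α : V →* V) (c : ℕ) (t : V) (n : ℕ) :
    α (eigenSeq α c t n) * t ^ (c ^ n) = (eigenSeq α c t n) ^ c * (α^[n]) t := by
  induction n with
  | zero => simp [eigenSeq]
  | succ n ih =>
    have e1 : (α^[n + 1]) t = α ((α^[n]) t) := Function.iterate_succ_apply' α n t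
    simp only [eigenSeq, map_mul, map_pow]
    rw [e1]
    have e2 : (α (eigenSeq α c t n)) ^ c * t ^ (c ^ (n + 1)) =
        ((eigenSeq α c t n) ^ c * (α^[n]) t) ^ c := by
      rw [← ih, mul_pow, ← pow_mul, pow_succ]
    calc (α (eigenSeq α c t n)) ^ c * α ((α^[n]) t) * t ^ (c ^ (n + 1))
        = ((α (eigenSeq α c t n)) ^ c * t ^ (c ^ (n + 1))) * α ((α^[n]) t) := by
          rw [mul_right_comm]
      _ = _ := by rw [e2]

theorem pow_eq_pow_of_cast {p : ℕ} {x : V} (hx : x ^ p = 1) {a b : ℕ} (h : (a : ZMod p) = b) :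
    x ^ a = x ^ b := by
  have h1 : a ≡ b [MOD p] := (ZMod.natCast_eq_natCast_iff a b p).mp h
  have h2 : orderOf x ∣ p := orderOf_dvd_of_pow_eq_one hx
  exact pow_eq_pow_iff_modEq.mpr (h1.of_dvd h2)

theorem cast_of_pow_eq_pow {p : ℕ} [hp : Fact p.Prime] {x : V} (hx : x ^ p = 1) (hx1 : x ≠ 1) {a b : ℕ}
    (h : x ^ a = x ^ b) : (a : ZMod p) = b := by
  have h1 : orderOf x = p := orderOf_eq_prime hx hx1
  have h2 := pow_eq_pow_iff_modEq.mp h
  rw [h1] at h2
  exact (ZMod.natCast_eq_natCast_iff a b p).mpr h2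

/-- **Eigenvectors**. If a coprime automorphism `α` acts on a quotient of exponent `p` of the finite
abelian `p`-group `V` as the `r`-th power, then `V` contains an element of order `p` on which `α` acts
as a power congruent to `r`. -/
theorem exists_eigen [Finite V] {p : ℕ} [hp : Fact p.Prime] (hV : IsPGroup p V) (α : V →* V) (m : ℕ)
    (hm : ∀ x, (α^[m]) x = x) (hmc : m.Coprime p) (B : Subgroup V) (r : ℕ)
    (hB : ∀ s, α s * (s ^ r)⁻¹ ∈ B) (hBp : ∀ s, s ^ p ∈ B) (t : V) (ht : t ∉ B) :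
    ∃ x : V, x ≠ 1 ∧ x ^ p = 1 ∧ ∃ c : ℕ, (c : ZMod p) = r ∧ α x = x ^ c := by
  classical
  have hpp := hp.out
  let π := QuotientGroup.mk' B
  have hπB : ∀ s, π (α s) = (π s) ^ r := by
    intro s
    have h1 : π (α s * (s ^ r)⁻¹) = 1 := (QuotientGroup.eq_one_iff _).mpr (hB s)
    rw [map_mul, map_inv, map_pow, mul_inv_eq_one] at h1
    exact h1
  have hπp : ∀ s, (π s) ^ p = 1 := by
    intro s
    rw [← map_pow]
    exact (QuotientGroup.eq_one_iff _).mpr (hBp s)
  set ψ := π t with hψ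
  have hψ1 : ψ ≠ 1 := by
    intro h
    exact ht ((QuotientGroup.eq_one_iff t).mp h)
  have hit : ∀ n, π ((α^[n]) t) = ψ ^ (r ^ n) := by
    intro n
    induction n with
    | zero => simp [hψ]
    | succ n ih =>
      rw [Function.iterate_succ_apply', hπB, ih, ← pow_mul, pow_succ]
  have hrm : ((r : ZMod p)) ^ m = 1 := by
    have h1 := hit m
    rw [hm] at h1
    have h2 : ψ ^ 1 = ψ ^ (r ^ m) := by rw [pow_one]; exact h1
    have h3 := cast_of_pow_eq_pow (hπp t) hψ1 h2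
    push_cast at h3
    exact h3.symm
  obtain ⟨N, hN⟩ := IsPGroup.iff_card.mp hV
  let c : ℕ := r ^ (p ^ N)
  have hcr : (c : ZMod p) = r := by
    simp only [c]
    push_cast
    exact ZMod.pow_card_pow _
  have hcm : ∀ x : V, x ^ (c ^ m) = x := by
    intro x
    have h1 : ((p : ℤ)) ∣ ((r ^ m : ℕ) : ℤ) - 1 := by
      have h2 : (((r ^ m : ℕ) : ℤ) - 1 : ℤ) = (((r ^ m : ℕ) : ℤ) - ((1 : ℕ) : ℤ)) := by simp
      rw [h2, ← ZMod.intCast_zmod_eq_zero_iff_dvd]
      push_cast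
      rw [hrm, sub_self]
    have h3 := dvd_sub_pow_of_dvd_sub h1 N
    have h4 : c ^ m = (r ^ m) ^ (p ^ N) := by
      simp only [c]
      rw [← pow_mul, ← pow_mul, mul_comm]
    have h5 : (1 : ℕ) ≡ c ^ m [MOD p ^ (N + 1)] := by
      apply (Nat.modEq_iff_dvd).mpr
      rw [h4]
      push_cast
      push_cast at h3
      simpa using h3
    have h6 : orderOf x ∣ p ^ (N + 1) := by
      refine Dvd.dvd.trans (orderOf_dvd_natCard x) ?_
      rw [hN]
      exact pow_dvd_pow p (Nat.le_succ N)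
    have h7 := (h5.of_dvd h6)
    have h8 := pow_eq_pow_iff_modEq.mpr h7
    rw [pow_one] at h8
    exact h8.symm
  set f := eigenSeq α c t with hf
  have hψc : ψ ^ c = ψ ^ r := pow_eq_pow_of_cast (hπp t) hcr
  have hfB : ∀ n, (π (f n)) ^ r = ψ ^ (n * r ^ n) := by
    intro n
    induction n with
    | zero => simp [hf, eigenSeq]
    | succ n ih =>
      have e : f (n + 1) = (f n) ^ c * (α^[n]) t := rfl
      rw [e, map_mul, map_pow, hit, mul_pow, ← pow_mul, mul_comm c r, pow_mul, ih, ← pow_mul ψ (r ^ n) r,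
        ← pow_succ, ← pow_mul ψ (n * r ^ n) c, mul_comm (n * r ^ n) c, pow_mul ψ c, hψc, ← pow_mul, ← pow_add]
      congr 1
      ring
  have he1 : f m ≠ 1 := by
    intro h
    have h1 := hfB m
    rw [h, map_one, one_pow] at h1
    have h2 : (ψ ^ (m * r ^ m)) = ψ ^ m := by
      apply pow_eq_pow_of_cast (hπp t)
      push_cast
      rw [hrm, mul_one]
    rw [h2] at h1
    have h3 : orderOf ψ = p := orderOf_eq_prime (hπp t) hψ1
    have h4 : p ∣ m := by
      rw [← h3]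
      exact orderOf_dvd_of_pow_eq_one h1.symm
    have h5 := Nat.Coprime.eq_one_of_dvd hmc.symm h4
    exact hpp.one_lt.ne' h5
  have heig : α (f m) = (f m) ^ c := by
    have h1 := eigenSeq_spec α c t m
    rw [hm t, hcm t] at h1
    exact mul_right_cancel h1
  -- the element of order `p`
  have hex : ∃ k, (f m) ^ (p ^ k) = 1 := by
    obtain ⟨k, hk⟩ := (IsPGroup.iff_orderOf.mp hV) (f m)
    exact ⟨k, by rw [← hk]; exact pow_orderOf_eq_one _⟩
  have hk0 : Nat.find hex ≠ 0 := by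
    intro h
    have h1 := Nat.find_spec hex
    rw [h, pow_zero, pow_one] at h1
    exact he1 h1
  obtain ⟨k, hk⟩ := Nat.exists_eq_succ_of_ne_zero hk0
  have hx1 : (f m) ^ (p ^ k) ≠ 1 := by
    apply Nat.find_min hex
    rw [hk]
    exact Nat.lt_succ_self k
  have hxp : ((f m) ^ (p ^ k)) ^ p = 1 := by
    rw [← pow_mul, ← pow_succ]
    have h1 := Nat.find_spec hex
    rw [hk] at h1
    exact h1
  refine ⟨(f m) ^ (p ^ k), hx1, hxp, c, hcr, ?_⟩
  rw [map_pow, heig, ← pow_mul, ← pow_mul, mul_comm]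

end eigen

section powerlemma

/-- In a commutative ring, binomial expansion of `(x + 1) ^ p`. -/
theorem exists_add_one_pow {S : Type*} [CommRing S] {p : ℕ} (hp : p.Prime) (x : S) :
    ∃ w : S, (x + 1) ^ p = x ^ p + 1 + p * x * (1 + x * w) := by
  obtain ⟨q, rfl⟩ : ∃ q, p = q + 2 := ⟨p - 2, by have := hp.two_le; omega⟩
  have hmid : ∀ k ∈ Finset.range q, (((q + 2 : ℕ) : S) * x ^ 2) ∣ x ^ (k + 1 + 1) * 1 ^ (q + 2 - (k + 1 + 1)) * ((q + 2).choose (k + 1 + 1) : ℕ) := by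
    intro k hk
    have hk' : k < q := Finset.mem_range.mp hk
    have h1 : (q + 2) ∣ (q + 2).choose (k + 1 + 1) :=
      hp.dvd_choose_self (by omega) (by omega)
    obtain ⟨c, hc⟩ := h1
    refine ⟨x ^ k * c, ?_⟩
    rw [hc, one_pow]
    push_cast
    ring
  obtain ⟨w, hw⟩ := Finset.dvd_sum hmid
  refine ⟨w, ?_⟩
  rw [add_pow, Finset.sum_range_succ, Finset.sum_range_succ', Finset.sum_range_succ', hw]
  simp only [Nat.choose_self, Nat.choose_zero_right, zero_add, Nat.choose_one_right, pow_zero, pow_one, one_pow, Nat.cast_one, mul_one]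
  push_cast
  ring

/-- **Power lemma.** -/
theorem mul_mu_eq_zero {V : Type*} [AddCommGroup V] {p : ℕ} (hp : p.Prime) (h5 : 5 ≤ p)
    (hV : ∃ N : ℕ, ∀ x : V, p ^ N • x = 0) (μ : AddMonoid.End V) (h1 : (μ + 1) ^ p = 1)
    (h2 : ∀ x, ∃ s, μ (μ x) = p • s) (x : V) : p • μ x = 0 := by
  classical
  obtain ⟨N, hN⟩ := hV
  -- nilpotence of `μ`
  have hnil : ∀ k, ∀ x : V, ∃ s, (μ ^ (2 * k)) x = p ^ k • s := by
    intro k
    induction k with
    | zero => intro x; exact ⟨x, by simp⟩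
    | succ k ih =>
      intro x
      obtain ⟨s, hs⟩ := ih x
      obtain ⟨s₂, hs₂⟩ := h2 s
      refine ⟨s₂, ?_⟩
      have e : μ ^ (2 * (k + 1)) = (μ * μ) * μ ^ (2 * k) := by
        rw [mul_add, pow_add, mul_one, pow_two]
        have h3 : Commute (μ ^ (2 * k)) μ := (Commute.refl μ).pow_left _
        exact (h3.mul_right h3).eq
      rw [e]
      show μ (μ ((μ ^ (2 * k)) x)) = _
      rw [hs, map_nsmul, map_nsmul, hs₂, pow_succ, mul_smul]
  have hμnil : IsNilpotent μ := by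
    refine ⟨2 * N, ?_⟩
    ext x
    obtain ⟨s, hs⟩ := hnil N x
    rw [hs, hN]
    rfl
  obtain ⟨W, hW⟩ := exists_add_one_pow (S := Polynomial ℤ) hp Polynomial.X
  let φ := Polynomial.aeval (R := ℤ) μ
  have hφ := congrArg φ hW
  set w := φ W with hw
  have hcomm : Commute μ w := by
    have := (Polynomial.commute_X W).map φ
    simpa [φ, hw] using this
  have hφ' : (μ + 1) ^ p = μ ^ p + 1 + p * μ * (1 + μ * w) := by
    simpa [φ] using hφ
  have hkey : (p : AddMonoid.End V) * μ * (1 + μ * w) = - μ ^ p := by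
    rw [h1] at hφ'
    have h3 : μ ^ p + (p : AddMonoid.End V) * μ * (1 + μ * w) = 0 := by
      have h4 : (1 : AddMonoid.End V) + (μ ^ p + (p : AddMonoid.End V) * μ * (1 + μ * w)) = 1 + 0 := by
        calc (1 : AddMonoid.End V) + (μ ^ p + (p : AddMonoid.End V) * μ * (1 + μ * w))
            = μ ^ p + 1 + (p : AddMonoid.End V) * μ * (1 + μ * w) := by abel
          _ = 1 := hφ'.symm
          _ = 1 + 0 := (add_zero 1).symm
      exact add_left_cancel h4
    rw [eq_neg_iff_add_eq_zero, add_comm]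
    exact h3
  have hvunit : IsUnit (1 + μ * w) := by
    apply IsNilpotent.isUnit_one_add
    exact hcomm.isNilpotent_mul_right hμnil
  obtain ⟨u, hu⟩ := hvunit
  have hstep : ∀ x, ∃ x₁, p • μ x = p • (p • μ x₁) := by
    intro x
    let x' : V := ((u⁻¹ : (AddMonoid.End V)ˣ) : AddMonoid.End V) x
    have hx' : (1 + μ * w) x' = x := by
      rw [← hu]
      show ((u : AddMonoid.End V) * ((u⁻¹ : (AddMonoid.End V)ˣ) : AddMonoid.End V)) x = x
      rw [Units.mul_inv]
      rfl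
    obtain ⟨s₁, hs₁⟩ := h2 x'
    obtain ⟨s₂, hs₂⟩ := h2 s₁
    obtain ⟨q, rfl⟩ : ∃ q, p = q + 5 := ⟨p - 5, by omega⟩
    have h3 := congrArg (fun f : AddMonoid.End V => f x') hkey
    have e1 : (((q + 5 : ℕ) : AddMonoid.End V) * μ * (1 + μ * w)) x' = (q + 5) • μ x := by
      rw [mul_assoc]
      show ((q + 5 : ℕ) : AddMonoid.End V) ((μ * (1 + μ * w)) x') = _
      show ((q + 5 : ℕ) : AddMonoid.End V) (μ ((1 + μ * w) x')) = _
      rw [hx']
      exact AddMonoid.End.natCast_apply _ _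
    have e2 : (μ ^ (q + 5)) x' = (q + 5) • (q + 5) • μ ((μ ^ q) s₂) := by
      have e3 : μ ^ (q + 5) = (μ * μ ^ q) * (μ * (μ * (μ * μ))) := by
        rw [pow_add]
        have e4 : μ ^ 5 = μ * (μ * (μ * (μ * μ))) := by
          simp only [pow_succ, pow_zero, one_mul, mul_assoc]
        rw [e4]
        have e5 : Commute (μ ^ q) μ := (Commute.refl μ).pow_left q
        rw [← mul_assoc, ← mul_assoc, e5.eq]
        simp only [mul_assoc]
      rw [e3]
      show (μ * μ ^ q) (μ (μ (μ (μ x')))) = _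
      rw [hs₁, map_nsmul, map_nsmul, hs₂, map_nsmul, map_nsmul]
      rfl
    refine ⟨- (μ ^ q) s₂, ?_⟩
    have h4 : (q + 5) • μ x = - ((q + 5) • (q + 5) • μ ((μ ^ q) s₂)) := by
      rw [← e1, ← e2]
      exact h3
    rw [h4, map_neg, smul_neg, smul_neg]
  have hall : ∀ n, ∀ x, ∃ x₁, p • μ x = p ^ n • (p • μ x₁) := by
    intro n
    induction n with
    | zero => intro x; exact ⟨x, by simp⟩
    | succ n ih =>
      intro x
      obtain ⟨x₁, h₁⟩ := ih x
      obtain ⟨x₂, h₂⟩ := hstep x₁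
      refine ⟨x₂, ?_⟩
      rw [h₁, h₂, pow_succ, mul_smul]
  obtain ⟨x₁, h₁⟩ := hall N x
  rw [h₁, hN]

/-- Multiplicative form of the power lemma. -/
theorem pow_comm_eq_one {V : Type*} [CommGroup V] [Finite V] {p : ℕ} [hp : Fact p.Prime] (h5 : 5 ≤ p)
    (hV : IsPGroup p V) (c : V →* V) (hc : ∀ x, (c^[p]) x = x)
    (h2 : ∀ x, ∃ s, c (c x * x⁻¹) * (c x * x⁻¹)⁻¹ = s ^ p) (x : V) : (c x * x⁻¹) ^ p = 1 := by
  classical
  let c' : AddMonoid.End (Additive V) := MonoidHom.toAdditive c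
  let μ : AddMonoid.End (Additive V) := c' - 1
  have hμ : ∀ y : V, μ (Additive.ofMul y) = Additive.ofMul (c y * y⁻¹) := by
    intro y
    show c' (Additive.ofMul y) - Additive.ofMul y = _
    rw [sub_eq_add_neg]
    rfl
  have hpow : ∀ (n : ℕ) (y : V), (c' ^ n) (Additive.ofMul y) = Additive.ofMul ((c^[n]) y) := by
    intro n
    induction n with
    | zero => intro y; rfl
    | succ n ih =>
      intro y
      rw [pow_succ', Function.iterate_succ_apply']
      show c' ((c' ^ n) (Additive.ofMul y)) = _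
      rw [ih]
      rfl
  have h1 : (μ + 1) ^ p = 1 := by
    have e : μ + 1 = c' := sub_add_cancel c' 1
    rw [e]
    ext y
    have := hpow p (Additive.toMul y)
    rw [hc] at this
    exact this
  have hV' : ∃ N : ℕ, ∀ y : Additive V, p ^ N • y = 0 := by
    obtain ⟨N, hN⟩ := IsPGroup.iff_card.mp hV
    refine ⟨N, fun y => ?_⟩
    show Additive.ofMul ((Additive.toMul y) ^ (p ^ N)) = 0
    rw [← hN, pow_card_eq_one']
    rfl
  have h3 := mul_mu_eq_zero hp.out h5 hV' μ h1 ?_ (Additive.ofMul x)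
  · rw [hμ] at h3
    exact h3
  · intro y
    obtain ⟨s, hs⟩ := h2 (Additive.toMul y)
    refine ⟨Additive.ofMul s, ?_⟩
    have e : y = Additive.ofMul (Additive.toMul y) := rfl
    rw [e, hμ, hμ, hs]
    rfl

end powerlemma
end Cfsg.Agent.Lib.RankTwoA1
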