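import Mathlib
import Cfsg.Prelude.Def_CaseTheorems
import Cfsg.Agent.Lib.AutRankTwo
import Cfsg.Agent.Lib.OmegaAut
import Cfsg.Agent.Lib.RankTwoA1

/-!
# Elementary lemmas for the resistance of rank two `p`-groups
-/

set_option autoImplicit false

namespace Cfsg.Agent.Lib.RankTwoResBasic

open Cfsg

universe u

section Basic

variable {G : Type*} [Group G]

/-- Powers modulo `p` of an element of exponent dividing `p`. -/
theorem pow_congr_modEq {x : G} {p m n : ℕ} (hx : x ^ p = 1) (h : m ≡ n [MOD p]) : x ^ m = x ^ n := by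
  rw [pow_eq_pow_mod m hx, pow_eq_pow_mod n hx, h]

/-- The class two commutator formula. -/
theorem comm_pow_pow {x y z : G} (hz : ∀ g : G, z * g = g * z) (h : x * y * x⁻¹ * y⁻¹ = z) (i j : ℕ) :
    x ^ i * y ^ j * (x ^ i)⁻¹ * (y ^ j)⁻¹ = z ^ (i * j) := by
  have hzn : ∀ (k : ℕ) (g : G), z ^ k * g = g * z ^ k := fun k g =>
    (Commute.pow_left (Commute.symm (Commute.symm (hz g))) k)
  have h1 : ∀ (a b : G) (w : G), (∀ g : G, w * g = g * w) → a * b * a⁻¹ * b⁻¹ = w → ∀ n : ℕ,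
      a ^ n * b = w ^ n * b * a ^ n := by
    intro a b w hw hab n
    have hab' : a * b = w * b * a := by
      rw [← hab]; group
    have hwn : ∀ (k : ℕ) (g : G), w ^ k * g = g * w ^ k := fun k g =>
      (Commute.pow_left (Commute.symm (Commute.symm (hw g))) k)
    induction n with
    | zero => simp
    | succ n ih =>
      calc a ^ (n + 1) * b = a * (a ^ n * b) := by rw [pow_succ']; group
        _ = a * (w ^ n * b * a ^ n) := by rw [ih]
        _ = (a * w ^ n) * b * a ^ n := by group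
        _ = w ^ n * (a * b) * a ^ n := by rw [← hwn n a]; group
        _ = w ^ n * (w * b * a) * a ^ n := by rw [hab']
        _ = w ^ (n + 1) * b * a ^ (n + 1) := by
            rw [pow_succ w n, pow_succ' a n]
            group
  -- first `x ^ i` and `y`
  have h2 : ∀ i : ℕ, x ^ i * y * (x ^ i)⁻¹ * y⁻¹ = z ^ i := by
    intro i
    have h3 := h1 x y z hz h i
    rw [h3, mul_assoc (z ^ i), mul_assoc (z ^ i), mul_assoc (z ^ i)]
    simp
  -- then `y ^ j`
  have h4 : ∀ j : ℕ, x ^ i * y ^ j * (x ^ i)⁻¹ * (y ^ j)⁻¹ = z ^ (i * j) := by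
    intro j
    have hzi : ∀ g : G, z ^ i * g = g * z ^ i := hzn i
    have h5 : y * x ^ i * y⁻¹ * (x ^ i)⁻¹ = (z ^ i)⁻¹ := by
      rw [← h2 i]; group
    have hzi' : ∀ g : G, (z ^ i)⁻¹ * g = g * (z ^ i)⁻¹ := by
      intro g
      have := hzi g
      calc (z ^ i)⁻¹ * g = (z ^ i)⁻¹ * (g * z ^ i) * (z ^ i)⁻¹ := by group
        _ = (z ^ i)⁻¹ * (z ^ i * g) * (z ^ i)⁻¹ := by rw [hzi g]
        _ = g * (z ^ i)⁻¹ := by group
    have h6 := h1 y (x ^ i) _ hzi' h5 j
    have hcalc : x ^ i * y ^ j = (z ^ i) ^ j * (y ^ j * x ^ i) := by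
      have h7 : y ^ j * x ^ i = ((z ^ i)⁻¹) ^ j * x ^ i * y ^ j := h6
      rw [h7, inv_pow]
      group
    rw [hcalc, pow_mul]
    have hzij : ∀ g : G, (z ^ i) ^ j * g = g * (z ^ i) ^ j := fun g => by
      rw [← pow_mul]
      exact hzn _ g
    group
  exact h4 j

/-- Central factors do not change a commutator. -/
theorem comm_central {x y z₁ z₂ : G} (h1 : ∀ g : G, z₁ * g = g * z₁) (h2 : ∀ g : G, z₂ * g = g * z₂) :
    (z₁ * x) * (z₂ * y) * (z₁ * x)⁻¹ * (z₂ * y)⁻¹ = x * y * x⁻¹ * y⁻¹ := by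
  have c1 : ∀ g : G, z₁⁻¹ * g = g * z₁⁻¹ := fun g => by
    calc z₁⁻¹ * g = z₁⁻¹ * (g * z₁) * z₁⁻¹ := by group
      _ = z₁⁻¹ * (z₁ * g) * z₁⁻¹ := by rw [h1 g]
      _ = g * z₁⁻¹ := by group
  have c2 : ∀ g : G, z₂⁻¹ * g = g * z₂⁻¹ := fun g => by
    calc z₂⁻¹ * g = z₂⁻¹ * (g * z₂) * z₂⁻¹ := by group
      _ = z₂⁻¹ * (z₂ * g) * z₂⁻¹ := by rw [h2 g]
      _ = g * z₂⁻¹ := by group
  have e1 : (z₁ * x) = x * z₁ := h1 x
  have e2 : (z₂ * y) = y * z₂ := h2 y
  have e3 : (z₁ * x)⁻¹ = x⁻¹ * z₁⁻¹ := by group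
  have e4 : (z₂ * y)⁻¹ = y⁻¹ * z₂⁻¹ := by group
  rw [e3, e4]
  calc z₁ * x * (z₂ * y) * (x⁻¹ * z₁⁻¹) * (y⁻¹ * z₂⁻¹)
      = z₁ * (x * z₂) * y * x⁻¹ * z₁⁻¹ * y⁻¹ * z₂⁻¹ := by group
    _ = z₁ * z₂ * x * y * x⁻¹ * (z₁⁻¹ * y⁻¹) * z₂⁻¹ := by rw [← h2 x]; group
    _ = z₁ * z₂ * (x * y * x⁻¹ * y⁻¹) * z₁⁻¹ * z₂⁻¹ := by rw [c1]; group
    _ = z₁ * z₂ * (z₁⁻¹ * (x * y * x⁻¹ * y⁻¹)) * z₂⁻¹ := by rw [c1]; group
    _ = z₁ * (z₂ * z₁⁻¹) * (x * y * x⁻¹ * y⁻¹) * z₂⁻¹ := by group
    _ = z₁ * (z₁⁻¹ * z₂) * (x * y * x⁻¹ * y⁻¹) * z₂⁻¹ := by rw [c1]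
    _ = z₂ * (x * y * x⁻¹ * y⁻¹) * z₂⁻¹ := by group
    _ = z₂ * (z₂⁻¹ * (x * y * x⁻¹ * y⁻¹)) := by rw [mul_assoc z₂, ← c2]
    _ = x * y * x⁻¹ * y⁻¹ := by group

/-- `g ^ m ∈ E`, `g ^ p ∈ E`, `m` and `p` coprime, imply `g ∈ E`. -/
theorem mem_of_pow_mem {E : Subgroup G} [E.Normal] {g : G} {m n : ℕ} (h : Nat.Coprime m n) (hm : g ^ m ∈ E)
    (hn : g ^ n ∈ E) : g ∈ E := by
  have h1 : ((g : G ⧸ E)) ^ m = 1 := by
    rw [← QuotientGroup.mk_pow]
    exact (QuotientGroup.eq_one_iff _).mpr hm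
  have h2 : ((g : G ⧸ E)) ^ n = 1 := by
    rw [← QuotientGroup.mk_pow]
    exact (QuotientGroup.eq_one_iff _).mpr hn
  have h3 : ((g : G ⧸ E)) ^ (m.gcd n) = 1 := pow_gcd_eq_one.mpr ⟨h1, h2⟩
  rw [h, pow_one] at h3
  exact (QuotientGroup.eq_one_iff _).mp h3

/-- An element killed by two coprime exponents is trivial. -/
theorem eq_one_of_pow_coprime {g : G} {m n : ℕ} (h : Nat.Coprime m n) (hm : g ^ m = 1) (hn : g ^ n = 1) : g = 1 := by
  have h3 : g ^ (m.gcd n) = 1 := pow_gcd_eq_one.mpr ⟨hm, hn⟩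
  rwa [h, pow_one] at h3

end Basic

section Triple

variable {G : Type*} [Group G] [Finite G] {p : ℕ} [hp : Fact p.Prime]

/-- Three commuting independent elements of order `p` contradict rank two. -/
theorem false_of_triple (hG : IsPGroup p G) (hr : PRankLE p 2 G) {a b c : G}
    (ha : a ^ p = 1) (hb : b ^ p = 1) (hc : c ^ p = 1) (ha1 : a ≠ 1)
    (hab : a * b = b * a) (hac : a * c = c * a) (hbc : b * c = c * b)
    (hb' : b ∉ Subgroup.zpowers a) (hc' : c ∉ Subgroup.closure ({a, b} : Set G)) : False := by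
  classical
  have hpp := hp.out
  set A := Subgroup.closure ({a, b, c} : Set G) with hA
  have hgen : ∀ x ∈ ({a, b, c} : Set G), ∀ y ∈ ({a, b, c} : Set G), x * y = y * x := by
    rintro x (rfl | rfl | rfl) y (rfl | rfl | rfl)
    · rfl
    · exact hab
    · exact hac
    · exact hab.symm
    · rfl
    · exact hbc
    · exact hac.symm
    · exact hbc.symm
    · rfl
  have hAcomm : ∀ x ∈ A, ∀ y ∈ A, x * y = y * x := by
    intro x hx y hy
    exact Cfsg.Agent.Lib.AutRankTwo.comm_of_closure hgen x hx y hy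
  have hAexp : ∀ x ∈ A, x ^ p = 1 := by
    intro x hx
    induction hx using Subgroup.closure_induction with
    | mem y hy =>
      rcases hy with rfl | rfl | rfl
      · exact ha
      · exact hb
      · exact hc
    | one => exact one_pow _
    | mul x y hx hy hx' hy' =>
      rw [(show Commute x y from hAcomm x hx y hy).mul_pow, hx', hy', one_mul]
    | inv x hx hx' => rw [inv_pow, hx', inv_one]
  have hcard := hr A ⟨⟨fun x y => Subtype.ext (hAcomm x x.2 y y.2)⟩⟩ hAexp
  -- the chain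
  have h1 : (⊥ : Subgroup G) < Subgroup.zpowers a := by
    rw [bot_lt_iff_ne_bot]
    intro h
    exact ha1 (Subgroup.zpowers_eq_bot.mp h)
  have h2 : Subgroup.zpowers a < Subgroup.closure ({a, b} : Set G) := by
    refine lt_of_le_of_ne ?_ ?_
    · rw [Subgroup.zpowers_le]
      exact Subgroup.subset_closure (by simp)
    · intro h
      apply hb'
      rw [h]
      exact Subgroup.subset_closure (by simp)
  have h3 : Subgroup.closure ({a, b} : Set G) < A := by
    refine lt_of_le_of_ne ?_ ?_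
    · apply Subgroup.closure_mono
      intro x hx
      rcases hx with rfl | rfl <;> simp
    · intro h
      apply hc'
      rw [h]
      exact Subgroup.subset_closure (by simp)
  have c1 := Cfsg.Agent.Lib.AutRankTwo.card_mul_le_of_lt hG h1
  have c2 := Cfsg.Agent.Lib.AutRankTwo.card_mul_le_of_lt hG h2
  have c3 := Cfsg.Agent.Lib.AutRankTwo.card_mul_le_of_lt hG h3
  rw [Subgroup.card_bot, mul_one] at c1
  have c4 : p ^ 3 ≤ Nat.card A := by
    calc p ^ 3 = p * (p * p) := by ring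
      _ ≤ p * (p * Nat.card (Subgroup.zpowers a)) := by
          exact Nat.mul_le_mul_left _ (Nat.mul_le_mul_left _ c1)
      _ ≤ p * Nat.card (Subgroup.closure ({a, b} : Set G)) := Nat.mul_le_mul_left _ c2
      _ ≤ Nat.card A := c3
  have c5 : p ^ 3 ≤ p ^ 2 := c4.trans hcard
  have := (Nat.pow_le_pow_iff_right hpp.one_lt).mp c5
  omega

/-- A normal subgroup of prime order in a `p`-group is central. -/
theorem central_of_normal_card_prime (hG : IsPGroup p G) (Z : Subgroup G) [hZ : Z.Normal] (hcard : Nat.card Z = p) :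
    ∀ z ∈ Z, ∀ g : G, z * g = g * z := by
  classical
  have hpp := hp.out
  letI act : MulAction G Z :=
    { smul := fun s v => ⟨s * v * s⁻¹, hZ.conj_mem v v.2 s⟩
      one_smul := fun v => Subtype.ext (by
        show (1 : G) * v * (1 : G)⁻¹ = v
        simp)
      mul_smul := fun a b v => Subtype.ext (by
        show (a * b) * v * (a * b)⁻¹ = a * (b * v * b⁻¹) * a⁻¹
        group) }
  have hact : ∀ (s : G) (v : Z), ((s • v : Z) : G) = s * v * s⁻¹ := fun _ _ => rfl
  have h0fix : (1 : Z) ∈ MulAction.fixedPoints G Z := by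
    intro s
    apply Subtype.ext
    rw [hact]
    simp
  obtain ⟨v, hv, hne⟩ := hG.exists_fixed_point_of_prime_dvd_card_of_fixed_point Z
    (by rw [hcard]) h0fix
  have hvc : ∀ g : G, g * (v : G) * g⁻¹ = v := by
    intro g
    have := congrArg Subtype.val (hv g)
    rwa [hact] at this
  have hv1 : (v : G) ≠ 1 := fun h => hne (Subtype.ext h.symm)
  have hgen : Z = Subgroup.zpowers (v : G) := by
    symm
    apply Subgroup.eq_of_le_of_card_ge
    · rw [Subgroup.zpowers_le]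
      exact v.2
    · rw [Nat.card_zpowers, hcard]
      have h1 : orderOf (v : G) ∣ p := by
        have := Subgroup.orderOf_dvd_natCard Z v.2
        rwa [hcard] at this
      rcases (Nat.dvd_prime hpp).mp h1 with h2 | h2
      · exact absurd (orderOf_eq_one_iff.mp h2) hv1
      · exact h2.ge
  intro z hz g
  rw [hgen] at hz
  obtain ⟨i, rfl⟩ := Subgroup.mem_zpowers_iff.mp hz
  have hc : Commute (v : G) g := by
    have := hvc g
    show (v : G) * g = g * v
    calc (v : G) * g = (g * v * g⁻¹) * g := by rw [this]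
      _ = g * v := by group
  exact (hc.zpow_left i).eq

/-- Restriction of the `Ω₁`-criterion to an invariant subgroup. -/
theorem res_trivial_of_omega {G : Type u} [Group G] [Finite G] {p : ℕ} [hp : Fact p.Prime] (hG : IsPGroup p G)
    (hp2 : p ≠ 2) (M : Subgroup G) (α : MulAut G) (hinv : ∀ x ∈ M, α x ∈ M)
    (hα : (orderOf α).Coprime p) (hfix : ∀ x ∈ M, x ^ p = 1 → α x = x) : ∀ x ∈ M, α x = x := by
  intro x hx
  let f : M →* M :=
    { toFun := fun y => ⟨α y.1, hinv y.1 y.2⟩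
      map_one' := by ext; simp
      map_mul' := fun a b => by ext; simp }
  have hinj : Function.Injective f := by
    intro a b hab
    have : α a.1 = α b.1 := congrArg Subtype.val hab
    exact Subtype.ext (α.injective this)
  have hbij : Function.Bijective f := Finite.injective_iff_bijective.mp hinj
  let β : MulAut M := MulEquiv.ofBijective f hbij
  have hβ : ∀ (k : ℕ) (y : M), ((β ^ k) y : G) = (α ^ k) y.1 := by
    intro k
    induction k with
    | zero => intro y; simp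
    | succ k ihk =>
      intro y
      rw [pow_succ', MulAut.mul_apply, pow_succ', MulAut.mul_apply]
      show α ((β ^ k) y : G) = _
      rw [ihk]
  have hβord : orderOf β ∣ orderOf α := by
    apply orderOf_dvd_of_pow_eq_one
    ext y
    rw [hβ, pow_orderOf_eq_one]
    simp
  have := Cfsg.Agent.Lib.OmegaAut.aut_trivial_of_omega _ M p hp2 (hG.to_subgroup M) rfl β
      (Nat.Coprime.coprime_dvd_left hβord hα)
      (fun y hy => by
        apply Subtype.ext
        show α y.1 = y.1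
        apply hfix _ y.2
        have := congrArg Subtype.val hy
        simpa using this) ⟨x, hx⟩
  exact congrArg Subtype.val this

end Triple

/-- The binomial expansion in an endomorphism ring, applied to a vector. -/
theorem power_calc {V : Type*} [AddCommGroup V] {p : ℕ} (hp : p.Prime) (h4 : 4 ≤ p) (μ : AddMonoid.End V)
    (h1 : (μ + 1) ^ p = 1) (w : V) (h2 : μ (μ (p • w)) = 0) (h3 : μ (μ (μ (μ w))) = 0) : μ (p • w) = 0 := by
  obtain ⟨W, hW⟩ := Cfsg.Agent.Lib.RankTwoA1.exists_add_one_pow (S := Polynomial ℤ) hp Polynomial.X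
  let φ := Polynomial.aeval (R := ℤ) μ
  have hφ := congrArg φ hW
  set ν := φ W with hν
  have hcomm : Commute μ ν := by
    have := (Polynomial.commute_X W).map φ
    simpa [φ, hν] using this
  have hφ' : (μ + 1) ^ p = μ ^ p + 1 + p * μ * (1 + μ * ν) := by
    simpa [φ] using hφ
  have hμp : (μ ^ p) w = 0 := by
    obtain ⟨q, rfl⟩ : ∃ q, p = q + 4 := ⟨p - 4, by omega⟩
    rw [pow_add]
    show (μ ^ q) ((μ ^ 4) w) = 0
    have e4 : (μ ^ 4) w = μ (μ (μ (μ w))) := rfl
    rw [e4, h3, map_zero]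
  have hev := congrArg (fun f : AddMonoid.End V => f w) hφ'
  simp only [h1] at hev
  have e1 : (1 : AddMonoid.End V) w = w := rfl
  have e2 : ((μ ^ p + 1 + p * μ * (1 + μ * ν) : AddMonoid.End V)) w =
      (μ ^ p) w + w + p • μ (w + μ (ν w)) := by
    show (μ ^ p) w + w + ((p : AddMonoid.End V) * μ * (1 + μ * ν)) w = _
    congr 1
  rw [e2, e1, hμp, zero_add] at hev
  have h5 : p • μ (w + μ (ν w)) = 0 := by
    have : w + p • μ (w + μ (ν w)) = w + 0 := by rw [add_zero]; exact hev.symm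
    exact add_left_cancel this
  rw [map_add, smul_add] at h5
  have e3 : p • μ (μ (ν w)) = ν (μ (μ (p • w))) := by
    have c1 : μ (ν w) = ν (μ w) := by
      have := congrArg (fun f : AddMonoid.End V => f w) hcomm.eq
      exact this
    have c2 : μ (ν (μ w)) = ν (μ (μ w)) := by
      have := congrArg (fun f : AddMonoid.End V => f (μ w)) hcomm.eq
      exact this
    rw [c1, c2, map_nsmul, map_nsmul, map_nsmul]
  rw [e3, h2, map_zero, add_zero] at h5
  rw [map_nsmul]
  exact h5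

/-- Multiplicative form of `power_calc`. -/
theorem power_calc_mul {V : Type*} [Group V] (hcomm : ∀ x y : V, x * y = y * x) {p : ℕ} (hp : p.Prime) (h4 : 4 ≤ p)
    (c : V →* V) (hc : ∀ x, (c^[p]) x = x) (w : V)
    (h2 : c (c (w ^ p) * (w ^ p)⁻¹) * (c (w ^ p) * (w ^ p)⁻¹)⁻¹ = 1)
    (h3 : ∀ d : V, d = c (c w * w⁻¹) * (c w * w⁻¹)⁻¹ → c (c d * d⁻¹) * (c d * d⁻¹)⁻¹ = 1) :
    c (w ^ p) * (w ^ p)⁻¹ = 1 := by
  let _ : CommGroup V := { (inferInstance : Group V) with mul_comm := hcomm }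
  let c' : AddMonoid.End (Additive V) := MonoidHom.toAdditive c
  let μ : AddMonoid.End (Additive V) := c' - 1
  have hμ : ∀ y : V, μ (Additive.ofMul y) = Additive.ofMul (c y * y⁻¹) := by
    intro y
    show c' (Additive.ofMul y) - Additive.ofMul y = _
    rw [sub_eq_add_neg]
    rfl
  have hpow : ∀ (n : ℕ) (y : V), (c' ^ n) (Additive.ofMul y) = Additive.ofMul ((c^[n]) y) := by
    intro n
    induction n with
    | zero => intro y; rfl
    | succ n ih =>
      intro y
      rw [pow_succ', Function.iterate_succ_apply']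
      show c' ((c' ^ n) (Additive.ofMul y)) = _
      rw [ih]
      rfl
  have h1 : (μ + 1) ^ p = 1 := by
    have e : μ + 1 = c' := sub_add_cancel c' 1
    rw [e]
    ext y
    have := hpow p (Additive.toMul y)
    rw [hc] at this
    exact this
  have hsm : p • Additive.ofMul w = Additive.ofMul (w ^ p) := rfl
  have h5 := power_calc hp h4 μ h1 (Additive.ofMul w) (by
    rw [hsm, hμ, hμ, h2]
    rfl) (by
    rw [hμ, hμ, hμ, hμ, h3 _ rfl]
    rfl)
  rw [hsm, hμ] at h5
  exact h5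

end Cfsg.Agent.Lib.RankTwoResBasic
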