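import Mathlib
import Cfsg.Agent.Lib.RankTwoResBasic

/-!
# The normalizer of an essential subgroup in a rank two `p`-group, `p ≥ 5`

The section `X / X'` of the essential subgroup `E` carries the natural module of `SL₂(p)`; here we exclude the
non-abelian case by weights of the torus, working inside the normalizer `G` of `E`.
-/

set_option autoImplicit false

namespace Cfsg.Agent.Lib.RankTwoResA

open Cfsg Cfsg.Agent.Lib.RankTwoResBasic

universe u

variable {G : Type u} [Group G] [Finite G] {p : ℕ} [hp : Fact p.Prime]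

/-- An involutive automorphism of an odd `p`-group acting trivially on `G / E` fixes an element outside `E`. -/
theorem exists_fixed_lift (hG : IsPGroup p G) (hp2 : p ≠ 2) {E : Subgroup G} [hE : E.Normal] (hEt : E ≠ ⊤)
    (σ : MulAut G) (hσ2 : σ * σ = 1) (hσy : ∀ y, y⁻¹ * σ y ∈ E) : ∃ g, g ∉ E ∧ σ g = g := by
  classical
  have hpp := hp.out
  obtain ⟨g₀, hg₀⟩ : ∃ g₀, g₀ ∉ E := by
    by_contra h
    push Not at h
    exact hEt (eq_top_iff.mpr fun x _ => h x)
  set h := g₀⁻¹ * σ g₀ with hh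
  have hhE : h ∈ E := hσy g₀
  have hσσ : ∀ x, σ (σ x) = x := fun x => by
    have := congrArg (fun f : MulAut G => f x) hσ2
    simpa using this
  have hσh : σ h = h⁻¹ := by
    rw [hh, map_mul, map_inv, hσσ]
    group
  obtain ⟨n, hn⟩ := IsPGroup.iff_card.mp hG
  have hodd : Odd (Nat.card G) := by
    rw [hn]
    exact Odd.pow (hpp.odd_of_ne_two hp2)
  obtain ⟨m, hm⟩ : ∃ m, 2 * m = Nat.card G + 1 := by
    obtain ⟨k, hk⟩ := hodd
    exact ⟨k + 1, by omega⟩
  set h' := h ^ m with hh'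
  have hh'2 : h' * h' = h := by
    rw [hh', ← pow_add, ← two_mul, hm, pow_succ, pow_card_eq_one', one_mul]
  have hσh' : σ h' = h'⁻¹ := by
    rw [hh', map_pow, hσh, inv_pow]
  have hh'E : h' ∈ E := E.pow_mem hhE m
  refine ⟨g₀ * h', fun hmem => hg₀ ?_, ?_⟩
  · have := E.mul_mem hmem (E.inv_mem hh'E)
    simpa using this
  · rw [map_mul, hσh']
    have e : σ g₀ = g₀ * h := by rw [hh]; group
    rw [e]
    conv_lhs => rw [← hh'2]
    group

/-- The action on `G / E` of the powers of an automorphism acting as a power map. -/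
theorem mem_of_iter {E : Subgroup G} [hE : E.Normal] (t : MulAut G) {μ : ℕ} (hμ : ∀ y, (y ^ μ)⁻¹ * t y ∈ E)
    (hyp : ∀ y : G, y ^ p ∈ E) {k : ℕ} (hk : μ ^ k ≡ 1 [MOD p]) (y : G) : y⁻¹ * (t ^ k) y ∈ E := by
  have h1 : ∀ x : G, ((t x : G) : G ⧸ E) = ((x : G) : G ⧸ E) ^ μ := by
    intro x
    rw [← QuotientGroup.mk_pow]
    exact (QuotientGroup.eq.mpr (hμ x)).symm
  have h2 : ∀ (j : ℕ) (x : G), (((t ^ j) x : G) : G ⧸ E) = ((x : G) : G ⧸ E) ^ (μ ^ j) := by
    intro j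
    induction j with
    | zero => intro x; simp
    | succ j ih =>
      intro x
      rw [pow_succ', MulAut.mul_apply, h1, ih, ← pow_mul, pow_succ' μ j, mul_comm]
  have h3 : (((y : G) : G ⧸ E)) ^ p = 1 := by
    rw [← QuotientGroup.mk_pow]
    exact (QuotientGroup.eq_one_iff _).mpr (hyp y)
  apply QuotientGroup.eq.mp
  rw [h2, pow_congr_modEq h3 hk, pow_one]

/-- Fermat in the form needed. -/
theorem fermat_sq (hp2 : p ≠ 2) {a b μ : ℕ} (hab : a * b ≡ 1 [MOD p]) (hμ : μ ≡ a ^ 2 [MOD p]) :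
    μ ^ ((p - 1) / 2) ≡ 1 [MOD p] := by
  have hpp := hp.out
  have hodd := hpp.odd_of_ne_two hp2
  have ha0 : (a : ZMod p) ≠ 0 := by
    intro h
    have h1 : ((a * b : ℕ) : ZMod p) = ((1 : ℕ) : ZMod p) := (ZMod.natCast_eq_natCast_iff _ _ _).mpr hab
    push_cast at h1
    rw [h, zero_mul] at h1
    exact zero_ne_one h1
  rw [← ZMod.natCast_eq_natCast_iff]
  have h2 : (μ : ZMod p) = (a : ZMod p) ^ 2 := by
    have := (ZMod.natCast_eq_natCast_iff _ _ _).mpr hμ
    push_cast at this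
    exact this
  push_cast
  rw [h2, ← pow_mul]
  have h3 : 2 * ((p - 1) / 2) = p - 1 := by
    obtain ⟨k, hk⟩ := hodd
    omega
  rw [h3]
  exact ZMod.pow_card_sub_one_eq_one ha0

/-- **The non-abelian case is impossible.** -/
theorem false_of_nonabelian (h5 : 5 ≤ p) (hG : IsPGroup p G)
    (hr : PRankLE p 2 G) {E X Z : Subgroup G} [hE : E.Normal] (hXE : X ≤ E) (hEtop : E ≠ ⊤)
    (hXexp : ∀ x ∈ X, x ^ p = 1)
    (hZX : Z ≤ X) (hZc : ∀ z ∈ Z, ∀ g : G, z * g = g * z) (hZcard : Nat.card Z = p)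
    {u v : G} (hu : u ∈ X) (hv : v ∈ X)
    (hspan : ∀ x ∈ X, ∃ i j : ℕ, ∃ z ∈ Z, x = u ^ i * v ^ j * z)
    (hind : ∀ i j : ℕ, u ^ i * v ^ j ∈ Z → p ∣ i ∧ p ∣ j)
    (hna : ∃ x ∈ X, ∃ x' ∈ X, x * x' ≠ x' * x)
    (hEact : ∀ e ∈ E, ∀ x ∈ X, e * x * e⁻¹ * x⁻¹ ∈ Z)
    (hyu : ∀ y : G, y * u * y⁻¹ * u⁻¹ ∈ Z)
    (hyp : ∀ y : G, y ^ p ∈ E)
    (t : MulAut G) {a b μ : ℕ} (htp : t ^ (p - 1) = 1) (htE : ∀ e ∈ E, t e ∈ E)
    (htu : t u * (u ^ a)⁻¹ ∈ Z) (htv : t v * (v ^ b)⁻¹ ∈ Z) (hab : a * b ≡ 1 [MOD p])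
    (hμ : ∀ y, (y ^ μ)⁻¹ * t y ∈ E) (hμa : μ ≡ a ^ 2 [MOD p])
    (ha2 : ¬ a ^ 2 ≡ 1 [MOD p]) (ha3 : ¬ a ^ 3 ≡ 1 [MOD p])
    (hσ : ∀ x ∈ X, (t ^ ((p - 1) / 2)) x * x ∈ Z) : False := by
  classical
  have hpp := hp.out
  have hp2 : p ≠ 2 := by omega
  have hodd := hpp.odd_of_ne_two hp2
  set σ := t ^ ((p - 1) / 2) with hσdef
  have hσ2 : σ * σ = 1 := by
    rw [hσdef, ← pow_add]
    have h3 : (p - 1) / 2 + (p - 1) / 2 = p - 1 := by
      obtain ⟨k, hk⟩ := hodd
      omega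
    rw [h3, htp]
  have hσσ : ∀ x, σ (σ x) = x := fun x => by
    have := congrArg (fun f : MulAut G => f x) hσ2
    simpa using this
  have htσ : ∀ g, t (σ g) = σ (t g) := by
    intro g
    have : t * σ = σ * t := by
      rw [hσdef]
      exact (Commute.pow_right (Commute.refl t) _).eq
    exact congrArg (fun f : MulAut G => f g) this
  have hσE : ∀ e ∈ E, σ e ∈ E := by
    intro e he
    rw [hσdef]
    generalize (p - 1) / 2 = k
    induction k with
    | zero => simpa using he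
    | succ k ih =>
      rw [pow_succ', MulAut.mul_apply]
      exact htE _ ih
  have hZexp : ∀ z ∈ Z, z ^ p = 1 := fun z hz => hXexp z (hZX hz)
  -- the generator of `Z`
  set z₀ := u * v * u⁻¹ * v⁻¹ with hz₀
  have hz₀Z : z₀ ∈ Z := hEact u (hXE hu) v hv
  have hz₀c : ∀ g : G, z₀ * g = g * z₀ := hZc z₀ hz₀Z
  have hz₀ne : z₀ ≠ 1 := by
    intro h
    have huv : u * v = v * u := by
      have h1 : u * v * u⁻¹ * v⁻¹ = 1 := h
      calc u * v = (u * v * u⁻¹ * v⁻¹) * (v * u) := by group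
        _ = v * u := by rw [h1, one_mul]
    obtain ⟨x, hx, x', hx', hne⟩ := hna
    apply hne
    obtain ⟨i, j, z, hz, rfl⟩ := hspan x hx
    obtain ⟨i', j', z', hz', rfl⟩ := hspan x' hx'
    have c1 : Commute u v := huv
    have c2 : Commute (u ^ i * v ^ j) (u ^ i' * v ^ j') := by
      apply Commute.mul_left
      · apply Commute.mul_right
        · exact (Commute.refl u).pow_pow _ _
        · exact c1.pow_pow _ _
      · apply Commute.mul_right
        · exact c1.symm.pow_pow _ _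
        · exact (Commute.refl v).pow_pow _ _
    have c3 : Commute (u ^ i * v ^ j) z' := (hZc z' hz' _).symm
    have c4 : Commute z (u ^ i' * v ^ j') := hZc z hz _
    have c5 : Commute z z' := hZc z hz _
    exact (((c2.mul_right c3).mul_left (c4.mul_right c5))).eq
  have hz₀o : orderOf z₀ = p := orderOf_eq_prime (hZexp z₀ hz₀Z) hz₀ne
  have hZeq : Z = Subgroup.zpowers z₀ := by
    symm
    apply Subgroup.eq_of_le_of_card_ge
    · rw [Subgroup.zpowers_le]
      exact hz₀Z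
    · rw [Nat.card_zpowers, hz₀o, hZcard]
  have hZpow : ∀ z ∈ Z, ∃ k : ℕ, z = z₀ ^ k := by
    intro z hz
    rw [hZeq] at hz
    obtain ⟨k, rfl⟩ := (mem_powers_iff_mem_zpowers).mpr hz
    exact ⟨k, rfl⟩
  -- `t` fixes `Z`
  have htz₀ : t z₀ = z₀ := by
    set z₁ := t u * (u ^ a)⁻¹ with hz₁
    set z₂ := t v * (v ^ b)⁻¹ with hz₂
    have e1 : t u = z₁ * u ^ a := by rw [hz₁]; group
    have e2 : t v = z₂ * v ^ b := by rw [hz₂]; group
    have hc1 := hZc z₁ htu
    have hc2 := hZc z₂ htv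
    have h1 : t z₀ = u ^ a * v ^ b * (u ^ a)⁻¹ * (v ^ b)⁻¹ := by
      rw [hz₀]
      simp only [map_mul, map_inv]
      rw [e1, e2]
      exact comm_central hc1 hc2
    rw [h1, comm_pow_pow hz₀c rfl a b]
    exact pow_congr_modEq (hZexp z₀ hz₀Z) hab |>.trans (pow_one _)
  have htZ : ∀ z ∈ Z, t z = z := by
    intro z hz
    obtain ⟨k, rfl⟩ := hZpow z hz
    rw [map_pow, htz₀]

  -- elements of order `p` of `E` lie in `X`
  have hΩ : ∀ e ∈ E, e ^ p = 1 → e ∈ X := by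
    intro e he hep
    by_contra heX
    have hr1 : e * u * e⁻¹ * u⁻¹ ∈ Z := hEact e he u hu
    have hr2 : e * v * e⁻¹ * v⁻¹ ∈ Z := hEact e he v hv
    set r₁ := e * u * e⁻¹ * u⁻¹ with hr₁
    set r₂ := e * v * e⁻¹ * v⁻¹ with hr₂
    have econj1 : e * u * e⁻¹ = r₁ * u := by rw [hr₁]; group
    have econj2 : e * v * e⁻¹ = r₂ * v := by rw [hr₂]; group
    -- an element of `X ∖ Z` commuting with `e`
    obtain ⟨x₁, hx₁X, hx₁Z, hx₁e⟩ : ∃ x₁ ∈ X, x₁ ∉ Z ∧ e * x₁ = x₁ * e := by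
      by_cases h1 : r₁ = 1
      · refine ⟨u, hu, fun hmem => ?_, ?_⟩
        · have := hind 1 0 (by simpa using hmem)
          exact hpp.one_lt.ne' (Nat.dvd_one.mp this.1)
        · have h2 : e * u * e⁻¹ = u := by rw [econj1, h1, one_mul]
          calc e * u = (e * u * e⁻¹) * e := by group
            _ = u * e := by rw [h2]
      · have hZ' : Z = Subgroup.zpowers r₁ := by
          symm
          apply Subgroup.eq_of_le_of_card_ge
          · rw [Subgroup.zpowers_le]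
            exact hr1
          · rw [Nat.card_zpowers, orderOf_eq_prime (hZexp _ hr1) h1, hZcard]
        have hr2' : r₂ ∈ Subgroup.zpowers r₁ := hZ' ▸ hr2
        obtain ⟨m, hm⟩ := (mem_powers_iff_mem_zpowers).mpr hr2'
        have hm' : r₁ ^ m = r₂ := hm
        have hr1c := hZc r₁ hr1
        have hr2c := hZc r₂ hr2
        refine ⟨u ^ (m * (p - 1)) * v, X.mul_mem (X.pow_mem hu _) hv, fun hmem => ?_, ?_⟩
        · have := hind (m * (p - 1)) 1 (by simpa using hmem)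
          exact hpp.one_lt.ne' (Nat.dvd_one.mp this.2)
        · have h2 : e * (u ^ (m * (p - 1)) * v) * e⁻¹ = u ^ (m * (p - 1)) * v := by
            have h3 : e * (u ^ (m * (p - 1)) * v) * e⁻¹ = (e * u * e⁻¹) ^ (m * (p - 1)) * (e * v * e⁻¹) := by
              rw [conj_pow]
              group
            rw [h3, econj1, econj2]
            have hcr : Commute r₁ u := hr1c u
            rw [hcr.mul_pow]
            have h4 : r₁ ^ (m * (p - 1)) * r₂ = 1 := by
              rw [← hm', ← pow_add]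
              have e1 : m * (p - 1) + m = m * p := by
                obtain ⟨q, rfl⟩ : ∃ q, p = q + 1 := ⟨p - 1, by omega⟩
                simp only [Nat.add_sub_cancel]
                ring
              rw [e1, mul_comm, pow_mul, hZexp _ hr1, one_pow]
            calc r₁ ^ (m * (p - 1)) * u ^ (m * (p - 1)) * (r₂ * v)
                = r₁ ^ (m * (p - 1)) * (u ^ (m * (p - 1)) * r₂) * v := by group
              _ = r₁ ^ (m * (p - 1)) * (r₂ * u ^ (m * (p - 1))) * v := by rw [hr2c]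
              _ = (r₁ ^ (m * (p - 1)) * r₂) * (u ^ (m * (p - 1)) * v) := by group
              _ = u ^ (m * (p - 1)) * v := by rw [h4, one_mul]
          calc e * (u ^ (m * (p - 1)) * v) = (e * (u ^ (m * (p - 1)) * v) * e⁻¹) * e := by group
            _ = _ := by rw [h2]
    refine false_of_triple hG hr (hZexp z₀ hz₀Z) (hXexp x₁ hx₁X) hep hz₀ne (hz₀c _) (hz₀c _) hx₁e.symm ?_ ?_
    · rw [← hZeq]
      exact hx₁Z
    · intro hmem
      apply heX
      have hle : Subgroup.closure ({z₀, x₁} : Set G) ≤ X := by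
        rw [Subgroup.closure_le]
        rintro x (rfl | rfl)
        · exact hZX hz₀Z
        · exact hx₁X
      exact hle hmem
  -- the centralizer `C₁ = C_E(σ)`
  let C₁ : Subgroup G :=
    { carrier := {c | c ∈ E ∧ σ c = c}
      mul_mem' := by
        rintro x y ⟨hx, hx'⟩ ⟨hy, hy'⟩
        exact ⟨E.mul_mem hx hy, by rw [map_mul, hx', hy']⟩
      one_mem' := ⟨E.one_mem, map_one _⟩
      inv_mem' := by
        rintro x ⟨hx, hx'⟩
        exact ⟨E.inv_mem hx, by rw [map_inv, hx']⟩ }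
  have hC₁mem : ∀ c, c ∈ C₁ ↔ c ∈ E ∧ σ c = c := fun _ => Iff.rfl
  have hsq : ∀ x ∈ X, x * x ∈ Z → x ∈ Z := by
    intro x hx hxx
    obtain ⟨k, hk⟩ := hodd
    have e1 : x = (x * x) ^ (k + 1) := by
      rw [← pow_two, ← pow_mul]
      have e2 : 2 * (k + 1) = p + 1 := by omega
      rw [e2, pow_succ, hXexp x hx, one_mul]
    rw [e1]
    exact Z.pow_mem hxx _
  have htord : (orderOf t).Coprime p := by
    have h1 : orderOf t ∣ p - 1 := orderOf_dvd_of_pow_eq_one htp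
    apply Nat.Coprime.coprime_dvd_left h1
    exact (Nat.coprime_of_lt_prime (by omega) (by omega) hpp).symm
  have htC₁ : ∀ c ∈ C₁, t c = c := by
    apply res_trivial_of_omega hG hp2 C₁ t
    · rintro x ⟨hx, hx'⟩
      exact ⟨htE x hx, by rw [← htσ, hx']⟩
    · exact htord
    · rintro x ⟨hx, hx'⟩ hxp
      have hxX := hΩ x hx hxp
      have h1 := hσ x hxX
      rw [hx'] at h1
      exact htZ x (hsq x hxX h1)
  -- the action on `G / E`
  have hμ1 : μ ^ ((p - 1) / 2) ≡ 1 [MOD p] := fermat_sq hp2 hab hμa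
  have hσy : ∀ y, y⁻¹ * σ y ∈ E := fun y => mem_of_iter t hμ hyp hμ1 y
  obtain ⟨g, hgE, hσg⟩ := exists_fixed_lift hG hp2 hEtop σ hσ2 hσy
  -- `μ - 1` is prime to `p`
  have hμa1 : ¬ μ ≡ 1 [MOD p] := fun h => ha2 (hμa.symm.trans h)
  obtain ⟨μ', hμ'⟩ : ∃ μ', μ = μ' + 1 := by
    rcases μ with _ | μ'
    · exfalso
      -- `a` is invertible
      have h0 : 0 ≡ a ^ 2 [MOD p] := hμa
      have ha0 : (a : ZMod p) = 0 := by
        have h1 := (ZMod.natCast_eq_natCast_iff _ _ _).mpr h0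
        push_cast at h1
        exact pow_eq_zero_iff (two_ne_zero) |>.mp h1.symm
      have h1 : ((a * b : ℕ) : ZMod p) = ((1 : ℕ) : ZMod p) := (ZMod.natCast_eq_natCast_iff _ _ _).mpr hab
      push_cast at h1
      rw [ha0, zero_mul] at h1
      exact zero_ne_one h1
    · exact ⟨μ', rfl⟩
  have hμ'p : Nat.Coprime μ' p := by
    rw [Nat.coprime_comm, hpp.coprime_iff_not_dvd]
    intro hdvd
    apply hμa1
    rw [hμ']
    have h1 : μ' ≡ 0 [MOD p] := (Nat.modEq_zero_iff_dvd).mpr hdvd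
    simpa using h1.add_right 1
  obtain ⟨n, hn⟩ := IsPGroup.iff_card.mp hG
  have hμ'N : Nat.Coprime μ' (Nat.card G) := by
    rw [hn]
    exact Nat.Coprime.pow_right n hμ'p
  have hcardpow : ∀ x : G, x ^ Nat.card G = 1 := fun x => pow_card_eq_one'
  -- `y₀`
  set y₀ := g⁻¹ * t g with hy₀
  have hσy₀ : σ y₀ = y₀ := by
    rw [hy₀, map_mul, map_inv, hσg, ← htσ, hσg]
  have hy₀c : ∀ c ∈ C₁, y₀ * c = c * y₀ := by
    rintro c ⟨hc, hc'⟩
    have hd : g * c * g⁻¹ ∈ C₁ := by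
      refine ⟨hE.conj_mem c hc g, ?_⟩
      rw [map_mul, map_mul, map_inv, hσg, hc']
    have h1 := htC₁ _ hd
    rw [map_mul, map_mul, map_inv, htC₁ c ⟨hc, hc'⟩] at h1
    have h2 : t g * c = g * c * g⁻¹ * t g := by rw [← h1]; group
    calc y₀ * c = g⁻¹ * (t g * c) := by rw [hy₀]; group
      _ = g⁻¹ * (g * c * g⁻¹ * t g) := by rw [h2]
      _ = c * y₀ := by rw [hy₀]; group
  have hy₀E : y₀ ∉ E := by
    intro hmem
    apply hgE
    have h1 := hμ g
    have h2 : g ^ μ' = y₀ * ((g ^ μ)⁻¹ * t g)⁻¹ := by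
      rw [hy₀, hμ', pow_succ]
      group
    have h3 : g ^ μ' ∈ E := by
      rw [h2]
      exact E.mul_mem hmem (E.inv_mem h1)
    exact mem_of_pow_mem hμ'p h3 (hyp g)
  -- `c`
  set c := (y₀ ^ μ)⁻¹ * t y₀ with hc
  have hcC : c ∈ C₁ := by
    refine ⟨hμ y₀, ?_⟩
    rw [hc, map_mul, map_inv, map_pow, hσy₀, ← htσ, hσy₀]
  have htc : t c = c := htC₁ c hcC
  have hyc : Commute y₀ c := hy₀c c hcC
  obtain ⟨x, hx⟩ : ∃ x, x * μ' ≡ 1 [MOD Nat.card G] := by
    have hgt : 1 < Nat.card G := by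
      rw [Nat.one_lt_iff_ne_zero_and_ne_one]
      refine ⟨Nat.card_pos.ne', fun h1 => ?_⟩
      apply hEtop
      have := Nat.card_eq_one_iff_unique.mp h1
      exact eq_top_iff.mpr fun y _ => by
        rw [this.1.elim y 1]
        exact E.one_mem
    obtain ⟨m, -, hm⟩ := Nat.exists_mul_mod_eq_one_of_coprime hμ'N hgt
    refine ⟨m, ?_⟩
    rw [mul_comm]
    show (μ' * m) % _ = 1 % _
    rw [hm, Nat.mod_eq_of_lt hgt]
  set y₁ := y₀ * c ^ x with hy₁
  have hcpow : c ^ (x * μ') = c := by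
    have := pow_congr_modEq (hcardpow c) hx
    rwa [pow_one] at this
  have hty₁ : t y₁ = y₁ ^ μ := by
    have e1 : t y₀ = y₀ ^ μ * c := by rw [hc]; group
    rw [hy₁, map_mul, map_pow, htc, e1, (show Commute y₀ (c ^ x) from hyc.pow_right x).mul_pow]
    rw [hμ', pow_succ (c ^ x), ← pow_mul, hcpow, mul_assoc]
  have hy₁E : y₁ ∉ E := by
    intro hmem
    apply hy₀E
    have h1 : c ^ x ∈ E := E.pow_mem hcC.1 x
    have := E.mul_mem hmem (E.inv_mem h1)
    simpa [hy₁] using this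
  have hσy₁ : σ y₁ = y₁ := by
    rw [hy₁, map_mul, map_pow, hσy₀, hcC.2]
  -- `y₁` has order `p`
  have hy₁p : y₁ ^ p = 1 := by
    have hw : y₁ ^ p ∈ C₁ := ⟨hyp y₁, by rw [map_pow, hσy₁]⟩
    have h1 := htC₁ _ hw
    rw [map_pow, hty₁, ← pow_mul, mul_comm, pow_mul, hμ', pow_succ] at h1
    have h2 : (y₁ ^ p) ^ μ' = 1 := by
      exact mul_eq_right.mp h1
    exact eq_one_of_pow_coprime hμ'N h2 (hcardpow _)
  -- the commutator with `u`
  have hru : y₁ * u * y₁⁻¹ * u⁻¹ = 1 := by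
    set r := y₁ * u * y₁⁻¹ * u⁻¹ with hr
    have hrZ : r ∈ Z := hyu y₁
    have hrc := hZc r hrZ
    set z₁ := t u * (u ^ a)⁻¹ with hz₁
    have e1 : t u = z₁ * u ^ a := by rw [hz₁]; group
    have hc1 := hZc z₁ htu
    have h1 : t r = y₁ ^ μ * u ^ a * (y₁ ^ μ)⁻¹ * (u ^ a)⁻¹ := by
      rw [hr]
      simp only [map_mul, map_inv]
      rw [e1, hty₁]
      have := comm_central (x := y₁ ^ μ) (y := u ^ a) (z₁ := 1) (z₂ := z₁) (by simp) hc1
      simpa using this
    rw [comm_pow_pow hrc rfl μ a, htZ r hrZ] at h1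
    by_contra hne
    have hrp : r ^ p = 1 := hZexp r hrZ
    have hro : orderOf r = p := orderOf_eq_prime hrp hne
    have h2 : r ^ (μ * a) = r ^ 1 := by rw [pow_one]; exact h1.symm
    have h3 := (pow_eq_pow_iff_modEq).mp h2
    rw [hro] at h3
    apply ha3
    have h4 : μ * a ≡ a ^ 2 * a [MOD p] := hμa.mul_right a
    have h5' : a ^ 3 = a ^ 2 * a := by ring
    rw [h5']
    exact h4.symm.trans h3
  have huy₁ : u * y₁ = y₁ * u := by
    calc u * y₁ = (y₁ * u * y₁⁻¹ * u⁻¹)⁻¹ * y₁ * u := by group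
      _ = y₁ * u := by rw [hru]; group
  refine false_of_triple hG hr (hZexp z₀ hz₀Z) (hXexp u hu) hy₁p hz₀ne (hz₀c _) (hz₀c _) huy₁ ?_ ?_
  · rw [← hZeq]
    intro hmem
    have := hind 1 0 (by simpa using hmem)
    exact hpp.one_lt.ne' (Nat.dvd_one.mp this.1)
  · intro hmem
    apply hy₁E
    have hle : Subgroup.closure ({z₀, u} : Set G) ≤ E := by
      rw [Subgroup.closure_le]
      rintro x (rfl | rfl)
      · exact hXE (hZX hz₀Z)
      · exact hXE hu
    exact hle hmem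

/-- **The abelian case**: `E` is elementary abelian of order `p²`. -/
theorem eq_of_abelian (h5 : 5 ≤ p) (hG : IsPGroup p G) (hr : PRankLE p 2 G)
    {E X : Subgroup G} [hE : E.Normal] (hXE : X ≤ E) (hEtop : E ≠ ⊤)
    (hXexp : ∀ x ∈ X, x ^ p = 1)
    {u v : G} (hu : u ∈ X) (hv : v ∈ X)
    (hspan : ∀ x ∈ X, ∃ i j : ℕ, x = u ^ i * v ^ j)
    (hind : ∀ i j : ℕ, u ^ i * v ^ j = 1 → p ∣ i ∧ p ∣ j)
    (hEact : ∀ e ∈ E, ∀ x ∈ X, e * x * e⁻¹ = x)
    (hyu : ∀ y : G, y * u * y⁻¹ = u)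
    (hyv : ∀ y, y ∉ E → ∃ k : ℕ, ¬ p ∣ k ∧ y * v * y⁻¹ = u ^ k * v)
    (hyp : ∀ y : G, y ^ p ∈ E)
    (t : MulAut G) {a b μ : ℕ} (htp : t ^ (p - 1) = 1) (htE : ∀ e ∈ E, t e ∈ E)
    (hab : a * b ≡ 1 [MOD p])
    (hμ : ∀ y, (y ^ μ)⁻¹ * t y ∈ E) (hμa : μ ≡ a ^ 2 [MOD p])
    (hσ : ∀ x ∈ X, (t ^ ((p - 1) / 2)) x * x = 1)
    (hw : ∀ w₀ ∈ E, ∀ i : ℕ, w₀ ^ p = u ^ i → ∃ w ∈ E, w ^ p = v ^ i) :
    E = X ∧ ∃ y, y ∉ E ∧ y ^ p = 1 := by
  classical
  have hpp := hp.out
  have hp2 : p ≠ 2 := by omega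
  have hodd := hpp.odd_of_ne_two hp2
  set σ := t ^ ((p - 1) / 2) with hσdef
  have hσ2 : σ * σ = 1 := by
    rw [hσdef, ← pow_add]
    have h3 : (p - 1) / 2 + (p - 1) / 2 = p - 1 := by
      obtain ⟨k, hk⟩ := hodd
      omega
    rw [h3, htp]
  have hσσ : ∀ x, σ (σ x) = x := fun x => by
    have := congrArg (fun f : MulAut G => f x) hσ2
    simpa using this
  have hσE : ∀ e ∈ E, σ e ∈ E := by
    intro e he
    rw [hσdef]
    generalize (p - 1) / 2 = k
    induction k with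
    | zero => simpa using he
    | succ k ih =>
      rw [pow_succ', MulAut.mul_apply]
      exact htE _ ih
  have huv : u * v = v * u := by
    have h1 := hEact u (hXE hu) v hv
    calc u * v = (u * v * u⁻¹) * u := by group
      _ = v * u := by rw [h1]
  have hupow : ∀ (i : ℕ) (y : G), y * u ^ i * y⁻¹ = u ^ i := by
    intro i y
    rw [← conj_pow, hyu]
  have hucen : ∀ (i : ℕ) (y : G), u ^ i * y = y * u ^ i := by
    intro i y
    have h1 := hupow i y
    calc u ^ i * y = (y * u ^ i * y⁻¹) * y := by rw [h1]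
      _ = y * u ^ i := by group
  have hu1 : u ≠ 1 := by
    intro h
    have := hind 1 0 (by simp [h])
    exact hpp.one_lt.ne' (Nat.dvd_one.mp this.1)
  have hvnot : v ∉ Subgroup.zpowers u := by
    intro h
    obtain ⟨k, hk⟩ := (mem_powers_iff_mem_zpowers).mpr h
    have hk' : u ^ k = v := hk
    have := hind (k * (p - 1)) 1 (by
      rw [pow_one, ← hk', ← pow_add]
      have e1 : k * (p - 1) + k = k * p := by
        obtain ⟨q, rfl⟩ : ∃ q, p = q + 1 := ⟨p - 1, by omega⟩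
        simp only [Nat.add_sub_cancel]
        ring
      rw [e1, mul_comm, pow_mul, hXexp u hu, one_pow])
    exact hpp.one_lt.ne' (Nat.dvd_one.mp this.2)
  -- elements of order `p` of `E` lie in `X`
  have hΩ : ∀ e ∈ E, e ^ p = 1 → e ∈ X := by
    intro e he hep
    by_contra heX
    have h1 : u * e = e * u := by
      have := hEact e he u hu
      calc u * e = (e * u * e⁻¹) * e := by rw [this]
        _ = e * u := by group
    have h2 : v * e = e * v := by
      have := hEact e he v hv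
      calc v * e = (e * v * e⁻¹) * e := by rw [this]
        _ = e * v := by group
    refine false_of_triple hG hr (hXexp u hu) (hXexp v hv) hep hu1 huv h1 h2 hvnot ?_
    intro hmem
    apply heX
    have hle : Subgroup.closure ({u, v} : Set G) ≤ X := by
      rw [Subgroup.closure_le]
      rintro x (rfl | rfl)
      · exact hu
      · exact hv
    exact hle hmem
  -- fixed-point-free
  have hfpf : ∀ c ∈ E, σ c = c → c = 1 := by
    intro c hc hσc
    by_contra hne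
    obtain ⟨n, hn⟩ := hG c
    have hpd : p ∣ orderOf c := by
      have h1 : orderOf c ∣ p ^ n := orderOf_dvd_of_pow_eq_one hn
      obtain ⟨k, hk, hkc⟩ := (Nat.dvd_prime_pow hpp).mp h1
      rw [hkc]
      rcases k with _ | k
      · exfalso
        rw [pow_zero, orderOf_eq_one_iff] at hkc
        exact hne hkc
      · exact dvd_pow_self p (Nat.succ_ne_zero k)
    set c' := c ^ (orderOf c / p) with hc'
    have hc'o : orderOf c' = p := orderOf_pow_orderOf_div (orderOf_pos c).ne' hpd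
    have hc'p : c' ^ p = 1 := by
      rw [← hc'o]
      exact pow_orderOf_eq_one c'
    have hc'E : c' ∈ E := E.pow_mem hc _
    have hc'X := hΩ c' hc'E hc'p
    have hc'σ : σ c' = c' := by rw [hc', map_pow, hσc]
    have h1 := hσ c' hc'X
    rw [hc'σ] at h1
    have h2 : c' ^ 2 = 1 := by rw [pow_two]; exact h1
    have h3 : c' = 1 := eq_one_of_pow_coprime (Nat.coprime_two_left.mpr hodd) h2 hc'p
    rw [h3, orderOf_one] at hc'o
    exact hpp.one_lt.ne hc'o
  -- `σ` inverts `E`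
  have hinv : ∀ e ∈ E, σ e = e⁻¹ := by
    let f : E → E := fun x => ⟨x * (σ x)⁻¹, E.mul_mem x.2 (E.inv_mem (hσE _ x.2))⟩
    have hf : Function.Injective f := by
      intro x y hxy
      have h1 : (x : G) * (σ x)⁻¹ = y * (σ y)⁻¹ := congrArg Subtype.val hxy
      have h2 : σ ((y : G)⁻¹ * x) = (y : G)⁻¹ * x := by
        rw [map_mul, map_inv]
        have h3 : (σ (y : G))⁻¹ * σ (x : G) = (y : G)⁻¹ * x := by
          have h4 : (x : G) = y * (σ y)⁻¹ * σ x := by rw [← h1]; group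
          conv_rhs => rw [h4]
          group
        exact h3
      have h3 := hfpf _ (E.mul_mem (E.inv_mem y.2) x.2) h2
      apply Subtype.ext
      have h4 : (y : G) * ((y : G)⁻¹ * x) = y := by rw [h3, mul_one]
      rw [← h4]
      group
    have hfs : Function.Surjective f := (Finite.injective_iff_surjective).mp hf
    intro e he
    obtain ⟨x, hx⟩ := hfs ⟨e, he⟩
    have h1 : (x : G) * (σ x)⁻¹ = e := congrArg Subtype.val hx
    rw [← h1, map_mul, map_inv, hσσ]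
    group
  have hEcomm : ∀ x ∈ E, ∀ y ∈ E, x * y = y * x := by
    intro x hx y hy
    have h1 := hinv _ (E.mul_mem hx hy)
    rw [map_mul, hinv x hx, hinv y hy] at h1
    have h2 : x⁻¹ * y⁻¹ = (y * x)⁻¹ := by group
    rw [h2] at h1
    exact (inv_injective h1).symm
  -- the lift
  have hμ1 : μ ^ ((p - 1) / 2) ≡ 1 [MOD p] := fermat_sq hp2 hab hμa
  have hσy : ∀ y, y⁻¹ * σ y ∈ E := fun y => mem_of_iter t hμ hyp hμ1 y
  obtain ⟨g, hgE, hσg⟩ := exists_fixed_lift hG hp2 hEtop σ hσ2 hσy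
  have hgp : g ^ p = 1 := hfpf _ (hyp g) (by rw [map_pow, hσg])
  refine ⟨?_, g, hgE, hgp⟩
  obtain ⟨k, hkp, hk⟩ := hyv g hgE
  -- the action of `g` on `X`
  have hg1 : ∀ i j : ℕ, g * (u ^ i * v ^ j) * g⁻¹ * (u ^ i * v ^ j)⁻¹ = u ^ (k * j) := by
    intro i j
    have h1 : g * v ^ j * g⁻¹ = u ^ (k * j) * v ^ j := by
      rw [← conj_pow, hk, (show Commute (u ^ k) v from hucen k v).mul_pow, ← pow_mul]
    calc g * (u ^ i * v ^ j) * g⁻¹ * (u ^ i * v ^ j)⁻¹
        = (g * u ^ i * g⁻¹) * (g * v ^ j * g⁻¹) * (u ^ i * v ^ j)⁻¹ := by group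
      _ = u ^ i * (u ^ (k * j) * v ^ j) * (u ^ i * v ^ j)⁻¹ := by rw [hupow, h1]
      _ = (u ^ i * u ^ (k * j)) * v ^ j * (u ^ i * v ^ j)⁻¹ := by group
      _ = (u ^ (k * j) * u ^ i) * v ^ j * (u ^ i * v ^ j)⁻¹ := by rw [hucen (k * j) (u ^ i)]
      _ = u ^ (k * j) := by group
  have hδδ : ∀ x ∈ X, g * (g * x * g⁻¹ * x⁻¹) * g⁻¹ * (g * x * g⁻¹ * x⁻¹)⁻¹ = 1 := by
    intro x hx
    obtain ⟨i, j, rfl⟩ := hspan x hx
    rw [hg1, hupow]
    group
  let c : E →* E := (MulAut.conjNormal g).toMonoidHom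
  have hc : ∀ x : E, ((c x : E) : G) = g * x * g⁻¹ := fun x => MulAut.conjNormal_apply g x
  have hciter : ∀ (n : ℕ) (x : E), (((c^[n]) x : E) : G) = g ^ n * x * (g ^ n)⁻¹ := by
    intro n
    induction n with
    | zero => intro x; simp
    | succ n ih =>
      intro x
      rw [Function.iterate_succ_apply', hc, ih, pow_succ']
      group
  have hcc : ∀ y : E, ((c (c y * y⁻¹) * (c y * y⁻¹)⁻¹ : E) : G) =
      g * (g * y * g⁻¹ * (y : G)⁻¹) * g⁻¹ * (g * y * g⁻¹ * (y : G)⁻¹)⁻¹ := by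
    intro y
    rw [Subgroup.coe_mul, hc, Subgroup.coe_inv, Subgroup.coe_mul, hc, Subgroup.coe_inv]
  have hkey : ∀ w ∈ E, ∀ i j : ℕ, w ^ p = u ^ i * v ^ j → p ∣ j := by
    intro w hwE i j hwp
    have hwX : u ^ i * v ^ j ∈ X := X.mul_mem (X.pow_mem hu _) (X.pow_mem hv _)
    have e1 : (((⟨w, hwE⟩ : E) ^ p : E) : G) = u ^ i * v ^ j := by
      rw [← hwp]
      rfl
    have h1 := power_calc_mul (V := E) (fun x y => Subtype.ext (hEcomm _ x.2 _ y.2)) hpp (by omega) c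
      (fun x => by
        apply Subtype.ext
        rw [hciter, hgp]
        simp) ⟨w, hwE⟩ (by
        apply Subtype.ext
        rw [hcc]
        show _ = (1 : G)
        rw [e1]
        exact hδδ _ hwX) (by
        intro d hd
        apply Subtype.ext
        have hdp : (d : G) ^ p = 1 := by
          have e2 : ∀ y : E, (c y * y⁻¹) ^ p = c (y ^ p) * (y ^ p)⁻¹ := by
            intro y
            have hcy : Commute (c y) y⁻¹ := Subtype.ext (hEcomm _ (c y).2 _ (y⁻¹).2)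
            rw [hcy.mul_pow, map_pow, inv_pow]
          have e3 : d ^ p = 1 := by
            rw [hd, e2, e2]
            apply Subtype.ext
            rw [hcc]
            show _ = (1 : G)
            rw [e1]
            exact hδδ _ hwX
          exact congrArg Subtype.val e3
        have hdX := hΩ _ d.2 hdp
        rw [hcc]
        exact hδδ _ hdX)
    have h2 : g * (u ^ i * v ^ j) * g⁻¹ * (u ^ i * v ^ j)⁻¹ = 1 := by
      have h3 := congrArg Subtype.val h1
      rw [Subgroup.coe_mul, hc, Subgroup.coe_inv, e1] at h3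
      exact h3
    rw [hg1] at h2
    have h3 := hind (k * j) 0 (by simpa using h2)
    rcases (Nat.Prime.dvd_mul hpp).mp h3.1 with h4 | h4
    · exact absurd h4 hkp
    · exact h4
  -- conclusion
  apply le_antisymm _ hXE
  intro e he
  by_cases hep : e ^ p = 1
  · exact hΩ e he hep
  exfalso
  obtain ⟨n, hn⟩ := hG e
  have h1 : orderOf e ∣ p ^ n := orderOf_dvd_of_pow_eq_one hn
  obtain ⟨m, hm, hme⟩ := (Nat.dvd_prime_pow hpp).mp h1
  have hm2 : 2 ≤ m := by
    by_contra hlt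
    apply hep
    have hm1 : m ≤ 1 := by omega
    apply orderOf_dvd_iff_pow_eq_one.mp
    rw [hme]
    exact (pow_dvd_pow p hm1).trans (by simp)
  obtain ⟨q, rfl⟩ : ∃ q, m = q + 2 := ⟨m - 2, by omega⟩
  set w₀ := e ^ p ^ q with hw₀
  have hw₀E : w₀ ∈ E := E.pow_mem he _
  have hx1 : w₀ ^ p ≠ 1 := by
    intro h
    have h2 : e ^ p ^ (q + 1) = 1 := by
      rw [pow_succ, pow_mul]
      exact h
    have h3 := orderOf_dvd_of_pow_eq_one h2
    rw [hme] at h3
    have := (Nat.pow_dvd_pow_iff_le_right hpp.one_lt).mp h3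
    omega
  have hx2 : (w₀ ^ p) ^ p = 1 := by
    rw [hw₀, ← pow_mul, ← pow_mul]
    have e' : p ^ q * (p * p) = orderOf e := by rw [hme]; ring
    rw [e']
    exact pow_orderOf_eq_one _
  have hxX := hΩ _ (E.pow_mem hw₀E p) hx2
  obtain ⟨i, j, hij⟩ := hspan _ hxX
  have hj := hkey w₀ hw₀E i j hij
  have hvj : v ^ j = 1 := by
    obtain ⟨l, rfl⟩ := hj
    rw [pow_mul, hXexp v hv, one_pow]
  rw [hvj, mul_one] at hij
  obtain ⟨w, hwE, hwp⟩ := hw w₀ hw₀E i hij
  have hi := hkey w hwE 0 i (by rw [hwp]; simp)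
  apply hx1
  rw [hij]
  obtain ⟨l, rfl⟩ := hi
  rw [pow_mul, hXexp u hu, one_pow]

/-- Exponent `p` of the normalizer. -/
theorem exp_of_abelian {E : Subgroup G} [hE : E.Normal] (hp2 : p ≠ 2) (hidx : E.index = p) {u v y : G} (hu : u ∈ E)
    (hEexp : ∀ x ∈ E, x ^ p = 1)
    (hEspan : ∀ x ∈ E, ∃ i j : ℕ, x = u ^ i * v ^ j)
    (hEact : ∀ e ∈ E, ∀ x ∈ E, e * x * e⁻¹ = x)
    (hyu : ∀ y : G, y * u * y⁻¹ = u)
    (hyv : ∀ y, ∃ k : ℕ, y * v * y⁻¹ = u ^ k * v)
    (hyE : y ∉ E) (hyp : y ^ p = 1) (n : G) : n ^ p = 1 := by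
  classical
  have hpp := hp.out
  have hucen : ∀ (i : ℕ) (y : G), u ^ i * y = y * u ^ i := by
    intro i y
    have h1 : y * u ^ i * y⁻¹ = u ^ i := by rw [← conj_pow, hyu]
    calc u ^ i * y = (y * u ^ i * y⁻¹) * y := by rw [h1]
      _ = y * u ^ i := by group
  -- `G / E` is generated by `y`
  haveI : Fact ((Nat.card (G ⧸ E)).Prime) := ⟨by
    show (Nat.card (G ⧸ E)).Prime
    rw [show Nat.card (G ⧸ E) = E.index from rfl, hidx]
    exact hpp⟩
  have hy1 : ((y : G) : G ⧸ E) ≠ 1 := fun h => hyE ((QuotientGroup.eq_one_iff _).mp h)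
  have hgen := zpowers_eq_top_of_prime_card (G := G ⧸ E) (p := Nat.card (G ⧸ E)) rfl hy1
  have hn : (n : G ⧸ E) ∈ Subgroup.zpowers ((y : G) : G ⧸ E) := by rw [hgen]; trivial
  obtain ⟨i, hi⟩ := (mem_powers_iff_mem_zpowers).mpr hn
  have hi' : ((y ^ i : G) : G ⧸ E) = (n : G ⧸ E) := by
    rw [QuotientGroup.mk_pow]
    exact hi
  set e := (y ^ i)⁻¹ * n with he
  have heE : e ∈ E := QuotientGroup.eq.mp hi'
  have hn' : n = y ^ i * e := by rw [he]; group
  -- the class two computation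
  have hym : ∀ m : ℕ, ∃ j : ℕ, y ^ m * e * (y ^ m)⁻¹ = u ^ j * e := by
    obtain ⟨a, b, hab⟩ := hEspan e heE
    have hall : ∀ (g : G) (a b : ℕ), ∃ j : ℕ, g * (u ^ a * v ^ b) * g⁻¹ = u ^ j * (u ^ a * v ^ b) := by
      intro g a b
      obtain ⟨k, hk⟩ := hyv g
      refine ⟨k * b, ?_⟩
      have h1 : g * v ^ b * g⁻¹ = u ^ (k * b) * v ^ b := by
        rw [← conj_pow, hk, (show Commute (u ^ k) v from hucen k v).mul_pow, ← pow_mul]
      have h2 : g * u ^ a * g⁻¹ = u ^ a := by rw [← conj_pow, hyu]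
      calc g * (u ^ a * v ^ b) * g⁻¹ = (g * u ^ a * g⁻¹) * (g * v ^ b * g⁻¹) := by group
        _ = u ^ a * (u ^ (k * b) * v ^ b) := by rw [h2, h1]
        _ = (u ^ a * u ^ (k * b)) * v ^ b := by group
        _ = (u ^ (k * b) * u ^ a) * v ^ b := by rw [hucen (k * b) (u ^ a)]
        _ = _ := by group
    intro m
    rw [hab]
    exact hall _ a b
  obtain ⟨j, hj⟩ := hym i
  set z := u ^ j with hz
  have hzc : ∀ g : G, z * g = g * z := hucen j
  have h1 : e * y ^ i = z⁻¹ * y ^ i * e := by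
    have h2 : y ^ i * e = z * e * y ^ i := by
      calc y ^ i * e = (y ^ i * e * (y ^ i)⁻¹) * y ^ i := by group
        _ = z * e * y ^ i := by rw [hj]
    have hziinv : z⁻¹ * y ^ i = y ^ i * z⁻¹ := by
      calc z⁻¹ * y ^ i = z⁻¹ * (y ^ i * z) * z⁻¹ := by group
        _ = z⁻¹ * (z * y ^ i) * z⁻¹ := by rw [hzc]
        _ = y ^ i * z⁻¹ := by group
    calc e * y ^ i = z⁻¹ * (z * e * y ^ i) := by group
      _ = z⁻¹ * (y ^ i * e) := by rw [h2]
      _ = z⁻¹ * y ^ i * e := by group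
  have hzinvc : ∀ g : G, z⁻¹ * g = g * z⁻¹ := fun g => by
    calc z⁻¹ * g = z⁻¹ * (g * z) * z⁻¹ := by group
      _ = z⁻¹ * (z * g) * z⁻¹ := by rw [hzc]
      _ = g * z⁻¹ := by group
  rw [hn', Cfsg.Agent.Lib.OmegaAut.mul_pow_aux hzinvc h1 p, hEexp e heE, ← pow_mul, mul_comm i p, pow_mul, hyp,
    one_pow, one_mul, one_mul]
  have hodd : 2 < p := lt_of_le_of_ne hpp.two_le (Ne.symm hp2)
  obtain ⟨c, hc⟩ := hpp.dvd_choose_self (by norm_num : (2 : ℕ) ≠ 0) hodd
  rw [hc, pow_mul, inv_pow, hz, ← pow_mul, mul_comm j p, pow_mul, hEexp u hu, one_pow, inv_one, one_pow]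

end Cfsg.Agent.Lib.RankTwoResA
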