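import Mathlib
import Cfsg.Agent.Lib.RankTwoResBasic
import Cfsg.Agent.Lib.PlaneRep
import Cfsg.Agent.Lib.RegularP
import Cfsg.Agent.S4209

/-!
# A non-abelian normal subgroup of order `p³` and exponent `p` in a rank two `p`-group, `p ≥ 5`

If `N` is self-centralizing, then `N` consists exactly of the elements of order dividing `p`, the `p`-th powers of the
elements of `G` generate the centre of `N`, and an automorphism of `G` acts on `N / N'` in a way restricted by these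
facts: its eigenvalue on the quotient by the fixed line of `G` has square `1`.
-/

set_option autoImplicit false

namespace Cfsg.Agent.Lib.RankTwoResB

open Cfsg Cfsg.Agent.Lib.RankTwoResBasic
open scoped commutatorElement

universe u

variable {G : Type u} [Group G] [Finite G] {p : ℕ} [hp : Fact p.Prime]

theorem main (h5 : 5 ≤ p) (hG : IsPGroup p G) (hr : PRankLE p 2 G) {N : Subgroup G} [hN : N.Normal]
    (hNcard : Nat.card N = p ^ 3) (hNexp : ∀ n ∈ N, n ^ p = 1) (hNna : ∃ x ∈ N, ∃ y ∈ N, x * y ≠ y * x)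
    (hcent : ∀ g : G, (∀ n ∈ N, g * n = n * g) → g ∈ N) (hNtop : N ≠ ⊤)
    {V : Type*} [AddCommGroup V] [Module (ZMod p) V] (ab : N → V) (ρ : MulAut N →* (V ≃ₗ[ZMod p] V))
    (hmul : ∀ x y, ab (x * y) = ab x + ab y) (hsurj : Function.Surjective ab)
    (hker : ∀ x, ab x = 0 ↔ x ∈ commutator N) (hρ : ∀ α x, ρ α (ab x) = ab (α x))
    (hcardV : Nat.card V = (commutator N).index) :
    (∀ x : G, x ^ p = 1 → x ∈ N) ∧ ∃ v₁ : V, v₁ ≠ 0 ∧ (∀ l : G, ρ (MulAut.conjNormal l) v₁ = v₁) ∧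
      (∀ a : G, a ∉ N → ∀ x : V, ρ (MulAut.conjNormal a) x = x → x ∈ Submodule.span (ZMod p) {v₁}) ∧
      ∀ (hc : N.Characteristic) (θ : MulAut G) (x : V), x ∉ Submodule.span (ZMod p) {v₁} → ∀ κ : ZMod p,
        ρ (Cfsg.Agent.Lib.RankTwoRep.resAut N hc θ) x - κ • x ∈ Submodule.span (ZMod p) {v₁} → κ ^ 2 = 1 := by
  classical
  have hpp := hp.out
  have hp2 : p ≠ 2 := by omega
  have hNp : IsPGroup p N := hG.to_subgroup N
  have hNexp' : ∀ x : N, x ^ p = 1 := fun x => Subtype.ext (hNexp x x.2)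
  obtain ⟨hZcard, hZc, hZidx⟩ := Cfsg.Agent.Lib.PlaneRep.comm_facts hNp hNexp' hNcard (by
    obtain ⟨x, hx, y, hy, hxy⟩ := hNna
    exact ⟨⟨x, hx⟩, ⟨y, hy⟩, fun h => hxy (congrArg Subtype.val h)⟩)
  have hfinV : Finite V := Finite.of_surjective ab hsurj
  have hcardV2 : Nat.card V = p ^ 2 := by rw [hcardV, hZidx]
  have hfin : Module.finrank (ZMod p) V = 2 := Cfsg.Agent.Lib.FusionSL2.finrank_two_of_card hcardV2
  have ab1 : ab 1 = 0 := by
    have := hmul 1 1
    rw [mul_one] at this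
    have h2 : ab 1 + 0 = ab 1 + ab 1 := by rw [add_zero]; exact this
    exact (add_left_cancel h2).symm
  have abinv : ∀ x, ab x⁻¹ = - ab x := by
    intro x
    have := hmul x⁻¹ x
    rw [inv_mul_cancel, ab1] at this
    exact eq_neg_of_add_eq_zero_left this.symm
  have abpow : ∀ (x : N) (n : ℕ), ab (x ^ n) = (n : ZMod p) • ab x := by
    intro x n
    induction n with
    | zero => simp [ab1]
    | succ n ih =>
      rw [pow_succ, hmul, ih, Nat.cast_succ, add_smul, one_smul]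
  have abeq : ∀ x y : N, ab x = ab y → x⁻¹ * y ∈ commutator N := by
    intro x y h
    rw [← hker, hmul, abinv, h]
    abel
  let C : G →* MulAut N := MulAut.conjNormal
  have hC : ∀ (l : G) (n : N), ((C l n : N) : G) = l * n * l⁻¹ := fun l n => MulAut.conjNormal_apply l n
  let A : G →* (V ≃ₗ[ZMod p] V) := ρ.comp C
  have hA : ∀ (l : G) (n : N), A l (ab n) = ab (C l n) := fun l n => hρ _ _
  -- the fixed vector
  letI act : MulAction G V :=
    { smul := fun s x => A s x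
      one_smul := fun x => by
        show A 1 x = x
        simp
      mul_smul := fun a b x => by
        show A (a * b) x = A a (A b x)
        simp }
  have hact : ∀ (s : G) (x : V), s • x = A s x := fun _ _ => rfl
  have h0fix : (0 : V) ∈ MulAction.fixedPoints G V := by
    intro s
    rw [hact, map_zero]
  obtain ⟨v₁, hv₁, hv₁0⟩ := hG.exists_fixed_point_of_prime_dvd_card_of_fixed_point V
    (by rw [hcardV2]; exact dvd_pow_self p two_ne_zero) h0fix
  have hv₁ne : v₁ ≠ 0 := fun h => hv₁0 h.symm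
  have hfix : ∀ l : G, A l v₁ = v₁ := fun l => hv₁ l
  -- the second vector
  set L := Submodule.span (ZMod p) {v₁} with hL
  have hfd : Module.Finite (ZMod p) V := Module.finite_of_finrank_pos (by omega)
  have hLne : L ≠ ⊤ := by
    intro h
    have h1 : Module.finrank (ZMod p) L = 1 := finrank_span_singleton hv₁ne
    rw [h, finrank_top, hfin] at h1
    omega
  obtain ⟨v₂, hv₂⟩ := SetLike.exists_not_mem_of_ne_top L hLne rfl
  have hli : LinearIndependent (ZMod p) ![v₁, v₂] := by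
    rw [LinearIndependent.pair_iff]
    intro s r hsr
    by_cases hr0 : r = 0
    · subst hr0
      rw [zero_smul, add_zero] at hsr
      exact ⟨(smul_eq_zero.mp hsr).resolve_right hv₁ne, rfl⟩
    · exfalso
      apply hv₂
      refine Submodule.mem_span_singleton.mpr ⟨-(r⁻¹ * s), ?_⟩
      have h1 : r • v₂ = -(s • v₁) := by
        rw [eq_neg_iff_add_eq_zero, add_comm]
        exact hsr
      have h2 : v₂ = r⁻¹ • (r • v₂) := by
        rw [smul_smul, inv_mul_cancel₀ hr0, one_smul]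
      rw [h2, h1, smul_neg, smul_smul, neg_smul]
  have hli' : LinearIndependent (ZMod p) ![v₂, v₁] := by
    rw [LinearIndependent.pair_iff] at hli ⊢
    intro s r hsr
    have := hli r s (by rw [add_comm]; exact hsr)
    exact ⟨this.2, this.1⟩
  have hind : ∀ α β : ZMod p, α • v₁ + β • v₂ = 0 → α = 0 ∧ β = 0 :=
    fun α β h => LinearIndependent.pair_iff.mp hli α β h
  let bas : Module.Basis (Fin 2) (ZMod p) V :=
    basisOfLinearIndependentOfCardEqFinrank hli (by simp [hfin])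
  have hb0 : bas 0 = v₁ := by
    show (basisOfLinearIndependentOfCardEqFinrank hli _) 0 = v₁
    rw [coe_basisOfLinearIndependentOfCardEqFinrank]
    rfl
  have hb1 : bas 1 = v₂ := by
    show (basisOfLinearIndependentOfCardEqFinrank hli _) 1 = v₂
    rw [coe_basisOfLinearIndependentOfCardEqFinrank]
    rfl
  have hspanV : ∀ w : V, ∃ x y : ZMod p, w = x • v₁ + y • v₂ := by
    intro w
    refine ⟨bas.repr w 0, bas.repr w 1, ?_⟩
    conv_lhs => rw [← bas.sum_repr w]
    rw [Fin.sum_univ_two, hb0, hb1]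
  -- the linear character `k`
  have hpowA : ∀ (l : G) (n : ℕ), l ^ n = 1 → (((A l : V ≃ₗ[ZMod p] V) : V →ₗ[ZMod p] V)) ^ n = 1 := by
    intro d n hd
    have h1 : ∀ m : ℕ, ((A d : V ≃ₗ[ZMod p] V) : V →ₗ[ZMod p] V) ^ m = ((A (d ^ m) : V ≃ₗ[ZMod p] V) : V →ₗ[ZMod p] V) := by
      intro m
      induction m with
      | zero => simp; rfl
      | succ m ih =>
        rw [pow_succ, ih, pow_succ, map_mul]
        rfl
    rw [h1, hd, map_one]
    rfl
  have hk' : ∀ l : G, ∃ κ : ZMod p, A l v₂ = v₂ + κ • v₁ := by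
    intro l
    obtain ⟨n, hn⟩ := hG l
    have h1 := Cfsg.Agent.Lib.FusionSL2.sub_mem_span_of_unipotent hfin _ (hpowA l _ hn) hv₁ne (hfix l) v₂
    obtain ⟨κ, hκ⟩ := Submodule.mem_span_singleton.mp h1
    refine ⟨κ, ?_⟩
    rw [hκ]
    show A l v₂ = v₂ + (A l v₂ - v₂)
    abel
  choose k hk using hk'
  have hkmul : ∀ l l', k (l * l') = k l + k l' := by
    intro l l'
    have h1 : A (l * l') v₂ = v₂ + (k l + k l') • v₁ := by
      rw [map_mul, LinearEquiv.mul_apply, hk l', map_add, map_smul, hfix, hk l, add_smul]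
      abel
    rw [hk] at h1
    have h2 : (k (l * l') - (k l + k l')) • v₁ + (0 : ZMod p) • v₂ = 0 := by
      rw [zero_smul, add_zero, sub_smul]
      exact sub_eq_zero.mpr (add_left_cancel h1)
    exact sub_eq_zero.mp (hind _ _ h2).1
  have hk1 : k 1 = 0 := by
    have := hkmul 1 1
    rw [mul_one] at this
    have h2 : k 1 + 0 = k 1 + k 1 := by rw [add_zero]; exact this
    exact (add_left_cancel h2).symm
  have hkpow : ∀ (l : G) (n : ℕ), k (l ^ n) = (n : ZMod p) * k l := by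
    intro l n
    induction n with
    | zero => simp [hk1]
    | succ n ih =>
      rw [pow_succ, hkmul, ih, Nat.cast_succ, add_mul, one_mul]
  have hkinv : ∀ l, k l⁻¹ = - k l := by
    intro l
    have := hkmul l⁻¹ l
    rw [inv_mul_cancel, hk1] at this
    exact eq_neg_of_add_eq_zero_left this.symm
  -- action on the plane in coordinates
  have hAxy : ∀ (l : G) (α β : ZMod p), A l (α • v₁ + β • v₂) = (α + β * k l) • v₁ + β • v₂ := by
    intro l α β
    rw [map_add, map_smul, map_smul, hfix, hk]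
    module
  -- elements of `N` act trivially
  have hANx : ∀ (l : G), l ∈ N → ∀ x : V, A l x = x := by
    intro l hl x
    obtain ⟨n, rfl⟩ := hsurj x
    rw [hA]
    have h1 : C l n = ⟨l, hl⟩ * n * (⟨l, hl⟩ : N)⁻¹ := Subtype.ext (hC l n)
    rw [h1, hmul, hmul, abinv]
    abel
  have hkN : ∀ l ∈ N, k l = 0 := by
    intro l hl
    have h1 := hANx l hl v₂
    rw [hk] at h1
    have h2 : k l • v₁ = 0 := by
      have : v₂ + k l • v₁ = v₂ + 0 := by rw [add_zero]; exact h1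
      exact add_left_cancel this
    exact (smul_eq_zero.mp h2).resolve_right hv₁ne
  -- lifts
  obtain ⟨w, hw⟩ := hsurj v₁
  obtain ⟨b, hb⟩ := hsurj v₂
  have hli'' : LinearIndependent (ZMod p) ![ab b, ab w] := by rw [hb, hw]; exact hli'
  obtain ⟨hco1, hco2⟩ := Cfsg.Agent.Lib.PlaneRep.coords ab hmul hker hfin hli''
  set zN : N := b * w * b⁻¹ * w⁻¹ with hzN
  have hzNcomm : zN ∈ commutator N := by
    have := Subgroup.commutator_mem_commutator (Subgroup.mem_top b) (Subgroup.mem_top w)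
    rw [commutatorElement_def] at this
    exact this
  have hzNne : zN ≠ 1 := by
    intro h
    have hbw : b * w = w * b := by
      calc b * w = zN * (w * b) := by rw [hzN]; group
        _ = w * b := by rw [h, one_mul]
    obtain ⟨x, hx, y, hy, hxy⟩ := hNna
    apply hxy
    obtain ⟨i, j, z, hz, hx'⟩ := hco1 ⟨x, hx⟩
    obtain ⟨i', j', z', hz', hy'⟩ := hco1 ⟨y, hy⟩
    have c1 : Commute b w := hbw
    have c2 : Commute (b ^ i * w ^ j) (b ^ i' * w ^ j') := by
      apply Commute.mul_left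
      · apply Commute.mul_right
        · exact (Commute.refl b).pow_pow _ _
        · exact c1.pow_pow _ _
      · apply Commute.mul_right
        · exact c1.symm.pow_pow _ _
        · exact (Commute.refl w).pow_pow _ _
    have c3 : Commute (b ^ i * w ^ j) z' := (hZc z' hz' _).symm
    have c4 : Commute z (b ^ i' * w ^ j') := hZc z hz _
    have c5 : Commute z z' := hZc z hz _
    have c6 := ((c2.mul_right c3).mul_left (c4.mul_right c5)).eq
    rw [← hx', ← hy'] at c6
    exact congrArg Subtype.val c6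
  have hzNo : orderOf zN = p := orderOf_eq_prime (hNexp' zN) hzNne
  have hZeq : commutator N = Subgroup.zpowers zN := by
    symm
    apply Subgroup.eq_of_le_of_card_ge
    · rw [Subgroup.zpowers_le]
      exact hzNcomm
    · rw [Nat.card_zpowers, hzNo, hZcard]
  have hZpow : ∀ c ∈ commutator N, ∃ m : ℕ, c = zN ^ m := by
    intro c hc
    rw [hZeq] at hc
    obtain ⟨m, hm⟩ := (mem_powers_iff_mem_zpowers).mpr hc
    exact ⟨m, hm.symm⟩
  -- commutators only depend on the classes modulo `N'`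
  have hcommN : ∀ (x y c₁ c₂ : N), c₁ ∈ commutator N → c₂ ∈ commutator N →
      (x * c₁) * (y * c₂) * (x * c₁)⁻¹ * (y * c₂)⁻¹ = x * y * x⁻¹ * y⁻¹ := by
    intro x y c₁ c₂ h1 h2
    have e1 : x * c₁ = c₁ * x := (hZc c₁ h1 x).symm
    have e2 : y * c₂ = c₂ * y := (hZc c₂ h2 y).symm
    rw [e1, e2]
    exact comm_central (hZc c₁ h1) (hZc c₂ h2)
  -- lifting to coordinates
  have hnatc : ∀ c : ZMod p, ((c.val : ℕ) : ZMod p) = c := fun c => by
    rw [ZMod.natCast_val, ZMod.cast_id', id]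
  have hlift : ∀ (x : N) (i j : ℕ), ab x = (i : ZMod p) • v₁ + (j : ZMod p) • v₂ →
      ∃ c ∈ commutator N, x = b ^ j * w ^ i * c := by
    intro x i j h
    refine ⟨(b ^ j * w ^ i)⁻¹ * x, ?_, by group⟩
    apply abeq
    rw [hmul, abpow, abpow, hb, hw, h, add_comm]
  -- `z` is central in `G`
  set z : G := ((zN : N) : G) with hz
  have hzdef : z = (b : G) * w * (b : G)⁻¹ * (w : G)⁻¹ := rfl
  have hzcen : ∀ l : G, l * z * l⁻¹ = z := by
    intro l
    have h2 : ab (C l w) = ((1 : ℕ) : ZMod p) • v₁ + ((0 : ℕ) : ZMod p) • v₂ := by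
      rw [← hA, hw, hfix]
      simp
    obtain ⟨c₁, hc₁, e1⟩ := hlift _ _ _ h2
    have h3 : ab (C l b) = (((k l).val : ℕ) : ZMod p) • v₁ + ((1 : ℕ) : ZMod p) • v₂ := by
      rw [← hA, hb, hk, hnatc]
      simp [add_comm]
    obtain ⟨c₂, hc₂, e2⟩ := hlift _ _ _ h3
    have h4 : C l zN = zN := by
      rw [hzN, map_mul, map_mul, map_mul, map_inv, map_inv, e1, e2]
      rw [hcommN _ _ _ _ hc₂ hc₁]
      simp only [pow_one, pow_zero, one_mul]
      have hcw : Commute (w ^ (k l).val) w := (Commute.refl w).pow_left _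
      calc b * w ^ (k l).val * w * (b * w ^ (k l).val)⁻¹ * w⁻¹
          = b * (w ^ (k l).val * w) * ((w ^ (k l).val)⁻¹ * b⁻¹) * w⁻¹ := by group
        _ = b * (w * w ^ (k l).val) * ((w ^ (k l).val)⁻¹ * b⁻¹) * w⁻¹ := by rw [hcw.eq]
        _ = b * w * b⁻¹ * w⁻¹ := by group
    have h5 := congrArg Subtype.val h4
    rw [hC] at h5
    exact h5
  have hzc : ∀ g : G, z * g = g * z := by
    intro g
    have := hzcen g
    calc z * g = (g * z * g⁻¹) * g := by rw [this]
      _ = g * z := by group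
  have hzp : z ^ p = 1 := hNexp z zN.2
  have hz1 : z ≠ 1 := fun h => hzNne (Subtype.ext h)
  have hzo : orderOf z = p := orderOf_eq_prime hzp hz1
  have hZcoe : ∀ c ∈ commutator N, ∃ m : ℕ, (c : G) = z ^ m := by
    intro c hc
    obtain ⟨m, rfl⟩ := hZpow c hc
    exact ⟨m, rfl⟩
  have hzcpow : ∀ (m : ℕ) (g : G), z ^ m * g = g * z ^ m := fun m g =>
    (Commute.pow_left (show Commute z g from hzc g) m)
  have hZG : ∀ c ∈ commutator N, ∀ g : G, (c : G) * g = g * c := by
    intro c hc g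
    obtain ⟨m, hm⟩ := hZcoe c hc
    rw [hm]
    exact hzcpow m g
  have hcomgen : ∀ g : G, g * (b : G) = b * g → g * (w : G) = w * g → g ∈ N := by
    intro g h1 h2
    apply hcent
    intro n hn
    obtain ⟨i, j, c, hc, e⟩ := hco1 ⟨n, hn⟩
    have e' : n = (b : G) ^ i * (w : G) ^ j * (c : G) := congrArg Subtype.val e
    rw [e']
    have c1 : Commute g (b : G) := h1
    have c2 : Commute g (w : G) := h2
    have c3 : Commute g (c : G) := (hZG c hc g).symm
    exact (((c1.pow_right i).mul_right (c2.pow_right j)).mul_right c3).eq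
  -- `k l = 0` forces `l ∈ N`
  have hk0 : ∀ l : G, k l = 0 → l ∈ N := by
    intro l hl
    have h1 : ab (C l w) = ((1 : ℕ) : ZMod p) • v₁ + ((0 : ℕ) : ZMod p) • v₂ := by
      rw [← hA, hw, hfix]
      simp
    have h3 : ab (C l b) = ((0 : ℕ) : ZMod p) • v₁ + ((1 : ℕ) : ZMod p) • v₂ := by
      rw [← hA, hb, hk, hl]
      simp
    obtain ⟨c₁, hc₁, e1⟩ := hlift _ _ _ h1
    obtain ⟨c₂, hc₂, e2⟩ := hlift _ _ _ h3
    obtain ⟨m₁, hm₁⟩ := hZcoe c₁ hc₁
    obtain ⟨m₂, hm₂⟩ := hZcoe c₂ hc₂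
    have e1' : l * (w : G) * l⁻¹ = w * z ^ m₁ := by
      rw [← hC, e1]
      simp [hm₁]
    have e2' : l * (b : G) * l⁻¹ = b * z ^ m₂ := by
      rw [← hC, e2]
      simp [hm₂]
    -- the element of `N` inducing the same action
    set α := m₁ with hα
    set β := m₂ * (p - 1) with hβ
    set n : G := (b : G) ^ α * (w : G) ^ β with hn
    have hnN : n ∈ N := N.mul_mem (N.pow_mem b.2 _) (N.pow_mem w.2 _)
    have hbw : (b : G) * (w : G) * (b : G)⁻¹ * (w : G)⁻¹ = z := rfl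
    have h4 := comm_pow_pow hzc hbw α 1
    have h5 := comm_pow_pow hzc hbw 1 β
    rw [pow_one, mul_one] at h4
    rw [pow_one, one_mul] at h5
    have hwb : (w : G) ^ β * (b : G) * ((w : G) ^ β)⁻¹ = (z ^ β)⁻¹ * b := by
      have e : (b : G) * (w : G) ^ β * (b : G)⁻¹ = z ^ β * (w : G) ^ β := by
        rw [← h5]; group
      have e3 : (b : G) * (w : G) ^ β = z ^ β * (w : G) ^ β * b := by
        rw [← e]; group
      calc (w : G) ^ β * (b : G) * ((w : G) ^ β)⁻¹ = (z ^ β)⁻¹ * (z ^ β * (w : G) ^ β * b) * ((w : G) ^ β)⁻¹ := by group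
        _ = (z ^ β)⁻¹ * ((b : G) * (w : G) ^ β) * ((w : G) ^ β)⁻¹ := by rw [e3]
        _ = (z ^ β)⁻¹ * b := by group
    have hww : (b : G) ^ α * (w : G) * ((b : G) ^ α)⁻¹ = z ^ α * w := by
      rw [← h4]; group
    -- `n⁻¹ l` centralizes `b` and `w`
    have hzmp : ∀ m : ℕ, (z ^ m) ^ p = 1 := fun m => by
      rw [← pow_mul, mul_comm, pow_mul, hzp, one_pow]
    have key1 : n⁻¹ * l * (w : G) * (n⁻¹ * l)⁻¹ = w := by
      have e3 : n * (w : G) * n⁻¹ = z ^ α * w := by
        rw [hn]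
        calc (b : G) ^ α * (w : G) ^ β * (w : G) * ((b : G) ^ α * (w : G) ^ β)⁻¹
            = (b : G) ^ α * ((w : G) ^ β * (w : G) * ((w : G) ^ β)⁻¹) * ((b : G) ^ α)⁻¹ := by group
          _ = (b : G) ^ α * (w : G) * ((b : G) ^ α)⁻¹ := by
              rw [((Commute.refl (w : G)).pow_left β).eq]
              group
          _ = z ^ α * w := hww
      have e4 : n⁻¹ * (z ^ α * w) * n = w := by rw [← e3]; group
      calc n⁻¹ * l * (w : G) * (n⁻¹ * l)⁻¹ = n⁻¹ * (l * (w : G) * l⁻¹) * n := by group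
        _ = n⁻¹ * ((w : G) * z ^ m₁) * n := by rw [e1']
        _ = n⁻¹ * (z ^ α * w) * n := by rw [← hzcpow m₁ (w : G)]
        _ = w := e4
    have key2 : n⁻¹ * l * (b : G) * (n⁻¹ * l)⁻¹ = b := by
      have e3 : n * (b : G) * n⁻¹ = (z ^ β)⁻¹ * b := by
        rw [hn]
        calc (b : G) ^ α * (w : G) ^ β * (b : G) * ((b : G) ^ α * (w : G) ^ β)⁻¹
            = (b : G) ^ α * ((w : G) ^ β * (b : G) * ((w : G) ^ β)⁻¹) * ((b : G) ^ α)⁻¹ := by group
          _ = (b : G) ^ α * ((z ^ β)⁻¹ * b) * ((b : G) ^ α)⁻¹ := by rw [hwb]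
          _ = (z ^ β)⁻¹ * ((b : G) ^ α * b * ((b : G) ^ α)⁻¹) := by
              have hinvc : ∀ g : G, (z ^ β)⁻¹ * g = g * (z ^ β)⁻¹ := fun g => by
                calc (z ^ β)⁻¹ * g = (z ^ β)⁻¹ * (g * z ^ β) * (z ^ β)⁻¹ := by group
                  _ = (z ^ β)⁻¹ * (z ^ β * g) * (z ^ β)⁻¹ := by rw [hzcpow β g]
                  _ = g * (z ^ β)⁻¹ := by group
              calc (b : G) ^ α * ((z ^ β)⁻¹ * b) * ((b : G) ^ α)⁻¹
                  = ((b : G) ^ α * (z ^ β)⁻¹) * b * ((b : G) ^ α)⁻¹ := by group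
                _ = ((z ^ β)⁻¹ * (b : G) ^ α) * b * ((b : G) ^ α)⁻¹ := by rw [hinvc]
                _ = _ := by group
          _ = (z ^ β)⁻¹ * b := by
              rw [((Commute.refl (b : G)).pow_left α).eq]
              group
      have e4 : n⁻¹ * b * n = z ^ β * b := by
        have e5 : (b : G) = n⁻¹ * ((z ^ β)⁻¹ * b) * n := by rw [← e3]; group
        have hcz : z ^ β * (n⁻¹ * ((z ^ β)⁻¹ * b) * n) = n⁻¹ * b * n := by
          calc z ^ β * (n⁻¹ * ((z ^ β)⁻¹ * b) * n)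
              = (z ^ β * n⁻¹) * ((z ^ β)⁻¹ * b) * n := by group
            _ = n⁻¹ * z ^ β * ((z ^ β)⁻¹ * b) * n := by rw [hzcpow β n⁻¹]
            _ = n⁻¹ * b * n := by group
        rw [← hcz, ← e5]
      have e6 : z ^ m₂ * z ^ β = 1 := by
        rw [← pow_add, hβ]
        have e7 : m₂ + m₂ * (p - 1) = m₂ * p := by
          obtain ⟨q, rfl⟩ : ∃ q, p = q + 1 := ⟨p - 1, by omega⟩
          simp only [Nat.add_sub_cancel]
          ring
        rw [e7, mul_comm, pow_mul, hzp, one_pow]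
      calc n⁻¹ * l * (b : G) * (n⁻¹ * l)⁻¹ = n⁻¹ * (l * (b : G) * l⁻¹) * n := by group
        _ = n⁻¹ * ((b : G) * z ^ m₂) * n := by rw [e2']
        _ = n⁻¹ * (z ^ m₂ * b) * n := by rw [← hzcpow m₂ (b : G)]
        _ = z ^ m₂ * (n⁻¹ * b * n) := by
            calc n⁻¹ * (z ^ m₂ * b) * n = (n⁻¹ * z ^ m₂) * b * n := by group
              _ = z ^ m₂ * n⁻¹ * b * n := by rw [hzcpow m₂ n⁻¹]
              _ = _ := by group
        _ = z ^ m₂ * (z ^ β * b) := by rw [e4]
        _ = (z ^ m₂ * z ^ β) * b := by group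
        _ = b := by rw [e6, one_mul]
    have hmem : n⁻¹ * l ∈ N := by
      apply hcomgen
      · calc n⁻¹ * l * (b : G) = (n⁻¹ * l * (b : G) * (n⁻¹ * l)⁻¹) * (n⁻¹ * l) := by group
          _ = b * (n⁻¹ * l) := by rw [key2]
      · calc n⁻¹ * l * (w : G) = (n⁻¹ * l * (w : G) * (n⁻¹ * l)⁻¹) * (n⁻¹ * l) := by group
          _ = w * (n⁻¹ * l) := by rw [key1]
    have := N.mul_mem hnN hmem
    simpa using this
  -- the lower central series
  let W : Subgroup G :=
    { carrier := {x | ∃ h : x ∈ N, ab ⟨x, h⟩ ∈ L}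
      mul_mem' := by
        rintro x y ⟨hx, hx'⟩ ⟨hy, hy'⟩
        refine ⟨N.mul_mem hx hy, ?_⟩
        have : ab ⟨x * y, N.mul_mem hx hy⟩ = ab ⟨x, hx⟩ + ab ⟨y, hy⟩ := hmul ⟨x, hx⟩ ⟨y, hy⟩
        rw [this]
        exact L.add_mem hx' hy'
      one_mem' := by
        refine ⟨N.one_mem, ?_⟩
        have : ab ⟨1, N.one_mem⟩ = 0 := ab1
        rw [this]
        exact L.zero_mem
      inv_mem' := by
        rintro x ⟨hx, hx'⟩
        refine ⟨N.inv_mem hx, ?_⟩
        have : ab ⟨x⁻¹, N.inv_mem hx⟩ = - ab ⟨x, hx⟩ := abinv ⟨x, hx⟩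
        rw [this]
        exact L.neg_mem hx' }
  let Z : Subgroup G := (commutator N).map N.subtype
  have hcom1 : ∀ g h : G, ⁅g, h⁆ ∈ N := by
    intro g h
    apply hk0
    rw [commutatorElement_def, hkmul, hkmul, hkmul, hkinv, hkinv]
    ring
  have hAL : ∀ (g : G) (x : V), x - A g x ∈ L := by
    intro g x
    obtain ⟨α, β, rfl⟩ := hspanV x
    rw [hAxy]
    have : α • v₁ + β • v₂ - ((α + β * k g) • v₁ + β • v₂) = (-(β * k g)) • v₁ := by module
    rw [this]
    exact L.smul_mem _ (Submodule.mem_span_singleton_self v₁)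
  have hALfix : ∀ (g : G), ∀ x ∈ L, A g x = x := by
    intro g x hx
    obtain ⟨c, rfl⟩ := Submodule.mem_span_singleton.mp hx
    rw [map_smul, hfix]
  have habcomm : ∀ (n : N) (g : G), ∃ h : ⁅(n : G), g⁆ ∈ N, ab ⟨⁅(n : G), g⁆, h⟩ = ab n - A g (ab n) := by
    intro n g
    have h1 : ⁅(n : G), g⁆ ∈ N := hcom1 _ _
    refine ⟨h1, ?_⟩
    have h2 : (⟨⁅(n : G), g⁆, h1⟩ : N) = n * (C g n)⁻¹ := by
      apply Subtype.ext
      rw [Subgroup.coe_mul, Subgroup.coe_inv, hC]
      show ⁅(n : G), g⁆ = _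
      rw [commutatorElement_def]
      group
    rw [h2, hmul, abinv, hA]
    abel
  have hcomW : ∀ n ∈ N, ∀ g : G, ⁅n, g⁆ ∈ W := by
    intro n hn g
    obtain ⟨h, e⟩ := habcomm ⟨n, hn⟩ g
    exact ⟨h, by rw [e]; exact hAL g _⟩
  have hcomZ : ∀ x ∈ W, ∀ g : G, ⁅x, g⁆ ∈ Z := by
    rintro x ⟨hx, hx'⟩ g
    obtain ⟨h, e⟩ := habcomm ⟨x, hx⟩ g
    rw [hALfix g _ hx', sub_self] at e
    exact ⟨⟨⁅x, g⁆, h⟩, (hker _).mp e, rfl⟩
  have hcomZ1 : ∀ x ∈ Z, ∀ g : G, ⁅x, g⁆ = 1 := by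
    rintro _ ⟨c, hc, rfl⟩ g
    rw [commutatorElement_eq_one_iff_mul_comm]
    exact hZG c hc g
  have hlcs4 : (⊤ : Subgroup G).lowerCentralSeries 4 = ⊥ := by
    have h1 : (⊤ : Subgroup G).lowerCentralSeries 1 ≤ N := by
      show ⁅(⊤ : Subgroup G).lowerCentralSeries 0, (⊤ : Subgroup G)⁆ ≤ N
      rw [Subgroup.commutator_le]
      intro g _ h _
      exact hcom1 g h
    have h2 : (⊤ : Subgroup G).lowerCentralSeries 2 ≤ W := by
      show ⁅(⊤ : Subgroup G).lowerCentralSeries 1, (⊤ : Subgroup G)⁆ ≤ W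
      rw [Subgroup.commutator_le]
      intro g hg h _
      exact hcomW g (h1 hg) h
    have h3 : (⊤ : Subgroup G).lowerCentralSeries 3 ≤ Z := by
      show ⁅(⊤ : Subgroup G).lowerCentralSeries 2, (⊤ : Subgroup G)⁆ ≤ Z
      rw [Subgroup.commutator_le]
      intro g hg h _
      exact hcomZ g (h2 hg) h
    rw [eq_bot_iff]
    show ⁅(⊤ : Subgroup G).lowerCentralSeries 3, (⊤ : Subgroup G)⁆ ≤ ⊥
    rw [Subgroup.commutator_le]
    intro g hg h _
    rw [hcomZ1 g (h3 hg) h]
    exact Subgroup.one_mem _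
  have hlcs : (⊤ : Subgroup G).lowerCentralSeries (p - 1) = ⊥ := by
    have hall : ∀ q, (⊤ : Subgroup G).lowerCentralSeries (4 + q) = ⊥ := by
      intro q
      induction q with
      | zero => exact hlcs4
      | succ q ih =>
        show ⁅(⊤ : Subgroup G).lowerCentralSeries (4 + q), (⊤ : Subgroup G)⁆ = ⊥
        rw [ih]
        exact Subgroup.commutator_bot_left _
    obtain ⟨q, hq⟩ : ∃ q, p - 1 = 4 + q := ⟨p - 5, by omega⟩
    rw [hq]
    exact hall q
  have hreg : IsRegularPGroup p G := Cfsg.Agent.S4209.result hG hlcs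
  -- `Ω₁`
  have hΩ : ∀ x : G, x ^ p = 1 → x ∈ N := by
    obtain ⟨H, -, hHset⟩ := Cfsg.Agent.Lib.RegularP.exists_omega hreg 1
    have hmemH : ∀ x, x ∈ H ↔ x ^ p = 1 := by
      intro x
      have : x ∈ (H : Set G) ↔ x ∈ {x : G | x ^ p ^ 1 = 1} := by rw [hHset]
      simpa using this
    have hNH : N ≤ H := fun n hn => (hmemH n).mpr (hNexp n hn)
    have hHcard : Nat.card H ≤ p ^ 3 := by
      apply Cfsg.Agent.Lib.RankTwoRep.card_le_cube_of_exponent (hG.to_subgroup H)
      intro B hB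
      have h := hr (B.map H.subtype) ?_ ?_
      · rwa [Subgroup.card_map_of_injective H.subtype_injective] at h
      · refine ⟨⟨?_⟩⟩
        rintro ⟨_, a, ha, rfl⟩ ⟨_, c, hc, rfl⟩
        apply Subtype.ext
        have := congrArg Subtype.val (hB.is_comm.comm (⟨a, ha⟩ : B) ⟨c, hc⟩)
        show (a : G) * (c : G) = (c : G) * (a : G)
        exact congrArg Subtype.val (show (a * c : H) = c * a from this)
      · rintro _ ⟨a, ha, rfl⟩
        exact (hmemH a).mp a.2
    have hNeq : N = H := Subgroup.eq_of_le_of_card_ge hNH (by rw [hNcard]; exact hHcard)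
    intro x hx
    rw [hNeq]
    exact (hmemH x).mpr hx
  -- `p`-th powers
  have hpw : ∀ (a n : G), n ∈ N → (a * n) ^ p = a ^ p := by
    intro a n hn
    have h1 := (Cfsg.Agent.Lib.RegularP.pow_eq_pow_iff hreg (a * n) a 1).mpr (by
      rw [pow_one]
      exact hNexp _ (hN.conj_mem n hn a))
    simpa using h1
  have hpN : ∀ a : G, a ^ p ∈ N := by
    intro a
    apply hk0
    rw [hkpow, ZMod.natCast_self, zero_mul]
  have hpc : ∀ (a n : G), n ∈ N → n * a ^ p * n⁻¹ = a ^ p := by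
    intro a n hn
    have h1 : n * a * n⁻¹ = a * (a⁻¹ * n * a * n⁻¹) := by group
    have h2 : a⁻¹ * n * a * n⁻¹ ∈ N := by
      have := hN.conj_mem n hn a⁻¹
      rw [inv_inv] at this
      exact N.mul_mem this (N.inv_mem hn)
    rw [← conj_pow, h1, hpw a _ h2]
  have hcenterN : ∀ y ∈ N, (∀ n ∈ N, n * y * n⁻¹ = y) → ∃ m : ℕ, y = z ^ m := by
    intro y hy hyc
    obtain ⟨i, j, c, hc, e⟩ := hco1 ⟨y, hy⟩
    have e' : y = (b : G) ^ i * (w : G) ^ j * (c : G) := congrArg Subtype.val e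
    have hbw : (b : G) * (w : G) * (b : G)⁻¹ * (w : G)⁻¹ = z := rfl
    have hcc := hZG c hc
    -- the exponents vanish
    have hi : p ∣ i := by
      have h1 := comm_pow_pow hzc hbw i 1
      rw [pow_one] at h1
      have h2 : (w : G) * y * (w : G)⁻¹ = y := hyc _ w.2
      have h3 : (b : G) ^ i * (w : G) * ((b : G) ^ i)⁻¹ * (w : G)⁻¹ = 1 := by
        have hwc : y * (w : G) = (w : G) * y := by
          calc y * (w : G) = ((w : G) * y * (w : G)⁻¹) * (w : G) := by rw [h2]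
            _ = _ := by group
        have e3 : (w : G) ^ j * (w : G) = (w : G) * (w : G) ^ j := ((Commute.refl (w : G)).pow_left j).eq
        have e4 : (b : G) ^ i * (w : G) ^ j * (w : G) = (w : G) * ((b : G) ^ i * (w : G) ^ j) := by
          have e5 : y * (w : G) = (b : G) ^ i * (w : G) ^ j * (w : G) * c := by
            rw [e']
            rw [mul_assoc ((b : G) ^ i * (w : G) ^ j), hcc (w : G)]
            group
          have e6 : (w : G) * y = (w : G) * ((b : G) ^ i * (w : G) ^ j) * c := by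
            rw [e']; group
          rw [e5, e6] at hwc
          exact mul_right_cancel hwc
        calc (b : G) ^ i * (w : G) * ((b : G) ^ i)⁻¹ * (w : G)⁻¹
            = ((b : G) ^ i * ((w : G) * (w : G) ^ j)) * ((w : G) ^ j)⁻¹ * ((b : G) ^ i)⁻¹ * (w : G)⁻¹ := by group
          _ = ((b : G) ^ i * ((w : G) ^ j * (w : G))) * ((w : G) ^ j)⁻¹ * ((b : G) ^ i)⁻¹ * (w : G)⁻¹ := by rw [e3]
          _ = ((b : G) ^ i * (w : G) ^ j * (w : G)) * ((w : G) ^ j)⁻¹ * ((b : G) ^ i)⁻¹ * (w : G)⁻¹ := by group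
          _ = ((w : G) * ((b : G) ^ i * (w : G) ^ j)) * ((w : G) ^ j)⁻¹ * ((b : G) ^ i)⁻¹ * (w : G)⁻¹ := by rw [e4]
          _ = 1 := by group
      rw [h3] at h1
      have h4 : z ^ i = 1 := by
        rw [mul_one] at h1
        exact h1.symm
      rw [← hzo]
      exact orderOf_dvd_of_pow_eq_one h4
    have hj : p ∣ j := by
      have h1 := comm_pow_pow hzc hbw 1 j
      rw [pow_one, one_mul] at h1
      have hbi : (b : G) ^ i = 1 := by
        obtain ⟨q, rfl⟩ := hi
        rw [pow_mul, hNexp _ b.2, one_pow]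
      have hy' : y = (w : G) ^ j * c := by rw [e', hbi, one_mul]
      have h2 : (b : G) * y * (b : G)⁻¹ = y := hyc _ b.2
      have h3 : (b : G) * (w : G) ^ j * (b : G)⁻¹ * ((w : G) ^ j)⁻¹ = 1 := by
        have e3 : (b : G) * (w : G) ^ j * (c : G) * (b : G)⁻¹ = (w : G) ^ j * c := by
          rw [mul_assoc (b : G), ← hy', h2]
        have e4 : (b : G) * (w : G) ^ j * (b : G)⁻¹ * (c : G) = (w : G) ^ j * c := by
          rw [← e3, mul_assoc ((b : G) * (w : G) ^ j) (b : G)⁻¹, ← hcc (b : G)⁻¹]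
          group
        have e5 := mul_right_cancel e4
        rw [e5]
        group
      rw [h3] at h1
      have h4 : z ^ j = 1 := h1.symm
      rw [← hzo]
      exact orderOf_dvd_of_pow_eq_one h4
    have hbi : (b : G) ^ i = 1 := by
      obtain ⟨q, rfl⟩ := hi
      rw [pow_mul, hNexp _ b.2, one_pow]
    have hwj : (w : G) ^ j = 1 := by
      obtain ⟨q, rfl⟩ := hj
      rw [pow_mul, hNexp _ w.2, one_pow]
    obtain ⟨m, hm⟩ := hZcoe c hc
    refine ⟨m, ?_⟩
    rw [e', hbi, hwj, one_mul, one_mul, hm]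
  have hpz : ∀ a : G, ∃ m : ℕ, a ^ p = z ^ m := fun a => hcenterN _ (hpN a) (fun n hn => hpc a n hn)
  have hLmem : ∀ (α β : ZMod p), α • v₁ + β • v₂ ∈ L → β = 0 := by
    intro α β h
    obtain ⟨c, hc⟩ := Submodule.mem_span_singleton.mp h
    have h2 : (α - c) • v₁ + β • v₂ = 0 := by
      rw [sub_smul, hc]
      abel
    exact (hind _ _ h2).2
  refine ⟨hΩ, v₁, hv₁ne, hfix, ?_, ?_⟩
  · intro a ha x hx
    have hka : k a ≠ 0 := fun h => ha (hk0 a h)
    obtain ⟨α, β, rfl⟩ := hspanV x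
    have h1 : A a (α • v₁ + β • v₂) = α • v₁ + β • v₂ := hx
    rw [hAxy] at h1
    have h2 : (β * k a) • v₁ + (0 : ZMod p) • v₂ = 0 := by
      have e : (α + β * k a) • v₁ + β • v₂ - (α • v₁ + β • v₂) = (β * k a) • v₁ + (0 : ZMod p) • v₂ := by module
      rw [← e, h1, sub_self]
    have h3 : β = 0 := (mul_eq_zero.mp (hind _ _ h2).1).resolve_right hka
    subst h3
    rw [zero_smul, add_zero]
    exact L.smul_mem _ (Submodule.mem_span_singleton_self v₁)
  · intro hc θ x hx κ hκ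
    set res := Cfsg.Agent.Lib.RankTwoRep.resAut N hc θ with hres
    set Θ := ρ res with hΘ
    have hresc : ∀ n : N, ((res n : N) : G) = θ n := fun _ => rfl
    have habΘ : ∀ n : N, Θ (ab n) = ab (res n) := fun n => hρ _ _
    -- equivariance
    have hequiv : ∀ (l : G) (x : V), A (θ l) (Θ x) = Θ (A l x) := by
      intro l x
      obtain ⟨n, rfl⟩ := hsurj x
      rw [habΘ, hA, hA, habΘ]
      congr 1
      apply Subtype.ext
      rw [hC, hresc, hresc, hC, map_mul, map_mul, map_inv]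
    -- the element outside `N`
    obtain ⟨a, ha⟩ : ∃ a, a ∉ N := by
      by_contra h
      push Not at h
      exact hNtop (eq_top_iff.mpr fun x _ => h x)
    have hka : k a ≠ 0 := fun h => ha (hk0 a h)
    have hθa : θ a ∉ N := by
      intro h
      apply ha
      apply hΩ
      have h1 := hNexp _ h
      rw [← map_pow] at h1
      exact (map_eq_one_iff θ θ.injective).mp h1
    have hkθa : k (θ a) ≠ 0 := fun h => hθa (hk0 _ h)
    -- the shape of `Θ`
    obtain ⟨κ₁, β₁, h₁⟩ := hspanV (Θ v₁)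
    have hβ₁ : β₁ = 0 := by
      have h1 := hequiv a v₁
      rw [hfix, h₁, hAxy] at h1
      have h2 : (β₁ * k (θ a)) • v₁ + (0 : ZMod p) • v₂ = 0 := by
        have e : (κ₁ + β₁ * k (θ a)) • v₁ + β₁ • v₂ - (κ₁ • v₁ + β₁ • v₂) = (β₁ * k (θ a)) • v₁ + (0 : ZMod p) • v₂ := by
          module
        rw [← e, h1, sub_self]
      exact (mul_eq_zero.mp (hind _ _ h2).1).resolve_right hkθa
    subst hβ₁
    rw [zero_smul, add_zero] at h₁
    have hκ₁ : κ₁ ≠ 0 := by
      rintro rfl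
      rw [zero_smul] at h₁
      exact hv₁ne (Θ.injective (by rw [h₁, map_zero]))
    obtain ⟨ξ, κ₂, h₂⟩ := hspanV (Θ v₂)
    -- the relation between `k` and `Θ`
    have hE1 : ∀ l : G, κ₂ * k (θ l) = κ₁ * k l := by
      intro l
      have h1 := hequiv l v₂
      rw [h₂, hAxy, hk, map_add, map_smul, h₁, h₂] at h1
      have h2 : (κ₂ * k (θ l) - κ₁ * k l) • v₁ + (0 : ZMod p) • v₂ = 0 := by
        have e : (ξ + κ₂ * k (θ l)) • v₁ + κ₂ • v₂ - (ξ • v₁ + κ₂ • v₂ + k l • κ₁ • v₁) =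
            (κ₂ * k (θ l) - κ₁ * k l) • v₁ + (0 : ZMod p) • v₂ := by
          module
        rw [← e, h1, sub_self]
      exact sub_eq_zero.mp (hind _ _ h2).1
    -- `κ = κ₂`
    have hκκ₂ : κ = κ₂ := by
      obtain ⟨α, β, rfl⟩ := hspanV x
      have hβ : β ≠ 0 := by
        rintro rfl
        apply hx
        rw [zero_smul, add_zero]
        exact L.smul_mem _ (Submodule.mem_span_singleton_self v₁)
      rw [map_add, map_smul, map_smul, h₁, h₂] at hκ
      have e : α • κ₁ • v₁ + β • (ξ • v₁ + κ₂ • v₂) - κ • (α • v₁ + β • v₂) =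
          (α * κ₁ + β * ξ - κ * α) • v₁ + (β * (κ₂ - κ)) • v₂ := by
        module
      rw [e] at hκ
      have h3 := hLmem _ _ hκ
      have h4 := (mul_eq_zero.mp h3).resolve_left hβ
      exact (sub_eq_zero.mp h4).symm
    rw [hκκ₂]
    -- the action on `z`
    have hbw : (b : G) * (w : G) * (b : G)⁻¹ * (w : G)⁻¹ = z := rfl
    have h6 : ab (res w) = ((κ₁.val : ℕ) : ZMod p) • v₁ + ((0 : ℕ) : ZMod p) • v₂ := by
      rw [← habΘ, hw, h₁, hnatc]
      simp
    have h7 : ab (res b) = ((ξ.val : ℕ) : ZMod p) • v₁ + ((κ₂.val : ℕ) : ZMod p) • v₂ := by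
      rw [← habΘ, hb, h₂, hnatc, hnatc]
    obtain ⟨c₁, hc₁, e1⟩ := hlift _ _ _ h6
    obtain ⟨c₂, hc₂, e2⟩ := hlift _ _ _ h7
    have hθz : θ z = z ^ (κ₂.val * κ₁.val) := by
      have h8 : res zN = (b ^ κ₂.val * w ^ ξ.val * w ^ κ₁.val * (b ^ κ₂.val * w ^ ξ.val)⁻¹ * (w ^ κ₁.val)⁻¹) := by
        rw [hzN, map_mul, map_mul, map_mul, map_inv, map_inv, e1, e2]
        rw [hcommN _ _ _ _ hc₂ hc₁]
        simp only [pow_zero, one_mul]
      have h9 : ((res zN : N) : G) = z ^ (κ₂.val * κ₁.val) := by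
        rw [h8, ← comm_pow_pow hzc hbw κ₂.val κ₁.val]
        have hcw : Commute ((w : G) ^ ξ.val) ((w : G) ^ κ₁.val) := (Commute.refl (w : G)).pow_pow _ _
        simp only [Subgroup.coe_mul, Subgroup.coe_inv, Subgroup.coe_pow]
        calc (b : G) ^ κ₂.val * (w : G) ^ ξ.val * (w : G) ^ κ₁.val * ((b : G) ^ κ₂.val * (w : G) ^ ξ.val)⁻¹ * ((w : G) ^ κ₁.val)⁻¹
            = (b : G) ^ κ₂.val * ((w : G) ^ ξ.val * (w : G) ^ κ₁.val) * (((w : G) ^ ξ.val)⁻¹ * ((b : G) ^ κ₂.val)⁻¹) * ((w : G) ^ κ₁.val)⁻¹ := by group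
          _ = (b : G) ^ κ₂.val * ((w : G) ^ κ₁.val * (w : G) ^ ξ.val) * (((w : G) ^ ξ.val)⁻¹ * ((b : G) ^ κ₂.val)⁻¹) * ((w : G) ^ κ₁.val)⁻¹ := by rw [hcw.eq]
          _ = _ := by group
      rw [← h9]
      rfl
    -- the `p`-th power
    obtain ⟨s, hs⟩ := hpz a
    have hs1 : z ^ s ≠ 1 := by
      rw [← hs]
      exact fun h => ha (hΩ a h)
    have hsp : (s : ZMod p) ≠ 0 := by
      intro h
      apply hs1
      obtain ⟨q, rfl⟩ := (ZMod.natCast_eq_zero_iff _ _).mp h
      rw [pow_mul, hzp, one_pow]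
    set e := (k (θ a) * (k a)⁻¹).val with he
    have hec : (e : ZMod p) = k (θ a) * (k a)⁻¹ := hnatc _
    have hn : (a ^ e)⁻¹ * θ a ∈ N := by
      apply hk0
      rw [hkmul, hkinv, hkpow, hec, mul_assoc, inv_mul_cancel₀ hka, mul_one, neg_add_cancel]
    have h10 : (θ a) ^ p = z ^ (e * s) := by
      have e1 : θ a = a ^ e * ((a ^ e)⁻¹ * θ a) := by group
      rw [e1, hpw _ _ hn, ← pow_mul, mul_comm, pow_mul, hs, ← pow_mul, mul_comm]
    have h11 : (θ a) ^ p = z ^ (κ₂.val * κ₁.val * s) := by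
      rw [← map_pow, hs, map_pow, hθz, ← pow_mul]
    have h12 : z ^ (e * s) = z ^ (κ₂.val * κ₁.val * s) := by rw [← h10, h11]
    have h13 := (pow_eq_pow_iff_modEq).mp h12
    rw [hzo] at h13
    have h14 := (ZMod.natCast_eq_natCast_iff _ _ _).mpr h13
    push_cast at h14
    simp only [hnatc] at h14
    have h15 : (e : ZMod p) = κ₂ * κ₁ := mul_right_cancel₀ hsp h14
    have h16 := hE1 a
    have h17 : k (θ a) = (e : ZMod p) * k a := by
      rw [hec, mul_assoc, inv_mul_cancel₀ hka, mul_one]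
    rw [h17, h15] at h16
    have h18 : κ₂ ^ 2 * κ₁ = κ₁ := by
      have h19 : (κ₂ ^ 2 * κ₁) * k a = κ₁ * k a := by
        rw [← h16]
        ring
      exact mul_right_cancel₀ hka h19
    have h20 : κ₂ ^ 2 * κ₁ = 1 * κ₁ := by rw [h18, one_mul]
    exact mul_right_cancel₀ hκ₁ h20
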