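import Mathlib
import Cfsg.Agent.Lib.RankTwoResA
import Cfsg.Agent.Lib.PlaneRep
import Cfsg.Agent.Lib.FusionCartan

/-!
# The essential subgroups of a rank two `p`-group, `p ≥ 5`

The abstract form: `R` is a finite `p`-group embedded as a normal self-centralizing subgroup of the rank two `p`-group
`G` (in the application: an essential subgroup `R = E` and `G = N_S(E)`), and `D ≤ Aut(R)` contains the automizer of
`G`, which is a non-normal Sylow `p`-subgroup of `D`; `O_p(D)` is inner and automorphisms normalizing the Sylow subgroup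
extend to `G`. Then `G` is non-abelian of order `p³` and exponent `p`, and `R` has order `p²`.
-/

set_option autoImplicit false

namespace Cfsg.Agent.Lib.RankTwoResC

open Cfsg Cfsg.Agent.Lib.RankTwoResBasic Cfsg.Agent.Lib.PlaneRep
open scoped commutatorElement

universe u

variable {G R : Type u} [Group G] [Group R] [Finite G] [Finite R] {p : ℕ} [hp : Fact p.Prime]

/-- The primitive root. -/
theorem exists_root (h5 : 5 ≤ p) : ∃ l : ZMod p, l ≠ 0 ∧ l ^ 2 ≠ 1 ∧ l ^ 3 ≠ 1 ∧ l ^ ((p - 1) / 2) = -1 ∧ l ^ (p - 1) = 1 := by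
  classical
  have hpp := hp.out
  obtain ⟨g, hg⟩ := IsCyclic.exists_generator (α := (ZMod p)ˣ)
  have ho : orderOf g = p - 1 := by
    rw [orderOf_eq_card_of_forall_mem_zpowers hg, Nat.card_eq_fintype_card, ZMod.card_units]
  have hg0 : (g : ZMod p) ≠ 0 := g.ne_zero
  have hodd : Odd p := hpp.odd_of_ne_two (by omega)
  have hhalf : 2 * ((p - 1) / 2) = p - 1 := by
    obtain ⟨k, hk⟩ := hodd
    omega
  have hcoe : ∀ n : ℕ, (g : ZMod p) ^ n = 1 → p - 1 ∣ n := by
    intro n hn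
    rw [← ho]
    apply orderOf_dvd_of_pow_eq_one
    apply Units.ext
    simpa using hn
  have hfull : (g : ZMod p) ^ (p - 1) = 1 := ZMod.pow_card_sub_one_eq_one hg0
  refine ⟨g, hg0, ?_, ?_, ?_, hfull⟩
  · intro h
    have := Nat.le_of_dvd (by norm_num) (hcoe 2 h)
    omega
  · intro h
    have := Nat.le_of_dvd (by norm_num) (hcoe 3 h)
    omega
  · have h1 : ((g : ZMod p) ^ ((p - 1) / 2)) ^ 2 = 1 := by
      rw [← pow_mul, mul_comm, hhalf, hfull]
    rw [pow_two] at h1
    rcases mul_self_eq_one_iff.mp h1 with h2 | h2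
    · exfalso
      have h3 := Nat.le_of_dvd (Nat.div_pos (by omega) (by norm_num)) (hcoe _ h2)
      omega
    · exact h2

/-- A non-abelian `p`-group of order at most `p³` has order `p³`. -/
theorem card_of_nonabelian {X : Type*} [Group X] [Finite X] (hX : IsPGroup p X) (hcard : Nat.card X ≤ p ^ 3)
    (hna : ∃ x y : X, x * y ≠ y * x) : Nat.card X = p ^ 3 := by
  have hpp := hp.out
  obtain ⟨n, hn⟩ := IsPGroup.iff_card.mp hX
  rw [hn] at hcard ⊢
  have hn2 := (Nat.pow_le_pow_iff_right hpp.one_lt).mp hcard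
  have hn3 : n = 3 := by
    by_contra hne
    obtain ⟨x, y, hxy⟩ := hna
    apply hxy
    have hn4 : n ≤ 2 := by omega
    have hcomm : IsMulCommutative X := by
      rcases Nat.lt_or_ge n 2 with h | h
      · haveI : IsCyclic X := by
          interval_cases n
          · have : Subsingleton X := (Nat.card_eq_one_iff_unique.mp (by simpa using hn)).1
            infer_instance
          · exact isCyclic_of_prime_card (p := p) (by simpa using hn)
        exact IsCyclic.isMulCommutative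
      · have : n = 2 := by omega
        subst this
        exact IsPGroup.isMulCommutative_of_card_eq_prime_sq hn
    exact hcomm.is_comm.comm x y
  rw [hn3]

theorem main (h5 : 5 ≤ p) (hG : IsPGroup p G) (hr : PRankLE p 2 G) (ι : R →* G) (hι : Function.Injective ι)
    (c : G →* MulAut R) (hc : ∀ (l : G) (x : R), l * ι x * l⁻¹ = ι (c l x)) (D : Subgroup (MulAut R))
    (hcD : ∀ l, c l ∈ D) (T : Sylow p D) (hT0 : (T : Subgroup D) = c.range.subgroupOf D)
    (hT : ¬ (T : Subgroup D).Normal)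
    (hcen : ∀ l, (∃ x : R, c l = MulAut.conj x) → l ∈ ι.range)
    (hrad : ∀ K : Subgroup D, K.Normal → IsPGroup p K → ∀ d ∈ K, ∃ x : R, (d : MulAut R) = MulAut.conj x)
    (A : Subgroup (MulAut G))
    (hext : ∀ d : D, (∀ s ∈ (T : Subgroup D), d * s * d⁻¹ ∈ (T : Subgroup D)) →
      ∃ t ∈ A, ∀ x : R, t (ι x) = ι (d.1 x)) :
    ∃ t ∈ A, ∃ (u v : G) (b : ℕ), Nat.card G = p ^ 3 ∧ (∀ n : G, n ^ p = 1) ∧ (∃ x y : G, x * y ≠ y * x) ∧
      u ∈ ι.range ∧ v ∈ ι.range ∧ (∀ x ∈ ι.range, ∃ i j : ℕ, x = u ^ i * v ^ j) ∧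
      u ∈ commutator G ∧ (∀ c' ∈ commutator G, ∃ m : ℕ, c' = u ^ m) ∧ v ∉ commutator G ∧ t v = v ^ b ∧
      ¬ b ^ 2 ≡ 1 [MOD p] := by
  classical
  have hpp := hp.out
  have hp2 : p ≠ 2 := by omega
  have hR : IsPGroup p R := IsPGroup.of_injective hG ι hι
  have hrR : PRankLE p 2 R := by
    intro A hA hexp
    have h := hr (A.map ι) ?_ ?_
    · rwa [Subgroup.card_map_of_injective hι] at h
    · refine ⟨⟨?_⟩⟩
      rintro ⟨_, a, ha, rfl⟩ ⟨_, b, hb, rfl⟩
      apply Subtype.ext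
      have := congrArg Subtype.val (hA.is_comm.comm (⟨a, ha⟩ : A) ⟨b, hb⟩)
      show ι a * ι b = ι b * ι a
      rw [← map_mul, ← map_mul]
      exact congrArg ι this
    · rintro _ ⟨a, ha, rfl⟩
      rw [← map_pow, hexp a ha, map_one]
  obtain ⟨X, hXc, hXexp, hcase, hXcent, hfaith⟩ := exists_crit hp2 hR hrR
  have hexpY : ∀ x : X, x ^ p = 1 := fun x => Subtype.ext (hXexp x x.2)
  obtain ⟨V, _, _, ab, ρ, hmul, hsurj, hker, hρ, hcardV⟩ := exists_plane (p := p) X hexpY
  have hfinV : Finite V := Finite.of_surjective ab hsurj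
  have ab1 : ab 1 = 0 := by
    have := hmul 1 1
    rw [mul_one] at this
    have h2 : ab 1 + 0 = ab 1 + ab 1 := by rw [add_zero]; exact this
    exact (add_left_cancel h2).symm
  have abinv : ∀ x, ab x⁻¹ = - ab x := by
    intro x
    have := hmul x⁻¹ x
    rw [inv_mul_cancel, ab1] at this
    exact eq_neg_of_add_eq_zero_left this.symm
  have abpow : ∀ (x : X) (n : ℕ), ab (x ^ n) = (n : ZMod p) • ab x := by
    intro x n
    induction n with
    | zero => simp [ab1]
    | succ n ih =>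
      rw [pow_succ, hmul, ih, Nat.cast_succ, add_smul, one_smul]
  let res := Cfsg.Agent.Lib.RankTwoRep.resAut X hXc
  let Φ₀ : MulAut R →* (V ≃ₗ[ZMod p] V) := ρ.comp res
  let Φ : D →* (V ≃ₗ[ZMod p] V) := Φ₀.comp D.subtype
  have hΦ : ∀ (α : MulAut R) (x : X), Φ₀ α (ab x) = ab (res α x) := fun α x => hρ _ _
  have hresc : ∀ (α : MulAut R) (x : X), ((res α x : X) : R) = α x := fun _ _ => rfl
  have hfinA : Finite (MulAut R) := Finite.of_injective (fun α : MulAut R => (α : R → R)) DFunLike.coe_injective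
  have hfinD : Finite D := inferInstance
  -- the kernel
  have hfix₀ : ∀ α : MulAut R, (orderOf α).Coprime p → Φ₀ α = 1 → α = 1 := by
    intro α hco hα
    apply hfaith α hco
    intro x hx
    apply coe_commutator_mem X (x := ⟨x, hx⟩⁻¹ * res α ⟨x, hx⟩)
    rw [← hker, hmul, abinv, ← hΦ, hα]
    simp
  have hKp : IsPGroup p Φ.ker := Cfsg.Agent.Lib.RankTwoRep.isPGroup_of_forall_coprime Φ.ker (by
    intro g hg hco
    apply Subtype.ext
    apply hfix₀
    · have : orderOf (g : MulAut R) = orderOf g := Subgroup.orderOf_coe g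
      rw [this]
      exact hco
    · exact hg)
  have hK : ∀ d : D, Φ d = 1 → ∃ n : ℕ, d ^ (p ^ n) = 1 := by
    intro d hd
    obtain ⟨n, hn⟩ := hKp ⟨d, hd⟩
    exact ⟨n, by simpa using congrArg Subtype.val hn⟩
  have hkerT : Φ.ker ≤ (T : Subgroup D) := by
    have h1 : IsPGroup p (Φ.ker ⊔ (T : Subgroup D) : Subgroup D) :=
      IsPGroup.to_sup_of_normal_left hKp T.isPGroup'
    have h2 := T.is_maximal' h1 le_sup_right
    rw [← h2]
    exact le_sup_left
  -- the dimension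
  have hcardV2 : Nat.card V = p ^ 2 := by
    have hnot : ¬ Nat.card V ≤ p := by
      intro hle
      apply hT
      refine ⟨fun t ht g => ?_⟩
      have h1 : g * t * g⁻¹ * t⁻¹ ∈ Φ.ker := by
        rw [MonoidHom.mem_ker]
        have e : Φ (g * t * g⁻¹ * t⁻¹) = Φ g * Φ t * (Φ g)⁻¹ * (Φ t)⁻¹ := by
          simp only [map_mul, map_inv]
        rw [e, linear_comm_of_card_le hle (Φ g) (Φ t)]
        group
      have h2 := (T : Subgroup D).mul_mem (hkerT h1) ht
      simpa using h2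
    rcases hcase with ⟨hab, hcard⟩ | ⟨hna, hcard⟩
    · have hcb : commutator X = ⊥ := by
        rw [eq_bot_iff, _root_.commutator_def, Subgroup.commutator_le]
        rintro a - b -
        rw [commutatorElement_eq_one_iff_mul_comm.mpr (Subtype.ext (hab a a.2 b b.2))]
        exact Subgroup.one_mem _
      rw [hcardV, hcb, Subgroup.index_bot] at hnot ⊢
      obtain ⟨n, hn⟩ := IsPGroup.iff_card.mp (hR.to_subgroup X)
      rw [hn] at hnot hcard ⊢
      have hn2 := (Nat.pow_le_pow_iff_right hpp.one_lt).mp hcard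
      have hn3 : n ≠ 0 ∧ n ≠ 1 := by
        constructor
        · rintro rfl
          apply hnot
          simpa using hpp.one_le
        · rintro rfl
          apply hnot
          simp
      have : n = 2 := by omega
      rw [this]
    · obtain ⟨n, hn⟩ := IsPGroup.iff_card.mp (hR.to_subgroup X)
      rw [hn] at hcard
      have hn2 := (Nat.pow_le_pow_iff_right hpp.one_lt).mp hcard
      have hn3 : n = 3 := by
        by_contra hne
        apply hna
        have hn4 : n ≤ 2 := by omega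
        have hcomm : IsMulCommutative X := by
          rcases Nat.lt_or_ge n 2 with h | h
          · haveI : IsCyclic X := by
              interval_cases n
              · have : Subsingleton X := (Nat.card_eq_one_iff_unique.mp (by simpa using hn)).1
                infer_instance
              · exact isCyclic_of_prime_card (p := p) (by simpa using hn)
            exact IsCyclic.isMulCommutative
          · have : n = 2 := by omega
            subst this
            exact IsPGroup.isMulCommutative_of_card_eq_prime_sq hn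
        intro a ha b hb
        exact congrArg Subtype.val (hcomm.is_comm.comm (⟨a, ha⟩ : X) ⟨b, hb⟩)
      subst hn3
      obtain ⟨-, -, h3⟩ := comm_facts (hR.to_subgroup X) hexpY hn (by
        by_contra hall
        push Not at hall
        exact hna (fun a ha b hb => congrArg Subtype.val (hall ⟨a, ha⟩ ⟨b, hb⟩)))
      rw [hcardV, h3]
  have hfin : Module.finrank (ZMod p) V = 2 := Cfsg.Agent.Lib.FusionSL2.finrank_two_of_card hcardV2
  -- the torus
  obtain ⟨v₁, v₂, hli, hT1, hT2, hTmem, ⟨t₀, ht₀, ht₀e⟩, ⟨g₀, hg₁, hg₂⟩, hcart⟩ :=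
    Cfsg.Agent.Lib.FusionCartan.exists_cartan hfin Φ hK T hT
  have hind : ∀ α β : ZMod p, α • v₁ + β • v₂ = 0 → α = 0 ∧ β = 0 :=
    fun α β h => LinearIndependent.pair_iff.mp hli α β h
  let bas : Module.Basis (Fin 2) (ZMod p) V :=
    basisOfLinearIndependentOfCardEqFinrank hli (by simp [hfin])
  have hb0 : bas 0 = v₁ := by
    show (basisOfLinearIndependentOfCardEqFinrank hli _) 0 = v₁
    rw [coe_basisOfLinearIndependentOfCardEqFinrank]
    rfl
  have hb1 : bas 1 = v₂ := by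
    show (basisOfLinearIndependentOfCardEqFinrank hli _) 1 = v₂
    rw [coe_basisOfLinearIndependentOfCardEqFinrank]
    rfl
  have hspanV : ∀ w : V, ∃ x y : ZMod p, w = x • v₁ + y • v₂ := by
    intro w
    refine ⟨bas.repr w 0, bas.repr w 1, ?_⟩
    conv_lhs => rw [← bas.sum_repr w]
    rw [Fin.sum_univ_two, hb0, hb1]
  have hext₁ : ∀ f : V ≃ₗ[ZMod p] V, f v₁ = v₁ → f v₂ = v₂ → f = 1 := by
    intro f h1 h2
    ext w
    obtain ⟨x, y, rfl⟩ := hspanV w
    simp [h1, h2]
  -- inner automorphisms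
  have hcι : ∀ x : R, c (ι x) = MulAut.conj x := by
    intro x
    ext y
    apply hι
    rw [← hc, ← map_inv, ← map_mul, ← map_mul]
    rfl
  let cD : G →* D := c.codRestrict D hcD
  have hcDc : ∀ l, ((cD l : D) : MulAut R) = c l := fun _ => rfl
  have hcT : ∀ l, cD l ∈ (T : Subgroup D) := by
    intro l
    rw [hT0, Subgroup.mem_subgroupOf]
    exact ⟨l, rfl⟩
  have hTc : ∀ s ∈ (T : Subgroup D), ∃ l, s = cD l := by
    intro s hs
    rw [hT0, Subgroup.mem_subgroupOf] at hs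
    obtain ⟨l, hl⟩ := hs
    exact ⟨l, Subtype.ext hl.symm⟩
  have hg₀inv : Φ g₀⁻¹ v₂ = v₁ := by
    rw [← hg₁, ← LinearEquiv.mul_apply, ← map_mul]
    simp
  have hΦι : ∀ x : R, Φ (cD (ι x)) = 1 := by
    intro x
    apply hext₁
    · exact hT1 _ (hcT _)
    · set y := (g₀ : MulAut R)⁻¹ x with hy
      have h1 : cD (ι x) = g₀ * cD (ι y) * g₀⁻¹ := by
        apply Subtype.ext
        show c (ι x) = (g₀ : MulAut R) * c (ι y) * (g₀ : MulAut R)⁻¹
        rw [hcι, hcι]
        ext z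
        simp only [MulAut.mul_apply, MulAut.conj_apply, map_mul, map_inv]
        rw [hy]
        simp
      rw [h1, map_mul, map_mul, LinearEquiv.mul_apply, LinearEquiv.mul_apply, hg₀inv, hT1 _ (hcT _), hg₁]
  have hkerInn : ∀ d : D, Φ d = 1 → ∃ x : R, (d : MulAut R) = MulAut.conj x :=
    fun d hd => hrad Φ.ker (MonoidHom.normal_ker Φ) hKp d hd
  -- the linear character
  have hk' : ∀ l : G, ∃ κ : ZMod p, Φ (cD l) v₂ = v₂ + κ • v₁ := fun l => hT2 _ (hcT l)
  choose k hk using hk'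
  have hfixc : ∀ l : G, Φ (cD l) v₁ = v₁ := fun l => hT1 _ (hcT l)
  have hkmul : ∀ l l', k (l * l') = k l + k l' := by
    intro l l'
    have h1 : Φ (cD (l * l')) v₂ = v₂ + (k l + k l') • v₁ := by
      rw [map_mul, map_mul, LinearEquiv.mul_apply, hk l', map_add, map_smul, hfixc, hk l, add_smul]
      abel
    rw [hk] at h1
    have h2 : (k (l * l') - (k l + k l')) • v₁ + (0 : ZMod p) • v₂ = 0 := by
      rw [zero_smul, add_zero, sub_smul]
      exact sub_eq_zero.mpr (add_left_cancel h1)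
    exact sub_eq_zero.mp (hind _ _ h2).1
  have hk1 : k 1 = 0 := by
    have := hkmul 1 1
    rw [mul_one] at this
    have h2 : k 1 + 0 = k 1 + k 1 := by rw [add_zero]; exact this
    exact (add_left_cancel h2).symm
  have hkpow : ∀ (l : G) (n : ℕ), k (l ^ n) = (n : ZMod p) * k l := by
    intro l n
    induction n with
    | zero => simp [hk1]
    | succ n ih =>
      rw [pow_succ, hkmul, ih, Nat.cast_succ, add_mul, one_mul]
  have hkinv : ∀ l, k l⁻¹ = - k l := by
    intro l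
    have := hkmul l⁻¹ l
    rw [inv_mul_cancel, hk1] at this
    exact eq_neg_of_add_eq_zero_left this.symm
  have hk0 : ∀ l, k l = 0 → l ∈ ι.range := by
    intro l hl
    have h1 : Φ (cD l) = 1 := by
      apply hext₁ _ (hfixc l)
      rw [hk, hl, zero_smul, add_zero]
    obtain ⟨x, hx⟩ := hkerInn _ h1
    exact hcen l ⟨x, hx⟩
  have hkι : ∀ x : R, k (ι x) = 0 := by
    intro x
    have h1 := hk (ι x)
    rw [hΦι] at h1
    have h2 : k (ι x) • v₁ + (0 : ZMod p) • v₂ = 0 := by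
      rw [zero_smul, add_zero]
      have h3 : v₂ + 0 = v₂ + k (ι x) • v₁ := by rw [add_zero]; exact h1
      exact (add_left_cancel h3).symm
    exact (hind _ _ h2).1
  haveI hE₀n : (ι.range).Normal := ⟨by
    rintro _ ⟨x, rfl⟩ l
    exact ⟨c l x, (hc l x).symm⟩⟩
  have hyp : ∀ y : G, y ^ p ∈ ι.range := by
    intro y
    apply hk0
    rw [hkpow, ZMod.natCast_self, zero_mul]
  obtain ⟨l₀, hl₀⟩ := hTc t₀ ht₀
  have hkl₀ : k l₀ = 1 := by
    have h1 := hk l₀
    rw [← hl₀, ht₀e] at h1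
    have h2 : (k l₀ - 1) • v₁ + (0 : ZMod p) • v₂ = 0 := by
      rw [zero_smul, add_zero, sub_smul, one_smul]
      have h3 := add_left_cancel h1
      rw [← h3, sub_self]
    exact sub_eq_zero.mp (hind _ _ h2).1
  have hEtop : ι.range ≠ ⊤ := by
    intro h
    have h1 : l₀ ∈ ι.range := by rw [h]; trivial
    obtain ⟨x, rfl⟩ := h1
    rw [hkι] at hkl₀
    exact zero_ne_one hkl₀
  have hnatc : ∀ c : ZMod p, ((c.val : ℕ) : ZMod p) = c := fun c => by
    rw [ZMod.natCast_val, ZMod.cast_id', id]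
  -- the index
  have hidx : (ι.range).index = p := by
    let kh : G →* Multiplicative (ZMod p) :=
      { toFun := fun l => Multiplicative.ofAdd (k l)
        map_one' := by rw [hk1]; rfl
        map_mul' := fun x y => by rw [hkmul]; rfl }
    have hkhker : kh.ker = ι.range := by
      ext l
      constructor
      · intro h
        exact hk0 l (Multiplicative.ofAdd.injective h)
      · rintro ⟨x, rfl⟩
        show Multiplicative.ofAdd (k (ι x)) = 1
        rw [hkι]
        rfl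
    have hsurjk : Function.Surjective kh := by
      intro y
      refine ⟨l₀ ^ (Multiplicative.toAdd y).val, ?_⟩
      show Multiplicative.ofAdd (k (l₀ ^ (Multiplicative.toAdd y).val)) = y
      rw [hkpow, hkl₀, mul_one, hnatc]
      rfl
    rw [← hkhker, Subgroup.index_ker, MonoidHom.range_eq_top.mpr hsurjk, Subgroup.card_top]
    show Nat.card (ZMod p) = p
    exact Nat.card_zmod p
  -- the torus element
  obtain ⟨lam, hl0, hl2, hl3, hlhalf, hlfull⟩ := exists_root (p := p) h5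
  obtain ⟨d₀, hd1, hd2, hdT⟩ := hcart lam hl0
  obtain ⟨t₁, ht₁A, ht₁⟩ := hext d₀ hdT
  have hfinAG : Finite (MulAut G) := Finite.of_injective (fun α : MulAut G => (α : G → G)) DFunLike.coe_injective
  obtain ⟨j, m, hm, hjm⟩ := Nat.exists_eq_pow_mul_and_not_dvd (orderOf_pos t₁).ne' p hpp.ne_one
  have hmco : m.Coprime p := ((Nat.Prime.coprime_iff_not_dvd hpp).mpr hm).symm
  have hmpos : 0 < m := by
    rcases Nat.eq_zero_or_pos m with h0 | h0
    · rw [h0, mul_zero] at hjm
      exact absurd hjm (orderOf_pos _).ne'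
    · exact h0
  set t := t₁ ^ (p ^ j) with ht
  have htA : t ∈ A := A.pow_mem ht₁A _
  have hto : orderOf t = m := by
    rw [ht, orderOf_pow' _ (pow_ne_zero _ hpp.ne_zero), hjm, Nat.gcd_eq_right (Nat.dvd_mul_right _ _),
      Nat.mul_div_cancel_left _ (pow_pos hpp.pos j)]
  set d := d₀ ^ (p ^ j) with hd
  have htpow : ∀ (n : ℕ) (x : R), (t₁ ^ n) (ι x) = ι ((d₀ ^ n : D).1 x) := by
    intro n
    induction n with
    | zero => intro x; simp
    | succ n ih =>
      intro x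
      rw [pow_succ, MulAut.mul_apply, ht₁, ih, pow_succ]
      rfl
  have htι : ∀ x : R, t (ι x) = ι (d.1 x) := htpow _
  have hd₀pow1 : ∀ n : ℕ, Φ (d₀ ^ n) v₁ = lam ^ n • v₁ := by
    intro n
    induction n with
    | zero => simp
    | succ n ih =>
      rw [pow_succ, map_mul, LinearEquiv.mul_apply, hd1, map_smul, ih, smul_smul, pow_succ, mul_comm]
  have hd₀pow2 : ∀ n : ℕ, Φ (d₀ ^ n) v₂ = lam⁻¹ ^ n • v₂ := by
    intro n
    induction n with
    | zero => simp
    | succ n ih =>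
      rw [pow_succ, map_mul, LinearEquiv.mul_apply, hd2, map_smul, ih, smul_smul, pow_succ, mul_comm]
  have hdv1 : Φ d v₁ = lam • v₁ := by rw [hd, hd₀pow1, ZMod.pow_card_pow]
  have hdv2 : Φ d v₂ = lam⁻¹ • v₂ := by rw [hd, hd₀pow2, ZMod.pow_card_pow]
  have hdpow1 : ∀ n : ℕ, Φ (d ^ n) v₁ = lam ^ n • v₁ := by
    intro n
    induction n with
    | zero => simp
    | succ n ih =>
      rw [pow_succ, map_mul, LinearEquiv.mul_apply, hdv1, map_smul, ih, smul_smul, pow_succ, mul_comm]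
  have hdpow2 : ∀ n : ℕ, Φ (d ^ n) v₂ = lam⁻¹ ^ n • v₂ := by
    intro n
    induction n with
    | zero => simp
    | succ n ih =>
      rw [pow_succ, map_mul, LinearEquiv.mul_apply, hdv2, map_smul, ih, smul_smul, pow_succ, mul_comm]
  have htdpow : ∀ (n : ℕ) (x : R), (t ^ n) (ι x) = ι ((d ^ n : D).1 x) := by
    intro n
    induction n with
    | zero => intro x; simp
    | succ n ih =>
      intro x
      rw [pow_succ, MulAut.mul_apply, htι, ih, pow_succ]
      rfl
  -- equivariance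
  have hceq : ∀ (τ : MulAut G) (α : MulAut R), (∀ x, τ (ι x) = ι (α x)) → ∀ y, c (τ y) = α * c y * α⁻¹ := by
    intro τ α hτ y
    ext x
    apply hι
    rw [← hc]
    have e1 : ι x = τ (ι (α⁻¹ x)) := by
      rw [hτ]
      simp
    rw [e1, ← map_inv, ← map_mul, ← map_mul, hc, hτ]
    simp only [MulAut.mul_apply]
  -- `t ^ (p - 1) = 1`
  have htp : t ^ (p - 1) = 1 := by
    set β := t ^ (p - 1) with hβ
    set α : MulAut R := (d ^ (p - 1) : D).1 with hα
    have hβι : ∀ x, β (ι x) = ι (α x) := htdpow _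
    have hβo : (orderOf β).Coprime p := by
      have h1 : orderOf β ∣ orderOf t := orderOf_pow_dvd _
      rw [hto] at h1
      exact Nat.Coprime.coprime_dvd_left h1 hmco
    have hαo : (orderOf α).Coprime p := by
      have h1 : orderOf α ∣ orderOf β := by
        apply orderOf_dvd_of_pow_eq_one
        ext x
        apply hι
        have h2 : ∀ (n : ℕ) (x : R), (β ^ n) (ι x) = ι ((α ^ n) x) := by
          intro n
          induction n with
          | zero => intro x; simp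
          | succ n ih =>
            intro x
            rw [pow_succ, MulAut.mul_apply, hβι, ih, pow_succ]
            rfl
        rw [← h2, pow_orderOf_eq_one]
        rfl
      exact Nat.Coprime.coprime_dvd_left h1 hβo
    have hα1 : α = 1 := by
      apply hfix₀ α hαo
      show Φ (d ^ (p - 1)) = 1
      apply hext₁
      · rw [hdpow1, hlfull, one_smul]
      · rw [hdpow2, inv_pow, hlfull, inv_one, one_smul]
    have hβfix : ∀ x, β (ι x) = ι x := fun x => by rw [hβι, hα1]; rfl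
    have hβc : ∀ y, c (β y) = c y := fun y => by
      rw [hceq β α hβι, hα1]
      simp
    have hβE : ∀ y, y⁻¹ * β y ∈ ι.range := by
      intro y
      apply hcen
      refine ⟨1, ?_⟩
      rw [map_mul, map_inv, hβc, inv_mul_cancel, map_one]
    ext y
    have h1 : β (y⁻¹ * β y) = y⁻¹ * β y := by
      obtain ⟨x, hx⟩ := hβE y
      rw [← hx, hβfix]
    exact Cfsg.Agent.Lib.OmegaAut.fixed_of_comm_fixed hG β hβo y h1
  -- the action of `t`
  have htE : ∀ e ∈ ι.range, t e ∈ ι.range := by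
    rintro _ ⟨x, rfl⟩
    exact ⟨d.1 x, (htι x).symm⟩
  have hdinv2 : Φ d⁻¹ v₂ = lam • v₂ := by
    have h1 : Φ d⁻¹ (Φ d v₂) = v₂ := by
      rw [← LinearEquiv.mul_apply, ← map_mul, inv_mul_cancel, map_one]
      rfl
    rw [hdv2, map_smul] at h1
    calc Φ d⁻¹ v₂ = (lam * lam⁻¹) • Φ d⁻¹ v₂ := by rw [mul_inv_cancel₀ hl0, one_smul]
      _ = lam • v₂ := by rw [mul_smul, h1]
  have hkt : ∀ y, k (t y) = lam ^ 2 * k y := by
    intro y
    have h1 : cD (t y) = d * cD y * d⁻¹ := Subtype.ext (hceq t d.1 htι y)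
    have h2 := hk (t y)
    rw [h1, map_mul, map_mul, LinearEquiv.mul_apply, LinearEquiv.mul_apply, hdinv2, map_smul, hk y, map_smul, map_add,
      map_smul, hdv2, hdv1, smul_add, smul_smul, smul_smul, smul_smul, mul_inv_cancel₀ hl0, one_smul] at h2
    have h3 := add_left_cancel h2
    have h4 : (lam * k y * lam - k (t y)) • v₁ + (0 : ZMod p) • v₂ = 0 := by
      rw [zero_smul, add_zero, sub_smul, h3, sub_self]
    have h5 := sub_eq_zero.mp (hind _ _ h4).1
    rw [← h5]
    ring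
  -- the numbers
  have hlinv : lam⁻¹ ≠ 0 := inv_ne_zero hl0
  set a := lam.val with ha
  set b := (lam⁻¹).val with hb
  set μ := (lam ^ 2).val with hμd
  have hacast : (a : ZMod p) = lam := hnatc lam
  have hbcast : (b : ZMod p) = lam⁻¹ := hnatc _
  have hμcast : (μ : ZMod p) = lam ^ 2 := hnatc _
  have hab : a * b ≡ 1 [MOD p] := by
    rw [← ZMod.natCast_eq_natCast_iff]
    push_cast
    rw [hacast, hbcast, mul_inv_cancel₀ hl0]
  have hμa : μ ≡ a ^ 2 [MOD p] := by
    rw [← ZMod.natCast_eq_natCast_iff]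
    push_cast
    rw [hμcast, hacast]
  have ha2 : ¬ a ^ 2 ≡ 1 [MOD p] := by
    rw [← ZMod.natCast_eq_natCast_iff]
    push_cast
    rw [hacast]
    exact hl2
  have ha3 : ¬ a ^ 3 ≡ 1 [MOD p] := by
    rw [← ZMod.natCast_eq_natCast_iff]
    push_cast
    rw [hacast]
    exact hl3
  have hb2 : ¬ b ^ 2 ≡ 1 [MOD p] := by
    rw [← ZMod.natCast_eq_natCast_iff]
    push_cast
    rw [hbcast]
    intro h
    apply hl2
    rw [inv_pow, inv_eq_one] at h
    exact h
  have hμ : ∀ y, (y ^ μ)⁻¹ * t y ∈ ι.range := by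
    intro y
    apply hk0
    rw [hkmul, hkinv, hkpow, hkt, hμcast]
    ring
  have hodd := hpp.odd_of_ne_two hp2
  have hhalf : 2 * ((p - 1) / 2) = p - 1 := by
    obtain ⟨k, hk⟩ := hodd
    omega
  have hlinvhalf : lam⁻¹ ^ ((p - 1) / 2) = -1 := by
    rw [inv_pow, hlhalf]
    norm_num
  have hδ : ∀ w : V, Φ (d ^ ((p - 1) / 2)) w = - w := by
    intro w
    obtain ⟨x, y, rfl⟩ := hspanV w
    rw [map_add, map_smul, map_smul, hdpow1, hdpow2, hlhalf, hlinvhalf, neg_smul, neg_smul, one_smul, one_smul, smul_neg,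
      smul_neg, neg_add]
  -- the embedding
  have hΦD : ∀ (δ : D) (x : X), Φ δ (ab x) = ab (res δ.1 x) := fun δ x => hρ _ _
  let jX : X →* G := ι.comp X.subtype
  have hjinj : Function.Injective jX := hι.comp Subtype.val_injective
  have hact : ∀ (l : G) (x : X), l * jX x * l⁻¹ = jX (res (c l) x) := fun l x => hc l x
  have htact : ∀ (n : ℕ) (x : X), (t ^ n) (jX x) = jX (res ((d ^ n : D) : MulAut R) x) := fun n x => htdpow n x
  have htact1 : ∀ (x : X), t (jX x) = jX (res d.1 x) := fun x => htι x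
  obtain ⟨u₁, hu₁⟩ := hsurj v₁
  obtain ⟨v₃, hv₃⟩ := hsurj v₂
  have hli' : LinearIndependent (ZMod p) ![ab u₁, ab v₃] := by rw [hu₁, hv₃]; exact hli
  obtain ⟨hspan₀, hind₀⟩ := coords ab hmul hker hfin hli'
  have hX₀E : X.map ι ≤ ι.range := Subgroup.map_le_range _ _
  have hX₀exp : ∀ x ∈ X.map ι, x ^ p = 1 := by
    rintro _ ⟨x, hx, rfl⟩
    rw [← map_pow, hXexp x hx, map_one]
  have huX₀ : jX u₁ ∈ X.map ι := ⟨u₁, u₁.2, rfl⟩
  have hvX₀ : jX v₃ ∈ X.map ι := ⟨v₃, v₃.2, rfl⟩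
  by_cases hab' : ∀ a ∈ X, ∀ b ∈ X, a * b = b * a
  swap
  · -- the non-abelian case
    exfalso
    have hcX : Nat.card X ≤ p ^ 3 := by
      rcases hcase with ⟨h, _⟩ | ⟨_, h⟩
      · exact absurd h hab'
      · exact h
    have hna : ∃ x y : X, x * y ≠ y * x := by
      by_contra hall
      push Not at hall
      exact hab' (fun a ha b hb => congrArg Subtype.val (hall ⟨a, ha⟩ ⟨b, hb⟩))
    have hcX3 : Nat.card X = p ^ 3 := card_of_nonabelian (hR.to_subgroup X) hcX hna
    obtain ⟨hZ1, -, -⟩ := comm_facts (hR.to_subgroup X) hexpY hcX3 hna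
    set Z₀ : Subgroup G := (commutator X).map jX with hZ₀
    have hZ₀ab : ∀ x : X, jX x ∈ Z₀ ↔ ab x = 0 := by
      intro x
      rw [hker]
      constructor
      · rintro ⟨z, hz, hzx⟩
        rw [← hjinj hzx]
        exact hz
      · intro h
        exact ⟨x, h, rfl⟩
    haveI hZ₀n : Z₀.Normal := ⟨by
      rintro _ ⟨z, hz, rfl⟩ l
      rw [hact, hZ₀ab, ← hΦ, (hker z).mpr hz, map_zero]⟩
    have hZcard : Nat.card Z₀ = p := by
      rw [hZ₀, Subgroup.card_map_of_injective hjinj]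
      exact hZ1
    have hZc := central_of_normal_card_prime hG Z₀ hZcard
    have hcomZ : ∀ (δ : D) (x : X), Φ δ (ab x) = ab x → jX (res δ.1 x) * (jX x)⁻¹ ∈ Z₀ := by
      intro δ x h
      rw [← map_inv, ← map_mul, hZ₀ab, hmul, abinv, ← hΦD, h, add_neg_cancel]
    refine RankTwoResA.false_of_nonabelian h5 hG hr (E := ι.range) (X := X.map ι) (Z := Z₀) hX₀E hEtop hX₀exp ?_ hZc
      hZcard huX₀ hvX₀ ?_ ?_ ?_ ?_ ?_ hyp t htp htE ?_ ?_ hab hμ hμa ha2 ha3 ?_
    · rintro _ ⟨z, -, rfl⟩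
      exact ⟨z, z.2, rfl⟩
    · rintro _ ⟨x, hx, rfl⟩
      obtain ⟨i, j, z, hz, hxe⟩ := hspan₀ ⟨x, hx⟩
      refine ⟨i, j, jX z, ⟨z, hz, rfl⟩, ?_⟩
      have := congrArg jX hxe
      show jX ⟨x, hx⟩ = _
      simpa only [map_mul, map_pow] using this
    · intro i j h
      apply hind₀
      rw [← map_pow, ← map_pow, ← map_mul, hZ₀ab] at h
      exact (hker _).mp h
    · obtain ⟨x, y, hxy⟩ := hna
      refine ⟨jX x, ⟨x, x.2, rfl⟩, jX y, ⟨y, y.2, rfl⟩, fun h => hxy (hjinj ?_)⟩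
      rwa [map_mul, map_mul]
    · rintro _ ⟨e, rfl⟩ _ ⟨x, hx, rfl⟩
      have e1 : ι e * ι x * (ι e)⁻¹ = jX (res (c (ι e)) ⟨x, hx⟩) := hact _ ⟨x, hx⟩
      rw [e1]
      exact hcomZ (cD (ι e)) ⟨x, hx⟩ (by rw [hΦι]; rfl)
    · intro y
      rw [hact]
      exact hcomZ (cD y) u₁ (by rw [hu₁]; exact hfixc y)
    · rw [htact1, ← map_pow, ← map_inv, ← map_mul, hZ₀ab, hmul, abinv, abpow, ← hΦD, hu₁, hdv1, hacast, add_neg_cancel]
    · rw [htact1, ← map_pow, ← map_inv, ← map_mul, hZ₀ab, hmul, abinv, abpow, ← hΦD, hv₃, hdv2, hbcast, add_neg_cancel]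
    · rintro _ ⟨x, hx, rfl⟩
      have e := htact ((p - 1) / 2) ⟨x, hx⟩
      have e2 : (t ^ ((p - 1) / 2)) (ι x) * ι x = jX (res ((d ^ ((p - 1) / 2) : D) : MulAut R) ⟨x, hx⟩ * ⟨x, hx⟩) := by
        rw [map_mul, ← e]
        rfl
      rw [e2, hZ₀ab, hmul]
      have e3 := hΦD (d ^ ((p - 1) / 2)) ⟨x, hx⟩
      rw [hδ] at e3
      rw [← e3, neg_add_cancel]
  -- the abelian case
  have hcb : commutator X = ⊥ := by
    rw [eq_bot_iff, _root_.commutator_def, Subgroup.commutator_le]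
    rintro a - b -
    rw [commutatorElement_eq_one_iff_mul_comm.mpr (Subtype.ext (hab' a a.2 b b.2))]
    exact Subgroup.one_mem _
  have hab0 : ∀ x : X, ab x = 0 → x = 1 := by
    intro x hx
    have := (hker x).mp hx
    rw [hcb] at this
    exact this
  have habinj : ∀ x y : X, ab x = ab y → x = y := by
    intro x y hxy
    have := hab0 (x * y⁻¹) (by rw [hmul, abinv, hxy, add_neg_cancel])
    exact mul_inv_eq_one.mp this
  have hspan₁ : ∀ x ∈ X.map ι, ∃ i j : ℕ, x = jX u₁ ^ i * jX v₃ ^ j := by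
    rintro _ ⟨x, hx, rfl⟩
    obtain ⟨i, j, z, hz, hxe⟩ := hspan₀ ⟨x, hx⟩
    rw [hcb, Subgroup.mem_bot] at hz
    rw [hz, mul_one] at hxe
    refine ⟨i, j, ?_⟩
    have := congrArg jX hxe
    show jX ⟨x, hx⟩ = _
    simpa only [map_mul, map_pow] using this
  have hind₁ : ∀ i j : ℕ, jX u₁ ^ i * jX v₃ ^ j = 1 → p ∣ i ∧ p ∣ j := by
    intro i j h
    apply hind₀
    rw [← map_pow, ← map_pow, ← map_mul] at h
    rw [hjinj (h.trans (map_one jX).symm)]
    exact Subgroup.one_mem _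
  have hEact₁ : ∀ e ∈ ι.range, ∀ x ∈ X.map ι, e * x * e⁻¹ = x := by
    rintro _ ⟨e, rfl⟩ _ ⟨x, hx, rfl⟩
    have e1 : ι e * ι x * (ι e)⁻¹ = jX (res (c (ι e)) ⟨x, hx⟩) := hact _ ⟨x, hx⟩
    rw [e1]
    have e2 : res (c (ι e)) ⟨x, hx⟩ = ⟨x, hx⟩ := by
      apply habinj
      rw [← hΦ]
      have := hΦι e
      exact congrArg (fun f : V ≃ₗ[ZMod p] V => f (ab ⟨x, hx⟩)) this
    rw [e2]
    rfl
  have hyu₁ : ∀ y : G, y * jX u₁ * y⁻¹ = jX u₁ := by
    intro y
    rw [hact]
    congr 1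
    apply habinj
    rw [← hΦ, hu₁]
    exact hfixc y
  have hyv₀ : ∀ y : G, y * jX v₃ * y⁻¹ = jX u₁ ^ (k y).val * jX v₃ := by
    intro y
    rw [hact, ← map_pow, ← map_mul]
    congr 1
    apply habinj
    rw [← hΦ, hv₃, hmul, abpow, hu₁, hnatc, hv₃, add_comm]
    exact hk y
  have hyv₁ : ∀ y, y ∉ ι.range → ∃ k' : ℕ, ¬ p ∣ k' ∧ y * jX v₃ * y⁻¹ = jX u₁ ^ k' * jX v₃ := by
    intro y hy
    refine ⟨(k y).val, ?_, hyv₀ y⟩
    intro h
    apply hy
    apply hk0
    rw [← hnatc (k y)]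
    exact (ZMod.natCast_eq_zero_iff _ _).mpr h
  have hσ₁ : ∀ x ∈ X.map ι, (t ^ ((p - 1) / 2)) x * x = 1 := by
    rintro _ ⟨x, hx, rfl⟩
    have e := htact ((p - 1) / 2) ⟨x, hx⟩
    have e2 : (t ^ ((p - 1) / 2)) (ι x) * ι x = jX (res ((d ^ ((p - 1) / 2) : D) : MulAut R) ⟨x, hx⟩ * ⟨x, hx⟩) := by
      rw [map_mul, ← e]
      rfl
    rw [e2]
    have e3 := hΦD (d ^ ((p - 1) / 2)) ⟨x, hx⟩
    rw [hδ] at e3
    have e4 : res ((d ^ ((p - 1) / 2) : D) : MulAut R) ⟨x, hx⟩ * ⟨x, hx⟩ = 1 :=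
      hab0 _ (by rw [hmul, ← e3, neg_add_cancel])
    rw [e4, map_one]
  have hg₀u : res g₀.1 u₁ = v₃ := by
    apply habinj
    rw [← hΦD, hu₁, hg₁, hv₃]
  have hw : ∀ w₀ ∈ ι.range, ∀ i : ℕ, w₀ ^ p = jX u₁ ^ i → ∃ w ∈ ι.range, w ^ p = jX v₃ ^ i := by
    rintro _ ⟨e, rfl⟩ i he
    have he' : e ^ p = ((u₁ ^ i : X) : R) := hι (by rw [map_pow]; exact he.trans (map_pow jX u₁ i).symm)
    refine ⟨ι (g₀.1 e), ⟨_, rfl⟩, ?_⟩
    have e1 : g₀.1 (e ^ p) = ((v₃ ^ i : X) : R) := by
      rw [he', ← hg₀u, ← map_pow]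
      rfl
    rw [← map_pow, ← map_pow, e1, ← map_pow]
    rfl
  obtain ⟨hEX, y, hyE, hypy⟩ := RankTwoResA.eq_of_abelian h5 hG hr hX₀E hEtop hX₀exp huX₀ hvX₀ hspan₁ hind₁ hEact₁ hyu₁
    hyv₁ hyp t htp htE hab hμ hμa hσ₁ hw
  have hexpG : ∀ n : G, n ^ p = 1 := fun n =>
    RankTwoResA.exp_of_abelian hp2 hidx (hX₀E huX₀) (by rw [hEX]; exact hX₀exp) (by rw [hEX]; exact hspan₁)
      (by
        intro e he x hx
        rw [hEX] at hx
        exact hEact₁ e he x hx)
      hyu₁ (fun y => ⟨_, hyv₀ y⟩) hyE hypy n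
  have hcardG : Nat.card G = p ^ 3 := by
    have h1 := Subgroup.index_mul_card ι.range
    have h2 : Nat.card ι.range = p ^ 2 := by
      rw [hEX, Subgroup.card_map_of_injective hι]
      rw [hcardV, hcb, Subgroup.index_bot] at hcardV2
      exact hcardV2
    rw [hidx, h2] at h1
    rw [← h1]
    ring
  obtain ⟨k', hk'p, hk'e⟩ := hyv₁ y hyE
  have hk'1 : jX u₁ ^ k' ≠ 1 := by
    intro h
    have := hind₁ k' 0 (by rw [pow_zero, mul_one]; exact h)
    exact hk'p this.1
  have hna' : ∃ x y : G, x * y ≠ y * x := by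
    refine ⟨y, jX v₃, fun h => hk'1 ?_⟩
    have e1 : y * jX v₃ * y⁻¹ = jX v₃ := by rw [h]; group
    rw [hk'e] at e1
    exact mul_eq_right.mp e1
  obtain ⟨hZ1, -, -⟩ := comm_facts hG hexpG hcardG hna'
  have hwc : jX u₁ ^ k' ∈ commutator G := by
    have e1 : jX u₁ ^ k' = ⁅y, jX v₃⁆ := by
      rw [commutatorElement_def, hk'e]
      group
    rw [e1]
    exact Subgroup.commutator_mem_commutator (Subgroup.mem_top _) (Subgroup.mem_top _)
  have huc : jX u₁ ∈ commutator G := by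
    have hco : ((k' : ZMod p)) ≠ 0 := fun h => hk'p ((ZMod.natCast_eq_zero_iff _ _).mp h)
    have e1 : k' * ((k' : ZMod p)⁻¹).val ≡ 1 [MOD p] := by
      rw [← ZMod.natCast_eq_natCast_iff]
      push_cast
      rw [hnatc, mul_inv_cancel₀ hco]
    have e2 : jX u₁ = (jX u₁ ^ k') ^ ((k' : ZMod p)⁻¹).val := by
      rw [← pow_mul, pow_congr_modEq (hexpG _) e1, pow_one]
    rw [e2]
    exact Subgroup.pow_mem _ hwc _
  have hcomu : ∀ c' ∈ commutator G, ∃ m : ℕ, c' = jX u₁ ^ m := by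
    intro c' hc'
    have h1 : orderOf (jX u₁ ^ k') = p := orderOf_eq_prime (hexpG _) hk'1
    have h2 : Subgroup.zpowers (jX u₁ ^ k') = commutator G := by
      apply Subgroup.eq_of_le_of_card_ge
      · rw [Subgroup.zpowers_le]
        exact hwc
      · rw [hZ1, Nat.card_zpowers, h1]
    rw [← h2, ← mem_powers_iff_mem_zpowers] at hc'
    obtain ⟨m, hm⟩ := hc'
    exact ⟨k' * m, by rw [← hm]; simp only [pow_mul]⟩
  have hvnot : jX v₃ ∉ commutator G := by
    intro h
    obtain ⟨m, hm⟩ := hcomu _ h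
    have e1 : jX u₁ ^ m * jX v₃ ^ (p - 1) = 1 := by
      rw [← hm, ← pow_succ', Nat.sub_add_cancel hpp.one_le, hexpG]
    have h2 := (hind₁ _ _ e1).2
    have h3 := Nat.le_of_dvd (by omega) h2
    omega
  refine ⟨t, htA, jX u₁, jX v₃, b, hcardG, hexpG, hna', hX₀E huX₀, hX₀E hvX₀, ?_, huc, hcomu, hvnot, ?_, hb2⟩
  · rw [hEX]
    exact hspan₁
  · rw [htact1, ← map_pow]
    congr 1
    apply habinj
    rw [← hΦD, hv₃, hdv2, abpow, hbcast, hv₃]

end Cfsg.Agent.Lib.RankTwoResC
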