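import Mathlib
import Cfsg.Agent.Lib.RankTwoResB
import Cfsg.Agent.Lib.RankTwoResC

/-!
# The final contradiction for rank two `p`-groups, `p ≥ 5`

Let `N` be a normal self-centralizing non-abelian subgroup of order `p³` and exponent `p` of the rank two `p`-group `G`,
`N ≠ G`. The automizer of `G` on `N` cannot be a Sylow subgroup of a group of automorphisms of `N` whose normalizing
elements extend to `G` and which contains an automorphism acting on an element outside `Ω`-line by a scalar `b`,
`b² ≠ 1`.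
-/

set_option autoImplicit false

namespace Cfsg.Agent.Lib.RankTwoResD

open Cfsg Cfsg.Agent.Lib.RankTwoResBasic Cfsg.Agent.Lib.PlaneRep
open scoped commutatorElement

universe u v

variable {G : Type u} [Group G] [Finite G] {p : ℕ} [hp : Fact p.Prime]

theorem no_normal (h5 : 5 ≤ p) (hG : IsPGroup p G) (hr : PRankLE p 2 G) {N : Subgroup G} [hN : N.Normal]
    (hNcard : Nat.card N = p ^ 3) (hNexp : ∀ n ∈ N, n ^ p = 1) (hNna : ∃ x ∈ N, ∃ y ∈ N, x * y ≠ y * x)
    (hcent : ∀ g : G, (∀ n ∈ N, g * n = n * g) → g ∈ N) (hNtop : N ≠ ⊤)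
    {D : Type v} [Group D] [Finite D] (π : D →* MulAut N) (hπ : Function.Injective π) (T : Sylow p D)
    (hTl : ∀ l : G, ∃ s ∈ (T : Subgroup D), π s = MulAut.conjNormal l)
    (hext : ∀ d : D, (∀ s ∈ (T : Subgroup D), d * s * d⁻¹ ∈ (T : Subgroup D)) →
      ∃ θ : MulAut G, ∀ x : N, θ x = (π d x : N))
    (t : D) {v : N} {b : ℕ} (htv : π t v = v ^ b) (hb : ¬ b ^ 2 ≡ 1 [MOD p])
    (hout : ∀ a : G, a ∉ N → MulAut.conjNormal a v * v⁻¹ ∉ commutator N) : False := by
  classical
  have hpp := hp.out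
  have hNexp' : ∀ x : N, x ^ p = 1 := fun x => Subtype.ext (hNexp x x.2)
  obtain ⟨V, _, _, ab, ρ, hmul, hsurj, hker, hρ, hcardV⟩ := exists_plane (p := p) N hNexp'
  have hfinV : Finite V := Finite.of_surjective ab hsurj
  obtain ⟨hΩ, v₁, hv₁0, hfix, hfixa, hkey⟩ :=
    Cfsg.Agent.Lib.RankTwoResB.main h5 hG hr hNcard hNexp hNna hcent hNtop ab ρ hmul hsurj hker hρ hcardV
  have hc : N.Characteristic := by
    rw [Subgroup.characteristic_iff_le_comap]
    intro θ x hx
    apply hΩ
    rw [← map_pow, hNexp x hx, map_one]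
  obtain ⟨a, ha⟩ : ∃ a, a ∉ N := by
    by_contra h
    push Not at h
    exact hNtop (eq_top_iff.mpr fun x _ => h x)
  have ab1 : ab 1 = 0 := by
    have := hmul 1 1
    rw [mul_one] at this
    have h2 : ab 1 + 0 = ab 1 + ab 1 := by rw [add_zero]; exact this
    exact (add_left_cancel h2).symm
  have abinv : ∀ x, ab x⁻¹ = - ab x := by
    intro x
    have := hmul x⁻¹ x
    rw [inv_mul_cancel, ab1] at this
    exact eq_neg_of_add_eq_zero_left this.symm
  have abpow : ∀ (x : N) (n : ℕ), ab (x ^ n) = (n : ZMod p) • ab x := by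
    intro x n
    induction n with
    | zero => simp [ab1]
    | succ n ih =>
      rw [pow_succ, hmul, ih, Nat.cast_succ, add_smul, one_smul]
  have hres : ∀ (d : D) (θ : MulAut G), (∀ x : N, θ x = π d x) →
      Cfsg.Agent.Lib.RankTwoRep.resAut N hc θ = π d := by
    intro d θ h
    ext x
    exact h x
  by_cases hTn : (T : Subgroup D).Normal
  · obtain ⟨θ, hθ⟩ := hext t (fun s hs => hTn.conj_mem s hs t)
    have hx : ab v ∉ Submodule.span (ZMod p) {v₁} := by
      intro hmem
      have h1 : ρ (MulAut.conjNormal a) (ab v) = ab v := by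
        obtain ⟨κ, hκ⟩ := Submodule.mem_span_singleton.mp hmem
        rw [← hκ, map_smul, hfix]
      apply hout a ha
      rw [← hker, hmul, abinv, ← hρ, h1, add_neg_cancel]
    have h2 := hkey hc θ (ab v) hx (b : ZMod p) (by
      rw [hres t θ hθ, hρ, htv, abpow, sub_self]
      exact Submodule.zero_mem _)
    apply hb
    rw [← ZMod.natCast_eq_natCast_iff]
    push_cast
    exact h2
  · obtain ⟨hZ1, hZc, hZidx⟩ := comm_facts (hG.to_subgroup N) hNexp' hNcard (by
      obtain ⟨x, hx, y, hy, hxy⟩ := hNna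
      exact ⟨⟨x, hx⟩, ⟨y, hy⟩, fun h => hxy (congrArg Subtype.val h)⟩)
    have hcardV2 : Nat.card V = p ^ 2 := by rw [hcardV, hZidx]
    have hfin : Module.finrank (ZMod p) V = 2 := Cfsg.Agent.Lib.FusionSL2.finrank_two_of_card hcardV2
    let Φ : D →* (V ≃ₗ[ZMod p] V) := ρ.comp π
    have hK : ∀ d : D, Φ d = 1 → ∃ n : ℕ, d ^ (p ^ n) = 1 := by
      intro d hd
      obtain ⟨j, m, hm, hjm⟩ := Nat.exists_eq_pow_mul_and_not_dvd (orderOf_pos d).ne' p hpp.ne_one
      have hmco : m.Coprime p := ((Nat.Prime.coprime_iff_not_dvd hpp).mpr hm).symm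
      refine ⟨j, ?_⟩
      set β := d ^ (p ^ j) with hβ
      have hβo : orderOf β = m := by
        rw [hβ, orderOf_pow' _ (pow_ne_zero _ hpp.ne_zero), hjm, Nat.gcd_eq_right (Nat.dvd_mul_right _ _),
          Nat.mul_div_cancel_left _ (pow_pos hpp.pos j)]
      have hco : (orderOf (π β)).Coprime p := by
        have h1 : orderOf (π β) ∣ orderOf β := orderOf_map_dvd π β
        rw [hβo] at h1
        exact Nat.Coprime.coprime_dvd_left h1 hmco
      have hβ1 : Φ β = 1 := by rw [hβ, map_pow, hd, one_pow]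
      have h1 : π β = 1 := by
        ext x
        have h2 := fixed_of_section (hG.to_subgroup N) (⊤ : Subgroup N)
          (by
            intro z hz
            rw [Subgroup.mem_centralizer_iff]
            intro w _
            exact (hZc z hz w).symm)
          (π β) hco (fun y _ => by
            show y⁻¹ * π β y ∈ commutator N
            rw [← hker, hmul, abinv, ← hρ]
            have h3 : ρ (π β) (ab y) = ab y := by
              have := congrArg (fun f : V ≃ₗ[ZMod p] V => f (ab y)) hβ1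
              exact this
            rw [h3, neg_add_cancel]) x (Subgroup.mem_top x)
        rw [h2]
        rfl
      exact hπ (h1.trans (map_one π).symm)
    obtain ⟨w₁, w₂, hli, hT1, hT2, hTmem, -, -, hcart⟩ :=
      Cfsg.Agent.Lib.FusionCartan.exists_cartan hfin Φ hK T hTn
    have hind : ∀ α β : ZMod p, α • w₁ + β • w₂ = 0 → α = 0 ∧ β = 0 :=
      fun α β h => LinearIndependent.pair_iff.mp hli α β h
    have h20 : (2 : ZMod p) ≠ 0 := by
      have : ((2 : ℕ) : ZMod p) ≠ 0 := by
        rw [Ne, ZMod.natCast_eq_zero_iff]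
        intro h
        have := Nat.le_of_dvd (by norm_num) h
        omega
      simpa using this
    obtain ⟨d, hd1, hd2, hdT⟩ := hcart 2 h20
    obtain ⟨θ, hθ⟩ := hext d hdT
    obtain ⟨s, hs, hsa⟩ := hTl a
    have hw₁fix : ρ (MulAut.conjNormal a) w₁ = w₁ := by
      rw [← hsa]
      exact hT1 s hs
    obtain ⟨κ, hκ⟩ := Submodule.mem_span_singleton.mp (hfixa a ha w₁ hw₁fix)
    have hκ0 : κ ≠ 0 := by
      rintro rfl
      rw [zero_smul] at hκ
      have := (hind 1 0 (by rw [← hκ]; simp)).1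
      exact one_ne_zero this
    have hx : w₂ ∉ Submodule.span (ZMod p) {v₁} := by
      intro hmem
      obtain ⟨κ', hκ'⟩ := Submodule.mem_span_singleton.mp hmem
      have h3 : (κ' * κ⁻¹) • w₁ + (-1 : ZMod p) • w₂ = 0 := by
        rw [← hκ, ← hκ', smul_smul, mul_assoc, inv_mul_cancel₀ hκ0, mul_one, neg_one_smul]
        exact add_neg_cancel _
      have := (hind _ _ h3).2
      exact one_ne_zero (neg_eq_zero.mp this)
    have h2 := hkey hc θ w₂ hx (2⁻¹) (by
      rw [hres d θ hθ]
      have h4 : ρ (π d) w₂ = (2 : ZMod p)⁻¹ • w₂ := hd2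
      rw [h4, sub_self]
      exact Submodule.zero_mem _)
    have h3 : (4 : ZMod p) = 1 := by
      have h5' : ((2 : ZMod p)⁻¹) ^ 2 * 4 = 1 := by
        field_simp
        norm_num
      rw [h2, one_mul] at h5'
      exact h5'
    have h4 : ((3 : ℕ) : ZMod p) = 0 := by
      push_cast
      linear_combination h3
    rw [ZMod.natCast_eq_zero_iff] at h4
    have := Nat.le_of_dvd (by norm_num) h4
    omega

end Cfsg.Agent.Lib.RankTwoResD
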