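import Mathlib
import Cfsg.Agent.Lib.RankTwoResC
import Cfsg.Agent.Lib.FusionCore3

/-!
# The normalizer of an essential subgroup of a saturated system over a `p`-group of rank two, `p ≥ 5`
-/

set_option autoImplicit false

namespace Cfsg.Agent.Lib.RankTwoResE

open Cfsg Cfsg.FusionSystem Cfsg.Agent.Lib.FusionCore Cfsg.Agent.Lib.FusionCore2
open scoped commutatorElement

universe u

variable {Ω : Type u} [Group Ω] {S : Subgroup Ω} [Finite S] {F : FusionSystem S} {p : ℕ} [hp : Fact p.Prime]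

/-- Automorphisms of `P` normalizing `Aut_S(P)` extend to `N_S(P)`. -/
theorem normalizerIn_le_Nf {P : Subgroup Ω} (hPS : P ≤ S) (T : Subgroup (F.autGroup P))
    (hT : T = (autInducedBy S P).subgroupOf (F.autGroup P)) (d : F.autGroup P)
    (hd : ∀ s ∈ T, d * s * d⁻¹ ∈ T) : normalizerIn S P ≤ Nf S P (afn d.1) := by
  intro l hl
  rw [mem_Nf]
  refine ⟨hl.1, hl.2, ?_⟩
  have hc : conjN S P ⟨l, hl⟩ ∈ F.autGroup P :=
    autInducedBy_le_autGroup hPS (by rw [← conjN_range]; exact ⟨_, rfl⟩)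
  have h1 := hd ⟨conjN S P ⟨l, hl⟩, hc⟩ (by
    rw [hT, Subgroup.mem_subgroupOf, ← conjN_range]
    exact ⟨_, rfl⟩)
  rw [hT, Subgroup.mem_subgroupOf, ← conjN_range] at h1
  obtain ⟨h, hh⟩ := h1
  refine ⟨h, h.2.1, fun x hx => ?_⟩
  have e1 := afn_conjN (K := S) h (afn_mem d.1 hx)
  rw [← e1, hh]
  have hxl : (⟨l, hl⟩ : normalizerIn S P).1 * x * ((⟨l, hl⟩ : normalizerIn S P).1)⁻¹ ∈ P :=
    (Subgroup.mem_normalizer_iff.1 hl.2 x).1 hx
  show afn d.1 (l * x * l⁻¹) = afn ((d.1 * conjN S P ⟨l, hl⟩) * d.1⁻¹) (afn d.1 x)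
  rw [afn_mul _ _ (afn_mem d.1 hx), afn_inv_afn d.1 hx, afn_mul _ _ hx, afn_conjN _ hx]

theorem essential_normalizer (h5 : 5 ≤ p) (hS : IsPGroup p S) (hF : F.IsSaturated p)
    (hr : ∀ A : Subgroup Ω, A ≤ S → IsElementaryAbelian p A → Nat.card A ≤ p ^ 2)
    {E : Subgroup Ω} (hE : F.IsEssential p E) (hES : E < S) :
    ∃ t ∈ F.autGroup (normalizerIn S E), ∃ (u v : normalizerIn S E) (b : ℕ),
      Nat.card (normalizerIn S E) = p ^ 3 ∧ (∀ n : normalizerIn S E, n ^ p = 1) ∧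
      (∃ x y : normalizerIn S E, x * y ≠ y * x) ∧
      (u : Ω) ∈ E ∧ (v : Ω) ∈ E ∧ (∀ x ∈ E, ∃ i j : ℕ, x = (u : Ω) ^ i * (v : Ω) ^ j) ∧
      u ∈ commutator (normalizerIn S E) ∧ (∀ c' ∈ commutator (normalizerIn S E), ∃ m : ℕ, c' = u ^ m) ∧
      v ∉ commutator (normalizerIn S E) ∧ t v = v ^ b ∧ ¬ b ^ 2 ≡ 1 [MOD p] := by
  classical
  have hpp := hp.out
  obtain ⟨hcen, hfn, -⟩ := id hE
  have hESle : E ≤ S := hES.le
  obtain ⟨hfc, hfa⟩ := of_fullyNormalized hS hF hfn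
  have hR := receptive_of_fullyCentralized hS hF hfc
  have hRad := radical_of_essential hS hE
  have hfinE : Finite E := finite_of_le hESle
  have hlt : E < normalizerIn S E := lt_normalizerIn' hS le_rfl hES
  have hNS : normalizerIn S E ≤ S := inf_le_left
  haveI hfinN : Finite (normalizerIn S E) := finite_of_le hNS
  haveI hfinAE : Finite (MulAut E) := finite_mulAut hESle
  let ι : E →* normalizerIn S E := Subgroup.inclusion hlt.le
  have hι : Function.Injective ι := Subgroup.inclusion_injective _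
  let c : normalizerIn S E →* MulAut E := conjN S E
  have hcx : ∀ (l : normalizerIn S E) (x : E), ((c l x : E) : Ω) = l * x * (l : Ω)⁻¹ := by
    intro l x
    rw [← afn_coe]
    exact afn_conjN l x.2
  have hc : ∀ l x, l * ι x * l⁻¹ = ι (c l x) := by
    intro l x
    apply Subtype.ext
    exact (hcx l x).symm
  have hcD : ∀ l, c l ∈ F.autGroup E := fun l =>
    autInducedBy_le_autGroup hESle (by rw [← conjN_range]; exact ⟨l, rfl⟩)
  obtain ⟨-, T, hT⟩ := hfa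
  have hT0 : (T : Subgroup (F.autGroup E)) = c.range.subgroupOf (F.autGroup E) := by
    rw [hT]
    show _ = (conjN S E).range.subgroupOf _
    rw [conjN_range]
  have hcen' : ∀ l : normalizerIn S E, (∃ x : E, c l = MulAut.conj x) → l ∈ ι.range := by
    rintro l ⟨x, hx⟩
    have h1 : (x : Ω)⁻¹ * l ∈ centralizerIn S E := by
      rw [mem_centralizerIn]
      refine ⟨S.mul_mem (S.inv_mem (hESle x.2)) (hNS l.2), fun y hy => ?_⟩
      have e1 := hcx l ⟨y, hy⟩
      rw [hx] at e1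
      have e2 : (x : Ω) * y * (x : Ω)⁻¹ = l * y * (l : Ω)⁻¹ := e1
      have e3 : (x : Ω) * y = l * y * (l : Ω)⁻¹ * x := by rw [← e2]; group
      calc y * ((x : Ω)⁻¹ * l) = (x : Ω)⁻¹ * (x * y) * (x : Ω)⁻¹ * l := by group
        _ = (x : Ω)⁻¹ * (l * y * (l : Ω)⁻¹ * x) * (x : Ω)⁻¹ * l := by rw [e3]
        _ = (x : Ω)⁻¹ * l * y := by group
    have h2 := IsCentric_self hcen h1
    have h3 := E.mul_mem x.2 h2
    refine ⟨⟨_, h3⟩, Subtype.ext ?_⟩
    show (x : Ω) * ((x : Ω)⁻¹ * l) = l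
    group
  have hTn : ¬ (T : Subgroup (F.autGroup E)).Normal := by
    intro hn
    apply not_le_of_gt hlt
    intro l hl
    have h1 : (⟨c ⟨l, hl⟩, hcD _⟩ : F.autGroup E) ∈ (T : Subgroup (F.autGroup E)) := by
      rw [hT0, Subgroup.mem_subgroupOf]
      exact ⟨_, rfl⟩
    have h2 := Cfsg.Agent.Lib.PCore.le_pCore hn T.isPGroup' h1
    have h3 : c ⟨l, hl⟩ ∈ Inn E := by
      rw [← hRad.2]
      exact ⟨_, h2, rfl⟩
    obtain ⟨x, hx⟩ := h3
    obtain ⟨y, hy⟩ := hcen' ⟨l, hl⟩ ⟨x, hx.symm⟩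
    have := congrArg Subtype.val hy
    rw [← show (y : Ω) = l from this]
    exact y.2
  have hrad : ∀ K : Subgroup (F.autGroup E), K.Normal → IsPGroup p K → ∀ d ∈ K,
      ∃ x : E, (d : MulAut E) = MulAut.conj x := by
    intro K hK hKp d hd
    have h2 := Cfsg.Agent.Lib.PCore.le_pCore hK hKp hd
    have h3 : (d : MulAut E) ∈ Inn E := by
      rw [← hRad.2]
      exact ⟨_, h2, rfl⟩
    obtain ⟨x, hx⟩ := h3
    exact ⟨x, hx.symm⟩
  have hext : ∀ d : F.autGroup E, (∀ s ∈ (T : Subgroup (F.autGroup E)), d * s * d⁻¹ ∈ (T : Subgroup (F.autGroup E))) →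
      ∃ t ∈ F.autGroup (normalizerIn S E), ∀ x : E, t (ι x) = ι (d.1 x) := by
    intro d hd
    have hf : Maps F E (afn d.1) := Maps_of_mem_autGroup hESle d.2
    obtain ⟨g, hg, hgf⟩ := IsReceptive.ext hR hf (afn_img d.1)
    have hNNf := normalizerIn_le_Nf hESle _ hT d hd
    have hgN : Maps F (normalizerIn S E) g := hg.restrict hNNf
    have hgmem : ∀ l ∈ normalizerIn S E, g l ∈ normalizerIn S E := by
      intro l hl
      refine ⟨hgN.mem hl, mem_normalizer_of_conj_mem (fun y hy => ?_)⟩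
      have hx := afn_mem d.1⁻¹ hy
      have e1 : g (afn d.1⁻¹ y) = y := by
        rw [hgf _ hx, afn_afn_inv _ hy]
      have hlx : l * afn d.1⁻¹ y * l⁻¹ ∈ E := (Subgroup.mem_normalizer_iff.1 hl.2 _).1 hx
      have e2 := hgN.map_conj hl (hlt.le hx)
      rw [e1] at e2
      rw [← e2, hgf _ hlx]
      exact afn_mem d.1 hlx
    have himg : img g (normalizerIn S E) = normalizerIn S E := img_eq_of_card hgN hNS hNS hgmem le_rfl
    refine ⟨hgN.toAut himg, hgN.toAut_mem himg, fun x => Subtype.ext ?_⟩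
    show ((hgN.toAut himg (ι x) : normalizerIn S E) : Ω) = ((d.1 x : E) : Ω)
    rw [← afn_coe, ← afn_coe]
    show afn (hgN.toAut himg) (x : Ω) = _
    rw [hgN.afn_toAut himg (hlt.le x.2), hgf _ x.2]
  have hrN : PRankLE p 2 (normalizerIn S E) := by
    intro A hA hexp
    have h := hr (A.map (normalizerIn S E).subtype) ?_ ?_
    · rwa [Subgroup.card_map_of_injective (normalizerIn S E).subtype_injective] at h
    · rintro _ ⟨a, -, rfl⟩
      exact hNS a.2
    · refine ⟨⟨⟨?_⟩⟩, ?_⟩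
      · rintro ⟨_, a, ha, rfl⟩ ⟨_, b, hb, rfl⟩
        apply Subtype.ext
        have := congrArg Subtype.val (hA.is_comm.comm (⟨a, ha⟩ : A) ⟨b, hb⟩)
        show (a : Ω) * b = b * a
        exact congrArg Subtype.val this
      · rintro _ ⟨a, ha, rfl⟩
        have := hexp a ha
        exact congrArg Subtype.val this
  obtain ⟨t, htA, u, v, b, hcard, hexp, hna, hu, hv, hspan, huc, hcomu, hvnot, htv, hb⟩ :=
    Cfsg.Agent.Lib.RankTwoResC.main h5 (hS.to_le hNS) hrN ι hι c hc (F.autGroup E) hcD T hT0 hTn hcen' hrad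
      (F.autGroup (normalizerIn S E)) hext
  refine ⟨t, htA, u, v, b, hcard, hexp, hna, ?_, ?_, ?_, huc, hcomu, hvnot, htv, hb⟩
  · obtain ⟨x, hx⟩ := hu
    rw [← hx]
    exact x.2
  · obtain ⟨x, hx⟩ := hv
    rw [← hx]
    exact x.2
  · intro x hx
    obtain ⟨i, j, hij⟩ := hspan (ι ⟨x, hx⟩) ⟨_, rfl⟩
    exact ⟨i, j, congrArg Subtype.val hij⟩

end Cfsg.Agent.Lib.RankTwoResE
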