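import Mathlib
import Cfsg.Agent.Lib.RankTwoResD
import Cfsg.Agent.Lib.RankTwoResE

/-!
# No essential subgroups in a saturated system over a `p`-group of rank two, `p ≥ 5`, unless `S` is extraspecial
-/

set_option autoImplicit false

namespace Cfsg.Agent.Lib.RankTwoResF

open Cfsg Cfsg.FusionSystem Cfsg.Agent.Lib.FusionCore Cfsg.Agent.Lib.FusionCore2 Cfsg.Agent.Lib.PlaneRep
open scoped commutatorElement

universe u

variable {Ω : Type u} [Group Ω] {p : ℕ} [hp : Fact p.Prime]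

/-- The rank condition in a subgroup. -/
theorem prank_of_le {S K : Subgroup Ω} (hKS : K ≤ S)
    (hr : ∀ A : Subgroup Ω, A ≤ S → IsElementaryAbelian p A → Nat.card A ≤ p ^ 2) : PRankLE p 2 K := by
  intro A hA hexp
  have h := hr (A.map K.subtype) ?_ ?_
  · rwa [Subgroup.card_map_of_injective K.subtype_injective] at h
  · rintro _ ⟨a, -, rfl⟩
    exact hKS a.2
  · refine ⟨⟨⟨?_⟩⟩, ?_⟩
    · rintro ⟨_, a, ha, rfl⟩ ⟨_, b, hb, rfl⟩
      apply Subtype.ext
      have := congrArg Subtype.val (hA.is_comm.comm (⟨a, ha⟩ : A) ⟨b, hb⟩)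
      show (a : Ω) * b = b * a
      exact congrArg Subtype.val this
    · rintro _ ⟨a, ha, rfl⟩
      have := hexp a ha
      exact congrArg Subtype.val this

/-- The hypotheses of the abstract theorems, read in `K`. -/
theorem pack {K N : Subgroup Ω} (hNK : N ≤ K) (hnorm : K ≤ Subgroup.normalizer (N : Set Ω))
    (hNcard : Nat.card N = p ^ 3) (hNexp : ∀ n ∈ N, n ^ p = 1) (hNna : ∃ x ∈ N, ∃ y ∈ N, x * y ≠ y * x)
    (hcent : ∀ g ∈ K, (∀ n ∈ N, g * n = n * g) → g ∈ N) (hNK' : N ≠ K) :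
    (N.subgroupOf K).Normal ∧ Nat.card (N.subgroupOf K) = p ^ 3 ∧ (∀ n ∈ N.subgroupOf K, n ^ p = 1) ∧
      (∃ x ∈ N.subgroupOf K, ∃ y ∈ N.subgroupOf K, x * y ≠ y * x) ∧
      (∀ g : K, (∀ n ∈ N.subgroupOf K, g * n = n * g) → g ∈ N.subgroupOf K) ∧ N.subgroupOf K ≠ ⊤ := by
  refine ⟨⟨?_⟩, ?_, ?_, ?_, ?_, ?_⟩
  · intro x hx g
    rw [Subgroup.mem_subgroupOf] at hx ⊢
    exact (Subgroup.mem_normalizer_iff.1 (hnorm g.2) x).1 hx
  · rw [← hNcard]
    exact Nat.card_congr (Subgroup.subgroupOfEquivOfLe hNK).toEquiv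
  · rintro ⟨n, hnK⟩ hn
    apply Subtype.ext
    exact hNexp n hn
  · obtain ⟨x, hx, y, hy, hxy⟩ := hNna
    refine ⟨⟨x, hNK hx⟩, hx, ⟨y, hNK hy⟩, hy, fun h => hxy (congrArg Subtype.val h)⟩
  · rintro ⟨g, hg⟩ h
    apply hcent g hg
    intro n hn
    exact congrArg Subtype.val (h ⟨n, hNK hn⟩ hn)
  · intro h
    apply hNK'
    exact le_antisymm hNK (Subgroup.subgroupOf_eq_top.mp h)

/-- The elements of order dividing `p` lie in `N`. -/
theorem omega_le (h5 : 5 ≤ p) {K N : Subgroup Ω} [Finite K] (hK : IsPGroup p K) (hr : PRankLE p 2 K)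
    (hNK : N ≤ K) (hnorm : K ≤ Subgroup.normalizer (N : Set Ω))
    (hNcard : Nat.card N = p ^ 3) (hNexp : ∀ n ∈ N, n ^ p = 1) (hNna : ∃ x ∈ N, ∃ y ∈ N, x * y ≠ y * x)
    (hcent : ∀ g ∈ K, (∀ n ∈ N, g * n = n * g) → g ∈ N) (hNK' : N ≠ K) : ∀ x ∈ K, x ^ p = 1 → x ∈ N := by
  obtain ⟨hn, hc, he, hna, hce, htop⟩ := pack hNK hnorm hNcard hNexp hNna hcent hNK'
  haveI := hn
  obtain ⟨V, _, _, ab, ρ, hmul, hsurj, hker, hρ, hcardV⟩ :=
    exists_plane (p := p) (N.subgroupOf K) (fun x => Subtype.ext (he x x.2))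
  obtain ⟨hΩ, -⟩ := Cfsg.Agent.Lib.RankTwoResB.main h5 hK hr hc he hna hce htop ab ρ hmul hsurj hker hρ hcardV
  intro x hx hxp
  exact hΩ ⟨x, hx⟩ (Subtype.ext hxp)

theorem mem_commutator_symm {A B : Type*} [Group A] [Group B] (e : B ≃* A) {y : A} (hy : y ∈ commutator A) :
    e.symm y ∈ commutator B := by
  have h1 : (commutator A).map e.symm.toMonoidHom ≤ commutator B := by
    rw [_root_.commutator_def, _root_.commutator_def, Subgroup.map_commutator]
    apply Subgroup.commutator_mono le_top le_top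
  exact h1 ⟨y, hy, rfl⟩

variable {S : Subgroup Ω} [Finite S] {F : FusionSystem S}

theorem essential_false_aux (h5 : 5 ≤ p) (hS : IsPGroup p S) (hF : F.IsSaturated p)
    (hr : ∀ A : Subgroup Ω, A ≤ S → IsElementaryAbelian p A → Nat.card A ≤ p ^ 2)
    (hnotE : ¬ (Nat.card S = p ^ 3 ∧ Monoid.exponent ↥S = p))
    {E : Subgroup Ω} (hE : F.IsEssential p E) (hES : E < S) {N : Subgroup Ω} (hNdef : N = normalizerIn S E)
    (t : MulAut N) (htA : t ∈ F.autGroup N) (u v : N) (b : ℕ) (hcard : Nat.card N = p ^ 3)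
    (hexp : ∀ n : N, n ^ p = 1) (hna : ∃ x y : N, x * y ≠ y * x)
    (huE : (u : Ω) ∈ E) (hvE : (v : Ω) ∈ E) (hspan : ∀ x ∈ E, ∃ i j : ℕ, x = (u : Ω) ^ i * (v : Ω) ^ j)
    (huc : u ∈ commutator N) (hcomu : ∀ c' ∈ commutator N, ∃ m : ℕ, c' = u ^ m)
    (htv : t v = v ^ b) (hb : ¬ b ^ 2 ≡ 1 [MOD p]) : False := by
  classical
  have hpp := hp.out
  obtain ⟨hcen, -⟩ := id hE
  have hlt : E < N := by
    rw [hNdef]
    exact lt_normalizerIn' hS le_rfl hES
  have hNS : N ≤ S := by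
    rw [hNdef]
    exact inf_le_left
  haveI hfinN : Finite N := finite_of_le hNS
  haveI hfinE : Finite E := finite_of_le hES.le
  have hNexpΩ : ∀ n ∈ N, n ^ p = 1 := fun n hn => congrArg Subtype.val (hexp ⟨n, hn⟩)
  have hNnaΩ : ∃ x ∈ N, ∃ y ∈ N, x * y ≠ y * x := by
    obtain ⟨x, y, hxy⟩ := hna
    exact ⟨x, x.2, y, y.2, fun h => hxy (Subtype.ext h)⟩
  have hNneS : N ≠ S := by
    intro heq
    apply hnotE
    have hexpS : ∀ n : S, n ^ p = 1 := fun n => Subtype.ext (hNexpΩ n (by rw [heq]; exact n.2))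
    have hcS : Nat.card S = p ^ 3 := by
      rw [← heq]
      exact hcard
    refine ⟨hcS, ?_⟩
    have h1 : Monoid.exponent S ∣ p := Monoid.exponent_dvd_of_forall_pow_eq_one hexpS
    rcases (Nat.dvd_prime hpp).mp h1 with h2 | h2
    · exfalso
      have h3 : Subsingleton S := Monoid.exp_eq_one_iff.mp h2
      have h4 : Nat.card S = 1 := Nat.card_unique
      rw [hcS] at h4
      have h6 : 1 < p ^ 3 := Nat.one_lt_pow (by norm_num) hpp.one_lt
      omega
    · exact h2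
  have hNlt : N < S := lt_of_le_of_ne hNS hNneS
  have hcentN : ∀ g ∈ S, (∀ n ∈ N, g * n = n * g) → g ∈ N := by
    intro g hg h
    apply hlt.le
    apply IsCentric_self hcen
    rw [mem_centralizerIn]
    exact ⟨hg, fun x hx => (h x (hlt.le hx)).symm⟩
  -- `N` is normal in `S`
  have hLS : normalizerIn S N = S := by
    by_contra hne
    have hltL : normalizerIn S N < S := lt_of_le_of_ne inf_le_left hne
    have hgrow := lt_normalizerIn' hS le_rfl hltL
    obtain ⟨g, hg, hgL⟩ := SetLike.exists_of_lt hgrow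
    apply hgL
    refine ⟨hg.1, mem_normalizer_of_conj_mem (fun x hx => ?_)⟩
    have hNL : N ≤ normalizerIn S N := le_normalizerIn hNS
    have hLS' : normalizerIn S N ≤ S := inf_le_left
    haveI : Finite (normalizerIn S N) := finite_of_le hLS'
    have hNneL : N ≠ normalizerIn S N := ne_of_lt (lt_normalizerIn' hS le_rfl hNlt)
    apply omega_le h5 (hS.to_le hLS') (prank_of_le hLS' hr) hNL inf_le_right hcard hNexpΩ hNnaΩ
      (fun g' hg' h => hcentN g' (hLS' hg') h) hNneL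
    · exact (Subgroup.mem_normalizer_iff.1 hg.2 x).1 (hNL hx)
    · rw [conj_pow, hNexpΩ x hx]
      group
  -- the level of `S`
  have hNorm : S ≤ Subgroup.normalizer (N : Set Ω) := by
    intro g hg
    have h1 : g ∈ normalizerIn S N := by
      rw [hLS]
      exact hg
    exact h1.2
  obtain ⟨hn, hc, he, hna₃, hce, htop⟩ := pack hNS hNorm hcard hNexpΩ hNnaΩ hcentN hNneS
  haveI := hn
  have hNfn : F.IsFullyNormalized N := by
    refine ⟨hNS, fun Q _ => ?_⟩
    rw [hLS]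
    exact Nat.card_le_card_of_injective (Subgroup.inclusion inf_le_left) (Subgroup.inclusion_injective _)
  obtain ⟨hfc, hfa⟩ := of_fullyNormalized hS hF hNfn
  have hRN := receptive_of_fullyCentralized hS hF hfc
  obtain ⟨-, T, hT⟩ := hfa
  haveI hfinAN : Finite (MulAut N) := finite_mulAut hNS
  let e : N ≃* N.subgroupOf S := (Subgroup.subgroupOfEquivOfLe hNS).symm
  let π : F.autGroup N →* MulAut (N.subgroupOf S) := (MulAut.congr e).toMonoidHom.comp (F.autGroup N).subtype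
  have hπ : Function.Injective π := by
    intro x y h
    exact Subtype.ext ((MulAut.congr e).injective h)
  have hπc : ∀ (d : F.autGroup N) (x : N.subgroupOf S),
      (((π d x : N.subgroupOf S) : S) : Ω) = afn d.1 ((x : S) : Ω) := by
    intro d x
    have hxN : ((x : S) : Ω) ∈ N := x.2
    rw [afn_of_mem d.1 hxN]
    rfl
  have hTl : ∀ l : S, ∃ s ∈ (T : Subgroup (F.autGroup N)), π s = MulAut.conjNormal l := by
    intro l
    have hl : (l : Ω) ∈ normalizerIn S N := by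
      rw [hLS]
      exact l.2
    have hα : conjN S N ⟨l, hl⟩ ∈ F.autGroup N :=
      autInducedBy_le_autGroup hNS (by rw [← conjN_range]; exact ⟨_, rfl⟩)
    refine ⟨⟨_, hα⟩, ?_, ?_⟩
    · rw [hT, Subgroup.mem_subgroupOf, ← conjN_range]
      exact ⟨_, rfl⟩
    · refine MulEquiv.ext fun x => Subtype.ext (Subtype.ext ?_)
      rw [hπc]
      show afn (conjN S N ⟨l, hl⟩) _ = _
      rw [afn_conjN _ (show ((x : S) : Ω) ∈ N from x.2)]
      rfl
  have hext : ∀ d : F.autGroup N, (∀ s ∈ (T : Subgroup (F.autGroup N)), d * s * d⁻¹ ∈ (T : Subgroup (F.autGroup N))) →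
      ∃ θ : MulAut S, ∀ x : N.subgroupOf S, θ x = (π d x : N.subgroupOf S) := by
    intro d hd
    have hf : Maps F N (afn d.1) := Maps_of_mem_autGroup hNS d.2
    obtain ⟨g, hg, hgf⟩ := IsReceptive.ext hRN hf (afn_img d.1)
    have hNf := Cfsg.Agent.Lib.RankTwoResE.normalizerIn_le_Nf hNS _ hT d hd
    rw [hLS] at hNf
    have hgS : Maps F S g := hg.restrict hNf
    have himg : img g S = S := img_eq_of_card hgS le_rfl le_rfl (fun x hx => hgS.mem hx) le_rfl
    refine ⟨hgS.toAut himg, fun x => Subtype.ext ?_⟩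
    rw [hπc, ← afn_coe, hgS.afn_toAut himg x.1.2, hgf ((x : S) : Ω) x.2]
  have hout : ∀ a : S, a ∉ N.subgroupOf S →
      MulAut.conjNormal a (e v) * (e v)⁻¹ ∉ commutator (N.subgroupOf S) := by
    intro a ha hmem
    apply ha
    have h1 := mem_commutator_symm e hmem
    obtain ⟨m, hm⟩ := hcomu _ h1
    have hm' : (a : Ω) * v * (a : Ω)⁻¹ * (v : Ω)⁻¹ = (u : Ω) ^ m := congrArg Subtype.val hm
    have haN : (a : Ω) ∈ normalizerIn S N := by
      rw [hLS]
      exact a.2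
    have h2 : conjN S N ⟨a, haN⟩ u ∈ commutator N := by
      have h3 := (inferInstance : (commutator N).Characteristic).fixed (conjN S N ⟨a, haN⟩)⁻¹
      have h4 : u ∈ (commutator N).comap ((conjN S N ⟨a, haN⟩)⁻¹ : MulAut N).toMonoidHom := by
        rw [h3]
        exact huc
      have h5' : ((conjN S N ⟨a, haN⟩)⁻¹ : MulAut N) u ∈ commutator N := h4
      have h6 := (inferInstance : (commutator N).Characteristic).fixed (conjN S N ⟨a, haN⟩)
      have h7 : u ∈ (commutator N).comap (conjN S N ⟨a, haN⟩ : MulAut N).toMonoidHom := by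
        rw [h6]
        exact huc
      exact h7
    obtain ⟨m', hm'₂⟩ := hcomu _ h2
    have hm'' : (a : Ω) * u * (a : Ω)⁻¹ = (u : Ω) ^ m' := by
      have h3 := congrArg Subtype.val hm'₂
      have h4 := afn_conjN (K := S) (P := N) ⟨a, haN⟩ u.2
      rw [afn_coe] at h4
      rw [h3] at h4
      exact h4.symm
    have hconjE : ∀ x ∈ E, (a : Ω) * x * (a : Ω)⁻¹ ∈ E := by
      intro x hx
      obtain ⟨i, j, rfl⟩ := hspan x hx
      have e1 : (a : Ω) * ((u : Ω) ^ i * (v : Ω) ^ j) * (a : Ω)⁻¹ =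
          ((a : Ω) * u * (a : Ω)⁻¹) ^ i * ((a : Ω) * v * (a : Ω)⁻¹) ^ j := by
        rw [conj_pow, conj_pow]
        group
      have e2 : (a : Ω) * v * (a : Ω)⁻¹ = (u : Ω) ^ m * v := by
        rw [← hm']
        group
      rw [e1, hm'', e2]
      exact E.mul_mem (E.pow_mem (E.pow_mem huE _) _) (E.pow_mem (E.mul_mem (E.pow_mem huE _) hvE) _)
    show (a : Ω) ∈ N
    rw [hNdef]
    exact ⟨a.2, mem_normalizer_of_conj_mem hconjE⟩
  exact Cfsg.Agent.Lib.RankTwoResD.no_normal h5 hS (prank_of_le le_rfl hr) hc he hna₃ hce htop π hπ T hTl hext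
    ⟨t, htA⟩ (v := e v) (b := b) (by
      show e (t (e.symm (e v))) = _
      rw [e.symm_apply_apply, htv, map_pow]) hb hout

theorem essential_false (h5 : 5 ≤ p) (hS : IsPGroup p S) (hF : F.IsSaturated p)
    (hr : ∀ A : Subgroup Ω, A ≤ S → IsElementaryAbelian p A → Nat.card A ≤ p ^ 2)
    (hnotE : ¬ (Nat.card S = p ^ 3 ∧ Monoid.exponent ↥S = p))
    {E : Subgroup Ω} (hE : F.IsEssential p E) (hES : E < S) : False := by
  obtain ⟨t, htA, u, v, b, hcard, hexp, hna, huE, hvE, hspan, huc, hcomu, -, htv, hb⟩ :=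
    Cfsg.Agent.Lib.RankTwoResE.essential_normalizer h5 hS hF hr hE hES
  exact essential_false_aux h5 hS hF hr hnotE hE hES rfl t htA u v b hcard hexp hna huE hvE hspan huc hcomu htv hb

end Cfsg.Agent.Lib.RankTwoResF
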