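import Mathlib
import Cfsg.Agent.Lib.BlkBasic
import Cfsg.Agent.Lib.BlockDefect
import Cfsg.Agent.Lib.BlockQ
import Cfsg.Agent.Lib.BlockNormal

/-!
# Real `2`-blocks of full defect are principal

If a `2`-block `B` of full defect is stable under a bijection `τ` with `(τ χ) x = χ x⁻¹` on elements
`x` of odd order, then `B` is the principal block.

The proof: the idempotent coefficient `a` satisfies `a x⁻¹ = a x`.  Pairing elements `x, x⁻¹` gives
`∑ a x ≡ a 1 (mod M)`, and `∑ a x` is `1` or `0` according to whether `B` is principal.  Pairing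
classes in `1 = ∑ a_K ω_χ(K̂)` (`χ` of odd degree) gives `a 1 ≡ 1`.
-/

set_option autoImplicit false
set_option linter.unusedSectionVars false
set_option linter.unusedVariables false
set_option linter.style.haveILetI false

namespace Cfsg.Agent.Lib.RealBlock

open Cfsg Cfsg.Agent.Lib.BlockLocal Cfsg.Agent.Lib.BlockIdem Cfsg.Agent.Lib.BlockOrtho
open Cfsg.Agent.Lib.BlkBasic Cfsg.Agent.Lib.BlockQ Cfsg.Agent.Lib.BlockNormal
open Cfsg.Agent.Lib.CharBasic
open scoped ComplexConjugate

universe u

variable {M : Ideal AlgInt}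

/-- A sum over a set with an involution, modulo `M` over `2`. -/
theorem memLocalIdeal_sum_involution {α : Type*} [DecidableEq α] (hM : IsPModular 2 M)
    (σ : α → α) (g : α → ℂ) : ∀ s : Finset α, (∀ a ∈ s, σ a ∈ s) → (∀ a ∈ s, σ (σ a) = a) →
    (∀ a ∈ s, MemLocalRing M (g a)) → (∀ a ∈ s, σ a = a → MemLocalIdeal M (g a)) →
    (∀ a ∈ s, σ a ≠ a → MemLocalIdeal M (g a - g (σ a))) → MemLocalIdeal M (∑ a ∈ s, g a) := by
  classical
  haveI := isPrime_of_isPModular hM
  intro s
  induction s using Finset.strongInduction with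
  | H s ih =>
    intro h1 h2 h3 h4 h5
    by_cases hs : s.Nonempty
    · obtain ⟨a, ha⟩ := hs
      by_cases hfix : σ a = a
      · rw [← Finset.add_sum_erase s g ha]
        refine memLocalIdeal_add (h4 a ha hfix) (ih _ (Finset.erase_ssubset ha) ?_ ?_ ?_ ?_ ?_)
        · intro b hb
          rw [Finset.mem_erase] at hb ⊢
          refine ⟨fun h => hb.1 ?_, h1 b hb.2⟩
          rw [← h2 b hb.2, h, hfix]
        · exact fun b hb => h2 b (Finset.mem_of_mem_erase hb)
        · exact fun b hb => h3 b (Finset.mem_of_mem_erase hb)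
        · exact fun b hb => h4 b (Finset.mem_of_mem_erase hb)
        · exact fun b hb => h5 b (Finset.mem_of_mem_erase hb)
      · have hb : σ a ∈ s.erase a := Finset.mem_erase.mpr ⟨hfix, h1 a ha⟩
        rw [← Finset.add_sum_erase s g ha, ← Finset.add_sum_erase (s.erase a) g hb]
        have h6 : MemLocalIdeal M (g a + g (σ a)) := by
          have h7 := h5 a ha hfix
          have h8 : MemLocalIdeal M ((2 : ℕ) * g (σ a)) :=
            memLocalIdeal_mul_right (memLocalIdeal_natCast_of_dvd hM (dvd_refl 2)) (h3 _ (h1 a ha))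
          have h9 := memLocalIdeal_add h7 h8
          have h10 : g a - g (σ a) + ((2 : ℕ) : ℂ) * g (σ a) = g a + g (σ a) := by
            push_cast
            ring
          rwa [h10] at h9
        rw [← add_assoc]
        refine memLocalIdeal_add h6 (ih _ ?_ ?_ ?_ ?_ ?_ ?_)
        · exact (Finset.erase_ssubset hb).trans (Finset.erase_ssubset ha)
        · intro b hb
          rw [Finset.mem_erase, Finset.mem_erase] at hb ⊢
          refine ⟨fun h => hb.2.1 ?_, fun h => hb.1 ?_, h1 b hb.2.2⟩
          · rw [← h2 b hb.2.2, h, h2 a ha]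
          · rw [← h2 b hb.2.2, h]
        · exact fun b hb => h2 b (Finset.mem_of_mem_erase (Finset.mem_of_mem_erase hb))
        · exact fun b hb => h3 b (Finset.mem_of_mem_erase (Finset.mem_of_mem_erase hb))
        · exact fun b hb => h4 b (Finset.mem_of_mem_erase (Finset.mem_of_mem_erase hb))
        · exact fun b hb => h5 b (Finset.mem_of_mem_erase (Finset.mem_of_mem_erase hb))
    · rw [Finset.not_nonempty_iff_eq_empty] at hs
      subst hs
      simp [memLocalIdeal_zero]

variable {G : Type u} [Group G] [Fintype G]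

/-- An element of odd order with `x⁻¹ = x` is trivial. -/
theorem eq_one_of_inv_eq {x : G} (hx : ¬ 2 ∣ orderOf x) (h : x⁻¹ = x) : x = 1 := by
  have h1 : x ^ 2 = 1 := by
    rw [pow_two]
    nth_rewrite 1 [← h]
    exact inv_mul_cancel x
  have h2 := orderOf_dvd_of_pow_eq_one h1
  rcases (Nat.dvd_prime Nat.prime_two).mp h2 with h3 | h3
  · exact orderOf_eq_one_iff.mp h3
  · exact absurd (by rw [h3]) hx

theorem isConj_inv_of {x y : G} (h : IsConj x y) : IsConj x⁻¹ y⁻¹ := by
  obtain ⟨c, hc⟩ := isConj_iff.mp h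
  refine isConj_iff.mpr ⟨c, ?_⟩
  rw [← hc]
  group

theorem orderOf_eq_of_isConj {x y : G} (h : IsConj x y) : orderOf x = orderOf y := by
  obtain ⟨c, hc⟩ := isConj_iff.mp h
  rw [← hc, show c * x * c⁻¹ = MulAut.conj c x from rfl, MulEquiv.orderOf_eq]

/-- The index of the centralizer of a real element of odd order `≠ 1` is even. -/
theorem memLocalIdeal_index (hM : IsPModular 2 M) {x : G} (hx : ¬ 2 ∣ orderOf x) (hx1 : x ≠ 1)
    (hr : IsConj x x⁻¹) : MemLocalIdeal M (((Subgroup.centralizer ({x} : Set G)).index : ℕ) : ℂ) := by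
  classical
  haveI := isPrime_of_isPModular hM
  set s : Finset G := Finset.univ.filter (fun y => IsConj x y) with hs
  have h1 : MemLocalIdeal M (∑ y ∈ s, (1 : ℂ)) := by
    refine memLocalIdeal_sum_involution hM (fun y => y⁻¹) (fun _ => 1) s ?_ ?_ ?_ ?_ ?_
    · intro y hy
      rw [hs, Finset.mem_filter] at hy ⊢
      exact ⟨Finset.mem_univ _, hr.trans (isConj_inv_of hy.2)⟩
    · intro y _
      exact inv_inv y
    · exact fun _ _ => memLocalRing_one
    · intro y hy h
      exfalso
      rw [hs, Finset.mem_filter] at hy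
      have hy1 : ¬ 2 ∣ orderOf y := by
        rwa [← orderOf_eq_of_isConj hy.2]
      have h2 := eq_one_of_inv_eq hy1 h
      rw [h2, isConj_one_left] at hy
      exact hx1 hy.2
    · intro y _ _
      simp [memLocalIdeal_zero]
  have h2 : ((s.card : ℕ) : ℂ) = ((Subgroup.centralizer ({x} : Set G)).index : ℕ) := by
    have h3 := sum_classIndicator_eq_index x
    have h4 : ∑ y : G, Cfsg.Agent.Lib.CharIntegrality.classIndicator x y = (s.card : ℤ) := by
      unfold Cfsg.Agent.Lib.CharIntegrality.classIndicator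
      rw [hs, Finset.card_filter]
      push_cast
      refine Finset.sum_congr rfl fun y _ => ?_
      congr
    rw [h4] at h3
    exact_mod_cast h3
  rw [← h2]
  simpa using h1

theorem finsum_mem_eq_sum_coe' {α : Type*} (s : Set α) [Fintype ↥s] (f : α → ℂ) :
    ∑ᶠ a ∈ s, f a = ∑ a : ↥s, f a := by
  rw [← finsum_eq_sum_of_fintype]
  exact Eq.symm (finsum_set_coe_eq_finsum_mem s)

theorem centralizer_inv_eq (x : G) :
    Subgroup.centralizer ({x⁻¹} : Set G) = Subgroup.centralizer ({x} : Set G) := by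
  ext g
  rw [Subgroup.mem_centralizer_singleton_iff, Subgroup.mem_centralizer_singleton_iff]
  constructor
  · intro h
    calc g * x = x * (x⁻¹ * g) * x := by group
      _ = x * (g * x⁻¹) * x := by rw [h]
      _ = x * g := by group
  · intro h
    calc g * x⁻¹ = x⁻¹ * (x * g) * x⁻¹ := by group
      _ = x⁻¹ * (g * x) * x⁻¹ := by rw [h]
      _ = x⁻¹ * g := by group

variable {B : Set (IrrCharacter G)}

/-- Symmetry of the idempotent coefficient. -/
theorem blockCoeff_inv (hM : IsPModular 2 M) (hB : IsPBlock M B) [Fintype ↥B] (τ : ↥B → ↥B)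
    (hτ : Function.Injective τ)
    (hv : ∀ (χ : ↥B) (x : G), ¬ 2 ∣ orderOf x → ((τ χ).1 : G → ℂ) x = (χ.1 : G → ℂ) x⁻¹) (x : G) :
    blockCoeff B x⁻¹ = blockCoeff B x := by
  classical
  by_cases hx : 2 ∣ orderOf x
  · rw [blockCoeff_eq_zero hM hB hx, blockCoeff_eq_zero hM hB (by rwa [orderOf_inv])]
  unfold blockCoeff
  rw [finsum_mem_eq_sum_coe' B (fun χ : IrrCharacter G => (χ : G → ℂ) 1 * conj ((χ : G → ℂ) x⁻¹)),
    finsum_mem_eq_sum_coe' B (fun χ : IrrCharacter G => (χ : G → ℂ) 1 * conj ((χ : G → ℂ) x))]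
  have hbij : Function.Bijective τ := Finite.injective_iff_bijective.mp hτ
  have h1 : ∑ χ : ↥B, (χ.1 : G → ℂ) 1 * conj ((χ.1 : G → ℂ) x) =
      ∑ χ : ↥B, ((τ χ).1 : G → ℂ) 1 * conj (((τ χ).1 : G → ℂ) x) :=
    (Equiv.sum_comp (Equiv.ofBijective τ hbij)
      (fun χ : ↥B => (χ.1 : G → ℂ) 1 * conj ((χ.1 : G → ℂ) x))).symm
  rw [h1]
  congr 1
  refine Finset.sum_congr rfl fun χ _ => ?_
  have h2 : ¬ 2 ∣ orderOf (1 : G) := by simp
  rw [hv χ 1 h2, hv χ x hx, inv_one]

/-- The main theorem on stable blocks. -/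
theorem eq_principal_of_stable (hM : IsPModular 2 M) (hB : IsPBlock M B)
    (hdef : blockDefect 2 B = (Nat.card G).factorization 2) [Fintype ↥B] (τ : ↥B → ↥B)
    (hτ : Function.Injective τ)
    (hv : ∀ (χ : ↥B) (x : G), ¬ 2 ∣ orderOf x → ((τ χ).1 : G → ℂ) x = (χ.1 : G → ℂ) x⁻¹) :
    B = principalBlock M G := by
  classical
  haveI := isPrime_of_isPModular hM
  letI : Fintype (ConjClasses G) := Fintype.ofFinite _
  set a : G → ℂ := blockCoeff B with ha
  have hainv := blockCoeff_inv hM hB τ hτ hv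
  have haR : ∀ x, MemLocalRing M (a x) := memLocalRing_blockCoeff hB
  have hazero : ∀ x, 2 ∣ orderOf x → a x = 0 := fun x hx => blockCoeff_eq_zero hM hB hx
  have hacl : IsClassFunction G a := Cfsg.Agent.Lib.BlkBasic.blockCoeff_isClassFunction B
  -- first: the sum over `G`
  have h1 : MemLocalIdeal M (∑ x ∈ (Finset.univ : Finset G).erase 1, a x) := by
    refine memLocalIdeal_sum_involution hM (fun x => x⁻¹) a _ ?_ ?_ ?_ ?_ ?_
    · intro x hx
      rw [Finset.mem_erase] at hx ⊢
      exact ⟨fun h => hx.1 (inv_eq_one.mp h), Finset.mem_univ _⟩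
    · exact fun x _ => inv_inv x
    · exact fun x _ => haR x
    · intro x hx h
      rw [Finset.mem_erase] at hx
      by_cases hx2 : 2 ∣ orderOf x
      · rw [hazero x hx2]
        exact memLocalIdeal_zero
      · exact absurd (eq_one_of_inv_eq hx2 h) hx.1
    · intro x _ _
      rw [show a x⁻¹ = a x from hainv x, sub_self]
      exact memLocalIdeal_zero
  have h2 : ∑ x, a x = blkInd B (irrOne G) := by
    rw [← omega_blockCoeff]
    unfold omega
    have h3 : ((irrOne G : IrrCharacter G) : G → ℂ) = fun _ => 1 := rfl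
    rw [h3]
    simp [ha]
  have h3 : MemLocalIdeal M (blkInd B (irrOne G) - a 1) := by
    rw [← h2, ← Finset.add_sum_erase Finset.univ a (Finset.mem_univ (1 : G)), add_sub_cancel_left]
    exact h1
  -- second: a character of odd degree
  obtain ⟨χ₀, hχ₀, hmin⟩ := exists_minExp (p := 2) hB
  have hcard := card_factorization_eq (M := M) (p := 2) hB
  have hmin0 : minExp 2 B = 0 := by omega
  rw [hmin0] at hmin
  have hodd : ¬ 2 ∣ charDegree (χ₀ : G → ℂ) := by
    intro h
    have hd0 := Cfsg.Agent.Lib.CharKernel.charDegree_ne_zero χ₀.2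
    have := (Nat.prime_two.dvd_iff_one_le_factorization hd0).mp h
    omega
  have hχ₀1 : (χ₀ : G → ℂ) 1 = (charDegree (χ₀ : G → ℂ) : ℂ) :=
    Cfsg.Agent.Lib.CharKernel.one_eq_charDegree (IsIrrCharacter.isCharacter χ₀.2)
  have hχ₀0 : (χ₀ : G → ℂ) 1 ≠ 0 := irr_one_ne_zero' χ₀.2
  have hχ₀inv : MemLocalRing M ((χ₀ : G → ℂ) 1)⁻¹ := by
    rw [hχ₀1]
    exact memLocalRing_inv_natCast hM hodd
  set c : G → ℂ := centralChar (χ₀ : G → ℂ) with hc
  have hcR : ∀ x, MemLocalRing M (c x) := fun x =>
    memLocalRing_of_isIntegral (isIntegral_centralChar χ₀ x)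
  have hccl : ∀ x t : G, c (t * x * t⁻¹) = c x := fun x t =>
    Cfsg.Agent.Lib.BlockDefect.centralChar_conj χ₀ t x
  have hcc : ∀ {x y : G}, IsConj x y → c y = c x := by
    intro x y h
    obtain ⟨t, rfl⟩ := isConj_iff.mp h
    exact hccl x t
  have hac : ∀ {x y : G}, IsConj x y → a y = a x := by
    intro x y h
    obtain ⟨t, rfl⟩ := isConj_iff.mp h
    exact hacl x t
  let σ : ConjClasses G → ConjClasses G := fun K => ConjClasses.mk (Quotient.out K)⁻¹
  have hout : ∀ K : ConjClasses G, ConjClasses.mk (Quotient.out K) = K := fun K => Quotient.out_eq K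
  have houtc : ∀ z : G, IsConj z (Quotient.out (ConjClasses.mk z)) := by
    intro z
    apply ConjClasses.mk_eq_mk_iff_isConj.mp
    rw [hout]
  set K₁ : ConjClasses G := ConjClasses.mk 1 with hK₁
  have hK₁out : Quotient.out K₁ = 1 := by
    have := houtc (1 : G)
    exact isConj_one_right.mp this
  have h4 : MemLocalIdeal M (∑ K ∈ (Finset.univ : Finset (ConjClasses G)).erase K₁,
      a (Quotient.out K) * c (Quotient.out K)) := by
    refine memLocalIdeal_sum_involution hM σ (fun K => a (Quotient.out K) * c (Quotient.out K)) _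
      ?_ ?_ ?_ ?_ ?_
    · intro K hK
      rw [Finset.mem_erase] at hK ⊢
      refine ⟨fun h => hK.1 ?_, Finset.mem_univ _⟩
      have h5 : IsConj (Quotient.out K)⁻¹ 1 := ConjClasses.mk_eq_mk_iff_isConj.mp h
      have h6 : (Quotient.out K)⁻¹ = 1 := isConj_one_left.mp h5
      have h7 : Quotient.out K = 1 := inv_eq_one.mp h6
      rw [← hout K, h7]
    · intro K _
      show ConjClasses.mk (Quotient.out (ConjClasses.mk (Quotient.out K)⁻¹))⁻¹ = K
      have h5 := houtc (Quotient.out K)⁻¹
      have h6 := isConj_inv_of h5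
      rw [inv_inv] at h6
      rw [← ConjClasses.mk_eq_mk_iff_isConj.mpr h6, hout]
    · intro K _
      exact memLocalRing_mul (haR _) (hcR _)
    · intro K hK hfix
      rw [Finset.mem_erase] at hK
      set x := Quotient.out K with hx
      by_cases hx2 : 2 ∣ orderOf x
      · rw [hazero x hx2, zero_mul]
        exact memLocalIdeal_zero
      · have hx1 : x ≠ 1 := by
          intro h
          apply hK.1
          rw [← hout K, ← hx, h]
        have hr : IsConj x x⁻¹ := by
          have h5 : ConjClasses.mk x⁻¹ = ConjClasses.mk x := by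
            show σ K = ConjClasses.mk x
            rw [hfix, hx, hout]
          exact (ConjClasses.mk_eq_mk_iff_isConj.mp h5).symm
        apply memLocalIdeal_mul_left (haR _)
        have h5 := memLocalIdeal_index hM hx2 hx1 hr
        rw [hc]
        unfold centralChar
        have h6 : (((Subgroup.centralizer ({x} : Set G)).index : ℕ) : ℂ) * (χ₀ : G → ℂ) x /
            (χ₀ : G → ℂ) 1 = (((Subgroup.centralizer ({x} : Set G)).index : ℕ) : ℂ) *
              ((χ₀ : G → ℂ) x * ((χ₀ : G → ℂ) 1)⁻¹) := by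
          rw [div_eq_mul_inv, mul_assoc]
        rw [h6]
        exact memLocalIdeal_mul_right h5 (memLocalRing_mul
          (memLocalRing_of_isIntegral (Cfsg.Agent.Lib.BlockVal.isIntegral_char (IsIrrCharacter.isCharacter χ₀.2) x)) hχ₀inv)
    · intro K _ _
      set x := Quotient.out K with hx
      have hy : IsConj x⁻¹ (Quotient.out (ConjClasses.mk x⁻¹)) := houtc x⁻¹
      have h5 : a (Quotient.out (ConjClasses.mk x⁻¹)) = a x := by
        rw [hac hy]
        exact hainv x
      have h6 : c (Quotient.out (ConjClasses.mk x⁻¹)) = c x⁻¹ := hcc hy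
      show MemLocalIdeal M (a x * c x - a (Quotient.out (ConjClasses.mk x⁻¹)) *
        c (Quotient.out (ConjClasses.mk x⁻¹)))
      rw [h5, h6, ← mul_sub]
      by_cases hx2 : 2 ∣ orderOf x
      · rw [hazero x hx2, zero_mul]
        exact memLocalIdeal_zero
      · apply memLocalIdeal_mul_left (haR _)
        -- `c x⁻¹` is the central character of the image of `χ₀` under `τ`
        let χ' : ↥B := τ ⟨χ₀, hχ₀⟩
        have h7 : c x⁻¹ = centralChar (χ'.1 : G → ℂ) x := by
          rw [hc]
          unfold centralChar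
          rw [centralizer_inv_eq, hv ⟨χ₀, hχ₀⟩ x hx2, hv ⟨χ₀, hχ₀⟩ 1 (by simp), inv_one]
        rw [h7]
        exact Cfsg.Agent.Lib.BlockDefect.sameBlock_of_mem hB hχ₀ χ'.2 x
  have h5 : (1 : ℂ) = ∑ K : ConjClasses G, a (Quotient.out K) * c (Quotient.out K) := by
    have h6 := omega_eq_sum_classes χ₀ hacl
    rw [hc, ← h6, ha, omega_blockCoeff, blkInd_of_mem hχ₀]
  have h6 : a (Quotient.out K₁) * c (Quotient.out K₁) = a 1 := by
    rw [hK₁out]
    have h7 : c 1 = 1 := by
      rw [hc]
      unfold centralChar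
      have h8 : Subgroup.centralizer ({(1 : G)} : Set G) = ⊤ := by
        ext g
        simp [Subgroup.mem_centralizer_singleton_iff]
      rw [h8, Subgroup.index_top]
      simp only [Nat.cast_one, one_mul]
      exact div_self hχ₀0
    rw [h7, mul_one]
  have h7 : MemLocalIdeal M (1 - a 1) := by
    rw [h5, ← Finset.add_sum_erase Finset.univ _ (Finset.mem_univ K₁), h6, add_sub_right_comm,
      add_comm]
    have h8 : a 1 - a 1 = 0 := sub_self _
    rw [h8, add_zero]
    exact h4
  have h8 : irrOne G ∈ B := by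
    by_contra hnot
    rw [blkInd_of_not_mem hnot, zero_sub] at h3
    have h9 := memLocalIdeal_sub h7 h3
    have h10 : (1 : ℂ) - a 1 - -a 1 = 1 := by ring
    rw [h10] at h9
    exact not_memLocalIdeal_one h9
  obtain ⟨ξ, rfl⟩ := hB
  exact (blockOf_eq_of_mem h8).symm

end Cfsg.Agent.Lib.RealBlock
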