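import Mathlib
import Cfsg.Agent.Lib.RedSyl
import Cfsg.Agent.Lib.SL2Core
import Cfsg.Agent.Lib.GL2Torus
import Cfsg.Agent.Lib.PSL2Cnt
import Cfsg.Agent.Lib.SL2Tori
import Cfsg.Agent.Lib.SL2Nonsplit
import Cfsg.Agent.Lib.PSL2Classes

/-!
# Redundant Sylow subgroups in `SL₂(F)` and `PSL₂(F)`
-/

set_option autoImplicit false

namespace Cfsg.Agent.Lib.RedSL2

open Subgroup Cfsg.Agent.Lib.RedSyl Cfsg.Agent.Lib.SL2Core Cfsg.Agent.Lib.GL2Torus
open Cfsg.Agent.Lib.DicksonMat Cfsg.Agent.Lib.PSL2Classes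

variable {F : Type*} [Field F] [Fintype F]

lemma not_scalar {A : SL2 F} (hA : A ∉ center (SL2 F)) :
    ∀ c : F, (A : Matrix (Fin 2) (Fin 2) F) ≠ c • 1 := by
  intro c hc
  apply hA
  rw [mem_center_iff', hc]
  simp

lemma comm_comm {A B C : SL2 F} (hA : A ∉ center (SL2 F)) (hB : B * A = A * B) (hC : C * A = A * C) :
    B * C = C * B := by
  apply Subtype.ext
  exact comm_trans (not_scalar hA) (congrArg Subtype.val hB) (congrArg Subtype.val hC)

lemma mul_self_of_center {A : SL2 F} (hA : A ∈ center (SL2 F)) : A * A = 1 := by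
  rcases center_eq A hA with rfl | rfl
  · simp
  · apply Subtype.ext
    simp

/-- First case of non-redundancy: `p` odd or characteristic two. -/
theorem exists_unique_of_abelian (p : ℕ) [Fact p.Prime] (h : p ≠ 2 ∨ (2 : F) = 0) :
    ∃ x : SL2 F, (∃ k : ℕ, orderOf x = p ^ k) ∧ UniqueSyl p x := by
  obtain ⟨Q⟩ : Nonempty (Sylow p (SL2 F)) := inferInstance
  by_cases hQ : (Q : Subgroup (SL2 F)) = ⊥
  · exact ⟨1, ⟨0, by simp⟩, unique_of_bot Q hQ⟩
  obtain ⟨x, hx, hx1, ⟨k, hk⟩, hxZ⟩ := exists_central Q hQ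
  refine ⟨x, ⟨k, hk⟩, ?_⟩
  have hxc : x ∉ center (SL2 F) := by
    intro hc
    rcases h with h | h
    · have h2 : x ^ 2 = 1 := by rw [sq]; exact mul_self_of_center hc
      have h3 : p ^ k ∣ 2 := hk ▸ orderOf_dvd_of_pow_eq_one h2
      rcases k with _ | j
      · apply hx1
        rw [← orderOf_eq_one_iff, hk, pow_zero]
      · have h4 : p ∣ 2 := (dvd_pow_self p (Nat.succ_ne_zero j)).trans h3
        exact h ((Nat.prime_dvd_prime_iff_eq Fact.out Nat.prime_two).1 h4)
    · rcases center_eq x hc with h1 | h1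
      · exact hx1 h1
      · rw [negS_eq_of_two h] at h1
        exact hx1 h1
  apply unique_of_central (Q := Q) hxZ
  intro a b ha hb
  exact comm_comm hxc ha hb

/-- The discriminant does not vanish on `2`-elements in odd characteristic. -/
lemma tr_sq_ne (h2 : (2 : F) ≠ 0) {x : SL2 F} (hx : x ∉ center (SL2 F)) {k : ℕ}
    (hk : orderOf x = 2 ^ k) : tr x * tr x ≠ 4 := by
  have h1 : x ^ (2 ^ k) = 1 := by
    rw [← hk]; exact pow_orderOf_eq_one x
  have h3 : ((x : Matrix (Fin 2) (Fin 2) F)) ^ (2 ^ k) = 1 := by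
    have := congrArg Subtype.val h1
    simpa using this
  have h4 := disc_ne_zero h2 (not_scalar hx) h3 (by
    push_cast
    exact pow_ne_zero _ h2)
  intro h5
  apply h4
  have hd := det_entries x
  rw [hd, ← tr_eq, sq, h5]
  ring

/-- Elements of the centralizer with the same trace. -/
lemma eq_or_eq_inv (h2 : (2 : F) ≠ 0) {x y : SL2 F} (hx : x ∉ center (SL2 F)) (ht : tr x * tr x ≠ 4)
    (hy : y * x = x * y) (htr : tr y = tr x) : y = x ∨ y = x⁻¹ := by
  obtain ⟨u, v, huv⟩ := exists_of_comm (not_scalar hx) (congrArg Subtype.val hy)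
  have hdet := det_add_smul x v u
  have e1 : v • (1 : Matrix (Fin 2) (Fin 2) F) + u • (x : Matrix (Fin 2) (Fin 2) F) = (y : Matrix (Fin 2) (Fin 2) F) := by
    rw [huv, add_comm]
  rw [e1, y.2] at hdet
  have htr1 : tr y = u * tr x + 2 * v := by
    rw [tr_eq, tr_eq, huv]
    simp
    ring
  have e2 : 2 * v = tr x - u * tr x := by
    linear_combination htr - htr1
  have hu : (u * u - 1) * (4 - tr x * tr x) = 0 := by
    have e3 : 4 * (v * v + v * u * tr x + u * u - 1) = 0 := by
      linear_combination (-4 : F) * hdet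
    linear_combination e3 - (tr x + 2 * v + u * tr x) * e2
  have hu1 : u * u = 1 := by
    rcases mul_eq_zero.1 hu with h | h
    · linear_combination h
    · exact absurd (by linear_combination -h) ht
  have hu2 : (u - 1) * (u + 1) = 0 := by linear_combination hu1
  rcases mul_eq_zero.1 hu2 with h | h
  · left
    have hu3 : u = 1 := by linear_combination h
    subst hu3
    have hv : v = 0 := by
      have : 2 * v = 0 := by rw [e2]; ring
      exact (mul_eq_zero.1 this).resolve_left h2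
    subst hv
    apply Subtype.ext
    rw [huv]
    simp
  · right
    have hu3 : u = -1 := by linear_combination h
    subst hu3
    have hv : v = tr x := by
      have : 2 * (v - tr x) = 0 := by linear_combination e2
      have := (mul_eq_zero.1 this).resolve_left h2
      linear_combination this
    subst hv
    apply Subtype.ext
    rw [huv, Cfsg.Agent.Lib.SL2Nonsplit.inv_eq_tr_sub]
    simp only [neg_smul, one_smul]
    abel

/-- An element inverting a non-central `x` inverts its centralizer. -/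
lemma inverts {x : SL2 F} (hx : x ∉ center (SL2 F)) {W y : SL2 F} (hW : W * x * W⁻¹ = x⁻¹)
    (hy : y * x = x * y) : W * y * W⁻¹ = y⁻¹ := by
  obtain ⟨u, v, huv⟩ := exists_of_comm (not_scalar hx) (congrArg Subtype.val hy)
  have htr1 : tr y = u * tr x + 2 * v := by
    rw [tr_eq, tr_eq, huv]
    simp
    ring
  have hM : (W : Matrix (Fin 2) (Fin 2) F) * ((W⁻¹ : SL2 F) : Matrix (Fin 2) (Fin 2) F) = 1 := by
    exact congrArg Subtype.val (mul_inv_cancel W)
  have hW' : (W : Matrix (Fin 2) (Fin 2) F) * (x : Matrix (Fin 2) (Fin 2) F) * ((W⁻¹ : SL2 F) : Matrix (Fin 2) (Fin 2) F) =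
      tr x • 1 - (x : Matrix (Fin 2) (Fin 2) F) := by
    rw [← Cfsg.Agent.Lib.SL2Nonsplit.inv_eq_tr_sub, ← hW]
    rfl
  apply Subtype.ext
  rw [Cfsg.Agent.Lib.SL2Nonsplit.inv_eq_tr_sub]
  change (W : Matrix (Fin 2) (Fin 2) F) * (y : Matrix (Fin 2) (Fin 2) F) * ((W⁻¹ : SL2 F) : Matrix (Fin 2) (Fin 2) F) = _
  rw [huv, htr1, Matrix.mul_add, Matrix.add_mul, Matrix.mul_smul, Matrix.smul_mul, Matrix.mul_smul, Matrix.smul_mul,
    hW', Matrix.mul_one, hM, smul_sub, smul_smul, add_smul, sub_eq_add_neg, sub_eq_add_neg]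
  rw [two_mul, add_smul]
  simp only [smul_neg, neg_add_rev]
  abel

/-- Second half: every `2`-element lies in two Sylow subgroups. -/
theorem two_sylow (h2 : (2 : F) ≠ 0) (hq1 : ¬ ∃ k : ℕ, Fintype.card F + 1 = 2 ^ k)
    (hq2 : ¬ ∃ k : ℕ, Fintype.card F = 2 ^ k + 1) (x : SL2 F) (hx : ∃ k : ℕ, orderOf x = 2 ^ k) :
    ∃ P P' : Sylow 2 (SL2 F), P ≠ P' ∧ x ∈ P ∧ x ∈ P' := by
  have hq : 1 < Fintype.card F := Fintype.one_lt_card
  by_cases hxc : x ∈ center (SL2 F)
  · rcases Nat.eq_two_pow_or_exists_odd_prime_and_dvd (Fintype.card F - 1) with ⟨k, hk⟩ | ⟨r, hr, hrd, hodd⟩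
    · exact absurd ⟨k, by omega⟩ hq2
    · obtain ⟨A, hA, hJ⟩ := Cfsg.Agent.Lib.SL2Tori.exists_split (F := F) hrd
      have hr2 : r ≠ 2 := by
        rintro rfl
        exact absurd hodd (by decide)
      have hxx := mul_self_of_center hxc
      refine two_sylow_of_inverting hx (y := A) (W := Cfsg.Agent.Lib.SL2Tori.J) ?_ ?_ hJ ?_ hr hr2 hA
      · exact ((Subgroup.mem_center_iff.1 hxc) A).symm
      · rw [(Subgroup.mem_center_iff.1 hxc) _]
        simp only [mul_assoc, mul_inv_cancel, mul_one]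
        exact eq_inv_of_mul_eq_one_left hxx
      · rw [Cfsg.Agent.Lib.SL2Tori.J_mul_J]
        simp
  · obtain ⟨k, hk⟩ := hx
    have ht := tr_sq_ne h2 hxc hk
    have hinvc : x⁻¹ ∉ center (SL2 F) := fun h => hxc (by simpa using (center (SL2 F)).inv_mem h)
    have htr : tr x = tr x⁻¹ := by
      rw [tr_eq, tr_eq, inv00, inv11]
      ring
    obtain ⟨W, hW⟩ := exists_conj x x⁻¹ hxc hinvc htr ht
    -- the centralizer has an element of odd prime order
    obtain ⟨r, hr, hrd, hodd⟩ : ∃ r : ℕ, r.Prime ∧ r ∣ Nat.card (TT x) ∧ Odd r := by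
      by_cases hs : ∃ l : F, l * l - tr x * l + 1 = 0
      · obtain ⟨l, hl⟩ := hs
        rw [Cfsg.Agent.Lib.PSL2Cnt.card_TT_split x hxc ht hl]
        rcases Nat.eq_two_pow_or_exists_odd_prime_and_dvd (Fintype.card F - 1) with ⟨j, hj⟩ | h
        · exact absurd ⟨j, by omega⟩ hq2
        · exact h
      · push Not at hs
        rw [Cfsg.Agent.Lib.PSL2Cnt.card_TT_nonsplit x hxc ht hs]
        rcases Nat.eq_two_pow_or_exists_odd_prime_and_dvd (Fintype.card F + 1) with ⟨j, hj⟩ | h
        · exact absurd ⟨j, hj⟩ hq1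
        · exact h
    haveI : Fact r.Prime := ⟨hr⟩
    obtain ⟨⟨y, hyT⟩, hy⟩ := exists_prime_orderOf_dvd_card' r hrd
    have hyx : y * x = x * y := mem_TT.1 hyT
    have hr2 : r ≠ 2 := by
      rintro rfl
      exact absurd hodd (by decide)
    refine two_sylow_of_inverting ⟨k, hk⟩ (y := y) (W := W) hyx.symm hW (inverts hxc hW hyx) ?_ hr hr2 (by
      rwa [Subgroup.orderOf_mk] at hy)
    -- `W * W` is centralized by `W` and inverted
    have hWW : (W * W) * x = x * (W * W) := by
      have h5 : W * x⁻¹ * W⁻¹ = x := by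
        calc W * x⁻¹ * W⁻¹ = (W * x * W⁻¹)⁻¹ := by group
          _ = x := by rw [hW, inv_inv]
      have h1 : W * W * x * (W * W)⁻¹ = x := by
        calc W * W * x * (W * W)⁻¹ = W * (W * x * W⁻¹) * W⁻¹ := by group
          _ = W * x⁻¹ * W⁻¹ := by rw [hW]
          _ = x := h5
      exact mul_inv_eq_iff_eq_mul.1 h1
    have h3 := inverts hxc hW hWW
    have h4 : W * (W * W) * W⁻¹ = W * W := by group
    rw [h4] at h3
    calc W * W * (W * W) = (W * W)⁻¹ * (W * W) := by rw [← h3]
      _ = 1 := by group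

lemma factorization_two (a c : ℕ) (hc : Odd c) : (2 ^ a * c).factorization 2 = a := by
  have hc0 : c ≠ 0 := by
    rintro rfl
    exact absurd hc (by decide)
  rw [Nat.factorization_mul (by positivity) hc0, Nat.Prime.factorization_pow Nat.prime_two]
  simp only [Finsupp.coe_add, Pi.add_apply, Finsupp.single_eq_same]
  rw [Nat.factorization_eq_zero_of_not_dvd hc.not_two_dvd_nat, add_zero]

/-- The order of the Sylow `2`-subgroups in the special situation. -/
lemma card_sylow_of_torus (h2 : (2 : F) ≠ 0) {j : ℕ}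
    (hn : Fintype.card F - 1 = 2 ^ (j + 2) ∨ Fintype.card F + 1 = 2 ^ (j + 2)) (P : Sylow 2 (SL2 F)) :
    Nat.card P = 2 * 2 ^ (j + 2) := by
  have hq : 1 < Fintype.card F := Fintype.one_lt_card
  have hqodd : Odd (Fintype.card F) := by
    rw [← Nat.not_even_iff_odd, even_iff_two_dvd, ← two_eq_zero_iff]
    exact h2
  rw [Sylow.card_eq_multiplicity, Cfsg.Agent.Lib.ClassicalSmall.card_SL2]
  obtain ⟨c, hc, hcard⟩ : ∃ c : ℕ, Odd c ∧ (Fintype.card F + 1) * Fintype.card F * (Fintype.card F - 1) = 2 ^ (j + 3) * c := by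
    rcases hn with h | h
    · refine ⟨(2 ^ (j + 1) + 1) * Fintype.card F, ?_, ?_⟩
      · apply Odd.mul _ hqodd
        exact Even.add_one ((Nat.even_pow.2 ⟨even_two, by omega⟩))
      · have e1 : Fintype.card F + 1 = 2 * (2 ^ (j + 1) + 1) := by
          rw [pow_succ 2 (j + 1)] at h
          omega
        rw [e1, h]
        ring
    · obtain ⟨c, hc⟩ : ∃ c, 2 ^ (j + 1) = c + 1 := ⟨2 ^ (j + 1) - 1, by
        have : 0 < 2 ^ (j + 1) := by positivity
        omega⟩
      refine ⟨c * Fintype.card F, ?_, ?_⟩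
      · apply Odd.mul _ hqodd
        have hev : Even (c + 1) := by
          rw [← hc]
          exact Nat.even_pow.2 ⟨even_two, by omega⟩
        by_contra hcc
        rw [Nat.not_odd_iff_even] at hcc
        exact (Nat.not_even_iff_odd.2 hcc.add_one) hev
      · have e1 : Fintype.card F - 1 = 2 * c := by
          rw [pow_succ 2 (j + 1), hc] at h
          omega
        rw [e1, h]
        have : (2 : ℕ) ^ (j + 3) = 2 ^ (j + 2) * 2 := by ring
        rw [this]
        ring
  rw [hcard, factorization_two _ _ hc]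
  ring

/-- The element generating a Sylow-sized torus lies in a unique Sylow subgroup. -/
theorem exists_unique_torus (h2 : (2 : F) ≠ 0) {j : ℕ}
    (hn : Fintype.card F - 1 = 2 ^ (j + 2) ∨ Fintype.card F + 1 = 2 ^ (j + 2)) :
    ∃ x : SL2 F, (∃ k : ℕ, orderOf x = 2 ^ k) ∧ UniqueSyl 2 x := by
  have hq : 1 < Fintype.card F := Fintype.one_lt_card
  obtain ⟨x, hx⟩ : ∃ x : SL2 F, orderOf x = 2 ^ (j + 2) := by
    rcases hn with h | h
    · obtain ⟨A, hA, -⟩ := Cfsg.Agent.Lib.SL2Tori.exists_split (F := F) (d := Fintype.card F - 1) dvd_rfl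
      exact ⟨A, hA.trans h⟩
    · obtain ⟨A, hA, -⟩ := Cfsg.Agent.Lib.SL2Tori.exists_nonsplit (F := F) (d := Fintype.card F + 1) dvd_rfl
      exact ⟨A, hA.trans h⟩
  refine ⟨x, ⟨_, hx⟩, ?_⟩
  have h4 : 4 ≤ 2 ^ (j + 2) := by
    have : 2 ^ (j + 2) = 2 ^ j * 4 := by ring
    rw [this]
    have : 0 < 2 ^ j := by positivity
    omega
  have hxc : x ∉ center (SL2 F) := by
    intro hc
    have h1 : x ^ 2 = 1 := by rw [sq]; exact mul_self_of_center hc
    have h3 := Nat.le_of_dvd (by norm_num) (orderOf_dvd_of_pow_eq_one h1)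
    omega
  have ht := tr_sq_ne h2 hxc hx
  have hmem : x ∈ TT x := mem_TT.2 rfl
  have hdvd : orderOf x ∣ Nat.card (TT x) := by
    have := orderOf_dvd_natCard (⟨x, hmem⟩ : TT x)
    rwa [Subgroup.orderOf_mk] at this
  have hcardT : Nat.card (TT x) = 2 ^ (j + 2) := by
    by_cases hs : ∃ l : F, l * l - tr x * l + 1 = 0
    · obtain ⟨l, hl⟩ := hs
      have e := Cfsg.Agent.Lib.PSL2Cnt.card_TT_split x hxc ht hl
      rw [e] at hdvd ⊢
      rcases hn with h | h
      · exact h
      · rw [hx, ← h] at hdvd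
        have := Nat.le_of_dvd (by omega) hdvd
        omega
    · push Not at hs
      have e := Cfsg.Agent.Lib.PSL2Cnt.card_TT_nonsplit x hxc ht hs
      rw [e] at hdvd ⊢
      rcases hn with h | h
      · rw [hx, ← h] at hdvd
        have h5 : Fintype.card F + 1 = (Fintype.card F - 1) + 2 := by omega
        rw [h5] at hdvd
        have h6 : Fintype.card F - 1 ∣ 2 := (Nat.dvd_add_right (dvd_refl _)).1 hdvd
        have := Nat.le_of_dvd (by norm_num) h6
        omega
      · exact h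
  have hTz : TT x = zpowers x := by
    symm
    apply Subgroup.eq_of_le_of_card_ge
    · rw [zpowers_le]; exact hmem
    · rw [Nat.card_zpowers, hx, hcardT]
  apply unique_of_index_two
  · intro P
    rw [hx]
    exact card_sylow_of_torus h2 hn P
  · intro y hy
    rw [← hTz]
    exact mem_TT.2 hy
  · intro g hg
    rw [← hTz] at hg
    exact eq_or_eq_inv h2 hxc ht (mem_TT.1 hg) (tr_conj g x)

/-- The numerical condition. -/
def Cond (p : ℕ) (F : Type*) [Fintype F] : Prop :=
  p = 2 ∧ (¬ ∃ k : ℕ, Fintype.card F + 1 = 2 ^ k) ∧ (¬ ∃ k : ℕ, Fintype.card F = 2 ^ k) ∧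
        ¬ ∃ k : ℕ, Fintype.card F = 2 ^ k + 1

theorem exists_unique_of_not_cond (p : ℕ) [Fact p.Prime] (h : ¬ Cond p F) :
    ∃ x : SL2 F, (∃ k : ℕ, orderOf x = p ^ k) ∧ UniqueSyl p x := by
  by_cases hp2 : p ≠ 2 ∨ (2 : F) = 0
  · exact exists_unique_of_abelian p hp2
  push Not at hp2
  obtain ⟨rfl, h2⟩ := hp2
  have hq : 1 < Fintype.card F := Fintype.one_lt_card
  have hqodd : ¬ 2 ∣ Fintype.card F := by
    rw [← two_eq_zero_iff]
    exact h2
  have hA : (∃ k : ℕ, Fintype.card F + 1 = 2 ^ k) ∨ (∃ k : ℕ, Fintype.card F = 2 ^ k) ∨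
      ∃ k : ℕ, Fintype.card F = 2 ^ k + 1 := by
    by_contra hcon
    push Not at hcon
    apply h
    refine ⟨rfl, ?_, ?_, ?_⟩
    · push Not; exact hcon.1
    · push Not; exact hcon.2.1
    · push Not; exact hcon.2.2
  rcases hA with ⟨k, hk⟩ | ⟨k, hk⟩ | ⟨k, hk⟩
  · rcases k with _ | _ | j
    · simp at hk
    · simp at hk; omega
    · exact exists_unique_torus h2 (j := j) (Or.inr hk)
  · exfalso
    rcases k with _ | k
    · simp at hk; omega
    · exact hqodd (hk ▸ dvd_pow_self 2 (Nat.succ_ne_zero k))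
  · rcases k with _ | _ | j
    · exfalso
      apply hqodd
      rw [hk]; simp
    · apply exists_unique_torus h2 (j := 0) (Or.inr _)
      rw [hk]; norm_num
    · apply exists_unique_torus h2 (j := j) (Or.inl _)
      rw [hk]; simp

lemma two_ne_of_cond {p : ℕ} (h : Cond p F) : (2 : F) ≠ 0 := by
  intro h2
  apply h.2.2.1
  have h3 : ringChar F = 2 := by
    have h1 : ringChar F ∣ 2 := by
      apply ringChar.dvd
      exact_mod_cast h2
    rcases (Nat.dvd_prime Nat.prime_two).1 h1 with h3 | h3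
    · exact absurd h3 (CharP.ringChar_ne_one (R := F))
    · exact h3
  haveI : CharP F 2 := h3 ▸ ringChar.charP F
  obtain ⟨n, -, hn⟩ := FiniteField.card F 2
  exact ⟨n, hn⟩

theorem redundant_SL2_iff (p : ℕ) [Fact p.Prime] : Redundant p (SL2 F) ↔ Cond p F := by
  constructor
  · intro h
    by_contra hc
    obtain ⟨x, hx, hu⟩ := exists_unique_of_not_cond p hc
    exact not_redundant_of_unique hx hu h
  · intro h
    have h2 := two_ne_of_cond h
    obtain ⟨rfl, h1, -, h3⟩ := h
    exact redundant_of_two (fun x hx => two_sylow h2 h1 h3 x hx)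

theorem redundant_PSL2_iff (p : ℕ) [Fact p.Prime] : Redundant p (PSL2 F) ↔ Cond p F := by
  constructor
  · intro h
    by_contra hc
    obtain ⟨x, hx, hu⟩ := exists_unique_of_not_cond p hc
    refine not_redundant_of_unique (x := proj x) ?_ (hu.map proj proj_surjective hx) h
    obtain ⟨k, hk⟩ := hx
    have h1 : orderOf (proj x) ∣ p ^ k := hk ▸ orderOf_map_dvd proj x
    obtain ⟨j, -, hj⟩ := (Nat.dvd_prime_pow Fact.out).1 h1
    exact ⟨j, hj⟩
  · intro h
    have h2 := two_ne_of_cond h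
    obtain ⟨rfl, h1, -, h3⟩ := h
    refine redundant_of_two (fun xb hxb => ?_)
    obtain ⟨x, rfl⟩ := proj_surjective xb
    obtain ⟨k, hk⟩ := hxb
    have hx : ∃ j : ℕ, orderOf x = 2 ^ j := by
      have h4 : proj (x ^ (2 ^ k)) = 1 := by
        rw [map_pow, ← hk]
        exact pow_orderOf_eq_one _
      rw [proj_eq_one_iff] at h4
      have h5 := mul_self_of_center h4
      have h6 : x ^ (2 ^ (k + 1)) = 1 := by
        rw [pow_succ, pow_mul, sq]
        exact h5
      obtain ⟨j, -, hj⟩ := (Nat.dvd_prime_pow Nat.prime_two).1 (orderOf_dvd_of_pow_eq_one h6)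
      exact ⟨j, hj⟩
    obtain ⟨P, P', hne, hP, hP'⟩ := two_sylow h2 h1 h3 x hx
    refine two_map proj proj_surjective ?_ hne hP hP'
    intro z
    refine ⟨1, ?_⟩
    apply Subtype.ext
    have hz : (z : SL2 F) ∈ center (SL2 F) := by
      rw [← proj_eq_one_iff]
      exact z.2
    have := mul_self_of_center hz
    change ((z : SL2 F)) ^ (2 ^ 1) = 1
    rw [pow_one, sq]
    exact this

end Cfsg.Agent.Lib.RedSL2
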