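import Mathlib
import Cfsg.Agent.Lib.RelDeg
import Cfsg.Agent.Lib.CharCommutator

/-!
# Relative degree graph, part two: descent along the derived series of `N`
-/

set_option autoImplicit false
set_option linter.unusedSectionVars false
set_option linter.unusedVariables false
set_option linter.style.haveILetI false

namespace Cfsg.Agent.Lib.RelDeg2

open Cfsg Cfsg.Agent.Lib.CharBasic Cfsg.Agent.Lib.CharInd Cfsg.Agent.Lib.CharInduction
open Cfsg.Agent.Lib.CharAut Cfsg.Agent.Lib.RealOrbit Cfsg.Agent.Lib.RealOdd Cfsg.Agent.Lib.Clifford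
open Cfsg.Agent.Lib.CharClifford Cfsg.Agent.Lib.RelDeg
open scoped ComplexConjugate

universe u

attribute [local instance] Fintype.ofFinite

section Orbit

variable {G : Type u} [Group G] [Finite G] {N : Subgroup G} [hN : N.Normal]

/-- The orbit lemma, for a linear character of any order. -/
theorem exists_noncoprime' (θ : IrrCharacter N) {M : ℕ}
    (hθ : Nat.Coprime (charDegree (θ : N → ℂ)) M) (hT : Nat.Coprime (stb θ).index M) (lam : N →* ℂˣ)
    (hlam : lam ^ M = 1) (hd : ∃ h : G, cj N h lam ≠ lam) :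
    ∃ g : G, ¬ Nat.Coprime (stb (tw N lam (irrAut (act N g) θ))).index (stb (lin N lam)).index := by
  by_contra hc
  push Not at hc
  obtain ⟨h, hh⟩ := hd
  letI := irrAct (N := N)
  set w : N →* ℂˣ := lam * (cj N h lam)⁻¹ with hw
  have hw1 : w ≠ 1 := by
    intro h1
    apply hh
    have h2 : lam * (cj N h lam)⁻¹ * cj N h lam = cj N h lam := by
      rw [← hw, h1, hom_one_mul]
    rw [hom_mul_assoc, hom_inv_mul, hom_mul_one] at h2
    exact h2.symm
  have hwk : w ^ M = 1 := by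
    have h1 : cj N h lam ^ M = 1 := by
      rw [← cj_hom_pow, hlam, cj_hom_one]
    rw [hw, hom_mul_pow, hom_inv_pow, hlam, h1, hom_inv_one, hom_mul_one]
  have hmem : ∀ x ∈ MulAction.orbit G θ, tw N w x ∈ MulAction.orbit G θ := by
    rintro x ⟨g, rfl⟩
    have hx : (fun m => m • θ) g = irrAut (act N g) θ := rfl
    rw [hx]
    set z := tw N lam (irrAut (act N g) θ) with hz
    obtain ⟨a, ha, b, hb, hab⟩ := exists_mul_of_coprime (stb z) (stb (lin N lam)) (hc g) h
    have h1 : cj N h lam = cj N a lam := by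
      rw [hab, cj_mul, mem_stb_lin.mp hb]
    have h2 : z = tw N (cj N h lam) (irrAut (act N a) (irrAut (act N g) θ)) := by
      conv_lhs => rw [← mem_stb.mp ha, hz, irrAut_tw]
      rw [h1]
    have h3 : tw N w (irrAut (act N g) θ) = irrAut (act N a) (irrAut (act N g) θ) := by
      rw [hw, hom_comm, tw_mul, ← hz, h2, ← tw_mul, hom_inv_mul, tw_one]
    rw [h3]
    exact ⟨a * g, by
      show irrAut (act N (a * g)) θ = _
      rw [map_mul, irrAut_mul]⟩
  have hmem' : ∀ (j : ℕ), ∀ x ∈ MulAction.orbit G θ, tw N (w ^ j) x ∈ MulAction.orbit G θ := by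
    intro j
    induction j with
    | zero =>
      intro x hx
      rw [hom_pow_zero, tw_one]
      exact hx
    | succ j ih =>
      intro x hx
      rw [hom_pow_succ, tw_mul]
      exact hmem _ (ih x hx)
  have hord : orderOf w ≠ 1 := fun h1 => hw1 (orderOf_eq_one_iff.mp h1)
  have hr := Nat.minFac_prime hord
  set r := (orderOf w).minFac with hrdef
  haveI : Fact r.Prime := ⟨hr⟩
  have hrord : r ∣ orderOf w := Nat.minFac_dvd _
  have hrM : r ∣ M := hrord.trans ((hom_pow_eq_one_iff w M).mp hwk)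
  obtain ⟨q, hq⟩ := hrord
  have hord0 : orderOf w ≠ 0 := by
    intro h0
    have h1 := (hom_pow_eq_one_iff w (Nat.card N)).mp (by
      ext n
      simp only [MonoidHom.pow_apply, MonoidHom.one_apply]
      rw [← map_pow, pow_card_eq_one']
      simp)
    rw [h0, zero_dvd_iff] at h1
    exact Nat.card_pos.ne' h1
  have hqpos : 0 < q := by
    rcases Nat.eq_zero_or_pos q with h0 | h0
    · rw [h0, mul_zero] at hq
      exact absurd hq hord0
    · exact h0
  set w₀ : N →* ℂˣ := w ^ q with hw₀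
  have hw₀1 : w₀ ≠ 1 := by
    intro h1
    have h2 := (hom_pow_eq_one_iff w q).mp h1
    have h3 := Nat.le_of_dvd hqpos h2
    rw [hq] at h3
    have := hr.two_le
    nlinarith
  have hw₀r : w₀ ^ r = 1 := by
    have h1 : w ^ orderOf w = 1 := pow_orderOf_eq_one w
    rw [hq] at h1
    ext n
    have h2 := congrArg (fun f : N →* ℂˣ => f n) h1
    simp only [MonoidHom.pow_apply, MonoidHom.one_apply] at h2
    simp only [hw₀, MonoidHom.pow_apply, MonoidHom.one_apply]
    rw [← pow_mul, mul_comm, h2]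
  let σ : MulAction.orbit G θ → MulAction.orbit G θ := fun x => ⟨tw N w₀ x.1, hmem' q x.1 x.2⟩
  have hσ : ∀ (j : ℕ) (x : MulAction.orbit G θ), (σ^[j] x).1 = tw N (w₀ ^ j) x.1 := by
    intro j x
    induction j with
    | zero =>
      simp only [Function.iterate_zero, id_eq]
      rw [hom_pow_zero, tw_one]
    | succ j ih =>
      rw [Function.iterate_succ_apply']
      show tw N w₀ (σ^[j] x).1 = _
      rw [ih, hom_pow_succ, tw_mul w₀ (w₀ ^ j)]
  have hdvd : r ∣ Nat.card (MulAction.orbit G θ) := by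
    apply prime_dvd_card_of_free r σ 1
    · intro x
      apply Subtype.ext
      rw [hσ, pow_one, hw₀r, tw_one]
    · intro x hx
      have h1 : tw N w₀ x.1 = x.1 := congrArg Subtype.val hx
      have h2 := pow_deg_of_tw_eq w₀ x.1 h1
      obtain ⟨g, hg⟩ := x.2
      have h3 : charDegree (x.1 : N → ℂ) = charDegree (θ : N → ℂ) := by
        rw [← hg]
        exact charDegree_irrAut g θ
      rw [h3] at h2
      apply hw₀1
      refine hom_eq_one_of_pow_coprime ?_ h2 hw₀r
      exact Nat.Coprime.coprime_dvd_right hrM hθ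
  rw [← index_stb_eq_card] at hdvd
  exact hr.one_lt.ne' (Nat.eq_one_of_dvd_coprimes hT hdvd hrM)

/-- The order of a linear character divides `|N : N'|`. -/
theorem hom_pow_relIndex (μ : N →* ℂˣ) : μ ^ (⁅N, N⁆.relIndex N) = 1 := by
  ext n
  simp only [MonoidHom.pow_apply, MonoidHom.one_apply, Units.val_pow_eq_pow_val, Units.val_one]
  rw [← card_abelianization_eq]
  have h1 : (Abelianization.lift μ (Abelianization.of n)) = μ n := Abelianization.lift_apply_of μ n
  rw [← h1, ← Units.val_pow_eq_pow_val, ← map_pow, pow_card_eq_one']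
  simp

/-- The linear case of the orbit lemma, for any order. -/
theorem not_coprime_mul' {M : ℕ} (κ lam : N →* ℂˣ) (hκ : κ ^ M = 1)
    (hr' : Nat.Coprime (stb (lin N lam)).index M) (hd : ∃ h : G, cj N h κ ≠ κ)
    (hcop : Nat.Coprime (stb (lin N κ)).index (stb (lin N lam)).index) :
    ¬ Nat.Coprime (stb (lin N (κ * lam))).index (stb (lin N κ)).index := by
  obtain ⟨g, hg⟩ := exists_noncoprime' (lin N lam) (M := M) (by
    rw [charDegree_lin]
    exact Nat.coprime_one_left M) hr' κ hκ hd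
  obtain ⟨a, ha, b, hb, hab⟩ := exists_mul_of_coprime _ _ hcop g
  have h1 : irrAut (act N g) (lin N lam) = lin N (cj N a lam) := by
    rw [irrAut_lin, hab, cj_mul, mem_stb_lin.mp hb]
  have h2 : tw N κ (irrAut (act N g) (lin N lam)) = irrAut (act N a) (lin N (κ * lam)) := by
    rw [h1, tw_lin, irrAut_lin, cj_hom_mul, mem_stb_lin.mp ha]
  rw [h2, index_stb_irrAut] at hg
  exact hg

end Orbit

section Mono

variable {G : Type u} [Group G] [Finite G]

theorem rel_mono {L N : Subgroup G} (h : L ≤ N) {a : ℕ} (ha : a ∈ relCharDegrees L) :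
    a ∈ relCharDegrees N := by
  obtain ⟨χ, ⟨x, hx, hx'⟩, hd⟩ := ha
  exact ⟨χ, ⟨x, h hx, hx'⟩, hd⟩

theorem Rch_mono {L N : Subgroup G} (h : L ≤ N) {a b : ℕ} (hr : Rch L a b) : Rch N a b := by
  obtain ⟨ha, hb, hr⟩ := hr
  refine ⟨rel_mono h ha, rel_mono h hb, ?_⟩
  have hle : relCharDegrees L ≤ relCharDegrees N := fun x hx => rel_mono h hx
  exact hr.map (SimpleGraph.induceHomOfLE commonDivisorGraph hle).toHom

end Mono

section Level

variable {G : Type u} [Group G] [Finite G]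

/-- The derived series of a subgroup, as subgroups of `G`. -/
def dser (N : Subgroup G) : ℕ → Subgroup G
  | 0 => N
  | i + 1 => ⁅dser N i, dser N i⁆

theorem dser_normal (N : Subgroup G) [hN : N.Normal] (i : ℕ) : (dser N i).Normal := by
  induction i with
  | zero => exact hN
  | succ i ih =>
    haveI := ih
    exact Subgroup.commutator_normal _ _

theorem dser_succ_le (N : Subgroup G) [hN : N.Normal] (i : ℕ) : dser N (i + 1) ≤ dser N i := by
  haveI := dser_normal N i
  exact Subgroup.commutator_le_left _ _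

theorem dser_anti (N : Subgroup G) [hN : N.Normal] {i j : ℕ} (h : i ≤ j) : dser N j ≤ dser N i :=
  antitone_nat_of_succ_le (dser_succ_le N) h

theorem dser_le (N : Subgroup G) [hN : N.Normal] (i : ℕ) : dser N i ≤ N :=
  dser_anti N (Nat.zero_le i)

theorem map_derivedSeries_eq (N : Subgroup G) (i : ℕ) :
    (derivedSeries N i).map N.subtype = dser N i := by
  induction i with
  | zero =>
    show (⊤ : Subgroup N).map N.subtype = N
    rw [← MonoidHom.range_eq_map, Subgroup.range_subtype]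
  | succ i ih =>
    show (⁅derivedSeries N i, derivedSeries N i⁆).map N.subtype = ⁅dser N i, dser N i⁆
    rw [Subgroup.map_commutator, ih]

theorem exists_dser_eq_bot (N : Subgroup G) [hs : Group.IsSolvable N] : ∃ n, dser N n = ⊥ := by
  obtain ⟨n, hn⟩ := hs.solvable
  refine ⟨n, ?_⟩
  rw [← map_derivedSeries_eq, hn, Subgroup.map_bot]

theorem dser_lt (N : Subgroup G) [hN : N.Normal] [hs : Group.IsSolvable N] {i : ℕ}
    (h : dser N i ≠ ⊥) : ⁅dser N i, dser N i⁆ < dser N i := by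
  haveI := dser_normal N i
  refine lt_of_le_of_ne (Subgroup.commutator_le_left _ _) ?_
  intro heq
  obtain ⟨n, hn⟩ := exists_dser_eq_bot N
  have hst : ∀ j, dser N (i + j) = dser N i := by
    intro j
    induction j with
    | zero => rfl
    | succ j ih =>
      show ⁅dser N (i + j), dser N (i + j)⁆ = _
      rw [ih, heq]
  apply h
  have h1 : dser N (i + n) ≤ dser N n := dser_anti N (Nat.le_add_left n i)
  rw [hst n, hn] at h1
  exact le_bot_iff.mp h1

/-- A character is nontrivial on a subgroup. -/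
def NT (χ : IrrCharacter G) (L : Subgroup G) : Prop := ∃ x ∈ L, (χ : G → ℂ) x ≠ (χ : G → ℂ) 1

theorem NT.mono {χ : IrrCharacter G} {L K : Subgroup G} (h : NT χ L) (hLK : L ≤ K) : NT χ K := by
  obtain ⟨x, hx, hx'⟩ := h
  exact ⟨x, hLK hx, hx'⟩

theorem NT.ne_bot {χ : IrrCharacter G} {L : Subgroup G} (h : NT χ L) : L ≠ ⊥ := by
  rintro rfl
  obtain ⟨x, hx, hx'⟩ := h
  rw [Subgroup.mem_bot] at hx
  rw [hx] at hx'
  exact hx' rfl

theorem exists_level (N : Subgroup G) [hs : Group.IsSolvable N] (χ : IrrCharacter G) (h : NT χ N) :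
    ∃ i, NT χ (dser N i) ∧ ¬ NT χ (dser N (i + 1)) := by
  classical
  obtain ⟨n, hn⟩ := exists_dser_eq_bot N
  have hex : ∃ n, ¬ NT χ (dser N n) := ⟨n, fun h1 => h1.ne_bot hn⟩
  have h0 : Nat.find hex ≠ 0 := by
    intro h0
    have h1 := Nat.find_spec hex
    rw [h0] at h1
    exact h1 h
  obtain ⟨i, hi⟩ := Nat.exists_eq_succ_of_ne_zero h0
  refine ⟨i, ?_, ?_⟩
  · by_contra h1
    have h2 := Nat.find_min' hex h1
    omega
  · have h1 := Nat.find_spec hex
    rw [hi] at h1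
    exact h1

end Level

section Lin

variable {G : Type u} [Group G] [Finite G]

theorem re_le_of_char {Γ : Type u} [Group Γ] [Finite Γ] {ψ : Γ → ℂ} (hψ : IsCharacter Γ ψ) (y : Γ) :
    ‖ψ y‖ ≤ (ψ 1).re := by
  obtain ⟨n, ρ, rfl⟩ := hψ
  have h1 := Cfsg.Agent.Lib.CharValues.norm_character_le ρ y
  have h2 : ρ.character 1 = (n : ℂ) := by
    rw [Representation.character, map_one]
    simp
  rw [h2]
  simpa using h1

theorem eq_of_sum_eq {Γ : Type u} [Group Γ] [Finite Γ] (s : Finset (Γ → ℂ))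
    (hs : ∀ ψ ∈ s, IsCharacter Γ ψ) (y : Γ) (h : ∑ ψ ∈ s, ψ y = ∑ ψ ∈ s, ψ 1) :
    ∀ ψ ∈ s, ψ y = ψ 1 := by
  have h1 : ∑ ψ ∈ s, (ψ y).re = ∑ ψ ∈ s, (ψ 1).re := by
    rw [← Complex.re_sum, ← Complex.re_sum, h]
  have hle : ∀ ψ ∈ s, (ψ y).re ≤ (ψ 1).re := fun ψ hψ =>
    (Complex.re_le_norm _).trans (re_le_of_char (hs ψ hψ) y)
  have h2 := (Finset.sum_eq_sum_iff_of_le hle).mp h1
  intro ψ hψ
  have h3 := h2 ψ hψ
  have h4 := re_le_of_char (hs ψ hψ) y
  have hone : (ψ 1).im = 0 := by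
    obtain ⟨n, ρ, rfl⟩ := hs ψ hψ
    have h2 : ρ.character 1 = (n : ℂ) := by
      rw [Representation.character, map_one]
      simp
    rw [h2]
    simp
  apply Complex.ext
  · exact h3
  · rw [hone]
    have h5 : ‖ψ y‖ ^ 2 = (ψ y).re ^ 2 + (ψ y).im ^ 2 := by
      rw [Complex.sq_norm, Complex.normSq_apply]
      ring
    have h6 : 0 ≤ ‖ψ y‖ := norm_nonneg _
    rw [h3] at h5
    rw [← h3] at h4
    rw [← h3] at h5
    nlinarith [sq_nonneg (ψ y).im]

/-- An irreducible character trivial on all commutators is linear. -/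
theorem charDegree_eq_one_of_comm {Γ : Type u} [Group Γ] [Finite Γ] {θ : Γ → ℂ} (hθ : IsIrrCharacter Γ θ)
    (h : ∀ a b : Γ, θ (a * b * a⁻¹ * b⁻¹) = θ 1) : charDegree θ = 1 := by
  haveI : Fintype Γ := Fintype.ofFinite Γ
  have hθ' := hθ
  obtain ⟨n, ρ, hρ, rfl⟩ := hθ
  have h1 : ∀ a b : Γ, ρ (a * b * a⁻¹ * b⁻¹) = 1 := fun a b =>
    (Cfsg.Agent.Lib.CharKernel.charKer_iff_rep ρ).mp (h a b)
  have h2 := Cfsg.Agent.Lib.CharCommutator.sum_commutator hρ
  simp only [h1, Finset.sum_const, Finset.card_univ, Module.finrank_fin_fun] at h2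
  have hn : n ≠ 0 := by
    rintro rfl
    have h3 := (isIrreducible_iff ρ).mp hρ
    have h4 : Nontrivial (Fin 0 → ℂ) := h3.1
    exact not_subsingleton (Fin 0 → ℂ) inferInstance
  have hcard : (Nat.card Γ : ℂ) ≠ 0 := by
    exact_mod_cast Nat.card_pos.ne'
  have hnc : (n : ℂ) ≠ 0 := by exact_mod_cast hn
  have h7 := congrFun (LinearMap.congr_fun h2 (fun _ => (1 : ℂ))) ⟨0, Nat.pos_of_ne_zero hn⟩
  simp only [← Nat.card_eq_fintype_card] at h7
  simp at h7
  have h8 : (n : ℂ) ^ 2 = 1 := by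
    field_simp at h7
    exact h7
  have h9 : n ^ 2 = 1 := by exact_mod_cast h8
  have h10 : n = 1 := by
    rcases Nat.pow_eq_one.mp h9 with h | h
    · exact h
    · omega
  have h11 := Cfsg.Agent.Lib.CharKernel.one_eq_charDegree (IsIrrCharacter.isCharacter hθ')
  have h12 : ρ.character 1 = (n : ℂ) := by
    rw [Representation.character, map_one]
    simp
  rw [h12] at h11
  have h13 : n = charDegree ρ.character := by exact_mod_cast h11
  rw [← h13, h10]

variable {L : Subgroup G} [hL : L.Normal]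

theorem over_sum {χ : IrrCharacter G} {θ : IrrCharacter L} (h : Over L χ θ) :
    ∃ f : ℂ, f ≠ 0 ∧ (fun n : L => (χ : G → ℂ) n) = f • ∑ ψ ∈ orb θ, ψ := by
  have hsum := restrict_eq_smul_sum L hL χ.2 θ.2 h
  have horb : (Finset.univ.image (fun g : G => conjBy L hL g (θ : L → ℂ))) = orb θ := by
    unfold orb
    congr
  rw [horb] at hsum
  exact ⟨_, h, hsum⟩

theorem self_mem_orb (θ : IrrCharacter L) : (θ : L → ℂ) ∈ orb θ := by
  rw [mem_orb]
  refine ⟨1, ?_⟩
  rw [map_one, irrAut_one]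

/-- A constituent over `L` of a character trivial on `L'` is linear. -/
theorem degree_one_of_trivial {χ : IrrCharacter G} (h : ¬ NT χ ⁅L, L⁆) {θ : IrrCharacter L}
    (hθ : Over L χ θ) : charDegree (θ : L → ℂ) = 1 := by
  obtain ⟨f, hf, hsum⟩ := over_sum hθ
  apply charDegree_eq_one_of_comm θ.2
  intro a b
  have hmem : ((a * b * a⁻¹ * b⁻¹ : L) : G) ∈ ⁅L, L⁆ := by
    have h1 := Subgroup.commutator_mem_commutator a.2 b.2
    simpa [commutatorElement_def] using h1
  have h1 : (χ : G → ℂ) ((a * b * a⁻¹ * b⁻¹ : L) : G) = (χ : G → ℂ) 1 := by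
    by_contra h2
    exact h ⟨_, hmem, h2⟩
  have h2 := congrFun hsum (a * b * a⁻¹ * b⁻¹)
  have h3 := congrFun hsum 1
  simp only [Pi.smul_apply, Finset.sum_apply, smul_eq_mul, OneMemClass.coe_one] at h2 h3
  rw [h1, h3] at h2
  have h4 := mul_left_cancel₀ hf h2
  have hchar : ∀ ψ ∈ orb θ, IsCharacter L ψ := fun ψ hψ =>
    IsIrrCharacter.isCharacter (isIrr_of_mem_orb hψ)
  exact eq_of_sum_eq (orb θ) hchar _ h4.symm _ (self_mem_orb θ)

/-- Over a linear character of `L`, the character is trivial on `L'`. -/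
theorem trivial_of_degree_one {χ : IrrCharacter G} {θ : IrrCharacter L}
    (hθ : Over L χ θ) (h1 : charDegree (θ : L → ℂ) = 1) : ¬ NT χ ⁅L, L⁆ := by
  obtain ⟨μ, rfl⟩ := exists_eq_lin h1
  obtain ⟨f, hf, hsum⟩ := over_sum hθ
  rintro ⟨x, hx, hx'⟩
  apply hx'
  have hx2 : x ∈ (commutator L).map L.subtype := by
    rw [Subgroup.map_subtype_commutator]
    exact hx
  obtain ⟨y, hy, rfl⟩ := hx2
  have h2 := congrFun hsum y
  have h3 := congrFun hsum 1
  simp only [Pi.smul_apply, Finset.sum_apply, smul_eq_mul, OneMemClass.coe_one] at h2 h3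
  show (χ : G → ℂ) (y : G) = _
  rw [h2, h3]
  congr 1
  refine Finset.sum_congr rfl fun ψ hψ => ?_
  obtain ⟨g, rfl⟩ := mem_orb.mp hψ
  rw [irrAut_lin, lin_apply, lin_apply]
  have h4 : y ∈ (cj L g μ).ker := Abelianization.commutator_subset_ker _ hy
  rw [MonoidHom.mem_ker] at h4
  rw [h4, map_one]

theorem ne_one_of_NT {χ : IrrCharacter G} (h : NT χ L) {θ : IrrCharacter L} (hθ : Over L χ θ) :
    θ ≠ lin L 1 := by
  rintro rfl
  obtain ⟨x, hx, hx'⟩ := h
  exact hx' (eq_of_over_one hθ x hx)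

end Lin

section Main

variable {G : Type u} [Group G] [Finite G]

theorem coprime_level {L : Subgroup G} [hL : L.Normal] (hL' : ⁅L, L⁆ < L) (hLG : L ≤ commutator G)
    {a b c : ℕ} (ha : a ∈ relCharDegrees L) (hb : b ∈ relCharDegrees L) (hc : c ∈ relCharDegrees L)
    (hab : ¬ Rch L a b) (hac : ¬ Rch L a c) (hbc : Nat.Coprime b c) :
    Nat.Coprime b (⁅L, L⁆.relIndex L) ∧ Nat.Coprime c (⁅L, L⁆.relIndex L) ∧
      ∀ r : ℕ, r.Prime → r ∣ ⁅L, L⁆.relIndex L → r ∣ a := by
  have hm1 : ⁅L, L⁆.relIndex L ≠ 1 := by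
    intro h
    rw [Subgroup.relIndex_eq_one] at h
    exact absurd (lt_of_lt_of_le hL' h) (lt_irrefl _)
  have hr₀ := Nat.minFac_prime hm1
  have hr₀m := Nat.minFac_dvd (⁅L, L⁆.relIndex L)
  rcases main_disc hL' hLG ha hb hab with ⟨h1, h2⟩ | ⟨h1, h2⟩ <;>
    rcases main_disc hL' hLG ha hc hac with ⟨h3, h4⟩ | ⟨h3, h4⟩
  · exact absurd (Nat.eq_one_of_dvd_coprimes hbc (h2 _ hr₀ hr₀m) (h4 _ hr₀ hr₀m)) hr₀.one_lt.ne'
  · exact absurd (Nat.eq_one_of_dvd_coprimes h1 (h4 _ hr₀ hr₀m) hr₀m) hr₀.one_lt.ne'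
  · exact absurd (Nat.eq_one_of_dvd_coprimes h3 (h2 _ hr₀ hr₀m) hr₀m) hr₀.one_lt.ne'
  · exact ⟨h1, h3, h2⟩

/-- The level below: a character over a linear character of `L` is connected to characters
nontrivial on `L'` of degree prime to `|L : L'|`, if it is divisible by the primes in `|L : L'|`. -/
theorem rch_of_level {L : Subgroup G} [hL : L.Normal] (hLG : L ≤ commutator G)
    {χa χb : IrrCharacter G} {μ : L →* ℂˣ} (hμ : Over L χa (lin L μ)) (hμ1 : μ ≠ 1)
    (hχb : NT χb ⁅L, L⁆) (hbm : Nat.Coprime (charDegree (χb : G → ℂ)) (⁅L, L⁆.relIndex L))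
    (ham : ∀ r : ℕ, r.Prime → r ∣ ⁅L, L⁆.relIndex L → r ∣ charDegree (χa : G → ℂ)) :
    Rch L (charDegree (χa : G → ℂ)) (charDegree (χb : G → ℂ)) := by
  have hLsub : ⁅L, L⁆ ≤ L := Subgroup.commutator_le_left _ _
  have hχb' : NT χb L := hχb.mono hLsub
  have haR : charDegree (χa : G → ℂ) ∈ relCharDegrees L :=
    mem_rel_of_over hμ (lin_ne_one hμ1)
  have hbR : charDegree (χb : G → ℂ) ∈ relCharDegrees L := ⟨χb, hχb', rfl⟩
  have ha0 := charDegree_ne_zero χa
  have hb0 := charDegree_ne_zero χb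
  have hμm := hom_pow_relIndex μ
  by_cases hinv : ∀ g : G, cj L g μ = μ
  · -- the invariant case
    have hord : orderOf μ ≠ 1 := fun h1 => hμ1 (orderOf_eq_one_iff.mp h1)
    have hr := Nat.minFac_prime hord
    set r := (orderOf μ).minFac with hrdef
    haveI : Fact r.Prime := ⟨hr⟩
    have hrord : r ∣ orderOf μ := Nat.minFac_dvd _
    have hrm : r ∣ ⁅L, L⁆.relIndex L := hrord.trans ((hom_pow_eq_one_iff μ _).mp hμm)
    obtain ⟨q, hq⟩ := hrord
    have hm0 : ⁅L, L⁆.relIndex L ≠ 0 := by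
      rw [← card_abelianization_eq]
      exact Nat.card_pos.ne'
    have hq0 : 0 < q := by
      rcases Nat.eq_zero_or_pos q with h0 | h0
      · have h1 := (hom_pow_eq_one_iff μ _).mp hμm
        rw [hq, h0, mul_zero, zero_dvd_iff] at h1
        exact absurd h1 hm0
      · exact h0
    set lam : L →* ℂˣ := μ ^ q with hlam
    have hlam1 : lam ≠ 1 := by
      intro h1
      have h2 := (hom_pow_eq_one_iff μ q).mp h1
      have h3 := Nat.le_of_dvd hq0 h2
      rw [hq] at h3
      have := hr.two_le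
      nlinarith
    have hlamk : lam ^ r ^ 1 = 1 := by
      have h1 : μ ^ orderOf μ = 1 := pow_orderOf_eq_one μ
      rw [hq] at h1
      ext n
      have h2 := congrArg (fun f : L →* ℂˣ => f n) h1
      simp only [MonoidHom.pow_apply, MonoidHom.one_apply] at h2
      simp only [hlam, MonoidHom.pow_apply, MonoidHom.one_apply]
      rw [← pow_mul, pow_one, mul_comm, h2]
    have hinvl : ∀ g : G, cj L g lam = lam := fun g => by
      rw [hlam, cj_hom_pow, hinv]
    obtain ⟨P⟩ : Nonempty (Sylow r G) := inferInstance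
    have hPl : (P : Subgroup G) ≤ stb (lin L lam) := fun u _ => mem_stb_lin.mpr (hinvl u)
    obtain ⟨ψ, hψ⟩ := exists_over_irr (lin L lam)
    have hψR := mem_rel_of_over hψ (lin_ne_one hlam1)
    have hrψ : r ∣ charDegree (ψ : G → ℂ) := prime_dvd_of_pow hlam1 hlamk (pow_deg_eq_one hLG hinvl hψ)
    have hrb : ¬ r ∣ charDegree (χb : G → ℂ) := fun h1 =>
      hr.one_lt.ne' (Nat.eq_one_of_dvd_coprimes hbm h1 hrm)
    obtain ⟨θ, hθ, hPθ⟩ := exists_fixed_theta (N := L) P χb hrb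
    have h1 := connect hLG P χb hχb' hrb θ hθ hPθ lam hlam1 hlamk hPl hψ
    have h2 := rch_of_gcd haR hψR (one_lt_gcd_of_dvd hr.one_lt (ham r hr hrm) hrψ ha0)
    exact h2.trans h1.symm
  · -- the non-invariant case
    push Not at hinv
    obtain ⟨θ, hθ⟩ := exists_over L χb
    have hθ1 : charDegree (θ : L → ℂ) ≠ 1 := fun h1 => trivial_of_degree_one hθ h1 hχb
    have hθ0 := charDegree_ne_zero θ
    have hθlt : 1 < charDegree (θ : L → ℂ) := by omega
    have hθdvd := degree_over hθ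
    have hθdeg : charDegree (θ : L → ℂ) ∣ charDegree (χb : G → ℂ) := (Dvd.intro_left _ rfl).trans hθdvd
    have hθstb : (stb θ).index ∣ charDegree (χb : G → ℂ) := (Dvd.intro _ rfl).trans hθdvd
    obtain ⟨g, hg⟩ := exists_noncoprime' θ (M := ⁅L, L⁆.relIndex L) (Nat.Coprime.coprime_dvd_left hθdeg hbm)
      (Nat.Coprime.coprime_dvd_left hθstb hbm) μ hμm hinv
    set ν := tw L μ (irrAut (act L g) θ) with hν
    have hνdeg : charDegree (ν : L → ℂ) = charDegree (θ : L → ℂ) := by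
      rw [hν, charDegree_tw, charDegree_irrAut]
    have hνne : ν ≠ lin L 1 := by
      intro h1
      rw [h1, charDegree_lin] at hνdeg
      exact hθ1 hνdeg.symm
    obtain ⟨γ, hγ⟩ := exists_over_irr ν
    have hγR := mem_rel_of_over hγ hνne
    have hγdvd := degree_over hγ
    rw [hνdeg] at hγdvd
    have h1 : charDegree (θ : L → ℂ) ∣ charDegree (γ : G → ℂ) := (Dvd.intro_left _ rfl).trans hγdvd
    have h2 : (stb ν).index ∣ charDegree (γ : G → ℂ) := (Dvd.intro _ rfl).trans hγdvd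
    have h3 := rch_of_gcd hbR hγR (one_lt_gcd_of_dvd hθlt hθdeg h1 hb0)
    have h4 := rch_of_gcd haR hγR (one_lt_gcd_of_not_coprime (fun h5 => hg h5.symm) (index_dvd_deg_lin hμ) h2 ha0)
    exact h4.trans h3.symm

/-- The common neighbour. -/
theorem common_neighbor {L : Subgroup G} [hL : L.Normal] (hLG : L ≤ commutator G)
    {χb χc : IrrCharacter G} {x : L →* ℂˣ} (hx : Over L χb (lin L x)) (hx1 : x ≠ 1)
    {θ : IrrCharacter L} (hθ : Over L χc θ) (hθ1 : θ ≠ lin L 1)
    (hbm : Nat.Coprime (charDegree (χb : G → ℂ)) (⁅L, L⁆.relIndex L))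
    (hcm : Nat.Coprime (charDegree (χc : G → ℂ)) (⁅L, L⁆.relIndex L))
    (hbc : Nat.Coprime (charDegree (χb : G → ℂ)) (charDegree (χc : G → ℂ))) :
    ∃ γ : IrrCharacter G, NT γ L ∧ 1 < Nat.gcd (charDegree (χb : G → ℂ)) (charDegree (γ : G → ℂ)) ∧
      1 < Nat.gcd (charDegree (γ : G → ℂ)) (charDegree (χc : G → ℂ)) := by
  have hb0 := charDegree_ne_zero χb
  have hc0 := charDegree_ne_zero χc
  have hxm := hom_pow_relIndex x
  have hninv : ∀ {y : L →* ℂˣ} {χ : IrrCharacter G}, Over L χ (lin L y) → y ≠ 1 →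
      Nat.Coprime (charDegree (χ : G → ℂ)) (⁅L, L⁆.relIndex L) → ∃ h : G, cj L h y ≠ y := by
    intro y χ hy hy1 hχm
    by_contra hno
    push Not at hno
    exact hy1 (hom_eq_one_of_pow_coprime hχm (pow_deg_eq_one hLG hno hy) (hom_pow_relIndex y))
  have hxinv := hninv hx hx1 hbm
  have hxdvd := index_dvd_deg_lin hx
  have hθdvd := degree_over hθ
  have hθdeg : charDegree (θ : L → ℂ) ∣ charDegree (χc : G → ℂ) := (Dvd.intro_left _ rfl).trans hθdvd
  have hθstb : (stb θ).index ∣ charDegree (χc : G → ℂ) := (Dvd.intro _ rfl).trans hθdvd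
  by_cases hθl : charDegree (θ : L → ℂ) = 1
  · obtain ⟨y, rfl⟩ := exists_eq_lin hθl
    have hy1 : y ≠ 1 := fun h1 => hθ1 (by rw [h1])
    have hyinv := hninv hθ hy1 hcm
    have hcop : Nat.Coprime (stb (lin L x)).index (stb (lin L y)).index :=
      Nat.Coprime.coprime_dvd_left hxdvd (Nat.Coprime.coprime_dvd_right hθstb hbc)
    have h1 := not_coprime_mul' (M := ⁅L, L⁆.relIndex L) x y hxm (Nat.Coprime.coprime_dvd_left hθstb hcm)
      hxinv hcop
    have h2 := not_coprime_mul' (M := ⁅L, L⁆.relIndex L) y x (hom_pow_relIndex y)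
      (Nat.Coprime.coprime_dvd_left hxdvd hbm) hyinv hcop.symm
    rw [hom_comm] at h2
    have hne : x * y ≠ 1 := by
      intro h3
      rw [h3, stb_lin_one_index] at h1
      exact h1 (Nat.coprime_one_left _)
    obtain ⟨γ, hγ⟩ := exists_over_irr (lin L (x * y))
    have hW := index_dvd_deg_lin hγ
    refine ⟨γ, exists_ne_of_over hγ (lin_ne_one hne), ?_, ?_⟩
    · exact one_lt_gcd_of_not_coprime (fun h5 => h1 h5.symm) hxdvd hW hb0
    · exact one_lt_gcd_of_not_coprime h2 hW hθstb (charDegree_ne_zero γ)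
  · have hθ0 := charDegree_ne_zero θ
    have hθlt : 1 < charDegree (θ : L → ℂ) := by omega
    obtain ⟨g, hg⟩ := exists_noncoprime' θ (M := ⁅L, L⁆.relIndex L) (Nat.Coprime.coprime_dvd_left hθdeg hcm)
      (Nat.Coprime.coprime_dvd_left hθstb hcm) x hxm hxinv
    set ν := tw L x (irrAut (act L g) θ) with hν
    have hνdeg : charDegree (ν : L → ℂ) = charDegree (θ : L → ℂ) := by
      rw [hν, charDegree_tw, charDegree_irrAut]
    have hνne : ν ≠ lin L 1 := by
      intro h1
      rw [h1, charDegree_lin] at hνdeg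
      exact hθl hνdeg.symm
    obtain ⟨γ, hγ⟩ := exists_over_irr ν
    have hγdvd := degree_over hγ
    rw [hνdeg] at hγdvd
    have h1 : charDegree (θ : L → ℂ) ∣ charDegree (γ : G → ℂ) := (Dvd.intro_left _ rfl).trans hγdvd
    have h2 : (stb ν).index ∣ charDegree (γ : G → ℂ) := (Dvd.intro _ rfl).trans hγdvd
    refine ⟨γ, exists_ne_of_over hγ hνne, ?_, ?_⟩
    · exact one_lt_gcd_of_not_coprime (fun h5 => hg h5.symm) hxdvd h2 hb0
    · exact one_lt_gcd_of_dvd hθlt h1 hθdeg (charDegree_ne_zero γ)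

variable {N : Subgroup G} [hN : N.Normal] [hs : Group.IsSolvable N]

theorem exists_common_aux (hNG : N ≤ commutator G) {χa χb χc : IrrCharacter G} {ia ib ic : ℕ}
    (hla : NT χa (dser N ia)) (hla' : ¬ NT χa (dser N (ia + 1)))
    (hlb : NT χb (dser N ib)) (hlb' : ¬ NT χb (dser N (ib + 1)))
    (hlc : NT χc (dser N ic)) (hle : ib ≤ ic)
    (hab : ¬ Rch N (charDegree (χa : G → ℂ)) (charDegree (χb : G → ℂ)))
    (hac : ¬ Rch N (charDegree (χa : G → ℂ)) (charDegree (χc : G → ℂ)))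
    (hbc : Nat.Coprime (charDegree (χb : G → ℂ)) (charDegree (χc : G → ℂ))) :
    ∃ γ : IrrCharacter G, NT γ N ∧ 1 < Nat.gcd (charDegree (χb : G → ℂ)) (charDegree (γ : G → ℂ)) ∧
      1 < Nat.gcd (charDegree (γ : G → ℂ)) (charDegree (χc : G → ℂ)) := by
  have hRel : ∀ {L : Subgroup G} {χ : IrrCharacter G}, NT χ L → charDegree (χ : G → ℂ) ∈ relCharDegrees L :=
    fun h => ⟨_, h, rfl⟩
  have hsub : ∀ i, dser N i ≤ commutator G := fun i => (dser_le N i).trans hNG
  by_cases hia : ib ≤ ia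
  · haveI := dser_normal N ib
    have hcL : NT χc (dser N ib) := hlc.mono (dser_anti N hle)
    have haL : NT χa (dser N ib) := hla.mono (dser_anti N hia)
    obtain ⟨h1, h2, h3⟩ := coprime_level (dser_lt N hlb.ne_bot) (hsub ib) (hRel haL) (hRel hlb) (hRel hcL)
      (fun h => hab (Rch_mono (dser_le N ib) h)) (fun h => hac (Rch_mono (dser_le N ib) h)) hbc
    obtain ⟨θb, hθb⟩ := exists_over (dser N ib) χb
    have hd1 : charDegree (θb : dser N ib → ℂ) = 1 := degree_one_of_trivial hlb' hθb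
    obtain ⟨x, rfl⟩ := exists_eq_lin hd1
    have hx1 : x ≠ 1 := fun h => ne_one_of_NT hlb hθb (by rw [h])
    obtain ⟨θc, hθc⟩ := exists_over (dser N ib) χc
    obtain ⟨γ, hγ, h4, h5⟩ := common_neighbor (hsub ib) hθb hx1 hθc (ne_one_of_NT hcL hθc) h1 h2 hbc
    exact ⟨γ, hγ.mono (dser_le N ib), h4, h5⟩
  · exfalso
    have hia' : ia + 1 ≤ ib := by omega
    haveI := dser_normal N ia
    have hJ : dser N (ia + 1) = ⁅dser N ia, dser N ia⁆ := rfl
    have hbJ' : NT χb (dser N (ia + 1)) := hlb.mono (dser_anti N hia')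
    have hcJ' : NT χc (dser N (ia + 1)) := hlc.mono (dser_anti N (hia'.trans hle))
    have hbJ : NT χb (dser N ia) := hbJ'.mono (dser_succ_le N ia)
    have hcJ : NT χc (dser N ia) := hcJ'.mono (dser_succ_le N ia)
    obtain ⟨h1, h2, h3⟩ := coprime_level (dser_lt N hla.ne_bot) (hsub ia) (hRel hla) (hRel hbJ) (hRel hcJ)
      (fun h => hab (Rch_mono (dser_le N ia) h)) (fun h => hac (Rch_mono (dser_le N ia) h)) hbc
    obtain ⟨θa, hθa⟩ := exists_over (dser N ia) χa
    have hd1 : charDegree (θa : dser N ia → ℂ) = 1 := degree_one_of_trivial hla' hθa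
    obtain ⟨μ, rfl⟩ := exists_eq_lin hd1
    have hμ1 : μ ≠ 1 := fun h => ne_one_of_NT hla hθa (by rw [h])
    exact hab (Rch_mono (dser_le N ia) (rch_of_level (hsub ia) hθa hμ1 hbJ' h1 h3))

theorem exists_common (hNG : N ≤ commutator G) {a b c : ℕ} (ha : a ∈ relCharDegrees N)
    (hb : b ∈ relCharDegrees N) (hc : c ∈ relCharDegrees N) (hab : ¬ Rch N a b) (hac : ¬ Rch N a c)
    (hbc : Nat.Coprime b c) : ∃ d ∈ relCharDegrees N, 1 < Nat.gcd b d ∧ 1 < Nat.gcd d c := by
  obtain ⟨χa, hχa, rfl⟩ := ha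
  obtain ⟨χb, hχb, rfl⟩ := hb
  obtain ⟨χc, hχc, rfl⟩ := hc
  obtain ⟨ia, hla, hla'⟩ := exists_level N χa hχa
  obtain ⟨ib, hlb, hlb'⟩ := exists_level N χb hχb
  obtain ⟨ic, hlc, hlc'⟩ := exists_level N χc hχc
  rcases le_total ib ic with hle | hle
  · obtain ⟨γ, hγ, h1, h2⟩ := exists_common_aux hNG hla hla' hlb hlb' hlc hle hab hac hbc
    exact ⟨_, ⟨γ, hγ, rfl⟩, h1, h2⟩
  · obtain ⟨γ, hγ, h1, h2⟩ := exists_common_aux hNG hla hla' hlc hlc' hlb hle hac hab hbc.symm
    refine ⟨_, ⟨γ, hγ, rfl⟩, ?_, ?_⟩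
    · rwa [Nat.gcd_comm]
    · rwa [Nat.gcd_comm]

/-- **One component is complete, the other has diameter at most two.** -/
theorem disc_structure (hNG : N ≤ commutator G)
    (hdisc : ¬ (commonDivisorGraph.induce (relCharDegrees N)).Preconnected) :
    ∃ a₀ : ↥(relCharDegrees N),
      (∀ b c : ↥(relCharDegrees N), (commonDivisorGraph.induce (relCharDegrees N)).Reachable a₀ b →
        (commonDivisorGraph.induce (relCharDegrees N)).Reachable a₀ c → b ≠ c →
        (commonDivisorGraph.induce (relCharDegrees N)).Adj b c) ∧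
      (∀ b c : ↥(relCharDegrees N), ¬ (commonDivisorGraph.induce (relCharDegrees N)).Reachable a₀ b →
        ¬ (commonDivisorGraph.induce (relCharDegrees N)).Reachable a₀ c → b ≠ c →
        (commonDivisorGraph.induce (relCharDegrees N)).Adj b c ∨
          ∃ d : ↥(relCharDegrees N), (commonDivisorGraph.induce (relCharDegrees N)).Adj b d ∧
            (commonDivisorGraph.induce (relCharDegrees N)).Adj d c) := by
  have hdisc' := hdisc
  unfold SimpleGraph.Preconnected at hdisc'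
  push Not at hdisc'
  obtain ⟨u, v, huv⟩ := hdisc'
  obtain ⟨χu, hχu, hu⟩ := u.2
  have hN' : ⁅N, N⁆ < N := dser_lt N (i := 0) (NT.ne_bot (χ := χu) hχu)
  have hnR : ∀ {x y : ↥(relCharDegrees N)}, ¬ (commonDivisorGraph.induce (relCharDegrees N)).Reachable x y →
      ¬ Rch N x.1 y.1 := by
    rintro x y h ⟨_, _, h1⟩
    exact h h1
  -- the choice of `a₀`
  have hm1 : ⁅N, N⁆.relIndex N ≠ 1 := by
    intro h
    rw [Subgroup.relIndex_eq_one] at h
    exact absurd (lt_of_lt_of_le hN' h) (lt_irrefl _)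
  have hr₀ := Nat.minFac_prime hm1
  have hr₀m := Nat.minFac_dvd (⁅N, N⁆.relIndex N)
  have hex : ∃ a₀ e : ↥(relCharDegrees N), ¬ (commonDivisorGraph.induce (relCharDegrees N)).Reachable a₀ e ∧
      Nat.Coprime e.1 (⁅N, N⁆.relIndex N) := by
    rcases main_disc hN' hNG u.2 v.2 (hnR huv) with ⟨h1, h2⟩ | ⟨h1, h2⟩
    · exact ⟨v, u, fun h => huv h.symm, h1⟩
    · exact ⟨u, v, huv, h1⟩
  obtain ⟨a₀, e, hae, he⟩ := hex
  have hdiv : ∀ b : ↥(relCharDegrees N), (commonDivisorGraph.induce (relCharDegrees N)).Reachable a₀ b →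
      (⁅N, N⁆.relIndex N).minFac ∣ b.1 := by
    intro b hb
    have h1 : ¬ (commonDivisorGraph.induce (relCharDegrees N)).Reachable b e := fun h => hae (hb.trans h)
    rcases main_disc hN' hNG b.2 e.2 (hnR h1) with ⟨h2, h3⟩ | ⟨h2, h3⟩
    · exact absurd (Nat.eq_one_of_dvd_coprimes he (h3 _ hr₀ hr₀m) hr₀m) hr₀.one_lt.ne'
    · exact h3 _ hr₀ hr₀m
  refine ⟨a₀, ?_, ?_⟩
  · intro b c hb hc hbc
    refine ⟨fun h => hbc (Subtype.ext h), ?_⟩
    have hb0 : b.1 ≠ 0 := by
      obtain ⟨χ, -, h⟩ := b.2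
      rw [← h]
      exact charDegree_ne_zero χ
    exact one_lt_gcd_of_dvd hr₀.one_lt (hdiv b hb) (hdiv c hc) hb0
  · intro b c hb hc hbc
    by_cases hg : 1 < Nat.gcd b.1 c.1
    · left
      exact ⟨fun h => hbc (Subtype.ext h), hg⟩
    · right
      have hb0 : b.1 ≠ 0 := by
        obtain ⟨χ, -, h⟩ := b.2
        rw [← h]
        exact charDegree_ne_zero χ
      have hcop : Nat.Coprime b.1 c.1 := by
        have h0 : 0 < Nat.gcd b.1 c.1 := Nat.gcd_pos_of_pos_left _ (Nat.pos_of_ne_zero hb0)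
        show Nat.gcd b.1 c.1 = 1
        omega
      obtain ⟨d, hd, h1, h2⟩ := exists_common hNG a₀.2 b.2 c.2 (hnR hb) (hnR hc) hcop
      refine ⟨⟨d, hd⟩, ⟨?_, h1⟩, ⟨?_, h2⟩⟩
      · intro h
        have h3 : d = b.1 := h.symm
        rw [h3, hcop] at h2
        exact lt_irrefl _ h2
      · intro h
        have h3 : d = c.1 := h
        rw [h3, hcop] at h1
        exact lt_irrefl _ h1

end Main

end Cfsg.Agent.Lib.RelDeg2
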