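import Cfsg.Agent.Lib.ChevRep
import Cfsg.Prelude.Def_ChevE6

/-! The 27-dimensional representation of the Steinberg group of type `E₆`, in coordinates adapted to the cubic form. -/

namespace Cfsg.Agent.Lib.RepE6F
open Cfsg.Agent.Lib.Chev Cfsg.Agent.Lib.ChevRep Cfsg.Lie

noncomputable def ex0 : Trie (List (ℕ × ℤ × ℕ)) := (.node [] (.node [] (.node [] (.node [] (.node [] .nil (.node [(0,(.negSucc 0),1)] .nil .nil)) (.node [] .nil (.node [(3,(.negSucc 0),1)] .nil .nil))) .nil) (.node [] (.node [] .nil (.node [] .nil (.node [(1,(.negSucc 0),1)] .nil .nil))) (.node [] (.node [] .nil (.node [(9,(.ofNat 1),1)] .nil .nil)) .nil))) (.node [] (.node [] (.node [] .nil (.node [] .nil (.node [(2,(.negSucc 0),1)] .nil .nil))) .nil) (.node [] .nil (.node [] (.node [] .nil (.node [(4,(.negSucc 0),1)] .nil .nil)) .nil))))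
noncomputable def ex1 : Trie (List (ℕ × ℤ × ℕ)) := (.node [] (.node [] (.node [] (.node [] .nil (.node [] .nil (.node [(5,(.negSucc 0),1)] .nil .nil))) (.node [] (.node [] .nil (.node [(1,(.ofNat 1),1)] .nil .nil)) .nil)) (.node [] .nil (.node [] (.node [] .nil (.node [(10,(.negSucc 0),1)] .nil .nil)) .nil))) (.node [] (.node [] .nil (.node [] (.node [] .nil (.node [(2,(.negSucc 0),1)] .nil .nil)) .nil)) (.node [] .nil (.node [] (.node [] .nil (.node [(6,(.ofNat 1),1)] .nil .nil)) (.node [(0,(.negSucc 0),1)] .nil .nil)))))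
noncomputable def ex2 : Trie (List (ℕ × ℤ × ℕ)) := (.node [] (.node [] .nil (.node [] .nil (.node [] (.node [] .nil (.node [(11,(.ofNat 1),1)] .nil .nil)) (.node [(0,(.negSucc 0),1)] .nil .nil)))) (.node [] (.node [] (.node [] .nil (.node [] .nil (.node [(5,(.ofNat 1),1)] .nil .nil))) (.node [] (.node [] .nil (.node [(3,(.negSucc 0),1)] .nil .nil)) .nil)) (.node [] (.node [] (.node [] .nil (.node [(1,(.ofNat 1),1)] .nil .nil)) .nil) (.node [] (.node [] .nil (.node [(7,(.negSucc 0),1)] .nil .nil)) .nil))))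
noncomputable def ex3 : Trie (List (ℕ × ℤ × ℕ)) := (.node [] (.node [] (.node [] .nil (.node [] (.node [] .nil (.node [(3,(.negSucc 0),1)] .nil .nil)) .nil)) (.node [] (.node [] .nil (.node [] .nil (.node [(5,(.negSucc 0),1)] .nil .nil))) (.node [] (.node [] .nil (.node [(12,(.negSucc 0),1)] .nil .nil)) .nil))) (.node [] (.node [] .nil (.node [] .nil (.node [(0,(.negSucc 0),1)] .nil .nil))) (.node [] (.node [] (.node [] .nil (.node [(2,(.ofNat 1),1)] .nil .nil)) .nil) (.node [] (.node [] .nil (.node [(8,(.ofNat 1),1)] .nil .nil)) .nil))))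
noncomputable def ex4 : Trie (List (ℕ × ℤ × ℕ)) := (.node [] (.node [] (.node [] (.node [] (.node [] .nil (.node [(5,(.ofNat 1),1)] .nil .nil)) .nil) .nil) (.node [] .nil (.node [] (.node [] .nil (.node [(18,(.ofNat 1),1)] .nil .nil)) (.node [(2,(.ofNat 1),1)] .nil .nil)))) (.node [] (.node [] .nil (.node [] .nil (.node [(1,(.negSucc 0),1)] .nil .nil))) (.node [] .nil (.node [] (.node [] .nil (.node [(17,(.negSucc 0),1)] .nil .nil)) (.node [(3,(.negSucc 0),1)] .nil .nil)))))
noncomputable def ex5 : Trie (List (ℕ × ℤ × ℕ)) := (.node [] (.node [] (.node [] (.node [] .nil (.node [] .nil (.node [(7,(.ofNat 1),1)] .nil .nil))) (.node [] .nil (.node [(0,(.negSucc 0),1)] .nil .nil))) (.node [] (.node [] (.node [] .nil (.node [(1,(.ofNat 1),1)] .nil .nil)) .nil) (.node [] (.node [] .nil (.node [(13,(.negSucc 0),1)] .nil .nil)) .nil))) (.node [] (.node [] (.node [] .nil (.node [] .nil (.node [(6,(.negSucc 0),1)] .nil .nil))) (.node [] (.node [] .nil (.node [(4,(.negSucc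 0),1)] .nil .nil)) .nil)) .nil))
noncomputable def ex6 : Trie (List (ℕ × ℤ × ℕ)) := (.node [] (.node [] (.node [] (.node [] .nil (.node [] .nil (.node [(8,(.negSucc 0),1)] .nil .nil))) (.node [] (.node [] .nil (.node [(4,(.negSucc 0),1)] .nil .nil)) .nil)) (.node [] (.node [] (.node [] .nil (.node [(2,(.ofNat 1),1)] .nil .nil)) (.node [] .nil (.node [(6,(.ofNat 1),1)] .nil .nil))) (.node [] (.node [] .nil (.node [(14,(.ofNat 1),1)] .nil .nil)) .nil))) (.node [] .nil (.node [] (.node [] .nil (.node [(0,(.negSucc 0),1)] .nil .nil)) .nil)))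
noncomputable def ex7 : Trie (List (ℕ × ℤ × ℕ)) := (.node [] (.node [] (.node [] (.node [] (.node [] .nil (.node [(6,(.negSucc 0),1)] .nil .nil)) (.node [] .nil (.node [(17,(.ofNat 1),1)] .nil .nil))) (.node [] .nil (.node [(2,(.ofNat 1),1)] .nil .nil))) (.node [] .nil (.node [] (.node [] .nil (.node [(19,(.negSucc 0),1)] .nil .nil)) .nil))) (.node [] .nil (.node [] (.node [] .nil (.node [(1,(.negSucc 0),1)] .nil .nil)) (.node [] .nil (.node [(4,(.negSucc 0),1)] .nil .nil)))))
noncomputable def ex8 : Trie (List (ℕ × ℤ × ℕ)) := (.node [] (.node [] .nil (.node [] (.node [] (.node [] .nil (.node [(3,(.ofNat 1),1)] .nil .nil)) (.node [(0,(.negSucc 0),1)] .nil (.node [(7,(.negSucc 0),1)] .nil .nil))) (.node [] (.node [] .nil (.node [(15,(.negSucc 0),1)] .nil .nil)) .nil))) (.node [] (.node [] (.node [] .nil (.node [] .nil (.node [(8,(.ofNat 1),1)] .nil .nil))) .nil) (.node [] (.node [] (.node [] .nil (.node [(4,(.negSucc 0),1)] .nil .nil)) .nil) .nil)))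
noncomputable def ex9 : Trie (List (ℕ × ℤ × ℕ)) := (.node [] (.node [] (.node [] (.node [] (.node [] .nil (.node [(7,(.ofNat 1),1)] .nil .nil)) .nil) (.node [] .nil (.node [(3,(.ofNat 1),1)] .nil .nil))) (.node [] (.node [] .nil (.node [(1,(.negSucc 0),1)] .nil .nil)) (.node [] (.node [] .nil (.node [(20,(.ofNat 1),1)] .nil .nil)) (.node [(4,(.negSucc 0),1)] .nil .nil)))) (.node [] (.node [] (.node [] .nil (.node [] .nil (.node [(17,(.negSucc 0),1)] .nil .nil))) .nil) .nil))
noncomputable def ex10 : Trie (List (ℕ × ℤ × ℕ)) := (.node [] (.node [] (.node [] (.node [] (.node [] .nil (.node [(8,(.negSucc 0),1)] .nil .nil)) .nil) .nil) (.node [] (.node [] .nil (.node [(2,(.negSucc 0),1)] .nil (.node [(17,(.ofNat 1),1)] .nil .nil))) (.node [] (.node [] .nil (.node [(21,(.negSucc 0),1)] .nil .nil)) .nil))) (.node [] (.node [] .nil (.node [] .nil (.node [(4,(.negSucc 0),1)] .nil .nil))) (.node [] (.node [] .nil (.node [(3,(.ofNat 1),1)] .nil .nil)) .nil)))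
noncomputable def ex11 : Trie (List (ℕ × ℤ × ℕ)) := (.node [] (.node [] (.node [] .nil (.node [] (.node [] .nil (.node [(7,(.ofNat 1),1)] .nil .nil)) .nil)) (.node [] (.node [] (.node [] .nil (.node [(5,(.ofNat 1),1)] .nil .nil)) .nil) (.node [] (.node [] .nil (.node [(16,(.ofNat 1),1)] .nil .nil)) .nil))) (.node [] (.node [] (.node [] .nil (.node [(0,(.negSucc 0),1)] .nil .nil)) (.node [] (.node [] .nil (.node [(8,(.ofNat 1),1)] .nil .nil)) .nil)) (.node [] (.node [] (.node [] .nil (.node [(6,(.ofNat 1),1)] .nil .nil)) .nil) .nil)))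
noncomputable def ex12 : Trie (List (ℕ × ℤ × ℕ)) := (.node [] (.node [] (.node [] .nil (.node [] .nil (.node [(5,(.ofNat 1),1)] .nil .nil))) (.node [] .nil (.node [] (.node [] .nil (.node [(26,(.ofNat 1),1)] .nil .nil)) (.node [(6,(.ofNat 1),1)] .nil .nil)))) (.node [] (.node [] (.node [] .nil (.node [(1,(.negSucc 0),1)] .nil .nil)) (.node [] (.node [] .nil (.node [(17,(.negSucc 0),1)] .nil .nil)) .nil)) (.node [] .nil (.node [] .nil (.node [(7,(.ofNat 1),1)] .nil .nil)))))
noncomputable def ex13 : Trie (List (ℕ × ℤ × ℕ)) := (.node [] (.node [] (.node [] .nil (.node [] (.node [] .nil (.node [(17,(.negSucc 0),1)] .nil .nil)) .nil)) (.node [] .nil (.node [] (.node [] .nil (.node [(25,(.ofNat 1),1)] .nil .nil)) .nil))) (.node [] (.node [] (.node [] .nil (.node [(2,(.negSucc 0),1)] .nil .nil)) (.node [] .nil (.node [(6,(.ofNat 1),1)] .nil .nil))) (.node [] (.node [] .nil (.node [(5,(.ofNat 1),1)] .nil .nil)) (.node [] .nil (.node [(8,(.negSucc 0),1)] .nil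 .nil)))))
noncomputable def ex14 : Trie (List (ℕ × ℤ × ℕ)) := (.node [] (.node [] .nil (.node [] (.node [] .nil (.node [(5,(.ofNat 1),1)] .nil .nil)) (.node [] (.node [] .nil (.node [(24,(.ofNat 1),1)] .nil .nil)) (.node [(8,(.negSucc 0),1)] .nil .nil)))) (.node [] (.node [] (.node [] .nil (.node [(3,(.negSucc 0),1)] .nil .nil)) (.node [] .nil (.node [(7,(.negSucc 0),1)] .nil .nil))) (.node [] (.node [] (.node [] .nil (.node [(17,(.negSucc 0),1)] .nil .nil)) .nil) .nil)))
noncomputable def ex15 : Trie (List (ℕ × ℤ × ℕ)) := (.node [] (.node [] (.node [] .nil (.node [] .nil (.node [(8,(.negSucc 0),1)] .nil .nil))) (.node [] (.node [] (.node [] .nil (.node [(17,(.negSucc 0),1)] .nil .nil)) (.node [(6,(.negSucc 0),1)] .nil .nil)) (.node [] (.node [] .nil (.node [(23,(.ofNat 1),1)] .nil .nil)) .nil))) (.node [] (.node [] (.node [] .nil (.node [(4,(.negSucc 0),1)] .nil .nil)) .nil) (.node [] (.node [] .nil (.node [(7,(.negSucc 0),1)] .nil .nil)) .nil)))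
noncomputable def ex16 : Trie (List (ℕ × ℤ × ℕ)) := (.node [] (.node [] (.node [] (.node [] .nil (.node [(0,(.negSucc 0),1)] .nil (.node [(11,(.negSucc 0),1)] .nil .nil))) .nil) .nil) (.node [] (.node [] (.node [] (.node [] .nil (.node [(1,(.ofNat 1),1)] .nil .nil)) (.node [] .nil (.node [(10,(.ofNat 1),1)] .nil .nil))) (.node [] (.node [] .nil (.node [(9,(.ofNat 1),1)] .nil .nil)) .nil)) (.node [] .nil (.node [] (.node [] .nil (.node [(13,(.ofNat 1),1)] .nil .nil)) .nil))))
noncomputable def ex17 : Trie (List (ℕ × ℤ × ℕ)) := (.node [] (.node [] (.node [] (.node [] .nil (.node [] .nil (.node [(12,(.ofNat 1),1)] .nil .nil))) (.node [] (.node [] .nil (.node [(9,(.ofNat 1),1)] .nil .nil)) .nil)) (.node [] (.node [] .nil (.node [] .nil (.node [(10,(.negSucc 0),1)] .nil .nil))) .nil)) (.node [] (.node [] (.node [] (.node [] .nil (.node [(2,(.ofNat 1),1)] .nil .nil)) .nil) .nil) (.node [] .nil (.node [(0,(.negSucc 0),1)] (.node [] .nil (.node [(14,(.negSucc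 0),1)] .nil .nil)) .nil))))
noncomputable def ex18 : Trie (List (ℕ × ℤ × ℕ)) := (.node [] (.node [] (.node [] (.node [] (.node [] .nil (.node [(10,(.ofNat 1),1)] .nil .nil)) (.node [(2,(.ofNat 1),1)] .nil (.node [(18,(.negSucc 0),1)] .nil .nil))) .nil) .nil) (.node [] .nil (.node [] .nil (.node [(1,(.negSucc 0),1)] (.node [] .nil (.node [(19,(.ofNat 1),1)] .nil .nil)) (.node [(9,(.ofNat 1),1)] .nil .nil)))))
noncomputable def ex19 : Trie (List (ℕ × ℤ × ℕ)) := (.node [] (.node [] .nil (.node [] (.node [] .nil (.node [] .nil (.node [(11,(.ofNat 1),1)] .nil .nil))) (.node [(0,(.negSucc 0),1)] .nil .nil))) (.node [] (.node [] (.node [] (.node [] .nil (.node [(3,(.ofNat 1),1)] .nil .nil)) (.node [] .nil (.node [(12,(.negSucc 0),1)] .nil .nil))) .nil) (.node [] (.node [] (.node [] .nil (.node [(9,(.ofNat 1),1)] .nil .nil)) .nil) (.node [] (.node [] .nil (.node [(15,(.ofNat 1),1)] .nil .nil)) .nil))))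
noncomputable def ex20 : Trie (List (ℕ × ℤ × ℕ)) := (.node [] (.node [] (.node [] (.node [] (.node [] .nil (.node [(11,(.negSucc 0),1)] .nil .nil)) (.node [(3,(.ofNat 1),1)] .nil .nil)) .nil) (.node [] .nil (.node [(1,(.negSucc 0),1)] .nil (.node [(9,(.ofNat 1),1)] .nil .nil)))) (.node [] (.node [] (.node [] .nil (.node [] .nil (.node [(18,(.ofNat 1),1)] .nil .nil))) .nil) (.node [] .nil (.node [] (.node [] .nil (.node [(20,(.negSucc 0),1)] .nil .nil)) .nil))))
noncomputable def ex21 : Trie (List (ℕ × ℤ × ℕ)) := (.node [] (.node [] (.node [] (.node [] (.node [] .nil (.node [(12,(.ofNat 1),1)] .nil .nil)) .nil) .nil) (.node [] (.node [] .nil (.node [] .nil (.node [(18,(.negSucc 0),1)] .nil .nil))) (.node [(2,(.negSucc 0),1)] .nil .nil))) (.node [] (.node [] .nil (.node [] .nil (.node [(9,(.ofNat 1),1)] .nil .nil))) (.node [] .nil (.node [(3,(.ofNat 1),1)] (.node [] .nil (.node [(21,(.ofNat 1),1)] .nil .nil)) .nil))))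
noncomputable def ex22 : Trie (List (ℕ × ℤ × ℕ)) := (.node [] (.node [] (.node [] (.node [] .nil (.node [] .nil (.node [(15,(.negSucc 0),1)] .nil .nil))) .nil) (.node [] (.node [] (.node [] .nil (.node [(9,(.ofNat 1),1)] .nil .nil)) (.node [] .nil (.node [(13,(.negSucc 0),1)] .nil .nil))) .nil)) (.node [] (.node [] (.node [] (.node [] .nil (.node [(4,(.ofNat 1),1)] .nil .nil)) (.node [] .nil (.node [(14,(.ofNat 1),1)] .nil .nil))) (.node [(0,(.negSucc 0),1)] .nil .nil)) .nil))
noncomputable def ex23 : Trie (List (ℕ × ℤ × ℕ)) := (.node [] (.node [] (.node [] (.node [] (.node [] .nil (.node [(13,(.ofNat 1),1)] .nil .nil)) (.node [(4,(.ofNat 1),1)] .nil (.node [(20,(.ofNat 1),1)] .nil .nil))) (.node [] .nil (.node [(9,(.ofNat 1),1)] .nil .nil))) .nil) (.node [] (.node [] (.node [] .nil (.node [] .nil (.node [(19,(.negSucc 0),1)] .nil .nil))) (.node [(1,(.negSucc 0),1)] .nil .nil)) .nil))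
noncomputable def ex24 : Trie (List (ℕ × ℤ × ℕ)) := (.node [] (.node [] (.node [] (.node [] (.node [] .nil (.node [(14,(.negSucc 0),1)] .nil .nil)) (.node [] .nil (.node [(21,(.negSucc 0),1)] .nil .nil))) .nil) (.node [] (.node [] .nil (.node [] .nil (.node [(19,(.ofNat 1),1)] .nil .nil))) .nil)) (.node [] (.node [] .nil (.node [(2,(.negSucc 0),1)] .nil .nil)) (.node [] (.node [] .nil (.node [(9,(.ofNat 1),1)] .nil .nil)) (.node [(4,(.ofNat 1),1)] .nil .nil))))
noncomputable def ex25 : Trie (List (ℕ × ℤ × ℕ)) := (.node [] (.node [] (.node [] (.node [] (.node [] .nil (.node [(15,(.ofNat 1),1)] .nil .nil)) .nil) .nil) (.node [] (.node [] .nil (.node [(9,(.ofNat 1),1)] .nil (.node [(20,(.negSucc 0),1)] .nil .nil))) (.node [(4,(.ofNat 1),1)] .nil .nil))) (.node [] (.node [] (.node [] .nil (.node [] .nil (.node [(21,(.ofNat 1),1)] .nil .nil))) (.node [(3,(.negSucc 0),1)] .nil .nil)) .nil))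
noncomputable def ex26 : Trie (List (ℕ × ℤ × ℕ)) := (.node [] (.node [] (.node [] .nil (.node [(0,(.negSucc 0),1)] (.node [] .nil (.node [(11,(.negSucc 0),1)] .nil .nil)) .nil)) .nil) (.node [] (.node [] (.node [] (.node [] .nil (.node [(5,(.ofNat 1),1)] .nil .nil)) .nil) (.node [] (.node [] .nil (.node [(12,(.negSucc 0),1)] .nil .nil)) .nil)) (.node [] (.node [] (.node [] .nil (.node [(10,(.negSucc 0),1)] .nil .nil)) .nil) (.node [] (.node [] .nil (.node [(16,(.negSucc 0),1)] .nil .nil)) .nil))))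
noncomputable def ex27 : Trie (List (ℕ × ℤ × ℕ)) := (.node [] (.node [] (.node [] (.node [] .nil (.node [(5,(.ofNat 1),1)] .nil .nil)) (.node [(1,(.negSucc 0),1)] .nil .nil)) (.node [] .nil (.node [] .nil (.node [(10,(.negSucc 0),1)] .nil .nil)))) (.node [] (.node [] .nil (.node [] (.node [] .nil (.node [(18,(.ofNat 1),1)] .nil .nil)) .nil)) (.node [] .nil (.node [] (.node [] .nil (.node [(26,(.negSucc 0),1)] .nil .nil)) (.node [(11,(.negSucc 0),1)] .nil .nil)))))
noncomputable def ex28 : Trie (List (ℕ × ℤ × ℕ)) := (.node [] (.node [] (.node [] .nil (.node [(2,(.negSucc 0),1)] (.node [] .nil (.node [(18,(.ofNat 1),1)] .nil .nil)) .nil)) .nil) (.node [] (.node [] .nil (.node [] .nil (.node [(10,(.negSucc 0),1)] .nil .nil))) (.node [] .nil (.node [(5,(.ofNat 1),1)] (.node [] .nil (.node [(25,(.negSucc 0),1)] .nil .nil)) (.node [(12,(.ofNat 1),1)] .nil .nil)))))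
noncomputable def ex29 : Trie (List (ℕ × ℤ × ℕ)) := (.node [] (.node [] (.node [] .nil (.node [(3,(.negSucc 0),1)] .nil .nil)) (.node [] .nil (.node [(5,(.ofNat 1),1)] .nil (.node [(12,(.ofNat 1),1)] .nil .nil)))) (.node [] (.node [] .nil (.node [] .nil (.node [(11,(.ofNat 1),1)] .nil .nil))) (.node [] (.node [] (.node [] .nil (.node [(18,(.ofNat 1),1)] .nil .nil)) .nil) (.node [] (.node [] .nil (.node [(24,(.negSucc 0),1)] .nil .nil)) .nil))))
noncomputable def ex30 : Trie (List (ℕ × ℤ × ℕ)) := (.node [] (.node [] (.node [] (.node [] .nil (.node [] .nil (.node [(16,(.negSucc 0),1)] .nil .nil))) (.node [] (.node [] .nil (.node [(13,(.negSucc 0),1)] .nil .nil)) .nil)) (.node [] (.node [] (.node [] .nil (.node [(10,(.ofNat 1),1)] .nil .nil)) .nil) .nil)) (.node [] (.node [] (.node [] (.node [] .nil (.node [(6,(.ofNat 1),1)] .nil .nil)) .nil) (.node [] (.node [] .nil (.node [(14,(.negSucc 0),1)] .nil .nil)) .nil)) (.node [(0,(.negSucc 0),1)] .nil .nil)))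
noncomputable def ex31 : Trie (List (ℕ × ℤ × ℕ)) := (.node [] (.node [] (.node [] (.node [] .nil (.node [(6,(.ofNat 1),1)] .nil (.node [(26,(.negSucc 0),1)] .nil .nil))) (.node [] .nil (.node [(10,(.ofNat 1),1)] .nil .nil))) .nil) (.node [] (.node [] .nil (.node [] (.node [] .nil (.node [(19,(.ofNat 1),1)] .nil .nil)) .nil)) (.node [(1,(.negSucc 0),1)] .nil (.node [] .nil (.node [(13,(.negSucc 0),1)] .nil .nil)))))
noncomputable def ex32 : Trie (List (ℕ × ℤ × ℕ)) := (.node [] (.node [] (.node [] (.node [] .nil (.node [] .nil (.node [(25,(.negSucc 0),1)] .nil .nil))) (.node [] (.node [] .nil (.node [(19,(.ofNat 1),1)] .nil .nil)) .nil)) .nil) (.node [] .nil (.node [(2,(.negSucc 0),1)] (.node [] .nil (.node [(10,(.ofNat 1),1)] .nil .nil)) (.node [(6,(.ofNat 1),1)] .nil (.node [(14,(.ofNat 1),1)] .nil .nil)))))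
noncomputable def ex33 : Trie (List (ℕ × ℤ × ℕ)) := (.node [] (.node [] .nil (.node [(0,(.negSucc 0),1)] (.node [] (.node [] .nil (.node [(11,(.ofNat 1),1)] .nil .nil)) .nil) .nil)) (.node [] (.node [] (.node [] (.node [] .nil (.node [(7,(.ofNat 1),1)] .nil .nil)) (.node [] .nil (.node [(16,(.negSucc 0),1)] .nil .nil))) (.node [] (.node [] .nil (.node [(15,(.negSucc 0),1)] .nil .nil)) .nil)) (.node [] (.node [] (.node [] .nil (.node [(13,(.ofNat 1),1)] .nil .nil)) .nil) .nil)))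
noncomputable def ex34 : Trie (List (ℕ × ℤ × ℕ)) := (.node [] (.node [] (.node [] (.node [] .nil (.node [(7,(.ofNat 1),1)] .nil .nil)) (.node [] .nil (.node [(11,(.ofNat 1),1)] .nil .nil))) (.node [(1,(.negSucc 0),1)] .nil (.node [] .nil (.node [(13,(.ofNat 1),1)] .nil .nil)))) (.node [] (.node [] (.node [] .nil (.node [] .nil (.node [(26,(.negSucc 0),1)] .nil .nil))) (.node [] (.node [] .nil (.node [(20,(.ofNat 1),1)] .nil .nil)) .nil)) .nil))
noncomputable def ex35 : Trie (List (ℕ × ℤ × ℕ)) := (.node [] (.node [] (.node [] .nil (.node [] (.node [] .nil (.node [(15,(.ofNat 1),1)] .nil .nil)) .nil)) (.node [] (.node [] (.node [] .nil (.node [(12,(.ofNat 1),1)] .nil .nil)) (.node [] .nil (.node [(16,(.negSucc 0),1)] .nil .nil))) .nil)) (.node [(0,(.negSucc 0),1)] (.node [] (.node [] (.node [] .nil (.node [(8,(.ofNat 1),1)] .nil .nil)) .nil) .nil) (.node [] (.node [] (.node [] .nil (.node [(14,(.ofNat 1),1)] .nil .nil)) .nil) .nil)))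
noncomputable def ex36 : Trie (List (ℕ × ℤ × ℕ)) := (.node [(1,(.negSucc 0),1)] (.node [] (.node [] (.node [] (.node [] .nil (.node [(26,(.negSucc 0),1)] .nil .nil)) (.node [(17,(.ofNat 1),1)] .nil .nil)) (.node [] .nil (.node [(18,(.ofNat 1),1)] .nil .nil))) (.node [] .nil (.node [] .nil (.node [(19,(.ofNat 1),1)] .nil .nil)))) (.node [] .nil (.node [] .nil (.node [] .nil (.node [(20,(.ofNat 1),1)] .nil .nil)))))
noncomputable def ex37 : Trie (List (ℕ × ℤ × ℕ)) := (.node [] (.node [] (.node [] .nil (.node [] (.node [] .nil (.node [(21,(.ofNat 1),1)] .nil .nil)) .nil)) (.node [] (.node [] .nil (.node [] .nil (.node [(25,(.negSucc 0),1)] .nil .nil))) .nil)) (.node [(2,(.negSucc 0),1)] (.node [] .nil (.node [] .nil (.node [(14,(.ofNat 1),1)] .nil .nil))) (.node [] (.node [] .nil (.node [(12,(.ofNat 1),1)] .nil .nil)) (.node [(8,(.ofNat 1),1)] .nil .nil))))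
noncomputable def ex38 : Trie (List (ℕ × ℤ × ℕ)) := (.node [(2,(.negSucc 0),1)] (.node [] (.node [] (.node [] (.node [] .nil (.node [(25,(.negSucc 0),1)] .nil .nil)) .nil) .nil) .nil) (.node [] (.node [] .nil (.node [] .nil (.node [(19,(.ofNat 1),1)] .nil .nil))) (.node [] (.node [] .nil (.node [(18,(.ofNat 1),1)] .nil .nil)) (.node [(17,(.ofNat 1),1)] .nil (.node [(21,(.negSucc 0),1)] .nil .nil)))))
noncomputable def ex39 : Trie (List (ℕ × ℤ × ℕ)) := (.node [] (.node [] .nil (.node [(3,(.negSucc 0),1)] (.node [] .nil (.node [(11,(.ofNat 1),1)] .nil .nil)) (.node [(7,(.ofNat 1),1)] .nil (.node [(15,(.ofNat 1),1)] .nil .nil)))) (.node [] (.node [] (.node [] .nil (.node [] .nil (.node [(24,(.negSucc 0),1)] .nil .nil))) .nil) (.node [] (.node [] (.node [] .nil (.node [(20,(.ofNat 1),1)] .nil .nil)) .nil) .nil)))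
noncomputable def ex40 : Trie (List (ℕ × ℤ × ℕ)) := (.node [] (.node [] .nil (.node [] (.node [] .nil (.node [(12,(.ofNat 1),1)] .nil (.node [(24,(.negSucc 0),1)] .nil .nil))) (.node [(8,(.ofNat 1),1)] .nil .nil))) (.node [(3,(.negSucc 0),1)] (.node [] .nil (.node [] .nil (.node [(15,(.negSucc 0),1)] .nil .nil))) (.node [] (.node [] (.node [] .nil (.node [(21,(.ofNat 1),1)] .nil .nil)) .nil) .nil)))
noncomputable def ex41 : Trie (List (ℕ × ℤ × ℕ)) := (.node [(3,(.negSucc 0),1)] (.node [] (.node [] (.node [] (.node [] .nil (.node [(24,(.negSucc 0),1)] .nil .nil)) .nil) .nil) (.node [] (.node [] .nil (.node [(18,(.ofNat 1),1)] .nil .nil)) (.node [(17,(.ofNat 1),1)] .nil (.node [(21,(.negSucc 0),1)] .nil .nil)))) (.node [] (.node [] .nil (.node [] .nil (.node [(20,(.negSucc 0),1)] .nil .nil))) .nil))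
noncomputable def ex42 : Trie (List (ℕ × ℤ × ℕ)) := (.node [] (.node [] (.node [] (.node [] .nil (.node [] .nil (.node [(23,(.negSucc 0),1)] .nil .nil))) (.node [] .nil (.node [(14,(.ofNat 1),1)] .nil .nil))) (.node [] (.node [] (.node [] .nil (.node [(19,(.ofNat 1),1)] .nil .nil)) .nil) .nil)) (.node [] (.node [] .nil (.node [(6,(.ofNat 1),1)] .nil .nil)) (.node [(4,(.negSucc 0),1)] (.node [] .nil (.node [(13,(.ofNat 1),1)] .nil .nil)) .nil)))
noncomputable def ex43 : Trie (List (ℕ × ℤ × ℕ)) := (.node [] (.node [] (.node [] .nil (.node [] .nil (.node [(15,(.ofNat 1),1)] .nil .nil))) (.node [(4,(.negSucc 0),1)] (.node [] (.node [] .nil (.node [(20,(.ofNat 1),1)] .nil .nil)) (.node [(13,(.negSucc 0),1)] .nil .nil)) .nil)) (.node [] (.node [] (.node [] .nil (.node [] .nil (.node [(23,(.negSucc 0),1)] .nil .nil))) (.node [(7,(.ofNat 1),1)] .nil .nil)) .nil))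
noncomputable def ex44 : Trie (List (ℕ × ℤ × ℕ)) := (.node [] (.node [] .nil (.node [] (.node [] (.node [] .nil (.node [(21,(.ofNat 1),1)] .nil .nil)) (.node [(14,(.negSucc 0),1)] .nil (.node [(23,(.negSucc 0),1)] .nil .nil))) .nil)) (.node [(4,(.negSucc 0),1)] (.node [] .nil (.node [(8,(.ofNat 1),1)] .nil .nil)) (.node [] (.node [] .nil (.node [(15,(.negSucc 0),1)] .nil .nil)) .nil)))
noncomputable def ex45 : Trie (List (ℕ × ℤ × ℕ)) := (.node [(4,(.negSucc 0),1)] (.node [] (.node [] (.node [] (.node [] .nil (.node [(23,(.negSucc 0),1)] .nil .nil)) .nil) (.node [] .nil (.node [(21,(.negSucc 0),1)] .nil .nil))) (.node [] (.node [] .nil (.node [(19,(.negSucc 0),1)] .nil .nil)) .nil)) (.node [] (.node [] .nil (.node [(17,(.ofNat 1),1)] .nil .nil)) (.node [] (.node [] .nil (.node [(20,(.negSucc 0),1)] .nil .nil)) .nil)))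
noncomputable def ex46 : Trie (List (ℕ × ℤ × ℕ)) := (.node [] (.node [] (.node [] .nil (.node [(6,(.ofNat 1),1)] (.node [] .nil (.node [(26,(.negSucc 0),1)] .nil .nil)) .nil)) .nil) (.node [] (.node [] (.node [] .nil (.node [(10,(.ofNat 1),1)] .nil .nil)) (.node [] (.node [] .nil (.node [(25,(.ofNat 1),1)] .nil .nil)) .nil)) (.node [(5,(.negSucc 0),1)] .nil (.node [] .nil (.node [(16,(.ofNat 1),1)] .nil .nil)))))
noncomputable def ex47 : Trie (List (ℕ × ℤ × ℕ)) := (.node [] (.node [] (.node [] .nil (.node [(7,(.ofNat 1),1)] .nil .nil)) (.node [(5,(.negSucc 0),1)] .nil (.node [] .nil (.node [(16,(.negSucc 0),1)] .nil .nil)))) (.node [] (.node [] (.node [] .nil (.node [(11,(.ofNat 1),1)] .nil .nil)) (.node [] (.node [] .nil (.node [(24,(.negSucc 0),1)] .nil .nil)) .nil)) (.node [] (.node [] (.node [] .nil (.node [(26,(.ofNat 1),1)] .nil .nil)) .nil) .nil)))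
noncomputable def ex48 : Trie (List (ℕ × ℤ × ℕ)) := (.node [] (.node [] (.node [] .nil (.node [(8,(.ofNat 1),1)] (.node [] .nil (.node [(24,(.ofNat 1),1)] .nil .nil)) .nil)) .nil) (.node [(5,(.negSucc 0),1)] (.node [] (.node [] .nil (.node [(12,(.ofNat 1),1)] .nil .nil)) (.node [] .nil (.node [(16,(.ofNat 1),1)] .nil .nil))) (.node [] (.node [] (.node [] .nil (.node [(25,(.negSucc 0),1)] .nil .nil)) .nil) .nil)))
noncomputable def ex49 : Trie (List (ℕ × ℤ × ℕ)) := (.node [(5,(.negSucc 0),1)] (.node [] (.node [] .nil (.node [(17,(.ofNat 1),1)] .nil .nil)) (.node [] .nil (.node [] .nil (.node [(25,(.ofNat 1),1)] .nil .nil)))) (.node [] (.node [] (.node [] .nil (.node [(18,(.ofNat 1),1)] .nil .nil)) (.node [] .nil (.node [(26,(.negSucc 0),1)] .nil .nil))) (.node [] .nil (.node [] .nil (.node [(24,(.negSucc 0),1)] .nil .nil)))))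
noncomputable def ex50 : Trie (List (ℕ × ℤ × ℕ)) := (.node [] (.node [] (.node [] .nil (.node [] .nil (.node [(16,(.ofNat 1),1)] .nil .nil))) (.node [(6,(.negSucc 0),1)] (.node [] (.node [] .nil (.node [(26,(.negSucc 0),1)] .nil .nil)) .nil) .nil)) (.node [] (.node [] (.node [] .nil (.node [(13,(.ofNat 1),1)] .nil .nil)) (.node [] (.node [] .nil (.node [(23,(.ofNat 1),1)] .nil .nil)) .nil)) (.node [(7,(.ofNat 1),1)] .nil .nil)))
noncomputable def ex51 : Trie (List (ℕ × ℤ × ℕ)) := (.node [] (.node [] (.node [] .nil (.node [] (.node [] .nil (.node [(23,(.negSucc 0),1)] .nil .nil)) .nil)) (.node [] (.node [] (.node [] .nil (.node [(25,(.ofNat 1),1)] .nil .nil)) .nil) .nil)) (.node [(6,(.negSucc 0),1)] (.node [] (.node [] .nil (.node [(14,(.ofNat 1),1)] .nil .nil)) .nil) (.node [(8,(.ofNat 1),1)] (.node [] .nil (.node [(16,(.negSucc 0),1)] .nil .nil)) .nil)))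
noncomputable def ex52 : Trie (List (ℕ × ℤ × ℕ)) := (.node [(6,(.negSucc 0),1)] (.node [] (.node [] .nil (.node [] .nil (.node [(25,(.negSucc 0),1)] .nil .nil))) .nil) (.node [] (.node [] (.node [] .nil (.node [(19,(.ofNat 1),1)] .nil .nil)) .nil) (.node [(17,(.ofNat 1),1)] (.node [] .nil (.node [(26,(.ofNat 1),1)] .nil .nil)) (.node [] .nil (.node [(23,(.ofNat 1),1)] .nil .nil)))))
noncomputable def ex53 : Trie (List (ℕ × ℤ × ℕ)) := (.node [] (.node [] .nil (.node [(8,(.ofNat 1),1)] (.node [] (.node [] .nil (.node [(24,(.negSucc 0),1)] .nil .nil)) (.node [(16,(.ofNat 1),1)] .nil .nil)) .nil)) (.node [(7,(.negSucc 0),1)] (.node [] (.node [] .nil (.node [(15,(.ofNat 1),1)] .nil .nil)) .nil) (.node [] (.node [] (.node [] .nil (.node [(23,(.ofNat 1),1)] .nil .nil)) .nil) .nil)))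
noncomputable def ex54 : Trie (List (ℕ × ℤ × ℕ)) := (.node [(7,(.negSucc 0),1)] (.node [] (.node [] .nil (.node [] .nil (.node [(24,(.ofNat 1),1)] .nil .nil))) (.node [(17,(.ofNat 1),1)] (.node [] .nil (.node [(26,(.negSucc 0),1)] .nil .nil)) (.node [] .nil (.node [(23,(.negSucc 0),1)] .nil .nil)))) (.node [] (.node [] (.node [] .nil (.node [(20,(.ofNat 1),1)] .nil .nil)) .nil) .nil))
noncomputable def ex55 : Trie (List (ℕ × ℤ × ℕ)) := (.node [(8,(.negSucc 0),1)] (.node [] .nil (.node [] (.node [] .nil (.node [(25,(.ofNat 1),1)] .nil .nil)) .nil)) (.node [(17,(.ofNat 1),1)] (.node [] (.node [] .nil (.node [(21,(.ofNat 1),1)] .nil .nil)) (.node [] .nil (.node [(23,(.ofNat 1),1)] .nil .nil))) (.node [] (.node [] .nil (.node [(24,(.negSucc 0),1)] .nil .nil)) .nil)))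
noncomputable def ex56 : Trie (List (ℕ × ℤ × ℕ)) := (.node [] (.node [] (.node [] (.node [] .nil (.node [(12,(.negSucc 0),1)] .nil .nil)) (.node [(9,(.negSucc 0),1)] .nil .nil)) (.node [] .nil (.node [(10,(.negSucc 0),1)] .nil .nil))) (.node [] (.node [] (.node [] (.node [] .nil (.node [(18,(.negSucc 0),1)] .nil .nil)) .nil) .nil) (.node [] .nil (.node [(11,(.negSucc 0),1)] (.node [] .nil (.node [(22,(.ofNat 1),1)] .nil .nil)) .nil))))
noncomputable def ex57 : Trie (List (ℕ × ℤ × ℕ)) := (.node [] (.node [] (.node [] (.node [] .nil (.node [(14,(.negSucc 0),1)] .nil (.node [(22,(.ofNat 1),1)] .nil .nil))) .nil) .nil) (.node [] (.node [] (.node [] (.node [] .nil (.node [(19,(.negSucc 0),1)] .nil .nil)) .nil) (.node [(10,(.ofNat 1),1)] .nil .nil)) (.node [(9,(.negSucc 0),1)] .nil (.node [(13,(.negSucc 0),1)] .nil .nil))))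
noncomputable def ex58 : Trie (List (ℕ × ℤ × ℕ)) := (.node [] (.node [] (.node [] (.node [] .nil (.node [(15,(.negSucc 0),1)] .nil .nil)) .nil) (.node [(9,(.negSucc 0),1)] .nil (.node [(13,(.ofNat 1),1)] .nil .nil))) (.node [] (.node [] (.node [] (.node [] .nil (.node [(20,(.negSucc 0),1)] .nil .nil)) (.node [] .nil (.node [(22,(.ofNat 1),1)] .nil .nil))) (.node [(11,(.ofNat 1),1)] .nil .nil)) .nil))
noncomputable def ex59 : Trie (List (ℕ × ℤ × ℕ)) := (.node [] (.node [] .nil (.node [] (.node [] .nil (.node [] .nil (.node [(22,(.ofNat 1),1)] .nil .nil))) (.node [(14,(.ofNat 1),1)] .nil .nil))) (.node [(9,(.negSucc 0),1)] (.node [] (.node [] (.node [] .nil (.node [(21,(.negSucc 0),1)] .nil .nil)) .nil) (.node [(12,(.ofNat 1),1)] .nil .nil)) (.node [] .nil (.node [(15,(.ofNat 1),1)] .nil .nil))))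
noncomputable def ex60 : Trie (List (ℕ × ℤ × ℕ)) := (.node [(9,(.negSucc 0),1)] (.node [] (.node [] (.node [] (.node [] .nil (.node [(22,(.ofNat 1),1)] .nil .nil)) (.node [(21,(.ofNat 1),1)] .nil .nil)) .nil) (.node [] .nil (.node [(19,(.ofNat 1),1)] .nil .nil))) (.node [] (.node [] .nil (.node [(18,(.ofNat 1),1)] .nil .nil)) (.node [] .nil (.node [(20,(.ofNat 1),1)] .nil .nil))))
noncomputable def ex61 : Trie (List (ℕ × ℤ × ℕ)) := (.node [] (.node [] (.node [] (.node [] .nil (.node [(16,(.negSucc 0),1)] .nil .nil)) (.node [(13,(.negSucc 0),1)] .nil .nil)) (.node [(10,(.negSucc 0),1)] .nil .nil)) (.node [] (.node [] (.node [] (.node [] .nil (.node [(26,(.ofNat 1),1)] .nil .nil)) .nil) (.node [] (.node [] .nil (.node [(22,(.negSucc 0),1)] .nil .nil)) .nil)) (.node [(11,(.ofNat 1),1)] .nil .nil)))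
noncomputable def ex62 : Trie (List (ℕ × ℤ × ℕ)) := (.node [] (.node [] (.node [] .nil (.node [(14,(.negSucc 0),1)] (.node [] .nil (.node [(22,(.ofNat 1),1)] .nil .nil)) .nil)) .nil) (.node [(10,(.negSucc 0),1)] (.node [] (.node [] (.node [] .nil (.node [(25,(.negSucc 0),1)] .nil .nil)) .nil) .nil) (.node [(12,(.ofNat 1),1)] .nil (.node [(16,(.ofNat 1),1)] .nil .nil))))
noncomputable def ex63 : Trie (List (ℕ × ℤ × ℕ)) := (.node [(10,(.negSucc 0),1)] (.node [] (.node [] (.node [] .nil (.node [(25,(.ofNat 1),1)] .nil .nil)) (.node [(19,(.negSucc 0),1)] .nil .nil)) .nil) (.node [] .nil (.node [(18,(.ofNat 1),1)] .nil (.node [(26,(.negSucc 0),1)] .nil (.node [(22,(.negSucc 0),1)] .nil .nil)))))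
noncomputable def ex64 : Trie (List (ℕ × ℤ × ℕ)) := (.node [] (.node [] (.node [] .nil (.node [(15,(.negSucc 0),1)] .nil .nil)) (.node [(12,(.ofNat 1),1)] .nil (.node [(16,(.negSucc 0),1)] .nil .nil))) (.node [(11,(.negSucc 0),1)] (.node [] (.node [] (.node [] .nil (.node [(24,(.ofNat 1),1)] .nil .nil)) .nil) .nil) (.node [] (.node [] (.node [] .nil (.node [(22,(.negSucc 0),1)] .nil .nil)) .nil) .nil)))
noncomputable def ex65 : Trie (List (ℕ × ℤ × ℕ)) := (.node [(11,(.negSucc 0),1)] (.node [] (.node [] (.node [] .nil (.node [(24,(.negSucc 0),1)] .nil .nil)) (.node [(20,(.negSucc 0),1)] .nil .nil)) (.node [(18,(.ofNat 1),1)] .nil (.node [(26,(.ofNat 1),1)] .nil (.node [(22,(.ofNat 1),1)] .nil .nil)))) .nil)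
noncomputable def ex66 : Trie (List (ℕ × ℤ × ℕ)) := (.node [(12,(.negSucc 0),1)] (.node [] (.node [] .nil (.node [(21,(.negSucc 0),1)] .nil .nil)) (.node [] .nil (.node [(25,(.negSucc 0),1)] .nil .nil))) (.node [(18,(.ofNat 1),1)] (.node [] .nil (.node [] .nil (.node [(22,(.negSucc 0),1)] .nil .nil))) (.node [] .nil (.node [(24,(.ofNat 1),1)] .nil .nil))))
noncomputable def ex67 : Trie (List (ℕ × ℤ × ℕ)) := (.node [] (.node [] .nil (.node [(14,(.ofNat 1),1)] (.node [] (.node [] .nil (.node [(22,(.ofNat 1),1)] .nil .nil)) .nil) .nil)) (.node [(13,(.negSucc 0),1)] (.node [] (.node [] (.node [] .nil (.node [(23,(.negSucc 0),1)] .nil .nil)) .nil) (.node [(16,(.ofNat 1),1)] .nil .nil)) (.node [(15,(.negSucc 0),1)] .nil .nil)))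
noncomputable def ex68 : Trie (List (ℕ × ℤ × ℕ)) := (.node [(13,(.negSucc 0),1)] (.node [] (.node [] (.node [] .nil (.node [(23,(.ofNat 1),1)] .nil .nil)) (.node [] .nil (.node [(22,(.negSucc 0),1)] .nil .nil))) (.node [(19,(.ofNat 1),1)] .nil .nil)) (.node [] (.node [] .nil (.node [(26,(.negSucc 0),1)] .nil .nil)) (.node [(20,(.negSucc 0),1)] .nil .nil)))
noncomputable def ex69 : Trie (List (ℕ × ℤ × ℕ)) := (.node [(14,(.negSucc 0),1)] .nil (.node [(19,(.ofNat 1),1)] (.node [] .nil (.node [(25,(.ofNat 1),1)] .nil .nil)) (.node [(21,(.negSucc 0),1)] (.node [] .nil (.node [(22,(.ofNat 1),1)] .nil .nil)) (.node [(23,(.negSucc 0),1)] .nil .nil))))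
noncomputable def ex70 : Trie (List (ℕ × ℤ × ℕ)) := (.node [(15,(.negSucc 0),1)] (.node [] .nil (.node [(21,(.negSucc 0),1)] (.node [] .nil (.node [(22,(.negSucc 0),1)] .nil .nil)) (.node [(23,(.ofNat 1),1)] .nil .nil))) (.node [(20,(.ofNat 1),1)] (.node [] .nil (.node [(24,(.negSucc 0),1)] .nil .nil)) .nil))
noncomputable def ex71 : Trie (List (ℕ × ℤ × ℕ)) := (.node [(16,(.negSucc 0),1)] (.node [] (.node [] .nil (.node [(23,(.negSucc 0),1)] .nil .nil)) (.node [(25,(.negSucc 0),1)] .nil .nil)) (.node [(26,(.negSucc 0),1)] (.node [] (.node [] .nil (.node [(22,(.ofNat 1),1)] .nil .nil)) .nil) (.node [(24,(.negSucc 0),1)] .nil .nil)))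
noncomputable def ex : Trie (Trie (List (ℕ × ℤ × ℕ))) := (.node ex0 (.node .nil (.node .nil (.node .nil (.node .nil (.node .nil (.node .nil .nil (.node ex64 .nil .nil)) (.node ex32 .nil .nil)) (.node ex16 .nil (.node ex48 .nil .nil))) (.node ex8 (.node .nil .nil (.node ex40 .nil .nil)) (.node ex24 .nil (.node ex56 .nil .nil)))) (.node ex4 (.node .nil (.node .nil (.node .nil .nil (.node ex68 .nil .nil)) (.node ex36 .nil .nil)) (.node ex20 .nil (.node ex52 .nil .nil))) (.node ex12 (.node .nil .nil (.node ex44 .nil .nil)) (.node ex28 .nil (.node ex60 .nil .nil))))) (.node ex2 (.node .nil (.node .nil (.node .nil (.node .nil .nil (.node ex66 .nil .nil)) (.node ex34 .nil .nil)) (.node ex18 .nil (.node ex50 .nil .nil))) (.node ex10 (.node .nil .nil (.node ex42 .nil .nil)) (.node ex26 .nil (.node ex58 .nil .nil)))) (.node ex6 (.node .nil (.node .nil (.node .nil .nil (.node ex70 .nil .nil)) (.node ex38 .nil .nil)) (.node ex22 .nil (.node ex54 .nil .nil))) (.node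 ex14 (.node .nil .nil (.node ex46 .nil .nil)) (.node ex30 .nil (.node ex62 .nil .nil)))))) (.node ex1 (.node .nil (.node .nil (.node .nil (.node .nil (.node .nil .nil (.node ex65 .nil .nil)) (.node ex33 .nil .nil)) (.node ex17 .nil (.node ex49 .nil .nil))) (.node ex9 (.node .nil .nil (.node ex41 .nil .nil)) (.node ex25 .nil (.node ex57 .nil .nil)))) (.node ex5 (.node .nil (.node .nil (.node .nil .nil (.node ex69 .nil .nil)) (.node ex37 .nil .nil)) (.node ex21 .nil (.node ex53 .nil .nil))) (.node ex13 (.node .nil .nil (.node ex45 .nil .nil)) (.node ex29 .nil (.node ex61 .nil .nil))))) (.node ex3 (.node .nil (.node .nil (.node .nil (.node .nil .nil (.node ex67 .nil .nil)) (.node ex35 .nil .nil)) (.node ex19 .nil (.node ex51 .nil .nil))) (.node ex11 (.node .nil .nil (.node ex43 .nil .nil)) (.node ex27 .nil (.node ex59 .nil .nil)))) (.node ex7 (.node .nil (.node .nil (.node .nil .nil (.node ex71 .nil .nil)) (.node ex39 .nil .nil)) (.node ex23 .nil (.node ex55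 .nil .nil))) (.node ex15 (.node .nil .nil (.node ex47 .nil .nil)) (.node ex31 .nil (.node ex63 .nil .nil)))))))
noncomputable def T : Tabs := ⟨0, 72, 27, ex, .nil⟩
theorem nroots_ok : T.nroots = chevE6.nroots := by decide +kernel
theorem add_ok : checkAdd T = true := by decide +kernel
theorem pos_ok : checkPos T = true := by decide +kernel
theorem h_ok : allBelow (checkHRep T chevE6) T.nroots = true := by decide +kernel
end Cfsg.Agent.Lib.RepE6F
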