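import Cfsg.Agent.Lib.ChevRep
import Cfsg.Prelude.Def_ChevE7

namespace Cfsg.Agent.Lib.RepE7
open Cfsg.Agent.Lib.Chev Cfsg.Agent.Lib.ChevRep Cfsg.Lie

noncomputable def ex0 : Trie (List (ℕ × ℤ × ℕ)) := (.node [] (.node [] (.node [] (.node [] (.node [] .nil (.node [] .nil (.node [(4,(.negSucc 0),1)] .nil .nil))) .nil) (.node [] (.node [] .nil (.node [] .nil (.node [(8,(.ofNat 1),1)] .nil .nil))) (.node [] (.node [] .nil (.node [(0,(.negSucc 0),1)] .nil .nil)) .nil))) (.node [] (.node [] (.node [] .nil (.node [] .nil (.node [(6,(.ofNat 1),1)] .nil .nil))) .nil) (.node [] (.node [] .nil (.node [] .nil (.node [(10,(.ofNat 1),1)] .nil .nil))) (.node [] (.node [] .nil (.node [(2,(.negSucc 0),1)] .nil .nil)) .nil)))) (.node [] (.node [] (.node [] (.node [] .nil (.node [] .nil (.node [(5,(.ofNat 1),1)] .nil .nil))) .nil) (.node [] (.node [] .nil (.node [] .nil (.node [(9,(.ofNat 1),1)] .nil .nil))) (.node [] (.node [] .nil (.node [(1,(.ofNat 1),1)] .nil .nil)) .nil)))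 (.node [] (.node [] (.node [] .nil (.node [] .nil (.node [(7,(.ofNat 1),1)] .nil .nil))) .nil) (.node [] (.node [] .nil (.node [] .nil (.node [(11,(.ofNat 1),1)] .nil .nil))) (.node [] (.node [] .nil (.node [(3,(.ofNat 1),1)] .nil .nil)) .nil)))))
noncomputable def ex1 : Trie (List (ℕ × ℤ × ℕ)) := (.node [] (.node [] (.node [] (.node [] .nil (.node [] (.node [] .nil (.node [(2,(.negSucc 0),1)] .nil .nil)) .nil)) (.node [] (.node [] .nil (.node [] .nil (.node [(14,(.ofNat 1),1)] .nil .nil))) .nil)) (.node [] (.node [] .nil (.node [] (.node [] .nil (.node [(4,(.negSucc 0),1)] .nil .nil)) .nil)) (.node [] (.node [] (.node [] .nil (.node [(0,(.negSucc 0),1)] .nil .nil)) (.node [] .nil (.node [(16,(.ofNat 1),1)] .nil .nil))) .nil))) (.node [] (.node [] (.node [] (.node [] .nil (.node [] .nil (.node [(12,(.ofNat 1),1)] .nil .nil))) (.node [] (.node [] .nil (.node [(3,(.ofNat 1),1)] .nil .nil)) .nil)) (.node [] (.node [] .nil (.node [] .nil (.node [(15,(.ofNat 1),1)]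 .nil .nil))) .nil)) (.node [] (.node [] (.node [] .nil (.node [] .nil (.node [(13,(.ofNat 1),1)] .nil .nil))) (.node [] (.node [] .nil (.node [(6,(.ofNat 1),1)] .nil .nil)) .nil)) (.node [] (.node [] (.node [] .nil (.node [(1,(.ofNat 1),1)] .nil .nil)) (.node [] .nil (.node [(17,(.ofNat 1),1)] .nil .nil))) .nil))))
noncomputable def ex2 : Trie (List (ℕ × ℤ × ℕ)) := (.node [] (.node [] (.node [] (.node [] (.node [] .nil (.node [] .nil (.node [(12,(.ofNat 1),1)] .nil .nil))) .nil) (.node [] (.node [] (.node [] .nil (.node [(2,(.negSucc 0),1)] .nil .nil)) (.node [] .nil (.node [(18,(.negSucc 0),1)] .nil .nil))) .nil)) (.node [] (.node [] (.node [] (.node [] .nil (.node [(0,(.negSucc 0),1)] .nil .nil)) (.node [] .nil (.node [(13,(.ofNat 1),1)] .nil .nil))) (.node [] (.node [] .nil (.node [(5,(.negSucc 0),1)] .nil .nil)) .nil)) (.node [] (.node [] .nil (.node [] .nil (.node [(20,(.negSucc 0),1)] .nil .nil))) .nil))) (.node [] (.node [] .nil (.node [] (.node [] (.node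 [] .nil (.node [(3,(.ofNat 1),1)] .nil .nil)) (.node [] .nil (.node [(19,(.negSucc 0),1)] .nil .nil))) .nil)) (.node [] (.node [] (.node [] (.node [] .nil (.node [(1,(.ofNat 1),1)] .nil .nil)) .nil) (.node [] (.node [] .nil (.node [(7,(.negSucc 0),1)] .nil .nil)) .nil)) (.node [] (.node [] .nil (.node [] .nil (.node [(21,(.negSucc 0),1)] .nil .nil))) .nil))))
noncomputable def ex3 : Trie (List (ℕ × ℤ × ℕ)) := (.node [] (.node [] (.node [] (.node [] (.node [] (.node [] .nil (.node [(1,(.ofNat 1),1)] .nil .nil)) .nil) .nil) .nil) (.node [] (.node [] (.node [] .nil (.node [] .nil (.node [(14,(.negSucc 0),1)] .nil .nil))) .nil) (.node [] (.node [] .nil (.node [] .nil (.node [(23,(.ofNat 1),1)] .nil .nil))) .nil))) (.node [] (.node [] (.node [] (.node [] (.node [] .nil (.node [(2,(.negSucc 0),1)] .nil .nil)) .nil) (.node [] (.node [] .nil (.node [(5,(.negSucc 0),1)] .nil .nil)) .nil)) (.node [] (.node [] (.node [] .nil (.node [(4,(.ofNat 1),1)] .nil .nil)) (.node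 [] .nil (.node [(22,(.ofNat 1),1)] .nil .nil))) .nil)) (.node [] (.node [] (.node [] .nil (.node [] .nil (.node [(18,(.negSucc 0),1)] .nil .nil))) (.node [] (.node [] .nil (.node [(8,(.ofNat 1),1)] .nil .nil)) .nil)) (.node [] (.node [] .nil (.node [] .nil (.node [(24,(.ofNat 1),1)] .nil .nil))) (.node [] (.node [] .nil (.node [(12,(.ofNat 1),1)] .nil .nil)) (.node [(0,(.negSucc 0),1)] .nil .nil))))))
noncomputable def ex4 : Trie (List (ℕ × ℤ × ℕ)) := (.node [] (.node [] (.node [] (.node [] .nil (.node [] (.node [] .nil (.node [(5,(.negSucc 0),1)] .nil .nil)) .nil)) (.node [] (.node [] (.node [] .nil (.node [(4,(.ofNat 1),1)] .nil .nil)) (.node [] .nil (.node [(22,(.ofNat 1),1)] .nil .nil))) .nil)) (.node [] (.node [] (.node [] .nil (.node [] .nil (.node [(15,(.ofNat 1),1)] .nil .nil))) .nil) (.node [] (.node [] .nil (.node [] .nil (.node [(25,(.negSucc 0),1)] .nil .nil))) (.node [] (.node [] .nil (.node [(12,(.ofNat 1),1)] .nil .nil)) (.node [(1,(.ofNat 1),1)]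 .nil .nil))))) (.node [] (.node [] (.node [] (.node [] (.node [] .nil (.node [(3,(.negSucc 0),1)] .nil .nil)) .nil) .nil) (.node [] .nil (.node [] .nil (.node [(0,(.negSucc 0),1)] .nil .nil)))) (.node [] (.node [] (.node [] .nil (.node [] .nil (.node [(19,(.ofNat 1),1)] .nil .nil))) (.node [] (.node [] .nil (.node [(9,(.negSucc 0),1)] .nil .nil)) .nil)) (.node [] (.node [] .nil (.node [] .nil (.node [(26,(.negSucc 0),1)] .nil .nil))) .nil))))
noncomputable def ex5 : Trie (List (ℕ × ℤ × ℕ)) := (.node [] (.node [] (.node [] (.node [] (.node [] (.node [] .nil (.node [(3,(.negSucc 0),1)] .nil .nil)) .nil) .nil) (.node [] (.node [] .nil (.node [] .nil (.node [(23,(.negSucc 0),1)] .nil .nil))) (.node [] .nil (.node [(0,(.negSucc 0),1)] .nil .nil)))) (.node [] (.node [] (.node [] .nil (.node [] .nil (.node [(16,(.negSucc 0),1)] .nil .nil))) .nil) (.node [] .nil (.node [] .nil (.node [(2,(.ofNat 1),1)] .nil .nil))))) (.node [] (.node [] .nil (.node [] (.node [] .nil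 (.node [] .nil (.node [(25,(.negSucc 0),1)] .nil .nil))) (.node [] (.node [] .nil (.node [(12,(.ofNat 1),1)] .nil .nil)) .nil))) (.node [] (.node [] (.node [] (.node [] .nil (.node [(4,(.ofNat 1),1)] .nil .nil)) (.node [] .nil (.node [(20,(.negSucc 0),1)] .nil .nil))) (.node [] (.node [] .nil (.node [(10,(.ofNat 1),1)] .nil .nil)) .nil)) (.node [] (.node [] (.node [] .nil (.node [(5,(.negSucc 0),1)] .nil .nil)) (.node [] .nil (.node [(27,(.ofNat 1),1)] .nil .nil))) .nil))))
noncomputable def ex6 : Trie (List (ℕ × ℤ × ℕ)) := (.node [] (.node [] (.node [] .nil (.node [] (.node [] .nil (.node [] .nil (.node [(24,(.ofNat 1),1)] .nil .nil))) (.node [] (.node [] .nil (.node [(12,(.ofNat 1),1)] .nil .nil)) (.node [(1,(.negSucc 0),1)] .nil .nil)))) (.node [] (.node [] (.node [] (.node [] .nil (.node [(4,(.ofNat 1),1)] .nil .nil)) (.node [] .nil (.node [(17,(.ofNat 1),1)] .nil .nil))) .nil) (.node [] (.node [] (.node [] .nil (.node [(5,(.negSucc 0),1)] .nil .nil)) (.node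 [] .nil (.node [(27,(.ofNat 1),1)] .nil .nil))) .nil))) (.node [] (.node [] .nil (.node [] (.node [] .nil (.node [] .nil (.node [(26,(.ofNat 1),1)] .nil .nil))) (.node [] .nil (.node [(2,(.ofNat 1),1)] .nil .nil)))) (.node [] (.node [] (.node [] .nil (.node [] .nil (.node [(21,(.ofNat 1),1)] .nil .nil))) (.node [] (.node [] .nil (.node [(11,(.negSucc 0),1)] .nil .nil)) .nil)) (.node [] .nil (.node [] .nil (.node [(3,(.negSucc 0),1)] .nil .nil))))))
noncomputable def ex7 : Trie (List (ℕ × ℤ × ℕ)) := (.node [] (.node [] (.node [] (.node [] (.node [] .nil (.node [] .nil (.node [(14,(.negSucc 0),1)] .nil .nil))) .nil) .nil) (.node [] (.node [] .nil (.node [] (.node [] .nil (.node [(8,(.ofNat 1),1)] .nil .nil)) (.node [(1,(.ofNat 1),1)] .nil .nil))) (.node [] (.node [] .nil (.node [] .nil (.node [(29,(.negSucc 0),1)] .nil .nil))) .nil))) (.node [] (.node [] (.node [] (.node [] .nil (.node [] .nil (.node [(18,(.negSucc 0),1)] .nil .nil))) (.node [] (.node [] .nil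 (.node [(7,(.ofNat 1),1)] .nil .nil)) (.node [(0,(.negSucc 0),1)] .nil .nil))) (.node [] (.node [] (.node [] .nil (.node [(6,(.ofNat 1),1)] .nil .nil)) (.node [] .nil (.node [(28,(.negSucc 0),1)] .nil .nil))) .nil)) (.node [] (.node [] .nil (.node [] .nil (.node [(2,(.negSucc 0),1)] .nil .nil))) (.node [] (.node [] .nil (.node [] .nil (.node [(30,(.negSucc 0),1)] .nil .nil))) (.node [] (.node [] .nil (.node [(13,(.negSucc 0),1)] .nil .nil)) .nil)))))
noncomputable def ex8 : Trie (List (ℕ × ℤ × ℕ)) := (.node [] (.node [] (.node [] (.node [] (.node [] .nil (.node [] .nil (.node [(15,(.ofNat 1),1)] .nil .nil))) (.node [] (.node [] .nil (.node [(7,(.ofNat 1),1)] .nil .nil)) (.node [(1,(.ofNat 1),1)] .nil .nil))) (.node [] (.node [] (.node [] .nil (.node [(6,(.ofNat 1),1)] .nil .nil)) (.node [] .nil (.node [(28,(.negSucc 0),1)] .nil .nil))) .nil)) (.node [] (.node [] .nil (.node [] (.node [] .nil (.node [(9,(.negSucc 0),1)] .nil .nil)) .nil)) (.node [] (.node []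 .nil (.node [] .nil (.node [(31,(.ofNat 1),1)] .nil .nil))) (.node [] (.node [] .nil (.node [(13,(.negSucc 0),1)] .nil .nil)) .nil)))) (.node [] (.node [] (.node [] (.node [] .nil (.node [] .nil (.node [(19,(.ofNat 1),1)] .nil .nil))) .nil) .nil) (.node [] (.node [] .nil (.node [] .nil (.node [(3,(.negSucc 0),1)] .nil .nil))) (.node [] (.node [] .nil (.node [(0,(.negSucc 0),1)] .nil (.node [(32,(.ofNat 1),1)] .nil .nil))) .nil))))
noncomputable def ex9 : Trie (List (ℕ × ℤ × ℕ)) := (.node [] (.node [] (.node [] (.node [] (.node [] .nil (.node [] .nil (.node [(16,(.negSucc 0),1)] .nil .nil))) (.node [] .nil (.node [(2,(.ofNat 1),1)] .nil .nil))) (.node [] (.node [] .nil (.node [] .nil (.node [(29,(.ofNat 1),1)] .nil .nil))) .nil)) (.node [] (.node [] .nil (.node [] (.node [] .nil (.node [(10,(.ofNat 1),1)] .nil .nil)) (.node [(3,(.negSucc 0),1)] .nil .nil))) (.node [] (.node [] .nil (.node [(0,(.negSucc 0),1)] .nil .nil)) .nil))) (.node [] (.node [] (.node []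 (.node [] .nil (.node [] .nil (.node [(20,(.negSucc 0),1)] .nil .nil))) .nil) (.node [] (.node [] .nil (.node [] .nil (.node [(31,(.ofNat 1),1)] .nil .nil))) (.node [] (.node [] .nil (.node [(13,(.negSucc 0),1)] .nil .nil)) .nil))) (.node [] (.node [] (.node [] (.node [] .nil (.node [(6,(.ofNat 1),1)] .nil .nil)) .nil) .nil) (.node [] (.node [] (.node [] .nil (.node [(7,(.ofNat 1),1)] .nil .nil)) (.node [] .nil (.node [(33,(.negSucc 0),1)] .nil .nil))) .nil))))
noncomputable def ex10 : Trie (List (ℕ × ℤ × ℕ)) := (.node [] (.node [] (.node [] (.node [] (.node [] .nil (.node [] .nil (.node [(17,(.ofNat 1),1)] .nil .nil))) .nil) (.node [] (.node [] .nil (.node [] .nil (.node [(30,(.negSucc 0),1)] .nil .nil))) (.node [] (.node [] .nil (.node [(13,(.negSucc 0),1)] .nil .nil)) .nil))) (.node [] (.node [] (.node [] (.node [] .nil (.node [(6,(.ofNat 1),1)] .nil .nil)) .nil) (.node [] (.node [] .nil (.node [(11,(.negSucc 0),1)] .nil .nil)) .nil)) (.node [] (.node []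 (.node [] .nil (.node [(7,(.ofNat 1),1)] .nil .nil)) (.node [(1,(.negSucc 0),1)] .nil (.node [(33,(.negSucc 0),1)] .nil .nil))) .nil))) (.node [] (.node [] (.node [] (.node [] .nil (.node [] .nil (.node [(21,(.ofNat 1),1)] .nil .nil))) (.node [] .nil (.node [(3,(.negSucc 0),1)] .nil .nil))) (.node [] (.node [] .nil (.node [] .nil (.node [(32,(.negSucc 0),1)] .nil .nil))) .nil)) (.node [] .nil (.node [] (.node [] .nil (.node [(2,(.ofNat 1),1)] .nil .nil)) .nil))))
noncomputable def ex11 : Trie (List (ℕ × ℤ × ℕ)) := (.node [] (.node [] (.node [] (.node [] .nil (.node [] (.node [] .nil (.node [(8,(.negSucc 0),1)] .nil .nil)) .nil)) (.node [] (.node [] .nil (.node [(0,(.negSucc 0),1)] .nil .nil)) .nil)) (.node [] .nil (.node [] (.node [] .nil (.node [] .nil (.node [(34,(.negSucc 0),1)] .nil .nil))) (.node [] (.node [] .nil (.node [(14,(.ofNat 1),1)] .nil .nil)) .nil)))) (.node [] (.node [] (.node [] (.node [] (.node [] .nil (.node [(6,(.ofNat 1),1)] .nil .nil))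 (.node [] .nil (.node [(22,(.negSucc 0),1)] .nil .nil))) (.node [] (.node [] .nil (.node [(9,(.negSucc 0),1)] .nil .nil)) .nil)) (.node [] (.node [] .nil (.node [(1,(.ofNat 1),1)] .nil .nil)) .nil)) (.node [] (.node [] (.node [] .nil (.node [] .nil (.node [(28,(.negSucc 0),1)] .nil .nil))) (.node [] .nil (.node [(4,(.negSucc 0),1)] .nil .nil))) (.node [] (.node [] .nil (.node [] .nil (.node [(35,(.negSucc 0),1)] .nil .nil))) (.node [] (.node [] .nil (.node [(15,(.ofNat 1),1)] .nil .nil)) .nil)))))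
noncomputable def ex12 : Trie (List (ℕ × ℤ × ℕ)) := (.node [] (.node [] (.node [] (.node [] (.node [] (.node [] .nil (.node [(6,(.ofNat 1),1)] .nil .nil)) .nil) .nil) .nil) (.node [] (.node [] .nil (.node [] .nil (.node [(4,(.negSucc 0),1)] .nil .nil))) .nil)) (.node [] (.node [] (.node [] (.node [] .nil (.node [] .nil (.node [(23,(.ofNat 1),1)] .nil .nil))) (.node [] (.node [] .nil (.node [(10,(.ofNat 1),1)] .nil .nil)) .nil)) (.node [] (.node [] .nil (.node [(2,(.ofNat 1),1)] .nil (.node [(34,(.negSucc 0),1)] .nil .nil))) (.node [] (.node [] .nil (.node [(14,(.ofNat 1),1)] .nil .nil)) .nil))) (.node [] (.node [] (.node [] .nil (.node [(0,(.negSucc 0),1)] .nil (.node [(29,(.ofNat 1),1)] .nil .nil))) .nil) (.node [] (.node [] (.node [] .nil (.node [(8,(.negSucc 0),1)] .nil .nil)) (.node [] .nil (.node [(36,(.ofNat 1),1)] .nil .nil))) (.node [] (.node [] .nil (.node [(16,(.negSucc 0),1)] .nil .nil)) .nil)))))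
noncomputable def ex13 : Trie (List (ℕ × ℤ × ℕ)) := (.node [] (.node [] (.node [] .nil (.node [] (.node [] .nil (.node [(2,(.ofNat 1),1)] .nil .nil)) (.node [] (.node [] .nil (.node [(14,(.ofNat 1),1)] .nil .nil)) .nil))) (.node [] .nil (.node [] (.node [] (.node [] .nil (.node [(8,(.negSucc 0),1)] .nil .nil)) (.node [] .nil (.node [(36,(.ofNat 1),1)] .nil .nil))) .nil))) (.node [] (.node [] (.node [] (.node [] .nil (.node [] .nil (.node [(24,(.negSucc 0),1)] .nil .nil))) (.node [] (.node [] .nil (.node [(11,(.negSucc 0),1)] .nil .nil)) (.node [(4,(.negSucc 0),1)] .nil .nil))) (.node [] (.node [] .nil (.node [] .nil (.node [(35,(.ofNat 1),1)] .nil .nil))) .nil)) (.node [] (.node [] (.node [] .nil (.node [(1,(.negSucc 0),1)] .nil (.node [(30,(.negSucc 0),1)] .nil .nil))) .nil) (.node [] .nil (.node [] (.node [] .nil (.node [(17,(.ofNat 1),1)] .nil .nil)) (.node [(6,(.ofNat 1),1)] .nil .nil))))))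
noncomputable def ex14 : Trie (List (ℕ × ℤ × ℕ)) := (.node [] (.node [] (.node [] (.node [] .nil (.node [] (.node [] .nil (.node [(10,(.ofNat 1),1)] .nil .nil)) (.node [(4,(.negSucc 0),1)] .nil .nil))) (.node [] (.node [] .nil (.node [] .nil (.node [(34,(.negSucc 0),1)] .nil .nil))) .nil)) (.node [] (.node [] (.node [] .nil (.node [(0,(.negSucc 0),1)] .nil .nil)) .nil) (.node [] .nil (.node [] (.node [] .nil (.node [(16,(.negSucc 0),1)] .nil .nil)) (.node [(6,(.ofNat 1),1)] .nil .nil))))) (.node [] (.node [] (.node [] (.node [] .nil (.node [] .nil (.node [(25,(.negSucc 0),1)] .nil .nil))) .nil) (.node [] (.node [] .nil (.node [(3,(.ofNat 1),1)] .nil .nil)) (.node [] (.node [] .nil (.node [(15,(.negSucc 0),1)] .nil .nil)) .nil))) (.node [] (.node [] (.node [] .nil (.node [] .nil (.node [(31,(.negSucc 0),1)] .nil .nil))) .nil) (.node [] (.node [] (.node [] .nil (.node [(9,(.ofNat 1),1)] .nil .nil)) (.node [] .nil (.node [(37,(.negSucc 0),1)] .nil .nil))) .nil))))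
noncomputable def ex15 : Trie (List (ℕ × ℤ × ℕ)) := (.node [] (.node [] (.node [] (.node [] .nil (.node [] (.node [] .nil (.node [(11,(.negSucc 0),1)] .nil .nil)) .nil)) (.node [] (.node [] .nil (.node [(3,(.ofNat 1),1)] .nil (.node [(35,(.ofNat 1),1)] .nil .nil))) (.node [] (.node [] .nil (.node [(15,(.negSucc 0),1)] .nil .nil)) .nil))) (.node [] (.node [] (.node [] .nil (.node [(1,(.negSucc 0),1)] .nil .nil)) .nil) (.node [] (.node [] (.node [] .nil (.node [(9,(.ofNat 1),1)] .nil .nil)) (.node [] .nil (.node [(37,(.negSucc 0),1)] .nil .nil))) (.node [] (.node [] .nil (.node [(17,(.ofNat 1),1)] .nil .nil)) .nil)))) (.node [] (.node [] (.node [] (.node [] .nil (.node [] .nil (.node [(26,(.ofNat 1),1)] .nil .nil))) .nil) (.node [] .nil (.node [] .nil (.node [(6,(.ofNat 1),1)] .nil .nil)))) (.node [] (.node [] (.node [] .nil (.node [] .nil (.node [(32,(.ofNat 1),1)] .nil .nil))) .nil) (.node [] (.node [] .nil (.node [(4,(.negSucc 0),1)] .nil .nil)) .nil))))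
noncomputable def ex16 : Trie (List (ℕ × ℤ × ℕ)) := (.node [] (.node [] (.node [] .nil (.node [] (.node [] .nil (.node [] .nil (.node [(36,(.negSucc 0),1)] .nil .nil))) (.node [] (.node [] .nil (.node [(16,(.ofNat 1),1)] .nil .nil)) (.node [(6,(.ofNat 1),1)] .nil .nil)))) (.node [] (.node [] (.node [] .nil (.node [(2,(.negSucc 0),1)] .nil .nil)) .nil) (.node [] (.node [] (.node [] .nil (.node [(10,(.negSucc 0),1)] .nil .nil)) (.node [(4,(.negSucc 0),1)] .nil .nil)) .nil))) (.node [] (.node [] (.node [] (.node [] .nil (.node [] .nil (.node [(27,(.negSucc 0),1)] .nil .nil))) .nil) (.node [] (.node [] .nil (.node [] .nil (.node [(37,(.negSucc 0),1)] .nil .nil))) (.node [] (.node [] .nil (.node [(17,(.ofNat 1),1)] .nil .nil)) .nil))) (.node [] (.node [] (.node [] .nil (.node [(3,(.ofNat 1),1)] .nil (.node [(33,(.negSucc 0),1)] .nil .nil))) .nil) (.node [] (.node [] (.node [] .nil (.node [(11,(.negSucc 0),1)] .nil .nil)) .nil) .nil))))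
noncomputable def ex17 : Trie (List (ℕ × ℤ × ℕ)) := (.node [] (.node [] (.node [] (.node [] (.node [] .nil (.node [(0,(.negSucc 0),1)] .nil (.node [(22,(.negSucc 0),1)] .nil .nil))) .nil) (.node [] (.node [] (.node [] .nil (.node [(8,(.negSucc 0),1)] .nil .nil)) .nil) .nil)) (.node [] (.node [] (.node [] .nil (.node [] .nil (.node [(28,(.negSucc 0),1)] .nil .nil))) .nil) (.node [] (.node [] .nil (.node [] .nil (.node [(38,(.ofNat 1),1)] .nil .nil))) (.node [] (.node [] .nil (.node [(18,(.negSucc 0),1)] .nil .nil)) .nil)))) (.node [] (.node [] (.node [] (.node [] (.node [] .nil (.node [(7,(.negSucc 0),1)] .nil .nil)) (.node [(1,(.ofNat 1),1)] .nil .nil)) .nil) (.node [] (.node [] (.node [] .nil (.node [(9,(.negSucc 0),1)] .nil .nil)) .nil) .nil)) (.node [] (.node [] .nil (.node [] .nil (.node [(5,(.negSucc 0),1)] .nil .nil))) (.node [] (.node [] .nil (.node [] .nil (.node [(39,(.ofNat 1),1)] .nil .nil))) (.node [] (.node [] .nil (.node [(19,(.negSucc 0),1)]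 .nil .nil)) .nil)))))
noncomputable def ex18 : Trie (List (ℕ × ℤ × ℕ)) := (.node [] (.node [] (.node [] (.node [] (.node [] (.node [] .nil (.node [(7,(.negSucc 0),1)] .nil .nil)) (.node [] .nil (.node [(23,(.ofNat 1),1)] .nil .nil))) .nil) .nil) (.node [] (.node [] (.node [] .nil (.node [] .nil (.node [(29,(.ofNat 1),1)] .nil .nil))) (.node [] .nil (.node [(5,(.negSucc 0),1)] .nil .nil))) .nil)) (.node [] (.node [] (.node [] (.node [] .nil (.node [(2,(.ofNat 1),1)] .nil .nil)) .nil) (.node [] (.node [] (.node [] .nil (.node [(10,(.ofNat 1),1)] .nil .nil)) (.node [] .nil (.node [(38,(.ofNat 1),1)] .nil .nil))) (.node [] (.node [] .nil (.node [(18,(.negSucc 0),1)] .nil .nil)) .nil))) (.node [] (.node [] (.node [] (.node [] .nil (.node [(8,(.negSucc 0),1)] .nil .nil)) .nil) .nil) (.node [] (.node [] .nil (.node [] .nil (.node [(40,(.negSucc 0),1)] .nil .nil))) (.node [(0,(.negSucc 0),1)] (.node [] .nil (.node [(20,(.ofNat 1),1)] .nil .nil)) .nil)))))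
noncomputable def ex19 : Trie (List (ℕ × ℤ × ℕ)) := (.node [] (.node [] (.node [] (.node [] (.node [] .nil (.node [(2,(.ofNat 1),1)] .nil (.node [(24,(.negSucc 0),1)] .nil .nil))) .nil) (.node [] .nil (.node [] (.node [] .nil (.node [(18,(.negSucc 0),1)] .nil .nil)) .nil))) (.node [] (.node [] (.node [] (.node [] .nil (.node [(8,(.negSucc 0),1)] .nil .nil)) (.node [] .nil (.node [(30,(.negSucc 0),1)] .nil .nil))) .nil) (.node [] (.node [] .nil (.node [] .nil (.node [(40,(.negSucc 0),1)] .nil .nil))) .nil))) (.node [] (.node [] (.node [] .nil (.node [] .nil (.node [(5,(.negSucc 0),1)] .nil .nil))) (.node [] (.node [] (.node [] .nil (.node [(11,(.negSucc 0),1)] .nil .nil)) (.node [] .nil (.node [(39,(.negSucc 0),1)] .nil .nil))) .nil)) (.node [] .nil (.node [] .nil (.node [(1,(.negSucc 0),1)] (.node [] .nil (.node [(21,(.negSucc 0),1)] .nil .nil)) (.node [(7,(.negSucc 0),1)] .nil .nil))))))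
noncomputable def ex20 : Trie (List (ℕ × ℤ × ℕ)) := (.node [] (.node [] (.node [] (.node [] (.node [] .nil (.node [] .nil (.node [(25,(.negSucc 0),1)] .nil .nil))) (.node [] .nil (.node [(5,(.negSucc 0),1)] .nil .nil))) (.node [] (.node [] (.node [] .nil (.node [(10,(.ofNat 1),1)] .nil .nil)) (.node [] .nil (.node [(38,(.ofNat 1),1)] .nil .nil))) .nil)) (.node [] (.node [] (.node [] .nil (.node [] .nil (.node [(31,(.negSucc 0),1)] .nil .nil))) .nil) (.node [] .nil (.node [(0,(.negSucc 0),1)] (.node [] .nil (.node [(20,(.ofNat 1),1)] .nil .nil)) (.node [(7,(.negSucc 0),1)] .nil .nil))))) (.node [] (.node [] (.node [] (.node [] .nil (.node [(3,(.ofNat 1),1)] .nil .nil)) .nil) (.node [] .nil (.node [] (.node [] .nil (.node [(19,(.ofNat 1),1)] .nil .nil)) .nil))) (.node [] (.node [] (.node [] (.node [] .nil (.node [(9,(.ofNat 1),1)] .nil .nil)) .nil) .nil) (.node [] (.node [] .nil (.node [] .nil (.node [(41,(.ofNat 1),1)] .nil .nil))) .nil))))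
noncomputable def ex21 : Trie (List (ℕ × ℤ × ℕ)) := (.node [] (.node [] (.node [] (.node [] (.node [] .nil (.node [(3,(.ofNat 1),1)] .nil (.node [(26,(.ofNat 1),1)] .nil .nil))) .nil) (.node [] (.node [] (.node [] .nil (.node [(11,(.negSucc 0),1)] .nil .nil)) (.node [] .nil (.node [(39,(.negSucc 0),1)] .nil .nil))) (.node [] (.node [] .nil (.node [(19,(.ofNat 1),1)] .nil .nil)) .nil))) (.node [] (.node [] (.node [] (.node [] .nil (.node [(9,(.ofNat 1),1)] .nil .nil)) (.node [] .nil (.node [(32,(.ofNat 1),1)] .nil .nil))) .nil) (.node [] (.node [] .nil (.node [] .nil (.node [(41,(.ofNat 1),1)] .nil .nil))) (.node [(1,(.negSucc 0),1)] (.node [] .nil (.node [(21,(.negSucc 0),1)] .nil .nil)) .nil)))) (.node [] (.node [] .nil (.node [] .nil (.node [] .nil (.node [(7,(.negSucc 0),1)] .nil .nil)))) (.node [] .nil (.node [] (.node [] .nil (.node [(5,(.negSucc 0),1)] .nil .nil)) .nil))))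
noncomputable def ex22 : Trie (List (ℕ × ℤ × ℕ)) := (.node [] (.node [] (.node [] (.node [] (.node [] .nil (.node [] .nil (.node [(27,(.negSucc 0),1)] .nil .nil))) .nil) (.node [] (.node [] .nil (.node [] .nil (.node [(40,(.ofNat 1),1)] .nil .nil))) (.node [] (.node [] .nil (.node [(20,(.negSucc 0),1)] .nil .nil)) (.node [(7,(.negSucc 0),1)] .nil .nil)))) (.node [] (.node [] (.node [] (.node [] .nil (.node [(10,(.negSucc 0),1)] .nil .nil)) (.node [] .nil (.node [(33,(.negSucc 0),1)] .nil .nil))) .nil) (.node [] (.node [] .nil (.node [(5,(.negSucc 0),1)] .nil .nil)) (.node [(2,(.negSucc 0),1)] .nil .nil)))) (.node [] (.node [] .nil (.node [] (.node [] .nil (.node [] .nil (.node [(41,(.ofNat 1),1)] .nil .nil))) (.node [] (.node [] .nil (.node [(21,(.negSucc 0),1)] .nil .nil)) .nil))) (.node [] (.node [] (.node [] (.node [] .nil (.node [(11,(.negSucc 0),1)] .nil .nil)) .nil) .nil) (.node [] .nil (.node [(3,(.ofNat 1),1)] .nil .nil)))))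
noncomputable def ex23 : Trie (List (ℕ × ℤ × ℕ)) := (.node [] (.node [] (.node [] (.node [] (.node [] (.node [] .nil (.node [(9,(.ofNat 1),1)] .nil .nil)) .nil) .nil) .nil) (.node [] (.node [] (.node [] .nil (.node [] .nil (.node [(34,(.ofNat 1),1)] .nil .nil))) .nil) (.node [] .nil (.node [] (.node [] .nil (.node [(23,(.negSucc 0),1)] .nil .nil)) (.node [(8,(.ofNat 1),1)] .nil .nil))))) (.node [] (.node [] (.node [] (.node [] (.node [] .nil (.node [(10,(.ofNat 1),1)] .nil .nil)) (.node [(4,(.ofNat 1),1)] .nil .nil)) .nil) (.node [] (.node [] .nil (.node [(5,(.negSucc 0),1)] .nil .nil)) (.node [(0,(.negSucc 0),1)] (.node [] .nil (.node [(22,(.negSucc 0),1)] .nil .nil)) .nil))) (.node [] (.node [] (.node [] .nil (.node [] .nil (.node [(38,(.ofNat 1),1)] .nil .nil))) .nil) (.node [] (.node [] .nil (.node [] .nil (.node [(42,(.negSucc 0),1)] .nil .nil))) (.node [] (.node [] .nil (.node [(25,(.negSucc 0),1)] .nil .nil)) .nil)))))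
noncomputable def ex24 : Trie (List (ℕ × ℤ × ℕ)) := (.node [] (.node [] (.node [] (.node [] (.node [] .nil (.node [(4,(.ofNat 1),1)] .nil .nil)) .nil) (.node [] (.node [] .nil (.node [(5,(.negSucc 0),1)] .nil .nil)) (.node [] (.node [] .nil (.node [(22,(.negSucc 0),1)] .nil .nil)) .nil))) (.node [] (.node [] (.node [] .nil (.node [] .nil (.node [(35,(.negSucc 0),1)] .nil .nil))) .nil) (.node [] (.node [] .nil (.node [] .nil (.node [(42,(.negSucc 0),1)] .nil .nil))) (.node [] (.node [] .nil (.node [(24,(.ofNat 1),1)] .nil .nil)) .nil)))) (.node [] (.node [] (.node [] (.node [] (.node [] .nil (.node [(11,(.negSucc 0),1)] .nil .nil)) .nil) .nil) (.node [] .nil (.node [(1,(.negSucc 0),1)] .nil (.node [(8,(.ofNat 1),1)] .nil .nil)))) (.node [] (.node [] (.node [] .nil (.node [] .nil (.node [(39,(.negSucc 0),1)] .nil .nil))) .nil) (.node [] .nil (.node [] (.node [] .nil (.node [(26,(.ofNat 1),1)] .nil .nil)) (.node [(9,(.ofNat 1),1)] .nil .nil))))))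
noncomputable def ex25 : Trie (List (ℕ × ℤ × ℕ)) := (.node [] (.node [] (.node [] (.node [] (.node [] (.node [] .nil (.node [(11,(.negSucc 0),1)] .nil .nil)) .nil) .nil) (.node [] .nil (.node [] (.node [] .nil (.node [(23,(.ofNat 1),1)] .nil .nil)) (.node [(8,(.ofNat 1),1)] .nil .nil)))) (.node [] (.node [] (.node [] .nil (.node [] .nil (.node [(36,(.ofNat 1),1)] .nil .nil))) .nil) .nil)) (.node [] (.node [] .nil (.node [] (.node [] .nil (.node [] .nil (.node [(42,(.negSucc 0),1)] .nil .nil))) (.node [(2,(.negSucc 0),1)] (.node [] .nil (.node [(24,(.ofNat 1),1)] .nil .nil)) .nil))) (.node [] (.node [] (.node [] .nil (.node [(5,(.negSucc 0),1)] .nil (.node [(40,(.ofNat 1),1)] .nil .nil))) .nil) (.node [] .nil (.node [(4,(.ofNat 1),1)] (.node [] .nil (.node [(27,(.negSucc 0),1)] .nil .nil)) (.node [(10,(.negSucc 0),1)] .nil .nil))))))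
noncomputable def ex26 : Trie (List (ℕ × ℤ × ℕ)) := (.node [] (.node [] (.node [] .nil (.node [] (.node [] .nil (.node [] .nil (.node [(42,(.negSucc 0),1)] .nil .nil))) (.node [] (.node [] .nil (.node [(25,(.negSucc 0),1)] .nil .nil)) (.node [(9,(.negSucc 0),1)] .nil .nil)))) (.node [] (.node [] (.node [] .nil (.node [(5,(.negSucc 0),1)] .nil (.node [(37,(.negSucc 0),1)] .nil .nil))) .nil) (.node [] .nil (.node [(4,(.ofNat 1),1)] (.node [] .nil (.node [(27,(.negSucc 0),1)] .nil .nil)) (.node [(11,(.negSucc 0),1)] .nil .nil))))) (.node [] (.node [] .nil (.node [] .nil (.node [(3,(.negSucc 0),1)] (.node [] .nil (.node [(26,(.negSucc 0),1)] .nil .nil)) (.node [(10,(.negSucc 0),1)] .nil .nil)))) (.node [] (.node [] (.node [] .nil (.node [] .nil (.node [(41,(.negSucc 0),1)] .nil .nil))) .nil) .nil)))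
noncomputable def ex27 : Trie (List (ℕ × ℤ × ℕ)) := (.node [] (.node [] (.node [] (.node [] (.node [] .nil (.node [] .nil (.node [(34,(.ofNat 1),1)] .nil .nil))) (.node [] .nil (.node [(8,(.ofNat 1),1)] .nil .nil))) (.node [] .nil (.node [(0,(.negSucc 0),1)] .nil .nil))) (.node [] (.node [] .nil (.node [] .nil (.node [(9,(.ofNat 1),1)] .nil .nil))) (.node [] .nil (.node [] (.node [] .nil (.node [(29,(.ofNat 1),1)] .nil .nil)) .nil)))) (.node [] (.node [] (.node [] (.node [] .nil (.node [(6,(.ofNat 1),1)] .nil (.node [(38,(.ofNat 1),1)] .nil .nil))) .nil) (.node [] (.node [] .nil (.node [(7,(.ofNat 1),1)] .nil .nil)) (.node [] (.node [] .nil (.node [(28,(.ofNat 1),1)] .nil .nil)) .nil))) (.node [] (.node [] .nil (.node [] .nil (.node [(10,(.ofNat 1),1)] .nil .nil))) (.node [] (.node [] .nil (.node [] .nil (.node [(43,(.ofNat 1),1)] .nil .nil))) (.node [] (.node [] .nil (.node [(31,(.ofNat 1),1)] .nil .nil)) .nil)))))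
noncomputable def ex28 : Trie (List (ℕ × ℤ × ℕ)) := (.node [] (.node [] (.node [] (.node [] (.node [] .nil (.node [(6,(.ofNat 1),1)] .nil (.node [(35,(.negSucc 0),1)] .nil .nil))) .nil) (.node [] (.node [] .nil (.node [(7,(.ofNat 1),1)] .nil .nil)) (.node [(1,(.negSucc 0),1)] (.node [] .nil (.node [(28,(.ofNat 1),1)] .nil .nil)) .nil))) (.node [] .nil (.node [] (.node [] .nil (.node [] .nil (.node [(43,(.ofNat 1),1)] .nil .nil))) (.node [] (.node [] .nil (.node [(30,(.negSucc 0),1)] .nil .nil)) .nil)))) (.node [] (.node [] (.node [] (.node [] .nil (.node [] .nil (.node [(39,(.negSucc 0),1)] .nil .nil))) (.node [] .nil (.node [(9,(.ofNat 1),1)] .nil .nil))) .nil) (.node [] (.node [] .nil (.node [] .nil (.node [(11,(.negSucc 0),1)] .nil .nil))) (.node [] (.node [] .nil (.node [(8,(.ofNat 1),1)] .nil .nil)) (.node [] (.node [] .nil (.node [(32,(.negSucc 0),1)] .nil .nil)) .nil)))))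
noncomputable def ex29 : Trie (List (ℕ × ℤ × ℕ)) := (.node [] (.node [] (.node [] (.node [] (.node [] .nil (.node [] .nil (.node [(36,(.ofNat 1),1)] .nil .nil))) .nil) (.node [] .nil (.node [(2,(.negSucc 0),1)] (.node [] .nil (.node [(29,(.negSucc 0),1)] .nil .nil)) .nil))) (.node [] (.node [] .nil (.node [] .nil (.node [(11,(.negSucc 0),1)] .nil .nil))) (.node [] (.node [] .nil (.node [(8,(.ofNat 1),1)] .nil .nil)) .nil))) (.node [] (.node [] (.node [] (.node [] .nil (.node [] .nil (.node [(40,(.ofNat 1),1)] .nil .nil))) (.node [] .nil (.node [(10,(.negSucc 0),1)] .nil .nil))) (.node [] (.node [] .nil (.node [] .nil (.node [(43,(.ofNat 1),1)] .nil .nil))) (.node [] (.node [] .nil (.node [(30,(.negSucc 0),1)] .nil .nil)) .nil))) (.node [] (.node [] (.node [] .nil (.node [(7,(.ofNat 1),1)] .nil .nil)) .nil) (.node [] .nil (.node [(6,(.ofNat 1),1)] (.node [] .nil (.node [(33,(.ofNat 1),1)] .nil .nil)) .nil)))))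
noncomputable def ex30 : Trie (List (ℕ × ℤ × ℕ)) := (.node [] (.node [] (.node [] (.node [] (.node [] .nil (.node [] .nil (.node [(37,(.negSucc 0),1)] .nil .nil))) (.node [] .nil (.node [(11,(.negSucc 0),1)] .nil .nil))) (.node [] (.node [] .nil (.node [] .nil (.node [(43,(.ofNat 1),1)] .nil .nil))) (.node [(3,(.negSucc 0),1)] (.node [] .nil (.node [(31,(.ofNat 1),1)] .nil .nil)) .nil))) (.node [] (.node [] (.node [] .nil (.node [(7,(.ofNat 1),1)] .nil .nil)) .nil) (.node [] (.node [] .nil (.node [(9,(.negSucc 0),1)] .nil .nil)) (.node [(6,(.ofNat 1),1)] (.node [] .nil (.node [(33,(.ofNat 1),1)] .nil .nil)) .nil)))) (.node [] (.node [] (.node [] (.node [] .nil (.node [] .nil (.node [(41,(.negSucc 0),1)] .nil .nil))) .nil) (.node [] .nil (.node [] (.node [] .nil (.node [(32,(.ofNat 1),1)] .nil .nil)) .nil))) (.node [] .nil (.node [] (.node [] .nil (.node [(10,(.negSucc 0),1)] .nil .nil)) .nil))))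
noncomputable def ex31 : Trie (List (ℕ × ℤ × ℕ)) := (.node [] (.node [] (.node [] .nil (.node [] (.node [] .nil (.node [(10,(.negSucc 0),1)] .nil .nil)) (.node [(4,(.negSucc 0),1)] (.node [] .nil (.node [(34,(.negSucc 0),1)] .nil .nil)) .nil))) (.node [] (.node [] (.node [] .nil (.node [(8,(.negSucc 0),1)] .nil .nil)) .nil) (.node [] .nil (.node [] (.node [] .nil (.node [(36,(.negSucc 0),1)] .nil .nil)) .nil)))) (.node [] (.node [] (.node [] (.node [] .nil (.node [] .nil (.node [(42,(.ofNat 1),1)] .nil .nil))) .nil) (.node [] (.node [] .nil (.node [(11,(.negSucc 0),1)] .nil .nil)) (.node [(6,(.ofNat 1),1)] (.node [] .nil (.node [(35,(.negSucc 0),1)] .nil .nil)) .nil))) (.node [] (.node [] (.node [] .nil (.node [(9,(.negSucc 0),1)] .nil (.node [(43,(.ofNat 1),1)] .nil .nil))) .nil) (.node [] .nil (.node [] (.node [] .nil (.node [(37,(.negSucc 0),1)] .nil .nil)) .nil)))))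
noncomputable def ex32 : Trie (List (ℕ × ℤ × ℕ)) := (.node [] (.node [] (.node [] (.node [] (.node [] .nil (.node [(10,(.negSucc 0),1)] .nil (.node [(42,(.ofNat 1),1)] .nil .nil))) .nil) (.node [] .nil (.node [(5,(.negSucc 0),1)] (.node [] .nil (.node [(38,(.ofNat 1),1)] .nil .nil)) .nil))) (.node [] (.node [] (.node [] .nil (.node [] .nil (.node [(43,(.ofNat 1),1)] .nil .nil))) .nil) (.node [] .nil (.node [(8,(.negSucc 0),1)] (.node [] .nil (.node [(40,(.ofNat 1),1)] .nil .nil)) .nil)))) (.node [] (.node [] (.node [] (.node [] .nil (.node [(11,(.negSucc 0),1)] .nil .nil)) .nil) (.node [] .nil (.node [(7,(.negSucc 0),1)] (.node [] .nil (.node [(39,(.ofNat 1),1)] .nil .nil)) .nil))) (.node [] .nil (.node [] .nil (.node [(9,(.negSucc 0),1)] (.node [] .nil (.node [(41,(.ofNat 1),1)] .nil .nil)) .nil)))))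
noncomputable def ex33 : Trie (List (ℕ × ℤ × ℕ)) := (.node [] (.node [] (.node [] (.node [] .nil (.node [] (.node [] .nil (.node [(18,(.ofNat 1),1)] .nil .nil)) .nil)) (.node [] (.node [] (.node [] .nil (.node [(14,(.ofNat 1),1)] .nil .nil)) .nil) .nil)) (.node [] (.node [] .nil (.node [(0,(.negSucc 0),1)] (.node [] .nil (.node [(22,(.ofNat 1),1)] .nil .nil)) .nil)) (.node [] (.node [] .nil (.node [] .nil (.node [(44,(.ofNat 1),1)] .nil .nil))) .nil))) (.node [] (.node [] (.node [] (.node [] (.node [] .nil (.node [(13,(.ofNat 1),1)] .nil .nil)) .nil) (.node [] (.node [] .nil (.node [(19,(.ofNat 1),1)] .nil .nil)) .nil)) (.node [] (.node [] (.node [] .nil (.node [(15,(.ofNat 1),1)] .nil .nil)) .nil) .nil)) (.node [] (.node [] .nil (.node [(1,(.ofNat 1),1)] (.node [] .nil (.node [(28,(.ofNat 1),1)] .nil .nil)) (.node [(12,(.ofNat 1),1)] .nil .nil))) (.node [] (.node [] .nil (.node [] .nil (.node [(45,(.ofNat 1),1)] .nil .nil))) .nil))))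
noncomputable def ex34 : Trie (List (ℕ × ℤ × ℕ)) := (.node [] (.node [] (.node [] (.node [] (.node [] (.node [] .nil (.node [(13,(.ofNat 1),1)] .nil .nil)) .nil) .nil) .nil) (.node [] (.node [] .nil (.node [] (.node [] .nil (.node [(23,(.negSucc 0),1)] .nil .nil)) (.node [(12,(.ofNat 1),1)] .nil .nil))) .nil)) (.node [] (.node [] (.node [] .nil (.node [(0,(.negSucc 0),1)] (.node [] .nil (.node [(20,(.negSucc 0),1)] .nil .nil)) .nil)) (.node [] (.node [] (.node [] .nil (.node [(16,(.negSucc 0),1)] .nil .nil)) (.node [] .nil (.node [(44,(.ofNat 1),1)] .nil .nil))) .nil)) (.node [] (.node [] (.node [] (.node [] .nil (.node [(14,(.ofNat 1),1)] .nil .nil)) .nil) (.node [(2,(.ofNat 1),1)] (.node [] .nil (.node [(29,(.negSucc 0),1)] .nil .nil)) .nil)) (.node [] (.node [] (.node [] .nil (.node [(18,(.ofNat 1),1)] .nil .nil)) (.node [] .nil (.node [(46,(.negSucc 0),1)] .nil .nil))) .nil))))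
noncomputable def ex35 : Trie (List (ℕ × ℤ × ℕ)) := (.node [] (.node [] .nil (.node [] (.node [] (.node [] (.node [] .nil (.node [(14,(.ofNat 1),1)] .nil .nil)) .nil) (.node [(2,(.ofNat 1),1)] (.node [] .nil (.node [(24,(.ofNat 1),1)] .nil .nil)) .nil)) (.node [] (.node [] (.node [] .nil (.node [(18,(.ofNat 1),1)] .nil .nil)) (.node [] .nil (.node [(46,(.negSucc 0),1)] .nil .nil))) .nil))) (.node [] (.node [] (.node [] .nil (.node [(1,(.negSucc 0),1)] (.node [] .nil (.node [(21,(.ofNat 1),1)] .nil .nil)) (.node [(12,(.ofNat 1),1)] .nil .nil))) (.node [] (.node [] (.node [] .nil (.node [(17,(.ofNat 1),1)] .nil .nil)) (.node [] .nil (.node [(45,(.negSucc 0),1)] .nil .nil))) .nil)) (.node [] (.node [] .nil (.node [] (.node [] .nil (.node [(30,(.ofNat 1),1)] .nil .nil)) .nil)) (.node [] .nil (.node [] .nil (.node [(13,(.ofNat 1),1)] .nil .nil))))))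
noncomputable def ex36 : Trie (List (ℕ × ℤ × ℕ)) := (.node [] (.node [] (.node [] (.node [] .nil (.node [(0,(.negSucc 0),1)] (.node [] .nil (.node [(20,(.negSucc 0),1)] .nil .nil)) (.node [(12,(.ofNat 1),1)] .nil .nil))) (.node [] (.node [] (.node [] .nil (.node [(16,(.negSucc 0),1)] .nil .nil)) (.node [] .nil (.node [(44,(.ofNat 1),1)] .nil .nil))) .nil)) (.node [] (.node [] .nil (.node [] (.node [] .nil (.node [(25,(.ofNat 1),1)] .nil .nil)) .nil)) (.node [] .nil (.node [] .nil (.node [(13,(.ofNat 1),1)] .nil .nil))))) (.node [] .nil (.node [] (.node [] (.node [] (.node [] .nil (.node [(15,(.negSucc 0),1)] .nil .nil)) .nil) (.node [(3,(.ofNat 1),1)] (.node [] .nil (.node [(31,(.ofNat 1),1)] .nil .nil)) .nil)) (.node [] (.node [] (.node [] .nil (.node [(19,(.negSucc 0),1)] .nil .nil)) (.node [] .nil (.node [(47,(.ofNat 1),1)] .nil .nil))) .nil))))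
noncomputable def ex37 : Trie (List (ℕ × ℤ × ℕ)) := (.node [] (.node [] (.node [] (.node [] .nil (.node [(1,(.negSucc 0),1)] (.node [] .nil (.node [(21,(.ofNat 1),1)] .nil .nil)) .nil)) (.node [] (.node [] (.node [] .nil (.node [(17,(.ofNat 1),1)] .nil .nil)) (.node [] .nil (.node [(45,(.negSucc 0),1)] .nil .nil))) .nil)) (.node [] (.node [] (.node [] (.node [] .nil (.node [(15,(.negSucc 0),1)] .nil .nil)) .nil) (.node [(3,(.ofNat 1),1)] (.node [] .nil (.node [(26,(.negSucc 0),1)] .nil .nil)) .nil)) (.node [] (.node [] (.node [] .nil (.node [(19,(.negSucc 0),1)] .nil .nil)) (.node [] .nil (.node [(47,(.ofNat 1),1)] .nil .nil))) .nil))) (.node [] (.node [] .nil (.node [] .nil (.node [] .nil (.node [(13,(.ofNat 1),1)] .nil .nil)))) (.node [] (.node [] .nil (.node [] (.node [] .nil (.node [(32,(.negSucc 0),1)] .nil .nil)) .nil)) (.node [] (.node [] .nil (.node [(12,(.ofNat 1),1)] .nil .nil)) .nil))))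
noncomputable def ex38 : Trie (List (ℕ × ℤ × ℕ)) := (.node [] (.node [] (.node [] (.node [] .nil (.node [(2,(.negSucc 0),1)] .nil .nil)) (.node [] (.node [] .nil (.node [] .nil (.node [(46,(.ofNat 1),1)] .nil .nil))) (.node [] .nil (.node [(13,(.ofNat 1),1)] .nil .nil)))) (.node [] (.node [] (.node [] (.node [] .nil (.node [(16,(.ofNat 1),1)] .nil .nil)) .nil) (.node [] (.node [] .nil (.node [(27,(.ofNat 1),1)] .nil .nil)) .nil)) (.node [] (.node [] (.node [] .nil (.node [(20,(.ofNat 1),1)] .nil .nil)) (.node [(12,(.ofNat 1),1)] .nil .nil)) .nil))) (.node [] (.node [] (.node [] .nil (.node [(3,(.ofNat 1),1)] .nil .nil)) (.node [] (.node [] .nil (.node [] .nil (.node [(47,(.ofNat 1),1)] .nil .nil))) .nil)) (.node [] (.node [] (.node [] (.node [] .nil (.node [(17,(.ofNat 1),1)] .nil .nil)) .nil) (.node [] (.node [] .nil (.node [(33,(.ofNat 1),1)] .nil .nil)) .nil)) (.node [] (.node [] (.node [] .nil (.node [(21,(.ofNat 1),1)] .nil .nil)) .nil) .nil))))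
noncomputable def ex39 : Trie (List (ℕ × ℤ × ℕ)) := (.node [] (.node [] (.node [] (.node [] (.node [] (.node [] .nil (.node [(15,(.negSucc 0),1)] .nil .nil)) .nil) (.node [] (.node [] .nil (.node [(23,(.ofNat 1),1)] .nil .nil)) .nil)) .nil) (.node [] .nil (.node [] .nil (.node [] .nil (.node [(14,(.negSucc 0),1)] .nil .nil))))) (.node [] (.node [] (.node [] (.node [] (.node [] .nil (.node [(16,(.negSucc 0),1)] .nil .nil)) .nil) (.node [] (.node [] .nil (.node [(25,(.ofNat 1),1)] .nil .nil)) .nil)) (.node [] (.node [] .nil (.node [(12,(.ofNat 1),1)] .nil .nil)) .nil)) (.node [] (.node [] (.node [] .nil (.node [] .nil (.node [(44,(.ofNat 1),1)] .nil .nil))) (.node [(4,(.ofNat 1),1)] (.node [] .nil (.node [(34,(.negSucc 0),1)] .nil .nil)) .nil)) (.node [(0,(.negSucc 0),1)] (.node [] (.node [] .nil (.node [(22,(.ofNat 1),1)] .nil .nil)) (.node [] .nil (.node [(48,(.negSucc 0),1)] .nil .nil))) .nil))))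
noncomputable def ex40 : Trie (List (ℕ × ℤ × ℕ)) := (.node [] (.node [] (.node [] (.node [] .nil (.node [] (.node [] .nil (.node [(24,(.negSucc 0),1)] .nil .nil)) .nil)) (.node [] (.node [] .nil (.node [(12,(.ofNat 1),1)] .nil .nil)) .nil)) (.node [] (.node [] .nil (.node [(4,(.ofNat 1),1)] .nil .nil)) (.node [] (.node [] (.node [] .nil (.node [(22,(.ofNat 1),1)] .nil .nil)) (.node [] .nil (.node [(48,(.negSucc 0),1)] .nil .nil))) .nil))) (.node [] (.node [] (.node [] (.node [] (.node [] .nil (.node [(17,(.ofNat 1),1)] .nil .nil)) .nil) (.node [] (.node [] .nil (.node [(26,(.negSucc 0),1)] .nil .nil)) .nil)) (.node [] .nil (.node [] .nil (.node [(14,(.negSucc 0),1)] .nil .nil)))) (.node [] (.node [] (.node [] .nil (.node [] .nil (.node [(45,(.negSucc 0),1)] .nil .nil))) (.node [] (.node [] .nil (.node [(35,(.ofNat 1),1)] .nil .nil)) .nil)) (.node [(1,(.negSucc 0),1)] .nil (.node [] .nil (.node [(15,(.negSucc 0),1)] .nil .nil))))))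
noncomputable def ex41 : Trie (List (ℕ × ℤ × ℕ)) := (.node [] (.node [] (.node [] (.node [] (.node [] (.node [] .nil (.node [(17,(.ofNat 1),1)] .nil .nil)) .nil) .nil) (.node [] .nil (.node [] .nil (.node [(14,(.negSucc 0),1)] .nil .nil)))) (.node [] .nil (.node [] (.node [] (.node [] .nil (.node [(23,(.negSucc 0),1)] .nil .nil)) .nil) .nil))) (.node [] (.node [] (.node [] .nil (.node [(4,(.ofNat 1),1)] (.node [] .nil (.node [(27,(.ofNat 1),1)] .nil .nil)) .nil)) (.node [] (.node [] .nil (.node [] .nil (.node [(48,(.negSucc 0),1)] .nil .nil))) .nil)) (.node [] (.node [] (.node [] .nil (.node [(12,(.ofNat 1),1)] .nil (.node [(46,(.ofNat 1),1)] .nil .nil))) (.node [] (.node [] .nil (.node [(36,(.negSucc 0),1)] .nil .nil)) .nil)) (.node [(2,(.negSucc 0),1)] (.node [] (.node [] .nil (.node [(24,(.negSucc 0),1)] .nil .nil)) .nil) (.node [] .nil (.node [(16,(.ofNat 1),1)] .nil .nil))))))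
noncomputable def ex42 : Trie (List (ℕ × ℤ × ℕ)) := (.node [] (.node [] (.node [] (.node [] .nil (.node [(4,(.ofNat 1),1)] (.node [] .nil (.node [(27,(.ofNat 1),1)] .nil .nil)) .nil)) (.node [] (.node [] .nil (.node [] .nil (.node [(48,(.negSucc 0),1)] .nil .nil))) (.node [] .nil (.node [(15,(.ofNat 1),1)] .nil .nil)))) (.node [] (.node [] (.node [] .nil (.node [(12,(.ofNat 1),1)] .nil .nil)) .nil) (.node [] (.node [] (.node [] .nil (.node [(25,(.ofNat 1),1)] .nil .nil)) .nil) (.node [] .nil (.node [(17,(.ofNat 1),1)] .nil .nil))))) (.node [] (.node [] .nil (.node [] .nil (.node [] .nil (.node [(16,(.ofNat 1),1)] .nil .nil)))) (.node [] (.node [] (.node [] .nil (.node [] .nil (.node [(47,(.negSucc 0),1)] .nil .nil))) (.node [] (.node [] .nil (.node [(37,(.ofNat 1),1)] .nil .nil)) .nil)) (.node [(3,(.negSucc 0),1)] (.node [] (.node [] .nil (.node [(26,(.ofNat 1),1)] .nil .nil)) .nil) .nil))))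
noncomputable def ex43 : Trie (List (ℕ × ℤ × ℕ)) := (.node [] (.node [] (.node [] (.node [] (.node [] (.node [] .nil (.node [(19,(.ofNat 1),1)] .nil .nil)) .nil) .nil) (.node [] (.node [] (.node [] .nil (.node [(23,(.ofNat 1),1)] .nil .nil)) .nil) .nil)) (.node [] (.node [] (.node [] .nil (.node [] .nil (.node [(44,(.ofNat 1),1)] .nil .nil))) .nil) (.node [(0,(.negSucc 0),1)] .nil (.node [] .nil (.node [(18,(.ofNat 1),1)] .nil .nil))))) (.node [] (.node [] (.node [] (.node [] (.node [] .nil (.node [(20,(.ofNat 1),1)] .nil .nil)) (.node [(12,(.ofNat 1),1)] .nil .nil)) .nil) (.node [] (.node [] (.node [] .nil (.node [(25,(.ofNat 1),1)] .nil .nil)) .nil) .nil)) (.node [] (.node [] (.node [] (.node [] .nil (.node [(22,(.ofNat 1),1)] .nil .nil)) .nil) (.node [(5,(.ofNat 1),1)] (.node [] .nil (.node [(38,(.ofNat 1),1)] .nil .nil)) .nil)) (.node [] (.node [] .nil (.node [] .nil (.node [(49,(.ofNat 1),1)] .nil .nil))) .nil))))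
noncomputable def ex44 : Trie (List (ℕ × ℤ × ℕ)) := (.node [] (.node [] (.node [] (.node [] (.node [] .nil (.node [(12,(.ofNat 1),1)] .nil .nil)) .nil) (.node [] (.node [] (.node [] .nil (.node [(24,(.negSucc 0),1)] .nil .nil)) .nil) .nil)) (.node [] (.node [] (.node [] (.node [] .nil (.node [(22,(.ofNat 1),1)] .nil .nil)) (.node [] .nil (.node [(45,(.negSucc 0),1)] .nil .nil))) (.node [(5,(.ofNat 1),1)] .nil .nil)) (.node [(1,(.negSucc 0),1)] (.node [] .nil (.node [] .nil (.node [(49,(.ofNat 1),1)] .nil .nil))) .nil))) (.node [] (.node [] (.node [] (.node [] (.node [] .nil (.node [(21,(.negSucc 0),1)] .nil .nil)) .nil) .nil) (.node [] (.node [] (.node [] .nil (.node [(26,(.negSucc 0),1)] .nil .nil)) .nil) (.node [] .nil (.node [(18,(.ofNat 1),1)] .nil .nil)))) (.node [] (.node [] .nil (.node [] (.node [] .nil (.node [(39,(.negSucc 0),1)] .nil .nil)) .nil)) (.node [] .nil (.node [] .nil (.node [(19,(.ofNat 1),1)] .nil .nil))))))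
noncomputable def ex45 : Trie (List (ℕ × ℤ × ℕ)) := (.node [] (.node [] (.node [] (.node [] (.node [] (.node [] .nil (.node [(21,(.negSucc 0),1)] .nil .nil)) .nil) .nil) (.node [] .nil (.node [] .nil (.node [(18,(.ofNat 1),1)] .nil .nil)))) (.node [] (.node [] (.node [] (.node [] .nil (.node [(23,(.negSucc 0),1)] .nil .nil)) (.node [] .nil (.node [(46,(.ofNat 1),1)] .nil .nil))) .nil) (.node [(2,(.negSucc 0),1)] .nil .nil))) (.node [] (.node [] (.node [] .nil (.node [(5,(.ofNat 1),1)] .nil .nil)) (.node [] (.node [] (.node [] .nil (.node [(27,(.ofNat 1),1)] .nil .nil)) (.node [] .nil (.node [(49,(.ofNat 1),1)] .nil .nil))) .nil)) (.node [] (.node [] (.node [] (.node [] .nil (.node [(24,(.negSucc 0),1)] .nil .nil)) .nil) (.node [] (.node [] .nil (.node [(40,(.ofNat 1),1)] .nil .nil)) .nil)) (.node [] .nil (.node [(12,(.ofNat 1),1)] .nil (.node [(20,(.negSucc 0),1)] .nil .nil))))))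
noncomputable def ex46 : Trie (List (ℕ × ℤ × ℕ)) := (.node [] (.node [] (.node [] (.node [] .nil (.node [(5,(.ofNat 1),1)] .nil .nil)) (.node [] (.node [] (.node [] .nil (.node [(27,(.ofNat 1),1)] .nil .nil)) (.node [] .nil (.node [(49,(.ofNat 1),1)] .nil .nil))) (.node [] .nil (.node [(19,(.negSucc 0),1)] .nil .nil)))) (.node [] (.node [] (.node [] (.node [] .nil (.node [(25,(.ofNat 1),1)] .nil .nil)) (.node [] .nil (.node [(47,(.negSucc 0),1)] .nil .nil))) .nil) (.node [(3,(.negSucc 0),1)] .nil (.node [(12,(.ofNat 1),1)] .nil (.node [(21,(.negSucc 0),1)] .nil .nil))))) (.node [] (.node [] .nil (.node [] .nil (.node [] .nil (.node [(20,(.negSucc 0),1)] .nil .nil)))) (.node [] (.node [] (.node [] (.node [] .nil (.node [(26,(.ofNat 1),1)] .nil .nil)) .nil) (.node [] (.node [] .nil (.node [(41,(.negSucc 0),1)] .nil .nil)) .nil)) .nil)))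
noncomputable def ex47 : Trie (List (ℕ × ℤ × ℕ)) := (.node [] (.node [] (.node [] (.node [] (.node [] (.node [] .nil (.node [(26,(.ofNat 1),1)] .nil .nil)) .nil) .nil) (.node [] .nil (.node [] .nil (.node [(22,(.ofNat 1),1)] .nil .nil)))) (.node [] (.node [] (.node [] .nil (.node [] .nil (.node [(48,(.ofNat 1),1)] .nil .nil))) .nil) (.node [(4,(.negSucc 0),1)] .nil (.node [] .nil (.node [(24,(.ofNat 1),1)] .nil .nil))))) (.node [] (.node [] (.node [] (.node [] (.node [] .nil (.node [(27,(.ofNat 1),1)] .nil .nil)) .nil) .nil) (.node [] .nil (.node [(12,(.ofNat 1),1)] .nil (.node [(23,(.ofNat 1),1)] .nil .nil)))) (.node [] (.node [] (.node [] .nil (.node [] .nil (.node [(49,(.ofNat 1),1)] .nil .nil))) (.node [] (.node [] .nil (.node [(42,(.ofNat 1),1)] .nil .nil)) .nil)) (.node [(5,(.ofNat 1),1)] .nil (.node [] .nil (.node [(25,(.ofNat 1),1)] .nil .nil))))))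
noncomputable def ex48 : Trie (List (ℕ × ℤ × ℕ)) := (.node [] (.node [] (.node [] (.node [] .nil (.node [] (.node [] .nil (.node [(29,(.negSucc 0),1)] .nil .nil)) (.node [(14,(.negSucc 0),1)] .nil .nil))) .nil) (.node [] (.node [] .nil (.node [] (.node [] .nil (.node [(34,(.negSucc 0),1)] .nil .nil)) (.node [(15,(.negSucc 0),1)] .nil .nil))) .nil)) (.node [] (.node [] (.node [] (.node [] .nil (.node [] .nil (.node [(44,(.ofNat 1),1)] .nil .nil))) (.node [] (.node [] .nil (.node [(31,(.negSucc 0),1)] .nil .nil)) .nil)) (.node [(0,(.negSucc 0),1)] (.node [] .nil (.node [(13,(.negSucc 0),1)] .nil .nil)) .nil)) (.node [] (.node [] .nil (.node [(6,(.ofNat 1),1)] .nil (.node [(16,(.negSucc 0),1)] .nil .nil))) (.node [] (.node [] (.node [] .nil (.node [(28,(.negSucc 0),1)] .nil .nil)) (.node [] .nil (.node [(50,(.ofNat 1),1)] .nil .nil))) .nil))))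
noncomputable def ex49 : Trie (List (ℕ × ℤ × ℕ)) := (.node [] (.node [] (.node [] (.node [] .nil (.node [] (.node [] .nil (.node [(30,(.ofNat 1),1)] .nil .nil)) .nil)) (.node [] (.node [] .nil (.node [(13,(.negSucc 0),1)] .nil .nil)) .nil)) (.node [] (.node [] .nil (.node [(6,(.ofNat 1),1)] (.node [] .nil (.node [(35,(.ofNat 1),1)] .nil .nil)) .nil)) (.node [] (.node [] (.node [] .nil (.node [(28,(.negSucc 0),1)] .nil .nil)) (.node [] .nil (.node [(50,(.ofNat 1),1)] .nil .nil))) .nil))) (.node [] (.node [] (.node [] (.node [] .nil (.node [] .nil (.node [(45,(.negSucc 0),1)] .nil .nil))) (.node [] (.node [] .nil (.node [(32,(.ofNat 1),1)] .nil .nil)) (.node [(15,(.negSucc 0),1)] .nil .nil))) (.node [(1,(.negSucc 0),1)] .nil .nil)) (.node [] (.node [] .nil (.node [] .nil (.node [(17,(.ofNat 1),1)] .nil .nil))) (.node [] (.node [] .nil (.node [(14,(.negSucc 0),1)] .nil .nil)) .nil))))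
noncomputable def ex50 : Trie (List (ℕ × ℤ × ℕ)) := (.node [] (.node [] .nil (.node [] (.node [] .nil (.node [] (.node [] .nil (.node [(36,(.negSucc 0),1)] .nil .nil)) (.node [(17,(.ofNat 1),1)] .nil .nil))) (.node [] (.node [] (.node [] .nil (.node [(29,(.ofNat 1),1)] .nil .nil)) (.node [(14,(.negSucc 0),1)] .nil .nil)) .nil))) (.node [] (.node [] (.node [] (.node [] .nil (.node [] .nil (.node [(46,(.ofNat 1),1)] .nil .nil))) (.node [(6,(.ofNat 1),1)] (.node [] .nil (.node [(33,(.negSucc 0),1)] .nil .nil)) (.node [(16,(.ofNat 1),1)] .nil .nil))) (.node [(2,(.negSucc 0),1)] (.node [] .nil (.node [] .nil (.node [(50,(.ofNat 1),1)] .nil .nil))) .nil)) (.node [] (.node [] (.node [] .nil (.node [(13,(.negSucc 0),1)] .nil .nil)) .nil) (.node [] (.node [] (.node [] .nil (.node [(30,(.ofNat 1),1)] .nil .nil)) .nil) .nil))))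
noncomputable def ex51 : Trie (List (ℕ × ℤ × ℕ)) := (.node [] (.node [] (.node [] (.node [] .nil (.node [(6,(.ofNat 1),1)] (.node [] .nil (.node [(33,(.negSucc 0),1)] .nil .nil)) (.node [(17,(.ofNat 1),1)] .nil .nil))) (.node [] (.node [] .nil (.node [] .nil (.node [(50,(.ofNat 1),1)] .nil .nil))) .nil)) (.node [] (.node [] (.node [] .nil (.node [(13,(.negSucc 0),1)] .nil .nil)) (.node [] (.node [] .nil (.node [(37,(.ofNat 1),1)] .nil .nil)) .nil)) (.node [] (.node [] (.node [] .nil (.node [(31,(.negSucc 0),1)] .nil .nil)) (.node [(15,(.ofNat 1),1)] .nil .nil)) .nil))) (.node [] (.node [] (.node [] (.node [] .nil (.node [] .nil (.node [(47,(.negSucc 0),1)] .nil .nil))) .nil) (.node [(3,(.negSucc 0),1)] .nil .nil)) (.node [] .nil (.node [] (.node [] (.node [] .nil (.node [(32,(.negSucc 0),1)] .nil .nil)) (.node [(16,(.ofNat 1),1)] .nil .nil)) .nil))))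
noncomputable def ex52 : Trie (List (ℕ × ℤ × ℕ)) := (.node [] (.node [] (.node [] (.node [] .nil (.node [] (.node [] .nil (.node [(36,(.ofNat 1),1)] .nil .nil)) .nil)) (.node [] (.node [] .nil (.node [(16,(.ofNat 1),1)] .nil .nil)) .nil)) (.node [] (.node [] (.node [] .nil (.node [(14,(.ofNat 1),1)] .nil .nil)) .nil) (.node [] (.node [] (.node [] .nil (.node [(34,(.ofNat 1),1)] .nil .nil)) .nil) .nil))) (.node [] (.node [] (.node [] (.node [] .nil (.node [] .nil (.node [(48,(.ofNat 1),1)] .nil .nil))) (.node [] (.node [] .nil (.node [(37,(.ofNat 1),1)] .nil .nil)) .nil)) (.node [(4,(.negSucc 0),1)] (.node [] .nil (.node [(17,(.ofNat 1),1)] .nil .nil)) .nil)) (.node [] (.node [] (.node [] .nil (.node [(15,(.ofNat 1),1)] .nil (.node [(50,(.ofNat 1),1)] .nil .nil))) .nil) (.node [(6,(.ofNat 1),1)] (.node [] (.node [] .nil (.node [(35,(.ofNat 1),1)] .nil .nil)) .nil) .nil))))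
noncomputable def ex53 : Trie (List (ℕ × ℤ × ℕ)) := (.node [] (.node [] (.node [] (.node [] (.node [] .nil (.node [] .nil (.node [(44,(.negSucc 0),1)] .nil .nil))) (.node [] .nil (.node [(18,(.negSucc 0),1)] .nil .nil))) (.node [(0,(.negSucc 0),1)] (.node [] (.node [] .nil (.node [(29,(.ofNat 1),1)] .nil .nil)) .nil) .nil)) (.node [] (.node [] .nil (.node [] (.node [] .nil (.node [(38,(.negSucc 0),1)] .nil .nil)) (.node [(19,(.negSucc 0),1)] .nil .nil))) .nil)) (.node [] (.node [] (.node [] (.node [] .nil (.node [(13,(.ofNat 1),1)] .nil .nil)) .nil) (.node [] (.node [] (.node [] .nil (.node [(31,(.ofNat 1),1)] .nil .nil)) .nil) .nil)) (.node [] (.node [] (.node [] (.node [] .nil (.node [(28,(.ofNat 1),1)] .nil .nil)) .nil) (.node [(7,(.ofNat 1),1)] .nil (.node [(20,(.negSucc 0),1)] .nil .nil))) (.node [] (.node [] .nil (.node [] .nil (.node [(51,(.ofNat 1),1)] .nil .nil))) .nil))))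
noncomputable def ex54 : Trie (List (ℕ × ℤ × ℕ)) := (.node [] (.node [] (.node [] (.node [] (.node [] .nil (.node [(13,(.ofNat 1),1)] .nil (.node [(45,(.ofNat 1),1)] .nil .nil))) .nil) (.node [(1,(.negSucc 0),1)] (.node [] (.node [] .nil (.node [(30,(.negSucc 0),1)] .nil .nil)) .nil) .nil)) (.node [] (.node [] (.node [] (.node [] .nil (.node [(28,(.ofNat 1),1)] .nil .nil)) .nil) (.node [(7,(.ofNat 1),1)] (.node [] .nil (.node [(39,(.ofNat 1),1)] .nil .nil)) .nil)) (.node [] (.node [] .nil (.node [] .nil (.node [(51,(.ofNat 1),1)] .nil .nil))) .nil))) (.node [] (.node [] (.node [] .nil (.node [] .nil (.node [(19,(.negSucc 0),1)] .nil .nil))) (.node [] (.node [] (.node [] .nil (.node [(32,(.negSucc 0),1)] .nil .nil)) .nil) .nil)) (.node [] (.node [] .nil (.node [] .nil (.node [(21,(.ofNat 1),1)] .nil .nil))) (.node [] (.node [] .nil (.node [(18,(.negSucc 0),1)] .nil .nil)) .nil))))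
noncomputable def ex55 : Trie (List (ℕ × ℤ × ℕ)) := (.node [] (.node [] (.node [] (.node [] (.node [] .nil (.node [] .nil (.node [(46,(.negSucc 0),1)] .nil .nil))) .nil) (.node [(2,(.negSucc 0),1)] .nil .nil)) (.node [] (.node [] (.node [] (.node [] .nil (.node [(29,(.negSucc 0),1)] .nil .nil)) .nil) (.node [] (.node [] .nil (.node [(40,(.negSucc 0),1)] .nil .nil)) (.node [(21,(.ofNat 1),1)] .nil .nil))) (.node [] (.node [] .nil (.node [(18,(.negSucc 0),1)] .nil .nil)) .nil))) (.node [] (.node [] (.node [] .nil (.node [(7,(.ofNat 1),1)] .nil (.node [(20,(.ofNat 1),1)] .nil .nil))) (.node [] (.node [] (.node [] .nil (.node [(33,(.ofNat 1),1)] .nil .nil)) (.node [] .nil (.node [(51,(.ofNat 1),1)] .nil .nil))) .nil)) (.node [] (.node [] (.node [] (.node [] .nil (.node [(30,(.negSucc 0),1)] .nil .nil)) .nil) .nil) (.node [] .nil (.node [(13,(.ofNat 1),1)] .nil .nil)))))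
noncomputable def ex56 : Trie (List (ℕ × ℤ × ℕ)) := (.node [] (.node [] (.node [] (.node [] (.node [] .nil (.node [] .nil (.node [(47,(.ofNat 1),1)] .nil .nil))) (.node [(7,(.ofNat 1),1)] .nil (.node [(21,(.ofNat 1),1)] .nil .nil))) (.node [(3,(.negSucc 0),1)] (.node [] (.node [] .nil (.node [(33,(.ofNat 1),1)] .nil .nil)) (.node [] .nil (.node [(51,(.ofNat 1),1)] .nil .nil))) .nil)) (.node [] (.node [] (.node [] (.node [] .nil (.node [(31,(.ofNat 1),1)] .nil .nil)) .nil) (.node [] (.node [] .nil (.node [(41,(.ofNat 1),1)] .nil .nil)) .nil)) (.node [] (.node [] .nil (.node [(19,(.ofNat 1),1)] .nil .nil)) (.node [(13,(.ofNat 1),1)] .nil .nil)))) (.node [] .nil (.node [] (.node [] (.node [] (.node [] .nil (.node [(32,(.ofNat 1),1)] .nil .nil)) .nil) .nil) (.node [] (.node [] .nil (.node [(20,(.ofNat 1),1)] .nil .nil)) .nil))))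
noncomputable def ex57 : Trie (List (ℕ × ℤ × ℕ)) := (.node [] (.node [] (.node [] (.node [] (.node [] (.node [] .nil (.node [(28,(.negSucc 0),1)] .nil .nil)) .nil) .nil) .nil) (.node [] (.node [] .nil (.node [] .nil (.node [(22,(.negSucc 0),1)] .nil .nil))) .nil)) (.node [] (.node [] (.node [] (.node [] (.node [] .nil (.node [(29,(.negSucc 0),1)] .nil .nil)) (.node [(14,(.ofNat 1),1)] .nil .nil)) (.node [] (.node [] .nil (.node [(38,(.ofNat 1),1)] .nil .nil)) .nil)) (.node [] (.node [] (.node [] .nil (.node [(34,(.ofNat 1),1)] .nil .nil)) (.node [(18,(.ofNat 1),1)] .nil .nil)) .nil)) (.node [(0,(.negSucc 0),1)] (.node [] .nil (.node [(8,(.ofNat 1),1)] .nil (.node [(23,(.negSucc 0),1)] .nil .nil))) (.node [] (.node [] .nil (.node [] .nil (.node [(52,(.ofNat 1),1)] .nil .nil))) (.node [] (.node [] .nil (.node [(44,(.ofNat 1),1)] .nil .nil)) .nil)))))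
noncomputable def ex58 : Trie (List (ℕ × ℤ × ℕ)) := (.node [] (.node [] (.node [] (.node [] (.node [] .nil (.node [(14,(.ofNat 1),1)] .nil .nil)) .nil) (.node [] (.node [] .nil (.node [(18,(.ofNat 1),1)] .nil .nil)) .nil)) (.node [] (.node [] .nil (.node [(8,(.ofNat 1),1)] .nil .nil)) (.node [] (.node [] .nil (.node [] .nil (.node [(52,(.ofNat 1),1)] .nil .nil))) .nil))) (.node [] (.node [] (.node [] (.node [] (.node [] .nil (.node [(30,(.ofNat 1),1)] .nil .nil)) .nil) (.node [] (.node [] .nil (.node [(39,(.negSucc 0),1)] .nil .nil)) (.node [(22,(.negSucc 0),1)] .nil .nil))) (.node [] (.node [] (.node [] .nil (.node [(35,(.negSucc 0),1)] .nil .nil)) .nil) .nil)) (.node [(1,(.negSucc 0),1)] (.node [] .nil (.node [] .nil (.node [(24,(.ofNat 1),1)] .nil .nil))) (.node [] .nil (.node [] (.node [] .nil (.node [(45,(.negSucc 0),1)] .nil .nil)) (.node [(28,(.negSucc 0),1)] .nil .nil))))))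
noncomputable def ex59 : Trie (List (ℕ × ℤ × ℕ)) := (.node [] (.node [] (.node [] (.node [] (.node [] (.node [] .nil (.node [(30,(.ofNat 1),1)] .nil .nil)) .nil) .nil) .nil) (.node [] (.node [] .nil (.node [] .nil (.node [(24,(.ofNat 1),1)] .nil .nil))) .nil)) (.node [] (.node [] (.node [] .nil (.node [(8,(.ofNat 1),1)] (.node [] .nil (.node [(40,(.ofNat 1),1)] .nil .nil)) (.node [(23,(.ofNat 1),1)] .nil .nil))) (.node [] (.node [] (.node [] .nil (.node [(36,(.ofNat 1),1)] .nil .nil)) (.node [] .nil (.node [(52,(.ofNat 1),1)] .nil .nil))) .nil)) (.node [(2,(.negSucc 0),1)] (.node [] (.node [] .nil (.node [(18,(.ofNat 1),1)] .nil .nil)) .nil) (.node [] .nil (.node [(14,(.ofNat 1),1)] (.node [] .nil (.node [(46,(.ofNat 1),1)] .nil .nil)) (.node [(29,(.ofNat 1),1)] .nil .nil))))))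
noncomputable def ex60 : Trie (List (ℕ × ℤ × ℕ)) := (.node [] (.node [] (.node [] (.node [] .nil (.node [] (.node [] .nil (.node [(38,(.negSucc 0),1)] .nil .nil)) (.node [(22,(.ofNat 1),1)] .nil .nil))) (.node [] (.node [] (.node [] .nil (.node [(34,(.negSucc 0),1)] .nil .nil)) .nil) .nil)) (.node [(0,(.negSucc 0),1)] .nil (.node [] .nil (.node [] (.node [] .nil (.node [(44,(.negSucc 0),1)] .nil .nil)) (.node [(28,(.ofNat 1),1)] .nil .nil))))) (.node [] (.node [] (.node [] (.node [] (.node [] .nil (.node [(31,(.negSucc 0),1)] .nil .nil)) (.node [(15,(.ofNat 1),1)] .nil .nil)) .nil) (.node [] (.node [] .nil (.node [(19,(.ofNat 1),1)] .nil .nil)) .nil)) (.node [] (.node [] .nil (.node [(9,(.ofNat 1),1)] .nil (.node [(25,(.negSucc 0),1)] .nil .nil))) (.node [] (.node [] .nil (.node [] .nil (.node [(53,(.ofNat 1),1)] .nil .nil))) .nil))))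
noncomputable def ex61 : Trie (List (ℕ × ℤ × ℕ)) := (.node [] (.node [] (.node [] (.node [] (.node [] .nil (.node [(15,(.ofNat 1),1)] .nil .nil)) (.node [] (.node [] .nil (.node [(39,(.ofNat 1),1)] .nil .nil)) .nil)) (.node [] (.node [] (.node [] .nil (.node [(35,(.ofNat 1),1)] .nil .nil)) (.node [(19,(.ofNat 1),1)] .nil .nil)) .nil)) (.node [(1,(.negSucc 0),1)] (.node [] .nil (.node [(9,(.ofNat 1),1)] .nil .nil)) (.node [] (.node [] .nil (.node [] .nil (.node [(53,(.ofNat 1),1)] .nil .nil))) (.node [] (.node [] .nil (.node [(45,(.ofNat 1),1)] .nil .nil)) .nil)))) (.node [] (.node [] (.node [] (.node [] (.node [] .nil (.node [(32,(.ofNat 1),1)] .nil .nil)) .nil) .nil) (.node [] .nil (.node [] .nil (.node [(28,(.ofNat 1),1)] .nil .nil)))) (.node [] (.node [] .nil (.node [] .nil (.node [(26,(.ofNat 1),1)] .nil .nil))) (.node [] (.node [] .nil (.node [(22,(.ofNat 1),1)] .nil .nil)) .nil))))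
noncomputable def ex62 : Trie (List (ℕ × ℤ × ℕ)) := (.node [] (.node [] (.node [] (.node [] (.node [] (.node [] .nil (.node [(31,(.ofNat 1),1)] .nil .nil)) .nil) (.node [] .nil (.node [(23,(.ofNat 1),1)] .nil .nil))) .nil) (.node [] (.node [] .nil (.node [] .nil (.node [(25,(.ofNat 1),1)] .nil .nil))) (.node [] .nil (.node [] .nil (.node [(29,(.ofNat 1),1)] .nil .nil))))) (.node [(0,(.negSucc 0),1)] (.node [] (.node [] (.node [] .nil (.node [(16,(.ofNat 1),1)] .nil .nil)) .nil) (.node [] (.node [] .nil (.node [(20,(.ofNat 1),1)] .nil .nil)) (.node [] (.node [] .nil (.node [(44,(.ofNat 1),1)] .nil .nil)) .nil))) (.node [] (.node [] (.node [] (.node [] .nil (.node [(34,(.ofNat 1),1)] .nil .nil)) .nil) (.node [(10,(.ofNat 1),1)] .nil .nil)) (.node [] (.node [] (.node [] .nil (.node [(38,(.ofNat 1),1)] .nil .nil)) (.node [] .nil (.node [(54,(.ofNat 1),1)] .nil .nil))) .nil))))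
noncomputable def ex63 : Trie (List (ℕ × ℤ × ℕ)) := (.node [(1,(.negSucc 0),1)] (.node [] (.node [] (.node [] (.node [] .nil (.node [(17,(.ofNat 1),1)] .nil .nil)) .nil) (.node [] (.node [] .nil (.node [(21,(.ofNat 1),1)] .nil .nil)) (.node [] (.node [] .nil (.node [(45,(.ofNat 1),1)] .nil .nil)) .nil))) (.node [] (.node [] (.node [] (.node [] .nil (.node [(35,(.ofNat 1),1)] .nil .nil)) .nil) (.node [(11,(.ofNat 1),1)] .nil .nil)) (.node [] (.node [] (.node [] .nil (.node [(39,(.ofNat 1),1)] .nil .nil)) (.node [] .nil (.node [(55,(.ofNat 1),1)] .nil .nil))) .nil))) (.node [] (.node [] (.node [] .nil (.node [] .nil (.node [(26,(.ofNat 1),1)] .nil .nil))) (.node [] .nil (.node [] .nil (.node [(30,(.ofNat 1),1)] .nil .nil)))) (.node [] .nil (.node [] (.node [] .nil (.node [(24,(.ofNat 1),1)] .nil .nil)) (.node [] .nil (.node [(32,(.ofNat 1),1)] .nil .nil))))))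
noncomputable def ex64 : Trie (List (ℕ × ℤ × ℕ)) := (.node [] (.node [] (.node [] (.node [] (.node [] (.node [] .nil (.node [(33,(.ofNat 1),1)] .nil .nil)) .nil) .nil) (.node [] .nil (.node [] .nil (.node [(29,(.ofNat 1),1)] .nil .nil)))) (.node [] (.node [] .nil (.node [] .nil (.node [(27,(.ofNat 1),1)] .nil .nil))) (.node [] (.node [] .nil (.node [(23,(.ofNat 1),1)] .nil .nil)) .nil))) (.node [(2,(.negSucc 0),1)] (.node [] (.node [] .nil (.node [(10,(.ofNat 1),1)] .nil .nil)) (.node [] (.node [] .nil (.node [] .nil (.node [(54,(.ofNat 1),1)] .nil .nil))) (.node [] (.node [] .nil (.node [(46,(.ofNat 1),1)] .nil .nil)) .nil))) (.node [] (.node [] (.node [] (.node [] .nil (.node [(36,(.ofNat 1),1)] .nil .nil)) (.node [(20,(.ofNat 1),1)] .nil .nil)) .nil) (.node [] (.node [] (.node [] .nil (.node [(40,(.ofNat 1),1)] .nil .nil)) .nil) (.node [(16,(.ofNat 1),1)] .nil .nil)))))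
noncomputable def ex65 : Trie (List (ℕ × ℤ × ℕ)) := (.node [(2,(.negSucc 0),1)] (.node [] (.node [] .nil (.node [] .nil (.node [] (.node [] .nil (.node [(46,(.negSucc 0),1)] .nil .nil)) (.node [(30,(.ofNat 1),1)] .nil .nil)))) (.node [] (.node [] (.node [] (.node [] .nil (.node [(36,(.negSucc 0),1)] .nil .nil)) .nil) .nil) (.node [] (.node [] (.node [] .nil (.node [(40,(.negSucc 0),1)] .nil .nil)) (.node [(24,(.ofNat 1),1)] .nil .nil)) .nil))) (.node [] (.node [] (.node [] .nil (.node [(11,(.ofNat 1),1)] .nil (.node [(27,(.negSucc 0),1)] .nil .nil))) (.node [] (.node [] .nil (.node [] .nil (.node [(55,(.ofNat 1),1)] .nil .nil))) .nil)) (.node [] (.node [] (.node [] .nil (.node [(21,(.ofNat 1),1)] .nil .nil)) .nil) (.node [] .nil (.node [(17,(.ofNat 1),1)] .nil (.node [(33,(.negSucc 0),1)] .nil .nil))))))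
noncomputable def ex66 : Trie (List (ℕ × ℤ × ℕ)) := (.node [] (.node [] (.node [] (.node [] .nil (.node [(9,(.ofNat 1),1)] (.node [] .nil (.node [(41,(.ofNat 1),1)] .nil .nil)) (.node [(26,(.ofNat 1),1)] .nil .nil))) (.node [] (.node [] (.node [] .nil (.node [(37,(.ofNat 1),1)] .nil .nil)) (.node [] .nil (.node [(53,(.ofNat 1),1)] .nil .nil))) .nil)) (.node [(3,(.negSucc 0),1)] (.node [] (.node [] .nil (.node [(19,(.ofNat 1),1)] .nil .nil)) .nil) (.node [] .nil (.node [(15,(.ofNat 1),1)] (.node [] .nil (.node [(47,(.ofNat 1),1)] .nil .nil)) (.node [(32,(.ofNat 1),1)] .nil .nil))))) (.node [] (.node [] .nil (.node [] .nil (.node [] .nil (.node [(31,(.ofNat 1),1)] .nil .nil)))) (.node [] .nil (.node [] (.node [] .nil (.node [(25,(.ofNat 1),1)] .nil .nil)) .nil))))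
noncomputable def ex67 : Trie (List (ℕ × ℤ × ℕ)) := (.node [] (.node [] (.node [] (.node [] .nil (.node [(10,(.ofNat 1),1)] .nil (.node [(27,(.ofNat 1),1)] .nil .nil))) (.node [] (.node [] .nil (.node [] .nil (.node [(54,(.ofNat 1),1)] .nil .nil))) (.node [] .nil (.node [(31,(.negSucc 0),1)] .nil .nil)))) (.node [] (.node [] (.node [] .nil (.node [(20,(.ofNat 1),1)] .nil .nil)) .nil) (.node [] (.node [] .nil (.node [(25,(.negSucc 0),1)] .nil .nil)) (.node [(16,(.ofNat 1),1)] .nil (.node [(33,(.ofNat 1),1)] .nil .nil))))) (.node [(3,(.negSucc 0),1)] (.node [] .nil (.node [] .nil (.node [] (.node [] .nil (.node [(47,(.negSucc 0),1)] .nil .nil)) .nil))) (.node [] (.node [] (.node [] (.node [] .nil (.node [(37,(.negSucc 0),1)] .nil .nil)) .nil) .nil) (.node [] (.node [] (.node [] .nil (.node [(41,(.negSucc 0),1)] .nil .nil)) .nil) .nil))))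
noncomputable def ex68 : Trie (List (ℕ × ℤ × ℕ)) := (.node [(3,(.negSucc 0),1)] (.node [] (.node [] (.node [] .nil (.node [(11,(.ofNat 1),1)] .nil .nil)) (.node [] (.node [] .nil (.node [] .nil (.node [(55,(.ofNat 1),1)] .nil .nil))) (.node [] (.node [] .nil (.node [(47,(.ofNat 1),1)] .nil .nil)) (.node [(32,(.negSucc 0),1)] .nil .nil)))) (.node [] (.node [] (.node [] (.node [] .nil (.node [(37,(.ofNat 1),1)] .nil .nil)) (.node [(21,(.ofNat 1),1)] .nil .nil)) .nil) (.node [] (.node [] (.node [] .nil (.node [(41,(.ofNat 1),1)] .nil .nil)) (.node [(26,(.negSucc 0),1)] .nil .nil)) (.node [(17,(.ofNat 1),1)] .nil .nil)))) (.node [] (.node [] .nil (.node [] .nil (.node [] .nil (.node [(33,(.negSucc 0),1)] .nil .nil)))) (.node [] .nil (.node [] (.node [] .nil (.node [(27,(.negSucc 0),1)] .nil .nil)) .nil))))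
noncomputable def ex69 : Trie (List (ℕ × ℤ × ℕ)) := (.node [] (.node [] (.node [] (.node [] (.node [] (.node [] .nil (.node [(35,(.ofNat 1),1)] .nil .nil)) .nil) .nil) (.node [] (.node [] .nil (.node [(23,(.ofNat 1),1)] .nil .nil)) .nil)) .nil) (.node [] (.node [] (.node [] (.node [] (.node [] .nil (.node [(36,(.ofNat 1),1)] .nil .nil)) .nil) (.node [] (.node [] .nil (.node [(42,(.ofNat 1),1)] .nil .nil)) .nil)) (.node [] (.node [] .nil (.node [(24,(.ofNat 1),1)] .nil .nil)) (.node [(14,(.ofNat 1),1)] .nil .nil))) (.node [(4,(.negSucc 0),1)] (.node [] (.node [] .nil (.node [(22,(.ofNat 1),1)] .nil (.node [(52,(.ofNat 1),1)] .nil .nil))) .nil) (.node [(8,(.ofNat 1),1)] .nil (.node [] (.node [] .nil (.node [(48,(.ofNat 1),1)] .nil .nil)) (.node [(34,(.ofNat 1),1)] .nil .nil))))))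
noncomputable def ex70 : Trie (List (ℕ × ℤ × ℕ)) := (.node [] (.node [] (.node [] (.node [] .nil (.node [] (.node [] .nil (.node [(42,(.negSucc 0),1)] .nil .nil)) .nil)) (.node [] (.node [] .nil (.node [(25,(.ofNat 1),1)] .nil .nil)) .nil)) (.node [(4,(.negSucc 0),1)] (.node [] (.node [] .nil (.node [(22,(.negSucc 0),1)] .nil .nil)) .nil) (.node [] .nil (.node [] (.node [] .nil (.node [(48,(.negSucc 0),1)] .nil .nil)) (.node [(35,(.negSucc 0),1)] .nil .nil))))) (.node [] (.node [] (.node [] (.node [] (.node [] .nil (.node [(37,(.ofNat 1),1)] .nil .nil)) .nil) .nil) (.node [] (.node [] .nil (.node [(26,(.ofNat 1),1)] .nil .nil)) (.node [(15,(.ofNat 1),1)] .nil (.node [(34,(.negSucc 0),1)] .nil .nil)))) (.node [] (.node [] (.node [] .nil (.node [] .nil (.node [(53,(.ofNat 1),1)] .nil .nil))) .nil) (.node [(9,(.ofNat 1),1)] .nil .nil))))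
noncomputable def ex71 : Trie (List (ℕ × ℤ × ℕ)) := (.node [] (.node [] (.node [] (.node [] (.node [] (.node [] .nil (.node [(37,(.negSucc 0),1)] .nil .nil)) .nil) .nil) (.node [] .nil (.node [] .nil (.node [(34,(.ofNat 1),1)] .nil .nil)))) (.node [] (.node [] (.node [] .nil (.node [(23,(.negSucc 0),1)] .nil .nil)) .nil) (.node [] .nil (.node [] .nil (.node [(36,(.negSucc 0),1)] .nil .nil))))) (.node [(4,(.negSucc 0),1)] (.node [] .nil (.node [] (.node [] .nil (.node [(27,(.ofNat 1),1)] .nil .nil)) (.node [(16,(.ofNat 1),1)] (.node [] .nil (.node [(48,(.ofNat 1),1)] .nil .nil)) .nil))) (.node [] (.node [] (.node [] .nil (.node [(25,(.negSucc 0),1)] .nil (.node [(54,(.ofNat 1),1)] .nil .nil))) .nil) (.node [(10,(.ofNat 1),1)] (.node [] (.node [] .nil (.node [(42,(.ofNat 1),1)] .nil .nil)) .nil) .nil))))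
noncomputable def ex72 : Trie (List (ℕ × ℤ × ℕ)) := (.node [(4,(.negSucc 0),1)] (.node [] (.node [] .nil (.node [] (.node [] .nil (.node [(27,(.negSucc 0),1)] .nil .nil)) (.node [] (.node [] .nil (.node [(48,(.negSucc 0),1)] .nil .nil)) (.node [(35,(.ofNat 1),1)] .nil .nil)))) (.node [] (.node [] (.node [] .nil (.node [(24,(.negSucc 0),1)] .nil .nil)) .nil) (.node [] (.node [] (.node [] .nil (.node [(42,(.negSucc 0),1)] .nil .nil)) .nil) .nil))) (.node [] (.node [] .nil (.node [] .nil (.node [(17,(.ofNat 1),1)] .nil (.node [(36,(.ofNat 1),1)] .nil .nil)))) (.node [] (.node [] (.node [] .nil (.node [(26,(.negSucc 0),1)] .nil (.node [(55,(.ofNat 1),1)] .nil .nil))) .nil) (.node [(11,(.ofNat 1),1)] .nil (.node [] .nil (.node [(37,(.ofNat 1),1)] .nil .nil))))))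
noncomputable def ex73 : Trie (List (ℕ × ℤ × ℕ)) := (.node [] (.node [] (.node [] (.node [] (.node [] .nil (.node [(20,(.ofNat 1),1)] .nil (.node [(49,(.ofNat 1),1)] .nil .nil))) .nil) (.node [(5,(.negSucc 0),1)] (.node [] (.node [] .nil (.node [(40,(.ofNat 1),1)] .nil .nil)) .nil) .nil)) (.node [] (.node [] (.node [] (.node [] .nil (.node [(38,(.ofNat 1),1)] .nil .nil)) (.node [] .nil (.node [(51,(.ofNat 1),1)] .nil .nil))) .nil) (.node [(7,(.ofNat 1),1)] .nil (.node [(18,(.ofNat 1),1)] .nil .nil)))) (.node [] (.node [] (.node [] (.node [] .nil (.node [(21,(.ofNat 1),1)] .nil .nil)) .nil) (.node [] (.node [] (.node [] .nil (.node [(41,(.ofNat 1),1)] .nil .nil)) .nil) .nil)) (.node [] (.node [] (.node [] (.node [] .nil (.node [(39,(.ofNat 1),1)] .nil .nil)) .nil) .nil) (.node [] .nil (.node [(19,(.ofNat 1),1)] .nil .nil)))))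
noncomputable def ex74 : Trie (List (ℕ × ℤ × ℕ)) := (.node [] (.node [] (.node [] (.node [] (.node [] (.node [] .nil (.node [(39,(.negSucc 0),1)] .nil .nil)) (.node [(23,(.ofNat 1),1)] .nil .nil)) .nil) .nil) (.node [] (.node [] (.node [] .nil (.node [] .nil (.node [(52,(.ofNat 1),1)] .nil .nil))) .nil) (.node [(8,(.ofNat 1),1)] .nil .nil))) (.node [] (.node [] (.node [] (.node [] (.node [] .nil (.node [(40,(.negSucc 0),1)] .nil .nil)) (.node [(24,(.ofNat 1),1)] .nil .nil)) .nil) (.node [] (.node [] (.node [] .nil (.node [(42,(.ofNat 1),1)] .nil .nil)) .nil) (.node [(18,(.negSucc 0),1)] .nil .nil))) (.node [(5,(.negSucc 0),1)] .nil (.node [] .nil (.node [(22,(.ofNat 1),1)] (.node [] .nil (.node [(49,(.negSucc 0),1)] .nil .nil)) (.node [(38,(.negSucc 0),1)] .nil .nil))))))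
noncomputable def ex75 : Trie (List (ℕ × ℤ × ℕ)) := (.node [] (.node [] (.node [] (.node [] (.node [] .nil (.node [(25,(.ofNat 1),1)] .nil .nil)) .nil) (.node [] (.node [] (.node [] .nil (.node [(42,(.negSucc 0),1)] .nil .nil)) .nil) .nil)) (.node [(5,(.negSucc 0),1)] (.node [] (.node [] .nil (.node [] .nil (.node [(53,(.ofNat 1),1)] .nil .nil))) .nil) (.node [(9,(.ofNat 1),1)] .nil (.node [(22,(.negSucc 0),1)] (.node [] .nil (.node [(49,(.ofNat 1),1)] .nil .nil)) (.node [(39,(.ofNat 1),1)] .nil .nil))))) (.node [] (.node [] (.node [] (.node [] (.node [] .nil (.node [(41,(.negSucc 0),1)] .nil .nil)) (.node [(26,(.ofNat 1),1)] .nil .nil)) .nil) (.node [] .nil (.node [(19,(.negSucc 0),1)] .nil (.node [(38,(.ofNat 1),1)] .nil .nil)))) .nil))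
noncomputable def ex76 : Trie (List (ℕ × ℤ × ℕ)) := (.node [] (.node [] (.node [] (.node [] (.node [] (.node [] .nil (.node [(41,(.ofNat 1),1)] .nil .nil)) .nil) .nil) (.node [] .nil (.node [] .nil (.node [(38,(.negSucc 0),1)] .nil .nil)))) (.node [] (.node [] (.node [] .nil (.node [] .nil (.node [(54,(.ofNat 1),1)] .nil .nil))) .nil) (.node [(10,(.ofNat 1),1)] .nil (.node [(23,(.negSucc 0),1)] .nil (.node [(40,(.ofNat 1),1)] .nil .nil))))) (.node [(5,(.negSucc 0),1)] (.node [] (.node [] (.node [] .nil (.node [(27,(.ofNat 1),1)] .nil .nil)) .nil) (.node [] .nil (.node [(20,(.negSucc 0),1)] (.node [] .nil (.node [(49,(.negSucc 0),1)] .nil .nil)) .nil))) (.node [] (.node [] (.node [] (.node [] .nil (.node [(42,(.ofNat 1),1)] .nil .nil)) .nil) .nil) (.node [] .nil (.node [(25,(.negSucc 0),1)] .nil .nil)))))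
noncomputable def ex77 : Trie (List (ℕ × ℤ × ℕ)) := (.node [(5,(.negSucc 0),1)] (.node [] (.node [] (.node [] (.node [] .nil (.node [(27,(.negSucc 0),1)] .nil .nil)) .nil) (.node [] .nil (.node [] (.node [] .nil (.node [(49,(.ofNat 1),1)] .nil .nil)) (.node [(39,(.negSucc 0),1)] .nil .nil)))) (.node [] (.node [] (.node [] (.node [] .nil (.node [(42,(.negSucc 0),1)] .nil .nil)) (.node [] .nil (.node [(55,(.ofNat 1),1)] .nil .nil))) .nil) (.node [(11,(.ofNat 1),1)] .nil (.node [(24,(.negSucc 0),1)] .nil .nil)))) (.node [] (.node [] .nil (.node [] .nil (.node [(21,(.negSucc 0),1)] .nil (.node [(40,(.negSucc 0),1)] .nil .nil)))) (.node [] .nil (.node [] .nil (.node [(26,(.negSucc 0),1)] .nil (.node [(41,(.negSucc 0),1)] .nil .nil))))))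
noncomputable def ex78 : Trie (List (ℕ × ℤ × ℕ)) := (.node [] (.node [] (.node [] (.node [] (.node [] .nil (.node [] .nil (.node [(50,(.ofNat 1),1)] .nil .nil))) (.node [] .nil (.node [(30,(.ofNat 1),1)] .nil .nil))) (.node [(6,(.negSucc 0),1)] .nil (.node [(13,(.ofNat 1),1)] .nil .nil))) (.node [] (.node [] .nil (.node [] (.node [] .nil (.node [(43,(.ofNat 1),1)] .nil .nil)) (.node [(32,(.ofNat 1),1)] .nil .nil))) (.node [] (.node [] .nil (.node [(28,(.ofNat 1),1)] .nil .nil)) .nil))) (.node [] (.node [] (.node [] (.node [] .nil (.node [] .nil (.node [(51,(.ofNat 1),1)] .nil .nil))) (.node [] .nil (.node [(31,(.ofNat 1),1)] .nil .nil))) (.node [(7,(.ofNat 1),1)] .nil .nil)) (.node [] (.node [] .nil (.node [] .nil (.node [(33,(.ofNat 1),1)] .nil .nil))) (.node [] (.node [] .nil (.node [(29,(.ofNat 1),1)] .nil .nil)) .nil))))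
noncomputable def ex79 : Trie (List (ℕ × ℤ × ℕ)) := (.node [] (.node [] (.node [] .nil (.node [] (.node [] .nil (.node [(29,(.negSucc 0),1)] .nil .nil)) (.node [(14,(.ofNat 1),1)] .nil .nil))) (.node [] (.node [] .nil (.node [] .nil (.node [(35,(.ofNat 1),1)] .nil .nil))) .nil)) (.node [] (.node [] (.node [] (.node [] .nil (.node [] .nil (.node [(52,(.ofNat 1),1)] .nil .nil))) (.node [] (.node [] .nil (.node [(43,(.negSucc 0),1)] .nil .nil)) (.node [(34,(.ofNat 1),1)] .nil .nil))) (.node [(8,(.ofNat 1),1)] (.node [] .nil (.node [(30,(.negSucc 0),1)] .nil .nil)) .nil)) (.node [(6,(.negSucc 0),1)] (.node [] (.node [] .nil (.node [(28,(.negSucc 0),1)] .nil .nil)) (.node [] .nil (.node [(36,(.ofNat 1),1)] .nil .nil))) (.node [] .nil (.node [] (.node [] .nil (.node [(50,(.negSucc 0),1)] .nil .nil)) .nil)))))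
noncomputable def ex80 : Trie (List (ℕ × ℤ × ℕ)) := (.node [] (.node [] (.node [] (.node [] .nil (.node [] (.node [] .nil (.node [(43,(.ofNat 1),1)] .nil .nil)) (.node [(35,(.negSucc 0),1)] .nil .nil))) (.node [] (.node [] .nil (.node [(31,(.negSucc 0),1)] .nil .nil)) (.node [(15,(.ofNat 1),1)] .nil .nil))) (.node [(6,(.negSucc 0),1)] (.node [] (.node [] .nil (.node [(28,(.ofNat 1),1)] .nil .nil)) .nil) (.node [] .nil (.node [] (.node [] .nil (.node [(50,(.ofNat 1),1)] .nil .nil)) .nil)))) (.node [] (.node [] (.node [] (.node [] .nil (.node [] .nil (.node [(53,(.ofNat 1),1)] .nil .nil))) .nil) (.node [(9,(.ofNat 1),1)] (.node [] .nil (.node [(32,(.negSucc 0),1)] .nil .nil)) .nil)) (.node [] (.node [] .nil (.node [] .nil (.node [(37,(.ofNat 1),1)] .nil .nil))) (.node [] (.node [] .nil (.node [(34,(.negSucc 0),1)] .nil .nil)) .nil))))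
noncomputable def ex81 : Trie (List (ℕ × ℤ × ℕ)) := (.node [] (.node [] (.node [] (.node [] .nil (.node [] .nil (.node [(36,(.negSucc 0),1)] .nil .nil))) (.node [] .nil (.node [(16,(.ofNat 1),1)] .nil .nil))) (.node [] (.node [] (.node [] .nil (.node [(29,(.ofNat 1),1)] .nil .nil)) (.node [] .nil (.node [(37,(.negSucc 0),1)] .nil .nil))) (.node [] (.node [] .nil (.node [(34,(.ofNat 1),1)] .nil .nil)) .nil))) (.node [(6,(.negSucc 0),1)] (.node [] (.node [] (.node [] .nil (.node [] .nil (.node [(54,(.ofNat 1),1)] .nil .nil))) .nil) (.node [(10,(.ofNat 1),1)] (.node [] .nil (.node [(33,(.negSucc 0),1)] .nil .nil)) (.node [] (.node [] .nil (.node [(50,(.negSucc 0),1)] .nil .nil)) .nil))) (.node [] (.node [] (.node [] .nil (.node [(31,(.ofNat 1),1)] .nil .nil)) .nil) (.node [] (.node [] (.node [] .nil (.node [(43,(.negSucc 0),1)] .nil .nil)) .nil) .nil))))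
noncomputable def ex82 : Trie (List (ℕ × ℤ × ℕ)) := (.node [(6,(.negSucc 0),1)] (.node [] (.node [] .nil (.node [] (.node [] .nil (.node [(33,(.ofNat 1),1)] .nil .nil)) (.node [(17,(.ofNat 1),1)] (.node [] .nil (.node [(50,(.ofNat 1),1)] .nil .nil)) .nil))) (.node [] (.node [] (.node [] .nil (.node [(30,(.ofNat 1),1)] .nil .nil)) .nil) (.node [] (.node [] (.node [] .nil (.node [(43,(.ofNat 1),1)] .nil .nil)) (.node [(35,(.ofNat 1),1)] .nil .nil)) .nil))) (.node [] (.node [] (.node [] (.node [] .nil (.node [] .nil (.node [(55,(.ofNat 1),1)] .nil .nil))) (.node [] .nil (.node [(37,(.ofNat 1),1)] .nil .nil))) (.node [(11,(.ofNat 1),1)] .nil .nil)) (.node [] (.node [] (.node [] .nil (.node [(32,(.ofNat 1),1)] .nil .nil)) .nil) (.node [] (.node [] .nil (.node [(36,(.ofNat 1),1)] .nil .nil)) .nil))))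
noncomputable def ex83 : Trie (List (ℕ × ℤ × ℕ)) := (.node [] (.node [] (.node [] (.node [] (.node [] .nil (.node [(29,(.ofNat 1),1)] .nil (.node [(52,(.negSucc 0),1)] .nil .nil))) .nil) (.node [(8,(.ofNat 1),1)] .nil (.node [(18,(.ofNat 1),1)] .nil .nil))) (.node [] (.node [] .nil (.node [] .nil (.node [(39,(.ofNat 1),1)] .nil .nil))) .nil)) (.node [] (.node [] (.node [] (.node [] .nil (.node [(30,(.ofNat 1),1)] .nil .nil)) (.node [] .nil (.node [(38,(.ofNat 1),1)] .nil .nil))) (.node [] (.node [] (.node [] .nil (.node [(43,(.ofNat 1),1)] .nil .nil)) .nil) .nil)) (.node [(7,(.negSucc 0),1)] (.node [] .nil (.node [] .nil (.node [(40,(.ofNat 1),1)] .nil .nil))) (.node [] .nil (.node [(28,(.ofNat 1),1)] (.node [] .nil (.node [(51,(.negSucc 0),1)] .nil .nil)) .nil)))))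
noncomputable def ex84 : Trie (List (ℕ × ℤ × ℕ)) := (.node [] (.node [] (.node [] (.node [] (.node [] .nil (.node [(31,(.ofNat 1),1)] .nil (.node [(53,(.negSucc 0),1)] .nil .nil))) (.node [] .nil (.node [(39,(.negSucc 0),1)] .nil .nil))) (.node [(9,(.ofNat 1),1)] (.node [] (.node [] .nil (.node [(43,(.negSucc 0),1)] .nil .nil)) .nil) (.node [(19,(.ofNat 1),1)] .nil .nil))) (.node [(7,(.negSucc 0),1)] .nil (.node [] .nil (.node [(28,(.negSucc 0),1)] (.node [] .nil (.node [(51,(.ofNat 1),1)] .nil .nil)) .nil)))) (.node [] (.node [] (.node [] (.node [] .nil (.node [(32,(.ofNat 1),1)] .nil .nil)) .nil) .nil) (.node [] (.node [] .nil (.node [] .nil (.node [(41,(.ofNat 1),1)] .nil .nil))) (.node [] (.node [] .nil (.node [(38,(.negSucc 0),1)] .nil .nil)) .nil))))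
noncomputable def ex85 : Trie (List (ℕ × ℤ × ℕ)) := (.node [] (.node [] (.node [] (.node [] (.node [] .nil (.node [] .nil (.node [(54,(.negSucc 0),1)] .nil .nil))) (.node [] .nil (.node [(40,(.negSucc 0),1)] .nil .nil))) (.node [(10,(.ofNat 1),1)] .nil (.node [(20,(.ofNat 1),1)] .nil .nil))) (.node [] (.node [] .nil (.node [] .nil (.node [(41,(.negSucc 0),1)] .nil .nil))) (.node [] (.node [] .nil (.node [(38,(.ofNat 1),1)] .nil .nil)) (.node [(29,(.negSucc 0),1)] .nil .nil)))) (.node [(7,(.negSucc 0),1)] (.node [] (.node [] (.node [] .nil (.node [(33,(.ofNat 1),1)] .nil .nil)) .nil) (.node [] .nil (.node [] (.node [] .nil (.node [(51,(.negSucc 0),1)] .nil .nil)) .nil))) (.node [] (.node [] (.node [] (.node [] .nil (.node [(43,(.ofNat 1),1)] .nil .nil)) .nil) .nil) (.node [] .nil (.node [(31,(.negSucc 0),1)] .nil .nil)))))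
noncomputable def ex86 : Trie (List (ℕ × ℤ × ℕ)) := (.node [(7,(.negSucc 0),1)] (.node [] (.node [] (.node [] (.node [] .nil (.node [(33,(.negSucc 0),1)] .nil (.node [(55,(.negSucc 0),1)] .nil .nil))) .nil) (.node [(11,(.ofNat 1),1)] .nil (.node [(21,(.ofNat 1),1)] (.node [] .nil (.node [(51,(.ofNat 1),1)] .nil .nil)) .nil))) (.node [] (.node [] (.node [] (.node [] .nil (.node [(43,(.negSucc 0),1)] .nil .nil)) .nil) .nil) (.node [] (.node [] .nil (.node [(39,(.ofNat 1),1)] .nil .nil)) (.node [(30,(.negSucc 0),1)] .nil .nil)))) (.node [] (.node [] (.node [] .nil (.node [] .nil (.node [(41,(.ofNat 1),1)] .nil .nil))) .nil) (.node [] .nil (.node [] (.node [] .nil (.node [(40,(.ofNat 1),1)] .nil .nil)) (.node [(32,(.negSucc 0),1)] .nil .nil)))))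
noncomputable def ex87 : Trie (List (ℕ × ℤ × ℕ)) := (.node [] (.node [] (.node [] (.node [] (.node [] .nil (.node [(34,(.ofNat 1),1)] .nil .nil)) .nil) (.node [] (.node [] .nil (.node [(38,(.ofNat 1),1)] .nil .nil)) (.node [(22,(.ofNat 1),1)] .nil .nil))) (.node [(8,(.negSucc 0),1)] .nil (.node [] .nil (.node [] (.node [] .nil (.node [(52,(.ofNat 1),1)] .nil .nil)) .nil)))) (.node [] (.node [] (.node [] (.node [] (.node [] .nil (.node [(43,(.ofNat 1),1)] .nil .nil)) (.node [(35,(.ofNat 1),1)] .nil .nil)) .nil) (.node [] (.node [] .nil (.node [(39,(.ofNat 1),1)] .nil .nil)) (.node [(28,(.ofNat 1),1)] .nil .nil))) (.node [(9,(.ofNat 1),1)] (.node [] .nil (.node [] .nil (.node [(42,(.ofNat 1),1)] .nil .nil))) (.node [] .nil (.node [] (.node [] .nil (.node [(53,(.ofNat 1),1)] .nil .nil)) .nil)))))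
noncomputable def ex88 : Trie (List (ℕ × ℤ × ℕ)) := (.node [] (.node [] (.node [] (.node [] (.node [] (.node [] .nil (.node [(43,(.negSucc 0),1)] .nil .nil)) .nil) .nil) (.node [] .nil (.node [(23,(.ofNat 1),1)] .nil .nil))) (.node [] (.node [] .nil (.node [] .nil (.node [(42,(.negSucc 0),1)] .nil .nil))) .nil)) (.node [(8,(.negSucc 0),1)] (.node [] (.node [] (.node [] .nil (.node [(36,(.ofNat 1),1)] .nil .nil)) .nil) (.node [] (.node [] .nil (.node [(40,(.ofNat 1),1)] .nil .nil)) (.node [(29,(.ofNat 1),1)] (.node [] .nil (.node [(52,(.negSucc 0),1)] .nil .nil)) .nil))) (.node [(10,(.ofNat 1),1)] (.node [] (.node [] .nil (.node [(38,(.negSucc 0),1)] .nil .nil)) .nil) (.node [] .nil (.node [(34,(.negSucc 0),1)] (.node [] .nil (.node [(54,(.ofNat 1),1)] .nil .nil)) .nil)))))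
noncomputable def ex89 : Trie (List (ℕ × ℤ × ℕ)) := (.node [(8,(.negSucc 0),1)] (.node [] (.node [] (.node [] (.node [] .nil (.node [(36,(.negSucc 0),1)] .nil .nil)) .nil) (.node [] (.node [] .nil (.node [(40,(.negSucc 0),1)] .nil .nil)) (.node [(24,(.ofNat 1),1)] (.node [] .nil (.node [(52,(.ofNat 1),1)] .nil .nil)) .nil))) .nil) (.node [] (.node [] (.node [] .nil (.node [] .nil (.node [(42,(.ofNat 1),1)] .nil .nil))) (.node [] .nil (.node [(30,(.ofNat 1),1)] .nil .nil))) (.node [(11,(.ofNat 1),1)] (.node [] (.node [] .nil (.node [(39,(.negSucc 0),1)] .nil .nil)) .nil) (.node [] .nil (.node [(35,(.negSucc 0),1)] (.node [] .nil (.node [(55,(.ofNat 1),1)] .nil .nil)) (.node [(43,(.ofNat 1),1)] .nil .nil))))))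
noncomputable def ex90 : Trie (List (ℕ × ℤ × ℕ)) := (.node [] (.node [] (.node [] (.node [] .nil (.node [] .nil (.node [(42,(.ofNat 1),1)] .nil .nil))) (.node [] .nil (.node [(25,(.ofNat 1),1)] .nil .nil))) (.node [(10,(.ofNat 1),1)] (.node [] (.node [] .nil (.node [(38,(.ofNat 1),1)] .nil .nil)) .nil) (.node [] .nil (.node [(34,(.ofNat 1),1)] (.node [] .nil (.node [(54,(.negSucc 0),1)] .nil .nil)) (.node [(43,(.ofNat 1),1)] .nil .nil))))) (.node [(9,(.negSucc 0),1)] (.node [] (.node [] (.node [] .nil (.node [(37,(.ofNat 1),1)] .nil .nil)) .nil) (.node [] (.node [] .nil (.node [(41,(.ofNat 1),1)] .nil .nil)) (.node [(31,(.ofNat 1),1)] (.node [] .nil (.node [(53,(.negSucc 0),1)] .nil .nil)) .nil))) .nil))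
noncomputable def ex91 : Trie (List (ℕ × ℤ × ℕ)) := (.node [(9,(.negSucc 0),1)] (.node [] (.node [] (.node [] (.node [] .nil (.node [(37,(.negSucc 0),1)] .nil .nil)) .nil) (.node [] (.node [] .nil (.node [(41,(.negSucc 0),1)] .nil .nil)) (.node [(26,(.ofNat 1),1)] (.node [] .nil (.node [(53,(.ofNat 1),1)] .nil .nil)) .nil))) (.node [(11,(.ofNat 1),1)] (.node [] (.node [] .nil (.node [(39,(.ofNat 1),1)] .nil .nil)) .nil) (.node [] .nil (.node [(35,(.ofNat 1),1)] (.node [] .nil (.node [(55,(.negSucc 0),1)] .nil .nil)) .nil)))) (.node [] (.node [] .nil (.node [] .nil (.node [(32,(.ofNat 1),1)] .nil (.node [(43,(.negSucc 0),1)] .nil .nil)))) (.node [] .nil (.node [] (.node [] .nil (.node [(42,(.negSucc 0),1)] .nil .nil)) .nil))))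
noncomputable def ex92 : Trie (List (ℕ × ℤ × ℕ)) := (.node [(10,(.negSucc 0),1)] (.node [] (.node [] .nil (.node [] .nil (.node [(27,(.ofNat 1),1)] (.node [] .nil (.node [(54,(.ofNat 1),1)] .nil .nil)) (.node [(43,(.ofNat 1),1)] .nil .nil)))) (.node [] (.node [] (.node [] .nil (.node [(40,(.ofNat 1),1)] .nil .nil)) .nil) (.node [] (.node [] .nil (.node [(42,(.ofNat 1),1)] .nil .nil)) (.node [(36,(.ofNat 1),1)] .nil .nil)))) (.node [(11,(.ofNat 1),1)] (.node [] .nil (.node [] .nil (.node [(33,(.ofNat 1),1)] (.node [] .nil (.node [(55,(.ofNat 1),1)] .nil .nil)) .nil))) (.node [] (.node [] (.node [] .nil (.node [(41,(.ofNat 1),1)] .nil .nil)) .nil) (.node [] .nil (.node [(37,(.ofNat 1),1)] .nil .nil)))))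
noncomputable def ex93 : Trie (List (ℕ × ℤ × ℕ)) := (.node [] (.node [] (.node [] (.node [] .nil (.node [(14,(.negSucc 0),1)] (.node [] .nil (.node [(46,(.ofNat 1),1)] .nil .nil)) .nil)) .nil) (.node [] (.node [] .nil (.node [(16,(.negSucc 0),1)] (.node [] .nil (.node [(48,(.ofNat 1),1)] .nil .nil)) .nil)) (.node [] (.node [] (.node [] .nil (.node [(44,(.ofNat 1),1)] .nil .nil)) .nil) .nil))) (.node [] (.node [] (.node [] .nil (.node [(15,(.negSucc 0),1)] (.node [] .nil (.node [(47,(.ofNat 1),1)] .nil .nil)) .nil)) (.node [(12,(.negSucc 0),1)] .nil .nil)) (.node [] (.node [] .nil (.node [(17,(.negSucc 0),1)] (.node [] .nil (.node [(50,(.ofNat 1),1)] .nil .nil)) .nil)) (.node [(13,(.negSucc 0),1)] (.node [] (.node [] .nil (.node [(45,(.ofNat 1),1)] .nil .nil)) .nil) .nil))))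
noncomputable def ex94 : Trie (List (ℕ × ℤ × ℕ)) := (.node [] (.node [] (.node [] (.node [] .nil (.node [(18,(.negSucc 0),1)] .nil .nil)) (.node [(12,(.negSucc 0),1)] (.node [] (.node [] .nil (.node [(46,(.negSucc 0),1)] .nil .nil)) .nil) .nil)) (.node [] (.node [] (.node [] (.node [] .nil (.node [(44,(.negSucc 0),1)] .nil .nil)) .nil) (.node [(20,(.negSucc 0),1)] (.node [] .nil (.node [(49,(.ofNat 1),1)] .nil .nil)) .nil)) (.node [(13,(.ofNat 1),1)] .nil .nil))) (.node [] (.node [] (.node [] .nil (.node [(19,(.negSucc 0),1)] .nil .nil)) (.node [] (.node [] (.node [] .nil (.node [(47,(.negSucc 0),1)] .nil .nil)) .nil) .nil)) (.node [] (.node [] (.node [] (.node [] .nil (.node [(45,(.negSucc 0),1)] .nil .nil)) .nil) (.node [(21,(.negSucc 0),1)] (.node [] .nil (.node [(51,(.ofNat 1),1)] .nil .nil)) .nil)) .nil)))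
noncomputable def ex95 : Trie (List (ℕ × ℤ × ℕ)) := (.node [] (.node [] (.node [] (.node [] (.node [] (.node [] .nil (.node [(45,(.ofNat 1),1)] .nil .nil)) .nil) .nil) .nil) (.node [] (.node [] .nil (.node [(23,(.negSucc 0),1)] .nil .nil)) (.node [(14,(.ofNat 1),1)] .nil .nil))) (.node [] (.node [] (.node [] (.node [] (.node [] .nil (.node [(46,(.ofNat 1),1)] .nil .nil)) .nil) (.node [(22,(.negSucc 0),1)] (.node [] .nil (.node [(49,(.negSucc 0),1)] .nil .nil)) .nil)) (.node [] (.node [] (.node [] .nil (.node [(48,(.negSucc 0),1)] .nil .nil)) .nil) .nil)) (.node [(12,(.negSucc 0),1)] (.node [] .nil (.node [(24,(.negSucc 0),1)] (.node [] .nil (.node [(52,(.ofNat 1),1)] .nil .nil)) .nil)) (.node [(18,(.ofNat 1),1)] .nil (.node [] .nil (.node [(44,(.ofNat 1),1)] .nil .nil))))))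
noncomputable def ex96 : Trie (List (ℕ × ℤ × ℕ)) := (.node [] (.node [] (.node [] (.node [] .nil (.node [(22,(.ofNat 1),1)] (.node [] .nil (.node [(49,(.ofNat 1),1)] .nil .nil)) .nil)) (.node [] (.node [] (.node [] .nil (.node [(48,(.ofNat 1),1)] .nil .nil)) .nil) .nil)) (.node [(12,(.negSucc 0),1)] (.node [] .nil (.node [(25,(.negSucc 0),1)] .nil .nil)) (.node [(15,(.ofNat 1),1)] .nil (.node [] .nil (.node [(45,(.negSucc 0),1)] .nil .nil))))) (.node [] (.node [] (.node [] (.node [] (.node [] .nil (.node [(47,(.ofNat 1),1)] .nil .nil)) .nil) .nil) (.node [] .nil (.node [] .nil (.node [(44,(.negSucc 0),1)] .nil .nil)))) (.node [] (.node [] .nil (.node [(26,(.negSucc 0),1)] (.node [] .nil (.node [(53,(.ofNat 1),1)] .nil .nil)) .nil)) (.node [(19,(.ofNat 1),1)] .nil .nil))))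
noncomputable def ex97 : Trie (List (ℕ × ℤ × ℕ)) := (.node [] (.node [] (.node [] (.node [] (.node [] (.node [] .nil (.node [(47,(.negSucc 0),1)] .nil .nil)) .nil) (.node [(23,(.ofNat 1),1)] .nil .nil)) (.node [] .nil (.node [] .nil (.node [(44,(.ofNat 1),1)] .nil .nil)))) (.node [] .nil (.node [(16,(.ofNat 1),1)] .nil (.node [] .nil (.node [(46,(.negSucc 0),1)] .nil .nil))))) (.node [(12,(.negSucc 0),1)] (.node [] (.node [] .nil (.node [(25,(.ofNat 1),1)] .nil .nil)) .nil) (.node [] (.node [] (.node [] (.node [] .nil (.node [(48,(.negSucc 0),1)] .nil .nil)) .nil) (.node [(27,(.negSucc 0),1)] (.node [] .nil (.node [(54,(.ofNat 1),1)] .nil .nil)) .nil)) (.node [(20,(.ofNat 1),1)] (.node [] (.node [] .nil (.node [(49,(.negSucc 0),1)] .nil .nil)) .nil) .nil))))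
noncomputable def ex98 : Trie (List (ℕ × ℤ × ℕ)) := (.node [(12,(.negSucc 0),1)] (.node [] (.node [] (.node [] .nil (.node [(24,(.ofNat 1),1)] .nil .nil)) (.node [] .nil (.node [] .nil (.node [(45,(.ofNat 1),1)] .nil .nil)))) (.node [] (.node [] (.node [] (.node [] .nil (.node [(48,(.ofNat 1),1)] .nil .nil)) .nil) (.node [(27,(.ofNat 1),1)] .nil .nil)) (.node [(17,(.ofNat 1),1)] (.node [] (.node [] .nil (.node [(49,(.ofNat 1),1)] .nil .nil)) .nil) .nil))) (.node [] (.node [] (.node [] .nil (.node [(26,(.ofNat 1),1)] .nil .nil)) (.node [] .nil (.node [] .nil (.node [(46,(.ofNat 1),1)] .nil .nil)))) (.node [] (.node [] .nil (.node [] (.node [] .nil (.node [(55,(.ofNat 1),1)] .nil .nil)) .nil)) (.node [(21,(.ofNat 1),1)] .nil (.node [] .nil (.node [(47,(.ofNat 1),1)] .nil .nil))))))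
noncomputable def ex99 : Trie (List (ℕ × ℤ × ℕ)) := (.node [] (.node [] (.node [] .nil (.node [(14,(.ofNat 1),1)] .nil .nil)) (.node [] (.node [] .nil (.node [(29,(.negSucc 0),1)] (.node [] .nil (.node [(52,(.negSucc 0),1)] .nil .nil)) (.node [(45,(.negSucc 0),1)] .nil .nil))) .nil)) (.node [] (.node [] (.node [] .nil (.node [(28,(.negSucc 0),1)] (.node [] .nil (.node [(51,(.negSucc 0),1)] .nil .nil)) (.node [(44,(.negSucc 0),1)] .nil .nil))) (.node [(18,(.negSucc 0),1)] (.node [] (.node [] .nil (.node [(50,(.negSucc 0),1)] .nil .nil)) .nil) .nil)) (.node [(13,(.negSucc 0),1)] (.node [] .nil (.node [(30,(.negSucc 0),1)] .nil (.node [(46,(.negSucc 0),1)] .nil .nil))) .nil)))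
noncomputable def ex100 : Trie (List (ℕ × ℤ × ℕ)) := (.node [] (.node [] (.node [] (.node [] .nil (.node [(28,(.ofNat 1),1)] (.node [] .nil (.node [(51,(.ofNat 1),1)] .nil .nil)) (.node [(45,(.ofNat 1),1)] .nil .nil))) (.node [(15,(.ofNat 1),1)] (.node [] (.node [] .nil (.node [(50,(.ofNat 1),1)] .nil .nil)) .nil) .nil)) (.node [(13,(.negSucc 0),1)] (.node [] .nil (.node [(31,(.negSucc 0),1)] (.node [] .nil (.node [(53,(.negSucc 0),1)] .nil .nil)) .nil)) .nil)) (.node [] (.node [] .nil (.node [(19,(.negSucc 0),1)] .nil .nil)) (.node [] (.node [] .nil (.node [(32,(.negSucc 0),1)] .nil (.node [(47,(.negSucc 0),1)] .nil .nil))) (.node [] (.node [] .nil (.node [(44,(.ofNat 1),1)] .nil .nil)) .nil))))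
noncomputable def ex101 : Trie (List (ℕ × ℤ × ℕ)) := (.node [] (.node [] (.node [] (.node [] .nil (.node [(29,(.ofNat 1),1)] .nil (.node [(46,(.ofNat 1),1)] .nil .nil))) (.node [(16,(.ofNat 1),1)] .nil .nil)) (.node [] (.node [] .nil (.node [] (.node [] .nil (.node [(54,(.negSucc 0),1)] .nil .nil)) (.node [(47,(.ofNat 1),1)] .nil .nil))) (.node [] (.node [] .nil (.node [(44,(.negSucc 0),1)] .nil .nil)) .nil))) (.node [(13,(.negSucc 0),1)] (.node [] (.node [] .nil (.node [(31,(.ofNat 1),1)] .nil .nil)) (.node [(20,(.negSucc 0),1)] .nil .nil)) (.node [] (.node [] (.node [] (.node [] .nil (.node [(50,(.negSucc 0),1)] .nil .nil)) .nil) (.node [(33,(.negSucc 0),1)] .nil .nil)) (.node [] (.node [] (.node [] .nil (.node [(51,(.negSucc 0),1)] .nil .nil)) .nil) .nil))))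
noncomputable def ex102 : Trie (List (ℕ × ℤ × ℕ)) := (.node [(13,(.negSucc 0),1)] (.node [] (.node [] (.node [] .nil (.node [(30,(.ofNat 1),1)] .nil .nil)) (.node [(17,(.ofNat 1),1)] .nil .nil)) (.node [] (.node [] (.node [] (.node [] .nil (.node [(50,(.ofNat 1),1)] .nil .nil)) .nil) (.node [(33,(.ofNat 1),1)] (.node [] .nil (.node [(55,(.negSucc 0),1)] .nil .nil)) .nil)) (.node [] (.node [] (.node [] .nil (.node [(51,(.ofNat 1),1)] .nil .nil)) (.node [(45,(.negSucc 0),1)] .nil .nil)) .nil))) (.node [] (.node [] (.node [] .nil (.node [(32,(.ofNat 1),1)] .nil (.node [(47,(.negSucc 0),1)] .nil .nil))) (.node [(21,(.negSucc 0),1)] .nil .nil)) (.node [] .nil (.node [] (.node [] .nil (.node [(46,(.negSucc 0),1)] .nil .nil)) .nil))))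
noncomputable def ex103 : Trie (List (ℕ × ℤ × ℕ)) := (.node [] (.node [] (.node [] (.node [] .nil (.node [] (.node [] .nil (.node [(52,(.ofNat 1),1)] .nil .nil)) .nil)) (.node [] (.node [] .nil (.node [(44,(.negSucc 0),1)] .nil .nil)) .nil)) (.node [(14,(.negSucc 0),1)] (.node [] .nil (.node [(34,(.negSucc 0),1)] .nil .nil)) .nil)) (.node [] (.node [] (.node [] (.node [] (.node [] .nil (.node [(50,(.negSucc 0),1)] .nil .nil)) .nil) (.node [] (.node [] .nil (.node [(53,(.ofNat 1),1)] .nil .nil)) .nil)) (.node [(22,(.negSucc 0),1)] (.node [] .nil (.node [(45,(.negSucc 0),1)] .nil .nil)) .nil)) (.node [(15,(.ofNat 1),1)] (.node [] .nil (.node [(35,(.negSucc 0),1)] .nil (.node [(48,(.negSucc 0),1)] .nil .nil))) (.node [(28,(.negSucc 0),1)] .nil .nil))))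
noncomputable def ex104 : Trie (List (ℕ × ℤ × ℕ)) := (.node [] (.node [] (.node [] (.node [] (.node [] (.node [] .nil (.node [(50,(.ofNat 1),1)] .nil .nil)) .nil) .nil) .nil) (.node [] (.node [] .nil (.node [] .nil (.node [(48,(.ofNat 1),1)] .nil .nil))) .nil)) (.node [(14,(.negSucc 0),1)] (.node [] (.node [] .nil (.node [(34,(.ofNat 1),1)] (.node [] .nil (.node [(54,(.ofNat 1),1)] .nil .nil)) .nil)) (.node [(23,(.negSucc 0),1)] (.node [] .nil (.node [(46,(.negSucc 0),1)] .nil .nil)) .nil)) (.node [(16,(.ofNat 1),1)] (.node [] (.node [] .nil (.node [(44,(.ofNat 1),1)] .nil .nil)) (.node [(36,(.negSucc 0),1)] .nil .nil)) (.node [(29,(.negSucc 0),1)] (.node [] (.node [] .nil (.node [(52,(.negSucc 0),1)] .nil .nil)) .nil) .nil))))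
noncomputable def ex105 : Trie (List (ℕ × ℤ × ℕ)) := (.node [(14,(.negSucc 0),1)] (.node [] (.node [] .nil (.node [] (.node [] .nil (.node [(46,(.ofNat 1),1)] .nil .nil)) .nil)) (.node [] (.node [] .nil (.node [(36,(.ofNat 1),1)] .nil .nil)) (.node [] (.node [] (.node [] .nil (.node [(52,(.ofNat 1),1)] .nil .nil)) .nil) .nil))) (.node [] (.node [] (.node [] .nil (.node [(35,(.ofNat 1),1)] (.node [] .nil (.node [(55,(.ofNat 1),1)] .nil .nil)) (.node [(48,(.negSucc 0),1)] .nil .nil))) (.node [(24,(.negSucc 0),1)] .nil .nil)) (.node [(17,(.ofNat 1),1)] (.node [] (.node [] .nil (.node [(45,(.ofNat 1),1)] .nil .nil)) .nil) (.node [(30,(.negSucc 0),1)] .nil (.node [] .nil (.node [(50,(.negSucc 0),1)] .nil .nil))))))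
noncomputable def ex106 : Trie (List (ℕ × ℤ × ℕ)) := (.node [] (.node [] (.node [] (.node [] .nil (.node [(34,(.negSucc 0),1)] (.node [] .nil (.node [(54,(.negSucc 0),1)] .nil .nil)) (.node [(48,(.negSucc 0),1)] .nil .nil))) .nil) (.node [(16,(.ofNat 1),1)] (.node [] (.node [] .nil (.node [(44,(.negSucc 0),1)] .nil .nil)) .nil) (.node [] .nil (.node [] .nil (.node [(50,(.negSucc 0),1)] .nil .nil))))) (.node [(15,(.negSucc 0),1)] (.node [] .nil (.node [(25,(.negSucc 0),1)] (.node [] .nil (.node [(47,(.negSucc 0),1)] .nil .nil)) .nil)) (.node [] (.node [] .nil (.node [(37,(.negSucc 0),1)] .nil .nil)) (.node [(31,(.negSucc 0),1)] (.node [] (.node [] .nil (.node [(53,(.negSucc 0),1)] .nil .nil)) .nil) .nil))))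
noncomputable def ex107 : Trie (List (ℕ × ℤ × ℕ)) := (.node [(15,(.negSucc 0),1)] (.node [] (.node [] (.node [] .nil (.node [(35,(.negSucc 0),1)] (.node [] .nil (.node [(55,(.negSucc 0),1)] .nil .nil)) .nil)) (.node [] (.node [] .nil (.node [(47,(.ofNat 1),1)] .nil .nil)) .nil)) (.node [(17,(.ofNat 1),1)] (.node [] (.node [] .nil (.node [(45,(.negSucc 0),1)] .nil .nil)) (.node [(37,(.ofNat 1),1)] .nil .nil)) (.node [] (.node [] (.node [] .nil (.node [(53,(.ofNat 1),1)] .nil .nil)) .nil) .nil))) (.node [] (.node [] .nil (.node [(26,(.negSucc 0),1)] .nil (.node [] .nil (.node [(50,(.ofNat 1),1)] .nil .nil)))) (.node [] .nil (.node [(32,(.negSucc 0),1)] (.node [] .nil (.node [(48,(.ofNat 1),1)] .nil .nil)) .nil))))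
noncomputable def ex108 : Trie (List (ℕ × ℤ × ℕ)) := (.node [(16,(.negSucc 0),1)] (.node [] (.node [] (.node [] .nil (.node [(36,(.negSucc 0),1)] .nil .nil)) (.node [] .nil (.node [] .nil (.node [(50,(.negSucc 0),1)] .nil .nil)))) (.node [] (.node [] (.node [] .nil (.node [(46,(.negSucc 0),1)] .nil .nil)) .nil) (.node [] (.node [] (.node [] .nil (.node [(54,(.ofNat 1),1)] .nil .nil)) (.node [(48,(.negSucc 0),1)] .nil .nil)) .nil))) (.node [(17,(.ofNat 1),1)] (.node [] (.node [] .nil (.node [(37,(.negSucc 0),1)] .nil .nil)) (.node [(27,(.negSucc 0),1)] .nil .nil)) (.node [] (.node [] (.node [] .nil (.node [(47,(.negSucc 0),1)] .nil .nil)) .nil) (.node [(33,(.negSucc 0),1)] (.node [] (.node [] .nil (.node [(55,(.ofNat 1),1)] .nil .nil)) .nil) .nil))))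
noncomputable def ex109 : Trie (List (ℕ × ℤ × ℕ)) := (.node [] (.node [] (.node [] (.node [] (.node [] .nil (.node [(44,(.ofNat 1),1)] .nil .nil)) .nil) (.node [(22,(.negSucc 0),1)] (.node [] (.node [] .nil (.node [(52,(.negSucc 0),1)] .nil .nil)) .nil) .nil)) (.node [(18,(.negSucc 0),1)] (.node [] .nil (.node [(38,(.negSucc 0),1)] .nil .nil)) (.node [(28,(.ofNat 1),1)] .nil .nil))) (.node [] (.node [] (.node [] (.node [] (.node [] .nil (.node [(51,(.negSucc 0),1)] .nil .nil)) (.node [(45,(.ofNat 1),1)] .nil .nil)) .nil) (.node [] (.node [] (.node [] .nil (.node [(53,(.negSucc 0),1)] .nil .nil)) .nil) .nil)) (.node [(19,(.ofNat 1),1)] (.node [] .nil (.node [(39,(.negSucc 0),1)] .nil (.node [(49,(.negSucc 0),1)] .nil .nil))) .nil)))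
noncomputable def ex110 : Trie (List (ℕ × ℤ × ℕ)) := (.node [] (.node [] (.node [] (.node [] (.node [] (.node [] .nil (.node [(51,(.ofNat 1),1)] .nil .nil)) .nil) .nil) (.node [(23,(.negSucc 0),1)] .nil .nil)) (.node [] (.node [] .nil (.node [] .nil (.node [(49,(.ofNat 1),1)] .nil .nil))) (.node [(29,(.ofNat 1),1)] .nil .nil))) (.node [(18,(.negSucc 0),1)] (.node [] (.node [] (.node [] .nil (.node [(46,(.ofNat 1),1)] .nil .nil)) (.node [(38,(.ofNat 1),1)] .nil .nil)) (.node [] (.node [] (.node [] .nil (.node [(54,(.negSucc 0),1)] .nil .nil)) .nil) .nil)) (.node [(20,(.ofNat 1),1)] (.node [] (.node [] (.node [] .nil (.node [(52,(.ofNat 1),1)] .nil .nil)) .nil) (.node [(40,(.negSucc 0),1)] .nil .nil)) (.node [] .nil (.node [(44,(.negSucc 0),1)] .nil .nil)))))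
noncomputable def ex111 : Trie (List (ℕ × ℤ × ℕ)) := (.node [(18,(.negSucc 0),1)] (.node [] (.node [] (.node [] (.node [] .nil (.node [(46,(.negSucc 0),1)] .nil .nil)) .nil) (.node [(24,(.negSucc 0),1)] .nil .nil)) (.node [] (.node [] (.node [] (.node [] .nil (.node [(52,(.negSucc 0),1)] .nil .nil)) .nil) (.node [(40,(.ofNat 1),1)] .nil .nil)) (.node [(30,(.ofNat 1),1)] .nil .nil))) (.node [] (.node [] (.node [] .nil (.node [(39,(.ofNat 1),1)] .nil (.node [(49,(.negSucc 0),1)] .nil .nil))) (.node [] (.node [] (.node [] .nil (.node [(55,(.negSucc 0),1)] .nil .nil)) .nil) .nil)) (.node [(21,(.ofNat 1),1)] .nil (.node [] .nil (.node [(45,(.negSucc 0),1)] .nil (.node [(51,(.negSucc 0),1)] .nil .nil))))))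
noncomputable def ex112 : Trie (List (ℕ × ℤ × ℕ)) := (.node [] (.node [] (.node [] (.node [] .nil (.node [(38,(.negSucc 0),1)] .nil (.node [(49,(.negSucc 0),1)] .nil .nil))) (.node [(25,(.negSucc 0),1)] (.node [] (.node [] .nil (.node [(54,(.ofNat 1),1)] .nil .nil)) .nil) .nil)) (.node [(20,(.ofNat 1),1)] .nil (.node [(31,(.ofNat 1),1)] .nil (.node [(44,(.ofNat 1),1)] .nil (.node [(51,(.negSucc 0),1)] .nil .nil))))) (.node [(19,(.negSucc 0),1)] (.node [] (.node [] (.node [] .nil (.node [(47,(.ofNat 1),1)] .nil .nil)) .nil) .nil) (.node [] (.node [] (.node [] (.node [] .nil (.node [(53,(.ofNat 1),1)] .nil .nil)) .nil) (.node [(41,(.negSucc 0),1)] .nil .nil)) .nil)))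
noncomputable def ex113 : Trie (List (ℕ × ℤ × ℕ)) := (.node [(19,(.negSucc 0),1)] (.node [] (.node [] (.node [] (.node [] .nil (.node [(47,(.negSucc 0),1)] .nil .nil)) (.node [(39,(.negSucc 0),1)] .nil .nil)) (.node [(26,(.negSucc 0),1)] (.node [] (.node [] .nil (.node [(55,(.ofNat 1),1)] .nil .nil)) .nil) .nil)) (.node [(21,(.ofNat 1),1)] (.node [] (.node [] (.node [] .nil (.node [(53,(.negSucc 0),1)] .nil .nil)) .nil) (.node [(41,(.ofNat 1),1)] .nil .nil)) (.node [(32,(.ofNat 1),1)] .nil (.node [(45,(.ofNat 1),1)] .nil .nil)))) (.node [] (.node [] .nil (.node [] .nil (.node [] .nil (.node [(51,(.ofNat 1),1)] .nil .nil)))) (.node [] .nil (.node [] (.node [] .nil (.node [(49,(.ofNat 1),1)] .nil .nil)) .nil))))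
noncomputable def ex114 : Trie (List (ℕ × ℤ × ℕ)) := (.node [(20,(.negSucc 0),1)] (.node [] (.node [] (.node [] .nil (.node [(40,(.negSucc 0),1)] .nil .nil)) (.node [(27,(.negSucc 0),1)] .nil (.node [] .nil (.node [(51,(.negSucc 0),1)] .nil .nil)))) (.node [] (.node [] (.node [] (.node [] .nil (.node [(54,(.negSucc 0),1)] .nil .nil)) .nil) .nil) (.node [(33,(.ofNat 1),1)] (.node [] .nil (.node [(49,(.negSucc 0),1)] .nil .nil)) (.node [(46,(.ofNat 1),1)] .nil .nil)))) (.node [(21,(.ofNat 1),1)] (.node [] (.node [] .nil (.node [(41,(.negSucc 0),1)] .nil .nil)) .nil) (.node [] (.node [] (.node [] (.node [] .nil (.node [(55,(.negSucc 0),1)] .nil .nil)) .nil) .nil) (.node [] .nil (.node [(47,(.ofNat 1),1)] .nil .nil)))))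
noncomputable def ex115 : Trie (List (ℕ × ℤ × ℕ)) := (.node [] (.node [] (.node [] (.node [] (.node [] (.node [] .nil (.node [(53,(.negSucc 0),1)] .nil .nil)) .nil) .nil) .nil) (.node [(23,(.ofNat 1),1)] .nil (.node [(34,(.ofNat 1),1)] .nil (.node [] .nil (.node [(52,(.negSucc 0),1)] .nil .nil))))) (.node [(22,(.negSucc 0),1)] (.node [] (.node [] (.node [] (.node [] .nil (.node [(54,(.negSucc 0),1)] .nil .nil)) (.node [(48,(.ofNat 1),1)] .nil .nil)) .nil) (.node [] (.node [] .nil (.node [(49,(.ofNat 1),1)] .nil .nil)) (.node [(44,(.negSucc 0),1)] .nil .nil))) (.node [(25,(.negSucc 0),1)] (.node [] .nil (.node [(42,(.negSucc 0),1)] .nil .nil)) (.node [(38,(.ofNat 1),1)] .nil .nil))))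
noncomputable def ex116 : Trie (List (ℕ × ℤ × ℕ)) := (.node [(22,(.negSucc 0),1)] (.node [] (.node [] (.node [] (.node [] .nil (.node [(48,(.negSucc 0),1)] .nil .nil)) .nil) (.node [] (.node [] .nil (.node [(49,(.negSucc 0),1)] .nil .nil)) .nil)) (.node [(24,(.ofNat 1),1)] (.node [] .nil (.node [(42,(.ofNat 1),1)] .nil .nil)) (.node [(35,(.ofNat 1),1)] .nil .nil))) (.node [] (.node [] (.node [] (.node [] (.node [] .nil (.node [(55,(.negSucc 0),1)] .nil .nil)) .nil) .nil) (.node [] .nil (.node [(45,(.negSucc 0),1)] .nil (.node [(52,(.ofNat 1),1)] .nil .nil)))) (.node [(26,(.negSucc 0),1)] .nil (.node [(39,(.ofNat 1),1)] .nil (.node [] .nil (.node [(53,(.ofNat 1),1)] .nil .nil))))))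
noncomputable def ex117 : Trie (List (ℕ × ℤ × ℕ)) := (.node [(23,(.negSucc 0),1)] (.node [] (.node [] (.node [] (.node [] (.node [] .nil (.node [(55,(.ofNat 1),1)] .nil .nil)) .nil) .nil) (.node [] .nil (.node [] .nil (.node [(52,(.negSucc 0),1)] .nil .nil)))) (.node [] .nil (.node [(36,(.ofNat 1),1)] .nil .nil))) (.node [(24,(.ofNat 1),1)] (.node [] (.node [] .nil (.node [(42,(.negSucc 0),1)] .nil .nil)) (.node [] .nil (.node [(46,(.negSucc 0),1)] .nil .nil))) (.node [(27,(.negSucc 0),1)] (.node [] (.node [] .nil (.node [(49,(.ofNat 1),1)] .nil .nil)) .nil) (.node [(40,(.ofNat 1),1)] .nil (.node [(48,(.ofNat 1),1)] .nil (.node [(54,(.ofNat 1),1)] .nil .nil))))))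
noncomputable def ex118 : Trie (List (ℕ × ℤ × ℕ)) := (.node [(25,(.negSucc 0),1)] (.node [] (.node [] (.node [] .nil (.node [(42,(.ofNat 1),1)] .nil .nil)) (.node [] .nil (.node [] .nil (.node [(53,(.negSucc 0),1)] .nil .nil)))) (.node [(27,(.negSucc 0),1)] (.node [] (.node [] .nil (.node [(49,(.negSucc 0),1)] .nil .nil)) .nil) (.node [(37,(.ofNat 1),1)] .nil (.node [(48,(.negSucc 0),1)] .nil (.node [(55,(.negSucc 0),1)] .nil .nil))))) (.node [(26,(.ofNat 1),1)] (.node [] .nil (.node [] .nil (.node [(47,(.negSucc 0),1)] .nil (.node [(54,(.negSucc 0),1)] .nil .nil)))) (.node [] .nil (.node [(41,(.ofNat 1),1)] .nil .nil))))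
noncomputable def ex119 : Trie (List (ℕ × ℤ × ℕ)) := (.node [] (.node [] (.node [] (.node [] .nil (.node [] .nil (.node [(52,(.ofNat 1),1)] .nil .nil))) (.node [(34,(.ofNat 1),1)] .nil (.node [(44,(.ofNat 1),1)] .nil .nil))) (.node [(29,(.ofNat 1),1)] (.node [] .nil (.node [] .nil (.node [(53,(.ofNat 1),1)] .nil .nil))) .nil)) (.node [(28,(.negSucc 0),1)] (.node [] (.node [] (.node [] .nil (.node [(50,(.ofNat 1),1)] .nil .nil)) .nil) (.node [(38,(.negSucc 0),1)] (.node [] .nil (.node [(51,(.ofNat 1),1)] .nil .nil)) .nil)) (.node [(31,(.negSucc 0),1)] (.node [] .nil (.node [(43,(.negSucc 0),1)] .nil (.node [(54,(.ofNat 1),1)] .nil .nil))) .nil)))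
noncomputable def ex120 : Trie (List (ℕ × ℤ × ℕ)) := (.node [(28,(.negSucc 0),1)] (.node [] (.node [] (.node [] (.node [] .nil (.node [(50,(.negSucc 0),1)] .nil .nil)) .nil) (.node [(35,(.ofNat 1),1)] (.node [] .nil (.node [(51,(.negSucc 0),1)] .nil .nil)) (.node [(45,(.ofNat 1),1)] .nil .nil))) (.node [(30,(.ofNat 1),1)] (.node [] .nil (.node [(43,(.ofNat 1),1)] .nil .nil)) .nil)) (.node [] (.node [] (.node [] .nil (.node [] .nil (.node [(53,(.negSucc 0),1)] .nil .nil))) (.node [(39,(.negSucc 0),1)] .nil .nil)) (.node [(32,(.negSucc 0),1)] (.node [] .nil (.node [] .nil (.node [(55,(.ofNat 1),1)] .nil .nil))) (.node [] (.node [] .nil (.node [(52,(.negSucc 0),1)] .nil .nil)) .nil))))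
noncomputable def ex121 : Trie (List (ℕ × ℤ × ℕ)) := (.node [(29,(.negSucc 0),1)] (.node [] (.node [] .nil (.node [(36,(.ofNat 1),1)] .nil (.node [(46,(.ofNat 1),1)] .nil .nil))) (.node [] (.node [] .nil (.node [] .nil (.node [(55,(.negSucc 0),1)] .nil .nil))) (.node [] (.node [] .nil (.node [(52,(.ofNat 1),1)] .nil .nil)) .nil))) (.node [(30,(.ofNat 1),1)] (.node [] (.node [] .nil (.node [(43,(.negSucc 0),1)] .nil (.node [(54,(.negSucc 0),1)] .nil .nil))) (.node [(40,(.negSucc 0),1)] .nil .nil)) (.node [(33,(.negSucc 0),1)] (.node [] (.node [] .nil (.node [(51,(.ofNat 1),1)] .nil .nil)) .nil) (.node [] .nil (.node [(50,(.ofNat 1),1)] .nil .nil)))))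
noncomputable def ex122 : Trie (List (ℕ × ℤ × ℕ)) := (.node [(31,(.negSucc 0),1)] (.node [] (.node [] (.node [] .nil (.node [(43,(.ofNat 1),1)] .nil (.node [(55,(.ofNat 1),1)] .nil .nil))) (.node [(37,(.ofNat 1),1)] .nil (.node [(47,(.ofNat 1),1)] .nil .nil))) (.node [(33,(.negSucc 0),1)] (.node [] (.node [] .nil (.node [(51,(.negSucc 0),1)] .nil .nil)) .nil) (.node [] (.node [] .nil (.node [(53,(.ofNat 1),1)] .nil .nil)) (.node [(50,(.negSucc 0),1)] .nil .nil)))) (.node [(32,(.ofNat 1),1)] (.node [] .nil (.node [(41,(.negSucc 0),1)] .nil .nil)) (.node [] .nil (.node [] (.node [] .nil (.node [(54,(.ofNat 1),1)] .nil .nil)) .nil))))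
noncomputable def ex123 : Trie (List (ℕ × ℤ × ℕ)) := (.node [(34,(.negSucc 0),1)] (.node [] (.node [] .nil (.node [] (.node [] .nil (.node [(54,(.negSucc 0),1)] .nil .nil)) (.node [(48,(.ofNat 1),1)] .nil .nil))) (.node [(36,(.negSucc 0),1)] (.node [] (.node [] .nil (.node [(52,(.negSucc 0),1)] .nil .nil)) .nil) .nil)) (.node [(35,(.ofNat 1),1)] (.node [] .nil (.node [(42,(.negSucc 0),1)] (.node [] .nil (.node [(55,(.negSucc 0),1)] .nil .nil)) (.node [(50,(.ofNat 1),1)] .nil .nil))) (.node [(37,(.ofNat 1),1)] (.node [] (.node [] .nil (.node [(53,(.negSucc 0),1)] .nil .nil)) .nil) (.node [(43,(.negSucc 0),1)] .nil .nil))))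
noncomputable def ex124 : Trie (List (ℕ × ℤ × ℕ)) := (.node [(38,(.negSucc 0),1)] (.node [] (.node [] (.node [] (.node [] .nil (.node [(54,(.ofNat 1),1)] .nil .nil)) .nil) (.node [(42,(.negSucc 0),1)] .nil (.node [(49,(.ofNat 1),1)] .nil .nil))) (.node [(40,(.negSucc 0),1)] .nil (.node [(43,(.ofNat 1),1)] .nil (.node [(52,(.ofNat 1),1)] .nil .nil)))) (.node [(39,(.ofNat 1),1)] (.node [] (.node [] (.node [] .nil (.node [(55,(.ofNat 1),1)] .nil .nil)) .nil) (.node [] .nil (.node [(51,(.ofNat 1),1)] .nil .nil))) (.node [(41,(.ofNat 1),1)] .nil (.node [] .nil (.node [(53,(.ofNat 1),1)] .nil .nil)))))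
noncomputable def ex125 : Trie (List (ℕ × ℤ × ℕ)) := (.node [(44,(.negSucc 0),1)] (.node [] (.node [] (.node [] .nil (.node [(52,(.ofNat 1),1)] .nil .nil)) (.node [(48,(.negSucc 0),1)] .nil .nil)) (.node [(46,(.negSucc 0),1)] (.node [] .nil (.node [(54,(.ofNat 1),1)] .nil .nil)) (.node [(50,(.ofNat 1),1)] .nil .nil))) (.node [(45,(.ofNat 1),1)] (.node [] (.node [] .nil (.node [(53,(.ofNat 1),1)] .nil .nil)) (.node [(49,(.ofNat 1),1)] .nil .nil)) (.node [(47,(.ofNat 1),1)] (.node [] .nil (.node [(55,(.ofNat 1),1)] .nil .nil)) (.node [(51,(.ofNat 1),1)] .nil .nil))))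
noncomputable def ex : Trie (Trie (List (ℕ × ℤ × ℕ))) := (.node ex0 (.node .nil (.node .nil (.node .nil (.node .nil (.node .nil (.node .nil .nil (.node ex64 .nil .nil)) (.node ex32 .nil (.node ex96 .nil .nil))) (.node ex16 (.node .nil .nil (.node ex80 .nil .nil)) (.node ex48 .nil (.node ex112 .nil .nil)))) (.node ex8 (.node .nil (.node .nil .nil (.node ex72 .nil .nil)) (.node ex40 .nil (.node ex104 .nil .nil))) (.node ex24 (.node .nil .nil (.node ex88 .nil .nil)) (.node ex56 .nil (.node ex120 .nil .nil))))) (.node ex4 (.node .nil (.node .nil (.node .nil .nil (.node ex68 .nil .nil)) (.node ex36 .nil (.node ex100 .nil .nil))) (.node ex20 (.node .nil .nil (.node ex84 .nil .nil)) (.node ex52 .nil (.node ex116 .nil .nil)))) (.node ex12 (.node .nil (.node .nil .nil (.node ex76 .nil .nil)) (.node ex44 .nil (.node ex108 .nil .nil))) (.node ex28 (.node .nil .nil (.node ex92 .nil .nil)) (.node ex60 .nil (.node ex124 .nil .nil)))))) (.node ex2 (.node .nil (.node .nil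 (.node .nil (.node .nil .nil (.node ex66 .nil .nil)) (.node ex34 .nil (.node ex98 .nil .nil))) (.node ex18 (.node .nil .nil (.node ex82 .nil .nil)) (.node ex50 .nil (.node ex114 .nil .nil)))) (.node ex10 (.node .nil (.node .nil .nil (.node ex74 .nil .nil)) (.node ex42 .nil (.node ex106 .nil .nil))) (.node ex26 (.node .nil .nil (.node ex90 .nil .nil)) (.node ex58 .nil (.node ex122 .nil .nil))))) (.node ex6 (.node .nil (.node .nil (.node .nil .nil (.node ex70 .nil .nil)) (.node ex38 .nil (.node ex102 .nil .nil))) (.node ex22 (.node .nil .nil (.node ex86 .nil .nil)) (.node ex54 .nil (.node ex118 .nil .nil)))) (.node ex14 (.node .nil (.node .nil .nil (.node ex78 .nil .nil)) (.node ex46 .nil (.node ex110 .nil .nil))) (.node ex30 (.node .nil .nil (.node ex94 .nil .nil)) (.node ex62 .nil .nil)))))) (.node ex1 (.node .nil (.node .nil (.node .nil (.node .nil (.node .nil .nil (.node ex65 .nil .nil)) (.node ex33 .nil (.node ex97 .nil .nil))) (.node ex17 (.node .nil .nil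 (.node ex81 .nil .nil)) (.node ex49 .nil (.node ex113 .nil .nil)))) (.node ex9 (.node .nil (.node .nil .nil (.node ex73 .nil .nil)) (.node ex41 .nil (.node ex105 .nil .nil))) (.node ex25 (.node .nil .nil (.node ex89 .nil .nil)) (.node ex57 .nil (.node ex121 .nil .nil))))) (.node ex5 (.node .nil (.node .nil (.node .nil .nil (.node ex69 .nil .nil)) (.node ex37 .nil (.node ex101 .nil .nil))) (.node ex21 (.node .nil .nil (.node ex85 .nil .nil)) (.node ex53 .nil (.node ex117 .nil .nil)))) (.node ex13 (.node .nil (.node .nil .nil (.node ex77 .nil .nil)) (.node ex45 .nil (.node ex109 .nil .nil))) (.node ex29 (.node .nil .nil (.node ex93 .nil .nil)) (.node ex61 .nil (.node ex125 .nil .nil)))))) (.node ex3 (.node .nil (.node .nil (.node .nil (.node .nil .nil (.node ex67 .nil .nil)) (.node ex35 .nil (.node ex99 .nil .nil))) (.node ex19 (.node .nil .nil (.node ex83 .nil .nil)) (.node ex51 .nil (.node ex115 .nil .nil)))) (.node ex11 (.node .nil (.node .nil .nil (.node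 ex75 .nil .nil)) (.node ex43 .nil (.node ex107 .nil .nil))) (.node ex27 (.node .nil .nil (.node ex91 .nil .nil)) (.node ex59 .nil (.node ex123 .nil .nil))))) (.node ex7 (.node .nil (.node .nil (.node .nil .nil (.node ex71 .nil .nil)) (.node ex39 .nil (.node ex103 .nil .nil))) (.node ex23 (.node .nil .nil (.node ex87 .nil .nil)) (.node ex55 .nil (.node ex119 .nil .nil)))) (.node ex15 (.node .nil (.node .nil .nil (.node ex79 .nil .nil)) (.node ex47 .nil (.node ex111 .nil .nil))) (.node ex31 (.node .nil .nil (.node ex95 .nil .nil)) (.node ex63 .nil .nil)))))))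
noncomputable def T : Tabs := ⟨0, 126, 56, ex, .nil⟩
theorem nroots_ok : T.nroots = chevE7.nroots := by decide +kernel
theorem add_ok : checkAdd T = true := by decide +kernel
theorem pos_ok : checkPos T = true := by decide +kernel
theorem h_ok : allBelow (checkHRep T chevE7) T.nroots = true := by decide +kernel

/-- Columns whose weights form a basis of the weight lattice. -/
def latC : List ℕ := [49, 0, 44, 28, 17, 46, 14]
/-- The inverse matrix of those weights. -/
def latW : List (List ℤ) := [[0,-1,1,0,0,0,0],[-1,-2,1,0,-1,0,0],[0,-2,1,0,-1,0,0],[-1,-4,2,-1,-2,-1,1],[-1,-3,2,-1,-1,-1,0],[-1,-2,1,-1,-1,0,0],[0,-1,0,0,0,0,0]]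
end Cfsg.Agent.Lib.RepE7
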