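/-
ResidModel3: a system with a constrained normal subsystem containing the hyperfocal subgroup is constrained.
-/
import Mathlib
import Cfsg.Agent.Lib.FusionCompA
import Cfsg.Agent.Lib.FusionCore3
import Cfsg.Agent.Lib.CharPLocal
import Cfsg.Agent.Lib.ResidModel2
import Cfsg.Agent.S5083
import Cfsg.Agent.S5097
import Cfsg.Agent.S5145

set_option autoImplicit false

namespace Cfsg.Agent.Lib.ResidModel3

open Cfsg Cfsg.FusionSystem Cfsg.Agent.Lib.FusionCore Cfsg.Agent.Lib.PCore Cfsg.Agent.Lib.ResidModel2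

universe u

variable {Ω : Type u} [Group Ω] {S : Subgroup Ω} [Finite S] {p : ℕ} [Fact p.Prime]

lemma inner_isNormal (Y : Subgroup Ω) : (innerFusionSystem Y).IsNormal Y := by
  refine ⟨le_rfl, fun P φ hφ => ?_⟩
  obtain ⟨hP, g, hg, h⟩ := hφ
  obtain ⟨ψ, hψ, h1, h2⟩ := Cfsg.Agent.Lib.FusionNormal.ext_conj (F := innerFusionSystem Y) (Q := Y) (P := P) le_rfl hP hg
    (Subgroup.mem_normalizer_iff.2 (fun x => ⟨fun hx => Y.mul_mem (Y.mul_mem hg hx) (Y.inv_mem hg),
      fun hx => by
        have := Y.mul_mem (Y.mul_mem (Y.inv_mem hg) hx) hg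
        simpa [mul_assoc] using this⟩))
  exact ⟨ψ, hψ, fun x => (h1 x).trans (h x).symm, h2⟩

/-- A normal subsystem containing the hyperfocal subgroup: constrained passes upward. -/
theorem isConstrained_of_normal (hS : IsPGroup p S) {F : FusionSystem S} (hF : F.IsSaturated p) {T : Subgroup Ω}
    {E : FusionSystem T} (hE : E.IsNormalIn F p) (hyp : F.hyperfocalSubgroup p ≤ T)
    (hEc : E.IsConstrained p) : F.IsConstrained p := by
  classical
  obtain ⟨-, Q₀, hQ₀, hQ₀c⟩ := hEc
  have hQ : F.IsNormal E.core := Cfsg.Agent.Lib.FusionCompA.core_isNormal hS hF hE.1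
  have hQ₀Q : Q₀ ≤ E.core := le_sSup hQ₀
  have hcent : ∀ x ∈ T, x ∈ Subgroup.centralizer (E.core : Set Ω) → x ∈ E.core := by
    intro x hxT hx
    apply hQ₀Q
    refine hQ₀c.2 Q₀ (isConj_refl hQ₀c.1) ⟨hxT, ?_⟩
    rw [Subgroup.mem_centralizer_iff] at hx
    show x ∈ Subgroup.centralizer (Q₀ : Set Ω)
    rw [Subgroup.mem_centralizer_iff]
    exact fun h hh => hx h (hQ₀Q hh)
  obtain ⟨C, hC⟩ := Cfsg.Agent.S5097.result F E.core hQ.1
  have hCn : C.IsNormalIn F p := Cfsg.Agent.Lib.FusionCompA.cent_isNormalIn hS hF hQ hC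
  have hCs : C.IsSaturated p := hCn.1.1
  have hYS : centralizerIn S E.core ≤ S := inf_le_left
  haveI : Finite (centralizerIn S E.core) := finite_of_le hYS
  have hYp : IsPGroup p (centralizerIn S E.core) := hS.to_le hYS
  have hauts : ∀ P : Subgroup Ω, P ≤ centralizerIn S E.core → IsPGroup p (C.autGroup P) := by
    intro P hP
    haveI : Finite P := finite_of_le (hP.trans hYS)
    apply Cfsg.Agent.Lib.CharPLocal.isPGroup_of_forall_coprime
    intro α hα hαc
    have hαm : Maps C P (afn α) := (mem_autGroup_iff hP).1 hα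
    obtain ⟨hαF, -, -, g, hg, hg1, hg2⟩ := (Cfsg.Agent.Lib.AschCore.maps_cent hC).1 hαm
    have hαFa : α ∈ F.autGroup P := (mem_autGroup_iff (hP.trans hYS)).2 hαF
    apply MulEquiv.ext
    intro x
    have hcT : (x : Ω)⁻¹ * ((α x : P) : Ω) ∈ T := hyp (mem_hyp (hP.trans hYS) hαFa hαc x)
    set c : P := x⁻¹ * α x with hcdef
    have hcv : (c : Ω) = (x : Ω)⁻¹ * ((α x : P) : Ω) := rfl
    have hcQ : (c : Ω) ∈ E.core := hcent _ (by rw [hcv]; exact hcT) (hP c.2).2
    have hfix : α c = c := by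
      apply Subtype.ext
      have h1 := hg1 c c.2
      rw [hg2 _ hcQ, afn_coe] at h1
      exact h1.symm
    have hαx : α x = x * c := by rw [hcdef]; group
    have hpow : ∀ j : ℕ, (α ^ j) x = x * c ^ j := by
      intro j
      induction j with
      | zero => simp
      | succ j ih =>
        rw [pow_succ', MulAut.mul_apply, ih, map_mul, map_pow, hfix, hαx, pow_succ']
        group
    have h1 := hpow (orderOf α)
    rw [pow_orderOf_eq_one] at h1
    have h2 : c ^ orderOf α = 1 := by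
      have h3 : x = x * c ^ orderOf α := h1
      exact (mul_eq_left.1 h3.symm)
    obtain ⟨n, hn⟩ := hS ⟨c, hYS (hP c.2)⟩
    have h3 : c ^ p ^ n = 1 := by
      apply Subtype.ext
      have := congrArg Subtype.val hn
      exact this
    have h4 : c = 1 := eq_one_of_pow_coprime h3 h2 hαc
    rw [hαx, h4, mul_one]
    rfl
  have hCeq : C = innerFusionSystem (centralizerIn S E.core) := Cfsg.Agent.S5083.result p hYp C hCs hauts
  have hYn : C.IsNormal (centralizerIn S E.core) := by
    rw [hCeq]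
    exact inner_isNormal _
  have hYcore : centralizerIn S E.core ≤ C.core := le_sSup hYn
  have hCcore : F.IsNormal C.core := Cfsg.Agent.Lib.FusionCompA.core_isNormal hS hF hCn.1
  have hRn : F.IsNormal F.core := Cfsg.Agent.S5145.result F
  have hYR : centralizerIn S E.core ≤ F.core := hYcore.trans (le_sSup hCcore)
  have hQR : E.core ≤ F.core := le_sSup hQ
  refine ⟨hF, F.core, hRn, hRn.1, fun R' hR' => ?_⟩
  rw [Cfsg.Agent.Lib.FusionCore.isConj_iff] at hR'
  obtain ⟨f, hf, rfl⟩ := hR'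
  rw [Cfsg.Agent.Lib.FusionCore3.StronglyClosed.img_eq
    (Cfsg.Agent.Lib.FusionCore3.stronglyClosed_of_isNormal hRn) le_rfl hf]
  refine le_trans ?_ hYR
  intro x hx
  refine ⟨hx.1, ?_⟩
  have h2 : x ∈ Subgroup.centralizer (F.core : Set Ω) := hx.2
  show x ∈ Subgroup.centralizer (E.core : Set Ω)
  rw [Subgroup.mem_centralizer_iff] at h2 ⊢
  exact fun h hh => h2 h (hQR hh)

end Cfsg.Agent.Lib.ResidModel3
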