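/-
ResidModel4: a terminating residual series gives a constrained system with `p`-solvable models, and
conversely the hyperfocal subgroup of the `p'`-residual subsystem of a system with a `p`-solvable model is proper.
-/
import Mathlib
import Cfsg.Agent.Lib.ResidModel1
import Cfsg.Agent.Lib.ResidModel2
import Cfsg.Agent.Lib.ResidModel3
import Cfsg.Agent.Lib.FusionLimit
import Cfsg.Agent.Lib.FusionRealSys
import Cfsg.Agent.S5120
import Cfsg.Agent.S5124
import Cfsg.Agent.S5141

set_option autoImplicit false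

namespace Cfsg.Agent.Lib.ResidModel4

open Cfsg Cfsg.FusionSystem Cfsg.Agent.Lib.FusionCore Cfsg.Agent.Lib.PCore Cfsg.Agent.Lib.ResidModel2
  Cfsg.Agent.Lib.ResidModel1 Cfsg.Agent.Lib.ResidModel3 Cfsg.Agent.Lib.FusionInvariant

universe u v

variable {Ω : Type u} [Group Ω]

lemma isWeaklyNormalIn_self {S : Subgroup Ω} [Finite S] {p : ℕ} {F : FusionSystem S} (hF : F.IsSaturated p) :
    F.IsWeaklyNormalIn F p := by
  refine ⟨hF, hF, isInvariantIn_iff.2 ⟨fun P _ h => h, ?_, ?_, ?_⟩⟩
  · exact ⟨le_rfl, fun Q hQ φ hφ x => (F.le_of_mem hφ).2 x⟩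
  · intro P f hf a ha
    have hm : Maps F S (afn a) := (mem_autGroup_iff le_rfl).1 ha
    have hm' : Maps F S (afn a⁻¹) := (mem_autGroup_iff le_rfl).1 (Subgroup.inv_mem _ ha)
    have hPS := hf.le
    have hPim : img (afn a) P ≤ S := by
      intro y hy
      obtain ⟨x, hx, rfl⟩ := (hm.restrict hPS).mem_img.1 hy
      exact hm.mem (hPS hx)
    have h2 : ∀ x ∈ img (afn a) P, afn a⁻¹ x ∈ P := by
      intro y hy
      obtain ⟨x, hx, rfl⟩ := (hm.restrict hPS).mem_img.1 hy
      rwa [afn_inv_afn a (hPS hx)]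
    have h3 := (hm'.restrict hPim).comp hf h2
    refine ⟨afn a ∘ (f ∘ afn a⁻¹), h3.comp hm (fun x hx => h3.mem hx), fun x hx => ?_⟩
    simp only [Function.comp]
    rw [afn_inv_afn a (hPS hx)]
  · exact fun hP hf => ⟨1, Subgroup.one_mem _, _, hf, fun x hx => by rw [afn_one (hf.mem hx)]⟩

variable {p : ℕ}

lemma subgroupOf_normal_of_stronglyClosed {S T : Subgroup Ω} [Finite S] {F : FusionSystem S} (h : F.StronglyClosed T) :
    (T.subgroupOf S).Normal := by
  have hN := Cfsg.Agent.Lib.FusionCore3.StronglyClosed.normalizes h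
  constructor
  rintro ⟨x, hx⟩ hxT ⟨g, hg⟩
  have h1 : x ∈ T := Subgroup.mem_subgroupOf.1 hxT
  exact Subgroup.mem_subgroupOf.2 ((Subgroup.mem_normalizer_iff.1 (hN hg) x).1 h1)

theorem normal_of_residual {S : Subgroup Ω} [Finite S] [Fact p.Prime] (hS : IsPGroup p S) {F E : FusionSystem S}
    (hF : F.IsSaturated p) (hE : F.IsPPrimeResidual p E) : E.IsNormalIn F p :=
  Cfsg.Agent.S5141.result p hS F hF F (isWeaklyNormalIn_self hF) E hE

theorem normal_of_pResidual {S : Subgroup Ω} [Finite S] [Fact p.Prime] (hS : IsPGroup p S) {E : FusionSystem S}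
    (hEs : E.IsSaturated p) {D : FusionSystem (E.hyperfocalSubgroup p)} (hDs : D.IsSaturated p)
    (hDi : D.HasPPowerIndexIn E p) : D.IsNormalIn E p :=
  Cfsg.Agent.S5120.result p hS E hEs _ (Cfsg.Agent.Lib.FusionLimit.hyp_le E)
    (subgroupOf_normal_of_stronglyClosed (Cfsg.Agent.S5124.result p hS E hEs)) le_rfl D hDs hDi

theorem forward_trivial {S : Subgroup Ω} [Finite S] [Fact p.Prime] (hb : S = ⊥) {F : FusionSystem S}
    (hF : F.IsSaturated p) :
    F.IsConstrained p ∧ ∀ (G : Type v) [Group G] (ι : S →* G), F.IsModel p G ι → IsPSolvable p G := by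
  refine ⟨⟨hF, ⊥, Cfsg.Agent.Lib.FusionNormal.isNormal_bot F, bot_le, fun Q _ x hx => ?_⟩, fun G _ ι hG => ?_⟩
  · have h1 : x ∈ S := hx.1
    rw [hb, Subgroup.mem_bot] at h1
    rw [h1]
    exact Q.one_mem
  · obtain ⟨hfin, -, ⟨T, hT⟩, hC⟩ := hG
    haveI := hfin
    have hO : Cfsg.pCore p G = ⊥ := by
      rw [eq_bot_iff]
      intro o ho
      have h1 : o ∈ (T : Subgroup G) := pCore_le_sylow p T ho
      rw [hT] at h1
      obtain ⟨s, rfl⟩ := h1
      have hs : (s : Ω) = 1 := by
        have h2 : (s : Ω) ∈ (⊥ : Subgroup Ω) := hb ▸ s.2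
        exact Subgroup.mem_bot.1 h2
      have : s = 1 := Subtype.ext hs
      rw [this, map_one]
      exact Subgroup.one_mem _
    have hall : ∀ g : G, g = 1 := by
      intro g
      have h1 : g ∈ Cfsg.pCore p G := by
        apply hC
        rw [Subgroup.mem_centralizer_iff]
        intro h hh
        have h2 : h ∈ Cfsg.pCore p G := hh
        rw [hO, Subgroup.mem_bot] at h2
        rw [h2]
        simp
      rw [hO, Subgroup.mem_bot] at h1
      exact h1
    haveI : Subsingleton G := ⟨fun a b => by rw [hall a, hall b]⟩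
    refine isPSolvable_of_card (Or.inl ⟨0, ?_⟩)
    rw [Nat.card_of_subsingleton (1 : G), pow_zero]

theorem forward_aux {S : Subgroup Ω} {F : FusionSystem S} (h : F.HasTerminatingResidualSeries p) :
    ∀ [Fact p.Prime], Finite S → IsPGroup p S → F.IsSaturated p →
      (F.IsConstrained p ∧ ∀ (G : Type v) [Group G] (ι : S →* G), F.IsModel p G ι → IsPSolvable p G) := by
  induction h with
  | trivial F p hb =>
    intro _ _ _ hF
    exact forward_trivial hb hF
  | step F E p D hE hD hser ih =>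
    intro _ hfin hS hF
    haveI := hfin
    have hEn : E.IsNormalIn F p := normal_of_residual hS hF hE
    have hEs : E.IsSaturated p := hE.1
    have hTS : E.hyperfocalSubgroup p ≤ _ := Cfsg.Agent.Lib.FusionLimit.hyp_le E
    have hDn : D.IsNormalIn E p := normal_of_pResidual hS hEs hD.1 hD.2
    haveI : Finite (E.hyperfocalSubgroup p) := finite_of_le hTS
    obtain ⟨hDc, hDm⟩ := ih (finite_of_le hTS) (hS.to_le hTS) hD.1
    have hEc : E.IsConstrained p := isConstrained_of_normal hS hEs hDn le_rfl hDc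
    have hFc : F.IsConstrained p := isConstrained_of_normal hS hF hEn (Cfsg.Agent.Lib.FusionLimit.hyp_le F) hEc
    refine ⟨hFc, fun G _ ι hG => ?_⟩
    obtain ⟨H, ι₁, hHn, hι₁, hE₁⟩ := model_descent hS hEn le_rfl hG
    obtain ⟨H₂, ι₂, hH₂n, hι₂, hD₂⟩ := model_descent hS hDn hTS hE₁
    haveI := hHn
    haveI := hH₂n
    haveI := hG.1
    have hsol₂ : IsPSolvable p H₂ := hDm _ ι₂ hD₂
    have hq : IsPGroup p (H ⧸ H₂) := isPGroup_quotient hS hE₁ hTS hι₂ hD₂ hD.2
    have hsol : IsPSolvable p H := isPSolvable_ext H₂ hsol₂ (isPSolvable_of_card (Or.inl (IsPGroup.iff_card.1 hq)))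
    refine isPSolvable_ext H hsol (isPSolvable_of_card (Or.inr ?_))
    obtain ⟨-, -, ⟨T₀, hT₀⟩, -⟩ := hG
    have hT₀H : (T₀ : Subgroup G) ≤ H := by
      rw [hT₀]
      rintro _ ⟨s, rfl⟩
      have h1 : ((ι₁ s : H) : G) = ι s := hι₁ s
      rw [← h1]
      exact (ι₁ s).2
    have hd : H.index ∣ (T₀ : Subgroup G).index := Subgroup.index_dvd_of_le hT₀H
    have hc : (T₀ : Subgroup G).index.Coprime p :=
      ((Nat.Prime.coprime_iff_not_dvd Fact.out).2 T₀.not_dvd_index).symm
    exact Nat.Coprime.coprime_dvd_left hd hc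

end Cfsg.Agent.Lib.ResidModel4
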