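/-
ResidModel5: the hyperfocal subgroup of the `p'`-residual subsystem of a system with a `p`-solvable model is proper,
and a saturated system with a `p`-solvable model has a terminating residual series.
-/
import Mathlib
import Cfsg.Agent.Lib.ResidModel4
import Cfsg.Agent.S5113
import Cfsg.Agent.S5140

set_option autoImplicit false

namespace Cfsg.Agent.Lib.ResidModel5

open Cfsg Cfsg.FusionSystem Cfsg.Agent.Lib.FusionCore Cfsg.Agent.Lib.PCore Cfsg.Agent.Lib.ResidModel2
  Cfsg.Agent.Lib.ResidModel1 Cfsg.Agent.Lib.ResidModel3 Cfsg.Agent.Lib.ResidModel4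

universe u v

variable {Ω : Type u} [Group Ω] {p : ℕ}

theorem exists_top_factor {H : Type v} [Group H] [Nontrivial H] (hsol : IsPSolvable p H) :
    ∃ N : Subgroup H, N.Normal ∧ N ≠ ⊤ ∧ ((∃ m : ℕ, N.index = p ^ m) ∨ N.index.Coprime p) := by
  obtain ⟨n, K, h0, hlast, -, hnorm, hidx⟩ := hsol
  have key : ∀ i : Fin (n + 1), K i = ⊤ →
      ∃ N : Subgroup H, N.Normal ∧ N ≠ ⊤ ∧ ((∃ m : ℕ, N.index = p ^ m) ∨ N.index.Coprime p) := by
    intro i
    induction i using Fin.induction with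
    | zero =>
      intro h
      rw [h0] at h
      exact absurd h bot_ne_top
    | succ i ih =>
      intro h
      by_cases hi : K i.castSucc = ⊤
      · exact ih hi
      · refine ⟨K i.castSucc, hnorm _, hi, ?_⟩
        have := hidx i
        rw [h, Subgroup.relIndex_top_right] at this
        exact this
  exact key _ hlast

theorem commute_of_pow_coprime {G : Type*} [Group G] {h x : G} {m n : ℕ} (hc : n.Coprime m) (h1 : h ^ m = 1)
    (h2 : Commute (h ^ n) x) : Commute h x := by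
  have e : h = (h ^ n) ^ (Nat.gcdA n m) := by
    have hb := Nat.gcd_eq_gcd_ab n m
    rw [hc] at hb
    have h3 : h ^ ((1 : ℕ) : ℤ) = h ^ ((n : ℤ) * Nat.gcdA n m + (m : ℤ) * Nat.gcdB n m) := by rw [hb]
    rw [zpow_add, zpow_mul, zpow_mul, zpow_natCast h n, zpow_natCast h m, h1, one_zpow, mul_one] at h3
    simpa using h3
  rw [e]
  exact h2.zpow_left _

variable {S : Subgroup Ω} [Finite S] [Fact p.Prime]

/-- `p`-factor: the hyperfocal subgroup maps into the kernel of the quotient. -/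
theorem hyp_le_of_pFactor {E : FusionSystem S} {H : Type v} [Group H] {ι : S →* H}
    (hM : E.IsModel p H ι) (N : Subgroup H) [hNn : N.Normal] (hq : IsPGroup p (H ⧸ N)) :
    E.hyperfocalSubgroup p ≤ (N.comap ι).map S.subtype := by
  obtain ⟨hfin, hreal, -, -⟩ := hM
  have hinj := hreal.1
  rw [hyperfocalSubgroup, Subgroup.closure_le]
  rintro y ⟨P, α, x, hP, hα, rfl⟩
  have hα' : ∀ β : E.autGroup P, β ∈ pResidual p (E.autGroup P) → ∀ x : P,
      QuotientGroup.mk' N (ι ⟨((β : MulAut P) x : P), hP ((β : MulAut P) x).2⟩) =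
        QuotientGroup.mk' N (ι ⟨x, hP x.2⟩) := by
    intro β hβ
    unfold pResidual at hβ
    induction hβ using Subgroup.closure_induction with
    | mem β hβ =>
      intro x
      have hβo : Nat.Coprime (orderOf (β : MulAut P)) p := by
        have : orderOf (β : MulAut P) = orderOf β := Subgroup.orderOf_coe β
        rw [this]
        exact hβ
      have hφ : P.subtype.comp (β : MulAut P).toMonoidHom ∈ E.Hom P :=
        ((mem_autGroup_iff hP).1 β.2).mem_hom (fun x => (afn_coe _ x).symm)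
      obtain ⟨g, hg⟩ := (hreal.2 P hP (P.subtype.comp (β : MulAut P).toMonoidHom)
        (fun x => hP ((β : MulAut P) x).2)).1 hφ
      have hg' : ∀ x : P, ι ⟨((β : MulAut P) x : P), hP ((β : MulAut P) x).2⟩ = g * ι ⟨x, hP x.2⟩ * g⁻¹ := hg
      have hpw := aut_pow (F := E) hP g hg' (orderOf (β : MulAut P)) x
      rw [pow_orderOf_eq_one] at hpw
      have hpw2 : ι ⟨x, hP x.2⟩ = g ^ orderOf (β : MulAut P) * ι ⟨x, hP x.2⟩ * (g ^ orderOf (β : MulAut P))⁻¹ := hpw
      obtain ⟨e, he⟩ := hq (QuotientGroup.mk' N g)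
      have hcomm : Commute (QuotientGroup.mk' N g) (QuotientGroup.mk' N (ι ⟨x, hP x.2⟩)) := by
        refine commute_of_pow_coprime (m := p ^ e) (n := orderOf (β : MulAut P))
          (Nat.Coprime.pow_right e hβo) he ?_
        rw [← map_pow]
        show _ * _ = _ * _
        rw [← map_mul, ← map_mul]
        congr 1
        calc g ^ orderOf (β : MulAut P) * ι ⟨x, hP x.2⟩
            = (g ^ orderOf (β : MulAut P) * ι ⟨x, hP x.2⟩ * (g ^ orderOf (β : MulAut P))⁻¹) * g ^ orderOf (β : MulAut P) := by group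
          _ = ι ⟨x, hP x.2⟩ * g ^ orderOf (β : MulAut P) := by rw [← hpw2]
      rw [hg', map_mul, map_mul, map_inv, hcomm.eq]
      group
    | one =>
      intro x
      rfl
    | mul a b _ _ ha hb =>
      intro x
      have h1 := ha ((b : MulAut P) x)
      have h2 := hb x
      exact h1.trans h2
    | inv a _ ha =>
      intro x
      have h1 := ha ((a : MulAut P)⁻¹ x)
      have e : (a : MulAut P) ((a : MulAut P)⁻¹ x) = x := by simp
      have h2 : QuotientGroup.mk' N (ι ⟨x, hP x.2⟩) =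
          QuotientGroup.mk' N (ι ⟨((a : MulAut P)⁻¹ x : P), hP ((a : MulAut P)⁻¹ x).2⟩) := by
        have e2 : (⟨((a : MulAut P) ((a : MulAut P)⁻¹ x) : P), hP ((a : MulAut P) ((a : MulAut P)⁻¹ x)).2⟩ : S) = ⟨x, hP x.2⟩ :=
          Subtype.ext (by rw [e])
        rw [e2] at h1
        exact h1
      exact h2.symm
  have h1 := hα' α hα x
  have hmemS : (x : Ω)⁻¹ * ((α : MulAut P) x : P) ∈ S := S.mul_mem (S.inv_mem (hP x.2)) (hP ((α : MulAut P) x).2)
  refine ⟨⟨_, hmemS⟩, ?_, rfl⟩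
  rw [SetLike.mem_coe, Subgroup.mem_comap]
  have h2 : (⟨(x : Ω)⁻¹ * ((α : MulAut P) x : P), hmemS⟩ : S) =
      (⟨x, hP x.2⟩ : S)⁻¹ * ⟨((α : MulAut P) x : P), hP ((α : MulAut P) x).2⟩ := rfl
  rw [h2, map_mul, map_inv]
  have h3 : (ι ⟨x, hP x.2⟩ : H ⧸ N) = (ι ⟨((α : MulAut P) x : P), hP ((α : MulAut P) x).2⟩ : H ⧸ N) := h1.symm
  exact QuotientGroup.eq.1 h3

/-- `p'`-factor: the `p'`-residual subsystem has a model with no normal subgroup of index prime to `p`. -/
theorem eq_top_of_pPrimeFactor (hS : IsPGroup p S) {F E : FusionSystem S} (hE : F.IsPPrimeResidual p E)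
    {H : Type v} [Group H] {ι : S →* H} (hM : E.IsModel p H ι) (N : Subgroup H) [hNn : N.Normal]
    (hc : N.index.Coprime p) : N = ⊤ := by
  classical
  obtain ⟨hfin, hreal, ⟨T₀, hT₀⟩, hC⟩ := hM
  haveI := hfin
  have hinj := hreal.1
  have hιN : ∀ s : S, ι s ∈ N := by
    intro s
    obtain ⟨e, he⟩ := hS s
    have h1 : (QuotientGroup.mk' N (ι s)) ^ p ^ e = 1 := by
      rw [← map_pow, ← map_pow, he, map_one, map_one]
    have h2 : (QuotientGroup.mk' N (ι s)) ^ N.index = 1 := pow_card_eq_one'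
    exact (QuotientGroup.eq_one_iff _).1 (eq_one_of_pow_coprime h1 h2 hc)
  let ι₀ : S →* N := ι.codRestrict N hιN
  have hι₀inj : Function.Injective ι₀ := fun a b h => hinj (congrArg Subtype.val h)
  have hT₀N : (T₀ : Subgroup H) ≤ N := by
    rw [hT₀]
    rintro _ ⟨s, rfl⟩
    exact hιN s
  let R : Sylow p N := T₀.subtype hT₀N
  have hR : (R : Subgroup N) = ι₀.range := by
    rw [Sylow.coe_subtype]
    ext y
    rw [Subgroup.mem_subgroupOf, hT₀]
    constructor
    · rintro ⟨s, hs⟩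
      exact ⟨s, Subtype.ext hs⟩
    · rintro ⟨s, rfl⟩
      exact ⟨s, rfl⟩
  have hE₀s : (Cfsg.Agent.Lib.FusionRealSys.realSys ι₀ hι₀inj).IsSaturated p :=
    Cfsg.Agent.Lib.FusionRealSys.realSys_isSaturated hS ι₀ hι₀inj R hR
  have hE₀sub : (Cfsg.Agent.Lib.FusionRealSys.realSys ι₀ hι₀inj).IsSubsystemOf E := by
    rintro P φ ⟨hP, hφ, g, hg⟩
    refine (hreal.2 P hP φ hφ).2 ⟨g, fun x => ?_⟩
    exact congrArg Subtype.val (hg x)
  have hE₀idx : (Cfsg.Agent.Lib.FusionRealSys.realSys ι₀ hι₀inj).HasPrimeToPIndexIn F p := by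
    refine ⟨fun P φ h => hE.2.1.1 P (hE₀sub P h), fun P hP => ?_⟩
    rw [Subgroup.map_le_iff_le_comap, Subgroup.closure_le]
    rintro α ⟨k, hk⟩
    show (α : MulAut P) ∈ (Cfsg.Agent.Lib.FusionRealSys.realSys ι₀ hι₀inj).autGroup P
    have hpow : (α : MulAut P) ^ p ^ k = 1 := by
      have h1 : α ^ p ^ k = 1 := by rw [← hk, pow_orderOf_eq_one]
      exact congrArg Subtype.val h1
    have hαE := Cfsg.Agent.Lib.FusionLimit.mem_of_index hE.2.1 hP α.2 hpow
    have hφ : P.subtype.comp (α : MulAut P).toMonoidHom ∈ E.Hom P :=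
      ((mem_autGroup_iff hP).1 hαE).mem_hom (fun x => (afn_coe _ x).symm)
    obtain ⟨g, hg⟩ := (hreal.2 P hP (P.subtype.comp (α : MulAut P).toMonoidHom)
      (fun x => hP ((α : MulAut P) x).2)).1 hφ
    have hg' : ∀ x : P, ι ⟨((α : MulAut P) x : P), hP ((α : MulAut P) x).2⟩ = g * ι ⟨x, hP x.2⟩ * g⁻¹ := hg
    have horder : orderOf (α : MulAut P) = p ^ k := by
      rw [← hk]
      exact Subgroup.orderOf_coe α
    have hu : ∃ u : ℕ, (α : MulAut P) ^ (N.index * u) = α := by
      by_cases h1 : p ^ k = 1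
      · have h2 : (α : MulAut P) = 1 := by
          rw [h1] at hpow
          simpa using hpow
        exact ⟨0, by rw [h2]; simp⟩
      · have h2 : 1 < p ^ k := by
          have h3 : 0 < p ^ k := pow_pos (Fact.out : p.Prime).pos k
          omega
        obtain ⟨u, -, hu⟩ := Nat.exists_mul_mod_eq_one_of_coprime (Nat.Coprime.pow_right k hc) h2
        refine ⟨u, ?_⟩
        rw [← pow_mod_orderOf, horder, hu, pow_one]
    obtain ⟨u, hu⟩ := hu
    have hgd : g ^ (N.index * u) ∈ N := by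
      have h1 : (QuotientGroup.mk' N g) ^ N.index = 1 := pow_card_eq_one'
      have h2 : QuotientGroup.mk' N (g ^ (N.index * u)) = 1 := by
        rw [map_pow, pow_mul, h1, one_pow]
      exact (QuotientGroup.eq_one_iff _).1 h2
    apply Subgroup.subset_closure
    refine ⟨hP, fun x => hP ((α : MulAut P) x).2, ⟨g ^ (N.index * u), hgd⟩, fun x => ?_⟩
    apply Subtype.ext
    have h1 := aut_pow (F := E) hP g hg' (N.index * u) x
    rw [hu] at h1
    exact h1
  have hEE₀ := hE.2.2 _ hE₀s hE₀idx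
  have hnorm : Subgroup.normalizer (((R : Subgroup N).map N.subtype : Subgroup H) : Set H) ≤ N := by
    intro y hy
    have hRmap : ∀ s : S, ι s ∈ (R : Subgroup N).map N.subtype := fun s =>
      ⟨ι₀ s, by rw [SetLike.mem_coe, hR]; exact ⟨s, rfl⟩, rfl⟩
    have hgS : ∀ x : S, ∃ z : S, ι ⟨z, le_rfl (a := S) z.2⟩ = y * ι ⟨x, le_rfl (a := S) x.2⟩ * y⁻¹ := by
      intro x
      obtain ⟨n, hn, hn2⟩ := (Subgroup.mem_normalizer_iff.1 hy _).1 (hRmap x)
      rw [SetLike.mem_coe, hR] at hn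
      obtain ⟨z, rfl⟩ := hn
      exact ⟨z, hn2⟩
    obtain ⟨α, hαm, hα⟩ := exists_aut hreal (P := S) le_rfl y hgS
    have hφ : S.subtype.comp α.toMonoidHom ∈ E.Hom S :=
      ((mem_autGroup_iff le_rfl).1 hαm).mem_hom (fun x => (afn_coe _ x).symm)
    obtain ⟨hP', hv, n, hnn⟩ := hEE₀ S hφ
    have hn' : ∀ x : S, y * ι x * y⁻¹ = (n : H) * ι x * (n : H)⁻¹ := by
      intro x
      have h1 := hα x
      have h2 : ι ⟨α x, le_rfl (a := S) (α x).2⟩ = (n : H) * ι x * (n : H)⁻¹ :=
        congrArg Subtype.val (hnn x)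
      exact h1.symm.trans h2
    have hkO : (n : H)⁻¹ * y ∈ pCore p H := by
      apply hC
      rw [Subgroup.mem_centralizer_iff]
      intro o ho
      have ho2 : o ∈ (T₀ : Subgroup H) := pCore_le_sylow p T₀ ho
      rw [hT₀] at ho2
      obtain ⟨s, rfl⟩ := ho2
      have h1 := hn' s
      have h2 : y * ι s = (n : H) * ι s * (n : H)⁻¹ * y := by
        rw [← h1]
        group
      calc ι s * ((n : H)⁻¹ * y) = (n : H)⁻¹ * ((n : H) * ι s * (n : H)⁻¹ * y) := by group
        _ = (n : H)⁻¹ * y * ι s := by rw [← h2]; group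
    have hkN : (n : H)⁻¹ * y ∈ N := hT₀N (pCore_le_sylow p T₀ hkO)
    have : y = (n : H) * ((n : H)⁻¹ * y) := by group
    rw [this]
    exact N.mul_mem n.2 hkN
  rw [eq_top_iff, ← Sylow.normalizer_sup_eq_top R]
  exact sup_le hnorm le_rfl

/-- The hyperfocal subgroup of the `p'`-residual subsystem of a system with a `p`-solvable model is proper. -/
theorem hyp_ne (hS : IsPGroup p S) (hbot : S ≠ ⊥) {F E : FusionSystem S} (hE : F.IsPPrimeResidual p E)
    {H : Type v} [Group H] {ι : S →* H} (hM : E.IsModel p H ι) (hsol : IsPSolvable p H) :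
    E.hyperfocalSubgroup p ≠ S := by
  intro heq
  have hinj := hM.2.1.1
  obtain ⟨s, hs⟩ := Subgroup.ne_bot_iff_exists_ne_one.1 hbot
  haveI : Nontrivial H := by
    refine nontrivial_of_ne (ι s) 1 (fun h => hs (hinj ?_))
    rw [h, map_one]
  obtain ⟨N, hNn, hNt, hc⟩ := exists_top_factor hsol
  haveI := hNn
  rcases hc with ⟨m, hm⟩ | hc
  · have hq : IsPGroup p (H ⧸ N) := IsPGroup.of_card hm
    have h1 := hyp_le_of_pFactor hM N hq
    rw [heq] at h1
    have hιN : ∀ s : S, ι s ∈ N := by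
      intro s
      obtain ⟨t, ht, hts⟩ := h1 s.2
      have : t = s := Subtype.ext hts
      rw [← this]
      exact ht
    obtain ⟨hfin, -, ⟨T₀, hT₀⟩, -⟩ := hM
    haveI := hfin
    have hT₀N : (T₀ : Subgroup H) ≤ N := by
      rw [hT₀]
      rintro _ ⟨s, rfl⟩
      exact hιN s
    have hd : N.index ∣ (T₀ : Subgroup H).index := Subgroup.index_dvd_of_le hT₀N
    have hc : (T₀ : Subgroup H).index.Coprime p :=
      ((Nat.Prime.coprime_iff_not_dvd Fact.out).2 T₀.not_dvd_index).symm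
    have h2 : N.index.Coprime p := Nat.Coprime.coprime_dvd_left hd hc
    have h3 : N.index = 1 := by
      rw [hm] at h2 ⊢
      rcases Nat.eq_zero_or_pos m with rfl | hmpos
      · simp
      · exfalso
        have h4 : (p ^ m).Coprime (p ^ m) := Nat.Coprime.pow_right m h2
        have h5 : p ^ m = 1 := by simpa using h4
        have h6 : p ∣ p ^ m := dvd_pow_self p hmpos.ne'
        rw [h5] at h6
        exact (Fact.out : p.Prime).one_lt.ne' (Nat.dvd_one.1 h6)
    exact hNt (Subgroup.index_eq_one.1 h3)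
  · exact hNt (eq_top_of_pPrimeFactor hS hE hM N hc)

theorem backward_aux : ∀ (n : ℕ) (S : Subgroup Ω) [Finite S], Nat.card S = n → IsPGroup p S →
    ∀ (F : FusionSystem S), F.IsSaturated p → ∀ (G : Type v) [Group G] (ι : S →* G), F.IsModel p G ι →
      IsPSolvable p G → F.HasTerminatingResidualSeries p := by
  intro n
  induction n using Nat.strong_induction_on with
  | _ n ih =>
    intro S _ hn hS F hF G _ ι hG hsol
    by_cases hbot : S = ⊥
    · exact .trivial F p hbot
    obtain ⟨E, hE⟩ := Cfsg.Agent.S5140.result p hS F hF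
    have hEn := normal_of_residual hS hF hE
    obtain ⟨H, ι₁, hHn, hι₁, hE₁⟩ := model_descent hS hEn le_rfl hG
    have hsolH : IsPSolvable p H := Cfsg.Agent.Lib.PSolv.isPSolvable_subgroup hsol H
    have hne := hyp_ne hS hbot hE hE₁ hsolH
    have hTS : E.hyperfocalSubgroup p ≤ S := Cfsg.Agent.Lib.FusionLimit.hyp_le E
    obtain ⟨D, ⟨hDs, hDi⟩, -⟩ := Cfsg.Agent.S5113.result p hS E hE.1 _ hTS le_rfl
    have hDn := normal_of_pResidual hS hE.1 hDs hDi
    obtain ⟨H₂, ι₂, -, -, hD₂⟩ := model_descent hS hDn hTS hE₁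
    have hsol₂ : IsPSolvable p H₂ := Cfsg.Agent.Lib.PSolv.isPSolvable_subgroup hsolH H₂
    haveI : Finite (E.hyperfocalSubgroup p) := finite_of_le hTS
    have hlt : Nat.card (E.hyperfocalSubgroup p) < n := by
      rw [← hn]
      refine lt_of_le_of_ne (Subgroup.card_le_of_le hTS) (fun h => hne ?_)
      exact Subgroup.eq_of_le_of_card_ge hTS h.ge
    exact .step F E p D hE ⟨hDs, hDi⟩ (ih _ hlt _ rfl (hS.to_le hTS) D hDs _ ι₂ hD₂ hsol₂)

end Cfsg.Agent.Lib.ResidModel5
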