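import Mathlib
import Cfsg.Agent.Lib.RangeStruct

/-!
# Linear characters of `N/C` and the characters induced from them

`N = N(P)`, `C = C(P) = P × K`.  The linear characters of `N/C` induce to `π_λ`, and `π_λ(c) = 1` for `c ∈ C` with
`r c ≠ 1`.
-/

set_option autoImplicit false
set_option linter.style.haveILetI false
set_option linter.unusedSectionVars false
set_option linter.unusedVariables false

namespace Cfsg.Agent.Lib.RigA

open Cfsg Cfsg.Agent.Lib.CharBasic Subgroup Cfsg.Agent.Lib.DefectOne Cfsg.Agent.Lib.CharInd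
open Cfsg.Agent.Lib.TICent
open scoped ComplexConjugate

section Dual

variable {A : Type*} [Group A] [Finite A]

theorem finite_hom (hc : ∀ a b : A, a * b = b * a) : Finite (A →* ℂˣ) := by
  letI : CommGroup A := { (inferInstance : Group A) with mul_comm := hc }
  exact inferInstance

theorem card_hom (hc : ∀ a b : A, a * b = b * a) : Nat.card (A →* ℂˣ) = Nat.card A := by
  letI : CommGroup A := { (inferInstance : Group A) with mul_comm := hc }
  exact CommGroup.card_monoidHom_of_hasEnoughRootsOfUnity A ℂ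

theorem exists_hom_ne (hc : ∀ a b : A, a * b = b * a) {a : A} (ha : a ≠ 1) : ∃ f : A →* ℂˣ, f a ≠ 1 := by
  letI : CommGroup A := { (inferInstance : Group A) with mul_comm := hc }
  exact CommGroup.exists_apply_ne_one_of_hasEnoughRootsOfUnity A ℂ ha

theorem sum_hom_ne [Fintype (A →* ℂˣ)] (hc : ∀ a b : A, a * b = b * a) {a : A} (ha : a ≠ 1) :
    ∑ f : A →* ℂˣ, ((f a : ℂˣ) : ℂ) = 0 := by
  obtain ⟨φ, hφ⟩ := exists_hom_ne hc ha
  have h1 : ∑ f : A →* ℂˣ, ((f a : ℂˣ) : ℂ) = ∑ f : A →* ℂˣ, (((φ * f) a : ℂˣ) : ℂ) :=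
    (Fintype.sum_equiv (Equiv.mulLeft φ) _ _ (fun f => rfl)).symm
  have h2 : ∀ f : A →* ℂˣ, (((φ * f) a : ℂˣ) : ℂ) = ((φ a : ℂˣ) : ℂ) * ((f a : ℂˣ) : ℂ) := by
    intro f
    simp
  simp_rw [h2, ← Finset.mul_sum] at h1
  have h3 : (1 - ((φ a : ℂˣ) : ℂ)) * ∑ f : A →* ℂˣ, ((f a : ℂˣ) : ℂ) = 0 := by
    rw [sub_mul, one_mul, ← h1, sub_self]
  rcases mul_eq_zero.1 h3 with h4 | h4
  · exfalso
    apply hφ
    apply Units.ext
    rw [Units.val_one]
    exact (sub_eq_zero.1 h4).symm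
  · exact h4

theorem sum_hom_eq [Fintype (A →* ℂˣ)] (hc : ∀ a b : A, a * b = b * a) (a : A) :
    [Decidable (a = 1)] → ∑ f : A →* ℂˣ, ((f a : ℂˣ) : ℂ) = if a = 1 then (Nat.card A : ℂ) else 0 := by
  intro _
  split_ifs with h
  · subst h
    simp only [map_one, Units.val_one, Finset.sum_const, Finset.card_univ, nsmul_eq_mul, mul_one]
    rw [← Nat.card_eq_fintype_card, card_hom hc]
  · exact sum_hom_ne hc h

end Dual

variable {G : Type*} [Group G] [Fintype G] {p : ℕ} {P C : Subgroup G}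

/-- `C` inside `N`. -/
abbrev cN (P C : Subgroup G) : Subgroup ↥(normalizer (P : Set G)) := C.subgroupOf (normalizer (P : Set G))

/-- `N/C`. -/
abbrev QQ (P C : Subgroup G) [(cN P C).Normal] : Type _ := ↥(normalizer (P : Set G)) ⧸ cN P C

section Lam

variable [(cN P C).Normal]

/-- The linear character of `N` given by a linear character of `N/C`. -/
def lam (l : QQ P C →* ℂˣ) : ↥(normalizer (P : Set G)) → ℂ :=
  fun x => ((l (QuotientGroup.mk x) : ℂˣ) : ℂ)

theorem isIrr_lam (l : QQ P C →* ℂˣ) : IsIrrCharacter ↥(normalizer (P : Set G)) (lam l) :=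
  isIrrCharacter_of_hom (l.comp (QuotientGroup.mk' (cN P C)))

theorem lam_of_mem (l : QQ P C →* ℂˣ) {x : ↥(normalizer (P : Set G))} (hx : (x : G) ∈ C) : lam l x = 1 := by
  unfold lam
  have h1 : (QuotientGroup.mk x : QQ P C) = 1 := (QuotientGroup.eq_one_iff x).2 hx
  rw [h1, map_one, Units.val_one]

theorem lam_mul (l : QQ P C →* ℂˣ) (x y : ↥(normalizer (P : Set G))) : lam l (x * y) = lam l x * lam l y := by
  unfold lam
  rw [QuotientGroup.mk_mul, map_mul, Units.val_mul]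

theorem lam_one (l : QQ P C →* ℂˣ) : lam l 1 = 1 := by
  unfold lam
  rw [QuotientGroup.mk_one, map_one, Units.val_one]

theorem lam_conj (l : QQ P C →* ℂˣ) (x : ↥(normalizer (P : Set G))) : conj (lam l x) = lam l x⁻¹ :=
  char_conj_eq_inv (IsIrrCharacter.isCharacter (isIrr_lam l)) x

/-- The induced character. -/
noncomputable def Pi (l : QQ P C →* ℂˣ) : G → ℂ := indFun (normalizer (P : Set G)) (lam l)

theorem isChar_Pi (l : QQ P C →* ℂˣ) : IsCharacter G (Pi l) :=
  indFun_isCharacter _ (IsIrrCharacter.isCharacter (isIrr_lam l))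

theorem Pi_one (l : QQ P C →* ℂˣ) : Pi l 1 = ((normalizer (P : Set G)).index : ℂ) := by
  unfold Pi
  rw [indFun_one, lam_one, mul_one]

/-- Vanishing off the conjugates of `N`. -/
theorem Pi_eq_zero (l : QQ P C →* ℂˣ) {g : G} (h : ∀ x : G, x⁻¹ * g * x ∉ normalizer (P : Set G)) : Pi l g = 0 :=
  indFun_eq_zero_of_not_conj _ _ h

variable [Fintype ↥(normalizer (P : Set G))]

/-- The multiplicities. -/
def IsM (m : (QQ P C →* ℂˣ) → IrrCharacter G → ℕ) : Prop :=
  ∀ (l : QQ P C →* ℂˣ) (χ : IrrCharacter G),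
    classInner (lam l) (fun x : ↥(normalizer (P : Set G)) => (χ : G → ℂ) x) = (m l χ : ℂ)

theorem exists_m : ∃ m : (QQ P C →* ℂˣ) → IrrCharacter G → ℕ, IsM m := by
  have h : ∀ (l : QQ P C →* ℂˣ) (χ : IrrCharacter G), ∃ n : ℕ,
      classInner (lam l) (fun x : ↥(normalizer (P : Set G)) => (χ : G → ℂ) x) = n :=
    fun l χ => classInner_char_char (IsIrrCharacter.isCharacter (isIrr_lam l))
      (isCharacter_restrict _ (IsIrrCharacter.isCharacter χ.2))
  choose m hm using h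
  exact ⟨m, hm⟩

theorem inner_Pi {m : (QQ P C →* ℂˣ) → IrrCharacter G → ℕ} (hm : IsM m)
    (l : QQ P C →* ℂˣ) (χ : IrrCharacter G) : classInner (Pi l) (χ : G → ℂ) = (m l χ : ℂ) := by
  unfold Pi
  rw [CharInd.frobenius _ _ (isClassFunction_of_isCharacter (IsIrrCharacter.isCharacter χ.2)), hm]

theorem Pi_eq_sum {m : (QQ P C →* ℂˣ) → IrrCharacter G → ℕ} (hm : IsM m)
    (l : QQ P C →* ℂˣ) (g : G) : Pi l g = ∑ χ : IrrCharacter G, (m l χ : ℂ) * (χ : G → ℂ) g := by
  rw [eval_eq_sum (isClassFunction_of_isCharacter (isChar_Pi l)) g]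
  refine Finset.sum_congr rfl fun χ _ => ?_
  rw [inner_Pi hm]

/-- Degree sum. -/
theorem sum_m_degree {m : (QQ P C →* ℂˣ) → IrrCharacter G → ℕ} (hm : IsM m)
    (l : QQ P C →* ℂˣ) :
    ∑ χ : IrrCharacter G, m l χ * charDegree (χ : G → ℂ) = (normalizer (P : Set G)).index := by
  have h := Pi_eq_sum hm l 1
  rw [Pi_one] at h
  have h2 : ∀ χ : IrrCharacter G, (χ : G → ℂ) 1 = (charDegree (χ : G → ℂ) : ℂ) := fun χ => by
    obtain ⟨d, hd⟩ := isCharacter_one_eq (IsIrrCharacter.isCharacter χ.2)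
    unfold charDegree
    rw [hd]
    simp
  simp_rw [h2] at h
  exact_mod_cast h.symm

/-- Fourier inversion on `N/C`. -/
theorem sum_inner_lam [Fintype (QQ P C →* ℂˣ)] [Fintype ↥C] (hQ : ∀ a b : QQ P C, a * b = b * a)
    (hCN : C ≤ normalizer (P : Set G)) (ψ : ↥(normalizer (P : Set G)) → ℂ) (x₀ : ↥(normalizer (P : Set G))) :
    ∑ l : QQ P C →* ℂˣ, classInner (lam l) ψ * conj (lam l x₀) =
      (Nat.card C : ℂ)⁻¹ * ∑ c : ↥C, conj (ψ (x₀ * ⟨c, hCN c.2⟩)) := by
  classical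
  have hC0 : (Nat.card C : ℂ) ≠ 0 := by exact_mod_cast Nat.card_pos.ne'
  have hQ0 : (Nat.card (QQ P C) : ℂ) ≠ 0 := by exact_mod_cast Nat.card_pos.ne'
  have hcard : (Nat.card ↥(normalizer (P : Set G)) : ℂ) = Nat.card C * Nat.card (QQ P C) := by
    have h1 := Subgroup.card_mul_index (cN P C)
    have h2 : Nat.card (cN P C) = Nat.card C := Nat.card_congr (Subgroup.subgroupOfEquivOfLe hCN).toEquiv
    rw [h2] at h1
    rw [← h1]
    push_cast
    rfl
  have hN0 : (Nat.card ↥(normalizer (P : Set G)) : ℂ) ≠ 0 := by exact_mod_cast Nat.card_pos.ne'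
  unfold classInner
  have h1 : ∀ l : QQ P C →* ℂˣ, ((Nat.card ↥(normalizer (P : Set G)) : ℂ)⁻¹ *
      ∑ x, lam l x * conj (ψ x)) * conj (lam l x₀) =
      (Nat.card ↥(normalizer (P : Set G)) : ℂ)⁻¹ * ∑ x, lam l (x₀⁻¹ * x) * conj (ψ x) := by
    intro l
    rw [mul_assoc, Finset.sum_mul]
    congr 1
    refine Finset.sum_congr rfl fun x _ => ?_
    rw [lam_conj, lam_mul]
    ring
  rw [Finset.sum_congr rfl fun l _ => h1 l, ← Finset.mul_sum, Finset.sum_comm]
  simp_rw [← Finset.sum_mul]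
  have h2 : ∀ x : ↥(normalizer (P : Set G)), ∑ l : QQ P C →* ℂˣ, lam l (x₀⁻¹ * x) =
      if (QuotientGroup.mk (x₀⁻¹ * x) : QQ P C) = 1 then (Nat.card (QQ P C) : ℂ) else 0 := by
    intro x
    exact sum_hom_eq hQ _
  simp_rw [h2]
  have h3 : ∑ x : ↥(normalizer (P : Set G)), (if (QuotientGroup.mk (x₀⁻¹ * x) : QQ P C) = 1 then (Nat.card (QQ P C) : ℂ) else 0) * conj (ψ x) =
      ∑ x : ↥(normalizer (P : Set G)), (if (x : G) ∈ C then (Nat.card (QQ P C) : ℂ) else 0) * conj (ψ (x₀ * x)) := by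
    symm
    refine Fintype.sum_equiv (Equiv.mulLeft x₀) _ _ fun x => ?_
    simp only [Equiv.coe_mulLeft, inv_mul_cancel_left]
    have h4 : (QuotientGroup.mk x : QQ P C) = 1 ↔ (x : G) ∈ C := QuotientGroup.eq_one_iff x
    by_cases h5 : (x : G) ∈ C
    · rw [if_pos h5, if_pos (h4.2 h5)]
    · rw [if_neg h5, if_neg (fun h => h5 (h4.1 h))]
  rw [h3]
  have h6 : ∑ x : ↥(normalizer (P : Set G)), (if (x : G) ∈ C then (Nat.card (QQ P C) : ℂ) else 0) * conj (ψ (x₀ * x)) =
      (Nat.card (QQ P C) : ℂ) * ∑ c : ↥C, conj (ψ (x₀ * ⟨c, hCN c.2⟩)) := by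
    rw [Finset.mul_sum]
    have h7 : ∀ x : ↥(normalizer (P : Set G)), (if (x : G) ∈ C then (Nat.card (QQ P C) : ℂ) else 0) * conj (ψ (x₀ * x)) =
        if (x : G) ∈ C then (Nat.card (QQ P C) : ℂ) * conj (ψ (x₀ * x)) else 0 := by
      intro x
      split_ifs <;> simp
    simp_rw [h7]
    rw [← Finset.sum_filter]
    symm
    refine Finset.sum_bij (fun c _ => (⟨c, hCN c.2⟩ : ↥(normalizer (P : Set G)))) ?_ ?_ ?_ ?_
    · intro c _
      simp
    · intro a _ b _ hab
      have := congrArg Subtype.val hab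
      exact Subtype.ext this
    · intro b hb
      exact ⟨⟨b, by simpa using hb⟩, Finset.mem_univ _, rfl⟩
    · intro a _
      rfl
  rw [h6, hcard]
  field_simp

/-- The `p`-elements of `N` are in `P`. -/
theorem mem_of_pow_of_normalizer [Fact p.Prime] (hpg : IsPGroup p P) (hidx : ¬ p ∣ P.index) {y : G}
    (hy : y ∈ normalizer (P : Set G)) {k : ℕ} (hk : y ^ p ^ k = 1) : y ∈ P := by
  obtain ⟨S, hS⟩ := hpg.exists_le_sylow
  have hSP : (S : Subgroup G) = P := by
    apply le_antisymm _ hS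
    have h1 := Subgroup.relIndex_mul_index hS
    have h2 : P.relIndex (S : Subgroup G) = 1 := by
      have h3 : P.relIndex (S : Subgroup G) ∣ Nat.card (S : Subgroup G) := by
        have := Subgroup.card_mul_index (P.subgroupOf (S : Subgroup G))
        exact Dvd.intro_left _ this
      obtain ⟨n, hn⟩ := IsPGroup.iff_card.1 S.isPGroup'
      rw [hn] at h3
      obtain ⟨l, -, hl⟩ := (Nat.dvd_prime_pow (Fact.out : p.Prime)).1 h3
      cases l with
      | zero => simpa using hl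
      | succ l =>
        exfalso
        apply hidx
        rw [← h1, hl]
        exact Dvd.dvd.mul_right (dvd_pow_self p (Nat.succ_ne_zero l)) _
    exact Subgroup.relIndex_eq_one.1 h2
  have hZ : IsPGroup p (zpowers y) := by
    rw [IsPGroup.iff_orderOf]
    intro g
    obtain ⟨l, -, hl⟩ := (Nat.dvd_prime_pow (Fact.out : p.Prime)).1 (orderOf_dvd_of_pow_eq_one hk)
    have h1 : orderOf g ∣ orderOf y := by
      rw [← Nat.card_zpowers y]
      exact orderOf_dvd_natCard g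
    rw [hl] at h1
    obtain ⟨m, -, hm⟩ := (Nat.dvd_prime_pow (Fact.out : p.Prime)).1 h1
    exact ⟨m, hm⟩
  have h2 := hZ.inf_normalizer_sylow S
  have h4 : y ∈ normalizer ((S : Subgroup G) : Set G) := by
    rw [hSP]
    exact hy
  have h3 : y ∈ zpowers y ⊓ (S : Subgroup G) := by
    rw [← h2]
    exact Subgroup.mem_inf.2 ⟨mem_zpowers y, h4⟩
  rw [← hSP]
  exact (Subgroup.mem_inf.1 h3).2

section HypPart

variable {r : ↥C →* ↥P} {e₀ : ℕ} (H : Hyp p P C r e₀)
include H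

/-- The conjugate of an element outside the kernel of `r` is in `N` only for `x ∈ N`. -/
theorem mem_normalizer_of_conj (hidx : ¬ p ∣ P.index) (c : ↥C) (hc : r c ≠ 1) {x : G}
    (hx : x⁻¹ * c * x ∈ normalizer (P : Set G)) : x ∈ normalizer (P : Set G) := by
  haveI : Fact p.Prime := ⟨H.prime⟩
  set c₀ : G := ((r c : ↥P) : G) with hc₀
  have hc₀P : c₀ ∈ P := (r c).2
  have hc₀1 : c₀ ≠ 1 := fun h => hc (Subtype.ext h)
  have hpow : c₀ = (c : G) ^ e₀ := H.pow c
  have hconj : (x⁻¹ * c * x) ^ e₀ = x⁻¹ * c₀ * x := by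
    rw [hpow]
    have := conj_pow (a := x⁻¹) (b := (c : G)) (i := e₀)
    simpa using this
  have h1 : x⁻¹ * c₀ * x ∈ normalizer (P : Set G) := by
    rw [← hconj]
    exact Subgroup.pow_mem _ hx _
  obtain ⟨k, hk⟩ := (IsPGroup.iff_orderOf.1 H.pgroup) (r c)
  have h2 : c₀ ^ p ^ k = 1 := by
    have h3 := pow_orderOf_eq_one (r c)
    rw [hk] at h3
    exact congrArg Subtype.val h3
  have h4 : (x⁻¹ * c₀ * x) ^ p ^ k = 1 := by
    have := conj_pow (a := x⁻¹) (b := c₀) (i := p ^ k)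
    rw [h2] at this
    simpa using this
  have h5 := mem_of_pow_of_normalizer H.pgroup hidx h1 h4
  have h6 : c₀ ^ e₀ = c₀ := by
    have h7 := H.pow ⟨c₀, H.le hc₀P⟩
    have h8 : r ⟨c₀, H.le hc₀P⟩ = ⟨c₀, hc₀P⟩ := H.id ⟨c₀, hc₀P⟩
    rw [h8] at h7
    exact h7.symm
  exact H.mem_normalizer (H.le hc₀P) (H.le h5) (by rw [h6]; exact hc₀1)

/-- The values of the induced character on `C`. -/
theorem Pi_C (hidx : ¬ p ∣ P.index) (l : QQ P C →* ℂˣ) (c : ↥C) (hc : r c ≠ 1) : Pi l (c : G) = 1 := by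
  classical
  unfold Pi
  rw [indFun_apply]
  have hN0 : (Nat.card ↥(normalizer (P : Set G)) : ℂ) ≠ 0 := by exact_mod_cast Nat.card_pos.ne'
  have h1 : ∀ x : G, extendByZero (normalizer (P : Set G)) (lam l) (x⁻¹ * c * x) =
      if x ∈ normalizer (P : Set G) then 1 else 0 := by
    intro x
    by_cases hx : x ∈ normalizer (P : Set G)
    · rw [if_pos hx]
      have h2 : x⁻¹ * c * x ∈ C := H.conj_mem ⟨x, hx⟩ c
      have h3 : x⁻¹ * c * x ∈ normalizer (P : Set G) := H.le_normalizer h2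
      rw [extendByZero_of_mem _ _ h3]
      exact lam_of_mem l h2
    · rw [if_neg hx]
      apply extendByZero_of_not_mem
      exact fun h => hx (mem_normalizer_of_conj H hidx c hc h)
  simp_rw [h1]
  rw [Finset.sum_boole]
  have h2 : (Finset.univ.filter (fun x : G => x ∈ normalizer (P : Set G))).card = Nat.card ↥(normalizer (P : Set G)) := by
    rw [Nat.card_eq_fintype_card]
    exact (Fintype.card_of_subtype _ (by simp)).symm
  rw [h2]
  field_simp

/-- The average of the induced character. -/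
theorem avg_Pi [Fintype r.ker] (hidx : ¬ p ∣ P.index) (l : QQ P C →* ℂˣ) {z : ↥P} (hz : z ≠ 1) :
    TICent.avg r H (Pi l) z = 1 := by
  classical
  unfold TICent.avg
  have hK0 : (Nat.card r.ker : ℂ) ≠ 0 := by exact_mod_cast Nat.card_pos.ne'
  have h1 : ∀ k : r.ker, Pi l ((z : G) * ((k : ↥C) : G)) = 1 := by
    intro k
    have h2 := Pi_C H hidx l (⟨z, H.le z.2⟩ * (k : ↥C)) (by
      rw [map_mul, H.id z, (k.2 : r (k : ↥C) = 1), mul_one]
      exact hz)
    simpa using h2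
  simp_rw [h1]
  rw [Finset.sum_const, Finset.card_univ, ← Nat.card_eq_fintype_card, nsmul_eq_mul]
  field_simp

/-- The average of a sum. -/
theorem avg_sum [Fintype r.ker] {ι : Type*} (s : Finset ι) (c : ι → ℂ) (φ : ι → G → ℂ) (ψ : G → ℂ)
    (h : ∀ g, ψ g = ∑ i ∈ s, c i * φ i g) (z : ↥P) :
    TICent.avg r H ψ z = ∑ i ∈ s, c i * TICent.avg r H (φ i) z := by
  unfold TICent.avg
  simp_rw [h]
  rw [Finset.sum_comm, Finset.mul_sum]
  refine Finset.sum_congr rfl fun i _ => ?_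
  rw [← Finset.mul_sum]
  ring

end HypPart

end Lam

end Cfsg.Agent.Lib.RigA
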