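import Mathlib
import Cfsg.Agent.Lib.RigA
import Cfsg.Agent.Lib.RangeP0

/-!
# The basic equation for the induced characters `π_λ`
-/

set_option autoImplicit false
set_option linter.style.haveILetI false
set_option linter.unusedSectionVars false
set_option linter.unusedVariables false

namespace Cfsg.Agent.Lib.RigB

open Cfsg Cfsg.Agent.Lib.CharBasic Subgroup Cfsg.Agent.Lib.DefectOne Cfsg.Agent.Lib.CharInd
open Cfsg.Agent.Lib.TICent Cfsg.Agent.Lib.RigA Cfsg.Agent.Lib.RangeStruct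
open scoped ComplexConjugate

variable {G : Type*} [Group G] [Fintype G] [DecidableEq G] {p : ℕ} {P C : Subgroup G} {r : ↥C →* ↥P} {e₀ : ℕ}

/-- The data of the structure theorem. -/
structure Dat (p : ℕ) (P C : Subgroup G) (r : ↥C →* ↥P) (t : ℕ) [Fintype C] where
  a : (↥P →* ℂˣ) → IrrCharacter G → ℕ
  w : IrrCharacter G → ℤ
  σ : ℤ
  ξ : NT P → IrrCharacter G
  ha : ∀ (f : ↥P →* ℂˣ) (χ : IrrCharacter G), classInner (chi (f.comp r)) (fun c : ↥C => (χ : G → ℂ) c) = (a f χ : ℂ)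
  hσ : σ = 1 ∨ σ = -1
  hform1 : ∀ (f : NT P) (χ : IrrCharacter G), χ ≠ ξ f → (a f.1 χ : ℤ) - a 1 χ = w χ
  hform2 : ∀ (f : NT P), (a f.1 (ξ f) : ℤ) - a 1 (ξ f) = σ
  hw0 : ∀ f, w (ξ f) = 0
  hξeq : ∀ f g : NT P, ξ f = ξ g ↔ ∃ x : normalizer (P : Set G), x • f = g
  hnorm : ∑ χ, (w χ) ^ 2 = t
  hval : ∀ χ, w χ = 0 ∨ w χ = 1 ∨ w χ = -1
  hreg : ∀ (f : NT P) (g : G), ¬ p ∣ orderOf g →
        ∑ χ : IrrCharacter G, (w χ : ℂ) * (χ : G → ℂ) g + (σ : ℂ) * ((ξ f : IrrCharacter G) : G → ℂ) g = 0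
  hrange : Nat.card (Set.range ξ) * t = p - 1

section Main

variable (H : Cfsg.Agent.Lib.TICent.Hyp p P C r e₀) [Fintype C] [Fintype P] [Fintype r.ker]
include H

theorem exists_dat {M : Ideal AlgInt} {t : ℕ} (hcard : Nat.card P = p) (hidx : ¬ p ∣ P.index) (hM : IsPModular p M)
    (hN : Nat.card (normalizer (P : Set G)) = Nat.card C * t) : Nonempty (Dat p P C r t) := by
  classical
  obtain ⟨a, ha⟩ := exists_a H
  obtain ⟨w, σ, ξ, hσ, hform, hw0, hξeq, hnorm, hval, hreg, hrange⟩ := struct_main H hcard hidx hM hN ha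
  refine ⟨⟨a, w, σ, ξ, ha, hσ, ?_, ?_, hw0, hξeq, hnorm, hval, hreg, hrange⟩⟩
  · intro f χ hχ
    have := hform f χ
    rw [if_neg hχ, mul_zero, add_zero] at this
    exact this
  · intro f
    have := hform f (ξ f)
    rw [if_pos rfl, hw0, zero_add, mul_one] at this
    exact this

theorem comm_P : ∀ u ∈ P, ∀ v ∈ P, u * v = v * u := fun u hu v hv => (H.comm_P hu hv).symm

/-- `C` is normal in `N`. -/
theorem cN_normal : (cN P C).Normal := by
  constructor
  intro c hc x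
  have h1 := H.conj_mem x⁻¹ ⟨c, hc⟩
  simpa [Subgroup.mem_subgroupOf] using h1

/-- `N/C` is commutative. -/
theorem comm_QQ [(cN P C).Normal] (hcard : Nat.card P = p) (a b : QQ P C) : a * b = b * a := by
  classical
  have hp := H.prime
  obtain ⟨x, rfl⟩ := QuotientGroup.mk_surjective a
  obtain ⟨y, rfl⟩ := QuotientGroup.mk_surjective b
  haveI : Fact p.Prime := ⟨hp⟩
  have hnt : Nontrivial ↥P := by
    rw [← Finite.one_lt_card_iff_nontrivial, hcard]
    exact hp.one_lt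
  obtain ⟨z, hz⟩ := exists_ne (1 : ↥P)
  have hz' : (z : G) ≠ 1 := fun h => hz (Subtype.ext h)
  have hzp := Cfsg.Agent.Lib.SmallGroups2.zpowers_eq_of_mem_of_ne_one hp hcard z.2 hz'
  have hact : ∀ g : ↥(normalizer (P : Set G)), ∃ i : ℤ, (g : G) * z * (g : G)⁻¹ = (z : G) ^ i := by
    intro g
    have h1 : (g : G) * z * (g : G)⁻¹ ∈ P := (mem_normalizer_iff.1 g.2 z).1 z.2
    have h1' : (g : G) * z * (g : G)⁻¹ ∈ zpowers (z : G) := by
      rw [hzp]
      exact h1
    obtain ⟨i, hi⟩ := Subgroup.mem_zpowers_iff.1 h1'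
    exact ⟨i, hi.symm⟩
  obtain ⟨i, hi⟩ := hact x
  obtain ⟨j, hj⟩ := hact y
  have hconj : ∀ (g : G) (k : ℤ), g * (z : G) ^ k * g⁻¹ = (g * z * g⁻¹) ^ k := by
    intro g k
    rw [conj_zpow]
  have h1 : ((x : G) * y) * z * ((x : G) * y)⁻¹ = (z : G) ^ (i * j) := by
    calc ((x : G) * y) * z * ((x : G) * y)⁻¹ = (x : G) * ((y : G) * z * (y : G)⁻¹) * (x : G)⁻¹ := by group
      _ = (z : G) ^ (i * j) := by rw [hj, hconj, hi, zpow_mul]
  have h2 : ((y : G) * x) * z * ((y : G) * x)⁻¹ = (z : G) ^ (i * j) := by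
    calc ((y : G) * x) * z * ((y : G) * x)⁻¹ = (y : G) * ((x : G) * z * (x : G)⁻¹) * (y : G)⁻¹ := by group
      _ = (z : G) ^ (j * i) := by rw [hi, hconj, hj, zpow_mul]
      _ = (z : G) ^ (i * j) := by rw [mul_comm]
  have h3 : ((y : G) * x)⁻¹ * ((x : G) * y) ∈ centralizer ({(z : G)} : Set G) := by
    rw [mem_centralizer_singleton_iff]
    have h4 := h1.trans h2.symm
    have : ((x : G) * y) * z = (z : G) ^ (i * j) * ((x : G) * y) := by
      rw [← h1]; group
    have h5 : ((y : G) * x) * z = (z : G) ^ (i * j) * ((y : G) * x) := by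
      rw [← h2]; group
    calc ((y : G) * x)⁻¹ * ((x : G) * y) * z = ((y : G) * x)⁻¹ * (((x : G) * y) * z) := by group
      _ = ((y : G) * x)⁻¹ * ((z : G) ^ (i * j) * ((x : G) * y)) := by rw [this]
      _ = ((y : G) * x)⁻¹ * (z : G) ^ (i * j) * ((x : G) * y) := by group
      _ = (z : G) * ((y : G) * x)⁻¹ * ((x : G) * y) := by
          have h6 : ((y : G) * x)⁻¹ * (z : G) ^ (i * j) = (z : G) * ((y : G) * x)⁻¹ := by
            rw [inv_mul_eq_iff_eq_mul, ← mul_assoc, h5]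
            group
          rw [h6]
      _ = _ := by group
  rw [H.star _ z.2 hz'] at h3
  have h7 : (QuotientGroup.mk (y * x)⁻¹ * QuotientGroup.mk (x * y) : QQ P C) = 1 := by
    rw [← QuotientGroup.mk_mul]
    exact (QuotientGroup.eq_one_iff _).2 h3
  have h8 : (QuotientGroup.mk (y * x) : QQ P C)⁻¹ * QuotientGroup.mk (x * y) = 1 := by
    rwa [← QuotientGroup.mk_inv]
  have h9 := inv_mul_eq_one.1 h8
  simpa only [QuotientGroup.mk_mul] using h9.symm

end Main

section Eq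

variable {t : ℕ} [Fintype C] [Fintype P] [Fintype r.ker] [Fintype (↥P →* ℂˣ)]

open Classical in
/-- The exceptional part of the value. -/
noncomputable def ex (D : Dat p P C r t) (χ : IrrCharacter G) (z : ↥P) : ℂ :=
  ∑ f : NT P, if χ = D.ξ f then chi f.1 z else 0

variable (H : Cfsg.Agent.Lib.TICent.Hyp p P C r e₀)
include H

open Classical in
theorem sum_NT {z : ↥P} (hz : z ≠ 1) : ∑ f : NT P, chi f.1 z = -1 := by
  have h0 := sum_dual (comm_P H) hz
  rw [Fintype.sum_eq_add_sum_subtype_ne _ (1 : ↥P →* ℂˣ)] at h0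
  have h1 : chi (1 : ↥P →* ℂˣ) z = 1 := by simp [chi]
  rw [h1] at h0
  linear_combination h0

open Classical in
theorem avg_expand (D : Dat p P C r t) (χ : IrrCharacter G) {z : ↥P} (hz : z ≠ 1) :
    TICent.avg r H (χ : G → ℂ) z = -(D.w χ : ℂ) + D.σ * ex D χ z := by
  have hc := comm_P H
  rw [avg_eq_sum H D.ha χ z]
  have h0 := sum_dual hc hz
  have h1 : ∑ f : ↥P →* ℂˣ, (D.a f χ : ℂ) * chi f z = ∑ f : ↥P →* ℂˣ, ((D.a f χ : ℂ) - D.a 1 χ) * chi f z := by
    simp_rw [sub_mul]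
    rw [Finset.sum_sub_distrib, ← Finset.mul_sum, h0, mul_zero, sub_zero]
  rw [h1, Fintype.sum_eq_add_sum_subtype_ne _ (1 : ↥P →* ℂˣ), sub_self, zero_mul, zero_add]
  have h2 : ∀ f : NT P, ((D.a f.1 χ : ℂ) - D.a 1 χ) * chi f.1 z =
      (D.w χ : ℂ) * chi f.1 z + D.σ * (if χ = D.ξ f then chi f.1 z else 0) := by
    intro f
    by_cases h : χ = D.ξ f
    · rw [if_pos h]
      subst h
      have h3 := D.hform2 f
      have h4 : ((D.a f.1 (D.ξ f) : ℂ) - D.a 1 (D.ξ f)) = (D.σ : ℂ) := by exact_mod_cast h3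
      rw [h4, D.hw0]
      simp
    · rw [if_neg h, mul_zero, add_zero]
      have h3 := D.hform1 f χ h
      have h4 : ((D.a f.1 χ : ℂ) - D.a 1 χ) = (D.w χ : ℂ) := by exact_mod_cast h3
      rw [h4]
  have h5 := Finset.sum_congr (rfl : (Finset.univ : Finset (NT P)) = Finset.univ) (fun f _ => h2 f)
  refine h5.trans ?_
  rw [Finset.sum_add_distrib, ← Finset.mul_sum, ← Finset.mul_sum, sum_NT H hz]
  unfold ex
  ring

open Classical in
theorem sum_m_ex (D : Dat p P C r t) (m : IrrCharacter G → ℕ) (z : ↥P) :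
    ∑ χ : IrrCharacter G, (m χ : ℂ) * ex D χ z = ∑ f : NT P, (m (D.ξ f) : ℂ) * chi f.1 z := by
  unfold ex
  simp_rw [Finset.mul_sum]
  rw [Finset.sum_comm]
  refine Finset.sum_congr rfl fun f _ => ?_
  rw [Finset.sum_eq_single (D.ξ f)]
  · rw [if_pos rfl]
  · intro χ _ hχ
    rw [if_neg hχ, mul_zero]
  · intro h
    exact absurd (Finset.mem_univ _) h

end Eq

section Eq2

variable {t : ℕ} [Fintype C] [Fintype P] [Fintype r.ker] [(cN P C).Normal]
  [Fintype ↥(normalizer (P : Set G))]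

variable (H : Cfsg.Agent.Lib.TICent.Hyp p P C r e₀)
include H

open Classical in
/-- **The basic equation.** -/
theorem one_eq (D : Dat p P C r t) {m : (QQ P C →* ℂˣ) → IrrCharacter G → ℕ} (hm : RigA.IsM m) (hidx : ¬ p ∣ P.index)
    (hnt : Nontrivial ↥P) (l : QQ P C →* ℂˣ) (f₀ : NT P) :
    1 + ∑ χ : IrrCharacter G, (m l χ : ℤ) * D.w χ + D.σ * (m l (D.ξ f₀) : ℤ) = 0 := by
  have hc := comm_P H
  haveI : Finite (↥P →* ℂˣ) := dual_finite hc
  letI : Fintype (↥P →* ℂˣ) := Fintype.ofFinite _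
  set S : ℂ := ∑ χ : IrrCharacter G, (m l χ : ℂ) * (D.w χ : ℂ) with hS
  have hσ2 : (D.σ : ℂ) * D.σ = 1 := by
    rcases D.hσ with h | h <;> rw [h] <;> norm_num
  -- the equation at `z ≠ 1`
  have key : ∀ z : ↥P, z ≠ 1 → ∑ f : NT P, (m l (D.ξ f) : ℂ) * chi f.1 z = (D.σ : ℂ) * (1 + S) := by
    intro z hz
    have h1 := avg_Pi H hidx l hz
    rw [avg_sum H Finset.univ (fun χ : IrrCharacter G => (m l χ : ℂ)) (fun χ : IrrCharacter G => (χ : G → ℂ)) (Pi l)
      (fun g => Pi_eq_sum hm l g) z] at h1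
    simp_rw [avg_expand H D _ hz, mul_add] at h1
    rw [Finset.sum_add_distrib] at h1
    have h2 : ∑ χ : IrrCharacter G, (m l χ : ℂ) * (D.σ * ex D χ z) =
        D.σ * ∑ f : NT P, (m l (D.ξ f) : ℂ) * chi f.1 z := by
      rw [← sum_m_ex H D (m l) z, Finset.mul_sum]
      refine Finset.sum_congr rfl fun χ _ => ?_
      ring
    have h3 : ∑ χ : IrrCharacter G, (m l χ : ℂ) * -(D.w χ : ℂ) = -S := by
      rw [hS, ← Finset.sum_neg_distrib]
      refine Finset.sum_congr rfl fun χ _ => ?_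
      ring
    rw [h2, h3] at h1
    have h4 : (D.σ : ℂ) * (1 + S) = D.σ * (D.σ * ∑ f : NT P, (m l (D.ξ f) : ℂ) * chi f.1 z) := by
      rw [← h1]
      ring
    rw [h4, ← mul_assoc, hσ2, one_mul]
  set κ : ℂ := (D.σ : ℂ) * (1 + S) with hκ
  have hP0 : (Nat.card P : ℂ) ≠ 0 := by exact_mod_cast Nat.card_pos.ne'
  -- Fourier
  have h5 : ∀ f₁ : NT P, (Nat.card P : ℂ) * (m l (D.ξ f₁) : ℂ) =
      ∑ f : NT P, (m l (D.ξ f) : ℂ) - κ := by
    intro f₁
    have h6 : ∑ z : ↥P, (∑ f : NT P, (m l (D.ξ f) : ℂ) * chi f.1 z) * conj (chi f₁.1 z) =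
        (Nat.card P : ℂ) * (m l (D.ξ f₁) : ℂ) := by
      simp_rw [Finset.sum_mul]
      rw [Finset.sum_comm]
      have h7 : ∀ f : NT P, ∑ z : ↥P, (m l (D.ξ f) : ℂ) * chi f.1 z * conj (chi f₁.1 z) =
          (m l (D.ξ f) : ℂ) * ((Nat.card P : ℂ) * if f = f₁ then 1 else 0) := by
        intro f
        have h8 := classInner_chi f.1 f₁.1
        unfold classInner at h8
        have h9 : ∑ z : ↥P, chi f.1 z * conj (chi f₁.1 z) = (Nat.card P : ℂ) * if f.1 = f₁.1 then 1 else 0 := by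
          rw [← h8]
          field_simp
        simp_rw [mul_assoc]
        rw [← Finset.mul_sum, h9]
        congr 3
        exact propext Subtype.ext_iff.symm
      simp_rw [h7]
      rw [Finset.sum_eq_single f₁]
      · rw [if_pos rfl]
        ring
      · intro f _ hf
        rw [if_neg hf]
        ring
      · intro h
        exact absurd (Finset.mem_univ _) h
    rw [← h6, ← Finset.add_sum_erase _ _ (Finset.mem_univ (1 : ↥P))]
    have h10 : ∀ z ∈ Finset.univ.erase (1 : ↥P), (∑ f : NT P, (m l (D.ξ f) : ℂ) * chi f.1 z) * conj (chi f₁.1 z) =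
        κ * conj (chi f₁.1 z) := by
      intro z hz
      rw [key z (Finset.ne_of_mem_erase hz)]
    rw [Finset.sum_congr rfl h10, ← Finset.mul_sum]
    have h11 : ∑ z : ↥P, conj (chi f₁.1 z) = 0 := by
      have h12 := classInner_chi (1 : ↥P →* ℂˣ) f₁.1
      unfold classInner at h12
      rw [if_neg f₁.2.symm] at h12
      have h13 := (mul_eq_zero.1 h12).resolve_left (inv_ne_zero hP0)
      simpa [chi] using h13
    rw [← Finset.add_sum_erase _ _ (Finset.mem_univ (1 : ↥P))] at h11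
    have h14 : conj (chi f₁.1 (1 : ↥P)) = 1 := by simp [chi]
    rw [h14] at h11
    have h15 : ∑ z ∈ Finset.univ.erase (1 : ↥P), conj (chi f₁.1 z) = -1 := by linear_combination h11
    rw [h15, h14, mul_one]
    have h16 : ∀ f : NT P, chi f.1 (1 : ↥P) = 1 := by intro f; simp [chi]
    simp_rw [h16, mul_one]
    ring
  have hconst : ∀ f₁ : NT P, (m l (D.ξ f₁) : ℂ) = (m l (D.ξ f₀) : ℂ) := by
    intro f₁
    have h17 := h5 f₁
    have h18 := h5 f₀
    exact mul_left_cancel₀ hP0 (h17.trans h18.symm)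
  obtain ⟨z₀, hz₀⟩ := exists_ne (1 : ↥P)
  have h19 := key z₀ hz₀
  simp_rw [hconst] at h19
  rw [← Finset.mul_sum, sum_NT H hz₀] at h19
  have h20 : (1 : ℂ) + S + D.σ * (m l (D.ξ f₀) : ℂ) = 0 := by
    have h21 : (D.σ : ℂ) * ((D.σ : ℂ) * (1 + S)) = 1 + S := by
      rw [← mul_assoc, hσ2, one_mul]
    rw [← h21, ← hκ, ← h19]
    ring_nf
  have h23 : (((1 + ∑ χ : IrrCharacter G, (m l χ : ℤ) * D.w χ + D.σ * (m l (D.ξ f₀) : ℤ) : ℤ)) : ℂ) = 0 := by
    push_cast
    exact h20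
  exact_mod_cast h23

omit H in
/-- The multiplicity of the trivial character. -/
theorem m_one {m : (QQ P C →* ℂˣ) → IrrCharacter G → ℕ} (hm : RigA.IsM m) (l : QQ P C →* ℂˣ) [Decidable (l = 1)] :
    m l (oneIrr G) = if l = 1 then 1 else 0 := by
  have h1 := hm l (oneIrr G)
  have h2 : (fun x : ↥(normalizer (P : Set G)) => ((oneIrr G : IrrCharacter G) : G → ℂ) x) = fun _ => 1 := rfl
  rw [h2] at h1
  split_ifs with h
  · subst h
    have h3 : lam (1 : QQ P C →* ℂˣ) = fun _ => 1 := by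
      funext x
      simp [lam]
    rw [h3, classInner_irr_self isIrrCharacter_one] at h1
    exact_mod_cast h1.symm
  · have h3 : lam l ≠ fun _ => 1 := by
      intro h4
      apply h
      apply MonoidHom.ext
      intro q
      apply Units.ext
      obtain ⟨x, rfl⟩ := QuotientGroup.mk_surjective q
      have h5 := congrFun h4 x
      unfold lam at h5
      simpa using h5
    rw [classInner_irr_ne (isIrr_lam l) isIrrCharacter_one h3] at h1
    exact_mod_cast h1.symm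

/-- The sum of the multiplicities. -/
theorem m_sum [Fintype (QQ P C →* ℂˣ)] (D : Dat p P C r t) {m : (QQ P C →* ℂˣ) → IrrCharacter G → ℕ} (hm : RigA.IsM m)
    (hcard : Nat.card P = p) (χ : IrrCharacter G) : ∑ l, m l χ = D.a 1 χ := by
  have hQ := comm_QQ H hcard
  have h1 := sum_inner_lam hQ H.le_normalizer (fun x : ↥(normalizer (P : Set G)) => (χ : G → ℂ) x) 1
  have h2 : ∀ l : QQ P C →* ℂˣ, classInner (lam l) (fun x : ↥(normalizer (P : Set G)) => (χ : G → ℂ) x) * conj (lam l 1) =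
      (m l χ : ℂ) := by
    intro l
    rw [hm, lam_one, map_one, mul_one]
  simp_rw [h2] at h1
  have h3 := D.ha 1 χ
  unfold classInner at h3
  have h4 : ∀ c : ↥C, chi ((1 : ↥P →* ℂˣ).comp r) c = 1 := by
    intro c
    simp [chi]
  simp_rw [h4, one_mul] at h3
  have h5 : ∀ c : ↥C, ((((1 : ↥(normalizer (P : Set G))) * ⟨c, H.le_normalizer c.2⟩ : ↥(normalizer (P : Set G))) : G)) = c := by
    intro c
    simp
  simp_rw [h5] at h1
  rw [h3] at h1
  exact_mod_cast h1

end Eq2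

section Arith

/-- The arithmetic behind the third alternative. -/
theorem alt3_core {x u n M p : ℕ} (hx : x = u * p + 1) (hM : M = 1 + n * p) (hdvd : x ∣ M * (u + 1)) (hle : x ≤ M)
    (hne : x ≠ M) (hp : 0 < p) : ∃ h : ℕ, 0 < h ∧ n * (u + 1) = h * u * p + u ^ 2 + u + h := by
  obtain ⟨y, hy⟩ := hdvd
  have hlt : x < M := lt_of_le_of_ne hle hne
  have hx0 : 0 < x := by omega
  have hy1 : u + 1 < y := by
    by_contra hcon
    push Not at hcon
    have h1 : x * y ≤ x * (u + 1) := Nat.mul_le_mul_left _ hcon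
    have h2 : x * (u + 1) < M * (u + 1) := Nat.mul_lt_mul_of_pos_right hlt (Nat.succ_pos u)
    omega
  -- over the integers
  have hZ : ((y : ℤ) - (u + 1)) = p * ((n : ℤ) * (u + 1) - u * y) := by
    have h1 : ((M : ℤ)) * (u + 1) = x * y := by exact_mod_cast hy
    rw [hM, hx] at h1
    push_cast at h1
    linear_combination -h1
  have hpos : 0 < (n : ℤ) * (u + 1) - u * y := by
    have h1 : 0 < (y : ℤ) - (u + 1) := by
      have : ((u + 1 : ℕ) : ℤ) < y := by exact_mod_cast hy1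
      push_cast at this
      linarith
    rw [hZ] at h1
    exact (mul_pos_iff_of_pos_left (by exact_mod_cast hp)).1 h1
  obtain ⟨h, hh⟩ := Int.eq_ofNat_of_zero_le hpos.le
  refine ⟨h, ?_, ?_⟩
  · have : (0 : ℤ) < h := by rw [← hh]; exact hpos
    exact_mod_cast this
  · have h3 : (y : ℤ) = u + 1 + p * h := by
      rw [hh] at hZ
      linarith
    have h4 : (n : ℤ) * (u + 1) = h * u * p + u ^ 2 + u + h := by
      have h5 : (n : ℤ) * (u + 1) = h + u * y := by linarith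
      rw [h5, h3]
      ring
    exact_mod_cast h4

/-- The divisibility for a character of degree `≡ 1`. -/
theorem dvd_mul_succ {x u p M s : ℕ} (hx : x = u * p + 1) (hs : s ∣ p - 1) (hp : 1 ≤ p) (hdvd : x ∣ M * s) :
    x ∣ M * (u + 1) := by
  set g := Nat.gcd x s with hg
  have hgx : g ∣ x := Nat.gcd_dvd_left _ _
  have hgs : g ∣ s := Nat.gcd_dvd_right _ _
  have hx0 : 0 < x := by omega
  have hg0 : 0 < g := Nat.gcd_pos_of_pos_left _ hx0
  have hgu : g ∣ u + 1 := by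
    have h1 : g ∣ u * (p - 1) := Dvd.dvd.mul_left (dvd_trans hgs hs) u
    have h2 : x = u * (p - 1) + (u + 1) := by
      obtain ⟨q, rfl⟩ : ∃ q, p = q + 1 := ⟨p - 1, by omega⟩
      simp only [Nat.add_sub_cancel]
      rw [hx]
      ring
    rw [h2] at hgx
    exact (Nat.dvd_add_right h1).1 hgx
  obtain ⟨x', hx'⟩ := hgx
  obtain ⟨s', hs'⟩ := hgs
  have hcop : Nat.Coprime x' s' := by
    have := Nat.coprime_div_gcd_div_gcd (m := x) (n := s) hg0
    rw [← hg, hx', hs', Nat.mul_div_cancel_left _ hg0, Nat.mul_div_cancel_left _ hg0] at this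
    exact this
  have h3 : x' ∣ M * s' := by
    rw [hx', hs'] at hdvd
    have h4 : g * x' ∣ g * (M * s') := by
      convert hdvd using 1
      ring
    exact Nat.dvd_of_mul_dvd_mul_left hg0 h4
  have h5 : x' ∣ M := hcop.dvd_of_dvd_mul_right h3
  rw [hx']
  obtain ⟨k, hk⟩ := hgu
  rw [hk, ← mul_assoc]
  rw [mul_comm M g, mul_assoc g]
  exact Nat.mul_dvd_mul_left g (Dvd.dvd.mul_right h5 k)

/-- The divisibility for the exceptional degree. -/
theorem dvd_mul_l {d s l p M : ℕ} (hp : p.Prime) (hd : d + s = p * l) (hs : Nat.Coprime s p) (hd0 : 0 < d)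
    (hdvd : d ∣ M * s) : d ∣ M * l := by
  set g := Nat.gcd d s with hg
  have hgx : g ∣ d := Nat.gcd_dvd_left _ _
  have hgs : g ∣ s := Nat.gcd_dvd_right _ _
  have hg0 : 0 < g := Nat.gcd_pos_of_pos_left _ hd0
  have hgu : g ∣ l := by
    have h1 : g ∣ p * l := by
      rw [← hd]
      exact dvd_add hgx hgs
    have h2 : Nat.Coprime g p := Nat.Coprime.coprime_dvd_left hgs hs
    exact h2.dvd_of_dvd_mul_left h1
  obtain ⟨x', hx'⟩ := hgx
  obtain ⟨s', hs'⟩ := hgs
  have hcop : Nat.Coprime x' s' := by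
    have := Nat.coprime_div_gcd_div_gcd (m := d) (n := s) hg0
    rw [← hg, hx', hs', Nat.mul_div_cancel_left _ hg0, Nat.mul_div_cancel_left _ hg0] at this
    exact this
  have h3 : x' ∣ M * s' := by
    rw [hx', hs'] at hdvd
    have h4 : g * x' ∣ g * (M * s') := by
      convert hdvd using 1
      ring
    exact Nat.dvd_of_mul_dvd_mul_left hg0 h4
  have h5 : x' ∣ M := hcop.dvd_of_dvd_mul_right h3
  rw [hx']
  obtain ⟨k, hk⟩ := hgu
  rw [hk, ← mul_assoc]
  rw [mul_comm M g, mul_assoc g]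
  exact Nat.mul_dvd_mul_left g (Dvd.dvd.mul_right h5 k)

end Arith

section Gen

variable {t : ℕ} [Fintype C] [Fintype P] [Fintype r.ker]

/-- Linear characters of a perfect group are trivial. -/
theorem eq_one_of_degree_one (hperf : commutator G = ⊤) (χ : IrrCharacter G) (h : charDegree (χ : G → ℂ) = 1) :
    χ = oneIrr G := by
  have h1 := Cfsg.Agent.Lib.CharKernel.one_eq_charDegree (IsIrrCharacter.isCharacter χ.2)
  rw [h] at h1
  obtain ⟨f, hf⟩ := exists_hom_of_degree_one (IsIrrCharacter.isCharacter χ.2) (by simpa using h1)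
  have hker : commutator G ≤ f.ker := by
    unfold _root_.commutator
    rw [Subgroup.commutator_le]
    intro a _ b _
    rw [MonoidHom.mem_ker, map_commutatorElement]
    exact commutatorElement_eq_one_iff_commute.2 (Commute.all _ _)
  rw [hperf] at hker
  apply Subtype.ext
  funext g
  have h2 : f g = 1 := hker (Subgroup.mem_top g)
  rw [hf]
  simp [oneIrr, h2]

/-- Divisibility from a value `± 1`. -/
theorem deg_dvd_of_val (χ : IrrCharacter G) {g : G} {c : ℤ} (hc : (χ : G → ℂ) g = c) (h : c = 1 ∨ c = -1) :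
    charDegree (χ : G → ℂ) ∣ (centralizer ({g} : Set G)).index := by
  have h1 := Cfsg.Agent.Lib.BlockIdem.isIntegral_centralChar χ g
  unfold centralChar at h1
  rw [hc, Cfsg.Agent.Lib.CharKernel.one_eq_charDegree (IsIrrCharacter.isCharacter χ.2)] at h1
  apply Cfsg.Agent.Lib.CharIntegrality.dvd_of_isIntegral_div (Cfsg.Agent.Lib.CharKernel.charDegree_ne_zero χ.2)
  rcases h with rfl | rfl
  · simpa using h1
  · have h2 := h1.neg
    have h3 : -(((centralizer ({g} : Set G)).index : ℂ) * (((-1 : ℤ)) : ℂ) / (charDegree (χ : G → ℂ) : ℂ)) =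
        ((centralizer ({g} : Set G)).index : ℂ) / (charDegree (χ : G → ℂ) : ℂ) := by
      push_cast
      ring
    rwa [h3] at h2

variable (H : Cfsg.Agent.Lib.TICent.Hyp p P C r e₀)
include H

/-- The index of `C`. -/
theorem index_C (hN : Nat.card (normalizer (P : Set G)) = Nat.card C * t) :
    C.index = (normalizer (P : Set G)).index * t := by
  have h1 := Subgroup.relIndex_mul_index (H.le_normalizer)
  have h2 : C.relIndex (normalizer (P : Set G)) = t := by
    have h3 := Subgroup.card_mul_index (C.subgroupOf (normalizer (P : Set G)))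
    have h4 : Nat.card (C.subgroupOf (normalizer (P : Set G))) = Nat.card C :=
      Nat.card_congr (Subgroup.subgroupOfEquivOfLe H.le_normalizer).toEquiv
    rw [h4, hN] at h3
    exact Nat.eq_of_mul_eq_mul_left Nat.card_pos h3
  rw [← h1, h2, mul_comm]

open Classical in
theorem sum_sub_expand [Fintype (↥P →* ℂˣ)] (D : Dat p P C r t) (χ : IrrCharacter G) {z : ↥P} (hz : z ≠ 1) :
    ∑ f : ↥P →* ℂˣ, ((D.a f χ : ℂ) - D.a 1 χ) * chi f z = -(D.w χ : ℂ) + D.σ * ex D χ z := by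
  have hc := comm_P H
  have h0 := sum_dual hc hz
  rw [← avg_expand H D χ hz, avg_eq_sum H D.ha χ z]
  simp_rw [sub_mul]
  rw [Finset.sum_sub_distrib, ← Finset.mul_sum, h0, mul_zero, sub_zero]

/-- Members of the principal block and their values. -/
theorem val_eq [Fintype (↥P →* ℂˣ)] (D : Dat p P C r t) (χ : IrrCharacter G) (hχ : ∃ f : ↥P →* ℂˣ, D.a f χ ≠ D.a 1 χ)
    {z : ↥P} (hz : z ≠ 1) {y : ↥C} (hy : r y = 1) :
    (χ : G → ℂ) ((z : G) * (y : G)) = -(D.w χ : ℂ) + D.σ * ex D χ z := by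
  obtain ⟨M, hM⟩ := Cfsg.Agent.Lib.BlockVal.exists_isPModular H.prime
  have hB : χ ∈ principalBlock M G := by
    by_contra hB
    obtain ⟨f, hf⟩ := hχ
    exact hf (a_eq_of_not_mem H hM D.ha hB f)
  rw [val_principal H hM D.ha hB hz hy]
  exact sum_sub_expand H D χ hz

/-- The degree modulo `p`. -/
theorem deg_eq [Fintype (↥P →* ℂˣ)] (D : Dat p P C r t) (hcard : Nat.card P = p) (χ : IrrCharacter G)
    (hχ : ∃ f : ↥P →* ℂˣ, D.a f χ ≠ D.a 1 χ) :
    ∃ n : ℤ, (charDegree (χ : G → ℂ) : ℤ) = p * n + ∑ f : ↥P →* ℂˣ, ((D.a f χ : ℤ) - D.a 1 χ) := by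
  obtain ⟨M, hM⟩ := Cfsg.Agent.Lib.BlockVal.exists_isPModular H.prime
  have hB : χ ∈ principalBlock M G := by
    by_contra hB
    obtain ⟨f, hf⟩ := hχ
    exact hf (a_eq_of_not_mem H hM D.ha hB f)
  exact degree_principal H hcard hM D.ha hB

/-- The number of nontrivial characters. -/
theorem card_NT [Fintype (↥P →* ℂˣ)] [Fintype (NT P)] (hcard : Nat.card P = p) : Fintype.card (NT P) + 1 = p := by
  classical
  have hc := comm_P H
  have h2 : Fintype.card (NT P) = Fintype.card (↥P →* ℂˣ) - 1 := by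
    rw [Fintype.card_subtype_compl, Fintype.card_subtype_eq]
  have h3 : Fintype.card (↥P →* ℂˣ) = p := by
    rw [← Nat.card_eq_fintype_card, card_dual hc, hcard]
  have hp := H.prime.one_lt
  omega

open Classical in
/-- The sum over nontrivial characters when `χ` is not exceptional. -/
theorem sum_sub_of_w [Fintype (↥P →* ℂˣ)] (D : Dat p P C r t) (hcard : Nat.card P = p) (χ : IrrCharacter G)
    (hχ : ∀ f : NT P, χ ≠ D.ξ f) : ∑ f : ↥P →* ℂˣ, ((D.a f χ : ℤ) - D.a 1 χ) = ((p : ℤ) - 1) * D.w χ := by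
  rw [Fintype.sum_eq_add_sum_subtype_ne _ (1 : ↥P →* ℂˣ), sub_self, zero_add]
  rw [Finset.sum_congr rfl fun f _ => D.hform1 f χ (hχ f), Finset.sum_const, Finset.card_univ, nsmul_eq_mul]
  have h1 := card_NT H hcard
  have h2 : (Fintype.card (NT P) : ℤ) = (p : ℤ) - 1 := by
    rw [← h1]
    push_cast
    ring
  rw [h2]

omit H in
theorem not_eq_xi_of_w (D : Dat p P C r t) {χ : IrrCharacter G} (hw : D.w χ ≠ 0) (f : NT P) : χ ≠ D.ξ f := by
  rintro rfl
  exact hw (D.hw0 f)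

/-- `w ≠ 0` implies membership in the principal block. -/
theorem exists_ne_of_w [Fintype (↥P →* ℂˣ)] (D : Dat p P C r t) {χ : IrrCharacter G} (hw : D.w χ ≠ 0) (f₀ : NT P) :
    ∃ f : ↥P →* ℂˣ, D.a f χ ≠ D.a 1 χ := by
  refine ⟨f₀.1, fun h => hw ?_⟩
  have h1 := D.hform1 f₀ χ (not_eq_xi_of_w D hw f₀)
  rw [h] at h1
  simpa using h1.symm

theorem ex_eq_zero [Fintype (↥P →* ℂˣ)] (D : Dat p P C r t) {χ : IrrCharacter G} (hχ : ∀ f : NT P, χ ≠ D.ξ f) (z : ↥P) :
    ex D χ z = 0 := by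
  unfold ex
  exact Finset.sum_eq_zero fun f _ => if_neg (hχ f)

/-- **Degrees and values of the members with `w ≠ 0`.** -/
theorem val_of_w [Fintype (↥P →* ℂˣ)] (D : Dat p P C r t) {χ : IrrCharacter G} (hw : D.w χ ≠ 0) (f₀ : NT P)
    {z : ↥P} (hz : z ≠ 1) : (χ : G → ℂ) z = -(D.w χ : ℂ) := by
  have h1 := val_eq H D χ (exists_ne_of_w H D hw f₀) hz (map_one r)
  simp only [OneMemClass.coe_one, mul_one] at h1
  rw [h1, ex_eq_zero H D (not_eq_xi_of_w D hw), mul_zero, add_zero]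

/-- The degree divides `M t` when `w ≠ 0`. -/
theorem deg_dvd_of_w [Fintype (↥P →* ℂˣ)] (D : Dat p P C r t) (hN : Nat.card (normalizer (P : Set G)) = Nat.card C * t)
    {χ : IrrCharacter G} (hw : D.w χ ≠ 0) (f₀ : NT P) {z : ↥P} (hz : z ≠ 1) :
    charDegree (χ : G → ℂ) ∣ (normalizer (P : Set G)).index * t := by
  have hz' : (z : G) ≠ 1 := fun h => hz (Subtype.ext h)
  have h1 := deg_dvd_of_val χ (g := (z : G)) (c := - D.w χ) (by
    rw [val_of_w H D hw f₀ hz]; push_cast; rfl) (by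
    rcases D.hval χ with h | h | h
    · exact absurd h hw
    · right; rw [h]
    · left; rw [h]; rfl)
  rw [H.star _ z.2 hz', index_C H hN] at h1
  exact h1

/-- The degree of a `+`-member. -/
theorem deg_minus [Fintype (↥P →* ℂˣ)] (D : Dat p P C r t) (hcard : Nat.card P = p) {χ : IrrCharacter G} (hw : D.w χ = -1)
    (f₀ : NT P) : ∃ u : ℕ, charDegree (χ : G → ℂ) = u * p + 1 := by
  have hw' : D.w χ ≠ 0 := by rw [hw]; norm_num
  obtain ⟨n, hn⟩ := deg_eq H D hcard χ (exists_ne_of_w H D hw' f₀)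
  rw [sum_sub_of_w H D hcard χ (not_eq_xi_of_w D hw'), hw] at hn
  have hd := Cfsg.Agent.Lib.CharKernel.charDegree_pos χ.2
  have hp : (2 : ℤ) ≤ p := by exact_mod_cast H.prime.two_le
  have hn1 : 1 ≤ n := by
    by_contra hcon
    push Not at hcon
    have h1 : n ≤ 0 := by omega
    have h2 : (p : ℤ) * n ≤ 0 := by nlinarith
    have h3 : (0 : ℤ) < charDegree (χ : G → ℂ) := by exact_mod_cast hd
    nlinarith
  obtain ⟨u, hu⟩ := Int.eq_ofNat_of_zero_le (show 0 ≤ n - 1 by omega)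
  refine ⟨u, ?_⟩
  have h4 : (charDegree (χ : G → ℂ) : ℤ) = u * p + 1 := by
    have h5 : n = u + 1 := by omega
    rw [hn, h5]
    ring
  exact_mod_cast h4

/-- The degree of a `-`-member. -/
theorem deg_plus [Fintype (↥P →* ℂˣ)] (D : Dat p P C r t) (hcard : Nat.card P = p) {χ : IrrCharacter G} (hw : D.w χ = 1)
    (f₀ : NT P) : ∃ b : ℕ, 1 ≤ b ∧ charDegree (χ : G → ℂ) + 1 = b * p := by
  have hw' : D.w χ ≠ 0 := by rw [hw]; norm_num
  obtain ⟨n, hn⟩ := deg_eq H D hcard χ (exists_ne_of_w H D hw' f₀)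
  rw [sum_sub_of_w H D hcard χ (not_eq_xi_of_w D hw'), hw] at hn
  have hd := Cfsg.Agent.Lib.CharKernel.charDegree_pos χ.2
  have hp : (2 : ℤ) ≤ p := by exact_mod_cast H.prime.two_le
  have hn1 : 0 ≤ n := by
    by_contra hcon
    push Not at hcon
    have h1 : n + 1 ≤ 0 := by omega
    have h3 : (0 : ℤ) < charDegree (χ : G → ℂ) := by exact_mod_cast hd
    nlinarith
  obtain ⟨b, hb⟩ := Int.eq_ofNat_of_zero_le (show 0 ≤ n + 1 by omega)
  refine ⟨b, ?_, ?_⟩
  · have : (1 : ℤ) ≤ b := by omega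
    exact_mod_cast this
  · have h4 : (charDegree (χ : G → ℂ) : ℤ) + 1 = b * p := by
      have h5 : n = b - 1 := by omega
      rw [hn, h5]
      ring
    exact_mod_cast h4

end Gen

end Cfsg.Agent.Lib.RigB
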