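import Mathlib
import Cfsg.Agent.Lib.RigB

/-!
# Consequences of the failure of the third alternative
-/

set_option autoImplicit false
set_option linter.style.haveILetI false
set_option linter.unusedSectionVars false
set_option linter.unusedVariables false

namespace Cfsg.Agent.Lib.RigC

open Cfsg Cfsg.Agent.Lib.CharBasic Subgroup Cfsg.Agent.Lib.DefectOne Cfsg.Agent.Lib.CharInd
open Cfsg.Agent.Lib.TICent Cfsg.Agent.Lib.RigA Cfsg.Agent.Lib.RangeStruct Cfsg.Agent.Lib.RigB
open scoped ComplexConjugate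

variable {G : Type*} [Group G] [Fintype G] [DecidableEq G] {p : ℕ} {P C : Subgroup G} {r : ↥C →* ↥P} {e₀ : ℕ}

/-- The third alternative fails. -/
def AltFail (n p : ℕ) : Prop := ∀ u h : ℕ, 0 < u → 0 < h → n * (u + 1) ≠ h * u * p + u ^ 2 + u + h

section J

variable {t : ℕ} [Fintype C] [Fintype P] [Fintype r.ker] [Fintype (↥P →* ℂˣ)]

open Classical in
/-- The exceptional family. -/
noncomputable def Jset (D : Dat p P C r t) : Finset (IrrCharacter G) := Finset.univ.image D.ξ

omit [Fintype r.ker] in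
theorem mem_Jset (D : Dat p P C r t) {χ : IrrCharacter G} : χ ∈ Jset D ↔ ∃ f, D.ξ f = χ := by
  classical
  simp [Jset]

omit [Fintype r.ker] in
theorem card_Jset (D : Dat p P C r t) : (Jset D).card * t = p - 1 := by
  classical
  rw [← D.hrange]
  congr 1
  rw [Nat.card_coe_set_eq]
  have h : Set.range D.ξ = ↑(Jset D) := by
    ext χ
    simp [Jset]
  rw [h, Set.ncard_coe_finset]

/-- The exceptional characters agree at `p`-regular elements. -/
theorem xi_reg (D : Dat p P C r t) (f g : NT P) {x : G} (hx : ¬ p ∣ orderOf x) :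
    ((D.ξ f : IrrCharacter G) : G → ℂ) x = ((D.ξ g : IrrCharacter G) : G → ℂ) x := by
  have h1 := D.hreg f x hx
  have h2 := D.hreg g x hx
  have hσ : (D.σ : ℂ) ≠ 0 := by
    rcases D.hσ with h | h <;> rw [h] <;> norm_num
  apply mul_left_cancel₀ hσ
  linear_combination h1 - h2

variable (H : Cfsg.Agent.Lib.TICent.Hyp p P C r e₀)
include H

theorem xi_deg (D : Dat p P C r t) (f g : NT P) :
    charDegree ((D.ξ f : IrrCharacter G) : G → ℂ) = charDegree ((D.ξ g : IrrCharacter G) : G → ℂ) := by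
  have hp := H.prime
  have h := xi_reg D f g (x := 1) (by simpa using hp.one_lt.ne')
  unfold charDegree
  rw [h]

open Classical in
theorem sum_ex (D : Dat p P C r t) {z : ↥P} (hz : z ≠ 1) : ∑ j ∈ Jset D, ex D j z = -1 := by
  rw [← sum_NT H hz]
  unfold ex
  rw [Finset.sum_comm]
  refine Finset.sum_congr rfl fun f _ => ?_
  rw [Finset.sum_ite_eq' (Jset D) (D.ξ f) (fun _ => chi f.1 z)]
  rw [if_pos]
  exact (mem_Jset D).2 ⟨f, rfl⟩

theorem xi_ne (D : Dat p P C r t) (f : NT P) : ∃ g : ↥P →* ℂˣ, D.a g (D.ξ f) ≠ D.a 1 (D.ξ f) := by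
  refine ⟨f.1, fun h => ?_⟩
  have h1 := D.hform2 f
  rw [h, sub_self] at h1
  rcases D.hσ with h2 | h2 <;> rw [h2] at h1 <;> omega

/-- The values of the exceptional characters. -/
theorem val_xi (D : Dat p P C r t) (f : NT P) {z : ↥P} (hz : z ≠ 1) :
    ((D.ξ f : IrrCharacter G) : G → ℂ) z = D.σ * ex D (D.ξ f) z := by
  have h1 := val_eq H D (D.ξ f) (xi_ne H D f) hz (map_one r)
  simp only [OneMemClass.coe_one, mul_one] at h1
  rw [h1, D.hw0]
  simp

/-- The degree divides `M t`. -/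
theorem xi_dvd (D : Dat p P C r t) (hN : Nat.card (normalizer (P : Set G)) = Nat.card C * t) (f₀ : NT P) {z : ↥P}
    (hz : z ≠ 1) : charDegree ((D.ξ f₀ : IrrCharacter G) : G → ℂ) ∣ (normalizer (P : Set G)).index * t := by
  classical
  set d := charDegree ((D.ξ f₀ : IrrCharacter G) : G → ℂ) with hd
  have hz' : (z : G) ≠ 1 := fun h => hz (Subtype.ext h)
  have hd0 : d ≠ 0 := Cfsg.Agent.Lib.CharKernel.charDegree_ne_zero (D.ξ f₀).2
  have hidx : (centralizer ({(z : G)} : Set G)).index = (normalizer (P : Set G)).index * t := by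
    rw [H.star _ z.2 hz', index_C H hN]
  have hone : ∀ j ∈ Jset D, (j : G → ℂ) 1 = d := by
    intro j hj
    obtain ⟨f, rfl⟩ := (mem_Jset D).1 hj
    rw [Cfsg.Agent.Lib.CharKernel.one_eq_charDegree (IsIrrCharacter.isCharacter (D.ξ f).2), xi_deg H D f f₀]
  have hval : ∀ j ∈ Jset D, (j : G → ℂ) z = D.σ * ex D j z := by
    intro j hj
    obtain ⟨f, rfl⟩ := (mem_Jset D).1 hj
    exact val_xi H D f hz
  have hint : IsIntegral ℤ (∑ j ∈ Jset D, centralChar (j : G → ℂ) (z : G)) :=
    IsIntegral.sum _ fun j _ => Cfsg.Agent.Lib.BlockIdem.isIntegral_centralChar j z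
  have hsum : ∑ j ∈ Jset D, centralChar (j : G → ℂ) (z : G) =
      -(D.σ : ℂ) * (((normalizer (P : Set G)).index * t : ℕ) : ℂ) / (d : ℂ) := by
    unfold centralChar
    rw [hidx]
    have h1 : ∀ j ∈ Jset D, (((normalizer (P : Set G)).index * t : ℕ) : ℂ) * (j : G → ℂ) z / (j : G → ℂ) 1 =
        ((((normalizer (P : Set G)).index * t : ℕ) : ℂ) * D.σ / d) * ex D j z := by
      intro j hj
      rw [hone j hj, hval j hj]
      ring
    rw [Finset.sum_congr rfl h1, ← Finset.mul_sum, sum_ex H D hz]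
    ring
  rw [hsum] at hint
  apply Cfsg.Agent.Lib.CharIntegrality.dvd_of_isIntegral_div hd0
  rcases D.hσ with h | h
  · rw [h] at hint
    have h2 := hint.neg
    have h3 : -(-((1 : ℤ) : ℂ) * (((normalizer (P : Set G)).index * t : ℕ) : ℂ) / (d : ℂ)) =
        (((normalizer (P : Set G)).index * t : ℕ) : ℂ) / (d : ℂ) := by
      push_cast
      ring
    rwa [h3] at h2
  · rw [h] at hint
    have h3 : (-((-1 : ℤ) : ℂ) * (((normalizer (P : Set G)).index * t : ℕ) : ℂ) / (d : ℂ)) =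
        (((normalizer (P : Set G)).index * t : ℕ) : ℂ) / (d : ℂ) := by
      push_cast
      ring
    rwa [h3] at hint

end J

section Count

variable {t : ℕ} [Fintype C] [Fintype P] [Fintype r.ker] [Fintype (↥P →* ℂˣ)]

variable (H : Cfsg.Agent.Lib.TICent.Hyp p P C r e₀)
include H

open Classical in
/-- The sum over characters for an exceptional character. -/
theorem sum_sub_xi (D : Dat p P C r t) (hN : Nat.card (normalizer (P : Set G)) = Nat.card C * t) (f₀ : NT P) :
    ∑ f : ↥P →* ℂˣ, ((D.a f (D.ξ f₀) : ℤ) - D.a 1 (D.ξ f₀)) = D.σ * t := by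
  rw [Fintype.sum_eq_add_sum_subtype_ne _ (1 : ↥P →* ℂˣ), sub_self, zero_add]
  have h1 : ∀ f : NT P, (D.a f.1 (D.ξ f₀) : ℤ) - D.a 1 (D.ξ f₀) = if D.ξ f₀ = D.ξ f then D.σ else 0 := by
    intro f
    split_ifs with h
    · rw [h]
      exact D.hform2 f
    · rw [D.hform1 f _ h, D.hw0]
  rw [Finset.sum_congr rfl fun f _ => h1 f, Finset.sum_ite, Finset.sum_const_zero, add_zero, Finset.sum_const, nsmul_eq_mul]
  rw [mul_comm]
  congr 2
  have h2 := H.card_orbit hN f₀
  refine Eq.trans ?_ h2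
  rw [Nat.card_coe_set_eq]
  have h3 : MulAction.orbit (↥(normalizer (P : Set G))) f₀ = ↑(Finset.univ.filter fun f : NT P => D.ξ f₀ = D.ξ f) := by
    ext f
    simp only [Finset.coe_filter, Finset.mem_univ, true_and, Set.mem_ofPred_eq]
    rw [D.hξeq]
    rfl
  rw [h3, Set.ncard_coe_finset]

/-- The degree of an exceptional character. -/
theorem xi_deg_eq (D : Dat p P C r t) (hcard : Nat.card P = p) (hN : Nat.card (normalizer (P : Set G)) = Nat.card C * t) (f₀ : NT P) :
    ∃ n : ℤ, (charDegree ((D.ξ f₀ : IrrCharacter G) : G → ℂ) : ℤ) = p * n + D.σ * t := by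
  obtain ⟨n, hn⟩ := deg_eq H D hcard (D.ξ f₀) (xi_ne H D f₀)
  rw [sum_sub_xi H D hN] at hn
  exact ⟨n, hn⟩

end Count

section Pi

variable {t : ℕ} [Fintype C] [Fintype P] [Fintype r.ker] [Fintype (↥P →* ℂˣ)] [(cN P C).Normal]
  [Fintype ↥(normalizer (P : Set G))] [Fintype (QQ P C →* ℂˣ)]

/-- A family of members of total degree `M` in `π_l` is everything. -/
theorem m_eq_of_sum {m : (QQ P C →* ℂˣ) → IrrCharacter G → ℕ} (hm : RigA.IsM m) (l : QQ P C →* ℂˣ)
    (S : Finset (IrrCharacter G)) (hS : ∑ j ∈ S, charDegree (j : G → ℂ) = (normalizer (P : Set G)).index)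
    (hpos : ∀ j ∈ S, 1 ≤ m l j) [DecidablePred (· ∈ S)] (χ : IrrCharacter G) : m l χ = if χ ∈ S then 1 else 0 := by
  classical
  have h1 := sum_m_degree hm l
  have hd : ∀ j : IrrCharacter G, 0 < charDegree (j : G → ℂ) := fun j => Cfsg.Agent.Lib.CharKernel.charDegree_pos j.2
  have h2 : ∑ j ∈ S, m l j * charDegree (j : G → ℂ) + ∑ j ∈ Finset.univ \ S, m l j * charDegree (j : G → ℂ) =
      (normalizer (P : Set G)).index := by
    rw [← h1, add_comm, Finset.sum_sdiff (Finset.subset_univ S)]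
  have h3 : ∑ j ∈ S, charDegree (j : G → ℂ) ≤ ∑ j ∈ S, m l j * charDegree (j : G → ℂ) :=
    Finset.sum_le_sum fun j hj => Nat.le_mul_of_pos_left _ (hpos j hj)
  have h4 : ∑ j ∈ Finset.univ \ S, m l j * charDegree (j : G → ℂ) = 0 := by omega
  have h5 : ∑ j ∈ S, m l j * charDegree (j : G → ℂ) = ∑ j ∈ S, 1 * charDegree (j : G → ℂ) := by
    simp only [one_mul]
    omega
  split_ifs with h
  · have h6 : ∀ j ∈ S, 1 * charDegree (j : G → ℂ) ≤ m l j * charDegree (j : G → ℂ) :=
      fun j hj => Nat.mul_le_mul_right _ (hpos j hj)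
    have h7 := (Finset.sum_eq_sum_iff_of_le h6).1 h5.symm χ h
    have h8 := hd χ
    have h9 : 1 * charDegree (χ : G → ℂ) = m l χ * charDegree (χ : G → ℂ) := h7
    exact (Nat.eq_of_mul_eq_mul_right h8 h9).symm
  · have h6 := (Finset.sum_eq_zero_iff.1 h4) χ (by simp [h])
    rcases Nat.mul_eq_zero.1 h6 with h7 | h7
    · exact h7
    · exact absurd h7 (hd χ).ne'

variable (H : Cfsg.Agent.Lib.TICent.Hyp p P C r e₀)
include H

/-- The multiplicities of the exceptional characters are constant. -/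
theorem m_xi_const (D : Dat p P C r t) {m : (QQ P C →* ℂˣ) → IrrCharacter G → ℕ} (hm : RigA.IsM m) (hidx : ¬ p ∣ P.index)
    (hnt : Nontrivial ↥P) (l : QQ P C →* ℂˣ) (f g : NT P) : m l (D.ξ f) = m l (D.ξ g) := by
  classical
  have h1 := one_eq H D hm hidx hnt l f
  have h2 := one_eq H D hm hidx hnt l g
  have h3 : D.σ * (m l (D.ξ f) : ℤ) = D.σ * (m l (D.ξ g) : ℤ) := by linarith
  rcases D.hσ with h | h <;> rw [h] at h3 <;> omega

/-- A `+`-member has a `λ`. -/
theorem exists_m_pos (D : Dat p P C r t) {m : (QQ P C →* ℂˣ) → IrrCharacter G → ℕ} (hm : RigA.IsM m)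
    (hcard : Nat.card P = p) {χ : IrrCharacter G} (ha : 1 ≤ D.a 1 χ) : ∃ l, 1 ≤ m l χ := by
  have h := m_sum H D hm hcard χ
  by_contra hcon
  push Not at hcon
  have h1 : ∑ l, m l χ = 0 := Finset.sum_eq_zero fun l _ => by
    have := hcon l
    omega
  omega

/-- `+`-members have `a_1 ≥ 1`. -/
theorem a_pos_of_minus (D : Dat p P C r t) {χ : IrrCharacter G} (hw : D.w χ = -1) (f₀ : NT P) : 1 ≤ D.a 1 χ := by
  have hw' : D.w χ ≠ 0 := by rw [hw]; norm_num
  have h1 := D.hform1 f₀ χ (not_eq_xi_of_w D hw' f₀)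
  omega

theorem deg_le_of_m (D : Dat p P C r t) {m : (QQ P C →* ℂˣ) → IrrCharacter G → ℕ} (hm : RigA.IsM m)
    {l : QQ P C →* ℂˣ} {χ : IrrCharacter G} (hl : 1 ≤ m l χ) : charDegree (χ : G → ℂ) ≤ (normalizer (P : Set G)).index := by
  have h1 := sum_m_degree hm l
  have h2 : m l χ * charDegree (χ : G → ℂ) ≤ ∑ χ : IrrCharacter G, m l χ * charDegree (χ : G → ℂ) :=
    Finset.single_le_sum (f := fun χ : IrrCharacter G => m l χ * charDegree (χ : G → ℂ)) (fun _ _ => Nat.zero_le _) (Finset.mem_univ χ)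
  have h3 : charDegree (χ : G → ℂ) ≤ m l χ * charDegree (χ : G → ℂ) := Nat.le_mul_of_pos_left _ hl
  omega

/-- **All `+`-members other than `1` have degree `M`.** -/
theorem deg_minus_eq (hperf : _root_.commutator G = ⊤) (D : Dat p P C r t) {m : (QQ P C →* ℂˣ) → IrrCharacter G → ℕ} (hm : RigA.IsM m)
    (hcard : Nat.card P = p) (hN : Nat.card (normalizer (P : Set G)) = Nat.card C * t) {n : ℕ}
    (hn : (normalizer (P : Set G)).index = 1 + n * p) (hAlt : AltFail n p)
    {χ : IrrCharacter G} (hw : D.w χ = -1) (hχ : χ ≠ oneIrr G) (f₀ : NT P) {z : ↥P} (hz : z ≠ 1) :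
    charDegree (χ : G → ℂ) = (normalizer (P : Set G)).index := by
  have hw' : D.w χ ≠ 0 := by rw [hw]; norm_num
  obtain ⟨u, hu⟩ := deg_minus H D hcard hw f₀
  obtain ⟨l, hl⟩ := exists_m_pos H D hm hcard (a_pos_of_minus H D hw f₀)
  have hle := deg_le_of_m H D hm hl
  by_contra hne
  have hu0 : 0 < u := by
    rcases Nat.eq_zero_or_pos u with h | h
    · exfalso
      apply hχ
      apply eq_one_of_degree_one hperf
      rw [hu, h]
      simp
    · exact h
  have hdvd := deg_dvd_of_w H D hN hw' f₀ hz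
  have hs : t ∣ p - 1 := ⟨Nat.card (Set.range D.ξ), by rw [← D.hrange, mul_comm]⟩
  have h1 := dvd_mul_succ hu hs H.prime.one_le hdvd
  obtain ⟨h, hh0, hh⟩ := alt3_core hu hn h1 hle hne H.prime.pos
  exact hAlt u h hu0 hh0 hh

/-- **The exceptional family has total degree `M` for `σ = -1`.** -/
theorem deg_xi_eq (hperf : _root_.commutator G = ⊤) (D : Dat p P C r t) {m : (QQ P C →* ℂˣ) → IrrCharacter G → ℕ} (hm : RigA.IsM m)
    (hidx : ¬ p ∣ P.index) (hcard : Nat.card P = p) (hN : Nat.card (normalizer (P : Set G)) = Nat.card C * t) {n : ℕ}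
    (hn : (normalizer (P : Set G)).index = 1 + n * p) (hAlt : AltFail n p) (hσ : D.σ = -1) (f₀ : NT P)
    (hξ : D.ξ f₀ ≠ oneIrr G) {z : ↥P} (hz : z ≠ 1) :
    (Jset D).card * charDegree ((D.ξ f₀ : IrrCharacter G) : G → ℂ) = (normalizer (P : Set G)).index := by
  classical
  have hp := H.prime
  have hnt : Nontrivial ↥P := ⟨⟨z, 1, hz⟩⟩
  set d := charDegree ((D.ξ f₀ : IrrCharacter G) : G → ℂ) with hd
  have hd0 : 0 < d := Cfsg.Agent.Lib.CharKernel.charDegree_pos (D.ξ f₀).2
  have ha : 1 ≤ D.a 1 (D.ξ f₀) := by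
    have h1 := D.hform2 f₀
    rw [hσ] at h1
    omega
  obtain ⟨l, hl⟩ := exists_m_pos H D hm hcard ha
  have hJ := card_Jset D
  set t' := (Jset D).card with ht'
  have hle : t' * d ≤ (normalizer (P : Set G)).index := by
    have h1 := sum_m_degree hm l
    have h2 : ∑ j ∈ Jset D, m l j * charDegree (j : G → ℂ) ≤ ∑ χ : IrrCharacter G, m l χ * charDegree (χ : G → ℂ) :=
      Finset.sum_le_sum_of_subset (Finset.subset_univ _)
    have h3 : ∑ j ∈ Jset D, d ≤ ∑ j ∈ Jset D, m l j * charDegree (j : G → ℂ) := by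
      refine Finset.sum_le_sum fun j hj => ?_
      obtain ⟨f, rfl⟩ := (mem_Jset D).1 hj
      rw [xi_deg H D f f₀, m_xi_const H D hm hidx hnt l f f₀]
      exact Nat.le_mul_of_pos_left _ hl
    rw [Finset.sum_const, smul_eq_mul] at h3
    rw [h1] at h2
    exact h3.trans h2
  obtain ⟨k, hk⟩ := xi_deg_eq H D hcard hN f₀
  rw [hσ] at hk
  have ht0 : 0 < t := by
    rcases Nat.eq_zero_or_pos t with h | h
    · rw [h, mul_zero] at hN
      exact absurd hN Nat.card_pos.ne'
    · exact h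
  obtain ⟨l', hl'⟩ : ∃ l' : ℕ, (l' : ℤ) = k := by
    have h1 : 0 < (p : ℤ) * k := by
      have h2 : (0 : ℤ) < d := by exact_mod_cast hd0
      have h3 : (0 : ℤ) < t := by exact_mod_cast ht0
      rw [hk] at h2
      linarith
    have h2 : 0 < k := (mul_pos_iff_of_pos_left (by exact_mod_cast hp.pos)).1 h1
    exact ⟨k.toNat, Int.toNat_of_nonneg h2.le⟩
  have hl1 : d + t = p * l' := by
    have : (d : ℤ) + t = p * l' := by rw [hl', hk]; ring
    exact_mod_cast this
  have hp1 : p - 1 + 1 = p := Nat.sub_add_cancel hp.one_le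
  have hcop : Nat.Coprime t p := by
    have h1 : t ∣ p - 1 := ⟨t', by rw [← hJ, mul_comm]⟩
    have h2 : Nat.Coprime (p - 1) p := by
      have := (Nat.coprime_self_add_right (m := p - 1) (n := 1)).2 (Nat.coprime_one_right _)
      rwa [hp1] at this
    exact Nat.Coprime.coprime_dvd_left h1 h2
  have hdvd := xi_dvd H D hN f₀ hz
  have hdl := dvd_mul_l hp hl1 hcop hd0 hdvd
  have hl0 : 0 < l' := by
    rcases Nat.eq_zero_or_pos l' with h | h
    · rw [h, mul_zero] at hl1
      omega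
    · exact h
  have ht'0 : 0 < t' := by
    rcases Nat.eq_zero_or_pos t' with h | h
    · exfalso
      have : f₀ ∈ (Finset.univ : Finset (NT P)) := Finset.mem_univ _
      have h1 : D.ξ f₀ ∈ Jset D := (mem_Jset D).2 ⟨f₀, rfl⟩
      rw [ht', Finset.card_eq_zero] at h
      rw [h] at h1
      exact absurd h1 (Finset.notMem_empty _)
    · exact h
  -- the arithmetic
  have hx : t' * d = (t' * l' - 1) * p + 1 := by
    obtain ⟨v, hv⟩ : ∃ v, t' * l' = v + 1 := ⟨t' * l' - 1, by
      have : 0 < t' * l' := Nat.mul_pos ht'0 hl0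
      omega⟩
    rw [hv, Nat.add_sub_cancel]
    have h1 : (t' : ℤ) * d = v * p + 1 := by
      have h2 : (d : ℤ) = p * l' - t := by
        have : (d : ℤ) + t = p * l' := by exact_mod_cast hl1
        linarith
      have h3 : (t' : ℤ) * t = (p : ℤ) - 1 := by
        have : (t' : ℤ) * t + 1 = p := by
          have : t' * t + 1 = p := by omega
          exact_mod_cast this
        linarith
      have h4 : (t' : ℤ) * l' = v + 1 := by exact_mod_cast hv
      rw [h2]
      calc (t' : ℤ) * (p * l' - t) = p * (t' * l') - t' * t := by ring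
        _ = p * (v + 1) - (p - 1) := by rw [h4, h3]
        _ = v * p + 1 := by ring
    exact_mod_cast h1
  by_contra hne
  set u := t' * l' - 1 with hu
  have hu0 : 0 < u := by
    rcases Nat.eq_zero_or_pos u with h | h
    · exfalso
      apply hξ
      rw [h, zero_mul, zero_add] at hx
      have h1 : d = 1 := Nat.eq_one_of_mul_eq_one_left hx
      exact eq_one_of_degree_one hperf _ h1
    · exact h
  have hu1 : u + 1 = t' * l' := by
    have : 0 < t' * l' := Nat.mul_pos ht'0 hl0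
    omega
  have h1 : t' * d ∣ (normalizer (P : Set G)).index * (u + 1) := by
    rw [hu1]
    obtain ⟨q, hq⟩ := hdl
    refine ⟨q, ?_⟩
    calc (normalizer (P : Set G)).index * (t' * l') = t' * ((normalizer (P : Set G)).index * l') := by ring
      _ = t' * (d * q) := by rw [hq]
      _ = t' * d * q := by ring
  obtain ⟨h, hh0, hh⟩ := alt3_core hx hn h1 hle hne hp.pos
  exact hAlt u h hu0 hh0 hh

end Pi

end Cfsg.Agent.Lib.RigC
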