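import Mathlib
import Cfsg.Agent.Lib.RigC

/-!
# The dichotomy for the induced characters `π_λ`

If the third alternative fails then, for `λ ≠ 1`, the induced character `π_λ` is an irreducible `+`-member of the
principal block, or the sum of the exceptional family.
-/

set_option autoImplicit false
set_option linter.style.haveILetI false
set_option linter.unusedSectionVars false
set_option linter.unusedVariables false

namespace Cfsg.Agent.Lib.RigD

open Cfsg Cfsg.Agent.Lib.CharBasic Subgroup Cfsg.Agent.Lib.DefectOne Cfsg.Agent.Lib.CharInd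
open Cfsg.Agent.Lib.TICent Cfsg.Agent.Lib.RigA Cfsg.Agent.Lib.RangeStruct Cfsg.Agent.Lib.RigB Cfsg.Agent.Lib.RigC
open scoped ComplexConjugate

variable {G : Type*} [Group G] [Fintype G] [DecidableEq G] {p : ℕ} {P C : Subgroup G} {r : ↥C →* ↥P} {e₀ : ℕ}

/-- The bundled context. -/
structure Ctx (p : ℕ) (P C : Subgroup G) (r : ↥C →* ↥P) (e₀ t n : ℕ) [Fintype C] [(cN P C).Normal]
    [Fintype ↥(normalizer (P : Set G))] where
  H : Hyp p P C r e₀
  D : Dat p P C r t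
  m : (QQ P C →* ℂˣ) → IrrCharacter G → ℕ
  hm : RigA.IsM m
  hperf : _root_.commutator G = ⊤
  hidx : ¬ p ∣ P.index
  hcard : Nat.card P = p
  hN : Nat.card (normalizer (P : Set G)) = Nat.card C * t
  hn : (normalizer (P : Set G)).index = 1 + n * p
  hAlt : AltFail n p
  f₀ : NT P
  z₀ : ↥P
  hz₀ : z₀ ≠ 1

section Main

variable {t n : ℕ} [Fintype C] [Fintype P] [Fintype r.ker] [Fintype (↥P →* ℂˣ)] [(cN P C).Normal]
  [Fintype ↥(normalizer (P : Set G))] [Fintype (QQ P C →* ℂˣ)]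

namespace Ctx

theorem deg_one : charDegree ((oneIrr G : IrrCharacter G) : G → ℂ) = 1 := by
  have h := Cfsg.Agent.Lib.CharKernel.one_eq_charDegree (IsIrrCharacter.isCharacter (oneIrr G).2)
  have h2 : ((oneIrr G : IrrCharacter G) : G → ℂ) 1 = 1 := rfl
  rw [h2] at h
  exact_mod_cast h.symm

/-- The trivial character and the coefficients. -/
theorem a_one_trivial (D : Dat p P C r t) (H : Hyp p P C r e₀) : D.a 1 (oneIrr G) = 1 := by
  have h := D.ha 1 (oneIrr G)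
  have h1 : (chi ((1 : ↥P →* ℂˣ).comp r)) = fun _ : ↥C => (1 : ℂ) := by
    funext c
    simp [chi]
  have h2 : (fun c : ↥C => ((oneIrr G : IrrCharacter G) : G → ℂ) c) = fun _ : ↥C => (1 : ℂ) := rfl
  rw [h1, h2, classInner_irr_self isIrrCharacter_one] at h
  exact_mod_cast h.symm

theorem a_ne_trivial (D : Dat p P C r t) (H : Hyp p P C r e₀) (f : NT P) : D.a f.1 (oneIrr G) = 0 := by
  have h := D.ha f.1 (oneIrr G)
  have h2 : (fun c : ↥C => ((oneIrr G : IrrCharacter G) : G → ℂ) c) = fun _ : ↥C => (1 : ℂ) := rfl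
  have h3 : chi (f.1.comp r) ≠ fun _ : ↥C => (1 : ℂ) := by
    intro h4
    apply f.2
    apply MonoidHom.ext
    intro z
    apply Units.ext
    have h5 := congrFun h4 ⟨z, H.le z.2⟩
    unfold chi at h5
    have h6 : r ⟨z, H.le z.2⟩ = z := H.id z
    simp only [MonoidHom.comp_apply, h6] at h5
    simpa using h5
  rw [h2, classInner_irr_ne (isIrr_chi _) isIrrCharacter_one h3] at h
  exact_mod_cast h.symm

variable (R : Ctx p P C r e₀ t n)
include R

theorem nt : Nontrivial ↥P := ⟨⟨R.z₀, 1, R.hz₀⟩⟩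

theorem deg_v {χ : IrrCharacter G} (hw : R.D.w χ = -1) (hχ : χ ≠ oneIrr G) :
    charDegree (χ : G → ℂ) = (normalizer (P : Set G)).index :=
  deg_minus_eq R.H R.hperf R.D R.hm R.hcard R.hN R.hn R.hAlt hw hχ R.f₀ R.hz₀

theorem deg_J (hσ : R.D.σ = -1) (hξ : R.D.ξ R.f₀ ≠ oneIrr G) :
    (Jset R.D).card * charDegree ((R.D.ξ R.f₀ : IrrCharacter G) : G → ℂ) = (normalizer (P : Set G)).index :=
  deg_xi_eq R.H R.hperf R.D R.hm R.hidx R.hcard R.hN R.hn R.hAlt hσ R.f₀ hξ R.hz₀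

theorem xi_ne_one (hξ : R.D.ξ R.f₀ ≠ oneIrr G) (f : NT P) : R.D.ξ f ≠ oneIrr G := by
  intro h
  apply hξ
  apply eq_one_of_degree_one R.hperf
  rw [xi_deg R.H R.D R.f₀ f, h, deg_one]

theorem sum_J (hσ : R.D.σ = -1) (hξ : R.D.ξ R.f₀ ≠ oneIrr G) :
    ∑ j ∈ Jset R.D, charDegree (j : G → ℂ) = (normalizer (P : Set G)).index := by
  rw [← R.deg_J hσ hξ, ← smul_eq_mul, ← Finset.sum_const]
  refine Finset.sum_congr rfl fun j hj => ?_
  obtain ⟨f, rfl⟩ := (mem_Jset R.D).1 hj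
  exact xi_deg R.H R.D f R.f₀

theorem m_J_pos {l : QQ P C →* ℂˣ} (hl : 1 ≤ R.m l (R.D.ξ R.f₀)) {j : IrrCharacter G} (hj : j ∈ Jset R.D) :
    1 ≤ R.m l j := by
  obtain ⟨f, rfl⟩ := (mem_Jset R.D).1 hj
  rwa [m_xi_const R.H R.D R.hm R.hidx R.nt l f R.f₀]

/-- **The dichotomy** for `λ ≠ 1`. -/
theorem pi_cases {l : QQ P C →* ℂˣ} (hl : l ≠ 1) :
    (∃ v : IrrCharacter G, R.D.w v = -1 ∧ v ≠ oneIrr G ∧ ∀ χ, R.m l χ = if χ = v then 1 else 0) ∨
    (R.D.σ = -1 ∧ R.D.ξ R.f₀ ≠ oneIrr G ∧ ∀ χ, R.m l χ = if χ ∈ Jset R.D then 1 else 0) := by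
  classical
  have hone : R.m l (oneIrr G) = 0 := by
    rw [m_one R.hm l, if_neg hl]
  by_cases hv : ∃ v : IrrCharacter G, R.D.w v = -1 ∧ 1 ≤ R.m l v
  · left
    obtain ⟨v, hw, hv⟩ := hv
    have hne : v ≠ oneIrr G := by
      rintro rfl
      omega
    refine ⟨v, hw, hne, fun χ => ?_⟩
    have h1 := m_eq_of_sum R.hm l {v} (by rw [Finset.sum_singleton]; exact R.deg_v hw hne)
      (by intro j hj; rw [Finset.mem_singleton.1 hj]; exact hv) χ
    rw [h1]
    simp only [Finset.mem_singleton]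
  · right
    push Not at hv
    have h := one_eq R.H R.D R.hm R.hidx R.nt l R.f₀
    have hnn : 0 ≤ ∑ χ : IrrCharacter G, (R.m l χ : ℤ) * R.D.w χ := by
      refine Finset.sum_nonneg fun χ _ => ?_
      by_cases h0 : R.m l χ = 0
      · rw [h0]; simp
      · have h1 : R.D.w χ ≠ -1 := fun h2 => by
          have := hv χ h2
          omega
        rcases R.D.hval χ with h2 | h2 | h2
        · rw [h2]; simp
        · rw [h2]; simp
        · exact absurd h2 h1
    have hσ : R.D.σ = -1 := by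
      rcases R.D.hσ with h1 | h1
      · rw [h1] at h
        have : (0 : ℤ) ≤ R.m l (R.D.ξ R.f₀) := by positivity
        omega
      · exact h1
    have hpos : 1 ≤ R.m l (R.D.ξ R.f₀) := by
      rw [hσ] at h
      omega
    have hξ : R.D.ξ R.f₀ ≠ oneIrr G := by
      intro h1
      rw [h1] at hpos
      omega
    refine ⟨hσ, hξ, fun χ => ?_⟩
    exact m_eq_of_sum R.hm l (Jset R.D) (R.sum_J hσ hξ) (fun j hj => R.m_J_pos hpos hj) χ

theorem one_le_deg (χ : IrrCharacter G) : 1 ≤ charDegree (χ : G → ℂ) :=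
  Cfsg.Agent.Lib.CharKernel.charDegree_pos χ.2

/-- The trivial character occurs in `π_1`. -/
theorem m_one_one : R.m 1 (oneIrr G) = 1 := by
  classical
  rw [m_one R.hm 1, if_pos rfl]

/-- A `+`-member does not occur in `π_1`. -/
theorem m_one_v {v : IrrCharacter G} (hw : R.D.w v = -1) (hv : v ≠ oneIrr G) : R.m 1 v = 0 := by
  classical
  by_contra h
  have h1 := sum_m_degree R.hm 1
  have hd := R.deg_v hw hv
  have h2 : ∑ χ ∈ ({oneIrr G, v} : Finset (IrrCharacter G)), R.m 1 χ * charDegree (χ : G → ℂ) ≤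
      ∑ χ : IrrCharacter G, R.m 1 χ * charDegree (χ : G → ℂ) :=
    Finset.sum_le_sum_of_subset (Finset.subset_univ _)
  rw [Finset.sum_pair hv.symm, h1, R.m_one_one, hd, deg_one] at h2
  have h3 : (normalizer (P : Set G)).index ≤ R.m 1 v * (normalizer (P : Set G)).index :=
    Nat.le_mul_of_pos_left _ (Nat.pos_of_ne_zero h)
  omega

/-- Exceptional characters do not occur in `π_1` when `σ = -1`, `ξ ≠ 1`. -/
theorem m_one_xi (hσ : R.D.σ = -1) (hξ : R.D.ξ R.f₀ ≠ oneIrr G) : R.m 1 (R.D.ξ R.f₀) = 0 := by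
  classical
  by_contra h
  have hpos : 1 ≤ R.m 1 (R.D.ξ R.f₀) := Nat.pos_of_ne_zero h
  have h1 := sum_m_degree R.hm 1
  have h2 : ∑ χ ∈ insert (oneIrr G) (Jset R.D), R.m 1 χ * charDegree (χ : G → ℂ) ≤
      ∑ χ : IrrCharacter G, R.m 1 χ * charDegree (χ : G → ℂ) :=
    Finset.sum_le_sum_of_subset (Finset.subset_univ _)
  have hnot : oneIrr G ∉ Jset R.D := by
    intro h3
    obtain ⟨f, hf⟩ := (mem_Jset R.D).1 h3
    exact R.xi_ne_one hξ f hf
  rw [Finset.sum_insert hnot, h1, R.m_one_one, deg_one] at h2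
  have h3 : ∑ j ∈ Jset R.D, charDegree (j : G → ℂ) ≤ ∑ j ∈ Jset R.D, R.m 1 j * charDegree (j : G → ℂ) :=
    Finset.sum_le_sum fun j hj => Nat.le_mul_of_pos_left _ (R.m_J_pos hpos hj)
  rw [R.sum_J hσ hξ] at h3
  omega

/-- The value of `w` at the trivial character. -/
theorem w_one (h1J : R.D.ξ R.f₀ ≠ oneIrr G) : R.D.w (oneIrr G) = -1 := by
  have h := R.D.hform1 R.f₀ (oneIrr G) h1J.symm
  rw [a_ne_trivial R.D R.H, a_one_trivial R.D R.H] at h
  simpa using h.symm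

/-- If the exceptional character is trivial, then `σ = -1`. -/
theorem σ_of_one (h1J : R.D.ξ R.f₀ = oneIrr G) : R.D.σ = -1 := by
  have h := R.D.hform2 R.f₀
  rw [h1J, a_ne_trivial R.D R.H, a_one_trivial R.D R.H] at h
  simpa using h.symm

/-- Each term of the equation at `l = 1` vanishes. -/
theorem m_one_plus_aux : (∑ χ : IrrCharacter G, if R.D.w χ = 1 then (R.m 1 χ : ℤ) else 0) +
    (if R.D.σ = 1 then (R.m 1 (R.D.ξ R.f₀) : ℤ) else 0) = 0 := by
  classical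
  have h := one_eq R.H R.D R.hm R.hidx R.nt 1 R.f₀
  have hterm : ∀ χ : IrrCharacter G, χ ≠ oneIrr G →
      (R.m 1 χ : ℤ) * R.D.w χ = if R.D.w χ = 1 then (R.m 1 χ : ℤ) else 0 := by
    intro χ hχ
    rcases R.D.hval χ with h2 | h2 | h2
    · rw [h2]; simp
    · rw [h2]; simp
    · rw [R.m_one_v h2 hχ, h2]; simp
  rw [Fintype.sum_eq_add_sum_subtype_ne _ (oneIrr G), R.m_one_one] at h
  have h5 : ∑ χ : IrrCharacter G, (if R.D.w χ = 1 then (R.m 1 χ : ℤ) else 0) =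
      (if R.D.w (oneIrr G) = 1 then (R.m 1 (oneIrr G) : ℤ) else 0) +
        ∑ χ : {χ : IrrCharacter G // χ ≠ oneIrr G}, (if R.D.w χ.1 = 1 then (R.m 1 χ.1 : ℤ) else 0) := by
    rw [Fintype.sum_eq_add_sum_subtype_ne _ (oneIrr G)]
  rw [h5]
  have h6 : ∑ χ : {χ : IrrCharacter G // χ ≠ oneIrr G}, (R.m 1 χ.1 : ℤ) * R.D.w χ.1 =
      ∑ χ : {χ : IrrCharacter G // χ ≠ oneIrr G}, (if R.D.w χ.1 = 1 then (R.m 1 χ.1 : ℤ) else 0) :=
    Finset.sum_congr rfl fun χ _ => hterm χ.1 χ.2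
  rw [h6] at h
  by_cases h1J : R.D.ξ R.f₀ = oneIrr G
  · have hσ := R.σ_of_one h1J
    have hw0 : R.D.w (oneIrr G) = 0 := by
      rw [← h1J]
      exact R.D.hw0 _
    rw [hσ, h1J, R.m_one_one, hw0] at h
    rw [hσ, hw0, if_neg (by norm_num), if_neg (by norm_num)]
    push_cast at h
    simp only [mul_zero, zero_add, mul_one] at h ⊢
    omega
  · rw [R.w_one h1J] at h
    rw [R.w_one h1J, if_neg (by norm_num)]
    by_cases hσ : R.D.σ = 1
    · rw [hσ] at h
      rw [hσ, if_pos rfl]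
      push_cast at h
      omega
    · have hσ' : R.D.σ = -1 := by
        rcases R.D.hσ with h1 | h1
        · exact absurd h1 hσ
        · exact h1
      rw [if_neg hσ]
      rw [hσ', R.m_one_xi hσ' h1J] at h
      push_cast at h
      omega

theorem m_one_plus {χ : IrrCharacter G} (hw : R.D.w χ = 1) : R.m 1 χ = 0 := by
  classical
  have h := R.m_one_plus_aux
  have h1 : 0 ≤ ∑ χ : IrrCharacter G, (if R.D.w χ = 1 then (R.m 1 χ : ℤ) else 0) :=
    Finset.sum_nonneg fun χ _ => by split_ifs <;> positivity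
  have h2 : (0 : ℤ) ≤ (if R.D.σ = 1 then (R.m 1 (R.D.ξ R.f₀) : ℤ) else 0) := by split_ifs <;> positivity
  have h3 : ∑ χ : IrrCharacter G, (if R.D.w χ = 1 then (R.m 1 χ : ℤ) else 0) = 0 := by omega
  have h4 := (Finset.sum_eq_zero_iff_of_nonneg (fun χ _ => by split_ifs <;> positivity)).1 h3 χ (Finset.mem_univ _)
  rw [if_pos hw] at h4
  exact_mod_cast h4

theorem m_one_xi_plus (hσ : R.D.σ = 1) : R.m 1 (R.D.ξ R.f₀) = 0 := by
  classical
  have h := R.m_one_plus_aux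
  have h1 : 0 ≤ ∑ χ : IrrCharacter G, (if R.D.w χ = 1 then (R.m 1 χ : ℤ) else 0) :=
    Finset.sum_nonneg fun χ _ => by split_ifs <;> positivity
  rw [if_pos hσ] at h
  have h2 : (0 : ℤ) ≤ (R.m 1 (R.D.ξ R.f₀) : ℤ) := by positivity
  have h3 : (R.m 1 (R.D.ξ R.f₀) : ℤ) = 0 := by omega
  exact_mod_cast h3

/-- `w = +1` members are in no `π_λ`. -/
theorem m_plus {χ : IrrCharacter G} (hw : R.D.w χ = 1) (l : QQ P C →* ℂˣ) : R.m l χ = 0 := by
  classical
  by_cases hl : l = 1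
  · rw [hl]
    exact R.m_one_plus hw
  · rcases R.pi_cases hl with ⟨v, hv, -, h⟩ | ⟨-, -, h⟩
    · rw [h, if_neg]
      rintro rfl
      rw [hv] at hw
      norm_num at hw
    · rw [h, if_neg]
      intro hj
      obtain ⟨f, rfl⟩ := (mem_Jset R.D).1 hj
      rw [R.D.hw0] at hw
      norm_num at hw

theorem a_plus {χ : IrrCharacter G} (hw : R.D.w χ = 1) : R.D.a 1 χ = 0 := by
  rw [← m_sum R.H R.D R.hm R.hcard χ]
  exact Finset.sum_eq_zero fun l _ => R.m_plus hw l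

/-- Exceptional characters are in no `π_λ` when `σ = +1`. -/
theorem m_xi_plus (hσ : R.D.σ = 1) (l : QQ P C →* ℂˣ) (f : NT P) : R.m l (R.D.ξ f) = 0 := by
  classical
  rw [m_xi_const R.H R.D R.hm R.hidx R.nt l f R.f₀]
  by_cases hl : l = 1
  · rw [hl]
    exact R.m_one_xi_plus hσ
  · rcases R.pi_cases hl with ⟨v, hv, -, h⟩ | ⟨h1, -, -⟩
    · rw [h, if_neg]
      intro h2
      rw [← h2, R.D.hw0] at hv
      norm_num at hv
    · rw [hσ] at h1
      norm_num at h1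

theorem a_xi_plus (hσ : R.D.σ = 1) (f : NT P) : R.D.a 1 (R.D.ξ f) = 0 := by
  rw [← m_sum R.H R.D R.hm R.hcard _]
  exact Finset.sum_eq_zero fun l _ => R.m_xi_plus hσ l f

/-- `π_λ` has no `w = 0` non-exceptional members for `l ≠ 1`. -/
theorem m_zero_of {χ : IrrCharacter G} (hw : R.D.w χ = 0) (hχ : ∀ f, χ ≠ R.D.ξ f) {l : QQ P C →* ℂˣ} (hl : l ≠ 1) :
    R.m l χ = 0 := by
  classical
  rcases R.pi_cases hl with ⟨v, hv, -, h⟩ | ⟨-, -, h⟩
  · rw [h, if_neg]
    rintro rfl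
    rw [hv] at hw
    norm_num at hw
  · rw [h, if_neg]
    intro hj
    obtain ⟨f, rfl⟩ := (mem_Jset R.D).1 hj
    exact hχ f rfl

/-- The number of linear characters. -/
theorem card_QQ_dual : Fintype.card (QQ P C →* ℂˣ) = t := by
  have hc := comm_QQ R.H R.hcard
  rw [← Nat.card_eq_fintype_card, card_hom hc]
  have h := R.hN
  have h3 := Subgroup.card_mul_index (C.subgroupOf (normalizer (P : Set G)))
  have h4 : Nat.card (C.subgroupOf (normalizer (P : Set G))) = Nat.card C :=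
    Nat.card_congr (Subgroup.subgroupOfEquivOfLe R.H.le_normalizer).toEquiv
  rw [h4, h] at h3
  have h5 : (C.subgroupOf (normalizer (P : Set G))).index = t := Nat.eq_of_mul_eq_mul_left Nat.card_pos h3
  rw [← h5]
  rfl

/-- The summed equation. -/
theorem sum_eq : (t : ℤ) + ∑ χ : IrrCharacter G, (R.D.a 1 χ : ℤ) * R.D.w χ + R.D.σ * (R.D.a 1 (R.D.ξ R.f₀) : ℤ) = 0 := by
  have h := Finset.sum_congr (rfl : (Finset.univ : Finset (QQ P C →* ℂˣ)) = Finset.univ)
    (fun l _ => one_eq R.H R.D R.hm R.hidx R.nt l R.f₀)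
  rw [Finset.sum_const_zero, Finset.sum_add_distrib, Finset.sum_add_distrib, Finset.sum_const, Finset.card_univ,
    R.card_QQ_dual, Finset.sum_comm, ← Finset.mul_sum] at h
  have h2 : ∀ χ : IrrCharacter G, ∑ l : QQ P C →* ℂˣ, (R.m l χ : ℤ) * R.D.w χ = (R.D.a 1 χ : ℤ) * R.D.w χ := by
    intro χ
    rw [← Finset.sum_mul, ← m_sum R.H R.D R.hm R.hcard χ]
    push_cast
    rfl
  simp_rw [h2] at h
  have h3 : ∑ l : QQ P C →* ℂˣ, (R.m l (R.D.ξ R.f₀) : ℤ) = (R.D.a 1 (R.D.ξ R.f₀) : ℤ) := by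
    rw [← m_sum R.H R.D R.hm R.hcard _]
    push_cast
    rfl
  rw [h3] at h
  simpa using h

end Ctx

end Main

end Cfsg.Agent.Lib.RigD
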