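import Mathlib
import Cfsg.Agent.Lib.RigD

/-!
# The self-centralizing case: degrees, counts and values on the normalizer
-/

set_option autoImplicit false
set_option linter.style.haveILetI false
set_option linter.unusedSectionVars false
set_option linter.unusedVariables false
set_option linter.unusedSimpArgs false

namespace Cfsg.Agent.Lib.RigE

open Cfsg Cfsg.Agent.Lib.CharBasic Subgroup Cfsg.Agent.Lib.DefectOne Cfsg.Agent.Lib.CharInd
open Cfsg.Agent.Lib.TICent Cfsg.Agent.Lib.RigA Cfsg.Agent.Lib.RangeStruct Cfsg.Agent.Lib.RigB Cfsg.Agent.Lib.RigC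
open Cfsg.Agent.Lib.RigD
open scoped ComplexConjugate

variable {G : Type*} [Group G] [Fintype G] [DecidableEq G] {p : ℕ} {P : Subgroup G} {e₀ : ℕ}

/-- The conjugates in a coset. -/
theorem exists_conj_coset (H : Hyp p P P (MonoidHom.id ↥P) e₀) {x₀ : G} (hx : x₀ ∈ normalizer (P : Set G)) (hnot : x₀ ∉ P) (c : G) (hc : c ∈ P) :
    ∃ y ∈ P, y⁻¹ * x₀ * y = x₀ * c := by
  classical
  haveI : Finite ↥P := inferInstance
  let f : ↥P → ↥P := fun y => ⟨x₀⁻¹ * (y : G)⁻¹ * x₀ * y, P.mul_mem (by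
    have := H.conj_mem ⟨x₀, hx⟩ ⟨(y : G)⁻¹, P.inv_mem y.2⟩
    simpa using this) y.2⟩
  have hf : Function.Injective f := by
    intro a b hab
    have h1 : x₀⁻¹ * (a : G)⁻¹ * x₀ * a = x₀⁻¹ * (b : G)⁻¹ * x₀ * b := congrArg Subtype.val hab
    have h2 : (a : G)⁻¹ * x₀ * a = (b : G)⁻¹ * x₀ * b := by
      have h3 : x₀ * (x₀⁻¹ * (a : G)⁻¹ * x₀ * a) = x₀ * (x₀⁻¹ * (b : G)⁻¹ * x₀ * b) := by rw [h1]
      simpa [mul_assoc] using h3
    by_contra hne
    set w : G := (b : G) * (a : G)⁻¹ with hw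
    have hwP : w ∈ P := P.mul_mem b.2 (P.inv_mem a.2)
    have hw1 : w ≠ 1 := by
      intro h
      apply hne
      apply Subtype.ext
      rw [hw, mul_inv_eq_one] at h
      exact h.symm
    have hmem : x₀ ∈ centralizer ({w} : Set G) := by
      rw [mem_centralizer_singleton_iff]
      have h4 : (b : G) * ((a : G)⁻¹ * x₀ * a) * (b : G)⁻¹ = x₀ := by
        rw [h2]
        group
      rw [hw]
      calc x₀ * ((b : G) * (a : G)⁻¹) = ((b : G) * ((a : G)⁻¹ * x₀ * a) * (b : G)⁻¹) * ((b : G) * (a : G)⁻¹) := by rw [h4]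
        _ = (b : G) * (a : G)⁻¹ * x₀ := by group
    rw [H.star w hwP hw1] at hmem
    exact hnot hmem
  obtain ⟨y, hy⟩ := (Finite.injective_iff_surjective.1 hf) ⟨c, hc⟩
  refine ⟨y, y.2, ?_⟩
  have h1 : x₀⁻¹ * (y : G)⁻¹ * x₀ * y = c := congrArg Subtype.val hy
  rw [← h1]
  group

section Main

variable {t n : ℕ} [Fintype P] [Fintype (MonoidHom.id ↥P).ker] [Fintype (↥P →* ℂˣ)] [(cN P P).Normal]
  [Fintype ↥(normalizer (P : Set G))] [Fintype (QQ P P →* ℂˣ)]

variable (R : Ctx p P P (MonoidHom.id ↥P) e₀ t n)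
include R

theorem card_dual' : Fintype.card (↥P →* ℂˣ) = p := by
  rw [← Nat.card_eq_fintype_card, card_dual (comm_P R.H), R.hcard]

/-- The degree as the sum of the coefficients. -/
theorem deg_eq_sum (χ : IrrCharacter G) : charDegree (χ : G → ℂ) = ∑ f : ↥P →* ℂˣ, R.D.a f χ := by
  have h := sum_classInner (comm_P R.H) (fun c : ↥P => (χ : G → ℂ) c)
  have h1 : ∀ f : ↥P →* ℂˣ, classInner (chi f) (fun c : ↥P => (χ : G → ℂ) c) = (R.D.a f χ : ℂ) := by
    intro f
    have := R.D.ha f χ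
    rwa [MonoidHom.comp_id] at this
  simp_rw [h1] at h
  have h2 : (χ : G → ℂ) ((1 : ↥P) : G) = (charDegree (χ : G → ℂ) : ℂ) :=
    Cfsg.Agent.Lib.CharKernel.one_eq_charDegree (IsIrrCharacter.isCharacter χ.2)
  rw [h2] at h
  simp only [map_natCast] at h
  exact_mod_cast h.symm

theorem deg_eq_z (χ : IrrCharacter G) :
    (charDegree (χ : G → ℂ) : ℤ) = p * R.D.a 1 χ + ∑ f : ↥P →* ℂˣ, ((R.D.a f χ : ℤ) - R.D.a 1 χ) := by
  rw [deg_eq_sum R χ]
  push_cast
  rw [Finset.sum_sub_distrib, Finset.sum_const, Finset.card_univ, card_dual' R]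
  simp

/-- Degree of a non-exceptional member. -/
theorem deg_of_not {χ : IrrCharacter G} (hχ : ∀ f : NT P, χ ≠ R.D.ξ f) :
    (charDegree (χ : G → ℂ) : ℤ) = p * R.D.a 1 χ + ((p : ℤ) - 1) * R.D.w χ := by
  rw [deg_eq_z R χ, sum_sub_of_w R.H R.D R.hcard χ hχ]

/-- Degree of an exceptional member. -/
theorem deg_of_xi (f : NT P) :
    (charDegree ((R.D.ξ f : IrrCharacter G) : G → ℂ) : ℤ) = p * R.D.a 1 (R.D.ξ f) + R.D.σ * t := by
  rw [deg_eq_z R, sum_sub_xi R.H R.D R.hN f]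

/-- `a_1` of a `+`-member. -/
theorem a_v {v : IrrCharacter G} (hw : R.D.w v = -1) (hv : v ≠ oneIrr G) : R.D.a 1 v = n + 1 := by
  have hp := R.H.prime.pos
  have h1 := deg_of_not R (χ := v) (not_eq_xi_of_w R.D (by rw [hw]; norm_num))
  rw [R.deg_v hw hv, R.hn, hw] at h1
  push_cast at h1
  have h2 : (p : ℤ) * R.D.a 1 v = p * (n + 1) := by linarith
  have h3 : (p : ℤ) ≠ 0 := by exact_mod_cast hp.ne'
  have h4 := mul_left_cancel₀ h3 h2
  exact_mod_cast h4

/-- Degree of a `w = 1` member. -/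
theorem deg_plus_K {χ : IrrCharacter G} (hw : R.D.w χ = 1) : charDegree (χ : G → ℂ) + 1 = p := by
  have h1 := deg_of_not R (χ := χ) (not_eq_xi_of_w R.D (by rw [hw]; norm_num))
  rw [R.a_plus hw, hw] at h1
  push_cast at h1
  have h2 : (charDegree (χ : G → ℂ) : ℤ) + 1 = p := by linarith
  exact_mod_cast h2

/-- Degree of a `w = 0` non-exceptional member. -/
theorem deg_zero {χ : IrrCharacter G} (hw : R.D.w χ = 0) (hχ : ∀ f, χ ≠ R.D.ξ f) :
    charDegree (χ : G → ℂ) = p * R.m 1 χ := by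
  have h1 := deg_of_not R hχ
  have h2 : R.D.a 1 χ = R.m 1 χ := by
    classical
    rw [← m_sum R.H R.D R.hm R.hcard χ]
    exact Finset.sum_eq_single 1 (fun l _ hl => R.m_zero_of hw hχ hl) (by simp)
  rw [hw, h2] at h1
  have h3 : (charDegree (χ : G → ℂ) : ℤ) = p * R.m 1 χ := by linarith
  exact_mod_cast h3

/-- The set of `+`-members different from the trivial character. -/
noncomputable def Aset (_R : Ctx p P P (MonoidHom.id ↥P) e₀ t n) : Finset (IrrCharacter G) := by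
  classical
  exact Finset.univ.filter fun χ => _R.D.w χ = -1 ∧ χ ≠ oneIrr G

/-- The set of `-`-members. -/
noncomputable def Bset (_R : Ctx p P P (MonoidHom.id ↥P) e₀ t n) : Finset (IrrCharacter G) := by
  classical
  exact Finset.univ.filter fun χ => _R.D.w χ = 1

omit R in
theorem mem_Aset {χ : IrrCharacter G} (R : Ctx p P P (MonoidHom.id ↥P) e₀ t n) : χ ∈ (Aset R) ↔ R.D.w χ = -1 ∧ χ ≠ oneIrr G := by
  classical
  simp [Aset]

omit R in
theorem mem_Bset {χ : IrrCharacter G} (R : Ctx p P P (MonoidHom.id ↥P) e₀ t n) : χ ∈ (Bset R) ↔ R.D.w χ = 1 := by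
  classical
  simp [Bset]

/-- The norm equation. -/
theorem count_norm : (t : ℤ) = (if R.D.w (oneIrr G) = -1 then 1 else 0) + (Aset R).card + (Bset R).card := by
  classical
  rw [← R.D.hnorm]
  have h1 : ∀ χ : IrrCharacter G, (R.D.w χ) ^ 2 =
      (if χ = oneIrr G ∧ R.D.w χ = -1 then 1 else 0) + (if χ ∈ (Aset R) then 1 else 0) + (if χ ∈ (Bset R) then 1 else 0) := by
    intro χ
    simp only [mem_Aset R, mem_Bset R]
    rcases R.D.hval χ with h | h | h <;> by_cases h1 : χ = oneIrr G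
    · subst h1
      simp [h]
    · simp [h, h1]
    · subst h1
      simp [h]
    · simp [h, h1]
    · subst h1
      simp [h]
    · simp [h, h1]
  simp_rw [h1]
  rw [Finset.sum_add_distrib, Finset.sum_add_distrib]
  congr 1
  · congr 1
    · by_cases h2 : R.D.w (oneIrr G) = -1
      · rw [if_pos h2, Finset.sum_eq_single (oneIrr G)]
        · rw [if_pos ⟨rfl, h2⟩]
        · intro b _ hb
          rw [if_neg (fun h3 => hb h3.1)]
        · simp
      · rw [if_neg h2]
        refine Finset.sum_eq_zero fun χ _ => ?_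
        rw [if_neg]
        rintro ⟨rfl, h3⟩
        exact h2 h3
    · rw [Finset.sum_boole]
      simp
  · rw [Finset.sum_boole]
    simp

/-- The summed equation in terms of the counts. -/
theorem count_sum : (t : ℤ) + R.D.w (oneIrr G) - (Aset R).card * (n + 1) + R.D.σ * (R.D.a 1 (R.D.ξ R.f₀) : ℤ) = 0 := by
  classical
  have h := R.sum_eq
  have h1 : ∀ χ : IrrCharacter G, (R.D.a 1 χ : ℤ) * R.D.w χ =
      (if χ = oneIrr G then R.D.w (oneIrr G) else 0) + (if χ ∈ (Aset R) then -((n : ℤ) + 1) else 0) := by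
    intro χ
    by_cases h1 : χ = oneIrr G
    · subst h1
      rw [if_pos rfl, if_neg (fun h2 => ((mem_Aset R).1 h2).2 rfl), Ctx.a_one_trivial R.D R.H]
      simp
    · rw [if_neg h1, zero_add]
      rcases R.D.hval χ with h2 | h2 | h2
      · rw [if_neg (fun h3 => by rw [((mem_Aset R).1 h3).1] at h2; norm_num at h2), h2]
        simp
      · rw [if_neg (fun h3 => by rw [((mem_Aset R).1 h3).1] at h2; norm_num at h2), R.a_plus h2]
        simp
      · rw [if_pos ((mem_Aset R).2 ⟨h2, h1⟩), h2, a_v R h2 h1]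
        push_cast
        ring
  simp_rw [h1] at h
  rw [Finset.sum_add_distrib, Finset.sum_ite_eq' Finset.univ (oneIrr G), if_pos (Finset.mem_univ _), Finset.sum_ite_mem,
    Finset.univ_inter, Finset.sum_const, nsmul_eq_mul] at h
  linarith

/-- The relation `T l₀ = n + 1`. -/
theorem T_l (hσ : R.D.σ = -1) (hξ : R.D.ξ R.f₀ ≠ oneIrr G) :
    (Jset R.D).card * R.D.a 1 (R.D.ξ R.f₀) = n + 1 := by
  have hp := R.H.prime
  have h1 := R.deg_J hσ hξ
  have h2 := deg_of_xi R R.f₀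
  rw [hσ] at h2
  have h3 := card_Jset R.D
  rw [R.hn] at h1
  set T := (Jset R.D).card with hT
  set d := charDegree ((R.D.ξ R.f₀ : IrrCharacter G) : G → ℂ) with hd
  set l₀ := R.D.a 1 (R.D.ξ R.f₀) with hl₀
  have h4 : (T : ℤ) * d = 1 + n * p := by exact_mod_cast h1
  have h5 : (T : ℤ) * t = (p : ℤ) - 1 := by
    have h6 : T * t + 1 = p := by
      rw [h3]
      exact Nat.sub_add_cancel hp.one_le
    have h7 : ((T * t + 1 : ℕ) : ℤ) = p := by rw [h6]
    push_cast at h7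
    linarith
  rw [h2] at h4
  have h6 : (p : ℤ) * (T * l₀) = p * (n + 1) := by
    have h8 : (T : ℤ) * (p * l₀ + -1 * t) = p * (T * l₀) - T * t := by ring
    rw [h8, h5] at h4
    linarith
  have h7 : (p : ℤ) ≠ 0 := by exact_mod_cast hp.pos.ne'
  have h8 := mul_left_cancel₀ h7 h6
  exact_mod_cast h8

/-- The number of the `l`. -/
theorem count_t (hξ : R.D.ξ R.f₀ ≠ oneIrr G) : (t : ℤ) = 1 + (Aset R).card * (n + 1) - R.D.σ * (R.D.a 1 (R.D.ξ R.f₀) : ℤ) := by
  have h := count_sum R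
  rw [R.w_one hξ] at h
  linarith

/-- `n + 1` divides `t - 1` when the exceptional family has one member. -/
theorem dvd_of_T_one (hT : (Jset R.D).card = 1) : (n + 1) ∣ t - 1 := by
  have ht : 1 ≤ t := by
    have h := count_norm R
    by_contra h0
    have ht0 : t = 0 := by omega
    have h3 := R.hN
    rw [ht0, mul_zero] at h3
    exact Nat.card_pos.ne' h3
  have key : ∃ k : ℤ, (t : ℤ) - 1 = k * ((n : ℤ) + 1) := by
    by_cases hξ : R.D.ξ R.f₀ = oneIrr G
    · have hσ := R.σ_of_one hξ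
      have h := count_sum R
      have hw0 : R.D.w (oneIrr G) = 0 := by
        rw [← hξ]
        exact R.D.hw0 _
      rw [hσ, hξ, Ctx.a_one_trivial R.D R.H, hw0] at h
      refine ⟨(Aset R).card, ?_⟩
      push_cast at h
      linarith
    · have h := count_t R hξ
      rcases R.D.hσ with hσ | hσ
      · rw [hσ, R.a_xi_plus hσ] at h
        refine ⟨(Aset R).card, ?_⟩
        push_cast at h
        linarith
      · have h2 := T_l R hσ hξ
        rw [hT, one_mul] at h2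
        rw [hσ, h2] at h
        refine ⟨((Aset R).card : ℤ) + 1, ?_⟩
        push_cast at h
        linarith
  obtain ⟨k, hk⟩ := key
  have h1 : ((n + 1 : ℕ) : ℤ) ∣ ((t - 1 : ℕ) : ℤ) := by
    refine ⟨k, ?_⟩
    push_cast [ht]
    linarith
  exact_mod_cast h1

/-- **Lemma F**: the values off `P`. -/
theorem val_N (χ : IrrCharacter G) {x₀ : ↥(normalizer (P : Set G))} (hx : (x₀ : G) ∉ P) :
    (χ : G → ℂ) x₀ = ∑ l : QQ P P →* ℂˣ, (R.m l χ : ℂ) * lam l x₀ := by
  have hQ := comm_QQ R.H R.hcard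
  have h1 := sum_inner_lam hQ R.H.le_normalizer (fun x : ↥(normalizer (P : Set G)) => (χ : G → ℂ) x) x₀
  have h2 : ∀ c : ↥P, conj ((χ : G → ℂ) ((x₀ * ⟨c, R.H.le_normalizer c.2⟩ : ↥(normalizer (P : Set G))) : G)) =
      conj ((χ : G → ℂ) x₀) := by
    intro c
    congr 1
    obtain ⟨y, hy, hyc⟩ := exists_conj_coset R.H x₀.2 hx c c.2
    have h3 : ((x₀ * ⟨c, R.H.le_normalizer c.2⟩ : ↥(normalizer (P : Set G))) : G) = (x₀ : G) * c := rfl
    rw [h3, ← hyc]
    have h4 := char_apply_conj (IsIrrCharacter.isCharacter χ.2) (x₀ : G) y⁻¹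
    simpa using h4
  simp_rw [h2] at h1
  rw [Finset.sum_const, Finset.card_univ, nsmul_eq_mul, ← mul_assoc, ← Nat.card_eq_fintype_card] at h1
  have h5 : (Nat.card ↥P : ℂ)⁻¹ * (Nat.card ↥P : ℂ) = 1 := inv_mul_cancel₀ (by exact_mod_cast Nat.card_pos.ne')
  rw [h5, one_mul] at h1
  have h6 := congrArg (starRingEnd ℂ) h1
  rw [Complex.conj_conj] at h6
  rw [← h6, map_sum]
  refine Finset.sum_congr rfl fun l _ => ?_
  rw [map_mul, Complex.conj_conj, R.hm l χ]
  simp

/-- `w = 1` members vanish off `P` on `N`. -/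
theorem val_plus {χ : IrrCharacter G} (hw : R.D.w χ = 1) {x₀ : ↥(normalizer (P : Set G))} (hx : (x₀ : G) ∉ P) :
    (χ : G → ℂ) x₀ = 0 := by
  rw [val_N R χ hx]
  refine Finset.sum_eq_zero fun l _ => ?_
  rw [R.m_plus hw l]
  simp

/-- Exceptional members vanish off `P` on `N` for `σ = 1`. -/
theorem val_xi_plus (hσ : R.D.σ = 1) (f : NT P) {x₀ : ↥(normalizer (P : Set G))} (hx : (x₀ : G) ∉ P) :
    ((R.D.ξ f : IrrCharacter G) : G → ℂ) x₀ = 0 := by
  rw [val_N R _ hx]
  refine Finset.sum_eq_zero fun l _ => ?_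
  rw [R.m_xi_plus hσ l f]
  simp

theorem lam_trivial (x : ↥(normalizer (P : Set G))) : lam (1 : QQ P P →* ℂˣ) x = 1 := by
  simp [lam]

/-- `w = 0` non-exceptional members off `P`. -/
theorem val_zero {χ : IrrCharacter G} (hw : R.D.w χ = 0) (hχ : ∀ f, χ ≠ R.D.ξ f) {x₀ : ↥(normalizer (P : Set G))}
    (hx : (x₀ : G) ∉ P) : (χ : G → ℂ) x₀ = R.m 1 χ := by
  classical
  rw [val_N R χ hx, Finset.sum_eq_single 1 (fun l _ hl => by rw [R.m_zero_of hw hχ hl]; simp) (by simp),
    lam_trivial R, mul_one]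

/-- `w = 0` non-exceptional members vanish on `P`. -/
theorem val_zero_P {χ : IrrCharacter G} (hw : R.D.w χ = 0) (hχ : ∀ f, χ ≠ R.D.ξ f) {z : ↥P} (hz : z ≠ 1) :
    (χ : G → ℂ) z = 0 := by
  classical
  have h := fourier (comm_P R.H) (fun c : ↥P => (χ : G → ℂ) c) z
  have h1 : ∀ f : ↥P →* ℂˣ, classInner (chi f) (fun c : ↥P => (χ : G → ℂ) c) = (R.D.a 1 χ : ℂ) := by
    intro f
    have h2 := R.D.ha f χ
    rw [MonoidHom.comp_id] at h2
    rw [h2]
    by_cases hf : f = 1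
    · rw [hf]
    · have h3 := R.D.hform1 ⟨f, hf⟩ χ (hχ _)
      rw [hw] at h3
      have h4 : (R.D.a f χ : ℤ) = R.D.a 1 χ := by
        simpa [sub_eq_zero] using h3
      exact_mod_cast h4
  simp_rw [h1] at h
  rw [← Finset.mul_sum, ← map_sum, sum_dual (comm_P R.H) hz] at h
  simp only [map_zero, mul_zero] at h
  have h5 := congrArg (starRingEnd ℂ) h
  simpa using h5.symm

end Main

end Cfsg.Agent.Lib.RigE
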