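import Mathlib
import Cfsg.Agent.Lib.RigE
import Cfsg.Agent.Lib.RealChars

/-!
# The self-centralizing case: the case `σ = +1`
-/

set_option autoImplicit false
set_option linter.style.haveILetI false
set_option linter.unusedSectionVars false
set_option linter.unusedVariables false
set_option linter.unusedSimpArgs false

namespace Cfsg.Agent.Lib.RigF

open Cfsg Cfsg.Agent.Lib.CharBasic Subgroup Cfsg.Agent.Lib.DefectOne Cfsg.Agent.Lib.CharInd
open Cfsg.Agent.Lib.TICent Cfsg.Agent.Lib.RigA Cfsg.Agent.Lib.RangeStruct Cfsg.Agent.Lib.RigB Cfsg.Agent.Lib.RigC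
open Cfsg.Agent.Lib.RigD Cfsg.Agent.Lib.RigE
open scoped ComplexConjugate

variable {G : Type*} [Group G] [Fintype G] [DecidableEq G] {p : ℕ} {P : Subgroup G} {e₀ : ℕ}

section Main

variable {t n : ℕ} [Fintype P] [Fintype (MonoidHom.id ↥P).ker] [Fintype (↥P →* ℂˣ)] [(cN P P).Normal]
  [Fintype ↥(normalizer (P : Set G))] [Fintype (QQ P P →* ℂˣ)]

variable (R : Ctx p P P (MonoidHom.id ↥P) e₀ t n)
include R

/-- `π_l = v` when `v` occurs in `π_l`. -/
theorem Pi_eq_v {l : QQ P P →* ℂˣ} {v : IrrCharacter G} (h : ∀ χ, R.m l χ = if χ = v then 1 else 0) :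
    Pi l = (v : G → ℂ) := by
  classical
  funext g
  rw [Pi_eq_sum R.hm, Finset.sum_eq_single v]
  · rw [h, if_pos rfl]
    simp
  · intro b _ hb
    rw [h, if_neg hb]
    simp
  · simp

/-- `a_1 = Σ m`: each `+`-member occurs in some `π_l` with `l ≠ 1`, and then `π_l = v`. -/
theorem exists_l_of_v {v : IrrCharacter G} (hw : R.D.w v = -1) (hv : v ≠ oneIrr G) :
    ∃ l : QQ P P →* ℂˣ, l ≠ 1 ∧ ∀ χ, R.m l χ = if χ = v then 1 else 0 := by
  classical
  obtain ⟨l, hl⟩ := exists_m_pos R.H R.D R.hm R.hcard (χ := v) (by rw [a_v R hw hv]; omega)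
  have hl1 : l ≠ 1 := by
    rintro rfl
    rw [R.m_one_v hw hv] at hl
    omega
  refine ⟨l, hl1, ?_⟩
  rcases R.pi_cases hl1 with ⟨v', hv', -, h⟩ | ⟨-, -, h⟩
  · have h2 : v = v' := by
      by_contra hne
      rw [h v, if_neg hne] at hl
      omega
    rw [h2]
    exact h
  · exfalso
    rw [h v, if_neg] at hl
    · omega
    · intro hj
      obtain ⟨f, rfl⟩ := (mem_Jset R.D).1 hj
      rw [R.D.hw0] at hw
      norm_num at hw

/-- The inequality for the case `σ = +1`. -/
theorem case_plus_main (hσ : R.D.σ = 1) :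
    1 + (Aset R).card * (normalizer (P : Set G)).index ≤ t ^ 2 := by
  classical
  set ξ : IrrCharacter G := R.D.ξ R.f₀ with hξdef
  have hξchar := IsIrrCharacter.isCharacter ξ.2
  set Ψ : G → ℂ := fun g => (ξ : G → ℂ) g * conj ((ξ : G → ℂ) g) with hΨ
  have hΨchar : IsCharacter G Ψ := isCharacter_mul hξchar (Cfsg.Agent.Lib.RealChars.isCharacter_conj hξchar)
  have hΨclass := isClassFunction_of_isCharacter hΨchar
  have hμ : ∀ χ : IrrCharacter G, ∃ k : ℕ, classInner Ψ (χ : G → ℂ) = k := fun χ => classInner_char_irr hΨchar χ.2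
  choose μ hμ using hμ
  have hμ' : ∀ χ : IrrCharacter G, classInner (χ : G → ℂ) Ψ = μ χ := by
    intro χ
    rw [← classInner_conj_symm, hμ]
    simp
  -- the degree
  have hd : charDegree (ξ : G → ℂ) = t := by
    have h := deg_of_xi R R.f₀
    rw [R.a_xi_plus hσ, hσ] at h
    push_cast at h
    have h2 : (charDegree (ξ : G → ℂ) : ℤ) = t := by
      rw [hξdef]
      linarith
    exact_mod_cast h2
  have hξ1 : (ξ : G → ℂ) 1 = t := by
    rw [Cfsg.Agent.Lib.CharKernel.one_eq_charDegree hξchar, hd]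
  have hsum : t ^ 2 = ∑ χ : IrrCharacter G, μ χ * charDegree (χ : G → ℂ) := by
    have h1 := eval_eq_sum hΨclass 1
    have h2 : Ψ 1 = (t : ℂ) ^ 2 := by
      simp only [hΨ, hξ1]
      simp [sq]
    rw [h2] at h1
    have h3 : ∀ χ : IrrCharacter G, classInner Ψ (χ : G → ℂ) * (χ : G → ℂ) 1 = ((μ χ * charDegree (χ : G → ℂ) : ℕ) : ℂ) := by
      intro χ
      rw [hμ, Cfsg.Agent.Lib.CharKernel.one_eq_charDegree (IsIrrCharacter.isCharacter χ.2)]
      push_cast
      rfl
    simp_rw [h3] at h1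
    exact_mod_cast h1
  -- the multiplicity of the trivial character
  have hμ1 : μ (oneIrr G) = 1 := by
    have h1 := hμ (oneIrr G)
    have h2 : classInner Ψ ((oneIrr G : IrrCharacter G) : G → ℂ) = classInner (ξ : G → ℂ) (ξ : G → ℂ) := by
      unfold classInner
      congr 1
      refine Finset.sum_congr rfl fun g _ => ?_
      have : ((oneIrr G : IrrCharacter G) : G → ℂ) g = 1 := rfl
      rw [this]
      simp [hΨ]
    rw [h2, classInner_irr_self ξ.2] at h1
    exact_mod_cast h1.symm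
  -- independence of `l`
  have hind : ∀ l : QQ P P →* ℂˣ, classInner (Pi l) Ψ = classInner (Pi (1 : QQ P P →* ℂˣ)) Ψ := by
    intro l
    unfold Pi
    rw [CharInd.frobenius _ _ hΨclass, CharInd.frobenius _ _ hΨclass]
    unfold classInner
    congr 1
    refine Finset.sum_congr rfl fun x _ => ?_
    by_cases hx : (x : G) ∈ P
    · rw [lam_of_mem l hx, lam_of_mem 1 hx]
    · have h1 : (ξ : G → ℂ) x = 0 := val_xi_plus R hσ R.f₀ hx
      simp [hΨ, h1]
  have hval1 : 1 ≤ ∑ χ : IrrCharacter G, R.m 1 χ * μ χ := by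
    have h2 : R.m 1 (oneIrr G) * μ (oneIrr G) ≤ ∑ χ : IrrCharacter G, R.m 1 χ * μ χ :=
      Finset.single_le_sum (f := fun χ : IrrCharacter G => R.m 1 χ * μ χ) (fun _ _ => Nat.zero_le _) (Finset.mem_univ _)
    rw [R.m_one_one, hμ1] at h2
    omega
  have hPi1 : classInner (Pi (1 : QQ P P →* ℂˣ)) Ψ = ((∑ χ : IrrCharacter G, R.m 1 χ * μ χ : ℕ) : ℂ) := by
    have h1 : Pi (1 : QQ P P →* ℂˣ) = ∑ χ : IrrCharacter G, ((R.m 1 χ : ℂ) • (χ : G → ℂ)) := by
      funext g
      rw [Pi_eq_sum R.hm, Finset.sum_apply]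
      rfl
    rw [h1, classInner_sum_left]
    push_cast
    refine Finset.sum_congr rfl fun χ _ => ?_
    rw [classInner_smul_left, hμ']
  have hv : ∀ v ∈ Aset R, 1 ≤ μ v := by
    intro v hv
    obtain ⟨hw, hv1⟩ := (mem_Aset R).1 hv
    obtain ⟨l, hl, h⟩ := exists_l_of_v R hw hv1
    have h1 := hind l
    rw [Pi_eq_v R h, hμ', hPi1] at h1
    have h2 : μ v = ∑ χ : IrrCharacter G, R.m 1 χ * μ χ := by exact_mod_cast h1
    omega
  rw [hsum]
  have hnot : oneIrr G ∉ Aset R := fun h => ((mem_Aset R).1 h).2 rfl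
  have h2 : ∑ χ ∈ insert (oneIrr G) (Aset R), μ χ * charDegree (χ : G → ℂ) ≤
      ∑ χ : IrrCharacter G, μ χ * charDegree (χ : G → ℂ) :=
    Finset.sum_le_sum_of_subset (Finset.subset_univ _)
  rw [Finset.sum_insert hnot, hμ1, Ctx.deg_one] at h2
  have h3 : ∑ χ ∈ Aset R, (normalizer (P : Set G)).index ≤ ∑ χ ∈ Aset R, μ χ * charDegree (χ : G → ℂ) := by
    refine Finset.sum_le_sum fun v hv' => ?_
    obtain ⟨hw, hv1⟩ := (mem_Aset R).1 hv'
    rw [R.deg_v hw hv1]
    exact Nat.le_mul_of_pos_left _ (hv v hv')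
  rw [Finset.sum_const, smul_eq_mul] at h3
  omega

/-- **The case `σ = +1`.** -/
theorem case_plus (hσ : R.D.σ = 1) (ht : 2 ≤ t) : n * (Jset R.D).card ≤ n + 1 := by
  have hp := R.H.prime
  have h1 := case_plus_main R hσ
  have hξ : R.D.ξ R.f₀ ≠ oneIrr G := by
    intro h
    have := R.σ_of_one h
    rw [hσ] at this
    norm_num at this
  have h2 := count_t R hξ
  rw [hσ, R.a_xi_plus hσ] at h2
  push_cast at h2
  have h3 : t = 1 + (Aset R).card * (n + 1) := by
    have : (t : ℤ) = 1 + (Aset R).card * (n + 1) := by linarith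
    exact_mod_cast this
  have h4 := card_Jset R.D
  have h5 : (Jset R.D).card * t + 1 = p := by
    rw [h4]
    exact Nat.sub_add_cancel hp.one_le
  rw [R.hn] at h1
  set T := (Jset R.D).card with hT
  set a := (Aset R).card with ha
  have ha0 : 1 ≤ a := by
    by_contra h
    have : a = 0 := by omega
    rw [this] at h3
    omega
  -- `t² - 1 = a (n+1) (t+1) ≥ a (1 + n p)`
  have h6 : a * (1 + n * p) ≤ a * ((n + 1) * (t + 1)) := by
    have h7 : 1 + a * (1 + n * p) ≤ t ^ 2 := h1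
    have h8 : t ^ 2 = 1 + a * ((n + 1) * (t + 1)) := by
      have h9 : t ^ 2 = (1 + a * (n + 1)) * t := by
        rw [sq]
        nth_rewrite 1 [h3]
        rfl
      rw [h9]
      have h10 : (1 + a * (n + 1)) * t = t + a * (n + 1) * t := by ring
      rw [h10]
      nth_rewrite 1 [h3]
      ring
    omega
  have h7 := Nat.le_of_mul_le_mul_left h6 ha0
  rw [← h5] at h7
  have ht0 : 0 < t := by omega
  have h8 : t * (n * T) ≤ t * (n + 1) := by
    nlinarith
  exact Nat.le_of_mul_le_mul_left h8 ht0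

end Main

end Cfsg.Agent.Lib.RigF
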