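import Mathlib
import Cfsg.Agent.Lib.RigF
import Cfsg.Agent.Lib.ZStarRed

/-!
# The self-centralizing case: `σ = -1` with `|N : P|` odd is impossible
-/

set_option autoImplicit false
set_option linter.style.haveILetI false
set_option linter.unusedSectionVars false
set_option linter.unusedVariables false
set_option linter.unusedSimpArgs false

namespace Cfsg.Agent.Lib.RigG

open Cfsg Cfsg.Agent.Lib.CharBasic Subgroup Cfsg.Agent.Lib.DefectOne Cfsg.Agent.Lib.CharInd
open Cfsg.Agent.Lib.TICent Cfsg.Agent.Lib.RigA Cfsg.Agent.Lib.RangeStruct Cfsg.Agent.Lib.RigB Cfsg.Agent.Lib.RigC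
open Cfsg.Agent.Lib.RigD Cfsg.Agent.Lib.RigE Cfsg.Agent.Lib.RigF
open scoped ComplexConjugate

variable {G : Type*} [Group G] [Fintype G] [DecidableEq G] {p : ℕ} {P : Subgroup G} {e₀ : ℕ}

section Main

variable {t n : ℕ} [Fintype P] [Fintype (MonoidHom.id ↥P).ker] [Fintype (↥P →* ℂˣ)] [(cN P P).Normal]
  [Fintype ↥(normalizer (P : Set G))] [Fintype (QQ P P →* ℂˣ)]

variable (R : Ctx p P P (MonoidHom.id ↥P) e₀ t n)
include R

/-- There is an `l` with `π_l = Σ_J`. -/
theorem exists_l_J (hσ : R.D.σ = -1) (hξ : R.D.ξ R.f₀ ≠ oneIrr G) :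
    ∃ l : QQ P P →* ℂˣ, l ≠ 1 ∧ ∀ χ, R.m l χ = if χ ∈ Jset R.D then 1 else 0 := by
  classical
  have h1 := T_l R hσ hξ
  have h2 : 1 ≤ R.D.a 1 (R.D.ξ R.f₀) := by
    by_contra h
    have h3 : R.D.a 1 (R.D.ξ R.f₀) = 0 := by omega
    rw [h3, mul_zero] at h1
    omega
  obtain ⟨l, hl⟩ := exists_m_pos R.H R.D R.hm R.hcard h2
  have hl1 : l ≠ 1 := by
    rintro rfl
    rw [R.m_one_xi hσ hξ] at hl
    omega
  refine ⟨l, hl1, ?_⟩
  rcases R.pi_cases hl1 with ⟨v', hv', -, h⟩ | ⟨-, -, h⟩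
  · exfalso
    by_cases h2 : R.D.ξ R.f₀ = v'
    · rw [← h2, R.D.hw0] at hv'
      norm_num at hv'
    · rw [h, if_neg h2] at hl
      omega
  · exact h

/-- The value of `π_l = Σ_J` at a `p`-regular element. -/
theorem Pi_eq_J {l : QQ P P →* ℂˣ} (h : ∀ χ, R.m l χ = if χ ∈ Jset R.D then 1 else 0) {g : G} (hg : ¬ p ∣ orderOf g) :
    Pi l g = ((Jset R.D).card : ℂ) * ((R.D.ξ R.f₀ : IrrCharacter G) : G → ℂ) g := by
  classical
  rw [Pi_eq_sum R.hm]
  have h1 : ∀ χ : IrrCharacter G, (R.m l χ : ℂ) * (χ : G → ℂ) g =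
      if χ ∈ Jset R.D then ((R.D.ξ R.f₀ : IrrCharacter G) : G → ℂ) g else 0 := by
    intro χ
    rw [h]
    split_ifs with h2
    · obtain ⟨f, rfl⟩ := (mem_Jset R.D).1 h2
      rw [xi_reg R.D f R.f₀ hg]
      simp
    · simp
  simp_rw [h1]
  rw [Finset.sum_ite_mem, Finset.univ_inter, Finset.sum_const, nsmul_eq_mul]

theorem card_N : Nat.card (normalizer (P : Set G)) = p * t := by
  rw [R.hN, R.hcard]

theorem T_pos : 0 < (Jset R.D).card := by
  have hp := R.H.prime
  refine Finset.card_pos.2 ⟨R.D.ξ R.f₀, (mem_Jset R.D).2 ⟨_, rfl⟩⟩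

theorem T_mul : (Jset R.D).card * t + 1 = p := by
  have h4 := card_Jset R.D
  rw [h4]
  exact Nat.sub_add_cancel R.H.prime.one_le

theorem p_ne_two (ht : 2 ≤ t) : p ≠ 2 := by
  intro h
  have h1 := T_mul R
  have h2 := T_pos R
  have h3 : 2 ≤ (Jset R.D).card * t := by nlinarith
  omega

theorem card_G : Nat.card G = Nat.card (normalizer (P : Set G)) * (1 + n * p) := by
  rw [← R.hn, Subgroup.card_mul_index]

/-- **The case `σ = -1`, `t` odd**. -/
theorem case_odd (hσ : R.D.σ = -1) (hξ : R.D.ξ R.f₀ ≠ oneIrr G) (ht : 2 ≤ t) (hodd : Odd t) : False := by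
  classical
  have hp := R.H.prime
  have hp2 := p_ne_two R ht
  have hpodd : Odd p := hp.odd_of_ne_two hp2
  have hTeven : Even (Jset R.D).card := by
    have h1 := T_mul R
    by_contra h2
    rw [Nat.not_even_iff_odd] at h2
    have h3 : Odd ((Jset R.D).card * t) := h2.mul hodd
    have h4 : Even p := by
      rw [← h1]
      exact h3.add_one
    exact (Nat.not_even_iff_odd.2 hpodd) h4
  have hneven : Even (n + 1) := by
    rw [← T_l R hσ hξ]
    exact hTeven.mul_right _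
  have hMeven : Even (1 + n * p) := by
    have h1 : Odd n := by
      by_contra h2
      rw [Nat.not_odd_iff_even] at h2
      exact (Nat.not_even_iff_odd.2 h2.add_one) hneven
    have h3 : Odd (n * p) := h1.mul hpodd
    have h4 := h3.add_one
    rwa [add_comm] at h4
  have hGeven : 2 ∣ Nat.card G := by
    rw [card_G R]
    exact Dvd.dvd.mul_left hMeven.two_dvd _
  haveI : Fact (Nat.Prime 2) := ⟨Nat.prime_two⟩
  obtain ⟨τ, hτ⟩ := exists_prime_orderOf_dvd_card' 2 hGeven
  have hτ2 : τ * τ = 1 := by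
    have := pow_orderOf_eq_one τ
    rw [hτ, pow_two] at this
    exact this
  have hτ1 : τ ≠ 1 := by
    rintro rfl
    simp at hτ
  have hNodd : Odd (Nat.card (normalizer (P : Set G))) := by
    rw [card_N R]
    exact hpodd.mul hodd
  have hnotN : ∀ x : G, x⁻¹ * τ * x ∉ normalizer (P : Set G) := by
    intro x hx
    have h1 : orderOf (x⁻¹ * τ * x) = 2 := by
      apply orderOf_eq_prime
      · rw [pow_two]
        calc x⁻¹ * τ * x * (x⁻¹ * τ * x) = x⁻¹ * (τ * τ) * x := by group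
          _ = 1 := by rw [hτ2]; group
      · intro h
        apply hτ1
        have : τ = x * (x⁻¹ * τ * x) * x⁻¹ := by group
        rw [this, h]
        group
    have h2 := Subgroup.orderOf_dvd_natCard _ hx
    rw [h1] at h2
    exact (Nat.not_even_iff_odd.2 hNodd) (even_iff_two_dvd.2 h2)
  have hreg : ¬ p ∣ orderOf τ := by
    rw [hτ]
    intro h
    exact hp2 ((Nat.prime_dvd_prime_iff_eq hp Nat.prime_two).1 h)
  -- the values
  have hξτ : ((R.D.ξ R.f₀ : IrrCharacter G) : G → ℂ) τ = 0 := by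
    obtain ⟨l, -, hl⟩ := exists_l_J R hσ hξ
    have h1 := Pi_eq_J R hl hreg
    rw [Pi_eq_zero l hnotN] at h1
    have h2 : ((Jset R.D).card : ℂ) ≠ 0 := by exact_mod_cast (T_pos R).ne'
    rcases mul_eq_zero.1 h1.symm with h3 | h3
    · exact absurd h3 h2
    · exact h3
  have hv : ∀ v : IrrCharacter G, R.D.w v = -1 → v ≠ oneIrr G → (v : G → ℂ) τ = 0 := by
    intro v hw hv
    obtain ⟨l, -, hl⟩ := exists_l_of_v R hw hv
    rw [← Pi_eq_v R hl]
    exact Pi_eq_zero l hnotN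
  have h := R.D.hreg R.f₀ τ hreg
  rw [hξτ, mul_zero, add_zero] at h
  have hval : ∀ χ : IrrCharacter G, ∃ m : ℤ, (χ : G → ℂ) τ = m ∧ (2 : ℤ) ∣ m - charDegree (χ : G → ℂ) :=
    fun χ => Cfsg.Agent.Lib.ZStarRed.invol_val (IsIrrCharacter.isCharacter χ.2) hτ2
  choose M hM hM2 using hval
  have hz : ∑ χ : IrrCharacter G, R.D.w χ * M χ = 0 := by
    have h1 : ((∑ χ : IrrCharacter G, R.D.w χ * M χ : ℤ) : ℂ) = 0 := by
      push_cast
      rw [← h]
      exact Finset.sum_congr rfl fun χ _ => by rw [hM]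
    exact_mod_cast h1
  rw [Fintype.sum_eq_add_sum_subtype_ne _ (oneIrr G), R.w_one hξ] at hz
  have hM1 : M (oneIrr G) = 1 := by
    have h1 := hM (oneIrr G)
    have h2 : ((oneIrr G : IrrCharacter G) : G → ℂ) τ = 1 := rfl
    rw [h2] at h1
    exact_mod_cast h1.symm
  rw [hM1] at hz
  have hdvd : (2 : ℤ) ∣ ∑ χ : {χ : IrrCharacter G // χ ≠ oneIrr G}, R.D.w χ.1 * M χ.1 := by
    refine Finset.dvd_sum fun χ _ => ?_
    rcases R.D.hval χ.1 with h1 | h1 | h1
    · rw [h1]
      simp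
    · rw [h1, one_mul]
      have h2 := hM2 χ.1
      have h3 := deg_plus_K R h1
      have h4 : Even (charDegree ((χ.1 : IrrCharacter G) : G → ℂ)) := by
        by_contra h5
        rw [Nat.not_even_iff_odd] at h5
        have h6 : Even p := by
          rw [← h3]
          exact h5.add_one
        exact (Nat.not_even_iff_odd.2 hpodd) h6
      have h5 : (2 : ℤ) ∣ (charDegree ((χ.1 : IrrCharacter G) : G → ℂ) : ℤ) := by
        exact_mod_cast h4.two_dvd
      have h6 := dvd_add h2 h5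
      simpa using h6
    · have h2 := hv χ.1 h1 χ.2
      have h3 : M χ.1 = 0 := by
        have h4 := hM χ.1
        rw [h2] at h4
        exact_mod_cast h4.symm
      rw [h3]
      simp
  obtain ⟨k, hk⟩ := hdvd
  rw [hk] at hz
  omega

end Main

end Cfsg.Agent.Lib.RigG
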