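import Mathlib
import Cfsg.Agent.Lib.RigG
import Cfsg.Agent.Lib.DefectTwo

/-!
# The self-centralizing case: values at an involution of the normalizer
-/

set_option autoImplicit false
set_option linter.style.haveILetI false
set_option linter.unusedSectionVars false
set_option linter.unusedVariables false
set_option linter.unusedSimpArgs false

namespace Cfsg.Agent.Lib.RigH

open Cfsg Cfsg.Agent.Lib.CharBasic Subgroup Cfsg.Agent.Lib.DefectOne Cfsg.Agent.Lib.CharInd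
open Cfsg.Agent.Lib.TICent Cfsg.Agent.Lib.RigA Cfsg.Agent.Lib.RangeStruct Cfsg.Agent.Lib.RigB Cfsg.Agent.Lib.RigC
open Cfsg.Agent.Lib.RigD Cfsg.Agent.Lib.RigE Cfsg.Agent.Lib.RigF Cfsg.Agent.Lib.RigG
open scoped ComplexConjugate

variable {G : Type*} [Group G] [Fintype G] [DecidableEq G] {p : ℕ} {P : Subgroup G} {e₀ : ℕ}

section Main

variable {t n : ℕ} [Fintype P] [Fintype (MonoidHom.id ↥P).ker] [Fintype (↥P →* ℂˣ)] [(cN P P).Normal]
  [Fintype ↥(normalizer (P : Set G))] [Fintype (QQ P P →* ℂˣ)]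

variable (R : Ctx p P P (MonoidHom.id ↥P) e₀ t n)
include R

/-- The hypotheses of `DefectOne`. -/
theorem dOne : Cfsg.Agent.Lib.DefectOne.Hyp P p := ⟨R.H.prime, R.hcard, fun w hw hne => R.H.star w hw hne⟩

/-- The rest of the characters. -/
noncomputable def Dset (_R : Ctx p P P (MonoidHom.id ↥P) e₀ t n) : Finset (IrrCharacter G) := by
  classical
  exact Finset.univ.filter fun χ => _R.D.w χ = 0 ∧ ∀ f, χ ≠ _R.D.ξ f

omit R in
theorem mem_Dset {χ : IrrCharacter G} (R : Ctx p P P (MonoidHom.id ↥P) e₀ t n) :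
    χ ∈ Dset R ↔ R.D.w χ = 0 ∧ ∀ f, χ ≠ R.D.ξ f := by
  classical
  simp [Dset]

/-- The splitting of a sum over the irreducible characters. -/
theorem sum_split {M : Type*} [AddCommMonoid M] (hξ : R.D.ξ R.f₀ ≠ oneIrr G) (F : IrrCharacter G → M) :
    ∑ χ : IrrCharacter G, F χ = F (oneIrr G) + ∑ χ ∈ Aset R, F χ + ∑ χ ∈ Bset R, F χ + ∑ χ ∈ Jset R.D, F χ +
      ∑ χ ∈ Dset R, F χ := by
  classical
  have hw1 := R.w_one hξ
  have hpt : ∀ χ : IrrCharacter G, F χ = (if χ = oneIrr G then F χ else 0) + (if χ ∈ Aset R then F χ else 0) +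
      (if χ ∈ Bset R then F χ else 0) + (if χ ∈ Jset R.D then F χ else 0) + (if χ ∈ Dset R then F χ else 0) := by
    intro χ
    simp only [mem_Aset R, mem_Bset R, mem_Dset R, mem_Jset R.D]
    by_cases h1 : χ = oneIrr G
    · subst h1
      rw [if_pos rfl, if_neg (by simp), if_neg (by rw [hw1]; norm_num), if_neg, if_neg (by rw [hw1]; norm_num)]
      · simp
      · rintro ⟨f, hf⟩
        have := R.D.hw0 f
        rw [hf, hw1] at this
        norm_num at this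
    · rw [if_neg h1]
      rcases R.D.hval χ with h2 | h2 | h2
      · rw [if_neg (by rw [h2]; norm_num), if_neg (by rw [h2]; norm_num)]
        by_cases h3 : ∃ f, R.D.ξ f = χ
        · rw [if_pos h3, if_neg]
          · simp
          · rintro ⟨-, h4⟩
            obtain ⟨f, hf⟩ := h3
            exact h4 f hf.symm
        · rw [if_neg h3, if_pos ⟨h2, fun f hf => h3 ⟨f, hf.symm⟩⟩]
          simp
      · rw [if_neg (by rw [h2]; norm_num), if_pos h2, if_neg, if_neg (by rw [h2]; norm_num)]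
        · simp
        · rintro ⟨f, hf⟩
          have := R.D.hw0 f
          rw [hf, h2] at this
          norm_num at this
      · rw [if_pos ⟨h2, h1⟩, if_neg (by rw [h2]; norm_num), if_neg, if_neg (by rw [h2]; norm_num)]
        · simp
        · rintro ⟨f, hf⟩
          have := R.D.hw0 f
          rw [hf, h2] at this
          norm_num at this
  conv_lhs => rw [Finset.sum_congr rfl (fun χ _ => hpt χ)]
  simp only [Finset.sum_add_distrib]
  congr 1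
  congr 1
  congr 1
  congr 1
  · rw [Finset.sum_ite_eq' Finset.univ (oneIrr G), if_pos (Finset.mem_univ _)]
  · rw [Finset.sum_ite_mem, Finset.univ_inter]
  · rw [Finset.sum_ite_mem, Finset.univ_inter]
  · rw [Finset.sum_ite_mem, Finset.univ_inter]
  · rw [Finset.sum_ite_mem, Finset.univ_inter]

/-- The count of characters in `π_1`. -/
theorem sum_D_sq (hσ : R.D.σ = -1) (hξ : R.D.ξ R.f₀ ≠ oneIrr G) : ∑ χ ∈ Dset R, (R.m 1 χ) ^ 2 = n := by
  classical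
  have hp := R.H.prime
  have h1 := sum_m_degree R.hm 1
  rw [sum_split R hξ, R.m_one_one, Ctx.deg_one, R.hn] at h1
  have hA : ∑ χ ∈ Aset R, R.m 1 χ * charDegree (χ : G → ℂ) = 0 := by
    refine Finset.sum_eq_zero fun χ hχ => ?_
    obtain ⟨h2, h3⟩ := (mem_Aset R).1 hχ
    rw [R.m_one_v h2 h3, zero_mul]
  have hB : ∑ χ ∈ Bset R, R.m 1 χ * charDegree (χ : G → ℂ) = 0 := by
    refine Finset.sum_eq_zero fun χ hχ => ?_
    rw [R.m_one_plus ((mem_Bset R).1 hχ), zero_mul]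
  have hJ : ∑ χ ∈ Jset R.D, R.m 1 χ * charDegree (χ : G → ℂ) = 0 := by
    refine Finset.sum_eq_zero fun χ hχ => ?_
    obtain ⟨f, rfl⟩ := (mem_Jset R.D).1 hχ
    rw [m_xi_const R.H R.D R.hm R.hidx R.nt 1 f R.f₀, R.m_one_xi hσ hξ, zero_mul]
  have hD : ∑ χ ∈ Dset R, R.m 1 χ * charDegree (χ : G → ℂ) = p * ∑ χ ∈ Dset R, (R.m 1 χ) ^ 2 := by
    rw [Finset.mul_sum]
    refine Finset.sum_congr rfl fun χ hχ => ?_
    obtain ⟨h2, h3⟩ := (mem_Dset R).1 hχ
    rw [deg_zero R h2 h3]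
    ring
  rw [hA, hB, hJ, hD] at h1
  have h2 : p * ∑ χ ∈ Dset R, (R.m 1 χ) ^ 2 = p * n := by
    have : 1 * 1 + 0 + 0 + 0 + p * ∑ χ ∈ Dset R, (R.m 1 χ) ^ 2 = 1 + n * p := h1
    rw [mul_comm p n]
    omega
  exact Nat.eq_of_mul_eq_mul_left hp.pos h2

/-- Involutions of `N` differ by an element of `P`. -/
theorem invol_coset (hp2 : p ≠ 2) {u x : G} (hu : u ∈ normalizer (P : Set G)) (hu2 : u * u = 1) (hu1 : u ≠ 1)
    (hx : x ∈ normalizer (P : Set G)) (hx2 : x * x = 1) (hx1 : x ≠ 1) : u⁻¹ * x ∈ P := by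
  have H1 := dOne R
  have hz₀' : (R.z₀ : G) ≠ 1 := fun h => R.hz₀ (Subtype.ext h)
  have h1 := Cfsg.Agent.Lib.DefectTwo.hyp_inverts H1 hp2 hu (by rw [pow_two]; exact hu2) hu1 R.z₀.2
  have h2 := Cfsg.Agent.Lib.DefectTwo.hyp_inverts H1 hp2 hx (by rw [pow_two]; exact hx2) hx1 R.z₀.2
  have huinv : u⁻¹ = u := by
    rw [inv_eq_iff_mul_eq_one]
    exact hu2
  have h3 : u⁻¹ * x ∈ centralizer ({(R.z₀ : G)} : Set G) := by
    rw [mem_centralizer_singleton_iff]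
    have h4 : x * (R.z₀ : G) = (R.z₀ : G)⁻¹ * x := by
      rw [← h2]
      group
    have h5 : u * (R.z₀ : G) = (R.z₀ : G)⁻¹ * u := by
      rw [← h1]
      group
    have h6 : u⁻¹ * (R.z₀ : G)⁻¹ = (R.z₀ : G) * u⁻¹ := by
      rw [← h1]
      group
    calc u⁻¹ * x * (R.z₀ : G) = u⁻¹ * (x * (R.z₀ : G)) := by group
      _ = u⁻¹ * ((R.z₀ : G)⁻¹ * x) := by rw [h4]
      _ = (u⁻¹ * (R.z₀ : G)⁻¹) * x := by group
      _ = ((R.z₀ : G) * u⁻¹) * x := by rw [h6]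
      _ = _ := by group
  rw [R.H.star _ R.z₀.2 hz₀'] at h3
  exact h3

/-- The induced characters at the involution `u`. -/
theorem Pi_u (hp2 : p ≠ 2) {u : ↥(normalizer (P : Set G))} (hu2 : (u : G) * u = 1) (hu1 : (u : G) ≠ 1) (l : QQ P P →* ℂˣ) :
    Pi l (u : G) = lam l u * Pi (1 : QQ P P →* ℂˣ) (u : G) := by
  classical
  unfold Pi
  rw [indFun_apply, indFun_apply]
  suffices hs : ∑ x : G, extendByZero (normalizer (P : Set G)) (lam l) (x⁻¹ * (u : G) * x) =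
      lam l u * ∑ x : G, extendByZero (normalizer (P : Set G)) (lam (1 : QQ P P →* ℂˣ)) (x⁻¹ * (u : G) * x) by
    rw [hs]
    ring
  rw [Finset.mul_sum]
  refine Finset.sum_congr rfl fun x _ => ?_
  by_cases hx : x⁻¹ * (u : G) * x ∈ normalizer (P : Set G)
  · rw [extendByZero_of_mem _ _ hx, extendByZero_of_mem _ _ hx]
    have h1 : (x⁻¹ * (u : G) * x) * (x⁻¹ * (u : G) * x) = 1 := by
      calc (x⁻¹ * (u : G) * x) * (x⁻¹ * (u : G) * x) = x⁻¹ * ((u : G) * u) * x := by group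
        _ = 1 := by rw [hu2]; group
    have h2 : x⁻¹ * (u : G) * x ≠ 1 := by
      intro h
      apply hu1
      have : (u : G) = x * (x⁻¹ * (u : G) * x) * x⁻¹ := by group
      rw [this, h]
      group
    have h3 := invol_coset R hp2 u.2 hu2 hu1 hx h1 h2
    have h4 : (⟨x⁻¹ * (u : G) * x, hx⟩ : ↥(normalizer (P : Set G))) =
        u * ⟨(u : G)⁻¹ * (x⁻¹ * (u : G) * x), R.H.le_normalizer h3⟩ := by
      apply Subtype.ext
      simp
    rw [h4, lam_mul, lam_of_mem l (x := ⟨_, R.H.le_normalizer h3⟩) h3, mul_one, lam_trivial R, mul_one]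
  · rw [extendByZero_of_not_mem _ _ hx, extendByZero_of_not_mem _ _ hx, mul_zero]

/-- The value of `π_1` at an involution. -/
theorem Pi_one_u (hσ : R.D.σ = -1) (hξ : R.D.ξ R.f₀ ≠ oneIrr G) (hp2 : p ≠ 2) {u : ↥(normalizer (P : Set G))}
    (hu2 : (u : G) * u = 1) (hu1 : (u : G) ≠ 1) (huP : (u : G) ∉ P) :
    Pi (1 : QQ P P →* ℂˣ) (u : G) = 1 + n := by
  classical
  rw [Pi_eq_sum R.hm, sum_split R hξ, R.m_one_one]
  have hA : ∑ χ ∈ Aset R, (R.m 1 χ : ℂ) * (χ : G → ℂ) u = 0 := by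
    refine Finset.sum_eq_zero fun χ hχ => ?_
    obtain ⟨h2, h3⟩ := (mem_Aset R).1 hχ
    rw [R.m_one_v h2 h3]
    simp
  have hB : ∑ χ ∈ Bset R, (R.m 1 χ : ℂ) * (χ : G → ℂ) u = 0 := by
    refine Finset.sum_eq_zero fun χ hχ => ?_
    rw [R.m_one_plus ((mem_Bset R).1 hχ)]
    simp
  have hJ : ∑ χ ∈ Jset R.D, (R.m 1 χ : ℂ) * (χ : G → ℂ) u = 0 := by
    refine Finset.sum_eq_zero fun χ hχ => ?_
    obtain ⟨f, rfl⟩ := (mem_Jset R.D).1 hχ
    rw [m_xi_const R.H R.D R.hm R.hidx R.nt 1 f R.f₀, R.m_one_xi hσ hξ]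
    simp
  have hD : ∑ χ ∈ Dset R, (R.m 1 χ : ℂ) * (χ : G → ℂ) u = n := by
    have h9 : ((∑ χ ∈ Dset R, (R.m 1 χ) ^ 2 : ℕ) : ℂ) = n := by rw [sum_D_sq R hσ hξ]
    rw [← h9]
    push_cast
    refine Finset.sum_congr rfl fun χ hχ => ?_
    obtain ⟨h2, h3⟩ := (mem_Dset R).1 hχ
    rw [val_zero R h2 h3 huP]
    ring
  rw [hA, hB, hJ, hD]
  have h0 : ((oneIrr G : IrrCharacter G) : G → ℂ) u = 1 := rfl
  rw [h0]
  simp

/-- `lam` at an involution. -/
theorem lam_sq {u : ↥(normalizer (P : Set G))} (hu2 : (u : G) * u = 1) (l : QQ P P →* ℂˣ) : lam l u * lam l u = 1 := by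
  rw [← lam_mul]
  have : u * u = 1 := Subtype.ext hu2
  rw [this, lam_one]

/-- The values of `+`-members at an involution. -/
theorem val_v (hσ : R.D.σ = -1) (hξ : R.D.ξ R.f₀ ≠ oneIrr G) (hp2 : p ≠ 2) {u : ↥(normalizer (P : Set G))}
    (hu2 : (u : G) * u = 1) (hu1 : (u : G) ≠ 1) (huP : (u : G) ∉ P) {v : IrrCharacter G} (hv : v ∈ Aset R) :
    ((v : G → ℂ) u) ^ 2 = ((n : ℂ) + 1) ^ 2 := by
  obtain ⟨h2, h3⟩ := (mem_Aset R).1 hv
  obtain ⟨l, -, hl⟩ := exists_l_of_v R h2 h3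
  rw [← Pi_eq_v R hl, Pi_u R hp2 hu2 hu1, Pi_one_u R hσ hξ hp2 hu2 hu1 huP, mul_pow, sq (lam l u), lam_sq R hu2, one_mul]
  ring

/-- The value of exceptional members at an involution. -/
theorem val_j (hσ : R.D.σ = -1) (hξ : R.D.ξ R.f₀ ≠ oneIrr G) (hp2 : p ≠ 2) {u : ↥(normalizer (P : Set G))}
    (hu2 : (u : G) * u = 1) (hu1 : (u : G) ≠ 1) (huP : (u : G) ∉ P) {l : QQ P P →* ℂˣ}
    (hl : ∀ χ, R.m l χ = if χ ∈ Jset R.D then 1 else 0) {j : IrrCharacter G} (hj : j ∈ Jset R.D) :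
    (j : G → ℂ) u = lam l u * R.D.a 1 (R.D.ξ R.f₀) := by
  have hp := R.H.prime
  have hreg : ¬ p ∣ orderOf (u : G) := by
    have h1 : orderOf (u : G) = 2 := orderOf_eq_prime (by rw [pow_two]; exact hu2) hu1
    rw [h1]
    intro h
    exact hp2 ((Nat.prime_dvd_prime_iff_eq hp Nat.prime_two).1 h)
  obtain ⟨f, rfl⟩ := (mem_Jset R.D).1 hj
  rw [xi_reg R.D f R.f₀ hreg]
  have h1 := Pi_eq_J R hl hreg
  rw [Pi_u R hp2 hu2 hu1, Pi_one_u R hσ hξ hp2 hu2 hu1 huP] at h1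
  have h2 := T_l R hσ hξ
  have h3 : ((n : ℂ) + 1) = ((Jset R.D).card : ℂ) * R.D.a 1 (R.D.ξ R.f₀) := by
    rw [← Nat.cast_mul, h2]
    push_cast
    ring
  have h4 : (1 + (n : ℂ)) = ((Jset R.D).card : ℂ) * R.D.a 1 (R.D.ξ R.f₀) := by
    rw [← h3]
    ring
  rw [h4] at h1
  have h5 : ((Jset R.D).card : ℂ) ≠ 0 := by exact_mod_cast (T_pos R).ne'
  apply mul_left_cancel₀ h5
  rw [← h1]
  ring

/-- The order of the centralizer of an involution. -/
theorem card_cent (hσ : R.D.σ = -1) (hξ : R.D.ξ R.f₀ ≠ oneIrr G) (hp2 : p ≠ 2) {u : ↥(normalizer (P : Set G))}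
    (hu2 : (u : G) * u = 1) (hu1 : (u : G) ≠ 1) (huP : (u : G) ∉ P) :
    Nat.card (centralizer ({(u : G)} : Set G)) = (n + 1) * t := by
  classical
  have h := sum_irr_mul_conj (u : G) (u : G)
  rw [if_pos (IsConj.refl _), sum_split R hξ] at h
  have huinv : (u : G)⁻¹ = u := by
    rw [inv_eq_iff_mul_eq_one]
    exact hu2
  have hconj : ∀ χ : IrrCharacter G, conj ((χ : G → ℂ) u) = (χ : G → ℂ) u := by
    intro χ
    rw [char_conj_eq_inv (IsIrrCharacter.isCharacter χ.2), huinv]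
  have h1 : ((oneIrr G : IrrCharacter G) : G → ℂ) u = 1 := rfl
  have hA : ∑ χ ∈ Aset R, (χ : G → ℂ) u * conj ((χ : G → ℂ) u) = (Aset R).card * ((n : ℂ) + 1) ^ 2 := by
    rw [← nsmul_eq_mul, ← Finset.sum_const]
    refine Finset.sum_congr rfl fun χ hχ => ?_
    rw [hconj, ← sq, val_v R hσ hξ hp2 hu2 hu1 huP hχ]
  have hB : ∑ χ ∈ Bset R, (χ : G → ℂ) u * conj ((χ : G → ℂ) u) = 0 := by
    refine Finset.sum_eq_zero fun χ hχ => ?_
    rw [val_plus R ((mem_Bset R).1 hχ) huP]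
    simp
  obtain ⟨l, -, hl⟩ := exists_l_J R hσ hξ
  have hJ : ∑ χ ∈ Jset R.D, (χ : G → ℂ) u * conj ((χ : G → ℂ) u) =
      (Jset R.D).card * (R.D.a 1 (R.D.ξ R.f₀) : ℂ) ^ 2 := by
    rw [← nsmul_eq_mul, ← Finset.sum_const]
    refine Finset.sum_congr rfl fun χ hχ => ?_
    rw [hconj, ← sq, val_j R hσ hξ hp2 hu2 hu1 huP hl hχ, mul_pow, sq (lam l u), lam_sq R hu2, one_mul]
  have hD : ∑ χ ∈ Dset R, (χ : G → ℂ) u * conj ((χ : G → ℂ) u) = n := by
    have h9 : ((∑ χ ∈ Dset R, (R.m 1 χ) ^ 2 : ℕ) : ℂ) = n := by rw [sum_D_sq R hσ hξ]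
    rw [← h9]
    push_cast
    refine Finset.sum_congr rfl fun χ hχ => ?_
    obtain ⟨h2, h3⟩ := (mem_Dset R).1 hχ
    rw [hconj, val_zero R h2 h3 huP]
    ring
  rw [hA, hB, hJ, hD, hconj, h1] at h
  have h3 := count_t R hξ
  rw [hσ] at h3
  have h4 := T_l R hσ hξ
  set a := (Aset R).card with ha
  set T := (Jset R.D).card with hT
  set l₀ := R.D.a 1 (R.D.ξ R.f₀) with hl₀
  have h5 : t = 1 + a * (n + 1) + l₀ := by
    have : (t : ℤ) = 1 + a * (n + 1) + l₀ := by linarith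
    exact_mod_cast this
  have h6 : (Nat.card (centralizer ({(u : G)} : Set G)) : ℂ) = ((n + 1) * t : ℕ) := by
    rw [← h]
    rw [h5]
    have h7 : ((n : ℂ) + 1) = (T : ℂ) * l₀ := by
      rw [← Nat.cast_mul, h4]
      push_cast
      ring
    push_cast
    have h8 : (T : ℂ) * l₀ ^ 2 = ((n : ℂ) + 1) * l₀ := by
      rw [h7]
      ring
    rw [h8]
    ring
  exact_mod_cast h6

end Main

end Cfsg.Agent.Lib.RigH
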