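import Mathlib
import Cfsg.Agent.Lib.RigH
import Cfsg.Agent.Lib.D8CentChar

/-!
# The self-centralizing case: the class formula at an element of `P`
-/

set_option autoImplicit false
set_option linter.style.haveILetI false
set_option linter.unusedSectionVars false
set_option linter.unusedVariables false
set_option linter.unusedSimpArgs false

namespace Cfsg.Agent.Lib.RigI

open Cfsg Cfsg.Agent.Lib.CharBasic Subgroup Cfsg.Agent.Lib.DefectOne Cfsg.Agent.Lib.CharInd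
open Cfsg.Agent.Lib.TICent Cfsg.Agent.Lib.RigA Cfsg.Agent.Lib.RangeStruct Cfsg.Agent.Lib.RigB Cfsg.Agent.Lib.RigC
open Cfsg.Agent.Lib.RigD Cfsg.Agent.Lib.RigE Cfsg.Agent.Lib.RigF Cfsg.Agent.Lib.RigG Cfsg.Agent.Lib.RigH
open scoped ComplexConjugate

variable {G : Type*} [Group G] [Fintype G] [DecidableEq G] {p : ℕ} {P : Subgroup G} {e₀ : ℕ}

section Main

variable {t n : ℕ} [Fintype P] [Fintype (MonoidHom.id ↥P).ker] [Fintype (↥P →* ℂˣ)] [(cN P P).Normal]
  [Fintype ↥(normalizer (P : Set G))] [Fintype (QQ P P →* ℂˣ)]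

variable (R : Ctx p P P (MonoidHom.id ↥P) e₀ t n)
include R

open Classical in
/-- The number of `a` with `a u a⁻¹ ∈ u P`. -/
theorem card_coset (hp2 : p ≠ 2) {u : ↥(normalizer (P : Set G))} (hu2 : (u : G) * u = 1) (hu1 : (u : G) ≠ 1) :
    (Finset.univ.filter fun a : G => (u : G)⁻¹ * (a * (u : G) * a⁻¹) ∈ P).card =
      p * Nat.card (centralizer ({(u : G)} : Set G)) := by
  classical
  have H1 := dOne R
  set T := Finset.univ.filter fun a : G => (u : G)⁻¹ * (a * (u : G) * a⁻¹) ∈ P with hT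
  set S := Finset.univ.filter fun y : G => y ∈ P with hS
  have hScard : S.card = p := by
    rw [← R.hcard, Nat.card_eq_fintype_card]
    exact (Fintype.card_of_subtype S (by simp [hS])).symm
  have hmaps : ∀ a ∈ T, (u : G)⁻¹ * (a * (u : G) * a⁻¹) ∈ S := by
    intro a ha
    simpa [hS, hT] using ha
  rw [Finset.card_eq_sum_card_fiberwise hmaps]
  have h1 : ∀ y ∈ S, (T.filter fun a => (u : G)⁻¹ * (a * (u : G) * a⁻¹) = y).card =
      Nat.card (centralizer ({(u : G)} : Set G)) := by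
    intro y hy
    have hyP : y ∈ P := by simpa [hS] using hy
    have h2 : T.filter (fun a => (u : G)⁻¹ * (a * (u : G) * a⁻¹) = y) =
        Finset.univ.filter fun a : G => a * (u : G) * a⁻¹ = (u : G) * y := by
      ext a
      simp only [hT, Finset.mem_filter, Finset.mem_univ, true_and]
      constructor
      · rintro ⟨-, h3⟩
        rw [← h3]
        group
      · intro h3
        rw [h3]
        simp [hyP]
    rw [h2]
    convert Cfsg.Agent.Lib.DefectTwo.card_filter_conj (u : G) ((u : G) * y)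
      (Cfsg.Agent.Lib.DefectTwo.hyp_isConj_mul H1 hp2 u.2 (by rw [pow_two]; exact hu2) hu1 hyP)
  rw [Finset.sum_congr rfl h1, Finset.sum_const, smul_eq_mul, hScard]

/-- The double count. -/
theorem count_pairs (hp2 : p ≠ 2) {u : ↥(normalizer (P : Set G))} (hu2 : (u : G) * u = 1) (hu1 : (u : G) ≠ 1) (z : ↥P)
    (hz : z ≠ 1) :
    ∑ a : G, ∑ b : G, (if (z : G)⁻¹ * (a * (u : G) * a⁻¹) * (b * (u : G) * b⁻¹) = 1 then 1 else 0) =
      p * Nat.card (centralizer ({(u : G)} : Set G)) ^ 2 := by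
  classical
  have H1 := dOne R
  have hz' : (z : G) ≠ 1 := fun h => hz (Subtype.ext h)
  set c := Nat.card (centralizer ({(u : G)} : Set G)) with hc
  have hu2' : (u : G) ^ 2 = 1 := by rw [pow_two]; exact hu2
  have hinv : ∀ x : G, x * x = 1 → x⁻¹ = x := fun x hx => by
    rw [inv_eq_iff_mul_eq_one]
    exact hx
  have key : ∀ a : G, ∑ b : G, (if (z : G)⁻¹ * (a * (u : G) * a⁻¹) * (b * (u : G) * b⁻¹) = 1 then 1 else 0) =
      if (u : G)⁻¹ * (a * (u : G) * a⁻¹) ∈ P then c else 0 := by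
    intro a
    set x := a * (u : G) * a⁻¹ with hx
    have hx2 : x * x = 1 := by
      calc x * x = a * ((u : G) * u) * a⁻¹ := by rw [hx]; group
        _ = 1 := by rw [hu2]; group
    have hx1 : x ≠ 1 := by
      intro h
      apply hu1
      have : (u : G) = a⁻¹ * x * a := by rw [hx]; group
      rw [this, h]
      group
    clear_value x
    have hform : ∀ b : G, (z : G)⁻¹ * x * (b * (u : G) * b⁻¹) = 1 ↔ b * (u : G) * b⁻¹ = x⁻¹ * z := by
      intro b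
      constructor
      · intro h
        have h2 : (z : G)⁻¹ * x * (b * (u : G) * b⁻¹) = ((z : G)⁻¹ * x) * (x⁻¹ * z) := by
          rw [h]
          group
        exact mul_left_cancel h2
      · intro h
        rw [h]
        group
    simp_rw [hform]
    rw [Finset.sum_boole]
    split_ifs with hm
    · -- `x ∈ u P`
      have hxeq : x = (u : G) * ((u : G)⁻¹ * x) := by group
      have h3 : x⁻¹ * z = (u : G) * (((u : G)⁻¹ * x) * z) := by
        rw [hinv x hx2]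
        group
      rw [h3]
      have h4 := Cfsg.Agent.Lib.DefectTwo.card_filter_conj (u : G) ((u : G) * (((u : G)⁻¹ * x) * z))
        (Cfsg.Agent.Lib.DefectTwo.hyp_isConj_mul H1 hp2 u.2 hu2' hu1 (P.mul_mem hm z.2))
      simp only [Nat.cast_id]
      convert h4
    · -- no such `b`
      simp only [Nat.cast_id, Finset.card_eq_zero, Finset.filter_eq_empty_iff, Finset.mem_univ, forall_const]
      intro b hb
      apply hm
      set y := b * (u : G) * b⁻¹ with hy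
      have hy2 : y * y = 1 := by
        calc y * y = b * ((u : G) * u) * b⁻¹ := by rw [hy]; group
          _ = 1 := by rw [hu2]; group
      clear_value y
      have hxy : x * y = z := by rw [hb]; group
      have hconj : x * (z : G) * x⁻¹ = (z : G)⁻¹ := by
        rw [← hxy, mul_inv_rev, hinv x hx2, hinv y hy2]
        calc x * (x * y) * x = (x * x) * y * x := by group
          _ = y * x := by rw [hx2]; group
      have hxN : x⁻¹ ∈ normalizer (P : Set G) := by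
        apply H1.mem_normalizer z.2 hz'
        rw [inv_inv, hconj]
        exact P.inv_mem z.2
      have hxN' : x ∈ normalizer (P : Set G) := by
        have := (normalizer (P : Set G)).inv_mem hxN
        simpa using this
      exact invol_coset R hp2 u.2 hu2 hu1 hxN' hx2 hx1
  simp_rw [key]
  rw [Finset.sum_ite, Finset.sum_const_zero, add_zero, Finset.sum_const, smul_eq_mul, card_coset R hp2 hu2 hu1, ← hc]
  ring

/-- The class formula. -/
theorem class_eq (hp2 : p ≠ 2) {u : ↥(normalizer (P : Set G))} (hu2 : (u : G) * u = 1) (hu1 : (u : G) ≠ 1) (z : ↥P)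
    (hz : z ≠ 1) :
    (p : ℂ) * (Nat.card (centralizer ({(u : G)} : Set G)) : ℂ) ^ 2 = (Nat.card G : ℂ) * ∑ χ : IrrCharacter G,
      (χ : G → ℂ) u ^ 2 * (χ : G → ℂ) (z : G)⁻¹ / (χ : G → ℂ) 1 := by
  classical
  have h := Cfsg.Agent.Lib.D8CentChar.struct_formula (u : G) (z : G)
  have h2 := count_pairs R hp2 hu2 hu1 z hz
  have h3 : (∑ a : G, ∑ b : G, (if (z : G)⁻¹ * (a * (u : G) * a⁻¹) * (b * (u : G) * b⁻¹) = 1 then 1 else 0) : ℕ) =
      p * Nat.card (centralizer ({(u : G)} : Set G)) ^ 2 := by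
    rw [← h2]
  have hG : (Nat.card G : ℂ) ≠ 0 := by exact_mod_cast Nat.card_pos.ne'
  apply mul_left_cancel₀ hG
  have h4 : ((∑ a : G, ∑ b : G, (if (z : G)⁻¹ * (a * (u : G) * a⁻¹) * (b * (u : G) * b⁻¹) = 1 then 1 else 0) : ℕ) : ℂ) =
      (p : ℂ) * (Nat.card (centralizer ({(u : G)} : Set G)) : ℂ) ^ 2 := by
    rw [h3]
    push_cast
    rfl
  rw [← h4]
  have h6 : (Nat.card G : ℂ) * ((Nat.card G : ℂ) * ∑ χ : IrrCharacter G,
      (χ : G → ℂ) u ^ 2 * (χ : G → ℂ) (z : G)⁻¹ / (χ : G → ℂ) 1) = (Nat.card G : ℂ) ^ 2 * ∑ χ : IrrCharacter G,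
      (χ : G → ℂ) u ^ 2 * (χ : G → ℂ) (z : G)⁻¹ / (χ : G → ℂ) 1 := by ring
  rw [h6, ← h]
  congr!

/-- The character sum in the class formula. -/
theorem F_sum (hσ : R.D.σ = -1) (hξ : R.D.ξ R.f₀ ≠ oneIrr G) (hp2 : p ≠ 2) {u : ↥(normalizer (P : Set G))}
    (hu2 : (u : G) * u = 1) (hu1 : (u : G) ≠ 1) (huP : (u : G) ∉ P) (z : ↥P) (hz : z ≠ 1) :
    ∑ χ : IrrCharacter G, (χ : G → ℂ) u ^ 2 * (χ : G → ℂ) (z : G)⁻¹ / (χ : G → ℂ) 1 =
      1 + (Aset R).card * ((n : ℂ) + 1) ^ 2 / ((1 + n * p : ℕ) : ℂ) +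
        (R.D.a 1 (R.D.ξ R.f₀) : ℂ) ^ 2 / (charDegree ((R.D.ξ R.f₀ : IrrCharacter G) : G → ℂ) : ℂ) := by
  classical
  have hz1 : z⁻¹ ≠ 1 := by
    intro h
    exact hz (inv_eq_one.1 h)
  have hzz : (z : G)⁻¹ = ((z⁻¹ : ↥P) : G) := rfl
  rw [sum_split R hξ]
  have h1 : ((oneIrr G : IrrCharacter G) : G → ℂ) u ^ 2 * ((oneIrr G : IrrCharacter G) : G → ℂ) (z : G)⁻¹ /
      ((oneIrr G : IrrCharacter G) : G → ℂ) 1 = 1 := by
    have h2 : ∀ g : G, ((oneIrr G : IrrCharacter G) : G → ℂ) g = 1 := fun _ => rfl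
    rw [h2, h2, h2]
    simp
  have hA : ∑ χ ∈ Aset R, (χ : G → ℂ) u ^ 2 * (χ : G → ℂ) (z : G)⁻¹ / (χ : G → ℂ) 1 =
      (Aset R).card * ((n : ℂ) + 1) ^ 2 / ((1 + n * p : ℕ) : ℂ) := by
    rw [mul_div_assoc, ← nsmul_eq_mul, ← Finset.sum_const]
    refine Finset.sum_congr rfl fun χ hχ => ?_
    obtain ⟨h2, h3⟩ := (mem_Aset R).1 hχ
    rw [val_v R hσ hξ hp2 hu2 hu1 huP hχ, hzz, val_of_w R.H R.D (by rw [h2]; norm_num) R.f₀ hz1, h2,
      Cfsg.Agent.Lib.CharKernel.one_eq_charDegree (IsIrrCharacter.isCharacter χ.2), R.deg_v h2 h3, R.hn]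
    push_cast
    ring
  have hB : ∑ χ ∈ Bset R, (χ : G → ℂ) u ^ 2 * (χ : G → ℂ) (z : G)⁻¹ / (χ : G → ℂ) 1 = 0 := by
    refine Finset.sum_eq_zero fun χ hχ => ?_
    rw [val_plus R ((mem_Bset R).1 hχ) huP]
    simp
  have hD : ∑ χ ∈ Dset R, (χ : G → ℂ) u ^ 2 * (χ : G → ℂ) (z : G)⁻¹ / (χ : G → ℂ) 1 = 0 := by
    refine Finset.sum_eq_zero fun χ hχ => ?_
    obtain ⟨h2, h3⟩ := (mem_Dset R).1 hχ
    rw [hzz, val_zero_P R h2 h3 hz1]
    simp
  obtain ⟨l, -, hl⟩ := exists_l_J R hσ hξ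
  have hJ : ∑ χ ∈ Jset R.D, (χ : G → ℂ) u ^ 2 * (χ : G → ℂ) (z : G)⁻¹ / (χ : G → ℂ) 1 =
      (R.D.a 1 (R.D.ξ R.f₀) : ℂ) ^ 2 / (charDegree ((R.D.ξ R.f₀ : IrrCharacter G) : G → ℂ) : ℂ) := by
    have h2 : ∀ χ ∈ Jset R.D, (χ : G → ℂ) u ^ 2 * (χ : G → ℂ) (z : G)⁻¹ / (χ : G → ℂ) 1 =
        ((R.D.a 1 (R.D.ξ R.f₀) : ℂ) ^ 2 / (charDegree ((R.D.ξ R.f₀ : IrrCharacter G) : G → ℂ) : ℂ)) *
          (-(ex R.D χ z⁻¹)) := by
      intro χ hχ
      rw [val_j R hσ hξ hp2 hu2 hu1 huP hl hχ, mul_pow, sq (lam l u), lam_sq R hu2, one_mul]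
      obtain ⟨f, rfl⟩ := (mem_Jset R.D).1 hχ
      rw [hzz, val_xi R.H R.D f hz1, hσ,
        Cfsg.Agent.Lib.CharKernel.one_eq_charDegree (IsIrrCharacter.isCharacter (R.D.ξ f).2), xi_deg R.H R.D f R.f₀]
      push_cast
      ring
    rw [Finset.sum_congr rfl h2, ← Finset.mul_sum, Finset.sum_neg_distrib, sum_ex R.H R.D hz1]
    simp
  rw [h1, hA, hB, hJ, hD]
  ring

/-- The numerical consequence of the class formula. -/
theorem num_eq (hσ : R.D.σ = -1) (hξ : R.D.ξ R.f₀ ≠ oneIrr G) (hp2 : p ≠ 2) (ht : 0 < t) {u : ↥(normalizer (P : Set G))}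
    (hu2 : (u : G) * u = 1) (hu1 : (u : G) ≠ 1) (huP : (u : G) ∉ P) :
    (n + 1) ^ 2 * t = 1 + n * p + (Aset R).card * (n + 1) ^ 2 + (Jset R.D).card * (R.D.a 1 (R.D.ξ R.f₀)) ^ 2 := by
  classical
  have hp := R.H.prime
  have h1 := class_eq R hp2 hu2 hu1 R.z₀ R.hz₀
  rw [F_sum R hσ hξ hp2 hu2 hu1 huP R.z₀ R.hz₀, card_cent R hσ hξ hp2 hu2 hu1 huP, card_G R, card_N R] at h1
  have h2 := R.deg_J hσ hξ
  rw [R.hn] at h2
  set T := (Jset R.D).card with hT
  set d := charDegree ((R.D.ξ R.f₀ : IrrCharacter G) : G → ℂ) with hd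
  set l₀ := R.D.a 1 (R.D.ξ R.f₀) with hl₀
  set a := (Aset R).card with ha
  set M := 1 + n * p with hM
  have hd0 : (d : ℂ) ≠ 0 := by
    have : d ≠ 0 := Cfsg.Agent.Lib.CharKernel.charDegree_ne_zero (R.D.ξ R.f₀).2
    exact_mod_cast this
  have hM0 : (M : ℂ) ≠ 0 := by
    have : M ≠ 0 := by omega
    exact_mod_cast this
  have hp0 : (p : ℂ) ≠ 0 := by exact_mod_cast hp.pos.ne'
  have ht0 : (t : ℂ) ≠ 0 := by exact_mod_cast ht.ne'
  have h3 : (M : ℂ) = (T : ℂ) * d := by exact_mod_cast h2.symm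
  have h4 : ((p : ℂ) * t) * (((n : ℂ) + 1) ^ 2 * t) = ((p : ℂ) * t) * ((M : ℂ) + a * ((n : ℂ) + 1) ^ 2 + T * l₀ ^ 2) := by
    have h5 : ((p : ℂ) * t) * ((M : ℂ) + a * ((n : ℂ) + 1) ^ 2 + T * l₀ ^ 2) =
        ((p * t : ℕ) : ℂ) * (M : ℂ) * (1 + a * ((n : ℂ) + 1) ^ 2 / ((M : ℕ) : ℂ) + (l₀ : ℂ) ^ 2 / (d : ℂ)) := by
      push_cast
      field_simp
      rw [h3]
      field_simp
    rw [h5]
    have h6 : ((p * t * M : ℕ) : ℂ) = ((p * t : ℕ) : ℂ) * (M : ℂ) := by push_cast; ring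
    rw [← h6, ← h1]
    push_cast
    ring
  have h5 := mul_left_cancel₀ (mul_ne_zero hp0 ht0) h4
  have h6 : (((n + 1) ^ 2 * t : ℕ) : ℂ) = ((M + a * (n + 1) ^ 2 + T * l₀ ^ 2 : ℕ) : ℂ) := by
    push_cast
    exact h5
  exact_mod_cast h6

/-- `n` is positive. -/
theorem n_pos (ht : 2 ≤ t) : 1 ≤ n := by
  classical
  by_contra h
  have hn0 : n = 0 := by omega
  have hM : (normalizer (P : Set G)).index = 1 := by
    rw [R.hn, hn0]
    simp
  have hcard := R.card_QQ_dual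
  have h1 : ∃ l : QQ P P →* ℂˣ, l ≠ 1 := by
    have h2 : 1 < Fintype.card (QQ P P →* ℂˣ) := by omega
    haveI := Fintype.one_lt_card_iff_nontrivial.1 h2
    exact exists_ne 1
  obtain ⟨l, hl⟩ := h1
  have h2 := sum_m_degree R.hm l
  rw [hM] at h2
  -- some member
  have h3 : ∃ χ : IrrCharacter G, R.m l χ ≠ 0 := by
    by_contra hcon
    push Not at hcon
    rw [Finset.sum_eq_zero (fun χ _ => by rw [hcon χ, zero_mul])] at h2
    omega
  obtain ⟨χ, hχ⟩ := h3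
  have h4 : R.m l χ * charDegree (χ : G → ℂ) ≤ 1 := by
    rw [← h2]
    exact Finset.single_le_sum (f := fun χ : IrrCharacter G => R.m l χ * charDegree (χ : G → ℂ))
      (fun _ _ => Nat.zero_le _) (Finset.mem_univ χ)
  have h5 : charDegree (χ : G → ℂ) = 1 := by
    have h6 := R.one_le_deg χ
    have h7 : charDegree (χ : G → ℂ) ≤ R.m l χ * charDegree (χ : G → ℂ) := Nat.le_mul_of_pos_left _ (Nat.pos_of_ne_zero hχ)
    omega
  have h8 := eq_one_of_degree_one R.hperf χ h5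
  rw [h8, m_one R.hm l, if_neg hl] at hχ
  exact hχ rfl

/-- **The class formula forces `T = n + 1` and `l₀ = 1`.** -/
theorem T_eq (hσ : R.D.σ = -1) (hξ : R.D.ξ R.f₀ ≠ oneIrr G) (hp2 : p ≠ 2) (ht : 2 ≤ t) {u : ↥(normalizer (P : Set G))}
    (hu2 : (u : G) * u = 1) (hu1 : (u : G) ≠ 1) (huP : (u : G) ∉ P) :
    (Jset R.D).card = n + 1 ∧ R.D.a 1 (R.D.ξ R.f₀) = 1 := by
  classical
  have hn1 := n_pos R ht
  have h1 := num_eq R hσ hξ hp2 (by omega) hu2 hu1 huP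
  have h2 := T_l R hσ hξ
  have h3 := count_t R hξ
  rw [hσ] at h3
  have h4 := T_mul R
  set T := (Jset R.D).card with hT
  set l₀ := R.D.a 1 (R.D.ξ R.f₀) with hl₀
  set a := (Aset R).card with ha
  have h5 : t = 1 + a * (n + 1) + l₀ := by
    have : (t : ℤ) = 1 + a * (n + 1) + l₀ := by linarith
    exact_mod_cast this
  have h6 : T * l₀ ^ 2 = (n + 1) * l₀ := by
    rw [← h2]
    ring
  rw [h6, ← h4] at h1
  have h8 : n * t * (n + 1) = n * t * T := by
    have e1 : (n + 1) ^ 2 * t = (n + 1) * (n + 1) * t := by ring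
    have e2 : (n + 1) ^ 2 * t = (n + 1) * t * n + (n + 1) * t := by ring
    have e3 : (n + 1) * t = (n + 1) + a * (n + 1) ^ 2 + (n + 1) * l₀ := by
      nth_rewrite 1 [h5]
      ring
    have e4 : 1 + n * (T * t + 1) = (n + 1) + n * t * T := by ring
    rw [e2, e4] at h1
    -- `(n+1) t n + (n+1) t = (n+1) + n t T + a (n+1)^2 + (n+1) l₀`
    have e5 : (n + 1) * t * n = n * t * T := by omega
    rw [← e5]
    ring
  have h9 : 0 < n * t := by
    have : 0 < t := by omega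
    positivity
  have h10 : n + 1 = T := Nat.eq_of_mul_eq_mul_left h9 h8
  refine ⟨h10.symm, ?_⟩
  rw [← h10] at h2
  have h11 : (n + 1) * l₀ = (n + 1) * 1 := by omega
  exact Nat.eq_of_mul_eq_mul_left (by omega) h11

end Main

end Cfsg.Agent.Lib.RigI
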