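import Mathlib
import Cfsg.Agent.Lib.RigI
import Cfsg.Agent.Lib.SqRootChar
import Cfsg.Agent.Lib.CITCount

/-!
# The self-centralizing case: the count of involutions
-/

set_option autoImplicit false
set_option linter.style.haveILetI false
set_option linter.unusedSectionVars false
set_option linter.unusedVariables false
set_option linter.unusedSimpArgs false

namespace Cfsg.Agent.Lib.RigJ

open Cfsg Cfsg.Agent.Lib.CharBasic Subgroup Cfsg.Agent.Lib.DefectOne Cfsg.Agent.Lib.CharInd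
open Cfsg.Agent.Lib.TICent Cfsg.Agent.Lib.RigA Cfsg.Agent.Lib.RangeStruct Cfsg.Agent.Lib.RigB Cfsg.Agent.Lib.RigC
open Cfsg.Agent.Lib.RigD Cfsg.Agent.Lib.RigE Cfsg.Agent.Lib.RigF Cfsg.Agent.Lib.RigG Cfsg.Agent.Lib.RigH
open Cfsg.Agent.Lib.RigI Cfsg.Agent.Lib.SqRootChar
open scoped ComplexConjugate

section FS

variable {G : Type*} [Group G] [Fintype G]

/-- The indicator values. -/
theorem exists_nu (χ : IrrCharacter G) : ∃ n : ℤ, n ≤ 1 ∧ classInner (rootFun G) χ.1 = n := by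
  obtain ⟨k, ρ, hρ, hχ⟩ := χ.2
  rw [classInner_rootFun, ← hχ]
  have hfs := (Cfsg.Agent.Lib.FrobeniusSchur.frobeniusSchur ρ hρ).1
  have e : (Nat.card G : ℂ)⁻¹ * ∑ x : G, conj (ρ.character (x * x)) =
      conj ((Nat.card G : ℂ)⁻¹ * ∑ s : G, ρ.character (s * s)) := by
    simp [map_sum]
  rw [e]
  rcases hfs with h | h | h
  · exact ⟨0, by norm_num, by rw [h]; simp⟩
  · exact ⟨1, by norm_num, by rw [h]; simp⟩
  · exact ⟨-1, by norm_num, by rw [h]; simp⟩

/-- **The number of involutions is bounded by the sum of the degrees.** -/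
theorem rootCount_one_le : rootCount G 1 ≤ ∑ χ : IrrCharacter G, charDegree (χ : G → ℂ) := by
  classical
  choose ν hν1 hν using exists_nu (G := G)
  have h := eval_eq_sum (rootFun_class (G := G)) 1
  have h2 : ∀ χ : IrrCharacter G, classInner (rootFun G) (χ : G → ℂ) * (χ : G → ℂ) 1 =
      ((ν χ * (charDegree (χ : G → ℂ) : ℤ) : ℤ) : ℂ) := by
    intro χ
    rw [hν χ, Cfsg.Agent.Lib.CharKernel.one_eq_charDegree (IsIrrCharacter.isCharacter χ.2)]
    push_cast
    rfl
  simp_rw [h2] at h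
  have h3 : (rootCount G 1 : ℤ) = ∑ χ : IrrCharacter G, ν χ * (charDegree (χ : G → ℂ) : ℤ) := by
    have h4 : ((rootCount G 1 : ℤ) : ℂ) = ((∑ χ : IrrCharacter G, ν χ * (charDegree (χ : G → ℂ) : ℤ) : ℤ) : ℂ) := by
      push_cast at h ⊢
      exact h
    exact_mod_cast h4
  have h5 : (rootCount G 1 : ℤ) ≤ ∑ χ : IrrCharacter G, (charDegree (χ : G → ℂ) : ℤ) := by
    rw [h3]
    refine Finset.sum_le_sum fun χ _ => ?_
    have h6 := hν1 χ
    have h7 : (0 : ℤ) ≤ charDegree (χ : G → ℂ) := by positivity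
    nlinarith
  exact_mod_cast h5

theorem rootCount_one_eq : rootCount G 1 = Nat.card {x : G // x ^ 2 = 1} :=
  Nat.card_congr (Equiv.subtypeEquivRight fun x => by rw [pow_two])

end FS

variable {G : Type*} [Group G] [Fintype G] [DecidableEq G] {p : ℕ} {P : Subgroup G} {e₀ : ℕ}

section Main

variable {t n : ℕ} [Fintype P] [Fintype (MonoidHom.id ↥P).ker] [Fintype (↥P →* ℂˣ)] [(cN P P).Normal]
  [Fintype ↥(normalizer (P : Set G))] [Fintype (QQ P P →* ℂˣ)]

variable (R : Ctx p P P (MonoidHom.id ↥P) e₀ t n)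
include R

/-- The upper bound for the sum of the degrees. -/
theorem sum_deg_le (hσ : R.D.σ = -1) (hξ : R.D.ξ R.f₀ ≠ oneIrr G) :
    ∑ χ : IrrCharacter G, charDegree (χ : G → ℂ) ≤ 1 + (Aset R).card * (1 + n * p) + (Bset R).card * (p - 1) +
      (Jset R.D).card * charDegree ((R.D.ξ R.f₀ : IrrCharacter G) : G → ℂ) + p * n := by
  classical
  rw [sum_split R hξ, Ctx.deg_one]
  have hA : ∑ χ ∈ Aset R, charDegree (χ : G → ℂ) = (Aset R).card * (1 + n * p) := by
    rw [← smul_eq_mul, ← Finset.sum_const]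
    refine Finset.sum_congr rfl fun χ hχ => ?_
    obtain ⟨h2, h3⟩ := (mem_Aset R).1 hχ
    rw [R.deg_v h2 h3, R.hn]
  have hB : ∑ χ ∈ Bset R, charDegree (χ : G → ℂ) = (Bset R).card * (p - 1) := by
    rw [← smul_eq_mul, ← Finset.sum_const]
    refine Finset.sum_congr rfl fun χ hχ => ?_
    have := deg_plus_K R ((mem_Bset R).1 hχ)
    omega
  have hJ : ∑ χ ∈ Jset R.D, charDegree (χ : G → ℂ) =
      (Jset R.D).card * charDegree ((R.D.ξ R.f₀ : IrrCharacter G) : G → ℂ) := by
    rw [← smul_eq_mul, ← Finset.sum_const]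
    refine Finset.sum_congr rfl fun χ hχ => ?_
    obtain ⟨f, rfl⟩ := (mem_Jset R.D).1 hχ
    exact xi_deg R.H R.D f R.f₀
  have hD : ∑ χ ∈ Dset R, charDegree (χ : G → ℂ) ≤ p * n := by
    have h1 := sum_D_sq R hσ hξ
    calc ∑ χ ∈ Dset R, charDegree (χ : G → ℂ) = ∑ χ ∈ Dset R, p * R.m 1 χ := by
          refine Finset.sum_congr rfl fun χ hχ => ?_
          obtain ⟨h2, h3⟩ := (mem_Dset R).1 hχ
          exact deg_zero R h2 h3
      _ ≤ ∑ χ ∈ Dset R, p * (R.m 1 χ) ^ 2 := by
          refine Finset.sum_le_sum fun χ _ => Nat.mul_le_mul_left _ ?_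
          exact Nat.le_self_pow (by norm_num) _
      _ = p * n := by
          rw [← Finset.mul_sum]
          congr 1
  rw [hA, hB, hJ]
  omega

/-- **The count of involutions.** -/
theorem fs_main (hσ : R.D.σ = -1) (hξ : R.D.ξ R.f₀ ≠ oneIrr G) (hp2 : p ≠ 2) (ht : 2 ≤ t) {u : ↥(normalizer (P : Set G))}
    (hu2 : (u : G) * u = 1) (hu1 : (u : G) ≠ 1) (huP : (u : G) ∉ P) :
    (((Jset R.D).card = 2) ∨ t = 2) ∧ (t = 2 → Nat.card {x : G // x ^ 2 = 1} = Nat.card {w : G // IsConj (u : G) w} + 1) := by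
  classical
  have hn1 := n_pos R ht
  obtain ⟨hT, hl⟩ := T_eq R hσ hξ hp2 ht hu2 hu1 huP
  have h1 := Cfsg.Agent.Lib.CITCount.card_sq_eq_one_ge (z := (u : G)) (by rw [pow_two]; exact hu2) hu1
  have h2 := rootCount_one_le (G := G)
  rw [rootCount_one_eq] at h2
  have h3 := sum_deg_le R hσ hξ
  have h4 := card_conj_mul_card_centralizer (u : G)
  rw [card_cent R hσ hξ hp2 hu2 hu1 huP, card_G R, card_N R] at h4
  have h5 := R.deg_J hσ hξ
  rw [R.hn] at h5
  have h6 := deg_of_xi R R.f₀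
  rw [hσ, hl] at h6
  have h7 := count_t R hξ
  rw [hσ, hl] at h7
  have h8 := count_norm R
  rw [R.w_one hξ, if_pos rfl] at h8
  have h9 := T_mul R
  set T := (Jset R.D).card with hTdef
  set d := charDegree ((R.D.ξ R.f₀ : IrrCharacter G) : G → ℂ) with hd
  set a := (Aset R).card with ha
  set b := (Bset R).card with hb
  set I := Nat.card {w : G // IsConj (u : G) w} with hI
  set X := Nat.card {x : G // x ^ 2 = 1} with hX
  set S := ∑ χ : IrrCharacter G, charDegree (χ : G → ℂ) with hS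
  rw [hT] at h5 h9
  -- `|I| = p d`
  have hd0 : 0 < d := Cfsg.Agent.Lib.CharKernel.charDegree_pos (R.D.ξ R.f₀).2
  have ht0 : 0 < t := by omega
  have hII : I = p * d := by
    have h10 : I * ((n + 1) * t) = (p * d) * ((n + 1) * t) := by
      rw [h4, ← h5]
      ring
    exact Nat.eq_of_mul_eq_mul_right (by positivity) h10
  have hbound : p * d + 1 ≤ 1 + a * (1 + n * p) + b * (p - 1) + T * d + p * n := by
    rw [← hII]
    omega
  -- the integer identities
  have ht' : (t : ℤ) = 2 + a * ((n : ℤ) + 1) := by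
    push_cast at h7
    linarith
  have hb' : (b : ℤ) = (t : ℤ) - 1 - a := by linarith
  have hp' : (p : ℤ) = ((n : ℤ) + 1) * t + 1 := by
    have : ((n + 1) * t + 1 : ℕ) = p := h9
    rw [← this]
    push_cast
    ring
  have hd' : (d : ℤ) = (p : ℤ) - t := by
    push_cast at h6
    linarith
  have hM' : ((1 + n * p : ℕ) : ℤ) = ((n : ℤ) + 1) * d := by
    have : (n + 1) * d = 1 + n * p := h5
    rw [← this]
    push_cast
    ring
  have hp1 : ((p - 1 : ℕ) : ℤ) = (p : ℤ) - 1 := by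
    have := R.H.prime.one_le
    push_cast [this]
    ring
  have hbound' : (p : ℤ) * d + 1 ≤ 1 + a * (((n : ℤ) + 1) * d) + b * ((p : ℤ) - 1) + ((n : ℤ) + 1) * d + p * n := by
    have h10 : (((p * d + 1 : ℕ)) : ℤ) ≤ ((1 + a * (1 + n * p) + b * (p - 1) + T * d + p * n : ℕ) : ℤ) := by
      exact_mod_cast hbound
    rw [hT] at h10
    push_cast [hp1] at h10
    have h11 : (1 + (n : ℤ) * p) = ((n : ℤ) + 1) * d := by
      rw [← hM']
      push_cast
      ring
    rw [h11] at h10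
    have h12 : (1 + (a : ℤ) * (((n : ℤ) + 1) * d) + b * ((p : ℤ) - 1) + ((n : ℤ) + 1) * d + p * n) =
      (1 + (a : ℤ) * (((n : ℤ) + 1) * d) + b * ((p : ℤ) - 1) + ((n : ℤ) + 1) * d + p * n) := rfl
    linarith
  have key : (p : ℤ) * d - (a * (((n : ℤ) + 1) * d) + b * ((p : ℤ) - 1) + ((n : ℤ) + 1) * d + p * n) =
      ((n : ℤ) + 1 - 2) * ((t : ℤ) - 2) * d := by
    rw [hb', hd', hp', ht']
    ring
  have hle : ((n : ℤ) + 1 - 2) * ((t : ℤ) - 2) * d ≤ 0 := by
    rw [← key]
    linarith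
  have hd0' : (0 : ℤ) < d := by exact_mod_cast hd0
  have hle2 : ((n : ℤ) + 1 - 2) * ((t : ℤ) - 2) ≤ 0 := by
    by_contra hcon
    push Not at hcon
    have := mul_pos hcon hd0'
    linarith
  constructor
  · by_contra hcon
    push Not at hcon
    obtain ⟨h10, h11⟩ := hcon
    have h12 : (3 : ℤ) ≤ (n : ℤ) + 1 := by
      have : n + 1 ≠ 2 := by rw [← hT]; exact h10
      have : 3 ≤ n + 1 := by omega
      exact_mod_cast this
    have h13 : (3 : ℤ) ≤ t := by
      have : 3 ≤ t := by omega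
      exact_mod_cast this
    have := mul_pos (show (0 : ℤ) < (n : ℤ) + 1 - 2 by linarith) (show (0 : ℤ) < (t : ℤ) - 2 by linarith)
    linarith
  · intro ht2
    -- equality throughout
    have h10 : X ≤ p * d + 1 := by
      have h11 : (S : ℤ) ≤ ((1 + a * (1 + n * p) + b * (p - 1) + T * d + p * n : ℕ) : ℤ) := by exact_mod_cast h3
      have h12 : ((1 + a * (1 + n * p) + b * (p - 1) + T * d + p * n : ℕ) : ℤ) = ((p * d + 1 : ℕ) : ℤ) := by
        rw [hT]
        push_cast [hp1]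
        have h13 : (1 + (n : ℤ) * p) = ((n : ℤ) + 1) * d := by
          rw [← hM']
          push_cast
          ring
        rw [h13]
        have h14 : ((n : ℤ) + 1 - 2) * ((t : ℤ) - 2) * d = 0 := by
          rw [ht2]
          push_cast
          ring
        rw [← key] at h14
        linarith
      have h13 : S ≤ p * d + 1 := by
        have : (S : ℤ) ≤ ((p * d + 1 : ℕ) : ℤ) := by rw [← h12]; exact h11
        exact_mod_cast this
      omega
    omega

end Main

end Cfsg.Agent.Lib.RigJ
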