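import Mathlib
import Cfsg.Agent.Lib.RigJ

/-!
# The self-centralizing case: `|N : P| = 2`
-/

set_option autoImplicit false
set_option linter.style.haveILetI false
set_option linter.unusedSectionVars false
set_option linter.unusedVariables false
set_option linter.unusedSimpArgs false

namespace Cfsg.Agent.Lib.RigK

open Cfsg Cfsg.Agent.Lib.CharBasic Subgroup Cfsg.Agent.Lib.DefectOne Cfsg.Agent.Lib.CharInd
open Cfsg.Agent.Lib.TICent Cfsg.Agent.Lib.RigA Cfsg.Agent.Lib.RangeStruct Cfsg.Agent.Lib.RigB Cfsg.Agent.Lib.RigC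
open Cfsg.Agent.Lib.RigD Cfsg.Agent.Lib.RigE Cfsg.Agent.Lib.RigF Cfsg.Agent.Lib.RigG Cfsg.Agent.Lib.RigH
open Cfsg.Agent.Lib.RigI Cfsg.Agent.Lib.RigJ
open scoped ComplexConjugate

variable {G : Type*} [Group G] [Fintype G] [DecidableEq G] {p : ℕ} {P : Subgroup G} {e₀ : ℕ}

/-- Equality in the count of involutions. -/
theorem all_conj_of_card {u : G} (hu1 : u ≠ 1) (h : Nat.card {x : G // x ^ 2 = 1} = Nat.card {w : G // IsConj u w} + 1)
    (hu2 : u ^ 2 = 1) {x : G} (hx2 : x ^ 2 = 1) (hx1 : x ≠ 1) : IsConj u x := by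
  classical
  by_contra hcon
  rw [Nat.card_eq_fintype_card, Nat.card_eq_fintype_card, Fintype.card_subtype, Fintype.card_subtype] at h
  set B := Finset.univ.filter fun w : G => IsConj u w with hB
  have h1 : (1 : G) ∉ insert x B := by
    simp only [Finset.mem_insert, hB, Finset.mem_filter, Finset.mem_univ, true_and, not_or]
    refine ⟨hx1.symm, fun h2 => hu1 ?_⟩
    exact isConj_one_left.1 h2
  have h2 : x ∉ B := by
    simpa [hB] using hcon
  have h3 : insert (1 : G) (insert x B) ⊆ Finset.univ.filter fun x : G => x ^ 2 = 1 := by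
    intro y hy
    simp only [Finset.mem_insert, hB, Finset.mem_filter, Finset.mem_univ, true_and] at hy ⊢
    rcases hy with rfl | rfl | hy
    · simp
    · exact hx2
    · obtain ⟨c, rfl⟩ := isConj_iff.1 hy
      rw [conj_pow, hu2]
      simp
  have h4 := Finset.card_le_card h3
  rw [Finset.card_insert_of_notMem h1, Finset.card_insert_of_notMem h2] at h4
  omega

section Main

variable {t n : ℕ} [Fintype P] [Fintype (MonoidHom.id ↥P).ker] [Fintype (↥P →* ℂˣ)] [(cN P P).Normal]
  [Fintype ↥(normalizer (P : Set G))] [Fintype (QQ P P →* ℂˣ)]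

variable (R : Ctx p P P (MonoidHom.id ↥P) e₀ t n)
include R

/-- The sign at the involution. -/
theorem lam_u_eq (ht2 : t = 2) {u : ↥(normalizer (P : Set G))} (huP : (u : G) ∉ P) {l : QQ P P →* ℂˣ} (hl : l ≠ 1) :
    lam l u = -1 := by
  classical
  have hc := R.card_QQ_dual
  rw [ht2] at hc
  have hQ := comm_QQ R.H R.hcard
  have h1 : (QuotientGroup.mk u : QQ P P) ≠ 1 := by
    intro h
    exact huP ((QuotientGroup.eq_one_iff u).1 h)
  have h2 := sum_hom_ne hQ h1
  have h3 : ∀ c : QQ P P →* ℂˣ, c ≠ 1 → c = l := by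
    intro c hc1
    by_contra hcl
    have h4 : ({1, l, c} : Finset (QQ P P →* ℂˣ)).card = 3 :=
      Finset.card_eq_three.2 ⟨1, l, c, hl.symm, hc1.symm, fun h => hcl h.symm, rfl⟩
    have h5 := Finset.card_le_univ ({1, l, c} : Finset (QQ P P →* ℂˣ))
    omega
  rw [Finset.sum_eq_add (1 : QQ P P →* ℂˣ) l hl.symm (fun c _ hc2 => absurd (h3 c hc2.1) hc2.2) (by simp) (by simp)] at h2
  have h4 : ((1 : QQ P P →* ℂˣ) (QuotientGroup.mk u) : ℂ) = 1 := by simp
  rw [h4] at h2
  have h5 : lam l u = ((l (QuotientGroup.mk u) : ℂˣ) : ℂ) := rfl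
  rw [h5]
  linear_combination h2

open Classical in
/-- The set `W`. -/
noncomputable def Wset (u : G) : Finset G :=
  Finset.univ.filter fun x : G => x ∈ centralizer ({u} : Set G) ∧ x * x = 1 ∧ x ≠ 1 ∧ x ≠ u

omit R in
open Classical in
theorem mem_Wset {u x : G} : x ∈ Wset u ↔ x ∈ centralizer ({u} : Set G) ∧ x * x = 1 ∧ x ≠ 1 ∧ x ≠ u := by
  simp [Wset]

omit R in
open Classical in
/-- The double count at `u`. -/
theorem count_u {u : G} (hu2 : u * u = 1) (hu1 : u ≠ 1) (hall : ∀ x : G, x * x = 1 → x ≠ 1 → IsConj u x) :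
    ∑ a : G, ∑ b : G, (if u⁻¹ * (a * u * a⁻¹) * (b * u * b⁻¹) = 1 then 1 else 0) =
      (Wset u).card * Nat.card (centralizer ({u} : Set G)) ^ 2 := by
  classical
  set c := Nat.card (centralizer ({u} : Set G)) with hc
  have hinv : ∀ x : G, x * x = 1 → x⁻¹ = x := fun x hx => by
    rw [inv_eq_iff_mul_eq_one]
    exact hx
  have key : ∀ a : G, ∑ b : G, (if u⁻¹ * (a * u * a⁻¹) * (b * u * b⁻¹) = 1 then 1 else 0) =
      if a * u * a⁻¹ ∈ Wset u then c else 0 := by
    intro a
    set x := a * u * a⁻¹ with hx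
    have hx2 : x * x = 1 := by
      calc x * x = a * (u * u) * a⁻¹ := by rw [hx]; group
        _ = 1 := by rw [hu2]; group
    have hx1 : x ≠ 1 := by
      intro h
      apply hu1
      have : u = a⁻¹ * x * a := by rw [hx]; group
      rw [this, h]
      group
    clear_value x
    have hform : ∀ b : G, u⁻¹ * x * (b * u * b⁻¹) = 1 ↔ b * u * b⁻¹ = x⁻¹ * u := by
      intro b
      constructor
      · intro h
        have h2 : u⁻¹ * x * (b * u * b⁻¹) = (u⁻¹ * x) * (x⁻¹ * u) := by
          rw [h]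
          group
        exact mul_left_cancel h2
      · intro h
        rw [h]
        group
    simp_rw [hform]
    rw [Finset.sum_boole]
    split_ifs with hm
    · obtain ⟨h1, -, -, h4⟩ := mem_Wset.1 hm
      have hcomm : x * u = u * x := (mem_centralizer_singleton_iff.1 h1)
      have h5 : x⁻¹ * u = x * u := by rw [hinv x hx2]
      have h6 : (x * u) * (x * u) = 1 := by
        calc (x * u) * (x * u) = x * (u * x) * u := by group
          _ = x * (x * u) * u := by rw [hcomm]
          _ = (x * x) * (u * u) := by group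
          _ = 1 := by rw [hx2, hu2]; group
      have h7 : x * u ≠ 1 := by
        intro h
        apply h4
        have h8 : x = u⁻¹ := eq_inv_of_mul_eq_one_left h
        rw [h8, hinv u hu2]
      rw [h5]
      have h9 := Cfsg.Agent.Lib.DefectTwo.card_filter_conj u (x * u) (hall _ h6 h7)
      simp only [Nat.cast_id]
      convert h9
    · simp only [Nat.cast_id, Finset.card_eq_zero, Finset.filter_eq_empty_iff, Finset.mem_univ, forall_const]
      intro b hb
      apply hm
      set y := b * u * b⁻¹ with hy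
      have hy2 : y * y = 1 := by
        calc y * y = b * (u * u) * b⁻¹ := by rw [hy]; group
          _ = 1 := by rw [hu2]; group
      have hy1 : y ≠ 1 := by
        intro h
        apply hu1
        have : u = b⁻¹ * y * b := by rw [hy]; group
        rw [this, h]
        group
      clear_value y
      have hxy : x * y = u := by rw [hb]; group
      refine mem_Wset.2 ⟨?_, hx2, hx1, ?_⟩
      · rw [mem_centralizer_singleton_iff]
        have h3 : x * u * x = u := by
          have h4 : u⁻¹ = y * x := by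
            rw [← hxy, mul_inv_rev, hinv x hx2, hinv y hy2]
          have h5 : u⁻¹ = u := hinv u hu2
          calc x * u * x = x * (x * y) * x := by rw [hxy]
            _ = (x * x) * (y * x) := by group
            _ = y * x := by rw [hx2]; group
            _ = u := by rw [← h4, h5]
        symm
        calc u * x = (x * u * x) * x := by rw [h3]
          _ = x * u * (x * x) := by group
          _ = x * u := by rw [hx2]; group
      · intro h
        apply hy1
        rw [h] at hxy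
        have h6 : u * y = u * 1 := by rw [hxy]; group
        exact mul_left_cancel h6
  simp_rw [key]
  rw [Finset.sum_ite, Finset.sum_const_zero, add_zero, Finset.sum_const, smul_eq_mul]
  have h2 : (Finset.univ.filter fun a : G => a * u * a⁻¹ ∈ Wset u).card = (Wset u).card * c := by
    rw [Finset.card_eq_sum_card_fiberwise (f := fun a : G => a * u * a⁻¹) (t := Wset u)
      (fun a ha => by simpa using ha)]
    rw [← smul_eq_mul, ← Finset.sum_const]
    refine Finset.sum_congr rfl fun x hx => ?_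
    obtain ⟨-, h3, h4, -⟩ := mem_Wset.1 hx
    have h5 := Cfsg.Agent.Lib.DefectTwo.card_filter_conj u x (hall _ h3 h4)
    have h6 : (Finset.univ.filter fun a : G => a * u * a⁻¹ ∈ Wset u).filter (fun a => a * u * a⁻¹ = x) =
        Finset.univ.filter fun a : G => a * u * a⁻¹ = x := by
      ext a
      simp only [Finset.mem_filter, Finset.mem_univ, true_and]
      constructor
      · exact fun h => h.2
      · intro h
        exact ⟨by rw [h]; exact hx, h⟩
    rw [h6]
    convert h5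
  rw [h2]
  ring

/-- The character sum at `u`. -/
theorem F_sum_u (hσ : R.D.σ = -1) (hξ : R.D.ξ R.f₀ ≠ oneIrr G) (hp2 : p ≠ 2) (ht2 : t = 2) {u : ↥(normalizer (P : Set G))}
    (hu2 : (u : G) * u = 1) (hu1 : (u : G) ≠ 1) (huP : (u : G) ∉ P) :
    ∑ χ : IrrCharacter G, (χ : G → ℂ) u ^ 2 * (χ : G → ℂ) (u : G)⁻¹ / (χ : G → ℂ) 1 =
      1 - ((n : ℂ) + 1) / (charDegree ((R.D.ξ R.f₀ : IrrCharacter G) : G → ℂ) : ℂ) + (n : ℂ) / (p : ℂ) := by
  classical
  have hp := R.H.prime
  obtain ⟨hT, hl₀⟩ := T_eq R hσ hξ hp2 (by omega) hu2 hu1 huP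
  have huinv : (u : G)⁻¹ = u := by
    rw [inv_eq_iff_mul_eq_one]
    exact hu2
  rw [huinv, sum_split R hξ]
  have h1 : ((oneIrr G : IrrCharacter G) : G → ℂ) u ^ 2 * ((oneIrr G : IrrCharacter G) : G → ℂ) u /
      ((oneIrr G : IrrCharacter G) : G → ℂ) 1 = 1 := by
    have h2 : ∀ g : G, ((oneIrr G : IrrCharacter G) : G → ℂ) g = 1 := fun _ => rfl
    rw [h2, h2]
    simp
  have ha0 : (Aset R).card = 0 := by
    have h3 := count_t R hξ
    rw [hσ, hl₀] at h3
    have ht2Z : (t : ℤ) = 2 := by exact_mod_cast ht2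
    push_cast at h3
    have h4 : (Aset R).card * (n + 1) = 0 := by
      have : (((Aset R).card * (n + 1) : ℕ) : ℤ) = 0 := by
        push_cast
        linarith
      exact_mod_cast this
    rcases Nat.mul_eq_zero.1 h4 with h5 | h5
    · exact h5
    · omega
  have hA : ∑ χ ∈ Aset R, (χ : G → ℂ) u ^ 2 * (χ : G → ℂ) u / (χ : G → ℂ) 1 = 0 := by
    rw [Finset.card_eq_zero.1 ha0, Finset.sum_empty]
  have hB : ∑ χ ∈ Bset R, (χ : G → ℂ) u ^ 2 * (χ : G → ℂ) u / (χ : G → ℂ) 1 = 0 := by
    refine Finset.sum_eq_zero fun χ hχ => ?_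
    rw [val_plus R ((mem_Bset R).1 hχ) huP]
    simp
  obtain ⟨l, hl1, hl⟩ := exists_l_J R hσ hξ
  have hJ : ∑ χ ∈ Jset R.D, (χ : G → ℂ) u ^ 2 * (χ : G → ℂ) u / (χ : G → ℂ) 1 =
      -(((n : ℂ) + 1) / (charDegree ((R.D.ξ R.f₀ : IrrCharacter G) : G → ℂ) : ℂ)) := by
    have h2 : ∀ χ ∈ Jset R.D, (χ : G → ℂ) u ^ 2 * (χ : G → ℂ) u / (χ : G → ℂ) 1 =
        -(1 / (charDegree ((R.D.ξ R.f₀ : IrrCharacter G) : G → ℂ) : ℂ)) := by
      intro χ hχ
      rw [val_j R hσ hξ hp2 hu2 hu1 huP hl hχ, lam_u_eq R ht2 huP hl1, hl₀]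
      obtain ⟨f, rfl⟩ := (mem_Jset R.D).1 hχ
      rw [Cfsg.Agent.Lib.CharKernel.one_eq_charDegree (IsIrrCharacter.isCharacter (R.D.ξ f).2), xi_deg R.H R.D f R.f₀]
      push_cast
      ring
    rw [Finset.sum_congr rfl h2, Finset.sum_const, hT, nsmul_eq_mul]
    push_cast
    ring
  have hD : ∑ χ ∈ Dset R, (χ : G → ℂ) u ^ 2 * (χ : G → ℂ) u / (χ : G → ℂ) 1 = (n : ℂ) / (p : ℂ) := by
    have h9 : ((∑ χ ∈ Dset R, (R.m 1 χ) ^ 2 : ℕ) : ℂ) = n := by rw [sum_D_sq R hσ hξ]
    rw [← h9]
    push_cast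
    rw [Finset.sum_div]
    refine Finset.sum_congr rfl fun χ hχ => ?_
    obtain ⟨h2, h3⟩ := (mem_Dset R).1 hχ
    rw [val_zero R h2 h3 huP, Cfsg.Agent.Lib.CharKernel.one_eq_charDegree (IsIrrCharacter.isCharacter χ.2), deg_zero R h2 h3]
    have h4 : (R.m 1 χ : ℂ) ≠ 0 := by
      intro h5
      have h6 : R.m 1 χ = 0 := by exact_mod_cast h5
      have h7 := deg_zero R h2 h3
      rw [h6, mul_zero] at h7
      exact (Cfsg.Agent.Lib.CharKernel.charDegree_ne_zero χ.2) h7
    have h5 : (p : ℂ) ≠ 0 := by exact_mod_cast hp.pos.ne'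
    push_cast
    field_simp
  rw [h1, hA, hB, hJ, hD]
  ring

/-- **The structure of the centralizer of an involution for `t = 2`.** -/
theorem case_two (hσ : R.D.σ = -1) (hξ : R.D.ξ R.f₀ ≠ oneIrr G) (hp2 : p ≠ 2) (ht2 : t = 2) {u : ↥(normalizer (P : Set G))}
    (hu2 : (u : G) * u = 1) (hu1 : (u : G) ≠ 1) (huP : (u : G) ∉ P) :
    (∀ x : G, x * x = 1 → x ≠ 1 → IsConj (u : G) x) ∧ (∀ x ∈ centralizer ({(u : G)} : Set G), x * x = 1) ∧
      Nat.card (centralizer ({(u : G)} : Set G)) + 1 = p ∧ Nat.card G = p * (p - 1) * (p - 2) := by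
  classical
  have hp := R.H.prime
  obtain ⟨hT, hl₀⟩ := T_eq R hσ hξ hp2 (by omega) hu2 hu1 huP
  have hfs := (fs_main R hσ hξ hp2 (by omega) hu2 hu1 huP).2 ht2
  have hall : ∀ x : G, x * x = 1 → x ≠ 1 → IsConj (u : G) x := fun x hx hx1 =>
    all_conj_of_card hu1 hfs (by rw [pow_two]; exact hu2) (by rw [pow_two]; exact hx) hx1
  have hcount := count_u hu2 hu1 hall
  have hformula := Cfsg.Agent.Lib.D8CentChar.struct_formula (u : G) (u : G)
  have hcc := card_cent R hσ hξ hp2 hu2 hu1 huP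
  have hF := F_sum_u R hσ hξ hp2 ht2 hu2 hu1 huP
  have h5 := R.deg_J hσ hξ
  rw [R.hn, hT] at h5
  have h6 := deg_of_xi R R.f₀
  rw [hσ, hl₀] at h6
  have ht2Z : (t : ℤ) = 2 := by exact_mod_cast ht2
  have h9 := T_mul R
  rw [hT, ht2] at h9
  have hG := card_G R
  rw [card_N R, ht2] at hG
  rw [ht2] at hcc
  set d := charDegree ((R.D.ξ R.f₀ : IrrCharacter G) : G → ℂ) with hd
  set W := (Wset (u : G)).card with hW
  have hd' : d + 2 = p := by
    push_cast at h6
    omega
  have hd0 : 0 < d := Cfsg.Agent.Lib.CharKernel.charDegree_pos (R.D.ξ R.f₀).2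
  have hGd : Nat.card G = p * 2 * ((n + 1) * d) := by
    rw [hG, h5]
  -- the numerical conclusion
  have hWn : W = 2 * n := by
    have h1 : (Nat.card G : ℂ) * ((W * ((n + 1) * 2) ^ 2 : ℕ) : ℂ) = (Nat.card G : ℂ) ^ 2 * (1 - ((n : ℂ) + 1) / (d : ℂ) + (n : ℂ) / (p : ℂ)) := by
      rw [← hF, ← hcc, ← hcount]
      convert hformula
    have hG0 : (Nat.card G : ℂ) ≠ 0 := by exact_mod_cast Nat.card_pos.ne'
    have h2 : ((W * ((n + 1) * 2) ^ 2 : ℕ) : ℂ) = (Nat.card G : ℂ) * (1 - ((n : ℂ) + 1) / (d : ℂ) + (n : ℂ) / (p : ℂ)) := by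
      apply mul_left_cancel₀ hG0
      rw [h1]
      ring
    rw [hGd] at h2
    have hd0' : (d : ℂ) ≠ 0 := by exact_mod_cast hd0.ne'
    have hp0 : (p : ℂ) ≠ 0 := by exact_mod_cast hp.pos.ne'
    have hd2 : (p : ℂ) = (d : ℂ) + 2 := by
      rw [← hd']
      push_cast
      ring
    have h3 : (d : ℂ) = 2 * (n : ℂ) + 1 := by
      have h4 : 2 * (n + 1) + 1 = p := by omega
      have h5 : d = 2 * n + 1 := by omega
      rw [h5]
      push_cast
      ring
    have h4 : (((n : ℂ) + 1)) ≠ 0 := by exact_mod_cast (Nat.succ_ne_zero n)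
    have h7 : (W : ℂ) * (4 * ((n : ℂ) + 1) ^ 2) = 8 * (n : ℂ) * ((n : ℂ) + 1) ^ 2 := by
      push_cast at h2
      have h8 : (W : ℂ) * (((n : ℂ) + 1) * 2) ^ 2 = (p : ℂ) * 2 * (((n : ℂ) + 1) * d) * (1 - ((n : ℂ) + 1) / (d : ℂ) + (n : ℂ) / (p : ℂ)) := h2
      have h9 : (p : ℂ) * 2 * (((n : ℂ) + 1) * d) * (1 - ((n : ℂ) + 1) / (d : ℂ) + (n : ℂ) / (p : ℂ)) =
          2 * ((n : ℂ) + 1) * ((p : ℂ) * d - (p : ℂ) * ((n : ℂ) + 1) + (n : ℂ) * d) := by
        field_simp
      rw [h9] at h8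
      rw [hd2, h3] at h8
      linear_combination h8
    have h8 : (4 * ((n : ℂ) + 1) ^ 2) ≠ 0 := by
      apply mul_ne_zero (by norm_num) (pow_ne_zero _ h4)
    have h10 : (W : ℂ) = 2 * (n : ℂ) := by
      apply mul_right_cancel₀ h8
      rw [h7]
      ring
    exact_mod_cast h10
  have hc : Nat.card (centralizer ({(u : G)} : Set G)) = 2 * n + 2 := by
    rw [hcc]
    ring
  refine ⟨hall, ?_, ?_, ?_⟩
  · -- all elements of the centralizer are involutions
    intro x hx
    by_contra hne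
    have hsub : insert (1 : G) (insert (u : G) (Wset (u : G))) ⊆
        (Finset.univ.filter fun y : G => y ∈ centralizer ({(u : G)} : Set G)).erase x := by
      intro y hy
      simp only [Finset.mem_insert] at hy
      simp only [Finset.mem_erase, Finset.mem_filter, Finset.mem_univ, true_and]
      rcases hy with rfl | rfl | hy
      · refine ⟨fun h => hne (by rw [← h]; group), Subgroup.one_mem _⟩
      · refine ⟨fun h => hne (by rw [← h]; exact hu2), ?_⟩
        rw [mem_centralizer_singleton_iff]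
      · obtain ⟨h1, h2, -, -⟩ := mem_Wset.1 hy
        exact ⟨fun h => hne (by rw [← h]; exact h2), h1⟩
    have h1 := Finset.card_le_card hsub
    have h2 : (1 : G) ∉ insert (u : G) (Wset (u : G)) := by
      simp only [Finset.mem_insert, not_or]
      refine ⟨hu1.symm, fun h => ?_⟩
      exact (mem_Wset.1 h).2.2.1 rfl
    have h3 : (u : G) ∉ Wset (u : G) := fun h => (mem_Wset.1 h).2.2.2 rfl
    rw [Finset.card_insert_of_notMem h2, Finset.card_insert_of_notMem h3, Finset.card_erase_of_mem (by simpa using hx)] at h1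
    have h4 : (Finset.univ.filter fun y : G => y ∈ centralizer ({(u : G)} : Set G)).card = 2 * n + 2 := by
      rw [← hc, Nat.card_eq_fintype_card, Fintype.card_subtype]
    rw [h4, ← hW, hWn] at h1
    omega
  · rw [hc]
    omega
  · rw [hGd]
    have h1 : p - 1 = 2 * (n + 1) := by omega
    have h2 : p - 2 = d := by omega
    rw [h1, h2]
    ring

end Main

end Cfsg.Agent.Lib.RigK
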