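import Mathlib
import Cfsg.Agent.Lib.RigK
import Cfsg.Agent.Lib.InvolutionIndexTwo

/-!
# The self-centralizing case: the outcome
-/

set_option autoImplicit false
set_option linter.style.haveILetI false
set_option linter.unusedSectionVars false
set_option linter.unusedVariables false
set_option linter.unusedSimpArgs false

namespace Cfsg.Agent.Lib.RigL

open Cfsg Cfsg.Agent.Lib.CharBasic Subgroup Cfsg.Agent.Lib.DefectOne Cfsg.Agent.Lib.CharInd
open Cfsg.Agent.Lib.TICent Cfsg.Agent.Lib.RigA Cfsg.Agent.Lib.RangeStruct Cfsg.Agent.Lib.RigB Cfsg.Agent.Lib.RigC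
open Cfsg.Agent.Lib.RigD Cfsg.Agent.Lib.RigE Cfsg.Agent.Lib.RigF Cfsg.Agent.Lib.RigG Cfsg.Agent.Lib.RigH
open Cfsg.Agent.Lib.RigI Cfsg.Agent.Lib.RigJ Cfsg.Agent.Lib.RigK
open scoped ComplexConjugate

section Group

variable {G : Type*} [Group G] [Finite G]

/-- A perfect group has no subgroup of index two. -/
theorem no_index_two (hperf : _root_.commutator G = ⊤) (H : Subgroup G) : H.index ≠ 2 := by
  intro h
  haveI := Subgroup.normal_of_index_eq_two h
  have h1 : _root_.commutator G ≤ H := by
    rw [commutator_def, Subgroup.commutator_le]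
    intro a _ b _
    have h2 : (QuotientGroup.mk (a * b * a⁻¹ * b⁻¹) : G ⧸ H) = 1 := by
      have h3 : Nat.card (G ⧸ H) = 2 := h
      haveI : Fact (Nat.Prime 2) := ⟨Nat.prime_two⟩
      have h4 := isCyclic_of_prime_card h3
      letI := IsCyclic.commGroup (α := G ⧸ H)
      have h5 : (QuotientGroup.mk a : G ⧸ H) * QuotientGroup.mk b = QuotientGroup.mk b * QuotientGroup.mk a := mul_comm _ _
      simp only [QuotientGroup.mk_mul, QuotientGroup.mk_inv]
      rw [h5]
      group
    exact (QuotientGroup.eq_one_iff _).1 h2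
  rw [hperf, top_le_iff] at h1
  rw [h1, Subgroup.index_top] at h
  omega

end Group

variable {G : Type*} [Group G] [Fintype G] [DecidableEq G] {p : ℕ} {P : Subgroup G} {e₀ : ℕ}

section Kill

/-- Odd index and even normalizer contradict perfectness. -/
theorem false_of_odd_index (hperf : _root_.commutator G = ⊤) (H : Hyp p P P (MonoidHom.id ↥P) e₀) (hcard : Nat.card P = p)
    (hp2 : p ≠ 2) (hodd : Odd (normalizer (P : Set G)).index) (h2 : 2 ∣ Nat.card (normalizer (P : Set G))) : False := by
  classical
  have hp := H.prime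
  haveI : Fact p.Prime := ⟨hp⟩
  haveI : Fact (Nat.Prime 2) := ⟨Nat.prime_two⟩
  obtain ⟨Q⟩ : Nonempty (Sylow 2 ↥(normalizer (P : Set G))) := inferInstance
  set Q' : Subgroup G := (Q : Subgroup ↥(normalizer (P : Set G))).map (normalizer (P : Set G)).subtype with hQ'
  have hle : Q' ≤ normalizer (P : Set G) := by
    rintro x ⟨y, -, rfl⟩
    exact y.2
  have hcardQ : Nat.card Q' = 2 ^ (Nat.card G).factorization 2 := by
    have h3 : Nat.card Q' = Nat.card (Q : Subgroup ↥(normalizer (P : Set G))) :=
      Nat.card_congr (Subgroup.equivMapOfInjective _ _ (normalizer (P : Set G)).subtype_injective).symm.toEquiv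
    rw [h3, Sylow.card_eq_multiplicity]
    congr 1
    have h4 := Subgroup.card_mul_index (normalizer (P : Set G))
    rw [← h4, Nat.factorization_mul (Nat.card_pos.ne') (by exact (Subgroup.index_ne_zero_of_finite))]
    have h5 : (normalizer (P : Set G)).index.factorization 2 = 0 := Nat.factorization_eq_zero_of_not_dvd (by
      intro h6
      exact (Nat.not_even_iff_odd.2 hodd) (even_iff_two_dvd.2 h6))
    simp [h5]
  set T : Sylow 2 G := Sylow.ofCard Q' hcardQ with hT
  have hcoe : (T : Subgroup G) = Q' := rfl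
  have hcyc : IsCyclic (T : Subgroup G) := by
    rw [hcoe]
    have hPcyc : IsCyclic ↥P := isCyclic_of_prime_card hcard
    have h3 : IsCyclic (MulAut ↥P) := by
      have e := IsCyclic.mulAutMulEquiv (G := ↥P)
      rw [hcard] at e
      exact isCyclic_of_surjective e.symm.toMonoidHom e.symm.surjective
    let f : ↥Q' →* MulAut ↥P := (normalizerMonoidHom P).comp (Subgroup.inclusion hle)
    refine isCyclic_of_injective f ?_
    rw [injective_iff_map_eq_one]
    intro x hx
    have h4 : (x : G) ∈ centralizer (P : Set G) := by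
      rw [mem_centralizer_iff]
      intro y hy
      have h5 := congrArg (fun φ : MulAut ↥P => (φ ⟨y, hy⟩ : ↥P)) hx
      have h6 : ((x : G) * y * (x : G)⁻¹) = y := congrArg Subtype.val h5
      calc y * (x : G) = ((x : G) * y * (x : G)⁻¹) * (x : G) := by rw [h6]
        _ = (x : G) * y := by group
    rw [H.cen] at h4
    -- `x` is a `2`-element and `p`-element
    have h7 : orderOf (x : G) ∣ p := by
      have := Subgroup.orderOf_dvd_natCard P h4
      rwa [hcard] at this
    have h8 : IsPGroup 2 ↥Q' := by
      rw [← hcoe]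
      exact T.isPGroup'
    obtain ⟨k, hk⟩ := (IsPGroup.iff_orderOf.1 h8) x
    have h9 : orderOf (x : G) = 2 ^ k := by
      rw [← hk]
      exact (Subgroup.orderOf_coe x)
    rcases (Nat.dvd_prime hp).1 h7 with h10 | h10
    · exact Subtype.ext (orderOf_eq_one_iff.1 h10)
    · exfalso
      rw [h9] at h10
      have h11 : p ∣ 2 ^ k := by rw [h10]
      have h12 := hp.dvd_of_dvd_pow h11
      exact hp2 ((Nat.prime_dvd_prime_iff_eq hp Nat.prime_two).1 h12)
  have heven : Even (Nat.card G) := by
    have h3 := Subgroup.card_mul_index (normalizer (P : Set G))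
    rw [← h3]
    exact (even_iff_two_dvd.2 h2).mul_right _
  obtain ⟨K, hK⟩ := Cfsg.Agent.Lib.InvolutionIndexTwo.exists_index_two_of_isCyclic_sylow heven T hcyc
  exact no_index_two hperf K hK

end Kill

section Main

variable {t n : ℕ} [Fintype P] [Fintype (MonoidHom.id ↥P).ker] [Fintype (↥P →* ℂˣ)] [(cN P P).Normal]
  [Fintype ↥(normalizer (P : Set G))] [Fintype (QQ P P →* ℂˣ)]

variable (R : Ctx p P P (MonoidHom.id ↥P) e₀ t n)
include R

/-- The family of exceptional characters has at least two members. -/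
theorem two_le_T (ht : 2 ≤ t) : 2 ≤ (Jset R.D).card := by
  by_contra h
  have h0 := T_pos R
  have hT : (Jset R.D).card = 1 := by omega
  have hp := R.H.prime
  have hp2 := p_ne_two R ht
  have h1 := dvd_of_T_one R hT
  have h2 := T_mul R
  rw [hT, one_mul] at h2
  have hpodd : Odd p := hp.odd_of_ne_two hp2
  have hteven : Even t := by
    by_contra h3
    rw [Nat.not_even_iff_odd] at h3
    exact (Nat.not_even_iff_odd.2 hpodd) (by rw [← h2]; exact h3.add_one)
  have h3 : Odd (t - 1) := by
    obtain ⟨k, hk⟩ := hteven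
    exact ⟨k - 1, by omega⟩
  have h4 : Odd (n + 1) := Odd.of_dvd_nat h3 h1
  have h5 : Even n := by
    by_contra h6
    rw [Nat.not_even_iff_odd] at h6
    exact (Nat.not_even_iff_odd.2 h4) h6.add_one
  have h6 : Odd (normalizer (P : Set G)).index := by
    rw [R.hn]
    have h7 : Even (n * p) := h5.mul_right _
    rw [add_comm]
    exact h7.add_one
  refine false_of_odd_index R.hperf R.H R.hcard hp2 h6 ?_
  rw [card_N R]
  exact (even_iff_two_dvd.1 hteven).mul_left _

/-- **The outcome of the character theory.** -/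
theorem outcome (ht : 2 ≤ t) : ((Jset R.D).card = 2 ∧ n = 1) ∨
    (t = 2 ∧ ∃ u ∈ normalizer (P : Set G), u * u = 1 ∧ u ≠ 1 ∧ (∀ x : G, x * x = 1 → x ≠ 1 → IsConj u x) ∧
      (∀ x ∈ centralizer ({u} : Set G), x * x = 1) ∧ Nat.card (centralizer ({u} : Set G)) + 1 = p ∧
      Nat.card G = p * (p - 1) * (p - 2)) := by
  classical
  have hp := R.H.prime
  have hp2 := p_ne_two R ht
  have hT := two_le_T R ht
  have hn1 := n_pos R ht
  rcases R.D.hσ with hσ | hσ
  · left
    have h1 := case_plus R hσ (by omega)
    have h2 : n * 2 ≤ n * (Jset R.D).card := Nat.mul_le_mul_left _ hT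
    have h3 : n = 1 := by omega
    refine ⟨?_, h3⟩
    have h4 : ∀ T : ℕ, n * T ≤ n + 1 → 2 ≤ T → T = 2 := by
      intro T h5 h6
      rw [h3] at h5
      omega
    exact h4 _ h1 hT
  · -- `ξ ≠ 1`
    have hξ : R.D.ξ R.f₀ ≠ oneIrr G := by
      intro h
      have h1 : Jset R.D = {oneIrr G} := by
        ext χ
        simp only [mem_Jset R.D, Finset.mem_singleton]
        constructor
        · rintro ⟨f, rfl⟩
          apply eq_one_of_degree_one R.hperf
          rw [xi_deg R.H R.D f R.f₀, h, Ctx.deg_one]
        · rintro rfl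
          exact ⟨R.f₀, h⟩
      rw [h1, Finset.card_singleton] at hT
      omega
    by_cases hodd : Odd t
    · exact (case_odd R hσ hξ ht hodd).elim
    · rw [Nat.not_odd_iff_even] at hodd
      -- the involution
      have h2 : 2 ∣ Nat.card (normalizer (P : Set G)) := by
        rw [card_N R]
        exact (even_iff_two_dvd.1 hodd).mul_left _
      haveI : Fact (Nat.Prime 2) := ⟨Nat.prime_two⟩
      obtain ⟨u, hu⟩ := exists_prime_orderOf_dvd_card' 2 h2
      have hu' : orderOf (u : G) = 2 := by
        rw [Subgroup.orderOf_coe, hu]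
      have hu2 : (u : G) * u = 1 := by
        have := pow_orderOf_eq_one (u : G)
        rw [hu', pow_two] at this
        exact this
      have hu1 : (u : G) ≠ 1 := by
        intro h
        rw [h, orderOf_one] at hu'
        omega
      have huP : (u : G) ∉ P := by
        intro h
        have h3 := Subgroup.orderOf_dvd_natCard P h
        rw [hu', R.hcard] at h3
        exact hp2 ((Nat.prime_dvd_prime_iff_eq Nat.prime_two hp).1 h3).symm
      obtain ⟨h3, -⟩ := T_eq R hσ hξ hp2 ht hu2 hu1 huP
      rcases (fs_main R hσ hξ hp2 ht hu2 hu1 huP).1 with h4 | h4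
      · left
        refine ⟨h4, ?_⟩
        omega
      · right
        refine ⟨h4, u, u.2, hu2, hu1, ?_⟩
        exact case_two R hσ hξ hp2 h4 hu2 hu1 huP

end Main

end Cfsg.Agent.Lib.RigL
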