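import Mathlib
import Cfsg.Agent.S0732

/-!
# Recognition on `p + 1` points
-/

set_option autoImplicit false
set_option linter.style.haveILetI false
set_option linter.unusedSectionVars false
set_option linter.unusedVariables false
set_option linter.unusedSimpArgs false

namespace Cfsg.Agent.Lib.RigM

open Cfsg Subgroup

section Affine

variable {F : Type*} [Field F]

/-- The affine group. -/
def S1 (F : Type*) [Field F] : Subgroup (Equiv.Perm F) where
  carrier := {σ | ∃ a : Fˣ, ∃ b : F, ∀ x, σ x = (a : F) * x + b}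
  one_mem' := ⟨1, 0, fun x => by simp⟩
  mul_mem' := by
    rintro σ τ ⟨a, b, hσ⟩ ⟨c, d, hτ⟩
    refine ⟨a * c, (a : F) * d + b, fun x => ?_⟩
    simp only [Equiv.Perm.coe_mul, Function.comp_apply, hτ, hσ, Units.val_mul]
    ring
  inv_mem' := by
    rintro σ ⟨a, b, hσ⟩
    refine ⟨a⁻¹, -(((a⁻¹ : Fˣ) : F) * b), fun x => ?_⟩
    apply σ.injective
    have h0 : σ (σ⁻¹ x) = x := σ.apply_symm_apply x
    rw [h0, hσ, mul_add, ← mul_assoc, mul_neg, ← mul_assoc]
    simp

/-- The translations. -/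
def S2 (F : Type*) [Field F] : Subgroup (Equiv.Perm F) where
  carrier := {σ | ∃ b : F, ∀ x, σ x = x + b}
  one_mem' := ⟨0, fun x => by simp⟩
  mul_mem' := by
    rintro σ τ ⟨b, hσ⟩ ⟨d, hτ⟩
    refine ⟨d + b, fun x => ?_⟩
    simp only [Equiv.Perm.coe_mul, Function.comp_apply, hτ, hσ]
    ring
  inv_mem' := by
    rintro σ ⟨b, hσ⟩
    refine ⟨-b, fun x => ?_⟩
    apply σ.injective
    have h0 : σ (σ⁻¹ x) = x := σ.apply_symm_apply x
    rw [h0, hσ]
    ring

theorem affine_of_same {ρ : F → F} {A B : Equiv.Perm F} {a c : Fˣ} {b d : F} (hA : ∀ x, A x = (a : F) * ρ x + b)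
    (hB : ∀ x, B x = (c : F) * ρ x + d) : A * B⁻¹ ∈ S1 F := by
  refine ⟨a * c⁻¹, b - (a : F) * ((c⁻¹ : Fˣ) : F) * d, fun y => ?_⟩
  obtain ⟨x, rfl⟩ := B.surjective y
  have h0 : (A * B⁻¹) (B x) = A x := by
    show A (B⁻¹ (B x)) = A x
    rw [show B⁻¹ (B x) = x from B.symm_apply_apply x]
  rw [h0, hA, hB, Units.val_mul]
  have h : (c : F) * ((c⁻¹ : Fˣ) : F) = 1 := by simp
  linear_combination (-(a : F) * ρ x) * h

theorem trans_of_same {A B : Equiv.Perm F} {a : Fˣ} {b d : F} (hA : ∀ x, A x = (a : F) * x + b)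
    (hB : ∀ x, B x = (a : F) * x + d) : A * B⁻¹ ∈ S2 F := by
  refine ⟨b - d, fun y => ?_⟩
  obtain ⟨x, rfl⟩ := B.surjective y
  have h0 : (A * B⁻¹) (B x) = A x := by
    show A (B⁻¹ (B x)) = A x
    rw [show B⁻¹ (B x) = x from B.symm_apply_apply x]
  rw [h0, hA, hB]
  ring

/-- Automorphisms of a finite field commute. -/
theorem aut_comm [Finite F] (φ ψ : F ≃+* F) (x : F) : φ (ψ x) = ψ (φ x) := by
  classical
  obtain ⟨r, hr⟩ := CharP.exists F
  letI := Fintype.ofFinite F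
  obtain ⟨n, hn, -⟩ := FiniteField.card F r
  haveI : Fact r.Prime := ⟨hn⟩
  letI : Algebra (ZMod r) F := ZMod.algebra F r
  have hfix : ∀ (ρ : F ≃+* F) (c : ZMod r), ρ (algebraMap (ZMod r) F c) = algebraMap (ZMod r) F c := by
    intro ρ c
    have h1 : (ρ : F →+* F).comp (algebraMap (ZMod r) F) = algebraMap (ZMod r) F := Subsingleton.elim _ _
    exact congrArg (fun f : ZMod r →+* F => f c) h1
  let Φ : F ≃ₐ[ZMod r] F := AlgEquiv.ofRingEquiv (f := φ) (hfix φ)
  let Ψ : F ≃ₐ[ZMod r] F := AlgEquiv.ofRingEquiv (f := ψ) (hfix ψ)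
  haveI : IsCyclic (F ≃ₐ[ZMod r] F) := inferInstance
  letI := IsCyclic.commGroup (α := F ≃ₐ[ZMod r] F)
  have h := mul_comm Φ Ψ
  have h2 := congrArg (fun f : F ≃ₐ[ZMod r] F => f x) h
  exact h2

/-- Commutators of semi-affine maps are affine. -/
theorem comm_mem_S1 {σ τ : Equiv.Perm F} [Finite F] (hσ : σ ∈ semiaffineGroup F) (hτ : τ ∈ semiaffineGroup F) :
    σ * τ * σ⁻¹ * τ⁻¹ ∈ S1 F := by
  obtain ⟨a, b, φ, hσ⟩ := hσ
  obtain ⟨c, d, ψ, hτ⟩ := hτ
  have h : σ * τ * σ⁻¹ * τ⁻¹ = (σ * τ) * (τ * σ)⁻¹ := by group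
  rw [h]
  refine affine_of_same (ρ := fun x => φ (ψ x)) (a := a * Units.map (φ : F →* F) c) (b := (a : F) * φ d + b)
    (c := c * Units.map (ψ : F →* F) a) (d := (c : F) * ψ b + d) (fun x => ?_) (fun x => ?_)
  · simp only [Equiv.Perm.coe_mul, Function.comp_apply, hτ, hσ, Units.val_mul, Units.coe_map, MonoidHom.coe_coe, map_add,
      map_mul]
    ring
  · simp only [Equiv.Perm.coe_mul, Function.comp_apply, hτ, hσ, Units.val_mul, Units.coe_map, MonoidHom.coe_coe, map_add,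
      map_mul]
    rw [aut_comm φ ψ x]
    ring

/-- Commutators of affine maps are translations. -/
theorem comm_mem_S2 {σ τ : Equiv.Perm F} (hσ : σ ∈ S1 F) (hτ : τ ∈ S1 F) : σ * τ * σ⁻¹ * τ⁻¹ ∈ S2 F := by
  obtain ⟨a, b, hσ⟩ := hσ
  obtain ⟨c, d, hτ⟩ := hτ
  have h : σ * τ * σ⁻¹ * τ⁻¹ = (σ * τ) * (τ * σ)⁻¹ := by group
  rw [h]
  refine trans_of_same (a := a * c) (b := (a : F) * d + b) (d := (c : F) * b + d) (fun x => ?_) (fun x => ?_)
  · simp only [Equiv.Perm.coe_mul, Function.comp_apply, hτ, hσ, Units.val_mul]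
    ring
  · simp only [Equiv.Perm.coe_mul, Function.comp_apply, hτ, hσ, Units.val_mul]
    ring

theorem comm_eq_one {σ τ : Equiv.Perm F} (hσ : σ ∈ S2 F) (hτ : τ ∈ S2 F) : σ * τ * σ⁻¹ * τ⁻¹ = 1 := by
  obtain ⟨b, hσ⟩ := hσ
  obtain ⟨d, hτ⟩ := hτ
  have h1 : σ * τ = τ * σ := by
    ext x
    simp only [Equiv.Perm.coe_mul, Function.comp_apply, hτ, hσ]
    ring
  rw [h1]
  group

/-- **A perfect group has only the trivial semi-affine action.** -/
theorem trivial_of_perfect {H : Type*} [Group H] [Finite F] (hperf : _root_.commutator H = ⊤) (ψ : H →* Equiv.Perm F)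
    (hψ : ∀ h, ψ h ∈ semiaffineGroup F) (h : H) : ψ h = 1 := by
  have step : ∀ K : Subgroup H, (∀ a b : H, a * b * a⁻¹ * b⁻¹ ∈ K) → K = ⊤ := by
    intro K hK
    rw [eq_top_iff, ← hperf, commutator_def, Subgroup.commutator_le]
    intro a _ b _
    exact hK a b
  have h1 : (S1 F).comap ψ = ⊤ := step _ fun a b => by
    rw [Subgroup.mem_comap, map_mul, map_mul, map_mul, map_inv, map_inv]
    exact comm_mem_S1 (hψ a) (hψ b)
  have h2 : (S2 F).comap ψ = ⊤ := step _ fun a b => by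
    rw [Subgroup.mem_comap, map_mul, map_mul, map_mul, map_inv, map_inv]
    have ha : a ∈ (S1 F).comap ψ := by rw [h1]; exact Subgroup.mem_top a
    have hb : b ∈ (S1 F).comap ψ := by rw [h1]; exact Subgroup.mem_top b
    exact comm_mem_S2 ha hb
  have h3 : ψ.ker = ⊤ := step _ fun a b => by
    rw [MonoidHom.mem_ker, map_mul, map_mul, map_mul, map_inv, map_inv]
    have ha : a ∈ (S2 F).comap ψ := by rw [h2]; exact Subgroup.mem_top a
    have hb : b ∈ (S2 F).comap ψ := by rw [h2]; exact Subgroup.mem_top b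
    exact comm_eq_one ha hb
  have h4 : h ∈ ψ.ker := by rw [h3]; exact Subgroup.mem_top h
  exact h4

end Affine

section Recog

variable {G : Type*} [Group G] [Finite G]

/-- **Recognition of `PSL(2, p)` on `p + 1` points.** -/
theorem recog_A (hperf : _root_.commutator G = ⊤) {p t : ℕ} [hp : Fact p.Prime] (N : Subgroup G) (hM : N.index = p + 1)
    (hcard : Nat.card N = p * t) (hpt : p = 2 * t + 1) (hnt : Nontrivial G)
    (hcore : ∀ K : Subgroup G, K.Normal → K ≤ N → K = ⊥) :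
    Nonempty (G ≃* Matrix.ProjectiveSpecialLinearGroup (Fin 2) (ZMod p)) := by
  classical
  letI : Fintype (G ⧸ N) := Fintype.ofFinite _
  set φ : G →* Equiv.Perm (G ⧸ N) := MulAction.toPermHom G (G ⧸ N) with hφ
  have hinj : Function.Injective φ := by
    rw [injective_iff_map_eq_one]
    intro g hg
    have h1 : φ.ker ≤ N := by
      intro x hx
      have h2 : φ x (QuotientGroup.mk (1 : G)) = QuotientGroup.mk (1 : G) := by
        rw [MonoidHom.mem_ker.1 hx]
        rfl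
      have h3 : (QuotientGroup.mk (x * 1) : G ⧸ N) = QuotientGroup.mk (1 : G) := h2
      rw [mul_one] at h3
      have h6 := QuotientGroup.eq.1 h3
      simpa using h6
    have h4 := hcore φ.ker inferInstance h1
    have h5 : g ∈ φ.ker := hg
    rw [h4] at h5
    exact Subgroup.mem_bot.1 h5
  set G' : Subgroup (Equiv.Perm (G ⧸ N)) := φ.range with hG'
  have e : G ≃* G' := MonoidHom.ofInjective hinj
  haveI : MulAction.IsPretransitive G' (G ⧸ N) := by
    constructor
    intro x y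
    obtain ⟨g, hg⟩ := MulAction.exists_smul_eq G x y
    exact ⟨⟨φ g, ⟨g, rfl⟩⟩, hg⟩
  have hα : Fintype.card (G ⧸ N) = p + 1 := by
    rw [← Nat.card_eq_fintype_card]
    exact hM
  have hcG : Nat.card G' = (p + 1) * p * t := by
    rw [← Nat.card_congr e.toEquiv, ← Subgroup.card_mul_index N, hcard, hM]
    ring
  have ht : t < p := by omega
  have ht0 : 0 < t := by
    by_contra h
    have h0 : t = 0 := by omega
    have := hp.out.one_lt
    omega
  rcases Cfsg.Agent.S0732.result hp.out hα G' hcG ht with ⟨h1, -⟩ | ⟨-, ⟨f⟩⟩ | ⟨q, hq, hpq, -, e', he'⟩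
  · omega
  · exact ⟨e.trans f⟩
  · exfalso
    -- the semi-affine case
    let ψ : G →* Equiv.Perm (GaloisField 2 q) := (e'.permCongrHom).toMonoidHom.comp φ
    have hψ : ∀ g, ψ g ∈ semiaffineGroup (GaloisField 2 q) := fun g => he' ⟨φ g, ⟨g, rfl⟩⟩
    haveI : Fact (Nat.Prime 2) := ⟨Nat.prime_two⟩
    haveI : Finite (GaloisField 2 q) := Module.finite_of_finite (ZMod 2)
    obtain ⟨g, hg⟩ := exists_ne (1 : G)
    apply hg
    apply hinj
    have h1 := trivial_of_perfect hperf ψ hψ g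
    have h2 : (e'.permCongrHom).toMonoidHom (φ g) = (e'.permCongrHom).toMonoidHom (φ 1) := by
      rw [map_one, map_one]
      exact h1
    exact (e'.permCongrHom).injective h2

end Recog

end Cfsg.Agent.Lib.RigM
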