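import Mathlib
import Cfsg.Agent.Lib.CITCount

/-!
# Recognition of `PSL(2, 2^a)`
-/

set_option autoImplicit false
set_option linter.style.haveILetI false
set_option linter.unusedSectionVars false
set_option linter.unusedVariables false
set_option linter.unusedSimpArgs false

namespace Cfsg.Agent.Lib.RigN

open Cfsg Subgroup
open scoped Pointwise

variable {G : Type*} [Group G] [Finite G]

/-- A normal subgroup of order divisible by `p` is everything. -/
theorem top_of_dvd {p : ℕ} [hp : Fact p.Prime] (S : Sylow p G) (hS : Nat.card S = p)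
    (hab : ∀ a ∈ normalizer ((S : Subgroup G) : Set G), ∀ b ∈ normalizer ((S : Subgroup G) : Set G), a * b * a⁻¹ * b⁻¹ ∈ (S : Subgroup G))
    (hperf : _root_.commutator G = ⊤) (Q : Subgroup G) [Q.Normal] (hQ : p ∣ Nat.card Q) : Q = ⊤ := by
  classical
  obtain ⟨y, hy⟩ := exists_prime_orderOf_dvd_card' p hQ
  have hy' : orderOf (y : G) = p := by rwa [Subgroup.orderOf_coe]
  have hpg : IsPGroup p (zpowers (y : G)) := by
    rw [IsPGroup.iff_card, Nat.card_zpowers, hy']
    exact ⟨1, by simp⟩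
  obtain ⟨S', hS'⟩ := hpg.exists_le_sylow
  have hS'card : Nat.card (S' : Subgroup G) = p := by
    rw [Sylow.card_eq_multiplicity, ← Sylow.card_eq_multiplicity S]
    exact hS
  have hS'eq : zpowers (y : G) = (S' : Subgroup G) := by
    apply Subgroup.eq_of_le_of_card_ge hS'
    rw [hS'card, Nat.card_zpowers, hy']
  have hS'Q : (S' : Subgroup G) ≤ Q := by
    rw [← hS'eq, zpowers_le]
    exact y.2
  obtain ⟨g, hg⟩ := MulAction.exists_smul_eq G S' S
  have hSQ : (S : Subgroup G) ≤ Q := by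
    intro x hx
    rw [← hg] at hx
    have h1 : x ∈ MulAut.conj g • (S' : Subgroup G) := hx
    obtain ⟨s, hs, rfl⟩ := Subgroup.mem_smul_pointwise_iff_exists _ _ _ |>.1 h1
    have h2 : s ∈ Q := hS'Q hs
    have h3 : MulAut.conj g • s = g * s * g⁻¹ := rfl
    rw [h3]
    exact ‹Q.Normal›.conj_mem s h2 g
  have hsup : normalizer ((S : Subgroup G) : Set G) ⊔ Q = ⊤ := Sylow.normalizer_sup_eq_top' S hSQ
  rw [eq_top_iff, ← hperf, _root_.commutator_def, Subgroup.commutator_le]
  intro a _ b _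
  have hdec : ∀ x : G, ∃ n ∈ normalizer ((S : Subgroup G) : Set G), (QuotientGroup.mk x : G ⧸ Q) = QuotientGroup.mk n := by
    intro x
    have h1 : x ∈ normalizer ((S : Subgroup G) : Set G) ⊔ Q := by rw [hsup]; exact Subgroup.mem_top x
    have h2 : x ∈ (↑(normalizer ((S : Subgroup G) : Set G) ⊔ Q) : Set G) := h1
    rw [Subgroup.mul_normal] at h2
    obtain ⟨n, hn, q, hq, rfl⟩ := Set.mem_mul.1 h2
    refine ⟨n, hn, ?_⟩
    rw [QuotientGroup.mk_mul, (QuotientGroup.eq_one_iff q).2 hq, mul_one]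
  obtain ⟨n₁, hn₁, h1⟩ := hdec a
  obtain ⟨n₂, hn₂, h2⟩ := hdec b
  have h3 : (QuotientGroup.mk (a * b * a⁻¹ * b⁻¹) : G ⧸ Q) = 1 := by
    simp only [QuotientGroup.mk_mul, QuotientGroup.mk_inv, h1, h2]
    simp only [← QuotientGroup.mk_mul, ← QuotientGroup.mk_inv]
    exact (QuotientGroup.eq_one_iff _).2 (hSQ (hab n₁ hn₁ n₂ hn₂))
  exact (QuotientGroup.eq_one_iff _).1 h3

/-- Involutions with elementary centralizer invert normal subgroups of odd order. -/
theorem inverts {Q : Subgroup G} [hQn : Q.Normal] (hodd : ¬ 2 ∣ Nat.card Q) {w : G} (hw2 : w * w = 1)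
    (hC : ∀ x ∈ centralizer ({w} : Set G), x * x = 1) {x : G} (hx : x ∈ Q) : w * x * w⁻¹ = x⁻¹ := by
  classical
  have h2 : ∀ y ∈ Q, y * y = 1 → y = 1 := by
    intro y hy hyy
    by_contra hne
    have h3 : orderOf (⟨y, hy⟩ : Q) = 2 := by
      apply orderOf_eq_prime
      · apply Subtype.ext
        simpa [pow_two] using hyy
      · intro h
        exact hne (congrArg Subtype.val h)
    apply hodd
    rw [← h3]
    exact orderOf_dvd_natCard _
  let f : Q → Q := fun q => ⟨(q : G)⁻¹ * (w * q * w⁻¹), Q.mul_mem (Q.inv_mem q.2) (hQn.conj_mem q q.2 w)⟩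
  have hf : Function.Injective f := by
    intro a b hab
    have h3 : (a : G)⁻¹ * (w * a * w⁻¹) = (b : G)⁻¹ * (w * b * w⁻¹) := congrArg Subtype.val hab
    have h4 : (b : G) * (a : G)⁻¹ ∈ centralizer ({w} : Set G) := by
      rw [mem_centralizer_singleton_iff]
      have h5 : (b : G) * (a : G)⁻¹ = w * ((b : G) * (a : G)⁻¹) * w⁻¹ := by
        have h6 : (b : G) * ((a : G)⁻¹ * (w * a * w⁻¹)) = w * b * w⁻¹ := by
          rw [h3]
          group
        calc (b : G) * (a : G)⁻¹ = ((b : G) * ((a : G)⁻¹ * (w * a * w⁻¹))) * (w * a * w⁻¹)⁻¹ := by group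
          _ = (w * b * w⁻¹) * (w * a * w⁻¹)⁻¹ := by rw [h6]
          _ = _ := by group
      calc (b : G) * (a : G)⁻¹ * w = (w * ((b : G) * (a : G)⁻¹) * w⁻¹) * w := by rw [← h5]
        _ = _ := by group
    have h5 := h2 _ (Q.mul_mem b.2 (Q.inv_mem a.2)) (hC _ h4)
    apply Subtype.ext
    have h6 : (b : G) = a := by
      rw [mul_inv_eq_one] at h5
      exact h5
    exact h6.symm
  obtain ⟨q, hq⟩ := (Finite.injective_iff_surjective.1 hf) ⟨x, hx⟩
  have h3 : (q : G)⁻¹ * (w * q * w⁻¹) = x := congrArg Subtype.val hq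
  have hwinv : w⁻¹ = w := by
    rw [inv_eq_iff_mul_eq_one]
    exact hw2
  rw [← h3, hwinv]
  have h4 : w * ((q : G)⁻¹ * (w * q * w)) * w = w * (q : G)⁻¹ * w * q * (w * w) := by group
  have h5 : ((q : G)⁻¹ * (w * q * w))⁻¹ = w⁻¹ * (q : G)⁻¹ * w⁻¹ * q := by group
  rw [h4, h5, hw2, hwinv, mul_one]

/-- A normal subgroup of order prime to `p` is trivial, under the hypotheses on involutions. -/
theorem bot_of_not_dvd {p : ℕ} (hp : p.Prime) (hp2 : p ≠ 2) {u z : G} (hu2 : u * u = 1) (hu1 : u ≠ 1)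
    (hall : ∀ x : G, x * x = 1 → x ≠ 1 → IsConj u x) (hC : ∀ x ∈ centralizer ({u} : Set G), x * x = 1)
    (hc4 : 4 ≤ Nat.card (centralizer ({u} : Set G))) (hz : orderOf z = p) (huz : u * z * u⁻¹ = z⁻¹)
    (Q : Subgroup G) [hQn : Q.Normal] (hQ : ¬ p ∣ Nat.card Q) : Q = ⊥ := by
  classical
  have hCw : ∀ w : G, w * w = 1 → w ≠ 1 → ∀ x ∈ centralizer ({w} : Set G), x * x = 1 := by
    intro w hw hw1 x hx
    obtain ⟨g, rfl⟩ := isConj_iff.1 (hall w hw hw1)
    have h1 : g⁻¹ * x * g ∈ centralizer ({u} : Set G) := by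
      rw [mem_centralizer_singleton_iff] at hx ⊢
      calc g⁻¹ * x * g * u = g⁻¹ * (x * (g * u * g⁻¹)) * g := by group
        _ = g⁻¹ * ((g * u * g⁻¹) * x) * g := by rw [hx]
        _ = _ := by group
    have h2 := hC _ h1
    calc x * x = g * ((g⁻¹ * x * g) * (g⁻¹ * x * g)) * g⁻¹ := by group
      _ = 1 := by rw [h2]; group
  by_cases h2 : 2 ∣ Nat.card Q
  · exfalso
    haveI : Fact (Nat.Prime 2) := ⟨Nat.prime_two⟩
    obtain ⟨w, hw⟩ := exists_prime_orderOf_dvd_card' 2 h2
    have hw' : orderOf (w : G) = 2 := by rwa [Subgroup.orderOf_coe]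
    have hww : (w : G) * w = 1 := by
      have := pow_orderOf_eq_one (w : G)
      rwa [hw', pow_two] at this
    have hw1 : (w : G) ≠ 1 := by
      intro h
      rw [h, orderOf_one] at hw'
      omega
    obtain ⟨g, hg⟩ := isConj_iff.1 (hall _ hww hw1)
    have huQ : u ∈ Q := by
      have h3 := hQn.conj_mem _ w.2 g⁻¹
      rw [← hg] at h3
      have h4 : g⁻¹ * (g * u * g⁻¹) * g⁻¹⁻¹ = u := by group
      rwa [h4] at h3
    have h5 : z⁻¹ * z⁻¹ ∈ Q := by
      have h6 : u * (z * u⁻¹ * z⁻¹) ∈ Q := Q.mul_mem huQ (hQn.conj_mem _ (Q.inv_mem huQ) z)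
      have h7 : u * (z * u⁻¹ * z⁻¹) = (u * z * u⁻¹) * z⁻¹ := by group
      rwa [h7, huz] at h6
    have h8 : orderOf (z⁻¹ * z⁻¹) = p := by
      rw [← pow_two, orderOf_pow, orderOf_inv, hz]
      have h9 : Nat.gcd p 2 = 1 := (Nat.coprime_primes hp Nat.prime_two).2 hp2
      rw [h9, Nat.div_one]
    apply hQ
    have h9 := Subgroup.orderOf_dvd_natCard Q h5
    rwa [h8] at h9
  · -- `Q` has odd order
    have hQ2 : ∀ y ∈ Q, y * y = 1 → y = 1 := by
      intro y hy hyy
      by_contra hne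
      have h3 : orderOf (⟨y, hy⟩ : Q) = 2 := by
        apply orderOf_eq_prime
        · apply Subtype.ext
          simpa [pow_two] using hyy
        · intro h
          exact hne (congrArg Subtype.val h)
      apply h2
      rw [← h3]
      exact orderOf_dvd_natCard _
    -- a third element of the centralizer
    obtain ⟨v, hv, hv1, hvu⟩ : ∃ v ∈ centralizer ({u} : Set G), v ≠ 1 ∧ v ≠ u := by
      by_contra hcon
      push Not at hcon
      have h3 : ((centralizer ({u} : Set G) : Subgroup G) : Set G) ⊆ {1, u} := by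
        intro x hx
        by_cases h5 : x = 1
        · simp [h5]
        · simp [hcon x hx h5]
      have h4 := Set.ncard_le_ncard h3 (Set.toFinite _)
      rw [← Nat.card_coe_set_eq] at h4
      have h5 : ({1, u} : Set G).ncard ≤ 2 := by
        have h7 := Set.ncard_insert_le (1 : G) ({u} : Set G)
        rw [Set.ncard_singleton] at h7
        exact h7
      have h6 : Nat.card ↥(centralizer ({u} : Set G)) = Nat.card ↥((centralizer ({u} : Set G) : Subgroup G) : Set G) := rfl
      omega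
    have huv : v * u = u * v := mem_centralizer_singleton_iff.1 hv
    have hvv := hC v hv
    have hw2' : (u * v) * (u * v) = 1 := by
      calc (u * v) * (u * v) = u * (v * u) * v := by group
        _ = u * (u * v) * v := by rw [huv]
        _ = (u * u) * (v * v) := by group
        _ = 1 := by rw [hu2, hvv]; group
    have hw1 : u * v ≠ 1 := by
      intro h
      apply hvu
      have h3 : v = u⁻¹ := eq_inv_of_mul_eq_one_right h
      rw [h3, inv_eq_iff_mul_eq_one]
      exact hu2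
    rw [eq_bot_iff]
    intro x hx
    rw [Subgroup.mem_bot]
    have h3 := inverts h2 hu2 hC hx
    have h4 := inverts h2 hvv (hCw v hvv hv1) hx
    have h5 := inverts h2 hw2' (hCw _ hw2' hw1) hx
    have h6 : (u * v) * x * (u * v)⁻¹ = x := by
      calc (u * v) * x * (u * v)⁻¹ = u * (v * x * v⁻¹) * u⁻¹ := by group
        _ = u * x⁻¹ * u⁻¹ := by rw [h4]
        _ = (u * x * u⁻¹)⁻¹ := by group
        _ = x := by rw [h3, inv_inv]
    rw [h6] at h5
    apply hQ2 x hx
    calc x * x = x⁻¹ * x := by rw [← h5]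
      _ = 1 := by group

/-- **Recognition of `PSL(2, 2^a)`.** -/
theorem recog_B {p : ℕ} [hp : Fact p.Prime] (hp5 : 5 ≤ p) (S : Sylow p G) (hS : Nat.card S = p)
    (hab : ∀ a ∈ normalizer ((S : Subgroup G) : Set G), ∀ b ∈ normalizer ((S : Subgroup G) : Set G), a * b * a⁻¹ * b⁻¹ ∈ (S : Subgroup G))
    (hperf : _root_.commutator G = ⊤) {u z : G} (hu2 : u * u = 1) (hu1 : u ≠ 1)
    (hall : ∀ x : G, x * x = 1 → x ≠ 1 → IsConj u x) (hC : ∀ x ∈ centralizer ({u} : Set G), x * x = 1)
    (hc : Nat.card (centralizer ({u} : Set G)) + 1 = p) (hG : Nat.card G = p * (p - 1) * (p - 2))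
    (hz : orderOf z = p) (huz : u * z * u⁻¹ = z⁻¹) :
    ∃ (m : ℕ) (F : Type) (_ : Field F) (_ : Fintype F), Fintype.card F = 2 ^ m ∧ p = 2 ^ m + 1 ∧ 3 < p ∧
      Nonempty (G ≃* Matrix.ProjectiveSpecialLinearGroup (Fin 2) F) := by
  classical
  letI : Fintype G := Fintype.ofFinite G
  have hpp := hp.out
  have hp2 : p ≠ 2 := by omega
  haveI : Fact (Nat.Prime 2) := ⟨Nat.prime_two⟩
  -- the centralizer is a `2`-group
  have h2g : IsPGroup 2 (centralizer ({u} : Set G)) := by
    intro x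
    refine ⟨1, ?_⟩
    apply Subtype.ext
    simpa [pow_two] using hC x x.2
  obtain ⟨a, ha⟩ := IsPGroup.iff_card.1 h2g
  have hpa : p = 2 ^ a + 1 := by omega
  have ha2 : 2 ≤ a := by
    by_contra h
    have h3 : a = 0 ∨ a = 1 := by omega
    rcases h3 with rfl | rfl <;> omega
  have hCw : ∀ w : G, orderOf w = 2 → Nat.card (centralizer ({w} : Set G)) = 2 ^ a := by
    intro w hw
    have hww : w * w = 1 := by
      have := pow_orderOf_eq_one w
      rwa [hw, pow_two] at this
    have hw1 : w ≠ 1 := by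
      intro h
      rw [h, orderOf_one] at hw
      omega
    have h3 := hall w hww hw1
    have h4 := Cfsg.Agent.Lib.CharInd.card_conj_mul_card_centralizer w
    have h5 := Cfsg.Agent.Lib.CharInd.card_conj_mul_card_centralizer u
    have h6 : Nat.card {x : G // IsConj w x} = Nat.card {x : G // IsConj u x} := by
      refine Nat.card_congr (Equiv.subtypeEquivRight fun x => ?_)
      exact ⟨fun h => h3.trans h, fun h => h3.symm.trans h⟩
    rw [h6, ← h5] at h4
    haveI : Nonempty {x : G // IsConj u x} := ⟨⟨u, IsConj.refl u⟩⟩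
    have h7 : 0 < Nat.card {x : G // IsConj u x} := Nat.card_pos
    rw [← ha]
    exact Nat.eq_of_mul_eq_mul_left h7 h4
  have hCx : ∀ w : G, w * w = 1 → w ≠ 1 → ∀ x ∈ centralizer ({w} : Set G), x * x = 1 := by
    intro w hw hw1 x hx
    obtain ⟨g, rfl⟩ := isConj_iff.1 (hall w hw hw1)
    have h1 : g⁻¹ * x * g ∈ centralizer ({u} : Set G) := by
      rw [mem_centralizer_singleton_iff] at hx ⊢
      calc g⁻¹ * x * g * u = g⁻¹ * (x * (g * u * g⁻¹)) * g := by group
        _ = g⁻¹ * ((g * u * g⁻¹) * x) * g := by rw [hx]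
        _ = _ := by group
    have h2 := hC _ h1
    calc x * x = g * ((g⁻¹ * x * g) * (g⁻¹ * x * g)) * g⁻¹ := by group
      _ = 1 := by rw [h2]; group
  have hexp : ∀ x : G, ∀ k, x ^ (2 ^ k) = 1 → x ^ 2 = 1 := by
    intro x k hx
    by_cases hx1 : x = 1
    · rw [hx1, one_pow]
    obtain ⟨j, -, hj⟩ := (Nat.dvd_prime_pow Nat.prime_two).1 (orderOf_dvd_of_pow_eq_one hx)
    have hj0 : j ≠ 0 := by
      rintro rfl
      rw [pow_zero, orderOf_eq_one_iff] at hj
      exact hx1 hj
    obtain ⟨i, rfl⟩ := Nat.exists_eq_succ_of_ne_zero hj0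
    set w := x ^ 2 ^ i with hw
    have hw1 : w ≠ 1 := by
      intro h
      have h3 := orderOf_dvd_of_pow_eq_one h
      rw [hj] at h3
      have h4 := Nat.le_of_dvd (by positivity) h3
      rw [pow_succ] at h4
      have h5 : 0 < 2 ^ i := by positivity
      omega
    have hww : w * w = 1 := by
      rw [hw, ← pow_add, ← two_mul, ← pow_succ']
      rw [← hj]
      exact pow_orderOf_eq_one x
    have hxw : x ∈ centralizer ({w} : Set G) := by
      rw [mem_centralizer_singleton_iff, hw]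
      exact (Commute.refl x).pow_right _ |>.eq
    rw [pow_two]
    exact hCx w hww hw1 x hxw
  -- simplicity
  have hsimple : IsSimpleGroup G := by
    haveI : Nontrivial G := ⟨⟨u, 1, hu1⟩⟩
    refine ⟨fun Q hQ => ?_⟩
    by_cases hd : p ∣ Nat.card Q
    · right
      haveI := hQ
      exact top_of_dvd S hS hab hperf Q hd
    · left
      haveI := hQ
      refine bot_of_not_dvd hpp hp2 hu2 hu1 hall hC ?_ hz huz Q hd
      rw [ha]
      calc 4 = 2 ^ 2 := by norm_num
        _ ≤ 2 ^ a := Nat.pow_le_pow_right (by norm_num) ha2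
  have hnc : ¬ IsMulCommutative G := by
    intro hcomm
    haveI : Nontrivial G := ⟨⟨u, 1, hu1⟩⟩
    have h3 : _root_.commutator G = ⊥ := by
      rw [_root_.commutator_def, Subgroup.commutator_eq_bot_iff_le_centralizer]
      intro x _
      rw [mem_centralizer_iff]
      intro y _
      exact hcomm.is_comm.comm y x
    rw [h3] at hperf
    exact bot_ne_top hperf
  -- the Sylow subgroup
  have hfac : (Nat.card G).factorization 2 = a := by
    have h3 : p - 1 = 2 ^ a := by omega
    have h4 : Odd p := hpp.odd_of_ne_two hp2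
    have h5 : Odd (p - 2) := by
      obtain ⟨k, hk⟩ := h4
      refine ⟨k - 1, ?_⟩
      omega
    rw [hG, h3]
    have h6 : p ≠ 0 := hpp.ne_zero
    have h7 : (2 : ℕ) ^ a ≠ 0 := by positivity
    have h8 : p - 2 ≠ 0 := by omega
    rw [Nat.factorization_mul (mul_ne_zero h6 h7) h8, Nat.factorization_mul h6 h7]
    simp only [Finsupp.add_apply]
    rw [Nat.factorization_eq_zero_of_not_dvd (fun h => (Nat.not_even_iff_odd.2 h4) (even_iff_two_dvd.2 h)),
      Nat.factorization_eq_zero_of_not_dvd (fun h => (Nat.not_even_iff_odd.2 h5) (even_iff_two_dvd.2 h)),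
      Nat.Prime.factorization_pow Nat.prime_two, Finsupp.single_eq_same]
    omega
  let T : Sylow 2 G := Sylow.ofCard (centralizer ({u} : Set G)) (by rw [ha, hfac])
  have hT : Nat.card (T : Subgroup G) = 2 ^ a := ha
  let F : Type := GaloisField 2 a
  letI : Fintype F := Fintype.ofFinite F
  have hF : Fintype.card F = 2 ^ a := by
    rw [← Nat.card_eq_fintype_card]
    exact GaloisField.card 2 a (by omega)
  obtain ⟨e⟩ := Cfsg.Agent.Lib.CITCount.psl_of_cover hnc T hT ha2 hCw hexp hF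
  exact ⟨a, F, inferInstance, inferInstance, hF, hpa, by omega, ⟨e⟩⟩

end Cfsg.Agent.Lib.RigN
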