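import Mathlib
import Cfsg.Agent.Lib.RigL
import Cfsg.Agent.Lib.RigM
import Cfsg.Agent.Lib.RigN

/-!
# The Brauer-Reynolds theorem for self-centralizing Sylow subgroups of prime order
-/

set_option autoImplicit false
set_option linter.style.haveILetI false
set_option linter.unusedSectionVars false
set_option linter.unusedVariables false
set_option linter.unusedSimpArgs false

namespace Cfsg.Agent.Lib.RigO

open Cfsg Cfsg.Agent.Lib.CharBasic Subgroup Cfsg.Agent.Lib.DefectOne Cfsg.Agent.Lib.CharInd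
open Cfsg.Agent.Lib.TICent Cfsg.Agent.Lib.RigA Cfsg.Agent.Lib.RangeStruct Cfsg.Agent.Lib.RigB Cfsg.Agent.Lib.RigC
open Cfsg.Agent.Lib.RigD Cfsg.Agent.Lib.RigE Cfsg.Agent.Lib.RigF Cfsg.Agent.Lib.RigG Cfsg.Agent.Lib.RigH
open Cfsg.Agent.Lib.RigI Cfsg.Agent.Lib.RigJ Cfsg.Agent.Lib.RigK Cfsg.Agent.Lib.RigL Cfsg.Agent.Lib.RigM Cfsg.Agent.Lib.RigN
open scoped ComplexConjugate

variable {G : Type*} [Group G] [Finite G]

/-- The third alternative fails for small `n`. -/
theorem altFail_of_small {n p : ℕ} (hn : 2 * n < p + 3) : AltFail n p := by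
  intro u h hu hh heq
  have h1 : (p + 3) * (u + 1) ≤ 2 * (n * (u + 1)) := by
    rw [heq]
    have h2 : u * p ≤ h * u * p := by
      have : u ≤ h * u := Nat.le_mul_of_pos_left _ hh
      exact Nat.mul_le_mul_right _ this
    have h3 : 1 ≤ u := hu
    have h4 : u ^ 2 ≥ u := by
      rw [sq]
      exact Nat.le_mul_of_pos_left _ hu
    have h5 : p ≤ u * p := Nat.le_mul_of_pos_left _ hu
    nlinarith
  have h2 : 2 * (n * (u + 1)) = (2 * n) * (u + 1) := by ring
  rw [h2] at h1
  have h3 := Nat.le_of_mul_le_mul_right h1 (by omega)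
  omega

/-- The hypotheses for the self-centralizing case. -/
theorem hyp_of {p : ℕ} (hp : p.Prime) {P : Subgroup G} (hcard : Nat.card P = p) (hC : centralizer (P : Set G) = P) :
    Hyp p P P (MonoidHom.id ↥P) 1 := by
  haveI : Fact p.Prime := ⟨hp⟩
  have hcomm : ∀ u ∈ P, ∀ v ∈ P, u * v = v * u := by
    intro u hu v hv
    have h1 : ∀ x y : ↥P, x * y = y * x := by
      haveI := isCyclic_of_prime_card hcard
      letI := IsCyclic.commGroup (α := ↥P)
      exact mul_comm
    exact congrArg Subtype.val (h1 ⟨u, hu⟩ ⟨v, hv⟩)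
  refine ⟨hp, ?_, le_rfl, hC, ?_, fun c => by simp, fun z => rfl, ?_⟩
  · exact IsPGroup.of_card (n := 1) (by rw [hcard, pow_one])
  · intro w hw hne
    apply le_antisymm
    · intro x hx
      have h1 : zpowers w = P := Cfsg.Agent.Lib.SmallGroups2.zpowers_eq_of_mem_of_ne_one hp hcard hw hne
      rw [← hC, mem_centralizer_iff]
      intro y hy
      have hy' : y ∈ zpowers w := by rw [h1]; exact hy
      obtain ⟨k, rfl⟩ := Subgroup.mem_zpowers_iff.1 hy'
      have hxw : x * w = w * x := mem_centralizer_singleton_iff.1 hx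
      exact ((Commute.symm hxw).zpow_left k)
    · intro x hx
      rw [mem_centralizer_singleton_iff]
      exact hcomm x hx w hw
  · have h1 : (MonoidHom.id ↥P).ker = ⊥ := MonoidHom.ker_id
    rw [h1, Subgroup.card_bot]
    intro h
    exact hp.one_lt.ne' (Nat.dvd_one.1 h)

/-- **Burnside**: `|N : P| ≥ 2` for perfect groups. -/
theorem two_le_t (hperf : _root_.commutator G = ⊤) {p : ℕ} [hp : Fact p.Prime] {P : Subgroup G} (hcard : Nat.card P = p)
    (hidx : ¬ p ∣ P.index) (H : Hyp p P P (MonoidHom.id ↥P) 1) {t : ℕ} (hN : Nat.card (normalizer (P : Set G)) = Nat.card P * t) :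
    2 ≤ t := by
  classical
  have ht0 : t ≠ 0 := by
    rintro rfl
    rw [mul_zero] at hN
    exact Nat.card_pos.ne' hN
  by_contra h
  have ht1 : t = 1 := by omega
  rw [ht1, mul_one] at hN
  have hle : normalizer (P : Set G) ≤ centralizer (P : Set G) := by
    rw [H.cen]
    have h1 : P ≤ normalizer (P : Set G) := H.le_normalizer
    have h2 := Subgroup.eq_of_le_of_card_ge h1 hN.le
    exact h2.symm.le
  have hpg : IsPGroup p P := H.pgroup
  let S : Sylow p G := hpg.toSylow hidx
  have hS : (S : Subgroup G) = P := rfl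
  have hle' : normalizer ((S : Subgroup G) : Set G) ≤ centralizer ((S : Subgroup G) : Set G) := hle
  have hcomp := MonoidHom.ker_transferSylow_isComplement' S hle'
  set φ := MonoidHom.transferSylow S hle' with hφ
  have hcommP : ∀ x y : ↥(S : Subgroup G), x * y = y * x := by
    intro x y
    exact Subtype.ext (H.comm_P y.2 x.2)
  have hker : φ.ker = ⊤ := by
    rw [eq_top_iff, ← hperf, _root_.commutator_def, Subgroup.commutator_le]
    intro a _ b _
    rw [MonoidHom.mem_ker, commutatorElement_def, map_mul, map_mul, map_mul, map_inv, map_inv, hcommP (φ a) (φ b)]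
    group
  have h1 := hcomp.symm.index_eq_card
  rw [hker, Subgroup.index_top] at h1
  have h2 : Nat.card ↥(S : Subgroup G) = p := hcard
  rw [h2] at h1
  exact hp.out.one_lt.ne h1

/-- **The Brauer-Reynolds theorem in the self-centralizing case.** -/
theorem rigid_main (hperf : _root_.commutator G = ⊤) {p : ℕ} [hp : Fact p.Prime] (P : Subgroup G) (hcard : Nat.card P = p)
    (hidx : ¬ p ∣ P.index) (hC : centralizer (P : Set G) = P) {n : ℕ} (hn : (normalizer (P : Set G)).index = 1 + n * p)
    (hAlt : AltFail n p) :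
    (∃ (F : Type) (_ : Field F) (_ : Fintype F), Fintype.card F = p ∧ 3 < p ∧
      Nonempty (G ≃* Matrix.ProjectiveSpecialLinearGroup (Fin 2) F)) ∨
    (∃ (m : ℕ) (F : Type) (_ : Field F) (_ : Fintype F), Fintype.card F = 2 ^ m ∧ p = 2 ^ m + 1 ∧ 3 < p ∧
      Nonempty (G ≃* Matrix.ProjectiveSpecialLinearGroup (Fin 2) F)) := by
  classical
  letI : Fintype G := Fintype.ofFinite G
  have hpp := hp.out
  have H := hyp_of hpp hcard hC
  letI : Fintype ↥P := Fintype.ofFinite _
  letI : Fintype ↥(MonoidHom.id ↥P).ker := Fintype.ofFinite _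
  have hcP := comm_P H
  haveI := dual_finite hcP
  letI : Fintype (↥P →* ℂˣ) := Fintype.ofFinite _
  haveI hcN : (cN P P).Normal := cN_normal H
  letI : Fintype ↥(normalizer (P : Set G)) := Fintype.ofFinite _
  have hQc := comm_QQ H hcard
  haveI := finite_hom hQc
  letI : Fintype (QQ P P →* ℂˣ) := Fintype.ofFinite _
  -- the index
  obtain ⟨t, hN⟩ : ∃ t, Nat.card (normalizer (P : Set G)) = Nat.card P * t := by
    refine ⟨(P.subgroupOf (normalizer (P : Set G))).index, ?_⟩
    have h3 := Subgroup.card_mul_index (P.subgroupOf (normalizer (P : Set G)))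
    have h4 : Nat.card (P.subgroupOf (normalizer (P : Set G))) = Nat.card P :=
      Nat.card_congr (Subgroup.subgroupOfEquivOfLe H.le_normalizer).toEquiv
    rw [h4] at h3
    exact h3.symm
  have ht := two_le_t hperf hcard hidx H hN
  obtain ⟨M, hM⟩ := Cfsg.Agent.Lib.BlockVal.exists_isPModular hpp
  obtain ⟨D⟩ := exists_dat H hcard hidx hM hN
  obtain ⟨m, hm⟩ := exists_m (P := P) (C := P)
  -- a nontrivial element and character
  obtain ⟨z₀, hz₀⟩ : ∃ z : ↥P, z ≠ 1 := by
    haveI : Nontrivial ↥P := by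
      rw [← Finite.one_lt_card_iff_nontrivial, hcard]
      exact hpp.one_lt
    exact exists_ne 1
  obtain ⟨f₀, hf₀⟩ := exists_hom_ne (A := ↥P) (fun a b => Subtype.ext (hcP a a.2 b b.2)) hz₀
  have hf₁ : f₀ ≠ 1 := by
    rintro rfl
    exact hf₀ rfl
  let R : Ctx p P P (MonoidHom.id ↥P) 1 t n := ⟨H, D, m, hm, hperf, hidx, hcard, hN, hn, hAlt, ⟨f₀, hf₁⟩, z₀, hz₀⟩
  have hp2 := p_ne_two R ht
  have hTmul := T_mul R
  have hcN' : Nat.card (normalizer (P : Set G)) = p * t := card_N R
  have hnt : Nontrivial G := by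
    refine ⟨⟨(z₀ : G), 1, fun h => hz₀ (Subtype.ext h)⟩⟩
  rcases outcome R ht with ⟨hT, hn1⟩ | ⟨ht2, u, huN, hu2, hu1, hall, hCu, hc, hG⟩
  · -- `PSL(2, p)`
    left
    have hM' : (normalizer (P : Set G)).index = p + 1 := by
      rw [hn, hn1]
      ring
    have hpt : p = 2 * t + 1 := by
      rw [hT] at hTmul
      omega
    have hcore : ∀ K : Subgroup G, K.Normal → K ≤ normalizer (P : Set G) → K = ⊥ := by
      intro K hKn hKle
      by_cases hKP : ∃ w ∈ K, w ∈ P ∧ w ≠ 1
      · exfalso
        obtain ⟨w, hwK, hwP, hw1⟩ := hKP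
        have h1 : P ≤ K := by
          rw [← Cfsg.Agent.Lib.SmallGroups2.zpowers_eq_of_mem_of_ne_one hpp hcard hwP hw1, zpowers_le]
          exact hwK
        have h2 : normalizer (P : Set G) = ⊤ := by
          rw [eq_top_iff]
          intro g _
          have hd1 : Cfsg.Agent.Lib.DefectOne.Hyp P p := dOne R
          have hz : g⁻¹ * (z₀ : G) * g ∈ P := by
            have h3 : g⁻¹ * (z₀ : G) * g ∈ normalizer (P : Set G) := by
              apply hKle
              have h4 := hKn.conj_mem _ (h1 z₀.2) g⁻¹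
              simpa using h4
            have h5 : (z₀ : G) ^ p ^ 1 = 1 := by
              have h6 := Subgroup.orderOf_dvd_natCard P z₀.2
              rw [hcard] at h6
              rw [pow_one]
              exact orderOf_dvd_iff_pow_eq_one.1 h6
            refine mem_of_pow_of_normalizer (k := 1) H.pgroup hidx h3 ?_
            have h7 := conj_pow (a := g⁻¹) (b := (z₀ : G)) (i := p ^ 1)
            rw [h5] at h7
            simpa using h7
          exact hd1.mem_normalizer z₀.2 (fun h => hz₀ (Subtype.ext h)) hz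
        rw [h2, Subgroup.index_top] at hM'
        have := hpp.one_lt
        omega
      · push Not at hKP
        rw [eq_bot_iff]
        intro y hy
        rw [Subgroup.mem_bot]
        have h1 : y ∈ centralizer (P : Set G) := by
          rw [mem_centralizer_iff]
          intro x hx
          have h2 : y * x * y⁻¹ ∈ P := by
            have h3 := H.conj_mem ⟨y⁻¹, (normalizer (P : Set G)).inv_mem (hKle hy)⟩ ⟨x, hx⟩
            simpa using h3
          have h4 : y * x * y⁻¹ * x⁻¹ ∈ P := P.mul_mem h2 (P.inv_mem hx)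
          have h5 : y * x * y⁻¹ * x⁻¹ ∈ K := by
            have h6 := K.mul_mem hy (hKn.conj_mem _ (K.inv_mem hy) x)
            have h7 : y * (x * y⁻¹ * x⁻¹) = y * x * y⁻¹ * x⁻¹ := by group
            rwa [h7] at h6
          have h8 := hKP _ h5 h4
          have h9 : y * x = x * y := by
            calc y * x = (y * x * y⁻¹ * x⁻¹) * (x * y) := by group
              _ = x * y := by rw [h8, one_mul]
          exact h9.symm
        rw [hC] at h1
        exact hKP y hy h1
    obtain ⟨e⟩ := recog_A hperf (normalizer (P : Set G)) hM' hcN' hpt hnt hcore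
    refine ⟨ZMod p, inferInstance, ZMod.fintype p, ZMod.card p, ?_, ⟨e⟩⟩
    omega
  · -- `PSL(2, 2^a)`
    right
    have hT2 := two_le_T R ht
    have hp5 : 5 ≤ p := by
      have h1 : 2 * 2 ≤ (Jset R.D).card * t := Nat.mul_le_mul hT2 ht
      omega
    have hpg : IsPGroup p P := H.pgroup
    let S : Sylow p G := hpg.toSylow hidx
    have hab : ∀ a ∈ normalizer ((S : Subgroup G) : Set G), ∀ b ∈ normalizer ((S : Subgroup G) : Set G),
        a * b * a⁻¹ * b⁻¹ ∈ (S : Subgroup G) := by
      intro a ha b hb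
      have h1 := hQc (QuotientGroup.mk ⟨a⁻¹, (normalizer (P : Set G)).inv_mem ha⟩) (QuotientGroup.mk ⟨b⁻¹, (normalizer (P : Set G)).inv_mem hb⟩)
      rw [← QuotientGroup.mk_mul, ← QuotientGroup.mk_mul] at h1
      have h2 := QuotientGroup.eq.1 h1
      have h3 : ((⟨a⁻¹, (normalizer (P : Set G)).inv_mem ha⟩ * ⟨b⁻¹, (normalizer (P : Set G)).inv_mem hb⟩ : ↥(normalizer (P : Set G)))⁻¹ *
        (⟨b⁻¹, (normalizer (P : Set G)).inv_mem hb⟩ * ⟨a⁻¹, (normalizer (P : Set G)).inv_mem ha⟩) : ↥(normalizer (P : Set G))).1 ∈ P := h2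
      have h4 : b * a * b⁻¹ * a⁻¹ ∈ P := by
        simpa [mul_assoc] using h3
      -- swap
      have h5 : a * b * a⁻¹ * b⁻¹ = (b * a * b⁻¹ * a⁻¹)⁻¹ := by group
      rw [h5]
      exact P.inv_mem h4
    have huz : u * (z₀ : G) * u⁻¹ = (z₀ : G)⁻¹ :=
      Cfsg.Agent.Lib.DefectTwo.hyp_inverts (dOne R) hp2 huN (by rw [pow_two]; exact hu2) hu1 z₀.2
    have hz₀o : orderOf (z₀ : G) = p :=
      Cfsg.Agent.Lib.SmallGroups2.orderOf_eq_of_mem_of_ne_one hpp hcard z₀.2 (fun h => hz₀ (Subtype.ext h))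
    exact recog_B hp5 S hcard hab hperf hu2 hu1 hall hCu hc hG hz₀o huz

end Cfsg.Agent.Lib.RigO
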