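import Mathlib
import Cfsg.Agent.Lib.RigO

/-!
# Elements with small centralizer
-/

set_option autoImplicit false
set_option linter.style.haveILetI false
set_option linter.unusedSectionVars false
set_option linter.unusedVariables false
set_option linter.unusedSimpArgs false

namespace Cfsg.Agent.Lib.RigP

open Subgroup

variable {G : Type*} [Group G] [Finite G]

/-- `N.index = 1 + n p`. -/
theorem exists_n {p : ℕ} [hp : Fact p.Prime] (S : Sylow p G) :
    ∃ n : ℕ, Nat.card (Sylow p G) = 1 + n * p ∧ (normalizer ((S : Subgroup G) : Set G)).index = 1 + n * p := by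
  have h1 := card_sylow_modEq_one p G
  have h2 := Sylow.card_eq_index_normalizer S
  have hge : 1 ≤ Nat.card (Sylow p G) := Nat.card_pos
  have h3 : p ∣ Nat.card (Sylow p G) - 1 := (Nat.modEq_iff_dvd' hge).1 h1.symm
  obtain ⟨n, hn⟩ := h3
  refine ⟨n, ?_, ?_⟩
  · rw [mul_comm n p]
    omega
  · have h4 : (normalizer ((S : Subgroup G) : Set G)).index = Nat.card (Sylow p G) := h2.symm
    rw [h4, mul_comm n p]
    omega

/-- An element with small centralizer generates a Sylow subgroup. -/
theorem not_dvd_index {p : ℕ} [hp : Fact p.Prime] {z : G} (hz : orderOf z = p)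
    (hC : centralizer ({z} : Set G) = zpowers z) : ¬ p ∣ (zpowers z).index := by
  classical
  have hcard : Nat.card (zpowers z) = p := by rw [Nat.card_zpowers, hz]
  have hpg : IsPGroup p (zpowers z) := IsPGroup.of_card (n := 1) (by rw [hcard, pow_one])
  obtain ⟨S, hS⟩ := hpg.exists_le_sylow
  have hzS : z ∈ (S : Subgroup G) := hS (mem_zpowers z)
  have hle : (S : Subgroup G) ≤ zpowers z := by
    intro x hx
    haveI : Nontrivial ↥(S : Subgroup G) := by
      refine ⟨⟨⟨z, hzS⟩, 1, fun h => ?_⟩⟩
      have h1 : z = 1 := congrArg Subtype.val h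
      rw [h1, orderOf_one] at hz
      exact hp.out.one_lt.ne hz
    have hcn := S.isPGroup'.center_nontrivial
    obtain ⟨c, hc⟩ := exists_ne (1 : Subgroup.center ↥(S : Subgroup G))
    have hc1 : ((c : ↥(S : Subgroup G)) : G) ≠ 1 := by
      intro h
      apply hc
      apply Subtype.ext
      apply Subtype.ext
      exact h
    have hcz : ((c : ↥(S : Subgroup G)) : G) ∈ zpowers z := by
      rw [← hC, mem_centralizer_singleton_iff]
      have h1 := (Subgroup.mem_center_iff.1 c.2) ⟨z, hzS⟩
      exact (congrArg Subtype.val h1).symm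
    have hzp : zpowers ((c : ↥(S : Subgroup G)) : G) = zpowers z :=
      Cfsg.Agent.Lib.SmallGroups2.zpowers_eq_of_mem_of_ne_one hp.out hcard hcz hc1
    have hzc : z ∈ zpowers ((c : ↥(S : Subgroup G)) : G) := by
      rw [hzp]
      exact mem_zpowers z
    rw [← hC, mem_centralizer_singleton_iff]
    obtain ⟨k, hk⟩ := Subgroup.mem_zpowers_iff.1 hzc
    have h1 := (Subgroup.mem_center_iff.1 c.2) ⟨x, hx⟩
    have h2 : Commute x ((c : ↥(S : Subgroup G)) : G) := (congrArg Subtype.val h1)
    rw [← hk]
    exact (h2.zpow_right k).eq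
  have heq : (S : Subgroup G) = zpowers z := le_antisymm hle hS
  rw [← heq]
  exact S.not_dvd_index

/-- **S0996.** -/
theorem s0996 (hperf : _root_.commutator G = ⊤) (p : ℕ) [hp : Fact p.Prime] (z : G) (hz : orderOf z = p)
    (hC : centralizer ({z} : Set G) = zpowers z) (hn : 2 * Nat.card (Sylow p G) < (p + 1) * (p + 2)) :
    (∃ (F : Type) (_ : Field F) (_ : Fintype F), Fintype.card F = p ∧ 3 < p ∧
      Nonempty (G ≃* Matrix.ProjectiveSpecialLinearGroup (Fin 2) F)) ∨
    (∃ (m : ℕ) (F : Type) (_ : Field F) (_ : Fintype F), Fintype.card F = 2 ^ m ∧ p = 2 ^ m + 1 ∧ 3 < p ∧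
      Nonempty (G ≃* Matrix.ProjectiveSpecialLinearGroup (Fin 2) F)) := by
  have hidx := not_dvd_index hz hC
  have hcard : Nat.card (zpowers z) = p := by rw [Nat.card_zpowers, hz]
  have hpg : IsPGroup p (zpowers z) := IsPGroup.of_card (n := 1) (by rw [hcard, pow_one])
  let S : Sylow p G := hpg.toSylow hidx
  obtain ⟨n, h1, h2⟩ := exists_n S
  have h3 : 2 * n < p + 3 := by
    rw [h1] at hn
    have h4 : 2 * (n * p) + 2 < (p + 1) * (p + 2) := by nlinarith
    have h5 : (2 * n) * p < (p + 3) * p := by nlinarith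
    exact Nat.lt_of_mul_lt_mul_right h5
  have hCent : centralizer ((zpowers z : Subgroup G) : Set G) = zpowers z := by
    rw [zpowers_eq_closure, centralizer_closure, ← zpowers_eq_closure]
    rw [← hC]
  exact Cfsg.Agent.Lib.RigO.rigid_main hperf (zpowers z) hcard hidx hCent h2 (Cfsg.Agent.Lib.RigO.altFail_of_small h3)

end Cfsg.Agent.Lib.RigP
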