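import Mathlib
import Cfsg.Agent.Lib.RigP

/-!
# The kernel of the retraction when `n` is small
-/

set_option autoImplicit false
set_option linter.style.haveILetI false
set_option linter.unusedSectionVars false
set_option linter.unusedVariables false
set_option linter.unusedSimpArgs false

namespace Cfsg.Agent.Lib.RigQ

open Cfsg Cfsg.Agent.Lib.CharBasic Subgroup Cfsg.Agent.Lib.DefectOne Cfsg.Agent.Lib.CharInd
open Cfsg.Agent.Lib.TICent Cfsg.Agent.Lib.RigA Cfsg.Agent.Lib.RangeStruct Cfsg.Agent.Lib.RigB Cfsg.Agent.Lib.RigC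
open Cfsg.Agent.Lib.RigD
open scoped ComplexConjugate

variable {G : Type*} [Group G] [Fintype G] [DecidableEq G] {p : ℕ} {P C : Subgroup G} {r : ↥C →* ↥P} {e₀ : ℕ}

variable {t n : ℕ} [Fintype C] [Fintype P] [Fintype r.ker] [Fintype (↥P →* ℂˣ)] [(cN P C).Normal]
  [Fintype ↥(normalizer (P : Set G))] [Fintype (QQ P C →* ℂˣ)]

variable (R : Ctx p P C r e₀ t n)
include R

/-- `n` is positive. -/
theorem n_pos (ht : 2 ≤ t) : 1 ≤ n := by
  classical
  by_contra h
  have hn0 : n = 0 := by omega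
  have hM : (normalizer (P : Set G)).index = 1 := by
    rw [R.hn, hn0]
    simp
  have hcard := R.card_QQ_dual
  have h1 : ∃ l : QQ P C →* ℂˣ, l ≠ 1 := by
    have h2 : 1 < Fintype.card (QQ P C →* ℂˣ) := by omega
    haveI := Fintype.one_lt_card_iff_nontrivial.1 h2
    exact exists_ne 1
  obtain ⟨l, hl⟩ := h1
  have h2 := sum_m_degree R.hm l
  rw [hM] at h2
  -- some member
  have h3 : ∃ χ : IrrCharacter G, R.m l χ ≠ 0 := by
    by_contra hcon
    push Not at hcon
    rw [Finset.sum_eq_zero (fun χ _ => by rw [hcon χ, zero_mul])] at h2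
    omega
  obtain ⟨χ, hχ⟩ := h3
  have h4 : R.m l χ * charDegree (χ : G → ℂ) ≤ 1 := by
    rw [← h2]
    exact Finset.single_le_sum (f := fun χ : IrrCharacter G => R.m l χ * charDegree (χ : G → ℂ))
      (fun _ _ => Nat.zero_le _) (Finset.mem_univ χ)
  have h5 : charDegree (χ : G → ℂ) = 1 := by
    have h6 := R.one_le_deg χ
    have h7 : charDegree (χ : G → ℂ) ≤ R.m l χ * charDegree (χ : G → ℂ) := Nat.le_mul_of_pos_left _ (Nat.pos_of_ne_zero hχ)
    omega
  have h8 := eq_one_of_degree_one R.hperf χ h5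
  rw [h8, m_one R.hm l, if_neg hl] at hχ
  exact hχ rfl

/-- The exceptional characters are nontrivial when `2 t < p`. -/
theorem xi_ne (ht : 2 * t < p) : R.D.ξ R.f₀ ≠ oneIrr G := by
  classical
  intro h
  have h1 : Jset R.D = {oneIrr G} := by
    ext χ
    rw [mem_Jset, Finset.mem_singleton]
    constructor
    · rintro ⟨f, rfl⟩
      apply eq_one_of_degree_one R.hperf
      rw [xi_deg R.H R.D f R.f₀, h, Ctx.deg_one]
    · rintro rfl
      exact ⟨R.f₀, h⟩
  have h2 := card_Jset R.D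
  rw [h1, Finset.card_singleton, one_mul] at h2
  have := R.H.prime.two_le
  omega

/-- If there is no character with `w = 1`, then we get a contradiction. -/
theorem exists_plus (ht : 2 ≤ t) (htp : 2 * t < p) : ∃ χ : IrrCharacter G, R.D.w χ = 1 := by
  classical
  by_contra hno
  push Not at hno
  have hξ := xi_ne R htp
  have hw1 := R.w_one hξ
  have hn1 := n_pos R ht
  have hpp := R.H.prime
  set M := (normalizer (P : Set G)).index with hM
  have hM2 : 2 ≤ M := by
    rw [hM, R.hn]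
    have : p ≤ n * p := Nat.le_mul_of_pos_left _ hn1
    have := hpp.two_le
    omega
  have hval : ∀ χ : IrrCharacter G, R.D.w χ = 0 ∨ R.D.w χ = -1 := fun χ => by
    rcases R.D.hval χ with h | h | h
    · exact Or.inl h
    · exact absurd h (hno χ)
    · exact Or.inr h
  have hreg := R.D.hreg R.f₀ 1 (by
    rw [orderOf_one]
    intro h
    exact hpp.one_lt.ne' (Nat.dvd_one.1 h))
  have hone : ∀ χ : IrrCharacter G, (χ : G → ℂ) 1 = ((charDegree (χ : G → ℂ) : ℤ) : ℂ) := by
    intro χ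
    rw [Cfsg.Agent.Lib.CharKernel.one_eq_charDegree (IsIrrCharacter.isCharacter χ.2)]
    simp
  simp_rw [hone] at hreg
  have hregZ : ∑ χ : IrrCharacter G, R.D.w χ * (charDegree (χ : G → ℂ) : ℤ) +
      R.D.σ * (charDegree ((R.D.ξ R.f₀ : IrrCharacter G) : G → ℂ) : ℤ) = 0 := by
    exact_mod_cast hreg
  have hterm : ∀ χ : IrrCharacter G, R.D.w χ * (charDegree (χ : G → ℂ) : ℤ) =
      - (R.D.w χ) ^ 2 * (M : ℤ) + if χ = oneIrr G then (M : ℤ) - 1 else 0 := by
    intro χ
    by_cases h1 : χ = oneIrr G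
    · subst h1
      rw [if_pos rfl, hw1, Ctx.deg_one]
      push_cast
      ring
    · rw [if_neg h1]
      rcases hval χ with h | h
      · rw [h]
        ring
      · rw [h, R.deg_v h h1]
        ring
  rw [Finset.sum_congr rfl (fun χ _ => hterm χ), Finset.sum_add_distrib, Finset.sum_ite_eq' Finset.univ (oneIrr G),
    if_pos (Finset.mem_univ _), ← Finset.sum_mul, Finset.sum_neg_distrib, R.D.hnorm] at hregZ
  set d := charDegree ((R.D.ξ R.f₀ : IrrCharacter G) : G → ℂ) with hd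
  have hd1 : 1 ≤ d := R.one_le_deg _
  have htM : (0 : ℤ) < (t : ℤ) * M - M + 1 := by
    have h1 : (1 : ℤ) ≤ t := by
      have : 1 ≤ t := by omega
      exact_mod_cast this
    have h2 : (0 : ℤ) ≤ M := by positivity
    nlinarith
  have hσ : R.D.σ = 1 := by
    rcases R.D.hσ with h | h
    · exact h
    · exfalso
      rw [h] at hregZ
      have h3 : (0 : ℤ) ≤ d := by positivity
      nlinarith
  rw [hσ] at hregZ
  obtain ⟨s, hs⟩ : ∃ s, t = s + 1 := ⟨t - 1, by omega⟩
  have hdeq : d = s * M + 1 := by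
    have : (d : ℤ) = s * M + 1 := by
      have h3 : (t : ℤ) = s + 1 := by exact_mod_cast hs
      rw [h3] at hregZ
      linarith
    exact_mod_cast this
  have hdvd := xi_dvd R.H R.D R.hN R.f₀ R.hz₀
  rw [← hd, ← hM] at hdvd
  have hcop : Nat.Coprime d M := by
    rw [hdeq]
    simp
  have h3 : d ∣ t := hcop.dvd_of_dvd_mul_left hdvd
  have h4 : d ≤ t := Nat.le_of_dvd (by omega) h3
  have h5 : s * 2 ≤ s * M := Nat.mul_le_mul_left _ hM2
  have h6 : 1 ≤ s := by omega
  omega

/-- **The kernel of the retraction is trivial.** -/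
theorem ker_trivial (ht : 2 ≤ t) (hO : ∀ Q : Subgroup G, Q.Normal → ¬ p ∣ Nat.card Q → Q = ⊥)
    (hsmall : 2 * (n * t) < p) (c : ↥C) (hc : r c = 1) : c = 1 := by
  classical
  have hn1 := n_pos R ht
  have hpp := R.H.prime
  have htp : 2 * t < p := by
    have : 2 * (1 * t) ≤ 2 * (n * t) := Nat.mul_le_mul_left _ (Nat.mul_le_mul_right _ hn1)
    omega
  obtain ⟨χ, hw⟩ := exists_plus R ht htp
  have hw0 : R.D.w χ ≠ 0 := by rw [hw]; norm_num
  obtain ⟨b, hb1, hb⟩ := deg_plus R.H R.D R.hcard hw R.f₀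
  have hdvd := deg_dvd_of_w R.H R.D R.hN hw0 R.f₀ R.hz₀
  rw [R.hn] at hdvd
  set x := charDegree (χ : G → ℂ) with hx
  have hx0 : 0 < x := R.one_le_deg χ
  -- `x ∣ (b + n) t`
  have h1 : x ∣ (b + n) * t := by
    have h2 : x ∣ b * ((1 + n * p) * t) := Dvd.dvd.mul_left hdvd b
    have h3 : b * ((1 + n * p) * t) = (b + n) * t + x * (n * t) := by
      have h4 : b * ((1 + n * p) * t) = b * t + n * t * (b * p) := by ring
      rw [h4, ← hb]
      ring
    rw [h3] at h2
    exact (Nat.dvd_add_left (Dvd.intro _ rfl)).1 h2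
  have h2 : x ≤ (b + n) * t := Nat.le_of_dvd (Nat.mul_pos (by omega) (by omega)) h1
  have hb2 : b = 1 := by
    by_contra hne
    have hb2 : 2 ≤ b := by omega
    obtain ⟨b', rfl⟩ : ∃ b', b = b' + 2 := ⟨b - 2, by omega⟩
    have h3 : x + 1 = b' * p + 2 * p := by rw [hb]; ring
    have h4 : (b' + 2 + n) * t = b' * t + 2 * t + n * t := by ring
    have h5 : b' * t ≤ b' * p := Nat.mul_le_mul_left _ (by omega)
    omega
  rw [hb2, one_mul] at hb
  have hxp : x < Nat.card P := by
    rw [R.hcard]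
    omega
  have hone : (χ : G → ℂ) 1 = (x : ℂ) := Cfsg.Agent.Lib.CharKernel.one_eq_charDegree (IsIrrCharacter.isCharacter χ.2)
  have hne := exists_ne_of_w R.H R.D hw0 R.f₀
  have hsec : ∀ z : ↥P, z ≠ 1 → ∀ y : ↥C, r y = 1 → (χ : G → ℂ) ((z : G) * (y : G)) = (χ : G → ℂ) z := by
    intro z hz y hy
    have h3 := val_eq R.H R.D χ hne hz hy
    have h4 := val_eq R.H R.D χ hne hz (map_one r)
    simp only [OneMemClass.coe_one, mul_one] at h4
    rw [h3, h4]
  have hker := R.H.ker_of_section χ hone hxp hsec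
  have hic := IsIrrCharacter.isCharacter χ.2
  by_contra hc1
  have hK : Cfsg.Agent.Lib.CharKernel.charKer hic ≠ ⊥ := by
    intro h
    have h3 : (c : G) ∈ Cfsg.Agent.Lib.CharKernel.charKer hic :=
      (Cfsg.Agent.Lib.CharKernel.mem_charKer hic).2 (hker c hc)
    rw [h, Subgroup.mem_bot] at h3
    exact hc1 (Subtype.ext h3)
  have hpK : p ∣ Nat.card (Cfsg.Agent.Lib.CharKernel.charKer hic) := by
    by_contra h
    exact hK (hO _ inferInstance h)
  -- an element of order `p` in the kernel is conjugate into `P`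
  haveI : Fact p.Prime := ⟨hpp⟩
  obtain ⟨g, hg⟩ := exists_prime_orderOf_dvd_card' p hpK
  have hg1 : ((g : ↥(Cfsg.Agent.Lib.CharKernel.charKer hic)) : G) ^ p = 1 := by
    rw [← Subgroup.coe_pow, ← hg, pow_orderOf_eq_one]
    rfl
  have hgne : (g : G) ≠ 1 := by
    intro h
    have h3 : g = 1 := Subtype.ext h
    rw [h3, orderOf_one] at hg
    exact hpp.one_lt.ne hg
  have hpg : IsPGroup p (zpowers (g : G)) := by
    apply IsPGroup.of_card (n := 1)
    rw [Nat.card_zpowers, pow_one]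
    have : orderOf (g : G) = orderOf g := Subgroup.orderOf_coe g
    rw [this, hg]
  obtain ⟨S, hS⟩ := hpg.exists_le_sylow
  have hPg : IsPGroup p P := R.H.pgroup
  let S₀ : Sylow p G := hPg.toSylow R.hidx
  obtain ⟨h, hh⟩ := MulAction.exists_smul_eq G S S₀
  have hmem : (g : G) ∈ (S : Subgroup G) := hS (mem_zpowers _)
  have h3 : h * (g : G) * h⁻¹ ∈ P := by
    have h4 : (S₀ : Subgroup G) = P := rfl
    rw [← h4, ← hh, Sylow.coe_subgroup_smul]
    exact Subgroup.smul_mem_pointwise_smul _ (MulAut.conj h) _ hmem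
  have h5 : h * (g : G) * h⁻¹ ∈ Cfsg.Agent.Lib.CharKernel.charKer hic := (inferInstance : (Cfsg.Agent.Lib.CharKernel.charKer hic).Normal).conj_mem _ g.2 h
  have h6 : (⟨_, h3⟩ : ↥P) ≠ 1 := by
    intro h7
    have h8 : h * (g : G) * h⁻¹ = 1 := congrArg Subtype.val h7
    apply hgne
    have : (g : G) = h⁻¹ * (h * (g : G) * h⁻¹) * h := by group
    rw [this, h8]
    group
  have h7 := val_of_w R.H R.D hw0 R.f₀ h6
  have h8 := (Cfsg.Agent.Lib.CharKernel.mem_charKer hic).1 h5
  rw [show ((⟨_, h3⟩ : ↥P) : G) = h * (g : G) * h⁻¹ from rfl, h8, hone, hw] at h7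
  have h9 : ((x + 1 : ℕ) : ℂ) = 0 := by
    push_cast
    rw [h7]
    push_cast
    ring
  have h10 : x + 1 = 0 := by exact_mod_cast h9
  omega

end Cfsg.Agent.Lib.RigQ
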