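import Mathlib
import Cfsg.Agent.Lib.RigQ
import Cfsg.Agent.Lib.TICentMain
import Cfsg.Agent.Lib.PCore
import Cfsg.Agent.Lib.ClassicalSmall

/-!
# Groups of order less than `p ^ 3`
-/

set_option autoImplicit false
set_option linter.style.haveILetI false
set_option linter.unusedSectionVars false
set_option linter.unusedVariables false
set_option linter.unusedSimpArgs false

namespace Cfsg.Agent.Lib.RigR

open Cfsg Cfsg.Agent.Lib.CharBasic Subgroup Cfsg.Agent.Lib.DefectOne Cfsg.Agent.Lib.CharInd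
open Cfsg.Agent.Lib.TICent Cfsg.Agent.Lib.RigA Cfsg.Agent.Lib.RangeStruct Cfsg.Agent.Lib.RigB Cfsg.Agent.Lib.RigC
open Cfsg.Agent.Lib.RigD Cfsg.Agent.Lib.RigO Cfsg.Agent.Lib.RigP Cfsg.Agent.Lib.RigQ
open scoped ComplexConjugate

variable {G : Type*} [Group G] [Finite G]

/-- **Burnside**: `|N : C| ≥ 2` for perfect groups. -/
theorem two_le_t' (hperf : _root_.commutator G = ⊤) {p : ℕ} [hp : Fact p.Prime] {P C : Subgroup G} {r : ↥C →* ↥P} {e₀ : ℕ}
    (hcard : Nat.card P = p) (hidx : ¬ p ∣ P.index) (H : Hyp p P C r e₀) {t : ℕ}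
    (hN : Nat.card (normalizer (P : Set G)) = Nat.card C * t) :
    2 ≤ t := by
  classical
  have ht0 : t ≠ 0 := by
    rintro rfl
    rw [mul_zero] at hN
    exact Nat.card_pos.ne' hN
  by_contra h
  have ht1 : t = 1 := by omega
  rw [ht1, mul_one] at hN
  have hle : normalizer (P : Set G) ≤ centralizer (P : Set G) := by
    rw [H.cen]
    have h1 : C ≤ normalizer (P : Set G) := H.le_normalizer
    have h2 := Subgroup.eq_of_le_of_card_ge h1 hN.le
    exact h2.symm.le
  have hpg : IsPGroup p P := H.pgroup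
  let S : Sylow p G := hpg.toSylow hidx
  have hS : (S : Subgroup G) = P := rfl
  have hle' : normalizer ((S : Subgroup G) : Set G) ≤ centralizer ((S : Subgroup G) : Set G) := hle
  have hcomp := MonoidHom.ker_transferSylow_isComplement' S hle'
  set φ := MonoidHom.transferSylow S hle' with hφ
  have hcommP : ∀ x y : ↥(S : Subgroup G), x * y = y * x := by
    intro x y
    exact Subtype.ext (H.comm_P y.2 x.2)
  have hker : φ.ker = ⊤ := by
    rw [eq_top_iff, ← hperf, _root_.commutator_def, Subgroup.commutator_le]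
    intro a _ b _
    rw [MonoidHom.mem_ker, commutatorElement_def, map_mul, map_mul, map_mul, map_inv, map_inv, hcommP (φ a) (φ b)]
    group
  have h1 := hcomp.symm.index_eq_card
  rw [hker, Subgroup.index_top] at h1
  have h2 : Nat.card ↥(S : Subgroup G) = p := hcard
  rw [h2] at h1
  exact hp.out.one_lt.ne h1

/-- The core of the case `O_{p'}(G) = 1`. -/
theorem sect_aux (hperf : _root_.commutator G = ⊤) {p : ℕ} [hp : Fact p.Prime] {P C : Subgroup G} {r : ↥C →* ↥P} {e : ℕ}
    (H : Hyp p P C r e) (hcen : centralizer (P : Set G) = C) (S : Sylow p G) (hPS : (S : Subgroup G) = P)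
    (hcard : Nat.card P = p)
    (hO : ∀ Q : Subgroup G, Q.Normal → ¬ p ∣ Nat.card Q → Q = ⊥) (hbig : Nat.card G < p ^ 3) :
    (∃ (F : Type) (_ : Field F) (_ : Fintype F), Fintype.card F = p ∧ 3 < p ∧
      Nonempty (G ≃* Matrix.ProjectiveSpecialLinearGroup (Fin 2) F)) ∨
    (∃ (m : ℕ) (F : Type) (_ : Field F) (_ : Fintype F), Fintype.card F = 2 ^ m ∧ p = 2 ^ m + 1 ∧ 3 < p ∧
      Nonempty (G ≃* Matrix.ProjectiveSpecialLinearGroup (Fin 2) F)) := by
  classical
  letI : Fintype G := Fintype.ofFinite G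
  have hpp := hp.out
  have hidx : ¬ p ∣ P.index := by
    rw [← hPS]
    exact S.not_dvd_index
  letI : Fintype ↥P := Fintype.ofFinite _
  letI : Fintype ↥C := Fintype.ofFinite _
  letI : Fintype ↥r.ker := Fintype.ofFinite _
  have hcP := comm_P H
  haveI := dual_finite hcP
  letI : Fintype (↥P →* ℂˣ) := Fintype.ofFinite _
  haveI hcN : (cN P C).Normal := cN_normal H
  letI : Fintype ↥(normalizer (P : Set G)) := Fintype.ofFinite _
  have hQc := comm_QQ H hcard
  haveI := finite_hom hQc
  letI : Fintype (QQ P C →* ℂˣ) := Fintype.ofFinite _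
  -- the index
  obtain ⟨t, hN⟩ : ∃ t, Nat.card (normalizer (P : Set G)) = Nat.card C * t := by
    refine ⟨(C.subgroupOf (normalizer (P : Set G))).index, ?_⟩
    have h3 := Subgroup.card_mul_index (C.subgroupOf (normalizer (P : Set G)))
    have h4 : Nat.card (C.subgroupOf (normalizer (P : Set G))) = Nat.card C :=
      Nat.card_congr (Subgroup.subgroupOfEquivOfLe H.le_normalizer).toEquiv
    rw [h4] at h3
    exact h3.symm
  have ht := two_le_t' hperf hcard hidx H hN
  obtain ⟨n, -, hn⟩ := exists_n S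
  rw [hPS] at hn
  -- counting
  have hker : Nat.card r.ker * p = Nat.card C := by
    have h1 := Subgroup.card_mul_index r.ker
    rw [Subgroup.index_ker, MonoidHom.range_eq_top.2 H.r_surj, Subgroup.card_top, hcard] at h1
    exact h1
  set k := Nat.card r.ker with hk
  have hk0 : 1 ≤ k := Nat.card_pos
  have hcG : Nat.card G = k * p * t * (1 + n * p) := by
    have h1 := Subgroup.card_mul_index (normalizer (P : Set G))
    rw [hN, ← hker, hn] at h1
    exact h1.symm
  have hlt : k * t * (1 + n * p) < p ^ 2 := by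
    have h1 : p * (k * t * (1 + n * p)) < p * p ^ 2 := by
      calc p * (k * t * (1 + n * p)) = Nat.card G := by rw [hcG]; ring
        _ < p ^ 3 := hbig
        _ = p * p ^ 2 := by ring
    exact Nat.lt_of_mul_lt_mul_left h1
  have hlt2 : 2 * (1 + n * p) < p ^ 2 := by
    have h1 : 1 * 2 * (1 + n * p) ≤ k * t * (1 + n * p) :=
      Nat.mul_le_mul_right _ (Nat.mul_le_mul hk0 ht)
    omega
  have hAlt : AltFail n p := by
    apply altFail_of_small
    have h1 : (2 * n) * p < p * p := by nlinarith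
    have h2 := Nat.lt_of_mul_lt_mul_right h1
    omega
  obtain ⟨M, hM⟩ := Cfsg.Agent.Lib.BlockVal.exists_isPModular hpp
  obtain ⟨D⟩ := exists_dat H hcard hidx hM hN
  obtain ⟨m, hm⟩ := exists_m (P := P) (C := C)
  -- a nontrivial element and character
  obtain ⟨z₀, hz₀⟩ : ∃ z : ↥P, z ≠ 1 := by
    haveI : Nontrivial ↥P := by
      rw [← Finite.one_lt_card_iff_nontrivial, hcard]
      exact hpp.one_lt
    exact exists_ne 1
  obtain ⟨f₀, hf₀⟩ := exists_hom_ne (A := ↥P) (fun a b => Subtype.ext (hcP a a.2 b b.2)) hz₀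
  have hf₁ : f₀ ≠ 1 := by
    rintro rfl
    exact hf₀ rfl
  let R : Ctx p P C r e t n := ⟨H, D, m, hm, hperf, hidx, hcard, hN, hn, hAlt, ⟨f₀, hf₁⟩, z₀, hz₀⟩
  have hk1 : k = 1 := by
    by_contra hne
    have hk2 : 2 ≤ k := by omega
    have hsmall : 2 * (n * t) < p := by
      have h1 : 2 * (t * (n * p)) < p * p := by
        have h2 : 2 * t * (1 + n * p) ≤ k * t * (1 + n * p) :=
          Nat.mul_le_mul_right _ (Nat.mul_le_mul_right _ hk2)
        have h3 : 0 < t := by omega
        nlinarith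
      have h4 : (2 * (n * t)) * p < p * p := by
        calc (2 * (n * t)) * p = 2 * (t * (n * p)) := by ring
          _ < p * p := h1
      exact Nat.lt_of_mul_lt_mul_right h4
    have hall : r.ker = ⊥ := by
      rw [eq_bot_iff]
      intro c hc
      rw [Subgroup.mem_bot]
      exact ker_trivial R ht hO hsmall c hc
    rw [hk, hall, Subgroup.card_bot] at hne
    exact hne rfl
  have hC : centralizer (P : Set G) = P := by
    rw [hcen]
    symm
    apply Subgroup.eq_of_le_of_card_ge H.le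
    rw [← hker, hk1, one_mul, hcard]
  exact rigid_main hperf P hcard hidx hC hn hAlt

/-- The case `O_{p'}(G) = 1`. -/
theorem sect_main (hperf : _root_.commutator G = ⊤) {p : ℕ} [hp : Fact p.Prime] (S : Sylow p G)
    (hcard : Nat.card (S : Subgroup G) = p)
    (hO : ∀ Q : Subgroup G, Q.Normal → ¬ p ∣ Nat.card Q → Q = ⊥) (hbig : Nat.card G < p ^ 3) :
    (∃ (F : Type) (_ : Field F) (_ : Fintype F), Fintype.card F = p ∧ 3 < p ∧
      Nonempty (G ≃* Matrix.ProjectiveSpecialLinearGroup (Fin 2) F)) ∨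
    (∃ (m : ℕ) (F : Type) (_ : Field F) (_ : Fintype F), Fintype.card F = 2 ^ m ∧ p = 2 ^ m + 1 ∧ 3 < p ∧
      Nonempty (G ≃* Matrix.ProjectiveSpecialLinearGroup (Fin 2) F)) := by
  have hpp := hp.out
  have hstar : ∀ x ∈ (S : Subgroup G), x ≠ 1 →
      centralizer ({x} : Set G) = centralizer ((S : Subgroup G) : Set G) := by
    intro x hx hx1
    have h1 := Cfsg.Agent.Lib.SmallGroups2.zpowers_eq_of_mem_of_ne_one hpp hcard hx hx1
    rw [← h1, zpowers_eq_closure, centralizer_closure]
  obtain ⟨r, e, H⟩ := exists_hyp p hpp S hstar (by rw [hcard]; exact hpp.one_lt)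
  exact sect_aux hperf H rfl S rfl hcard hO hbig

/-- **The main theorem.** -/
theorem big_main (hperf : _root_.commutator G = ⊤) (p : ℕ) [hp : Fact p.Prime] (hdvd : p ∣ Nat.card G)
    (hbig : Nat.card G < p ^ 3) (P : Sylow p G) (hP : ¬ (P : Subgroup G).Normal)
    (h2 : ∀ N : Subgroup G, N.Normal → Nat.card N ≠ 2) :
    (∃ (F : Type) (_ : Field F) (_ : Fintype F), Fintype.card F = p ∧ 3 < p ∧
      Nonempty (G ≃* Matrix.ProjectiveSpecialLinearGroup (Fin 2) F)) ∨
    (∃ (m : ℕ) (F : Type) (_ : Field F) (_ : Fintype F), Fintype.card F = 2 ^ m ∧ p = 2 ^ m + 1 ∧ 3 < p ∧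
      Nonempty (G ≃* Matrix.ProjectiveSpecialLinearGroup (Fin 2) F)) := by
  classical
  have hpp := hp.out
  -- the order of `P`
  have hcard : Nat.card (P : Subgroup G) = p := by
    obtain ⟨e, he⟩ := IsPGroup.iff_card.1 P.isPGroup'
    have he' : Nat.card (P : Subgroup G) = p ^ e := he
    have hmul := Subgroup.card_mul_index (P : Subgroup G)
    have hnd := P.not_dvd_index
    have hi0 : 0 < (P : Subgroup G).index := Nat.pos_of_ne_zero (fun h => hnd (h ▸ dvd_zero p))
    rcases e with _ | _ | _ | e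
    · exfalso
      rw [he', pow_zero, one_mul] at hmul
      rw [← hmul] at hdvd
      exact hnd hdvd
    · simpa using he'
    · exfalso
      obtain ⟨n, -, hn⟩ := exists_n P
      have hle : (P : Subgroup G) ≤ normalizer ((P : Subgroup G) : Set G) := le_normalizer
      have h3 : (normalizer ((P : Subgroup G) : Set G)).index ∣ (P : Subgroup G).index :=
        Subgroup.index_dvd_of_le hle
      have h4 : (normalizer ((P : Subgroup G) : Set G)).index ≤ (P : Subgroup G).index := Nat.le_of_dvd hi0 h3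
      have h5 : (P : Subgroup G).index < p := by
        rw [he'] at hmul
        have h6 : p ^ 2 * (P : Subgroup G).index < p ^ 2 * p := by
          calc p ^ 2 * (P : Subgroup G).index = Nat.card G := by simpa using hmul
            _ < p ^ 3 := hbig
            _ = p ^ 2 * p := by ring
        exact Nat.lt_of_mul_lt_mul_left h6
      rw [hn] at h4
      have hn0 : n = 0 := by
        by_contra hne
        have : p ≤ n * p := Nat.le_mul_of_pos_left _ (Nat.pos_of_ne_zero hne)
        omega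
      rw [hn0, zero_mul, add_zero] at hn
      have h7 := Subgroup.index_eq_one.1 hn
      exact hP (Subgroup.normalizer_eq_top_iff.1 h7)
    · exfalso
      rw [he'] at hmul
      have h3 : p ^ 3 ≤ Nat.card G := by
        rw [← hmul, pow_add]
        have h4 : p ^ 3 ≤ p ^ (e + 1 + 1 + 1) := Nat.pow_le_pow_right hpp.pos (by omega)
        have h5 : p ^ (e + 1 + 1 + 1) ≤ p ^ (e + 1 + 1 + 1) * (P : Subgroup G).index := Nat.le_mul_of_pos_right _ hi0
        calc p ^ 3 ≤ p ^ (e + 1 + 1 + 1) := h4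
          _ ≤ _ := h5
          _ = _ := by simp [pow_add]
      omega
  -- the quotient
  set H := pPrimeCore p G with hH
  set f := QuotientGroup.mk' H with hf
  have hfs : Function.Surjective f := QuotientGroup.mk'_surjective H
  have hHp : ¬ p ∣ Nat.card H := Cfsg.Agent.Lib.PCore.not_dvd_card_pPrimeCore p
  have hGmul : Nat.card G = Nat.card (G ⧸ H) * Nat.card H := Subgroup.card_eq_card_quotient_mul_card_subgroup H
  have hperf' : _root_.commutator (G ⧸ H) = ⊤ := by
    have h3 := Subgroup.map_commutator (⊤ : Subgroup G) ⊤ f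
    rw [← MonoidHom.range_eq_map, MonoidHom.range_eq_top.2 hfs] at h3
    rw [_root_.commutator_def, ← h3]
    have h4 : ⁅(⊤ : Subgroup G), (⊤ : Subgroup G)⁆ = ⊤ := hperf
    rw [h4, ← MonoidHom.range_eq_map, MonoidHom.range_eq_top.2 hfs]
  let S : Sylow p (G ⧸ H) := P.mapSurjective hfs
  have hS : (S : Subgroup (G ⧸ H)) = (P : Subgroup G).map f := Sylow.coe_mapSurjective hfs P
  have hScard : Nat.card (S : Subgroup (G ⧸ H)) = p := by
    rw [hS]
    have h3 : Nat.card ((P : Subgroup G).map f) ∣ Nat.card (P : Subgroup G) :=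
      Subgroup.card_dvd_of_surjective (f.subgroupMap (P : Subgroup G)) (f.subgroupMap_surjective _)
    rw [hcard] at h3
    rcases (Nat.dvd_prime hpp).1 h3 with h4 | h4
    · exfalso
      have h5 : (P : Subgroup G).map f = ⊥ := Subgroup.card_eq_one.1 h4
      have h6 : (P : Subgroup G) ≤ H := by
        rw [Subgroup.map_eq_bot_iff] at h5
        simpa [hf] using h5
      apply hHp
      rw [← hcard]
      exact Subgroup.card_dvd_of_le h6
    · exact h4
  have hO : ∀ Q : Subgroup (G ⧸ H), Q.Normal → ¬ p ∣ Nat.card Q → Q = ⊥ := by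
    intro Q hQ hQp
    have h3 : Q ≤ pPrimeCore p (G ⧸ H) :=
      Cfsg.Agent.Lib.PCore.le_pPrimeCore hQ ((Nat.Prime.coprime_iff_not_dvd hpp).2 hQp).symm
    rw [Cfsg.Agent.Lib.PCore.pPrimeCore_quotient_pPrimeCore] at h3
    exact le_bot_iff.1 h3
  have hHpos : 1 ≤ Nat.card H := Nat.card_pos
  have hQle : Nat.card (G ⧸ H) ≤ Nat.card G := by
    rw [hGmul]
    exact Nat.le_mul_of_pos_right _ hHpos
  have hmain := sect_main hperf' S hScard hO (lt_of_le_of_lt hQle hbig)
  -- the order of `H`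
  have hH2 : Nat.card H ≠ 2 := h2 H inferInstance
  have hH3 : Nat.card H < 3 := by
    by_contra hcon
    push Not at hcon
    have hlow : 3 * Nat.card (G ⧸ H) ≤ Nat.card G := by
      rw [hGmul, mul_comm]
      exact Nat.mul_le_mul_left _ hcon
    rcases hmain with ⟨F, _, _, hF, hp3, ⟨e⟩⟩ | ⟨m, F, _, _, hF, hpm, hp3, ⟨e⟩⟩
    · have h3 := Cfsg.Agent.Lib.ClassicalSmall.card_PSL2 (F := F)
      rw [← Nat.card_congr e.toEquiv, hF] at h3
      have h4 : Nat.gcd 2 (p - 1) ≤ 2 := Nat.le_of_dvd (by norm_num) (Nat.gcd_dvd_left _ _)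
      obtain ⟨q, rfl⟩ : ∃ q, p = q + 1 := ⟨p - 1, by omega⟩
      simp only [Nat.add_sub_cancel] at h3 h4
      have h5 : (q + 1 + 1) * (q + 1) * q ≤ 2 * Nat.card (G ⧸ H) := by
        rw [← h3]
        exact Nat.mul_le_mul_right _ h4
      have h7 : q ≥ 3 := by omega
      have h8 : 2 * (q + 1) ^ 2 ≤ 3 * ((q + 1 + 1) * q) := by nlinarith
      have h6 : 2 * (q + 1) ^ 3 ≤ 3 * ((q + 1 + 1) * (q + 1) * q) := by
        calc 2 * (q + 1) ^ 3 = (2 * (q + 1) ^ 2) * (q + 1) := by ring
          _ ≤ (3 * ((q + 1 + 1) * q)) * (q + 1) := Nat.mul_le_mul_right _ h8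
          _ = _ := by ring
      omega
    · have h3 := Cfsg.Agent.Lib.ClassicalSmall.card_PSL2 (F := F)
      rw [← Nat.card_congr e.toEquiv, hF] at h3
      have hm0 : m ≠ 0 := by
        rintro rfl
        simp at hpm
        omega
      have h4 : Nat.gcd 2 (2 ^ m - 1) = 1 := by
        have h5 : Nat.Coprime 2 (2 ^ m - 1) := by
          rw [Nat.coprime_two_left]
          have h6 : Even (2 ^ m) := (Nat.even_pow' hm0).2 even_two
          exact Nat.Even.sub_odd (Nat.one_le_two_pow) h6 odd_one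
        exact h5
      rw [h4, one_mul] at h3
      have h5 : 2 ^ m = p - 1 := by omega
      rw [h5] at h3
      obtain ⟨q, rfl⟩ : ∃ q, p = q + 1 := ⟨p - 1, by omega⟩
      simp only [Nat.add_sub_cancel] at h3 h5
      obtain ⟨s, rfl⟩ : ∃ s, q = s + 1 := ⟨q - 1, by omega⟩
      simp only [Nat.add_sub_cancel] at h3
      have h7 : s ≥ 2 := by omega
      have h6 : (s + 1 + 1) ^ 3 ≤ 3 * ((s + 1 + 1) * (s + 1) * s) := by nlinarith
      omega
  have hH1 : Nat.card H = 1 := by omega
  have hHbot : H = ⊥ := Subgroup.card_eq_one.1 hH1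
  let e₀ : G ≃* G ⧸ H := (QuotientGroup.quotientBot (G := G)).symm.trans (QuotientGroup.quotientMulEquivOfEq hHbot.symm)
  rcases hmain with ⟨F, i1, i2, hF, hp3, ⟨e⟩⟩ | ⟨m, F, i1, i2, hF, hpm, hp3, ⟨e⟩⟩
  · exact Or.inl ⟨F, i1, i2, hF, hp3, ⟨e₀.trans e⟩⟩
  · exact Or.inr ⟨m, F, i1, i2, hF, hpm, hp3, ⟨e₀.trans e⟩⟩

end Cfsg.Agent.Lib.RigR
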