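import Mathlib

/-!
# Linear algebra over `F₂` on 56 bit words

`sg u v` is the inner product of two words; `affine` expresses a word through a pair of dual systematic bases.
`dfsA`, `dfsB` are the searches through the words of a code, in a form the kernel evaluates quickly.
-/

set_option autoImplicit false
set_option maxRecDepth 100000
set_option linter.unusedSectionVars false
set_option linter.unusedVariables false

namespace Cfsg.Agent.Lib.RuBr

/-- a bit as an element of `ZMod 2` -/
def bt (u a : ℕ) : ZMod 2 := if u.testBit a then 1 else 0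

/-- the inner product modulo 2 of two words of 56 bits -/
def sg (u v : ℕ) : ZMod 2 := ∑ a ∈ Finset.range 56, bt u a * bt v a

theorem bt_xor (u v a : ℕ) : bt (u ^^^ v) a = bt u a + bt v a := by
  unfold bt
  rw [Nat.testBit_xor]
  cases u.testBit a <;> cases v.testBit a <;> decide

theorem bt_zero (a : ℕ) : bt 0 a = 0 := by
  simp [bt]

theorem bt_eq_zero_iff (u a : ℕ) : bt u a = 0 ↔ u.testBit a = false := by
  unfold bt
  cases u.testBit a <;> simp

theorem sg_xor_left (u v k : ℕ) : sg (u ^^^ v) k = sg u k + sg v k := by
  unfold sg
  rw [← Finset.sum_add_distrib]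
  refine Finset.sum_congr rfl fun a _ => ?_
  rw [bt_xor, add_mul]

theorem sg_zero_left (k : ℕ) : sg 0 k = 0 := by
  simp [sg, bt_zero]

theorem sg_comm (u v : ℕ) : sg u v = sg v u := by
  unfold sg
  refine Finset.sum_congr rfl fun a _ => ?_
  rw [mul_comm]

/-- a quick form of `sg`, by bits -/
def sgB (u v : ℕ) : Bool :=
  (List.range 56).foldr (fun a acc => xor (u.testBit a && v.testBit a) acc) false

theorem sgB_aux (x y c : Bool) : ((if x then (1 : ZMod 2) else 0) * (if y then 1 else 0)) + (if c then 1 else 0) =
    if ((x && y) ^^ c) then 1 else 0 := by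
  revert x y c
  decide

theorem sgB_spec (u v : ℕ) : sg u v = if sgB u v then 1 else 0 := by
  have key : ∀ l : List ℕ, ((l.map fun a => bt u a * bt v a).sum : ZMod 2) =
      if l.foldr (fun a acc => xor (u.testBit a && v.testBit a) acc) false then 1 else 0 := by
    intro l
    induction l with
    | nil => simp
    | cons a l ih =>
      simp only [List.map_cons, List.sum_cons, List.foldr_cons, ih]
      exact sgB_aux _ _ _
  unfold sg sgB
  rw [← key, ← List.sum_toFinset _ List.nodup_range, List.toFinset_range]

/-- the xor of the masks of the entries selected by the bits of `u` -/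
def sel : List (ℕ × ℕ) → ℕ → ℕ
  | [], _ => 0
  | e :: A, u => if u.testBit e.1 then e.2 ^^^ sel A u else sel A u

/-- the xor of the powers of two of the entries selected by `c` -/
def nst (c : ℕ × ℕ → Bool) : List (ℕ × ℕ) → ℕ
  | [] => 0
  | e :: A => if c e then 2 ^ e.1 ^^^ nst c A else nst c A

theorem sel_lt (A : List (ℕ × ℕ)) (u : ℕ) (h : ∀ e ∈ A, e.2 < 2 ^ 56) : sel A u < 2 ^ 56 := by
  induction A with
  | nil => simp [sel]
  | cons e A ih =>
    have h1 := ih fun f hf => h f (List.mem_cons_of_mem _ hf)
    simp only [sel]
    split_ifs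
    · exact Nat.xor_lt_two_pow (h e List.mem_cons_self) h1
    · exact h1

theorem nst_lt (c : ℕ × ℕ → Bool) (A : List (ℕ × ℕ)) (h : ∀ e ∈ A, e.1 < 56) : nst c A < 2 ^ 56 := by
  induction A with
  | nil => simp [nst]
  | cons e A ih =>
    have h1 := ih fun f hf => h f (List.mem_cons_of_mem _ hf)
    simp only [nst]
    split_ifs
    · exact Nat.xor_lt_two_pow (Nat.pow_lt_pow_right (by norm_num) (h e List.mem_cons_self)) h1
    · exact h1

/-- bit of `sel` at a position where the masks are systematic -/
theorem bt_sel_at (A : List (ℕ × ℕ)) (u a : ℕ)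
    (hs : ∀ f ∈ A, f.2.testBit a = decide (a = f.1)) (hn : (A.map Prod.fst).Nodup)
    (ha : ∃ e ∈ A, e.1 = a) : bt (sel A u) a = bt u a := by
  induction A with
  | nil => obtain ⟨e, he, _⟩ := ha; simp at he
  | cons e A ih =>
    simp only [List.map_cons, List.nodup_cons, List.mem_map, not_exists, not_and] at hn
    have hs' : ∀ f ∈ A, f.2.testBit a = decide (a = f.1) := fun f hf => hs f (List.mem_cons_of_mem _ hf)
    by_cases hea : e.1 = a
    · -- the entry is the head
      subst hea
      have h0 : ∀ f ∈ A, f.1 ≠ e.1 := fun f hf hfe => hn.1 f hf hfe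
      have h1 : bt (sel A u) e.1 = 0 := by
        have : ∀ B : List (ℕ × ℕ), (∀ f ∈ B, f.2.testBit e.1 = false) → bt (sel B u) e.1 = 0 := by
          intro B hB
          induction B with
          | nil => simp [sel, bt_zero]
          | cons g B ihB =>
            simp only [sel]
            have h2 := ihB fun f hf => hB f (List.mem_cons_of_mem _ hf)
            split_ifs
            · rw [bt_xor, h2, (bt_eq_zero_iff _ _).2 (hB g List.mem_cons_self), zero_add]
            · exact h2
        apply this
        intro f hf
        rw [hs' f hf]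
        simpa using (h0 f hf).symm
      have h3 : e.2.testBit e.1 = true := by
        have := hs e List.mem_cons_self
        simpa using this
      simp only [sel]
      split_ifs with hb
      · rw [bt_xor, h1, add_zero]
        simp [bt, hb, h3]
      · rw [h1]
        simp [bt, hb]
    · obtain ⟨f, hf, hfa⟩ := ha
      have hfA : f ∈ A := by
        rcases List.mem_cons.1 hf with rfl | h
        · exact absurd hfa hea
        · exact h
      have h1 := ih hs' hn.2 ⟨f, hfA, hfa⟩
      have h2 : e.2.testBit a = false := by
        rw [hs e List.mem_cons_self]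
        simpa using fun h => hea h.symm
      simp only [sel]
      split_ifs
      · rw [bt_xor, h1, (bt_eq_zero_iff _ _).2 h2, zero_add]
      · exact h1

/-- bit of `nst` off the positions -/
theorem bt_nst_off (c : ℕ × ℕ → Bool) (A : List (ℕ × ℕ)) (a : ℕ) (h : ∀ e ∈ A, e.1 ≠ a) : bt (nst c A) a = 0 := by
  induction A with
  | nil => simp [nst, bt_zero]
  | cons e A ih =>
    have h1 := ih fun f hf => h f (List.mem_cons_of_mem _ hf)
    have h2 : bt (2 ^ e.1) a = 0 := by
      rw [bt_eq_zero_iff, Nat.testBit_two_pow]
      simpa using h e List.mem_cons_self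
    simp only [nst]
    split_ifs
    · rw [bt_xor, h1, h2, zero_add]
    · exact h1

/-- bit of `nst` at a position -/
theorem bt_nst_at (c : ℕ × ℕ → Bool) (A : List (ℕ × ℕ)) (e : ℕ × ℕ) (he : e ∈ A) (hn : (A.map Prod.fst).Nodup) :
    bt (nst c A) e.1 = if c e then 1 else 0 := by
  induction A with
  | nil => simp at he
  | cons g A ih =>
    simp only [List.map_cons, List.nodup_cons, List.mem_map, not_exists, not_and] at hn
    rcases List.mem_cons.1 he with rfl | hA
    · have h1 : bt (nst c A) e.1 = 0 := bt_nst_off c A e.1 fun f hf hfe => hn.1 f hf hfe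
      simp only [nst]
      by_cases hc : c e = true
      · rw [if_pos hc, if_pos hc, bt_xor, h1, add_zero]
        simp [bt]
      · rw [if_neg hc, if_neg hc]
        exact h1
    · have h1 := ih hA hn.2
      have h2 : bt (2 ^ g.1) e.1 = 0 := by
        rw [bt_eq_zero_iff, Nat.testBit_two_pow]
        have : g.1 ≠ e.1 := fun h3 => hn.1 e hA h3.symm
        simpa using this
      simp only [nst]
      by_cases hcg : c g = true
      · rw [if_pos hcg, bt_xor, h1, h2, zero_add]
      · rw [if_neg hcg]
        exact h1

theorem sg_sel (A : List (ℕ × ℕ)) (u k : ℕ) (h : ∀ e ∈ A, sg e.2 k = 0) : sg (sel A u) k = 0 := by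
  induction A with
  | nil => simp [sel, sg_zero_left]
  | cons e A ih =>
    have h1 := ih fun f hf => h f (List.mem_cons_of_mem _ hf)
    simp only [sel]
    split_ifs
    · rw [sg_xor_left, h1, h e List.mem_cons_self, zero_add]
    · exact h1

/-- A pair of dual systematic bases. -/
structure Sys (P M : List (ℕ × ℕ)) : Prop where
  /-- the masks of `P` are systematic on the positions of `P` -/
  rP : ∀ e ∈ P, ∀ f ∈ P, f.2.testBit e.1 = decide (e.1 = f.1)
  /-- the masks of `M` are systematic on the positions of `M` -/
  rM : ∀ e ∈ M, ∀ f ∈ M, f.2.testBit e.1 = decide (e.1 = f.1)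
  /-- the positions are all positions -/
  all : ∀ a < 56, (∃ e ∈ P, e.1 = a) ∨ (∃ e ∈ M, e.1 = a)
  /-- the bases are orthogonal -/
  orth : ∀ e ∈ P, ∀ f ∈ M, sg e.2 f.2 = 0
  ndP : (P.map Prod.fst).Nodup
  ndM : (M.map Prod.fst).Nodup
  disj : ∀ e ∈ P, ∀ f ∈ M, e.1 ≠ f.1
  ltP : ∀ e ∈ P, e.1 < 56 ∧ e.2 < 2 ^ 56
  ltM : ∀ e ∈ M, e.1 < 56 ∧ e.2 < 2 ^ 56

theorem Sys.symm {P M : List (ℕ × ℕ)} (h : Sys P M) : Sys M P where
  rP := h.rM
  rM := h.rP
  all := fun a ha => (h.all a ha).symm
  orth := fun e he f hf => by rw [sg_comm]; exact h.orth f hf e he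
  ndP := h.ndM
  ndM := h.ndP
  disj := fun e he f hf hef => h.disj f hf e he hef.symm
  ltP := h.ltM
  ltM := h.ltP

/-- A word with a prescribed inner product with the masks of `P` is given by the `nst` part and its bits on the
positions of `M`. -/
theorem Sys.affine {P M : List (ℕ × ℕ)} (h : Sys P M) (z : ℕ) (hz : z < 2 ^ 56) (c : ℕ × ℕ → Bool)
    (hc : ∀ e ∈ P, sg z e.2 = if c e then 1 else 0) : z = nst c P ^^^ sel M z := by
  set s := sel M z with hs
  set r := z ^^^ s with hr
  have hsr : ∀ a, ∀ e ∈ M, e.1 = a → bt r a = 0 := by
    intro a e he hea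
    have h1 : bt s a = bt z a := bt_sel_at M z a (fun f hf => by
      subst hea
      exact h.rM e he f hf) h.ndM ⟨e, he, hea⟩
    rw [hr, bt_xor, h1]
    exact CharTwo.add_self_eq_zero _
  have hk : ∀ e ∈ P, bt r e.1 = if c e then 1 else 0 := by
    intro e he
    have h1 : sg r e.2 = if c e then 1 else 0 := by
      rw [hr, sg_xor_left, hc e he, sg_sel M z e.2 (fun f hf => by rw [sg_comm]; exact h.orth e he f hf), add_zero]
    rw [← h1]
    unfold sg
    rw [Finset.sum_eq_single e.1]
    · have h2 : bt e.2 e.1 = 1 := by
        have := h.rP e he e he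
        simp [bt, this]
      rw [h2, mul_one]
    · intro a ha hae
      rcases h.all a (Finset.mem_range.1 ha) with ⟨f, hf, hfa⟩ | ⟨f, hf, hfa⟩
      · have h3 : bt e.2 a = 0 := by
          rw [bt_eq_zero_iff]
          have := h.rP f hf e he
          rw [hfa] at this
          rw [this]
          simpa using hae
        rw [h3, mul_zero]
      · rw [hsr a f hf hfa, zero_mul]
    · intro h3
      exact absurd (Finset.mem_range.2 (h.ltP e he).1) h3
  have hrn : r = nst c P := by
    have hlt : r < 2 ^ 56 := Nat.xor_lt_two_pow hz (sel_lt M z fun e he => (h.ltM e he).2)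
    have hlt2 : nst c P < 2 ^ 56 := nst_lt c P fun e he => (h.ltP e he).1
    apply Nat.eq_of_testBit_eq
    intro a
    by_cases ha : a < 56
    · have e1 : bt r a = bt (nst c P) a := by
        rcases h.all a ha with ⟨f, hf, hfa⟩ | ⟨f, hf, hfa⟩
        · subst hfa
          rw [hk f hf, bt_nst_at c P f hf h.ndP]
        · rw [hsr a f hf hfa, bt_nst_off]
          intro e he hea
          exact h.disj e he f hf (hea.trans hfa.symm)
      unfold bt at e1
      cases h1 : r.testBit a <;> cases h2 : (nst c P).testBit a <;> simp [h1, h2] at e1 ⊢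
    · have h3 : 2 ^ 56 ≤ 2 ^ a := Nat.pow_le_pow_right (by norm_num) (by omega)
      rw [Nat.testBit_lt_two_pow (lt_of_lt_of_le hlt h3), Nat.testBit_lt_two_pow (lt_of_lt_of_le hlt2 h3)]
  rw [← hrn, hr]
  simp

/-! ### Searches -/

/-- the leaves of a full search -/
@[reducible] noncomputable def dfsA (Q : ℕ → Bool) (A : List (ℕ × ℕ)) : ℕ → Bool :=
  List.rec (motive := fun _ => ℕ → Bool) (fun acc => Q acc)
    (fun e _ ih acc => Bool.rec false (ih (Nat.xor acc e.2)) (ih acc)) A

theorem dfsA_cons (Q : ℕ → Bool) (e : ℕ × ℕ) (A : List (ℕ × ℕ)) (acc : ℕ) :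
    dfsA Q (e :: A) acc = (dfsA Q A acc && dfsA Q A (acc ^^^ e.2)) := by
  show @Bool.rec (fun _ => Bool) false (dfsA Q A (Nat.xor acc e.2)) (dfsA Q A acc) = _
  cases dfsA Q A acc <;> rfl

theorem dfsA_spec (Q : ℕ → Bool) (A : List (ℕ × ℕ)) (acc u : ℕ) (h : dfsA Q A acc = true) :
    Q (acc ^^^ sel A u) = true := by
  induction A generalizing acc with
  | nil => simpa [sel, dfsA] using h
  | cons e A ih =>
    rw [dfsA_cons, Bool.and_eq_true] at h
    simp only [sel]
    split_ifs
    · rw [← Nat.xor_assoc]
      exact ih _ h.2
    · exact ih _ h.1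

/-- the search with a budget for the positions outside `w` -/
@[reducible] noncomputable def dfsB (w : ℕ) (Q : ℕ → Bool) (A : List (ℕ × ℕ)) : ℕ → ℕ → Bool :=
  List.rec (motive := fun _ => ℕ → ℕ → Bool) (fun acc _ => Q acc)
    (fun e _ ih acc b => Bool.rec false
      (Bool.rec (Nat.rec true (fun b' _ => ih (Nat.xor acc e.2) b') b) (ih (Nat.xor acc e.2) b) (w.testBit e.1))
      (ih acc b)) A

theorem dfsB_cons (w : ℕ) (Q : ℕ → Bool) (e : ℕ × ℕ) (A : List (ℕ × ℕ)) (acc b : ℕ) :
    dfsB w Q (e :: A) acc b = (dfsB w Q A acc b &&
      (if w.testBit e.1 then dfsB w Q A (acc ^^^ e.2) b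
        else match b with
          | 0 => true
          | b' + 1 => dfsB w Q A (acc ^^^ e.2) b')) := by
  show @Bool.rec (fun _ => Bool) false
      (@Bool.rec (fun _ => Bool) (@Nat.rec (fun _ => Bool) true (fun b' _ => dfsB w Q A (Nat.xor acc e.2) b') b)
        (dfsB w Q A (Nat.xor acc e.2) b) (w.testBit e.1))
      (dfsB w Q A acc b) = _
  cases dfsB w Q A acc b with
  | false => rfl
  | true =>
    cases h : w.testBit e.1 with
    | true => simp
    | false =>
      cases b with
      | zero => simp
      | succ b => simp

/-- the number of selected positions outside `w` -/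
def outN (w u : ℕ) : List (ℕ × ℕ) → ℕ
  | [] => 0
  | e :: A => (if u.testBit e.1 ∧ w.testBit e.1 = false then 1 else 0) + outN w u A

theorem dfsB_spec (w : ℕ) (Q : ℕ → Bool) (A : List (ℕ × ℕ)) (acc b u : ℕ) (h : dfsB w Q A acc b = true)
    (hb : outN w u A ≤ b) : Q (acc ^^^ sel A u) = true := by
  induction A generalizing acc b with
  | nil => simpa [sel, dfsB] using h
  | cons e A ih =>
    rw [dfsB_cons, Bool.and_eq_true] at h
    simp only [outN] at hb
    simp only [sel]
    by_cases hu : u.testBit e.1 = true
    · rw [if_pos hu, ← Nat.xor_assoc]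
      by_cases hw : w.testBit e.1 = true
      · rw [if_pos hw] at h
        refine ih _ b h.2 ?_
        simp [hu, hw] at hb
        exact hb
      · rw [if_neg hw] at h
        have hw' : w.testBit e.1 = false := by simpa using hw
        simp [hu, hw'] at hb
        cases b with
        | zero => omega
        | succ b =>
          refine ih _ b h.2 ?_
          omega
    · rw [if_neg hu]
      refine ih _ b h.1 ?_
      simp [hu] at hb
      exact hb

/-- the count of selected positions as a count of bits -/
def cnt (k u : ℕ) : ℕ := ∑ a ∈ Finset.range k, (u.testBit a).toNat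

theorem outN_le (w u : ℕ) (A : List (ℕ × ℕ)) (hn : (A.map Prod.fst).Nodup) (hl : ∀ e ∈ A, e.1 < 56) :
    outN w u A ≤ cnt 56 (u ^^^ (u &&& w)) := by
  have key : ∀ B : List (ℕ × ℕ), (B.map Prod.fst).Nodup → (∀ e ∈ B, e.1 < 56) →
      outN w u B ≤ ∑ a ∈ (B.map Prod.fst).toFinset, ((u ^^^ (u &&& w)).testBit a).toNat := by
    intro B
    induction B with
    | nil => simp [outN]
    | cons e B ih =>
      intro hn hl
      simp only [List.map_cons, List.nodup_cons] at hn
      have h1 := ih hn.2 fun f hf => hl f (List.mem_cons_of_mem _ hf)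
      simp only [List.map_cons, List.toFinset_cons]
      rw [Finset.sum_insert (by simpa using hn.1)]
      simp only [outN]
      refine Nat.add_le_add ?_ h1
      rw [Nat.testBit_xor, Nat.testBit_and]
      cases h2 : u.testBit e.1 <;> cases h3 : w.testBit e.1 <;> simp
  refine (key A hn hl).trans ?_
  refine Finset.sum_le_sum_of_subset ?_
  intro a ha
  simp only [List.mem_toFinset, List.mem_map] at ha
  obtain ⟨e, he, rfl⟩ := ha
  exact Finset.mem_range.2 (hl e he)

/-! ### Counting bits -/

/-- the numbers of bits of the numbers below `2 ^ 14` -/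
def tb14 : ℕ := (List.range 16384).foldr (fun i acc => acc * 16 + cnt 14 i) 0

theorem cnt_add (k l u : ℕ) : cnt (k + l) u = cnt k u + cnt l (u >>> k) := by
  unfold cnt
  rw [Finset.sum_range_add]
  congr 1
  refine Finset.sum_congr rfl fun a _ => ?_
  rw [Nat.testBit_shiftRight]

theorem cnt_mod (k u : ℕ) : cnt k (u % 2 ^ k) = cnt k u := by
  unfold cnt
  refine Finset.sum_congr rfl fun a ha => ?_
  rw [Nat.testBit_mod_two_pow]
  simp [Finset.mem_range.1 ha]

/-! ### Affine spans and elimination -/

/-- `y` lies in the coset `x + span B` -/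
def InS : ℕ → List ℕ → ℕ → Prop
  | x, [], y => y = x
  | x, b :: B, y => InS x B y ∨ InS (x ^^^ b) B y

/-- the search through a coset -/
@[reducible] noncomputable def dfsS (Q : ℕ → Bool) (B : List ℕ) : ℕ → Bool :=
  List.rec (motive := fun _ => ℕ → Bool) (fun acc => Q acc)
    (fun b _ ih acc => Bool.rec false (ih (Nat.xor acc b)) (ih acc)) B

theorem dfsS_cons (Q : ℕ → Bool) (b : ℕ) (B : List ℕ) (acc : ℕ) :
    dfsS Q (b :: B) acc = (dfsS Q B acc && dfsS Q B (acc ^^^ b)) := by
  show @Bool.rec (fun _ => Bool) false (dfsS Q B (Nat.xor acc b)) (dfsS Q B acc) = _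
  cases dfsS Q B acc <;> rfl

theorem dfsS_spec (Q : ℕ → Bool) (B : List ℕ) (x y : ℕ) (h : dfsS Q B x = true) (hy : InS x B y) : Q y = true := by
  induction B generalizing x with
  | nil =>
    have : y = x := hy
    subst this
    exact h
  | cons b B ih =>
    rw [dfsS_cons, Bool.and_eq_true] at h
    rcases hy with hy | hy
    · exact ih x h.1 hy
    · exact ih _ h.2 hy

/-- replacing a basis vector -/
def fixB (p b c : ℕ) : ℕ := if c.testBit p then c ^^^ b else c

/-- one step of elimination: all elements of the coset with the bit `p` equal to zero -/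
def elimB (p : ℕ) : ℕ → List ℕ → Option (ℕ × List ℕ)
  | x, [] => if x.testBit p then none else some (x, [])
  | x, b :: B =>
    if b.testBit p then
      some (if x.testBit p then x ^^^ b else x, B.map (fixB p b))
    else
      match elimB p x B with
      | none => none
      | some r => some (r.1, b :: r.2)

/-- elimination at many positions -/
def elims : List ℕ → ℕ → List ℕ → Option (ℕ × List ℕ)
  | [], x, B => some (x, B)
  | p :: ps, x, B =>
    match elimB p x B with
    | none => none
    | some r => elims ps r.1 r.2

theorem InS_bit (p : ℕ) (x y : ℕ) (B : List ℕ) (hB : ∀ c ∈ B, c.testBit p = false) (h : InS x B y) :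
    y.testBit p = x.testBit p := by
  induction B generalizing x with
  | nil =>
    have : y = x := h
    rw [this]
  | cons b B ih =>
    have hB' : ∀ c ∈ B, c.testBit p = false := fun c hc => hB c (List.mem_cons_of_mem _ hc)
    rcases h with h | h
    · exact ih x hB' h
    · rw [ih _ hB' h, Nat.testBit_xor, hB b List.mem_cons_self]
      simp

theorem InS_map_aux (p b : ℕ) (B : List ℕ) (x y : ℕ) (h : InS x B y) :
    InS x (B.map (fixB p b)) y ∨ InS (x ^^^ b) (B.map (fixB p b)) y := by
  induction B generalizing x with
  | nil =>
    left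
    exact h
  | cons c B ih =>
    simp only [List.map_cons]
    show (InS x (B.map (fixB p b)) y ∨ InS (x ^^^ fixB p b c) (B.map (fixB p b)) y) ∨
      (InS (x ^^^ b) (B.map (fixB p b)) y ∨ InS (x ^^^ b ^^^ fixB p b c) (B.map (fixB p b)) y)
    rcases h with h | h
    · rcases ih x h with h1 | h1
      · exact Or.inl (Or.inl h1)
      · exact Or.inr (Or.inl h1)
    · unfold fixB
      rcases ih _ h with h1 | h1
      · by_cases hc : c.testBit p = true
        · rw [if_pos hc]
          right; right
          have e : x ^^^ b ^^^ (c ^^^ b) = x ^^^ c := by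
            rw [Nat.xor_comm c b, ← Nat.xor_assoc, Nat.xor_assoc x b b]
            simp
          rw [e]
          exact h1
        · rw [if_neg hc]
          left; right
          exact h1
      · by_cases hc : c.testBit p = true
        · rw [if_pos hc]
          left; right
          have e : x ^^^ (c ^^^ b) = x ^^^ c ^^^ b := by rw [Nat.xor_assoc]
          rw [e]
          exact h1
        · rw [if_neg hc]
          right; right
          have e : x ^^^ b ^^^ c = x ^^^ c ^^^ b := by
            rw [Nat.xor_assoc, Nat.xor_comm b c, ← Nat.xor_assoc]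
          rw [e]
          exact h1

theorem fixB_bit (p b c : ℕ) (hb : b.testBit p = true) : (fixB p b c).testBit p = false := by
  unfold fixB
  by_cases hc : c.testBit p = true
  · rw [if_pos hc, Nat.testBit_xor, hc, hb]
    rfl
  · rw [if_neg hc]
    simpa using hc

theorem elimB_spec (p : ℕ) (x y : ℕ) (B : List ℕ) (h : InS x B y) (hy : y.testBit p = false) :
    ∃ r, elimB p x B = some r ∧ InS r.1 r.2 y := by
  induction B generalizing x with
  | nil =>
    have e : y = x := h
    subst e
    exact ⟨(y, []), by simp [elimB, hy], rfl⟩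
  | cons b B ih =>
    by_cases hb : b.testBit p = true
    · simp only [elimB, if_pos hb]
      refine ⟨_, rfl, ?_⟩
      have hm : ∀ c ∈ B.map (fixB p b), c.testBit p = false := by
        intro c hc
        obtain ⟨d, _, rfl⟩ := List.mem_map.1 hc
        exact fixB_bit p b d hb
      -- the element is in the coset of x or of x + b
      have h2 : InS x (B.map (fixB p b)) y ∨ InS (x ^^^ b) (B.map (fixB p b)) y := by
        rcases h with h | h
        · exact InS_map_aux p b B x y h
        · rcases InS_map_aux p b B _ y h with h1 | h1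
          · exact Or.inr h1
          · left
            have e : x ^^^ b ^^^ b = x := by
              rw [Nat.xor_assoc]
              simp
            rwa [e] at h1
      by_cases hx : x.testBit p = true
      · rw [if_pos hx]
        rcases h2 with h2 | h2
        · have := InS_bit p x y _ hm h2
          rw [hy, hx] at this
          exact absurd this (by simp)
        · exact h2
      · rw [if_neg hx]
        rcases h2 with h2 | h2
        · exact h2
        · have := InS_bit p _ y _ hm h2
          rw [hy, Nat.testBit_xor, hb] at this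
          simp at hx
          simp [hx] at this
    · have hb' : b.testBit p = false := by simpa using hb
      simp only [elimB, hb', Bool.false_eq_true, if_false]
      rcases h with h | h
      · obtain ⟨r, h1, h2⟩ := ih x h
        rw [h1]
        exact ⟨(r.1, b :: r.2), rfl, Or.inl h2⟩
      · -- the coset through x + b
        obtain ⟨r, h1, h2⟩ := ih _ h
        -- elimination is linear in the base point
        have key : ∀ (B : List ℕ) (x : ℕ), ∀ r, elimB p (x ^^^ b) B = some r →
            ∃ r', elimB p x B = some r' ∧ r.2 = r'.2 ∧ r.1 = r'.1 ^^^ b := by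
          intro B
          induction B with
          | nil =>
            intro x r hr
            simp only [elimB, Nat.testBit_xor, hb', Bool.bne_false] at hr
            by_cases hx : x.testBit p = true
            · simp [hx] at hr
            · simp only [hx, Bool.false_eq_true, if_false, Option.some.injEq] at hr
              subst hr
              exact ⟨(x, []), by simp [elimB, hx], rfl, rfl⟩
          | cons c C ihC =>
            intro x r hr
            by_cases hc : c.testBit p = true
            · simp only [elimB, if_pos hc, Option.some.injEq] at hr ⊢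
              refine ⟨_, rfl, ?_, ?_⟩
              · rw [← hr]
              · rw [← hr]
                simp only [Nat.testBit_xor, hb', Bool.bne_false]
                split_ifs
                · rw [Nat.xor_assoc, Nat.xor_comm b c, ← Nat.xor_assoc]
                · rfl
            · have hc' : c.testBit p = false := by simpa using hc
              simp only [elimB, hc', Bool.false_eq_true, if_false] at hr ⊢
              cases h3 : elimB p (x ^^^ b) C with
              | none =>
                rw [h3] at hr
                exact absurd hr (by simp)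
              | some s =>
                rw [h3] at hr
                simp only [Option.some.injEq] at hr
                obtain ⟨s', h4, h5, h6⟩ := ihC x s h3
                rw [h4]
                refine ⟨(s'.1, c :: s'.2), rfl, ?_, ?_⟩
                · rw [← hr]
                  simp [h5]
                · rw [← hr]
                  exact h6
        obtain ⟨r', h3, h4, h5⟩ := key B x r h1
        rw [h3]
        refine ⟨(r'.1, b :: r'.2), rfl, Or.inr ?_⟩
        show InS (r'.1 ^^^ b) r'.2 y
        rw [← h5, ← h4]
        exact h2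

theorem elims_spec (ps : List ℕ) (x y : ℕ) (B : List ℕ) (h : InS x B y) (hy : ∀ p ∈ ps, y.testBit p = false) :
    ∃ r, elims ps x B = some r ∧ InS r.1 r.2 y := by
  induction ps generalizing x B with
  | nil => exact ⟨(x, B), rfl, h⟩
  | cons p ps ih =>
    obtain ⟨r, h1, h2⟩ := elimB_spec p x y B h (hy p List.mem_cons_self)
    simp only [elims, h1]
    exact ih r.1 r.2 h2 fun q hq => hy q (List.mem_cons_of_mem _ hq)

/-- A word with selected entries lies in a coset. -/
theorem InS_of_sel (A : List (ℕ × ℕ)) (x u : ℕ) : InS x (A.map Prod.snd) (x ^^^ sel A u) := by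
  induction A generalizing x with
  | nil => simp [InS, sel]
  | cons e A ih =>
    simp only [List.map_cons, sel]
    show InS x (A.map Prod.snd) _ ∨ InS (x ^^^ e.2) (A.map Prod.snd) _
    by_cases hu : u.testBit e.1 = true
    · right
      rw [if_pos hu, ← Nat.xor_assoc]
      exact ih _
    · left
      rw [if_neg hu]
      exact ih _

/-- Selected entries outside a word do not matter. -/
theorem InS_of_sel_filter (A : List (ℕ × ℕ)) (w x u : ℕ) (h : ∀ e ∈ A, u.testBit e.1 = true → w.testBit e.1 = true) :
    InS x ((A.filter fun e => w.testBit e.1).map Prod.snd) (x ^^^ sel A u) := by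
  induction A generalizing x with
  | nil => simp [InS, sel]
  | cons e A ih =>
    have h' : ∀ f ∈ A, u.testBit f.1 = true → w.testBit f.1 = true := fun f hf => h f (List.mem_cons_of_mem _ hf)
    by_cases hw : w.testBit e.1 = true
    · rw [List.filter_cons_of_pos (p := fun e : ℕ × ℕ => w.testBit e.1) hw]
      simp only [List.map_cons, sel]
      show InS x _ _ ∨ InS (x ^^^ e.2) _ _
      by_cases hu : u.testBit e.1 = true
      · right
        rw [if_pos hu, ← Nat.xor_assoc]
        exact ih _ h'
      · left
        rw [if_neg hu]
        exact ih _ h'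
    · rw [List.filter_cons_of_neg (p := fun e : ℕ × ℕ => w.testBit e.1) hw]
      have hu : ¬ u.testBit e.1 = true := fun hu => hw (h e List.mem_cons_self hu)
      simp only [sel]
      rw [if_neg hu]
      exact ih _ h'

end Cfsg.Agent.Lib.RuBr
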