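import Cfsg.Agent.Lib.RuLatMin
import Cfsg.Agent.Lib.RuBrBits

/-!
# Real coordinates on the Rudvalis lattice

`cc x a` for `a < 56` are the real coordinates (real parts first) of a vector. `ev` evaluates them at `2 ^ 16`.
The words `wW x`, `wZ x` are the bits of the coordinates modulo 4. Every vector of the span `LL` has even
inner products with test vectors, which gives linear conditions on the words.
-/

set_option autoImplicit false
set_option maxRecDepth 100000
set_option linter.unusedSectionVars false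
set_option linter.unusedVariables false

namespace Cfsg.Agent.Lib.RuBr

open Cfsg.Spor Cfsg.Agent.RuLat Finset

/-- the real coordinates -/
def cc (x : RuVec) (a : ℕ) : ℤ := (toL x).getD a 0

theorem cc_idx (x : RuVec) (p : RuIdx) : cc x (idx p) = (x p).re :=
  congrArg (fun v : RuVec => (v p).re) (ofL_toL x)

theorem cc_idx28 (x : RuVec) (p : RuIdx) : cc x (idx p + 28) = (x p).im :=
  congrArg (fun v : RuVec => (v p).im) (ofL_toL x)

theorem exists_idx : ∀ a < 28, ∃ p : RuIdx, idx p = a := by decide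

theorem sum_idx28 (G : ℕ → ℤ) : ∑ p : RuIdx, G (idx p) = ∑ a ∈ range 28, G a := by
  simp only [Fintype.sum_prod_type, Fin.sum_univ_succ, Fin.sum_univ_zero, Finset.sum_range_succ,
    Finset.sum_range_zero, idx]
  norm_num [Fin.val_succ]
  ring

theorem sum56 (G : ℕ → ℤ) : ∑ a ∈ range 56, G a = ∑ p : RuIdx, (G (idx p) + G (idx p + 28)) := by
  rw [Finset.sum_add_distrib, sum_idx28 G, sum_idx28 (fun a => G (a + 28))]
  have : (56 : ℕ) = 28 + 28 := rfl
  rw [this, Finset.sum_range_add]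
  congr 1

theorem dot_eq (x y : RuVec) : dot x y = ∑ a ∈ range 56, cc x a * cc y a := by
  rw [sum56]
  refine Finset.sum_congr rfl fun p _ => ?_
  simp only [term, cc_idx, cc_idx28]

theorem norm_eq (x : RuVec) : ruNorm x = ∑ a ∈ range 56, (cc x a) ^ 2 := by
  rw [ruNorm_eq, dot_eq]
  refine Finset.sum_congr rfl fun a _ => ?_
  ring

/-- vector from coordinates -/
def mkC (c : ℕ → ℤ) : RuVec := fun p => ⟨c (idx p), c (idx p + 28)⟩

theorem cc_mkC (c : ℕ → ℤ) (a : ℕ) (ha : a < 56) : cc (mkC c) a = c a := by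
  by_cases h : a < 28
  · obtain ⟨p, rfl⟩ := exists_idx a h
    rw [cc_idx]
    rfl
  · obtain ⟨p, hp⟩ := exists_idx (a - 28) (by omega)
    have : a = idx p + 28 := by omega
    rw [this, cc_idx28]
    rfl

theorem ext_cc {x y : RuVec} (h : ∀ a < 56, cc x a = cc y a) : x = y := by
  funext p
  have hp := idx_lt p
  apply Zsqrtd.ext
  · rw [← cc_idx, ← cc_idx]
    exact h _ (by omega)
  · rw [← cc_idx28, ← cc_idx28]
    exact h _ (by omega)

theorem cc_ofL (l : List ℤ) (a : ℕ) (ha : a < 56) : cc (ofL l) a = l.getD a 0 := by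
  have : ofL l = mkC (fun a => l.getD a 0) := rfl
  rw [this, cc_mkC _ _ ha]

theorem cc_add (x y : RuVec) (a : ℕ) (ha : a < 56) : cc (x + y) a = cc x a + cc y a := by
  by_cases h : a < 28
  · obtain ⟨p, rfl⟩ := exists_idx a h
    simp only [cc_idx, Pi.add_apply, Zsqrtd.re_add]
  · obtain ⟨p, hp⟩ := exists_idx (a - 28) (by omega)
    have : a = idx p + 28 := by omega
    rw [this]
    simp only [cc_idx28, Pi.add_apply, Zsqrtd.im_add]

theorem cc_neg (x : RuVec) (a : ℕ) (ha : a < 56) : cc (-x) a = - cc x a := by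
  by_cases h : a < 28
  · obtain ⟨p, rfl⟩ := exists_idx a h
    simp only [cc_idx, Pi.neg_apply, Zsqrtd.re_neg]
  · obtain ⟨p, hp⟩ := exists_idx (a - 28) (by omega)
    have : a = idx p + 28 := by omega
    rw [this]
    simp only [cc_idx28, Pi.neg_apply, Zsqrtd.im_neg]

/-- Multiplication by `i` on real coordinates. -/
theorem cc_i_low (x : RuVec) (a : ℕ) (ha : a < 28) : cc (gI • x) a = - cc x (a + 28) := by
  obtain ⟨p, rfl⟩ := exists_idx a ha
  simp [cc_idx, cc_idx28, gI, Zsqrtd.re_mul]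

theorem cc_i_high (x : RuVec) (a : ℕ) (ha : a < 28) : cc (gI • x) (a + 28) = cc x a := by
  obtain ⟨p, rfl⟩ := exists_idx a ha
  simp [cc_idx, cc_idx28, gI, Zsqrtd.im_mul]

theorem sq_cc_le (x : RuVec) (a : ℕ) (ha : a < 56) : (cc x a) ^ 2 ≤ ruNorm x := by
  rw [norm_eq]
  exact Finset.single_le_sum (f := fun a => (cc x a) ^ 2) (fun i _ => sq_nonneg _) (Finset.mem_range.2 ha)

/-! ### Evaluation -/

/-- The base. -/
def BB : ℕ := 65536

/-- Evaluation of a vector. -/
def ev (x : RuVec) : ℤ := ∑ a ∈ range 56, cc x a * (BB : ℤ) ^ a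

theorem digits_zero (n : ℕ) (d : ℕ → ℤ) (hd : ∀ a < n, |d a| < (BB : ℤ))
    (h : ∑ a ∈ range n, d a * (BB : ℤ) ^ a = 0) : ∀ a < n, d a = 0 := by
  induction n generalizing d with
  | zero => intro a ha; omega
  | succ n ih =>
    rw [Finset.sum_range_succ'] at h
    simp only [pow_zero, mul_one] at h
    have h1 : ∑ a ∈ range n, d (a + 1) * (BB : ℤ) ^ (a + 1) = (BB : ℤ) * ∑ a ∈ range n, d (a + 1) * (BB : ℤ) ^ a := by
      rw [Finset.mul_sum]
      refine Finset.sum_congr rfl fun a _ => ?_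
      ring
    rw [h1] at h
    have h0 : d 0 = 0 := by
      have h2 := hd 0 (by omega)
      have h3 : (BB : ℤ) ∣ d 0 := ⟨- ∑ a ∈ range n, d (a + 1) * (BB : ℤ) ^ a, by linarith⟩
      by_contra h4
      have h5 := Int.le_of_dvd (abs_pos.2 h4) ((dvd_abs _ _).2 h3)
      omega
    have h6 : ∑ a ∈ range n, d (a + 1) * (BB : ℤ) ^ a = 0 := by
      rw [h0, add_zero] at h
      have hB : (BB : ℤ) ≠ 0 := by norm_num [BB]
      exact (mul_eq_zero.1 h).resolve_left hB
    have h7 := ih (fun a => d (a + 1)) (fun a ha => hd (a + 1) (by omega)) h6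
    intro a ha
    cases a with
    | zero => exact h0
    | succ a => exact h7 a (by omega)

/-- Two vectors with small coordinates and equal values are equal. -/
theorem ev_inj {x y : RuVec} (hx : ruNorm x ≤ 256) (hy : ruNorm y ≤ 256) (h : ev x = ev y) : x = y := by
  have hb : ∀ z : RuVec, ruNorm z ≤ 256 → ∀ a < 56, |cc z a| ≤ 16 := by
    intro z hz a ha
    have := sq_cc_le z a ha
    apply abs_le_of_sq_le_sq' _ (by norm_num) |> fun h => abs_le.2 h
    nlinarith
  apply ext_cc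
  have h1 : ∑ a ∈ range 56, (cc x a - cc y a) * (BB : ℤ) ^ a = 0 := by
    have : ∑ a ∈ range 56, (cc x a - cc y a) * (BB : ℤ) ^ a = ev x - ev y := by
      unfold ev
      rw [← Finset.sum_sub_distrib]
      refine Finset.sum_congr rfl fun a _ => ?_
      ring
    rw [this, h, sub_self]
  have h2 := digits_zero 56 (fun a => cc x a - cc y a) (fun a ha => by
    have h3 := hb x hx a ha
    have h4 := hb y hy a ha
    rw [abs_le] at h3 h4
    rw [abs_lt]
    norm_num [BB]
    omega) h1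
  intro a ha
  have h8 : cc x a - cc y a = 0 := h2 a ha
  omega

/-! ### Coded vectors -/

/-- the digits of a coded vector -/
def dg (F a : ℕ) : ℕ := (F >>> (16 * a)) % BB

/-- the coordinates of a coded vector -/
def ent (F a : ℕ) : ℤ := (dg F a : ℤ) - 16

/-- the coded vector -/
def vec (F : ℕ) : RuVec := mkC (ent F)

theorem cc_vec (F a : ℕ) (ha : a < 56) : cc (vec F) a = ent F a := cc_mkC _ _ ha

theorem dg_eq (F a : ℕ) : dg F a = F / BB ^ a % BB := by
  unfold dg
  rw [Nat.shiftRight_eq_div_pow, pow_mul]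
  rfl

theorem mod_digits (F n : ℕ) : F % BB ^ n = ∑ a ∈ range n, dg F a * BB ^ a := by
  induction n with
  | zero => simp [Nat.mod_one]
  | succ n ih =>
    rw [Finset.sum_range_succ, ← ih, Nat.mod_pow_succ, dg_eq, mul_comm]

/-- the repunits -/
def rep28 : ℕ := ∑ a ∈ range 28, BB ^ a

def rep56 : ℕ := ∑ a ∈ range 56, BB ^ a

theorem ev_vec (F : ℕ) (hF : F < BB ^ 56) : ev (vec F) = (F : ℤ) - 16 * rep56 := by
  unfold ev
  have h1 : ∀ a ∈ range 56, cc (vec F) a * (BB : ℤ) ^ a = ((dg F a * BB ^ a : ℕ) : ℤ) - 16 * ((BB ^ a : ℕ) : ℤ) := by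
    intro a ha
    rw [cc_vec F a (Finset.mem_range.1 ha), ent]
    push_cast
    ring
  rw [Finset.sum_congr rfl h1, Finset.sum_sub_distrib, ← Nat.cast_sum, ← mod_digits, Nat.mod_eq_of_lt hF,
    ← Finset.mul_sum, rep56]
  push_cast
  rfl

/-- the value of `i` times a vector -/
def evL (x : RuVec) : ℤ := ∑ a ∈ range 28, cc x a * (BB : ℤ) ^ a

def evH (x : RuVec) : ℤ := ∑ a ∈ range 28, cc x (a + 28) * (BB : ℤ) ^ a

theorem ev_split (x : RuVec) : ev x = evL x + (BB : ℤ) ^ 28 * evH x := by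
  unfold ev evL evH
  rw [show (56 : ℕ) = 28 + 28 from rfl, Finset.sum_range_add, Finset.mul_sum]
  congr 1
  refine Finset.sum_congr rfl fun a _ => ?_
  rw [add_comm 28 a, pow_add]
  ring

theorem ev_i (x : RuVec) : ev (gI • x) = - evH x + (BB : ℤ) ^ 28 * evL x := by
  rw [ev_split]
  congr 1
  · unfold evL evH
    rw [← Finset.sum_neg_distrib]
    refine Finset.sum_congr rfl fun a ha => ?_
    rw [cc_i_low x a (Finset.mem_range.1 ha)]
    ring
  · congr 1
    unfold evL evH
    refine Finset.sum_congr rfl fun a ha => ?_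
    rw [cc_i_high x a (Finset.mem_range.1 ha)]

theorem ev_neg (x : RuVec) : ev (-x) = - ev x := by
  unfold ev
  rw [← Finset.sum_neg_distrib]
  refine Finset.sum_congr rfl fun a ha => ?_
  rw [cc_neg x a (Finset.mem_range.1 ha)]
  ring

theorem evL_vec (F : ℕ) : evL (vec F) = ((F % BB ^ 28 : ℕ) : ℤ) - 16 * rep28 := by
  unfold evL
  have h1 : ∀ a ∈ range 28, cc (vec F) a * (BB : ℤ) ^ a = ((dg F a * BB ^ a : ℕ) : ℤ) - 16 * ((BB ^ a : ℕ) : ℤ) := by
    intro a ha
    have := Finset.mem_range.1 ha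
    rw [cc_vec F a (by omega), ent]
    push_cast
    ring
  rw [Finset.sum_congr rfl h1, Finset.sum_sub_distrib, ← Nat.cast_sum, ← mod_digits, ← Finset.mul_sum, rep28]
  push_cast
  rfl

theorem evH_vec (F : ℕ) (hF : F < BB ^ 56) : evH (vec F) = ((F / BB ^ 28 : ℕ) : ℤ) - 16 * rep28 := by
  unfold evH
  have hdg : ∀ a, dg F (a + 28) = dg (F / BB ^ 28) a := by
    intro a
    rw [dg_eq, dg_eq, Nat.div_div_eq_div_mul, ← pow_add, add_comm]
  have h1 : ∀ a ∈ range 28, cc (vec F) (a + 28) * (BB : ℤ) ^ a =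
      ((dg (F / BB ^ 28) a * BB ^ a : ℕ) : ℤ) - 16 * ((BB ^ a : ℕ) : ℤ) := by
    intro a ha
    have := Finset.mem_range.1 ha
    rw [cc_vec F _ (by omega), ent, hdg]
    push_cast
    ring
  have h2 : F / BB ^ 28 < BB ^ 28 := by
    apply Nat.div_lt_of_lt_mul
    rw [← pow_add]
    exact hF
  rw [Finset.sum_congr rfl h1, Finset.sum_sub_distrib, ← Nat.cast_sum, ← mod_digits, Nat.mod_eq_of_lt h2,
    ← Finset.mul_sum, rep28]
  push_cast
  rfl

/-! ### Unit multiples -/

theorem gI_mul_gI : gI * gI = -1 := by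
  apply Zsqrtd.ext <;> simp [gI, Zsqrtd.re_mul, Zsqrtd.im_mul]

theorem gI_smul_gI_smul (x : RuVec) : gI • gI • x = -x := by
  rw [smul_smul, gI_mul_gI]
  funext p
  simp

theorem ruNorm_i (x : RuVec) : ruNorm (gI • x) = ruNorm x := by
  unfold ruNorm
  refine Finset.sum_congr rfl fun p _ => ?_
  simp [gI, Zsqrtd.norm_def, Zsqrtd.re_mul, Zsqrtd.im_mul]
  ring

theorem ruNorm_neg (x : RuVec) : ruNorm (-x) = ruNorm x := by
  unfold ruNorm
  refine Finset.sum_congr rfl fun p _ => ?_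
  simp [Zsqrtd.norm_neg]

/-- unit multiples -/
def um : ℕ → RuVec → RuVec
  | 0, x => x
  | k + 1, x => gI • um k x

theorem um_norm (k : ℕ) (x : RuVec) : ruNorm (um k x) = ruNorm x := by
  induction k with
  | zero => rfl
  | succ k ih => rw [um, ruNorm_i, ih]

theorem um_two (x : RuVec) : um 2 x = -x := gI_smul_gI_smul x

/-- the value of a unit multiple of a coded vector. -/
def uev (F : ℕ) (k : ℕ) : ℤ :=
  let E : ℤ := (F : ℤ) - 16 * rep56
  let E' : ℤ := -(((F / BB ^ 28 : ℕ) : ℤ) - 16 * rep28) + (BB : ℤ) ^ 28 * (((F % BB ^ 28 : ℕ) : ℤ) - 16 * rep28)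
  match k % 4 with
  | 0 => E
  | 1 => E'
  | 2 => -E
  | _ => -E'

theorem um_add_four (k : ℕ) (x : RuVec) : um (k + 4) x = um k x := by
  have : um (k + 4) x = gI • gI • (gI • gI • um k x) := rfl
  rw [this, gI_smul_gI_smul, gI_smul_gI_smul, neg_neg]

theorem um_mod (k : ℕ) (x : RuVec) : um (k % 4) x = um k x := by
  induction k using Nat.strong_induction_on with
  | _ k ih =>
    by_cases h : k < 4
    · rw [Nat.mod_eq_of_lt h]
    · obtain ⟨m, rfl⟩ : ∃ m, k = m + 4 := ⟨k - 4, by omega⟩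
      rw [um_add_four, Nat.add_mod_right]
      exact ih m (by omega)

theorem ev_um (F k : ℕ) (hF : F < BB ^ 56) : ev (um k (vec F)) = uev F k := by
  rw [← um_mod]
  unfold uev
  simp only
  have h4 : k % 4 < 4 := Nat.mod_lt _ (by norm_num)
  generalize k % 4 = m at h4 ⊢
  have e1 : ev (gI • vec F) = -(((F / BB ^ 28 : ℕ) : ℤ) - 16 * rep28) + (BB : ℤ) ^ 28 * (((F % BB ^ 28 : ℕ) : ℤ) - 16 * rep28) := by
    rw [ev_i, evH_vec F hF, evL_vec]
  interval_cases m
  · exact ev_vec F hF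
  · exact e1
  · rw [um_two, ev_neg, ev_vec F hF]
    rfl
  · have : um 3 (vec F) = - (gI • vec F) := by
      have e : um 3 (vec F) = gI • gI • (gI • vec F) := rfl
      rw [e, gI_smul_gI_smul]
    rw [this, ev_neg, e1]
    rfl

/-! ### The words of a vector -/

/-- a number from its bits -/
def wd (f : ℕ → Bool) : ℕ := Nat.ofBits (fun i : Fin 56 => f i)

theorem wd_lt (f : ℕ → Bool) : wd f < 2 ^ 56 := Nat.ofBits_lt_two_pow _

theorem wd_bit (f : ℕ → Bool) (a : ℕ) (ha : a < 56) : (wd f).testBit a = f a :=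
  Nat.testBit_ofBits_lt _ _ ha

/-- bits of a number modulo four -/
def b0 (e : ℤ) : Bool := decide (e % 2 = 1)

def b1 (e : ℤ) : Bool := decide (e % 4 = 2 ∨ e % 4 = 3)

/-- the word of the odd coordinates -/
def wW (x : RuVec) : ℕ := wd fun a => b0 (cc x a)

/-- the word of the second bits -/
def wZ (x : RuVec) : ℕ := wd fun a => b1 (cc x a)

theorem wW_bit (x : RuVec) (a : ℕ) (ha : a < 56) : (wW x).testBit a = b0 (cc x a) :=
  wd_bit (fun a => b0 (cc x a)) a ha

theorem wZ_bit (x : RuVec) (a : ℕ) (ha : a < 56) : (wZ x).testBit a = b1 (cc x a) :=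
  wd_bit (fun a => b1 (cc x a)) a ha

/-- test vectors -/
def tv (g h : ℕ) : List ℤ := (List.range 56).map fun a => (((g.testBit a).toNat + 2 * (h.testBit a).toNat : ℕ) : ℤ)

theorem tv_dvd {x : RuVec} (hx : x ∈ LL) {g h : ℕ} (ht : memChk (tv g h) = true) :
    (4 : ℤ) ∣ ∑ a ∈ range 56, cc x a * (((g.testBit a).toNat + 2 * (h.testBit a).toNat : ℕ) : ℤ) := by
  have h1 := dvd4 hx (memChk_spec ht)
  rw [dot_eq] at h1
  have h2 : ∀ a ∈ range 56, cc x a * cc (ofL (tv g h)) a =
      cc x a * (((g.testBit a).toNat + 2 * (h.testBit a).toNat : ℕ) : ℤ) := by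
    intro a ha
    have ha' := Finset.mem_range.1 ha
    have e : (tv g h).getD a 0 = (((g.testBit a).toNat + 2 * (h.testBit a).toNat : ℕ) : ℤ) := by
      unfold tv
      rw [List.getD_eq_getElem?_getD, List.getElem?_map, List.getElem?_range ha']
      simp only [Option.map_some, Option.getD_some]
    rw [cc_ofL _ _ ha', e]
  rwa [Finset.sum_congr rfl h2] at h1

theorem term_aux (e : ℤ) (g h : Bool) :
    (4 : ℤ) ∣ e * ((g.toNat + 2 * h.toNat : ℕ) : ℤ) -
      (((b0 e && g).toNat : ℤ) + 2 * ((b0 e && h).toNat : ℤ) + 2 * ((b1 e && g).toNat : ℤ)) := by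
  unfold b0 b1
  have h2 := Int.emod_two_eq e
  cases g <;> cases h <;> by_cases h3 : e % 2 = 1 <;> by_cases h4 : e % 4 = 2 ∨ e % 4 = 3 <;>
    simp [h3, h4] <;> omega

theorem cnt_and_bits (f : ℕ → Bool) (g : ℕ) :
    ∑ a ∈ range 56, (((f a && g.testBit a).toNat : ℕ) : ℤ) = (cnt 56 (wd f &&& g) : ℤ) := by
  unfold cnt
  push_cast
  refine Finset.sum_congr rfl fun a ha => ?_
  rw [Nat.testBit_and, wd_bit f a (Finset.mem_range.1 ha)]

/-- the linear condition on the words -/
theorem words_dvd {x : RuVec} (hx : x ∈ LL) {g h : ℕ} (ht : memChk (tv g h) = true) :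
    (4 : ℤ) ∣ (cnt 56 (wW x &&& g) : ℤ) + 2 * (cnt 56 (wW x &&& h) : ℤ) + 2 * (cnt 56 (wZ x &&& g) : ℤ) := by
  have h1 := tv_dvd hx ht
  have h2 : (4 : ℤ) ∣ ∑ a ∈ range 56, (cc x a * (((g.testBit a).toNat + 2 * (h.testBit a).toNat : ℕ) : ℤ) -
      (((b0 (cc x a) && g.testBit a).toNat : ℤ) + 2 * ((b0 (cc x a) && h.testBit a).toNat : ℤ) +
        2 * ((b1 (cc x a) && g.testBit a).toNat : ℤ))) :=
    Finset.dvd_sum fun a _ => term_aux _ _ _
  rw [Finset.sum_sub_distrib, Finset.sum_add_distrib, Finset.sum_add_distrib, ← Finset.mul_sum, ← Finset.mul_sum,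
    cnt_and_bits (fun a => b0 (cc x a)) g, cnt_and_bits (fun a => b0 (cc x a)) h,
    cnt_and_bits (fun a => b1 (cc x a)) g] at h2
  exact (Int.dvd_iff_dvd_of_dvd_sub h2).1 h1

theorem sg_cast (u v : ℕ) : sg u v = ((cnt 56 (u &&& v) : ℕ) : ZMod 2) := by
  unfold sg cnt
  push_cast
  refine Finset.sum_congr rfl fun a _ => ?_
  rw [Nat.testBit_and]
  unfold bt
  cases u.testBit a <;> cases v.testBit a <;> simp

theorem cast_even {n : ℕ} (h : (2 : ℤ) ∣ (n : ℤ)) : ((n : ℕ) : ZMod 2) = 0 := by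
  rw [ZMod.natCast_eq_zero_iff]
  exact_mod_cast h

/-- the inner products with the checks -/
theorem sg_check {x : RuVec} (hx : x ∈ LL) {m : ℕ} (ht : memChk (tv 0 m) = true) : sg (wW x) m = 0 := by
  have h := words_dvd hx ht
  rw [sg_cast]
  apply cast_even
  simp only [Nat.and_zero] at h
  have h0 : cnt 56 0 = 0 := by simp [cnt]
  rw [h0] at h
  omega

/-- the inner products with the test vectors -/
theorem sg_test {x : RuVec} (hx : x ∈ LL) {g h : ℕ} (ht : memChk (tv g h) = true) :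
    sg (wZ x) g = if ((cnt 56 (wW x &&& g) + 2 * cnt 56 (wW x &&& h)) % 4 = 2) then 1 else 0 := by
  have h1 := words_dvd hx ht
  rw [sg_cast]
  generalize cnt 56 (wW x &&& g) = A at h1 ⊢
  generalize cnt 56 (wW x &&& h) = B at h1 ⊢
  generalize cnt 56 (wZ x &&& g) = C at h1 ⊢
  by_cases hC : C % 2 = 0
  · have h2 : ((C : ℕ) : ZMod 2) = 0 := by
      rw [ZMod.natCast_eq_zero_iff]
      exact Nat.dvd_of_mod_eq_zero hC
    rw [h2, if_neg]
    omega
  · have h2 : ((C : ℕ) : ZMod 2) = 1 := by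
      have h3 : C % 2 = 1 := by omega
      have h4 : (C : ZMod 2) = ((C % 2 : ℕ) : ZMod 2) := by simp
      rw [h4, h3]
      rfl
    rw [h2, if_pos]
    omega

/-- the norm bounds the words -/
theorem term_le (e : ℤ) : (((b0 e).toNat + 4 * (b1 e && !b0 e).toNat : ℕ) : ℤ) ≤ e ^ 2 := by
  unfold b0 b1
  by_cases h3 : e % 2 = 1
  · have h5 : e ≠ 0 := by
      rintro rfl
      simp at h3
    have h6 : 1 ≤ e ^ 2 := by
      have := sq_nonneg e
      have h7 : e ^ 2 ≠ 0 := pow_ne_zero _ h5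
      omega
    have e1 : decide (e % 2 = 1) = true := decide_eq_true h3
    rw [e1]
    simpa using h6
  · have e1 : decide (e % 2 = 1) = false := decide_eq_false h3
    rw [e1]
    by_cases h4 : e % 4 = 2 ∨ e % 4 = 3
    · have h5 : e ≤ -2 ∨ 2 ≤ e := by omega
      have h6 : 4 ≤ e ^ 2 := by
        rcases h5 with h5 | h5 <;> nlinarith
      have e2 : decide (e % 4 = 2 ∨ e % 4 = 3) = true := decide_eq_true h4
      rw [e2]
      simpa using h6
    · have e2 : decide (e % 4 = 2 ∨ e % 4 = 3) = false := decide_eq_false h4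
      rw [e2]
      simpa using sq_nonneg e

theorem cnt_le_norm (x : RuVec) :
    ((cnt 56 (wW x) + 4 * cnt 56 (wZ x ^^^ (wZ x &&& wW x)) : ℕ) : ℤ) ≤ ruNorm x := by
  rw [norm_eq]
  have h1 : ((cnt 56 (wW x) + 4 * cnt 56 (wZ x ^^^ (wZ x &&& wW x)) : ℕ) : ℤ) =
      ∑ a ∈ range 56, (((b0 (cc x a)).toNat + 4 * (b1 (cc x a) && !b0 (cc x a)).toNat : ℕ) : ℤ) := by
    unfold cnt
    rw [Finset.mul_sum, ← Finset.sum_add_distrib]
    push_cast
    refine Finset.sum_congr rfl fun a ha => ?_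
    have ha' := Finset.mem_range.1 ha
    rw [Nat.testBit_xor, Nat.testBit_and, wW_bit x a ha', wZ_bit x a ha']
    cases b0 (cc x a) <;> cases b1 (cc x a) <;> simp
  rw [h1]
  exact Finset.sum_le_sum fun a _ => term_le _

/-- With sixteen odd coordinates and norm 16 the coordinates are the signs on the word. -/
theorem coords_of_sixteen (x : RuVec) (hn : ruNorm x = 16) (hc : cnt 56 (wW x) = 16) (a : ℕ) (ha : a < 56) :
    cc x a = ((wW x).testBit a).toNat - 2 * ((wZ x).testBit a).toNat := by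
  have h1 : ∑ b ∈ range 56, ((cc x b) ^ 2 - ((wW x).testBit b).toNat) = 0 := by
    rw [Finset.sum_sub_distrib, ← norm_eq, hn]
    have : ∑ b ∈ range 56, (((wW x).testBit b).toNat : ℤ) = ((cnt 56 (wW x) : ℕ) : ℤ) := by
      unfold cnt
      push_cast
      rfl
    rw [this, hc]
    rfl
  have h2 : ∀ b ∈ range 56, 0 ≤ (cc x b) ^ 2 - ((wW x).testBit b).toNat := by
    intro b hb
    have h3 := term_le (cc x b)
    rw [wW_bit x b (Finset.mem_range.1 hb)]
    push_cast at h3
    have : (0 : ℤ) ≤ ((b1 (cc x b) && !b0 (cc x b)).toNat : ℤ) := Int.natCast_nonneg _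
    linarith
  have h3 := (Finset.sum_eq_zero_iff_of_nonneg h2).1 h1 a (Finset.mem_range.2 ha)
  have h4 : (wW x).testBit a = b0 (cc x a) := wW_bit x a ha
  have h5 : (wZ x).testBit a = b1 (cc x a) := wZ_bit x a ha
  rw [h4] at h3
  rw [h4, h5]
  generalize cc x a = e at h3 ⊢
  unfold b0 at h3 ⊢
  unfold b1
  by_cases h6 : e % 2 = 1
  · have h7 : e ^ 2 = 1 := by
      rw [decide_eq_true h6] at h3
      have e1 : ((true : Bool).toNat : ℤ) = 1 := rfl
      rw [e1] at h3
      linarith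
    have h8 : e = 1 ∨ e = -1 := by
      have : (e - 1) * (e + 1) = 0 := by ring_nf; linarith
      rcases mul_eq_zero.1 this with h | h
      · left; linarith
      · right; linarith
    rcases h8 with rfl | rfl <;> decide
  · have h7 : e ^ 2 = 0 := by
      rw [decide_eq_false h6] at h3
      have e1 : ((false : Bool).toNat : ℤ) = 0 := rfl
      rw [e1] at h3
      linarith
    have h8 : e = 0 := by simpa using h7
    subst h8
    decide

/-- With trivial words the vector has one nonzero coordinate. -/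
theorem coords_of_zero (x : RuVec) (hn : ruNorm x = 16) (hw : wW x = 0) (hz : wZ x = 0) :
    ∃ a < 56, (cc x a = 4 ∨ cc x a = -4) ∧ ∀ b < 56, b ≠ a → cc x b = 0 := by
  have h1 : ∀ a < 56, (4 : ℤ) ∣ cc x a := by
    intro a ha
    have h2 : (wW x).testBit a = b0 (cc x a) := wW_bit x a ha
    have h3 : (wZ x).testBit a = b1 (cc x a) := wZ_bit x a ha
    rw [hw] at h2
    rw [hz] at h3
    simp only [Nat.zero_testBit] at h2 h3
    unfold b0 at h2
    unfold b1 at h3
    have h4 := of_decide_eq_false h2.symm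
    have h5 := of_decide_eq_false h3.symm
    omega
  have hn2 := norm_eq x
  rw [hn] at hn2
  have h2 : ∃ a ∈ range 56, cc x a ≠ 0 := by
    by_contra h3
    push_neg at h3
    rw [Finset.sum_eq_zero (fun a ha => by rw [h3 a ha]; norm_num)] at hn2
    norm_num at hn2
  obtain ⟨a, ha, hane⟩ := h2
  have ha' := Finset.mem_range.1 ha
  obtain ⟨k, hk⟩ := h1 a ha'
  have hk0 : k ≠ 0 := by
    rintro rfl
    simp at hk
    exact hane hk
  have h3 : (1 : ℤ) ≤ k ^ 2 := by
    have := sq_nonneg k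
    have h7 : k ^ 2 ≠ 0 := pow_ne_zero _ hk0
    omega
  have h4 : (cc x a) ^ 2 + ∑ b ∈ (range 56).erase a, (cc x b) ^ 2 = 16 := by
    have h40 := Finset.add_sum_erase (range 56) (fun b => (cc x b) ^ 2) ha
    rw [h40]
    exact hn2.symm
  have h5 : 0 ≤ ∑ b ∈ (range 56).erase a, (cc x b) ^ 2 := Finset.sum_nonneg fun _ _ => sq_nonneg _
  have h6 : (cc x a) ^ 2 = 16 * k ^ 2 := by rw [hk]; ring
  have h7 : k ^ 2 = 1 := by nlinarith
  have h8 : ∑ b ∈ (range 56).erase a, (cc x b) ^ 2 = 0 := by nlinarith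
  refine ⟨a, ha', ?_, ?_⟩
  · have : k = 1 ∨ k = -1 := by
      have : (k - 1) * (k + 1) = 0 := by ring_nf; linarith
      rcases mul_eq_zero.1 this with h | h
      · left; linarith
      · right; linarith
    rcases this with rfl | rfl
    · left; rw [hk]; norm_num
    · right; rw [hk]; norm_num
  · intro b hb hba
    have h9 := (Finset.sum_eq_zero_iff_of_nonneg (fun _ _ => sq_nonneg _)).1 h8 b
      (Finset.mem_erase.2 ⟨hba, Finset.mem_range.2 hb⟩)
    simpa using h9

end Cfsg.Agent.Lib.RuBr
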