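import Cfsg.Agent.Lib.RuBrCoord
import Cfsg.Agent.Lib.RuBrDat

/-!
# The vectors of norm 16 of the Rudvalis lattice

Every vector of norm 16 of the lattice is a unit multiple of one of 4060 explicit vectors. The proof goes through
the words of the coordinates modulo 4: the word of the odd coordinates lies in a code of dimension 19, and the word
of the second bits lies in a coset of the dual code.
-/

set_option autoImplicit false
set_option maxRecDepth 1000000
set_option Elab.async false
set_option linter.unusedSectionVars false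
set_option linter.unusedVariables false

namespace Cfsg.Agent.Lib.RuBr

open Cfsg.Spor Cfsg.Agent.RuLat Finset

/-! ### Counting bits -/

/-- the number of bits of a number below `2 ^ 8` -/
def pc8 (x : ℕ) : ℕ := Nat.land (Nat.shiftRight tbN (Nat.mul 4 x)) 15

/-- the number of bits -/
def popc (u : ℕ) : ℕ :=
  Nat.add (pc8 (Nat.land u 255)) (Nat.add (pc8 (Nat.land (Nat.shiftRight u 8) 255))
    (Nat.add (pc8 (Nat.land (Nat.shiftRight u 16) 255)) (Nat.add (pc8 (Nat.land (Nat.shiftRight u 24) 255))
      (Nat.add (pc8 (Nat.land (Nat.shiftRight u 32) 255)) (Nat.add (pc8 (Nat.land (Nat.shiftRight u 40) 255))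
        (pc8 (Nat.land (Nat.shiftRight u 48) 255)))))))

def cntL (k u : ℕ) : ℕ := (List.range k).foldr (fun a s => (u.testBit a).toNat + s) 0

theorem cnt_eq_cntL (k u : ℕ) : cnt k u = cntL k u := by
  unfold cnt cntL
  have key : ∀ l : List ℕ, (l.map fun a => (u.testBit a).toNat).sum =
      l.foldr (fun a s => (u.testBit a).toNat + s) 0 := by
    intro l
    induction l with
    | nil => rfl
    | cons a l ih => simp [ih]
  rw [← key, ← List.sum_toFinset _ List.nodup_range, List.toFinset_range]

theorem chk_pc8 : (List.range 256).all (fun i => Nat.beq (pc8 i) (cntL 8 i)) = true := by decide +kernel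

theorem pc8_spec (v : ℕ) : pc8 (Nat.land v 255) = cnt 8 v := by
  have e : Nat.land v 255 = v % 2 ^ 8 := by
    show v &&& 255 = _
    rw [show (255 : ℕ) = 2 ^ 8 - 1 by norm_num, Nat.and_two_pow_sub_one_eq_mod]
  rw [e]
  have h1 : v % 2 ^ 8 < 256 := Nat.mod_lt _ (by norm_num)
  have h2 := List.all_eq_true.1 chk_pc8 _ (List.mem_range.2 h1)
  have h3 := Nat.eq_of_beq_eq_true h2
  rw [h3, ← cnt_eq_cntL, cnt_mod]

theorem popc_spec (u : ℕ) : popc u = cnt 56 u := by
  have e1 : cnt 56 u = cnt 8 u + cnt 8 (u >>> 8) + cnt 8 (u >>> 16) + cnt 8 (u >>> 24) + cnt 8 (u >>> 32) +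
      cnt 8 (u >>> 40) + cnt 8 (u >>> 48) := by
    rw [show (56 : ℕ) = 8 + (8 + (8 + (8 + (8 + (8 + 8))))) from rfl, cnt_add, cnt_add, cnt_add, cnt_add, cnt_add, cnt_add,
      ← Nat.shiftRight_add, ← Nat.shiftRight_add, ← Nat.shiftRight_add, ← Nat.shiftRight_add, ← Nat.shiftRight_add]
    ring
  unfold popc
  rw [pc8_spec, e1]
  show cnt 8 u + (pc8 (Nat.land (u >>> 8) 255) + (pc8 (Nat.land (u >>> 16) 255) + (pc8 (Nat.land (u >>> 24) 255) +
    (pc8 (Nat.land (u >>> 32) 255) + (pc8 (Nat.land (u >>> 40) 255) + pc8 (Nat.land (u >>> 48) 255)))))) = _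
  rw [pc8_spec, pc8_spec, pc8_spec, pc8_spec, pc8_spec, pc8_spec]
  ring

/-! ### The system of the two bases -/

def chkSys (P M : List (ℕ × ℕ)) : Bool :=
  P.all (fun e => P.all fun f => f.2.testBit e.1 == decide (e.1 = f.1)) &&
  M.all (fun e => M.all fun f => f.2.testBit e.1 == decide (e.1 = f.1)) &&
  (List.range 56).all (fun a => P.any (fun e => e.1 == a) || M.any (fun e => e.1 == a)) &&
  P.all (fun e => M.all fun f => !sgB e.2 f.2) &&
  decide (P.map Prod.fst).Nodup && decide (M.map Prod.fst).Nodup &&
  P.all (fun e => M.all fun f => !(e.1 == f.1)) &&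
  P.all (fun e => decide (e.1 < 56) && decide (e.2 < 2 ^ 56)) &&
  M.all (fun e => decide (e.1 < 56) && decide (e.2 < 2 ^ 56))

theorem sys_of_chk {P M : List (ℕ × ℕ)} (h : chkSys P M = true) : Sys P M := by
  simp only [chkSys, Bool.and_eq_true, List.all_eq_true, List.any_eq_true, Bool.or_eq_true, beq_iff_eq,
    decide_eq_true_eq, Bool.not_eq_true', List.mem_range, beq_eq_false_iff_ne, ne_eq] at h
  obtain ⟨⟨⟨⟨⟨⟨⟨⟨h1, h2⟩, h3⟩, h4⟩, h5⟩, h6⟩, h7⟩, h8⟩, h9⟩ := h
  refine ⟨h1, h2, h3, ?_, h5, h6, h7, h8, h9⟩
  intro e he f hf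
  rw [sgB_spec]
  simp [h4 e he f hf]

theorem chk_sys : chkSys P M = true := by decide +kernel

theorem sysPM : Sys P M := sys_of_chk chk_sys

/-! ### The tests on the lattice -/

theorem chk_tvM : M.all (fun e => memChk (tv 0 e.2)) = true := by decide +kernel

theorem chk_tvP : P.all (fun e => memChk (tv e.2 (hT.getD e.1 0))) = true := by decide +kernel

/-! ### The search -/

/-- the second bits of a test vector decide the inner product -/
def cf (w : ℕ) (e : ℕ × ℕ) : Bool :=
  Nat.beq (Nat.mod (Nat.add (popc (Nat.land w e.2)) (Nat.mul 2 (popc (Nat.land w (hT.getD e.1 0))))) 4) 2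

def nstW (w : ℕ) : ℕ := nst (cf w) P

/-- the list of vectors with a given word -/
noncomputable def solsOf (w : ℕ) : List (ℕ × ℕ) :=
  List.rec (motive := fun _ => List (ℕ × ℕ)) [] (fun t _ ih => Bool.rec ih t.2 (Nat.beq t.1 w)) tbl

/-- the check for a word with sixteen bits -/
noncomputable def inner16 (w : ℕ) : Bool :=
  (fun L : List (ℕ × ℕ) =>
    match elims ((P.map Prod.fst).filter fun p => !w.testBit p) (nstW w)
      ((M.filter fun e => w.testBit e.1).map Prod.snd) with
    | none => true
    | some r => dfsS (fun z => L.any fun s => Nat.beq s.1 z) r.2 r.1) (solsOf w)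

/-- the leaf of the search for the other words -/
def leafB (w z : ℕ) : Bool :=
  Nat.blt 16 (Nat.add (popc w) (Nat.mul 4 (popc (Nat.xor z (Nat.land z w))))) ||
    (Nat.beq w 0 && Nat.beq z 0)

/-- the check for the other words -/
noncomputable def innerB (w : ℕ) : Bool :=
  dfsB w (leafB w) M (nstW w) (Nat.div (Nat.sub 16 (popc w)) 4)

/-- the few words with less than sixteen bits -/
def heavy : List ℕ := [nat_lit 0x0,nat_lit 0xf000000f,nat_lit 0xf000000f0,nat_lit 0xf000000f00,nat_lit 0xf000000f000,nat_lit 0xf000000f0000,nat_lit 0xf000000f00000,nat_lit 0xf000000f000000]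

/-- the check of a word of the code -/
noncomputable def Qw (w : ℕ) : Bool :=
  Bool.rec (Bool.rec (heavy.any fun h => Nat.beq h w) (inner16 w) (Nat.beq (popc w) 16)) true (Nat.blt 16 (popc w))

theorem Qw_spec (w : ℕ) (h : Qw w = true) (hw : popc w ≤ 16) :
    (popc w = 16 ∧ inner16 w = true) ∨ (popc w ≠ 16 ∧ w ∈ heavy) := by
  have h1 : Nat.blt 16 (popc w) = false := by
    cases h2 : Nat.blt 16 (popc w) with
    | false => rfl
    | true =>
      have : 16 < popc w := by simpa [Nat.blt_eq] using h2
      omega
  unfold Qw at h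
  rw [h1] at h
  by_cases h3 : popc w = 16
  · left
    have h4 : Nat.beq (popc w) 16 = true := by rw [h3]; rfl
    rw [h4] at h
    exact ⟨h3, h⟩
  · right
    have h4 : Nat.beq (popc w) 16 = false := by
      cases h5 : Nat.beq (popc w) 16 with
      | false => rfl
      | true => exact absurd (Nat.eq_of_beq_eq_true h5) h3
    rw [h4] at h
    refine ⟨h3, ?_⟩
    show w ∈ heavy
    have h6 : (heavy.any fun h => Nat.beq h w) = true := h
    rw [List.any_eq_true] at h6
    obtain ⟨x, hx, hxw⟩ := h6
    rw [← Nat.eq_of_beq_eq_true hxw]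
    exact hx

theorem chk_h0 : innerB (nat_lit 0x0) = true := by decide +kernel
theorem chk_h1 : innerB (nat_lit 0xf000000f) = true := by decide +kernel
theorem chk_h2 : innerB (nat_lit 0xf000000f0) = true := by decide +kernel
theorem chk_h3 : innerB (nat_lit 0xf000000f00) = true := by decide +kernel
theorem chk_h4 : innerB (nat_lit 0xf000000f000) = true := by decide +kernel
theorem chk_h5 : innerB (nat_lit 0xf000000f0000) = true := by decide +kernel
theorem chk_h6 : innerB (nat_lit 0xf000000f00000) = true := by decide +kernel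
theorem chk_h7 : innerB (nat_lit 0xf000000f000000) = true := by decide +kernel

theorem chk_heavy : ∀ w ∈ heavy, innerB w = true := by
  intro w hw
  simp only [heavy, List.mem_cons, List.not_mem_nil, or_false] at hw
  rcases hw with rfl | rfl | rfl | rfl | rfl | rfl | rfl | rfl
  exacts [chk_h0, chk_h1, chk_h2, chk_h3, chk_h4, chk_h5, chk_h6, chk_h7]

/-- the search in pieces -/
def combos : List (ℕ × ℕ) → ℕ → List ℕ
  | [], acc => [acc]
  | e :: A, acc => combos A acc ++ combos A (acc ^^^ e.2)

theorem dfsA_append (Q : ℕ → Bool) (A₁ A₂ : List (ℕ × ℕ)) (acc : ℕ)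
    (h : ∀ c ∈ combos A₁ acc, dfsA Q A₂ c = true) : dfsA Q (A₁ ++ A₂) acc = true := by
  induction A₁ generalizing acc with
  | nil => exact h acc (by simp [combos])
  | cons e A ih =>
    rw [List.cons_append, dfsA_cons, Bool.and_eq_true]
    exact ⟨ih _ fun c hc => h c (by simp [combos, hc]), ih _ fun c hc => h c (by simp [combos, hc])⟩

def P1 : List (ℕ × ℕ) := P.take 5

def P2 : List (ℕ × ℕ) := P.drop 5

theorem P_eq : P = P1 ++ P2 := (List.take_append_drop _ _).symm

def cmbs : List ℕ := [0,3577870979194896,34439150211981320,33473770400514072,69138788061839364,70112912410468372,40527332953350156,36958343983824924,2416342363840514,1165106725830674,32316429395083274,35599510982139930,71271417636724742,67979454041047062,38120907937431566,39363399039328286,9344725838479361,12812559755517969,25729409791041545,24733295193636889,59835036479832069,60839998693613589,49198333037682701,45739209331621917,11724487697424387,10433618101174291,23641035559174155,26823047975854107,61931094139756551,58740371513147415,46826246016860175,48108267997782047]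

theorem cmb_eq : combos P1 0 = cmbs := by decide +kernel

theorem chk_p0 : dfsA Qw P2 0 = true := by decide +kernel
theorem chk_p1 : dfsA Qw P2 3577870979194896 = true := by decide +kernel
theorem chk_p2 : dfsA Qw P2 34439150211981320 = true := by decide +kernel
theorem chk_p3 : dfsA Qw P2 33473770400514072 = true := by decide +kernel
theorem chk_p4 : dfsA Qw P2 69138788061839364 = true := by decide +kernel
theorem chk_p5 : dfsA Qw P2 70112912410468372 = true := by decide +kernel
theorem chk_p6 : dfsA Qw P2 40527332953350156 = true := by decide +kernel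
theorem chk_p7 : dfsA Qw P2 36958343983824924 = true := by decide +kernel
theorem chk_p8 : dfsA Qw P2 2416342363840514 = true := by decide +kernel
theorem chk_p9 : dfsA Qw P2 1165106725830674 = true := by decide +kernel
theorem chk_p10 : dfsA Qw P2 32316429395083274 = true := by decide +kernel
theorem chk_p11 : dfsA Qw P2 35599510982139930 = true := by decide +kernel
theorem chk_p12 : dfsA Qw P2 71271417636724742 = true := by decide +kernel
theorem chk_p13 : dfsA Qw P2 67979454041047062 = true := by decide +kernel
theorem chk_p14 : dfsA Qw P2 38120907937431566 = true := by decide +kernel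
theorem chk_p15 : dfsA Qw P2 39363399039328286 = true := by decide +kernel
theorem chk_p16 : dfsA Qw P2 9344725838479361 = true := by decide +kernel
theorem chk_p17 : dfsA Qw P2 12812559755517969 = true := by decide +kernel
theorem chk_p18 : dfsA Qw P2 25729409791041545 = true := by decide +kernel
theorem chk_p19 : dfsA Qw P2 24733295193636889 = true := by decide +kernel
theorem chk_p20 : dfsA Qw P2 59835036479832069 = true := by decide +kernel
theorem chk_p21 : dfsA Qw P2 60839998693613589 = true := by decide +kernel
theorem chk_p22 : dfsA Qw P2 49198333037682701 = true := by decide +kernel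
theorem chk_p23 : dfsA Qw P2 45739209331621917 = true := by decide +kernel
theorem chk_p24 : dfsA Qw P2 11724487697424387 = true := by decide +kernel
theorem chk_p25 : dfsA Qw P2 10433618101174291 = true := by decide +kernel
theorem chk_p26 : dfsA Qw P2 23641035559174155 = true := by decide +kernel
theorem chk_p27 : dfsA Qw P2 26823047975854107 = true := by decide +kernel
theorem chk_p28 : dfsA Qw P2 61931094139756551 = true := by decide +kernel
theorem chk_p29 : dfsA Qw P2 58740371513147415 = true := by decide +kernel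
theorem chk_p30 : dfsA Qw P2 46826246016860175 = true := by decide +kernel
theorem chk_p31 : dfsA Qw P2 48108267997782047 = true := by decide +kernel

theorem chk_dfs : dfsA Qw P 0 = true := by
  rw [P_eq]
  refine dfsA_append _ _ _ _ fun c hc => ?_
  rw [cmb_eq] at hc
  simp only [cmbs, List.mem_cons, List.not_mem_nil, or_false] at hc
  rcases hc with rfl | rfl | rfl | rfl | rfl | rfl | rfl | rfl | rfl | rfl | rfl | rfl | rfl | rfl | rfl | rfl | rfl | rfl | rfl | rfl | rfl | rfl | rfl | rfl | rfl | rfl | rfl | rfl | rfl | rfl | rfl | rfl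
  exacts [chk_p0, chk_p1, chk_p2, chk_p3, chk_p4, chk_p5, chk_p6, chk_p7, chk_p8, chk_p9, chk_p10, chk_p11, chk_p12, chk_p13, chk_p14, chk_p15, chk_p16, chk_p17, chk_p18, chk_p19, chk_p20, chk_p21, chk_p22, chk_p23, chk_p24, chk_p25, chk_p26, chk_p27, chk_p28, chk_p29, chk_p30, chk_p31]

/-- the words of a vector of norm 16 -/
theorem words_main {x : RuVec} (hx : x ∈ LL) (hn : ruNorm x = 16) :
    (wW x = 0 ∧ wZ x = 0) ∨ (popc (wW x) = 16 ∧ ∃ s ∈ solsOf (wW x), s.1 = wZ x) := by
  set w := wW x with hw
  set z := wZ x with hz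
  have hwlt : w < 2 ^ 56 := wd_lt _
  have hzlt : z < 2 ^ 56 := wd_lt _
  have hle := cnt_le_norm x
  rw [hn, ← hw, ← hz, ← popc_spec, ← popc_spec] at hle
  have hle' : popc w + 4 * popc (z ^^^ (z &&& w)) ≤ 16 := by exact_mod_cast hle
  -- the first word
  have h1 : w = sel P w := by
    have h2 := (sysPM.symm).affine w hwlt (fun _ => false) (fun e he => by
      simp only [Bool.false_eq_true, if_false]
      exact sg_check hx (List.all_eq_true.1 chk_tvM e he))
    have h3 : nst (fun _ => false) M = 0 := by
      have : ∀ A : List (ℕ × ℕ), nst (fun _ => false) A = 0 := by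
        intro A
        induction A with
        | nil => rfl
        | cons e A ih => simpa [nst] using ih
      exact this M
    rw [h3, Nat.zero_xor] at h2
    exact h2
  have h2 : Qw w = true := by
    have := dfsA_spec Qw P 0 w chk_dfs
    rw [Nat.zero_xor, ← h1] at this
    exact this
  -- the second word
  have h3 : z = nstW w ^^^ sel M z := by
    refine sysPM.affine z hzlt (cf w) fun e he => ?_
    have h4 := sg_test hx (List.all_eq_true.1 chk_tvP e he)
    rw [← hw, ← hz] at h4
    rw [h4]
    unfold cf
    show (if (cnt 56 (w &&& e.2) + 2 * cnt 56 (w &&& hT.getD e.1 0)) % 4 = 2 then (1 : ZMod 2) else 0) =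
      if Nat.beq ((popc (w &&& e.2) + 2 * popc (w &&& hT.getD e.1 0)) % 4) 2 = true then 1 else 0
    rw [popc_spec, popc_spec]
    by_cases h5 : (cnt 56 (w &&& e.2) + 2 * cnt 56 (w &&& hT.getD e.1 0)) % 4 = 2
    · rw [if_pos h5, if_pos (by rw [h5]; rfl)]
    · rw [if_neg h5, if_neg]
      intro h6
      exact h5 (Nat.eq_of_beq_eq_true h6)
  rcases Qw_spec w h2 (by omega) with ⟨h4, h5⟩ | ⟨h4, h5⟩
  · -- sixteen bits
    right
    refine ⟨h4, ?_⟩
    have h6 : popc (z ^^^ (z &&& w)) = 0 := by omega
    have h7 : ∀ a < 56, z.testBit a = true → w.testBit a = true := by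
      intro a ha hza
      rw [popc_spec, cnt, Finset.sum_eq_zero_iff] at h6
      have h8 := h6 a (Finset.mem_range.2 ha)
      rw [Nat.testBit_xor, Nat.testBit_and, hza] at h8
      cases h9 : w.testBit a
      · rw [h9] at h8
        simp at h8
      · rfl
    have hcos : InS (nstW w) ((M.filter fun e => w.testBit e.1).map Prod.snd) z := by
      have := InS_of_sel_filter M w (nstW w) z (fun e he hb => h7 e.1 (sysPM.ltM e he).1 hb)
      rwa [← h3] at this
    have hzero : ∀ p ∈ (P.map Prod.fst).filter (fun p => !w.testBit p), z.testBit p = false := by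
      intro p hp
      simp only [List.mem_filter, List.mem_map, Bool.not_eq_true'] at hp
      obtain ⟨⟨e, he, rfl⟩, hpw⟩ := hp
      cases h9 : z.testBit e.1
      · rfl
      · have := h7 e.1 (sysPM.ltP e he).1 h9
        rw [this] at hpw
        exact absurd hpw (by simp)
    obtain ⟨r, hr1, hr2⟩ := elims_spec _ _ z _ hcos hzero
    unfold inner16 at h5
    simp only [hr1] at h5
    have h8 := dfsS_spec _ r.2 r.1 z h5 hr2
    simp only [List.any_eq_true] at h8
    obtain ⟨s, hs, hs2⟩ := h8
    exact ⟨s, hs, Nat.eq_of_beq_eq_true hs2⟩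
  · -- the other words
    left
    have h5 := chk_heavy w h5
    have h6 : outN w z M ≤ Nat.div (Nat.sub 16 (popc w)) 4 := by
      have h7 := outN_le w z M sysPM.ndM fun e he => (sysPM.ltM e he).1
      rw [← popc_spec] at h7
      show outN w z M ≤ (16 - popc w) / 4
      rw [Nat.le_div_iff_mul_le (by norm_num)]
      have h9 : popc w ≤ 16 := by omega
      have h10 : 4 * popc (z ^^^ (z &&& w)) ≤ 16 - popc w := by omega
      omega
    have h7 := dfsB_spec w (leafB w) M (nstW w) _ z h5 h6
    rw [← h3] at h7
    unfold leafB at h7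
    rw [Bool.or_eq_true] at h7
    rcases h7 with h7 | h7
    · have h8 : 16 < popc w + 4 * popc (z ^^^ (z &&& w)) := by
        simpa [Nat.blt_eq] using h7
      omega
    · rw [Bool.and_eq_true] at h7
      exact ⟨Nat.eq_of_beq_eq_true h7.1, Nat.eq_of_beq_eq_true h7.2⟩

end Cfsg.Agent.Lib.RuBr
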