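import Cfsg.Agent.Lib.RuBrCoord

/-!
# The relation "inner product divisible by 16" by one multiplication

The digits of a vector in base `2 ^ 16`, multiplied by the digits of a second vector in reverse order: one digit of the
product is the inner product of the two lists of digits. A row has a first number with the digits of a vector and a
second number with the reversed digits of the vector and of `i` times the vector, so that one multiplication
and one mask test the real and imaginary parts of a Hermitian product.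
-/

set_option autoImplicit false
set_option maxRecDepth 100000
set_option linter.unusedSectionVars false
set_option linter.unusedVariables false

namespace Cfsg.Agent.Lib.RuBr

open Cfsg.Spor Cfsg.Agent.RuLat Finset

/-- Digits in increasing order. -/
def evE : List ℕ → ℕ
  | [] => 0
  | x :: xs => x + BB * evE xs

/-- Digits in decreasing order. -/
def evR : List ℕ → ℕ
  | [] => 0
  | y :: ys => y * BB ^ ys.length + evR ys

/-- The inner product of two lists. -/
def dotN : List ℕ → List ℕ → ℕ
  | x :: xs, y :: ys => x * y + dotN xs ys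
  | _, _ => 0

theorem BB_pos : 0 < BB := by norm_num [BB]

theorem evR_bound (ys : List ℕ) (hy : ∀ y ∈ ys, y ≤ 20) : evR ys * BB ≤ 40 * BB ^ ys.length := by
  induction ys with
  | nil => simp [evR]
  | cons y ys ih =>
    have h1 := ih (fun a ha => hy a (by simp [ha]))
    have h2 := hy y (by simp)
    have h3 : y * BB ^ ys.length ≤ 20 * BB ^ ys.length := Nat.mul_le_mul_right _ h2
    simp only [evR, List.length_cons]
    have e : BB ^ (ys.length + 1) = BB ^ ys.length * BB := pow_succ _ _
    rw [e, add_mul]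
    have hB : (2 : ℕ) ≤ BB := by norm_num [BB]
    have h4 : 40 * BB ^ ys.length ≤ 20 * (BB ^ ys.length * BB) := by nlinarith [Nat.zero_le (BB ^ ys.length)]
    have h5 : y * BB ^ ys.length * BB ≤ 20 * BB ^ ys.length * BB := Nat.mul_le_mul_right _ h3
    nlinarith

/-- The shape of the product. -/
theorem product_shape (xs ys : List ℕ) (n : ℕ) (hx : xs.length = n + 1) (hy : ys.length = n + 1)
    (h1 : ∀ a ∈ xs, a ≤ 20) (h2 : ∀ a ∈ ys, a ≤ 20) :
    ∃ L U : ℕ, evE xs * evR ys = L + dotN xs ys * BB ^ n + U * BB ^ (n + 1) ∧ L * BB ≤ 800 * n * BB ^ n := by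
  induction n generalizing xs ys with
  | zero =>
    match xs, ys, hx, hy with
    | [x], [y], _, _ =>
      refine ⟨0, 0, ?_, by simp⟩
      simp [evE, evR, dotN]
  | succ n ih =>
    match xs, ys, hx, hy with
    | x :: xs', y :: ys', hx', hy' =>
      have lx : xs'.length = n + 1 := by simpa using hx'
      have ly : ys'.length = n + 1 := by simpa using hy'
      obtain ⟨L, U, e, hL⟩ := ih xs' ys' lx ly (fun a ha => h1 a (by simp [ha])) (fun a ha => h2 a (by simp [ha]))
      have hxx := h1 x (by simp)
      have hr := evR_bound ys' (fun a ha => h2 a (by simp [ha]))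
      rw [ly] at hr
      refine ⟨x * evR ys' + BB * L, evE xs' * y + U, ?_, ?_⟩
      · simp only [evE, evR, dotN, ly]
        have e2 : (x + BB * evE xs') * (y * BB ^ (n + 1) + evR ys') =
            x * evR ys' + x * y * BB ^ (n + 1) + evE xs' * y * BB ^ (n + 1 + 1) + BB * (evE xs' * evR ys') := by ring
        rw [e2, e]
        ring
      · have h3 : x * evR ys' * BB ≤ 20 * (40 * BB ^ (n + 1)) := by
          calc x * evR ys' * BB = x * (evR ys' * BB) := by ring
            _ ≤ 20 * (40 * BB ^ (n + 1)) := Nat.mul_le_mul hxx hr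
        have h4 : BB * L * BB ≤ 800 * n * BB ^ (n + 1) := by
          calc BB * L * BB = BB * (L * BB) := by ring
            _ ≤ BB * (800 * n * BB ^ n) := Nat.mul_le_mul_left _ hL
            _ = 800 * n * BB ^ (n + 1) := by ring
        calc (x * evR ys' + BB * L) * BB = x * evR ys' * BB + BB * L * BB := by ring
          _ ≤ 20 * (40 * BB ^ (n + 1)) + 800 * n * BB ^ (n + 1) := Nat.add_le_add h3 h4
          _ = 800 * (n + 1) * BB ^ (n + 1) := by ring

theorem evE_lt (xs : List ℕ) (h : ∀ a ∈ xs, a ≤ 20) : evE xs < BB ^ xs.length := by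
  induction xs with
  | nil => simp [evE]
  | cons x xs ih =>
    have h1 := ih fun a ha => h a (by simp [ha])
    have h2 := h x (by simp)
    simp only [evE, List.length_cons, pow_succ]
    have h3 : evE xs + 1 ≤ BB ^ xs.length := h1
    have hB : BB = 65536 := rfl
    nlinarith

theorem evR_lt (xs : List ℕ) (h : ∀ a ∈ xs, a ≤ 20) : evR xs < BB ^ xs.length := by
  induction xs with
  | nil => simp [evR]
  | cons x xs ih =>
    have h1 := ih fun a ha => h a (by simp [ha])
    have h2 := h x (by simp)
    simp only [evR, List.length_cons, pow_succ]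
    have hB : BB = 65536 := rfl
    have h3 : 0 < BB ^ xs.length := pow_pos BB_pos _
    nlinarith

/-- The mask of the two digits. -/
def MM : ℕ := nat_lit 0xf000000000000000000000000000000000000000000000000000000000000000000000000000000000000000000000000000000000000000000000000000000000000000000000000000000000000000000000000000000000000000000000000000000000000000000000000000000000000000000000000000000000000000000000000000000000000000000000000000000000000000000000000000000000000000000000000000000000000000000000000000000000000000000000000000000000000000000000000000000000000000000000000000000000000000000000000000000000000000000000000000000000000000f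

theorem MM_eq : MM = 15 ||| (15 <<< 1984) := by decide +kernel

theorem MM_bit (i : ℕ) : MM.testBit i = (decide (i < 4) || (decide (1984 ≤ i) && decide (i - 1984 < 4))) := by
  rw [MM_eq, Nat.testBit_or, Nat.testBit_shiftLeft, show (15 : ℕ) = 2 ^ 4 - 1 by norm_num, Nat.testBit_two_pow_sub_one,
    Nat.testBit_two_pow_sub_one]

theorem land_mask (X : ℕ) : Nat.land X MM = 0 ↔ X % 16 = 0 ∧ (X >>> 1984) % 16 = 0 := by
  have e16 : (16 : ℕ) = 2 ^ 4 := by norm_num
  constructor
  · intro h
    have h1 : ∀ i, (X.testBit i && MM.testBit i) = false := by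
      intro i
      have : (X &&& MM).testBit i = false := by
        have h2 : X &&& MM = 0 := h
        rw [h2]
        simp
      rwa [Nat.testBit_and] at this
    constructor
    · apply Nat.eq_of_testBit_eq
      intro i
      rw [e16, Nat.testBit_mod_two_pow]
      simp only [Nat.zero_testBit]
      by_cases hi : i < 4
      · have h2 := h1 i
        rw [MM_bit] at h2
        simp only [hi, decide_true, Bool.true_or, Bool.and_true] at h2
        simp [hi, h2]
      · simp [hi]
    · apply Nat.eq_of_testBit_eq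
      intro i
      rw [e16, Nat.testBit_mod_two_pow, Nat.testBit_shiftRight]
      simp only [Nat.zero_testBit]
      by_cases hi : i < 4
      · have h2 := h1 (1984 + i)
        rw [MM_bit] at h2
        have h3 : decide (1984 ≤ 1984 + i) = true := by simp
        have h4 : decide (1984 + i - 1984 < 4) = true := by simp [hi]
        rw [h3, h4] at h2
        simp only [Bool.and_true, Bool.or_true] at h2
        simp [hi, h2]
      · simp [hi]
  · rintro ⟨h1, h2⟩
    show X &&& MM = 0
    apply Nat.eq_of_testBit_eq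
    intro i
    rw [Nat.testBit_and, MM_bit]
    simp only [Nat.zero_testBit, Bool.and_eq_false_iff]
    by_cases hi : i < 4
    · left
      have h3 : (X % 2 ^ 4).testBit i = false := by
        rw [← e16, h1]
        simp
      rw [Nat.testBit_mod_two_pow] at h3
      simpa [hi] using h3
    · by_cases hj : 1984 ≤ i ∧ i - 1984 < 4
      · left
        have h3 : ((X >>> 1984) % 2 ^ 4).testBit (i - 1984) = false := by
          rw [← e16, h2]
          simp
        rw [Nat.testBit_mod_two_pow, Nat.testBit_shiftRight] at h3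
        have h5 : 1984 + (i - 1984) = i := by omega
        rw [h5] at h3
        simpa [hj.2] using h3
      · right
        simp only [hi, decide_false, Bool.false_or, Bool.and_eq_false_iff, decide_eq_false_iff_not]
        by_cases h6 : 1984 ≤ i
        · right
          intro h7
          exact hj ⟨h6, h7⟩
        · left
          exact h6

/-- The test on one multiplication. -/
theorem digits_two (xs ys zs : List ℕ) (hx : xs.length = 62) (hy : ys.length = 62) (hz : zs.length = 62)
    (h1 : ∀ a ∈ xs, a ≤ 20) (h2 : ∀ a ∈ ys, a ≤ 20) (h3 : ∀ a ∈ zs, a ≤ 20) :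
    Nat.land (Nat.shiftRight (Nat.mul (evE xs) (evR ys + BB ^ 124 * evR zs)) 976) MM = 0 ↔
      dotN xs ys % 16 = 0 ∧ dotN xs zs % 16 = 0 := by
  obtain ⟨L, U, e1, hL⟩ := product_shape xs ys 61 hx hy h1 h2
  obtain ⟨L', U', e2, hL'⟩ := product_shape xs zs 61 hx hz h1 h3
  set D := dotN xs ys with hD
  set D' := dotN xs zs with hD'
  have hBp : 0 < BB ^ 61 := pow_pos BB_pos _
  have hlt : ∀ L : ℕ, L * BB ≤ 800 * 61 * BB ^ 61 → L < BB ^ 61 := by
    intro L hL
    by_contra hn
    have h3 : BB ^ 61 ≤ L := by omega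
    have h4 : BB ^ 61 * BB ≤ L * BB := Nat.mul_le_mul_right _ h3
    have h6 : (800 * 61) * BB ^ 61 < BB ^ 61 * BB := by
      rw [mul_comm (BB ^ 61) BB]
      exact Nat.mul_lt_mul_of_pos_right (by norm_num [BB]) hBp
    omega
  have hLlt := hlt L hL
  have hL'lt := hlt L' hL'
  have hA : evE xs * evR ys < BB ^ 124 := by
    have h4 := evE_lt xs h1
    have h5 := evR_lt ys h2
    rw [hx] at h4
    rw [hy] at h5
    calc evE xs * evR ys < BB ^ 62 * BB ^ 62 := Nat.mul_lt_mul'' h4 h5
      _ = BB ^ 124 := by rw [← pow_add]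
  -- the value after the shift
  have e3 : Nat.shiftRight (Nat.mul (evE xs) (evR ys + BB ^ 124 * evR zs)) 976 =
      D + U * BB + BB ^ 63 * (evE xs * evR zs) := by
    show (evE xs * (evR ys + BB ^ 124 * evR zs)) >>> 976 = _
    rw [Nat.shiftRight_eq_div_pow, show (2 : ℕ) ^ 976 = BB ^ 61 by rw [show BB = 2 ^ 16 by norm_num [BB], ← pow_mul]]
    have e4 : evE xs * (evR ys + BB ^ 124 * evR zs) =
        L + BB ^ 61 * (D + U * BB + BB ^ 63 * (evE xs * evR zs)) := by
      rw [mul_add, e1]
      have : BB ^ 124 = BB ^ 61 * BB ^ 63 := by rw [← pow_add]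
      rw [show evE xs * (BB ^ 124 * evR zs) = BB ^ 124 * (evE xs * evR zs) by ring, this]
      ring
    rw [e4, Nat.add_mul_div_left _ _ hBp, Nat.div_eq_of_lt hLlt, zero_add]
  rw [e3, land_mask]
  have hB16 : BB = 16 * 4096 := by norm_num [BB]
  have e5 : (D + U * BB + BB ^ 63 * (evE xs * evR zs)) % 16 = D % 16 := by
    have : BB ^ 63 = 16 * (4096 * BB ^ 62) := by
      rw [pow_succ' BB 62, hB16]
      ring
    rw [this, hB16]
    have e6 : D + U * (16 * 4096) + 16 * (4096 * (16 * 4096) ^ 62) * (evE xs * evR zs) =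
        D + 16 * (U * 4096 + (4096 * (16 * 4096) ^ 62) * (evE xs * evR zs)) := by ring
    rw [e6, Nat.add_mul_mod_self_left]
  have e7 : (D + U * BB + BB ^ 63 * (evE xs * evR zs)) >>> 1984 = D' + U' * BB := by
    rw [Nat.shiftRight_eq_div_pow, show (2 : ℕ) ^ 1984 = BB ^ 124 by rw [show BB = 2 ^ 16 by norm_num [BB], ← pow_mul], e2]
    have e8 : D + U * BB + BB ^ 63 * (L' + D' * BB ^ 61 + U' * BB ^ (61 + 1)) =
        (D + U * BB + BB ^ 63 * L') + BB ^ 124 * (D' + U' * BB) := by
      have e9 : BB ^ 124 = BB ^ 63 * BB ^ 61 := by rw [← pow_add]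
      rw [e9, pow_succ BB 61]
      ring
    have hY : D + U * BB + BB ^ 63 * L' < BB ^ 124 := by
      have e10 : evE xs * evR ys = L + BB ^ 61 * (D + U * BB) := by
        rw [e1, pow_succ BB 61]
        ring
      have h4 : BB ^ 61 * (D + U * BB) < BB ^ 124 := by
        rw [e10] at hA
        omega
      have e9 : BB ^ 124 = BB ^ 61 * BB ^ 63 := by rw [← pow_add]
      rw [e9] at h4
      have h5 : D + U * BB < BB ^ 63 := Nat.lt_of_mul_lt_mul_left h4
      have h6 : L' + 1 ≤ BB ^ 61 := hL'lt
      have e11 : BB ^ 124 = BB ^ 63 * BB ^ 61 := by rw [← pow_add]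
      rw [e11]
      have h7 : BB ^ 63 * (L' + 1) ≤ BB ^ 63 * BB ^ 61 := Nat.mul_le_mul_left _ h6
      rw [mul_add, mul_one] at h7
      omega
    rw [e8, Nat.add_mul_div_left _ _ (pow_pos BB_pos _), Nat.div_eq_of_lt hY, zero_add]
  rw [e7, e5]
  have e12 : (D' + U' * BB) % 16 = D' % 16 := by
    rw [hB16]
    have : D' + U' * (16 * 4096) = D' + 16 * (U' * 4096) := by ring
    rw [this, Nat.add_mul_mod_self_left]
  rw [e12]

/-! ### Rows -/

/-- the numbers `0, ..., 55` -/
def r56 : List ℕ := [0,1,2,3,4,5,6,7,8,9,10,11,12,13,14,15,16,17,18,19,20,21,22,23,24,25,26,27,28,29,30,31,32,33,34,35,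
  36,37,38,39,40,41,42,43,44,45,46,47,48,49,50,51,52,53,54,55]

theorem r56_eq : r56 = List.range 56 := by decide

/-- the digits of a number -/
def idD (i : ℕ) : List ℕ := [i % 16, (i / 16) % 16, (i / 256) % 16]

/-- the digits of a coded vector -/
def dl (F : ℕ) : List ℕ := r56.map (dg F)

/-- the digits of `i` times a coded vector -/
def jd (F a : ℕ) : ℕ := if a < 28 then 32 - dg F (a + 28) else dg F (a - 28)

def jl (F : ℕ) : List ℕ := r56.map (jd F)

/-- a row -/
def mkRow (i F : ℕ) : ℕ × ℕ :=
  (evE (idD i ++ dl F ++ [0, 0, 0]),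
    evR ([0, 0, 0] ++ dl F ++ idD i) + BB ^ 124 * evR ([0, 0, 0] ++ jl F ++ idD i))

/-- the relation on rows -/
noncomputable def WW (r s : ℕ × ℕ) : ℕ :=
  Bool.rec 0 1 (Nat.beq (Nat.land (Nat.shiftRight (Nat.mul r.1 s.2) 976) MM) 0)

/-- the relation on vectors -/
def PP (x y : RuVec) : Prop := (16 : ℤ) ∣ dot x y ∧ (16 : ℤ) ∣ dot x (gI • y)

theorem dotN_map (l : List ℕ) (f g : ℕ → ℕ) : dotN (l.map f) (l.map g) = (l.map fun i => f i * g i).sum := by
  induction l with
  | nil => rfl
  | cons a l ih =>
    simp only [List.map_cons, dotN, List.sum_cons, ih]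

theorem dotN_append (xs ys xs' ys' : List ℕ) (h : xs.length = ys.length) :
    dotN (xs ++ xs') (ys ++ ys') = dotN xs ys + dotN xs' ys' := by
  induction xs generalizing ys with
  | nil =>
    cases ys with
    | nil => simp [dotN]
    | cons y ys => simp at h
  | cons x xs ih =>
    cases ys with
    | nil => simp at h
    | cons y ys =>
      simp only [List.length_cons, Nat.add_right_cancel_iff] at h
      simp only [List.cons_append, dotN, ih _ h]
      ring

theorem sum_r56 (f : ℕ → ℕ) : (r56.map f).sum = ∑ a ∈ range 56, f a := by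
  rw [r56_eq, ← List.sum_toFinset _ List.nodup_range, List.toFinset_range]

/-- the digits of the coded vectors are small -/
def Small (F : ℕ) : Prop := ∀ a < 56, 12 ≤ dg F a ∧ dg F a ≤ 20

theorem dotN_dl (i j F G : ℕ) : dotN (idD i ++ dl F ++ [0, 0, 0]) ([0, 0, 0] ++ dl G ++ idD j) =
    ∑ a ∈ range 56, dg F a * dg G a := by
  rw [dotN_append _ _ _ _ (by simp [idD, dl, r56]), dotN_append _ _ _ _ (by simp [idD])]
  simp only [idD, dotN, dl, dotN_map, sum_r56]
  simp

theorem dotN_jl (i j F G : ℕ) : dotN (idD i ++ dl F ++ [0, 0, 0]) ([0, 0, 0] ++ jl G ++ idD j) =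
    ∑ a ∈ range 56, dg F a * jd G a := by
  rw [dotN_append _ _ _ _ (by simp [idD, dl, jl, r56]), dotN_append _ _ _ _ (by simp [idD])]
  simp only [idD, dotN, dl, jl, dotN_map, sum_r56]
  simp

theorem dot_vec_dvd (F G : ℕ) : (16 : ℤ) ∣ dot (vec F) (vec G) ↔ (∑ a ∈ range 56, dg F a * dg G a) % 16 = 0 := by
  have h1 : dot (vec F) (vec G) = ((∑ a ∈ range 56, dg F a * dg G a : ℕ) : ℤ) +
      16 * ∑ a ∈ range 56, (16 - (dg F a : ℤ) - (dg G a : ℤ)) := by
    rw [dot_eq, Finset.mul_sum]
    push_cast
    rw [← Finset.sum_add_distrib]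
    refine Finset.sum_congr rfl fun a ha => ?_
    rw [cc_vec _ _ (Finset.mem_range.1 ha), cc_vec _ _ (Finset.mem_range.1 ha), ent, ent]
    ring
  rw [h1, Int.dvd_add_left (Dvd.intro _ rfl)]
  omega

theorem cc_i_vec (G : ℕ) (hG : Small G) (a : ℕ) (ha : a < 56) : cc (gI • vec G) a = (jd G a : ℤ) - 16 := by
  by_cases h : a < 28
  · rw [cc_i_low _ _ h, cc_vec _ _ (by omega), ent, jd, if_pos h]
    have := (hG (a + 28) (by omega)).2
    omega
  · obtain ⟨b, rfl⟩ : ∃ b, a = b + 28 := ⟨a - 28, by omega⟩
    rw [cc_i_high _ _ (by omega), cc_vec _ _ (by omega), ent, jd, if_neg h]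
    simp

theorem dot_i_vec_dvd (F G : ℕ) (hG : Small G) :
    (16 : ℤ) ∣ dot (vec F) (gI • vec G) ↔ (∑ a ∈ range 56, dg F a * jd G a) % 16 = 0 := by
  have h1 : dot (vec F) (gI • vec G) = ((∑ a ∈ range 56, dg F a * jd G a : ℕ) : ℤ) +
      16 * ∑ a ∈ range 56, (16 - (dg F a : ℤ) - (jd G a : ℤ)) := by
    rw [dot_eq, Finset.mul_sum]
    push_cast
    rw [← Finset.sum_add_distrib]
    refine Finset.sum_congr rfl fun a ha => ?_
    rw [cc_vec _ _ (Finset.mem_range.1 ha), cc_i_vec G hG a (Finset.mem_range.1 ha), ent]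
    ring
  rw [h1, Int.dvd_add_left (Dvd.intro _ rfl)]
  omega

open scoped Classical in
theorem WW_iff (r s : ℕ × ℕ) : WW r s = if Nat.land (Nat.shiftRight (Nat.mul r.1 s.2) 976) MM = 0 then 1 else 0 := by
  unfold WW
  generalize Nat.land (Nat.shiftRight (Nat.mul r.1 s.2) 976) MM = t
  by_cases h : t = 0
  · subst h
    rfl
  · rw [if_neg h]
    have h3 : Nat.beq t 0 = false := by
      cases h4 : Nat.beq t 0
      · rfl
      · exact absurd (Nat.eq_of_beq_eq_true h4) h
    rw [h3]

open scoped Classical in
theorem WW_mk (i j F G : ℕ) (hi : i < 4096) (hj : j < 4096) (hF : Small F) (hG : Small G) :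
    WW (mkRow i F) (mkRow j G) = if PP (vec F) (vec G) then 1 else 0 := by
  have hid : ∀ i : ℕ, ∀ a ∈ idD i, a ≤ 20 := by
    intro i a ha
    simp only [idD, List.mem_cons, List.not_mem_nil, or_false] at ha
    rcases ha with rfl | rfl | rfl <;> omega
  have hdl : ∀ F : ℕ, Small F → ∀ a ∈ dl F, a ≤ 20 := by
    intro F hF a ha
    obtain ⟨b, hb, rfl⟩ := List.mem_map.1 ha
    rw [r56_eq, List.mem_range] at hb
    exact (hF b hb).2
  have hjl : ∀ a ∈ jl G, a ≤ 20 := by
    intro a ha
    obtain ⟨b, hb, rfl⟩ := List.mem_map.1 ha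
    rw [r56_eq, List.mem_range] at hb
    unfold jd
    split_ifs with h
    · have := (hG (b + 28) (by omega)).1
      omega
    · exact (hG (b - 28) (by omega)).2
  have key := digits_two (idD i ++ dl F ++ [0, 0, 0]) ([0, 0, 0] ++ dl G ++ idD j) ([0, 0, 0] ++ jl G ++ idD j)
    (by simp [idD, dl, r56]) (by simp [idD, dl, r56]) (by simp [idD, jl, r56])
    (by
      intro a ha
      simp only [List.mem_append, List.mem_cons, List.not_mem_nil, or_false] at ha
      rcases ha with (ha | ha) | ha
      · exact hid i a ha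
      · exact hdl F hF a ha
      · rcases ha with rfl | rfl | rfl <;> omega)
    (by
      intro a ha
      simp only [List.mem_append, List.mem_cons, List.not_mem_nil, or_false] at ha
      rcases ha with (ha | ha) | ha
      · rcases ha with rfl | rfl | rfl <;> omega
      · exact hdl G hG a ha
      · exact hid j a ha)
    (by
      intro a ha
      simp only [List.mem_append, List.mem_cons, List.not_mem_nil, or_false] at ha
      rcases ha with (ha | ha) | ha
      · rcases ha with rfl | rfl | rfl <;> omega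
      · exact hjl a ha
      · exact hid j a ha)
  rw [dotN_dl, dotN_jl] at key
  have e1 : (mkRow i F).1 = evE (idD i ++ dl F ++ [0, 0, 0]) := rfl
  have e2 : (mkRow j G).2 = evR ([0, 0, 0] ++ dl G ++ idD j) + BB ^ 124 * evR ([0, 0, 0] ++ jl G ++ idD j) := rfl
  rw [WW_iff, e1, e2]
  refine if_congr ?_ rfl rfl
  unfold PP
  rw [dot_vec_dvd, dot_i_vec_dvd F G hG]
  exact key

end Cfsg.Agent.Lib.RuBr
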