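import Cfsg.Agent.Lib.RuBrEnum
import Cfsg.Agent.Lib.RuBrW
import Cfsg.Agent.Lib.GraphRefine2

/-!
# The 4060 classes of minimal vectors of the Rudvalis lattice

`enum`: every vector of norm 16 in the span `LL` is a unit multiple of one of the vectors `rp j`, `j < 4060`.
`rp_unique`: different numbers give different classes.
-/

set_option autoImplicit false
set_option maxRecDepth 1000000
set_option Elab.async false
set_option linter.unusedSectionVars false
set_option linter.unusedVariables false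

namespace Cfsg.Agent.Lib.RuBr

open Cfsg.Spor Cfsg.Agent.RuLat Finset

/-- the code of a minimal vector -/
def fAt (j : ℕ) : ℕ := (FsC.getD (j / 64) []).getD (j % 64) 0

/-- the minimal vectors -/
def rp (j : ℕ) : RuVec := vec (fAt j)

/-- repunits and powers as numbers -/
def R28 : ℕ := nat_lit 0x1000100010001000100010001000100010001000100010001000100010001000100010001000100010001000100010001000100010001

def R56 : ℕ := R28 + 2 ^ 448 * R28

def B28 : ℕ := 2 ^ 448

theorem rep28_eq : rep28 = R28 := by decide +kernel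

theorem rep56_eq : rep56 = R56 := by decide +kernel

theorem B28_eq : BB ^ 28 = B28 := by decide +kernel

/-- the value of a unit multiple as a difference of numbers -/
def uePair (F k : ℕ) : ℕ × ℕ :=
  match k % 4 with
  | 0 => (F, 16 * R56)
  | 1 => (16 * R28 + B28 * (F % B28), F / B28 + B28 * (16 * R28))
  | 2 => (16 * R56, F)
  | _ => (F / B28 + B28 * (16 * R28), 16 * R28 + B28 * (F % B28))

theorem uev_eq (F k : ℕ) : uev F k = ((uePair F k).1 : ℤ) - ((uePair F k).2 : ℤ) := by
  unfold uev uePair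
  simp only
  rw [rep28_eq, rep56_eq, ← B28_eq]
  have h4 : k % 4 < 4 := Nat.mod_lt _ (by norm_num)
  generalize k % 4 = m at h4 ⊢
  interval_cases m <;> simp <;> ring

/-! ### The norm -/

/-- the square of a coordinate -/
def natsq (d : ℕ) : ℕ := Nat.add (Nat.mul (Nat.sub d 16) (Nat.sub d 16)) (Nat.mul (Nat.sub 16 d) (Nat.sub 16 d))

theorem natsq_eq (d : ℕ) : ((natsq d : ℕ) : ℤ) = ((d : ℤ) - 16) ^ 2 := by
  show ((((d - 16) * (d - 16) + (16 - d) * (16 - d) : ℕ)) : ℤ) = _
  by_cases h : d ≤ 16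
  · rw [Nat.sub_eq_zero_of_le h]
    push_cast
    rw [Nat.cast_sub h]
    ring
  · have h2 : 16 ≤ d := by omega
    rw [Nat.sub_eq_zero_of_le h2]
    push_cast
    rw [Nat.cast_sub h2]
    ring

theorem dg_succ' (F a : ℕ) : dg (F / BB) a = dg F (a + 1) := by
  rw [dg_eq, dg_eq, Nat.div_div_eq_div_mul, pow_succ, mul_comm]

theorem dg_zero' (F : ℕ) : dg F 0 = F % BB := by
  rw [dg_eq]
  simp

/-- the sum of the squares of the coordinates of a coded vector -/
@[reducible] noncomputable def rnL (l : List ℕ) : ℕ → ℕ :=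
  List.rec (motive := fun _ => ℕ → ℕ) (fun _ => 0)
    (fun _ _ ih F => Nat.add (natsq (Nat.mod F 65536)) (ih (Nat.div F 65536))) l

theorem rnL_spec (l : List ℕ) (F : ℕ) : rnL l F = ∑ a ∈ range l.length, natsq (dg F a) := by
  induction l generalizing F with
  | nil => rfl
  | cons x l ih =>
    show natsq (F % BB) + rnL l (F / BB) = _
    rw [ih, List.length_cons, Finset.sum_range_succ', dg_zero', add_comm]
    simp only [dg_succ']

/-- the norm of a coded vector -/
noncomputable def rnorm (F : ℕ) : ℕ := rnL r56 F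

theorem norm_vec (F : ℕ) : ruNorm (vec F) = rnorm F := by
  rw [norm_eq]
  unfold rnorm
  rw [rnL_spec, show r56.length = 56 from rfl]
  push_cast
  refine Finset.sum_congr rfl fun a ha => ?_
  rw [cc_vec _ _ (Finset.mem_range.1 ha), natsq_eq, ent]

theorem small_of_norm (F : ℕ) (h : rnorm F = 16) : Small F := by
  intro a ha
  have h1 := sq_cc_le (vec F) a ha
  rw [norm_vec, h, cc_vec _ _ ha, ent] at h1
  have h2 : ((dg F a : ℤ) - 16) ^ 2 ≤ 16 := by exact_mod_cast h1
  have h3 : |(dg F a : ℤ) - 16| ≤ 4 := by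
    apply abs_le_of_sq_le_sq' _ (by norm_num) |> fun h => abs_le.2 h
    nlinarith
  rw [abs_le] at h3
  omega

/-- the checks on the codes -/
theorem chk_codes : (List.range 4060).all (fun j => Nat.beq (rnorm (fAt j)) 16 && Nat.blt (fAt j) (2 ^ 896)) = true := by
  decide +kernel

theorem rp_data {j : ℕ} (hj : j < 4060) : rnorm (fAt j) = 16 ∧ fAt j < BB ^ 56 := by
  have h := List.all_eq_true.1 chk_codes j (List.mem_range.2 hj)
  rw [Bool.and_eq_true] at h
  refine ⟨Nat.eq_of_beq_eq_true h.1, ?_⟩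
  have h2 : fAt j < 2 ^ 896 := by
    have := h.2
    simpa [Nat.blt_eq] using this
  have e : BB ^ 56 = 2 ^ 896 := by
    rw [show BB = 2 ^ 16 by norm_num [BB], ← pow_mul]
  rw [e]
  exact h2

theorem norm_rp {j : ℕ} (hj : j < 4060) : ruNorm (rp j) = 16 := by
  rw [rp, norm_vec, (rp_data hj).1]
  rfl

theorem small_rp {j : ℕ} (hj : j < 4060) : Small (fAt j) := small_of_norm _ (rp_data hj).1

theorem ev_um_rp {j : ℕ} (hj : j < 4060) (k : ℕ) : ev (um k (rp j)) = uev (fAt j) k :=
  ev_um _ _ (rp_data hj).2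

/-! ### The tables -/

/-- a number from bits -/
@[reducible] noncomputable def sprL (l : List ℕ) : ℕ → ℕ :=
  List.rec (motive := fun _ => ℕ → ℕ) (fun _ => 0)
    (fun _ _ ih u => Nat.add (Nat.mod u 2) (Nat.mul 65536 (ih (Nat.div u 2)))) l

theorem sprL_spec (l : List ℕ) (u : ℕ) :
    ((sprL l u : ℕ) : ℤ) = ∑ a ∈ range l.length, ((u.testBit a).toNat : ℤ) * (BB : ℤ) ^ a := by
  induction l generalizing u with
  | nil => rfl
  | cons x l ih =>
    show ((u % 2 + 65536 * sprL l (u / 2) : ℕ) : ℤ) = _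
    rw [List.length_cons, Finset.sum_range_succ']
    push_cast
    rw [ih]
    simp only [Nat.testBit_succ, Nat.testBit_zero]
    have h : ((decide (u % 2 = 1)).toNat : ℤ) = ((u % 2 : ℕ) : ℤ) := by
      rcases Nat.mod_two_eq_zero_or_one u with h | h <;> simp [h]
    rw [h]
    simp only [pow_succ, Finset.mul_sum]
    have e : (BB : ℤ) = 65536 := rfl
    simp only [e, pow_zero, mul_one]
    push_cast
    rw [add_comm]
    congr 1
    refine Finset.sum_congr rfl fun a _ => ?_
    ring

/-- a number from bits -/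
noncomputable def spr (u : ℕ) : ℕ := sprL r56 u

theorem spr_cast (u : ℕ) : ((spr u : ℕ) : ℤ) = ∑ a ∈ range 56, ((u.testBit a).toNat : ℤ) * (BB : ℤ) ^ a := by
  unfold spr
  rw [sprL_spec]
  rfl

theorem chk_tbl : tbl.all (fun t => let a := spr t.1; t.2.all fun s =>
    Nat.beq (a + (uePair (fAt (s.2 / 4)) (s.2 % 4)).2) (2 * spr s.1 + (uePair (fAt (s.2 / 4)) (s.2 % 4)).1) &&
      Nat.blt (s.2 / 4) 4060) = true := by
  decide +kernel

theorem chk_zt : zt.length = 56 ∧ (List.range 56).all (fun a =>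
    Nat.beq (4 * 65536 ^ a + (uePair (fAt (zt.getD a 0 / 4)) (zt.getD a 0 % 4)).2)
      (uePair (fAt (zt.getD a 0 / 4)) (zt.getD a 0 % 4)).1 && Nat.blt (zt.getD a 0 / 4) 4060) = true := by
  decide +kernel

/-! ### Unit multiples -/

theorem um_add (a b : ℕ) (x : RuVec) : um (a + b) x = um a (um b x) := by
  induction a with
  | zero => simp [um]
  | succ a ih =>
    rw [show a + 1 + b = (a + b) + 1 by ring]
    show gI • um (a + b) x = gI • um a (um b x)
    rw [ih]

theorem uev_add_two (F k : ℕ) : uev F (k + 2) = - uev F k := by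
  unfold uev
  simp only
  have h4 : k % 4 < 4 := Nat.mod_lt _ (by norm_num)
  have h5 : (k + 2) % 4 = (k % 4 + 2) % 4 := by omega
  rw [h5]
  generalize k % 4 = m at h4 ⊢
  interval_cases m <;> simp

theorem solsOf_spec (w : ℕ) (s : ℕ × ℕ) (h : s ∈ solsOf w) : ∃ t ∈ tbl, t.1 = w ∧ s ∈ t.2 := by
  have key : ∀ l : List (ℕ × List (ℕ × ℕ)),
      s ∈ (List.rec (motive := fun _ => List (ℕ × ℕ)) [] (fun t _ ih => Bool.rec ih t.2 (Nat.beq t.1 w)) l) →
      ∃ t ∈ l, t.1 = w ∧ s ∈ t.2 := by
    intro l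
    induction l with
    | nil => intro h; simp at h
    | cons t l ih =>
      intro h
      show ∃ t_1 ∈ t :: l, t_1.1 = w ∧ s ∈ t_1.2
      change s ∈ (Bool.rec (List.rec (motive := fun _ => List (ℕ × ℕ)) [] (fun t _ ih => Bool.rec ih t.2 (Nat.beq t.1 w)) l)
        t.2 (Nat.beq t.1 w) : List (ℕ × ℕ)) at h
      cases h1 : Nat.beq t.1 w with
      | true =>
        rw [h1] at h
        exact ⟨t, List.mem_cons_self, Nat.eq_of_beq_eq_true h1, h⟩
      | false =>
        rw [h1] at h
        obtain ⟨u, hu, hu2⟩ := ih h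
        exact ⟨u, List.mem_cons_of_mem _ hu, hu2⟩
  exact key tbl h

/-- The enumeration of the vectors of norm 16. -/
theorem enum {x : RuVec} (hx : x ∈ LL) (hn : ruNorm x = 16) : ∃ j, j < 4060 ∧ ∃ k, x = um k (rp j) := by
  have hn' : ruNorm x ≤ 256 := by rw [hn]; norm_num
  have hrp : ∀ j, j < 4060 → ∀ k, ruNorm (um k (rp j)) ≤ 256 := by
    intro j hj k
    rw [um_norm, norm_rp hj]
    norm_num
  rcases words_main hx hn with ⟨h0, hz⟩ | ⟨h16, s, hs, hsz⟩
  · obtain ⟨a, ha, ha4, hb⟩ := coords_of_zero x hn h0 hz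
    have hev : ev x = cc x a * (BB : ℤ) ^ a := by
      unfold ev
      rw [Finset.sum_eq_single a]
      · intro b hb1 hba
        rw [hb b (Finset.mem_range.1 hb1) hba, zero_mul]
      · intro h
        exact absurd (Finset.mem_range.2 ha) h
    have hz1 := List.all_eq_true.1 chk_zt.2 a (List.mem_range.2 ha)
    rw [Bool.and_eq_true] at hz1
    set c := zt.getD a 0 with hc
    have hj : c / 4 < 4060 := by
      have := hz1.2
      simpa [Nat.blt_eq] using this
    have h1 := Nat.eq_of_beq_eq_true hz1.1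
    have h2 : uev (fAt (c / 4)) (c % 4) = 4 * (BB : ℤ) ^ a := by
      rw [uev_eq]
      have h3 : ((4 * 65536 ^ a + (uePair (fAt (c / 4)) (c % 4)).2 : ℕ) : ℤ) = ((uePair (fAt (c / 4)) (c % 4)).1 : ℤ) := by
        rw [h1]
      push_cast at h3
      rw [← h3]
      have : (BB : ℤ) = 65536 := rfl
      rw [this]
      ring
    rcases ha4 with ha4 | ha4
    · refine ⟨c / 4, hj, c % 4, ev_inj hn' (hrp _ hj _) ?_⟩
      rw [hev, ha4, ev_um_rp hj, h2]
    · refine ⟨c / 4, hj, c % 4 + 2, ev_inj hn' (hrp _ hj _) ?_⟩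
      rw [hev, ha4, ev_um_rp hj, uev_add_two, h2]
      ring
  · obtain ⟨t, ht, htw, hst⟩ := solsOf_spec _ _ hs
    have h1 := List.all_eq_true.1 (List.all_eq_true.1 chk_tbl t ht) s hst
    rw [Bool.and_eq_true] at h1
    have hj : s.2 / 4 < 4060 := by
      have := h1.2
      simpa [Nat.blt_eq] using this
    have h2 := Nat.eq_of_beq_eq_true h1.1
    refine ⟨s.2 / 4, hj, s.2 % 4, ev_inj hn' (hrp _ hj _) ?_⟩
    rw [ev_um_rp hj, uev_eq]
    have hc : cnt 56 (wW x) = 16 := by rw [← popc_spec]; exact h16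
    have h3 : ev x = ((spr (wW x) : ℕ) : ℤ) - 2 * ((spr (wZ x) : ℕ) : ℤ) := by
      rw [spr_cast, spr_cast, Finset.mul_sum, ← Finset.sum_sub_distrib]
      unfold ev
      refine Finset.sum_congr rfl fun a ha => ?_
      rw [coords_of_sixteen x hn hc a (Finset.mem_range.1 ha)]
      ring
    rw [h3, ← htw, ← hsz]
    have h4 : ((spr t.1 + (uePair (fAt (s.2 / 4)) (s.2 % 4)).2 : ℕ) : ℤ) =
        ((2 * spr s.1 + (uePair (fAt (s.2 / 4)) (s.2 % 4)).1 : ℕ) : ℤ) := by
      exact_mod_cast h2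
    push_cast at h4
    linarith

/-! ### Uniqueness -/

theorem chk_canon : (List.range 4060).all (fun j =>
    (List.range 3).all fun k =>
      Nat.blt ((uePair (fAt j) (k + 1)).1 + (uePair (fAt j) 0).2) ((uePair (fAt j) 0).1 + (uePair (fAt j) (k + 1)).2)) = true := by
  decide +kernel

theorem chk_nd : Cfsg.Agent.Lib.GraphRefine.ndChk 732313 ((List.range 4060).map fAt) 0 = true := by
  decide +kernel

theorem uev_le {j : ℕ} (hj : j < 4060) (k : ℕ) : uev (fAt j) k ≤ uev (fAt j) 0 := by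
  have hk : uev (fAt j) k = uev (fAt j) (k % 4) := by
    unfold uev
    simp only [Nat.mod_mod]
  rw [hk]
  have h4 : k % 4 < 4 := Nat.mod_lt _ (by norm_num)
  generalize k % 4 = m at h4 ⊢
  by_cases hm : m = 0
  · rw [hm]
  · have h1 := List.all_eq_true.1 (List.all_eq_true.1 chk_canon j (List.mem_range.2 hj)) (m - 1)
      (List.mem_range.2 (by omega))
    rw [Nat.sub_add_cancel (by omega)] at h1
    have h2 : (uePair (fAt j) m).1 + (uePair (fAt j) 0).2 < (uePair (fAt j) 0).1 + (uePair (fAt j) m).2 := by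
      simpa [Nat.blt_eq] using h1
    rw [uev_eq, uev_eq]
    have h3 : (((uePair (fAt j) m).1 + (uePair (fAt j) 0).2 : ℕ) : ℤ) < (((uePair (fAt j) 0).1 + (uePair (fAt j) m).2 : ℕ) : ℤ) := by
      exact_mod_cast h2
    push_cast at h3
    linarith

theorem um_eq_of_mod (n : ℕ) (x : RuVec) (h : n % 4 = 0) : um n x = x := by
  rw [← um_mod, h]
  rfl

theorem rp_unique {j j' k l : ℕ} (hj : j < 4060) (hj' : j' < 4060) (h : um k (rp j) = um l (rp j')) : j = j' := by
  -- `rp j'` is a unit multiple of `rp j`, and conversely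
  have h1 : rp j' = um (4 - l % 4 + k) (rp j) := by
    rw [um_add, h, ← um_add]
    exact (um_eq_of_mod _ _ (by omega)).symm
  have h2 : rp j = um (4 - k % 4 + l) (rp j') := by
    rw [um_add, ← h, ← um_add]
    exact (um_eq_of_mod _ _ (by omega)).symm
  have h3 : uev (fAt j') 0 ≤ uev (fAt j) 0 := by
    have := uev_le hj (4 - l % 4 + k)
    rw [← ev_um_rp hj, ← h1, ← ev_um_rp hj 0] at this
    rw [← ev_um_rp hj' 0, ← ev_um_rp hj 0]
    exact this
  have h4 : uev (fAt j) 0 ≤ uev (fAt j') 0 := by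
    have := uev_le hj' (4 - k % 4 + l)
    rw [← ev_um_rp hj', ← h2, ← ev_um_rp hj' 0] at this
    rw [← ev_um_rp hj' 0, ← ev_um_rp hj 0]
    exact this
  have h5 : fAt j = fAt j' := by
    have h6 := le_antisymm h3 h4
    rw [uev_eq, uev_eq] at h6
    simp only [uePair, Nat.zero_mod] at h6
    omega
  have hnd := (Cfsg.Agent.Lib.GraphRefine.ndChk_spec _ _ _ chk_nd).2
  have hinj := List.inj_on_of_nodup_map hnd
  exact hinj (List.mem_range.2 hj) (List.mem_range.2 hj') h5

end Cfsg.Agent.Lib.RuBr
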