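import Cfsg.Agent.Lib.RuLatMin

/-!
# The span of the explicit basis lies in the Rudvalis lattice
-/

set_option autoImplicit false
set_option maxRecDepth 1000000
set_option Elab.async false
set_option linter.unusedVariables false

namespace Cfsg.Agent.Lib.RuBr

open Cfsg.Spor Cfsg.Agent.RuLat

/-- the maps generating the monomial group -/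
def opMap : ℕ → RuVec → RuVec
  | 0 => fun v => gI • v
  | 1 => ruRj
  | 2 => ruRk
  | 3 => ruSign
  | _ => ruShift

/-- apply a word of maps to a vector of the table -/
def opWord (t : ℕ) (w : List ℕ) : RuVec := w.foldr opMap (ruTable.getD t 0)

theorem table_mem (v : RuVec) (h : v ∈ ruTable) : v ∈ ruLattice := by
  rw [ruLattice, AddSubgroup.mem_sInf]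
  exact fun L hL => hL.1 v h

theorem op_mem (o : ℕ) (v : RuVec) (h : v ∈ ruLattice) : opMap o v ∈ ruLattice := by
  rw [ruLattice, AddSubgroup.mem_sInf] at h ⊢
  intro L hL
  obtain ⟨h1, h2, h3, h4, h5⟩ := hL.2 v (h L hL)
  match o with
  | 0 => exact h1
  | 1 => exact h2
  | 2 => exact h3
  | 3 => exact h4
  | _ + 4 => exact h5

theorem word_mem (t : ℕ) (w : List ℕ) (ht : t < ruTable.length) : opWord t w ∈ ruLattice := by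
  induction w with
  | nil =>
    apply table_mem
    show ruTable.getD t 0 ∈ ruTable
    rw [List.getD_eq_getElem _ _ ht]
    exact List.getElem_mem ht
  | cons o w ih => exact op_mem o _ ih

/-- the words -/
def gWords : List (ℕ × List ℕ) := [(0,[]),(0,[0]),(0,[1]),(0,[2]),(0,[4]),(0,[4,0]),(0,[2,1]),(0,[4,1]),(0,[4,2]),(0,[4,4]),(0,[3,1,0]),(0,[1,2,0]),(0,[3,2,0]),(0,[4,4,0]),(0,[4,2,1]),(0,[4,4,1]),(0,[4,4,2]),(0,[4,4,4]),(0,[4,3,1,0]),(0,[4,1,2,0]),(0,[4,3,2,0]),(0,[4,4,4,0]),(0,[4,4,2,1]),(0,[4,4,4,1]),(0,[4,4,4,2]),(0,[4,4,4,4]),(0,[4,4,3,1,0]),(0,[4,4,1,2,0]),(0,[4,4,3,2,0]),(0,[4,4,4,4,0]),(0,[4,4,4,2,1]),(0,[4,4,4,4,1]),(0,[4,4,4,4,2]),(0,[4,4,4,4,4]),(0,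[4,4,4,3,1,0]),(0,[4,4,4,1,2,0]),(0,[4,4,4,3,2,0]),(0,[4,4,4,4,4,0]),(0,[4,4,4,4,2,1]),(0,[4,4,4,4,4,1]),(0,[4,4,4,4,4,2]),(0,[4,4,4,4,4,4]),(0,[4,4,4,4,3,1,0]),(0,[4,4,4,4,1,2,0]),(0,[4,4,4,4,3,2,0]),(0,[4,4,4,4,4,4,0]),(0,[4,4,4,4,4,2,1]),(0,[4,4,4,4,4,4,1]),(0,[4,4,4,4,4,4,2]),(0,[4,4,4,4,4,3,1,0]),(0,[4,4,4,4,4,1,2,0]),(0,[4,4,4,4,4,3,2,0]),(0,[4,4,4,4,4,4,2,1]),(0,[4,4,4,4,4,4,3,1,0]),(0,[4,4,4,4,4,4,1,2,0]),(0,[4,4,4,4,4,4,3,2,0]),(2,[4,4,3,4,4,4,2,1,0]),(11,[4,4,4,4,3,4,2,0]),(16,[3,4,2,0]),(7,[3,4,4,1,2,0]),(12,[4,4,4,3,4,4,4,4,2,1,0]),(13,[4,4,4,4,4,3,4,4,2,1]),(11,[4,4,4,3,4,4,0,0]),(3,[4,4,4,2,1]),(11,[4,4,4,4,4,4,3]),(17,[4,4,3,4,4,4,0,0]),(10,[4,3,4,3,1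,2]),(5,[4,4,4,4,4,3,4,4,4,2,0,0,0]),(5,[4,4,4,3,4,4,4,4,1,2]),(8,[4,4,4,4,3,4,4,4,4,1,2,0]),(1,[3,4,4,3,4,2,1]),(10,[3,4,4,4,4,4,1,0,0,0]),(4,[4,4,4,4,3,4,4,1]),(16,[3,4,3]),(9,[4,4,4,4,0]),(12,[4,4,4,3,4,4,4,4,2,1]),(13,[4,3,4,4,2]),(18,[4,4,3,2,1,0]),(11,[4,4,4,4,3,4,2,1,0]),(7,[4,3,4,4,4,4,4,4,2,1]),(12,[4,4,4,3,4,0,0]),(13,[4,4,4,4,3,4,0,0]),(10,[3,4,4,4,4,3,0,0]),(13,[4,4,4,3,4,4,1]),(12,[4,3,2,0]),(16,[3,4,3,4,3]),(17,[4,4,3,4,4,4,4,4,4,2,0,0]),(8,[4,4,3,4,4,4,4,4,4,1,0,0,0]),(17,[3,4,4,4,1,2,0]),(13,[4,4,4,4,3,4,4,4,4,1,0]),(14,[3,4,4,4,4,4,4,0]),(7,[4,4,3,4,4,1,2,0]),(5,[3,4,1,2])]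

/-- the vectors of the words -/
def gVecN : List (List ℕ) := [[12,8,8,8,8,8,8,8,8,8,8,8,8,8,8,8,8,8,8,8,8,8,8,8,8,8,8,8,8,8,8,8,8,8,8,8,8,8,8,8,8,8,8,8,8,8,8,8,8,8,8,8,8,8,8,8],
[8,8,8,8,8,8,8,8,8,8,8,8,8,8,8,8,8,8,8,8,8,8,8,8,8,8,8,8,12,8,8,8,8,8,8,8,8,8,8,8,8,8,8,8,8,8,8,8,8,8,8,8,8,8,8,8],
[8,8,8,8,8,8,8,8,8,8,8,8,8,8,8,8,8,8,8,8,8,8,8,8,8,8,8,8,8,12,8,8,8,8,8,8,8,8,8,8,8,8,8,8,8,8,8,8,8,8,8,8,8,8,8,8],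
[8,8,8,8,8,8,8,8,8,8,8,8,8,8,8,8,8,8,8,8,8,8,8,8,8,8,8,8,8,8,12,8,8,8,8,8,8,8,8,8,8,8,8,8,8,8,8,8,8,8,8,8,8,8,8,8],
[8,8,8,8,8,8,8,8,8,8,8,8,8,8,8,8,8,8,8,8,8,8,8,8,12,8,8,8,8,8,8,8,8,8,8,8,8,8,8,8,8,8,8,8,8,8,8,8,8,8,8,8,8,8,8,8],
[8,8,8,8,8,8,8,8,8,8,8,8,8,8,8,8,8,8,8,8,8,8,8,8,8,8,8,8,8,8,8,8,8,8,8,8,8,8,8,8,8,8,8,8,8,8,8,8,8,8,8,8,12,8,8,8],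
[8,8,8,8,8,8,8,8,8,8,8,8,8,8,8,8,8,8,8,8,8,8,8,8,8,8,8,8,8,8,8,12,8,8,8,8,8,8,8,8,8,8,8,8,8,8,8,8,8,8,8,8,8,8,8,8],
[8,8,8,8,8,8,8,8,8,8,8,8,8,8,8,8,8,8,8,8,8,8,8,8,8,8,8,8,8,8,8,8,8,8,8,8,8,8,8,8,8,8,8,8,8,8,8,8,8,8,8,8,8,12,8,8],
[8,8,8,8,8,8,8,8,8,8,8,8,8,8,8,8,8,8,8,8,8,8,8,8,8,8,8,8,8,8,8,8,8,8,8,8,8,8,8,8,8,8,8,8,8,8,8,8,8,8,8,8,8,8,12,8],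
[8,8,8,8,8,8,8,8,8,8,8,8,8,8,8,8,8,8,8,8,12,8,8,8,8,8,8,8,8,8,8,8,8,8,8,8,8,8,8,8,8,8,8,8,8,8,8,8,8,8,8,8,8,8,8,8],
[8,12,8,8,8,8,8,8,8,8,8,8,8,8,8,8,8,8,8,8,8,8,8,8,8,8,8,8,8,8,8,8,8,8,8,8,8,8,8,8,8,8,8,8,8,8,8,8,8,8,8,8,8,8,8,8],
[8,8,8,12,8,8,8,8,8,8,8,8,8,8,8,8,8,8,8,8,8,8,8,8,8,8,8,8,8,8,8,8,8,8,8,8,8,8,8,8,8,8,8,8,8,8,8,8,8,8,8,8,8,8,8,8],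
[8,8,12,8,8,8,8,8,8,8,8,8,8,8,8,8,8,8,8,8,8,8,8,8,8,8,8,8,8,8,8,8,8,8,8,8,8,8,8,8,8,8,8,8,8,8,8,8,8,8,8,8,8,8,8,8],
[8,8,8,8,8,8,8,8,8,8,8,8,8,8,8,8,8,8,8,8,8,8,8,8,8,8,8,8,8,8,8,8,8,8,8,8,8,8,8,8,8,8,8,8,8,8,8,8,12,8,8,8,8,8,8,8],
[8,8,8,8,8,8,8,8,8,8,8,8,8,8,8,8,8,8,8,8,8,8,8,8,8,8,8,8,8,8,8,8,8,8,8,8,8,8,8,8,8,8,8,8,8,8,8,8,8,8,8,8,8,8,8,12],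
[8,8,8,8,8,8,8,8,8,8,8,8,8,8,8,8,8,8,8,8,8,8,8,8,8,8,8,8,8,8,8,8,8,8,8,8,8,8,8,8,8,8,8,8,8,8,8,8,8,12,8,8,8,8,8,8],
[8,8,8,8,8,8,8,8,8,8,8,8,8,8,8,8,8,8,8,8,8,8,8,8,8,8,8,8,8,8,8,8,8,8,8,8,8,8,8,8,8,8,8,8,8,8,8,8,8,8,12,8,8,8,8,8],
[8,8,8,8,8,8,8,8,8,8,8,8,8,8,8,8,12,8,8,8,8,8,8,8,8,8,8,8,8,8,8,8,8,8,8,8,8,8,8,8,8,8,8,8,8,8,8,8,8,8,8,8,8,8,8,8],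
[8,8,8,8,8,8,8,8,8,8,8,8,8,8,8,8,8,8,8,8,8,8,8,8,8,12,8,8,8,8,8,8,8,8,8,8,8,8,8,8,8,8,8,8,8,8,8,8,8,8,8,8,8,8,8,8],
[8,8,8,8,8,8,8,8,8,8,8,8,8,8,8,8,8,8,8,8,8,8,8,8,8,8,8,12,8,8,8,8,8,8,8,8,8,8,8,8,8,8,8,8,8,8,8,8,8,8,8,8,8,8,8,8],
[8,8,8,8,8,8,8,8,8,8,8,8,8,8,8,8,8,8,8,8,8,8,8,8,8,8,12,8,8,8,8,8,8,8,8,8,8,8,8,8,8,8,8,8,8,8,8,8,8,8,8,8,8,8,8,8],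
[8,8,8,8,8,8,8,8,8,8,8,8,8,8,8,8,8,8,8,8,8,8,8,8,8,8,8,8,8,8,8,8,8,8,8,8,8,8,8,8,8,8,8,8,12,8,8,8,8,8,8,8,8,8,8,8],
[8,8,8,8,8,8,8,8,8,8,8,8,8,8,8,8,8,8,8,8,8,8,8,8,8,8,8,8,8,8,8,8,8,8,8,8,8,8,8,8,8,8,8,8,8,8,8,8,8,8,8,12,8,8,8,8],
[8,8,8,8,8,8,8,8,8,8,8,8,8,8,8,8,8,8,8,8,8,8,8,8,8,8,8,8,8,8,8,8,8,8,8,8,8,8,8,8,8,8,8,8,8,12,8,8,8,8,8,8,8,8,8,8],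
[8,8,8,8,8,8,8,8,8,8,8,8,8,8,8,8,8,8,8,8,8,8,8,8,8,8,8,8,8,8,8,8,8,8,8,8,8,8,8,8,8,8,8,8,8,8,12,8,8,8,8,8,8,8,8,8],
[8,8,8,8,8,8,8,8,8,8,8,8,12,8,8,8,8,8,8,8,8,8,8,8,8,8,8,8,8,8,8,8,8,8,8,8,8,8,8,8,8,8,8,8,8,8,8,8,8,8,8,8,8,8,8,8],
[8,8,8,8,8,8,8,8,8,8,8,8,8,8,8,8,8,8,8,8,8,12,8,8,8,8,8,8,8,8,8,8,8,8,8,8,8,8,8,8,8,8,8,8,8,8,8,8,8,8,8,8,8,8,8,8],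
[8,8,8,8,8,8,8,8,8,8,8,8,8,8,8,8,8,8,8,8,8,8,8,12,8,8,8,8,8,8,8,8,8,8,8,8,8,8,8,8,8,8,8,8,8,8,8,8,8,8,8,8,8,8,8,8],
[8,8,8,8,8,8,8,8,8,8,8,8,8,8,8,8,8,8,8,8,8,8,12,8,8,8,8,8,8,8,8,8,8,8,8,8,8,8,8,8,8,8,8,8,8,8,8,8,8,8,8,8,8,8,8,8],
[8,8,8,8,8,8,8,8,8,8,8,8,8,8,8,8,8,8,8,8,8,8,8,8,8,8,8,8,8,8,8,8,8,8,8,8,8,8,8,8,12,8,8,8,8,8,8,8,8,8,8,8,8,8,8,8],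
[8,8,8,8,8,8,8,8,8,8,8,8,8,8,8,8,8,8,8,8,8,8,8,8,8,8,8,8,8,8,8,8,8,8,8,8,8,8,8,8,8,8,8,8,8,8,8,12,8,8,8,8,8,8,8,8],
[8,8,8,8,8,8,8,8,8,8,8,8,8,8,8,8,8,8,8,8,8,8,8,8,8,8,8,8,8,8,8,8,8,8,8,8,8,8,8,8,8,12,8,8,8,8,8,8,8,8,8,8,8,8,8,8],
[8,8,8,8,8,8,8,8,8,8,8,8,8,8,8,8,8,8,8,8,8,8,8,8,8,8,8,8,8,8,8,8,8,8,8,8,8,8,8,8,8,8,12,8,8,8,8,8,8,8,8,8,8,8,8,8],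
[8,8,8,8,8,8,8,8,12,8,8,8,8,8,8,8,8,8,8,8,8,8,8,8,8,8,8,8,8,8,8,8,8,8,8,8,8,8,8,8,8,8,8,8,8,8,8,8,8,8,8,8,8,8,8,8],
[8,8,8,8,8,8,8,8,8,8,8,8,8,8,8,8,8,12,8,8,8,8,8,8,8,8,8,8,8,8,8,8,8,8,8,8,8,8,8,8,8,8,8,8,8,8,8,8,8,8,8,8,8,8,8,8],
[8,8,8,8,8,8,8,8,8,8,8,8,8,8,8,8,8,8,8,12,8,8,8,8,8,8,8,8,8,8,8,8,8,8,8,8,8,8,8,8,8,8,8,8,8,8,8,8,8,8,8,8,8,8,8,8],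
[8,8,8,8,8,8,8,8,8,8,8,8,8,8,8,8,8,8,12,8,8,8,8,8,8,8,8,8,8,8,8,8,8,8,8,8,8,8,8,8,8,8,8,8,8,8,8,8,8,8,8,8,8,8,8,8],
[8,8,8,8,8,8,8,8,8,8,8,8,8,8,8,8,8,8,8,8,8,8,8,8,8,8,8,8,8,8,8,8,8,8,8,8,12,8,8,8,8,8,8,8,8,8,8,8,8,8,8,8,8,8,8,8],
[8,8,8,8,8,8,8,8,8,8,8,8,8,8,8,8,8,8,8,8,8,8,8,8,8,8,8,8,8,8,8,8,8,8,8,8,8,8,8,8,8,8,8,12,8,8,8,8,8,8,8,8,8,8,8,8],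
[8,8,8,8,8,8,8,8,8,8,8,8,8,8,8,8,8,8,8,8,8,8,8,8,8,8,8,8,8,8,8,8,8,8,8,8,8,12,8,8,8,8,8,8,8,8,8,8,8,8,8,8,8,8,8,8],
[8,8,8,8,8,8,8,8,8,8,8,8,8,8,8,8,8,8,8,8,8,8,8,8,8,8,8,8,8,8,8,8,8,8,8,8,8,8,12,8,8,8,8,8,8,8,8,8,8,8,8,8,8,8,8,8],
[8,8,8,8,12,8,8,8,8,8,8,8,8,8,8,8,8,8,8,8,8,8,8,8,8,8,8,8,8,8,8,8,8,8,8,8,8,8,8,8,8,8,8,8,8,8,8,8,8,8,8,8,8,8,8,8],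
[8,8,8,8,8,8,8,8,8,8,8,8,8,12,8,8,8,8,8,8,8,8,8,8,8,8,8,8,8,8,8,8,8,8,8,8,8,8,8,8,8,8,8,8,8,8,8,8,8,8,8,8,8,8,8,8],
[8,8,8,8,8,8,8,8,8,8,8,8,8,8,8,12,8,8,8,8,8,8,8,8,8,8,8,8,8,8,8,8,8,8,8,8,8,8,8,8,8,8,8,8,8,8,8,8,8,8,8,8,8,8,8,8],
[8,8,8,8,8,8,8,8,8,8,8,8,8,8,12,8,8,8,8,8,8,8,8,8,8,8,8,8,8,8,8,8,8,8,8,8,8,8,8,8,8,8,8,8,8,8,8,8,8,8,8,8,8,8,8,8],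
[8,8,8,8,8,8,8,8,8,8,8,8,8,8,8,8,8,8,8,8,8,8,8,8,8,8,8,8,8,8,8,8,12,8,8,8,8,8,8,8,8,8,8,8,8,8,8,8,8,8,8,8,8,8,8,8],
[8,8,8,8,8,8,8,8,8,8,8,8,8,8,8,8,8,8,8,8,8,8,8,8,8,8,8,8,8,8,8,8,8,8,8,8,8,8,8,12,8,8,8,8,8,8,8,8,8,8,8,8,8,8,8,8],
[8,8,8,8,8,8,8,8,8,8,8,8,8,8,8,8,8,8,8,8,8,8,8,8,8,8,8,8,8,8,8,8,8,12,8,8,8,8,8,8,8,8,8,8,8,8,8,8,8,8,8,8,8,8,8,8],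
[8,8,8,8,8,8,8,8,8,8,8,8,8,8,8,8,8,8,8,8,8,8,8,8,8,8,8,8,8,8,8,8,8,8,12,8,8,8,8,8,8,8,8,8,8,8,8,8,8,8,8,8,8,8,8,8],
[8,8,8,8,8,8,8,8,8,12,8,8,8,8,8,8,8,8,8,8,8,8,8,8,8,8,8,8,8,8,8,8,8,8,8,8,8,8,8,8,8,8,8,8,8,8,8,8,8,8,8,8,8,8,8,8],
[8,8,8,8,8,8,8,8,8,8,8,12,8,8,8,8,8,8,8,8,8,8,8,8,8,8,8,8,8,8,8,8,8,8,8,8,8,8,8,8,8,8,8,8,8,8,8,8,8,8,8,8,8,8,8,8],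
[8,8,8,8,8,8,8,8,8,8,12,8,8,8,8,8,8,8,8,8,8,8,8,8,8,8,8,8,8,8,8,8,8,8,8,8,8,8,8,8,8,8,8,8,8,8,8,8,8,8,8,8,8,8,8,8],
[8,8,8,8,8,8,8,8,8,8,8,8,8,8,8,8,8,8,8,8,8,8,8,8,8,8,8,8,8,8,8,8,8,8,8,12,8,8,8,8,8,8,8,8,8,8,8,8,8,8,8,8,8,8,8,8],
[8,8,8,8,8,12,8,8,8,8,8,8,8,8,8,8,8,8,8,8,8,8,8,8,8,8,8,8,8,8,8,8,8,8,8,8,8,8,8,8,8,8,8,8,8,8,8,8,8,8,8,8,8,8,8,8],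
[8,8,8,8,8,8,8,12,8,8,8,8,8,8,8,8,8,8,8,8,8,8,8,8,8,8,8,8,8,8,8,8,8,8,8,8,8,8,8,8,8,8,8,8,8,8,8,8,8,8,8,8,8,8,8,8],
[8,8,8,8,8,8,12,8,8,8,8,8,8,8,8,8,8,8,8,8,8,8,8,8,8,8,8,8,8,8,8,8,8,8,8,8,8,8,8,8,8,8,8,8,8,8,8,8,8,8,8,8,8,8,8,8],
[7,8,7,7,8,8,8,9,9,8,8,8,8,8,8,8,8,8,8,8,9,9,8,9,8,8,8,8,8,9,8,8,7,9,7,8,8,7,7,9,8,8,8,8,8,8,8,8,8,8,7,8,8,8,8,8],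
[8,7,7,8,8,8,8,8,7,8,9,8,8,7,8,8,8,8,7,8,8,7,8,8,8,8,8,7,8,8,8,8,8,9,8,7,8,7,8,7,8,8,7,8,8,8,8,9,7,8,8,8,8,9,8,8],
[9,8,8,9,8,8,8,9,8,8,8,8,8,8,8,9,8,7,9,8,8,9,8,7,7,8,9,8,8,8,8,8,8,8,9,8,8,8,9,7,8,9,8,8,8,8,8,8,8,8,8,8,8,9,8,9],
[9,7,8,8,8,8,8,8,8,8,8,8,9,8,8,8,8,8,8,8,7,8,8,7,8,8,9,8,8,8,8,8,8,8,7,9,9,8,7,8,8,8,8,7,8,9,8,9,8,9,7,8,8,7,8,8],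
[7,8,8,9,8,8,8,8,8,8,8,8,8,7,8,8,8,8,8,8,9,8,8,8,8,9,8,9,8,7,7,8,9,8,8,9,9,7,8,8,7,8,8,8,9,8,9,8,8,8,8,9,8,8,8,8],
[8,7,7,8,8,8,8,8,8,8,8,8,8,9,8,8,8,8,8,8,7,8,8,8,8,9,8,7,9,8,8,7,7,8,8,9,9,9,8,8,7,8,8,8,7,8,9,8,8,8,8,9,8,8,8,8],
[9,8,8,8,8,7,8,7,9,9,7,7,8,8,8,8,9,9,8,8,8,8,8,8,8,8,8,7,8,8,8,7,8,8,8,8,8,8,8,8,7,8,8,9,8,8,8,8,8,8,7,9,8,9,8,8],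
[8,8,7,8,8,8,8,8,8,7,8,8,7,7,7,8,8,9,9,9,8,8,8,8,8,8,8,8,9,7,8,9,8,8,8,8,7,8,9,9,8,8,8,9,7,8,8,8,8,8,8,8,8,8,8,8],
[8,7,8,7,7,7,9,9,8,8,8,8,9,9,8,8,8,8,8,8,8,8,8,9,7,8,8,8,8,8,8,8,8,8,8,8,7,8,8,9,8,8,8,8,8,8,7,9,8,7,8,8,8,8,8,9],
[8,8,8,7,8,7,8,9,7,9,9,7,8,7,8,8,7,9,8,8,7,8,8,8,8,9,8,8,7,8,8,8,8,8,8,8,8,8,8,8,8,8,7,8,8,8,8,8,8,7,8,8,8,8,8,9],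
[8,8,8,7,8,9,8,8,7,8,9,8,8,8,8,7,7,8,8,8,8,9,9,8,8,8,8,8,8,8,9,8,9,8,8,8,8,8,8,8,7,8,8,8,8,8,9,8,9,8,8,7,9,8,8,9],
[8,8,7,8,8,8,7,8,9,8,8,8,7,8,9,8,9,8,8,8,8,8,8,8,9,8,9,8,8,9,8,8,8,8,8,7,8,7,8,8,8,8,8,8,8,8,8,9,8,9,8,9,8,9,8,7],
[8,9,7,8,8,8,8,8,8,8,9,8,8,7,8,8,8,7,8,8,8,7,7,8,8,8,9,8,9,8,8,9,9,8,8,7,8,8,8,9,9,8,8,8,8,8,8,9,8,8,8,8,9,8,8,8],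
[8,9,8,8,7,7,8,8,8,8,7,9,8,9,8,8,8,7,9,8,8,8,8,8,9,8,8,7,8,8,9,8,8,8,8,8,8,8,8,8,8,8,8,9,8,8,8,8,8,9,8,7,8,7,7,8],
[8,8,9,8,8,8,8,8,8,7,8,8,7,9,9,8,8,7,9,7,8,8,8,8,8,8,8,8,9,7,8,7,8,8,8,8,9,8,7,9,8,8,8,9,7,8,8,8,8,8,8,8,8,8,8,8],
[8,8,8,8,8,8,7,8,9,9,8,8,8,7,8,8,8,8,8,8,8,8,8,8,9,8,7,8,8,7,7,8,9,8,8,8,8,8,9,7,8,8,9,8,9,7,8,8,8,8,9,7,8,8,8,8],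
[8,8,8,7,8,7,7,7,8,8,8,8,8,8,8,8,8,8,7,8,8,8,8,8,9,8,9,9,9,9,7,8,9,8,8,8,8,8,8,8,8,8,8,8,7,9,8,9,8,8,8,8,8,7,8,8],
[8,8,7,8,8,8,8,8,8,9,8,8,8,8,8,7,9,8,8,8,8,8,8,8,9,7,7,9,8,7,8,8,7,7,8,8,9,8,8,8,8,7,8,8,8,8,8,9,8,7,8,7,8,8,8,8],
[8,8,8,8,8,8,8,8,8,8,9,8,8,8,8,8,8,9,8,8,8,8,8,9,7,8,8,8,7,8,9,8,8,9,7,8,7,8,8,8,9,9,7,7,8,8,7,8,8,8,7,8,8,9,8,8],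
[8,7,7,8,9,8,8,9,9,7,8,8,7,8,8,8,9,8,9,8,8,8,8,9,8,8,8,8,9,8,8,7,8,8,8,8,8,8,8,8,8,9,8,8,8,8,8,8,7,8,8,8,8,7,8,7],
[8,9,8,8,8,9,8,8,8,8,8,8,8,8,7,8,8,7,8,9,8,9,8,8,7,7,8,8,9,8,8,8,8,8,8,7,8,7,9,8,9,8,8,8,7,8,7,8,8,8,9,8,8,8,8,8],
[9,7,8,8,8,7,8,8,8,8,8,7,8,8,8,8,8,8,8,8,9,8,8,9,8,8,8,8,8,8,8,8,9,8,8,8,8,9,8,8,8,7,9,8,8,9,8,9,8,9,7,8,7,8,8,9],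
[8,8,8,7,9,8,8,8,7,8,8,9,8,8,8,8,8,8,8,7,8,7,8,8,9,8,9,8,9,8,8,8,8,8,9,8,8,9,9,8,9,8,8,7,8,8,7,8,9,8,8,8,8,8,8,8],
[8,9,7,8,8,7,8,8,8,8,8,8,8,8,9,7,9,8,7,8,8,8,8,9,8,9,8,9,9,8,8,9,8,8,7,8,9,7,8,8,8,8,8,8,8,8,8,8,9,8,8,8,8,8,8,8],
[8,9,8,8,8,8,8,9,7,8,8,8,9,7,9,7,8,8,8,8,8,8,7,8,8,8,8,8,8,8,8,9,9,8,8,8,8,8,7,8,8,8,8,8,7,8,8,7,8,8,8,7,8,8,9,9],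
[9,8,8,8,8,8,9,8,9,7,9,7,7,8,8,9,8,8,8,9,8,8,7,9,8,8,8,7,8,8,8,9,9,8,8,8,8,8,8,8,8,8,8,8,8,8,9,8,8,8,8,8,8,7,8,8],
[8,7,8,8,8,8,8,7,8,8,8,8,7,7,9,9,7,8,8,7,8,8,8,8,8,8,7,7,8,8,8,9,9,8,8,8,8,9,8,7,8,8,8,8,8,8,8,8,7,9,8,8,8,8,8,8],
[8,8,8,8,8,7,8,7,8,8,9,9,8,8,7,8,8,8,9,8,8,8,7,7,9,8,7,8,8,9,9,8,8,8,8,8,9,7,8,8,8,9,8,8,8,8,8,7,8,8,8,8,8,8,8,8],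
[8,7,8,8,7,9,8,8,8,9,8,8,8,9,8,8,8,8,8,8,8,8,7,8,9,8,9,8,8,8,9,8,8,8,8,8,7,8,8,8,8,8,8,9,8,7,7,8,7,8,8,8,8,7,8,9],
[8,8,8,8,8,9,8,8,8,8,8,7,7,8,8,8,8,8,8,8,7,9,9,7,8,8,9,8,9,9,8,8,9,8,8,8,8,7,8,8,8,8,8,7,8,7,8,7,8,8,8,8,8,9,8,8],
[7,8,8,9,8,8,8,9,8,8,8,8,8,8,8,7,8,7,7,8,8,7,8,7,8,9,8,9,8,8,8,8,8,8,7,8,8,8,9,9,8,9,8,8,8,8,8,8,8,8,8,8,9,8,7,8],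
[9,8,8,7,8,8,8,9,8,7,8,8,8,8,8,7,8,8,8,7,8,8,8,8,9,9,8,8,8,8,8,8,8,8,9,8,7,8,8,8,8,9,8,8,9,8,8,8,8,9,8,9,8,8,9,7],
[8,8,7,9,8,8,8,8,9,8,8,8,7,8,8,8,9,8,8,9,8,9,8,8,8,8,8,9,8,8,8,8,7,8,7,8,8,8,8,9,8,8,9,8,8,9,7,8,8,8,9,8,8,8,7,8],
[8,9,8,8,8,8,8,9,8,8,8,8,8,8,8,8,8,9,9,8,8,8,8,8,7,9,8,8,8,8,9,8,8,8,9,8,8,8,9,9,7,8,9,8,8,8,8,8,8,7,8,7,8,8,9,9],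
[8,8,8,8,8,8,8,8,8,7,8,8,8,8,8,8,7,8,8,8,7,8,9,8,8,7,9,8,8,7,8,7,9,7,9,7,8,8,7,8,7,7,8,8,8,7,8,8,8,8,8,8,8,8,8,8],
[8,8,8,8,9,8,8,8,8,8,8,8,7,8,8,7,8,8,9,8,9,7,8,8,8,8,8,8,9,8,7,8,8,8,8,7,8,9,8,9,8,9,7,8,8,7,8,8,8,8,8,8,8,8,7,9],
[8,8,8,8,8,8,7,8,8,9,8,8,8,7,8,8,8,7,7,8,8,8,7,8,8,9,7,8,7,8,8,9,8,8,8,7,7,8,8,8,8,8,8,9,8,8,8,8,7,8,8,8,9,8,8,9]]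

def gVecs : List (List ℤ) := gVecN.map fun l => l.map fun n => (n : ℤ) - 8

/-- the coefficients of the basis -/
def gCoefN : List (List ℕ) := [[8,6,8,7,7,7,6,9,8,8,6,9,11,8,6,7,10,6,6,7,8,9,10,7,10,9,6,7,9,8,8,7,7,8,8,9,8,7,9,10,8,8,10,10,7,7,6,7,10,7,8,8,8,10,7,10,11,8,8,11,10,8,10,9,8,8,9,8,8,11,9,9,9,10,11,9,10,8,11,11,11,8,10,9,8,10,8,9,11,11,8,8,11],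
[8,4,8,7,6,6,7,8,10,8,10,8,13,10,6,7,10,7,5,8,7,8,8,10,8,12,8,8,9,10,7,4,9,6,8,8,6,8,7,10,6,8,10,10,8,5,6,7,10,8,9,6,9,9,7,9,10,10,10,9,11,10,10,11,9,8,10,9,10,10,8,10,10,10,11,11,8,8,8,10,8,9,11,11,11,11,11,10,9,10,9,11,9],
[8,5,9,7,6,6,8,8,9,10,9,11,12,8,5,9,9,7,6,7,6,10,9,10,9,11,7,7,8,9,6,8,8,7,9,8,8,8,7,10,7,8,9,10,7,6,5,8,9,7,10,6,10,9,5,9,11,9,9,9,9,9,10,10,10,11,11,10,9,9,11,10,9,11,9,10,9,9,11,10,8,10,8,8,10,11,11,8,9,9,10,8,11],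
[6,6,8,8,7,7,7,8,9,9,10,10,13,9,5,7,10,7,4,8,8,8,8,7,8,11,6,6,8,10,5,6,8,6,8,8,8,8,8,9,7,8,10,10,7,6,7,7,10,7,10,7,8,11,6,9,11,10,10,11,11,11,11,9,10,10,10,8,8,11,8,10,11,11,11,10,9,10,9,11,8,10,11,8,8,11,9,11,11,10,8,10,11],
[8,6,10,8,7,7,7,8,8,8,9,9,12,10,4,9,9,8,6,8,9,10,8,8,10,10,9,8,10,10,6,8,8,8,7,8,7,7,6,9,8,8,12,9,8,6,5,8,8,7,9,6,10,11,8,9,10,11,8,9,11,10,11,11,10,10,8,8,10,8,10,9,10,10,9,8,9,9,10,9,10,8,11,11,9,8,8,8,11,11,11,10,11],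
[5,6,9,7,7,8,7,8,8,10,10,9,11,9,4,8,9,7,7,9,8,10,9,7,9,11,6,9,9,10,7,9,6,7,7,7,6,7,7,8,7,9,9,8,8,6,6,9,9,7,10,7,8,11,8,8,8,8,9,11,8,10,11,11,11,10,9,9,8,9,9,9,9,11,8,8,9,11,9,9,9,10,11,11,9,11,8,8,11,11,9,8,10],
[9,6,7,6,6,6,7,9,9,8,9,10,11,10,4,8,9,8,6,8,8,10,11,9,9,11,8,8,9,9,7,6,9,9,9,10,7,8,8,9,9,8,10,11,6,6,6,7,9,7,8,6,10,8,5,9,11,11,8,9,9,8,8,8,9,10,11,9,8,11,10,8,10,11,9,10,8,8,10,8,11,9,11,9,11,11,11,9,10,11,8,11,10],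
[7,5,9,7,6,7,9,9,9,10,11,9,13,10,8,7,11,6,6,8,6,9,7,8,9,10,8,7,8,10,5,7,8,6,8,8,8,9,7,9,8,9,8,10,9,7,5,8,10,9,9,8,8,10,6,8,10,10,8,11,10,11,11,11,11,8,8,8,9,11,8,8,10,11,10,11,8,9,9,9,8,9,9,8,10,11,11,11,10,9,11,8,10],
[5,6,9,7,8,7,7,8,8,9,9,9,11,9,5,6,8,9,8,11,6,9,10,9,9,10,7,6,10,9,5,7,8,7,10,8,6,8,8,9,8,9,9,8,6,3,8,8,8,9,9,5,11,9,6,8,8,10,11,10,8,9,9,8,11,9,11,11,11,10,10,11,8,8,10,10,11,10,8,10,10,11,11,9,10,8,8,9,9,9,11,9,8],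
[7,7,7,8,5,7,9,8,9,9,9,10,10,9,6,6,9,9,6,10,7,9,8,9,8,9,9,9,9,10,8,7,9,8,9,9,9,8,7,9,8,8,10,10,7,5,8,8,8,7,9,7,10,10,7,10,10,11,8,9,8,10,11,8,8,10,9,10,8,10,9,11,10,8,8,8,9,10,10,8,11,9,9,10,9,10,11,10,8,8,10,9,10],
[6,5,8,9,6,8,6,9,9,8,10,9,11,8,5,6,9,7,7,6,6,9,9,8,10,12,7,9,8,8,5,7,7,7,8,8,7,8,8,8,6,8,10,10,7,5,7,9,10,7,9,7,9,9,8,10,8,8,10,11,8,8,8,11,9,9,10,11,8,8,9,11,11,10,9,8,9,11,9,11,8,8,11,9,11,10,9,9,10,9,8,11,8],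
[4,6,8,8,5,7,9,9,9,9,10,9,11,9,7,6,9,6,8,8,6,8,8,8,10,10,7,8,9,9,5,7,7,5,10,8,6,9,8,8,8,8,8,9,8,6,7,9,8,8,9,7,10,10,7,9,8,8,11,11,8,8,11,8,10,8,10,10,10,10,8,10,10,10,9,11,8,10,9,8,8,10,8,10,10,9,8,11,11,8,11,10,10],
[6,6,8,7,8,7,8,8,9,10,10,9,11,8,5,8,11,7,7,8,6,10,8,7,10,9,9,8,9,8,5,7,8,8,8,7,8,8,9,8,6,8,9,9,10,6,6,8,9,8,9,6,8,11,7,8,8,9,10,11,9,10,10,11,11,9,9,8,9,9,8,8,11,10,11,9,9,11,11,9,8,10,8,10,8,10,11,8,9,9,9,8,10],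
[7,4,8,8,6,8,8,10,9,8,9,10,12,9,7,7,8,8,8,9,6,10,7,9,10,12,7,6,9,8,7,6,9,6,8,7,5,9,7,8,7,7,9,8,9,7,6,8,7,10,8,7,10,9,6,8,11,8,10,8,9,10,9,11,9,10,8,10,8,10,8,8,10,9,9,11,11,8,11,8,9,11,10,9,10,8,8,10,10,8,11,11,8],
[6,6,10,7,8,8,7,8,8,8,9,8,11,9,4,7,9,7,6,8,7,9,9,7,9,9,7,7,9,10,5,8,7,8,9,9,7,6,7,10,8,9,10,9,6,5,7,8,8,8,9,7,9,11,5,8,9,11,11,11,11,8,10,9,11,10,9,10,8,10,11,9,8,10,8,9,10,11,9,11,11,9,11,9,9,8,9,9,10,11,10,8,9],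
[7,6,7,7,5,7,8,8,10,8,9,9,11,10,6,6,10,6,6,8,9,9,10,8,10,11,8,8,10,9,7,6,8,6,9,9,8,8,7,10,8,8,10,11,6,5,8,7,11,6,9,7,11,11,8,11,10,10,8,10,8,8,11,8,8,9,9,11,8,11,10,11,11,10,11,10,9,11,8,10,10,8,11,11,9,11,11,9,9,9,8,10,11],
[8,6,10,8,6,7,7,9,9,9,9,9,10,8,5,8,9,9,6,8,8,9,9,8,8,9,10,8,10,9,6,7,9,9,10,9,8,6,7,9,7,9,10,9,7,4,7,8,9,8,8,5,8,12,7,8,8,10,9,9,11,9,8,10,11,11,9,8,10,10,11,11,10,9,9,8,8,10,10,11,9,10,10,11,9,8,11,8,8,8,9,8,8],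
[7,7,10,7,7,6,7,7,9,9,9,8,13,10,6,7,9,7,7,9,7,9,8,9,8,10,8,7,9,9,5,8,9,7,10,7,9,8,6,10,7,9,10,9,7,6,8,8,9,7,9,6,11,9,7,9,9,11,10,9,9,10,10,10,9,9,10,11,10,10,8,9,8,11,10,9,10,9,8,11,8,10,10,8,10,8,10,8,8,8,11,8,11],
[6,6,10,5,8,7,8,9,9,9,11,9,11,10,5,7,10,9,6,9,5,8,9,8,10,9,9,7,8,9,5,6,8,9,9,9,7,10,8,8,6,9,8,9,8,5,7,8,7,10,8,6,9,9,4,7,8,11,11,10,9,9,8,10,11,9,11,8,9,11,8,8,8,8,10,11,9,11,10,9,8,9,10,8,11,8,11,11,9,10,11,8,8],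
[8,5,8,7,5,6,8,9,9,9,8,10,12,9,5,8,8,7,7,7,6,10,9,9,10,10,8,7,10,8,6,6,9,8,10,8,7,8,8,10,8,8,9,11,8,5,5,8,8,8,7,5,11,9,6,9,9,10,8,9,11,10,8,8,11,9,10,10,10,11,9,9,11,11,11,10,11,8,11,8,11,10,8,11,10,10,9,10,11,9,11,11,11],
[7,5,8,7,7,8,7,8,9,8,9,10,12,8,4,8,9,7,7,9,6,10,8,9,10,10,7,7,10,9,7,7,8,7,7,7,6,10,7,8,7,9,8,9,8,7,5,7,9,7,9,7,9,10,6,8,11,8,10,8,9,11,10,11,11,10,9,9,9,10,8,9,10,9,10,8,9,10,10,9,10,9,9,9,11,10,8,9,11,9,8,10,8],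
[7,6,9,7,7,8,7,8,8,7,9,9,11,9,3,7,10,9,7,9,5,10,9,8,8,10,8,8,9,11,6,8,8,9,8,8,6,8,6,9,8,8,11,9,7,4,6,8,7,8,9,6,10,9,6,9,11,11,11,10,11,8,10,11,8,10,11,10,9,9,10,8,10,9,8,8,9,11,10,8,11,9,10,9,11,8,9,8,9,11,11,10,9],
[6,5,9,8,6,7,7,9,9,9,10,10,12,9,4,7,9,8,6,8,8,10,9,8,9,10,8,7,10,9,5,7,9,8,10,9,6,7,7,7,8,8,9,10,7,6,6,9,8,8,8,6,10,12,6,9,9,8,11,10,8,11,8,10,11,11,9,9,10,10,10,9,10,11,9,10,9,11,9,11,9,8,11,11,9,8,9,10,9,8,11,11,11],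
[7,6,9,7,5,7,8,10,9,8,10,9,10,9,6,6,9,9,8,9,7,7,9,10,8,10,8,9,9,9,8,6,9,8,9,9,5,8,8,8,8,7,10,9,8,4,8,9,7,8,7,6,9,8,7,9,9,8,10,11,11,8,8,9,8,9,11,9,9,10,8,10,8,9,9,11,8,9,11,8,9,9,10,11,11,9,8,9,8,8,11,11,10],
[7,6,9,8,7,7,7,8,7,8,9,9,11,8,8,6,10,7,6,8,7,8,7,8,9,9,9,7,9,9,7,6,8,7,7,9,7,8,9,9,8,7,11,10,7,5,7,8,9,10,8,7,8,10,6,8,9,8,8,11,11,8,11,11,10,8,9,10,9,8,8,9,8,8,10,11,9,9,11,10,11,9,11,10,8,8,11,11,8,9,10,8,8],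
[8,8,8,8,8,8,8,8,8,8,8,8,8,8,8,8,8,8,9,8,8,8,8,8,8,8,8,8,8,8,8,8,8,8,8,8,8,8,8,8,8,8,8,8,8,8,8,8,8,8,8,8,8,8,8,8,8,8,8,8,8,8,8,8,8,8,8,8,8,8,8,8,8,8,8,8,8,8,8,8,8,8,8,8,8,8,8,8,8,8,8,8,8],
[8,8,8,8,8,8,8,8,8,8,8,8,8,8,8,8,8,8,8,8,9,8,8,8,8,8,8,8,8,8,8,8,8,8,8,8,8,8,8,8,8,8,8,8,8,8,8,8,8,8,8,8,8,8,8,8,8,8,8,8,8,8,8,8,8,8,8,8,8,8,8,8,8,8,8,8,8,8,8,8,8,8,8,8,8,8,8,8,8,8,8,8,8],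
[8,8,8,8,8,8,8,8,8,8,8,8,8,8,8,8,8,8,8,9,8,8,8,8,8,8,8,8,8,8,8,8,8,8,8,8,8,8,8,8,8,8,8,8,8,8,8,8,8,8,8,8,8,8,8,8,8,8,8,8,8,8,8,8,8,8,8,8,8,8,8,8,8,8,8,8,8,8,8,8,8,8,8,8,8,8,8,8,8,8,8,8,8],
[7,5,9,7,4,8,7,10,8,8,9,10,12,10,7,7,10,7,7,7,6,9,10,9,10,11,8,6,10,8,6,7,8,6,8,9,6,8,8,8,10,8,9,10,6,5,5,8,9,9,8,6,10,10,6,9,11,8,8,10,9,9,8,9,9,9,8,10,10,10,10,10,11,11,11,10,8,10,10,9,11,10,11,10,11,9,9,11,11,10,11,10,8],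
[8,6,8,6,7,7,8,8,9,9,7,9,10,9,6,8,9,8,7,9,7,9,10,10,10,10,8,7,9,9,8,7,8,7,9,8,7,9,8,10,8,9,8,9,7,6,6,8,9,9,8,6,11,9,6,8,10,10,8,8,8,9,8,8,10,8,8,9,9,11,10,10,9,9,11,8,9,8,9,9,10,11,9,10,9,11,10,9,9,11,11,9,9],
[8,6,7,7,7,7,8,8,8,8,8,9,10,9,7,7,9,7,7,8,8,11,9,8,11,9,8,8,10,7,8,6,8,7,9,9,7,8,8,9,8,8,9,9,7,7,6,7,10,8,7,7,9,10,7,9,10,8,9,9,8,9,10,9,10,8,8,10,9,9,10,9,10,9,11,9,10,8,10,8,11,8,11,11,8,8,11,9,9,9,8,8,9],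
[8,8,8,8,8,8,9,8,8,8,8,8,8,8,8,8,8,8,8,8,8,8,8,8,8,8,8,8,8,8,8,8,8,8,8,8,8,8,8,8,8,8,8,8,8,8,8,8,8,8,8,8,8,8,8,8,8,8,8,8,8,8,8,8,8,8,8,8,8,8,8,8,8,8,8,8,8,8,8,8,8,8,8,8,8,8,8,8,8,8,8,8,8],
[8,5,8,9,6,6,6,10,10,8,9,8,13,10,5,8,7,7,5,7,8,9,9,8,7,12,7,8,10,10,6,6,8,6,9,6,7,7,7,10,6,7,12,9,8,6,7,8,10,7,9,5,10,9,6,10,10,10,10,10,11,10,8,10,8,11,10,10,9,9,8,11,11,10,8,11,10,8,8,9,9,11,10,10,9,9,10,8,11,10,8,11,11],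
[7,4,9,9,7,6,8,8,10,9,9,9,13,10,6,9,7,6,7,7,6,11,8,8,11,10,9,8,9,8,5,6,9,8,10,7,8,10,7,8,5,7,10,10,9,8,6,9,7,8,8,7,12,10,5,9,8,11,11,8,8,10,10,11,11,10,8,9,10,9,8,8,11,11,8,11,11,8,11,8,9,8,8,8,8,8,11,10,11,8,10,10,11],
[7,4,9,8,7,7,7,9,8,9,7,9,11,9,5,7,9,9,5,8,6,10,9,8,8,10,7,9,9,9,7,7,8,8,10,9,5,6,7,8,8,8,10,9,7,6,5,8,8,9,8,7,9,10,5,9,11,8,11,11,10,11,8,10,8,11,8,8,11,11,11,9,10,9,8,8,10,9,9,9,10,8,11,9,8,9,9,11,10,11,10,10,9],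
[8,8,8,8,8,8,8,8,8,8,8,8,8,8,8,8,8,8,8,8,8,8,8,8,8,8,8,8,8,8,8,8,8,8,8,8,8,8,8,8,8,8,8,8,8,8,8,8,8,8,8,8,9,8,8,8,8,8,8,8,8,8,8,8,8,8,8,8,8,8,8,8,8,8,8,8,8,8,8,8,8,8,8,8,8,8,8,8,8,8,8,8,8],
[6,6,9,7,8,6,8,6,8,10,9,10,12,9,4,10,10,8,7,9,5,10,9,9,8,10,8,8,8,10,4,8,10,8,7,7,7,9,7,9,7,8,10,9,8,6,6,8,7,7,10,5,11,9,6,9,9,11,11,10,8,10,11,11,10,11,11,11,10,8,9,9,10,11,10,8,9,8,9,8,8,10,8,8,9,9,9,8,8,11,11,10,10],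
[7,5,7,7,5,7,8,8,10,9,10,10,12,9,4,7,9,8,6,8,6,10,9,8,8,10,8,8,8,10,5,8,9,9,9,8,8,7,7,9,9,9,8,11,7,6,6,8,9,7,9,6,10,11,7,9,9,11,9,9,8,11,9,9,10,11,11,10,9,11,9,8,11,10,8,8,8,11,8,10,9,8,9,10,10,10,10,9,10,8,10,11,9],
[7,4,9,8,5,7,7,9,9,8,8,9,13,9,6,6,9,6,6,7,6,10,8,7,10,10,8,7,10,8,5,8,8,7,10,8,7,7,7,9,9,8,10,11,7,6,5,8,9,8,8,7,10,10,6,10,10,9,8,11,11,11,9,10,9,9,8,11,11,11,10,9,10,11,10,9,11,11,10,9,11,8,9,9,9,9,9,11,11,9,10,10,11],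
[8,8,8,8,8,8,8,8,8,8,8,8,8,8,8,8,8,8,8,8,8,8,8,8,8,8,8,8,8,8,8,8,8,8,8,8,8,8,8,8,8,8,8,8,8,8,9,8,8,8,8,8,8,8,8,8,8,8,8,8,8,8,8,8,8,8,8,8,8,8,8,8,8,8,8,8,8,8,8,8,8,8,8,8,8,8,8,8,8,8,8,8,8],
[8,6,10,6,8,6,9,10,10,9,9,8,9,9,5,7,9,10,6,9,6,9,9,9,8,10,9,8,8,10,7,7,9,9,10,9,6,7,7,7,8,8,8,9,7,5,6,8,8,9,8,6,9,8,6,8,8,9,9,10,10,10,8,8,8,10,11,8,10,11,11,8,8,8,10,10,9,9,9,8,8,9,10,8,10,8,11,8,8,10,11,10,9],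
[6,6,9,7,6,8,9,8,8,8,10,10,10,8,6,9,9,7,7,8,8,9,9,8,9,10,9,7,9,8,6,7,8,8,8,9,6,7,8,8,6,7,9,9,8,6,7,8,7,8,9,5,9,11,6,8,8,10,10,8,8,8,10,9,10,11,10,9,9,8,11,10,9,11,9,11,8,11,11,8,8,10,8,11,8,8,10,9,8,9,8,8,8],
[7,4,9,7,5,7,7,9,7,8,7,10,12,7,5,9,8,7,6,8,7,10,9,9,8,9,7,8,10,10,7,7,8,8,7,7,6,6,7,10,5,8,10,10,9,6,7,8,7,6,8,6,8,9,7,9,10,9,10,9,11,11,11,11,8,10,11,9,9,9,8,11,10,11,8,8,11,8,11,10,10,10,8,11,11,8,8,9,8,11,8,9,8],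
[8,8,8,8,8,8,8,8,8,8,8,8,8,8,8,8,8,8,8,8,8,8,8,8,8,8,8,8,8,8,8,8,8,8,8,8,8,8,9,8,8,8,8,8,8,8,8,8,8,8,8,8,8,8,8,8,8,8,8,8,8,8,8,8,8,8,8,8,8,8,8,8,8,8,8,8,8,8,8,8,8,8,8,8,8,8,8,8,8,8,8,8,8],
[8,8,8,8,8,8,8,8,8,8,8,8,8,8,8,8,8,8,8,8,8,9,8,8,8,8,8,8,8,8,8,8,8,8,8,8,8,8,8,8,8,8,8,8,8,8,8,8,8,8,8,8,8,8,8,8,8,8,8,8,8,8,8,8,8,8,8,8,8,8,8,8,8,8,8,8,8,8,8,8,8,8,8,8,8,8,8,8,8,8,8,8,8],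
[8,8,8,8,8,8,8,8,8,8,8,8,8,8,8,8,8,8,8,8,8,8,8,9,8,8,8,8,8,8,8,8,8,8,8,8,8,8,8,8,8,8,8,8,8,8,8,8,8,8,8,8,8,8,8,8,8,8,8,8,8,8,8,8,8,8,8,8,8,8,8,8,8,8,8,8,8,8,8,8,8,8,8,8,8,8,8,8,8,8,8,8,8],
[8,6,7,9,7,8,9,7,8,8,9,10,10,8,8,8,8,7,8,9,7,9,7,8,10,8,8,7,8,8,6,8,8,7,8,8,9,8,8,9,7,8,8,8,8,8,8,7,8,7,8,8,9,9,8,9,10,10,8,8,8,10,10,8,10,8,8,10,8,8,8,10,10,8,8,8,10,8,10,8,8,8,8,8,8,8,8,8,8,8,8,8,8],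
[8,8,8,8,8,8,8,8,8,8,8,8,8,8,8,8,8,8,8,8,8,8,8,8,8,8,8,8,8,8,9,8,8,8,8,8,8,8,8,8,8,8,8,8,8,8,8,8,8,8,8,8,8,8,8,8,8,8,8,8,8,8,8,8,8,8,8,8,8,8,8,8,8,8,8,8,8,8,8,8,8,8,8,8,8,8,8,8,8,8,8,8,8],
[8,8,8,8,8,8,8,8,8,8,8,8,8,9,8,8,8,8,8,8,8,8,8,8,8,8,8,8,8,8,8,8,8,8,8,8,8,8,8,8,8,8,8,8,8,8,8,8,8,8,8,8,8,8,8,8,8,8,8,8,8,8,8,8,8,8,8,8,8,8,8,8,8,8,8,8,8,8,8,8,8,8,8,8,8,8,8,8,8,8,8,8,8],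
[8,8,8,8,8,8,8,8,8,8,8,8,8,8,8,9,8,8,8,8,8,8,8,8,8,8,8,8,8,8,8,8,8,8,8,8,8,8,8,8,8,8,8,8,8,8,8,8,8,8,8,8,8,8,8,8,8,8,8,8,8,8,8,8,8,8,8,8,8,8,8,8,8,8,8,8,8,8,8,8,8,8,8,8,8,8,8,8,8,8,8,8,8],
[8,8,8,8,8,8,8,8,8,8,8,8,8,8,8,8,9,8,8,8,8,8,8,8,8,8,8,8,8,8,8,8,8,8,8,8,8,8,8,8,8,8,8,8,8,8,8,8,8,8,8,8,8,8,8,8,8,8,8,8,8,8,8,8,8,8,8,8,8,8,8,8,8,8,8,8,8,8,8,8,8,8,8,8,8,8,8,8,8,8,8,8,8],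
[8,8,8,8,8,8,8,8,8,8,8,8,8,8,8,8,8,8,8,8,8,8,9,8,8,8,8,8,8,8,8,8,8,8,8,8,8,8,8,8,8,8,8,8,8,8,8,8,8,8,8,8,8,8,8,8,8,8,8,8,8,8,8,8,8,8,8,8,8,8,8,8,8,8,8,8,8,8,8,8,8,8,8,8,8,8,8,8,8,8,8,8,8],
[8,8,8,8,8,9,8,8,8,8,8,8,8,8,8,8,8,8,8,8,8,8,8,8,8,8,8,8,8,8,8,8,8,8,8,8,8,8,8,8,8,8,8,8,8,8,8,8,8,8,8,8,8,8,8,8,8,8,8,8,8,8,8,8,8,8,8,8,8,8,8,8,8,8,8,8,8,8,8,8,8,8,8,8,8,8,8,8,8,8,8,8,8],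
[8,8,8,8,8,8,8,9,8,8,8,8,8,8,8,8,8,8,8,8,8,8,8,8,8,8,8,8,8,8,8,8,8,8,8,8,8,8,8,8,8,8,8,8,8,8,8,8,8,8,8,8,8,8,8,8,8,8,8,8,8,8,8,8,8,8,8,8,8,8,8,8,8,8,8,8,8,8,8,8,8,8,8,8,8,8,8,8,8,8,8,8,8],
[8,8,8,8,8,8,8,8,9,8,8,8,8,8,8,8,8,8,8,8,8,8,8,8,8,8,8,8,8,8,8,8,8,8,8,8,8,8,8,8,8,8,8,8,8,8,8,8,8,8,8,8,8,8,8,8,8,8,8,8,8,8,8,8,8,8,8,8,8,8,8,8,8,8,8,8,8,8,8,8,8,8,8,8,8,8,8,8,8,8,8,8,8],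
[8,8,8,8,8,8,8,8,8,8,8,8,8,8,9,8,8,8,8,8,8,8,8,8,8,8,8,8,8,8,8,8,8,8,8,8,8,8,8,8,8,8,8,8,8,8,8,8,8,8,8,8,8,8,8,8,8,8,8,8,8,8,8,8,8,8,8,8,8,8,8,8,8,8,8,8,8,8,8,8,8,8,8,8,8,8,8,8,8,8,8,8,8]]

def gCoef : List (List ℤ) := gCoefN.map fun l => l.map fun n => (n : ℤ) - 8

def lincomb : List ℤ → List (List ℤ) → List ℤ
  | c :: cs, v :: vs => addL (smulL c v) (lincomb cs vs)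
  | _, _ => []

theorem chk_vecs : (gWords.zip gVecs).all (fun p => decide (p.1.1 < ruTable.length) && decide (toL (opWord p.1.1 p.1.2) = p.2)) = true ∧
    gWords.length = gVecs.length := by
  decide +kernel

theorem chk_coef : (PB.zip gCoef).all (fun p => decide (lincomb p.2 gVecs = p.1.2)) = true ∧ PB.length = gCoef.length := by
  decide +kernel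

theorem gVecs_mem (v : List ℤ) (hv : v ∈ gVecs) : ofL v ∈ ruLattice := by
  obtain ⟨i, hi, rfl⟩ := List.getElem_of_mem hv
  have h1 := chk_vecs.2
  have hi' : i < (gWords.zip gVecs).length := by simp [h1, hi]
  have h2 := List.all_eq_true.1 chk_vecs.1 _ (List.getElem_mem hi')
  simp only [Bool.and_eq_true, decide_eq_true_eq, List.getElem_zip] at h2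
  rw [← h2.2, ofL_toL]
  exact word_mem _ _ h2.1

theorem lincomb_mem (cs : List ℤ) (vs : List (List ℤ)) (h : ∀ v ∈ vs, ofL v ∈ ruLattice) :
    ofL (lincomb cs vs) ∈ ruLattice := by
  induction cs generalizing vs with
  | nil =>
    have : ofL [] = (0 : RuVec) := by
      funext p
      apply Zsqrtd.ext <;> simp [ofL]
    show ofL [] ∈ ruLattice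
    rw [this]
    exact ruLattice.zero_mem
  | cons c cs ih =>
    cases vs with
    | nil =>
      have : ofL [] = (0 : RuVec) := by
        funext p
        apply Zsqrtd.ext <;> simp [ofL]
      show ofL [] ∈ ruLattice
      rw [this]
      exact ruLattice.zero_mem
    | cons v vs =>
      show ofL (addL (smulL c v) (lincomb cs vs)) ∈ ruLattice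
      rw [ofL_addL, ofL_smulL]
      exact ruLattice.add_mem (ruLattice.zsmul_mem (h v (by simp)) c)
        (ih vs fun u hu => h u (List.mem_cons_of_mem _ hu))

/-- The span of the basis is the lattice. -/
theorem LL_le : LL ≤ ruLattice := by
  rw [LL, AddSubgroup.closure_le]
  rintro v ⟨q, hq, rfl⟩
  obtain ⟨i, hi, rfl⟩ := List.getElem_of_mem hq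
  have h1 := chk_coef.2
  have hi' : i < (PB.zip gCoef).length := by
    rw [List.length_zip, ← h1]
    simpa using hi
  have h2 := List.all_eq_true.1 chk_coef.1 _ (List.getElem_mem hi')
  simp only [decide_eq_true_eq, List.getElem_zip] at h2
  rw [← h2]
  exact lincomb_mem _ _ gVecs_mem

theorem LL_eq : (ruLattice : AddSubgroup RuVec) = LL := le_antisymm ruLattice_le LL_le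

end Cfsg.Agent.Lib.RuBr
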