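import Cfsg.Agent.Lib.RuBrW
import Cfsg.Agent.Lib.RuBrGen

/-!
# Elements of the automorphism group of the Rudvalis lattice from matrices

A matrix `A` with columns `col a`, of coded vectors, gives the map `tT`. If the columns are orthogonal of norm 16, if the
matrix commutes with `i`, and if the image of the lattice lies in four times the lattice, then `tT / 4` is an element of
`fourRu`.
-/

set_option autoImplicit false
set_option maxRecDepth 1000000
set_option linter.unusedSectionVars false
set_option linter.unusedVariables false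

namespace Cfsg.Agent.Lib.RuBr

open Cfsg.Spor Cfsg.Agent.RuLat Finset

/-- the image of a vector under a matrix -/
def tT (A : ℕ → ℕ → ℤ) (x : RuVec) : RuVec := mkC fun b => ∑ a ∈ range 56, cc x a * A a b

theorem cc_tT (A : ℕ → ℕ → ℤ) (x : RuVec) (b : ℕ) (hb : b < 56) : cc (tT A x) b = ∑ a ∈ range 56, cc x a * A a b :=
  cc_mkC _ _ hb

theorem tT_add (A : ℕ → ℕ → ℤ) (x y : RuVec) : tT A (x + y) = tT A x + tT A y := by
  apply ext_cc
  intro b hb
  rw [cc_add _ _ _ hb, cc_tT _ _ _ hb, cc_tT _ _ _ hb, cc_tT _ _ _ hb, ← Finset.sum_add_distrib]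
  refine Finset.sum_congr rfl fun a ha => ?_
  rw [cc_add _ _ _ (Finset.mem_range.1 ha)]
  ring

theorem tT_neg (A : ℕ → ℕ → ℤ) (x : RuVec) : tT A (-x) = - tT A x := by
  apply ext_cc
  intro b hb
  rw [cc_neg _ _ hb, cc_tT _ _ _ hb, cc_tT _ _ _ hb, ← Finset.sum_neg_distrib]
  refine Finset.sum_congr rfl fun a ha => ?_
  rw [cc_neg _ _ (Finset.mem_range.1 ha)]
  ring

/-- The matrix respects the structure. -/
structure Mat (A : ℕ → ℕ → ℤ) : Prop where
  /-- commuting with `i` -/
  hJ1 : ∀ a < 28, ∀ b < 28, A (a + 28) b = - A a (b + 28)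
  hJ2 : ∀ a < 28, ∀ b < 28, A (a + 28) (b + 28) = A a b
  /-- the columns are orthogonal of norm 16 -/
  hO : ∀ a < 56, ∀ c < 56, ∑ b ∈ range 56, A a b * A c b = if a = c then 16 else 0

theorem sum56_split (G : ℕ → ℤ) : ∑ a ∈ range 56, G a = ∑ a ∈ range 28, G a + ∑ a ∈ range 28, G (a + 28) := by
  rw [show (56 : ℕ) = 28 + 28 from rfl, Finset.sum_range_add]
  congr 1

/-- Commuting with `i`. -/
theorem tT_i {A : ℕ → ℕ → ℤ} (hA : Mat A) (x : RuVec) : tT A (gI • x) = gI • tT A x := by
  apply ext_cc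
  intro b hb
  rw [cc_tT _ _ _ hb, sum56_split]
  have e1 : ∀ a ∈ range 28, cc (gI • x) a * A a b = - (cc x (a + 28) * A a b) := by
    intro a ha
    rw [cc_i_low _ _ (Finset.mem_range.1 ha)]
    ring
  have e2 : ∀ a ∈ range 28, cc (gI • x) (a + 28) * A (a + 28) b = cc x a * A (a + 28) b := by
    intro a ha
    rw [cc_i_high _ _ (Finset.mem_range.1 ha)]
  rw [Finset.sum_congr rfl e1, Finset.sum_congr rfl e2]
  by_cases hb2 : b < 28
  · rw [cc_i_low _ _ hb2, cc_tT _ _ _ (by omega), sum56_split, neg_add, ← Finset.sum_neg_distrib,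
      ← Finset.sum_neg_distrib, add_comm]
    congr 1
    · refine Finset.sum_congr rfl fun a ha => ?_
      rw [hA.hJ1 a (Finset.mem_range.1 ha) b hb2]
      ring
    · refine Finset.sum_congr rfl fun a ha => ?_
      rw [hA.hJ2 a (Finset.mem_range.1 ha) b hb2]
  · obtain ⟨c, rfl⟩ : ∃ c, b = c + 28 := ⟨b - 28, by omega⟩
    have hc : c < 28 := by omega
    rw [cc_i_high _ _ hc, cc_tT _ _ _ (by omega), sum56_split, add_comm]
    congr 1
    · refine Finset.sum_congr rfl fun a ha => ?_
      rw [hA.hJ2 a (Finset.mem_range.1 ha) c hc]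
    · refine Finset.sum_congr rfl fun a ha => ?_
      rw [hA.hJ1 a (Finset.mem_range.1 ha) c hc]
      ring

/-- The matrix multiplies inner products by 16. -/
theorem dot_tT {A : ℕ → ℕ → ℤ} (hA : Mat A) (x y : RuVec) : dot (tT A x) (tT A y) = 16 * dot x y := by
  rw [dot_eq, dot_eq]
  have h1 : ∀ b ∈ range 56, cc (tT A x) b * cc (tT A y) b =
      ∑ a ∈ range 56, ∑ c ∈ range 56, (cc x a * cc y c) * (A a b * A c b) := by
    intro b hb
    have hb' := Finset.mem_range.1 hb
    rw [cc_tT _ _ _ hb', cc_tT _ _ _ hb', Finset.sum_mul_sum]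
    refine Finset.sum_congr rfl fun a _ => Finset.sum_congr rfl fun c _ => ?_
    ring
  rw [Finset.sum_congr rfl h1, Finset.sum_comm, Finset.mul_sum]
  refine Finset.sum_congr rfl fun a ha => ?_
  rw [Finset.sum_comm]
  have h2 : ∀ c ∈ range 56, ∑ b ∈ range 56, (cc x a * cc y c) * (A a b * A c b) =
      (cc x a * cc y c) * (if a = c then 16 else 0) := by
    intro c hc
    rw [← Finset.mul_sum, hA.hO a (Finset.mem_range.1 ha) c (Finset.mem_range.1 hc)]
  rw [Finset.sum_congr rfl h2, Finset.sum_eq_single a]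
  · simp
    ring
  · intro c _ hca
    rw [if_neg (Ne.symm hca), mul_zero]
  · intro h
    exact absurd ha h

theorem norm_tT {A : ℕ → ℕ → ℤ} (hA : Mat A) (x : RuVec) : ruNorm (tT A x) = 16 * ruNorm x := by
  rw [ruNorm_eq, ruNorm_eq, dot_tT hA]

/-! ### Multiples of vectors -/

theorem cc_zsmul (n : ℤ) (x : RuVec) (a : ℕ) (ha : a < 56) : cc (n • x) a = n * cc x a := by
  by_cases h : a < 28
  · obtain ⟨p, rfl⟩ := exists_idx a h
    rw [cc_idx, cc_idx]
    show (n • x p).re = _
    rw [zsmul_eq_mul, Zsqrtd.re_smul]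
  · obtain ⟨p, hp⟩ := exists_idx (a - 28) (by omega)
    have : a = idx p + 28 := by omega
    rw [this, cc_idx28, cc_idx28]
    show (n • x p).im = _
    rw [zsmul_eq_mul, Zsqrtd.im_smul]

theorem four_inj {x y : RuVec} (h : (4 : ℤ) • x = (4 : ℤ) • y) : x = y := by
  apply ext_cc
  intro a ha
  have := congrArg (fun v => cc v a) h
  simp only [cc_zsmul _ _ _ ha] at this
  omega

theorem norm_zsmul_four (x : RuVec) : ruNorm ((4 : ℤ) • x) = 16 * ruNorm x := by
  rw [norm_eq, norm_eq, Finset.mul_sum]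
  refine Finset.sum_congr rfl fun a ha => ?_
  rw [cc_zsmul _ _ _ (Finset.mem_range.1 ha)]
  ring

/-! ### The lifts -/

/-- the quotient by 4 -/
def fc (A : ℕ → ℕ → ℤ) (x : RuVec) : RuVec := mkC fun b => cc (tT A x) b / 4

/-- The image of the span of the basis lies in four times the span of the basis. -/
def Inside (A : ℕ → ℕ → ℤ) : Prop := ∀ v ∈ LL, ∃ c ∈ LL, tT A v = (4 : ℤ) • c

theorem fc_spec {A : ℕ → ℕ → ℤ} (h : Inside A) {x : RuVec} (hx : x ∈ LL) : fc A x ∈ LL ∧ tT A x = (4 : ℤ) • fc A x := by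
  obtain ⟨c, hc, e⟩ := h x hx
  have : fc A x = c := by
    apply ext_cc
    intro a ha
    rw [fc, cc_mkC _ _ ha, e, cc_zsmul _ _ _ ha]
    omega
  rw [this]
  exact ⟨hc, e⟩

theorem mem_LL_iff {x : RuVec} : x ∈ ruLattice ↔ x ∈ LL := by rw [LL_eq]

theorem finite_sphere (r : ℤ) : {x : RuVec | ruNorm x = r}.Finite := by
  classical
  let F : RuVec → (Fin 56 → ℤ) := fun x a => cc x a
  have hF : Set.InjOn F {x : RuVec | ruNorm x = r} := by
    intro x _ y _ h
    apply ext_cc
    intro a ha
    exact congrFun h ⟨a, ha⟩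
  refine Set.Finite.of_finite_image ?_ hF
  refine (Set.finite_Icc (fun _ : Fin 56 => -r) (fun _ : Fin 56 => r)).subset ?_
  rintro _ ⟨x, hx, rfl⟩
  have hx' : ruNorm x = r := hx
  constructor
  · intro a
    have h1 := sq_cc_le x a.1 a.2
    rw [hx'] at h1
    show -r ≤ cc x a.1
    nlinarith [sq_nonneg (cc x a.1 + 1), sq_nonneg (cc x a.1), Int.emod_two_eq (cc x a.1),
      (by
        have h2 : (cc x a.1) ≤ (cc x a.1) ^ 2 := by
          rcases le_or_gt (cc x a.1) 0 with h | h
          · nlinarith [sq_nonneg (cc x a.1)]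
          · nlinarith
        exact h2 : (cc x a.1) ≤ (cc x a.1) ^ 2),
      (by
        have h2 : -(cc x a.1) ≤ (cc x a.1) ^ 2 := by
          rcases le_or_gt (cc x a.1) 0 with h | h
          · nlinarith
          · nlinarith [sq_nonneg (cc x a.1)]
        exact h2 : -(cc x a.1) ≤ (cc x a.1) ^ 2)]
  · intro a
    have h1 := sq_cc_le x a.1 a.2
    rw [hx'] at h1
    show cc x a.1 ≤ r
    have h2 : (cc x a.1) ≤ (cc x a.1) ^ 2 := by
      rcases le_or_gt (cc x a.1) 0 with h | h
      · nlinarith [sq_nonneg (cc x a.1)]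
      · nlinarith
    linarith

theorem exists_lift {A : ℕ → ℕ → ℤ} (hA : Mat A) (hI : Inside A) :
    ∃ f ∈ fourRu, ∀ x : ruLattice, tT A (x : RuVec) = (4 : ℤ) • ((f x : ruLattice) : RuVec) := by
  have hmem : ∀ x : ruLattice, fc A (x : RuVec) ∈ ruLattice := fun x =>
    mem_LL_iff.2 (fc_spec hI (mem_LL_iff.1 x.2)).1
  have hsp : ∀ x : ruLattice, tT A (x : RuVec) = (4 : ℤ) • fc A (x : RuVec) := fun x =>
    (fc_spec hI (mem_LL_iff.1 x.2)).2
  let g : ruLattice → ruLattice := fun x => ⟨fc A (x : RuVec), hmem x⟩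
  have hg : ∀ x : ruLattice, tT A (x : RuVec) = (4 : ℤ) • ((g x : ruLattice) : RuVec) := hsp
  have hadd : ∀ v w, g (v + w) = g v + g w := by
    intro v w
    apply Subtype.ext
    apply four_inj
    rw [← hg]
    show _ = (4 : ℤ) • (((g v : ruLattice) : RuVec) + ((g w : ruLattice) : RuVec))
    rw [smul_add, ← hg, ← hg]
    exact tT_add A _ _
  have hi : ∀ v, g (ruI v) = ruI (g v) := by
    intro v
    apply Subtype.ext
    apply four_inj
    rw [← hg]
    show tT A (gI • (v : RuVec)) = (4 : ℤ) • (gI • ((g v : ruLattice) : RuVec))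
    rw [tT_i hA, hg v, smul_comm]
  have hnorm : ∀ v : ruLattice, ruNorm ((g v : ruLattice) : RuVec) = ruNorm (v : RuVec) := by
    intro v
    have h1 := norm_tT hA (v : RuVec)
    rw [hg v, norm_zsmul_four] at h1
    omega
  have hinj : Function.Injective g := by
    intro v w h
    have h1 : ruNorm ((v : RuVec) - (w : RuVec)) = 0 := by
      have h2 : tT A ((v : RuVec) - (w : RuVec)) = 0 := by
        rw [sub_eq_add_neg, tT_add, tT_neg, hg v, hg w, h]
        simp
      have h3 := norm_tT hA ((v : RuVec) - (w : RuVec))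
      rw [h2] at h3
      have h4 : ruNorm (0 : RuVec) = 0 := by simp [ruNorm]
      rw [h4] at h3
      linarith
    apply Subtype.ext
    have h5 : ∀ a < 56, cc ((v : RuVec) - (w : RuVec)) a = 0 := by
      intro a ha
      have h6 := sq_cc_le ((v : RuVec) - (w : RuVec)) a ha
      rw [h1] at h6
      have h7 : (cc ((v : RuVec) - (w : RuVec)) a) ^ 2 = 0 := le_antisymm h6 (sq_nonneg _)
      simpa using h7
    have h8 : (v : RuVec) - (w : RuVec) = 0 := by
      apply ext_cc
      intro a ha
      rw [h5 a ha]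
      have h9 : ruNorm (0 : RuVec) = 0 := by simp [ruNorm]
      have h10 := sq_cc_le (0 : RuVec) a ha
      rw [h9] at h10
      have h11 : (cc (0 : RuVec) a) ^ 2 = 0 := le_antisymm h10 (sq_nonneg _)
      exact (pow_eq_zero_iff (by norm_num)).1 h11 |>.symm
    exact sub_eq_zero.1 h8
  have hsurj : Function.Surjective g := by
    intro y
    let S : Set ruLattice := {x | ruNorm (x : RuVec) = ruNorm (y : RuVec)}
    have hS : S.Finite := by
      refine Set.Finite.of_finite_image ?_ (f := fun x : ruLattice => (x : RuVec)) Subtype.val_injective.injOn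
      refine (finite_sphere (ruNorm (y : RuVec))).subset ?_
      rintro _ ⟨x, hx, rfl⟩
      exact hx
    haveI : Finite S := hS
    let g' : S → S := fun x => ⟨g x.1, by
      show ruNorm ((g x.1 : ruLattice) : RuVec) = _
      rw [hnorm]
      exact x.2⟩
    have hg' : Function.Injective g' := by
      intro a b h
      apply Subtype.ext
      exact hinj (congrArg Subtype.val h)
    obtain ⟨x, hx⟩ := (Finite.injective_iff_surjective.1 hg') ⟨y, rfl⟩
    exact ⟨x.1, congrArg Subtype.val hx⟩
  refine ⟨Equiv.ofBijective g ⟨hinj, hsurj⟩, ⟨?_, ?_, ?_⟩, ?_⟩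
  · exact hadd
  · exact hi
  · exact hnorm
  · exact hg

/-! ### Matrices given by codes -/

/-- the matrix of a list of coded vectors -/
def mA (cols : List ℕ) (a b : ℕ) : ℤ := ent (cols.getD a 0) b

/-- the checks for a matrix commuting with `i` -/
def chkJ (cols : List ℕ) : Bool :=
  (List.range 28).all fun a => decide (jl (cols.getD a 0) = dl (cols.getD (a + 28) 0)) && decide (Nat.ble 12 (dg (cols.getD a 0) 0) = true)

/-- the digits of all the columns are small -/
def chkSmall (cols : List ℕ) : Bool :=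
  (List.range 56).all fun a => (dl (cols.getD a 0)).all fun d => Nat.ble 12 d && Nat.ble d 20

/-- the inner product on coded vectors -/
def dotC (F G : ℕ) : ℤ := (r56.map fun b => ent F b * ent G b).sum

def chkO (cols : List ℕ) : Bool :=
  (List.range 56).all fun a => (List.range 56).all fun c =>
    decide (dotC (cols.getD a 0) (cols.getD c 0) = if a = c then 16 else 0)

theorem mat_of_chk {cols : List ℕ} (h1 : chkJ cols = true) (h2 : chkSmall cols = true) (h3 : chkO cols = true) :
    Mat (mA cols) := by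
  have hs : ∀ a < 56, ∀ b < 56, 12 ≤ dg (cols.getD a 0) b ∧ dg (cols.getD a 0) b ≤ 20 := by
    intro a ha b hb
    have h4 := List.all_eq_true.1 h2 a (List.mem_range.2 ha)
    have h5 := List.all_eq_true.1 h4 (dg (cols.getD a 0) b)
      (List.mem_map.2 ⟨b, by rw [r56_eq]; exact List.mem_range.2 hb, rfl⟩)
    rw [Bool.and_eq_true] at h5
    exact ⟨Nat.le_of_ble_eq_true h5.1, Nat.le_of_ble_eq_true h5.2⟩
  have hj : ∀ a < 28, ∀ b < 56, jd (cols.getD a 0) b = dg (cols.getD (a + 28) 0) b := by
    intro a ha b hb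
    have h4 := List.all_eq_true.1 h1 a (List.mem_range.2 ha)
    rw [Bool.and_eq_true, decide_eq_true_eq] at h4
    have h5 := List.map_inj_left.1 h4.1 b (by rw [r56_eq]; exact List.mem_range.2 hb)
    exact h5
  refine ⟨?_, ?_, ?_⟩
  · intro a ha b hb
    unfold mA ent
    rw [← hj a ha b (by omega), jd, if_pos hb]
    have := (hs a (by omega) (b + 28) (by omega)).2
    omega
  · intro a ha b hb
    unfold mA ent
    rw [← hj a ha (b + 28) (by omega), jd, if_neg (by omega)]
    simp
  · intro a ha c hc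
    have h4 := List.all_eq_true.1 (List.all_eq_true.1 h3 a (List.mem_range.2 ha)) c (List.mem_range.2 hc)
    rw [decide_eq_true_eq] at h4
    rw [← h4]
    unfold dotC mA
    rw [r56_eq, ← List.sum_toFinset _ List.nodup_range, List.toFinset_range]

/-- a coordinate of the image of a list -/
def sumZ : List ℤ → List ℕ → ℕ → ℤ
  | x :: v, F :: cs, b => x * ent F b + sumZ v cs b
  | _, _, _ => 0

theorem sumZ_spec (n : ℕ) (v : List ℤ) (cs : List ℕ) (b : ℕ) (hv : v.length = n) (hc : cs.length = n) :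
    sumZ v cs b = ∑ a ∈ range n, v.getD a 0 * ent (cs.getD a 0) b := by
  induction n generalizing v cs with
  | zero =>
    have h1 : v = [] := List.length_eq_zero_iff.1 hv
    subst h1
    simp [sumZ]
  | succ n ih =>
    match v, cs, hv, hc with
    | x :: v', F :: cs', hv', hc' =>
      rw [Finset.sum_range_succ']
      simp only [sumZ, List.getD_cons_zero, List.getD_cons_succ]
      rw [ih v' cs' (by simpa using hv') (by simpa using hc'), add_comm]

/-- the image of a list -/
def tL (cols : List ℕ) (v : List ℤ) : List ℤ := r56.map (sumZ v cols)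

/-- the check that the image of the basis lies in four times the span -/
def chkI (cols : List ℕ) : Bool :=
  cols.length == 56 &&
  PB.all fun q => q.2.length == 56 && (tL cols q.2).all (fun x => x % 4 == 0) && memChk ((tL cols q.2).map fun x => x / 4)

theorem inside_of_chk {cols : List ℕ} (h : chkI cols = true) : Inside (mA cols) := by
  simp only [chkI, Bool.and_eq_true, List.all_eq_true, beq_iff_eq] at h
  obtain ⟨hl, hq⟩ := h
  have base : ∀ q ∈ PB, ∃ c ∈ LL, tT (mA cols) (ofL q.2) = (4 : ℤ) • c := by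
    intro q hq1
    obtain ⟨⟨h1, h2⟩, h3⟩ := hq q hq1
    refine ⟨ofL ((tL cols q.2).map fun x => x / 4), memChk_spec h3, ?_⟩
    apply ext_cc
    intro b hb
    have hb2 : b ∈ r56 := by rw [r56_eq]; exact List.mem_range.2 hb
    have e1 : (tL cols q.2).getD b 0 = sumZ q.2 cols b := by
      unfold tL
      rw [r56_eq, List.getD_eq_getElem?_getD, List.getElem?_map, List.getElem?_range hb]
      simp only [Option.map_some, Option.getD_some]
    have e2 : ((tL cols q.2).map fun x => x / 4).getD b 0 = sumZ q.2 cols b / 4 := by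
      have h5 : b < (tL cols q.2).length := by simp [tL, r56_eq, hb]
      rw [List.getD_eq_getElem _ _ (by simpa using h5), List.getElem_map, ← e1, List.getD_eq_getElem _ _ h5]
    rw [cc_tT _ _ _ hb, cc_zsmul _ _ _ hb, cc_ofL _ _ hb, e2]
    have h6 : sumZ q.2 cols b % 4 = 0 := by
      have h7 := h2 (sumZ q.2 cols b) (List.mem_map.2 ⟨b, hb2, rfl⟩)
      exact h7
    have h8 : ∑ a ∈ range 56, cc (ofL q.2) a * mA cols a b = sumZ q.2 cols b := by
      rw [sumZ_spec 56 q.2 cols b h1 hl]
      refine Finset.sum_congr rfl fun a ha => ?_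
      rw [cc_ofL _ _ (Finset.mem_range.1 ha)]
      rfl
    rw [h8]
    omega
  intro v hv
  induction hv using AddSubgroup.closure_induction with
  | mem v hv =>
    obtain ⟨q, hq1, rfl⟩ := hv
    exact base q hq1
  | zero =>
    refine ⟨0, LL.zero_mem, ?_⟩
    have h0 : tT (mA cols) 0 = 0 := by
      have := tT_add (mA cols) 0 0
      simpa using this
    rw [h0]
    simp
  | add u v _ _ hu hv =>
    obtain ⟨c, hc, e⟩ := hu
    obtain ⟨d, hd, e'⟩ := hv
    exact ⟨c + d, LL.add_mem hc hd, by rw [tT_add, e, e', smul_add]⟩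
  | neg u _ hu =>
    obtain ⟨c, hc, e⟩ := hu
    exact ⟨-c, LL.neg_mem hc, by rw [tT_neg, e, smul_neg]⟩

/-! ### The images of coded vectors -/

/-- the value of the image of a coded vector -/
def tev : ℕ → List ℤ → ℤ
  | _, [] => 0
  | F, E :: Es =>
    Bool.rec ((((Nat.mod F 65536 : ℕ) : ℤ) - 16) * E + tev (Nat.div F 65536) Es) (tev (Nat.div F 65536) Es)
      (Nat.beq (Nat.mod F 65536) 16)

theorem dg_succ (F a : ℕ) : dg (F / BB) a = dg F (a + 1) := by
  rw [dg_eq, dg_eq, Nat.div_div_eq_div_mul, pow_succ, mul_comm]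

theorem dg_zero (F : ℕ) : dg F 0 = F % BB := by
  rw [dg_eq]
  simp

theorem tev_spec (Es : List ℤ) (F : ℕ) : tev F Es = ∑ a ∈ range Es.length, ent F a * Es.getD a 0 := by
  induction Es generalizing F with
  | nil => simp [tev]
  | cons E Es ih =>
    simp only [List.length_cons]
    rw [Finset.sum_range_succ']
    simp only [List.getD_cons_zero, List.getD_cons_succ]
    have e0 : ent F 0 = (((Nat.mod F 65536 : ℕ) : ℤ) - 16) := by
      unfold ent
      rw [dg_zero]
      rfl
    have e1 : ∀ a, ent F (a + 1) = ent (Nat.div F 65536) a := by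
      intro a
      unfold ent
      rw [← dg_succ]
      rfl
    simp only [e1, e0]
    rw [← ih]
    have e2 : tev F (E :: Es) = Bool.rec ((((Nat.mod F 65536 : ℕ) : ℤ) - 16) * E + tev (Nat.div F 65536) Es)
        (tev (Nat.div F 65536) Es) (Nat.beq (Nat.mod F 65536) 16) := rfl
    rw [e2]
    cases h : Nat.beq (Nat.mod F 65536) 16 with
    | false =>
      show ((((Nat.mod F 65536 : ℕ) : ℤ) - 16) * E + tev (Nat.div F 65536) Es) = _
      ring
    | true =>
      have h2 := Nat.eq_of_beq_eq_true h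
      show tev (Nat.div F 65536) Es = _
      rw [h2]
      simp

/-- The value of an image. -/
theorem ev_tT (A : ℕ → ℕ → ℤ) (x : RuVec) : ev (tT A x) = ∑ a ∈ range 56, cc x a * (∑ b ∈ range 56, A a b * (BB : ℤ) ^ b) := by
  unfold ev
  have h1 : ∀ b ∈ range 56, cc (tT A x) b * (BB : ℤ) ^ b = ∑ a ∈ range 56, cc x a * (A a b * (BB : ℤ) ^ b) := by
    intro b hb
    rw [cc_tT _ _ _ (Finset.mem_range.1 hb), Finset.sum_mul]
    refine Finset.sum_congr rfl fun a _ => ?_
    ring
  rw [Finset.sum_congr rfl h1, Finset.sum_comm]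
  refine Finset.sum_congr rfl fun a _ => ?_
  rw [Finset.mul_sum]

theorem ev_zsmul_four (x : RuVec) : ev ((4 : ℤ) • x) = 4 * ev x := by
  unfold ev
  rw [Finset.mul_sum]
  refine Finset.sum_congr rfl fun a ha => ?_
  rw [cc_zsmul _ _ _ (Finset.mem_range.1 ha)]
  ring

end Cfsg.Agent.Lib.RuBr
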