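import Cfsg.Agent.Lib.RuTTab

set_option autoImplicit false
set_option maxRecDepth 100000
set_option Elab.async false

namespace Cfsg.Agent.Lib.RuTSt0

open Cfsg.Agent.Lib.ChainCert Cfsg.Agent.Lib.ProgBits Cfsg.Agent.Lib.ProgChain Cfsg.Agent.Lib.PermChain Cfsg.Agent.Lib.TcBits
open Cfsg.Agent.Lib.RuTTab

theorem st0_7_0 : allR (guard Pst0 (nat_lit 8120)) 7 (nat_lit 0) = true := by decide +kernel
theorem st0_7_128 : allR (guard Pst0 (nat_lit 8120)) 7 (nat_lit 128) = true := by decide +kernel
theorem st0_7_256 : allR (guard Pst0 (nat_lit 8120)) 7 (nat_lit 256) = true := by decide +kernel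
theorem st0_7_384 : allR (guard Pst0 (nat_lit 8120)) 7 (nat_lit 384) = true := by decide +kernel
theorem st0_7_512 : allR (guard Pst0 (nat_lit 8120)) 7 (nat_lit 512) = true := by decide +kernel
theorem st0_7_640 : allR (guard Pst0 (nat_lit 8120)) 7 (nat_lit 640) = true := by decide +kernel
theorem st0_7_768 : allR (guard Pst0 (nat_lit 8120)) 7 (nat_lit 768) = true := by decide +kernel
theorem st0_7_896 : allR (guard Pst0 (nat_lit 8120)) 7 (nat_lit 896) = true := by decide +kernel
theorem st0_7_1024 : allR (guard Pst0 (nat_lit 8120)) 7 (nat_lit 1024) = true := by decide +kernel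
theorem st0_7_1152 : allR (guard Pst0 (nat_lit 8120)) 7 (nat_lit 1152) = true := by decide +kernel
theorem st0_7_1280 : allR (guard Pst0 (nat_lit 8120)) 7 (nat_lit 1280) = true := by decide +kernel
theorem st0_7_1408 : allR (guard Pst0 (nat_lit 8120)) 7 (nat_lit 1408) = true := by decide +kernel
theorem st0_7_1536 : allR (guard Pst0 (nat_lit 8120)) 7 (nat_lit 1536) = true := by decide +kernel
theorem st0_7_1664 : allR (guard Pst0 (nat_lit 8120)) 7 (nat_lit 1664) = true := by decide +kernel
theorem st0_7_1792 : allR (guard Pst0 (nat_lit 8120)) 7 (nat_lit 1792) = true := by decide +kernel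
theorem st0_7_1920 : allR (guard Pst0 (nat_lit 8120)) 7 (nat_lit 1920) = true := by decide +kernel
theorem st0_7_2048 : allR (guard Pst0 (nat_lit 8120)) 7 (nat_lit 2048) = true := by decide +kernel
theorem st0_7_2176 : allR (guard Pst0 (nat_lit 8120)) 7 (nat_lit 2176) = true := by decide +kernel
theorem st0_7_2304 : allR (guard Pst0 (nat_lit 8120)) 7 (nat_lit 2304) = true := by decide +kernel
theorem st0_7_2432 : allR (guard Pst0 (nat_lit 8120)) 7 (nat_lit 2432) = true := by decide +kernel
theorem st0_7_2560 : allR (guard Pst0 (nat_lit 8120)) 7 (nat_lit 2560) = true := by decide +kernel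
theorem st0_7_2688 : allR (guard Pst0 (nat_lit 8120)) 7 (nat_lit 2688) = true := by decide +kernel
theorem st0_7_2816 : allR (guard Pst0 (nat_lit 8120)) 7 (nat_lit 2816) = true := by decide +kernel
theorem st0_7_2944 : allR (guard Pst0 (nat_lit 8120)) 7 (nat_lit 2944) = true := by decide +kernel
theorem st0_7_3072 : allR (guard Pst0 (nat_lit 8120)) 7 (nat_lit 3072) = true := by decide +kernel
theorem st0_7_3200 : allR (guard Pst0 (nat_lit 8120)) 7 (nat_lit 3200) = true := by decide +kernel
theorem st0_7_3328 : allR (guard Pst0 (nat_lit 8120)) 7 (nat_lit 3328) = true := by decide +kernel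
theorem st0_7_3456 : allR (guard Pst0 (nat_lit 8120)) 7 (nat_lit 3456) = true := by decide +kernel
theorem st0_7_3584 : allR (guard Pst0 (nat_lit 8120)) 7 (nat_lit 3584) = true := by decide +kernel
theorem st0_7_3712 : allR (guard Pst0 (nat_lit 8120)) 7 (nat_lit 3712) = true := by decide +kernel
theorem st0_7_3840 : allR (guard Pst0 (nat_lit 8120)) 7 (nat_lit 3840) = true := by decide +kernel
theorem st0_7_3968 : allR (guard Pst0 (nat_lit 8120)) 7 (nat_lit 3968) = true := by decide +kernel
theorem st0_7_4096 : allR (guard Pst0 (nat_lit 8120)) 7 (nat_lit 4096) = true := by decide +kernel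
theorem st0_7_4224 : allR (guard Pst0 (nat_lit 8120)) 7 (nat_lit 4224) = true := by decide +kernel
theorem st0_7_4352 : allR (guard Pst0 (nat_lit 8120)) 7 (nat_lit 4352) = true := by decide +kernel
theorem st0_7_4480 : allR (guard Pst0 (nat_lit 8120)) 7 (nat_lit 4480) = true := by decide +kernel
theorem st0_7_4608 : allR (guard Pst0 (nat_lit 8120)) 7 (nat_lit 4608) = true := by decide +kernel
theorem st0_7_4736 : allR (guard Pst0 (nat_lit 8120)) 7 (nat_lit 4736) = true := by decide +kernel
theorem st0_7_4864 : allR (guard Pst0 (nat_lit 8120)) 7 (nat_lit 4864) = true := by decide +kernel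
theorem st0_7_4992 : allR (guard Pst0 (nat_lit 8120)) 7 (nat_lit 4992) = true := by decide +kernel
theorem st0_7_5120 : allR (guard Pst0 (nat_lit 8120)) 7 (nat_lit 5120) = true := by decide +kernel
theorem st0_7_5248 : allR (guard Pst0 (nat_lit 8120)) 7 (nat_lit 5248) = true := by decide +kernel
theorem st0_7_5376 : allR (guard Pst0 (nat_lit 8120)) 7 (nat_lit 5376) = true := by decide +kernel
theorem st0_7_5504 : allR (guard Pst0 (nat_lit 8120)) 7 (nat_lit 5504) = true := by decide +kernel
theorem st0_7_5632 : allR (guard Pst0 (nat_lit 8120)) 7 (nat_lit 5632) = true := by decide +kernel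
theorem st0_7_5760 : allR (guard Pst0 (nat_lit 8120)) 7 (nat_lit 5760) = true := by decide +kernel
theorem st0_7_5888 : allR (guard Pst0 (nat_lit 8120)) 7 (nat_lit 5888) = true := by decide +kernel
theorem st0_7_6016 : allR (guard Pst0 (nat_lit 8120)) 7 (nat_lit 6016) = true := by decide +kernel
theorem st0_7_6144 : allR (guard Pst0 (nat_lit 8120)) 7 (nat_lit 6144) = true := by decide +kernel
theorem st0_7_6272 : allR (guard Pst0 (nat_lit 8120)) 7 (nat_lit 6272) = true := by decide +kernel
theorem st0_7_6400 : allR (guard Pst0 (nat_lit 8120)) 7 (nat_lit 6400) = true := by decide +kernel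
theorem st0_7_6528 : allR (guard Pst0 (nat_lit 8120)) 7 (nat_lit 6528) = true := by decide +kernel
theorem st0_7_6656 : allR (guard Pst0 (nat_lit 8120)) 7 (nat_lit 6656) = true := by decide +kernel
theorem st0_7_6784 : allR (guard Pst0 (nat_lit 8120)) 7 (nat_lit 6784) = true := by decide +kernel
theorem st0_7_6912 : allR (guard Pst0 (nat_lit 8120)) 7 (nat_lit 6912) = true := by decide +kernel
theorem st0_7_7040 : allR (guard Pst0 (nat_lit 8120)) 7 (nat_lit 7040) = true := by decide +kernel
theorem st0_7_7168 : allR (guard Pst0 (nat_lit 8120)) 7 (nat_lit 7168) = true := by decide +kernel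
theorem st0_7_7296 : allR (guard Pst0 (nat_lit 8120)) 7 (nat_lit 7296) = true := by decide +kernel
theorem st0_7_7424 : allR (guard Pst0 (nat_lit 8120)) 7 (nat_lit 7424) = true := by decide +kernel
theorem st0_7_7552 : allR (guard Pst0 (nat_lit 8120)) 7 (nat_lit 7552) = true := by decide +kernel
theorem st0_7_7680 : allR (guard Pst0 (nat_lit 8120)) 7 (nat_lit 7680) = true := by decide +kernel
theorem st0_7_7808 : allR (guard Pst0 (nat_lit 8120)) 7 (nat_lit 7808) = true := by decide +kernel
theorem st0_7_7936 : allR (guard Pst0 (nat_lit 8120)) 7 (nat_lit 7936) = true := by decide +kernel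
theorem st0_7_8064 : allR (guard Pst0 (nat_lit 8120)) 7 (nat_lit 8064) = true := by decide +kernel
theorem st0_8_0 : allR (guard Pst0 (nat_lit 8120)) 8 (nat_lit 0) = true := allR_join (mid := nat_lit 128) rfl st0_7_0 st0_7_128
theorem st0_8_256 : allR (guard Pst0 (nat_lit 8120)) 8 (nat_lit 256) = true := allR_join (mid := nat_lit 384) rfl st0_7_256 st0_7_384
theorem st0_8_512 : allR (guard Pst0 (nat_lit 8120)) 8 (nat_lit 512) = true := allR_join (mid := nat_lit 640) rfl st0_7_512 st0_7_640
theorem st0_8_768 : allR (guard Pst0 (nat_lit 8120)) 8 (nat_lit 768) = true := allR_join (mid := nat_lit 896) rfl st0_7_768 st0_7_896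
theorem st0_8_1024 : allR (guard Pst0 (nat_lit 8120)) 8 (nat_lit 1024) = true := allR_join (mid := nat_lit 1152) rfl st0_7_1024 st0_7_1152
theorem st0_8_1280 : allR (guard Pst0 (nat_lit 8120)) 8 (nat_lit 1280) = true := allR_join (mid := nat_lit 1408) rfl st0_7_1280 st0_7_1408
theorem st0_8_1536 : allR (guard Pst0 (nat_lit 8120)) 8 (nat_lit 1536) = true := allR_join (mid := nat_lit 1664) rfl st0_7_1536 st0_7_1664
theorem st0_8_1792 : allR (guard Pst0 (nat_lit 8120)) 8 (nat_lit 1792) = true := allR_join (mid := nat_lit 1920) rfl st0_7_1792 st0_7_1920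
theorem st0_8_2048 : allR (guard Pst0 (nat_lit 8120)) 8 (nat_lit 2048) = true := allR_join (mid := nat_lit 2176) rfl st0_7_2048 st0_7_2176
theorem st0_8_2304 : allR (guard Pst0 (nat_lit 8120)) 8 (nat_lit 2304) = true := allR_join (mid := nat_lit 2432) rfl st0_7_2304 st0_7_2432
theorem st0_8_2560 : allR (guard Pst0 (nat_lit 8120)) 8 (nat_lit 2560) = true := allR_join (mid := nat_lit 2688) rfl st0_7_2560 st0_7_2688
theorem st0_8_2816 : allR (guard Pst0 (nat_lit 8120)) 8 (nat_lit 2816) = true := allR_join (mid := nat_lit 2944) rfl st0_7_2816 st0_7_2944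
theorem st0_8_3072 : allR (guard Pst0 (nat_lit 8120)) 8 (nat_lit 3072) = true := allR_join (mid := nat_lit 3200) rfl st0_7_3072 st0_7_3200
theorem st0_8_3328 : allR (guard Pst0 (nat_lit 8120)) 8 (nat_lit 3328) = true := allR_join (mid := nat_lit 3456) rfl st0_7_3328 st0_7_3456
theorem st0_8_3584 : allR (guard Pst0 (nat_lit 8120)) 8 (nat_lit 3584) = true := allR_join (mid := nat_lit 3712) rfl st0_7_3584 st0_7_3712
theorem st0_8_3840 : allR (guard Pst0 (nat_lit 8120)) 8 (nat_lit 3840) = true := allR_join (mid := nat_lit 3968) rfl st0_7_3840 st0_7_3968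
theorem st0_8_4096 : allR (guard Pst0 (nat_lit 8120)) 8 (nat_lit 4096) = true := allR_join (mid := nat_lit 4224) rfl st0_7_4096 st0_7_4224
theorem st0_8_4352 : allR (guard Pst0 (nat_lit 8120)) 8 (nat_lit 4352) = true := allR_join (mid := nat_lit 4480) rfl st0_7_4352 st0_7_4480
theorem st0_8_4608 : allR (guard Pst0 (nat_lit 8120)) 8 (nat_lit 4608) = true := allR_join (mid := nat_lit 4736) rfl st0_7_4608 st0_7_4736
theorem st0_8_4864 : allR (guard Pst0 (nat_lit 8120)) 8 (nat_lit 4864) = true := allR_join (mid := nat_lit 4992) rfl st0_7_4864 st0_7_4992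
theorem st0_8_5120 : allR (guard Pst0 (nat_lit 8120)) 8 (nat_lit 5120) = true := allR_join (mid := nat_lit 5248) rfl st0_7_5120 st0_7_5248
theorem st0_8_5376 : allR (guard Pst0 (nat_lit 8120)) 8 (nat_lit 5376) = true := allR_join (mid := nat_lit 5504) rfl st0_7_5376 st0_7_5504
theorem st0_8_5632 : allR (guard Pst0 (nat_lit 8120)) 8 (nat_lit 5632) = true := allR_join (mid := nat_lit 5760) rfl st0_7_5632 st0_7_5760
theorem st0_8_5888 : allR (guard Pst0 (nat_lit 8120)) 8 (nat_lit 5888) = true := allR_join (mid := nat_lit 6016) rfl st0_7_5888 st0_7_6016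
theorem st0_8_6144 : allR (guard Pst0 (nat_lit 8120)) 8 (nat_lit 6144) = true := allR_join (mid := nat_lit 6272) rfl st0_7_6144 st0_7_6272
theorem st0_8_6400 : allR (guard Pst0 (nat_lit 8120)) 8 (nat_lit 6400) = true := allR_join (mid := nat_lit 6528) rfl st0_7_6400 st0_7_6528
theorem st0_8_6656 : allR (guard Pst0 (nat_lit 8120)) 8 (nat_lit 6656) = true := allR_join (mid := nat_lit 6784) rfl st0_7_6656 st0_7_6784
theorem st0_8_6912 : allR (guard Pst0 (nat_lit 8120)) 8 (nat_lit 6912) = true := allR_join (mid := nat_lit 7040) rfl st0_7_6912 st0_7_7040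
theorem st0_8_7168 : allR (guard Pst0 (nat_lit 8120)) 8 (nat_lit 7168) = true := allR_join (mid := nat_lit 7296) rfl st0_7_7168 st0_7_7296
theorem st0_8_7424 : allR (guard Pst0 (nat_lit 8120)) 8 (nat_lit 7424) = true := allR_join (mid := nat_lit 7552) rfl st0_7_7424 st0_7_7552
theorem st0_8_7680 : allR (guard Pst0 (nat_lit 8120)) 8 (nat_lit 7680) = true := allR_join (mid := nat_lit 7808) rfl st0_7_7680 st0_7_7808
theorem st0_8_7936 : allR (guard Pst0 (nat_lit 8120)) 8 (nat_lit 7936) = true := allR_join (mid := nat_lit 8064) rfl st0_7_7936 st0_7_8064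
theorem st0_9_0 : allR (guard Pst0 (nat_lit 8120)) 9 (nat_lit 0) = true := allR_join (mid := nat_lit 256) rfl st0_8_0 st0_8_256
theorem st0_9_512 : allR (guard Pst0 (nat_lit 8120)) 9 (nat_lit 512) = true := allR_join (mid := nat_lit 768) rfl st0_8_512 st0_8_768
theorem st0_9_1024 : allR (guard Pst0 (nat_lit 8120)) 9 (nat_lit 1024) = true := allR_join (mid := nat_lit 1280) rfl st0_8_1024 st0_8_1280
theorem st0_9_1536 : allR (guard Pst0 (nat_lit 8120)) 9 (nat_lit 1536) = true := allR_join (mid := nat_lit 1792) rfl st0_8_1536 st0_8_1792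
theorem st0_9_2048 : allR (guard Pst0 (nat_lit 8120)) 9 (nat_lit 2048) = true := allR_join (mid := nat_lit 2304) rfl st0_8_2048 st0_8_2304
theorem st0_9_2560 : allR (guard Pst0 (nat_lit 8120)) 9 (nat_lit 2560) = true := allR_join (mid := nat_lit 2816) rfl st0_8_2560 st0_8_2816
theorem st0_9_3072 : allR (guard Pst0 (nat_lit 8120)) 9 (nat_lit 3072) = true := allR_join (mid := nat_lit 3328) rfl st0_8_3072 st0_8_3328
theorem st0_9_3584 : allR (guard Pst0 (nat_lit 8120)) 9 (nat_lit 3584) = true := allR_join (mid := nat_lit 3840) rfl st0_8_3584 st0_8_3840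
theorem st0_9_4096 : allR (guard Pst0 (nat_lit 8120)) 9 (nat_lit 4096) = true := allR_join (mid := nat_lit 4352) rfl st0_8_4096 st0_8_4352
theorem st0_9_4608 : allR (guard Pst0 (nat_lit 8120)) 9 (nat_lit 4608) = true := allR_join (mid := nat_lit 4864) rfl st0_8_4608 st0_8_4864
theorem st0_9_5120 : allR (guard Pst0 (nat_lit 8120)) 9 (nat_lit 5120) = true := allR_join (mid := nat_lit 5376) rfl st0_8_5120 st0_8_5376
theorem st0_9_5632 : allR (guard Pst0 (nat_lit 8120)) 9 (nat_lit 5632) = true := allR_join (mid := nat_lit 5888) rfl st0_8_5632 st0_8_5888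
theorem st0_9_6144 : allR (guard Pst0 (nat_lit 8120)) 9 (nat_lit 6144) = true := allR_join (mid := nat_lit 6400) rfl st0_8_6144 st0_8_6400
theorem st0_9_6656 : allR (guard Pst0 (nat_lit 8120)) 9 (nat_lit 6656) = true := allR_join (mid := nat_lit 6912) rfl st0_8_6656 st0_8_6912
theorem st0_9_7168 : allR (guard Pst0 (nat_lit 8120)) 9 (nat_lit 7168) = true := allR_join (mid := nat_lit 7424) rfl st0_8_7168 st0_8_7424
theorem st0_9_7680 : allR (guard Pst0 (nat_lit 8120)) 9 (nat_lit 7680) = true := allR_join (mid := nat_lit 7936) rfl st0_8_7680 st0_8_7936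
theorem st0_10_0 : allR (guard Pst0 (nat_lit 8120)) 10 (nat_lit 0) = true := allR_join (mid := nat_lit 512) rfl st0_9_0 st0_9_512
theorem st0_10_1024 : allR (guard Pst0 (nat_lit 8120)) 10 (nat_lit 1024) = true := allR_join (mid := nat_lit 1536) rfl st0_9_1024 st0_9_1536
theorem st0_10_2048 : allR (guard Pst0 (nat_lit 8120)) 10 (nat_lit 2048) = true := allR_join (mid := nat_lit 2560) rfl st0_9_2048 st0_9_2560
theorem st0_10_3072 : allR (guard Pst0 (nat_lit 8120)) 10 (nat_lit 3072) = true := allR_join (mid := nat_lit 3584) rfl st0_9_3072 st0_9_3584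
theorem st0_10_4096 : allR (guard Pst0 (nat_lit 8120)) 10 (nat_lit 4096) = true := allR_join (mid := nat_lit 4608) rfl st0_9_4096 st0_9_4608
theorem st0_10_5120 : allR (guard Pst0 (nat_lit 8120)) 10 (nat_lit 5120) = true := allR_join (mid := nat_lit 5632) rfl st0_9_5120 st0_9_5632
theorem st0_10_6144 : allR (guard Pst0 (nat_lit 8120)) 10 (nat_lit 6144) = true := allR_join (mid := nat_lit 6656) rfl st0_9_6144 st0_9_6656
theorem st0_10_7168 : allR (guard Pst0 (nat_lit 8120)) 10 (nat_lit 7168) = true := allR_join (mid := nat_lit 7680) rfl st0_9_7168 st0_9_7680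
theorem st0_11_0 : allR (guard Pst0 (nat_lit 8120)) 11 (nat_lit 0) = true := allR_join (mid := nat_lit 1024) rfl st0_10_0 st0_10_1024
theorem st0_11_2048 : allR (guard Pst0 (nat_lit 8120)) 11 (nat_lit 2048) = true := allR_join (mid := nat_lit 3072) rfl st0_10_2048 st0_10_3072
theorem st0_11_4096 : allR (guard Pst0 (nat_lit 8120)) 11 (nat_lit 4096) = true := allR_join (mid := nat_lit 5120) rfl st0_10_4096 st0_10_5120
theorem st0_11_6144 : allR (guard Pst0 (nat_lit 8120)) 11 (nat_lit 6144) = true := allR_join (mid := nat_lit 7168) rfl st0_10_6144 st0_10_7168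
theorem st0_12_0 : allR (guard Pst0 (nat_lit 8120)) 12 (nat_lit 0) = true := allR_join (mid := nat_lit 2048) rfl st0_11_0 st0_11_2048
theorem st0_12_4096 : allR (guard Pst0 (nat_lit 8120)) 12 (nat_lit 4096) = true := allR_join (mid := nat_lit 6144) rfl st0_11_4096 st0_11_6144
theorem st0_13_0 : allR (guard Pst0 (nat_lit 8120)) 13 (nat_lit 0) = true := allR_join (mid := nat_lit 4096) rfl st0_12_0 st0_12_4096
theorem st0_all : ∀ i, i < (nat_lit 8120) → Pst0 i = true := of_guard (k := 13) (by norm_num) st0_13_0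

end Cfsg.Agent.Lib.RuTSt0
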