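import Cfsg.Agent.Lib.RuTChk
import Cfsg.Agent.Lib.RuTSt0
import Cfsg.Agent.Lib.RuTSt1
import Cfsg.Agent.Lib.RuTSt2
import Cfsg.Agent.Lib.RuTSt3
import Cfsg.Agent.Lib.RuTSt4
import Cfsg.Agent.Lib.RuTSt5
import Cfsg.Agent.Lib.RuTSt6
import Cfsg.Agent.Lib.RuTSt7
import Cfsg.Agent.Lib.ProgOrbit

set_option autoImplicit false
set_option maxRecDepth 100000
set_option linter.unusedSectionVars false

/-! Generated file: the chain and the order of the group. -/

namespace Cfsg.Agent.Lib.RuTMain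

open Cfsg.Agent.Lib.ChainCert Cfsg.Agent.Lib.ProgBits Cfsg.Agent.Lib.ProgChain Cfsg.Agent.Lib.PermChain Cfsg.Agent.Lib.TcBits
open Cfsg.Agent.Lib.RuTTab
open Cfsg.Agent.Lib.RuTChk Cfsg.Agent.Lib.RuTSt0 Cfsg.Agent.Lib.RuTSt1 Cfsg.Agent.Lib.RuTSt2 Cfsg.Agent.Lib.RuTSt3 Cfsg.Agent.Lib.RuTSt4 Cfsg.Agent.Lib.RuTSt5 Cfsg.Agent.Lib.RuTSt6 Cfsg.Agent.Lib.RuTSt7

theorem hN : nat_lit 4096 = 2 ^ 12 := by norm_num
theorem hM : M = 2 ^ 4060 - 1 := by decide +kernel
theorem hR : R = repU 4096 12 := by decide +kernel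
theorem hY : Y = yId 12 := by decide +kernel
theorem htot : ∀ e, 121 ≤ e → pr e = [] := by
  intro e he
  rw [pr, show Nat.ble ((nat_lit 121)) e = true from Nat.ble_eq_true_of_le he]
  rfl

/-- the context -/
theorem ctx : Ctx 4060 12 pr R Y :=
  ctx_mk' (N := (nat_lit 4096)) (M := M) (tot := 121) (by norm_num) hN hM hR hY let_all htot

/-- the letters -/
noncomputable abbrev g : ℕ → Equiv.Perm (Fin 4060) := lp pr 4060

theorem hOb7 : Om7.testBit 1340 = true := by decide +kernel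
theorem hroot7 : tw7 1340 = [] := by decide +kernel
theorem lev7 : (∀ e, 119 ≤ e → g e ∈ grp g 119 2) ∧
    Level (grp g 119 2) (grp g 121 0) ⟨1340, by norm_num⟩
      (fun p => prodW g (tw7 p.val)) (orbF 4060 Om7) :=
  level_bundle ctx (lo := 119) (ns := 2) (hi := 121) (ns' := 0) (b := 1340) (Om := Om7) (tw := tw7) (st := stE7) (der := derT) (wA := certA) (wB := certB) (by norm_num)
    der7_all cert7_all fix7_all img7_all hOb7 hroot7 st7_all (letters_bottom ctx htot)
theorem cOm7 : (orbF 4060 Om7).card = 2 := by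
  rw [card_orbF]; decide +kernel
theorem hOb6 : Om6.testBit 3797 = true := by decide +kernel
theorem hroot6 : tw6 3797 = [] := by decide +kernel
theorem lev6 : (∀ e, 116 ≤ e → g e ∈ grp g 116 3) ∧
    Level (grp g 116 3) (grp g 119 2) ⟨3797, by norm_num⟩
      (fun p => prodW g (tw6 p.val)) (orbF 4060 Om6) :=
  level_bundle ctx (lo := 116) (ns := 3) (hi := 119) (ns' := 2) (b := 3797) (Om := Om6) (tw := tw6) (st := stE6) (der := derT) (wA := certA) (wB := certB) (by norm_num)
    der6_all cert6_all fix6_all img6_all hOb6 hroot6 st6_all (lev7).1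
theorem cOm6 : (orbF 4060 Om6).card = 4 := by
  rw [card_orbF]; decide +kernel
theorem hOb5 : Om5.testBit 137 = true := by decide +kernel
theorem hroot5 : tw5 137 = [] := by decide +kernel
theorem lev5 : (∀ e, 111 ≤ e → g e ∈ grp g 111 5) ∧
    Level (grp g 111 5) (grp g 116 3) ⟨137, by norm_num⟩
      (fun p => prodW g (tw5 p.val)) (orbF 4060 Om5) :=
  level_bundle ctx (lo := 111) (ns := 5) (hi := 116) (ns' := 3) (b := 137) (Om := Om5) (tw := tw5) (st := stE5) (der := derT) (wA := certA) (wB := certB) (by norm_num)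
    der5_all cert5_all fix5_all img5_all hOb5 hroot5 st5_all (lev6).1
theorem cOm5 : (orbF 4060 Om5).card = 4 := by
  rw [card_orbF]; decide +kernel
theorem hOb4 : Om4.testBit 3351 = true := by decide +kernel
theorem hroot4 : tw4 3351 = [] := by decide +kernel
theorem lev4 : (∀ e, 107 ≤ e → g e ∈ grp g 107 4) ∧
    Level (grp g 107 4) (grp g 111 5) ⟨3351, by norm_num⟩
      (fun p => prodW g (tw4 p.val)) (orbF 4060 Om4) :=
  level_bundle ctx (lo := 107) (ns := 4) (hi := 111) (ns' := 5) (b := 3351) (Om := Om4) (tw := tw4) (st := stE4) (der := derT) (wA := certA) (wB := certB) (by norm_num)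
    der4_all cert4_all fix4_all img4_all hOb4 hroot4 st4_all (lev5).1
theorem cOm4 : (orbF 4060 Om4).card = 2 := by
  rw [card_orbF]; decide +kernel
theorem hOb3 : Om3.testBit 792 = true := by decide +kernel
theorem hroot3 : tw3 792 = [] := by decide +kernel
theorem lev3 : (∀ e, 104 ≤ e → g e ∈ grp g 104 3) ∧
    Level (grp g 104 3) (grp g 107 4) ⟨792, by norm_num⟩
      (fun p => prodW g (tw3 p.val)) (orbF 4060 Om3) :=
  level_bundle ctx (lo := 104) (ns := 3) (hi := 107) (ns' := 4) (b := 792) (Om := Om3) (tw := tw3) (st := stE3) (der := derT) (wA := certA) (wB := certB) (by norm_num)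
    der3_all cert3_all fix3_all img3_all hOb3 hroot3 st3_all (lev4).1
theorem cOm3 : (orbF 4060 Om3).card = 2 := by
  rw [card_orbF]; decide +kernel
theorem hOb2 : Om2.testBit 3894 = true := by decide +kernel
theorem hroot2 : tw2 3894 = [] := by decide +kernel
theorem lev2 : (∀ e, 98 ≤ e → g e ∈ grp g 98 2) ∧
    Level (grp g 98 2) (grp g 104 3) ⟨3894, by norm_num⟩
      (fun p => prodW g (tw2 p.val)) (orbF 4060 Om2) :=
  level_bundle ctx (lo := 98) (ns := 2) (hi := 104) (ns' := 3) (b := 3894) (Om := Om2) (tw := tw2) (st := stE2) (der := derT) (wA := certA) (wB := certB) (by norm_num)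
    der2_all cert2_all fix2_all img2_all hOb2 hroot2 st2_all (lev3).1
theorem cOm2 : (orbF 4060 Om2).card = 8 := by
  rw [card_orbF]; decide +kernel
theorem hOb1 : Om1.testBit 2140 = true := by decide +kernel
theorem hroot1 : tw1 2140 = [] := by decide +kernel
theorem lev1 : (∀ e, 92 ≤ e → g e ∈ grp g 92 2) ∧
    Level (grp g 92 2) (grp g 98 2) ⟨2140, by norm_num⟩
      (fun p => prodW g (tw1 p.val)) (orbF 4060 Om1) :=
  level_bundle ctx (lo := 92) (ns := 2) (hi := 98) (ns' := 2) (b := 2140) (Om := Om1) (tw := tw1) (st := stE1) (der := derT) (wA := certA) (wB := certB) (by norm_num)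
    der1_all cert1_all fix1_all img1_all hOb1 hroot1 st1_all (lev2).1
theorem cOm1 : (orbF 4060 Om1).card = 10 := by
  rw [card_orbF]; decide +kernel
theorem hOb0 : Om0.testBit 2 = true := by decide +kernel
theorem hroot0 : tw0 2 = [] := by decide +kernel
theorem lev0 : (∀ e, 0 ≤ e → g e ∈ grp g 0 2) ∧
    Level (grp g 0 2) (grp g 92 2) ⟨2, by norm_num⟩
      (fun p => prodW g (tw0 p.val)) (orbF 4060 Om0) :=
  level_bundle ctx (lo := 0) (ns := 2) (hi := 92) (ns' := 2) (b := 2) (Om := Om0) (tw := tw0) (st := stE0) (der := derT) (wA := certA) (wB := certB) (by norm_num)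
    der0_all cert0_all fix0_all img0_all hOb0 hroot0 st0_all (lev1).1
theorem cOm0 : (orbF 4060 Om0).card = 1755 := by
  rw [card_orbF]; decide +kernel
theorem cardH8 : Nat.card (grp g 121 0) = 1 := by
  rw [grp_zero]; simp
theorem cardH7 : Nat.card (grp g 119 2) = 2 := by
  rw [(lev7).2.card, cOm7, cardH8]
theorem cardH6 : Nat.card (grp g 116 3) = 8 := by
  rw [(lev6).2.card, cOm6, cardH7]
theorem cardH5 : Nat.card (grp g 111 5) = 32 := by
  rw [(lev5).2.card, cOm5, cardH6]
theorem cardH4 : Nat.card (grp g 107 4) = 64 := by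
  rw [(lev4).2.card, cOm4, cardH5]
theorem cardH3 : Nat.card (grp g 104 3) = 128 := by
  rw [(lev3).2.card, cOm3, cardH4]
theorem cardH2 : Nat.card (grp g 98 2) = 1024 := by
  rw [(lev2).2.card, cOm2, cardH3]
theorem cardH1 : Nat.card (grp g 92 2) = 10240 := by
  rw [(lev1).2.card, cOm1, cardH2]
theorem cardH0 : Nat.card (grp g 0 2) = 17971200 := by
  rw [(lev0).2.card, cOm0, cardH1]

theorem hsz : ∀ c, c < 5 → cntB (fun i => Nat.beq (colT i) c) 4060 = szT c := by decide +kernel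
theorem hsums : ∀ S ∈ (Finset.range 5).powerset, 0 ∈ S →
      (∑ c ∈ S, szT c) ∣ 1755 → (∑ c ∈ S, szT c) = 1 ∨ (∑ c ∈ S, szT c) = 1755 := by decide +kernel
theorem hb0 : colT 2 = 0 := by decide +kernel
/-- the conjugating word -/
def Wc : List ℕ := [73, 77, 94, 99, 98, 105, 118, 116]
theorem hconj : ProgBits.wChk R Y pr (Wc ++ [0]) (1 :: Wc) = true := by decide +kernel
theorem hap : ProgBits.wChk R Y pr (List.replicate 13 0) [] = true := by decide +kernel
theorem huv : ptChk pr [0] 3327 1 = true := by decide +kernel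

theorem faith : ∀ x ∈ grp g 0 2, (∀ q ∈ orbF 4060 Om0, x q = q) → x = 1 := by
  intro x hx hq
  have b0 : Om0.testBit 2 = true := by decide +kernel
  have h0 : x ∈ grp g 92 2 := by
    rw [(lev0).2.stab]
    exact ⟨hx, hq ⟨2, by norm_num⟩ (mem_orbF.mpr b0)⟩
  have b1 : Om0.testBit 2140 = true := by decide +kernel
  have h1 : x ∈ grp g 98 2 := by
    rw [(lev1).2.stab]
    exact ⟨h0, hq ⟨2140, by norm_num⟩ (mem_orbF.mpr b1)⟩
  have b2 : Om0.testBit 3894 = true := by decide +kernel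
  have h2 : x ∈ grp g 104 3 := by
    rw [(lev2).2.stab]
    exact ⟨h1, hq ⟨3894, by norm_num⟩ (mem_orbF.mpr b2)⟩
  have b3 : Om0.testBit 792 = true := by decide +kernel
  have h3 : x ∈ grp g 107 4 := by
    rw [(lev3).2.stab]
    exact ⟨h2, hq ⟨792, by norm_num⟩ (mem_orbF.mpr b3)⟩
  have b4 : Om0.testBit 3351 = true := by decide +kernel
  have h4 : x ∈ grp g 111 5 := by
    rw [(lev4).2.stab]
    exact ⟨h3, hq ⟨3351, by norm_num⟩ (mem_orbF.mpr b4)⟩
  have b5 : Om0.testBit 137 = true := by decide +kernel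
  have h5 : x ∈ grp g 116 3 := by
    rw [(lev5).2.stab]
    exact ⟨h4, hq ⟨137, by norm_num⟩ (mem_orbF.mpr b5)⟩
  have b6 : Om0.testBit 3797 = true := by decide +kernel
  have h6 : x ∈ grp g 119 2 := by
    rw [(lev6).2.stab]
    exact ⟨h5, hq ⟨3797, by norm_num⟩ (mem_orbF.mpr b6)⟩
  have b7 : Om0.testBit 1340 = true := by decide +kernel
  have h7 : x ∈ grp g 121 0 := by
    rw [(lev7).2.stab]
    exact ⟨h6, hq ⟨1340, by norm_num⟩ (mem_orbF.mpr b7)⟩
  rw [grp_zero] at h7
  exact Subgroup.mem_bot.mp h7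

/-- the group is simple -/
theorem simple_top : IsSimpleGroup (grp g 0 2) :=
  Cfsg.Agent.Lib.ProgOrbit.simple_orbit_bundle ctx (lo1 := 92) (ns1 := 2) (r := 5) (p := 13) (b := 2) (m := 1755) (by norm_num)
    (lev0).2 cOm0 faith (lev0).1 (lev1).1 tree_all colc_all hb0 hsz hsums (by norm_num)
    (by rw [cardH1]; norm_num) hconj hap (u := ⟨1, by norm_num⟩) (v := ⟨3327, by norm_num⟩) huv
    (by decide)

end Cfsg.Agent.Lib.RuTMain
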