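import Mathlib

set_option autoImplicit false

namespace Cfsg.Agent.Lib.RuTWords

/-- word of the first generator in the chain of Ru -/
def wn0 : List ℕ := [192, 170, 233, 232, 240, 238, 245, 260, 259, 263]
/-- word of the second generator in the chain of Ru -/
def wn1 : List ℕ := [229, 145, 232, 232, 239, 240, 251, 259, 263]

end Cfsg.Agent.Lib.RuTWords
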