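import Cfsg.Agent.Lib.RuPMain
import Cfsg.Agent.Lib.RuTMain
import Cfsg.Agent.Lib.RuTWords
import Cfsg.Agent.Lib.ProgCross

/-!
# `Ru` on `4060` points, with the Tits group inside the point stabilizer
-/

set_option autoImplicit false
set_option maxRecDepth 100000
set_option linter.style.haveILetI false

namespace Cfsg.Agent.Lib.RuMain

open Cfsg.Agent.Lib.ChainCert Cfsg.Agent.Lib.ProgBits Cfsg.Agent.Lib.ProgChain
  Cfsg.Agent.Lib.PermChain Cfsg.Agent.Lib.TcBits Cfsg.Agent.Lib.ProgCross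
  Cfsg.Agent.Lib.RuTWords

/-- letters of the Rudvalis group -/
noncomputable abbrev gH := Cfsg.Agent.Lib.RuPMain.g
/-- letters of the Tits group -/
noncomputable abbrev gT := Cfsg.Agent.Lib.RuTMain.g

theorem card_H1 : Nat.card (grp gH 140 2) = 35942400 := Cfsg.Agent.Lib.RuPMain.cardH1

theorem wn0_chk : Nat.beq (xWord Cfsg.Agent.Lib.RuTTab.R Cfsg.Agent.Lib.RuTTab.pr Cfsg.Agent.Lib.RuTTab.Y [0])
    (xWord Cfsg.Agent.Lib.RuPTab.R Cfsg.Agent.Lib.RuPTab.pr Cfsg.Agent.Lib.RuPTab.Y wn0) = true := by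
  decide +kernel
theorem wn1_chk : Nat.beq (xWord Cfsg.Agent.Lib.RuTTab.R Cfsg.Agent.Lib.RuTTab.pr Cfsg.Agent.Lib.RuTTab.Y [1])
    (xWord Cfsg.Agent.Lib.RuPTab.R Cfsg.Agent.Lib.RuPTab.pr Cfsg.Agent.Lib.RuPTab.Y wn1) = true := by
  decide +kernel

theorem T_le_H1 : grp gT 0 2 ≤ grp gH 140 2 := by
  rw [grp, genOf, Subgroup.closure_le]
  rintro x ⟨k, hk, rfl⟩
  obtain ⟨h1, h2⟩ := List.mem_range'_1.mp hk
  have h3 : k = 0 ∨ k = 1 := by omega
  have hL := (Cfsg.Agent.Lib.RuPMain.lev1).1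
  rcases h3 with rfl | rfl
  · have h4 := prodW_cross Cfsg.Agent.Lib.RuTMain.ctx Cfsg.Agent.Lib.RuPMain.ctx wn0_chk
    simp only [prodW_cons, prodW_nil, mul_one] at h4
    show gT 0 ∈ _
    rw [show gT 0 = _ from h4]
    exact prodW_mem hL (by decide)
  · have h4 := prodW_cross Cfsg.Agent.Lib.RuTMain.ctx Cfsg.Agent.Lib.RuPMain.ctx wn1_chk
    simp only [prodW_cons, prodW_nil, mul_one] at h4
    show gT 1 ∈ _
    rw [show gT 1 = _ from h4]
    exact prodW_mem hL (by decide)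

/-- the Rudvalis group -/
noncomputable abbrev HH : Subgroup (Equiv.Perm (Fin 4060)) := grp gH 0 2

/-- the Tits group in the stabilizer -/
noncomputable def TT : Subgroup (MulAction.stabilizer HH (0 : Fin 4060)) :=
  (grp gT 0 2).comap (HH.subtype.comp (MulAction.stabilizer HH (0 : Fin 4060)).subtype)

theorem mem_H_of_T {y : Equiv.Perm (Fin 4060)} (hy : y ∈ grp gT 0 2) :
    ∃ (h : y ∈ HH), (⟨y, h⟩ : HH) • (0 : Fin 4060) = 0 := by
  have h1 := T_le_H1 hy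
  rw [(Cfsg.Agent.Lib.RuPMain.lev0).2.stab] at h1
  exact ⟨h1.1, h1.2⟩

/-- the subgroup of the stabilizer is the group of permutations -/
noncomputable def TTmap : TT →* grp gT 0 2 :=
  MonoidHom.mk' (fun x => ⟨x.1.1.1, x.2⟩) (fun _ _ => rfl)

theorem TTmap_bij : Function.Bijective TTmap := by
  constructor
  · rintro ⟨⟨⟨x, hx⟩, hx'⟩, hx''⟩ ⟨⟨⟨y, hy⟩, hy'⟩, hy''⟩ h
    have : x = y := congrArg Subtype.val h
    subst this
    rfl
  · rintro ⟨y, hy⟩
    obtain ⟨h1, h2⟩ := mem_H_of_T hy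
    exact ⟨⟨⟨⟨y, h1⟩, h2⟩, hy⟩, rfl⟩

theorem card_TT : Nat.card TT = 17971200 := by
  rw [Nat.card_congr (MulEquiv.ofBijective TTmap TTmap_bij).toEquiv]
  exact Cfsg.Agent.Lib.RuTMain.cardH0

theorem simple_TT : IsSimpleGroup TT :=
  haveI := Cfsg.Agent.Lib.RuTMain.simple_top
  (MulEquiv.ofBijective TTmap TTmap_bij).isSimpleGroup

theorem card_stab : Nat.card (MulAction.stabilizer HH (0 : Fin 4060)) = 35942400 := by
  have h := card_stabilizer_of_level (Cfsg.Agent.Lib.RuPMain.lev0).2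
  exact h.trans card_H1

theorem transitive_HH : MulAction.IsPretransitive HH (Fin 4060) :=
  transitive_of_level (Cfsg.Agent.Lib.RuPMain.lev0).2 (all_mem_orbF Cfsg.Agent.Lib.RuPMain.hOm)

end Cfsg.Agent.Lib.RuMain
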