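import Cfsg.Agent.Lib.RuBrLift
import Cfsg.Agent.Lib.RuBrEnum2
import Cfsg.Agent.Lib.RuMain

/-!
# The lifts of permutations to the lattice

The check `chkS` says that the map given by a matrix sends the vector `rp j` to four times a unit multiple of a vector
`rp j'`, where `j'` is the image of `j` under a permutation given by a program.
-/

set_option autoImplicit false
set_option maxRecDepth 1000000
set_option linter.unusedSectionVars false
set_option linter.unusedVariables false

namespace Cfsg.Agent.Lib.RuBr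

open Cfsg.Spor Cfsg.Agent.RuLat Finset Cfsg.Agent.Lib.TcBits

/-- the function of a program -/
def progFn (P : List (ℕ × ℕ)) (i : ℕ) : ℕ := P.foldr (fun l i => tau l.1 l.2 i) i

theorem progPerm_eq_fn {N : ℕ} {P : List (ℕ × ℕ)} (h : validProg N P = true) (i : ℕ) : progPerm P i = progFn P i := by
  induction P with
  | nil => simp [progPerm, progFn]
  | cons l P ih =>
    simp only [validProg, List.all_cons, Bool.and_eq_true] at h
    have h1 : progPerm (l :: P) = layerPerm l * progPerm P := by
      simp [progPerm]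
    rw [h1, Equiv.Perm.mul_apply, ih h.2, layerPerm_apply (disj_of_valid h.1)]
    rfl

/-- the unit at a point -/
def kAt (U j : ℕ) : ℕ := (U >>> (2 * j)) % 4

/-- the bound on the codes -/
def chkLt (cols : List ℕ) : Bool := cols.all fun G => Nat.blt G (2 ^ 896)

/-- the check of the images of the vectors -/
def chkS (cols : List ℕ) (U : ℕ) (P : List (ℕ × ℕ)) : Bool :=
  let Es : List ℤ := cols.map fun G : ℕ => (G : ℤ) - 16 * (R56 : ℤ)
  (List.range 4060).all fun j =>
    decide (tev (fAt j) Es = 4 * (((uePair (fAt (progFn P j)) (kAt U j)).1 : ℤ) - ((uePair (fAt (progFn P j)) (kAt U j)).2 : ℤ)))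

theorem um_mem {x : RuVec} (hx : x ∈ ruLattice) (k : ℕ) : um k x ∈ ruLattice := by
  induction k with
  | zero => exact hx
  | succ k ih => exact gI_smul_mem_ruLattice ih

theorem um_back (k : ℕ) (x : RuVec) : um (4 - k % 4) (um k x) = x := by
  rw [← um_add]
  exact um_eq_of_mod _ _ (by omega)

theorem um_mem_iff {x : RuVec} (k : ℕ) : um k x ∈ ruLattice ↔ x ∈ ruLattice := by
  constructor
  · intro h
    have := um_mem h (4 - k % 4)
    rwa [um_back] at this
  · intro h
    exact um_mem h k

theorem ev_tev (cols : List ℕ) (hl : cols.length = 56) (hlt : chkLt cols = true) (F : ℕ) :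
    ev (tT (mA cols) (vec F)) = tev F (cols.map fun G : ℕ => (G : ℤ) - 16 * (R56 : ℤ)) := by
  rw [tev_spec, List.length_map, hl, ev_tT]
  refine Finset.sum_congr rfl fun a ha => ?_
  have ha' := Finset.mem_range.1 ha
  rw [cc_vec _ _ ha']
  congr 1
  have h1 : (cols.getD a 0) < BB ^ 56 := by
    have h2 : cols.getD a 0 ∈ cols := by
      rw [List.getD_eq_getElem _ _ (by omega)]
      exact List.getElem_mem _
    have h3 := List.all_eq_true.1 hlt _ h2
    have e : BB ^ 56 = 2 ^ 896 := by
      rw [show BB = 2 ^ 16 by norm_num [BB], ← pow_mul]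
    rw [e]
    simpa [Nat.blt_eq] using h3
  have h2 := ev_vec _ h1
  rw [rep56_eq] at h2
  have h3 : (cols.map fun G : ℕ => (G : ℤ) - 16 * (R56 : ℤ)).getD a 0 = (cols.getD a 0 : ℤ) - 16 * (R56 : ℤ) := by
    rw [List.getD_eq_getElem _ _ (by simpa [hl] using ha'), List.getElem_map, List.getD_eq_getElem _ _ (by omega)]
  rw [h3, ← h2]
  unfold ev
  refine Finset.sum_congr rfl fun b hb => ?_
  rw [cc_vec _ _ (Finset.mem_range.1 hb)]
  rfl

/-- The map of a matrix on the vectors `rp j`. -/
theorem tT_rp {cols : List ℕ} {U : ℕ} {P : List (ℕ × ℕ)} (hl : cols.length = 56) (hA : Mat (mA cols))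
    (hlt : chkLt cols = true) (hS : chkS cols U P = true) {j : ℕ} (hj : j < 4060)
    (hP : progFn P j < 4060) : tT (mA cols) (rp j) = (4 : ℤ) • um (kAt U j) (rp (progFn P j)) := by
  have hn1 : ruNorm (tT (mA cols) (rp j)) ≤ 256 := by
    rw [norm_tT hA, norm_rp hj]
    norm_num
  have hn2 : ruNorm ((4 : ℤ) • um (kAt U j) (rp (progFn P j))) ≤ 256 := by
    rw [norm_zsmul_four, um_norm, norm_rp hP]
    norm_num
  refine ev_inj hn1 hn2 ?_
  rw [ev_zsmul_four, ev_um_rp hP, uev_eq]
  have h1 := List.all_eq_true.1 hS j (List.mem_range.2 hj)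
  rw [decide_eq_true_eq] at h1
  rw [rp, ev_tev cols hl hlt]
  exact h1

/-- The element of `fourRu` of a matrix. -/
theorem lift_props {cols : List ℕ} {U : ℕ} {P : List (ℕ × ℕ)} (hl : cols.length = 56) (hJ : chkJ cols = true)
    (hSm : chkSmall cols = true) (hO : chkO cols = true) (hI : chkI cols = true) (hlt : chkLt cols = true)
    (hS : chkS cols U P = true) :
    ∃ f ∈ fourRu, ∀ j < 4060, progFn P j < 4060 → ∀ h : rp j ∈ ruLattice,
      rp (progFn P j) ∈ ruLattice ∧
      (((f ⟨rp j, h⟩ : ruLattice) : RuVec) = um (kAt U j) (rp (progFn P j))) := by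
  have hA := mat_of_chk hJ hSm hO
  obtain ⟨f, hf, hspec⟩ := exists_lift hA (inside_of_chk hI)
  refine ⟨f, hf, fun j hj hP h => ?_⟩
  have h1 := hspec ⟨rp j, h⟩
  have h2 := tT_rp hl hA hlt hS hj hP
  have h3 : ((f ⟨rp j, h⟩ : ruLattice) : RuVec) = um (kAt U j) (rp (progFn P j)) := by
    apply four_inj
    rw [← h2]
    exact h1.symm
  refine ⟨?_, h3⟩
  rw [← um_mem_iff (kAt U j), ← h3]
  exact (f ⟨rp j, h⟩).2

end Cfsg.Agent.Lib.RuBr
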