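import Cfsg.Agent.Lib.RuBrLiftG
import Cfsg.Agent.Lib.RuBrRun

/-!
# The automorphism group of the Rudvalis lattice

The group `fourRu` acts on the 4060 classes of minimal vectors. The image of the action is the group `RuMain.HH`, and the
kernel consists of the four unit scalars.
-/

set_option autoImplicit false
set_option maxRecDepth 100000
set_option linter.unusedSectionVars false
set_option linter.unusedVariables false

namespace Cfsg.Agent.Lib.RuBr

open Cfsg.Spor Cfsg.Agent.RuLat Finset Cfsg.Agent.Lib.TcBits Cfsg.Agent.Lib.ProgBits Cfsg.Agent.Lib.ProgChain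
  Cfsg.Agent.Lib.PermChain Cfsg.Agent.Lib.GraphRefine

/-- the letters -/
noncomputable abbrev gH := Cfsg.Agent.Lib.RuMain.gH

/-- the Rudvalis group on 4060 points -/
noncomputable abbrev HH : Subgroup (Equiv.Perm (Fin 4060)) := Cfsg.Agent.Lib.RuMain.HH

theorem progFn_letter (e : ℕ) (j : Fin 4060) : progFn (Cfsg.Agent.Lib.RuPTab.pr e) j.1 = (gH e j).1 := by
  rw [← progPerm_eq_fn (Cfsg.Agent.Lib.RuPMain.ctx.hv e), ← Cfsg.Agent.Lib.RuPMain.ctx.lp_apply]

theorem lifts (e : ℕ) (he : e < 2) : ∃ f ∈ fourRu, ∀ j : Fin 4060, ∀ h : rp j.1 ∈ ruLattice,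
    rp (gH e j).1 ∈ ruLattice ∧ ∃ k, ((f ⟨rp j.1, h⟩ : ruLattice) : RuVec) = um k (rp (gH e j).1) := by
  have key : ∀ {cols : List ℕ} {U : ℕ}, cols.length = 56 → chkJ cols = true → chkSmall cols = true → chkO cols = true →
      chkI cols = true → chkLt cols = true → chkS cols U (Cfsg.Agent.Lib.RuPTab.pr e) = true →
      ∃ f ∈ fourRu, ∀ j : Fin 4060, ∀ h : rp j.1 ∈ ruLattice,
        rp (gH e j).1 ∈ ruLattice ∧ ∃ k, ((f ⟨rp j.1, h⟩ : ruLattice) : RuVec) = um k (rp (gH e j).1) := by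
    intro cols U hl hJ hSm hO hI hlt hS
    obtain ⟨f, hf, hspec⟩ := lift_props hl hJ hSm hO hI hlt hS
    refine ⟨f, hf, fun j h => ?_⟩
    have h1 := hspec j.1 j.2 (by rw [progFn_letter]; exact (gH e j).2) h
    rw [progFn_letter] at h1
    exact ⟨h1.1, _, h1.2⟩
  have he2 : e = 0 ∨ e = 1 := by omega
  rcases he2 with rfl | rfl
  · exact key (by rfl) chkJ0 chkSm0 chkO0 chkI0 chkLt0 chkS0
  · exact key (by rfl) chkJ1 chkSm1 chkO1 chkI1 chkLt1 chkS1

/-- The list form of a vector `rp j`. -/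
theorem rp_eq_ofL (j : ℕ) : rp j = ofL ((List.range 56).map (ent (fAt j))) := by
  apply ext_cc
  intro a ha
  rw [rp, cc_vec _ _ ha, cc_ofL _ _ ha, List.getD_eq_getElem _ _ (by simpa using ha), List.getElem_map,
    List.getElem_range]

theorem chk_rp0 : memChk ((List.range 56).map (ent (fAt 0))) = true := by decide +kernel

theorem rp0_mem : rp 0 ∈ ruLattice := by
  rw [mem_LL_iff, rp_eq_ofL]
  exact memChk_spec chk_rp0

theorem inv_stays {S : Set (Fin 4060)} {g : Equiv.Perm (Fin 4060)} (h : ∀ x ∈ S, g x ∈ S) : ∀ x ∈ S, g⁻¹ x ∈ S := by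
  have h1 : ∀ n : ℕ, ∀ x ∈ S, (g ^ n) x ∈ S := by
    intro n
    induction n with
    | zero => intro x hx; simpa using hx
    | succ n ih =>
      intro x hx
      rw [pow_succ', Equiv.Perm.mul_apply]
      exact h _ (ih x hx)
  have h2 : g⁻¹ = g ^ (orderOf g - 1) := by
    apply inv_eq_of_mul_eq_one_right
    rw [← pow_succ', Nat.sub_add_cancel (orderOf_pos g), pow_orderOf_eq_one]
  intro x hx
  rw [h2]
  exact h1 _ x hx

theorem rp_mem_aux {y : Equiv.Perm (Fin 4060)} (hy : y ∈ Subgroup.closure {x | ∃ k ∈ List.range' 0 2, x = gH k}) :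
    ∀ j : Fin 4060, rp j.1 ∈ ruLattice → rp (y j).1 ∈ ruLattice := by
  induction hy using Subgroup.closure_induction with
  | mem x hx =>
    obtain ⟨k, hk, rfl⟩ := hx
    intro j hj
    obtain ⟨f, _, hf⟩ := lifts k (by
      obtain ⟨h1, h2⟩ := List.mem_range'_1.mp hk
      omega)
    exact (hf j hj).1
  | one => intro j hj; exact hj
  | mul a b _ _ ha hb =>
    intro j hj
    exact ha _ (hb j hj)
  | inv a _ ha =>
    intro j hj
    exact inv_stays (S := {j | rp j.1 ∈ ruLattice}) (fun x hx => ha x hx) j hj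

/-- All the vectors `rp j` lie in the lattice. -/
theorem rp_mem_all (j : Fin 4060) : rp j.1 ∈ ruLattice := by
  haveI := Cfsg.Agent.Lib.RuMain.transitive_HH
  obtain ⟨y, hy⟩ := MulAction.exists_smul_eq HH (0 : Fin 4060) j
  have h1 := rp_mem_aux y.2 0 rp0_mem
  have h2 : y.1 0 = j := hy
  rwa [h2] at h1

/-- the vectors in the lattice -/
def rpL (j : Fin 4060) : ruLattice := ⟨rp j.1, rp_mem_all j⟩

theorem mem_four (f : fourRu) : (∀ v w : ruLattice, f.1 (v + w) = f.1 v + f.1 w) ∧ (∀ v : ruLattice, f.1 (ruI v) = ruI (f.1 v)) ∧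
    ∀ v : ruLattice, ruNorm ((f.1 v : ruLattice) : RuVec) = ruNorm (v : RuVec) := f.2

theorem img_class (f : fourRu) (j : Fin 4060) : ∃ j' : Fin 4060, ∃ k, ((f.1 (rpL j) : ruLattice) : RuVec) = um k (rp j'.1) := by
  have h1 : ruNorm ((f.1 (rpL j) : ruLattice) : RuVec) = 16 := by
    rw [(mem_four f).2.2]
    exact norm_rp j.2
  obtain ⟨j', hj', k, e⟩ := enum (mem_LL_iff.1 (f.1 (rpL j)).2) h1
  exact ⟨⟨j', hj'⟩, k, e⟩

theorem f_um (f : fourRu) (k : ℕ) (x y : ruLattice) (h : (y : RuVec) = um k (x : RuVec)) :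
    ((f.1 y : ruLattice) : RuVec) = um k ((f.1 x : ruLattice) : RuVec) := by
  induction k generalizing y with
  | zero =>
    have : y = x := Subtype.ext h
    rw [this]
    rfl
  | succ k ih =>
    let z : ruLattice := ⟨um k (x : RuVec), um_mem x.2 k⟩
    have h1 : y = ruI z := Subtype.ext h
    rw [h1, (mem_four f).2.1]
    show gI • ((f.1 z : ruLattice) : RuVec) = gI • um k ((f.1 x : ruLattice) : RuVec)
    rw [ih z rfl]

/-- the action on the classes -/
noncomputable def act (f : fourRu) (j : Fin 4060) : Fin 4060 := Classical.choose (img_class f j)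

theorem act_spec (f : fourRu) (j : Fin 4060) : ∃ k, ((f.1 (rpL j) : ruLattice) : RuVec) = um k (rp (act f j).1) :=
  Classical.choose_spec (img_class f j)

theorem act_unique {f : fourRu} {j j' : Fin 4060} {k : ℕ} (h : ((f.1 (rpL j) : ruLattice) : RuVec) = um k (rp j'.1)) :
    act f j = j' := by
  obtain ⟨k', h'⟩ := act_spec f j
  exact Fin.ext (rp_unique (act f j).2 j'.2 (h'.symm.trans h))

theorem act_one (j : Fin 4060) : act 1 j = j := act_unique (k := 0) rfl

theorem act_mul (f g : fourRu) (j : Fin 4060) : act (f * g) j = act f (act g j) := by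
  obtain ⟨k, hk⟩ := act_spec g j
  obtain ⟨l, hl⟩ := act_spec f (act g j)
  refine act_unique (k := k + l) ?_
  show ((f.1 (g.1 (rpL j)) : ruLattice) : RuVec) = _
  rw [f_um f k (rpL (act g j)) (g.1 (rpL j)) hk, hl, ← um_add]

/-- the action of the automorphism group on the classes of minimal vectors -/
noncomputable def phi : fourRu →* Equiv.Perm (Fin 4060) where
  toFun f :=
    { toFun := act f
      invFun := act f⁻¹
      left_inv := fun j => by rw [← act_mul, inv_mul_cancel, act_one]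
      right_inv := fun j => by rw [← act_mul, mul_inv_cancel, act_one] }
  map_one' := Equiv.ext act_one
  map_mul' f g := Equiv.ext (act_mul f g)

theorem phi_apply (f : fourRu) (j : Fin 4060) : phi f j = act f j := rfl

/-! ### Inner products -/

theorem gI_re (x : RuVec) (p : RuIdx) : ((gI • x) p).re = - (x p).im := by
  show (gI * x p).re = _
  simp [gI, Zsqrtd.re_mul]

theorem gI_im (x : RuVec) (p : RuIdx) : ((gI • x) p).im = (x p).re := by
  show (gI * x p).im = _
  simp [gI, Zsqrtd.im_mul]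

theorem norm_add_eq (x y : RuVec) : ruNorm (x + y) = ruNorm x + ruNorm y + 2 * dot x y := by
  rw [ruNorm_eq, ruNorm_eq, ruNorm_eq, dot_add_left, dot_comm x (x + y), dot_comm y (x + y), dot_add_left, dot_add_left,
    dot_comm y x]
  ring

theorem dot_f (f : fourRu) (x y : ruLattice) :
    dot ((f.1 x : ruLattice) : RuVec) ((f.1 y : ruLattice) : RuVec) = dot (x : RuVec) (y : RuVec) := by
  have h1 := (mem_four f).2.2 (x + y)
  rw [(mem_four f).1] at h1
  have h2 : ((f.1 x + f.1 y : ruLattice) : RuVec) = (f.1 x : RuVec) + (f.1 y : RuVec) := rfl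
  have h3 : ((x + y : ruLattice) : RuVec) = (x : RuVec) + (y : RuVec) := rfl
  rw [h2, h3, norm_add_eq, norm_add_eq, (mem_four f).2.2, (mem_four f).2.2] at h1
  linarith

theorem dot_i_i (x y : RuVec) : dot (gI • x) (gI • y) = dot x y := by
  unfold dot term
  refine Finset.sum_congr rfl fun p _ => ?_
  rw [gI_re, gI_im, gI_re, gI_im]
  ring

theorem dot_i_left (x y : RuVec) : dot (gI • x) y = - dot x (gI • y) := by
  unfold dot term
  rw [← Finset.sum_neg_distrib]
  refine Finset.sum_congr rfl fun p _ => ?_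
  rw [gI_re, gI_im, gI_re, gI_im]
  ring

theorem dot_i_right (x y : RuVec) : dot x (gI • y) = - dot (gI • x) y := by
  rw [dot_i_left, neg_neg]

theorem dot_neg_right (x y : RuVec) : dot x (-y) = - dot x y := by
  rw [dot_comm, dot_neg_left, dot_comm]

theorem PP_i_right (x y : RuVec) : PP x (gI • y) ↔ PP x y := by
  unfold PP
  rw [gI_smul_gI_smul, dot_neg_right, dvd_neg]
  tauto

theorem PP_i_left (x y : RuVec) : PP (gI • x) y ↔ PP x y := by
  unfold PP
  rw [dot_i_i, dot_i_left, dvd_neg]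
  tauto

theorem PP_um_left (k : ℕ) (x y : RuVec) : PP (um k x) y ↔ PP x y := by
  induction k with
  | zero => rfl
  | succ k ih => exact (PP_i_left _ _).trans ih

theorem PP_um_right (k : ℕ) (x y : RuVec) : PP x (um k y) ↔ PP x y := by
  induction k with
  | zero => rfl
  | succ k ih => exact (PP_i_right _ _).trans ih

theorem PP_act (f : fourRu) (a b : Fin 4060) : PP (rp (act f a).1) (rp (act f b).1) ↔ PP (rp a.1) (rp b.1) := by
  obtain ⟨k, hk⟩ := act_spec f a
  obtain ⟨l, hl⟩ := act_spec f b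
  rw [← PP_um_left k, ← PP_um_right l, ← hk, ← hl]
  unfold PP
  have h1 : gI • ((f.1 (rpL b) : ruLattice) : RuVec) = ((f.1 (ruI (rpL b)) : ruLattice) : RuVec) := by
    rw [(mem_four f).2.1]
    rfl
  rw [h1, dot_f, dot_f]
  rfl

theorem WW_act (f : fourRu) (a b : Fin 4060) :
    WW (rows.getD (phi f a).1 (0, 0)) (rows.getD (phi f b).1 (0, 0)) = WW (rows.getD a.1 (0, 0)) (rows.getD b.1 (0, 0)) := by
  rw [rows_getD (phi f a).2, rows_getD (phi f b).2, rows_getD a.2, rows_getD b.2,
    WW_mk _ _ _ _ (by have := (phi f a).2; omega) (by have := (phi f b).2; omega) (small_rp (phi f a).2) (small_rp (phi f b).2),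
    WW_mk _ _ _ _ (by have := a.2; omega) (by have := b.2; omega) (small_rp a.2) (small_rp b.2)]
  have h : PP (vec (fAt (phi f a).1)) (vec (fAt (phi f b).1)) ↔ PP (vec (fAt a.1)) (vec (fAt b.1)) := PP_act f a b
  by_cases hp : PP (vec (fAt a.1)) (vec (fAt b.1))
  · rw [if_pos hp, if_pos (h.2 hp)]
  · rw [if_neg hp, if_neg (fun hq => hp (h.1 hq))]

/-! ### The image -/

theorem card_range_le : Nat.card phi.range ≤ 145926144000 := by
  refine card_le_of_run (Equiv.refl _) WW rows (0, 0) rows_len phi.range ?_ opsRAll run_opsR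
  rintro _ ⟨f, rfl⟩ x y
  exact WW_act f x y

theorem gen_mem_range (e : ℕ) (he : e < 2) : gH e ∈ phi.range := by
  obtain ⟨f, hf, hspec⟩ := lifts e he
  refine ⟨⟨f, hf⟩, ?_⟩
  apply Equiv.ext
  intro j
  obtain ⟨_, k, hk⟩ := hspec j (rp_mem_all j)
  exact act_unique hk

theorem HH_le_range : HH ≤ phi.range := by
  show Subgroup.closure _ ≤ _
  rw [Subgroup.closure_le]
  rintro x ⟨k, hk, rfl⟩
  exact gen_mem_range k (by
    obtain ⟨h1, h2⟩ := List.mem_range'_1.mp hk
    omega)

theorem range_eq : HH = phi.range := by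
  refine Subgroup.eq_of_le_of_card_ge HH_le_range ?_
  have h : Nat.card HH = 145926144000 := Cfsg.Agent.Lib.RuPMain.cardH0
  rw [h]
  exact card_range_le

/-! ### The kernel -/

/-- the vector with one coordinate 4 -/
def eV (p : RuIdx) : RuVec := fun q => if q = p then ⟨4, 0⟩ else 0

theorem zt_spec {a : ℕ} (ha : a < 56) : zt.getD a 0 / 4 < 4060 ∧
    uev (fAt (zt.getD a 0 / 4)) (zt.getD a 0 % 4) = 4 * (BB : ℤ) ^ a := by
  have hz1 := List.all_eq_true.1 chk_zt.2 a (List.mem_range.2 ha)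
  rw [Bool.and_eq_true] at hz1
  set c := zt.getD a 0 with hc
  have hj : c / 4 < 4060 := by
    have := hz1.2
    simpa [Nat.blt_eq] using this
  refine ⟨hj, ?_⟩
  have h1 := Nat.eq_of_beq_eq_true hz1.1
  rw [uev_eq]
  have h3 : ((4 * 65536 ^ a + (uePair (fAt (c / 4)) (c % 4)).2 : ℕ) : ℤ) = ((uePair (fAt (c / 4)) (c % 4)).1 : ℤ) := by
    rw [h1]
  push_cast at h3
  rw [← h3]
  have : (BB : ℤ) = 65536 := rfl
  rw [this]
  ring

theorem ev_eV (p : RuIdx) : ev (eV p) = 4 * (BB : ℤ) ^ (idx p) := by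
  unfold ev
  rw [sum56, Finset.sum_eq_single p]
  · rw [cc_idx, cc_idx28]
    simp [eV]
  · intro q _ hq
    rw [cc_idx, cc_idx28]
    simp [eV, hq]
  · simp

theorem norm_eV (p : RuIdx) : ruNorm (eV p) = 16 := by
  unfold ruNorm
  rw [Finset.sum_eq_single p]
  · simp [eV, Zsqrtd.norm_def]
  · intro q _ hq
    simp [eV, hq, Zsqrtd.norm_def]
  · simp

theorem eV_class (p : RuIdx) : ∃ j : Fin 4060, ∃ u, eV p = um u (rp j.1) := by
  have hp : idx p < 56 := by have := idx_lt p; omega
  obtain ⟨h1, h2⟩ := zt_spec hp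
  refine ⟨⟨_, h1⟩, zt.getD (idx p) 0 % 4, ev_inj ?_ ?_ ?_⟩
  · rw [norm_eV]; norm_num
  · rw [um_norm, norm_rp h1]; norm_num
  · rw [ev_eV, ev_um_rp h1, h2]

theorem eV_mem (p : RuIdx) : eV p ∈ ruLattice := by
  obtain ⟨j, u, e⟩ := eV_class p
  rw [e]
  exact um_mem (rp_mem_all j) u

/-- the vector with one coordinate 4 in the lattice -/
def eL (p : RuIdx) : ruLattice := ⟨eV p, eV_mem p⟩

theorem ker_rp {f : fourRu} (hf : phi f = 1) (j : Fin 4060) : ∃ k, ((f.1 (rpL j) : ruLattice) : RuVec) = um k (rp j.1) := by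
  obtain ⟨k, hk⟩ := act_spec f j
  have h1 : act f j = j := by
    have := congrArg (fun g : Equiv.Perm (Fin 4060) => g j) hf
    exact this
  rw [h1] at hk
  exact ⟨k, hk⟩

theorem um_comm (k l : ℕ) (x : RuVec) : um k (um l x) = um l (um k x) := by
  rw [← um_add, ← um_add, add_comm]

theorem ker_e {f : fourRu} (hf : phi f = 1) (p : RuIdx) : ∃ k, ((f.1 (eL p) : ruLattice) : RuVec) = um k (eV p) := by
  obtain ⟨j, u, e⟩ := eV_class p
  obtain ⟨k, hk⟩ := ker_rp hf j
  refine ⟨k, ?_⟩
  have h1 := f_um f u (rpL j) (eL p) e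
  rw [h1, hk, um_comm, ← e]

theorem dot_eV (y : RuVec) (p : RuIdx) : dot y (eV p) = 4 * (y p).re := by
  unfold dot term
  rw [Finset.sum_eq_single p]
  · simp [eV]
    ring
  · intro q _ hq
    simp [eV, hq]
  · simp

theorem dot_i_eV (y : RuVec) (p : RuIdx) : dot y (gI • eV p) = 4 * (y p).im := by
  unfold dot term
  rw [Finset.sum_eq_single p]
  · rw [gI_re, gI_im]
    simp [eV]
    ring
  · intro q _ hq
    rw [gI_re, gI_im]
    simp [eV, hq]
  · simp

theorem dot_um_um (m : ℕ) (x y : RuVec) : dot (um m x) (um m y) = dot x y := by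
  induction m with
  | zero => rfl
  | succ m ih =>
    show dot (gI • um m x) (gI • um m y) = _
    rw [dot_i_i, ih]

theorem um_i (m : ℕ) (z : RuVec) : um m (gI • z) = gI • um m z := um_comm m 1 z

theorem um_apply (k : ℕ) (x : RuVec) (p : RuIdx) : um k x p = gI ^ k * x p := by
  induction k with
  | zero => simp [um]
  | succ k ih =>
    show gI * um k x p = _
    rw [ih, pow_succ']
    ring

/-- The coordinates of the image under an element of the kernel. -/
theorem coord_f {f : fourRu} {p : RuIdx} {k : ℕ} (hk : ((f.1 (eL p) : ruLattice) : RuVec) = um k (eV p)) (x : ruLattice) :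
    ((f.1 x : ruLattice) : RuVec) p = gI ^ k * (x : RuVec) p := by
  set m := 4 - k % 4 with hm
  have h1 : um m (um k (eV p)) = eV p := um_back k _
  have h2 : dot (um m ((f.1 x : ruLattice) : RuVec)) (eV p) = dot (x : RuVec) (eV p) := by
    have h3 := dot_f f x (eL p)
    rw [hk] at h3
    rw [← dot_um_um m, h1] at h3
    exact h3
  have h4 : dot (um m ((f.1 x : ruLattice) : RuVec)) (gI • eV p) = dot (x : RuVec) (gI • eV p) := by
    have h3 := dot_f f x (ruI (eL p))
    rw [(mem_four f).2.1] at h3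
    have h5 : ((ruI (f.1 (eL p)) : ruLattice) : RuVec) = gI • um k (eV p) := by
      show gI • ((f.1 (eL p) : ruLattice) : RuVec) = _
      rw [hk]
    rw [h5, ← dot_um_um m, um_i, h1] at h3
    exact h3
  rw [dot_eV, dot_eV] at h2
  rw [dot_i_eV, dot_i_eV] at h4
  have h6 : um m ((f.1 x : ruLattice) : RuVec) p = (x : RuVec) p := by
    apply Zsqrtd.ext <;> omega
  have h7 : um k (um m ((f.1 x : ruLattice) : RuVec)) = ((f.1 x : ruLattice) : RuVec) := by
    rw [← um_add]
    exact um_eq_of_mod _ _ (by omega)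
  rw [← h6, ← um_apply, h7]

theorem chk_cover : ∀ p : RuIdx, rp 1 p ≠ 0 ∨ rp 394 p ≠ 0 := by decide +kernel

theorem chk_meet : ∃ p : RuIdx, rp 1 p ≠ 0 ∧ rp 394 p ≠ 0 := by decide +kernel

/-- The elements of the kernel are unit scalars. -/
theorem ker_scalar {f : fourRu} (hf : phi f = 1) : ∃ k, ∀ x : ruLattice, ((f.1 x : ruLattice) : RuVec) = um k (x : RuVec) := by
  choose kk hkk using ker_e hf
  have hc : ∀ x : ruLattice, ∀ p, ((f.1 x : ruLattice) : RuVec) p = gI ^ (kk p) * (x : RuVec) p :=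
    fun x p => coord_f (hkk p) x
  have hv : ∀ j : Fin 4060, ∀ K, ((f.1 (rpL j) : ruLattice) : RuVec) = um K (rp j.1) → ∀ p, rp j.1 p ≠ 0 →
      gI ^ (kk p) = gI ^ K := by
    intro j K hK p hp
    have h1 := hc (rpL j) p
    rw [hK, um_apply] at h1
    exact (mul_right_cancel₀ hp h1).symm
  obtain ⟨K1, hK1⟩ := ker_rp hf (⟨1, by norm_num⟩ : Fin 4060)
  obtain ⟨K2, hK2⟩ := ker_rp hf (⟨394, by norm_num⟩ : Fin 4060)
  have h12 : gI ^ K2 = gI ^ K1 := by
    obtain ⟨p, hp1, hp2⟩ := chk_meet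
    rw [← hv _ K1 hK1 p hp1, hv _ K2 hK2 p hp2]
  refine ⟨K1, fun x => ?_⟩
  funext p
  rw [hc, um_apply]
  rcases chk_cover p with hp | hp
  · rw [hv _ K1 hK1 p hp]
  · rw [hv _ K2 hK2 p hp, h12]

/-- multiplication by `i` as a permutation -/
def ruIEquiv : Equiv.Perm ruLattice where
  toFun := ruI
  invFun := fun v => ruI (ruI (ruI v))
  left_inv v := Subtype.ext (by
    show gI • gI • gI • gI • (v : RuVec) = v
    rw [gI_smul_gI_smul, gI_smul_gI_smul, neg_neg])
  right_inv v := Subtype.ext (by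
    show gI • gI • gI • gI • (v : RuVec) = v
    rw [gI_smul_gI_smul, gI_smul_gI_smul, neg_neg])

theorem ruI_mem : ruIEquiv ∈ fourRu :=
  ⟨fun v w => Subtype.ext (smul_add _ _ _), fun v => rfl, fun v => ruNorm_i _⟩

/-- the scalar `i` -/
def sc : fourRu := ⟨ruIEquiv, ruI_mem⟩

theorem sc_apply (x : ruLattice) : ((sc.1 x : ruLattice) : RuVec) = gI • (x : RuVec) := rfl

theorem sc_pow (k : ℕ) (x : ruLattice) : (((sc ^ k).1 x : ruLattice) : RuVec) = um k (x : RuVec) := by
  induction k with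
  | zero => rfl
  | succ k ih =>
    rw [pow_succ']
    show gI • (((sc ^ k).1 x : ruLattice) : RuVec) = gI • um k (x : RuVec)
    rw [ih]

theorem sc_eq_of {f : fourRu} {k : ℕ} (h : ∀ x : ruLattice, ((f.1 x : ruLattice) : RuVec) = um k (x : RuVec)) : f = sc ^ k := by
  apply Subtype.ext
  apply Equiv.ext
  intro x
  apply Subtype.ext
  rw [h, sc_pow]

theorem sc_four : sc ^ 4 = 1 := by
  have h := sc_eq_of (f := 1) (k := 4) (fun x => rfl |>.trans (um_eq_of_mod 4 _ rfl).symm)
  exact h.symm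

theorem sc_two : sc ^ 2 ≠ 1 := by
  intro h
  let p : RuIdx := (0, 0)
  have h1 := sc_pow 2 (eL p)
  rw [h] at h1
  have h2 : ((eL p : ruLattice) : RuVec) = - ((eL p : ruLattice) : RuVec) := by
    have h3 : um 2 ((eL p : ruLattice) : RuVec) = - ((eL p : ruLattice) : RuVec) := um_two _
    rw [← h3]
    exact h1
  have h4 := congrFun h2 p
  have h5 : ((eL p : ruLattice) : RuVec) p = ⟨4, 0⟩ := by
    show eV p p = _
    simp [eV]
  have h6 := congrArg Zsqrtd.re h4
  simp only [Pi.neg_apply, Zsqrtd.re_neg, h5] at h6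
  omega

theorem order_sc : orderOf sc = 4 := by
  haveI : Fact (Nat.Prime 2) := ⟨Nat.prime_two⟩
  have h := orderOf_eq_prime_pow (G := fourRu) (x := sc) (p := 2) (n := 1) (by simpa using sc_two) (by simpa using sc_four)
  simpa using h

theorem phi_sc : phi sc = 1 := by
  apply Equiv.ext
  intro j
  exact act_unique (f := sc) (k := 1) rfl

theorem ker_eq : phi.ker = Subgroup.zpowers sc := by
  apply le_antisymm
  · intro f hf
    obtain ⟨k, hk⟩ := ker_scalar hf
    rw [sc_eq_of hk]
    exact Subgroup.npow_mem_zpowers _ _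
  · rw [Subgroup.zpowers_le]
    exact phi_sc

theorem sc_central : sc ∈ Subgroup.center fourRu := by
  rw [Subgroup.mem_center_iff]
  intro f
  apply Subtype.ext
  apply Equiv.ext
  intro x
  exact ((mem_four f).2.1 x).trans rfl |>.symm.symm

theorem chk_noncomm : progFn (Cfsg.Agent.Lib.RuPTab.pr 0) (progFn (Cfsg.Agent.Lib.RuPTab.pr 1) 0) ≠
    progFn (Cfsg.Agent.Lib.RuPTab.pr 1) (progFn (Cfsg.Agent.Lib.RuPTab.pr 0) 0) := by decide +kernel

theorem letters_noncomm : gH 0 * gH 1 ≠ gH 1 * gH 0 := by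
  intro h
  have h1 := congrArg (fun g : Equiv.Perm (Fin 4060) => (g 0).1) h
  simp only [Equiv.Perm.mul_apply] at h1
  apply chk_noncomm
  have h2 : ∀ e, progFn (Cfsg.Agent.Lib.RuPTab.pr e) 0 = (gH e 0).1 := fun e => progFn_letter e 0
  rw [h2, h2, progFn_letter 0 (gH 1 0), progFn_letter 1 (gH 0 0)]
  exact h1

theorem simple_HH : IsSimpleGroup HH := Cfsg.Agent.Lib.RuPMain.simple_top

theorem center_HH : Subgroup.center HH = ⊥ := by
  haveI := simple_HH
  rcases (inferInstance : (Subgroup.center HH).Normal).eq_bot_or_eq_top with h | h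
  · exact h
  · exfalso
    have h0 : gH 0 ∈ HH := gen_mem_grp _ (by norm_num) (by norm_num)
    have h1 : gH 1 ∈ HH := gen_mem_grp _ (by norm_num) (by norm_num)
    have h2 : (⟨gH 0, h0⟩ : HH) ∈ Subgroup.center HH := by rw [h]; trivial
    have h3 := Subgroup.mem_center_iff.1 h2 ⟨gH 1, h1⟩
    exact letters_noncomm (congrArg Subtype.val h3).symm

theorem center_eq : Subgroup.center fourRu = phi.ker := by
  apply le_antisymm
  · intro z hz
    have h1 : phi z ∈ HH := by rw [range_eq]; exact ⟨z, rfl⟩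
    have h2 : (⟨phi z, h1⟩ : HH) ∈ Subgroup.center HH := by
      rw [Subgroup.mem_center_iff]
      rintro ⟨y, hy⟩
      rw [range_eq] at hy
      obtain ⟨f, rfl⟩ := hy
      apply Subtype.ext
      show phi f * phi z = phi z * phi f
      rw [← map_mul, ← map_mul, Subgroup.mem_center_iff.1 hz f]
    rw [center_HH, Subgroup.mem_bot] at h2
    exact congrArg Subtype.val h2
  · rw [ker_eq, Subgroup.zpowers_le]
    exact sc_central

/-- The quotient is the group on 4060 points. -/
noncomputable def quotEquiv : Ru ≃* HH :=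
  (QuotientGroup.quotientMulEquivOfEq center_eq).trans
    ((QuotientGroup.quotientKerEquivRange phi).trans (MulEquiv.subgroupCongr range_eq.symm))

/-- The main theorem on the automorphism group of the Rudvalis lattice. -/
theorem main_ru : Nat.card (Subgroup.center fourRu) = 4 ∧ Nat.card Ru = 145926144000 ∧ IsSimpleGroup Ru := by
  refine ⟨?_, ?_, ?_⟩
  · rw [center_eq, ker_eq, Nat.card_zpowers, order_sc]
  · rw [Nat.card_congr quotEquiv.toEquiv]
    exact Cfsg.Agent.Lib.RuPMain.cardH0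
  · haveI := simple_HH
    exact quotEquiv.isSimpleGroup

end Cfsg.Agent.Lib.RuBr
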