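/-
Parts of the statement about the rank-28 Gaussian lattice: every stored norm is a multiple of 8, never 8.
Proof by an explicit triangular basis of the lattice (modulo checks run by kernel evaluation) and a descent on
the (1+i)-adic digits of a vector of stored norm 8.
-/
import Cfsg.Prelude.Def_Spor_Ru

set_option autoImplicit false
set_option maxRecDepth 100000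

namespace Cfsg.Agent.RuLat

open Cfsg.Spor

/-- Triangular integer basis (real coordinates; real parts first) with pivot positions. -/
def PB0 : List (ℕ × List ℕ) := [
  (0,[1,0,0,0,1,3,3,1,3,0,0,3,0,0,1,0,0,0,3,3,0,0,0,0,0,0,0,0,0,0,3,0,0,0,0,0,0,0,0,0,0,0,0,3,0,0,0,0,1,0,3,0,0,3,1,0]),
  (1,[0,1,0,0,0,0,0,1,0,0,1,3,0,0,0,0,1,0,0,0,1,0,0,0,1,0,0,1,0,0,1,0,0,0,3,0,0,0,0,0,1,0,1,0,0,0,0,1,0,0,3,0,0,1,3,0]),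
  (2,[0,0,1,3,0,1,0,0,0,0,0,1,0,0,0,0,0,0,0,0,3,0,0,1,0,0,0,0,0,0,0,0,0,0,0,1,1,0,0,0,0,1,0,1,3,3,1,1,0,0,0,0,1,1,0,0]),
  (3,[0,0,0,1,0,0,0,0,0,1,1,0,1,0,0,1,3,1,0,0,3,0,0,0,1,0,1,0,3,0,0,0,0,1,0,1,3,0,0,1,0,0,0,0,0,0,0,0,0,1,0,0,0,0,0,0]),
  (4,[0,0,0,0,1,0,0,0,0,0,0,3,0,1,1,0,1,0,0,0,0,1,0,3,0,0,3,0,3,1,0,0,0,1,0,0,0,1,0,0,0,0,0,0,0,0,3,0,1,0,1,0,0,3,0,0]),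
  (5,[0,0,0,0,0,1,0,0,1,1,0,0,3,0,0,0,0,1,0,0,0,0,0,3,0,1,0,1,1,3,3,1,0,0,3,0,0,0,0,0,0,1,0,0,0,0,0,3,1,0,0,0,0,0,0,0]),
  (6,[0,0,0,0,0,0,1,0,0,0,0,0,0,3,0,0,0,0,0,3,1,0,0,0,3,1,3,1,1,0,0,1,0,0,0,1,0,0,3,3,0,0,0,3,3,0,0,0,0,0,1,0,0,0,0,0]),
  (7,[0,0,0,0,0,0,0,1,0,1,0,0,1,0,3,0,0,0,0,1,1,0,0,0,0,1,1,0,1,0,0,1,0,0,3,0,1,0,0,0,0,0,0,0,1,0,0,0,0,0,3,0,1,0,0,3]),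
  (8,[0,0,0,0,0,0,0,0,1,0,0,0,0,0,0,0,3,0,0,1,0,0,3,0,0,0,1,3,3,0,3,0,0,1,1,0,0,0,1,0,3,1,1,3,0,0,0,0,0,0,0,3,0,0,0,0]),
  (9,[0,0,0,0,0,0,0,0,0,1,0,0,0,0,0,0,3,0,0,0,0,1,0,1,3,0,0,1,3,0,0,3,1,3,0,0,1,0,0,0,3,0,3,0,0,0,0,3,0,0,0,0,0,3,3,0]),
  (10,[0,0,0,0,0,0,0,0,0,0,1,0,3,3,1,1,0,1,0,0,0,0,0,3,3,0,0,0,3,0,3,0,0,3,3,0,1,0,0,0,0,0,0,0,0,0,1,0,0,0,3,0,0,3,0,0]),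
  (11,[0,0,0,0,0,0,0,0,0,0,0,1,0,0,0,0,0,3,0,1,1,0,0,1,0,0,3,0,0,0,3,1,3,0,3,0,1,0,0,0,0,3,0,3,3,0,3,0,0,0,0,0,0,0,0,3]),
  (12,[0,0,0,0,0,0,0,0,0,0,0,0,1,1,3,1,0,0,0,0,3,3,1,1,1,3,1,3,3,0,0,3,1,1,0,0,0,0,1,1,0,1,0,1,0,3,3,0,1,0,3,0,0,0,0,0]),
  (13,[0,0,0,0,0,0,0,0,0,0,0,0,0,2,2,0,2,0,0,0,0,0,0,0,0,0,2,0,0,0,0,0,0,0,0,0,0,0,0,0,0,0,0,0,0,0,2,0,0,0,0,0,0,2,0,0]),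
  (14,[0,0,0,0,0,0,0,0,0,0,0,0,0,0,2,0,0,0,2,2,0,0,0,0,0,0,0,0,0,0,0,0,0,0,0,0,0,0,0,0,0,0,0,2,0,0,0,0,0,0,0,0,0,2,2,0]),
  (15,[0,0,0,0,0,0,0,0,0,0,0,0,0,0,0,2,0,0,0,0,1,1,3,1,2,0,2,0,0,3,0,3,1,1,1,3,3,0,0,3,3,1,0,0,0,0,3,3,0,3,0,3,0,3,3,0]),
  (16,[0,0,0,0,0,0,0,0,0,0,0,0,0,0,0,0,1,3,1,1,3,1,1,3,1,3,1,3,3,0,0,3,1,1,0,0,0,0,1,1,3,0,3,0,1,0,0,1,1,0,3,0,0,0,0,0]),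
  (17,[0,0,0,0,0,0,0,0,0,0,0,0,0,0,0,0,0,2,0,0,0,0,0,2,0,0,0,0,2,2,2,2,0,0,0,0,0,0,0,0,0,0,0,0,0,0,0,2,2,0,0,0,0,0,0,0]),
  (18,[0,0,0,0,0,0,0,0,0,0,0,0,0,0,0,0,0,0,2,2,1,3,1,1,0,0,0,0,0,2,0,0,0,2,0,0,0,2,0,0,0,0,0,2,0,0,2,0,3,3,3,1,0,0,2,0]),
  (19,[0,0,0,0,0,0,0,0,0,0,0,0,0,0,0,0,0,0,0,2,2,0,0,0,0,0,0,0,2,0,0,2,0,0,0,0,0,0,0,0,0,0,0,0,2,0,0,0,0,0,2,0,0,0,0,0]),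
  (20,[0,0,0,0,0,0,0,0,0,0,0,0,0,0,0,0,0,0,0,0,1,3,3,3,1,3,1,3,1,3,0,0,0,0,1,3,3,0,1,0,2,1,1,0,0,3,0,1,0,0,0,0,0,1,1,0]),
  (21,[0,0,0,0,0,0,0,0,0,0,0,0,0,0,0,0,0,0,0,0,0,2,0,0,1,1,1,3,2,0,0,0,0,2,0,0,2,0,0,0,2,0,0,0,0,0,0,2,0,0,0,0,3,1,1,1]),
  (22,[0,0,0,0,0,0,0,0,0,0,0,0,0,0,0,0,0,0,0,0,0,0,2,0,0,0,2,2,2,0,2,0,0,0,0,0,0,0,0,0,2,2,2,2,0,0,0,0,0,0,0,2,0,0,0,0]),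
  (23,[0,0,0,0,0,0,0,0,0,0,0,0,0,0,0,0,0,0,0,0,0,0,0,2,1,3,3,3,0,0,0,2,0,2,0,0,2,0,0,0,0,0,2,0,0,0,0,2,0,0,0,0,1,1,1,3]),
  (24,[0,0,0,0,0,0,0,0,0,0,0,0,0,0,0,0,0,0,0,0,0,0,0,0,1,1,1,1,3,0,2,1,3,1,2,0,0,0,3,3,1,2,1,2,0,1,1,0,0,1,0,1,0,0,0,0]),
  (25,[0,0,0,0,0,0,0,0,0,0,0,0,0,0,0,0,0,0,0,0,0,0,0,0,0,4,0,0,0,0,0,0,0,0,0,0,0,0,0,0,0,0,0,0,0,0,0,0,0,0,0,0,0,0,0,0]),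
  (26,[0,0,0,0,0,0,0,0,0,0,0,0,0,0,0,0,0,0,0,0,0,0,0,0,0,0,4,0,0,0,0,0,0,0,0,0,0,0,0,0,0,0,0,0,0,0,0,0,0,0,0,0,0,0,0,0]),
  (27,[0,0,0,0,0,0,0,0,0,0,0,0,0,0,0,0,0,0,0,0,0,0,0,0,0,0,0,4,0,0,0,0,0,0,0,0,0,0,0,0,0,0,0,0,0,0,0,0,0,0,0,0,0,0,0,0]),
  (28,[0,0,0,0,0,0,0,0,0,0,0,0,0,0,0,0,0,0,0,0,0,0,0,0,0,0,0,0,1,3,0,0,0,0,1,3,1,0,3,0,0,1,3,0,0,3,0,1,3,3,3,3,1,0,0,3]),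
  (29,[0,0,0,0,0,0,0,0,0,0,0,0,0,0,0,0,0,0,0,0,0,0,0,0,0,0,0,0,0,1,0,3,3,3,3,3,3,0,0,1,3,1,0,0,0,0,3,1,1,0,3,0,0,1,3,0]),
  (30,[0,0,0,0,0,0,0,0,0,0,0,0,0,0,0,0,0,0,0,0,0,0,0,0,0,0,0,0,0,0,1,3,1,0,3,0,0,1,3,0,0,3,0,1,3,3,3,3,1,0,0,3,1,3,0,0]),
  (31,[0,0,0,0,0,0,0,0,0,0,0,0,0,0,0,0,0,0,0,0,0,0,0,0,0,0,0,0,0,0,0,4,0,0,0,0,0,0,0,0,0,0,0,0,0,0,0,0,0,0,0,0,0,0,0,0]),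
  (32,[0,0,0,0,0,0,0,0,0,0,0,0,0,0,0,0,0,0,0,0,0,0,0,0,0,0,0,0,0,0,0,0,2,2,2,2,2,0,0,2,2,2,0,0,0,0,0,0,0,0,0,0,0,2,2,0]),
  (33,[0,0,0,0,0,0,0,0,0,0,0,0,0,0,0,0,0,0,0,0,0,0,0,0,0,0,0,0,0,0,0,0,0,2,0,2,2,0,0,2,2,0,0,2,2,2,2,2,2,0,0,2,0,2,2,0]),
  (34,[0,0,0,0,0,0,0,0,0,0,0,0,0,0,0,0,0,0,0,0,0,0,0,0,0,0,0,0,0,0,0,0,0,0,2,2,0,0,0,0,0,2,2,0,0,2,0,2,2,2,2,2,0,0,0,0]),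
  (35,[0,0,0,0,0,0,0,0,0,0,0,0,0,0,0,0,0,0,0,0,0,0,0,0,0,0,0,0,0,0,0,0,0,0,0,4,0,0,0,0,0,0,0,0,0,0,0,0,0,0,0,0,0,0,0,0]),
  (36,[0,0,0,0,0,0,0,0,0,0,0,0,0,0,0,0,0,0,0,0,0,0,0,0,0,0,0,0,0,0,0,0,0,0,0,0,2,0,2,0,0,2,2,0,0,0,0,0,2,2,2,2,0,0,0,0]),
  (37,[0,0,0,0,0,0,0,0,0,0,0,0,0,0,0,0,0,0,0,0,0,0,0,0,0,0,0,0,0,0,0,0,0,0,0,0,0,2,2,0,0,2,0,2,0,0,0,0,2,0,0,2,0,0,0,0]),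
  (38,[0,0,0,0,0,0,0,0,0,0,0,0,0,0,0,0,0,0,0,0,0,0,0,0,0,0,0,0,0,0,0,0,0,0,0,0,0,0,2,2,0,2,2,0,0,0,2,2,0,2,0,2,0,2,2,0]),
  (39,[0,0,0,0,0,0,0,0,0,0,0,0,0,0,0,0,0,0,0,0,0,0,0,0,0,0,0,0,0,0,0,0,0,0,0,0,0,0,0,4,0,0,0,0,0,0,0,0,0,0,0,0,0,0,0,0]),
  (40,[0,0,0,0,0,0,0,0,0,0,0,0,0,0,0,0,0,0,0,0,0,0,0,0,0,0,0,0,0,0,0,0,0,0,0,0,0,0,0,0,2,2,0,0,0,0,2,2,0,0,0,0,0,2,2,0]),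
  (41,[0,0,0,0,0,0,0,0,0,0,0,0,0,0,0,0,0,0,0,0,0,0,0,0,0,0,0,0,0,0,0,0,0,0,0,0,0,0,0,0,0,2,0,2,2,2,2,2,0,0,0,0,2,2,0,0]),
  (42,[0,0,0,0,0,0,0,0,0,0,0,0,0,0,0,0,0,0,0,0,0,0,0,0,0,0,0,0,0,0,0,0,0,0,0,0,0,0,0,0,0,0,2,2,2,0,2,0,0,0,0,0,0,2,0,2]),
  (43,[0,0,0,0,0,0,0,0,0,0,0,0,0,0,0,0,0,0,0,0,0,0,0,0,0,0,0,0,0,0,0,0,0,0,0,0,0,0,0,0,0,0,0,4,0,0,0,0,0,0,0,0,0,0,0,0]),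
  (44,[0,0,0,0,0,0,0,0,0,0,0,0,0,0,0,0,0,0,0,0,0,0,0,0,0,0,0,0,0,0,0,0,0,0,0,0,0,0,0,0,0,0,0,0,4,0,0,0,0,0,0,0,0,0,0,0]),
  (45,[0,0,0,0,0,0,0,0,0,0,0,0,0,0,0,0,0,0,0,0,0,0,0,0,0,0,0,0,0,0,0,0,0,0,0,0,0,0,0,0,0,0,0,0,0,4,0,0,0,0,0,0,0,0,0,0]),
  (46,[0,0,0,0,0,0,0,0,0,0,0,0,0,0,0,0,0,0,0,0,0,0,0,0,0,0,0,0,0,0,0,0,0,0,0,0,0,0,0,0,0,0,0,0,0,0,4,0,0,0,0,0,0,0,0,0]),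
  (47,[0,0,0,0,0,0,0,0,0,0,0,0,0,0,0,0,0,0,0,0,0,0,0,0,0,0,0,0,0,0,0,0,0,0,0,0,0,0,0,0,0,0,0,0,0,0,0,4,0,0,0,0,0,0,0,0]),
  (48,[0,0,0,0,0,0,0,0,0,0,0,0,0,0,0,0,0,0,0,0,0,0,0,0,0,0,0,0,0,0,0,0,0,0,0,0,0,0,0,0,0,0,0,0,0,0,0,0,4,0,0,0,0,0,0,0]),
  (49,[0,0,0,0,0,0,0,0,0,0,0,0,0,0,0,0,0,0,0,0,0,0,0,0,0,0,0,0,0,0,0,0,0,0,0,0,0,0,0,0,0,0,0,0,0,0,0,0,0,4,0,0,0,0,0,0]),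
  (50,[0,0,0,0,0,0,0,0,0,0,0,0,0,0,0,0,0,0,0,0,0,0,0,0,0,0,0,0,0,0,0,0,0,0,0,0,0,0,0,0,0,0,0,0,0,0,0,0,0,0,4,0,0,0,0,0]),
  (51,[0,0,0,0,0,0,0,0,0,0,0,0,0,0,0,0,0,0,0,0,0,0,0,0,0,0,0,0,0,0,0,0,0,0,0,0,0,0,0,0,0,0,0,0,0,0,0,0,0,0,0,4,0,0,0,0]),
  (52,[0,0,0,0,0,0,0,0,0,0,0,0,0,0,0,0,0,0,0,0,0,0,0,0,0,0,0,0,0,0,0,0,0,0,0,0,0,0,0,0,0,0,0,0,0,0,0,0,0,0,0,0,4,0,0,0]),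
  (53,[0,0,0,0,0,0,0,0,0,0,0,0,0,0,0,0,0,0,0,0,0,0,0,0,0,0,0,0,0,0,0,0,0,0,0,0,0,0,0,0,0,0,0,0,0,0,0,0,0,0,0,0,0,4,0,0]),
  (54,[0,0,0,0,0,0,0,0,0,0,0,0,0,0,0,0,0,0,0,0,0,0,0,0,0,0,0,0,0,0,0,0,0,0,0,0,0,0,0,0,0,0,0,0,0,0,0,0,0,0,0,0,0,0,4,0]),
  (55,[0,0,0,0,0,0,0,0,0,0,0,0,0,0,0,0,0,0,0,0,0,0,0,0,0,0,0,0,0,0,0,0,0,0,0,0,0,0,0,0,0,0,0,0,0,0,0,0,0,0,0,0,0,0,0,4])]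

def free0 : List RuIdx := [(1,3),(2,3),(3,3),(4,3),(5,2),(5,3),(6,1),(6,2),(6,3)]

set_option maxHeartbeats 4000000 in
def rows0 : List (RuIdx × List RuIdx) := [
  ((0,0),[(1,3),(2,3),(3,3),(4,3),(5,3),(6,1)]),
  ((0,1),[(1,3),(2,3),(3,3),(4,3),(5,2),(6,2)]),
  ((0,2),[(1,3),(2,3),(3,3),(4,3),(5,2),(6,1),(6,2),(6,3)]),
  ((0,3),[(1,3),(2,3),(3,3),(4,3),(5,3),(6,3)]),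
  ((1,0),[(1,3),(5,2),(5,3),(6,2),(6,3)]),
  ((1,1),[(1,3),(5,2),(5,3),(6,1),(6,3)]),
  ((1,2),[(1,3),(6,1),(6,2)]),
  ((2,0),[(2,3),(5,2),(5,3),(6,1),(6,3)]),
  ((2,1),[(2,3),(5,2),(5,3)]),
  ((2,2),[(2,3),(6,1),(6,3)]),
  ((3,0),[(3,3),(5,2),(5,3)]),
  ((3,1),[(3,3),(6,2),(6,3)]),
  ((3,2),[(3,3),(5,2),(5,3),(6,2),(6,3)]),
  ((4,0),[(4,3),(6,2),(6,3)]),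
  ((4,1),[(4,3),(5,2),(5,3),(6,1),(6,2)]),
  ((4,2),[(4,3),(5,2),(5,3),(6,1),(6,3)]),
  ((5,0),[(5,2),(6,1),(6,2)]),
  ((5,1),[(5,3),(6,1),(6,2)]),
  ((6,0),[(6,1),(6,2),(6,3)])]

def free1 : List RuIdx := [(0,3),(1,3),(2,3),(3,3),(4,3),(5,2),(5,3),(6,1),(6,2),(6,3)]

set_option maxHeartbeats 4000000 in
def rows1 : List (RuIdx × List RuIdx × List ℕ) := [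
  ((0,0),[(0,3),(6,1),(6,3)],[0,0,2,2,2,2,0,2,2,2,0,0,0,0,0,2,0,0,2,0,2,2,0,2,0,0,2,2,2,0,2,0,2,2,0,2,2,2,0,0,0,0,0,2,0,0,2,0,2,2,0,2,0,2,2,0]),
  ((0,1),[(0,3),(5,2),(5,3),(6,2),(6,3)],[0,2,2,2,2,0,2,0,2,2,0,0,2,2,2,0,2,2,2,2,0,2,2,2,0,2,2,0,0,0,2,0,2,0,2,0,2,2,0,0,2,2,2,0,2,2,2,2,0,2,0,0,0,2,0,2]),
  ((0,2),[(0,3),(5,2),(5,3),(6,1),(6,2)],[0,0,2,2,2,2,0,2,2,2,0,0,0,0,2,2,0,0,0,2,2,2,2,2,0,0,0,0,0,0,0,0,2,2,0,2,2,2,0,0,0,0,2,2,0,0,0,2,2,2,0,0,0,2,2,0]),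
  ((1,0),[(1,3),(5,2),(5,3),(6,2),(6,3)],[0,0,2,2,2,0,2,2,2,2,2,2,2,0,2,0,0,2,0,2,2,0,2,2,0,0,0,0,0,0,2,2,0,0,2,0,2,2,2,2,2,0,2,0,0,2,0,2,2,0,0,0,0,0,2,2]),
  ((1,1),[(1,3),(5,2),(5,3),(6,1),(6,3)],[0,0,0,0,0,0,0,0,0,0,0,0,0,0,0,0,2,0,0,2,0,0,2,2,0,2,2,2,0,0,0,0,0,2,0,2,0,0,0,0,0,0,0,0,2,0,0,2,0,0,0,0,0,0,2,0]),
  ((1,2),[(1,3),(6,1),(6,2)],[0,0,0,0,0,2,2,0,0,0,2,2,2,0,0,2,2,2,0,0,2,2,0,2,0,2,0,0,0,0,0,0,0,2,0,2,0,0,2,2,2,0,0,2,2,2,0,0,2,2,0,2,0,0,2,0]),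
  ((2,0),[(2,3),(5,2),(5,3),(6,1),(6,3)],[0,2,2,2,2,0,2,0,2,2,0,0,2,0,0,0,2,0,2,0,0,2,2,2,0,0,0,0,0,2,2,2,2,0,2,0,0,2,0,2,2,0,0,0,2,0,2,0,0,2,0,0,0,2,0,2]),
  ((2,1),[(2,3),(5,2),(5,3)],[0,0,0,0,0,2,2,0,0,0,2,2,2,0,2,2,0,2,2,0,2,2,2,0,0,0,2,2,0,0,0,0,0,2,2,0,0,2,2,0,2,0,2,2,0,2,2,0,2,2,0,2,0,0,2,2]),
  ((2,2),[(2,3),(6,1),(6,3)],[0,0,2,2,2,0,2,2,2,2,2,2,2,2,2,0,2,2,2,0,2,0,2,2,0,0,2,0,0,0,2,2,2,0,2,2,2,2,0,0,2,2,2,0,2,2,2,0,2,0,2,2,0,2,2,2]),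
  ((3,0),[(3,3),(5,2),(5,3)],[0,2,0,0,0,2,2,2,0,0,0,0,2,2,0,2,0,0,2,0,0,0,2,0,0,0,0,2,0,2,0,0,0,2,2,2,0,0,0,0,0,2,0,0,0,0,2,0,0,0,0,2,0,0,0,2]),
  ((3,1),[(3,3),(6,2),(6,3)],[0,0,0,0,0,0,0,0,0,0,0,0,0,2,2,0,2,0,0,0,0,0,0,0,0,0,2,0,0,0,0,0,0,0,0,0,0,0,0,0,0,0,2,2,2,0,0,0,0,0,0,0,0,0,0,2]),
  ((3,2),[(3,3),(5,2),(5,3),(6,2),(6,3)],[0,2,0,0,0,2,2,2,0,0,0,0,2,0,0,2,2,0,0,2,0,0,2,0,0,0,2,2,0,2,0,0,0,2,2,2,0,0,0,0,2,0,2,0,2,0,0,2,0,0,0,2,0,0,0,0]),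
  ((4,0),[(4,3),(6,2),(6,3)],[0,0,0,0,0,0,0,0,0,0,0,0,0,0,2,0,0,0,2,2,0,0,0,0,0,0,0,0,0,0,0,0,0,0,0,0,0,0,0,0,0,0,2,0,2,0,2,0,0,0,0,0,0,0,2,2]),
  ((4,1),[(4,3),(5,2),(5,3),(6,1),(6,2)],[0,2,0,0,0,2,2,2,0,0,0,0,2,2,2,2,2,0,0,0,0,0,0,2,0,2,2,0,0,2,0,0,0,2,2,2,0,0,0,0,2,2,2,2,2,2,0,2,0,0,2,0,0,0,0,0]),
  ((4,2),[(4,3),(5,2),(5,3),(6,1),(6,3)],[0,2,0,0,0,2,2,2,0,0,0,0,2,0,2,2,2,0,2,0,0,0,2,0,0,0,2,2,0,2,0,0,0,2,2,2,0,0,0,0,2,0,2,2,2,0,0,2,0,0,0,2,0,2,2,0]),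
  ((5,0),[(5,2),(6,1),(6,2)],[0,0,2,2,2,2,0,2,2,2,0,0,0,0,2,2,0,0,0,0,0,2,0,2,0,0,2,2,0,0,2,2,2,2,0,2,2,2,0,0,0,0,2,2,0,0,0,0,2,2,2,2,0,2,0,2]),
  ((5,1),[(5,3),(6,1),(6,2)],[0,0,2,2,2,0,2,2,2,2,2,2,2,0,2,0,0,2,0,2,2,0,2,2,0,0,0,0,0,0,2,2,2,0,2,2,2,2,2,2,2,0,2,0,0,2,0,2,2,2,2,0,0,2,2,0]),
  ((6,0),[(6,1),(6,2),(6,3)],[0,0,0,0,0,2,2,0,0,0,2,2,2,2,2,2,2,2,0,0,0,0,2,2,2,0,0,0,0,0,0,0,0,2,2,0,0,0,2,2,2,2,2,2,2,2,0,0,0,0,2,2,0,2,2,2])]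

set_option maxHeartbeats 4000000 in
def pairsD : List (Fin 7 × Fin 7 × List (List ℕ)) := [
  (0,1,[[3,1,0,1,0,0,0,0,0,0,2,3,2,2,0,1,1,0,3,0,0,0,1,1,3,2,1,3,0,0,3,2,0,0,0,0,3,3,1,2,1,3,1,0,1,0,1,2,2,0,3,1,0,1,0,0],[0,0,0,0,0,0,0,0,0,0,0,0,0,0,0,0,0,2,0,0,0,0,0,2,0,0,0,0,2,2,2,2,0,0,0,0,0,0,0,0,0,0,0,0,0,0,0,2,2,0,0,0,0,0,0,0]]),
  (0,2,[[3,0,3,1,3,3,1,0,0,0,0,0,2,0,2,0,0,3,1,2,2,0,0,0,0,0,1,3,0,1,2,0,0,0,0,3,0,0,0,0,0,2,0,0,2,1,3,0,2,0,0,0,0,0,3,3],[0,0,0,0,0,0,0,0,0,0,0,0,0,0,0,0,0,2,0,0,0,0,0,2,0,0,0,0,2,2,2,2,0,0,0,0,0,0,0,0,0,0,0,0,0,0,0,2,2,0,0,0,0,0,0,0]]),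
  (0,3,[[0,2,2,2,0,2,0,2,0,0,2,0,0,0,0,0,2,0,0,0,2,2,2,0,2,0,0,2,0,2,2,2,2,2,0,0,0,0,0,2,0,0,0,0,0,2,2,2,0,2,2,2,2,0,0,2]]),
  (0,4,[[0,3,0,0,1,3,0,3,3,3,0,0,0,0,2,1,0,0,0,0,3,1,0,3,2,3,3,2,1,2,3,3,0,0,1,0,1,1,0,0,3,3,3,0,0,0,0,0,0,0,1,0,0,1,1,0],[0,0,0,0,2,0,2,0,2,0,0,2,0,0,2,0,0,0,0,0,2,2,2,2,2,2,2,0,2,2,2,2,0,0,2,2,0,2,0,2,2,2,0,2,0,0,0,0,2,0,0,2,0,0,0,2]]),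
  (0,5,[[1,2,2,2,0,1,3,3,3,1,2,0,0,3,0,0,0,0,3,3,0,0,0,0,1,0,1,3,0,3,1,3,1,2,2,2,3,3,0,0,1,2,1,1,2,2,3,3,0,0,0,0,2,3,2,0],[0,2,1,3,0,1,3,2,0,0,3,3,3,0,1,1,2,1,0,1,0,0,0,0,2,3,1,1,2,0,1,3,0,3,1,0,2,0,1,1,2,1,2,2,0,3,2,3,0,0,0,0,1,2,2,0],[1,3,2,2,3,1,2,0,3,0,3,0,1,0,2,1,1,0,3,0,0,0,0,0,2,1,1,0,1,1,2,2,1,3,2,0,1,2,3,2,1,0,0,3,3,0,3,2,0,0,0,0,2,3,3,0],[2,2,0,0,0,2,2,0,0,0,2,2,2,0,2,2,2,0,2,0,0,0,0,0,0,2,2,2,2,2,2,2,2,0,0,2,2,2,0,0,2,0,0,0,2,0,2,0,0,0,0,0,0,0,2,0]]),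
  (0,6,[[2,2,2,0,2,2,2,2,0,2,0,2,2,0,0,2,0,0,2,0,0,0,0,0,0,0,0,0,2,2,2,0,0,2,2,0,2,0,0,2,2,0,0,2,2,2,0,2,0,2,2,0,0,0,0,0]]),
  (1,2,[[3,3,2,3,3,2,2,2,0,0,0,0,2,3,3,1,2,0,1,0,2,3,3,2,0,3,1,2,0,0,1,0,0,1,3,3,0,0,0,0,1,2,0,2,1,1,2,3,2,1,3,0,2,3,1,0],[0,1,3,0,2,0,3,1,0,0,0,0,2,3,2,3,1,0,2,2,3,1,2,1,1,0,1,2,0,3,1,0,0,2,1,1,0,0,0,0,2,3,0,3,2,1,3,3,2,2,3,2,3,2,1,0],[1,1,2,1,1,2,2,2,0,0,0,0,2,1,1,3,2,0,3,0,3,0,0,1,1,0,0,1,2,2,3,0,0,3,3,3,0,0,0,0,1,0,0,2,3,1,2,3,1,2,0,3,3,2,0,3],[0,0,0,0,0,0,2,0,0,0,0,0,0,2,0,0,0,0,0,2,2,0,0,0,2,2,2,2,2,0,0,2,0,0,0,2,0,0,0,0,0,2,2,2,2,0,2,2,0,2,2,2,0,2,2,0]]),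
  (1,3,[[2,0,2,1,3,2,2,2,0,1,0,3,0,0,0,0,2,2,2,2,3,1,0,2,2,2,2,2,1,3,3,2,0,3,1,1,0,1,0,3,0,0,0,0,2,2,2,0,1,3,2,0,2,2,2,0],[2,0,0,0,2,2,2,2,2,0,0,2,0,0,0,0,0,0,0,0,0,0,0,0,0,0,0,0,0,0,2,0,0,0,0,0,0,0,0,0,0,0,0,0,0,0,0,0,2,0,2,0,0,0,0,0]]),
  (1,4,[[0,0,2,2,0,2,0,0,0,0,0,2,0,0,0,0,0,0,0,0,2,0,0,2,0,0,0,0,0,0,0,0,0,2,0,0,0,0,0,2,2,2,0,0,0,0,0,0,2,0,0,2,2,0,2,0]]),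
  (1,5,[[3,1,1,3,3,3,1,0,2,1,1,1,3,0,3,0,1,1,1,1,0,0,0,0,1,1,0,2,1,3,1,1,0,0,2,1,1,0,0,0,1,2,1,2,3,3,1,1,0,0,0,0,1,3,2,0],[0,0,0,0,0,0,0,0,0,0,0,0,0,0,0,0,0,0,0,0,0,0,0,0,0,0,0,0,0,0,0,0,2,2,2,2,2,0,0,2,2,2,0,0,0,0,0,0,0,0,0,0,0,2,2,0]]),
  (1,6,[[1,1,0,3,1,3,3,2,0,3,0,2,3,0,1,3,1,3,3,0,2,0,3,0,0,0,0,0,0,0,3,0,0,0,0,3,1,0,1,3,0,1,2,2,0,0,0,1,1,3,2,3,0,0,0,0],[2,0,0,0,2,2,2,2,2,0,0,2,0,0,0,0,0,0,0,0,0,0,0,0,0,0,0,0,0,0,2,0,0,0,0,0,0,0,0,0,0,0,0,0,0,0,0,0,2,0,2,0,0,0,0,0]]),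
  (2,3,[[3,0,2,2,3,2,1,2,0,2,0,3,0,0,0,0,0,3,1,0,1,0,0,3,0,2,3,3,2,1,3,1,1,0,1,2,1,1,3,0,0,0,0,0,0,1,1,2,3,0,2,3,2,2,3,1],[0,0,1,3,0,1,0,0,0,0,0,2,0,0,0,0,0,3,0,1,0,0,0,2,0,0,3,0,0,0,3,1,3,0,3,1,2,0,0,0,0,0,0,0,2,3,0,1,0,0,0,0,1,1,0,3],[2,0,0,0,2,2,2,2,2,0,0,2,0,0,0,0,0,0,0,0,0,0,0,0,0,0,0,0,0,0,2,0,0,0,0,0,0,0,0,0,0,0,0,0,0,0,0,0,2,0,2,0,0,0,0,0]]),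
  (2,4,[[0,0,2,2,0,2,0,0,0,0,0,2,0,0,0,0,0,0,0,0,2,0,0,2,0,0,0,0,0,0,0,0,0,2,0,0,0,0,0,2,2,2,0,0,0,0,0,0,2,0,0,2,2,0,2,0]]),
  (2,5,[[3,1,1,3,3,3,1,0,2,1,1,1,3,0,3,0,1,1,1,1,0,0,0,0,1,1,0,2,1,3,1,1,0,0,2,1,1,0,0,0,1,2,1,2,3,3,1,1,0,0,0,0,1,3,2,0],[2,2,0,0,0,2,2,0,0,0,2,2,2,0,2,2,2,0,2,0,0,0,0,0,0,2,2,2,2,2,2,2,2,0,0,2,2,2,0,0,2,0,0,0,2,0,2,0,0,0,0,0,0,0,2,0]]),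
  (2,6,[[1,1,0,3,1,3,3,2,0,3,0,2,3,0,1,3,1,3,3,0,2,0,3,0,0,0,0,0,0,0,3,0,0,0,0,3,1,0,1,3,0,1,2,2,0,0,0,1,1,3,2,3,0,0,0,0],[0,0,0,1,0,3,1,0,3,0,1,0,2,3,0,1,3,0,0,3,0,0,0,1,0,0,0,0,3,1,1,0,0,1,1,2,3,0,3,0,0,3,0,3,3,0,0,1,3,1,1,0,0,0,0,0],[0,0,0,3,0,3,0,0,3,2,3,0,0,0,0,3,1,2,0,0,1,0,0,1,0,0,0,0,3,1,3,0,3,0,3,3,1,0,3,2,1,1,1,2,0,1,1,1,3,0,0,1,0,0,0,0]]),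
  (3,4,[[0,3,0,0,1,3,0,3,3,3,0,0,0,0,2,1,0,0,0,0,3,1,0,3,2,3,3,2,1,2,3,3,0,0,1,0,1,1,0,0,3,3,3,0,0,0,0,0,0,0,1,0,0,1,1,0],[0,0,0,0,0,0,0,0,0,0,0,0,0,0,0,0,0,0,0,0,0,0,2,0,0,0,2,2,2,0,2,0,0,0,0,0,0,0,0,0,2,2,2,2,0,0,0,0,0,0,0,2,0,0,0,0]]),
  (3,5,[[1,2,2,2,0,1,3,3,3,1,2,0,0,3,0,0,0,0,3,3,0,0,0,0,1,0,1,3,0,3,1,3,1,2,2,2,3,3,0,0,1,2,1,1,2,2,3,3,0,0,0,0,2,3,2,0],[0,3,0,0,0,0,0,0,0,1,3,1,1,0,3,0,3,0,0,1,0,0,0,0,3,1,1,3,1,0,3,1,0,0,0,0,1,0,0,0,3,0,3,0,1,0,0,3,0,0,0,0,1,3,1,3],[0,2,1,3,0,1,3,2,0,0,3,3,3,0,1,1,2,1,0,1,0,0,0,0,2,3,1,1,2,0,1,3,0,3,1,0,2,0,1,1,2,1,2,2,0,3,2,3,0,0,0,0,1,2,2,0],[1,2,2,3,0,1,3,3,2,1,3,0,1,3,0,3,1,1,3,2,0,0,0,0,1,0,3,3,1,2,2,3,1,0,2,2,0,3,3,0,2,2,1,2,2,2,2,3,0,0,0,0,2,3,2,0]]),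
  (3,6,[[0,0,0,3,0,1,0,0,1,0,3,0,3,1,3,0,1,0,0,0,0,3,1,0,0,0,0,0,1,3,3,0,1,0,3,3,1,0,1,0,0,2,0,1,0,3,3,3,2,3,3,0,0,0,0,0],[0,0,0,3,0,1,0,0,1,0,3,0,2,0,0,3,2,3,1,1,0,1,1,2,0,0,0,0,1,3,3,0,1,0,3,3,1,0,1,0,3,1,3,0,1,0,0,0,2,3,3,0,0,0,0,0],[0,0,0,3,0,3,0,0,3,2,3,0,0,0,0,3,1,2,0,0,1,0,0,1,0,0,0,0,3,1,3,0,3,0,3,3,1,0,3,2,1,1,1,2,0,1,1,1,3,0,0,1,0,0,0,0],[0,0,0,0,0,0,0,0,0,0,0,0,0,0,0,0,0,0,0,0,0,0,0,0,0,0,0,0,0,0,0,0,0,0,2,2,0,0,0,0,0,2,2,0,0,2,0,2,2,2,2,2,0,0,0,0]]),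
  (4,5,[[0,0,0,1,1,0,0,0,1,1,1,3,1,1,1,1,3,1,2,3,0,0,0,0,1,0,1,3,1,3,3,0,0,1,1,1,3,3,1,1,3,1,1,1,0,0,1,0,0,0,0,0,0,3,2,0],[2,2,0,0,0,2,2,0,0,0,2,2,2,0,2,2,2,0,2,0,0,0,0,0,0,2,2,2,2,2,2,2,2,2,0,0,0,0,2,2,0,2,0,0,0,2,0,2,0,0,0,0,0,2,0,0]]),
  (4,6,[[0,0,0,3,0,1,0,0,1,0,3,0,2,0,0,3,2,3,1,1,0,1,1,2,0,0,0,0,1,3,3,0,1,0,3,3,1,0,1,0,3,1,3,0,1,0,0,0,2,3,3,0,0,0,0,0],[0,3,0,2,2,0,0,3,0,3,1,3,2,2,2,2,2,2,0,0,1,3,0,3,0,0,0,0,3,2,3,3,1,3,1,2,3,2,0,2,2,0,2,0,0,0,2,2,2,2,3,0,0,0,0,0]]),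
  (5,6,[[0,0,0,1,0,3,1,0,3,0,1,0,2,3,0,1,3,0,0,3,0,0,0,1,0,0,0,0,3,1,1,0,0,1,1,2,3,0,3,0,0,3,0,3,3,0,0,1,3,1,1,0,0,0,0,0],[0,0,0,0,2,0,0,0,0,0,0,2,0,0,0,0,0,0,0,0,0,2,0,2,0,0,0,0,2,2,0,0,0,2,0,0,0,2,0,0,0,0,0,0,0,0,0,0,2,0,2,0,0,0,0,0]])]

def idx (p : RuIdx) : ℕ := p.1.val * 4 + p.2.val

def ofL (l : List ℤ) : RuVec := fun p => ⟨l.getD (idx p) 0, l.getD (idx p + 28) 0⟩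

def idxList : List RuIdx := (List.finRange 7).flatMap fun n => (List.finRange 4).map fun t => (n, t)

def toL (v : RuVec) : List ℤ := idxList.map (fun p => (v p).re) ++ idxList.map (fun p => (v p).im)

def addL : List ℤ → List ℤ → List ℤ
  | [], b => b
  | x :: a, [] => x :: a
  | x :: a, y :: b => (x + y) :: addL a b

def smulL (c : ℤ) (a : List ℤ) : List ℤ := a.map (fun x => c * x)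

def iL (l : List ℕ) : List ℤ := l.map Int.ofNat

def PB : List (ℕ × List ℤ) := PB0.map fun q => (q.1, iL q.2)

/-- The integer span of the basis. -/
def LL : AddSubgroup RuVec := AddSubgroup.closure {v | ∃ q ∈ PB, v = ofL q.2}

def redc : List (ℕ × List ℤ) → List ℤ → List ℤ
  | [], v => v
  | q :: r, v => redc r (addL v (smulL (-(v.getD q.1 0 / q.2.getD q.1 0)) q.2))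

def memChk (v : List ℤ) : Bool := (redc PB v).all fun x => x == 0

def term (x y : RuVec) (p : RuIdx) : ℤ := (x p).re * (y p).re + (x p).im * (y p).im

def dot (x y : RuVec) : ℤ := ∑ p, term x y p

def dotL (x y : RuVec) : ℤ := (idxList.map (term x y)).sum

def upd {α : Type} (b : RuIdx → α) (q : RuIdx) (c : α) : RuIdx → α := fun p => if p = q then c else b p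

def assignG {α : Type} (cs : List α) (P : (RuIdx → α) → Bool) : List RuIdx → (RuIdx → α) → Bool
  | [], b => P b
  | q :: F, b => cs.all fun c => assignG cs P F (upd b q c)

def xorL (l : List Bool) : Bool := l.foldr xor false

def oddB (z : ℤ) : Bool := z % 2 == 1

/-- Completion of a word from its free coordinates. -/
def compl : List (RuIdx × List RuIdx) → (RuIdx → Bool) → RuIdx → Bool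
  | [], b, p => b p
  | r :: R, b, p => if p = r.1 then xorL (r.2.map b) else compl R b p

def wtZ (c : RuIdx → Bool) : ℤ := (idxList.map fun p => if c p then 1 else 0).sum

def comp (n : Fin 7) : List RuIdx := (List.finRange 4).map fun t => (n, t)

def P0 (b : RuIdx → Bool) : Bool :=
  (!(decide (wtZ (compl rows0 b) ≤ 8))) || (idxList.all fun p => !(compl rows0 b p)) ||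
    pairsD.any fun d => idxList.all fun p => compl rows0 b p == decide (p.1 = d.1 ∨ p.1 = d.2.1)

def rows1' : List (RuIdx × List RuIdx) := rows1.map fun r => (r.1, r.2.1)

def P1 (b : RuIdx → Bool) : Bool :=
  (!(decide (wtZ (compl rows1' b) ≤ 4))) || (idxList.all fun p => !(compl rows1' b p)) ||
    (List.finRange 7).any fun n => idxList.all fun p => compl rows1' b p == decide (p.1 = n)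

def tst (S : List RuIdx) : RuVec := fun p => if p ∈ S then ⟨2, 2⟩ else 0

def shapeOK (b : Bool) (u v : ℤ) : Bool :=
  if b then (u == 2 && v == 0) || (u == 0 && v == 2) else (u == 0 && v == 0) || (u == 2 && v == 2)

/-- Evaluate the test vectors on a pattern over the coordinates in `A`. -/
def patP (A : List RuIdx) (ts : List (List ℤ)) (q : RuIdx → ℤ × ℤ) : Bool :=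
  ts.any fun t => (A.map fun p => (q p).1 * (ofL t p).re + (q p).2 * (ofL t p).im).sum % 4 != 0

def units : List (ℤ × ℤ) := [(1, 0), (0, 1), (-1, 0), (0, -1)]
def piu : List (ℤ × ℤ) := [(1, 1), (1, -1), (-1, 1), (-1, -1)]
def dbl : List (ℤ × ℤ) := [(2, 0), (0, 2), (-2, 0), (0, -2)]
def dpi : List (ℤ × ℤ) := [(2, 2), (2, -2), (-2, 2), (-2, -2)]

def BLs : List (List ℤ) := PB.map fun q => q.2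

def zeroPat : RuIdx → ℤ × ℤ := fun _ => (0, 0)

theorem chk_table : ruTable.all (fun v => memChk (toL v)) = true := by decide +kernel
theorem chk_i : PB.all (fun q => memChk (toL (gI • ofL q.2))) = true := by decide +kernel
theorem chk_rj : PB.all (fun q => memChk (toL (ruRj (ofL q.2)))) = true := by decide +kernel
theorem chk_rk : PB.all (fun q => memChk (toL (ruRk (ofL q.2)))) = true := by decide +kernel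
theorem chk_sign : PB.all (fun q => memChk (toL (ruSign (ofL q.2)))) = true := by decide +kernel
theorem chk_shift : PB.all (fun q => memChk (toL (ruShift (ofL q.2)))) = true := by decide +kernel

theorem chk_gram4 : PB.all (fun a => PB.all fun b => dotL (ofL a.2) (ofL b.2) % 4 == 0) = true := by
  decide +kernel

theorem chk_gram8 : PB.all (fun a => dotL (ofL a.2) (ofL a.2) % 8 == 0) = true := by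
  decide +kernel

theorem chk_enum0 : assignG [true, false] P0 free0 (fun _ => false) = true := by decide +kernel
theorem chk_enum1 : assignG [true, false] P1 free1 (fun _ => false) = true := by decide +kernel

theorem chk_rows0 : rows0.all (fun r => memChk (toL (tst (r.1 :: r.2))) && decide (r.1 :: r.2).Nodup) = true := by
  decide +kernel

theorem chk_rows1 : rows1.all (fun r => memChk (iL r.2.2) && decide (r.1 :: r.2.1).Nodup &&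
    idxList.all fun p => shapeOK (decide (p ∈ r.1 :: r.2.1)) (ofL (iL r.2.2) p).re (ofL (iL r.2.2) p).im) = true := by
  decide +kernel

theorem chk_pairs : pairsD.all (fun d =>
    (d.2.2.all fun t => memChk (iL t)) &&
    (d.2.2.all fun t => idxList.all fun p => decide (p.1 ≠ d.2.1) ||
      (((ofL (iL t) p).re % 4 == 0) && ((ofL (iL t) p).im % 4 == 0))) &&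
    (wtZ (fun p => decide (p.1 = d.1 ∨ p.1 = d.2.1)) == 8) &&
    assignG units (patP (comp d.1) (d.2.2.map iL)) (comp d.1) zeroPat) = true := by
  decide +kernel

theorem chk_comps : (List.finRange 7).all (fun n =>
    (wtZ (fun p => decide (p.1 = n)) == 4) && assignG piu (patP (comp n) BLs) (comp n) zeroPat) = true := by
  decide +kernel

theorem chk_one : idxList.all (fun p => assignG dpi (patP [p] BLs) [p] zeroPat) = true := by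
  decide +kernel

theorem chk_two : idxList.all (fun p => idxList.all fun q => decide (p = q) ||
    assignG dbl (patP [p, q] BLs) [p, q] zeroPat) = true := by
  decide +kernel

theorem chk_sixteen : ruTable.any (fun v => dotL v v == 16) = true := by decide +kernel

end Cfsg.Agent.RuLat
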