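import Cfsg.Agent.Lib.RuLatChk

set_option autoImplicit false
set_option maxRecDepth 100000

namespace Cfsg.Agent.RuLat

open Cfsg.Spor

/-! ### Lists versus coordinate vectors -/

theorem idxList_nodup : idxList.Nodup := by decide

theorem mem_idxList (p : RuIdx) : p ∈ idxList := by revert p; decide

theorem idxList_length : idxList.length = 28 := by decide

theorem idxList_get : ∀ p : RuIdx, idxList[idx p]? = some p := by decide

theorem idx_lt : ∀ p : RuIdx, idx p < 28 := by decide

theorem ofL_toL (v : RuVec) : ofL (toL v) = v := by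
  funext p
  apply Zsqrtd.ext
  · show (toL v).getD (idx p) 0 = (v p).re
    rw [List.getD_eq_getElem?_getD, toL, List.getElem?_append_left (by simpa [idxList_length] using idx_lt p),
      List.getElem?_map, idxList_get]
    rfl
  · show (toL v).getD (idx p + 28) 0 = (v p).im
    rw [List.getD_eq_getElem?_getD, toL, List.getElem?_append_right (by simp [idxList_length])]
    have : idx p + 28 - (idxList.map (fun p => (v p).re)).length = idx p := by
      simp [idxList_length]
    rw [this, List.getElem?_map, idxList_get]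
    rfl

theorem getD_addL (a b : List ℤ) (n : ℕ) : (addL a b).getD n 0 = a.getD n 0 + b.getD n 0 := by
  induction a generalizing b n with
  | nil => simp [addL]
  | cons x a ih =>
    cases b with
    | nil => simp [addL]
    | cons y b =>
      cases n with
      | zero => simp [addL]
      | succ n => simpa [addL] using ih b n

theorem getD_smulL (c : ℤ) (a : List ℤ) (n : ℕ) : (smulL c a).getD n 0 = c * a.getD n 0 := by
  induction a generalizing n with
  | nil => simp [smulL]
  | cons x a ih =>
    cases n with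
    | zero => simp [smulL]
    | succ n => simpa [smulL] using ih n

theorem ofL_addL (a b : List ℤ) : ofL (addL a b) = ofL a + ofL b := by
  funext p
  apply Zsqrtd.ext
  · exact getD_addL a b _
  · exact getD_addL a b _

theorem base_mem {q : ℕ × List ℤ} (h : q ∈ PB) : ofL q.2 ∈ LL :=
  AddSubgroup.subset_closure ⟨q, h, rfl⟩

theorem ofL_smulL (c : ℤ) (a : List ℤ) : ofL (smulL c a) = c • ofL a := by
  funext p
  apply Zsqrtd.ext
  · rw [Pi.smul_apply, zsmul_eq_mul, Zsqrtd.re_smul]
    exact getD_smulL c a _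
  · rw [Pi.smul_apply, zsmul_eq_mul, Zsqrtd.im_smul]
    exact getD_smulL c a _

theorem redc_spec (pl : List (ℕ × List ℤ)) (hpl : ∀ q ∈ pl, q ∈ PB) (v : List ℤ) :
    ofL v - ofL (redc pl v) ∈ LL := by
  induction pl generalizing v with
  | nil => simp [redc]
  | cons q r ih =>
    simp only [redc]
    have h1 := ih (fun q' hq' => hpl q' (List.mem_cons_of_mem _ hq'))
      (addL v (smulL (-(v.getD q.1 0 / q.2.getD q.1 0)) q.2))
    have h2 : ofL q.2 ∈ LL := base_mem (hpl q List.mem_cons_self)
    have h3 := LL.zsmul_mem h2 (v.getD q.1 0 / q.2.getD q.1 0)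
    have : ofL v - ofL (redc r (addL v (smulL (-(v.getD q.1 0 / q.2.getD q.1 0)) q.2)))
        = (v.getD q.1 0 / q.2.getD q.1 0) • ofL q.2 +
          (ofL (addL v (smulL (-(v.getD q.1 0 / q.2.getD q.1 0)) q.2)) -
            ofL (redc r (addL v (smulL (-(v.getD q.1 0 / q.2.getD q.1 0)) q.2)))) := by
      rw [ofL_addL, ofL_smulL]
      simp only [neg_smul]
      abel
    rw [this]
    exact LL.add_mem h3 h1

theorem getD_of_all_zero (l : List ℤ) (h : (l.all fun x => x == 0) = true) (n : ℕ) : l.getD n 0 = 0 := by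
  induction l generalizing n with
  | nil => simp
  | cons x l ih =>
    simp only [List.all_cons, Bool.and_eq_true, beq_iff_eq] at h
    cases n with
    | zero => simpa using h.1
    | succ n => simpa using ih h.2 n

theorem ofL_of_all_zero (l : List ℤ) (h : (l.all fun x => x == 0) = true) : ofL l = 0 := by
  funext p
  apply Zsqrtd.ext
  · exact getD_of_all_zero l h _
  · exact getD_of_all_zero l h _

theorem memChk_spec {v : List ℤ} (h : memChk v = true) : ofL v ∈ LL := by
  have h1 := redc_spec PB (fun _ h => h) v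
  rwa [ofL_of_all_zero _ h, sub_zero] at h1

theorem memChk_spec' {v : RuVec} (h : memChk (toL v) = true) : v ∈ LL := by
  have := memChk_spec h
  rwa [ofL_toL] at this

/-! ### The span of the basis contains the lattice -/

theorem add_rj (v w : RuVec) : ruRj (v + w) = ruRj v + ruRj w := by
  funext ⟨n, t⟩
  fin_cases t <;> simp [ruRj, mul_add] <;> abel

theorem add_rk (v w : RuVec) : ruRk (v + w) = ruRk v + ruRk w := by
  funext ⟨n, t⟩
  fin_cases t <;> simp [ruRk, mul_add] <;> abel

theorem add_sign (v w : RuVec) : ruSign (v + w) = ruSign v + ruSign w := by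
  funext p
  by_cases h : p.1 = 0 ∨ p.1 = 3 ∨ p.1 = 5 ∨ p.1 = 6
  · simp [ruSign, h, add_comm]
  · simp [ruSign, h]

theorem add_shift (v w : RuVec) : ruShift (v + w) = ruShift v + ruShift w := rfl

theorem closed_of_hom (f : RuVec → RuVec) (hf : ∀ v w, f (v + w) = f v + f w)
    (h : PB.all (fun q => memChk (toL (f (ofL q.2)))) = true) : ∀ v ∈ LL, f v ∈ LL := by
  let F : RuVec →+ RuVec := AddMonoidHom.mk' f hf
  have : LL ≤ LL.comap F := by
    rw [LL, AddSubgroup.closure_le]
    rintro v ⟨q, hq, rfl⟩
    exact memChk_spec' (List.all_eq_true.1 h q hq)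
  exact fun v hv => this hv

theorem LL_closed : LL ∈ ruClosed := by
  refine ⟨fun v hv => memChk_spec' (List.all_eq_true.1 chk_table v hv), fun v hv => ⟨?_, ?_, ?_, ?_, ?_⟩⟩
  · exact closed_of_hom (fun v => gI • v) (fun v w => smul_add _ _ _) chk_i v hv
  · exact closed_of_hom ruRj add_rj chk_rj v hv
  · exact closed_of_hom ruRk add_rk chk_rk v hv
  · exact closed_of_hom ruSign add_sign chk_sign v hv
  · exact closed_of_hom ruShift add_shift chk_shift v hv

theorem ruLattice_le : ruLattice ≤ LL := sInf_le LL_closed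

/-! ### The Euclidean form -/

theorem ruNorm_eq (x : RuVec) : ruNorm x = dot x x := by
  simp [ruNorm, dot, term, Zsqrtd.norm_def]

theorem dot_add_left (x y z : RuVec) : dot (x + y) z = dot x z + dot y z := by
  rw [dot, dot, dot, ← Finset.sum_add_distrib]
  refine Finset.sum_congr rfl fun p _ => ?_
  simp [term]; ring

theorem dot_comm (x y : RuVec) : dot x y = dot y x := by
  refine Finset.sum_congr rfl fun p _ => ?_
  simp [term]; ring

theorem dot_neg_left (x z : RuVec) : dot (-x) z = - dot x z := by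
  rw [dot, dot, ← Finset.sum_neg_distrib]
  refine Finset.sum_congr rfl fun p _ => ?_
  simp [term]; ring

theorem dot_zero_left (z : RuVec) : dot 0 z = 0 := by
  simp [dot, term]

theorem sum_idx (F : RuIdx → ℤ) : ∑ p, F p = (idxList.map F).sum := by
  have h : idxList.toFinset = Finset.univ := by
    ext p; simp [mem_idxList]
  rw [← h, List.sum_toFinset _ idxList_nodup]

theorem dot_eq_dotL (x y : RuVec) : dot x y = dotL x y := sum_idx _

theorem dvd4_base {a b : ℕ × List ℤ} (ha : a ∈ PB) (hb : b ∈ PB) : (4 : ℤ) ∣ dot (ofL a.2) (ofL b.2) := by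
  have := List.all_eq_true.1 (List.all_eq_true.1 chk_gram4 a ha) b hb
  rw [dot_eq_dotL]
  exact Int.dvd_of_emod_eq_zero (by simpa using this)

theorem dvd4_left {y : RuVec} (hy : ∀ q ∈ PB, (4 : ℤ) ∣ dot y (ofL q.2)) :
    ∀ x ∈ LL, (4 : ℤ) ∣ dot y x := by
  intro x hx
  induction hx using AddSubgroup.closure_induction with
  | mem v hv =>
    obtain ⟨q, hq, rfl⟩ := hv
    exact hy q hq
  | zero =>
    rw [dot_comm, dot_zero_left]; exact dvd_zero _
  | add u v _ _ hu hv =>
    rw [dot_comm, dot_add_left, dot_comm u, dot_comm v]; exact dvd_add hu hv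
  | neg u _ hu =>
    rw [dot_comm, dot_neg_left, dot_comm u]; exact (dvd_neg).2 hu

theorem dvd4 {x y : RuVec} (hx : x ∈ LL) (hy : y ∈ LL) : (4 : ℤ) ∣ dot x y := by
  refine dvd4_left ?_ y hy
  intro q hq
  rw [dot_comm]
  refine dvd4_left ?_ x hx
  intro q' hq'
  rw [dot_comm]
  exact dvd4_base hq' hq |>.trans (by rw [dot_comm])

theorem dvd8 {x : RuVec} (hx : x ∈ LL) : (8 : ℤ) ∣ dot x x := by
  induction hx using AddSubgroup.closure_induction with
  | mem v hv =>
    obtain ⟨q, hq, rfl⟩ := hv
    have := List.all_eq_true.1 chk_gram8 q hq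
    rw [dot_eq_dotL]
    exact Int.dvd_of_emod_eq_zero (by simpa using this)
  | zero => rw [dot_zero_left]; exact dvd_zero _
  | @add u v hu' hv' hu hv =>
    have h4 := dvd4 (AddSubgroup.closure_le _ |>.2 (fun _ h => AddSubgroup.subset_closure h) hu')
      (AddSubgroup.closure_le _ |>.2 (fun _ h => AddSubgroup.subset_closure h) hv')
    have e : dot (u + v) (u + v) = dot u u + dot v v + 2 * dot u v := by
      rw [dot_add_left, dot_comm u (u + v), dot_comm v (u + v), dot_add_left, dot_add_left,
        dot_comm v u]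
      ring
    rw [e]
    obtain ⟨k, hk⟩ := h4
    obtain ⟨a, ha⟩ := hu
    obtain ⟨b, hb⟩ := hv
    exact ⟨a + b + k, by rw [ha, hb, hk]; ring⟩
  | neg u _ hu =>
    rw [dot_neg_left, dot_comm, dot_neg_left]
    simpa using hu

/-! ### Finite search -/

theorem assignG_spec {α : Type} (cs : List α) (P : (RuIdx → α) → Bool) (F : List RuIdx) (b : RuIdx → α)
    (h : assignG cs P F b = true) (w : RuIdx → α) (h1 : ∀ p, p ∉ F → w p = b p) (h2 : ∀ p ∈ F, w p ∈ cs) :
    P w = true := by
  induction F generalizing b with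
  | nil =>
    have : w = b := funext fun p => h1 p (by simp)
    rw [this]; exact h
  | cons q F ih =>
    simp only [assignG] at h
    have h3 := List.all_eq_true.1 h (w q) (h2 q List.mem_cons_self)
    refine ih (upd b q (w q)) h3 ?_ (fun p hp => h2 p (List.mem_cons_of_mem _ hp))
    intro p hp
    by_cases hpq : p = q
    · subst hpq; simp [upd]
    · simp only [upd, hpq, if_false]
      exact h1 p (by simp [hpq, hp])

theorem oddB_true {z : ℤ} : oddB z = true ↔ z % 2 = 1 := by simp [oddB]

theorem oddB_false {z : ℤ} : oddB z = false ↔ z % 2 = 0 := by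
  have := Int.emod_two_eq z
  rcases this with h | h <;> simp [oddB, h]

theorem sum_parity (l : List RuIdx) (v : RuIdx → ℤ) :
    ((l.map v).sum % 2 = 1) ↔ xorL (l.map fun p => oddB (v p)) = true := by
  induction l with
  | nil => simp [xorL]
  | cons q l ih =>
    simp only [List.map_cons, List.sum_cons, xorL, List.foldr_cons]
    change _ ↔ xor (oddB (v q)) (xorL (l.map fun p => oddB (v p))) = true
    cases h1 : xorL (l.map fun p => oddB (v p)) <;> cases h2 : oddB (v q)
    · have h3 : ¬ ((l.map v).sum % 2 = 1) := by rw [ih, h1]; simp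
      have h4 := oddB_false.1 h2
      simp only [Bool.xor_false, Bool.false_eq_true, iff_false]
      omega
    · have h3 : ¬ ((l.map v).sum % 2 = 1) := by rw [ih, h1]; simp
      have h4 := oddB_true.1 h2
      simp only [Bool.xor_false, iff_true]
      omega
    · have h3 : ((l.map v).sum % 2 = 1) := by rw [ih, h1]
      have h4 := oddB_false.1 h2
      simp only [Bool.false_xor, iff_true]
      omega
    · have h3 : ((l.map v).sum % 2 = 1) := by rw [ih, h1]
      have h4 := oddB_true.1 h2
      simp only [Bool.true_xor, Bool.not_true, Bool.false_eq_true, iff_false]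
      omega

theorem compl_spec (R : List (RuIdx × List RuIdx)) (b w : RuIdx → Bool) (p : RuIdx)
    (h1 : ∀ r ∈ R, r.2.map b = r.2.map w ∧ w r.1 = xorL (r.2.map w))
    (h2 : p ∉ R.map Prod.fst → b p = w p) : compl R b p = w p := by
  induction R with
  | nil => exact h2 (by simp)
  | cons r R ih =>
    simp only [compl]
    by_cases hp : p = r.1
    · subst hp
      simp only [if_true]
      rw [(h1 r List.mem_cons_self).1, (h1 r List.mem_cons_self).2]
    · simp only [hp, if_false]
      refine ih (fun r' hr' => h1 r' (List.mem_cons_of_mem _ hr')) ?_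
      intro hp'
      exact h2 (by simp [hp]; simpa using hp')

theorem wtZ_eq (c : RuIdx → Bool) : wtZ c = ∑ p, if c p then (1 : ℤ) else 0 := (sum_idx _).symm

theorem word_reduce (R : List (RuIdx × List RuIdx)) (F : List RuIdx) (P : (RuIdx → Bool) → Bool)
    (hE : assignG [true, false] P F (fun _ => false) = true)
    (hF : R.all (fun r => r.2.all fun q => q ∈ F) = true)
    (hC : ∀ p : RuIdx, p ∉ R.map Prod.fst → p ∈ F)
    (w : RuIdx → Bool) (hw : ∀ r ∈ R, w r.1 = xorL (r.2.map w)) :
    ∃ b, P b = true ∧ compl R b = w := by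
  classical
  refine ⟨fun p => if p ∈ F then w p else false, ?_, ?_⟩
  · refine assignG_spec _ P F _ hE _ ?_ ?_
    · intro p hp; simp [hp]
    · intro p _
      generalize (if p ∈ F then w p else false) = z
      cases z <;> simp
  · funext p
    refine compl_spec R _ w p ?_ ?_
    · intro r hr
      refine ⟨?_, hw r hr⟩
      refine List.map_congr_left fun q hq => ?_
      have : q ∈ F := by
        have := List.all_eq_true.1 (List.all_eq_true.1 hF r hr) q hq
        simpa using this
      simp [this]
    · intro hp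
      simp [hC p hp]

theorem word0 (w : RuIdx → Bool) (hw : ∀ r ∈ rows0, w r.1 = xorL (r.2.map w)) (h : wtZ w ≤ 8) :
    (∀ p, w p = false) ∨ ∃ d ∈ pairsD, ∀ p, w p = decide (p.1 = d.1 ∨ p.1 = d.2.1) := by
  obtain ⟨b, hb, hc⟩ := word_reduce rows0 free0 P0 chk_enum0 (by decide +kernel) (by decide +kernel) w hw
  simp only [P0, hc, Bool.or_eq_true, Bool.not_eq_true', decide_eq_false_iff_not, List.all_eq_true,
    List.any_eq_true, beq_iff_eq] at hb
  rcases hb with (hb | hb) | hb
  · exact absurd h hb
  · left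
    intro p
    simpa using hb p (mem_idxList p)
  · right
    obtain ⟨d, hd, hd2⟩ := hb
    exact ⟨d, hd, fun p => hd2 p (mem_idxList p)⟩

theorem word1 (w : RuIdx → Bool) (hw : ∀ r ∈ rows1', w r.1 = xorL (r.2.map w)) (h : wtZ w ≤ 4) :
    (∀ p, w p = false) ∨ ∃ n : Fin 7, ∀ p, w p = decide (p.1 = n) := by
  obtain ⟨b, hb, hc⟩ := word_reduce rows1' free1 P1 chk_enum1 (by decide +kernel) (by decide +kernel) w hw
  simp only [P1, hc, Bool.or_eq_true, Bool.not_eq_true', decide_eq_false_iff_not, List.all_eq_true,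
    List.any_eq_true, beq_iff_eq] at hb
  rcases hb with (hb | hb) | hb
  · exact absurd h hb
  · left
    intro p
    simpa using hb p (mem_idxList p)
  · right
    obtain ⟨n, _, hd2⟩ := hb
    exact ⟨n, fun p => hd2 p (mem_idxList p)⟩

/-- A linear congruence on the coordinates of a vector from one test vector. -/
theorem even_sum (x t : RuVec) (S : List RuIdx) (hS : S.Nodup) (v : RuIdx → ℤ) (h4 : (4 : ℤ) ∣ dot x t)
    (h : ∀ p, (4 : ℤ) ∣ term x t p - (if p ∈ S then 2 * v p else 0)) : (S.map v).sum % 2 = 0 := by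
  have h1 : (4 : ℤ) ∣ ∑ p, (term x t p - (if p ∈ S then 2 * v p else 0)) :=
    Finset.dvd_sum fun p _ => h p
  rw [Finset.sum_sub_distrib] at h1
  have h2 : (∑ p, (if p ∈ S then 2 * v p else 0)) = 2 * (S.map v).sum := by
    have e : (Finset.univ.filter fun p => p ∈ S) = S.toFinset := by
      ext p; simp
    rw [← Finset.sum_filter, e, List.sum_toFinset _ hS, ← List.sum_map_mul_left]
  rw [h2] at h1
  have h3 : ∑ p, term x t p = dot x t := rfl
  rw [h3] at h1
  omega

theorem xor_of_even (q : RuIdx) (S : List RuIdx) (v : RuIdx → ℤ) (h : ((q :: S).map v).sum % 2 = 0) :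
    oddB (v q) = xorL (S.map fun p => oddB (v p)) := by
  have h1 : ¬ (((q :: S).map v).sum % 2 = 1) := by omega
  rw [sum_parity] at h1
  simp only [List.map_cons, xorL, List.foldr_cons] at h1
  change ¬ (xor (oddB (v q)) (xorL (S.map fun p => oddB (v p))) = true) at h1
  cases h2 : oddB (v q) <;> cases h3 : xorL (S.map fun p => oddB (v p)) <;> simp_all

theorem rows0_spec {x : RuVec} (hx : x ∈ LL) (r : RuIdx × List RuIdx) (hr : r ∈ rows0) :
    oddB ((x r.1).re + (x r.1).im) = xorL (r.2.map fun p => oddB ((x p).re + (x p).im)) := by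
  have h := List.all_eq_true.1 chk_rows0 r hr
  simp only [Bool.and_eq_true, decide_eq_true_eq] at h
  have ht := memChk_spec' h.1
  refine xor_of_even r.1 r.2 (fun p => (x p).re + (x p).im) (even_sum x _ (r.1 :: r.2) h.2 _ (dvd4 hx ht) ?_)
  intro p
  by_cases hp : p ∈ r.1 :: r.2
  · rw [if_pos hp]
    have : term x (tst (r.1 :: r.2)) p = 2 * ((x p).re + (x p).im) := by
      simp only [term, tst, if_pos hp]
      ring
    rw [this]; simp
  · rw [if_neg hp]
    have : term x (tst (r.1 :: r.2)) p = 0 := by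
      simp only [term, tst, if_neg hp]
      simp
    rw [this]; simp

theorem rows1_spec {x : RuVec} (hx : x ∈ LL) (hev : ∀ p, ((x p).re + (x p).im) % 2 = 0)
    (r : RuIdx × List RuIdx) (hr : r ∈ rows1') :
    oddB (x r.1).re = xorL (r.2.map fun p => oddB (x p).re) := by
  obtain ⟨r', hr', rfl⟩ := List.mem_map.1 hr
  have h := List.all_eq_true.1 chk_rows1 r' hr'
  simp only [Bool.and_eq_true, decide_eq_true_eq, List.all_eq_true] at h
  have ht := memChk_spec h.1.1
  refine xor_of_even r'.1 r'.2.1 (fun p => (x p).re) (even_sum x _ (r'.1 :: r'.2.1) h.1.2 _ (dvd4 hx ht) ?_)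
  intro p
  have hs := h.2 p (mem_idxList p)
  have he := hev p
  simp only [term]
  generalize (ofL (iL r'.2.2) p).re = u at hs ⊢
  generalize (ofL (iL r'.2.2) p).im = v at hs ⊢
  generalize (x p).re = a at he ⊢
  generalize (x p).im = b at he ⊢
  by_cases hp : p ∈ r'.1 :: r'.2.1
  · rw [if_pos hp]
    simp only [hp, decide_true, shapeOK, if_true, Bool.or_eq_true, Bool.and_eq_true, beq_iff_eq] at hs
    rcases hs with ⟨rfl, rfl⟩ | ⟨rfl, rfl⟩
    · exact ⟨0, by ring⟩
    · obtain ⟨k, hk⟩ : (2 : ℤ) ∣ a + b := Int.dvd_of_emod_eq_zero he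
      exact ⟨k - a, by
        have : b = 2 * k - a := by omega
        subst this; ring⟩
  · rw [if_neg hp]
    simp only [hp, decide_false, shapeOK, Bool.false_eq_true, if_false, Bool.or_eq_true, Bool.and_eq_true, beq_iff_eq] at hs
    rcases hs with ⟨rfl, rfl⟩ | ⟨rfl, rfl⟩
    · exact ⟨0, by ring⟩
    · obtain ⟨k, hk⟩ : (2 : ℤ) ∣ a + b := Int.dvd_of_emod_eq_zero he
      exact ⟨k, by
        have : b = 2 * k - a := by omega
        subst this; ring⟩

theorem pat_false (x : RuVec) (A : List RuIdx) (hA : A.Nodup) (cs : List (ℤ × ℤ)) (ts : List (List ℤ))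
    (hcs : ∀ p ∈ A, ((x p).re, (x p).im) ∈ cs)
    (hL : ∀ t ∈ ts, (4 : ℤ) ∣ dot x (ofL t))
    (hoff : ∀ t ∈ ts, ∀ p, p ∉ A → (4 : ℤ) ∣ term x (ofL t) p)
    (hchk : assignG cs (patP A ts) A (fun _ => (0, 0)) = true) : False := by
  classical
  have h1 := assignG_spec cs (patP A ts) A _ hchk (fun p => if p ∈ A then ((x p).re, (x p).im) else (0, 0))
    (fun p hp => by simp [hp]) (fun p hp => by simpa [hp] using hcs p hp)
  simp only [patP, List.any_eq_true, bne_iff_ne] at h1
  obtain ⟨t, ht, h2⟩ := h1
  apply h2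
  have h3 : (A.map fun p => (if p ∈ A then ((x p).re, (x p).im) else (0, 0)).1 * (ofL t p).re +
      (if p ∈ A then ((x p).re, (x p).im) else ((0 : ℤ), (0 : ℤ))).2 * (ofL t p).im) = A.map (term x (ofL t)) := by
    refine List.map_congr_left fun p hp => ?_
    simp [hp, term]
  rw [h3, ← List.sum_toFinset _ hA]
  have h4 := hL t ht
  rw [dot, ← Finset.sum_add_sum_compl A.toFinset] at h4
  have h5 : (4 : ℤ) ∣ ∑ p ∈ A.toFinsetᶜ, term x (ofL t) p := by
    refine Finset.dvd_sum fun p hp => hoff t ht p ?_
    simpa using hp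
  exact Int.emod_eq_zero_of_dvd ((Int.dvd_add_left h5).1 h4)

theorem BLs_mem {t : List ℤ} (h : t ∈ BLs) : ofL t ∈ LL := by
  obtain ⟨q, hq, rfl⟩ := List.mem_map.1 h
  exact base_mem hq

theorem comp_nodup (n : Fin 7) : (comp n).Nodup := by revert n; decide

theorem mem_comp (n : Fin 7) (p : RuIdx) : p ∈ comp n ↔ p.1 = n := by
  rcases p with ⟨m, t⟩
  simp only [comp, List.mem_map, List.mem_finRange, true_and, Prod.mk.injEq]
  constructor
  · rintro ⟨s, rfl, rfl⟩; rfl
  · rintro rfl; exact ⟨t, rfl, rfl⟩

/-- The local norm at a coordinate. -/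
theorem term_self_nonneg (x : RuVec) (p : RuIdx) : 0 ≤ term x x p := by
  simp only [term]; nlinarith [mul_self_nonneg (x p).re, mul_self_nonneg (x p).im]

theorem zero_of_term (x : RuVec) (p : RuIdx) (h : term x x p = 0) : x p = 0 := by
  simp only [term] at h
  have h1 : (x p).re = 0 := by nlinarith [mul_self_nonneg (x p).re, mul_self_nonneg (x p).im]
  have h2 : (x p).im = 0 := by nlinarith [mul_self_nonneg (x p).re, mul_self_nonneg (x p).im]
  exact Zsqrtd.ext h1 h2

theorem unit_of_one (a b : ℤ) (h : a * a + b * b = 1) : (a, b) ∈ units := by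
  have h1 : a ≤ 1 := by nlinarith [mul_self_nonneg a, mul_self_nonneg b]
  have h2 : -1 ≤ a := by nlinarith [mul_self_nonneg a, mul_self_nonneg b]
  have h3 : b ≤ 1 := by nlinarith [mul_self_nonneg a, mul_self_nonneg b]
  have h4 : -1 ≤ b := by nlinarith [mul_self_nonneg a, mul_self_nonneg b]
  interval_cases a <;> interval_cases b <;> simp_all [units]

theorem piu_of_two (a b : ℤ) (h : a * a + b * b = 2) (ha : a % 2 = 1) : (a, b) ∈ piu := by
  have h1 : a ≤ 1 := by nlinarith [mul_self_nonneg a, mul_self_nonneg b]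
  have h2 : -1 ≤ a := by nlinarith [mul_self_nonneg a, mul_self_nonneg b]
  have h3 : b ≤ 1 := by nlinarith [mul_self_nonneg a, mul_self_nonneg b]
  have h4 : -1 ≤ b := by nlinarith [mul_self_nonneg a, mul_self_nonneg b]
  interval_cases a <;> interval_cases b <;> simp_all [piu]

theorem dbl_of_four (a b : ℤ) (h : a * a + b * b = 4) (ha : a % 2 = 0) (hb : b % 2 = 0) : (a, b) ∈ dbl := by
  have h1 : a ≤ 2 := by nlinarith [mul_self_nonneg a, mul_self_nonneg b]
  have h2 : -2 ≤ a := by nlinarith [mul_self_nonneg a, mul_self_nonneg b]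
  have h3 : b ≤ 2 := by nlinarith [mul_self_nonneg a, mul_self_nonneg b]
  have h4 : -2 ≤ b := by nlinarith [mul_self_nonneg a, mul_self_nonneg b]
  interval_cases a <;> interval_cases b <;> simp_all [dbl]

theorem dpi_of_eight (a b : ℤ) (h : a * a + b * b = 8) (ha : a % 2 = 0) (hb : b % 2 = 0) : (a, b) ∈ dpi := by
  have h1 : a ≤ 2 := by nlinarith [mul_self_nonneg a, mul_self_nonneg b]
  have h2 : -2 ≤ a := by nlinarith [mul_self_nonneg a, mul_self_nonneg b]
  have h3 : b ≤ 2 := by nlinarith [mul_self_nonneg a, mul_self_nonneg b]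
  have h4 : -2 ≤ b := by nlinarith [mul_self_nonneg a, mul_self_nonneg b]
  interval_cases a <;> interval_cases b <;> simp_all [dpi]

/-- If `k·[w p] ≤ n p` everywhere and the totals agree then `n p = k·[w p]` everywhere. -/
theorem eq_of_total (x : RuVec) (g : RuIdx → ℤ) (h1 : ∀ p, g p ≤ term x x p)
    (h2 : ∑ p, g p = dot x x) (p : RuIdx) : term x x p = g p := by
  have h3 : ∑ p, (term x x p - g p) = 0 := by
    rw [Finset.sum_sub_distrib, h2]; exact sub_eq_zero.2 rfl
  have h4 := (Finset.sum_eq_zero_iff_of_nonneg (fun p _ => sub_nonneg.2 (h1 p))).1 h3 p (Finset.mem_univ p)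
  omega

theorem case_all_even {x : RuVec} (hx : x ∈ LL) (h8 : dot x x = 8)
    (ha : ∀ p, (x p).re % 2 = 0) (hb : ∀ p, (x p).im % 2 = 0) : False := by
  classical
  set Pos : Finset RuIdx := Finset.univ.filter fun p => term x x p ≠ 0 with hPos
  have h4 : ∀ p ∈ Pos, (4 : ℤ) ≤ term x x p := by
    intro p hp
    have hp' : term x x p ≠ 0 := (Finset.mem_filter.1 hp).2
    obtain ⟨a, ea⟩ := Int.dvd_of_emod_eq_zero (ha p)
    obtain ⟨b, eb⟩ := Int.dvd_of_emod_eq_zero (hb p)
    simp only [term, ea, eb] at hp' ⊢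
    have : a * a + b * b ≠ 0 := by
      intro h0; apply hp'; linear_combination 4 * h0
    have h5 : 0 ≤ a * a + b * b := by nlinarith [mul_self_nonneg a, mul_self_nonneg b]
    have h6 : 1 ≤ a * a + b * b := by omega
    nlinarith
  have hsum : ∑ p ∈ Pos, term x x p = 8 := by
    rw [← h8, dot, hPos, Finset.sum_filter_ne_zero]
  have hcard : (Pos.card : ℤ) * 4 ≤ 8 := by
    have := Finset.card_nsmul_le_sum Pos (fun p => term x x p) 4 h4
    simpa [hsum] using this
  have hne : Pos.card ≠ 0 := by
    intro h0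
    rw [Finset.card_eq_zero] at h0
    rw [h0] at hsum
    simp at hsum
  have hc : Pos.card = 1 ∨ Pos.card = 2 := by omega
  have hzero : ∀ p, p ∉ Pos → x p = 0 := by
    intro p hp
    apply zero_of_term
    by_contra h
    exact hp (Finset.mem_filter.2 ⟨Finset.mem_univ p, h⟩)
  rcases hc with hc | hc
  · obtain ⟨p, hp⟩ := Finset.card_eq_one.1 hc
    rw [hp, Finset.sum_singleton] at hsum
    refine pat_false x [p] (by simp) dpi BLs ?_ (fun t ht => dvd4 hx (BLs_mem ht)) ?_
      (List.all_eq_true.1 chk_one p (mem_idxList p))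
    · intro q hq
      have : q = p := by simpa using hq
      subst this
      exact dpi_of_eight _ _ hsum (ha q) (hb q)
    · intro t _ q hq
      have : x q = 0 := hzero q (by rw [hp]; simpa using hq)
      simp [term, this]
  · obtain ⟨p, q, hpq, hp⟩ := Finset.card_eq_two.1 hc
    rw [hp, Finset.sum_pair hpq] at hsum
    have hp4 := h4 p (by rw [hp]; simp)
    have hq4 := h4 q (by rw [hp]; simp)
    have e1 : term x x p = 4 := by omega
    have e2 : term x x q = 4 := by omega
    have hchk := List.all_eq_true.1 (List.all_eq_true.1 chk_two p (mem_idxList p)) q (mem_idxList q)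
    simp only [Bool.or_eq_true, decide_eq_true_eq, hpq, false_or] at hchk
    refine pat_false x [p, q] (by simp [hpq]) dbl BLs ?_ (fun t ht => dvd4 hx (BLs_mem ht)) ?_ hchk
    · intro r hr
      simp only [List.mem_cons, List.not_mem_nil, or_false] at hr
      rcases hr with rfl | rfl
      · exact dbl_of_four _ _ e1 (ha _) (hb _)
      · exact dbl_of_four _ _ e2 (ha _) (hb _)
    · intro t _ r hr
      have : x r = 0 := hzero r (by rw [hp]; simpa using hr)
      simp [term, this]

theorem case_comp {x : RuVec} (hx : x ∈ LL) (h8 : dot x x = 8) (hev : ∀ p, ((x p).re + (x p).im) % 2 = 0)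
    (n : Fin 7) (hn : ∀ p, oddB (x p).re = decide (p.1 = n)) : False := by
  have hchk := List.all_eq_true.1 chk_comps n (List.mem_finRange n)
  simp only [Bool.and_eq_true, beq_iff_eq] at hchk
  have hg : ∀ p, (if p.1 = n then (2 : ℤ) else 0) ≤ term x x p := by
    intro p
    split_ifs with h
    · have : oddB (x p).re = true := by rw [hn p]; simpa using h
      have h1 := oddB_true.1 this
      have h2 := hev p
      have h3 : (x p).re ≠ 0 := by omega
      have h4 : (x p).im ≠ 0 := by omega
      have h5 : 1 ≤ (x p).re * (x p).re := by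
        have := mul_self_pos.2 h3; omega
      have h6 : 1 ≤ (x p).im * (x p).im := by
        have := mul_self_pos.2 h4; omega
      simp only [term]; omega
    · exact term_self_nonneg x p
  have htot : ∑ p : RuIdx, (if p.1 = n then (2 : ℤ) else 0) = dot x x := by
    rw [h8]
    have := hchk.1
    rw [wtZ_eq] at this
    have e : ∑ p : RuIdx, (if p.1 = n then (2 : ℤ) else 0) = 2 * ∑ p : RuIdx, (if decide (p.1 = n) = true then (1 : ℤ) else 0) := by
      rw [Finset.mul_sum]
      refine Finset.sum_congr rfl fun p _ => ?_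
      by_cases h : p.1 = n <;> simp [h]
    rw [e, this]; rfl
  have he := eq_of_total x _ hg htot
  refine pat_false x (comp n) (comp_nodup n) piu BLs ?_ (fun t ht => dvd4 hx (BLs_mem ht)) ?_ hchk.2
  · intro p hp
    have hp' := (mem_comp n p).1 hp
    have h1 := he p
    rw [if_pos hp'] at h1
    have : oddB (x p).re = true := by rw [hn p]; simpa using hp'
    exact piu_of_two _ _ h1 (oddB_true.1 this)
  · intro t _ p hp
    have hp' : ¬ p.1 = n := fun h => hp ((mem_comp n p).2 h)
    have h1 := he p
    rw [if_neg hp'] at h1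
    have : x p = 0 := zero_of_term x p h1
    simp [term, this]

theorem case_pair {x : RuVec} (hx : x ∈ LL) (h8 : dot x x = 8) (d : Fin 7 × Fin 7 × List (List ℕ)) (hd : d ∈ pairsD)
    (hn : ∀ p, oddB ((x p).re + (x p).im) = decide (p.1 = d.1 ∨ p.1 = d.2.1)) : False := by
  have hchk := List.all_eq_true.1 chk_pairs d hd
  simp only [Bool.and_eq_true, beq_iff_eq, List.all_eq_true, Bool.or_eq_true, decide_eq_true_eq] at hchk
  obtain ⟨⟨⟨hmem, hvan⟩, hwt⟩, hpat⟩ := hchk
  have hg : ∀ p, (if p.1 = d.1 ∨ p.1 = d.2.1 then (1 : ℤ) else 0) ≤ term x x p := by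
    intro p
    split_ifs with h
    · have : oddB ((x p).re + (x p).im) = true := by rw [hn p]; simpa using h
      have h1 := oddB_true.1 this
      have h2 := term_self_nonneg x p
      have h3 : term x x p ≠ 0 := by
        intro h0
        have := zero_of_term x p h0
        rw [this] at h1
        simp at h1
      omega
    · exact term_self_nonneg x p
  have htot : ∑ p : RuIdx, (if p.1 = d.1 ∨ p.1 = d.2.1 then (1 : ℤ) else 0) = dot x x := by
    rw [h8]
    rw [wtZ_eq] at hwt
    rw [← hwt]
    refine Finset.sum_congr rfl fun p _ => ?_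
    by_cases h : p.1 = d.1 ∨ p.1 = d.2.1 <;> simp [h]
  have he := eq_of_total x _ hg htot
  refine pat_false x (comp d.1) (comp_nodup _) units (d.2.2.map iL) ?_ ?_ ?_ hpat
  · intro p hp
    have hp' := (mem_comp _ p).1 hp
    have h1 := he p
    rw [if_pos (Or.inl hp')] at h1
    exact unit_of_one _ _ h1
  · intro t ht
    obtain ⟨t', ht', rfl⟩ := List.mem_map.1 ht
    exact dvd4 hx (memChk_spec (hmem t' ht'))
  · intro t ht p hp
    obtain ⟨t', ht', rfl⟩ := List.mem_map.1 ht
    have hp' : ¬ p.1 = d.1 := fun h => hp ((mem_comp _ p).2 h)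
    by_cases h2 : p.1 = d.2.1
    · have h3 := hvan t' ht' p (mem_idxList p)
      rcases h3 with h3 | h3
      · exact absurd h2 h3
      · obtain ⟨h4, h5⟩ := h3
        simp only [term]
        have h6 : (4 : ℤ) ∣ (ofL (iL t') p).re := Int.dvd_of_emod_eq_zero h4
        have h7 : (4 : ℤ) ∣ (ofL (iL t') p).im := Int.dvd_of_emod_eq_zero h5
        exact dvd_add (Dvd.dvd.mul_left h6 _) (Dvd.dvd.mul_left h7 _)
    · have h1 := he p
      rw [if_neg (by simp [hp', h2])] at h1
      have : x p = 0 := zero_of_term x p h1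
      simp [term, this]

theorem wt_le (x : RuVec) (k : ℤ) (hk : 0 < k) (w : RuIdx → Bool) (h8 : dot x x = 8)
    (h : ∀ p, w p = true → k ≤ term x x p) : k * wtZ w ≤ 8 := by
  rw [wtZ_eq, Finset.mul_sum, ← h8]
  refine Finset.sum_le_sum fun p _ => ?_
  by_cases hp : w p = true
  · simpa [hp] using h p hp
  · have : w p = false := by simpa using hp
    simp only [this, Bool.false_eq_true, if_false, mul_zero]
    exact term_self_nonneg x p

theorem no_eight {x : RuVec} (hx : x ∈ LL) (h8 : dot x x = 8) : False := by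
  have hw0 : wtZ (fun p => oddB ((x p).re + (x p).im)) ≤ 8 := by
    have := wt_le x 1 one_pos (fun p => oddB ((x p).re + (x p).im)) h8 (by
      intro p hp
      have h1 := oddB_true.1 hp
      have h2 := term_self_nonneg x p
      have h3 : term x x p ≠ 0 := by
        intro h0
        have := zero_of_term x p h0
        rw [this] at h1
        simp at h1
      omega)
    linarith
  rcases word0 (fun p => oddB ((x p).re + (x p).im)) (fun r hr => rows0_spec hx r hr) hw0 with h0 | ⟨d, hd, hn⟩
  · have hev : ∀ p, ((x p).re + (x p).im) % 2 = 0 := fun p => oddB_false.1 (h0 p)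
    have hw1 : wtZ (fun p => oddB (x p).re) ≤ 4 := by
      have := wt_le x 2 two_pos (fun p => oddB (x p).re) h8 (by
        intro p hp
        have h1 := oddB_true.1 hp
        have h2 := hev p
        have h3 : (x p).re ≠ 0 := by omega
        have h4 : (x p).im ≠ 0 := by omega
        have h5 : 1 ≤ (x p).re * (x p).re := by
          have := mul_self_pos.2 h3; omega
        have h6 : 1 ≤ (x p).im * (x p).im := by
          have := mul_self_pos.2 h4; omega
        simp only [term]; omega)
      linarith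
    rcases word1 (fun p => oddB (x p).re) (fun r hr => rows1_spec hx hev r hr) hw1 with h1 | ⟨n, hn⟩
    · have ha : ∀ p, (x p).re % 2 = 0 := fun p => oddB_false.1 (h1 p)
      have hb : ∀ p, (x p).im % 2 = 0 := fun p => by
        have := ha p; have := hev p; omega
      exact case_all_even hx h8 ha hb
    · exact case_comp hx h8 hev n hn
  · exact case_pair hx h8 d hd hn

theorem main : (∀ x ∈ ruLattice, (8 : ℤ) ∣ ruNorm x) ∧ (∀ x ∈ ruLattice, ruNorm x ≠ 8) ∧
    (∀ x ∈ ruLattice, x ≠ 0 → 16 ≤ ruNorm x) ∧ ∃ x ∈ ruLattice, ruNorm x = 16 := by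
  have h1 : ∀ x ∈ ruLattice, (8 : ℤ) ∣ ruNorm x := fun x hx => by
    rw [ruNorm_eq]; exact dvd8 (ruLattice_le hx)
  have h2 : ∀ x ∈ ruLattice, ruNorm x ≠ 8 := fun x hx h => by
    rw [ruNorm_eq] at h; exact no_eight (ruLattice_le hx) h
  refine ⟨h1, h2, ?_, ?_⟩
  · intro x hx hne
    have h3 := h1 x hx
    have h4 := h2 x hx
    have h5 : ruNorm x ≠ 0 := by
      intro h0
      rw [ruNorm_eq] at h0
      apply hne
      funext p
      apply zero_of_term
      exact (Finset.sum_eq_zero_iff_of_nonneg (fun p _ => term_self_nonneg x p)).1 h0 p (Finset.mem_univ p)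
    have h6 : 0 ≤ ruNorm x := by
      rw [ruNorm_eq]; exact Finset.sum_nonneg fun p _ => term_self_nonneg x p
    obtain ⟨k, hk⟩ := h3
    omega
  · obtain ⟨v, hv, h16⟩ := List.any_eq_true.1 chk_sixteen
    refine ⟨v, ?_, ?_⟩
    · rw [ruLattice, AddSubgroup.mem_sInf]
      intro L hL
      exact hL.1 v hv
    · rw [ruNorm_eq, dot_eq_dotL]
      simpa using h16

end Cfsg.Agent.RuLat
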