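import Cfsg.Agent.Lib.RuPTab

set_option autoImplicit false
set_option maxRecDepth 100000
set_option Elab.async false

namespace Cfsg.Agent.Lib.RuPSt0

open Cfsg.Agent.Lib.ChainCert Cfsg.Agent.Lib.ProgBits Cfsg.Agent.Lib.ProgChain Cfsg.Agent.Lib.PermChain Cfsg.Agent.Lib.TcBits
open Cfsg.Agent.Lib.RuPTab

theorem st0_6_0 : allR (guard Pst0 (nat_lit 8120)) 6 (nat_lit 0) = true := by decide +kernel
theorem st0_6_64 : allR (guard Pst0 (nat_lit 8120)) 6 (nat_lit 64) = true := by decide +kernel
theorem st0_6_128 : allR (guard Pst0 (nat_lit 8120)) 6 (nat_lit 128) = true := by decide +kernel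
theorem st0_6_192 : allR (guard Pst0 (nat_lit 8120)) 6 (nat_lit 192) = true := by decide +kernel
theorem st0_6_256 : allR (guard Pst0 (nat_lit 8120)) 6 (nat_lit 256) = true := by decide +kernel
theorem st0_6_320 : allR (guard Pst0 (nat_lit 8120)) 6 (nat_lit 320) = true := by decide +kernel
theorem st0_6_384 : allR (guard Pst0 (nat_lit 8120)) 6 (nat_lit 384) = true := by decide +kernel
theorem st0_6_448 : allR (guard Pst0 (nat_lit 8120)) 6 (nat_lit 448) = true := by decide +kernel
theorem st0_6_512 : allR (guard Pst0 (nat_lit 8120)) 6 (nat_lit 512) = true := by decide +kernel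
theorem st0_6_576 : allR (guard Pst0 (nat_lit 8120)) 6 (nat_lit 576) = true := by decide +kernel
theorem st0_6_640 : allR (guard Pst0 (nat_lit 8120)) 6 (nat_lit 640) = true := by decide +kernel
theorem st0_6_704 : allR (guard Pst0 (nat_lit 8120)) 6 (nat_lit 704) = true := by decide +kernel
theorem st0_6_768 : allR (guard Pst0 (nat_lit 8120)) 6 (nat_lit 768) = true := by decide +kernel
theorem st0_6_832 : allR (guard Pst0 (nat_lit 8120)) 6 (nat_lit 832) = true := by decide +kernel
theorem st0_6_896 : allR (guard Pst0 (nat_lit 8120)) 6 (nat_lit 896) = true := by decide +kernel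
theorem st0_6_960 : allR (guard Pst0 (nat_lit 8120)) 6 (nat_lit 960) = true := by decide +kernel
theorem st0_6_1024 : allR (guard Pst0 (nat_lit 8120)) 6 (nat_lit 1024) = true := by decide +kernel
theorem st0_6_1088 : allR (guard Pst0 (nat_lit 8120)) 6 (nat_lit 1088) = true := by decide +kernel
theorem st0_6_1152 : allR (guard Pst0 (nat_lit 8120)) 6 (nat_lit 1152) = true := by decide +kernel
theorem st0_6_1216 : allR (guard Pst0 (nat_lit 8120)) 6 (nat_lit 1216) = true := by decide +kernel
theorem st0_6_1280 : allR (guard Pst0 (nat_lit 8120)) 6 (nat_lit 1280) = true := by decide +kernel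
theorem st0_6_1344 : allR (guard Pst0 (nat_lit 8120)) 6 (nat_lit 1344) = true := by decide +kernel
theorem st0_6_1408 : allR (guard Pst0 (nat_lit 8120)) 6 (nat_lit 1408) = true := by decide +kernel
theorem st0_6_1472 : allR (guard Pst0 (nat_lit 8120)) 6 (nat_lit 1472) = true := by decide +kernel
theorem st0_6_1536 : allR (guard Pst0 (nat_lit 8120)) 6 (nat_lit 1536) = true := by decide +kernel
theorem st0_6_1600 : allR (guard Pst0 (nat_lit 8120)) 6 (nat_lit 1600) = true := by decide +kernel
theorem st0_6_1664 : allR (guard Pst0 (nat_lit 8120)) 6 (nat_lit 1664) = true := by decide +kernel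
theorem st0_6_1728 : allR (guard Pst0 (nat_lit 8120)) 6 (nat_lit 1728) = true := by decide +kernel
theorem st0_6_1792 : allR (guard Pst0 (nat_lit 8120)) 6 (nat_lit 1792) = true := by decide +kernel
theorem st0_6_1856 : allR (guard Pst0 (nat_lit 8120)) 6 (nat_lit 1856) = true := by decide +kernel
theorem st0_6_1920 : allR (guard Pst0 (nat_lit 8120)) 6 (nat_lit 1920) = true := by decide +kernel
theorem st0_6_1984 : allR (guard Pst0 (nat_lit 8120)) 6 (nat_lit 1984) = true := by decide +kernel
theorem st0_6_2048 : allR (guard Pst0 (nat_lit 8120)) 6 (nat_lit 2048) = true := by decide +kernel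
theorem st0_6_2112 : allR (guard Pst0 (nat_lit 8120)) 6 (nat_lit 2112) = true := by decide +kernel
theorem st0_6_2176 : allR (guard Pst0 (nat_lit 8120)) 6 (nat_lit 2176) = true := by decide +kernel
theorem st0_6_2240 : allR (guard Pst0 (nat_lit 8120)) 6 (nat_lit 2240) = true := by decide +kernel
theorem st0_6_2304 : allR (guard Pst0 (nat_lit 8120)) 6 (nat_lit 2304) = true := by decide +kernel
theorem st0_6_2368 : allR (guard Pst0 (nat_lit 8120)) 6 (nat_lit 2368) = true := by decide +kernel
theorem st0_6_2432 : allR (guard Pst0 (nat_lit 8120)) 6 (nat_lit 2432) = true := by decide +kernel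
theorem st0_6_2496 : allR (guard Pst0 (nat_lit 8120)) 6 (nat_lit 2496) = true := by decide +kernel
theorem st0_6_2560 : allR (guard Pst0 (nat_lit 8120)) 6 (nat_lit 2560) = true := by decide +kernel
theorem st0_6_2624 : allR (guard Pst0 (nat_lit 8120)) 6 (nat_lit 2624) = true := by decide +kernel
theorem st0_6_2688 : allR (guard Pst0 (nat_lit 8120)) 6 (nat_lit 2688) = true := by decide +kernel
theorem st0_6_2752 : allR (guard Pst0 (nat_lit 8120)) 6 (nat_lit 2752) = true := by decide +kernel
theorem st0_6_2816 : allR (guard Pst0 (nat_lit 8120)) 6 (nat_lit 2816) = true := by decide +kernel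
theorem st0_6_2880 : allR (guard Pst0 (nat_lit 8120)) 6 (nat_lit 2880) = true := by decide +kernel
theorem st0_6_2944 : allR (guard Pst0 (nat_lit 8120)) 6 (nat_lit 2944) = true := by decide +kernel
theorem st0_6_3008 : allR (guard Pst0 (nat_lit 8120)) 6 (nat_lit 3008) = true := by decide +kernel
theorem st0_6_3072 : allR (guard Pst0 (nat_lit 8120)) 6 (nat_lit 3072) = true := by decide +kernel
theorem st0_6_3136 : allR (guard Pst0 (nat_lit 8120)) 6 (nat_lit 3136) = true := by decide +kernel
theorem st0_6_3200 : allR (guard Pst0 (nat_lit 8120)) 6 (nat_lit 3200) = true := by decide +kernel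
theorem st0_6_3264 : allR (guard Pst0 (nat_lit 8120)) 6 (nat_lit 3264) = true := by decide +kernel
theorem st0_6_3328 : allR (guard Pst0 (nat_lit 8120)) 6 (nat_lit 3328) = true := by decide +kernel
theorem st0_6_3392 : allR (guard Pst0 (nat_lit 8120)) 6 (nat_lit 3392) = true := by decide +kernel
theorem st0_6_3456 : allR (guard Pst0 (nat_lit 8120)) 6 (nat_lit 3456) = true := by decide +kernel
theorem st0_6_3520 : allR (guard Pst0 (nat_lit 8120)) 6 (nat_lit 3520) = true := by decide +kernel
theorem st0_6_3584 : allR (guard Pst0 (nat_lit 8120)) 6 (nat_lit 3584) = true := by decide +kernel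
theorem st0_6_3648 : allR (guard Pst0 (nat_lit 8120)) 6 (nat_lit 3648) = true := by decide +kernel
theorem st0_6_3712 : allR (guard Pst0 (nat_lit 8120)) 6 (nat_lit 3712) = true := by decide +kernel
theorem st0_6_3776 : allR (guard Pst0 (nat_lit 8120)) 6 (nat_lit 3776) = true := by decide +kernel
theorem st0_6_3840 : allR (guard Pst0 (nat_lit 8120)) 6 (nat_lit 3840) = true := by decide +kernel
theorem st0_6_3904 : allR (guard Pst0 (nat_lit 8120)) 6 (nat_lit 3904) = true := by decide +kernel
theorem st0_6_3968 : allR (guard Pst0 (nat_lit 8120)) 6 (nat_lit 3968) = true := by decide +kernel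
theorem st0_6_4032 : allR (guard Pst0 (nat_lit 8120)) 6 (nat_lit 4032) = true := by decide +kernel
theorem st0_6_4096 : allR (guard Pst0 (nat_lit 8120)) 6 (nat_lit 4096) = true := by decide +kernel
theorem st0_6_4160 : allR (guard Pst0 (nat_lit 8120)) 6 (nat_lit 4160) = true := by decide +kernel
theorem st0_6_4224 : allR (guard Pst0 (nat_lit 8120)) 6 (nat_lit 4224) = true := by decide +kernel
theorem st0_6_4288 : allR (guard Pst0 (nat_lit 8120)) 6 (nat_lit 4288) = true := by decide +kernel
theorem st0_6_4352 : allR (guard Pst0 (nat_lit 8120)) 6 (nat_lit 4352) = true := by decide +kernel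
theorem st0_6_4416 : allR (guard Pst0 (nat_lit 8120)) 6 (nat_lit 4416) = true := by decide +kernel
theorem st0_6_4480 : allR (guard Pst0 (nat_lit 8120)) 6 (nat_lit 4480) = true := by decide +kernel
theorem st0_6_4544 : allR (guard Pst0 (nat_lit 8120)) 6 (nat_lit 4544) = true := by decide +kernel
theorem st0_6_4608 : allR (guard Pst0 (nat_lit 8120)) 6 (nat_lit 4608) = true := by decide +kernel
theorem st0_6_4672 : allR (guard Pst0 (nat_lit 8120)) 6 (nat_lit 4672) = true := by decide +kernel
theorem st0_6_4736 : allR (guard Pst0 (nat_lit 8120)) 6 (nat_lit 4736) = true := by decide +kernel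
theorem st0_6_4800 : allR (guard Pst0 (nat_lit 8120)) 6 (nat_lit 4800) = true := by decide +kernel
theorem st0_6_4864 : allR (guard Pst0 (nat_lit 8120)) 6 (nat_lit 4864) = true := by decide +kernel
theorem st0_6_4928 : allR (guard Pst0 (nat_lit 8120)) 6 (nat_lit 4928) = true := by decide +kernel
theorem st0_6_4992 : allR (guard Pst0 (nat_lit 8120)) 6 (nat_lit 4992) = true := by decide +kernel
theorem st0_6_5056 : allR (guard Pst0 (nat_lit 8120)) 6 (nat_lit 5056) = true := by decide +kernel
theorem st0_6_5120 : allR (guard Pst0 (nat_lit 8120)) 6 (nat_lit 5120) = true := by decide +kernel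
theorem st0_6_5184 : allR (guard Pst0 (nat_lit 8120)) 6 (nat_lit 5184) = true := by decide +kernel
theorem st0_6_5248 : allR (guard Pst0 (nat_lit 8120)) 6 (nat_lit 5248) = true := by decide +kernel
theorem st0_6_5312 : allR (guard Pst0 (nat_lit 8120)) 6 (nat_lit 5312) = true := by decide +kernel
theorem st0_6_5376 : allR (guard Pst0 (nat_lit 8120)) 6 (nat_lit 5376) = true := by decide +kernel
theorem st0_6_5440 : allR (guard Pst0 (nat_lit 8120)) 6 (nat_lit 5440) = true := by decide +kernel
theorem st0_6_5504 : allR (guard Pst0 (nat_lit 8120)) 6 (nat_lit 5504) = true := by decide +kernel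
theorem st0_6_5568 : allR (guard Pst0 (nat_lit 8120)) 6 (nat_lit 5568) = true := by decide +kernel
theorem st0_6_5632 : allR (guard Pst0 (nat_lit 8120)) 6 (nat_lit 5632) = true := by decide +kernel
theorem st0_6_5696 : allR (guard Pst0 (nat_lit 8120)) 6 (nat_lit 5696) = true := by decide +kernel
theorem st0_6_5760 : allR (guard Pst0 (nat_lit 8120)) 6 (nat_lit 5760) = true := by decide +kernel
theorem st0_6_5824 : allR (guard Pst0 (nat_lit 8120)) 6 (nat_lit 5824) = true := by decide +kernel
theorem st0_6_5888 : allR (guard Pst0 (nat_lit 8120)) 6 (nat_lit 5888) = true := by decide +kernel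
theorem st0_6_5952 : allR (guard Pst0 (nat_lit 8120)) 6 (nat_lit 5952) = true := by decide +kernel
theorem st0_6_6016 : allR (guard Pst0 (nat_lit 8120)) 6 (nat_lit 6016) = true := by decide +kernel
theorem st0_6_6080 : allR (guard Pst0 (nat_lit 8120)) 6 (nat_lit 6080) = true := by decide +kernel
theorem st0_6_6144 : allR (guard Pst0 (nat_lit 8120)) 6 (nat_lit 6144) = true := by decide +kernel
theorem st0_6_6208 : allR (guard Pst0 (nat_lit 8120)) 6 (nat_lit 6208) = true := by decide +kernel
theorem st0_6_6272 : allR (guard Pst0 (nat_lit 8120)) 6 (nat_lit 6272) = true := by decide +kernel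
theorem st0_6_6336 : allR (guard Pst0 (nat_lit 8120)) 6 (nat_lit 6336) = true := by decide +kernel
theorem st0_6_6400 : allR (guard Pst0 (nat_lit 8120)) 6 (nat_lit 6400) = true := by decide +kernel
theorem st0_6_6464 : allR (guard Pst0 (nat_lit 8120)) 6 (nat_lit 6464) = true := by decide +kernel
theorem st0_6_6528 : allR (guard Pst0 (nat_lit 8120)) 6 (nat_lit 6528) = true := by decide +kernel
theorem st0_6_6592 : allR (guard Pst0 (nat_lit 8120)) 6 (nat_lit 6592) = true := by decide +kernel
theorem st0_6_6656 : allR (guard Pst0 (nat_lit 8120)) 6 (nat_lit 6656) = true := by decide +kernel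
theorem st0_6_6720 : allR (guard Pst0 (nat_lit 8120)) 6 (nat_lit 6720) = true := by decide +kernel
theorem st0_6_6784 : allR (guard Pst0 (nat_lit 8120)) 6 (nat_lit 6784) = true := by decide +kernel
theorem st0_6_6848 : allR (guard Pst0 (nat_lit 8120)) 6 (nat_lit 6848) = true := by decide +kernel
theorem st0_6_6912 : allR (guard Pst0 (nat_lit 8120)) 6 (nat_lit 6912) = true := by decide +kernel
theorem st0_6_6976 : allR (guard Pst0 (nat_lit 8120)) 6 (nat_lit 6976) = true := by decide +kernel
theorem st0_6_7040 : allR (guard Pst0 (nat_lit 8120)) 6 (nat_lit 7040) = true := by decide +kernel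
theorem st0_6_7104 : allR (guard Pst0 (nat_lit 8120)) 6 (nat_lit 7104) = true := by decide +kernel
theorem st0_6_7168 : allR (guard Pst0 (nat_lit 8120)) 6 (nat_lit 7168) = true := by decide +kernel
theorem st0_6_7232 : allR (guard Pst0 (nat_lit 8120)) 6 (nat_lit 7232) = true := by decide +kernel
theorem st0_6_7296 : allR (guard Pst0 (nat_lit 8120)) 6 (nat_lit 7296) = true := by decide +kernel
theorem st0_6_7360 : allR (guard Pst0 (nat_lit 8120)) 6 (nat_lit 7360) = true := by decide +kernel
theorem st0_6_7424 : allR (guard Pst0 (nat_lit 8120)) 6 (nat_lit 7424) = true := by decide +kernel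
theorem st0_6_7488 : allR (guard Pst0 (nat_lit 8120)) 6 (nat_lit 7488) = true := by decide +kernel
theorem st0_6_7552 : allR (guard Pst0 (nat_lit 8120)) 6 (nat_lit 7552) = true := by decide +kernel
theorem st0_6_7616 : allR (guard Pst0 (nat_lit 8120)) 6 (nat_lit 7616) = true := by decide +kernel
theorem st0_6_7680 : allR (guard Pst0 (nat_lit 8120)) 6 (nat_lit 7680) = true := by decide +kernel
theorem st0_6_7744 : allR (guard Pst0 (nat_lit 8120)) 6 (nat_lit 7744) = true := by decide +kernel
theorem st0_6_7808 : allR (guard Pst0 (nat_lit 8120)) 6 (nat_lit 7808) = true := by decide +kernel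
theorem st0_6_7872 : allR (guard Pst0 (nat_lit 8120)) 6 (nat_lit 7872) = true := by decide +kernel
theorem st0_6_7936 : allR (guard Pst0 (nat_lit 8120)) 6 (nat_lit 7936) = true := by decide +kernel
theorem st0_6_8000 : allR (guard Pst0 (nat_lit 8120)) 6 (nat_lit 8000) = true := by decide +kernel
theorem st0_6_8064 : allR (guard Pst0 (nat_lit 8120)) 6 (nat_lit 8064) = true := by decide +kernel
theorem st0_6_8128 : allR (guard Pst0 (nat_lit 8120)) 6 (nat_lit 8128) = true := by decide +kernel
theorem st0_7_0 : allR (guard Pst0 (nat_lit 8120)) 7 (nat_lit 0) = true := allR_join (mid := nat_lit 64) rfl st0_6_0 st0_6_64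
theorem st0_7_128 : allR (guard Pst0 (nat_lit 8120)) 7 (nat_lit 128) = true := allR_join (mid := nat_lit 192) rfl st0_6_128 st0_6_192
theorem st0_7_256 : allR (guard Pst0 (nat_lit 8120)) 7 (nat_lit 256) = true := allR_join (mid := nat_lit 320) rfl st0_6_256 st0_6_320
theorem st0_7_384 : allR (guard Pst0 (nat_lit 8120)) 7 (nat_lit 384) = true := allR_join (mid := nat_lit 448) rfl st0_6_384 st0_6_448
theorem st0_7_512 : allR (guard Pst0 (nat_lit 8120)) 7 (nat_lit 512) = true := allR_join (mid := nat_lit 576) rfl st0_6_512 st0_6_576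
theorem st0_7_640 : allR (guard Pst0 (nat_lit 8120)) 7 (nat_lit 640) = true := allR_join (mid := nat_lit 704) rfl st0_6_640 st0_6_704
theorem st0_7_768 : allR (guard Pst0 (nat_lit 8120)) 7 (nat_lit 768) = true := allR_join (mid := nat_lit 832) rfl st0_6_768 st0_6_832
theorem st0_7_896 : allR (guard Pst0 (nat_lit 8120)) 7 (nat_lit 896) = true := allR_join (mid := nat_lit 960) rfl st0_6_896 st0_6_960
theorem st0_7_1024 : allR (guard Pst0 (nat_lit 8120)) 7 (nat_lit 1024) = true := allR_join (mid := nat_lit 1088) rfl st0_6_1024 st0_6_1088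
theorem st0_7_1152 : allR (guard Pst0 (nat_lit 8120)) 7 (nat_lit 1152) = true := allR_join (mid := nat_lit 1216) rfl st0_6_1152 st0_6_1216
theorem st0_7_1280 : allR (guard Pst0 (nat_lit 8120)) 7 (nat_lit 1280) = true := allR_join (mid := nat_lit 1344) rfl st0_6_1280 st0_6_1344
theorem st0_7_1408 : allR (guard Pst0 (nat_lit 8120)) 7 (nat_lit 1408) = true := allR_join (mid := nat_lit 1472) rfl st0_6_1408 st0_6_1472
theorem st0_7_1536 : allR (guard Pst0 (nat_lit 8120)) 7 (nat_lit 1536) = true := allR_join (mid := nat_lit 1600) rfl st0_6_1536 st0_6_1600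
theorem st0_7_1664 : allR (guard Pst0 (nat_lit 8120)) 7 (nat_lit 1664) = true := allR_join (mid := nat_lit 1728) rfl st0_6_1664 st0_6_1728
theorem st0_7_1792 : allR (guard Pst0 (nat_lit 8120)) 7 (nat_lit 1792) = true := allR_join (mid := nat_lit 1856) rfl st0_6_1792 st0_6_1856
theorem st0_7_1920 : allR (guard Pst0 (nat_lit 8120)) 7 (nat_lit 1920) = true := allR_join (mid := nat_lit 1984) rfl st0_6_1920 st0_6_1984
theorem st0_7_2048 : allR (guard Pst0 (nat_lit 8120)) 7 (nat_lit 2048) = true := allR_join (mid := nat_lit 2112) rfl st0_6_2048 st0_6_2112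
theorem st0_7_2176 : allR (guard Pst0 (nat_lit 8120)) 7 (nat_lit 2176) = true := allR_join (mid := nat_lit 2240) rfl st0_6_2176 st0_6_2240
theorem st0_7_2304 : allR (guard Pst0 (nat_lit 8120)) 7 (nat_lit 2304) = true := allR_join (mid := nat_lit 2368) rfl st0_6_2304 st0_6_2368
theorem st0_7_2432 : allR (guard Pst0 (nat_lit 8120)) 7 (nat_lit 2432) = true := allR_join (mid := nat_lit 2496) rfl st0_6_2432 st0_6_2496
theorem st0_7_2560 : allR (guard Pst0 (nat_lit 8120)) 7 (nat_lit 2560) = true := allR_join (mid := nat_lit 2624) rfl st0_6_2560 st0_6_2624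
theorem st0_7_2688 : allR (guard Pst0 (nat_lit 8120)) 7 (nat_lit 2688) = true := allR_join (mid := nat_lit 2752) rfl st0_6_2688 st0_6_2752
theorem st0_7_2816 : allR (guard Pst0 (nat_lit 8120)) 7 (nat_lit 2816) = true := allR_join (mid := nat_lit 2880) rfl st0_6_2816 st0_6_2880
theorem st0_7_2944 : allR (guard Pst0 (nat_lit 8120)) 7 (nat_lit 2944) = true := allR_join (mid := nat_lit 3008) rfl st0_6_2944 st0_6_3008
theorem st0_7_3072 : allR (guard Pst0 (nat_lit 8120)) 7 (nat_lit 3072) = true := allR_join (mid := nat_lit 3136) rfl st0_6_3072 st0_6_3136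
theorem st0_7_3200 : allR (guard Pst0 (nat_lit 8120)) 7 (nat_lit 3200) = true := allR_join (mid := nat_lit 3264) rfl st0_6_3200 st0_6_3264
theorem st0_7_3328 : allR (guard Pst0 (nat_lit 8120)) 7 (nat_lit 3328) = true := allR_join (mid := nat_lit 3392) rfl st0_6_3328 st0_6_3392
theorem st0_7_3456 : allR (guard Pst0 (nat_lit 8120)) 7 (nat_lit 3456) = true := allR_join (mid := nat_lit 3520) rfl st0_6_3456 st0_6_3520
theorem st0_7_3584 : allR (guard Pst0 (nat_lit 8120)) 7 (nat_lit 3584) = true := allR_join (mid := nat_lit 3648) rfl st0_6_3584 st0_6_3648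
theorem st0_7_3712 : allR (guard Pst0 (nat_lit 8120)) 7 (nat_lit 3712) = true := allR_join (mid := nat_lit 3776) rfl st0_6_3712 st0_6_3776
theorem st0_7_3840 : allR (guard Pst0 (nat_lit 8120)) 7 (nat_lit 3840) = true := allR_join (mid := nat_lit 3904) rfl st0_6_3840 st0_6_3904
theorem st0_7_3968 : allR (guard Pst0 (nat_lit 8120)) 7 (nat_lit 3968) = true := allR_join (mid := nat_lit 4032) rfl st0_6_3968 st0_6_4032
theorem st0_7_4096 : allR (guard Pst0 (nat_lit 8120)) 7 (nat_lit 4096) = true := allR_join (mid := nat_lit 4160) rfl st0_6_4096 st0_6_4160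
theorem st0_7_4224 : allR (guard Pst0 (nat_lit 8120)) 7 (nat_lit 4224) = true := allR_join (mid := nat_lit 4288) rfl st0_6_4224 st0_6_4288
theorem st0_7_4352 : allR (guard Pst0 (nat_lit 8120)) 7 (nat_lit 4352) = true := allR_join (mid := nat_lit 4416) rfl st0_6_4352 st0_6_4416
theorem st0_7_4480 : allR (guard Pst0 (nat_lit 8120)) 7 (nat_lit 4480) = true := allR_join (mid := nat_lit 4544) rfl st0_6_4480 st0_6_4544
theorem st0_7_4608 : allR (guard Pst0 (nat_lit 8120)) 7 (nat_lit 4608) = true := allR_join (mid := nat_lit 4672) rfl st0_6_4608 st0_6_4672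
theorem st0_7_4736 : allR (guard Pst0 (nat_lit 8120)) 7 (nat_lit 4736) = true := allR_join (mid := nat_lit 4800) rfl st0_6_4736 st0_6_4800
theorem st0_7_4864 : allR (guard Pst0 (nat_lit 8120)) 7 (nat_lit 4864) = true := allR_join (mid := nat_lit 4928) rfl st0_6_4864 st0_6_4928
theorem st0_7_4992 : allR (guard Pst0 (nat_lit 8120)) 7 (nat_lit 4992) = true := allR_join (mid := nat_lit 5056) rfl st0_6_4992 st0_6_5056
theorem st0_7_5120 : allR (guard Pst0 (nat_lit 8120)) 7 (nat_lit 5120) = true := allR_join (mid := nat_lit 5184) rfl st0_6_5120 st0_6_5184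
theorem st0_7_5248 : allR (guard Pst0 (nat_lit 8120)) 7 (nat_lit 5248) = true := allR_join (mid := nat_lit 5312) rfl st0_6_5248 st0_6_5312
theorem st0_7_5376 : allR (guard Pst0 (nat_lit 8120)) 7 (nat_lit 5376) = true := allR_join (mid := nat_lit 5440) rfl st0_6_5376 st0_6_5440
theorem st0_7_5504 : allR (guard Pst0 (nat_lit 8120)) 7 (nat_lit 5504) = true := allR_join (mid := nat_lit 5568) rfl st0_6_5504 st0_6_5568
theorem st0_7_5632 : allR (guard Pst0 (nat_lit 8120)) 7 (nat_lit 5632) = true := allR_join (mid := nat_lit 5696) rfl st0_6_5632 st0_6_5696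
theorem st0_7_5760 : allR (guard Pst0 (nat_lit 8120)) 7 (nat_lit 5760) = true := allR_join (mid := nat_lit 5824) rfl st0_6_5760 st0_6_5824
theorem st0_7_5888 : allR (guard Pst0 (nat_lit 8120)) 7 (nat_lit 5888) = true := allR_join (mid := nat_lit 5952) rfl st0_6_5888 st0_6_5952
theorem st0_7_6016 : allR (guard Pst0 (nat_lit 8120)) 7 (nat_lit 6016) = true := allR_join (mid := nat_lit 6080) rfl st0_6_6016 st0_6_6080
theorem st0_7_6144 : allR (guard Pst0 (nat_lit 8120)) 7 (nat_lit 6144) = true := allR_join (mid := nat_lit 6208) rfl st0_6_6144 st0_6_6208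
theorem st0_7_6272 : allR (guard Pst0 (nat_lit 8120)) 7 (nat_lit 6272) = true := allR_join (mid := nat_lit 6336) rfl st0_6_6272 st0_6_6336
theorem st0_7_6400 : allR (guard Pst0 (nat_lit 8120)) 7 (nat_lit 6400) = true := allR_join (mid := nat_lit 6464) rfl st0_6_6400 st0_6_6464
theorem st0_7_6528 : allR (guard Pst0 (nat_lit 8120)) 7 (nat_lit 6528) = true := allR_join (mid := nat_lit 6592) rfl st0_6_6528 st0_6_6592
theorem st0_7_6656 : allR (guard Pst0 (nat_lit 8120)) 7 (nat_lit 6656) = true := allR_join (mid := nat_lit 6720) rfl st0_6_6656 st0_6_6720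
theorem st0_7_6784 : allR (guard Pst0 (nat_lit 8120)) 7 (nat_lit 6784) = true := allR_join (mid := nat_lit 6848) rfl st0_6_6784 st0_6_6848
theorem st0_7_6912 : allR (guard Pst0 (nat_lit 8120)) 7 (nat_lit 6912) = true := allR_join (mid := nat_lit 6976) rfl st0_6_6912 st0_6_6976
theorem st0_7_7040 : allR (guard Pst0 (nat_lit 8120)) 7 (nat_lit 7040) = true := allR_join (mid := nat_lit 7104) rfl st0_6_7040 st0_6_7104
theorem st0_7_7168 : allR (guard Pst0 (nat_lit 8120)) 7 (nat_lit 7168) = true := allR_join (mid := nat_lit 7232) rfl st0_6_7168 st0_6_7232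
theorem st0_7_7296 : allR (guard Pst0 (nat_lit 8120)) 7 (nat_lit 7296) = true := allR_join (mid := nat_lit 7360) rfl st0_6_7296 st0_6_7360
theorem st0_7_7424 : allR (guard Pst0 (nat_lit 8120)) 7 (nat_lit 7424) = true := allR_join (mid := nat_lit 7488) rfl st0_6_7424 st0_6_7488
theorem st0_7_7552 : allR (guard Pst0 (nat_lit 8120)) 7 (nat_lit 7552) = true := allR_join (mid := nat_lit 7616) rfl st0_6_7552 st0_6_7616
theorem st0_7_7680 : allR (guard Pst0 (nat_lit 8120)) 7 (nat_lit 7680) = true := allR_join (mid := nat_lit 7744) rfl st0_6_7680 st0_6_7744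
theorem st0_7_7808 : allR (guard Pst0 (nat_lit 8120)) 7 (nat_lit 7808) = true := allR_join (mid := nat_lit 7872) rfl st0_6_7808 st0_6_7872
theorem st0_7_7936 : allR (guard Pst0 (nat_lit 8120)) 7 (nat_lit 7936) = true := allR_join (mid := nat_lit 8000) rfl st0_6_7936 st0_6_8000
theorem st0_7_8064 : allR (guard Pst0 (nat_lit 8120)) 7 (nat_lit 8064) = true := allR_join (mid := nat_lit 8128) rfl st0_6_8064 st0_6_8128
theorem st0_8_0 : allR (guard Pst0 (nat_lit 8120)) 8 (nat_lit 0) = true := allR_join (mid := nat_lit 128) rfl st0_7_0 st0_7_128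
theorem st0_8_256 : allR (guard Pst0 (nat_lit 8120)) 8 (nat_lit 256) = true := allR_join (mid := nat_lit 384) rfl st0_7_256 st0_7_384
theorem st0_8_512 : allR (guard Pst0 (nat_lit 8120)) 8 (nat_lit 512) = true := allR_join (mid := nat_lit 640) rfl st0_7_512 st0_7_640
theorem st0_8_768 : allR (guard Pst0 (nat_lit 8120)) 8 (nat_lit 768) = true := allR_join (mid := nat_lit 896) rfl st0_7_768 st0_7_896
theorem st0_8_1024 : allR (guard Pst0 (nat_lit 8120)) 8 (nat_lit 1024) = true := allR_join (mid := nat_lit 1152) rfl st0_7_1024 st0_7_1152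
theorem st0_8_1280 : allR (guard Pst0 (nat_lit 8120)) 8 (nat_lit 1280) = true := allR_join (mid := nat_lit 1408) rfl st0_7_1280 st0_7_1408
theorem st0_8_1536 : allR (guard Pst0 (nat_lit 8120)) 8 (nat_lit 1536) = true := allR_join (mid := nat_lit 1664) rfl st0_7_1536 st0_7_1664
theorem st0_8_1792 : allR (guard Pst0 (nat_lit 8120)) 8 (nat_lit 1792) = true := allR_join (mid := nat_lit 1920) rfl st0_7_1792 st0_7_1920
theorem st0_8_2048 : allR (guard Pst0 (nat_lit 8120)) 8 (nat_lit 2048) = true := allR_join (mid := nat_lit 2176) rfl st0_7_2048 st0_7_2176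
theorem st0_8_2304 : allR (guard Pst0 (nat_lit 8120)) 8 (nat_lit 2304) = true := allR_join (mid := nat_lit 2432) rfl st0_7_2304 st0_7_2432
theorem st0_8_2560 : allR (guard Pst0 (nat_lit 8120)) 8 (nat_lit 2560) = true := allR_join (mid := nat_lit 2688) rfl st0_7_2560 st0_7_2688
theorem st0_8_2816 : allR (guard Pst0 (nat_lit 8120)) 8 (nat_lit 2816) = true := allR_join (mid := nat_lit 2944) rfl st0_7_2816 st0_7_2944
theorem st0_8_3072 : allR (guard Pst0 (nat_lit 8120)) 8 (nat_lit 3072) = true := allR_join (mid := nat_lit 3200) rfl st0_7_3072 st0_7_3200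
theorem st0_8_3328 : allR (guard Pst0 (nat_lit 8120)) 8 (nat_lit 3328) = true := allR_join (mid := nat_lit 3456) rfl st0_7_3328 st0_7_3456
theorem st0_8_3584 : allR (guard Pst0 (nat_lit 8120)) 8 (nat_lit 3584) = true := allR_join (mid := nat_lit 3712) rfl st0_7_3584 st0_7_3712
theorem st0_8_3840 : allR (guard Pst0 (nat_lit 8120)) 8 (nat_lit 3840) = true := allR_join (mid := nat_lit 3968) rfl st0_7_3840 st0_7_3968
theorem st0_8_4096 : allR (guard Pst0 (nat_lit 8120)) 8 (nat_lit 4096) = true := allR_join (mid := nat_lit 4224) rfl st0_7_4096 st0_7_4224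
theorem st0_8_4352 : allR (guard Pst0 (nat_lit 8120)) 8 (nat_lit 4352) = true := allR_join (mid := nat_lit 4480) rfl st0_7_4352 st0_7_4480
theorem st0_8_4608 : allR (guard Pst0 (nat_lit 8120)) 8 (nat_lit 4608) = true := allR_join (mid := nat_lit 4736) rfl st0_7_4608 st0_7_4736
theorem st0_8_4864 : allR (guard Pst0 (nat_lit 8120)) 8 (nat_lit 4864) = true := allR_join (mid := nat_lit 4992) rfl st0_7_4864 st0_7_4992
theorem st0_8_5120 : allR (guard Pst0 (nat_lit 8120)) 8 (nat_lit 5120) = true := allR_join (mid := nat_lit 5248) rfl st0_7_5120 st0_7_5248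
theorem st0_8_5376 : allR (guard Pst0 (nat_lit 8120)) 8 (nat_lit 5376) = true := allR_join (mid := nat_lit 5504) rfl st0_7_5376 st0_7_5504
theorem st0_8_5632 : allR (guard Pst0 (nat_lit 8120)) 8 (nat_lit 5632) = true := allR_join (mid := nat_lit 5760) rfl st0_7_5632 st0_7_5760
theorem st0_8_5888 : allR (guard Pst0 (nat_lit 8120)) 8 (nat_lit 5888) = true := allR_join (mid := nat_lit 6016) rfl st0_7_5888 st0_7_6016
theorem st0_8_6144 : allR (guard Pst0 (nat_lit 8120)) 8 (nat_lit 6144) = true := allR_join (mid := nat_lit 6272) rfl st0_7_6144 st0_7_6272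
theorem st0_8_6400 : allR (guard Pst0 (nat_lit 8120)) 8 (nat_lit 6400) = true := allR_join (mid := nat_lit 6528) rfl st0_7_6400 st0_7_6528
theorem st0_8_6656 : allR (guard Pst0 (nat_lit 8120)) 8 (nat_lit 6656) = true := allR_join (mid := nat_lit 6784) rfl st0_7_6656 st0_7_6784
theorem st0_8_6912 : allR (guard Pst0 (nat_lit 8120)) 8 (nat_lit 6912) = true := allR_join (mid := nat_lit 7040) rfl st0_7_6912 st0_7_7040
theorem st0_8_7168 : allR (guard Pst0 (nat_lit 8120)) 8 (nat_lit 7168) = true := allR_join (mid := nat_lit 7296) rfl st0_7_7168 st0_7_7296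
theorem st0_8_7424 : allR (guard Pst0 (nat_lit 8120)) 8 (nat_lit 7424) = true := allR_join (mid := nat_lit 7552) rfl st0_7_7424 st0_7_7552
theorem st0_8_7680 : allR (guard Pst0 (nat_lit 8120)) 8 (nat_lit 7680) = true := allR_join (mid := nat_lit 7808) rfl st0_7_7680 st0_7_7808
theorem st0_8_7936 : allR (guard Pst0 (nat_lit 8120)) 8 (nat_lit 7936) = true := allR_join (mid := nat_lit 8064) rfl st0_7_7936 st0_7_8064
theorem st0_9_0 : allR (guard Pst0 (nat_lit 8120)) 9 (nat_lit 0) = true := allR_join (mid := nat_lit 256) rfl st0_8_0 st0_8_256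
theorem st0_9_512 : allR (guard Pst0 (nat_lit 8120)) 9 (nat_lit 512) = true := allR_join (mid := nat_lit 768) rfl st0_8_512 st0_8_768
theorem st0_9_1024 : allR (guard Pst0 (nat_lit 8120)) 9 (nat_lit 1024) = true := allR_join (mid := nat_lit 1280) rfl st0_8_1024 st0_8_1280
theorem st0_9_1536 : allR (guard Pst0 (nat_lit 8120)) 9 (nat_lit 1536) = true := allR_join (mid := nat_lit 1792) rfl st0_8_1536 st0_8_1792
theorem st0_9_2048 : allR (guard Pst0 (nat_lit 8120)) 9 (nat_lit 2048) = true := allR_join (mid := nat_lit 2304) rfl st0_8_2048 st0_8_2304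
theorem st0_9_2560 : allR (guard Pst0 (nat_lit 8120)) 9 (nat_lit 2560) = true := allR_join (mid := nat_lit 2816) rfl st0_8_2560 st0_8_2816
theorem st0_9_3072 : allR (guard Pst0 (nat_lit 8120)) 9 (nat_lit 3072) = true := allR_join (mid := nat_lit 3328) rfl st0_8_3072 st0_8_3328
theorem st0_9_3584 : allR (guard Pst0 (nat_lit 8120)) 9 (nat_lit 3584) = true := allR_join (mid := nat_lit 3840) rfl st0_8_3584 st0_8_3840
theorem st0_9_4096 : allR (guard Pst0 (nat_lit 8120)) 9 (nat_lit 4096) = true := allR_join (mid := nat_lit 4352) rfl st0_8_4096 st0_8_4352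
theorem st0_9_4608 : allR (guard Pst0 (nat_lit 8120)) 9 (nat_lit 4608) = true := allR_join (mid := nat_lit 4864) rfl st0_8_4608 st0_8_4864
theorem st0_9_5120 : allR (guard Pst0 (nat_lit 8120)) 9 (nat_lit 5120) = true := allR_join (mid := nat_lit 5376) rfl st0_8_5120 st0_8_5376
theorem st0_9_5632 : allR (guard Pst0 (nat_lit 8120)) 9 (nat_lit 5632) = true := allR_join (mid := nat_lit 5888) rfl st0_8_5632 st0_8_5888
theorem st0_9_6144 : allR (guard Pst0 (nat_lit 8120)) 9 (nat_lit 6144) = true := allR_join (mid := nat_lit 6400) rfl st0_8_6144 st0_8_6400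
theorem st0_9_6656 : allR (guard Pst0 (nat_lit 8120)) 9 (nat_lit 6656) = true := allR_join (mid := nat_lit 6912) rfl st0_8_6656 st0_8_6912
theorem st0_9_7168 : allR (guard Pst0 (nat_lit 8120)) 9 (nat_lit 7168) = true := allR_join (mid := nat_lit 7424) rfl st0_8_7168 st0_8_7424
theorem st0_9_7680 : allR (guard Pst0 (nat_lit 8120)) 9 (nat_lit 7680) = true := allR_join (mid := nat_lit 7936) rfl st0_8_7680 st0_8_7936
theorem st0_10_0 : allR (guard Pst0 (nat_lit 8120)) 10 (nat_lit 0) = true := allR_join (mid := nat_lit 512) rfl st0_9_0 st0_9_512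
theorem st0_10_1024 : allR (guard Pst0 (nat_lit 8120)) 10 (nat_lit 1024) = true := allR_join (mid := nat_lit 1536) rfl st0_9_1024 st0_9_1536
theorem st0_10_2048 : allR (guard Pst0 (nat_lit 8120)) 10 (nat_lit 2048) = true := allR_join (mid := nat_lit 2560) rfl st0_9_2048 st0_9_2560
theorem st0_10_3072 : allR (guard Pst0 (nat_lit 8120)) 10 (nat_lit 3072) = true := allR_join (mid := nat_lit 3584) rfl st0_9_3072 st0_9_3584
theorem st0_10_4096 : allR (guard Pst0 (nat_lit 8120)) 10 (nat_lit 4096) = true := allR_join (mid := nat_lit 4608) rfl st0_9_4096 st0_9_4608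
theorem st0_10_5120 : allR (guard Pst0 (nat_lit 8120)) 10 (nat_lit 5120) = true := allR_join (mid := nat_lit 5632) rfl st0_9_5120 st0_9_5632
theorem st0_10_6144 : allR (guard Pst0 (nat_lit 8120)) 10 (nat_lit 6144) = true := allR_join (mid := nat_lit 6656) rfl st0_9_6144 st0_9_6656
theorem st0_10_7168 : allR (guard Pst0 (nat_lit 8120)) 10 (nat_lit 7168) = true := allR_join (mid := nat_lit 7680) rfl st0_9_7168 st0_9_7680
theorem st0_11_0 : allR (guard Pst0 (nat_lit 8120)) 11 (nat_lit 0) = true := allR_join (mid := nat_lit 1024) rfl st0_10_0 st0_10_1024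
theorem st0_11_2048 : allR (guard Pst0 (nat_lit 8120)) 11 (nat_lit 2048) = true := allR_join (mid := nat_lit 3072) rfl st0_10_2048 st0_10_3072
theorem st0_11_4096 : allR (guard Pst0 (nat_lit 8120)) 11 (nat_lit 4096) = true := allR_join (mid := nat_lit 5120) rfl st0_10_4096 st0_10_5120
theorem st0_11_6144 : allR (guard Pst0 (nat_lit 8120)) 11 (nat_lit 6144) = true := allR_join (mid := nat_lit 7168) rfl st0_10_6144 st0_10_7168
theorem st0_12_0 : allR (guard Pst0 (nat_lit 8120)) 12 (nat_lit 0) = true := allR_join (mid := nat_lit 2048) rfl st0_11_0 st0_11_2048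
theorem st0_12_4096 : allR (guard Pst0 (nat_lit 8120)) 12 (nat_lit 4096) = true := allR_join (mid := nat_lit 6144) rfl st0_11_4096 st0_11_6144
theorem st0_13_0 : allR (guard Pst0 (nat_lit 8120)) 13 (nat_lit 0) = true := allR_join (mid := nat_lit 4096) rfl st0_12_0 st0_12_4096
theorem st0_all : ∀ i, i < (nat_lit 8120) → Pst0 i = true := of_guard (k := 13) (by norm_num) st0_13_0

end Cfsg.Agent.Lib.RuPSt0
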