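import Cfsg.Agent.Lib.RuPChk
import Cfsg.Agent.Lib.RuPSt0
import Cfsg.Agent.Lib.RuPSt1
import Cfsg.Agent.Lib.RuPSt2
import Cfsg.Agent.Lib.RuPSt3
import Cfsg.Agent.Lib.RuPSt4
import Cfsg.Agent.Lib.RuPSt5
import Cfsg.Agent.Lib.RuPSt6
import Cfsg.Agent.Lib.RuPSt7
import Cfsg.Agent.Lib.RuPSt8
import Cfsg.Agent.Lib.RuPSt9

set_option autoImplicit false
set_option maxRecDepth 100000
set_option linter.unusedSectionVars false

/-! Generated file: the chain and the order of the group. -/

namespace Cfsg.Agent.Lib.RuPMain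

open Cfsg.Agent.Lib.ChainCert Cfsg.Agent.Lib.ProgBits Cfsg.Agent.Lib.ProgChain Cfsg.Agent.Lib.PermChain Cfsg.Agent.Lib.TcBits
open Cfsg.Agent.Lib.RuPTab
open Cfsg.Agent.Lib.RuPChk Cfsg.Agent.Lib.RuPSt0 Cfsg.Agent.Lib.RuPSt1 Cfsg.Agent.Lib.RuPSt2 Cfsg.Agent.Lib.RuPSt3 Cfsg.Agent.Lib.RuPSt4 Cfsg.Agent.Lib.RuPSt5 Cfsg.Agent.Lib.RuPSt6 Cfsg.Agent.Lib.RuPSt7 Cfsg.Agent.Lib.RuPSt8 Cfsg.Agent.Lib.RuPSt9

theorem hN : nat_lit 4096 = 2 ^ 12 := by norm_num
theorem hM : M = 2 ^ 4060 - 1 := by decide +kernel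
theorem hR : R = repU 4096 12 := by decide +kernel
theorem hY : Y = yId 12 := by decide +kernel
theorem htot : ∀ e, 264 ≤ e → pr e = [] := by
  intro e he
  rw [pr, show Nat.ble ((nat_lit 264)) e = true from Nat.ble_eq_true_of_le he]
  rfl

/-- the context -/
theorem ctx : Ctx 4060 12 pr R Y :=
  ctx_mk' (N := (nat_lit 4096)) (M := M) (tot := 264) (by norm_num) hN hM hR hY let_all htot

/-- the letters -/
noncomputable abbrev g : ℕ → Equiv.Perm (Fin 4060) := lp pr 4060

theorem hOb9 : Om9.testBit 1 = true := by decide +kernel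
theorem hroot9 : tw9 1 = [] := by decide +kernel
theorem lev9 : (∀ e, 262 ≤ e → g e ∈ grp g 262 2) ∧
    Level (grp g 262 2) (grp g 264 0) ⟨1, by norm_num⟩
      (fun p => prodW g (tw9 p.val)) (orbF 4060 Om9) :=
  level_bundle ctx (lo := 262) (ns := 2) (hi := 264) (ns' := 0) (b := 1) (Om := Om9) (tw := tw9) (st := stE9) (der := derT) (wA := certA) (wB := certB) (by norm_num)
    der9_all cert9_all fix9_all img9_all hOb9 hroot9 st9_all (letters_bottom ctx htot)
theorem cOm9 : (orbF 4060 Om9).card = 2 := by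
  rw [card_orbF]; decide +kernel
theorem hOb8 : Om8.testBit 10 = true := by decide +kernel
theorem hroot8 : tw8 10 = [] := by decide +kernel
theorem lev8 : (∀ e, 259 ≤ e → g e ∈ grp g 259 3) ∧
    Level (grp g 259 3) (grp g 262 2) ⟨10, by norm_num⟩
      (fun p => prodW g (tw8 p.val)) (orbF 4060 Om8) :=
  level_bundle ctx (lo := 259) (ns := 3) (hi := 262) (ns' := 2) (b := 10) (Om := Om8) (tw := tw8) (st := stE8) (der := derT) (wA := certA) (wB := certB) (by norm_num)
    der8_all cert8_all fix8_all img8_all hOb8 hroot8 st8_all (lev9).1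
theorem cOm8 : (orbF 4060 Om8).card = 4 := by
  rw [card_orbF]; decide +kernel
theorem hOb7 : Om7.testBit 202 = true := by decide +kernel
theorem hroot7 : tw7 202 = [] := by decide +kernel
theorem lev7 : (∀ e, 256 ≤ e → g e ∈ grp g 256 3) ∧
    Level (grp g 256 3) (grp g 259 3) ⟨202, by norm_num⟩
      (fun p => prodW g (tw7 p.val)) (orbF 4060 Om7) :=
  level_bundle ctx (lo := 256) (ns := 3) (hi := 259) (ns' := 3) (b := 202) (Om := Om7) (tw := tw7) (st := stE7) (der := derT) (wA := certA) (wB := certB) (by norm_num)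
    der7_all cert7_all fix7_all img7_all hOb7 hroot7 st7_all (lev8).1
theorem cOm7 : (orbF 4060 Om7).card = 2 := by
  rw [card_orbF]; decide +kernel
theorem hOb6 : Om6.testBit 15 = true := by decide +kernel
theorem hroot6 : tw6 15 = [] := by decide +kernel
theorem lev6 : (∀ e, 251 ≤ e → g e ∈ grp g 251 5) ∧
    Level (grp g 251 5) (grp g 256 3) ⟨15, by norm_num⟩
      (fun p => prodW g (tw6 p.val)) (orbF 4060 Om6) :=
  level_bundle ctx (lo := 251) (ns := 5) (hi := 256) (ns' := 3) (b := 15) (Om := Om6) (tw := tw6) (st := stE6) (der := derT) (wA := certA) (wB := certB) (by norm_num)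
    der6_all cert6_all fix6_all img6_all hOb6 hroot6 st6_all (lev7).1
theorem cOm6 : (orbF 4060 Om6).card = 4 := by
  rw [card_orbF]; decide +kernel
theorem hOb5 : Om5.testBit 1437 = true := by decide +kernel
theorem hroot5 : tw5 1437 = [] := by decide +kernel
theorem lev5 : (∀ e, 247 ≤ e → g e ∈ grp g 247 4) ∧
    Level (grp g 247 4) (grp g 251 5) ⟨1437, by norm_num⟩
      (fun p => prodW g (tw5 p.val)) (orbF 4060 Om5) :=
  level_bundle ctx (lo := 247) (ns := 4) (hi := 251) (ns' := 5) (b := 1437) (Om := Om5) (tw := tw5) (st := stE5) (der := derT) (wA := certA) (wB := certB) (by norm_num)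
    der5_all cert5_all fix5_all img5_all hOb5 hroot5 st5_all (lev6).1
theorem cOm5 : (orbF 4060 Om5).card = 2 := by
  rw [card_orbF]; decide +kernel
theorem hOb4 : Om4.testBit 572 = true := by decide +kernel
theorem hroot4 : tw4 572 = [] := by decide +kernel
theorem lev4 : (∀ e, 244 ≤ e → g e ∈ grp g 244 3) ∧
    Level (grp g 244 3) (grp g 247 4) ⟨572, by norm_num⟩
      (fun p => prodW g (tw4 p.val)) (orbF 4060 Om4) :=
  level_bundle ctx (lo := 244) (ns := 3) (hi := 247) (ns' := 4) (b := 572) (Om := Om4) (tw := tw4) (st := stE4) (der := derT) (wA := certA) (wB := certB) (by norm_num)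
    der4_all cert4_all fix4_all img4_all hOb4 hroot4 st4_all (lev5).1
theorem cOm4 : (orbF 4060 Om4).card = 2 := by
  rw [card_orbF]; decide +kernel
theorem hOb3 : Om3.testBit 551 = true := by decide +kernel
theorem hroot3 : tw3 551 = [] := by decide +kernel
theorem lev3 : (∀ e, 238 ≤ e → g e ∈ grp g 238 3) ∧
    Level (grp g 238 3) (grp g 244 3) ⟨551, by norm_num⟩
      (fun p => prodW g (tw3 p.val)) (orbF 4060 Om3) :=
  level_bundle ctx (lo := 238) (ns := 3) (hi := 244) (ns' := 3) (b := 551) (Om := Om3) (tw := tw3) (st := stE3) (der := derT) (wA := certA) (wB := certB) (by norm_num)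
    der3_all cert3_all fix3_all img3_all hOb3 hroot3 st3_all (lev4).1
theorem cOm3 : (orbF 4060 Om3).card = 8 := by
  rw [card_orbF]; decide +kernel
theorem hOb2 : Om2.testBit 411 = true := by decide +kernel
theorem hroot2 : tw2 411 = [] := by decide +kernel
theorem lev2 : (∀ e, 232 ≤ e → g e ∈ grp g 232 2) ∧
    Level (grp g 232 2) (grp g 238 3) ⟨411, by norm_num⟩
      (fun p => prodW g (tw2 p.val)) (orbF 4060 Om2) :=
  level_bundle ctx (lo := 232) (ns := 2) (hi := 238) (ns' := 3) (b := 411) (Om := Om2) (tw := tw2) (st := stE2) (der := derT) (wA := certA) (wB := certB) (by norm_num)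
    der2_all cert2_all fix2_all img2_all hOb2 hroot2 st2_all (lev3).1
theorem cOm2 : (orbF 4060 Om2).card = 10 := by
  rw [card_orbF]; decide +kernel
theorem hOb1 : Om1.testBit 2 = true := by decide +kernel
theorem hroot1 : tw1 2 = [] := by decide +kernel
theorem lev1 : (∀ e, 140 ≤ e → g e ∈ grp g 140 2) ∧
    Level (grp g 140 2) (grp g 232 2) ⟨2, by norm_num⟩
      (fun p => prodW g (tw1 p.val)) (orbF 4060 Om1) :=
  level_bundle ctx (lo := 140) (ns := 2) (hi := 232) (ns' := 2) (b := 2) (Om := Om1) (tw := tw1) (st := stE1) (der := derT) (wA := certA) (wB := certB) (by norm_num)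
    der1_all cert1_all fix1_all img1_all hOb1 hroot1 st1_all (lev2).1
theorem cOm1 : (orbF 4060 Om1).card = 1755 := by
  rw [card_orbF]; decide +kernel
theorem hOb0 : Om0.testBit 0 = true := by decide +kernel
theorem hroot0 : tw0 0 = [] := by decide +kernel
theorem lev0 : (∀ e, 0 ≤ e → g e ∈ grp g 0 2) ∧
    Level (grp g 0 2) (grp g 140 2) ⟨0, by norm_num⟩
      (fun p => prodW g (tw0 p.val)) (orbF 4060 Om0) :=
  level_bundle ctx (lo := 0) (ns := 2) (hi := 140) (ns' := 2) (b := 0) (Om := Om0) (tw := tw0) (st := stE0) (der := derT) (wA := certA) (wB := certB) (by norm_num)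
    der0_all cert0_all fix0_all img0_all hOb0 hroot0 st0_all (lev1).1
theorem cOm0 : (orbF 4060 Om0).card = 4060 := by
  rw [card_orbF]; decide +kernel
theorem cardH10 : Nat.card (grp g 264 0) = 1 := by
  rw [grp_zero]; simp
theorem cardH9 : Nat.card (grp g 262 2) = 2 := by
  rw [(lev9).2.card, cOm9, cardH10]
theorem cardH8 : Nat.card (grp g 259 3) = 8 := by
  rw [(lev8).2.card, cOm8, cardH9]
theorem cardH7 : Nat.card (grp g 256 3) = 16 := by
  rw [(lev7).2.card, cOm7, cardH8]
theorem cardH6 : Nat.card (grp g 251 5) = 64 := by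
  rw [(lev6).2.card, cOm6, cardH7]
theorem cardH5 : Nat.card (grp g 247 4) = 128 := by
  rw [(lev5).2.card, cOm5, cardH6]
theorem cardH4 : Nat.card (grp g 244 3) = 256 := by
  rw [(lev4).2.card, cOm4, cardH5]
theorem cardH3 : Nat.card (grp g 238 3) = 2048 := by
  rw [(lev3).2.card, cOm3, cardH4]
theorem cardH2 : Nat.card (grp g 232 2) = 20480 := by
  rw [(lev2).2.card, cOm2, cardH3]
theorem cardH1 : Nat.card (grp g 140 2) = 35942400 := by
  rw [(lev1).2.card, cOm1, cardH2]
theorem cardH0 : Nat.card (grp g 0 2) = 145926144000 := by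
  rw [(lev0).2.card, cOm0, cardH1]

theorem hOm : Om0 = 2 ^ 4060 - 1 := by decide +kernel
theorem hsz : ∀ c, c < 3 → cntB (fun i => Nat.beq (colT i) c) 4060 = szT c := by decide +kernel
theorem hsums : ∀ S ∈ (Finset.range 3).powerset, 0 ∈ S →
      (∑ c ∈ S, szT c) ∣ 4060 → (∑ c ∈ S, szT c) = 1 ∨ (∑ c ∈ S, szT c) = 4060 := by decide +kernel
theorem hb0 : colT 0 = 0 := by decide +kernel
/-- the conjugating word -/
def Wc : List ℕ := [83, 38, 180, 161, 237, 232, 240, 239, 245, 252, 257, 260, 263]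
theorem hconj : ProgBits.wChk R Y pr (Wc ++ [0]) (1 :: Wc) = true := by decide +kernel
theorem hap : ProgBits.wChk R Y pr (List.replicate 29 0) [] = true := by decide +kernel
theorem huv : ptChk pr [0] 658 0 = true := by decide +kernel

/-- the group is simple -/
theorem simple_top : IsSimpleGroup (grp g 0 2) :=
  simple_bundle ctx (lo1 := 140) (ns1 := 2) (r := 3) (p := 29) (b := 0) (by norm_num)
    (lev0).2 hOm (lev0).1 (lev1).1 tree_all colc_all hb0 hsz hsums (by norm_num)
    (by rw [cardH1]; norm_num) hconj hap (u := ⟨0, by norm_num⟩) (v := ⟨658, by norm_num⟩) huv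
    (by decide)

end Cfsg.Agent.Lib.RuPMain
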