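import Cfsg.Agent.Lib.RuRkW2
import Cfsg.Agent.Lib.RuRkP7

/-!
# Rank three recognition of the Rudvalis group: the sets orthogonal to the vectors
-/

set_option autoImplicit false
set_option maxRecDepth 100000
set_option linter.unusedSectionVars false
set_option linter.unusedVariables false
set_option linter.style.longLine false

namespace Cfsg.Agent.Lib.RuRkX4

open Finset Cfsg.Agent.Lib.RuRkDat Cfsg.Agent.Lib.RuRkW Cfsg.Agent.Lib.RuRkW2 Cfsg.Agent.Lib.RuRkP7

/-- a relation modulo `128`: the weights, and the coefficients in the vectors -/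
abbrev Chk := List (ℕ × ℕ) × List ℕ


/-- the order of the variables -/
def ordL : List ℕ := [0, 1, 2, 3, 4, 5, 6, 7, 21, 8, 9, 10, 12, 11, 39, 13, 14, 40, 15, 16, 25, 17, 27, 18, 23, 31, 41, 19, 20, 33, 35, 37, 38, 22, 24, 26, 28, 29, 30, 32, 34, 36]
/-- the inverse order -/
def posL : List ℕ := [0, 1, 2, 3, 4, 5, 6, 7, 9, 10, 11, 13, 12, 15, 16, 18, 19, 21, 23, 27, 28, 8, 33, 24, 34, 20, 35, 22, 36, 37, 38, 25, 39, 29, 40, 30, 41, 31, 32, 14, 17, 26]
/-- the scale of the relations -/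
def s0 : ℕ := 52
/-- the solutions in the new order -/
def solsN : List ℕ := [0, 104700406765, 108859025535, 109431227486, 653603109357, 988390319009, 992548937779, 1204738587117, 1205310789068, 1268367024755, 1523228188642, 1759066058874, 1813111108577, 1815426859928, 2582619651175, 2584935402526, 2638980452229, 2874818322461, 3129679486348, 3192735722035, 3193307923986, 3405497573324, 3409656192094, 3744443401746, 4288615283617, 4289187485568, 4293346104338, 4398046511103]
/-- the sizes of the orbits in the new order -/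
def nL : List (ℕ × ℕ) := [(0,52), (1,52), (2,52), (3,52), (4,52), (5,52), (6,52), (7,26), (8,26), (9,52), (10,52), (11,52), (12,52), (13,26), (14,26), (15,52), (16,52), (17,52), (18,52), (19,26), (20,52), (21,52), (22,13), (23,52), (24,13), (25,26), (26,13), (27,52), (28,26), (29,52), (30,52), (31,52), (32,26), (33,26), (34,52), (35,26), (36,26), (37,26), (38,52), (39,52), (40,52), (41,52)]
/-- the relations modulo `128`, with their coefficients in the vectors -/
def Etab : List (List Chk) := [[], [], [], [], [], [([(0,127), (1,127), (2,1), (3,127), (4,1), (5,1)], [0, 0, 0, 0, 0, 0, 0, 0, 0, 0, 0, 0, 0, 0, 0, 0, 0, 0, 0, 0, 0, 0, 1])], [], [], [([(7,64), (8,64)], [0, 32, 0, 0, 0, 0, 0, 0, 0, 0, 0, 0, 0, 0, 0, 0, 0, 0, 0, 0, 32, 0, 0])], [], [], [], [([(6,64), (7,64), (9,64), (10,64), (11,64), (12,64)], [0, 0, 0, 0, 0, 0, 0, 0, 0, 0, 0, 0, 0, 0, 0, 0, 0, 0, 0, 0, 0, 64, 0])], [([(0,126), (1,126), (3,126), (4,2), (6,65), (7,65), (9,63), (10,65), (11,65), (12,63),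 (13,2)], [0, 0, 0, 0, 0, 0, 0, 0, 0, 0, 0, 0, 0, 0, 0, 0, 0, 0, 0, 0, 0, 63, 0])], [([(13,64), (14,64)], [0, 64, 64, 0, 0, 0, 0, 0, 0, 0, 0, 0, 0, 0, 0, 0, 0, 0, 0, 0, 0, 0, 0])], [], [], [([(2,120), (3,4), (6,4), (7,126), (8,2), (11,4), (15,124), (16,124), (17,4)], [0, 1, 0, 0, 0, 0, 0, 0, 0, 0, 0, 0, 0, 0, 0, 0, 0, 0, 0, 0, 1, 0, 0])], [], [], [([(0,64), (1,64), (3,64), (6,64), (10,64), (13,96), (14,32), (16,64), (19,64), (20,64)], [0, 0, 32, 0, 0, 0, 0, 0, 0, 0, 0, 0, 0, 0, 0, 0, 96, 0, 0, 0, 0, 0, 0])], [([(0,62), (1,62), (2,4), (3,62), (6,66), (10,62), (11,124), (13,95), (14,33), (15,4), (16,62), (19,66), (20,62), (21,4)], [0, 0, 33, 0, 0, 0, 0, 0, 0, 0, 0, 0, 0, 0, 0, 0, 95, 0, 0, 0, 0, 0, 0])], [([(0,2), (1,2), (2,127), (3,2), (4,127), (6,127), (7,1), (10,1), (11,127), (13,127), (15,127), (18,127), (19,127), (21,127), (22,1)], [0, 0, 0, 0, 0, 0, 0, 0, 0, 0, 0, 0, 0, 0, 1, 0, 0, 0, 0, 0, 0, 0, 0])], [([(2,124), (4,2), (6,2), (10,2), (11,4), (13,65),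 (14,61), (15,124), (17,4), (18,126), (19,126), (21,126), (23,2)], [0, 65, 61, 0, 0, 0, 0, 0, 0, 0, 0, 0, 0, 0, 0, 0, 0, 0, 0, 0, 0, 0, 0])], [([(2,64), (4,64), (6,64), (7,64), (10,64), (11,64), (13,64), (15,64), (18,64), (19,64), (21,64), (24,64)], [0, 64, 0, 0, 0, 0, 0, 0, 0, 0, 0, 0, 0, 0, 0, 0, 0, 0, 64, 0, 0, 0, 0])], [([(0,2), (1,2), (2,21), (3,2), (4,19), (6,21), (7,63), (10,21), (11,105), (13,105), (15,21), (17,44), (18,105), (19,106), (21,107), (23,86), (24,65), (25,1)], [0, 107, 0, 0, 0, 0, 0, 0, 0, 0, 2, 0, 0, 0, 0, 0, 0, 0, 65, 0, 0, 0, 0])], [([(0,2), (1,2), (2,125), (3,2), (4,127), (6,127), (7,1), (10,1), (11,1), (13,1), (15,125), (18,127), (19,64), (21,125), (25,65), (26,1)], [1, 0, 0, 0, 0, 0, 0, 0, 0, 0, 130, 0, 0, 0, 0, 0, 0, 0, 0, 0, 0, 0, 0])], [([(1,2), (2,127), (4,127), (6,127), (7,3), (10,1), (11,127), (13,3), (15,125), (18,125), (19,1), (21,125), (26,1), (27,2)], [1, 0, 0, 0, 0, 0, 0, 0, 0, 0, 0, 0, 0, 0, 0, 0, 0, 0, 0, 0, 0, 0, 0])],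 [([(0,1), (2,45), (4,42), (6,42), (7,127), (10,41), (11,84), (13,83), (15,45), (16,1), (17,84), (18,87), (19,85), (21,87), (23,42), (27,127), (28,1)], [0, 85, 0, 0, 0, 0, 0, 0, 0, 0, 0, 0, 0, 0, 0, 0, 0, 0, 0, 0, 0, 0, 0])], [([(0,9), (1,2), (2,121), (3,10), (4,126), (7,119), (9,2), (10,125), (11,6), (13,117), (15,1), (16,1), (18,9), (19,125), (21,1), (23,124), (27,121), (28,3), (29,2)], [0, 0, 0, 0, 0, 0, 0, 0, 1, 0, 0, 0, 0, 0, 0, 0, 0, 0, 0, 0, 0, 0, 0])], [([(0,3), (1,2), (2,125), (3,4), (4,126), (7,125), (10,125), (11,2), (13,123), (15,1), (16,1), (18,5), (19,127), (21,1), (23,126), (27,125), (28,1), (30,2)], [0, 0, 0, 0, 0, 0, 1, 0, 0, 0, 0, 0, 0, 0, 0, 0, 0, 0, 0, 0, 0, 0, 0])], [([(0,127), (2,1), (3,126), (4,126), (7,1), (10,1), (11,126), (13,3), (15,127), (16,127), (18,125), (19,1), (21,127), (23,2), (27,3), (28,127), (31,2)], [0, 0, 0, 0, 1, 0, 0, 0, 0, 0, 0, 0, 0, 0, 0, 0, 0, 0, 0, 0, 0, 0, 0])], [([(0,125), (2,5), (3,124), (4,126), (6,126), (7,3),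 (10,1), (11,124), (13,3), (15,1), (16,1), (18,123), (19,1), (21,127), (23,2), (27,3), (28,127), (32,2)], [0, 0, 0, 1, 0, 0, 0, 0, 0, 0, 0, 0, 0, 0, 0, 0, 0, 0, 0, 0, 0, 0, 0])], [([(0,3), (2,115), (3,8), (4,2), (6,2), (7,125), (10,3), (11,12), (13,1), (15,119), (16,127), (18,5), (19,127), (21,121), (23,126), (27,125), (28,127), (33,4)], [0, 0, 0, 0, 0, 0, 0, 0, 0, 0, 0, 0, 0, 0, 0, 0, 0, 0, 0, 1, 0, 0, 0])], [([(0,121), (2,5), (3,124), (4,126), (6,2), (7,7), (9,124), (10,1), (11,120), (13,7), (15,1), (16,125), (18,119), (19,1), (21,3), (23,2), (27,7), (28,125), (34,4)], [0, 0, 0, 0, 0, 0, 0, 0, 0, 0, 0, 0, 0, 0, 0, 0, 0, 1, 0, 0, 0, 0, 0])], [([(0,5), (1,4), (2,1), (3,4), (4,122), (6,126), (7,119), (9,4), (10,121), (13,119), (15,5), (16,1), (18,7), (19,1), (21,3), (23,126), (27,123), (28,1), (35,4)], [0, 0, 0, 0, 0, 0, 0, 0, 0, 0, 0, 0, 0, 0, 0, 1, 0, 0, 0, 0, 0, 0, 0])], [([(0,5), (1,4), (2,121), (3,4), (4,122), (6,126), (7,127), (9,4), (10,1), (13,127),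 (15,125), (16,1), (18,127), (19,1), (21,123), (23,126), (27,3), (28,1), (36,4)], [0, 0, 0, 0, 0, 0, 0, 0, 0, 0, 0, 0, 0, 1, 0, 0, 0, 0, 0, 0, 0, 0, 0])], [([(0,111), (1,120), (2,7), (3,112), (4,10), (6,2), (7,17), (9,120), (10,7), (11,124), (13,21), (15,123), (16,123), (18,113), (19,3), (21,125), (23,6), (27,9), (28,123), (37,4)], [0, 0, 0, 0, 0, 0, 0, 0, 0, 0, 0, 0, 1, 0, 0, 0, 0, 0, 0, 0, 0, 0, 0])], [([(0,127), (1,124), (2,3), (4,2), (6,2), (7,125), (10,127), (13,125), (15,3), (16,127), (18,1), (19,127), (21,1), (23,2), (27,125), (28,127), (38,4)], [0, 0, 0, 0, 0, 0, 0, 0, 0, 0, 0, 1, 0, 0, 0, 0, 0, 0, 0, 0, 0, 0, 0])], [([(0,125), (1,4), (2,9), (3,124), (4,122), (6,126), (7,7), (10,1), (11,116), (13,7), (15,1), (16,125), (18,115), (19,5), (21,127), (23,2), (27,7), (28,125), (39,4)], [0, 0, 0, 0, 0, 0, 0, 0, 0, 1, 0, 0, 0, 0, 0, 0, 0, 0, 0, 0, 0, 0, 0])], [([(0,3), (1,4), (2,123), (3,4), (4,122), (6,126), (7,1), (10,3), (13,1), (15,123), (16,127), (18,125),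 (19,127), (21,125), (23,2), (27,5), (28,127), (40,4)], [0, 0, 0, 0, 0, 0, 0, 1, 0, 0, 0, 0, 0, 0, 0, 0, 0, 0, 0, 0, 0, 0, 0])], [([(0,127), (1,8), (2,127), (4,122), (6,126), (7,9), (10,3), (11,120), (13,9), (15,123), (16,127), (18,117), (19,3), (21,121), (23,2), (27,9), (28,123), (41,4)], [0, 0, 0, 0, 0, 1, 0, 0, 0, 0, 0, 0, 0, 0, 0, 0, 0, 0, 0, 0, 0, 0, 0])]]


/-- the relation holds at the mask -/
def satQ (M : ℕ) (q : Chk) : Bool := Nat.beq (Nat.mod (evalS M q.1) 128) 0

/-- bit-by-bit search -/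
def goQ (E : ℕ → List Chk) (Sol : List ℕ) : ℕ → ℕ → ℕ → Bool
  | 0, _, m => Sol.contains m
  | f + 1, k, m =>
      (!(E k).all (satQ m) || goQ E Sol f (k + 1) m) &&
        (!(E k).all (satQ (m + 2 ^ k)) || goQ E Sol f (k + 1) (m + 2 ^ k))

theorem satQ_congr {M₁ M₂ : ℕ} {q : Chk}
    (h : ∀ p ∈ q.1, Nat.testBit M₁ p.1 = Nat.testBit M₂ p.1) : satQ M₁ q = satQ M₂ q := by
  unfold satQ
  rw [evalS_congr h]

theorem mod_succ' (M k : ℕ) :
    M % 2 ^ (k + 1) = M % 2 ^ k ∨ M % 2 ^ (k + 1) = M % 2 ^ k + 2 ^ k := by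
  rw [Nat.mod_pow_succ]
  have h : (M / 2 ^ k) % 2 = 0 ∨ (M / 2 ^ k) % 2 = 1 := by omega
  rcases h with h | h
  · left
    rw [h]
    simp
  · right
    rw [h]
    simp

theorem goQ_aux (E : ℕ → List Chk) (Sol : List ℕ)
    (hE : ∀ d, ∀ q ∈ E d, ∀ p ∈ q.1, p.1 ≤ d) {N M : ℕ} (hM : M < 2 ^ N)
    (hsat : ∀ d < N, ∀ q ∈ E d, satQ M q = true) :
    ∀ (f k : ℕ), k + f = N → goQ E Sol f k (M % 2 ^ k) = true → M ∈ Sol := by
  intro f
  induction f with
  | zero =>
    intro k hk h
    have hk' : k = N := by omega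
    subst hk'
    rw [goQ, Nat.mod_eq_of_lt hM] at h
    simpa using h
  | succ f ih =>
    intro k hk h
    have hkN : k < N := by omega
    have hall : ∀ m', m' = M % 2 ^ (k + 1) → (E k).all (satQ m') = true := by
      rintro m' rfl
      rw [List.all_eq_true]
      intro q hq
      rw [satQ_congr (M₂ := M), hsat k hkN q hq]
      intro p hp
      have hp' := hE k q hq p hp
      rw [Nat.testBit_mod_two_pow]
      have : p.1 < k + 1 := by omega
      simp [this]
    rw [goQ, Bool.and_eq_true, Bool.or_eq_true, Bool.or_eq_true] at h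
    apply ih (k + 1) (by omega)
    rcases mod_succ' M k with he | he
    · rcases h.1 with h1 | h1
      · rw [hall _ he.symm] at h1
        exact absurd h1 (by decide)
      · rw [he]
        exact h1
    · rcases h.2 with h1 | h1
      · rw [hall _ he.symm] at h1
        exact absurd h1 (by decide)
      · rw [he]
        exact h1

theorem goQ_spec (E : ℕ → List Chk) (Sol : List ℕ) (N : ℕ)
    (hE : ∀ d, ∀ q ∈ E d, ∀ p ∈ q.1, p.1 ≤ d) :
    goQ E Sol N 0 0 = true →
      ∀ M, M < 2 ^ N → (∀ d < N, ∀ q ∈ E d, satQ M q = true) → M ∈ Sol := by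
  intro h M hM hsat
  refine goQ_aux E Sol hE hM hsat N 0 (by omega) ?_
  have : M % 2 ^ 0 = 0 := by simp [Nat.mod_one]
  rw [this]
  exact h

/-- the relations -/
def EE (d : ℕ) : List Chk := Etab.getD d []

theorem chk_go : goQ EE solsN 42 0 0 = true := by decide +kernel

/-- the new index to the old one -/
def ord (l : ℕ) : ℕ := ordL.getD l 99
/-- the old index to the new one -/
def pos (j : ℕ) : ℕ := posL.getD j 99

theorem chk_pos : (List.range 42).all (fun j => and (Nat.blt (pos j) 42) (Nat.beq (ord (pos j)) j)) = true := by decide +kernel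
theorem chk_ord : (List.range 42).all (fun l => and (Nat.blt (ord l) 42) (Nat.beq (pos (ord l)) l)) = true := by decide +kernel

theorem pos_lt {j : ℕ} (hj : j < 42) : pos j < 42 := by
  have h := List.all_eq_true.1 chk_pos j (List.mem_range.2 hj)
  rw [Bool.and_eq_true] at h
  exact Nat.le_of_ble_eq_true h.1

theorem ord_pos {j : ℕ} (hj : j < 42) : ord (pos j) = j := by
  have h := List.all_eq_true.1 chk_pos j (List.mem_range.2 hj)
  rw [Bool.and_eq_true] at h
  exact Nat.eq_of_beq_eq_true h.2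

theorem ord_lt {l : ℕ} (hl : l < 42) : ord l < 42 := by
  have h := List.all_eq_true.1 chk_ord l (List.mem_range.2 hl)
  rw [Bool.and_eq_true] at h
  exact Nat.le_of_ble_eq_true h.1

theorem pos_ord {l : ℕ} (hl : l < 42) : pos (ord l) = l := by
  have h := List.all_eq_true.1 chk_ord l (List.mem_range.2 hl)
  rw [Bool.and_eq_true] at h
  exact Nat.eq_of_beq_eq_true h.2

/-- the size of an orbit -/
def nnp (l : ℕ) : ℕ := (Ol.getD (ord l) []).length
/-- the positive part of a vector -/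
def upp (i l : ℕ) : ℕ := (up.getD i []).getD (ord l) 0
/-- the negative part of a vector -/
def unn (i l : ℕ) : ℕ := (un.getD i []).getD (ord l) 0

/-- the weight of an index -/
def Wt (L : List (ℕ × ℕ)) (l : ℕ) : ℕ := L.foldr (fun p acc => Nat.add (cond (Nat.beq p.1 l) p.2 0) acc) 0

/-- a dot product -/
def dotL (Λ : List ℕ) (v : ℕ → ℕ) : ℕ := (List.range 23).foldr (fun i acc => Nat.add (Nat.mul (Λ.getD i 0) (v i)) acc) 0

theorem foldr_range_sum (f : ℕ → ℕ) (l : List ℕ) : l.foldr (fun i acc => Nat.add (f i) acc) 0 = (l.map f).sum := by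
  induction l with
  | nil => rfl
  | cons x l ih =>
    simp only [List.foldr_cons, List.map_cons, List.sum_cons, ih]
    rfl

theorem list_range_sum (f : ℕ → ℕ) (n : ℕ) : ((List.range n).map f).sum = ∑ i ∈ Finset.range n, f i := by
  induction n with
  | zero => rfl
  | succ n ih =>
    rw [List.range_succ, List.map_append, List.sum_append, ih, Finset.sum_range_succ]
    simp

theorem dotL_eq (Λ : List ℕ) (v : ℕ → ℕ) : dotL Λ v = ∑ i ∈ Finset.range 23, Λ.getD i 0 * v i := by
  unfold dotL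
  have h := foldr_range_sum (fun i => Λ.getD i 0 * v i) (List.range 23)
  have e : (fun (i : ℕ) (acc : ℕ) => Nat.add (Nat.mul (Λ.getD i 0) (v i)) acc) = (fun i acc => Nat.add ((fun i => Λ.getD i 0 * v i) i) acc) := rfl
  rw [e, h, list_range_sum]

/-- the coefficients of a relation are right -/
def chkOne (q : Chk) : Bool :=
  (List.range 42).all (fun l => Nat.beq (Nat.mod (dotL q.2 (fun i => Nat.mul (nnp l) (upp i l))) (Nat.mul s0 128))
    (Nat.mod (Nat.add (dotL q.2 (fun i => Nat.mul (nnp l) (unn i l))) (Nat.mul s0 (Wt q.1 l))) (Nat.mul s0 128)))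

theorem chk_cert : (List.range 42).all (fun d => (EE d).all chkOne) = true := by decide +kernel
theorem chk_hE : (List.range 42).all (fun d => (EE d).all (fun q => q.1.all (fun p => Nat.ble p.1 d))) = true := by decide +kernel
theorem chk_len : Etab.length = 42 := by decide +kernel
theorem chk_nL : (List.range 42).all (fun l => Nat.beq (Wt nL l) (nnp l)) = true := by decide +kernel
theorem chk_nL2 : nL.all (fun p => Nat.blt p.1 42) = true := by decide +kernel
theorem chk_final : solsN.all (fun M => or (not (Nat.beq (evalS M nL) 780))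
    (Cand.any (fun Mo => (List.range 42).all (fun l => Nat.testBit M l == Nat.testBit Mo (ord l))))) = true := by decide +kernel
theorem chk_s0 : 0 < s0 := by decide +kernel

theorem hE_all : ∀ d, ∀ q ∈ EE d, ∀ p ∈ q.1, p.1 ≤ d := by
  intro d q hq p hp
  by_cases hd : d < 42
  · have h1 := List.all_eq_true.1 chk_hE d (List.mem_range.2 hd)
    have h2 := List.all_eq_true.1 h1 q hq
    exact Nat.le_of_ble_eq_true (List.all_eq_true.1 h2 p hp)
  · have h1 : EE d = [] := by
      unfold EE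
      rw [List.getD_eq_default]
      rw [chk_len]
      omega
    rw [h1] at hq
    simp at hq

theorem evalS_eq (M : ℕ) : ∀ L : List (ℕ × ℕ), (∀ p ∈ L, p.1 < 42) →
    evalS M L = ∑ l ∈ Finset.range 42, (if M.testBit l = true then Wt L l else 0) := by
  intro L
  induction L with
  | nil =>
    intro _
    simp [evalS, Wt]
  | cons p L ih =>
    intro h
    have h1 := ih (fun p' hp' => h p' (List.mem_cons_of_mem _ hp'))
    have h2 : p.1 < 42 := h p (List.mem_cons_self ..)
    have e1 : evalS M (p :: L) = (cond (Nat.testBit M p.1) p.2 0) + evalS M L := rfl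
    rw [e1, h1]
    have e2 : ∀ l, Wt (p :: L) l = (cond (Nat.beq p.1 l) p.2 0) + Wt L l := fun l => rfl
    simp only [e2]
    have e3 : ∀ l, (if M.testBit l = true then (cond (Nat.beq p.1 l) p.2 0) + Wt L l else 0) =
        (if M.testBit l = true then (cond (Nat.beq p.1 l) p.2 0) else 0) + (if M.testBit l = true then Wt L l else 0) := by
      intro l
      split_ifs <;> simp
    simp only [e3]
    rw [Finset.sum_add_distrib]
    have e4 : ∑ l ∈ Finset.range 42, (if M.testBit l = true then (cond (Nat.beq p.1 l) p.2 0) else 0) = cond (Nat.testBit M p.1) p.2 0 := by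
      rw [Finset.sum_eq_single p.1]
      · have : Nat.beq p.1 p.1 = true := Nat.beq_refl _
        rw [this]
        cases Nat.testBit M p.1 <;> simp
      · intro l _ hl
        have : Nat.beq p.1 l = false := by
          cases h : Nat.beq p.1 l
          · rfl
          · exact absurd (Nat.eq_of_beq_eq_true h).symm hl
        rw [this]
        simp
      · intro h3
        exact absurd (Finset.mem_range.2 h2) h3
    rw [e4]

theorem modEq_sum (f g : ℕ → ℕ) (T : Finset ℕ) (N : ℕ) (h : ∀ l ∈ T, f l ≡ g l [MOD N]) :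
    ∑ l ∈ T, f l ≡ ∑ l ∈ T, g l [MOD N] := by
  classical
  induction T using Finset.induction_on with
  | empty => exact Nat.ModEq.refl _
  | insert a T ha ih =>
    rw [Finset.sum_insert ha, Finset.sum_insert ha]
    exact (h a (Finset.mem_insert_self _ _)).add (ih (fun l hl => h l (Finset.mem_insert_of_mem hl)))

/-- a relation modulo `128` from the vectors -/
theorem key_Q (c : ℕ → Bool) (q : Chk) (hq : chkOne q = true)
    (heq : ∀ i < 23, ∑ l ∈ Finset.range 42, (if c l = true then nnp l * upp i l else 0) =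
      ∑ l ∈ Finset.range 42, (if c l = true then nnp l * unn i l else 0)) :
    128 ∣ ∑ l ∈ Finset.range 42, (if c l = true then Wt q.1 l else 0) := by
  set A : ℕ → ℕ := fun l => dotL q.2 (fun i => nnp l * upp i l) with hA
  set B : ℕ → ℕ := fun l => dotL q.2 (fun i => nnp l * unn i l) with hB
  have h1 : ∀ l ∈ Finset.range 42, A l ≡ B l + s0 * Wt q.1 l [MOD s0 * 128] := by
    intro l hl
    exact Nat.eq_of_beq_eq_true (List.all_eq_true.1 hq l (List.mem_range.2 (Finset.mem_range.1 hl)))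
  have e : ∀ v : ℕ → ℕ → ℕ, ∑ l ∈ Finset.range 42, (if c l = true then dotL q.2 (fun i => v l i) else 0) =
      ∑ i ∈ Finset.range 23, q.2.getD i 0 * ∑ l ∈ Finset.range 42, (if c l = true then v l i else 0) := by
    intro v
    simp only [dotL_eq, Finset.mul_sum]
    rw [Finset.sum_comm]
    apply Finset.sum_congr rfl
    intro l _
    split_ifs
    · rfl
    · simp
  have h2 : ∑ l ∈ Finset.range 42, (if c l = true then A l else 0) = ∑ l ∈ Finset.range 42, (if c l = true then B l else 0) := by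
    rw [hA, hB]
    simp only []
    rw [e (fun l i => nnp l * upp i l), e (fun l i => nnp l * unn i l)]
    apply Finset.sum_congr rfl
    intro i hi
    rw [heq i (Finset.mem_range.1 hi)]
  have h3 : ∑ l ∈ Finset.range 42, (if c l = true then A l else 0) ≡
      ∑ l ∈ Finset.range 42, (if c l = true then B l + s0 * Wt q.1 l else 0) [MOD s0 * 128] := by
    apply modEq_sum
    intro l hl
    split_ifs
    · exact h1 l hl
    · exact Nat.ModEq.refl _
  have h4 : ∑ l ∈ Finset.range 42, (if c l = true then B l + s0 * Wt q.1 l else 0) =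
      ∑ l ∈ Finset.range 42, (if c l = true then B l else 0) + s0 * ∑ l ∈ Finset.range 42, (if c l = true then Wt q.1 l else 0) := by
    rw [Finset.mul_sum, ← Finset.sum_add_distrib]
    apply Finset.sum_congr rfl
    intro l _
    split_ifs <;> simp
  rw [h2, h4] at h3
  have h5 : 0 + ∑ l ∈ Finset.range 42, (if c l = true then B l else 0) ≡
      s0 * ∑ l ∈ Finset.range 42, (if c l = true then Wt q.1 l else 0) + ∑ l ∈ Finset.range 42, (if c l = true then B l else 0) [MOD s0 * 128] := by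
    rw [Nat.zero_add, Nat.add_comm (s0 * _)]
    exact h3
  have h6 := Nat.ModEq.add_right_cancel' _ h5
  have h7 : s0 * 128 ∣ s0 * ∑ l ∈ Finset.range 42, (if c l = true then Wt q.1 l else 0) :=
    (Nat.modEq_zero_iff_dvd.1 h6.symm)
  exact Nat.dvd_of_mul_dvd_mul_left chk_s0 h7

theorem closed_iff (S : Finset (Fin 4060)) (k : Equiv.Perm (Fin 4060)) (h : ∀ y ∈ S, k y ∈ S) (y : Fin 4060) : k y ∈ S ↔ y ∈ S := by
  constructor
  · intro hy
    have hm : S.map k.toEmbedding ⊆ S := by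
      intro z hz
      rw [Finset.mem_map] at hz
      obtain ⟨x, hx, rfl⟩ := hz
      exact h x hx
    have h2 := Finset.eq_of_subset_of_card_le hm (by rw [Finset.card_map])
    rw [← h2, Finset.mem_map] at hy
    obtain ⟨x, hx, he⟩ := hy
    have h3 : x = y := k.injective he
    rwa [← h3]
  · exact h y

theorem chk_Brep1 : (List.range 42).all (fun j => and (Nat.blt (Brep.getD j 0) 4060) (Nat.beq (orb (Brep.getD j 0)) j)) = true := by decide +kernel
theorem chk_Brep2 : Brep.all (fun y => and (Nat.blt y 4060) (Nat.beq (Brep.getD (orb y) 0) y)) = true := by decide +kernel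

/-- a set stable under `r` and `f` is a union of orbits -/
theorem aon (S : Finset (Fin 4060)) (hr : ∀ y ∈ S, rr.1 y ∈ S) (hf : ∀ y ∈ S, fr.1 y ∈ S) (y y' : Fin 4060) (hy : y ∈ mk Bm) (hy' : y' ∈ mk Bm)
    (he : orb y.1 = orb y'.1) : y ∈ S ↔ y' ∈ S := by
  have key : ∀ x : Fin 4060, x ∈ mk Bm → ∀ z : Fin 4060, z.1 = Brep.getD (orb x.1) 0 → (x ∈ S ↔ z ∈ S) := by
    intro x hx
    refine reach_B (fun x => ∀ z : Fin 4060, z.1 = Brep.getD (orb x.1) 0 → (x ∈ S ↔ z ∈ S)) ?_ ?_ ?_ x hx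
    · intro x h1 z hz
      rw [orb_r] at hz
      rw [closed_iff S rr.1 hr]
      exact h1 z hz
    · intro x h1 z hz
      rw [orb_f] at hz
      rw [closed_iff S fr.1 hf]
      exact h1 z hz
    · intro v hv
      have h1 := List.all_eq_true.1 chk_Brep2 v hv
      rw [Bool.and_eq_true] at h1
      have h2 : v < 4060 := Nat.le_of_ble_eq_true h1.1
      refine ⟨h2, ?_⟩
      intro z hz
      have h3 := Nat.eq_of_beq_eq_true h1.2
      have h4 : z = ⟨v, h2⟩ := Fin.ext (by rw [hz]; exact h3)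
      rw [h4]
  have hj := orb_lt hy
  have h1 := List.all_eq_true.1 chk_Brep1 _ (List.mem_range.2 hj)
  rw [Bool.and_eq_true] at h1
  have h2 : Brep.getD (orb y.1) 0 < 4060 := Nat.le_of_ble_eq_true h1.1
  rw [key y hy ⟨_, h2⟩ rfl, key y' hy' ⟨_, h2⟩ (by rw [← he])]

/-- Sets orthogonal to the vectors: the candidates -/
theorem hsol (S : Finset (Fin 4060)) (hS : S ⊆ mk Bm) (hr : ∀ y ∈ S, rr.1 y ∈ S) (hf : ∀ y ∈ S, fr.1 y ∈ S) (hcard : S.card = 780)
    (hu : ∀ u ∈ Us, ∑ y ∈ S, u y = 0) : S ∈ Cands := by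
  have horb' : ∀ y ∈ mk Bm, pos (orb y.1) < 42 := fun y hy => pos_lt (orb_lt hy)
  obtain ⟨c, hc1, hc2⟩ := sum_orb (orb := fun y : Fin 4060 => pos (orb y.1)) (m := 42) hS horb' (by
    intro y hy y' hy' he
    apply aon S hr hf y y' hy hy'
    have h1 := ord_pos (orb_lt hy)
    have h2 := ord_pos (orb_lt hy')
    have he' : pos (orb y.1) = pos (orb y'.1) := he
    rw [← h1, he', h2])
  set M := Nat.ofBits (fun j : Fin 42 => c j.1) with hM
  have hMbit : ∀ l, l < 42 → M.testBit l = c l := by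
    intro l hl
    rw [hM, Nat.testBit_ofBits_lt _ _ hl]
  have hMlt : M < 2 ^ 42 := Nat.ofBits_lt_two_pow _
  -- the fibers
  have hn : ∀ l ∈ Finset.range 42, ((mk Bm).filter (fun y : Fin 4060 => pos (orb y.1) = l)).card = nnp l := by
    intro l hl
    have hl' := Finset.mem_range.1 hl
    have h1 := card_fib (fun _ => true) (ord_lt hl')
    have h2 : (Ol.getD (ord l) []).countP (fun _ => true) = nnp l := by
      rw [List.countP_true]
      rfl
    rw [← h2, ← h1]
    congr 1
    apply Finset.filter_congr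
    intro y hy
    constructor
    · intro h3
      refine ⟨rfl, ?_⟩
      rw [← h3, ord_pos (orb_lt hy)]
    · rintro ⟨_, h3⟩
      rw [h3, pos_ord hl']
  -- the sums
  have hc3 : ∀ w : ℕ → ℕ, ∑ y ∈ S, w (orb y.1) = ∑ l ∈ Finset.range 42, (if c l = true then nnp l * w (ord l) else 0) := by
    intro w
    have h1 := hc2 (fun l => w (ord l))
    have h2 : ∑ y ∈ S, w (orb y.1) = ∑ y ∈ S, w (ord (pos (orb y.1))) := by
      apply Finset.sum_congr rfl
      intro y hy
      rw [ord_pos (orb_lt (hS hy))]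
    rw [h2, h1]
    apply Finset.sum_congr rfl
    intro l hl
    rw [hn l hl]
  -- the linear relations
  have heq : ∀ i < 23, ∑ l ∈ Finset.range 42, (if c l = true then nnp l * upp i l else 0) =
      ∑ l ∈ Finset.range 42, (if c l = true then nnp l * unn i l else 0) := by
    intro i hi
    have h1 := hu (uu i) (List.mem_map.2 ⟨i, List.mem_range.2 hi, rfl⟩)
    have h2 := hc3 (fun j => (up.getD i []).getD j 0)
    have h3 := hc3 (fun j => (un.getD i []).getD j 0)
    have h4 : ((∑ y ∈ S, (up.getD i []).getD (orb y.1) 0 : ℕ) : ℤ) = ((∑ y ∈ S, (un.getD i []).getD (orb y.1) 0 : ℕ) : ℤ) := by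
      push_cast
      rw [← sub_eq_zero, ← Finset.sum_sub_distrib]
      exact h1
    have h5 := Int.ofNat.inj h4
    rw [h2, h3] at h5
    exact h5
  have hsat : ∀ d < 42, ∀ q ∈ EE d, satQ M q = true := by
    intro d hd q hq
    have h1 := List.all_eq_true.1 (List.all_eq_true.1 chk_cert d (List.mem_range.2 hd)) q hq
    have h2 := key_Q c q h1 heq
    have h3 : ∀ p ∈ q.1, p.1 < 42 := fun p hp => lt_of_le_of_lt (hE_all d q hq p hp) hd
    have h4 : evalS M q.1 = ∑ l ∈ Finset.range 42, (if c l = true then Wt q.1 l else 0) := by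
      rw [evalS_eq M q.1 h3]
      apply Finset.sum_congr rfl
      intro l hl
      rw [hMbit l (Finset.mem_range.1 hl)]
    have h5 : evalS M q.1 % 128 = 0 := by
      rw [h4]
      exact Nat.mod_eq_zero_of_dvd h2
    have h6 : Nat.mod (evalS M q.1) 128 = 0 := h5
    show Nat.beq (Nat.mod (evalS M q.1) 128) 0 = true
    rw [h6]
    rfl
  have hMs : M ∈ solsN := goQ_spec EE solsN 42 hE_all chk_go M hMlt hsat
  -- the size
  have hsize : evalS M nL = 780 := by
    have h3 : ∀ p ∈ nL, p.1 < 42 := fun p hp => Nat.le_of_ble_eq_true (List.all_eq_true.1 chk_nL2 p hp)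
    have h4 : S.card = ∑ l ∈ Finset.range 42, (if c l = true then nnp l else 0) := by
      have h5 := hc3 (fun _ => 1)
      rw [Finset.card_eq_sum_ones, h5]
      apply Finset.sum_congr rfl
      intro l _
      rw [mul_one]
    rw [evalS_eq M nL h3, ← hcard, h4]
    apply Finset.sum_congr rfl
    intro l hl
    have hl' := Finset.mem_range.1 hl
    rw [hMbit l hl', Nat.eq_of_beq_eq_true (List.all_eq_true.1 chk_nL l (List.mem_range.2 hl'))]
  have hfin := List.all_eq_true.1 chk_final M hMs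
  rw [Bool.or_eq_true] at hfin
  rcases hfin with h1 | h1
  · rw [hsize] at h1
    exact absurd h1 (by decide)
  · obtain ⟨Mo, hMo, hb⟩ := List.any_eq_true.1 h1
    refine List.mem_map.2 ⟨Mo, hMo, ?_⟩
    ext y
    rw [Finset.mem_filter]
    constructor
    · rintro ⟨hy1, hy2⟩
      have h2 := (hc1 y hy1).2 ?_
      · exact h2
      · have hlt := horb' y hy1
        have h3 := List.all_eq_true.1 hb _ (List.mem_range.2 hlt)
        have h4 : Nat.testBit M (pos (orb y.1)) = Nat.testBit Mo (ord (pos (orb y.1))) := by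
          simpa using h3
        rw [← hMbit _ hlt, h4, ord_pos (orb_lt hy1)]
        exact hy2
    · intro hy
      have hy1 := hS hy
      refine ⟨hy1, ?_⟩
      have h2 := (hc1 y hy1).1 hy
      have hlt := horb' y hy1
      have h3 := List.all_eq_true.1 hb _ (List.mem_range.2 hlt)
      have h4 : Nat.testBit M (pos (orb y.1)) = Nat.testBit Mo (ord (pos (orb y.1))) := by
        simpa using h3
      rw [ord_pos (orb_lt hy1)] at h4
      rw [← h4, hMbit _ hlt]
      exact h2

end Cfsg.Agent.Lib.RuRkX4
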