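import Cfsg.Agent.Lib.RuTTab

set_option autoImplicit false
set_option maxRecDepth 100000
set_option Elab.async false

namespace Cfsg.Agent.Lib.RuTChk

open Cfsg.Agent.Lib.ChainCert Cfsg.Agent.Lib.ProgBits Cfsg.Agent.Lib.ProgChain Cfsg.Agent.Lib.PermChain Cfsg.Agent.Lib.TcBits
open Cfsg.Agent.Lib.RuTTab

theorem let_7_0 : allR (guard Plet (nat_lit 121)) 7 (nat_lit 0) = true := by decide +kernel
theorem let_all : ∀ i, i < (nat_lit 121) → Plet i = true := of_guard (k := 7) (by norm_num) let_7_0
theorem tree_12_0 : allR (guard Ptree (nat_lit 4060)) 12 (nat_lit 0) = true := by decide +kernel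
theorem tree_all : ∀ i, i < (nat_lit 4060) → Ptree i = true := of_guard (k := 12) (by norm_num) tree_12_0
theorem colc_12_0 : allR (guard Pcol (nat_lit 4060)) 12 (nat_lit 0) = true := by decide +kernel
theorem colc_all : ∀ i, i < (nat_lit 4060) → Pcol i = true := of_guard (k := 12) (by norm_num) colc_12_0
theorem der0_7_0 : allR (guard Pder0 (nat_lit 92)) 7 (nat_lit 0) = true := by decide +kernel
theorem der0_all : ∀ i, i < (nat_lit 92) → Pder0 i = true := of_guard (k := 7) (by norm_num) der0_7_0
theorem cert0_7_0 : allR (guard Pcert0 (nat_lit 94)) 7 (nat_lit 0) = true := by decide +kernel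
theorem cert0_all : ∀ i, i < (nat_lit 94) → Pcert0 i = true := of_guard (k := 7) (by norm_num) cert0_7_0
theorem fix0_7_0 : allR (guard Pfix0 (nat_lit 94)) 7 (nat_lit 0) = true := by decide +kernel
theorem fix0_all : ∀ i, i < (nat_lit 94) → Pfix0 i = true := of_guard (k := 7) (by norm_num) fix0_7_0
theorem img0_12_0 : allR (guard Pimg0 (nat_lit 4060)) 12 (nat_lit 0) = true := by decide +kernel
theorem img0_all : ∀ i, i < (nat_lit 4060) → Pimg0 i = true := of_guard (k := 12) (by norm_num) img0_12_0
theorem der1_7_0 : allR (guard Pder1 (nat_lit 98)) 7 (nat_lit 0) = true := by decide +kernel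
theorem der1_all : ∀ i, i < (nat_lit 98) → Pder1 i = true := of_guard (k := 7) (by norm_num) der1_7_0
theorem cert1_7_0 : allR (guard Pcert1 (nat_lit 100)) 7 (nat_lit 0) = true := by decide +kernel
theorem cert1_all : ∀ i, i < (nat_lit 100) → Pcert1 i = true := of_guard (k := 7) (by norm_num) cert1_7_0
theorem fix1_7_0 : allR (guard Pfix1 (nat_lit 100)) 7 (nat_lit 0) = true := by decide +kernel
theorem fix1_all : ∀ i, i < (nat_lit 100) → Pfix1 i = true := of_guard (k := 7) (by norm_num) fix1_7_0
theorem img1_12_0 : allR (guard Pimg1 (nat_lit 4060)) 12 (nat_lit 0) = true := by decide +kernel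
theorem img1_all : ∀ i, i < (nat_lit 4060) → Pimg1 i = true := of_guard (k := 12) (by norm_num) img1_12_0
theorem der2_7_0 : allR (guard Pder2 (nat_lit 104)) 7 (nat_lit 0) = true := by decide +kernel
theorem der2_all : ∀ i, i < (nat_lit 104) → Pder2 i = true := of_guard (k := 7) (by norm_num) der2_7_0
theorem cert2_7_0 : allR (guard Pcert2 (nat_lit 107)) 7 (nat_lit 0) = true := by decide +kernel
theorem cert2_all : ∀ i, i < (nat_lit 107) → Pcert2 i = true := of_guard (k := 7) (by norm_num) cert2_7_0
theorem fix2_7_0 : allR (guard Pfix2 (nat_lit 107)) 7 (nat_lit 0) = true := by decide +kernel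
theorem fix2_all : ∀ i, i < (nat_lit 107) → Pfix2 i = true := of_guard (k := 7) (by norm_num) fix2_7_0
theorem img2_12_0 : allR (guard Pimg2 (nat_lit 4060)) 12 (nat_lit 0) = true := by decide +kernel
theorem img2_all : ∀ i, i < (nat_lit 4060) → Pimg2 i = true := of_guard (k := 12) (by norm_num) img2_12_0
theorem der3_7_0 : allR (guard Pder3 (nat_lit 107)) 7 (nat_lit 0) = true := by decide +kernel
theorem der3_all : ∀ i, i < (nat_lit 107) → Pder3 i = true := of_guard (k := 7) (by norm_num) der3_7_0
theorem cert3_7_0 : allR (guard Pcert3 (nat_lit 111)) 7 (nat_lit 0) = true := by decide +kernel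
theorem cert3_all : ∀ i, i < (nat_lit 111) → Pcert3 i = true := of_guard (k := 7) (by norm_num) cert3_7_0
theorem fix3_7_0 : allR (guard Pfix3 (nat_lit 111)) 7 (nat_lit 0) = true := by decide +kernel
theorem fix3_all : ∀ i, i < (nat_lit 111) → Pfix3 i = true := of_guard (k := 7) (by norm_num) fix3_7_0
theorem img3_12_0 : allR (guard Pimg3 (nat_lit 4060)) 12 (nat_lit 0) = true := by decide +kernel
theorem img3_all : ∀ i, i < (nat_lit 4060) → Pimg3 i = true := of_guard (k := 12) (by norm_num) img3_12_0
theorem der4_7_0 : allR (guard Pder4 (nat_lit 111)) 7 (nat_lit 0) = true := by decide +kernel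
theorem der4_all : ∀ i, i < (nat_lit 111) → Pder4 i = true := of_guard (k := 7) (by norm_num) der4_7_0
theorem cert4_7_0 : allR (guard Pcert4 (nat_lit 116)) 7 (nat_lit 0) = true := by decide +kernel
theorem cert4_all : ∀ i, i < (nat_lit 116) → Pcert4 i = true := of_guard (k := 7) (by norm_num) cert4_7_0
theorem fix4_7_0 : allR (guard Pfix4 (nat_lit 116)) 7 (nat_lit 0) = true := by decide +kernel
theorem fix4_all : ∀ i, i < (nat_lit 116) → Pfix4 i = true := of_guard (k := 7) (by norm_num) fix4_7_0
theorem img4_12_0 : allR (guard Pimg4 (nat_lit 4060)) 12 (nat_lit 0) = true := by decide +kernel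
theorem img4_all : ∀ i, i < (nat_lit 4060) → Pimg4 i = true := of_guard (k := 12) (by norm_num) img4_12_0
theorem der5_7_0 : allR (guard Pder5 (nat_lit 116)) 7 (nat_lit 0) = true := by decide +kernel
theorem der5_all : ∀ i, i < (nat_lit 116) → Pder5 i = true := of_guard (k := 7) (by norm_num) der5_7_0
theorem cert5_7_0 : allR (guard Pcert5 (nat_lit 119)) 7 (nat_lit 0) = true := by decide +kernel
theorem cert5_all : ∀ i, i < (nat_lit 119) → Pcert5 i = true := of_guard (k := 7) (by norm_num) cert5_7_0
theorem fix5_7_0 : allR (guard Pfix5 (nat_lit 119)) 7 (nat_lit 0) = true := by decide +kernel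
theorem fix5_all : ∀ i, i < (nat_lit 119) → Pfix5 i = true := of_guard (k := 7) (by norm_num) fix5_7_0
theorem img5_12_0 : allR (guard Pimg5 (nat_lit 4060)) 12 (nat_lit 0) = true := by decide +kernel
theorem img5_all : ∀ i, i < (nat_lit 4060) → Pimg5 i = true := of_guard (k := 12) (by norm_num) img5_12_0
theorem der6_7_0 : allR (guard Pder6 (nat_lit 119)) 7 (nat_lit 0) = true := by decide +kernel
theorem der6_all : ∀ i, i < (nat_lit 119) → Pder6 i = true := of_guard (k := 7) (by norm_num) der6_7_0
theorem cert6_7_0 : allR (guard Pcert6 (nat_lit 121)) 7 (nat_lit 0) = true := by decide +kernel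
theorem cert6_all : ∀ i, i < (nat_lit 121) → Pcert6 i = true := of_guard (k := 7) (by norm_num) cert6_7_0
theorem fix6_7_0 : allR (guard Pfix6 (nat_lit 121)) 7 (nat_lit 0) = true := by decide +kernel
theorem fix6_all : ∀ i, i < (nat_lit 121) → Pfix6 i = true := of_guard (k := 7) (by norm_num) fix6_7_0
theorem img6_12_0 : allR (guard Pimg6 (nat_lit 4060)) 12 (nat_lit 0) = true := by decide +kernel
theorem img6_all : ∀ i, i < (nat_lit 4060) → Pimg6 i = true := of_guard (k := 12) (by norm_num) img6_12_0
theorem der7_7_0 : allR (guard Pder7 (nat_lit 121)) 7 (nat_lit 0) = true := by decide +kernel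
theorem der7_all : ∀ i, i < (nat_lit 121) → Pder7 i = true := of_guard (k := 7) (by norm_num) der7_7_0
theorem cert7_7_0 : allR (guard Pcert7 (nat_lit 121)) 7 (nat_lit 0) = true := by decide +kernel
theorem cert7_all : ∀ i, i < (nat_lit 121) → Pcert7 i = true := of_guard (k := 7) (by norm_num) cert7_7_0
theorem fix7_7_0 : allR (guard Pfix7 (nat_lit 121)) 7 (nat_lit 0) = true := by decide +kernel
theorem fix7_all : ∀ i, i < (nat_lit 121) → Pfix7 i = true := of_guard (k := 7) (by norm_num) fix7_7_0
theorem img7_12_0 : allR (guard Pimg7 (nat_lit 4060)) 12 (nat_lit 0) = true := by decide +kernel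
theorem img7_all : ∀ i, i < (nat_lit 4060) → Pimg7 i = true := of_guard (k := 12) (by norm_num) img7_12_0

end Cfsg.Agent.Lib.RuTChk
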