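import Mathlib

/-!
# Integer matrices of finite order: cyclotomic factors of the characteristic polynomial

For `S2378`.
-/

set_option autoImplicit false
set_option linter.unusedSectionVars false
set_option linter.unusedVariables false

namespace Cfsg.Agent.Lib.S2378Alg91

open Polynomial Matrix

variable {l : ℕ}

/-- A root of the characteristic polynomial of a matrix of finite order is a root of unity. -/
theorem pow_eq_one_of_isRoot {K : Type*} [Field K] (B : Matrix (Fin l) (Fin l) K) {N : ℕ} (hB : B ^ N = 1)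
    {μ : K} (hμ : B.charpoly.IsRoot μ) : μ ^ N = 1 := by
  classical
  have h1 : (Matrix.scalar (Fin l) μ - B).det = 0 := by
    have := Matrix.eval_charpoly B μ
    rw [← this]
    exact hμ
  obtain ⟨v, hv, hv2⟩ := Matrix.exists_mulVec_eq_zero_iff.2 h1
  have h2 : B *ᵥ v = μ • v := by
    have e : (Matrix.scalar (Fin l) μ - B) *ᵥ v = μ • v - B *ᵥ v := by
      rw [Matrix.sub_mulVec]
      congr 1
      ext i
      simp [Matrix.scalar_apply, Matrix.mulVec_diagonal]
    rw [e, sub_eq_zero] at hv2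
    exact hv2.symm
  have h3 : ∀ k : ℕ, (B ^ k) *ᵥ v = μ ^ k • v := by
    intro k
    induction k with
    | zero => simp
    | succ k ih =>
      rw [pow_succ, ← Matrix.mulVec_mulVec, h2, Matrix.mulVec_smul, ih, smul_smul, pow_succ, mul_comm]
  have h4 := h3 N
  rw [hB, Matrix.one_mulVec] at h4
  by_contra hne
  apply hv
  have h5 : (μ ^ N - 1) • v = 0 := by
    rw [sub_smul, ← h4, one_smul, sub_self]
  exact (smul_eq_zero.1 h5).resolve_left (sub_ne_zero.2 hne)

/-- The characteristic polynomial of an integer matrix of finite order divides a power of `X ^ N - 1`. -/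
theorem charpoly_dvd_pow (A : Matrix (Fin l) (Fin l) ℤ) {N : ℕ} (hA : A ^ N = 1) :
    A.charpoly ∣ (X ^ N - 1 : ℤ[X]) ^ l := by
  classical
  set f : ℤ →+* ℂ := Int.castRingHom ℂ with hf
  have hinj : Function.Injective f := Int.cast_injective
  rw [← Polynomial.map_dvd_map f hinj A.charpoly_monic]
  set B : Matrix (Fin l) (Fin l) ℂ := A.map f with hBdef
  have hB : B ^ N = 1 := by
    have h0 := congrArg (fun M : Matrix (Fin l) (Fin l) ℤ => f.mapMatrix M) hA
    simp only [map_pow, map_one] at h0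
    exact h0
  have hch : A.charpoly.map f = B.charpoly := by
    rw [hBdef, ← Matrix.charpoly_map]
  rw [hch]
  have hsp : B.charpoly.Splits := IsAlgClosed.splits _
  have hprod := hsp.eq_prod_roots_of_monic B.charpoly_monic
  have hcard : Multiset.card B.charpoly.roots = l := by
    rw [← hsp.natDegree_eq_card_roots, Matrix.charpoly_natDegree_eq_dim, Fintype.card_fin]
  have hmap : (X ^ N - 1 : ℤ[X]).map f = X ^ N - 1 := by simp
  rw [Polynomial.map_pow, hmap, hprod]
  have key : ∀ s : Multiset ℂ, (∀ μ ∈ s, μ ^ N = 1) →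
      (s.map fun a => (X - C a : ℂ[X])).prod ∣ (X ^ N - 1 : ℂ[X]) ^ Multiset.card s := by
    intro s
    induction s using Multiset.induction_on with
    | empty => simp
    | cons a s ih =>
      intro hs
      rw [Multiset.map_cons, Multiset.prod_cons, Multiset.card_cons, pow_succ']
      apply mul_dvd_mul
      · have h1 : a ^ N = 1 := hs a (Multiset.mem_cons_self a s)
        rw [dvd_iff_isRoot]
        simp [h1]
      · exact ih (fun μ hμ => hs μ (Multiset.mem_cons_of_mem hμ))
  have h5 := key B.charpoly.roots (fun μ hμ => pow_eq_one_of_isRoot B hB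
    (Polynomial.isRoot_of_mem_roots hμ))
  rwa [hcard] at h5

/-- `a ∣ p ^ n * c`, `p` prime not dividing `a`: then `a ∣ c`. -/
theorem dvd_of_dvd_pow_mul {R : Type*} [CommRing R] [IsDomain R] {p a c : R} (hp : Prime p) (ha : ¬ p ∣ a) (n : ℕ)
    (h : a ∣ p ^ n * c) : a ∣ c := by
  induction n with
  | zero => simpa using h
  | succ n ih =>
    apply ih
    obtain ⟨w, hw⟩ := h
    have h1 : p ∣ a * w := by
      rw [← hw, pow_succ']
      exact Dvd.intro _ (mul_assoc _ _ _).symm
    obtain ⟨w', rfl⟩ := (hp.dvd_or_dvd h1).resolve_left ha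
    refine ⟨w', ?_⟩
    have hp0 : p ≠ 0 := hp.ne_zero
    apply mul_left_cancel₀ hp0
    rw [pow_succ'] at hw
    calc p * (p ^ n * c) = p * p ^ n * c := by ring
      _ = a * (p * w') := hw
      _ = p * (a * w') := by ring

theorem rootMultiplicity_pow' {R : Type*} [CommRing R] [IsDomain R] {p : R[X]} (hp : p ≠ 0) (a : R) (n : ℕ) :
    (p ^ n).rootMultiplicity a = n * p.rootMultiplicity a := by
  induction n with
  | zero => simp
  | succ n ih =>
    rw [pow_succ, Polynomial.rootMultiplicity_mul (mul_ne_zero (pow_ne_zero _ hp) hp), ih]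
    ring

/-- **Cyclotomic factors.** The multiplicity of a root `q` (of order `d`) of the characteristic polynomial modulo `r`
of a matrix of order prime to `r` is at most the multiplicity of the cyclotomic polynomial `Φ_d`. -/
theorem cyclotomic_pow_dvd (A : Matrix (Fin l) (Fin l) ℤ) {N : ℕ} (hN : 0 < N) (hA : A ^ N = 1)
    {r : ℕ} [Fact r.Prime] (hrN : ¬ r ∣ N) (q : ℕ) (hq : ¬ r ∣ q) :
    (cyclotomic (orderOf (q : ZMod r)) ℤ) ^
      ((A.charpoly.map (Int.castRingHom (ZMod r))).rootMultiplicity (q : ZMod r)) ∣ A.charpoly := by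
  classical
  set π : ℤ →+* ZMod r := Int.castRingHom (ZMod r) with hπ
  set χ := A.charpoly with hχ
  have hχm : χ.Monic := A.charpoly_monic
  have hχ0 : χ ≠ 0 := hχm.ne_zero
  set χb := χ.map π with hχb
  have hχb0 : χb ≠ 0 := (hχm.map π).ne_zero
  set e := χb.rootMultiplicity (q : ZMod r) with he
  by_cases he0 : e = 0
  · rw [he0, pow_zero]
    exact one_dvd _
  have hroot : χb.IsRoot (q : ZMod r) :=
    (Polynomial.rootMultiplicity_pos hχb0).1 (Nat.pos_of_ne_zero he0)
  have hq0 : (q : ZMod r) ≠ 0 := by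
    intro h
    exact hq ((ZMod.natCast_eq_zero_iff q r).1 h)
  have hN0 : (N : ZMod r) ≠ 0 := by
    intro h
    exact hrN ((ZMod.natCast_eq_zero_iff N r).1 h)
  have hdvd := charpoly_dvd_pow A hA
  rw [← hχ] at hdvd
  have hdvdb : χb ∣ (X ^ N - 1 : (ZMod r)[X]) ^ l := by
    have := Polynomial.map_dvd π hdvd
    simpa using this
  have hqN : (q : ZMod r) ^ N = 1 := by
    obtain ⟨w, hw⟩ := hdvdb
    have h1 := congrArg (Polynomial.eval (q : ZMod r)) hw
    rw [Polynomial.eval_mul, show Polynomial.eval (q : ZMod r) χb = 0 from hroot, zero_mul] at h1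
    simp only [Polynomial.eval_pow, Polynomial.eval_sub, Polynomial.eval_X, Polynomial.eval_one] at h1
    exact sub_eq_zero.1 (eq_zero_of_pow_eq_zero h1)
  set d := orderOf (q : ZMod r) with hd
  have hdN : d ∣ N := orderOf_dvd_of_pow_eq_one hqN
  have hdpos : 0 < d := Nat.pos_of_dvd_of_pos hdN hN
  have hd0 : (d : ZMod r) ≠ 0 := by
    intro h
    exact hrN (((ZMod.natCast_eq_zero_iff d r).1 h).trans hdN)
  set Φ := cyclotomic d ℤ with hΦ
  have hΦirr : Irreducible Φ := cyclotomic.irreducible hdpos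
  have hΦprime : Prime Φ := hΦirr.prime
  obtain ⟨k, hk⟩ : Φ ∣ X ^ N - 1 := by
    obtain ⟨t, rfl⟩ := hdN
    refine (cyclotomic.dvd_X_pow_sub_one d ℤ).trans ?_
    rw [pow_mul]
    have := sub_dvd_pow_sub_pow (X ^ d : ℤ[X]) 1 t
    rwa [one_pow] at this
  obtain ⟨g, hχg, hg⟩ := (FiniteMultiplicity.of_not_isUnit hΦirr.not_isUnit hχ0).exists_eq_pow_mul_and_not_dvd
  set b := multiplicity Φ χ with hb
  -- the cofactor does not vanish at `q`
  have hgk : g ∣ k ^ l := by
    apply dvd_of_dvd_pow_mul hΦprime hg l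
    rw [← mul_pow, ← hk]
    exact (Dvd.intro_left _ hχg.symm).trans hdvd
  have hNeZero : NeZero (d : ZMod r) := ⟨hd0⟩
  have hprim : IsPrimitiveRoot (q : ZMod r) d := IsPrimitiveRoot.orderOf _
  have hΦb : Φ.map π = cyclotomic d (ZMod r) := by
    rw [hΦ, map_cyclotomic]
  have hΦroot : (Φ.map π).IsRoot (q : ZMod r) := by
    rw [hΦb]
    exact (Polynomial.isRoot_cyclotomic_iff).2 hprim
  have hderiv := congrArg (fun P : (ZMod r)[X] => (derivative P).eval (q : ZMod r))
    (congrArg (Polynomial.map π) hk)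
  simp only [Polynomial.map_sub, Polynomial.map_pow, Polynomial.map_X, Polynomial.map_one, Polynomial.map_mul,
    derivative_mul, eval_add, eval_mul, derivative_sub, derivative_one, sub_zero, derivative_X_pow, eval_C,
    eval_pow, eval_X, show Polynomial.eval (q : ZMod r) (Φ.map π) = 0 from hΦroot, zero_mul, add_zero, map_natCast, eval_natCast] at hderiv
  have hNq : (N : ZMod r) * (q : ZMod r) ^ (N - 1) ≠ 0 := mul_ne_zero hN0 (pow_ne_zero _ hq0)
  have hkne : (k.map π).eval (q : ZMod r) ≠ 0 := by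
    intro h0
    rw [h0, mul_zero] at hderiv
    exact hNq hderiv
  have hΦ'ne : ((derivative (Φ.map π))).eval (q : ZMod r) ≠ 0 := by
    intro h0
    rw [h0, zero_mul] at hderiv
    exact hNq hderiv
  have hgne : (g.map π).eval (q : ZMod r) ≠ 0 := by
    intro h0
    obtain ⟨w, hw⟩ := hgk
    have h1 := congrArg (fun P : ℤ[X] => (P.map π).eval (q : ZMod r)) hw
    simp only [Polynomial.map_pow, Polynomial.map_mul, eval_pow, eval_mul, h0, zero_mul] at h1
    exact hkne (eq_zero_of_pow_eq_zero h1)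
  have hΦ0 : Φ.map π ≠ 0 := ((cyclotomic.monic d ℤ).map π).ne_zero
  have hg0 : g.map π ≠ 0 := by
    intro h0
    apply hgne
    rw [h0, eval_zero]
  have hrmΦ : (Φ.map π).rootMultiplicity (q : ZMod r) ≤ 1 := by
    by_contra hc
    push Not at hc
    exact hΦ'ne ((Polynomial.one_lt_rootMultiplicity_iff_isRoot hΦ0).1 hc).2
  have hrmg : (g.map π).rootMultiplicity (q : ZMod r) = 0 :=
    Polynomial.rootMultiplicity_eq_zero hgne
  have hχbe : χb = (Φ.map π) ^ b * g.map π := by
    rw [hχb, hχg, Polynomial.map_mul, Polynomial.map_pow]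
  have hle : e ≤ b := by
    rw [he, hχbe, Polynomial.rootMultiplicity_mul (by rw [← hχbe]; exact hχb0), rootMultiplicity_pow' hΦ0, hrmg,
      add_zero]
    calc b * (Φ.map π).rootMultiplicity (q : ZMod r) ≤ b * 1 := Nat.mul_le_mul_left _ hrmΦ
      _ = b := mul_one b
  exact (pow_dvd_pow Φ hle).trans (Dvd.intro _ hχg.symm)

/-- Bound for the multiplicity: `e * φ(d) ≤ l`. -/
theorem mult_mul_totient_le (A : Matrix (Fin l) (Fin l) ℤ) {N : ℕ} (hN : 0 < N) (hA : A ^ N = 1)
    {r : ℕ} [Fact r.Prime] (hrN : ¬ r ∣ N) (q : ℕ) (hq : ¬ r ∣ q) :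
    ((A.charpoly.map (Int.castRingHom (ZMod r))).rootMultiplicity (q : ZMod r)) *
      Nat.totient (orderOf (q : ZMod r)) ≤ l := by
  classical
  have h := cyclotomic_pow_dvd A hN hA hrN q hq
  have h1 := Polynomial.natDegree_le_of_dvd h A.charpoly_monic.ne_zero
  rw [Matrix.charpoly_natDegree_eq_dim, Fintype.card_fin, (cyclotomic.monic _ ℤ).natDegree_pow,
    natDegree_cyclotomic] at h1
  exact h1

/-- The eigenspace of the transpose modulo `r` has dimension at most the multiplicity of the root. -/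
theorem finrank_le_rootMultiplicity (A : Matrix (Fin l) (Fin l) ℤ) {r : ℕ} [Fact r.Prime] (a : ZMod r)
    (S : Submodule (ZMod r) (Fin l → ZMod r))
    (hS : ∀ f ∈ S, (A.map (Int.castRingHom (ZMod r)))ᵀ *ᵥ f = a • f) :
    Module.finrank (ZMod r) S ≤ (A.charpoly.map (Int.castRingHom (ZMod r))).rootMultiplicity a := by
  classical
  set B := (A.map (Int.castRingHom (ZMod r)))ᵀ with hB
  have hle : S ≤ Module.End.eigenspace (Matrix.toLin' B) a := by
    intro f hf
    rw [Module.End.mem_eigenspace_iff, Matrix.toLin'_apply]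
    exact hS f hf
  have h1 := Submodule.finrank_mono hle
  have h2 := LinearMap.finrank_eigenspace_le (Matrix.toLin' B : Module.End (ZMod r) (Fin l → ZMod r)) a
  have h3 : (Matrix.toLin' B).charpoly = A.charpoly.map (Int.castRingHom (ZMod r)) := by
    rw [Matrix.charpoly_toLin', hB, Matrix.charpoly_transpose, Matrix.charpoly_map]
  rw [h3] at h2
  exact h1.trans h2

/-- A polynomial whose power is divisible by the characteristic polynomial kills a matrix of finite order. -/
theorem aeval_eq_zero_of_dvd_pow (A : Matrix (Fin l) (Fin l) ℤ) {N : ℕ} (hN : 0 < N) (hA : A ^ N = 1)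
    (p : ℤ[X]) {m : ℕ} (hm : m ≠ 0) (h : A.charpoly ∣ p ^ m) : aeval A p = 0 := by
  classical
  set f : ℤ →+* ℚ := Int.castRingHom ℚ with hf
  set M : Matrix (Fin l) (Fin l) ℚ := f.mapMatrix A with hM
  have hMN : M ^ N = 1 := by
    rw [hM, ← map_pow, hA, map_one]
  have hint : IsIntegral ℚ M := Algebra.IsIntegral.isIntegral M
  have hμ1 : minpoly ℚ M ∣ X ^ N - 1 := by
    apply minpoly.dvd
    simp [hMN]
  have hsep : (X ^ N - 1 : ℚ[X]).Separable := by
    have := Polynomial.separable_X_pow_sub_C (n := N) (1 : ℚ) (by exact_mod_cast hN.ne') one_ne_zero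
    simpa using this
  have hsq : Squarefree (minpoly ℚ M) := hsep.squarefree.squarefree_of_dvd hμ1
  have hμ2 : minpoly ℚ M ∣ M.charpoly := Matrix.minpoly_dvd_charpoly M
  have hch : M.charpoly = A.charpoly.map f := by
    exact Matrix.charpoly_map A f
  have hμ3 : minpoly ℚ M ∣ (p.map f) ^ m := by
    refine hμ2.trans ?_
    rw [hch, ← Polynomial.map_pow]
    exact Polynomial.map_dvd f h
  have hμ4 : minpoly ℚ M ∣ p.map f := (hsq.dvd_pow_iff_dvd hm).1 hμ3
  have h0 : aeval M (p.map f) = 0 := by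
    obtain ⟨w, hw⟩ := hμ4
    rw [hw, map_mul, minpoly.aeval, zero_mul]
  have h1 : aeval M (p.map f) = f.mapMatrix (aeval A p) := by
    have := map_aeval_eq_aeval_map (R := ℤ) (S := Matrix (Fin l) (Fin l) ℤ) (T := ℚ)
      (U := Matrix (Fin l) (Fin l) ℚ) (φ := f) (ψ := f.mapMatrix) (RingHom.ext_int _ _) p A
    exact this.symm
  rw [h1] at h0
  have hinj : Function.Injective (f.mapMatrix : Matrix (Fin l) (Fin l) ℤ →+* Matrix (Fin l) (Fin l) ℚ) := by
    intro U V hUV
    ext i j
    have h3 := congrFun (congrFun hUV i) j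
    have h4 : f (U i j) = f (V i j) := h3
    exact (Int.cast_injective (α := ℚ)) h4
  apply hinj
  rw [h0, map_zero]

/-- **Homocyclic groups.** An abelian `r`-group of exponent dividing `r ^ v` and order `(r ^ v) ^ a` with at most `r ^ a`
solutions of `x ^ r = 1` is homocyclic of rank `a`. -/
theorem homocyclic_of {P : Type*} [CommGroup P] [Finite P] {r : ℕ} [Fact r.Prime] {v a : ℕ} (hv : 0 < v)
    (hexp : ∀ x : P, x ^ (r ^ v) = 1) (hcard : Nat.card P = (r ^ v) ^ a)
    (hΩ : Nat.card {x : P // x ^ r = 1} ≤ r ^ a) :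
    Nonempty (P ≃* (Fin a → Multiplicative (ZMod (r ^ v)))) := by
  classical
  have hr : r.Prime := Fact.out
  obtain ⟨ι, hι, n, hn, ⟨e⟩⟩ := CommGroup.equiv_prod_multiplicative_zmod_of_finite P
  -- each `n i` is a power of `r`
  have hnd : ∀ i, n i ∣ r ^ v := by
    intro i
    haveI : NeZero (n i) := ⟨by have := hn i; omega⟩
    let x : ∀ j, Multiplicative (ZMod (n j)) := Pi.mulSingle i (Multiplicative.ofAdd (1 : ZMod (n i)))
    have h1 : (e.symm x) ^ (r ^ v) = 1 := hexp _
    have h2 : x ^ (r ^ v) = 1 := by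
      have := congrArg e h1
      rwa [map_pow, e.apply_symm_apply, map_one] at this
    have h3 := congrFun h2 i
    simp only [Pi.pow_apply, Pi.one_apply, x, Pi.mulSingle_eq_same] at h3
    have h4 : ((r ^ v : ℕ) : ZMod (n i)) = 0 := by
      have h5 : Multiplicative.toAdd ((Multiplicative.ofAdd (1 : ZMod (n i))) ^ (r ^ v)) = 0 := by
        rw [h3]
        rfl
      simpa using h5
    exact (ZMod.natCast_eq_zero_iff _ _).1 h4
  choose w hw hwn using fun i => (Nat.dvd_prime_pow hr).1 (hnd i)
  have hw0 : ∀ i, 0 < w i := by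
    intro i
    rcases Nat.eq_zero_or_pos (w i) with h | h
    · have := hn i
      rw [hwn, h, pow_zero] at this
      omega
    · exact h
  -- the number of elements of order dividing `r`
  have hfin : ∀ i, NeZero (n i) := fun i => ⟨by have := hn i; omega⟩
  have hinj : Function.Injective (fun t : ι → Fin r => (⟨e.symm (fun i => Multiplicative.ofAdd
      (((t i : ℕ) * r ^ (w i - 1) : ℕ) : ZMod (n i))), by
        apply e.injective
        rw [map_pow, e.apply_symm_apply, map_one]
        funext i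
        simp only [Pi.pow_apply, Pi.one_apply]
        rw [← ofAdd_nsmul]
        have : r • (((t i : ℕ) * r ^ (w i - 1) : ℕ) : ZMod (n i)) = 0 := by
          rw [nsmul_eq_mul, ← Nat.cast_mul, ZMod.natCast_eq_zero_iff, hwn]
          have e1 : r ^ w i = r ^ (w i - 1) * r := by
            rw [← pow_succ, Nat.sub_add_cancel (hw0 i)]
          rw [e1]
          exact ⟨t i, by ring⟩
        rw [this]
        rfl⟩ : {x : P // x ^ r = 1})) := by
    intro t t' htt
    funext i
    have h1 := congrArg Subtype.val htt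
    have h2 := e.symm.injective h1
    have h3 := congrFun h2 i
    have h4 : (((t i : ℕ) * r ^ (w i - 1) : ℕ) : ZMod (n i)) = (((t' i : ℕ) * r ^ (w i - 1) : ℕ) : ZMod (n i)) :=
      Multiplicative.ofAdd.injective h3
    rw [ZMod.natCast_eq_natCast_iff, hwn] at h4
    have e1 : r ^ w i = r * r ^ (w i - 1) := by
      rw [← pow_succ', Nat.sub_add_cancel (hw0 i)]
    rw [e1] at h4
    have h5 : (t i : ℕ) ≡ t' i [MOD r] :=
      Nat.ModEq.mul_right_cancel' (pow_ne_zero _ hr.ne_zero) (by simpa [mul_comm] using h4)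
    have h6 : (t i : ℕ) = t' i := Nat.ModEq.eq_of_lt_of_lt h5 (t i).2 (t' i).2
    exact Fin.ext h6
  have hcardι : r ^ Fintype.card ι ≤ r ^ a := by
    have h1 := Nat.card_le_card_of_injective _ hinj
    rw [Nat.card_fun, Nat.card_fin, Nat.card_eq_fintype_card] at h1
    exact h1.trans hΩ
  have hιa : Fintype.card ι ≤ a := (Nat.pow_le_pow_iff_right hr.one_lt).1 hcardι
  -- the order
  have hcP : Nat.card P = ∏ i, n i := by
    rw [Nat.card_congr e.toEquiv, Nat.card_pi]
    apply Finset.prod_congr rfl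
    intro i _
    rw [Nat.card_congr Multiplicative.toAdd, Nat.card_zmod]
  have hsum : r ^ (∑ i, w i) = r ^ (v * a) := by
    rw [← Finset.prod_pow_eq_pow_sum, pow_mul, ← hcard, hcP]
    apply Finset.prod_congr rfl
    intro i _
    exact (hwn i).symm
  have hsum2 : ∑ i, w i = v * a := Nat.pow_right_injective hr.two_le hsum
  have hle : ∑ i, w i ≤ ∑ i : ι, v := Finset.sum_le_sum (fun i _ => hw i)
  rw [Finset.sum_const, Finset.card_univ, smul_eq_mul] at hle
  have hιa2 : Fintype.card ι = a := by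
    have h1 : v * a ≤ Fintype.card ι * v := by
      rw [← hsum2]
      exact hle
    have h2 : a ≤ Fintype.card ι := by
      rw [mul_comm] at h1
      exact Nat.le_of_mul_le_mul_right h1 hv
    omega
  have hwv : ∀ i, w i = v := by
    intro i
    by_contra hne
    have hlt : w i < v := lt_of_le_of_ne (hw i) hne
    have h1 : ∑ j, w j < ∑ j : ι, v := Finset.sum_lt_sum (fun j _ => hw j) ⟨i, Finset.mem_univ _, hlt⟩
    rw [Finset.sum_const, Finset.card_univ, smul_eq_mul, hιa2, hsum2, mul_comm] at h1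
    exact lt_irrefl _ h1
  have hnv : n = fun _ => r ^ v := by
    funext i
    rw [hwn, hwv]
  subst hnv
  exact ⟨e.trans (MulEquiv.arrowCongr (Fintype.equivFinOfCardEq hιa2) (MulEquiv.refl _))⟩

end Cfsg.Agent.Lib.S2378Alg91
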