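import Mathlib
import Cfsg.Agent.Lib.CharBasic
import Cfsg.Agent.Lib.CharInd
import Cfsg.Agent.Lib.CharValues
import Cfsg.Agent.Lib.CharAvg
import Cfsg.Agent.Lib.CharKernel

/-!
# Triangle groups of type `(3,3,3)` and the class algebra constants

* `tri`: if `a³ = b³ = (ab)³ = 1` in a finite group, then `a`, `b` are conjugate or some `y ≠ 1`
  commutes with both.
* `struct_formula2`: the class algebra constant through the irreducible characters.
* `char_values3`: the value of a character on a real element of order dividing `3`.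
-/

set_option autoImplicit false
set_option linter.unusedVariables false
set_option linter.unusedSectionVars false

namespace Cfsg.Agent.Lib.S3341Tri9

open Subgroup Cfsg Cfsg.Agent.Lib.CharBasic Cfsg.Agent.Lib.CharInd
open scoped ComplexConjugate

section Tri

variable {G : Type*} [Group G]

theorem prod3 (a : G) (h : a ^ 3 = 1) : a * a * a = 1 := by
  rw [← h]; simp [pow_succ]

/-- The relation coming from `(ab)³ = 1`. -/
theorem rel_aba {a b : G} (hab : (a * b) ^ 3 = 1) : a * b * a = b⁻¹ * a⁻¹ * b⁻¹ := by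
  have h0 := prod3 _ hab
  have h : a * b * a * (b * a * b) = 1 := by
    rw [← h0]; group
  have h2 : a * b * a = (b * a * b)⁻¹ := eq_inv_of_mul_eq_one_left h
  rw [h2]; group

theorem inv_eq_sq {a : G} (ha : a ^ 3 = 1) : a⁻¹ * a⁻¹ = a := by
  have h0 := prod3 _ ha
  have : a⁻¹ * a⁻¹ = (a * a * a) * (a⁻¹ * a⁻¹) := by rw [h0, one_mul]
  rw [this]; group

theorem comm_pq {a b : G} (ha : a ^ 3 = 1) (hb : b ^ 3 = 1) (hab : (a * b) ^ 3 = 1) :
    Commute (a * b⁻¹) (a⁻¹ * b) := by
  have h0 := prod3 _ hab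
  -- `b * a * b = a⁻¹ * b⁻¹ * a⁻¹`
  have h2 : b * a * b = a⁻¹ * b⁻¹ * a⁻¹ := by
    have h : b * a * b * (a * b * a) = 1 := by
      have : b * a * b * (a * b * a) = a⁻¹ * (a * b * (a * b) * (a * b)) * a := by group
      rw [this, h0]; group
    have h3 : b * a * b = (a * b * a)⁻¹ := eq_inv_of_mul_eq_one_left h
    rw [h3]; group
  show a * b⁻¹ * (a⁻¹ * b) = a⁻¹ * b * (a * b⁻¹)
  have h3 : a⁻¹ * b * (a * b⁻¹) = a⁻¹ * (b * a * b) * (b⁻¹ * b⁻¹) := by group
  rw [h3, h2, inv_eq_sq hb]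
  calc a * b⁻¹ * (a⁻¹ * b) = (a⁻¹ * a⁻¹) * b⁻¹ * a⁻¹ * b := by rw [inv_eq_sq ha]; group
    _ = _ := by group

/-- The triangle lemma. -/
theorem tri [Finite G] {a b : G} (ha : a ^ 3 = 1) (hb : b ^ 3 = 1) (hab : (a * b) ^ 3 = 1) :
    IsConj a b ∨ ∃ y : G, y ≠ 1 ∧ Commute y a ∧ Commute y b := by
  classical
  set p := a * b⁻¹ with hp
  set q := a⁻¹ * b with hq
  have hpq : Commute p q := comm_pq ha hb hab
  -- the abelian group generated by `p` and `q`
  let A : Subgroup G := closure ({p, q} : Set G)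
  have hcomm : ∀ x ∈ A, ∀ y ∈ A, x * y = y * x := by
    have h : ∀ x ∈ ({p, q} : Set G), ∀ y ∈ ({p, q} : Set G), x * y = y * x := by
      intro x hx y hy
      rcases hx with rfl | hx <;> rcases hy with rfl | hy
      · rfl
      · rw [Set.mem_singleton_iff.mp hy]; exact hpq
      · rw [Set.mem_singleton_iff.mp hx]; exact hpq.symm
      · rw [Set.mem_singleton_iff.mp hx, Set.mem_singleton_iff.mp hy]
    intro x hx y hy
    have hc : IsMulCommutative (closure ({p, q} : Set G)) := Subgroup.isMulCommutative_closure h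
    have := hc.is_comm.comm (⟨x, hx⟩ : closure ({p, q} : Set G)) ⟨y, hy⟩
    exact congrArg Subtype.val this
  have hpA : p ∈ A := subset_closure (by simp)
  have hqA : q ∈ A := subset_closure (by simp)
  -- conjugation by `a⁻¹` preserves `A`
  have hσ : ∀ y ∈ A, a⁻¹ * y * a ∈ A := by
    intro y hy
    induction hy using Subgroup.closure_induction with
    | mem x hx =>
      rcases hx with rfl | hx
      · have : a⁻¹ * p * a = q⁻¹ := by
          rw [hp, hq]; group
        rw [this]; exact A.inv_mem hqA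
      · rw [Set.mem_singleton_iff.mp hx]
        have ha2 : a⁻¹ * a⁻¹ = a := inv_eq_sq ha
        have : a⁻¹ * q * a = q⁻¹ * p := by
          have h1 : a⁻¹ * q * a = a * b * a := by
            rw [hq]
            calc a⁻¹ * (a⁻¹ * b) * a = (a⁻¹ * a⁻¹) * b * a := by group
              _ = a * b * a := by rw [ha2]
          have h2 : q⁻¹ * p = b⁻¹ * (a * a) * b⁻¹ := by
            rw [hp, hq]; group
          have h3 : a * a = a⁻¹ := by
            rw [eq_comm, inv_eq_iff_mul_eq_one]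
            have := prod3 a ha
            rw [← this]; group
          rw [h1, h2, h3]
          exact rel_aba hab
        rw [this]; exact A.mul_mem (A.inv_mem hqA) hpA
    | one => simp [A.one_mem]
    | mul x y _ _ hx hy =>
      have : a⁻¹ * (x * y) * a = (a⁻¹ * x * a) * (a⁻¹ * y * a) := by group
      rw [this]; exact A.mul_mem hx hy
    | inv x _ hx =>
      have : a⁻¹ * x⁻¹ * a = (a⁻¹ * x * a)⁻¹ := by group
      rw [this]; exact A.inv_mem hx
  -- the map
  let f : A → A := fun y => ⟨(a⁻¹ * y * a) * (y : G)⁻¹, A.mul_mem (hσ y y.2) (A.inv_mem y.2)⟩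
  by_cases hinj : Function.Injective f
  · left
    have hsurj : Function.Surjective f := Finite.injective_iff_surjective.mp hinj
    obtain ⟨y, hy⟩ := hsurj ⟨q, hqA⟩
    have h1 : (a⁻¹ * (y : G) * a) * (y : G)⁻¹ = q := congrArg Subtype.val hy
    refine isConj_iff.mpr ⟨y, ?_⟩
    have h2 : (y : G) * a * (y : G)⁻¹ = a * ((a⁻¹ * (y : G) * a) * (y : G)⁻¹) := by group
    rw [h2, h1, hq]; group
  · right
    rw [Function.Injective] at hinj
    push Not at hinj
    obtain ⟨y, z, hyz, hne⟩ := hinj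
    have h1 : (a⁻¹ * (y : G) * a) * (y : G)⁻¹ = (a⁻¹ * (z : G) * a) * (z : G)⁻¹ :=
      congrArg Subtype.val hyz
    have hne' : (y : G) ≠ z := fun h => hne (Subtype.ext h)
    refine ⟨(z : G)⁻¹ * y, ?_, ?_, ?_⟩
    · intro h
      apply hne'
      exact (inv_mul_eq_one.mp h).symm
    · -- the difference is fixed by `a`
      have hc1 : (a⁻¹ * (z : G) * a)⁻¹ * (a⁻¹ * (y : G) * a) = (z : G)⁻¹ * y := by
        have h2 : (a⁻¹ * (y : G) * a) = (a⁻¹ * (z : G) * a) * ((z : G)⁻¹ * y) := by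
          have := congrArg (· * (y : G)) h1
          simp only [inv_mul_cancel_right] at this
          rw [this]; group
        rw [h2]
        group
      have hc2 : a⁻¹ * ((z : G)⁻¹ * y) * a = (z : G)⁻¹ * y := by
        have h9 : a⁻¹ * ((z : G)⁻¹ * y) * a = (a⁻¹ * (z : G) * a)⁻¹ * (a⁻¹ * (y : G) * a) := by group
        rw [h9, hc1]
      show (z : G)⁻¹ * y * a = a * ((z : G)⁻¹ * y)
      calc (z : G)⁻¹ * y * a = a * (a⁻¹ * ((z : G)⁻¹ * y) * a) := by group
        _ = _ := by rw [hc2]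
    · -- `b = a q`
      have hmem : (z : G)⁻¹ * y ∈ A := A.mul_mem (A.inv_mem z.2) y.2
      have hc2 : Commute ((z : G)⁻¹ * y) a := by
        have hc1 : (a⁻¹ * (z : G) * a)⁻¹ * (a⁻¹ * (y : G) * a) = (z : G)⁻¹ * y := by
          have h2 : (a⁻¹ * (y : G) * a) = (a⁻¹ * (z : G) * a) * ((z : G)⁻¹ * y) := by
            have := congrArg (· * (y : G)) h1
            simp only [inv_mul_cancel_right] at this
            rw [this]; group
          rw [h2]
          group
        have hc2 : a⁻¹ * ((z : G)⁻¹ * y) * a = (z : G)⁻¹ * y := by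
          have h9 : a⁻¹ * ((z : G)⁻¹ * y) * a = (a⁻¹ * (z : G) * a)⁻¹ * (a⁻¹ * (y : G) * a) := by group
          rw [h9, hc1]
        show (z : G)⁻¹ * y * a = a * ((z : G)⁻¹ * y)
        calc (z : G)⁻¹ * y * a = a * (a⁻¹ * ((z : G)⁻¹ * y) * a) := by group
          _ = _ := by rw [hc2]
      have hc3 : Commute ((z : G)⁻¹ * y) q := hcomm _ hmem _ hqA
      have hb2 : b = a * q := by rw [hq]; group
      rw [hb2]
      exact hc2.mul_right hc3

end Tri

section Formula

variable {G : Type*} [Group G] [Fintype G]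

open scoped Classical in
/-- The structure constant formula for two elements, in the form of a double sum. -/
theorem struct_formula2 (g h z : G) :
    (Nat.card G : ℂ) * ((∑ a : G, ∑ b : G, (if z⁻¹ * (a * g * a⁻¹) * (b * h * b⁻¹) = 1 then 1 else 0) : ℕ) : ℂ)
      = (Nat.card G : ℂ) ^ 2 * ∑ χ : IrrCharacter G,
          (χ : G → ℂ) g * (χ : G → ℂ) h * (χ : G → ℂ) z⁻¹ / (χ : G → ℂ) 1 := by
  set N : ℂ := (Nat.card G : ℂ) with hN
  have hstep : ∀ a b : G, N * ((if z⁻¹ * (a * g * a⁻¹) * (b * h * b⁻¹) = 1 then 1 else 0 : ℕ) : ℂ) =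
      ∑ χ : IrrCharacter G, (χ : G → ℂ) 1 * (χ : G → ℂ) (z⁻¹ * (a * g * a⁻¹) * (b * h * b⁻¹)) := by
    intro a b
    rw [Cfsg.Agent.Lib.CharKernel.sum_irr_deg_mul]
    split_ifs <;> simp [hN]
  push_cast
  rw [Finset.mul_sum]
  simp only [Finset.mul_sum]
  have h1 : ∀ a b : G, N * (if z⁻¹ * (a * g * a⁻¹) * (b * h * b⁻¹) = 1 then (1 : ℂ) else 0) =
      ∑ χ : IrrCharacter G, (χ : G → ℂ) 1 * (χ : G → ℂ) (z⁻¹ * (a * g * a⁻¹) * (b * h * b⁻¹)) := by
    intro a b
    rw [← hstep a b]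
    split_ifs <;> simp
  simp only [h1]
  -- interchange
  have h2 : ∑ a : G, ∑ b : G, ∑ χ : IrrCharacter G,
      (χ : G → ℂ) 1 * (χ : G → ℂ) (z⁻¹ * (a * g * a⁻¹) * (b * h * b⁻¹)) =
      ∑ χ : IrrCharacter G, ∑ a : G, ((χ : G → ℂ) 1 * ∑ b : G,
        (χ : G → ℂ) ((z⁻¹ * (a * g * a⁻¹)) * (b * h * b⁻¹))) := by
    simp only [Finset.mul_sum]
    symm
    rw [Finset.sum_comm]
    refine Finset.sum_congr rfl fun a _ => ?_
    rw [Finset.sum_comm]
  rw [h2]
  refine Finset.sum_congr rfl fun χ _ => ?_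
  have hχ := χ.2
  have h3 : ∀ a : G, (χ : G → ℂ) 1 * ∑ b : G, (χ : G → ℂ) ((z⁻¹ * (a * g * a⁻¹)) * (b * h * b⁻¹)) =
      N * (χ : G → ℂ) (z⁻¹ * (a * g * a⁻¹)) * (χ : G → ℂ) h := fun a =>
    Cfsg.Agent.Lib.CharAvg.irr_avg hχ _ h
  simp only [h3]
  have h4 := Cfsg.Agent.Lib.CharAvg.irr_avg hχ z⁻¹ g
  have h5 := Cfsg.Agent.Lib.CharAvg.irr_one_ne_zero hχ
  have h6 : ∑ a : G, (χ : G → ℂ) (z⁻¹ * (a * g * a⁻¹)) =
      N * (χ : G → ℂ) z⁻¹ * (χ : G → ℂ) g / (χ : G → ℂ) 1 := by
    rw [eq_div_iff h5, mul_comm, h4]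
  rw [← Finset.sum_mul, ← Finset.mul_sum, h6]
  field_simp

end Formula

section Values

/-- Distribution of a family of cube roots of unity. -/
theorem cube_roots {ι : Type*} (s : Finset ι) (μ : ι → ℂ) (hμ : ∀ i ∈ s, μ i ^ 3 = 1)
    {ω : ℂ} (hω : ω ^ 2 + ω + 1 = 0) :
    ∃ a b d : ℕ, (s.card : ℂ) = a + b + d ∧ ∑ i ∈ s, μ i = (a : ℂ) + b * ω + d * ω ^ 2 := by
  classical
  induction s using Finset.induction_on with
  | empty => exact ⟨0, 0, 0, by simp⟩
  | insert x s hx ih =>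
    obtain ⟨a, b, d, h1, h2⟩ := ih fun i hi => hμ i (Finset.mem_insert_of_mem hi)
    have hx3 := hμ x (Finset.mem_insert_self _ _)
    have hcases : μ x = 1 ∨ μ x = ω ∨ μ x = ω ^ 2 := by
      have hω3 : ω ^ 3 = 1 := by linear_combination (ω - 1) * hω
      have : (μ x - 1) * ((μ x - ω) * (μ x - ω ^ 2)) = 0 := by
        linear_combination hx3 + (μ x - μ x ^ 2) * hω + (μ x - 1) * hω3
      rcases mul_eq_zero.mp this with h | h
      · left; exact sub_eq_zero.mp h
      rcases mul_eq_zero.mp h with h | h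
      · right; left; exact sub_eq_zero.mp h
      · right; right; exact sub_eq_zero.mp h
    rw [Finset.card_insert_of_notMem hx, Finset.sum_insert hx, h2]
    push_cast
    rw [h1]
    rcases hcases with h | h | h <;> rw [h]
    · exact ⟨a + 1, b, d, by push_cast; ring, by push_cast; ring⟩
    · exact ⟨a, b + 1, d, by push_cast; ring, by push_cast; ring⟩
    · exact ⟨a, b, d + 1, by push_cast; ring, by push_cast; ring⟩

/-- A primitive cube root of unity exists. -/
theorem exists_omega : ∃ ω : ℂ, ω ^ 2 + ω + 1 = 0 ∧ conj ω = ω ^ 2 ∧ ω ≠ ω ^ 2 := by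
  have hp := Complex.isPrimitiveRoot_exp 3 (by norm_num)
  set ω := Complex.exp (2 * Real.pi * Complex.I / ((3 : ℕ) : ℂ)) with hω
  have h3 : ω ^ 3 = 1 := hp.pow_eq_one
  have h1 : ω ≠ 1 := hp.ne_one (by norm_num)
  have h2 : ω ^ 2 + ω + 1 = 0 := by
    have : (ω - 1) * (ω ^ 2 + ω + 1) = 0 := by linear_combination h3
    exact (mul_eq_zero.mp this).resolve_left (sub_ne_zero.mpr h1)
  refine ⟨ω, h2, ?_, ?_⟩
  · have hn : ‖ω‖ = 1 := hp.norm'_eq_one (by norm_num)
    have h4 : ω * conj ω = 1 := by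
      rw [Complex.mul_conj, Complex.normSq_eq_norm_sq, hn]; simp
    have h5 : ω ≠ 0 := fun h => by rw [h] at hn; simp at hn
    have : ω * conj ω = ω * ω ^ 2 := by
      rw [h4]; rw [← h3]; ring
    exact mul_left_cancel₀ h5 this
  · intro h
    apply h1
    have h5 : ω ≠ 0 := fun h => by
      rw [h] at h3; norm_num at h3
    have : ω * 1 = ω * ω := by rw [mul_one, ← pow_two]; exact h
    exact (mul_left_cancel₀ h5 this).symm

/-- Values of a character on a real element of order dividing three. -/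
theorem char_values3 {G : Type*} [Group G] [Finite G] {χ : G → ℂ} (hχ : IsCharacter G χ) {c : G}
    (hc : c ^ 3 = 1) (hreal : IsConj c c⁻¹) :
    ∃ a b : ℕ, χ 1 = (a : ℂ) + 2 * b ∧ χ c = (a : ℂ) - b := by
  classical
  obtain ⟨n, ρ, rfl⟩ := id hχ
  obtain ⟨ω, hω, hconj, hne⟩ := exists_omega
  have h3 : (ρ c) ^ 3 = 1 := by rw [← map_pow, hc, map_one]
  obtain ⟨B, μ, h1, h2⟩ := Cfsg.Agent.Lib.CharValues.exists_eigenbasis (ρ c) (by norm_num) h3
  obtain ⟨a, b, d, h4, h5⟩ := cube_roots Finset.univ μ (fun i _ => h2 i) hω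
  have hval : ρ.character c = ∑ i, μ i :=
    Cfsg.Agent.Lib.CharValues.trace_eq_sum_of_eigenbasis (ρ c) B μ h1
  have hone : ρ.character 1 = ((Finset.univ : Finset (Fin (Module.finrank ℂ (Fin n → ℂ)))).card : ℂ) := by
    rw [char_one_eq_rep]
    simp
  have hc2 : conj (ρ.character c) = ρ.character c := by
    rw [char_conj_eq_inv hχ]
    obtain ⟨h, hh⟩ := isConj_iff.mp hreal
    rw [← hh]
    exact isClassFunction_of_isCharacter hχ c h
  have hω4 : ω ^ 4 = ω := by
    have h : ω ^ 3 = 1 := by linear_combination (ω - 1) * hω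
    calc ω ^ 4 = ω ^ 3 * ω := by ring
      _ = ω := by rw [h, one_mul]
  have hbd : (b : ℂ) = d := by
    rw [hval, h5] at hc2
    simp only [map_add, map_mul, map_pow, hconj, Complex.conj_natCast] at hc2
    rw [← pow_mul] at hc2
    norm_num at hc2
    rw [hω4] at hc2
    have h7 : ((b : ℂ) - d) * (ω - ω ^ 2) = 0 := by
      linear_combination -hc2
    have h8 := (mul_eq_zero.mp h7).resolve_right (sub_ne_zero.mpr hne)
    exact sub_eq_zero.mp h8
  refine ⟨a, b, ?_, ?_⟩
  · rw [hone, h4, ← hbd]; ring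
  · rw [hval, h5, ← hbd]; linear_combination (b : ℂ) * hω

end Values

section Pattern

variable {ι : Type*} [Fintype ι] [DecidableEq ι]

/-- The pattern of the values of the irreducible characters on two non-conjugate real elements of order
three with centralizers of order nine. -/
theorem pat (U V D : ι → ℤ) (i₀ : ι) (hU0 : U i₀ = 1) (hV0 : V i₀ = 1) (hD : ∀ i, 0 < D i)
    (h3 : ∀ i, (3 : ℤ) ∣ U i - V i) (hUU : ∑ i, U i ^ 2 = 9) (hVV : ∑ i, V i ^ 2 = 9)
    (hUV : ∑ i, U i * V i = 0) (hDU : ∑ i, D i * U i = 0) (hDV : ∑ i, D i * V i = 0) :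
    ∃ (a b : ι) (δ : ℤ), a ≠ b ∧ a ≠ i₀ ∧ b ≠ i₀ ∧ (δ = 1 ∨ δ = -1) ∧ D a = D b ∧
      U a = 2 * δ ∧ V a = -δ ∧ U b = -δ ∧ V b = 2 * δ ∧ (∀ i, i ≠ a → i ≠ b → U i = V i) := by
  choose w hw using h3
  have hw2 : ∑ i, w i ^ 2 = 2 := by
    have h : ∑ i, (U i - V i) ^ 2 = 18 := by
      have : ∀ i, (U i - V i) ^ 2 = U i ^ 2 + V i ^ 2 - 2 * (U i * V i) := fun i => by ring
      simp only [this, Finset.sum_sub_distrib, Finset.sum_add_distrib, ← Finset.mul_sum, hUU, hVV, hUV]
      norm_num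
    have h2 : ∑ i, (U i - V i) ^ 2 = 9 * ∑ i, w i ^ 2 := by
      rw [Finset.mul_sum]
      refine Finset.sum_congr rfl fun i _ => ?_
      rw [hw i]; ring
    linarith
  -- the support has two elements
  set T := Finset.univ.filter fun i => w i ≠ 0 with hT
  have hsum : ∑ i ∈ T, w i ^ 2 = 2 := by
    rw [← hw2, hT, Finset.sum_filter]
    refine Finset.sum_congr rfl fun i _ => ?_
    split_ifs with h
    · rfl
    · push Not at h; rw [h]; ring
  have hge : ∀ i ∈ T, 1 ≤ w i ^ 2 := by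
    intro i hi
    have h : w i ≠ 0 := (Finset.mem_filter.mp hi).2
    have : 0 < w i ^ 2 := by positivity
    omega
  have hcard : T.card = 2 := by
    have h1 : (T.card : ℤ) ≤ 2 := by
      have : ∑ i ∈ T, (1 : ℤ) ≤ ∑ i ∈ T, w i ^ 2 := Finset.sum_le_sum hge
      simpa [hsum] using this
    have h0 : T.card ≠ 0 := by
      intro h
      rw [Finset.card_eq_zero.mp h] at hsum
      simp at hsum
    have h11 : T.card ≠ 1 := by
      intro h
      obtain ⟨x, hx⟩ := Finset.card_eq_one.mp h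
      rw [hx, Finset.sum_singleton] at hsum
      have h5 : w x ≤ 1 ∧ -1 ≤ w x ∨ 2 ≤ w x ∨ w x ≤ -2 := by omega
      rcases h5 with ⟨h6, h7⟩ | h6 | h6
      · have : w x = -1 ∨ w x = 0 ∨ w x = 1 := by omega
        rcases this with h8 | h8 | h8 <;> rw [h8] at hsum <;> norm_num at hsum
      · nlinarith
      · nlinarith
    omega
  obtain ⟨a₀, b₀, hab₀, hTeq⟩ := Finset.card_eq_two.mp hcard
  have hsum2 : w a₀ ^ 2 + w b₀ ^ 2 = 2 := by
    rw [hTeq, Finset.sum_pair hab₀] at hsum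
    exact hsum
  have ha₀T : a₀ ∈ T := by rw [hTeq]; simp
  have hb₀T : b₀ ∈ T := by rw [hTeq]; simp
  have hoff : ∀ i, i ≠ a₀ → i ≠ b₀ → w i = 0 := by
    intro i h1 h2
    by_contra h
    have : i ∈ T := Finset.mem_filter.mpr ⟨Finset.mem_univ _, h⟩
    rw [hTeq] at this
    simp at this
    tauto
  -- a helper for sums supported on the two elements
  have hsumw : ∀ f : ι → ℤ, ∑ i, f i * w i = f a₀ * w a₀ + f b₀ * w b₀ := by
    intro f
    have h1 : ∑ i, f i * w i = ∑ i ∈ T, f i * w i := by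
      rw [hT, Finset.sum_filter]
      refine Finset.sum_congr rfl fun i _ => ?_
      split_ifs with h
      · rfl
      · push Not at h; rw [h]; ring
    rw [h1, hTeq, Finset.sum_pair hab₀]
  have ha1 : w a₀ ^ 2 = 1 := by
    have h1 := hge a₀ ha₀T
    have h2 := hge b₀ hb₀T
    omega
  have hb1 : w b₀ ^ 2 = 1 := by
    have h1 := hge a₀ ha₀T
    have h2 := hge b₀ hb₀T
    omega
  have hsq : ∀ z : ℤ, z ^ 2 = 1 → z = 1 ∨ z = -1 := fun z hz => by
    have h : (z - 1) * (z + 1) = 0 := by linear_combination hz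
    rcases mul_eq_zero.mp h with h | h
    · left; omega
    · right; omega
  have hDw : D a₀ * w a₀ + D b₀ * w b₀ = 0 := by
    rw [← hsumw D]
    have h : ∑ i, D i * (3 * w i) = 0 := by
      have : ∀ i, D i * (3 * w i) = D i * U i - D i * V i := fun i => by rw [← hw i]; ring
      simp only [this, Finset.sum_sub_distrib, hDU, hDV]
      norm_num
    have h2 : ∑ i, D i * (3 * w i) = 3 * ∑ i, D i * w i := by
      rw [Finset.mul_sum]
      exact Finset.sum_congr rfl fun i _ => by ring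
    linarith
  -- normalize the signs
  have key : ∃ a b : ι, a ≠ b ∧ w a = 1 ∧ w b = -1 ∧ D a = D b ∧ (∀ i, i ≠ a → i ≠ b → w i = 0) ∧
      (∀ f : ι → ℤ, ∑ i, f i * w i = f a - f b) := by
    have hDa := hD a₀
    have hDb := hD b₀
    rcases hsq _ ha1 with h1 | h1 <;> rcases hsq _ hb1 with h2 | h2
    · rw [h1, h2] at hDw; omega
    · refine ⟨a₀, b₀, hab₀, h1, h2, ?_, hoff, fun f => ?_⟩
      · rw [h1, h2] at hDw; omega
      · rw [hsumw, h1, h2]; ring
    · refine ⟨b₀, a₀, hab₀.symm, h2, h1, ?_, fun i h3 h4 => hoff i h4 h3, fun f => ?_⟩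
      · rw [h1, h2] at hDw; omega
      · rw [hsumw, h1, h2]; ring
    · rw [h1, h2] at hDw; omega
  obtain ⟨a, b, hab, hwa, hwb, hDab, hoff2, hsumf⟩ := key
  have hUab : U a - U b = 3 := by
    rw [← hsumf U]
    have h : ∑ i, U i * (3 * w i) = 9 := by
      have : ∀ i, U i * (3 * w i) = U i ^ 2 - U i * V i := fun i => by rw [← hw i]; ring
      simp only [this, Finset.sum_sub_distrib, hUU, hUV]
      norm_num
    have h2 : ∑ i, U i * (3 * w i) = 3 * ∑ i, U i * w i := by
      rw [Finset.mul_sum]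
      exact Finset.sum_congr rfl fun i _ => by ring
    linarith
  have hVa : V a = U a - 3 := by
    have := hw a
    rw [hwa] at this
    omega
  have hVb : V b = U b + 3 := by
    have := hw b
    rw [hwb] at this
    omega
  have hw0 : w i₀ = 0 := by
    have := hw i₀
    rw [hU0, hV0] at this
    omega
  have hai : a ≠ i₀ := fun h => by rw [h, hw0] at hwa; omega
  have hbi : b ≠ i₀ := fun h => by rw [h, hw0] at hwb; omega
  have hbound : U a ^ 2 + U b ^ 2 + 1 ≤ 9 := by
    rw [← hUU]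
    have hsub : ({a, b, i₀} : Finset ι) ⊆ Finset.univ := Finset.subset_univ _
    have h1 := Finset.sum_le_sum_of_subset_of_nonneg (f := fun i => U i ^ 2) hsub
      (fun i _ _ => sq_nonneg (U i))
    have h2 : ∑ i ∈ ({a, b, i₀} : Finset ι), U i ^ 2 = U a ^ 2 + U b ^ 2 + 1 := by
      rw [Finset.sum_insert, Finset.sum_pair hbi, hU0]
      · ring
      · simp [hab, hai]
    rw [h2] at h1
    exact h1
  have hc : U b = -1 ∨ U b = -2 := by
    have hUa : U a = U b + 3 := by omega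
    rw [hUa] at hbound
    have h1 : U b ≤ 2 := by nlinarith
    have h2 : -2 ≤ U b := by nlinarith
    interval_cases h : U b
    · right; rfl
    · left; rfl
    · norm_num at hbound
    · norm_num at hbound
    · norm_num at hbound
  have hoffUV : ∀ i, i ≠ a → i ≠ b → U i = V i := by
    intro i h1 h2
    have := hw i
    rw [hoff2 i h1 h2] at this
    omega
  rcases hc with hc | hc
  · refine ⟨a, b, 1, hab, hai, hbi, Or.inl rfl, hDab, ?_, ?_, ?_, ?_, hoffUV⟩ <;> omega
  · refine ⟨b, a, -1, hab.symm, hbi, hai, Or.inr rfl, hDab.symm, ?_, ?_, ?_, ?_,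
      fun i h1 h2 => hoffUV i h2 h1⟩ <;> omega

end Pattern

end Cfsg.Agent.Lib.S3341Tri9
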