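import Mathlib
import Cfsg.Agent.Lib.S3341Tri9

/-!
# The arithmetic of the two cases
-/

set_option autoImplicit false
set_option linter.unusedVariables false
set_option linter.unusedSectionVars false

namespace Cfsg.Agent.Lib.S3341Num9

open Cfsg.Agent.Lib.S3341Tri9

variable {ι : Type*} [Fintype ι] [DecidableEq ι]

/-- Splitting off three terms. -/
theorem sum3 {M : Type*} [AddCommMonoid M] (f : ι → M) {i₀ a b : ι} (h1 : a ≠ i₀) (h2 : b ≠ i₀) (h3 : a ≠ b) :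
    ∑ i, f i = f i₀ + (f a + (f b + ∑ i ∈ ((Finset.univ.erase i₀).erase a).erase b, f i)) := by
  rw [← Finset.add_sum_erase Finset.univ f (Finset.mem_univ i₀),
    ← Finset.add_sum_erase (Finset.univ.erase i₀) f (Finset.mem_erase.mpr ⟨h1, Finset.mem_univ _⟩),
    ← Finset.add_sum_erase ((Finset.univ.erase i₀).erase a) f
      (Finset.mem_erase.mpr ⟨h3.symm, Finset.mem_erase.mpr ⟨h2, Finset.mem_univ _⟩⟩)]

/-- Splitting off four terms. -/
theorem sum4 {M : Type*} [AddCommMonoid M] (f : ι → M) {i₀ a b c : ι} (h1 : a ≠ i₀) (h2 : b ≠ i₀) (h3 : a ≠ b)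
    (h4 : c ≠ i₀) (h5 : c ≠ a) (h6 : c ≠ b) :
    ∑ i, f i = f i₀ + (f a + (f b + (f c + ∑ i ∈ (((Finset.univ.erase i₀).erase a).erase b).erase c, f i))) := by
  rw [sum3 f h1 h2 h3,
    ← Finset.add_sum_erase (((Finset.univ.erase i₀).erase a).erase b) f
      (Finset.mem_erase.mpr ⟨h6, Finset.mem_erase.mpr ⟨h5, Finset.mem_erase.mpr ⟨h4, Finset.mem_univ _⟩⟩⟩)]

/-- Bound on the remaining values. -/
theorem rest_sq (U : ι → ℤ) {i₀ a b : ι} (hU : ∑ i, U i ^ 2 = 9) (h0 : U i₀ ^ 2 = 1) (ha : U a ^ 2 = 4)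
    (hb : U b ^ 2 = 1) (h1 : a ≠ i₀) (h2 : b ≠ i₀) (h3 : a ≠ b) {i : ι} (hi0 : i ≠ i₀) (hia : i ≠ a) (hib : i ≠ b) :
    U i ^ 2 ≤ 3 := by
  have h := sum3 (fun i => U i ^ 2) h1 h2 h3
  simp only [hU, h0, ha, hb] at h
  have h4 : U i ^ 2 ≤ ∑ j ∈ ((Finset.univ.erase i₀).erase a).erase b, U j ^ 2 :=
    Finset.single_le_sum (f := fun j => U j ^ 2) (fun j _ => sq_nonneg _)
      (Finset.mem_erase.mpr ⟨hib, Finset.mem_erase.mpr ⟨hia, Finset.mem_erase.mpr ⟨hi0, Finset.mem_univ _⟩⟩⟩)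
  linarith

/-- The lower bound in the case of two classes. -/
theorem caseA_bound (U V D : ι → ℤ) {i₀ a b : ι} {δ : ℤ} (hU0 : U i₀ = 1) (hV0 : V i₀ = 1) (hD0 : D i₀ = 1)
    (hD : ∀ i, 0 < D i) (hUU : ∑ i, U i ^ 2 = 9)
    (hab : a ≠ b) (hai : a ≠ i₀) (hbi : b ≠ i₀) (hδ : δ = 1 ∨ δ = -1) (hDab : D a = D b)
    (hUa : U a = 2 * δ) (hVa : V a = -δ) (hUb : U b = -δ) (hVb : V b = 2 * δ)
    (hoff : ∀ i, i ≠ a → i ≠ b → U i = V i)
    (hmod : ∀ i, ∃ k : ℤ, D i + 4 * U i + 4 * V i = 9 * k) :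
    (9 / 40 : ℚ) ≤ ∑ i, ((U i ^ 2 * V i : ℤ) : ℚ) / (D i : ℚ) := by
  have hδ2 : δ ^ 2 = 1 := by rcases hδ with rfl | rfl <;> norm_num
  have hsq := sum3 (fun i => U i ^ 2) hai hbi hab
  simp only [hUU, hU0, hUa, hUb] at hsq
  have hK : ∑ i ∈ ((Finset.univ.erase i₀).erase a).erase b, U i ^ 2 = 3 := by
    have : (2 * δ) ^ 2 = 4 := by linear_combination 4 * hδ2
    have h2 : (-δ) ^ 2 = 1 := by linear_combination hδ2
    rw [this, h2] at hsq
    linarith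
  have hsplit := sum3 (fun i => ((U i ^ 2 * V i : ℤ) : ℚ) / (D i : ℚ)) hai hbi hab
  rw [hsplit, hU0, hV0, hD0, hUa, hVa, hUb, hVb, ← hDab]
  have hWpos : (0 : ℚ) < D a := by exact_mod_cast hD a
  -- the remaining sum
  have hrest : (-(3 / 8) : ℚ) ≤ ∑ i ∈ ((Finset.univ.erase i₀).erase a).erase b,
      ((U i ^ 2 * V i : ℤ) : ℚ) / (D i : ℚ) := by
    have h1 : ∑ i ∈ ((Finset.univ.erase i₀).erase a).erase b, (-(1 / 8 : ℚ)) * ((U i ^ 2 : ℤ) : ℚ) ≤
        ∑ i ∈ ((Finset.univ.erase i₀).erase a).erase b, ((U i ^ 2 * V i : ℤ) : ℚ) / (D i : ℚ) := by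
      refine Finset.sum_le_sum fun i hi => ?_
      have hib : i ≠ b := (Finset.mem_erase.mp hi).1
      have hia : i ≠ a := (Finset.mem_erase.mp (Finset.mem_erase.mp hi).2).1
      have hi0 : i ≠ i₀ := (Finset.mem_erase.mp (Finset.mem_erase.mp (Finset.mem_erase.mp hi).2).2).1
      have hb3 : U i ^ 2 ≤ 3 := by
        have hi' : i ∈ ((Finset.univ.erase i₀).erase a).erase b := hi
        calc U i ^ 2 ≤ ∑ j ∈ ((Finset.univ.erase i₀).erase a).erase b, U j ^ 2 :=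
              Finset.single_le_sum (f := fun j => U j ^ 2) (fun j _ => sq_nonneg _) hi'
          _ = 3 := hK
      have hV := hoff i hia hib
      have hDi : (0 : ℚ) < D i := by exact_mod_cast hD i
      have hcases : U i = 0 ∨ U i = 1 ∨ U i = -1 := by
        have h1 : U i ≤ 1 := by nlinarith
        have h2 : -1 ≤ U i := by nlinarith
        omega
      rw [← hV]
      rcases hcases with h | h | h
      · rw [h]; norm_num
      · rw [h]
        norm_num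
        have : (0 : ℚ) ≤ 1 / (D i : ℚ) := by positivity
        have h3 : (0 : ℚ) ≤ (D i : ℚ)⁻¹ := by positivity
        linarith
      · obtain ⟨k, hk⟩ := hmod i
        rw [← hV, h] at hk
        have hD8 : 8 ≤ D i := by
          have := hD i
          omega
        rw [h]
        have hD8' : (8 : ℚ) ≤ D i := by exact_mod_cast hD8
        have h9 : (D i : ℚ)⁻¹ ≤ 8⁻¹ := inv_anti₀ (by norm_num) hD8'
        have e1 : ((((-1 : ℤ) ^ 2 : ℤ) : ℚ)) = 1 := by norm_num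
        have e2 : ((((-1 : ℤ) ^ 2 * (-1) : ℤ) : ℚ)) / (D i : ℚ) = -(D i : ℚ)⁻¹ := by
          push_cast; ring
        rw [e1, e2]
        norm_num at h9 ⊢
        linarith
    have h2 : ∑ i ∈ ((Finset.univ.erase i₀).erase a).erase b, (-(1 / 8 : ℚ)) * ((U i ^ 2 : ℤ) : ℚ) = -(3 / 8) := by
      rw [← Finset.mul_sum, ← Int.cast_sum, hK]; norm_num
    linarith
  -- the two special characters
  have hspecial : (-(2 / 5) : ℚ) ≤ (((2 * δ) ^ 2 * -δ : ℤ) : ℚ) / (D a : ℚ) + (((-δ) ^ 2 * (2 * δ) : ℤ) : ℚ) / (D a : ℚ) := by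
    obtain ⟨k, hk⟩ := hmod a
    rw [hUa, hVa] at hk
    rcases hδ with rfl | rfl
    · have hW5 : 5 ≤ D a := by
        have := hD a
        omega
      have hW5' : (5 : ℚ) ≤ D a := by exact_mod_cast hW5
      have h3 : (D a : ℚ)⁻¹ ≤ 5⁻¹ := inv_anti₀ (by norm_num) hW5'
      norm_num at h3 ⊢
      have h4 : (-4 : ℚ) / (D a : ℚ) + 2 / (D a : ℚ) = -2 * (D a : ℚ)⁻¹ := by
        field_simp; ring
      rw [h4]
      linarith
    · norm_num
      have h3 : (0 : ℚ) ≤ (D a : ℚ)⁻¹ := by positivity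
      have h4 : (4 : ℚ) / (D a : ℚ) + (-2) / (D a : ℚ) = 2 * (D a : ℚ)⁻¹ := by
        field_simp; ring
      rw [h4]
      linarith
  norm_num at hspecial hrest ⊢
  linarith

/-- Extension of the pattern to three elements. -/
theorem pat3 (U V Z D : ι → ℤ) (i₀ : ι) (hU0 : U i₀ = 1) (hV0 : V i₀ = 1) (hZ0 : Z i₀ = 1) (hD : ∀ i, 0 < D i)
    (h3 : ∀ i, (3 : ℤ) ∣ U i - V i) (h3' : ∀ i, (3 : ℤ) ∣ U i - Z i) (h3'' : ∀ i, (3 : ℤ) ∣ V i - Z i)
    (hUU : ∑ i, U i ^ 2 = 9) (hVV : ∑ i, V i ^ 2 = 9) (hZZ : ∑ i, Z i ^ 2 = 9)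
    (hUV : ∑ i, U i * V i = 0) (hUZ : ∑ i, U i * Z i = 0) (hVZ : ∑ i, V i * Z i = 0)
    (hDU : ∑ i, D i * U i = 0) (hDV : ∑ i, D i * V i = 0) (hDZ : ∑ i, D i * Z i = 0) :
    ∃ (a b c : ι) (δ : ℤ), a ≠ b ∧ c ≠ a ∧ c ≠ b ∧ a ≠ i₀ ∧ b ≠ i₀ ∧ c ≠ i₀ ∧ (δ = 1 ∨ δ = -1) ∧
      D a = D b ∧ D a = D c ∧
      U a = 2 * δ ∧ V a = -δ ∧ U b = -δ ∧ V b = 2 * δ ∧ U c = -δ ∧ V c = -δ ∧
      (∀ i, i ≠ a → i ≠ b → i ≠ c → U i = V i) := by
  obtain ⟨a, b, δ, hab, hai, hbi, hδ, hDab, hUa, hVa, hUb, hVb, hoff⟩ :=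
    pat U V D i₀ hU0 hV0 hD h3 hUU hVV hUV hDU hDV
  obtain ⟨a₂, c, δ₂, hac, hai₂, hci, hδ₂, hDac, hUa₂, hZa₂, hUc, hZc, hoff₂⟩ :=
    pat U Z D i₀ hU0 hZ0 hD h3' hUU hZZ hUZ hDU hDZ
  obtain ⟨b₃, c₃, δ₃, hbc, hbi₃, hci₃, hδ₃, hDbc, hVb₃, hZb₃, hVc₃, hZc₃, hoff₃⟩ :=
    pat V Z D i₀ hV0 hZ0 hD h3'' hVV hZZ hVZ hDV hDZ
  have hsqδ : ∀ d : ℤ, (d = 1 ∨ d = -1) → d ^ 2 = 1 := fun d hd => by
    rcases hd with rfl | rfl <;> norm_num
  have h40 : ∀ d : ℤ, (d = 1 ∨ d = -1) → (2 * d) ^ 2 = 4 := fun d hd => by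
    rcases hd with rfl | rfl <;> norm_num
  have h41 : ∀ d : ℤ, (d = 1 ∨ d = -1) → (-d) ^ 2 = 1 := fun d hd => by
    rcases hd with rfl | rfl <;> norm_num
  -- `a₂ = a`
  have ha₂ : a₂ = a := by
    by_contra hne
    have hb : a₂ ≠ b := by
      rintro rfl
      rw [hUa₂] at hUb
      rcases hδ with rfl | rfl <;> rcases hδ₂ with rfl | rfl <;> omega
    have := rest_sq U (i₀ := i₀) (a := a) (b := b) hUU (by rw [hU0]; norm_num) (by rw [hUa]; exact h40 δ hδ)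
      (by rw [hUb]; exact h41 δ hδ) hai hbi hab hai₂ hne hb
    rw [hUa₂, h40 δ₂ hδ₂] at this
    omega
  subst ha₂
  have hδδ₂ : δ₂ = δ := by
    rw [hUa] at hUa₂
    omega
  subst hδδ₂
  -- `b₃ = b`
  have hb₃ : b₃ = b := by
    by_contra hne
    have ha' : b₃ ≠ a₂ := by
      rintro rfl
      rw [hVb₃] at hVa
      rcases hδ with rfl | rfl <;> rcases hδ₃ with rfl | rfl <;> omega
    have := rest_sq V (i₀ := i₀) (a := b) (b := a₂) hVV (by rw [hV0]; norm_num) (by rw [hVb]; exact h40 δ₂ hδ)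
      (by rw [hVa]; exact h41 δ₂ hδ) hbi hai hab.symm hbi₃ hne ha'
    rw [hVb₃, h40 δ₃ hδ₃] at this
    omega
  subst hb₃
  have hδ₃' : δ₃ = δ₂ := by
    rw [hVb] at hVb₃
    omega
  subst hδ₃'
  -- `c₃ = c`
  have hc₃ : c₃ = c := by
    by_contra hne
    have ha' : c₃ ≠ a₂ := by
      rintro rfl
      rw [hZc₃] at hZa₂
      rcases hδ with rfl | rfl <;> omega
    have := rest_sq Z (i₀ := i₀) (a := c) (b := a₂) hZZ (by rw [hZ0]; norm_num) (by rw [hZc]; exact h40 δ₃ hδ)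
      (by rw [hZa₂]; exact h41 δ₃ hδ) hci hai hac.symm hci₃ hne ha'
    rw [hZc₃, h40 δ₃ hδ] at this
    omega
  subst hc₃
  refine ⟨a₂, b₃, c₃, δ₃, hab, hac.symm, hbc.symm, hai, hbi, hci, hδ, hDab, hDac, hUa, hVa, hUb, hVb, hUc, hVc₃, ?_⟩
  intro i h1 h2 h3
  exact hoff i h1 h2

/-- The contradiction in the case of at least three classes. -/
theorem caseB_ne (U V D : ι → ℤ) {i₀ a b c : ι} {δ : ℤ} (hU0 : U i₀ = 1) (hV0 : V i₀ = 1) (hD0 : D i₀ = 1)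
    (hD : ∀ i, i ≠ i₀ → 2 ≤ D i) (hUU : ∑ i, U i ^ 2 = 9) (hDU : ∑ i, D i * U i = 0)
    (hab : a ≠ b) (hca : c ≠ a) (hcb : c ≠ b) (hai : a ≠ i₀) (hbi : b ≠ i₀) (hci : c ≠ i₀) (hδ : δ = 1 ∨ δ = -1)
    (hDab : D a = D b) (hDac : D a = D c)
    (hUa : U a = 2 * δ) (hVa : V a = -δ) (hUb : U b = -δ) (hVb : V b = 2 * δ) (hUc : U c = -δ) (hVc : V c = -δ)
    (hoff : ∀ i, i ≠ a → i ≠ b → i ≠ c → U i = V i) :
    ∑ i, ((U i ^ 2 * V i : ℤ) : ℚ) / (D i : ℚ) ≠ 0 := by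
  have hδ2 : δ ^ 2 = 1 := by rcases hδ with rfl | rfl <;> norm_num
  set R := (((Finset.univ.erase i₀).erase a).erase b).erase c with hR
  have hmemR : ∀ i ∈ R, i ≠ c ∧ i ≠ b ∧ i ≠ a ∧ i ≠ i₀ := by
    intro i hi
    rw [hR] at hi
    have h1 := Finset.mem_erase.mp hi
    have h2 := Finset.mem_erase.mp h1.2
    have h3 := Finset.mem_erase.mp h2.2
    have h4 := Finset.mem_erase.mp h3.2
    exact ⟨h1.1, h2.1, h3.1, h4.1⟩
  have hsq := sum4 (fun i => U i ^ 2) hai hbi hab hci hca hcb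
  simp only [hUU, hU0, hUa, hUb, hUc] at hsq
  have hK : ∑ i ∈ R, U i ^ 2 = 2 := by
    have : (2 * δ) ^ 2 = 4 := by linear_combination 4 * hδ2
    have h2 : (-δ) ^ 2 = 1 := by linear_combination hδ2
    rw [this, h2] at hsq
    linarith
  have hdu := sum4 (fun i => D i * U i) hai hbi hab hci hca hcb
  simp only [hDU, hU0, hUa, hUb, hUc, hD0, ← hDab, ← hDac] at hdu
  have hKd : ∑ i ∈ R, D i * U i = -1 := by
    linarith
  -- the support
  set T := R.filter fun i => U i ≠ 0 with hT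
  have hTsum : ∀ f : ι → ℤ, (∀ i, U i = 0 → f i = 0) → ∑ i ∈ R, f i = ∑ i ∈ T, f i := by
    intro f hf
    rw [hT, Finset.sum_filter]
    refine Finset.sum_congr rfl fun i _ => ?_
    split_ifs with h
    · rfl
    · push Not at h; exact hf i h
  have hval : ∀ i ∈ T, U i = 1 ∨ U i = -1 := by
    intro i hi
    have h1 := (Finset.mem_filter.mp hi).2
    have h2 := (Finset.mem_filter.mp hi).1
    have hb2 : U i ^ 2 ≤ 2 := by
      calc U i ^ 2 ≤ ∑ j ∈ R, U j ^ 2 :=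
            Finset.single_le_sum (f := fun j => U j ^ 2) (fun j _ => sq_nonneg _) h2
        _ = 2 := hK
    have h3 : U i ≤ 1 := by nlinarith
    have h4 : -1 ≤ U i := by nlinarith
    omega
  have hTcard : T.card = 2 := by
    have h1 := hTsum (fun i => U i ^ 2) (fun i h => by simp [h])
    rw [hK] at h1
    have h2 : ∑ i ∈ T, U i ^ 2 = ∑ i ∈ T, (1 : ℤ) := by
      refine Finset.sum_congr rfl fun i hi => ?_
      rcases hval i hi with h | h <;> rw [h] <;> norm_num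
    rw [h2] at h1
    simp at h1
    omega
  obtain ⟨p, q, hpq, hTeq⟩ := Finset.card_eq_two.mp hTcard
  have hpT : p ∈ T := by rw [hTeq]; simp
  have hqT : q ∈ T := by rw [hTeq]; simp
  have hpR := (Finset.mem_filter.mp hpT).1
  have hqR := (Finset.mem_filter.mp hqT).1
  have hDp := hD p (hmemR p hpR).2.2.2
  have hDq := hD q (hmemR q hqR).2.2.2
  have hWa := hD a hai
  have hdu2 : D p * U p + D q * U q = -1 := by
    have h1 := hTsum (fun i => D i * U i) (fun i h => by simp [h])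
    rw [hKd, hTeq, Finset.sum_pair hpq] at h1
    exact h1.symm
  -- the sum
  have hsplit := sum4 (fun i => ((U i ^ 2 * V i : ℤ) : ℚ) / (D i : ℚ)) hai hbi hab hci hca hcb
  have hRsum : ∑ i ∈ R, ((U i ^ 2 * V i : ℤ) : ℚ) / (D i : ℚ) =
      ((U p : ℚ)) / (D p : ℚ) + ((U q : ℚ)) / (D q : ℚ) := by
    have h1 : ∑ i ∈ R, ((U i ^ 2 * V i : ℤ) : ℚ) / (D i : ℚ) =
        ∑ i ∈ T, ((U i ^ 2 * V i : ℤ) : ℚ) / (D i : ℚ) := by
      rw [hT, Finset.sum_filter]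
      refine Finset.sum_congr rfl fun i hi => ?_
      split_ifs with h
      · rfl
      · push Not at h
        rw [h]; simp
    rw [h1, hTeq, Finset.sum_pair hpq]
    have hcube : ∀ i ∈ T, ((U i ^ 2 * V i : ℤ) : ℚ) = (U i : ℚ) := by
      intro i hi
      have hm := hmemR i (Finset.mem_filter.mp hi).1
      rw [← hoff i hm.2.2.1 hm.2.1 hm.1]
      rcases hval i hi with h | h <;> rw [h] <;> norm_num
    rw [hcube p hpT, hcube q hqT]
  rw [hsplit, hRsum, hU0, hV0, hD0, hUa, hVa, hUb, hVb, hUc, hVc, ← hDab, ← hDac]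
  have hWpos : (0 : ℚ) < D a := by
    have : 0 < D a := by omega
    exact_mod_cast this
  -- reduce to the main inequality
  have hmain : ∀ d : ℤ, 2 ≤ d → (1 : ℚ) / d + (-1) / (d + 1) ≠ -(1 : ℚ) + 3 * δ / D a := by
    intro d hd
    have hd' : (2 : ℚ) ≤ d := by exact_mod_cast hd
    have hr : (1 : ℚ) / d + (-1) / (d + 1) = 1 / (d * (d + 1)) := by
      have h1 : (d : ℚ) ≠ 0 := by linarith
      have h2 : (d : ℚ) + 1 ≠ 0 := by linarith
      field_simp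
      ring
    rw [hr]
    have hr1 : (0 : ℚ) < 1 / ((d : ℚ) * (d + 1)) := by positivity
    have hr2 : 1 / ((d : ℚ) * (d + 1)) ≤ 1 / 6 := by
      apply one_div_le_one_div_of_le (by norm_num)
      nlinarith
    rcases hδ with rfl | rfl
    · have hW2 : 2 ≤ D a := hWa
      by_cases h2 : D a = 2
      · rw [h2]
        intro h
        have e : (3 * ((1 : ℤ) : ℚ)) / ((2 : ℤ) : ℚ) = 3 / 2 := by norm_num
        rw [e] at h
        linarith
      · have h3 : 3 ≤ D a := by omega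
        have h3' : (3 : ℚ) ≤ D a := by exact_mod_cast h3
        intro h
        have h4 : ((1 : ℤ) : ℚ) * 3 / (D a : ℚ) ≤ 1 := by
          rw [show (((1 : ℤ) : ℚ) * 3 / (D a : ℚ)) = 3 / (D a : ℚ) by push_cast; ring]
          rw [div_le_one hWpos]
          exact h3'
        have h5 : ((3 : ℚ) * ((1 : ℤ) : ℚ)) / (D a : ℚ) ≤ 1 := by
          rw [mul_comm]; exact h4
        linarith
    · intro h
      have h4 : (0 : ℚ) ≤ 3 / (D a : ℚ) := by positivity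
      have h5 : (3 * ((-1 : ℤ) : ℚ)) / (D a : ℚ) = -(3 / (D a : ℚ)) := by
        push_cast; ring
      rw [h5] at h
      linarith
  intro hzero
  have hzero' : (U p : ℚ) / (D p : ℚ) + (U q : ℚ) / (D q : ℚ) = -(1 : ℚ) + 3 * δ / D a := by
    have h1 : (((2 * δ) ^ 2 * -δ : ℤ) : ℚ) / (D a : ℚ) + (((-δ) ^ 2 * (2 * δ) : ℤ) : ℚ) / (D a : ℚ) +
        (((-δ) ^ 2 * -δ : ℤ) : ℚ) / (D a : ℚ) = -(3 * δ / D a) := by
      have e1 : ((2 * δ) ^ 2 * -δ : ℤ) = -4 * δ := by linear_combination (-4 * δ) * hδ2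
      have e2 : ((-δ) ^ 2 * (2 * δ) : ℤ) = 2 * δ := by linear_combination (2 * δ) * hδ2
      have e3 : ((-δ) ^ 2 * -δ : ℤ) = -δ := by linear_combination (-δ) * hδ2
      rw [e1, e2, e3]
      push_cast
      field_simp
      ring
    norm_num at hzero h1 ⊢
    linarith
  rcases hval p hpT with h1 | h1 <;> rcases hval q hqT with h2 | h2
  · rw [h1, h2] at hdu2; omega
  · rw [h1, h2] at hdu2
    have hq' : D q = D p + 1 := by omega
    rw [h1, h2, hq'] at hzero'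
    push_cast at hzero'
    exact hmain (D p) hDp (by simpa using hzero')
  · rw [h1, h2] at hdu2
    have hp' : D p = D q + 1 := by omega
    rw [h1, h2, hp'] at hzero'
    push_cast at hzero'
    refine hmain (D q) hDq ?_
    rw [← hzero']
    ring
  · rw [h1, h2] at hdu2; omega

end Cfsg.Agent.Lib.S3341Num9
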