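import Mathlib
import Cfsg.Agent.Lib.S3341Tri9
import Cfsg.Agent.Lib.S3341Num9
import Cfsg.Agent.Lib.DefectOne
import Cfsg.Agent.Lib.CharLattice
import Cfsg.Agent.Lib.Order360

/-!
# Simple groups with a self-centralizing elementary abelian Sylow `3`-subgroup of order `9`
-/

set_option autoImplicit false
set_option linter.unusedVariables false
set_option linter.unusedSectionVars false
set_option linter.style.haveILetI false

namespace Cfsg.Agent.Lib.S3341Main9

open Subgroup Cfsg Cfsg.Agent.Lib.CharBasic Cfsg.Agent.Lib.CharInd Cfsg.Agent.Lib.S3341Tri9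
  Cfsg.Agent.Lib.S3341Num9
open scoped ComplexConjugate Classical

variable {G : Type*} [Group G]

/-- The hypotheses on `S`. -/
structure Hyp (S : Subgroup G) : Prop where
  comm : ∀ a ∈ S, ∀ b ∈ S, a * b = b * a
  exp : ∀ a ∈ S, a ^ 3 = 1
  card : Nat.card S = 9
  cent : ∀ s ∈ S, s ≠ 1 → centralizer ({s} : Set G) = S

variable {S : Subgroup G} (H : Hyp S)
include H

theorem mem_of_commute {s y : G} (hs : s ∈ S) (h1 : s ≠ 1) (hc : y * s = s * y) : y ∈ S := by
  rw [← H.cent s hs h1, mem_centralizer_singleton_iff]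
  exact hc

theorem commute_iff {s y : G} (hs : s ∈ S) (h1 : s ≠ 1) : y ∈ S ↔ y * s = s * y := by
  rw [← mem_centralizer_singleton_iff, H.cent s hs h1]

theorem conj_mem_iff {x g : G} (hx : x ∈ S) (h1 : x ≠ 1) :
    g * x * g⁻¹ ∈ S ↔ g ∈ normalizer (S : Set G) := by
  constructor
  · intro h
    have h2 : g * x * g⁻¹ ≠ 1 := by
      intro h3
      apply h1
      have : g⁻¹ * (g * x * g⁻¹) * g = x := by group
      rw [← this, h3]; group
    rw [mem_normalizer_iff]
    intro y
    rw [commute_iff H hx h1, commute_iff H h h2]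
    constructor
    · intro h3
      calc g * y * g⁻¹ * (g * x * g⁻¹) = g * (y * x) * g⁻¹ := by group
        _ = g * (x * y) * g⁻¹ := by rw [h3]
        _ = _ := by group
    · intro h3
      have h4 : g * (y * x) * g⁻¹ = g * (x * y) * g⁻¹ := by
        calc g * (y * x) * g⁻¹ = g * y * g⁻¹ * (g * x * g⁻¹) := by group
          _ = g * x * g⁻¹ * (g * y * g⁻¹) := h3
          _ = _ := by group
      exact mul_left_cancel (mul_right_cancel h4)
  · intro h
    exact (mem_normalizer_iff.mp h x).mp hx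

theorem cube_of_conj {x : G} (hx : x ∈ S) {y : G} (h : IsConj x y) : y ^ 3 = 1 := by
  obtain ⟨c, rfl⟩ := isConj_iff.mp h
  rw [conj_pow, H.exp x hx]
  group

omit H in
theorem ne_one_of_conj {x y : G} (h : IsConj x y) (h1 : x ≠ 1) : y ≠ 1 := by
  rintro rfl
  exact h1 (isConj_one_right.mp h.symm)

section Fiber

variable [Fintype G]

omit H in
theorem card_fiber {x y : G} (h : IsConj x y) :
    (Finset.univ.filter fun g : G => g * x * g⁻¹ = y).card = Nat.card (centralizer ({x} : Set G)) := by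
  obtain ⟨c, rfl⟩ := isConj_iff.mp h
  have h1 : Nat.card {g : G // g * x * g⁻¹ = c * x * c⁻¹} = Nat.card (centralizer ({x} : Set G)) := by
    refine Nat.card_congr ⟨fun g => ⟨c⁻¹ * g, ?_⟩, fun z => ⟨c * z, ?_⟩, ?_, ?_⟩
    · rw [mem_centralizer_singleton_iff]
      have h2 := g.2
      have h3 : (g : G) * x = c * x * c⁻¹ * g := by
        calc (g : G) * x = (g : G) * x * (g : G)⁻¹ * g := by group
          _ = c * x * c⁻¹ * g := by rw [h2]
      calc c⁻¹ * g * x = c⁻¹ * ((g : G) * x) := by group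
        _ = c⁻¹ * (c * x * c⁻¹ * g) := by rw [h3]
        _ = _ := by group
    · have h2 : (z : G) * x = x * z := mem_centralizer_singleton_iff.mp z.2
      calc c * z * x * (c * z)⁻¹ = c * ((z : G) * x) * (z : G)⁻¹ * c⁻¹ := by group
        _ = c * (x * z) * (z : G)⁻¹ * c⁻¹ := by rw [h2]
        _ = _ := by group
    · intro g; simp
    · intro z; simp
  rw [← h1, Nat.card_eq_fintype_card, Fintype.card_subtype]

omit H in
theorem card_fiber_le (x y : G) :
    (Finset.univ.filter fun g : G => g * x * g⁻¹ = y).card ≤ Nat.card (centralizer ({x} : Set G)) := by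
  by_cases h : IsConj x y
  · exact (card_fiber h).le
  · have : (Finset.univ.filter fun g : G => g * x * g⁻¹ = y) = ∅ := by
      rw [Finset.filter_eq_empty_iff]
      intro g _ hg
      exact h (isConj_iff.mpr ⟨g, hg⟩)
    rw [this]
    simp

omit H in
theorem card_preimage {x : G} (O : Finset G) (hO : ∀ y ∈ O, IsConj x y) :
    (Finset.univ.filter fun g : G => g * x * g⁻¹ ∈ O).card = Nat.card (centralizer ({x} : Set G)) * O.card := by
  have h := Finset.card_eq_sum_card_fiberwise (s := Finset.univ.filter fun g : G => g * x * g⁻¹ ∈ O)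
    (t := O) (f := fun g => g * x * g⁻¹) (fun g hg => (Finset.mem_filter.mp hg).2)
  rw [h, Finset.sum_congr rfl (g := fun _ => Nat.card (centralizer ({x} : Set G)))]
  · simp [mul_comm]
  · intro y hy
    rw [← card_fiber (hO y hy)]
    congr 1
    ext g
    simp only [Finset.mem_filter, Finset.mem_univ, true_and]
    constructor
    · exact fun h => h.2
    · intro h
      refine ⟨?_, h⟩
      rw [h]; exact hy

/-- The elements of `S` conjugate to `x`. -/
noncomputable def cls (S : Subgroup G) (x : G) : Finset G :=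
  Finset.univ.filter fun s => s ∈ S ∧ IsConj x s

omit H in
theorem mem_cls {S : Subgroup G} {x s : G} : s ∈ cls S x ↔ s ∈ S ∧ IsConj x s := by
  simp [cls]

theorem card_normalizer {x : G} (hx : x ∈ S) (h1 : x ≠ 1) :
    Nat.card (normalizer (S : Set G)) = 9 * (cls S x).card := by
  have h2 : Nat.card (centralizer ({x} : Set G)) = 9 := by
    rw [H.cent x hx h1]; exact H.card
  have h3 := card_preimage (x := x) (cls S x) (fun y hy => (mem_cls.mp hy).2)
  rw [h2] at h3
  rw [← h3, Nat.card_eq_fintype_card, Fintype.card_subtype]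
  congr 1
  ext g
  simp only [Finset.mem_filter, Finset.mem_univ, true_and, mem_cls]
  rw [conj_mem_iff H hx h1]
  constructor
  · intro h
    exact ⟨h, isConj_iff.mpr ⟨g, rfl⟩⟩
  · intro h
    exact h.1

theorem cls_card_eq {x y : G} (hx : x ∈ S) (h1 : x ≠ 1) (hy : y ∈ S) (h2 : y ≠ 1) :
    (cls S x).card = (cls S y).card := by
  have h3 := card_normalizer H hx h1
  have h4 := card_normalizer H hy h2
  omega

/-- The non-identity elements of `S`. -/
noncomputable def Sstar (S : Subgroup G) : Finset G := (Finset.univ.filter fun s => s ∈ S).erase 1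

omit H in
theorem mem_Sstar {S : Subgroup G} {s : G} : s ∈ Sstar S ↔ s ≠ 1 ∧ s ∈ S := by
  simp [Sstar]

theorem card_Sf : (Finset.univ.filter fun s => s ∈ S).card = 9 := by
  have := H.card
  rw [Nat.card_eq_fintype_card, Fintype.card_subtype] at this
  exact this

theorem card_Sstar : (Sstar S).card = 8 := by
  rw [Sstar, Finset.card_erase_of_mem (Finset.mem_filter.mpr ⟨Finset.mem_univ _, S.one_mem⟩), card_Sf H]

theorem cls_subset {x : G} (h1 : x ≠ 1) : cls S x ⊆ Sstar S := by
  intro s hs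
  have := mem_cls.mp hs
  exact mem_Sstar.mpr ⟨ne_one_of_conj this.2 h1, this.1⟩

omit H in
theorem cls_disjoint {S : Subgroup G} {x y : G} (h : ¬ IsConj x y) : Disjoint (cls S x) (cls S y) := by
  rw [Finset.disjoint_left]
  intro s hs ht
  exact h ((mem_cls.mp hs).2.trans (mem_cls.mp ht).2.symm)

end Fiber

section Simple

variable [Fintype G] [IsSimpleGroup G]

theorem exists_ne_one_mem : ∃ s ∈ S, s ≠ 1 := by
  have h : (Sstar S).Nonempty := by
    rw [← Finset.card_pos, card_Sstar H]; norm_num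
  obtain ⟨s, hs⟩ := h
  have := mem_Sstar.mp hs
  exact ⟨s, this.2, this.1⟩

theorem not_comm : ¬ ∀ a b : G, a * b = b * a := by
  intro hc
  obtain ⟨s, hs, h1⟩ := exists_ne_one_mem H
  haveI : (zpowers s).Normal := by
    constructor
    intro n hn g
    have : g * n * g⁻¹ = n := by rw [hc g n]; group
    rw [this]; exact hn
  rcases (inferInstance : (zpowers s).Normal).eq_bot_or_eq_top with h | h
  · exact h1 (zpowers_eq_bot.mp h)
  · have h2 : Nat.card (zpowers s) = Nat.card G := by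
      rw [h]; exact Nat.card_congr Subgroup.topEquiv.toEquiv
    rw [Nat.card_zpowers] at h2
    have h3 : orderOf s ∣ 3 := orderOf_dvd_of_pow_eq_one (H.exp s hs)
    have h4 : Nat.card S ≤ Nat.card G := Subgroup.card_le_card_group S
    have h5 : orderOf s ≤ 3 := Nat.le_of_dvd (by norm_num) h3
    rw [H.card] at h4
    omega

theorem not_isMulCommutative : ¬ IsMulCommutative G := fun hc =>
  not_comm H fun a b => hc.is_comm.comm a b

theorem cls_card_ne_one (P : Sylow 3 G) (hSP : S = P) {x : G} (hx : x ∈ S) (h1 : x ≠ 1) : (cls S x).card ≠ 1 := by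
  intro he
  have hN := card_normalizer H hx h1
  rw [he, mul_one] at hN
  have hle : S ≤ normalizer (S : Set G) := Subgroup.le_normalizer
  have hEq : S = normalizer (S : Set G) := by
    apply Subgroup.eq_of_le_of_card_ge hle
    rw [hN, H.card]
  subst hSP
  have hP : normalizer ((P : Subgroup G) : Set G) ≤ centralizer ((P : Subgroup G) : Set G) := by
    rw [← hEq]
    intro g hg
    rw [mem_centralizer_iff]
    intro h hh
    exact H.comm h hh g hg
  have hc := MonoidHom.ker_transferSylow_isComplement' P hP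
  have hmul := hc.card_mul_card
  haveI : Fact (Nat.Prime 3) := ⟨Nat.prime_three⟩
  rcases (MonoidHom.normal_ker (MonoidHom.transferSylow P hP)).eq_bot_or_eq_top with h | h
  · rw [h] at hmul
    simp only [Subgroup.card_bot, one_mul] at hmul
    have hT : (P : Subgroup G) = ⊤ := by
      apply Subgroup.eq_top_of_card_eq
      exact hmul
    apply not_comm H
    intro a b
    exact H.comm a (by rw [hT]; trivial) b (by rw [hT]; trivial)
  · rw [h] at hmul
    have h2 : Nat.card (⊤ : Subgroup G) = Nat.card G := Nat.card_congr Subgroup.topEquiv.toEquiv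
    rw [h2, H.card] at hmul
    have h3 : 0 < Nat.card G := Nat.card_pos
    omega

theorem self_mem_cls {x : G} (hx : x ∈ S) : x ∈ cls S x := mem_cls.mpr ⟨hx, IsConj.refl x⟩

theorem e_cases (P : Sylow 3 G) (hSP : S = P) {x x' : G} (hx : x ∈ S) (h1 : x ≠ 1) (hx' : x' ∈ S) (h1' : x' ≠ 1)
    (hnc : ¬ IsConj x x') : (cls S x).card = 2 ∨ (cls S x).card = 4 := by
  have hd := cls_disjoint (S := S) hnc
  have hsub : cls S x ∪ cls S x' ⊆ Sstar S :=
    Finset.union_subset (cls_subset H h1) (cls_subset H h1')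
  have h2 := Finset.card_le_card hsub
  rw [Finset.card_union_of_disjoint hd, card_Sstar H, ← cls_card_eq H hx h1 hx' h1'] at h2
  have h3 : 0 < (cls S x).card := Finset.card_pos.mpr ⟨x, self_mem_cls H hx⟩
  have h4 := cls_card_ne_one H P hSP hx h1
  by_cases h5 : (cls S x).card = 3
  · exfalso
    have hlt : (cls S x ∪ cls S x').card < (Sstar S).card := by
      rw [Finset.card_union_of_disjoint hd, card_Sstar H, ← cls_card_eq H hx h1 hx' h1']
      omega
    obtain ⟨s, hs, hsn⟩ := Finset.exists_mem_notMem_of_card_lt_card hlt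
    have hsS := mem_Sstar.mp hs
    have hns1 : ¬ IsConj x s := fun h => hsn (Finset.mem_union_left _ (mem_cls.mpr ⟨hsS.2, h⟩))
    have hns2 : ¬ IsConj x' s := fun h => hsn (Finset.mem_union_right _ (mem_cls.mpr ⟨hsS.2, h⟩))
    have hd1 : Disjoint (cls S x ∪ cls S x') (cls S s) :=
      Finset.disjoint_union_left.mpr ⟨cls_disjoint hns1, cls_disjoint hns2⟩
    have hsub2 : (cls S x ∪ cls S x') ∪ cls S s ⊆ Sstar S :=
      Finset.union_subset hsub (cls_subset H hsS.1)
    have h6 := Finset.card_le_card hsub2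
    rw [Finset.card_union_of_disjoint hd1, Finset.card_union_of_disjoint hd, card_Sstar H,
      ← cls_card_eq H hx h1 hx' h1', ← cls_card_eq H hx h1 hsS.2 hsS.1] at h6
    omega
  · omega

/-- An involution inverting `S`. -/
theorem exists_inv {x : G} (hx : x ∈ S) (h1 : x ≠ 1) (he : Even (cls S x).card) :
    ∀ s ∈ S, IsConj s s⁻¹ := by
  have hN := card_normalizer H hx h1
  have h2 : 2 ∣ Nat.card (normalizer (S : Set G)) := by
    rw [hN]
    exact Dvd.dvd.mul_left he.two_dvd _
  haveI : Fact (Nat.Prime 2) := ⟨Nat.prime_two⟩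
  obtain ⟨t, ht⟩ := exists_prime_orderOf_dvd_card' 2 h2
  have ht2 : (t : G) ^ 2 = 1 := by
    have := pow_orderOf_eq_one t
    rw [ht] at this
    exact_mod_cast congrArg Subtype.val this
  have ht1 : (t : G) ≠ 1 := by
    intro h
    have h3 : t = 1 := Subtype.ext h
    rw [h3] at ht
    simp at ht
  have htS : (t : G) ∉ S := by
    intro h
    have h3 := H.exp _ h
    apply ht1
    calc (t : G) = (t : G) ^ 3 * ((t : G) ^ 2)⁻¹ := by group
      _ = 1 := by rw [h3, ht2]; simp
  have htinv : (t : G)⁻¹ = t := by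
    rw [inv_eq_iff_mul_eq_one, ← ht2, pow_two]
  intro s hs
  refine isConj_iff.mpr ⟨t, ?_⟩
  have hsc : (t : G) * s * (t : G)⁻¹ ∈ S := (mem_normalizer_iff.mp t.2 s).mp hs
  set u := s * ((t : G) * s * (t : G)⁻¹) with hu
  have huS : u ∈ S := S.mul_mem hs hsc
  have hcomm : (t : G) * u = u * t := by
    have h3 : u = (t : G) * s * (t : G)⁻¹ * s := H.comm _ hs _ hsc
    calc (t : G) * u = (t : G) * (s * ((t : G) * s * (t : G)⁻¹)) := by rw [hu]
      _ = (t : G) * s * (t : G) * s * (t : G)⁻¹ := by group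
      _ = (t : G) * s * (t : G) * s * t := by rw [htinv]
      _ = (t : G) * s * (t : G)⁻¹ * s * t := by rw [htinv]
      _ = u * t := by rw [← h3]
  have hu1 : u = 1 := by
    by_contra hne
    exact htS (mem_of_commute H huS hne hcomm)
  exact (eq_inv_of_mul_eq_one_right hu1)

end Simple

section Values

variable [Fintype G]

omit H in
theorem exists_U (D : IrrCharacter G → ℤ) (hD : ∀ χ : IrrCharacter G, (χ : G → ℂ) 1 = (D χ : ℂ)) {c : G}
    (hc3 : c ^ 3 = 1) (hreal : IsConj c c⁻¹) :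
    ∃ U : IrrCharacter G → ℤ, (∀ χ : IrrCharacter G, (χ : G → ℂ) c = (U χ : ℂ)) ∧ ∀ χ, (3 : ℤ) ∣ D χ - U χ := by
  have h : ∀ χ : IrrCharacter G, ∃ u : ℤ, (χ : G → ℂ) c = (u : ℂ) ∧ (3 : ℤ) ∣ D χ - u := by
    intro χ
    obtain ⟨a, b, h1, h2⟩ := char_values3 (IsIrrCharacter.isCharacter χ.2) hc3 hreal
    refine ⟨(a : ℤ) - b, by rw [h2]; push_cast; ring, ?_⟩
    have h3 : D χ = (a : ℤ) + 2 * b := by
      have : (D χ : ℂ) = (((a : ℤ) + 2 * b : ℤ) : ℂ) := by
        rw [← hD χ, h1]; push_cast; ring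
      exact_mod_cast this
    rw [h3]
    exact ⟨b, by ring⟩
  choose U hU using h
  exact ⟨U, fun χ => (hU χ).1, fun χ => (hU χ).2⟩

omit H in
theorem sum_UV_conj {g h : G} {U V : IrrCharacter G → ℤ}
    (hU : ∀ χ : IrrCharacter G, (χ : G → ℂ) g = (U χ : ℂ)) (hV : ∀ χ : IrrCharacter G, (χ : G → ℂ) h = (V χ : ℂ))
    (hc : IsConj g h) : ∑ χ, U χ * V χ = (Nat.card (centralizer ({h} : Set G)) : ℤ) := by
  have h1 := sum_irr_mul_conj g h
  rw [if_pos hc] at h1
  simp only [hU, hV, map_intCast] at h1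
  exact_mod_cast h1

omit H in
theorem sum_UV_not_conj {g h : G} {U V : IrrCharacter G → ℤ}
    (hU : ∀ χ : IrrCharacter G, (χ : G → ℂ) g = (U χ : ℂ)) (hV : ∀ χ : IrrCharacter G, (χ : G → ℂ) h = (V χ : ℂ))
    (hc : ¬ IsConj g h) : ∑ χ, U χ * V χ = 0 := by
  have h1 := sum_irr_mul_conj g h
  rw [if_neg hc] at h1
  simp only [hU, hV, map_intCast] at h1
  exact_mod_cast h1

omit H in
theorem sum_DU {g : G} (hg : g ≠ 1) {U D : IrrCharacter G → ℤ}
    (hU : ∀ χ : IrrCharacter G, (χ : G → ℂ) g = (U χ : ℂ)) (hD : ∀ χ : IrrCharacter G, (χ : G → ℂ) 1 = (D χ : ℂ)) :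
    ∑ χ, D χ * U χ = 0 := by
  have h1 := Cfsg.Agent.Lib.CharKernel.sum_irr_deg_mul g
  rw [if_neg hg] at h1
  simp only [hU, hD] at h1
  exact_mod_cast h1

/-- The count of pairs. -/
noncomputable def Cnt (x x' : G) : ℕ :=
  ∑ a : G, ∑ b : G, (if x⁻¹ * (a * x * a⁻¹) * (b * x' * b⁻¹) = 1 then 1 else 0)

omit H in
theorem cnt_eq {x x' : G} {U V D : IrrCharacter G → ℤ} (hreal : IsConj x x⁻¹)
    (hU : ∀ χ : IrrCharacter G, (χ : G → ℂ) x = (U χ : ℂ)) (hV : ∀ χ : IrrCharacter G, (χ : G → ℂ) x' = (V χ : ℂ))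
    (hD : ∀ χ : IrrCharacter G, (χ : G → ℂ) 1 = (D χ : ℂ)) :
    (Cnt x x' : ℚ) = (Nat.card G : ℚ) * ∑ i, ((U i ^ 2 * V i : ℤ) : ℚ) / (D i : ℚ) := by
  have h := struct_formula2 x x' x
  have hinv : ∀ χ : IrrCharacter G, (χ : G → ℂ) x⁻¹ = (U χ : ℂ) := by
    intro χ
    rw [← hU χ]
    obtain ⟨c, hc⟩ := isConj_iff.mp hreal
    rw [← hc]
    exact (isClassFunction_of_isCharacter (IsIrrCharacter.isCharacter χ.2) x c)
  simp only [hinv, hU, hV, hD] at h
  have hN : (Nat.card G : ℂ) ≠ 0 := by exact_mod_cast Nat.card_pos.ne'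
  have h2 : ((Cnt x x' : ℕ) : ℂ) = (Nat.card G : ℂ) * ∑ χ : IrrCharacter G, (U χ : ℂ) * V χ * U χ / D χ := by
    apply mul_left_cancel₀ hN
    unfold Cnt
    rw [h]; ring
  have h3 : (((Cnt x x' : ℚ)) : ℂ) = (((Nat.card G : ℚ) * ∑ i, ((U i ^ 2 * V i : ℤ) : ℚ) / (D i : ℚ) : ℚ) : ℂ) := by
    push_cast
    rw [h2]
    congr 1
    refine Finset.sum_congr rfl fun χ _ => ?_
    ring
  exact_mod_cast h3

/-- Where the solutions are. -/
theorem sol_mem {x x' a' b' : G} (hx : x ∈ S) (h1 : x ≠ 1) (hx' : x' ∈ S) (h1' : x' ≠ 1) (hnc : ¬ IsConj x x')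
    (hreal : IsConj x x⁻¹) (ha : IsConj x a') (hb : IsConj x' b') (hab : x⁻¹ * a' * b' = 1) :
    a' ∈ ((cls S x).erase x).erase x⁻¹ := by
  have hab2 : a' * b' = x := by
    calc a' * b' = x * (x⁻¹ * a' * b') := by group
      _ = x := by rw [hab, mul_one]
  have hx3 := H.exp x hx
  have ha3 := cube_of_conj H hx ha
  have hb3 := cube_of_conj H hx' hb
  have hy : ∃ y : G, y ≠ 1 ∧ Commute y a' ∧ Commute y b' := by
    rcases tri ha3 hb3 (by rw [hab2]; exact hx3) with h | h
    · exact absurd (ha.trans (h.trans hb.symm)) hnc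
    · exact h
  obtain ⟨y, hy1, hya, hyb⟩ := hy
  have hyx : y * x = x * y := by
    rw [← hab2]
    exact (hya.mul_right hyb).eq
  have hyS : y ∈ S := mem_of_commute H hx h1 hyx
  have haS : a' ∈ S := mem_of_commute H hyS hy1 hya.symm.eq
  refine Finset.mem_erase.mpr ⟨?_, Finset.mem_erase.mpr ⟨?_, mem_cls.mpr ⟨haS, ha⟩⟩⟩
  · intro h
    rw [h] at hab2
    have h2 : b' = x⁻¹ := by
      have h3 : x⁻¹ ^ 3 = 1 := by rw [inv_pow, hx3, inv_one]
      have h4 : x * x * x = 1 := by
        rw [← hx3]; simp [pow_succ]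
      have h5 : x * x = x⁻¹ := eq_inv_of_mul_eq_one_left h4
      calc b' = x * (x⁻¹ * b') := by simp
        _ = x * x := by rw [hab2]
        _ = x⁻¹ := h5
    rw [h2] at hb
    exact hnc (hreal.trans hb.symm)
  · intro h
    rw [h] at hab2
    have h3 : b' = 1 := mul_eq_left.mp hab2
    rw [h3] at hb
    exact h1' (isConj_one_right.mp hb.symm)

end Values

section Final

variable [Fintype G]

/-- The upper bound on the count. -/
theorem cnt_le {x x' : G} (hx : x ∈ S) (h1 : x ≠ 1) (hx' : x' ∈ S) (h1' : x' ≠ 1) (hnc : ¬ IsConj x x')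
    (hreal : IsConj x x⁻¹) : Cnt x x' ≤ 81 * (((cls S x).erase x).erase x⁻¹).card := by
  set Good := ((cls S x).erase x).erase x⁻¹ with hGood
  have hCx : Nat.card (centralizer ({x} : Set G)) = 9 := by rw [H.cent x hx h1]; exact H.card
  have hCx' : Nat.card (centralizer ({x'} : Set G)) = 9 := by rw [H.cent x' hx' h1']; exact H.card
  have hGoodConj : ∀ y ∈ Good, IsConj x y := fun y hy =>
    (mem_cls.mp (Finset.mem_of_mem_erase (Finset.mem_of_mem_erase hy))).2
  have hpre := card_preimage (x := x) Good hGoodConj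
  rw [hCx] at hpre
  unfold Cnt
  have hinner : ∀ a : G, (∑ b : G, (if x⁻¹ * (a * x * a⁻¹) * (b * x' * b⁻¹) = 1 then 1 else 0)) ≤
      if a * x * a⁻¹ ∈ Good then 9 else 0 := by
    intro a
    by_cases ha : a * x * a⁻¹ ∈ Good
    · rw [if_pos ha, ← Finset.card_filter]
      have hsub : (Finset.univ.filter fun b : G => x⁻¹ * (a * x * a⁻¹) * (b * x' * b⁻¹) = 1) ⊆
          (Finset.univ.filter fun b : G => b * x' * b⁻¹ = (x⁻¹ * (a * x * a⁻¹))⁻¹) := by
        intro b hb
        simp only [Finset.mem_filter, Finset.mem_univ, true_and] at hb ⊢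
        exact eq_inv_of_mul_eq_one_right hb
      exact (Finset.card_le_card hsub).trans (hCx' ▸ card_fiber_le x' _)
    · rw [if_neg ha]
      apply le_of_eq
      apply Finset.sum_eq_zero
      intro b _
      rw [if_neg]
      intro hab
      exact ha (sol_mem H hx h1 hx' h1' hnc hreal (isConj_iff.mpr ⟨a, rfl⟩) (isConj_iff.mpr ⟨b, rfl⟩) hab)
  calc _ ≤ ∑ a : G, (if a * x * a⁻¹ ∈ Good then 9 else 0) := Finset.sum_le_sum fun a _ => hinner a
    _ = 9 * (Finset.univ.filter fun g : G => g * x * g⁻¹ ∈ Good).card := by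
        rw [← Finset.sum_filter]; simp [mul_comm]
    _ = 81 * Good.card := by rw [hpre]; ring

theorem card_good {x : G} (hx : x ∈ S) (h1 : x ≠ 1) (hreal : IsConj x x⁻¹) :
    (((cls S x).erase x).erase x⁻¹).card = (cls S x).card - 2 := by
  have hx3 := H.exp x hx
  have hne : x⁻¹ ≠ x := by
    intro h
    apply h1
    have h2 : x * x = 1 := by
      nth_rewrite 1 [← h]
      simp
    calc x = x ^ 3 * (x * x)⁻¹ := by group
      _ = 1 := by rw [hx3, h2]; simp
  have h2 : x ∈ cls S x := mem_cls.mpr ⟨hx, IsConj.refl x⟩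
  have h3 : x⁻¹ ∈ (cls S x).erase x :=
    Finset.mem_erase.mpr ⟨hne, mem_cls.mpr ⟨S.inv_mem hx, hreal⟩⟩
  rw [Finset.card_erase_of_mem h3, Finset.card_erase_of_mem h2]
  omega

/-- Restricted to `S`, a character sums to a multiple of `9`. -/
theorem sum_over_S {χ : G → ℂ} (hχ : IsCharacter G χ) :
    ∃ k : ℕ, ∑ s ∈ Finset.univ.filter (fun s => s ∈ S), χ s = 9 * k := by
  haveI : Fintype S := Fintype.ofFinite S
  obtain ⟨m, hm⟩ := classInner_char_char (G := S) (isCharacter_restrict S hχ) isCharacter_one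
  refine ⟨m, ?_⟩
  have h1 : classInner (fun n : S => χ n) (fun _ : S => (1 : ℂ)) =
      (Nat.card S : ℂ)⁻¹ * ∑ s ∈ Finset.univ.filter (fun s => s ∈ S), χ s := by
    have h2 : ∑ s ∈ Finset.univ.filter (fun s => s ∈ S), χ s = ∑ a : S, χ a :=
      Finset.sum_subtype _ (by simp) χ
    unfold classInner
    rw [h2]
    congr 1
    simp
  rw [h1, H.card] at hm
  have h9 : ((9 : ℕ) : ℂ) ≠ 0 := by norm_num
  field_simp at hm
  push_cast at hm
  linear_combination hm

/-- The partition of `S`, when `e = 4`. -/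
theorem sum_split {x x' : G} (hx : x ∈ S) (h1 : x ≠ 1) (hx' : x' ∈ S) (h1' : x' ≠ 1) (hnc : ¬ IsConj x x')
    (he : (cls S x).card = 4) {χ : G → ℂ} (hχ : IsCharacter G χ) {d u v : ℤ}
    (hd : χ 1 = d) (hu : χ x = u) (hv : χ x' = v) : ∃ k : ℤ, d + 4 * u + 4 * v = 9 * k := by
  obtain ⟨k, hk⟩ := sum_over_S H hχ
  refine ⟨k, ?_⟩
  have he' : (cls S x').card = 4 := by rw [← cls_card_eq H hx h1 hx' h1']; exact he
  have hd1 := cls_disjoint (S := S) hnc
  have hcard : (cls S x ∪ cls S x').card = (Sstar S).card := by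
    rw [Finset.card_union_of_disjoint hd1, card_Sstar H, he, he']
  have hsub : cls S x ∪ cls S x' ⊆ Sstar S :=
    Finset.union_subset (cls_subset H h1) (cls_subset H h1')
  have heq : cls S x ∪ cls S x' = Sstar S := Finset.eq_of_subset_of_card_le hsub hcard.ge
  have hfilt : (Finset.univ.filter fun s => s ∈ S) = insert 1 (cls S x ∪ cls S x') := by
    rw [heq]
    ext s
    simp only [Finset.mem_filter, Finset.mem_univ, true_and, Finset.mem_insert, mem_Sstar]
    constructor
    · intro hs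
      by_cases h : s = 1
      · exact Or.inl h
      · exact Or.inr ⟨h, hs⟩
    · rintro (rfl | h)
      · exact S.one_mem
      · exact h.2
  have h1n : (1 : G) ∉ cls S x ∪ cls S x' := by
    rw [heq]
    simp [mem_Sstar]
  rw [hfilt, Finset.sum_insert h1n, Finset.sum_union hd1] at hk
  have hcon : ∀ {y : G} {w : ℤ}, χ y = w → ∑ s ∈ cls S y, χ s = ((cls S y).card : ℂ) * w := by
    intro y w hw
    rw [Finset.sum_congr rfl (g := fun _ => (w : ℂ))]
    · simp
    · intro s hs
      obtain ⟨c, hc⟩ := isConj_iff.mp (mem_cls.mp hs).2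
      rw [← hc, ← hw]
      exact isClassFunction_of_isCharacter hχ y c
  rw [hcon hu, hcon hv, he, he', hd] at hk
  have h3 : ((d + 4 * u + 4 * v : ℤ) : ℂ) = ((9 * (k : ℤ) : ℤ) : ℂ) := by
    push_cast at hk ⊢
    rw [← hk]
    ring
  exact_mod_cast h3

/-- The number of Sylow `3`-subgroups is `1` modulo `9`. -/
theorem card_sylow_mod (P : Sylow 3 G) (hSP : S = P) : Nat.card (Sylow 3 G) % 9 = 1 := by
  haveI : Fact (Nat.Prime 3) := ⟨Nat.prime_three⟩
  subst hSP
  haveI : Fintype (P : Subgroup G) := Fintype.ofFinite _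
  haveI : Fintype (Sylow 3 G) := Fintype.ofFinite _
  have hfix : ∀ g : (P : Subgroup G), g ≠ 1 →
      Fintype.card (MulAction.fixedBy (Sylow 3 G) g) = 1 := by
    intro g hg
    have hg1 : (g : G) ≠ 1 := fun h => hg (Subtype.ext h)
    rw [Fintype.card_eq_one_iff]
    have hPfix : P ∈ MulAction.fixedBy (Sylow 3 G) g := by
      rw [MulAction.mem_fixedBy]
      exact (Sylow.smul_eq_iff_mem_normalizer).mpr (Subgroup.le_normalizer g.2)
    refine ⟨⟨P, hPfix⟩, ?_⟩
    rintro ⟨Q, hQ⟩
    apply Subtype.ext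
    show Q = P
    rw [MulAction.mem_fixedBy] at hQ
    have hgN : (g : G) ∈ normalizer ((Q : Subgroup G) : Set G) :=
      (Sylow.smul_eq_iff_mem_normalizer).mp hQ
    have hgQ : (g : G) ∈ (P : Subgroup G) ⊓ (Q : Subgroup G) := by
      rw [← IsPGroup.inf_normalizer_sylow P.isPGroup' Q]
      exact ⟨g.2, hgN⟩
    have hcomm : ∀ a ∈ (Q : Subgroup G), a * g = g * a := by
      intro a ha
      let e := P.equiv Q
      have h2 : e (e.symm ⟨a, ha⟩ * e.symm ⟨g, hgQ.2⟩) = e (e.symm ⟨g, hgQ.2⟩ * e.symm ⟨a, ha⟩) := by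
        congr 1
        exact Subtype.ext (H.comm _ (e.symm ⟨a, ha⟩).2 _ (e.symm ⟨g, hgQ.2⟩).2)
      simp only [map_mul, MulEquiv.apply_symm_apply] at h2
      exact congrArg Subtype.val h2
    have hle : (Q : Subgroup G) ≤ (P : Subgroup G) := by
      intro a ha
      exact mem_of_commute H g.2 hg1 (hcomm a ha)
    exact (Sylow.ext (Q.is_maximal' P.isPGroup' hle)).symm
  have hB := MulAction.sum_card_fixedBy_eq_card_orbits_mul_card_group (P : Subgroup G) (Sylow 3 G)
  rw [← Finset.add_sum_erase Finset.univ _ (Finset.mem_univ (1 : (P : Subgroup G)))] at hB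
  have hfix1 : Fintype.card (MulAction.fixedBy (Sylow 3 G) (1 : (P : Subgroup G))) = Fintype.card (Sylow 3 G) := by
    rw [Fintype.card_congr (Equiv.subtypeUnivEquiv (fun Q => by simp))]
  rw [hfix1, Finset.sum_congr rfl (g := fun _ => 1) (fun g hg => hfix g (Finset.ne_of_mem_erase hg))] at hB
  have hc9 : Fintype.card (P : Subgroup G) = 9 := by
    rw [← Nat.card_eq_fintype_card]; exact H.card
  simp only [Finset.sum_const, Finset.card_erase_of_mem (Finset.mem_univ _), Finset.card_univ, hc9,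
    smul_eq_mul, mul_one] at hB
  rw [Nat.card_eq_fintype_card]
  omega

end Final

section Main

variable [Fintype G] [IsSimpleGroup G]

/-- The case of a normal Sylow subgroup does not occur. -/
theorem card_sylow_ne_one (P : Sylow 3 G) (hSP : S = P) : Nat.card (Sylow 3 G) ≠ 1 := by
  intro h1
  haveI : Fact (Nat.Prime 3) := ⟨Nat.prime_three⟩
  rw [Sylow.card_eq_index_normalizer P, Subgroup.index_eq_one] at h1
  subst hSP
  haveI hn : (P : Subgroup G).Normal := Subgroup.normalizer_eq_top_iff.mp h1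
  rcases hn.eq_bot_or_eq_top with h | h
  · have h2 := H.card
    rw [h] at h2
    simp at h2
  · apply not_comm H
    intro a b
    exact H.comm a (by rw [h]; trivial) b (by rw [h]; trivial)

omit H in
/-- A simple group of order `684` does not exist. -/
theorem not_684 (h : Nat.card G = 684) : False := by
  haveI : Fact (Nat.Prime 19) := ⟨by norm_num⟩
  obtain ⟨Q⟩ := (inferInstance : Nonempty (Sylow 19 G))
  have hmod := card_sylow_modEq_one 19 G
  have hdvd : Nat.card (Sylow 19 G) ∣ 684 := by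
    rw [Sylow.card_eq_index_normalizer Q, ← h]
    exact Subgroup.index_dvd_card _
  have hle : Nat.card (Sylow 19 G) ≤ 684 := Nat.le_of_dvd (by norm_num) hdvd
  have hone : Nat.card (Sylow 19 G) = 1 := by
    have hm : Nat.card (Sylow 19 G) % 19 = 1 := hmod
    generalize Nat.card (Sylow 19 G) = n at *
    interval_cases n <;> omega
  rw [Sylow.card_eq_index_normalizer Q, Subgroup.index_eq_one] at hone
  haveI hn : (Q : Subgroup G).Normal := Subgroup.normalizer_eq_top_iff.mp hone
  rcases hn.eq_bot_or_eq_top with h2 | h2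
  · exact Q.ne_bot_of_dvd_card (by rw [h]; norm_num) h2
  · obtain ⟨k, hk⟩ := IsPGroup.iff_card.mp Q.isPGroup'
    rw [h2] at hk
    have h3 : Nat.card (⊤ : Subgroup G) = Nat.card G := Nat.card_congr Subgroup.topEquiv.toEquiv
    rw [h3, h] at hk
    have hk2 : k < 3 := by
      by_contra hc
      push Not at hc
      have := Nat.pow_le_pow_right (n := 19) (by norm_num) hc
      omega
    interval_cases k <;> omega

/-- The main theorem, with two classes given inside `S`. -/
theorem main (P : Sylow 3 G) (hSP : S = P) {x x' : G} (hx : x ∈ S) (h1 : x ≠ 1) (hx' : x' ∈ S) (h1' : x' ≠ 1)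
    (hnc : ¬ IsConj x x') : Nonempty (G ≃* alternatingGroup (Fin 6)) := by
  have he := e_cases H P hSP hx h1 hx' h1' hnc
  have hEven : Even (cls S x).card := by
    rcases he with h | h <;> rw [h] <;> decide
  have hreal := exists_inv H hx h1 hEven
  have hdeg : ∀ χ : IrrCharacter G, ∃ d : ℕ, 0 < d ∧ (χ : G → ℂ) 1 = d :=
    fun χ => Cfsg.Agent.Lib.CharLattice.exists_degree_pos χ.2
  choose d hd0 hd using hdeg
  set D : IrrCharacter G → ℤ := fun i => (d i : ℤ) with hDdef
  have hD : ∀ χ : IrrCharacter G, (χ : G → ℂ) 1 = (D χ : ℂ) := fun χ => by simp [hDdef, hd]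
  have hDpos : ∀ i, 0 < D i := fun i => by simp [hDdef, hd0]
  set i₀ : IrrCharacter G := Cfsg.Agent.Lib.DefectOne.oneIrr G with hi₀
  have hi₀v : ∀ g : G, (i₀ : G → ℂ) g = 1 := fun g => rfl
  have hCard : ∀ {s : G}, s ∈ S → s ≠ 1 → Nat.card (centralizer ({s} : Set G)) = 9 := by
    intro s hs hs1
    rw [H.cent s hs hs1]; exact H.card
  have hD0 : D i₀ = 1 := by
    have := hD i₀
    rw [hi₀v] at this
    exact_mod_cast this.symm
  have hD2 : ∀ i, i ≠ i₀ → 2 ≤ D i := by
    intro i hi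
    have h2 := Cfsg.Agent.Lib.DefectOne.degree_ne_one (not_isMulCommutative H) hi (hd i)
    have h3 := hd0 i
    simp only [hDdef]
    omega
  -- values
  have hvals : ∀ {s : G}, s ∈ S → s ≠ 1 → ∃ U : IrrCharacter G → ℤ,
      (∀ χ : IrrCharacter G, (χ : G → ℂ) s = (U χ : ℂ)) ∧ (∀ χ, (3 : ℤ) ∣ D χ - U χ) ∧ U i₀ = 1 ∧
        ∑ i, U i ^ 2 = 9 ∧ ∑ i, D i * U i = 0 := by
    intro s hs hs1
    obtain ⟨U, hU, hU3⟩ := exists_U D hD (H.exp s hs) (hreal s hs)
    refine ⟨U, hU, hU3, ?_, ?_, ?_⟩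
    · have := hU i₀
      rw [hi₀v] at this
      exact_mod_cast this.symm
    · have := sum_UV_conj hU hU (IsConj.refl s)
      rw [hCard hs hs1] at this
      simp only [pow_two]
      exact_mod_cast this
    · exact sum_DU hs1 hU hD
  obtain ⟨U, hU, hU3, hU0, hUU, hDU⟩ := hvals hx h1
  obtain ⟨V, hV, hV3, hV0, hVV, hDV⟩ := hvals hx' h1'
  have hUV : ∑ i, U i * V i = 0 := sum_UV_not_conj hU hV hnc
  have h3UV : ∀ i, (3 : ℤ) ∣ U i - V i := by
    intro i
    have h4 : U i - V i = (D i - V i) - (D i - U i) := by ring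
    rw [h4]
    exact dvd_sub (hV3 i) (hU3 i)
  have hcnt := cnt_eq (hreal x hx) hU hV hD
  have hle := cnt_le H hx h1 hx' h1' hnc (hreal x hx)
  rw [card_good H hx h1 (hreal x hx)] at hle
  have hGpos : (0 : ℚ) < (Nat.card G : ℚ) := by exact_mod_cast Nat.card_pos
  rcases he with he | he
  · -- `e = 2`
    exfalso
    rw [he] at hle
    have hsub : cls S x ∪ cls S x' ⊆ Sstar S :=
      Finset.union_subset (cls_subset H h1) (cls_subset H h1')
    have hd1 := cls_disjoint (S := S) hnc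
    have hlt : (cls S x ∪ cls S x').card < (Sstar S).card := by
      rw [Finset.card_union_of_disjoint hd1, card_Sstar H, ← cls_card_eq H hx h1 hx' h1', he]
      norm_num
    obtain ⟨z, hz, hzn⟩ := Finset.exists_mem_notMem_of_card_lt_card hlt
    have hzS := mem_Sstar.mp hz
    have hnz1 : ¬ IsConj x z := fun h => hzn (Finset.mem_union_left _ (mem_cls.mpr ⟨hzS.2, h⟩))
    have hnz2 : ¬ IsConj x' z := fun h => hzn (Finset.mem_union_right _ (mem_cls.mpr ⟨hzS.2, h⟩))
    obtain ⟨Z, hZ, hZ3, hZ0, hZZ, hDZ⟩ := hvals hzS.2 hzS.1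
    have hUZ : ∑ i, U i * Z i = 0 := sum_UV_not_conj hU hZ hnz1
    have hVZ : ∑ i, V i * Z i = 0 := sum_UV_not_conj hV hZ hnz2
    have h3UZ : ∀ i, (3 : ℤ) ∣ U i - Z i := by
      intro i
      have h4 : U i - Z i = (D i - Z i) - (D i - U i) := by ring
      rw [h4]
      exact dvd_sub (hZ3 i) (hU3 i)
    have h3VZ : ∀ i, (3 : ℤ) ∣ V i - Z i := by
      intro i
      have h4 : V i - Z i = (D i - Z i) - (D i - V i) := by ring
      rw [h4]
      exact dvd_sub (hZ3 i) (hV3 i)
    obtain ⟨a, b, c, δ, hab, hca, hcb, hai, hbi, hci, hδ, hDab, hDac, hUa, hVa, hUb, hVb, hUc, hVc, hoff⟩ :=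
      pat3 U V Z D i₀ hU0 hV0 hZ0 hDpos h3UV h3UZ h3VZ hUU hVV hZZ hUV hUZ hVZ hDU hDV hDZ
    have hne := caseB_ne U V D hU0 hV0 hD0 hD2 hUU hDU hab hca hcb hai hbi hci hδ hDab hDac hUa hVa hUb hVb
      hUc hVc hoff
    have hzero : Cnt x x' = 0 := by
      have : Cnt x x' ≤ 0 := by simpa using hle
      omega
    rw [hzero] at hcnt
    apply hne
    have h5 : (Nat.card G : ℚ) * ∑ i, ((U i ^ 2 * V i : ℤ) : ℚ) / (D i : ℚ) = 0 := by
      rw [← hcnt]; norm_num
    exact (mul_eq_zero.mp h5).resolve_left hGpos.ne'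
  · -- `e = 4`
    rw [he] at hle
    have hmod : ∀ i, ∃ k : ℤ, D i + 4 * U i + 4 * V i = 9 * k := fun i =>
      sum_split H hx h1 hx' h1' hnc he (IsIrrCharacter.isCharacter i.2) (hD i) (hU i) (hV i)
    obtain ⟨a, b, δ, hab, hai, hbi, hδ, hDab, hUa, hVa, hUb, hVb, hoff⟩ :=
      pat U V D i₀ hU0 hV0 hDpos h3UV hUU hVV hUV hDU hDV
    have hY := caseA_bound U V D hU0 hV0 hD0 hDpos hUU hab hai hbi hδ hDab hUa hVa hUb hVb hoff hmod
    have hG720 : Nat.card G ≤ 720 := by
      have h5 : ((Cnt x x' : ℕ) : ℚ) ≤ 162 := by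
        have : Cnt x x' ≤ 162 := by simpa using hle
        exact_mod_cast this
      rw [hcnt] at h5
      have h6 : (Nat.card G : ℚ) * (9 / 40) ≤ 162 :=
        le_trans (mul_le_mul_of_nonneg_left hY hGpos.le) h5
      have h7 : (Nat.card G : ℚ) ≤ 720 := by linarith
      exact_mod_cast h7
    have hN := card_normalizer H hx h1
    rw [he] at hN
    have hmod9 := card_sylow_mod H P hSP
    have hne1 := card_sylow_ne_one H P hSP
    have hprod : 36 * Nat.card (Sylow 3 G) = Nat.card G := by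
      haveI : Fact (Nat.Prime 3) := ⟨Nat.prime_three⟩
      have hN' : Nat.card (normalizer ((P : Subgroup G) : Set G)) = 36 := by
        rw [← hSP]; exact hN
      have h2 := Subgroup.card_mul_index (normalizer ((P : Subgroup G) : Set G))
      rw [hN'] at h2
      rw [Sylow.card_eq_index_normalizer P]
      exact h2
    have hcases : Nat.card (Sylow 3 G) = 10 ∨ Nat.card (Sylow 3 G) = 19 := by omega
    rcases hcases with h10 | h19
    · apply Cfsg.Agent.Lib.Order360.iso_A6
      omega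
    · exact (not_684 (G := G) (by omega)).elim

end Main

end Cfsg.Agent.Lib.S3341Main9
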