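import Mathlib
import Cfsg.Prelude.Def_Characters
import Cfsg.Agent.Lib.CharBasic
import Cfsg.Agent.Lib.GenChar
import Cfsg.Agent.Lib.PermChar

/-!
# The model `S₃ × S₃`

Explicit class functions on `DihedralGroup 3 × DihedralGroup 3`, with all the finite computations
(inner products, class sums, conjugacy) needed for the characterisation of groups with Sylow
`3`-subgroup `E₉` and normalizer `S₃ × S₃`.
-/

set_option autoImplicit false
set_option maxRecDepth 100000

namespace Cfsg.Agent.Lib.S3x3Model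

open Cfsg DihedralGroup
open Cfsg.Agent.Lib.CharBasic Cfsg.Agent.Lib.GenChar

abbrev S3 := DihedralGroup 3
abbrev HH := S3 × S3

def one3 : S3 → ℤ := fun _ => 1
def sg3 : S3 → ℤ := fun x => match x with
  | r _ => 1
  | sr _ => -1
def rho3 : S3 → ℤ := fun x => match x with
  | r i => if i = 0 then 2 else -1
  | sr _ => 0
def alp3 : S3 → ℤ := fun x => match x with
  | r i => if i = 0 then 0 else 3
  | sr _ => 0

def tens (f g : S3 → ℤ) : HH → ℤ := fun x => f x.1 * g x.2

def isRot : S3 → Bool := fun x => match x with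
  | r _ => true
  | sr _ => false

def isT (w : HH) : Bool := isRot w.1 && isRot w.2
def A1 (w : HH) : Bool := !isRot w.1 && w.2 == 1
def A2 (w : HH) : Bool := w.1 == 1 && !isRot w.2
def A3 (w : HH) : Bool := !isRot w.1 && !isRot w.2

def aH : HH := (sr 0, 1)
def bH : HH := (1, sr 0)
def e1H : HH := (r 1, 1)
def e2H : HH := (1, r 1)

abbrev F1 : HH → ℤ := tens one3 alp3
abbrev F2 : HH → ℤ := tens sg3 alp3
abbrev F3 : HH → ℤ := tens rho3 alp3
abbrev R1 : HH → ℤ := tens alp3 one3
abbrev L1 : HH → ℤ := tens one3 sg3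
abbrev L2 : HH → ℤ := tens sg3 one3
abbrev P1 : HH → ℤ := tens one3 rho3
abbrev P2 : HH → ℤ := tens rho3 one3
abbrev AA : HH → ℤ := tens alp3 alp3

/-! ### Finite checks -/

theorem isT_sq : ∀ w : HH, isT (w * w) = true := by decide

theorem class_one3 : ∀ x g : S3, one3 (g * x * g⁻¹) = one3 x := by decide
theorem class_sg3 : ∀ x g : S3, sg3 (g * x * g⁻¹) = sg3 x := by decide
theorem class_rho3 : ∀ x g : S3, rho3 (g * x * g⁻¹) = rho3 x := by decide
theorem class_alp3 : ∀ x g : S3, alp3 (g * x * g⁻¹) = alp3 x := by decide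

theorem class_tens {f g : S3 → ℤ} (hf : ∀ x h : S3, f (h * x * h⁻¹) = f x)
    (hg : ∀ x h : S3, g (h * x * h⁻¹) = g x) (x h : HH) :
    tens f g (h * x * h⁻¹) = tens f g x := by
  simp only [tens, Prod.fst_mul, Prod.snd_mul, Prod.fst_inv, Prod.snd_inv, hf, hg]

/-- Admissible functions: class functions vanishing on elements of square one. -/
def Adm (F : HH → ℤ) : Prop :=
  (∀ x h : HH, F (h * x * h⁻¹) = F x) ∧ ∀ x : HH, x * x = 1 → F x = 0

theorem adm_F1 : Adm F1 := ⟨class_tens class_one3 class_alp3, by decide⟩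
theorem adm_F2 : Adm F2 := ⟨class_tens class_sg3 class_alp3, by decide⟩
theorem adm_F3 : Adm F3 := ⟨class_tens class_rho3 class_alp3, by decide⟩
theorem adm_R1 : Adm R1 := ⟨class_tens class_alp3 class_one3, by decide⟩

theorem sum_F1_F1 : ∑ w : HH, F1 w * F1 w = 108 := by decide
theorem sum_F1 : ∑ w : HH, F1 w = 36 := by decide
theorem sum_F2_F2 : ∑ w : HH, F2 w * F2 w = 108 := by decide
theorem sum_F2 : ∑ w : HH, F2 w = 0 := by decide
theorem sum_F2_F1 : ∑ w : HH, F2 w * F1 w = 0 := by decide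
theorem sum_F2_L2 : ∑ w : HH, F2 w * L2 w = 36 := by decide
theorem sum_F3_F3 : ∑ w : HH, F3 w * F3 w = 108 := by decide
theorem sum_F3 : ∑ w : HH, F3 w = 0 := by decide
theorem sum_F3_F1 : ∑ w : HH, F3 w * F1 w = 0 := by decide
theorem sum_F3_P2 : ∑ w : HH, F3 w * P2 w = 36 := by decide
theorem sum_F1_L2 : ∑ w : HH, F1 w * L2 w = 0 := by decide
theorem sum_F1_P2 : ∑ w : HH, F1 w * P2 w = 0 := by decide
theorem sum_AA : ∑ w : HH, AA w = 36 := by decide

theorem AA_eq : ∀ w : HH, AA w = F1 w + F2 w - F3 w := by decide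

theorem P1_eq : ∀ w : HH, P1 w = 1 + L1 w - F1 w := by decide

theorem F1_swap : ∀ w : HH, F1 (w.2, w.1) = R1 w := by decide
theorem L1_swap : ∀ w : HH, L1 (w.2, w.1) = L2 w := by decide
theorem P1_swap : ∀ w : HH, P1 (w.2, w.1) = P2 w := by decide

theorem sum_A1_F1 :
    ∑ w : HH, ∑ w' : HH, (if A1 w = true ∧ A1 w' = true then F1 (w * w') else 0) = 0 := by decide

theorem sum_A13_F1 :
    ∑ w : HH, ∑ w' : HH, (if (A1 w = true ∨ A3 w = true) ∧ (A1 w' = true ∨ A3 w' = true)
      then F1 (w * w') else 0) = 162 := by decide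

theorem sum_A13_R1 :
    ∑ w : HH, ∑ w' : HH, (if (A1 w = true ∨ A3 w = true) ∧ (A1 w' = true ∨ A3 w' = true)
      then R1 (w * w') else 0) = 288 := by decide

/-! ### Conjugacy and element structure in the model -/

theorem inv_classify : ∀ w : HH, w * w = 1 → w = 1 ∨ A1 w = true ∨ A2 w = true ∨ A3 w = true := by
  decide

theorem conj_A1 : ∀ w : HH, A1 w = true → ∃ g : HH, g * aH * g⁻¹ = w := by decide
theorem conj_A2 : ∀ w : HH, A2 w = true → ∃ g : HH, g * bH * g⁻¹ = w := by decide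
theorem conj_A3 : ∀ w : HH, A3 w = true → ∃ g : HH, g * (aH * bH) * g⁻¹ = w := by decide

theorem A1_aH : A1 aH = true := by decide
theorem A3_ab : A3 (aH * bH) = true := by decide

theorem e1H_eq : e1H = aH * (e1H * aH * e1H⁻¹) := by decide
theorem e2H_eq : e2H = bH * (e2H * bH * e2H⁻¹) := by decide

theorem isT_gen : ∀ w : HH, isT w = true → ∃ i j : Fin 3, w = e1H ^ (i : ℕ) * e2H ^ (j : ℕ) := by
  decide

theorem isT_e1 : isT e1H = true := by decide
theorem isT_e2 : isT e2H = true := by decide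

theorem cosets : ∀ w : HH, isT w = true ∨ isT (w * aH) = true ∨ isT (w * bH) = true ∨
    isT (w * aH * bH) = true := by decide

theorem L1_T : ∀ w : HH, isT w = true → L1 w = 1 := by decide
theorem L1_Ta : ∀ w : HH, isT (w * aH) = true → L1 w = 1 := by decide
theorem L1_Tb : ∀ w : HH, isT (w * bH) = true → L1 w = -1 := by decide
theorem L1_Tab : ∀ w : HH, isT (w * aH * bH) = true → L1 w = -1 := by decide

theorem card_centralizer_e1 : (Finset.univ.filter (fun w : HH => w * e1H = e1H * w)).card = 18 := by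
  decide

theorem e2H_inv : e2H⁻¹ = bH * e2H * bH⁻¹ := by decide
theorem e12H_inv : (e1H * e2H)⁻¹ = (aH * bH) * (e1H * e2H) * (aH * bH)⁻¹ := by decide
theorem e12_cube : (e1H * e2H) ^ 3 = 1 := by decide
theorem e1_cube : e1H ^ 3 = 1 := by decide
theorem e2_cube : e2H ^ 3 = 1 := by decide
theorem aH_sq : aH * aH = 1 := by decide
theorem bH_sq : bH * bH = 1 := by decide
theorem ab_sq : (aH * bH) * (aH * bH) = 1 := by decide
theorem e1_ne : e1H ≠ 1 := by decide
theorem e2_ne : e2H ≠ 1 := by decide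
theorem e12_ne : e1H * e2H ≠ 1 := by decide
theorem aH_ne : aH ≠ 1 := by decide

theorem AA_supp : ∀ w : HH, AA w ≠ 0 → ∃ g : HH, g * w * g⁻¹ = e1H * e2H := by decide

theorem F1_one : F1 1 = 0 := by decide
theorem R1_one : R1 1 = 0 := by decide
theorem F2_one : F2 1 = 0 := by decide
theorem F3_one : F3 1 = 0 := by decide
theorem F1_aH : F1 aH = 0 := by decide
theorem R1_aH : R1 aH = 0 := by decide
theorem F1_e2 : F1 e2H = 3 := by decide
theorem F1_e1 : F1 e1H = 0 := by decide
theorem L2_aH : L2 aH = -1 := by decide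
theorem P2_aH : P2 aH = 0 := by decide
theorem L2_one : L2 1 = 1 := by decide
theorem P2_one : P2 1 = 2 := by decide
theorem L1_one : L1 1 = 1 := by decide
theorem P1_one : P1 1 = 2 := by decide

theorem not_conj_e2_e1 : ∀ (g : HH) (i : Fin 3), g * e2H * g⁻¹ ≠ e1H ^ (i : ℕ) := by decide
theorem T_cent_b : ∀ w : HH, isT w = true → w * bH = bH * w → ∃ i : Fin 3, w = e1H ^ (i : ℕ) := by
  decide
theorem e2_comm_a : e2H * aH = aH * e2H := by decide
theorem e1_comm_b : e1H * bH = bH * e1H := by decide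
theorem not_isT_aH : isT aH = false := by decide
theorem not_isT_bH : isT bH = false := by decide

theorem isT_swap : ∀ w : HH, isT (w.2, w.1) = isT w := by decide
theorem aH_swap : (aH.2, aH.1) = bH := by decide
theorem bH_swap : (bH.2, bH.1) = aH := by decide
theorem ab_comm : aH * bH = bH * aH := by decide

theorem isT_conj : ∀ v w : HH, isT w = true → isT (v * w * v⁻¹) = true := by decide
theorem ab_swap : ((aH * bH).2, (aH * bH).1) = aH * bH := by decide
theorem e1H_comm_aconj : (aH * bH) * (aH * bH) = 1 := by decide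

theorem L2_T : ∀ w : HH, isT w = true → L2 w = 1 := by decide
theorem isT_of_L : ∀ w : HH, L1 w = 1 → L2 w = 1 → isT w = true := by decide

/-! ### Generalized characters -/

/-- The action of `S₃` on three points. -/
def act3 : S3 → ZMod 3 → ZMod 3 := fun x j => match x with
  | r i => j + i
  | sr i => -i - j

theorem act3_one : ∀ j : ZMod 3, act3 1 j = j := by decide
theorem act3_mul : ∀ (x y : S3) (j : ZMod 3), act3 (x * y) j = act3 x (act3 y j) := by decide

instance instAct3 : MulAction S3 (ZMod 3) where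
  smul := act3
  one_smul := act3_one
  mul_smul := act3_mul

theorem card_fix : ∀ x : S3, (((Finset.univ.filter (fun j : ZMod 3 => act3 x j = j)).card : ℕ) : ℤ) =
    rho3 x + 1 := by decide

theorem gen_rho3 : IsGeneralizedCharacter S3 (fun x => ((rho3 x : ℤ) : ℂ)) := by
  classical
  refine ⟨Cfsg.Agent.Lib.PermChar.pc S3 (ZMod 3), fun _ => 1,
    Cfsg.Agent.Lib.PermChar.isCharacter_pc, isCharacter_one, ?_⟩
  funext x
  have h := card_fix x
  have h2 : Nat.card (MulAction.fixedBy (ZMod 3) x) =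
      (Finset.univ.filter (fun j : ZMod 3 => act3 x j = j)).card := by
    rw [Nat.card_eq_fintype_card, Fintype.card_subtype]
    rfl
  simp only [Pi.sub_apply, Cfsg.Agent.Lib.PermChar.pc]
  rw [h2]
  have h3 : (((Finset.univ.filter (fun j : ZMod 3 => act3 x j = j)).card : ℕ) : ℂ) =
      ((rho3 x + 1 : ℤ) : ℂ) := by
    rw [← h]; simp
  rw [h3]
  push_cast
  ring

/-- The sign homomorphism. -/
def sgHom : S3 →* ℂˣ where
  toFun x := match x with
    | r _ => 1
    | sr _ => -1
  map_one' := rfl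
  map_mul' := by
    rintro (i | i) (j | j) <;> simp

theorem gen_sg3 : IsGeneralizedCharacter S3 (fun x => ((sg3 x : ℤ) : ℂ)) := by
  have h := isGen_of_isIrr (isIrrCharacter_of_hom sgHom)
  convert h using 1
  funext x
  rcases x with i | i
  · have h1 : sgHom (r i) = 1 := rfl
    simp [sg3, h1]
  · have h1 : sgHom (sr i) = -1 := rfl
    simp [sg3, h1]

theorem gen_one3 : IsGeneralizedCharacter S3 (fun x => ((one3 x : ℤ) : ℂ)) := by
  have h := isGen_of_isChar (isCharacter_one (G := S3))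
  convert h using 1
  funext x
  simp [one3]

theorem alp3_eq : ∀ x : S3, alp3 x = 1 + sg3 x - rho3 x := by decide

theorem gen_alp3 : IsGeneralizedCharacter S3 (fun x => ((alp3 x : ℤ) : ℂ)) := by
  have h := isGen_sub (isGen_add gen_one3 gen_sg3) gen_rho3
  convert h using 1
  funext x
  simp only [Pi.add_apply, Pi.sub_apply, alp3_eq x, one3]
  push_cast
  ring

theorem isGen_mul' {G : Type*} [Group G] {a b : G → ℂ} (ha : IsGeneralizedCharacter G a)
    (hb : IsGeneralizedCharacter G b) : IsGeneralizedCharacter G (a * b) := by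
  obtain ⟨χ₁, ψ₁, h1, h2, rfl⟩ := ha
  obtain ⟨χ₂, ψ₂, h3, h4, rfl⟩ := hb
  refine ⟨χ₁ * χ₂ + ψ₁ * ψ₂, χ₁ * ψ₂ + ψ₁ * χ₂,
    isCharacter_add (isCharacter_mul h1 h3) (isCharacter_mul h2 h4),
    isCharacter_add (isCharacter_mul h1 h4) (isCharacter_mul h2 h3), ?_⟩
  ring

theorem gen_tens {f g : S3 → ℤ} (hf : IsGeneralizedCharacter S3 (fun x => ((f x : ℤ) : ℂ)))
    (hg : IsGeneralizedCharacter S3 (fun x => ((g x : ℤ) : ℂ))) :
    IsGeneralizedCharacter HH (fun w => ((tens f g w : ℤ) : ℂ)) := by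
  have h := isGen_mul' (isGen_isCharacter_comp (MonoidHom.fst S3 S3) hf)
    (isGen_isCharacter_comp (MonoidHom.snd S3 S3) hg)
  convert h using 1
  funext w
  simp [tens]

theorem gen_F1 : IsGeneralizedCharacter HH (fun w => ((F1 w : ℤ) : ℂ)) := gen_tens gen_one3 gen_alp3
theorem gen_F2 : IsGeneralizedCharacter HH (fun w => ((F2 w : ℤ) : ℂ)) := gen_tens gen_sg3 gen_alp3
theorem gen_F3 : IsGeneralizedCharacter HH (fun w => ((F3 w : ℤ) : ℂ)) := gen_tens gen_rho3 gen_alp3
theorem gen_R1 : IsGeneralizedCharacter HH (fun w => ((R1 w : ℤ) : ℂ)) := gen_tens gen_alp3 gen_one3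

end Cfsg.Agent.Lib.S3x3Model
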