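import Mathlib

/-!
# Arithmetic: Fermat and Mersenne numbers and numbers `3 · 2^r`
-/

set_option autoImplicit false
set_option linter.unusedVariables false

namespace Cfsg.Agent.Lib.S4501Ar9

theorem eq_of_dvd_of_lt {s n : ℤ} (hs : 0 < s) (hd : s ∣ n) (h0 : 0 < n) (h1 : n < 2 * s) : n = s := by
  have h2 : s ≤ n := Int.le_of_dvd h0 hd
  have h3 : s ∣ n - s := dvd_sub hd dvd_rfl
  have h4 : n - s = 0 := Int.eq_zero_of_abs_lt_dvd h3 (by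
    rw [abs_of_nonneg (by omega)]
    omega)
  omega

/-- `3 · 2^r ≡ 1` modulo a Fermat number `2^i + 1`. -/
theorem fermat {i r : ℕ} (hi : 1 ≤ i) (hd : ((2 : ℤ) ^ i + 1) ∣ 3 * 2 ^ r - 1) : i = 2 := by
  set s : ℤ := (2 : ℤ) ^ i + 1 with hs
  have hpos2 : (0 : ℤ) < 2 ^ i := by positivity
  have hspos : 0 < s := by omega
  obtain ⟨q, r₀, hr₀, rfl⟩ : ∃ q r₀, r₀ < i ∧ r = i * q + r₀ :=
    ⟨r / i, r % i, Nat.mod_lt _ (by omega), (Nat.div_add_mod r i).symm⟩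
  have h1 : s ∣ ((2 : ℤ) ^ i) ^ q - (-1) ^ q := by
    have := sub_dvd_pow_sub_pow ((2 : ℤ) ^ i) (-1) q
    rwa [show (2 : ℤ) ^ i - -1 = s by rw [hs]; ring] at this
  have h2 : s ∣ (-1) ^ q * (3 * 2 ^ r₀) - 1 := by
    have h3 := dvd_sub hd (Dvd.dvd.mul_left h1 (3 * 2 ^ r₀))
    have h4 : 3 * (2 : ℤ) ^ (i * q + r₀) - 1 - 3 * 2 ^ r₀ * (((2 : ℤ) ^ i) ^ q - (-1) ^ q) =
        (-1) ^ q * (3 * 2 ^ r₀) - 1 := by
      rw [pow_add, pow_mul]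
      ring
    rwa [h4] at h3
  have hX : (0 : ℤ) < 2 ^ r₀ := by positivity
  have hXY : 2 * (2 : ℤ) ^ r₀ ≤ 2 ^ i := by
    have : (2 : ℤ) ^ (r₀ + 1) ≤ 2 ^ i := pow_le_pow_right₀ (by norm_num) hr₀
    rwa [pow_succ, mul_comm] at this
  rcases neg_one_pow_eq_or ℤ q with h3 | h3
  · rw [h3, one_mul] at h2
    have h4 := eq_of_dvd_of_lt hspos h2 (by omega) (by omega)
    rcases r₀ with _ | r₁
    · simp only [pow_zero] at h4
      omega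
    · obtain ⟨i', rfl⟩ : ∃ i', i = i' + 1 := ⟨i - 1, by omega⟩
      have h5 : 3 * (2 : ℤ) ^ r₁ = 2 ^ i' + 1 := by
        rw [hs] at h4
        have e1 : (2 : ℤ) ^ (r₁ + 1) = 2 * 2 ^ r₁ := by ring
        have e2 : (2 : ℤ) ^ (i' + 1) = 2 * 2 ^ i' := by ring
        rw [e1, e2] at h4
        omega
      have hi' : i' ≠ 0 := by
        rintro rfl
        omega
      obtain ⟨i'', rfl⟩ : ∃ i'', i' = i'' + 1 := ⟨i' - 1, by omega⟩
      have e2 : (2 : ℤ) ^ (i'' + 1) = 2 * 2 ^ i'' := by ring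
      rw [e2] at h5
      rcases r₁ with _ | r₂
      · simp only [pow_zero] at h5
        have h6 : (2 : ℤ) ^ i'' = 1 := by omega
        have h7 : i'' = 0 := by
          by_contra h8
          have : (1 : ℤ) < 2 ^ i'' := one_lt_pow₀ (by norm_num) h8
          omega
        omega
      · have e3 : (2 : ℤ) ^ (r₂ + 1) = 2 * 2 ^ r₂ := by ring
        rw [e3] at h5
        omega
  · rw [h3] at h2
    have h4 : s ∣ 3 * 2 ^ r₀ + 1 := by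
      have := (dvd_neg).2 h2
      rwa [show -((-1 : ℤ) * (3 * 2 ^ r₀) - 1) = 3 * 2 ^ r₀ + 1 by ring] at this
    have h5 := eq_of_dvd_of_lt hspos h4 (by omega) (by omega)
    exfalso
    have h6 : (3 : ℤ) ∣ 2 ^ i := ⟨2 ^ r₀, by omega⟩
    have h7 : (3 : ℤ) ∣ 2 := Int.prime_three.dvd_of_dvd_pow h6
    omega

/-- `3 · 2^r ≢ 1` modulo a Mersenne number `2^i - 1`. -/
theorem mersenne {i r : ℕ} (hi : 2 ≤ i) : ¬ ((2 : ℤ) ^ i - 1) ∣ 3 * 2 ^ r - 1 := by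
  intro hd
  set s : ℤ := (2 : ℤ) ^ i - 1 with hs
  have hY4 : (4 : ℤ) ≤ 2 ^ i := by
    have : (2 : ℤ) ^ 2 ≤ 2 ^ i := pow_le_pow_right₀ (by norm_num) hi
    simpa using this
  have hspos : 0 < s := by omega
  obtain ⟨q, r₀, hr₀, rfl⟩ : ∃ q r₀, r₀ < i ∧ r = i * q + r₀ :=
    ⟨r / i, r % i, Nat.mod_lt _ (by omega), (Nat.div_add_mod r i).symm⟩
  have h1 : s ∣ ((2 : ℤ) ^ i) ^ q - 1 ^ q := sub_dvd_pow_sub_pow ((2 : ℤ) ^ i) 1 q
  have h2 : s ∣ 3 * 2 ^ r₀ - 1 := by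
    have h3 := dvd_sub hd (Dvd.dvd.mul_left h1 (3 * 2 ^ r₀))
    have h4 : 3 * (2 : ℤ) ^ (i * q + r₀) - 1 - 3 * 2 ^ r₀ * (((2 : ℤ) ^ i) ^ q - 1 ^ q) =
        3 * 2 ^ r₀ - 1 := by
      rw [pow_add, pow_mul]
      ring
    rwa [h4] at h3
  have hX : (0 : ℤ) < 2 ^ r₀ := by positivity
  have hXY : 2 * (2 : ℤ) ^ r₀ ≤ 2 ^ i := by
    have : (2 : ℤ) ^ (r₀ + 1) ≤ 2 ^ i := pow_le_pow_right₀ (by norm_num) hr₀
    rwa [pow_succ, mul_comm] at this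
  have h5 := eq_of_dvd_of_lt hspos h2 (by omega) (by omega)
  have h6 : (3 : ℤ) ∣ 2 ^ i := ⟨2 ^ r₀, by omega⟩
  have h7 : (3 : ℤ) ∣ 2 := Int.prime_three.dvd_of_dvd_pow h6
  omega

/-- Natural number forms. -/
theorem fermat_nat {i r s : ℕ} (hi : 1 ≤ i) (hs : s = 2 ^ i + 1) (h : 3 * 2 ^ r ≡ 1 [MOD s]) : i = 2 := by
  apply fermat (r := r) hi
  have h1 : (s : ℤ) ∣ 3 * 2 ^ r - 1 := by
    have := (Nat.modEq_iff_dvd).1 h.symm
    push_cast at this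
    exact this
  rw [hs] at h1
  push_cast at h1
  exact h1

theorem mersenne_nat {i r s : ℕ} (hi : 2 ≤ i) (hs : s + 1 = 2 ^ i) : ¬ 3 * 2 ^ r ≡ 1 [MOD s] := by
  intro h
  apply mersenne (r := r) hi
  have h1 : (s : ℤ) ∣ 3 * 2 ^ r - 1 := by
    have := (Nat.modEq_iff_dvd).1 h.symm
    push_cast at this
    exact this
  have h2 : (s : ℤ) = 2 ^ i - 1 := by
    have : ((s + 1 : ℕ) : ℤ) = ((2 ^ i : ℕ) : ℤ) := by rw [hs]
    push_cast at this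
    omega
  rwa [h2] at h1

/-- Purity for two primes. -/
theorem pure_two {r : ℕ} (hr : r.Prime) (hr2 : r ≠ 2) {a b : ℕ} (ha : 1 < a) (hb : 1 < b)
    (hab : a.Coprime b) (ga : ∀ l : ℕ, l.Prime → l ∣ a → l = 2 ∨ l = r)
    (gb : ∀ l : ℕ, l.Prime → l ∣ b → l = 2 ∨ l = r) :
    ((∃ i, 1 ≤ i ∧ a = 2 ^ i) ∧ (∃ j, 1 ≤ j ∧ b = r ^ j)) ∨
      ((∃ j, 1 ≤ j ∧ a = r ^ j) ∧ (∃ i, 1 ≤ i ∧ b = 2 ^ i)) := by
  have key : ∀ {x p q : ℕ}, 1 < x → p.Prime → ¬ q ∣ x →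
      (∀ l : ℕ, l.Prime → l ∣ x → l = q ∨ l = p) → ∃ j, 1 ≤ j ∧ x = p ^ j := by
    intro x p q hx hp hq gx
    have h1 := Nat.eq_prime_pow_of_unique_prime_dvd (n := x) (p := p) (by omega) (by
      intro d hd hdx
      rcases gx d hd hdx with rfl | h
      · exact absurd hdx hq
      · exact h)
    refine ⟨_, ?_, h1⟩
    by_contra h2
    have h3 : x.primeFactorsList.length = 0 := by omega
    rw [h3] at h1
    simp at h1
    omega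
  have hd : ∀ {x p : ℕ}, p.Prime → (∃ j, 1 ≤ j ∧ x = p ^ j) → p ∣ x := by
    rintro x p hp ⟨j, hj, rfl⟩
    exact dvd_pow_self _ (by omega)
  by_cases h3 : 2 ∣ a
  · left
    have hb3 : ¬ 2 ∣ b := fun h => Nat.prime_two.one_lt.ne' (Nat.eq_one_of_dvd_coprimes hab h3 h)
    have hbr := key hb hr hb3 gb
    have har : ¬ r ∣ a := fun h =>
      hr.one_lt.ne' (Nat.eq_one_of_dvd_coprimes hab h (hd hr hbr))
    have ha3 := key ha Nat.prime_two har (fun l hl h => (ga l hl h).symm)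
    exact ⟨ha3, hbr⟩
  · right
    have har := key ha hr h3 ga
    have hbr : ¬ r ∣ b := fun h =>
      hr.one_lt.ne' (Nat.eq_one_of_dvd_coprimes hab (hd hr har) h)
    have hb3 := key hb Nat.prime_two hbr (fun l hl h => (gb l hl h).symm)
    exact ⟨har, hb3⟩

/-- The square of an odd prime different from `3` is not next to a power of two. -/
theorem not_sq_add {s i : ℕ} (hs : s.Prime) (hs3 : s ≠ 3) : s ^ 2 ≠ 2 ^ i + 1 := by
  intro h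
  have h1 : s % 3 = 1 ∨ s % 3 = 2 := by
    have h2 : ¬ 3 ∣ s := fun h3 => hs3 ((Nat.prime_dvd_prime_iff_eq Nat.prime_three hs).1 h3).symm
    omega
  have h3 : s ^ 2 % 3 = 1 := by
    rcases h1 with h1 | h1 <;> simp [pow_two, Nat.mul_mod, h1]
  have h4 : 3 ∣ 2 ^ i := by omega
  have := Nat.prime_three.dvd_of_dvd_pow h4
  omega

theorem not_sq_sub {s i : ℕ} (hs : s.Prime) (hs2 : s ≠ 2) : s ^ 2 + 1 ≠ 2 ^ i := by
  intro h
  have h1 : s % 4 = 1 ∨ s % 4 = 3 := by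
    have h2 := hs.eq_one_or_self_of_dvd 2
    have h3 : ¬ 2 ∣ s := fun h3 => hs2 ((Nat.prime_dvd_prime_iff_eq Nat.prime_two hs).1 h3).symm
    omega
  have h3 : s ^ 2 % 4 = 1 := by
    rcases h1 with h1 | h1 <;> simp [pow_two, Nat.mul_mod, h1]
  have hs1 := hs.one_lt
  have hi : i ≠ 0 := by
    rintro rfl
    simp at h
    nlinarith
  have hi1 : i ≠ 1 := by
    rintro rfl
    nlinarith
  obtain ⟨j, rfl⟩ : ∃ j, i = j + 2 := ⟨i - 2, by omega⟩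
  have h4 : 2 ^ (j + 2) = 4 * 2 ^ j := by ring
  rw [h4] at h
  omega

end Cfsg.Agent.Lib.S4501Ar9
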