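import Mathlib

/-!
# A Diophantine lemma on degrees of the principal `2`-block

Integers built from powers of `3` and a prime `r`.
-/

set_option autoImplicit false
set_option linter.unusedVariables false

namespace Cfsg.Agent.Lib.S4501Dio9

/-- Only the primes `3`, `r` divide `n`. -/
def Good (r : ℕ) (n : ℤ) : Prop := ∀ l : ℕ, l.Prime → (l : ℤ) ∣ n → l = 3 ∨ l = r

/-- Positive power of `3`. -/
def H3 (x : ℤ) : Prop := ∃ i : ℕ, 1 ≤ i ∧ x = 3 ^ i

/-- Positive power of `r`. -/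
def Hr (r : ℕ) (x : ℤ) : Prop := ∃ j : ℕ, 1 ≤ j ∧ x = (r : ℤ) ^ j

theorem H3.dvd {x : ℤ} (h : H3 x) : (3 : ℤ) ∣ x := by
  obtain ⟨i, hi, rfl⟩ := h
  exact dvd_pow_self _ (by omega)

theorem H3.mod9 {x : ℤ} (h : H3 x) : x = 3 ∨ (9 : ℤ) ∣ x := by
  obtain ⟨i, hi, rfl⟩ := h
  obtain ⟨k, rfl⟩ : ∃ k, i = k + 1 := ⟨i - 1, by omega⟩
  rcases k with _ | k
  · left
    norm_num
  · right
    exact ⟨3 ^ k, by ring⟩

theorem Hr.dvd {r : ℕ} {x : ℤ} (h : Hr r x) : (r : ℤ) ∣ x := by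
  obtain ⟨i, hi, rfl⟩ := h
  exact dvd_pow_self _ (by omega)

theorem Hr.not3 {r : ℕ} (hr : r.Prime) (hr3 : r ≠ 3) {x : ℤ} (h : Hr r x) : ¬ (3 : ℤ) ∣ x := by
  obtain ⟨i, hi, rfl⟩ := h
  intro h3
  have h4 : (3 : ℤ) ∣ r := Int.prime_three.dvd_of_dvd_pow h3
  have h5 : 3 ∣ r := by exact_mod_cast h4
  exact hr3 ((Nat.prime_dvd_prime_iff_eq Nat.prime_three hr).1 h5).symm

theorem H3.notr {r : ℕ} (hr : r.Prime) (hr3 : r ≠ 3) {x : ℤ} (h : H3 x) : ¬ (r : ℤ) ∣ x := by
  obtain ⟨i, hi, rfl⟩ := h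
  intro h3
  have h4 : (r : ℤ) ∣ 3 := (Nat.prime_iff_prime_int.1 hr).dvd_of_dvd_pow h3
  have h5 : r ∣ 3 := by exact_mod_cast h4
  exact hr3 ((Nat.prime_dvd_prime_iff_eq hr Nat.prime_three).1 h5)

theorem not_dvd_one {r : ℕ} (hr : r.Prime) : ¬ (r : ℤ) ∣ 1 := by
  intro h
  have h5 : r ∣ 1 := by exact_mod_cast h
  exact hr.one_lt.ne' (Nat.dvd_one.1 h5)

/-- The natural number version of the purity lemma. -/
theorem pure_nat {r : ℕ} (hr : r.Prime) (hr3 : r ≠ 3) {a b : ℕ} (ha : 1 < a) (hb : 1 < b)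
    (hab : a.Coprime b) (ga : ∀ l : ℕ, l.Prime → l ∣ a → l = 3 ∨ l = r)
    (gb : ∀ l : ℕ, l.Prime → l ∣ b → l = 3 ∨ l = r) :
    ((∃ i, 1 ≤ i ∧ a = 3 ^ i) ∧ (∃ j, 1 ≤ j ∧ b = r ^ j)) ∨
      ((∃ j, 1 ≤ j ∧ a = r ^ j) ∧ (∃ i, 1 ≤ i ∧ b = 3 ^ i)) := by
  have key : ∀ {x p q : ℕ}, 1 < x → p.Prime → ¬ q ∣ x →
      (∀ l : ℕ, l.Prime → l ∣ x → l = q ∨ l = p) → ∃ j, 1 ≤ j ∧ x = p ^ j := by
    intro x p q hx hp hq gx
    have h1 := Nat.eq_prime_pow_of_unique_prime_dvd (n := x) (p := p) (by omega) (by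
      intro d hd hdx
      rcases gx d hd hdx with rfl | h
      · exact absurd hdx hq
      · exact h)
    refine ⟨_, ?_, h1⟩
    by_contra h2
    have h3 : x.primeFactorsList.length = 0 := by omega
    rw [h3] at h1
    simp at h1
    omega
  have hd : ∀ {x p : ℕ}, p.Prime → (∃ j, 1 ≤ j ∧ x = p ^ j) → p ∣ x := by
    rintro x p hp ⟨j, hj, rfl⟩
    exact dvd_pow_self _ (by omega)
  by_cases h3 : 3 ∣ a
  · left
    have hb3 : ¬ 3 ∣ b := fun h => Nat.prime_three.one_lt.ne' (Nat.eq_one_of_dvd_coprimes hab h3 h)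
    have hbr := key hb hr hb3 gb
    have har : ¬ r ∣ a := fun h =>
      hr.one_lt.ne' (Nat.eq_one_of_dvd_coprimes hab h (hd hr hbr))
    have ha3 := key ha Nat.prime_three har (fun l hl h => (ga l hl h).symm)
    exact ⟨ha3, hbr⟩
  · right
    have har := key ha hr h3 ga
    have hbr : ¬ r ∣ b := fun h =>
      hr.one_lt.ne' (Nat.eq_one_of_dvd_coprimes hab (hd hr har) h)
    have hb3 := key hb Nat.prime_three hbr (fun l hl h => (gb l hl h).symm)
    exact ⟨har, hb3⟩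

/-- The purity lemma. -/
theorem pure_int {r : ℕ} (hr : r.Prime) (hr3 : r ≠ 3) {x y : ℤ} (hx : 1 < x) (hy : 1 < y)
    (hxy : IsCoprime x y) (gx : Good r x) (gy : Good r y) :
    (H3 x ∧ Hr r y) ∨ (Hr r x ∧ H3 y) := by
  obtain ⟨a, rfl⟩ : ∃ a : ℕ, x = a := ⟨x.toNat, by omega⟩
  obtain ⟨b, rfl⟩ : ∃ b : ℕ, y = b := ⟨y.toNat, by omega⟩
  have hab : a.Coprime b := Nat.isCoprime_iff_coprime.1 hxy
  have h := pure_nat hr hr3 (a := a) (b := b) (by omega) (by omega) hab
    (fun l hl h => gx l hl (by exact_mod_cast h)) (fun l hl h => gy l hl (by exact_mod_cast h))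
  rcases h with ⟨⟨i, hi, h1⟩, ⟨j, hj, h2⟩⟩ | ⟨⟨j, hj, h1⟩, ⟨i, hi, h2⟩⟩
  · left
    exact ⟨⟨i, hi, by rw [h1]; push_cast; rfl⟩, ⟨j, hj, by rw [h2]; push_cast; rfl⟩⟩
  · right
    exact ⟨⟨j, hj, by rw [h1]; push_cast; rfl⟩, ⟨i, hi, by rw [h2]; push_cast; rfl⟩⟩

theorem Good.neg {r : ℕ} {x : ℤ} (h : Good r x) : Good r (-x) :=
  fun l hl hd => h l hl ((dvd_neg).1 hd)

/-- **The Diophantine lemma.** -/
theorem dioph {r : ℕ} (hr : r.Prime) (hr3 : r ≠ 3) {D E F u v w : ℤ}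
    (h1 : D = 2 * u - 1) (h2 : E = 2 * v - 1) (h3 : F = 2 * w + 1) (h4 : w = u + v - 1)
    (hD : 1 < D) (hE : 1 < E ∨ E < -1) (hF : 1 < F)
    (gD : Good r D) (gE : Good r E) (gF : Good r F) (gu : Good r u) (gv : Good r v) (gw : Good r w) :
    D = 5 ∧ E = -3 ∧ F = 3 ∧ r = 5 := by
  have n1 := not_dvd_one hr
  have hrz : ∀ {a b : ℤ}, (r : ℤ) ∣ a → (r : ℤ) ∣ b → (r : ℤ) ∣ a - b := fun h h' => dvd_sub h h'
  have hu1 : 1 < u := by omega
  have hDu : IsCoprime D u := ⟨-1, 2, by rw [h1]; ring⟩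
  have pDu := pure_int hr hr3 hD hu1 hDu gD gu
  rcases hE with hE | hE
  · -- `v ≥ 2`
    have hv1 : 1 < v := by omega
    have hw1 : 1 < w := by omega
    have pEv := pure_int hr hr3 hE hv1 (⟨-1, 2, by rw [h2]; ring⟩ : IsCoprime E v) gE gv
    have pFw := pure_int hr hr3 hF hw1 (⟨1, -2, by rw [h3]; ring⟩ : IsCoprime F w) gF gw
    exfalso
    rcases pDu with ⟨a1, a2⟩ | ⟨a1, a2⟩ <;> rcases pEv with ⟨b1, b2⟩ | ⟨b1, b2⟩ <;>
      rcases pFw with ⟨c1, c2⟩ | ⟨c1, c2⟩
    · have := a1.dvd; have := b1.dvd; have := c1.dvd; omega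
    · -- r | u, r | v, r | F
      apply n1
      have h5 := dvd_sub (dvd_add (Dvd.dvd.mul_left a2.dvd 2) (Dvd.dvd.mul_left b2.dvd 2)) c1.dvd
      have h6 : 2 * u + 2 * v - F = 1 := by omega
      rwa [h6] at h5
    · -- r | u, r | w, r | E
      apply b2.notr hr hr3
      have h5 := dvd_add (dvd_sub b1.dvd c2.dvd) a2.dvd
      have h6 : E - w + u = v := by omega
      rwa [h6] at h5
    · have := a1.dvd; have := b2.dvd; have := c2.dvd; omega
    · -- r | v, r | w, r | D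
      apply a2.notr hr hr3
      have h5 := dvd_add (dvd_sub a1.dvd c2.dvd) b2.dvd
      have h6 : D - w + v = u := by omega
      rwa [h6] at h5
    · have := a2.dvd; have := b1.dvd; have := c2.dvd; have := b2.not3 hr hr3; omega
    · have := a2.dvd; have := b2.dvd; have := c1.dvd; omega
    · have := a2.dvd; have := b2.dvd; have := c2.dvd; omega
  · -- `v ≤ -1`
    obtain ⟨v', rfl⟩ : ∃ v' : ℤ, v = -v' := ⟨-v, by ring⟩
    have hv0 : 1 ≤ v' := by omega
    have hw0 : 1 ≤ w := by omega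
    have gE' : Good r (2 * v' + 1) := by
      have := gE.neg
      rwa [show -E = 2 * v' + 1 by omega] at this
    have gv' : Good r v' := by
      have := gv.neg
      rwa [neg_neg] at this
    have pEv : v' = 1 ∨ (H3 (2 * v' + 1) ∧ Hr r v') ∨ (Hr r (2 * v' + 1) ∧ H3 v') := by
      by_cases hv : v' = 1
      · exact Or.inl hv
      · right
        exact pure_int hr hr3 (by omega) (by omega)
          (⟨1, -2, by ring⟩ : IsCoprime (2 * v' + 1) v') gE' gv'
    have pFw : w = 1 ∨ (H3 F ∧ Hr r w) ∨ (Hr r F ∧ H3 w) := by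
      by_cases hw : w = 1
      · exact Or.inl hw
      · right
        exact pure_int hr hr3 hF (by omega) (⟨1, -2, by rw [h3]; ring⟩ : IsCoprime F w) gF gw
    rcases pDu with ⟨a1, a2⟩ | ⟨a1, a2⟩
    · -- `D` a power of `3`, `u` a power of `r`
      have a3 := a1.dvd
      rcases pEv with hv | ⟨b1, b2⟩ | ⟨b1, b2⟩
      · rcases pFw with hw | ⟨c1, c2⟩ | ⟨c1, c2⟩
        · omega
        · have := c1.dvd; omega
        · exfalso
          rcases c2.mod9 with hw3 | hw9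
          · -- w = 3, u = 5, F = 7
            apply n1
            have h5 := dvd_sub (Dvd.dvd.mul_left a2.dvd 3) (Dvd.dvd.mul_left c1.dvd 2)
            have h6 : 3 * u - 2 * F = 1 := by omega
            rwa [h6] at h5
          · rcases a1.mod9 with hD3 | hD9 <;> omega
      · rcases pFw with hw | ⟨c1, c2⟩ | ⟨c1, c2⟩
        · have := b1.dvd; omega
        · have := b1.dvd; have := c1.dvd; omega
        · exfalso
          apply c2.notr hr hr3
          have h5 := dvd_sub c1.dvd (dvd_sub (Dvd.dvd.mul_left a2.dvd 1) (Dvd.dvd.mul_left b2.dvd 1))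
          have h6 : F - (1 * u - 1 * v') = w := by omega
          rwa [h6] at h5
      · have b3 := b2.dvd
        rcases pFw with hw | ⟨c1, c2⟩ | ⟨c1, c2⟩
        · exfalso
          rcases b2.mod9 with hv3 | hv9
          · -- v' = 3, u = 5, 2 v' + 1 = 7
            apply n1
            have h5 := dvd_sub (Dvd.dvd.mul_left a2.dvd 3) (Dvd.dvd.mul_left b1.dvd 2)
            have h6 : 3 * u - 2 * (2 * v' + 1) = 1 := by omega
            rwa [h6] at h5
          · rcases a1.mod9 with hD3 | hD9 <;> omega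
        · exfalso
          apply b2.notr hr hr3
          have h5 := dvd_sub b1.dvd (dvd_sub (Dvd.dvd.mul_left a2.dvd 1) (Dvd.dvd.mul_left c2.dvd 1))
          have h6 : 2 * v' + 1 - (1 * u - 1 * w) = v' := by omega
          rwa [h6] at h5
        · have := c2.dvd; omega
    · -- `D` a power of `r`, `u` a power of `3`
      have a3 := a2.dvd
      rcases pEv with hv | ⟨b1, b2⟩ | ⟨b1, b2⟩
      · rcases pFw with hw | ⟨c1, c2⟩ | ⟨c1, c2⟩
        · -- the solution
          subst hv hw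
          have hu : u = 3 := by omega
          subst hu
          have hD5 : D = 5 := by omega
          refine ⟨hD5, by omega, by omega, ?_⟩
          have h5 : (r : ℤ) ∣ 5 := by rw [← hD5]; exact a1.dvd
          have h6 : r ∣ 5 := by exact_mod_cast h5
          exact (Nat.prime_dvd_prime_iff_eq hr (by norm_num)).1 h6
        · exfalso
          rcases a2.mod9 with hu3 | hu9
          · have hw1 : w = 1 := by omega
            subst hw1
            exact n1 c2.dvd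
          · rcases c1.mod9 with hF3 | hF9 <;> omega
        · have := c2.dvd; omega
      · have b3 := b1.dvd
        rcases pFw with hw | ⟨c1, c2⟩ | ⟨c1, c2⟩
        · exfalso
          rcases a2.mod9 with hu3 | hu9
          · have := b2.dvd
            have hv1 : v' = 1 := by omega
            subst hv1
            exact n1 b2.dvd
          · rcases b1.mod9 with hE3 | hE9 <;> omega
        · exfalso
          apply a2.notr hr hr3
          have h5 := dvd_sub a1.dvd (dvd_add (Dvd.dvd.mul_left c2.dvd 1) (Dvd.dvd.mul_left b2.dvd 1))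
          have h6 : D - (1 * w + 1 * v') = u := by omega
          rwa [h6] at h5
        · have := c2.dvd; omega
      · have b3 := b2.dvd
        rcases pFw with hw | ⟨c1, c2⟩ | ⟨c1, c2⟩
        · omega
        · have := c1.dvd; omega
        · have := c2.dvd; omega

end Cfsg.Agent.Lib.S4501Dio9
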