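import Mathlib

/-!
# A bipartite coset graph forces a subgroup of index two

`Y` a subgroup, `T₁` of index `3` in `Y`, normalized by `v ∉ Y` with `v² ∈ Y`, `⟨Y, v⟩ = G`.  `P` of odd order, acting
freely on `G / Y`, with exactly two orbits, normalized by an element of order `3` of `Y`, `|P| ≡ 1 (mod 3)`.
Then the coset graph is bipartite, and `G` has a homomorphism onto `{±1}` with `v ↦ -1`.
-/

set_option autoImplicit false
set_option linter.style.haveILetI false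
set_option linter.unusedSectionVars false
set_option linter.unusedVariables false

namespace Cfsg.Agent.Lib.S4501Graph9

open Subgroup

universe u

variable {G : Type u} [Group G] [Finite G]

section Core

variable {Y T₁ P : Subgroup G} {v x : G}

/-- Coset representatives of `T₁` in `Y`. -/
theorem exists_power_mul (hT₁Y : T₁ ≤ Y) (hY3 : Nat.card Y = 3 * Nat.card T₁)
    (hT₁3 : ¬ 3 ∣ Nat.card T₁) {x' : G} (hx'Y : x' ∈ Y) (hx'3 : orderOf x' = 3) {h : G} (hh : h ∈ Y) :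
    ∃ j : ℕ, j < 3 ∧ ∃ τ ∈ T₁, h = x' ^ j * τ := by
  classical
  let f : Fin 3 × T₁ → Y := fun a => ⟨x' ^ (a.1 : ℕ) * a.2, Y.mul_mem (Y.pow_mem hx'Y _) (hT₁Y a.2.2)⟩
  have hinj : Function.Injective f := by
    rintro ⟨j, τ⟩ ⟨k, τ'⟩ hjk
    have h1 : x' ^ (j : ℕ) * (τ : G) = x' ^ (k : ℕ) * τ' := congrArg Subtype.val hjk
    have h2 : x' ^ (((j : ℕ) : ℤ) - (k : ℕ)) = τ' * (τ : G)⁻¹ := by
      rw [zpow_sub, zpow_natCast, zpow_natCast]
      have h3 : x' ^ (j : ℕ) = x' ^ (k : ℕ) * τ' * (τ : G)⁻¹ := by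
        rw [← h1]
        group
      rw [h3]
      have hc : (x' ^ (k : ℕ)) * (τ' : G) * (τ : G)⁻¹ * (x' ^ (k : ℕ))⁻¹ =
          (x' ^ (k : ℕ)) * ((τ' : G) * (τ : G)⁻¹) * (x' ^ (k : ℕ))⁻¹ := by group
      -- use a direct computation instead
      have h4 : x' ^ (k : ℕ) * (τ' : G) * (τ : G)⁻¹ = x' ^ (j : ℕ) := h3.symm
      have h5 : (τ' : G) * (τ : G)⁻¹ = (x' ^ (k : ℕ))⁻¹ * x' ^ (j : ℕ) := by
        rw [← h4]
        group
      rw [h5]
      have hcomm : Commute (x' ^ (k : ℕ) * (τ' : G) * (τ : G)⁻¹) (x' ^ (k : ℕ))⁻¹ := by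
        rw [h4]
        exact ((Commute.refl x').pow_pow _ _).inv_right
      rw [h4]
      exact ((Commute.refl x').pow_pow _ _).inv_right.eq
    have hmem : x' ^ (((j : ℕ) : ℤ) - (k : ℕ)) ∈ T₁ := by
      rw [h2]
      exact T₁.mul_mem τ'.2 (T₁.inv_mem τ.2)
    have hjk' : (j : ℕ) = k := by
      by_contra hne
      have hy1 : x' ^ (((j : ℕ) : ℤ) - (k : ℕ)) ≠ 1 := by
        intro h5
        have h6 := orderOf_dvd_iff_zpow_eq_one.2 h5
        rw [hx'3] at h6
        have := j.2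
        have := k.2
        omega
      have hy3 : (x' ^ (((j : ℕ) : ℤ) - (k : ℕ))) ^ 3 = 1 := by
        rw [← zpow_natCast, ← zpow_mul, mul_comm, zpow_mul]
        have : x' ^ 3 = 1 := by
          rw [← hx'3]
          exact pow_orderOf_eq_one x'
        simp [this]
      have hord : orderOf (x' ^ (((j : ℕ) : ℤ) - (k : ℕ))) = 3 := orderOf_eq_prime hy3 hy1
      apply hT₁3
      rw [← hord]
      exact Subgroup.orderOf_dvd_natCard _ hmem
    have hjeq : j = k := Fin.ext hjk'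
    subst hjeq
    have h7 : (τ : G) = τ' := mul_left_cancel h1
    rw [Subtype.ext h7]
  have hbij : Function.Bijective f := by
    rw [Nat.bijective_iff_injective_and_card]
    refine ⟨hinj, ?_⟩
    rw [Nat.card_prod, hY3]
    simp
  obtain ⟨⟨j, τ⟩, hjτ⟩ := hbij.2 ⟨h, hh⟩
  exact ⟨j, j.2, τ, τ.2, (congrArg Subtype.val hjτ).symm⟩

/-- **No edges inside a `P`-orbit** of a vertex fixed by `x`. -/
theorem no_same_orbit (hT₁Y : T₁ ≤ Y) (hY3 : Nat.card Y = 3 * Nat.card T₁) (hT₁3 : ¬ 3 ∣ Nat.card T₁)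
    (hvT : ∀ τ ∈ T₁, v⁻¹ * τ * v ∈ T₁) (hv2 : v * v ∈ Y) (hvY : v ∉ Y)
    (hPodd : ∀ p ∈ P, p * p = 1 → p = 1) (he : ∀ g p, p ∈ P → g⁻¹ * p * g ∈ Y → p = 1)
    (hxP : x ∈ normalizer (P : Set G)) (hx3 : orderOf x = 3) {w : G} (hw : w⁻¹ * x * w ∈ Y)
    {p h h₁ : G} (hp : p ∈ P) (hh : h ∈ Y) (hh₁ : h₁ ∈ Y) (hrel : p * w * h₁ = w * h * v) : False := by
  have hx'3 : orderOf (w⁻¹ * x * w) = 3 := by
    have := MulEquiv.orderOf_eq (MulAut.conj w⁻¹) x
    rw [hx3] at this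
    simpa [MulAut.conj_apply] using this
  have hconjpow : ∀ j : ℕ, w * (w⁻¹ * x * w) ^ j = x ^ j * w := by
    intro j
    have := conj_pow (a := w⁻¹) (b := x) (i := j)
    simp only [inv_inv] at this
    rw [this]
    group
  have claimA : ∀ h₀ ∈ Y, ∃ j : ℕ, ∃ h' ∈ Y, w * h₀ * v = x ^ j * w * v * h' := by
    intro h₀ hh₀
    obtain ⟨j, -, τ, hτ, rfl⟩ := exists_power_mul hT₁Y hY3 hT₁3 hw hx'3 hh₀
    refine ⟨j, v⁻¹ * τ * v, hT₁Y (hvT τ hτ), ?_⟩
    calc w * ((w⁻¹ * x * w) ^ j * τ) * v = (w * (w⁻¹ * x * w) ^ j) * τ * v := by group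
      _ = x ^ j * w * τ * v := by rw [hconjpow]
      _ = _ := by group
  obtain ⟨j, h', hh', hj⟩ := claimA h hh
  obtain ⟨k, h'', hh'', hk⟩ := claimA h₁ hh₁
  -- the relation for the inverse
  have hinv : p⁻¹ * w * (h * (v * v)) = w * h₁ * v := by
    have h1 : p * w = w * h * v * h₁⁻¹ := by rw [← hrel]; group
    have h2 : p⁻¹ = w * (w * h * v * h₁⁻¹)⁻¹ := by
      rw [← h1]
      group
    rw [h2]
    group
  -- the element of `Y`
  have e1 : p * w * h₁ = x ^ j * w * v * h' := by rw [hrel, hj]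
  have e2 : p⁻¹ * w * (h * (v * v)) = x ^ k * w * v * h'' := by rw [hinv, hk]
  set y := h₁ * h'⁻¹ * (h * (v * v) * h''⁻¹)⁻¹ with hy
  have hyY : y ∈ Y := Y.mul_mem (Y.mul_mem hh₁ (Y.inv_mem hh'))
    (Y.inv_mem (Y.mul_mem (Y.mul_mem hh (Y.mul_mem hv2 hv2 |> fun _ => hv2)) (Y.inv_mem hh'')))
  have e3 : w * v = (x ^ j)⁻¹ * (p * w * h₁) * h'⁻¹ := by
    rw [e1]
    group
  have e4 : w * v = (x ^ k)⁻¹ * (p⁻¹ * w * (h * (v * v))) * h''⁻¹ := by
    rw [e2]
    group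
  set a : G := x ^ j * (x ^ k)⁻¹ with ha
  have ha3 : a ^ 3 = 1 := by
    have hx1 : x ^ 3 = 1 := by
      rw [← hx3]
      exact pow_orderOf_eq_one x
    have hc : Commute (x ^ j) (x ^ k)⁻¹ := ((Commute.refl x).pow_pow _ _).inv_right
    rw [ha, hc.mul_pow, ← pow_mul, inv_pow, ← pow_mul, mul_comm j, mul_comm k, pow_mul, pow_mul, hx1]
    simp
  have e5 : p * w * y = a * p⁻¹ * w := by
    have h1 : (x ^ j)⁻¹ * (p * w * h₁) * h'⁻¹ = (x ^ k)⁻¹ * (p⁻¹ * w * (h * (v * v))) * h''⁻¹ := by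
      rw [← e3, ← e4]
    have h2 : p * w * (h₁ * h'⁻¹) = x ^ j * (x ^ k)⁻¹ * (p⁻¹ * w * (h * (v * v))) * h''⁻¹ := by
      calc p * w * (h₁ * h'⁻¹) = x ^ j * ((x ^ j)⁻¹ * (p * w * h₁) * h'⁻¹) := by group
        _ = x ^ j * ((x ^ k)⁻¹ * (p⁻¹ * w * (h * (v * v))) * h''⁻¹) := by rw [h1]
        _ = _ := by group
    rw [hy, ha]
    calc p * w * (h₁ * h'⁻¹ * (h * (v * v) * h''⁻¹)⁻¹) =
        (p * w * (h₁ * h'⁻¹)) * (h * (v * v) * h''⁻¹)⁻¹ := by group
      _ = _ := by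
        rw [h2]
        group
  have haN : a ∈ normalizer (P : Set G) :=
    mul_mem (pow_mem hxP _) (inv_mem (pow_mem hxP _))
  have ha' : w⁻¹ * a * w ∈ Y := by
    have h1 : w⁻¹ * a * w = (w⁻¹ * x * w) ^ j * ((w⁻¹ * x * w) ^ k)⁻¹ := by
      have h2 := conj_pow (a := w⁻¹) (b := x) (i := j)
      have h3 := conj_pow (a := w⁻¹) (b := x) (i := k)
      simp only [inv_inv] at h2 h3
      rw [h2, h3, ha]
      group
    rw [h1]
    exact Y.mul_mem (Y.pow_mem hw _) (Y.inv_mem (Y.pow_mem hw _))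
  set p₂ := a * p⁻¹ * a⁻¹ with hp₂
  have hp₂P : p₂ ∈ P := (mem_normalizer_iff.1 haN p⁻¹).1 (P.inv_mem hp)
  have e6 : w⁻¹ * (p₂⁻¹ * p) * w ∈ Y := by
    have h1 : w⁻¹ * (p₂⁻¹ * p) * w = (w⁻¹ * a * w) * y⁻¹ := by
      have h2 : p * w = a * p⁻¹ * w * y⁻¹ := by
        rw [← e5]
        group
      have h3 : w⁻¹ * (p₂⁻¹ * p) * w = w⁻¹ * p₂⁻¹ * (p * w) := by group
      rw [h3, h2, hp₂]
      group
    rw [h1]
    exact Y.mul_mem ha' (Y.inv_mem hyY)
  have e7 : p₂⁻¹ * p = 1 := he w _ (P.mul_mem (P.inv_mem hp₂P) hp) e6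
  have e8 : a * p⁻¹ * a⁻¹ = p := by
    have : p₂ = p := by
      have h1 : p₂ = p₂ * (p₂⁻¹ * p) := by
        rw [e7, mul_one]
      rw [h1]
      group
    exact this
  have e9 : a * p * a⁻¹ = p⁻¹ := by
    have h1 : a * p * a⁻¹ = (a * p⁻¹ * a⁻¹)⁻¹ := by group
    rw [h1, e8]
  have e10 : a ^ 3 * p * (a ^ 3)⁻¹ = p⁻¹ := by
    have h2 : a * a * p * (a * a)⁻¹ = p := by
      calc a * a * p * (a * a)⁻¹ = a * (a * p * a⁻¹) * a⁻¹ := by group
        _ = a * p⁻¹ * a⁻¹ := by rw [e9]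
        _ = p := e8
    calc a ^ 3 * p * (a ^ 3)⁻¹ = a * (a * a * p * (a * a)⁻¹) * a⁻¹ := by
          rw [pow_succ, pow_succ, pow_one]
          group
      _ = a * p * a⁻¹ := by rw [h2]
      _ = p⁻¹ := e9
  rw [ha3] at e10
  have e11 : p = p⁻¹ := by
    simpa using e10
  have e12 : p = 1 := hPodd p hp (by
    calc p * p = p * p⁻¹ := by rw [← e11]
      _ = 1 := by group)
  subst e12
  apply hvY
  have h1 : v = h⁻¹ * h₁ := by
    have h2 : w * h₁ = w * h * v := by simpa using hrel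
    have h3 : h₁ = h * v := by
      apply mul_left_cancel (a := w)
      rw [h2]
      group
    rw [h3]
    group
  rw [h1]
  exact Y.mul_mem (Y.inv_mem hh) hh₁

/-- The vertices: exactly two orbits of `P`, and `x` fixes a vertex in the second one. -/
theorem exists_fixed (he : ∀ g p, p ∈ P → g⁻¹ * p * g ∈ Y → p = 1)
    (hcard : Nat.card G = 2 * Nat.card P * Nat.card Y) (hxY : x ∈ Y) (hx3 : orderOf x = 3)
    (hxP : x ∈ normalizer (P : Set G)) (hP3 : ¬ 3 ∣ Nat.card P) :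
    ∃ g₂ : G, g₂⁻¹ * x * g₂ ∈ Y ∧ (∀ p ∈ P, ∀ h ∈ Y, g₂ ≠ p * h) ∧
      ∀ g : G, (∃ p ∈ P, ∃ h ∈ Y, g = p * h) ∨ (∃ p ∈ P, ∃ h ∈ Y, g = p * g₂ * h) := by
  classical
  haveI : Fintype G := Fintype.ofFinite G
  haveI : Fintype P := Fintype.ofFinite P
  haveI : Fintype (G ⧸ Y) := Fintype.ofFinite _
  haveI : Fact (Nat.Prime 3) := ⟨Nat.prime_three⟩
  let q : G → G ⧸ Y := fun g => (g : G ⧸ Y)
  have hq : ∀ {a b : G}, q a = q b ↔ a⁻¹ * b ∈ Y := fun {a b} => QuotientGroup.eq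
  -- the index
  have hidx : Fintype.card (G ⧸ Y) = 2 * Nat.card P := by
    have h1 := Subgroup.card_mul_index Y
    rw [hcard] at h1
    have h2 : Nat.card Y * Y.index = Nat.card Y * (2 * Nat.card P) := by
      rw [h1]
      ring
    have h3 := Nat.eq_of_mul_eq_mul_left Nat.card_pos h2
    rw [← h3, Subgroup.index, Nat.card_eq_fintype_card]
  let O₀ : Finset (G ⧸ Y) := Finset.univ.image (fun p : P => q p)
  have hO₀ : O₀.card = Nat.card P := by
    rw [Finset.card_image_of_injective, Finset.card_univ, Nat.card_eq_fintype_card]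
    intro a b hab
    have h1 := (hq).1 hab
    have h2 : (a : G)⁻¹ * b = 1 := by
      apply he 1 _ (P.mul_mem (P.inv_mem a.2) b.2)
      simpa using h1
    apply Subtype.ext
    have h3 : (b : G) = a * ((a : G)⁻¹ * b) := by group
    rw [h3, h2, mul_one]
  have hmemO₀ : ∀ g : G, q g ∈ O₀ ↔ ∃ p ∈ P, ∃ h ∈ Y, g = p * h := by
    intro g
    constructor
    · intro hg
      obtain ⟨p, -, hp⟩ := Finset.mem_image.1 hg
      have h1 := (hq).1 hp
      exact ⟨p, p.2, _, h1, by group⟩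
    · rintro ⟨p, hp, h, hh, rfl⟩
      refine Finset.mem_image.2 ⟨⟨p, hp⟩, Finset.mem_univ _, ?_⟩
      apply (hq).2
      simpa using hh
  -- the action of `x` on the complement
  have hxmul : ∀ (c : G), c ∈ Y → c ∈ normalizer (P : Set G) → ∀ g : G, q g ∈ O₀ → q (c * g) ∈ O₀ := by
    intro c hcY hcN g hg
    obtain ⟨p, hp, h, hh, rfl⟩ := (hmemO₀ g).1 hg
    refine (hmemO₀ _).2 ⟨c * p * c⁻¹, (mem_normalizer_iff.1 hcN p).1 hp, c * h, Y.mul_mem hcY hh, by group⟩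
  let O₁ := {ω : G ⧸ Y // ω ∉ O₀}
  have hO₁ : Fintype.card O₁ = Nat.card P := by
    rw [Fintype.card_subtype_compl, hidx]
    have : Fintype.card {ω // ω ∈ O₀} = O₀.card := Fintype.card_coe O₀
    rw [this, hO₀]
    omega
  have hstep : ∀ ω : G ⧸ Y, ω ∉ O₀ → x • ω ∉ O₀ := by
    intro ω hω hc
    obtain ⟨g, rfl⟩ := QuotientGroup.mk_surjective ω
    apply hω
    have h1 : x • ((g : G) : G ⧸ Y) = q (x * g) := rfl
    rw [h1] at hc
    have h2 := hxmul x⁻¹ (Y.inv_mem hxY) (inv_mem hxP) _ hc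
    simpa [q] using h2
  have hx3' : x ^ 3 = 1 := by
    rw [← hx3]
    exact pow_orderOf_eq_one x
  let σ : Equiv.Perm O₁ :=
    { toFun := fun ω => ⟨x • ω.1, hstep ω.1 ω.2⟩
      invFun := fun ω => ⟨(x * x) • ω.1, by
        rw [mul_smul]
        exact hstep _ (hstep _ ω.2)⟩
      left_inv := by
        intro ω
        apply Subtype.ext
        show (x * x) • (x • ω.1) = ω.1
        rw [← mul_smul, show x * x * x = x ^ 3 by rw [pow_succ, pow_succ, pow_one], hx3', one_smul]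
      right_inv := by
        intro ω
        apply Subtype.ext
        show x • ((x * x) • ω.1) = ω.1
        rw [← mul_smul, show x * (x * x) = x ^ 3 by rw [pow_succ, pow_succ, pow_one, mul_assoc], hx3', one_smul] }
  have hσ : σ ^ 3 ^ 1 = 1 := by
    ext ω
    have h1 : ((σ ^ 3 ^ 1) ω : G ⧸ Y) = (x ^ 3) • ω.1 := by
      simp only [pow_succ, pow_zero, one_mul, Equiv.Perm.coe_mul, Function.comp_apply]
      show x • (x • (x • ω.1)) = _
      rw [← mul_smul, ← mul_smul]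
    rw [h1, hx3', one_smul]
    rfl
  obtain ⟨ω₀, hω₀⟩ := Equiv.Perm.exists_fixed_point_of_prime (p := 3) (n := 1) (by rwa [hO₁]) hσ
  obtain ⟨g₂, hg₂⟩ := QuotientGroup.mk_surjective ω₀.1
  have hg₂O : q g₂ ∉ O₀ := by
    have : q g₂ = ω₀.1 := hg₂
    rw [this]
    exact ω₀.2
  refine ⟨g₂, ?_, ?_, ?_⟩
  · have h1 : x • ω₀.1 = ω₀.1 := congrArg Subtype.val hω₀
    rw [← hg₂] at h1
    have h2 : q (x * g₂) = q g₂ := h1
    have h3 := (hq).1 h2.symm
    have h4 : g₂⁻¹ * (x * g₂) = g₂⁻¹ * x * g₂ := by group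
    rwa [h4] at h3
  · intro p hp h hh hc
    exact hg₂O ((hmemO₀ g₂).2 ⟨p, hp, h, hh, hc⟩)
  · -- the map `P → O₁`
    have hmap : ∀ p : P, q (p * g₂) ∉ O₀ := by
      intro p hc
      obtain ⟨p', hp', h, hh, he'⟩ := (hmemO₀ _).1 hc
      apply hg₂O
      refine (hmemO₀ _).2 ⟨(p : G)⁻¹ * p', P.mul_mem (P.inv_mem p.2) hp', h, hh, ?_⟩
      have h1 : g₂ = (p : G)⁻¹ * (p * g₂) := by group
      rw [h1, he']
      group
    let φ : P → O₁ := fun p => ⟨q (p * g₂), hmap p⟩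
    have hφi : Function.Injective φ := by
      intro a b hab
      have h1 := (hq).1 (congrArg Subtype.val hab)
      have h2 : (a : G)⁻¹ * b = 1 := by
        apply he g₂ _ (P.mul_mem (P.inv_mem a.2) b.2)
        have h3 : g₂⁻¹ * ((a : G)⁻¹ * b) * g₂ = ((a : G) * g₂)⁻¹ * (b * g₂) := by group
        rwa [h3]
      apply Subtype.ext
      have h3 : (b : G) = a * ((a : G)⁻¹ * b) := by group
      rw [h3, h2, mul_one]
    have hφb : Function.Bijective φ := by
      rw [Fintype.bijective_iff_injective_and_card]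
      refine ⟨hφi, ?_⟩
      rw [hO₁, Nat.card_eq_fintype_card]
    intro g
    by_cases hg : q g ∈ O₀
    · exact Or.inl ((hmemO₀ g).1 hg)
    · right
      obtain ⟨p, hp⟩ := hφb.2 ⟨q g, hg⟩
      have h1 : q (p * g₂) = q g := congrArg Subtype.val hp
      have h2 := (hq).1 h1
      exact ⟨p, p.2, _, h2, by group⟩

/-- **The coset graph argument.** -/
theorem graph_false [IsSimpleGroup G] (hna : ∃ a b : G, a * b ≠ b * a)
    (hT₁Y : T₁ ≤ Y) (hY3 : Nat.card Y = 3 * Nat.card T₁) (hT₁3 : ¬ 3 ∣ Nat.card T₁)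
    (hvT : ∀ τ ∈ T₁, v⁻¹ * τ * v ∈ T₁) (hv2 : v * v ∈ Y) (hvY : v ∉ Y)
    (hPodd : ∀ p ∈ P, p * p = 1 → p = 1) (he : ∀ g p, p ∈ P → g⁻¹ * p * g ∈ Y → p = 1)
    (hcard : Nat.card G = 2 * Nat.card P * Nat.card Y) (hxY : x ∈ Y) (hx3 : orderOf x = 3)
    (hxP : x ∈ normalizer (P : Set G)) (hP3 : ¬ 3 ∣ Nat.card P)
    (hgen : closure ((Y : Set G) ∪ {v}) = ⊤) : False := by
  classical
  obtain ⟨g₂, hg₂x, hg₂Z, hcover⟩ := exists_fixed he hcard hxY hx3 hxP hP3
  let c : G → Prop := fun g => ∃ p ∈ P, ∃ h ∈ Y, g = p * h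
  have hc1 : c 1 := ⟨1, P.one_mem, 1, Y.one_mem, by simp⟩
  have hxw : (1 : G)⁻¹ * x * 1 ∈ Y := by simpa using hxY
  have hY : ∀ g, ∀ h ∈ Y, c (g * h) ↔ c g := by
    intro g h hh
    constructor
    · rintro ⟨p, hp, h', hh', he'⟩
      refine ⟨p, hp, h' * h⁻¹, Y.mul_mem hh' (Y.inv_mem hh), ?_⟩
      have : g = g * h * h⁻¹ := by group
      rw [this, he']
      group
    · rintro ⟨p, hp, h', hh', rfl⟩
      exact ⟨p, hp, h' * h, Y.mul_mem hh' hh, by group⟩
  have hv : ∀ g, c (g * v) ↔ ¬ c g := by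
    intro g
    constructor
    · rintro ⟨p₁, hp₁, h₁, hh₁, he₁⟩ ⟨p, hp, h, hh, rfl⟩
      -- an edge inside the orbit of `Y`
      refine no_same_orbit hT₁Y hY3 hT₁3 hvT hv2 hvY hPodd he hxP hx3 hxw
        (p := p⁻¹ * p₁) (h := h) (h₁ := h₁) (P.mul_mem (P.inv_mem hp) hp₁) hh hh₁ ?_
      calc p⁻¹ * p₁ * 1 * h₁ = p⁻¹ * (p₁ * h₁) := by group
        _ = p⁻¹ * (p * h * v) := by rw [he₁]
        _ = 1 * h * v := by group
    · intro hg
      by_contra hgv
      rcases hcover g with h1 | ⟨p, hp, h, hh, he₁⟩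
      · exact hg h1
      rcases hcover (g * v) with h2 | ⟨p₁, hp₁, h₁, hh₁, he₂⟩
      · exact hgv h2
      refine no_same_orbit hT₁Y hY3 hT₁3 hvT hv2 hvY hPodd he hxP hx3 hg₂x
        (p := p⁻¹ * p₁) (h := h) (h₁ := h₁) (P.mul_mem (P.inv_mem hp) hp₁) hh hh₁ ?_
      calc p⁻¹ * p₁ * g₂ * h₁ = p⁻¹ * (p₁ * g₂ * h₁) := by group
        _ = p⁻¹ * (g * v) := by rw [he₂]
        _ = p⁻¹ * (p * g₂ * h * v) := by rw [he₁]
        _ = g₂ * h * v := by group
  have hall : ∀ g : G, (∀ g', c (g' * g) ↔ c g') ∨ (∀ g', c (g' * g) ↔ ¬ c g') := by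
    intro g
    have hg : g ∈ closure ((Y : Set G) ∪ {v}) := by rw [hgen]; trivial
    induction hg using Subgroup.closure_induction with
    | mem y hy =>
      rcases hy with hy | hy
      · exact Or.inl fun g' => hY g' y hy
      · rw [Set.mem_singleton_iff] at hy
        subst hy
        exact Or.inr hv
    | one => exact Or.inl fun g' => by rw [mul_one]
    | mul a b _ _ ha hb =>
      rcases ha with ha | ha <;> rcases hb with hb | hb
      · exact Or.inl fun g' => by rw [← mul_assoc, hb, ha]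
      · exact Or.inr fun g' => by rw [← mul_assoc, hb, ha]
      · exact Or.inr fun g' => by rw [← mul_assoc, hb, ha]
      · exact Or.inl fun g' => by rw [← mul_assoc, hb, ha, not_not]
    | inv a _ ha =>
      rcases ha with ha | ha
      · refine Or.inl fun g' => ?_
        have := ha (g' * a⁻¹)
        rw [inv_mul_cancel_right] at this
        exact this.symm
      · refine Or.inr fun g' => ?_
        have := ha (g' * a⁻¹)
        rw [inv_mul_cancel_right] at this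
        constructor
        · intro h1 h2
          exact (this.1 h2) h1
        · intro h1
          by_contra h2
          exact h1 (this.2 h2)
  -- the kernel
  let K : Subgroup G :=
    { carrier := {g | ∀ g', c (g' * g) ↔ c g'}
      one_mem' := fun g' => by rw [mul_one]
      mul_mem' := fun {a b} ha hb g' => by rw [← mul_assoc, hb, ha]
      inv_mem' := fun {a} ha g' => by
        have := ha (g' * a⁻¹)
        rw [inv_mul_cancel_right] at this
        exact this.symm }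
  have hK2 : K.index = 2 := by
    rw [Subgroup.index_eq_two_iff]
    refine ⟨v, fun b => ?_⟩
    have hvK : v ∉ K := by
      intro h
      have h1 := (h 1)
      rw [one_mul] at h1
      have h2 := hv 1
      rw [one_mul] at h2
      exact (h2.1 (h1.2 hc1)) hc1
    rcases hall b with hb | hb
    · refine Or.inr ⟨hb, fun h => hvK ?_⟩
      have := K.mul_mem (K.inv_mem (show b ∈ K from hb)) h
      simpa using this
    · have hbK : b ∉ K := by
        intro h
        have h1 := h 1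
        have h2 := hb 1
        rw [one_mul] at h1 h2
        exact (h2.1 (h1.2 hc1)) hc1
      refine Or.inl ⟨fun g' => ?_, hbK⟩
      rw [← mul_assoc, hv, hb, not_not]
  have hKn : K.Normal := Subgroup.normal_of_index_eq_two hK2
  rcases hKn.eq_bot_or_eq_top with h | h
  · rw [h, Subgroup.index_bot] at hK2
    obtain ⟨a, b, hab⟩ := hna
    apply hab
    haveI : Fact (Nat.Prime 2) := ⟨Nat.prime_two⟩
    have hcyc : IsCyclic G := isCyclic_of_prime_card (p := 2) hK2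
    exact (IsCyclic.commGroup (α := G)).mul_comm a b
  · rw [h, Subgroup.index_top] at hK2
    omega

end Core

end Cfsg.Agent.Lib.S4501Graph9
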