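import Mathlib
import Cfsg.Agent.Lib.S4501Graph9

/-!
# A self-normalizing maximal Sylow `2`-subgroup of index `3 s`
-/

set_option autoImplicit false
set_option linter.style.haveILetI false
set_option linter.unusedSectionVars false
set_option linter.unusedVariables false

namespace Cfsg.Agent.Lib.S4501Max9

open Subgroup Cfsg.Agent.Lib.S4501Graph9

universe u

variable {G : Type u} [Group G] [Finite G]

/-- Normalizers grow in `2`-groups. -/
theorem exists_normalizer_step {S R : Subgroup G} (hR : IsPGroup 2 R) (hSR : S < R) :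
    ∃ r ∈ R, r ∉ S ∧ r ∈ normalizer (S : Set G) := by
  have : Group.IsNilpotent ↥R := hR.isNilpotent
  have h1 : S.subgroupOf R < ⊤ := by
    obtain ⟨x, hx, hxS⟩ := SetLike.exists_of_lt hSR
    refine lt_of_le_of_ne le_top ?_
    intro h
    have : (⟨x, hx⟩ : R) ∈ S.subgroupOf R := by rw [h]; trivial
    exact hxS this
  have h2 := Group.normalizerCondition_of_isNilpotent (G := ↥R) _ h1
  obtain ⟨r, hr1, hr2⟩ := SetLike.exists_of_lt h2
  refine ⟨r.1, r.2, hr2, ?_⟩
  have h3 : S.subgroupOf R ≤ normalizer (S.subgroupOf R : Set ↥R) := le_normalizer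
  rw [mem_normalizer_iff]
  intro s
  have hs' := mem_normalizer_iff.1 hr1
  constructor
  · intro hs
    have hsR : s ∈ R := hSR.le hs
    exact (hs' ⟨s, hsR⟩).1 hs
  · intro hs
    have hsR : s ∈ R := by
      have := R.mul_mem (R.mul_mem (R.inv_mem r.2) (hSR.le hs)) r.2
      simpa [mul_assoc] using this
    exact (hs' ⟨s, hsR⟩).2 hs

/-- The divisibility of the size of a set with a group action. -/
theorem dvd_card_of_index {Γ Ω : Type*} [Group Γ] [MulAction Γ Ω] [Finite Ω] (d : ℕ)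
    (h : ∀ ω : Ω, d ∣ (MulAction.stabilizer Γ ω).index) : d ∣ Nat.card Ω := by
  classical
  haveI : Fintype (MulAction.orbitRel.Quotient Γ Ω) := Fintype.ofFinite _
  rw [Nat.card_congr (MulAction.selfEquivSigmaOrbits Γ Ω), Nat.card_sigma]
  refine Finset.dvd_sum fun ω _ => ?_
  have := h (Quotient.out ω)
  rwa [MulAction.index_stabilizer, ← Nat.card_coe_set_eq] at this

theorem le_normalizer_of_card {D R : Subgroup G} (hDR : D ≤ R) (h : Nat.card R = 2 * Nat.card D) :
    R ≤ normalizer (D : Set G) := by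
  rw [← normal_subgroupOf_iff_le_normalizer hDR]
  apply Subgroup.normal_of_index_eq_two
  have h1 := Subgroup.card_mul_index (D.subgroupOf R)
  have h2 : Nat.card (D.subgroupOf R) = Nat.card D :=
    Nat.card_congr (Subgroup.subgroupOfEquivOfLe hDR).toEquiv
  rw [h2, h] at h1
  have hpos : 0 < Nat.card D := Nat.card_pos
  have h3 : Nat.card D * (D.subgroupOf R).index = Nat.card D * 2 := by rw [h1]; ring
  exact Nat.eq_of_mul_eq_mul_left hpos h3

theorem index_subgroupOf_eq_two {D R : Subgroup G} (hDR : D ≤ R) (h : Nat.card R = 2 * Nat.card D) :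
    (D.subgroupOf R).index = 2 := by
  have h1 := Subgroup.card_mul_index (D.subgroupOf R)
  have h2 : Nat.card (D.subgroupOf R) = Nat.card D :=
    Nat.card_congr (Subgroup.subgroupOfEquivOfLe hDR).toEquiv
  rw [h2, h] at h1
  have hpos : 0 < Nat.card D := Nat.card_pos
  have h3 : Nat.card D * (D.subgroupOf R).index = Nat.card D * 2 := by rw [h1]; ring
  exact Nat.eq_of_mul_eq_mul_left hpos h3

/-- An element of prime order acting without fixed points. -/
theorem card_mod_of_free {D : Subgroup G} {y : G} {s : ℕ} (hs : s.Prime) (hyD : y ∈ normalizer (D : Set G))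
    (hy : orderOf y = s) (hfree : ∀ d ∈ D, y * d = d * y → d = 1) : Nat.card D % s = 1 % s := by
  classical
  haveI : Fintype D := Fintype.ofFinite D
  haveI : Fact s.Prime := ⟨hs⟩
  let σ : Equiv.Perm D :=
    { toFun := fun d => ⟨y * d * y⁻¹, (mem_normalizer_iff.1 hyD d).1 d.2⟩
      invFun := fun d => ⟨y⁻¹ * d * y, by
        have := (mem_normalizer_iff.1 (inv_mem hyD) d).1 d.2
        simpa using this⟩
      left_inv := fun d => by
        apply Subtype.ext
        show y⁻¹ * (y * d * y⁻¹) * y = d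
        group
      right_inv := fun d => by
        apply Subtype.ext
        show y * (y⁻¹ * d * y) * y⁻¹ = d
        group }
  have hpow : ∀ (n : ℕ) (d : D), (((σ ^ n) d : D) : G) = y ^ n * d * (y ^ n)⁻¹ := by
    intro n d
    induction n with
    | zero => simp
    | succ n ih =>
      rw [pow_succ', Equiv.Perm.coe_mul, Function.comp_apply]
      show y * (((σ ^ n) d : D) : G) * y⁻¹ = _
      rw [ih, pow_succ']
      group
  have hσ : σ ^ s ^ 1 = 1 := by
    ext d
    rw [pow_one, hpow, ← hy, pow_orderOf_eq_one]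
    simp
  have h1 := Equiv.Perm.card_compl_support_modEq hσ
  have h2 : σ.supportᶜ = {1} := by
    ext d
    simp only [Finset.mem_compl, Equiv.Perm.mem_support, not_not, Finset.mem_singleton]
    constructor
    · intro hd
      have h3 : y * (d : G) * y⁻¹ = d := congrArg Subtype.val hd
      apply Subtype.ext
      apply hfree d d.2
      calc y * (d : G) = (y * (d : G) * y⁻¹) * y := by group
        _ = d * y := by rw [h3]
    · rintro rfl
      apply Subtype.ext
      show y * ((1 : D) : G) * y⁻¹ = ((1 : D) : G)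
      simp
  rw [h2, Finset.card_singleton] at h1
  rw [Nat.card_eq_fintype_card]
  exact h1.symm

section Main

variable [IsSimpleGroup G] (hna : ∃ x y : G, x * y ≠ y * x) {s b : ℕ} (hs : s.Prime) (hs2 : s ≠ 2) (hs3 : s ≠ 3)
  (hcard : Nat.card G = 3 * 2 ^ b * s) (hb : 2 ≤ b) (T : Sylow 2 G) (hTc : Nat.card (T : Subgroup G) = 2 ^ b)
  (hmax : ∀ H : Subgroup G, (T : Subgroup G) ≤ H → H = T ∨ H = ⊤)

theorem ne_top_of_card (hG : Nat.card G = 3 * 2 ^ b * s) (hs : s.Prime) {D : Subgroup G} {c : ℕ}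
    (hD : Nat.card D = 2 ^ c) : D ≠ ⊤ := by
  rintro rfl
  rw [Subgroup.card_top, hG] at hD
  have h3 : 3 ∣ 2 ^ c := by
    rw [← hD, mul_assoc]
    exact dvd_mul_right _ _
  have := Nat.prime_three.dvd_of_dvd_pow h3
  omega

include hs hcard hb hTc hmax

/-- No two Sylow `2`-subgroups intersect in a subgroup of index `1` or `2`. -/
theorem four_le (T' : Sylow 2 G) (hne : T' ≠ T) : Nat.card ((T : Subgroup G) ⊓ T' : Subgroup G) * 4 ∣ 2 ^ b := by
  classical
  haveI : Fact (Nat.Prime 2) := ⟨Nat.prime_two⟩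
  set D : Subgroup G := (T : Subgroup G) ⊓ T' with hD
  have hT'c : Nat.card (T' : Subgroup G) = 2 ^ b := by
    rw [Sylow.card_eq_multiplicity, ← Sylow.card_eq_multiplicity T, hTc]
  have hDT : D ≤ T := inf_le_left
  have hDT' : D ≤ T' := inf_le_right
  have hdv : Nat.card D ∣ 2 ^ b := by
    rw [← hTc]
    exact Subgroup.card_dvd_of_le hDT
  obtain ⟨c, hcb, hc⟩ := (Nat.dvd_prime_pow Nat.prime_two).1 hdv
  have hne1 : c ≠ b := by
    rintro rfl
    apply hne
    have h1 : D = T := Subgroup.eq_of_le_of_card_ge hDT (by rw [hTc, hc])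
    have h2 : D = T' := Subgroup.eq_of_le_of_card_ge hDT' (by rw [hT'c, hc])
    apply Sylow.ext
    rw [← h1, ← h2]
  have hne2 : c + 1 ≠ b := by
    rintro rfl
    have h1 : Nat.card (T : Subgroup G) = 2 * Nat.card D := by rw [hTc, hc]; ring
    have h2 : Nat.card (T' : Subgroup G) = 2 * Nat.card D := by rw [hT'c, hc]; ring
    have h3 := le_normalizer_of_card hDT h1
    have h4 := le_normalizer_of_card hDT' h2
    rcases hmax _ h3 with h5 | h5
    · rw [h5] at h4
      have h6 : (T' : Subgroup G) = T := Subgroup.eq_of_le_of_card_ge h4 (by rw [hTc, hT'c])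
      exact hne (Sylow.ext h6)
    · have hDn : D.Normal := normalizer_eq_top_iff.1 h5
      rcases hDn.eq_bot_or_eq_top with h6 | h6
      · rw [h6, Subgroup.card_bot] at hc
        have : c = 0 := by
          by_contra h7
          have : 1 < 2 ^ c := Nat.one_lt_two_pow h7
          omega
        omega
      · exact ne_top_of_card hcard hs hc h6
  have hc2 : c + 2 ≤ b := by omega
  rw [hc]
  have : (4 : ℕ) = 2 ^ 2 := by norm_num
  rw [this, ← pow_add]
  exact pow_dvd_pow _ hc2

omit hb hTc hmax hs hcard in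
theorem stabilizer_card (T T' : Sylow 2 G) :
    Nat.card (MulAction.stabilizer (T : Subgroup G) T') = Nat.card ((T : Subgroup G) ⊓ T' : Subgroup G) := by
  classical
  haveI : Fact (Nat.Prime 2) := ⟨Nat.prime_two⟩
  have h1 := IsPGroup.inf_normalizer_sylow T.isPGroup' T'
  have h2 : ∀ t : (T : Subgroup G), t ∈ MulAction.stabilizer (T : Subgroup G) T' ↔ (t : G) ∈ (T' : Subgroup G) := by
    intro t
    rw [MulAction.mem_stabilizer_iff]
    have h3 : t • T' = (t : G) • T' := rfl
    rw [h3, Sylow.smul_eq_iff_mem_normalizer]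
    constructor
    · intro h4
      exact (h1.le ⟨t.2, h4⟩).2
    · intro h4
      exact T'.le_normalizer h4
  refine Nat.card_congr ⟨fun t => ⟨t.1.1, t.1.2, (h2 t.1).1 t.2⟩,
    fun t => ⟨⟨t.1, t.2.1⟩, (h2 _).2 t.2.2⟩, ?_, ?_⟩
  · intro t
    rfl
  · intro t
    rfl

/-- The counting lemma for the action of `T` on the other Sylow subgroups. -/
theorem dvd_of_all (d : ℕ)
    (hall : ∀ T' : Sylow 2 G, T' ≠ T → Nat.card ((T : Subgroup G) ⊓ T' : Subgroup G) * d ∣ 2 ^ b) :
    d ∣ Nat.card (Sylow 2 G) - 1 := by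
  classical
  haveI : Fact (Nat.Prime 2) := ⟨Nat.prime_two⟩
  let S : SubMulAction (T : Subgroup G) (Sylow 2 G) :=
    { carrier := {T' | T' ≠ T}
      smul_mem' := by
        intro t T' hT' hc
        apply hT'
        have h1 : ∀ u : (T : Subgroup G), u • T = T := by
          intro u
          have h3 : u • T = (u : G) • T := rfl
          rw [h3, Sylow.smul_eq_iff_mem_normalizer]
          exact T.le_normalizer u.2
        have h2 : T' = t⁻¹ • (t • T') := by simp
        rw [h2, hc]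
        exact h1 t⁻¹ }
  have hcardS : Nat.card S = Nat.card (Sylow 2 G) - 1 := by
    haveI : Fintype (Sylow 2 G) := Fintype.ofFinite _
    have h1 : Nat.card S = Nat.card {T' : Sylow 2 G // T' ≠ T} := rfl
    rw [h1, Nat.card_eq_fintype_card, Nat.card_eq_fintype_card, Fintype.card_subtype_compl]
    simp
  rw [← hcardS]
  apply dvd_card_of_index (Γ := (T : Subgroup G))
  intro ω
  rw [SubMulAction.stabilizer_of_subMul]
  have h1 := Subgroup.card_mul_index (MulAction.stabilizer (T : Subgroup G) (ω : Sylow 2 G))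
  rw [stabilizer_card, hTc] at h1
  have h2 := hall ω.1 ω.2
  rw [← h1] at h2
  exact Nat.dvd_of_mul_dvd_mul_left Nat.card_pos h2

/-- `T` is self-normalizing and there are `3 s` Sylow subgroups. -/
theorem card_sylow_eq : Nat.card (Sylow 2 G) = 3 * s := by
  classical
  haveI : Fact (Nat.Prime 2) := ⟨Nat.prime_two⟩
  have hne : ((T : Subgroup G)) ≠ ⊤ := ne_top_of_card hcard hs hTc
  have hT1 : (T : Subgroup G) ≠ ⊥ := by
    intro h
    rw [h, Subgroup.card_bot] at hTc
    have : 1 < 2 ^ b := Nat.one_lt_two_pow (by omega)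
    omega
  have hN : normalizer ((T : Subgroup G) : Set G) = T := by
    rcases hmax _ T.le_normalizer with h | h
    · exact h
    · have hn : (T : Subgroup G).Normal := normalizer_eq_top_iff.1 h
      rcases hn.eq_bot_or_eq_top with h5 | h5
      · exact absurd h5 hT1
      · exact absurd h5 hne
  have hN2 : normalizer (T : Set G) = T := hN
  rw [Sylow.card_eq_index_normalizer T, hN2]
  have h1 := Subgroup.card_mul_index (T : Subgroup G)
  rw [hTc, hcard] at h1
  have h2 : 2 ^ b * (T : Subgroup G).index = 2 ^ b * (3 * s) := by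
    rw [h1]
    ring
  exact Nat.eq_of_mul_eq_mul_left (by positivity) h2

omit hb in
theorem not_case_A (hb : 2 ≤ b) (hs5 : s = 5) : False := by
  have h1 := dvd_of_all hs hcard hb T hTc hmax 4 (four_le hs hcard hb T hTc hmax)
  rw [card_sylow_eq hs hcard hb T hTc hmax, hs5] at h1
  omega

include hna hs2 hs3

/-- The main case: no maximal Sylow `2`-subgroup. -/
theorem not_case_B (hb3 : 3 ≤ b) (h8 : ¬ 8 ∣ 3 * s - 1)
    (hr : ∃ r : ℕ, (r = b ∨ r + 1 = b) ∧ 2 ^ r % s = 1 % s)
    (hnorm : ∀ x : G, orderOf x = 3 → ∃ P : Subgroup G, Nat.card P = s ∧ x ∈ normalizer (P : Set G))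
    (hC : ∀ y : G, orderOf y = s → centralizer ({y} : Set G) = zpowers y) : False := by
  classical
  haveI : Fact (Nat.Prime 2) := ⟨Nat.prime_two⟩
  haveI : Fact (Nat.Prime 3) := ⟨Nat.prime_three⟩
  haveI : Fact s.Prime := ⟨hs⟩
  -- a pair of Sylow subgroups with intersection of index `4`
  obtain ⟨T', hne, hT'8⟩ : ∃ T' : Sylow 2 G, T' ≠ T ∧
      ¬ Nat.card ((T : Subgroup G) ⊓ T' : Subgroup G) * 8 ∣ 2 ^ b := by
    by_contra hcon
    push Not at hcon
    apply h8
    have h1 := dvd_of_all hs hcard hb T hTc hmax 8 hcon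
    rwa [card_sylow_eq hs hcard hb T hTc hmax] at h1
  obtain ⟨c, rfl⟩ : ∃ c, b = c + 2 := ⟨b - 2, by omega⟩
  have hc1 : 1 ≤ c := by omega
  have hT'c : Nat.card (T' : Subgroup G) = 2 ^ (c + 2) := by
    rw [Sylow.card_eq_multiplicity, ← Sylow.card_eq_multiplicity T, hTc]
  set D : Subgroup G := (T : Subgroup G) ⊓ T' with hD
  have hDT : D ≤ T := inf_le_left
  have hDT' : D ≤ T' := inf_le_right
  have hDc : Nat.card D = 2 ^ c := by
    have h4 := four_le hs hcard hb T hTc hmax T' hne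
    have hdv : Nat.card D ∣ 2 ^ (c + 2) := by
      rw [← hTc]
      exact Subgroup.card_dvd_of_le hDT
    obtain ⟨e, he, hDe⟩ := (Nat.dvd_prime_pow Nat.prime_two).1 hdv
    rw [hDe] at h4 hT'8 ⊢
    have h5 : (4 : ℕ) = 2 ^ 2 := by norm_num
    have h6 : (8 : ℕ) = 2 ^ 3 := by norm_num
    rw [h5, ← pow_add, Nat.pow_dvd_pow_iff_le_right (by norm_num)] at h4
    rw [h6, ← pow_add, Nat.pow_dvd_pow_iff_le_right (by norm_num)] at hT'8
    have : e = c := by omega
    rw [this]
  have hTc' : Nat.card (T : Subgroup G) = 2 ^ (c + 2) := hTc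
  have hp2D : IsPGroup 2 D := IsPGroup.of_card hDc
  have hDbot : D ≠ ⊥ := by
    intro h
    rw [h, Subgroup.card_bot] at hDc
    have : 1 < 2 ^ c := Nat.one_lt_two_pow (by omega)
    omega
  have hDtop : D ≠ ⊤ := ne_top_of_card hcard hs hDc
  have hDltT : D < T := by
    refine lt_of_le_of_ne hDT fun h => ?_
    rw [h, hTc'] at hDc
    have := Nat.pow_right_injective (le_refl 2) hDc
    omega
  have hDltT' : D < T' := by
    refine lt_of_le_of_ne hDT' fun h => ?_
    rw [h, hT'c] at hDc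
    have := Nat.pow_right_injective (le_refl 2) hDc
    omega
  obtain ⟨r₁, hr₁T, hr₁D, hr₁N⟩ := exists_normalizer_step T.isPGroup' hDltT
  obtain ⟨r₂, hr₂T, hr₂D, hr₂N⟩ := exists_normalizer_step T'.isPGroup' hDltT'
  set Y : Subgroup G := normalizer (D : Set G) with hY
  have hDnorm : ∀ H : Subgroup G, normalizer (H : Set G) = ⊤ → H = ⊥ ∨ H = ⊤ := by
    intro H h
    exact (normalizer_eq_top_iff.1 h).eq_bot_or_eq_top
  have hTY : ¬ (T : Subgroup G) ≤ Y := by
    intro h
    rcases hmax Y h with h5 | h5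
    · apply hr₂D
      rw [h5] at hr₂N
      exact ⟨hr₂N, hr₂T⟩
    · rcases hDnorm D h5 with h6 | h6
      · exact hDbot h6
      · exact hDtop h6
  obtain ⟨v, hvT, hvY⟩ := SetLike.not_le_iff_exists.1 hTY
  set T₁ : Subgroup G := (T : Subgroup G) ⊓ Y with hT₁
  have hT₁T : T₁ ≤ T := inf_le_left
  have hT₁Y : T₁ ≤ Y := inf_le_right
  have hDT₁ : D ≤ T₁ := le_inf hDT le_normalizer
  have hr₁T₁ : r₁ ∈ T₁ := ⟨hr₁T, hr₁N⟩
  have hT₁c : Nat.card T₁ = 2 ^ (c + 1) := by
    have hdv : Nat.card T₁ ∣ 2 ^ (c + 2) := by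
      rw [← hTc']
      exact Subgroup.card_dvd_of_le hT₁T
    obtain ⟨e, he, hDe⟩ := (Nat.dvd_prime_pow Nat.prime_two).1 hdv
    have h1 : Nat.card D ∣ Nat.card T₁ := Subgroup.card_dvd_of_le hDT₁
    rw [hDc, hDe, Nat.pow_dvd_pow_iff_le_right (by norm_num)] at h1
    have h2 : e ≠ c := by
      rintro rfl
      have h3 : D = T₁ := Subgroup.eq_of_le_of_card_ge hDT₁ (by rw [hDc, hDe])
      apply hr₁D
      rw [h3]
      exact hr₁T₁
    have h3 : e ≠ c + 2 := by
      rintro rfl
      have h3 : T₁ = T := Subgroup.eq_of_le_of_card_ge hT₁T (by rw [hTc', hDe])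
      apply hvY
      have h4 : v ∈ T₁ := by
        rw [h3]
        exact hvT
      exact h4.2
    have : e = c + 1 := by omega
    rw [hDe, this]
  have hTT₁ : Nat.card (T : Subgroup G) = 2 * Nat.card T₁ := by
    rw [hTc', hT₁c]
    ring
  have hnT₁ : (T : Subgroup G) ≤ normalizer (T₁ : Set G) := le_normalizer_of_card hT₁T hTT₁
  have hNT₁ : normalizer (T₁ : Set G) = T := by
    rcases hmax _ hnT₁ with h | h
    · exact h
    · exfalso
      rcases hDnorm T₁ h with h6 | h6
      · rw [h6, Subgroup.card_bot] at hT₁c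
        have : 1 < 2 ^ (c + 1) := Nat.one_lt_two_pow (by omega)
        omega
      · exact ne_top_of_card hcard hs hT₁c h6
  have hvT₁ : ∀ τ ∈ T₁, v⁻¹ * τ * v ∈ T₁ := by
    intro τ hτ
    have := (mem_normalizer_iff.1 (inv_mem (hnT₁ hvT)) τ).1 hτ
    simpa using this
  have hvv : v * v ∈ T₁ := by
    have h1 := Subgroup.mul_self_mem_of_index_two (index_subgroupOf_eq_two hT₁T hTT₁) ⟨v, hvT⟩
    exact h1
  -- the order of `Y`
  have hYdvd : Nat.card Y ∣ 3 * 2 ^ (c + 2) * s := by
    rw [← hcard]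
    exact Subgroup.card_subgroup_dvd_card Y
  obtain ⟨k, hk⟩ : Nat.card T₁ ∣ Nat.card Y := Subgroup.card_dvd_of_le hT₁Y
  have hsY : ¬ s ∣ Nat.card Y := by
    intro hd
    obtain ⟨y, hy⟩ := exists_prime_orderOf_dvd_card' (G := Y) s hd
    have hy' : orderOf (y : G) = s := by rw [Subgroup.orderOf_coe, hy]
    have hmod := card_mod_of_free hs y.2 hy' (fun d hd' hc => by
      have h1 : d ∈ centralizer ({(y : G)} : Set G) := by
        rw [mem_centralizer_singleton_iff]
        exact hc.symm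
      rw [hC _ hy'] at h1
      have h2 : orderOf d ∣ s := by
        have h6 := Subgroup.orderOf_dvd_natCard _ h1
        rwa [Nat.card_zpowers, hy'] at h6
      have h3 : orderOf d ∣ 2 ^ c := by
        rw [← hDc]
        exact Subgroup.orderOf_dvd_natCard _ hd'
      have h4 : Nat.Coprime s (2 ^ c) := Nat.Coprime.pow_right _ ((Nat.coprime_primes hs Nat.prime_two).2 hs2)
      have h5 := Nat.eq_one_of_dvd_coprimes h4 h2 h3
      exact orderOf_eq_one_iff.1 h5)
    rw [hDc] at hmod
    obtain ⟨r, hr1, hr2⟩ := hr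
    have hm : 2 ^ c ≡ 1 [MOD s] := hmod
    have hm2 : 2 ^ r ≡ 1 [MOD s] := hr2
    rcases hr1 with rfl | hr1
    · have h3 : 4 * 2 ^ c ≡ 4 * 1 [MOD s] := hm.mul_left 4
      have h4 : 4 * 2 ^ c = 2 ^ (c + 2) := by ring
      rw [h4] at h3
      have h5 : 4 ≡ 1 [MOD s] := h3.symm.trans hm2
      have h6 : s ∣ 4 - 1 := (Nat.modEq_iff_dvd' (by norm_num)).1 h5.symm
      have h7 : s ∣ 3 := by simpa using h6
      exact hs3 ((Nat.prime_dvd_prime_iff_eq hs Nat.prime_three).1 h7)
    · have hrc : r = c + 1 := by omega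
      subst hrc
      have h3 : 2 * 2 ^ c ≡ 2 * 1 [MOD s] := hm.mul_left 2
      have h4 : 2 * 2 ^ c = 2 ^ (c + 1) := by ring
      rw [h4] at h3
      have h5 : 2 ≡ 1 [MOD s] := h3.symm.trans hm2
      have h6 : s ∣ 2 - 1 := (Nat.modEq_iff_dvd' (by norm_num)).1 h5.symm
      have h7 : s ∣ 1 := by simpa using h6
      exact hs.one_lt.ne' (Nat.dvd_one.1 h7)
  have h2Y : ¬ 2 ^ (c + 2) ∣ Nat.card Y := by
    intro hd
    have hH : Nat.card (T₁.subgroupOf Y) = 2 ^ (c + 1) := by
      rw [← hT₁c]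
      exact Nat.card_congr (Subgroup.subgroupOfEquivOfLe hT₁Y).toEquiv
    obtain ⟨K, hKc, hKle⟩ := Sylow.exists_subgroup_card_pow_succ (p := 2) (G := Y) (n := c + 1) hd hH
    set U : Subgroup G := K.map Y.subtype with hU
    have hUc : Nat.card U = 2 ^ (c + 2) := by
      rw [← hKc]
      exact Nat.card_congr (K.equivMapOfInjective _ (Subgroup.subtype_injective Y)).symm.toEquiv
    have hT₁U : T₁ ≤ U := by
      intro t ht
      refine ⟨⟨t, hT₁Y ht⟩, hKle ?_, rfl⟩
      exact ht
    have hlt : T₁ < U := by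
      refine lt_of_le_of_ne hT₁U fun h => ?_
      rw [h, hUc] at hT₁c
      have := Nat.pow_right_injective (le_refl 2) hT₁c
      omega
    obtain ⟨u, huU, huT₁, huN⟩ := exists_normalizer_step (IsPGroup.of_card hUc) hlt
    apply huT₁
    rw [hNT₁] at huN
    refine ⟨huN, ?_⟩
    obtain ⟨u', -, rfl⟩ := huU
    exact u'.2
  have hk3 : k = 3 := by
    rw [hT₁c] at hk
    have h1 : 2 ^ (c + 1) * k ∣ 2 ^ (c + 1) * (6 * s) := by
      rw [← hk]
      have : 2 ^ (c + 1) * (6 * s) = 3 * 2 ^ (c + 2) * s := by ring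
      rw [this]
      exact hYdvd
    have h2 : k ∣ 6 * s := Nat.dvd_of_mul_dvd_mul_left (by positivity) h1
    have hk2 : ¬ 2 ∣ k := by
      rintro ⟨k', rfl⟩
      apply h2Y
      rw [hk]
      exact ⟨k', by ring⟩
    have hks : ¬ s ∣ k := fun h => hsY (by
      rw [hk]
      exact Dvd.dvd.mul_left h _)
    have hc2 : Nat.Coprime k 2 := ((Nat.Prime.coprime_iff_not_dvd Nat.prime_two).2 hk2).symm
    have hcs : Nat.Coprime k s := ((Nat.Prime.coprime_iff_not_dvd hs).2 hks).symm
    have h3 : k ∣ 3 := by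
      have h4 : 6 * s = 3 * 2 * s := by ring
      rw [h4] at h2
      have h5 := hcs.dvd_of_dvd_mul_right h2
      exact hc2.dvd_of_dvd_mul_right h5
    rcases (Nat.dvd_prime Nat.prime_three).1 h3 with h4 | h4
    · exfalso
      apply hr₂D
      have h5 : Y = T₁ := by
        symm
        apply Subgroup.eq_of_le_of_card_ge hT₁Y
        rw [hk, h4, hT₁c, mul_one]
      have h6 : r₂ ∈ T₁ := by
        rw [← h5]
        exact hr₂N
      exact ⟨h6.1, hr₂T⟩
    · exact h4
  have hY3 : Nat.card Y = 3 * Nat.card T₁ := by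
    rw [hk, hk3]
    ring
  have hT₁3 : ¬ 3 ∣ Nat.card T₁ := by
    rw [hT₁c]
    intro h
    have := Nat.prime_three.dvd_of_dvd_pow h
    omega
  obtain ⟨x, hx⟩ := exists_prime_orderOf_dvd_card' (G := Y) 3 (by
    rw [hY3]
    exact dvd_mul_right _ _)
  have hx' : orderOf (x : G) = 3 := by rw [Subgroup.orderOf_coe, hx]
  obtain ⟨P, hPc, hxP⟩ := hnorm x hx'
  have hordP : ∀ p ∈ P, p ≠ 1 → orderOf p = s := by
    intro p hp h1
    have h2 : orderOf p ∣ s := by
      rw [← hPc]
      exact Subgroup.orderOf_dvd_natCard _ hp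
    rcases (Nat.dvd_prime hs).1 h2 with h3 | h3
    · exact absurd (orderOf_eq_one_iff.1 h3) h1
    · exact h3
  have hPodd : ∀ p ∈ P, p * p = 1 → p = 1 := by
    intro p hp h1
    by_contra h2
    have h3 := hordP p hp h2
    have h4 : orderOf p ∣ 2 := orderOf_dvd_of_pow_eq_one (by rw [sq]; exact h1)
    rw [h3] at h4
    exact hs2 ((Nat.prime_dvd_prime_iff_eq hs Nat.prime_two).1 h4)
  have he : ∀ g p, p ∈ P → g⁻¹ * p * g ∈ Y → p = 1 := by
    intro g p hp hg
    by_contra h2
    have h3 := hordP p hp h2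
    apply hsY
    have h4 : orderOf (g⁻¹ * p * g) = s := by
      have := MulEquiv.orderOf_eq (MulAut.conj g⁻¹) p
      rw [h3] at this
      simpa [MulAut.conj_apply] using this
    rw [← h4]
    exact Subgroup.orderOf_dvd_natCard _ hg
  have hgen : closure ((Y : Set G) ∪ {v}) = ⊤ := by
    set K := closure ((Y : Set G) ∪ {v}) with hK
    have hYK : Y ≤ K := fun y hy => subset_closure (Or.inl hy)
    have hvK : v ∈ K := subset_closure (Or.inr rfl)
    have hTK : (T : Subgroup G) ≤ K := by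
      intro t ht
      by_cases ht₁ : t ∈ T₁
      · exact hYK (hT₁Y ht₁)
      · have h1 := (Subgroup.mul_mem_iff_of_index_two (index_subgroupOf_eq_two hT₁T hTT₁)
          (a := ⟨t, ht⟩) (b := ⟨v, hvT⟩))
        have hvn : (⟨v, hvT⟩ : (T : Subgroup G)) ∉ T₁.subgroupOf T := fun h => hvY h.2
        have htn : (⟨t, ht⟩ : (T : Subgroup G)) ∉ T₁.subgroupOf T := fun h => ht₁ h
        have h2 : (⟨t, ht⟩ : (T : Subgroup G)) * ⟨v, hvT⟩ ∈ T₁.subgroupOf T :=
          h1.2 ⟨fun h => absurd h htn, fun h => absurd h hvn⟩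
        have h3 : t * v ∈ K := hYK (hT₁Y h2)
        have h4 := K.mul_mem h3 (K.inv_mem hvK)
        simpa using h4
    rcases hmax K hTK with h | h
    · exfalso
      apply hr₂D
      have h5 : r₂ ∈ K := hYK hr₂N
      rw [h] at h5
      exact ⟨h5, hr₂T⟩
    · exact h
  refine graph_false hna hT₁Y hY3 hT₁3 hvT₁ (hT₁Y hvv) hvY hPodd he ?_ x.2 hx' hxP ?_ hgen
  · rw [hPc, hY3, hT₁c, hcard]
    ring
  · rw [hPc]
    intro h
    exact hs3 ((Nat.prime_dvd_prime_iff_eq Nat.prime_three hs).1 h).symm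

end Main

end Cfsg.Agent.Lib.S4501Max9
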