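/-
SmallAut: Burnside-type normal `p`-complement when automorphisms of an abelian Sylow subgroup
of small order are trivial.
-/
import Mathlib
import Cfsg.Prelude.Def_Transfer

set_option autoImplicit false

namespace Cfsg.Agent.Lib.SmallAut

/-- An automorphism of prime order `q`: counting fixed points modulo `q`. -/
theorem fix_count {T : Type*} [Group T] [Finite T] (β : MulAut T) {q : ℕ} [hq : Fact q.Prime]
    (hβ : orderOf β = q) :
    ∃ F : Subgroup T, (∀ x, x ∈ F ↔ β x = x) ∧ Nat.card T ≡ Nat.card F [MOD q] := by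
  classical
  let H : Subgroup (MulAut T) := Subgroup.zpowers β
  have hH : IsPGroup q H := by
    rw [IsPGroup.iff_card]
    refine ⟨1, ?_⟩
    rw [Nat.card_zpowers, hβ, pow_one]
  let F : Subgroup T := MonoidHom.eqLocus β.toMonoidHom (MonoidHom.id T)
  have hF : ∀ x, x ∈ F ↔ β x = x := fun x => Iff.rfl
  refine ⟨F, hF, ?_⟩
  have h1 := hH.card_modEq_card_fixedPoints T
  have h2 : Nat.card (MulAction.fixedPoints H T) = Nat.card F := by
    apply Nat.card_congr
    refine Equiv.subtypeEquivRight ?_
    intro x
    constructor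
    · intro h
      have := h ⟨β, Subgroup.mem_zpowers β⟩
      exact this
    · intro (h : x ∈ F) g
      have h3 : Subgroup.zpowers β ≤ MulAction.stabilizer (MulAut T) x := by
        rw [Subgroup.zpowers_le]
        exact h
      exact h3 g.2
  rwa [h2] at h1

/-- Automorphisms of prime order `q` of a group `T` of order `p` power: if `q` does not divide
any difference `|T| - d` (`d` a proper divisor of `|T|`), such an automorphism is trivial. -/
theorem aut_eq_one_of_card {T : Type*} [Group T] [Finite T] (β : MulAut T) {q : ℕ} [hq : Fact q.Prime]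
    (hβ : orderOf β = q)
    (h : ∀ d : ℕ, d ∣ Nat.card T → d ≠ Nat.card T → ¬ Nat.card T ≡ d [MOD q]) : β = 1 := by
  obtain ⟨F, hF, hc⟩ := fix_count β hβ
  by_cases hd : Nat.card F = Nat.card T
  · have htop : F = ⊤ := Subgroup.eq_top_of_card_eq _ hd
    ext x
    have : x ∈ F := by rw [htop]; trivial
    simpa using (hF x).1 this
  · exact absurd hc (h _ (Subgroup.card_subgroup_dvd_card F) hd)

/-- Burnside: an abelian Sylow subgroup without nontrivial automorphisms of prime order dividing
`|G|` and different from `p` has a normal complement. -/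
theorem npc_of_aut_trivial {G : Type*} [Group G] [Finite G] {p : ℕ} [Fact p.Prime] (T : Sylow p G)
    (hT : IsMulCommutative T)
    (H : ∀ q : ℕ, q.Prime → q ∣ Nat.card G → q ≠ p → ∀ β : MulAut (T : Subgroup G), orderOf β = q → β = 1) :
    Cfsg.HasNormalPComplement p G := by
  classical
  let φ := Subgroup.normalizerMonoidHom (T : Subgroup G)
  have hle : (T : Subgroup G).subgroupOf (Subgroup.normalizer ((T : Subgroup G) : Set G)) ≤ φ.ker := by
    intro t ht
    rw [MonoidHom.mem_ker]
    ext x
    have h1 : (t : G) ∈ (T : Subgroup G) := ht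
    show (t : G) * x * (t : G)⁻¹ = x
    have := hT.is_comm.comm (⟨t, h1⟩ : (T : Subgroup G)) x
    have h2 : (t : G) * x = x * t := congrArg (fun a : (T : Subgroup G) => (a : G)) this
    rw [h2]
    group
  have hbot : φ.range = ⊥ := by
    by_contra hne
    have hcard : Nat.card φ.range ∣ (T : Subgroup G).index := by
      have h1 : Nat.card φ.range = φ.ker.index := by
        rw [Subgroup.index_ker]
      rw [h1]
      refine dvd_trans (Subgroup.index_dvd_of_le hle) ?_
      exact Subgroup.relIndex_dvd_index_of_le Subgroup.le_normalizer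
    have h1 : Nat.card φ.range ≠ 1 := by
      intro h
      exact hne (Subgroup.eq_bot_of_card_eq _ h)
    obtain ⟨q, hq, hqd⟩ := Nat.exists_prime_and_dvd h1
    haveI : Fact q.Prime := ⟨hq⟩
    obtain ⟨b, hb⟩ := exists_prime_orderOf_dvd_card' (G := φ.range) q hqd
    have hqi := dvd_trans hqd hcard
    have hqG : q ∣ Nat.card G := dvd_trans hqi (Subgroup.index_dvd_card _)
    have hqp : q ≠ p := by
      rintro rfl
      exact T.not_dvd_index hqi
    have h2 := H q hq hqG hqp (b : MulAut (T : Subgroup G)) (by rw [Subgroup.orderOf_coe, hb])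
    have h3 : b = 1 := Subtype.ext h2
    rw [h3, orderOf_one] at hb
    exact hq.one_lt.ne hb
  have hc : Subgroup.normalizer ((T : Subgroup G) : Set G) ≤ Subgroup.centralizer ((T : Subgroup G) : Set G) := by
    intro n hn
    rw [Subgroup.mem_centralizer_iff]
    intro x hx
    have h1 : φ ⟨n, hn⟩ = 1 := by
      have : φ ⟨n, hn⟩ ∈ φ.range := ⟨_, rfl⟩
      rw [hbot] at this
      exact this
    have h2 : (φ ⟨n, hn⟩ ⟨x, hx⟩ : (T : Subgroup G)) = ⟨x, hx⟩ := by rw [h1]; rfl
    have h3 : n * x * n⁻¹ = x := congrArg (fun a : (T : Subgroup G) => (a : G)) h2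
    calc x * n = (n * x * n⁻¹) * n := by rw [h3]
      _ = n * x := by group
  exact ⟨T, _, inferInstance, MonoidHom.ker_transferSylow_isComplement' T hc⟩

end Cfsg.Agent.Lib.SmallAut
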