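import Mathlib
import Cfsg.Agent.Lib.S4501Gen9
import Cfsg.Agent.Lib.S4501Dio9
import Cfsg.Agent.Lib.KleinOrderBlock
import Cfsg.Agent.S0948
import Cfsg.Agent.S0494
import Cfsg.Agent.S0084
import Cfsg.Agent.S0144

/-!
# Simple groups of order `4 p^a q^b`
-/

set_option autoImplicit false
set_option linter.style.haveILetI false
set_option linter.unusedSectionVars false
set_option linter.unusedVariables false

namespace Cfsg.Agent.Lib.S4501One9

open Cfsg Cfsg.Agent.Lib.CharBasic Cfsg.Agent.Lib.CharKernel Cfsg.Agent.Lib.S4501Gen9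
open Cfsg.Agent.Lib.S4501Dio9 Cfsg.Agent.Lib.KleinOrderBlock Cfsg.Agent.Lib.KleinPrincipal
open Cfsg.Agent.Lib.KleinPrincipalChar
open scoped ComplexConjugate

universe u

variable {G : Type u} [Group G] [Finite G]

theorem not_solvable [IsSimpleGroup G] (hna : ∃ x y : G, x * y ≠ y * x) : ¬ Group.IsSolvable G := by
  intro hs
  obtain ⟨x, y, hxy⟩ := hna
  exact hxy ((IsSimpleGroup.comm_iff_isSolvable (G := G)).2 hs x y)

/-- Subgroups of order a power of `l ≠ 2` in a nonabelian simple group with irreducible characters of degrees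
`3` and `l`. -/
theorem exp_le_one [IsSimpleGroup G] (hna : ∃ x y : G, x * y ≠ y * x) {χ₃ χl : G → ℂ}
    (h3 : IsIrrCharacter G χ₃) (h3ne : χ₃ ≠ fun _ => 1) (h3d : charDegree χ₃ = 3)
    (hl : IsIrrCharacter G χl) (hlne : χl ≠ fun _ => 1) {l : ℕ} (hlp : l.Prime) (hl2 : l ≠ 2)
    (hld : charDegree χl = l) (Q : Subgroup G) {n : ℕ} (hQ : Nat.card Q = l ^ n)
    (hidx : ¬ l ∣ Q.index) : n ≤ 1 := by
  classical
  haveI : Fintype G := Fintype.ofFinite G
  haveI : Fintype Q := Fintype.ofFinite Q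
  haveI : Fact l.Prime := ⟨hlp⟩
  have hres := isCharacter_restrict Q (IsIrrCharacter.isCharacter h3)
  have hdegres : charDegree (fun z : Q => χ₃ z) = 3 := by
    apply Cfsg.Agent.Lib.TwoDeg.charDegree_of_one
    show χ₃ 1 = _
    rw [one_eq_charDegree (IsIrrCharacter.isCharacter h3), h3d]
  have hcomm : ∀ a ∈ Q, ∀ b ∈ Q, a * b = b * a := by
    apply comm_of_constituents h3 h3ne Q
    intro θ hθ
    obtain ⟨hle, heq⟩ := degree_le_of_constituent hres hθ
    rw [hdegres] at hle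
    have hdv : charDegree (θ : Q → ℂ) ∣ l ^ n := by
      rw [← hQ]
      exact charDegree_dvd_card θ.2
    obtain ⟨k, -, hk⟩ := (Nat.dvd_prime_pow hlp).1 hdv
    rcases k with _ | k
    · simpa using hk
    exfalso
    have h1 : l ^ (k + 1) ≤ 3 := hk ▸ hle
    have h2 : l ≤ l ^ (k + 1) := Nat.le_self_pow (by omega) l
    have hl3 : l = 3 := by
      have := hlp.two_le
      omega
    subst hl3
    have hk0 : k = 0 := by
      by_contra hk0
      have h4 : 3 ^ 2 ≤ 3 ^ (k + 1) := Nat.pow_le_pow_right (by norm_num) (by omega)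
      omega
    subst hk0
    have hdθ : charDegree (θ : Q → ℂ) = 3 := by simpa using hk
    have heqθ := heq (by rw [hdθ, hdegres])
    -- the centre of `Q`
    have hn : n ≠ 0 := by
      rintro rfl
      rw [hdθ] at hdv
      norm_num at hdv
    have hpg : IsPGroup 3 Q := IsPGroup.of_card hQ
    haveI : Nontrivial Q := by
      rw [← Finite.one_lt_card_iff_nontrivial, hQ]
      exact Nat.one_lt_pow hn (by norm_num)
    haveI := hpg.center_nontrivial
    obtain ⟨z, hz⟩ := exists_ne (1 : Subgroup.center Q)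
    have hz1 : ((z : Q) : G) ≠ 1 := fun h => hz (Subtype.ext (Subtype.ext h))
    have hzc : ∀ g : Q, (z : Q) * g = g * (z : Q) := fun g => (Subgroup.mem_center_iff.1 z.2 g).symm
    have hnorm := Cfsg.Agent.Lib.CharCentral.central_norm θ.2 hzc
    rw [← heqθ] at hnorm
    have h0 : χ₃ ((z : Q) : G) = 0 := by
      apply irr_eq_zero hna h3 h3ne hz1
      rw [h3d]
      have hd : (Subgroup.centralizer ({((z : Q) : G)} : Set G)).index ∣ Q.index :=
        index_centralizer_dvd fun q hq => congrArg Subtype.val (hzc ⟨q, hq⟩).symm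
      exact (Nat.Prime.coprime_iff_not_dvd Nat.prime_three).2 fun h2 => hidx (h2.trans hd)
    simp only [h0, zero_mul] at hnorm
    have h9 : (χ₃ ((1 : Q) : G)) = 3 := by
      show χ₃ 1 = 3
      rw [one_eq_charDegree (IsIrrCharacter.isCharacter h3), h3d]
      norm_num
    rw [h9] at hnorm
    norm_num at hnorm
  have hle : Q ≤ Subgroup.centralizer (Q : Set G) := by
    intro a ha
    rw [Subgroup.mem_centralizer_iff]
    intro b hb
    exact hcomm b hb a ha
  have hdv1 : Nat.card Q ∣ Nat.card (Subgroup.centralizer (Q : Set G)) :=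
    Subgroup.card_dvd_of_le hle
  have hdv2 := hdv1.trans (card_centralizer_dvd hna hl hlne hlp hld Q hidx)
  rw [hQ] at hdv2
  by_contra hn
  have h5 : l ^ 2 ∣ l ^ n := pow_dvd_pow _ (by omega)
  have h6 : l ^ 2 ∣ l ^ 1 := h5.trans (by simpa using hdv2)
  have := (Nat.pow_dvd_pow_iff_le_right hlp.one_lt).1 h6
  omega

/-- The main theorem for order `4 p^a q^b`. -/
theorem part1 [IsSimpleGroup G] (hna : ∃ x y : G, x * y ≠ y * x) {p q a b : ℕ} (hp : p.Prime)
    (hq : q.Prime) (hpq : p ≠ q) (h : Nat.card G = 4 * p ^ a * q ^ b) :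
    Nonempty (G ≃* alternatingGroup (Fin 5)) := by
  classical
  haveI : Fintype G := Fintype.ofFinite G
  haveI : Fact (Nat.Prime 2) := ⟨Nat.prime_two⟩
  have hns := not_solvable hna
  have hp2 : p ≠ 2 := by
    rintro rfl
    apply hns
    exact Cfsg.Agent.S0144.result 2 q (a + 2) b Nat.prime_two hq (by rw [h]; ring)
  have hq2 : q ≠ 2 := by
    rintro rfl
    apply hns
    exact Cfsg.Agent.S0144.result p 2 a (b + 2) hp Nat.prime_two (by rw [h]; ring)
  have hodd : Odd (p ^ a * q ^ b) :=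
    Odd.mul ((hp.odd_of_ne_two hp2).pow) ((hq.odd_of_ne_two hq2).pow)
  have hG : Nat.card G = 4 * (p ^ a * q ^ b) := by rw [h]; ring
  have hnc : ¬ ∃ N : Subgroup G, N.Normal ∧ Nat.card N = p ^ a * q ^ b := by
    rintro ⟨N, hN, hNc⟩
    rcases hN.eq_bot_or_eq_top with rfl | rfl
    · rw [Subgroup.card_bot] at hNc
      rw [← hNc, mul_one] at hG
      have hc : IsMulCommutative G := by
        exact IsPGroup.isMulCommutative_of_card_eq_prime_sq (p := 2) (G := G) (by rw [hG]; norm_num)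
      obtain ⟨x, y, hxy⟩ := hna
      exact hxy (hc.is_comm.comm x y)
    · rw [Subgroup.card_top] at hNc
      have := hodd.pos
      omega
  let P : Sylow 2 G := default
  have hk : KSet P := kset_of_hyps (p ^ a * q ^ b) hodd hG hnc P
  -- `3` divides the order
  have h3G : 3 ∣ Nat.card G := by
    by_contra h3
    obtain ⟨P', N, hN, hc⟩ := Cfsg.Agent.S0084.result P hk.klein h3
    apply hnc
    refine ⟨N, hN, ?_⟩
    have h1 := hc.card_mul_card
    have h2 : Nat.card (P' : Subgroup G) = 4 := by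
      haveI := hk.isKlein P'
      exact IsKleinFour.card_four
    rw [h2, hG] at h1
    omega
  -- the other prime
  obtain ⟨r, hr, hr3, hr2, hprimes, hform⟩ : ∃ r : ℕ, r.Prime ∧ r ≠ 3 ∧ r ≠ 2 ∧
      (∀ l : ℕ, l.Prime → l ∣ Nat.card G → l = 2 ∨ l = 3 ∨ l = r) ∧
      ∃ α β : ℕ, Nat.card G = 4 * 3 ^ α * r ^ β := by
    have hall : ∀ l : ℕ, l.Prime → l ∣ Nat.card G → l = 2 ∨ l = p ∨ l = q := by
      intro l hl hd
      rw [h] at hd
      rcases (Nat.Prime.dvd_mul hl).1 hd with h1 | h1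
      · rcases (Nat.Prime.dvd_mul hl).1 h1 with h2 | h2
        · left
          have : l ∣ 2 ^ 2 := by simpa using h2
          have := hl.dvd_of_dvd_pow this
          exact (Nat.prime_dvd_prime_iff_eq hl Nat.prime_two).1 this
        · right; left
          exact (Nat.prime_dvd_prime_iff_eq hl hp).1 (hl.dvd_of_dvd_pow h2)
      · right; right
        exact (Nat.prime_dvd_prime_iff_eq hl hq).1 (hl.dvd_of_dvd_pow h1)
    rcases hall 3 Nat.prime_three h3G with h1 | h1 | h1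
    · omega
    · subst h1
      refine ⟨q, hq, hpq.symm, hq2, ?_, a, b, h⟩
      exact hall
    · subst h1
      refine ⟨p, hp, hpq, hp2, ?_, b, a, by rw [h]; ring⟩
      intro l hl hd
      rcases hall l hl hd with h1 | h1 | h1
      · exact Or.inl h1
      · exact Or.inr (Or.inr h1)
      · exact Or.inr (Or.inl h1)
  obtain ⟨α, β, hαβ⟩ := hform
  obtain ⟨M, hM⟩ := Cfsg.Agent.Lib.BlockVal.exists_isPModular Nat.prime_two
  obtain ⟨ζ₂, ζ₃, ζ₄, ε, hε, h2ne, h3ne, h23, h24, h34, hB, hval, hd2, hd3, hd4, -⟩ :=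
    Cfsg.Agent.S0948.result M hM P hk.klein hk.one
  obtain ⟨J, hJ, hJP⟩ := exists_invol hk
  obtain ⟨v2, v3, v4⟩ := hval J hJ
  have h4ne : (ζ₄ : G → ℂ) ≠ fun _ => 1 := by
    intro h0
    have := congrFun h0 J
    rw [v4] at this
    norm_num at this
  have hdist : (ζ₂ : G → ℂ) ≠ (fun _ => 1) ∧ (ζ₃ : G → ℂ) ≠ (fun _ => 1) ∧ (ζ₄ : G → ℂ) ≠ (fun _ => 1) ∧
      ζ₂ ≠ ζ₃ ∧ ζ₂ ≠ ζ₄ ∧ ζ₃ ≠ ζ₄ := ⟨h2ne, h3ne, h4ne, h23, h24, h34⟩
  obtain ⟨hR, hmain⟩ := rel_main (ε₁ := 1) (ε₂ := ε) (ε₃ := -1) hk hM hJ hB hdist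
    ⟨Or.inl rfl, hε, Or.inr rfl⟩ ⟨by rw [v2]; norm_num, v3, by rw [v4]; norm_num⟩
  set x₁ := charDegree (ζ₂ : G → ℂ) with hx₁
  set x₂ := charDegree (ζ₃ : G → ℂ) with hx₂
  set x₃ := charDegree (ζ₄ : G → ℂ) with hx₃
  have hε2 : ε * ε = 1 := by rcases hε with rfl | rfl <;> norm_num
  -- degrees different from one
  have hcomm' : ¬ IsMulCommutative G := by
    intro hc
    obtain ⟨x, y, hxy⟩ := hna
    exact hxy (hc.is_comm.comm x y)
  have hdeg1 : ∀ ζ : IrrCharacter G, (ζ : G → ℂ) ≠ (fun _ => 1) → 1 < charDegree (ζ : G → ℂ) := by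
    intro ζ hζ
    have h1 : charDegree (ζ : G → ℂ) ≠ 1 :=
      Cfsg.Agent.Lib.DefectOne.degree_ne_one hcomm' (i := ζ)
        (fun h => hζ (by rw [h]; rfl)) (one_eq_charDegree (IsIrrCharacter.isCharacter ζ.2))
    have h2 := charDegree_ne_zero ζ.2
    omega
  have hx₁1 : 1 < x₁ := hdeg1 ζ₂ h2ne
  have hx₂1 : 1 < x₂ := hdeg1 ζ₃ h3ne
  have hx₃1 : 1 < x₃ := hdeg1 ζ₄ h4ne
  have hdvd1 : x₁ ∣ Nat.card G := charDegree_dvd_card ζ₂.2
  have hdvd2 : x₂ ∣ Nat.card G := charDegree_dvd_card ζ₃.2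
  have hdvd3 : x₃ ∣ Nat.card G := charDegree_dvd_card ζ₄.2
  have hdvdJ : Nat.card (Subgroup.centralizer ({J} : Set G)) ∣ Nat.card G :=
    Subgroup.card_subgroup_dvd_card _
  -- the integers
  obtain ⟨k₁, hk₁⟩ := hd2
  obtain ⟨k₂, hk₂⟩ := hd3
  obtain ⟨k₃, hk₃⟩ := hd4
  set D : ℤ := (x₁ : ℤ) with hD
  set E : ℤ := ε * (x₂ : ℤ) with hE
  set F : ℤ := (x₃ : ℤ) with hF
  set uu : ℤ := 2 * k₁ + 1 with huu
  set vv : ℤ := 2 * (ε * k₂) + 1 with hvv
  set ww : ℤ := 2 * k₃ - 1 with hww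
  have e1 : D = 2 * uu - 1 := by rw [huu]; linarith
  have e2 : E = 2 * vv - 1 := by
    rw [hvv, hE]
    have : (x₂ : ℤ) = ε + 4 * k₂ := by linarith
    rw [this]
    linear_combination hε2
  have e3 : F = 2 * ww + 1 := by rw [hww]; linarith
  have e4 : ww = uu + vv - 1 := by
    have : (1 : ℤ) + 1 * D + E + (-1) * F = 0 := hR
    linarith
  have hx2ε : (x₂ : ℤ) + ε = ε * (2 * vv) := by
    have : ε * (2 * vv) = ε * (E + 1) := by rw [e2]; ring
    rw [this, hE]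
    linear_combination (-(x₂ : ℤ)) * hε2
  have hmain' : (Nat.card G : ℤ) * (uu * (ε * vv) * ww) *
      (Nat.card (Subgroup.centralizer ((P : Subgroup G) : Set G)) : ℤ) ^ 2 =
      (x₁ : ℤ) * x₂ * x₃ * (Nat.card (Subgroup.centralizer ({J} : Set G)) : ℤ) ^ 3 := by
    have h1 : ((x₁ : ℤ) + 1) = 2 * uu := by rw [← hD, e1]; ring
    have h3 : ((x₃ : ℤ) + -1) = 2 * ww := by rw [← hF, e3]; ring
    rw [h1, hx2ε, h3] at hmain
    linarith
  -- goodness
  have hgoodG : ∀ l : ℕ, l.Prime → ¬ (l : ℤ) ∣ 2 * (0 : ℤ) + 1 → True := fun _ _ _ => trivial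
  have hlG : ∀ l : ℕ, l.Prime → (l : ℤ) ∣ (x₁ : ℤ) * x₂ * x₃ * (Nat.card (Subgroup.centralizer ({J} : Set G)) : ℤ) ^ 3 →
      l ∣ Nat.card G := by
    intro l hl hd
    have hd' : l ∣ x₁ * x₂ * x₃ * Nat.card (Subgroup.centralizer ({J} : Set G)) ^ 3 := by
      exact_mod_cast hd
    rcases (Nat.Prime.dvd_mul hl).1 hd' with h1 | h1
    · rcases (Nat.Prime.dvd_mul hl).1 h1 with h2 | h2
      · rcases (Nat.Prime.dvd_mul hl).1 h2 with h3 | h3
        · exact h3.trans hdvd1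
        · exact h3.trans hdvd2
      · exact h2.trans hdvd3
    · exact (hl.dvd_of_dvd_pow h1).trans hdvdJ
  have hodd2 : ∀ {n m : ℤ}, n = 2 * m + 1 ∨ n = 2 * m - 1 → ¬ ((2 : ℕ) : ℤ) ∣ n := by
    rintro n m (rfl | rfl) <;> omega
  have hgood : ∀ (n : ℤ), (∃ m : ℤ, n = 2 * m + 1 ∨ n = 2 * m - 1) →
      (∀ l : ℕ, l.Prime → (l : ℤ) ∣ n → l ∣ Nat.card G) → Good r n := by
    rintro n ⟨m, hm⟩ hn l hl hd
    rcases hprimes l hl (hn l hl hd) with rfl | h1
    · exact absurd hd (hodd2 hm)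
    · exact h1
  have gD : Good r D := hgood D ⟨uu, Or.inr e1⟩ fun l hl hd => by
    have : l ∣ x₁ := by rw [hD] at hd; exact_mod_cast hd
    exact this.trans hdvd1
  have gF : Good r F := hgood F ⟨ww, Or.inl e3⟩ fun l hl hd => by
    have : l ∣ x₃ := by rw [hF] at hd; exact_mod_cast hd
    exact this.trans hdvd3
  have gE : Good r E := hgood E ⟨vv, Or.inr e2⟩ fun l hl hd => by
    have h1 : (l : ℤ) ∣ x₂ := by
      have h2 : (x₂ : ℤ) = ε * E := by rw [hE]; linear_combination (-(x₂ : ℤ)) * hε2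
      rw [h2]
      exact Dvd.dvd.mul_left hd ε
    have : l ∣ x₂ := by exact_mod_cast h1
    exact this.trans hdvd2
  have hfac : ∀ l : ℕ, l.Prime → ∀ n : ℤ, (l : ℤ) ∣ n →
      (n ∣ uu * (ε * vv) * ww) → l ∣ Nat.card G := by
    intro l hl n hn hd
    apply hlG l hl
    rw [← hmain']
    exact Dvd.dvd.mul_right (Dvd.dvd.mul_left (hn.trans hd) _) _
  have gu : Good r uu := hgood uu ⟨k₁, Or.inl rfl⟩ fun l hl hd =>
    hfac l hl uu hd ⟨ε * vv * ww, by ring⟩
  have gw : Good r ww := hgood ww ⟨k₃, Or.inr rfl⟩ fun l hl hd =>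
    hfac l hl ww hd ⟨uu * (ε * vv), by ring⟩
  have gv : Good r vv := hgood vv ⟨ε * k₂, Or.inl rfl⟩ fun l hl hd =>
    hfac l hl vv hd ⟨uu * ε * ww, by ring⟩
  have hD1 : 1 < D := by rw [hD]; exact_mod_cast hx₁1
  have hF1 : 1 < F := by rw [hF]; exact_mod_cast hx₃1
  have hx₂1' : (1 : ℤ) < x₂ := by exact_mod_cast hx₂1
  have hE1 : 1 < E ∨ E < -1 := by
    rw [hE]
    rcases hε with rfl | rfl
    · left; linarith
    · right; linarith
  obtain ⟨hD5, hE3, hF3, hr5⟩ := dioph hr hr3 e1 e2 e3 e4 hD1 hE1 hF1 gD gE gF gu gv gw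
  subst hr5
  have hx₁5 : x₁ = 5 := by rw [hD] at hD5; exact_mod_cast hD5
  have hx₃3 : x₃ = 3 := by rw [hF] at hF3; exact_mod_cast hF3
  have hx₂3 : x₂ = 3 := by
    rcases hε with hε' | hε'
    · rw [hE, hε'] at hE3
      omega
    · rw [hE, hε'] at hE3
      omega
  -- the Sylow subgroups
  haveI : Fact (Nat.Prime 5) := ⟨by norm_num⟩
  obtain ⟨Q, hQ⟩ := Sylow.exists_subgroup_card_pow_prime 3 (n := α) (by
    rw [hαβ]
    exact Dvd.dvd.mul_right (Dvd.intro_left _ rfl) _ : 3 ^ α ∣ Nat.card G)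
  obtain ⟨R, hR'⟩ := Sylow.exists_subgroup_card_pow_prime 5 (n := β) (by
    rw [hαβ]
    exact Dvd.intro_left _ rfl : 5 ^ β ∣ Nat.card G)
  have hQi : ¬ 3 ∣ Q.index := by
    intro h1
    have h2 := Subgroup.card_mul_index Q
    rw [hQ, hαβ] at h2
    have h3 : Q.index = 4 * 5 ^ β := by
      have h4 : 3 ^ α * Q.index = 3 ^ α * (4 * 5 ^ β) := by rw [h2]; ring
      exact Nat.eq_of_mul_eq_mul_left (by positivity) h4
    rw [h3] at h1
    rcases (Nat.Prime.dvd_mul Nat.prime_three).1 h1 with h5 | h5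
    · omega
    · have := Nat.prime_three.dvd_of_dvd_pow h5
      omega
  have hRi : ¬ 5 ∣ R.index := by
    intro h1
    have h2 := Subgroup.card_mul_index R
    rw [hR', hαβ] at h2
    have h3 : R.index = 4 * 3 ^ α := by
      have h4 : 5 ^ β * R.index = 5 ^ β * (4 * 3 ^ α) := by rw [h2]; ring
      exact Nat.eq_of_mul_eq_mul_left (by positivity) h4
    rw [h3] at h1
    rcases (Nat.Prime.dvd_mul (by norm_num : Nat.Prime 5)).1 h1 with h5 | h5
    · omega
    · have := (by norm_num : Nat.Prime 5).dvd_of_dvd_pow h5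
      omega
  have hα := exp_le_one hna ζ₄.2 h4ne hx₃3 ζ₄.2 h4ne Nat.prime_three (by norm_num) hx₃3 Q hQ hQi
  have hβ := exp_le_one hna ζ₄.2 h4ne hx₃3 ζ₂.2 h2ne (by norm_num) (by norm_num) hx₁5 R hR' hRi
  have hα1 : α ≠ 0 := by
    rintro rfl
    rw [hαβ] at hdvd3
    rw [hx₃3] at hdvd3
    have h5 : 3 ∣ 4 * 5 ^ β := by simpa using hdvd3
    rcases (Nat.Prime.dvd_mul Nat.prime_three).1 h5 with h6 | h6
    · omega
    · have := Nat.prime_three.dvd_of_dvd_pow h6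
      omega
  have hβ1 : β ≠ 0 := by
    rintro rfl
    rw [hαβ, hx₁5] at hdvd1
    have h5 : 5 ∣ 4 * 3 ^ α := by simpa using hdvd1
    rcases (Nat.Prime.dvd_mul (by norm_num : Nat.Prime 5)).1 h5 with h6 | h6
    · omega
    · have := (by norm_num : Nat.Prime 5).dvd_of_dvd_pow h6
      omega
  have hα2 : α = 1 := by omega
  have hβ2 : β = 1 := by omega
  subst hα2 hβ2
  exact Cfsg.Agent.S0494.result (by rw [hαβ]; norm_num)

end Cfsg.Agent.Lib.S4501One9
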