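import Mathlib
import Cfsg.Agent.Lib.S4501Psi9
import Cfsg.Agent.Lib.S4501Max9
import Cfsg.Agent.Lib.S4501Ar9
import Cfsg.Agent.Lib.S4501One9
import Cfsg.Agent.S0493
import Cfsg.Agent.S0494
import Cfsg.Agent.S0495
import Cfsg.Agent.S0675
import Cfsg.Agent.S0144
import Cfsg.Agent.Lib.SLnSteinberg50

/-!
# Simple groups of order `3 · 2^b · s^e`, `e ≤ 2`
-/

set_option autoImplicit false
set_option linter.style.haveILetI false
set_option linter.unusedSectionVars false
set_option linter.unusedVariables false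

namespace Cfsg.Agent.Lib.S4501Two9

open Cfsg Cfsg.Agent.Lib.CharBasic Cfsg.Agent.Lib.CharKernel Cfsg.Agent.Lib.S4501Gen9 Subgroup
open Cfsg.Agent.Lib.S4501Psi9 Cfsg.Agent.Lib.S4501Max9 Cfsg.Agent.Lib.S4501Ar9 Cfsg.Agent.Lib.S4501One9
open scoped ComplexConjugate

universe u

variable {G : Type u} [Group G] [Finite G]

/-- **Burnside's transfer** in a simple group. -/
theorem false_of_normalizer_le [IsSimpleGroup G] (hna : ∃ x y : G, x * y ≠ y * x) {p : ℕ} [Fact p.Prime]
    (P : Sylow p G) (hP : normalizer (P : Set G) ≤ centralizer (P : Set G)) (hP1 : (P : Subgroup G) ≠ ⊥) :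
    False := by
  have hc := MonoidHom.ker_transferSylow_isComplement' P hP
  set K := (MonoidHom.transferSylow P hP).ker with hK
  have hKn : K.Normal := MonoidHom.normal_ker _
  have h1 := hc.card_mul_card
  rcases hKn.eq_bot_or_eq_top with h | h
  · rw [h, Subgroup.card_bot, one_mul] at h1
    have hPtop : (P : Subgroup G) = ⊤ := by
      apply Subgroup.eq_top_of_card_eq
      exact h1
    have hpg : IsPGroup p G := by
      have := P.isPGroup'
      rw [hPtop] at this
      intro g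
      obtain ⟨k, hk⟩ := this ⟨g, trivial⟩
      exact ⟨k, congrArg Subtype.val hk⟩
    haveI : Nontrivial G := IsSimpleGroup.toNontrivial
    haveI := hpg.center_nontrivial
    obtain ⟨z, hz⟩ := exists_ne (1 : center G)
    have hcen := center_eq_bot hna
    apply hz
    have h9 : ∀ w ∈ center G, w = 1 := by
      rw [hcen]
      intro w hw
      exact hw
    exact Subtype.ext (h9 z z.2)
  · rw [h, Subgroup.card_top] at h1
    apply hP1
    have h2 : Nat.card (P : Subgroup G) = 1 := by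
      have hpos : 0 < Nat.card G := Nat.card_pos
      have : Nat.card G * Nat.card (P : Subgroup G) = Nat.card G * 1 := by rw [h1, mul_one]
      exact Nat.eq_of_mul_eq_mul_left hpos this
    exact Subgroup.card_eq_one.1 h2

/-- The centralizer of an element of order `s`. -/
theorem centralizer_eq_zpowers [IsSimpleGroup G] (hna : ∃ x y : G, x * y ≠ y * x) {χ : G → ℂ}
    (hχ : IsIrrCharacter G χ) (hne : χ ≠ fun _ => 1) {s : ℕ} (hs : s.Prime)
    (hdeg : charDegree χ = s) (hidx : ¬ s ∣ Nat.card G / s) {y : G} (hy : orderOf y = s) :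
    centralizer ({y} : Set G) = zpowers y := by
  have hcard : Nat.card (zpowers y) = s := by rw [Nat.card_zpowers, hy]
  have hi : ¬ s ∣ (zpowers y).index := by
    have h1 := Subgroup.card_mul_index (zpowers y)
    rw [hcard] at h1
    have h2 : (zpowers y).index = Nat.card G / s := by
      rw [← h1, Nat.mul_div_cancel_left _ hs.pos]
    rwa [h2]
  have h1 := card_centralizer_dvd hna hχ hne hs hdeg (zpowers y) hi
  have hle : zpowers y ≤ centralizer ((zpowers y : Subgroup G) : Set G) := by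
    intro a ha
    rw [mem_centralizer_iff]
    intro b hb
    obtain ⟨k, rfl⟩ := Subgroup.mem_zpowers_iff.1 ha
    obtain ⟨l, rfl⟩ := Subgroup.mem_zpowers_iff.1 hb
    exact ((Commute.refl y).zpow_zpow _ _).eq
  have h2 : zpowers y = centralizer ((zpowers y : Subgroup G) : Set G) := by
    apply Subgroup.eq_of_le_of_card_ge hle
    rw [hcard]
    exact Nat.le_of_dvd hs.pos h1
  have h3 : centralizer ({y} : Set G) = centralizer ((zpowers y : Subgroup G) : Set G) := by
    apply le_antisymm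
    · intro a ha
      rw [mem_centralizer_iff]
      intro b hb
      rw [mem_centralizer_singleton_iff] at ha
      obtain ⟨k, rfl⟩ := Subgroup.mem_zpowers_iff.1 hb
      exact ((Commute.zpow_right (show Commute a y from ha) k)).symm.eq
    · apply centralizer_le
      simp
  rw [h3, ← h2]

/-- Existence of a Sylow subgroup of the expected cardinality. -/
theorem exists_sylow_card {p : ℕ} [Fact p.Prime] {n m : ℕ} (hcard : Nat.card G = p ^ n * m)
    (hm : ¬ p ∣ m) : ∃ X : Sylow p G, Nat.card (X : Subgroup G) = p ^ n := by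
  obtain ⟨H, hH⟩ := Sylow.exists_subgroup_card_pow_prime (G := G) p (n := n)
    (by rw [hcard]; exact dvd_mul_right _ _)
  have hi : ¬ p ∣ H.index := by
    have h1 := Subgroup.card_mul_index H
    rw [hH, hcard] at h1
    have h2 : H.index = m := Nat.eq_of_mul_eq_mul_left (pow_pos (Fact.out : p.Prime).pos n) h1
    rwa [h2]
  refine ⟨(IsPGroup.of_card hH).toSylow hi, ?_⟩
  rw [IsPGroup.toSylow_coe]
  exact hH

theorem one_lt_degree [IsSimpleGroup G] (hna : ∃ x y : G, x * y ≠ y * x) {χ : G → ℂ}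
    (hχ : IsIrrCharacter G χ) (hne : χ ≠ fun _ => 1) : 1 < charDegree χ := by
  classical
  haveI : Fintype G := Fintype.ofFinite G
  have hcomm' : ¬ IsMulCommutative G := by
    intro hc
    obtain ⟨x, y, hxy⟩ := hna
    exact hxy (hc.is_comm.comm x y)
  have h1 : charDegree χ ≠ 1 :=
    Cfsg.Agent.Lib.DefectOne.degree_ne_one hcomm' (i := ⟨χ, hχ⟩)
      (fun h => hne (by
        have := congrArg Subtype.val h
        exact this))
      (one_eq_charDegree (IsIrrCharacter.isCharacter hχ))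
  have h2 := charDegree_ne_zero hχ
  omega

theorem not_three_dvd_degree [Fintype G] {α β : IrrCharacter G} (hαβ : α ≠ β)
    (hα1 : (α : G → ℂ) ≠ fun _ => 1) (hβ1 : (β : G → ℂ) ≠ fun _ => 1)
    (hΨ : ∀ g : G, (3 ∣ orderOf g → 1 + (α : G → ℂ) g - (β : G → ℂ) g = 3) ∧
      (¬ 3 ∣ orderOf g → 1 + (α : G → ℂ) g - (β : G → ℂ) g = 0))
    (h9 : ¬ 9 ∣ Nat.card G) :
    ¬ 3 ∣ charDegree (α : G → ℂ) ∧ ¬ 3 ∣ charDegree (β : G → ℂ) := by
  have hne : (α : G → ℂ) ≠ (β : G → ℂ) := fun h => hαβ (Subtype.ext h)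
  set Ψ : G → ℂ := ((fun _ => 1 : G → ℂ) + (α : G → ℂ)) - (β : G → ℂ) with hΨdef
  have hInner : ∀ χ : IrrCharacter G, 3 ∣ charDegree (χ : G → ℂ) →
      classInner Ψ (χ : G → ℂ) = 0 := by
    intro χ h3
    have hv : ∀ g : G, 3 ∣ orderOf g → (χ : G → ℂ) g = 0 := by
      intro g hg
      apply Cfsg.Agent.Lib.SLnSteinberg50.vanish_of_not_dvd Nat.prime_three χ ?_ g hg
      intro h
      obtain ⟨k, hk⟩ := charDegree_dvd_card χ.2
      have hpos : 0 < charDegree (χ : G → ℂ) := Nat.pos_of_ne_zero (charDegree_ne_zero χ.2)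
      rw [hk, Nat.mul_div_cancel_left _ hpos] at h
      apply h9
      rw [hk, show 9 = 3 * 3 by norm_num]
      exact mul_dvd_mul h3 h
    unfold classInner
    rw [Finset.sum_eq_zero, mul_zero]
    intro g _
    by_cases hg : 3 ∣ orderOf g
    · rw [hv g hg]
      simp
    · have h1 := (hΨ g).2 hg
      have h2 : Ψ g = 0 := by
        simp only [hΨdef, Pi.sub_apply, Pi.add_apply]
        exact h1
      rw [h2, zero_mul]
  have h1 : classInner Ψ (α : G → ℂ) = 1 := by
    rw [hΨdef, classInner_sub_left, classInner_add_left, classInner_irr_self α.2,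
      classInner_irr_ne isIrrCharacter_one α.2 hα1.symm, classInner_irr_ne β.2 α.2 hne.symm]
    ring
  have h2 : classInner Ψ (β : G → ℂ) = -1 := by
    rw [hΨdef, classInner_sub_left, classInner_add_left, classInner_irr_self β.2,
      classInner_irr_ne isIrrCharacter_one β.2 hβ1.symm, classInner_irr_ne α.2 β.2 hne]
    ring
  constructor
  · intro h
    rw [hInner α h] at h1
    norm_num at h1
  · intro h
    rw [hInner β h] at h2
    norm_num at h2

theorem degree_shape [IsSimpleGroup G] (hna : ∃ x y : G, x * y ≠ y * x) {s b e : ℕ} (hs : s.Prime)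
    (hs2 : s ≠ 2) (hs3 : s ≠ 3) (he : e ≤ 2) (hcard : Nat.card G = 3 * 2 ^ b * s ^ e)
    {χ₁ χ₂ : G → ℂ} (h1 : IsIrrCharacter G χ₁) (h2 : IsIrrCharacter G χ₂)
    (hn1 : χ₁ ≠ fun _ => 1) (hn2 : χ₂ ≠ fun _ => 1) (hd : charDegree χ₂ = charDegree χ₁ + 1)
    (h31 : ¬ 3 ∣ charDegree χ₁) (h32 : ¬ 3 ∣ charDegree χ₂) :
    ∃ i, 1 ≤ i ∧ i ≤ b ∧ (s = 2 ^ i + 1 ∨ s + 1 = 2 ^ i) ∧
      ∃ χ, IsIrrCharacter G χ ∧ χ ≠ (fun _ => 1) ∧ charDegree χ = s := by
  have ha1 := one_lt_degree hna h1 hn1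
  have ha2 := one_lt_degree hna h2 hn2
  have hdv1 := charDegree_dvd_card h1
  have hdv2 := charDegree_dvd_card h2
  have hprime : ∀ d, d ∣ Nat.card G → ¬ 3 ∣ d → ∀ l, l.Prime → l ∣ d → l = 2 ∨ l = s := by
    intro d hdG hd3 l hl hld
    have h4 : l ∣ 3 * 2 ^ b * s ^ e := hcard ▸ hld.trans hdG
    rcases (hl.dvd_mul).1 h4 with h5 | h5
    · rcases (hl.dvd_mul).1 h5 with h6 | h6
      · exfalso
        apply hd3
        rw [← (Nat.prime_dvd_prime_iff_eq hl Nat.prime_three).1 h6]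
        exact hld
      · left
        exact (Nat.prime_dvd_prime_iff_eq hl Nat.prime_two).1 (hl.dvd_of_dvd_pow h6)
    · right
      exact (Nat.prime_dvd_prime_iff_eq hl hs).1 (hl.dvd_of_dvd_pow h5)
  have hs2' : Nat.Coprime 2 s := (Nat.coprime_primes Nat.prime_two hs).2 hs2.symm
  have hs3' : Nat.Coprime s 3 := (Nat.coprime_primes hs Nat.prime_three).2 hs3
  have hi_le : ∀ i, 2 ^ i ∣ Nat.card G → i ≤ b := by
    intro i hi
    rw [hcard] at hi
    have hc : Nat.Coprime (2 ^ i) 3 := Nat.Coprime.pow_left _ (by norm_num)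
    have hc2 : Nat.Coprime (2 ^ i) (s ^ e) := Nat.Coprime.pow _ _ hs2'
    have h6 : 2 ^ i ∣ 3 * 2 ^ b := hc2.dvd_of_dvd_mul_right hi
    have h7 : 2 ^ i ∣ 2 ^ b := hc.dvd_of_dvd_mul_left h6
    exact (Nat.pow_dvd_pow_iff_le_right (by norm_num)).1 h7
  have hj_le : ∀ j, s ^ j ∣ Nat.card G → j ≤ e := by
    intro j hj
    rw [hcard] at hj
    have hc : Nat.Coprime (s ^ j) 3 := Nat.Coprime.pow_left _ hs3'
    have hc2 : Nat.Coprime (s ^ j) (2 ^ b) := Nat.Coprime.pow _ _ hs2'.symm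
    have h6 : s ^ j ∣ s ^ e := by
      apply (Nat.Coprime.mul_right hc hc2).dvd_of_dvd_mul_left
      exact hj
    exact (Nat.pow_dvd_pow_iff_le_right hs.one_lt).1 h6
  have hcop : (charDegree χ₁).Coprime (charDegree χ₂) := by
    rw [hd]
    simp
  rcases pure_two hs hs2 ha1 ha2 hcop (hprime _ hdv1 h31) (hprime _ hdv2 h32) with
    ⟨⟨i, hi, hai⟩, ⟨j, hj, hbj⟩⟩ | ⟨⟨j, hj, haj⟩, ⟨i, hi, hbi⟩⟩
  · have hj2 := hj_le j (hbj ▸ hdv2)
    have hj1 : j = 1 := by
      have : j ≠ 2 := by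
        rintro rfl
        exact not_sq_add hs hs3 (i := i) (by rw [← hbj, hd, hai])
      omega
    subst hj1
    rw [pow_one] at hbj
    refine ⟨i, hi, hi_le i (hai ▸ hdv1), Or.inl ?_, χ₂, h2, hn2, hbj⟩
    rw [← hbj, hd, hai]
  · have hj2 := hj_le j (haj ▸ hdv1)
    have hj1 : j = 1 := by
      have : j ≠ 2 := by
        rintro rfl
        exact not_sq_sub hs hs2 (i := i) (by rw [← haj, ← hbi, hd])
      omega
    subst hj1
    rw [pow_one] at haj
    refine ⟨i, hi, hi_le i (hbi ▸ hdv2), Or.inr ?_, χ₁, h1, hn1, haj⟩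
    rw [← haj, ← hbi, hd]

theorem exp_eq_one [IsSimpleGroup G] (hna : ∃ x y : G, x * y ≠ y * x) {s b e : ℕ} (hs : s.Prime)
    (hs2 : s ≠ 2) (hs3 : s ≠ 3) (he : e ≤ 2) (hcard : Nat.card G = 3 * 2 ^ b * s ^ e)
    {χ : G → ℂ} (hχ : IsIrrCharacter G χ) (hne : χ ≠ fun _ => 1) (hd : charDegree χ = s) :
    e = 1 := by
  have hdv := charDegree_dvd_card hχ
  haveI : Fact s.Prime := ⟨hs⟩
  have h32 : ¬ s ∣ 3 * 2 ^ b := by
    intro h
    rcases (hs.dvd_mul).1 h with h5 | h5
    · exact hs3 ((Nat.prime_dvd_prime_iff_eq hs Nat.prime_three).1 h5)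
    · exact hs2 ((Nat.prime_dvd_prime_iff_eq hs Nat.prime_two).1 (hs.dvd_of_dvd_pow h5))
  have he0 : e ≠ 0 := by
    rintro rfl
    rw [hd, hcard, pow_zero, mul_one] at hdv
    exact h32 hdv
  by_contra he1
  have he2 : e = 2 := by omega
  subst he2
  obtain ⟨Q, hQ⟩ := exists_sylow_card (G := G) (p := s) (n := 2) (m := 3 * 2 ^ b)
    (by rw [hcard]; ring) h32
  have hcomm : IsMulCommutative (Q : Subgroup G) := IsPGroup.isMulCommutative_of_card_eq_prime_sq hQ
  have h1 := card_centralizer_dvd hna hχ hne hs hd (Q : Subgroup G) Q.not_dvd_index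
  have hle : (Q : Subgroup G) ≤ centralizer ((Q : Subgroup G) : Set G) := by
    intro a ha
    rw [mem_centralizer_iff]
    intro c hc
    have := hcomm.is_comm.comm (⟨c, hc⟩ : (Q : Subgroup G)) ⟨a, ha⟩
    exact congrArg Subtype.val this
  have h2 := Subgroup.card_dvd_of_le hle
  rw [hQ] at h2
  have h3 := Nat.le_of_dvd hs.pos (h2.trans h1)
  have := hs.two_le
  nlinarith

/-- Data from the Sylow `s`-subgroup. -/
theorem sylow_s_data [IsSimpleGroup G] {s b : ℕ} (hs : s.Prime) (hs2 : s ≠ 2) (hs3 : s ≠ 3)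
    (hcard : Nat.card G = 3 * 2 ^ b * s)
    (hC : ∀ y : G, orderOf y = s → centralizer ({y} : Set G) = zpowers y) :
    ∃ (P : Subgroup G) (n d : ℕ), Nat.card P = s ∧ n ≡ 1 [MOD s] ∧ d ∣ s - 1 ∧
      n * d = 3 * 2 ^ b ∧ Nat.card (normalizer (P : Set G)) = s * d := by
  classical
  haveI : Fact s.Prime := ⟨hs⟩
  have h32 : ¬ s ∣ 3 * 2 ^ b := by
    intro h
    rcases (hs.dvd_mul).1 h with h5 | h5
    · exact hs3 ((Nat.prime_dvd_prime_iff_eq hs Nat.prime_three).1 h5)
    · exact hs2 ((Nat.prime_dvd_prime_iff_eq hs Nat.prime_two).1 (hs.dvd_of_dvd_pow h5))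
  obtain ⟨S, hS⟩ := exists_sylow_card (G := G) (p := s) (n := 1) (m := 3 * 2 ^ b)
    (by rw [hcard]; ring) h32
  rw [pow_one] at hS
  obtain ⟨y, hy⟩ := exists_prime_orderOf_dvd_card' (G := (S : Subgroup G)) s (by rw [hS])
  have hyord : orderOf (y : G) = s := by
    rw [Subgroup.orderOf_coe]
    exact hy
  have hSz : zpowers (y : G) = (S : Subgroup G) := by
    apply Subgroup.eq_of_le_of_card_ge
    · rw [Subgroup.zpowers_le]
      exact y.2
    · rw [hS, Nat.card_zpowers, hyord]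
  have hCS : centralizer ((S : Subgroup G) : Set G) = (S : Subgroup G) := by
    rw [← hSz]
    have h5 := hC _ hyord
    apply le_antisymm
    · have h6 : centralizer ((zpowers (y : G) : Subgroup G) : Set G) ≤
          centralizer ({(y : G)} : Set G) := by
        apply Subgroup.centralizer_le
        intro a ha
        rw [Set.mem_singleton_iff] at ha
        subst ha
        exact Subgroup.mem_zpowers _
      rw [h5] at h6
      exact h6
    · intro a ha
      rw [mem_centralizer_iff]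
      intro c hc
      obtain ⟨k, rfl⟩ := Subgroup.mem_zpowers_iff.1 ha
      obtain ⟨l, rfl⟩ := Subgroup.mem_zpowers_iff.1 hc
      exact ((Commute.refl (y : G)).zpow_zpow _ _).eq
  have hCN : centralizer ((S : Subgroup G) : Set G) ≤ normalizer ((S : Subgroup G) : Set G) :=
    Subgroup.centralizer_le_normalizer _
  set N := normalizer ((S : Subgroup G) : Set G) with hN
  set C := centralizer ((S : Subgroup G) : Set G) with hCdef
  have hCc : Nat.card C = s := by rw [hCS, hS]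
  have hNcard : Nat.card N = s * C.relIndex N := by
    have h1 := Subgroup.card_mul_index (C.subgroupOf N)
    have h2 : Nat.card (C.subgroupOf N) = Nat.card C :=
      Nat.card_congr (Subgroup.subgroupOfEquivOfLe hCN).toEquiv
    rw [h2, hCc] at h1
    rw [Subgroup.relIndex]
    exact h1.symm
  refine ⟨S, Nat.card (Sylow s G), C.relIndex N, hS, card_sylow_modEq_one s G, ?_, ?_, hNcard⟩
  · have key := Subgroup.card_dvd_of_injective _
      (QuotientGroup.kerLift_injective (S : Subgroup G).normalizerMonoidHom)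
    rw [Subgroup.normalizerMonoidHom_ker, ← Subgroup.index_eq_card, ← Subgroup.relIndex] at key
    haveI : IsCyclic (S : Subgroup G) := isCyclic_of_prime_card hS
    rw [IsCyclic.card_mulAut, hS, Nat.totient_prime hs] at key
    exact key
  · have h1 : Nat.card (Sylow s G) = N.index := Sylow.card_eq_index_normalizer S
    have h2 := Subgroup.card_mul_index N
    rw [hNcard, ← h1, hcard] at h2
    have h3 : s * (Nat.card (Sylow s G) * C.relIndex N) = s * (3 * 2 ^ b) := by
      calc s * (Nat.card (Sylow s G) * C.relIndex N)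
          = s * C.relIndex N * Nat.card (Sylow s G) := by ring
        _ = 3 * 2 ^ b * s := h2
        _ = s * (3 * 2 ^ b) := by ring
    exact Nat.eq_of_mul_eq_mul_left hs.pos h3

theorem case_A_arith {s b i n d : ℕ} (hi : 1 ≤ i) (hs : s = 2 ^ i + 1) (hn : n ≡ 1 [MOD s])
    (hd : d ∣ s - 1) (hnd : n * d = 3 * 2 ^ b) : i = 2 := by
  have hd' : d ∣ 2 ^ i := by
    rw [hs] at hd
    simpa using hd
  obtain ⟨f, hf, rfl⟩ := (Nat.dvd_prime_pow Nat.prime_two).1 hd'
  have hc : Nat.Coprime 3 (2 ^ f) := Nat.Coprime.pow_right _ (by norm_num)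
  have h3 : 3 ∣ n := by
    have h4 : 3 ∣ n * 2 ^ f := by
      rw [hnd]
      exact dvd_mul_right _ _
    exact hc.dvd_of_dvd_mul_right h4
  obtain ⟨k, rfl⟩ := h3
  have hk : k * 2 ^ f = 2 ^ b := by
    have : 3 * (k * 2 ^ f) = 3 * 2 ^ b := by rw [← hnd]; ring
    exact Nat.eq_of_mul_eq_mul_left (by norm_num) this
  obtain ⟨r, hr, rfl⟩ := (Nat.dvd_prime_pow Nat.prime_two).1 (Dvd.intro _ hk)
  exact fermat_nat hi hs hn

theorem case_B_arith {s b i n d : ℕ} (hi : 3 ≤ i) (hs : s + 1 = 2 ^ i) (hn : n ≡ 1 [MOD s])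
    (hd : d ∣ s - 1) (hnd : n * d = 3 * 2 ^ b) :
    3 ∣ d ∧ ∃ r, (r = b ∨ r + 1 = b) ∧ 2 ^ r % s = 1 % s := by
  have h3n : ¬ 3 ∣ n := by
    intro h3
    obtain ⟨k, rfl⟩ := h3
    have hk : k * d = 2 ^ b := by
      have : 3 * (k * d) = 3 * 2 ^ b := by rw [← hnd]; ring
      exact Nat.eq_of_mul_eq_mul_left (by norm_num) this
    obtain ⟨r, hr, rfl⟩ := (Nat.dvd_prime_pow Nat.prime_two).1 (Dvd.intro _ hk)
    exact mersenne_nat (by omega) hs hn
  have h3d : 3 ∣ d := by
    have h4 : 3 ∣ n * d := by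
      rw [hnd]
      exact dvd_mul_right _ _
    exact (Nat.prime_three.dvd_mul.1 h4).resolve_left h3n
  have hn2 : n ∣ 2 ^ b := by
    have hc : Nat.Coprime n 3 := ((Nat.Prime.coprime_iff_not_dvd Nat.prime_three).2 h3n).symm
    exact hc.dvd_of_dvd_mul_left (Dvd.intro _ hnd)
  obtain ⟨r, hr, rfl⟩ := (Nat.dvd_prime_pow Nat.prime_two).1 hn2
  refine ⟨h3d, r, ?_, hn⟩
  have hdeq : d = 3 * 2 ^ (b - r) := by
    have h5 : 2 ^ r * d = 2 ^ r * (3 * 2 ^ (b - r)) := by
      rw [hnd]
      have : 2 ^ b = 2 ^ r * 2 ^ (b - r) := by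
        rw [← pow_add]
        congr 1
        omega
      rw [this]
      ring
    exact Nat.eq_of_mul_eq_mul_left (by positivity) h5
  by_contra hcon
  have h6 : 2 ≤ b - r := by
    push Not at hcon
    omega
  have h4 : 4 ∣ d := by
    rw [hdeq]
    have : 4 ∣ 2 ^ (b - r) := pow_dvd_pow 2 h6
    exact this.trans (dvd_mul_left _ _)
  have h4' : 4 ∣ s - 1 := h4.trans hd
  have h7 : 4 ∣ 2 ^ i := pow_dvd_pow 2 (by omega : 2 ≤ i)
  omega

theorem hnorm_of {P : Subgroup G} {x₀ : G} (hx₀ : orderOf x₀ = 3)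
    (hx₀N : x₀ ∈ normalizer (P : Set G)) (h9 : ¬ 9 ∣ Nat.card G) (x : G) (hx : orderOf x = 3) :
    ∃ P' : Subgroup G, Nat.card P' = Nat.card P ∧ x ∈ normalizer (P' : Set G) := by
  classical
  haveI : Fact (Nat.Prime 3) := ⟨Nat.prime_three⟩
  have hgen : ∀ y : G, orderOf y = 3 → ∃ S : Sylow 3 G, (S : Subgroup G) = zpowers y := by
    intro y hy
    have hc : Nat.card (zpowers y) = 3 ^ 1 := by rw [Nat.card_zpowers, hy, pow_one]
    have hi : ¬ 3 ∣ (zpowers y).index := by
      intro h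
      apply h9
      rw [← Subgroup.card_mul_index (zpowers y), hc, pow_one, show 9 = 3 * 3 by norm_num]
      exact mul_dvd_mul_left _ h
    exact ⟨(IsPGroup.of_card hc).toSylow hi, IsPGroup.toSylow_coe _ _⟩
  obtain ⟨S₀, hS₀⟩ := hgen x₀ hx₀
  obtain ⟨S₁, hS₁⟩ := hgen x hx
  obtain ⟨g, hg⟩ := MulAction.exists_smul_eq G S₀ S₁
  have hx1 : x ∈ g • S₀ := by
    rw [hg]
    change x ∈ (S₁ : Subgroup G)
    rw [hS₁]
    exact Subgroup.mem_zpowers x
  rw [Cfsg.Agent.Lib.InvolutionFusion2.mem_smul_sylow_iff] at hx1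
  have hx2 : g⁻¹ * x * g ∈ normalizer (P : Set G) := by
    have h1 : g⁻¹ * x * g ∈ (S₀ : Subgroup G) := hx1
    rw [hS₀] at h1
    have h2 : zpowers x₀ ≤ normalizer (P : Set G) := by
      rw [Subgroup.zpowers_le]
      exact hx₀N
    exact h2 h1
  let f : G →* G := (MulAut.conj g).toMonoidHom
  have hf : Function.Injective f := (MulAut.conj g).injective
  refine ⟨P.map f, Subgroup.card_map_of_injective hf, ?_⟩
  apply Subgroup.le_normalizer_map f
  refine ⟨g⁻¹ * x * g, hx2, ?_⟩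
  simp [f, MulAut.conj_apply]
  group

theorem not_cyclic (hna : ∃ x y : G, x * y ≠ y * x) : ¬ IsCyclic G := by
  intro h
  obtain ⟨x, y, hxy⟩ := hna
  exact hxy ((IsCyclic.commGroup (α := G)).mul_comm x y)

theorem hmax_or_index [IsSimpleGroup G] (hna : ∃ x y : G, x * y ≠ y * x) {s b : ℕ} (hs : s.Prime)
    (hs2 : s ≠ 2) (hs3 : s ≠ 3) (hcard : Nat.card G = 3 * 2 ^ b * s) (T : Sylow 2 G)
    (hTc : Nat.card (T : Subgroup G) = 2 ^ b) :
    (∃ M : Subgroup G, M ≠ ⊤ ∧ M.index = s) ∨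
      (∀ H : Subgroup G, (T : Subgroup G) ≤ H → H = (T : Subgroup G) ∨ H = ⊤) := by
  classical
  by_cases hM : ∃ M : Subgroup G, M ≠ ⊤ ∧ M.index = s
  · exact Or.inl hM
  right
  intro H hH
  have hcomm' : ¬ IsMulCommutative G := by
    intro hc
    obtain ⟨x, y, hxy⟩ := hna
    exact hxy (hc.is_comm.comm x y)
  have hT : (T : Subgroup G).index = 3 * s := by
    have h1 := Subgroup.card_mul_index (T : Subgroup G)
    rw [hTc, hcard] at h1
    have h2 : 2 ^ b * (T : Subgroup G).index = 2 ^ b * (3 * s) := by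
      rw [h1]
      ring
    exact Nat.eq_of_mul_eq_mul_left (by positivity) h2
  have h1 : H.index ∣ 3 * s := by
    rw [← hT]
    exact Subgroup.index_dvd_of_le hH
  have hdiv : H.index = 1 ∨ H.index = 3 ∨ H.index = s ∨ H.index = 3 * s := by
    obtain ⟨d₁, d₂, hd₁, hd₂, hdd⟩ := exists_dvd_and_dvd_of_dvd_mul h1
    rcases (Nat.dvd_prime Nat.prime_three).1 hd₁ with rfl | rfl <;>
      rcases (Nat.dvd_prime hs).1 hd₂ with rfl | rfl <;> simp [hdd]
  have hne3 : H.index = 3 → H ≠ ⊤ := by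
    rintro h rfl
    simp at h
  rcases hdiv with h | h | h | h
  · right
    exact Subgroup.index_eq_one.1 h
  · exfalso
    obtain ⟨f, hf⟩ := Cfsg.Agent.S0494.embed_of_index hcomm' H 3 h (hne3 h)
    have h2 := Subgroup.card_dvd_of_injective f hf
    rw [nat_card_alternatingGroup] at h2
    simp [Nat.factorial] at h2
    rw [hcard] at h2
    have h3 := Nat.le_of_dvd (by norm_num) h2
    have h4 : 1 ≤ 2 ^ b := Nat.one_le_two_pow
    have h5 := hs.two_le
    nlinarith
  · exfalso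
    apply hM
    refine ⟨H, ?_, h⟩
    rintro rfl
    simp at h
    exact hs.one_lt.ne h
  · left
    apply le_antisymm _ hH
    apply le_of_eq
    symm
    apply Subgroup.eq_of_le_of_card_ge hH
    have h2 := Subgroup.card_mul_index H
    rw [h, hcard] at h2
    have h3 : Nat.card H * (3 * s) = 2 ^ b * (3 * s) := by
      rw [h2]
      ring
    have h4 := Nat.eq_of_mul_eq_mul_right (by have := hs.pos; positivity) h3
    rw [h4, hTc]

theorem alt_five_of_index [IsSimpleGroup G] (hna : ∃ x y : G, x * y ≠ y * x) {M : Subgroup G}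
    (hne : M ≠ ⊤) (hi : M.index = 5) : Nonempty (G ≃* alternatingGroup (Fin 5)) := by
  classical
  have hcomm' : ¬ IsMulCommutative G := by
    intro hc
    obtain ⟨x, y, hxy⟩ := hna
    exact hxy (hc.is_comm.comm x y)
  obtain ⟨f, hf⟩ := Cfsg.Agent.S0494.embed_of_index hcomm' M 5 hi hne
  have h2 := Subgroup.card_dvd_of_injective f hf
  rw [nat_card_alternatingGroup] at h2
  simp [Nat.factorial] at h2
  have h3 := Nat.le_of_dvd (by norm_num) h2
  exact Cfsg.Agent.S0494.result (Cfsg.Agent.S0493.result (not_cyclic hna) (by omega))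

theorem psl_of_index [IsSimpleGroup G] (hna : ∃ x y : G, x * y ≠ y * x) {s b i : ℕ} (hs : s.Prime)
    (hi3 : 3 ≤ i) (hib : i ≤ b) (hss : s + 1 = 2 ^ i) (hcard : Nat.card G = 3 * 2 ^ b * s)
    {M : Subgroup G} (hne : M ≠ ⊤) (hM : M.index = s) :
    Nonempty (G ≃* Matrix.ProjectiveSpecialLinearGroup (Fin 2) (ZMod 7)) := by
  classical
  have hcomm' : ¬ IsMulCommutative G := by
    intro hc
    obtain ⟨x, y, hxy⟩ := hna
    exact hxy (hc.is_comm.comm x y)
  haveI : Finite (G ⧸ M) := inferInstance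
  haveI : Fintype (G ⧸ M) := Fintype.ofFinite _
  let φ : G →* Equiv.Perm (G ⧸ M) := MulAction.toPermHom G (G ⧸ M)
  have hφ : Function.Injective φ := by
    rw [← MonoidHom.ker_eq_bot_iff]
    have hk : φ.ker.Normal := MonoidHom.normal_ker _
    refine hk.eq_bot_or_eq_top.resolve_right fun h => hne ?_
    rw [eq_top_iff]
    intro g _
    have hg : g ∈ φ.ker := by rw [h]; trivial
    have h1 : φ g (QuotientGroup.mk 1) = QuotientGroup.mk 1 := by
      rw [MonoidHom.mem_ker.1 hg]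
      rfl
    have h2 : (QuotientGroup.mk (g * 1) : G ⧸ M) = QuotientGroup.mk 1 := h1
    rw [QuotientGroup.eq] at h2
    simpa using h2
  let H : Subgroup (Equiv.Perm (G ⧸ M)) := φ.range
  haveI : MulAction.IsPretransitive H (G ⧸ M) := by
    constructor
    intro a c
    obtain ⟨g, hg⟩ := MulAction.exists_smul_eq G a c
    exact ⟨⟨φ g, ⟨g, rfl⟩⟩, hg⟩
  have hcardα : Fintype.card (G ⧸ M) = s := by
    rw [← Nat.card_eq_fintype_card, ← Subgroup.index_eq_card, hM]
  have hα : (Fintype.card (G ⧸ M)).Prime := by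
    rw [hcardα]
    exact hs
  have hHcard : Nat.card H = Nat.card G := by
    symm
    exact Nat.card_congr (MonoidHom.ofInjective hφ).toEquiv
  rcases Cfsg.Agent.S0675.result hα H with hsol | h2t
  · exfalso
    apply not_solvable hna
    have : Function.Injective φ.rangeRestrict := φ.rangeRestrict_injective_iff.2 hφ
    exact Group.isSolvable_of_isSolvable_injective this
  · -- doubly transitive
    have hs2le : 2 ≤ s := hs.two_le
    have hne2 : Nonempty (Fin 2 ↪ (G ⧸ M)) :=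
      Function.Embedding.nonempty_of_card_le (by simp [hcardα, hs2le])
    obtain ⟨x⟩ := hne2
    have h3 := @MulAction.index_stabilizer_of_transitive H (Fin 2 ↪ (G ⧸ M)) _ _ x h2t
    have h4 : Nat.card (Fin 2 ↪ (G ⧸ M)) = s * (s - 1) := by
      rw [Nat.card_eq_fintype_card, Fintype.card_embedding_eq, hcardα]
      simp [Nat.descFactorial]
      ring
    have h5 : s * (s - 1) ∣ Nat.card G := by
      rw [← h4, ← h3, ← hHcard]
      exact Subgroup.index_dvd_card _
    rw [hcard, mul_comm (3 * 2 ^ b) s] at h5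
    have h6 : s - 1 ∣ 3 * 2 ^ b := Nat.dvd_of_mul_dvd_mul_left hs.pos h5
    -- `s - 1 = 2 (2 ^ (i - 1) - 1)`
    obtain ⟨i', rfl⟩ : ∃ i', i = i' + 1 := ⟨i - 1, by omega⟩
    have hp : 2 ^ (i' + 1) = 2 * 2 ^ i' := by ring
    have h7 : 2 ^ i' - 1 ∣ s - 1 := by
      refine ⟨2, ?_⟩
      have h8 : 1 ≤ 2 ^ i' := Nat.one_le_two_pow
      omega
    have h9 : 2 ^ i' - 1 ∣ 3 * 2 ^ b := h7.trans h6
    have hodd : Nat.Coprime (2 ^ i' - 1) (2 ^ b) := by
      apply Nat.Coprime.pow_right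
      rw [Nat.coprime_two_right]
      have h8 : 2 ≤ 2 ^ i' := by
        calc 2 = 2 ^ 1 := by norm_num
          _ ≤ 2 ^ i' := Nat.pow_le_pow_right (by norm_num) (by omega)
      have h10 : 2 ∣ 2 ^ i' := dvd_pow_self 2 (by omega)
      obtain ⟨u, hu⟩ := h10
      exact ⟨u - 1, by omega⟩
    have h10 : 2 ^ i' - 1 ∣ 3 := hodd.dvd_of_dvd_mul_right h9
    have h11 := Nat.le_of_dvd (by norm_num) h10
    have h12 : i' ≤ 2 := by
      by_contra hc
      have : 2 ^ 3 ≤ 2 ^ i' := Nat.pow_le_pow_right (by norm_num) (by omega)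
      omega
    have h13 : i' = 2 := by omega
    subst h13
    have hs7 : s = 7 := by omega
    subst hs7
    obtain ⟨f, hf⟩ := Cfsg.Agent.S0494.embed_of_index hcomm' M 7 hM hne
    have h14 := Subgroup.card_dvd_of_injective f hf
    rw [nat_card_alternatingGroup] at h14
    simp [Nat.factorial] at h14
    rw [hcard] at h14
    have hb3 : b = 3 := by
      by_contra hc
      have h15 : 2 ^ 4 ∣ 2 ^ b := pow_dvd_pow 2 (by omega)
      have h16 : 2 ^ 4 ∣ 3 * 2 ^ b * 7 := (h15.trans (dvd_mul_left _ _)).trans (dvd_mul_right _ _)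
      have h17 : 16 ∣ 2520 := h16.trans h14
      omega
    subst hb3
    haveI : Fact (Nat.Prime 7) := ⟨hs⟩
    exact Cfsg.Agent.S0495.result (by rw [hcard]; norm_num) (by simp [ZMod.card])

/-- The main theorem for order `3 · 2^b · s^e`, `e ≤ 2`. -/
theorem main_case [IsSimpleGroup G] (hna : ∃ x y : G, x * y ≠ y * x) {s b e : ℕ} (hs : s.Prime)
    (hs2 : s ≠ 2) (hs3 : s ≠ 3) (he : e ≤ 2) (hcard : Nat.card G = 3 * 2 ^ b * s ^ e) :
    Nonempty (G ≃* alternatingGroup (Fin 5)) ∨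
      Nonempty (G ≃* Matrix.ProjectiveSpecialLinearGroup (Fin 2) (ZMod 7)) := by
  classical
  haveI : Fintype G := Fintype.ofFinite G
  haveI : Fact (Nat.Prime 3) := ⟨Nat.prime_three⟩
  haveI : Fact (Nat.Prime 2) := ⟨Nat.prime_two⟩
  haveI : Fact s.Prime := ⟨hs⟩
  have hs2' : Nat.Coprime 2 s := (Nat.coprime_primes Nat.prime_two hs).2 hs2.symm
  have hs3' : Nat.Coprime 3 s := (Nat.coprime_primes Nat.prime_three hs).2 hs3.symm
  have h3m : ¬ 3 ∣ 2 ^ b * s ^ e := by
    intro h
    rcases Nat.prime_three.dvd_mul.1 h with h5 | h5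
    · have := (Nat.prime_dvd_prime_iff_eq Nat.prime_three Nat.prime_two).1
        (Nat.prime_three.dvd_of_dvd_pow h5)
      omega
    · exact hs3 ((Nat.prime_dvd_prime_iff_eq Nat.prime_three hs).1
        (Nat.prime_three.dvd_of_dvd_pow h5)).symm
  have h9 : ¬ 9 ∣ Nat.card G := by
    intro h
    rw [hcard, mul_assoc, show 9 = 3 * 3 by norm_num] at h
    exact h3m (Nat.dvd_of_mul_dvd_mul_left (by norm_num) h)
  obtain ⟨X, hX⟩ := exists_sylow_card (G := G) (p := 3) (n := 1) (m := 2 ^ b * s ^ e)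
    (by rw [hcard]; ring) h3m
  rw [pow_one] at hX
  have hX1 : (X : Subgroup G) ≠ ⊥ := by
    intro h
    rw [h, Subgroup.card_bot] at hX
    omega
  have hnc : ¬ normalizer ((X : Subgroup G) : Set G) ≤ centralizer ((X : Subgroup G) : Set G) :=
    fun h => false_of_normalizer_le hna X h hX1
  obtain ⟨t, ht, htc⟩ := SetLike.not_le_iff_exists.1 hnc
  obtain ⟨α, β, hα1, hβ1, hαβ, hd, hΨ⟩ := exists_alpha_beta X hX ht htc
  obtain ⟨h31, h32⟩ := not_three_dvd_degree hαβ hα1 hβ1 hΨ h9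
  obtain ⟨i, hi1, hib, hsi, χ, hχ, hχne, hχd⟩ :=
    degree_shape hna hs hs2 hs3 he hcard α.2 β.2 hα1 hβ1 hd h31 h32
  have he1 : e = 1 := exp_eq_one hna hs hs2 hs3 he hcard hχ hχne hχd
  subst he1
  rw [pow_one] at hcard
  have h5s : 5 ≤ s := by
    have := hs.two_le
    by_contra hc
    have : s = 4 := by omega
    subst this
    revert hs
    norm_num
  have hidx : ¬ s ∣ Nat.card G / s := by
    have h1 : Nat.card G / s = 3 * 2 ^ b := by
      rw [hcard, Nat.mul_div_cancel _ hs.pos]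
    rw [h1]
    intro h
    rcases (hs.dvd_mul).1 h with h5 | h5
    · exact hs3 ((Nat.prime_dvd_prime_iff_eq hs Nat.prime_three).1 h5)
    · exact hs2 ((Nat.prime_dvd_prime_iff_eq hs Nat.prime_two).1 (hs.dvd_of_dvd_pow h5))
  have hC : ∀ y : G, orderOf y = s → centralizer ({y} : Set G) = zpowers y :=
    fun y hy => centralizer_eq_zpowers hna hχ hχne hs hχd hidx hy
  obtain ⟨P, n, d, hPc, hn, hd', hnd, hNc⟩ := sylow_s_data hs hs2 hs3 hcard hC
  have h23s : ¬ 2 ∣ 3 * s := by
    intro h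
    rcases Nat.prime_two.dvd_mul.1 h with h5 | h5
    · omega
    · exact hs2 ((Nat.prime_dvd_prime_iff_eq Nat.prime_two hs).1 h5).symm
  obtain ⟨T, hTc⟩ := exists_sylow_card (G := G) (p := 2) (n := b) (m := 3 * s)
    (by rw [hcard]; ring) h23s
  rcases hsi with hA | hB
  · have hi2 : i = 2 := case_A_arith hi1 hA hn hd' hnd
    subst hi2
    have hs5 : s = 5 := by omega
    subst hs5
    left
    rcases hmax_or_index hna hs hs2 hs3 hcard T hTc with ⟨M, hne, hM⟩ | hmax
    · exact alt_five_of_index hna hne hM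
    · exact (not_case_A hs hcard T hTc hmax hib rfl).elim
  · have hi3 : 3 ≤ i := by
      by_contra hc
      have h3 : i ≤ 2 := by omega
      have : 2 ^ i ≤ 2 ^ 2 := Nat.pow_le_pow_right (by norm_num) h3
      omega
    obtain ⟨h3d, hr⟩ := case_B_arith hi3 hB hn hd' hnd
    rcases hmax_or_index hna hs hs2 hs3 hcard T hTc with ⟨M, hne, hM⟩ | hmax
    · right
      exact psl_of_index hna hs hi3 hib hB hcard hne hM
    · exfalso
      have h3N : 3 ∣ Nat.card (normalizer (P : Set G)) := by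
        rw [hNc]
        exact h3d.trans (dvd_mul_left _ _)
      obtain ⟨x₀, hx₀⟩ := exists_prime_orderOf_dvd_card' (G := normalizer (P : Set G)) 3 h3N
      have hx₀' : orderOf (x₀ : G) = 3 := by
        rw [Subgroup.orderOf_coe]
        exact hx₀
      have hnorm : ∀ x : G, orderOf x = 3 →
          ∃ P' : Subgroup G, Nat.card P' = s ∧ x ∈ normalizer (P' : Set G) := by
        intro x hx
        obtain ⟨P', hP', hxP'⟩ := hnorm_of hx₀' x₀.2 h9 x hx
        exact ⟨P', hP'.trans hPc, hxP'⟩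
      have h8 : ¬ 8 ∣ 3 * s - 1 := by
        intro h8
        have h7 : 8 ∣ 2 ^ i := pow_dvd_pow 2 hi3
        omega
      exact not_case_B hna hs hs2 hs3 hcard (by omega) T hTc hmax (by omega) h8 hr hnorm hC

end Cfsg.Agent.Lib.S4501Two9
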