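import Mathlib
import Cfsg.Agent.Lib.OutTreeA36

/-!
# A finite lemma on the binary Golay cocode: the orbit of a point under a linear transitive group

`V` is `𝔽₂¹¹` with the `XOR`, the points form the frame of the perfect Golay code. If a group `N` of linear permutations of `V` is transitive on a
subset `D ∋ d`, preserves `D`, its stabiliser of `d` contains `M₂₂` and preserves the `22` points, then `D` is `{d}`, or `d` with the
`22` points, or `d` with their translates by `d`.
-/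

set_option autoImplicit false
set_option maxRecDepth 1000000
set_option linter.all false

namespace Cfsg.Agent.Lib.S55

open Cfsg.Agent.Lib.OutTree36 Finset

/-- The rows of the three generators. -/
def rowsL : ℕ → List ℕ
  | 0 => [1, 1769, 622, 16, 8, 1491, 64, 128, 512, 256, 1024]
  | 1 => [1, 1357, 791, 8, 427, 984, 1934, 1769, 128, 4, 1024]
  | _ => [64, 245, 4, 1357, 1087, 1491, 1, 427, 256, 512, 1024]

def STG : ℕ := nat_lit 0x5aa9565596665656a96595a69995a555a9a59956a6995a65955699995a5699995595aa5a5595a6a9aa5595955a9965965a595999565555956996a555966aa96559555a6965655955959956a9996669956a6956556595a695a65566995955a55569956699565559a56555566599a59656555a5565656955a5995aa95a95955595599a59696565aa5995556596a5a9669995a5955595995599655666a5699699a5565955659a55aa699596566a6666a565aa9a956a5a65a59965a56695559999599a955559695aa69699559a65565556566aa6999559656a9aa566595955596969695995669695555a965a5556696996ae5aa666595959aa555a95556a56aa955f65655a659656565665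65a5a69aa56599aa6599556a96965a96569a655656996965a66a56599956a9a999959a5a9a6556a9966556665559a56595a6665565a5555965596965556566a9a555a99666599a5a6956596996a5565565a69a9aa5a6596969a6a556565665955a9a955655a6666699656565665555655a969a65a9555555695955555a96a59559559595656aa655959a99a59a6595569566966a95a66596aa696659559a959556955956a6a5659655955a595aa99969a95599559969595a99555955a9a56955699a695599659a55665a595955569666a55659aaa569695595a566995a5556565a99a65959966e5995555955696a55599969aaa66ad55f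

def CLG : ℕ := nat_lit 0xbb6db5db4db6db6da69b6d76db5d6bdb69b5d36db5daedb6da6db6db6d2ed36bb6db5db6d36db5bb6db68b4d36d36da6db49b6d22db4d76db6db4daedb6db5bb4db6da6bb6db6d36db6d76bb4db6daedb4db69b6bb6da676ebb6d36db6bb6db5db6da6daed36d66994db6da69b6db5d76db6db6da6db4bb6db5d36d368b4db6da6bb6d36db6bb6da6d36d2edb6db6db5d76db6db4bb6af5d66d76db6daed36db6da6d76db69b6db59b6daedb6d36d76db6da6db5db4db6bb6db5db69b5db5d6bd36db6dae9b6db5bb6db6db4db69b59b6526da6db6d769b6db6bb4d76db6bb676eda6bb6daedb6db49b6d36bb6db6db5db6daedb4d76da6d36bb6db6d66db6db69b6994da6da6db59b5db6db6da6db6bb6d36db5db6d36bb6db5da6db5db5d6bdaed76b9ddaedb6da6d2edb6db4db6dae9b6bb6d36db6db59b6db6daed36db4bb6db6db5d76da6db6db5db6db59b5d6b9b6db4daedb6d76db6db69b5db6bb6d36db5da6db5db5d6b5269b69b6db59b6db5db5d6b9b6db5db5d6bdb5d6bd6bad99b6db4db5db6db6daebb6d36db4d22db6bb4d76db4da6db6daedb6db6d66d769b6db4db6d76db49b6db6af5d76d76daedb5bb6d6bdb5d36db6db5da6db6db49b5db6dae9b6db6d76db6d369b5db6da6db5db6bb69b6dae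5269b6d76db69b6db4db6daeda6d76d2eb9ddb6daebb6db4d36db6db6daedb59b6db4d76d76af5db6dae9b6d76db69b6daed76d66db6db6db4d36db6db59b68b4d2ed36db6da6d76db6daed36db6bb6db4bb6da6db6d76d36db6daedb4db5db69b6db4db6bb4db4d22d76db6da6bb6db49b6db6db5db6bb4bb676edaedb6d36bb6db69b5d36db69b6526dae9b6da6db6db5bb6d769b6db6db4db6da6db5d36daed769b6db6d2edb6db6bb6b9ddaedaedb4bb4db6db6daedb69b6d76db4db6d769b6db4daedb4db4d22da6d36994da6db6daed66db6db5db6da6bb69b6d76db6db4bb6db6da6d76db59b6db6db4d36daedb6db4db6db4bb4d22bb6db5da6db6d36db6db6bb4db69b6d76db4daedb4db4d2276ebb6bb6db4bb6db4db4d22bb6db4db4d22db4d22d22890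

def STD : ℕ := nat_lit 0x545515445555515045555555555545555040550501055555540505050551545515515050554445551545004155541405155055111015555455055555045151454455155055505505045054511445450105515555115050054454505550101040504500555550545505510455041504555555155455555545400051455400505001451551155051555555555505455554500005555155155545511505010414451145005145555411554450545555451550451150555451104105555550505005400555101515504110055004050515555510055405554410051511105505000550504050545511551505505540455055000151400540550055055005150055ff5145551554005554155541555440554510455100000015110055545105545405455500555054155551150554555145055454555550151451505555015404055515055555555055555010044545554551500454555450005150544054001440455115505555555445500455450155014055054155555015554555545511055500055055555555110054555555555551541100015400555555455115010551450551405055455455155551115105504055005144501155051054545150405015051001055510555511104545540101040504515554455101155045115514550055554510400504445555055405055510550005500055404500f15540057050f5ff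

def CLD : ℕ := nat_lit 0xcbaaaabcaa98aaaaaaaaaa8989aabcaaaabcbc75aaaa89bc98aaaabcaacbaaaaaa89aaaaaaaa98cb98aacbaaaabcaaaa98aaaabccbaaaaaa649898aa98aaaa89aa9889aa9864aa98bcaaaaaaaa98aacbaaaaaabccb98aaaaaa89cbaaaaaa98aaaaaabcaacb98aaaaaacbaa98aaaa89aacbaaaa8957cbcbaa98aaaaaacbaaaabcaaaaaa89aacb98aabc898946aaaaaa8989aaaabcbcaaaaaaaaaaaa89aa98cbaaaabc98aa98aa6498aaaaaa89cbaa98aaaaaacbaaaa8998aa98cbaaaaaaaaaabcbcaaaaaaaa98cbaa75bcbc89bcaaaaaaaacb98aaaaaaaa89bcaaaaaa89aaaabc89aaaacbaaaa98aabcaaaaaaaa89aabcaa98aaaacbaaaabcaaaa89bcaabcbc7598aaaaaaaacb89aaaabccbaaaaaaaa98aaaa89bc89aa4689aa89aaaabcaa89aaaaaacb98bcaaaaaacbaa57cbaa89cbaaaacbaaaaaa9889aa98aacbaaaaaaaabcaaaaaacbaa98bcaaaa8998aacbaaaaaabc89aaaaaaaa89aa8946aa89aa89aabc89bcaaaaaaaaaa89aaaacbaa98aaaabcaaaa98aacbaaaabcaa89aabcaabcbc75aacbbcaacb57aacbaaaaaa8998cbaaaaaa98aaaaaacb89aacbaa98aaaaaaaabc89aaaaaaaacb98aaaa98cbaaaaaaaabcbcaaaa89aaaaaabcaaaaaabc89bcbc7589aaaa98aacbaaaabcaaaaaaaaaa89bcaaaacbaa98aaaa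bcaa89aabcaabcbc75468989aa89aaaabc89aaaabcaabcbc7589aaaabcaabcbc75aabcbc75bc75753289aaaa98aabcaaaaaaaaaacbcbaa98aaaa989864aaaacb98bcaaaa98aa89aaaaaacbaaaaaaaabc89bcaa89aaaa98aaaabcaaaa9889aaaaaa75bcbcaabcaaaacbaabccbaabc75aabc98aaaaaaaabcaa89aaaaaa9889bcaaaaaacb89aaaaaabcaaaaaa98aa89bcaaaaaa89aabcaaaacbaa89aaaacb468989aabcaaaaaa89aaaa98aaaaaacbaa89bcaa98cbcb57aaaaaacbcbaaaa9898aaaaaaaaaaaacbaabc89aaaa98bcaabcaa75bcaaaaaacb89aabcaaaaaa89aaaacbbcaabc89aaaaaaaaaa9898aaaaaaaabc89aa649898cb98aaaaaaaa89bcaaaaaaaacb98aaaaaacbaaaa98cbaaaa89aaaabcaa98aaaaaaaacbaa98aabcaaaa89aaaa98aaaacb98aa989864bcaaaaaaaa89cbaaaa9889aaaaaaaabcaaaacb98cbaa57cbaacbaaaa98aacbaaaaaa89bc98aaaaaa89aa4689aacb89aaaa89aaaaaabccbaabcaa89aaaaaaaa98aaaaaa89aabc98aaaacbbcaa89aaaaaa98cbaaaaaaaacbaacb57aacbaacbaa98cb98aaaaaaaaaacbaaaa89aabcaaaa98aaaabcaa89aaaa98aacbaa98aa989864aa8998aa8946aa89aaaaaacbbc89aaaaaabcaaaaaa89cbaa89aabcaaaaaaaa98cbaaaaaaaa89bcaaaabc89aaaaaaaa9898aaaacbaaaaaa98aaaaaa98cb989864cbaaaabcaa89aaaa98aaaaaaaaaacb98aaaa89aabcaaaa98aacbaa98aa98986457cbcbaacbaaaa98cbaaaa98aa989864cbaaaa98aa989864aa98986498646410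

def repGL : List ℕ := [0, 1024, 1, 1025, 65, 1089, 7]

def repDL : List ℕ := [0, 1, 1024, 1025, 2, 1026, 3, 1027, 6, 7, 14, 30, 31]

def KG : ℕ := 21

def KD : ℕ := 20

def XXL : List ℕ := [1, 2, 4, 8, 16, 32, 64, 128, 256, 512, 622, 1714, 1908, 791, 984, 1934, 1491, 1769, 245, 427, 1087, 1357]

def QL : List ℕ := [2, 4, 8, 16, 32, 64, 128, 256, 512, 622, 1714, 1908, 791, 984, 1934, 1491, 1769, 245, 427, 1087, 1357]

/-- The vector space. -/
abbrev V := Fin 2048

theorem xor_lt (a b : V) : a.1 ^^^ b.1 < 2048 := Nat.xor_lt_two_pow (n := 11) a.2 b.2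

/-- The sum. -/
def xr (a b : V) : V := ⟨a.1 ^^^ b.1, xor_lt a b⟩

instance : Std.Commutative xr := ⟨fun a b => Fin.ext (Nat.xor_comm _ _)⟩
instance : Std.Associative xr := ⟨fun a b c => Fin.ext (Nat.xor_assoc _ _ _)⟩

/-- The zero. -/
def v0 : V := ⟨0, by norm_num⟩
/-- The vector `d`. -/
def dd : V := ⟨1024, by norm_num⟩
/-- The point `p`. -/
def p0 : V := ⟨1, by norm_num⟩
/-- The point `q`. -/
def q0 : V := ⟨64, by norm_num⟩
/-- The vector `dp`. -/
def dp0 : V := ⟨1025, by norm_num⟩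
/-- The vector `pq`. -/
def y0 : V := ⟨65, by norm_num⟩

theorem xr_self (a : V) : xr a a = v0 := Fin.ext (Nat.xor_self _)

/-- From a number. -/
def toV (n : ℕ) : V := ⟨n % 2048, Nat.mod_lt _ (by norm_num)⟩

theorem toV_val (a : V) : toV a.1 = a := Fin.ext (Nat.mod_eq_of_lt a.2)

/-- A finite set from a list. -/
def lF (l : List ℕ) : Finset V := (l.map toV).toFinset

/-- The points. -/
def XX : Finset V := lF XXL
/-- The translates of the points. -/
def dXX : Finset V := lF (XXL.map (fun x => x ^^^ 1024))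
/-- The points other than `p`. -/
def QQ : Finset V := lF QL
/-- Translates. -/
def dQ : Finset V := lF (QL.map (fun x => x ^^^ 1024))
/-- Translates. -/
def pQ : Finset V := lF (QL.map (fun x => x ^^^ 1))
/-- Translates. -/
def dpQ : Finset V := lF (QL.map (fun x => x ^^^ 1025))

/-- A row. -/
def rr (i k : ℕ) : ℕ := (rowsL i).getD k 0

/-- A generator on numbers. -/
def gN (i v : ℕ) : ℕ := lin (rr i) 11 v

theorem rr_lt (i k : ℕ) (hk : k < 11) : rr i k < 2 ^ 11 := by
  unfold rr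
  have h : ∀ l ∈ [rowsL 0, rowsL 1, rowsL 2], ∀ k : Fin 11, l.getD k.1 0 < 2 ^ 11 := by decide +kernel
  have hi : rowsL i = rowsL 0 ∨ rowsL i = rowsL 1 ∨ rowsL i = rowsL 2 := by
    rcases i with _ | _ | i
    · exact Or.inl rfl
    · exact Or.inr (Or.inl rfl)
    · exact Or.inr (Or.inr rfl)
  rcases hi with hi | hi | hi <;> rw [hi]
  · exact h _ (by simp) ⟨k, hk⟩
  · exact h _ (by simp) ⟨k, hk⟩
  · exact h _ (by simp) ⟨k, hk⟩

theorem gN_lt (i v : ℕ) : gN i v < 2048 := lin_lt (fun k hk => rr_lt i k hk) v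

/-- A generator on vectors. -/
def gV (i : ℕ) (a : V) : V := ⟨gN i a.1, gN_lt i a.1⟩

/-- A field. -/
def tg (b t p : ℕ) : ℕ := Nat.land (Nat.shiftRight t (Nat.mul p b)) (Nat.sub (Nat.pow 2 b) 1)

/-- A step towards the root, for the big group. -/
def sG (a : V) : V := match tg 2 STG a.1 with
  | 1 => gV 1 a
  | 2 => gV 2 a
  | _ => a

/-- A step towards the root, for the small group. -/
def sD (a : V) : V := match tg 2 STD a.1 with
  | 0 => gV 0 a
  | 1 => gV 1 a
  | _ => a

/-- Iteration. -/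
def itV (s : V → V) : ℕ → V → V
  | 0, a => a
  | n + 1, a => itV s n (s a)

theorem it_inv {P : V → Prop} {s : V → V} (h : ∀ a, P a ↔ P (s a)) : ∀ n a, P a ↔ P (itV s n a)
  | 0, a => Iff.rfl
  | n + 1, a => (h a).trans (it_inv h n (s a))

/-- The class, for the big group. -/
def clG (a : V) : ℕ := tg 3 CLG a.1
/-- The class, for the small group. -/
def clD (a : V) : ℕ := tg 4 CLD a.1
/-- The representative, for the big group. -/
def repG (c : ℕ) : V := toV (repGL.getD c 0)
/-- The representative, for the small group. -/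
def repD (c : ℕ) : V := toV (repDL.getD c 0)

theorem chkG : ∀ a : V, itV sG KG a = repG (clG a) := by decide +kernel
theorem chkD : ∀ a : V, itV sD KD a = repD (clD a) := by decide +kernel
theorem clG_le : ∀ a : V, clG a ≤ 6 := by decide +kernel
theorem clD_le : ∀ a : V, clD a ≤ 12 := by decide +kernel

theorem inv_G {P : V → Prop} (h1 : ∀ a, P a ↔ P (gV 1 a)) (h2 : ∀ a, P a ↔ P (gV 2 a)) (a : V) :
    P a ↔ P (repG (clG a)) := by
  rw [← chkG]
  apply it_inv
  intro x
  unfold sG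
  split
  · exact h1 x
  · exact h2 x
  · exact Iff.rfl

theorem inv_D {P : V → Prop} (h0 : ∀ a, P a ↔ P (gV 0 a)) (h1 : ∀ a, P a ↔ P (gV 1 a)) (a : V) :
    P a ↔ P (repD (clD a)) := by
  rw [← chkD]
  apply it_inv
  intro x
  unfold sD
  split
  · exact h0 x
  · exact h1 x
  · exact Iff.rfl

/-- Counting. -/
def cntN (f : ℕ → Bool) : ℕ → ℕ
  | 0 => 0
  | n + 1 => cntN f n + (if f n = true then 1 else 0)

theorem cntN_eq (f : ℕ → Bool) (n : ℕ) : cntN f n = ∑ i ∈ Finset.range n, if f i = true then 1 else 0 := by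
  induction n with
  | zero => rfl
  | succ n ih => rw [Finset.sum_range_succ, ← ih]; rfl

theorem card_filter_V (f : V → Bool) : (univ.filter (fun x : V => f x = true)).card = cntN (fun n => f (toV n)) 2048 := by
  rw [Finset.card_filter, cntN_eq, Finset.sum_range]
  apply Finset.sum_congr rfl
  intro x _
  rw [toV_val]

/-- Membership given the class. -/
def dm (b0 b1 b2 b3 b4 : Bool) (a : V) : Bool := match clG a with
  | 1 => true
  | 2 => b0
  | 3 => b1
  | 4 => b2
  | 5 => b3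
  | 6 => b4
  | _ => false

/-- The additive count. -/
def rc (b0 b1 b2 b3 b4 : Bool) (a : V) : ℕ :=
  cntN (fun n => dm b0 b1 b2 b3 b4 (toV n) && dm b0 b1 b2 b3 b4 (xr a (toV n))) 2048

/-- The additive test. -/
def addT (b0 b1 b2 b3 b4 : Bool) : Bool :=
  let r := rc b0 b1 b2 b3 b4 dd
  (!b0 || Nat.beq (rc b0 b1 b2 b3 b4 (repG 2)) r) && (!b1 || Nat.beq (rc b0 b1 b2 b3 b4 (repG 3)) r) &&
  (!b2 || Nat.beq (rc b0 b1 b2 b3 b4 (repG 4)) r) && (!b3 || Nat.beq (rc b0 b1 b2 b3 b4 (repG 5)) r) &&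
  (!b4 || Nat.beq (rc b0 b1 b2 b3 b4 (repG 6)) r)

theorem add_chk : ∀ b0 b1 b2 b3 b4 : Bool, addT b0 b1 b2 b3 b4 = true →
    (b0 = false ∧ b1 = false ∧ b2 = false ∧ b3 = false ∧ b4 = false) ∨
    (b0 = true ∧ b1 = false ∧ b2 = false ∧ b3 = false ∧ b4 = false) ∨
    (b0 = false ∧ b1 = true ∧ b2 = false ∧ b3 = false ∧ b4 = false) ∨
    (b0 = true ∧ b1 = true) := by decide +kernel

theorem mem_lF (l : List ℕ) (hl : ∀ x ∈ l, x < 2048) (a : V) : a ∈ lF l ↔ l.elem a.1 = true := by
  unfold lF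
  rw [List.mem_toFinset, List.mem_map, List.elem_iff]
  constructor
  · rintro ⟨x, hx, rfl⟩
    have h2 : (toV x).1 = x := Nat.mod_eq_of_lt (hl x hx)
    rwa [h2]
  · intro h
    exact ⟨a.1, h, toV_val a⟩

theorem gc1 : ∀ a : V, a = dd ↔ clG a = 1 := by decide +kernel
theorem gc2' : ∀ a : V, XXL.elem a.1 = true ↔ clG a = 2 := by decide +kernel
theorem gc3' : ∀ a : V, (XXL.map (fun x => x ^^^ 1024)).elem a.1 = true ↔ clG a = 3 := by decide +kernel

theorem gc2 (a : V) : a ∈ XX ↔ clG a = 2 := by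
  rw [XX, mem_lF _ (by decide +kernel), gc2']

theorem gc3 (a : V) : a ∈ dXX ↔ clG a = 3 := by
  rw [dXX, mem_lF _ (by decide +kernel), gc3']

theorem dm_D1 (a : V) : dm true false false false false a = true ↔ a ∈ insert dd XX := by
  rw [Finset.mem_insert, gc1, gc2]
  unfold dm
  have hle := clG_le a
  generalize clG a = c at hle ⊢
  interval_cases c <;> decide

theorem dm_D2 (a : V) : dm false true false false false a = true ↔ a ∈ insert dd dXX := by
  rw [Finset.mem_insert, gc1, gc3]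
  unfold dm
  have hle := clG_le a
  generalize clG a = c at hle ⊢
  interval_cases c <;> decide

theorem dm_D0 (a : V) : dm false false false false false a = true ↔ a = dd := by
  rw [gc1]
  unfold dm
  have hle := clG_le a
  generalize clG a = c at hle ⊢
  interval_cases c <;> decide

/-- Membership given the class, for the small group. -/
def dn (c1 c2 c3 c4 c5 c6 c7 : Bool) (a : V) : Bool := match clD a with
  | 1 => c1
  | 2 => c2
  | 3 => c3
  | 4 => c4
  | 5 => c5
  | 6 => c6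
  | 7 => c7
  | _ => false

/-- The cardinality test. -/
def cnT (c1 c2 c3 c4 c5 c6 c7 : Bool) : Bool :=
  Nat.beq (cntN (fun n => dn c1 c2 c3 c4 c5 c6 c7 (toV n)) 2048) 22

/-- The pattern of a set of size `22`. -/
def patT (c1 c2 c3 c4 c5 c6 c7 : Bool) : Bool :=
  ((c1 && !c2 && !c3) || (!c1 && c2 && !c3) || (!c1 && !c2 && c3)) &&
  ((c4 && !c5 && !c6 && !c7) || (!c4 && c5 && !c6 && !c7) || (!c4 && !c5 && c6 && !c7) || (!c4 && !c5 && !c6 && c7))

theorem pat_chk : ∀ c1 c2 c3 c4 c5 c6 c7 : Bool, cnT c1 c2 c3 c4 c5 c6 c7 = true → patT c1 c2 c3 c4 c5 c6 c7 = true := by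
  decide +kernel

/-- The small orbits. -/
def UU (c1 c2 c3 c4 c5 c6 c7 : Bool) : Finset V :=
  (if c1 then {p0} else ∅) ∪ (if c2 then {dd} else ∅) ∪ (if c3 then {dp0} else ∅) ∪ (if c4 then QQ else ∅) ∪
  (if c5 then dQ else ∅) ∪ (if c6 then pQ else ∅) ∪ (if c7 then dpQ else ∅)

theorem dc1 : ∀ a : V, a = p0 ↔ clD a = 1 := by decide +kernel
theorem dc2 : ∀ a : V, a = dd ↔ clD a = 2 := by decide +kernel
theorem dc3 : ∀ a : V, a = dp0 ↔ clD a = 3 := by decide +kernel
theorem dc4' : ∀ a : V, QL.elem a.1 = true ↔ clD a = 4 := by decide +kernel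
theorem dc5' : ∀ a : V, (QL.map (fun x => x ^^^ 1024)).elem a.1 = true ↔ clD a = 5 := by decide +kernel
theorem dc6' : ∀ a : V, (QL.map (fun x => x ^^^ 1)).elem a.1 = true ↔ clD a = 6 := by decide +kernel
theorem dc7' : ∀ a : V, (QL.map (fun x => x ^^^ 1025)).elem a.1 = true ↔ clD a = 7 := by decide +kernel

theorem dc4 (a : V) : a ∈ QQ ↔ clD a = 4 := by
  rw [QQ, mem_lF _ (by decide +kernel), dc4']
theorem dc5 (a : V) : a ∈ dQ ↔ clD a = 5 := by
  rw [dQ, mem_lF _ (by decide +kernel), dc5']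
theorem dc6 (a : V) : a ∈ pQ ↔ clD a = 6 := by
  rw [pQ, mem_lF _ (by decide +kernel), dc6']
theorem dc7 (a : V) : a ∈ dpQ ↔ clD a = 7 := by
  rw [dpQ, mem_lF _ (by decide +kernel), dc7']

theorem dn_UU_1 (a : V) : dn true false false true false false false a = true ↔ a ∈ insert p0 QQ := by
  rw [Finset.mem_insert, dc1, dc4]
  unfold dn
  have hle := clD_le a
  generalize clD a = c at hle ⊢
  interval_cases c <;> decide

theorem dn_UU_2 (a : V) : dn true false false false true false false a = true ↔ a ∈ insert p0 dQ := by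
  rw [Finset.mem_insert, dc1, dc5]
  unfold dn
  have hle := clD_le a
  generalize clD a = c at hle ⊢
  interval_cases c <;> decide

theorem dn_UU_3 (a : V) : dn true false false false false true false a = true ↔ a ∈ insert p0 pQ := by
  rw [Finset.mem_insert, dc1, dc6]
  unfold dn
  have hle := clD_le a
  generalize clD a = c at hle ⊢
  interval_cases c <;> decide

theorem dn_UU_4 (a : V) : dn true false false false false false true a = true ↔ a ∈ insert p0 dpQ := by
  rw [Finset.mem_insert, dc1, dc7]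
  unfold dn
  have hle := clD_le a
  generalize clD a = c at hle ⊢
  interval_cases c <;> decide

theorem dn_UU_5 (a : V) : dn false true false true false false false a = true ↔ a ∈ insert dd QQ := by
  rw [Finset.mem_insert, dc2, dc4]
  unfold dn
  have hle := clD_le a
  generalize clD a = c at hle ⊢
  interval_cases c <;> decide

theorem dn_UU_6 (a : V) : dn false true false false true false false a = true ↔ a ∈ insert dd dQ := by
  rw [Finset.mem_insert, dc2, dc5]
  unfold dn
  have hle := clD_le a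
  generalize clD a = c at hle ⊢
  interval_cases c <;> decide

theorem dn_UU_7 (a : V) : dn false true false false false true false a = true ↔ a ∈ insert dd pQ := by
  rw [Finset.mem_insert, dc2, dc6]
  unfold dn
  have hle := clD_le a
  generalize clD a = c at hle ⊢
  interval_cases c <;> decide

theorem dn_UU_8 (a : V) : dn false true false false false false true a = true ↔ a ∈ insert dd dpQ := by
  rw [Finset.mem_insert, dc2, dc7]
  unfold dn
  have hle := clD_le a
  generalize clD a = c at hle ⊢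
  interval_cases c <;> decide

theorem dn_UU_9 (a : V) : dn false false true true false false false a = true ↔ a ∈ insert dp0 QQ := by
  rw [Finset.mem_insert, dc3, dc4]
  unfold dn
  have hle := clD_le a
  generalize clD a = c at hle ⊢
  interval_cases c <;> decide

theorem dn_UU_10 (a : V) : dn false false true false true false false a = true ↔ a ∈ insert dp0 dQ := by
  rw [Finset.mem_insert, dc3, dc5]
  unfold dn
  have hle := clD_le a
  generalize clD a = c at hle ⊢
  interval_cases c <;> decide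

theorem dn_UU_11 (a : V) : dn false false true false false true false a = true ↔ a ∈ insert dp0 pQ := by
  rw [Finset.mem_insert, dc3, dc6]
  unfold dn
  have hle := clD_le a
  generalize clD a = c at hle ⊢
  interval_cases c <;> decide

theorem dn_UU_12 (a : V) : dn false false true false false false true a = true ↔ a ∈ insert dp0 dpQ := by
  rw [Finset.mem_insert, dc3, dc7]
  unfold dn
  have hle := clD_le a
  generalize clD a = c at hle ⊢
  interval_cases c <;> decide

/-- A finite set of size `22` invariant under the small group is a union of small orbits. -/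
theorem class_Y (Y : Finset V) (h0 : ∀ a, a ∈ Y ↔ gV 0 a ∈ Y) (h1 : ∀ a, a ∈ Y ↔ gV 1 a ∈ Y) (hc : Y.card = 22)
    (h00 : v0 ∉ Y) :
    ∃ u ∈ ({p0, dd, dp0} : Finset V), (Y = insert u QQ ∨ Y = insert u dQ ∨ Y = insert u pQ ∨ Y = insert u dpQ) := by
  have hcl := inv_D h0 h1
  have hbig : ∀ c, 8 ≤ c → c ≤ 12 → repD c ∉ Y := by
    intro c h8 h12 hm
    have hsub : univ.filter (fun x : V => Nat.beq (clD x) c = true) ⊆ Y := by
      intro x hx
      have h2 : clD x = c := Nat.eq_of_beq_eq_true (Finset.mem_filter.mp hx).2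
      rw [hcl x, h2]
      exact hm
    have h3 := Finset.card_le_card hsub
    rw [hc, card_filter_V] at h3
    have h4 : ∀ c, 8 ≤ c → c ≤ 12 → 23 ≤ cntN (fun n => Nat.beq (clD (toV n)) c) 2048 := by
      intro c h8 h12
      interval_cases c <;> decide +kernel
    have := h4 c h8 h12
    omega
  set c1 := decide (repD 1 ∈ Y) with hc1
  set c2 := decide (repD 2 ∈ Y) with hc2
  set c3 := decide (repD 3 ∈ Y) with hc3
  set c4 := decide (repD 4 ∈ Y) with hc4
  set c5 := decide (repD 5 ∈ Y) with hc5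
  set c6 := decide (repD 6 ∈ Y) with hc6
  set c7 := decide (repD 7 ∈ Y) with hc7
  have hr0 : repD 0 = v0 := by decide
  have hmem : ∀ a, a ∈ Y ↔ dn c1 c2 c3 c4 c5 c6 c7 a = true := by
    intro a
    rw [hcl a]
    unfold dn
    have hle := clD_le a
    generalize clD a = c at hle ⊢
    interval_cases c
    · simp [hr0, h00]
    · simp [hc1]
    · simp [hc2]
    · simp [hc3]
    · simp [hc4]
    · simp [hc5]
    · simp [hc6]
    · simp [hc7]
    · simp [hbig 8 (by norm_num) (by norm_num)]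
    · simp [hbig 9 (by norm_num) (by norm_num)]
    · simp [hbig 10 (by norm_num) (by norm_num)]
    · simp [hbig 11 (by norm_num) (by norm_num)]
    · simp [hbig 12 (by norm_num) (by norm_num)]
  have hY : Y = univ.filter (fun x : V => dn c1 c2 c3 c4 c5 c6 c7 x = true) := by
    ext a
    simp [hmem a]
  have hcnt : cnT c1 c2 c3 c4 c5 c6 c7 = true := by
    unfold cnT
    rw [← hc, hY, card_filter_V]
    exact Nat.beq_refl _
  have hpat := pat_chk _ _ _ _ _ _ _ hcnt
  clear hcnt hY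
  generalize c1 = b1 at hmem hpat
  generalize c2 = b2 at hmem hpat
  generalize c3 = b3 at hmem hpat
  generalize c4 = b4 at hmem hpat
  generalize c5 = b5 at hmem hpat
  generalize c6 = b6 at hmem hpat
  generalize c7 = b7 at hmem hpat
  revert hpat hmem
  cases b1 <;> cases b2 <;> cases b3 <;> cases b4 <;> cases b5 <;> cases b6 <;> cases b7 <;> intro hmem hpat <;>
    first
    | exact absurd hpat (by decide)
    | exact ⟨p0, by decide, Or.inl (Finset.ext fun a => (hmem a).trans (dn_UU_1 a))⟩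
    | exact ⟨p0, by decide, Or.inr (Or.inl (Finset.ext fun a => (hmem a).trans (dn_UU_2 a)))⟩
    | exact ⟨p0, by decide, Or.inr (Or.inr (Or.inl (Finset.ext fun a => (hmem a).trans (dn_UU_3 a))))⟩
    | exact ⟨p0, by decide, Or.inr (Or.inr (Or.inr (Finset.ext fun a => (hmem a).trans (dn_UU_4 a))))⟩
    | exact ⟨dd, by decide, Or.inl (Finset.ext fun a => (hmem a).trans (dn_UU_5 a))⟩
    | exact ⟨dd, by decide, Or.inr (Or.inl (Finset.ext fun a => (hmem a).trans (dn_UU_6 a)))⟩
    | exact ⟨dd, by decide, Or.inr (Or.inr (Or.inl (Finset.ext fun a => (hmem a).trans (dn_UU_7 a))))⟩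
    | exact ⟨dd, by decide, Or.inr (Or.inr (Or.inr (Finset.ext fun a => (hmem a).trans (dn_UU_8 a))))⟩
    | exact ⟨dp0, by decide, Or.inl (Finset.ext fun a => (hmem a).trans (dn_UU_9 a))⟩
    | exact ⟨dp0, by decide, Or.inr (Or.inl (Finset.ext fun a => (hmem a).trans (dn_UU_10 a)))⟩
    | exact ⟨dp0, by decide, Or.inr (Or.inr (Or.inl (Finset.ext fun a => (hmem a).trans (dn_UU_11 a))))⟩
    | exact ⟨dp0, by decide, Or.inr (Or.inr (Or.inr (Finset.ext fun a => (hmem a).trans (dn_UU_12 a))))⟩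

/-- Membership given the class, without `d`. -/
def dmI (b0 b1 b2 b3 b4 : Bool) (a : V) : Bool := match clG a with
  | 2 => b0
  | 3 => b1
  | 4 => b2
  | 5 => b3
  | 6 => b4
  | _ => false

theorem dmI_chk : ∀ b0 b1 b2 b3 b4 : Bool, cntN (fun n => dmI b0 b1 b2 b3 b4 (toV n)) 2048 = 22 →
    (b0 = true ∧ b1 = false ∧ b2 = false ∧ b3 = false ∧ b4 = false) ∨
    (b0 = false ∧ b1 = true ∧ b2 = false ∧ b3 = false ∧ b4 = false) := by decide +kernel

theorem dmI_x1 : ∀ a : V, dmI true false false false false a = true → dmI true false false false false (xr a dd) = true → False := by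
  decide +kernel

theorem dmI_x2 : ∀ a : V, dmI false true false false false a = true → dmI false true false false false (xr a dd) = true → False := by
  decide +kernel

/-- The sum of a set. -/
def fsum (s : Finset V) : V := s.fold xr v0 id

theorem fsum_XX : fsum XX = dd := by decide +kernel

theorem XX_card : XX.card = 22 := by decide +kernel
theorem dd_notin : dd ∉ XX := by decide +kernel
theorem v0_notin : v0 ∉ XX := by decide +kernel

theorem fold_chk1 : fsum (insert dd dQ) ≠ p0 := by decide +kernel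
theorem fold_chk2 : fsum (insert dd pQ) ≠ p0 := by decide +kernel
theorem fold_chk3 : fsum (insert dd dpQ) ≠ p0 := by decide +kernel
theorem fold_chk4 : fsum (insert dp0 QQ) ≠ p0 := by decide +kernel
theorem fold_chk5 : fsum (insert dp0 dQ) ≠ p0 := by decide +kernel
theorem fold_chk6 : fsum (insert dp0 dpQ) ≠ p0 := by decide +kernel

/-- The hypotheses of the lemma. -/
structure Hyp (N : Subgroup (Equiv.Perm V)) (D : Finset V) : Prop where
  lin : ∀ ν ∈ N, ∀ a b, ν (xr a b) = xr (ν a) (ν b)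
  pres : ∀ ν ∈ N, ∀ a ∈ D, ν a ∈ D
  dd_mem : dd ∈ D
  tr : ∀ a ∈ D, ∃ ν ∈ N, ν dd = a
  hX : ∀ ν ∈ N, ν dd = dd → ∀ a ∈ XX, ν a ∈ XX
  g : ∀ i, i ≤ 2 → ∃ ν ∈ N, ∀ a, ν a = gV i a

section hyp

variable {N : Subgroup (Equiv.Perm V)} {D : Finset V} (H : Hyp N D)
include H

theorem mem_iff {ν : Equiv.Perm V} (hν : ν ∈ N) (a : V) : a ∈ D ↔ ν a ∈ D := by
  refine ⟨H.pres ν hν a, fun h => ?_⟩
  have := H.pres _ (N.inv_mem hν) _ h
  simpa using this

theorem fix_zero {ν : Equiv.Perm V} (hν : ν ∈ N) : ν v0 = v0 := by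
  have h := H.lin ν hν v0 v0
  rw [xr_self, xr_self] at h
  exact h

theorem v0_not : v0 ∉ D := by
  intro h
  obtain ⟨ν, hν, h1⟩ := H.tr v0 h
  have h2 := fix_zero H hν
  have h3 : dd = v0 := ν.injective (h1.trans h2.symm)
  exact absurd h3 (by decide)

theorem XX_iff {ν : Equiv.Perm V} (hν : ν ∈ N) (hd : ν dd = dd) (a : V) : a ∈ XX ↔ ν a ∈ XX := by
  refine ⟨H.hX ν hν hd a, fun h => ?_⟩
  have h1 : ν⁻¹ dd = dd := by
    rw [Equiv.Perm.inv_eq_iff_eq]
    exact hd.symm
  have := H.hX _ (N.inv_mem hν) h1 _ h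
  simpa using this

theorem image_XX {ν : Equiv.Perm V} (hν : ν ∈ N) (hd : ν dd = dd) : XX.image ν = XX := by
  apply Finset.eq_of_subset_of_card_le
  · intro x hx
    obtain ⟨a, ha, rfl⟩ := Finset.mem_image.mp hx
    exact H.hX ν hν hd a ha
  · rw [Finset.card_image_of_injective _ ν.injective]

/-- The perm of a generator. -/
theorem gen_fix_dd (i : ℕ) (hi : i ≤ 2) : gV i dd = dd := by
  interval_cases i <;> decide

/-- Invariants of the big group. -/
theorem gen_iff {P : V → Prop} (h : ∀ ν ∈ N, ν dd = dd → ∀ a, P a → P (ν a)) (i : ℕ) (hi : i ≤ 2) (a : V) :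
    P a ↔ P (gV i a) := by
  obtain ⟨ν, hν, hg⟩ := H.g i hi
  have hd : ν dd = dd := by rw [hg, gen_fix_dd H i hi]
  rw [← hg]
  refine ⟨h ν hν hd a, fun h2 => ?_⟩
  have h1 : ν⁻¹ dd = dd := by
    rw [Equiv.Perm.inv_eq_iff_eq]
    exact hd.symm
  have := h _ (N.inv_mem hν) h1 _ h2
  simpa using this

theorem G_iff {P : V → Prop} (h : ∀ ν ∈ N, ν dd = dd → ∀ a, P a → P (ν a)) (a : V) : P a ↔ P (repG (clG a)) :=
  inv_G (gen_iff H h 1 (by norm_num)) (gen_iff H h 2 (by norm_num)) a

theorem D_cls (a : V) : a ∈ D ↔ repG (clG a) ∈ D :=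
  G_iff H (fun ν hν _ a ha => H.pres ν hν a ha) a

end hyp

section frames

variable {N : Subgroup (Equiv.Perm V)} {D : Finset V} (H : Hyp N D) {μ : V → Equiv.Perm V}
  (hμ1 : ∀ a ∈ D, μ a ∈ N) (hμ2 : ∀ a ∈ D, μ a dd = a)
include H hμ1 hμ2

/-- The frame at a point. -/
def PP (μ : V → Equiv.Perm V) (a : V) : Finset V := XX.image (μ a)

omit H hμ1 hμ2 in
theorem PP_card (a : V) : (PP μ a).card = 22 := by
  rw [PP, Finset.card_image_of_injective _ (μ a).injective, XX_card]

theorem PP_eq {ν : Equiv.Perm V} (hν : ν ∈ N) : PP μ (ν dd) = XX.image ν := by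
  have hm : ν dd ∈ D := H.pres ν hν _ H.dd_mem
  set a := ν dd with ha
  have h1 := hμ1 a hm
  have h2 := hμ2 a hm
  have hκ : (μ a)⁻¹ * ν ∈ N := N.mul_mem (N.inv_mem h1) hν
  have hκd : ((μ a)⁻¹ * ν) dd = dd := by
    rw [Equiv.Perm.mul_apply, ← ha, Equiv.Perm.inv_eq_iff_eq]
    exact h2.symm
  have h3 := image_XX H hκ hκd
  have h4 : (⇑ν : V → V) = (μ a) ∘ ((μ a)⁻¹ * ν) := by
    ext x
    simp
  rw [PP, h4, ← Finset.image_image, h3]

theorem PP_map {ν : Equiv.Perm V} (hν : ν ∈ N) {a : V} (ha : a ∈ D) : PP μ (ν a) = (PP μ a).image ν := by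
  have h1 := hμ1 a ha
  have h2 := hμ2 a ha
  have h3 : ν a = (ν * μ a) dd := by
    rw [Equiv.Perm.mul_apply, h2]
  rw [h3, PP_eq H hμ1 hμ2 (N.mul_mem hν h1), PP, Finset.image_image]
  rfl

theorem PP_dd : PP μ dd = XX := by
  have := PP_eq H hμ1 hμ2 (N.one_mem)
  simpa using this

theorem PP_self {a : V} (ha : a ∈ D) : a ∉ PP μ a := by
  intro h
  obtain ⟨x, hx, h1⟩ := Finset.mem_image.mp h
  have h2 := hμ2 a ha
  have h3 : x = dd := (μ a).injective (h1.trans h2.symm)
  rw [h3] at hx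
  exact dd_notin hx

theorem PP_zero {a : V} (ha : a ∈ D) : v0 ∉ PP μ a := by
  intro h
  obtain ⟨x, hx, h1⟩ := Finset.mem_image.mp h
  have h2 := fix_zero H (hμ1 a ha)
  have h3 : x = v0 := (μ a).injective (h1.trans h2.symm)
  rw [h3] at hx
  exact v0_notin hx

theorem PP_fsum {a : V} (ha : a ∈ D) : fsum (PP μ a) = a := by
  have h1 := hμ1 a ha
  have h2 := hμ2 a ha
  unfold fsum PP
  rw [Finset.fold_image (fun x _ y _ h => (μ a).injective h)]
  have h3 := fix_zero H h1
  have h4 : XX.fold xr (μ a v0) (fun x => μ a (id x)) = μ a (XX.fold xr v0 id) :=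
    Finset.fold_hom (H.lin _ h1)
  have h5 : XX.fold xr v0 id = dd := fsum_XX
  rw [h3, h5, h2] at h4
  exact h4

/-- A permutation fixing `a` preserves the frame at `a`. -/
theorem PP_fix {ν : Equiv.Perm V} (hν : ν ∈ N) {a : V} (ha : a ∈ D) (hf : ν a = a) (x : V) :
    x ∈ PP μ a ↔ ν x ∈ PP μ a := by
  have h1 := PP_map H hμ1 hμ2 hν ha
  rw [hf] at h1
  constructor
  · intro h
    rw [h1]
    exact Finset.mem_image_of_mem _ h
  · intro h
    rw [h1] at h
    obtain ⟨y, hy, h2⟩ := Finset.mem_image.mp h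
    rwa [← ν.injective h2]

theorem PP_cls {a : V} (ha : a ∈ D) (h0 : gV 0 a = a) (h1 : gV 1 a = a) :
    ∃ u ∈ ({p0, dd, dp0} : Finset V), (PP μ a = insert u QQ ∨ PP μ a = insert u dQ ∨ PP μ a = insert u pQ ∨ PP μ a = insert u dpQ) := by
  obtain ⟨ν0, hν0, h0'⟩ := H.g 0 (by norm_num)
  obtain ⟨ν1, hν1, h1'⟩ := H.g 1 (by norm_num)
  apply class_Y
  · intro x
    rw [← h0']
    exact PP_fix H hμ1 hμ2 hν0 ha (by rw [h0', h0]) x
  · intro x
    rw [← h1']
    exact PP_fix H hμ1 hμ2 hν1 ha (by rw [h1', h1]) x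
  · exact PP_card a
  · exact PP_zero H hμ1 hμ2 ha

/-- The star. -/
def SS : Finset V := insert dd XX

omit hμ1 hμ2 in
theorem image_SS {ν : Equiv.Perm V} (hν : ν ∈ N) (hd : ν dd = dd) : SS.image ν = SS := by
  rw [SS, Finset.image_insert, hd, image_XX H hν hd]

theorem star_map {ν : Equiv.Perm V} (hν : ν ∈ N) {a : V} (ha : a ∈ D) :
    insert (ν a) (PP μ (ν a)) = (insert a (PP μ a)).image ν := by
  rw [Finset.image_insert, PP_map H hμ1 hμ2 hν ha]

theorem star_of {ν : Equiv.Perm V} (hν : ν ∈ N) : SS.image ν = insert (ν dd) (PP μ (ν dd)) := by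
  rw [SS, Finset.image_insert, PP_eq H hμ1 hμ2 hν]

/-- The first case. -/
theorem caseA (hp : PP μ p0 = insert dd QQ) (hp0 : p0 ∈ D) (hdp : dp0 ∈ D) : False := by
  have hstar : ∀ a, a ∈ XX → a ∈ D ∧ insert a (PP μ a) = SS := by
    intro a ha
    have hinv : ∀ ν ∈ N, ν dd = dd → ∀ a, (a ∈ D ∧ insert a (PP μ a) = SS) → (ν a ∈ D ∧ insert (ν a) (PP μ (ν a)) = SS) := by
      rintro ν hν hd a ⟨h1, h2⟩
      refine ⟨H.pres ν hν a h1, ?_⟩
      rw [star_map H hμ1 hμ2 hν h1, h2, image_SS H hν hd]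
    have h3 := (G_iff H hinv a).mpr
    have h4 : repG (clG a) = p0 := by
      rw [(gc2 a).mp ha]
      decide
    rw [h4] at h3
    apply h3
    refine ⟨hp0, ?_⟩
    rw [hp]
    decide +kernel
  have hdstar : insert dd (PP μ dd) = SS := by rw [PP_dd H hμ1 hμ2]; rfl
  -- the frame at `dp`
  have h0 : gV 0 dp0 = dp0 := by decide
  have h1 : gV 1 dp0 = dp0 := by decide
  obtain ⟨u, hu, hY⟩ := PP_cls H hμ1 hμ2 hdp h0 h1
  have huY : u ∈ PP μ dp0 := by
    rcases hY with h | h | h | h <;> rw [h] <;> exact Finset.mem_insert_self _ _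
  have huS : u ∈ SS ∧ (u ∈ D ∧ insert u (PP μ u) = SS) := by
    simp only [Finset.mem_insert, Finset.mem_singleton] at hu
    rcases hu with rfl | rfl | rfl
    · exact ⟨by decide +kernel, hstar _ (by decide +kernel)⟩
    · exact ⟨by decide +kernel, H.dd_mem, hdstar⟩
    · exact absurd huY (PP_self H hμ1 hμ2 hdp)
  obtain ⟨x, hx, hxu⟩ := Finset.mem_image.mp huY
  have hν := hμ1 dp0 hdp
  have hνd := hμ2 dp0 hdp
  obtain ⟨hxD, hxS⟩ := hstar x hx
  have h5 := star_map H hμ1 hμ2 hν hxD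
  rw [hxu, huS.2.2, hxS] at h5
  have h6 := star_of H hμ1 hμ2 hν
  rw [hνd, ← h5] at h6
  have h7 : dp0 ∈ SS := by
    rw [h6]
    exact Finset.mem_insert_self _ _
  exact absurd h7 (by decide +kernel)

theorem in_card (hXD : XX ⊆ D) : (D.filter (fun a => dd ∈ PP μ a)).card = 22 := by
  have hsub : ∀ a ∈ D, PP μ a ⊆ D := by
    intro a ha x hx
    obtain ⟨y, hy, rfl⟩ := Finset.mem_image.mp hx
    exact H.pres _ (hμ1 a ha) y (hXD hy)
  have h := Finset.sum_card_bipartiteAbove_eq_sum_card_bipartiteBelow (s := D) (t := D) (fun a b => b ∈ PP μ a)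
  have hl : ∀ a ∈ D, (Finset.bipartiteAbove (fun a b => b ∈ PP μ a) D a).card = 22 := by
    intro a ha
    have : Finset.bipartiteAbove (fun a b => b ∈ PP μ a) D a = PP μ a := by
      ext x
      simp only [Finset.mem_bipartiteAbove]
      exact ⟨fun h => h.2, fun h => ⟨hsub a ha h, h⟩⟩
    rw [this, PP_card]
  have hr : ∀ b ∈ D, (Finset.bipartiteBelow (fun a b => b ∈ PP μ a) D b).card = (D.filter (fun a => dd ∈ PP μ a)).card := by
    intro b hb
    obtain ⟨ν, hν, rfl⟩ := H.tr b hb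
    symm
    apply Finset.card_equiv ν
    intro x
    simp only [Finset.mem_filter, Finset.mem_bipartiteBelow]
    rw [← mem_iff H hν x]
    constructor
    · rintro ⟨h1, h2⟩
      refine ⟨h1, ?_⟩
      rw [PP_map H hμ1 hμ2 hν h1]
      exact Finset.mem_image_of_mem _ h2
    · rintro ⟨h1, h2⟩
      refine ⟨h1, ?_⟩
      rw [PP_map H hμ1 hμ2 hν h1] at h2
      obtain ⟨y, hy, h3⟩ := Finset.mem_image.mp h2
      rwa [← ν.injective h3]
  rw [Finset.sum_congr rfl hl, Finset.sum_congr rfl hr, Finset.sum_const, Finset.sum_const, smul_eq_mul, smul_eq_mul] at h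
  have hpos : 0 < D.card := Finset.card_pos.mpr ⟨_, H.dd_mem⟩
  exact (Nat.eq_of_mul_eq_mul_left hpos h).symm

/-- The second case. -/
theorem caseB (hp : PP μ p0 = insert dp0 pQ) (hp0 : p0 ∈ D) : False := by
  have hXD : XX ⊆ D := by
    intro a ha
    rw [D_cls H a]
    have h4 : repG (clG a) = p0 := by
      rw [(gc2 a).mp ha]
      decide
    rw [h4]
    exact hp0
  have hsub : ∀ a ∈ D, PP μ a ⊆ D := by
    intro a ha x hx
    obtain ⟨y, hy, rfl⟩ := Finset.mem_image.mp hx
    exact H.pres _ (hμ1 a ha) y (hXD hy)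
  have hy : y0 ∈ PP μ p0 := by
    rw [hp]
    decide +kernel
  obtain ⟨ν2, hν2, hg2⟩ := H.g 2 (by norm_num)
  have h21 : ν2 p0 = q0 := by rw [hg2]; decide
  have h22 : ν2 y0 = y0 := by rw [hg2]; decide
  have hq0 : q0 ∈ D := hXD (by decide +kernel)
  have hy' : y0 ∈ PP μ q0 := by
    rw [← h21, PP_map H hμ1 hμ2 hν2 hp0]
    rw [← h22]
    exact Finset.mem_image_of_mem _ hy
  have hyD : y0 ∈ D := hsub _ hp0 hy
  have hk := N.inv_mem (hμ1 y0 hyD)
  set k := (μ y0)⁻¹ with hkdef
  have hky : k y0 = dd := by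
    rw [hkdef, Equiv.Perm.inv_eq_iff_eq]
    exact (hμ2 y0 hyD).symm
  have hxor : xr (k p0) (k q0) = dd := by
    rw [← H.lin k hk, ← hky]
    congr 1
  have hw1 : dd ∈ PP μ (k p0) := by
    rw [PP_map H hμ1 hμ2 hk hp0, ← hky]
    exact Finset.mem_image_of_mem _ hy
  have hw2 : dd ∈ PP μ (k q0) := by
    rw [PP_map H hμ1 hμ2 hk hq0, ← hky]
    exact Finset.mem_image_of_mem _ hy'
  set I := D.filter (fun a => dd ∈ PP μ a) with hI
  have hcard : I.card = 22 := in_card H hμ1 hμ2 hXD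
  have hw1' : k p0 ∈ I := Finset.mem_filter.mpr ⟨H.pres k hk _ hp0, hw1⟩
  have hw2' : k q0 ∈ I := Finset.mem_filter.mpr ⟨H.pres k hk _ hq0, hw2⟩
  have hinv : ∀ ν ∈ N, ν dd = dd → ∀ a, a ∈ I → ν a ∈ I := by
    intro ν hν hd a ha
    obtain ⟨h1, h2⟩ := Finset.mem_filter.mp ha
    refine Finset.mem_filter.mpr ⟨H.pres ν hν a h1, ?_⟩
    rw [PP_map H hμ1 hμ2 hν h1, ← hd]
    exact Finset.mem_image_of_mem _ h2
  have hcl := G_iff H hinv
  have h0I : repG 0 ∉ I := by
    intro h
    have : repG 0 = v0 := by decide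
    rw [this] at h
    exact v0_not H (Finset.mem_filter.mp h).1
  have h1I : repG 1 ∉ I := by
    intro h
    have : repG 1 = dd := by decide
    rw [this] at h
    have h2 := (Finset.mem_filter.mp h).2
    rw [PP_dd H hμ1 hμ2] at h2
    exact dd_notin h2
  set b0 := decide (repG 2 ∈ I) with hb0
  set b1 := decide (repG 3 ∈ I) with hb1
  set b2 := decide (repG 4 ∈ I) with hb2
  set b3 := decide (repG 5 ∈ I) with hb3
  set b4 := decide (repG 6 ∈ I) with hb4
  have hmem : ∀ a, a ∈ I ↔ dmI b0 b1 b2 b3 b4 a = true := by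
    intro a
    rw [hcl a]
    unfold dmI
    have hle := clG_le a
    generalize clG a = c at hle ⊢
    interval_cases c
    · simp [h0I]
    · simp [h1I]
    · simp [hb0]
    · simp [hb1]
    · simp [hb2]
    · simp [hb3]
    · simp [hb4]
  have hY : I = univ.filter (fun x : V => dmI b0 b1 b2 b3 b4 x = true) := by
    ext a
    simp [hmem a]
  have hcnt : cntN (fun n => dmI b0 b1 b2 b3 b4 (toV n)) 2048 = 22 := by
    rw [← card_filter_V, ← hY, hcard]
  have hw3 : k q0 = xr (k p0) dd := by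
    rw [← hxor]
    apply Fin.ext
    show (k q0).1 = (k p0).1 ^^^ ((k p0).1 ^^^ (k q0).1)
    rw [← Nat.xor_assoc, Nat.xor_self, Nat.zero_xor]
  have h5 := (hmem _).mp hw1'
  have h6 := (hmem _).mp hw2'
  rw [hw3] at h6
  have hpat := dmI_chk _ _ _ _ _ hcnt
  generalize b0 = c0 at *
  generalize b1 = c1 at *
  generalize b2 = c2 at *
  generalize b3 = c3 at *
  generalize b4 = c4 at *
  rcases hpat with ⟨rfl, rfl, rfl, rfl, rfl⟩ | ⟨rfl, rfl, rfl, rfl, rfl⟩
  · exact dmI_x1 _ h5 h6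
  · exact dmI_x2 _ h5 h6

theorem no_both (hp0 : p0 ∈ D) (hdp : dp0 ∈ D) : False := by
  have h0 : gV 0 p0 = p0 := by decide
  have h1 : gV 1 p0 = p0 := by decide
  obtain ⟨u, hu, hY⟩ := PP_cls H hμ1 hμ2 hp0 h0 h1
  have hself := PP_self H hμ1 hμ2 hp0
  have hs := PP_fsum H hμ1 hμ2 hp0
  simp only [Finset.mem_insert, Finset.mem_singleton] at hu
  rcases hu with rfl | rfl | rfl
  · rcases hY with h | h | h | h <;> rw [h] at hself <;> exact hself (Finset.mem_insert_self _ _)
  · rcases hY with h | h | h | h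
    · exact caseA H hμ1 hμ2 h hp0 hdp
    · rw [h] at hs; exact fold_chk1 hs
    · rw [h] at hs; exact fold_chk2 hs
    · rw [h] at hs; exact fold_chk3 hs
  · rcases hY with h | h | h | h
    · rw [h] at hs; exact fold_chk4 hs
    · rw [h] at hs; exact fold_chk5 hs
    · exact caseB H hμ1 hμ2 h hp0
    · rw [h] at hs; exact fold_chk6 hs

end frames

/-- The main lemma. -/
theorem core {N : Subgroup (Equiv.Perm V)} {D : Finset V} (H : Hyp N D) (hne : ∃ a ∈ D, a ≠ dd) :
    D = insert dd XX ∨ D = insert dd dXX := by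
  choose! μ hμ1 hμ2 using H.tr
  have hcl := D_cls H
  have h0I : repG 0 ∉ D := by
    have : repG 0 = v0 := by decide
    rw [this]
    exact v0_not H
  have h1I : repG 1 ∈ D := by
    have : repG 1 = dd := by decide
    rw [this]
    exact H.dd_mem
  set b0 := decide (repG 2 ∈ D) with hb0
  set b1 := decide (repG 3 ∈ D) with hb1
  set b2 := decide (repG 4 ∈ D) with hb2
  set b3 := decide (repG 5 ∈ D) with hb3
  set b4 := decide (repG 6 ∈ D) with hb4
  have hmem : ∀ a, a ∈ D ↔ dm b0 b1 b2 b3 b4 a = true := by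
    intro a
    rw [hcl a]
    unfold dm
    have hle := clG_le a
    generalize clG a = c at hle ⊢
    interval_cases c
    · simp [h0I]
    · simp [h1I]
    · simp [hb0]
    · simp [hb1]
    · simp [hb2]
    · simp [hb3]
    · simp [hb4]
  have hr : ∀ a ∈ D, rc b0 b1 b2 b3 b4 a = rc b0 b1 b2 b3 b4 dd := by
    intro a ha
    obtain ⟨ν, hν, rfl⟩ := H.tr a ha
    unfold rc
    rw [← card_filter_V (fun x => dm b0 b1 b2 b3 b4 x && dm b0 b1 b2 b3 b4 (xr (ν dd) x)),
      ← card_filter_V (fun x => dm b0 b1 b2 b3 b4 x && dm b0 b1 b2 b3 b4 (xr dd x))]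
    symm
    apply Finset.card_equiv ν
    intro x
    simp only [Finset.mem_filter, Finset.mem_univ, true_and, Bool.and_eq_true]
    rw [← hmem, ← hmem, ← hmem, ← hmem, ← H.lin ν hν, ← mem_iff H hν, ← mem_iff H hν]
  have hadd : addT b0 b1 b2 b3 b4 = true := by
    unfold addT
    have key : ∀ c : ℕ, ∀ b : Bool, b = decide (repG c ∈ D) →
        (!b || Nat.beq (rc b0 b1 b2 b3 b4 (repG c)) (rc b0 b1 b2 b3 b4 dd)) = true := by
      intro c b hb
      cases hc : b
      · rfl
      · have h2 : repG c ∈ D := by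
          rw [hc] at hb
          exact of_decide_eq_true hb.symm
        simp [hr _ h2]
    simp only [Bool.and_eq_true]
    exact ⟨⟨⟨⟨key 2 _ hb0, key 3 _ hb1⟩, key 4 _ hb2⟩, key 5 _ hb3⟩, key 6 _ hb4⟩
  have hp0 : repG 2 = p0 := by decide
  have hdp : repG 3 = dp0 := by decide
  have hb0' : b0 = true → p0 ∈ D := fun h => by
    rw [← hp0]; rw [hb0] at h; exact of_decide_eq_true h
  have hb1' : b1 = true → dp0 ∈ D := fun h => by
    rw [← hdp]; rw [hb1] at h; exact of_decide_eq_true h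
  clear_value b0 b1 b2 b3 b4
  rcases add_chk _ _ _ _ _ hadd with ⟨rfl, rfl, rfl, rfl, rfl⟩ | ⟨rfl, rfl, rfl, rfl, rfl⟩ | ⟨rfl, rfl, rfl, rfl, rfl⟩ | ⟨rfl, rfl⟩
  · obtain ⟨a, ha, hne⟩ := hne
    exact absurd ((dm_D0 a).mp ((hmem a).mp ha)) hne
  · left
    exact Finset.ext fun a => (hmem a).trans (dm_D1 a)
  · right
    exact Finset.ext fun a => (hmem a).trans (dm_D2 a)
  · exact (no_both H hμ1 hμ2 (hb0' rfl) (hb1' rfl)).elim

theorem ins_card1 : (insert dd XX).card = 23 := by decide +kernel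
theorem ins_card2 : (insert dd dXX).card = 23 := by decide +kernel

end Cfsg.Agent.Lib.S55
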