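import Mathlib
import Cfsg.Agent.Lib.S54Pack
import Cfsg.Agent.Lib.S54Core1
import Cfsg.Agent.Lib.S55Main

/-!
# The Thompson subgroup of a double cover of `PSU₆(2)`, model 1
-/

set_option autoImplicit false
set_option maxRecDepth 1000000
set_option linter.all false

namespace Cfsg.Agent.Lib.S54.M1

open Subgroup Cfsg.Agent.Lib.OutTree36 Cfsg.Agent.Lib.SchurFisLev Cfsg.Agent.Lib.SchurCox
  Cfsg.Spor Cfsg.Agent.Lib.TcBits Cfsg.Agent.Lib.TcPres Cfsg.Agent.Lib.PresChain36
  Cfsg.Agent.TcData.U0M22.I693 Cfsg.Agent.TcData.U0M22 Cfsg.Agent.TcChain36.Out.U0M22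
  Cfsg.Agent.Lib.S54

universe u

/-- The vectors of the coordinates. -/
def pmL : List ℕ := [1,2,4,8,16,32,64,128,256,512,591,693,236,630,952,381,427,865,902,979,346,159]

/-- Derivations of the code words. -/
def cdL : List (ℕ × List ℕ) := [(0,[]),(1,[]),(2,[]),(0,[1]),(1,[2]),(2,[1]),(0,[1,1]),(0,[2,1]),(1,[1,2]),(2,[1,1]),(0,[2,1,1]),(1,[1,1,2])]

/-- Sums of the code words. -/
def indL : List (List ℕ) := [[1,2,5],[1],[4,5],[5],[2,8,11],[1,2,5,11],[2,3,5,8,11],[1,2,7,11],[1,6,9,11],[1,2,5,10],[2,5,9,11],[0,2,4]]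


section pack

variable {E : Type*} [Group E] {σ : E →* Gu} {dE : E} {LP : ℕ → E}

/-- The model. -/
structure LPM (σ : E →* Gu) (dE : E) (LP : ℕ → E) : Prop where
  D : LPD σ dE LP
  v3 : vL LP lc3 = 1
  v4 : vL LP lc4 = dE
  v5 : vL LP lc5 = dE

variable (M : LPM σ dE LP)
include M

theorem bb_pq {j : ℕ} (hj : j < 22) (h10 : j ≠ 9) : Pu (σ (bb dE LP j)) (ptT j) := by
  unfold bb
  rw [if_neg h10]
  exact M.D.pq _ (ptT_lt j hj)

theorem bb_sq : ∀ k, k < 22 → bb dE LP k * bb dE LP k = 1 := by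
  intro k hk
  unfold bb
  split_ifs
  · exact M.D.hd2
  · exact M.D.sq _ (ptT_lt k hk)

theorem bb_comm : ∀ k l, k < 22 → l < 22 → bb dE LP k * bb dE LP l = bb dE LP l * bb dE LP k := by
  intro k l hk hl
  by_cases h1 : k = 9
  · subst h1
    simp only [bb, if_true]
    exact M.D.hcen _
  by_cases h2 : l = 9
  · subst h2
    simp only [bb, if_true]
    exact (M.D.hcen _).symm
  have h3 := M.D.conj _ (ptT_lt l hl) (bb dE LP k)
  have h4 : Phi (σ (bb dE LP k)) (ptT l) = ptT l := by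
    rw [trP_eq hk h1 (bb_pq M hk h1), ← evL_trW]
    rw [H.ev_eq _ (ptT_lt l hl)]
    exact comm_chk k hk l hl h1 h2
  rw [h4] at h3
  have h5 : LP (ptT l) = bb dE LP l := by simp [bb, h2]
  rw [h5] at h3
  calc bb dE LP k * bb dE LP l = bb dE LP k * bb dE LP l * (bb dE LP k)⁻¹ * bb dE LP k := by group
    _ = _ := by rw [h3]

/-- The value of a word of coordinates. -/
theorem psi_list (l : List ℕ) (hl : ∀ j ∈ l, j < 22) :
    nu (bb dE LP) 22 (l.foldr (fun j v => 2 ^ j ^^^ v) 0) = (l.map (bb dE LP)).prod := by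
  induction l with
  | nil => simp [nu_zero]
  | cons x l ih =>
    simp only [List.foldr_cons, List.map_cons, List.prod_cons]
    rw [nu_xor (fun k l hk hl => bb_comm M k l hk hl) (bb_sq M) _ _ 22 le_rfl,
      nu_single _ (hl x List.mem_cons_self), ih (fun j hj => hl j (List.mem_cons_of_mem _ hj))]

theorem map_bb {l : List ℕ} (h9 : ∀ j ∈ l, j ≠ 9) : l.map (bb dE LP) = l.map (fun j => LP (ptT j)) := by
  apply List.map_congr_left
  intro j hj
  simp [bb, h9 j hj]

theorem psi_0 {l : List ℕ} (hl : ∀ j ∈ l, j < 22 ∧ j ≠ 9) (hv : vL LP l = 1) :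
    nu (bb dE LP) 22 (l.foldr (fun j v => 2 ^ j ^^^ v) 0) = 1 := by
  rw [psi_list M l (fun j hj => (hl j hj).1), map_bb M (fun j hj => (hl j hj).2)]
  exact hv

theorem psi_1 {l : List ℕ} (hl : ∀ j ∈ l, j < 22 ∧ j ≠ 9) (hv : vL LP l = dE) :
    nu (bb dE LP) 22 ((9 :: l).foldr (fun j v => 2 ^ j ^^^ v) 0) = 1 := by
  rw [psi_list M (9 :: l) (by
    intro j hj
    rcases List.mem_cons.mp hj with rfl | h
    · norm_num
    · exact (hl j h).1)]
  simp only [List.map_cons, List.prod_cons]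
  rw [map_bb M (fun j hj => (hl j hj).2)]
  have h2 : bb dE LP 9 = dE := by simp [bb]
  rw [h2]
  show dE * vL LP l = 1
  rw [hv, M.D.hd2]

/-- The third code word. -/
def H3v : ℕ := (lc3).foldr (fun j v => 2 ^ j ^^^ v) 0
/-- The fourth code word. -/
def H4v : ℕ := (9 :: lc4).foldr (fun j v => 2 ^ j ^^^ v) 0
/-- The fifth code word. -/
def H5v : ℕ := (9 :: lc5).foldr (fun j v => 2 ^ j ^^^ v) 0

theorem psi_H3 : nu (bb dE LP) 22 H3v = 1 := psi_0 M (by decide) M.v3
theorem psi_H4 : nu (bb dE LP) 22 H4v = 1 := psi_1 M (by decide) M.v4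
theorem psi_H5 : nu (bb dE LP) 22 H5v = 1 := psi_1 M (by decide) M.v5

theorem gen_bb {i : ℕ} (hi : i ≤ 2) {c : E} (hc : σ c = evL Lt (wgL i)) {k : ℕ} (hk : k < 22) :
    c * bb dE LP k * c⁻¹ = bb dE LP (piT i k) := by
  by_cases h10 : k = 9
  · subst h10
    rw [pi_9 i hi]
    simp only [bb, if_true]
    rw [← M.D.hcen c]
    group
  · obtain ⟨h1, h2, h3⟩ := pi_chk i hi k hk h10
    simp only [bb, if_neg h10, if_neg h1]
    rw [M.D.conj _ (ptT_lt k hk), phi_word hc (ptT_lt k hk), h3]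

/-- The action of a generator on code words. -/
def apG (i m : ℕ) : ℕ := lin (fun k => 2 ^ piT i k) 22 m

theorem rel_ap {i : ℕ} (hi : i ≤ 2) {m : ℕ} (h : nu (bb dE LP) 22 m = 1) : nu (bb dE LP) 22 (apG i m) = 1 := by
  obtain ⟨c, hc⟩ := M.D.hs (evL Lt (wgL i))
  have h1 := conj_nu (m := 22) (e := bb dE LP) (fun k l hk hl => bb_comm M k l hk hl) (bb_sq M) (t := c⁻¹)
    (rows := fun k => 2 ^ piT i k) (fun k hk => by
      rw [inv_inv, gen_bb M hi hc hk, nu_single]
      by_cases h10 : k = 9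
      · subst h10
        rw [pi_9 i hi]
        norm_num
      · exact (pi_chk i hi k hk h10).2.1) m
  rw [h] at h1
  rw [apG, ← h1]
  group

theorem rel_apL (l : List ℕ) (hl : ∀ i ∈ l, i ≤ 2) {m : ℕ} (h : nu (bb dE LP) 22 m = 1) :
    nu (bb dE LP) 22 (l.foldr apG m) = 1 := by
  induction l with
  | nil => exact h
  | cons x l ih =>
    simp only [List.foldr_cons]
    exact rel_ap M (hl x List.mem_cons_self) (ih fun i hi => hl i (List.mem_cons_of_mem _ hi))

/-- A code word. -/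
def cdW (k : ℕ) : ℕ :=
  let d := cdL.getD k (0, [])
  d.2.foldr apG (if d.1 = 0 then H3v else if d.1 = 1 then H4v else H5v)

theorem rel_cd (k : ℕ) : nu (bb dE LP) 22 (cdW k) = 1 := by
  unfold cdW
  have h1 : ∀ k, ∀ i ∈ (cdL.getD k (0, [])).2, i ≤ 2 := by
    intro k i hi
    have h2 : ∀ d ∈ (0, ([] : List ℕ)) :: cdL, ∀ i ∈ d.2, i ≤ 2 := by decide
    by_cases hk : k < cdL.length
    · rw [List.getD_eq_getElem _ _ hk] at hi
      exact h2 _ (List.mem_cons_of_mem _ (List.getElem_mem hk)) i hi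
    · rw [List.getD_eq_default _ _ (by omega)] at hi
      simp at hi
  apply rel_apL M _ (h1 k)
  split_ifs
  · exact psi_H3 M
  · exact psi_H4 M
  · exact psi_H5 M

/-- The vector of a coordinate. -/
def pm (j : ℕ) : ℕ := pmL.getD j 0

omit M in
omit [Group E] in
theorem ind_chk : ∀ j, 10 ≤ j → j < 22 → (indL.getD (j - 10) []).foldr (fun k v => cdW k ^^^ v) 0 = 2 ^ j ^^^ pm j := by
  decide +kernel

theorem rel_xs (l : List ℕ) : nu (bb dE LP) 22 (l.foldr (fun k v => cdW k ^^^ v) 0) = 1 := by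
  induction l with
  | nil => exact nu_zero _ _
  | cons x l ih =>
    simp only [List.foldr_cons]
    rw [nu_xor (fun k l hk hl => bb_comm M k l hk hl) (bb_sq M) _ _ 22 le_rfl, rel_cd M, ih, one_mul]

/-- The encoding. -/
def enc (dE : E) (LP : ℕ → E) (v : ℕ) : E := nu (bb dE LP) 10 v

omit M in
omit [Group E] in
theorem pm_lt : ∀ j, j < 22 → pm j < 2 ^ 10 := by decide +kernel

omit M in
omit [Group E] in
theorem pm_low : ∀ j, j < 10 → pm j = 2 ^ j := by decide +kernel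

theorem bb_enc {j : ℕ} (hj : j < 22) : bb dE LP j = enc dE LP (pm j) := by
  by_cases h : j < 10
  · rw [pm_low j h, enc, nu_single _ h]
  · have h1 := rel_xs (M := M) (indL.getD (j - 10) [])
    rw [ind_chk j (by omega) hj, nu_xor (fun k l hk hl => bb_comm M k l hk hl) (bb_sq M) _ _ 22 le_rfl, nu_single _ hj] at h1
    have h2 : nu (bb dE LP) 22 (pm j) = enc dE LP (pm j) := nu_ext _ 10 12 _ (pm_lt j hj)
    rw [h2] at h1
    have h3 : enc dE LP (pm j) * enc dE LP (pm j) = 1 :=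
      nu_inv (fun k l hk hl => bb_comm M k l (by omega) (by omega)) (fun k hk => bb_sq M k (by omega)) _
    calc bb dE LP j = bb dE LP j * (enc dE LP (pm j) * enc dE LP (pm j)) := by rw [h3, mul_one]
      _ = (bb dE LP j * enc dE LP (pm j)) * enc dE LP (pm j) := by group
      _ = _ := by rw [h1, one_mul]

theorem enc_xor (u v : ℕ) : enc dE LP (u ^^^ v) = enc dE LP u * enc dE LP v :=
  nu_xor (fun k l hk hl => bb_comm M k l (by omega) (by omega)) (fun k hk => bb_sq M k (by omega)) _ _ 10 le_rfl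

theorem enc_sq (v : ℕ) : enc dE LP v * enc dE LP v = 1 :=
  nu_inv (fun k l hk hl => bb_comm M k l (by omega) (by omega)) (fun k hk => bb_sq M k (by omega)) _

theorem enc_comm (u v : ℕ) : enc dE LP u * enc dE LP v = enc dE LP v * enc dE LP u := by
  rw [← enc_xor M, ← enc_xor M, Nat.xor_comm]

theorem enc_dd : enc dE LP 512 = dE := by
  have : (512 : ℕ) = 2 ^ 9 := by norm_num
  rw [this, enc, nu_single _ (by norm_num)]
  simp [bb]

omit M in
omit [Group E] in
theorem rr_chk : ∀ i, i ≤ 2 → ∀ k, k < 10 → rr i k = pm (piT i k) := by decide +kernel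

theorem gen_enc {i : ℕ} (hi : i ≤ 2) {c : E} (hc : σ c = evL Lt (wgL i)) (v : ℕ) :
    c * enc dE LP v * c⁻¹ = enc dE LP (gN i v) := by
  have h1 := conj_nu (m := 10) (e := bb dE LP) (fun k l hk hl => bb_comm M k l (by omega) (by omega))
    (fun k hk => bb_sq M k (by omega)) (t := c⁻¹) (rows := rr i) (fun k hk => by
      rw [inv_inv, gen_bb M hi hc (by omega), rr_chk i hi k hk, bb_enc M]
      · rfl
      · by_cases h10 : k = 9
        · subst h10
          rw [pi_9 i hi]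
          norm_num
        · exact (pi_chk i hi k (by omega) h10).2.1) v
  rw [inv_inv] at h1
  exact h1

theorem bb_eE {k : ℕ} (hk : k < 9) : σ (bb dE LP k) = eE k :=
  pu_inj (bb_pq M (by omega) (by omega)) (eE_pu hk)

theorem sigma_enc (v : ℕ) : σ (enc dE LP v) = nu eE 9 v := by
  rw [enc, nu_map]
  have h1 : σ (bb dE LP 9) = 1 := by
    simp only [bb, if_true]
    exact (M.D.hker dE).mpr (Or.inr rfl)
  simp only [nu, h1]
  have h2 : (if v.testBit 9 = true then (1 : Gu) else 1) = 1 := by split_ifs <;> rfl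
  rw [h2, mul_one]
  exact nu_congr' (fun k hk => bb_eE M hk) v

theorem enc_mem (v : ℕ) : enc dE LP v ∈ V0.comap σ := by
  rw [Subgroup.mem_comap, sigma_enc M]
  exact nu_mem_sylV v

theorem mem_enc {x : E} (hx : x ∈ V0.comap σ) : ∃ v, v < 1024 ∧ x = enc dE LP v := by
  haveI := finGu
  obtain ⟨v, hv, h1⟩ := (mem_sylV sylD').1 (Subgroup.mem_comap.mp hx)
  rw [← sigma_enc M] at h1
  have h2 : σ (x * (enc dE LP v)⁻¹) = 1 := by
    rw [map_mul, map_inv, h1]
    simp
  have hv' : v < 2 ^ 10 := lt_of_lt_of_le hv (by norm_num)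
  rcases (M.D.hker _).mp h2 with h3 | h3
  · exact ⟨v, by omega, mul_inv_eq_one.mp h3⟩
  · refine ⟨v ^^^ 512, Nat.xor_lt_two_pow (n := 10) hv' (by norm_num), ?_⟩
    rw [enc_xor M, enc_dd M, ← M.D.hcen]
    exact mul_inv_eq_iff_eq_mul.mp h3

theorem enc_inj {u v : ℕ} (hu : u < 1024) (hv : v < 1024) (h : enc dE LP u = enc dE LP v) : u = v := by
  haveI := finGu
  have h1 : enc dE LP (u ^^^ v) = 1 := by
    rw [enc_xor M, h, enc_sq M]
  set w := u ^^^ v with hw
  have hw' : w < 2 ^ 10 := Nat.xor_lt_two_pow (n := 10) hu hv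
  have h2 : nu eE 9 w = 1 := by
    rw [← sigma_enc M, h1, map_one]
  have h3 : nu eE 9 (w % 2 ^ 9) = nu eE 9 0 := by
    rw [nu_mod _ 9 9 w le_rfl, h2, nu_zero]
  have h4 : w % 2 ^ 9 = 0 := nu_inj' sylD' (Nat.mod_lt _ (by norm_num)) (by norm_num) h3
  have h5 : w = 0 ∨ w = 512 := by omega
  rcases h5 with h5 | h5
  · exact Nat.eq_of_xor_eq_zero h5
  · exfalso
    rw [h5, enc_dd M] at h1
    exact M.D.hd1 h1

/-- An element normalising the subgroup permutes the points. -/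
theorem perm_X {c : E} (hc : ∀ x ∈ V0.comap σ, c * x * c⁻¹ ∈ V0.comap σ) {j : ℕ} (hj : j < 22) (h10 : j ≠ 9) :
    ∃ j', j' < 22 ∧ j' ≠ 9 ∧ c * bb dE LP j * c⁻¹ = bb dE LP j' := by
  haveI := finGu
  have hb : bb dE LP j = LP (ptT j) := by simp [bb, h10]
  have h1 := M.D.conj _ (ptT_lt j hj) c
  set q := Phi (σ c) (ptT j) with hq
  have hqlt : q < 693 := bd _ _ (ptT_lt j hj)
  have h2 : LP q ∈ V0.comap σ := by
    rw [← h1, ← hb, bb_enc M hj]
    exact hc _ (enc_mem M _)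
  have h3 : σ (LP q) ∈ V0 := Subgroup.mem_comap.mp h2
  obtain ⟨v, hv, h4⟩ := (mem_sylV sylD').1 h3
  have hfix : fixL q = true := by
    unfold fixL
    rw [List.all_eq_true]
    intro k hk
    have hk' : k < 9 := List.mem_range.mp hk
    have h5 : eE k * σ (LP q) = σ (LP q) * eE k := by
      rw [h4]
      have := nu_mul_comm sylD' (2 ^ k) v
      rwa [nu_single _ hk'] at this
    have h6 := (comm_iff_fix (eE_pu hk') (M.D.pq q hqlt)).mp h5
    have h7 : Phi (eE k) q = ev ap (DD.eW k) q := H.ev_eq _ hqlt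
    rw [h7] at h6
    rw [h6]
    exact Nat.beq_refl _
  have h8 := fix_chk ⟨q, hqlt⟩ hfix
  rw [List.any_eq_true] at h8
  obtain ⟨j', hj1, hj2⟩ := h8
  have hj3 : j' < 22 := List.mem_range.mp hj1
  simp only [Bool.and_eq_true, Bool.not_eq_true'] at hj2
  have h10' : j' ≠ 9 := by
    intro h
    rw [h] at hj2
    simp at hj2
  have h11 : ptT j' = q := Nat.eq_of_beq_eq_true hj2.2
  refine ⟨j', hj3, h10', ?_⟩
  rw [hb, h1]
  simp [bb, h10', h11]

end pack

theorem XX_pm (a : V) (ha : a ∈ XX) : ∃ j, j < 22 ∧ j ≠ 9 ∧ a.1 = pm j := by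
  have h1 := (gc2' a).mpr ((gc2 a).mp ha)
  have h2 : ∀ x ∈ XXL, (List.range 22).any (fun j => !Nat.beq j 9 && Nat.beq (pm j) x) = true := by decide +kernel
  have h3 := h2 _ (List.elem_iff.mp h1)
  rw [List.any_eq_true] at h3
  obtain ⟨j, hj1, hj2⟩ := h3
  simp only [Bool.and_eq_true, Bool.not_eq_true'] at hj2
  refine ⟨j, List.mem_range.mp hj1, ?_, (Nat.eq_of_beq_eq_true hj2.2).symm⟩
  intro h
  rw [h] at hj2
  simp at hj2

theorem pm_XX : ∀ j, j < 22 → j ≠ 9 → toV (pm j) ∈ XX := by decide +kernel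

section inner

variable {G : Type u} [Group G] [Finite G] {d : G}

open Cfsg.Agent.Lib.S55 (mem_normalizer_of_forward card_le_two CC)
open Cfsg.Agent.Lib.Fi22K (thompson_eq ea_of_map)

theorem inner (hd : orderOf d = 2) (hq : commutator ↥(CC d) = ⊤) (σ : ↥(CC d) →* Gu) (hs : Function.Surjective σ)
    (hker : ∀ x : ↥(CC d), σ x = 1 ↔ x = 1 ∨ (x : G) = d)
    (hnwc : ∃ g : G, g * d * g⁻¹ ∈ CC d ∧ g * d * g⁻¹ ≠ d)
    (S : Sylow 2 ↥(CC d)) (hS : (S : Subgroup ↥(CC d)) = T0.comap σ) (A : Subgroup G)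
    (hA : A = (Cfsg.thompsonSubgroupOf 2 (S : Subgroup ↥(CC d))).map (CC d).subtype)
    (hLP : ∃ LP : ℕ → ↥(CC d), LPM σ (⟨d, mem_centralizer_singleton_iff.mpr rfl⟩ : ↥(CC d)) LP) :
    Cfsg.IsElementaryAbelian 2 A ∧ Nat.card A = 2 ^ 10 ∧ Set.ncard {x : G | x ∈ A ∧ IsConj d x} = 22 ∧
      ∀ x ∈ A, ∀ y ∈ A, IsConj d x → IsConj d y → ∃ n ∈ Subgroup.normalizer (A : Set G), n * x * n⁻¹ = y := by
  classical
  haveI := finGu
  have hdc : d ∈ CC d := by
    rw [mem_centralizer_singleton_iff]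
  set dE : ↥(CC d) := ⟨d, hdc⟩ with hdE
  have hker' : ∀ x : ↥(CC d), σ x = 1 ↔ x = 1 ∨ x = dE := by
    intro x
    rw [hker]
    constructor
    · rintro (h | h)
      · exact Or.inl h
      · exact Or.inr (Subtype.ext h)
    · rintro (h | h)
      · exact Or.inl h
      · exact Or.inr (by rw [h])
  have hd1' : d ≠ 1 := by
    rintro rfl
    rw [orderOf_one] at hd
    omega
  have hd2' : d * d = 1 := by
    have := pow_orderOf_eq_one d
    rwa [hd, pow_two] at this
  have hd1 : dE ≠ 1 := fun h => hd1' (congrArg Subtype.val h)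
  have hd2 : dE * dE = 1 := Subtype.ext hd2'
  have hcen : ∀ x : ↥(CC d), dE * x = x * dE := by
    intro x
    apply Subtype.ext
    exact (mem_centralizer_singleton_iff.mp x.2).symm
  have hK : σ.ker ≤ center ↥(CC d) := by
    intro x hx
    rw [mem_center_iff]
    intro y
    rcases (hker' x).mp hx with h | h
    · rw [h]; simp
    · rw [h]; exact (hcen y).symm
  obtain ⟨LP, D⟩ := hLP
  set AA : Subgroup ↥(CC d) := V0.comap σ with hAA
  -- the encoding
  have hbij : Function.Bijective (fun a : V => (⟨enc dE LP a.1, enc_mem D _⟩ : AA)) := by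
    constructor
    · intro a b hab
      exact Fin.ext (enc_inj D a.2 b.2 (congrArg Subtype.val hab))
    · rintro ⟨x, hx⟩
      obtain ⟨v, hv, rfl⟩ := mem_enc D hx
      exact ⟨⟨v, hv⟩, rfl⟩
  have hcardAA : Nat.card AA = 2 ^ 10 := by
    rw [← Nat.card_congr (Equiv.ofBijective _ hbij)]
    simp
  have hEA : Cfsg.IsElementaryAbelian 2 AA := by
    refine ⟨⟨⟨?_⟩⟩, ?_⟩
    · rintro ⟨x, hx⟩ ⟨y, hy⟩
      apply Subtype.ext
      obtain ⟨v, _, rfl⟩ := mem_enc D hx
      obtain ⟨w, _, rfl⟩ := mem_enc D hy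
      exact enc_comm D v w
    · intro x hx
      obtain ⟨v, _, rfl⟩ := mem_enc D hx
      rw [pow_two, enc_sq D]
  have hAAS : AA ≤ (S : Subgroup ↥(CC d)) := by
    rw [hS]
    exact Subgroup.comap_mono (sylV_le sylD')
  have hmax : ∀ F : Subgroup ↥(CC d), F ≤ (S : Subgroup ↥(CC d)) → Cfsg.IsElementaryAbelian 2 F →
      Nat.card F ≤ Nat.card AA ∧ (Nat.card F = Nat.card AA → F = AA) := by
    intro F hF hEF
    rw [hcardAA]
    by_cases hV : F.map σ ≤ sylV eE 9
    · have h1 : F ≤ AA := Subgroup.map_le_iff_le_comap.mp hV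
      have hle : Nat.card F ≤ Nat.card AA := Subgroup.card_le_of_le h1
      rw [hcardAA] at hle
      refine ⟨hle, fun h => Subgroup.eq_of_le_of_card_ge h1 ?_⟩
      rw [hcardAA, h]
    · have hT : F.map σ ≤ sylT eE tE 9 6 := by
        rw [Subgroup.map_le_iff_le_comap]
        rw [hS] at hF
        exact hF
      have hcom : ∀ x ∈ F.map σ, ∀ y ∈ F.map σ, x * y = y * x := by
        rintro _ ⟨x, hx, rfl⟩ _ ⟨y, hy, rfl⟩
        rw [← map_mul, ← map_mul, ea_mul_comm hEF hx hy]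
      have hsq : ∀ x ∈ F.map σ, x * x = 1 := by
        rintro _ ⟨x, hx, rfl⟩
        have := hEF.2 x hx
        rw [pow_two] at this
        rw [← map_mul, this, map_one]
      have h1 := ea_lt sylD' (a := 6) (by norm_num) (L := fun i v => DD.linK i 9 v) (fun i v => DD.linK_eq i 9 v) hchkEAU _ hT hcom hsq hV
      have h2 := card_le_two σ dE hker' F
      refine ⟨by omega, fun h => ?_⟩
      exfalso
      omega
  have hJ : Cfsg.thompsonSubgroupOf 2 (S : Subgroup ↥(CC d)) = AA := thompson_eq hAAS hEA hmax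
  rw [hJ] at hA
  -- the elements of `A`
  let enc' : V → G := fun a => ((enc dE LP a.1 : ↥(CC d)) : G)
  have henc_inj : Function.Injective enc' := by
    intro a b hab
    exact Fin.ext (enc_inj D a.2 b.2 (Subtype.ext hab))
  have hmemA : ∀ x : G, x ∈ A ↔ ∃ a, x = enc' a := by
    intro x
    rw [hA]
    constructor
    · rintro ⟨y, hy, rfl⟩
      obtain ⟨v, hv, rfl⟩ := mem_enc D hy
      exact ⟨⟨v, hv⟩, rfl⟩
    · rintro ⟨a, rfl⟩
      exact ⟨_, enc_mem D _, rfl⟩
  have henc_xr : ∀ a b, enc' (xr a b) = enc' a * enc' b := by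
    intro a b
    show ((enc dE LP (a.1 ^^^ b.1) : ↥(CC d)) : G) = _
    rw [enc_xor D]
    rfl
  have henc_dd : enc' dd = d := by
    show ((enc dE LP 512 : ↥(CC d)) : G) = _
    rw [enc_dd D]
  have hcomA : ∀ x ∈ A, ∀ y ∈ A, x * y = y * x := by
    intro x hx y hy
    obtain ⟨a, rfl⟩ := (hmemA x).mp hx
    obtain ⟨b, rfl⟩ := (hmemA y).mp hy
    exact congrArg Subtype.val (enc_comm D a.1 b.1)
  have hsqA : ∀ x ∈ A, x * x = 1 := by
    intro x hx
    obtain ⟨a, rfl⟩ := (hmemA x).mp hx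
    exact congrArg Subtype.val (enc_sq D a.1)
  have hcardA : Nat.card A = 2 ^ 10 := by
    rw [hA, ← hcardAA]
    exact (Nat.card_congr (AA.equivMapOfInjective _ (CC d).subtype_injective).toEquiv).symm
  have hEAA : Cfsg.IsElementaryAbelian 2 A := by
    rw [hA]
    exact ea_of_map hEA
  -- conjugates
  have htrans : ∀ x ∈ A, IsConj d x → ∃ n ∈ normalizer (A : Set G), n * d * n⁻¹ = x := by
    intro x hx hc
    obtain ⟨g, rfl⟩ := isConj_iff.mp hc
    have hcg : ∀ a : A, g⁻¹ * (a : G) * g ∈ CC d := by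
      intro a
      rw [mem_centralizer_singleton_iff]
      have h1 := hcomA a a.2 _ hx
      calc g⁻¹ * a * g * d = g⁻¹ * (a * (g * d * g⁻¹)) * g := by group
        _ = g⁻¹ * ((g * d * g⁻¹) * a) * g := by rw [h1]
        _ = d * (g⁻¹ * a * g) := by group
    let φ : A →* ↥(CC d) :=
      { toFun := fun a => ⟨g⁻¹ * a * g, hcg a⟩
        map_one' := Subtype.ext (by simp)
        map_mul' := fun a b => Subtype.ext (by
          show g⁻¹ * ((a : G) * b) * g = (g⁻¹ * a * g) * (g⁻¹ * b * g)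
          group) }
    have hφ1 : ∀ a : A, ((φ a : ↥(CC d)) : G) = g⁻¹ * a * g := fun a => rfl
    have hφi : Function.Injective φ := by
      intro a b hab
      have h1 : g⁻¹ * (a : G) * g = g⁻¹ * b * g := congrArg Subtype.val hab
      exact Subtype.ext (by simpa using h1)
    have hpg : IsPGroup 2 φ.range := by
      rintro ⟨_, a, rfl⟩
      refine ⟨1, Subtype.ext (Subtype.ext ?_)⟩
      show (g⁻¹ * (a : G) * g) ^ 2 ^ 1 = 1
      have h1 := hsqA a a.2
      calc (g⁻¹ * (a : G) * g) ^ 2 ^ 1 = g⁻¹ * ((a : G) * a) * g := by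
            simp only [pow_one, pow_two]; group
        _ = 1 := by rw [h1]; group
    obtain ⟨S1, hS1⟩ := hpg.exists_le_sylow
    obtain ⟨c, hc'⟩ := MulAction.exists_smul_eq ↥(CC d) S S1
    let ψ : A →* ↥(CC d) := (MulAut.conj c⁻¹).toMonoidHom.comp φ
    have hψ1 : ∀ a : A, ((ψ a : ↥(CC d)) : G) = (c : G)⁻¹ * (g⁻¹ * a * g) * c := by
      intro a
      show (((MulAut.conj c⁻¹) (φ a) : ↥(CC d)) : G) = _
      rw [MulAut.conj_apply]
      simp [hφ1]
    have hψi : Function.Injective ψ := by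
      intro a b hab
      apply hφi
      exact (MulAut.conj c⁻¹).injective hab
    have hF2S : ψ.range ≤ (S : Subgroup ↥(CC d)) := by
      rintro _ ⟨a, rfl⟩
      have h1 : φ a ∈ (S1 : Subgroup ↥(CC d)) := hS1 ⟨a, rfl⟩
      rw [← hc', Sylow.coe_subgroup_smul, Subgroup.mem_smul_pointwise_iff_exists] at h1
      obtain ⟨s, hs1, hs2⟩ := h1
      have h2 : ψ a = s := by
        show (MulAut.conj c⁻¹) (φ a) = s
        rw [← hs2, MulAut.smul_def, MulAut.conj_apply, MulAut.conj_apply]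
        group
      rw [h2]
      exact hs1
    have hEF2 : Cfsg.IsElementaryAbelian 2 ψ.range := by
      refine ⟨⟨⟨?_⟩⟩, ?_⟩
      · rintro ⟨_, a, rfl⟩ ⟨_, b, rfl⟩
        apply Subtype.ext
        show ψ a * ψ b = ψ b * ψ a
        rw [← map_mul, ← map_mul]
        congr 1
        exact Subtype.ext (hcomA a a.2 b b.2)
      · rintro _ ⟨a, rfl⟩
        rw [pow_two, ← map_mul]
        have : a * a = 1 := Subtype.ext (hsqA a a.2)
        rw [this, map_one]
    have hcF : Nat.card ψ.range = Nat.card AA := by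
      rw [hcardAA, ← hcardA]
      exact (Nat.card_congr (MonoidHom.ofInjective hψi).toEquiv).symm
    have hF2 : ψ.range = AA := (hmax _ hF2S hEF2).2 hcF
    refine ⟨g * c, ?_, ?_⟩
    · apply mem_normalizer_of_forward
      intro h hh
      rw [hA] at hh
      obtain ⟨y, hy, rfl⟩ := hh
      have h1 : y ∈ ψ.range := by rw [hF2]; exact hy
      obtain ⟨a, rfl⟩ := h1
      have h2 : (g * (c : G)) * ((CC d).subtype (ψ a)) * (g * c)⁻¹ = a := by
        show (g * (c : G)) * ((ψ a : ↥(CC d)) : G) * (g * c)⁻¹ = a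
        rw [hψ1]
        group
      rw [h2]
      exact a.2
    · have h1 : (c : G) * d = d * c := mem_centralizer_singleton_iff.mp c.2
      calc g * (c : G) * d * (g * c)⁻¹ = g * ((c : G) * d) * (c : G)⁻¹ * g⁻¹ := by group
        _ = g * (d * c) * (c : G)⁻¹ * g⁻¹ := by rw [h1]
        _ = g * d * g⁻¹ := by group
  have hperm : ∀ n ∈ normalizer (A : Set G), ∃ ν : Equiv.Perm V, ∀ a, enc' (ν a) = n * enc' a * n⁻¹ := by
    intro n hn
    have h1 : ∀ a, ∃ b, enc' b = n * enc' a * n⁻¹ := by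
      intro a
      have h2 : enc' a ∈ A := (hmemA _).mpr ⟨a, rfl⟩
      have h3 := (mem_normalizer_iff.mp hn _).mp h2
      obtain ⟨b, hb⟩ := (hmemA _).mp h3
      exact ⟨b, hb.symm⟩
    choose f hf using h1
    have hinj : Function.Injective f := by
      intro a b hab
      apply henc_inj
      have h2 : n * enc' a * n⁻¹ = n * enc' b * n⁻¹ := by rw [← hf, ← hf, hab]
      simpa using h2
    exact ⟨Equiv.ofBijective f (Finite.injective_iff_bijective.mp hinj), hf⟩
  -- the group of linear maps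
  let NN : Subgroup (Equiv.Perm V) :=
    { carrier := {ν | ∃ n ∈ normalizer (A : Set G), ∀ a, enc' (ν a) = n * enc' a * n⁻¹}
      one_mem' := ⟨1, Subgroup.one_mem _, fun a => by simp⟩
      mul_mem' := by
        rintro ν ν' ⟨n, hn, h⟩ ⟨n', hn', h'⟩
        refine ⟨n * n', Subgroup.mul_mem _ hn hn', fun a => ?_⟩
        rw [Equiv.Perm.mul_apply, h, h']
        group
      inv_mem' := by
        rintro ν ⟨n, hn, h⟩
        refine ⟨n⁻¹, Subgroup.inv_mem _ hn, fun a => ?_⟩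
        have h1 := h (ν⁻¹ a)
        have h2 : ν (ν⁻¹ a) = a := by simp
        rw [h2] at h1
        rw [h1]
        group }
  have hNN : ∀ ν, ν ∈ NN ↔ ∃ n ∈ normalizer (A : Set G), ∀ a, enc' (ν a) = n * enc' a * n⁻¹ := fun ν => Iff.rfl
  let DD' : Finset V := Finset.univ.filter (fun a => IsConj d (enc' a))
  have hDD : ∀ a, a ∈ DD' ↔ IsConj d (enc' a) := by
    intro a
    simp [DD']
  have hH : Hyp NN DD' := by
    refine ⟨?_, ?_, ?_, ?_, ?_, ?_⟩
    · rintro ν ⟨n, hn, h⟩ a b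
      apply henc_inj
      rw [h, henc_xr, henc_xr, h, h]
      group
    · rintro ν ⟨n, hn, h⟩ a ha
      rw [hDD] at ha ⊢
      rw [h]
      exact ha.trans (isConj_iff.mpr ⟨n, rfl⟩)
    · rw [hDD, henc_dd]
    · intro a ha
      have hc := (hDD a).mp ha
      obtain ⟨n, hn, h1⟩ := htrans _ ((hmemA _).mpr ⟨a, rfl⟩) hc
      obtain ⟨ν, hν⟩ := hperm n hn
      refine ⟨ν, ⟨n, hn, hν⟩, ?_⟩
      apply henc_inj
      rw [hν, henc_dd, h1]
    · rintro ν ⟨n, hn, h⟩ hdd a ha
      have h1 : n * d * n⁻¹ = d := by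
        have h2 := h dd
        rw [hdd, henc_dd] at h2
        exact h2.symm
      have hnc : n ∈ CC d := by
        rw [mem_centralizer_singleton_iff]
        calc n * d = n * d * n⁻¹ * n := by group
          _ = d * n := by rw [h1]
      let c : ↥(CC d) := ⟨n, hnc⟩
      have hc : ∀ x ∈ V0.comap σ, c * x * c⁻¹ ∈ V0.comap σ := by
        intro x hx
        have h2 : (x : G) ∈ A := by
          rw [hA]
          exact ⟨x, hx, rfl⟩
        have h3 := (mem_normalizer_iff.mp hn _).mp h2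
        rw [hA] at h3
        obtain ⟨y, hy, hy2⟩ := h3
        have h4 : y = c * x * c⁻¹ := Subtype.ext hy2
        rw [← h4]
        exact hy
      obtain ⟨j, hj, h10, hj2⟩ := XX_pm a ha
      obtain ⟨j', hj', h10', h2⟩ := perm_X D hc hj h10
      have h3 : enc' (ν a) = enc' (toV (pm j')) := by
        rw [h]
        show n * ((enc dE LP a.1 : ↥(CC d)) : G) * n⁻¹ = ((enc dE LP (toV (pm j')).1 : ↥(CC d)) : G)
        have h4 : (toV (pm j')).1 = pm j' := Nat.mod_eq_of_lt (pm_lt j' hj')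
        rw [h4, hj2, ← bb_enc D hj, ← bb_enc D hj', ← h2]
        rfl
      rw [henc_inj h3]
      exact pm_XX j' hj' h10'
    · intro i hi
      obtain ⟨c, hc⟩ := hs (evL Lt (wgL i))
      have h1 : ∀ a : V, (c : G) * enc' a * (c : G)⁻¹ = enc' (gV i a) := by
        intro a
        have h2 := gen_enc D hi hc a.1
        exact congrArg Subtype.val h2
      have hn : (c : G) ∈ normalizer (A : Set G) := by
        apply mem_normalizer_of_forward
        intro x hx
        obtain ⟨a, rfl⟩ := (hmemA x).mp hx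
        rw [h1]
        exact (hmemA _).mpr ⟨_, rfl⟩
      obtain ⟨ν, hν⟩ := hperm _ hn
      refine ⟨ν, ⟨_, hn, hν⟩, fun a => ?_⟩
      apply henc_inj
      rw [hν, h1]
  have hne : ∃ a ∈ DD', a ≠ dd := by
    obtain ⟨g, hg1, hg2⟩ := hnwc
    let y : ↥(CC d) := ⟨g * d * g⁻¹, hg1⟩
    have hy1 : σ y ≠ 1 := by
      intro h
      rcases (hker y).mp h with h1 | h1
      · have h2 : g * d * g⁻¹ = 1 := congrArg Subtype.val h1
        apply hd1'
        have h3 : d = g⁻¹ * (g * d * g⁻¹) * g := by group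
        rw [h3, h2]
        group
      · exact hg2 h1
    have hyy : y * y = 1 := by
      apply Subtype.ext
      show g * d * g⁻¹ * (g * d * g⁻¹) = 1
      calc g * d * g⁻¹ * (g * d * g⁻¹) = g * (d * d) * g⁻¹ := by group
        _ = 1 := by rw [hd2']; group
    have hy2 : σ y * σ y = 1 := by rw [← map_mul, hyy, map_one]
    obtain ⟨kk, hkk⟩ := Cfsg.Agent.Lib.DoubleLift.U0.inv_rep hy2 hy1
    set g0 := evL Lt gwF with hg0
    have hcj : ∀ (i pt j : ℕ), Pu (Lt i) pt → ev ap gwF pt = ptT j → j < 22 → j ≠ 9 → g0 * Lt i * g0⁻¹ ∈ V0 := by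
      intro i pt j h1 h2 h3 h4
      have hlt : pt < 693 := lt_of_pu h1
      have h5 := pu_conj h1 g0
      rw [phi_word hg0 hlt, h2] at h5
      have h6 := pu_inj h5 (bb_pq D h3 h4)
      rw [h6, bb_enc D h3]
      exact Subgroup.mem_comap.mp (enc_mem D _)
    have h00 := hcj 0 (ptL 0) 7 (Lt_pu 0 (by norm_num)) (by decide +kernel) (by norm_num) (by norm_num)
    have h02 := hcj 2 (ptL 2) 3 (Lt_pu 2 (by norm_num)) (by decide +kernel) (by norm_num) (by norm_num)
    have h06 := hcj 6 (ptL 6) 10 (Lt_pu 6 (by norm_num)) (by decide +kernel) (by norm_num) (by norm_num)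
    have hkey : ∃ w : Gu, IsConj w (σ y) ∧ g0 * w * g0⁻¹ ∈ V0 := by
      refine ⟨_, hkk, ?_⟩
      rcases kk with _ | _ | kk
      · have e : evL Lt (Cfsg.Agent.Lib.DoubleLift.U0.repK 0) = Lt 0 := by
          simp [Cfsg.Agent.Lib.DoubleLift.U0.repK]
        rw [e]
        exact h00
      · have e : evL Lt (Cfsg.Agent.Lib.DoubleLift.U0.repK 1) = Lt 0 * Lt 2 := by
          simp [Cfsg.Agent.Lib.DoubleLift.U0.repK]
        rw [e]
        have : g0 * (Lt 0 * Lt 2) * g0⁻¹ = (g0 * Lt 0 * g0⁻¹) * (g0 * Lt 2 * g0⁻¹) := by group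
        rw [this]
        exact mul_mem h00 h02
      · have e : evL Lt (Cfsg.Agent.Lib.DoubleLift.U0.repK (kk + 2)) = Lt 0 * Lt 2 * Lt 6 := by
          simp [Cfsg.Agent.Lib.DoubleLift.U0.repK, mul_assoc]
        rw [e]
        have : g0 * (Lt 0 * Lt 2 * Lt 6) * g0⁻¹ = (g0 * Lt 0 * g0⁻¹) * (g0 * Lt 2 * g0⁻¹) * (g0 * Lt 6 * g0⁻¹) := by group
        rw [this]
        exact mul_mem (mul_mem h00 h02) h06
    obtain ⟨w, hw1, hw2⟩ := hkey
    obtain ⟨u, hu⟩ := isConj_iff.mp hw1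
    obtain ⟨ĥ, hĥ⟩ := hs (g0 * u⁻¹)
    have hz : ĥ * y * ĥ⁻¹ ∈ V0.comap σ := by
      rw [Subgroup.mem_comap, map_mul, map_mul, map_inv, hĥ, ← hu]
      have : g0 * u⁻¹ * (u * w * u⁻¹) * (g0 * u⁻¹)⁻¹ = g0 * w * g0⁻¹ := by group
      rw [this]
      exact hw2
    obtain ⟨v, hv, hv2⟩ := mem_enc D hz
    refine ⟨⟨v, hv⟩, ?_, ?_⟩
    · rw [hDD]
      show IsConj d ((enc dE LP v : ↥(CC d)) : G)
      rw [← hv2]
      refine isConj_iff.mpr ⟨(ĥ : G) * g, ?_⟩
      show (ĥ : G) * g * d * ((ĥ : G) * g)⁻¹ = (ĥ : G) * (g * d * g⁻¹) * (ĥ : G)⁻¹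
      group
    · intro h
      have h1 : v = 512 := congrArg Fin.val h
      rw [h1, enc_dd D] at hv2
      apply hg2
      have h2 : y = dE := by
        have h3 : ĥ⁻¹ * (ĥ * y * ĥ⁻¹) * ĥ = y := by group
        rw [← h3, hv2, ← hcen]
        group
      exact congrArg Subtype.val h2
  have hcore := core hH hne
  have hset : {x : G | x ∈ A ∧ IsConj d x} = enc' '' (DD' : Set V) := by
    ext x
    simp only [Set.mem_setOf_eq, Set.mem_image, Finset.mem_coe]
    constructor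
    · rintro ⟨h1, h2⟩
      obtain ⟨a, rfl⟩ := (hmemA x).mp h1
      exact ⟨a, (hDD a).mpr h2, rfl⟩
    · rintro ⟨a, h1, rfl⟩
      exact ⟨(hmemA _).mpr ⟨a, rfl⟩, (hDD a).mp h1⟩
  refine ⟨hEAA, hcardA, ?_, ?_⟩
  · rw [hset, Set.ncard_image_of_injective _ henc_inj, Set.ncard_coe_finset]
    rcases hcore with h | h
    · rw [h]; exact ins_card1
    · rw [h]; exact ins_card2
  · intro x hx y hy hcx hcy
    obtain ⟨n, hn, rfl⟩ := htrans x hx hcx
    obtain ⟨m, hm, rfl⟩ := htrans y hy hcy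
    refine ⟨m * n⁻¹, Subgroup.mul_mem _ hm (Subgroup.inv_mem _ hn), ?_⟩
    group



end inner

end Cfsg.Agent.Lib.S54.M1
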