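-- Shared library: a presentation of U4(3) on tables, extracted so that only what the presentation needs is imported.
import Mathlib
import Cfsg.Agent.Lib.U43Tc0
import Cfsg.Agent.Lib.U33Tc
import Cfsg.Agent.Lib.U43Lv
import Cfsg.Agent.Lib.SchurTower

set_option autoImplicit false
set_option maxRecDepth 100000
set_option linter.unusedVariables false
set_option linter.unusedSectionVars false

namespace Cfsg.Agent.Lib.S5520P

open Cfsg Matrix Subgroup Cfsg.Agent.Lib.SchurCoset46 Cfsg.Agent.Lib.SchurPack Cfsg.Agent.Lib.SchurPackC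
  Cfsg.Agent.Lib.SchurPerf Cfsg.Agent.Lib.SchurRep Cfsg.Agent.Lib.SchurTower Cfsg.Agent.Lib.U43Mat
  Cfsg.Agent.Lib.U43Chain Cfsg.Agent.Lib.U43Lv Cfsg.Agent.Lib.F9K

theorem tcf33 : TCf 2 864 U33Tc.relsL [0] := fun W _ x hg hr H hH => U33Tc.index_le x hg hr H hH

theorem ordBd33 : OrdBd 2 U33Tc.relsL 6048 :=
  OrdBd.step (k := 0) (m' := 1) (N' := 7) tcf33 (ordBd_cyc 7 (by norm_num)) (by decide) (by decide) (by decide +kernel)

theorem rels_lt33 : ∀ r ∈ U33Tc.relsL, ∀ l ∈ r, l < 2 * 2 := by decide +kernel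

/-- The letters. -/
def lT (l : ℕ) : Mt := decM (lC.getD l 0)

theorem det0 : (toM (lT 0)).det = 1 := by decide +kernel
theorem det2 : (toM (lT 2)).det = 1 := by decide +kernel
theorem det6 : (toM (lT 6)).det = 1 := by decide +kernel

theorem uni0 : mmul (trM (lT 0)) (cjM (lT 0)) = oneM := meq_eq (by decide +kernel)
theorem uni2 : mmul (trM (lT 2)) (cjM (lT 2)) = oneM := meq_eq (by decide +kernel)
theorem uni6 : mmul (trM (lT 6)) (cjM (lT 6)) = oneM := meq_eq (by decide +kernel)

theorem lT40 : lT 4 = lT 0 := rfl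
theorem lT51 : lT 5 = lT 1 := rfl

/-- The generators in `SU`. -/
def st : ℕ → SU0
  | 0 => ofMt (lT 0) det0 uni0
  | 1 => ofMt (lT 2) det2 uni2
  | 2 => ofMt (lT 0) det0 uni0
  | _ => ofMt (lT 6) det6 uni6

theorem Rq_lett : ∀ l, l < 8 → Rq (lett st l) (lT l) := by
  intro l hl
  interval_cases l
  · exact rfl
  · exact Rq_inv (x := lT 0) rfl (meq_eq (by decide +kernel))
  · exact rfl
  · exact Rq_inv (x := lT 2) rfl (meq_eq (by decide +kernel))
  · exact rfl
  · exact Rq_inv (x := lT 0) rfl (meq_eq (by decide +kernel))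
  · exact rfl
  · exact Rq_inv (x := lT 6) rfl (meq_eq (by decide +kernel))

/-- The table of a word. -/
def evT (w : List ℕ) : Mt := w.foldr (fun l y => mmul (lT l) y) oneM

theorem ev_of {w : List ℕ} (h : ∀ l ∈ w, l < 8) : Rq (evW st w) (evT w) :=
  evW_rep (Rp := Rq) (mulX := mmul) (oneX := oneM) (lM := lT) (s := st) Rq_mul Rq_one (L := 8) Rq_lett w h

/-- The generators. -/
def sG (i : ℕ) : S0 := pr (st i)

theorem lett_sG (l : ℕ) : lett sG l = pr (lett st l) := by
  unfold lett
  split_ifs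
  · rfl
  · show (pr _)⁻¹ = _
    rw [map_inv]

theorem evW_sG (w : List ℕ) : evW sG w = pr (evW st w) := by
  induction w with
  | nil => exact (map_one pr).symm
  | cons l w ih =>
    show lett sG l * evW sG w = pr (lett st l * evW st w)
    rw [map_mul, lett_sG, ih]

/-- The scalars of norm one. -/
def isS (m : Mt) : Bool :=
  meq m (scal (⟨1, by decide⟩ : Fin 9)) || (meq m (scal (⟨3, by decide⟩ : Fin 9)) ||
    (meq m (scal (⟨2, by decide⟩ : Fin 9)) || meq m (scal (⟨6, by decide⟩ : Fin 9))))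

/-- The test for a relator. -/
def relChk (w : List ℕ) : Bool := w.all (fun l => Nat.blt l 8) && isS (evT w)

theorem rel_of_chk {w : List ℕ} (h : relChk w = true) : evW sG w = 1 := by
  simp only [relChk, Bool.and_eq_true, List.all_eq_true] at h
  obtain ⟨h1, h2⟩ := h
  have h3 := ev_of (w := w) (fun l hl => by simpa using h1 l hl)
  rw [evW_sG]
  have hc : evW st w ∈ Subgroup.center SU0 := by
    simp only [isS, Bool.or_eq_true] at h2
    rcases h2 with h4 | h4 | h4 | h4
    · rw [meq_eq h4] at h3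
      exact central_of_scal h3
    · rw [meq_eq h4] at h3
      exact central_of_scal h3
    · rw [meq_eq h4] at h3
      exact central_of_scal h3
    · rw [meq_eq h4] at h3
      exact central_of_scal h3
  exact (QuotientGroup.eq_one_iff _).mpr hc

/-- The relators. -/
abbrev R : List (List ℕ) := U43Tc0.relsL

theorem rels_chk : R.all relChk = true := by decide +kernel

theorem rels_ok : ∀ r ∈ R, evW sG r = 1 := fun r hr => rel_of_chk (List.all_eq_true.mp rels_chk r hr)

theorem rels_lt : ∀ r ∈ R, ∀ l ∈ r, l < 2 * 4 := by decide +kernel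

/-! ### Generation -/

/-- The word of the fourth generator. -/
def wb : List ℕ := [1, 2, 2, 0, 3, 0, 2, 0, 2, 2, 1, 2, 2, 2]

theorem relA : [5, 0] ∈ R := by decide +kernel
theorem relB : 7 :: wb ∈ R := by decide +kernel

theorem hwC (C : Subgroup S0) (h0 : sG 0 ∈ C) (h1 : sG 1 ∈ C) :
    ∀ w : List ℕ, (∀ l ∈ w, l < 4) → evW sG w ∈ C := by
  intro w
  induction w with
  | nil => intro _; exact one_mem _
  | cons l w ih =>
    intro h
    refine mul_mem ?_ (ih (fun a ha => h a (List.mem_cons_of_mem _ ha)))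
    have hl := h l List.mem_cons_self
    interval_cases l
    · rw [show lett sG 0 = sG 0 from rfl]; exact h0
    · rw [show lett sG 1 = (sG 0)⁻¹ from rfl]; exact inv_mem h0
    · rw [show lett sG 2 = sG 1 from rfl]; exact h1
    · rw [show lett sG 3 = (sG 1)⁻¹ from rfl]; exact inv_mem h1

theorem sG2 : sG 2 = sG 0 := rfl

theorem sG3 : sG 3 = evW sG wb := by
  have h := rels_ok _ relB
  have h2 : lett sG 7 * evW sG wb = 1 := h
  rw [show lett sG 7 = (sG 3)⁻¹ from rfl] at h2
  exact (inv_mul_eq_one.mp h2)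

/-- The second level. -/
def L2 : Subgroup SU0 := closure {st 2, st 3}

/-- The generators of the third level. -/
def g3 (i : ℕ) : SU0 := evW st (wC.getD i [])

/-- The third level. -/
def L3 : Subgroup SU0 := closure (g3 '' Set.Iio lvl3.m)

/-- Words in the letters of the second level. -/
theorem hwL2 : ∀ w : List ℕ, (∀ l ∈ w, 4 ≤ l ∧ l < 8) → evW st w ∈ L2 := by
  have h2 : st 2 ∈ L2 := subset_closure (by simp)
  have h3 : st 3 ∈ L2 := subset_closure (by simp)
  intro w
  induction w with
  | nil => intro _; exact one_mem _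
  | cons l w ih =>
    intro h
    refine mul_mem ?_ (ih (fun a ha => h a (List.mem_cons_of_mem _ ha)))
    obtain ⟨h4, h8⟩ := h l List.mem_cons_self
    interval_cases l
    · rw [show lett st 4 = st 2 from rfl]; exact h2
    · rw [show lett st 5 = (st 2)⁻¹ from rfl]; exact inv_mem h2
    · rw [show lett st 6 = st 3 from rfl]; exact h3
    · rw [show lett st 7 = (st 3)⁻¹ from rfl]; exact inv_mem h3

theorem wC_chk : (List.range lvl3.m).all (fun i => (wC.getD i []).all (fun l => Nat.ble 4 l && Nat.blt l 8) &&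
    meq (evT (wC.getD i [])) (decM (mC.getD i 0))) = true := by decide +kernel

theorem wC_of {i : ℕ} (hi : i < lvl3.m) : (∀ l ∈ wC.getD i [], 4 ≤ l ∧ l < 8) ∧ Rq (g3 i) (decM (mC.getD i 0)) := by
  have h1 := List.all_eq_true.mp wC_chk i (List.mem_range.mpr hi)
  simp only [Bool.and_eq_true, List.all_eq_true] at h1
  obtain ⟨h2, h3⟩ := h1
  have h4 : ∀ l ∈ wC.getD i [], 4 ≤ l ∧ l < 8 := fun l hl =>
    ⟨Nat.le_of_ble_eq_true (h2 l hl).1, Nat.le_of_ble_eq_true (h2 l hl).2⟩
  refine ⟨h4, ?_⟩
  have h5 := ev_of (w := wC.getD i []) (fun l hl => (h4 l hl).2)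
  rw [meq_eq h3] at h5
  exact h5

theorem L3_le : L3 ≤ L2 := by
  rw [L3, closure_le]
  rintro _ ⟨i, hi, rfl⟩
  exact hwL2 _ (wC_of hi).1

theorem lvl1_chk : lvl1.chk (fun i => lT (2 * i)) = true := by decide +kernel
theorem lvl2_chk : lvl2.chk (fun i => lT (4 + 2 * i)) = true := by decide +kernel
theorem lvl3_chk : lvl3.chk (fun i => decM (mC.getD i 0)) = true := by decide +kernel

theorem L2_fix : ∀ t ∈ L2, actV t (toV (lvl1.pt 0)) = toV (lvl1.pt 0) := by
  have h : L2 ≤ Stb (toV (lvl1.pt 0)) := by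
    rw [L2, closure_le]
    rintro _ (rfl | rfl)
    · exact mem_Stb (m := lT 0) rfl (by decide +kernel)
    · exact mem_Stb (m := lT 6) rfl (by decide +kernel)
  exact fun t ht => h ht

theorem L3_fix : ∀ t ∈ L3, actV t (toV (lvl2.pt 0)) = toV (lvl2.pt 0) := by
  have h : L3 ≤ Stb (toV (lvl2.pt 0)) := by
    rw [L3, closure_le]
    rintro _ ⟨i, hi, rfl⟩
    refine mem_Stb (wC_of hi).2 ?_
    have hi' : i < 2 := hi
    interval_cases i
    · decide +kernel
    · decide +kernel
  exact fun t ht => h ht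

theorem closure_sG2 : Subgroup.closure (sG '' Set.Iio 2) = ⊤ := by
  set C := Subgroup.closure (sG '' Set.Iio 2) with hC
  have h0 : sG 0 ∈ C := subset_closure ⟨0, by simp, rfl⟩
  have h1 : sG 1 ∈ C := subset_closure ⟨1, by simp, rfl⟩
  have hb : sG 3 ∈ C := by
    rw [sG3]
    exact hwC C h0 h1 _ (by decide +kernel)
  set P := C.comap pr with hP
  have hL2 : L2 ≤ P := by
    rw [L2, closure_le]
    rintro _ (rfl | rfl)
    · exact h0
    · exact hb
  have c1 : 2160 * Nat.card L2 ≤ Nat.card P := by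
    refine Lvl.card_le lvl1 _ lvl1_chk hL2 st ?_ ?_ L2_fix
    · intro i hi
      have hi' : i < 2 := hi
      interval_cases i
      · exact h0
      · exact h1
    · intro i hi
      have hi' : i < 2 := hi
      interval_cases i
      · exact rfl
      · exact rfl
  have c2 : 224 * Nat.card L3 ≤ Nat.card L2 := by
    refine Lvl.card_le lvl2 _ lvl2_chk L3_le (fun i => st (2 + i)) ?_ ?_ L3_fix
    · intro i hi
      have hi' : i < 2 := hi
      interval_cases i
      · exact subset_closure (by simp)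
      · exact subset_closure (by simp)
    · intro i hi
      have hi' : i < 2 := hi
      interval_cases i
      · exact rfl
      · exact rfl
  have c3 : 27 * Nat.card (⊥ : Subgroup SU0) ≤ Nat.card L3 := by
    refine Lvl.card_le lvl3 _ lvl3_chk bot_le g3 ?_ ?_ ?_
    · intro i hi
      exact subset_closure ⟨i, hi, rfl⟩
    · intro i hi
      exact (wC_of hi).2
    · intro t ht
      rw [Subgroup.mem_bot.mp ht, actV_one]
  rw [Subgroup.card_bot, mul_one] at c3
  have hP2 : P = ⊤ := by
    apply Subgroup.eq_top_of_le_card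
    rw [card_SU0]
    omega
  rw [eq_top_iff]
  intro g _
  obtain ⟨h, rfl⟩ := pr_surj g
  have : h ∈ P := by
    rw [hP2]
    trivial
  exact this

theorem closure_sG4 : Subgroup.closure (sG '' Set.Iio 4) = ⊤ := by
  rw [eq_top_iff, ← closure_sG2]
  refine closure_mono (Set.image_mono ?_)
  intro i hi
  have h : i < 2 := hi
  show i < 4
  omega

/-! ### The presentation -/

theorem card_S0' : Nat.card S0 = 540 * 6048 := by
  rw [card_S0]

theorem tcf0 : TCf 4 540 R [4, 5, 6, 7] := fun W _ x hg hr H hH => U43Tc0.index_le x hg hr H hH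

theorem ordBd0 : OrdBd 4 R (540 * 6048) :=
  OrdBd.step (k := 2) (m' := 2) tcf0 ordBd33 (by decide) rels_lt33 (by decide +kernel)

theorem hFP : FP sG 4 R := ⟨closure_sG4, rels_ok, rels_lt, by rw [card_S0']; exact ordBd0⟩

end Cfsg.Agent.Lib.S5520P
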