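-- Library: the Coxeter presentation of the symmetric group of degree 5 (verified coset table).
import Mathlib
import Cfsg.Agent.Lib.CosetCert2
import Cfsg.Agent.Lib.ThreeTransCore

set_option autoImplicit false
set_option linter.unusedSectionVars false
set_option linter.unusedSimpArgs false
set_option linter.unusedVariables false

open Equiv Equiv.Perm
open Cfsg.Agent.Lib.CosetCert Cfsg.Agent.Lib.CosetCert2 Cfsg.Agent.Lib.ThreeTransCore

namespace Cfsg.Agent.Lib.S5Cox

/-- Packed coset table. -/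
def tabNat : ℕ := 0xedd7a73efcb8f0dfdf76de3b3bebe1b7577d3db467e99bb65e79f276eba71e2c787ae0c5ceff5bdd30ddcb76e74c96f9dce5bed59b563957b3c2b72abc6c54d7529f1d54b853dd477d0db667ef9dbb64da13666e9f2f6ccd95674a95ae4eca7235ea8faa5c8d11b4c5cf8a26987a33428b0a0e889033c1cd7a1bf7f95f66b8f72e4799203d778e33ac0e9ce3bee3139c2eef376f81b6172d705f697edb5bafd9de66caeb6637195bb6f1a31616a8afaebd75aacb6caeb0c2aac595d5d85caabd6535a92aa929455509ea2b4d4d3d2a51d4a6a3398254b41251988e84f453d6a39a950ce42826c93f3104b968a39f927a5213b264209098ec78d0dd9c3914dc6826a2c43311c1a8470c43305e13e2d04bc08065e167c55f9828f9e977ac4a3c74dc9bb2649d1b22e493870d0c916c41bb31ed9ab26a447b41ccca90643988f5eb06b01a317a416b862d5aa510b562962812ad527542c4a910a0f0a4e21309481d28d0c9118c467c3220a8439e4014f9d3c744053610e13066cd12345819904602152e08b142a50702024c8042404883203c08e0034507180058614240080e18280080c101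
def T (i g : ℕ) : ℕ := (tabNat >>> (7 * (4 * i + g))) % 128
def parNat : ℕ := 0xe670369acd4e732991c4602fb74b8dbac95cacd429b4aa04f66931974a24b228fc52230882c09f8f97b3cdd0e571371b2d669b3594c7622f172b6582b554a750a7936984a2451c8b42a08fe7c3d1dcea70369a8ce612f16cb056299449a4a23910843f1e8ec7435190bc582a1389446220f06c32170b050240f0682c1408038180a03010040000
def par (i : ℕ) : ℕ := (parNat >>> (9 * i)) % 512
def steps : List ℕ := [3, 259, 515, 770, 1026, 1282, 65795, 66051, 66818, 131587, 131842, 132098, 196611, 197634, 197890, 262403, 262914, 328195, 328450, 328706, 394498, 458755, 459011, 524547, 524803, 589827, 590850, 591106, 656130, 721411, 721665, 721922, 786691, 787202, 851971, 853249, 918019, 983043, 984066, 984322, 1049346, 1114627, 1114881, 1115138, 1179651, 1179907, 1246465, 1312002, 1376515, 1442818, 1507587, 1508098, 1572867, 1574145, 1638659, 1638915, 1704706, 1769475, 1835523, 1835777, 1836033, 1901826, 2032642, 2097411, 2097922, 2162691, 2163969, 2228739, 2294530, 2425347, 2425601,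 2425857, 2490883, 2491394, 2555907, 2556163, 2622721, 2753282, 2818051, 2884609, 2949379, 3014659, 3080961, 3145987, 3212290, 3276803, 3277059, 3343617, 3474178, 3538947, 3605505, 3735555, 3801857, 3932675, 3998466, 4129283, 4129793, 4194563, 4259843, 4326145, 4391427, 4457729, 4587779, 4719362, 4850689, 4915459, 4980739, 5047041, 5112323, 5178625, 5439491, 5505793, 5767427, 5833219, 5833729, 6029315, 6095617, 6160899, 6357251, 6423553, 6881795]
def rels : List (List ℕ) := [[0, 1, 0, 1, 0, 1], [1, 2, 1, 2, 1, 2], [2, 3, 2, 3, 2, 3], [0, 2, 0, 2], [0, 3, 0, 3], [1, 3, 1, 3]]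
def codes : List ℕ := [2930, 2926, 2910, 2830, 2430, 2902, 2826, 2426, 2886, 2790, 2410, 2710, 2230, 1830, 2882, 2778, 2402, 2702, 2226, 1826, 2766, 2386, 2690, 2170, 1790, 2586, 2110, 1730, 1210, 2758, 2382, 2678, 2154, 1778, 2582, 2102, 1726, 1202, 2642, 2146, 1766, 2566, 2070, 1670, 1190, 1986, 1490, 1110, 586, 2638, 2134, 1758, 2558, 2054, 1654, 1178, 1982, 1478, 1102, 582, 2542, 2022, 1646, 1142, 1946, 1470, 1070, 566, 1366, 990, 486, 2538, 2014, 1634, 1138, 1934, 1454, 1054, 558, 1358, 978, 482, 1922, 1398, 1022, 542, 1346, 970, 446, 742, 366, 1914, 1394, 1014, 538, 1334, 954, 434, 738, 358, 1298, 898, 422, 722, 346, 242, 1294, 894, 414, 714, 334, 238, 698, 298, 222, 694, 294, 214, 198, 194]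

theorem check_ok : check T id 4 120 par [] rels steps = true := by
  decide +kernel

/-- The code of a permutation. -/
def code (σ : Perm (Fin 5)) : ℕ :=
  (σ 0 : ℕ) + 5 * (σ 1 : ℕ) + 25 * (σ 2 : ℕ) + 125 * (σ 3 : ℕ) + 625 * (σ 4 : ℕ)

/-- The node of a permutation. -/
def idx (σ : Perm (Fin 5)) : ℕ := codes.idxOf (code σ)

/-- The generators of the symmetric group. -/
def sw : ℕ → Perm (Fin 5)
  | 0 => swap 0 1
  | 1 => swap 1 2
  | 2 => swap 2 3
  | _ => swap 3 4

theorem idx_one : idx 1 = 0 := by decide +kernel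

theorem idx_lt : ∀ σ : Perm (Fin 5), idx σ < 120 := by decide +kernel

theorem T_idx0 : ∀ σ : Perm (Fin 5), T (idx σ) 0 = idx (swap 0 1 * σ) := by decide +kernel
theorem T_idx1 : ∀ σ : Perm (Fin 5), T (idx σ) 1 = idx (swap 1 2 * σ) := by decide +kernel
theorem T_idx2 : ∀ σ : Perm (Fin 5), T (idx σ) 2 = idx (swap 2 3 * σ) := by decide +kernel
theorem T_idx3 : ∀ σ : Perm (Fin 5), T (idx σ) 3 = idx (swap 3 4 * σ) := by decide +kernel

section
variable {H : Type*} [Group H]

/-- The generators. -/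
def gen (a b c d : H) : ℕ → H
  | 0 => a
  | 1 => b
  | 2 => c
  | _ => d

theorem exists_hom {a b c d : H} (haa : a * a = 1) (hbb : b * b = 1) (hcc : c * c = 1) (hdd : d * d = 1)
    (hab : a * b * a = b * a * b) (hbc : b * c * b = c * b * c) (hcd : c * d * c = d * c * d)
    (hac : Commute a c) (had : Commute a d) (hbd : Commute b d) :
    ∃ φ : Perm (Fin 5) →* H, φ (swap 0 1) = a ∧ φ (swap 1 2) = b ∧ φ (swap 2 3) = c ∧ φ (swap 3 4) = d := by
  have hinv : ∀ g, g < 4 → gen a b c d (id g) = (gen a b c d g)⁻¹ := by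
    intro g hg
    have : ∀ x : H, x * x = 1 → x = x⁻¹ := fun x hx => by
      rw [eq_inv_iff_mul_eq_one]; exact hx
    interval_cases g
    · exact this _ haa
    · exact this _ hbb
    · exact this _ hcc
    · exact this _ hdd
  have c3 : ∀ {u v : H}, u * u = 1 → v * v = 1 → u * v * u = v * u * v → v * u * v * u * v * u = 1 := by
    intro u v hu hv h
    have := cube_of_braid hv hu h.symm
    simpa [pow_succ, mul_assoc] using this
  have c2 : ∀ {u v : H}, u * u = 1 → v * v = 1 → Commute u v → v * u * v * u = 1 := by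
    intro u v hu hv h
    have := sq_of_commute hv hu h.symm
    simpa [pow_two, mul_assoc] using this
  have hrel : ∀ r ∈ rels, ev (gen a b c d) r = 1 := by
    intro r hr
    simp only [rels, List.mem_cons, List.not_mem_nil, or_false] at hr
    rcases hr with rfl | rfl | rfl | rfl | rfl | rfl
    · simp only [ev_cons, ev_nil, gen, one_mul]
      simpa [mul_assoc] using c3 haa hbb hab
    · simp only [ev_cons, ev_nil, gen, one_mul]
      simpa [mul_assoc] using c3 hbb hcc hbc
    · simp only [ev_cons, ev_nil, gen, one_mul]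
      simpa [mul_assoc] using c3 hcc hdd hcd
    · simp only [ev_cons, ev_nil, gen, one_mul]
      simpa [mul_assoc] using c2 haa hcc hac
    · simp only [ev_cons, ev_nil, gen, one_mul]
      simpa [mul_assoc] using c2 haa hdd had
    · simp only [ev_cons, ev_nil, gen, one_mul]
      simpa [mul_assoc] using c2 hbb hdd hbd
  obtain ⟨v, hv0, hv⟩ := table_sound (X := H) (gen a b c d) T id 4 120 par [] rels steps (by norm_num) hinv
    (1 : H) (by simp) hrel check_ok
  let Φ : Perm (Fin 5) → H := fun σ => v (idx σ)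
  have hΦ1 : Φ 1 = 1 := by
    show v (idx 1) = 1
    rw [idx_one, hv0]
  have h0 : ∀ σ, Φ (swap 0 1 * σ) = a * Φ σ := by
    intro σ
    show v (idx _) = a * v (idx σ)
    rw [← T_idx0]
    exact (hv _ (idx_lt σ) 0 (by norm_num)).2
  have h1 : ∀ σ, Φ (swap 1 2 * σ) = b * Φ σ := by
    intro σ
    show v (idx _) = b * v (idx σ)
    rw [← T_idx1]
    exact (hv _ (idx_lt σ) 1 (by norm_num)).2
  have h2 : ∀ σ, Φ (swap 2 3 * σ) = c * Φ σ := by
    intro σ
    show v (idx _) = c * v (idx σ)
    rw [← T_idx2]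
    exact (hv _ (idx_lt σ) 2 (by norm_num)).2
  have h3 : ∀ σ, Φ (swap 3 4 * σ) = d * Φ σ := by
    intro σ
    show v (idx _) = d * v (idx σ)
    rw [← T_idx3]
    exact (hv _ (idx_lt σ) 3 (by norm_num)).2
  have hmul : ∀ σ τ : Perm (Fin 5), Φ (σ * τ) = Φ σ * Φ τ := by
    intro σ
    have hσ : σ ∈ Submonoid.closure (Set.range fun i : Fin 4 => swap i.castSucc i.succ) := by
      rw [Perm.mclosure_swap_castSucc_succ 4]
      trivial
    induction hσ using Submonoid.closure_induction with
    | mem x hx =>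
      obtain ⟨i, rfl⟩ := hx
      intro τ
      have e : ∀ (f : Perm (Fin 5)) (y : H), (∀ σ, Φ (f * σ) = y * Φ σ) → Φ (f * τ) = Φ f * Φ τ := by
        intro f y hf
        have h1' := hf 1
        rw [mul_one, hΦ1, mul_one] at h1'
        rw [hf, h1']
      fin_cases i
      · exact e _ _ h0
      · exact e _ _ h1
      · exact e _ _ h2
      · exact e _ _ h3
    | one =>
      intro τ
      rw [one_mul, hΦ1, one_mul]
    | mul x y _ _ hx hy =>
      intro τ
      rw [mul_assoc, hx, hy, hx, mul_assoc]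
  refine ⟨MonoidHom.mk' Φ hmul, ?_, ?_, ?_, ?_⟩
  · show Φ _ = a
    have := h0 1
    rwa [mul_one, hΦ1, mul_one] at this
  · show Φ _ = b
    have := h1 1
    rwa [mul_one, hΦ1, mul_one] at this
  · show Φ _ = c
    have := h2 1
    rwa [mul_one, hΦ1, mul_one] at this
  · show Φ _ = d
    have := h3 1
    rwa [mul_one, hΦ1, mul_one] at this

end

end Cfsg.Agent.Lib.S5Cox
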