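import Mathlib

set_option autoImplicit false
set_option linter.unusedVariables false
set_option linter.style.haveILetI false

namespace Cfsg.Agent.Lib.S6RecLoc

open Subgroup

variable {G : Type*} [Group G]

/-- The eight possible actions of the normalizer on the basis. -/
def Act (x x' u v : G) : Prop :=
  (u = x ∧ v = x') ∨ (u = x' ∧ v = x⁻¹) ∨ (u = x⁻¹ ∧ v = x'⁻¹) ∨ (u = x'⁻¹ ∧ v = x) ∨
  (u = x ∧ v = x'⁻¹) ∨ (u = x'⁻¹ ∧ v = x⁻¹) ∨ (u = x⁻¹ ∧ v = x') ∨ (u = x' ∧ v = x)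

/-- The local data. -/
structure Setup (S : Subgroup G) (x x' R t : G) : Prop where
  comm : ∀ a ∈ S, ∀ b ∈ S, a * b = b * a
  exp : ∀ a ∈ S, a ^ 3 = 1
  card : Nat.card S = 9
  cS : centralizer (S : Set G) ≤ S
  cent : ∀ s ∈ S, s ≠ 1 → centralizer ({s} : Set G) ≤ normalizer (S : Set G)
  syl : ∃ P : Sylow 3 G, S = P
  hx : x ∈ S
  hx' : x' ∈ S
  x1 : x ≠ 1
  x'1 : x' ≠ 1
  x'x : x' ≠ x
  x'xi : x' ≠ x⁻¹
  hR : R ∈ normalizer (S : Set G)
  Rx : R * x * R⁻¹ = x'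
  Rx' : R * x' * R⁻¹ = x⁻¹
  ht : t ∈ normalizer (S : Set G)
  t2 : t ^ 2 = 1
  tx : t * x * t⁻¹ = x
  tx' : t * x' * t⁻¹ = x'⁻¹
  act : ∀ n ∈ normalizer (S : Set G), Act x x' (n * x * n⁻¹) (n * x' * n⁻¹)

section Basic

/-- In a group of exponent three, `a ≠ a⁻¹` unless `a = 1`. -/
theorem ne_inv_of_cube {a : G} (h3 : a ^ 3 = 1) (h1 : a ≠ 1) : a ≠ a⁻¹ := by
  intro h
  apply h1
  have h2 : a * a = 1 := by
    nth_rewrite 1 [h]
    simp
  calc a = a ^ 3 * (a * a)⁻¹ := by group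
    _ = 1 := by rw [h3, h2]; simp

theorem mul_self_eq_inv_of_cube {a : G} (h3 : a ^ 3 = 1) : a * a = a⁻¹ := by
  rw [eq_inv_iff_mul_eq_one, ← h3]
  simp [pow_succ]

theorem mem_zpowers_of_cube {a c : G} (h3 : a ^ 3 = 1) (hc : c ∈ zpowers a) : c = 1 ∨ c = a ∨ c = a⁻¹ := by
  obtain ⟨n, rfl⟩ := mem_zpowers_iff.mp hc
  have h4 : (a ^ (3 : ℤ)) = 1 := by exact_mod_cast h3
  have h5 : a ^ n = a ^ (n % 3) := by
    conv_lhs => rw [← Int.mul_ediv_add_emod n 3]
    rw [zpow_add, zpow_mul, h4, one_zpow, one_mul]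
  rw [h5]
  have h6 : n % 3 = 0 ∨ n % 3 = 1 ∨ n % 3 = 2 := by omega
  rcases h6 with h6 | h6 | h6 <;> rw [h6]
  · left; simp
  · right; left; simp
  · right; right
    rw [eq_inv_iff_mul_eq_one, ← h3]
    have : a ^ (2 : ℤ) = a * a := by rw [zpow_two]
    rw [this]
    simp [pow_succ]

/-- The basis lemma. -/
theorem basis {S : Subgroup G} (hcomm : ∀ a ∈ S, ∀ b ∈ S, a * b = b * a) (hexp : ∀ a ∈ S, a ^ 3 = 1)
    (hcard : Nat.card S = 9) {a b : G} (ha : a ∈ S) (hb : b ∈ S) (h1 : a ≠ 1) (h2 : b ≠ 1) (h3 : b ≠ a)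
    (h4 : b ≠ a⁻¹) {s : G} (hs : s ∈ S) :
    ∃ h k : G, (h = 1 ∨ h = a ∨ h = a⁻¹) ∧ (k = 1 ∨ k = b ∨ k = b⁻¹) ∧ s = h * k := by
  haveI : Fact (Nat.Prime 3) := ⟨Nat.prime_three⟩
  haveI : Finite S := Nat.finite_of_card_ne_zero (by omega)
  let a' : S := ⟨a, ha⟩
  let b' : S := ⟨b, hb⟩
  have ha3 : a' ^ 3 = 1 := Subtype.ext (by simpa [a'] using hexp a ha)
  have hb3 : b' ^ 3 = 1 := Subtype.ext (by simpa [b'] using hexp b hb)
  have ha1 : a' ≠ 1 := fun h => h1 (congrArg Subtype.val h)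
  have hb1 : b' ≠ 1 := fun h => h2 (congrArg Subtype.val h)
  have hoa : orderOf a' = 3 := orderOf_eq_prime ha3 ha1
  have hob : orderOf b' = 3 := orderOf_eq_prime hb3 hb1
  have hdisj : Disjoint (zpowers a') (zpowers b') := by
    rw [disjoint_iff, eq_bot_iff]
    intro c hc
    have hc1 := hc.1
    have hc2 := hc.2
    by_contra hc0
    have hc0' : c ≠ 1 := fun h => hc0 (by rw [h]; exact Subgroup.one_mem _)
    -- `b'` is a power of `c`
    have hcb : zpowers c = zpowers b' := by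
      have h5 : Nat.card (zpowers b') = 3 := by rw [Nat.card_zpowers, hob]
      have h6 : zpowers c ≤ zpowers b' := by
        rw [zpowers_le]; exact hc2
      apply Subgroup.eq_of_le_of_card_ge h6
      rw [h5, Nat.card_zpowers]
      have hc3 : c ^ 3 = 1 := by
        rcases mem_zpowers_of_cube hb3 hc2 with h7 | h7 | h7
        · rw [h7]; simp
        · rw [h7]; exact hb3
        · rw [h7, inv_pow, hb3, inv_one]
      rw [orderOf_eq_prime hc3 hc0']
    have hbz : b' ∈ zpowers a' := by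
      have h7 : b' ∈ zpowers c := by rw [hcb]; exact mem_zpowers b'
      have h8 : zpowers c ≤ zpowers a' := by rw [zpowers_le]; exact hc1
      exact h8 h7
    rcases mem_zpowers_of_cube ha3 hbz with h7 | h7 | h7
    · exact hb1 h7
    · exact h3 (congrArg Subtype.val h7)
    · exact h4 (congrArg Subtype.val h7)
  have hcompl : IsComplement' (zpowers a') (zpowers b') := by
    apply isComplement'_of_card_mul_and_disjoint _ hdisj
    rw [Nat.card_zpowers, Nat.card_zpowers, hoa, hob, hcard]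
  obtain ⟨⟨h, k⟩, hhk, -⟩ := hcompl.existsUnique ⟨s, hs⟩
  refine ⟨h.1.1, k.1.1, ?_, ?_, ?_⟩
  · rcases mem_zpowers_of_cube ha3 h.2 with h7 | h7 | h7
    · left; rw [h7]; rfl
    · right; left; rw [h7]
    · right; right; rw [h7]; rfl
  · rcases mem_zpowers_of_cube hb3 k.2 with h7 | h7 | h7
    · left; rw [h7]; rfl
    · right; left; rw [h7]
    · right; right; rw [h7]; rfl
  · have := congrArg Subtype.val hhk
    simpa using this.symm

end Basic

section Conj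

theorem conj_mul' (g a b : G) : g * (a * b) * g⁻¹ = (g * a * g⁻¹) * (g * b * g⁻¹) := by group

theorem conj_inv' (g a : G) : g * a⁻¹ * g⁻¹ = (g * a * g⁻¹)⁻¹ := by group

theorem conj_mem_of_normalizer {S : Subgroup G} {g s : G} (hg : g ∈ normalizer (S : Set G)) (hs : s ∈ S) :
    g * s * g⁻¹ ∈ S := (mem_normalizer_iff.mp hg s).mp hs

/-- If `n w⁻¹ ∈ S` then `n` and `w` act in the same way on `S`. -/
theorem conj_eq_of_mul_inv_mem {S : Subgroup G} (hcomm : ∀ a ∈ S, ∀ b ∈ S, a * b = b * a) {n w u : G}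
    (h : n * w⁻¹ ∈ S) (hu : w * u * w⁻¹ ∈ S) : n * u * n⁻¹ = w * u * w⁻¹ := by
  have h1 : n * u * n⁻¹ = (n * w⁻¹) * (w * u * w⁻¹) * (n * w⁻¹)⁻¹ := by group
  rw [h1, hcomm _ h _ hu]
  group

end Conj

namespace Setup

variable {S : Subgroup G} {x x' R t : G} (H : Setup S x x' R t)
include H

theorem x3 : x ^ 3 = 1 := H.exp x H.hx
theorem x'3 : x' ^ 3 = 1 := H.exp x' H.hx'
theorem hxx' : x * x' = x' * x := H.comm x H.hx x' H.hx'

theorem x_ne_inv : x ≠ x⁻¹ := ne_inv_of_cube H.x3 H.x1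
theorem x'_ne_inv : x' ≠ x'⁻¹ := ne_inv_of_cube H.x'3 H.x'1
theorem x_ne_x' : x ≠ x' := fun h => H.x'x h.symm
theorem x_ne_x'i : x ≠ x'⁻¹ := fun h => H.x'xi (by rw [h, inv_inv])
theorem xi_ne_x'i : x⁻¹ ≠ x'⁻¹ := fun h => H.x'x (inv_injective h).symm

theorem mem_cases {s : G} (hs : s ∈ S) :
    ∃ h k : G, (h = 1 ∨ h = x ∨ h = x⁻¹) ∧ (k = 1 ∨ k = x' ∨ k = x'⁻¹) ∧ s = h * k :=
  basis H.comm H.exp H.card H.hx H.hx' H.x1 H.x'1 H.x'x H.x'xi hs

/-- Centralizing the basis means lying in `S`. -/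
theorem mem_of_commute_basis {g : G} (h1 : g * x * g⁻¹ = x) (h2 : g * x' * g⁻¹ = x') : g ∈ S := by
  apply H.cS
  rw [mem_centralizer_iff]
  intro s hs
  obtain ⟨h, k, hh, hk, rfl⟩ := H.mem_cases hs
  have h3 : g * h * g⁻¹ = h := by
    rcases hh with rfl | rfl | rfl
    · group
    · exact h1
    · rw [conj_inv', h1]
  have h4 : g * k * g⁻¹ = k := by
    rcases hk with rfl | rfl | rfl
    · group
    · exact h2
    · rw [conj_inv', h2]
  have h5 : g * (h * k) * g⁻¹ = h * k := by rw [conj_mul', h3, h4]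
  calc h * k * g = g * (h * k) * g⁻¹ * g := by rw [h5]
    _ = g * (h * k) := by group

theorem t_not_mem : t ∉ S := by
  intro h
  have h1 := H.comm t h x' H.hx'
  apply H.x'_ne_inv
  rw [← H.tx', h1]
  group

theorem t1 : t ≠ 1 := fun h => H.t_not_mem (h ▸ S.one_mem)

theorem t_inv : t⁻¹ = t := by
  rw [inv_eq_iff_mul_eq_one, ← H.t2, pow_two]

/-- Transitive action on a set of four elements. -/
theorem isConj_x_x' : IsConj x x' := isConj_iff.mpr ⟨R, H.Rx⟩

theorem R2x : R * R * x * (R * R)⁻¹ = x⁻¹ := by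
  have : R * R * x * (R * R)⁻¹ = R * (R * x * R⁻¹) * R⁻¹ := by group
  rw [this, H.Rx, H.Rx']

theorem R2x' : R * R * x' * (R * R)⁻¹ = x'⁻¹ := by
  have : R * R * x' * (R * R)⁻¹ = R * (R * x' * R⁻¹) * R⁻¹ := by group
  rw [this, H.Rx', conj_inv', H.Rx]

theorem isConj_x_xi : IsConj x x⁻¹ := isConj_iff.mpr ⟨R * R, H.R2x⟩

theorem isConj_x_x'i : IsConj x x'⁻¹ := H.isConj_x_x'.trans (isConj_iff.mpr ⟨R * R, H.R2x'⟩)

theorem isConj_y_y' : IsConj (x * x') (x * x'⁻¹) :=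
  isConj_iff.mpr ⟨t, by rw [conj_mul', H.tx, H.tx']⟩

/-- Elements of the normalizer which are `3`-elements lie in `S`. -/
theorem mem_of_three_element {g : G} (hg : g ∈ normalizer (S : Set G)) {k : ℕ} (hk : g ^ 3 ^ k = 1) : g ∈ S := by
  obtain ⟨P, hP⟩ := H.syl
  haveI : Fact (Nat.Prime 3) := ⟨Nat.prime_three⟩
  have h1 : IsPGroup 3 (zpowers g) := by
    have h2 : orderOf g ∣ 3 ^ k := orderOf_dvd_of_pow_eq_one hk
    obtain ⟨m, hm, h3⟩ := (Nat.dvd_prime_pow Nat.prime_three).mp h2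
    exact IsPGroup.of_card (n := m) (by rw [Nat.card_zpowers, h3])
  have h2 := IsPGroup.inf_normalizer_sylow h1 P
  have hg' : g ∈ normalizer ((P : Subgroup G) : Set G) := hP ▸ hg
  have h3 : g ∈ zpowers g ⊓ (P : Subgroup G) := by
    rw [← h2]
    exact ⟨mem_zpowers g, hg'⟩
  rw [hP]
  exact h3.2

theorem mem_of_cube {g : G} (hg : g ∈ normalizer (S : Set G)) (h3 : g ^ 3 = 1) : g ∈ S :=
  H.mem_of_three_element hg (k := 1) (by simpa using h3)

/-- Trivial intersection. -/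
theorem normalizer_of_conj_mem [Finite G] {g s : G} (hs : s ∈ S) (h1 : s ≠ 1) (hg : g * s * g⁻¹ ∈ S) :
    g ∈ normalizer (S : Set G) := by
  have h2 : g * s * g⁻¹ ≠ 1 := by
    intro h3
    apply h1
    have h4 : s = g⁻¹ * (g * s * g⁻¹) * g := by group
    rw [h4, h3]; group
  have hmap : ∀ a ∈ S, g * a * g⁻¹ ∈ S := by
    intro a ha
    apply H.mem_of_cube
    · apply H.cent _ hg h2
      rw [mem_centralizer_singleton_iff]
      calc g * a * g⁻¹ * (g * s * g⁻¹) = g * (a * s) * g⁻¹ := by group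
        _ = g * (s * a) * g⁻¹ := by rw [H.comm a ha s hs]
        _ = _ := by group
    · have := H.exp a ha
      rw [conj_pow, this]; group
  have hle : S.map (MulAut.conj g).toMonoidHom ≤ S := by
    rintro _ ⟨a, ha, rfl⟩
    exact hmap a ha
  have hcard : Nat.card (S.map (MulAut.conj g).toMonoidHom) = Nat.card S :=
    Subgroup.card_map_of_injective (MulAut.conj g).injective
  have heq : S.map (MulAut.conj g).toMonoidHom = S := Subgroup.eq_of_le_of_card_ge hle hcard.ge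
  rw [mem_normalizer_iff]
  intro a
  constructor
  · exact hmap a
  · intro ha
    rw [← heq] at ha
    obtain ⟨b, hb, hab⟩ := ha
    have h3 : g * b * g⁻¹ = g * a * g⁻¹ := hab
    have h4 : b = a := by
      have := mul_left_cancel (mul_right_cancel h3)
      exact this
    rw [← h4]; exact hb

end Setup

end Cfsg.Agent.Lib.S6RecLoc
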