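import Mathlib
import Cfsg.Agent.Lib.S6RecLoc
import Cfsg.Agent.Lib.S3341Main9

set_option autoImplicit false
set_option linter.unusedVariables false
set_option linter.style.haveILetI false

namespace Cfsg.Agent.Lib.S6RecLoc.Setup

open Subgroup Cfsg.Agent.Lib.S3341Tri9 Cfsg.Agent.Lib.S3341Main9

variable {G : Type*} [Group G]

variable {S : Subgroup G} {x x' R t : G} (H : Setup S x x' R t)
include H

/-- The orbit of `x`. -/
theorem conj_mem_cases [Finite G] {s : G} (hs : s ∈ S) (hc : IsConj x s) :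
    s = x ∨ s = x' ∨ s = x⁻¹ ∨ s = x'⁻¹ := by
  obtain ⟨g, rfl⟩ := isConj_iff.mp hc
  have hg := H.normalizer_of_conj_mem H.hx H.x1 hs
  rcases H.act g hg with h | h | h | h | h | h | h | h <;> rw [h.1] <;> simp

theorem not_isConj_y [Finite G] : ¬ IsConj x (x * x') := by
  intro hc
  have hs : x * x' ∈ S := S.mul_mem H.hx H.hx'
  rcases H.conj_mem_cases hs hc with h | h | h | h
  · exact H.x'1 (mul_eq_left.mp h)
  · exact H.x1 (mul_eq_right.mp h)
  · apply H.x'x
    calc x' = x⁻¹ * (x * x') := by group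
      _ = x⁻¹ * x⁻¹ := by rw [h]
      _ = x := inv_eq_sq H.x3
  · apply H.x'x
    symm
    calc x = (x * x') * x'⁻¹ := by group
      _ = x'⁻¹ * x'⁻¹ := by rw [h]
      _ = x' := inv_eq_sq H.x'3

/-- The centralizer of `x`. -/
theorem mem_or_of_commute {g : G} (hg : g * x * g⁻¹ = x) : g ∈ S ∨ g * t ∈ S := by
  have hN : g ∈ normalizer (S : Set G) := by
    apply H.cent x H.hx H.x1
    rw [mem_centralizer_singleton_iff]
    calc g * x = g * x * g⁻¹ * g := by group
      _ = x * g := by rw [hg]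
  rcases H.act g hN with h | h | h | h | h | h | h | h
  · exact Or.inl (H.mem_of_commute_basis h.1 h.2)
  · exact absurd (hg.symm.trans h.1) H.x_ne_x'
  · exact absurd (hg.symm.trans h.1) H.x_ne_inv
  · exact absurd (hg.symm.trans h.1) H.x_ne_x'i
  · right
    apply H.mem_of_commute_basis
    · calc g * t * x * (g * t)⁻¹ = g * (t * x * t⁻¹) * g⁻¹ := by group
        _ = x := by rw [H.tx, hg]
    · calc g * t * x' * (g * t)⁻¹ = g * (t * x' * t⁻¹) * g⁻¹ := by group
        _ = x' := by rw [H.tx', conj_inv', h.2, inv_inv]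
  · exact absurd (hg.symm.trans h.1) H.x_ne_x'i
  · exact absurd (hg.symm.trans h.1) H.x_ne_inv
  · exact absurd (hg.symm.trans h.1) H.x_ne_x'

theorem mem_normalizer_of_commute {g : G} (hg : g * x * g⁻¹ = x) : g ∈ normalizer (S : Set G) := by
  apply H.cent x H.hx H.x1
  rw [mem_centralizer_singleton_iff]
  calc g * x = g * x * g⁻¹ * g := by group
    _ = x * g := by rw [hg]

theorem card_cent_x [Finite G] : Nat.card (centralizer ({x} : Set G)) = 18 := by
  classical
  letI := Fintype.ofFinite G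
  set SF := Finset.univ.filter fun s : G => s ∈ S with hSF
  have hSFc : SF.card = 9 := by
    have := H.card
    rwa [Nat.card_eq_fintype_card, Fintype.card_subtype] at this
  have hset : (Finset.univ.filter fun g : G => g ∈ centralizer ({x} : Set G)) =
      SF ∪ SF.image (fun s => s * t) := by
    ext g
    simp only [Finset.mem_filter, Finset.mem_univ, true_and, Finset.mem_union, Finset.mem_image, hSF,
      mem_centralizer_singleton_iff]
    constructor
    · intro hg
      have h1 : g * x * g⁻¹ = x := by rw [hg]; group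
      rcases H.mem_or_of_commute h1 with h2 | h2
      · exact Or.inl h2
      · refine Or.inr ⟨g * t, h2, ?_⟩
        rw [mul_assoc, ← pow_two, H.t2, mul_one]
    · rintro (h | ⟨s, hs, rfl⟩)
      · exact H.comm g h x H.hx
      · have h1 : t * x = x * t := by
          calc t * x = t * x * t⁻¹ * t := by group
            _ = x * t := by rw [H.tx]
        calc s * t * x = s * (t * x) := by group
          _ = s * (x * t) := by rw [h1]
          _ = (s * x) * t := by group
          _ = (x * s) * t := by rw [H.comm s hs x H.hx]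
          _ = _ := by group
  have hdisj : Disjoint SF (SF.image (fun s => s * t)) := by
    rw [Finset.disjoint_left]
    intro g hg hg2
    obtain ⟨s, hs, rfl⟩ := Finset.mem_image.mp hg2
    apply H.t_not_mem
    have h1 : s ∈ S := (Finset.mem_filter.mp hs).2
    have h2 : s * t ∈ S := (Finset.mem_filter.mp hg).2
    have h3 : t = s⁻¹ * (s * t) := by group
    rw [h3]
    exact S.mul_mem (S.inv_mem h1) h2
  rw [Nat.card_eq_fintype_card, Fintype.card_subtype, hset, Finset.card_union_of_disjoint hdisj,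
    Finset.card_image_of_injective _ (mul_left_injective t), hSFc]

theorem commute_t_x : t * x = x * t := by
  calc t * x = t * x * t⁻¹ * t := by group
    _ = x * t := by rw [H.tx]

/-- What `t` fixes in `S`. -/
theorem fixed_by_t {s : G} (hs : s ∈ S) (hc : t * s * t⁻¹ = s) : s = 1 ∨ s = x ∨ s = x⁻¹ := by
  obtain ⟨h, k, hh, hk, rfl⟩ := H.mem_cases hs
  have hth : t * h * t⁻¹ = h := by
    rcases hh with rfl | rfl | rfl
    · group
    · exact H.tx
    · rw [conj_inv', H.tx]
  rw [conj_mul', hth] at hc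
  have hk2 : t * k * t⁻¹ = k := mul_left_cancel hc
  have hk1 : k = 1 := by
    rcases hk with rfl | rfl | rfl
    · rfl
    · exact absurd (hk2.symm.trans H.tx') H.x'_ne_inv
    · rw [conj_inv', H.tx', inv_inv] at hk2
      exact absurd hk2 H.x'_ne_inv
  rw [hk1, mul_one]
  exact hh

theorem commute_xt : Commute x t := (H.commute_t_x).symm

theorem xt_pow3 : (x * t) ^ 3 = t := by
  rw [H.commute_xt.mul_pow, H.x3, one_mul, pow_succ, H.t2, one_mul]

theorem xt_pow4 : (x * t) ^ 4 = x := by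
  rw [H.commute_xt.mul_pow]
  have h1 : x ^ 4 = x := by rw [pow_succ, H.x3, one_mul]
  have h2 : t ^ 4 = 1 := by
    calc t ^ 4 = (t ^ 2) ^ 2 := by group
      _ = 1 := by rw [H.t2]; simp
  rw [h1, h2, mul_one]

theorem xt_pow2 : (x * t) ^ 2 = x⁻¹ := by
  rw [H.commute_xt.mul_pow, H.t2, mul_one, eq_inv_iff_mul_eq_one, ← H.x3]
  simp [pow_succ]

theorem xt_pow5 : (x * t) ^ 5 = x⁻¹ * t := by
  rw [pow_add (x * t) 2 3, H.xt_pow2, H.xt_pow3]

theorem xt_pow6 : (x * t) ^ 6 = 1 := by
  rw [pow_add (x * t) 3 3, H.xt_pow3, ← pow_two, H.t2]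

theorem orderOf_x : orderOf x = 3 := by
  haveI : Fact (Nat.Prime 3) := ⟨Nat.prime_three⟩
  exact orderOf_eq_prime H.x3 H.x1

theorem orderOf_t : orderOf t = 2 := by
  haveI : Fact (Nat.Prime 2) := ⟨Nat.prime_two⟩
  exact orderOf_eq_prime H.t2 H.t1

theorem orderOf_xt : orderOf (x * t) = 6 := by
  rw [H.commute_xt.orderOf_mul_eq_mul_orderOf_of_coprime (by rw [H.orderOf_x, H.orderOf_t]; norm_num),
    H.orderOf_x, H.orderOf_t]

/-- The centralizer of `x t`. -/
theorem cent_xt_le : centralizer ({x * t} : Set G) ≤ zpowers (x * t) := by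
  intro g hg
  rw [mem_centralizer_singleton_iff] at hg
  have hcomm : Commute g (x * t) := hg
  have hgt : Commute g t := by
    have := hcomm.pow_right 3
    rwa [H.xt_pow3] at this
  have hgx : Commute g x := by
    have := hcomm.pow_right 4
    rwa [H.xt_pow4] at this
  have h1 : g * x * g⁻¹ = x := by rw [hgx.eq]; group
  have hx1 : x ∈ zpowers (x * t) := ⟨4, by
    show (x * t) ^ (4 : ℤ) = x
    exact_mod_cast H.xt_pow4⟩
  have hx2 : x⁻¹ ∈ zpowers (x * t) := inv_mem hx1
  have ht1 : t ∈ zpowers (x * t) := ⟨3, by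
    show (x * t) ^ (3 : ℤ) = t
    exact_mod_cast H.xt_pow3⟩
  have hmem : ∀ s : G, s ∈ S → t * s * t⁻¹ = s → s ∈ zpowers (x * t) := by
    intro s hs hts
    rcases H.fixed_by_t hs hts with rfl | rfl | rfl
    · exact one_mem _
    · exact hx1
    · exact hx2
  rcases H.mem_or_of_commute h1 with h2 | h2
  · exact hmem g h2 (by rw [← hgt.eq]; group)
  · have h3 : g * t ∈ zpowers (x * t) := hmem _ h2 (by
      calc t * (g * t) * t⁻¹ = t * g := by group
        _ = g * t := (hgt.eq).symm)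
    have h4 : g = g * t * t⁻¹ := by group
    rw [h4]
    exact mul_mem h3 (inv_mem ht1)

theorem card_cent_xt [Finite G] : Nat.card (centralizer ({x * t} : Set G)) = 6 := by
  have h1 : centralizer ({x * t} : Set G) = zpowers (x * t) := by
    apply le_antisymm H.cent_xt_le
    rw [zpowers_le, mem_centralizer_singleton_iff]
  rw [h1, Nat.card_zpowers, H.orderOf_xt]

/-- The element `x t` is real. -/
theorem isConj_xt_inv [Finite G] : IsConj (x * t) (x * t)⁻¹ := by
  set R2 := R * R with hR2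
  set t' := R2 * t * R2⁻¹ with ht'
  have hinv : ∀ s ∈ S, R2 * s * R2⁻¹ = s⁻¹ := by
    intro s hs
    obtain ⟨h, k, hh, hk, rfl⟩ := H.mem_cases hs
    have h1 : R2 * h * R2⁻¹ = h⁻¹ := by
      rcases hh with rfl | rfl | rfl
      · simp
      · exact H.R2x
      · rw [conj_inv', H.R2x]
    have h2 : R2 * k * R2⁻¹ = k⁻¹ := by
      rcases hk with rfl | rfl | rfl
      · simp
      · exact H.R2x'
      · rw [conj_inv', H.R2x']
    have hhS : h ∈ S := by
      rcases hh with rfl | rfl | rfl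
      · exact S.one_mem
      · exact H.hx
      · exact S.inv_mem H.hx
    have hkS : k ∈ S := by
      rcases hk with rfl | rfl | rfl
      · exact S.one_mem
      · exact H.hx'
      · exact S.inv_mem H.hx'
    rw [conj_mul', h1, h2, mul_inv_rev]
    exact H.comm _ (S.inv_mem hhS) _ (S.inv_mem hkS)
  have hR2inv : ∀ s ∈ S, R2⁻¹ * s * R2 = s⁻¹ := by
    intro s hs
    have h1 := hinv s⁻¹ (S.inv_mem hs)
    rw [inv_inv] at h1
    calc R2⁻¹ * s * R2 = R2⁻¹ * (R2 * s⁻¹ * R2⁻¹) * R2 := by rw [h1]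
      _ = s⁻¹ := by group
  have hsS : t' * t⁻¹ ∈ S := by
    apply H.mem_of_commute_basis
    · calc t' * t⁻¹ * x * (t' * t⁻¹)⁻¹ = R2 * (t * (R2⁻¹ * (t⁻¹ * x * t) * R2) * t⁻¹) * R2⁻¹ := by
            rw [ht']; group
        _ = x := by
          have h1 : t⁻¹ * x * t = x := by
            calc t⁻¹ * x * t = t⁻¹ * (t * x * t⁻¹) * t := by rw [H.tx]
              _ = x := by group
          rw [h1, hR2inv x H.hx, conj_inv', H.tx, hinv _ (S.inv_mem H.hx), inv_inv]
    · calc t' * t⁻¹ * x' * (t' * t⁻¹)⁻¹ = R2 * (t * (R2⁻¹ * (t⁻¹ * x' * t) * R2) * t⁻¹) * R2⁻¹ := by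
            rw [ht']; group
        _ = x' := by
          have h1 : t⁻¹ * x' * t = x'⁻¹ := by
            have h2 : t⁻¹ * x' * t = t * x' * t⁻¹ := by rw [H.t_inv]
            rw [h2, H.tx']
          rw [h1, hR2inv _ (S.inv_mem H.hx'), inv_inv, H.tx', hinv _ (S.inv_mem H.hx'), inv_inv]
  set k := t' * t⁻¹ with hk
  have ht'eq : t' = k * t := by rw [hk]; group
  have ht'2 : t' * t' = 1 := by
    rw [ht']
    have h1 : t * t = 1 := by rw [← pow_two, H.t2]
    calc R2 * t * R2⁻¹ * (R2 * t * R2⁻¹) = R2 * (t * t) * R2⁻¹ := by group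
      _ = 1 := by rw [h1]; group
  have hkinv : t * k * t⁻¹ = k⁻¹ := by
    have h1 : k * t * (k * t) = 1 := by rw [← ht'eq]; exact ht'2
    have h2 : k * (t * k * t⁻¹) * (t * t) = 1 := by rw [← h1]; group
    have h3 : t * t = 1 := by rw [← pow_two, H.t2]
    rw [h3, mul_one] at h2
    exact eq_inv_of_mul_eq_one_right h2
  have hk3 : k ^ 3 = 1 := H.exp k hsS
  refine isConj_iff.mpr ⟨R2 * k⁻¹, ?_⟩
  have hw1 : R2 * k⁻¹ * x * (R2 * k⁻¹)⁻¹ = x⁻¹ := by
    calc R2 * k⁻¹ * x * (R2 * k⁻¹)⁻¹ = R2 * (k⁻¹ * (x * k)) * R2⁻¹ := by group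
      _ = R2 * (k⁻¹ * (k * x)) * R2⁻¹ := by rw [H.comm x H.hx k hsS]
      _ = R2 * x * R2⁻¹ := by group
      _ = x⁻¹ := hinv x H.hx
  have hw2 : R2 * k⁻¹ * t * (R2 * k⁻¹)⁻¹ = t := by
    have h1 : k⁻¹ * t * k = k * t := by
      calc k⁻¹ * t * k = k⁻¹ * (t * k * t⁻¹) * t := by group
        _ = k⁻¹ * k⁻¹ * t := by rw [hkinv]
        _ = k * t := by rw [inv_eq_sq hk3]
    calc R2 * k⁻¹ * t * (R2 * k⁻¹)⁻¹ = R2 * (k⁻¹ * t * k) * R2⁻¹ := by group
      _ = R2 * (k * t) * R2⁻¹ := by rw [h1]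
      _ = (R2 * k * R2⁻¹) * (R2 * t * R2⁻¹) := by group
      _ = k⁻¹ * (k * t) := by rw [hinv k hsS, ← ht', ht'eq]
      _ = t := by group
  rw [conj_mul', hw1, hw2, mul_inv_rev, H.t_inv]
  have h1 : t * x⁻¹ = x⁻¹ * t := by
    calc t * x⁻¹ = (t * x⁻¹ * t⁻¹) * t := by group
      _ = x⁻¹ * t := by rw [conj_inv', H.tx]
  exact h1.symm

/-- All Sylow `3`-subgroups are abelian. -/
theorem sylow_comm [Finite G] (Q : Sylow 3 G) {a b : G} (ha : a ∈ Q) (hb : b ∈ Q) : a * b = b * a := by
  obtain ⟨P, hP⟩ := H.syl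
  let e := P.equiv Q
  have h2 : e (e.symm ⟨a, ha⟩ * e.symm ⟨b, hb⟩) = e (e.symm ⟨b, hb⟩ * e.symm ⟨a, ha⟩) := by
    congr 1
    apply Subtype.ext
    have h3 := (e.symm ⟨a, ha⟩).2
    have h4 := (e.symm ⟨b, hb⟩).2
    exact H.comm _ (hP ▸ h3) _ (hP ▸ h4)
  simp only [map_mul, MulEquiv.apply_symm_apply] at h2
  exact congrArg Subtype.val h2

/-- The elements of order three commuting with an involution in the centralizer of `x`. -/
theorem conj_of_involution [Finite G] {u b' : G} (hu2 : u ^ 2 = 1) (hu1 : u ≠ 1) (hux : u * x = x * u)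
    (hub : b' * u = u * b') (hb3 : b' ^ 3 = 1) (hb1 : b' ≠ 1) : IsConj x b' := by
  classical
  haveI : Fact (Nat.Prime 3) := ⟨Nat.prime_three⟩
  -- `u` acts as `t`
  have huS : u ∉ S := by
    intro h
    apply hu1
    have h3 := H.exp u h
    calc u = u ^ 3 * (u ^ 2)⁻¹ := by group
      _ = 1 := by rw [h3, hu2]; simp
  have hux' : u * x * u⁻¹ = x := by rw [hux]; group
  have hut : u * t ∈ S := (H.mem_or_of_commute hux').resolve_left huS
  set C := centralizer ({u} : Set G) with hC
  have hxC : x ∈ C := by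
    rw [hC, mem_centralizer_singleton_iff]; exact hux.symm
  have hbC : b' ∈ C := by
    rw [hC, mem_centralizer_singleton_iff]; exact hub
  -- Sylow subgroups of `C`
  let xc : C := ⟨x, hxC⟩
  let bc : C := ⟨b', hbC⟩
  have hxc3 : xc ^ 3 = 1 := Subtype.ext (by simpa [xc] using H.x3)
  have hbc3 : bc ^ 3 = 1 := Subtype.ext (by simpa [bc] using hb3)
  have hpg : ∀ c : C, c ^ 3 = 1 → IsPGroup 3 (zpowers c) := by
    intro c hc
    have h2 : orderOf c ∣ 3 ^ 1 := orderOf_dvd_of_pow_eq_one (by simpa using hc)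
    obtain ⟨m, hm, h3⟩ := (Nat.dvd_prime_pow Nat.prime_three).mp h2
    exact IsPGroup.of_card (n := m) (by rw [Nat.card_zpowers, h3])
  obtain ⟨Q₁, hQ₁⟩ := (hpg xc hxc3).exists_le_sylow
  obtain ⟨Q₂, hQ₂⟩ := (hpg bc hbc3).exists_le_sylow
  have hxQ : xc ∈ Q₁ := hQ₁ (mem_zpowers xc)
  have hbQ : bc ∈ Q₂ := hQ₂ (mem_zpowers bc)
  -- elements of `Q₁` are powers of `x`
  have hQ₁mem : ∀ q : C, q ∈ Q₁ → (q : G) = 1 ∨ (q : G) = x ∨ (q : G) = x⁻¹ := by
    intro q hq
    -- the image of `Q₁` is a `3`-subgroup of `G`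
    have hmapP : IsPGroup 3 ((Q₁ : Subgroup C).map C.subtype) := Q₁.isPGroup'.map C.subtype
    obtain ⟨P', hP'⟩ := hmapP.exists_le_sylow
    have hqm : (q : G) ∈ P' := hP' ⟨q, hq, rfl⟩
    have hxm : x ∈ P' := hP' ⟨xc, hxQ, rfl⟩
    have hqx : (q : G) * x = x * q := H.sylow_comm P' hqm hxm
    have hq3 : ∃ k : ℕ, (q : G) ^ 3 ^ k = 1 := by
      obtain ⟨k, hk⟩ := (IsPGroup.iff_orderOf.mp Q₁.isPGroup') ⟨q, hq⟩
      refine ⟨k, ?_⟩
      have h5 : (⟨q, hq⟩ : (Q₁ : Subgroup C)) ^ 3 ^ k = 1 := by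
        rw [← hk]; exact pow_orderOf_eq_one _
      have h6 := congrArg (fun z : (Q₁ : Subgroup C) => ((z : C) : G)) h5
      simpa using h6
    obtain ⟨k, hk⟩ := hq3
    have hqN : (q : G) ∈ normalizer (S : Set G) := by
      apply H.mem_normalizer_of_commute
      rw [hqx]; group
    have hqS : (q : G) ∈ S := H.mem_of_three_element hqN hk
    apply H.fixed_by_t hqS
    -- `q` commutes with `u` and so with `t`
    have hqu : (q : G) * u = u * q := mem_centralizer_singleton_iff.mp q.2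
    have hs := hut
    set s := u * t with hs'
    have ht : t = u⁻¹ * s := by rw [hs']; group
    have h1 : (q : G) * s = s * q := H.comm _ hqS _ hut
    have h2 : u⁻¹ * (q : G) = q * u⁻¹ := by
      calc u⁻¹ * (q : G) = u⁻¹ * ((q : G) * u) * u⁻¹ := by group
        _ = u⁻¹ * (u * q) * u⁻¹ := by rw [hqu]
        _ = _ := by group
    rw [ht]
    calc u⁻¹ * s * (q : G) * (u⁻¹ * s)⁻¹ = u⁻¹ * (s * q) * s⁻¹ * u := by group
      _ = u⁻¹ * (q * s) * s⁻¹ * u := by rw [h1]
      _ = u⁻¹ * (q : G) * u := by group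
      _ = (q : G) * u⁻¹ * u := by rw [h2]
      _ = q := by group
  -- conjugacy of the Sylow subgroups
  obtain ⟨h, hh⟩ := MulAction.exists_smul_eq C Q₁ Q₂
  have hbQ' : h⁻¹ * bc * h ∈ (Q₁ : Subgroup C) := by
    rw [← hh] at hbQ
    have h1 : bc ∈ ((h • Q₁ : Sylow 3 C) : Subgroup C) := hbQ
    rw [Sylow.coe_subgroup_smul, Subgroup.mem_pointwise_smul_iff_inv_smul_mem] at h1
    simpa [MulAut.smul_def, MulAut.conj_apply] using h1
  have hconj : IsConj b' ((h⁻¹ * bc * h : C) : G) :=
    isConj_iff.mpr ⟨(h : G)⁻¹, by simp [bc]⟩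
  rcases hQ₁mem _ hbQ' with h1 | h1 | h1
  · rw [h1] at hconj
    exact absurd (isConj_one_right.mp hconj.symm) hb1
  · rw [h1] at hconj
    exact hconj.symm
  · rw [h1] at hconj
    exact H.isConj_x_xi.trans hconj.symm

/-- The solutions lie in `S`. -/
theorem sol_mem_S [Finite G] {a' b' : G} (ha : IsConj x a') (hb : IsConj (x * x') b') (hab : a' * b' = x) : a' ∈ S := by
  have hyS : x * x' ∈ S := S.mul_mem H.hx H.hx'
  have ha3 : a' ^ 3 = 1 := by
    obtain ⟨c, rfl⟩ := isConj_iff.mp ha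
    rw [conj_pow, H.x3]; group
  have hb3 : b' ^ 3 = 1 := by
    obtain ⟨c, rfl⟩ := isConj_iff.mp hb
    rw [conj_pow, H.exp _ hyS]; group
  have hnc : ¬ IsConj x (x * x') := H.not_isConj_y
  have hy1 : x * x' ≠ 1 := by
    intro h
    apply H.x'xi
    exact eq_inv_of_mul_eq_one_right h
  have hb1 : b' ≠ 1 := by
    rintro rfl
    exact hy1 (isConj_one_right.mp hb.symm)
  rcases tri ha3 hb3 (by rw [hab]; exact H.x3) with h | ⟨w, hw1, hwa, hwb⟩
  · exact absurd (ha.trans (h.trans hb.symm)) hnc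
  · have hwx : w * x = x * w := by
      rw [← hab]
      exact (hwa.mul_right hwb).eq
    have hwx' : w * x * w⁻¹ = x := by rw [hwx]; group
    have hkey : ∀ s ∈ S, s ≠ 1 → s * a' = a' * s → a' ∈ S := by
      intro s hs hs1 hc
      have h1 : a' ∈ centralizer ({s} : Set G) := by
        rw [mem_centralizer_singleton_iff]; exact hc.symm
      exact H.mem_of_cube (H.cent s hs hs1 h1) ha3
    rcases H.mem_or_of_commute hwx' with h | h
    · exact hkey w h hw1 hwa.eq
    · -- the square of `w`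
      have hw2S : w ^ 2 ∈ S := by
        have h1 : w ^ 2 = (w * t) * (t⁻¹ * (w * t) * (t⁻¹)⁻¹) * (t⁻¹ * t⁻¹) := by
          rw [pow_two]; group
        have h3 : t⁻¹ * t⁻¹ = 1 := by
          rw [H.t_inv, ← pow_two, H.t2]
        rw [h1, h3, mul_one]
        exact S.mul_mem h (conj_mem_of_normalizer (inv_mem H.ht) h)
      by_cases hw2 : w ^ 2 = 1
      · exfalso
        apply hnc
        have h1 := H.conj_of_involution hw2 hw1 hwx hwb.symm.eq hb3 hb1
        exact h1.trans hb.symm
      · exact hkey _ hw2S hw2 ((hwa.pow_left 2).eq)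

/-- The count of pairs. -/
theorem cnt_eq_648 [Fintype G] (hCy : Nat.card (centralizer ({x * x'} : Set G)) = 18) : Cnt x (x * x') = 648 := by
  classical
  have hCx := H.card_cent_x
  have hx'i : x' ≠ x'⁻¹ := H.x'_ne_inv
  set O : Finset G := {x', x'⁻¹} with hO
  have hOc : O.card = 2 := Finset.card_pair hx'i
  have hOconj : ∀ y ∈ O, IsConj x y := by
    intro y hy
    rw [hO, Finset.mem_insert, Finset.mem_singleton] at hy
    rcases hy with rfl | rfl
    · exact H.isConj_x_x'
    · exact H.isConj_x_x'i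
  have hpre := card_preimage O hOconj
  rw [hCx, hOc] at hpre
  have hyy' := H.isConj_y_y'
  have hcomm := H.hxx'
  have hinner : ∀ a : G, (∑ b : G, (if x⁻¹ * (a * x * a⁻¹) * (b * (x * x') * b⁻¹) = 1 then 1 else 0)) =
      if a * x * a⁻¹ ∈ O then 18 else 0 := by
    intro a
    by_cases ha : a * x * a⁻¹ ∈ O
    · rw [if_pos ha, ← Finset.card_filter]
      have hb : IsConj (x * x') (x⁻¹ * (a * x * a⁻¹))⁻¹ := by
        rw [hO, Finset.mem_insert, Finset.mem_singleton] at ha
        rcases ha with h | h <;> rw [h]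
        · have h1 : (x⁻¹ * x')⁻¹ = x * x'⁻¹ := by
            rw [mul_inv_rev, inv_inv]
            have h2 : x'⁻¹ * x = x * x'⁻¹ := by
              calc x'⁻¹ * x = x'⁻¹ * (x * x') * x'⁻¹ := by group
                _ = x'⁻¹ * (x' * x) * x'⁻¹ := by rw [hcomm]
                _ = _ := by group
            exact h2
          rw [h1]; exact hyy'
        · have h1 : (x⁻¹ * x'⁻¹)⁻¹ = x * x' := by
            rw [mul_inv_rev, inv_inv, inv_inv]
            exact hcomm.symm
          rw [h1]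
      have hfib := card_fiber hb
      rw [hCy] at hfib
      rw [← hfib]
      congr 1
      ext b
      simp only [Finset.mem_filter, Finset.mem_univ, true_and]
      constructor
      · intro h
        exact eq_inv_of_mul_eq_one_right h
      · intro h
        rw [h, mul_inv_cancel]
    · rw [if_neg ha]
      apply Finset.sum_eq_zero
      intro b _
      rw [if_neg]
      intro hab
      apply ha
      set a' := a * x * a⁻¹ with ha'
      set b' := b * (x * x') * b⁻¹ with hb'
      have ha'c : IsConj x a' := isConj_iff.mpr ⟨a, rfl⟩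
      have hb'c : IsConj (x * x') b' := isConj_iff.mpr ⟨b, rfl⟩
      have hab2 : a' * b' = x := by
        calc a' * b' = x * (x⁻¹ * a' * b') := by group
          _ = x := by rw [hab, mul_one]
      have ha'S := H.sol_mem_S ha'c hb'c hab2
      have hy1 : x * x' ≠ 1 := by
        intro h
        apply H.x'xi
        exact eq_inv_of_mul_eq_one_right h
      rw [hO, Finset.mem_insert, Finset.mem_singleton]
      rcases H.conj_mem_cases ha'S ha'c with h | h | h | h
      · exfalso
        rw [h] at hab2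
        have h3 : b' = 1 := mul_eq_left.mp hab2
        rw [h3] at hb'c
        exact hy1 (isConj_one_right.mp hb'c.symm)
      · exact Or.inl h
      · exfalso
        rw [h] at hab2
        have h3 : b' = x⁻¹ := by
          calc b' = x * (x⁻¹ * b') := by group
            _ = x * x := by rw [hab2]
            _ = x⁻¹ := mul_self_eq_inv_of_cube H.x3
        rw [h3] at hb'c
        exact H.not_isConj_y (H.isConj_x_xi.trans hb'c.symm)
      · exact Or.inr h
  unfold Cnt
  simp only [hinner]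
  rw [← Finset.sum_filter, Finset.sum_const, hpre]
  norm_num

end Cfsg.Agent.Lib.S6RecLoc.Setup
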