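import Mathlib

set_option autoImplicit false

namespace Cfsg.Agent.Lib.S6RecNum

/-- The value `F` when `p = q`. -/
def FA (p s t : ℤ) : ℚ :=
  1 + 2 / (p : ℚ) + 1 / (s : ℚ) + 8 / (t : ℚ) + 2 / ((1 + p + t : ℤ) : ℚ) + 2 / ((p + s + t : ℤ) : ℚ)

/-- The sum of the squares of the degrees when `p = q`. -/
def SA (p s t : ℤ) : ℤ :=
  1 + 2 * p ^ 2 + s ^ 2 + t ^ 2 + 2 * (1 + p + t) ^ 2 + 2 * (p + s + t) ^ 2

/-- `F` without the contribution of `s`. -/
def LA (p t : ℤ) : ℚ :=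
  1 + 2 / (p : ℚ) + 8 / (t : ℚ) + 2 / ((1 + p + t : ℤ) : ℚ)

/-- The part of the sum of squares without `s`. -/
def SB (p t : ℤ) : ℤ :=
  1 + 2 * p ^ 2 + t ^ 2 + 2 * (1 + p + t) ^ 2

/-- The final list. -/
def finalA (p s t : ℤ) : Bool :=
  (p == 1 && s == 1 && t == 2) || (p == 10 && s == 1 && t == -16) || (p == 10 && s == 10 && t == -16) ||
    (p == 10 && s == -8 && t == -16) || (p == -8 && s == 28 && t == -25)

def tripleOk (p s t : ℤ) : Bool :=
  let F := FA p s t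
  if 0 < F ∧ (9 / F).den = 1 ∧ (9 / F).num % 9 = 1 ∧ ((SA p s t : ℤ) : ℚ) ≤ 72 * (9 / F) then finalA p s t else true

def pairOk (p t : ℤ) : Bool :=
  if (LA p t - 21 / 40) * ((SB p t : ℤ) : ℚ) ≤ 648 then
    decide (163 / 1000 ≤ LA p t) && (List.range 111).all fun b => tripleOk p (1 + 9 * ((b : ℤ) - 55)) t
  else true

def allOk : Bool :=
  (List.range 45).all fun a => (List.range 22).all fun c =>
    (c == 10) || pairOk (1 + 9 * ((a : ℤ) - 22)) (2 + 9 * ((c : ℤ) - 11))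

set_option maxRecDepth 100000 in
theorem allOk_eq : allOk = true := by decide +kernel



section Bounds

theorem lb_neg (v m : ℤ) (hm : 0 < m) (h : 0 < v ∨ v ≤ -m) : -(1 / (m : ℚ)) ≤ 1 / (v : ℚ) := by
  have hm' : (0 : ℚ) < m := by exact_mod_cast hm
  rcases h with h | h
  · have h1 : (0 : ℚ) < v := by exact_mod_cast h
    have h3 : 0 < 1 / (v : ℚ) := by positivity
    have h4 : 0 < 1 / (m : ℚ) := by positivity
    linarith
  · have h1 : (v : ℚ) ≤ -m := by exact_mod_cast h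
    have h2 : (m : ℚ) ≤ -(v : ℚ) := by linarith
    have h3 : 1 / (-(v : ℚ)) ≤ 1 / (m : ℚ) := one_div_le_one_div_of_le hm' h2
    rw [one_div_neg_eq_neg_one_div] at h3
    linarith

/-- A lower bound in rational form. -/
theorem lb (v m : ℤ) (c : ℚ) (hm : 0 < m) (hc : (m : ℚ) * c = 1) (h : 0 < v ∨ v ≤ -m) : -c ≤ 1 / (v : ℚ) := by
  have h1 := lb_neg v m hm h
  have hm' : (m : ℚ) ≠ 0 := by exact_mod_cast hm.ne'
  have h2 : c = 1 / (m : ℚ) := by field_simp; linarith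
  rw [h2]; exact h1

theorem ne_of_mod {v r : ℤ} (h : v % 9 = r) (hr : r ≠ 0) : (v : ℚ) ≠ 0 := by
  intro h0
  have h1 : v = 0 := by exact_mod_cast h0
  rw [h1] at h
  apply hr
  rw [← h]
  norm_num

theorem ebh (a s : ℤ) (ha : a % 9 = 4) (hs : s % 9 = 1) :
    -(187 / 280 : ℚ) ≤ 2 * (1 / (a : ℚ)) + 1 / (s : ℚ) + 2 * (1 / ((a - 1 + s : ℤ) : ℚ)) := by
  by_cases h5 : a = -5
  · subst h5
    have e : ((-5 - 1 + s : ℤ)) = s - 6 := by ring
    rw [e]
    by_cases h1 : s = 1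
    · subst h1; norm_num
    · have h2 : 0 < s ∨ s ≤ -8 := by omega
      have h9 : (1 / (((-5 : ℤ)) : ℚ)) = -(1 / 5) := by norm_num
      rw [h9]
      rcases h2 with h2 | h2
      · have h3 : 0 < s - 6 := by omega
        have h4 : (0 : ℚ) < s := by exact_mod_cast h2
        have h6 : (0 : ℚ) < ((s - 6 : ℤ) : ℚ) := by exact_mod_cast h3
        have h7 : 0 < 1 / (s : ℚ) := by positivity
        have h8 : 0 < 1 / ((s - 6 : ℤ) : ℚ) := by positivity
        linarith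
      · have h3 := lb s 8 (1 / 8) (by norm_num) (by norm_num) (Or.inr h2)
        have h4 := lb (s - 6) 14 (1 / 14) (by norm_num) (by norm_num) (by omega)
        linarith
  · have h1 := lb a 14 (1 / 14) (by norm_num) (by norm_num) (by omega)
    have h2 := lb s 8 (1 / 8) (by norm_num) (by norm_num) (by omega)
    have h3 := lb (a - 1 + s) 5 (1 / 5) (by norm_num) (by norm_num) (by omega)
    linarith

theorem fa_eq (p s t : ℤ) : FA p s t = 1 + 2 * (1 / (p : ℚ)) + 1 / (s : ℚ) + 8 * (1 / (t : ℚ)) +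
    2 * (1 / ((1 + p + t : ℤ) : ℚ)) + 2 * (1 / ((p + s + t : ℤ) : ℚ)) := by
  unfold FA; ring

theorem n_le {F c : ℚ} {n : ℕ} (hc : 0 < c) (h : (n : ℚ) * F = 9) (hF : c ≤ F) : (n : ℚ) * c ≤ 9 := by
  have h1 : (0 : ℚ) ≤ n := by positivity
  nlinarith

end Bounds

section MainA

variable {p s t : ℤ} {n : ℕ}

theorem no_large_t (hp : p % 9 = 1) (hs : s % 9 = 1) (ht : t % 9 = 2) (ht7 : t ≠ -7)
    (hF : (n : ℚ) * FA p s t = 9) (hS0 : SA p s t ≤ 72 * n) : -100 < t ∧ t < 100 := by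
  by_contra hcon
  have h100 : t ≤ -100 ∨ 100 ≤ t := by
    by_contra h
    exact hcon (by omega)
  have hFe := fa_eq p s t
  have h1 : -(1 / 100 : ℚ) ≤ 1 / (t : ℚ) := lb t 100 (1 / 100) (by norm_num) (by norm_num) (by omega)
  have hE := ebh (1 + p + t) s (by omega) hs
  have e2 : (1 + p + t - 1 + s) = p + s + t := by ring
  rw [e2] at hE
  have hbig : (1 / 10 : ℚ) ≤ FA p s t := by
    by_cases hp50 : 0 < p ∨ p ≤ -50
    · have h2 := lb p 50 (1 / 50) (by norm_num) (by norm_num) hp50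
      rw [hFe]; linarith
    · have h2 := lb p 8 (1 / 8) (by norm_num) (by norm_num) (by omega)
      have h3 := lb (1 + p + t) 50 (1 / 50) (by norm_num) (by norm_num) (by omega)
      have h4 := lb s 8 (1 / 8) (by norm_num) (by norm_num) (by omega)
      have h5 := lb (p + s + t) 5 (1 / 5) (by norm_num) (by norm_num) (by omega)
      rw [hFe]; linarith
  have hn := n_le (by norm_num) hF hbig
  have hn2 : n ≤ 90 := by
    have : (n : ℚ) ≤ 90 := by linarith
    exact_mod_cast this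
  have hS : t ^ 2 ≤ SA p s t := by
    unfold SA
    nlinarith [sq_nonneg p, sq_nonneg s, sq_nonneg (1 + p + t), sq_nonneg (p + s + t)]
  have ht2 : 10000 ≤ t ^ 2 := by
    rcases h100 with h | h <;> nlinarith
  omega

theorem no_large_p (hp : p % 9 = 1) (hs : s % 9 = 1) (ht : t % 9 = 2) (ht7 : t ≠ -7)
    (hF : (n : ℚ) * FA p s t = 9) (hS0 : SA p s t ≤ 72 * n) (ht1 : -100 < t) (ht2 : t < 100) :
    -200 < p ∧ p < 200 := by
  by_contra hcon
  have h200 : p ≤ -200 ∨ 200 ≤ p := by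
    by_contra h
    exact hcon (by omega)
  have hFe := fa_eq p s t
  have h1 := lb t 16 (1 / 16) (by norm_num) (by norm_num) (by omega)
  have h2 := lb p 200 (1 / 200) (by norm_num) (by norm_num) (by omega)
  have h3 := lb (1 + p + t) 100 (1 / 100) (by norm_num) (by norm_num) (by omega)
  have hbig : (1 / 20 : ℚ) ≤ FA p s t := by
    by_cases h5 : p + s + t = -5
    · have h4 := lb s 96 (1 / 96) (by norm_num) (by norm_num) (by omega)
      rw [hFe, h5]
      push_cast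
      norm_num
      norm_num at h1 h2 h3 h4
      linarith
    · have h4 := lb s 8 (1 / 8) (by norm_num) (by norm_num) (by omega)
      have h6 := lb (p + s + t) 14 (1 / 14) (by norm_num) (by norm_num) (by omega)
      rw [hFe]; linarith
  have hn := n_le (by norm_num) hF hbig
  have hn2 : n ≤ 180 := by
    have : (n : ℚ) ≤ 180 := by linarith
    exact_mod_cast this
  have hS : 2 * p ^ 2 ≤ SA p s t := by
    unfold SA
    nlinarith [sq_nonneg t, sq_nonneg s, sq_nonneg (1 + p + t), sq_nonneg (p + s + t)]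
  have hp2 : 40000 ≤ p ^ 2 := by
    rcases h200 with h | h <;> nlinarith
  omega

theorem pos_of_mul {n : ℕ} {F : ℚ} (h : (n : ℚ) * F = 9) : 0 < F ∧ 0 < (n : ℚ) := by
  have h1 : (0 : ℚ) ≤ n := by positivity
  have h2 : (n : ℚ) ≠ 0 := by
    intro h0
    rw [h0] at h
    norm_num at h
  have h3 : (0 : ℚ) < n := lt_of_le_of_ne h1 (Ne.symm h2)
  refine ⟨?_, h3⟩
  by_contra h4
  push Not at h4
  nlinarith

theorem pair_of_bounds (hp : p % 9 = 1) (ht : t % 9 = 2) (ht7 : t ≠ -7) (ht1 : -100 < t) (ht2 : t < 100)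
    (hp1 : -200 < p) (hp2 : p < 200) : pairOk p t = true := by
  have h := allOk_eq
  unfold allOk at h
  rw [List.all_eq_true] at h
  have ha : ((p - 1) / 9 + 22).toNat ∈ List.range 45 := by
    rw [List.mem_range]; omega
  have h1 := h _ ha
  rw [List.all_eq_true] at h1
  have hc : ((t - 2) / 9 + 11).toNat ∈ List.range 22 := by
    rw [List.mem_range]; omega
  have h2 := h1 _ hc
  have e1 : (1 + 9 * ((((p - 1) / 9 + 22).toNat : ℤ) - 22)) = p := by omega
  have e2 : (2 + 9 * ((((t - 2) / 9 + 11).toNat : ℤ) - 11)) = t := by omega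
  rw [e1, e2] at h2
  simp only [Bool.or_eq_true, beq_iff_eq] at h2
  rcases h2 with h2 | h2
  · exfalso; apply ht7; omega
  · exact h2

theorem numA (hp : p % 9 = 1) (hs : s % 9 = 1) (ht : t % 9 = 2) (ht7 : t ≠ -7) (hn : n % 9 = 1)
    (hF : (n : ℚ) * FA p s t = 9) (hS0 : SA p s t ≤ 72 * n) :
    (p = 1 ∧ s = 1 ∧ t = 2 ∧ n = 1) ∨ (p = 10 ∧ s = 1 ∧ t = -16 ∧ n = 10) ∨ (p = 10 ∧ s = 10 ∧ t = -16 ∧ n = 10) ∨
      (p = 10 ∧ s = -8 ∧ t = -16 ∧ n = 280) ∨ (p = -8 ∧ s = 28 ∧ t = -25 ∧ n = 2800) := by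
  obtain ⟨ht1, ht2⟩ := no_large_t hp hs ht ht7 hF hS0
  obtain ⟨hp1, hp2⟩ := no_large_p hp hs ht ht7 hF hS0 ht1 ht2
  have hpair := pair_of_bounds hp ht ht7 ht1 ht2 hp1 hp2
  obtain ⟨hFpos, hnpos⟩ := pos_of_mul hF
  have hFe := fa_eq p s t
  have hLe : LA p t = 1 + 2 * (1 / (p : ℚ)) + 8 * (1 / (t : ℚ)) + 2 * (1 / ((1 + p + t : ℤ) : ℚ)) := by
    unfold LA; ring
  have hB := lb s 8 (1 / 8) (by norm_num) (by norm_num) (by omega)
  have hH := lb (p + s + t) 5 (1 / 5) (by norm_num) (by norm_num) (by omega)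
  have hFL : LA p t - 21 / 40 ≤ FA p s t := by
    rw [hFe, hLe]; linarith
  have hSS : SB p t ≤ SA p s t := by
    unfold SA SB
    nlinarith [sq_nonneg s, sq_nonneg (p + s + t)]
  have hSBpos : 0 < SB p t := by
    unfold SB
    nlinarith [sq_nonneg p, sq_nonneg t, sq_nonneg (1 + p + t)]
  have hprod : FA p s t * ((SA p s t : ℤ) : ℚ) ≤ 648 := by
    have h1 : ((SA p s t : ℤ) : ℚ) ≤ 72 * n := by exact_mod_cast hS0
    calc FA p s t * ((SA p s t : ℤ) : ℚ) ≤ FA p s t * (72 * n) := mul_le_mul_of_nonneg_left h1 hFpos.le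
      _ = 72 * ((n : ℚ) * FA p s t) := by ring
      _ = 648 := by rw [hF]; norm_num
  have hfilter : (LA p t - 21 / 40) * ((SB p t : ℤ) : ℚ) ≤ 648 := by
    have hSBq : (0 : ℚ) < ((SB p t : ℤ) : ℚ) := by exact_mod_cast hSBpos
    have hSSq : ((SB p t : ℤ) : ℚ) ≤ ((SA p s t : ℤ) : ℚ) := by exact_mod_cast hSS
    by_cases h0 : LA p t - 21 / 40 ≤ 0
    · have : (LA p t - 21 / 40) * ((SB p t : ℤ) : ℚ) ≤ 0 := mul_nonpos_of_nonpos_of_nonneg h0 hSBq.le
      linarith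
    · push Not at h0
      calc (LA p t - 21 / 40) * ((SB p t : ℤ) : ℚ) ≤ FA p s t * ((SB p t : ℤ) : ℚ) :=
            mul_le_mul_of_nonneg_right hFL hSBq.le
        _ ≤ FA p s t * ((SA p s t : ℤ) : ℚ) := mul_le_mul_of_nonneg_left hSSq hFpos.le
        _ ≤ 648 := hprod
  unfold pairOk at hpair
  rw [if_pos hfilter] at hpair
  simp only [Bool.and_eq_true, decide_eq_true_eq] at hpair
  obtain ⟨hL, hall⟩ := hpair
  rw [List.all_eq_true] at hall
  -- `s` is small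
  have hs500 : -500 < s ∧ s < 500 := by
    by_contra hcon
    have h500 : s ≤ -500 ∨ 500 ≤ s := by
      by_contra h
      exact hcon (by omega)
    have h1 := lb s 500 (1 / 500) (by norm_num) (by norm_num) (by omega)
    have h2 := lb (p + s + t) 204 (1 / 204) (by norm_num) (by norm_num) (by omega)
    have hbig : (3 / 20 : ℚ) ≤ FA p s t := by
      rw [hFe]
      rw [hLe] at hL
      linarith
    have hn3 := n_le (by norm_num) hF hbig
    have hn2 : n ≤ 60 := by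
      have : (n : ℚ) ≤ 60 := by linarith
      exact_mod_cast this
    have hS : s ^ 2 ≤ SA p s t := by
      unfold SA
      nlinarith [sq_nonneg p, sq_nonneg t, sq_nonneg (1 + p + t), sq_nonneg (p + s + t)]
    have hs2 : 250000 ≤ s ^ 2 := by
      rcases h500 with h | h <;> nlinarith
    omega
  obtain ⟨hs1, hs2⟩ := hs500
  have hb : ((s - 1) / 9 + 55).toNat ∈ List.range 111 := by
    rw [List.mem_range]; omega
  have h3 := hall _ hb
  have e1 : (1 + 9 * ((((s - 1) / 9 + 55).toNat : ℤ) - 55)) = s := by omega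
  rw [e1] at h3
  unfold tripleOk at h3
  have hq : 9 / FA p s t = (n : ℚ) := by
    field_simp
    linarith
  have hcond : 0 < FA p s t ∧ (9 / FA p s t).den = 1 ∧ (9 / FA p s t).num % 9 = 1 ∧
      ((SA p s t : ℤ) : ℚ) ≤ 72 * (9 / FA p s t) := by
    refine ⟨hFpos, ?_, ?_, ?_⟩
    · rw [hq]; simp
    · rw [hq]
      simp only [Rat.num_natCast]
      omega
    · rw [hq]; exact_mod_cast hS0
  simp only [] at h3
  rw [if_pos hcond] at h3
  unfold finalA at h3
  simp only [Bool.or_eq_true, Bool.and_eq_true, beq_iff_eq] at h3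
  have hnq : (n : ℚ) = 9 / FA p s t := hq.symm
  rcases h3 with (((⟨⟨h1, h2⟩, h4⟩ | ⟨⟨h1, h2⟩, h4⟩) | ⟨⟨h1, h2⟩, h4⟩) | ⟨⟨h1, h2⟩, h4⟩) | ⟨⟨h1, h2⟩, h4⟩
  · subst h1 h2 h4
    left
    refine ⟨rfl, rfl, rfl, ?_⟩
    have : (n : ℚ) = 1 := by rw [hnq]; norm_num [FA]
    exact_mod_cast this
  · subst h1 h2 h4
    right; left
    refine ⟨rfl, rfl, rfl, ?_⟩
    have : (n : ℚ) = 10 := by rw [hnq]; norm_num [FA]
    exact_mod_cast this
  · subst h1 h2 h4
    right; right; left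
    refine ⟨rfl, rfl, rfl, ?_⟩
    have : (n : ℚ) = 10 := by rw [hnq]; norm_num [FA]
    exact_mod_cast this
  · subst h1 h2 h4
    right; right; right; left
    refine ⟨rfl, rfl, rfl, ?_⟩
    have : (n : ℚ) = 280 := by rw [hnq]; norm_num [FA]
    exact_mod_cast this
  · subst h1 h2 h4
    right; right; right; right
    refine ⟨rfl, rfl, rfl, ?_⟩
    have : (n : ℚ) = 2800 := by rw [hnq]; norm_num [FA]
    exact_mod_cast this

end MainA

section MainB

def FB (p q t : ℤ) : ℚ :=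
  2 + 1 / (p : ℚ) + 1 / (q : ℚ) + 8 / (t : ℚ) + 2 / ((1 + p + t : ℤ) : ℚ) + 2 / ((1 + q + t : ℤ) : ℚ)

def SBB (p q t : ℤ) : ℤ :=
  2 + p ^ 2 + q ^ 2 + t ^ 2 + 2 * (1 + p + t) ^ 2 + 2 * (1 + q + t) ^ 2

def allOkB : Bool :=
  (List.range 9).all fun a => (List.range 9).all fun b => (List.range 9).all fun c =>
    let p : ℤ := 1 + 9 * ((a : ℤ) - 4)
    let q : ℤ := 1 + 9 * ((b : ℤ) - 4)
    let t : ℤ := 2 + 9 * ((c : ℤ) - 4)
    (t == -7) || (p == q) || !decide (0 < FB p q t ∧ FB p q t * ((SBB p q t : ℤ) : ℚ) ≤ 648)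

set_option maxRecDepth 100000 in
theorem allOkB_eq : allOkB = true := by decide +kernel

theorem numB {p q t : ℤ} {n : ℕ} (hp : p % 9 = 1) (hq : q % 9 = 1) (ht : t % 9 = 2) (ht7 : t ≠ -7)
    (hF : (n : ℚ) * FB p q t = 9) (hS0 : SBB p q t ≤ 72 * n) : p = q := by
  obtain ⟨hFpos, hnpos⟩ := pos_of_mul hF
  have hFe : FB p q t = 2 + 1 / (p : ℚ) + 1 / (q : ℚ) + 8 * (1 / (t : ℚ)) + 2 * (1 / ((1 + p + t : ℤ) : ℚ)) +
      2 * (1 / ((1 + q + t : ℤ) : ℚ)) := by
    unfold FB; ring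
  have h1 := lb p 8 (1 / 8) (by norm_num) (by norm_num) (by omega)
  have h2 := lb q 8 (1 / 8) (by norm_num) (by norm_num) (by omega)
  have h3 := lb t 16 (1 / 16) (by norm_num) (by norm_num) (by omega)
  have h4 := lb (1 + p + t) 5 (1 / 5) (by norm_num) (by norm_num) (by omega)
  have h5 := lb (1 + q + t) 5 (1 / 5) (by norm_num) (by norm_num) (by omega)
  have hbig : (9 / 20 : ℚ) ≤ FB p q t := by
    rw [hFe]; linarith
  have hn := n_le (by norm_num) hF hbig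
  have hn2 : n ≤ 20 := by
    have : (n : ℚ) ≤ 20 := by linarith
    exact_mod_cast this
  have hS : SBB p q t ≤ 1440 := by omega
  have hpb : p ^ 2 ≤ 1440 := by
    unfold SBB at hS
    nlinarith [sq_nonneg q, sq_nonneg t, sq_nonneg (1 + p + t), sq_nonneg (1 + q + t)]
  have hqb : q ^ 2 ≤ 1440 := by
    unfold SBB at hS
    nlinarith [sq_nonneg p, sq_nonneg t, sq_nonneg (1 + p + t), sq_nonneg (1 + q + t)]
  have htb : t ^ 2 ≤ 1440 := by
    unfold SBB at hS
    nlinarith [sq_nonneg p, sq_nonneg q, sq_nonneg (1 + p + t), sq_nonneg (1 + q + t)]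
  have bd : ∀ v : ℤ, v ^ 2 ≤ 1440 → -38 < v ∧ v < 38 := by
    intro v hv
    constructor <;> nlinarith
  obtain ⟨hp1, hp2⟩ := bd p hpb
  obtain ⟨hq1, hq2⟩ := bd q hqb
  obtain ⟨ht1, ht2⟩ := bd t htb
  have h := allOkB_eq
  unfold allOkB at h
  rw [List.all_eq_true] at h
  have ha : ((p - 1) / 9 + 4).toNat ∈ List.range 9 := by
    rw [List.mem_range]; omega
  have hb : ((q - 1) / 9 + 4).toNat ∈ List.range 9 := by
    rw [List.mem_range]; omega
  have hc : ((t - 2) / 9 + 4).toNat ∈ List.range 9 := by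
    rw [List.mem_range]; omega
  have h6 := h _ ha
  rw [List.all_eq_true] at h6
  have h7 := h6 _ hb
  rw [List.all_eq_true] at h7
  have h8 := h7 _ hc
  have e1 : (1 + 9 * ((((p - 1) / 9 + 4).toNat : ℤ) - 4)) = p := by omega
  have e2 : (1 + 9 * ((((q - 1) / 9 + 4).toNat : ℤ) - 4)) = q := by omega
  have e3 : (2 + 9 * ((((t - 2) / 9 + 4).toNat : ℤ) - 4)) = t := by omega
  simp only [e1, e2, e3] at h8
  simp only [Bool.or_eq_true, beq_iff_eq, Bool.not_eq_true', decide_eq_false_iff_not] at h8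
  rcases h8 with (h8 | h8) | h8
  · exact absurd h8 ht7
  · exact h8
  · exfalso
    apply h8
    refine ⟨hFpos, ?_⟩
    have h9 : ((SBB p q t : ℤ) : ℚ) ≤ 72 * n := by exact_mod_cast hS0
    calc FB p q t * ((SBB p q t : ℤ) : ℚ) ≤ FB p q t * (72 * n) := mul_le_mul_of_nonneg_left h9 hFpos.le
      _ = 72 * ((n : ℚ) * FB p q t) := by ring
      _ = 648 := by rw [hF]; norm_num

end MainB

section General

/-- The general value `F`. -/
def FG (p q s t : ℤ) : ℚ :=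
  1 + 1 / (p : ℚ) + 1 / (q : ℚ) + 1 / (s : ℚ) + 8 / (t : ℚ) - 2 / ((1 + p + t : ℤ) : ℚ) - 2 / ((q + s + t : ℤ) : ℚ)
    + 4 / ((1 + q + t : ℤ) : ℚ) + 4 / ((p + s + t : ℤ) : ℚ)

/-- The general value `F'`. -/
def FG' (p q s t : ℤ) : ℚ :=
  1 + 1 / (p : ℚ) + 1 / (q : ℚ) + 1 / (s : ℚ) + 8 / (t : ℚ) + 4 / ((1 + p + t : ℤ) : ℚ) + 4 / ((q + s + t : ℤ) : ℚ)
    - 2 / ((1 + q + t : ℤ) : ℚ) - 2 / ((p + s + t : ℤ) : ℚ)

/-- The general sum of squares. -/
def SG (p q s t : ℤ) : ℤ :=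
  1 + p ^ 2 + q ^ 2 + s ^ 2 + t ^ 2 + (1 + p + t) ^ 2 + (q + s + t) ^ 2 + (1 + q + t) ^ 2 + (p + s + t) ^ 2

theorem num_main {p q s t : ℤ} {n : ℕ} (hp : p % 9 = 1) (hq : q % 9 = 1) (hs : s % 9 = 1) (ht : t % 9 = 2)
    (ht7 : t ≠ -7) (hn : n % 9 = 1) (hF : (n : ℚ) * FG p q s t = 9) (hF' : (n : ℚ) * FG' p q s t = 9)
    (hS0 : SG p q s t ≤ 72 * n) :
    (p = 1 ∧ q = 1 ∧ s = 1 ∧ t = 2 ∧ n = 1) ∨ (p = 10 ∧ q = 10 ∧ s = 1 ∧ t = -16 ∧ n = 10) ∨
      (p = 10 ∧ q = 10 ∧ s = 10 ∧ t = -16 ∧ n = 10) ∨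
      (p = 10 ∧ q = 10 ∧ s = -8 ∧ t = -16 ∧ n = 280) ∨ (p = -8 ∧ q = -8 ∧ s = 28 ∧ t = -25 ∧ n = 2800) := by
  obtain ⟨_, hnpos⟩ := pos_of_mul hF
  have ha1 := ne_of_mod (v := 1 + p + t) (r := 4) (by omega) (by norm_num)
  have ha2 := ne_of_mod (v := q + s + t) (r := 4) (by omega) (by norm_num)
  have hb1 := ne_of_mod (v := 1 + q + t) (r := 4) (by omega) (by norm_num)
  have hb2 := ne_of_mod (v := p + s + t) (r := 4) (by omega) (by norm_num)
  have hE := ne_of_mod (v := 1 + p + q + s + 2 * t) (r := 8) (by omega) (by norm_num)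
  have hEq : FG p q s t = FG' p q s t := by
    have h : (n : ℚ) * (FG p q s t - FG' p q s t) = 0 := by
      rw [mul_sub, hF, hF']; ring
    have h2 := (mul_eq_zero.mp h).resolve_left hnpos.ne'
    linarith
  have hcase : p = q ∨ s = 1 := by
    set a1 : ℚ := ((1 + p + t : ℤ) : ℚ) with ha1d
    set a2 : ℚ := ((q + s + t : ℤ) : ℚ) with ha2d
    set b1 : ℚ := ((1 + q + t : ℤ) : ℚ) with hb1d
    set b2 : ℚ := ((p + s + t : ℤ) : ℚ) with hb2d
    have hsum : a1 + a2 = b1 + b2 := by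
      simp only [ha1d, ha2d, hb1d, hb2d]; push_cast; ring
    have hEE : a1 + a2 ≠ 0 := by
      have : a1 + a2 = ((1 + p + q + s + 2 * t : ℤ) : ℚ) := by
        simp only [ha1d, ha2d]; push_cast; ring
      rw [this]; exact hE
    have hrec : 1 / a1 + 1 / a2 = 1 / b1 + 1 / b2 := by
      unfold FG FG' at hEq
      rw [← ha1d, ← ha2d, ← hb1d, ← hb2d] at hEq
      have h6 : 6 * (1 / a1 + 1 / a2) = 6 * (1 / b1 + 1 / b2) := by
        have e1 : ∀ c x : ℚ, c / x = c * (1 / x) := fun c x => by ring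
        rw [e1 2 a1, e1 2 a2, e1 4 b1, e1 4 b2, e1 4 a1, e1 4 a2, e1 2 b1, e1 2 b2] at hEq
        linarith
      linarith
    have hprod : a1 * a2 = b1 * b2 := by
      have h1 : (a1 + a2) * (b1 * b2) = (b1 + b2) * (a1 * a2) := by
        field_simp at hrec
        linarith
      rw [← hsum] at h1
      exact (mul_left_cancel₀ hEE h1).symm
    have hz : (a1 - b1) * (a1 - b2) = 0 := by
      have : (a1 - b1) * (a1 - b2) = a1 ^ 2 - a1 * (b1 + b2) + b1 * b2 := by ring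
      rw [this, ← hsum, ← hprod]; ring
    rcases mul_eq_zero.mp hz with h | h
    · left
      have : ((p - q : ℤ) : ℚ) = 0 := by
        have e : a1 - b1 = ((p - q : ℤ) : ℚ) := by
          simp only [ha1d, hb1d]; push_cast; ring
        rw [← e]; exact h
      have h2 : p - q = 0 := by exact_mod_cast this
      omega
    · right
      have : ((1 - s : ℤ) : ℚ) = 0 := by
        have e : a1 - b2 = ((1 - s : ℤ) : ℚ) := by
          simp only [ha1d, hb2d]; push_cast; ring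
        rw [← e]; exact h
      have h2 : 1 - s = 0 := by exact_mod_cast this
      omega
  have hpq : p = q := by
    rcases hcase with h | h
    · exact h
    · subst h
      have e1 : FG p q 1 t = FB p q t := by
        unfold FG FB
        have e2 : q + 1 + t = 1 + q + t := by ring
        have e3 : p + 1 + t = 1 + p + t := by ring
        rw [e2, e3]
        push_cast
        ring
      have e4 : SG p q 1 t = SBB p q t := by
        unfold SG SBB; ring
      rw [e1] at hF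
      rw [e4] at hS0
      exact numB hp hq ht ht7 hF hS0
  subst hpq
  have e1 : FG p p s t = FA p s t := by
    unfold FG FA
    push_cast
    ring
  have e2 : SG p p s t = SA p s t := by
    unfold SG SA; ring
  rw [e1] at hF
  rw [e2] at hS0
  have := numA hp hs ht ht7 hn hF hS0
  rcases this with ⟨h1, h2, h3, h4⟩ | ⟨h1, h2, h3, h4⟩ | ⟨h1, h2, h3, h4⟩ | ⟨h1, h2, h3, h4⟩ | ⟨h1, h2, h3, h4⟩
  · exact Or.inl ⟨h1, h1, h2, h3, h4⟩
  · exact Or.inr (Or.inl ⟨h1, h1, h2, h3, h4⟩)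
  · exact Or.inr (Or.inr (Or.inl ⟨h1, h1, h2, h3, h4⟩))
  · exact Or.inr (Or.inr (Or.inr (Or.inl ⟨h1, h1, h2, h3, h4⟩)))
  · exact Or.inr (Or.inr (Or.inr (Or.inr ⟨h1, h1, h2, h3, h4⟩)))

end General

end Cfsg.Agent.Lib.S6RecNum
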