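import Mathlib
import Cfsg.Agent.Lib.S6RecNum

set_option autoImplicit false
set_option linter.unusedVariables false

namespace Cfsg.Agent.Lib.S6RecPat

open Cfsg.Agent.Lib.S6RecNum

variable {ι : Type*} [Fintype ι] [DecidableEq ι]

/-- The hypotheses on the columns of the character table. -/
structure Cols (D X Y U V : ι → ℤ) (i₀ : ι) : Prop where
  D0 : D i₀ = 1
  X0 : X i₀ = 1
  Y0 : Y i₀ = 1
  U0 : U i₀ = 1
  V0 : V i₀ = 1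
  Dpos : ∀ i, 0 < D i
  h3 : ∀ i, (3 : ℤ) ∣ X i - Y i
  h2U : ∀ i, (2 : ℤ) ∣ X i - U i
  h2V : ∀ i, (2 : ℤ) ∣ Y i - V i
  XX : ∑ i, X i ^ 2 = 18
  YY : ∑ i, Y i ^ 2 = 18
  UU : ∑ i, U i ^ 2 = 6
  VV : ∑ i, V i ^ 2 = 6
  XY : ∑ i, X i * Y i = 0
  XU : ∑ i, X i * U i = 0
  XV : ∑ i, X i * V i = 0
  YU : ∑ i, Y i * U i = 0
  YV : ∑ i, Y i * V i = 0
  UV : ∑ i, U i * V i = 0
  DX : ∑ i, D i * X i = 0
  DY : ∑ i, D i * Y i = 0
  DU : ∑ i, D i * U i = 0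
  DV : ∑ i, D i * V i = 0
  zero : ∀ i, X i = 0 ∨ Y i = 0 → X i = 0 ∧ Y i = 0

omit [DecidableEq ι] in
/-- Tightness of a sum of squares. -/
theorem tight [DecidableEq ι] {O : Finset ι} {U : ι → ℤ} (h : ∑ i, U i ^ 2 = (O.card : ℤ)) (h1 : ∀ i ∈ O, U i ≠ 0) :
    (∀ i ∈ O, U i ^ 2 = 1) ∧ ∀ i, i ∉ O → U i = 0 := by
  have hge : ∀ i ∈ O, 1 ≤ U i ^ 2 := by
    intro i hi
    have := h1 i hi
    have : 0 < U i ^ 2 := by positivity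
    omega
  have hsplit : ∑ i ∈ O, U i ^ 2 + ∑ i ∈ Oᶜ, U i ^ 2 = ∑ i, U i ^ 2 := Finset.sum_add_sum_compl O _
  have h2 : ∑ i ∈ O, (1 : ℤ) ≤ ∑ i ∈ O, U i ^ 2 := Finset.sum_le_sum hge
  have h2' : (O.card : ℤ) ≤ ∑ i ∈ O, U i ^ 2 := by simpa using h2
  have h3 : 0 ≤ ∑ i ∈ Oᶜ, U i ^ 2 := Finset.sum_nonneg (fun _ _ => sq_nonneg _)
  have h4 : ∑ i ∈ Oᶜ, U i ^ 2 = 0 := by omega
  have h5 : ∑ i ∈ O, U i ^ 2 = ∑ i ∈ O, (1 : ℤ) := by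
    simp only [Finset.sum_const, nsmul_eq_mul, mul_one]
    omega
  constructor
  · have h6 := (Finset.sum_eq_sum_iff_of_le (s := O) (f := fun _ => (1 : ℤ)) (g := fun i => U i ^ 2) hge).mp h5.symm
    intro i hi
    exact (h6 i hi).symm
  · intro i hi
    have h6 := (Finset.sum_eq_zero_iff_of_nonneg (s := Oᶜ) (f := fun i => U i ^ 2) (fun _ _ => sq_nonneg _)).mp h4
    have := h6 i (Finset.mem_compl.mpr hi)
    exact pow_eq_zero_iff (by norm_num) |>.mp this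

omit [Fintype ι] [DecidableEq ι] in
theorem sum_const_of {s : Finset ι} {f : ι → ℤ} {c : ℤ} (h : ∀ i ∈ s, f i = c) : ∑ i ∈ s, f i = s.card * c := by
  rw [Finset.sum_congr rfl h]; simp

omit [DecidableEq ι] in
/-- The three remaining rows with `X = Y = ±1`. -/
theorem sign3 {e₁ e₂ e₃ : ι} {u v : ι → ℤ}
    (h1 : u e₁ = 1 ∨ u e₁ = -1) (h2 : u e₂ = 1 ∨ u e₂ = -1) (h3 : u e₃ = 1 ∨ u e₃ = -1)
    (h4 : v e₁ = 1 ∨ v e₁ = -1) (h5 : v e₂ = 1 ∨ v e₂ = -1) (h6 : v e₃ = 1 ∨ v e₃ = -1)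
    (hu : u e₁ + u e₂ + u e₃ = -1) (hv : v e₁ + v e₂ + v e₃ = -1)
    (huv : u e₁ * v e₁ + u e₂ * v e₂ + u e₃ * v e₃ = -1) :
    (u e₁ = 1 ∧ v e₁ = -1 ∧ u e₂ = -1 ∧ v e₂ = 1 ∧ u e₃ = -1 ∧ v e₃ = -1) ∨
    (u e₁ = 1 ∧ v e₁ = -1 ∧ u e₃ = -1 ∧ v e₃ = 1 ∧ u e₂ = -1 ∧ v e₂ = -1) ∨
    (u e₂ = 1 ∧ v e₂ = -1 ∧ u e₁ = -1 ∧ v e₁ = 1 ∧ u e₃ = -1 ∧ v e₃ = -1) ∨
    (u e₂ = 1 ∧ v e₂ = -1 ∧ u e₃ = -1 ∧ v e₃ = 1 ∧ u e₁ = -1 ∧ v e₁ = -1) ∨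
    (u e₃ = 1 ∧ v e₃ = -1 ∧ u e₁ = -1 ∧ v e₁ = 1 ∧ u e₂ = -1 ∧ v e₂ = -1) ∨
    (u e₃ = 1 ∧ v e₃ = -1 ∧ u e₂ = -1 ∧ v e₂ = 1 ∧ u e₁ = -1 ∧ v e₁ = -1) := by
  rcases h1 with h1 | h1 <;> rcases h2 with h2 | h2 <;> rcases h3 with h3 | h3 <;>
  rcases h4 with h4 | h4 <;> rcases h5 with h5 | h5 <;> rcases h6 with h6 | h6 <;>
  rw [h1, h2, h3] at hu <;> rw [h4, h5, h6] at hv <;> rw [h1, h2, h3, h4, h5, h6] at huv <;>
  first
  | (norm_num at hu; done)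
  | (norm_num at hv; done)
  | (norm_num at huv; done)
  | (simp only [h1, h2, h3, h4, h5, h6]; norm_num)

/-- The values on the rows with `X ≠ Y`. -/
theorem row_of_T {x y w : ℤ} (hw : x - y = 3 * w) (hw1 : w = 1 ∨ w = -1) (hx : x ≠ 0) (hy : y ≠ 0)
    (hx2 : x ^ 2 ≤ 14) (hy2 : y ^ 2 ≤ 14) :
    (w = 1 ∧ x = 1 ∧ y = -2) ∨ (w = 1 ∧ x = 2 ∧ y = -1) ∨ (w = -1 ∧ x = -1 ∧ y = 2) ∨ (w = -1 ∧ x = -2 ∧ y = 1) := by
  have h1 : x ≤ 3 := by nlinarith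
  have h2 : -3 ≤ x := by nlinarith
  have h3 : y ≤ 3 := by nlinarith
  have h4 : -3 ≤ y := by nlinarith
  rcases hw1 with rfl | rfl <;> omega


omit [DecidableEq ι] in
theorem bound_T [DecidableEq ι] {T : Finset ι} {F : ι → ℤ} {i₀ : ι} (hi₀ : i₀ ∉ T) (hT : T.card = 4)
    (hne : ∀ i ∈ T, F i ≠ 0) (hF0 : F i₀ = 1) (hsum : ∑ i, F i ^ 2 = 18) {j : ι} (hj : j ∈ T) :
    F j ^ 2 ≤ 14 := by
  have h1 : ∑ i ∈ insert i₀ T, F i ^ 2 ≤ ∑ i, F i ^ 2 :=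
    Finset.sum_le_sum_of_subset_of_nonneg (Finset.subset_univ _) (fun _ _ _ => sq_nonneg _)
  rw [Finset.sum_insert hi₀, hF0, ← Finset.add_sum_erase T _ hj, hsum] at h1
  have h2 : ∑ i ∈ T.erase j, (1 : ℤ) ≤ ∑ i ∈ T.erase j, F i ^ 2 := by
    refine Finset.sum_le_sum fun i hi => ?_
    have := hne i (Finset.mem_of_mem_erase hi)
    have : 0 < F i ^ 2 := by positivity
    omega
  simp only [Finset.sum_const, nsmul_eq_mul, mul_one, Finset.card_erase_of_mem hj, hT] at h2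
  norm_num at h2
  linarith

set_option maxHeartbeats 4000000 in
/-- The shape of the table. -/
theorem exists_rows {D X Y U V : ι → ℤ} {i₀ : ι} (h : Cols D X Y U V i₀) :
    ∃ (i₁ i₂ i₃ τ a₁ a₂ b₁ b₂ : ι) (ε₁ ε₂ ε₃ δ η₁ η₂ κ₁ κ₂ : ℤ),
      (ε₁ = 1 ∨ ε₁ = -1) ∧ (ε₂ = 1 ∨ ε₂ = -1) ∧ (ε₃ = 1 ∨ ε₃ = -1) ∧ (δ = 1 ∨ δ = -1) ∧
      (η₁ = 1 ∨ η₁ = -1) ∧ (η₂ = 1 ∨ η₂ = -1) ∧ (κ₁ = 1 ∨ κ₁ = -1) ∧ (κ₂ = 1 ∨ κ₂ = -1) ∧
      (X i₁ = ε₁ ∧ Y i₁ = ε₁ ∧ U i₁ = ε₁ ∧ V i₁ = -ε₁) ∧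
      (X i₂ = ε₂ ∧ Y i₂ = ε₂ ∧ U i₂ = -ε₂ ∧ V i₂ = ε₂) ∧
      (X i₃ = ε₃ ∧ Y i₃ = ε₃ ∧ U i₃ = -ε₃ ∧ V i₃ = -ε₃) ∧
      (X τ = 2 * δ ∧ Y τ = 2 * δ ∧ U τ = 0 ∧ V τ = 0) ∧
      (X a₁ = η₁ ∧ Y a₁ = -2 * η₁ ∧ U a₁ = -η₁ ∧ V a₁ = 0) ∧
      (X a₂ = η₂ ∧ Y a₂ = -2 * η₂ ∧ U a₂ = η₂ ∧ V a₂ = 0) ∧
      (X b₁ = -2 * κ₁ ∧ Y b₁ = κ₁ ∧ U b₁ = 0 ∧ V b₁ = -κ₁) ∧
      (X b₂ = -2 * κ₂ ∧ Y b₂ = κ₂ ∧ U b₂ = 0 ∧ V b₂ = κ₂) ∧
      (∀ i, i ≠ i₀ → i ≠ i₁ → i ≠ i₂ → i ≠ i₃ → i ≠ τ → i ≠ a₁ → i ≠ a₂ → i ≠ b₁ → i ≠ b₂ →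
        X i = 0 ∧ Y i = 0 ∧ U i = 0 ∧ V i = 0) := by
  classical
  choose w hw using h.h3
  have hlin : ∀ f : ι → ℤ, ∑ i, f i * X i - ∑ i, f i * Y i = 3 * ∑ i, f i * w i := by
    intro f
    rw [← Finset.sum_sub_distrib, Finset.mul_sum]
    refine Finset.sum_congr rfl fun i _ => ?_
    have := hw i
    linear_combination f i * this
  have hw2 : ∑ i, w i ^ 2 = 4 := by
    have h1 : ∑ i, (X i - Y i) ^ 2 = 36 := by
      have : ∀ i, (X i - Y i) ^ 2 = X i ^ 2 + Y i ^ 2 - 2 * (X i * Y i) := fun i => by ring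
      simp only [this, Finset.sum_sub_distrib, Finset.sum_add_distrib, ← Finset.mul_sum, h.XX, h.YY, h.XY]
      norm_num
    have h2 : ∑ i, (X i - Y i) ^ 2 = 9 * ∑ i, w i ^ 2 := by
      rw [Finset.mul_sum]
      exact Finset.sum_congr rfl fun i _ => by rw [hw i]; ring
    linarith
  have hDw : ∑ i, D i * w i = 0 := by
    have := hlin D
    rw [h.DX, h.DY] at this
    linarith
  have hXw : ∑ i, X i * w i = 6 := by
    have := hlin X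
    simp only [← pow_two] at this
    rw [h.XX, h.XY] at this
    linarith
  have hUw : ∑ i, U i * w i = 0 := by
    have := hlin U
    have h1 : ∑ i, U i * X i = 0 := by rw [← h.XU]; exact Finset.sum_congr rfl fun i _ => mul_comm _ _
    have h2 : ∑ i, U i * Y i = 0 := by rw [← h.YU]; exact Finset.sum_congr rfl fun i _ => mul_comm _ _
    rw [h1, h2] at this
    linarith
  have hVw : ∑ i, V i * w i = 0 := by
    have := hlin V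
    have h1 : ∑ i, V i * X i = 0 := by rw [← h.XV]; exact Finset.sum_congr rfl fun i _ => mul_comm _ _
    have h2 : ∑ i, V i * Y i = 0 := by rw [← h.YV]; exact Finset.sum_congr rfl fun i _ => mul_comm _ _
    rw [h1, h2] at this
    linarith
  have hw1 : ∀ i, w i ^ 2 ≤ 1 := by
    intro i
    by_contra hi
    push Not at hi
    have h1 : w i ^ 2 ≤ ∑ j, w j ^ 2 :=
      Finset.single_le_sum (f := fun j => w j ^ 2) (fun _ _ => sq_nonneg _) (Finset.mem_univ i)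
    have h2 : ∑ j ∈ Finset.univ.erase i, w j ^ 2 + w i ^ 2 = 4 := by
      rw [Finset.sum_erase_add _ _ (Finset.mem_univ i)]
      exact hw2
    have h3 : w i ^ 2 = 4 := by
      have h4 : w i ≠ 0 := by
        intro h5; rw [h5] at hi; norm_num at hi
      have h5 : w i ≠ 1 := by
        intro h5; rw [h5] at hi; norm_num at hi
      have h6 : w i ≠ -1 := by
        intro h5; rw [h5] at hi; norm_num at hi
      have h7 : 2 ≤ w i ∨ w i ≤ -2 := by omega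
      have h8 : 4 ≤ w i ^ 2 := by
        rcases h7 with h7 | h7 <;> nlinarith
      have h9 : 0 ≤ ∑ j ∈ Finset.univ.erase i, w j ^ 2 := Finset.sum_nonneg fun _ _ => sq_nonneg _
      omega
    have h4 : ∑ j ∈ Finset.univ.erase i, w j ^ 2 = 0 := by omega
    have h5 : ∀ j, j ≠ i → w j = 0 := by
      intro j hj
      have h6 := (Finset.sum_eq_zero_iff_of_nonneg (s := Finset.univ.erase i) (f := fun j => w j ^ 2)
        (fun _ _ => sq_nonneg _)).mp h4 j (Finset.mem_erase.mpr ⟨hj, Finset.mem_univ _⟩)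
      exact pow_eq_zero_iff (by norm_num) |>.mp h6
    have h6 : ∑ j, D j * w j = D i * w i :=
      Finset.sum_eq_single i (fun j _ hj => by rw [h5 j hj, mul_zero]) (by simp)
    rw [hDw] at h6
    have h7 : w i = 0 := by
      rcases mul_eq_zero.mp h6.symm with h8 | h8
      · have := h.Dpos i; omega
      · exact h8
    rw [h7] at h3
    norm_num at h3
  have hw3 : ∀ i, w i ≠ 0 → w i = 1 ∨ w i = -1 := by
    intro i hi
    have h1 := hw1 i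
    have h2 : w i ≤ 1 := by nlinarith
    have h3 : -1 ≤ w i := by nlinarith
    omega
  set T := Finset.univ.filter fun i => w i ≠ 0 with hTdef
  have hmemT : ∀ i, i ∈ T ↔ w i ≠ 0 := fun i => by simp [hTdef]
  have hi₀w : w i₀ = 0 := by
    have := hw i₀
    rw [h.X0, h.Y0] at this
    omega
  have hi₀T : i₀ ∉ T := by
    rw [hmemT]; simpa using hi₀w
  have hcardT : T.card = 4 := by
    have h1 : ∑ i ∈ T, w i ^ 2 = ∑ i, w i ^ 2 := by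
      refine Finset.sum_subset (Finset.subset_univ _) fun i _ hi => ?_
      rw [hmemT] at hi
      push Not at hi
      rw [hi]; norm_num
    have h2 : ∑ i ∈ T, w i ^ 2 = T.card * 1 := by
      refine sum_const_of fun i hi => ?_
      rcases hw3 i ((hmemT i).mp hi) with h3 | h3 <;> rw [h3] <;> norm_num
    rw [hw2] at h1
    omega
  have hTne : ∀ i ∈ T, X i ≠ 0 ∧ Y i ≠ 0 := by
    intro i hi
    have h1 : ¬ (X i = 0 ∧ Y i = 0) := by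
      rintro ⟨h2, h3⟩
      have h4 := hw i
      rw [h2, h3] at h4
      exact (hmemT i).mp hi (by omega)
    constructor
    · exact fun h2 => h1 (h.zero i (Or.inl h2))
    · exact fun h2 => h1 (h.zero i (Or.inr h2))
  have hTval : ∀ i ∈ T, (w i = 1 ∧ X i = 1 ∧ Y i = -2) ∨ (w i = 1 ∧ X i = 2 ∧ Y i = -1) ∨
      (w i = -1 ∧ X i = -1 ∧ Y i = 2) ∨ (w i = -1 ∧ X i = -2 ∧ Y i = 1) := by
    intro i hi
    exact row_of_T (hw i) (hw3 i ((hmemT i).mp hi)) (hTne i hi).1 (hTne i hi).2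
      (bound_T hi₀T hcardT (fun j hj => (hTne j hj).1) h.X0 h.XX hi)
      (bound_T hi₀T hcardT (fun j hj => (hTne j hj).2) h.Y0 h.YY hi)
  -- the partition
  set R := Finset.univ.filter fun i => ¬ w i ≠ 0 with hRdef
  have hmemR : ∀ i, i ∈ R ↔ w i = 0 := fun i => by simp [hRdef]
  set T₁ := T.filter fun i => Odd (X i) with hT₁def
  set T₂ := T.filter fun i => ¬ Odd (X i) with hT₂def
  set E := R.filter fun i => Odd (X i) with hEdef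
  set R' := R.filter fun i => ¬ Odd (X i) with hR'def
  set F := R'.filter fun i => X i ≠ 0 with hFdef
  set Z := R'.filter fun i => ¬ X i ≠ 0 with hZdef
  have hsplit : ∀ f : ι → ℤ, ∑ i, f i = ∑ i ∈ T₁, f i + ∑ i ∈ T₂, f i + ∑ i ∈ E, f i + ∑ i ∈ F, f i + ∑ i ∈ Z, f i := by
    intro f
    have h1 := Finset.sum_filter_add_sum_filter_not (Finset.univ : Finset ι) (fun i => w i ≠ 0) f
    have h2 := Finset.sum_filter_add_sum_filter_not T (fun i => Odd (X i)) f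
    have h3 := Finset.sum_filter_add_sum_filter_not R (fun i => Odd (X i)) f
    have h4 := Finset.sum_filter_add_sum_filter_not R' (fun i => X i ≠ 0) f
    rw [← h1]
    have h5 : ∑ i ∈ Finset.univ.filter (fun i => w i ≠ 0), f i = ∑ i ∈ T, f i := rfl
    have h6 : ∑ i ∈ Finset.univ.filter (fun i => ¬ w i ≠ 0), f i = ∑ i ∈ R, f i := rfl
    rw [h5, h6, ← h2, ← h3, ← h4]
    ring
  have hT₁ : ∀ i ∈ T₁, (w i = 1 ∧ X i = 1 ∧ Y i = -2) ∨ (w i = -1 ∧ X i = -1 ∧ Y i = 2) := by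
    intro i hi
    have h1 := Finset.mem_filter.mp hi
    rcases hTval i h1.1 with h2 | h2 | h2 | h2
    · exact Or.inl h2
    · exfalso; have h3 := h1.2; rw [h2.2.1] at h3; exact absurd h3 (by decide)
    · exact Or.inr h2
    · exfalso; have h3 := h1.2; rw [h2.2.1] at h3; exact absurd h3 (by decide)
  have hT₂ : ∀ i ∈ T₂, (w i = 1 ∧ X i = 2 ∧ Y i = -1) ∨ (w i = -1 ∧ X i = -2 ∧ Y i = 1) := by
    intro i hi
    have h1 := Finset.mem_filter.mp hi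
    rcases hTval i h1.1 with h2 | h2 | h2 | h2
    · exfalso; have h3 := h1.2; rw [h2.2.1] at h3; exact h3 (by decide)
    · exact Or.inl h2
    · exfalso; have h3 := h1.2; rw [h2.2.1] at h3; exact h3 (by decide)
    · exact Or.inr h2
  have hRw : ∀ i ∈ R, w i = 0 := fun i hi => (hmemR i).mp hi
  have hRXY : ∀ i, w i = 0 → X i = Y i := by
    intro i hi
    have := hw i
    rw [hi] at this
    omega
  have hEw : ∀ i ∈ E, w i = 0 ∧ Odd (X i) := fun i hi =>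
    ⟨hRw i (Finset.mem_filter.mp hi).1, (Finset.mem_filter.mp hi).2⟩
  have hFw : ∀ i ∈ F, w i = 0 ∧ ¬ Odd (X i) ∧ X i ≠ 0 := by
    intro i hi
    have h1 := Finset.mem_filter.mp hi
    have h2 := Finset.mem_filter.mp h1.1
    exact ⟨hRw i h2.1, h2.2, h1.2⟩
  have hZw : ∀ i ∈ Z, w i = 0 ∧ X i = 0 ∧ Y i = 0 := by
    intro i hi
    have h1 := Finset.mem_filter.mp hi
    have h2 := Finset.mem_filter.mp h1.1
    have h3 : X i = 0 := by simpa using h1.2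
    exact ⟨hRw i h2.1, h3, by rw [← hRXY i (hRw i h2.1)]; exact h3⟩
  -- counting
  have hn₁₂ : T₁.card + T₂.card = 4 := by
    rw [← hcardT]
    exact Finset.card_filter_add_card_filter_not _
  have hXwsum : (T₁.card : ℤ) + 2 * T₂.card = 6 := by
    rw [hsplit] at hXw
    have h1 : ∑ i ∈ T₁, X i * w i = T₁.card * 1 := by
      refine sum_const_of fun i hi => ?_
      rcases hT₁ i hi with h2 | h2 <;> rw [h2.1, h2.2.1] <;> norm_num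
    have h2 : ∑ i ∈ T₂, X i * w i = T₂.card * 2 := by
      refine sum_const_of fun i hi => ?_
      rcases hT₂ i hi with h2 | h2 <;> rw [h2.1, h2.2.1] <;> norm_num
    have h3 : ∑ i ∈ E, X i * w i = 0 := Finset.sum_eq_zero fun i hi => by rw [(hEw i hi).1, mul_zero]
    have h4 : ∑ i ∈ F, X i * w i = 0 := Finset.sum_eq_zero fun i hi => by rw [(hFw i hi).1, mul_zero]
    have h5 : ∑ i ∈ Z, X i * w i = 0 := Finset.sum_eq_zero fun i hi => by rw [(hZw i hi).1, mul_zero]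
    rw [h1, h2, h3, h4, h5] at hXw
    linarith
  have hcT₁ : T₁.card = 2 := by omega
  have hcT₂ : T₂.card = 2 := by omega
  have hXX : ∑ i ∈ E, X i ^ 2 + ∑ i ∈ F, X i ^ 2 = 8 := by
    have h0 := h.XX
    rw [hsplit] at h0
    have h1 : ∑ i ∈ T₁, X i ^ 2 = T₁.card * 1 := by
      refine sum_const_of fun i hi => ?_
      rcases hT₁ i hi with h2 | h2 <;> rw [h2.2.1] <;> norm_num
    have h2 : ∑ i ∈ T₂, X i ^ 2 = T₂.card * 4 := by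
      refine sum_const_of fun i hi => ?_
      rcases hT₂ i hi with h2 | h2 <;> rw [h2.2.1] <;> norm_num
    have h5 : ∑ i ∈ Z, X i ^ 2 = 0 := Finset.sum_eq_zero fun i hi => by rw [(hZw i hi).2.1]; norm_num
    rw [h1, h2, h5, hcT₁, hcT₂] at h0
    push_cast at h0
    linarith
  have hEval : ∀ i ∈ E, X i = 1 ∨ X i = -1 := by
    intro i hi
    have h1 : X i ^ 2 ≤ ∑ j ∈ E, X j ^ 2 :=
      Finset.single_le_sum (f := fun j => X j ^ 2) (fun _ _ => sq_nonneg _) hi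
    have h2 : 0 ≤ ∑ j ∈ F, X j ^ 2 := Finset.sum_nonneg fun _ _ => sq_nonneg _
    have h3 : X i ≤ 2 := by nlinarith
    have h4 : -2 ≤ X i := by nlinarith
    have h5 := (hEw i hi).2
    obtain ⟨k, hk⟩ := h5
    omega
  have hFval : ∀ i ∈ F, X i = 2 ∨ X i = -2 := by
    intro i hi
    have h1 : X i ^ 2 ≤ ∑ j ∈ F, X j ^ 2 :=
      Finset.single_le_sum (f := fun j => X j ^ 2) (fun _ _ => sq_nonneg _) hi
    have h2 : 0 ≤ ∑ j ∈ E, X j ^ 2 := Finset.sum_nonneg fun _ _ => sq_nonneg _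
    have h3 : X i ≤ 2 := by nlinarith
    have h4 : -2 ≤ X i := by nlinarith
    have h5 := (hFw i hi).2.1
    have h6 := (hFw i hi).2.2
    rw [Int.not_odd_iff_even] at h5
    obtain ⟨k, hk⟩ := h5
    omega
  have hef : (E.card : ℤ) + 4 * F.card = 8 := by
    have h1 : ∑ i ∈ E, X i ^ 2 = E.card * 1 := by
      refine sum_const_of fun i hi => ?_
      rcases hEval i hi with h2 | h2 <;> rw [h2] <;> norm_num
    have h2 : ∑ i ∈ F, X i ^ 2 = F.card * 4 := by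
      refine sum_const_of fun i hi => ?_
      rcases hFval i hi with h2 | h2 <;> rw [h2] <;> norm_num
    rw [h1, h2] at hXX
    linarith
  have hi₀E : i₀ ∈ E := by
    refine Finset.mem_filter.mpr ⟨(hmemR i₀).mpr hi₀w, ?_⟩
    rw [h.X0]; decide
  -- the odd rows
  have hoddne : ∀ {a b : ℤ}, (2 : ℤ) ∣ a - b → Odd a → b ≠ 0 := by
    intro a b hab ha hb
    rw [hb, sub_zero] at hab
    exact (Int.not_even_iff_odd.mpr ha) (even_iff_two_dvd.mpr hab)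
  have hT₁odd : ∀ i ∈ T₁, Odd (X i) := fun i hi => (Finset.mem_filter.mp hi).2
  have hT₂odd : ∀ i ∈ T₂, Odd (Y i) := by
    intro i hi
    rcases hT₂ i hi with h2 | h2 <;> rw [h2.2.2] <;> decide
  have hEoddY : ∀ i ∈ E, Odd (Y i) := by
    intro i hi
    rw [← hRXY i (hEw i hi).1]
    exact (hEw i hi).2
  have hdT₁E : Disjoint T₁ E := by
    rw [Finset.disjoint_left]
    intro i hi hi2
    have h1 : w i ≠ 0 := (hmemT i).mp (Finset.mem_filter.mp hi).1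
    exact h1 (hEw i hi2).1
  have hdT₂E : Disjoint T₂ E := by
    rw [Finset.disjoint_left]
    intro i hi hi2
    have h1 : w i ≠ 0 := (hmemT i).mp (Finset.mem_filter.mp hi).1
    exact h1 (hEw i hi2).1
  have hUne : ∀ i ∈ T₁ ∪ E, U i ≠ 0 := by
    intro i hi
    rcases Finset.mem_union.mp hi with h1 | h1
    · exact hoddne (h.h2U i) (hT₁odd i h1)
    · exact hoddne (h.h2U i) (hEw i h1).2
  have hVne : ∀ i ∈ T₂ ∪ E, V i ≠ 0 := by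
    intro i hi
    rcases Finset.mem_union.mp hi with h1 | h1
    · exact hoddne (h.h2V i) (hT₂odd i h1)
    · exact hoddne (h.h2V i) (hEoddY i h1)
  have hcU : ((T₁ ∪ E).card : ℤ) ≤ 6 := by
    have h1 : ∑ i ∈ T₁ ∪ E, U i ^ 2 ≤ ∑ i, U i ^ 2 :=
      Finset.sum_le_sum_of_subset_of_nonneg (Finset.subset_univ _) (fun _ _ _ => sq_nonneg _)
    have h2 : ∑ i ∈ T₁ ∪ E, (1 : ℤ) ≤ ∑ i ∈ T₁ ∪ E, U i ^ 2 := by
      refine Finset.sum_le_sum fun i hi => ?_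
      have := hUne i hi
      have : 0 < U i ^ 2 := by positivity
      omega
    simp only [Finset.sum_const, nsmul_eq_mul, mul_one] at h2
    rw [h.UU] at h1
    linarith
  have hcardU : (T₁ ∪ E).card = T₁.card + E.card := Finset.card_union_of_disjoint hdT₁E
  have hcardV : (T₂ ∪ E).card = T₂.card + E.card := Finset.card_union_of_disjoint hdT₂E
  have hEpos : 1 ≤ E.card := Finset.card_pos.mpr ⟨i₀, hi₀E⟩
  have hcE : E.card = 4 := by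
    rw [hcardU, hcT₁] at hcU
    push_cast at hcU
    omega
  have hcF : F.card = 1 := by
    rw [hcE] at hef
    push_cast at hef
    omega
  have htU := tight (O := T₁ ∪ E) (U := U) (by rw [h.UU, hcardU, hcT₁, hcE]; norm_num) hUne
  have htV := tight (O := T₂ ∪ E) (U := V) (by rw [h.VV, hcardV, hcT₂, hcE]; norm_num) hVne
  have hsq1 : ∀ {a : ℤ}, a ^ 2 = 1 → a = 1 ∨ a = -1 := by
    intro a ha
    have : (a - 1) * (a + 1) = 0 := by linear_combination ha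
    rcases mul_eq_zero.mp this with h1 | h1
    · left; omega
    · right; omega
  -- off the rows
  have hUoff : ∀ i, i ∉ T₁ → i ∉ E → U i = 0 := fun i h1 h2 =>
    htU.2 i (by rw [Finset.mem_union]; tauto)
  have hVoff : ∀ i, i ∉ T₂ → i ∉ E → V i = 0 := fun i h1 h2 =>
    htV.2 i (by rw [Finset.mem_union]; tauto)
  have hUon : ∀ i, i ∈ T₁ ∨ i ∈ E → U i = 1 ∨ U i = -1 := fun i hi =>
    hsq1 (htU.1 i (Finset.mem_union.mpr hi))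
  have hVon : ∀ i, i ∈ T₂ ∨ i ∈ E → V i = 1 ∨ V i = -1 := fun i hi =>
    hsq1 (htV.1 i (Finset.mem_union.mpr hi))
  have hdisj : ∀ i, (i ∈ T₂ → i ∉ T₁ ∧ i ∉ E) ∧ (i ∈ T₁ → i ∉ T₂ ∧ i ∉ E) ∧ (i ∈ F → i ∉ T₁ ∧ i ∉ T₂ ∧ i ∉ E) ∧
      (i ∈ Z → i ∉ T₁ ∧ i ∉ T₂ ∧ i ∉ E) := by
    intro i
    refine ⟨fun hi => ⟨?_, ?_⟩, fun hi => ⟨?_, ?_⟩, fun hi => ⟨?_, ?_, ?_⟩, fun hi => ⟨?_, ?_, ?_⟩⟩
    · intro h1
      exact (Finset.mem_filter.mp hi).2 (Finset.mem_filter.mp h1).2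
    · intro h1
      exact (hmemT i).mp (Finset.mem_filter.mp hi).1 (hEw i h1).1
    · intro h1
      exact (Finset.mem_filter.mp h1).2 (Finset.mem_filter.mp hi).2
    · intro h1
      exact (hmemT i).mp (Finset.mem_filter.mp hi).1 (hEw i h1).1
    · intro h1
      exact (hmemT i).mp (Finset.mem_filter.mp h1).1 (hFw i hi).1
    · intro h1
      exact (hmemT i).mp (Finset.mem_filter.mp h1).1 (hFw i hi).1
    · intro h1
      exact (hFw i hi).2.1 (hEw i h1).2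
    · intro h1
      exact (hmemT i).mp (Finset.mem_filter.mp h1).1 (hZw i hi).1
    · intro h1
      exact (hmemT i).mp (Finset.mem_filter.mp h1).1 (hZw i hi).1
    · intro h1
      have h2 := (hEw i h1).2
      rw [(hZw i hi).2.1] at h2
      exact absurd h2 (by decide)
  -- explicit rows
  obtain ⟨a, b, hab, hT₁eq⟩ := Finset.card_eq_two.mp hcT₁
  obtain ⟨c, d, hcd, hT₂eq⟩ := Finset.card_eq_two.mp hcT₂
  obtain ⟨τ, hFeq⟩ := Finset.card_eq_one.mp hcF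
  have hcE' : (E.erase i₀).card = 3 := by rw [Finset.card_erase_of_mem hi₀E, hcE]
  obtain ⟨e₁, e₂, e₃, he12, he13, he23, hE'eq⟩ := Finset.card_eq_three.mp hcE'
  have hEmem : ∀ i, i ∈ E ↔ i = i₀ ∨ i = e₁ ∨ i = e₂ ∨ i = e₃ := by
    intro i
    have h1 : ∀ i, i ∈ E.erase i₀ ↔ i = e₁ ∨ i = e₂ ∨ i = e₃ := by
      intro i; rw [hE'eq]; simp
    constructor
    · intro hi
      by_cases h2 : i = i₀
      · exact Or.inl h2
      · exact Or.inr ((h1 i).mp (Finset.mem_erase.mpr ⟨h2, hi⟩))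
    · rintro (rfl | h2)
      · exact hi₀E
      · exact Finset.mem_of_mem_erase ((h1 i).mpr h2)
  have he₁E : e₁ ∈ E := (hEmem e₁).mpr (by simp)
  have he₂E : e₂ ∈ E := (hEmem e₂).mpr (by simp)
  have he₃E : e₃ ∈ E := (hEmem e₃).mpr (by simp)
  have he₁0 : e₁ ≠ i₀ := by
    have : e₁ ∈ E.erase i₀ := by rw [hE'eq]; simp
    exact Finset.ne_of_mem_erase this
  have he₂0 : e₂ ≠ i₀ := by
    have : e₂ ∈ E.erase i₀ := by rw [hE'eq]; simp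
    exact Finset.ne_of_mem_erase this
  have he₃0 : e₃ ≠ i₀ := by
    have : e₃ ∈ E.erase i₀ := by rw [hE'eq]; simp
    exact Finset.ne_of_mem_erase this
  have haT : a ∈ T₁ := by rw [hT₁eq]; simp
  have hbT : b ∈ T₁ := by rw [hT₁eq]; simp
  have hcT : c ∈ T₂ := by rw [hT₂eq]; simp
  have hdT : d ∈ T₂ := by rw [hT₂eq]; simp
  have hτF : τ ∈ F := by rw [hFeq]; simp
  have hsum : ∀ f : ι → ℤ, ∑ i, f i = f a + f b + f c + f d + f i₀ + f e₁ + f e₂ + f e₃ + f τ + ∑ i ∈ Z, f i := by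
    intro f
    rw [hsplit, hT₁eq, hT₂eq, hFeq, Finset.sum_pair hab, Finset.sum_pair hcd, Finset.sum_singleton,
      ← Finset.add_sum_erase E _ hi₀E, hE'eq, Finset.sum_insert (by simp [he12, he13]),
      Finset.sum_pair he23]
    ring
  -- values
  have ha2 := hdisj a
  have hb2 := hdisj b
  have hc2 := hdisj c
  have hd2 := hdisj d
  have hτ2 := hdisj τ
  have hVa : V a = 0 := hVoff a (ha2.2.1 haT).1 (ha2.2.1 haT).2
  have hVb : V b = 0 := hVoff b (hb2.2.1 hbT).1 (hb2.2.1 hbT).2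
  have hUc : U c = 0 := hUoff c (hc2.1 hcT).1 (hc2.1 hcT).2
  have hUd : U d = 0 := hUoff d (hd2.1 hdT).1 (hd2.1 hdT).2
  have hUτ : U τ = 0 := hUoff τ (hτ2.2.2.1 hτF).1 (hτ2.2.2.1 hτF).2.2
  have hVτ : V τ = 0 := hVoff τ (hτ2.2.2.1 hτF).2.1 (hτ2.2.2.1 hτF).2.2
  have hZzero : ∀ i ∈ Z, X i = 0 ∧ Y i = 0 ∧ U i = 0 ∧ V i = 0 := by
    intro i hi
    have h1 := (hdisj i).2.2.2 hi
    exact ⟨(hZw i hi).2.1, (hZw i hi).2.2, hUoff i h1.1 h1.2.2, hVoff i h1.2.1 h1.2.2⟩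
  have hwe : ∀ i ∈ E, w i = 0 := fun i hi => (hEw i hi).1
  have hwτ : w τ = 0 := (hFw τ hτF).1
  have hUwa : U a * w a + U b * w b = 0 := by
    rw [hsum] at hUw
    have h1 : ∑ i ∈ Z, U i * w i = 0 := Finset.sum_eq_zero fun i hi => by rw [(hZw i hi).1, mul_zero]
    rw [h1, hUc, hUd, hwe i₀ hi₀E, hwe e₁ he₁E, hwe e₂ he₂E, hwe e₃ he₃E, hwτ] at hUw
    linarith
  have hVwc : V c * w c + V d * w d = 0 := by
    rw [hsum] at hVw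
    have h1 : ∑ i ∈ Z, V i * w i = 0 := Finset.sum_eq_zero fun i hi => by rw [(hZw i hi).1, mul_zero]
    rw [h1, hVa, hVb, hwe i₀ hi₀E, hwe e₁ he₁E, hwe e₂ he₂E, hwe e₃ he₃E, hwτ] at hVw
    linarith
  have hUa := hUon a (Or.inl haT)
  have hUb := hUon b (Or.inl hbT)
  have hVc := hVon c (Or.inl hcT)
  have hVd := hVon d (Or.inl hdT)
  have hrow_a := hT₁ a haT
  have hrow_b := hT₁ b hbT
  have hrow_c := hT₂ c hcT
  have hrow_d := hT₂ d hdT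
  -- labelling of T₁
  have hlabA : ∃ a₁ a₂ : ι, (a₁ = a ∧ a₂ = b ∨ a₁ = b ∧ a₂ = a) ∧ X a₁ * U a₁ = -1 ∧ X a₂ * U a₂ = 1 := by
    rcases hrow_a with ⟨h1, h2, h3⟩ | ⟨h1, h2, h3⟩ <;> rcases hrow_b with ⟨h4, h5, h6⟩ | ⟨h4, h5, h6⟩ <;>
    rcases hUa with h7 | h7 <;> rcases hUb with h8 | h8 <;>
    rw [h1, h4, h7, h8] at hUwa <;> norm_num at hUwa
    · exact ⟨b, a, Or.inr ⟨rfl, rfl⟩, by rw [h5, h8]; norm_num, by rw [h2, h7]; norm_num⟩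
    · exact ⟨a, b, Or.inl ⟨rfl, rfl⟩, by rw [h2, h7]; norm_num, by rw [h5, h8]; norm_num⟩
    · exact ⟨b, a, Or.inr ⟨rfl, rfl⟩, by rw [h5, h8]; norm_num, by rw [h2, h7]; norm_num⟩
    · exact ⟨a, b, Or.inl ⟨rfl, rfl⟩, by rw [h2, h7]; norm_num, by rw [h5, h8]; norm_num⟩
    · exact ⟨a, b, Or.inl ⟨rfl, rfl⟩, by rw [h2, h7]; norm_num, by rw [h5, h8]; norm_num⟩
    · exact ⟨b, a, Or.inr ⟨rfl, rfl⟩, by rw [h5, h8]; norm_num, by rw [h2, h7]; norm_num⟩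
    · exact ⟨a, b, Or.inl ⟨rfl, rfl⟩, by rw [h2, h7]; norm_num, by rw [h5, h8]; norm_num⟩
    · exact ⟨b, a, Or.inr ⟨rfl, rfl⟩, by rw [h5, h8]; norm_num, by rw [h2, h7]; norm_num⟩
  have hlabB : ∃ b₁ b₂ : ι, (b₁ = c ∧ b₂ = d ∨ b₁ = d ∧ b₂ = c) ∧ Y b₁ * V b₁ = -1 ∧ Y b₂ * V b₂ = 1 := by
    rcases hrow_c with ⟨h1, h2, h3⟩ | ⟨h1, h2, h3⟩ <;> rcases hrow_d with ⟨h4, h5, h6⟩ | ⟨h4, h5, h6⟩ <;>
    rcases hVc with h7 | h7 <;> rcases hVd with h8 | h8 <;>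
    rw [h1, h4, h7, h8] at hVwc <;> norm_num at hVwc
    · exact ⟨c, d, Or.inl ⟨rfl, rfl⟩, by rw [h3, h7]; norm_num, by rw [h6, h8]; norm_num⟩
    · exact ⟨d, c, Or.inr ⟨rfl, rfl⟩, by rw [h6, h8]; norm_num, by rw [h3, h7]; norm_num⟩
    · exact ⟨c, d, Or.inl ⟨rfl, rfl⟩, by rw [h3, h7]; norm_num, by rw [h6, h8]; norm_num⟩
    · exact ⟨d, c, Or.inr ⟨rfl, rfl⟩, by rw [h6, h8]; norm_num, by rw [h3, h7]; norm_num⟩
    · exact ⟨d, c, Or.inr ⟨rfl, rfl⟩, by rw [h6, h8]; norm_num, by rw [h3, h7]; norm_num⟩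
    · exact ⟨c, d, Or.inl ⟨rfl, rfl⟩, by rw [h3, h7]; norm_num, by rw [h6, h8]; norm_num⟩
    · exact ⟨d, c, Or.inr ⟨rfl, rfl⟩, by rw [h6, h8]; norm_num, by rw [h3, h7]; norm_num⟩
    · exact ⟨c, d, Or.inl ⟨rfl, rfl⟩, by rw [h3, h7]; norm_num, by rw [h6, h8]; norm_num⟩
  obtain ⟨a₁, a₂, hA, hA1, hA2⟩ := hlabA
  obtain ⟨b₁, b₂, hB, hB1, hB2⟩ := hlabB
  -- the three rows
  have hEX : ∀ i ∈ E, Y i = X i := fun i hi => (hRXY i (hwe i hi)).symm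
  have hUT : U a * X a + U b * X b = 0 := by
    rcases hrow_a with ⟨h1, h2, h3⟩ | ⟨h1, h2, h3⟩ <;> rcases hrow_b with ⟨h4, h5, h6⟩ | ⟨h4, h5, h6⟩ <;>
    rw [h1, h4] at hUwa <;> rw [h2, h5] <;> linarith
  have hVT : V c * Y c + V d * Y d = 0 := by
    rcases hrow_c with ⟨h1, h2, h3⟩ | ⟨h1, h2, h3⟩ <;> rcases hrow_d with ⟨h4, h5, h6⟩ | ⟨h4, h5, h6⟩ <;>
    rw [h1, h4] at hVwc <;> rw [h3, h6] <;> linarith
  have hu3 : X e₁ * U e₁ + X e₂ * U e₂ + X e₃ * U e₃ = -1 := by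
    have h0 := h.XU
    rw [hsum] at h0
    have h1 : ∑ i ∈ Z, X i * U i = 0 := Finset.sum_eq_zero fun i hi => by rw [(hZw i hi).2.1, zero_mul]
    rw [h1, hUc, hUd, hUτ, h.X0, h.U0] at h0
    linarith
  have hv3 : X e₁ * V e₁ + X e₂ * V e₂ + X e₃ * V e₃ = -1 := by
    have h0 := h.YV
    rw [hsum] at h0
    have h1 : ∑ i ∈ Z, Y i * V i = 0 := Finset.sum_eq_zero fun i hi => by rw [(hZw i hi).2.2, zero_mul]
    rw [h1, hVa, hVb, hVτ, h.Y0, h.V0, hEX e₁ he₁E, hEX e₂ he₂E, hEX e₃ he₃E] at h0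
    linarith
  have huv3 : U e₁ * V e₁ + U e₂ * V e₂ + U e₃ * V e₃ = -1 := by
    have h0 := h.UV
    rw [hsum] at h0
    have h1 : ∑ i ∈ Z, U i * V i = 0 := Finset.sum_eq_zero fun i hi => by rw [(hZzero i hi).2.2.1, zero_mul]
    rw [h1, hVa, hVb, hUc, hUd, hVτ, h.U0, h.V0] at h0
    linarith
  have hXe : ∀ i ∈ E, X i * X i = 1 := by
    intro i hi
    rcases hEval i hi with h1 | h1 <;> rw [h1] <;> norm_num
  have hpm : ∀ {p q : ℤ}, (p = 1 ∨ p = -1) → (q = 1 ∨ q = -1) → p * q = 1 ∨ p * q = -1 := by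
    rintro p q (rfl | rfl) (rfl | rfl) <;> norm_num
  have hs3 := sign3 (e₁ := e₁) (e₂ := e₂) (e₃ := e₃) (u := fun i => X i * U i) (v := fun i => X i * V i)
    (hpm (hEval e₁ he₁E) (hUon e₁ (Or.inr he₁E))) (hpm (hEval e₂ he₂E) (hUon e₂ (Or.inr he₂E)))
    (hpm (hEval e₃ he₃E) (hUon e₃ (Or.inr he₃E))) (hpm (hEval e₁ he₁E) (hVon e₁ (Or.inr he₁E)))
    (hpm (hEval e₂ he₂E) (hVon e₂ (Or.inr he₂E))) (hpm (hEval e₃ he₃E) (hVon e₃ (Or.inr he₃E))) hu3 hv3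
    (by
      have h1 : ∀ i ∈ E, X i * U i * (X i * V i) = U i * V i := by
        intro i hi
        have := hXe i hi
        linear_combination (U i * V i) * this
      show X e₁ * U e₁ * (X e₁ * V e₁) + X e₂ * U e₂ * (X e₂ * V e₂) + X e₃ * U e₃ * (X e₃ * V e₃) = -1
      rw [h1 e₁ he₁E, h1 e₂ he₂E, h1 e₃ he₃E]
      exact huv3)
  beta_reduce at hs3
  -- the final assembly
  have hfinish : ∀ i₁ i₂ i₃ : ι, (∀ i ∈ E, i = i₀ ∨ i = i₁ ∨ i = i₂ ∨ i = i₃) →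
      i₁ ∈ E → i₂ ∈ E → i₃ ∈ E →
      (X i₁ * U i₁ = 1 ∧ X i₁ * V i₁ = -1 ∧ X i₂ * U i₂ = -1 ∧ X i₂ * V i₂ = 1 ∧ X i₃ * U i₃ = -1 ∧ X i₃ * V i₃ = -1) →
      ∃ (i₁ i₂ i₃ τ a₁ a₂ b₁ b₂ : ι) (ε₁ ε₂ ε₃ δ η₁ η₂ κ₁ κ₂ : ℤ),
      (ε₁ = 1 ∨ ε₁ = -1) ∧ (ε₂ = 1 ∨ ε₂ = -1) ∧ (ε₃ = 1 ∨ ε₃ = -1) ∧ (δ = 1 ∨ δ = -1) ∧
      (η₁ = 1 ∨ η₁ = -1) ∧ (η₂ = 1 ∨ η₂ = -1) ∧ (κ₁ = 1 ∨ κ₁ = -1) ∧ (κ₂ = 1 ∨ κ₂ = -1) ∧
      (X i₁ = ε₁ ∧ Y i₁ = ε₁ ∧ U i₁ = ε₁ ∧ V i₁ = -ε₁) ∧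
      (X i₂ = ε₂ ∧ Y i₂ = ε₂ ∧ U i₂ = -ε₂ ∧ V i₂ = ε₂) ∧
      (X i₃ = ε₃ ∧ Y i₃ = ε₃ ∧ U i₃ = -ε₃ ∧ V i₃ = -ε₃) ∧
      (X τ = 2 * δ ∧ Y τ = 2 * δ ∧ U τ = 0 ∧ V τ = 0) ∧
      (X a₁ = η₁ ∧ Y a₁ = -2 * η₁ ∧ U a₁ = -η₁ ∧ V a₁ = 0) ∧
      (X a₂ = η₂ ∧ Y a₂ = -2 * η₂ ∧ U a₂ = η₂ ∧ V a₂ = 0) ∧
      (X b₁ = -2 * κ₁ ∧ Y b₁ = κ₁ ∧ U b₁ = 0 ∧ V b₁ = -κ₁) ∧
      (X b₂ = -2 * κ₂ ∧ Y b₂ = κ₂ ∧ U b₂ = 0 ∧ V b₂ = κ₂) ∧
      (∀ i, i ≠ i₀ → i ≠ i₁ → i ≠ i₂ → i ≠ i₃ → i ≠ τ → i ≠ a₁ → i ≠ a₂ → i ≠ b₁ → i ≠ b₂ →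
        X i = 0 ∧ Y i = 0 ∧ U i = 0 ∧ V i = 0) := by
    intro i₁ i₂ i₃ hE1 hi₁ hi₂ hi₃ ⟨h1u, h1v, h2u, h2v, h3u, h3v⟩
    have hAT : a₁ ∈ T₁ ∧ a₂ ∈ T₁ := by
      rcases hA with ⟨rfl, rfl⟩ | ⟨rfl, rfl⟩
      · exact ⟨haT, hbT⟩
      · exact ⟨hbT, haT⟩
    have hBT : b₁ ∈ T₂ ∧ b₂ ∈ T₂ := by
      rcases hB with ⟨rfl, rfl⟩ | ⟨rfl, rfl⟩
      · exact ⟨hcT, hdT⟩
      · exact ⟨hdT, hcT⟩
    have hrow_a₁ := hT₁ a₁ hAT.1
    have hrow_a₂ := hT₁ a₂ hAT.2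
    have hrow_b₁ := hT₂ b₁ hBT.1
    have hrow_b₂ := hT₂ b₂ hBT.2
    have hVa₁ : V a₁ = 0 := by
      rcases hA with ⟨rfl, rfl⟩ | ⟨rfl, rfl⟩ <;> assumption
    have hVa₂ : V a₂ = 0 := by
      rcases hA with ⟨rfl, rfl⟩ | ⟨rfl, rfl⟩ <;> assumption
    have hUb₁ : U b₁ = 0 := by
      rcases hB with ⟨rfl, rfl⟩ | ⟨rfl, rfl⟩ <;> assumption
    have hUb₂ : U b₂ = 0 := by
      rcases hB with ⟨rfl, rfl⟩ | ⟨rfl, rfl⟩ <;> assumption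
    have hrowE : ∀ i ∈ E, ∀ {u v : ℤ}, X i * U i = u → X i * V i = v → (u = 1 ∨ u = -1) → (v = 1 ∨ v = -1) →
        (X i = 1 ∨ X i = -1) ∧ Y i = X i ∧ U i = X i * u ∧ V i = X i * v := by
      intro i hi u v h1 h2 _ _
      refine ⟨hEval i hi, hEX i hi, ?_, ?_⟩
      · rw [← h1]; have := hXe i hi; linear_combination (-U i) * this
      · rw [← h2]; have := hXe i hi; linear_combination (-V i) * this
    obtain ⟨r11, r12, r13, r14⟩ := hrowE i₁ hi₁ h1u h1v (Or.inl rfl) (Or.inr rfl)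
    obtain ⟨r21, r22, r23, r24⟩ := hrowE i₂ hi₂ h2u h2v (Or.inr rfl) (Or.inl rfl)
    obtain ⟨r31, r32, r33, r34⟩ := hrowE i₃ hi₃ h3u h3v (Or.inr rfl) (Or.inr rfl)
    refine ⟨i₁, i₂, i₃, τ, a₁, a₂, b₁, b₂, X i₁, X i₂, X i₃, X τ / 2, X a₁, X a₂, Y b₁, Y b₂,
      r11, r21, r31, ?_, ?_, ?_, ?_, ?_, ?_, ?_, ?_, ?_, ?_, ?_, ?_, ?_, ?_⟩
    · rcases hFval τ hτF with h1 | h1 <;> rw [h1] <;> norm_num
    · rcases hrow_a₁ with ⟨_, h1, _⟩ | ⟨_, h1, _⟩ <;> simp [h1]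
    · rcases hrow_a₂ with ⟨_, h1, _⟩ | ⟨_, h1, _⟩ <;> simp [h1]
    · rcases hrow_b₁ with ⟨_, _, h1⟩ | ⟨_, _, h1⟩ <;> simp [h1]
    · rcases hrow_b₂ with ⟨_, _, h1⟩ | ⟨_, _, h1⟩ <;> simp [h1]
    · exact ⟨rfl, r12, by rw [r13]; ring, by rw [r14]; ring⟩
    · exact ⟨rfl, r22, by rw [r23]; ring, by rw [r24]; ring⟩
    · exact ⟨rfl, r32, by rw [r33]; ring, by rw [r34]; ring⟩
    · have hY : Y τ = X τ := (hRXY τ hwτ).symm
      rcases hFval τ hτF with h1 | h1 <;> rw [hY, h1] <;> exact ⟨by norm_num, by norm_num, hUτ, hVτ⟩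
    · rcases hrow_a₁ with ⟨_, h1, h2⟩ | ⟨_, h1, h2⟩ <;> rw [h1] at hA1 ⊢ <;> rw [h2] <;>
        exact ⟨rfl, by norm_num, by linarith, hVa₁⟩
    · rcases hrow_a₂ with ⟨_, h1, h2⟩ | ⟨_, h1, h2⟩ <;> rw [h1] at hA2 ⊢ <;> rw [h2] <;>
        exact ⟨rfl, by norm_num, by linarith, hVa₂⟩
    · rcases hrow_b₁ with ⟨_, h1, h2⟩ | ⟨_, h1, h2⟩ <;> rw [h2] at hB1 ⊢ <;> rw [h1] <;>
        exact ⟨by norm_num, rfl, hUb₁, by linarith⟩
    · rcases hrow_b₂ with ⟨_, h1, h2⟩ | ⟨_, h1, h2⟩ <;> rw [h2] at hB2 ⊢ <;> rw [h1] <;>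
        exact ⟨by norm_num, rfl, hUb₂, by linarith⟩
    · intro i h0 h1 h2 h3 h4 h5 h6 h7 h8
      have hiE : i ∉ E := fun hi => by
        rcases hE1 i hi with h9 | h9 | h9 | h9 <;> contradiction
      have hiT₁ : i ∉ T₁ := fun hi => by
        rw [hT₁eq, Finset.mem_insert, Finset.mem_singleton] at hi
        rcases hA with ⟨rfl, rfl⟩ | ⟨rfl, rfl⟩ <;> rcases hi with hi | hi <;> contradiction
      have hiT₂ : i ∉ T₂ := fun hi => by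
        rw [hT₂eq, Finset.mem_insert, Finset.mem_singleton] at hi
        rcases hB with ⟨rfl, rfl⟩ | ⟨rfl, rfl⟩ <;> rcases hi with hi | hi <;> contradiction
      have hiF : i ∉ F := fun hi => by
        rw [hFeq, Finset.mem_singleton] at hi
        contradiction
      have hiZ : i ∈ Z := by
        by_contra hiZ
        have hw0 : w i = 0 := by
          by_contra hne
          have h9 : i ∈ T := (hmemT i).mpr hne
          by_cases h10 : Odd (X i)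
          · exact hiT₁ (Finset.mem_filter.mpr ⟨h9, h10⟩)
          · exact hiT₂ (Finset.mem_filter.mpr ⟨h9, h10⟩)
        have h9 : i ∈ R := (hmemR i).mpr hw0
        by_cases h10 : Odd (X i)
        · exact hiE (Finset.mem_filter.mpr ⟨h9, h10⟩)
        · have h11 : i ∈ R' := Finset.mem_filter.mpr ⟨h9, h10⟩
          by_cases h12 : X i ≠ 0
          · exact hiF (Finset.mem_filter.mpr ⟨h11, h12⟩)
          · exact hiZ (Finset.mem_filter.mpr ⟨h11, h12⟩)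
      exact hZzero i hiZ
  rcases hs3 with ⟨h1, h2, h3, h4, h5, h6⟩ | ⟨h1, h2, h3, h4, h5, h6⟩ | ⟨h1, h2, h3, h4, h5, h6⟩ |
    ⟨h1, h2, h3, h4, h5, h6⟩ | ⟨h1, h2, h3, h4, h5, h6⟩ | ⟨h1, h2, h3, h4, h5, h6⟩
  · exact hfinish e₁ e₂ e₃ (fun i hi => by rcases (hEmem i).mp hi with h | h | h | h; exacts [Or.inl h, Or.inr (Or.inl h), Or.inr (Or.inr (Or.inl h)), Or.inr (Or.inr (Or.inr h))]) he₁E he₂E he₃E ⟨h1, h2, h3, h4, h5, h6⟩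
  · exact hfinish e₁ e₃ e₂ (fun i hi => by rcases (hEmem i).mp hi with h | h | h | h; exacts [Or.inl h, Or.inr (Or.inl h), Or.inr (Or.inr (Or.inr h)), Or.inr (Or.inr (Or.inl h))]) he₁E he₃E he₂E ⟨h1, h2, h3, h4, h5, h6⟩
  · exact hfinish e₂ e₁ e₃ (fun i hi => by rcases (hEmem i).mp hi with h | h | h | h; exacts [Or.inl h, Or.inr (Or.inr (Or.inl h)), Or.inr (Or.inl h), Or.inr (Or.inr (Or.inr h))]) he₂E he₁E he₃E ⟨h1, h2, h3, h4, h5, h6⟩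
  · exact hfinish e₂ e₃ e₁ (fun i hi => by rcases (hEmem i).mp hi with h | h | h | h; exacts [Or.inl h, Or.inr (Or.inr (Or.inr h)), Or.inr (Or.inl h), Or.inr (Or.inr (Or.inl h))]) he₂E he₃E he₁E ⟨h1, h2, h3, h4, h5, h6⟩
  · exact hfinish e₃ e₁ e₂ (fun i hi => by rcases (hEmem i).mp hi with h | h | h | h; exacts [Or.inl h, Or.inr (Or.inr (Or.inl h)), Or.inr (Or.inr (Or.inr h)), Or.inr (Or.inl h)]) he₃E he₁E he₂E ⟨h1, h2, h3, h4, h5, h6⟩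
  · exact hfinish e₃ e₂ e₁ (fun i hi => by rcases (hEmem i).mp hi with h | h | h | h; exacts [Or.inl h, Or.inr (Or.inr (Or.inr h)), Or.inr (Or.inr (Or.inl h)), Or.inr (Or.inl h)]) he₃E he₂E he₁E ⟨h1, h2, h3, h4, h5, h6⟩

end Cfsg.Agent.Lib.S6RecPat
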