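import Mathlib
import Cfsg.Agent.Lib.S6RecPat

set_option autoImplicit false
set_option linter.unusedVariables false

namespace Cfsg.Agent.Lib.S6RecPat2

open Cfsg.Agent.Lib.S6RecNum Cfsg.Agent.Lib.S6RecPat

variable {ι : Type*} [Fintype ι] [DecidableEq ι]

omit [DecidableEq ι] in
theorem sum_rows {A : Type*} [AddCommMonoid A] [DecidableEq ι] {i0 i1 i2 i3 i4 i5 i6 i7 i8 : ι}
    (hnd : [i0, i1, i2, i3, i4, i5, i6, i7, i8].Nodup) (f : ι → A)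
    (hf : ∀ i, i ≠ i0 → i ≠ i1 → i ≠ i2 → i ≠ i3 → i ≠ i4 → i ≠ i5 → i ≠ i6 → i ≠ i7 → i ≠ i8 → f i = 0) :
    ∑ i, f i = f i0 + (f i1 + (f i2 + (f i3 + (f i4 + (f i5 + (f i6 + (f i7 + f i8))))))) := by
  have h1 : ∑ i ∈ [i0, i1, i2, i3, i4, i5, i6, i7, i8].toFinset, f i = ∑ i, f i := by
    refine Finset.sum_subset (Finset.subset_univ _) fun i _ hi => ?_
    simp only [List.mem_toFinset, List.mem_cons, List.not_mem_nil, or_false, not_or] at hi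
    obtain ⟨h0, h1, h2, h3, h4, h5, h6, h7, h8⟩ := hi
    exact hf i h0 h1 h2 h3 h4 h5 h6 h7 h8
  rw [← h1, List.sum_toFinset _ hnd]
  simp

theorem term1 {ε : ℤ} (d : ℤ) (h : ε = 1 ∨ ε = -1) : (((ε ^ 2 * ε : ℤ) : ℚ) / (d : ℚ)) = 1 / ((ε * d : ℤ) : ℚ) := by
  rcases h with rfl | rfl <;> push_cast <;> simp [div_neg, neg_div]

theorem term2 {ε : ℤ} (d : ℤ) (h : ε = 1 ∨ ε = -1) : ((((2 * ε) ^ 2 * (2 * ε) : ℤ) : ℚ) / (d : ℚ)) = 8 / ((ε * d : ℤ) : ℚ) := by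
  rcases h with rfl | rfl <;> push_cast <;> norm_num [div_neg, neg_div]

theorem term3 {ε : ℤ} (d : ℤ) (h : ε = 1 ∨ ε = -1) : ((((ε) ^ 2 * (-2 * ε) : ℤ) : ℚ) / (d : ℚ)) = -2 / ((ε * d : ℤ) : ℚ) := by
  rcases h with rfl | rfl <;> push_cast <;> norm_num [div_neg, neg_div]

theorem term4 {ε : ℤ} (d : ℤ) (h : ε = 1 ∨ ε = -1) : (((((-2 * ε)) ^ 2 * (ε) : ℤ) : ℚ) / (d : ℚ)) = 4 / ((ε * d : ℤ) : ℚ) := by
  rcases h with rfl | rfl <;> push_cast <;> norm_num [div_neg, neg_div]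

theorem term3' {ε : ℤ} (d : ℤ) (h : ε = 1 ∨ ε = -1) : ((((-2 * ε) ^ 2 * (ε) : ℤ) : ℚ) / (d : ℚ)) = 4 / ((ε * d : ℤ) : ℚ) := term4 d h

theorem term4' {ε : ℤ} (d : ℤ) (h : ε = 1 ∨ ε = -1) : ((((ε) ^ 2 * (-2 * ε) : ℤ) : ℚ) / (d : ℚ)) = -2 / ((ε * d : ℤ) : ℚ) := term3 d h

set_option maxHeartbeats 4000000 in
/-- The three cases of the numerical analysis. -/
theorem rows_cases {D X Y U V : ι → ℤ} {i₀ : ι} (h : Cols D X Y U V i₀) {n : ℕ} (hn : n % 9 = 1)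
    (hmod : ∀ i, ∃ r : ℕ, D i + 4 * X i + 4 * Y i = 9 * r)
    (hF : (n : ℚ) * ∑ i, ((X i ^ 2 * Y i : ℤ) : ℚ) / (D i : ℚ) = 9)
    (hF' : (n : ℚ) * ∑ i, ((Y i ^ 2 * X i : ℤ) : ℚ) / (D i : ℚ) = 9)
    (hS : ∑ i, D i ^ 2 = 72 * (n : ℤ)) :
    n = 1 ∨ (n = 10 ∧ ∀ i, ¬ (D i = 1 ∧ X i = 1 ∧ Y i = 1 ∧ U i = -1 ∧ V i = 1)) ∨
      ((n = 280 ∨ n = 2800) ∧ ∃ i, D i = 5 ∧ X i = -1 ∧ Y i = 2 ∧
        ∀ j, X j = X i → Y j = Y i → U j = U i → V j = V i → j = i) := by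
  obtain ⟨i₁, i₂, i₃, τ, a₁, a₂, b₁, b₂, ε₁, ε₂, ε₃, δ, η₁, η₂, κ₁, κ₂, hε₁, hε₂, hε₃, hδ, hη₁, hη₂, hκ₁, hκ₂,
    ⟨x1, y1, u1, v1⟩, ⟨x2, y2, u2, v2⟩, ⟨x3, y3, u3, v3⟩, ⟨x4, y4, u4, v4⟩, ⟨x5, y5, u5, v5⟩, ⟨x6, y6, u6, v6⟩,
    ⟨x7, y7, u7, v7⟩, ⟨x8, y8, u8, v8⟩, hoff⟩ := exists_rows h
  have x0 := h.X0
  have y0 := h.Y0
  have u0 := h.U0
  have v0 := h.V0
  have d0 := h.D0
  have n_i₀_i₁ : i₀ ≠ i₁ := by
    intro he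
    subst he
    omega
  have n_i₀_i₂ : i₀ ≠ i₂ := by
    intro he
    subst he
    omega
  have n_i₀_i₃ : i₀ ≠ i₃ := by
    intro he
    subst he
    omega
  have n_i₀_τ : i₀ ≠ τ := by
    intro he
    subst he
    omega
  have n_i₀_a₁ : i₀ ≠ a₁ := by
    intro he
    subst he
    omega
  have n_i₀_a₂ : i₀ ≠ a₂ := by
    intro he
    subst he
    omega
  have n_i₀_b₁ : i₀ ≠ b₁ := by
    intro he
    subst he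
    omega
  have n_i₀_b₂ : i₀ ≠ b₂ := by
    intro he
    subst he
    omega
  have n_i₁_i₂ : i₁ ≠ i₂ := by
    intro he
    subst he
    omega
  have n_i₁_i₃ : i₁ ≠ i₃ := by
    intro he
    subst he
    omega
  have n_i₁_τ : i₁ ≠ τ := by
    intro he
    subst he
    omega
  have n_i₁_a₁ : i₁ ≠ a₁ := by
    intro he
    subst he
    omega
  have n_i₁_a₂ : i₁ ≠ a₂ := by
    intro he
    subst he
    omega
  have n_i₁_b₁ : i₁ ≠ b₁ := by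
    intro he
    subst he
    omega
  have n_i₁_b₂ : i₁ ≠ b₂ := by
    intro he
    subst he
    omega
  have n_i₂_i₃ : i₂ ≠ i₃ := by
    intro he
    subst he
    omega
  have n_i₂_τ : i₂ ≠ τ := by
    intro he
    subst he
    omega
  have n_i₂_a₁ : i₂ ≠ a₁ := by
    intro he
    subst he
    omega
  have n_i₂_a₂ : i₂ ≠ a₂ := by
    intro he
    subst he
    omega
  have n_i₂_b₁ : i₂ ≠ b₁ := by
    intro he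
    subst he
    omega
  have n_i₂_b₂ : i₂ ≠ b₂ := by
    intro he
    subst he
    omega
  have n_i₃_τ : i₃ ≠ τ := by
    intro he
    subst he
    omega
  have n_i₃_a₁ : i₃ ≠ a₁ := by
    intro he
    subst he
    omega
  have n_i₃_a₂ : i₃ ≠ a₂ := by
    intro he
    subst he
    omega
  have n_i₃_b₁ : i₃ ≠ b₁ := by
    intro he
    subst he
    omega
  have n_i₃_b₂ : i₃ ≠ b₂ := by
    intro he
    subst he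
    omega
  have n_τ_a₁ : τ ≠ a₁ := by
    intro he
    subst he
    omega
  have n_τ_a₂ : τ ≠ a₂ := by
    intro he
    subst he
    omega
  have n_τ_b₁ : τ ≠ b₁ := by
    intro he
    subst he
    omega
  have n_τ_b₂ : τ ≠ b₂ := by
    intro he
    subst he
    omega
  have n_a₁_a₂ : a₁ ≠ a₂ := by
    intro he
    subst he
    omega
  have n_a₁_b₁ : a₁ ≠ b₁ := by
    intro he
    subst he
    omega
  have n_a₁_b₂ : a₁ ≠ b₂ := by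
    intro he
    subst he
    omega
  have n_a₂_b₁ : a₂ ≠ b₁ := by
    intro he
    subst he
    omega
  have n_a₂_b₂ : a₂ ≠ b₂ := by
    intro he
    subst he
    omega
  have n_b₁_b₂ : b₁ ≠ b₂ := by
    intro he
    subst he
    omega
  have hnd : [i₀, i₁, i₂, i₃, τ, a₁, a₂, b₁, b₂].Nodup := by
    simp only [List.nodup_cons, List.mem_cons, List.not_mem_nil, or_false, not_or, List.nodup_nil, and_true,
      not_false_eq_true]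
    exact ⟨⟨n_i₀_i₁, n_i₀_i₂, n_i₀_i₃, n_i₀_τ, n_i₀_a₁, n_i₀_a₂, n_i₀_b₁, n_i₀_b₂⟩,
      ⟨n_i₁_i₂, n_i₁_i₃, n_i₁_τ, n_i₁_a₁, n_i₁_a₂, n_i₁_b₁, n_i₁_b₂⟩,
      ⟨n_i₂_i₃, n_i₂_τ, n_i₂_a₁, n_i₂_a₂, n_i₂_b₁, n_i₂_b₂⟩,
      ⟨n_i₃_τ, n_i₃_a₁, n_i₃_a₂, n_i₃_b₁, n_i₃_b₂⟩,
      ⟨n_τ_a₁, n_τ_a₂, n_τ_b₁, n_τ_b₂⟩,
      ⟨n_a₁_a₂, n_a₁_b₁, n_a₁_b₂⟩,
      ⟨n_a₂_b₁, n_a₂_b₂⟩,
      n_b₁_b₂⟩
  -- linear relations
  have eDX := sum_rows hnd (fun i => D i * X i) fun i h0 h1 h2 h3 h4 h5 h6 h7 h8 => by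
    simp only [(hoff i h0 h1 h2 h3 h4 h5 h6 h7 h8).1, mul_zero]
  have eDY := sum_rows hnd (fun i => D i * Y i) fun i h0 h1 h2 h3 h4 h5 h6 h7 h8 => by
    simp only [(hoff i h0 h1 h2 h3 h4 h5 h6 h7 h8).2.1, mul_zero]
  have eDU := sum_rows hnd (fun i => D i * U i) fun i h0 h1 h2 h3 h4 h5 h6 h7 h8 => by
    simp only [(hoff i h0 h1 h2 h3 h4 h5 h6 h7 h8).2.2.1, mul_zero]
  have eDV := sum_rows hnd (fun i => D i * V i) fun i h0 h1 h2 h3 h4 h5 h6 h7 h8 => by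
    simp only [(hoff i h0 h1 h2 h3 h4 h5 h6 h7 h8).2.2.2, mul_zero]
  have hFr := sum_rows hnd (fun i => ((X i ^ 2 * Y i : ℤ) : ℚ) / (D i : ℚ)) fun i h0 h1 h2 h3 h4 h5 h6 h7 h8 => by
    simp only [(hoff i h0 h1 h2 h3 h4 h5 h6 h7 h8).1]
    norm_num
  have hFr' := sum_rows hnd (fun i => ((Y i ^ 2 * X i : ℤ) : ℚ) / (D i : ℚ)) fun i h0 h1 h2 h3 h4 h5 h6 h7 h8 => by
    simp only [(hoff i h0 h1 h2 h3 h4 h5 h6 h7 h8).2.1]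
    norm_num
  rw [h.DX] at eDX
  rw [h.DY] at eDY
  rw [h.DU] at eDU
  rw [h.DV] at eDV
  simp only [x0, x1, x2, x3, x4, x5, x6, x7, x8, d0] at eDX
  simp only [y0, y1, y2, y3, y4, y5, y6, y7, y8, d0] at eDY
  simp only [u0, u1, u2, u3, u4, u5, u6, u7, u8, d0] at eDU
  simp only [v0, v1, v2, v3, v4, v5, v6, v7, v8, d0] at eDV
  have eα₁ : η₁ * D a₁ = 1 + ε₁ * D i₁ + δ * D τ := by linarith
  have eα₂ : η₂ * D a₂ = ε₂ * D i₂ + ε₃ * D i₃ + δ * D τ := by linarith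
  have eβ₁ : κ₁ * D b₁ = 1 + ε₂ * D i₂ + δ * D τ := by linarith
  have eβ₂ : κ₂ * D b₂ = ε₁ * D i₁ + ε₃ * D i₃ + δ * D τ := by linarith
  -- the rationals
  have hFe : ∑ i, ((X i ^ 2 * Y i : ℤ) : ℚ) / (D i : ℚ) =
      FG (ε₁ * D i₁) (ε₂ * D i₂) (ε₃ * D i₃) (δ * D τ) := by
    rw [hFr, FG, ← eα₁, ← eα₂, ← eβ₁, ← eβ₂]
    simp only [x0, y0, d0, x1, y1, x2, y2, x3, y3, x4, y4, x5, y5, x6, y6, x7, y7, x8, y8]
    rw [term1 _ hε₁, term1 _ hε₂, term1 _ hε₃, term2 _ hδ, term3 _ hη₁, term3 _ hη₂, term4 _ hκ₁, term4 _ hκ₂]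
    norm_num
    ring
  have hFe' : ∑ i, ((Y i ^ 2 * X i : ℤ) : ℚ) / (D i : ℚ) =
      FG' (ε₁ * D i₁) (ε₂ * D i₂) (ε₃ * D i₃) (δ * D τ) := by
    rw [hFr', FG', ← eα₁, ← eα₂, ← eβ₁, ← eβ₂]
    simp only [x0, y0, d0, x1, y1, x2, y2, x3, y3, x4, y4, x5, y5, x6, y6, x7, y7, x8, y8]
    rw [term1 _ hε₁, term1 _ hε₂, term1 _ hε₃, term2 _ hδ, term3' _ hη₁, term3' _ hη₂, term4' _ hκ₁, term4' _ hκ₂]
    norm_num
    ring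
  rw [hFe] at hF
  rw [hFe'] at hF'
  -- the sum of squares
  have hSG : SG (ε₁ * D i₁) (ε₂ * D i₂) (ε₃ * D i₃) (δ * D τ) ≤ 72 * (n : ℤ) := by
    rw [← hS]
    have h1 : ∑ i ∈ [i₀, i₁, i₂, i₃, τ, a₁, a₂, b₁, b₂].toFinset, D i ^ 2 ≤ ∑ i, D i ^ 2 :=
      Finset.sum_le_sum_of_subset_of_nonneg (Finset.subset_univ _) (fun _ _ _ => sq_nonneg _)
    rw [List.sum_toFinset _ hnd] at h1
    simp only [List.map_cons, List.map_nil, List.sum_cons, List.sum_nil, add_zero] at h1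
    have hsq : ∀ {ε : ℤ} (d : ℤ), (ε = 1 ∨ ε = -1) → (ε * d) ^ 2 = d ^ 2 := by
      rintro ε d (rfl | rfl) <;> ring
    rw [SG, ← eα₁, ← eα₂, ← eβ₁, ← eβ₂, hsq _ hε₁, hsq _ hε₂, hsq _ hε₃, hsq _ hδ, hsq _ hη₁, hsq _ hη₂,
      hsq _ hκ₁, hsq _ hκ₂]
    rw [d0] at h1
    norm_num at h1 ⊢
    linarith
  -- the congruences
  obtain ⟨r1, hr1⟩ := hmod i₁
  obtain ⟨r2, hr2⟩ := hmod i₂
  obtain ⟨r3, hr3⟩ := hmod i₃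
  obtain ⟨r4, hr4⟩ := hmod τ
  rw [x1, y1] at hr1
  rw [x2, y2] at hr2
  rw [x3, y3] at hr3
  rw [x4, y4] at hr4
  have hpm : ∀ {ε d r : ℤ}, (ε = 1 ∨ ε = -1) → d + 4 * ε + 4 * ε = 9 * r → (ε * d) % 9 = 1 := by
    rintro ε d r (rfl | rfl) h1 <;> omega
  have hp9 := hpm hε₁ hr1
  have hq9 := hpm hε₂ hr2
  have hs9 := hpm hε₃ hr3
  have ht9 : (δ * D τ) % 9 = 2 := by
    rcases hδ with rfl | rfl <;> omega
  have hpos := h.Dpos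
  have hD1 := hpos i₁
  have hD2 := hpos i₂
  have hD3 := hpos i₃
  have hD4 := hpos τ
  have ht7 : δ * D τ ≠ -7 := by
    rcases hδ with rfl | rfl <;> omega
  have hD5 := hpos a₁
  have hD6 := hpos a₂
  have hD7 := hpos b₁
  have hD8 := hpos b₂
  rcases num_main hp9 hq9 hs9 ht9 ht7 hn hF hF' hSG with
    ⟨hp, hq, hs, ht, hn1⟩ | ⟨hp, hq, hs, ht, hn1⟩ | ⟨hp, hq, hs, ht, hn1⟩ | ⟨hp, hq, hs, ht, hn1⟩ | ⟨hp, hq, hs, ht, hn1⟩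
  · exact Or.inl hn1
  · refine Or.inr (Or.inl ⟨hn1, ?_⟩)
    rintro i ⟨e1, e2, e3, e4, e5⟩
    have hall : i ≠ i₀ ∧ i ≠ i₁ ∧ i ≠ i₂ ∧ i ≠ i₃ ∧ i ≠ τ ∧ i ≠ a₁ ∧ i ≠ a₂ ∧ i ≠ b₁ ∧ i ≠ b₂ := by
      refine ⟨?_, ?_, ?_, ?_, ?_, ?_, ?_, ?_, ?_⟩ <;> · intro he; subst he; first | omega | (rcases hε₂ with rfl | rfl <;> omega)
    obtain ⟨h0, h1, h2, h3, h4, h5, h6, h7, h8⟩ := hall
    have := (hoff i h0 h1 h2 h3 h4 h5 h6 h7 h8).1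
    omega
  · refine Or.inr (Or.inl ⟨hn1, ?_⟩)
    rintro i ⟨e1, e2, e3, e4, e5⟩
    have hall : i ≠ i₀ ∧ i ≠ i₁ ∧ i ≠ i₂ ∧ i ≠ i₃ ∧ i ≠ τ ∧ i ≠ a₁ ∧ i ≠ a₂ ∧ i ≠ b₁ ∧ i ≠ b₂ := by
      refine ⟨?_, ?_, ?_, ?_, ?_, ?_, ?_, ?_, ?_⟩ <;> · intro he; subst he; first | omega | (rcases hε₂ with rfl | rfl <;> omega)
    obtain ⟨h0, h1, h2, h3, h4, h5, h6, h7, h8⟩ := hall
    have := (hoff i h0 h1 h2 h3 h4 h5 h6 h7 h8).1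
    omega
  · refine Or.inr (Or.inr ⟨Or.inl hn1, a₁, ?_, ?_, ?_, ?_⟩)
    · rw [hp, ht] at eα₁
      rcases hη₁ with rfl | rfl <;> omega
    · rw [hp, ht] at eα₁
      rw [x5]
      rcases hη₁ with rfl | rfl <;> omega
    · rw [hp, ht] at eα₁
      rw [y5]
      rcases hη₁ with rfl | rfl <;> omega
    · rw [hp, ht] at eα₁
      have hη : η₁ = -1 := by
        rcases hη₁ with rfl | rfl <;> omega
      intro j e1 e2 e3 e4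
      rw [x5, hη] at e1
      rw [y5, hη] at e2
      rw [u5, hη] at e3
      rw [v5] at e4
      by_contra hne
      have hall : j ≠ i₀ ∧ j ≠ i₁ ∧ j ≠ i₂ ∧ j ≠ i₃ ∧ j ≠ τ ∧ j ≠ a₁ ∧ j ≠ a₂ ∧ j ≠ b₁ ∧ j ≠ b₂ := by
        refine ⟨?_, ?_, ?_, ?_, ?_, ?_, ?_, ?_, ?_⟩ <;> · intro he; subst he; first | exact hne rfl | omega
      obtain ⟨h0, h1, h2, h3, h4, h5, h6, h7, h8⟩ := hall
      have := (hoff j h0 h1 h2 h3 h4 h5 h6 h7 h8).1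
      omega
  · refine Or.inr (Or.inr ⟨Or.inr hn1, a₂, ?_, ?_, ?_, ?_⟩)
    · rw [hq, hs, ht] at eα₂
      rcases hη₂ with rfl | rfl <;> omega
    · rw [hq, hs, ht] at eα₂
      rw [x6]
      rcases hη₂ with rfl | rfl <;> omega
    · rw [hq, hs, ht] at eα₂
      rw [y6]
      rcases hη₂ with rfl | rfl <;> omega
    · rw [hq, hs, ht] at eα₂
      have hη : η₂ = -1 := by
        rcases hη₂ with rfl | rfl <;> omega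
      intro j e1 e2 e3 e4
      rw [x6, hη] at e1
      rw [y6, hη] at e2
      rw [u6, hη] at e3
      rw [v6] at e4
      by_contra hne
      have hall : j ≠ i₀ ∧ j ≠ i₁ ∧ j ≠ i₂ ∧ j ≠ i₃ ∧ j ≠ τ ∧ j ≠ a₁ ∧ j ≠ a₂ ∧ j ≠ b₁ ∧ j ≠ b₂ := by
        refine ⟨?_, ?_, ?_, ?_, ?_, ?_, ?_, ?_, ?_⟩ <;> · intro he; subst he; first | exact hne rfl | omega
      obtain ⟨h0, h1, h2, h3, h4, h5, h6, h7, h8⟩ := hall
      have := (hoff j h0 h1 h2 h3 h4 h5 h6 h7 h8).1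
      omega

end Cfsg.Agent.Lib.S6RecPat2
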