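import Mathlib
import Cfsg.Agent.Lib.S6RecLoc2
import Cfsg.Agent.Lib.S6RecPat2
import Cfsg.Agent.Lib.BlockSubsection
import Cfsg.Agent.Lib.BlockVal

set_option autoImplicit false
set_option linter.unusedVariables false
set_option linter.unusedSectionVars false
set_option linter.style.haveILetI false

namespace Cfsg.Agent.Lib.S6RecChar

open Subgroup Cfsg Cfsg.Agent.Lib.CharBasic Cfsg.Agent.Lib.CharInd Cfsg.Agent.Lib.S3341Tri9
  Cfsg.Agent.Lib.S3341Main9 Cfsg.Agent.Lib.S6RecLoc Cfsg.Agent.Lib.BlockLocal Cfsg.Agent.Lib.BlockIdem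
open scoped ComplexConjugate

section Values

/-- Distribution of a family of sixth roots of unity. -/
theorem six_roots {ι : Type*} (s : Finset ι) (μ : ι → ℂ) (hμ : ∀ i ∈ s, μ i ^ 6 = 1)
    {ω : ℂ} (hω : ω ^ 2 + ω + 1 = 0) :
    ∃ a b d a' b' d' : ℕ, ∑ i ∈ s, μ i = (a : ℂ) + b * ω + d * ω ^ 2 - (a' + b' * ω + d' * ω ^ 2) ∧
      ∑ i ∈ s, μ i ^ 4 = (a + a' : ℂ) + (b + b') * ω + (d + d') * ω ^ 2 := by
  classical
  have hω3 : ω ^ 3 = 1 := by linear_combination (ω - 1) * hω
  have hω4 : ω ^ 4 = ω := by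
    calc ω ^ 4 = ω ^ 3 * ω := by ring
      _ = ω := by rw [hω3, one_mul]
  have hω8 : (ω ^ 2) ^ 4 = ω ^ 2 := by
    calc (ω ^ 2) ^ 4 = (ω ^ 3) ^ 2 * ω ^ 2 := by ring
      _ = ω ^ 2 := by rw [hω3]; ring
  induction s using Finset.induction_on with
  | empty => exact ⟨0, 0, 0, 0, 0, 0, by simp, by simp⟩
  | insert x s hx ih =>
    obtain ⟨a, b, d, a', b', d', h1, h2⟩ := ih fun i hi => hμ i (Finset.mem_insert_of_mem hi)
    have hx6 := hμ x (Finset.mem_insert_self _ _)
    have hcases : μ x = 1 ∨ μ x = ω ∨ μ x = ω ^ 2 ∨ μ x = -1 ∨ μ x = -ω ∨ μ x = -ω ^ 2 := by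
      set m := μ x with hm
      have hprod : (m - 1) * ((m - ω) * ((m - ω ^ 2) * ((m + 1) * ((m + ω) * (m + ω ^ 2))))) = 0 := by
        have e : (m - 1) * ((m - ω) * ((m - ω ^ 2) * ((m + 1) * ((m + ω) * (m + ω ^ 2))))) =
            (m ^ 2 - 1) * ((m ^ 2 - ω ^ 2) * (m ^ 2 - ω ^ 4)) := by ring
        rw [e, hω4]
        have e2 : (m ^ 2 - 1) * ((m ^ 2 - ω ^ 2) * (m ^ 2 - ω)) =
            m ^ 6 - (1 + ω + ω ^ 2) * m ^ 4 + (ω + ω ^ 2 + ω ^ 3) * m ^ 2 - ω ^ 3 := by ring
        rw [e2, hx6, hω3]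
        have e3 : (1 + ω + ω ^ 2) = 0 := by linear_combination hω
        have e4 : ω + ω ^ 2 + 1 = 0 := by linear_combination hω
        rw [e3, e4]
        ring
      rcases mul_eq_zero.mp hprod with h | h
      · left; exact sub_eq_zero.mp h
      rcases mul_eq_zero.mp h with h | h
      · right; left; exact sub_eq_zero.mp h
      rcases mul_eq_zero.mp h with h | h
      · right; right; left; exact sub_eq_zero.mp h
      rcases mul_eq_zero.mp h with h | h
      · right; right; right; left; linear_combination h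
      rcases mul_eq_zero.mp h with h | h
      · right; right; right; right; left; linear_combination h
      · right; right; right; right; right; linear_combination h
    rw [Finset.sum_insert hx, Finset.sum_insert hx, h1, h2]
    rcases hcases with h | h | h | h | h | h <;> rw [h]
    · exact ⟨a + 1, b, d, a', b', d', by push_cast; ring, by push_cast; ring⟩
    · exact ⟨a, b + 1, d, a', b', d', by push_cast; ring, by push_cast; rw [hω4]; ring⟩
    · exact ⟨a, b, d + 1, a', b', d', by push_cast; ring, by push_cast; rw [hω8]; ring⟩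
    · exact ⟨a, b, d, a' + 1, b', d', by push_cast; ring, by push_cast; ring⟩
    · exact ⟨a, b, d, a', b' + 1, d', by push_cast; ring, by
        push_cast
        have : (-ω) ^ 4 = ω := by
          have : (-ω) ^ 4 = ω ^ 4 := by ring
          rw [this, hω4]
        rw [this]; ring⟩
    · exact ⟨a, b, d, a', b', d' + 1, by push_cast; ring, by
        push_cast
        have : (-ω ^ 2) ^ 4 = ω ^ 2 := by
          have : (-ω ^ 2) ^ 4 = (ω ^ 2) ^ 4 := by ring
          rw [this, hω8]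
        rw [this]; ring⟩

/-- Values of a character on a real element of order dividing six. -/
theorem char_values6 {G : Type*} [Group G] [Finite G] {χ : G → ℂ} (hχ : IsCharacter G χ) {g : G}
    (hg : g ^ 6 = 1) (hreal : IsConj g g⁻¹) :
    ∃ u v : ℤ, χ g = u ∧ χ (g ^ 4) = v ∧ (2 : ℤ) ∣ v - u := by
  classical
  obtain ⟨n, ρ, rfl⟩ := id hχ
  obtain ⟨ω, hω, hconj, hne⟩ := exists_omega
  have h6 : (ρ g) ^ 6 = 1 := by rw [← map_pow, hg, map_one]
  obtain ⟨B, μ, h1, h2⟩ := Cfsg.Agent.Lib.CharValues.exists_eigenbasis (ρ g) (by norm_num) h6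
  obtain ⟨a, b, d, a', b', d', h4, h5⟩ := six_roots Finset.univ μ (fun i _ => h2 i) hω
  have hval : ρ.character g = ∑ i, μ i :=
    Cfsg.Agent.Lib.CharValues.trace_eq_sum_of_eigenbasis (ρ g) B μ h1
  have hval4 : ρ.character (g ^ 4) = ∑ i, μ i ^ 4 := by
    refine Cfsg.Agent.Lib.CharValues.trace_eq_sum_of_eigenbasis (ρ (g ^ 4)) B (fun i => μ i ^ 4) ?_
    intro i
    rw [map_pow]
    have : ∀ k : ℕ, ((ρ g) ^ k) (B i) = μ i ^ k • B i := by
      intro k
      induction k with
      | zero => simp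
      | succ k ih =>
        rw [pow_succ, Module.End.mul_apply, h1, map_smul, ih, smul_smul, pow_succ]
        ring_nf
    exact this 4
  have hrealc : conj (ρ.character g) = ρ.character g := by
    rw [char_conj_eq_inv hχ]
    obtain ⟨h, hh⟩ := isConj_iff.mp hreal
    rw [← hh]
    exact isClassFunction_of_isCharacter hχ g h
  have hreal4 : IsConj (g ^ 4) (g ^ 4)⁻¹ := by
    obtain ⟨h, hh⟩ := isConj_iff.mp hreal
    refine isConj_iff.mpr ⟨h, ?_⟩
    rw [← conj_pow, hh, inv_pow]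
  have hrealc4 : conj (ρ.character (g ^ 4)) = ρ.character (g ^ 4) := by
    rw [char_conj_eq_inv hχ]
    obtain ⟨h, hh⟩ := isConj_iff.mp hreal4
    rw [← hh]
    exact isClassFunction_of_isCharacter hχ (g ^ 4) h
  have hω3 : ω ^ 3 = 1 := by linear_combination (ω - 1) * hω
  have hω4 : ω ^ 4 = ω := by
    calc ω ^ 4 = ω ^ 3 * ω := by ring
      _ = ω := by rw [hω3, one_mul]
  have hsub : ω - ω ^ 2 ≠ 0 := sub_ne_zero.mpr hne
  have hrelation : ∀ A B C : ℂ, conj A = A → conj B = B → conj C = C →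
      conj (A + B * ω + C * ω ^ 2) = A + B * ω + C * ω ^ 2 → B = C := by
    intro A B' C hA hB hC h
    simp only [map_add, map_mul, map_pow, hconj, hA, hB, hC] at h
    rw [← pow_mul] at h
    norm_num at h
    rw [hω4] at h
    have h7 : (B' - C) * (ω - ω ^ 2) = 0 := by linear_combination -h
    exact sub_eq_zero.mp ((mul_eq_zero.mp h7).resolve_right hsub)
  -- the value at `g`
  have h4' : ∑ i, μ i = (((a : ℤ) - a' : ℤ) : ℂ) + (((b : ℤ) - b' : ℤ) : ℂ) * ω + (((d : ℤ) - d' : ℤ) : ℂ) * ω ^ 2 := by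
    rw [h4]; push_cast; ring
  have h5' : ∑ i, μ i ^ 4 = (((a : ℤ) + a' : ℤ) : ℂ) + (((b : ℤ) + b' : ℤ) : ℂ) * ω + (((d : ℤ) + d' : ℤ) : ℂ) * ω ^ 2 := by
    rw [h5]; push_cast; ring
  have hb1 : (((b : ℤ) - b' : ℤ) : ℂ) = (((d : ℤ) - d' : ℤ) : ℂ) := by
    apply hrelation (((a : ℤ) - a' : ℤ) : ℂ) _ _ (map_intCast _ _) (map_intCast _ _) (map_intCast _ _)
    rw [← h4', ← hval, hrealc]
  have hb2 : (((b : ℤ) + b' : ℤ) : ℂ) = (((d : ℤ) + d' : ℤ) : ℂ) := by
    apply hrelation (((a : ℤ) + a' : ℤ) : ℂ) _ _ (map_intCast _ _) (map_intCast _ _) (map_intCast _ _)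
    rw [← h5', ← hval4, hrealc4]
  refine ⟨((a : ℤ) - a') - ((b : ℤ) - b'), ((a : ℤ) + a') - ((b : ℤ) + b'), ?_, ?_, ?_⟩
  · rw [hval, h4', ← hb1]
    push_cast
    linear_combination ((b : ℂ) - b') * hω
  · rw [hval4, h5', ← hb2]
    push_cast
    linear_combination ((b : ℂ) + b') * hω
  · refine ⟨(a' : ℤ) - b', ?_⟩
    ring

end Values

section Block

variable {G : Type*} [Group G] [Fintype G] {S : Subgroup G} {x x' R t : G}

/-- All the irreducible characters of `C_G(x)` are in the principal block. -/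
theorem all_principal (H : Setup S x x' R t) {M : Ideal AlgInt} (hM : IsPModular 3 M)
    {C : Subgroup G} (hC : C = centralizer ({x} : Set G)) [Fintype C] (ψ : IrrCharacter C) :
    ψ ∈ principalBlock M C := by
  have hle : ∀ c : C, (c : G) ∈ normalizer (S : Set G) := fun c => H.cent x H.hx H.x1 (hC ▸ c.2)
  haveI hn : (S.subgroupOf C).Normal := by
    constructor
    intro a ha c
    rw [mem_subgroupOf] at ha ⊢
    exact conj_mem_of_normalizer (hle c) ha
  have hpg : IsPGroup 3 (S.subgroupOf C) := by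
    obtain ⟨P, hP⟩ := H.syl
    have h1 : IsPGroup 3 S := by rw [hP]; exact P.isPGroup'
    exact h1.comap_subtype
  refine Cfsg.Agent.Lib.BlockNormal.mem_principalBlock_of_centralizer_le hM (S.subgroupOf C) hpg ?_ ψ
  intro c hc
  rw [mem_subgroupOf]
  apply H.cS
  rw [mem_centralizer_iff]
  intro s hs
  have h1 : s ∈ C := by
    rw [hC, mem_centralizer_singleton_iff]
    exact H.comm s hs x H.hx
  have h2 : (⟨s, h1⟩ : C) ∈ S.subgroupOf C := by rw [mem_subgroupOf]; exact hs
  have h3 := mem_centralizer_iff.mp hc ⟨s, h1⟩ h2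
  exact congrArg Subtype.val h3

open scoped Classical in
/-- The coefficients of the idempotent of all of `Irr C`. -/
theorem blockCoeff_univ {C : Type*} [Group C] [Fintype C] {F : Set (IrrCharacter C)} (hF : ∀ ψ, ψ ∈ F) (k : C) :
    blockCoeff F k = if k = 1 then 1 else 0 := by
  classical
  have hF' : F = Set.univ := Set.eq_univ_of_forall hF
  have hsum : ∑ᶠ χ ∈ F, (χ : C → ℂ) 1 * conj ((χ : C → ℂ) k) = ∑ χ : IrrCharacter C, (χ : C → ℂ) 1 * (χ : C → ℂ) k⁻¹ := by
    rw [hF', finsum_mem_univ, finsum_eq_sum_of_fintype]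
    refine Finset.sum_congr rfl fun χ _ => ?_
    rw [char_conj_eq_inv (IsIrrCharacter.isCharacter χ.2)]
  have hcard : ((Nat.card C : ℕ) : ℂ) ≠ 0 := by exact_mod_cast Nat.card_pos.ne'
  rw [blockCoeff, hsum, Cfsg.Agent.Lib.CharKernel.sum_irr_deg_mul]
  by_cases hk : k = 1
  · subst hk
    simp [hcard]
  · have : k⁻¹ ≠ 1 := inv_ne_one.mpr hk
    simp [hk, this]

/-- Second main theorem: non-principal characters vanish on sections of `x`. -/
theorem block_vanish (H : Setup S x x' R t) {M : Ideal AlgInt} (hM : IsPModular 3 M) (ζ : IrrCharacter G)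
    (hζ : ζ ∉ principalBlock M G) {y₀ : G} (hy₀ : y₀ * x = x * y₀) (hreg : ¬ 3 ∣ orderOf y₀) :
    (ζ : G → ℂ) (x * y₀) = 0 := by
  classical
  haveI : Fact (Nat.Prime 3) := ⟨Nat.prime_three⟩
  set C := centralizer ({x} : Set G) with hC
  letI : Fintype C := Fintype.ofFinite C
  haveI := isPrime_of_isPModular hM
  have hz : ∃ k : ℕ, orderOf x = 3 ^ k := ⟨1, by rw [H.orderOf_x]; norm_num⟩
  have hall : ∀ ψ, ψ ∈ principalBlock M C := fun ψ => all_principal H hM hC ψ
  have hF : IsPBlock M (principalBlock M C) := Cfsg.Agent.Lib.BlockNormal.isPBlock_principalBlock M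
  have hzg : IsPGroup 3 (zpowers x) := by
    obtain ⟨k, hk⟩ := hz
    apply IsPGroup.of_card (n := k)
    rw [Nat.card_zpowers, hk]
  have hH' : C = centralizer ((zpowers x : Subgroup G) : Set G) := by
    rw [Cfsg.Agent.Lib.BlockSecond.centralizer_zpowers_eq, hC]
  obtain ⟨B', hB'⟩ := Cfsg.Agent.Lib.BlockSecond.exists_isInducedBlock_centralizer hM hzg hH' hF
  obtain ⟨χ₀, hχ₀⟩ := hB'.2.1
  have hχ₀B : χ₀ ∈ B' := by rw [hχ₀]; exact mem_blockOf_self χ₀
  have hχ₀P : χ₀ ∈ principalBlock M G :=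
    Cfsg.Agent.Lib.BlockPrincipal.mem_principalBlock_of_induced_one hM C χ₀
      (fun g => hB'.2.2 _ (hall _) χ₀ hχ₀B g)
  have hB'P : B' = principalBlock M G := by
    rcases eq_or_disjoint_of_isPBlock hB'.2.1 (Cfsg.Agent.Lib.BlockNormal.isPBlock_principalBlock M) with h | h
    · exact h
    · exact absurd hχ₀P (Set.disjoint_left.mp h hχ₀B)
  have hy₀C : y₀ ∈ C := by
    rw [hC, mem_centralizer_singleton_iff]; exact hy₀
  have key := Cfsg.Agent.Lib.BlockSubsection.sum_thetaZ_eq_zero hM hz hC hB' (by rw [hB'P]; exact hζ)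
    ⟨y₀, hy₀C⟩ (by rwa [Subgroup.orderOf_mk])
  simp only [blockCoeff_univ hall] at key
  rw [Finset.sum_eq_single 1] at key
  · simpa [Cfsg.Agent.Lib.BlockSubsection.thetaZ] using key
  · intro b _ hb
    simp [hb]
  · intro h
    exact absurd (Finset.mem_univ _) h

/-- Principal characters do not vanish on `x`. -/
theorem principal_ne_zero {M : Ideal AlgInt} (hM : IsPModular 3 M) (ζ : IrrCharacter G)
    (hζ : ζ ∈ principalBlock M G) {z : G} (hi : ¬ 3 ∣ (centralizer ({z} : Set G)).index) : (ζ : G → ℂ) z ≠ 0 := by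
  intro h0
  have h1 := hζ z
  have h2 : centralChar (fun _ : G => (1 : ℂ)) z = ((centralizer ({z} : Set G)).index : ℂ) := by
    simp [centralChar]
  have h3 : centralChar (ζ : G → ℂ) z = 0 := by
    simp [centralChar, h0]
  rw [h2, h3, sub_zero, memLocalIdeal_natCast_iff hM] at h1
  exact hi h1

end Block

end Cfsg.Agent.Lib.S6RecChar
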