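import Mathlib
import Cfsg.Agent.Lib.S6RecChar

set_option autoImplicit false
set_option linter.unusedVariables false
set_option linter.unusedSectionVars false
set_option linter.style.haveILetI false

namespace Cfsg.Agent.Lib.S6RecChar2

open Subgroup Cfsg Cfsg.Agent.Lib.CharBasic Cfsg.Agent.Lib.CharInd Cfsg.Agent.Lib.S3341Tri9
  Cfsg.Agent.Lib.S3341Main9 Cfsg.Agent.Lib.S6RecLoc Cfsg.Agent.Lib.S6RecChar Cfsg.Agent.Lib.S6RecPat
  Cfsg.Agent.Lib.S6RecPat2 Cfsg.Agent.Lib.CharKernel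
open scoped ComplexConjugate Classical

variable {G : Type*} [Group G] [Fintype G] {S : Subgroup G} {x x' R t t₁ t₂ : G}

theorem four_card (H : Setup S x x' R t) : ({x, x⁻¹, x', x'⁻¹} : Finset G).card = 4 := by
  rw [Finset.card_insert_of_notMem, Finset.card_insert_of_notMem, Finset.card_pair H.x'_ne_inv]
  · simp only [Finset.mem_insert, Finset.mem_singleton, not_or]
    exact ⟨fun h => H.x'xi h.symm, H.xi_ne_x'i⟩
  · simp only [Finset.mem_insert, Finset.mem_singleton, not_or]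
    exact ⟨H.x_ne_inv, H.x_ne_x', H.x_ne_x'i⟩

theorem four_sub (H : Setup S x x' R t) : ({x, x⁻¹, x', x'⁻¹} : Finset G) ⊆ cls S x := by
  intro s hs
  simp only [Finset.mem_insert, Finset.mem_singleton] at hs
  rcases hs with rfl | rfl | rfl | rfl
  · exact mem_cls.mpr ⟨H.hx, IsConj.refl _⟩
  · exact mem_cls.mpr ⟨S.inv_mem H.hx, H.isConj_x_xi⟩
  · exact mem_cls.mpr ⟨H.hx', H.isConj_x_x'⟩
  · exact mem_cls.mpr ⟨S.inv_mem H.hx', H.isConj_x_x'i⟩

theorem card_Sf' (H : Setup S x x' R t) : (Finset.univ.filter fun s => s ∈ S).card = 9 := by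
  have := H.card
  rw [Nat.card_eq_fintype_card, Fintype.card_subtype] at this
  exact this

theorem card_Sstar' (H : Setup S x x' R t) : (Sstar S).card = 8 := by
  rw [Sstar, Finset.card_erase_of_mem (Finset.mem_filter.mpr ⟨Finset.mem_univ _, S.one_mem⟩), card_Sf' H]

theorem cls_sub (H : Setup S x x' R t) : cls S x ⊆ Sstar S := by
  intro s hs
  have := mem_cls.mp hs
  exact mem_Sstar.mpr ⟨ne_one_of_conj this.2 H.x1, this.1⟩

theorem cls_facts (H₁ : Setup S x x' R t₁) (H₂ : Setup S (x * x') (x' * x⁻¹) R t₂) :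
    (cls S x).card = 4 ∧ (cls S (x * x')).card = 4 ∧ cls S x ∪ cls S (x * x') = Sstar S := by
  have h1 := Finset.card_le_card (four_sub H₁)
  have h2 := Finset.card_le_card (four_sub H₂)
  rw [four_card H₁] at h1
  rw [four_card H₂] at h2
  have hd := cls_disjoint (S := S) (H₁.not_isConj_y)
  have hsub : cls S x ∪ cls S (x * x') ⊆ Sstar S := Finset.union_subset (cls_sub H₁) (cls_sub H₂)
  have h3 := Finset.card_le_card hsub
  rw [Finset.card_union_of_disjoint hd, card_Sstar' H₁] at h3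
  refine ⟨by omega, by omega, Finset.eq_of_subset_of_card_le hsub ?_⟩
  rw [Finset.card_union_of_disjoint hd, card_Sstar' H₁]
  omega

/-- Restricted to `S`, a character sums to a multiple of `9`. -/
theorem sum_over_S' (H : Setup S x x' R t) {χ : G → ℂ} (hχ : IsCharacter G χ) :
    ∃ k : ℕ, ∑ s ∈ Finset.univ.filter (fun s => s ∈ S), χ s = 9 * k := by
  haveI : Fintype S := Fintype.ofFinite S
  obtain ⟨m, hm⟩ := classInner_char_char (G := S) (isCharacter_restrict S hχ) isCharacter_one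
  refine ⟨m, ?_⟩
  have h1 : classInner (fun n : S => χ n) (fun _ : S => (1 : ℂ)) =
      (Nat.card S : ℂ)⁻¹ * ∑ s ∈ Finset.univ.filter (fun s => s ∈ S), χ s := by
    have h2 : ∑ s ∈ Finset.univ.filter (fun s => s ∈ S), χ s = ∑ a : S, χ a :=
      Finset.sum_subtype _ (by simp) χ
    unfold classInner
    rw [h2]
    congr 1
    simp
  rw [h1, H.card] at hm
  have h9 : ((9 : ℕ) : ℂ) ≠ 0 := by norm_num
  field_simp at hm
  push_cast at hm
  linear_combination hm

/-- The partition of `S`. -/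
theorem sum_split' (H₁ : Setup S x x' R t₁) (H₂ : Setup S (x * x') (x' * x⁻¹) R t₂)
    {χ : G → ℂ} (hχ : IsCharacter G χ) {d u v : ℤ}
    (hd : χ 1 = d) (hu : χ x = u) (hv : χ (x * x') = v) : ∃ k : ℕ, d + 4 * u + 4 * v = 9 * k := by
  obtain ⟨k, hk⟩ := sum_over_S' H₁ hχ
  refine ⟨k, ?_⟩
  obtain ⟨he, he', heq⟩ := cls_facts H₁ H₂
  have hd1 := cls_disjoint (S := S) (H₁.not_isConj_y)
  have hfilt : (Finset.univ.filter fun s => s ∈ S) = insert 1 (cls S x ∪ cls S (x * x')) := by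
    rw [heq]
    ext s
    simp only [Finset.mem_filter, Finset.mem_univ, true_and, Finset.mem_insert, mem_Sstar]
    constructor
    · intro hs
      by_cases h : s = 1
      · exact Or.inl h
      · exact Or.inr ⟨h, hs⟩
    · rintro (rfl | h)
      · exact S.one_mem
      · exact h.2
  have h1n : (1 : G) ∉ cls S x ∪ cls S (x * x') := by
    rw [heq]
    simp [mem_Sstar]
  rw [hfilt, Finset.sum_insert h1n, Finset.sum_union hd1] at hk
  have hcon : ∀ {y : G} {w : ℤ}, χ y = w → ∑ s ∈ cls S y, χ s = ((cls S y).card : ℂ) * w := by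
    intro y w hw
    rw [Finset.sum_congr rfl (g := fun _ => (w : ℂ))]
    · simp
    · intro s hs
      obtain ⟨c, hc⟩ := isConj_iff.mp (mem_cls.mp hs).2
      rw [← hc, ← hw]
      exact isClassFunction_of_isCharacter hχ y c
  rw [hcon hu, hcon hv, he, he', hd] at hk
  have h3 : ((d + 4 * u + 4 * v : ℤ) : ℂ) = ((9 * (k : ℤ) : ℤ) : ℂ) := by
    push_cast at hk ⊢
    rw [← hk]
    ring
  exact_mod_cast h3

/-- The number of Sylow `3`-subgroups is `1` modulo `9`. -/
theorem card_sylow_mod' (H : Setup S x x' R t) : Nat.card (Sylow 3 G) % 9 = 1 := by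
  haveI : Fact (Nat.Prime 3) := ⟨Nat.prime_three⟩
  obtain ⟨P, hSP⟩ := H.syl
  haveI : Fintype (P : Subgroup G) := Fintype.ofFinite _
  haveI : Fintype (Sylow 3 G) := Fintype.ofFinite _
  have hfix : ∀ g : (P : Subgroup G), g ≠ 1 →
      Fintype.card (MulAction.fixedBy (Sylow 3 G) g) = 1 := by
    intro g hg
    have hg1 : (g : G) ≠ 1 := fun h => hg (Subtype.ext h)
    rw [Fintype.card_eq_one_iff]
    have hPfix : P ∈ MulAction.fixedBy (Sylow 3 G) g := by
      rw [MulAction.mem_fixedBy]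
      exact (Sylow.smul_eq_iff_mem_normalizer).mpr (Subgroup.le_normalizer g.2)
    refine ⟨⟨P, hPfix⟩, ?_⟩
    rintro ⟨Q, hQ⟩
    apply Subtype.ext
    show Q = P
    rw [MulAction.mem_fixedBy] at hQ
    have hgN : (g : G) ∈ normalizer ((Q : Subgroup G) : Set G) :=
      (Sylow.smul_eq_iff_mem_normalizer).mp hQ
    have hgQ : (g : G) ∈ (P : Subgroup G) ⊓ (Q : Subgroup G) := by
      rw [← IsPGroup.inf_normalizer_sylow P.isPGroup' Q]
      exact ⟨g.2, hgN⟩
    have hle : (Q : Subgroup G) ≤ (P : Subgroup G) := by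
      intro a ha
      have h1 : a * g = g * a := H.sylow_comm Q ha hgQ.2
      have h2 : a ∈ normalizer (S : Set G) := by
        apply H.cent g (hSP ▸ g.2) hg1
        rw [mem_centralizer_singleton_iff]
        exact h1
      obtain ⟨k, hk⟩ := (IsPGroup.iff_orderOf.mp Q.isPGroup') ⟨a, ha⟩
      have h3 : a ^ 3 ^ k = 1 := by
        have h5 : (⟨a, ha⟩ : (Q : Subgroup G)) ^ 3 ^ k = 1 := by
          rw [← hk]; exact pow_orderOf_eq_one _
        simpa using congrArg Subtype.val h5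
      have := H.mem_of_three_element h2 h3
      rw [hSP] at this
      exact this
    exact (Sylow.ext (Q.is_maximal' P.isPGroup' hle)).symm
  have hB := MulAction.sum_card_fixedBy_eq_card_orbits_mul_card_group (P : Subgroup G) (Sylow 3 G)
  rw [← Finset.add_sum_erase Finset.univ _ (Finset.mem_univ (1 : (P : Subgroup G)))] at hB
  have hfix1 : Fintype.card (MulAction.fixedBy (Sylow 3 G) (1 : (P : Subgroup G))) = Fintype.card (Sylow 3 G) := by
    rw [Fintype.card_congr (Equiv.subtypeUnivEquiv (fun Q => by simp))]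
  rw [hfix1, Finset.sum_congr rfl (g := fun _ => 1) (fun g hg => hfix g (Finset.ne_of_mem_erase hg))] at hB
  have hc9 : Fintype.card (P : Subgroup G) = 9 := by
    rw [← Nat.card_eq_fintype_card, ← hSP]; exact H.card
  simp only [Finset.sum_const, Finset.card_erase_of_mem (Finset.mem_univ _), Finset.card_univ, hc9,
    smul_eq_mul, mul_one] at hB
  rw [Nat.card_eq_fintype_card]
  omega

omit [Fintype G] in
theorem card_cent_conj {a g : G} : Nat.card (centralizer ({g * a * g⁻¹} : Set G)) = Nat.card (centralizer ({a} : Set G)) := by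
  refine Nat.card_congr ⟨fun c => ⟨g⁻¹ * c * g, ?_⟩, fun c => ⟨g * c * g⁻¹, ?_⟩, ?_, ?_⟩
  · have h1 : (c : G) * (g * a * g⁻¹) = (g * a * g⁻¹) * c := mem_centralizer_singleton_iff.mp c.2
    rw [mem_centralizer_singleton_iff]
    calc g⁻¹ * c * g * a = g⁻¹ * ((c : G) * (g * a * g⁻¹)) * g := by group
      _ = g⁻¹ * ((g * a * g⁻¹) * c) * g := by rw [h1]
      _ = _ := by group
  · have h1 : (c : G) * a = a * c := mem_centralizer_singleton_iff.mp c.2
    rw [mem_centralizer_singleton_iff]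
    calc g * c * g⁻¹ * (g * a * g⁻¹) = g * ((c : G) * a) * g⁻¹ := by group
      _ = g * (a * c) * g⁻¹ := by rw [h1]
      _ = _ := by group
  · intro c
    apply Subtype.ext
    simp only
    group
  · intro c
    apply Subtype.ext
    simp only
    group

/-- The values on `x t`. -/
theorem exists_U6 (H : Setup S x x' R t) {X : IrrCharacter G → ℤ}
    (hX : ∀ χ : IrrCharacter G, (χ : G → ℂ) x = (X χ : ℂ)) :
    ∃ U : IrrCharacter G → ℤ, (∀ χ : IrrCharacter G, (χ : G → ℂ) (x * t) = (U χ : ℂ)) ∧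
      ∀ χ, (2 : ℤ) ∣ X χ - U χ := by
  have h : ∀ χ : IrrCharacter G, ∃ u : ℤ, (χ : G → ℂ) (x * t) = (u : ℂ) ∧ (2 : ℤ) ∣ X χ - u := by
    intro χ
    obtain ⟨u, v, h1, h2, h3⟩ := Cfsg.Agent.Lib.S6RecChar.char_values6 (IsIrrCharacter.isCharacter χ.2)
      H.xt_pow6 H.isConj_xt_inv
    refine ⟨u, h1, ?_⟩
    rw [H.xt_pow4, hX χ] at h2
    have h4 : X χ = v := by exact_mod_cast h2
    rw [h4]
    exact h3
  choose U hU using h
  exact ⟨U, fun χ => (hU χ).1, fun χ => (hU χ).2⟩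

theorem not_conj_cube {a b : G} (h3 : a ^ 3 = 1) (hb : b ^ 3 ≠ 1) : ¬ IsConj a b := by
  intro h
  obtain ⟨c, rfl⟩ := isConj_iff.mp h
  apply hb
  rw [conj_pow, h3]
  group

theorem not_isConj_xt_yt (H₁ : Setup S x x' R t₁) (H₂ : Setup S (x * x') (x' * x⁻¹) R t₂) :
    ¬ IsConj (x * t₁) (x * x' * t₂) := by
  intro h
  obtain ⟨c, hc⟩ := isConj_iff.mp h
  apply H₁.not_isConj_y
  refine isConj_iff.mpr ⟨c, ?_⟩
  have h4 : (c * (x * t₁) * c⁻¹) ^ 4 = (x * x' * t₂) ^ 4 := by rw [hc]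
  rw [conj_pow, H₁.xt_pow4, H₂.xt_pow4] at h4
  exact h4

set_option maxHeartbeats 2000000 in
/-- The character theoretic analysis. -/
theorem main_cases (H₁ : Setup S x x' R t₁) (H₂ : Setup S (x * x') (x' * x⁻¹) R t₂)
    (h72 : Nat.card (normalizer (S : Set G)) = 72) :
    ∃ D X Y U V : IrrCharacter G → ℤ, (∀ χ : IrrCharacter G, (χ : G → ℂ) 1 = (D χ : ℂ)) ∧
      (∀ χ : IrrCharacter G, (χ : G → ℂ) x = (X χ : ℂ)) ∧
      (∀ χ : IrrCharacter G, (χ : G → ℂ) (x * x') = (Y χ : ℂ)) ∧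
      (∀ χ : IrrCharacter G, (χ : G → ℂ) (x * t₁) = (U χ : ℂ)) ∧
      (∀ χ : IrrCharacter G, (χ : G → ℂ) (x * x' * t₂) = (V χ : ℂ)) ∧
      Nat.card G = 72 * Nat.card (Sylow 3 G) ∧
      (Nat.card (Sylow 3 G) = 1 ∨
        (Nat.card (Sylow 3 G) = 10 ∧ ∀ i, ¬ (D i = 1 ∧ X i = 1 ∧ Y i = 1 ∧ U i = -1 ∧ V i = 1)) ∨
        ((Nat.card (Sylow 3 G) = 280 ∨ Nat.card (Sylow 3 G) = 2800) ∧ ∃ i, D i = 5 ∧ X i = -1 ∧ Y i = 2 ∧
          ∀ j, X j = X i → Y j = Y i → U j = U i → V j = V i → j = i)) := by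
  haveI : Fact (Nat.Prime 3) := ⟨Nat.prime_three⟩
  set n := Nat.card (Sylow 3 G) with hn
  have hcardG : Nat.card G = 72 * n := by
    obtain ⟨P, hP⟩ := H₁.syl
    have h2 := Subgroup.card_mul_index (normalizer ((P : Subgroup G) : Set G))
    have h3 : Nat.card (normalizer ((P : Subgroup G) : Set G)) = 72 := by rw [← hP]; exact h72
    rw [h3] at h2
    rw [hn, Sylow.card_eq_index_normalizer P]
    exact h2.symm
  have hn9 : n % 9 = 1 := card_sylow_mod' H₁
  set D : IrrCharacter G → ℤ := fun i => (charDegree (i : G → ℂ) : ℤ) with hDdef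
  have hD : ∀ χ : IrrCharacter G, (χ : G → ℂ) 1 = (D χ : ℂ) := fun χ => by
    simp only [hDdef, Int.cast_natCast]
    exact one_eq_charDegree (IsIrrCharacter.isCharacter χ.2)
  have hDpos : ∀ i, 0 < D i := fun i => by
    simp only [hDdef]
    exact_mod_cast charDegree_pos i.2
  set i₀ : IrrCharacter G := Cfsg.Agent.Lib.DefectOne.oneIrr G with hi₀
  have hi₀v : ∀ g : G, (i₀ : G → ℂ) g = 1 := fun g => rfl
  have hD0 : D i₀ = 1 := by
    have := hD i₀
    rw [hi₀v] at this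
    exact_mod_cast this.symm
  obtain ⟨X, hX, hX3⟩ := exists_U D hD H₁.x3 H₁.isConj_x_xi
  obtain ⟨Y, hY, hY3⟩ := exists_U D hD H₂.x3 H₂.isConj_x_xi
  obtain ⟨U, hU, hU2⟩ := exists_U6 H₁ hX
  obtain ⟨V, hV, hV2⟩ := exists_U6 H₂ hY
  have h1val : ∀ {g : G} {W : IrrCharacter G → ℤ}, (∀ χ : IrrCharacter G, (χ : G → ℂ) g = (W χ : ℂ)) → W i₀ = 1 := by
    intro g W hW
    have := hW i₀
    rw [hi₀v] at this
    exact_mod_cast this.symm
  have hnc := H₁.not_isConj_y
  have ht1 : (x * t₁) ^ 3 ≠ 1 := by rw [H₁.xt_pow3]; exact H₁.t1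
  have ht2 : (x * x' * t₂) ^ 3 ≠ 1 := by rw [H₂.xt_pow3]; exact H₂.t1
  have hxt1 : x * t₁ ≠ 1 := by
    intro h; rw [h] at ht1; simp at ht1
  have hyt1 : x * x' * t₂ ≠ 1 := by
    intro h; rw [h] at ht2; simp at ht2
  have hXX : ∑ i, X i ^ 2 = 18 := by
    have := sum_UV_conj hX hX (IsConj.refl x)
    rw [H₁.card_cent_x] at this
    simp only [pow_two]
    exact_mod_cast this
  have hYY : ∑ i, Y i ^ 2 = 18 := by
    have := sum_UV_conj hY hY (IsConj.refl _)
    rw [H₂.card_cent_x] at this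
    simp only [pow_two]
    exact_mod_cast this
  have hUU : ∑ i, U i ^ 2 = 6 := by
    have := sum_UV_conj hU hU (IsConj.refl _)
    rw [H₁.card_cent_xt] at this
    simp only [pow_two]
    exact_mod_cast this
  have hVV : ∑ i, V i ^ 2 = 6 := by
    have := sum_UV_conj hV hV (IsConj.refl _)
    rw [H₂.card_cent_xt] at this
    simp only [pow_two]
    exact_mod_cast this
  -- the block lemma
  obtain ⟨M, hM⟩ := Cfsg.Agent.Lib.BlockVal.exists_isPModular Nat.prime_three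
  have hindex : ∀ {z y' r t' : G}, Setup S z y' r t' → ¬ 3 ∣ (centralizer ({z} : Set G)).index := by
    intro z y' r t' H hdvd
    have h1 := Subgroup.card_mul_index (centralizer ({z} : Set G))
    rw [H.card_cent_x, hcardG] at h1
    obtain ⟨k, hk⟩ := hdvd
    rw [hk] at h1
    omega
  have hzero : ∀ i, X i = 0 ∨ Y i = 0 → X i = 0 ∧ Y i = 0 := by
    intro i hi
    by_cases hP : i ∈ principalBlock M G
    · exfalso
      have h1 := Cfsg.Agent.Lib.S6RecChar.principal_ne_zero hM i hP (hindex H₁)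
      have h2 := Cfsg.Agent.Lib.S6RecChar.principal_ne_zero hM i hP (hindex H₂)
      rcases hi with h | h
      · rw [hX i, h] at h1; simp at h1
      · rw [hY i, h] at h2; simp at h2
    · have h1 := Cfsg.Agent.Lib.S6RecChar.block_vanish H₁ hM i hP (y₀ := 1) (by simp) (by simp)
      have h2 := Cfsg.Agent.Lib.S6RecChar.block_vanish H₂ hM i hP (y₀ := 1) (by simp) (by simp)
      rw [mul_one] at h1 h2
      rw [hX i] at h1
      rw [hY i] at h2
      exact ⟨by exact_mod_cast h1, by exact_mod_cast h2⟩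
  have hcols : Cols D X Y U V i₀ := by
    refine ⟨hD0, h1val hX, h1val hY, h1val hU, h1val hV, hDpos, ?_, hU2, hV2, hXX, hYY, hUU, hVV,
      sum_UV_not_conj hX hY hnc,
      sum_UV_not_conj hX hU (not_conj_cube H₁.x3 ht1),
      sum_UV_not_conj hX hV (not_conj_cube H₁.x3 ht2),
      sum_UV_not_conj hY hU (not_conj_cube H₂.x3 ht1),
      sum_UV_not_conj hY hV (not_conj_cube H₂.x3 ht2),
      sum_UV_not_conj hU hV (not_isConj_xt_yt H₁ H₂),
      sum_DU H₁.x1 hX hD, sum_DU H₂.x1 hY hD, sum_DU hxt1 hU hD, sum_DU hyt1 hV hD, hzero⟩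
    intro i
    have h4 : X i - Y i = (D i - Y i) - (D i - X i) := by ring
    rw [h4]
    exact dvd_sub (hY3 i) (hX3 i)
  have hmod : ∀ i, ∃ r : ℕ, D i + 4 * X i + 4 * Y i = 9 * r := fun i =>
    sum_split' H₁ H₂ (IsIrrCharacter.isCharacter i.2) (hD i) (hX i) (hY i)
  have hGQ : ((Nat.card G : ℕ) : ℚ) = 72 * n := by exact_mod_cast hcardG
  have hF : (n : ℚ) * ∑ i, ((X i ^ 2 * Y i : ℤ) : ℚ) / (D i : ℚ) = 9 := by
    have h1 := cnt_eq H₁.isConj_x_xi hX hY hD
    rw [H₁.cnt_eq_648 H₂.card_cent_x, hGQ] at h1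
    push_cast at h1 ⊢
    linarith
  have hF' : (n : ℚ) * ∑ i, ((Y i ^ 2 * X i : ℤ) : ℚ) / (D i : ℚ) = 9 := by
    have hyz : x * x' * (x' * x⁻¹) = x'⁻¹ := by
      calc x * x' * (x' * x⁻¹) = x * (x' * x') * x⁻¹ := by group
        _ = x * x'⁻¹ * x⁻¹ := by rw [mul_self_eq_inv_of_cube H₁.x'3]
        _ = x'⁻¹ := by
          have h1 : x * x'⁻¹ = x'⁻¹ * x := H₁.comm x H₁.hx _ (S.inv_mem H₁.hx')
          rw [h1]; group
    have hV' : ∀ χ : IrrCharacter G, (χ : G → ℂ) (x * x' * (x' * x⁻¹)) = (X χ : ℂ) := by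
      intro χ
      rw [hyz, ← hX χ]
      obtain ⟨c, hc⟩ := isConj_iff.mp H₁.isConj_x_x'i
      rw [← hc]
      exact isClassFunction_of_isCharacter (IsIrrCharacter.isCharacter χ.2) x c
    have hCy : Nat.card (centralizer ({x * x' * (x' * x⁻¹)} : Set G)) = 18 := by
      rw [hyz]
      obtain ⟨c, hc⟩ := isConj_iff.mp H₁.isConj_x_x'i
      rw [← hc, card_cent_conj, H₁.card_cent_x]
    have h1 := cnt_eq H₂.isConj_x_xi hY hV' hD
    rw [H₂.cnt_eq_648 hCy, hGQ] at h1
    push_cast at h1 ⊢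
    linarith
  have hS : ∑ i, D i ^ 2 = 72 * (n : ℤ) := by
    have h1 := sum_charDegree_sq (G := G)
    rw [hcardG] at h1
    simp only [hDdef]
    exact_mod_cast h1
  exact ⟨D, X, Y, U, V, hD, hX, hY, hU, hV, hcardG, rows_cases hcols hn9 hmod hF hF' hS⟩

end Cfsg.Agent.Lib.S6RecChar2
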