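import Mathlib
import Cfsg.Agent.Lib.S6RecChar2
import Cfsg.Agent.Lib.CharPow
import Cfsg.Agent.Lib.BFInt
import Cfsg.Agent.Lib.PSolvFaith

set_option autoImplicit false
set_option linter.unusedVariables false
set_option linter.unusedSectionVars false
set_option linter.style.haveILetI false

namespace Cfsg.Agent.Lib.S6RecEnd

open Subgroup Cfsg Cfsg.Agent.Lib.CharBasic Cfsg.Agent.Lib.CharInd Cfsg.Agent.Lib.S6RecLoc
  Cfsg.Agent.Lib.CharKernel
open scoped Classical

variable {G : Type*} [Group G] {S : Subgroup G} {x x' R t t₁ t₂ : G}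

/-- A commutative bookkeeping lemma. -/
theorem nine_lemma {T : Subgroup G} (hT : ∀ u ∈ T, ∀ v ∈ T, u * v = v * u) {k a b c d e f g h : G}
    (hk : k ∈ T) (ha : a ∈ T) (hb : b ∈ T) (hc : c ∈ T) (hd : d ∈ T) (he : e ∈ T) (hf : f ∈ T) (hg : g ∈ T) (hh : h ∈ T)
    (L1 : k * a * b = 1) (L2 : k * c * d = 1) (L3 : k * e * f = 1) (L4 : k * g * h = 1)
    (L5 : c * e * h = 1) (L6 : d * g * f = 1) : k ^ 3 = 1 := by
  letI : CommGroup T := { (inferInstance : Group T) with mul_comm := fun u v => Subtype.ext (hT _ u.2 _ v.2) }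
  let k' : T := ⟨k, hk⟩
  let a' : T := ⟨a, ha⟩
  let b' : T := ⟨b, hb⟩
  let c' : T := ⟨c, hc⟩
  let d' : T := ⟨d, hd⟩
  let e' : T := ⟨e, he⟩
  let f' : T := ⟨f, hf⟩
  let g' : T := ⟨g, hg⟩
  let h' : T := ⟨h, hh⟩
  have l1 : k' * a' * b' = 1 := Subtype.ext L1
  have l2 : k' * c' * d' = 1 := Subtype.ext L2
  have l3 : k' * e' * f' = 1 := Subtype.ext L3
  have l4 : k' * g' * h' = 1 := Subtype.ext L4
  have l5 : c' * e' * h' = 1 := Subtype.ext L5
  have l6 : d' * g' * f' = 1 := Subtype.ext L6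
  have key : (k' * k' * k') * ((k' * a' * b') * (c' * e' * h') * (d' * g' * f')) =
      (k' * a' * b') * (k' * c' * d') * (k' * e' * f') * (k' * g' * h') := by ac_rfl
  rw [l1, l2, l3, l4, l5, l6] at key
  simp only [mul_one, one_mul] at key
  have : (k' * k' * k' : T).1 = 1 := congrArg Subtype.val key
  simpa [pow_succ, k'] using this

/-- A subgroup normalized by `S` and meeting the normalizer trivially is trivial. -/
theorem fpf_trivial [Finite G] (H : Setup S x x' R t) {L : Subgroup G} (hLS : ∀ s ∈ S, ∀ l ∈ L, s * l * s⁻¹ ∈ L)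
    (hLSi : ∀ l ∈ L, l ∈ S → l = 1) : L = ⊥ := by
  haveI : Fact (Nat.Prime 3) := ⟨Nat.prime_three⟩
  have hN : ∀ l ∈ L, l ∈ normalizer (S : Set G) → l = 1 := by
    intro l hl hlN
    apply hLSi l hl
    apply H.cS
    rw [mem_centralizer_iff]
    intro s hs
    have h1 : l * s * l⁻¹ * s⁻¹ ∈ S := S.mul_mem (conj_mem_of_normalizer hlN hs) (S.inv_mem hs)
    have h2 : l * s * l⁻¹ * s⁻¹ ∈ L := by
      have h3 : l * s * l⁻¹ * s⁻¹ = l * (s * l⁻¹ * s⁻¹) := by group
      rw [h3]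
      exact L.mul_mem hl (hLS s hs _ (L.inv_mem hl))
    have h4 := hLSi _ h2 h1
    have h5 : l * s * l⁻¹ = s := by
      calc l * s * l⁻¹ = (l * s * l⁻¹ * s⁻¹) * s := by group
        _ = s := by rw [h4, one_mul]
    calc s * l = (l * s * l⁻¹) * l := by rw [h5]
      _ = l * s := by group
  have hfix : ∀ a ∈ S, a ≠ 1 → ∀ l ∈ L, a * l * a⁻¹ = l → l = 1 := by
    intro a ha ha1 l hl hc
    apply hN l hl
    apply H.cent a ha ha1
    rw [mem_centralizer_singleton_iff]
    calc l * a = (a * l * a⁻¹) * a := by rw [hc]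
      _ = a * l := by group
  have hpow : ∀ a ∈ S, ∀ l ∈ L, a * a * l * (a * a)⁻¹ ∈ L := by
    intro a ha l hl
    have := hLS (a * a) (S.mul_mem ha ha) l hl
    exact this
  have hnorm : ∀ a ∈ S, a ≠ 1 → ∀ u ∈ L, u * (a * u * a⁻¹) * (a * a * u * (a * a)⁻¹) = 1 := by
    intro a ha ha1 u hu
    let f : L → L := fun k => ⟨(k : G)⁻¹ * (a * k * a⁻¹), L.mul_mem (L.inv_mem k.2) (hLS a ha _ k.2)⟩
    have hinj : Function.Injective f := by
      intro k l hkl
      have h1 : (k : G)⁻¹ * (a * k * a⁻¹) = (l : G)⁻¹ * (a * l * a⁻¹) := congrArg Subtype.val hkl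
      have h2 : (l : G) * (k : G)⁻¹ ∈ L := L.mul_mem l.2 (L.inv_mem k.2)
      have h3 : a * ((l : G) * (k : G)⁻¹) * a⁻¹ = (l : G) * (k : G)⁻¹ := by
        have h4 : a * (k : G) * a⁻¹ = k * ((l : G)⁻¹ * (a * l * a⁻¹)) := by
          rw [← h1]; group
        calc a * ((l : G) * (k : G)⁻¹) * a⁻¹ = (a * l * a⁻¹) * (a * (k : G) * a⁻¹)⁻¹ := by group
          _ = (l : G) * (k : G)⁻¹ := by rw [h4]; group
      have h5 := hfix a ha ha1 _ h2 h3
      apply Subtype.ext
      exact (mul_inv_eq_one.mp h5).symm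
    obtain ⟨k, hk⟩ := (Finite.injective_iff_surjective.mp hinj) ⟨u, hu⟩
    have hk' : (k : G)⁻¹ * (a * k * a⁻¹) = u := congrArg Subtype.val hk
    have ha3 : a ^ 3 = 1 := H.exp a ha
    have haaa : a * a * a = 1 := by
      rw [← ha3]; simp [pow_succ]
    rw [← hk']
    have h1 : a * ((k : G)⁻¹ * (a * k * a⁻¹)) * a⁻¹ = (a * (k : G) * a⁻¹)⁻¹ * (a * a * k * (a * a)⁻¹) := by group
    have h2 : a * a * ((k : G)⁻¹ * (a * k * a⁻¹)) * (a * a)⁻¹ =
        (a * a * (k : G) * (a * a)⁻¹)⁻¹ * ((a * a * a) * k * (a * a * a)⁻¹) := by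
      rw [conj_mul', conj_inv']
      congr 1
      simp only [mul_inv_rev, mul_assoc]
    rw [h1, h2, haaa]
    have h3 : ∀ A B : G, (k : G)⁻¹ * A * (A⁻¹ * B) * (B⁻¹ * (1 * (k : G) * 1⁻¹)) = 1 := fun A B => by group
    exact h3 _ _
  have hcomm1 : ∀ a ∈ S, a ≠ 1 → ∀ u ∈ L, u * (a * u * a⁻¹) = (a * u * a⁻¹) * u := by
    intro a ha ha1 u hu
    have ha3 : a ^ 3 = 1 := H.exp a ha
    have haaa : a * a * a = 1 := by
      rw [← ha3]; simp [pow_succ]
    set σ1 := a * u * a⁻¹ with hσ1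
    set σ2 := a * a * u * (a * a)⁻¹ with hσ2
    have h0 : u * σ1 * σ2 = 1 := hnorm a ha ha1 u hu
    have hσ1L : σ1 ∈ L := hLS a ha u hu
    have hσ2L : σ2 ∈ L := hpow a ha u hu
    have hvL : u * σ1 ∈ L := L.mul_mem hu hσ1L
    have h1 := hnorm a ha ha1 _ hvL
    -- the conjugates of `v`
    have haσ1 : a * σ1 * a⁻¹ = σ2 := by rw [hσ1, hσ2]; group
    have haσ2 : a * σ2 * a⁻¹ = u := by
      rw [hσ2]
      calc a * (a * a * u * (a * a)⁻¹) * a⁻¹ = (a * a * a) * u * (a * a * a)⁻¹ := by group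
        _ = u := by rw [haaa]; group
    have haaσ1 : a * a * σ1 * (a * a)⁻¹ = u := by
      calc a * a * σ1 * (a * a)⁻¹ = a * (a * σ1 * a⁻¹) * a⁻¹ := by group
        _ = u := by rw [haσ1, haσ2]
    have h2 : a * (u * σ1) * a⁻¹ = σ1 * σ2 := by rw [conj_mul', haσ1]
    have h3 : a * a * (u * σ1) * (a * a)⁻¹ = σ2 * u := by rw [conj_mul', haaσ1]
    rw [h2, h3] at h1
    -- `σ1 σ2 = u⁻¹`, `σ2 u = σ1⁻¹`
    have h4 : σ1 * σ2 = u⁻¹ := by
      have : u * (σ1 * σ2) = 1 := by rw [← mul_assoc]; exact h0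
      exact eq_inv_of_mul_eq_one_right this
    have h5 : σ2 * u = σ1⁻¹ := by
      have h6 : σ1 * (σ2 * u) = 1 := by
        calc σ1 * (σ2 * u) = (σ1 * σ2) * u := by group
          _ = 1 := by rw [h4]; group
      exact eq_inv_of_mul_eq_one_right h6
    rw [h4, h5] at h1
    -- `u σ1 u⁻¹ σ1⁻¹ = 1`
    have h7 : σ2 = (u * σ1)⁻¹ := eq_inv_of_mul_eq_one_right h0
    have h8 : u * σ1 = σ1 * u := by
      have h9 : u * σ1 * u⁻¹ * σ1⁻¹ = 1 := h1
      calc u * σ1 = (u * σ1 * u⁻¹ * σ1⁻¹) * (σ1 * u) := by group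
        _ = σ1 * u := by rw [h9, one_mul]
    exact h8
  -- all the conjugates commute
  have hcomm2 : ∀ k ∈ L, ∀ s ∈ S, ∀ s' ∈ S, (s * k * s⁻¹) * (s' * k * s'⁻¹) = (s' * k * s'⁻¹) * (s * k * s⁻¹) := by
    intro k hk s hs s' hs'
    by_cases hss : s' = s
    · rw [hss]
    · have ha1 : s' * s⁻¹ ≠ 1 := fun h => hss (mul_inv_eq_one.mp h)
      have h1 := hcomm1 (s' * s⁻¹) (S.mul_mem hs' (S.inv_mem hs)) ha1 (s * k * s⁻¹) (hLS s hs k hk)
      have h2 : (s' * s⁻¹) * (s * k * s⁻¹) * (s' * s⁻¹)⁻¹ = s' * k * s'⁻¹ := by group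
      rw [h2] at h1
      exact h1
  have hcube : ∀ k ∈ L, k ^ 3 = 1 := by
    intro k hk
    set c : G → G := fun s => s * k * s⁻¹ with hc
    set A : Set G := c '' (S : Set G) with hA
    have hAcomm : ∀ u ∈ A, ∀ v ∈ A, u * v = v * u := by
      rintro _ ⟨s, hs, rfl⟩ _ ⟨s', hs', rfl⟩
      exact hcomm2 k hk s hs s' hs'
    have hcl : IsMulCommutative (closure A) := Subgroup.isMulCommutative_closure hAcomm
    have hT : ∀ u ∈ closure A, ∀ v ∈ closure A, u * v = v * u := by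
      intro u hu v hv
      have := hcl.is_comm.comm (⟨u, hu⟩ : closure A) ⟨v, hv⟩
      exact congrArg Subtype.val this
    have hmem : ∀ s ∈ S, c s ∈ closure A := fun s hs => subset_closure ⟨s, hs, rfl⟩
    have hx := H.hx
    have hx' := H.hx'
    have hxx := S.mul_mem hx hx
    have hx'x' := S.mul_mem hx' hx'
    have hkc : c 1 = k := by simp [hc]
    have hkT : k ∈ closure A := by rw [← hkc]; exact hmem 1 S.one_mem
    have hy := S.mul_mem hx hx'
    have hw := S.mul_mem hx hx'x'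
    have hy1 : x * x' ≠ 1 := fun h => H.x'xi (eq_inv_of_mul_eq_one_right h)
    have hw1 : x * (x' * x') ≠ 1 := by
      rw [mul_self_eq_inv_of_cube H.x'3]
      intro h
      apply H.x'x
      exact (eq_of_mul_inv_eq_one h).symm
    have rel : ∀ a ∈ S, a ≠ 1 → c 1 * c a * c (a * a) = 1 := by
      intro a ha ha1
      rw [hkc]
      exact hnorm a ha ha1 k hk
    have L1 := rel x hx H.x1
    have L2 := rel x' hx' H.x'1
    have L3 := rel _ hy hy1
    have L4 := rel _ hw hw1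
    have L5 : c x' * c (x * x') * c ((x * (x' * x')) * (x * (x' * x'))) = 1 := by
      have h1 := hnorm x hx H.x1 (c x') (hLS x' hx' k hk)
      have h2 : x * c x' * x⁻¹ = c (x * x') := by simp only [hc]; group
      have h3 : x * x * c x' * (x * x)⁻¹ = c ((x * (x' * x')) * (x * (x' * x'))) := by
        have h4 : (x * (x' * x')) * (x * (x' * x')) = x * x * x' := by
          have h5 : x * (x' * x') * (x * (x' * x')) = x * (x * (x' * x')) * (x' * x') := by
            rw [mul_assoc x (x' * x'), H.comm _ hx'x' _ (S.mul_mem hx hx'x')]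
            group
          rw [h5]
          have h6 : x' * x' * (x' * x') = x' := by
            calc x' * x' * (x' * x') = (x' * x' * x') * x' := by group
              _ = x' := by
                have : x' * x' * x' = 1 := by rw [← H.x'3]; simp [pow_succ]
                rw [this, one_mul]
          calc x * (x * (x' * x')) * (x' * x') = x * x * (x' * x' * (x' * x')) := by group
            _ = x * x * x' := by rw [h6]
        rw [h4]
        simp only [hc]
        group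
      rw [h2, h3] at h1
      exact h1
    have L6 : c (x' * x') * c (x * (x' * x')) * c ((x * x') * (x * x')) = 1 := by
      have h1 := hnorm x hx H.x1 (c (x' * x')) (hLS _ hx'x' k hk)
      have h2 : x * c (x' * x') * x⁻¹ = c (x * (x' * x')) := by simp only [hc]; group
      have h3 : x * x * c (x' * x') * (x * x)⁻¹ = c ((x * x') * (x * x')) := by
        have h4 : (x * x') * (x * x') = x * x * (x' * x') := by
          calc (x * x') * (x * x') = x * (x' * x) * x' := by group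
            _ = x * (x * x') * x' := by rw [H.comm x' hx' x hx]
            _ = _ := by group
        rw [h4]
        simp only [hc]
        group
      rw [h2, h3] at h1
      exact h1
    rw [hkc] at L1 L2 L3 L4
    exact nine_lemma hT hkT (hmem _ hx) (hmem _ hxx) (hmem _ hx') (hmem _ hx'x') (hmem _ hy) (hmem _ (S.mul_mem hy hy))
      (hmem _ hw) (hmem _ (S.mul_mem hw hw)) L1 L2 L3 L4 L5 L6
  -- a `3`-group normalized by `S`
  have hLp : IsPGroup 3 L := fun k => ⟨1, Subtype.ext (by simpa using hcube k k.2)⟩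
  obtain ⟨P, hP⟩ := H.syl
  have hSp : IsPGroup 3 S := by rw [hP]; exact P.isPGroup'
  have hle : S ≤ normalizer (L : Set G) := by
    intro s hs
    rw [mem_normalizer_iff]
    intro l
    constructor
    · exact hLS s hs l
    · intro hl
      have := hLS s⁻¹ (S.inv_mem hs) _ hl
      simp only [inv_inv] at this
      have h2 : s⁻¹ * (s * l * s⁻¹) * s = l := by group
      rwa [h2] at this
  have hsup : IsPGroup 3 ((S ⊔ L : Subgroup G)) := IsPGroup.to_sup_of_normal_right' hSp hLp hle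
  have hmax : S ⊔ L = S := by
    have h1 := P.is_maximal' (Q := S ⊔ L) hsup (by rw [← hP]; exact le_sup_left)
    rw [h1, hP]
  rw [eq_bot_iff]
  intro l hl
  have h2 : l ∈ S := by
    rw [← hmax]
    exact (le_sup_right : L ≤ S ⊔ L) hl
  exact hLSi l hl h2

/-- A nontrivial subgroup normalized by `S` and `R` contains `S`. -/
theorem contains_S [Finite G] (H : Setup S x x' R t) {L : Subgroup G} (hLS : ∀ s ∈ S, ∀ l ∈ L, s * l * s⁻¹ ∈ L)
    (hLR : ∀ l ∈ L, R * l * R⁻¹ ∈ L) (hne : L ≠ ⊥) : S ≤ L := by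
  have hex : ∃ s ∈ L, s ∈ S ∧ s ≠ 1 := by
    by_contra hcon
    push Not at hcon
    exact hne (fpf_trivial H hLS hcon)
  obtain ⟨s, hsL, hsS, hs1⟩ := hex
  have hRS := conj_mem_of_normalizer H.hR hsS
  have hRL := hLR s hsL
  set s' := R * s * R⁻¹ with hs'
  have hR2 : R * s' * R⁻¹ = s⁻¹ := by
    have h1 := H.isConj_x_xi
    -- `R ^ 2` inverts `S`
    obtain ⟨h, k, hh, hk, hhk⟩ := H.mem_cases hsS
    have h2 : R * (R * h * R⁻¹) * R⁻¹ = h⁻¹ := by
      rcases hh with rfl | rfl | rfl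
      · simp
      · rw [H.Rx, H.Rx']
      · rw [conj_inv', H.Rx, conj_inv', H.Rx']
    have h3 : R * (R * k * R⁻¹) * R⁻¹ = k⁻¹ := by
      rcases hk with rfl | rfl | rfl
      · simp
      · rw [H.Rx', conj_inv', H.Rx]
      · rw [conj_inv', H.Rx', conj_inv', conj_inv', H.Rx]
    have hhS : h ∈ S := by
      rcases hh with rfl | rfl | rfl
      · exact S.one_mem
      · exact H.hx
      · exact S.inv_mem H.hx
    have hkS : k ∈ S := by
      rcases hk with rfl | rfl | rfl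
      · exact S.one_mem
      · exact H.hx'
      · exact S.inv_mem H.hx'
    have h4 : R * (R * (h * k) * R⁻¹) * R⁻¹ = (R * (R * h * R⁻¹) * R⁻¹) * (R * (R * k * R⁻¹) * R⁻¹) := by
      rw [conj_mul' R h k, conj_mul' R (R * h * R⁻¹) (R * k * R⁻¹)]
    rw [hs', hhk, h4, h2, h3, mul_inv_rev]
    exact H.comm _ (S.inv_mem hhS) _ (S.inv_mem hkS)
  have hs3 := H.exp s hsS
  have hne1 := ne_inv_of_cube hs3 hs1
  have hs'1 : s' ≠ 1 := by
    intro h
    rw [h] at hR2
    apply hs1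
    have : R * 1 * R⁻¹ = (1 : G) := by group
    rw [this] at hR2
    exact inv_eq_one.mp hR2.symm
  have hs's : s' ≠ s := by
    intro h
    have h2 : R * s * R⁻¹ = s := h
    rw [h, h2] at hR2
    exact hne1 hR2
  have hs'si : s' ≠ s⁻¹ := by
    intro h
    have h2 : R * s * R⁻¹ = s⁻¹ := h
    rw [h, conj_inv', h2, inv_inv] at hR2
    exact hne1 hR2
  intro a ha
  obtain ⟨h, k, hh, hk, rfl⟩ := basis H.comm H.exp H.card hsS hRS hs1 hs'1 hs's hs'si ha
  apply L.mul_mem
  · rcases hh with rfl | rfl | rfl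
    · exact L.one_mem
    · exact hsL
    · exact L.inv_mem hsL
  · rcases hk with rfl | rfl | rfl
    · exact L.one_mem
    · exact hRL
    · exact L.inv_mem hRL

theorem contains_S_of_normal [Finite G] (H : Setup S x x' R t) {L : Subgroup G} [hL : L.Normal] (hne : L ≠ ⊥) : S ≤ L :=
  contains_S H (fun s _ l hl => hL.conj_mem l hl s) (fun l hl => hL.conj_mem l hl R) hne

end Cfsg.Agent.Lib.S6RecEnd
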