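import Mathlib
import Cfsg.Agent.Lib.S6RecEnd

set_option autoImplicit false
set_option linter.unusedVariables false
set_option linter.unusedSectionVars false
set_option linter.style.haveILetI false

namespace Cfsg.Agent.Lib.S6RecEnd2

open Subgroup Cfsg Cfsg.Agent.Lib.CharBasic Cfsg.Agent.Lib.CharInd Cfsg.Agent.Lib.S6RecLoc
  Cfsg.Agent.Lib.CharKernel Cfsg.Agent.Lib.S6RecEnd
open scoped Classical

variable {G : Type*} [Group G] [Fintype G] {S : Subgroup G} {x x' R t t₁ t₂ : G}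

/-- The sum of a character over the powers of an element of order seven. -/
theorem sum_zpowers7 {χ : G → ℂ} (hχ : IsCharacter G χ) {g : G} (hg : orderOf g = 7) :
    ∃ m : ℕ, χ 1 + χ g + χ (g ^ 2) + χ (g ^ 3) + χ (g ^ 4) + χ (g ^ 5) + χ (g ^ 6) = 7 * m := by
  set A := zpowers g with hA
  haveI : Fintype A := Fintype.ofFinite A
  obtain ⟨m, hm⟩ := classInner_char_char (G := A) (isCharacter_restrict A hχ) isCharacter_one
  refine ⟨m, ?_⟩
  have hcard : Nat.card A = 7 := by rw [hA, Nat.card_zpowers, hg]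
  have hfin : IsOfFinOrder g := by
    rw [← orderOf_pos_iff, hg]; norm_num
  have hsum : ∑ a : A, χ (a : G) = χ 1 + χ g + χ (g ^ 2) + χ (g ^ 3) + χ (g ^ 4) + χ (g ^ 5) + χ (g ^ 6) := by
    rw [← Equiv.sum_comp (finEquivZPowers hfin)]
    have h2 : ∀ i : Fin (orderOf g), χ ((finEquivZPowers hfin i : zpowers g) : G) = χ (g ^ (i : ℕ)) := fun i => rfl
    simp only [h2]
    rw [Fin.sum_univ_eq_sum_range (fun i => χ (g ^ i)) (orderOf g), hg]
    simp [Finset.sum_range_succ]
  have h1 : classInner (fun n : A => χ n) (fun _ : A => (1 : ℂ)) = (Nat.card A : ℂ)⁻¹ * ∑ a : A, χ (a : G) := by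
    unfold classInner
    congr 1
    simp
  rw [h1, hcard, hsum] at hm
  have h9 : ((7 : ℕ) : ℂ) ≠ 0 := by norm_num
  field_simp at hm
  push_cast at hm
  linear_combination hm

/-- A character of degree five does not exist when seven divides the order of the group. -/
theorem no_deg5 (H₁ : Setup S x x' R t₁) (H₂ : Setup S (x * x') (x' * x⁻¹) R t₂)
    {D X Y U V : IrrCharacter G → ℤ} (hD : ∀ χ : IrrCharacter G, (χ : G → ℂ) 1 = (D χ : ℂ))
    (hX : ∀ χ : IrrCharacter G, (χ : G → ℂ) x = (X χ : ℂ))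
    (hY : ∀ χ : IrrCharacter G, (χ : G → ℂ) (x * x') = (Y χ : ℂ))
    (hU : ∀ χ : IrrCharacter G, (χ : G → ℂ) (x * t₁) = (U χ : ℂ))
    (hV : ∀ χ : IrrCharacter G, (χ : G → ℂ) (x * x' * t₂) = (V χ : ℂ))
    {i : IrrCharacter G} (hDi : D i = 5) (hXi : X i = -1)
    (hu : ∀ j, X j = X i → Y j = Y i → U j = U i → V j = V i → j = i)
    (h7 : 7 ∣ Nat.card G) (h31 : (Nat.card G).Coprime 31) : False := by
  classical
  have hχ := i.2
  have hχc := IsIrrCharacter.isCharacter hχ
  have hψ := Cfsg.Agent.Lib.CharPow.isIrr_pow hχ h31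
  let j : IrrCharacter G := ⟨fun g => (i : G → ℂ) (g ^ 31), hψ⟩
  have hjv : ∀ g, (j : G → ℂ) g = (i : G → ℂ) (g ^ 31) := fun g => rfl
  have hpow3 : ∀ {a : G}, a ^ 3 = 1 → a ^ 31 = a := by
    intro a ha
    calc a ^ 31 = (a ^ 3) ^ 10 * a := by group
      _ = a := by rw [ha]; simp
  have hpow6 : ∀ {a : G}, a ^ 6 = 1 → a ^ 31 = a := by
    intro a ha
    calc a ^ 31 = (a ^ 6) ^ 5 * a := by group
      _ = a := by rw [ha]; simp
  have hji : j = i := by
    apply hu
    · have h1 := hX j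
      rw [hjv, hpow3 H₁.x3, hX i] at h1
      exact_mod_cast h1.symm
    · have h1 := hY j
      rw [hjv, hpow3 H₂.x3, hY i] at h1
      exact_mod_cast h1.symm
    · have h1 := hU j
      rw [hjv, hpow6 H₁.xt_pow6, hU i] at h1
      exact_mod_cast h1.symm
    · have h1 := hV j
      rw [hjv, hpow6 H₂.xt_pow6, hV i] at h1
      exact_mod_cast h1.symm
  have hfix : ∀ g : G, (i : G → ℂ) (g ^ 31) = (i : G → ℂ) g := by
    intro g
    rw [← hjv, hji]
  haveI : Fact (Nat.Prime 7) := ⟨by norm_num⟩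
  obtain ⟨g, hg⟩ := exists_prime_orderOf_dvd_card' 7 h7
  have hg7 : g ^ 7 = 1 := by rw [← hg]; exact pow_orderOf_eq_one g
  have hg1 : g ≠ 1 := by
    intro h
    rw [h, orderOf_one] at hg
    norm_num at hg
  -- the values on powers
  have hstep : ∀ a : ℕ, (i : G → ℂ) (g ^ (3 * a)) = (i : G → ℂ) (g ^ a) := by
    intro a
    have e : g ^ (3 * a) = (g ^ a) ^ 31 := by
      calc g ^ (3 * a) = g ^ (3 * a) * (g ^ 7) ^ (4 * a) := by rw [hg7]; simp
        _ = (g ^ a) ^ 31 := by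
          rw [← pow_mul, ← pow_add, ← pow_mul]
          congr 1
          ring
    rw [e, hfix]
  have hred : ∀ a b : ℕ, a % 7 = b % 7 → g ^ a = g ^ b := by
    intro a b hab
    have : orderOf g = 7 := hg
    rw [pow_eq_pow_iff_modEq, this]
    exact hab
  set c := (i : G → ℂ) g with hc
  have h3 : (i : G → ℂ) (g ^ 3) = c := by
    have := hstep 1
    simpa [pow_one] using this
  have h2 : (i : G → ℂ) (g ^ 2) = c := by
    have := hstep 3
    rw [hred (3 * 3) 2 (by norm_num), h3] at this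
    exact this
  have h6 : (i : G → ℂ) (g ^ 6) = c := by
    have := hstep 2
    rw [h2] at this
    exact this
  have h4 : (i : G → ℂ) (g ^ 4) = c := by
    have := hstep 6
    rw [hred (3 * 6) 4 (by norm_num), h6] at this
    exact this
  have h5 : (i : G → ℂ) (g ^ 5) = c := by
    have := hstep 4
    rw [hred (3 * 4) 5 (by norm_num), h4] at this
    exact this
  obtain ⟨m, hm⟩ := sum_zpowers7 hχc hg
  rw [h2, h3, h4, h5, h6, hD i, hDi, ← hc] at hm
  -- rational and integral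
  have hcq : c = (((7 * (m : ℚ) - 5) / 6 : ℚ) : ℂ) := by
    push_cast at hm ⊢
    linear_combination (1 / 6 : ℂ) * hm
  obtain ⟨n₁, hn₁⟩ := Cfsg.Agent.Lib.BFInt.int_of_isIntegral_rat _ hcq (Cfsg.Agent.Lib.BlockVal.isIntegral_char hχc g)
  have hdeg : (charDegree (i : G → ℂ) : ℂ) = 5 := by
    rw [← one_eq_charDegree hχc, hD i, hDi]; norm_num
  have hdeg' : charDegree (i : G → ℂ) = 5 := by exact_mod_cast hdeg
  have hnorm := Cfsg.Agent.Lib.PSolvFaith.norm_char_le hχc g
  rw [hdeg', ← hc, hn₁, Complex.norm_intCast] at hnorm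
  have hnorm' : |(n₁ : ℝ)| ≤ 5 := by simpa using hnorm
  have hle1 : n₁ ≤ 5 := by
    have := (abs_le.mp hnorm').2
    exact_mod_cast this
  have hle2 : -5 ≤ n₁ := by
    have := (abs_le.mp hnorm').1
    exact_mod_cast this
  have hint : 5 + 6 * n₁ = 7 * (m : ℤ) := by
    rw [hn₁] at hm
    have : (((5 + 6 * n₁ : ℤ)) : ℂ) = ((7 * (m : ℤ) : ℤ) : ℂ) := by
      push_cast
      linear_combination hm
    exact_mod_cast this
  have hn5 : n₁ = 5 := by omega
  have hgk : g ∈ charKer hχc := by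
    rw [mem_charKer, ← hc, hn₁, hn5, hD i, hDi]
  have hne : charKer hχc ≠ ⊥ := by
    intro h
    rw [h, Subgroup.mem_bot] at hgk
    exact hg1 hgk
  have hSle := contains_S_of_normal H₁ hne
  have hxk := hSle H₁.hx
  rw [mem_charKer, hX i, hD i, hXi, hDi] at hxk
  norm_num at hxk

end Cfsg.Agent.Lib.S6RecEnd2
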