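import Mathlib
import Cfsg.Agent.Lib.S6RecLoc

set_option autoImplicit false
set_option linter.unusedVariables false
set_option linter.style.haveILetI false

namespace Cfsg.Agent.Lib.S6RecLoc3

open Subgroup Cfsg.Agent.Lib.S6RecLoc DihedralGroup

variable {G : Type*} [Group G]

/-- Data extracted from the isomorphism. -/
structure Pre (S : Subgroup G) (φ : normalizer (S : Set G) →* DihedralGroup 4) : Prop where
  surj : Function.Surjective φ
  ker : ∀ n : normalizer (S : Set G), φ n = 1 ↔ (n : G) ∈ S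

theorem exists_pre {S : Subgroup G}
    (eN : normalizer (S : Set G) ⧸ S.subgroupOf (normalizer (S : Set G)) ≃* DihedralGroup 4) :
    ∃ φ : normalizer (S : Set G) →* DihedralGroup 4, Pre S φ := by
  refine ⟨eN.toMonoidHom.comp (QuotientGroup.mk' _), ?_, ?_⟩
  · exact eN.surjective.comp (QuotientGroup.mk'_surjective _)
  · intro n
    simp only [MonoidHom.comp_apply, MulEquiv.coe_toMonoidHom, EmbeddingLike.map_eq_one_iff]
    rw [QuotientGroup.mk'_apply, QuotientGroup.eq_one_iff, mem_subgroupOf]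

/-- Exponent three. -/
theorem exp_three [Finite G] {S : Subgroup G} {φ : normalizer (S : Set G) →* DihedralGroup 4} (hφ : Pre S φ)
    (hcard : Nat.card S = 9) (hC : centralizer (S : Set G) ≤ S) {a : G} (ha : a ∈ S) : a ^ 3 = 1 := by
  by_contra h3
  haveI : Fact (Nat.Prime 3) := ⟨Nat.prime_three⟩
  let a' : S := ⟨a, ha⟩
  have h9 : orderOf a' ∣ 3 ^ 2 := by
    have := orderOf_dvd_natCard a'
    rw [hcard] at this
    exact this
  obtain ⟨m, hm, hom⟩ := (Nat.dvd_prime_pow Nat.prime_three).mp h9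
  have hm2 : m = 2 := by
    by_contra hne
    have hm1 : m ≤ 1 := by omega
    apply h3
    have h4 : a' ^ 3 = 1 := by
      have h5 : orderOf a' ∣ 3 := by
        rw [hom]
        interval_cases m <;> norm_num
      exact orderOf_dvd_iff_pow_eq_one.mp h5
    simpa [a'] using congrArg Subtype.val h4
  have hoa : orderOf a = 9 := by
    have : orderOf a' = 9 := by rw [hom, hm2]; norm_num
    rw [← Subgroup.orderOf_mk a ha]
    exact this
  -- `S` is generated by `a`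
  have hSz : S = zpowers a := by
    symm
    apply Subgroup.eq_of_le_of_card_ge
    · rw [zpowers_le]; exact ha
    · rw [Nat.card_zpowers, hoa, hcard]
  obtain ⟨R, hR⟩ := hφ.surj (r 1)
  obtain ⟨T, hT⟩ := hφ.surj (sr 0)
  have hmem : ∀ n : normalizer (S : Set G), ∃ i : ℤ, (n : G) * a * (n : G)⁻¹ = a ^ i := by
    intro n
    have h1 : (n : G) * a * (n : G)⁻¹ ∈ zpowers a := by
      rw [← hSz]
      exact (mem_normalizer_iff.mp n.2 a).mp ha
    obtain ⟨i, hi⟩ := mem_zpowers_iff.mp h1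
    exact ⟨i, hi.symm⟩
  obtain ⟨i, hi⟩ := hmem R
  obtain ⟨j, hj⟩ := hmem T
  have hcomm : ((R * T : normalizer (S : Set G)) : G) * a * ((R * T : normalizer (S : Set G)) : G)⁻¹ =
      ((T * R : normalizer (S : Set G)) : G) * a * ((T * R : normalizer (S : Set G)) : G)⁻¹ := by
    have hRp : ∀ k : ℤ, (R : G) * a ^ k * (R : G)⁻¹ = (a ^ i) ^ k := by
      intro k
      rw [← hi, ← conj_zpow]
    have hTp : ∀ k : ℤ, (T : G) * a ^ k * (T : G)⁻¹ = (a ^ j) ^ k := by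
      intro k
      rw [← hj, ← conj_zpow]
    simp only [Subgroup.coe_mul]
    calc (R : G) * T * a * ((R : G) * T)⁻¹ = (R : G) * ((T : G) * a * (T : G)⁻¹) * (R : G)⁻¹ := by group
      _ = (a ^ i) ^ j := by rw [hj, hRp]
      _ = (a ^ j) ^ i := by rw [← zpow_mul, ← zpow_mul, mul_comm]
      _ = (T : G) * ((R : G) * a * (R : G)⁻¹) * (T : G)⁻¹ := by rw [hi, hTp]
      _ = _ := by group
  have hker : (T * R)⁻¹ * (R * T) ∈ (φ.ker) := by
    rw [MonoidHom.mem_ker, hφ.ker]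
    apply hC
    rw [mem_centralizer_iff]
    intro s hs
    rw [hSz] at hs
    obtain ⟨k, rfl⟩ := mem_zpowers_iff.mp hs
    have h1 : ((T * R)⁻¹ * (R * T) : normalizer (S : Set G)).1 * a * ((T * R)⁻¹ * (R * T) : normalizer (S : Set G)).1⁻¹ = a := by
      simp only [Subgroup.coe_mul, Subgroup.coe_inv] at hcomm ⊢
      calc ((T : G) * R)⁻¹ * ((R : G) * T) * a * (((T : G) * R)⁻¹ * ((R : G) * T))⁻¹
          = ((T : G) * R)⁻¹ * ((R : G) * T * a * ((R : G) * T)⁻¹) * ((T : G) * R) := by group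
        _ = a := by rw [hcomm]; group
    have h2 : Commute a ((T * R)⁻¹ * (R * T) : normalizer (S : Set G)).1 := by
      show a * _ = _ * a
      nth_rewrite 1 [← h1]
      group
    exact (h2.zpow_left k).eq
  rw [MonoidHom.mem_ker, map_mul, map_inv, map_mul, map_mul, hR, hT] at hker
  exact absurd hker (by decide)

/-- The second basis. -/
theorem second {S : Subgroup G} {x x' R t t' : G} (H : Setup S x x' R t) (ht' : t' ∈ normalizer (S : Set G))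
    (ht'2 : t' ^ 2 = 1) (ht'x : t' * x * t'⁻¹ = x') (ht'x' : t' * x' * t'⁻¹ = x) :
    Setup S (x * x') (x' * x⁻¹) R t' := by
  have hc : x * x' = x' * x := H.hxx'
  have hc1 : x⁻¹ * x' = x' * x⁻¹ := by
    calc x⁻¹ * x' = x⁻¹ * (x' * x) * x⁻¹ := by group
      _ = x⁻¹ * (x * x') * x⁻¹ := by rw [hc]
      _ = _ := by group
  have hc2 : x⁻¹ * x'⁻¹ = x'⁻¹ * x⁻¹ := by
    rw [← mul_inv_rev, ← mul_inv_rev, hc]
  have hc3 : x * x'⁻¹ = x'⁻¹ * x := by
    calc x * x'⁻¹ = x'⁻¹ * (x' * x) * x'⁻¹ := by group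
      _ = x'⁻¹ * (x * x') * x'⁻¹ := by rw [hc]
      _ = _ := by group
  have hyinv : (x * x')⁻¹ = x⁻¹ * x'⁻¹ := by rw [mul_inv_rev, hc2]
  have hzinv : (x' * x⁻¹)⁻¹ = x'⁻¹ * x := by rw [mul_inv_rev, inv_inv, hc3]
  refine ⟨H.comm, H.exp, H.card, H.cS, H.cent, H.syl, S.mul_mem H.hx H.hx', S.mul_mem H.hx' (S.inv_mem H.hx),
    ?_, ?_, ?_, ?_, H.hR, ?_, ?_, ht', ht'2, ?_, ?_, ?_⟩
  · intro h
    exact H.x'xi (eq_inv_of_mul_eq_one_right h)
  · intro h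
    exact H.x'x (mul_inv_eq_one.mp h)
  · intro h
    apply H.x_ne_inv
    have h1 : x' * x⁻¹ = x' * x := by rw [h, hc]
    exact (mul_left_cancel h1).symm
  · intro h
    apply H.x'_ne_inv
    rw [hyinv, hc2] at h
    exact mul_right_cancel h
  · rw [conj_mul', H.Rx, H.Rx']
  · rw [conj_mul', conj_inv', H.Rx, H.Rx', hyinv]
  · rw [conj_mul', ht'x, ht'x', hc]
  · rw [conj_mul', conj_inv', ht'x, ht'x', hzinv]
    exact hc3
  · intro n hn
    rw [conj_mul' n x x', conj_mul' n x' x⁻¹, conj_inv' n x]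
    rcases H.act n hn with ⟨h1, h2⟩ | ⟨h1, h2⟩ | ⟨h1, h2⟩ | ⟨h1, h2⟩ | ⟨h1, h2⟩ | ⟨h1, h2⟩ | ⟨h1, h2⟩ | ⟨h1, h2⟩ <;>
      rw [h1, h2]
    · exact Or.inl ⟨rfl, rfl⟩
    · exact Or.inr (Or.inl ⟨rfl, hyinv.symm⟩)
    · exact Or.inr (Or.inr (Or.inl ⟨hyinv.symm, by rw [inv_inv, hzinv]⟩))
    · exact Or.inr (Or.inr (Or.inr (Or.inl ⟨hzinv.symm, by rw [inv_inv]⟩)))
    · exact Or.inr (Or.inr (Or.inr (Or.inr (Or.inr (Or.inl ⟨by rw [hzinv, hc3], by rw [hyinv, hc2]⟩)))))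
    · exact Or.inr (Or.inr (Or.inr (Or.inr (Or.inr (Or.inr (Or.inl ⟨by rw [hyinv, hc2], by rw [inv_inv, hc1]⟩))))))
    · exact Or.inr (Or.inr (Or.inr (Or.inr (Or.inr (Or.inr (Or.inr ⟨hc1, by rw [inv_inv, hc]⟩))))))
    · exact Or.inr (Or.inr (Or.inr (Or.inr (Or.inl ⟨hc.symm, by rw [hzinv, hc3]⟩))))

/-- The conjugation action of `g ^ 3` when `g ^ 2 ∈ S`. -/
theorem conj_cube {S : Subgroup G} (hcomm : ∀ a ∈ S, ∀ b ∈ S, a * b = b * a) {g s : G} (h2 : g ^ 2 ∈ S) (hs : s ∈ S) :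
    g ^ 3 * s * (g ^ 3)⁻¹ = g * s * g⁻¹ := by
  have h1 : g ^ 3 * s * (g ^ 3)⁻¹ = g * (g ^ 2 * s * (g ^ 2)⁻¹) * g⁻¹ := by
    simp only [pow_succ, pow_zero, one_mul]
    group
  rw [h1, hcomm _ h2 _ hs]
  congr 1
  group

theorem cube_sq {S : Subgroup G} (hexp : ∀ a ∈ S, a ^ 3 = 1) {g : G} (h2 : g ^ 2 ∈ S) : (g ^ 3) ^ 2 = 1 := by
  have h3 := hexp _ h2
  rw [← pow_mul]
  rw [← pow_mul] at h3
  exact h3

set_option maxHeartbeats 1000000 in
/-- The local analysis. -/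
theorem exists_setups [Finite G] (P : Sylow 3 G) (S : Subgroup G) (hSP : S = P) (hcard : Nat.card S = 9)
    (hC : centralizer (S : Set G) = S)
    (eN : normalizer (S : Set G) ⧸ S.subgroupOf (normalizer (S : Set G)) ≃* DihedralGroup 4)
    (hcent : ∀ x ∈ S, x ≠ 1 → centralizer ({x} : Set G) ≤ normalizer (S : Set G)) :
    ∃ (φ : normalizer (S : Set G) →* DihedralGroup 4) (x x' R t₁ t₂ : G), Pre S φ ∧ Setup S x x' R t₁ ∧ Setup S (x * x') (x' * x⁻¹) R t₂ ∧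
      t₂ * x * t₂⁻¹ = x' ∧ t₂ * x' * t₂⁻¹ = x ∧
      (∀ h, φ ⟨R, h⟩ = r 1) ∧ (∀ h, φ ⟨t₁, h⟩ = sr 0) ∧ (∀ h, φ ⟨t₂, h⟩ = sr 3) := by
  obtain ⟨φ, hφ⟩ := exists_pre eN
  have hCle : centralizer (S : Set G) ≤ S := hC.le
  have hexp : ∀ a ∈ S, a ^ 3 = 1 := fun a ha => exp_three hφ hcard hCle ha
  have hcomm : ∀ a ∈ S, ∀ b ∈ S, a * b = b * a := by
    intro a ha b hb
    have h1 : b ∈ centralizer (S : Set G) := by rw [hC]; exact hb
    exact (mem_centralizer_iff.mp h1 a ha)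
  obtain ⟨Rn, hRn⟩ := hφ.surj (r 1)
  obtain ⟨Tn, hTn⟩ := hφ.surj (sr 0)
  set R : G := (Rn : G) with hRdef
  set T : G := (Tn : G) with hTdef
  have hRN : R ∈ normalizer (S : Set G) := Rn.2
  have hTN : T ∈ normalizer (S : Set G) := Tn.2
  have hRS : ∀ s ∈ S, R * s * R⁻¹ ∈ S := fun s hs => conj_mem_of_normalizer hRN hs
  have hTS : ∀ s ∈ S, T * s * T⁻¹ ∈ S := fun s hs => conj_mem_of_normalizer hTN hs
  -- elements of the kernel
  have hker : ∀ n : normalizer (S : Set G), φ n = 1 → (n : G) ∈ S := fun n h => (hφ.ker n).mp h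
  have hnker : ∀ n : normalizer (S : Set G), φ n ≠ 1 → (n : G) ∉ S := fun n h h2 => h ((hφ.ker n).mpr h2)
  have htriv : ∀ m ∈ S, ∀ s ∈ S, m * s * m⁻¹ = s := by
    intro m hm s hs
    rw [hcomm m hm s hs]; group
  have hR4 : R * R * R * R ∈ S := hker (Rn * Rn * Rn * Rn) (by
    simp only [map_mul, hRn]; decide)
  have hnR2 : R * R ∉ S := hnker (Rn * Rn) (by
    simp only [map_mul, hRn]; decide)
  have hT2 : T * T ∈ S := hker (Tn * Tn) (by
    simp only [map_mul, hTn]; decide)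
  have hE : T * R * T⁻¹ * R ∈ S := hker (Tn * Rn * Tn⁻¹ * Rn) (by
    simp only [map_mul, map_inv, hTn, hRn]; decide)
  have hnTR : T * (R * R)⁻¹ ∉ S := hnker (Tn * (Rn * Rn)⁻¹) (by
    simp only [map_mul, map_inv, hTn, hRn]; decide)
  have hQ2 : (R * T) * (R * T) ∈ S := hker ((Rn * Tn) * (Rn * Tn)) (by
    simp only [map_mul, hTn, hRn]; decide)
  -- the map `ι`
  set ι : G → G := fun s => R * R * s * (R * R)⁻¹ with hι
  have hιapp : ∀ s, ι s = R * (R * s * R⁻¹) * R⁻¹ := fun s => by simp only [hι]; group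
  have hιmul : ∀ a b, ι (a * b) = ι a * ι b := fun a b => conj_mul' _ _ _
  have hιinv : ∀ a, ι a⁻¹ = (ι a)⁻¹ := fun a => conj_inv' _ _
  have hιS : ∀ s ∈ S, ι s ∈ S := by
    intro s hs
    rw [hιapp]
    exact hRS _ (hRS s hs)
  have hιι : ∀ s ∈ S, ι (ι s) = s := by
    intro s hs
    have h1 : ι (ι s) = (R * R * R * R) * s * (R * R * R * R)⁻¹ := by
      simp only [hι]; group
    rw [h1]
    exact htriv _ hR4 s hs
  have hinv : ∀ w ∈ S, ι w = w⁻¹ := by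
    by_contra hcon
    push Not at hcon
    obtain ⟨w, hw, hwne⟩ := hcon
    set w₀ := w * ι w with hw₀
    have hw₀S : w₀ ∈ S := S.mul_mem hw (hιS w hw)
    have hw₀1 : w₀ ≠ 1 := fun h => hwne ((eq_inv_of_mul_eq_one_right h))
    have hιw₀ : ι w₀ = w₀ := by
      rw [hw₀, hιmul, hιι w hw]
      exact hcomm _ (hιS w hw) _ hw
    have hv : ∃ v ∈ S, ι v ≠ v := by
      by_contra hv
      push Not at hv
      apply hnR2
      apply hCle
      rw [mem_centralizer_iff]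
      intro s hs
      have := hv s hs
      simp only [hι] at this
      calc s * (R * R) = R * R * s * (R * R)⁻¹ * (R * R) := by rw [this]
        _ = R * R * s := by group
    obtain ⟨v, hvS, hvne⟩ := hv
    set u₀ := v * (ι v)⁻¹ with hu₀
    have hu₀S : u₀ ∈ S := S.mul_mem hvS (S.inv_mem (hιS v hvS))
    have hu₀1 : u₀ ≠ 1 := fun h => hvne (mul_inv_eq_one.mp h).symm
    have hιu₀ : ι u₀ = u₀⁻¹ := by
      rw [hu₀, hιmul, hιinv, hιι v hvS, mul_inv_rev, inv_inv]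
    have hu₀ne : u₀ ≠ u₀⁻¹ := ne_inv_of_cube (hexp _ hu₀S) hu₀1
    set s := R * u₀ * R⁻¹ with hs
    have hsS : s ∈ S := hRS _ hu₀S
    have hs1 : s ≠ 1 := by
      intro h
      apply hu₀1
      have : u₀ = R⁻¹ * (R * u₀ * R⁻¹) * R := by group
      rw [this, ← hs, h]; group
    have hιs : ι s = s⁻¹ := by
      have h1 : ι s = R * ι u₀ * R⁻¹ := by
        simp only [hι, hs]; group
      rw [h1, hιu₀, conj_inv']
    have hιu₀' : ι u₀ = R * s * R⁻¹ := by rw [hιapp]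
    by_cases hs2 : s = u₀
    · apply hu₀ne
      rw [← hιu₀, hιu₀', hs2, ← hs, hs2]
    by_cases hs3 : s = u₀⁻¹
    · apply hu₀ne
      have h1 : ι u₀ = u₀ := by
        rw [hιu₀', hs3, conj_inv', ← hs, hs3, inv_inv]
      rw [← hιu₀, h1]
    · obtain ⟨h, k, hh, hk, hhk⟩ := basis hcomm hexp hcard hu₀S hsS hu₀1 hs1 hs2 hs3 hw₀S
      have hιh : ι h = h⁻¹ ∧ h ∈ S := by
        rcases hh with rfl | rfl | rfl
        · simp only [hι]; simp [S.one_mem]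
        · exact ⟨hιu₀, hu₀S⟩
        · exact ⟨by rw [hιinv, hιu₀], S.inv_mem hu₀S⟩
      have hιk : ι k = k⁻¹ ∧ k ∈ S := by
        rcases hk with rfl | rfl | rfl
        · simp only [hι]; simp [S.one_mem]
        · exact ⟨hιs, hsS⟩
        · exact ⟨by rw [hιinv, hιs], S.inv_mem hsS⟩
      have h1 : ι w₀ = w₀⁻¹ := by
        rw [hhk, hιmul, hιh.1, hιk.1, mul_inv_rev]
        rw [hcomm _ (S.inv_mem hιh.2) _ (S.inv_mem hιk.2)]
      rw [hιw₀] at h1
      exact ne_inv_of_cube (hexp _ hw₀S) hw₀1 h1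
  have hRi : ∀ s ∈ S, R * (R * s * R⁻¹) * R⁻¹ = s⁻¹ := fun s hs => by rw [← hιapp]; exact hinv s hs
  -- the vector `x`
  have hTT : ∀ s ∈ S, T * (T * s * T⁻¹) * T⁻¹ = s := by
    intro s hs
    have h1 : T * (T * s * T⁻¹) * T⁻¹ = (T * T) * s * (T * T)⁻¹ := by group
    rw [h1]
    exact htriv _ hT2 s hs
  have hexs : ∃ s ∈ S, T * s * T⁻¹ ≠ s⁻¹ := by
    by_contra hcon
    push Not at hcon
    apply hnTR
    apply hCle
    rw [mem_centralizer_iff]
    intro s hs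
    have h1 : (R * R)⁻¹ * s * (R * R) = s⁻¹ := by
      have h2 := hinv s⁻¹ (S.inv_mem hs)
      simp only [hι, inv_inv] at h2
      calc (R * R)⁻¹ * s * (R * R) = (R * R)⁻¹ * (R * R * s⁻¹ * (R * R)⁻¹) * (R * R) := by rw [h2]
        _ = s⁻¹ := by group
    have h3 : T * (R * R)⁻¹ * s * (T * (R * R)⁻¹)⁻¹ = s := by
      calc T * (R * R)⁻¹ * s * (T * (R * R)⁻¹)⁻¹ = T * ((R * R)⁻¹ * s * (R * R)) * T⁻¹ := by
            simp only [mul_inv_rev, inv_inv, mul_assoc]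
        _ = s := by rw [h1, conj_inv', hcon s hs, inv_inv]
    calc s * (T * (R * R)⁻¹) = T * (R * R)⁻¹ * s * (T * (R * R)⁻¹)⁻¹ * (T * (R * R)⁻¹) := by rw [h3]
      _ = _ := by group
  obtain ⟨s₀, hs₀, hs₀ne⟩ := hexs
  set x := s₀ * (T * s₀ * T⁻¹) with hx
  have hxS : x ∈ S := S.mul_mem hs₀ (hTS s₀ hs₀)
  have hx1 : x ≠ 1 := fun h => hs₀ne (eq_inv_of_mul_eq_one_right h)
  have hTx : T * x * T⁻¹ = x := by
    rw [hx, conj_mul', hTT s₀ hs₀]
    exact hcomm _ (hTS s₀ hs₀) _ hs₀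
  have hxne := ne_inv_of_cube (hexp x hxS) hx1
  set x' := R * x * R⁻¹ with hx'
  have hx'S : x' ∈ S := hRS x hxS
  have hRx' : R * x' * R⁻¹ = x⁻¹ := hRi x hxS
  have hx'1 : x' ≠ 1 := by
    intro h
    apply hx1
    have : x = R⁻¹ * (R * x * R⁻¹) * R := by group
    rw [this, ← hx', h]; group
  have hx'x : x' ≠ x := by
    intro h
    apply hxne
    rw [← hRx', h, ← hx', h]
  have hx'xi : x' ≠ x⁻¹ := by
    intro h
    apply hxne
    have h1 := hRx'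
    rw [h, conj_inv', ← hx', h, inv_inv] at h1
    exact h1
  -- the action of `T` on `x'`
  have hTx' : T * x' * T⁻¹ = x'⁻¹ := by
    have h1 : R⁻¹ * x * R = x'⁻¹ := by
      have h2 : R * x'⁻¹ * R⁻¹ = x := by rw [conj_inv', hRx', inv_inv]
      calc R⁻¹ * x * R = R⁻¹ * (R * x'⁻¹ * R⁻¹) * R := by rw [h2]
        _ = x'⁻¹ := by group
    have h3 : T * x' * T⁻¹ = (T * R * T⁻¹ * R) * ((R⁻¹ * (T * x * T⁻¹) * R)) * (T * R * T⁻¹ * R)⁻¹ := by
      rw [hx']; group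
    rw [h3, hTx, h1]
    exact htriv _ hE _ (S.inv_mem hx'S)
  -- the two involutions
  have hT2' : T ^ 2 ∈ S := by rw [pow_two]; exact hT2
  have hQ2' : (R * T) ^ 2 ∈ S := by rw [pow_two]; exact hQ2
  have hQN : R * T ∈ normalizer (S : Set G) := mul_mem hRN hTN
  have hQx : (R * T) * x * (R * T)⁻¹ = x' := by
    calc (R * T) * x * (R * T)⁻¹ = R * (T * x * T⁻¹) * R⁻¹ := by group
      _ = x' := by rw [hTx]
  have hQx' : (R * T) * x' * (R * T)⁻¹ = x := by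
    calc (R * T) * x' * (R * T)⁻¹ = R * (T * x' * T⁻¹) * R⁻¹ := by group
      _ = x := by rw [hTx', conj_inv', hRx', inv_inv]
  have hsyl : ∃ P : Sylow 3 G, S = P := ⟨P, hSP⟩
  have hcentS : ∀ s ∈ S, s ≠ 1 → centralizer ({s} : Set G) ≤ normalizer (S : Set G) := hcent
  -- the action
  have hact : ∀ n ∈ normalizer (S : Set G), Act x x' (n * x * n⁻¹) (n * x' * n⁻¹) := by
    intro n hn
    have hword : ∀ w : normalizer (S : Set G), φ ⟨n, hn⟩ = φ w → n * (w : G)⁻¹ ∈ S := by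
      intro w hw
      have h1 := hker (⟨n, hn⟩ * w⁻¹) (by rw [map_mul, map_inv, hw, mul_inv_cancel])
      exact h1
    have hconj : ∀ w : normalizer (S : Set G), φ ⟨n, hn⟩ = φ w →
        n * x * n⁻¹ = (w : G) * x * (w : G)⁻¹ ∧ n * x' * n⁻¹ = (w : G) * x' * (w : G)⁻¹ := by
      intro w hw
      exact ⟨conj_eq_of_mul_inv_mem hcomm (hword w hw) (conj_mem_of_normalizer w.2 hxS),
        conj_eq_of_mul_inv_mem hcomm (hword w hw) (conj_mem_of_normalizer w.2 hx'S)⟩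
    have hcases : φ ⟨n, hn⟩ = φ 1 ∨ φ ⟨n, hn⟩ = φ Rn ∨ φ ⟨n, hn⟩ = φ (Rn * Rn) ∨ φ ⟨n, hn⟩ = φ (Rn * Rn * Rn) ∨
        φ ⟨n, hn⟩ = φ Tn ∨ φ ⟨n, hn⟩ = φ (Tn * Rn) ∨ φ ⟨n, hn⟩ = φ (Tn * (Rn * Rn)) ∨
        φ ⟨n, hn⟩ = φ (Tn * (Rn * Rn * Rn)) := by
      simp only [map_mul, map_one, hRn, hTn]
      generalize φ ⟨n, hn⟩ = d
      revert d
      decide
    have hc1 : ∀ a b u : G, (a * b) * u * (a * b)⁻¹ = a * (b * u * b⁻¹) * a⁻¹ := fun a b u => by group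
    rcases hcases with h | h | h | h | h | h | h | h <;> obtain ⟨e1, e2⟩ := hconj _ h <;> rw [e1, e2] <;>
      simp only [Subgroup.coe_mul, Subgroup.coe_one, hc1, ← hRdef, ← hTdef, ← hx', hRx', conj_inv', hTx, hTx', inv_inv, Act] <;> simp
  have hconjR : R ∈ normalizer (S : Set G) := hRN
  have H1 : Setup S x x' R (T ^ 3) := by
    refine ⟨hcomm, hexp, hcard, hCle, hcent, hsyl, hxS, hx'S, hx1, hx'1, hx'x, hx'xi, hRN, rfl, hRx',
      pow_mem hTN 3, cube_sq hexp hT2', ?_, ?_, hact⟩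
    · rw [conj_cube hcomm hT2' hxS, hTx]
    · rw [conj_cube hcomm hT2' hx'S, hTx']
  refine ⟨φ, x, x', R, T ^ 3, (R * T) ^ 3, hφ, H1, ?_, ?_, ?_, ?_, ?_, ?_⟩
  · exact second H1 (pow_mem hQN 3) (cube_sq hexp hQ2') (by rw [conj_cube hcomm hQ2' hxS, hQx])
      (by rw [conj_cube hcomm hQ2' hx'S, hQx'])
  · rw [conj_cube hcomm hQ2' hxS, hQx]
  · rw [conj_cube hcomm hQ2' hx'S, hQx']
  · intro h
    exact hRn
  · intro h
    have h1 : (⟨T ^ 3, h⟩ : normalizer (S : Set G)) = Tn ^ 3 := Subtype.ext (by simp [hTdef])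
    rw [h1, map_pow, hTn]
    decide
  · intro h
    have h1 : (⟨(R * T) ^ 3, h⟩ : normalizer (S : Set G)) = (Rn * Tn) ^ 3 := Subtype.ext (by simp [hTdef, hRdef])
    rw [h1, map_pow, map_mul, hRn, hTn]
    decide

end Cfsg.Agent.Lib.S6RecLoc3
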