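import Mathlib
import Cfsg.Agent.Lib.S6RecEnd2
import Cfsg.Agent.Lib.S6RecLoc3

set_option autoImplicit false
set_option linter.unusedVariables false
set_option linter.unusedSectionVars false
set_option linter.style.haveILetI false

namespace Cfsg.Agent.Lib.S6RecEnd3

open Subgroup Cfsg Cfsg.Agent.Lib.CharBasic Cfsg.Agent.Lib.CharInd Cfsg.Agent.Lib.S6RecLoc
  Cfsg.Agent.Lib.CharKernel Cfsg.Agent.Lib.S6RecEnd Cfsg.Agent.Lib.S6RecEnd2
open scoped Classical Pointwise

variable {G : Type*} [Group G] {S : Subgroup G} {x x' R t t₁ t₂ : G}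

/-- An involution with six moved points is odd. -/
theorem sign_of_involution {α : Type*} [Fintype α] [DecidableEq α] (σ : Equiv.Perm α) (h2 : σ ^ 2 = 1)
    (hs : σ.support.card = 6) : Equiv.Perm.sign σ = -1 := by
  have hct : ∀ n ∈ σ.cycleType, n = 2 := by
    intro n hn
    have h3 := Equiv.Perm.dvd_of_mem_cycleType hn
    have h4 : orderOf σ ∣ 2 := orderOf_dvd_of_pow_eq_one h2
    have h5 := Nat.le_of_dvd (by norm_num) (h3.trans h4)
    have h6 := Equiv.Perm.two_le_of_mem_cycleType hn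
    omega
  have hrep : σ.cycleType = Multiset.replicate (Multiset.card σ.cycleType) 2 :=
    Multiset.eq_replicate.mpr ⟨rfl, hct⟩
  have hc : Multiset.card σ.cycleType = 3 := by
    have hsum := Equiv.Perm.sum_cycleType σ
    rw [hs] at hsum
    have h7 : σ.cycleType.sum = Multiset.card σ.cycleType * 2 := by
      conv_lhs => rw [hrep]
      rw [Multiset.sum_replicate, smul_eq_mul]
    omega
  have h8 : σ.cycleType.sum = 6 := by rw [Equiv.Perm.sum_cycleType, hs]
  rw [Equiv.Perm.sign_of_cycleType, h8, hc]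
  rfl

/-- Non-identity elements of `S` normalize only one Sylow subgroup. -/
theorem fix_unique [Finite G] (H : Setup S x x' R t) {P Q : Sylow 3 G} (hP : S = P) {g : G} (hg : g ∈ S) (hg1 : g ≠ 1)
    (hQ : g • Q = Q) : Q = P := by
  haveI : Fact (Nat.Prime 3) := ⟨Nat.prime_three⟩
  have hgN : g ∈ normalizer ((Q : Subgroup G) : Set G) := (Sylow.smul_eq_iff_mem_normalizer).mp hQ
  have hgP : g ∈ (P : Subgroup G) := hP ▸ hg
  have hgQ : g ∈ (P : Subgroup G) ⊓ (Q : Subgroup G) := by
    rw [← IsPGroup.inf_normalizer_sylow P.isPGroup' Q]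
    exact ⟨hgP, hgN⟩
  have hle : (Q : Subgroup G) ≤ (P : Subgroup G) := by
    intro a ha
    have h1 : a * g = g * a := H.sylow_comm Q ha hgQ.2
    have h2 : a ∈ normalizer (S : Set G) := by
      apply H.cent g hg hg1
      rw [mem_centralizer_singleton_iff]
      exact h1
    obtain ⟨k, hk⟩ := (IsPGroup.iff_orderOf.mp Q.isPGroup') ⟨a, ha⟩
    have h3 : a ^ 3 ^ k = 1 := by
      have h5 : (⟨a, ha⟩ : (Q : Subgroup G)) ^ 3 ^ k = 1 := by
        rw [← hk]; exact pow_orderOf_eq_one _
      simpa using congrArg Subtype.val h5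
    have := H.mem_of_three_element h2 h3
    rw [hP] at this
    exact this
  exact (Sylow.ext (Q.is_maximal' P.isPGroup' hle)).symm

/-- The involution `t` acts as an odd permutation on the ten Sylow subgroups. -/
theorem sign_t [Finite G] [Fintype (Sylow 3 G)] (H : Setup S x x' R t) (h10 : Nat.card (Sylow 3 G) = 10) :
    Equiv.Perm.sign (MulAction.toPermHom G (Sylow 3 G) t) = -1 := by
  haveI : Fact (Nat.Prime 3) := ⟨Nat.prime_three⟩
  obtain ⟨P, hP⟩ := H.syl
  set σ := MulAction.toPermHom G (Sylow 3 G) t with hσ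
  have hσapp : ∀ Q, σ Q = t • Q := fun Q => rfl
  have hσ2 : σ ^ 2 = 1 := by
    rw [hσ, ← map_pow, H.t2, map_one]
  have hcardΩ : Fintype.card (Sylow 3 G) = 10 := by rw [← Nat.card_eq_fintype_card]; exact h10
  have hmemN : ∀ {g : G}, g ∈ normalizer (S : Set G) → g • P = P := by
    intro g hg
    apply (Sylow.smul_eq_iff_mem_normalizer).mpr
    have h : g ∈ normalizer (((P : Subgroup G)) : Set G) := hP ▸ hg
    exact h
  have hPfix : t • P = P := hmemN H.ht
  set Fx := Finset.univ.filter fun Q : Sylow 3 G => t • Q = Q with hFx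
  have hsuppFx : σ.support.card + Fx.card = 10 := by
    have h1 : σ.support = Finset.univ.filter fun Q : Sylow 3 G => ¬ t • Q = Q := by
      ext Q
      simp [Equiv.Perm.mem_support, hσapp]
    rw [h1, add_comm, hFx, Finset.card_filter_add_card_filter_not, Finset.card_univ, hcardΩ]
  have hPFx : P ∈ Fx := by simp [hFx, hPfix]
  have h2dvd := Equiv.Perm.two_dvd_card_support hσ2
  have hex : ∃ Q₀, t • Q₀ = Q₀ ∧ Q₀ ≠ P := by
    have h1 : 1 < Fx.card := by
      have h3 : 0 < Fx.card := Finset.card_pos.mpr ⟨P, hPFx⟩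
      omega
    obtain ⟨a, ha, b, hb, hab⟩ := Finset.one_lt_card.mp h1
    by_cases haP : a = P
    · refine ⟨b, (Finset.mem_filter.mp hb).2, ?_⟩
      rw [← haP]; exact hab.symm
    · exact ⟨a, (Finset.mem_filter.mp ha).2, haP⟩
  obtain ⟨Q₀, hQ₀, hQ₀P⟩ := hex
  have hinj : ∀ s₁ ∈ S, ∀ s₂ ∈ S, s₁ • Q₀ = s₂ • Q₀ → s₁ = s₂ := by
    intro s₁ h₁ s₂ h₂ he
    by_contra hne
    have h1 : s₂⁻¹ * s₁ ≠ 1 := by
      intro h
      apply hne
      exact (inv_mul_eq_one.mp h).symm
    have h2 : (s₂⁻¹ * s₁) • Q₀ = Q₀ := by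
      rw [mul_smul, he, ← mul_smul]
      simp
    exact hQ₀P (fix_unique H hP (S.mul_mem (S.inv_mem h₂) h₁) h1 h2)
  have hneP : ∀ s ∈ S, s • Q₀ ≠ P := by
    intro s hs he
    apply hQ₀P
    have h1 : s⁻¹ • (s • Q₀) = s⁻¹ • P := by rw [he]
    rw [← mul_smul, inv_mul_cancel, one_smul, hmemN (le_normalizer (S.inv_mem hs))] at h1
    exact h1
  -- the image of `S`
  letI : Fintype G := Fintype.ofFinite G
  set SF := Finset.univ.filter fun s : G => s ∈ S with hSF
  have hSFc : SF.card = 9 := by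
    have := H.card
    rw [Nat.card_eq_fintype_card, Fintype.card_subtype] at this
    exact this
  have himg : SF.image (fun s => s • Q₀) = Finset.univ.erase P := by
    apply Finset.eq_of_subset_of_card_le
    · intro Q hQ
      obtain ⟨s, hs, rfl⟩ := Finset.mem_image.mp hQ
      exact Finset.mem_erase.mpr ⟨hneP s (Finset.mem_filter.mp hs).2, Finset.mem_univ _⟩
    · rw [Finset.card_erase_of_mem (Finset.mem_univ _), Finset.card_univ, hcardΩ,
        Finset.card_image_of_injOn, hSFc]
      intro a ha b hb hab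
      exact hinj a (Finset.mem_filter.mp ha).2 b (Finset.mem_filter.mp hb).2 hab
  have hcover : ∀ Q : Sylow 3 G, Q ≠ P → ∃ s ∈ S, s • Q₀ = Q := by
    intro Q hQ
    have h1 : Q ∈ SF.image (fun s => s • Q₀) := by
      rw [himg]; exact Finset.mem_erase.mpr ⟨hQ, Finset.mem_univ _⟩
    obtain ⟨s, hs, rfl⟩ := Finset.mem_image.mp h1
    exact ⟨s, (Finset.mem_filter.mp hs).2, rfl⟩
  have htact : ∀ s : G, t • (s • Q₀) = (t * s * t⁻¹) • Q₀ := by
    intro s
    calc t • (s • Q₀) = (t * s) • Q₀ := by rw [mul_smul]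
      _ = (t * s * t⁻¹) • (t • Q₀) := by rw [← mul_smul]; group
      _ = (t * s * t⁻¹) • Q₀ := by rw [hQ₀]
  have hFxeq : Fx = {P, Q₀, x • Q₀, x⁻¹ • Q₀} := by
    ext Q
    simp only [hFx, Finset.mem_filter, Finset.mem_univ, true_and, Finset.mem_insert, Finset.mem_singleton]
    constructor
    · intro hQ
      by_cases hQP : Q = P
      · exact Or.inl hQP
      · obtain ⟨s, hs, rfl⟩ := hcover Q hQP
        rw [htact] at hQ
        have h1 := hinj _ (conj_mem_of_normalizer H.ht hs) s hs hQ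
        rcases H.fixed_by_t hs h1 with h2 | h2 | h2
        · right; left; rw [h2]; simp
        · right; right; left; rw [h2]
        · right; right; right; rw [h2]
    · rintro (rfl | rfl | rfl | rfl)
      · exact hPfix
      · exact hQ₀
      · rw [htact, H.tx]
      · rw [htact, conj_inv', H.tx]
  have hFxc : Fx.card = 4 := by
    have hxS := H.hx
    have h1 : x • Q₀ ≠ x⁻¹ • Q₀ := fun h => H.x_ne_inv (hinj _ hxS _ (S.inv_mem hxS) h)
    have h2 : Q₀ ≠ x • Q₀ := by
      intro h
      have : (1 : G) • Q₀ = x • Q₀ := by rw [one_smul]; exact h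
      exact H.x1 (hinj _ S.one_mem _ hxS this).symm
    have h3 : Q₀ ≠ x⁻¹ • Q₀ := by
      intro h
      have : (1 : G) • Q₀ = x⁻¹ • Q₀ := by rw [one_smul]; exact h
      exact H.x1 (inv_eq_one.mp (hinj _ S.one_mem _ (S.inv_mem hxS) this).symm)
    rw [hFxeq, Finset.card_insert_of_notMem, Finset.card_insert_of_notMem, Finset.card_pair h1]
    · simp only [Finset.mem_insert, Finset.mem_singleton, not_or]
      exact ⟨h2, h3⟩
    · simp only [Finset.mem_insert, Finset.mem_singleton, not_or]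
      exact ⟨hQ₀P.symm, (hneP x hxS).symm, (hneP _ (S.inv_mem hxS)).symm⟩
  apply sign_of_involution σ hσ2
  omega

/-- The sign homomorphism. -/
noncomputable def sgn (G : Type*) [Group G] [Finite (Sylow 3 G)] : G →* ℤˣ :=
  letI : Fintype (Sylow 3 G) := Fintype.ofFinite _
  (Equiv.Perm.sign).comp (MulAction.toPermHom G (Sylow 3 G))

theorem sgn_t [Finite G] (H : Setup S x x' R t) (h10 : Nat.card (Sylow 3 G) = 10) : sgn G t = -1 := by
  letI : Fintype (Sylow 3 G) := Fintype.ofFinite _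
  exact sign_t H h10

theorem sgn_of_cube [Finite G] {a : G} (h : a ^ 3 = 1) : sgn G a = 1 := by
  have h1 : sgn G a ^ 3 = 1 := by rw [← map_pow, h, map_one]
  rcases Int.units_eq_one_or (sgn G a) with h2 | h2
  · exact h2
  · rw [h2] at h1
    exact absurd h1 (by decide)

end Cfsg.Agent.Lib.S6RecEnd3
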