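import Mathlib
import Cfsg.Agent.Lib.S6RecEnd3
import Cfsg.Agent.Lib.S6RecLoc3
import Cfsg.Agent.Lib.S6RecChar2

set_option autoImplicit false
set_option linter.unusedVariables false
set_option linter.unusedSectionVars false
set_option linter.style.haveILetI false

namespace Cfsg.Agent.Lib.S6RecDich

open Subgroup Cfsg Cfsg.Agent.Lib.CharBasic Cfsg.Agent.Lib.S6RecLoc Cfsg.Agent.Lib.S6RecLoc3
  Cfsg.Agent.Lib.S6RecChar2 Cfsg.Agent.Lib.S6RecEnd2 Cfsg.Agent.Lib.S6RecEnd3 DihedralGroup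

variable {G : Type*} [Group G] {S : Subgroup G}

theorem card_normalizer (hcard : Nat.card S = 9)
    (eN : normalizer (S : Set G) ⧸ S.subgroupOf (normalizer (S : Set G)) ≃* DihedralGroup 4) :
    Nat.card (normalizer (S : Set G)) = 72 := by
  have h8 : Nat.card (normalizer (S : Set G) ⧸ S.subgroupOf (normalizer (S : Set G))) = 8 := by
    rw [Nat.card_congr eN.toEquiv, DihedralGroup.nat_card]
  have h := (S.subgroupOf (normalizer (S : Set G))).card_eq_card_quotient_mul_card_subgroup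
  have h9 : Nat.card (S.subgroupOf (normalizer (S : Set G))) = 9 := by
    rw [Nat.card_congr (Subgroup.subgroupOfEquivOfLe le_normalizer).toEquiv]; exact hcard
  rw [h, h8, h9]

/-- A homomorphism to `ℤˣ`, viewed as an irreducible character. -/
noncomputable def linChar [Finite G] (Λ : G →* ℤˣ) : IrrCharacter G :=
  ⟨fun g => (((Units.map (Int.castRingHom ℂ).toMonoidHom).comp Λ g : ℂˣ) : ℂ),
    isIrrCharacter_of_hom ((Units.map (Int.castRingHom ℂ).toMonoidHom).comp Λ)⟩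

theorem linChar_apply [Finite G] (Λ : G →* ℤˣ) (g : G) :
    ((linChar Λ : IrrCharacter G) : G → ℂ) g = ((Λ g : ℤ) : ℂ) := by
  simp [linChar]

theorem dichotomy [Finite G] (P : Sylow 3 G) (S : Subgroup G) (hSP : S = P) (hcard : Nat.card S = 9)
    (hC : centralizer (S : Set G) = S)
    (eN : normalizer (S : Set G) ⧸ S.subgroupOf (normalizer (S : Set G)) ≃* DihedralGroup 4)
    (hcent : ∀ x ∈ S, x ≠ 1 → centralizer ({x} : Set G) ≤ normalizer (S : Set G)) :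
    S.Normal ∨ ∃ (φ : normalizer (S : Set G) →* DihedralGroup 4) (x x' R t₁ t₂ : G), Pre S φ ∧
      Setup S x x' R t₁ ∧ Setup S (x * x') (x' * x⁻¹) R t₂ ∧
      t₂ * x * t₂⁻¹ = x' ∧ t₂ * x' * t₂⁻¹ = x ∧
      (∀ h, φ ⟨R, h⟩ = r 1) ∧ (∀ h, φ ⟨t₁, h⟩ = sr 0) ∧ (∀ h, φ ⟨t₂, h⟩ = sr 3) ∧
      Nat.card (Sylow 3 G) = 10 ∧ Nat.card G = 720 ∧
      ¬ ∃ Λ : G →* ℤˣ, Λ t₁ = -1 ∧ Λ t₂ = 1 ∧ ∀ s ∈ S, Λ s = 1 := by
  letI : Fintype G := Fintype.ofFinite G
  haveI : Fact (Nat.Prime 3) := ⟨Nat.prime_three⟩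
  obtain ⟨φ, x, x', R, t₁, t₂, hφ, H₁, H₂, h21, h22, hφR, hφ1, hφ2⟩ := exists_setups P S hSP hcard hC eN hcent
  have h72 := card_normalizer hcard eN
  obtain ⟨D, X, Y, U, V, hD, hX, hY, hU, hV, hG, hcases⟩ := main_cases H₁ H₂ h72
  rcases hcases with h1 | ⟨h10, hno⟩ | ⟨h280, i, hDi, hXi, hYi, hu⟩
  · left
    have h2 := Sylow.card_eq_index_normalizer P
    rw [h1] at h2
    have h3 := Subgroup.index_eq_one.mp h2.symm
    rw [hSP]
    exact Subgroup.normalizer_eq_top_iff.mp h3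
  · right
    refine ⟨φ, x, x', R, t₁, t₂, hφ, H₁, H₂, h21, h22, hφR, hφ1, hφ2, h10, ?_, ?_⟩
    · rw [hG, h10]
    · rintro ⟨Λ, hΛ1, hΛ2, hΛS⟩
      apply hno (linChar Λ)
      have key : ∀ g, ∀ z : ℤ, (((linChar Λ : IrrCharacter G) : G → ℂ) g = (z : ℂ)) → ((Λ g : ℤ) = z) := by
        intro g z hz
        rw [linChar_apply] at hz
        exact_mod_cast hz
      have hS1 : ∀ s ∈ S, ((Λ s : ℤ) : ℤ) = 1 := by
        intro s hs
        rw [hΛS s hs]; rfl
      refine ⟨?_, ?_, ?_, ?_, ?_⟩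
      · have := key 1 _ (hD (linChar Λ))
        rw [← this, map_one]; rfl
      · have := key x _ (hX (linChar Λ))
        rw [← this]; exact hS1 x H₁.hx
      · have := key (x * x') _ (hY (linChar Λ))
        rw [← this]; exact hS1 _ (S.mul_mem H₁.hx H₁.hx')
      · have := key (x * t₁) _ (hU (linChar Λ))
        rw [← this, map_mul, hΛ1, hΛS x H₁.hx]; rfl
      · have := key (x * x' * t₂) _ (hV (linChar Λ))
        rw [← this, map_mul, hΛ2, hΛS _ (S.mul_mem H₁.hx H₁.hx')]; rfl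
  · exfalso
    refine no_deg5 H₁ H₂ hD hX hY hU hV hDi hXi hu ?_ ?_
    · rw [hG]
      rcases h280 with h | h <;> rw [h] <;> norm_num
    · rw [hG]
      rcases h280 with h | h <;> rw [h] <;> norm_num

end Cfsg.Agent.Lib.S6RecDich
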