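import Mathlib
import Cfsg.Agent.Lib.S6RecDich

set_option autoImplicit false
set_option linter.unusedVariables false
set_option linter.unusedSectionVars false
set_option linter.style.haveILetI false

namespace Cfsg.Agent.Lib.S6RecConv

open Subgroup Cfsg.Agent.Lib.S6RecLoc

variable {G : Type*} [Group G]

theorem prime_not_dvd_normalizer [Finite G] (M : Subgroup G) (hM9 : Nat.card M = 9)
    (hCM : centralizer (M : Set G) = M) {q : ℕ} (hq : q.Prime) (hq2 : q ≠ 2) (hq3 : q ≠ 3) :
    ¬ q ∣ Nat.card (normalizer (M : Set G)) := by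
  classical
  intro hdvd
  haveI : Fact q.Prime := ⟨hq⟩
  letI : Fintype M := Fintype.ofFinite _
  obtain ⟨g', hg'⟩ := exists_prime_orderOf_dvd_card' q hdvd
  set g : G := (g' : G) with hg
  have hgN : g ∈ normalizer (M : Set G) := g'.2
  have hoq : g ^ q = 1 := by
    have h1 : g' ^ q = 1 := by rw [← hg']; exact pow_orderOf_eq_one g'
    simpa using congrArg Subtype.val h1
  -- the endomorphism
  let f : Function.End M := fun m => ⟨g * m * g⁻¹, conj_mem_of_normalizer hgN m.2⟩
  have hfk : ∀ (k : ℕ) (m : M), (((f ^ k) m : M) : G) = g ^ k * m * (g ^ k)⁻¹ := by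
    intro k
    induction k with
    | zero =>
      intro m
      rw [pow_zero]
      show (m : G) = _
      simp
    | succ n ih =>
      intro m
      rw [pow_succ]
      show (((f ^ n) (f m) : M) : G) = _
      rw [ih]
      simp only [f]
      group
  have hf : f ^ q ^ 1 = 1 := by
    rw [pow_one]
    funext m
    apply Subtype.ext
    show (((f ^ q) m : M) : G) = (m : G)
    rw [hfk, hoq]
    simp
  have hmod := Equiv.Perm.card_fixedPoints_modEq hf
  -- the fixed points
  let T : Subgroup M := (centralizer ({g} : Set G)).subgroupOf M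
  have hmemT : ∀ m : M, m ∈ T ↔ f m = m := by
    intro m
    simp only [T, mem_subgroupOf, mem_centralizer_singleton_iff, f]
    constructor
    · intro h
      apply Subtype.ext
      simp only
      rw [← h]; group
    · intro h
      have h1 : g * (m : G) * g⁻¹ = m := congrArg Subtype.val h
      calc (m : G) * g = g * (m : G) * g⁻¹ * g := by rw [h1]
        _ = g * m := by group
  have hTc : Fintype.card f.fixedPoints = Nat.card T := by
    rw [← Nat.card_eq_fintype_card]
    apply Nat.card_congr
    exact Equiv.subtypeEquivRight (fun m => (hmemT m).symm)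
  have hT9 : Nat.card T ∣ 9 := by
    rw [← hM9]; exact T.card_subgroup_dvd_card
  have hcardM : Fintype.card M = 9 := by rw [← Nat.card_eq_fintype_card, hM9]
  rw [hTc, hcardM] at hmod
  have hcases : Nat.card T = 1 ∨ Nat.card T = 3 ∨ Nat.card T = 9 := by
    have : Nat.card T ∈ Nat.divisors 9 := Nat.mem_divisors.mpr ⟨hT9, by norm_num⟩
    rw [show Nat.divisors 9 = {1, 3, 9} from by decide] at this
    simpa using this
  rcases hcases with h | h | h
  · rw [h] at hmod
    have h8 : q ∣ 8 := by
      have := (Nat.modEq_iff_dvd' (by norm_num : 1 ≤ 9)).mp hmod.symm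
      simpa using this
    have := (Nat.prime_dvd_prime_iff_eq hq Nat.prime_two).mp (hq.dvd_of_dvd_pow (show q ∣ 2 ^ 3 by simpa using h8))
    exact hq2 this
  · rw [h] at hmod
    have h6 : q ∣ 6 := by
      have := (Nat.modEq_iff_dvd' (by norm_num : 3 ≤ 9)).mp hmod.symm
      simpa using this
    rcases (Nat.Prime.dvd_mul hq).mp (show q ∣ 2 * 3 by simpa using h6) with h1 | h1
    · exact hq2 ((Nat.prime_dvd_prime_iff_eq hq Nat.prime_two).mp h1)
    · exact hq3 ((Nat.prime_dvd_prime_iff_eq hq Nat.prime_three).mp h1)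
  · -- trivial action
    have htop : T = ⊤ := by
      apply Subgroup.eq_top_of_card_eq
      rw [h, hM9]
    have hgM : g ∈ M := by
      rw [← hCM, mem_centralizer_iff]
      intro m hm
      have : (⟨m, hm⟩ : M) ∈ T := by rw [htop]; trivial
      have h1 := (hmemT _).mp this
      have h2 : g * m * g⁻¹ = m := congrArg Subtype.val h1
      calc m * g = g * m * g⁻¹ * g := by rw [h2]
        _ = g * m := by group
    have h9 : orderOf (⟨g, hgM⟩ : M) ∣ 9 := by rw [← hM9]; exact orderOf_dvd_natCard _
    have h10 : orderOf (⟨g, hgM⟩ : M) = q := by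
      rw [Subgroup.orderOf_mk]
      exact (Subgroup.orderOf_coe g').trans hg'
    rw [h10] at h9
    have := (Nat.prime_dvd_prime_iff_eq hq Nat.prime_three).mp (hq.dvd_of_dvd_pow (show q ∣ 3 ^ 2 by simpa using h9))
    exact hq3 this

theorem quotient_equiv [Finite G] (M : Sylow 3 G) (hM9 : Nat.card (M : Subgroup G) = 9)
    (hCM : centralizer ((M : Subgroup G) : Set G) = M)
    (hS : ∀ S : Sylow 2 (normalizer ((M : Subgroup G) : Set G)), Nonempty (S ≃* DihedralGroup 4)) :
    Nonempty (normalizer ((M : Subgroup G) : Set G) ⧸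
      (M : Subgroup G).subgroupOf (normalizer ((M : Subgroup G) : Set G)) ≃* DihedralGroup 4) := by
  haveI : Fact (Nat.Prime 3) := ⟨Nat.prime_three⟩
  haveI : Fact (Nat.Prime 2) := ⟨Nat.prime_two⟩
  set N := normalizer ((M : Subgroup G) : Set G) with hN
  obtain ⟨S₂⟩ : Nonempty (Sylow 2 N) := inferInstance
  obtain ⟨e⟩ := hS S₂
  have hS8 : Nat.card S₂ = 8 := by
    rw [Nat.card_congr e.toEquiv, DihedralGroup.nat_card]
  have hle : (M : Subgroup G) ≤ N := le_normalizer
  let M₃ : Sylow 3 N := M.subtype hle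
  have hM₃ : (M₃ : Subgroup N) = (M : Subgroup G).subgroupOf N := Sylow.coe_subtype _ _
  have hM₃c : Nat.card M₃ = 9 := by
    have : Nat.card ((M : Subgroup G).subgroupOf N) = 9 := by
      rw [Nat.card_congr (Subgroup.subgroupOfEquivOfLe hle).toEquiv]; exact hM9
    rw [← this, hM₃]
  have hi2 := (S₂ : Subgroup N).card_mul_index
  have hi3 := (M₃ : Subgroup N).card_mul_index
  have hn2 := S₂.not_dvd_index
  have hn3 := M₃.not_dvd_index
  have hN72 : Nat.card N = 72 := by
    have h8d : 8 ∣ Nat.card N := ⟨_, by rw [← hS8]; exact hi2.symm⟩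
    have h9d : 9 ∣ Nat.card N := ⟨_, by rw [← hM₃c]; exact hi3.symm⟩
    have h72 : 72 ∣ Nat.card N := by
      have : Nat.Coprime 8 9 := by norm_num
      exact this.mul_dvd_of_dvd_of_dvd h8d h9d
    obtain ⟨c, hc⟩ := h72
    by_contra hne
    have hc1 : c ≠ 1 := fun h => hne (by rw [hc, h])
    obtain ⟨q, hq, hqc⟩ := Nat.exists_prime_and_dvd hc1
    have hqN : q ∣ Nat.card N := by rw [hc]; exact hqc.trans (dvd_mul_left _ _)
    by_cases hq2 : q = 2
    · apply hn2
      have h1 : (S₂ : Subgroup N).index = 9 * c := by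
        rw [hS8, hc] at hi2
        omega
      rw [h1, ← hq2]
      exact hqc.trans (dvd_mul_left _ _)
    by_cases hq3 : q = 3
    · apply hn3
      have h1 : (M₃ : Subgroup N).index = 8 * c := by
        rw [hM₃c, hc] at hi3
        omega
      rw [h1, ← hq3]
      exact hqc.trans (dvd_mul_left _ _)
    exact prime_not_dvd_normalizer (M : Subgroup G) hM9 hCM hq hq2 hq3 hqN
  -- the isomorphism
  let π : S₂ →* N ⧸ (M : Subgroup G).subgroupOf N :=
    (QuotientGroup.mk' _).comp (S₂ : Subgroup N).subtype
  have hinj : Function.Injective π := by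
    rw [injective_iff_map_eq_one]
    intro s hs
    have h1 : (s : N) ∈ (M : Subgroup G).subgroupOf N := by
      have : ((s : N) : N ⧸ (M : Subgroup G).subgroupOf N) = 1 := hs
      exact (QuotientGroup.eq_one_iff _).mp this
    have h2 : orderOf s ∣ 8 := by rw [← hS8]; exact orderOf_dvd_natCard s
    have h3 : orderOf (⟨(s : N), h1⟩ : (M : Subgroup G).subgroupOf N) ∣ 9 := by
      have h4 : Nat.card ((M : Subgroup G).subgroupOf N) = 9 := by
        rw [Nat.card_congr (Subgroup.subgroupOfEquivOfLe hle).toEquiv]; exact hM9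
      rw [← h4]; exact orderOf_dvd_natCard _
    have h5 : orderOf (⟨(s : N), h1⟩ : (M : Subgroup G).subgroupOf N) = orderOf s := by
      rw [Subgroup.orderOf_mk, Subgroup.orderOf_coe]
    rw [h5] at h3
    have h6 : orderOf s ∣ Nat.gcd 8 9 := Nat.dvd_gcd h2 h3
    have h7 : orderOf s = 1 := by simpa using h6
    exact orderOf_eq_one_iff.mp h7
  have hcardQ : Nat.card (N ⧸ (M : Subgroup G).subgroupOf N) = 8 := by
    have h := ((M : Subgroup G).subgroupOf N).card_eq_card_quotient_mul_card_subgroup
    have h4 : Nat.card ((M : Subgroup G).subgroupOf N) = 9 := by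
      rw [Nat.card_congr (Subgroup.subgroupOfEquivOfLe hle).toEquiv]; exact hM9
    rw [hN72, h4] at h
    omega
  have hbij : Function.Bijective π := by
    refine (Nat.bijective_iff_injective_and_card π).mpr ⟨hinj, ?_⟩
    rw [hS8, hcardQ]
  exact ⟨(MulEquiv.ofBijective π hbij).symm.trans e⟩

end Cfsg.Agent.Lib.S6RecConv
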