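import Mathlib
import Cfsg.Agent.Lib.S6RecDich

set_option autoImplicit false
set_option linter.unusedVariables false
set_option linter.unusedSectionVars false
set_option linter.style.haveILetI false

namespace Cfsg.Agent.Lib.S6RecKer

open Subgroup Cfsg.Agent.Lib.S6RecLoc Cfsg.Agent.Lib.S6RecLoc3 Cfsg.Agent.Lib.S6RecEnd3
  Cfsg.Agent.Lib.S6RecEnd DihedralGroup

variable {G : Type*} [Group G] {S : Subgroup G}

/-- The data of the main branch. -/
structure Dat (S : Subgroup G) (φ : normalizer (S : Set G) →* DihedralGroup 4) (x x' R t₁ t₂ : G) : Prop where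
  hφ : Pre S φ
  H₁ : Setup S x x' R t₁
  H₂ : Setup S (x * x') (x' * x⁻¹) R t₂
  h21 : t₂ * x * t₂⁻¹ = x'
  h22 : t₂ * x' * t₂⁻¹ = x
  hφR : ∀ h, φ ⟨R, h⟩ = r 1
  hφ1 : ∀ h, φ ⟨t₁, h⟩ = sr 0
  hφ2 : ∀ h, φ ⟨t₂, h⟩ = sr 3
  h10 : Nat.card (Sylow 3 G) = 10
  h720 : Nat.card G = 720
  hno : ¬ ∃ Λ : G →* ℤˣ, Λ t₁ = -1 ∧ Λ t₂ = 1 ∧ ∀ s ∈ S, Λ s = 1

/-- The character with kernel the rotations. -/
def nu : DihedralGroup 4 →* ℤˣ :=
  MonoidHom.mk' (fun d => match d with
    | r _ => 1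
    | sr _ => -1) (by decide)

/-- The linear character sending `r 1` and `sr 0` to `-1`. -/
def psi0 : DihedralGroup 4 →* ℤˣ :=
  MonoidHom.mk' (fun d => match d with
    | r i => (-1) ^ i.val
    | sr i => -(-1) ^ i.val) (by decide)

theorem words' : ∀ d : DihedralGroup 4, ∃ i : Fin 4, ∃ j : Fin 2, d = (sr 0) ^ (j : ℕ) * (r 1) ^ (i : ℕ) := by decide

theorem words (d : DihedralGroup 4) : ∃ i j : ℕ, d = (sr 0) ^ j * (r 1) ^ i := by
  obtain ⟨i, j, h⟩ := words' d
  exact ⟨i, j, h⟩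

theorem rot_words' : ∀ d : DihedralGroup 4, nu d = 1 → ∃ i : Fin 4, d = (r 1) ^ (i : ℕ) := by decide

theorem rot_words (d : DihedralGroup 4) (h : nu d = 1) : ∃ i : ℕ, d = (r 1) ^ i := by
  obtain ⟨i, hi⟩ := rot_words' d h
  exact ⟨i, hi⟩

theorem rot_psi : ∀ d : DihedralGroup 4, nu d = 1 → psi0 d = 1 ∨ d = r 1 ∨ d = r 3 := by decide

variable {φ : normalizer (S : Set G) →* DihedralGroup 4} {x x' R t₁ t₂ : G}

theorem Dat.hom_eq (D : Dat S φ x x' R t₁ t₂) {A : Type*} [Group A] (α β : normalizer (S : Set G) →* A)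
    (hS : ∀ n : normalizer (S : Set G), (n : G) ∈ S → α n = β n)
    (hR : α ⟨R, D.H₁.hR⟩ = β ⟨R, D.H₁.hR⟩) (ht : α ⟨t₁, D.H₁.ht⟩ = β ⟨t₁, D.H₁.ht⟩)
    (n : normalizer (S : Set G)) : α n = β n := by
  obtain ⟨i, j, hd⟩ := words (φ n)
  set Rn : normalizer (S : Set G) := ⟨R, D.H₁.hR⟩ with hRn
  set Tn : normalizer (S : Set G) := ⟨t₁, D.H₁.ht⟩ with hTn
  have hφw : φ (Tn ^ j * Rn ^ i) = φ n := by
    rw [map_mul, map_pow, map_pow, D.hφR, D.hφ1, hd]
  have hmem : ((n * (Tn ^ j * Rn ^ i)⁻¹ : normalizer (S : Set G)) : G) ∈ S := by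
    apply (D.hφ.ker _).mp
    rw [map_mul, map_inv, hφw, mul_inv_cancel]
  have h1 := hS _ hmem
  have hw : α (Tn ^ j * Rn ^ i) = β (Tn ^ j * Rn ^ i) := by
    simp only [map_mul, map_pow, hR, ht]
  calc α n = α ((n * (Tn ^ j * Rn ^ i)⁻¹) * (Tn ^ j * Rn ^ i)) := by rw [inv_mul_cancel_right]
    _ = α (n * (Tn ^ j * Rn ^ i)⁻¹) * α (Tn ^ j * Rn ^ i) := map_mul _ _ _
    _ = β (n * (Tn ^ j * Rn ^ i)⁻¹) * β (Tn ^ j * Rn ^ i) := by rw [h1, hw]
    _ = β n := by rw [← map_mul, inv_mul_cancel_right]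

theorem Dat.sgn_R [Finite G] (D : Dat S φ x x' R t₁ t₂) : sgn G R = 1 := by
  have h1 := sgn_t D.H₁ D.h10
  have h2 := sgn_t D.H₂ D.h10
  set Rn : normalizer (S : Set G) := ⟨R, D.H₁.hR⟩ with hRn
  set T₁ : normalizer (S : Set G) := ⟨t₁, D.H₁.ht⟩ with hT₁
  set T₂ : normalizer (S : Set G) := ⟨t₂, D.H₂.ht⟩ with hT₂
  have hmem : (((T₂ * T₁)⁻¹ * Rn : normalizer (S : Set G)) : G) ∈ S := by
    apply (D.hφ.ker _).mp
    rw [map_mul, map_inv, map_mul, D.hφ1, D.hφ2, D.hφR]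
    decide
  have h3 := sgn_of_cube (D.H₁.exp _ hmem)
  have h4 : ((((T₂ * T₁)⁻¹ * Rn : normalizer (S : Set G)) : G)) = (t₂ * t₁)⁻¹ * R := rfl
  rw [h4, map_mul, map_inv, map_mul, h1, h2, show ((-1 * -1 : ℤˣ))⁻¹ = 1 from by decide, one_mul] at h3
  exact h3

theorem Dat.sgn_eq_nu [Finite G] (D : Dat S φ x x' R t₁ t₂) (n : normalizer (S : Set G)) :
    sgn G (n : G) = nu (φ n) := by
  have := D.hom_eq ((sgn G).comp (normalizer (S : Set G)).subtype) (nu.comp φ) ?_ ?_ ?_ n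
  · simpa using this
  · intro n hn
    have h1 := (D.hφ.ker n).mpr hn
    simp only [MonoidHom.comp_apply, h1, map_one]
    exact sgn_of_cube (D.H₁.exp _ hn)
  · simp only [MonoidHom.comp_apply, D.hφR]
    exact D.sgn_R
  · simp only [MonoidHom.comp_apply, D.hφ1]
    exact sgn_t D.H₁ D.h10

/-- A proper normal subgroup of `K` containing `S` does not exist. -/
theorem Dat.no_proper [Finite G] (D : Dat S φ x x' R t₁ t₂) (M : Subgroup G) [hM : M.Normal] (hSM : S ≤ M)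
    (hMK : M ≤ (sgn G).ker) : M = (sgn G).ker := by
  haveI : Fact (Nat.Prime 3) := ⟨Nat.prime_three⟩
  obtain ⟨P, hP⟩ := D.H₁.syl
  have hsup : normalizer (S : Set G) ⊔ M = ⊤ := by
    rw [hP]
    have hPM : (P : Subgroup G) ≤ M := hP ▸ hSM
    exact Sylow.normalizer_sup_eq_top' P hPM
  have hdec : ∀ g : G, ∃ n ∈ normalizer (S : Set G), ∃ m ∈ M, n * m = g := by
    intro g
    have : g ∈ ((normalizer (S : Set G) ⊔ M : Subgroup G) : Set G) := by rw [hsup]; trivial
    rw [Subgroup.mul_normal] at this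
    exact Set.mem_mul.mp this
  by_cases hR : R ∈ M
  · apply le_antisymm hMK
    intro k hk
    obtain ⟨n, hn, m, hm, rfl⟩ := hdec k
    have hn1 : sgn G n = 1 := by
      have h1 : sgn G m = 1 := hMK hm
      have h2 : sgn G (n * m) = 1 := hk
      rwa [map_mul, h1, mul_one] at h2
    have hn2 : nu (φ ⟨n, hn⟩) = 1 := by
      rw [← D.sgn_eq_nu ⟨n, hn⟩]; exact hn1
    obtain ⟨i, hi⟩ := rot_words _ hn2
    set Rn : normalizer (S : Set G) := ⟨R, D.H₁.hR⟩ with hRn
    have hmem : ((⟨n, hn⟩ * (Rn ^ i)⁻¹ : normalizer (S : Set G)) : G) ∈ S := by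
      apply (D.hφ.ker _).mp
      rw [map_mul, map_inv, map_pow, D.hφR, hi, mul_inv_cancel]
    have h3 : n * (R ^ i)⁻¹ ∈ M := by
      apply hSM
      exact hmem
    have h4 : R ^ i ∈ M := pow_mem hR i
    have h5 : n ∈ M := by
      have : n = n * (R ^ i)⁻¹ * R ^ i := by group
      rw [this]
      exact M.mul_mem h3 h4
    exact M.mul_mem h5 hm
  · exfalso
    apply D.hno
    -- the map onto the quotient
    let π : normalizer (S : Set G) →* G ⧸ M := (QuotientGroup.mk' M).comp (normalizer (S : Set G)).subtype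
    have hπ : Function.Surjective π := by
      intro q
      obtain ⟨g, rfl⟩ := QuotientGroup.mk'_surjective M q
      obtain ⟨n, hn, m, hm, rfl⟩ := hdec g
      refine ⟨⟨n, hn⟩, ?_⟩
      simp only [π, MonoidHom.comp_apply, Subgroup.subtype_apply]
      rw [map_mul]
      have : (QuotientGroup.mk' M) m = 1 := (QuotientGroup.eq_one_iff m).mpr hm
      rw [this, mul_one]
    let ψ : normalizer (S : Set G) →* ℤˣ := psi0.comp φ
    have hker : π.ker ≤ ψ.ker := by
      intro n hn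
      have hnM : (n : G) ∈ M := by
        have : π n = 1 := hn
        exact (QuotientGroup.eq_one_iff (n : G)).mp this
      have hn2 : nu (φ n) = 1 := by
        rw [← D.sgn_eq_nu n]; exact hMK hnM
      rcases rot_psi _ hn2 with h | h | h
      · exact h
      · exfalso
        apply hR
        have hmem : ((n⁻¹ * ⟨R, D.H₁.hR⟩ : normalizer (S : Set G)) : G) ∈ S := by
          apply (D.hφ.ker _).mp
          rw [map_mul, map_inv, h, D.hφR]
          decide
        have h3 : (n : G)⁻¹ * R ∈ M := hSM hmem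
        have : R = (n : G) * ((n : G)⁻¹ * R) := by group
        rw [this]
        exact M.mul_mem hnM h3
      · exfalso
        apply hR
        have hmem : ((n * ⟨R, D.H₁.hR⟩ : normalizer (S : Set G)) : G) ∈ S := by
          apply (D.hφ.ker _).mp
          rw [map_mul, h, D.hφR]
          decide
        have h3 : (n : G) * R ∈ M := hSM hmem
        have : R = (n : G)⁻¹ * ((n : G) * R) := by group
        rw [this]
        exact M.mul_mem (M.inv_mem hnM) h3
    let Ψ' : G ⧸ M →* ℤˣ := π.liftOfSurjective hπ ⟨ψ, hker⟩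
    have hΨ' : ∀ n : normalizer (S : Set G), Ψ' (π n) = ψ n := by
      intro n
      exact MonoidHom.liftOfRightInverse_comp_apply _ _ _ _ n
    refine ⟨Ψ'.comp (QuotientGroup.mk' M), ?_, ?_, ?_⟩
    · have := hΨ' ⟨t₁, D.H₁.ht⟩
      simp only [π, ψ, MonoidHom.comp_apply, Subgroup.subtype_apply, D.hφ1] at this ⊢
      rw [this]
      decide
    · have := hΨ' ⟨t₂, D.H₂.ht⟩
      simp only [π, ψ, MonoidHom.comp_apply, Subgroup.subtype_apply, D.hφ2] at this ⊢
      rw [this]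
      decide
    · intro s hs
      have := hΨ' ⟨s, le_normalizer hs⟩
      simp only [π, ψ, MonoidHom.comp_apply, Subgroup.subtype_apply] at this ⊢
      rw [this, (D.hφ.ker ⟨s, le_normalizer hs⟩).mpr hs, map_one]

theorem Dat.S_le [Finite G] (D : Dat S φ x x' R t₁ t₂) : S ≤ (sgn G).ker := fun s hs =>
  sgn_of_cube (D.H₁.exp s hs)

theorem Dat.sgn_t1 [Finite G] (D : Dat S φ x x' R t₁ t₂) : sgn G t₁ = -1 := sgn_t D.H₁ D.h10

/-- The kernel of the sign is simple. -/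
theorem Dat.simple [Finite G] (D : Dat S φ x x' R t₁ t₂) : IsSimpleGroup (sgn G).ker := by
  have hK : ∀ g : G, sgn G g = 1 ∨ sgn G (g * t₁) = 1 := by
    intro g
    rcases Int.units_eq_one_or (sgn G g) with h | h
    · exact Or.inl h
    · right
      rw [map_mul, h, D.sgn_t1]
      decide
  haveI hnt : Nontrivial (sgn G).ker := ⟨⟨⟨x, D.S_le D.H₁.hx⟩, 1, fun h => D.H₁.x1 (congrArg Subtype.val h)⟩⟩
  refine ⟨?_⟩
  intro L₀ hL₀
  by_cases hbot : L₀ = ⊥
  · exact Or.inl hbot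
  right
  set L : Subgroup G := L₀.map (sgn G).ker.subtype with hL
  have hLK : L ≤ (sgn G).ker := Subgroup.map_subtype_le L₀
  have hconj : ∀ k ∈ (sgn G).ker, ∀ l ∈ L, k * l * k⁻¹ ∈ L := by
    intro k hk l hl
    obtain ⟨l₀, hl₀, rfl⟩ := hl
    exact ⟨⟨k, hk⟩ * l₀ * ⟨k, hk⟩⁻¹, hL₀.conj_mem l₀ hl₀ _, rfl⟩
  have hLbot : L ≠ ⊥ := by
    intro h
    apply hbot
    have := (Subgroup.map_eq_bot_iff_of_injective L₀ (Subgroup.subtype_injective _)).mp h
    exact this
  have hSL : S ≤ L := contains_S D.H₁ (fun s hs l hl => hconj s (D.S_le hs) l hl)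
    (fun l hl => hconj R D.sgn_R l hl) hLbot
  have hSM : S ≤ L.normalCore := by
    intro s hs
    show ∀ g : G, g * s * g⁻¹ ∈ L
    intro g
    rcases hK g with h | h
    · exact hconj g h s (hSL hs)
    · have h1 : g * s * g⁻¹ = (g * t₁) * (t₁⁻¹ * s * t₁⁻¹⁻¹) * (g * t₁)⁻¹ := by group
      rw [h1]
      apply hconj _ h
      apply hSL
      exact conj_mem_of_normalizer (inv_mem D.H₁.ht) hs
  have hMK : L.normalCore ≤ (sgn G).ker := (Subgroup.normalCore_le L).trans hLK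
  have h1 := D.no_proper L.normalCore hSM hMK
  have h2 : (sgn G).ker ≤ L := by
    rw [← h1]
    exact Subgroup.normalCore_le L
  rw [eq_top_iff]
  intro k _
  obtain ⟨l₀, hl₀, he⟩ := h2 k.2
  have : l₀ = k := Subtype.ext he
  rwa [← this]

/-- The kernel of the sign has `360` elements. -/
theorem Dat.card_K [Finite G] (D : Dat S φ x x' R t₁ t₂) : Nat.card (sgn G).ker = 360 := by
  have h1 : (sgn G).ker.index = 2 := by
    rw [Subgroup.index_ker]
    have h2 : (sgn G).range = ⊤ := by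
      rw [MonoidHom.range_eq_top]
      intro u
      rcases Int.units_eq_one_or u with h | h
      · exact ⟨1, by rw [map_one, h]⟩
      · exact ⟨t₁, by rw [D.sgn_t1, h]⟩
    rw [h2, Subgroup.card_top, Nat.card_eq_fintype_card, Fintype.card_units_int]
  have h3 := (sgn G).ker.card_mul_index
  rw [h1, D.h720] at h3
  omega

end Cfsg.Agent.Lib.S6RecKer
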