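import Mathlib
import Cfsg.Agent.Lib.S6RecKer
import Cfsg.Agent.Lib.S6RecSix
import Cfsg.Agent.Lib.Order360

set_option autoImplicit false
set_option linter.unusedVariables false
set_option linter.unusedSectionVars false
set_option linter.style.haveILetI false

namespace Cfsg.Agent.Lib.S6RecKer

open Subgroup Cfsg.Agent.Lib.S6RecLoc Cfsg.Agent.Lib.S6RecLoc3 Cfsg.Agent.Lib.S6RecEnd3
  Cfsg.Agent.Lib.S6RecEnd DihedralGroup Cfsg.Agent.Lib.S6RecSix

variable {G : Type*} [Group G] {S : Subgroup G}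
variable {φ : normalizer (S : Set G) →* DihedralGroup 4} {x x' R t₁ t₂ : G}

/-- Every non-trivial element of `S` is centralized by an element with sign `-1`. -/
theorem Dat.cent_of_mem [Finite G] (D : Dat S φ x x' R t₁ t₂) {s : G} (hs : s ∈ S) (h1 : s ≠ 1) :
    ∃ t, sgn G t = -1 ∧ t * s * t⁻¹ = s := by
  have hconjt : ∀ {z t : G}, z ∈ S → sgn G t = -1 → t * z * t⁻¹ = z → IsConj z s →
      ∃ t, sgn G t = -1 ∧ t * s * t⁻¹ = s := by
    intro z t hz ht htz hc
    obtain ⟨h, rfl⟩ := isConj_iff.mp hc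
    refine ⟨h * t * h⁻¹, ?_, ?_⟩
    · rw [map_mul, map_mul, map_inv, ht]
      simp [mul_comm]
    · calc h * t * h⁻¹ * (h * z * h⁻¹) * (h * t * h⁻¹)⁻¹ = h * (t * z * t⁻¹) * h⁻¹ := by group
        _ = h * z * h⁻¹ := by rw [htz]
  have hxc := fun hc => hconjt (z := x) D.H₁.hx (sgn_t D.H₁ D.h10) D.H₁.tx hc
  have hyc := fun hc => hconjt (z := x * x') D.H₂.hx (sgn_t D.H₂ D.h10) D.H₂.tx hc
  obtain ⟨h, k, hh, hk, hsk⟩ := D.H₁.mem_cases hs
  have H₁ := D.H₁
  have H₂ := D.H₂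
  have hs' : IsConj x s ∨ IsConj (x * x') s := by
    rw [hsk] at h1 ⊢
    rcases hh with hh | hh | hh <;> rcases hk with hk | hk | hk <;> rw [hh, hk] at h1 ⊢
    · exact absurd (by simp) h1
    · left; rw [one_mul]; exact H₁.isConj_x_x'
    · left; rw [one_mul]; exact H₁.isConj_x_x'i
    · left; rw [mul_one]
    · right; exact IsConj.refl _
    · right; exact H₁.isConj_y_y'
    · left; rw [mul_one]; exact H₁.isConj_x_xi
    · right
      have h2 : x⁻¹ * x' = x' * x⁻¹ := H₁.comm _ (S.inv_mem H₁.hx) _ H₁.hx'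
      rw [h2]
      exact H₂.isConj_x_x'
    · right
      have h2 : x⁻¹ * x'⁻¹ = (x * x')⁻¹ := by
        rw [mul_inv_rev]; exact H₁.comm _ (S.inv_mem H₁.hx) _ (S.inv_mem H₁.hx')
      rw [h2]
      exact H₂.isConj_x_xi
  rcases hs' with hc | hc
  · exact hxc hc
  · exact hyc hc

/-- Every element of order three is centralized by an element with sign `-1`. -/
theorem Dat.exists_cent [Finite G] (D : Dat S φ x x' R t₁ t₂) (c : G) (h3 : c ^ 3 = 1) (h1 : c ≠ 1) :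
    ∃ t, sgn G t = -1 ∧ t * c * t⁻¹ = c := by
  haveI : Fact (Nat.Prime 3) := ⟨Nat.prime_three⟩
  obtain ⟨P, hP⟩ := D.H₁.syl
  have hpg : IsPGroup 3 (zpowers c) := by
    apply IsPGroup.of_card (n := 1)
    rw [Nat.card_zpowers, orderOf_eq_prime h3 h1, pow_one]
  obtain ⟨Q, hQ⟩ := hpg.exists_le_sylow
  have hcQ : c ∈ (Q : Subgroup G) := hQ (mem_zpowers c)
  obtain ⟨g, hg⟩ := MulAction.exists_smul_eq G Q P
  have hs : g * c * g⁻¹ ∈ S := by
    rw [hP, ← hg, Sylow.coe_subgroup_smul, Subgroup.mem_pointwise_smul_iff_inv_smul_mem]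
    simp only [MulAut.smul_def, MulAut.conj_inv_apply]
    have : g⁻¹ * (g * c * g⁻¹) * g = c := by group
    rw [this]
    exact hcQ
  have hs1 : g * c * g⁻¹ ≠ 1 := by
    intro h
    apply h1
    have : c = g⁻¹ * (g * c * g⁻¹) * g := by group
    rw [this, h]
    group
  obtain ⟨t, ht, hts⟩ := D.cent_of_mem hs hs1
  refine ⟨g⁻¹ * t * g, ?_, ?_⟩
  · rw [map_mul, map_mul, map_inv, ht]
    simp [mul_comm]
  · calc g⁻¹ * t * g * c * (g⁻¹ * t * g)⁻¹ = g⁻¹ * (t * (g * c * g⁻¹) * t⁻¹) * g := by group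
      _ = c := by rw [hts]; group

end Cfsg.Agent.Lib.S6RecKer
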