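import Mathlib

/-!
# A certificate for `SL₃(𝔽₃)`: every nonidentity matrix of determinant one is a product of two
matrices with characteristic polynomial `x³ - x - 1`, conjugate to its companion matrix.
-/

set_option autoImplicit false

namespace Cfsg.Agent.Lib.SL3Three

/-- Matrices with natural number entries, read modulo three. -/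
structure M3 where
  a : ℕ
  b : ℕ
  c : ℕ
  d : ℕ
  e : ℕ
  f : ℕ
  g : ℕ
  h : ℕ
  i : ℕ

/-- Product modulo three. -/
def mulM (x y : M3) : M3 :=
  ⟨(x.a * y.a + x.b * y.d + x.c * y.g) % 3, (x.a * y.b + x.b * y.e + x.c * y.h) % 3,
   (x.a * y.c + x.b * y.f + x.c * y.i) % 3,
   (x.d * y.a + x.e * y.d + x.f * y.g) % 3, (x.d * y.b + x.e * y.e + x.f * y.h) % 3,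
   (x.d * y.c + x.e * y.f + x.f * y.i) % 3,
   (x.g * y.a + x.h * y.d + x.i * y.g) % 3, (x.g * y.b + x.h * y.e + x.i * y.h) % 3,
   (x.g * y.c + x.h * y.f + x.i * y.i) % 3⟩

/-- Determinant modulo three. -/
def detM (x : M3) : ℕ :=
  (x.a * x.e * x.i + x.b * x.f * x.g + x.c * x.d * x.h +
    2 * (x.c * x.e * x.g + x.b * x.d * x.i + x.a * x.f * x.h)) % 3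

/-- Adjugate modulo three. -/
def adjM (x : M3) : M3 :=
  ⟨(x.e * x.i + 2 * (x.f * x.h)) % 3, (x.c * x.h + 2 * (x.b * x.i)) % 3, (x.b * x.f + 2 * (x.c * x.e)) % 3,
   (x.f * x.g + 2 * (x.d * x.i)) % 3, (x.a * x.i + 2 * (x.c * x.g)) % 3, (x.c * x.d + 2 * (x.a * x.f)) % 3,
   (x.d * x.h + 2 * (x.e * x.g)) % 3, (x.b * x.g + 2 * (x.a * x.h)) % 3, (x.a * x.e + 2 * (x.b * x.d)) % 3⟩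

/-- Equality test. -/
def beqM (x y : M3) : Bool :=
  x.a == y.a && x.b == y.b && x.c == y.c && x.d == y.d && x.e == y.e && x.f == y.f &&
    x.g == y.g && x.h == y.h && x.i == y.i

/-- The identity. -/
def idM : M3 := ⟨1, 0, 0, 0, 1, 0, 0, 0, 1⟩

/-- Companion matrix of `x³ - x - 1`. -/
def cM : M3 := ⟨0, 0, 1, 1, 0, 1, 0, 1, 0⟩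

/-- Negation modulo three. -/
def negM (x : M3) : M3 :=
  ⟨(2 * x.a) % 3, (2 * x.b) % 3, (2 * x.c) % 3, (2 * x.d) % 3, (2 * x.e) % 3, (2 * x.f) % 3,
   (2 * x.g) % 3, (2 * x.h) % 3, (2 * x.i) % 3⟩

/-- The cyclic basis matrix `[e₁, A e₁, A² e₁]`, with the right sign of the determinant. -/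
def witM (A : M3) : M3 :=
  let W : M3 := ⟨1, A.a, (A.a * A.a + A.b * A.d + A.c * A.g) % 3,
    0, A.d, (A.d * A.a + A.e * A.d + A.f * A.g) % 3,
    0, A.g, (A.g * A.a + A.h * A.d + A.i * A.g) % 3⟩
  if detM W == 1 then W else negM W

/-- `A` is conjugate to the companion matrix by a matrix of determinant one. -/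
def isC (A : M3) : Bool :=
  detM (witM A) == 1 && beqM (mulM A (witM A)) (mulM (witM A) cM)

/-- All matrices with the given characteristic polynomial. -/
def cands : List M3 := [
  ⟨0,0,1,0,1,1,2,1,2⟩, ⟨0,0,1,0,1,2,2,2,2⟩, ⟨0,0,1,0,2,1,1,2,1⟩, ⟨0,0,1,0,2,2,1,1,1⟩, ⟨0,0,1,1,0,0,1,1,0⟩, ⟨0,0,1,1,0,1,0,1,0⟩,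
  ⟨0,0,1,1,0,2,2,1,0⟩, ⟨0,0,1,1,1,0,0,1,2⟩, ⟨0,0,1,1,1,1,1,2,2⟩, ⟨0,0,1,1,2,0,0,1,1⟩, ⟨0,0,1,1,2,2,2,2,1⟩, ⟨0,0,1,2,0,0,1,2,0⟩,
  ⟨0,0,1,2,0,1,2,2,0⟩, ⟨0,0,1,2,0,2,0,2,0⟩, ⟨0,0,1,2,1,0,0,2,2⟩, ⟨0,0,1,2,1,2,1,1,2⟩, ⟨0,0,1,2,2,0,0,2,1⟩, ⟨0,0,1,2,2,1,2,1,1⟩,
  ⟨0,0,2,0,1,1,1,1,2⟩, ⟨0,0,2,0,1,2,1,2,2⟩, ⟨0,0,2,0,2,1,2,2,1⟩, ⟨0,0,2,0,2,2,2,1,1⟩, ⟨0,0,2,1,0,0,2,2,0⟩, ⟨0,0,2,1,0,1,1,2,0⟩,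
  ⟨0,0,2,1,0,2,0,2,0⟩, ⟨0,0,2,1,1,0,0,2,2⟩, ⟨0,0,2,1,1,2,2,1,2⟩, ⟨0,0,2,1,2,0,0,2,1⟩, ⟨0,0,2,1,2,1,1,1,1⟩, ⟨0,0,2,2,0,0,2,1,0⟩,
  ⟨0,0,2,2,0,1,0,1,0⟩, ⟨0,0,2,2,0,2,1,1,0⟩, ⟨0,0,2,2,1,0,0,1,2⟩, ⟨0,0,2,2,1,1,2,2,2⟩, ⟨0,0,2,2,2,0,0,1,1⟩, ⟨0,0,2,2,2,2,1,2,1⟩,
  ⟨0,1,0,0,0,1,1,1,0⟩, ⟨0,1,0,0,0,2,2,2,0⟩, ⟨0,1,0,0,1,1,1,0,2⟩, ⟨0,1,0,0,1,2,2,0,2⟩, ⟨0,1,0,0,2,1,1,0,1⟩, ⟨0,1,0,0,2,2,2,0,1⟩,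
  ⟨0,1,0,1,0,1,1,0,0⟩, ⟨0,1,0,1,0,2,2,0,0⟩, ⟨0,1,0,1,1,1,0,2,2⟩, ⟨0,1,0,1,1,2,0,1,2⟩, ⟨0,1,0,1,2,1,2,2,1⟩, ⟨0,1,0,1,2,2,1,1,1⟩,
  ⟨0,1,0,2,0,1,1,2,0⟩, ⟨0,1,0,2,0,2,2,1,0⟩, ⟨0,1,0,2,1,1,2,1,2⟩, ⟨0,1,0,2,1,2,1,2,2⟩, ⟨0,1,0,2,2,1,0,1,1⟩, ⟨0,1,0,2,2,2,0,2,1⟩,
  ⟨0,1,1,0,0,1,1,0,0⟩, ⟨0,1,1,0,0,2,2,1,0⟩, ⟨0,1,1,0,1,2,1,1,2⟩, ⟨0,1,1,0,2,1,2,1,1⟩, ⟨0,1,1,1,0,0,0,1,0⟩, ⟨0,1,1,1,1,0,2,2,2⟩,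
  ⟨0,1,1,1,1,1,2,0,2⟩, ⟨0,1,1,1,1,2,1,2,2⟩, ⟨0,1,1,1,2,0,2,0,1⟩, ⟨0,1,1,1,2,1,0,2,1⟩, ⟨0,1,1,1,2,2,1,2,1⟩, ⟨0,1,1,2,0,0,2,2,0⟩,
  ⟨0,1,1,2,0,1,0,2,0⟩, ⟨0,1,1,2,0,2,2,0,0⟩, ⟨0,1,1,2,1,0,1,0,2⟩, ⟨0,1,1,2,1,1,0,1,2⟩, ⟨0,1,1,2,2,0,1,1,1⟩, ⟨0,1,1,2,2,2,1,0,1⟩,
  ⟨0,1,2,0,0,1,1,2,0⟩, ⟨0,1,2,0,0,2,2,0,0⟩, ⟨0,1,2,0,1,1,2,2,2⟩, ⟨0,1,2,0,2,2,1,2,1⟩, ⟨0,1,2,1,0,0,0,2,0⟩, ⟨0,1,2,1,1,0,1,1,2⟩,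
  ⟨0,1,2,1,1,1,2,1,2⟩, ⟨0,1,2,1,1,2,1,0,2⟩, ⟨0,1,2,1,2,0,1,0,1⟩, ⟨0,1,2,1,2,1,2,1,1⟩, ⟨0,1,2,1,2,2,0,1,1⟩, ⟨0,1,2,2,0,0,1,1,0⟩,
  ⟨0,1,2,2,0,1,1,0,0⟩, ⟨0,1,2,2,0,2,0,1,0⟩, ⟨0,1,2,2,1,0,2,0,2⟩, ⟨0,1,2,2,1,2,0,2,2⟩, ⟨0,1,2,2,2,0,2,2,1⟩, ⟨0,1,2,2,2,1,2,0,1⟩,
  ⟨0,2,0,0,0,1,2,1,0⟩, ⟨0,2,0,0,0,2,1,2,0⟩, ⟨0,2,0,0,1,1,2,0,2⟩, ⟨0,2,0,0,1,2,1,0,2⟩, ⟨0,2,0,0,2,1,2,0,1⟩, ⟨0,2,0,0,2,2,1,0,1⟩,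
  ⟨0,2,0,1,0,1,2,2,0⟩, ⟨0,2,0,1,0,2,1,1,0⟩, ⟨0,2,0,1,1,1,1,1,2⟩, ⟨0,2,0,1,1,2,2,2,2⟩, ⟨0,2,0,1,2,1,0,1,1⟩, ⟨0,2,0,1,2,2,0,2,1⟩,
  ⟨0,2,0,2,0,1,2,0,0⟩, ⟨0,2,0,2,0,2,1,0,0⟩, ⟨0,2,0,2,1,1,0,2,2⟩, ⟨0,2,0,2,1,2,0,1,2⟩, ⟨0,2,0,2,2,1,1,2,1⟩, ⟨0,2,0,2,2,2,2,1,1⟩,
  ⟨0,2,1,0,0,1,2,2,0⟩, ⟨0,2,1,0,0,2,1,0,0⟩, ⟨0,2,1,0,1,1,1,2,2⟩, ⟨0,2,1,0,2,2,2,2,1⟩, ⟨0,2,1,1,0,0,2,1,0⟩, ⟨0,2,1,1,0,1,2,0,0⟩,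
  ⟨0,2,1,1,0,2,0,1,0⟩, ⟨0,2,1,1,1,0,1,0,2⟩, ⟨0,2,1,1,1,2,0,2,2⟩, ⟨0,2,1,1,2,0,1,2,1⟩, ⟨0,2,1,1,2,1,1,0,1⟩, ⟨0,2,1,2,0,0,0,2,0⟩,
  ⟨0,2,1,2,1,0,2,1,2⟩, ⟨0,2,1,2,1,1,1,1,2⟩, ⟨0,2,1,2,1,2,2,0,2⟩, ⟨0,2,1,2,2,0,2,0,1⟩, ⟨0,2,1,2,2,1,1,1,1⟩, ⟨0,2,1,2,2,2,0,1,1⟩,
  ⟨0,2,2,0,0,1,2,0,0⟩, ⟨0,2,2,0,0,2,1,1,0⟩, ⟨0,2,2,0,1,2,2,1,2⟩, ⟨0,2,2,0,2,1,1,1,1⟩, ⟨0,2,2,1,0,0,1,2,0⟩, ⟨0,2,2,1,0,1,0,2,0⟩,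
  ⟨0,2,2,1,0,2,1,0,0⟩, ⟨0,2,2,1,1,0,2,0,2⟩, ⟨0,2,2,1,1,1,0,1,2⟩, ⟨0,2,2,1,2,0,2,1,1⟩, ⟨0,2,2,1,2,2,2,0,1⟩, ⟨0,2,2,2,0,0,0,1,0⟩,
  ⟨0,2,2,2,1,0,1,2,2⟩, ⟨0,2,2,2,1,1,1,0,2⟩, ⟨0,2,2,2,1,2,2,2,2⟩, ⟨0,2,2,2,2,0,1,0,1⟩, ⟨0,2,2,2,2,1,0,2,1⟩, ⟨0,2,2,2,2,2,2,2,1⟩,
  ⟨1,0,1,0,0,1,1,2,2⟩, ⟨1,0,1,0,0,2,1,1,2⟩, ⟨1,0,1,0,2,1,2,1,0⟩, ⟨1,0,1,0,2,2,2,2,0⟩, ⟨1,0,1,1,0,0,0,1,2⟩, ⟨1,0,1,1,0,2,2,2,2⟩,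
  ⟨1,0,1,1,1,0,1,1,1⟩, ⟨1,0,1,1,1,1,0,1,1⟩, ⟨1,0,1,1,1,2,2,1,1⟩, ⟨1,0,1,1,2,0,0,1,0⟩, ⟨1,0,1,1,2,1,1,2,0⟩, ⟨1,0,1,2,0,0,0,2,2⟩,
  ⟨1,0,1,2,0,1,2,1,2⟩, ⟨1,0,1,2,1,0,1,2,1⟩, ⟨1,0,1,2,1,1,2,2,1⟩, ⟨1,0,1,2,1,2,0,2,1⟩, ⟨1,0,1,2,2,0,0,2,0⟩, ⟨1,0,1,2,2,2,1,1,0⟩,
  ⟨1,0,2,0,0,1,2,2,2⟩, ⟨1,0,2,0,0,2,2,1,2⟩, ⟨1,0,2,0,2,1,1,1,0⟩, ⟨1,0,2,0,2,2,1,2,0⟩, ⟨1,0,2,1,0,0,0,2,2⟩, ⟨1,0,2,1,0,1,1,1,2⟩,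
  ⟨1,0,2,1,1,0,2,2,1⟩, ⟨1,0,2,1,1,1,1,2,1⟩, ⟨1,0,2,1,1,2,0,2,1⟩, ⟨1,0,2,1,2,0,0,2,0⟩, ⟨1,0,2,1,2,2,2,1,0⟩, ⟨1,0,2,2,0,0,0,1,2⟩,
  ⟨1,0,2,2,0,2,1,2,2⟩, ⟨1,0,2,2,1,0,2,1,1⟩, ⟨1,0,2,2,1,1,0,1,1⟩, ⟨1,0,2,2,1,2,1,1,1⟩, ⟨1,0,2,2,2,0,0,1,0⟩, ⟨1,0,2,2,2,1,2,2,0⟩,
  ⟨1,1,0,0,0,1,1,0,2⟩, ⟨1,1,0,0,0,2,2,0,2⟩, ⟨1,1,0,0,1,1,1,1,1⟩, ⟨1,1,0,0,1,2,2,2,1⟩, ⟨1,1,0,0,2,1,1,0,0⟩, ⟨1,1,0,0,2,2,2,0,0⟩,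
  ⟨1,1,0,1,0,1,2,2,2⟩, ⟨1,1,0,1,0,2,1,1,2⟩, ⟨1,1,0,1,1,1,1,0,1⟩, ⟨1,1,0,1,1,2,2,0,1⟩, ⟨1,1,0,1,2,1,0,2,0⟩, ⟨1,1,0,1,2,2,0,1,0⟩,
  ⟨1,1,0,2,0,1,0,1,2⟩, ⟨1,1,0,2,0,2,0,2,2⟩, ⟨1,1,0,2,1,1,1,2,1⟩, ⟨1,1,0,2,1,2,2,1,1⟩, ⟨1,1,0,2,2,1,2,1,0⟩, ⟨1,1,0,2,2,2,1,2,0⟩,
  ⟨1,1,1,0,0,1,2,1,2⟩, ⟨1,1,1,0,1,1,1,0,1⟩, ⟨1,1,1,0,1,2,2,1,1⟩, ⟨1,1,1,0,2,2,1,1,0⟩, ⟨1,1,1,1,0,0,2,0,2⟩, ⟨1,1,1,1,0,1,0,2,2⟩,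
  ⟨1,1,1,1,0,2,1,2,2⟩, ⟨1,1,1,1,1,0,0,1,1⟩, ⟨1,1,1,1,2,0,2,2,0⟩, ⟨1,1,1,1,2,1,2,0,0⟩, ⟨1,1,1,1,2,2,1,2,0⟩, ⟨1,1,1,2,0,0,1,1,2⟩,
  ⟨1,1,1,2,0,2,1,0,2⟩, ⟨1,1,1,2,1,0,2,2,1⟩, ⟨1,1,1,2,1,1,0,2,1⟩, ⟨1,1,1,2,1,2,2,0,1⟩, ⟨1,1,1,2,2,0,1,0,0⟩, ⟨1,1,1,2,2,1,0,1,0⟩,
  ⟨1,1,2,0,0,2,1,2,2⟩, ⟨1,1,2,0,1,1,1,2,1⟩, ⟨1,1,2,0,1,2,2,0,1⟩, ⟨1,1,2,0,2,1,2,2,0⟩, ⟨1,1,2,1,0,0,1,0,2⟩, ⟨1,1,2,1,0,1,2,1,2⟩,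
  ⟨1,1,2,1,0,2,0,1,2⟩, ⟨1,1,2,1,1,0,0,2,1⟩, ⟨1,1,2,1,2,0,1,1,0⟩, ⟨1,1,2,1,2,1,2,1,0⟩, ⟨1,1,2,1,2,2,1,0,0⟩, ⟨1,1,2,2,0,0,2,2,2⟩,
  ⟨1,1,2,2,0,1,2,0,2⟩, ⟨1,1,2,2,1,0,1,1,1⟩, ⟨1,1,2,2,1,1,1,0,1⟩, ⟨1,1,2,2,1,2,0,1,1⟩, ⟨1,1,2,2,2,0,2,0,0⟩, ⟨1,1,2,2,2,2,0,2,0⟩,
  ⟨1,2,0,0,0,1,2,0,2⟩, ⟨1,2,0,0,0,2,1,0,2⟩, ⟨1,2,0,0,1,1,2,1,1⟩, ⟨1,2,0,0,1,2,1,2,1⟩, ⟨1,2,0,0,2,1,2,0,0⟩, ⟨1,2,0,0,2,2,1,0,0⟩,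
  ⟨1,2,0,1,0,1,0,1,2⟩, ⟨1,2,0,1,0,2,0,2,2⟩, ⟨1,2,0,1,1,1,2,2,1⟩, ⟨1,2,0,1,1,2,1,1,1⟩, ⟨1,2,0,1,2,1,1,1,0⟩, ⟨1,2,0,1,2,2,2,2,0⟩,
  ⟨1,2,0,2,0,1,1,2,2⟩, ⟨1,2,0,2,0,2,2,1,2⟩, ⟨1,2,0,2,1,1,2,0,1⟩, ⟨1,2,0,2,1,2,1,0,1⟩, ⟨1,2,0,2,2,1,0,2,0⟩, ⟨1,2,0,2,2,2,0,1,0⟩,
  ⟨1,2,1,0,0,2,2,2,2⟩, ⟨1,2,1,0,1,1,2,2,1⟩, ⟨1,2,1,0,1,2,1,0,1⟩, ⟨1,2,1,0,2,1,1,2,0⟩, ⟨1,2,1,1,0,0,1,2,2⟩, ⟨1,2,1,1,0,1,1,0,2⟩,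
  ⟨1,2,1,1,1,0,2,1,1⟩, ⟨1,2,1,1,1,1,2,0,1⟩, ⟨1,2,1,1,1,2,0,1,1⟩, ⟨1,2,1,1,2,0,1,0,0⟩, ⟨1,2,1,1,2,2,0,2,0⟩, ⟨1,2,1,2,0,0,2,0,2⟩,
  ⟨1,2,1,2,0,1,1,1,2⟩, ⟨1,2,1,2,0,2,0,1,2⟩, ⟨1,2,1,2,1,0,0,2,1⟩, ⟨1,2,1,2,2,0,2,1,0⟩, ⟨1,2,1,2,2,1,1,1,0⟩, ⟨1,2,1,2,2,2,2,0,0⟩,
  ⟨1,2,2,0,0,1,1,1,2⟩, ⟨1,2,2,0,1,1,2,0,1⟩, ⟨1,2,2,0,1,2,1,1,1⟩, ⟨1,2,2,0,2,2,2,1,0⟩, ⟨1,2,2,1,0,0,2,1,2⟩, ⟨1,2,2,1,0,2,2,0,2⟩,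
  ⟨1,2,2,1,1,0,1,2,1⟩, ⟨1,2,2,1,1,1,0,2,1⟩, ⟨1,2,2,1,1,2,1,0,1⟩, ⟨1,2,2,1,2,0,2,0,0⟩, ⟨1,2,2,1,2,1,0,1,0⟩, ⟨1,2,2,2,0,0,1,0,2⟩,
  ⟨1,2,2,2,0,1,0,2,2⟩, ⟨1,2,2,2,0,2,2,2,2⟩, ⟨1,2,2,2,1,0,0,1,1⟩, ⟨1,2,2,2,2,0,1,2,0⟩, ⟨1,2,2,2,2,1,1,0,0⟩, ⟨1,2,2,2,2,2,2,2,0⟩,
  ⟨2,0,1,0,0,1,2,1,1⟩, ⟨2,0,1,0,0,2,2,2,1⟩, ⟨2,0,1,0,1,1,1,2,0⟩, ⟨2,0,1,0,1,2,1,1,0⟩, ⟨2,0,1,1,0,0,0,1,1⟩, ⟨2,0,1,1,0,1,1,2,1⟩,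
  ⟨2,0,1,1,1,0,0,1,0⟩, ⟨2,0,1,1,1,2,2,2,0⟩, ⟨2,0,1,1,2,0,1,1,2⟩, ⟨2,0,1,1,2,1,0,1,2⟩, ⟨2,0,1,1,2,2,2,1,2⟩, ⟨2,0,1,2,0,0,0,2,1⟩,
  ⟨2,0,1,2,0,2,1,1,1⟩, ⟨2,0,1,2,1,0,0,2,0⟩, ⟨2,0,1,2,1,1,2,1,0⟩, ⟨2,0,1,2,2,0,1,2,2⟩, ⟨2,0,1,2,2,1,2,2,2⟩, ⟨2,0,1,2,2,2,0,2,2⟩,
  ⟨2,0,2,0,0,1,1,1,1⟩, ⟨2,0,2,0,0,2,1,2,1⟩, ⟨2,0,2,0,1,1,2,2,0⟩, ⟨2,0,2,0,1,2,2,1,0⟩, ⟨2,0,2,1,0,0,0,2,1⟩, ⟨2,0,2,1,0,2,2,1,1⟩,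
  ⟨2,0,2,1,1,0,0,2,0⟩, ⟨2,0,2,1,1,1,1,1,0⟩, ⟨2,0,2,1,2,0,2,2,2⟩, ⟨2,0,2,1,2,1,1,2,2⟩, ⟨2,0,2,1,2,2,0,2,2⟩, ⟨2,0,2,2,0,0,0,1,1⟩,
  ⟨2,0,2,2,0,1,2,2,1⟩, ⟨2,0,2,2,1,0,0,1,0⟩, ⟨2,0,2,2,1,2,1,2,0⟩, ⟨2,0,2,2,2,0,2,1,2⟩, ⟨2,0,2,2,2,1,0,1,2⟩, ⟨2,0,2,2,2,2,1,1,2⟩,
  ⟨2,1,0,0,0,1,1,0,1⟩, ⟨2,1,0,0,0,2,2,0,1⟩, ⟨2,1,0,0,1,1,1,0,0⟩, ⟨2,1,0,0,1,2,2,0,0⟩, ⟨2,1,0,0,2,1,1,1,2⟩, ⟨2,1,0,0,2,2,2,2,2⟩,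
  ⟨2,1,0,1,0,1,0,2,1⟩, ⟨2,1,0,1,0,2,0,1,1⟩, ⟨2,1,0,1,1,1,2,2,0⟩, ⟨2,1,0,1,1,2,1,1,0⟩, ⟨2,1,0,1,2,1,1,0,2⟩, ⟨2,1,0,1,2,2,2,0,2⟩,
  ⟨2,1,0,2,0,1,2,1,1⟩, ⟨2,1,0,2,0,2,1,2,1⟩, ⟨2,1,0,2,1,1,0,1,0⟩, ⟨2,1,0,2,1,2,0,2,0⟩, ⟨2,1,0,2,2,1,1,2,2⟩, ⟨2,1,0,2,2,2,2,1,2⟩,
  ⟨2,1,1,0,0,2,1,1,1⟩, ⟨2,1,1,0,1,1,2,1,0⟩, ⟨2,1,1,0,2,1,1,0,2⟩, ⟨2,1,1,0,2,2,2,1,2⟩, ⟨2,1,1,1,0,0,2,2,1⟩, ⟨2,1,1,1,0,1,2,0,1⟩,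
  ⟨2,1,1,1,0,2,1,2,1⟩, ⟨2,1,1,1,1,0,2,0,0⟩, ⟨2,1,1,1,1,1,0,2,0⟩, ⟨2,1,1,1,1,2,1,2,0⟩, ⟨2,1,1,1,2,0,0,1,2⟩, ⟨2,1,1,2,0,0,1,0,1⟩,
  ⟨2,1,1,2,0,1,0,1,1⟩, ⟨2,1,1,2,1,0,1,1,0⟩, ⟨2,1,1,2,1,2,1,0,0⟩, ⟨2,1,1,2,2,0,2,2,2⟩, ⟨2,1,1,2,2,1,0,2,2⟩, ⟨2,1,1,2,2,2,2,0,2⟩,
  ⟨2,1,2,0,0,1,2,2,1⟩, ⟨2,1,2,0,1,2,1,2,0⟩, ⟨2,1,2,0,2,1,1,2,2⟩, ⟨2,1,2,0,2,2,2,0,2⟩, ⟨2,1,2,1,0,0,1,1,1⟩, ⟨2,1,2,1,0,1,2,1,1⟩,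
  ⟨2,1,2,1,0,2,1,0,1⟩, ⟨2,1,2,1,1,0,1,0,0⟩, ⟨2,1,2,1,1,1,2,1,0⟩, ⟨2,1,2,1,1,2,0,1,0⟩, ⟨2,1,2,1,2,0,0,2,2⟩, ⟨2,1,2,2,0,0,2,0,1⟩,
  ⟨2,1,2,2,0,2,0,2,1⟩, ⟨2,1,2,2,1,0,2,2,0⟩, ⟨2,1,2,2,1,1,2,0,0⟩, ⟨2,1,2,2,2,0,1,1,2⟩, ⟨2,1,2,2,2,1,1,0,2⟩, ⟨2,1,2,2,2,2,0,1,2⟩,
  ⟨2,2,0,0,0,1,2,0,1⟩, ⟨2,2,0,0,0,2,1,0,1⟩, ⟨2,2,0,0,1,1,2,0,0⟩, ⟨2,2,0,0,1,2,1,0,0⟩, ⟨2,2,0,0,2,1,2,1,2⟩, ⟨2,2,0,0,2,2,1,2,2⟩,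
  ⟨2,2,0,1,0,1,1,1,1⟩, ⟨2,2,0,1,0,2,2,2,1⟩, ⟨2,2,0,1,1,1,0,1,0⟩, ⟨2,2,0,1,1,2,0,2,0⟩, ⟨2,2,0,1,2,1,2,2,2⟩, ⟨2,2,0,1,2,2,1,1,2⟩,
  ⟨2,2,0,2,0,1,0,2,1⟩, ⟨2,2,0,2,0,2,0,1,1⟩, ⟨2,2,0,2,1,1,1,2,0⟩, ⟨2,2,0,2,1,2,2,1,0⟩, ⟨2,2,0,2,2,1,2,0,2⟩, ⟨2,2,0,2,2,2,1,0,2⟩,
  ⟨2,2,1,0,0,1,1,2,1⟩, ⟨2,2,1,0,1,2,2,2,0⟩, ⟨2,2,1,0,2,1,2,2,2⟩, ⟨2,2,1,0,2,2,1,0,2⟩, ⟨2,2,1,1,0,0,1,0,1⟩, ⟨2,2,1,1,0,2,0,2,1⟩,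
  ⟨2,2,1,1,1,0,1,2,0⟩, ⟨2,2,1,1,1,1,1,0,0⟩, ⟨2,2,1,1,2,0,2,1,2⟩, ⟨2,2,1,1,2,1,2,0,2⟩, ⟨2,2,1,1,2,2,0,1,2⟩, ⟨2,2,1,2,0,0,2,1,1⟩,
  ⟨2,2,1,2,0,1,1,1,1⟩, ⟨2,2,1,2,0,2,2,0,1⟩, ⟨2,2,1,2,1,0,2,0,0⟩, ⟨2,2,1,2,1,1,1,1,0⟩, ⟨2,2,1,2,1,2,0,1,0⟩, ⟨2,2,1,2,2,0,0,2,2⟩,
  ⟨2,2,2,0,0,2,2,1,1⟩, ⟨2,2,2,0,1,1,1,1,0⟩, ⟨2,2,2,0,2,1,2,0,2⟩, ⟨2,2,2,0,2,2,1,1,2⟩, ⟨2,2,2,1,0,0,2,0,1⟩, ⟨2,2,2,1,0,1,0,1,1⟩,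
  ⟨2,2,2,1,1,0,2,1,0⟩, ⟨2,2,2,1,1,2,2,0,0⟩, ⟨2,2,2,1,2,0,1,2,2⟩, ⟨2,2,2,1,2,1,0,2,2⟩, ⟨2,2,2,1,2,2,1,0,2⟩, ⟨2,2,2,2,0,0,1,2,1⟩,
  ⟨2,2,2,2,0,1,1,0,1⟩, ⟨2,2,2,2,0,2,2,2,1⟩, ⟨2,2,2,2,1,0,1,0,0⟩, ⟨2,2,2,2,1,1,0,2,0⟩, ⟨2,2,2,2,1,2,2,2,0⟩, ⟨2,2,2,2,2,0,0,1,2⟩
]

/-- Test for one matrix. -/
def testM (m : M3) : Bool :=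
  detM m != 1 || beqM m idM || cands.any (fun A =>
    let B := mulM (adjM A) m
    (B.a + B.e + B.i) % 3 == 0 && beqM (mulM A B) m && isC B)

/-- The digits. -/
def l3 : List ℕ := [0, 1, 2]

/-- The full test. -/
def check : Bool :=
  l3.all fun a => l3.all fun b => l3.all fun c => l3.all fun d => l3.all fun e =>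
  l3.all fun f => l3.all fun g => l3.all fun h => l3.all fun i => testM ⟨a, b, c, d, e, f, g, h, i⟩

theorem check_eq : check = true := by decide +kernel

theorem cands_eq : cands.all isC = true := by decide +kernel

/-- The thirteenth power of the companion matrix is the identity. -/
def c13 : M3 :=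
  let c2 := mulM cM cM
  let c4 := mulM c2 c2
  let c8 := mulM c4 c4
  mulM c8 (mulM c4 cM)

theorem c13_eq : beqM c13 idM = true := by decide +kernel

end Cfsg.Agent.Lib.SL3Three
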