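import Mathlib
import Cfsg.Agent.Lib.SLSpec

/-!
# Element orders in `PSL_n(F)`: going between `PSL_n`, `SL_n` and `GL_n`, and polynomial factors
of the minimal polynomial.
-/

set_option autoImplicit false
set_option linter.unusedSectionVars false

namespace Cfsg.Agent.Lib.SLOrder

open Matrix Polynomial Cfsg.Agent.Lib.SLSpec Cfsg.Agent.Lib.GLSpec

variable {F : Type*} [Field F] [Fintype F] {n : ℕ}

lemma dvd_pow_sub_one_iff (r q d : ℕ) (hq : 1 ≤ q) : r ∣ q ^ d - 1 ↔ ((q : ℕ) : ZMod r) ^ d = 1 := by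
  have h1 : 1 ≤ q ^ d := Nat.one_le_pow _ _ hq
  rw [← ZMod.natCast_eq_zero_iff, Nat.cast_sub h1, sub_eq_zero]
  push_cast
  rfl

lemma orderOf_dvd_of_dvd (r q d : ℕ) (hq : 1 ≤ q) (h : r ∣ q ^ d - 1) :
    orderOf ((q : ℕ) : ZMod r) ∣ d :=
  orderOf_dvd_of_pow_eq_one ((dvd_pow_sub_one_iff r q d hq).1 h)

lemma dvd_of_orderOf_dvd (r q d : ℕ) (hq : 1 ≤ q) (h : orderOf ((q : ℕ) : ZMod r) ∣ d) :
    r ∣ q ^ d - 1 :=
  (dvd_pow_sub_one_iff r q d hq).2 (orderOf_dvd_iff_pow_eq_one.1 h)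

lemma card_pos' : 1 ≤ Fintype.card F := Fintype.card_pos

lemma natDegree_le_of_dvd_minpoly (h : Matrix (Fin n) (Fin n) F) (π : F[X]) (hπ : π ∣ minpoly F h) :
    π.natDegree ≤ n := by
  have h3 : minpoly F h ∣ Matrix.charpoly h := Matrix.minpoly_dvd_charpoly h
  have h5 := natDegree_le_of_dvd (hπ.trans h3) (Matrix.charpoly_monic h).ne_zero
  rwa [Matrix.charpoly_natDegree_eq_dim, Fintype.card_fin] at h5

lemma natDegree_le_of_dvd_charpoly (h : Matrix (Fin n) (Fin n) F) (π : F[X]) (hπ : π ∣ Matrix.charpoly h) :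
    π.natDegree ≤ n := by
  have h5 := natDegree_le_of_dvd hπ (Matrix.charpoly_monic h).ne_zero
  rwa [Matrix.charpoly_natDegree_eq_dim, Fintype.card_fin] at h5

/-- An irreducible factor of the minimal polynomial with roots of order divisible by `r`. -/
theorem exists_factor_of_pow (h : Matrix (Fin n) (Fin n) F) (r u : ℕ)
    (hr : r.Prime) (hrF : (r : F) ≠ 0) (h1 : h ^ (u * r) = 1) (h2 : h ^ u ≠ 1) :
    ∃ π : F[X], Irreducible π ∧ π ∣ minpoly F h ∧ π ∣ (∑ i ∈ Finset.range r, (X ^ u : F[X]) ^ i) ∧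
      r ∣ Fintype.card F ^ π.natDegree - 1 := by
  classical
  set Y : F[X] := X ^ u with hY
  set Φ : F[X] := ∑ i ∈ Finset.range r, Y ^ i with hΦ
  have hprod : (Y - 1) * Φ = X ^ (u * r) - 1 := by
    rw [hΦ, mul_geom_sum, hY, ← pow_mul]
  have hgeom : ∀ m : ℕ, (Y - 1) ∣ (∑ i ∈ Finset.range m, Y ^ i) - (m : F[X]) := by
    intro m
    induction m with
    | zero => simp
    | succ m ih =>
      rw [Finset.sum_range_succ]
      have h3 : (Y - 1) ∣ Y ^ m - 1 := by
        simpa using sub_dvd_pow_sub_pow Y 1 m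
      have h4 := dvd_add ih h3
      have h5 : (∑ i ∈ Finset.range m, Y ^ i) + Y ^ m - ((m + 1 : ℕ) : F[X]) =
          (∑ i ∈ Finset.range m, Y ^ i) - (m : F[X]) + (Y ^ m - 1) := by
        push_cast; ring
      rwa [h5]
  have hcop : IsCoprime (Y - 1) Φ := by
    obtain ⟨W, hW⟩ := hgeom r
    have hrC : ((r : ℕ) : F[X]) = C (r : F) := by simp
    have hinv : C ((r : F)⁻¹) * C (r : F) = (1 : F[X]) := by
      rw [← C_mul, inv_mul_cancel₀ hrF, C_1]
    refine ⟨-C ((r : F)⁻¹) * W, C ((r : F)⁻¹), ?_⟩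
    have h3 : Φ = (Y - 1) * W + C (r : F) := by
      rw [← hrC, ← hW]; ring
    rw [h3]
    linear_combination hinv
  have hint : IsIntegral F h := Algebra.IsIntegral.isIntegral h
  set m := minpoly F h with hm
  have hm0 : m ≠ 0 := minpoly.ne_zero hint
  have hm1 : m ∣ (Y - 1) * Φ := by
    rw [hprod]
    apply minpoly.dvd
    simp [h1]
  have hm2 : ¬ m ∣ Y - 1 := by
    intro hdvd
    apply h2
    have h3 := aeval_eq_zero_of_dvd_aeval_eq_zero hdvd (minpoly.aeval F h)
    simp only [hY, map_sub, map_pow, aeval_X, map_one] at h3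
    exact sub_eq_zero.mp h3
  have hex : ∃ π : F[X], Irreducible π ∧ π ∣ m ∧ π ∣ Φ := by
    by_contra hcon
    push Not at hcon
    have h3 : IsCoprime m Φ := isCoprime_of_irreducible_dvd (fun h => hm0 h.1)
      (fun z hz hzm hzΦ => hcon z hz hzm hzΦ)
    exact hm2 (h3.dvd_of_dvd_mul_right hm1)
  obtain ⟨π, hπ, hπm, hπΦ⟩ := hex
  refine ⟨π, hπ, hπm, hπΦ, ?_⟩
  haveI : Fact (Irreducible π) := ⟨hπ⟩
  let K := AdjoinRoot π
  let pb := AdjoinRoot.powerBasis hπ.ne_zero
  haveI : Module.Finite F K := pb.finite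
  haveI : Finite K := Module.finite_of_finite F
  letI : Fintype K := Fintype.ofFinite K
  have hcard : Fintype.card K = Fintype.card F ^ π.natDegree := by
    rw [Module.card_eq_pow_finrank (K := F) (V := K), pb.finrank, AdjoinRoot.powerBasis_dim]
  let x : K := AdjoinRoot.root π
  have hmk : ∀ f : F[X], AdjoinRoot.mk π f = aeval x f := by
    intro f
    rw [AdjoinRoot.aeval_eq]
  have hx1 : x ^ (u * r) = 1 := by
    have h3 : π ∣ X ^ (u * r) - 1 := by
      rw [← hprod]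
      exact hπΦ.trans (Dvd.intro_left _ rfl)
    have h4 := (AdjoinRoot.mk_eq_zero).2 h3
    rw [hmk] at h4
    simp only [map_sub, map_pow, aeval_X, map_one] at h4
    exact sub_eq_zero.mp h4
  have hx2 : x ^ u ≠ 1 := by
    intro h3
    have h4 : aeval x (Y - 1) = 0 := by
      simp [hY, h3]
    rw [← hmk, AdjoinRoot.mk_eq_zero] at h4
    exact hπ.not_isUnit (hcop.isUnit_of_dvd' h4 hπΦ)
  haveI : Fact r.Prime := ⟨hr⟩
  have hord : orderOf (x ^ u) = r := by
    apply orderOf_eq_prime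
    · rw [← pow_mul]; exact hx1
    · exact hx2
  have hx0 : x ^ u ≠ 0 := by
    intro h0
    have h3 : (0 : K) ^ r = 1 := by
      have := hx1
      rw [pow_mul, h0] at this
      exact this
    rw [zero_pow hr.ne_zero] at h3
    exact zero_ne_one h3
  have hpow := FiniteField.pow_card_sub_one_eq_one (x ^ u) hx0
  rw [hcard] at hpow
  rw [← hord]
  exact orderOf_dvd_of_pow_eq_one hpow

/-- From `PSL_n` to `SL_n`, for orders prime to `q - 1`. -/
theorem exists_lift_of_coprime (x : Matrix.ProjectiveSpecialLinearGroup (Fin n) F) (t : ℕ) (hx : orderOf x = t)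
    (ht : Nat.Coprime t (Fintype.card F - 1)) (hn : 1 ≤ n) :
    ∃ Y : Matrix.SpecialLinearGroup (Fin n) F, Y ^ t = 1 ∧ orderOf (proj Y) = t := by
  classical
  obtain ⟨X, rfl⟩ := proj_surjective x
  have hX : proj X ^ t = 1 := by rw [← hx, pow_orderOf_eq_one]
  rw [← map_pow, proj_eq_one_iff] at hX
  obtain ⟨l, hl⟩ := scalar_of_mem_center _ hX
  haveI : Nonempty (Fin n) := ⟨⟨0, hn⟩⟩
  have hl0 : l ≠ 0 := by
    rintro rfl
    have h1 := (X ^ t).2
    rw [hl, zero_smul, Matrix.det_zero] at h1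
    exact zero_ne_one h1
  refine ⟨X ^ (Fintype.card F - 1), ?_, ?_⟩
  · apply Subtype.ext
    rw [← pow_mul, mul_comm, pow_mul, Matrix.SpecialLinearGroup.coe_pow, hl, _root_.smul_pow, one_pow,
      FiniteField.pow_card_sub_one_eq_one l hl0, one_smul]
    rfl
  · rw [map_pow, orderOf_pow, hx, ht.gcd_eq_one, Nat.div_one]

/-- From `GL_n` to `PSL_n`, for orders prime to `q - 1`. -/
theorem exists_proj_of_gl (g : GL (Fin n) F) (t : ℕ) (hg : orderOf g = t)
    (ht : Nat.Coprime t (Fintype.card F - 1)) (hn : 1 ≤ n) :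
    ∃ x : Matrix.ProjectiveSpecialLinearGroup (Fin n) F, orderOf x = t := by
  classical
  haveI : Nonempty (Fin n) := ⟨⟨0, hn⟩⟩
  have hscal : ∀ c : F, c ≠ 0 → c ^ t = 1 → c = 1 := by
    intro c hc h1
    have h2 := FiniteField.pow_card_sub_one_eq_one c hc
    have h3 := (pow_gcd_eq_one).2 ⟨h1, h2⟩
    rwa [ht.gcd_eq_one, pow_one] at h3
  have hgt : ((g : Matrix (Fin n) (Fin n) F)) ^ t = 1 := by
    have h1 : g ^ t = 1 := by rw [← hg, pow_orderOf_eq_one]
    have := congrArg Units.val h1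
    simpa using this
  have hdet : (g : Matrix (Fin n) (Fin n) F).det = 1 := by
    apply hscal
    · intro h0
      have h1 := g.isUnit
      rw [Matrix.isUnit_iff_isUnit_det, h0] at h1
      exact not_isUnit_zero h1
    · rw [← Matrix.det_pow, hgt, Matrix.det_one]
  let X : Matrix.SpecialLinearGroup (Fin n) F := ⟨g, hdet⟩
  refine ⟨proj X, Cfsg.Agent.Lib.SL2Torus.orderOf_eq_of_pow_iff _ _ ?_⟩
  have hXpow : ∀ j, ((X ^ j : Matrix.SpecialLinearGroup (Fin n) F) : Matrix (Fin n) (Fin n) F) = (g : Matrix (Fin n) (Fin n) F) ^ j := by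
    intro j
    rw [Matrix.SpecialLinearGroup.coe_pow]
  have hgj : ∀ j, (g : Matrix (Fin n) (Fin n) F) ^ j = 1 → t ∣ j := by
    intro j h
    rw [← hg]
    apply orderOf_dvd_of_pow_eq_one
    apply Units.ext
    simpa using h
  intro j
  rw [← map_pow, proj_eq_one_iff]
  constructor
  · intro h
    obtain ⟨c, hc⟩ := scalar_of_mem_center _ h
    rw [hXpow] at hc
    apply hgj
    have hc0 : c ≠ 0 := by
      rintro rfl
      have h1 := (X ^ j).2
      rw [hXpow, hc, zero_smul, Matrix.det_zero] at h1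
      exact zero_ne_one h1
    have hc1 : c ^ t = 1 := by
      have h1 : ((g : Matrix (Fin n) (Fin n) F) ^ j) ^ t = 1 := by
        rw [← pow_mul, mul_comm, pow_mul, hgt, one_pow]
      rw [hc, _root_.smul_pow, one_pow] at h1
      have h2 := congrFun (congrFun h1 ⟨0, hn⟩) ⟨0, hn⟩
      simpa using h2
    rw [hc, hscal c hc0 hc1, one_smul]
  · rintro ⟨w, rfl⟩
    apply mem_center_of_scalar _ 1
    rw [hXpow, one_smul, pow_mul, hgt, one_pow]

end Cfsg.Agent.Lib.SLOrder
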