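import Mathlib
import Cfsg.Agent.Lib.SLOrder

/-!
# Diagonal-times-unipotent elements of `SL_n(F)` and their orders in `PSL_n(F)`.
-/

set_option autoImplicit false
set_option linter.unusedSectionVars false

namespace Cfsg.Agent.Lib.SLDiag

open Matrix Polynomial Cfsg.Agent.Lib.SLSpec Cfsg.Agent.Lib.SLOrder Cfsg.Agent.Lib.GLSpec

variable {F : Type*} [Field F] {n : ℕ}

lemma commute_jN_diagonal (d : Fin n → F) (h : ∀ i j : Fin n, (i : ℕ) < 2 → (j : ℕ) < 2 → d i = d j) :
    Commute (jN 2 : Matrix (Fin n) (Fin n) F) (Matrix.diagonal d) := by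
  show _ * _ = _ * _
  ext i j
  rw [Matrix.mul_diagonal, Matrix.diagonal_mul]
  simp only [jN, Matrix.of_apply]
  by_cases hij : (j : ℕ) = (i : ℕ) + 1 ∧ (j : ℕ) < 2
  · rw [if_pos hij, h i j (by omega) hij.2, mul_comm]
  · rw [if_neg hij, zero_mul, mul_zero]

lemma jN_sq : (jN 2 : Matrix (Fin n) (Fin n) F) ^ 2 = 0 := jN_pow_eq_zero 2 1 (by norm_num)

lemma one_add_jN_pow (t : ℕ) :
    (1 + jN 2 : Matrix (Fin n) (Fin n) F) ^ t = 1 + (t : F) • jN 2 := by
  induction t with
  | zero => simp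
  | succ t ih =>
    rw [pow_succ, ih]
    have h : (jN 2 : Matrix (Fin n) (Fin n) F) * jN 2 = 0 := by rw [← pow_two, jN_sq]
    rw [Matrix.mul_add, Matrix.mul_one, Matrix.add_mul, Matrix.one_mul, Matrix.smul_mul, h, smul_zero, add_zero,
      Nat.cast_succ, add_smul, one_smul, add_assoc]

section

variable (p : ℕ) [Fact p.Prime] [CharP F p]

/-- The determinant of `1 + jN 2` is one. -/
lemma det_one_add_jN (p : ℕ) [Fact p.Prime] [CharP F p] : (1 + jN 2 : Matrix (Fin n) (Fin n) F).det = 1 := by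
  have hp : p.Prime := Fact.out
  have h1 : (1 + jN 2 : Matrix (Fin n) (Fin n) F) ^ p = 1 := by
    rw [one_add_jN_pow, CharP.cast_eq_zero, zero_smul, add_zero]
  have h2 : (1 + jN 2 : Matrix (Fin n) (Fin n) F).det ^ p = 1 := by
    rw [← Matrix.det_pow, h1, Matrix.det_one]
  have h3 : ((1 + jN 2 : Matrix (Fin n) (Fin n) F).det - 1) ^ p = 0 := by
    rw [sub_pow_char, h2, one_pow, sub_self]
  exact sub_eq_zero.1 (pow_eq_zero_iff hp.ne_zero |>.1 h3)

variable [Fintype F]

/-- Element orders of products of a diagonal matrix and an elementary transvection. -/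
theorem exists_orderOf_DU (hn : 2 ≤ n) (d : Fin n → F) (h01 : d ⟨0, by omega⟩ = d ⟨1, by omega⟩)
    (hprod : ∏ i, d i = 1) (w : ℕ)
    (hw : ∀ t : ℕ, (∀ i, d i ^ t = d ⟨0, by omega⟩ ^ t) ↔ w ∣ t) (hcop : Nat.Coprime p w) :
    ∃ x : Matrix.ProjectiveSpecialLinearGroup (Fin n) F, orderOf x = p * w := by
  classical
  have hp : p.Prime := Fact.out
  set i₀ : Fin n := ⟨0, by omega⟩ with hi₀
  set i₁ : Fin n := ⟨1, by omega⟩ with hi₁
  have hd0 : d i₀ ≠ 0 := by
    intro h0
    rw [Finset.prod_eq_zero (Finset.mem_univ i₀) h0] at hprod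
    exact zero_ne_one hprod
  have hcomm : Commute (Matrix.diagonal d) (1 + jN 2 : Matrix (Fin n) (Fin n) F) := by
    apply Commute.add_right (Commute.one_right _)
    apply Commute.symm
    apply commute_jN_diagonal
    intro i j hi hj
    have h1 : ∀ a : Fin n, (a : ℕ) < 2 → d a = d i₀ := by
      intro a ha
      rcases (by omega : (a : ℕ) = 0 ∨ (a : ℕ) = 1) with h | h
      · congr 1; exact Fin.ext h
      · rw [h01]; congr 1; exact Fin.ext h
    rw [h1 i hi, h1 j hj]
  let X₀ : Matrix (Fin n) (Fin n) F := Matrix.diagonal d * (1 + jN 2)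
  have hdet : X₀.det = 1 := by
    show (Matrix.diagonal d * (1 + jN 2)).det = 1
    rw [Matrix.det_mul, Matrix.det_diagonal, hprod, det_one_add_jN p, one_mul]
  let X : Matrix.SpecialLinearGroup (Fin n) F := ⟨X₀, hdet⟩
  have hXpow : ∀ t : ℕ, ((X ^ t : Matrix.SpecialLinearGroup (Fin n) F) : Matrix (Fin n) (Fin n) F) =
      Matrix.diagonal (fun i => d i ^ t) * (1 + (t : F) • jN 2) := by
    intro t
    rw [Matrix.SpecialLinearGroup.coe_pow]
    show (Matrix.diagonal d * (1 + jN 2)) ^ t = _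
    rw [hcomm.mul_pow, one_add_jN_pow, Matrix.diagonal_pow]
    rfl
  refine ⟨proj X, Cfsg.Agent.Lib.SL2Torus.orderOf_eq_of_pow_iff _ _ ?_⟩
  intro t
  rw [← map_pow, proj_eq_one_iff]
  constructor
  · intro h
    obtain ⟨c, hc⟩ := scalar_of_mem_center _ h
    rw [hXpow] at hc
    have hdiag : ∀ i, d i ^ t = c := by
      intro i
      have h1 := congrFun (congrFun hc i) i
      rw [Matrix.diagonal_mul] at h1
      simp only [Matrix.add_apply, Matrix.one_apply_eq, Matrix.smul_apply, Matrix.smul_apply, Matrix.one_apply_eq, smul_eq_mul, mul_one] at h1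
      rw [jN] at h1
      simp only [Matrix.of_apply] at h1
      rw [if_neg (by omega)] at h1
      simpa using h1
    have h01' := congrFun (congrFun hc i₀) i₁
    rw [Matrix.diagonal_mul] at h01'
    have hne : i₀ ≠ i₁ := by
      intro h
      have := congrArg Fin.val h
      simp [hi₀, hi₁] at this
    simp only [Matrix.add_apply, Matrix.smul_apply, Matrix.one_apply_ne hne, smul_eq_mul] at h01'
    rw [jN] at h01'
    simp only [Matrix.of_apply] at h01'
    rw [if_pos (by simp [hi₀, hi₁])] at h01'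
    have h3 : (t : F) = 0 := by
      have h4 : d i₀ ^ t * (t : F) = 0 := by simpa using h01'
      exact (mul_eq_zero.1 h4).resolve_left (pow_ne_zero _ hd0)
    have hpt : p ∣ t := (CharP.cast_eq_zero_iff F p t).1 h3
    have hwt : w ∣ t := (hw t).1 (fun i => by rw [hdiag i, hdiag i₀])
    exact hcop.mul_dvd_of_dvd_of_dvd hpt hwt
  · intro h
    have hpt : p ∣ t := (Dvd.intro _ rfl).trans h
    have hwt : w ∣ t := (Dvd.intro_left _ rfl).trans h
    apply mem_center_of_scalar _ (d i₀ ^ t)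
    rw [hXpow, (CharP.cast_eq_zero_iff F p t).2 hpt, zero_smul, add_zero, Matrix.mul_one]
    have h1 := (hw t).2 hwt
    ext i j
    by_cases hij : i = j
    · subst hij
      simp [h1 i]
    · simp [Matrix.diagonal_apply_ne _ hij, Matrix.one_apply_ne hij]

/-- Element orders of diagonal matrices. -/
theorem exists_orderOf_D (hn : 1 ≤ n) (d : Fin n → F) (hprod : ∏ i, d i = 1) (w : ℕ)
    (hw : ∀ t : ℕ, (∀ i, d i ^ t = d ⟨0, by omega⟩ ^ t) ↔ w ∣ t) :
    ∃ x : Matrix.ProjectiveSpecialLinearGroup (Fin n) F, orderOf x = w := by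
  classical
  set i₀ : Fin n := ⟨0, by omega⟩ with hi₀
  have hdet : (Matrix.diagonal d).det = 1 := by rw [Matrix.det_diagonal, hprod]
  let X : Matrix.SpecialLinearGroup (Fin n) F := ⟨Matrix.diagonal d, hdet⟩
  have hXpow : ∀ t : ℕ, ((X ^ t : Matrix.SpecialLinearGroup (Fin n) F) : Matrix (Fin n) (Fin n) F) =
      Matrix.diagonal (fun i => d i ^ t) := by
    intro t
    rw [Matrix.SpecialLinearGroup.coe_pow]
    show (Matrix.diagonal d) ^ t = _
    rw [Matrix.diagonal_pow]
    rfl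
  refine ⟨proj X, Cfsg.Agent.Lib.SL2Torus.orderOf_eq_of_pow_iff _ _ ?_⟩
  intro t
  rw [← map_pow, proj_eq_one_iff]
  constructor
  · intro h
    obtain ⟨c, hc⟩ := scalar_of_mem_center _ h
    rw [hXpow] at hc
    have hdiag : ∀ i, d i ^ t = c := by
      intro i
      have h1 := congrFun (congrFun hc i) i
      simpa using h1
    exact (hw t).1 (fun i => by rw [hdiag i, hdiag i₀])
  · intro h
    apply mem_center_of_scalar _ (d i₀ ^ t)
    rw [hXpow]
    have h1 := (hw t).2 h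
    ext i j
    by_cases hij : i = j
    · subst hij
      simp [h1 i]
    · simp [Matrix.diagonal_apply_ne _ hij, Matrix.one_apply_ne hij]

/-- A Jordan block of size `p^c + 1`: its image has order `p^(c+1)`. -/
theorem exists_orderOf_jordan (c : ℕ) (hc : p ^ c + 1 ≤ n) :
    ∃ x : Matrix.ProjectiveSpecialLinearGroup (Fin n) F, orderOf x = p ^ (c + 1) := by
  classical
  haveI : Nonempty (Fin n) := ⟨⟨0, by omega⟩⟩
  have hp : p.Prime := Fact.out
  set s := p ^ c + 1 with hs
  set N₀ : Matrix (Fin n) (Fin n) F := jN s with hN₀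
  set Y₀ : Matrix (Fin n) (Fin n) F := 1 + N₀ with hY₀
  have hcomm : Commute (1 : Matrix (Fin n) (Fin n) F) N₀ := Commute.one_left _
  haveI : CharP (Matrix (Fin n) (Fin n) F) p := Matrix.charP p
  haveI : ExpChar (Matrix (Fin n) (Fin n) F) p := ExpChar.prime hp
  have hpowc : ∀ k, Y₀ ^ (p ^ k) = 1 + N₀ ^ (p ^ k) := by
    intro k
    rw [hY₀, add_pow_char_pow_of_commute p k hcomm, one_pow]
  have hpc : p ^ (c + 1) = (p ^ (c + 1) - 1) + 1 := by
    have : 0 < p ^ (c + 1) := pow_pos hp.pos _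
    omega
  have hY1 : Y₀ ^ (p ^ (c + 1)) = 1 := by
    rw [hpowc, hpc, jN_pow_eq_zero, add_zero]
    rw [← hpc, hs]
    have h2 := hp.two_le
    have h3 : 0 < p ^ c := pow_pos hp.pos _
    rw [pow_succ]
    nlinarith
  have hdet : Y₀.det = 1 := by
    have h1 : Y₀.det ^ (p ^ (c + 1)) = 1 := by
      rw [← Matrix.det_pow, hY1, Matrix.det_one]
    have h2 : (Y₀.det - 1) ^ (p ^ (c + 1)) = 0 := by
      rw [sub_pow_char_pow, h1, one_pow, sub_self]
    have h3 := (pow_eq_zero_iff (pow_pos hp.pos _).ne').1 h2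
    exact sub_eq_zero.1 h3
  let Y : Matrix.SpecialLinearGroup (Fin n) F := ⟨Y₀, hdet⟩
  refine ⟨proj Y, ?_⟩
  apply orderOf_eq_prime_pow
  · intro h
    rw [← map_pow, proj_eq_one_iff] at h
    obtain ⟨f, hf⟩ := scalar_of_mem_center _ h
    rw [Matrix.SpecialLinearGroup.coe_pow] at hf
    have hf' : Y₀ ^ (p ^ c) = f • 1 := hf
    rw [hpowc] at hf'
    have hlt : p ^ c < n := by omega
    have h0 : 0 < n := by omega
    have h1 := congrFun (congrFun hf' ⟨0, h0⟩) ⟨p ^ c, hlt⟩
    have hne : (⟨0, h0⟩ : Fin n) ≠ ⟨p ^ c, hlt⟩ := by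
      intro h
      have := congrArg Fin.val h
      simp only at this
      have : 0 < p ^ c := pow_pos hp.pos _
      omega
    rw [Matrix.add_apply, Matrix.smul_apply, Matrix.one_apply_ne hne, hN₀,
      jN_pow_apply s _ (pow_pos hp.pos _), if_pos ⟨by simp, by simp only; omega⟩] at h1
    simp at h1
  · rw [← map_pow]
    have : Y ^ (p ^ (c + 1)) = 1 := by
      apply Subtype.ext
      rw [Matrix.SpecialLinearGroup.coe_pow]
      exact hY1
    rw [this, map_one]

end

section charpoly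

lemma charpoly_coeff_zero_SL (X : Matrix.SpecialLinearGroup (Fin n) F) :
    (X : Matrix (Fin n) (Fin n) F).charpoly.coeff 0 = (-1) ^ n := by
  have h1 := Matrix.det_eq_sign_charpoly_coeff (X : Matrix (Fin n) (Fin n) F)
  rw [X.2, Fintype.card_fin] at h1
  have h2 : ((-1 : F) ^ n) * (-1) ^ n = 1 := by
    rw [← mul_pow]; simp
  calc (X : Matrix (Fin n) (Fin n) F).charpoly.coeff 0
      = ((-1 : F) ^ n * (-1) ^ n) * (X : Matrix (Fin n) (Fin n) F).charpoly.coeff 0 := by rw [h2, one_mul]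
    _ = (-1) ^ n * ((-1) ^ n * (X : Matrix (Fin n) (Fin n) F).charpoly.coeff 0) := by ring
    _ = (-1) ^ n := by rw [← h1, mul_one]

/-- If the characteristic polynomial divides `T^t - κ` then the image in `PSL_n` has order dividing `t`. -/
lemma orderOf_dvd_of_charpoly_dvd [Fintype F] (X : Matrix.SpecialLinearGroup (Fin n) F) (t : ℕ) (κ : F)
    (h : (X : Matrix (Fin n) (Fin n) F).charpoly ∣ Polynomial.X ^ t - Polynomial.C κ) : orderOf (proj X) ∣ t := by
  apply orderOf_dvd_of_pow_eq_one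
  rw [← map_pow, proj_eq_one_iff]
  apply mem_center_of_scalar _ κ
  have h1 := aeval_eq_zero_of_dvd_aeval_eq_zero h (Matrix.aeval_self_charpoly (X : Matrix (Fin n) (Fin n) F))
  simp only [map_sub, map_pow, aeval_X, aeval_C] at h1
  rw [Matrix.SpecialLinearGroup.coe_pow, sub_eq_zero.1 h1, Algebra.algebraMap_eq_smul_one]

end charpoly

lemma exists_order_of_dvd' {G : Type*} [Group G] [Finite G] (x : G) (M : ℕ) (h : M ∣ orderOf x) :
    ∃ y : G, orderOf y = M := by
  have h0 : orderOf x ≠ 0 := (orderOf_pos x).ne'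
  obtain ⟨t, ht⟩ := h
  have ht0 : 0 < t := by
    rcases Nat.eq_zero_or_pos t with h | h
    · subst h; rw [mul_zero] at ht; exact absurd ht h0
    · exact h
  refine ⟨x ^ t, ?_⟩
  rw [orderOf_pow_of_dvd ht0.ne' (by rw [ht]; exact Dvd.intro_left _ rfl), ht]
  exact Nat.mul_div_cancel _ ht0

section block

open Cfsg.Agent.Lib.GLSpec

lemma blockMat_smul_one (d₁ d₂ : ℕ) (κ : F) :
    blockMat d₁ d₂ (κ • (1 : Matrix (Fin d₁) (Fin d₁) F), κ • (1 : Matrix (Fin d₂) (Fin d₂) F)) = κ • 1 := by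
  have h1 : blockMat d₁ d₂ ((1 : Matrix (Fin d₁) (Fin d₁) F), (1 : Matrix (Fin d₂) (Fin d₂) F)) = 1 := map_one (blockMat (F := F) d₁ d₂)
  rw [← h1]
  show Matrix.reindex finSumFinEquiv finSumFinEquiv (Matrix.fromBlocks (κ • 1) 0 0 (κ • 1)) =
    κ • Matrix.reindex finSumFinEquiv finSumFinEquiv (Matrix.fromBlocks 1 0 0 1)
  have h2 : Matrix.fromBlocks (κ • (1 : Matrix (Fin d₁) (Fin d₁) F)) 0 0 (κ • (1 : Matrix (Fin d₂) (Fin d₂) F)) =
      κ • Matrix.fromBlocks 1 0 0 1 := by
    rw [Matrix.fromBlocks_smul, smul_zero, smul_zero]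
  rw [h2]
  ext i j
  rfl

lemma det_blockMat (d₁ d₂ : ℕ) (A : Matrix (Fin d₁) (Fin d₁) F) (B : Matrix (Fin d₂) (Fin d₂) F) :
    (blockMat d₁ d₂ (A, B)).det = A.det * B.det := by
  show (Matrix.reindex finSumFinEquiv finSumFinEquiv (Matrix.fromBlocks A 0 0 B)).det = _
  rw [Matrix.det_reindex_self, Matrix.det_fromBlocks_zero₂₁]

end block

end Cfsg.Agent.Lib.SLDiag
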