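import Mathlib
import Cfsg.Prelude.Def_Classical
import Cfsg.Agent.Lib.HermCount
import Cfsg.Agent.Lib.UnitarySU
import Cfsg.Agent.Lib.UnitaryE

/-!
# The Sylow 2-subgroup of `SU₃(q)`, `q` a power of 2, as explicit matrices `M(d, e)`.
-/

set_option autoImplicit false
set_option linter.unusedSectionVars false

namespace Cfsg.Agent.Lib.SU3Heis

open Matrix Cfsg
open Cfsg.Agent.Lib.HermCount

variable {F : Type*} [Field F] [Fintype F] {q : ℕ}

/-- The matrix `M(d, e)`. -/
def M (q : ℕ) (d e : F) : Matrix (Fin 3) (Fin 3) F :=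
  !![1 + e, e, d ^ q; e, 1 + e, d ^ q; d, d, 1]

theorem M_mul (hF : Fintype.card F = q ^ 2) (h2 : (2 : F) = 0) (d e d' e' : F) :
    M q d e * M q d' e' = M q (d + d') (e + e' + d ^ q * d') := by
  ext i j
  fin_cases i <;> fin_cases j <;>
    simp [M, Matrix.mul_apply, Fin.sum_univ_three, add_pow_q hF] <;>
    first
    | linear_combination (e * e') * h2
    | linear_combination (e * d' ^ q) * h2
    | linear_combination (d * e') * h2
    | linear_combination (d * d' ^ q) * h2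

theorem M_det (h2 : (2 : F) = 0) (d e : F) : (M q d e).det = 1 := by
  rw [Matrix.det_fin_three]
  simp [M]
  linear_combination (e - d * d ^ q) * h2

theorem M_pres (hF : Fintype.card F = q ^ 2) (h2 : (2 : F) = 0) {d e : F}
    (hrel : e + e ^ q = d * d ^ q) (u v : Fin 3 → F) :
    hermForm 3 F q (M q d e *ᵥ u) (M q d e *ᵥ v) = hermForm 3 F q u v := by
  have h0 : ∀ w : Fin 3 → F, (M q d e *ᵥ w) 0 = (1 + e) * w 0 + e * w 1 + d ^ q * w 2 := by
    intro w; simp [M, mulVec, dotProduct, Fin.sum_univ_three]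
  have h1 : ∀ w : Fin 3 → F, (M q d e *ᵥ w) 1 = e * w 0 + (1 + e) * w 1 + d ^ q * w 2 := by
    intro w; simp [M, mulVec, dotProduct, Fin.sum_univ_three]
  have h3 : ∀ w : Fin 3 → F, (M q d e *ᵥ w) 2 = d * w 0 + d * w 1 + w 2 := by
    intro w; simp [M, mulVec, dotProduct, Fin.sum_univ_three]
  simp only [hermForm, Fin.sum_univ_three, h0, h1, h3]
  have q0 : ((1 + e) * v 0 + e * v 1 + d ^ q * v 2) ^ q =
      (1 + e ^ q) * v 0 ^ q + e ^ q * v 1 ^ q + d * v 2 ^ q := by
    rw [add_pow_q hF, add_pow_q hF, mul_pow, mul_pow, mul_pow, add_pow_q hF, one_pow,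
      pow_q_pow_q hF]
  have q1 : (e * v 0 + (1 + e) * v 1 + d ^ q * v 2) ^ q =
      e ^ q * v 0 ^ q + (1 + e ^ q) * v 1 ^ q + d * v 2 ^ q := by
    rw [add_pow_q hF, add_pow_q hF, mul_pow, mul_pow, mul_pow, add_pow_q hF, one_pow,
      pow_q_pow_q hF]
  have q2 : (d * v 0 + d * v 1 + v 2) ^ q = d ^ q * v 0 ^ q + d ^ q * v 1 ^ q + v 2 ^ q := by
    rw [add_pow_q hF, add_pow_q hF, mul_pow, mul_pow]
  rw [q0, q1, q2]
  generalize e ^ q = e' at *
  generalize d ^ q = d' at *
  generalize v 0 ^ q = a0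
  generalize v 1 ^ q = a1
  generalize v 2 ^ q = a2
  generalize u 0 = u0
  generalize u 1 = u1
  generalize u 2 = u2
  linear_combination (u0 + u1) * (a0 + a1) * hrel +
    ((d * d' + e * e') * (u0 + u1) * (a0 + a1) + (d + e * d) * (u0 + u1) * a2 +
      (d' + d' * e') * u2 * (a0 + a1) + d * d' * u2 * a2) * h2

theorem M_zero (hq : q ≠ 0) : M q (0 : F) 0 = 1 := by
  ext i j
  fin_cases i <;> fin_cases j <;> simp [M, hq]

/-- The element `M(d, e)` of `SU₃`. -/
def mkSU (hF : Fintype.card F = q ^ 2) (h2 : (2 : F) = 0) (d e : F) (h : e + e ^ q = d * d ^ q) :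
    SU 3 F q :=
  ⟨⟨M q d e, M_det h2 d e⟩, fun u v => M_pres hF h2 h u v⟩

/-- The subgroup of `SU₃` of the matrices `M(d, e)`. -/
def T (hF : Fintype.card F = q ^ 2) (h2 : (2 : F) = 0) : Subgroup (SU 3 F q) where
  carrier := {g | ∃ d e : F, e + e ^ q = d * d ^ q ∧ g.1.1 = M q d e}
  mul_mem' := by
    rintro a b ⟨d, e, h, ha⟩ ⟨d', e', h', hb⟩
    refine ⟨d + d', e + e' + d ^ q * d', ?_, ?_⟩
    · rw [add_pow_q hF, add_pow_q hF, add_pow_q hF, mul_pow, pow_q_pow_q hF]
      linear_combination h + h' + (0 : F) * h2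
    · change a.1.1 * b.1.1 = _
      rw [ha, hb, M_mul hF h2]
  one_mem' := by
    have hq : q ≠ 0 := by have := two_le_q hF; omega
    exact ⟨0, 0, by simp [hq], (M_zero hq).symm⟩
  inv_mem' := by
    rintro a ⟨d, e, h, ha⟩
    refine ⟨d, e + d * d ^ q, ?_, ?_⟩
    · rw [add_pow_q hF, mul_pow, pow_q_pow_q hF]
      linear_combination h + (d * d ^ q) * h2
    · have hq : q ≠ 0 := by have := two_le_q hF; omega
      have hmul : M q d e * M q d (e + d * d ^ q) = 1 := by
        rw [M_mul hF h2]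
        have h4 : d + d = 0 := by linear_combination d * h2
        have h5 : e + (e + d * d ^ q) + d ^ q * d = 0 := by
          linear_combination (e + d * d ^ q) * h2
        rw [h4, h5, M_zero hq]
      have h3 : (a⁻¹).1.1 * a.1.1 = 1 := congrArg (fun x : SU 3 F q => x.1.1) (inv_mul_cancel a)
      calc (a⁻¹).1.1 = (a⁻¹).1.1 * (M q d e * M q d (e + d * d ^ q)) := by rw [hmul, mul_one]
        _ = ((a⁻¹).1.1 * a.1.1) * M q d (e + d * d ^ q) := by rw [ha, mul_assoc]
        _ = _ := by rw [h3, one_mul]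

/-- The `(3,1)` entry. -/
def δ (g : SU 3 F q) : F := g.1.1 2 0

/-- The `(1,2)` entry. -/
def η (g : SU 3 F q) : F := g.1.1 0 1

theorem M_δ (d e : F) : M q d e 2 0 = d := by simp [M]
theorem M_η (d e : F) : M q d e 0 1 = e := by simp [M]

variable (hF : Fintype.card F = q ^ 2) (h2 : (2 : F) = 0)

include hF h2

theorem coe_eq (g : T hF h2) : g.1.1.1 = M q (δ g.1) (η g.1) := by
  obtain ⟨d, e, h, hg⟩ := g.2
  have h1 : δ g.1 = d := by rw [δ, hg, M_δ]
  have h3 : η g.1 = e := by rw [η, hg, M_η]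
  rw [h1, h3, hg]

theorem rel (g : T hF h2) : η g.1 + η g.1 ^ q = δ g.1 * δ g.1 ^ q := by
  obtain ⟨d, e, h, hg⟩ := g.2
  have h1 : δ g.1 = d := by rw [δ, hg, M_δ]
  have h3 : η g.1 = e := by rw [η, hg, M_η]
  rw [h1, h3, h]

theorem T_ext {g h : T hF h2} (h1 : δ g.1 = δ h.1) (h3 : η g.1 = η h.1) : g = h := by
  apply Subtype.ext
  apply Subtype.ext
  apply Subtype.ext
  rw [coe_eq hF h2 g, coe_eq hF h2 h, h1, h3]

theorem δ_mul (g h : T hF h2) : δ (g * h).1 = δ g.1 + δ h.1 := by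
  have : (g * h).1.1.1 = g.1.1.1 * h.1.1.1 := rfl
  rw [δ, this, coe_eq hF h2 g, coe_eq hF h2 h, M_mul hF h2, M_δ]

theorem η_mul (g h : T hF h2) : η (g * h).1 = η g.1 + η h.1 + δ g.1 ^ q * δ h.1 := by
  have : (g * h).1.1.1 = g.1.1.1 * h.1.1.1 := rfl
  rw [η, this, coe_eq hF h2 g, coe_eq hF h2 h, M_mul hF h2, M_η]

theorem δ_one : δ (1 : T hF h2).1 = 0 := by
  have : (1 : T hF h2).1.1.1 = 1 := rfl
  rw [δ, this]; simp

theorem η_one : η (1 : T hF h2).1 = 0 := by
  have : (1 : T hF h2).1.1.1 = 1 := rfl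
  rw [η, this]; simp

theorem exists_T {d e : F} (h : e + e ^ q = d * d ^ q) :
    ∃ g : T hF h2, δ g.1 = d ∧ η g.1 = e := by
  refine ⟨⟨mkSU hF h2 d e h, d, e, h, rfl⟩, ?_, ?_⟩
  · exact M_δ d e
  · exact M_η d e

theorem sq_δ (g : T hF h2) : δ (g ^ 2).1 = 0 := by
  rw [pow_two, δ_mul]
  linear_combination δ g.1 * h2

theorem sq_η (g : T hF h2) : η (g ^ 2).1 = δ g.1 * δ g.1 ^ q := by
  rw [pow_two, η_mul]
  linear_combination η g.1 * h2

omit h2 in
theorem exists_not_fixed : ∃ θ : F, θ ^ q ≠ θ := by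
  by_contra hall
  push Not at hall
  apply Cfsg.Agent.Lib.UnitaryE.frobQ_ne hF
  ext x
  exact hall x

/-- Central elements are those with `δ = 0`. -/
theorem mem_center_iff (g : T hF h2) : g ∈ Subgroup.center (T hF h2) ↔ δ g.1 = 0 := by
  have hq : q ≠ 0 := by have := two_le_q hF; omega
  rw [Subgroup.mem_center_iff]
  constructor
  · intro h
    by_contra hd
    obtain ⟨θ, hθ⟩ := exists_not_fixed hF
    set d := δ g.1 with hd'
    have hdq : d ^ q ≠ 0 := pow_ne_zero _ hd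
    set x := θ / d ^ q with hx
    obtain ⟨e, he⟩ := Cfsg.Agent.Lib.UnitaryE.exists_trace_eq hF (t := x * x ^ q)
      (by rw [mul_pow, pow_q_pow_q hF, mul_comm])
    obtain ⟨y, hy1, hy2⟩ := exists_T hF h2 he
    have h3 := congrArg (fun z : T hF h2 => η z.1) (h y)
    simp only [η_mul hF h2, hy1, ← hd'] at h3
    have h4 : x ^ q * d = θ ^ q := by
      rw [hx, div_pow, pow_q_pow_q hF]
      field_simp
    have h5 : d ^ q * x = θ := by
      rw [hx]; field_simp
    apply hθ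
    rw [h4, h5] at h3
    linear_combination h3
  · intro hd y
    apply T_ext hF h2
    · rw [δ_mul hF h2, δ_mul hF h2, add_comm]
    · rw [η_mul hF h2, η_mul hF h2, hd]
      simp [hq, add_comm]

theorem sq_mem_center (g : T hF h2) : g ^ 2 ∈ Subgroup.center (T hF h2) :=
  (mem_center_iff hF h2 _).mpr (sq_δ hF h2 g)

theorem sq_of_mem_center {g : T hF h2} (hg : g ∈ Subgroup.center (T hF h2)) : g ^ 2 = 1 := by
  have hq : q ≠ 0 := by have := two_le_q hF; omega
  have hd := (mem_center_iff hF h2 _).mp hg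
  apply T_ext hF h2
  · rw [sq_δ hF h2, δ_one hF h2]
  · rw [sq_η hF h2, η_one hF h2, hd]
    simp

theorem mem_center_of_sq {g : T hF h2} (hg : g ^ 2 = 1) : g ∈ Subgroup.center (T hF h2) := by
  rw [mem_center_iff hF h2]
  have h1 := sq_η hF h2 g
  rw [hg, η_one hF h2] at h1
  have h3 := h1.symm
  rcases mul_eq_zero.mp h3 with h4 | h4
  · exact h4
  · exact pow_eq_zero_iff (by have := two_le_q hF; omega) |>.mp h4

omit h2 in
/-- `x ↦ x + x^q`. -/
def trHom : F →+ F where
  toFun x := x + x ^ q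
  map_zero' := by
    have := two_le_q hF
    rw [zero_pow (by omega), add_zero]
  map_add' x y := by
    rw [add_pow_q hF]; ring

theorem trHom_range_eq_ker : (trHom hF).range = (trHom hF).ker := by
  ext x
  rw [AddMonoidHom.mem_range, AddMonoidHom.mem_ker]
  change (∃ y, y + y ^ q = x) ↔ x + x ^ q = 0
  constructor
  · rintro ⟨y, rfl⟩
    rw [add_pow_q hF, pow_q_pow_q hF]
    linear_combination (y + y ^ q) * h2
  · intro h
    apply Cfsg.Agent.Lib.UnitaryE.exists_trace_eq hF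
    linear_combination h - x * h2

theorem card_trHom_ker : Nat.card (trHom hF).ker = q := by
  have h := AddSubgroup.card_mul_index (trHom hF).ker
  rw [AddSubgroup.index_ker, trHom_range_eq_ker hF h2, Nat.card_eq_fintype_card (α := F), hF] at h
  have h3 : Nat.card (trHom hF).ker ^ 2 = q ^ 2 := by rw [pow_two]; exact h
  exact (Nat.pow_left_injective (n := 2) (by norm_num)) h3

theorem card_trace_fibre {c : F} (hc : c ^ q = c) : Nat.card {e : F // e + e ^ q = c} = q := by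
  obtain ⟨e₀, he₀⟩ := Cfsg.Agent.Lib.UnitaryE.exists_trace_eq hF hc
  let f : {e : F // e + e ^ q = c} → (trHom hF).ker := fun e => ⟨e.1 + e₀, by
    rw [AddMonoidHom.mem_ker]
    change (e.1 + e₀) + (e.1 + e₀) ^ q = 0
    rw [add_pow_q hF]
    linear_combination e.2 + he₀ + c * h2⟩
  let g : (trHom hF).ker → {e : F // e + e ^ q = c} := fun x => ⟨x.1 + e₀, by
    have hx := x.2
    rw [AddMonoidHom.mem_ker] at hx
    change x.1 + x.1 ^ q = 0 at hx
    rw [add_pow_q hF]
    linear_combination hx + he₀⟩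
  refine (Nat.card_congr ⟨f, g, ?_, ?_⟩).trans (card_trHom_ker hF h2)
  · intro e
    apply Subtype.ext
    change e.1 + e₀ + e₀ = e.1
    linear_combination e₀ * h2
  · intro e
    apply Subtype.ext
    change e.1 + e₀ + e₀ = e.1
    linear_combination e₀ * h2

omit h2 in
theorem nrm_fixed (x : F) : (x * x ^ q) ^ q = x * x ^ q := by
  rw [mul_pow, pow_q_pow_q hF, mul_comm]

theorem card_T : Nat.card (T hF h2) = q ^ 3 := by
  classical
  have e : T hF h2 ≃ Σ d : F, {e : F // e + e ^ q = d * d ^ q} := by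
    refine Equiv.ofBijective (fun g => ⟨δ g.1, η g.1, rel hF h2 g⟩) ⟨?_, ?_⟩
    · intro g h hgh
      have h1 : δ g.1 = δ h.1 := congrArg Sigma.fst hgh
      have h3 : η g.1 = η h.1 :=
        congrArg (fun s : (Σ d : F, {e : F // e + e ^ q = d * d ^ q}) => s.2.1) hgh
      exact T_ext hF h2 h1 h3
    · rintro ⟨d, e, he⟩
      obtain ⟨g, hg1, hg2⟩ := exists_T hF h2 he
      refine ⟨g, ?_⟩
      subst hg1
      subst hg2
      rfl
  rw [Nat.card_congr e, Nat.card_sigma]
  simp only [card_trace_fibre hF h2 (nrm_fixed hF _)]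
  simp [hF]
  ring

theorem card_center_T : Nat.card (Subgroup.center (T hF h2)) = q := by
  have hq : q ≠ 0 := by have := two_le_q hF; omega
  have h0 : (0 : F) ^ q = 0 := zero_pow hq
  refine (Nat.card_congr ?_).trans (card_trace_fibre hF h2 (c := 0) h0)
  refine Equiv.ofBijective (fun g => ⟨η g.1.1, ?_⟩) ⟨?_, ?_⟩
  · have h3 := rel hF h2 g.1
    rw [(mem_center_iff hF h2 g.1).mp g.2] at h3
    simpa using h3
  · intro g h hgh
    have h3 : η g.1.1 = η h.1.1 := congrArg Subtype.val hgh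
    apply Subtype.ext
    apply T_ext hF h2
    · rw [(mem_center_iff hF h2 g.1).mp g.2, (mem_center_iff hF h2 h.1).mp h.2]
    · exact h3
  · rintro ⟨e, he⟩
    have he' : e + e ^ q = 0 * 0 ^ q := by simpa using he
    obtain ⟨g, hg1, hg2⟩ := exists_T hF h2 he'
    exact ⟨⟨g, (mem_center_iff hF h2 g).mpr hg1⟩, Subtype.ext hg2⟩

theorem card_sqrt {c : T hF h2} (hc : c ∈ Subgroup.center (T hF h2)) (hc1 : c ≠ 1) :
    Nat.card {s : T hF h2 // s ^ 2 = c} = q * (q + 1) := by
  classical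
  have hd := (mem_center_iff hF h2 c).mp hc
  have hq : q ≠ 0 := by have := two_le_q hF; omega
  set c₀ := η c.1 with hc₀
  have h00 : c₀ ≠ 0 := by
    intro h
    apply hc1
    apply T_ext hF h2
    · rw [hd, δ_one hF h2]
    · rw [← hc₀, h, η_one hF h2]
  have hrel := rel hF h2 c
  have h01 : c₀ ^ q = c₀ := by
    rw [hd] at hrel
    simp only [zero_mul] at hrel
    linear_combination hrel - c₀ * h2
  have h02 : c₀ + c₀ ^ q = 0 := by
    rw [h01]; linear_combination c₀ * h2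
  have hcard1 : Nat.card {x : F // nrm q x = c₀} = q + 1 := by
    rw [Nat.card_eq_fintype_card, Fintype.card_subtype]
    exact card_nrm_fibre_ne hF h00 h01
  have hcard2 := card_trace_fibre hF h2 (c := c₀) h01
  have hprod : Nat.card ({x : F // nrm q x = c₀} × {e : F // e + e ^ q = c₀}) = q * (q + 1) := by
    rw [Nat.card_prod, hcard1, hcard2, mul_comm]
  refine (Nat.card_congr ?_).trans hprod
  refine Equiv.ofBijective (fun s => (⟨δ s.1.1, ?_⟩, ⟨η s.1.1, ?_⟩)) ⟨?_, ?_⟩
  · have h3 := sq_η hF h2 s.1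
    rw [s.2] at h3
    exact h3.symm
  · have h3 := sq_η hF h2 s.1
    rw [s.2] at h3
    rw [rel hF h2 s.1]
    exact h3.symm
  · intro g h hgh
    apply Subtype.ext
    apply T_ext hF h2
    · exact congrArg (fun p => (p.1 : F)) hgh
    · exact congrArg (fun p => (p.2 : F)) hgh
  · rintro ⟨⟨d, hd1⟩, ⟨e, he⟩⟩
    have hd2 : d * d ^ q = c₀ := hd1
    obtain ⟨g, hg1, hg2⟩ := exists_T hF h2 (d := d) (e := e) (by rw [he, hd2])
    refine ⟨⟨g, ?_⟩, ?_⟩
    · apply T_ext hF h2
      · rw [sq_δ hF h2, hd]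
      · rw [sq_η hF h2, hg1, hd2]
    · subst hg1
      subst hg2
      rfl

end Cfsg.Agent.Lib.SU3Heis
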