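import Cfsg.Agent.Lib.SU3K

/-!
The data of the criterion for field subalgebras of degree three in `SU₃(5)`.
-/

set_option autoImplicit false
set_option linter.style.longLine false
set_option maxRecDepth 100000

namespace Cfsg.Agent.SU3K5

open Cfsg Cfsg.Geo Cfsg.Agent.SU3C Cfsg.Agent.SU3K

/-- The element of order seven. -/
def s0 : M3 := ⟨3, 3, 20, 9, 9, 19, 14, 16, 0⟩
/-- The first vector. -/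
def e0 : V3 := ⟨1, 0, 0⟩
/-- The inverse of the matrix of powers. -/
def Ti : M3 := ⟨1, 16, 15, 0, 13, 13, 0, 6, 22⟩
/-- The powers. -/
def pw : ℕ → M3
  | 0 => ⟨1, 0, 0, 0, 1, 0, 0, 0, 1⟩
  | 1 => ⟨3, 3, 20, 9, 9, 19, 14, 16, 0⟩
  | 2 => ⟨22, 10, 7, 8, 7, 10, 22, 22, 8⟩
  | 3 => ⟨17, 13, 9, 12, 6, 12, 3, 1, 4⟩
  | 4 => ⟨12, 17, 3, 18, 21, 1, 24, 17, 4⟩
  | 5 => ⟨7, 23, 7, 15, 22, 7, 22, 15, 23⟩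
  | 6 => ⟨3, 24, 19, 3, 24, 11, 5, 14, 0⟩
  | _ => M3.one
/-- The table of conjugators. -/
def tb : ℕ → M3
  | 0 => ⟨0, 23, 23, 2, 4, 1, 8, 12, 1⟩
  | 1 => ⟨1, 15, 15, 2, 11, 2, 21, 2, 8⟩
  | 2 => ⟨1, 24, 12, 2, 23, 19, 13, 16, 10⟩
  | 3 => ⟨0, 2, 10, 0, 17, 1, 1, 20, 8⟩
  | 4 => ⟨0, 13, 24, 2, 18, 21, 3, 14, 14⟩
  | 5 => ⟨1, 1, 24, 2, 18, 5, 4, 10, 14⟩
  | 6 => ⟨1, 19, 5, 0, 21, 12, 4, 11, 19⟩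
  | 7 => ⟨0, 0, 6, 7, 8, 20, 8, 22, 0⟩
  | 8 => ⟨1, 15, 11, 5, 1, 18, 11, 12, 8⟩
  | 9 => ⟨0, 3, 20, 2, 7, 16, 23, 11, 22⟩
  | 10 => ⟨1, 3, 16, 11, 16, 21, 11, 24, 17⟩
  | 11 => ⟨0, 15, 6, 2, 13, 12, 19, 8, 13⟩
  | 12 => ⟨0, 20, 8, 2, 16, 2, 9, 7, 9⟩
  | 13 => ⟨1, 17, 20, 0, 9, 11, 3, 16, 11⟩
  | 14 => ⟨1, 5, 21, 4, 24, 14, 10, 5, 16⟩
  | 15 => ⟨0, 16, 21, 1, 22, 19, 5, 0, 2⟩
  | 16 => ⟨1, 0, 14, 0, 3, 15, 7, 24, 20⟩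
  | 17 => ⟨0, 18, 6, 1, 14, 15, 6, 20, 5⟩
  | 18 => ⟨0, 13, 9, 1, 6, 0, 16, 21, 14⟩
  | 19 => ⟨1, 9, 6, 0, 10, 7, 24, 13, 2⟩
  | 20 => ⟨0, 19, 11, 1, 5, 18, 9, 5, 24⟩
  | 21 => ⟨0, 12, 4, 1, 10, 2, 18, 11, 20⟩
  | 22 => ⟨0, 11, 24, 1, 19, 4, 15, 1, 6⟩
  | 23 => ⟨0, 10, 0, 5, 20, 13, 19, 19, 17⟩
  | 24 => ⟨1, 21, 17, 0, 16, 3, 15, 5, 18⟩
  | _ => M3.one
/-- The points. -/
def pts : List V3 := [⟨0, 1, 4⟩, ⟨1, 0, 18⟩, ⟨1, 1, 1⟩, ⟨1, 2, 2⟩, ⟨1, 3, 4⟩, ⟨1, 4, 3⟩, ⟨1, 5, 5⟩, ⟨1, 6, 9⟩, ⟨1, 8, 12⟩, ⟨1, 9, 6⟩, ⟨1, 12, 8⟩, ⟨1, 12, 17⟩, ⟨1, 12, 21⟩, ⟨1, 12, 22⟩, ⟨1, 13, 24⟩, ⟨1, 17, 12⟩, ⟨1, 18, 0⟩, ⟨1, 20, 20⟩, ⟨1, 21, 12⟩, ⟨1, 22, 12⟩, ⟨1, 24, 13⟩]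
/-- The overgroup element. -/
def w : M3 := ⟨9, 12, 1, 12, 1, 9, 1, 9, 12⟩
/-- The moving element. -/
def t : M3 := ⟨5, 2, 21, 13, 1, 24, 7, 1, 19⟩
/-- The moved point. -/
def u0 : V3 := ⟨0, 1, 4⟩

/-- The main check. -/
theorem chk_main : allW 5 (kchk 5 s0 Ti pts 1 3 pw) = true := by decide +kernel

/-- The checks. -/
theorem chk : KChk 5 7 22 s0 e0 Ti 1 3 pw tb pts w t u0 where
  het := by decide +kernel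
  hem := by decide +kernel
  hcj := by decide +kernel
  hlt := by decide +kernel
  h7 := by norm_num
  hpw := by decide +kernel
  htb1 := by decide +kernel
  htb2 := by decide +kernel
  hTc := by decide +kernel
  hh0 := by decide +kernel
  hh1 := by decide +kernel
  hch := chk_main
  hwU := by decide +kernel
  hwp := by decide +kernel
  hwne := by decide +kernel
  htU := by decide +kernel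
  hu₀ := by decide +kernel
  hmv := by decide +kernel

end Cfsg.Agent.SU3K5
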