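import Cfsg.Agent.Lib.SU3C

/-!
The normaliser of the extraspecial group of order `27` in `SU₃(5)` is not maximal: it lies in `3 × M₁₀`, the stabiliser
of a set of `36` isotropic points.
-/

set_option autoImplicit false
set_option linter.unusedSectionVars false
set_option linter.unusedVariables false
set_option linter.style.longLine false
set_option maxRecDepth 100000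

namespace Cfsg.Agent.SU3R5

open Matrix Cfsg Cfsg.Geo Cfsg.Agent.H97.Asch Cfsg.Agent.SU3H Cfsg.Agent.SU3C
open scoped MatrixGroups commutatorElement

/-- The diagonal generator. -/
def A₀ : M3 := ⟨1, 0, 0, 0, 17, 0, 0, 0, 12⟩
/-- The cyclic generator. -/
def B₀ : M3 := ⟨0, 0, 1, 1, 0, 0, 0, 1, 0⟩
/-- The central generator. -/
def Z₀ : M3 := ⟨17, 0, 0, 0, 17, 0, 0, 0, 17⟩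
/-- The elements of the group. -/
def rr (s j k : ℕ) : M3 := M3.mul 5 (M3.mul 5 (M3.pow 5 Z₀ s) (M3.pow 5 A₀ j)) (M3.pow 5 B₀ k)
/-- The list of elements of the group. -/
def R0 : List M3 := [⟨0, 0, 1, 1, 0, 0, 0, 1, 0⟩, ⟨0, 0, 1, 12, 0, 0, 0, 17, 0⟩, ⟨0, 0, 1, 17, 0, 0, 0, 12, 0⟩, ⟨0, 0, 12, 1, 0, 0, 0, 17, 0⟩, ⟨0, 0, 12, 12, 0, 0, 0, 12, 0⟩, ⟨0, 0, 12, 17, 0, 0, 0, 1, 0⟩, ⟨0, 0, 17, 1, 0, 0, 0, 12, 0⟩, ⟨0, 0, 17, 12, 0, 0, 0, 1, 0⟩, ⟨0, 0, 17, 17, 0, 0, 0, 17, 0⟩, ⟨0, 1, 0, 0, 0, 1, 1, 0, 0⟩, ⟨0, 1, 0, 0, 0, 12, 17, 0, 0⟩, ⟨0, 1, 0, 0, 0, 17, 12, 0, 0⟩, ⟨0, 12, 0, 0, 0, 1, 17, 0, 0⟩, ⟨0, 12, 0, 0, 0, 12, 12, 0, 0⟩, ⟨0, 12, 0, 0, 0, 17, 1, 0, 0⟩, ⟨0, 17, 0, 0, 0, 1, 12, 0, 0⟩, ⟨0, 17, 0, 0, 0, 12, 1, 0, 0⟩, ⟨0, 17,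 0, 0, 0, 17, 17, 0, 0⟩, ⟨1, 0, 0, 0, 1, 0, 0, 0, 1⟩, ⟨1, 0, 0, 0, 12, 0, 0, 0, 17⟩, ⟨1, 0, 0, 0, 17, 0, 0, 0, 12⟩, ⟨12, 0, 0, 0, 1, 0, 0, 0, 17⟩, ⟨12, 0, 0, 0, 12, 0, 0, 0, 12⟩, ⟨12, 0, 0, 0, 17, 0, 0, 0, 1⟩, ⟨17, 0, 0, 0, 1, 0, 0, 0, 12⟩, ⟨17, 0, 0, 0, 12, 0, 0, 0, 1⟩, ⟨17, 0, 0, 0, 17, 0, 0, 0, 17⟩]
/-- The unit vectors on the eigenlines. -/
def El : List V3 := [⟨0, 0, 1⟩, ⟨0, 0, 4⟩, ⟨0, 0, 12⟩, ⟨0, 0, 13⟩, ⟨0, 0, 17⟩, ⟨0, 0, 18⟩, ⟨0, 1, 0⟩, ⟨0, 4, 0⟩, ⟨0, 12, 0⟩, ⟨0, 13, 0⟩, ⟨0, 17, 0⟩, ⟨0, 18, 0⟩, ⟨1, 0, 0⟩, ⟨4, 0, 0⟩, ⟨7, 7, 7⟩, ⟨7, 7, 8⟩, ⟨7, 7, 15⟩, ⟨7, 8, 7⟩, ⟨7, 8, 8⟩, ⟨7, 8, 15⟩, ⟨7, 15, 7⟩, ⟨7, 15, 8⟩, ⟨7, 15, 15⟩, ⟨8, 7, 7⟩, ⟨8, 7, 8⟩, ⟨8, 7, 15⟩, ⟨8, 8, 7⟩, ⟨8, 8, 8⟩, ⟨8, 8, 15⟩, ⟨8, 15, 7⟩, ⟨8, 15, 8⟩,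 ⟨8, 15, 15⟩, ⟨10, 10, 10⟩, ⟨10, 10, 22⟩, ⟨10, 10, 23⟩, ⟨10, 22, 10⟩, ⟨10, 22, 22⟩, ⟨10, 22, 23⟩, ⟨10, 23, 10⟩, ⟨10, 23, 22⟩, ⟨10, 23, 23⟩, ⟨12, 0, 0⟩, ⟨13, 0, 0⟩, ⟨15, 7, 7⟩, ⟨15, 7, 8⟩, ⟨15, 7, 15⟩, ⟨15, 8, 7⟩, ⟨15, 8, 8⟩, ⟨15, 8, 15⟩, ⟨15, 15, 7⟩, ⟨15, 15, 8⟩, ⟨15, 15, 15⟩, ⟨17, 0, 0⟩, ⟨18, 0, 0⟩, ⟨22, 10, 10⟩, ⟨22, 10, 22⟩, ⟨22, 10, 23⟩, ⟨22, 22, 10⟩, ⟨22, 22, 22⟩, ⟨22, 22, 23⟩, ⟨22, 23, 10⟩, ⟨22, 23, 22⟩, ⟨22, 23, 23⟩, ⟨23, 10, 10⟩, ⟨23, 10, 22⟩, ⟨23, 10, 23⟩, ⟨23, 22, 10⟩, ⟨23, 22, 22⟩, ⟨23, 22, 23⟩, ⟨23, 23, 10⟩, ⟨23, 23, 22⟩, ⟨23, 23, 23⟩]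
/-- The invariant points. -/
def X1 : List V3 := [⟨1, 1, 5⟩, ⟨1, 1, 11⟩, ⟨1, 1, 16⟩, ⟨1, 1, 19⟩, ⟨1, 5, 1⟩, ⟨1, 5, 17⟩, ⟨1, 7, 7⟩, ⟨1, 7, 8⟩, ⟨1, 8, 7⟩, ⟨1, 8, 15⟩, ⟨1, 10, 22⟩, ⟨1, 10, 23⟩, ⟨1, 11, 1⟩, ⟨1, 11, 12⟩, ⟨1, 12, 11⟩, ⟨1, 12, 14⟩, ⟨1, 12, 16⟩, ⟨1, 12, 20⟩, ⟨1, 14, 12⟩, ⟨1, 14, 17⟩, ⟨1, 15, 8⟩, ⟨1, 15, 15⟩, ⟨1, 16, 1⟩, ⟨1, 16, 12⟩, ⟨1, 17, 5⟩, ⟨1, 17, 14⟩, ⟨1, 17, 19⟩, ⟨1, 17, 20⟩, ⟨1, 19, 1⟩, ⟨1, 19, 17⟩, ⟨1, 20, 12⟩, ⟨1, 20, 17⟩, ⟨1, 22, 10⟩, ⟨1, 22, 22⟩, ⟨1, 23, 10⟩, ⟨1, 23, 23⟩]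
/-- An element of `M₁₀` outside the normaliser. -/
def w1 : M3 := ⟨1, 5, 22, 12, 10, 14, 3, 1, 1⟩
/-- An element of the torus. -/
def t1 : M3 := ⟨18, 0, 0, 0, 13, 0, 0, 0, 1⟩
/-- A point moved by the torus element. -/
def u0 : V3 := ⟨1, 1, 5⟩

/-- The norm of a coded vector. -/
def nrm (u : V3) : ℕ := fadd 5 (fadd 5 (fmul 5 u.x (fcj 5 u.x)) (fmul 5 u.y (fcj 5 u.y))) (fmul 5 u.z (fcj 5 u.z))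

/-- All reduced coded vectors satisfy a test. -/
def allV (P : V3 → Bool) : Bool :=
  (List.range 25).all fun x => (List.range 25).all fun y => (List.range 25).all fun z => P ⟨x, y, z⟩

theorem allV_spec {P : V3 → Bool} (h : allV P = true) {u : V3} (hx : u.x < 25) (hy : u.y < 25) (hz : u.z < 25) : P u = true := by
  unfold allV at h
  simp only [List.all_eq_true, List.mem_range] at h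
  exact h u.x hx u.y hy u.z hz

/-- A unit vector fixed by a non-identity element is on an eigenline. -/
def chkEl (u : V3) : Bool :=
  !(decide (nrm u = 1)) || R0.all fun r => decide (r = M3.one) || !(decide (M3.mulV 5 r u = u)) || El.contains u

/-- The candidates. -/
def chkCand : Bool :=
  El.all fun u => R0.all fun b =>
    let m := M3.ofCols u (M3.mulV 5 b u) (M3.mulV 5 b (M3.mulV 5 b u))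
    !(M3.isU 5 m) || pres 5 X1 m

theorem rr_mem : ∀ s j k : Fin 3, rr s j k ∈ R0 := by decide +kernel
theorem chkEl_all : allV chkEl = true := by decide +kernel
theorem chkCand_ok : chkCand = true := by decide +kernel
theorem w1_U : M3.isU 5 w1 = true := by decide +kernel
theorem t1_U : M3.isU 5 t1 = true := by decide +kernel
theorem w1_pres : pres 5 X1 w1 = true := by decide +kernel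
theorem u0_mem : u0 ∈ X1 := by decide +kernel
theorem t1_mv : X1.all (V3.notProp 5 (M3.mulV 5 t1 u0)) = true := by decide +kernel
theorem w1_not : ∀ r ∈ R0, M3.mul 5 w1 A₀ ≠ M3.mul 5 r w1 := by decide +kernel

end Cfsg.Agent.SU3R5
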