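import Mathlib
import Cfsg.Agent.Lib.SUMinDeg5

/-!
# The main recursion for the minimal degree of `SU_n`
-/

set_option autoImplicit false
set_option linter.unusedSectionVars false
set_option linter.unusedVariables false

namespace Cfsg.Agent.Lib.SUMinDeg

open Matrix Cfsg Cfsg.Agent.Lib.HermForm Cfsg.Agent.Lib.FFNorm Cfsg.Agent.Lib.UnitaryE
  Cfsg.Agent.Lib.UnitarySU Cfsg.Agent.Lib.FourierAb

variable {F : Type*} [Field F] [Fintype F] {q n k : ℕ}
variable (hF : Fintype.card F = q ^ 2)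

/-- The recursive lower bound. -/
def tgt (q : ℕ) : ℕ → ℕ
  | 0 => 0
  | 1 => 0
  | (d + 2) => (q - 1) * q ^ d + tgt q d

section decomposition

variable (R : SU n F q →* Matrix (Fin k) (Fin k) ℂ) {v : Fin n → F}
  (hv : hermForm n F q v v = 0) {Pj : Matrix (Fin k) (Fin k) ℂ} (hPj : Pj * Pj = Pj)
  (hcτ : ∀ c : Tz hF, R (tau hF v c.1) * Pj = Pj * R (tau hF v c.1))

include hcτ in
lemma comm_Pj_ee (ζ : AddChar (Tz hF) ℂ) : Pj * ee hF R v ζ = ee hF R v ζ * Pj := by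
  apply comm_eA
  intro a
  exact (hcτ a).symm

include hv hPj hcτ in
lemma E_idem (ζ : AddChar (Tz hF) ℂ) : (Pj * ee hF R v ζ) * (Pj * ee hF R v ζ) = Pj * ee hF R v ζ := by
  calc (Pj * ee hF R v ζ) * (Pj * ee hF R v ζ) = Pj * (ee hF R v ζ * Pj) * ee hF R v ζ := by noncomm_ring
    _ = Pj * (Pj * ee hF R v ζ) * ee hF R v ζ := by rw [comm_Pj_ee hF R hcτ]
    _ = (Pj * Pj) * (ee hF R v ζ * ee hF R v ζ) := by noncomm_ring
    _ = _ := by rw [hPj, ee_idem hF R hv]

include hv in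
lemma sum_E : ∑ ζ, Pj * ee hF R v ζ = Pj := by
  rw [← Finset.mul_sum, sum_ee hF R hv, mul_one]

include hv hPj hcτ in
lemma rk_eq_sum : rk Pj = ∑ ζ, rk (Pj * ee hF R v ζ) := by
  have h1 : Pj.trace = ∑ ζ, (Pj * ee hF R v ζ).trace := by
    rw [← Matrix.trace_sum, sum_E hF R hv]
  rw [trace_eq_rk Pj hPj] at h1
  simp only [fun ζ => trace_eq_rk _ (E_idem hF R hv hPj hcτ ζ)] at h1
  exact_mod_cast h1

include hv hcτ in
lemma tau_mul_E (ζ : AddChar (Tz hF) ℂ) (c : Tz hF) :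
    R (tau hF v c.1) * (Pj * ee hF R v ζ) = ζ c • (Pj * ee hF R v ζ) := by
  rw [← mul_assoc, hcτ, mul_assoc, tau_mul_ee hF R hv, Matrix.mul_smul]

include hv hcτ in
/-- A nontrivial action gives a nontrivial isotypic component. -/
lemma exists_E_ne {c₀ : Tz hF} (hne : R (tau hF v c₀.1) * Pj ≠ Pj) :
    ∃ ζ : AddChar (Tz hF) ℂ, ζ ≠ 1 ∧ Pj * ee hF R v ζ ≠ 0 := by
  classical
  by_contra hcon
  push Not at hcon
  apply hne
  have h1 : Pj = Pj * ee hF R v 1 := by
    conv_lhs => rw [← sum_E hF R hv (Pj := Pj)]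
    rw [Finset.sum_eq_single 1]
    · intro ζ _ hζ
      exact hcon ζ hζ
    · simp
  rw [h1, tau_mul_E hF R hv hcτ]
  simp

/-- The number of nontrivial characters. -/
lemma card_nontrivial [DecidableEq (AddChar (Tz hF) ℂ)] :
    (Finset.univ.erase (1 : AddChar (Tz hF) ℂ)).card = q - 1 := by
  rw [Finset.card_erase_of_mem (Finset.mem_univ _), Finset.card_univ, AddChar.card_eq, card_Tz hF]

include hv hPj hcτ in
/-- All nontrivial characters have the same multiplicity: rank count. -/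
lemma rk_count {m : ℕ} (hm : ∀ ζ : AddChar (Tz hF) ℂ, ζ ≠ 1 → rk (Pj * ee hF R v ζ) = m) :
    rk Pj = rk (Pj * ee hF R v 1) + (q - 1) * m := by
  classical
  rw [rk_eq_sum hF R hv hPj hcτ, ← Finset.add_sum_erase _ _ (Finset.mem_univ (1 : AddChar (Tz hF) ℂ))]
  congr 1
  rw [Finset.sum_congr rfl (fun ζ hζ => hm ζ (Finset.ne_of_mem_erase hζ)), Finset.sum_const,
    card_nontrivial hF, smul_eq_mul]

include hv hPj hcτ in
/-- The rank is constant on nontrivial characters. -/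
lemma rk_E_eq (hD : ∀ α : F, α ≠ 0 → ∃ D : SU n F q, R D * Pj = Pj * R D ∧ act D v = α • v)
    (ζ ζ' : AddChar (Tz hF) ℂ) (hζ : ζ ≠ 1) (hζ' : ζ' ≠ 1) :
    rk (Pj * ee hF R v ζ) = rk (Pj * ee hF R v ζ') := by
  obtain ⟨f, hf, hf0, rfl⟩ := exists_mul_of_ne_one hF ζ' ζ hζ' hζ
  obtain ⟨α, hα0, hα⟩ := exists_norm_eq hF hf0 hf
  obtain ⟨D, hD1, hD2⟩ := hD α hα0
  have hT : ∀ c : Tz hF, R D * rZ hF R v c = rZ hF R v (mulTz hF f hf hf0 c) * R D := by
    intro c
    simp only [rZ]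
    rw [← map_mul, ← map_mul, conj_tau hF D hv c.2, hD2, tau_smul hF hv c.2]
    congr 2
    simp only [mulTz, AddEquiv.coe_mk, Equiv.coe_fn_mk]
    rw [← hα]
    ring_nf
  have h1 := conj_eA (r := rZ hF R v) (T := R D) (mulTz hF f hf hf0) hT ζ'
  refine rk_eq_of_conj (T := R D) (T' := R D⁻¹) (by rw [← map_mul, mul_inv_cancel, map_one])
    (by rw [← map_mul, inv_mul_cancel, map_one]) (E_idem hF R hv hPj hcτ _) (E_idem hF R hv hPj hcτ _) ?_
  rw [← mul_assoc, hD1, mul_assoc]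
  change Pj * (R D * eA (rZ hF R v) (ζ'.compAddMonoidHom (mulTz hF f hf hf0).toAddMonoidHom)) = _
  rw [h1, ← mul_assoc]
  rfl

include hv hPj hcτ in
/-- The trace of a central element. -/
lemma trace_tau {c₀ : Tz hF} (hc0 : c₀.1 ≠ 0) {m : ℕ}
    (hm : ∀ ζ : AddChar (Tz hF) ℂ, ζ ≠ 1 → rk (Pj * ee hF R v ζ) = m) :
    (R (tau hF v c₀.1) * Pj).trace = (rk (Pj * ee hF R v 1) : ℂ) - m := by
  classical
  have h1 : R (tau hF v c₀.1) * Pj = ∑ ζ, ζ c₀ • (Pj * ee hF R v ζ) := by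
    conv_lhs => rw [← sum_E hF R hv (Pj := Pj)]
    rw [Finset.mul_sum]
    exact Finset.sum_congr rfl fun ζ _ => tau_mul_E hF R hv hcτ ζ c₀
  have h2 : ∑ ζ : AddChar (Tz hF) ℂ, ζ c₀ = 0 := by
    rw [AddChar.sum_apply_eq_ite, if_neg]
    intro h
    exact hc0 (by rw [h]; rfl)
  rw [h1, Matrix.trace_sum]
  simp only [Matrix.trace_smul, smul_eq_mul, fun ζ => trace_eq_rk _ (E_idem hF R hv hPj hcτ ζ)]
  rw [← Finset.add_sum_erase _ _ (Finset.mem_univ (1 : AddChar (Tz hF) ℂ))]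
  have h3 : ∑ ζ ∈ Finset.univ.erase (1 : AddChar (Tz hF) ℂ), ζ c₀ * ((rk (Pj * ee hF R v ζ) : ℕ) : ℂ) =
      (∑ ζ ∈ Finset.univ.erase (1 : AddChar (Tz hF) ℂ), ζ c₀) * m := by
    rw [Finset.sum_mul]
    refine Finset.sum_congr rfl fun ζ hζ => ?_
    rw [hm ζ (Finset.ne_of_mem_erase hζ)]
  rw [h3]
  have h4 := Finset.add_sum_erase Finset.univ (fun ζ : AddChar (Tz hF) ℂ => ζ c₀)
    (Finset.mem_univ (1 : AddChar (Tz hF) ℂ))
  rw [h2] at h4
  have h5 : ∑ ζ ∈ Finset.univ.erase (1 : AddChar (Tz hF) ℂ), ζ c₀ = -1 := by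
    simp only [AddChar.one_apply] at h4
    linear_combination h4
  rw [h5]
  simp
  ring

end decomposition

section main

variable (R : SU n F q →* Matrix (Fin k) (Fin k) ℂ)

/-- The main recursion. -/
theorem main_bound {a b : F} (ha : a ^ q * a = -1) (hb : b + b ^ q = -1) (c₀ : Tz hF) (hc0 : c₀.1 ≠ 0) :
    ∀ (d : ℕ) (S : Finset (Fin n)), S.card = d → 3 ≤ d → ∀ Pj : Matrix (Fin k) (Fin k) ℂ,
      Pj * Pj = Pj → (∀ g, InL S g → R g * Pj = Pj * R g) →
      ∀ i j, i ∈ S → j ∈ S → i ≠ j → R (tau hF (vv a i j) c₀.1) * Pj ≠ Pj → tgt q d ≤ rk Pj := by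
  classical
  intro d
  induction d using Nat.strong_induction_on with
  | _ d IH =>
  intro S hS hd Pj hPj hcomm i j hi hj hij hne
  have hq2 : 2 ≤ q := two_le hF
  set v := vv a i j with hvdef
  set w := ww a b i j with hwdef
  have hvv : hermForm n F q v v = 0 := vv_iso hF ha hij
  have hww : hermForm n F q w w = 0 := ww_iso hF ha hb hij
  have hvw : hermForm n F q v w = 1 := vv_ww hF ha hij
  have hvS : ∀ l, l ∉ S → v l = 0 := fun l hl =>
    vv_other (fun h => hl (h ▸ hi)) (fun h => hl (h ▸ hj))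
  have hwS : ∀ l, l ∉ S → w l = 0 := fun l hl =>
    ww_other (fun h => hl (h ▸ hi)) (fun h => hl (h ▸ hj))
  set S' := (S.erase i).erase j with hS'def
  have hS'mem : ∀ l, l ∈ S' ↔ l ≠ j ∧ l ≠ i ∧ l ∈ S := by
    intro l
    simp [hS'def, Finset.mem_erase]
  have hS'card : S'.card + 2 = d := by
    rw [hS'def, Finset.card_erase_of_mem (Finset.mem_erase.2 ⟨hij.symm, hj⟩),
      Finset.card_erase_of_mem hi, hS]
    omega
  have hvS' : ∀ l ∈ S', v l = 0 := fun l hl => by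
    obtain ⟨h1, h2, _⟩ := (hS'mem l).1 hl
    exact vv_other h2 h1
  have hwS' : ∀ l ∈ S', w l = 0 := fun l hl => by
    obtain ⟨h1, h2, _⟩ := (hS'mem l).1 hl
    exact ww_other h2 h1
  have hS'sub : S' ⊆ S := fun l hl => ((hS'mem l).1 hl).2.2
  have hcτ : ∀ c : Tz hF, R (tau hF v c.1) * Pj = Pj * R (tau hF v c.1) := fun c =>
    hcomm _ (inL_mkE hF (good_tau hF hvv c.2) hvS (fun _ _ => rfl))
  obtain ⟨i₃, hi₃⟩ : S'.Nonempty := by
    rw [← Finset.card_pos]; omega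
  have hv3 : v i₃ = 0 := hvS' i₃ hi₃
  have hD : ∀ α : F, α ≠ 0 → ∃ D : SU n F q, R D * Pj = Pj * R D ∧ act D v = α • v := by
    intro α hα
    obtain ⟨D, h1, h2⟩ := exists_torus hF hvv hww hvw hvS hwS (hS'sub hi₃) hv3 hα
    exact ⟨D, hcomm D h1, h2⟩
  obtain ⟨ζ₀, hζ₀, hE₀⟩ := exists_E_ne hF R hvv hcτ hne
  set m := rk (Pj * ee hF R v ζ₀) with hm
  have hrk : ∀ ζ : AddChar (Tz hF) ℂ, ζ ≠ 1 → rk (Pj * ee hF R v ζ) = m := fun ζ hζ =>
    rk_E_eq hF R hvv hPj hcτ hD ζ ζ₀ hζ hζ₀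
  have hcount := rk_count hF R hvv hPj hcτ hrk
  -- Heisenberg
  have hxgood : ∀ y : S' → F, Good q v (extS S' y) (sig hF (extS S' y)) := fun y =>
    good_xx hF hvv (herm_extS hF S' hvS' y)
  have hxL : ∀ y : S' → F, InL S (xx hF v (extS S' y)) := fun y =>
    inL_mkE hF (hxgood y) hvS (fun l hl => extS_apply_not S' y (fun h => hl (hS'sub h)))
  have hmbound : q ^ S'.card ≤ m := by
    refine heis_bound hF R hvv S' hvS' (E_idem hF R hvv hPj hcτ ζ₀) hE₀ ?_ ζ₀ hζ₀ ?_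
    · intro y
      calc R (xx hF v (extS S' y)) * (Pj * ee hF R v ζ₀)
          = (R (xx hF v (extS S' y)) * Pj) * ee hF R v ζ₀ := by rw [mul_assoc]
        _ = Pj * (R (xx hF v (extS S' y)) * ee hF R v ζ₀) := by
          rw [hcomm _ (hxL y), mul_assoc]
        _ = Pj * (ee hF R v ζ₀ * R (xx hF v (extS S' y))) := by
          congr 1
          exact comm_ee_mkE hF R hvv (hxgood y) ζ₀
        _ = _ := by rw [mul_assoc]
    · exact fun c => tau_mul_E hF R hvv hcτ ζ₀ c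
  -- the case `d = 3`
  obtain ⟨d', rfl⟩ : ∃ d', d = d' + 2 := ⟨d - 2, by omega⟩
  have hS'c : S'.card = d' := by omega
  rw [hS'c] at hmbound
  have htgt : tgt q (d' + 2) = (q - 1) * q ^ d' + tgt q d' := rfl
  have hmain : (q - 1) * q ^ d' ≤ (q - 1) * m := Nat.mul_le_mul_left _ hmbound
  by_cases hd1 : d' = 1
  · subst hd1
    have : tgt q 1 = 0 := rfl
    rw [htgt, this, hcount]
    omega
  have hd2 : 2 ≤ d' := by omega
  -- second plane
  obtain ⟨i₄, hi₄, hne34⟩ : ∃ i₄ ∈ S', i₄ ≠ i₃ := by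
    by_contra hcon
    push Not at hcon
    have : S' = {i₃} := by
      ext l
      simp only [Finset.mem_singleton]
      exact ⟨hcon l, fun h => h ▸ hi₃⟩
    rw [this, Finset.card_singleton] at hS'c
    omega
  have hne34' : i₃ ≠ i₄ := hne34.symm
  set v' := vv a i₃ i₄ with hv'def
  set w' := ww a b i₃ i₄ with hw'def
  have hv'v' : hermForm n F q v' v' = 0 := vv_iso hF ha hne34'
  have hw'w' : hermForm n F q w' w' = 0 := ww_iso hF ha hb hne34'
  have hv'w' : hermForm n F q v' w' = 1 := vv_ww hF ha hne34'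
  have hw'v' : hermForm n F q w' v' = 1 := ww_vv hF ha hne34'
  have h3i : i₃ ≠ i := ((hS'mem i₃).1 hi₃).2.1
  have h3j : i₃ ≠ j := ((hS'mem i₃).1 hi₃).1
  have h4i : i₄ ≠ i := ((hS'mem i₄).1 hi₄).2.1
  have h4j : i₄ ≠ j := ((hS'mem i₄).1 hi₄).1
  have hv'S' : ∀ l, l ∉ S' → v' l = 0 := fun l hl =>
    vv_other (fun h => hl (h ▸ hi₃)) (fun h => hl (h ▸ hi₄))
  have hw'S' : ∀ l, l ∉ S' → w' l = 0 := fun l hl =>
    ww_other (fun h => hl (h ▸ hi₃)) (fun h => hl (h ▸ hi₄))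
  have hv'S : ∀ l, l ∉ S → v' l = 0 := fun l hl => hv'S' l (fun h => hl (hS'sub h))
  have hw'S : ∀ l, l ∉ S → w' l = 0 := fun l hl => hw'S' l (fun h => hl (hS'sub h))
  have horth : ∀ x y : Fin n → F, (∀ l ∈ S', x l = 0) → (∀ l, l ∉ S' → y l = 0) →
      hermForm n F q x y = 0 ∧ hermForm n F q y x = 0 := by
    intro x y hx hy
    constructor
    · apply herm_zero_of_support hF
      intro l
      by_cases hl : l ∈ S'
      · exact Or.inl (hx l hl)
      · exact Or.inr (hy l hl)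
    · apply herm_zero_of_support hF
      intro l
      by_cases hl : l ∈ S'
      · exact Or.inr (hx l hl)
      · exact Or.inl (hy l hl)
  have hv'v : hermForm n F q v' v = 0 := (horth v v' hvS' hv'S').2
  have hvv' : hermForm n F q v v' = 0 := (horth v v' hvS' hv'S').1
  have hw'v : hermForm n F q w' v = 0 := (horth v w' hvS' hw'S').2
  have hvw' : hermForm n F q v w' = 0 := (horth v w' hvS' hw'S').1
  have hv'w : hermForm n F q v' w = 0 := (horth w v' hwS' hv'S').2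
  -- the transvection `t`
  have hc₀ := c₀.2
  rw [mem_Tz] at hc₀
  set t := tau hF v' c₀.1 with ht
  have hactt : act t v = v := by
    rw [ht, act_tau hF hv'v' hc₀, hvv']
    simp
  have htL : InL S t := inL_mkE hF (good_tau hF hv'v' hc₀) hv'S (fun _ _ => rfl)
  -- commutations with `ee` of elements of the Heisenberg group
  have hEcomm : ∀ (y : Fin n → F) (s : F), Good q v y s → (∀ l, l ∉ S → y l = 0) →
      ∀ ζ, R (mkE hF v y s) * (Pj * ee hF R v ζ) = (Pj * ee hF R v ζ) * R (mkE hF v y s) := by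
    intro y s hg hy ζ
    calc R (mkE hF v y s) * (Pj * ee hF R v ζ) = (R (mkE hF v y s) * Pj) * ee hF R v ζ := by
          rw [mul_assoc]
      _ = Pj * (R (mkE hF v y s) * ee hF R v ζ) := by
          rw [hcomm _ (inL_mkE hF hg hvS hy), mul_assoc]
      _ = Pj * (ee hF R v ζ * R (mkE hF v y s)) := by rw [comm_ee_mkE hF R hvv hg ζ]
      _ = _ := by rw [mul_assoc]
  have hEt : ∀ ζ, R t * (Pj * ee hF R v ζ) = (Pj * ee hF R v ζ) * R t := by
    intro ζ
    calc R t * (Pj * ee hF R v ζ) = (R t * Pj) * ee hF R v ζ := by rw [mul_assoc]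
      _ = Pj * (R t * ee hF R v ζ) := by rw [hcomm _ htL, mul_assoc]
      _ = Pj * (ee hF R v ζ * R t) := by rw [comm_ee hF R hvv hactt ζ]
      _ = _ := by rw [mul_assoc]
  -- the trace bound on nontrivial components
  have hbound : ∀ ζ : AddChar (Tz hF) ℂ, ζ ≠ 1 →
      (q : ℝ) * ‖(R t * (Pj * ee hF R v ζ)).trace‖ ≤ (m : ℝ) := by
    intro ζ hζ
    rw [← hrk ζ hζ]
    refine trace_bound hF R hvv hv'v' hv'v hw'v' hw'v c₀ hc0 (E_idem hF R hvv hPj hcτ ζ) (hEt ζ) ?_ ?_ ζ hζ ?_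
    · intro μ s hg
      refine hEcomm _ s hg (fun l hl => ?_) ζ
      simp [hw'S l hl]
    · intro a'
      have hg := good_B hF hvv hv'v' hv'v a'
      exact (hEcomm _ _ hg (fun l hl => by simp [hv'S l hl]) ζ).symm
    · exact fun c => tau_mul_E hF R hvv hcτ ζ c
  -- the claim
  have hqR : (0 : ℝ) < q := by positivity
  have hmpos : 0 < m := lt_of_lt_of_le (pow_pos (by omega) _) hmbound
  have hclaim : R t * (Pj * ee hF R v 1) ≠ Pj * ee hF R v 1 := by
    intro heq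
    obtain ⟨g, hg1, hg2⟩ := exists_perm (q := q) (S := S) a hi hj (hS'sub hi₃) (hS'sub hi₄) hij hne34'
      h3i.symm h4i.symm h3j.symm h4j.symm
    have hconj : g * tau hF v c₀.1 = t * g := by
      rw [conj_tau hF g hvv hc₀, hg2]
    have htr1 : (R t * Pj).trace = (R (tau hF v c₀.1) * Pj).trace := by
      have h1 : R t = R g * R (tau hF v c₀.1) * R g⁻¹ := by
        have : t = g * tau hF v c₀.1 * g⁻¹ := by
          rw [hconj]; group
        rw [this, map_mul, map_mul]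
      have h2 : R g⁻¹ * R g = 1 := by rw [← map_mul, inv_mul_cancel, map_one]
      rw [h1]
      calc (R g * R (tau hF v c₀.1) * R g⁻¹ * Pj).trace
          = (R g * (R (tau hF v c₀.1) * R g⁻¹ * Pj)).trace := by noncomm_ring
        _ = ((R (tau hF v c₀.1) * R g⁻¹ * Pj) * R g).trace := Matrix.trace_mul_comm _ _
        _ = (R (tau hF v c₀.1) * R g⁻¹ * (Pj * R g)).trace := by noncomm_ring
        _ = (R (tau hF v c₀.1) * (R g⁻¹ * R g) * Pj).trace := by
          rw [← hcomm g hg1]; noncomm_ring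
        _ = _ := by rw [h2, mul_one]
    rw [trace_tau hF R hvv hPj hcτ hc0 hrk] at htr1
    have hsum : (R t * Pj).trace = ∑ ζ, (R t * (Pj * ee hF R v ζ)).trace := by
      rw [← Matrix.trace_sum, ← Finset.mul_sum, sum_E hF R hvv]
    rw [hsum, ← Finset.add_sum_erase _ _ (Finset.mem_univ (1 : AddChar (Tz hF) ℂ)), heq,
      trace_eq_rk _ (E_idem hF R hvv hPj hcτ 1)] at htr1
    have h5 : ∑ ζ ∈ Finset.univ.erase (1 : AddChar (Tz hF) ℂ), (R t * (Pj * ee hF R v ζ)).trace =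
        -(m : ℂ) := by
      linear_combination htr1
    have h6 : (m : ℝ) ≤ ∑ ζ ∈ Finset.univ.erase (1 : AddChar (Tz hF) ℂ),
        ‖(R t * (Pj * ee hF R v ζ)).trace‖ := by
      have := norm_sum_le (Finset.univ.erase (1 : AddChar (Tz hF) ℂ))
        (fun ζ => (R t * (Pj * ee hF R v ζ)).trace)
      rw [h5, norm_neg, Complex.norm_natCast] at this
      exact this
    have h7 : (q : ℝ) * (m : ℝ) ≤ ((q : ℝ) - 1) * (m : ℝ) := by
      calc (q : ℝ) * (m : ℝ) ≤ (q : ℝ) * ∑ ζ ∈ Finset.univ.erase (1 : AddChar (Tz hF) ℂ),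
            ‖(R t * (Pj * ee hF R v ζ)).trace‖ := mul_le_mul_of_nonneg_left h6 hqR.le
        _ = ∑ ζ ∈ Finset.univ.erase (1 : AddChar (Tz hF) ℂ),
            (q : ℝ) * ‖(R t * (Pj * ee hF R v ζ)).trace‖ := Finset.mul_sum _ _ _
        _ ≤ ∑ ζ ∈ Finset.univ.erase (1 : AddChar (Tz hF) ℂ), (m : ℝ) :=
            Finset.sum_le_sum fun ζ hζ => hbound ζ (Finset.ne_of_mem_erase hζ)
        _ = _ := by
          rw [Finset.sum_const, card_nontrivial hF, nsmul_eq_mul, Nat.cast_sub (by omega)]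
          simp
    have h8 : (0 : ℝ) < m := by exact_mod_cast hmpos
    nlinarith
  -- conclusion
  set Pj' := Pj * ee hF R v 1 with hPj'
  have hPj'idem : Pj' * Pj' = Pj' := E_idem hF R hvv hPj hcτ 1
  by_cases hd3 : d' = 2
  · -- the case `d = 4`
    subst hd3
    have htgt2 : tgt q 2 = q - 1 := by
      change (q - 1) * q ^ 0 + tgt q 0 = q - 1
      simp [tgt]
    rw [htgt, htgt2, hcount]
    -- the action of the second transvection group
    have hcτ' : ∀ c : Tz hF, R (tau hF v' c.1) * Pj' = Pj' * R (tau hF v' c.1) := by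
      intro c
      have hL : InL S (tau hF v' c.1) := inL_mkE hF (good_tau hF hv'v' c.2) hv'S (fun _ _ => rfl)
      have hact : act (tau hF v' c.1) v = v := by
        have hc := c.2
        rw [mem_Tz] at hc
        rw [act_tau hF hv'v' hc, hvv']
        simp
      calc R (tau hF v' c.1) * Pj' = (R (tau hF v' c.1) * Pj) * ee hF R v 1 := by
            rw [hPj', mul_assoc]
        _ = Pj * (R (tau hF v' c.1) * ee hF R v 1) := by rw [hcomm _ hL, mul_assoc]
        _ = Pj * (ee hF R v 1 * R (tau hF v' c.1)) := by rw [comm_ee hF R hvv hact]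
        _ = _ := by rw [hPj', mul_assoc]
    obtain ⟨ζ₁, hζ₁, hE₁⟩ := exists_E_ne hF R hv'v' hcτ' hclaim
    have hD' : ∀ α : F, α ≠ 0 → ∃ D : SU n F q, R D * Pj' = Pj' * R D ∧ act D v' = α • v' := by
      intro α hα
      obtain ⟨D, h1, h2, h3⟩ := exists_torus2 hF hvv hww hvw hv'v' hw'w' hv'w' hvv' hvw' hv'v hv'w
        hvS hwS hv'S hw'S hα
      refine ⟨D, ?_, h3⟩
      -- `D` normalises the centre, hence commutes with the trivial idempotent
      have hTz : ∀ c : Tz hF, ((α ^ q) * (α ^ q) ^ q) * c.1 ∈ Tz hF := by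
        intro c
        have hc := c.2
        rw [mem_Tz] at hc ⊢
        rw [mul_pow, mul_pow, pow_pow_self hF]
        linear_combination (α ^ q * α) * hc
      have hf : (α ^ q * (α ^ q) ^ q) ^ q = α ^ q * (α ^ q) ^ q := by
        rw [mul_pow, pow_pow_self hF]
        ring
      have hf0 : α ^ q * (α ^ q) ^ q ≠ 0 :=
        mul_ne_zero (pow_ne_zero _ hα) (pow_ne_zero _ (pow_ne_zero _ hα))
      have hT : ∀ c : Tz hF, R D * rZ hF R v c = rZ hF R v (mulTz hF _ hf hf0 c) * R D := by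
        intro c
        simp only [rZ]
        rw [← map_mul, ← map_mul, conj_tau hF D hvv c.2, h2, tau_smul hF hvv c.2]
        rfl
      have h4 := conj_eA (r := rZ hF R v) (T := R D) (mulTz hF _ hf hf0) hT 1
      have h5 : (1 : AddChar (Tz hF) ℂ).compAddMonoidHom (mulTz hF _ hf hf0).toAddMonoidHom = 1 := by
        ext c
        simp
      rw [h5] at h4
      calc R D * Pj' = (R D * Pj) * ee hF R v 1 := by rw [hPj', mul_assoc]
        _ = Pj * (R D * ee hF R v 1) := by rw [hcomm D h1, mul_assoc]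
        _ = Pj * (ee hF R v 1 * R D) := by
          congr 1
        _ = _ := by rw [hPj', mul_assoc]
    have hrk' : ∀ ζ : AddChar (Tz hF) ℂ, ζ ≠ 1 →
        rk (Pj' * ee hF R v' ζ) = rk (Pj' * ee hF R v' ζ₁) := fun ζ hζ =>
      rk_E_eq hF R hv'v' hPj'idem hcτ' hD' ζ ζ₁ hζ hζ₁
    have hcount' := rk_count hF R hv'v' hPj'idem hcτ' hrk'
    have hpos : 0 < rk (Pj' * ee hF R v' ζ₁) :=
      rk_pos_of_ne (E_idem hF R hv'v' hPj'idem hcτ' ζ₁) hE₁
    have h9 : q - 1 ≤ rk Pj' := by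
      rw [hcount']
      calc q - 1 = (q - 1) * 1 := (mul_one _).symm
        _ ≤ (q - 1) * rk (Pj' * ee hF R v' ζ₁) := Nat.mul_le_mul_left _ hpos
        _ ≤ _ := Nat.le_add_left _ _
    omega
  · -- the general case
    have hd4 : 3 ≤ d' := by omega
    have hcomm' : ∀ g, InL S' g → R g * Pj' = Pj' * R g := by
      intro g hg
      have hgv : act g v = v := hg.act_eq hvS'
      calc R g * Pj' = (R g * Pj) * ee hF R v 1 := by rw [hPj', mul_assoc]
        _ = Pj * (R g * ee hF R v 1) := by rw [hcomm g (hg.mono hS'sub), mul_assoc]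
        _ = Pj * (ee hF R v 1 * R g) := by rw [comm_ee hF R hvv hgv]
        _ = _ := by rw [hPj', mul_assoc]
    have hIH := IH d' (by omega) S' hS'c hd4 Pj' hPj'idem hcomm' i₃ i₄ hi₃ hi₄ hne34' hclaim
    rw [htgt, hcount]
    omega

end main


end Cfsg.Agent.Lib.SUMinDeg
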