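import Mathlib
import Cfsg.Agent.Lib.SUMinDeg6
import Cfsg.Agent.Lib.CharBasic
import Cfsg.Agent.S0780
import Cfsg.Agent.S2644

/-!
# The minimal degree of `SU_n`: final statement
-/

set_option autoImplicit false
set_option linter.unusedSectionVars false
set_option linter.unusedVariables false

namespace Cfsg.Agent.Lib.SUMinDeg

open Matrix Cfsg Cfsg.Agent.Lib.HermForm Cfsg.Agent.Lib.FFNorm Cfsg.Agent.Lib.UnitaryE
  Cfsg.Agent.Lib.UnitarySU Cfsg.Agent.Lib.FourierAb

variable {F : Type*} [Field F] [Fintype F] {q n k : ℕ}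

/-! ### Arithmetic of the bound -/

lemma tgt_even (p m : ℕ) : (p + 2) * tgt (p + 1) (2 * m) + 1 = (p + 1) ^ (2 * m) := by
  induction m with
  | zero => simp [tgt]
  | succ m ih =>
    have h1 : 2 * (m + 1) = 2 * m + 2 := by ring
    rw [h1]
    have h2 : tgt (p + 1) (2 * m + 2) = (p + 1 - 1) * (p + 1) ^ (2 * m) + tgt (p + 1) (2 * m) := rfl
    rw [h2]
    simp only [Nat.add_sub_cancel]
    calc (p + 2) * (p * (p + 1) ^ (2 * m) + tgt (p + 1) (2 * m)) + 1
        = (p + 2) * p * (p + 1) ^ (2 * m) + ((p + 2) * tgt (p + 1) (2 * m) + 1) := by ring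
      _ = _ := by rw [ih]; ring

lemma tgt_odd (p m : ℕ) : (p + 2) * tgt (p + 1) (2 * m + 1) + (p + 1) = (p + 1) ^ (2 * m + 1) := by
  induction m with
  | zero => simp [tgt]
  | succ m ih =>
    have h1 : 2 * (m + 1) + 1 = 2 * m + 1 + 2 := by ring
    rw [h1]
    have h2 : tgt (p + 1) (2 * m + 1 + 2) =
        (p + 1 - 1) * (p + 1) ^ (2 * m + 1) + tgt (p + 1) (2 * m + 1) := rfl
    rw [h2]
    simp only [Nat.add_sub_cancel]
    calc (p + 2) * (p * (p + 1) ^ (2 * m + 1) + tgt (p + 1) (2 * m + 1)) + (p + 1)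
        = (p + 2) * p * (p + 1) ^ (2 * m + 1) + ((p + 2) * tgt (p + 1) (2 * m + 1) + (p + 1)) := by ring
      _ = _ := by rw [ih]; ring

lemma div_eq_tgt_odd {q n : ℕ} (hq : 1 ≤ q) (hn : Odd n) : (q ^ n - q) / (q + 1) = tgt q n := by
  obtain ⟨p, rfl⟩ : ∃ p, q = p + 1 := ⟨q - 1, by omega⟩
  obtain ⟨m, rfl⟩ := hn
  have h := tgt_odd p m
  rw [← h]
  have h2 : (p + 2) * tgt (p + 1) (2 * m + 1) + (p + 1) - (p + 1) = tgt (p + 1) (2 * m + 1) * (p + 1 + 1) := by
    rw [Nat.add_sub_cancel]; ring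
  rw [h2, Nat.mul_div_cancel _ (by omega)]

lemma div_eq_tgt_even {q n : ℕ} (hq : 1 ≤ q) (hn : Even n) : (q ^ n - 1) / (q + 1) = tgt q n := by
  obtain ⟨p, rfl⟩ : ∃ p, q = p + 1 := ⟨q - 1, by omega⟩
  obtain ⟨m, rfl⟩ := hn
  have h := tgt_even p m
  rw [← two_mul, ← h]
  have h2 : (p + 2) * tgt (p + 1) (2 * m) + 1 - 1 = tgt (p + 1) (2 * m) * (p + 1 + 1) := by
    rw [Nat.add_sub_cancel]; ring
  rw [h2, Nat.mul_div_cancel _ (by omega)]

/-! ### Transvections act nontrivially -/

variable (hF : Fintype.card F = q ^ 2)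

lemma tau_matrix {v : Fin n → F} {c : F} (hv : hermForm n F q v v = 0) (hc : c + c ^ q = 0) :
    ((tau hF v c).1.1 : Matrix (Fin n) (Fin n) F) = unitaryTransvection n q v c := by
  apply eq_of_mulVec_eq
  intro x
  have h1 := act_tau hF hv hc x
  change ((tau hF v c).1.1 : Matrix (Fin n) (Fin n) F) *ᵥ x = x + (c * hermForm n F q x v) • v at h1
  rw [h1, mulVec_unitaryTransvection]

include hF in
/-- A unitary transvection which is not the identity is a transvection in the sense of the rank. -/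
lemma isTransvection_of {v : Fin n → F} {c : F} (hv : hermForm n F q v v = 0)
    (hne : unitaryTransvection n q v c ≠ 1) : IsTransvection (unitaryTransvection n q v c) := by
  have h1 : unitaryTransvection n q v c - 1 = c • vecMulVec v (fun j => v j ^ q) := by
    simp [unitaryTransvection]
  constructor
  · rw [h1]
    apply le_antisymm
    · have h0 : c • vecMulVec v (fun j => v j ^ q) =
          (c • (1 : Matrix (Fin n) (Fin n) F)) * vecMulVec v (fun j => v j ^ q) := by
        rw [Matrix.smul_mul, one_mul]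
      rw [h0]
      exact le_trans (Matrix.rank_mul_le_right _ _) (Matrix.rank_vecMulVec_le _ _)
    · by_contra hlt
      have h2 : (c • vecMulVec v (fun j => v j ^ q)).rank = 0 := by omega
      apply hne
      have h3 : (c • vecMulVec v (fun j => v j ^ q)) = 0 := by
        have h4 : LinearMap.range (c • vecMulVec v (fun j => v j ^ q)).mulVecLin = ⊥ :=
          Submodule.finrank_eq_zero.1 h2
        have h5 := LinearMap.range_eq_bot.1 h4
        apply Matrix.toLin'.injective
        rw [map_zero]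
        exact h5
      rw [← sub_eq_zero, h1, h3]
  · rw [h1]
    have h2 : (fun j => v j ^ q) ⬝ᵥ v = 0 := by
      rw [← hv]
      simp only [dotProduct, hermForm]
      exact Finset.sum_congr rfl fun _ _ => mul_comm _ _
    rw [Matrix.smul_mul, Matrix.mul_smul, Matrix.vecMulVec_mul_vecMulVec, h2]
    simp

/-- If one nontrivial transvection is in the kernel of `R`, `R` is trivial. -/
theorem R_trivial (hn : 3 ≤ n) (h32 : ¬ (n = 3 ∧ q = 2)) (R : SU n F q →* Matrix (Fin k) (Fin k) ℂ)
    {v : Fin n → F} {c : F} (hv : hermForm n F q v v = 0) (hc : c + c ^ q = 0)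
    (hne : unitaryTransvection n q v c ≠ 1)
    (h : R (tau hF v c) = 1) (g : SU n F q) : R g = 1 := by
  classical
  have hgen := Cfsg.Agent.S0780.result hF n hn h32
  have hg : g ∈ Subgroup.closure {A : ↥(Cfsg.SU n F q) | ∃ (v : Fin n → F) (c : F),
      Cfsg.hermForm n F q v v = 0 ∧
      ((A : Matrix.SpecialLinearGroup (Fin n) F) : Matrix (Fin n) (Fin n) F) =
        Cfsg.unitaryTransvection n q v c} := by
    rw [hgen]
    exact Subgroup.mem_top g
  induction hg using Subgroup.closure_induction with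
  | mem A hA =>
    obtain ⟨v', c', hv', hA'⟩ := hA
    by_cases hA1 : unitaryTransvection n q v' c' = 1
    · have : A = 1 := by
        apply Subtype.ext
        apply Subtype.ext
        rw [hA', hA1]
        rfl
      rw [this, map_one]
    · have h1 : IsTransvection (((A : GL (Fin n) F) : Matrix (Fin n) (Fin n) F)) := by
        have := isTransvection_of hF hv' hA1
        rw [← hA'] at this
        exact this
      have h2 : IsTransvection (((tau hF v c : GL (Fin n) F) : Matrix (Fin n) (Fin n) F)) := by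
        have := isTransvection_of hF hv hne
        rw [← tau_matrix hF hv hc] at this
        exact this
      obtain ⟨x, hx⟩ := isConj_iff.1 (Cfsg.Agent.S2644.result hF hn (tau hF v c) A h2 h1)
      rw [← hx, map_mul, map_mul, h, mul_one, ← map_mul, mul_inv_cancel, map_one]
  | one => exact map_one R
  | mul x y _ _ hx hy => rw [map_mul, hx, hy, one_mul]
  | inv x _ hx =>
    have h3 : R x⁻¹ * R x = 1 := by rw [← map_mul, inv_mul_cancel, map_one]
    rw [hx, mul_one] at h3
    exact h3

include hF in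
/-- The lower bound for irreducible representations. -/
theorem su_min_degree (hn : 3 ≤ n) (h32 : ¬ (n = 3 ∧ q = 2)) (k : ℕ)
    (ρ : Representation ℂ (Cfsg.SU n F q) (Fin k → ℂ)) (hρ : ρ.IsIrreducible) (hk : 2 ≤ k) :
    tgt q n ≤ k := by
  classical
  have hq2 : 2 ≤ q := two_le hF
  let R : SU n F q →* Matrix (Fin k) (Fin k) ℂ :=
    ((Matrix.toLinAlgEquiv' (R := ℂ) (n := Fin k)).symm.toAlgHom.toRingHom.toMonoidHom).comp
      (ρ : _ →* _)
  have hRρ : ∀ g, R g = 1 → ρ g = 1 := by
    intro g hg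
    have h1 : (Matrix.toLinAlgEquiv' (R := ℂ) (n := Fin k)).symm (ρ g) =
        (Matrix.toLinAlgEquiv' (R := ℂ) (n := Fin k)).symm 1 := by
      rw [map_one]
      exact hg
    exact (Matrix.toLinAlgEquiv' (R := ℂ) (n := Fin k)).symm.injective h1
  obtain ⟨a, ha0, ha⟩ := exists_norm_eq hF (μ := -1) (by simp) (by rw [neg_pow_q hF, one_pow])
  have ha' : a ^ q * a = -1 := by rw [← ha, pow_succ]
  obtain ⟨b, hb⟩ := exists_trace_eq hF (t := -1) (by rw [neg_pow_q hF, one_pow])
  obtain ⟨c₀, hc0, hc⟩ := exists_Tz_ne hF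
  let i : Fin n := ⟨0, by omega⟩
  let j : Fin n := ⟨1, by omega⟩
  have hij : i ≠ j := by simp [i, j, Fin.ext_iff]
  have hvv : hermForm n F q (vv a i j) (vv a i j) = 0 := vv_iso hF ha' hij
  have hmain := main_bound hF R ha' hb (c₀ := ⟨c₀, hc⟩) hc0 n Finset.univ (by simp) hn 1 (mul_one _)
    (fun g _ => by rw [one_mul, mul_one]) i j (Finset.mem_univ _) (Finset.mem_univ _) hij
  rw [rk_one] at hmain
  apply hmain
  rw [mul_one]
  intro hR
  -- the transvection is not the identity
  have hne : unitaryTransvection n q (vv a i j) c₀ ≠ 1 := by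
    intro h1
    have h2 := congrFun (congrFun h1 i) j
    simp only [unitaryTransvection, Matrix.add_apply, Matrix.one_apply, Matrix.smul_apply,
      Matrix.vecMulVec_apply, if_neg hij, smul_eq_mul, zero_add] at h2
    rw [vv_left hij, vv_right' hij, one_mul] at h2
    have ha2 : a ^ q ≠ 0 := pow_ne_zero _ ha0
    exact (mul_ne_zero hc0 ha2) h2
  have htriv : ∀ g, ρ g = 1 := fun g =>
    hRρ g (R_trivial hF hn h32 R hvv hc hne hR g)
  obtain ⟨_, hirr⟩ := (Cfsg.Agent.Lib.CharBasic.isIrreducible_iff ρ).1 hρ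
  let i0 : Fin k := ⟨0, by omega⟩
  let i1 : Fin k := ⟨1, by omega⟩
  have hi : i1 ≠ i0 := by simp [i0, i1, Fin.ext_iff]
  let U : Submodule ℂ (Fin k → ℂ) := Submodule.span ℂ {Pi.single i0 1}
  have hU : ∀ g, ∀ v ∈ U, ρ g v ∈ U := by
    intro g v hv
    rw [htriv g]
    exact hv
  rcases hirr U hU with h1 | h1
  · have h2 : (Pi.single i0 1 : Fin k → ℂ) ∈ U := Submodule.mem_span_singleton_self _
    rw [h1, Submodule.mem_bot] at h2
    have h3 := congrFun h2 i0
    simp at h3
  · have h2 : (Pi.single i1 1 : Fin k → ℂ) ∈ U := by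
      rw [h1]
      exact Submodule.mem_top
    obtain ⟨c, hc'⟩ := Submodule.mem_span_singleton.1 h2
    have h3 := congrFun hc' i1
    simp [Pi.single_apply, hi] at h3

end Cfsg.Agent.Lib.SUMinDeg
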