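import Mathlib
import Cfsg.Agent.Lib.SUCyc
import Cfsg.Agent.Lib.UnitarySU
import Cfsg.Agent.Lib.SpSpecEigen
import Cfsg.Agent.Lib.SL2Torus

/-!
# Self-dual polynomials from multisets of eigenvalues
-/

set_option autoImplicit false
set_option linter.unusedSectionVars false

namespace Cfsg.Agent.Lib.SUSpec

open Polynomial Matrix
open Cfsg Cfsg.Agent.Lib.UnitaryBasic Cfsg.Agent.Lib.UnitarySU Cfsg.Agent.Lib.SUCyc

/-- The twisted inversion. -/
def tw {K : Type*} [Field K] (q : ℕ) (z : K) : K := (z ^ q)⁻¹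

@[simp] lemma tw_def {K : Type*} [Field K] (q : ℕ) (z : K) : tw q z = (z ^ q)⁻¹ := rfl

variable {F : Type*} [Field F] [Fintype F] {q : ℕ}

lemma add_pow_q_alg (hF : Fintype.card F = q ^ 2) {K : Type*} [Field K] [Algebra F K] (x y : K) :
    (x + y) ^ q = x ^ q + y ^ q := by
  obtain ⟨p, hp⟩ := CharP.exists F
  obtain ⟨n, hpp, hn⟩ := FiniteField.card F p
  haveI : Fact p.Prime := ⟨hpp⟩
  haveI : CharP K p := charP_of_injective_algebraMap' F p
  have hdvd : q ∣ p ^ (n : ℕ) := by
    rw [← hn, hF]
    exact Dvd.intro_left _ (sq q).symm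
  obtain ⟨k, -, rfl⟩ := (Nat.dvd_prime_pow hpp).1 hdvd
  exact add_pow_char_pow x y p k

/-- The Frobenius `x ↦ x^q` on an extension field. -/
def phi (hF : Fintype.card F = q ^ 2) (K : Type*) [Field K] [Algebra F K] : K →+* K where
  toFun x := x ^ q
  map_one' := one_pow q
  map_mul' x y := mul_pow x y q
  map_zero' := zero_pow (by have := HermCount.two_le_q hF; omega)
  map_add' := add_pow_q_alg hF

@[simp] lemma phi_apply (hF : Fintype.card F = q ^ 2) {K : Type*} [Field K] [Algebra F K] (x : K) :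
    phi hF K x = x ^ q := rfl

lemma tw_injective (hF : Fintype.card F = q ^ 2) {K : Type*} [Field K] [Algebra F K] :
    Function.Injective (tw q : K → K) := by
  intro x y h
  apply (phi hF K).injective
  simpa using h

lemma tw_tw {K : Type*} [Field K] (z : K) : tw q (tw q z) = (z ^ q) ^ q := by
  simp

lemma tw_ne_zero (hF : Fintype.card F = q ^ 2) {K : Type*} [Field K] [Algebra F K] {z : K} (hz : z ≠ 0) :
    tw q z ≠ 0 := by
  have hq : q ≠ 0 := by
    have := HermCount.two_le_q hF
    omega
  simp only [tw_def]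
  exact inv_ne_zero (pow_ne_zero _ hz)

lemma phi_comp_algebraMap (hF : Fintype.card F = q ^ 2) (K : Type*) [Field K] [Algebra F K] :
    (phi hF K).comp (algebraMap F K) = (algebraMap F K).comp (sigma hF) := by
  ext c
  simp

section poly

variable {K : Type*} [Field K]

/-- The polynomial with given roots. -/
noncomputable def polyOf (M : Multiset K) : K[X] := (M.map (fun a => X - C a)).prod

lemma polyOf_monic (M : Multiset K) : (polyOf M).Monic :=
  monic_multiset_prod_of_monic _ _ (fun a _ => monic_X_sub_C a)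

lemma polyOf_natDegree (M : Multiset K) : (polyOf M).natDegree = Multiset.card M :=
  natDegree_multiset_prod_X_sub_C_eq_card M

lemma polyOf_roots (M : Multiset K) : (polyOf M).roots = M := roots_multiset_prod_X_sub_C M

lemma polyOf_map {L : Type*} [Field L] (φ : K →+* L) (M : Multiset K) :
    (polyOf M).map φ = polyOf (M.map φ) := by
  unfold polyOf
  rw [Polynomial.map_multiset_prod, Multiset.map_map, Multiset.map_map]
  congr 1
  apply Multiset.map_congr rfl
  intro a _
  simp

lemma polyOf_coeff_zero (M : Multiset K) : (polyOf M).coeff 0 = (M.map (fun z => -z)).prod := by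
  unfold polyOf
  rw [coeff_zero_multiset_prod, Multiset.map_map]
  congr 1
  apply Multiset.map_congr rfl
  intro a _
  simp

lemma reverse_polyOf (M : Multiset K) (hM : ∀ z ∈ M, z ≠ 0) :
    reverse (polyOf M) = C ((M.map (fun z => -z)).prod) * polyOf (M.map (fun z => z⁻¹)) := by
  induction M using Multiset.induction with
  | empty =>
    have := reverse_C (1 : K)
    simpa [polyOf] using this
  | cons a S ih =>
    have h1 := ih (fun z hz => hM z (Multiset.mem_cons_of_mem hz))
    have ha : a ≠ 0 := hM a (Multiset.mem_cons_self _ _)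
    have e1 : polyOf (a ::ₘ S) = (X - C a) * polyOf S := by
      simp [polyOf]
    have e2 : polyOf ((a ::ₘ S).map (fun z => z⁻¹)) = (X - C a⁻¹) * polyOf (S.map (fun z => z⁻¹)) := by
      simp [polyOf]
    rw [e1, e2, reverse_mul_of_domain, h1, SpSpec.reverse_X_sub_C' a ha, Multiset.map_cons, Multiset.prod_cons,
      C_mul]
    ring

end poly

section selfdual

local notation "K" => AlgebraicClosure F
local notation "ιF" => algebraMap F (AlgebraicClosure F)

/-- A `tw`-closed multiset gives a self-dual polynomial over `F`. -/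
theorem exists_poly (hF : Fintype.card F = q ^ 2) (M : Multiset K) (hM : M.map (tw q) = M)
    (hM0 : ∀ z ∈ M, z ≠ 0) :
    ∃ f : F[X], f.Monic ∧ f.map ιF = polyOf M ∧ f.natDegree = Multiset.card M ∧ f.coeff 0 ≠ 0 ∧
      (f.map (sigma hF)).reverse = C ((f.coeff 0) ^ q) * f := by
  have hq : q ≠ 0 := by
    have := HermCount.two_le_q hF
    omega
  set P := polyOf M with hP
  let ψ : K →+* K := (phi hF K).comp (phi hF K)
  have hψ : ∀ z : K, ψ z = tw q (tw q z) := by
    intro z
    simp [ψ]
  have hMψ : M.map ψ = M := by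
    have : (ψ : K → K) = (tw q) ∘ (tw q) := by
      funext z
      exact hψ z
    rw [this, ← Multiset.map_map, hM, hM]
  have hPψ : P.map ψ = P := by
    rw [hP, polyOf_map, hMψ]
  have hlift : P ∈ Polynomial.lifts ιF := by
    rw [Polynomial.lifts_iff_coeff_lifts]
    intro n
    have h1 : ψ (P.coeff n) = P.coeff n := by
      conv_rhs => rw [← hPψ]
      rw [coeff_map]
    obtain ⟨l, hl⟩ := SL2Torus.mem_range_of_pow_card (F := F) (P.coeff n) (by
      rw [hF, sq, pow_mul]
      exact h1)
    exact ⟨l, hl⟩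
  obtain ⟨f, hf1, hf2, hf3⟩ := Polynomial.lifts_and_natDegree_eq_and_monic hlift (polyOf_monic M)
  have hinj : Function.Injective ιF := (ιF).injective
  have hf00 : ιF (f.coeff 0) = P.coeff 0 := by
    rw [← hf1, coeff_map]
  have hP0 : P.coeff 0 ≠ 0 := by
    rw [coeff_zero_eq_eval_zero]
    intro h
    have h2 : (0 : K) ∈ P.roots := (mem_roots (polyOf_monic M).ne_zero).mpr h
    rw [hP, polyOf_roots] at h2
    exact hM0 0 h2 rfl
  have hf0 : f.coeff 0 ≠ 0 := by
    intro h
    rw [h, map_zero] at hf00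
    exact hP0 hf00.symm
  refine ⟨f, hf3, hf1, ?_, hf0, ?_⟩
  · rw [hf2, polyOf_natDegree]
  · apply Polynomial.map_injective _ hinj
    have e1 : ((f.map (sigma hF)).reverse).map ιF = ((f.map (sigma hF)).map ιF).reverse := by
      unfold reverse
      rw [← reflect_map, natDegree_map_eq_of_injective hinj]
    have e2 : (f.map (sigma hF)).map ιF = P.map (phi hF K) := by
      rw [Polynomial.map_map, ← hf1, Polynomial.map_map, phi_comp_algebraMap]
    have hMφ : ∀ z ∈ M.map (phi hF K), z ≠ 0 := by
      intro z hz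
      obtain ⟨w, hw, rfl⟩ := Multiset.mem_map.mp hz
      simp only [phi_apply]
      exact pow_ne_zero _ (hM0 w hw)
    have e3 : (M.map (phi hF K)).map (fun z => z⁻¹) = M := by
      rw [Multiset.map_map]
      conv_rhs => rw [← hM]
      rfl
    rw [e1, e2, hP, polyOf_map, reverse_polyOf _ hMφ, e3, Polynomial.map_mul, Polynomial.map_C, hf1, ← hP]
    congr 2
    rw [map_pow, hf00, hP, polyOf_coeff_zero]
    rw [← phi_apply hF, map_multiset_prod, Multiset.map_map, Multiset.map_map]
    congr 1
    apply Multiset.map_congr rfl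
    intro z _
    exact (map_neg (phi hF K) z).symm

/-- Realization of a closed multiset by a regular element. -/
theorem realize_cyc (hF : Fintype.card F = q ^ 2) (M : Multiset K) (hM : M.map (tw q) = M)
    (hM0 : ∀ z ∈ M, z ≠ 0) (h2 : 2 ≤ Multiset.card M) (ξ : F) (hξ : ξ ^ (q + 1) = 1)
    (hξM : (ιF ξ)⁻¹ ∉ M) :
    ∃ y : Matrix (Fin (Multiset.card M)) (Fin (Multiset.card M)) F,
      y.transpose * y.map (sigma hF) = 1 ∧ ιF y.det = M.prod ∧
        ∀ (k : ℕ) (c : F), y ^ k = c • 1 → polyOf M ∣ X ^ k - C (ιF c) := by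
  obtain ⟨f, hf, hfP, hfd, hf0, hself⟩ := exists_poly hF M hM hM0
  have hev : f.eval ξ⁻¹ ≠ 0 := by
    intro h
    apply hξM
    have h3 : (polyOf M).eval (ιF ξ)⁻¹ = 0 := by
      rw [← hfP, eval_map, ← map_inv₀, eval₂_at_apply, h, map_zero]
    have h4 : (ιF ξ)⁻¹ ∈ (polyOf M).roots := (mem_roots (polyOf_monic M).ne_zero).mpr h3
    rwa [polyOf_roots] at h4
  have key := exists_regular hF f hf (by omega) hf0 hself ⟨ξ, hξ, hev⟩
  rw [hfd] at key
  obtain ⟨Y, hY1, hY2, hY3⟩ := key
  refine ⟨Y, transpose_mul_map_sigma hF hY1, ?_, ?_⟩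
  · rw [RingHom.map_det, Matrix.det_eq_prod_roots_charpoly]
    have h3 : (((ιF).mapMatrix Y).charpoly) = polyOf M := by
      rw [← hfP, ← hY2]
      exact Matrix.charpoly_map Y ιF
    rw [h3, polyOf_roots]
  · intro k c hk
    have h3 := hY3 k c hk
    have h4 := Polynomial.map_dvd ιF h3
    rw [hfP] at h4
    simpa using h4

end selfdual

end Cfsg.Agent.Lib.SUSpec
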