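import Mathlib
import Cfsg.Agent.Lib.SUSpecPoly

/-!
# Realizing multisets of eigenvalues in the unitary group
-/

set_option autoImplicit false
set_option linter.unusedSectionVars false

namespace Cfsg.Agent.Lib.SUSpec

open Polynomial Matrix
open Cfsg Cfsg.Agent.Lib.UnitaryBasic Cfsg.Agent.Lib.UnitarySU Cfsg.Agent.Lib.SUCyc

/-- Multiplicity forces divisibility of the exponent. -/
lemma pow_dvd_of_mult {K : Type*} [Field K] (p : ℕ) [hp : Fact p.Prime] [CharP K p] (β k : ℕ) (z c : K)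
    (hc : c ≠ 0) (h : (X - C z) ^ (p ^ β + 1) ∣ X ^ k - C c) : p ^ (β + 1) ∣ k := by
  classical
  rcases Nat.eq_zero_or_pos k with rfl | hk
  · exact dvd_zero _
  haveI : ExpChar K[X] p := ExpChar.prime hp.out
  obtain ⟨v, k', hk', rfl⟩ := Nat.exists_eq_pow_mul_and_not_dvd hk.ne' p hp.out.ne_one
  have h1 : (X - C z) ∣ X ^ (p ^ v * k') - C c := (dvd_pow_self _ (by positivity)).trans h
  have h2 : z ^ (p ^ v * k') = c := by
    have h0 : eval z (X - C z) = 0 := by simp
    have := eval_eq_zero_of_dvd_of_eval_eq_zero h1 h0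
    simpa [sub_eq_zero] using this
  set c₁ := z ^ k' with hc₁
  have hz0 : z ≠ 0 := by
    rintro rfl
    rw [zero_pow (by positivity)] at h2
    exact hc h2.symm
  have hc₁0 : c₁ ≠ 0 := pow_ne_zero _ hz0
  have h3 : (X ^ k' - C c₁) ^ p ^ v = X ^ (p ^ v * k') - C c := by
    rw [sub_pow_expChar_pow, ← C_pow, hc₁, ← pow_mul, ← pow_mul, mul_comm k', h2]
  rw [← h3] at h
  have hsep := separable_X_pow_sub_C' p k' c₁ hk' hc₁0
  have hne : (X ^ k' - C c₁) ^ p ^ v ≠ 0 := by
    apply pow_ne_zero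
    exact (monic_X_pow_sub_C c₁ (by
      rintro rfl
      simp at hk')).ne_zero
  have h4 := (le_rootMultiplicity_iff hne).mpr h
  rw [← count_roots, roots_pow, Multiset.count_nsmul] at h4
  have h5 : Multiset.count z (X ^ k' - C c₁).roots ≤ 1 :=
    (Multiset.nodup_iff_count_le_one.mp (nodup_roots hsep)) z
  have h6 : p ^ β + 1 ≤ p ^ v := h4.trans (by
    calc p ^ v * _ ≤ p ^ v * 1 := Nat.mul_le_mul_left _ h5
      _ = p ^ v := mul_one _)
  have h7 : β < v := (Nat.pow_lt_pow_iff_right hp.out.one_lt).mp (by omega)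
  exact (pow_dvd_pow p h7).trans (Nat.dvd_mul_right _ _)

variable {F : Type*} [Field F] [Fintype F] {q : ℕ}

local notation "K" => AlgebraicClosure F
local notation "ιF" => algebraMap F (AlgebraicClosure F)

/-- A multiset of eigenvalues is realized in the unitary group, with the element satisfying: if a power
is scalar, then the power is constant on the multiset, and the exponent is divisible by `e`. -/
def Rz (hF : Fintype.card F = q ^ 2) (n : ℕ) (M : Multiset K) (e : ℕ) : Prop :=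
  Multiset.card M = n ∧ ∃ y : Matrix (Fin n) (Fin n) F, y.transpose * y.map (sigma hF) = 1 ∧
    ιF y.det = M.prod ∧ ∀ (k : ℕ) (c : F), y ^ k = c • 1 → (∀ z ∈ M, z ^ k = ιF c) ∧ e ∣ k

section transport

variable (hF : Fintype.card F = q ^ 2)

lemma Rz.cast {n n' : ℕ} {M M' : Multiset K} {e e' : ℕ} (h : Rz hF n M e) (h1 : n = n') (h2 : M = M') (h3 : e = e') :
    Rz hF n' M' e' := by
  subst h1 h2 h3
  exact h

lemma Rz.of_equiv {ι : Type} [Fintype ι] [DecidableEq ι] {n : ℕ} {M : Multiset K} {e : ℕ} (e₀ : ι ≃ Fin n)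
    (hc : Multiset.card M = n) (y : Matrix ι ι F) (h1 : y.transpose * y.map (sigma hF) = 1)
    (h2 : ιF y.det = M.prod) (h3 : ∀ (k : ℕ) (c : F), y ^ k = c • 1 → (∀ z ∈ M, z ^ k = ιF c) ∧ e ∣ k) :
    Rz hF n M e := by
  refine ⟨hc, y.submatrix e₀.symm e₀.symm, ?_, ?_, ?_⟩
  · rw [transpose_submatrix, ← Matrix.submatrix_map, submatrix_mul_equiv, h1, submatrix_one_equiv]
  · rw [det_submatrix_equiv_self, h2]
  · intro k c hk
    apply h3 k c
    let Φ := Matrix.reindexAlgEquiv F F e₀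
    apply Φ.injective
    have h4 : Φ y = y.submatrix e₀.symm e₀.symm := rfl
    rw [map_pow, h4, hk, map_smul, map_one]

lemma fromBlocks_pow {l m : Type*} [Fintype l] [Fintype m] [DecidableEq l] [DecidableEq m]
    (A : Matrix l l F) (B : Matrix m m F) (k : ℕ) :
    (fromBlocks A 0 0 B) ^ k = fromBlocks (A ^ k) 0 0 (B ^ k) := by
  induction k with
  | zero => simp
  | succ k ih =>
    rw [pow_succ, ih, fromBlocks_multiply]
    simp [pow_succ]

lemma Rz.add {a b : ℕ} {M₁ M₂ : Multiset K} {e₁ e₂ : ℕ} (h₁ : Rz hF a M₁ e₁) (h₂ : Rz hF b M₂ e₂) :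
    Rz hF (a + b) (M₁ + M₂) (Nat.lcm e₁ e₂) := by
  obtain ⟨c₁, y₁, r₁, d₁, p₁⟩ := h₁
  obtain ⟨c₂, y₂, r₂, d₂, p₂⟩ := h₂
  apply Rz.of_equiv hF finSumFinEquiv (by rw [Multiset.card_add, c₁, c₂]) (fromBlocks y₁ 0 0 y₂)
  · have e1 : ∀ {l m : Type} , (0 : Matrix l m F).map (sigma hF) = 0 := by
      intro l m
      ext i j
      simp only [Matrix.map_apply, Matrix.zero_apply, map_zero]
    rw [fromBlocks_transpose, fromBlocks_map, fromBlocks_multiply, e1, e1]
    simp [r₁, r₂]
  · rw [det_fromBlocks_zero₁₂, map_mul, d₁, d₂, Multiset.prod_add]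
  · intro k c hk
    rw [fromBlocks_pow, ← fromBlocks_one, fromBlocks_smul] at hk
    simp only [smul_zero, fromBlocks_inj] at hk
    obtain ⟨h1, -, -, h2⟩ := hk
    obtain ⟨a1, a2⟩ := p₁ k c h1
    obtain ⟨b1, b2⟩ := p₂ k c h2
    refine ⟨?_, Nat.lcm_dvd a2 b2⟩
    intro z hz
    rcases Multiset.mem_add.mp hz with hz | hz
    · exact a1 z hz
    · exact b1 z hz

lemma Rz.smul {n : ℕ} {M : Multiset K} {e : ℕ} (h : Rz hF n M e) (ζ : F) (hζ : ζ ^ (q + 1) = 1) :
    Rz hF n (M.map (fun z => ιF ζ * z)) e := by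
  have hq : q ≠ 0 := by
    have := HermCount.two_le_q hF
    omega
  have hζ0 : ζ ≠ 0 := by
    rintro rfl
    rw [zero_pow (by omega)] at hζ
    exact zero_ne_one hζ
  obtain ⟨hc, y, r, d, P⟩ := h
  refine ⟨by rw [Multiset.card_map, hc], ζ • y, ?_, ?_, ?_⟩
  · have e1 : (ζ • y).map (sigma hF) = (ζ ^ q) • y.map (sigma hF) := by
      ext i j
      simp [mul_pow]
    rw [e1, transpose_smul, Matrix.smul_mul, Matrix.mul_smul, r, smul_smul, ← pow_succ', hζ, one_smul]
  · rw [det_smul, Fintype.card_fin, map_mul, map_pow, d, Multiset.prod_map_mul, Multiset.map_const', Multiset.map_id',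
      Multiset.prod_replicate, hc]
  · intro k c hk
    rw [_root_.smul_pow] at hk
    have h1 : y ^ k = (c * (ζ ^ k)⁻¹) • 1 := by
      have h2 := congrArg (fun X => (ζ ^ k)⁻¹ • X) hk
      simp only [smul_smul] at h2
      rw [inv_mul_cancel₀ (pow_ne_zero _ hζ0), one_smul] at h2
      rw [h2, mul_comm]
    obtain ⟨a1, a2⟩ := P k _ h1
    refine ⟨?_, a2⟩
    intro z hz
    obtain ⟨w, hw, rfl⟩ := Multiset.mem_map.mp hz
    rw [mul_pow, a1 w hw, map_mul, map_inv₀, map_pow]
    have : (ιF ζ) ^ k ≠ 0 := by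
      rw [← map_pow]
      exact (_root_.map_ne_zero _).mpr (pow_ne_zero _ hζ0)
    field_simp

lemma Rz.zero : Rz hF 0 (0 : Multiset K) 1 := by
  refine ⟨rfl, 1, ?_, ?_, ?_⟩
  · ext i
    exact i.elim0
  · simp
  · intro k c _
    simp

/-- Scalar matrices. -/
lemma Rz.scalar (n : ℕ) (ω : F) (hω : ω ^ (q + 1) = 1) : Rz hF n (Multiset.replicate n (ιF ω)) 1 := by
  have hq : q ≠ 0 := by
    have := HermCount.two_le_q hF
    omega
  have hω0 : ω ≠ 0 := by
    rintro rfl
    rw [zero_pow (by omega)] at hω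
    exact zero_ne_one hω
  refine ⟨by simp, ω • 1, ?_, ?_, ?_⟩
  · have e1 : (ω • (1 : Matrix (Fin n) (Fin n) F)).map (sigma hF) = (ω ^ q) • 1 := by
      ext i j
      by_cases hij : i = j
      · subst hij
        simp
      · simp [hij, zero_pow hq]
    rw [e1, transpose_smul, transpose_one, Matrix.smul_mul, Matrix.mul_smul, Matrix.mul_one, smul_smul, ← pow_succ', hω,
      one_smul]
  · simp [det_smul]
  · intro k c hk
    refine ⟨?_, one_dvd _⟩
    intro z hz
    rw [Multiset.eq_of_mem_replicate hz]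
    rcases Nat.eq_zero_or_pos n with rfl | hn
    · simp at hz
    · have h1 := congrFun (congrFun hk ⟨0, hn⟩) ⟨0, hn⟩
      rw [_root_.smul_pow, one_pow] at h1
      simp only [Matrix.smul_apply, one_apply_eq, smul_eq_mul, mul_one] at h1
      rw [← map_pow, h1]

include hF in
lemma mem_range_of_mu {z : K} (hz : z ^ (q + 1) = 1) : ∃ ω : F, ω ^ (q + 1) = 1 ∧ ιF ω = z := by
  have hq2 := HermCount.two_le_q hF
  have hz0 : z ≠ 0 := by
    rintro rfl
    rw [zero_pow (by omega)] at hz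
    exact zero_ne_one hz
  have h1 : z ^ q = z⁻¹ := by
    rw [pow_succ] at hz
    exact eq_inv_of_mul_eq_one_left hz
  obtain ⟨ω, hω⟩ := SL2Torus.mem_range_of_pow_card (F := F) z (by
    rw [hF, sq, pow_mul, h1, inv_pow, h1, inv_inv])
  refine ⟨ω, ?_, hω⟩
  apply (ιF).injective
  rw [map_pow, hω, hz, map_one]

/-- Multisets in the norm-one group. -/
lemma Rz.of_mu (S : Multiset K) (hS : ∀ z ∈ S, z ^ (q + 1) = 1) : Rz hF (Multiset.card S) S 1 := by
  induction S using Multiset.induction with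
  | empty => exact Rz.zero hF
  | cons a S ih =>
    obtain ⟨ω, hω, rfl⟩ := mem_range_of_mu hF (hS a (Multiset.mem_cons_self _ _))
    have h1 := Rz.scalar hF 1 ω hω
    have h2 := ih (fun z hz => hS z (Multiset.mem_cons_of_mem hz))
    apply (h1.add hF h2).cast hF
    · simp [add_comm]
    · simp
    · simp

/-- The polynomial of a multiset is divisible by the factor of each element. -/
lemma dvd_polyOf {S : Multiset K} {z : K} (hz : z ∈ S) : (X - C z) ∣ polyOf S :=
  Multiset.dvd_prod (Multiset.mem_map_of_mem _ hz)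

lemma pow_dvd_polyOf [DecidableEq K] (S : Multiset K) (z : K) : (X - C z) ^ (Multiset.count z S) ∣ polyOf S := by
  have h1 := Multiset.le_count_iff_replicate_le.mp (le_refl (Multiset.count z S))
  have h2 := Multiset.prod_dvd_prod_of_le (Multiset.map_le_map (f := fun a => (X : K[X]) - C a) h1)
  rw [Multiset.map_replicate, Multiset.prod_replicate] at h2
  exact h2

/-- Regular elements. -/
lemma Rz.of_cyc (M : Multiset K) (hM : M.map (tw q) = M) (hM0 : ∀ z ∈ M, z ≠ 0) (h2 : 2 ≤ Multiset.card M)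
    (ξ : F) (hξ : ξ ^ (q + 1) = 1) (hξM : (ιF ξ)⁻¹ ∉ M) (e : ℕ)
    (he : ∀ (k : ℕ) (c : K), c ≠ 0 → polyOf M ∣ X ^ k - C c → e ∣ k) : Rz hF (Multiset.card M) M e := by
  obtain ⟨y, r, d, P⟩ := realize_cyc hF M hM hM0 h2 ξ hξ hξM
  refine ⟨rfl, y, r, d, ?_⟩
  intro k c hk
  have h3 := P k c hk
  have h4 : ∀ z ∈ M, z ^ k = ιF c := by
    intro z hz
    have h0 : eval z (X - C z) = 0 := by simp
    have := eval_eq_zero_of_dvd_of_eval_eq_zero ((dvd_polyOf hz).trans h3) h0
    simpa [sub_eq_zero] using this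
  refine ⟨h4, ?_⟩
  apply he k (ιF c) _ h3
  obtain ⟨z, hz⟩ : ∃ z, z ∈ M := by
    apply Multiset.card_pos_iff_exists_mem.mp
    omega
  rw [← h4 z hz]
  exact pow_ne_zero _ (hM0 z hz)

/-- Regular elements with a multiple eigenvalue. -/
lemma Rz.of_count [DecidableEq K] (p : ℕ) [hp : Fact p.Prime] [CharP K p] (M : Multiset K) (hM : M.map (tw q) = M)
    (hM0 : ∀ z ∈ M, z ≠ 0) (h2 : 2 ≤ Multiset.card M) (ξ : F) (hξ : ξ ^ (q + 1) = 1) (hξM : (ιF ξ)⁻¹ ∉ M)
    (z₀ : K) (β : ℕ) (hz₀ : p ^ β + 1 ≤ Multiset.count z₀ M) : Rz hF (Multiset.card M) M (p ^ (β + 1)) := by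
  apply Rz.of_cyc hF M hM hM0 h2 ξ hξ hξM
  intro k c hc hdvd
  apply pow_dvd_of_mult p β k z₀ c hc
  exact (pow_dvd_pow _ hz₀).trans ((pow_dvd_polyOf M z₀).trans hdvd)

/-- Every closed multiset is realized. -/
lemma Rz.realize (M : Multiset K) (hM : M.map (tw q) = M) (hM0 : ∀ z ∈ M, z ≠ 0) :
    Rz hF (Multiset.card M) M 1 := by
  classical
  have hq2 := HermCount.two_le_q hF
  let P : K → Prop := fun z => z ^ (q + 1) = 1
  have hPτ : ∀ z ∈ M, P (tw q z) ↔ P z := by
    intro z hz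
    have hz0 := hM0 z hz
    simp only [P, tw_def]
    constructor
    · intro h
      have h1 : ((z ^ q)⁻¹) ^ (q + 1) = (z ^ (q + 1))⁻¹ ^ q := by
        rw [inv_pow, inv_pow, ← pow_mul, ← pow_mul, mul_comm]
      rw [h1, inv_pow, inv_eq_one] at h
      have h2 : z ^ (q + 1) ≠ 0 := pow_ne_zero _ hz0
      have hφ := (phi hF K).injective (a₁ := z ^ (q + 1)) (a₂ := 1) (by
        rw [map_one, phi_apply]
        exact h)
      exact hφ
    · intro h
      have h1 : ((z ^ q)⁻¹) ^ (q + 1) = (z ^ (q + 1))⁻¹ ^ q := by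
        rw [inv_pow, inv_pow, ← pow_mul, ← pow_mul, mul_comm]
      rw [h1, h]
      simp
  have hfilter : ∀ P' : K → Prop, ∀ [DecidablePred P'], (∀ z ∈ M, P' (tw q z) ↔ P' z) →
      (M.filter P').map (tw q) = M.filter P' := by
    intro P' _ hP'
    conv_rhs => rw [← hM]
    rw [Multiset.filter_map]
    congr 1
    apply Multiset.filter_congr
    intro z hz
    exact (hP' z hz).symm
  have hb : Rz hF (Multiset.card (M.filter P)) (M.filter P) 1 :=
    Rz.of_mu hF _ (fun z hz => (Multiset.mem_filter.mp hz).2)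
  have hMa : (M.filter (fun z => ¬ P z)).map (tw q) = M.filter (fun z => ¬ P z) :=
    hfilter _ (fun z hz => not_congr (hPτ z hz))
  have ha : Rz hF (Multiset.card (M.filter (fun z => ¬ P z))) (M.filter (fun z => ¬ P z)) 1 := by
    rcases Nat.lt_or_ge (Multiset.card (M.filter (fun z => ¬ P z))) 2 with h | h
    · have h0 : Multiset.card (M.filter (fun z => ¬ P z)) = 0 ∨ Multiset.card (M.filter (fun z => ¬ P z)) = 1 := by
        omega
      rcases h0 with h0 | h0
      · rw [Multiset.card_eq_zero] at h0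
        rw [h0]
        exact Rz.zero hF
      · obtain ⟨a, ha⟩ := Multiset.card_eq_one.mp h0
        exfalso
        rw [ha] at hMa
        simp only [Multiset.map_singleton, Multiset.singleton_inj] at hMa
        have h3 : a ∈ M.filter (fun z => ¬ P z) := by
          rw [ha]
          exact Multiset.mem_singleton_self a
        obtain ⟨h4, h5⟩ := Multiset.mem_filter.mp h3
        apply h5
        have h6 := hM0 a h4
        simp only [P]
        simp only [tw_def] at hMa
        rw [pow_succ]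
        nth_rewrite 2 [← hMa]
        exact mul_inv_cancel₀ (pow_ne_zero _ h6)
    · apply Rz.of_cyc hF _ hMa (fun z hz => hM0 z (Multiset.mem_filter.mp hz).1) h 1 (by simp)
      · simp only [map_one, inv_one]
        intro h1
        exact (Multiset.mem_filter.mp h1).2 (by simp [P])
      · intro k c _ _
        exact one_dvd _
  apply (hb.add hF ha).cast hF
  · rw [← Multiset.card_add, Multiset.filter_add_not]
  · exact Multiset.filter_add_not _ _
  · simp

end transport

end Cfsg.Agent.Lib.SUSpec
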