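import Mathlib
import Cfsg.Agent.Lib.SUSpecRz
import Cfsg.Agent.Lib.GUField

/-!
# Eigenvalues of unitary matrices
-/

set_option autoImplicit false
set_option linter.unusedSectionVars false

namespace Cfsg.Agent.Lib.SUSpec

open Polynomial Matrix
open Cfsg Cfsg.Agent.Lib.UnitaryBasic Cfsg.Agent.Lib.UnitarySU Cfsg.Agent.Lib.SUCyc
open Cfsg.Agent.Lib.SpSpec

variable {F : Type*} [Field F] [Fintype F] {q n : ℕ}

local notation "K" => AlgebraicClosure F
local notation "ιF" => algebraMap F (AlgebraicClosure F)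

lemma chi_eq_polyOf (A : Matrix (Fin n) (Fin n) F) : chi A = polyOf (chi A).roots := by
  have h1 := (IsAlgClosed.splits (chi A)).eq_prod_roots_of_monic (chi_monic A)
  exact h1

lemma roots_prod (A : Matrix (Fin n) (Fin n) F) : (chi A).roots.prod = ιF A.det := by
  rw [RingHom.map_det, Matrix.det_eq_prod_roots_charpoly, chi_eq]
  rfl

lemma roots_card (A : Matrix (Fin n) (Fin n) F) : Multiset.card (chi A).roots = n := by
  rw [chi_card_roots, Fintype.card_fin]

lemma det_ne_zero_of_rel (hF : Fintype.card F = q ^ 2) {A : Matrix (Fin n) (Fin n) F}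
    (hA : A.transpose * A.map (sigma hF) = 1) : A.det ≠ 0 := by
  intro h
  have h1 := congrArg Matrix.det hA
  rw [det_mul, det_transpose, h, zero_mul, det_one] at h1
  exact zero_ne_one h1

lemma roots_ne_zero (hF : Fintype.card F = q ^ 2) {A : Matrix (Fin n) (Fin n) F}
    (hA : A.transpose * A.map (sigma hF) = 1) (z : K) (hz : z ∈ (chi A).roots) : z ≠ 0 := by
  rintro rfl
  have h1 := Multiset.prod_eq_zero hz
  rw [roots_prod] at h1
  have h2 := (_root_.map_eq_zero _).mp h1
  exact det_ne_zero_of_rel hF hA h2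

/-- The multiset of eigenvalues of a unitary matrix is closed under the twisted inversion. -/
theorem roots_closed (hF : Fintype.card F = q ^ 2) {A : Matrix (Fin n) (Fin n) F}
    (hA : A.transpose * A.map (sigma hF) = 1) : (chi A).roots.map (tw q) = (chi A).roots := by
  set M := (chi A).roots with hM
  have hdet := det_ne_zero_of_rel hF hA
  have hunit : IsUnit A := (Matrix.isUnit_iff_isUnit_det _).mpr (isUnit_iff_ne_zero.mpr hdet)
  have h1 : (A.transpose)⁻¹ = A.map (sigma hF) := Matrix.inv_eq_right_inv hA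
  have h2 : (A.map (sigma hF)).charpoly = A⁻¹.charpoly := by
    rw [← h1, ← Matrix.transpose_nonsing_inv, Matrix.charpoly_transpose]
  have h3 := Matrix.charpoly_inv A hunit
  rw [← Matrix.reverse_charpoly] at h3
  rw [← h2, Matrix.charpoly_map] at h3
  set u : F := (-1) ^ Fintype.card (Fin n) * Ring.inverse A.det with hu
  have hu0 : u ≠ 0 := by
    rw [hu]
    apply mul_ne_zero (pow_ne_zero _ (neg_ne_zero.mpr one_ne_zero))
    rw [Ring.inverse_eq_inv']
    exact inv_ne_zero hdet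
  have h4 : A.charpoly.map (sigma hF) = C u * A.charpoly.reverse := by
    rw [h3, hu, C_mul, C_pow, C_neg, C_1]
  have hinj : Function.Injective ιF := (ιF).injective
  have h5 : (chi A).map (phi hF K) = C (ιF u) * (chi A).reverse := by
    have e1 : (chi A).map (phi hF K) = (A.charpoly.map (sigma hF)).map ιF := by
      unfold chi
      rw [Polynomial.map_map, Polynomial.map_map, phi_comp_algebraMap]
    have e2 : (A.charpoly.reverse).map ιF = (chi A).reverse := by
      unfold chi reverse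
      rw [← reflect_map, natDegree_map_eq_of_injective hinj]
    rw [e1, h4, Polynomial.map_mul, Polynomial.map_C, e2]
  have hM0 : ∀ z ∈ M, z ≠ 0 := roots_ne_zero hF hA
  rw [chi_eq_polyOf A, ← hM, polyOf_map, reverse_polyOf M hM0] at h5
  have h6 := congrArg Polynomial.roots h5
  have hne : (ιF u) * (M.map (fun z => -z)).prod ≠ 0 := by
    apply mul_ne_zero ((_root_.map_ne_zero _).mpr hu0)
    intro h
    obtain ⟨z, hz, hz0⟩ := Multiset.mem_map.mp (Multiset.prod_eq_zero_iff.mp h)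
    exact hM0 z hz (neg_eq_zero.mp hz0)
  rw [← mul_assoc, ← C_mul, roots_C_mul _ hne, polyOf_roots, polyOf_roots] at h6
  have h7 : M.map (tw q) = (M.map (phi hF K)).map (fun z => z⁻¹) := by
    rw [Multiset.map_map]
    rfl
  rw [h7, h6, Multiset.map_map]
  simp

/-- A scalar power restricts the eigenvalues. -/
lemma root_pow_eq_scalar {ι : Type*} [Fintype ι] [DecidableEq ι] {R : Type*} [Field R] (A : Matrix ι ι R) (k : ℕ)
    (c : R) (hA : A ^ k = c • 1) (ω : R) (hω : A.charpoly.IsRoot ω) : ω ^ k = c := by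
  have h1 : (Matrix.scalar ι ω - A).det = 0 := by
    rw [← Matrix.eval_charpoly]
    exact hω
  obtain ⟨v, hv, hv2⟩ := Matrix.exists_mulVec_eq_zero_iff.mpr h1
  have h2 : A.mulVec v = ω • v := by
    rw [Matrix.sub_mulVec, sub_eq_zero] at hv2
    rw [← hv2]
    ext i
    simp [Matrix.scalar_apply, Matrix.mulVec_diagonal]
  have h3 : ∀ k : ℕ, (A ^ k).mulVec v = ω ^ k • v := by
    intro k
    induction k with
    | zero => simp
    | succ k ih =>
      rw [pow_succ, ← Matrix.mulVec_mulVec, h2, Matrix.mulVec_smul, ih, smul_smul, pow_succ, mul_comm]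
  have h4 := h3 k
  rw [hA, Matrix.smul_mulVec, Matrix.one_mulVec] at h4
  have h5 : (ω ^ k - c) • v = 0 := by
    rw [sub_smul, ← h4, sub_self]
  rcases smul_eq_zero.mp h5 with h6 | h6
  · exact sub_eq_zero.mp h6
  · exact absurd h6 hv

lemma root_pow_of_scalar (A : Matrix (Fin n) (Fin n) F) (k : ℕ) (c : F) (hA : A ^ k = c • 1) (z : K)
    (hz : z ∈ (chi A).roots) : z ^ k = ιF c := by
  apply root_pow_eq_scalar (A.map ιF) k (ιF c)
  · have h2 := congrArg ((ιF).mapMatrix (m := Fin n)) hA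
    rw [map_pow] at h2
    refine h2.trans ?_
    ext i j
    by_cases hij : i = j
    · subst hij
      simp
    · simp [hij]
  · rw [← chi_eq]
    exact (mem_roots'.mp hz).2

/-- Cayley--Hamilton with bounded multiplicities, scalar form. -/
lemma pow_scalar_of_mult (p : ℕ) [hp : Fact p.Prime] [CharP F p] [NeZero n] (A : Matrix (Fin n) (Fin n) F) (o c : ℕ)
    (ho : o ≠ 0) (d : K) (h1 : ∀ ω ∈ (chi A).roots, ω ^ o = d)
    (h2 : ∀ ω ∈ (chi A).roots, rootMultiplicity ω (chi A) ≤ p ^ c) :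
    ∃ μ : F, A ^ (o * p ^ c) = μ • 1 := by
  classical
  haveI : ExpChar K p := ExpChar.prime hp.out
  haveI : ExpChar K[X] p := ExpChar.prime hp.out
  set Q : K[X] := (X ^ o - C d) ^ p ^ c with hQ
  have hQ2 : Q = X ^ (o * p ^ c) - C (d ^ p ^ c) := by
    rw [hQ, sub_pow_expChar_pow, ← C_pow, ← pow_mul]
  have hoP : o * p ^ c ≠ 0 := mul_ne_zero ho (pow_ne_zero _ hp.out.ne_zero)
  have hQ0 : Q ≠ 0 := by
    rw [hQ2]
    exact (monic_X_pow_sub_C _ hoP).ne_zero
  have hdvd : chi A ∣ Q := by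
    apply (IsAlgClosed.splits (chi A)).dvd_of_roots_le_roots (chi_ne_zero A)
    rw [Multiset.le_iff_count]
    intro ω
    rw [count_roots, count_roots]
    by_cases hω : ω ∈ (chi A).roots
    · refine (h2 ω hω).trans ?_
      rw [le_rootMultiplicity_iff hQ0]
      apply pow_dvd_pow_of_dvd
      rw [dvd_iff_isRoot]
      simp [h1 ω hω]
    · rw [rootMultiplicity_eq_zero]
      · exact Nat.zero_le _
      · intro hr
        exact hω ((mem_roots (chi_ne_zero A)).mpr hr)
  set M := A.map ιF with hM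
  have h3 : aeval M (chi A) = 0 := by
    rw [chi_eq]
    exact Matrix.aeval_self_charpoly M
  have h4 : aeval M Q = 0 := by
    obtain ⟨g, hg⟩ := hdvd
    rw [hg, map_mul, h3, zero_mul]
  rw [hQ2, map_sub, map_pow, aeval_X, aeval_C, sub_eq_zero] at h4
  set i₀ : Fin n := ⟨0, Nat.pos_of_ne_zero (NeZero.ne n)⟩
  refine ⟨(A ^ (o * p ^ c)) i₀ i₀, ?_⟩
  have h5 : M ^ (o * p ^ c) = (A ^ (o * p ^ c)).map ιF := by
    have := map_pow ((ιF).mapMatrix (m := Fin n)) A (o * p ^ c)
    exact this.symm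
  rw [h5] at h4
  have h6 : ∀ i j, ιF ((A ^ (o * p ^ c)) i j) = if i = j then d ^ p ^ c else 0 := by
    intro i j
    have := congrFun (congrFun h4 i) j
    rw [Matrix.map_apply] at this
    rw [this, Matrix.algebraMap_matrix_apply]
    simp
  ext i j
  apply (ιF).injective
  rw [h6]
  by_cases hij : i = j
  · subst hij
    simp only [if_true, Matrix.smul_apply, one_apply_eq, smul_eq_mul, mul_one]
    rw [h6]
    simp
  · simp [hij]

/-- The eigenvalue description of the projective order. -/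
theorem eigen_proj (p : ℕ) [hp : Fact p.Prime] [CharP F p] [NeZero n] (A : Matrix (Fin n) (Fin n) F) (a' α : ℕ)
    (hcop : Nat.Coprime a' p) (ha' : a' ≠ 0) (hord : ∀ N, (∃ c : F, A ^ N = c • 1) ↔ a' * p ^ α ∣ N) :
    (∃ d : K, ∀ ω ∈ (chi A).roots, ω ^ a' = d) ∧
    (∀ b (d : K), (∀ ω ∈ (chi A).roots, ω ^ b = d) → a' ∣ b) ∧
    (1 ≤ α → ∃ ω ∈ (chi A).roots, p ^ (α - 1) + 1 ≤ rootMultiplicity ω (chi A)) := by
  classical
  haveI : ExpChar K p := ExpChar.prime hp.out
  have hp0 : 0 < p := hp.out.pos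
  have hinj : ∀ x y : K, x ^ p ^ α = y ^ p ^ α → x = y := by
    intro x y h
    exact (frobenius_inj K p |>.iterate α) (by
      simpa [iterate_frobenius] using h)
  obtain ⟨c₀, hc₀⟩ := (hord (a' * p ^ α)).mpr dvd_rfl
  have h0 : ∀ ω ∈ (chi A).roots, (ω ^ a') ^ p ^ α = ιF c₀ := by
    intro ω hω
    rw [← pow_mul]
    exact root_pow_of_scalar A _ c₀ hc₀ ω hω
  have hne : ∃ ω₀ : K, ω₀ ∈ (chi A).roots := by
    apply Multiset.card_pos_iff_exists_mem.mp
    rw [roots_card]
    exact Nat.pos_of_ne_zero (NeZero.ne n)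
  obtain ⟨ω₀, hω₀⟩ := hne
  have h1 : ∀ ω ∈ (chi A).roots, ω ^ a' = ω₀ ^ a' := by
    intro ω hω
    apply hinj
    rw [h0 ω hω, h0 ω₀ hω₀]
  refine ⟨⟨_, h1⟩, ?_, ?_⟩
  · intro b d hb
    rcases Nat.eq_zero_or_pos b with rfl | hb0
    · exact dvd_zero _
    · have hc : Fintype.card (Fin n) ≤ p ^ Fintype.card (Fin n) :=
        (Nat.lt_pow_self hp.out.one_lt).le
      obtain ⟨μ, hμ⟩ := pow_scalar_of_mult p A b (Fintype.card (Fin n)) hb0.ne' d hb (by
        intro ω _
        refine le_trans ?_ hc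
        rw [← chi_card_roots A, ← count_roots]
        exact Multiset.count_le_card _ _)
      have h3 := (hord _).mp ⟨μ, hμ⟩
      have h4 : a' ∣ b * p ^ Fintype.card (Fin n) := (Dvd.intro _ rfl).trans h3
      exact (Nat.Coprime.pow_right _ hcop).dvd_of_dvd_mul_right h4
  · intro hα
    by_contra hcon
    push Not at hcon
    obtain ⟨μ, hμ⟩ := pow_scalar_of_mult p A a' (α - 1) ha' _ h1 (by
      intro ω hω
      have := hcon ω hω
      omega)
    have h3 := (hord _).mp ⟨μ, hμ⟩
    obtain ⟨β, rfl⟩ : ∃ β, α = β + 1 := ⟨α - 1, by omega⟩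
    simp only [Nat.add_sub_cancel] at h3
    have h4 := Nat.le_of_dvd (Nat.mul_pos (Nat.pos_of_ne_zero ha') (pow_pos hp0 _)) h3
    have h5 : a' * p ^ β < a' * p ^ (β + 1) := by
      apply Nat.mul_lt_mul_of_pos_left _ (Nat.pos_of_ne_zero ha')
      exact Nat.pow_lt_pow_right hp.out.one_lt (by omega)
    omega

/-! ### The projective general linear formalism for `PSU` -/

lemma scalar_mem_center (z : SU n F q) (c : F) (hz : (z.1.1 : Matrix (Fin n) (Fin n) F) = c • 1) :
    z ∈ Subgroup.center (SU n F q) := by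
  rw [Subgroup.mem_center_iff]
  intro g
  apply Subtype.ext
  apply Subtype.ext
  show (g.1.1 : Matrix (Fin n) (Fin n) F) * z.1.1 = z.1.1 * g.1.1
  rw [hz, Matrix.mul_smul, Matrix.smul_mul, Matrix.mul_one, Matrix.one_mul]

lemma center_scalar [NeZero n] (hF : Fintype.card F = q ^ 2) (z : SU n F q) (hz : z ∈ Subgroup.center (SU n F q)) :
    ∃ c : F, (z.1.1 : Matrix (Fin n) (Fin n) F) = c • 1 := by
  set i₀ : Fin n := ⟨0, Nat.pos_of_ne_zero (NeZero.ne n)⟩
  refine ⟨(z.1.1 : Matrix (Fin n) (Fin n) F) i₀ i₀, ?_⟩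
  ext i j
  by_cases hij : i = j
  · subst hij
    simp only [Matrix.smul_apply, one_apply_eq, smul_eq_mul, mul_one]
    by_cases hi : i = i₀
    · rw [hi]
    · exact center_diag_eq hF z hz hi
  · simp only [Matrix.smul_apply, one_apply_ne hij, smul_eq_mul, mul_zero]
    exact center_offdiag_zero hF z hz hij

lemma su_pow_coe (z : SU n F q) (k : ℕ) :
    (((z ^ k : SU n F q)).1.1 : Matrix (Fin n) (Fin n) F) = (z.1.1 : Matrix (Fin n) (Fin n) F) ^ k := rfl

/-- The order of an element of `PSU` in terms of a lift. -/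
theorem orderOf_mk_iff [NeZero n] (hF : Fintype.card F = q ^ 2) (z : SU n F q) (k : ℕ) :
    orderOf (QuotientGroup.mk z : PSU n F q) ∣ k ↔ ∃ c : F, (z.1.1 : Matrix (Fin n) (Fin n) F) ^ k = c • 1 := by
  rw [orderOf_dvd_iff_pow_eq_one, ← QuotientGroup.mk_pow, QuotientGroup.eq_one_iff]
  constructor
  · intro h
    obtain ⟨c, hc⟩ := center_scalar hF _ h
    exact ⟨c, by rw [← su_pow_coe, hc]⟩
  · rintro ⟨c, hc⟩
    exact scalar_mem_center _ c (by rw [su_pow_coe, hc])

/-- Matrices in the special unitary group with a lower bound for the projective order. -/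
def InOm (hF : Fintype.card F = q ^ 2) (n : ℕ) (E : ℕ) : Prop :=
  ∃ y : Matrix (Fin n) (Fin n) F, y.transpose * y.map (sigma hF) = 1 ∧ y.det = 1 ∧
    ∀ (k : ℕ) (c : F), y ^ k = c • 1 → E ∣ k

theorem InOm.mem_range [NeZero n] {hF : Fintype.card F = q ^ 2} {E : ℕ} (h : InOm hF n E) :
    E ∈ Set.range (orderOf : PSU n F q → ℕ) := by
  obtain ⟨y, h1, h2, h3⟩ := h
  let z : SU n F q := SUofMatrix y h2 (GUField.preserve_of_relation hF h1)
  have h4 : E ∣ orderOf (QuotientGroup.mk z : PSU n F q) := by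
    obtain ⟨c, hc⟩ := (orderOf_mk_iff hF z _).mp dvd_rfl
    exact h3 _ c hc
  exact ⟨_, orderOf_pow_orderOf_div (orderOf_pos _).ne' h4⟩

/-- Lifting an element of `PSU`. -/
theorem exists_lift [NeZero n] (hF : Fintype.card F = q ^ 2) {a : ℕ} (ha : a ∈ Set.range (orderOf : PSU n F q → ℕ)) :
    ∃ A : Matrix (Fin n) (Fin n) F, A.transpose * A.map (sigma hF) = 1 ∧ A.det = 1 ∧
      ∀ k, (∃ c : F, A ^ k = c • 1) ↔ a ∣ k := by
  obtain ⟨g, rfl⟩ := ha
  obtain ⟨z, rfl⟩ := QuotientGroup.mk_surjective g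
  refine ⟨z.1.1, ?_, z.1.2, ?_⟩
  · exact transpose_mul_map_sigma hF z.2
  · intro k
    exact (orderOf_mk_iff hF z k).symm

end Cfsg.Agent.Lib.SUSpec
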