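import Mathlib
import Cfsg.Agent.Lib.SUSpecEig
import Cfsg.Agent.Lib.SpSpecTorus

/-!
# Orbits of the twisted inversion on eigenvalues
-/

set_option autoImplicit false
set_option linter.unusedSectionVars false

namespace Cfsg.Agent.Lib.SUSpec

open Polynomial Matrix
open Cfsg Cfsg.Agent.Lib.UnitaryBasic Cfsg.Agent.Lib.UnitarySU Cfsg.Agent.Lib.SUCyc
open Cfsg.Agent.Lib.SpSpec

section general

variable {K : Type*} [Field K] {q : ℕ}

lemma tw_pow (z : K) (k : ℕ) : tw q (z ^ k) = (tw q z) ^ k := by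
  simp only [tw_def]
  rw [inv_pow, ← pow_mul, ← pow_mul, mul_comm]

lemma tw_iter_pow (i k : ℕ) (z : K) : (tw q)^[i] (z ^ k) = ((tw q)^[i] z) ^ k := by
  induction i with
  | zero => rfl
  | succ i ih => rw [Function.iterate_succ_apply', Function.iterate_succ_apply', ih, tw_pow]

lemma tw_fix_iff {z : K} (hz : z ≠ 0) : tw q z = z ↔ z ^ (q + 1) = 1 := by
  simp only [tw_def]
  rw [inv_eq_iff_eq_inv, pow_succ]
  constructor
  · intro h
    rw [h]
    exact inv_mul_cancel₀ hz
  · intro h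
    exact eq_inv_of_mul_eq_one_left h

lemma tw_one : tw q (1 : K) = 1 := by simp

lemma tw_iter_fix {w : K} (h : tw q w = w) (i : ℕ) : (tw q)^[i] w = w :=
  Function.iterate_fixed h i

/-- The alternating geometric sum. -/
def geomS (q d : ℕ) : ℤ := ∑ i ∈ Finset.range d, (-(q : ℤ)) ^ i

lemma geomS_mul (q d : ℕ) : ((q : ℤ) + 1) * geomS q d = 1 - (-(q : ℤ)) ^ d := by
  have := mul_neg_geom_sum (-(q : ℤ)) d
  rw [sub_neg_eq_add, add_comm] at this
  unfold geomS
  rw [this]

/-- The absolute value of the alternating geometric sum. -/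
def tT (q d : ℕ) : ℕ := (geomS q d).natAbs

/-- The order of the cyclic torus. -/
def qQ (q d : ℕ) : ℕ := (1 - (-(q : ℤ)) ^ d).natAbs

lemma qQ_eq (q d : ℕ) : qQ q d = (q + 1) * tT q d := by
  unfold qQ tT
  rw [← geomS_mul, Int.natAbs_mul]
  congr 1

lemma zpow_geomS_eq_one_iff {z : K} {q d : ℕ} : z ^ geomS q d = 1 ↔ z ^ tT q d = 1 := by
  unfold tT
  rcases Int.natAbs_eq (geomS q d) with h | h
  · conv_lhs => rw [h]
    rw [zpow_natCast]
  · conv_lhs => rw [h]
    rw [_root_.zpow_neg, inv_eq_one, zpow_natCast]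

lemma tw_iter_zpow {z : K} (hz : z ≠ 0) (i : ℕ) : (tw q)^[i] z = z ^ ((-(q : ℤ)) ^ i) := by
  induction i with
  | zero => simp
  | succ i ih =>
    rw [Function.iterate_succ_apply', ih, pow_succ, _root_.zpow_mul, _root_.zpow_neg]
    simp only [tw_def, zpow_natCast]

lemma tw_iter_ne_zero {z : K} (hz : z ≠ 0) (hq : q ≠ 0) (i : ℕ) : (tw q)^[i] z ≠ 0 := by
  rw [tw_iter_zpow hz]
  exact zpow_ne_zero _ hz

lemma tw_iter_eq_iff {z : K} (hz : z ≠ 0) (d : ℕ) : (tw q)^[d] z = z ↔ z ^ qQ q d = 1 := by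
  rw [tw_iter_zpow hz]
  unfold qQ
  have h1 : z ^ ((-(q : ℤ)) ^ d) = z ↔ z ^ (1 - (-(q : ℤ)) ^ d) = 1 := by
    rw [zpow_sub₀ hz, zpow_one, div_eq_one_iff_eq (zpow_ne_zero _ hz), eq_comm]
  rw [h1]
  rcases Int.natAbs_eq (1 - (-(q : ℤ)) ^ d) with h | h
  · conv_lhs => rw [h]
    rw [zpow_natCast]
  · conv_lhs => rw [h]
    rw [_root_.zpow_neg, inv_eq_one, zpow_natCast]

/-- The orbit, as a multiset. -/
def orb (q d : ℕ) (z : K) : Multiset K := (Multiset.range d).map (fun i => (tw q)^[i] z)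

lemma orb_card (q d : ℕ) (z : K) : Multiset.card (orb q d z) = d := by
  simp [orb]

lemma mem_orb {q d : ℕ} {z w : K} : w ∈ orb q d z ↔ ∃ i < d, (tw q)^[i] z = w := by
  simp [orb, Multiset.mem_map, Multiset.mem_range]

lemma self_mem_orb {q d : ℕ} (hd : 0 < d) (z : K) : z ∈ orb q d z := mem_orb.mpr ⟨0, hd, rfl⟩

lemma orb_closed {d : ℕ} {z : K} (h : (tw q)^[d] z = z) : (orb q d z).map (tw q) = orb q d z := by
  unfold orb
  rw [Multiset.map_map]
  set g : ℕ → K := fun i => (tw q)^[i] z with hg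
  have h1 : (Multiset.range (d + 1)).map g = g d ::ₘ (Multiset.range d).map g := by
    rw [Multiset.range_succ, Multiset.map_cons]
  have h2 : (Multiset.range (d + 1)).map g = g 0 ::ₘ (Multiset.range d).map (fun i => g (i + 1)) := by
    have : Multiset.range (d + 1) = 0 ::ₘ (Multiset.range d).map (fun i => i + 1) := by
      show ((List.range (d + 1) : List ℕ) : Multiset ℕ) = _
      rw [List.range_succ_eq_map]
      rfl
    rw [this, Multiset.map_cons, Multiset.map_map]
    rfl
  have h3 : g d = g 0 := by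
    simp only [hg]
    exact h
  rw [h3] at h1
  rw [h1] at h2
  have h4 := (Multiset.cons_inj_right _).mp h2
  rw [h4]
  apply Multiset.map_congr rfl
  intro i _
  simp only [hg, Function.comp_apply]
  rw [Function.iterate_succ_apply']

lemma orb_prod {d : ℕ} {z : K} (hz : z ≠ 0) : (orb q d z).prod = z ^ geomS q d := by
  induction d with
  | zero => simp [orb, geomS]
  | succ d ih =>
    have h1 : orb q (d + 1) z = (tw q)^[d] z ::ₘ orb q d z := by
      unfold orb
      rw [Multiset.range_succ, Multiset.map_cons]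
    rw [h1, Multiset.prod_cons, ih, tw_iter_zpow hz]
    unfold geomS
    rw [Finset.sum_range_succ, zpow_add₀ hz, mul_comm]

/-- A power fixed by the twisted inversion is constant on the orbit. -/
lemma orb_pow_const {d k : ℕ} {z : K} (hz : z ≠ 0) (h : (z ^ k) ^ (q + 1) = 1) :
    ∀ w ∈ orb q d z, w ^ k = z ^ k := by
  intro w hw
  obtain ⟨i, -, rfl⟩ := mem_orb.mp hw
  rw [← tw_iter_pow, tw_iter_fix ((tw_fix_iff (pow_ne_zero _ hz)).mpr h)]

/-- The norm-one property of `z ^ tT`. -/
lemma pow_tT_fix {d : ℕ} {z : K} (hz : z ≠ 0) (h : (tw q)^[d] z = z) : (z ^ tT q d) ^ (q + 1) = 1 := by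
  rw [← pow_mul, mul_comm, ← qQ_eq]
  exact (tw_iter_eq_iff hz d).mp h

/-- Existence of elements of a given order. -/
lemma exists_order (p : ℕ) [hp : Fact p.Prime] [CharP K p] [IsAlgClosed K] {N : ℕ} (hN : N ≠ 0) (hpN : ¬ p ∣ N) :
    ∃ ξ : K, orderOf ξ = N := by
  haveI : NeZero N := ⟨hN⟩
  haveI : NeZero ((N : ℕ) : K) := ⟨by
    rw [Ne, CharP.cast_eq_zero_iff K p N]
    exact hpN⟩
  have hdeg : (cyclotomic N K).degree ≠ 0 := by
    have := degree_cyclotomic_pos N K (Nat.pos_of_ne_zero hN)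
    exact this.ne'
  obtain ⟨ξ, hξ⟩ := IsAlgClosed.exists_root (cyclotomic N K) hdeg
  have h1 := (isRoot_cyclotomic_iff).mp hξ
  exact ⟨ξ, h1.eq_orderOf.symm⟩

lemma pow_fix_of_order {ξ : K} {N d : ℕ} {q : ℕ} (h : orderOf ξ = N) (hN : N ≠ 0) (hd : N ∣ qQ q d) :
    (tw q)^[d] ξ = ξ := by
  have h0 : ξ ≠ 0 := by
    rintro rfl
    rw [orderOf_zero] at h
    exact hN h.symm
  rw [tw_iter_eq_iff h0]
  rw [← h] at hd
  exact orderOf_dvd_iff_pow_eq_one.mp hd

end general

section decomposition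

variable {F : Type*} [Field F] [Fintype F] {q : ℕ}

local notation "K" => AlgebraicClosure F
local notation "ιF" => algebraMap F (AlgebraicClosure F)

variable (hF : Fintype.card F = q ^ 2)

include hF in
lemma tw_iter_injective (i : ℕ) : Function.Injective ((tw q)^[i] : K → K) :=
  (tw_injective hF).iterate i

include hF in
lemma mem_iter (M : Multiset K) (hM : M.map (tw q) = M) {z : K} (hz : z ∈ M) (i : ℕ) : (tw q)^[i] z ∈ M := by
  induction i with
  | zero => exact hz
  | succ i ih =>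
    rw [Function.iterate_succ_apply']
    rw [← hM]
    exact Multiset.mem_map_of_mem _ ih

include hF in
lemma period_pos (M : Multiset K) (hM : M.map (tw q) = M) {z : K} (hz : z ∈ M) :
    0 < Function.minimalPeriod (tw q) z := by
  classical
  apply Function.minimalPeriod_pos_of_mem_periodicPts
  let f : ℕ → M.toFinset := fun i => ⟨(tw q)^[i] z, Multiset.mem_toFinset.mpr (mem_iter hF M hM hz i)⟩
  obtain ⟨i, j, hij, hf⟩ := Finite.exists_ne_map_eq_of_infinite f
  have hf' : (tw q)^[i] z = (tw q)^[j] z := congrArg Subtype.val hf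
  have key : ∀ {i j : ℕ}, i < j → (tw q)^[i] z = (tw q)^[j] z → z ∈ Function.periodicPts (tw q) := by
    intro i j hlt h
    refine ⟨j - i, by omega, ?_⟩
    apply tw_iter_injective hF i
    show (tw q)^[i] ((tw q)^[j - i] z) = (tw q)^[i] z
    rw [← Function.iterate_add_apply, Nat.add_sub_cancel' hlt.le, h]
  rcases lt_or_gt_of_ne hij with h | h
  · exact key h hf'
  · exact key h hf'.symm

include hF in
lemma count_iter [DecidableEq K] (M : Multiset K) (hM : M.map (tw q) = M) (z : K) (i : ℕ) :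
    Multiset.count ((tw q)^[i] z) M = Multiset.count z M := by
  induction i with
  | zero => rfl
  | succ i ih =>
    rw [Function.iterate_succ_apply']
    conv_lhs => rw [← hM]
    rw [Multiset.count_map_eq_count' _ _ (tw_injective hF), ih]

lemma orb_nodup (z : K) : (orb q (Function.minimalPeriod (tw q) z) z).Nodup := by
  unfold orb
  apply Multiset.Nodup.map_on _ (Multiset.nodup_range _)
  intro a ha b hb hab
  exact Function.iterate_injOn_Iio_minimalPeriod (Multiset.mem_range.mp ha) (Multiset.mem_range.mp hb) hab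

include hF in
lemma nsmul_orb_le [DecidableEq K] (M : Multiset K) (hM : M.map (tw q) = M) (z : K) (m : ℕ)
    (hm : m ≤ Multiset.count z M) : m • orb q (Function.minimalPeriod (tw q) z) z ≤ M := by
  rw [Multiset.le_iff_count]
  intro w
  rw [Multiset.count_nsmul]
  by_cases hw : w ∈ orb q (Function.minimalPeriod (tw q) z) z
  · rw [Multiset.count_eq_one_of_mem (orb_nodup z) hw, mul_one]
    obtain ⟨i, -, rfl⟩ := mem_orb.mp hw
    rw [count_iter hF M hM]
    exact hm
  · rw [Multiset.count_eq_zero_of_notMem hw, mul_zero]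
    exact Nat.zero_le _

lemma period_spec (z : K) : (tw q)^[Function.minimalPeriod (tw q) z] z = z :=
  Function.isPeriodicPt_minimalPeriod _ _

lemma nsmul_orb_closed (z : K) (m : ℕ) :
    (m • orb q (Function.minimalPeriod (tw q) z) z).map (tw q) = m • orb q (Function.minimalPeriod (tw q) z) z := by
  rw [Multiset.map_nsmul, orb_closed (period_spec z)]

include hF in
/-- Splitting off a multiple of an orbit. -/
lemma exists_split [DecidableEq K] (M : Multiset K) (hM : M.map (tw q) = M) (z : K) (m : ℕ)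
    (hm : m ≤ Multiset.count z M) :
    ∃ M₂, M = m • orb q (Function.minimalPeriod (tw q) z) z + M₂ ∧ M₂.map (tw q) = M₂ := by
  have h1 := nsmul_orb_le hF M hM z m hm
  refine ⟨M - m • orb q (Function.minimalPeriod (tw q) z) z, (add_tsub_cancel_of_le h1).symm, ?_⟩
  have h2 := add_tsub_cancel_of_le h1
  set M₁ := m • orb q (Function.minimalPeriod (tw q) z) z with hM₁
  set M₂ := M - M₁ with hM₂
  have h3 : M₁.map (tw q) = M₁ := nsmul_orb_closed z m
  have h4 : M₁ + M₂.map (tw q) = M₁ + M₂ := by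
    rw [h2]
    conv_rhs => rw [← hM, ← h2]
    rw [Multiset.map_add, h3]
  exact add_left_cancel h4

include hF in
/-- Norm-one elements of the field. -/
lemma exists_xi (z : K) (hz0 : z ≠ 0) (m : ℕ) :
    ∃ ξ : F, ξ ^ (q + 1) = 1 ∧ (ιF ξ)⁻¹ ∉ m • orb q (Function.minimalPeriod (tw q) z) z := by
  have hq2 := HermCount.two_le_q hF
  obtain ⟨a, ha, ha2⟩ := exists_nrm_one_sq_ne_one hF
  have ha1 : a ^ (q + 1) = 1 := by
    rw [← HermCount.nrm_eq_pow]
    exact ha
  have hfix : ∀ w ∈ orb q (Function.minimalPeriod (tw q) z) z, w ^ (q + 1) = 1 → w = z := by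
    intro w hw h
    obtain ⟨i, hi, rfl⟩ := mem_orb.mp hw
    have h0 := tw_iter_ne_zero hz0 (by omega : q ≠ 0) i
    have h1 := (tw_fix_iff h0).mpr h
    have h2 := tw_iter_fix h1 (Function.minimalPeriod (tw q) z - i)
    rw [← Function.iterate_add_apply, Nat.sub_add_cancel hi.le, period_spec] at h2
    exact h2.symm
  by_cases hz1 : z = 1
  · refine ⟨a, ha1, ?_⟩
    intro hmem
    have h1 := hfix _ (Multiset.mem_of_mem_nsmul hmem) (by
      rw [inv_pow, ← map_pow, ha1, map_one, inv_one])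
    rw [hz1, inv_eq_one] at h1
    have h2 : a = 1 := (ιF).injective (by rw [h1, map_one])
    apply ha2
    rw [h2, one_pow]
  · refine ⟨1, one_pow _, ?_⟩
    intro hmem
    rw [map_one, inv_one] at hmem
    exact hz1 (hfix _ (Multiset.mem_of_mem_nsmul hmem) (one_pow _)).symm

end decomposition

end Cfsg.Agent.Lib.SUSpec
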