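import Mathlib
import Cfsg.Agent.Lib.SUSpecOrb

/-!
# Doubling constructions in the special unitary group
-/

set_option autoImplicit false
set_option linter.unusedSectionVars false

namespace Cfsg.Agent.Lib.SUSpec

open Polynomial Matrix
open Cfsg Cfsg.Agent.Lib.UnitaryBasic Cfsg.Agent.Lib.UnitarySU Cfsg.Agent.Lib.SUCyc
open Cfsg.Agent.Lib.SpSpec

variable {F : Type*} [Field F] [Fintype F] {q : ℕ}

local notation "K" => AlgebraicClosure F
local notation "ιF" => algebraMap F (AlgebraicClosure F)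

variable (hF : Fintype.card F = q ^ 2)

include hF in
lemma exists_zeta {r : ℕ} (hrq : r ∣ q + 1) : ∃ ζ : F, orderOf ζ = r ∧ ζ ^ (q + 1) = 1 := by
  have hq2 := HermCount.two_le_q hF
  have h1 : r ∣ Fintype.card F - 1 := by
    rw [hF]
    refine hrq.trans ⟨q - 1, ?_⟩
    obtain ⟨t, rfl⟩ : ∃ t, q = t + 1 := ⟨q - 1, by omega⟩
    simp only [Nat.add_sub_cancel]
    have : (t + 1) ^ 2 = (t + 1 + 1) * t + 1 := by ring
    omega
  obtain ⟨η, hη⟩ := exists_unit_order F r h1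
  refine ⟨(η : F), by rw [orderOf_units, hη], ?_⟩
  have h2 : η ^ (q + 1) = 1 := orderOf_dvd_iff_pow_eq_one.mp (by rw [hη]; exact hrq)
  have := congrArg Units.val h2
  simpa using this

lemma InOm.of_Rz {n e E : ℕ} {M : Multiset K} (h : Rz hF n M e) (hprod : M.prod = 1)
    (hE : ∀ (k : ℕ) (c : F), (∀ z ∈ M, z ^ k = ιF c) → e ∣ k → E ∣ k) : InOm hF n E := by
  obtain ⟨_, y, h1, h2, h3⟩ := h
  refine ⟨y, h1, ?_, ?_⟩
  · apply (ιF).injective
    rw [h2, hprod, map_one]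
  · intro k c hk
    obtain ⟨a, b⟩ := h3 k c hk
    exact hE k c a b

/-- A multiple of an orbit is realized by a regular element. -/
lemma Rz.orb_mult [DecidableEq K] (p : ℕ) [hp : Fact p.Prime] [CharP K p] {z₀ : K} (hz₀ : z₀ ≠ 0)
    (hd : 0 < Function.minimalPeriod (tw q) z₀) (β : ℕ) :
    Rz hF (Multiset.card ((p ^ β + 1) • orb q (Function.minimalPeriod (tw q) z₀) z₀))
      ((p ^ β + 1) • orb q (Function.minimalPeriod (tw q) z₀) z₀) (p ^ (β + 1)) := by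
  have hq0 : q ≠ 0 := by
    have := HermCount.two_le_q hF
    omega
  obtain ⟨ξ, hξ1, hξ2⟩ := exists_xi hF z₀ hz₀ (p ^ β + 1)
  have hPpos : 0 < p ^ β := pow_pos hp.out.pos _
  apply Rz.of_count hF p _ (nsmul_orb_closed z₀ _) _ _ ξ hξ1 hξ2 z₀ β
  · rw [Multiset.count_nsmul, Multiset.count_eq_one_of_mem (orb_nodup z₀) (self_mem_orb hd z₀), mul_one]
  · intro z hz
    obtain ⟨i, -, rfl⟩ := mem_orb.mp (Multiset.mem_of_mem_nsmul hz)
    exact tw_iter_ne_zero hz₀ hq0 i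
  · rw [Multiset.card_nsmul, orb_card]
    have : (p ^ β + 1) * 1 ≤ (p ^ β + 1) * Function.minimalPeriod (tw q) z₀ := Nat.mul_le_mul_left _ hd
    omega

/-- The main doubling construction: blocks multiplied by scalars of order dividing `r`. -/
theorem double_core {n r a' e : ℕ} (hr : r.Prime) (hrq : r ∣ q + 1) (hrn : ¬ r ∣ n) (hra : ¬ r ∣ a')
    (M₁ M₂ : Multiset K) (hne₁ : M₁ ≠ 0) (hne₂ : M₂ ≠ 0) (hn : Multiset.card M₁ + Multiset.card M₂ = n)
    (hprod : M₁.prod * M₂.prod = 1)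
    (hall : ∀ z ∈ M₁ + M₂, ∀ z' ∈ M₁ + M₂, z ^ a' = z' ^ a')
    (hmin : ∀ (k : ℕ) (d : K), (∀ z ∈ M₁ + M₂, z ^ k = d) → a' ∣ k)
    (h0 : ∀ z ∈ M₁ + M₂, z ≠ 0)
    (hR₁ : Rz hF (Multiset.card M₁) M₁ e) (hR₂ : Rz hF (Multiset.card M₂) M₂ 1) :
    InOm hF n (Nat.lcm r (Nat.lcm a' e)) := by
  obtain ⟨ζ, hζ, hζ1⟩ := exists_zeta hF hrq
  have hq2 := HermCount.two_le_q hF
  have hζ0 : ζ ≠ 0 := by
    rintro rfl
    rw [zero_pow (by omega)] at hζ1
    exact zero_ne_one hζ1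
  set w := Multiset.card M₁ with hw
  set w' := Multiset.card M₂ with hw'
  set ζ₁ : F := ζ ^ w' with hζ₁
  set ζ₂ : F := (ζ ^ w)⁻¹ with hζ₂
  have hζ₁1 : ζ₁ ^ (q + 1) = 1 := by
    rw [hζ₁, ← pow_mul, mul_comm, pow_mul, hζ1, one_pow]
  have hζ₂1 : ζ₂ ^ (q + 1) = 1 := by
    rw [hζ₂, inv_pow, ← pow_mul, mul_comm, pow_mul, hζ1, one_pow, inv_one]
  have hR := ((hR₁.smul hF ζ₁ hζ₁1).add hF (hR₂.smul hF ζ₂ hζ₂1)).cast hF hn rfl (Nat.lcm_one_right e)
  set M' := M₁.map (fun z => ιF ζ₁ * z) + M₂.map (fun z => ιF ζ₂ * z) with hM'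
  have hprod' : M'.prod = 1 := by
    rw [hM', Multiset.prod_add, Multiset.prod_map_mul, Multiset.prod_map_mul, Multiset.map_const', Multiset.map_const',
      Multiset.map_id', Multiset.map_id', Multiset.prod_replicate, Multiset.prod_replicate, ← hw, ← hw']
    have e1 : (ιF ζ₁) ^ w * (ιF ζ₂) ^ w' = 1 := by
      rw [← map_pow, ← map_pow, ← map_mul, hζ₁, hζ₂, inv_pow, ← pow_mul, ← pow_mul, mul_comm w' w,
        mul_inv_cancel₀ (pow_ne_zero _ hζ0), map_one]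
    calc _ = ((ιF ζ₁) ^ w * (ιF ζ₂) ^ w') * (M₁.prod * M₂.prod) := by ring
      _ = 1 := by rw [e1, hprod, one_mul]
  apply InOm.of_Rz hF hR hprod'
  intro k c hk hek
  obtain ⟨z₁, hz₁⟩ := Multiset.exists_mem_of_ne_zero hne₁
  obtain ⟨z₂, hz₂⟩ := Multiset.exists_mem_of_ne_zero hne₂
  have hk₁ : ∀ z ∈ M₁, (ιF ζ₁) ^ k * z ^ k = ιF c := by
    intro z hz
    rw [← mul_pow]
    exact hk _ (Multiset.mem_add.mpr (Or.inl (Multiset.mem_map_of_mem _ hz)))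
  have hk₂ : ∀ z ∈ M₂, (ιF ζ₂) ^ k * z ^ k = ιF c := by
    intro z hz
    rw [← mul_pow]
    exact hk _ (Multiset.mem_add.mpr (Or.inr (Multiset.mem_map_of_mem _ hz)))
  -- `r` divides `k`
  have hmem₁ : z₁ ∈ M₁ + M₂ := Multiset.mem_add.mpr (Or.inl hz₁)
  have hmem₂ : z₂ ∈ M₁ + M₂ := Multiset.mem_add.mpr (Or.inr hz₂)
  have h1 : ζ₁ ^ (k * a') = ζ₂ ^ (k * a') := by
    apply (ιF).injective
    have h2 := congrArg (fun x => x ^ a') ((hk₁ z₁ hz₁).trans (hk₂ z₂ hz₂).symm)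
    simp only [mul_pow] at h2
    rw [← pow_mul, ← pow_mul, ← pow_mul, ← pow_mul, mul_comm k a', pow_mul z₁, pow_mul z₂, hall z₁ hmem₁ z₂ hmem₂] at h2
    have h3 : (z₂ ^ a') ^ k ≠ 0 := pow_ne_zero _ (pow_ne_zero _ (h0 z₂ hmem₂))
    have h4 := mul_right_cancel₀ h3 h2
    rw [map_pow ιF ζ₁ (k * a'), map_pow ιF ζ₂ (k * a'), mul_comm k a']
    exact h4
  have h5 : ζ ^ (n * (k * a')) = 1 := by
    have e1 : ζ₁ ^ (k * a') = ζ ^ (w' * (k * a')) := by rw [hζ₁, ← pow_mul]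
    have e2 : ζ₂ ^ (k * a') = (ζ ^ (w * (k * a')))⁻¹ := by rw [hζ₂, inv_pow, ← pow_mul]
    rw [e1, e2] at h1
    rw [← hn, add_mul, pow_add, h1]
    exact mul_inv_cancel₀ (pow_ne_zero _ hζ0)
  have h6 : r ∣ n * (k * a') := by
    rw [← hζ]
    exact orderOf_dvd_of_pow_eq_one h5
  have hrk : r ∣ k := by
    rcases (hr.dvd_mul).mp h6 with h7 | h7
    · exact absurd h7 hrn
    · rcases (hr.dvd_mul).mp h7 with h8 | h8
      · exact h8
      · exact absurd h8 hra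
  have hζk : ζ ^ k = 1 := by
    rw [← orderOf_dvd_iff_pow_eq_one, hζ]
    exact hrk
  have hζ₁k : ζ₁ ^ k = 1 := by
    rw [hζ₁, ← pow_mul, mul_comm, pow_mul, hζk, one_pow]
  have hζ₂k : ζ₂ ^ k = 1 := by
    rw [hζ₂, inv_pow, ← pow_mul, mul_comm, pow_mul, hζk, one_pow, inv_one]
  have hall2 : ∀ z ∈ M₁ + M₂, z ^ k = ιF c := by
    intro z hz
    rcases Multiset.mem_add.mp hz with hz | hz
    · have := hk₁ z hz
      rwa [← map_pow, hζ₁k, map_one, one_mul] at this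
    · have := hk₂ z hz
      rwa [← map_pow, hζ₂k, map_one, one_mul] at this
  exact Nat.lcm_dvd hrk (Nat.lcm_dvd (hmin k _ hall2) hek)

lemma not_dvd_qQ {p q d : ℕ} (hp : p.Prime) (hpq : p ∣ q) (hd : d ≠ 0) : ¬ p ∣ qQ q d := by
  intro h
  have h1 : (p : ℤ) ∣ 1 - (-(q : ℤ)) ^ d := by
    unfold qQ at h
    exact Int.natCast_dvd.mpr h
  have h2 : (p : ℤ) ∣ (-(q : ℤ)) ^ d := by
    apply dvd_pow _ hd
    rw [dvd_neg]
    exact Int.natCast_dvd_natCast.mpr hpq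
  have h3 : (p : ℤ) ∣ 1 := by
    have := dvd_add h1 h2
    simpa using this
  have h4 := Int.natCast_dvd_natCast.mp (by simpa using h3 : (p : ℤ) ∣ ((1 : ℕ) : ℤ))
  exact hp.one_lt.ne' (Nat.dvd_one.mp h4)

lemma qQ_ne_zero {p q d : ℕ} (hp : p.Prime) (hpq : p ∣ q) (hd : d ≠ 0) : qQ q d ≠ 0 := by
  intro h
  apply not_dvd_qQ hp hpq hd
  rw [h]
  exact dvd_zero _

lemma zpow_one_sub_eq_one {L : Type*} [Field L] {z : L} {q d : ℕ} (h : z ^ qQ q d = 1) :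
    z ^ (1 - (-(q : ℤ)) ^ d) = 1 := by
  unfold qQ at h
  rcases Int.natAbs_eq (1 - (-(q : ℤ)) ^ d) with h1 | h1
  · conv_lhs => rw [h1]
    rw [zpow_natCast]
    exact h
  · conv_lhs => rw [h1]
    rw [_root_.zpow_neg, zpow_natCast, h, inv_one]

lemma exists_root_of_gcd {L : Type*} [Field L] {q : ℕ} {ε : L} (hε : ε ^ (q + 1) = 1) (n : ℕ) :
    ∃ ξ : L, ξ ^ (q + 1) = 1 ∧ ξ ^ n * ε ^ Nat.gcd n (q + 1) = 1 := by
  have h0 : ε ≠ 0 := by
    rintro rfl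
    rw [zero_pow (by omega)] at hε
    exact zero_ne_one hε
  have h1 : ((Nat.gcd n (q + 1) : ℕ) : ℤ) = n * Nat.gcdA n (q + 1) + (q + 1 : ℕ) * Nat.gcdB n (q + 1) :=
    Nat.gcd_eq_gcd_ab n (q + 1)
  have h2 : ε ^ Nat.gcd n (q + 1) = (ε ^ Nat.gcdA n (q + 1)) ^ n := by
    rw [← zpow_natCast ε (Nat.gcd n (q + 1)), h1, zpow_add₀ h0, _root_.zpow_mul, _root_.zpow_mul, zpow_natCast, zpow_natCast ε, hε,
      _root_.one_zpow, mul_one, ← zpow_natCast, ← _root_.zpow_mul, ← zpow_natCast, ← _root_.zpow_mul, mul_comm]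
  refine ⟨(ε ^ Nat.gcdA n (q + 1))⁻¹, ?_, ?_⟩
  · rw [inv_pow, ← zpow_natCast (ε ^ _), ← _root_.zpow_mul, mul_comm, _root_.zpow_mul, zpow_natCast, hε, _root_.one_zpow, inv_one]
  · rw [h2, inv_pow]
    exact inv_mul_cancel₀ (pow_ne_zero _ (zpow_ne_zero _ h0))

/-- The construction when the eigenvalues form a multiple of one orbit. -/
theorem double_h [DecidableEq K] (p : ℕ) [hp : Fact p.Prime] [CharP K p] (hpq : p ∣ q) {n r a' β : ℕ}
    (hr : r.Prime) (hrq : r ∣ q + 1) (hrn : ¬ r ∣ n)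
    {z₀ : K} (hz₀ : z₀ ≠ 0) {d : ℕ} (hd : 1 ≤ d) (hd2 : (tw q)^[d] z₀ = z₀)
    (hmin : ∀ (k : ℕ) (w : K), (∀ z ∈ orb q d z₀, z ^ k = w) → a' ∣ k) (hdim : p ^ β + 1 + d ≤ n) :
    InOm hF n (Nat.lcm r (Nat.lcm a' (p ^ (β + 1)))) := by
  classical
  have hq2 := HermCount.two_le_q hF
  have hq0 : q ≠ 0 := by omega
  have hd0 : d ≠ 0 := by omega
  set Q := qQ q d with hQ
  have hQe : Q = (q + 1) * tT q d := qQ_eq q d
  have hQ0 : Q ≠ 0 := qQ_ne_zero hp.out hpq hd0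
  obtain ⟨γ, hγ⟩ : ∃ γ : K, orderOf γ = Q := exists_order p hQ0 (not_dvd_qQ hp.out hpq hd0)
  set g := Nat.gcd n (q + 1) with hg
  have hg1 : g ∣ q + 1 := Nat.gcd_dvd_right _ _
  obtain ⟨c₁, hc₁⟩ := hg1
  have hg0 : g ≠ 0 := by
    intro h
    rw [h, zero_mul] at hc₁
    omega
  have hgQ : g ∣ Q := by
    rw [hQe, hc₁, mul_assoc]
    exact Dvd.intro _ rfl
  have hγ0 : γ ≠ 0 := by
    rintro rfl
    rw [orderOf_zero] at hγ
    exact hQ0 hγ.symm
  set β₀ := γ ^ g with hβ₀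
  have hβ₀0 : β₀ ≠ 0 := pow_ne_zero _ hγ0
  have hord : orderOf β₀ = c₁ * tT q d := by
    rw [hβ₀, orderOf_pow_of_dvd hg0 (by rw [hγ]; exact hgQ), hγ, hQe, hc₁, mul_assoc,
      Nat.mul_div_cancel_left _ (Nat.pos_of_ne_zero hg0)]
  have hβfix : (tw q)^[d] β₀ = β₀ := by
    rw [tw_iter_eq_iff hβ₀0, ← hQ, ← orderOf_dvd_iff_pow_eq_one, hord, hQe, hc₁, mul_assoc]
    exact Dvd.intro_left _ rfl
  set O := orb q d β₀ with hO
  have hOcl : O.map (tw q) = O := orb_closed hβfix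
  have hO0 : ∀ z ∈ O, z ≠ 0 := by
    intro z hz
    obtain ⟨i, -, rfl⟩ := mem_orb.mp hz
    exact tw_iter_ne_zero hβ₀0 hq0 i
  have RO : Rz hF d O 1 := (Rz.realize hF O hOcl hO0).cast hF (orb_card q d β₀) rfl rfl
  have hper1 : Function.minimalPeriod (tw q) (1 : K) = 1 := by
    rw [Function.minimalPeriod_eq_one_iff_isFixedPt]
    exact tw_one
  set A := (p ^ β + 1) • orb q (Function.minimalPeriod (tw q) (1 : K)) (1 : K) with hA
  have RA : Rz hF (Multiset.card A) A (p ^ (β + 1)) :=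
    Rz.orb_mult hF p one_ne_zero (by rw [hper1]; exact one_pos) β
  have hAcard : Multiset.card A = p ^ β + 1 := by
    rw [hA, Multiset.card_nsmul, orb_card, hper1, mul_one]
  have hAone : ∀ z ∈ A, z = 1 := by
    intro z hz
    obtain ⟨i, -, rfl⟩ := mem_orb.mp (Multiset.mem_of_mem_nsmul hz)
    exact tw_iter_fix tw_one i
  set s := n - (p ^ β + 1 + d) with hs
  have RB := Rz.scalar hF s (1 : F) (one_pow _)
  rw [map_one] at RB
  have R := (RA.add hF (RO.add hF RB)).cast hF (by omega : Multiset.card A + (d + s) = n) rfl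
    (by simp : Nat.lcm (p ^ (β + 1)) (Nat.lcm 1 1) = p ^ (β + 1))
  set M₀ := A + (O + Multiset.replicate s (1 : K)) with hM₀
  have hM₀card : Multiset.card M₀ = n := R.1
  -- the scalar
  set ε : K := γ ^ geomS q d with hε
  have hε1 : ε ^ (q + 1) = 1 := by
    rw [hε, ← zpow_natCast, ← _root_.zpow_mul, mul_comm]
    have h1 : ((q + 1 : ℕ) : ℤ) * geomS q d = 1 - (-(q : ℤ)) ^ d := by
      push_cast
      exact geomS_mul q d
    rw [h1]
    apply zpow_one_sub_eq_one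
    rw [← hQ, ← hγ]
    exact pow_orderOf_eq_one γ
  have hOprod : O.prod = ε ^ g := by
    rw [hO, orb_prod hβ₀0, hβ₀, hε, ← zpow_natCast γ g, ← zpow_natCast (γ ^ geomS q d) g, ← _root_.zpow_mul, ← _root_.zpow_mul,
      mul_comm]
  obtain ⟨ξ, hξ1, hξ2⟩ := exists_root_of_gcd hε1 n
  obtain ⟨ω, hω1, rfl⟩ := mem_range_of_mu hF hξ1
  have R' := R.smul hF ω hω1
  have hM₀prod : M₀.prod = ε ^ g := by
    rw [hM₀, Multiset.prod_add, Multiset.prod_add, Multiset.prod_replicate, one_pow, mul_one, hOprod,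
      Multiset.prod_eq_one hAone, one_mul]
  have hprod : (M₀.map (fun z => ιF ω * z)).prod = 1 := by
    rw [Multiset.prod_map_mul, Multiset.map_const', Multiset.map_id', Multiset.prod_replicate, hM₀card, hM₀prod]
    exact hξ2
  apply InOm.of_Rz hF R' hprod
  intro k c hk hek
  have h1mem : (1 : K) ∈ A := by
    rw [hA]
    apply (Multiset.mem_nsmul_of_ne_zero (by omega)).mpr
    exact self_mem_orb (by rw [hper1]; exact one_pos) 1
  have hβmem : β₀ ∈ O := self_mem_orb hd β₀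
  have e1 := hk (ιF ω * 1) (Multiset.mem_map_of_mem _ (Multiset.mem_add.mpr (Or.inl h1mem)))
  have e2 := hk (ιF ω * β₀) (Multiset.mem_map_of_mem _ (Multiset.mem_add.mpr (Or.inr (Multiset.mem_add.mpr (Or.inl hβmem)))))
  rw [mul_one] at e1
  rw [mul_pow, e1] at e2
  have hcc : ιF c ≠ 0 := by
    rw [← e1]
    apply pow_ne_zero
    intro h
    rw [h, zero_pow (by omega)] at hξ1
    exact zero_ne_one hξ1
  have hβk : β₀ ^ k = 1 := by
    have : ιF c * β₀ ^ k = ιF c * 1 := by rw [e2, mul_one]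
    exact mul_left_cancel₀ hcc this
  have hdvd : c₁ * tT q d ∣ k := by
    rw [← hord]
    exact orderOf_dvd_of_pow_eq_one hβk
  have ha' : a' ∣ tT q d := hmin _ _ (orb_pow_const hz₀ (pow_tT_fix hz₀ hd2))
  have hrc : r ∣ c₁ := by
    have h2 : r ∣ g * c₁ := by rw [← hc₁]; exact hrq
    rcases (hr.dvd_mul).mp h2 with h3 | h3
    · exact absurd (h3.trans (Nat.gcd_dvd_left _ _)) hrn
    · exact h3
  refine Nat.lcm_dvd ((hrc.trans (Nat.dvd_mul_right _ _)).trans hdvd) (Nat.lcm_dvd ?_ hek)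
  exact (ha'.trans (Nat.dvd_mul_left _ _)).trans hdvd

/-- The torus of order `(q^n - (-1)^n)/(q+1)` in the special unitary group. -/
theorem torus_mem (p : ℕ) [hp : Fact p.Prime] [CharP K p] (hpq : p ∣ q) {n : ℕ} (hn : n ≠ 0) :
    InOm hF n (tT q n / Nat.gcd (tT q n) (q + 1)) := by
  have hq2 := HermCount.two_le_q hF
  have hq0 : q ≠ 0 := by omega
  have hQe : qQ q n = (q + 1) * tT q n := qQ_eq q n
  have hQ0 : qQ q n ≠ 0 := qQ_ne_zero hp.out hpq hn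
  set T := tT q n with hT
  have hT0 : T ≠ 0 := by
    intro h
    rw [h, mul_zero] at hQe
    exact hQ0 hQe
  have hpT : ¬ p ∣ T := by
    intro h
    apply not_dvd_qQ hp.out hpq hn
    rw [hQe]
    exact Dvd.dvd.mul_left h _
  obtain ⟨ξ, hξ⟩ : ∃ ξ : K, orderOf ξ = T := exists_order p hT0 hpT
  have hξ0 : ξ ≠ 0 := by
    rintro rfl
    rw [orderOf_zero] at hξ
    exact hT0 hξ.symm
  have hξfix : (tw q)^[n] ξ = ξ := pow_fix_of_order hξ hT0 (by rw [hQe]; exact Dvd.intro_left _ rfl)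
  have hξT : ξ ^ T = 1 := by
    rw [← hξ]
    exact pow_orderOf_eq_one ξ
  set O := orb q n ξ with hO
  have hOcl : O.map (tw q) = O := orb_closed hξfix
  have hO0 : ∀ z ∈ O, z ≠ 0 := by
    intro z hz
    obtain ⟨i, -, rfl⟩ := mem_orb.mp hz
    exact tw_iter_ne_zero hξ0 hq0 i
  have RO : Rz hF n O 1 := (Rz.realize hF O hOcl hO0).cast hF (orb_card q n ξ) rfl rfl
  have hprod : O.prod = 1 := by
    rw [hO, orb_prod hξ0, zpow_geomS_eq_one_iff]
    exact hξT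
  apply InOm.of_Rz hF RO hprod
  intro k c hk _
  have hξmem : ξ ∈ O := self_mem_orb (Nat.pos_of_ne_zero hn) ξ
  have hτmem : tw q ξ ∈ O := by
    rw [← hOcl]
    exact Multiset.mem_map_of_mem _ hξmem
  have e1 := hk ξ hξmem
  have e2 := hk _ hτmem
  rw [← tw_pow, e1.symm] at e2
  have e3 := (tw_fix_iff (pow_ne_zero _ hξ0)).mp e2
  have e4 : T ∣ k * (q + 1) := by
    rw [← hξ]
    apply orderOf_dvd_of_pow_eq_one
    rw [pow_mul]
    exact e3
  set g := Nat.gcd T (q + 1) with hg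
  have hg0 : 0 < g := Nat.gcd_pos_of_pos_left _ (Nat.pos_of_ne_zero hT0)
  obtain ⟨T', hT'⟩ : g ∣ T := Nat.gcd_dvd_left _ _
  obtain ⟨c', hc'⟩ : g ∣ q + 1 := Nat.gcd_dvd_right _ _
  have hcop : Nat.Coprime T' c' := by
    have := Nat.coprime_div_gcd_div_gcd (m := T) (n := q + 1) hg0
    rw [← hg] at this
    rwa [hT', hc', Nat.mul_div_cancel_left _ hg0, Nat.mul_div_cancel_left _ hg0] at this
  have hT2 : T / g = T' := by
    rw [hT', Nat.mul_div_cancel_left _ hg0]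
  rw [hT2]
  rw [hT', hc', mul_comm g T', mul_comm g c', ← mul_assoc] at e4
  have e5 := Nat.dvd_of_mul_dvd_mul_right hg0 e4
  exact hcop.dvd_of_dvd_mul_right e5

/-- A single orbit of eigenvalues of an element of determinant one. -/
theorem single_orbit {n a' : ℕ} {z₀ : K} (hq1 : 1 ≤ q) (hz₀ : z₀ ≠ 0) (hprod : (orb q n z₀).prod = 1)
    (hmin : ∀ (k : ℕ) (w : K), (∀ z ∈ orb q n z₀, z ^ k = w) → a' ∣ k) :
    a' ∣ tT q n / Nat.gcd (tT q n) (q + 1) := by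
  rw [orb_prod hz₀, zpow_geomS_eq_one_iff] at hprod
  apply hmin _ (z₀ ^ (tT q n / Nat.gcd (tT q n) (q + 1)))
  apply orb_pow_const hz₀
  rw [← pow_mul]
  have hgd := Nat.gcd_dvd_left (tT q n) (q + 1)
  obtain ⟨c', hc'⟩ : Nat.gcd (tT q n) (q + 1) ∣ q + 1 := Nat.gcd_dvd_right _ _
  set g := Nat.gcd (tT q n) (q + 1) with hg
  have h1 : tT q n / g * (q + 1) = tT q n * c' := by
    rw [hc', ← mul_assoc, Nat.div_mul_cancel hgd]
  rw [h1, pow_mul, hprod, one_pow]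

end Cfsg.Agent.Lib.SUSpec
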