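import Mathlib
import Cfsg.Agent.Lib.SUSpecDouble

/-!
# Element orders of `PSU`: doubling by a prime divisor of `q + 1`
-/

set_option autoImplicit false
set_option linter.unusedSectionVars false

namespace Cfsg.Agent.Lib.SUSpec

open Polynomial Matrix
open Cfsg Cfsg.Agent.Lib.UnitaryBasic Cfsg.Agent.Lib.UnitarySU Cfsg.Agent.Lib.SUCyc
open Cfsg.Agent.Lib.SpSpec

variable {F : Type*} [Field F] [Fintype F] {q : ℕ} {n : ℕ} [NeZero n]

local notation "K" => AlgebraicClosure F
local notation "ιF" => algebraMap F (AlgebraicClosure F)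

variable (hF : Fintype.card F = q ^ 2)

include hF in
/-- The eigenvalue data of a lift of an element of `PSU`. -/
lemma spec_setup [DecidableEq K] (p : ℕ) [hp : Fact p.Prime] [CharP F p] {a' α : ℕ}
    (ha : a' * p ^ α ∈ Set.range (orderOf : PSU n F q → ℕ)) (hcop : Nat.Coprime a' p) :
    ∃ M : Multiset K, M.map (tw q) = M ∧ (∀ z ∈ M, z ≠ 0) ∧ Multiset.card M = n ∧ M.prod = 1 ∧
      (∀ z ∈ M, ∀ z' ∈ M, z ^ a' = z' ^ a') ∧ (∀ (k : ℕ) (d : K), (∀ z ∈ M, z ^ k = d) → a' ∣ k) ∧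
      (1 ≤ α → ∃ z ∈ M, p ^ (α - 1) + 1 ≤ Multiset.count z M) := by
  have ha0 : a' ≠ 0 := by
    obtain ⟨g, hg⟩ := ha
    have := orderOf_pos g
    rintro rfl
    rw [zero_mul] at hg
    omega
  obtain ⟨A, h1, h2, h3⟩ := exists_lift hF ha
  obtain ⟨e1, e2, e3⟩ := eigen_proj p A a' α hcop ha0 h3
  refine ⟨(chi A).roots, roots_closed hF h1, roots_ne_zero hF h1, roots_card A, ?_, ?_, e2, ?_⟩
  · rw [roots_prod, h2, map_one]
  · obtain ⟨d, hd⟩ := e1
    intro z hz z' hz'
    rw [hd z hz, hd z' hz']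
  · intro hα
    obtain ⟨z, hz, hz2⟩ := e3 hα
    refine ⟨z, hz, ?_⟩
    rw [count_roots]
    exact hz2

include hF in
/-- Doubling a `p`-regular element, unless it lies in a cyclic torus. -/
theorem double_ss (p : ℕ) [hp : Fact p.Prime] [CharP F p] {r a : ℕ} (hr : r.Prime) (hrq : r ∣ q + 1)
    (hrn : ¬ r ∣ n) (ha : a ∈ Set.range (orderOf : PSU n F q → ℕ)) (hcop : Nat.Coprime a p) (hra : ¬ r ∣ a) :
    r * a ∈ Set.range (orderOf : PSU n F q → ℕ) ∨ a ∣ tT q n / Nat.gcd (tT q n) (q + 1) := by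
  classical
  have hq2 := HermCount.two_le_q hF
  have hq0 : q ≠ 0 := by omega
  obtain ⟨M, hcl, h0, hcard, hprod, hall, hmin, -⟩ := spec_setup hF p (a' := a) (α := 0) (by simpa using ha) hcop
  obtain ⟨z₀, hz₀⟩ : ∃ z, z ∈ M := by
    apply Multiset.card_pos_iff_exists_mem.mp
    rw [hcard]
    exact Nat.pos_of_ne_zero (NeZero.ne n)
  have hz00 := h0 z₀ hz₀
  have hdpos := period_pos hF M hcl hz₀
  obtain ⟨M₂, hM, hM₂⟩ := exists_split hF M hcl z₀ 1 (Multiset.one_le_count_iff_mem.mpr hz₀)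
  rw [one_nsmul] at hM
  set O := orb q (Function.minimalPeriod (tw q) z₀) z₀ with hO
  have hOcl : O.map (tw q) = O := orb_closed (period_spec z₀)
  by_cases h2 : M₂ = 0
  · right
    rw [h2, add_zero] at hM
    have hd : Function.minimalPeriod (tw q) z₀ = n := by
      rw [← hcard, hM, hO, orb_card]
    rw [hO, hd] at hM
    subst hM
    apply single_orbit (by omega) hz00 hprod
    intro k w hw
    exact hmin k w hw
  · left
    subst hM
    have hO0 : ∀ z ∈ O, z ≠ 0 := fun z hz => h0 z (Multiset.mem_add.mpr (Or.inl hz))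
    have hM₂0 : ∀ z ∈ M₂, z ≠ 0 := fun z hz => h0 z (Multiset.mem_add.mpr (Or.inr hz))
    have hne₁ : O ≠ 0 := by
      intro h
      have h3 : z₀ ∈ O := self_mem_orb hdpos z₀
      rw [h] at h3
      exact Multiset.notMem_zero _ h3
    have key := double_core hF hr hrq hrn hra O M₂ hne₁ h2 (by rw [← Multiset.card_add, hcard])
      (by rw [← Multiset.prod_add, hprod]) hall hmin h0 (Rz.realize hF O hOcl hO0) (Rz.realize hF M₂ hM₂ hM₂0)
    have h3 : Nat.lcm r (Nat.lcm a 1) = r * a := by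
      rw [Nat.lcm_one_right]
      exact ((Nat.Prime.coprime_iff_not_dvd hr).mpr hra).lcm_eq_mul
    rw [h3] at key
    exact key.mem_range

include hF in
/-- Doubling a mixed or unipotent element. -/
theorem double_mixed (p : ℕ) [hp : Fact p.Prime] [CharP F p] (hpq : p ∣ q) {r a' α : ℕ} (hr : r.Prime)
    (hrq : r ∣ q + 1) (hrn : ¬ r ∣ n) (hα : 1 ≤ α) (ha : a' * p ^ α ∈ Set.range (orderOf : PSU n F q → ℕ))
    (hcop : Nat.Coprime a' p) (hra : ¬ r ∣ a') (hne : n - 1 ≠ p ^ (α - 1)) :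
    r * (a' * p ^ α) ∈ Set.range (orderOf : PSU n F q → ℕ) := by
  classical
  have hq2 := HermCount.two_le_q hF
  have hq0 : q ≠ 0 := by omega
  obtain ⟨M, hcl, h0, hcard, hprod, hall, hmin, hmult⟩ := spec_setup hF p ha hcop
  obtain ⟨z₀, hz₀, hc⟩ := hmult hα
  obtain ⟨β, rfl⟩ : ∃ β, α = β + 1 := ⟨α - 1, by omega⟩
  simp only [Nat.add_sub_cancel] at hc hne
  have hz00 := h0 z₀ hz₀
  have hdpos := period_pos hF M hcl hz₀
  obtain ⟨M₂, hM, hM₂⟩ := exists_split hF M hcl z₀ _ hc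
  set d := Function.minimalPeriod (tw q) z₀ with hd
  set O := orb q d z₀ with hO
  have hPpos : 0 < p ^ β := pow_pos hp.out.pos _
  have hrp : r ≠ p := by
    rintro rfl
    have h3 : r ∣ 1 := (Nat.dvd_add_right hpq).mp hrq
    exact hr.one_lt.ne' (Nat.dvd_one.mp h3)
  have hlcm : Nat.lcm r (Nat.lcm a' (p ^ (β + 1))) = r * (a' * p ^ (β + 1)) := by
    rw [(Nat.Coprime.pow_right _ hcop).lcm_eq_mul]
    apply Nat.Coprime.lcm_eq_mul
    apply (Nat.Prime.coprime_iff_not_dvd hr).mpr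
    intro h3
    rcases (hr.dvd_mul).mp h3 with h4 | h4
    · exact hra h4
    · exact hrp ((Nat.prime_dvd_prime_iff_eq hr hp.out).mp (hr.dvd_of_dvd_pow h4))
  have hz₀O : z₀ ∈ O := self_mem_orb hdpos z₀
  by_cases h2 : M₂ = 0
  · rw [h2, add_zero] at hM
    have hn : n = (p ^ β + 1) * d := by
      rw [← hcard, hM, Multiset.card_nsmul, hO, orb_card]
    have hd2 : d ≠ 1 := by
      intro h
      apply hne
      rw [hn, h, mul_one]
      omega
    have hdim : p ^ β + 1 + d ≤ n := by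
      rw [hn]
      have h3 : 2 ≤ d := by omega
      nlinarith
    have key := double_h hF p hpq (β := β) hr hrq hrn hz00 hdpos (period_spec z₀) (a' := a') (by
      intro k w hw
      apply hmin k w
      intro z hz
      rw [hM] at hz
      exact hw z (Multiset.mem_of_mem_nsmul hz)) hdim
    rw [hlcm] at key
    exact key.mem_range
  · subst hM
    set M₁ := (p ^ β + 1) • O with hM₁
    have hM₂0 : ∀ z ∈ M₂, z ≠ 0 := fun z hz => h0 z (Multiset.mem_add.mpr (Or.inr hz))
    have hne₁ : M₁ ≠ 0 := by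
      intro h
      have h3 : z₀ ∈ M₁ := (Multiset.mem_nsmul_of_ne_zero (by omega)).mpr hz₀O
      rw [h] at h3
      exact Multiset.notMem_zero _ h3
    have key := double_core hF hr hrq hrn hra M₁ M₂ hne₁ h2 (by rw [← Multiset.card_add, hcard])
      (by rw [← Multiset.prod_add, hprod]) hall hmin h0 (Rz.orb_mult hF p hz00 hdpos β) (Rz.realize hF M₂ hM₂ hM₂0)
    rw [hlcm] at key
    exact key.mem_range

include hF in
/-- The prime `r` itself is an element order. -/
theorem r_mem {r : ℕ} (hn3 : 3 ≤ n) (hrq : r ∣ q + 1) :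
    r ∈ Set.range (orderOf : PSU n F q → ℕ) := by
  obtain ⟨ζ, hζ, hζ1⟩ := exists_zeta hF hrq
  have hq2 := HermCount.two_le_q hF
  have hζ0 : ζ ≠ 0 := by
    rintro rfl
    rw [zero_pow (by omega)] at hζ1
    exact zero_ne_one hζ1
  have hinv : ζ⁻¹ ^ (q + 1) = 1 := by
    rw [inv_pow, hζ1, inv_one]
  have R := (((Rz.scalar hF 1 ζ hζ1).add hF (Rz.scalar hF 1 ζ⁻¹ hinv)).add hF (Rz.scalar hF (n - 2) (1 : F) (one_pow _))).cast
    hF (by omega : 1 + 1 + (n - 2) = n) rfl (by simp : Nat.lcm (Nat.lcm 1 1) 1 = 1)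
  have key : InOm hF n r := by
    apply InOm.of_Rz hF R
    · simp only [Multiset.prod_add, Multiset.prod_replicate, pow_one, map_one, one_pow, mul_one, map_inv₀]
      apply mul_inv_cancel₀
      exact (_root_.map_ne_zero _).mpr hζ0
    · intro k c hk _
      have h1 := hk (ιF ζ) (by simp)
      have h2 := hk 1 (by
        apply Multiset.mem_add.mpr
        right
        rw [map_one]
        apply Multiset.mem_replicate.mpr
        exact ⟨by omega, rfl⟩)
      rw [one_pow] at h2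
      rw [← h2, ← map_pow, ← map_one ιF] at h1
      have h3 := (ιF).injective h1
      rw [← hζ]
      exact orderOf_dvd_of_pow_eq_one h3
  exact key.mem_range

end Cfsg.Agent.Lib.SUSpec
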