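import Mathlib
import Cfsg.Agent.Lib.FrattAct
import Cfsg.Agent.Lib.Glauberman
import Cfsg.Agent.Lib.CoprimeHyper

/-!
# A rank bound for quadratically acting abelian `p`-subgroups (Schmidt-type condition)

`Act p ρ A Zb`: `A ≤ H` elementary abelian acting on the elementary abelian group `V`, with `[V,A] ≤ Zb`,
`[Zb,A] = 1` and: if `[v,A]` lies in a proper subgroup of `Zb` then `v ∈ Zb`.  Then `|A| ≤ p`
if `H` is `p`-solvable with `O_p(H) = 1`, faithful on `V`.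
-/

set_option autoImplicit false
set_option linter.unusedSectionVars false
set_option linter.unusedVariables false
set_option linter.style.haveILetI false

namespace Cfsg.Agent.Lib.SchmidtAct

open scoped commutatorElement
open Cfsg Cfsg.Agent.Lib.PCore Cfsg.Agent.Lib.PSolv Cfsg.Agent.Lib.FrattAct

variable {H V : Type*} [Group H] [Group V]

/-- The commutators with `T` fixed on `M`. -/
theorem fix_of_comm (ρ : H →* MulAut V) {T A : Subgroup H} {M : Subgroup V}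
    (hT : ∀ t ∈ T, ∀ m ∈ M, ρ t m ∈ M) (hA : ∀ a ∈ A, ∀ m ∈ M, ρ a m = m) :
    ∀ x ∈ ⁅T, A⁆, ∀ m ∈ M, ρ x m = m := by
  let F : Subgroup H :=
    { carrier := {x | ∀ m ∈ M, ρ x m = m}
      mul_mem' := by
        intro x y hx hy m hm
        show ρ (x * y) m = m
        rw [map_mul, MulAut.mul_apply, hy m hm, hx m hm]
      one_mem' := by
        intro m hm
        show ρ 1 m = m
        rw [map_one]
        rfl
      inv_mem' := by
        intro x hx m hm
        show ρ x⁻¹ m = m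
        conv_lhs => rw [← hx m hm]
        rw [← MulAut.mul_apply, ← map_mul, inv_mul_cancel, map_one]
        rfl }
  have hle : ⁅T, A⁆ ≤ F := by
    rw [Subgroup.commutator_le]
    intro t ht a ha m hm
    show ρ ⁅t, a⁆ m = m
    rw [commutatorElement_def, map_mul, map_mul, map_mul, MulAut.mul_apply, MulAut.mul_apply,
      MulAut.mul_apply, hA a⁻¹ (A.inv_mem ha) m hm, hA a ha _ (hT t⁻¹ (T.inv_mem ht) m hm),
      ← MulAut.mul_apply, ← map_mul, mul_inv_cancel, map_one]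
    rfl
  exact fun x hx => hle hx

/-- The commutator subgroup `[V,T]`. -/
def commV (ρ : H →* MulAut V) (T : Subgroup H) : Subgroup V :=
  Subgroup.closure {w | ∃ t ∈ T, ∃ v, w = ρ t v * v⁻¹}

theorem mem_commV (ρ : H →* MulAut V) {T : Subgroup H} {t : H} (ht : t ∈ T) (v : V) :
    ρ t v * v⁻¹ ∈ commV ρ T := Subgroup.subset_closure ⟨t, ht, v, rfl⟩

/-- A normalizing element preserves `[V,T]`. -/
theorem commV_inv (ρ : H →* MulAut V) {T : Subgroup H} {g : H} (hg : ∀ t ∈ T, g * t * g⁻¹ ∈ T) :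
    ∀ w ∈ commV ρ T, ρ g w ∈ commV ρ T := by
  have hle : commV ρ T ≤ (commV ρ T).comap (ρ g).toMonoidHom := by
    rw [commV, Subgroup.closure_le]
    rintro _ ⟨t, ht, v, rfl⟩
    show ρ g (ρ t v * v⁻¹) ∈ commV ρ T
    have e : ρ g (ρ t v * v⁻¹) = ρ (g * t * g⁻¹) (ρ g v) * (ρ g v)⁻¹ := by
      have e2 : ρ (g * t * g⁻¹) * ρ g = ρ g * ρ t := by
        rw [← map_mul, ← map_mul]
        congr 1
        group
      rw [map_mul, map_inv]
      show (ρ g * ρ t) v * _ = (ρ (g * t * g⁻¹) * ρ g) v * _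
      rw [e2]
    rw [e]
    exact mem_commV ρ (hg t ht) _
  exact fun w hw => hle hw

/-- The fixed points of `T`. -/
def fixV (ρ : H →* MulAut V) (T : Subgroup H) : Subgroup V where
  carrier := {c | ∀ t ∈ T, ρ t c = c}
  mul_mem' := by
    intro x y hx hy t ht
    rw [map_mul, hx t ht, hy t ht]
  one_mem' := by
    intro t _
    exact map_one _
  inv_mem' := by
    intro x hx t ht
    rw [map_inv, hx t ht]

theorem mem_fixV (ρ : H →* MulAut V) {T : Subgroup H} {c : V} : c ∈ fixV ρ T ↔ ∀ t ∈ T, ρ t c = c := Iff.rfl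

/-- A normalizing element preserves the fixed points. -/
theorem fixV_inv (ρ : H →* MulAut V) {T : Subgroup H} {g : H} (hg : ∀ t ∈ T, g⁻¹ * t * g ∈ T) :
    ∀ c ∈ fixV ρ T, ρ g c ∈ fixV ρ T := by
  intro c hc t ht
  have h1 := hc _ (hg t ht)
  have e : ρ t (ρ g c) = ρ g (ρ (g⁻¹ * t * g) c) := by
    rw [← MulAut.mul_apply, ← MulAut.mul_apply, ← map_mul, ← map_mul]
    congr 2
    group
  rw [e, h1]

/-- `[V,T] ∩ C_V(T) = 1` for coprime action. -/
theorem eq_one_of_mem_commV_fixV [Finite H] {p : ℕ} [hp : Fact p.Prime] (hV : ∀ a b : V, a * b = b * a)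
    (hexp : ∀ v : V, v ^ p = 1) (ρ : H →* MulAut V) {T : Subgroup H} (hT : (Nat.card T).Coprime p)
    {c : V} (hc1 : c ∈ commV ρ T) (hc2 : c ∈ fixV ρ T) : c = 1 := by
  classical
  letI iV : CommGroup V := { (inferInstance : Group V) with mul_comm := hV }
  haveI : Fintype T := Fintype.ofFinite T
  let N : V →* V :=
    { toFun := fun v => ∏ t : T, ρ (t : H) v
      map_one' := by simp
      map_mul' := by
        intro x y
        simp only [map_mul]
        exact Finset.prod_mul_distrib }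
  have hN : ∀ v, N v = ∏ t : T, ρ (t : H) v := fun _ => rfl
  have hle : commV ρ T ≤ N.ker := by
    rw [commV, Subgroup.closure_le]
    rintro _ ⟨t, ht, v, rfl⟩
    show N _ = 1
    rw [map_mul, map_inv, mul_inv_eq_one, hN, hN]
    refine Fintype.prod_equiv (Equiv.mulRight (⟨t, ht⟩ : T)) _ _ ?_
    intro s
    show ρ (s : H) (ρ t v) = ρ (s * t) v
    rw [map_mul]
    rfl
  have h1 : N c = 1 := hle hc1
  rw [hN] at h1
  have h2 : ∏ t : T, ρ (t : H) c = c ^ Nat.card T := by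
    rw [Finset.prod_congr rfl (fun (t : T) _ => hc2 t t.2), Finset.prod_const, Finset.card_univ,
      Nat.card_eq_fintype_card]
  rw [h2] at h1
  have h3 : orderOf c = 1 := Nat.eq_one_of_dvd_coprimes hT (orderOf_dvd_of_pow_eq_one h1)
    (orderOf_dvd_of_pow_eq_one (hexp c))
  exact orderOf_eq_one_iff.1 h3

/-- The abstract setting. -/
structure Act (p : ℕ) (ρ : H →* MulAut V) (A : Subgroup H) (Zb : Subgroup V) : Prop where
  comm : ∀ a b : V, a * b = b * a
  exp : ∀ v : V, v ^ p = 1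
  inj : Function.Injective ρ
  fixed : ∀ a ∈ A, ∀ z ∈ Zb, ρ a z = z
  into : ∀ a ∈ A, ∀ v, ρ a v * v⁻¹ ∈ Zb
  ne : Zb ≠ ⊥
  s3 : ∀ Z₁ : Subgroup V, Z₁ ≤ Zb → Z₁ ≠ Zb → ∀ v, (∀ a ∈ A, ρ a v * v⁻¹ ∈ Z₁) → v ∈ Zb
  Acomm : ∀ a ∈ A, ∀ b ∈ A, a * b = b * a
  Aexp : ∀ a ∈ A, a ^ p = 1

variable {p : ℕ} {ρ : H →* MulAut V} {A : Subgroup H} {Zb : Subgroup V}

theorem Act.eq_one_of_fix (h : Act p ρ A Zb) {x : H} (hx : ∀ v, ρ x v * v⁻¹ = 1) : x = 1 := by
  apply h.inj
  rw [map_one]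
  ext v
  exact mul_inv_eq_one.1 (hx v)

/-- Claim 1. -/
theorem Act.fix_eq_one [Finite H] [hp : Fact p.Prime] (h : Act p ρ A Zb) {T : Subgroup H} (hT : (Nat.card T).Coprime p)
    (hTA : ∀ a ∈ A, ∀ t ∈ T, a * t * a⁻¹ ∈ T) (hTT : T = ⁅T, A⁆) (hne : T ≠ ⊥) {c : V} (hc : c ∈ fixV ρ T) : c = 1 := by
  have hdisj : ∀ c ∈ commV ρ T, c ∈ fixV ρ T → c = 1 := fun c h1 h2 =>
    eq_one_of_mem_commV_fixV h.comm h.exp ρ hT h1 h2
  have hAW : ∀ a ∈ A, ∀ w ∈ commV ρ T, ρ a w ∈ commV ρ T := fun a ha => commV_inv ρ (hTA a ha)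
  have hTW : ∀ s ∈ T, ∀ w ∈ commV ρ T, ρ s w ∈ commV ρ T := fun s hs =>
    commV_inv ρ (fun t ht => T.mul_mem (T.mul_mem hs ht) (T.inv_mem hs))
  have hZW : Zb ≤ commV ρ T := by
    by_contra hnot
    have hne1 : commV ρ T ⊓ Zb ≠ Zb := fun h0 => hnot (inf_eq_right.1 h0)
    have hWZ : commV ρ T ≤ Zb := by
      intro w hw
      refine h.s3 _ inf_le_right hne1 w ?_
      intro a ha
      exact ⟨(commV ρ T).mul_mem (hAW a ha w hw) ((commV ρ T).inv_mem hw), h.into a ha w⟩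
    have hfix : ∀ x ∈ ⁅T, A⁆, ∀ m ∈ commV ρ T, ρ x m = m :=
      fix_of_comm ρ hTW (fun a ha m hm => h.fixed a ha m (hWZ hm))
    rw [← hTT] at hfix
    apply hne
    rw [eq_bot_iff]
    intro t ht
    rw [Subgroup.mem_bot]
    apply h.eq_one_of_fix
    intro v
    exact hdisj _ (mem_commV ρ ht v) (fun s hs => hfix s hs _ (mem_commV ρ ht v))
  have hAC : ∀ a ∈ A, ∀ c ∈ fixV ρ T, ρ a c ∈ fixV ρ T := fun a ha =>
    fixV_inv ρ (fun t ht => by
      have := hTA a⁻¹ (A.inv_mem ha) t ht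
      simpa using this)
  have h1 : ∀ a ∈ A, ρ a c * c⁻¹ ∈ (⊥ : Subgroup V) := by
    intro a ha
    rw [Subgroup.mem_bot]
    apply hdisj
    · exact hZW (h.into a ha c)
    · exact (fixV ρ T).mul_mem (hAC a ha c hc) ((fixV ρ T).inv_mem hc)
  have h2 : c ∈ Zb := h.s3 ⊥ bot_le (Ne.symm h.ne) c h1
  exact hdisj c (hZW h2) hc

/-- Claim 2. -/
theorem Act.eq_one_of_centralizes [Finite H] [hp : Fact p.Prime] (h : Act p ρ A Zb) {T : Subgroup H}
    (hT : (Nat.card T).Coprime p)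
    (hTA : ∀ a ∈ A, ∀ t ∈ T, a * t * a⁻¹ ∈ T) (hTT : T = ⁅T, A⁆) (hne : T ≠ ⊥) {a : H} (ha : a ∈ A)
    (hat : ∀ t ∈ T, a * t = t * a) : a = 1 := by
  let M : Subgroup V := Subgroup.closure {w | ∃ v, w = ρ a v * v⁻¹}
  have hMZ : M ≤ Zb := by
    rw [Subgroup.closure_le]
    rintro _ ⟨v, rfl⟩
    exact h.into a ha v
  have hTM : ∀ t ∈ T, ∀ m ∈ M, ρ t m ∈ M := by
    intro t ht
    have hle : M ≤ M.comap (ρ t).toMonoidHom := by
      rw [Subgroup.closure_le]
      rintro _ ⟨v, rfl⟩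
      show ρ t (ρ a v * v⁻¹) ∈ M
      refine Subgroup.subset_closure ⟨ρ t v, ?_⟩
      rw [map_mul, map_inv, ← MulAut.mul_apply, ← MulAut.mul_apply, ← map_mul, ← map_mul, hat t ht]
    exact fun m hm => hle hm
  have hfix : ∀ x ∈ ⁅T, A⁆, ∀ m ∈ M, ρ x m = m :=
    fix_of_comm ρ hTM (fun b hb m hm => h.fixed b hb m (hMZ hm))
  rw [← hTT] at hfix
  apply h.eq_one_of_fix
  intro v
  exact h.fix_eq_one hT hTA hTT hne (fun t ht => hfix t ht _ (Subgroup.subset_closure ⟨v, rfl⟩))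

/-- Claim 3. -/
theorem Act.commute_of_commute [Finite H] [hp : Fact p.Prime] (h : Act p ρ A Zb) {K : Subgroup H}
    (hKc : (Nat.card K).Coprime p) (hKA : A ≤ Subgroup.normalizer (K : Set H)) {a : H} (ha : a ∈ A) (ha1 : a ≠ 1)
    {x : H} (hx : x ∈ K) (hxa : a * x = x * a) {b : H} (hb : b ∈ A) : b * x = x * b := by
  have hAn : ∀ c ∈ A, ∀ k ∈ K, c * k * c⁻¹ ∈ K := fun c hc =>
    Subgroup.le_normalizer_iff.mp hKA c hc
  let C₀ : Subgroup H := K ⊓ Subgroup.centralizer {a}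
  have hC₀K : C₀ ≤ K := inf_le_left
  have hAC₀ : A ≤ Subgroup.normalizer (C₀ : Set H) := by
    rw [Subgroup.le_normalizer_iff]
    intro c hc k hk
    refine ⟨hAn c hc k hk.1, ?_⟩
    show c * k * c⁻¹ ∈ Subgroup.centralizer {a}
    rw [Subgroup.mem_centralizer_singleton_iff]
    have h1 : k * a = a * k := Subgroup.mem_centralizer_singleton_iff.1 hk.2
    have h2 := h.Acomm a ha c hc
    have h3 : c⁻¹ * a = a * c⁻¹ := ((show Commute a c from h2).inv_right.eq).symm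
    calc c * k * c⁻¹ * a = c * k * (c⁻¹ * a) := by group
      _ = c * k * (a * c⁻¹) := by rw [h3]
      _ = c * (k * a) * c⁻¹ := by group
      _ = c * (a * k) * c⁻¹ := by rw [h1]
      _ = (c * a) * k * c⁻¹ := by group
      _ = (a * c) * k * c⁻¹ := by rw [h2]
      _ = a * (c * k * c⁻¹) := by group
  have hApg : IsPGroup p A := by
    rintro ⟨c, hc⟩
    refine ⟨1, Subtype.ext ?_⟩
    simpa using h.Aexp c hc
  obtain ⟨n, hn⟩ := IsPGroup.iff_card.1 hApg
  have hC₀c : (Nat.card C₀).Coprime p :=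
    Nat.Coprime.coprime_dvd_left (Subgroup.card_dvd_of_le hC₀K) hKc
  have hcop : (Nat.card A).Coprime (Nat.card C₀) := by
    rw [hn]
    exact Nat.Coprime.pow_left n hC₀c.symm
  have hsolv : Group.IsSolvable A ∨ Group.IsSolvable C₀ := by
    left
    haveI := hApg.isNilpotent
    infer_instance
  have hTT := Cfsg.Agent.Lib.Glauberman.commutator_commutator_eq hAC₀ hcop hsolv
  have hTC := Cfsg.Agent.Lib.Glauberman.commutator_le_of_le_normalizer hAC₀
  have hTA := Cfsg.Agent.Lib.Glauberman.le_normalizer_commutator hAC₀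
  have hbot : ⁅C₀, A⁆ = ⊥ := by
    by_contra hne
    apply ha1
    refine h.eq_one_of_centralizes (T := ⁅C₀, A⁆)
      (Nat.Coprime.coprime_dvd_left (Subgroup.card_dvd_of_le hTC) hC₀c)
      (fun c hc t ht => Subgroup.le_normalizer_iff.mp hTA c hc t ht) hTT.symm hne ha ?_
    intro t ht
    exact (Subgroup.mem_centralizer_singleton_iff.1 (hTC ht).2).symm
  have h1 : ⁅x, b⁆ = 1 := by
    have h2 : ⁅x, b⁆ ∈ ⁅C₀, A⁆ := Subgroup.commutator_mem_commutator
      ⟨hx, Subgroup.mem_centralizer_singleton_iff.2 hxa.symm⟩ hb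
    rw [hbot] at h2
    exact h2
  exact ((commutatorElement_eq_one_iff_mul_comm).1 h1).symm

/-- The rank bound. -/
theorem Act.card_le [Finite H] [hp : Fact p.Prime] (h : Act p ρ A Zb) (hsol : IsPSolvable p H)
    (hOp : pCore p H = ⊥) : Nat.card A ≤ p := by
  by_contra hcon
  push Not at hcon
  have hpp := hp.out
  let K : Subgroup H := pPrimeCore p H
  have hKc : (Nat.card K).Coprime p := card_pPrimeCore_coprime p
  have hKA : A ≤ Subgroup.normalizer (K : Set H) :=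
    Subgroup.le_normalizer_iff.2 (fun a _ k hk => (inferInstance : K.Normal).conj_mem k hk a)
  have hAne : A ≠ ⊥ := by
    intro h0
    rw [h0] at hcon
    simp only [Subgroup.card_bot] at hcon
    exact absurd hcon (by have := hpp.one_lt; omega)
  have hB : ∀ B : {B : Subgroup H // B ≤ A ∧ B.relIndex A ≤ p}, ∃ a ∈ (B : Subgroup H), a ≠ 1 := by
    intro B
    by_contra hno
    push Not at hno
    have hB1 : (B : Subgroup H) = ⊥ := (Subgroup.eq_bot_iff_forall _).2 hno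
    have h2 := B.2.2
    rw [hB1, Subgroup.relIndex_bot_left] at h2
    omega
  have hKp : ¬ p ∣ Nat.card K := not_dvd_card_pPrimeCore p
  have hgen := Cfsg.Agent.Lib.CoprimeHyper.eq_iSup_inf_centralizer A K
    ⟨⟨fun a b => Subtype.ext (h.Acomm a a.2 b b.2)⟩⟩ h.Aexp hKp hKA
  have hKcent : K ≤ Subgroup.centralizer (A : Set H) := by
    refine hgen.le.trans (iSup_le fun B => ?_)
    intro x hx
    obtain ⟨a, haB, ha1⟩ := hB B
    rw [Subgroup.mem_centralizer_iff]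
    intro b hb
    exact h.commute_of_commute hKc hKA (B.2.1 haB) ha1 hx.1 (Subgroup.mem_centralizer_iff.1 hx.2 a haB) hb
  have hAK : A ≤ K := by
    have h2 : A ≤ Subgroup.centralizer (K : Set H) := by
      intro a ha
      rw [Subgroup.mem_centralizer_iff]
      intro k hk
      exact (Subgroup.mem_centralizer_iff.1 (hKcent hk) a ha).symm
    exact h2.trans (centralizer_pPrimeCore_le hsol hOp)
  apply hAne
  rw [Subgroup.eq_bot_iff_forall]
  intro a ha
  have h2 : (⟨a, hAK ha⟩ : K) ^ p = 1 := Subtype.ext (h.Aexp a ha)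
  have h3 : orderOf (⟨a, hAK ha⟩ : K) = 1 :=
    Nat.eq_one_of_dvd_coprimes hKc (orderOf_dvd_natCard _) (orderOf_dvd_of_pow_eq_one h2)
  have h4 := orderOf_eq_one_iff.1 h3
  exact congrArg Subtype.val h4

/-- The rank bound in the form used below. -/
theorem Act.exists_pow [Finite H] [hp : Fact p.Prime] (h : Act p ρ A Zb) (hsol : IsPSolvable p H)
    (hOp : pCore p H = ⊥) {a : H} (ha : a ∈ A) (ha1 : a ≠ 1) {b : H} (hb : b ∈ A) : ∃ i : ℕ, b = a ^ i := by
  have hpp := hp.out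
  have hle := h.card_le hsol hOp
  have hA1 : (⟨a, ha⟩ : A) ≠ 1 := fun h0 => ha1 (congrArg Subtype.val h0)
  have hord : orderOf (⟨a, ha⟩ : A) = p :=
    orderOf_eq_prime (Subtype.ext (h.Aexp a ha)) hA1
  have hcard : Nat.card (Subgroup.zpowers (⟨a, ha⟩ : A)) = Nat.card A := by
    apply le_antisymm (Subgroup.card_le_card_group _)
    rw [Nat.card_zpowers, hord]
    exact hle
  have htop := Subgroup.eq_top_of_card_eq _ hcard
  have h2 : (⟨b, hb⟩ : A) ∈ Subgroup.zpowers (⟨a, ha⟩ : A) := by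
    rw [htop]
    trivial
  rw [← mem_powers_iff_mem_zpowers] at h2
  obtain ⟨i, hi⟩ := h2
  exact ⟨i, (congrArg Subtype.val hi).symm⟩

theorem Act.exists_not_mem (h : Act p ρ A Zb) {a : H} (ha : a ∈ A) (ha1 : a ≠ 1) : ∃ r, r ∉ Zb := by
  by_contra hcon
  push Not at hcon
  apply ha1
  apply h.eq_one_of_fix
  intro v
  rw [h.fixed a ha v (hcon v), mul_inv_cancel]

theorem Act.phi_pow (h : Act p ρ A Zb) {a : H} (ha : a ∈ A) (i : ℕ) (v : V) :
    ρ (a ^ i) v * v⁻¹ = (ρ a v * v⁻¹) ^ i := by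
  have hz := h.into a ha v
  have h1 : ρ (a ^ i) v = (ρ a v * v⁻¹) ^ i * v := by
    induction i with
    | zero => simp
    | succ i ih =>
      rw [pow_succ', map_mul, MulAut.mul_apply, ih, map_mul, map_pow, h.fixed a ha _ hz, pow_succ, mul_assoc,
        inv_mul_cancel_right]
  rw [h1]
  group

theorem Act.phi_mul (h : Act p ρ A Zb) (a : H) (x y : V) :
    ρ a (x * y) * (x * y)⁻¹ = (ρ a x * x⁻¹) * (ρ a y * y⁻¹) := by
  letI iV : CommGroup V := { (inferInstance : Group V) with mul_comm := h.comm }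
  rw [map_mul, mul_inv, mul_mul_mul_comm]

theorem Act.phi_npow (h : Act p ρ A Zb) (a : H) (x : V) (k : ℕ) :
    ρ a (x ^ k) * (x ^ k)⁻¹ = (ρ a x * x⁻¹) ^ k := by
  induction k with
  | zero => simp
  | succ k ih => rw [pow_succ, h.phi_mul, ih, pow_succ]

theorem Act.phi_inv (h : Act p ρ A Zb) (a : H) (x : V) :
    ρ a x⁻¹ * (x⁻¹)⁻¹ = (ρ a x * x⁻¹)⁻¹ := by
  rw [map_inv, inv_inv, mul_inv_rev, inv_inv, h.comm]

/-- `V = ⟨r⟩ Zb` for every `r ∉ Zb` if `|A| = p`. -/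
theorem Act.exists_gen [Finite H] [Finite V] [hp : Fact p.Prime] (h : Act p ρ A Zb) (hsol : IsPSolvable p H)
    (hOp : pCore p H = ⊥) {a : H} (ha : a ∈ A) (ha1 : a ≠ 1) {r : V} (hr : r ∉ Zb) (v : V) :
    ∃ k : ℕ, v * (r ^ k)⁻¹ ∈ Zb := by
  have hall : ∀ w, ∀ b ∈ A, ρ b w * w⁻¹ ∈ Subgroup.zpowers (ρ a w * w⁻¹) := by
    intro w b hb
    obtain ⟨i, rfl⟩ := h.exists_pow hsol hOp ha ha1 hb
    rw [h.phi_pow ha]
    exact Subgroup.pow_mem _ (Subgroup.mem_zpowers _) i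
  have hZ1 : Subgroup.zpowers (ρ a r * r⁻¹) = Zb := by
    by_contra hne
    exact hr (h.s3 _ (Subgroup.zpowers_le.2 (h.into a ha r)) hne r (hall r))
  have hv : ρ a v * v⁻¹ ∈ Subgroup.zpowers (ρ a r * r⁻¹) := by
    rw [hZ1]
    exact h.into a ha v
  rw [← mem_powers_iff_mem_zpowers] at hv
  obtain ⟨k, hk⟩ := hv
  refine ⟨k, ?_⟩
  have hφ1 : ρ a (v * (r ^ k)⁻¹) * (v * (r ^ k)⁻¹)⁻¹ = 1 := by
    rw [h.phi_mul, h.phi_inv, h.phi_npow]
    have hk' : (ρ a r * r⁻¹) ^ k = ρ a v * v⁻¹ := hk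
    rw [hk', mul_inv_cancel]
  refine h.s3 ⊥ bot_le h.ne.symm _ ?_
  intro b hb
  obtain ⟨i, rfl⟩ := h.exists_pow hsol hOp ha ha1 hb
  rw [h.phi_pow ha, hφ1, one_pow]
  exact Subgroup.one_mem _

end Cfsg.Agent.Lib.SchmidtAct
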