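import Mathlib
import Cfsg.Agent.Lib.Frat
import Cfsg.Agent.Lib.FrattAct

/-!
# `p`-groups admitting an automorphism of prime order `q ≠ p` all of whose proper invariant subgroups
are fixed pointwise (the Sylow subgroups of minimal non-nilpotent groups)
-/

set_option autoImplicit false
set_option linter.unusedSectionVars false
set_option linter.unusedVariables false
set_option linter.style.haveILetI false

namespace Cfsg.Agent.Lib.SchmidtP

open scoped commutatorElement
open Cfsg.Agent.Lib.FrattAct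

variable {P : Type*} [Group P] [Finite P] {p q : ℕ} [hp : Fact p.Prime]

/-- The automorphism data on the `p`-group `P`. -/
structure Data (p q : ℕ) (τ : MulAut P) : Prop where
  hP : IsPGroup p P
  hq : q.Prime
  hqp : q ≠ p
  pow : τ ^ q = 1
  ne : τ ≠ 1
  star : ∀ D : Subgroup P, D ≠ ⊤ → (∀ u ∈ D, τ u ∈ D) → ∀ u ∈ D, τ u = u

variable {τ : MulAut P}

theorem Data.eq_one_of_pow (h : Data p q τ) {c : P} {m : ℕ} (hm : m.Coprime p) (hc : c ^ m = 1) : c = 1 := by
  obtain ⟨k, hk⟩ := (IsPGroup.iff_orderOf).1 h.hP c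
  have h1 : orderOf c ∣ m := orderOf_dvd_of_pow_eq_one hc
  have h2 : orderOf c ∣ p ^ k := by rw [hk]
  have h3 : Nat.Coprime m (p ^ k) := Nat.Coprime.pow_right k hm
  have h4 : orderOf c = 1 := Nat.eq_one_of_dvd_coprimes h3 h1 h2
  exact orderOf_eq_one_iff.1 h4

theorem Data.coprime_q (h : Data p q τ) : q.Coprime p :=
  (Nat.coprime_primes h.hq hp.out).2 h.hqp

/-- The elements `u⁻¹ τ(u)` generate. -/
theorem Data.gen_top (h : Data p q τ) : Subgroup.closure {c : P | ∃ u, c = u⁻¹ * τ u} = ⊤ := by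
  by_contra hne
  have hinv : ∀ x : P, x ∈ Subgroup.closure {c : P | ∃ u, c = u⁻¹ * τ u} →
      τ x ∈ Subgroup.closure {c : P | ∃ u, c = u⁻¹ * τ u} := by
    have hle : Subgroup.closure {c : P | ∃ u, c = u⁻¹ * τ u} ≤
        (Subgroup.closure {c : P | ∃ u, c = u⁻¹ * τ u}).comap τ.toMonoidHom := by
      rw [Subgroup.closure_le]
      rintro _ ⟨u, rfl⟩
      show τ (u⁻¹ * τ u) ∈ Subgroup.closure {c : P | ∃ u, c = u⁻¹ * τ u}
      refine Subgroup.subset_closure ⟨τ u, ?_⟩
      rw [map_mul, map_inv]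
    exact fun x hx => hle hx
  have hfix := h.star _ hne hinv
  apply h.ne
  ext u
  have hc : τ (u⁻¹ * τ u) = u⁻¹ * τ u := hfix _ (Subgroup.subset_closure ⟨u, rfl⟩)
  have hk : ∀ k : ℕ, (τ ^ k) u = u * (u⁻¹ * τ u) ^ k := by
    intro k
    induction k with
    | zero => simp
    | succ k ih =>
      rw [pow_succ', MulAut.mul_apply, ih, map_mul, map_pow, hc, pow_succ', ← mul_assoc u, mul_inv_cancel_left]
  have h1 := hk q
  rw [h.pow] at h1
  have h2 : (u⁻¹ * τ u) ^ q = 1 := by
    have h3 : u = u * (u⁻¹ * τ u) ^ q := h1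
    exact (mul_eq_left.1 h3.symm)
  have h3 := h.eq_one_of_pow h.coprime_q h2
  have h4 : τ u = u := by
    have : τ u = u * (u⁻¹ * τ u) := by group
    rw [this, h3, mul_one]
  exact h4

/-- A proper normal invariant subgroup is central. -/
theorem Data.le_center_of_normal (h : Data p q τ) {N : Subgroup P} (hNn : N.Normal) (hN : N ≠ ⊤)
    (hinv : ∀ u ∈ N, τ u ∈ N) : N ≤ Subgroup.center P := by
  intro a ha
  have hfix := h.star N hN hinv
  have hle : Subgroup.closure {c : P | ∃ u, c = u⁻¹ * τ u} ≤ Subgroup.centralizer {a} := by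
    rw [Subgroup.closure_le]
    rintro _ ⟨u, rfl⟩
    show _ ∈ Subgroup.centralizer {a}
    rw [Subgroup.mem_centralizer_singleton_iff]
    have h1 : ⁅a, u⁆ ∈ N := by
      rw [commutatorElement_def]
      have e : a * u * a⁻¹ * u⁻¹ = a * (u * a⁻¹ * u⁻¹) := by group
      rw [e]
      exact N.mul_mem ha (hNn.conj_mem _ (N.inv_mem ha) u)
    have h2 : τ ⁅a, u⁆ = ⁅a, u⁆ := hfix _ h1
    rw [map_commutatorElement, hfix a ha, commutatorElement_def, commutatorElement_def] at h2
    have h3 : τ u * a⁻¹ * (τ u)⁻¹ = u * a⁻¹ * u⁻¹ := by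
      have e1 : a * τ u * a⁻¹ * (τ u)⁻¹ = a * (τ u * a⁻¹ * (τ u)⁻¹) := by group
      have e2 : a * u * a⁻¹ * u⁻¹ = a * (u * a⁻¹ * u⁻¹) := by group
      rw [e1, e2] at h2
      exact mul_left_cancel h2
    calc u⁻¹ * τ u * a = a * (a⁻¹ * (u⁻¹ * τ u) * a) := by group
      _ = a * (u⁻¹ * (u * a⁻¹ * u⁻¹) * τ u * a) := by group
      _ = a * (u⁻¹ * (τ u * a⁻¹ * (τ u)⁻¹) * τ u * a) := by rw [h3]
      _ = a * (u⁻¹ * τ u) := by group
  rw [h.gen_top] at hle
  rw [Subgroup.mem_center_iff]
  intro g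
  have := Subgroup.mem_centralizer_singleton_iff.1 (hle (Subgroup.mem_top g))
  exact this

/-- From now on `P` is nonabelian. -/
theorem Data.nontrivial (h : Data p q τ) : Nontrivial P := by
  by_contra hn
  rw [not_nontrivial_iff_subsingleton] at hn
  apply h.ne
  ext u
  exact Subsingleton.elim _ _

theorem Data.frattini_ne_top (h : Data p q τ) : frattini P ≠ ⊤ := by
  intro h0
  haveI := h.nontrivial
  have h1 : (⊥ : Subgroup P) ⊔ frattini P = ⊤ := by rw [h0, sup_top_eq]
  have h2 := frattini_nongenerating h1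
  exact bot_ne_top h2

theorem Data.frattini_le_center (h : Data p q τ) : frattini P ≤ Subgroup.center P :=
  h.le_center_of_normal inferInstance h.frattini_ne_top (fun _ hu => char_mem _ τ hu)

theorem Data.comm_mem_center (h : Data p q τ) (a b : P) : ⁅a, b⁆ ∈ Subgroup.center P := by
  apply h.frattini_le_center
  apply Cfsg.Agent.Lib.Frat.commutator_le_frattini h.hP
  exact Subgroup.commutator_mem_commutator (Subgroup.mem_top a) (Subgroup.mem_top b)

theorem Data.pow_mem_center (h : Data p q τ) (a : P) : a ^ p ∈ Subgroup.center P :=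
  h.frattini_le_center (Cfsg.Agent.Lib.Frat.pow_mem_frattini h.hP a)

theorem Data.center_fixed (h : Data p q τ) (hna : Subgroup.center P ≠ ⊤) {z : P} (hz : z ∈ Subgroup.center P) :
    τ z = z :=
  h.star _ hna (fun _ hu => char_mem _ τ hu) z hz

theorem Data.center_le_commutator (h : Data p q τ) (hna : Subgroup.center P ≠ ⊤) :
    Subgroup.center P ≤ commutator P := by
  classical
  let Nf : P →* Abelianization P :=
    { toFun := fun u => ∏ i ∈ Finset.range q, Abelianization.of ((τ ^ i) u)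
      map_one' := by simp
      map_mul' := by
        intro x y
        simp only [map_mul]
        exact Finset.prod_mul_distrib }
  have hNf : ∀ u, Nf u = ∏ i ∈ Finset.range q, Abelianization.of ((τ ^ i) u) := fun _ => rfl
  have hgen : Subgroup.closure {c : P | ∃ u, c = u⁻¹ * τ u} ≤ Nf.ker := by
    rw [Subgroup.closure_le]
    rintro _ ⟨u, rfl⟩
    show Nf _ = 1
    have h1 : ∀ i, Abelianization.of ((τ ^ i) (u⁻¹ * τ u)) =
        Abelianization.of ((τ ^ (i + 1)) u) / Abelianization.of ((τ ^ i) u) := by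
      intro i
      rw [map_mul, map_inv, map_mul, map_inv, pow_succ, MulAut.mul_apply, div_eq_mul_inv, mul_comm]
    rw [hNf, Finset.prod_congr rfl (fun i _ => h1 i), Finset.prod_range_div (fun i => Abelianization.of ((τ ^ i) u)), h.pow]
    simp
  rw [h.gen_top] at hgen
  intro a ha
  have h1 : Nf a = 1 := hgen (Subgroup.mem_top a)
  rw [hNf] at h1
  have h2 : ∀ i : ℕ, (τ ^ i) a = a := by
    intro i
    induction i with
    | zero => simp
    | succ i ih => rw [pow_succ', MulAut.mul_apply, ih, h.center_fixed hna ha]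
  have h3 : ∏ i ∈ Finset.range q, Abelianization.of ((τ ^ i) a) = Abelianization.of a ^ q := by
    simp only [h2]
    simp
  rw [h3] at h1
  -- `a` has `p`-power order
  obtain ⟨k, hk⟩ := (IsPGroup.iff_orderOf).1 h.hP a
  have h4 : Abelianization.of a ^ p ^ k = 1 := by
    rw [← map_pow, ← hk, pow_orderOf_eq_one, map_one]
  have h5 : orderOf (Abelianization.of a) = 1 :=
    Nat.eq_one_of_dvd_coprimes (Nat.Coprime.pow_right k h.coprime_q) (orderOf_dvd_of_pow_eq_one h1)
      (orderOf_dvd_of_pow_eq_one h4)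
  have h6 : Abelianization.of a = 1 := orderOf_eq_one_iff.1 h5
  have h7 : a ∈ (Abelianization.of (G := P)).ker := h6
  rwa [Abelianization.ker_of] at h7

section comm

variable (hc : ∀ a b : P, ⁅a, b⁆ ∈ Subgroup.center P)
include hc

theorem comm_mul_left (a b v : P) : ⁅a * b, v⁆ = ⁅a, v⁆ * ⁅b, v⁆ := by
  have h1 := Subgroup.mem_center_iff.1 (hc b v) a
  calc ⁅a * b, v⁆ = a * ⁅b, v⁆ * (v * a⁻¹ * v⁻¹) := by
        simp only [commutatorElement_def]; group
    _ = ⁅b, v⁆ * (a * (v * a⁻¹ * v⁻¹)) := by rw [h1]; group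
    _ = ⁅a, v⁆ * ⁅b, v⁆ := by
        rw [← Subgroup.mem_center_iff.1 (hc a v) ⁅b, v⁆]
        simp only [commutatorElement_def]; group

theorem comm_inv_left (a v : P) : ⁅a⁻¹, v⁆ = ⁅a, v⁆⁻¹ := by
  have h1 := comm_mul_left hc a a⁻¹ v
  rw [mul_inv_cancel, commutatorElement_one_left] at h1
  exact eq_inv_of_mul_eq_one_right h1.symm

theorem comm_mul_right (u a b : P) : ⁅u, a * b⁆ = ⁅u, a⁆ * ⁅u, b⁆ := by
  rw [← commutatorElement_inv, comm_mul_left hc, mul_inv_rev, commutatorElement_inv, commutatorElement_inv,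
    ← Subgroup.mem_center_iff.1 (hc u a) ⁅u, b⁆]

theorem comm_pow_left (a v : P) (n : ℕ) : ⁅a ^ n, v⁆ = ⁅a, v⁆ ^ n := by
  induction n with
  | zero => simp
  | succ n ih => rw [pow_succ, comm_mul_left hc, ih, pow_succ]

theorem comm_pow_right (u a : P) (n : ℕ) : ⁅u, a ^ n⁆ = ⁅u, a⁆ ^ n := by
  induction n with
  | zero => simp
  | succ n ih => rw [pow_succ, comm_mul_right hc, ih, pow_succ]

theorem comm_zpow_right (u a : P) (n : ℤ) : ⁅u, a ^ n⁆ = ⁅u, a⁆ ^ n := by
  cases n with
  | ofNat n => simpa using comm_pow_right hc u a n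
  | negSucc n =>
    have h1 : ⁅u, (a ^ (n + 1))⁻¹⁆ = ⁅u, a ^ (n + 1)⁆⁻¹ := by
      rw [← commutatorElement_inv, comm_inv_left hc, commutatorElement_inv]
    simp only [zpow_negSucc]
    rw [h1, comm_pow_right hc]

end comm

/-- The key property (S3). -/
theorem Data.S3 (h : Data p q τ) (hna : Subgroup.center P ≠ ⊤) {u : P} (hu : u ∉ Subgroup.center P)
    {Z₀ : Subgroup P} (hZ : Z₀ ≤ Subgroup.center P) (hne : Z₀ ≠ Subgroup.center P) :
    ∃ v, ⁅u, v⁆ ∉ Z₀ := by
  by_contra hcon
  push Not at hcon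
  have hc := h.comm_mem_center
  let D : Subgroup P :=
    { carrier := {w | ∀ v, ⁅w, v⁆ ∈ Z₀}
      mul_mem' := by
        intro a b ha hb v
        show ⁅a * b, v⁆ ∈ Z₀
        rw [comm_mul_left hc]
        exact Z₀.mul_mem (ha v) (hb v)
      one_mem' := by
        intro v
        show ⁅(1 : P), v⁆ ∈ Z₀
        rw [commutatorElement_one_left]
        exact Z₀.one_mem
      inv_mem' := by
        intro a ha v
        show ⁅a⁻¹, v⁆ ∈ Z₀
        rw [comm_inv_left hc]
        exact Z₀.inv_mem (ha v) }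
  have hDmem : ∀ w, w ∈ D ↔ ∀ v, ⁅w, v⁆ ∈ Z₀ := fun _ => Iff.rfl
  have hZD : Subgroup.center P ≤ D := by
    intro z hz v
    have h1 : ⁅z, v⁆ = 1 := by
      rw [commutatorElement_eq_one_iff_mul_comm]
      exact (Subgroup.mem_center_iff.1 hz v).symm
    rw [h1]
    exact Z₀.one_mem
  have hDn : D.Normal := by
    refine Cfsg.Agent.Lib.Frat.normal_of_commutator_le ?_
    rw [commutator_def, Subgroup.commutator_le]
    intro a _ b _
    exact hZD (hc a b)
  have hDne : D ≠ ⊤ := by
    intro h0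
    apply hne
    refine le_antisymm hZ ?_
    refine (h.center_le_commutator hna).trans ?_
    rw [commutator_def, Subgroup.commutator_le]
    intro a _ b _
    have : a ∈ D := by rw [h0]; trivial
    exact this b
  have hinv : ∀ w ∈ D, τ w ∈ D := by
    intro w hw v
    have h1 : ⁅τ w, v⁆ = τ ⁅w, τ.symm v⁆ := by
      rw [map_commutatorElement]
      congr 1
      exact (τ.apply_symm_apply v).symm
    rw [h1, h.center_fixed hna (hc _ _)]
    exact hw _
  have hDc := h.le_center_of_normal hDn hDne hinv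
  exact hu (hDc hcon)

/-- (S4). -/
theorem Data.S4 (h : Data p q τ) (hna : Subgroup.center P ≠ ⊤) {u : P} (hu : u ∉ Subgroup.center P) (k : ℤ)
    {z : P} (hz : z ∈ Subgroup.center P) : τ u ≠ u ^ k * z := by
  intro he
  have hc := h.comm_mem_center
  let D : Subgroup P := Subgroup.zpowers u ⊔ Subgroup.center P
  have hZD : Subgroup.center P ≤ D := le_sup_right
  have hDn : D.Normal := by
    refine Cfsg.Agent.Lib.Frat.normal_of_commutator_le ?_
    rw [commutator_def, Subgroup.commutator_le]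
    intro a _ b _
    exact hZD (hc a b)
  have huD : u ∈ D := (le_sup_left : Subgroup.zpowers u ≤ D) (Subgroup.mem_zpowers u)
  have hDne : D ≠ ⊤ := by
    intro h0
    apply hu
    have hle : D ≤ Subgroup.centralizer {u} := by
      refine sup_le ?_ ?_
      · rw [Subgroup.zpowers_le, Subgroup.mem_centralizer_singleton_iff]
      · intro y hy
        rw [Subgroup.mem_centralizer_singleton_iff]
        exact (Subgroup.mem_center_iff.1 hy u).symm
    rw [Subgroup.mem_center_iff]
    intro g
    have h1 : g ∈ Subgroup.centralizer {u} := hle (by rw [h0]; trivial)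
    exact (Subgroup.mem_centralizer_singleton_iff.1 h1)
  have hinv : ∀ w ∈ D, τ w ∈ D := by
    have hle : D ≤ D.comap τ.toMonoidHom := by
      refine sup_le ?_ ?_
      · rw [Subgroup.zpowers_le]
        show τ u ∈ D
        rw [he]
        exact D.mul_mem (D.zpow_mem huD k) (hZD hz)
      · intro y hy
        show τ y ∈ D
        rw [h.center_fixed hna hy]
        exact hZD hy
    exact fun w hw => hle hw
  exact hu (h.le_center_of_normal hDn hDne hinv huD)

/-- Fixed points are central. -/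
theorem Data.mem_center_of_fixed (h : Data p q τ) (hna : Subgroup.center P ≠ ⊤) {u : P} (hu : τ u = u) :
    u ∈ Subgroup.center P := by
  by_contra hn
  apply h.S4 hna hn 1 (Subgroup.one_mem _)
  simpa using hu

/-- `q ≠ 2`. -/
theorem Data.q_ne_two (h : Data p q τ) (hna : Subgroup.center P ≠ ⊤) : q ≠ 2 := by
  rintro rfl
  have hc := h.comm_mem_center
  obtain ⟨u, hu⟩ : ∃ u, u ∉ Subgroup.center P := by
    by_contra hcon
    push Not at hcon
    exact hna (eq_top_iff.2 fun x _ => hcon x)
  have h2 : τ (τ u) = u := by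
    have h1 : (τ ^ 2) u = u := by rw [h.pow]; rfl
    rwa [pow_two, MulAut.mul_apply] at h1
  -- `w = u τ(u)` is central
  have hw : u * τ u ∈ Subgroup.center P := by
    by_contra hn
    apply h.S4 hna hn 1 (hc (τ u)  u)
    rw [map_mul, h2, zpow_one, commutatorElement_def]
    have e := Subgroup.mem_center_iff.1 (hc (τ u) u) (u * τ u)
    rw [commutatorElement_def] at e
    rw [e]
    group
  apply h.S4 hna hu (-1) hw
  group

/-- The congruence modulo `q`. -/
theorem Data.card_modEq (h : Data p q τ) (hna : Subgroup.center P ≠ ⊤) :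
    Nat.card P ≡ Nat.card (Subgroup.center P) [MOD q] := by
  classical
  haveI : Fact q.Prime := ⟨h.hq⟩
  haveI : Fintype P := Fintype.ofFinite P
  let f : Function.End P := fun u => τ u
  have hf1 : ∀ i : ℕ, (f ^ i : Function.End P) = fun u => (τ ^ i) u := by
    intro i
    induction i with
    | zero => rfl
    | succ i ih =>
      rw [pow_succ', ih]
      funext u
      rw [pow_succ', MulAut.mul_apply]
      rfl
  have hf : f ^ q ^ 1 = 1 := by
    rw [pow_one, hf1, h.pow]
    rfl
  have h1 := Equiv.Perm.card_fixedPoints_modEq hf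
  have h2 : Function.fixedPoints f = (Subgroup.center P : Set P) := by
    ext u
    constructor
    · intro hu
      exact h.mem_center_of_fixed hna hu
    · intro hu
      exact h.center_fixed hna hu
  rw [← Nat.card_eq_fintype_card, ← Nat.card_eq_fintype_card] at h1
  rw [h2] at h1
  exact h1

/-- The index of the center. -/
theorem Data.not_isCyclic (h : Data p q τ) (hna : Subgroup.center P ≠ ⊤) : ¬ IsCyclic (P ⧸ Subgroup.center P) := by
  intro hcy
  apply hna
  have h1 := ((QuotientGroup.mk' (Subgroup.center P)).isMulCommutative_of_isCyclic_of_ker_le_center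
    (by rw [QuotientGroup.ker_mk'])).is_comm.comm
  refine eq_top_iff.2 fun x _ => ?_
  rw [Subgroup.mem_center_iff]
  intro g
  exact h1 g x

/-- If `P/Z(P)` is generated by two elements, it has order `p²`. -/
theorem Data.card_quot_eq (h : Data p q τ) (hna : Subgroup.center P ≠ ⊤) (x r : P)
    (hgen : ∀ s : P, ∃ i j : ℕ, ∃ z ∈ Subgroup.center P, s = x ^ i * r ^ j * z) :
    Nat.card (P ⧸ Subgroup.center P) = p ^ 2 := by
  have hpp : p.Prime := hp.out
  let π := QuotientGroup.mk' (Subgroup.center P)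
  have hxp : π x ^ p = 1 := by
    rw [← map_pow]
    exact (QuotientGroup.eq_one_iff _).2 (h.pow_mem_center x)
  have hrp : π r ^ p = 1 := by
    rw [← map_pow]
    exact (QuotientGroup.eq_one_iff _).2 (h.pow_mem_center r)
  have hpos : NeZero p := ⟨hpp.ne_zero⟩
  let f : Fin p × Fin p → P ⧸ Subgroup.center P := fun ij => π x ^ (ij.1 : ℕ) * π r ^ (ij.2 : ℕ)
  have hf : Function.Surjective f := by
    intro w
    obtain ⟨s, rfl⟩ := QuotientGroup.mk'_surjective (Subgroup.center P) w
    obtain ⟨i, j, z, hz, rfl⟩ := hgen s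
    refine ⟨(⟨i % p, Nat.mod_lt _ hpp.pos⟩, ⟨j % p, Nat.mod_lt _ hpp.pos⟩), ?_⟩
    have hz1 : π z = 1 := (QuotientGroup.eq_one_iff _).2 hz
    show π x ^ (i % p) * π r ^ (j % p) = π (x ^ i * r ^ j * z)
    rw [map_mul, map_mul, hz1, mul_one, map_pow, map_pow]
    congr 1
    · conv_rhs => rw [← Nat.div_add_mod i p, pow_add, pow_mul, hxp, one_pow, one_mul]
    · conv_rhs => rw [← Nat.div_add_mod j p, pow_add, pow_mul, hrp, one_pow, one_mul]
  have hle : Nat.card (P ⧸ Subgroup.center P) ≤ p ^ 2 := by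
    have h1 := Nat.card_le_card_of_surjective f hf
    simpa [Nat.card_prod, pow_two] using h1
  have hQ : IsPGroup p (P ⧸ Subgroup.center P) := h.hP.of_surjective π (QuotientGroup.mk'_surjective _)
  obtain ⟨n, hn⟩ := IsPGroup.iff_card.1 hQ
  have hn2 : n ≤ 2 := by
    rw [hn] at hle
    exact (Nat.pow_le_pow_iff_right hpp.one_lt).1 hle
  have hn0 : n ≠ 0 := by
    rintro rfl
    rw [pow_zero] at hn
    apply h.not_isCyclic hna
    haveI : Subsingleton (P ⧸ Subgroup.center P) := (Finite.card_le_one_iff_subsingleton).1 hn.le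
    infer_instance
  have hn1 : n ≠ 1 := by
    rintro rfl
    rw [pow_one] at hn
    apply h.not_isCyclic hna
    haveI : Fact p.Prime := ⟨hpp⟩
    exact isCyclic_of_prime_card hn
  have : n = 2 := by omega
  rw [hn, this]

/-- The prime `3` cannot occur when `|P : Z(P)| = 9`. -/
theorem Data.three_false (h : Data 3 q τ) [Fact (Nat.Prime 3)] (hna : Subgroup.center P ≠ ⊤)
    (hcard : Nat.card (P ⧸ Subgroup.center P) = 3 ^ 2) : False := by
  have h1 := h.card_modEq hna
  have h2 : Nat.card P = Nat.card (P ⧸ Subgroup.center P) * Nat.card (Subgroup.center P) :=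
    (Subgroup.card_eq_card_quotient_mul_card_subgroup _)
  rw [h2, hcard] at h1
  have h3 : q ∣ 8 * Nat.card (Subgroup.center P) := by
    have h4 : (3 ^ 2 * Nat.card (Subgroup.center P) : ℕ) = 8 * Nat.card (Subgroup.center P) + Nat.card (Subgroup.center P) := by
      ring
    rw [h4] at h1
    have h5 : Nat.card (Subgroup.center P) + 8 * Nat.card (Subgroup.center P) ≡ Nat.card (Subgroup.center P) + 0 [MOD q] := by
      rw [add_comm, add_zero]
      exact h1
    have h6 := Nat.ModEq.add_left_cancel' _ h5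
    exact (Nat.modEq_zero_iff_dvd).1 h6
  have hq := h.hq
  have hZp : IsPGroup 3 (Subgroup.center P) := IsPGroup.to_subgroup h.hP _
  obtain ⟨n, hn⟩ := IsPGroup.iff_card.1 hZp
  rw [hn] at h3
  rcases (Nat.Prime.dvd_mul hq).1 h3 with h4 | h4
  · have h5 : q ∣ 2 ^ 3 := by norm_num; exact h4
    have h6 := hq.dvd_of_dvd_pow h5
    have h7 : q = 2 := (Nat.prime_dvd_prime_iff_eq hq Nat.prime_two).1 h6
    exact h.q_ne_two hna h7
  · have h6 := hq.dvd_of_dvd_pow h4
    have h7 : q = 3 := (Nat.prime_dvd_prime_iff_eq hq Nat.prime_three).1 h6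
    exact h.hqp h7

/-- In the case `p = 2`, `|P : Z(P)| = 4`: a subgroup `Y` containing `a²` and the squares of the central
elements contains the center. -/
theorem Data.two_center_le (h : Data 2 q τ) [Fact (Nat.Prime 2)] (hna : Subgroup.center P ≠ ⊤)
    (hcard : Nat.card (P ⧸ Subgroup.center P) = 2 ^ 2) {a : P} (ha : a ∉ Subgroup.center P)
    {Y : Subgroup P} (hYa : a ^ 2 ∈ Y) (hYz : ∀ z ∈ Subgroup.center P, z ^ 2 ∈ Y) :
    Subgroup.center P ≤ Y := by
  classical
  have hc := h.comm_mem_center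
  let π := QuotientGroup.mk' (Subgroup.center P)
  have hπ : ∀ u, π u = 1 ↔ u ∈ Subgroup.center P := fun u => QuotientGroup.eq_one_iff _
  have hsq : ∀ u, π u ^ 2 = 1 := by
    intro u
    rw [← map_pow, hπ]
    exact h.pow_mem_center u
  set b := τ a with hb
  -- basic non-identities
  have hab : ∀ (u : P), u ∉ Subgroup.center P → π (τ u) ≠ π u := by
    intro u hu he
    have h1 : u⁻¹ * τ u ∈ Subgroup.center P := by
      rw [← hπ, map_mul, map_inv, he, inv_mul_cancel]
    apply h.S4 hna hu 1 h1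
    group
  have hfix : ∀ (u : P), u ∉ Subgroup.center P → τ u ∉ Subgroup.center P := by
    intro u hu hτ
    apply hu
    have := char_mem _ (τ⁻¹) hτ
    simpa using this
  have hbZ : b ∉ Subgroup.center P := hfix a ha
  have ha1 : π a ≠ 1 := fun h0 => ha ((hπ a).1 h0)
  have hb1 : π b ≠ 1 := fun h0 => hbZ ((hπ b).1 h0)
  have hba : π b ≠ π a := hab a ha
  have hab1 : π (a * b) ≠ 1 := by
    intro h0
    rw [map_mul] at h0
    apply hba
    have h1 : π a * π a = 1 := by rw [← pow_two]; exact hsq a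
    calc π b = π a * π a * π b := by rw [h1, one_mul]
      _ = π a * (π a * π b) := by rw [mul_assoc]
      _ = π a := by rw [h0, mul_one]
  have habZ : a * b ∉ Subgroup.center P := fun h0 => hab1 ((hπ _).2 h0)
  haveI : Fintype (P ⧸ Subgroup.center P) := Fintype.ofFinite _
  -- four cosets
  have hfour : ∀ w : P ⧸ Subgroup.center P, w = 1 ∨ w = π a ∨ w = π b ∨ w = π a * π b := by
    have hset : ({1, π a, π b, π a * π b} : Finset (P ⧸ Subgroup.center P)) = Finset.univ := by
      apply Finset.eq_univ_of_card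
      rw [← Nat.card_eq_fintype_card, hcard]
      have e1 : π a * π b ≠ π b := fun h0 => ha1 (mul_eq_right.1 h0)
      have e2 : π a * π b ≠ π a := fun h0 => hb1 (mul_eq_left.1 h0)
      have e3 : π a * π b ≠ 1 := by rw [← map_mul]; exact hab1
      have hc3 : π b ∉ ({π a * π b} : Finset (P ⧸ Subgroup.center P)) := by
        simp only [Finset.mem_singleton]
        exact fun h0 => e1 h0.symm
      have hc2 : π a ∉ ({π b, π a * π b} : Finset (P ⧸ Subgroup.center P)) := by
        simp only [Finset.mem_insert, Finset.mem_singleton, not_or]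
        exact ⟨fun h0 => hba h0.symm, fun h0 => e2 h0.symm⟩
      have hc1 : (1 : P ⧸ Subgroup.center P) ∉ ({π a, π b, π a * π b} : Finset (P ⧸ Subgroup.center P)) := by
        simp only [Finset.mem_insert, Finset.mem_singleton, not_or]
        exact ⟨fun h0 => ha1 h0.symm, fun h0 => hb1 h0.symm, fun h0 => e3 h0.symm⟩
      rw [Finset.card_insert_of_notMem hc1, Finset.card_insert_of_notMem hc2, Finset.card_insert_of_notMem hc3,
        Finset.card_singleton]
      norm_num
    intro w
    have : w ∈ ({1, π a, π b, π a * π b} : Finset (P ⧸ Subgroup.center P)) := by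
      rw [hset]
      exact Finset.mem_univ w
    simpa using this
  -- the image of `c = τ(b)`
  set c := τ b with hcdef
  have hτπ : ∀ u v : P, π u = π v → π (τ u) = π (τ v) := by
    intro u v huv
    have h1 : u⁻¹ * v ∈ Subgroup.center P := by
      rw [← hπ, map_mul, map_inv, huv, inv_mul_cancel]
    have h2 : τ u⁻¹ * τ v = u⁻¹ * v := by
      rw [← map_mul, h.center_fixed hna h1]
    have h3 : (τ u)⁻¹ * τ v ∈ Subgroup.center P := by
      rw [← map_inv, h2]
      exact h1
    have h4 := (hπ _).2 h3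
    rw [map_mul, map_inv] at h4
    exact inv_mul_eq_one.1 h4
  have hcab : π c = π a * π b := by
    rcases hfour (π c) with h1 | h1 | h1 | h1
    · exact absurd ((hπ c).1 h1) (hfix b hbZ)
    · -- `τ(ab) ∈ abZ`
      exfalso
      apply hab (a * b) habZ
      rw [map_mul τ, map_mul π, map_mul π]
      show π b * π c = _
      rw [h1]
      have key : ∀ (x y : P ⧸ Subgroup.center P), x ^ 2 = 1 → y ^ 2 = 1 → (x * y) ^ 2 = 1 → y * x = x * y := by
        intro x y hx hy hxy
        have h3 : x⁻¹ = x := inv_eq_of_mul_eq_one_left (by rw [← pow_two]; exact hx)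
        have h4 : y⁻¹ = y := inv_eq_of_mul_eq_one_left (by rw [← pow_two]; exact hy)
        have h5 : (x * y)⁻¹ = x * y := inv_eq_of_mul_eq_one_left (by rw [← pow_two]; exact hxy)
        calc y * x = y⁻¹ * x⁻¹ := by rw [h3, h4]
          _ = (x * y)⁻¹ := (mul_inv_rev _ _).symm
          _ = x * y := h5
      exact key _ _ (hsq a) (hsq b) (by rw [← map_mul]; exact hsq _)
    · exact absurd h1 (hab b hbZ)
    · exact h1
  -- `c = a b z`
  obtain ⟨z, hz, hcz⟩ : ∃ z ∈ Subgroup.center P, c = a * b * z := by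
    refine ⟨(a * b)⁻¹ * c, ?_, by group⟩
    rw [← hπ, map_mul, map_inv, hcab, map_mul, inv_mul_cancel]
  -- squares
  have hs : a ^ 2 ∈ Subgroup.center P := h.pow_mem_center a
  have hsb : b ^ 2 = a ^ 2 := by
    rw [hb, ← map_pow, h.center_fixed hna hs]
  have hsc : c ^ 2 = a ^ 2 := by
    rw [hcdef, ← map_pow, hsb, h.center_fixed hna hs]
  -- the commutator
  have hcommY : ⁅a, b⁆ ∈ Y := by
    have h1 : c ^ 2 = a ^ 2 * b ^ 2 * ⁅b, a⁆ * z ^ 2 := by
      rw [hcz]
      have hzc := Subgroup.mem_center_iff.1 hz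
      have hbac := Subgroup.mem_center_iff.1 (hc b a)
      have e1 : (a * b * z) ^ 2 = (a * b) * (a * b) * z ^ 2 := by
        rw [pow_two, pow_two]
        have : a * b * z * (a * b * z) = a * b * (z * (a * b)) * z := by group
        rw [this, ← hzc (a * b)]
        group
      rw [e1]
      congr 1
      have e2 : b * a = ⁅b, a⁆ * (a * b) := by
        rw [commutatorElement_def]; group
      calc a * b * (a * b) = a * (b * a) * b := by group
        _ = a * (⁅b, a⁆ * (a * b)) * b := by rw [e2]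
        _ = ⁅b, a⁆ * (a * (a * b) * b) := by
            have : a * (⁅b, a⁆ * (a * b)) * b = (a * ⁅b, a⁆) * (a * b) * b := by group
            rw [this, hbac a]
            group
        _ = a ^ 2 * b ^ 2 * ⁅b, a⁆ := by
            rw [hbac (a ^ 2 * b ^ 2), pow_two, pow_two]
            group
    rw [hsc, hsb] at h1
    -- `[b,a] = a⁻² z⁻²`
    have h2 : ⁅b, a⁆ = (a ^ 2)⁻¹ * (z ^ 2)⁻¹ := by
      have hz2 := Subgroup.mem_center_iff.1 ((Subgroup.center P).pow_mem hz 2)
      have hs2 := Subgroup.mem_center_iff.1 hs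
      have h3 : a ^ 2 * (a ^ 2 * ⁅b, a⁆ * z ^ 2) = a ^ 2 := by
        have e : a ^ 2 * (a ^ 2 * ⁅b, a⁆ * z ^ 2) = a ^ 2 * a ^ 2 * ⁅b, a⁆ * z ^ 2 := by group
        rw [e, ← h1]
      have h4 : a ^ 2 * ⁅b, a⁆ * z ^ 2 = 1 := mul_eq_left.1 h3
      have h5 : ⁅b, a⁆ * z ^ 2 = (a ^ 2)⁻¹ := by
        have e : a ^ 2 * (⁅b, a⁆ * z ^ 2) = 1 := by rw [← mul_assoc]; exact h4
        exact eq_inv_of_mul_eq_one_right e
      rw [← h5]
      group
    rw [← commutatorElement_inv]
    apply Y.inv_mem
    rw [h2]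
    exact Y.mul_mem (Y.inv_mem hYa) (Y.inv_mem (hYz z hz))
  -- conclude with (S3)
  by_contra hnot
  have hne : Subgroup.center P ⊓ Y ≠ Subgroup.center P := fun h0 => hnot (inf_eq_left.1 h0)
  obtain ⟨v, hv⟩ := h.S3 hna ha (inf_le_left : Subgroup.center P ⊓ Y ≤ _) hne
  apply hv
  have hcomZ : ∀ y, ⁅a, y⁆ ∈ Y → ⁅a, y⁆ ∈ Subgroup.center P ⊓ Y := fun y hy => ⟨hc _ _, hy⟩
  apply hcomZ
  -- write `v` in its coset
  have hzcomm : ∀ (y z' : P), z' ∈ Subgroup.center P → ⁅a, y * z'⁆ = ⁅a, y⁆ := by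
    intro y z' hz'
    rw [comm_mul_right hc]
    have : ⁅a, z'⁆ = 1 := by
      rw [commutatorElement_eq_one_iff_mul_comm]
      exact Subgroup.mem_center_iff.1 hz' a
    rw [this, mul_one]
  have hdecomp : ∀ y : P, π v = π y → ⁅a, v⁆ = ⁅a, y⁆ := by
    intro y hy
    have h1 : y⁻¹ * v ∈ Subgroup.center P := by
      rw [← hπ, map_mul, map_inv, hy, inv_mul_cancel]
    have h2 : v = y * (y⁻¹ * v) := by group
    rw [h2, hzcomm _ _ h1]
  have haa : ⁅a, a⁆ = 1 := commutatorElement_self a
  rcases hfour (π v) with h1 | h1 | h1 | h1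
  · rw [hdecomp 1 (by rw [h1, map_one]), commutatorElement_one_right]
    exact Y.one_mem
  · rw [hdecomp a h1, haa]
    exact Y.one_mem
  · rw [hdecomp b h1]
    exact hcommY
  · rw [hdecomp (a * b) (by rw [h1, map_mul]), comm_mul_right hc, haa, one_mul]
    exact hcommY

end Cfsg.Agent.Lib.SchmidtP
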