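import Mathlib
import Cfsg.Agent.Lib.SchmidtP

/-!
# Universal minimal non-`p`-nilpotent groups, part 1: polynomial actions and the core comparison
-/

set_option autoImplicit false
set_option linter.unusedSectionVars false
set_option linter.unusedVariables false
set_option linter.style.haveILetI false

universe u v

namespace Cfsg.Agent.Lib.SchmidtUni1

open Polynomial
open scoped commutatorElement
open Multiplicative (toAdd ofAdd)

section additive

variable {E E' F : Type*} [AddCommGroup E] [AddCommGroup E'] [Field F]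

theorem aeval_intertwine (Ψ : E →ₗ[ℤ] E') (T : Module.End ℤ E) (T' : Module.End ℤ E')
    (h : ∀ e, Ψ (T e) = T' (Ψ e)) (n : ℤ[X]) (e : E) :
    Ψ (aeval T n e) = aeval T' n (Ψ e) := by
  induction n using Polynomial.induction_on' generalizing e with
  | add a b ha hb => simp only [map_add, LinearMap.add_apply, ha, hb]
  | monomial k c =>
    rw [← C_mul_X_pow_eq_monomial]
    simp only [map_mul, aeval_C, map_pow, aeval_X, Module.End.mul_apply, Module.algebraMap_end_apply]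
    rw [map_zsmul]
    congr 1
    induction k generalizing e with
    | zero => simp
    | succ k ih =>
      rw [pow_succ, pow_succ, Module.End.mul_apply, Module.End.mul_apply, ih, h]

theorem aeval_fixed (T : Module.End ℤ E) {e : E} (h : T e = e) (n : ℤ[X]) :
    aeval T n e = n.eval 1 • e := by
  induction n using Polynomial.induction_on' with
  | add a b ha hb => simp only [map_add, LinearMap.add_apply, ha, hb, eval_add, add_smul]
  | monomial k c =>
    rw [← C_mul_X_pow_eq_monomial]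
    simp only [map_mul, aeval_C, map_pow, aeval_X, Module.End.mul_apply, Module.algebraMap_end_apply, eval_mul,
      eval_C, eval_pow, eval_X, one_pow, mul_one]
    congr 1
    induction k with
    | zero => simp
    | succ k ih => rw [pow_succ, Module.End.mul_apply, h, ih]

theorem aeval_comm (T : Module.End ℤ E) (f g : ℤ[X]) (e : E) :
    aeval T f (aeval T g e) = aeval T g (aeval T f e) := by
  rw [← Module.End.mul_apply, ← Module.End.mul_apply, ← map_mul, ← map_mul, mul_comm]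

theorem aeval_mul_apply (T : Module.End ℤ E) (f g : ℤ[X]) (e : E) :
    aeval T (f * g) e = aeval T f (aeval T g e) := by
  rw [map_mul, Module.End.mul_apply]

/-- multiplication by an element: the polynomial action is multiplication by the value. -/
theorem aeval_mulLeft (ζ t : F) (n : ℤ[X]) :
    aeval (LinearMap.mulLeft ℤ ζ) n t = aeval ζ n * t := by
  induction n using Polynomial.induction_on' with
  | add a b ha hb => simp only [map_add, LinearMap.add_apply, ha, hb, add_mul]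
  | monomial k c =>
    rw [← C_mul_X_pow_eq_monomial]
    simp only [map_mul, aeval_C, map_pow, aeval_X, Module.End.mul_apply, Module.algebraMap_end_apply]
    have h : (LinearMap.mulLeft ℤ ζ ^ k) t = ζ ^ k * t := by
      induction k with
      | zero => simp
      | succ k ih => rw [pow_succ', Module.End.mul_apply, ih, LinearMap.mulLeft_apply, pow_succ', mul_assoc]
    rw [h, zsmul_eq_mul, mul_assoc]
    simp

/-- The key additive lemma. -/
theorem lemmaM {p q : ℕ} (hp : p.Prime) (hpq : Nat.Coprime q p) (T : Module.End ℤ E) (T' : Module.End ℤ E')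
    (Ψ : E →ₗ[ℤ] E') (hΨ : ∀ e, Ψ (T e) = T' (Ψ e)) (m : ℤ[X]) (hT' : aeval T' m = 0)
    (hp' : ∀ e' : E', p • e' = 0) (hF : ∀ e, Ψ e = 0 → T e = e) (xb : E)
    (hΦ : aeval T (∑ i ∈ Finset.range q, (X : ℤ[X]) ^ i) xb = 0) (hgen : ∀ e, ∃ n : ℤ[X], aeval T n xb = e)
    (htors : ∀ e : E, ∃ k : ℕ, p ^ k • e = 0) (ζ : F) (M : E →ₗ[ℤ] F) (hM : ∀ e, M (T e) = ζ * M e)
    (hMx : M xb = 1) (Hm : ∀ n : ℤ[X], aeval ζ n = 0 → ∃ g h : ℤ[X], n = m * g + C (p : ℤ) * h) :
    Function.Injective M := by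
  set Φ : ℤ[X] := ∑ i ∈ Finset.range q, (X : ℤ[X]) ^ i with hΦdef
  have hΦ1 : Φ.eval 1 = q := by
    simp [hΦdef, eval_finsetSum]
  -- fixed elements killed by `Φ` vanish
  have hfix : ∀ e : E, T e = e → aeval T Φ e = 0 → e = 0 := by
    intro e he h0
    rw [aeval_fixed T he, hΦ1] at h0
    obtain ⟨k, hk⟩ := htors e
    have h1 : Nat.Coprime q (p ^ k) := Nat.Coprime.pow_right k hpq
    have h2 : (q : ℤ) • e = 0 := h0
    have h3 : q • e = 0 := by simpa using h2
    have h5 : addOrderOf e = 1 :=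
      Nat.eq_one_of_dvd_coprimes h1 (addOrderOf_dvd_of_nsmul_eq_zero h3) (addOrderOf_dvd_of_nsmul_eq_zero hk)
    exact AddMonoid.addOrderOf_eq_one_iff.1 h5
  have hΨx : ∀ (n : ℤ[X]) (e : E), Ψ (aeval T n e) = aeval T' n (Ψ e) := aeval_intertwine Ψ T T' hΨ
  have he1 : aeval T m xb = 0 := by
    apply hfix
    · apply hF
      rw [hΨx, hT']
      rfl
    · rw [aeval_comm, hΦ, map_zero]
  have he2 : p • xb = 0 := by
    apply hfix
    · apply hF
      rw [map_nsmul, hp']
    · rw [map_nsmul, hΦ, smul_zero]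
  rw [injective_iff_map_eq_zero]
  intro e he
  obtain ⟨n, rfl⟩ := hgen e
  have h1 : M (aeval T n xb) = aeval ζ n := by
    have h2 : ∀ e, M (aeval T n e) = aeval ζ n * M e := by
      intro e
      have h3 := aeval_intertwine M T (LinearMap.mulLeft ℤ ζ) hM n e
      rw [h3, aeval_mulLeft]
    rw [h2, hMx, mul_one]
  rw [h1] at he
  obtain ⟨g, h, rfl⟩ := Hm n he
  have h3 : aeval T (C (p : ℤ) * h) xb = aeval T h (p • xb) := by
    rw [mul_comm, aeval_mul_apply, aeval_C, Module.algebraMap_end_apply, natCast_zsmul]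
  rw [map_add, LinearMap.add_apply, aeval_mul_apply, aeval_comm, he1, map_zero, h3, he2, map_zero, add_zero]

end additive

section group

variable {A E E' F : Type*} [Group A] [AddCommGroup E] [AddCommGroup E'] [Field F]

/-- lift of a hom along a surjection onto an additive group -/
theorem exists_lift_add (ρ : A →* Multiplicative E) (hρ : Function.Surjective ρ) (ψ : A →* Multiplicative E')
    (h : ρ.ker ≤ ψ.ker) : ∃ Ψ : E →ₗ[ℤ] E', ∀ a, Ψ (toAdd (ρ a)) = toAdd (ψ a) := by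
  let g : Multiplicative E →* Multiplicative E' := MonoidHom.liftOfSurjective ρ hρ ⟨ψ, h⟩
  have hg : ∀ a, g (ρ a) = ψ a := fun a => MonoidHom.liftOfRightInverse_comp_apply _ _ _ _ a
  refine ⟨(AddMonoidHom.toMultiplicative.symm g).toIntLinearMap, fun a => ?_⟩
  show toAdd (g (ofAdd (toAdd (ρ a)))) = _
  rw [ofAdd_toAdd, hg]

theorem exists_quot_add {A : Type u} [Group A] (C : Subgroup A) [C.Normal] (h : ∀ a b : A, ⁅a, b⁆ ∈ C) :
    ∃ (E : Type u) (_ : AddCommGroup E) (ρ : A →* Multiplicative E), Function.Surjective ρ ∧ ρ.ker = C := by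
  letI : CommGroup (A ⧸ C) :=
    { (QuotientGroup.Quotient.group C) with
      mul_comm := by
        intro a b
        obtain ⟨a, rfl⟩ := QuotientGroup.mk'_surjective C a
        obtain ⟨b, rfl⟩ := QuotientGroup.mk'_surjective C b
        have h1 : QuotientGroup.mk' C ⁅a, b⁆ = 1 := (QuotientGroup.eq_one_iff _).2 (h a b)
        rw [map_commutatorElement, commutatorElement_eq_one_iff_mul_comm] at h1
        exact h1 }
  refine ⟨Additive (A ⧸ C), inferInstance, (MulEquiv.refl _ : _ ≃* Multiplicative (Additive (A ⧸ C))).toMonoidHom.comp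
    (QuotientGroup.mk' C), ?_, ?_⟩
  · intro y
    obtain ⟨a, ha⟩ := QuotientGroup.mk'_surjective C (y : A ⧸ C)
    exact ⟨a, ha⟩
  · ext a
    show (QuotientGroup.mk' C a) = 1 ↔ a ∈ C
    exact QuotientGroup.eq_one_iff _

/-- ordered product `x · η x ⋯ η^{n-1} x` -/
def Pr (η : A →* A) (x : A) : ℕ → A
  | 0 => 1
  | n + 1 => Pr η x n * η^[n] x

theorem Pr_tele (η : A →* A) (a : A) (n : ℕ) : Pr η (a⁻¹ * η a) n = a⁻¹ * η^[n] a := by
  induction n with
  | zero => simp [Pr]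
  | succ n ih =>
    have h : η^[n] (a⁻¹ * η a) = (η^[n] a)⁻¹ * η^[n + 1] a := by
      have h1 : ∀ (n : ℕ) (u v : A), η^[n] (u * v) = η^[n] u * η^[n] v := by
        intro n
        induction n with
        | zero => simp
        | succ n ih => intro u v; simp only [Function.iterate_succ', Function.comp_apply, ih, map_mul]
      have h2 : ∀ (n : ℕ) (u : A), η^[n] u⁻¹ = (η^[n] u)⁻¹ := by
        intro n
        induction n with
        | zero => simp
        | succ n ih => intro u; simp only [Function.iterate_succ', Function.comp_apply, ih, map_inv]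
      rw [h1, h2, Function.iterate_succ_apply]
    rw [Pr, ih, h]
    group

theorem iterate_map_mul (η : A →* A) (n : ℕ) (u v : A) : η^[n] (u * v) = η^[n] u * η^[n] v := by
  induction n with
  | zero => simp
  | succ n ih => simp only [Function.iterate_succ', Function.comp_apply, ih, map_mul]

theorem iterate_map_inv (η : A →* A) (n : ℕ) (u : A) : η^[n] u⁻¹ = (η^[n] u)⁻¹ := by
  induction n with
  | zero => simp
  | succ n ih => simp only [Function.iterate_succ', Function.comp_apply, ih, map_inv]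

theorem iterate_map_comm (η : A →* A) (n : ℕ) (u v : A) : η^[n] ⁅u, v⁆ = ⁅η^[n] u, η^[n] v⁆ := by
  induction n with
  | zero => simp
  | succ n ih => simp only [Function.iterate_succ', Function.comp_apply, ih, map_commutatorElement]

/-- The group-theoretic comparison lemma. -/
theorem lemmaC {A : Type u} [Group A] {p q : ℕ} (hp : p.Prime) (hpq : Nat.Coprime q p) (hA : IsPGroup p A) (η : A →* A) (x : A)
    (hgen : Subgroup.closure (Set.range fun i : ℕ => η^[i] x) = ⊤) (hprod : Pr η x q = 1)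
    (D : Subgroup A) [D.Normal] (hcomm : ∀ i j : ℕ, ⁅η^[i] x, η^[j] x⁆ ∈ D) (hηC : ∀ c ∈ D, η c ∈ D)
    (ψ : A →* Multiplicative E') (T' : Module.End ℤ E') (hψ : ∀ a, toAdd (ψ (η a)) = T' (toAdd (ψ a)))
    (hCψ : D ≤ ψ.ker) (hker : ∀ a, ψ a = 1 → η a = a) (m : ℤ[X]) (hT' : aeval T' m = 0)
    (hp' : ∀ e' : E', p • e' = 0) (ζ : F) (Θ : A →* Multiplicative F) (hCΘ : D ≤ Θ.ker)
    (hΘ : ∀ a, toAdd (Θ (η a)) = ζ * toAdd (Θ a)) (hΘx : toAdd (Θ x) = 1)
    (Hm : ∀ n : ℤ[X], aeval ζ n = 0 → ∃ g h : ℤ[X], n = m * g + C (p : ℤ) * h) :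
    ∀ w, Θ w = 1 → w ∈ D := by
  have hall : ∀ a b : A, ⁅a, b⁆ ∈ D := by
    intro a b
    have key : ∀ (a b : A) (ha : a ∈ Subgroup.closure (Set.range fun i : ℕ => η^[i] x))
        (hb : b ∈ Subgroup.closure (Set.range fun i : ℕ => η^[i] x)),
        Commute (QuotientGroup.mk' D a) (QuotientGroup.mk' D b) := by
      intro a b ha hb
      induction ha, hb using Subgroup.closure_induction₂ with
      | mem a b ha hb =>
        obtain ⟨i, rfl⟩ := ha
        obtain ⟨j, rfl⟩ := hb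
        have h1 : QuotientGroup.mk' D ⁅η^[i] x, η^[j] x⁆ = 1 := (QuotientGroup.eq_one_iff _).2 (hcomm i j)
        rw [map_commutatorElement, commutatorElement_eq_one_iff_mul_comm] at h1
        exact h1
      | one_left => simp
      | one_right => simp
      | mul_left a b c _ _ _ h1 h2 => rw [map_mul]; exact h1.mul_left h2
      | mul_right a b c _ _ _ h1 h2 => rw [map_mul]; exact h1.mul_right h2
      | inv_left a b _ _ h1 => rw [map_inv]; exact h1.inv_left
      | inv_right a b _ _ h1 => rw [map_inv]; exact h1.inv_right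
    have h1 := key a b (by rw [hgen]; trivial) (by rw [hgen]; trivial)
    have h2 : QuotientGroup.mk' D ⁅a, b⁆ = 1 := by
      rw [map_commutatorElement, commutatorElement_eq_one_iff_mul_comm]
      exact h1
    exact (QuotientGroup.eq_one_iff _).1 h2
  obtain ⟨E, _, ρ, hρ, hρk⟩ := exists_quot_add D hall
  obtain ⟨T, hT⟩ := exists_lift_add ρ hρ (ρ.comp η) (by
    rw [hρk]
    intro c hc
    show ρ (η c) = 1
    have : η c ∈ ρ.ker := by rw [hρk]; exact hηC c hc
    exact this)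
  obtain ⟨Ψ, hΨ⟩ := exists_lift_add ρ hρ ψ (by rw [hρk]; exact hCψ)
  obtain ⟨M, hM⟩ := exists_lift_add ρ hρ Θ (by rw [hρk]; exact hCΘ)
  have hsurj : ∀ e : E, ∃ a : A, toAdd (ρ a) = e := by
    intro e
    obtain ⟨a, ha⟩ := hρ (ofAdd e)
    exact ⟨a, by rw [ha]; rfl⟩
  have hTa : ∀ a, T (toAdd (ρ a)) = toAdd (ρ (η a)) := hT
  have hTit : ∀ (i : ℕ) (a : A), (T ^ i) (toAdd (ρ a)) = toAdd (ρ (η^[i] a)) := by
    intro i a
    induction i generalizing a with
    | zero => simp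
    | succ i ih =>
      rw [pow_succ, Module.End.mul_apply, hTa, ih, Function.iterate_succ_apply]
  set xb : E := toAdd (ρ x) with hxb
  have hΦ : aeval T (∑ i ∈ Finset.range q, (X : ℤ[X]) ^ i) xb = 0 := by
    have h1 : ∀ n : ℕ, aeval T (∑ i ∈ Finset.range n, (X : ℤ[X]) ^ i) xb = toAdd (ρ (Pr η x n)) := by
      intro n
      induction n with
      | zero => simp [Pr]
      | succ n ih =>
        rw [Finset.sum_range_succ, map_add, LinearMap.add_apply, ih, Pr, map_mul, toAdd_mul, map_pow, aeval_X, hTit]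
    rw [h1, hprod, map_one]
    rfl
  have hgenE : ∀ e, ∃ n : ℤ[X], aeval T n xb = e := by
    intro e
    obtain ⟨a, rfl⟩ := hsurj e
    have ha : a ∈ Subgroup.closure (Set.range fun i : ℕ => η^[i] x) := by rw [hgen]; trivial
    induction ha using Subgroup.closure_induction with
    | mem a ha =>
      obtain ⟨i, rfl⟩ := ha
      exact ⟨X ^ i, by rw [map_pow, aeval_X, hTit]⟩
    | one => exact ⟨0, by simp⟩
    | mul a b _ _ h1 h2 =>
      obtain ⟨n1, h1⟩ := h1
      obtain ⟨n2, h2⟩ := h2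
      exact ⟨n1 + n2, by rw [map_add, LinearMap.add_apply, h1, h2, map_mul, toAdd_mul]⟩
    | inv a _ h1 =>
      obtain ⟨n1, h1⟩ := h1
      exact ⟨-n1, by rw [map_neg, LinearMap.neg_apply, h1, map_inv, toAdd_inv]⟩
  have htors : ∀ e : E, ∃ k : ℕ, p ^ k • e = 0 := by
    intro e
    obtain ⟨a, rfl⟩ := hsurj e
    obtain ⟨k, hk⟩ := hA a
    refine ⟨k, ?_⟩
    rw [← toAdd_pow, ← map_pow, hk, map_one]
    rfl
  have hinj := lemmaM hp hpq T T' Ψ (by
      intro e
      obtain ⟨a, rfl⟩ := hsurj e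
      rw [hTa, hΨ, hΨ, hψ]) m hT' hp' (by
      intro e he
      obtain ⟨a, rfl⟩ := hsurj e
      rw [hΨ] at he
      have h1 : ψ a = 1 := he
      rw [hTa, hker a h1]) xb hΦ hgenE htors ζ M (by
      intro e
      obtain ⟨a, rfl⟩ := hsurj e
      rw [hTa, hM, hM, hΘ]) (by rw [hxb, hM, hΘx]) Hm
  intro w hw
  have h1 : M (toAdd (ρ w)) = 0 := by
    rw [hM, hw]
    rfl
  have h2 : toAdd (ρ w) = 0 := hinj (by rw [h1, map_zero])
  have h3 : w ∈ ρ.ker := h2
  rwa [hρk] at h3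

end group

/-- The subgroup spanned by `ζ^k + ζ^{-k}`. -/
def WW {F : Type*} [Field F] (ζ : F) : AddSubgroup F :=
  AddSubgroup.closure (Set.range fun k : ℕ => ζ ^ k + ζ⁻¹ ^ k)

/-- The data on one side of the comparison. -/
structure Side (p q : ℕ) (m : ℤ[X]) {A E : Type*} [Group A] [AddCommGroup E] (ρ : A →* Multiplicative E)
    (η : A →* A) (T : Module.End ℤ E) : Prop where
  surj : Function.Surjective ρ
  equi : ∀ a, toAdd (ρ (η a)) = T (toAdd (ρ a))
  central : ∀ a, ρ a = 1 → a ∈ Subgroup.center A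
  fixed : ∀ a, ρ a = 1 → η a = a
  pgrp : IsPGroup p A
  per : ∀ a, η^[q] a = a
  torsion : ∀ e : E, p • e = 0
  ann : aeval T m = 0

section side

variable {p q : ℕ} {m : ℤ[X]} {A E : Type*} [Group A] [AddCommGroup E] {ρ : A →* Multiplicative E}
    {η : A →* A} {T : Module.End ℤ E}

theorem Side.comm_ker (h : Side p q m ρ η T) (a b : A) : ρ ⁅a, b⁆ = 1 := by
  rw [map_commutatorElement, commutatorElement_eq_one_iff_mul_comm, mul_comm]

theorem Side.comm_center (h : Side p q m ρ η T) (a b : A) : ⁅a, b⁆ ∈ Subgroup.center A :=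
  h.central _ (h.comm_ker a b)

theorem Side.comm_fixed (h : Side p q m ρ η T) (a b : A) : η ⁅a, b⁆ = ⁅a, b⁆ :=
  h.fixed _ (h.comm_ker a b)

theorem Side.comm_fixed_it (h : Side p q m ρ η T) (i : ℕ) {c : A} (hc : ρ c = 1) : η^[i] c = c := by
  induction i with
  | zero => rfl
  | succ i ih => rw [Function.iterate_succ_apply', ih, h.fixed c hc]

theorem Side.exists_B [Finite A] (h : Side p q m ρ η T) (x : A) :
    ∃ B : Multiplicative E →* A, ∀ u, B (ρ u) = ⁅x, u⁆ := by
  let ad : A →* A :=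
    { toFun := fun u => ⁅x, u⁆
      map_one' := commutatorElement_one_right x
      map_mul' := fun a b => Cfsg.Agent.Lib.SchmidtP.comm_mul_right h.comm_center x a b }
  have hk : ρ.ker ≤ ad.ker := by
    intro u hu
    show ⁅x, u⁆ = 1
    rw [commutatorElement_eq_one_iff_mul_comm]
    exact (Subgroup.mem_center_iff.1 (h.central u hu) x)
  refine ⟨MonoidHom.liftOfSurjective ρ h.surj ⟨ad, hk⟩, fun u => ?_⟩
  exact MonoidHom.liftOfRightInverse_comp_apply _ _ _ _ u

theorem Side.iter (h : Side p q m ρ η T) (i : ℕ) (a : A) : (T ^ i) (toAdd (ρ a)) = toAdd (ρ (η^[i] a)) := by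
  induction i generalizing a with
  | zero => simp
  | succ i ih =>
    rw [pow_succ, Module.End.mul_apply, ← h.equi, ih, Function.iterate_succ_apply]

theorem Side.per_mul (h : Side p q m ρ η T) (k : ℕ) (a : A) : η^[k * q] a = a := by
  induction k with
  | zero => simp
  | succ k ih =>
    rw [Nat.succ_mul, Function.iterate_add_apply, h.per, ih]

theorem Side.eval_zero {F : Type*} [Field F] (h : Side p q m ρ η T) (ζ : F)
    (Hm : ∀ n : ℤ[X], aeval ζ n = 0 → ∃ g h : ℤ[X], n = m * g + C (p : ℤ) * h) {n : ℤ[X]}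
    (hn : aeval ζ n = 0) (xb : E) : aeval T n xb = 0 := by
  obtain ⟨g, g', rfl⟩ := Hm n hn
  rw [map_add, map_mul, map_mul, h.ann, zero_mul, zero_add, aeval_C, Module.End.mul_apply,
      Module.algebraMap_end_apply, natCast_zsmul, h.torsion]

/-- commutators are translation-invariant -/
theorem Side.comm_shift (h : Side p q m ρ η T) (x : A) {i j : ℕ} (hij : i ≤ j) :
    ⁅η^[i] x, η^[j] x⁆ = ⁅x, η^[j - i] x⁆ := by
  have h1 := iterate_map_comm η i x (η^[j - i] x)
  rw [h.comm_fixed_it i (h.comm_ker _ _)] at h1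
  rw [h1, ← Function.iterate_add_apply]
  congr 3
  omega

/-- (K): the commutator map vanishes on `W`. -/
theorem Side.K {F : Type*} [Field F] (h : Side p q m ρ η T) (x : A) {B : Multiplicative E →* A}
    (hB : ∀ u, B (ρ u) = ⁅x, u⁆) (ζ : F) (hζ : ζ ^ q = 1) (hq : 1 ≤ q)
    (Hm : ∀ n : ℤ[X], aeval ζ n = 0 → ∃ g h : ℤ[X], n = m * g + C (p : ℤ) * h) (n : ℤ[X])
    (hn : aeval ζ n ∈ WW ζ) : B (ofAdd (aeval T n (toAdd (ρ x)))) = 1 := by
  set xb := toAdd (ρ x) with hxb
  have hζ0 : ζ ≠ 0 := by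
    intro h0
    rw [h0, zero_pow (by omega)] at hζ
    exact zero_ne_one hζ
  have hζi : ζ ^ (q - 1) = ζ⁻¹ := by
    apply eq_inv_of_mul_eq_one_left
    rw [← pow_succ]
    have : q - 1 + 1 = q := by omega
    rw [this, hζ]
  let I : AddSubgroup ℤ[X] :=
    { carrier := {n | B (ofAdd (aeval T n xb)) = 1}
      zero_mem' := by
        show B (ofAdd (aeval T (0 : ℤ[X]) xb)) = 1
        rw [map_zero, LinearMap.zero_apply]
        exact map_one B
      add_mem' := by
        intro a b ha hb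
        show B (ofAdd (aeval T (a + b) xb)) = 1
        rw [map_add, LinearMap.add_apply, ofAdd_add, map_mul, show B (ofAdd (aeval T a xb)) = 1 from ha,
          show B (ofAdd (aeval T b xb)) = 1 from hb, one_mul]
      neg_mem' := by
        intro a ha
        show B (ofAdd (aeval T (-a) xb)) = 1
        rw [map_neg, LinearMap.neg_apply, ofAdd_neg, map_inv, show B (ofAdd (aeval T a xb)) = 1 from ha, inv_one] }
  have hI : ∀ n, n ∈ I ↔ B (ofAdd (aeval T n xb)) = 1 := fun _ => Iff.rfl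
  have h0 : ∀ n : ℤ[X], aeval ζ n = 0 → n ∈ I := by
    intro n hn
    obtain ⟨g, g', rfl⟩ := Hm n hn
    rw [hI, map_add, map_mul, map_mul, h.ann, zero_mul, zero_add, aeval_C, Module.End.mul_apply,
      Module.algebraMap_end_apply, natCast_zsmul, h.torsion]
    exact map_one B
  have hX : ∀ k : ℕ, B (ofAdd (aeval T (X ^ k : ℤ[X]) xb)) = ⁅x, η^[k] x⁆ := by
    intro k
    rw [map_pow, aeval_X, hxb, h.iter, ← hB]
    rfl
  have h1 : ∀ k : ℕ, ((X : ℤ[X]) ^ k + X ^ (k * (q - 1))) ∈ I := by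
    intro k
    rw [hI, map_add, LinearMap.add_apply, ofAdd_add, map_mul, hX, hX]
    have h2 : η^[k] ⁅x, η^[k * (q - 1)] x⁆ = ⁅η^[k] x, x⁆ := by
      rw [iterate_map_comm, ← Function.iterate_add_apply]
      congr 2
      have : k + k * (q - 1) = k * q := by
        obtain ⟨r, rfl⟩ : ∃ r, q = r + 1 := ⟨q - 1, by omega⟩
        simp only [Nat.add_sub_cancel]
        ring
      rw [this, h.per_mul]
    rw [h.comm_fixed_it k (h.comm_ker _ _)] at h2
    rw [h2, ← commutatorElement_inv x (η^[k] x), mul_inv_cancel]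
  have h2 : WW ζ ≤ I.map (aeval ζ : ℤ[X] →ₐ[ℤ] F).toLinearMap.toAddMonoidHom := by
    rw [WW, AddSubgroup.closure_le]
    rintro _ ⟨k, rfl⟩
    refine ⟨_, h1 k, ?_⟩
    show aeval ζ _ = _
    simp only [map_add, map_pow, aeval_X]
    rw [pow_mul', hζi]
  obtain ⟨n', hn', hnn⟩ := h2 hn
  have hnn' : aeval ζ n' = aeval ζ n := hnn
  have h3 : n - n' ∈ I := h0 _ (by rw [map_sub, hnn', sub_self])
  have h4 : n = (n - n') + n' := by ring
  rw [h4]
  exact I.add_mem h3 hn'

end side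

section core

variable {p q : ℕ} {m : ℤ[X]} {P₀ : Type u} {P : Type v} {E F : Type*} [Group P₀] [Group P] [Finite P₀] [Finite P]
  [AddCommGroup E] [Field F]

theorem prodMap_iterate (η₀ : P₀ →* P₀) (η : P →* P) (i : ℕ) (w : P₀ × P) :
    (η₀.prodMap η)^[i] w = (η₀^[i] w.1, η^[i] w.2) := by
  induction i generalizing w with
  | zero => rfl
  | succ i ih =>
    rw [Function.iterate_succ_apply, ih]
    rfl

/-- The comparison of a model with an arbitrary side. -/
theorem core {ρ₀ : P₀ →* Multiplicative F} {η₀ : P₀ →* P₀} {ζ : F}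
    (h₀ : Side p q m ρ₀ η₀ (LinearMap.mulLeft ℤ ζ)) {ρ : P →* Multiplicative E} {η : P →* P}
    {T : Module.End ℤ E} (h : Side p q m ρ η T) (hp : p.Prime) (hpq : Nat.Coprime q p) (hq : 1 ≤ q)
    (hζ : ζ ^ q = 1) (Hm : ∀ n : ℤ[X], aeval ζ n = 0 → ∃ g h : ℤ[X], n = m * g + C (p : ℤ) * h)
    (Hs : ∀ t : F, ∃ n : ℤ[X], aeval ζ n = t)
    (ã : P₀) (hã : toAdd (ρ₀ (ã⁻¹ * η₀ ã)) = 1) (a : P) (hx : ρ (a⁻¹ * η a) ≠ 1)
    (hW : ∀ u : P₀, ⁅ã⁻¹ * η₀ ã, u⁆ = 1 → toAdd (ρ₀ u) ∈ WW ζ)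
    (hgen₀ : Subgroup.closure (Set.range fun i : ℕ => η₀^[i] (ã⁻¹ * η₀ ã)) = ⊤)
    (hgen : Subgroup.closure (Set.range fun i : ℕ => η^[i] (a⁻¹ * η a)) = ⊤) :
    ∃ f : P₀ →* P, Function.Surjective f ∧ (∀ g, f (η₀ g) = η (f g)) ∧ ∀ g, f g = 1 → ρ₀ g = 1 := by
  classical
  set x₀ := ã⁻¹ * η₀ ã with hx₀
  set x := a⁻¹ * η a with hxdef
  set xb₀ : F := toAdd (ρ₀ x₀) with hxb₀
  set xb : E := toAdd (ρ x) with hxb
  let ηh : P₀ × P →* P₀ × P := η₀.prodMap η
  have hηh : ∀ w : P₀ × P, ηh w = (η₀ w.1, η w.2) := fun _ => rfl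
  let xh : P₀ × P := (x₀, x)
  let S : Subgroup (P₀ × P) := Subgroup.closure (Set.range fun i : ℕ => ηh^[i] xh)
  have hSinv : ∀ w ∈ S, ηh w ∈ S := by
    have hle : S ≤ S.comap ηh := by
      rw [Subgroup.closure_le]
      rintro _ ⟨i, rfl⟩
      refine Subgroup.subset_closure ⟨i + 1, ?_⟩
      exact Function.iterate_succ_apply' _ _ _
    exact fun w hw => hle hw
  let ηS : S →* S := (ηh.comp S.subtype).codRestrict S (fun s => hSinv s s.2)
  have hηS : ∀ s : S, ((ηS s : S) : P₀ × P) = ηh s := fun _ => rfl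
  have hηSit : ∀ (i : ℕ) (s : S), ((ηS^[i] s : S) : P₀ × P) = ηh^[i] s := by
    intro i s
    induction i generalizing s with
    | zero => rfl
    | succ i ih => rw [Function.iterate_succ_apply, Function.iterate_succ_apply, ih, hηS]
  have hxhS : xh ∈ S := Subgroup.subset_closure ⟨0, rfl⟩
  let xS : S := ⟨xh, hxhS⟩
  -- the commutator subgroup
  obtain ⟨B₀, hB₀⟩ := h₀.exists_B x₀
  obtain ⟨B, hB⟩ := h.exists_B x
  let T₀ : Module.End ℤ F := LinearMap.mulLeft ℤ ζ
  let N : Multiplicative ℤ[X] →* P₀ × P :=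
    { toFun := fun n => (B₀ (ofAdd (aeval T₀ (toAdd n) xb₀)), B (ofAdd (aeval T (toAdd n) xb)))
      map_one' := by
        simp only [toAdd_one, map_zero, LinearMap.zero_apply, ofAdd_zero, map_one]
        rfl
      map_mul' := by
        intro u v
        simp only [toAdd_mul, map_add, LinearMap.add_apply, ofAdd_add, map_mul]
        rfl }
  have hN : ∀ n : ℤ[X], N (ofAdd n) = (B₀ (ofAdd (aeval T₀ n xb₀)), B (ofAdd (aeval T n xb))) := fun _ => rfl
  have hT₀ : ∀ (n : ℤ[X]) (t : F), aeval T₀ n t = aeval ζ n * t := fun n t => aeval_mulLeft ζ t n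
  have hprodcomm : ∀ (u v : P₀ × P), ⁅u, v⁆ = (⁅u.1, v.1⁆, ⁅u.2, v.2⁆) := fun _ _ => rfl
  have hNX : ∀ k : ℕ, N (ofAdd (X ^ k)) = ⁅xh, ηh^[k] xh⁆ := by
    intro k
    rw [hN, map_pow, map_pow, aeval_X, aeval_X, hxb₀, hxb, h₀.iter, h.iter, ofAdd_toAdd, ofAdd_toAdd, hB₀, hB,
      hprodcomm, prodMap_iterate]
  have hB₀k : ∀ y, ρ₀ (B₀ y) = 1 := by
    intro y
    obtain ⟨u, rfl⟩ := h₀.surj y
    rw [hB₀]
    exact h₀.comm_ker _ _
  have hBk : ∀ y, ρ (B y) = 1 := by
    intro y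
    obtain ⟨u, rfl⟩ := h.surj y
    rw [hB]
    exact h.comm_ker _ _
  let C' : Subgroup (P₀ × P) := N.range
  have hC'1 : ∀ c ∈ C', ρ₀ c.1 = 1 ∧ ρ c.2 = 1 := by
    rintro _ ⟨n, rfl⟩
    exact ⟨hB₀k _, hBk _⟩
  have hC'c : ∀ c ∈ C', ∀ g : P₀ × P, g * c * g⁻¹ = c := by
    intro c hc g
    obtain ⟨h1, h2⟩ := hC'1 c hc
    have h3 := Subgroup.mem_center_iff.1 (h₀.central _ h1) g.1
    have h4 := Subgroup.mem_center_iff.1 (h.central _ h2) g.2
    refine Prod.ext ?_ ?_
    · show g.1 * c.1 * g.1⁻¹ = c.1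
      rw [h3]
      group
    · show g.2 * c.2 * g.2⁻¹ = c.2
      rw [h4]
      group
  let D : Subgroup S := C'.subgroupOf S
  have hDmem : ∀ s : S, s ∈ D ↔ (s : P₀ × P) ∈ C' := fun _ => Subgroup.mem_subgroupOf
  haveI hDn : D.Normal := by
    refine ⟨fun c hc g => ?_⟩
    have h1 : g * c * g⁻¹ = c := by
      apply Subtype.ext
      exact hC'c c ((hDmem c).1 hc) g
    rw [h1]
    exact hc
  have hcommG : ∀ i j : ℕ, ⁅ηh^[i] xh, ηh^[j] xh⁆ ∈ C' := by
    have hle : ∀ i j : ℕ, i ≤ j → ⁅ηh^[i] xh, ηh^[j] xh⁆ ∈ C' := by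
      intro i j hij
      refine ⟨ofAdd (X ^ (j - i)), ?_⟩
      rw [hNX, hprodcomm, hprodcomm, prodMap_iterate, prodMap_iterate, prodMap_iterate]
      exact Prod.ext (h₀.comm_shift x₀ hij).symm (h.comm_shift x hij).symm
    intro i j
    rcases le_total i j with hij | hij
    · exact hle i j hij
    · rw [← commutatorElement_inv]
      exact C'.inv_mem (hle j i hij)
  have hcomm : ∀ i j : ℕ, ⁅ηS^[i] xS, ηS^[j] xS⁆ ∈ D := by
    intro i j
    rw [hDmem]
    have h1 : ((⁅ηS^[i] xS, ηS^[j] xS⁆ : S) : P₀ × P) = ⁅ηh^[i] xh, ηh^[j] xh⁆ := by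
      have := map_commutatorElement S.subtype (ηS^[i] xS) (ηS^[j] xS)
      rw [Subgroup.subtype_apply, Subgroup.subtype_apply, Subgroup.subtype_apply, hηSit, hηSit] at this
      exact this
    rw [h1]
    exact hcommG i j
  have hfixS : ∀ s : S, ρ₀ (s : P₀ × P).1 = 1 → ρ (s : P₀ × P).2 = 1 → ηS s = s := by
    intro s h1 h2
    apply Subtype.ext
    rw [hηS, hηh]
    exact Prod.ext (h₀.fixed _ h1) (h.fixed _ h2)
  have hηC : ∀ c ∈ D, ηS c ∈ D := by
    intro c hc
    obtain ⟨h1, h2⟩ := hC'1 c ((hDmem c).1 hc)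
    rw [hfixS c h1 h2]
    exact hc
  let ψ : S →* Multiplicative (F × E) :=
    { toFun := fun s => ofAdd (toAdd (ρ₀ (s : P₀ × P).1), toAdd (ρ (s : P₀ × P).2))
      map_one' := by
        show ofAdd (toAdd (ρ₀ 1), toAdd (ρ 1)) = 1
        rw [map_one ρ₀, map_one ρ]
        rfl
      map_mul' := by
        intro u v
        show ofAdd (toAdd (ρ₀ ((u : P₀ × P).1 * (v : P₀ × P).1)), toAdd (ρ ((u : P₀ × P).2 * (v : P₀ × P).2))) = _
        rw [map_mul ρ₀, map_mul ρ]
        rfl }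
  have hψ1 : ∀ s : S, ψ s = 1 → ρ₀ (s : P₀ × P).1 = 1 ∧ ρ (s : P₀ × P).2 = 1 := by
    intro s hs
    have h1 : (toAdd (ρ₀ (s : P₀ × P).1), toAdd (ρ (s : P₀ × P).2)) = ((0 : F), (0 : E)) := hs
    exact ⟨congrArg Prod.fst h1, congrArg Prod.snd h1⟩
  let T' : Module.End ℤ (F × E) := LinearMap.prodMap T₀ T
  have hT' : aeval T' m = 0 := by
    have h2 : aeval T₀ m = 0 := h₀.ann
    ext e
    · have h1 := aeval_intertwine (LinearMap.fst ℤ F E) T' T₀ (fun _ => rfl) m (e, 0)
      rw [h2] at h1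
      simpa using h1
    · have h1 := aeval_intertwine (LinearMap.snd ℤ F E) T' T (fun _ => rfl) m (e, 0)
      rw [h.ann] at h1
      simpa using h1
    · have h1 := aeval_intertwine (LinearMap.fst ℤ F E) T' T₀ (fun _ => rfl) m (0, e)
      rw [h2] at h1
      simpa using h1
    · have h1 := aeval_intertwine (LinearMap.snd ℤ F E) T' T (fun _ => rfl) m (0, e)
      rw [h.ann] at h1
      simpa using h1
  have hp' : ∀ e' : F × E, p • e' = 0 := by
    intro e'
    exact Prod.ext (h₀.torsion _) (h.torsion _)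
  let π₁ : S →* P₀ := (MonoidHom.fst P₀ P).comp S.subtype
  let π₂ : S →* P := (MonoidHom.snd P₀ P).comp S.subtype
  have hπ₁ : ∀ s : S, π₁ s = (s : P₀ × P).1 := fun _ => rfl
  have hπ₂ : ∀ s : S, π₂ s = (s : P₀ × P).2 := fun _ => rfl
  let Θ : S →* Multiplicative F := ρ₀.comp π₁
  have hprodS : Pr ηS xS q = 1 := by
    have h1 : ∀ n : ℕ, ((Pr ηS xS n : S) : P₀ × P) = Pr ηh xh n := by
      intro n
      induction n with
      | zero => rfl
      | succ n ih =>
        rw [Pr, Pr, Subgroup.coe_mul, ih, hηSit]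
    apply Subtype.ext
    rw [h1]
    have h2 : xh = ((ã, a) : P₀ × P)⁻¹ * ηh (ã, a) := rfl
    rw [h2, Pr_tele, prodMap_iterate]
    show (((ã, a) : P₀ × P)⁻¹ * (η₀^[q] ã, η^[q] a)) = 1
    rw [h₀.per, h.per, inv_mul_cancel]
  have hSp : IsPGroup p S := by
    intro s
    obtain ⟨k, hk⟩ := h₀.pgrp (s : P₀ × P).1
    obtain ⟨l, hl⟩ := h.pgrp (s : P₀ × P).2
    refine ⟨k + l, ?_⟩
    apply Subtype.ext
    refine Prod.ext ?_ ?_
    · show (s : P₀ × P).1 ^ p ^ (k + l) = 1
      rw [pow_add, pow_mul, hk, one_pow]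
    · show (s : P₀ × P).2 ^ p ^ (k + l) = 1
      rw [add_comm, pow_add, pow_mul, hl, one_pow]
  have hgenS : Subgroup.closure (Set.range fun i : ℕ => ηS^[i] xS) = ⊤ := by
    rw [eq_top_iff, ← Subgroup.closure_closure_coe_preimage (k := Set.range fun i : ℕ => ηh^[i] xh)]
    apply Subgroup.closure_mono
    rintro ⟨s, hs⟩ ⟨i, hi⟩
    refine ⟨i, ?_⟩
    apply Subtype.ext
    show ((ηS^[i] xS : S) : P₀ × P) = s
    rw [hηSit]
    exact hi
  have hC : ∀ w : S, Θ w = 1 → w ∈ D := by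
    refine lemmaC hp hpq hSp ηS xS hgenS hprodS D hcomm hηC ψ T' ?_ ?_ ?_ m hT' hp' ζ Θ ?_ ?_ ?_ Hm
    · intro s
      show (toAdd (ρ₀ (η₀ (s : P₀ × P).1)), toAdd (ρ (η (s : P₀ × P).2))) = _
      rw [h₀.equi, h.equi]
      rfl
    · intro c hc
      obtain ⟨h1, h2⟩ := hC'1 c ((hDmem c).1 hc)
      show ψ c = 1
      show ofAdd (toAdd (ρ₀ (c : P₀ × P).1), toAdd (ρ (c : P₀ × P).2)) = 1
      rw [h1, h2]
      rfl
    · intro s hs
      obtain ⟨h1, h2⟩ := hψ1 s hs
      exact hfixS s h1 h2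
    · intro c hc
      exact (hC'1 c ((hDmem c).1 hc)).1
    · intro s
      show toAdd (ρ₀ (η₀ (s : P₀ × P).1)) = ζ * toAdd (ρ₀ (s : P₀ × P).1)
      rw [h₀.equi]
      rfl
    · exact hã
  -- injectivity
  have hinj1 : ∀ s : S, π₁ s = 1 → s = 1 := by
    intro s hs
    have h1 : s ∈ D := hC s (by show ρ₀ (π₁ s) = 1; rw [hs, map_one])
    obtain ⟨n, hn⟩ := (hDmem s).1 h1
    have hn1 : B₀ (ofAdd (aeval T₀ (toAdd n) xb₀)) = (s : P₀ × P).1 := congrArg Prod.fst hn
    have hn2 : B (ofAdd (aeval T (toAdd n) xb)) = (s : P₀ × P).2 := congrArg Prod.snd hn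
    obtain ⟨u, hu⟩ := h₀.surj (ofAdd (aeval T₀ (toAdd n) xb₀))
    have hu1 : ⁅x₀, u⁆ = 1 := by
      rw [← hB₀, hu, hn1]
      exact hs
    have hu2 := hW u hu1
    rw [hu, toAdd_ofAdd, hT₀, hã, mul_one] at hu2
    have hu3 := h.K x hB ζ hζ hq Hm (toAdd n) hu2
    apply Subtype.ext
    refine Prod.ext hs ?_
    rw [← hn2]
    exact hu3
  have hinj : Function.Injective π₁ := (injective_iff_map_eq_one π₁).2 hinj1
  have hsurj1 : Function.Surjective π₁ := by
    rw [← MonoidHom.range_eq_top, eq_top_iff, ← hgen₀, Subgroup.closure_le]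
    rintro _ ⟨i, rfl⟩
    have hmem : ηh^[i] xh ∈ S := Subgroup.subset_closure ⟨i, rfl⟩
    refine ⟨⟨_, hmem⟩, ?_⟩
    show (ηh^[i] xh).1 = _
    rw [prodMap_iterate]
  have hsurj2 : Function.Surjective π₂ := by
    rw [← MonoidHom.range_eq_top, eq_top_iff, ← hgen, Subgroup.closure_le]
    rintro _ ⟨i, rfl⟩
    have hmem : ηh^[i] xh ∈ S := Subgroup.subset_closure ⟨i, rfl⟩
    refine ⟨⟨_, hmem⟩, ?_⟩
    show (ηh^[i] xh).2 = _
    rw [prodMap_iterate]
  let e : S ≃* P₀ := MulEquiv.ofBijective π₁ ⟨hinj, hsurj1⟩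
  have he : ∀ s, e s = π₁ s := fun _ => rfl
  have hform : ∀ s : S, ∃ n : ℤ[X], toAdd (ρ₀ (s : P₀ × P).1) = aeval ζ n ∧ toAdd (ρ (s : P₀ × P).2) = aeval T n xb := by
    rintro ⟨s, hs⟩
    show ∃ n : ℤ[X], toAdd (ρ₀ s.1) = aeval ζ n ∧ toAdd (ρ s.2) = aeval T n xb
    induction hs using Subgroup.closure_induction with
    | mem w hw =>
      obtain ⟨i, rfl⟩ := hw
      refine ⟨X ^ i, ?_, ?_⟩
      · have h0 : (ηh^[i] xh).1 = η₀^[i] x₀ := by rw [prodMap_iterate]
        show toAdd (ρ₀ (ηh^[i] xh).1) = _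
        have h1 : toAdd (ρ₀ (η₀^[i] x₀)) = aeval T₀ (X ^ i : ℤ[X]) xb₀ := by
          rw [map_pow, aeval_X]
          exact (h₀.iter i x₀).symm
        rw [h0, h1, hT₀, hã, mul_one]
      · have h0 : (ηh^[i] xh).2 = η^[i] x := by rw [prodMap_iterate]
        show toAdd (ρ (ηh^[i] xh).2) = _
        rw [h0, map_pow, aeval_X]
        exact (h.iter i x).symm
    | one => exact ⟨0, by simp⟩
    | mul u v _ _ h1 h2 =>
      obtain ⟨n1, h1, h1'⟩ := h1
      obtain ⟨n2, h2, h2'⟩ := h2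
      refine ⟨n1 + n2, ?_, ?_⟩
      · rw [Prod.fst_mul, map_mul, toAdd_mul, h1, h2, map_add]
      · rw [Prod.snd_mul, map_mul, toAdd_mul, h1', h2', map_add, LinearMap.add_apply]
    | inv u _ h1 =>
      obtain ⟨n1, h1, h1'⟩ := h1
      refine ⟨-n1, ?_, ?_⟩
      · rw [Prod.fst_inv, map_inv, toAdd_inv, h1, map_neg]
      · rw [Prod.snd_inv, map_inv, toAdd_inv, h1', map_neg, LinearMap.neg_apply]
  refine ⟨π₂.comp e.symm.toMonoidHom, ?_, ?_, ?_⟩
  · intro v
    obtain ⟨s, rfl⟩ := hsurj2 v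
    refine ⟨e s, ?_⟩
    show π₂ (e.symm (e s)) = _
    rw [e.symm_apply_apply]
  · intro g
    show π₂ (e.symm (η₀ g)) = η (π₂ (e.symm g))
    have h1 : e (ηS (e.symm g)) = η₀ g := by
      have h2 : e (e.symm g) = g := e.apply_symm_apply g
      rw [he] at h2 ⊢
      rw [hπ₁] at h2 ⊢
      rw [hηS, hηh]
      show η₀ _ = _
      rw [h2]
    rw [← h1, e.symm_apply_apply, hπ₂, hηS, hηh]
    rfl
  · intro g hg
    have h1 : π₂ (e.symm g) = 1 := hg
    have h2 : π₁ (e.symm g) = g := e.apply_symm_apply g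
    obtain ⟨n, hn1, hn2⟩ := hform (e.symm g)
    rw [← hπ₂, h1, map_one] at hn2
    rw [← hπ₁, h2] at hn1
    have hn2' : aeval T n xb = 0 := hn2.symm
    by_contra hne
    have ht : aeval ζ n ≠ 0 := by
      rw [← hn1]
      intro h0
      exact hne h0
    obtain ⟨s', hs'⟩ := Hs (aeval ζ n)⁻¹
    have h3 : aeval ζ (s' * n - 1) = 0 := by
      rw [map_sub, map_mul, hs', inv_mul_cancel₀ ht, map_one, sub_self]
    have h4 := h.eval_zero ζ Hm h3 xb
    rw [map_sub, map_mul, map_one, LinearMap.sub_apply, Module.End.mul_apply, hn2', map_zero, Module.End.one_apply,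
      zero_sub, neg_eq_zero] at h4
    exact hx h4

end core

end Cfsg.Agent.Lib.SchmidtUni1
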