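import Mathlib
import Cfsg.Agent.Lib.SchmidtUni1

/-!
# Universal minimal non-`p`-nilpotent groups, part 2: field facts
-/

set_option autoImplicit false
set_option linter.unusedSectionVars false
set_option linter.unusedVariables false
set_option linter.style.haveILetI false

universe u v

namespace Cfsg.Agent.Lib.SchmidtUni2

open Polynomial
open Cfsg.Agent.Lib.SchmidtUni1

section W

variable {F : Type*} [Field F]

theorem mem_WW_gen (ζ : F) (k : ℕ) : ζ ^ k + ζ⁻¹ ^ k ∈ WW ζ := AddSubgroup.subset_closure ⟨k, rfl⟩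

theorem sum_pairs {s : ℕ} (f : ℕ → F) :
    ∑ k ∈ Finset.range (2 * s + 1), f k = f 0 + ∑ k ∈ Finset.range s, (f (k + 1) + f (2 * s - k)) := by
  rw [Finset.sum_range_succ', two_mul, Finset.sum_range_add, add_comm, Finset.sum_add_distrib]
  congr 1
  congr 1
  rw [← Finset.sum_range_reflect]
  apply Finset.sum_congr rfl
  intro k hk
  have hk' := Finset.mem_range.1 hk
  congr 1
  omega

theorem one_mem_WW {p q : ℕ} (hp : p.Prime) (hq : q.Prime) (hpq : p ≠ q) [CharP F p] (ζ : F) (hζ : ζ ^ q = 1)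
    (hζ1 : ζ ≠ 1) : (1 : F) ∈ WW ζ := by
  have hζ0 : ζ ≠ 0 := by
    intro h0
    rw [h0, zero_pow hq.ne_zero] at hζ
    exact zero_ne_one hζ
  rcases hq.eq_two_or_odd' with h2 | hodd
  · subst h2
    have hp2 : Odd p := hp.odd_of_ne_two hpq
    obtain ⟨c, hc⟩ := hp2
    have h1 : (2 : F) ∈ WW ζ := by
      have := mem_WW_gen ζ 0
      simp only [pow_zero] at this
      norm_num at this
      exact this
    have h2 : ((c + 1 : ℕ) • (2 : F)) ∈ WW ζ := AddSubgroup.nsmul_mem _ h1 _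
    have h3 : ((c + 1 : ℕ) • (2 : F)) = 1 := by
      have h4 : ((p : ℕ) : F) = 0 := CharP.cast_eq_zero F p
      rw [hc] at h4
      push_cast at h4
      rw [nsmul_eq_mul]
      push_cast
      linear_combination h4
    rwa [h3] at h2
  · obtain ⟨s, hs⟩ := hodd
    have hsum : ∑ k ∈ Finset.range q, ζ ^ k = 0 := by
      have := mul_neg_geom_sum ζ q
      rw [hζ, sub_self] at this
      exact (mul_eq_zero.1 this).resolve_left (sub_ne_zero.2 hζ1.symm)
    rw [hs, sum_pairs] at hsum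
    have hmem : ∑ k ∈ Finset.range s, (ζ ^ (k + 1) + ζ ^ (2 * s - k)) ∈ WW ζ := by
      refine AddSubgroup.sum_mem _ fun k hk => ?_
      have hk' := Finset.mem_range.1 hk
      have h1 : ζ ^ (2 * s - k) = ζ⁻¹ ^ (k + 1) := by
        rw [inv_pow]
        apply eq_inv_of_mul_eq_one_left
        rw [← pow_add]
        have : 2 * s - k + (k + 1) = q := by omega
        rw [this, hζ]
      rw [h1]
      exact mem_WW_gen ζ (k + 1)
    have h2 : (1 : F) = - ∑ k ∈ Finset.range s, (ζ ^ (k + 1) + ζ ^ (2 * s - k)) := by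
      rw [pow_zero] at hsum
      linear_combination hsum
    rw [h2]
    exact AddSubgroup.neg_mem _ hmem

theorem theta_mul_mem {ζ : F} (hζ0 : ζ ≠ 0) {t : F} (ht : t ∈ WW ζ) : (ζ + ζ⁻¹) * t ∈ WW ζ := by
  induction ht using AddSubgroup.closure_induction with
  | mem t ht =>
    obtain ⟨k, rfl⟩ := ht
    cases k with
    | zero =>
      have h1 := mem_WW_gen ζ 1
      simp only [pow_one] at h1
      have h2 : (ζ + ζ⁻¹) * (ζ ^ 0 + ζ⁻¹ ^ 0) = (ζ + ζ⁻¹) + (ζ + ζ⁻¹) := by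
        simp only [pow_zero]
        ring
      show (ζ + ζ⁻¹) * (ζ ^ 0 + ζ⁻¹ ^ 0) ∈ WW ζ
      rw [h2]
      exact AddSubgroup.add_mem _ h1 h1
    | succ k =>
      have h1 := mem_WW_gen ζ (k + 2)
      have h2 := mem_WW_gen ζ k
      have h3 : (ζ + ζ⁻¹) * (ζ ^ (k + 1) + ζ⁻¹ ^ (k + 1)) = (ζ ^ (k + 2) + ζ⁻¹ ^ (k + 2)) + (ζ ^ k + ζ⁻¹ ^ k) := by
        have h4 : ζ * ζ⁻¹ = 1 := mul_inv_cancel₀ hζ0
        have h5 : ζ * ζ⁻¹ ^ (k + 1) = ζ⁻¹ ^ k := by
          rw [pow_succ', ← mul_assoc, h4, one_mul]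
        have h6 : ζ⁻¹ * ζ ^ (k + 1) = ζ ^ k := by
          rw [pow_succ', ← mul_assoc, mul_comm ζ⁻¹, h4, one_mul]
        calc (ζ + ζ⁻¹) * (ζ ^ (k + 1) + ζ⁻¹ ^ (k + 1))
            = ζ * ζ ^ (k + 1) + ζ * ζ⁻¹ ^ (k + 1) + ζ⁻¹ * ζ ^ (k + 1) + ζ⁻¹ * ζ⁻¹ ^ (k + 1) := by ring
          _ = _ := by
            rw [h5, h6]
            ring
      show (ζ + ζ⁻¹) * (ζ ^ (k + 1) + ζ⁻¹ ^ (k + 1)) ∈ WW ζ
      rw [h3]
      exact AddSubgroup.add_mem _ h1 h2
  | zero => simp only [mul_zero]; exact AddSubgroup.zero_mem _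
  | add a b _ _ h1 h2 => rw [mul_add]; exact AddSubgroup.add_mem _ h1 h2
  | neg a _ h1 => rw [mul_neg]; exact AddSubgroup.neg_mem _ h1

theorem aeval_theta_mem {ζ : F} (hζ0 : ζ ≠ 0) (h1 : (1 : F) ∈ WW ζ) (n : ℤ[X]) :
    aeval (ζ + ζ⁻¹) n ∈ WW ζ := by
  have hpow : ∀ k : ℕ, (ζ + ζ⁻¹) ^ k ∈ WW ζ := by
    intro k
    induction k with
    | zero => simpa using h1
    | succ k ih =>
      rw [pow_succ']
      exact theta_mul_mem hζ0 ih
  induction n using Polynomial.induction_on' with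
  | add a b ha hb => rw [map_add]; exact AddSubgroup.add_mem _ ha hb
  | monomial k c =>
    rw [← C_mul_X_pow_eq_monomial]
    simp only [map_mul, aeval_C, map_pow, aeval_X]
    rw [eq_intCast, ← zsmul_eq_mul]
    exact AddSubgroup.zsmul_mem _ (hpow k) c

theorem decomp {ζ : F} (hζ0 : ζ ≠ 0) (n : ℤ[X]) :
    ∃ α β : ℤ[X], aeval ζ n = aeval (ζ + ζ⁻¹) α + aeval (ζ + ζ⁻¹) β * ζ := by
  have hsq : ζ * ζ = (ζ + ζ⁻¹) * ζ - 1 := by
    have h4 : ζ⁻¹ * ζ = 1 := inv_mul_cancel₀ hζ0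
    rw [add_mul, h4]
    ring
  induction n using Polynomial.induction_on with
  | C c => exact ⟨C c, 0, by simp⟩
  | add a b ha hb =>
    obtain ⟨α, β, h⟩ := ha
    obtain ⟨α', β', h'⟩ := hb
    refine ⟨α + α', β + β', ?_⟩
    rw [map_add, h, h', map_add, map_add]
    ring
  | monomial k c ih =>
    obtain ⟨α, β, h⟩ := ih
    refine ⟨-β, α + β * X, ?_⟩
    have e : (C c * X ^ (k + 1) : ℤ[X]) = (C c * X ^ k) * X := by ring
    rw [e, map_mul, h, aeval_X]
    simp only [map_add, map_mul, map_neg, aeval_X]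
    calc (aeval (ζ + ζ⁻¹) α + aeval (ζ + ζ⁻¹) β * ζ) * ζ
        = aeval (ζ + ζ⁻¹) α * ζ + aeval (ζ + ζ⁻¹) β * (ζ * ζ) := by ring
      _ = _ := by
        rw [hsq]
        ring

/-- The subfield generated by `θ = ζ + ζ⁻¹`. -/
theorem inv_mem_range {ζ : F} [Finite F] (n : ℤ[X]) : ∃ n' : ℤ[X], aeval ζ n' = (aeval ζ n)⁻¹ := by
  by_cases h0 : aeval ζ n = 0
  · exact ⟨0, by simp [h0]⟩
  haveI : Fintype F := Fintype.ofFinite F
  refine ⟨n ^ (Fintype.card F - 2), ?_⟩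
  rw [map_pow]
  apply eq_inv_of_mul_eq_one_left
  rw [← pow_succ]
  have h1 : 1 < Fintype.card F := Fintype.one_lt_card
  have h2 : Fintype.card F - 2 + 1 = Fintype.card F - 1 := by omega
  rw [h2]
  exact FiniteField.pow_card_sub_one_eq_one _ h0

/-- If `a` is odd then `W` is everything. -/
theorem mem_WW_of_odd {p a : ℕ} (hp : p.Prime) [Finite F] (hcard : Nat.card F = p ^ a) (ha : a % 2 = 1) {ζ : F}
    (hζ0 : ζ ≠ 0) (h1 : (1 : F) ∈ WW ζ) (Hs : ∀ t : F, ∃ n : ℤ[X], aeval ζ n = t) (t : F) : t ∈ WW ζ := by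
  set θ := ζ + ζ⁻¹ with hθ
  let L : Subalgebra ℤ F := (aeval θ : ℤ[X] →ₐ[ℤ] F).range
  have hLmem : ∀ u : F, u ∈ L ↔ ∃ n : ℤ[X], aeval θ n = u := fun u => Iff.rfl
  have hLW : ∀ u ∈ L, u ∈ WW ζ := by
    rintro _ ⟨n, rfl⟩
    exact aeval_theta_mem hζ0 h1 n
  have hdec : ∀ u : F, ∃ α ∈ L, ∃ β ∈ L, u = α + β * ζ := by
    intro u
    obtain ⟨n, rfl⟩ := Hs u
    obtain ⟨α, β, h⟩ := decomp hζ0 n
    exact ⟨_, ⟨α, rfl⟩, _, ⟨β, rfl⟩, h⟩
  have hinv : ∀ u ∈ L, u⁻¹ ∈ L := by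
    rintro _ ⟨n, rfl⟩
    obtain ⟨n', hn'⟩ := inv_mem_range (ζ := θ) n
    exact ⟨n', hn'⟩
  have hζL : ζ ∈ L := by
    by_contra hnot
    have hinj : Function.Injective (fun w : L × L => ((w.1 : F) + (w.2 : F) * ζ)) := by
      rintro ⟨a1, b1⟩ ⟨a2, b2⟩ he
      have he' : (a1 : F) + (b1 : F) * ζ = (a2 : F) + (b2 : F) * ζ := he
      by_cases hb : (b1 : F) = b2
      · have ha' : (a1 : F) = a2 := by
          rw [hb] at he'
          exact add_right_cancel he'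
        exact Prod.ext (Subtype.ext ha') (Subtype.ext hb)
      · exfalso
        apply hnot
        have hne : (b1 : F) - b2 ≠ 0 := sub_ne_zero.2 hb
        have h2 : ζ = ((a2 : F) - a1) * ((b1 : F) - b2)⁻¹ := by
          field_simp
          linear_combination he'
        rw [h2]
        refine L.mul_mem (L.sub_mem a2.2 a1.2) (hinv _ (L.sub_mem b1.2 b2.2))
    have hsurj : Function.Surjective (fun w : L × L => ((w.1 : F) + (w.2 : F) * ζ)) := by
      intro u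
      obtain ⟨α, hα, β, hβ, rfl⟩ := hdec u
      exact ⟨(⟨α, hα⟩, ⟨β, hβ⟩), rfl⟩
    have hc := Nat.card_congr (Equiv.ofBijective _ ⟨hinj, hsurj⟩)
    rw [Nat.card_prod, hcard] at hc
    -- `|L|` is a power of `p`
    have hd : Nat.card L ∣ p ^ a := ⟨Nat.card L, hc.symm⟩
    obtain ⟨b, _, hb⟩ := (Nat.dvd_prime_pow hp).1 hd
    rw [hb, ← pow_add] at hc
    have := Nat.pow_right_injective hp.two_le hc
    omega
  obtain ⟨α, hα, β, hβ, rfl⟩ := hdec t
  exact hLW _ (L.add_mem hα (L.mul_mem hβ hζL))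

/-- Fixed elements of the involution lie in `W`. -/
theorem mem_WW_of_fixed {ζ : F} (hζ0 : ζ ≠ 0) (hζ2 : ζ ^ 2 ≠ 1) (h1 : (1 : F) ∈ WW ζ)
    (Hs : ∀ t : F, ∃ n : ℤ[X], aeval ζ n = t) (τ : F →+* F) (hτ : τ ζ = ζ⁻¹) {t : F} (ht : τ t = t) : t ∈ WW ζ := by
  have hτθ : τ (ζ + ζ⁻¹) = ζ + ζ⁻¹ := by
    rw [map_add, map_inv₀, hτ, inv_inv, add_comm]
  have hτa : ∀ n : ℤ[X], τ (aeval (ζ + ζ⁻¹) n) = aeval (ζ + ζ⁻¹) n := by
    intro n
    have h2 := Polynomial.aeval_algHom_apply (τ.toIntAlgHom) (ζ + ζ⁻¹) n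
    have h3 : τ.toIntAlgHom (ζ + ζ⁻¹) = ζ + ζ⁻¹ := hτθ
    rw [h3] at h2
    exact h2.symm
  obtain ⟨n, rfl⟩ := Hs t
  obtain ⟨α, β, h⟩ := decomp hζ0 n
  rw [h] at ht ⊢
  rw [map_add, map_mul, hτa, hτa, hτ] at ht
  have h2 : aeval (ζ + ζ⁻¹) β * (ζ⁻¹ - ζ) = 0 := by
    linear_combination ht
  have h3 : ζ⁻¹ - ζ ≠ 0 := by
    intro h4
    apply hζ2
    have h5 : ζ⁻¹ = ζ := sub_eq_zero.1 h4
    rw [pow_two]
    nth_rewrite 1 [← h5]
    exact inv_mul_cancel₀ hζ0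
  have h4 : aeval (ζ + ζ⁻¹) β = 0 := (mul_eq_zero.1 h2).resolve_right h3
  rw [h4, zero_mul, add_zero]
  exact aeval_theta_mem hζ0 h1 α

end W

section exist

variable {p q a : ℕ} [hp : Fact p.Prime] {F : Type*} [Field F] [Algebra (ZMod p) F] [Finite F]

theorem aeval_map_cast {ζ : F} (n : ℤ[X]) : aeval ζ (n.map (Int.castRingHom (ZMod p))) = aeval ζ n := by
  have h : Int.castRingHom (ZMod p) = algebraMap ℤ (ZMod p) := (algebraMap_int_eq _).symm
  rw [h, aeval_map_algebraMap]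

theorem exists_lift_poly (g : (ZMod p)[X]) : ∃ n : ℤ[X], n.map (Int.castRingHom (ZMod p)) = g :=
  Polynomial.map_surjective _ ZMod.intCast_surjective g

theorem exists_zeta (hq : q.Prime) (hpq : p ≠ q) (ha : a = orderOf (p : ZMod q)) (hcard : Nat.card F = p ^ a) :
    ∃ ζ : F, IsPrimitiveRoot ζ q ∧ ∀ t : F, ∃ n : ℤ[X], aeval ζ n = t := by
  classical
  haveI : Fact q.Prime := ⟨hq⟩
  haveI : Fintype F := Fintype.ofFinite F
  have hpp := hp.out
  have hpow : ((p : ZMod q)) ^ a = 1 := by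
    rw [ha]
    exact pow_orderOf_eq_one _
  have hdvd : ∀ b : ℕ, (p : ZMod q) ^ b = 1 → q ∣ p ^ b - 1 := by
    intro b hb
    rw [← ZMod.natCast_eq_zero_iff, Nat.cast_sub (Nat.one_le_pow _ _ hpp.pos)]
    push_cast
    rw [hb, sub_self]
  have hq1 : q ∣ Fintype.card Fˣ := by
    rw [Fintype.card_units, ← Nat.card_eq_fintype_card, hcard]
    exact hdvd a hpow
  obtain ⟨u, hu⟩ := exists_prime_orderOf_dvd_card q hq1
  have hprim : IsPrimitiveRoot (u : F) q := by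
    rw [← hu, ← orderOf_units]
    exact IsPrimitiveRoot.orderOf _
  refine ⟨(u : F), hprim, ?_⟩
  set ζ : F := (u : F) with hζ
  let K : IntermediateField (ZMod p) F := IntermediateField.adjoin (ZMod p) {ζ}
  have hζK : ζ ∈ K := IntermediateField.mem_adjoin_simple_self _ _
  haveI : Finite K := inferInstance
  have hcK : Nat.card K = p ^ Module.finrank (ZMod p) K := by
    have h := Module.natCard_eq_pow_finrank (K := ZMod p) (V := K)
    rwa [Nat.card_zmod] at h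
  set b := Module.finrank (ZMod p) K with hb
  -- `q` divides `|K| - 1`
  let ζK : K := ⟨ζ, hζK⟩
  have hζK1 : ζK ^ q = 1 := Subtype.ext hprim.pow_eq_one
  have hζK2 : ζK ≠ 1 := by
    intro h0
    have h1 : ζ = 1 := congrArg Subtype.val h0
    exact hprim.ne_one hq.one_lt h1
  have hpb : (p : ZMod q) ^ b = 1 := by
    have h1 : ζK ^ (Nat.card K - 1) = 1 := by
      haveI : Fintype K := Fintype.ofFinite K
      rw [Nat.card_eq_fintype_card]
      exact FiniteField.pow_card_sub_one_eq_one _ (fun h0 => by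
        rw [h0, zero_pow hq.ne_zero] at hζK1
        exact zero_ne_one hζK1)
    have h2 : orderOf ζK = q := orderOf_eq_prime hζK1 hζK2
    have h3 : q ∣ Nat.card K - 1 := by
      rw [← h2]
      exact orderOf_dvd_of_pow_eq_one h1
    rw [hcK] at h3
    have h4 := (ZMod.natCast_eq_zero_iff _ _).2 h3
    rw [Nat.cast_sub (Nat.one_le_pow _ _ hpp.pos)] at h4
    push_cast at h4
    exact sub_eq_zero.1 h4
  have hab : a ∣ b := by
    rw [ha]
    exact orderOf_dvd_of_pow_eq_one hpb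
  have hb0 : b ≠ 0 := by
    intro h0
    rw [h0, pow_zero] at hcK
    have h1 : Nat.card K ≠ 1 := by
      have : 1 < Nat.card K := Finite.one_lt_card
      omega
    exact h1 hcK
  have hle : a ≤ b := Nat.le_of_dvd (Nat.pos_of_ne_zero hb0) hab
  have hKle : Nat.card K ≤ Nat.card F := Nat.card_le_card_of_injective _ Subtype.val_injective
  have hba : b ≤ a := by
    rw [hcK, hcard] at hKle
    exact (Nat.pow_le_pow_iff_right hpp.one_lt).1 hKle
  have hcardeq : Nat.card F ≤ Nat.card K := by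
    rw [hcK, hcard, le_antisymm hle hba]
  have hbij : Function.Surjective (Subtype.val : K → F) :=
    (Function.Injective.bijective_of_nat_card_le Subtype.val_injective hcardeq).2
  intro t
  obtain ⟨⟨t', ht'⟩, rfl⟩ := hbij t
  have h1 : t' ∈ K.toSubalgebra := ht'
  rw [IntermediateField.adjoin_simple_toSubalgebra_of_isAlgebraic (Algebra.IsIntegral.isIntegral ζ).isAlgebraic,
    Algebra.adjoin_singleton_eq_range_aeval] at h1
  obtain ⟨g, rfl⟩ := h1
  obtain ⟨n, rfl⟩ := exists_lift_poly g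
  exact ⟨n, (aeval_map_cast n).symm⟩

theorem exists_m (ζ : F) : ∃ m : ℤ[X], m.map (Int.castRingHom (ZMod p)) = minpoly (ZMod p) ζ ∧
    ∀ n : ℤ[X], aeval ζ n = 0 → ∃ g h : ℤ[X], n = m * g + C (p : ℤ) * h := by
  obtain ⟨m, hm⟩ := exists_lift_poly (minpoly (ZMod p) ζ)
  refine ⟨m, hm, fun n hn => ?_⟩
  have h1 : aeval ζ (n.map (Int.castRingHom (ZMod p))) = 0 := by
    rw [aeval_map_cast, hn]
  obtain ⟨g₀, hg₀⟩ := minpoly.dvd (ZMod p) ζ h1
  obtain ⟨g, rfl⟩ := exists_lift_poly g₀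
  refine ⟨g, ?_⟩
  have h2 : (n - m * g).map (Int.castRingHom (ZMod p)) = 0 := by
    rw [Polynomial.map_sub, Polynomial.map_mul, hm, hg₀, sub_self]
  have h3 : C (p : ℤ) ∣ n - m * g := by
    rw [Polynomial.C_dvd_iff_dvd_coeff]
    intro i
    have h4 := congrArg (fun f => Polynomial.coeff f i) h2
    simp only [coeff_map, coeff_zero, eq_intCast] at h4
    exact (ZMod.intCast_zmod_eq_zero_iff_dvd _ _).1 h4
  obtain ⟨h, hh⟩ := h3
  exact ⟨h, by rw [← hh]; ring⟩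

end exist

end Cfsg.Agent.Lib.SchmidtUni2
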