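import Mathlib
import Cfsg.Agent.Lib.SchmidtUni2

/-!
# Universal minimal non-`p`-nilpotent groups, part 3: the `p`-group side
-/

set_option autoImplicit false
set_option linter.unusedSectionVars false
set_option linter.unusedVariables false
set_option linter.style.haveILetI false

universe u v

namespace Cfsg.Agent.Lib.SchmidtUni3

open Polynomial
open scoped commutatorElement
open Multiplicative (toAdd ofAdd)
open Cfsg.Agent.Lib.SchmidtUni1 Cfsg.Agent.Lib.SchmidtUni2 Cfsg.Agent.Lib.SchmidtP Cfsg.Agent.Lib.FrattAct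

section linear

variable {p q : ℕ} [hp : Fact p.Prime] {E : Type*} [AddCommGroup E] [Finite E] [Module (ZMod p) E]

theorem exists_k (hq : q.Prime) (T : Module.End ℤ E) (hTq : ∀ e, (T ^ q) e = e)
    (hirr : ∀ E' : AddSubgroup E, (∀ e ∈ E', T e ∈ E') → E' = ⊥ ∨ E' = ⊤) (hfix : ∀ e, T e = e → e = 0)
    [Nontrivial E] {F : Type*} [Field F] [Algebra (ZMod p) F] {ζ : F} (hζ : IsPrimitiveRoot ζ q) {m : ℤ[X]}
    (hm : m.map (Int.castRingHom (ZMod p)) = minpoly (ZMod p) ζ) :
    ∃ k : ℕ, k.Coprime q ∧ aeval (T ^ k) m = 0 := by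
  classical
  let TZ : Module.End (ZMod p) E := AddMonoidHom.toZModLinearMap p T.toAddMonoidHom
  have hTZ : ∀ e, TZ e = T e := fun _ => rfl
  have hTZpow : ∀ (k : ℕ) (e : E), (TZ ^ k) e = (T ^ k) e := by
    intro k e
    induction k generalizing e with
    | zero => rfl
    | succ k ih => rw [pow_succ, pow_succ, Module.End.mul_apply, Module.End.mul_apply, ih, hTZ]
  have hcompat : ∀ (S : Module.End ℤ E) (SZ : Module.End (ZMod p) E), (∀ e, SZ e = S e) → ∀ (n : ℤ[X]) (e : E),
      aeval S n e = aeval SZ (n.map (Int.castRingHom (ZMod p))) e := by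
    intro S SZ hS n e
    induction n using Polynomial.induction_on' with
    | add a b ha hb => simp only [map_add, Polynomial.map_add, LinearMap.add_apply, ha, hb]
    | monomial k c =>
      rw [← C_mul_X_pow_eq_monomial]
      simp only [map_mul, aeval_C, map_pow, aeval_X, Module.End.mul_apply, Module.algebraMap_end_apply,
        Polynomial.map_mul, Polynomial.map_C, Polynomial.map_pow, Polynomial.map_X]
      have h1 : (SZ ^ k) e = (S ^ k) e := by
        induction k generalizing e with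
        | zero => rfl
        | succ k ih => rw [pow_succ, pow_succ, Module.End.mul_apply, Module.End.mul_apply, ih, hS]
      rw [h1, eq_intCast, Int.cast_smul_eq_zsmul]
  have hq0 : q ≠ 0 := hq.ne_zero
  have hTZq : aeval TZ (X ^ q - 1 : (ZMod p)[X]) = 0 := by
    ext e
    simp only [map_sub, map_pow, aeval_X, map_one, LinearMap.sub_apply, Module.End.one_apply, LinearMap.zero_apply]
    rw [hTZpow, hTq, sub_self]
  have hint : IsIntegral (ZMod p) TZ := by
    refine ⟨X ^ q - 1, ?_, ?_⟩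
    · have := monic_X_pow_sub_C (1 : ZMod p) hq0
      simpa using this
    · exact hTZq
  set g₀ := minpoly (ZMod p) TZ with hg₀
  have hg₀m : g₀.Monic := minpoly.monic hint
  have hg₀0 : aeval TZ g₀ = 0 := minpoly.aeval _ _
  have hg₀d : ∀ f : (ZMod p)[X], aeval TZ f = 0 → g₀ ∣ f := fun f hf => minpoly.dvd _ _ hf
  have hcomm : ∀ (f : (ZMod p)[X]) (e : E), T (aeval TZ f e) = aeval TZ f (T e) := by
    intro f e
    have h1 : TZ * aeval TZ f = aeval TZ f * TZ := by
      have h2 : TZ = aeval TZ (X : (ZMod p)[X]) := by rw [aeval_X]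
      have h3 : aeval TZ (X : (ZMod p)[X]) * aeval TZ f = aeval TZ f * aeval TZ (X : (ZMod p)[X]) := by
        rw [← map_mul, ← map_mul, mul_comm]
      rwa [aeval_X] at h3
    exact congrArg (fun S : Module.End (ZMod p) E => S e) h1
  have hirred : Irreducible g₀ := by
    refine ⟨minpoly.not_isUnit (ZMod p) TZ, ?_⟩
    intro g₁ g₂ hfac
    have hg₀ne : g₀ ≠ 0 := hg₀m.ne_zero
    let R : AddSubgroup E :=
      { carrier := {e | ∃ e', aeval TZ g₂ e' = e}
        zero_mem' := ⟨0, map_zero _⟩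
        add_mem' := by
          rintro _ _ ⟨a, rfl⟩ ⟨b, rfl⟩
          exact ⟨a + b, map_add _ _ _⟩
        neg_mem' := by
          rintro _ ⟨a, rfl⟩
          exact ⟨-a, map_neg _ _⟩ }
    rcases hirr R (by
      rintro _ ⟨a, rfl⟩
      exact ⟨T a, (hcomm _ _).symm⟩) with h | h
    · -- `g₂` annihilates
      left
      have h0 : aeval TZ g₂ = 0 := by
        ext e
        have h1 : aeval TZ g₂ e ∈ R := ⟨e, rfl⟩
        rw [h] at h1
        exact h1
      obtain ⟨c, hc⟩ := hg₀d _ h0
      have h1 : g₀ * (g₁ * c) = g₀ * 1 := by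
        rw [mul_one]
        calc g₀ * (g₁ * c) = g₁ * (g₀ * c) := by ring
          _ = g₁ * g₂ := by rw [hc]
          _ = g₀ := hfac.symm
      have h2 : g₁ * c = 1 := mul_left_cancel₀ hg₀ne h1
      exact IsUnit.of_mul_eq_one _ h2
    · right
      have h0 : aeval TZ g₁ = 0 := by
        ext e
        have h1 : e ∈ R := by rw [h]; trivial
        obtain ⟨e', rfl⟩ := h1
        rw [← Module.End.mul_apply, ← map_mul, ← hfac, hg₀0]
        rfl
      obtain ⟨c, hc⟩ := hg₀d _ h0
      have h1 : g₀ * (g₂ * c) = g₀ * 1 := by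
        rw [mul_one]
        calc g₀ * (g₂ * c) = g₂ * (g₀ * c) := by ring
          _ = g₂ * g₁ := by rw [hc]
          _ = g₀ := by rw [hfac, mul_comm]
      have h2 : g₂ * c = 1 := mul_left_cancel₀ hg₀ne h1
      exact IsUnit.of_mul_eq_one _ h2
  -- a root in `F`
  have hg₀dq : g₀ ∣ X ^ q - 1 := hg₀d _ hTZq
  have hsplit : (g₀.map (algebraMap (ZMod p) F)).Splits := by
    have h1 := X_pow_sub_one_splits hζ
    refine h1.of_dvd (X_pow_sub_C_ne_zero hq.pos 1) ?_
    have h2 := Polynomial.map_dvd (algebraMap (ZMod p) F) hg₀dq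
    simpa using h2
  have hdeg : (g₀.map (algebraMap (ZMod p) F)).degree ≠ 0 := by
    rw [degree_map]
    exact (degree_pos_of_irreducible hirred).ne'
  obtain ⟨ρ₁, hρ₁⟩ := hsplit.exists_eval_eq_zero hdeg
  have hρa : aeval ρ₁ g₀ = 0 := by
    rw [aeval_def, ← eval_map]
    exact hρ₁
  have hρq : ρ₁ ^ q = 1 := by
    obtain ⟨c, hc⟩ := hg₀dq
    have h1 := congrArg (aeval ρ₁) hc
    rw [map_mul, hρa, zero_mul] at h1
    simp only [map_sub, map_pow, aeval_X, map_one] at h1
    exact sub_eq_zero.1 h1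
  haveI : NeZero q := ⟨hq0⟩
  obtain ⟨k, hk, rfl⟩ := hζ.eq_pow_of_pow_eq_one hρq
  have hmin : g₀ = minpoly (ZMod p) (ζ ^ k) := minpoly.eq_of_irreducible_of_monic hirred hρa hg₀m
  have hkey : ∀ f : (ZMod p)[X], aeval (ζ ^ k) f = 0 → aeval TZ f = 0 := by
    intro f hf
    have h1 : g₀ ∣ f := by
      rw [hmin]
      exact minpoly.dvd _ _ hf
    obtain ⟨c, rfl⟩ := h1
    rw [map_mul, hg₀0, zero_mul]
  rcases Nat.eq_zero_or_pos k with rfl | hkpos
  · exfalso
    have h1 : aeval TZ (X - 1 : (ZMod p)[X]) = 0 := hkey _ (by simp)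
    have h2 : ∀ e, T e = e := by
      intro e
      have h3 := congrArg (fun S : Module.End (ZMod p) E => S e) h1
      simp only [map_sub, aeval_X, map_one, LinearMap.sub_apply, Module.End.one_apply, LinearMap.zero_apply] at h3
      exact sub_eq_zero.1 h3
    obtain ⟨e, he⟩ := exists_ne (0 : E)
    exact he (hfix e (h2 e))
  · have hcop : Nat.Coprime k q := by
      rw [Nat.coprime_comm]
      exact (Nat.Prime.coprime_iff_not_dvd hq).2 (fun hd => by
        have := Nat.le_of_dvd hkpos hd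
        omega)
    obtain ⟨k', -, hk'⟩ := Nat.exists_mul_mod_eq_one_of_coprime hcop hq.one_lt
    have hk'c : Nat.Coprime k' q := by
      rw [Nat.coprime_comm]
      refine (Nat.Prime.coprime_iff_not_dvd hq).2 (fun hd => ?_)
      have h1 : q ∣ k * k' := hd.mul_left k
      rw [Nat.mod_eq_zero_of_dvd h1] at hk'
      exact zero_ne_one hk'
    refine ⟨k', hk'c, ?_⟩
    have hζk : (ζ ^ k) ^ k' = ζ := by
      rw [← pow_mul, pow_eq_pow_mod (k * k') hζ.pow_eq_one, hk', pow_one]
    have h1 : aeval TZ ((minpoly (ZMod p) ζ).comp (X ^ k')) = 0 := by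
      apply hkey
      rw [aeval_comp, map_pow, aeval_X, hζk, minpoly.aeval]
    rw [aeval_comp, map_pow, aeval_X] at h1
    ext e
    rw [hcompat (T ^ k') (TZ ^ k') (hTZpow k') m e, hm, h1]
    rfl

end linear

section data

variable {P : Type v} [Group P] [Finite P] {p q : ℕ} [hp : Fact p.Prime] {τ : MulAut P}

theorem fixed_mem_commutator (h : Data p q τ) {a : P} (ha : τ a = a) : a ∈ commutator P := by
  classical
  let Nf : P →* Abelianization P :=
    { toFun := fun u => ∏ i ∈ Finset.range q, Abelianization.of ((τ ^ i) u)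
      map_one' := by simp
      map_mul' := by
        intro x y
        simp only [map_mul]
        exact Finset.prod_mul_distrib }
  have hNf : ∀ u, Nf u = ∏ i ∈ Finset.range q, Abelianization.of ((τ ^ i) u) := fun _ => rfl
  have hgen : Subgroup.closure {c : P | ∃ u, c = u⁻¹ * τ u} ≤ Nf.ker := by
    rw [Subgroup.closure_le]
    rintro _ ⟨u, rfl⟩
    show Nf _ = 1
    have h1 : ∀ i, Abelianization.of ((τ ^ i) (u⁻¹ * τ u)) =
        Abelianization.of ((τ ^ (i + 1)) u) / Abelianization.of ((τ ^ i) u) := by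
      intro i
      rw [map_mul, map_inv, map_mul, map_inv, pow_succ, MulAut.mul_apply, div_eq_mul_inv, mul_comm]
    rw [hNf, Finset.prod_congr rfl (fun i _ => h1 i), Finset.prod_range_div (fun i => Abelianization.of ((τ ^ i) u)), h.pow]
    simp
  rw [h.gen_top] at hgen
  have h1 : Nf a = 1 := hgen (Subgroup.mem_top a)
  rw [hNf] at h1
  have h2 : ∀ i : ℕ, (τ ^ i) a = a := by
    intro i
    induction i with
    | zero => simp
    | succ i ih => rw [pow_succ', MulAut.mul_apply, ih, ha]
  have h3 : ∏ i ∈ Finset.range q, Abelianization.of ((τ ^ i) a) = Abelianization.of a ^ q := by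
    simp only [h2]
    simp
  rw [h3] at h1
  obtain ⟨k, hk⟩ := (IsPGroup.iff_orderOf).1 h.hP a
  have h4 : Abelianization.of a ^ p ^ k = 1 := by
    rw [← map_pow, ← hk, pow_orderOf_eq_one, map_one]
  have h5 : orderOf (Abelianization.of a) = 1 :=
    Nat.eq_one_of_dvd_coprimes (Nat.Coprime.pow_right k h.coprime_q) (orderOf_dvd_of_pow_eq_one h1)
      (orderOf_dvd_of_pow_eq_one h4)
  have h6 : Abelianization.of a = 1 := orderOf_eq_one_iff.1 h5
  have h7 : a ∈ (Abelianization.of (G := P)).ker := h6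
  rwa [Abelianization.ker_of] at h7

theorem eq_of_fixed_comm (h : Data p q τ) (a : P) (hx : τ (a⁻¹ * τ a) = a⁻¹ * τ a) : τ a = a := by
  have hk : ∀ k : ℕ, (τ ^ k) a = a * (a⁻¹ * τ a) ^ k := by
    intro k
    induction k with
    | zero => simp
    | succ k ih =>
      rw [pow_succ', MulAut.mul_apply, ih, map_mul, map_pow, hx, pow_succ', ← mul_assoc a, mul_inv_cancel_left]
  have h1 := hk q
  rw [h.pow] at h1
  have h2 : (a⁻¹ * τ a) ^ q = 1 := by
    have h3 : a = a * (a⁻¹ * τ a) ^ q := h1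
    exact (mul_eq_left.1 h3.symm)
  have h3 := h.eq_one_of_pow h.coprime_q h2
  have e : τ a = a * (a⁻¹ * τ a) := by group
  rw [e, h3, mul_one]

theorem data_pow (h : Data p q τ) {k : ℕ} (hk : k.Coprime q) : Data p q (τ ^ k) := by
  obtain ⟨k', -, hk'⟩ := Nat.exists_mul_mod_eq_one_of_coprime hk h.hq.one_lt
  refine ⟨h.hP, h.hq, h.hqp, ?_, ?_, ?_⟩
  · rw [← pow_mul, mul_comm, pow_mul, h.pow, one_pow]
  · intro h0
    apply h.ne
    have h1 : orderOf τ ∣ k := orderOf_dvd_of_pow_eq_one h0
    have h2 : orderOf τ ∣ q := orderOf_dvd_of_pow_eq_one h.pow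
    have h3 : orderOf τ = 1 := Nat.eq_one_of_dvd_coprimes hk h1 h2
    exact orderOf_eq_one_iff.1 h3
  · intro D hD hinv u hu
    have hinv' : ∀ (n : ℕ), ∀ u ∈ D, ((τ ^ k) ^ n) u ∈ D := by
      intro n
      induction n with
      | zero => intro u hu; simpa using hu
      | succ n ih =>
        intro u hu
        rw [pow_succ', MulAut.mul_apply]
        exact hinv _ (ih u hu)
    have hτ : τ = (τ ^ k) ^ k' := by
      rw [← pow_mul, pow_eq_pow_mod (k * k') h.pow, hk', pow_one]
    have hinv2 : ∀ u ∈ D, τ u ∈ D := by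
      intro u hu
      have := hinv' k' u hu
      rwa [← hτ] at this
    have hfix := h.star D hD hinv2
    have hit : ∀ n : ℕ, (τ ^ n) u = u := by
      intro n
      induction n with
      | zero => simp
      | succ n ih => rw [pow_succ', MulAut.mul_apply, ih, hfix u hu]
    exact hit k

theorem iterate_toMonoidHom (σ : MulAut P) (i : ℕ) (a : P) : (⇑σ.toMonoidHom)^[i] a = (σ ^ i) a := by
  induction i with
  | zero => rfl
  | succ i ih =>
    rw [Function.iterate_succ_apply', ih, pow_succ']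
    rfl

theorem closure_top (h : Data p q τ) {a : P} (ha : τ a ≠ a) :
    Subgroup.closure (Set.range fun i : ℕ => (⇑τ.toMonoidHom)^[i] (a⁻¹ * τ.toMonoidHom a)) = ⊤ := by
  by_contra hne
  have hinv : ∀ u ∈ Subgroup.closure (Set.range fun i : ℕ => (⇑τ.toMonoidHom)^[i] (a⁻¹ * τ.toMonoidHom a)),
      τ u ∈ Subgroup.closure (Set.range fun i : ℕ => (⇑τ.toMonoidHom)^[i] (a⁻¹ * τ.toMonoidHom a)) := by
    have hle : Subgroup.closure (Set.range fun i : ℕ => (⇑τ.toMonoidHom)^[i] (a⁻¹ * τ.toMonoidHom a)) ≤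
        (Subgroup.closure (Set.range fun i : ℕ => (⇑τ.toMonoidHom)^[i] (a⁻¹ * τ.toMonoidHom a))).comap τ.toMonoidHom := by
      rw [Subgroup.closure_le]
      rintro _ ⟨i, rfl⟩
      refine Subgroup.subset_closure ⟨i + 1, ?_⟩
      exact Function.iterate_succ_apply' _ _ _
    exact fun x hx => hle hx
  have hfix := h.star _ hne hinv
  have hx : τ (a⁻¹ * τ a) = a⁻¹ * τ a := hfix _ (Subgroup.subset_closure ⟨0, rfl⟩)
  exact ha (eq_of_fixed_comm h a hx)

/-- The side structure on a `p`-group with automorphism data. -/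
theorem side_of_data (h : Data p q τ) {F : Type*} [Field F] [Algebra (ZMod p) F] {ζ : F}
    (hζ : IsPrimitiveRoot ζ q) {m : ℤ[X]} (hm : m.map (Int.castRingHom (ZMod p)) = minpoly (ZMod p) ζ) :
    ∃ k : ℕ, k.Coprime q ∧ ∃ (E : Type v) (_ : AddCommGroup E) (ρ : P →* Multiplicative E) (T : Module.End ℤ E),
      Side p q m ρ (τ ^ k).toMonoidHom T := by
  classical
  have hD : ∀ a b : P, ⁅a, b⁆ ∈ frattini P := fun a b =>
    Cfsg.Agent.Lib.Frat.commutator_le_frattini h.hP
      (Subgroup.commutator_mem_commutator (Subgroup.mem_top a) (Subgroup.mem_top b))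
  obtain ⟨E, iE, ρ, hρ, hker⟩ := exists_quot_add (frattini P) hD
  have hρD : ∀ a, ρ a = 1 ↔ a ∈ frattini P := by
    intro a
    rw [← hker]
    rfl
  have hchar : ∀ a ∈ frattini P, τ a ∈ frattini P := fun a ha => char_mem _ τ ha
  obtain ⟨T, hT⟩ := exists_lift_add ρ hρ (ρ.comp τ.toMonoidHom) (by
    intro a ha
    have h1 : a ∈ frattini P := (hρD a).1 ha
    exact (hρD _).2 (hchar a h1))
  have hTa : ∀ a, T (toAdd (ρ a)) = toAdd (ρ (τ a)) := hT
  have hsurj : ∀ e : E, ∃ a : P, toAdd (ρ a) = e := by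
    intro e
    obtain ⟨a, ha⟩ := hρ (ofAdd e)
    exact ⟨a, by rw [ha]; rfl⟩
  have htor : ∀ e : E, p • e = 0 := by
    intro e
    obtain ⟨a, rfl⟩ := hsurj e
    rw [← toAdd_pow, ← map_pow]
    have h1 : ρ (a ^ p) = 1 := (hρD _).2 (Cfsg.Agent.Lib.Frat.pow_mem_frattini h.hP a)
    rw [h1]
    rfl
  haveI hfin : Finite E := Finite.of_surjective (fun a : P => toAdd (ρ a)) hsurj
  have hne : frattini P ≠ ⊤ := h.frattini_ne_top
  haveI : Nontrivial E := by
    obtain ⟨a, ha⟩ : ∃ a, a ∉ frattini P := by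
      by_contra hcon
      push Not at hcon
      exact hne (eq_top_iff.2 fun x _ => hcon x)
    refine ⟨⟨toAdd (ρ a), 0, fun h0 => ha ((hρD a).1 h0)⟩⟩
  have hDfix : ∀ a ∈ frattini P, τ a = a := h.star _ hne hchar
  have hTit : ∀ (k : ℕ) (a : P), (T ^ k) (toAdd (ρ a)) = toAdd (ρ ((τ ^ k) a)) := by
    intro k a
    induction k generalizing a with
    | zero => rfl
    | succ k ih =>
      rw [pow_succ, Module.End.mul_apply, hTa, ih, pow_succ, MulAut.mul_apply]
  have hTq : ∀ e, (T ^ q) e = e := by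
    intro e
    obtain ⟨a, rfl⟩ := hsurj e
    rw [hTit, h.pow]
    rfl
  have hfix : ∀ e, T e = e → e = 0 := by
    intro e he
    obtain ⟨a, rfl⟩ := hsurj e
    rw [hTa] at he
    have h1 : ρ (a⁻¹ * τ a) = 1 := by
      rw [map_mul, map_inv]
      have h2 : ρ (τ a) = ρ a := he
      rw [h2, inv_mul_cancel]
    have h2 := hDfix _ ((hρD _).1 h1)
    have h3 := eq_of_fixed_comm h a h2
    have h4 := fixed_mem_commutator h h3
    have h5 : a ∈ frattini P := Cfsg.Agent.Lib.Frat.commutator_le_frattini h.hP h4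
    have h6 := (hρD a).2 h5
    rw [h6]
    rfl
  have hirr : ∀ E' : AddSubgroup E, (∀ e ∈ E', T e ∈ E') → E' = ⊥ ∨ E' = ⊤ := by
    intro E' hE'
    let D' : Subgroup P :=
      { carrier := {a | toAdd (ρ a) ∈ E'}
        one_mem' := by
          show toAdd (ρ 1) ∈ E'
          rw [map_one]
          exact E'.zero_mem
        mul_mem' := by
          intro a b ha hb
          show toAdd (ρ (a * b)) ∈ E'
          rw [map_mul, toAdd_mul]
          exact E'.add_mem ha hb
        inv_mem' := by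
          intro a ha
          show toAdd (ρ a⁻¹) ∈ E'
          rw [map_inv, toAdd_inv]
          exact E'.neg_mem ha }
    have hD'mem : ∀ a, a ∈ D' ↔ toAdd (ρ a) ∈ E' := fun _ => Iff.rfl
    by_cases hD't : D' = ⊤
    · right
      rw [eq_top_iff]
      intro e _
      obtain ⟨a, rfl⟩ := hsurj e
      have : a ∈ D' := by rw [hD't]; trivial
      exact this
    · left
      rw [eq_bot_iff]
      intro e he
      obtain ⟨a, rfl⟩ := hsurj e
      have h1 := h.star D' hD't (fun u hu => by
        rw [hD'mem, ← hTa]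
        exact hE' _ hu) a he
      have h2 := fixed_mem_commutator h h1
      have h3 : a ∈ frattini P := Cfsg.Agent.Lib.Frat.commutator_le_frattini h.hP h2
      have h4 := (hρD a).2 h3
      rw [h4]
      exact AddSubgroup.zero_mem _
  letI : Module (ZMod p) E := AddCommGroup.zmodModule htor
  obtain ⟨k, hk, hann⟩ := exists_k h.hq T hTq hirr hfix hζ hm
  refine ⟨k, hk, E, iE, ρ, T ^ k, ?_⟩
  refine ⟨hρ, ?_, ?_, ?_, h.hP, ?_, htor, hann⟩
  · intro a
    exact (hTit k a).symm
  · intro a ha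
    exact h.frattini_le_center ((hρD a).1 ha)
  · intro a ha
    have h1 := (hρD a).1 ha
    have hit : ∀ n : ℕ, (τ ^ n) a = a := by
      intro n
      induction n with
      | zero => rfl
      | succ n ih => rw [pow_succ', MulAut.mul_apply, ih, hDfix a h1]
    exact hit k
  · intro a
    rw [iterate_toMonoidHom, ← pow_mul, mul_comm, pow_mul, h.pow, one_pow]
    rfl

end data

end Cfsg.Agent.Lib.SchmidtUni3
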