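import Mathlib
import Cfsg.Agent.Lib.SchmidtUni3
import Cfsg.Agent.Lib.PComplement

/-!
# Universal minimal non-`p`-nilpotent groups, part 4: semidirect products and the criterion
-/

set_option autoImplicit false
set_option linter.unusedSectionVars false
set_option linter.unusedVariables false
set_option linter.style.haveILetI false

universe u v

namespace Cfsg.Agent.Lib.SchmidtUni4

open Polynomial
open scoped commutatorElement Pointwise
open Multiplicative (toAdd ofAdd)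
open Cfsg.Agent.Lib.SchmidtUni1 Cfsg.Agent.Lib.SchmidtUni2 Cfsg.Agent.Lib.SchmidtUni3 Cfsg.Agent.Lib.SchmidtP
  Cfsg.Agent.Lib.FrattAct

section model

variable {p q : ℕ} [hp : Fact p.Prime] {m : ℤ[X]} {P₀ : Type u} [Group P₀] [Finite P₀] {F : Type*} [Field F]

theorem data_of_model {ρ₀ : P₀ →* Multiplicative F} {η₀ : MulAut P₀} {ζ : F}
    (h₀ : Side p q m ρ₀ η₀.toMonoidHom (LinearMap.mulLeft ℤ ζ)) (hq : q.Prime) (hqp : q ≠ p) (hζ1 : ζ ≠ 1)
    (Hs : ∀ t : F, ∃ n : ℤ[X], aeval ζ n = t) (hMC : ∀ u, ρ₀ u = 1 → u ∈ commutator P₀) :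
    Data p q η₀ := by
  refine ⟨h₀.pgrp, hq, hqp, ?_, ?_, ?_⟩
  · ext a
    have h1 := h₀.per a
    rw [iterate_toMonoidHom] at h1
    exact h1
  · intro h0
    obtain ⟨u, hu⟩ := h₀.surj (ofAdd 1)
    have h1 := h₀.equi u
    rw [hu] at h1
    have h2 : η₀.toMonoidHom u = u := by
      rw [h0]
      rfl
    rw [h2, hu] at h1
    apply hζ1
    have h3 : (1 : F) = ζ * 1 := h1
    rw [mul_one] at h3
    exact h3.symm
  · intro D hD hinv u hu
    by_cases hall : ∀ d ∈ D, ρ₀ d = 1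
    · exact h₀.fixed u (hall u hu)
    · exfalso
      push Not at hall
      obtain ⟨d, hd, hd1⟩ := hall
      have hequi : ∀ a, toAdd (ρ₀ (η₀ a)) = ζ * toAdd (ρ₀ a) := h₀.equi
      -- the image of `D` is closed under multiplication by all of `F`
      have hpolys : ∀ (n : ℤ[X]) (a : P₀), a ∈ D → ∃ b ∈ D, toAdd (ρ₀ b) = aeval ζ n * toAdd (ρ₀ a) := by
        intro n a ha
        induction n using Polynomial.induction_on' with
        | add f g hf hg =>
          obtain ⟨b, hb, hb'⟩ := hf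
          obtain ⟨c, hc, hc'⟩ := hg
          refine ⟨b * c, D.mul_mem hb hc, ?_⟩
          rw [map_mul, toAdd_mul, hb', hc', map_add, add_mul]
        | monomial k c =>
          rw [← C_mul_X_pow_eq_monomial]
          have h1 : ∀ k : ℕ, ∃ b ∈ D, toAdd (ρ₀ b) = ζ ^ k * toAdd (ρ₀ a) := by
            intro k
            induction k with
            | zero => exact ⟨a, ha, by simp⟩
            | succ k ih =>
              obtain ⟨b, hb, hb'⟩ := ih
              refine ⟨η₀ b, hinv b hb, ?_⟩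
              rw [hequi, hb', pow_succ']
              ring
          obtain ⟨b, hb, hb'⟩ := h1 k
          refine ⟨b ^ c, D.zpow_mem hb c, ?_⟩
          have e : aeval ζ (C c * X ^ k : ℤ[X]) = (c : F) * ζ ^ k := by
            rw [map_mul, map_pow, aeval_X, aeval_C]
            simp
          rw [map_zpow, toAdd_zpow, hb', e, zsmul_eq_mul]
          ring
      have hd0 : toAdd (ρ₀ d) ≠ 0 := hd1
      have hsurjD : ∀ w : P₀, ∃ d' ∈ D, ρ₀ d' = ρ₀ w := by
        intro w
        obtain ⟨n, hn⟩ := Hs (toAdd (ρ₀ w) * (toAdd (ρ₀ d))⁻¹)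
        obtain ⟨b, hb, hb'⟩ := hpolys n d hd
        refine ⟨b, hb, ?_⟩
        have h1 : toAdd (ρ₀ b) = toAdd (ρ₀ w) := by
          rw [hb', hn, mul_assoc, inv_mul_cancel₀ hd0, mul_one]
        exact h1
      have hcent : ∀ w : P₀, ∃ d' ∈ D, ∃ z, ρ₀ z = 1 ∧ w = d' * z := by
        intro w
        obtain ⟨d', hd', he⟩ := hsurjD w
        refine ⟨d', hd', d'⁻¹ * w, ?_, by group⟩
        rw [map_mul, map_inv, he, inv_mul_cancel]
      have hcomm : commutator P₀ ≤ D := by
        rw [commutator_def, Subgroup.commutator_le]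
        intro a _ b _
        obtain ⟨d₁, hd₁, z₁, hz₁, rfl⟩ := hcent a
        obtain ⟨d₂, hd₂, z₂, hz₂, rfl⟩ := hcent b
        have hc1 := Subgroup.mem_center_iff.1 (h₀.central z₁ hz₁)
        have hc2 := Subgroup.mem_center_iff.1 (h₀.central z₂ hz₂)
        have e : ⁅d₁ * z₁, d₂ * z₂⁆ = ⁅d₁, d₂⁆ := by
          have hc := h₀.comm_center
          rw [comm_mul_left hc, comm_mul_right hc, comm_mul_right hc]
          have h1 : ⁅d₁, z₂⁆ = 1 := by
            rw [commutatorElement_eq_one_iff_mul_comm]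
            exact hc2 d₁
          have h2 : ⁅z₁, d₂⁆ = 1 := by
            rw [commutatorElement_eq_one_iff_mul_comm]
            exact (hc1 d₂).symm
          have h3 : ⁅z₁, z₂⁆ = 1 := by
            rw [commutatorElement_eq_one_iff_mul_comm]
            exact (hc1 z₂).symm
          rw [h1, h2, h3]
          group
        rw [e]
        rw [commutatorElement_def]
        exact D.mul_mem (D.mul_mem (D.mul_mem hd₁ hd₂) (D.inv_mem hd₁)) (D.inv_mem hd₂)
      apply hD
      rw [eq_top_iff]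
      intro w _
      obtain ⟨d', hd', z, hz, rfl⟩ := hcent w
      exact D.mul_mem hd' (hcomm (hMC z hz))

end model

section pres

/-- A presentation of a group as `P ⋊ ⟨y⟩` -/
structure Pres (p q r : ℕ) [Fact p.Prime] {G : Type*} [Group G] {P : Type*} [Group P] [Finite P] (ι : P →* G) (y : G)
    (η : MulAut P) : Prop where
  data : Data p q η
  inj : Function.Injective ι
  conj : ∀ u, y * ι u * y⁻¹ = ι (η u)
  gen : ∀ g : G, ∃ u, ∃ i : ℕ, g = ι u * y ^ i
  ord : orderOf y = q ^ r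

variable {p q r : ℕ} [hp : Fact p.Prime] {G : Type u} [Group G] [Finite G] {P : Type v} [Group P] [Finite P]
  {ι : P →* G} {y : G} {η : MulAut P}

theorem Pres.conj_pow (h : Pres p q r ι y η) (i : ℕ) (u : P) : y ^ i * ι u * (y ^ i)⁻¹ = ι ((η ^ i) u) := by
  induction i with
  | zero => simp
  | succ i ih =>
    have e : y ^ (i + 1) * ι u * (y ^ (i + 1))⁻¹ = y * (y ^ i * ι u * (y ^ i)⁻¹) * y⁻¹ := by
      rw [pow_succ']
      group
    rw [e, ih, h.conj, pow_succ', MulAut.mul_apply]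

theorem Pres.range_normal (h : Pres p q r ι y η) : ι.range.Normal := by
  refine ⟨?_⟩
  rintro _ ⟨u, rfl⟩ g
  obtain ⟨v, i, rfl⟩ := h.gen g
  have e : ι v * y ^ i * ι u * (ι v * y ^ i)⁻¹ = ι v * (y ^ i * ι u * (y ^ i)⁻¹) * (ι v)⁻¹ := by group
  rw [e, h.conj_pow]
  exact ⟨v * (η ^ i) u * v⁻¹, by simp⟩

theorem Pres.range_p (h : Pres p q r ι y η) : IsPGroup p ι.range :=
  h.data.hP.of_surjective ι.rangeRestrict ι.rangeRestrict_surjective

theorem Pres.coprime_ord (h : Pres p q r ι y η) : Nat.Coprime (orderOf y) p := by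
  rw [h.ord]
  exact Nat.Coprime.pow_left r h.data.coprime_q

theorem Pres.eta_fixed_of_comm (h : Pres p q r ι y η) {u : P} (hu : y * ι u = ι u * y) : η u = u := by
  apply h.inj
  rw [← h.conj, hu]
  group

theorem Pres.comm_of_fixed (h : Pres p q r ι y η) {u : P} (hu : η u = u) : y * ι u = ι u * y := by
  have h1 := h.conj u
  rw [hu] at h1
  calc y * ι u = y * ι u * y⁻¹ * y := by group
    _ = ι u * y := by rw [h1]

theorem Pres.not_npc (h : Pres p q r ι y η) : ¬ Cfsg.HasNormalPComplement p G := by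
  intro hn
  rw [Cfsg.Agent.Lib.PComplement.hasNormalPComplement_iff_forall] at hn
  have hN := h.range_normal
  have h1 := hn ι.range h.range_p y (Subgroup.le_normalizer_of_normal (Subgroup.mem_top y)) h.coprime_ord
  apply h.data.ne
  ext u
  have h2 := Subgroup.mem_centralizer_iff.1 h1 (ι u) ⟨u, rfl⟩
  exact h.eta_fixed_of_comm h2.symm

theorem Pres.quot_pow (h : Pres p q r ι y η) (w : G) : w ^ q ^ r ∈ ι.range := by
  haveI hN := h.range_normal
  obtain ⟨u, i, rfl⟩ := h.gen w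
  rw [← QuotientGroup.eq_one_iff]
  have h1 : ((ι u * y ^ i) ^ q ^ r : G) = _ := rfl
  rw [QuotientGroup.mk_pow, QuotientGroup.mk_mul]
  have h2 : ((ι u : G) : G ⧸ ι.range) = 1 := (QuotientGroup.eq_one_iff _).2 ⟨u, rfl⟩
  rw [h2, one_mul, ← QuotientGroup.mk_pow, ← pow_mul, mul_comm, pow_mul, ← h.ord, pow_orderOf_eq_one, one_pow]
  rfl

theorem Pres.mem_range_of_pow (h : Pres p q r ι y η) {w : G} {k : ℕ} (hw : w ^ p ^ k = 1) : w ∈ ι.range := by
  haveI hN := h.range_normal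
  have h1 : (w : G ⧸ ι.range) ^ q ^ r = 1 := by
    rw [← QuotientGroup.mk_pow]
    exact (QuotientGroup.eq_one_iff _).2 (h.quot_pow w)
  have h2 : (w : G ⧸ ι.range) ^ p ^ k = 1 := by
    rw [← QuotientGroup.mk_pow, hw]
    rfl
  have hc : Nat.Coprime (q ^ r) (p ^ k) := Nat.Coprime.pow r k h.data.coprime_q
  have h3 : orderOf (w : G ⧸ ι.range) = 1 :=
    Nat.eq_one_of_dvd_coprimes hc (orderOf_dvd_of_pow_eq_one h1) (orderOf_dvd_of_pow_eq_one h2)
  exact (QuotientGroup.eq_one_iff _).1 (orderOf_eq_one_iff.1 h3)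

theorem Pres.order_dvd (h : Pres p q r ι y η) {b : G} (hb : Nat.Coprime (orderOf b) p) : orderOf b ∣ q ^ r := by
  obtain ⟨u, hu⟩ := h.quot_pow b
  obtain ⟨k, hk⟩ := h.data.hP u
  have h1 : b ^ (q ^ r * p ^ k) = 1 := by
    rw [pow_mul, ← hu, ← map_pow, hk, map_one]
  have h2 := orderOf_dvd_of_pow_eq_one h1
  exact Nat.Coprime.dvd_of_dvd_mul_right (Nat.Coprime.pow_right k hb) h2

theorem Pres.exists_conj (h : Pres p q r ι y η) {b : G} (hb : Nat.Coprime (orderOf b) p) :
    ∃ (c : G) (i : ℕ), b = c * y ^ i * c⁻¹ := by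
  classical
  have hq := h.data.hq
  haveI : Fact q.Prime := ⟨hq⟩
  have hbq : IsPGroup q (Subgroup.zpowers b) := by
    rw [IsPGroup.iff_card, Nat.card_zpowers]
    obtain ⟨k, _, hk⟩ := (Nat.dvd_prime_pow hq).1 (h.order_dvd hb)
    exact ⟨k, hk⟩
  have hyq : IsPGroup q (Subgroup.zpowers y) := by
    rw [IsPGroup.iff_card, Nat.card_zpowers, h.ord]
    exact ⟨r, rfl⟩
  obtain ⟨S₀, hS₀⟩ := hyq.exists_le_sylow
  obtain ⟨S, hS⟩ := hbq.exists_le_sylow
  -- `S₀` is generated by `y`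
  have hS₀y : ∀ s ∈ (S₀ : Subgroup G), s ∈ Subgroup.zpowers y := by
    intro s hs
    obtain ⟨u, i, rfl⟩ := h.gen s
    have hyi : y ^ i ∈ (S₀ : Subgroup G) := hS₀ (Subgroup.pow_mem _ (Subgroup.mem_zpowers y) i)
    have hu : ι u ∈ (S₀ : Subgroup G) := by
      have e : ι u = (ι u * y ^ i) * (y ^ i)⁻¹ := by group
      rw [e]
      exact Subgroup.mul_mem _ hs (Subgroup.inv_mem _ hyi)
    obtain ⟨k, hk⟩ := S₀.isPGroup' ⟨_, hu⟩
    obtain ⟨l, hl⟩ := h.data.hP u
    have hk' : (ι u) ^ q ^ k = 1 := congrArg Subtype.val hk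
    have hl' : (ι u) ^ p ^ l = 1 := by rw [← map_pow, hl, map_one]
    have hc : Nat.Coprime (q ^ k) (p ^ l) := Nat.Coprime.pow k l h.data.coprime_q
    have h1 : orderOf (ι u) = 1 :=
      Nat.eq_one_of_dvd_coprimes hc (orderOf_dvd_of_pow_eq_one hk') (orderOf_dvd_of_pow_eq_one hl')
    rw [orderOf_eq_one_iff.1 h1, one_mul]
    exact Subgroup.pow_mem _ (Subgroup.mem_zpowers y) i
  obtain ⟨c, hc⟩ := MulAction.exists_smul_eq G S₀ S
  have hbS : b ∈ (S : Subgroup G) := hS (Subgroup.mem_zpowers b)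
  rw [← hc] at hbS
  have h1 : b ∈ (MulAut.conj c • (S₀ : Subgroup G)) := hbS
  rw [Subgroup.mem_pointwise_smul_iff_inv_smul_mem] at h1
  have h2 : c⁻¹ * b * c ∈ (S₀ : Subgroup G) := by
    have e : (MulAut.conj c)⁻¹ • b = c⁻¹ * b * c := by
      simp [MulAut.smul_def]
    rwa [e] at h1
  have h3 := hS₀y _ h2
  rw [← mem_powers_iff_mem_zpowers] at h3
  obtain ⟨i, hi⟩ := h3
  refine ⟨c, i, ?_⟩
  have hi' : y ^ i = c⁻¹ * b * c := hi
  rw [hi']
  group

theorem Pres.pow_q_central (h : Pres p q r ι y η) (g : G) : y ^ q * g = g * y ^ q := by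
  obtain ⟨u, i, rfl⟩ := h.gen g
  have h1 := h.conj_pow q u
  rw [h.data.pow] at h1
  have h2 : y ^ q * ι u = ι u * y ^ q := by
    calc y ^ q * ι u = y ^ q * ι u * (y ^ q)⁻¹ * y ^ q := by group
      _ = ι u * y ^ q := by rw [h1]; rfl
  rw [← mul_assoc, h2, mul_assoc, mul_assoc, ← pow_add, ← pow_add, add_comm]

theorem Pres.npc (h : Pres p q r ι y η) (hr : 1 ≤ r) (K : Subgroup G) (hK : K ≠ ⊤) :
    Cfsg.HasNormalPComplement p K := by
  classical
  rw [Cfsg.Agent.Lib.PComplement.hasNormalPComplement_iff_forall]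
  intro Q hQ g hg hgc
  rw [Subgroup.mem_centralizer_iff]
  intro w hw
  apply Subtype.ext
  show (w : G) * (g : G) = (g : G) * (w : G)
  haveI hN := h.range_normal
  obtain ⟨k, hk⟩ := hQ ⟨w, hw⟩
  have hk' : (w : G) ^ p ^ k = 1 := by
    have := congrArg (fun z : Q => ((z : K) : G)) hk
    simpa using this
  have hwN : (w : G) ∈ ι.range := h.mem_range_of_pow hk'
  have hgo : Nat.Coprime (orderOf (g : G)) p := by
    rwa [Subgroup.orderOf_coe]
  obtain ⟨c, i, hb⟩ := h.exists_conj hgo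
  have hq := h.data.hq
  by_cases hqi : q ∣ i
  · obtain ⟨j, rfl⟩ := hqi
    have hcentral : ∀ g' : G, y ^ (q * j) * g' = g' * y ^ (q * j) := by
      intro g'
      rw [pow_mul]
      exact ((Commute.pow_left (show Commute (y ^ q) g' from h.pow_q_central g') j)).eq
    have hb' : (g : G) = y ^ (q * j) := by
      rw [hb, ← hcentral c]
      group
    rw [hb']
    exact (hcentral _).symm
  · -- `c y c⁻¹ ∈ K`
    have hcop : Nat.Coprime i (q ^ r) := by
      apply Nat.Coprime.pow_right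
      rw [Nat.coprime_comm]
      exact (Nat.Prime.coprime_iff_not_dvd hq).2 hqi
    have h1r : 1 < q ^ r := Nat.one_lt_pow (by omega) hq.one_lt
    obtain ⟨i', -, hi'⟩ := Nat.exists_mul_mod_eq_one_of_coprime hcop h1r
    have hy : (y ^ i) ^ i' = y := by
      have hyo : y ^ q ^ r = 1 := by
        rw [← h.ord]
        exact pow_orderOf_eq_one y
      rw [← pow_mul, pow_eq_pow_mod (i * i') hyo, hi', pow_one]
    have hyc : c * y * c⁻¹ ∈ K := by
      have e : c * y * c⁻¹ = (g : G) ^ i' := by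
        rw [hb, _root_.conj_pow, hy]
      rw [e]
      exact K.pow_mem g.2 i'
    let A' : Subgroup P := K.comap ((MulAut.conj c).toMonoidHom.comp ι)
    have hA'mem : ∀ u, u ∈ A' ↔ c * ι u * c⁻¹ ∈ K := fun _ => Iff.rfl
    have hinv : ∀ u ∈ A', η u ∈ A' := by
      intro u hu
      rw [hA'mem] at hu ⊢
      have e : c * ι (η u) * c⁻¹ = (c * y * c⁻¹) * (c * ι u * c⁻¹) * (c * y * c⁻¹)⁻¹ := by
        rw [← h.conj]
        group
      rw [e]
      exact K.mul_mem (K.mul_mem hyc hu) (K.inv_mem hyc)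
    have hA'ne : A' ≠ ⊤ := by
      intro h0
      apply hK
      have hNK : ∀ u, ι u ∈ K := by
        intro u
        obtain ⟨u', hu'⟩ := hN.conj_mem (ι u) ⟨u, rfl⟩ c⁻¹
        have h1 : u' ∈ A' := by rw [h0]; trivial
        rw [hA'mem, hu'] at h1
        have e : c * (c⁻¹ * ι u * c⁻¹⁻¹) * c⁻¹ = ι u := by group
        rwa [e] at h1
      have hyK : y ∈ K := by
        obtain ⟨v, j, rfl⟩ := h.gen c
        have e : y = (ι v)⁻¹ * (ι v * y ^ j * y * (ι v * y ^ j)⁻¹) * ι v := by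
          have e1 : y ^ j * y = y * y ^ j := by rw [← pow_succ, pow_succ']
          have e2 : ι v * y ^ j * y * (ι v * y ^ j)⁻¹ = ι v * (y ^ j * y) * (y ^ j)⁻¹ * (ι v)⁻¹ := by group
          rw [e2, e1]
          group
        rw [e]
        exact K.mul_mem (K.mul_mem (K.inv_mem (hNK v)) hyc) (hNK v)
      rw [eq_top_iff]
      intro x _
      obtain ⟨u, i, rfl⟩ := h.gen x
      exact K.mul_mem (hNK u) (K.pow_mem hyK i)
    have hfix := h.data.star A' hA'ne hinv
    obtain ⟨u₁, hu₁⟩ := hN.conj_mem _ hwN c⁻¹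
    have hu₁A : u₁ ∈ A' := by
      rw [hA'mem, hu₁]
      have e : c * (c⁻¹ * (w : G) * c⁻¹⁻¹) * c⁻¹ = w := by group
      rw [e]
      exact w.2
    have hu₁f := hfix u₁ hu₁A
    have h1 := h.comm_of_fixed hu₁f
    have h2 : Commute (y ^ i) (ι u₁) := Commute.pow_left (show Commute y (ι u₁) from h1) i
    have h3 : (w : G) = c * ι u₁ * c⁻¹ := by
      rw [hu₁]
      group
    rw [hb, h3]
    have e1 : c * ι u₁ * c⁻¹ * (c * y ^ i * c⁻¹) = c * (ι u₁ * y ^ i) * c⁻¹ := by group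
    have e2 : c * y ^ i * c⁻¹ * (c * ι u₁ * c⁻¹) = c * (y ^ i * ι u₁) * c⁻¹ := by group
    rw [e1, e2, h2.eq]

end pres

end Cfsg.Agent.Lib.SchmidtUni4
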