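import Mathlib
import Cfsg.Agent.Lib.SchmidtUni4
import Cfsg.Agent.Lib.LocalTools
import Cfsg.Agent.S0132

/-!
# Universal minimal non-`p`-nilpotent groups, part 5: structure of minimal non-`p`-nilpotent groups
-/

set_option autoImplicit false
set_option linter.unusedSectionVars false
set_option linter.unusedVariables false
set_option linter.style.haveILetI false

universe u v

namespace Cfsg.Agent.Lib.SchmidtUni5

open Cfsg.Agent.Lib.SchmidtP Cfsg.Agent.Lib.SchmidtUni4

variable {X : Type u} [Group X] [Finite X] {p q r t : ℕ} [hp : Fact p.Prime]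

theorem index_le_of_sup {P : Subgroup X} [P.Normal] {z : X} (hz : P ⊔ Subgroup.zpowers z = ⊤) :
    P.index ≤ orderOf z := by
  rw [← Nat.card_zpowers]
  have hi : P.index = Nat.card (X ⧸ P) := rfl
  rw [hi]
  let f : Subgroup.zpowers z → X ⧸ P := fun b => (b : X)
  refine Nat.card_le_card_of_surjective f ?_
  intro w
  obtain ⟨g, rfl⟩ := QuotientGroup.mk_surjective w
  have hg : g ∈ P ⊔ Subgroup.zpowers z := by rw [hz]; trivial
  rw [Subgroup.mem_sup_of_normal_left] at hg
  obtain ⟨a, ha, b, hb, rfl⟩ := hg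
  refine ⟨⟨b, hb⟩, ?_⟩
  show ((b : X) : X ⧸ P) = ((a * b : X) : X ⧸ P)
  rw [QuotientGroup.mk_mul, (QuotientGroup.eq_one_iff a).2 ha, one_mul]

theorem exists_pres (hq : q.Prime) (hpq : p ≠ q) (hr : 1 ≤ r) (h1 : ¬ Cfsg.HasNormalPComplement p X)
    (h2 : ∀ K : Subgroup X, K ≠ ⊤ → Cfsg.HasNormalPComplement p K) (hcard : Nat.card X = p ^ t * q ^ r) :
    ∃ (P : Subgroup X) (y : X) (η : MulAut P), Pres p q r P.subtype y η := by
  classical
  have hpp := hp.out
  obtain ⟨hnilp, hnn, hnorm⟩ := Cfsg.Agent.S0132.result h1 h2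
  obtain ⟨S⟩ : Nonempty (Sylow p X) := inferInstance
  haveI hSn : (S : Subgroup X).Normal := hnorm S
  set P : Subgroup X := (S : Subgroup X) with hP
  have hPp : IsPGroup p P := S.isPGroup'
  have hcomm : ∀ L : Subgroup X, L ≠ ⊤ → ∀ a ∈ L, ∀ u ∈ L, Nat.Coprime (orderOf a) p → (∃ k : ℕ, u ^ p ^ k = 1) →
      a * u = u * a := by
    intro L hL a ha u hu hao ⟨k, hk⟩
    haveI := hnilp L hL
    have h3 := Cfsg.Agent.Lib.PComplement.commute_of_isNilpotent (G := L) (x := ⟨u, hu⟩) (g := ⟨a, ha⟩) (p := p)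
      ⟨k, Subtype.ext hk⟩ (by rwa [Subgroup.orderOf_mk])
    exact (congrArg Subtype.val h3).symm
  have hPel : ∀ u ∈ P, ∃ k : ℕ, u ^ p ^ k = 1 := by
    intro u hu
    obtain ⟨k, hk⟩ := hPp ⟨u, hu⟩
    exact ⟨k, congrArg Subtype.val hk⟩
  -- an element of order prime to `p` not centralizing `P`
  have hex : ∃ y : X, Nat.Coprime (orderOf y) p ∧ ∃ u ∈ P, y * u ≠ u * y := by
    by_contra hcon
    push Not at hcon
    obtain ⟨K, hK⟩ := Subgroup.exists_left_complement'_of_coprime (S.card_coprime_index)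
    have hKi : P.index = Nat.card K := hK.index_eq_card
    have hKp : ¬ p ∣ Nat.card K := by
      rw [← hKi]
      exact S.not_dvd_index
    have hcomm' : ∀ k ∈ K, ∀ u ∈ P, k * u = u * k := by
      intro k hk u hu
      refine hcon k ?_ u hu
      rw [Nat.coprime_comm, hpp.coprime_iff_not_dvd]
      refine fun hd => hKp (hd.trans ?_)
      have h3 : orderOf (⟨k, hk⟩ : K) ∣ Nat.card K := orderOf_dvd_natCard _
      rwa [Subgroup.orderOf_mk] at h3
    have hsup : K ⊔ P = ⊤ := hK.sup_eq_top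
    have hKn : K.Normal := by
      refine ⟨fun k hk g => ?_⟩
      have h3 : g ∈ K ⊔ P := by
        rw [hsup]
        trivial
      rw [Subgroup.mem_sup_of_normal_right] at h3
      obtain ⟨a, ha, u, hu, rfl⟩ := h3
      have e : a * u * k * (a * u)⁻¹ = a * (u * k * u⁻¹) * a⁻¹ := by group
      have h4 : u * k * u⁻¹ = k := by
        rw [← hcomm' k hk u hu]
        group
      rw [e, h4]
      exact K.mul_mem (K.mul_mem ha hk) (K.inv_mem ha)
    exact h1 ⟨S, K, hKn, hK⟩
  obtain ⟨y, hyo, u₀, hu₀, hyu⟩ := hex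
  -- every proper subgroup containing `y` centralizes its `p`-part
  have hsup : P ⊔ Subgroup.zpowers y = ⊤ := by
    by_contra hne
    apply hyu
    exact hcomm _ hne y (Subgroup.mem_sup_right (Subgroup.mem_zpowers y)) u₀ (Subgroup.mem_sup_left hu₀) hyo
      (hPel u₀ hu₀)
  -- the order of `y`
  obtain ⟨s, hs⟩ := IsPGroup.iff_card.1 hPp
  have hc1 : Nat.card P * P.index = p ^ t * q ^ r := by
    rw [Subgroup.card_mul_index, hcard]
  have hcpq : Nat.Coprime p q := (Nat.coprime_primes hpp hq).2 hpq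
  have hidx : P.index = q ^ r := by
    have hpidx : Nat.Coprime p P.index := (Nat.Prime.coprime_iff_not_dvd hpp).2 S.not_dvd_index
    apply Nat.dvd_antisymm
    · have h3 : P.index ∣ p ^ t * q ^ r := ⟨_, by rw [← hc1, mul_comm]⟩
      exact Nat.Coprime.dvd_of_dvd_mul_left (Nat.Coprime.pow_right t hpidx.symm) h3
    · have h3 : q ^ r ∣ Nat.card P * P.index := by
        rw [hc1]
        exact dvd_mul_left _ _
      rw [hs] at h3
      exact Nat.Coprime.dvd_of_dvd_mul_left (Nat.Coprime.pow s r hcpq).symm h3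
  have hodvd : orderOf y ∣ q ^ r := by
    have h3 : orderOf y ∣ p ^ t * q ^ r := by
      rw [← hcard]
      exact orderOf_dvd_natCard y
    exact Nat.Coprime.dvd_of_dvd_mul_left (Nat.Coprime.pow_right t hyo) h3
  have hord : orderOf y = q ^ r := by
    apply Nat.le_antisymm (Nat.le_of_dvd (pow_pos hq.pos r) hodvd)
    rw [← hidx]
    exact index_le_of_sup hsup
  -- `y ^ q` centralizes `P`
  have hyq : ∀ u ∈ P, y ^ q * u = u * y ^ q := by
    intro u hu
    have hqd : q ∣ orderOf y := by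
      rw [hord]
      exact dvd_pow_self q (by omega)
    have ho : orderOf (y ^ q) = orderOf y / q := orderOf_pow_of_dvd hq.ne_zero hqd
    have hne : P ⊔ Subgroup.zpowers (y ^ q) ≠ ⊤ := by
      intro h0
      have h3 := index_le_of_sup h0
      rw [ho, hidx, hord] at h3
      have h4 : q ^ r / q < q ^ r := Nat.div_lt_self (pow_pos hq.pos r) hq.one_lt
      omega
    refine hcomm _ hne _ (Subgroup.mem_sup_right (Subgroup.mem_zpowers _)) u (Subgroup.mem_sup_left hu) ?_ (hPel u hu)
    rw [ho]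
    exact Nat.Coprime.coprime_dvd_left (Nat.div_dvd_of_dvd hqd) hyo
  have hτa : ∀ u : P, ((MulAut.conjNormal y u : P) : X) = y * u * y⁻¹ := by
    intro u
    rw [MulAut.conjNormal_apply]
  refine ⟨P, y, MulAut.conjNormal y, ⟨hPp, hq, hpq.symm, ?_, ?_, ?_⟩, P.subtype_injective, ?_, ?_, hord⟩
  · rw [← map_pow]
    ext u
    rw [MulAut.conjNormal_apply, hyq u u.2]
    simp
  · intro h0
    apply hyu
    have h3 := hτa ⟨u₀, hu₀⟩
    rw [h0] at h3
    have h4 : u₀ = y * u₀ * y⁻¹ := h3
    calc y * u₀ = y * u₀ * y⁻¹ * y := by group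
      _ = u₀ * y := by rw [← h4]
  · intro D hD hinv u hu
    let D' : Subgroup X := D.map P.subtype
    have hy1D : ∀ d ∈ D', y * d * y⁻¹ ∈ D' := by
      rintro _ ⟨d, hd, rfl⟩
      exact ⟨_, hinv d hd, hτa d⟩
    have hyD : ∀ k : ℕ, ∀ d ∈ D', y ^ k * d * (y ^ k)⁻¹ ∈ D' := by
      intro k
      induction k with
      | zero =>
        intro d hd
        simpa using hd
      | succ k ih =>
        intro d hd
        have e : y ^ (k + 1) * d * (y ^ (k + 1))⁻¹ = y * (y ^ k * d * (y ^ k)⁻¹) * y⁻¹ := by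
          rw [pow_succ']
          group
        rw [e]
        exact hy1D _ (ih d hd)
    have hnorm' : Subgroup.zpowers y ≤ Subgroup.normalizer (D' : Set X) := by
      refine Subgroup.le_normalizer_iff.2 fun a ha d hd => ?_
      rw [← mem_powers_iff_mem_zpowers] at ha
      obtain ⟨k, rfl⟩ := ha
      exact hyD k d hd
    have hLne : Subgroup.zpowers y ⊔ D' ≠ ⊤ := by
      intro h0
      apply hD
      rw [eq_top_iff]
      rintro ⟨v, hv⟩ _
      have h3 : v ∈ Subgroup.zpowers y ⊔ D' := by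
        rw [h0]
        trivial
      rw [Cfsg.Agent.Lib.LocalTools.mem_sup_of_le_normalizer hnorm'] at h3
      obtain ⟨a, ha, b, hb, hab⟩ := h3
      have hbP : b ∈ P := by
        obtain ⟨d, _, rfl⟩ := hb
        exact d.2
      have haP : a ∈ P := by
        have e : a = v * b⁻¹ := by rw [hab]; group
        rw [e]
        exact Subgroup.mul_mem _ hv (Subgroup.inv_mem _ hbP)
      have ha1 : a = 1 := by
        rw [← mem_powers_iff_mem_zpowers] at ha
        obtain ⟨i, rfl⟩ := ha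
        have h4 : (y ^ i) ^ orderOf y = 1 := by
          rw [← pow_mul, mul_comm, pow_mul, pow_orderOf_eq_one, one_pow]
        obtain ⟨k, hk⟩ := hPel _ haP
        have h6 : orderOf (y ^ i) = 1 := Nat.eq_one_of_dvd_coprimes (Nat.Coprime.pow_right k hyo) (orderOf_dvd_of_pow_eq_one h4)
          (orderOf_dvd_of_pow_eq_one hk)
        exact orderOf_eq_one_iff.1 h6
      have hvb : v = b := by rw [hab, ha1, one_mul]
      obtain ⟨d, hd, hde⟩ := hb
      have h7 : (⟨v, hv⟩ : P) = d := Subtype.ext (hvb.trans hde.symm)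
      rw [h7]
      exact hd
    have hyL : y ∈ Subgroup.zpowers y ⊔ D' := Subgroup.mem_sup_left (Subgroup.mem_zpowers y)
    have huL : (u : X) ∈ Subgroup.zpowers y ⊔ D' := Subgroup.mem_sup_right ⟨u, hu, rfl⟩
    have h7 := hcomm _ hLne y hyL u huL hyo (hPel u u.2)
    apply Subtype.ext
    rw [hτa, h7]
    group
  · intro u
    exact (hτa u).symm
  · intro g
    have hg : g ∈ P ⊔ Subgroup.zpowers y := by rw [hsup]; trivial
    rw [Subgroup.mem_sup_of_normal_left] at hg
    obtain ⟨a, ha, b, hb, rfl⟩ := hg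
    rw [← mem_powers_iff_mem_zpowers] at hb
    obtain ⟨i, rfl⟩ := hb
    exact ⟨⟨a, ha⟩, i, rfl⟩

end Cfsg.Agent.Lib.SchmidtUni5
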