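import Mathlib
import Cfsg.Agent.Lib.SchmidtUni5

/-!
# Universal minimal non-`p`-nilpotent groups, part 6: assembling
-/

set_option autoImplicit false
set_option linter.unusedSectionVars false
set_option linter.unusedVariables false
set_option linter.style.haveILetI false

universe u v

namespace Cfsg.Agent.Lib.SchmidtUni6

open Polynomial
open scoped commutatorElement
open Multiplicative (toAdd ofAdd)
open Cfsg.Agent.Lib.SchmidtUni1 Cfsg.Agent.Lib.SchmidtUni2 Cfsg.Agent.Lib.SchmidtUni3 Cfsg.Agent.Lib.SchmidtP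
  Cfsg.Agent.Lib.SchmidtUni4 Cfsg.Agent.Lib.SchmidtUni5

/-- The power homomorphism from a cyclic group. -/
def powHom {M : Type*} [Monoid M] (y : M) (n : ℕ) [NeZero n] (hy : y ^ n = 1) : Multiplicative (ZMod n) →* M where
  toFun c := y ^ (toAdd c).val
  map_one' := by
    show y ^ (0 : ZMod n).val = 1
    rw [ZMod.val_zero, pow_zero]
  map_mul' a b := by
    show y ^ (toAdd a + toAdd b).val = _
    rw [ZMod.val_add, ← pow_eq_pow_mod _ hy, pow_add]

theorem powHom_apply {M : Type*} [Monoid M] (y : M) (n : ℕ) [NeZero n] (hy : y ^ n = 1)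
    (c : Multiplicative (ZMod n)) : powHom y n hy c = y ^ (toAdd c).val := rfl

theorem powHom_natCast {M : Type*} [Monoid M] (y : M) (n : ℕ) [NeZero n] (hy : y ^ n = 1) (j : ℕ) :
    powHom y n hy (ofAdd (j : ZMod n)) = y ^ j := by
  rw [powHom_apply, toAdd_ofAdd, ZMod.val_natCast, ← pow_eq_pow_mod _ hy]

section pres

variable {p q r : ℕ} [hp : Fact p.Prime]

theorem Pres.map_equiv {G G' : Type*} [Group G] [Group G'] {P : Type*} [Group P] [Finite P] {ι : P →* G} {y : G}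
    {η : MulAut P} (e : G ≃* G') (h : Pres p q r ι y η) : Pres p q r (e.toMonoidHom.comp ι) (e y) η := by
  refine ⟨h.data, e.injective.comp h.inj, ?_, ?_, ?_⟩
  · intro u
    show e y * e (ι u) * (e y)⁻¹ = e (ι (η u))
    rw [← h.conj, map_mul, map_mul, map_inv]
  · intro g
    obtain ⟨u, i, hu⟩ := h.gen (e.symm g)
    refine ⟨u, i, ?_⟩
    show g = e (ι u) * e y ^ i
    rw [← map_pow, ← map_mul, ← hu, e.apply_symm_apply]
  · rw [MulEquiv.orderOf_eq, h.ord]

theorem pres_semidirect {P₀ : Type*} [Group P₀] [Finite P₀] {η₀ : MulAut P₀} (hd : Data p q η₀) (hr : 1 ≤ r)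
    [NeZero (q ^ r)] (hη : η₀ ^ q ^ r = 1) :
    Pres p q r (SemidirectProduct.inl : P₀ →* P₀ ⋊[powHom η₀ (q ^ r) hη] Multiplicative (ZMod (q ^ r)))
      (SemidirectProduct.inr (ofAdd 1)) η₀ := by
  have hq := hd.hq
  have h1r : 1 < q ^ r := Nat.one_lt_pow (by omega) hq.one_lt
  haveI : Fact (1 < q ^ r) := ⟨h1r⟩
  have hact : powHom η₀ (q ^ r) hη (ofAdd 1) = η₀ := by
    rw [powHom_apply, toAdd_ofAdd, ZMod.val_one, pow_one]
  refine ⟨hd, SemidirectProduct.inl_injective, ?_, ?_, ?_⟩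
  · intro u
    have h1 := SemidirectProduct.inl_aut (φ := powHom η₀ (q ^ r) hη) (ofAdd 1) u
    rw [hact] at h1
    rw [h1, map_inv]
  · intro g
    refine ⟨g.left, (toAdd g.right).val, ?_⟩
    conv_lhs => rw [← SemidirectProduct.inl_left_mul_inr_right g]
    congr 1
    rw [← map_pow]
    congr 1
    rw [← ofAdd_nsmul]
    simp only [nsmul_eq_mul, mul_one, ZMod.natCast_val, ZMod.cast_id', id_eq, ofAdd_toAdd]
  · rw [orderOf_injective _ SemidirectProduct.inr_injective, orderOf_ofAdd_eq_addOrderOf, ZMod.addOrderOf_one]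

end pres

section final

variable {p q r a₀ : ℕ} [hp : Fact p.Prime] {m : ℤ[X]} {F : Type} [Field F] [Algebra (ZMod p) F]
  {P₀ : Type} [Group P₀] [Finite P₀]

theorem final_of_model (hq : q.Prime) (hpq : p ≠ q) (hr : 1 ≤ r) {ζ : F} (hζ : IsPrimitiveRoot ζ q)
    (Hs : ∀ t : F, ∃ n : ℤ[X], aeval ζ n = t) (hm : m.map (Int.castRingHom (ZMod p)) = minpoly (ZMod p) ζ)
    (Hm : ∀ n : ℤ[X], aeval ζ n = 0 → ∃ g h : ℤ[X], n = m * g + C (p : ℤ) * h)
    {ρ₀ : P₀ →* Multiplicative F} {η₀ : MulAut P₀}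
    (h₀ : Side p q m ρ₀ η₀.toMonoidHom (LinearMap.mulLeft ℤ ζ))
    (hMC : ∀ u, ρ₀ u = 1 → u ∈ commutator P₀)
    (hMW : ∀ x u : P₀, toAdd (ρ₀ x) = 1 → ⁅x, u⁆ = 1 → toAdd (ρ₀ u) ∈ WW ζ)
    (hcard : Nat.card P₀ = p ^ a₀) :
    ∃ (G₀ : Type u) (_ : Group G₀) (_ : Finite G₀),
      (¬ Cfsg.HasNormalPComplement p G₀ ∧ ∀ K : Subgroup G₀, K ≠ ⊤ → Cfsg.HasNormalPComplement p ↥K) ∧
      Nat.card G₀ = p ^ a₀ * q ^ r ∧
      ∀ (X : Type u) [Group X] [Finite X],
        (¬ Cfsg.HasNormalPComplement p X ∧ ∀ K : Subgroup X, K ≠ ⊤ → Cfsg.HasNormalPComplement p ↥K) →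
        (∃ t : ℕ, Nat.card X = p ^ t * q ^ r) →
        ∃ φ : G₀ →* X, Function.Surjective φ ∧ φ.ker ≤ Subgroup.center G₀ := by
  classical
  have hpp := hp.out
  have hζ1 : ζ ≠ 1 := hζ.ne_one hq.one_lt
  have hd₀ : Data p q η₀ := data_of_model h₀ hq hpq.symm hζ1 Hs hMC
  haveI hn0 : NeZero (q ^ r) := ⟨(pow_pos hq.pos r).ne'⟩
  have hη : η₀ ^ q ^ r = 1 := by
    obtain ⟨s, hs⟩ : ∃ s, r = s + 1 := ⟨r - 1, by omega⟩
    rw [hs, pow_succ', pow_mul, hd₀.pow, one_pow]
  let act : Multiplicative (ZMod (q ^ r)) →* MulAut P₀ := powHom η₀ (q ^ r) hη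
  let G₁ := P₀ ⋊[act] Multiplicative (ZMod (q ^ r))
  haveI hG₁f : Finite G₁ := Finite.of_equiv _ (SemidirectProduct.equivProd (φ := act)).symm
  have hpres : Pres p q r (SemidirectProduct.inl : P₀ →* G₁) (SemidirectProduct.inr (ofAdd 1)) η₀ :=
    pres_semidirect hd₀ hr hη
  let eU : ULift.{u} G₁ ≃* G₁ := MulEquiv.ulift
  have hpres' := Pres.map_equiv eU.symm hpres
  refine ⟨ULift.{u} G₁, inferInstance, inferInstance, ⟨hpres'.not_npc, fun K hK => hpres'.npc hr K hK⟩, ?_, ?_⟩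
  · rw [Nat.card_ulift, Nat.card_congr (SemidirectProduct.equivProd (φ := act)), Nat.card_prod, hcard]
    congr 1
    rw [Nat.card_congr Multiplicative.toAdd, Nat.card_zmod]
  intro X _ _ hX ⟨t, ht⟩
  obtain ⟨P, y, η, hpX⟩ := exists_pres hq hpq hr hX.1 hX.2 ht
  obtain ⟨k, hk, E, iE, ρ, T, hS⟩ := side_of_data hpX.data hζ hm
  have hd := data_pow hpX.data hk
  obtain ⟨a, ha⟩ : ∃ a, (η ^ k) a ≠ a := by
    by_contra hcon
    push Not at hcon
    apply hd.ne
    ext u
    rw [hcon u]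
    rfl
  have hx : ρ (a⁻¹ * (η ^ k).toMonoidHom a) ≠ 1 := by
    intro h0
    exact ha (eq_of_fixed_comm hd a (hS.fixed _ h0))
  have hgen := closure_top hd ha
  obtain ⟨ã, hã0⟩ := h₀.surj (ofAdd (ζ - 1)⁻¹)
  have hζs : ζ - 1 ≠ 0 := sub_ne_zero.2 hζ1
  have hã : toAdd (ρ₀ (ã⁻¹ * η₀.toMonoidHom ã)) = 1 := by
    rw [map_mul, map_inv, toAdd_mul, toAdd_inv, h₀.equi, hã0, toAdd_ofAdd]
    show -(ζ - 1)⁻¹ + ζ * (ζ - 1)⁻¹ = 1
    field_simp
    ring
  have hãne : η₀ ã ≠ ã := by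
    intro h0
    have h1 : ã⁻¹ * η₀.toMonoidHom ã = 1 := by
      show ã⁻¹ * η₀ ã = 1
      rw [h0, inv_mul_cancel]
    rw [h1, map_one] at hã
    exact zero_ne_one hã
  have hgen₀ := closure_top hd₀ hãne
  obtain ⟨f, hfs, hfη, hfk⟩ := core h₀ hS hpp hd₀.coprime_q hq.one_lt.le hζ.pow_eq_one Hm Hs ã hã a hx
    (fun u hu => hMW _ u hã hu) hgen₀ hgen
  -- the element `y' = y ^ k`
  set y' := y ^ k with hy'
  have hcopn : Nat.Coprime k (q ^ r) := Nat.Coprime.pow_right r hk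
  have hordy' : orderOf y' = q ^ r := by
    rw [hy', Nat.Coprime.orderOf_pow (by rw [hpX.ord]; exact hcopn.symm), hpX.ord]
  have hy'n : y' ^ q ^ r = 1 := by
    rw [← hordy']
    exact pow_orderOf_eq_one y'
  have hconj1 : ∀ u : P, y' * (u : X) * y'⁻¹ = (((η ^ k) u : P) : X) := fun u => hpX.conj_pow k u
  have hfit : ∀ (j : ℕ) (u : P₀), f ((η₀ ^ j) u) = ((η ^ k) ^ j) (f u) := by
    intro j u
    induction j with
    | zero => rfl
    | succ j ih =>
      rw [pow_succ', MulAut.mul_apply, pow_succ', MulAut.mul_apply]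
      have h1 := hfη ((η₀ ^ j) u)
      rw [ih] at h1
      exact h1
  have hconjp : ∀ (j : ℕ) (u : P), y' ^ j * (u : X) * (y' ^ j)⁻¹ = ((((η ^ k) ^ j) u : P) : X) := by
    intro j u
    induction j with
    | zero => simp
    | succ j ih =>
      have e : y' ^ (j + 1) * (u : X) * (y' ^ (j + 1))⁻¹ = y' * (y' ^ j * (u : X) * (y' ^ j)⁻¹) * y'⁻¹ := by
        rw [pow_succ']
        group
      rw [e, ih, hconj1, pow_succ', MulAut.mul_apply]
  let φ₁ : G₁ →* X := SemidirectProduct.lift (P.subtype.comp f) (powHom y' (q ^ r) hy'n) (by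
    intro c
    ext u
    show ((f ((powHom η₀ (q ^ r) hη c) u) : P) : X) = powHom y' (q ^ r) hy'n c * (f u : X) * (powHom y' (q ^ r) hy'n c)⁻¹
    rw [powHom_apply, powHom_apply, hconjp, hfit])
  have hφ₁ : ∀ u c, φ₁ (SemidirectProduct.inl u * SemidirectProduct.inr c) = (f u : X) * y' ^ (toAdd c).val := by
    intro u c
    rw [map_mul]
    show φ₁ (SemidirectProduct.inl u) * φ₁ (SemidirectProduct.inr c) = _
    rw [SemidirectProduct.lift_inl, SemidirectProduct.lift_inr, powHom_apply]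
    rfl
  refine ⟨φ₁.comp eU.toMonoidHom, ?_, ?_⟩
  · intro g
    obtain ⟨k₂, -, hk₂⟩ := Nat.exists_mul_mod_eq_one_of_coprime hcopn (Nat.one_lt_pow (by omega) hq.one_lt)
    have hy : y = y' ^ k₂ := by
      have hyo : y ^ q ^ r = 1 := by
        rw [← hpX.ord]
        exact pow_orderOf_eq_one y
      rw [hy', ← pow_mul, pow_eq_pow_mod (k * k₂) hyo, hk₂, pow_one]
    obtain ⟨u, i, rfl⟩ := hpX.gen g
    obtain ⟨u₀, hu₀⟩ := hfs u
    refine ⟨ULift.up (SemidirectProduct.inl u₀ * SemidirectProduct.inr (ofAdd ((k₂ * i : ℕ) : ZMod (q ^ r)))), ?_⟩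
    show φ₁ (SemidirectProduct.inl u₀ * SemidirectProduct.inr (ofAdd ((k₂ * i : ℕ) : ZMod (q ^ r)))) = _
    rw [hφ₁, toAdd_ofAdd, ZMod.val_natCast, ← pow_eq_pow_mod _ hy'n, hu₀, pow_mul, ← hy]
    rfl
  · intro w hw
    have hw' : φ₁ w.down = 1 := hw
    have hwd : w.down = SemidirectProduct.inl w.down.left * SemidirectProduct.inr w.down.right :=
      (SemidirectProduct.inl_left_mul_inr_right _).symm
    rw [hwd, hφ₁] at hw'
    set u := w.down.left with hu
    set c := w.down.right with hc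
    -- the `p`-part and `q`-part both vanish
    have h1 : y' ^ (toAdd c).val = ((f u)⁻¹ : P) := by
      rw [Subgroup.coe_inv]
      exact eq_inv_of_mul_eq_one_right hw'
    have h2 : y' ^ (toAdd c).val = 1 := by
      obtain ⟨l, hl⟩ := hpX.data.hP (f u)⁻¹
      have h3 : (y' ^ (toAdd c).val) ^ p ^ l = 1 := by
        rw [h1]
        exact congrArg Subtype.val hl
      have h4 : (y' ^ (toAdd c).val) ^ q ^ r = 1 := by
        rw [← pow_mul, mul_comm, pow_mul, hy'n, one_pow]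
      have hc1 : Nat.Coprime (q ^ r) (p ^ l) := Nat.Coprime.pow r l hd₀.coprime_q
      have h5 : orderOf (y' ^ (toAdd c).val) = 1 :=
        Nat.eq_one_of_dvd_coprimes hc1 (orderOf_dvd_of_pow_eq_one h4) (orderOf_dvd_of_pow_eq_one h3)
      exact orderOf_eq_one_iff.1 h5
    have h3 : (toAdd c).val = 0 := by
      have h4 : q ^ r ∣ (toAdd c).val := by
        have h5 := orderOf_dvd_of_pow_eq_one h2
        rwa [hordy'] at h5
      exact Nat.eq_zero_of_dvd_of_lt h4 (ZMod.val_lt _)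
    have hc0 : toAdd c = 0 := (ZMod.val_eq_zero _).1 h3
    have hfu : f u = 1 := by
      rw [h2, mul_one] at hw'
      exact Subtype.ext hw'
    have hρu := hfk u hfu
    have hucen := Subgroup.mem_center_iff.1 (h₀.central u hρu)
    have hufix : η₀ u = u := h₀.fixed u hρu
    have hupow : ∀ j : ℕ, (η₀ ^ j) u = u := by
      intro j
      induction j with
      | zero => rfl
      | succ j ih => rw [pow_succ', MulAut.mul_apply, ih, hufix]
    rw [Subgroup.mem_center_iff]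
    intro g
    apply eU.injective
    rw [map_mul, map_mul]
    show g.down * w.down = w.down * g.down
    have hwd2 : w.down = SemidirectProduct.inl u := by
      rw [hwd]
      have h5 : c = 1 := hc0
      rw [h5, map_one, mul_one]
    rw [hwd2]
    apply SemidirectProduct.ext
    · rw [SemidirectProduct.mul_left, SemidirectProduct.mul_left, SemidirectProduct.left_inl,
        SemidirectProduct.right_inl, map_one]
      show g.down.left * (powHom η₀ (q ^ r) hη g.down.right) u = u * g.down.left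
      rw [powHom_apply, hupow]
      exact hucen _
    · rw [SemidirectProduct.mul_right, SemidirectProduct.mul_right, SemidirectProduct.right_inl, mul_one, one_mul]

end final

end Cfsg.Agent.Lib.SchmidtUni6
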