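import Mathlib
import Cfsg.Agent.Lib.SchmidtUni6

/-!
# Universal minimal non-`p`-nilpotent groups, part 7: the Heisenberg-type model
-/

set_option autoImplicit false
set_option linter.unusedSectionVars false
set_option linter.unusedVariables false
set_option linter.style.haveILetI false

universe u v

namespace Cfsg.Agent.Lib.SchmidtUni7

open Polynomial
open scoped commutatorElement
open Multiplicative (toAdd ofAdd)
open Cfsg.Agent.Lib.SchmidtUni1 Cfsg.Agent.Lib.SchmidtUni2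

section counts

variable {F : Type*} [Field F] [Finite F]

theorem card_le_natDegree (f : F[X]) (hf : f ≠ 0) (S : Set F) (hS : ∀ z ∈ S, f.eval z = 0) :
    Nat.card S ≤ f.natDegree := by
  classical
  have h1 : S ⊆ (f.roots.toFinset : Set F) := by
    intro z hz
    simp only [Finset.mem_coe, Multiset.mem_toFinset]
    exact (mem_roots hf).2 (hS z hz)
  calc Nat.card S ≤ Nat.card (f.roots.toFinset : Set F) := Nat.card_mono (Set.toFinite _) h1
    _ = f.roots.toFinset.card := (Nat.card_coe_set_eq _).trans (Set.ncard_coe_finset _)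
    _ ≤ Multiset.card f.roots := Multiset.toFinset_card_le _
    _ ≤ f.natDegree := card_roots' f

theorem counts {Q : ℕ} (hQ2 : 2 ≤ Q) (hcard : Nat.card F = Q ^ 2) (τ : F →+* F) (hτ : ∀ t, τ t = t ^ Q)
    (hτ2 : ∀ t, τ (τ t) = t) :
    (∀ w, τ w = w → ∃ z, z + τ z = w) ∧ (∀ z, z + τ z = 0 → ∃ t, t - τ t = z) ∧
    Nat.card {z : F // z + τ z = 0} = Q := by
  classical
  let T₁ : F →+ F :=
    { toFun := fun z => z + τ z
      map_zero' := by simp
      map_add' := by intro a b; simp only [map_add]; ring }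
  let T₂ : F →+ F :=
    { toFun := fun z => z - τ z
      map_zero' := by simp
      map_add' := by intro a b; simp only [map_add]; ring }
  have hT₁ : ∀ z, T₁ z = z + τ z := fun _ => rfl
  have hT₂ : ∀ z, T₂ z = z - τ z := fun _ => rfl
  have hk₁ : Nat.card T₁.ker ≤ Q := by
    have hf : (X ^ Q + X : F[X]) ≠ 0 := by
      intro h0
      have h1 := congrArg (fun f => Polynomial.coeff f Q) h0
      simp only [coeff_add, coeff_X_pow_self, coeff_X, coeff_zero] at h1
      rw [if_neg (by omega), add_zero] at h1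
      exact one_ne_zero h1
    have hdeg : (X ^ Q + X : F[X]).natDegree = Q := by
      rw [natDegree_add_eq_left_of_natDegree_lt]
      · simp
      · simpa using (by omega : 1 < Q)
    have h2 := card_le_natDegree (X ^ Q + X : F[X]) hf (T₁.ker : Set F) (by
      intro z hz
      have h3 : z + τ z = 0 := hz
      rw [hτ] at h3
      simp only [eval_add, eval_pow, eval_X]
      rw [add_comm]
      exact h3)
    rwa [hdeg] at h2
  have hk₂ : Nat.card T₂.ker ≤ Q := by
    have hf : (X ^ Q - X : F[X]) ≠ 0 := by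
      intro h0
      have h1 := congrArg (fun f => Polynomial.coeff f Q) h0
      simp only [coeff_sub, coeff_X_pow_self, coeff_X, coeff_zero] at h1
      rw [if_neg (by omega), sub_zero] at h1
      exact one_ne_zero h1
    have hdeg : (X ^ Q - X : F[X]).natDegree = Q := by
      rw [natDegree_sub_eq_left_of_natDegree_lt]
      · simp
      · simpa using (by omega : 1 < Q)
    have h2 := card_le_natDegree (X ^ Q - X : F[X]) hf (T₂.ker : Set F) (by
      intro z hz
      have h3 : z - τ z = 0 := hz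
      rw [hτ] at h3
      simp only [eval_sub, eval_pow, eval_X]
      linear_combination -h3)
    rwa [hdeg] at h2
  have hc₁ : Nat.card T₁.ker * Nat.card T₁.range = Q ^ 2 := by
    rw [← hcard, ← AddSubgroup.index_ker, AddSubgroup.card_mul_index]
  have hc₂ : Nat.card T₂.ker * Nat.card T₂.range = Q ^ 2 := by
    rw [← hcard, ← AddSubgroup.index_ker, AddSubgroup.card_mul_index]
  have hr₂k₁ : T₂.range ≤ T₁.ker := by
    rintro _ ⟨t, rfl⟩
    show T₁ (T₂ t) = 0
    rw [hT₁, hT₂, map_sub, hτ2]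
    ring
  have hr₁k₂ : T₁.range ≤ T₂.ker := by
    rintro _ ⟨t, rfl⟩
    show T₂ (T₁ t) = 0
    rw [hT₁, hT₂, map_add, hτ2]
    ring
  have hQpos : 0 < Q := by omega
  have hle1 : Nat.card T₂.range ≤ Nat.card T₁.ker := Nat.card_mono (Set.toFinite _) hr₂k₁
  have hle2 : Nat.card T₁.range ≤ Nat.card T₂.ker := Nat.card_mono (Set.toFinite _) hr₁k₂
  -- the bound
  have hr₂ : Q ≤ Nat.card T₂.range := by
    by_contra hlt
    push Not at hlt
    have : Nat.card T₂.ker * Nat.card T₂.range < Q * Q := by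
      calc Nat.card T₂.ker * Nat.card T₂.range ≤ Q * Nat.card T₂.range := Nat.mul_le_mul_right _ hk₂
        _ < Q * Q := Nat.mul_lt_mul_of_pos_left hlt hQpos
    rw [hc₂] at this
    nlinarith
  have hk₁Q : Nat.card T₁.ker = Q := le_antisymm hk₁ (hr₂.trans hle1)
  have hr₂Q : Nat.card T₂.range = Q := le_antisymm (hle1.trans hk₁) hr₂
  have hr₁Q : Nat.card T₁.range = Q := by
    rw [hk₁Q] at hc₁
    have h3 : Q * Nat.card T₁.range = Q * Q := by rw [hc₁]; ring
    exact Nat.eq_of_mul_eq_mul_left hQpos h3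
  have hk₂Q : Nat.card T₂.ker = Q := le_antisymm hk₂ (by rw [← hr₁Q]; exact hle2)
  have he1 : T₂.range = T₁.ker := by
    apply AddSubgroup.eq_of_le_of_card_ge hr₂k₁
    rw [hk₁Q, hr₂Q]
  have he2 : T₁.range = T₂.ker := by
    apply AddSubgroup.eq_of_le_of_card_ge hr₁k₂
    rw [hk₂Q, hr₁Q]
  refine ⟨?_, ?_, ?_⟩
  · intro w hw
    have h3 : w ∈ T₂.ker := by
      show T₂ w = 0
      rw [hT₂, hw, sub_self]
    rw [← he2] at h3
    obtain ⟨z, hz⟩ := h3
    exact ⟨z, hz⟩
  · intro z hz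
    have h3 : z ∈ T₁.ker := hz
    rw [← he1] at h3
    obtain ⟨t, ht⟩ := h3
    exact ⟨t, ht⟩
  · exact hk₁Q

end counts

section heis

variable {F : Type} [Field F]

/-- The Heisenberg-type group on `F × F` attached to the ring endomorphism `τ`. -/
@[ext] structure Heis (τ : F →+* F) where
  v : F
  z : F

namespace Heis

variable {τ : F →+* F}

instance : Mul (Heis τ) := ⟨fun a b => ⟨a.v + b.v, a.z + b.z + τ a.v * b.v⟩⟩
instance : One (Heis τ) := ⟨⟨0, 0⟩⟩
instance : Inv (Heis τ) := ⟨fun a => ⟨-a.v, -a.z + τ a.v * a.v⟩⟩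

theorem mul_v (a b : Heis τ) : (a * b).v = a.v + b.v := rfl
theorem mul_z (a b : Heis τ) : (a * b).z = a.z + b.z + τ a.v * b.v := rfl
theorem one_v : (1 : Heis τ).v = 0 := rfl
theorem one_z : (1 : Heis τ).z = 0 := rfl
theorem inv_v (a : Heis τ) : a⁻¹.v = -a.v := rfl
theorem inv_z (a : Heis τ) : a⁻¹.z = -a.z + τ a.v * a.v := rfl

instance : Group (Heis τ) :=
  Group.ofLeftAxioms
    (by
      intro a b c
      ext
      · simp only [mul_v]
        ring
      · simp only [mul_z, mul_v, map_add]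
        ring)
    (by
      intro a
      ext
      · simp only [mul_v, one_v]
        ring
      · simp only [mul_z, one_z, one_v, map_zero]
        ring)
    (by
      intro a
      ext
      · simp only [mul_v, inv_v, one_v]
        ring
      · simp only [mul_z, inv_z, inv_v, one_z, map_neg]
        ring)

instance [Finite F] : Finite (Heis τ) :=
  Finite.of_injective (fun a : Heis τ => (a.v, a.z)) (by
    intro a b h
    exact Heis.ext (congrArg Prod.fst h) (congrArg Prod.snd h))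

theorem comm_formula (a b : Heis τ) : ⁅a, b⁆ = ⟨0, τ a.v * b.v - τ b.v * a.v⟩ := by
  rw [commutatorElement_def]
  ext
  · simp only [mul_v, inv_v]
    ring
  · simp only [mul_z, mul_v, inv_z, inv_v, map_add, map_neg]
    ring

/-- The subgroup `z + τ z = v τ v`. -/
def Pz (τ : F →+* F) (hτ2 : ∀ t, τ (τ t) = t) : Subgroup (Heis τ) where
  carrier := {a | a.z + τ a.z = a.v * τ a.v}
  mul_mem' := by
    intro a b ha hb
    have ha' : a.z + τ a.z = a.v * τ a.v := ha
    have hb' : b.z + τ b.z = b.v * τ b.v := hb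
    show (a * b).z + τ (a * b).z = (a * b).v * τ (a * b).v
    simp only [mul_z, mul_v, map_add, map_mul, hτ2]
    linear_combination ha' + hb'
  one_mem' := by
    show (1 : Heis τ).z + τ (1 : Heis τ).z = (1 : Heis τ).v * τ (1 : Heis τ).v
    simp [one_z, one_v]
  inv_mem' := by
    intro a ha
    have ha' : a.z + τ a.z = a.v * τ a.v := ha
    show a⁻¹.z + τ a⁻¹.z = a⁻¹.v * τ a⁻¹.v
    simp only [inv_z, inv_v, map_add, map_neg, map_mul, hτ2]
    linear_combination -ha'

theorem mem_Pz {hτ2 : ∀ t, τ (τ t) = t} {a : Heis τ} : a ∈ Pz τ hτ2 ↔ a.z + τ a.z = a.v * τ a.v := Iff.rfl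

/-- multiplication by `ζ`. -/
def scale (τ : F →+* F) (hτ2 : ∀ t, τ (τ t) = t) (ζ : F) (hζ0 : ζ ≠ 0) (hζτ : τ ζ = ζ⁻¹) : MulAut (Pz τ hτ2) where
  toFun a := ⟨⟨ζ * a.1.v, a.1.z⟩, by
    have h := a.2
    rw [mem_Pz] at h ⊢
    show a.1.z + τ a.1.z = ζ * a.1.v * τ (ζ * a.1.v)
    rw [h, map_mul, hζτ]
    field_simp⟩
  invFun a := ⟨⟨ζ⁻¹ * a.1.v, a.1.z⟩, by
    have h := a.2
    rw [mem_Pz] at h ⊢
    show a.1.z + τ a.1.z = ζ⁻¹ * a.1.v * τ (ζ⁻¹ * a.1.v)
    rw [h, map_mul, map_inv₀, hζτ]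
    field_simp⟩
  left_inv a := by
    apply Subtype.ext
    ext
    · show ζ⁻¹ * (ζ * a.1.v) = a.1.v
      field_simp
    · rfl
  right_inv a := by
    apply Subtype.ext
    ext
    · show ζ * (ζ⁻¹ * a.1.v) = a.1.v
      field_simp
    · rfl
  map_mul' a b := by
    apply Subtype.ext
    ext
    · show ζ * (a.1.v + b.1.v) = ζ * a.1.v + ζ * b.1.v
      ring
    · show a.1.z + b.1.z + τ a.1.v * b.1.v = a.1.z + b.1.z + τ (ζ * a.1.v) * (ζ * b.1.v)
      rw [map_mul, hζτ]
      field_simp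

theorem scale_v {hτ2 : ∀ t, τ (τ t) = t} {ζ : F} {hζ0 : ζ ≠ 0} {hζτ : τ ζ = ζ⁻¹} (a : Pz τ hτ2) :
    ((scale τ hτ2 ζ hζ0 hζτ a : Pz τ hτ2) : Heis τ).v = ζ * (a : Heis τ).v := rfl

theorem scale_z {hτ2 : ∀ t, τ (τ t) = t} {ζ : F} {hζ0 : ζ ≠ 0} {hζτ : τ ζ = ζ⁻¹} (a : Pz τ hτ2) :
    ((scale τ hτ2 ζ hζ0 hζτ a : Pz τ hτ2) : Heis τ).z = (a : Heis τ).z := rfl

end Heis

open Heis

theorem even_model {p q : ℕ} [hp : Fact p.Prime] {m : ℤ[X]} [CharP F p] [Finite F] {b Q : ℕ} (hQ : Q = p ^ b)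
    (hb : 1 ≤ b) (hcard : Nat.card F = Q ^ 2) (τ : F →+* F) (hτ : ∀ t, τ t = t ^ Q) (hτ2 : ∀ t, τ (τ t) = t)
    {ζ : F} (hζτ : τ ζ = ζ⁻¹) (hζ : ζ ^ q = 1) (hζ0 : ζ ≠ 0) (hζ2 : ζ ^ 2 ≠ 1) (h1W : (1 : F) ∈ WW ζ)
    (Hs : ∀ t : F, ∃ n : ℤ[X], aeval ζ n = t) (hm : aeval ζ m = 0) :
    ∃ (P₀ : Type) (_ : Group P₀) (_ : Finite P₀) (ρ₀ : P₀ →* Multiplicative F) (η₀ : MulAut P₀),
      Side p q m ρ₀ η₀.toMonoidHom (LinearMap.mulLeft ℤ ζ) ∧ (∀ u, ρ₀ u = 1 → u ∈ commutator P₀) ∧
      (∀ x u : P₀, toAdd (ρ₀ x) = 1 → ⁅x, u⁆ = 1 → toAdd (ρ₀ u) ∈ WW ζ) ∧ Nat.card P₀ = p ^ (3 * b) := by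
  classical
  have hpp := hp.out
  have hQ2 : 2 ≤ Q := by
    rw [hQ]
    calc 2 ≤ p := hpp.two_le
      _ = p ^ 1 := (pow_one p).symm
      _ ≤ p ^ b := Nat.pow_le_pow_right hpp.pos hb
  obtain ⟨hc1, hc2, hc3⟩ := counts hQ2 hcard τ hτ hτ2
  let P := Pz τ hτ2
  let ρ₀ : P →* Multiplicative F :=
    { toFun := fun a => ofAdd (a : Heis τ).v
      map_one' := rfl
      map_mul' := fun a b => rfl }
  have hρ₀ : ∀ a : P, toAdd (ρ₀ a) = (a : Heis τ).v := fun _ => rfl
  let η₀ : MulAut P := scale τ hτ2 ζ hζ0 hζτ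
  have hρ1 : ∀ a : P, ρ₀ a = 1 ↔ (a : Heis τ).v = 0 := fun _ => Iff.rfl
  have hsurj : Function.Surjective ρ₀ := by
    intro w
    obtain ⟨z, hz⟩ := hc1 (toAdd w * τ (toAdd w)) (by rw [map_mul, hτ2, mul_comm])
    exact ⟨⟨⟨toAdd w, z⟩, hz⟩, rfl⟩
  have hcardP : Nat.card P = p ^ (3 * b) := by
    have h1 : Nat.card ρ₀.range = Q ^ 2 := by
      rw [MonoidHom.range_eq_top.2 hsurj, Nat.card_congr Subgroup.topEquiv.toEquiv, ← hcard]
      exact Nat.card_congr Multiplicative.toAdd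
    have h2 : Nat.card ρ₀.ker = Q := by
      rw [← hc3]
      refine Nat.card_congr ⟨fun a => ⟨((a : P) : Heis τ).z, ?_⟩, fun z => ⟨⟨⟨0, z.1⟩, ?_⟩, ?_⟩, ?_, ?_⟩
      · have h3 : ((a : P) : Heis τ).v = 0 := (hρ1 _).1 a.2
        have h4 := (a : P).2
        rw [mem_Pz, h3, zero_mul] at h4
        exact h4
      · rw [mem_Pz]
        show z.1 + τ z.1 = 0 * τ 0
        rw [z.2, zero_mul]
      · rfl
      · intro a
        apply Subtype.ext
        apply Subtype.ext
        ext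
        · exact ((hρ1 _).1 a.2).symm
        · rfl
      · intro z
        rfl
    have h3 : Nat.card ρ₀.ker * Nat.card ρ₀.range = Nat.card P := by
      rw [← Subgroup.index_ker, Subgroup.card_mul_index]
    rw [← h3, h1, h2, hQ, ← pow_mul, ← pow_add]
    congr 1
    ring
  have hcommP : ∀ a b : P, ((⁅a, b⁆ : P) : Heis τ) = ⟨0, τ (a : Heis τ).v * (b : Heis τ).v - τ (b : Heis τ).v * (a : Heis τ).v⟩ := by
    intro a b
    have h1 := map_commutatorElement P.subtype a b
    rw [← comm_formula]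
    exact h1
  have hit : ∀ (i : ℕ) (a : P), (((⇑η₀.toMonoidHom)^[i] a : P) : Heis τ).v = ζ ^ i * (a : Heis τ).v ∧
      (((⇑η₀.toMonoidHom)^[i] a : P) : Heis τ).z = (a : Heis τ).z := by
    intro i a
    induction i with
    | zero => simp
    | succ i ih =>
      rw [Function.iterate_succ_apply']
      refine ⟨?_, ih.2⟩
      show ζ * _ = _
      rw [ih.1, pow_succ']
      ring
  refine ⟨P, inferInstance, inferInstance, ρ₀, η₀, ?_, ?_, ?_, hcardP⟩
  · refine ⟨hsurj, fun _ => rfl, ?_, ?_, ?_, ?_, ?_, ?_⟩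
    · intro a ha
      rw [Subgroup.mem_center_iff]
      intro g
      have h1 : (a : Heis τ).v = 0 := (hρ1 a).1 ha
      apply Subtype.ext
      ext
      · show (g : Heis τ).v + (a : Heis τ).v = (a : Heis τ).v + (g : Heis τ).v
        ring
      · show (g : Heis τ).z + (a : Heis τ).z + τ (g : Heis τ).v * (a : Heis τ).v =
          (a : Heis τ).z + (g : Heis τ).z + τ (a : Heis τ).v * (g : Heis τ).v
        rw [h1, map_zero]
        ring
    · intro a ha
      have h1 : (a : Heis τ).v = 0 := (hρ1 a).1 ha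
      apply Subtype.ext
      ext
      · show ζ * (a : Heis τ).v = (a : Heis τ).v
        rw [h1, mul_zero]
      · rfl
    · apply IsPGroup.of_card hcardP
    · intro a
      apply Subtype.ext
      ext
      · rw [(hit q a).1, hζ, one_mul]
      · exact (hit q a).2
    · intro e
      rw [nsmul_eq_mul, CharP.cast_eq_zero F p, zero_mul]
    · ext t
      rw [aeval_mulLeft, hm, zero_mul]
      rfl
  · intro u hu
    have h1 : (u : Heis τ).v = 0 := (hρ1 u).1 hu
    have h2 := u.2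
    rw [mem_Pz, h1, zero_mul] at h2
    obtain ⟨t, ht⟩ := hc2 _ h2
    obtain ⟨a, ha⟩ := hsurj (ofAdd 1)
    obtain ⟨b', hb'⟩ := hsurj (ofAdd t)
    have ha' : (a : Heis τ).v = 1 := congrArg toAdd ha
    have hb'' : (b' : Heis τ).v = t := congrArg toAdd hb'
    have h3 : ⁅a, b'⁆ = u := by
      apply Subtype.ext
      rw [hcommP, ha', hb'', map_one, one_mul, mul_one, ht]
      ext
      · exact h1.symm
      · rfl
    rw [← h3]
    exact Subgroup.commutator_mem_commutator (Subgroup.mem_top a) (Subgroup.mem_top b')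
  · intro x u hx hxu
    have hx' : (x : Heis τ).v = 1 := hx
    have h1 := hcommP x u
    rw [hxu, hx', map_one, one_mul, mul_one] at h1
    have h2 : (u : Heis τ).v - τ (u : Heis τ).v = 0 := (congrArg Heis.z h1).symm
    have h3 : τ (u : Heis τ).v = (u : Heis τ).v := (sub_eq_zero.1 h2).symm
    exact mem_WW_of_fixed hζ0 hζ2 h1W Hs τ hζτ h3

end heis

end Cfsg.Agent.Lib.SchmidtUni7
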