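import Mathlib
import Cfsg.Prelude.Def_CaseTheorems

/-!
# Sectional 2-rank through subgroups containing all squares

`SqBound k S`: whenever `N ≤ H ≤ S` and `H` has all its squares in `N`, the relative index of `N`
in `H` is at most `2 ^ k`. This is equivalent to `Cfsg.SectionalPRankLE 2 k S` and is much more
convenient: it passes to subgroups and quotients by one-line arguments.
-/

set_option autoImplicit false

namespace Cfsg.Agent.Lib.SectRank

open Cfsg

/-- Sectional 2-rank bound in terms of pairs `N ≤ H` with `H²⊆ N`. -/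
def SqBound (k : ℕ) (S : Type*) [Group S] : Prop :=
  ∀ H N : Subgroup S, N ≤ H → (∀ h ∈ H, h ^ 2 ∈ N) → N.relIndex H ≤ 2 ^ k

variable {S T : Type*} [Group S] [Group T]

/-- A group of exponent two is commutative. -/
theorem comm_of_exp_two (h : ∀ x : S, x ^ 2 = 1) (a b : S) : a * b = b * a := by
  have h1 : a * b * (a * b) = 1 := by rw [← pow_two]; exact h _
  have ha : a * a = 1 := by rw [← pow_two]; exact h _
  have hb : b * b = 1 := by rw [← pow_two]; exact h _
  calc a * b = a * b * (a * b) * (b * a) := by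
        have : a * b * (b * a) = 1 := by
          calc a * b * (b * a) = a * (b * b) * a := by group
            _ = 1 := by rw [hb, mul_one, ha]
        calc a * b = a * b * 1 := by rw [mul_one]
          _ = a * b * (a * b * (b * a)) := by rw [this]
          _ = a * b * (a * b) * (b * a) := by group
    _ = b * a := by rw [h1, one_mul]

/-- A subgroup containing all squares of `H` is normal in `H`. -/
theorem normal_of_squares (H N : Subgroup S) (hsq : ∀ h ∈ H, h ^ 2 ∈ N) :
    (N.subgroupOf H).Normal := by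
  constructor
  rintro ⟨n, hn⟩ hn' ⟨g, hg⟩
  rw [Subgroup.mem_subgroupOf] at hn' ⊢
  have e : g * n * g⁻¹ = (g * n) ^ 2 * n⁻¹ * (g⁻¹) ^ 2 := by
    simp only [pow_two]; group
  have h1 := hsq _ (H.mul_mem hg hn)
  have h2 := hsq _ (H.inv_mem hg)
  show g * n * g⁻¹ ∈ N
  rw [e]
  exact N.mul_mem (N.mul_mem h1 (N.inv_mem hn')) h2

theorem sqBound_of_sectional {k : ℕ} (hr : SectionalPRankLE 2 k S) : SqBound k S := by
  intro H N hNH hsq
  have hn := normal_of_squares H N hsq
  have hexp : ∀ a : H ⧸ N.subgroupOf H, a ^ 2 = 1 := by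
    intro a
    induction a using QuotientGroup.induction_on with
    | H z =>
      rw [← QuotientGroup.mk_pow, QuotientGroup.eq_one_iff, Subgroup.mem_subgroupOf]
      simpa using hsq _ z.2
  have h1 := hr H (N.subgroupOf H) (⊤ : Subgroup (H ⧸ N.subgroupOf H))
    ⟨⟨fun a b => Subtype.ext (comm_of_exp_two hexp a.1 b.1)⟩⟩ (fun a _ => hexp a)
  rw [Subgroup.card_top] at h1
  exact h1

theorem sectional_of_sqBound {k : ℕ} (hb : SqBound k S) : SectionalPRankLE 2 k S := by
  intro H N' hN' A hAc hAe
  let π := QuotientGroup.mk' N'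
  let A₁ : Subgroup H := A.comap π
  let H₁ : Subgroup S := A₁.map H.subtype
  let N₁ : Subgroup S := N'.map H.subtype
  have hle : N' ≤ A₁ := by
    intro x hx
    show π x ∈ A
    have : π x = 1 := (QuotientGroup.eq_one_iff _).2 hx
    rw [this]; exact A.one_mem
  have hsub : N₁ ≤ H₁ := Subgroup.map_mono hle
  have hsq : ∀ h ∈ H₁, h ^ 2 ∈ N₁ := by
    rintro _ ⟨x, hx, rfl⟩
    refine ⟨x ^ 2, ?_, by simp⟩
    have h1 : π x ∈ A := hx
    have h2 := hAe _ h1
    rw [← map_pow] at h2
    exact (QuotientGroup.eq_one_iff _).1 h2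
  have h3 := hb H₁ N₁ hsub hsq
  have h4 : N₁.relIndex H₁ = N'.relIndex A₁ :=
    Subgroup.relIndex_map_map_of_injective _ _ H.subtype_injective
  have h5 : N'.relIndex A₁ = Nat.card A := by
    have h6 := Subgroup.relIndex_ker (K := A₁) π
    rw [QuotientGroup.ker_mk'] at h6
    rw [h6, show A₁.map π = A from Subgroup.map_comap_eq_self_of_surjective
      (QuotientGroup.mk'_surjective N') A]
  rw [h4, h5] at h3
  exact h3

theorem sqBound_iff {k : ℕ} : SqBound k S ↔ SectionalPRankLE 2 k S :=
  ⟨sectional_of_sqBound, sqBound_of_sectional⟩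

/-- `SqBound` passes along surjections. -/
theorem SqBound.of_surjective {k : ℕ} (hb : SqBound k S) (f : S →* T)
    (hf : Function.Surjective f) : SqBound k T := by
  intro H N hNH hsq
  have h1 := hb (H.comap f) (N.comap f) (Subgroup.comap_mono hNH) (by
    intro h hh
    show f (h ^ 2) ∈ N
    rw [map_pow]
    exact hsq _ hh)
  rw [Subgroup.relIndex_comap, Subgroup.map_comap_eq_self_of_surjective hf] at h1
  exact h1

/-- `SqBound` passes along injections. -/
theorem SqBound.of_injective {k : ℕ} (hb : SqBound k S) (f : T →* S)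
    (hf : Function.Injective f) : SqBound k T := by
  intro H N hNH hsq
  have h1 := hb (H.map f) (N.map f) (Subgroup.map_mono hNH) (by
    rintro _ ⟨x, hx, rfl⟩
    exact ⟨x ^ 2, hsq x hx, by simp⟩)
  rwa [Subgroup.relIndex_map_map_of_injective _ _ hf] at h1

theorem SqBound.mono {k l : ℕ} (h : k ≤ l) (hb : SqBound k S) : SqBound l S := fun H N hNH hsq =>
  (hb H N hNH hsq).trans (Nat.pow_le_pow_right (by norm_num) h)

/-- The quotient index of a normal subgroup `N` contained in `H`, as a cardinality relation. -/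
theorem card_eq_relIndex_mul {H N : Subgroup S} [Finite S] (h : N ≤ H) :
    Nat.card H = N.relIndex H * Nat.card N := by
  have h1 := Subgroup.card_mul_index (N.subgroupOf H)
  have h2 : Nat.card (N.subgroupOf H) = Nat.card N :=
    Nat.card_congr (Subgroup.subgroupOfEquivOfLe h).toEquiv
  rw [h2] at h1
  rw [← h1, mul_comm]
  rfl

end Cfsg.Agent.Lib.SectRank
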