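import Mathlib
import Cfsg.Agent.H28.Sf
import Cfsg.Agent.Lib.SpSubfield
import Cfsg.Agent.Lib.Om7Base

/-!
# Subfield subgroups in dimension seven: the frame part

Versions of `SpSubfield.all_X`, `Sf.all_frame`, `Sf.T_frame`, `Sf.main_abstract` for a rational hyperbolic family
of three pairs.
-/

set_option autoImplicit false
set_option linter.unusedSectionVars false
set_option linter.unusedVariables false

namespace Cfsg.Agent.Lib.Sf7C73

open Matrix QuadraticMap Cfsg Cfsg.Geo Module
open Cfsg.Agent.Lib.OrthoBasic Cfsg.Agent.Lib.OmCalc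
open Cfsg.Agent.H28.Sf
open Cfsg.Agent.Lib.USubfield (emb emb_add emb_sub emb_neg emb_zero emb_smul emb_single emb_inj mem_iff)
open Cfsg.Agent.Lib.SympT (GL_ext mulVec_mul_GL mulVec_inv_GL inv_mulVec_GL)
open Cfsg.Agent.Lib.TvGL Cfsg.Agent.Lib.SubfieldMax

local notation:70 g:71 " ⋆ " x:70 => Matrix.mulVec (Units.val g) x

theorem all_X3 {G : Type*} [Group G] {ι : Type} [Fintype ι] [DecidableEq ι] {F : Type*} [Field F] [Fintype F]
    {F₀ : Subfield F} {M : Subgroup G} (X : ι → ι → F → G)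
    (hXmul : ∀ i j, i ≠ j → ∀ a b, X i j a * X i j b = X i j (a + b))
    (hXcomm : ∀ i j k, i ≠ j → j ≠ k → i ≠ k → ∀ a b, X i j a * X j k b * (X i j a)⁻¹ * (X j k b)⁻¹ = X i k (a * b))
    {r : ℕ} (hr : r.Prime) (hcard : Fintype.card F = Nat.card F₀ ^ r) (hn : 3 ≤ Fintype.card ι)
    (hT : ∀ i j, i ≠ j → ∀ a ∈ F₀, X i j a ∈ M)
    {p s : ι} (hps : p ≠ s) {a : F} (ha : a ∉ F₀) (haM : X p s a ∈ M) {i j : ι} (hij : i ≠ j) (b : F) :
    X i j b ∈ M := by
  classical
  have move_right : ∀ {i j k : ι} {a : F}, i ≠ j → j ≠ k → i ≠ k → X i j a ∈ M → X i k a ∈ M := by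
    intro i j k a hij hjk hik h
    have h1 := hXcomm i j k hij hjk hik a 1
    rw [mul_one] at h1
    rw [← h1]
    have h2 := hT j k hjk 1 F₀.one_mem
    exact M.mul_mem (M.mul_mem (M.mul_mem h h2) (M.inv_mem h)) (M.inv_mem h2)
  have move_left : ∀ {i j k : ι} {a : F}, i ≠ j → k ≠ i → k ≠ j → X i j a ∈ M → X k j a ∈ M := by
    intro i j k a hij hki hkj h
    have h1 := hXcomm k i j hki hij hkj 1 a
    rw [one_mul] at h1
    rw [← h1]
    have h2 := hT k i hki 1 F₀.one_mem
    exact M.mul_mem (M.mul_mem (M.mul_mem h2 h) (M.inv_mem h2)) (M.inv_mem h)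
  have move_any : ∀ {i j : ι} {a : F}, i ≠ j → X p s a ∈ M → X i j a ∈ M := by
    intro i j a hij h
    obtain ⟨x, hx⟩ := exists_fresh (ι := ι) {p, s} (lt_of_le_of_lt Finset.card_le_two (by omega))
    simp only [Finset.mem_insert, Finset.mem_singleton, not_or] at hx
    obtain ⟨hxp, hxs⟩ := hx
    by_cases hip : i = p
    · subst hip
      by_cases hjs : j = s
      · subst hjs; exact h
      · exact move_right hps (Ne.symm hjs) hij h
    · by_cases hjs : j = s
      · subst hjs
        exact move_left hps hip hij h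
      · by_cases hjp : j = p
        · subst hjp
          by_cases his : i = s
          · subst his
            have h1 : X j x a ∈ M := move_right hps (Ne.symm hxs) (Ne.symm hxp) h
            have h2 : X i x a ∈ M := move_left (Ne.symm hxp) hip (Ne.symm hxs) h1
            exact move_right (Ne.symm hxs) hxp hij h2
          · have h1 : X i s a ∈ M := move_left hps hip his h
            exact move_right his (Ne.symm hps) hij h1
        · have h1 : X p j a ∈ M := move_right hps (Ne.symm hjs) (Ne.symm hjp) h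
          exact move_left (Ne.symm hjp) hip hij h1
  have hmul : ∀ x y : F, X p s x ∈ M → X p s y ∈ M → X p s (x * y) ∈ M := by
    intro x y hx hy
    obtain ⟨z, hz⟩ := exists_fresh (ι := ι) {p, s} (lt_of_le_of_lt Finset.card_le_two (by omega))
    simp only [Finset.mem_insert, Finset.mem_singleton, not_or] at hz
    have h1 : X p z x ∈ M := move_right hps (Ne.symm hz.2) (Ne.symm hz.1) hx
    have h2 : X z s y ∈ M := move_left hps hz.1 hz.2 hy
    rw [← hXcomm p z s (Ne.symm hz.1) hz.2 hps x y]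
    exact M.mul_mem (M.mul_mem (M.mul_mem h1 h2) (M.inv_mem h1)) (M.inv_mem h2)
  have hadd : ∀ x y : F, X p s x ∈ M → X p s y ∈ M → X p s (x + y) ∈ M := by
    intro x y hx hy
    rw [← hXmul p s hps]
    exact M.mul_mem hx hy
  have hneg : ∀ x : F, X p s x ∈ M → X p s (-x) ∈ M := by
    intro x hx
    have h1 := hmul _ _ (hT p s hps (-1) (F₀.neg_mem F₀.one_mem)) hx
    simpa using h1
  let R : Subring F :=
    { carrier := {x | X p s x ∈ M}
      mul_mem' := fun {x y} hx hy => hmul x y hx hy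
      one_mem' := hT p s hps 1 F₀.one_mem
      add_mem' := fun {x y} hx hy => hadd x y hx hy
      zero_mem' := hT p s hps 0 F₀.zero_mem
      neg_mem' := fun {x} hx => hneg x hx }
  let S : Subfield F :=
    { R with
      inv_mem' := by
        intro x hx
        by_cases hx0 : x = 0
        · subst hx0
          rw [_root_.inv_zero]
          exact R.zero_mem
        · have h1 : x ^ (Fintype.card F - 1) = 1 := FiniteField.pow_card_sub_one_eq_one x hx0
          have hq : 2 ≤ Fintype.card F := Fintype.one_lt_card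
          have h2 : x⁻¹ = x ^ (Fintype.card F - 2) := by
            have : Fintype.card F - 1 = (Fintype.card F - 2) + 1 := by omega
            rw [this, pow_succ] at h1
            exact (eq_inv_of_mul_eq_one_left h1).symm
          rw [h2]
          exact R.pow_mem hx _ }
  have hSmem : ∀ x, x ∈ S ↔ X p s x ∈ M := fun x => Iff.rfl
  let E₁ : IntermediateField F₀ F := S.toIntermediateField (fun x => (hSmem _).2 (hT p s hps _ x.2))
  have hE₁ : ∀ x, x ∈ E₁ ↔ X p s x ∈ M := fun x => Iff.rfl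
  have hfr : Module.finrank F₀ F = r := by
    have h1 : Nat.card F = Nat.card F₀ ^ Module.finrank F₀ F := Module.natCard_eq_pow_finrank
    rw [Nat.card_eq_fintype_card, hcard] at h1
    exact (Nat.pow_right_injective (Finite.one_lt_card (α := F₀))) h1.symm
  have htower := Module.finrank_mul_finrank F₀ E₁ F
  rw [hfr] at htower
  have hbig : E₁ = ⊤ := by
    have hd : Module.finrank F₀ E₁ ∣ r := ⟨_, htower.symm⟩
    rcases (Nat.dvd_prime hr).mp hd with h1 | h1
    · exfalso
      have := IntermediateField.finrank_eq_one_iff.mp h1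
      have haE : a ∈ E₁ := (hE₁ a).2 haM
      rw [this, IntermediateField.mem_bot] at haE
      obtain ⟨y, rfl⟩ := haE
      exact ha y.2
    · rw [h1] at htower
      have hr0 := hr.pos
      have : Module.finrank E₁ F = 1 := by
        have h2 : r * Module.finrank E₁ F = r * 1 := by rw [htower, mul_one]
        exact Nat.eq_of_mul_eq_mul_left hr0 h2
      exact IntermediateField.finrank_eq_one_iff_eq_top.mp this
  have hb : b ∈ E₁ := by rw [hbig]; trivial
  exact move_any hij ((hE₁ b).1 hb)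


section Frame

variable {ι : Type} [Fintype ι] [DecidableEq ι] {F : Type*} [Field F] [Fintype F]
  {Q : QuadraticForm F (ι → F)} {hQ : Nondeg Q} {M : Subgroup (GL ι F)} {F₀ : Subfield F}

/-- All the root elements of the Levi part of a frame. -/
theorem all_frame3 (hQ : Nondeg Q) (h : RatQ Q F₀)
    (hM : ∀ e y : ι → F₀, Q0 h e = 0 → polar (Q0 h) e y = 0 → R hQ M (emb e) (emb y))
    {r : ℕ} (hr : r.Prime) (hcard : Fintype.card F = Nat.card F₀ ^ r) {x y : ℕ → ι → F₀}
    (hH : HF (Q0 h) 3 x y) {p s : ℕ} (hp : p < 3) (hs : s < 3) (hps : p ≠ s) {α : F} (hα : α ∉ F₀) (hαM : R hQ M (emb (x p)) (α • emb (y s))) :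
    ∀ i j, i < 3 → j < 3 → i ≠ j → ∀ b : F, R hQ M (emb (x i)) (b • emb (y j)) := by
  classical
  have hEm := HF_emb h hH
  set E : Fin 3 → ι → F := fun i => emb (x i) with hEd
  set G : Fin 3 → ι → F := fun i => emb (y i) with hGd
  have qE : ∀ i, Q (E i) = 0 := fun i => (hEm i i.2 i i.2).1
  have qG : ∀ i, Q (G i) = 0 := fun i => (hEm i i.2 i i.2).2.1
  have hEE : ∀ i j, polar Q (E i) (E j) = 0 := fun i j => (hEm i i.2 j j.2).2.2.1
  have hGG : ∀ i j, polar Q (G i) (G j) = 0 := fun i j => (hEm i i.2 j j.2).2.2.2.1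
  have hEG : ∀ i j, i ≠ j → polar Q (E i) (G j) = 0 := fun i j hij => by
    have := (hEm i i.2 j j.2).2.2.2.2
    have hne : (i : ℕ) ≠ j := fun h => hij (Fin.ext h)
    rwa [if_neg hne] at this
  have hGE : ∀ i j, i ≠ j → polar Q (G j) (E i) = 0 := fun i j hij => by
    rw [polar_comm]
    exact hEG i j hij
  have hEG1 : ∀ i, polar Q (E i) (G i) = 1 := fun i => by
    have := (hEm i i.2 i i.2).2.2.2.2
    rwa [if_pos rfl] at this
  have hGE1 : ∀ i, polar Q (G i) (E i) = 1 := fun i => by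
    rw [polar_comm]
    exact hEG1 i
  have hperp : ∀ i j, i ≠ j → ∀ a : F, polar Q (E i) ((-a) • G j) = 0 := fun i j hij a => by
    rw [polar_smul_r, hEG i j hij, mul_zero]
  let X : Fin 3 → Fin 3 → F → GL ι F := fun i j a =>
    if h' : i ≠ j then sE hQ (qE i) (hperp i j h' a) else 1
  have hXv : ∀ i j (h' : i ≠ j) a, X i j a = sE hQ (qE i) (hperp i j h' a) := fun i j h' a => dif_pos h'
  have hXa : ∀ i j (h' : i ≠ j) a z, X i j a ⋆ z = z - (a * polar Q z (E i)) • G j + (a * polar Q z (G j)) • E i := by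
    intro i j h' a z
    rw [hXv i j h', sE_apply', Q_smul, qG, mul_zero, zero_mul, add_zero, polar_smul_r, neg_smul, neg_mul, neg_smul]
    module
  have hmul : ∀ i j, i ≠ j → ∀ a b, X i j a * X i j b = X i j (a + b) := by
    intro i j hij a b
    apply GL_ext
    intro z
    rw [mulVec_mul_GL, hXa i j hij, hXa i j hij, hXa i j hij]
    simp only [polar_add_left, polar_sub_left, polar_smul_l, hEE, hEG i j hij, hGE1, hGG, hEG1, hGE i j hij]
    module
  have hcomm : ∀ i j k, i ≠ j → j ≠ k → i ≠ k → ∀ a b, X i j a * X j k b * (X i j a)⁻¹ * (X j k b)⁻¹ = X i k (a * b) := by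
    intro i j k hij hjk hik a b
    have e : X i j a * X j k b = X i k (a * b) * (X j k b * X i j a) := by
      apply GL_ext
      intro z
      rw [mulVec_mul_GL, mulVec_mul_GL, mulVec_mul_GL, hXa i j hij, hXa j k hjk, hXa i j hij, hXa j k hjk, hXa i k hik]
      simp only [polar_add_left, polar_sub_left, polar_smul_l, hEE, hGG, hEG1, hGE1, hEG i j hij, hEG j k hjk,
        hEG i k hik, hGE i j hij, hGE j k hjk, hGE i k hik]
      module
    rw [e]
    group
  have hT : ∀ i j, i ≠ j → ∀ a ∈ F₀, X i j a ∈ M := by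
    intro i j hij a ha
    rw [hXv i j hij]
    have e1 : Q0 h (x i) = 0 := (hH i i.2 i i.2).1
    have e2 : polar (Q0 h) (x i) ((-(⟨a, ha⟩ : F₀)) • y j) = 0 := by
      have := (hH i i.2 j j.2).2.2.2.2
      have hne : (i : ℕ) ≠ j := fun h => hij (Fin.ext h)
      rw [if_neg hne] at this
      rw [polar_smul_r, this, mul_zero]
    obtain ⟨p1, p2, p3⟩ := hM _ _ e1 e2
    have e3 : emb ((-(⟨a, ha⟩ : F₀)) • y j) = (-a) • G j := by
      rw [emb_smul]
      rfl
    have e4 : sE hQ p1 p2 = sE hQ (qE i) (hperp i j hij a) := by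
      apply GL_ext
      intro z
      rw [sE_apply, sE_apply, e3]
    rw [← e4]
    exact p3
  have h34 : (⟨p, hp⟩ : Fin 3) ≠ ⟨s, hs⟩ := fun h => hps (congrArg Fin.val h)
  have hstart : X ⟨p, hp⟩ ⟨s, hs⟩ (-α) ∈ M := by
    rw [hXv _ _ h34]
    obtain ⟨p1, p2, p3⟩ := hαM
    convert p3 using 1
    apply GL_ext
    intro z
    rw [sE_apply, sE_apply, neg_neg]
  have hα' : -α ∉ F₀ := fun h0 => hα (by simpa using F₀.neg_mem h0)
  intro i j hi hj hij b
  have hij' : (⟨i, hi⟩ : Fin 3) ≠ ⟨j, hj⟩ := fun h => hij (congrArg Fin.val h)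
  have hfin := all_X3 X hmul hcomm hr hcard (by simp) hT h34 hα' hstart hij' (-b)
  rw [hXv _ _ hij'] at hfin
  refine ⟨(hEm i hi i hi).1, ?_, ?_⟩
  · rw [polar_smul_r]
    have := (hEm i hi j hj).2.2.2.2
    rw [if_neg hij] at this
    rw [show polar Q (emb (x i)) (emb (y j)) = 0 from this, mul_zero]
  · convert hfin using 1
    apply GL_ext
    intro z
    rw [sE_apply, sE_apply, neg_neg]

/-- All Siegel transformations with a given rational centre. -/
theorem T_frame3 (hQ : Nondeg Q) (h : RatQ Q F₀)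
    (hM : ∀ e y : ι → F₀, Q0 h e = 0 → polar (Q0 h) e y = 0 → R hQ M (emb e) (emb y))
    {x y : ℕ → ι → F₀} (hH : HF (Q0 h) 3 x y)
    (hall : ∀ i j, i < 3 → j < 3 → i ≠ j → ∀ b : F, R hQ M (emb (x i)) (b • emb (y j)))
    {i k l : ℕ} (hi : i < 3) (hk : k < 3) (hl : l < 3) (hik : i ≠ k) (hil : i ≠ l) (hkl : k ≠ l) :
    T hQ M (emb (x i)) := by
  classical
  have hEm := HF_emb h hH
  have qEi : Q (emb (x i)) = 0 := (hEm i hi i hi).1
  -- the submodule of good directions
  let A : Submodule F (ι → F) :=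
    { carrier := {z | ∀ c : F, R hQ M (emb (x i)) (c • z)}
      add_mem' := by
        intro a b ha hb c
        rw [smul_add]
        exact R_add (ha c) (hb c)
      zero_mem' := by
        intro c
        rw [smul_zero]
        exact R_zero qEi
      smul_mem' := by
        intro d a ha c
        rw [smul_smul]
        exact ha _ }
  have hA : ∀ z, z ∈ A ↔ ∀ c : F, R hQ M (emb (x i)) (c • z) := fun z => Iff.rfl
  -- singular rational vectors orthogonal to a pair
  have step1 : ∀ m, m < 3 → i ≠ m → ∀ z : ι → F₀, Q0 h z = 0 → polar (Q0 h) z (x i) = 0 → polar (Q0 h) z (x m) = 0 →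
      polar (Q0 h) z (y m) = 0 → emb z ∈ A := by
    intro m hm him z hz1 hz2 hz3 hz4 c
    have e1 : R hQ M (emb (x m)) (emb z) := by
      refine hM _ _ (hH m hm m hm).1 ?_
      rw [polar_comm]
      exact hz3
    have e2 := R_comm (hall i m hi hm him c) e1 ((Q0_eq_zero h).1 hz1) (hEm m hm i hi).2.2.1 ((polar_Q0_eq_zero h).1 hz2)
      (by rw [polar_smul_r, (polar_Q0_eq_zero h).1 hz4, mul_zero])
    have e3 : polar Q (emb (x m)) (c • emb (y m)) = c := by
      rw [polar_smul_r]
      have := (hEm m hm m hm).2.2.2.2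
      rw [if_pos rfl] at this
      rw [show polar Q (emb (x m)) (emb (y m)) = 1 from this, mul_one]
    rw [e3] at e2
    have e4 := R_swap' e2 (by rw [Q_smul, qEi, mul_zero])
    exact R_smul_right qEi c e4
  have hXX : ∀ a b, a < 3 → b < 3 → polar (Q0 h) (x a) (x b) = 0 := fun a b ha hb => (hH a ha b hb).2.2.1
  have hYY : ∀ a b, a < 3 → b < 3 → polar (Q0 h) (y a) (y b) = 0 := fun a b ha hb => (hH a ha b hb).2.2.2.1
  have hXY : ∀ a b, a < 3 → b < 3 → a ≠ b → polar (Q0 h) (x a) (y b) = 0 := fun a b ha hb hab => by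
    have := (hH a ha b hb).2.2.2.2
    rwa [if_neg hab] at this
  have hYX : ∀ a b, a < 3 → b < 3 → a ≠ b → polar (Q0 h) (y a) (x b) = 0 := fun a b ha hb hab => by
    rw [polar_comm]
    exact hXY b a hb ha (Ne.symm hab)
  have hXY1 : ∀ a, a < 3 → polar (Q0 h) (x a) (y a) = 1 := fun a ha => by
    have := (hH a ha a ha).2.2.2.2
    rwa [if_pos rfl] at this
  have hGk : emb (y k) ∈ A := fun c => hall i k hi hk hik c
  have hGl : emb (y l) ∈ A := fun c => hall i l hi hl hil c
  have hEk : emb (x k) ∈ A := step1 l hl hil _ (hH k hk k hk).1 (hXX k i hk hi) (hXX k l hk hl) (hXY k l hk hl hkl)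
  have hEl : emb (x l) ∈ A := step1 k hk hik _ (hH l hl l hl).1 (hXX l i hl hi) (hXX l k hl hk) (hXY l k hl hk (Ne.symm hkl))
  -- rational vectors orthogonal to the centre
  have step3 : ∀ d : ι → F₀, polar (Q0 h) d (x i) = 0 → emb d ∈ A := by
    intro d hd
    set d₂ : ι → F₀ := d - polar (Q0 h) d (y k) • x k - polar (Q0 h) d (x k) • y k with hd₂
    have hk1 := hXY1 k hk
    have hk2 : polar (Q0 h) (y k) (x k) = 1 := by rw [polar_comm]; exact hk1
    have hkk : polar (Q0 h) (x k) (x k) = 0 := hXX k k hk hk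
    have hkk' : polar (Q0 h) (y k) (y k) = 0 := hYY k k hk hk
    have d2i : polar (Q0 h) d₂ (x i) = 0 := by
      rw [hd₂]
      simp only [polar_sub_left, polar_smul_l, hd, hXX k i hk hi, hYX k i hk hi (Ne.symm hik)]
      ring
    have d2k : polar (Q0 h) d₂ (x k) = 0 := by
      rw [hd₂]
      simp only [polar_sub_left, polar_smul_l, hkk, hk2]
      ring
    have d2k' : polar (Q0 h) d₂ (y k) = 0 := by
      rw [hd₂]
      simp only [polar_sub_left, polar_smul_l, hk1, hkk']
      ring
    obtain ⟨t, a, b, ht, hst, htw⟩ := exists_sing_split (hH l hl l hl).1 (hH l hl l hl).2.1 (hXY1 l hl) d₂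
    have ht1 := htw (x i) (hXX l i hl hi) (hYX l i hl hi (Ne.symm hil)) d2i
    have ht2 := htw (x k) (hXX l k hl hk) (hYX l k hl hk (Ne.symm hkl)) d2k
    have ht3 := htw (y k) (hXY l k hl hk (Ne.symm hkl)) (hYY l k hl hk) d2k'
    have htA := step1 k hk hik t ht ht1 ht2 ht3
    have e : (emb d : ι → F) = emb t + (a : F) • emb (x l) + (b : F) • emb (y l) +
        ((polar (Q0 h) d (y k) : F₀) : F) • emb (x k) + ((polar (Q0 h) d (x k) : F₀) : F) • emb (y k) := by
      rw [← emb_smul, ← emb_smul, ← emb_smul, ← emb_smul, ← emb_add, ← emb_add, ← emb_add, ← emb_add, ← hst, hd₂]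
      congr 1
      abel
    rw [e]
    exact A.add_mem (A.add_mem (A.add_mem (A.add_mem htA (A.smul_mem _ hEl)) (A.smul_mem _ hGl)) (A.smul_mem _ hEk))
      (A.smul_mem _ hGk)
  refine ⟨qEi, fun w hw => ?_⟩
  -- expand
  have hwA : w ∈ A := by
    have hsum : w = ∑ j, w j • emb ((Pi.single j (1 : F₀)) - polar (Q0 h) (Pi.single j 1) (x i) • y i) := by
      simp only [emb_sub, emb_smul, smul_sub, Finset.sum_sub_distrib, smul_smul]
      rw [← vec_expand (F₀ := F₀) w]
      have e1 : ∑ j, (w j * ((polar (Q0 h) (Pi.single j 1) (x i) : F₀) : F)) • emb (y i) =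
          (∑ j, w j * ((polar (Q0 h) (Pi.single j 1) (x i) : F₀) : F)) • (emb (y i) : ι → F) := by
        rw [Finset.sum_smul]
      rw [e1]
      have e2 : ∑ j, w j * ((polar (Q0 h) (Pi.single j 1) (x i) : F₀) : F) = polar Q w (emb (x i)) := by
        rw [polar_expand (F₀ := F₀) w]
        exact Finset.sum_congr rfl fun j _ => by rw [polar_Q0]
      rw [e2, polar_comm, hw, zero_smul, sub_zero]
    rw [hsum]
    refine A.sum_mem fun j _ => A.smul_mem _ (step3 _ ?_)
    rw [polar_sub_left, polar_smul_l, polar_comm (Q0 h) (y i) (x i), hXY1 i hi]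
    ring
  have := hwA 1
  rwa [one_smul] at this

/-- The main theorem in the abstract setting, for a rational hyperbolic family of three pairs. -/
theorem main_abstract7 (hQ : Nondeg Q) (h : RatQ Q F₀) (h7 : 7 ≤ Fintype.card ι) {r : ℕ} (hr : r.Prime)
    (hcard : Fintype.card F = Nat.card F₀ ^ r)
    (hM : ∀ e y : ι → F₀, Q0 h e = 0 → polar (Q0 h) e y = 0 → R hQ M (emb e) (emb y))
    {x y : ℕ → ι → F₀} (hH : HF (Q0 h) 3 x y) {p s : ℕ} (hp : p < 3) (hs : s < 3) (hps : p ≠ s)
    {α : F} (hα : α ∉ F₀) (hαM : R hQ M (emb (x p)) (α • emb (y s))) :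
    omegaGL ⇑Q ≤ M := by
  classical
  have hall := all_frame3 hQ h hM hr hcard hH hp hs hps hα hαM
  have T0 := T_frame3 hQ h hM hH hall (i := 0) (k := 1) (l := 2) (by norm_num) (by norm_num) (by norm_num) (by norm_num)
    (by norm_num) (by norm_num)
  have T1 := T_frame3 hQ h hM hH hall (i := 1) (k := 0) (l := 2) (by norm_num) (by norm_num) (by norm_num) (by norm_num)
    (by norm_num) (by norm_num)
  have hEm := HF_emb h hH
  have hY01 : polar (Q0 h) (y 0) (y 1) = 0 := (hH 0 (by norm_num) 1 (by norm_num)).2.2.2.1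
  obtain ⟨p1, p2, p3⟩ := hM _ _ (hH 0 (by norm_num) 0 (by norm_num)).2.1 hY01
  have T2 := T_conj (sE_iso hQ p1 p2) p3 T1
  have e1 : sE hQ p1 p2 ⋆ emb (x 1) = emb (x 1) - emb (y 0) := by
    have a1 : polar Q (emb (x 1)) (emb (y 0)) = 0 := by
      have := (hEm 1 (by norm_num) 0 (by norm_num)).2.2.2.2
      rwa [if_neg (by norm_num)] at this
    have a2 : polar Q (emb (x 1)) (emb (y 1)) = 1 := by
      have := (hEm 1 (by norm_num) 1 (by norm_num)).2.2.2.2
      rwa [if_pos rfl] at this
    have a3 : Q (emb (y 1)) = 0 := (hEm 1 (by norm_num) 1 (by norm_num)).2.1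
    rw [sE_apply', a1, a2, a3]
    simp
  rw [e1] at T2
  refine Cfsg.Agent.Lib.Om7Base.omega_le_of_opp7 hQ h7 T0 T2 ?_
  have a1 : polar Q (emb (x 1)) (emb (x 0)) = 0 := (hEm 1 (by norm_num) 0 (by norm_num)).2.2.1
  have a2 : polar Q (emb (y 0)) (emb (x 0)) = 1 := by
    rw [polar_comm]
    have := (hEm 0 (by norm_num) 0 (by norm_num)).2.2.2.2
    rwa [if_pos rfl] at this
  rw [polar_sub_left, a1, a2]
  simp

end Frame

end Cfsg.Agent.Lib.Sf7C73
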