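import Mathlib

/-!
# Primitive groups with a suborbit of length three: basic set-up

`Sims3.Cub G Ω` records an orbital `R` of a group `G` on `Ω` with three out-neighbours and three
in-neighbours, the two point stabilizers of distinct points generating `G`, and a faithful action.
-/

set_option autoImplicit false

namespace Sims3

open MulAction

variable {G Ω : Type*} [Group G] [MulAction G Ω]

/-- Conjugate of a subgroup. -/
def cj (g : G) (S : Subgroup G) : Subgroup G := S.map (MulAut.conj g).toMonoidHom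

theorem mem_cj {g x : G} {S : Subgroup G} : x ∈ cj g S ↔ g⁻¹ * x * g ∈ S := by
  unfold cj
  constructor
  · rintro ⟨s, hs, rfl⟩
    simpa [mul_assoc] using hs
  · intro h
    refine ⟨_, h, ?_⟩
    simp [mul_assoc]

theorem conj_mem_cj {g s : G} {S : Subgroup G} : g * s * g⁻¹ ∈ cj g S ↔ s ∈ S := by
  rw [mem_cj]; simp [mul_assoc]

theorem cj_one (S : Subgroup G) : cj (1 : G) S = S := by
  ext x; rw [mem_cj]; simp

theorem cj_mul (g h : G) (S : Subgroup G) : cj (g * h) S = cj g (cj h S) := by
  ext x; simp only [mem_cj]; simp [mul_assoc]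

theorem cj_inj {g : G} {S T : Subgroup G} (h : cj g S = cj g T) : S = T := by
  ext x
  rw [← conj_mem_cj (g := g), h, conj_mem_cj]

theorem cj_self_of_mem {g : G} {S : Subgroup G} (hg : g ∈ S) : cj g S = S := by
  ext x
  rw [mem_cj]
  constructor
  · intro h
    have := S.mul_mem (S.mul_mem hg h) (S.inv_mem hg)
    simpa [mul_assoc] using this
  · intro h
    exact S.mul_mem (S.mul_mem (S.inv_mem hg) h) hg

theorem card_cj (g : G) (S : Subgroup G) : Nat.card (cj g S) = Nat.card S := by
  unfold cj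
  exact Subgroup.card_map_of_injective (MulAut.conj g).injective

/-- Center of a subgroup, as a subgroup of the ambient group. -/
def Zc (S : Subgroup G) : Subgroup G := S ⊓ Subgroup.centralizer (S : Set G)

theorem mem_Zc {S : Subgroup G} {z : G} : z ∈ Zc S ↔ z ∈ S ∧ ∀ s ∈ S, s * z = z * s := by
  unfold Zc
  rw [Subgroup.mem_inf, Subgroup.mem_centralizer_iff]
  rfl

theorem Zc_le (S : Subgroup G) : Zc S ≤ S := inf_le_left

theorem Zc_cj (g : G) (S : Subgroup G) : Zc (cj g S) = cj g (Zc S) := by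
  ext z
  rw [mem_cj, mem_Zc, mem_Zc, mem_cj]
  constructor
  · rintro ⟨h1, h2⟩
    refine ⟨h1, fun s hs => ?_⟩
    have := h2 (g * s * g⁻¹) (conj_mem_cj.2 hs)
    have h3 : g⁻¹ * (g * s * g⁻¹ * z) * g = g⁻¹ * (z * (g * s * g⁻¹)) * g := by rw [this]
    simpa [mul_assoc] using h3
  · rintro ⟨h1, h2⟩
    refine ⟨h1, fun s hs => ?_⟩
    have := h2 (g⁻¹ * s * g) (by simpa [mem_cj] using (mem_cj.1 hs))
    have h3 : g * (g⁻¹ * s * g * (g⁻¹ * z * g)) * g⁻¹ = g * (g⁻¹ * z * g * (g⁻¹ * s * g)) * g⁻¹ := by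
      rw [this]
    simpa [mul_assoc] using h3

/-- The data: an orbital with three out- and in-neighbours in a faithful group whose point
stabilizers generate. -/
structure Cub (G Ω : Type*) [Group G] [MulAction G Ω] where
  R : Ω → Ω → Prop
  smul : ∀ (g : G) {x y : Ω}, R x y → R (g • x) (g • y)
  trans : ∀ {x y x' y' : Ω}, R x y → R x' y' → ∃ g : G, g • x = x' ∧ g • y = y'
  ne : ∀ {x y : Ω}, R x y → x ≠ y
  ex_out : ∀ x : Ω, ∃ y, R x y
  ex_in : ∀ y : Ω, ∃ x, R x y
  out3 : ∀ {x y : Ω}, R x y →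
    ∃ y' y'', y ≠ y' ∧ y ≠ y'' ∧ y' ≠ y'' ∧ ∀ z, R x z ↔ z = y ∨ z = y' ∨ z = y''
  in3 : ∀ {x y : Ω}, R y x →
    ∃ y' y'', y ≠ y' ∧ y ≠ y'' ∧ y' ≠ y'' ∧ ∀ z, R z x ↔ z = y ∨ z = y' ∨ z = y''
  idx_out : ∀ {x y : Ω}, R x y →
    Nat.card (stabilizer G x) = 3 * Nat.card (stabilizer G x ⊓ stabilizer G y : Subgroup G)
  idx_in : ∀ {x y : Ω}, R y x →
    Nat.card (stabilizer G x) = 3 * Nat.card (stabilizer G x ⊓ stabilizer G y : Subgroup G)
  join : ∀ {x y : Ω}, x ≠ y → stabilizer G x ⊔ stabilizer G y = ⊤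
  faith : ∀ g : G, (∀ x : Ω, g • x = x) → g = 1

namespace Cub

variable (D : Cub G Ω)

/-- Opposite orbital. -/
def flip : Cub G Ω where
  R x y := D.R y x
  smul g _ _ h := D.smul g h
  trans h h' := let ⟨g, h1, h2⟩ := D.trans h h'; ⟨g, h2, h1⟩
  ne h := (D.ne h).symm
  ex_out := D.ex_in
  ex_in := D.ex_out
  out3 := D.in3
  in3 := D.out3
  idx_out := D.idx_in
  idx_in := D.idx_out
  join := D.join
  faith := D.faith

/-- Point stabilizer. -/
def St (_D : Cub G Ω) (x : Ω) : Subgroup G := stabilizer G x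

/-- Two point stabilizer. -/
def C (x y : Ω) : Subgroup G := D.St x ⊓ D.St y

/-- The kernel of the action of a point stabilizer on its out-neighbours. -/
def K (x : Ω) : Subgroup G where
  carrier := {g | g • x = x ∧ ∀ y, D.R x y → g • y = y}
  mul_mem' := by
    rintro a b ⟨h1, h2⟩ ⟨h3, h4⟩
    refine ⟨by rw [mul_smul, h3, h1], fun y hy => ?_⟩
    rw [mul_smul, h4 y hy, h2 y hy]
  one_mem' := ⟨one_smul _ _, fun _ _ => one_smul _ _⟩
  inv_mem' := by
    rintro a ⟨h1, h2⟩
    refine ⟨by rw [inv_smul_eq_iff, h1], fun y hy => ?_⟩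
    rw [inv_smul_eq_iff, h2 y hy]

variable {D}

theorem mem_St {x : Ω} {g : G} : g ∈ D.St x ↔ g • x = x := Iff.rfl

theorem mem_C {x y : Ω} {g : G} : g ∈ D.C x y ↔ g • x = x ∧ g • y = y := Iff.rfl

theorem mem_K {x : Ω} {g : G} : g ∈ D.K x ↔ g • x = x ∧ ∀ y, D.R x y → g • y = y := Iff.rfl

theorem C_comm (x y : Ω) : D.C x y = D.C y x := inf_comm _ _

theorem flip_C (x y : Ω) : D.flip.C x y = D.C x y := rfl

theorem flip_St (x : Ω) : D.flip.St x = D.St x := rfl

theorem flip_R {x y : Ω} : D.flip.R x y ↔ D.R y x := Iff.rfl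

theorem St_smul (g : G) (x : Ω) : D.St (g • x) = cj g (D.St x) := by
  ext s
  rw [mem_cj, mem_St, mem_St]
  constructor
  · intro h; simp only [mul_smul]; rw [h]; simp
  · intro h
    have h' : g⁻¹ • s • g • x = x := by simpa [mul_smul] using h
    rw [← smul_left_cancel_iff (g⁻¹), h']
    simp

theorem C_smul (g : G) (x y : Ω) : D.C (g • x) (g • y) = cj g (D.C x y) := by
  ext s
  rw [mem_cj]
  unfold C
  rw [St_smul, St_smul, Subgroup.mem_inf, Subgroup.mem_inf, mem_cj, mem_cj]

theorem K_smul (g : G) (x : Ω) : D.K (g • x) = cj g (D.K x) := by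
  ext s
  rw [mem_cj, mem_K, mem_K]
  constructor
  · rintro ⟨h1, h2⟩
    refine ⟨?_, fun y hy => ?_⟩
    · simp [mul_smul, h1]
    · have := h2 (g • y) (D.smul g hy)
      simp [mul_smul, this]
  · rintro ⟨h1, h2⟩
    have h1' : g⁻¹ • s • g • x = x := by simpa [mul_smul] using h1
    refine ⟨by rw [← smul_left_cancel_iff (g⁻¹), h1']; simp, fun y hy => ?_⟩
    have hy' : D.R x (g⁻¹ • y) := by
      have := D.smul g⁻¹ hy
      simpa using this
    have := h2 _ hy'
    have h' : g⁻¹ • s • y = g⁻¹ • y := by simpa [mul_smul] using this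
    exact smul_left_cancel _ h'

theorem K_le_C {x y : Ω} (h : D.R x y) : D.K x ≤ D.C x y := fun _ hg =>
  ⟨hg.1, hg.2 y h⟩

theorem C_le_St_left (x y : Ω) : D.C x y ≤ D.St x := inf_le_left
theorem C_le_St_right (x y : Ω) : D.C x y ≤ D.St y := inf_le_right
theorem K_le_St (x : Ω) : D.K x ≤ D.St x := fun _ hg => hg.1

theorem K_normal {x : Ω} {g k : G} (hg : g ∈ D.St x) (hk : k ∈ D.K x) : g * k * g⁻¹ ∈ D.K x := by
  have := (conj_mem_cj (g := g) (s := k) (S := D.K x)).2 hk
  rwa [← K_smul, mem_St.1 hg] at this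

theorem St_normal_C {x y : Ω} {g : G} : g ∈ D.St x → ∀ s ∈ D.C x y, g * s * g⁻¹ ∈ D.C x (g • y) := by
  intro hg s hs
  have := (conj_mem_cj (g := g) (s := s) (S := D.C x y)).2 hs
  rwa [← C_smul, mem_St.1 hg] at this

/-- Pretransitivity. -/
theorem exists_smul_eq (D : Cub G Ω) (x y : Ω) : ∃ g : G, g • x = y := by
  obtain ⟨x', hx⟩ := D.ex_out x
  obtain ⟨y', hy⟩ := D.ex_out y
  obtain ⟨g, h, -⟩ := D.trans hx hy
  exact ⟨g, h⟩

/-- Fixing two out-neighbours fixes the third. -/
theorem fix_third {x y y' y'' : Ω} {g : G} (hg : g ∈ D.St x) (hy : D.R x y) (hy' : D.R x y')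
    (hy'' : D.R x y'') (h1 : y ≠ y') (h2 : y ≠ y'') (h3 : y' ≠ y'') (hgy : g • y = y)
    (hgy' : g • y' = y') : g • y'' = y'' := by
  obtain ⟨a, b, ha1, ha2, ha3, hall⟩ := D.out3 hy
  have h4 : D.R x (g • y'') := by
    have := D.smul g hy''
    rwa [mem_St.1 hg] at this
  have hne1 : g • y'' ≠ y := by
    intro h
    apply h2
    rw [← hgy] at h
    exact (smul_left_cancel _ h).symm
  have hne2 : g • y'' ≠ y' := by
    intro h
    apply h3
    rw [← hgy'] at h
    exact (smul_left_cancel _ h).symm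
  rcases (hall y'').1 hy'' with h5 | h5 | h5
  · exact absurd h5.symm h2
  · rcases (hall y').1 hy' with h6 | h6 | h6
    · exact absurd h6.symm h1
    · exact absurd (h6.trans h5.symm) h3
    · rcases (hall _).1 h4 with h7 | h7 | h7
      · exact absurd h7 hne1
      · rw [h7, h5]
      · exact absurd (h7.trans h6.symm) hne2
  · rcases (hall y').1 hy' with h6 | h6 | h6
    · exact absurd h6.symm h1
    · rcases (hall _).1 h4 with h7 | h7 | h7
      · exact absurd h7 hne1
      · exact absurd (h7.trans h6.symm) hne2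
      · rw [h7, h5]
    · exact absurd (h6.trans h5.symm) h3

/-- The element fixing one out-neighbour and moving a second one swaps the other two. -/
theorem swap_third {x y y' y'' : Ω} {g : G} (hg : g ∈ D.St x) (hy : D.R x y) (hy' : D.R x y')
    (hy'' : D.R x y'') (h1 : y ≠ y') (h2 : y ≠ y'') (h3 : y' ≠ y'') (hgy : g • y = y)
    (hgy' : g • y' ≠ y') : g • y' = y'' := by
  obtain ⟨a, b, ha1, ha2, ha3, hall⟩ := D.out3 hy
  have h4 : D.R x (g • y') := by
    have := D.smul g hy'
    rwa [mem_St.1 hg] at this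
  have hne1 : g • y' ≠ y := by
    intro h
    apply h1
    rw [← hgy] at h
    exact (smul_left_cancel _ h).symm
  rcases (hall y'').1 hy'' with h5 | h5 | h5
  · exact absurd h5.symm h2
  · rcases (hall y').1 hy' with h6 | h6 | h6
    · exact absurd h6.symm h1
    · exact absurd (h6.trans h5.symm) h3
    · rcases (hall _).1 h4 with h7 | h7 | h7
      · exact absurd h7 hne1
      · rw [h7, h5]
      · exact absurd (h7.trans h6.symm) hgy'
  · rcases (hall y').1 hy' with h6 | h6 | h6
    · exact absurd h6.symm h1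
    · rcases (hall _).1 h4 with h7 | h7 | h7
      · exact absurd h7 hne1
      · exact absurd (h7.trans h6.symm) hgy'
      · rw [h7, h5]
    · exact absurd (h6.trans h5.symm) h3

/-- Right-stable subsets of `G` containing `1` are everything, since stabilizers generate. -/
theorem top_of_right_stable {x y : Ω} (hne : x ≠ y) (P : G → Prop) (h1 : P 1)
    (hx : ∀ l, P l → ∀ s ∈ D.St x, P (l * s)) (hy : ∀ l, P l → ∀ s ∈ D.St y, P (l * s)) (g : G) :
    P g := by
  have hg : g ∈ stabilizer G x ⊔ stabilizer G y := by rw [D.join hne]; trivial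
  rw [Subgroup.sup_eq_closure] at hg
  induction hg using Subgroup.closure_induction_right with
  | one => exact h1
  | mul_right l _ s hs hl =>
    rcases hs with hs | hs
    · exact hx l hl s hs
    · exact hy l hl s hs
  | mul_inv_cancel l _ s hs hl =>
    rcases hs with hs | hs
    · exact hx l hl s⁻¹ (Subgroup.inv_mem _ hs)
    · exact hy l hl s⁻¹ (Subgroup.inv_mem _ hs)

/-- A point-fixing element commuting with all of two different stabilizers is trivial. -/
theorem central_two {x y : Ω} (hne : x ≠ y) {z : G} (hz : z ∈ D.St x)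
    (hx : ∀ s ∈ D.St x, s * z = z * s) (hy : ∀ s ∈ D.St y, s * z = z * s) : z = 1 := by
  have hcomm : ∀ g : G, g * z = z * g := by
    intro g
    have hg : g ∈ stabilizer G x ⊔ stabilizer G y := by rw [D.join hne]; trivial
    have hle : stabilizer G x ⊔ stabilizer G y ≤ Subgroup.centralizer ({z} : Set G) := by
      apply sup_le
      · intro s hs
        rw [Subgroup.mem_centralizer_singleton_iff]
        exact (hx s hs).symm ▸ rfl
      · intro s hs
        rw [Subgroup.mem_centralizer_singleton_iff]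
        exact (hy s hs).symm ▸ rfl
    have := hle hg
    rw [Subgroup.mem_centralizer_singleton_iff] at this
    exact this
  apply D.faith
  intro w
  obtain ⟨g, rfl⟩ := D.exists_smul_eq x w
  rw [← mul_smul, ← hcomm, mul_smul, mem_St.1 hz]

/-- A subgroup inside a point stabilizer normalized by two different stabilizers is trivial. -/
theorem normal_two {x y : Ω} (hne : x ≠ y) {X : Subgroup G} (hX : X ≤ D.St x)
    (hx : ∀ s ∈ D.St x, ∀ t ∈ X, s * t * s⁻¹ ∈ X) (hy : ∀ s ∈ D.St y, ∀ t ∈ X, s * t * s⁻¹ ∈ X) :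
    X = ⊥ := by
  have hall : ∀ g : G, ∀ t ∈ X, g * t * g⁻¹ ∈ X := by
    apply D.top_of_right_stable hne
    · intro t ht; simpa using ht
    · intro l hl s hs t ht
      have := hl _ (hx s hs t ht)
      simpa [mul_assoc] using this
    · intro l hl s hs t ht
      have := hl _ (hy s hs t ht)
      simpa [mul_assoc] using this
  rw [eq_bot_iff]
  intro t ht
  rw [Subgroup.mem_bot]
  apply D.faith
  intro w
  obtain ⟨g, rfl⟩ := D.exists_smul_eq x w
  have h1 := hX (hall g⁻¹ t ht)
  have h2 := mem_St.1 h1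
  have h3 : g⁻¹ • t • g • x = x := by simpa [mul_smul] using h2
  rw [← smul_left_cancel_iff g⁻¹, h3]
  simp

/-! ### Step one: the two-point stabilizers are 2-groups -/

theorem odd_fix_of_sq {g : G} {z : Ω} (hodd : Odd (orderOf g)) (h : g • g • z = z) : g • z = z := by
  obtain ⟨m, hm⟩ := hodd
  have h2 : (g * g) • z = z := by rw [mul_smul, h]
  have h3 : ∀ n : ℕ, (g ^ (2 * n)) • z = z := by
    intro n
    induction n with
    | zero => simp
    | succ n ih =>
      have : g ^ (2 * (n + 1)) = (g * g) * g ^ (2 * n) := by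
        rw [show 2 * (n + 1) = 2 + 2 * n by ring, pow_add, pow_two]
      rw [this, mul_smul, ih, h2]
  have h4 : g = g ^ (2 * (m + 1)) := by
    have h5 : g ^ (2 * m + 1) = 1 := by rw [← hm]; exact pow_orderOf_eq_one g
    have : 2 * (m + 1) = (2 * m + 1) + 1 := by ring
    rw [this, pow_succ, h5, one_mul]
  rw [h4]
  exact h3 _

theorem odd_fix_out {x y : Ω} {g : G} (hxy : D.R x y) (hg : g ∈ D.C x y) (hodd : Odd (orderOf g))
    {z : Ω} (hz : D.R x z) : g • z = z := by
  obtain ⟨a, b, h1, h2, h3, hall⟩ := D.out3 hxy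
  have hax : D.R x a := (hall a).2 (Or.inr (Or.inl rfl))
  have hbx : D.R x b := (hall b).2 (Or.inr (Or.inr rfl))
  have hgx := hg.1
  have hgy := hg.2
  have key : ∀ z, D.R x z → z ≠ y → g • g • z = z := by
    intro z hz hzy
    by_cases hf : g • z = z
    · rw [hf, hf]
    · rcases (hall z).1 hz with h | h | h
      · exact absurd h hzy
      · subst h
        have h5 := D.swap_third hgx hxy hax hbx h1 h2 h3 hgy hf
        by_contra hne
        have h6 : g • b ≠ b := by
          intro h7
          rw [← h5] at h7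
          rw [h5] at h7
          have := h7
          exact h3 (by
            have h8 : g • z = g • b := by rw [h5, h7]
            exact smul_left_cancel _ h8)
        have h7 := D.swap_third hgx hxy hbx hax h2 h1 h3.symm hgy h6
        rw [h5, h7] at hne
        exact hne rfl
      · subst h
        have h5 := D.swap_third hgx hxy hbx hax h2 h1 h3.symm hgy hf
        by_contra hne
        have h6 : g • a ≠ a := by
          intro h7
          have h8 : g • z = g • a := by rw [h5, h7]
          exact h3 (smul_left_cancel _ h8).symm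
        have h7 := D.swap_third hgx hxy hax hbx h1 h2 h3 hgy h6
        rw [h5, h7] at hne
        exact hne rfl
  by_cases hzy : z = y
  · rw [hzy, hgy]
  · exact odd_fix_of_sq hodd (key z hz hzy)

theorem odd_eq_one [Finite G] {x y : Ω} {g : G} (hxy : D.R x y) (hg : g ∈ D.C x y)
    (hodd : Odd (orderOf g)) : g = 1 := by
  have hstep : ∀ l : G, (g • l • x = l • x ∧ g • l • y = l • y) := by
    apply D.top_of_right_stable (D.ne hxy)
    · simpa using mem_C.1 hg
    · rintro l ⟨h1, h2⟩ s hs
      have h3 : (l * s) • x = l • x := by rw [mul_smul, mem_St.1 hs]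
      refine ⟨by rw [h3, h1], ?_⟩
      have harc : D.R (l • x) (l • y) := D.smul l hxy
      have harc2 : D.R (l • x) ((l * s) • y) := by
        have := D.smul (l * s) hxy
        rwa [h3] at this
      exact odd_fix_out harc ⟨h1, h2⟩ hodd harc2
    · rintro l ⟨h1, h2⟩ s hs
      have h3 : (l * s) • y = l • y := by rw [mul_smul, mem_St.1 hs]
      refine ⟨?_, by rw [h3, h2]⟩
      have harc : D.flip.R (l • y) (l • x) := D.smul l hxy
      have harc2 : D.flip.R (l • y) ((l * s) • x) := by
        have := D.smul (l * s) hxy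
        rw [h3] at this
        exact this
      have hg' : g ∈ D.flip.C (l • y) (l • x) := ⟨h2, h1⟩
      exact odd_fix_out harc hg' hodd harc2
  apply D.faith
  intro w
  obtain ⟨l, rfl⟩ := D.exists_smul_eq x w
  exact (hstep l).1

/-- Two-point stabilizers of arcs are 2-groups. -/
theorem two_group [Finite G] {x y : Ω} (hxy : D.R x y) :
    ∃ k : ℕ, Nat.card (D.C x y) = 2 ^ k := by
  haveI : Finite (D.C x y) := inferInstance
  refine ⟨_, Nat.eq_prime_pow_of_unique_prime_dvd Nat.card_pos.ne' ?_⟩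
  intro p hp hdvd
  haveI : Fact p.Prime := ⟨hp⟩
  obtain ⟨g, hg⟩ := exists_prime_orderOf_dvd_card' p hdvd
  by_contra hne
  have hodd : Odd (orderOf (g : G)) := by
    rw [Subgroup.orderOf_coe, hg]
    exact hp.odd_of_ne_two hne
  have := odd_eq_one hxy g.2 hodd
  have hg1 : g = 1 := Subtype.ext this
  rw [hg1, orderOf_one] at hg
  exact hp.one_lt.ne hg

end Cub

end Sims3
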