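import Mathlib
import Cfsg.Agent.Lib.Sims3A

/-!
# Suborbit of length three: flags
-/

set_option autoImplicit false

namespace Sims3

open MulAction

variable {G Ω : Type*} [Group G] [MulAction G Ω]

/-- Conjugation action of `S` on a subgroup `X` it normalizes. -/
def conjActOn (S X : Subgroup G) (h : ∀ s ∈ S, ∀ t ∈ X, s * t * s⁻¹ ∈ X) : MulAction S X where
  smul s t := ⟨s * t * s⁻¹, h s s.2 t t.2⟩
  one_smul t := Subtype.ext (by
    change (1 : G) * (t : G) * (1 : G)⁻¹ = t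
    simp)
  mul_smul a b t := Subtype.ext (by
    change ((a : G) * b) * (t : G) * ((a : G) * b)⁻¹ = a * (b * t * (b : G)⁻¹) * (a : G)⁻¹
    simp [mul_assoc])

/-- A nontrivial subgroup normalized by a 2-group `S`, of 2-power order, contains a nontrivial
element commuting with `S`. -/
theorem exists_fixed_of_two_group [Finite G] {S X : Subgroup G} {k : ℕ}
    (hS : Nat.card S = 2 ^ k) (hXS : X ≤ S) (hn : ∀ s ∈ S, ∀ t ∈ X, s * t * s⁻¹ ∈ X) (hX : X ≠ ⊥) :
    ∃ z ∈ X, z ≠ 1 ∧ ∀ s ∈ S, s * z = z * s := by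
  classical
  letI := conjActOn S X hn
  have hP : IsPGroup 2 S := IsPGroup.of_card hS
  have hmod := hP.card_modEq_card_fixedPoints X
  have hXcard : (2 : ℕ) ∣ Nat.card X := by
    have hdvd : Nat.card X ∣ 2 ^ k := by
      rw [← hS]; exact Subgroup.card_dvd_of_le hXS
    obtain ⟨m, -, hm⟩ := (Nat.dvd_prime_pow Nat.prime_two).1 hdvd
    rw [hm]
    rcases m with _ | m
    · exfalso
      apply hX
      have : Nat.card X = 1 := by rw [hm]; simp
      exact (Subgroup.card_eq_one).1 this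
    · exact Dvd.intro_left (2 ^ m) (by ring)
  have hfix2 : (2 : ℕ) ∣ Nat.card (fixedPoints S X) := by
    have := (Nat.modEq_zero_iff_dvd.1 (hmod.symm.trans (Nat.modEq_zero_iff_dvd.2 hXcard)))
    exact this
  have hone : (1 : X) ∈ fixedPoints S X := by
    intro s
    apply Subtype.ext
    change (s : G) * ((1 : X) : G) * (s : G)⁻¹ = ((1 : X) : G)
    simp
  haveI : Nonempty (fixedPoints S X) := ⟨⟨1, hone⟩⟩
  have hpos : 0 < Nat.card (fixedPoints S X) := Nat.card_pos
  have h2le : 2 ≤ Nat.card (fixedPoints S X) := Nat.le_of_dvd hpos hfix2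
  have hnt : Nontrivial (fixedPoints S X) := by
    rw [← Finite.one_lt_card_iff_nontrivial]; omega
  obtain ⟨⟨z, hz⟩, hz1⟩ := exists_ne (⟨1, hone⟩ : fixedPoints S X)
  refine ⟨z, z.2, ?_, ?_⟩
  · intro h
    apply hz1
    apply Subtype.ext
    exact Subtype.ext h
  · intro s hs
    have := hz ⟨s, hs⟩
    have h2 : s * (z : G) * s⁻¹ = z := congrArg Subtype.val this
    calc s * (z : G) = s * z * s⁻¹ * s := by simp
      _ = z * s := by rw [h2]

/-- Lemma for the final counting: a subgroup meets an index two subgroup in index at most two. -/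
theorem card_le_two_mul_inf [Finite G] {H N X : Subgroup G} (hX : X ≤ H)
    (h : ∀ s ∈ H, ∀ t ∈ H, s ∉ N → t ∉ N → s * t⁻¹ ∈ N) :
    Nat.card X ≤ 2 * Nat.card (X ⊓ N : Subgroup G) := by
  classical
  by_cases hXN : X ≤ N
  · rw [inf_eq_left.2 hXN]
    have : 0 < Nat.card X := Nat.card_pos
    omega
  · obtain ⟨t, htX, htN⟩ := SetLike.not_le_iff_exists.1 hXN
    have hsub : ∀ s : X, (s : G) ∉ N → (s : G) * t⁻¹ ∈ (X ⊓ N : Subgroup G) := fun s hs =>
      ⟨X.mul_mem s.2 (X.inv_mem htX), h _ (hX s.2) _ (hX htX) hs htN⟩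
    let f : X → (X ⊓ N : Subgroup G) ⊕ (X ⊓ N : Subgroup G) := fun s =>
      if hs : (s : G) ∈ N then Sum.inl ⟨s, s.2, hs⟩ else Sum.inr ⟨(s : G) * t⁻¹, hsub s hs⟩
    have hf : Function.Injective f := by
      intro a b hab
      apply Subtype.ext
      simp only [f] at hab
      split_ifs at hab with h1 h2 h2
      · simpa using congrArg Subtype.val (Sum.inl.inj hab)
      · simpa using congrArg Subtype.val (Sum.inr.inj hab)
    have := Nat.card_le_card_of_injective f hf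
    rw [Nat.card_sum] at this
    omega

namespace Cub

variable {D : Cub G Ω}

theorem card_St_out {x y : Ω} (h : D.R x y) : Nat.card (D.St x) = 3 * Nat.card (D.C x y) :=
  D.idx_out h

theorem card_St_in {x y : Ω} (h : D.R y x) : Nat.card (D.St x) = 3 * Nat.card (D.C y x) := by
  rw [C_comm]; exact D.idx_in h

/-- The 2-group fixes an out-neighbour: every in-flag is an out-flag. -/
theorem in_eq_out [Finite G] {i x : Ω} (hix : D.R i x) : ∃ y, D.R x y ∧ D.C i x = D.C x y := by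
  classical
  obtain ⟨y₀, hy₀⟩ := D.ex_out x
  obtain ⟨k, hk⟩ := D.two_group hix
  have hQ : IsPGroup 2 (D.C i x) := IsPGroup.of_card hk
  let A : SubMulAction (D.C i x) Ω :=
    { carrier := {y | D.R x y}
      smul_mem' := by
        intro q y hy
        have h1 := D.smul (q : G) hy
        have h2 : (q : G) • x = x := q.2.2
        rw [h2] at h1
        exact h1 }
  obtain ⟨a, b, h1, h2, h3, hall⟩ := D.out3 hy₀
  have hcard : Nat.card A = 3 := by
    have hset : ({y₀, a, b} : Set Ω).ncard = 3 := Set.ncard_eq_three.2 ⟨y₀, a, b, h1, h2, h3, rfl⟩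
    rw [← hset, ← Nat.card_coe_set_eq]
    apply Nat.card_congr
    apply Equiv.subtypeEquivRight
    intro z
    change D.R x z ↔ z ∈ ({y₀, a, b} : Set Ω)
    rw [hall z]
    simp
  obtain ⟨⟨y, hy⟩, hfix⟩ := hQ.nonempty_fixed_point_of_prime_not_dvd_card A
    (by rw [hcard]; norm_num)
  have hy' : D.R x y := hy
  refine ⟨y, hy', ?_⟩
  have hle : D.C i x ≤ D.C x y := by
    intro q hq
    refine ⟨hq.2, ?_⟩
    have := hfix ⟨q, hq⟩
    exact congrArg Subtype.val this
  apply Subgroup.eq_of_le_of_card_ge hle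
  have h4 := card_St_out hy'
  have h5 := card_St_in hix
  omega

/-- Every out-flag is an in-flag. -/
theorem out_eq_in [Finite G] {x y : Ω} (hxy : D.R x y) : ∃ i, D.R i x ∧ D.C x y = D.C i x := by
  obtain ⟨i, hi, h⟩ := in_eq_out (D := D.flip) (i := y) (x := x) hxy
  refine ⟨i, hi, ?_⟩
  have h' : D.C y x = D.C x i := h
  rw [C_comm x y, h', C_comm x i]

/-- Fixing two out-neighbours fixes all. -/
theorem fix_all {x y y' : Ω} {g : G} (hg : g ∈ D.St x) (hy : D.R x y) (hy' : D.R x y')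
    (h1 : y ≠ y') (hgy : g • y = y) (hgy' : g • y' = y') : g ∈ D.K x := by
  refine ⟨hg, fun z hz => ?_⟩
  by_cases h2 : z = y
  · rw [h2, hgy]
  by_cases h3 : z = y'
  · rw [h3, hgy']
  exact fix_third hg hy hy' hz h1 (Ne.symm h2) (Ne.symm h3) hgy hgy'

/-- `K` also fixes the in-neighbours. -/
theorem K_fix_in [Finite G] {i x : Ω} {k : G} (hk : k ∈ D.K x) (hi : D.R i x) : k • i = i := by
  obtain ⟨y, hy, h⟩ := in_eq_out hi
  have : k ∈ D.C i x := by rw [h]; exact K_le_C hy hk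
  exact this.1

theorem mem_K_in [Finite G] {x : Ω} {k : G} :
    k ∈ D.K x ↔ k • x = x ∧ ∀ i, D.R i x → k • i = i := by
  constructor
  · intro hk
    exact ⟨hk.1, fun i hi => K_fix_in hk hi⟩
  · rintro ⟨h1, h2⟩
    refine ⟨h1, fun y hy => ?_⟩
    obtain ⟨i, hi, h⟩ := out_eq_in hy
    have : k ∈ D.C x y := by rw [h]; exact ⟨h2 i hi, h1⟩
    exact this.2

theorem K_le_C_in [Finite G] {i x : Ω} (hi : D.R i x) : D.K x ≤ D.C i x := fun _ hk =>
  ⟨K_fix_in hk hi, hk.1⟩

/-- The degenerate case: if some flags coincide then everything is trivial. -/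
theorem caseI [Finite G] {x y y' : Ω} (hy : D.R x y) (hy' : D.R x y') (hne : y ≠ y')
    (hC : D.C x y = D.C x y') {u w : Ω} (huw : D.R u w) : D.C u w = ⊥ := by
  have hle : ∀ {u w : Ω}, D.R u w → D.C u w ≤ D.K u := by
    intro u w huw
    obtain ⟨g, rfl, rfl⟩ := D.trans hy huw
    rw [C_smul, K_smul]
    intro s hs
    rw [mem_cj] at hs ⊢
    have h1 : g⁻¹ * s * g ∈ D.C x y' := by rw [← hC]; exact hs
    exact fix_all hs.1 hy hy' hne hs.2 h1.2
  obtain ⟨z, hz, hCz⟩ := in_eq_out huw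
  apply normal_two (D.ne huw) (C_le_St_left u w)
  · intro s hs t ht
    exact K_le_C huw (K_normal hs (hle huw ht))
  · intro s hs t ht
    rw [hCz] at ht ⊢
    exact K_le_C hz (K_normal hs (hle hz ht))

end Cub

/-- The non-degenerate case: distinct out-neighbours give distinct two point stabilizers. -/
structure Cb (G Ω : Type*) [Group G] [MulAction G Ω] extends Cub G Ω where
  ni : ∀ {x y y' : Ω}, R x y → R x y' → toCub.C x y = toCub.C x y' → y = y'

namespace Cb

open Cub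

variable {D : Cb G Ω}

/-- Out-flag at `x`. -/
def Fl (D : Cb G Ω) (x : Ω) (S : Subgroup G) : Prop := ∃ y, D.R x y ∧ D.C x y = S

theorem fl_out {x y : Ω} (h : D.R x y) : D.Fl x (D.C x y) := ⟨y, h, rfl⟩

theorem fl_in [Finite G] {i x : Ω} (h : D.R i x) : D.Fl x (D.C i x) := by
  obtain ⟨y, hy, h2⟩ := in_eq_out h
  exact ⟨y, hy, h2.symm⟩

theorem Fl.exists_in [Finite G] {x : Ω} {S : Subgroup G} (h : D.Fl x S) :
    ∃ i, D.R i x ∧ D.C i x = S := by
  obtain ⟨y, hy, rfl⟩ := h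
  obtain ⟨i, hi, h2⟩ := out_eq_in hy
  exact ⟨i, hi, h2.symm⟩

theorem Fl.smul {x : Ω} {S : Subgroup G} (h : D.Fl x S) (g : G) : D.Fl (g • x) (cj g S) := by
  obtain ⟨y, hy, rfl⟩ := h
  exact ⟨g • y, D.smul g hy, C_smul g x y⟩

theorem Fl.trans {x x' : Ω} {S S' : Subgroup G} (h : D.Fl x S) (h' : D.Fl x' S') :
    ∃ g : G, g • x = x' ∧ cj g S = S' := by
  obtain ⟨y, hy, rfl⟩ := h
  obtain ⟨y', hy', rfl⟩ := h'
  obtain ⟨g, rfl, rfl⟩ := D.toCub.trans hy hy'
  exact ⟨g, rfl, (C_smul g x y).symm⟩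

theorem Fl.K_le {x : Ω} {S : Subgroup G} (h : D.Fl x S) : D.K x ≤ S := by
  obtain ⟨y, hy, rfl⟩ := h
  exact K_le_C hy

theorem Fl.le_St {x : Ω} {S : Subgroup G} (h : D.Fl x S) : S ≤ D.St x := by
  obtain ⟨y, hy, rfl⟩ := h
  exact C_le_St_left x y

theorem Fl.two [Finite G] {x : Ω} {S : Subgroup G} (h : D.Fl x S) : ∃ k, Nat.card S = 2 ^ k := by
  obtain ⟨y, hy, rfl⟩ := h
  exact two_group hy

theorem Fl.card_St [Finite G] {x : Ω} {S : Subgroup G} (h : D.Fl x S) :
    Nat.card (D.St x) = 3 * Nat.card S := by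
  obtain ⟨y, hy, rfl⟩ := h
  exact card_St_out hy

theorem Fl.card_eq [Finite G] {x x' : Ω} {S S' : Subgroup G} (h : D.Fl x S) (h' : D.Fl x' S') :
    Nat.card S = Nat.card S' := by
  obtain ⟨g, -, rfl⟩ := h.trans h'
  exact (card_cj g S).symm

/-- A conjugate of a flag by an element of the stabilizer. -/
theorem Fl.conj {x : Ω} {S : Subgroup G} (h : D.Fl x S) {g : G} (hg : g ∈ D.St x) :
    D.Fl x (cj g S) := by
  have := h.smul g
  rwa [mem_St.1 hg] at this

/-- Each flag has an element outside `K`. -/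
theorem Fl.exists_not_K [Finite G] {x : Ω} {S : Subgroup G} (h : D.Fl x S) :
    ∃ s ∈ S, s ∉ D.K x := by
  obtain ⟨y, hy, rfl⟩ := h
  by_contra hcon
  push Not at hcon
  obtain ⟨y', y'', h1, -, -, hall⟩ := D.out3 hy
  have hy' : D.R x y' := (hall y').2 (Or.inr (Or.inl rfl))
  have hle : D.C x y ≤ D.C x y' := fun s hs => K_le_C hy' (hcon s hs)
  have heq : D.C x y = D.C x y' := by
    apply Subgroup.eq_of_le_of_card_ge hle
    have h4 := card_St_out hy
    have h5 := card_St_out hy'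
    omega
  exact h1 (D.ni hy hy' heq)

/-- The flags of an element outside `K`: it swaps the two other out-neighbours. -/
theorem swap_of_not_K {x y y' y'' : Ω} {s : G} (hs : s ∈ D.C x y) (hsK : s ∉ D.K x) (hy : D.R x y)
    (hy' : D.R x y') (hy'' : D.R x y'') (h1 : y ≠ y') (h2 : y ≠ y'') (h3 : y' ≠ y'') :
    s • y' = y'' := by
  apply swap_third hs.1 hy hy' hy'' h1 h2 h3 hs.2
  intro h
  exact hsK (fix_all hs.1 hy hy' h1 hs.2 h)

/-- Index two at the level of elements. -/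
theorem Fl.index2 {x : Ω} {S : Subgroup G} (h : D.Fl x S) {s t : G} (hs : s ∈ S) (ht : t ∈ S)
    (hsK : s ∉ D.K x) (htK : t ∉ D.K x) : s * t⁻¹ ∈ D.K x := by
  obtain ⟨y, hy, rfl⟩ := h
  obtain ⟨y', y'', h1, h2, h3, hall⟩ := D.out3 hy
  have hy' : D.R x y' := (hall y').2 (Or.inr (Or.inl rfl))
  have hy'' : D.R x y'' := (hall y'').2 (Or.inr (Or.inr rfl))
  have h4 := swap_of_not_K hs hsK hy hy' hy'' h1 h2 h3
  have h5 := swap_of_not_K ht htK hy hy'' hy' h2 h1 h3.symm
  have hm : s * t⁻¹ ∈ D.C x y := (D.C x y).mul_mem hs ((D.C x y).inv_mem ht)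
  apply fix_all hm.1 hy hy' h1 hm.2
  have h7 : t⁻¹ • y' = y'' := by rw [inv_smul_eq_iff, h5]
  rw [mul_smul, h7]
  exact swap_of_not_K hs hsK hy hy'' hy' h2 h1 h3.symm

/-- Two distinct flags at a point generate the stabilizer. -/
theorem sup_flags [Finite G] {x : Ω} {S S' : Subgroup G} (h : D.Fl x S) (h' : D.Fl x S')
    (hne : S ≠ S') : S ⊔ S' = D.St x := by
  apply le_antisymm (sup_le h.le_St h'.le_St)
  have h3 := h.card_St
  have h4 := h'.card_St
  have hcard : Nat.card S = Nat.card S' := by omega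
  have h1 : Nat.card S ∣ Nat.card (S ⊔ S' : Subgroup G) := Subgroup.card_dvd_of_le le_sup_left
  have h2 : Nat.card (S ⊔ S' : Subgroup G) ∣ Nat.card (D.St x) :=
    Subgroup.card_dvd_of_le (sup_le h.le_St h'.le_St)
  obtain ⟨a, ha⟩ := h1
  obtain ⟨b, hb⟩ := h2
  have hSpos : 0 < Nat.card S := Nat.card_pos
  have hab : a * b = 3 := by
    have : Nat.card S * (a * b) = Nat.card S * 3 := by
      rw [← mul_assoc, ← ha, ← hb, h3]; ring
    exact Nat.eq_of_mul_eq_mul_left hSpos this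
  have hb1 : b = 1 := by
    have hb' : b ∣ 3 := ⟨a, by rw [← hab]; ring⟩
    rcases (Nat.dvd_prime Nat.prime_three).1 hb' with hb3 | hb3
    · exact hb3
    · exfalso
      subst hb3
      have ha1 : a = 1 := by omega
      subst ha1
      have hS : S = S ⊔ S' := Subgroup.eq_of_le_of_card_ge le_sup_left (by rw [ha]; simp)
      have hS' : S' ≤ S := by rw [hS]; exact le_sup_right
      apply hne
      exact (Subgroup.eq_of_le_of_card_ge hS' (by omega)).symm
  subst hb1
  have hX : (S ⊔ S' : Subgroup G) = D.St x :=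
    Subgroup.eq_of_le_of_card_ge (sup_le h.le_St h'.le_St) (by rw [hb]; simp)
  exact hX.ge

/-- Commuting with two distinct flags at `x` implies commuting with the stabilizer. -/
theorem comm_of_flags [Finite G] {x : Ω} {S S' : Subgroup G} (h : D.Fl x S) (h' : D.Fl x S')
    (hne : S ≠ S') {z : G} (hz : ∀ s ∈ S, s * z = z * s) (hz' : ∀ s ∈ S', s * z = z * s) :
    ∀ g ∈ D.St x, g * z = z * g := by
  intro g hg
  rw [← sup_flags h h' hne] at hg
  have hle : S ⊔ S' ≤ Subgroup.centralizer ({z} : Set G) := by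
    apply sup_le
    · intro s hs
      rw [Subgroup.mem_centralizer_singleton_iff]
      exact (hz s hs).symm ▸ rfl
    · intro s hs
      rw [Subgroup.mem_centralizer_singleton_iff]
      exact (hz' s hs).symm ▸ rfl
  have := hle hg
  rwa [Subgroup.mem_centralizer_singleton_iff] at this

/-- Distinct in-neighbours give distinct two point stabilizers. -/
theorem ni_in [Finite G] {x i i' : Ω} (hi : D.R i x) (hi' : D.R i' x) (hC : D.C i x = D.C i' x) :
    i = i' := by
  by_contra hne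
  obtain ⟨y, hy, hQ⟩ := in_eq_out hi
  obtain ⟨y', y'', h1, -, -, hall⟩ := D.out3 hy
  have hy' : D.R x y' := (hall y').2 (Or.inr (Or.inl rfl))
  obtain ⟨h, hh, hhy⟩ := D.toCub.trans hy hy'
  have hinK : ∀ t ∈ D.C i x, t ∈ D.K x := by
    intro t ht
    have ht' : t ∈ D.C i' x := by rw [← hC]; exact ht
    rw [mem_K_in]
    refine ⟨ht.2, ?_⟩
    intro z hz
    have hgz : t ∈ D.flip.St x := ht.2
    exact (fix_all (D := D.flip) hgz hi hi' hne ht.1 ht'.1).2 z hz
  have hnorm : ∀ g ∈ D.St x, ∀ t ∈ D.C i x, g * t * g⁻¹ ∈ D.C i x := by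
    intro g hg t ht
    exact K_le_C_in hi (K_normal hg (hinK t ht))
  have hcj : cj h (D.C i x) = D.C i x := by
    ext t
    rw [mem_cj]
    constructor
    · intro ht
      have := hnorm h hh _ ht
      simpa [mul_assoc] using this
    · intro ht
      have := hnorm h⁻¹ ((D.St x).inv_mem hh) _ ht
      simpa using this
  have h2 : D.C x y' = D.C x y := by
    rw [← hhy]
    have h3 := C_smul (D := D.toCub) h x y
    rw [hh] at h3
    rw [h3, ← hQ, hcj]
  exact h1 (D.ni hy hy' h2.symm)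

/-- Turn successors: there are two out-neighbours whose flag differs from a given in-flag. -/
theorem exists_turn [Finite G] {x y : Ω} (h : D.R x y) :
    ∃ z₀ z z', D.R y z₀ ∧ D.R y z ∧ D.R y z' ∧ z₀ ≠ z ∧ z₀ ≠ z' ∧ z ≠ z' ∧ D.C x y = D.C y z₀ ∧
      D.C x y ≠ D.C y z ∧ D.C x y ≠ D.C y z' := by
  obtain ⟨z₀, hz₀, heq⟩ := in_eq_out h
  obtain ⟨z, z', h1, h2, h3, hall⟩ := D.out3 hz₀
  have hz : D.R y z := (hall z).2 (Or.inr (Or.inl rfl))
  have hz' : D.R y z' := (hall z').2 (Or.inr (Or.inr rfl))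
  refine ⟨z₀, z, z', hz₀, hz, hz', h1, h2, h3, heq, ?_, ?_⟩
  · intro h4
    exact h1 (D.ni hz₀ hz (heq.symm.trans h4))
  · intro h4
    exact h2 (D.ni hz₀ hz' (heq.symm.trans h4))

/-- Turn predecessors. -/
theorem exists_turn_in [Finite G] {x y : Ω} (h : D.R x y) :
    ∃ i₀ i i', D.R i₀ x ∧ D.R i x ∧ D.R i' x ∧ i₀ ≠ i ∧ i₀ ≠ i' ∧ i ≠ i' ∧ D.C x y = D.C i₀ x ∧
      D.C x y ≠ D.C i x ∧ D.C x y ≠ D.C i' x := by
  obtain ⟨i₀, hi₀, heq⟩ := out_eq_in h
  obtain ⟨i, i', h1, h2, h3, hall⟩ := D.in3 hi₀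
  have hi : D.R i x := (hall i).2 (Or.inr (Or.inl rfl))
  have hi' : D.R i' x := (hall i').2 (Or.inr (Or.inr rfl))
  refine ⟨i₀, i, i', hi₀, hi, hi', h1, h2, h3, heq, ?_, ?_⟩
  · intro h4
    exact h1 (ni_in hi₀ hi (heq.symm.trans h4))
  · intro h4
    exact h2 (ni_in hi₀ hi' (heq.symm.trans h4))

/-- An element of a flag at `y` outside `K y` swaps two turn successors. -/
theorem turn_swap [Finite G] {x y z z' : Ω} {s : G} (hxy : D.R x y) (hs : s ∈ D.C x y)
    (hsK : s ∉ D.K y) (hz : D.R y z) (hz' : D.R y z') (h1 : D.C x y ≠ D.C y z)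
    (h2 : D.C x y ≠ D.C y z') : z = z' ∨ s • z = z' := by
  by_cases hzz : z = z'
  · exact Or.inl hzz
  right
  obtain ⟨z₀, hz₀, heq⟩ := in_eq_out hxy
  have h3 : z₀ ≠ z := by
    rintro rfl; exact h1 heq
  have h4 : z₀ ≠ z' := by
    rintro rfl; exact h2 heq
  have hs' : s ∈ D.C y z₀ := by rw [← heq]; exact hs
  exact swap_of_not_K hs' hsK hz₀ hz hz' h3 h4 hzz

end Cb

end Sims3
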