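import Mathlib
import Cfsg.Agent.Lib.Sims3B

/-!
# Suborbit of length three: the subgroups `V x` and the commutator constants
-/

set_option autoImplicit false

namespace Sims3

open MulAction Cub

variable {G Ω : Type*} [Group G] [MulAction G Ω]

namespace Cb

variable {D : Cb G Ω}

theorem exists_two_flags {x : Ω} : ∃ S S', D.Fl x S ∧ D.Fl x S' ∧ S ≠ S' := by
  obtain ⟨y, hy⟩ := D.ex_out x
  obtain ⟨y', y'', h1, -, -, hall⟩ := D.out3 hy
  have hy' : D.R x y' := (hall y').2 (Or.inr (Or.inl rfl))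
  exact ⟨_, _, fl_out hy, fl_out hy', fun h => h1 (D.ni hy hy' h)⟩

/-- Every flag is nontrivial and has a nontrivial central element. -/
theorem Fl.exists_center [Finite G] {x : Ω} {S : Subgroup G} (h : D.Fl x S) :
    ∃ z ∈ Zc S, z ≠ 1 := by
  obtain ⟨k, hk⟩ := h.two
  have hne : S ≠ ⊥ := by
    obtain ⟨s, hs, hsK⟩ := h.exists_not_K
    intro hb
    rw [hb, Subgroup.mem_bot] at hs
    exact hsK (hs ▸ (D.K x).one_mem)
  obtain ⟨z, hz, hz1, hz2⟩ := exists_fixed_of_two_group hk le_rfl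
    (fun s hs t ht => S.mul_mem (S.mul_mem hs ht) (S.inv_mem hs)) hne
  exact ⟨z, mem_Zc.2 ⟨hz, hz2⟩, hz1⟩

/-! ### Case A -/

theorem caseA_comm [Finite G] (hA : ∀ x S, D.Fl x S → ¬ Zc S ≤ D.K x) {u : Ω} {z : G}
    (hz : z ∈ D.K u) (hzK : ∀ k ∈ D.K u, k * z = z * k) : ∀ g ∈ D.St u, g * z = z * g := by
  have hflag : ∀ S, D.Fl u S → ∀ s ∈ S, s * z = z * s := by
    intro S hS s hs
    by_cases hsK : s ∈ D.K u
    · exact hzK s hsK
    obtain ⟨t, htZ, htK⟩ := SetLike.not_le_iff_exists.1 (hA u S hS)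
    have ht := mem_Zc.1 htZ
    have h1 := hS.index2 hs ht.1 hsK htK
    have h2 := hzK _ h1
    have h3 : t * z = z * t := (ht.2 z (hS.K_le hz)).symm
    calc s * z = s * t⁻¹ * t * z := by group
      _ = s * t⁻¹ * (t * z) := by group
      _ = s * t⁻¹ * (z * t) := by rw [h3]
      _ = s * t⁻¹ * z * t := by group
      _ = z * (s * t⁻¹) * t := by rw [h2]
      _ = z * s := by group
  obtain ⟨S, S', hS, hS', hne⟩ := exists_two_flags (D := D) (x := u)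
  exact comm_of_flags hS hS' hne (hflag S hS) (hflag S' hS')

/-- Case A: flags have order at most four. -/
theorem caseA [Finite G] (hA : ∀ x S, D.Fl x S → ¬ Zc S ≤ D.K x) {u w : Ω} (huw : D.R u w) :
    Nat.card (D.C u w) ≤ 4 := by
  have hS : D.Fl u (D.C u w) := fl_out huw
  have hS' : D.Fl w (D.C u w) := fl_in huw
  have hT : D.K u ⊓ D.K w = ⊥ := by
    by_contra hne
    obtain ⟨k, hk⟩ := hS.two
    obtain ⟨z, hz, hz1, hz2⟩ := exists_fixed_of_two_group (X := D.K u ⊓ D.K w) hk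
      (inf_le_left.trans hS.K_le)
      (fun s hs t ht => ⟨K_normal (hS.le_St hs) ht.1, K_normal (hS'.le_St hs) ht.2⟩) hne
    apply hz1
    apply D.toCub.central_two (D.ne huw) (D.K_le_St u hz.1)
    · exact caseA_comm hA hz.1 (fun k hk => hz2 k (hS.K_le hk))
    · exact caseA_comm hA hz.2 (fun k hk => hz2 k (hS'.K_le hk))
  have h1 : Nat.card (D.C u w) ≤ 2 * Nat.card (D.C u w ⊓ D.K u : Subgroup G) :=
    card_le_two_mul_inf le_rfl (fun s hs t ht h1 h2 => hS.index2 hs ht h1 h2)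
  rw [inf_eq_right.2 hS.K_le] at h1
  have h2 : Nat.card (D.K u) ≤ 2 * Nat.card (D.K u ⊓ D.K w : Subgroup G) :=
    card_le_two_mul_inf hS.K_le (fun s hs t ht h1 h2 => hS'.index2 hs ht h1 h2)
  rw [hT, Subgroup.card_bot] at h2
  omega

/-! ### The subgroups `V x` -/

/-- The subgroup generated by the centers of the flags at `x`. -/
def V (D : Cb G Ω) (x : Ω) : Subgroup G := Subgroup.closure {z | ∃ S, D.Fl x S ∧ z ∈ Zc S}

theorem Zc_le_V {x : Ω} {S : Subgroup G} (h : D.Fl x S) : Zc S ≤ D.V x :=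
  fun _ hz => Subgroup.subset_closure ⟨S, h, hz⟩

theorem conj_mem_V {x : Ω} (g : G) {v : G} (hv : v ∈ D.V x) : g * v * g⁻¹ ∈ D.V (g • x) := by
  unfold V at hv
  induction hv using Subgroup.closure_induction with
  | mem z hz =>
    obtain ⟨S, hS, hzS⟩ := hz
    apply Zc_le_V (hS.smul g)
    rw [Zc_cj]
    exact conj_mem_cj.2 hzS
  | one => simp
  | mul a b _ _ ha hb =>
    have : g * (a * b) * g⁻¹ = (g * a * g⁻¹) * (g * b * g⁻¹) := by group
    rw [this]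
    exact Subgroup.mul_mem _ ha hb
  | inv a _ ha =>
    have : g * a⁻¹ * g⁻¹ = (g * a * g⁻¹)⁻¹ := by group
    rw [this]
    exact Subgroup.inv_mem _ ha

theorem V_smul (g : G) (x : Ω) : D.V (g • x) = cj g (D.V x) := by
  ext v
  rw [mem_cj]
  constructor
  · intro hv
    have := conj_mem_V g⁻¹ hv
    simpa using this
  · intro hv
    have := conj_mem_V g hv
    simpa [mul_assoc] using this

theorem V_normal {x : Ω} {g v : G} (hg : g ∈ D.St x) (hv : v ∈ D.V x) : g * v * g⁻¹ ∈ D.V x := by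
  have := conj_mem_V (D := D) g hv
  rwa [mem_St.1 hg] at this

end Cb

/-- Case B: the centers of the flags lie in `K`. -/
structure Cc (G Ω : Type*) [Group G] [MulAction G Ω] extends Cb G Ω where
  hB : ∀ x S, toCb.Fl x S → Zc S ≤ toCub.K x

namespace Cc

open Cb

variable {D : Cc G Ω}

theorem V_le_K {x : Ω} : D.V x ≤ D.K x := by
  unfold V
  rw [Subgroup.closure_le]
  rintro z ⟨S, hS, hz⟩
  exact D.hB x S hS hz

theorem V_le_flag {x : Ω} {S : Subgroup G} (h : D.Fl x S) : D.V x ≤ S :=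
  V_le_K.trans h.K_le

theorem K_comm_V {x : Ω} {k v : G} (hk : k ∈ D.K x) (hv : v ∈ D.V x) : k * v = v * k := by
  unfold V at hv
  induction hv using Subgroup.closure_induction with
  | mem z hz =>
    obtain ⟨S, hS, hzS⟩ := hz
    exact (mem_Zc.1 hzS).2 k (hS.K_le hk)
  | one => simp
  | mul a b _ _ ha hb =>
    calc k * (a * b) = (k * a) * b := by group
      _ = (a * k) * b := by rw [ha]
      _ = a * (k * b) := by group
      _ = a * (b * k) := by rw [hb]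
      _ = a * b * k := by group
  | inv a _ ha =>
    have h1 : a⁻¹ * (k * a) * a⁻¹ = a⁻¹ * (a * k) * a⁻¹ := by rw [ha]
    have h2 : k * a⁻¹ = a⁻¹ * k := by
      have h3 : a⁻¹ * (a * k) * a⁻¹ = k * a⁻¹ := by group
      have h4 : a⁻¹ * (k * a) * a⁻¹ = a⁻¹ * k := by group
      rw [h3, h4] at h1
      exact h1.symm
    exact h2

theorem V_comm {x : Ω} {v w : G} (hv : v ∈ D.V x) (hw : w ∈ D.V x) : v * w = w * v :=
  K_comm_V (V_le_K hv) hw

/-- No element outside `K` in a flag centralizes `V`. -/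
theorem ncp [Finite G] {u : Ω} {S : Subgroup G} (hS : D.Fl u S) {v : G} (hv : v ∈ S)
    (hvK : v ∉ D.K u) : ∃ w ∈ D.V u, v * w ≠ w * v := by
  by_contra hcon
  push Not at hcon
  have hle0 : D.V u ≤ Zc S := by
    intro a ha
    refine mem_Zc.2 ⟨V_le_flag hS ha, fun s hs => ?_⟩
    by_cases hsK : s ∈ D.K u
    · exact K_comm_V hsK ha
    have h1 := hS.index2 hs hv hsK hvK
    have h2 := K_comm_V h1 ha
    have h3 := hcon a ha
    calc s * a = s * v⁻¹ * v * a := by group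
      _ = s * v⁻¹ * (v * a) := by group
      _ = s * v⁻¹ * (a * v) := by rw [h3]
      _ = s * v⁻¹ * a * v := by group
      _ = a * (s * v⁻¹) * v := by rw [h2]
      _ = a * s := by group
  have hle : ∀ x T, D.Fl x T → D.V x ≤ Zc T := by
    intro x T hT
    obtain ⟨g, rfl, rfl⟩ := hS.trans hT
    rw [V_smul, Zc_cj]
    intro t ht
    rw [mem_cj] at ht ⊢
    exact hle0 ht
  obtain ⟨w, hw, rfl⟩ := hS
  have hS' : D.Fl w (D.C u w) := fl_in hw
  have h1 : D.V u = D.V w :=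
    le_antisymm ((hle u _ (fl_out hw)).trans (Zc_le_V hS'))
      ((hle w _ hS').trans (Zc_le_V (fl_out hw)))
  have hbot : D.V u = ⊥ := by
    apply D.toCub.normal_two (D.ne hw) (V_le_K.trans (D.K_le_St u))
    · intro s hs t ht
      exact V_normal hs ht
    · intro s hs t ht
      rw [h1] at ht ⊢
      exact V_normal hs ht
  obtain ⟨z, hz, hz1⟩ := (fl_out hw : D.Fl u _).exists_center
  have := Zc_le_V (fl_out hw) hz
  rw [hbot, Subgroup.mem_bot] at this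
  exact hz1 this

/-- The commutator constant of a flag. -/
def IsCc (D : Cc G Ω) (x : Ω) (S : Subgroup G) (c : G) : Prop :=
  ∀ a ∈ D.V x, a ∉ Zc S → ∀ s ∈ S, s ∉ D.K x → a * s * a⁻¹ * s⁻¹ = c

theorem IsCc.smul {x : Ω} {S : Subgroup G} {c : G} (h : D.IsCc x S c) (g : G) :
    D.IsCc (g • x) (cj g S) (g * c * g⁻¹) := by
  intro a ha haZ s hs hsK
  rw [V_smul, mem_cj] at ha
  rw [Zc_cj, mem_cj] at haZ
  rw [mem_cj] at hs
  rw [K_smul, mem_cj] at hsK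
  have := h _ ha haZ _ hs hsK
  rw [← this]
  group

/-- Data attached to a critical pair of flags. -/
structure Pair (D : Cc G Ω) (x : Ω) (S : Subgroup G) (y : Ω) (T : Subgroup G) (c : G) : Prop where
  cx : D.IsCc x S c
  cy : D.IsCc y T c
  c_ne : c ≠ 1
  c_sq : c * c = 1
  c_S : c ∈ Zc S
  c_T : c ∈ Zc T
  Zx : ∀ z, z ∈ Zc S ↔ z ∈ D.V x ∧ z ∈ D.K y
  Zy : ∀ z, z ∈ Zc T ↔ z ∈ D.V y ∧ z ∈ D.K x
  nx : ¬ D.V x ≤ D.K y
  ny : ¬ D.V y ≤ D.K x

theorem Pair.symm {x y : Ω} {S T : Subgroup G} {c : G} (h : D.Pair x S y T c) :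
    D.Pair y T x S c :=
  ⟨h.cy, h.cx, h.c_ne, h.c_sq, h.c_T, h.c_S, h.Zy, h.Zx, h.ny, h.nx⟩

theorem not_V_le_smul {x y : Ω} (h : ¬ D.V x ≤ D.K y) (g : G) : ¬ D.V (g • x) ≤ D.K (g • y) := by
  intro hle
  apply h
  intro a ha
  have h1 : g * a * g⁻¹ ∈ D.V (g • x) := conj_mem_V g ha
  have h2 := hle h1
  rw [K_smul] at h2
  exact conj_mem_cj.1 h2

theorem comm_identity {a s e v' f v c : G} (ha : a = e * v') (hs : s = f * v) (h1 : s * e = e * s)
    (h2 : v' * e = e * v') (h3 : f * v' = v' * f) (hc : c = v' * v * v'⁻¹ * v⁻¹)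
    (h4 : f * c = c * f) : a * s * a⁻¹ * s⁻¹ = c := by
  have he_s : Commute e s := h1.symm
  have he_v : Commute e v' := h2.symm
  have hX : Commute e (v' * s * v'⁻¹ * s⁻¹) :=
    ((he_v.mul_right he_s).mul_right he_v.inv_right).mul_right he_s.inv_right
  have h5 : a * s * a⁻¹ * s⁻¹ = e * (v' * s * v'⁻¹ * s⁻¹) * e⁻¹ := by
    have h6 : e⁻¹ * s⁻¹ = s⁻¹ * e⁻¹ := he_s.inv_inv.eq
    rw [ha]
    calc e * v' * s * (e * v')⁻¹ * s⁻¹ = e * v' * s * v'⁻¹ * (e⁻¹ * s⁻¹) := by group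
      _ = e * v' * s * v'⁻¹ * (s⁻¹ * e⁻¹) := by rw [h6]
      _ = e * (v' * s * v'⁻¹ * s⁻¹) * e⁻¹ := by group
  rw [h5, hX.eq]
  have h7 : (v' * s * v'⁻¹ * s⁻¹) * e * e⁻¹ = v' * s * v'⁻¹ * s⁻¹ := by group
  rw [h7, hs]
  have hf : Commute f v' := h3
  calc v' * (f * v) * v'⁻¹ * (f * v)⁻¹ = (v' * f) * v * v'⁻¹ * v⁻¹ * f⁻¹ := by group
    _ = (f * v') * v * v'⁻¹ * v⁻¹ * f⁻¹ := by rw [h3]
    _ = f * c * f⁻¹ := by rw [hc]; group
    _ = c * f * f⁻¹ := by rw [h4]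
    _ = c := by group

section Core

variable [Finite G] {x y : Ω} {S T : Subgroup G}

theorem comm_ne (hx : D.Fl x S) (hy : D.Fl y T) (hVxT : D.V x ≤ T) (hVyS : D.V y ≤ S) {a b : G}
    (ha : a ∈ D.V x) (haK : a ∉ D.K y) (hb : b ∈ D.V y) (hbK : b ∉ D.K x) : a * b ≠ b * a := by
  intro hab
  obtain ⟨w, hw, hne⟩ := ncp hy (hVxT ha) haK
  apply hne
  by_cases hwK : w ∈ D.K x
  · exact (K_comm_V hwK ha).symm
  have h1 := hx.index2 (hVyS hw) (hVyS hb) hwK hbK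
  have h2 := K_comm_V h1 ha
  calc a * w = a * (w * b⁻¹) * b := by group
    _ = w * b⁻¹ * a * b := by rw [h2]
    _ = w * b⁻¹ * (a * b) := by group
    _ = w * b⁻¹ * (b * a) := by rw [hab]
    _ = w * a := by group

theorem inf_le_Zc (hx : D.Fl x S) {v : G} (hvS : v ∈ S) (hv : v ∈ D.V y) (hvK : v ∉ D.K x) {a : G}
    (ha : a ∈ D.V x) (hay : a ∈ D.K y) : a ∈ Zc S := by
  refine mem_Zc.2 ⟨V_le_flag hx ha, fun s hs => ?_⟩
  by_cases hsK : s ∈ D.K x
  · exact K_comm_V hsK ha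
  have h1 := hx.index2 hs hvS hsK hvK
  have h2 := K_comm_V h1 ha
  have h3 := K_comm_V hay hv
  calc s * a = s * v⁻¹ * (v * a) := by group
    _ = s * v⁻¹ * (a * v) := by rw [h3]
    _ = (s * v⁻¹ * a) * v := by group
    _ = (a * (s * v⁻¹)) * v := by rw [h2]
    _ = a * s := by group

theorem pair_core (hx : D.Fl x S) (hy : D.Fl y T) (hVxT : D.V x ≤ T) (hVyS : D.V y ≤ S) {v' v : G}
    (hv' : v' ∈ D.V x) (hv'K : v' ∉ D.K y) (hv : v ∈ D.V y) (hvK : v ∉ D.K x) :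
    (∀ z, z ∈ Zc S ↔ z ∈ D.V x ∧ z ∈ D.K y) ∧ D.IsCc x S (v' * v * v'⁻¹ * v⁻¹) ∧
      v' * v * v'⁻¹ * v⁻¹ ≠ 1 ∧ v' * v * v'⁻¹ * v⁻¹ ∈ D.V x ∧
      (v' * v * v'⁻¹ * v⁻¹) * (v' * v * v'⁻¹ * v⁻¹) = 1 := by
  have hvS := hVyS hv
  have hv'T := hVxT hv'
  have hZ : ∀ z, z ∈ Zc S ↔ z ∈ D.V x ∧ z ∈ D.K y := by
    intro z
    constructor
    · intro hz
      have hzV := Zc_le_V hx hz
      refine ⟨hzV, ?_⟩
      by_contra hzK
      exact comm_ne hx hy hVxT hVyS hzV hzK hv hvK ((mem_Zc.1 hz).2 v hvS).symm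
    · rintro ⟨h1, h2⟩
      exact inf_le_Zc hx hvS hv hvK h1 h2
  have hvSt : v ∈ D.St x := hx.le_St hvS
  have hcV : v' * v * v'⁻¹ * v⁻¹ ∈ D.V x := by
    have h1 := V_normal hvSt ((D.V x).inv_mem hv')
    have : v' * v * v'⁻¹ * v⁻¹ = v' * (v * v'⁻¹ * v⁻¹) := by group
    rw [this]
    exact (D.V x).mul_mem hv' h1
  refine ⟨hZ, ?_, ?_, hcV, ?_⟩
  · intro a ha haZ s hs hsK
    have haK : a ∉ D.K y := fun h => haZ ((hZ a).2 ⟨ha, h⟩)
    have h1 := hy.index2 (hVxT ha) hv'T haK hv'K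
    have h1' : a * v'⁻¹ ∈ D.V x := (D.V x).mul_mem ha ((D.V x).inv_mem hv')
    have he : a * v'⁻¹ ∈ Zc S := (hZ _).2 ⟨h1', h1⟩
    have h2 := hx.index2 hs hvS hsK hvK
    apply comm_identity (e := a * v'⁻¹) (f := s * v⁻¹) (v' := v') (v := v) (by group) (by group)
      ((mem_Zc.1 he).2 s hs) ((mem_Zc.1 he).2 v' (V_le_flag hx hv')) (K_comm_V h2 hv') rfl
      (K_comm_V h2 hcV)
  · intro h
    apply comm_ne hx hy hVxT hVyS hv' hv'K hv hvK
    have h1 : v' * v * v'⁻¹ = v := by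
      calc v' * v * v'⁻¹ = (v' * v * v'⁻¹ * v⁻¹) * v := by group
        _ = v := by rw [h]; group
    calc v' * v = (v' * v * v'⁻¹) * v' := by group
      _ = v * v' := by rw [h1]
  · -- `c * c = 1`
    have hsq : v' * v' ∈ D.K y := by
      have := hy.index2 hv'T (T.inv_mem hv'T) hv'K (fun h => hv'K (by simpa using (D.K y).inv_mem h))
      simpa using this
    have hsqZ : v' * v' ∈ Zc S := (hZ _).2 ⟨(D.V x).mul_mem hv' hv', hsq⟩
    have hcomm := (mem_Zc.1 hsqZ).2 v hvS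
    have hu : v * v' * v⁻¹ ∈ D.V x := V_normal hvSt hv'
    have huv := V_comm hu hv'
    set u := v * v' * v⁻¹ with hu_def
    have huu : u * u = v' * v' := by
      calc u * u = v * (v' * v') * v⁻¹ := by rw [hu_def]; group
        _ = (v' * v') * v * v⁻¹ := by rw [hcomm]
        _ = v' * v' := by group
    have hc : v' * v * v'⁻¹ * v⁻¹ = v' * u⁻¹ := by rw [hu_def]; group
    rw [hc]
    have huv2 : Commute u v' := huv
    calc v' * u⁻¹ * (v' * u⁻¹) = v' * (u⁻¹ * v') * u⁻¹ := by group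
      _ = v' * (v' * u⁻¹) * u⁻¹ := by rw [huv2.inv_left.eq]
      _ = (v' * v') * u⁻¹ * u⁻¹ := by group
      _ = (u * u) * u⁻¹ * u⁻¹ := by rw [huu]
      _ = 1 := by group

theorem pair_of_crit (hx : D.Fl x S) (hy : D.Fl y T) (hVxT : D.V x ≤ T) (hVyS : D.V y ≤ S)
    (hcrit : ¬ D.V x ≤ D.K y ∨ ¬ D.V y ≤ D.K x) : ∃ c, D.Pair x S y T c := by
  have hboth : ¬ D.V x ≤ D.K y ∧ ¬ D.V y ≤ D.K x := by
    have key : ∀ {x y : Ω} {S T : Subgroup G}, D.Fl x S → D.Fl y T → D.V x ≤ T → D.V y ≤ S →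
        ¬ D.V x ≤ D.K y → ¬ D.V y ≤ D.K x := by
      intro x y S T hx hy hVxT hVyS h hle
      obtain ⟨a, ha, haK⟩ := SetLike.not_le_iff_exists.1 h
      obtain ⟨w, hw, hne⟩ := ncp hy (hVxT ha) haK
      exact hne (K_comm_V (hle hw) ha).symm
    rcases hcrit with h | h
    · exact ⟨h, key hx hy hVxT hVyS h⟩
    · exact ⟨key hy hx hVyS hVxT h, h⟩
  obtain ⟨v', hv', hv'K⟩ := SetLike.not_le_iff_exists.1 hboth.1
  obtain ⟨v, hv, hvK⟩ := SetLike.not_le_iff_exists.1 hboth.2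
  obtain ⟨h1, h2, h3, h4, h5⟩ := pair_core hx hy hVxT hVyS hv' hv'K hv hvK
  obtain ⟨h1', h2', -, h4', -⟩ := pair_core hy hx hVyS hVxT hv hvK hv' hv'K
  have hinv : v * v' * v⁻¹ * v'⁻¹ = v' * v * v'⁻¹ * v⁻¹ := by
    have h6 : v * v' * v⁻¹ * v'⁻¹ = (v' * v * v'⁻¹ * v⁻¹)⁻¹ := by group
    rw [h6]
    exact inv_eq_of_mul_eq_one_left h5
  rw [hinv] at h2' h4'
  refine ⟨v' * v * v'⁻¹ * v⁻¹, h2, h2', h3, h5, ?_, ?_, h1, h1', hboth.1, hboth.2⟩
  · exact (h1 _).2 ⟨h4, V_le_K h4'⟩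
  · exact (h1' _).2 ⟨h4', V_le_K h4⟩

end Core

/-- Uniqueness of the constant. -/
theorem IsCc.unique [Finite G] {x y : Ω} {S T : Subgroup G} {c c' c₀ : G} (h : D.IsCc x S c)
    (h' : D.IsCc x S c') (hS : D.Fl x S) (hP : D.Pair x S y T c₀) : c = c' := by
  obtain ⟨a, ha, haK⟩ := SetLike.not_le_iff_exists.1 hP.nx
  obtain ⟨s, hs, hsK⟩ := hS.exists_not_K
  have haZ : a ∉ Zc S := fun hz => haK ((hP.Zx a).1 hz).2
  rw [← h a ha haZ s hs hsK, ← h' a ha haZ s hs hsK]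

end Cc

end Sims3
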