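import Mathlib
import Cfsg.Agent.Lib.Sims3C

/-!
# Suborbit of length three: turn paths and critical paths
-/

set_option autoImplicit false

namespace Sims3

open MulAction Cub

variable {G Ω : Type*} [Group G] [MulAction G Ω]

namespace Cub

variable {D : Cub G Ω}

/-- A point-fixing element commuting with two different stabilizers is trivial. -/
theorem central_two' {x y w : Ω} (hne : x ≠ y) {z : G} (hz : z ∈ D.St w)
    (hx : ∀ s ∈ D.St x, s * z = z * s) (hy : ∀ s ∈ D.St y, s * z = z * s) : z = 1 := by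
  have hcomm : ∀ g : G, g * z = z * g := by
    apply D.top_of_right_stable hne
    · simp
    · intro l hl s hs
      calc l * s * z = l * (s * z) := by group
        _ = l * (z * s) := by rw [hx s hs]
        _ = (l * z) * s := by group
        _ = (z * l) * s := by rw [hl]
        _ = z * (l * s) := by group
    · intro l hl s hs
      calc l * s * z = l * (s * z) := by group
        _ = l * (z * s) := by rw [hy s hs]
        _ = (l * z) * s := by group
        _ = (z * l) * s := by rw [hl]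
        _ = z * (l * s) := by group
  apply D.faith
  intro u
  obtain ⟨g, rfl⟩ := D.exists_smul_eq w u
  rw [← mul_smul, ← hcomm, mul_smul, mem_St.1 hz]

end Cub

namespace Cb

variable {D : Cb G Ω}

/-- Turn path of length `m`. -/
def TP (D : Cb G Ω) (p : ℕ → Ω) (m : ℕ) : Prop :=
  (∀ i, i < m → D.R (p i) (p (i + 1))) ∧
    ∀ i, i + 1 < m → D.C (p i) (p (i + 1)) ≠ D.C (p (i + 1)) (p (i + 2))

theorem TP.mono {p : ℕ → Ω} {m j : ℕ} (h : D.TP p m) (hj : j ≤ m) : D.TP p j :=
  ⟨fun i hi => h.1 i (by omega), fun i hi => h.2 i (by omega)⟩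

theorem TP.sub {p : ℕ → Ω} {m : ℕ} (h : D.TP p m) (i j : ℕ) (hj : i + j ≤ m) :
    D.TP (fun t => p (i + t)) j :=
  ⟨fun t ht => h.1 (i + t) (by omega), fun t ht => h.2 (i + t) (by omega)⟩

theorem TP.congr {p q : ℕ → Ω} {m : ℕ} (h : D.TP p m) (hq : ∀ t, t ≤ m → p t = q t) :
    D.TP q m := by
  refine ⟨fun i hi => ?_, fun i hi => ?_⟩
  · rw [← hq i (by omega), ← hq (i + 1) (by omega)]
    exact h.1 i hi
  · rw [← hq i (by omega), ← hq (i + 1) (by omega), ← hq (i + 2) (by omega)]
    exact h.2 i hi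

theorem C_ne_smul {x y x' y' : Ω} (h : D.C x y ≠ D.C x' y') (g : G) :
    D.C (g • x) (g • y) ≠ D.C (g • x') (g • y') := by
  rw [C_smul, C_smul]
  exact fun h2 => h (cj_inj h2)

theorem TP.smul {p : ℕ → Ω} {m : ℕ} (h : D.TP p m) (g : G) : D.TP (fun t => g • p t) m :=
  ⟨fun i hi => D.toCub.smul g (h.1 i hi), fun i hi => C_ne_smul (h.2 i hi) g⟩

theorem TP.extend {p : ℕ → Ω} {m : ℕ} {z : Ω} (h : D.TP p (m + 1)) (hz : D.R (p (m + 1)) z)
    (hC : D.C (p m) (p (m + 1)) ≠ D.C (p (m + 1)) z) :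
    D.TP (Function.update p (m + 2) z) (m + 2) := by
  have hu : ∀ t, t ≤ m + 1 → Function.update p (m + 2) z t = p t := by
    intro t ht
    exact Function.update_of_ne (by omega) _ _
  have hl : Function.update p (m + 2) z (m + 2) = z := Function.update_self _ _ _
  refine ⟨fun i hi => ?_, fun i hi => ?_⟩
  · by_cases h1 : i = m + 1
    · subst h1
      rw [hu (m + 1) le_rfl, hl]
      exact hz
    · rw [hu i (by omega), hu (i + 1) (by omega)]
      exact h.1 i (by omega)
  · by_cases h1 : i = m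
    · subst h1
      rw [hu i (by omega), hu (i + 1) (by omega), hl]
      exact hC
    · rw [hu i (by omega), hu (i + 1) (by omega), hu (i + 2) (by omega)]
      exact h.2 i (by omega)

theorem TP_base {x y : Ω} (h : D.R x y) : D.TP (fun t => if t = 0 then x else y) 1 := by
  refine ⟨fun i hi => ?_, fun i hi => ?_⟩
  · obtain rfl : i = 0 := by omega
    simpa using h
  · omega

/-- Any arc starts a turn path of any length. -/
theorem exists_TP [Finite G] {x y : Ω} (h : D.R x y) (m : ℕ) :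
    ∃ p, D.TP p (m + 1) ∧ p 0 = x ∧ p 1 = y := by
  induction m with
  | zero => exact ⟨_, TP_base h, by simp, by simp⟩
  | succ m ih =>
    obtain ⟨p, hp, h0, h1⟩ := ih
    obtain ⟨z₀, z, z', -, hz, -, -, -, -, -, hC, -⟩ := exists_turn (hp.1 m (by omega))
    refine ⟨_, hp.extend hz hC, ?_, ?_⟩
    · rw [Function.update_of_ne (by omega)]; exact h0
    · rw [Function.update_of_ne (by omega)]; exact h1

end Cb

namespace Cc

open Cb

variable {D : Cc G Ω}

/-- If no turn path is critical then `V a` is trivial: contradiction. -/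
theorem exists_crit [Finite G] {a b : Ω} (hab : D.R a b) :
    ∃ p m, D.TP p m ∧ (¬ D.V (p 0) ≤ D.K (p m) ∨ ¬ D.V (p m) ≤ D.K (p 0)) := by
  by_contra hcon
  push Not at hcon
  obtain ⟨z₀, z, z', -, hz, -, -, -, -, -, hC, -⟩ := exists_turn hab
  obtain ⟨g₁, hg₁a, hg₁b⟩ := D.toCub.trans hab hz
  let Reach : G → Prop := fun g =>
    ∃ p m, D.TP p (m + 1) ∧ p 0 = a ∧ p 1 = b ∧ p m = g • a ∧ p (m + 1) = g • b
  have hR1 : Reach 1 := by
    obtain ⟨p, hp, h0, h1⟩ := exists_TP hab 0
    exact ⟨p, 0, hp, h0, h1, by simpa using h0, by simpa using h1⟩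
  have hRC : ∀ g s, Reach g → s ∈ D.C a b → Reach (g * s) := by
    rintro g s ⟨p, m, hp, h0, h1, h2, h3⟩ hs
    refine ⟨p, m, hp, h0, h1, ?_, ?_⟩
    · rw [mul_smul, hs.1, h2]
    · rw [mul_smul, hs.2, h3]
  have hRg : ∀ g, Reach g → Reach (g * g₁) := by
    rintro g ⟨p, m, hp, h0, h1, h2, h3⟩
    have hz' : D.R (p (m + 1)) (g • z) := by
      rw [h3]; exact D.toCub.smul g hz
    have hC' : D.C (p m) (p (m + 1)) ≠ D.C (p (m + 1)) (g • z) := by
      rw [h2, h3]; exact C_ne_smul hC g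
    refine ⟨_, m + 1, hp.extend hz' hC', ?_, ?_, ?_, ?_⟩
    · rw [Function.update_of_ne (by omega)]; exact h0
    · rw [Function.update_of_ne (by omega)]; exact h1
    · rw [Function.update_of_ne (by omega), mul_smul, hg₁a, h3]
    · rw [show m + 1 + 1 = m + 2 by omega, Function.update_self, mul_smul, hg₁b]
  -- the stabilizer of `Reach` on the right is a subgroup
  have hpow : ∀ l : G, (∀ g, Reach g → Reach (g * l)) → ∀ n : ℕ, ∀ g, Reach g → Reach (g * l ^ n) := by
    intro l hl n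
    induction n with
    | zero => intro g hg; simpa using hg
    | succ n ih =>
      intro g hg
      have := hl _ (ih g hg)
      rwa [mul_assoc, ← pow_succ] at this
  let M : Subgroup G :=
    { carrier := {l | ∀ g, Reach g → Reach (g * l)}
      mul_mem' := by
        intro x y hx hy g hg
        have := hy _ (hx g hg)
        rwa [mul_assoc] at this
      one_mem' := by intro g hg; simpa using hg
      inv_mem' := by
        intro x hx
        have h1 : x⁻¹ = x ^ (orderOf x - 1) := by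
          apply inv_eq_of_mul_eq_one_right
          rw [← pow_succ']
          rw [Nat.sub_add_cancel (orderOf_pos x)]
          exact pow_orderOf_eq_one x
        change ∀ g, Reach g → Reach (g * x⁻¹)
        rw [h1]
        exact hpow x hx _ }
  have hMC : D.C a b ≤ M := fun s hs g hg => hRC g s hg hs
  have hMg : g₁ ∈ M := hRg
  have hMcj : ∀ {l : G}, l ∈ M → cj l (D.C a b) ≤ M := by
    intro l hl s hs
    rw [mem_cj] at hs
    have h1 := hMC hs
    have h2 := M.mul_mem (M.mul_mem hl h1) (M.inv_mem hl)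
    simpa [mul_assoc] using h2
  have hMb : D.St b ≤ M := by
    have hne : D.C a b ≠ D.C b z := hC
    rw [← sup_flags (fl_in hab) (fl_out hz) hne]
    apply sup_le hMC
    have : D.C b z = cj g₁ (D.C a b) := by
      rw [← C_smul, hg₁a, hg₁b]
    rw [this]
    exact hMcj hMg
  have hMa : D.St a ≤ M := by
    have hb1 : g₁⁻¹ • b = a := by rw [inv_smul_eq_iff, hg₁a]
    have hz1 : g₁⁻¹ • z = b := by rw [inv_smul_eq_iff, hg₁b]
    have hia : D.R (g₁⁻¹ • a) a := by
      have := D.toCub.smul g₁⁻¹ hab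
      rwa [hb1] at this
    have h1 : D.C (g₁⁻¹ • a) a = cj g₁⁻¹ (D.C a b) := by
      have := C_smul (D := D.toCub) g₁⁻¹ a b
      rwa [hb1] at this
    have h2 : D.C a b = cj g₁⁻¹ (D.C b z) := by
      have := C_smul (D := D.toCub) g₁⁻¹ b z
      rwa [hb1, hz1] at this
    have hne : D.C (g₁⁻¹ • a) a ≠ D.C a b := by
      intro h4
      rw [h1] at h4
      exact hC (cj_inj (h4.trans h2))
    rw [← sup_flags (fl_in hia) (fl_out hab) hne]
    apply sup_le _ hMC
    rw [h1]
    exact hMcj (M.inv_mem hMg)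
  have hall : ∀ g : G, g ∈ M := by
    apply D.toCub.top_of_right_stable (D.ne hab)
    · exact M.one_mem
    · intro l hl s hs; exact M.mul_mem hl (hMa hs)
    · intro l hl s hs; exact M.mul_mem hl (hMb hs)
  have hreach : ∀ g : G, Reach g := by
    intro g
    have := hall g 1 hR1
    simpa using this
  obtain ⟨c, hc, hc1⟩ := (fl_out hab : D.Fl a _).exists_center
  apply hc1
  apply D.faith
  intro w
  obtain ⟨g, rfl⟩ := D.toCub.exists_smul_eq b w
  obtain ⟨p, m, hp, h0, -, -, h3⟩ := hreach g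
  have h4 := (hcon p (m + 1) hp).1
  rw [h0, h3] at h4
  have h5 : c ∈ D.V a := Zc_le_V (fl_out hab) hc
  exact (h4 h5).1

end Cc

/-- Minimal critical distance `d + 1`. -/
structure Cd (G Ω : Type*) [Group G] [MulAction G Ω] extends Cc G Ω where
  d : ℕ
  hmin : ∀ p m, toCb.TP p m → m ≤ d →
    toCb.V (p 0) ≤ toCub.K (p m) ∧ toCb.V (p m) ≤ toCub.K (p 0)
  hcrit : ∃ p, toCb.TP p (d + 1) ∧
    (¬ toCb.V (p 0) ≤ toCub.K (p (d + 1)) ∨ ¬ toCb.V (p (d + 1)) ≤ toCub.K (p 0))

namespace Cd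

open Cb Cc

variable {D : Cd G Ω}

theorem V_le_last {p : ℕ → Ω} (hp : D.TP p (D.d + 1)) :
    D.V (p 0) ≤ D.C (p D.d) (p (D.d + 1)) :=
  (D.hmin p D.d (hp.mono (by omega)) le_rfl).1.trans (K_le_C (hp.1 D.d (by omega)))

theorem V_le_first [Finite G] {p : ℕ → Ω} (hp : D.TP p (D.d + 1)) :
    D.V (p (D.d + 1)) ≤ D.C (p 0) (p 1) := by
  have h1 := (D.hmin _ D.d (hp.sub 1 D.d (by omega)) le_rfl).2
  simp only [add_zero] at h1
  rw [add_comm 1 D.d] at h1
  exact h1.trans (K_le_C_in (hp.1 0 (by omega)))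

theorem pair_path_of_crit [Finite G] {p : ℕ → Ω} (hp : D.TP p (D.d + 1))
    (hc : ¬ D.V (p 0) ≤ D.K (p (D.d + 1)) ∨ ¬ D.V (p (D.d + 1)) ≤ D.K (p 0)) :
    ∃ c, D.Pair (p 0) (D.C (p 0) (p 1)) (p (D.d + 1)) (D.C (p D.d) (p (D.d + 1))) c :=
  pair_of_crit (fl_out (hp.1 0 (by omega))) (fl_in (hp.1 D.d (by omega))) (V_le_last hp)
    (V_le_first hp) hc

theorem fix_path {p : ℕ → Ω} (hp : D.TP p (D.d + 1)) {v : G} (hv : v ∈ D.V (p 0)) :
    ∀ i, i ≤ D.d + 1 → v • p i = p i := by
  intro i hi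
  rcases i with _ | i
  · exact (V_le_K hv).1
  · have h1 := (D.hmin p i (hp.mono (by omega)) (by omega)).1 hv
    exact h1.2 _ (hp.1 i (by omega))

/-- Transitivity on turn paths of length at most `d + 1`. -/
theorem tr [Finite G] : ∀ m, m ≤ D.d → ∀ p q, D.TP p (m + 1) → D.TP q (m + 1) →
    ∃ g : G, ∀ i, i ≤ m + 1 → g • p i = q i := by
  intro m
  induction m with
  | zero =>
    intro _ p q hp hq
    obtain ⟨g, h0, h1⟩ := D.toCub.trans (hp.1 0 (by omega)) (hq.1 0 (by omega))
    refine ⟨g, fun i hi => ?_⟩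
    rcases i with _ | i
    · exact h0
    · obtain rfl : i = 0 := by omega
      exact h1
  | succ m ih =>
    intro hm p q hp hq
    obtain ⟨π, hπ, hc⟩ := D.hcrit
    obtain ⟨c, hP⟩ := pair_path_of_crit hπ hc
    obtain ⟨v', hv', hv'K⟩ := SetLike.not_le_iff_exists.1 hP.nx
    have hfix := fix_path hπ hv'
    have hσ := hπ.sub (D.d - m) (m + 1) (by omega)
    obtain ⟨g, hg⟩ := ih (by omega) p _ (hp.mono (by omega)) hσ
    obtain ⟨g', hg'⟩ := ih (by omega) q _ (hq.mono (by omega)) hσ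
    have hlast : D.d - m + (m + 1) = D.d + 1 := by omega
    have hpen : D.d - m + m = D.d := by omega
    have hgl : g • p (m + 1) = π (D.d + 1) := by
      have := hg (m + 1) le_rfl
      rw [this]
      simp only [hlast]
    have hgl' : g' • q (m + 1) = π (D.d + 1) := by
      have := hg' (m + 1) le_rfl
      rw [this]
      simp only [hlast]
    have hgp : g • p m = π D.d := by
      have := hg m (by omega)
      rw [this]
      simp only [hpen]
    have hgp' : g' • q m = π D.d := by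
      have := hg' m (by omega)
      rw [this]
      simp only [hpen]
    have hz : D.R (π (D.d + 1)) (g • p (m + 2)) := by
      rw [← hgl]; exact D.toCub.smul g (hp.1 (m + 1) (by omega))
    have hz' : D.R (π (D.d + 1)) (g' • q (m + 2)) := by
      rw [← hgl']; exact D.toCub.smul g' (hq.1 (m + 1) (by omega))
    have hC : D.C (π D.d) (π (D.d + 1)) ≠ D.C (π (D.d + 1)) (g • p (m + 2)) := by
      rw [← hgl, ← hgp]; exact C_ne_smul (hp.2 m (by omega)) g
    have hC' : D.C (π D.d) (π (D.d + 1)) ≠ D.C (π (D.d + 1)) (g' • q (m + 2)) := by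
      rw [← hgl', ← hgp']; exact C_ne_smul (hq.2 m (by omega)) g'
    have hv'C : v' ∈ D.C (π D.d) (π (D.d + 1)) := V_le_last hπ hv'
    have hswap := turn_swap (hπ.1 D.d (by omega)) hv'C hv'K hz hz' hC hC'
    have hfixσ : ∀ i, i ≤ m + 1 → v' • (g • p i) = g • p i := by
      intro i hi
      rw [hg i hi]
      exact hfix _ (by omega)
    rcases hswap with hs | hs
    · refine ⟨g'⁻¹ * g, fun i hi => ?_⟩
      rw [mul_smul, inv_smul_eq_iff]
      by_cases hi2 : i = m + 2
      · subst hi2; exact hs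
      · rw [hg i (by omega), hg' i (by omega)]
    · refine ⟨g'⁻¹ * v' * g, fun i hi => ?_⟩
      rw [mul_smul, mul_smul, inv_smul_eq_iff]
      by_cases hi2 : i = m + 2
      · subst hi2; exact hs
      · rw [hfixσ i (by omega), hg i (by omega), hg' i (by omega)]

/-- All turn paths of length `d + 1` are critical. -/
theorem all_pair [Finite G] {p : ℕ → Ω} (hp : D.TP p (D.d + 1)) :
    ∃ c, D.Pair (p 0) (D.C (p 0) (p 1)) (p (D.d + 1)) (D.C (p D.d) (p (D.d + 1))) c := by
  obtain ⟨π, hπ, hc⟩ := D.hcrit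
  obtain ⟨g, hg⟩ := tr D.d le_rfl π p hπ hp
  apply pair_path_of_crit hp
  rw [← hg 0 (by omega), ← hg (D.d + 1) le_rfl]
  rcases hc with h | h
  · exact Or.inl (not_V_le_smul h g)
  · exact Or.inr (not_V_le_smul h g)

/-- The commutator constant of a flag. -/
theorem exists_const [Finite G] {x : Ω} {S : Subgroup G} (hS : D.Fl x S) :
    ∃ c, D.IsCc x S c ∧ c ≠ 1 ∧ c * c = 1 ∧ c ∈ Zc S := by
  obtain ⟨y, hy, rfl⟩ := hS
  obtain ⟨p, hp, h0, h1⟩ := exists_TP hy D.d
  obtain ⟨c, hc⟩ := all_pair hp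
  rw [h0, h1] at hc
  exact ⟨c, hc.cx, hc.c_ne, hc.c_sq, hc.c_S⟩

theorem const_unique [Finite G] {x : Ω} {S : Subgroup G} {c c' : G} (hS : D.Fl x S)
    (h : D.IsCc x S c) (h' : D.IsCc x S c') : c = c' := by
  obtain ⟨y, hy, rfl⟩ := id hS
  obtain ⟨p, hp, h0, h1⟩ := exists_TP hy D.d
  obtain ⟨c₀, hc⟩ := all_pair hp
  rw [h0, h1] at hc
  exact IsCc.unique h h' hS hc

/-- The constant at the far end of a turn path of length `d + 1` is that of the start. -/
theorem const_far [Finite G] {p : ℕ → Ω} (hp : D.TP p (D.d + 1)) {c : G}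
    (hc : D.IsCc (p 0) (D.C (p 0) (p 1)) c) :
    D.Pair (p 0) (D.C (p 0) (p 1)) (p (D.d + 1)) (D.C (p D.d) (p (D.d + 1))) c := by
  obtain ⟨c₀, hc₀⟩ := all_pair hp
  have : c₀ = c := const_unique (fl_out (hp.1 0 (by omega))) hc₀.cx hc
  rwa [this] at hc₀

end Cd

end Sims3
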