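import Mathlib
import Cfsg.Agent.Lib.Sims3D

/-!
# Suborbit of length three: the critical distance is at most one
-/

set_option autoImplicit false

namespace Sims3

open MulAction Cub Cb Cc

variable {G Ω : Type*} [Group G] [MulAction G Ω]

namespace Cd

variable {D : Cd G Ω}

/-- The constant of the initial flag of a turn path of length `d` commutes with the stabilizer of
the last point. -/
theorem penult [Finite G] {e : ℕ} (hd : D.d = e + 1) {p : ℕ → Ω} (hp : D.TP p (e + 1)) {c : G}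
    (hc : D.IsCc (p 0) (D.C (p 0) (p 1)) c) : ∀ g ∈ D.St (p (e + 1)), g * c = c * g := by
  obtain ⟨z₀, z, z', -, hz, hz', -, -, hzz, -, hC, hC'⟩ := exists_turn (hp.1 e (by omega))
  have key : ∀ w, D.R (p (e + 1)) w → D.C (p e) (p (e + 1)) ≠ D.C (p (e + 1)) w →
      c ∈ Zc (D.C (p (e + 1)) w) := by
    intro w hw hCw
    have h1 := hp.extend hw hCw
    have h1' : D.TP (Function.update p (e + 2) w) (D.d + 1) := by rw [hd]; exact h1
    have h0 : Function.update p (e + 2) w 0 = p 0 := Function.update_of_ne (by omega) _ _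
    have h01 : Function.update p (e + 2) w 1 = p 1 := Function.update_of_ne (by omega) _ _
    have hc' : D.IsCc (Function.update p (e + 2) w 0)
        (D.C (Function.update p (e + 2) w 0) (Function.update p (e + 2) w 1)) c := by
      rw [h0, h01]; exact hc
    have h2 := const_far h1' hc'
    have h3 : Function.update p (e + 2) w D.d = p (e + 1) := by
      rw [hd]; exact Function.update_of_ne (by omega) _ _
    have h4 : Function.update p (e + 2) w (D.d + 1) = w := by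
      rw [hd]; exact Function.update_self _ _ _
    rw [h3, h4] at h2
    exact h2.c_T
  have hz1 := mem_Zc.1 (key z hz hC)
  have hz2 := mem_Zc.1 (key z' hz' hC')
  have hne : D.C (p (e + 1)) z ≠ D.C (p (e + 1)) z' := fun h => hzz (D.ni hz hz' h)
  exact comm_of_flags (fl_out hz) (fl_out hz') hne hz1.2 hz2.2

/-- The critical distance is at most two. -/
theorem d_le_one [Finite G] {a b : Ω} (hab : D.R a b) : D.d ≤ 1 := by
  by_contra hcon
  obtain ⟨e, he⟩ : ∃ e, D.d = e + 2 := ⟨D.d - 2, by omega⟩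
  obtain ⟨p, hp, h0, h1⟩ := exists_TP hab e
  obtain ⟨c, hc, hc1, -, hcZ⟩ := exists_const (fl_out hab : D.Fl a _)
  obtain ⟨z₀, r, r', -, hr, hr', -, -, hrr, -, hC, hC'⟩ := exists_turn (hp.1 e (by omega))
  have key : ∀ w, D.R (p (e + 1)) w → D.C (p e) (p (e + 1)) ≠ D.C (p (e + 1)) w →
      ∀ g ∈ D.St w, g * c = c * g := by
    intro w hw hCw
    have h2 := hp.extend hw hCw
    have h00 : Function.update p (e + 2) w 0 = p 0 := Function.update_of_ne (by omega) _ _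
    have h01 : Function.update p (e + 2) w 1 = p 1 := Function.update_of_ne (by omega) _ _
    have hc' : D.IsCc (Function.update p (e + 2) w 0)
        (D.C (Function.update p (e + 2) w 0) (Function.update p (e + 2) w 1)) c := by
      rw [h00, h01, h0, h1]; exact hc
    have := penult (e := e + 1) (by omega) h2 hc'
    rwa [show e + 1 + 1 = e + 2 by omega, Function.update_self] at this
  have hcSt : c ∈ D.St a := C_le_St_left a b (Zc_le _ hcZ)
  exact hc1 (central_two' hrr hcSt (key r hr hC) (key r' hr' hC'))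

/-! ### Critical distance two -/

/-- The constant of a vertex, for critical distance two. -/
structure YF (D : Cd G Ω) (y : Ω → G) : Prop where
  yi : ∀ {i v : Ω}, D.R i v → D.IsCc i (D.C i v) (y v)
  yo : ∀ {v o : Ω}, D.R v o → D.IsCc o (D.C v o) (y v)
  zi : ∀ {i v : Ω}, D.R i v → y v ∈ Zc (D.C i v)
  zo : ∀ {v o : Ω}, D.R v o → y v ∈ Zc (D.C v o)
  ne : ∀ v : Ω, y v ≠ 1
  sq : ∀ v : Ω, y v * y v = 1
  cen : ∀ v : Ω, ∀ g ∈ D.St v, g * y v = y v * g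

theorem pair2 [Finite G] (hd : D.d = 1) {x y z : Ω} {c : G} (h1 : D.R x y) (h2 : D.R y z)
    (h3 : D.C x y ≠ D.C y z) (hc : D.IsCc x (D.C x y) c) :
    D.Pair x (D.C x y) z (D.C y z) c := by
  obtain ⟨p, hp, h0, h01⟩ := exists_TP h1 0
  have hp2 := hp.extend (z := z) (by rw [show (0 : ℕ) + 1 = 1 by omega, h01]; exact h2)
    (by rw [show (0 : ℕ) + 1 = 1 by omega, h01, h0]; exact h3)
  have hp2' : D.TP (Function.update p (0 + 2) z) (D.d + 1) := by rw [hd]; exact hp2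
  have e0 : Function.update p (0 + 2) z 0 = x := by
    rw [Function.update_of_ne (by omega)]; exact h0
  have e1 : Function.update p (0 + 2) z 1 = y := by
    rw [Function.update_of_ne (by omega)]; exact h01
  have e2 : Function.update p (0 + 2) z (1 + 1) = z := Function.update_self _ _ _
  have hc' : D.IsCc (Function.update p (0 + 2) z 0)
      (D.C (Function.update p (0 + 2) z 0) (Function.update p (0 + 2) z 1)) c := by
    rw [e0, e1]; exact hc
  have := const_far hp2' hc'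
  rw [hd, e0, e1, e2] at this
  exact this

theorem exists_YF_at [Finite G] (hd : D.d = 1) (v : Ω) :
    ∃ c, (∀ {i : Ω}, D.R i v → D.IsCc i (D.C i v) c) ∧ (∀ {o : Ω}, D.R v o → D.IsCc o (D.C v o) c) ∧
      (∀ {i : Ω}, D.R i v → c ∈ Zc (D.C i v)) ∧ (∀ {o : Ω}, D.R v o → c ∈ Zc (D.C v o)) ∧ c ≠ 1 ∧
      c * c = 1 ∧ ∀ g ∈ D.St v, g * c = c * g := by
  obtain ⟨i₀, hi₀⟩ := D.ex_in v
  obtain ⟨c, hc, hc1, hc2, hcZ⟩ := exists_const (fl_out hi₀ : D.Fl i₀ _)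
  obtain ⟨z₀, z, z', hz₀, hz, hz', -, -, hzz, -, hC, hC'⟩ := exists_turn hi₀
  have h1 : ∀ {o : Ω}, D.R v o → D.C i₀ v ≠ D.C v o → D.IsCc o (D.C v o) c := by
    intro o ho hCo
    exact (pair2 hd hi₀ ho hCo hc).cy
  have hin : ∀ {i : Ω}, D.R i v → D.IsCc i (D.C i v) c := by
    intro i hi
    obtain ⟨c', hc', -, -, -⟩ := exists_const (fl_out hi : D.Fl i _)
    have hex : ∃ o, D.R v o ∧ D.C i₀ v ≠ D.C v o ∧ D.C i v ≠ D.C v o := by
      by_cases h : D.C i v = D.C v z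
      · refine ⟨z', hz', hC', ?_⟩
        rw [h]
        exact fun h2 => hzz (D.ni hz hz' h2)
      · exact ⟨z, hz, hC, h⟩
    obtain ⟨o, ho, ho1, ho2⟩ := hex
    have h2 := pair2 hd hi ho ho2 hc'
    have h3 := h1 ho ho1
    have : c' = c := const_unique (fl_in ho) h2.cy h3
    rwa [this] at hc'
  have hpair : ∀ {i o : Ω}, D.R i v → D.R v o → D.C i v ≠ D.C v o →
      D.Pair i (D.C i v) o (D.C v o) c := fun hi ho hne => pair2 hd hi ho hne (hin hi)
  have hturnin : ∀ {o : Ω}, D.R v o → ∃ i, D.R i v ∧ D.C i v ≠ D.C v o := by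
    intro o ho
    obtain ⟨-, i, -, -, hi, -, -, -, -, -, hne, -⟩ := exists_turn_in ho
    exact ⟨i, hi, Ne.symm hne⟩
  have hout : ∀ {o : Ω}, D.R v o → D.IsCc o (D.C v o) c := by
    intro o ho
    obtain ⟨i, hi, hne⟩ := hturnin ho
    exact (hpair hi ho hne).cy
  have hzo : ∀ {o : Ω}, D.R v o → c ∈ Zc (D.C v o) := by
    intro o ho
    obtain ⟨i, hi, hne⟩ := hturnin ho
    exact (hpair hi ho hne).c_T
  have hzi : ∀ {i : Ω}, D.R i v → c ∈ Zc (D.C i v) := by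
    intro i hi
    obtain ⟨o, ho, hne⟩ : ∃ o, D.R v o ∧ D.C i v ≠ D.C v o := by
      obtain ⟨-, o, -, -, ho, -, -, -, -, -, hne, -⟩ := exists_turn hi
      exact ⟨o, ho, hne⟩
    exact (hpair hi ho hne).c_S
  refine ⟨c, hin, hout, hzi, hzo, hc1, hc2, ?_⟩
  have hne : D.C v z ≠ D.C v z' := fun h => hzz (D.ni hz hz' h)
  exact comm_of_flags (fl_out hz) (fl_out hz') hne (mem_Zc.1 (hzo hz)).2 (mem_Zc.1 (hzo hz')).2

theorem exists_YF [Finite G] (hd : D.d = 1) : ∃ y, D.YF y := by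
  choose y h1 h2 h3 h4 h5 h6 h7 using exists_YF_at hd
  exact ⟨y, ⟨fun {i v} h => h1 v h, fun {v o} h => h2 v h, fun {i v} h => h3 v h,
    fun {v o} h => h4 v h, h5, h6, h7⟩⟩

section Two

variable [Finite G] {y : Ω → G}

theorem YF.smul (hd : D.d = 1) (hy : D.YF y) (g : G) (v : Ω) : y (g • v) = g * y v * g⁻¹ := by
  obtain ⟨i, hi⟩ := D.ex_in v
  have h1 := hy.yi (D.toCub.smul g hi)
  have h2 := (hy.yi hi).smul g
  rw [← C_smul] at h2
  exact const_unique (fl_out (D.toCub.smul g hi)) h1 h2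

/-- The flag determines the arc: the orbital is self-paired. -/
theorem YF.back (hy : D.YF y) {i u w : Ω} (hi : D.R i u) (hw : D.R u w)
    (hC : D.C i u = D.C u w) : i = w := by
  by_contra hne
  have h1 := hy.yi hw
  have h2 := hy.yo hi
  rw [hC] at h2
  have h3 : y w = y i := const_unique (fl_out hw) h1 h2
  apply hy.ne w
  have hzSt : y w ∈ D.St w := C_le_St_right u w (Zc_le _ (hy.zi hw))
  apply central_two' (x := i) (y := w) hne hzSt
  · rw [h3]; exact hy.cen i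
  · exact hy.cen w

theorem YF.sym (hy : D.YF y) {u w : Ω} (h : D.R u w) : D.R w u := by
  obtain ⟨i, hi, hC⟩ := out_eq_in h
  have := hy.back hi h hC.symm
  rwa [this] at hi

theorem YF.turn (hy : D.YF y) {x u z : Ω} (h1 : D.R x u) (h2 : D.R u z) (hne : x ≠ z) :
    D.C x u ≠ D.C u z := fun h => hne (hy.back h1 h2 h)

theorem YF.not_Zc (hy : D.YF y) {w x z : Ω} (h1 : D.R w x) (h2 : D.R x z) (hne : w ≠ z) :
    y w ∉ Zc (D.C x z) := by
  intro hz
  apply hy.ne w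
  have h3 := mem_Zc.1 (hy.zo h1)
  have h4 := mem_Zc.1 hz
  have hflag := comm_of_flags (fl_in h1) (fl_out h2) (hy.turn h1 h2 hne) h3.2 h4.2
  apply central_two' (x := w) (y := x) (D.ne h1) (C_le_St_left w x h3.1) (hy.cen w) hflag

theorem YF.mem_V (hy : D.YF y) {u w : Ω} (h : D.R u w) : y u ∈ D.V w :=
  Zc_le_V (fl_in h) (hy.zo h)

theorem V_le_K_adj (hd : D.d = 1) {u w : Ω} (h : D.R u w) : D.V u ≤ D.K w := by
  obtain ⟨p, hp, h0, h1⟩ := exists_TP h 0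
  have := (D.hmin p 1 hp (by omega)).1
  rwa [h0, h1] at this

/-- The commutator relation along a walk of length four. -/
theorem YF.R4 (hd : D.d = 1) (hy : D.YF y) {a x₀ x₁ x₂ x₃ : Ω} (h1 : D.R a x₀) (h2 : D.R x₀ x₁)
    (h3 : D.R x₁ x₂) (h4 : D.R x₂ x₃) (n1 : a ≠ x₁) (n2 : x₀ ≠ x₂) (n3 : x₁ ≠ x₃) :
    y a * y x₃ * (y a)⁻¹ * (y x₃)⁻¹ = y x₁ := by
  apply hy.yi h2
  · exact hy.mem_V h1
  · exact hy.not_Zc h1 h2 n1
  · have h5 := hy.mem_V (hy.sym h4)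
    exact K_le_C_in h2 (V_le_K_adj hd (hy.sym h3) h5)
  · intro hK
    have hP := pair2 hd h2 h3 (hy.turn h2 h3 n2) (hy.yi h2)
    have h5 := (hP.Zy _).2 ⟨hy.mem_V (hy.sym h4), hK⟩
    rw [C_comm] at h5
    exact hy.not_Zc (hy.sym h4) (hy.sym h3) n3.symm h5

/-- The end constant of a walk fixes the walk up to the penultimate vertex. -/
theorem YF.fix5 (hd : D.d = 1) (hy : D.YF y) {x₀ x₁ x₂ x₃ x₄ : Ω} (h1 : D.R x₀ x₁)
    (h2 : D.R x₁ x₂) (h3 : D.R x₂ x₃) (h4 : D.R x₃ x₄) (n1 : x₀ ≠ x₂) (n2 : x₁ ≠ x₃)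
    (n3 : x₂ ≠ x₄) : y x₀ • x₃ = x₃ ∧ y x₀ • x₄ ≠ x₄ := by
  have hg : y x₀ ∈ D.K x₂ := V_le_K_adj hd h2 (hy.mem_V h1)
  have h5 : y x₀ • x₃ = x₃ := hg.2 _ h3
  refine ⟨h5, fun h6 => ?_⟩
  have hK : y x₀ ∈ D.K x₃ := fix_all (D := D.toCub) h5 (hy.sym h3) h4 (by exact n3) hg.1 h6
  have hP := pair2 hd h2 h3 (hy.turn h2 h3 n2) (hy.yi h2)
  exact hy.not_Zc h1 h2 n1 ((hP.Zx _).2 ⟨hy.mem_V h1, hK⟩)

theorem YF.W5 (hd : D.d = 1) (hy : D.YF y) {x₀ x₁ x₂ x₃ x₄ x₅ : Ω} (h1 : D.R x₀ x₁)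
    (h2 : D.R x₁ x₂) (h3 : D.R x₂ x₃) (h4 : D.R x₃ x₄) (h5 : D.R x₄ x₅) (n1 : x₀ ≠ x₂)
    (n2 : x₁ ≠ x₃) (n3 : x₂ ≠ x₄) (n4 : x₃ ≠ x₅) :
    y x₅ * (y x₀ * y x₅ * (y x₀)⁻¹) * (y x₅)⁻¹ * (y x₀ * y x₅ * (y x₀)⁻¹)⁻¹ = y x₃ := by
  obtain ⟨f3, f4⟩ := hy.fix5 hd h1 h2 h3 h4 n1 n2 n3
  have h6 : D.R x₃ (y x₀ • x₄) := by
    have := D.toCub.smul (y x₀) h4
    rwa [f3] at this
  have h7 : D.R (y x₀ • x₄) (y x₀ • x₅) := D.toCub.smul (y x₀) h5
  have n5 : x₃ ≠ y x₀ • x₅ := by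
    intro h
    rw [← f3] at h
    exact n4 (smul_left_cancel _ h)
  have := hy.R4 hd (hy.sym h5) (hy.sym h4) h6 h7 n4.symm (Ne.symm f4) n5
  rwa [hy.smul hd] at this

/-- Critical distance two is impossible. -/
theorem d_ne_one {a b : Ω} (hab : D.R a b) (hd : D.d = 1) : False := by
  obtain ⟨y, hy⟩ := exists_YF hd
  have hnext : ∀ {x u : Ω}, D.R x u → ∃ z, D.R u z ∧ x ≠ z := by
    intro x u h
    obtain ⟨-, z, -, -, hz, -, -, -, -, -, hne, -⟩ := exists_turn h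
    refine ⟨z, hz, ?_⟩
    rintro rfl
    exact hne (C_comm _ _)
  obtain ⟨x₂, h2, n1⟩ := hnext hab
  obtain ⟨x₃, h3, n2⟩ := hnext h2
  obtain ⟨x₄, h4, n3⟩ := hnext h3
  obtain ⟨x₅, h5, n4⟩ := hnext h4
  obtain ⟨x₆, h6, n5⟩ := hnext h5
  -- the walk `a, b, x₂, x₃, x₄, x₅`
  have e1 := hy.W5 hd hab h2 h3 h4 h5 n1 n2 n3 n4
  have e2 := hy.W5 hd (hy.sym h5) (hy.sym h4) (hy.sym h3) (hy.sym h2) (hy.sym hab) n4.symm n3.symm
    n2.symm n1.symm
  set g := y a with hg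
  set k := y x₅ with hk
  have hg2 : g⁻¹ = g := inv_eq_of_mul_eq_one_left (hy.sq a)
  have hk2 : k⁻¹ = k := inv_eq_of_mul_eq_one_left (hy.sq x₅)
  have e3 : y x₃ = (k * g) ^ 4 := by
    rw [← e1, mul_inv_rev, mul_inv_rev, inv_inv, hg2, hk2]
    simp only [pow_succ, pow_zero, one_mul, hk2, hg2, mul_assoc]
  have e4 : y x₂ = (g * k) ^ 4 := by
    rw [← e2, mul_inv_rev, mul_inv_rev, inv_inv, hg2, hk2]
    simp only [pow_succ, pow_zero, one_mul, hk2, hg2, mul_assoc]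
  have e5 : g * k = (k * g)⁻¹ := by rw [mul_inv_rev, hg2, hk2]
  have e6 : y x₂ = y x₃ := by
    rw [e4, e5, inv_pow, ← e3]
    exact inv_eq_of_mul_eq_one_left (hy.sq x₃)
  apply hy.ne x₂
  have hz : y x₂ ∈ D.St x₂ := C_le_St_left x₂ x₃ (Zc_le _ (hy.zo h3))
  apply central_two' (x := x₂) (y := x₃) (D.ne h3) hz (hy.cen x₂)
  rw [e6]
  exact hy.cen x₃

end Two

end Cd

end Sims3
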