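import Mathlib
import Cfsg.Agent.Lib.Sims3E

/-!
# Suborbit of length three: critical distance one and the main bound
-/

set_option autoImplicit false

namespace Sims3

open MulAction Cub Cb Cc

variable {G Ω : Type*} [Group G] [MulAction G Ω]

namespace Cb

variable {D : Cb G Ω}

theorem swap_of_not_K_in [Finite G] {x i i' i'' : Ω} {s : G} (hs : s ∈ D.C i x) (hsK : s ∉ D.K x)
    (hi : D.R i x) (hi' : D.R i' x) (hi'' : D.R i'' x) (h1 : i ≠ i') (h2 : i ≠ i'') (h3 : i' ≠ i'') :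
    s • i' = i'' := by
  apply swap_third (D := D.toCub.flip) (x := x) (y := i) (y' := i') (y'' := i'') hs.2 hi hi' hi''
    h1 h2 h3 hs.1
  intro h
  apply hsK
  rw [mem_K_in]
  refine ⟨hs.2, fun z hz => ?_⟩
  exact (fix_all (D := D.toCub.flip) (x := x) hs.2 hi hi' h1 hs.1 h).2 z hz

end Cb

namespace Cd

variable {D : Cd G Ω}

section One

variable [Finite G] (hd : D.d = 0)

include hd

theorem pair1 {u w : Ω} (h : D.R u w) : ∃ c, D.Pair u (D.C u w) w (D.C u w) c := by
  obtain ⟨p, hp, h0, h1⟩ := exists_TP h D.d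
  obtain ⟨c, hc⟩ := all_pair hp
  have e1 : p (D.d + 1) = w := by rw [hd]; exact h1
  have e0 : p D.d = u := by rw [hd]; exact h0
  rw [e1, e0, h0, h1] at hc
  exact ⟨c, hc⟩

theorem K3_out {u w₁ w₂ w₃ : Ω} (h1 : D.R u w₁) (h2 : D.R u w₂) (h3 : D.R u w₃) (n12 : w₁ ≠ w₂)
    (n13 : w₁ ≠ w₃) (n23 : w₂ ≠ w₃) {x : G} (hx1 : x ∈ D.K w₁) (hx2 : x ∈ D.K w₂) : x ∈ D.K w₃ := by
  obtain ⟨c, hP⟩ := pair1 hd h2
  obtain ⟨t, ht, htK⟩ := SetLike.not_le_iff_exists.1 hP.ny
  have htC : t ∈ D.C u w₂ := K_le_C_in h2 (V_le_K ht)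
  have hsw : t • w₁ = w₃ := swap_of_not_K htC htK h2 h1 h3 n12.symm n23 n13
  have hcomm : x * t = t * x := K_comm_V hx2 ht
  have h4 : t * x * t⁻¹ ∈ D.K (t • w₁) := by
    rw [K_smul]; exact conj_mem_cj.2 hx1
  rw [hsw, ← hcomm] at h4
  simpa using h4

theorem K3_in {w i₁ i₂ i₃ : Ω} (h1 : D.R i₁ w) (h2 : D.R i₂ w) (h3 : D.R i₃ w) (n12 : i₁ ≠ i₂)
    (n13 : i₁ ≠ i₃) (n23 : i₂ ≠ i₃) {x : G} (hx1 : x ∈ D.K i₁) (hx2 : x ∈ D.K i₂) : x ∈ D.K i₃ := by
  obtain ⟨c, hP⟩ := pair1 hd h2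
  obtain ⟨t, ht, htK⟩ := SetLike.not_le_iff_exists.1 hP.nx
  have htC : t ∈ D.C i₂ w := K_le_C h2 (V_le_K ht)
  have hsw : t • i₁ = i₃ := swap_of_not_K_in htC htK h2 h1 h3 n12.symm n23 n13
  have hcomm : x * t = t * x := K_comm_V hx2 ht
  have h4 : t * x * t⁻¹ ∈ D.K (t • i₁) := by
    rw [K_smul]; exact conj_mem_cj.2 hx1
  rw [hsw, ← hcomm] at h4
  simpa using h4

theorem card_bound {u w : Ω} (huw : D.R u w) : Nat.card (D.C u w) ≤ 16 := by
  obtain ⟨w₂, w₃, n12, n13, n23, hallO⟩ := D.out3 huw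
  obtain ⟨i₂, i₃, m12, m13, m23, hallI⟩ := D.in3 huw
  have hw₂ : D.R u w₂ := (hallO w₂).2 (Or.inr (Or.inl rfl))
  have hw₃ : D.R u w₃ := (hallO w₃).2 (Or.inr (Or.inr rfl))
  have hi₂ : D.R i₂ w := (hallI i₂).2 (Or.inr (Or.inl rfl))
  have hi₃ : D.R i₃ w := (hallI i₃).2 (Or.inr (Or.inr rfl))
  have hS : D.Fl u (D.C u w) := fl_out huw
  have hS' : D.Fl w (D.C u w) := fl_in huw
  set X : Subgroup G := D.K u ⊓ D.K w ⊓ D.K w₂ ⊓ D.K i₂ with hX
  have hO : ∀ t ∈ X, ∀ w', D.R u w' → t ∈ D.K w' := by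
    rintro t ⟨⟨⟨h1, h2⟩, h3⟩, h4⟩ w' hw'
    rcases (hallO w').1 hw' with rfl | rfl | rfl
    · exact h2
    · exact h3
    · exact K3_out hd huw hw₂ hw₃ n12 n13 n23 h2 h3
  have hI : ∀ t ∈ X, ∀ i', D.R i' w → t ∈ D.K i' := by
    rintro t ⟨⟨⟨h1, h2⟩, h3⟩, h4⟩ i' hi'
    rcases (hallI i').1 hi' with rfl | rfl | rfl
    · exact h1
    · exact h4
    · exact K3_in hd huw hi₂ hi₃ m12 m13 m23 h1 h4
  have hXle : X ≤ D.C u w := fun t ht => hS.K_le ht.1.1.1
  have hnorm : ∀ s ∈ D.C u w, ∀ t ∈ X, s * t * s⁻¹ ∈ X := by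
    intro s hs t ht
    have hconj : ∀ {v : Ω}, t ∈ D.K (s⁻¹ • v) → s * t * s⁻¹ ∈ D.K v := by
      intro v hv
      have := (conj_mem_cj (g := s) (s := t) (S := D.K (s⁻¹ • v))).2 hv
      rwa [← K_smul, smul_inv_smul] at this
    have hs1 : s⁻¹ • u = u := by rw [inv_smul_eq_iff, hs.1]
    have hs2 : s⁻¹ • w = w := by rw [inv_smul_eq_iff, hs.2]
    refine ⟨⟨⟨K_normal hs.1 ht.1.1.1, K_normal hs.2 ht.1.1.2⟩, hconj (hO t ht _ ?_)⟩,
      hconj (hI t ht _ ?_)⟩
    · have := D.toCub.smul s⁻¹ hw₂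
      rwa [hs1] at this
    · have := D.toCub.smul s⁻¹ hi₂
      rwa [hs2] at this
  have hbot : X = ⊥ := by
    by_contra hne
    obtain ⟨k, hk⟩ := hS.two
    obtain ⟨z, hz, hz1, hz2⟩ := exists_fixed_of_two_group hk hXle hnorm hne
    have hzZ : z ∈ Zc (D.C u w) := mem_Zc.2 ⟨hXle hz, hz2⟩
    have hzVu : z ∈ D.V u := Zc_le_V hS hzZ
    have hzVw : z ∈ D.V w := Zc_le_V hS' hzZ
    have hA : ∀ w', D.R u w' → z ∈ Zc (D.C u w') := by
      intro w' hw'
      obtain ⟨c, hP⟩ := pair1 hd hw'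
      exact (hP.Zx z).2 ⟨hzVu, hO z hz w' hw'⟩
    have hB : ∀ i', D.R i' w → z ∈ Zc (D.C i' w) := by
      intro i' hi'
      obtain ⟨c, hP⟩ := pair1 hd hi'
      exact (hP.Zy z).2 ⟨hzVw, hI z hz i' hi'⟩
    apply hz1
    apply D.toCub.central_two (D.ne huw) (C_le_St_left u w (hXle hz))
    · exact comm_of_flags hS (fl_out hw₂) (fun h => n12 (D.ni huw hw₂ h)) (mem_Zc.1 (hA w huw)).2
        (mem_Zc.1 (hA w₂ hw₂)).2
    · exact comm_of_flags hS' (fl_in hi₂) (fun h => m12 (ni_in huw hi₂ h)) (mem_Zc.1 (hB u huw)).2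
        (mem_Zc.1 (hB i₂ hi₂)).2
  have h1 : Nat.card (D.C u w) ≤ 2 * Nat.card (D.C u w ⊓ D.K u : Subgroup G) :=
    card_le_two_mul_inf le_rfl (fun s hs t ht h1 h2 => hS.index2 hs ht h1 h2)
  rw [inf_eq_right.2 hS.K_le] at h1
  have h2 : Nat.card (D.K u) ≤ 2 * Nat.card (D.K u ⊓ D.K w : Subgroup G) :=
    card_le_two_mul_inf hS.K_le (fun s hs t ht h1 h2 => hS'.index2 hs ht h1 h2)
  have h3 : Nat.card (D.K u ⊓ D.K w : Subgroup G) ≤
      2 * Nat.card (D.K u ⊓ D.K w ⊓ D.K w₂ : Subgroup G) :=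
    card_le_two_mul_inf (H := D.C u w₂) (inf_le_left.trans (K_le_C hw₂))
      (fun s hs t ht h1 h2 => (fl_in hw₂ : D.Fl w₂ _).index2 hs ht h1 h2)
  have h4 : Nat.card (D.K u ⊓ D.K w ⊓ D.K w₂ : Subgroup G) ≤ 2 * Nat.card X :=
    card_le_two_mul_inf (H := D.C i₂ w) ((inf_le_left.trans inf_le_right).trans (K_le_C_in hi₂))
      (fun s hs t ht h1 h2 => (fl_out hi₂ : D.Fl i₂ _).index2 hs ht h1 h2)
  rw [hbot, Subgroup.card_bot] at h4
  omega

end One

end Cd

namespace Cc

/-- The bound in case B. -/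
theorem card_le [Finite G] (D : Cc G Ω) {a b : Ω} (hab : D.R a b) : Nat.card (D.C a b) ≤ 16 := by
  classical
  let P : ℕ → Prop := fun m =>
    ∃ p, D.TP p m ∧ (¬ D.V (p 0) ≤ D.K (p m) ∨ ¬ D.V (p m) ≤ D.K (p 0))
  have hex : ∃ m, P m := by
    obtain ⟨p, m, h1, h2⟩ := exists_crit hab
    exact ⟨m, p, h1, h2⟩
  have hm0 : Nat.find hex ≠ 0 := by
    intro h0
    have := Nat.find_spec hex
    rw [h0] at this
    obtain ⟨p, -, h | h⟩ := this
    · exact h V_le_K
    · exact h V_le_K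
  obtain ⟨d, hd⟩ : ∃ d, Nat.find hex = d + 1 := ⟨Nat.find hex - 1, by omega⟩
  have hmin : ∀ p m, D.TP p m → m ≤ d → D.V (p 0) ≤ D.K (p m) ∧ D.V (p m) ≤ D.K (p 0) := by
    intro p m hp hm
    have h1 : ¬ P m := Nat.find_min hex (by omega)
    by_contra hcon
    apply h1
    refine ⟨p, hp, ?_⟩
    by_contra h2
    push Not at h2
    exact hcon ⟨h2.1, h2.2⟩
  have hcrit : P (d + 1) := by
    have := Nat.find_spec hex
    rwa [hd] at this
  let D' : Cd G Ω := { toCc := D, d := d, hmin := hmin, hcrit := hcrit }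
  have hab' : D'.R a b := hab
  have hd1 : D'.d ≤ 1 := Cd.d_le_one hab'
  have hd2 : D'.d ≠ 1 := fun h => Cd.d_ne_one hab' h
  have hd0 : D'.d = 0 := by omega
  exact Cd.card_bound hd0 hab'

end Cc

namespace Cb

/-- The bound in the non-degenerate case. -/
theorem card_le [Finite G] (D : Cb G Ω) {a b : Ω} (hab : D.R a b) : Nat.card (D.C a b) ≤ 16 := by
  by_cases hB : ∀ x S, D.Fl x S → Zc S ≤ D.K x
  · exact Cc.card_le { toCb := D, hB := hB } hab
  · push Not at hB
    obtain ⟨x, S, hS, hnot⟩ := hB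
    have hA : ∀ x' S', D.Fl x' S' → ¬ Zc S' ≤ D.K x' := by
      intro x' S' hS' hle
      obtain ⟨g, rfl, rfl⟩ := hS.trans hS'
      apply hnot
      rw [Zc_cj, K_smul] at hle
      intro z hz
      exact conj_mem_cj.1 (hle (conj_mem_cj.2 hz))
    have := caseA hA hab
    omega

end Cb

namespace Cub

/-- The main bound for an orbital with three out- and in-neighbours. -/
theorem card_le [Finite G] (D : Cub G Ω) {a b : Ω} (hab : D.R a b) : Nat.card (D.C a b) ≤ 16 := by
  by_cases hni : ∀ {x y y' : Ω}, D.R x y → D.R x y' → D.C x y = D.C x y' → y = y'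
  · exact Cb.card_le { toCub := D, ni := hni } hab
  · push Not at hni
    obtain ⟨x, y, y', hy, hy', hC, hne⟩ := hni
    rw [caseI hy hy' hne hC hab, Subgroup.card_bot]
    norm_num

end Cub

section Construction

theorem stabilizer_smul_cj (g : G) (x : Ω) : stabilizer G (g • x) = cj g (stabilizer G x) := by
  ext s
  rw [mem_cj, mem_stabilizer_iff, mem_stabilizer_iff]
  constructor
  · intro h; simp only [mul_smul]; rw [h]; simp
  · intro h
    have h' : g⁻¹ • s • g • x = x := by simpa [mul_smul] using h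
    rw [← smul_left_cancel_iff (g⁻¹), h']
    simp

theorem cj_inf (g : G) (A B : Subgroup G) : cj g (A ⊓ B) = cj g A ⊓ cj g B := by
  ext s
  simp only [mem_cj, Subgroup.mem_inf]

theorem card_stab_smul (g : G) (x : Ω) : Nat.card (stabilizer G (g • x)) = Nat.card (stabilizer G x) := by
  rw [stabilizer_smul_cj, card_cj]

theorem card_stab_inf_smul (g : G) (x y : Ω) :
    Nat.card (stabilizer G (g • x) ⊓ stabilizer G (g • y) : Subgroup G) =
      Nat.card (stabilizer G x ⊓ stabilizer G y : Subgroup G) := by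
  rw [stabilizer_smul_cj, stabilizer_smul_cj, ← cj_inf, card_cj]

/-- Orbit-stabilizer for the action of a stabilizer. -/
theorem card_orbit_stab (a b : Ω) :
    Nat.card (orbit (stabilizer G a) b) * Nat.card (stabilizer G a ⊓ stabilizer G b : Subgroup G) =
      Nat.card (stabilizer G a) := by
  have h1 := Nat.card_congr (orbitProdStabilizerEquivGroup (stabilizer G a) b)
  rw [Nat.card_prod] at h1
  rw [← h1]
  congr 1
  apply Nat.card_congr
  exact
    { toFun := fun t => ⟨⟨t.1, t.2.1⟩, t.2.2⟩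
      invFun := fun s => ⟨s.1.1, ⟨s.1.2, s.2⟩⟩
      left_inv := fun _ => rfl
      right_inv := fun _ => rfl }

theorem three_of_iff {α : Type*} {s : α → Prop} {p q r : α} (h : ∀ z, s z ↔ z = p ∨ z = q ∨ z = r)
    (hpq : p ≠ q) (hpr : p ≠ r) (hqr : q ≠ r) {y : α} (hy : s y) :
    ∃ y' y'', y ≠ y' ∧ y ≠ y'' ∧ y' ≠ y'' ∧ ∀ z, s z ↔ z = y ∨ z = y' ∨ z = y'' := by
  rcases (h y).1 hy with rfl | rfl | rfl
  · exact ⟨q, r, hpq, hpr, hqr, h⟩
  · refine ⟨p, r, hpq.symm, hqr, hpr, fun z => ?_⟩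
    rw [h z]; tauto
  · refine ⟨p, q, hpr.symm, hqr.symm, hpq, fun z => ?_⟩
    rw [h z]; tauto

/-- The out-neighbours of a translate of `a`. -/
theorem out_iff {a b p q r : Ω} (h : orbit (stabilizer G a) b = {p, q, r}) (g : G) (z : Ω) :
    (∃ l : G, l • a = g • a ∧ l • b = z) ↔ z = g • p ∨ z = g • q ∨ z = g • r := by
  have hmem : ∀ w, w ∈ orbit (stabilizer G a) b ↔ w = p ∨ w = q ∨ w = r := by
    intro w; rw [h]; simp
  constructor
  · rintro ⟨l, h1, rfl⟩
    have h2 : g⁻¹ * l ∈ stabilizer G a := by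
      rw [mem_stabilizer_iff, mul_smul, h1, inv_smul_smul]
    have h3 : (g⁻¹ * l) • b ∈ orbit (stabilizer G a) b := ⟨⟨_, h2⟩, rfl⟩
    rcases (hmem _).1 h3 with h4 | h4 | h4
    · left; rw [← h4]; simp [mul_smul]
    · right; left; rw [← h4]; simp [mul_smul]
    · right; right; rw [← h4]; simp [mul_smul]
  · intro hz
    have : ∃ w ∈ orbit (stabilizer G a) b, z = g • w := by
      rcases hz with rfl | rfl | rfl
      · exact ⟨p, (hmem p).2 (Or.inl rfl), rfl⟩
      · exact ⟨q, (hmem q).2 (Or.inr (Or.inl rfl)), rfl⟩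
      · exact ⟨r, (hmem r).2 (Or.inr (Or.inr rfl)), rfl⟩
    obtain ⟨w, ⟨⟨l, hl⟩, rfl⟩, rfl⟩ := this
    refine ⟨g * l, ?_, ?_⟩
    · rw [mul_smul]
      congr 1
    · rw [mul_smul]
      rfl

/-- From the data of a suborbit of length three to an orbital. -/
def cubOfSuborbit {G Ω : Type*} [Group G] [Finite G] [MulAction G Ω] [FaithfulSMul G Ω]
    (hprim : IsPreprimitive G Ω) (a b : Ω)
    (h3 : Nat.card (orbit (stabilizer G a) b) = 3) : Cub G Ω :=
  haveI := hprim
  have hcard : Nat.card (stabilizer G a) =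
      3 * Nat.card (stabilizer G a ⊓ stabilizer G b : Subgroup G) := by
    rw [← card_orbit_stab a b, h3]
  have hab : a ≠ b := by
    rintro rfl
    have h1 := card_orbit_stab (G := G) a a
    rw [inf_idem, h3] at h1
    have : 0 < Nat.card (stabilizer G a) := Nat.card_pos
    omega
  have hcardb : Nat.card (stabilizer G b) = Nat.card (stabilizer G a) := by
    obtain ⟨g, rfl⟩ := exists_smul_eq G a b
    exact card_stab_smul g a
  have h3' : Nat.card (orbit (stabilizer G b) a) = 3 := by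
    have h1 := card_orbit_stab (G := G) b a
    rw [hcardb, hcard, inf_comm] at h1
    have : 0 < Nat.card (stabilizer G a ⊓ stabilizer G b : Subgroup G) := Nat.card_pos
    exact Nat.eq_of_mul_eq_mul_right this h1
  have hO : ∃ p q r : Ω, p ≠ q ∧ p ≠ r ∧ q ≠ r ∧ orbit (stabilizer G a) b = {p, q, r} := by
    have : (orbit (stabilizer G a) b).ncard = 3 := h3
    exact Set.ncard_eq_three.1 this
  have hI : ∃ p q r : Ω, p ≠ q ∧ p ≠ r ∧ q ≠ r ∧ orbit (stabilizer G b) a = {p, q, r} := by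
    have : (orbit (stabilizer G b) a).ncard = 3 := h3'
    exact Set.ncard_eq_three.1 this
  { R := fun x y => ∃ g : G, g • a = x ∧ g • b = y
    smul := by
      rintro g x y ⟨l, rfl, rfl⟩
      exact ⟨g * l, mul_smul _ _ _, mul_smul _ _ _⟩
    trans := by
      rintro x y x' y' ⟨l, rfl, rfl⟩ ⟨l', rfl, rfl⟩
      exact ⟨l' * l⁻¹, by simp [mul_smul], by simp [mul_smul]⟩
    ne := by
      rintro x y ⟨l, rfl, rfl⟩ h
      exact hab (smul_left_cancel _ h)
    ex_out := by
      intro x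
      obtain ⟨g, rfl⟩ := exists_smul_eq G a x
      exact ⟨g • b, g, rfl, rfl⟩
    ex_in := by
      intro y
      obtain ⟨g, rfl⟩ := exists_smul_eq G b y
      exact ⟨g • a, g, rfl, rfl⟩
    out3 := by
      rintro x y ⟨g, rfl, rfl⟩
      obtain ⟨p, q, r, hpq, hpr, hqr, horb⟩ := hO
      apply three_of_iff (p := g • p) (q := g • q) (r := g • r) (out_iff horb g)
        (fun h => hpq (smul_left_cancel _ h)) (fun h => hpr (smul_left_cancel _ h))
        (fun h => hqr (smul_left_cancel _ h))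
      exact ⟨g, rfl, rfl⟩
    in3 := by
      rintro x y ⟨g, rfl, rfl⟩
      obtain ⟨p, q, r, hpq, hpr, hqr, horb⟩ := hI
      apply three_of_iff (s := fun z => ∃ l : G, l • a = z ∧ l • b = g • b)
        (p := g • p) (q := g • q) (r := g • r)
        (fun z => ?_)
        (fun h => hpq (smul_left_cancel _ h)) (fun h => hpr (smul_left_cancel _ h))
        (fun h => hqr (smul_left_cancel _ h))
      · exact ⟨g, rfl, rfl⟩
      · rw [← out_iff horb g z]
        constructor
        · rintro ⟨l, h1, h2⟩; exact ⟨l, h2, h1⟩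
        · rintro ⟨l, h1, h2⟩; exact ⟨l, h2, h1⟩
    idx_out := by
      rintro x y ⟨g, rfl, rfl⟩
      rw [card_stab_smul, card_stab_inf_smul, hcard]
    idx_in := by
      rintro x y ⟨g, rfl, rfl⟩
      rw [card_stab_smul, card_stab_inf_smul, hcardb, hcard, inf_comm]
    join := by
      intro x y hne
      haveI : Nontrivial Ω := ⟨⟨a, b, hab⟩⟩
      have hC : IsCoatom (stabilizer G x) := IsPreprimitive.isCoatom_stabilizer_of_isPreprimitive G x
      by_contra hcon
      have hle : stabilizer G y ≤ stabilizer G x := by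
        by_contra hnot
        apply hcon
        apply hC.2
        rw [lt_iff_le_not_ge]
        exact ⟨le_sup_left, fun h => hnot (le_sup_right.trans h)⟩
      obtain ⟨g, rfl⟩ := exists_smul_eq G x y
      have hxa : Nat.card (stabilizer G x) = Nat.card (stabilizer G a) := by
        obtain ⟨l, rfl⟩ := exists_smul_eq G a x
        exact card_stab_smul l a
      have heq : stabilizer G (g • x) = stabilizer G x :=
        Subgroup.eq_of_le_of_card_ge hle (by rw [card_stab_smul])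
      have hgn : g ∈ Subgroup.normalizer (stabilizer G x : Set G) := by
        rw [Subgroup.mem_normalizer_iff]
        intro t
        rw [← conj_mem_cj (g := g), ← stabilizer_smul_cj, heq]
      have hgx : g ∉ stabilizer G x := fun h => hne (mem_stabilizer_iff.1 h).symm
      have hN : Subgroup.normalizer (stabilizer G x : Set G) = ⊤ := by
        apply hC.2
        rw [lt_iff_le_not_ge]
        exact ⟨Subgroup.le_normalizer, fun h => hgx (h hgn)⟩
      have hall : ∀ t ∈ stabilizer G x, t = 1 := by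
        intro t ht
        apply FaithfulSMul.eq_of_smul_eq_smul (α := Ω)
        intro w
        obtain ⟨l, rfl⟩ := exists_smul_eq G x w
        have hl : l⁻¹ ∈ Subgroup.normalizer (stabilizer G x : Set G) := by rw [hN]; trivial
        have h5 := (Subgroup.mem_normalizer_iff.1 hl t).1 ht
        rw [mem_stabilizer_iff] at h5
        have h6 : l⁻¹ • t • l • x = x := by simpa [mul_smul] using h5
        rw [one_smul, ← smul_left_cancel_iff l⁻¹, h6]
        simp
      have hbot : stabilizer G x = ⊥ := by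
        rw [eq_bot_iff]
        intro t ht
        exact hall t ht
      have hone : Nat.card (stabilizer G x) = 1 := by rw [hbot]; simp
      have : 0 < Nat.card (stabilizer G a ⊓ stabilizer G b : Subgroup G) := Nat.card_pos
      omega
    faith := by
      intro g hg
      apply FaithfulSMul.eq_of_smul_eq_smul (α := Ω)
      intro w
      rw [hg, one_smul] }

/-- **Sims**: a primitive group with a suborbit of length 3 has point stabilizers of order
`2 ^ k * 3` with `k ≤ 4`. -/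
theorem stabilizer_card_of_suborbit_three {G Ω : Type*} [Group G] [Finite G] [MulAction G Ω]
    [FaithfulSMul G Ω] (hprim : IsPreprimitive G Ω) (a b : Ω)
    (h3 : Nat.card (orbit (stabilizer G a) b) = 3) :
    ∃ k : ℕ, k ≤ 4 ∧ Nat.card (stabilizer G a) = 2 ^ k * 3 := by
  let D := cubOfSuborbit hprim a b h3
  have hab : D.R a b := ⟨1, one_smul _ _, one_smul _ _⟩
  obtain ⟨k, hk⟩ := two_group hab
  have hle := D.card_le hab
  refine ⟨k, ?_, ?_⟩
  · rw [hk] at hle
    have : (2 : ℕ) ^ k ≤ 2 ^ 4 := by norm_num; exact hle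
    exact (Nat.pow_le_pow_iff_right (by norm_num)).1 this
  · have := card_St_out hab
    have h2 : Nat.card (stabilizer G a) = 3 * 2 ^ k := by
      rw [← hk]; exact this
    rw [h2, mul_comm]

end Construction

end Sims3
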