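import Mathlib
import Cfsg.Prelude.Def_ClassificationK
import Cfsg.Agent.Lib.ExtraDual
import Cfsg.Agent.Lib.GF2Setup
import Cfsg.Agent.Lib.KleinTools

/-!
# A mini P. Hall theorem: 2-groups of symplectic type and exponent dividing 4

Thompson's critical subgroup exists in a finite 2-group; from it we get that a 2-group of symplectic
type whose elements satisfy `x ^ 4 = 1` has commutator subgroup inside `⟨z⟩`, `z` its central
involution, and all squares in `{1, z}`.
-/

set_option autoImplicit false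

namespace Cfsg.Agent.Lib.SympExp4

open Cfsg Cfsg.Agent.Lib.ExtraDual

variable {T : Type*} [Group T]

/-- The preimage of `Ω₁(Z(T/N))`. -/
def upperOmega (N : Subgroup T) (hN : N.Normal) : Subgroup T where
  carrier := {w | w ^ 2 ∈ N ∧ ∀ y, y * w * y⁻¹ * w⁻¹ ∈ N}
  mul_mem' := by
    rintro w w' ⟨h1, h2⟩ ⟨h1', h2'⟩
    constructor
    · have e : (w * w') ^ 2 = (w * (w' * w * w'⁻¹ * w⁻¹) * w⁻¹) * w ^ 2 * w' ^ 2 := by
        simp only [pow_two]; group
      rw [e]
      exact N.mul_mem (N.mul_mem (hN.conj_mem _ (h2 w') w) h1) h1'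
    · intro y
      have e : y * (w * w') * y⁻¹ * (w * w')⁻¹ =
          (y * w * y⁻¹ * w⁻¹) * (w * (y * w' * y⁻¹ * w'⁻¹) * w⁻¹) := by group
      rw [e]
      exact N.mul_mem (h2 y) (hN.conj_mem _ (h2' y) w)
  one_mem' := by simp [N.one_mem]
  inv_mem' := by
    rintro w ⟨h1, h2⟩
    constructor
    · rw [inv_pow]; exact N.inv_mem h1
    · intro y
      have e : y * w⁻¹ * y⁻¹ * w⁻¹⁻¹ = w⁻¹ * (y * w * y⁻¹ * w⁻¹)⁻¹ * w⁻¹⁻¹ := by group
      rw [e]
      exact hN.conj_mem _ (N.inv_mem (h2 y)) w⁻¹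

theorem mem_upperOmega {N : Subgroup T} {hN : N.Normal} {w : T} :
    w ∈ upperOmega N hN ↔ (w ^ 2 ∈ N ∧ ∀ y, y * w * y⁻¹ * w⁻¹ ∈ N) := Iff.rfl

theorem upperOmega_char (N : Subgroup T) [hc : N.Characteristic] :
    (upperOmega N (Subgroup.normal_of_characteristic N)).Characteristic := by
  rw [Subgroup.characteristic_iff_le_comap]
  intro ϕ w hw
  obtain ⟨h1, h2⟩ := mem_upperOmega.mp hw
  have hN := Subgroup.characteristic_iff_le_comap.mp hc ϕ
  have h5 : ϕ.toMonoidHom w ∈ upperOmega N (Subgroup.normal_of_characteristic N) := by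
    refine ⟨?_, ?_⟩
    · have := hN h1
      simpa using this
    · intro y
      have h3 := hN (h2 (ϕ.symm y))
      simpa using h3
  exact h5

/-- Between normal subgroups `N < H` of a finite 2-group there is an element of `H` outside `N`
which is central of order two modulo `N`. -/
theorem exists_between_normal [Finite T] (h2 : IsPGroup 2 T) {N H : Subgroup T} (hN : N.Normal)
    (hH : H.Normal) (hNH : N ≤ H) (hne : N ≠ H) :
    ∃ x ∈ H, x ∉ N ∧ x ^ 2 ∈ N ∧ ∀ y, y * x * y⁻¹ * x⁻¹ ∈ N := by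
  have hfact : Fact (Nat.Prime 2) := ⟨Nat.prime_two⟩
  have hq : IsPGroup 2 (T ⧸ N) := h2.to_quotient N
  let E : Subgroup (T ⧸ N) := H.map (QuotientGroup.mk' N)
  have hEn : E.Normal := Subgroup.Normal.map hH _ (QuotientGroup.mk'_surjective N)
  have hE : E ≠ ⊥ := by
    intro hbot
    apply hne
    apply le_antisymm hNH
    intro x hx
    have h3 : (QuotientGroup.mk' N x) ∈ E := ⟨x, hx, rfl⟩
    rw [hbot, Subgroup.mem_bot] at h3
    exact (QuotientGroup.eq_one_iff x).mp h3
  obtain ⟨u, huE, hu1, huc⟩ := Cfsg.Agent.Lib.KleinTools.exists_central_of_normal hq E hE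
  obtain ⟨k, hk2, hk1⟩ := Cfsg.Agent.Lib.GF2Setup.exists_pow_involution hq hu1
  obtain ⟨x₀, hx₀, rfl⟩ := huE
  refine ⟨x₀ ^ k, H.pow_mem hx₀ k, ?_, ?_, ?_⟩
  · intro h3
    apply hk1
    rw [← map_pow]
    exact (QuotientGroup.eq_one_iff _).mpr h3
  · apply (QuotientGroup.eq_one_iff _).mp
    have : QuotientGroup.mk' N ((x₀ ^ k) ^ 2) = 1 := by
      rw [map_pow, map_pow]; exact hk2
    exact this
  · intro y
    apply (QuotientGroup.eq_one_iff _).mp
    have h5 : QuotientGroup.mk' N (y * x₀ ^ k * y⁻¹ * (x₀ ^ k)⁻¹) = 1 := by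
      simp only [map_mul, map_inv, map_pow]
      have h6 : (QuotientGroup.mk' N y) * ((QuotientGroup.mk' N x₀) ^ k) =
          ((QuotientGroup.mk' N x₀) ^ k) * (QuotientGroup.mk' N y) :=
        ((Commute.pow_right (huc (QuotientGroup.mk' N y)) k)).eq
      rw [h6]; group
    exact h5

/-- The centre of `K`, as a subgroup of the ambient group. -/
def zc (K : Subgroup T) : Subgroup T := K ⊓ Subgroup.centralizer (K : Set T)

instance zc_char (K : Subgroup T) [K.Characteristic] : (zc K).Characteristic := by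
  unfold zc; infer_instance

theorem mem_zc {K : Subgroup T} {x : T} : x ∈ zc K ↔ (x ∈ K ∧ ∀ y ∈ K, y * x = x * y) := by
  unfold zc
  rw [Subgroup.mem_inf, Subgroup.mem_centralizer_iff]
  rfl

/-- Thompson's critical subgroup (the part we need). -/
theorem exists_critical [Finite T] (h2 : IsPGroup 2 T) :
    ∃ K : Subgroup T, K.Characteristic ∧
      (∀ w ∈ K, w ^ 2 ∈ zc K ∧ ∀ y, y * w * y⁻¹ * w⁻¹ ∈ zc K) ∧
      Subgroup.centralizer (K : Set T) ≤ K := by
  let F : Set (Subgroup T) := {K | K.Characteristic ∧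
      (∀ w ∈ K, w ^ 2 ∈ zc K ∧ ∀ y, y * w * y⁻¹ * w⁻¹ ∈ zc K)}
  have hF : F.Nonempty := by
    refine ⟨⊥, inferInstance, ?_⟩
    intro w hw
    rw [Subgroup.mem_bot] at hw
    subst hw
    simp
  obtain ⟨K, hK⟩ := (Set.toFinite F).exists_maximal hF
  obtain ⟨hKc, hKp⟩ := hK.prop
  refine ⟨K, hKc, hKp, ?_⟩
  by_contra hcon
  have hNc : (zc K).Characteristic := zc_char K
  have hNn : (zc K).Normal := Subgroup.normal_of_characteristic _
  have hHc : (Subgroup.centralizer (K : Set T)).Characteristic := inferInstance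
  have hHn : (Subgroup.centralizer (K : Set T)).Normal := Subgroup.normal_of_characteristic _
  have hNH : zc K ≤ Subgroup.centralizer (K : Set T) := inf_le_right
  have hne : zc K ≠ Subgroup.centralizer (K : Set T) := by
    intro h3
    apply hcon
    rw [← h3]
    exact inf_le_left
  obtain ⟨x, hxH, hxN, hx2, hxy⟩ := exists_between_normal h2 hNn hHn hNH hne
  -- the new subgroup
  let U : Subgroup T := upperOmega (zc K) hNn
  have hUc : U.Characteristic := upperOmega_char (zc K)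
  let X : Subgroup T := U ⊓ Subgroup.centralizer (K : Set T)
  have hXc : X.Characteristic := inferInstance
  have hK₁c : (K ⊔ X).Characteristic := inferInstance
  have hKU : K ≤ U := fun w hw => hKp w hw
  have hXU : X ≤ U := inf_le_left
  have hK₁U : K ⊔ X ≤ U := sup_le hKU hXU
  -- the centre of `K` stays central
  have hNZ : zc K ≤ zc (K ⊔ X) := by
    intro c hc
    obtain ⟨hcK, hcC⟩ := mem_zc.mp hc
    refine mem_zc.mpr ⟨Subgroup.mem_sup_left hcK, ?_⟩
    have hle : K ⊔ X ≤ Subgroup.centralizer ({c} : Set T) := by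
      apply sup_le
      · intro y hy
        exact Subgroup.mem_centralizer_singleton_iff.mpr (hcC y hy)
      · rintro y ⟨-, hy⟩
        refine Subgroup.mem_centralizer_singleton_iff.mpr ?_
        exact (Subgroup.mem_centralizer_iff.mp hy c hcK).symm
    intro y hy
    exact Subgroup.mem_centralizer_singleton_iff.mp (hle hy)
  have hK₁F : (K ⊔ X) ∈ F := by
    refine ⟨hK₁c, ?_⟩
    intro w hw
    obtain ⟨h3, h4⟩ := mem_upperOmega.mp (hK₁U hw)
    exact ⟨hNZ h3, fun y => hNZ (h4 y)⟩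
  have hle : K ≤ K ⊔ X := le_sup_left
  have heq : K ⊔ X ≤ K := hK.le_of_ge hK₁F hle
  have hxX : x ∈ X := ⟨mem_upperOmega.mpr ⟨hx2, hxy⟩, hxH⟩
  have hxK : x ∈ K := heq (Subgroup.mem_sup_right hxX)
  exact hxN ⟨hxK, hxH⟩

section exp4

variable {z : T}

/-- Commutators `{1, z}`. -/
def D (z a b : T) : Prop := a * b * a⁻¹ * b⁻¹ = 1 ∨ a * b * a⁻¹ * b⁻¹ = z

theorem D_symm (hzz : z * z = 1) {a b : T} (h : D z a b) : D z b a := by
  have e : b * a * b⁻¹ * a⁻¹ = (a * b * a⁻¹ * b⁻¹)⁻¹ := by group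
  have hzi : z⁻¹ = z := inv_eq_of_mul_eq_one_left hzz
  unfold D
  rw [e]
  rcases h with h | h
  · left; rw [h]; simp
  · right; rw [h, hzi]

theorem D_mul_left (hzz : z * z = 1) (hc : ∀ x : T, x * z = z * x) {a b c : T} (h1 : D z a c)
    (h2 : D z b c) : D z (a * b) c := by
  have e : (a * b) * c * (a * b)⁻¹ * c⁻¹ = (a * (b * c * b⁻¹ * c⁻¹) * a⁻¹) * (a * c * a⁻¹ * c⁻¹) := by
    group
  have hazi : a * z * a⁻¹ = z := by rw [hc a]; simp
  unfold D
  rw [e]
  rcases h2 with h2 | h2 <;> rcases h1 with h1 | h1 <;> rw [h2, h1]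
  · left; simp
  · right; simp
  · right; rw [hazi]; simp
  · left; rw [hazi, hzz]

theorem D_mul_right (hzz : z * z = 1) (hc : ∀ x : T, x * z = z * x) {a b c : T} (h1 : D z c a)
    (h2 : D z c b) : D z c (a * b) :=
  D_symm hzz (D_mul_left hzz hc (D_symm hzz h1) (D_symm hzz h2))

/-- Central involutions are unique in a 2-group of symplectic type. -/
theorem central_inv [Finite T] (hT : IsOfSymplecticType T) (hz1 : z ≠ 1) (hzz : z * z = 1)
    (hc : ∀ x : T, x * z = z * x) {x : T} (hx : ∀ y : T, x * y = y * x) (hxx : x * x = 1) :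
    x = 1 ∨ x = z := by
  by_cases hx1 : x = 1
  · exact Or.inl hx1
  right
  have hcomm : IsMulCommutative ↥(Subgroup.center T) :=
    ⟨⟨fun a b => Subtype.ext (Subgroup.mem_center_iff.mp a.2 b).symm⟩⟩
  have hcyc : IsCyclic ↥(Subgroup.center T) := hT.2 _ inferInstance hcomm
  have hxc : x ∈ Subgroup.center T := Subgroup.mem_center_iff.mpr fun y => (hx y).symm
  have hzc : z ∈ Subgroup.center T := Subgroup.mem_center_iff.mpr fun y => hc y
  have h := Cfsg.Agent.Lib.GF2Setup.eq_of_sq_eq_one_of_isCyclic (a := ⟨x, hxc⟩) (b := ⟨z, hzc⟩)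
    (Subtype.ext (by simpa [pow_two] using hxx)) (Subtype.ext (by simpa [pow_two] using hzz))
    (fun h1 => hx1 (congrArg Subtype.val h1)) (fun h1 => hz1 (congrArg Subtype.val h1))
  exact congrArg Subtype.val h

/-- Mini P. Hall: in a 2-group of symplectic type with `x ^ 4 = 1`, all commutators lie in `{1, z}`. -/
theorem comm_of_symp [Finite T] (hT : IsOfSymplecticType T) (h4 : ∀ x : T, x ^ 4 = 1) (hz1 : z ≠ 1)
    (hzz : z * z = 1) (hc : ∀ x : T, x * z = z * x) (u v : T) : D z u v := by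
  obtain ⟨K, hKc, hKp, hCK⟩ := exists_critical hT.1
  have hzKc : z ∈ Subgroup.centralizer (K : Set T) :=
    Subgroup.mem_centralizer_iff.mpr fun y _ => hc y
  have hzK : z ∈ K := hCK hzKc
  have hzZ : z ∈ zc K := ⟨hzK, hzKc⟩
  have hZc : (zc K).Characteristic := zc_char K
  have hZn : (zc K).Normal := Subgroup.normal_of_characteristic _
  have hZab : ∀ a ∈ zc K, ∀ b ∈ zc K, a * b = b * a := fun a ha b hb =>
    (mem_zc.mp hb).2 a (mem_zc.mp ha).1
  have hcomm : IsMulCommutative ↥(zc K) :=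
    ⟨⟨fun a b => Subtype.ext (hZab a a.2 b b.2)⟩⟩
  have hcyc : IsCyclic ↥(zc K) := hT.2 _ hZc hcomm
  -- involutions of the centre of `K`
  have hZinv : ∀ c ∈ zc K, c * c = 1 → c = 1 ∨ c = z := by
    intro c hcZ hcc
    by_cases hc1 : c = 1
    · exact Or.inl hc1
    right
    have h := Cfsg.Agent.Lib.GF2Setup.eq_of_sq_eq_one_of_isCyclic (a := ⟨c, hcZ⟩) (b := ⟨z, hzZ⟩)
      (Subtype.ext (by simpa [pow_two] using hcc)) (Subtype.ext (by simpa [pow_two] using hzz))
      (fun h1 => hc1 (congrArg Subtype.val h1)) (fun h1 => hz1 (congrArg Subtype.val h1))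
    exact congrArg Subtype.val h
  -- dichotomy on the action on the centre of `K`
  have hdich : ∀ y : T, (∀ c ∈ zc K, y * c * y⁻¹ = c) ∨ (∀ c ∈ zc K, y * c * y⁻¹ = c⁻¹) := by
    intro y
    obtain ⟨⟨w, hwZ⟩, hw⟩ := hcyc.exists_generator
    have hgen : ∀ c ∈ zc K, ∃ n : ℤ, c = w ^ n := by
      intro c hcZ
      obtain ⟨n, hn⟩ := Subgroup.mem_zpowers_iff.mp (hw ⟨c, hcZ⟩)
      exact ⟨n, (congrArg Subtype.val hn).symm.trans (by simp)⟩
    have hy : y * w * y⁻¹ ∈ zc K := hZn.conj_mem _ hwZ y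
    obtain ⟨n, hn⟩ := hgen _ hy
    have hw4 : w ^ (4 : ℤ) = 1 := by exact_mod_cast h4 w
    -- reduce `n` modulo four
    have hmod : (y * w * y⁻¹ = 1) ∨ (y * w * y⁻¹ = w) ∨ (y * w * y⁻¹ = w ^ 2) ∨ (y * w * y⁻¹ = w⁻¹) := by
      have hn4 : n % 4 = 0 ∨ n % 4 = 1 ∨ n % 4 = 2 ∨ n % 4 = 3 := by omega
      have hsplit : w ^ n = w ^ (n % 4) := by
        conv_lhs => rw [← Int.mul_ediv_add_emod n 4, zpow_add, zpow_mul, hw4, one_zpow, one_mul]
      rw [hn, hsplit]
      rcases hn4 with h | h | h | h <;> rw [h]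
      · left; simp
      · right; left; simp
      · right; right; left; exact_mod_cast rfl
      · right; right; right
        have : w ^ (3 : ℤ) = w⁻¹ := by
          have h5 : w ^ (3 : ℤ) * w = 1 := by
            rw [← zpow_add_one]; exact_mod_cast h4 w
          exact eq_inv_of_mul_eq_one_left h5
        exact this
    have hpow : ∀ (m : ℤ), y * w ^ m * y⁻¹ = (y * w * y⁻¹) ^ m := fun m => by
      simpa using (conj_zpow (a := y) (b := w) (i := m)).symm
    have h1case : (y * w * y⁻¹ = 1) → w = 1 := by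
      intro h1
      have : w = y⁻¹ * (y * w * y⁻¹) * y := by group
      rw [this, h1]; simp
    have hw1all : w = 1 → ∀ c ∈ zc K, c = 1 := by
      intro h1 c hc'
      obtain ⟨m, rfl⟩ := hgen c hc'
      rw [h1]; simp
    rcases hmod with h | h | h | h
    · left
      intro c hc'
      rw [hw1all (h1case h) c hc']; simp
    · left
      intro c hc'
      obtain ⟨m, rfl⟩ := hgen c hc'
      rw [hpow, h]
    · -- `y w y⁻¹ = w²` forces `w = 1`
      have h2 : y * w ^ (2 : ℤ) * y⁻¹ = 1 := by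
        rw [hpow, h]
        have : (w ^ 2) ^ (2 : ℤ) = w ^ (4 : ℤ) := by
          rw [← zpow_natCast, ← zpow_mul]; rfl
        rw [this, hw4]
      have h3 : w ^ (2 : ℤ) = 1 := by
        have : w ^ (2 : ℤ) = y⁻¹ * (y * w ^ (2 : ℤ) * y⁻¹) * y := by group
        rw [this, h2]; simp
      have h4' : y * w * y⁻¹ = 1 := by
        rw [h]; exact_mod_cast h3
      left
      intro c hc'
      rw [hw1all (h1case h4') c hc']; simp
    · right
      intro c hc'
      obtain ⟨m, rfl⟩ := hgen c hc'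
      rw [hpow, h]
      simp
  -- all commutators with `K` are in `{1, z}`
  have hDK : ∀ y : T, ∀ x ∈ K, D z y x := by
    intro y x hx
    obtain ⟨hx2, hxy⟩ := hKp x hx
    have hcZ := hxy y
    obtain ⟨c, hcdef⟩ : ∃ c, c = y * x * y⁻¹ * x⁻¹ := ⟨_, rfl⟩
    rw [← hcdef] at hcZ
    have hyx : y * x * y⁻¹ = c * x := by rw [hcdef]; group
    have hcx : x * c = c * x := (mem_zc.mp hcZ).2 x hx
    -- `y x² y⁻¹ = c² x²`
    have hsq : y * x ^ 2 * y⁻¹ = c * c * x ^ 2 := by
      have h3 : y * x ^ 2 * y⁻¹ = (y * x * y⁻¹) * (y * x * y⁻¹) := by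
        rw [pow_two]; group
      rw [h3, hyx]
      calc c * x * (c * x) = c * (x * c) * x := by group
        _ = c * (c * x) * x := by rw [hcx]
        _ = c * c * x ^ 2 := by rw [pow_two]; group
    have hcc : c * c = 1 := by
      rcases hdich y with h3 | h3
      · rw [h3 _ hx2] at hsq
        have : c * c * x ^ 2 = 1 * x ^ 2 := by rw [← hsq, one_mul]
        exact mul_right_cancel this
      · rw [h3 _ hx2] at hsq
        have h5 : x ^ 2 * x ^ 2 = 1 := by
          rw [← pow_add]; exact h4 x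
        have h6 : (x ^ 2)⁻¹ = x ^ 2 := inv_eq_of_mul_eq_one_left h5
        rw [h6] at hsq
        have : c * c * x ^ 2 = 1 * x ^ 2 := by rw [← hsq, one_mul]
        exact mul_right_cancel this
    unfold D
    rw [← hcdef]
    exact hZinv c hcZ hcc
  -- `C_T(Z(K)) = K`
  have hQ₁ : Subgroup.centralizer (zc K : Set T) ≤ K := by
    have hcard := card_pair_gen (G := T) (A := Subgroup.centralizer (zc K : Set T)) (B := K) hz1 hzz hc
      (fun a _ b hb => hDK a b hb)
    have e1 : Subgroup.centralizer (zc K : Set T) ⊓ Subgroup.centralizer (K : Set T) = zc K := by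
      apply le_antisymm
      · rintro x ⟨-, hx⟩
        exact ⟨hCK hx, hx⟩
      · intro c hcZ
        refine ⟨Subgroup.mem_centralizer_iff.mpr fun y hy => hZab y hy c hcZ,
          (mem_zc.mp hcZ).2 |> fun h => Subgroup.mem_centralizer_iff.mpr h⟩
    have hKQ : K ≤ Subgroup.centralizer (zc K : Set T) := by
      intro x hx
      refine Subgroup.mem_centralizer_iff.mpr ?_
      intro y hy
      exact ((mem_zc.mp hy).2 x hx).symm
    have e2 : K ⊓ Subgroup.centralizer ((Subgroup.centralizer (zc K : Set T) : Subgroup T) : Set T) = zc K := by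
      apply le_antisymm
      · rintro x ⟨hxK, hx⟩
        refine ⟨hxK, Subgroup.mem_centralizer_iff.mpr fun y hy => ?_⟩
        exact Subgroup.mem_centralizer_iff.mp hx y (hKQ hy)
      · intro c hcZ
        refine ⟨(mem_zc.mp hcZ).1, Subgroup.mem_centralizer_iff.mpr fun y hy => ?_⟩
        exact (Subgroup.mem_centralizer_iff.mp hy c hcZ).symm
    rw [e1, e2] at hcard
    have hpos : 0 < Nat.card ↥(zc K) := Nat.card_pos
    have hcard2 := Nat.eq_of_mul_eq_mul_left hpos hcard
    exact (Subgroup.eq_of_le_of_card_ge hKQ hcard2.ge).ge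
  have hK_of : ∀ y : T, (∀ c ∈ zc K, y * c * y⁻¹ = c) → y ∈ K := by
    intro y hy
    apply hQ₁
    refine Subgroup.mem_centralizer_iff.mpr ?_
    intro c hc'
    have := hy c hc'
    exact (Cfsg.Agent.Lib.LargeExtra.comm_of_conj_eq this).symm
  -- the final case distinction
  by_cases hall : ∀ y : T, ∀ c ∈ zc K, y * c * y⁻¹ = c
  · exact hDK u v (hK_of v (hall v))
  · push Not at hall
    obtain ⟨y₀, c₀, hc₀, hne₀⟩ := hall
    have hy₀ : ∀ c ∈ zc K, y₀ * c * y₀⁻¹ = c⁻¹ := by
      rcases hdich y₀ with h | h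
      · exact absurd (h c₀ hc₀) hne₀
      · exact h
    have hsplit : ∀ v : T, v ∈ K ∨ y₀⁻¹ * v ∈ K := by
      intro v
      rcases hdich v with h | h
      · exact Or.inl (hK_of v h)
      · right
        apply hK_of
        intro c hc'
        have e : y₀⁻¹ * v * c * (y₀⁻¹ * v)⁻¹ = y₀⁻¹ * (v * c * v⁻¹) * y₀ := by group
        rw [e, h c hc']
        have h5 : y₀ * c * y₀⁻¹ = c⁻¹ := hy₀ c hc'
        calc y₀⁻¹ * c⁻¹ * y₀ = y₀⁻¹ * (y₀ * c * y₀⁻¹) * y₀ := by rw [h5]
          _ = c := by group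
    have hDy : ∀ x : T, D z y₀ x := by
      intro x
      rcases hsplit x with h | h
      · exact hDK y₀ x h
      · have e : x = y₀ * (y₀⁻¹ * x) := by group
        rw [e]
        refine D_mul_right hzz hc ?_ (hDK y₀ _ h)
        left; group
    rcases hsplit v with h | h
    · exact hDK u v h
    · have e : v = y₀ * (y₀⁻¹ * v) := by group
      rw [e]
      refine D_mul_right hzz hc ?_ (hDK u _ h)
      exact D_symm hzz (hDy u)

/-- Squares lie in `{1, z}`. -/
theorem sq_of_symp [Finite T] (hT : IsOfSymplecticType T) (h4 : ∀ x : T, x ^ 4 = 1) (hz1 : z ≠ 1)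
    (hzz : z * z = 1) (hc : ∀ x : T, x * z = z * x) (x : T) : x ^ 2 = 1 ∨ x ^ 2 = z := by
  apply central_inv hT hz1 hzz hc
  · intro y
    have h1 : D z (x * x) y := D_mul_left hzz hc (comm_of_symp hT h4 hz1 hzz hc x y)
      (comm_of_symp hT h4 hz1 hzz hc x y)
    have h2 : (x * x) * y * (x * x)⁻¹ * y⁻¹ =
        (x * (x * y * x⁻¹ * y⁻¹) * x⁻¹) * (x * y * x⁻¹ * y⁻¹) := by group
    have h3 : (x * x) * y * (x * x)⁻¹ * y⁻¹ = 1 := by
      rw [h2]
      rcases comm_of_symp hT h4 hz1 hzz hc x y with h5 | h5 <;> rw [h5]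
      · simp
      · rw [hc x]; simp [hzz]
    rw [pow_two]
    exact Cfsg.Agent.Lib.LargeExtra.comm_of_conj_eq (mul_inv_eq_one.mp h3)
  · rw [← pow_add]; exact h4 x

end exp4

end Cfsg.Agent.Lib.SympExp4
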