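import Mathlib
import Cfsg.Agent.Lib.SympExp4
import Cfsg.Agent.Lib.Order8
import Cfsg.Agent.Lib.NormalKlein
import Cfsg.Agent.Lib.RegLin3

/-!
# 2-groups without non-cyclic abelian subgroups of order eight

A 2-group with no non-cyclic abelian subgroup of order eight and with a non-trivial automorphism of
odd order is a four-group or a quaternion group of order eight.
-/

set_option autoImplicit false
set_option linter.unusedSectionVars false
set_option linter.style.haveILetI false

namespace Cfsg.Agent.Lib.SmallA879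

open scoped Pointwise

/-- `T` has a non-cyclic abelian subgroup of order eight. -/
def HasA8 (T : Type*) [Group T] : Prop :=
  ∃ A : Subgroup T, IsMulCommutative A ∧ ¬ IsCyclic A ∧ Nat.card A = 8

section comm

variable {W : Type*} [CommGroup W] [Finite W]

/-- A non-cyclic abelian 2-group has two different involutions. -/
theorem two_involutions (h2 : IsPGroup 2 W) (hnc : ¬ IsCyclic W) :
    ∃ u v : W, u ≠ 1 ∧ v ≠ 1 ∧ u ≠ v ∧ u ^ 2 = 1 ∧ v ^ 2 = 1 := by
  classical
  haveI : Fintype W := Fintype.ofFinite W
  by_contra hno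
  push Not at hno
  apply hnc
  have huniq : ∀ u v : W, u ^ 2 = 1 → v ^ 2 = 1 → u ≠ 1 → v ≠ 1 → u = v := by
    intro u v hu hv hu1 hv1
    by_contra hne
    exact hno u v hu1 hv1 hne hu hv
  have key : ∀ a : ℕ, (Finset.univ.filter (fun x : W => x ^ (2 ^ a) = 1)).card ≤ 2 ^ a := by
    intro a
    induction a with
    | zero =>
      have : Finset.univ.filter (fun x : W => x ^ (2 ^ 0) = 1) ⊆ {1} := by
        intro x hx
        simpa using hx
      simpa using Finset.card_le_card this
    | succ a ih =>
      set s := Finset.univ.filter (fun x : W => x ^ (2 ^ (a + 1)) = 1) with hs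
      set t := Finset.univ.filter (fun x : W => x ^ (2 ^ a) = 1) with ht
      have himg : s.image (fun x => x ^ 2) ⊆ t := by
        intro y hy
        obtain ⟨x, hx, rfl⟩ := Finset.mem_image.mp hy
        simp only [hs, Finset.mem_filter, Finset.mem_univ, true_and] at hx
        simp only [ht, Finset.mem_filter, Finset.mem_univ, true_and]
        rw [← pow_mul, ← pow_succ']
        exact hx
      have hfib : ∀ y ∈ s.image (fun x : W => x ^ 2), (s.filter (fun x : W => x ^ 2 = y)).card ≤ 2 := by
        intro y hy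
        obtain ⟨x, hx, rfl⟩ := Finset.mem_image.mp hy
        by_cases hinv : ∃ u : W, u ≠ 1 ∧ u ^ 2 = 1
        · obtain ⟨u, hu1, hu2⟩ := hinv
          have hsub : s.filter (fun z => z ^ 2 = x ^ 2) ⊆ {x, x * u} := by
            intro z hz
            simp only [Finset.mem_filter] at hz
            have h3 : (z * x⁻¹) ^ 2 = 1 := by
              rw [mul_pow, inv_pow, hz.2, mul_inv_cancel]
            by_cases h4 : z * x⁻¹ = 1
            · simp [mul_inv_eq_one.mp h4]
            · have h5 := huniq _ _ h3 hu2 h4 hu1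
              have : z = x * u := by
                rw [← h5, mul_comm z, mul_inv_cancel_left]
              simp [this]
          calc _ ≤ ({x, x * u} : Finset W).card := Finset.card_le_card hsub
            _ ≤ 2 := Finset.card_le_two
        · push Not at hinv
          have hsub : s.filter (fun z => z ^ 2 = x ^ 2) ⊆ {x} := by
            intro z hz
            simp only [Finset.mem_filter] at hz
            have h3 : (z * x⁻¹) ^ 2 = 1 := by
              rw [mul_pow, inv_pow, hz.2, mul_inv_cancel]
            by_cases h4 : z * x⁻¹ = 1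
            · simp [mul_inv_eq_one.mp h4]
            · exact absurd h3 (hinv _ h4)
          calc _ ≤ ({x} : Finset W).card := Finset.card_le_card hsub
            _ ≤ 2 := by simp
      have h6 := Finset.card_le_mul_card_image (s := s) (f := fun x => x ^ 2) 2 hfib
      calc s.card ≤ 2 * (s.image (fun x => x ^ 2)).card := h6
        _ ≤ 2 * t.card := Nat.mul_le_mul_left _ (Finset.card_le_card himg)
        _ ≤ 2 * 2 ^ a := Nat.mul_le_mul_left _ ih
        _ = 2 ^ (a + 1) := by ring
  apply isCyclic_of_card_pow_eq_one_le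
  intro n hn
  obtain ⟨a, m, hm, rfl⟩ : ∃ a m : ℕ, ¬ 2 ∣ m ∧ n = 2 ^ a * m := by
    obtain ⟨a, m, hm, h⟩ := Nat.exists_eq_two_pow_mul_odd (Nat.pos_iff_ne_zero.mp hn)
    exact ⟨a, m, hm.not_two_dvd_nat, h⟩
  have hsub : Finset.univ.filter (fun x : W => x ^ (2 ^ a * m) = 1) ⊆
      Finset.univ.filter (fun x : W => x ^ (2 ^ a) = 1) := by
    intro x hx
    simp only [Finset.mem_filter, Finset.mem_univ, true_and] at hx ⊢
    obtain ⟨k, hk⟩ := (IsPGroup.iff_orderOf.mp h2) x
    have h7 : orderOf x ∣ 2 ^ a * m := orderOf_dvd_of_pow_eq_one hx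
    have h8 : orderOf x ∣ 2 ^ a := by
      rw [hk] at h7 ⊢
      exact (Nat.Coprime.pow_left k ((Nat.Prime.coprime_iff_not_dvd Nat.prime_two).mpr hm)).dvd_of_dvd_mul_right h7
    exact orderOf_dvd_iff_pow_eq_one.mp h8
  have hle1 : 0 < m := by
    rcases Nat.eq_zero_or_pos m with h | h
    · subst h
      simp at hm
    · exact h
  calc _ ≤ _ := Finset.card_le_card hsub
    _ ≤ 2 ^ a := key a
    _ ≤ 2 ^ a * m := Nat.le_mul_of_pos_right _ hle1

end comm

section ambient

variable {T : Type*} [Group T] [Finite T]

/-- A subgroup containing a subgroup of exponent two and order at least three is not cyclic. -/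
theorem not_cyclic_of_exp2 {K V : Subgroup T} (hVK : V ≤ K) (hV : ∀ x ∈ V, x ^ 2 = 1)
    (h3 : 2 < Nat.card V) : ¬ IsCyclic K := by
  intro hc
  haveI : IsCyclic (V.subgroupOf K) := inferInstance
  haveI : IsCyclic V :=
    isCyclic_of_surjective (Subgroup.subgroupOfEquivOfLe hVK) (MulEquiv.surjective _)
  obtain ⟨g, hg⟩ := IsCyclic.exists_ofOrder_eq_natCard (α := V)
  have h1 : g ^ 2 = 1 := Subtype.ext (hV _ g.2)
  have h2 : orderOf g ∣ 2 := orderOf_dvd_of_pow_eq_one h1
  have h4 := Nat.le_of_dvd (by norm_num) h2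
  omega

/-- An abelian non-cyclic subgroup of order at least eight of a 2-group contains a non-cyclic
abelian subgroup of order eight. -/
theorem exists_A8_of_abelian (h2 : IsPGroup 2 T) (W : Subgroup T)
    (hab : ∀ a ∈ W, ∀ b ∈ W, a * b = b * a) (hnc : ¬ IsCyclic W) (h8 : 8 ≤ Nat.card W) :
    ∃ A : Subgroup T, A ≤ W ∧ IsMulCommutative A ∧ ¬ IsCyclic A ∧ Nat.card A = 8 := by
  classical
  haveI : Fact (Nat.Prime 2) := ⟨Nat.prime_two⟩
  letI : CommGroup W :=
    { (inferInstance : Group W) with
      mul_comm := fun a b => Subtype.ext (hab _ a.2 _ b.2) }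
  have hW2 : IsPGroup 2 W := h2.to_subgroup W
  obtain ⟨u, v, hu1, hv1, huv, hu2, hv2⟩ := two_involutions hW2 hnc
  let Om : Subgroup W := (powMonoidHom 2 : W →* W).ker
  have hmem : ∀ x : W, x ∈ Om ↔ x ^ 2 = 1 := fun x => MonoidHom.mem_ker
  have hOm2 : IsPGroup 2 Om := hW2.to_subgroup Om
  have hOmc : 4 ∣ Nat.card Om := by
    obtain ⟨k, hk⟩ := IsPGroup.iff_card.mp hOm2
    have h3 : 2 < Nat.card Om := by
      let a : Om := 1
      let b : Om := ⟨u, (hmem u).2 hu2⟩
      let c : Om := ⟨v, (hmem v).2 hv2⟩
      have hab' : a ≠ b := fun h => hu1 (congrArg Subtype.val h).symm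
      have hac : a ≠ c := fun h => hv1 (congrArg Subtype.val h).symm
      have hbc : b ≠ c := fun h => huv (congrArg Subtype.val h)
      haveI : Fintype Om := Fintype.ofFinite Om
      have h5 : ({a, b, c} : Finset Om).card = 3 := Finset.card_eq_three.mpr ⟨a, b, c, hab', hac, hbc, rfl⟩
      have h6 := Finset.card_le_univ ({a, b, c} : Finset Om)
      rw [h5] at h6
      rw [Nat.card_eq_fintype_card]
      omega
    rw [hk] at h3 ⊢
    have hk2 : 2 ≤ k := by
      by_contra hlt
      have : k ≤ 1 := by omega
      have h7 : 2 ^ k ≤ 2 ^ 1 := Nat.pow_le_pow_right (by norm_num) this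
      omega
    exact pow_dvd_pow 2 hk2
  obtain ⟨V0, hV0⟩ := Sylow.exists_subgroup_card_pow_prime (G := Om) 2 (n := 2) (by simpa using hOmc)
  let V1 : Subgroup W := V0.map Om.subtype
  have hV1c : Nat.card V1 = 2 ^ 2 := by
    rw [Subgroup.card_map_of_injective Om.subtype_injective, hV0]
  have h8W : 2 ^ 3 ∣ Nat.card W := by
    obtain ⟨k, hk⟩ := IsPGroup.iff_card.mp hW2
    rw [hk] at h8 ⊢
    have hk2 : 3 ≤ k := by
      by_contra hlt
      have : k ≤ 2 := by omega
      have h7 : 2 ^ k ≤ 2 ^ 2 := Nat.pow_le_pow_right (by norm_num) this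
      omega
    exact pow_dvd_pow 2 hk2
  obtain ⟨K1, hK1c, hK1⟩ := Sylow.exists_subgroup_card_pow_prime_le (G := W) 2 h8W V1 hV1c (by norm_num)
  let A : Subgroup T := K1.map W.subtype
  have hAc : Nat.card A = 8 := by
    rw [Subgroup.card_map_of_injective W.subtype_injective, hK1c]
    norm_num
  refine ⟨A, ?_, ?_, ?_, hAc⟩
  · rintro _ ⟨x, _, rfl⟩
    exact x.2
  · constructor
    constructor
    rintro ⟨_, x, hx, rfl⟩ ⟨_, y, hy, rfl⟩
    apply Subtype.ext
    exact hab _ x.2 _ y.2
  · let V2 : Subgroup T := V1.map W.subtype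
    have hV2c : Nat.card V2 = 4 := by
      rw [Subgroup.card_map_of_injective W.subtype_injective, hV1c]
      norm_num
    apply not_cyclic_of_exp2 (V := V2)
    · exact Subgroup.map_mono hK1
    · rintro _ ⟨_, ⟨x, _, rfl⟩, rfl⟩
      have := (hmem x.1).1 x.2
      exact congrArg Subtype.val this
    · omega

/-- A small abelian 2-group is cyclic or of order four. -/
theorem cyclic_or_four_of_abelian (h2 : IsPGroup 2 T) (hs : ¬ HasA8 T) (hab : ∀ a b : T, a * b = b * a) :
    IsCyclic T ∨ (Nat.card T = 4 ∧ ¬ IsCyclic T) := by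
  by_cases hc : IsCyclic T
  · exact Or.inl hc
  · right
    refine ⟨?_, hc⟩
    letI : CommGroup T := { (inferInstance : Group T) with mul_comm := hab }
    obtain ⟨u, v, hu1, hv1, huv, hu2, hv2⟩ := two_involutions h2 hc
    have h8 : Nat.card T < 8 := by
      by_contra hge
      push Not at hge
      have hc' : ¬ IsCyclic (⊤ : Subgroup T) := by
        intro h
        exact hc (isCyclic_of_surjective (Subgroup.topEquiv (G := T)) (MulEquiv.surjective _))
      have hge' : 8 ≤ Nat.card (⊤ : Subgroup T) := by
        rw [Subgroup.card_top]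
        exact hge
      obtain ⟨A, -, h1, h3, h4⟩ := exists_A8_of_abelian h2 ⊤ (fun a _ b _ => hab a b) hc' hge'
      exact hs ⟨A, h1, h3, h4⟩
    obtain ⟨k, hk⟩ := IsPGroup.iff_card.mp h2
    classical
    haveI : Fintype T := Fintype.ofFinite T
    have h3 : 2 < Nat.card T := by
      have h5 : ({1, u, v} : Finset T).card = 3 :=
        Finset.card_eq_three.mpr ⟨1, u, v, hu1.symm, hv1.symm, huv, rfl⟩
      have h6 := Finset.card_le_univ ({1, u, v} : Finset T)
      rw [h5] at h6
      rw [Nat.card_eq_fintype_card]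
      omega
    rw [hk] at h8 h3 ⊢
    have hk2 : k = 2 := by
      have h7 : k < 3 := by
        by_contra hlt
        have h10 : 2 ^ 3 ≤ 2 ^ k := Nat.pow_le_pow_right (by norm_num) (by omega)
        omega
      have h9 : 1 < k := by
        by_contra hlt
        have h10 : 2 ^ k ≤ 2 ^ 1 := Nat.pow_le_pow_right (by norm_num) (by omega)
        omega
      omega
    rw [hk2]
    norm_num

end ambient

section oddaut

variable {T : Type*} [Group T] [Finite T]

lemma pow_apply_of (α : MulAut T) {x u : T} (hu : α u = u) (hx : α x = x * u) (k : ℕ) :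
    (α ^ k) x = x * u ^ k := by
  induction k with
  | zero => simp
  | succ k ih =>
    rw [pow_succ', MulAut.mul_apply, ih, map_mul, hx, map_pow, hu, pow_succ', mul_assoc]

lemma odd_trivial (h2 : IsPGroup 2 T) (α : MulAut T) (hodd : Odd (orderOf α)) {x u : T}
    (hu : α u = u) (hx : α x = x * u) : u = 1 := by
  have h1 := pow_apply_of α hu hx (orderOf α)
  rw [pow_orderOf_eq_one, MulAut.one_apply] at h1
  have h3 : u ^ orderOf α = 1 := by
    have h4 : x * u ^ orderOf α = x * 1 := by rw [mul_one]; exact h1.symm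
    exact mul_left_cancel h4
  obtain ⟨k, hk⟩ := (IsPGroup.iff_orderOf.mp h2) u
  have h5 : orderOf u ∣ orderOf α := orderOf_dvd_of_pow_eq_one h3
  rw [hk] at h5
  have h6 : Nat.Coprime (2 ^ k) (orderOf α) := Nat.Coprime.pow_left k (Nat.coprime_two_left.mpr hodd)
  have h7 : 2 ^ k = 1 := Nat.Coprime.eq_one_of_dvd h6 h5
  rw [h7] at hk
  exact orderOf_eq_one_iff.mp hk

/-- Odd automorphisms of cyclic 2-groups are trivial. -/
lemma cyclic_odd_trivial (h2 : IsPGroup 2 T) (hc : IsCyclic T) (α : MulAut T)
    (hodd : Odd (orderOf α)) : α = 1 := by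
  obtain ⟨k, hk⟩ := IsPGroup.iff_card.mp h2
  have h1 : orderOf α ∣ Nat.card (MulAut T) := orderOf_dvd_natCard α
  rw [IsCyclic.card_mulAut, hk] at h1
  have h3 : Nat.totient (2 ^ k) ∣ 2 ^ k := by
    rcases k with _ | k
    · simp
    · rw [Nat.totient_prime_pow Nat.prime_two (Nat.succ_pos k)]
      refine ⟨2, ?_⟩
      simp [pow_succ]
  have h4 : orderOf α ∣ 2 ^ k := h1.trans h3
  have h6 : Nat.Coprime (orderOf α) (2 ^ k) :=
    Nat.Coprime.pow_right k (Nat.coprime_two_right.mpr hodd)
  have h7 := Nat.Coprime.eq_one_of_dvd h6 h4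
  exact orderOf_eq_one_iff.mp h7

/-- Odd automorphisms of the dihedral group of order 8 are trivial. -/
lemma dih4_odd (β : MulAut (DihedralGroup 4)) (hodd : Odd (orderOf β)) : β = 1 := by
  have h2 : IsPGroup 2 (DihedralGroup 4) := by
    apply IsPGroup.of_card (n := 3)
    rw [DihedralGroup.nat_card]
    norm_num
  have hsq : ∀ x : DihedralGroup 4, x ^ 2 ≠ 1 → x = DihedralGroup.r 1 ∨ x = DihedralGroup.r 3 := by
    decide
  have h11 : (DihedralGroup.r 1 : DihedralGroup 4) ^ 2 ≠ 1 := by decide
  have h12 : (β (DihedralGroup.r 1)) ^ 2 ≠ 1 := by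
    intro h
    apply h11
    apply β.injective
    rw [map_pow, h, map_one]
  have hr2 : β (DihedralGroup.r 2) = DihedralGroup.r 2 := by
    have h3 : (DihedralGroup.r 2 : DihedralGroup 4) = DihedralGroup.r 1 ^ 2 := by decide
    have h4 : (DihedralGroup.r 3 : DihedralGroup 4) ^ 2 = DihedralGroup.r 2 := by decide
    rw [h3, map_pow]
    rcases hsq _ h12 with h | h
    · rw [h]
    · rw [h, h4]
      decide
  have hr1 : β (DihedralGroup.r 1) = DihedralGroup.r 1 := by
    rcases hsq _ h12 with h | h
    · exact h
    · exfalso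
      have h5 : (DihedralGroup.r 3 : DihedralGroup 4) = DihedralGroup.r 1 * DihedralGroup.r 2 := by
        decide
      rw [h5] at h
      have h6 := odd_trivial h2 β hodd hr2 h
      revert h6
      decide
  have hrk : ∀ k : ℕ, β (DihedralGroup.r 1 ^ k) = DihedralGroup.r 1 ^ k := by
    intro k
    rw [map_pow, hr1]
  have hrall : ∀ i : ZMod 4, β (DihedralGroup.r i) = DihedralGroup.r i := by
    have : ∀ i : ZMod 4, ∃ k : ℕ, (DihedralGroup.r i : DihedralGroup 4) = DihedralGroup.r 1 ^ k := by
      intro i
      refine ⟨i.val, ?_⟩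
      revert i
      decide
    intro i
    obtain ⟨k, hk⟩ := this i
    rw [hk, hrk]
  have hs : β (DihedralGroup.sr 0) = DihedralGroup.sr 0 := by
    have hdec : ∀ y : DihedralGroup 4, (∃ i, y = DihedralGroup.r i) ∨
        (∃ i, y = DihedralGroup.sr 0 * DihedralGroup.r i) := by decide
    rcases hdec (β (DihedralGroup.sr 0)) with ⟨i, hi⟩ | ⟨i, hi⟩
    · exfalso
      have h7 : β (DihedralGroup.sr 0) = β (DihedralGroup.r i) := by rw [hi, hrall]
      have h8 := β.injective h7
      cases h8
    · have h9 := odd_trivial h2 β hodd (hrall i) hi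
      rw [hi, h9, mul_one]
  ext x
  rw [MulAut.one_apply]
  have hdec : ∀ y : DihedralGroup 4, (∃ i, y = DihedralGroup.r i) ∨
      (∃ i, y = DihedralGroup.sr 0 * DihedralGroup.r i) := by decide
  rcases hdec x with ⟨i, rfl⟩ | ⟨i, rfl⟩
  · exact hrall i
  · rw [map_mul, hs, hrall]

/-- Odd automorphisms of any group isomorphic to the dihedral group of order 8 are trivial. -/
lemma dih4_odd' {C : Type*} [Group C] (e : C ≃* DihedralGroup 4) (α : MulAut C)
    (hodd : Odd (orderOf α)) : α = 1 := by
  have h1 : orderOf (MulAut.congr e α) = orderOf α := MulEquiv.orderOf_eq _ _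
  have h3 := dih4_odd (MulAut.congr e α) (by rw [h1]; exact hodd)
  have h4 : MulAut.congr e α = MulAut.congr e 1 := by rw [h3, map_one]
  exact (MulAut.congr e).injective h4

end oddaut

section key

variable {T : Type*} [Group T] [Finite T]

lemma abelian_sup_zpowers {W : Subgroup T} {x : T} (hW : ∀ a ∈ W, ∀ b ∈ W, a * b = b * a)
    (hx : ∀ a ∈ W, a * x = x * a) :
    ∀ a ∈ W ⊔ Subgroup.zpowers x, ∀ b ∈ W ⊔ Subgroup.zpowers x, a * b = b * a := by
  have hxpow : Subgroup.zpowers x ≤ Subgroup.centralizer (W : Set T) := by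
    rw [Subgroup.zpowers_le, Subgroup.mem_centralizer_iff]
    intro a ha
    exact hx a ha
  have h1 : W ⊔ Subgroup.zpowers x ≤ Subgroup.centralizer (W : Set T) := by
    apply sup_le
    · intro w hw
      rw [Subgroup.mem_centralizer_iff]
      intro a ha
      exact hW a ha w hw
    · exact hxpow
  have h2 : W ⊔ Subgroup.zpowers x ≤ Subgroup.centralizer (Subgroup.zpowers x : Set T) := by
    apply sup_le
    · intro w hw
      rw [Subgroup.mem_centralizer_iff]
      intro a ha
      have := Subgroup.mem_centralizer_iff.mp (hxpow ha) w hw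
      exact this.symm
    · intro u hu
      rw [Subgroup.mem_centralizer_iff]
      intro v hv
      obtain ⟨m, rfl⟩ := Subgroup.mem_zpowers_iff.mp hu
      obtain ⟨n, rfl⟩ := Subgroup.mem_zpowers_iff.mp hv
      exact (Commute.refl x).zpow_zpow n m
  intro a ha b hb
  have h3 : W ⊔ Subgroup.zpowers x ≤ Subgroup.centralizer ({a} : Set T) := by
    apply sup_le
    · intro w hw
      rw [Subgroup.mem_centralizer_singleton_iff]
      exact (Subgroup.mem_centralizer_iff.mp (h1 ha) w hw)
    · intro w hw
      rw [Subgroup.mem_centralizer_singleton_iff]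
      exact (Subgroup.mem_centralizer_iff.mp (h2 ha) w hw)
  have := Subgroup.mem_centralizer_singleton_iff.mp (h3 hb)
  exact this.symm

lemma card_le_of_fibers {G β : Type*} [Group G] [Finite G] (C : Subgroup G) (φ : G → β) (S : Finset β)
    (hS : ∀ g, φ g ∈ S) (hfib : ∀ g g', φ g = φ g' → g⁻¹ * g' ∈ C) :
    Nat.card G ≤ Nat.card C * S.card := by
  classical
  let f : G ⧸ C → S := fun q => ⟨φ q.out, hS _⟩
  have hf : Function.Injective f := by
    intro p q h
    have h1 : φ p.out = φ q.out := congrArg Subtype.val h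
    have h2 := hfib _ _ h1
    have h3 : (QuotientGroup.mk p.out : G ⧸ C) = QuotientGroup.mk q.out := QuotientGroup.eq.mpr h2
    simpa using h3
  have h1 : Nat.card (G ⧸ C) ≤ Nat.card S := Nat.card_le_card_of_injective f hf
  have h2 : Nat.card S = S.card := by simp
  rw [Subgroup.card_eq_card_quotient_mul_card_subgroup C, mul_comm]
  rw [h2] at h1
  exact Nat.mul_le_mul_left _ h1

/-- Two different involutions forbid cyclicity. -/
lemma not_cyclic_of_two {K : Subgroup T} {u v : T} (hu : u ∈ K) (hv : v ∈ K) (hu1 : u ≠ 1)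
    (hv1 : v ≠ 1) (huv : u ≠ v) (hu2 : u ^ 2 = 1) (hv2 : v ^ 2 = 1) : ¬ IsCyclic K := by
  intro hc
  classical
  haveI : Fintype K := Fintype.ofFinite K
  have h1 := IsCyclic.card_pow_eq_one_le (α := K) (n := 2) (by norm_num)
  have hsub : ({1, ⟨u, hu⟩, ⟨v, hv⟩} : Finset K) ⊆ Finset.univ.filter (fun x : K => x ^ 2 = 1) := by
    intro x hx
    simp only [Finset.mem_insert, Finset.mem_singleton] at hx
    simp only [Finset.mem_filter, Finset.mem_univ, true_and]
    rcases hx with rfl | rfl | rfl
    · simp
    · exact Subtype.ext hu2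
    · exact Subtype.ext hv2
  have h2 : ({1, ⟨u, hu⟩, ⟨v, hv⟩} : Finset K).card = 3 := by
    apply Finset.card_eq_three.mpr
    refine ⟨1, ⟨u, hu⟩, ⟨v, hv⟩, ?_, ?_, ?_, rfl⟩
    · intro h
      exact hu1 (congrArg Subtype.val h).symm
    · intro h
      exact hv1 (congrArg Subtype.val h).symm
    · intro h
      exact huv (congrArg Subtype.val h)
  have h3 := Finset.card_le_card hsub
  rw [h2] at h3
  omega

/-- In a cyclic group of order divisible by four, the product of two non-squares and an element
of order at most two is a square. -/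
lemma cyc_sq {Z : Subgroup T} (hc : IsCyclic Z) (h4 : 4 ∣ Nat.card Z) {a b c : T} (ha : a ∈ Z)
    (hb : b ∈ Z) (hcz : c ∈ Z) (hna : ¬ ∃ t ∈ Z, t ^ 2 = a) (hnb : ¬ ∃ t ∈ Z, t ^ 2 = b)
    (hcc : c ^ 2 = 1) : ∃ t ∈ Z, t ^ 2 = a * b * c := by
  obtain ⟨g, hg⟩ := hc.exists_generator
  have hex : ∀ x ∈ Z, ∃ k : ℕ, x = ((g : T)) ^ k := by
    intro x hx
    obtain ⟨k, hk⟩ := (mem_powers_iff_mem_zpowers.mpr (hg ⟨x, hx⟩))
    refine ⟨k, ?_⟩
    have := congrArg Subtype.val hk
    simpa using this.symm
  have hsq : ∀ k : ℕ, Even k → ∃ t ∈ Z, t ^ 2 = (g : T) ^ k := by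
    rintro k ⟨m, rfl⟩
    refine ⟨(g : T) ^ m, Z.pow_mem g.2 m, ?_⟩
    rw [← pow_mul]
    congr 1
    omega
  obtain ⟨k1, rfl⟩ := hex a ha
  obtain ⟨k2, rfl⟩ := hex b hb
  obtain ⟨k3, rfl⟩ := hex c hcz
  have hk1 : ¬ Even k1 := fun h => hna (hsq k1 h)
  have hk2 : ¬ Even k2 := fun h => hnb (hsq k2 h)
  have hk3 : Even k3 := by
    have h5 : orderOf g = Nat.card Z := orderOf_eq_card_of_forall_mem_zpowers hg
    have h6 : orderOf g ∣ k3 * 2 := by
      apply orderOf_dvd_of_pow_eq_one
      apply Subtype.ext
      simpa [pow_mul] using hcc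
    rw [h5] at h6
    have h7 : 4 ∣ k3 * 2 := h4.trans h6
    obtain ⟨m, hm⟩ := h7
    exact ⟨m, by omega⟩
  rw [← pow_add, ← pow_add]
  apply hsq
  rw [Nat.not_even_iff_odd] at hk1 hk2
  exact (hk1.add_odd hk2).add hk3

end key

section main

variable {T : Type*} [Group T] [Finite T]

/-- Restriction of an automorphism to an invariant subgroup. -/
noncomputable def resAut (α : MulAut T) (K : Subgroup T) (h : ∀ x, α x ∈ K ↔ x ∈ K) : MulAut K :=
  MulEquiv.ofBijective
    (MonoidHom.mk' (fun k : K => (⟨α k, (h k).2 k.2⟩ : K)) (fun a b => Subtype.ext (map_mul α _ _)))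
    (Finite.injective_iff_bijective.mp (by
      intro a b hab
      apply Subtype.ext
      apply α.injective
      exact congrArg Subtype.val hab))

lemma resAut_apply (α : MulAut T) (K : Subgroup T) (h : ∀ x, α x ∈ K ↔ x ∈ K) (k : K) :
    ((resAut α K h k : K) : T) = α k := rfl

lemma resAut_pow (α : MulAut T) (K : Subgroup T) (h : ∀ x, α x ∈ K ↔ x ∈ K) (n : ℕ) (k : K) :
    (((resAut α K h) ^ n) k : T) = (α ^ n) k := by
  induction n generalizing k with
  | zero => simp
  | succ n ih =>
    rw [pow_succ, pow_succ, MulAut.mul_apply, MulAut.mul_apply, ih, resAut_apply]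

lemma resAut_odd (α : MulAut T) (K : Subgroup T) (h : ∀ x, α x ∈ K ↔ x ∈ K)
    (hodd : Odd (orderOf α)) : Odd (orderOf (resAut α K h)) := by
  have h1 : orderOf (resAut α K h) ∣ orderOf α := by
    apply orderOf_dvd_of_pow_eq_one
    ext k
    rw [resAut_pow, pow_orderOf_eq_one]
    rfl
  exact hodd.of_dvd_nat h1

/-- Two non-identity elements of a subgroup of order two agree. -/
lemma eq_of_card_two {D : Subgroup T} (hD : Nat.card D = 2) {a b : T} (ha : a ∈ D) (hb : b ∈ D)
    (ha1 : a ≠ 1) (hb1 : b ≠ 1) : a = b := by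
  obtain ⟨y, -, hy⟩ := (Nat.card_eq_two_iff' (1 : D)).mp hD
  have h1 := hy ⟨a, ha⟩ (fun h => ha1 (congrArg Subtype.val h))
  have h2 := hy ⟨b, hb⟩ (fun h => hb1 (congrArg Subtype.val h))
  exact congrArg Subtype.val (h1.trans h2.symm)

lemma card_sup_zpowers_ge {W : Subgroup T} {w : T} (hw : w ∉ W) :
    2 * Nat.card W ≤ Nat.card (W ⊔ Subgroup.zpowers w : Subgroup T) := by
  have hle : W ≤ W ⊔ Subgroup.zpowers w := le_sup_left
  obtain ⟨c, hc⟩ := Subgroup.card_dvd_of_le hle
  have hpos : 0 < Nat.card (W ⊔ Subgroup.zpowers w : Subgroup T) := Nat.card_pos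
  have hW : 0 < Nat.card W := Nat.card_pos
  have hc1 : c ≠ 1 := by
    rintro rfl
    rw [mul_one] at hc
    have h3 : W = W ⊔ Subgroup.zpowers w := Subgroup.eq_of_le_of_card_ge hle (by rw [hc])
    apply hw
    rw [h3]
    exact Subgroup.mem_sup_right (Subgroup.mem_zpowers w)
  have hc0 : c ≠ 0 := by
    rintro rfl
    rw [mul_zero] at hc
    omega
  rw [hc, mul_comm]
  exact Nat.mul_le_mul_left _ (by omega)

lemma cyclic_of_le {V K : Subgroup T} (hVK : V ≤ K) (hc : IsCyclic K) : IsCyclic V := by
  haveI : IsCyclic (V.subgroupOf K) := inferInstance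
  exact isCyclic_of_surjective (Subgroup.subgroupOfEquivOfLe hVK) (MulEquiv.surjective _)

lemma card_le_of_subset_finset (W : Subgroup T) (S : Finset T) (h : ∀ x ∈ W, x ∈ S) :
    Nat.card W ≤ S.card := by
  classical
  let f : W → S := fun x => ⟨x, h x x.2⟩
  have hf : Function.Injective f := fun x y hxy => Subtype.ext (by simpa [f] using congrArg Subtype.val hxy)
  have := Nat.card_le_card_of_injective f hf
  simpa using this

/-- **The small case**: a 2-group with no non-cyclic abelian subgroup of order 8 and with a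
non-trivial automorphism of odd order is a four-group or a quaternion group. -/
theorem small_odd_aut (h2 : IsPGroup 2 T) (hs : ¬ HasA8 T) (α : MulAut T) (hodd : Odd (orderOf α))
    (hα : α ≠ 1) : (Nat.card T = 4 ∧ ¬ IsCyclic T) ∨ Nonempty (T ≃* QuaternionGroup 2) := by
  classical
  haveI : Fact (Nat.Prime 2) := ⟨Nat.prime_two⟩
  obtain ⟨K, hKc, hKp, hCK⟩ := Cfsg.Agent.Lib.SympExp4.exists_critical h2
  haveI hKn : K.Normal := Subgroup.normal_of_characteristic K
  have hαmem : ∀ (L : Subgroup T) [L.Characteristic], ∀ x, α x ∈ L ↔ x ∈ L := by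
    intro L hL x
    have h1 := Subgroup.characteristic_iff_comap_eq.mp hL α
    have h3 : x ∈ L.comap α.toMonoidHom ↔ x ∈ L := by rw [h1]
    exact h3
  have hsmall : ∀ W : Subgroup T, (∀ a ∈ W, ∀ b ∈ W, a * b = b * a) → IsCyclic W ∨ Nat.card W < 8 := by
    intro W hW
    by_contra hcon
    push Not at hcon
    obtain ⟨A, -, h3, h4, h5⟩ := exists_A8_of_abelian h2 W hW hcon.1 hcon.2
    exact hs ⟨A, h3, h4, h5⟩
  have hcardpow : ∀ W : Subgroup T, ¬ IsCyclic W → 4 ∣ Nat.card W := by
    intro W hW
    obtain ⟨k, hk⟩ := IsPGroup.iff_card.mp (h2.to_subgroup W)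
    rcases k with _ | _ | k
    · exfalso
      apply hW
      have : Nat.card W = 1 := by simpa using hk
      haveI : Subsingleton W := (Nat.card_eq_one_iff_unique.mp this).1
      infer_instance
    · exfalso
      apply hW
      have : Nat.card W = 2 := by simpa using hk
      haveI : Fact (Nat.card W).Prime := ⟨by rw [this]; exact Nat.prime_two⟩
      exact isCyclic_of_prime_card rfl
    · rw [hk, pow_succ, pow_succ, mul_assoc]
      exact Dvd.intro_left _ rfl
  -- the automorphism is non-trivial on the critical subgroup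
  have hαK : ∃ k ∈ K, α k ≠ k := by
    by_contra hno
    push Not at hno
    apply hα
    ext x
    rw [MulAut.one_apply]
    have hu : x⁻¹ * α x ∈ K := by
      apply hCK
      rw [Subgroup.mem_centralizer_iff]
      intro k hk
      have h3 : α (x * k * x⁻¹) = x * k * x⁻¹ := hno _ (hKn.conj_mem k hk x)
      rw [map_mul, map_mul, map_inv, hno k hk] at h3
      have h4 : α x * k = x * k * x⁻¹ * α x := by
        rw [← h3]
        group
      calc k * (x⁻¹ * α x) = x⁻¹ * (x * k * x⁻¹ * α x) := by group
        _ = x⁻¹ * (α x * k) := by rw [h4]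
        _ = x⁻¹ * α x * k := by group
    have h5 := odd_trivial h2 α hodd (hno _ hu) (x := x) (by group)
    have h6 : α x = x := by
      have : x * (x⁻¹ * α x) = x * 1 := by rw [h5]
      simpa using this
    exact h6
  by_cases hab : ∀ a ∈ K, ∀ b ∈ K, a * b = b * a
  · -- the critical subgroup is abelian
    have hKnc : ¬ IsCyclic K := by
      intro hc
      have h3 := cyclic_odd_trivial (h2.to_subgroup K) hc _ (resAut_odd α K (hαmem K) hodd)
      obtain ⟨k, hk, hk1⟩ := hαK
      apply hk1
      have h4 := congrArg (fun β : MulAut K => ((β ⟨k, hk⟩ : K) : T)) h3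
      simpa [resAut_apply] using h4
    have hK4 : Nat.card K = 4 := by
      have h3 := (hsmall K hab).resolve_left hKnc
      obtain ⟨m, hm⟩ := hcardpow K hKnc
      have h6 : 0 < Nat.card K := Nat.card_pos
      rw [hm] at h3 h6 ⊢
      have h7 : m = 1 := by omega
      rw [h7]
    have hKtop : K = ⊤ := by
      by_contra htop
      obtain ⟨t, htK⟩ : ∃ t, t ∉ K := by
        by_contra hcon
        push Not at hcon
        exact htop (eq_top_iff.mpr fun x _ => hcon x)
      -- elements of `K` central in `T`
      let D : Subgroup T := K ⊓ Subgroup.center T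
      haveI hDc : D.Characteristic := inferInstance
      have hKbot : K ≠ ⊥ := by
        rintro rfl
        simp at hK4
      have hD1 : D ≠ ⊥ := by
        obtain ⟨z, hzK, hz1, hzc⟩ := Cfsg.Agent.Lib.NormalKlein.exists_central_of_normal h2 K hKn hKbot
        intro hD
        have : z ∈ D := ⟨hzK, hzc⟩
        rw [hD] at this
        exact hz1 (Subgroup.mem_bot.mp this)
      have hDle : D ≤ K := inf_le_left
      have hDK : D ≠ K := by
        intro hD
        apply htK
        apply hCK
        rw [Subgroup.mem_centralizer_iff]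
        intro k hk
        have : k ∈ D := by rw [hD]; exact hk
        exact (Subgroup.mem_center_iff.mp this.2 t).symm
      have hD2 : Nat.card D = 2 := by
        have h3 : Nat.card D ∣ 4 := by
          rw [← hK4]
          exact Subgroup.card_dvd_of_le hDle
        have h4 : Nat.card D ≠ 1 := fun h => hD1 (Subgroup.card_eq_one.mp h)
        have h5 : Nat.card D ≠ 4 := by
          intro h
          exact hDK (Subgroup.eq_of_le_of_card_ge hDle (by rw [h, hK4]))
        have h6 : Nat.card D ≤ 4 := Nat.le_of_dvd (by norm_num) h3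
        interval_cases h7 : Nat.card D <;> first | rfl | omega | (exfalso; revert h3; decide)
      have hDfix : ∀ u ∈ D, α u = u := by
        intro u hu
        by_cases hu1 : u = 1
        · rw [hu1, map_one]
        · apply eq_of_card_two hD2 ((hαmem D u).2 hu) hu
          · intro h
            apply hu1
            apply α.injective
            rw [h, map_one]
          · exact hu1
      have hidx : (D.subgroupOf K).index = 2 := by
        have h3 := Subgroup.card_mul_index (D.subgroupOf K)
        have h4 : Nat.card (D.subgroupOf K) = Nat.card D :=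
          Nat.card_congr (Subgroup.subgroupOfEquivOfLe hDle).toEquiv
        rw [h4, hD2, hK4] at h3
        omega
      obtain ⟨k, hk, hk1⟩ := hαK
      have hαk : α k ∈ K := (hαmem K k).2 hk
      have h3 : k⁻¹ * α k ∈ D := by
        have h4 := Subgroup.mul_mem_iff_of_index_two hidx (a := (⟨k, hk⟩ : K)⁻¹) (b := ⟨α k, hαk⟩)
        have h5 : ((⟨k, hk⟩ : K)⁻¹ * ⟨α k, hαk⟩ : K) ∈ D.subgroupOf K := by
          rw [h4]
          rw [inv_mem_iff, Subgroup.mem_subgroupOf, Subgroup.mem_subgroupOf]
          exact ((hαmem D k).symm)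
        exact h5
      have h5 := odd_trivial h2 α hodd (hDfix _ h3) (x := k) (by group)
      apply hk1
      have : k * (k⁻¹ * α k) = k * 1 := by rw [h5]
      simpa using this
    left
    rw [hKtop] at hK4 hKnc
    refine ⟨by simpa using hK4, ?_⟩
    intro hc
    exact hKnc (isCyclic_of_surjective (Subgroup.topEquiv (G := T)).symm (MulEquiv.surjective _))
  · -- the critical subgroup is not abelian
    push Not at hab
    obtain ⟨a, ha, b, hb, hab'⟩ := hab
    set Z := Cfsg.Agent.Lib.SympExp4.zc K with hZdef
    haveI hZc : Z.Characteristic := Cfsg.Agent.Lib.SympExp4.zc_char K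
    haveI hZn : Z.Normal := Subgroup.normal_of_characteristic Z
    have hZK : Z ≤ K := inf_le_left
    have hZcomm : ∀ x ∈ Z, ∀ y ∈ K, y * x = x * y := fun x hx =>
      (Cfsg.Agent.Lib.SympExp4.mem_zc.mp hx).2
    have hZab : ∀ x ∈ Z, ∀ y ∈ Z, x * y = y * x := fun x hx y hy => (hZcomm x hx y (hZK hy)).symm
    have hsqZ : ∀ w ∈ K, w ^ 2 ∈ Z := fun w hw => (hKp w hw).1
    have hcmZ : ∀ w ∈ K, ∀ y, y * w * y⁻¹ * w⁻¹ ∈ Z := fun w hw y => (hKp w hw).2 y
    have haZ : a ∉ Z := fun h => hab' (hZcomm a h b hb).symm
    have hbZ : b ∉ Z := fun h => hab' (hZcomm b h a ha)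
    -- the commutator
    obtain ⟨d, hd⟩ : ∃ d, d = b * a * b⁻¹ * a⁻¹ := ⟨_, rfl⟩
    have hdZ : d ∈ Z := by rw [hd]; exact hcmZ a ha b
    have hd1 : d ≠ 1 := by
      intro h
      apply hab'
      have h3 : b * a * b⁻¹ = a := by
        rw [hd] at h
        have := mul_eq_one_iff_eq_inv.mp h
        simpa using this
      calc a * b = b * a * b⁻¹ * b := by rw [h3]
        _ = b * a := by group
    have hdsq : d ^ 2 = 1 := by
      have h3 : b * a ^ 2 * b⁻¹ = a ^ 2 := by
        rw [hZcomm _ (hsqZ a ha) b hb]
        group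
      have h4 : b * a * b⁻¹ = d * a := by rw [hd]; group
      have h5 : b * a ^ 2 * b⁻¹ = (d * a) * (d * a) := by
        rw [← h4, pow_two]
        group
      have h6 : (d * a) * (d * a) = d ^ 2 * a ^ 2 := by
        have h7 : a * d = d * a := hZcomm d hdZ a ha
        calc (d * a) * (d * a) = d * (a * d) * a := by group
          _ = d * (d * a) * a := by rw [h7]
          _ = d ^ 2 * a ^ 2 := by simp only [pow_two]; group
      rw [h3, h6] at h5
      have h8 : 1 * a ^ 2 = d ^ 2 * a ^ 2 := by rw [one_mul]; exact h5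
      exact (mul_right_cancel h8).symm
    have habsq : (a * b) ^ 2 = a ^ 2 * b ^ 2 * d := by
      have h4 : b * a = d * (a * b) := by rw [hd]; group
      have h7 : a * d = d * a := hZcomm d hdZ a ha
      have h9 : b ^ 2 * d = d * b ^ 2 := (hZab _ (hsqZ b hb) d hdZ)
      have h10 : a ^ 2 * d = d * a ^ 2 := (hZab _ (hsqZ a ha) d hdZ)
      calc (a * b) ^ 2 = a * (b * a) * b := by simp only [pow_two]; group
        _ = a * (d * (a * b)) * b := by rw [h4]
        _ = (a * d) * a * b * b := by group
        _ = (d * a) * a * b * b := by rw [h7]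
        _ = d * a ^ 2 * b ^ 2 := by simp only [pow_two]; group
        _ = a ^ 2 * d * b ^ 2 := by rw [h10]
        _ = a ^ 2 * (d * b ^ 2) := by group
        _ = a ^ 2 * (b ^ 2 * d) := by rw [h9]
        _ = a ^ 2 * b ^ 2 * d := by group
    have habK : a * b ∈ K := K.mul_mem ha hb
    have habZ : a * b ∉ Z := by
      intro h
      apply hab'
      have h3 := hZcomm _ h a ha
      have h4 : a * (a * b) = a * (b * a) := by rw [h3]; group
      exact mul_left_cancel h4
    -- `Z` is cyclic
    have hZcyc : IsCyclic Z := by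
      by_contra hnc
      have h4 := hcardpow Z hnc
      have hE := abelian_sup_zpowers hZab (x := a) (fun u hu => (hZcomm u hu a ha).symm)
      have hc : ¬ IsCyclic (Z ⊔ Subgroup.zpowers a : Subgroup T) :=
        fun h => hnc (cyclic_of_le le_sup_left h)
      have h5 := (hsmall _ hE).resolve_left hc
      have h6 := card_sup_zpowers_ge haZ
      have h7 : 4 ≤ Nat.card Z := Nat.le_of_dvd Nat.card_pos h4
      omega
    -- `Z` has order two
    have hZ4 : ¬ 4 ∣ Nat.card Z := by
      intro h4
      have hA : ∀ w ∈ K, w ∉ Z → ¬ ∃ t ∈ Z, t ^ 2 = w ^ 2 := by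
        rintro w hw hwZ ⟨t, ht, hte⟩
        have htw : w * t = t * w := hZcomm t ht w hw
        have hu2 : (w * t⁻¹) ^ 2 = 1 := by
          have h5 : w * t⁻¹ = t⁻¹ * w := by
            have := (Commute.inv_left (a := t) (b := w) htw.symm)
            exact this.symm.eq
          calc (w * t⁻¹) ^ 2 = w * (t⁻¹ * w) * t⁻¹ := by simp only [pow_two]; group
            _ = w * (w * t⁻¹) * t⁻¹ := by rw [h5]
            _ = w ^ 2 * (t ^ 2)⁻¹ := by simp only [pow_two]; group
            _ = 1 := by rw [hte]; group
        have huZ : w * t⁻¹ ∉ Z := by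
          intro h
          apply hwZ
          have := Z.mul_mem h ht
          simpa using this
        have hu1 : w * t⁻¹ ≠ 1 := by
          intro h
          apply huZ
          rw [h]
          exact Z.one_mem
        have huK : w * t⁻¹ ∈ K := K.mul_mem hw (K.inv_mem (hZK ht))
        obtain ⟨z0, hz0⟩ := exists_prime_orderOf_dvd_card' (G := Z) 2 ((by norm_num : 2 ∣ 4).trans h4)
        have hz02 : (z0 : T) ^ 2 = 1 := by
          have h5 := pow_orderOf_eq_one z0
          rw [hz0] at h5
          exact congrArg Subtype.val h5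
        have hz01 : (z0 : T) ≠ 1 := by
          intro h
          have : z0 = 1 := Subtype.ext h
          rw [this, orderOf_one] at hz0
          omega
        have hE := abelian_sup_zpowers hZab (x := w * t⁻¹) (fun u hu => (hZcomm u hu _ huK).symm)
        have hc : ¬ IsCyclic (Z ⊔ Subgroup.zpowers (w * t⁻¹) : Subgroup T) := by
          apply not_cyclic_of_two (u := w * t⁻¹) (v := z0)
            (Subgroup.mem_sup_right (Subgroup.mem_zpowers _)) (Subgroup.mem_sup_left z0.2) hu1 hz01 _ hu2 hz02
          intro h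
          apply huZ
          rw [h]
          exact z0.2
        have h5 := (hsmall _ hE).resolve_left hc
        have h6 := card_sup_zpowers_ge huZ
        have h7 : 4 ≤ Nat.card Z := Nat.le_of_dvd Nat.card_pos h4
        omega
      obtain ⟨t, ht, hte⟩ := cyc_sq hZcyc h4 (hsqZ a ha) (hsqZ b hb) hdZ (hA a ha haZ) (hA b hb hbZ) hdsq
      apply hA _ habK habZ
      exact ⟨t, ht, by rw [hte, habsq]⟩
    have hZ2 : Nat.card Z = 2 := by
      obtain ⟨k, hk⟩ := IsPGroup.iff_card.mp (h2.to_subgroup Z)
      rcases k with _ | _ | k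
      · exfalso
        have h3 : Nat.card Z = 1 := by simpa using hk
        have h4 := Subgroup.card_eq_one.mp h3
        rw [h4] at hdZ
        exact hd1 (Subgroup.mem_bot.mp hdZ)
      · simpa using hk
      · exfalso
        apply hZ4
        rw [hk, pow_succ, pow_succ, mul_assoc]
        exact Dvd.intro_left _ rfl
    have hZd : ∀ x ∈ Z, x = 1 ∨ x = d := by
      intro x hx
      by_cases h1 : x = 1
      · exact Or.inl h1
      · exact Or.inr (eq_of_card_two hZ2 hx hdZ h1 hd1)
    have hfour : ∀ w ∈ K, w ^ 4 = 1 := by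
      intro w hw
      have h4 : w ^ 4 = (w ^ 2) ^ 2 := by rw [← pow_mul]
      rw [h4]
      rcases hZd _ (hsqZ w hw) with h | h
      · rw [h, one_pow]
      · rw [h, hdsq]
    -- the centraliser of `a` in `K`
    let E0 : Subgroup T := Z ⊔ Subgroup.zpowers a
    have hE0K : E0 ≤ K := sup_le hZK ((Subgroup.zpowers_le).mpr ha)
    have hE0card : Nat.card E0 = 4 := by
      apply le_antisymm
      · have h3 : ∀ x ∈ E0, x ∈ ({1, d, a, d * a} : Finset T) := by
          intro x hx
          have hx' : x ∈ ((Z : Set T) * (Subgroup.zpowers a : Set T)) := by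
            rw [← Subgroup.normal_mul]
            exact hx
          obtain ⟨u, hu, v, hv, rfl⟩ := Set.mem_mul.mp hx'
          obtain ⟨n, rfl⟩ := Subgroup.mem_zpowers_iff.mp hv
          have h5 : a ^ n ∈ Z ∨ ∃ u' ∈ Z, a ^ n = u' * a := by
            rcases Int.even_or_odd' n with ⟨m, rfl | rfl⟩
            · left
              rw [zpow_mul, zpow_ofNat]
              exact Z.zpow_mem (hsqZ a ha) m
            · right
              refine ⟨(a ^ 2) ^ m, Z.zpow_mem (hsqZ a ha) m, ?_⟩
              rw [zpow_add, zpow_mul, zpow_one, zpow_ofNat]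
          simp only [Finset.mem_insert, Finset.mem_singleton]
          rcases h5 with h5 | ⟨u', hu', h5⟩
          · rcases hZd _ (Z.mul_mem hu h5) with h6 | h6
            · left; exact h6
            · right; left; exact h6
          · rw [h5, ← mul_assoc]
            rcases hZd _ (Z.mul_mem hu hu') with h6 | h6
            · right; right; left; rw [h6, one_mul]
            · right; right; right; rw [h6]
        calc Nat.card E0 ≤ _ := card_le_of_subset_finset E0 _ h3
          _ ≤ 4 := Finset.card_le_four
      · have h6 := card_sup_zpowers_ge haZ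
        rw [hZ2] at h6
        exact h6
    have hE0ab : ∀ x ∈ E0, ∀ y ∈ E0, x * y = y * x :=
      abelian_sup_zpowers hZab (x := a) (fun u hu => (hZcomm u hu a ha).symm)
    let CK : Subgroup T := K ⊓ Subgroup.centralizer ({a} : Set T)
    have hE0CK : E0 ≤ CK := by
      apply le_inf hE0K
      apply sup_le
      · intro u hu
        rw [Subgroup.mem_centralizer_singleton_iff]
        exact (hZcomm u hu a ha).symm
      · rw [Subgroup.zpowers_le, Subgroup.mem_centralizer_singleton_iff]
    have hCK4 : Nat.card CK = 4 := by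
      apply le_antisymm
      · by_contra hgt
        push Not at hgt
        obtain ⟨w, hwC, hwE⟩ : ∃ w ∈ CK, w ∉ E0 := by
          by_contra hno
          push Not at hno
          have : CK ≤ E0 := hno
          have h3 := Subgroup.card_le_of_le this
          omega
        have hwcomm : ∀ x ∈ E0, x * w = w * x := by
          intro x hx
          have h3 : E0 ≤ Subgroup.centralizer ({w} : Set T) := by
            apply sup_le
            · intro u hu
              rw [Subgroup.mem_centralizer_singleton_iff]
              exact (hZcomm u hu w hwC.1).symm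
            · rw [Subgroup.zpowers_le, Subgroup.mem_centralizer_singleton_iff]
              exact (Subgroup.mem_centralizer_singleton_iff.mp hwC.2).symm
          exact Subgroup.mem_centralizer_singleton_iff.mp (h3 hx)
        have hE := abelian_sup_zpowers hE0ab hwcomm
        have hcard := card_sup_zpowers_ge hwE
        rw [hE0card] at hcard
        have hEK : E0 ⊔ Subgroup.zpowers w ≤ K := sup_le hE0K ((Subgroup.zpowers_le).mpr hwC.1)
        have hc : ¬ IsCyclic (E0 ⊔ Subgroup.zpowers w : Subgroup T) := by
          intro hcyc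
          obtain ⟨g, hg⟩ := IsCyclic.exists_ofOrder_eq_natCard (α := (E0 ⊔ Subgroup.zpowers w : Subgroup T))
          have h5 : g ^ 4 = 1 := Subtype.ext (hfour _ (hEK g.2))
          have h6 := Nat.le_of_dvd (by norm_num) (orderOf_dvd_of_pow_eq_one h5)
          omega
        have h5 := (hsmall _ hE).resolve_left hc
        omega
      · rw [← hE0card]
        exact Subgroup.card_le_of_le hE0CK
    have hK8 : Nat.card K = 8 := by
      apply le_antisymm
      · have h3 := card_le_of_fibers (G := K) (CK.subgroupOf K) (fun k : K => (k : T) * a * (k : T)⁻¹)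
          ({a, d * a} : Finset T) ?_ ?_
        · have h4 : Nat.card (CK.subgroupOf K) = Nat.card CK :=
            Nat.card_congr (Subgroup.subgroupOfEquivOfLe inf_le_left).toEquiv
          rw [h4, hCK4] at h3
          have h5 : ({a, d * a} : Finset T).card ≤ 2 := Finset.card_le_two
          calc Nat.card K ≤ 4 * _ := h3
            _ ≤ 4 * 2 := Nat.mul_le_mul_left _ h5
        · intro k
          simp only [Finset.mem_insert, Finset.mem_singleton]
          rcases hZd _ (hcmZ a ha k) with h | h
          · left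
            have := mul_inv_eq_one.mp h
            exact this
          · right
            have := mul_inv_eq_iff_eq_mul.mp h
            exact this
        · intro k k' h
          rw [Subgroup.mem_subgroupOf]
          refine ⟨K.mul_mem (K.inv_mem k.2) k'.2, ?_⟩
          refine Subgroup.mem_centralizer_singleton_iff.mpr ?_
          have h3 : (k : T)⁻¹ * k' * a = a * ((k : T)⁻¹ * k') := by
            have h4 : (k : T) * a = (k : T) * a * (k : T)⁻¹ * k := by group
            have h5 : (k' : T) * a = (k' : T) * a * (k' : T)⁻¹ * k' := by group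
            calc (k : T)⁻¹ * k' * a = (k : T)⁻¹ * ((k' : T) * a * (k' : T)⁻¹ * k') := by rw [← h5]; group
              _ = (k : T)⁻¹ * ((k : T) * a * (k : T)⁻¹ * k') := by rw [h]
              _ = a * ((k : T)⁻¹ * k') := by group
          simpa [mul_assoc] using h3
      · have hne : CK ≠ K := by
          intro h
          have : b ∈ CK := by rw [h]; exact hb
          have h3 := Subgroup.mem_centralizer_singleton_iff.mp this.2
          exact hab' h3.symm
        have hle : CK ≤ K := inf_le_left
        obtain ⟨c, hc⟩ := Subgroup.card_dvd_of_le hle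
        rw [hCK4] at hc
        have hc1 : c ≠ 1 := by
          rintro rfl
          exact hne (Subgroup.eq_of_le_of_card_ge hle (by rw [hc, hCK4]))
        have hc0 : c ≠ 0 := by
          rintro rfl
          have : 0 < Nat.card K := Nat.card_pos
          omega
        have : 2 ≤ c := by omega
        omega
    have hnaK : ¬ ∀ x y : K, x * y = y * x := by
      intro h
      have := h ⟨a, ha⟩ ⟨b, hb⟩
      exact hab' (congrArg Subtype.val this)
    rcases Cfsg.Agent.Lib.Order8.d8_or_q8 hK8 hnaK with ⟨⟨e⟩⟩ | ⟨⟨e⟩⟩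
    · exfalso
      have h3 := dih4_odd' e _ (resAut_odd α K (hαmem K) hodd)
      obtain ⟨k, hk, hk1⟩ := hαK
      apply hk1
      have h4 := congrArg (fun β : MulAut K => ((β ⟨k, hk⟩ : K) : T)) h3
      simpa [resAut_apply] using h4
    · right
      -- the whole group is `K`
      let i : K := e.symm (QuaternionGroup.a 1)
      let j : K := e.symm (QuaternionGroup.xa 0)
      have hCen : ∀ x : T, x * i = i * x → x * j = j * x → x ∈ Subgroup.centralizer (K : Set T) := by
        intro x hxi hxj
        rw [Subgroup.mem_centralizer_iff]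
        intro k hk
        have hk' : (⟨k, hk⟩ : K) = e.symm (e ⟨k, hk⟩) := by simp
        have hkval : k = ((e.symm (e ⟨k, hk⟩) : K) : T) := by rw [← hk']
        rw [hkval]
        have hpow : ∀ n : ℕ, x * ((i : T) ^ n) = ((i : T) ^ n) * x := fun n =>
          (Commute.pow_right (show Commute x (i : T) from hxi) n).eq
        rcases Cfsg.Agent.Lib.RegLin.q8_word (e ⟨k, hk⟩) with ⟨n, hn⟩ | ⟨n, hn⟩
        · rw [hn, map_pow]
          have h5 : (((e.symm (QuaternionGroup.a 1)) ^ n : K) : T) = (i : T) ^ n := by
            simp [i]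
          rw [h5]
          exact (hpow n).symm
        · rw [hn, map_mul, map_pow]
          have h5 : ((e.symm (QuaternionGroup.xa 0) * (e.symm (QuaternionGroup.a 1)) ^ n : K) : T) =
              (j : T) * (i : T) ^ n := by
            simp [i, j]
          rw [h5]
          calc (j : T) * (i : T) ^ n * x = (j : T) * ((i : T) ^ n * x) := by group
            _ = (j : T) * (x * (i : T) ^ n) := by rw [hpow n]
            _ = (j : T) * x * (i : T) ^ n := by group
            _ = x * (j : T) * (i : T) ^ n := by rw [hxj]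
            _ = x * ((j : T) * (i : T) ^ n) := by group
      have hCenZ : Subgroup.centralizer (K : Set T) ≤ Z := by
        intro x hx
        exact Cfsg.Agent.Lib.SympExp4.mem_zc.mpr ⟨hCK hx, fun y hy => Subgroup.mem_centralizer_iff.mp hx y hy⟩
      have hCenc : Nat.card (Subgroup.centralizer (K : Set T)) ≤ 2 := by
        rw [← hZ2]
        exact Subgroup.card_le_of_le hCenZ
      have hTcard : Nat.card T ≤ 8 := by
        have h3 := card_le_of_fibers (Subgroup.centralizer (K : Set T))
          (fun t : T => (t * i * t⁻¹, t * j * t⁻¹))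
          (({(i : T), d * i} : Finset T) ×ˢ ({(j : T), d * j} : Finset T)) ?_ ?_
        · have h5 : (({(i : T), d * i} : Finset T) ×ˢ ({(j : T), d * j} : Finset T)).card ≤ 4 := by
            rw [Finset.card_product]
            have h6 : ({(i : T), d * i} : Finset T).card ≤ 2 := Finset.card_le_two
            have h7 : ({(j : T), d * j} : Finset T).card ≤ 2 := Finset.card_le_two
            calc _ ≤ 2 * 2 := Nat.mul_le_mul h6 h7
              _ = 4 := rfl
          calc Nat.card T ≤ _ := h3
            _ ≤ 2 * 4 := Nat.mul_le_mul hCenc h5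
        · intro t
          have hgen : ∀ q : K, t * q * t⁻¹ ∈ ({(q : T), d * q} : Finset T) := by
            intro q
            simp only [Finset.mem_insert, Finset.mem_singleton]
            rcases hZd _ (hcmZ q q.2 t) with h | h
            · left
              exact mul_inv_eq_one.mp h
            · right
              exact mul_inv_eq_iff_eq_mul.mp h
          exact Finset.mem_product.mpr ⟨hgen i, hgen j⟩
        · intro t t' h
          have h1 := congrArg Prod.fst h
          have h3 := congrArg Prod.snd h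
          dsimp only at h1 h3
          apply hCen
          · calc t⁻¹ * t' * i = t⁻¹ * (t' * i * t'⁻¹) * t' := by group
              _ = t⁻¹ * (t * i * t⁻¹) * t' := by rw [h1]
              _ = i * (t⁻¹ * t') := by group
          · calc t⁻¹ * t' * j = t⁻¹ * (t' * j * t'⁻¹) * t' := by group
              _ = t⁻¹ * (t * j * t⁻¹) * t' := by rw [h3]
              _ = j * (t⁻¹ * t') := by group
      have hKtop : K = ⊤ := by
        apply Subgroup.eq_top_of_card_eq
        apply le_antisymm
        · exact Subgroup.card_le_card_group K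
        · rw [hK8]
          exact hTcard
      exact ⟨(Subgroup.topEquiv.symm.trans (MulEquiv.subgroupCongr hKtop.symm)).trans e⟩

end main

end Cfsg.Agent.Lib.SmallA879
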