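import Mathlib
import Cfsg.Agent.Lib.SolRoC
import Cfsg.Agent.Lib.FrobFix

/-!
# Real characters of odd degree: the main induction
-/

set_option autoImplicit false
set_option linter.unusedVariables false
set_option linter.unusedSectionVars false
set_option linter.style.haveILetI false

namespace Cfsg.Agent.Lib.SolRo

open Cfsg Cfsg.Agent.Lib.CharBasic Cfsg.Agent.Lib.CharInd Cfsg.Agent.Lib.CharInduction
open Cfsg.Agent.Lib.Clifford Cfsg.Agent.Lib.CharClifford Cfsg.Agent.Lib.IsaCliff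
open Cfsg.Agent.Lib.CharKernel Cfsg.Agent.Lib.RealChars Cfsg.Agent.Lib.GlaubCorr
open Cfsg.Agent.Lib.CharAut Cfsg.Agent.Lib.CoprimeInv
open scoped ComplexConjugate

universe u

variable {Γ : Type u} [Group Γ] [Finite Γ] [fX : ∀ X : Subgroup Γ, Fintype X]

/-- A minimal-style step of the induction: an abelian elementary section. -/
theorem find_A {G L Q : Subgroup Γ} (hLG : L ≤ G) (Ln : ∀ g ∈ G, ∀ l ∈ L, g * l * g⁻¹ ∈ L)
    (hQG : Q ≤ G) (hQ : IsPGroup 2 Q) (hodd : Odd (Q.relIndex G)) (hs : Group.IsSolvable G)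
    (hne : ¬ G ≤ L) :
    ∃ A : Subgroup Γ, L ≤ A ∧ A ≤ G ∧ (∀ g ∈ G, ∀ a ∈ A, g * a * g⁻¹ ∈ A) ∧ ¬ A ≤ L ∧
      (∀ a ∈ A, ∀ b ∈ A, a * b * a⁻¹ * b⁻¹ ∈ L) ∧
      (Odd (L.relIndex A) ∨ ((∃ k : ℕ, L.relIndex A = 2 ^ k) ∧ ∀ a ∈ A, ∃ l ∈ L, ∃ y ∈ Q, a = l * y)) := by
  classical
  let N₀ : Subgroup G := L.subgroupOf G
  haveI hN₀ : N₀.Normal := ⟨fun n hn g => Ln g g.2 n hn⟩
  let H := G ⧸ N₀
  let q : G →* H := QuotientGroup.mk' N₀
  have hq : Function.Surjective q := QuotientGroup.mk'_surjective N₀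
  have hqe : ∀ g : G, q g = 1 ↔ (g : Γ) ∈ L := fun g => by
    show ((g : G) : G ⧸ N₀) = 1 ↔ _
    rw [QuotientGroup.eq_one_iff]
    rfl
  haveI : Nontrivial H := by
    by_contra hc
    rw [not_nontrivial_iff_subsingleton] at hc
    apply hne
    intro g hg
    exact (hqe ⟨g, hg⟩).mp (Subsingleton.elim _ _)
  haveI : Group.IsSolvable H := inferInstance
  obtain ⟨p, hp, N, hN1, hNc, hNp, hNα⟩ := Cfsg.Agent.Lib.FrobFix.exists_char_elem (H := H)
  have hNn : ∀ x : H, ∀ a ∈ N, x * a * x⁻¹ ∈ N := fun x a ha => hNα (MulAut.conj x) a ha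
  let M : Subgroup G := N.comap q
  let A : Subgroup Γ := M.map G.subtype
  have hA : ∀ a, a ∈ A ↔ ∃ h : a ∈ G, q ⟨a, h⟩ ∈ N := by
    intro a
    constructor
    · rintro ⟨g, hg, rfl⟩
      exact ⟨g.2, hg⟩
    · rintro ⟨h, hh⟩
      exact ⟨⟨a, h⟩, hh, rfl⟩
  have hcard : L.relIndex A = Nat.card N := by
    have h1 : (L.comap G.subtype).relIndex M = L.relIndex (M.map G.subtype) :=
      Subgroup.relIndex_comap _ _ _
    have h2 : L.comap G.subtype = q.ker := by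
      ext g
      rw [MonoidHom.mem_ker, hqe]
      rfl
    rw [h2, Subgroup.relIndex_ker] at h1
    have h3 : M.map q = N := Subgroup.map_comap_eq_self_of_surjective hq N
    rw [h3] at h1
    exact h1.symm
  have hNpg : IsPGroup p N := by
    intro x
    refine ⟨1, ?_⟩
    apply Subtype.ext
    simpa using hNp x x.2
  obtain ⟨n, hn⟩ := IsPGroup.iff_card.mp hNpg
  refine ⟨A, ?_, fun a ha => ((hA a).mp ha).1, ?_, ?_, ?_, ?_⟩
  · intro l hl
    have h1 := hqe ⟨l, hLG hl⟩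
    refine (hA l).mpr ⟨hLG hl, ?_⟩
    rw [h1.mpr hl]
    exact N.one_mem
  · intro g hg a ha
    obtain ⟨h, hh⟩ := (hA a).mp ha
    refine (hA _).mpr ⟨G.mul_mem (G.mul_mem hg h) (G.inv_mem hg), ?_⟩
    have h1 : (⟨g * a * g⁻¹, G.mul_mem (G.mul_mem hg h) (G.inv_mem hg)⟩ : G) =
        ⟨g, hg⟩ * ⟨a, h⟩ * (⟨g, hg⟩ : G)⁻¹ := rfl
    rw [h1, map_mul, map_mul, map_inv]
    exact hNn _ _ hh
  · intro hle
    apply hN1
    rw [eq_bot_iff]
    intro x hx
    obtain ⟨g, rfl⟩ := hq x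
    have h1 : (g : Γ) ∈ A := (hA g).mpr ⟨g.2, hx⟩
    exact (hqe g).mpr (hle h1)
  · intro a ha b hb
    obtain ⟨h, hh⟩ := (hA a).mp ha
    obtain ⟨h', hh'⟩ := (hA b).mp hb
    have h1 : a * b * a⁻¹ * b⁻¹ ∈ G := G.mul_mem (G.mul_mem (G.mul_mem h h') (G.inv_mem h)) (G.inv_mem h')
    have h2 := (hqe ⟨_, h1⟩).mp (by
      have h3 : (⟨a * b * a⁻¹ * b⁻¹, h1⟩ : G) = ⟨a, h⟩ * ⟨b, h'⟩ * (⟨a, h⟩ : G)⁻¹ * (⟨b, h'⟩ : G)⁻¹ := rfl
      rw [h3, map_mul, map_mul, map_mul, map_inv, map_inv, hNc _ hh _ hh']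
      group)
    exact h2
  · rw [hcard, hn]
    by_cases hp2 : p = 2
    · right
      subst hp2
      refine ⟨⟨n, rfl⟩, ?_⟩
      -- the image of `Q`
      let Q₀ : Subgroup G := Q.subgroupOf G
      let Qt : Subgroup H := Q₀.map q
      have hQ₀ : IsPGroup 2 Q₀ := by
        intro x
        obtain ⟨k, hk⟩ := hQ ⟨x, x.2⟩
        refine ⟨k, ?_⟩
        apply Subtype.ext
        apply Subtype.ext
        have := congrArg (fun z : Q => (z : Γ)) hk
        simpa using this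
      have hQt : IsPGroup 2 Qt := hQ₀.map q
      have hIdx : Odd Qt.index := by
        have h1 : Qt.index ∣ Q₀.index := Subgroup.index_map_dvd Q₀ hq
        exact Odd.of_dvd_nat hodd h1
      haveI hNnorm : N.Normal := ⟨fun a ha x => hNn x a ha⟩
      have hsup : IsPGroup 2 ↥(N ⊔ Qt) := IsPGroup.to_sup_of_normal_left hNpg hQt
      have h1 : Qt ≤ N ⊔ Qt := le_sup_right
      have h2 := Subgroup.relIndex_mul_index h1
      have h3 : Odd (Qt.relIndex (N ⊔ Qt)) := by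
        rw [← h2] at hIdx
        exact (Nat.odd_mul.mp hIdx).1
      obtain ⟨j, hj⟩ := IsPGroup.iff_card.mp hsup
      have h4 : Qt.relIndex (N ⊔ Qt) ∣ 2 ^ j := by
        rw [← hj]
        have h7 : Nat.card ↥(N ⊔ Qt) = Qt.relIndex (N ⊔ Qt) * Nat.card (Qt.subgroupOf (N ⊔ Qt)) := by
          rw [mul_comm]
          exact (Subgroup.card_mul_index _).symm
        rw [h7]
        exact dvd_mul_right _ _
      obtain ⟨i, -, hi⟩ := (Nat.dvd_prime_pow Nat.prime_two).mp h4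
      have h5 : Qt.relIndex (N ⊔ Qt) = 1 := by
        rcases i with _ | i
        · simpa using hi
        · exfalso
          rw [hi] at h3
          exact h3.not_two_dvd_nat (Dvd.intro_left _ (pow_succ 2 i).symm)
      have h6 : N ≤ Qt := le_sup_left.trans (Subgroup.relIndex_eq_one.mp h5)
      intro a ha
      obtain ⟨h, hh⟩ := (hA a).mp ha
      obtain ⟨y, hy, hye⟩ := h6 hh
      have h7 : (y : Γ)⁻¹ * a ∈ L := by
        have h8 : q (y⁻¹ * ⟨a, h⟩) = 1 := by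
          rw [map_mul, map_inv, hye]
          group
        exact (hqe _).mp h8
      refine ⟨y * ((y : Γ)⁻¹ * a) * (y : Γ)⁻¹, Ln y y.2 _ h7, y, hy, ?_⟩
      group
    · left
      have hpodd : Odd p := hp.out.odd_of_ne_two hp2
      exact hpodd.pow

theorem idx_pos (A B : Subgroup Γ) : 0 < A.relIndex B := by
  rw [pos_iff_ne_zero]
  exact Subgroup.index_ne_zero_of_finite (H := A.subgroupOf B)

theorem idx_lt {L T G : Subgroup Γ} (hLT : L ≤ T) (hTG : T ≤ G) (hne : ¬ G ≤ T) :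
    L.relIndex T < L.relIndex G := by
  rw [← Subgroup.relIndex_mul_relIndex L T G hLT hTG]
  have h1 : T.relIndex G ≠ 1 := fun h => hne (Subgroup.relIndex_eq_one.mp h)
  have h2 := idx_pos T G
  have h3 := idx_pos L T
  have h4 : 2 ≤ T.relIndex G := by omega
  calc L.relIndex T = L.relIndex T * 1 := (mul_one _).symm
    _ < L.relIndex T * T.relIndex G := Nat.mul_lt_mul_of_pos_left (by omega) h3

theorem idx_lt' {L A G : Subgroup Γ} (hLA : L ≤ A) (hAG : A ≤ G) (hne : ¬ A ≤ L) :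
    A.relIndex G < L.relIndex G := by
  rw [← Subgroup.relIndex_mul_relIndex L A G hLA hAG]
  have h1 : L.relIndex A ≠ 1 := fun h => hne (Subgroup.relIndex_eq_one.mp h)
  have h2 := idx_pos L A
  have h3 := idx_pos A G
  have h4 : 2 ≤ L.relIndex A := by omega
  calc A.relIndex G = 1 * A.relIndex G := (one_mul _).symm
    _ < L.relIndex A * A.relIndex G := Nat.mul_lt_mul_of_pos_right (by omega) h3

theorem idx_le {A T G : Subgroup Γ} (hAT : A ≤ T) (hTG : T ≤ G) :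
    A.relIndex T ≤ A.relIndex G := by
  rw [← Subgroup.relIndex_mul_relIndex A T G hAT hTG]
  exact Nat.le_mul_of_pos_right _ (idx_pos T G)

theorem solv_le {X G : Subgroup Γ} (h : X ≤ G) (hs : Group.IsSolvable G) : Group.IsSolvable X :=
  Group.isSolvable_of_isSolvable_injective (Subgroup.inclusion_injective h)

/-- The constituent in the normal section above an invariant character. -/
theorem const_two {G L A Q : Subgroup Γ} {ν : L →* ℂˣ} (hLA : L ≤ A) (hAG : A ≤ G)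
    (An : ∀ g ∈ G, ∀ a ∈ A, g * a * g⁻¹ ∈ A) (Ln : ∀ g ∈ G, ∀ l ∈ L, g * l * g⁻¹ ∈ L)
    (hQG : Q ≤ G) (hQ : IsPGroup 2 Q) (hk : ∃ k : ℕ, L.relIndex A = 2 ^ k)
    (νinv : ∀ g ∈ G, ∀ l l' : L, (l' : Γ) = g * l * g⁻¹ → ν l' = ν l)
    (χ : IrrCharacter G) (hodd : Odd (charDegree (χ : G → ℂ)))
    (hov : Over (hLA.trans hAG) (χ : G → ℂ) ν) :
    ∃ ν₁ : A →* ℂˣ, rs hLA ν₁ = ν ∧
      (∀ y ∈ Q, ∀ l l' : A, (l' : Γ) = y * l * y⁻¹ → ν₁ l' = ν₁ l) ∧
      ((∀ g, conj ((χ : G → ℂ) g) = (χ : G → ℂ) g) → RealH ν₁) ∧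
      Over hAG (χ : G → ℂ) ν₁ := by
  obtain ⟨ω, h1, h2, h3, h4⟩ := fix_const hAG An hQG hQ χ hodd
  obtain ⟨i, hi⟩ := exists_irr_const hLA ω.2
  have h5 := trans_ne hLA hAG (IsIrrCharacter.isCharacter χ.2) ω.2 i.2 h1 hi
  have h6 : (i : L → ℂ) = lin ν := const_eq (hLA.trans hAG) Ln χ ν νinv hov i.2 h5
  rw [h6] at hi
  obtain ⟨ν₁, hν₁⟩ := lin_of_odd hLA (fun g hg a ha => Ln g (hAG hg) a ha) hk ν ω hi h2
  rw [hν₁] at hi h1 h3 h4
  refine ⟨ν₁, ?_, ?_, ?_, h1⟩
  · rw [res_lin] at hi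
    exact eq_of_inner hi
  · intro y hy l l' h
    apply Units.ext
    exact h3 y hy l l' h
  · intro hr
    exact (realH_iff ν₁).mpr (h4 hr)

/-- **The main induction.** -/
theorem main_conc : ∀ (n : ℕ) (G L Q P : Subgroup Γ) (ν : L →* ℂˣ) (D : Setup G L Q P ν),
    Group.IsSolvable G → L.relIndex G = n → Conc G L Q P ν D.LP D.PG := by
  intro n
  induction n using Nat.strong_induction_on with
  | _ n IH =>
    intro G L Q P ν D hs hn
    have hLG : L ≤ G := D.LP.trans D.PG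
    have hQG : Q ≤ G := D.QP.trans D.PG
    by_cases hinv : ∀ g ∈ G, ∀ l l' : L, (l' : Γ) = g * l * g⁻¹ → ν l' = ν l
    · by_cases hGL : G ≤ L
      · obtain rfl : G = L := le_antisymm hGL hLG
        obtain rfl : P = G := le_antisymm D.PG D.LP
        exact conc_base D.real _ _
      · obtain ⟨A, hLA, hAG, An, hAL, hcomm, hcase⟩ := find_A hLG D.Ln hQG D.two D.oddI hs hGL
        have hlt : A.relIndex G < n := hn ▸ idx_lt' hLA hAG hAL
        rcases hcase with hodd | ⟨hk, hform⟩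
        · exact conc_odd D hLA hAG An hodd hinv
            (fun P₁ θ E _ => IH _ hlt G A Q P₁ θ E hs rfl)
        · have hAP : A ≤ P := by
            intro a ha
            obtain ⟨l, hl, y, hy, rfl⟩ := hform a ha
            exact P.mul_mem (D.LP hl) (D.QP hy)
          refine conc_step D hLA hAP An ?_ ?_
          · intro χ hχ hov
            obtain ⟨ν₁, h1, h2, h3, h4⟩ :=
              const_two hLA hAG An D.Ln hQG D.two hk hinv χ hχ.2 hov
            exact ⟨ν₁, h1, h3 hχ.1, h2, h4⟩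
          · intro ν₁ E _
            have hTG : inertia G A (lin ν₁) An ≤ G := fun g hg => hg.1
            have hAT : A ≤ inertia G A (lin ν₁) An := E.LP.trans E.PG
            exact IH _ (lt_of_le_of_lt (idx_le hAT hTG) hlt) _ A Q P ν₁ E (solv_le hTG hs) rfl
    · have hTG : inertia G L (lin ν) D.Ln ≤ G := fun g hg => hg.1
      have hLT : L ≤ inertia G L (lin ν) D.Ln := (relD hLG D.Ln ν).LT
      have hne : ¬ G ≤ inertia G L (lin ν) D.Ln := by
        intro hle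
        apply hinv
        intro g hg l l' h
        apply Units.ext
        exact (hle hg).2 l l' h
      refine conc_step (A := L) D le_rfl D.LP D.Ln ?_ ?_
      · intro χ hχ hov
        refine ⟨ν, rfl, D.real, D.inv, hov⟩
      · intro ν₁ E hν₁
        obtain rfl : ν₁ = ν := hν₁
        exact IH _ (hn ▸ idx_lt hLT hTG hne) _ L Q P ν₁ E (solv_le hTG hs) rfl

end Cfsg.Agent.Lib.SolRo
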