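import Mathlib
import Cfsg.Agent.Lib.SolRoD
import Cfsg.Agent.Lib.RelDeg2
import Cfsg.Agent.Lib.Frat
import Cfsg.Agent.Lib.CharTwist

/-!
# Real characters of odd degree: the action of a `2`-group on an abelian section of odd order,
and constituents of odd degree
-/

set_option autoImplicit false
set_option linter.unusedVariables false
set_option linter.unusedSectionVars false
set_option linter.style.haveILetI false

namespace Cfsg.Agent.Lib.SolRo

open Cfsg Cfsg.Agent.Lib.CharBasic Cfsg.Agent.Lib.CharInd Cfsg.Agent.Lib.CharInduction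
open Cfsg.Agent.Lib.Clifford Cfsg.Agent.Lib.CharClifford Cfsg.Agent.Lib.IsaCliff
open Cfsg.Agent.Lib.CharKernel Cfsg.Agent.Lib.RealChars Cfsg.Agent.Lib.GlaubCorr
open Cfsg.Agent.Lib.CharAut Cfsg.Agent.Lib.CoprimeInv
open scoped ComplexConjugate

universe u

section Norm

variable {B Y : Type*} [CommGroup B] [Finite B] [Group Y] [Fintype Y]

/-- The norm. -/
noncomputable def normB (φ : Y → (B →* B)) : B →* B := ∏ y : Y, φ y

theorem normB_apply (φ : Y → (B →* B)) (x : B) : normB φ x = ∏ y : Y, φ y x := by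
  unfold normB
  rw [MonoidHom.finsetProd_apply]

theorem phi_normB (φ : Y → (B →* B)) (hφ : ∀ y y' x, φ (y * y') x = φ y (φ y' x)) (y : Y) (x : B) :
    φ y (normB φ x) = normB φ x := by
  rw [normB_apply, map_prod]
  simp_rw [← hφ]
  exact Fintype.prod_equiv (Equiv.mulLeft y) _ _ (fun _ => rfl)

theorem normB_phi (φ : Y → (B →* B)) (hφ : ∀ y y' x, φ (y * y') x = φ y (φ y' x)) (y : Y) (x : B) :
    normB φ (φ y x) = normB φ x := by
  rw [normB_apply, normB_apply]
  simp_rw [← hφ]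
  exact Fintype.prod_equiv (Equiv.mulRight y) _ _ (fun _ => rfl)

theorem gamma_norm (φ : Y → (B →* B)) (γ : B →* ℂˣ) (hγ : ∀ y x, γ (φ y x) = γ x) (x : B) :
    γ (normB φ x) = γ x ^ Fintype.card Y := by
  rw [normB_apply, map_prod]
  simp_rw [hγ]
  simp

theorem eq_one_of_coprime {M : Type*} [Monoid M] {x : M} {m n : ℕ} (hc : Nat.Coprime m n)
    (h1 : x ^ m = 1) (h2 : x ^ n = 1) : x = 1 := by
  have h3 := Nat.dvd_gcd (orderOf_dvd_of_pow_eq_one h1) (orderOf_dvd_of_pow_eq_one h2)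
  rw [hc.gcd_eq_one, Nat.dvd_one, orderOf_eq_one_iff] at h3
  exact h3

theorem abs_trivial (φ : Y → (B →* B)) (hφ : ∀ y y' x, φ (y * y') x = φ y (φ y' x))
    (hfix : ∀ a : B, (∀ y, φ y a = a) → a = 1) (hc : Nat.Coprime (Fintype.card Y) (Nat.card B))
    (γ : B →* ℂˣ) (hγ : ∀ y x, γ (φ y x) = γ x) : γ = 1 := by
  ext x
  have h1 : normB φ x = 1 := hfix _ (fun y => phi_normB φ hφ y x)
  have h2 := gamma_norm φ γ hγ x
  rw [h1, map_one] at h2
  have h3 : γ x ^ Nat.card B = 1 := by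
    rw [← map_pow, pow_card_eq_one', map_one]
  have h4 := eq_one_of_coprime hc h2.symm h3
  rw [h4]
  rfl

theorem abs_exists (φ : Y → (B →* B)) (hφ : ∀ y y' x, φ (y * y') x = φ y (φ y' x))
    (hc : Nat.Coprime (Fintype.card Y) (Nat.card B)) (a : B) (ha : a ≠ 1) (hfix : ∀ y, φ y a = a) :
    ∃ γ : B →* ℂˣ, (∀ y x, γ (φ y x) = γ x) ∧ γ a ≠ 1 := by
  have h1 : normB φ a = a ^ Fintype.card Y := by
    rw [normB_apply]
    simp_rw [hfix]
    simp
  have h2 : normB φ a ≠ 1 := by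
    rw [h1]
    intro h3
    exact ha (eq_one_of_coprime hc h3 pow_card_eq_one')
  obtain ⟨γ₀, h3⟩ := Cfsg.Agent.Lib.CharTwist.exists_hom_ne_one h2
  refine ⟨γ₀.comp (normB φ), fun y x => ?_, h3⟩
  show γ₀ (normB φ (φ y x)) = γ₀ (normB φ x)
  rw [normB_phi φ hφ]

end Norm

variable {Γ : Type u} [Group Γ] [Finite Γ] [fX : ∀ X : Subgroup Γ, Fintype X]

section Act

/-- The data of an abelian section of odd order acted on by a `2`-group. -/
structure ActD (K L Q : Subgroup Γ) : Prop where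
  LK : L ≤ K
  Ln : ∀ g ∈ K, ∀ a ∈ L, g * a * g⁻¹ ∈ L
  comm : ∀ a ∈ K, ∀ b ∈ K, a * b * a⁻¹ * b⁻¹ ∈ L
  QK : ∀ y ∈ Q, ∀ k ∈ K, y * k * y⁻¹ ∈ K
  QL : ∀ y ∈ Q, ∀ l ∈ L, y * l * y⁻¹ ∈ L
  two : IsPGroup 2 Q
  odd : Odd (L.relIndex K)

variable {K L Q : Subgroup Γ}

/-- Conjugation by an element of `Q` on `K`. -/
def conjK (D : ActD K L Q) (y : Q) : K →* K where
  toFun k := ⟨y * k * (y : Γ)⁻¹, D.QK y y.2 k k.2⟩
  map_one' := by
    apply Subtype.ext
    simp
  map_mul' a b := by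
    apply Subtype.ext
    show (y : Γ) * ((a : Γ) * b) * (y : Γ)⁻¹ = (y * a * (y : Γ)⁻¹) * (y * b * (y : Γ)⁻¹)
    group

theorem conjK_coe (D : ActD K L Q) (y : Q) (k : K) : (conjK D y k : Γ) = y * k * (y : Γ)⁻¹ := rfl

/-- The section is commutative. -/
@[reducible] def commQ (D : ActD K L Q) [hN : (L.subgroupOf K).Normal] : CommGroup (K ⧸ L.subgroupOf K) :=
  { (inferInstance : Group (K ⧸ L.subgroupOf K)) with
    mul_comm := by
      intro a b
      induction a using QuotientGroup.induction_on with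
      | H a =>
        induction b using QuotientGroup.induction_on with
        | H b =>
          rw [← QuotientGroup.mk_mul, ← QuotientGroup.mk_mul]
          apply QuotientGroup.eq.mpr
          show ((((a * b)⁻¹ * (b * a) : K)) : Γ) ∈ L
          have h2 : (((a * b)⁻¹ * (b * a) : K) : Γ) = (b : Γ)⁻¹ * (a : Γ)⁻¹ * (b : Γ) * a := by
            show ((a : Γ) * b)⁻¹ * ((b : Γ) * a) = _
            group
          rw [h2]
          have := D.comm _ (K.inv_mem b.2) _ (K.inv_mem a.2)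
          simpa using this }

theorem act_coprime (D : ActD K L Q) : Nat.Coprime (Fintype.card Q) (Nat.card (K ⧸ L.subgroupOf K)) := by
  obtain ⟨j, hj⟩ := IsPGroup.iff_card.mp D.two
  rw [← Nat.card_eq_fintype_card, hj]
  have h : Nat.card (K ⧸ L.subgroupOf K) = L.relIndex K := rfl
  rw [h]
  apply Nat.Coprime.pow_left
  exact (Nat.coprime_two_left).mpr D.odd

/-- The action on the section. -/
def phiQ (D : ActD K L Q) [hN : (L.subgroupOf K).Normal] (y : Q) :
    (K ⧸ L.subgroupOf K) →* (K ⧸ L.subgroupOf K) :=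
  QuotientGroup.map _ _ (conjK D y) (fun l hl => D.QL y y.2 l hl)

theorem phiQ_mk (D : ActD K L Q) [hN : (L.subgroupOf K).Normal] (y : Q) (k : K) :
    phiQ D y (k : K ⧸ L.subgroupOf K) = (conjK D y k : K) := rfl

theorem phiQ_mul (D : ActD K L Q) [hN : (L.subgroupOf K).Normal] (y y' : Q) (x : K ⧸ L.subgroupOf K) :
    phiQ D (y * y') x = phiQ D y (phiQ D y' x) := by
  induction x using QuotientGroup.induction_on with
  | H k =>
    rw [phiQ_mk, phiQ_mk, phiQ_mk]
    congr 1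
    apply Subtype.ext
    show ((y * y' : Q) : Γ) * k * ((y * y' : Q) : Γ)⁻¹ = y * (y' * k * (y' : Γ)⁻¹) * (y : Γ)⁻¹
    push_cast
    group

/-- **A `Q`-invariant character without fixed points is trivial.** -/
theorem act_trivial (D : ActD K L Q)
    (hfix : ∀ a ∈ K, (∀ y ∈ Q, a⁻¹ * (y * a * y⁻¹) ∈ L) → a ∈ L) (b : K →* ℂˣ)
    (hbL : ∀ l : K, (l : Γ) ∈ L → b l = 1)
    (hbQ : ∀ y ∈ Q, ∀ k k' : K, (k' : Γ) = y * k * y⁻¹ → b k' = b k) : b = 1 := by
  classical
  haveI hN : (L.subgroupOf K).Normal := ⟨fun n hn g => D.Ln g g.2 n hn⟩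
  letI : CommGroup (K ⧸ L.subgroupOf K) := commQ D
  let b' : (K ⧸ L.subgroupOf K) →* ℂˣ := QuotientGroup.lift _ b (fun l hl => hbL l hl)
  have h1 : b' = 1 := by
    refine abs_trivial (Y := Q) (phiQ D) (phiQ_mul D) ?_ (act_coprime D) b' ?_
    · intro a ha
      induction a using QuotientGroup.induction_on with
      | H k =>
        have h2 : (k : Γ) ∈ L := by
          refine hfix k k.2 (fun y hy => ?_)
          have h3 := ha ⟨y, hy⟩
          rw [phiQ_mk] at h3
          have h4 := QuotientGroup.eq.mp h3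
          have h5 : ((conjK D ⟨y, hy⟩ k)⁻¹ * k : K) ∈ L.subgroupOf K := h4
          have h6 : (((conjK D ⟨y, hy⟩ k)⁻¹ * k : K) : Γ) ∈ L := h5
          have h7 := L.inv_mem h6
          convert h7 using 1
          simp [conjK_coe, mul_assoc]
        exact (QuotientGroup.eq_one_iff _).mpr h2
    · intro y x
      induction x using QuotientGroup.induction_on with
      | H k =>
        rw [phiQ_mk]
        exact hbQ y y.2 k _ rfl
  ext x
  have h2 : b x = b' (x : K ⧸ L.subgroupOf K) := rfl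
  rw [h2, h1]
  rfl

/-- **Separating a fixed element by an invariant character.** -/
theorem act_exists (D : ActD K L Q) {a₀ : Γ} (ha : a₀ ∈ K)
    (hfix : ∀ y ∈ Q, a₀⁻¹ * (y * a₀ * y⁻¹) ∈ L) (hn : a₀ ∉ L) :
    ∃ b : K →* ℂˣ, (∀ l : K, (l : Γ) ∈ L → b l = 1) ∧
      (∀ y ∈ Q, ∀ k k' : K, (k' : Γ) = y * k * y⁻¹ → b k' = b k) ∧ b ⟨a₀, ha⟩ ≠ 1 := by
  classical
  haveI hN : (L.subgroupOf K).Normal := ⟨fun n hn g => D.Ln g g.2 n hn⟩
  letI : CommGroup (K ⧸ L.subgroupOf K) := commQ D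
  have h1 : ((⟨a₀, ha⟩ : K) : K ⧸ L.subgroupOf K) ≠ 1 := by
    intro h
    exact hn ((QuotientGroup.eq_one_iff (⟨a₀, ha⟩ : K)).mp h)
  obtain ⟨γ, h2, h3⟩ := abs_exists (Y := Q) (phiQ D) (phiQ_mul D) (act_coprime D) _ h1 (by
    intro y
    rw [phiQ_mk]
    symm
    apply QuotientGroup.eq.mpr
    show (((⟨a₀, ha⟩ : K)⁻¹ * conjK D y ⟨a₀, ha⟩ : K) : Γ) ∈ L
    exact hfix y y.2)
  refine ⟨γ.comp (QuotientGroup.mk' _), ?_, ?_, h3⟩
  · intro l hl
    show γ (l : K ⧸ L.subgroupOf K) = 1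
    rw [(QuotientGroup.eq_one_iff l).mpr hl, map_one]
  · intro y hy k k' hk
    show γ (k' : K ⧸ L.subgroupOf K) = γ (k : K ⧸ L.subgroupOf K)
    have h4 : k' = conjK D ⟨y, hy⟩ k := Subtype.ext hk
    rw [h4]
    exact h2 ⟨y, hy⟩ (k : K ⧸ L.subgroupOf K)

end Act

/-- **A constituent of odd degree** over any linear character of a subgroup of odd index. -/
theorem odd_over {H X : Subgroup Γ} (hHX : H ≤ X) (hodd : Odd (H.relIndex X)) (μ : H →* ℂˣ) :
    ∃ χ : IrrCharacter X, Odd (charDegree (χ : X → ℂ)) ∧ Over hHX (χ : X → ℂ) μ := by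
  classical
  let N : Subgroup X := H.subgroupOf X
  letI : Fintype N := Fintype.ofFinite _
  let eN : N ≃* H := Subgroup.subgroupOfEquivOfLe hHX
  have hφ : IsIrrCharacter N (lin μ ∘ eN) :=
    isIrrCharacter_comp_of_surjective eN.toMonoidHom eN.surjective (lin_irr μ)
  have hc := indFun_isCharacter N (IsIrrCharacter.isCharacter hφ)
  obtain ⟨m, hm⟩ := exists_nat_decomp hc
  have hmval : ∀ η : IrrCharacter X, classInner (indFun N (lin μ ∘ eN)) (η : X → ℂ) = m η := by
    intro η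
    have := classInner_nat_decomp m (η : X → ℂ) η.2
    rw [← hm] at this
    exact this
  have hdeg : H.relIndex X = ∑ η : IrrCharacter X, m η * charDegree (η : X → ℂ) := by
    have h1 := congrFun hm 1
    rw [indFun_one] at h1
    simp only [Finset.sum_apply, Pi.smul_apply] at h1
    simp only [nsmul_eq_mul] at h1
    have h2 : ((H.relIndex X : ℕ) : ℂ) = ((∑ η : IrrCharacter X, m η * charDegree (η : X → ℂ) : ℕ) : ℂ) := by
      push_cast
      have h3 : (lin μ ∘ eN) 1 = 1 := by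
        simp [lin]
      rw [h3, mul_one] at h1
      have h4 : ((N.index : ℕ) : ℂ) = ((H.relIndex X : ℕ) : ℂ) := rfl
      rw [← h4, h1]
      refine Finset.sum_congr rfl fun η _ => ?_
      rw [one_eq_charDegree (IsIrrCharacter.isCharacter η.2)]
    exact_mod_cast h2
  have hex : ∃ η : IrrCharacter X, Odd (m η * charDegree (η : X → ℂ)) := by
    by_contra hcon
    push Not at hcon
    simp only [Nat.not_odd_iff_even] at hcon
    have h2 : Even (∑ η : IrrCharacter X, m η * charDegree (η : X → ℂ)) :=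
      Finset.even_sum _ (fun η _ => hcon η)
    rw [← hdeg] at h2
    exact (Nat.not_even_iff_odd.mpr hodd) h2
  obtain ⟨χ, hχ⟩ := hex
  refine ⟨χ, (Nat.odd_mul.mp hχ).2, ?_⟩
  have h1 : m χ ≠ 0 := by
    intro h0
    rw [h0] at hχ
    simp at hχ
  have h2 : classInner (indFun N (lin μ ∘ eN)) (χ : X → ℂ) ≠ 0 := by
    rw [hmval]
    exact_mod_cast h1
  rw [frobenius N _ (isClassFunction_of_isCharacter (IsIrrCharacter.isCharacter χ.2))] at h2
  unfold Over
  have hres : (res hHX (χ : X → ℂ)) ∘ eN = fun n : N => (χ : X → ℂ) n := rfl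
  have h3 := classInner_comp_mulEquiv eN (lin μ) (res hHX (χ : X → ℂ))
  rw [hres] at h3
  rw [h3] at h2
  intro h4
  apply h2
  rw [← classInner_conj_symm, h4, map_zero]

end Cfsg.Agent.Lib.SolRo
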