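import Mathlib
import Cfsg.Agent.Lib.SolRoE

/-!
# Real characters of odd degree: the normalizer of a Sylow `2`-subgroup, and reality
-/

set_option autoImplicit false
set_option linter.unusedVariables false
set_option linter.unusedSectionVars false
set_option linter.style.haveILetI false

namespace Cfsg.Agent.Lib.SolRo

open Cfsg Cfsg.Agent.Lib.CharBasic Cfsg.Agent.Lib.CharInd Cfsg.Agent.Lib.CharInduction
open Cfsg.Agent.Lib.Clifford Cfsg.Agent.Lib.CharClifford Cfsg.Agent.Lib.IsaCliff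
open Cfsg.Agent.Lib.CharKernel Cfsg.Agent.Lib.RealChars Cfsg.Agent.Lib.GlaubCorr
open Cfsg.Agent.Lib.CharAut Cfsg.Agent.Lib.CoprimeInv
open scoped ComplexConjugate

universe u

variable {Γ : Type u} [Group Γ] [Finite Γ] [fX : ∀ X : Subgroup Γ, Fintype X]

/-- Powers land in the subgroup of odd index. -/
theorem pow_mem_of_index {L K : Subgroup Γ} (Ln : ∀ g ∈ K, ∀ a ∈ L, g * a * g⁻¹ ∈ L) {a : Γ} (ha : a ∈ K) :
    a ^ L.relIndex K ∈ L := by
  haveI hN : (L.subgroupOf K).Normal := ⟨fun n hn g => Ln g g.2 n hn⟩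
  have h1 : ((⟨a, ha⟩ : K) : K ⧸ L.subgroupOf K) ^ L.relIndex K = 1 := by
    have h2 : L.relIndex K = Nat.card (K ⧸ L.subgroupOf K) := rfl
    rw [h2]
    exact pow_card_eq_one'
  rw [← QuotientGroup.mk_pow] at h1
  have h3 : ((⟨a, ha⟩ : K) ^ L.relIndex K : K) ∈ L.subgroupOf K := (QuotientGroup.eq_one_iff _).mp h1
  have h4 : (((⟨a, ha⟩ : K) ^ L.relIndex K : K) : Γ) ∈ L := h3
  simpa using h4

/-- **If all characters of odd degree are real, a Sylow `2`-subgroup is self-normalizing**, relatively. -/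
theorem norm_of_real : ∀ (n : ℕ) (G L Q : Subgroup Γ) (hLG : L ≤ G) (hQG : Q ≤ G)
    (Ln : ∀ g ∈ G, ∀ l ∈ L, g * l * g⁻¹ ∈ L), IsPGroup 2 Q → Odd (Q.relIndex G) →
    Group.IsSolvable G → L.relIndex G = n →
    (∀ χ : IrrCharacter G, Odd (charDegree (χ : G → ℂ)) → Over hLG (χ : G → ℂ) 1 →
      ∀ g, conj ((χ : G → ℂ) g) = (χ : G → ℂ) g) →
    ∀ m ∈ G, (∀ x, m * x * m⁻¹ ∈ Q ↔ x ∈ Q) → ∃ l ∈ L, ∃ y ∈ Q, m = l * y := by
  intro n
  induction n using Nat.strong_induction_on with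
  | _ n IH =>
    intro G L Q hLG hQG Ln hQ hodd hs hn hA m hm hmQ
    by_cases hGL : G ≤ L
    · exact ⟨m, hGL hm, 1, Q.one_mem, by simp⟩
    obtain ⟨A, hLA, hAG, An, hAL, hcomm, hcase⟩ := find_A hLG Ln hQG hQ hodd hs hGL
    have hlt : A.relIndex G < n := hn ▸ idx_lt' hLA hAG hAL
    have hA' : ∀ χ : IrrCharacter G, Odd (charDegree (χ : G → ℂ)) → Over hAG (χ : G → ℂ) 1 →
        ∀ g, conj ((χ : G → ℂ) g) = (χ : G → ℂ) g := by
      intro χ hχ hov
      apply hA χ hχ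
      exact over_down' hLA hAG hLG (IsIrrCharacter.isCharacter χ.2) (by
        ext x
        rfl) hov
    obtain ⟨a, ha, y, hy, rfl⟩ := IH _ hlt G A Q hAG hQG An hQ hodd hs rfl hA' m hm hmQ
    rcases hcase with hoddA | ⟨hk, hform⟩
    · by_cases haL : a ∈ L
      · exact ⟨a, haL, y, hy, rfl⟩
      exfalso
      -- `a` normalizes `Q`
      have haQ : ∀ z, a * z * a⁻¹ ∈ Q ↔ z ∈ Q := by
        intro z
        have h1 : a * z * a⁻¹ = (a * y) * (y⁻¹ * z * y) * (a * y)⁻¹ := by group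
        rw [h1, hmQ]
        constructor
        · intro h
          have h2 := Q.mul_mem (Q.mul_mem hy h) (Q.inv_mem hy)
          have h3 : y * (y⁻¹ * z * y) * y⁻¹ = z := by group
          rwa [h3] at h2
        · intro h
          exact Q.mul_mem (Q.mul_mem (Q.inv_mem hy) h) hy
      have LnA : ∀ g ∈ A, ∀ l ∈ L, g * l * g⁻¹ ∈ L := fun g hg l hl => Ln g (hAG hg) l hl
      have hfix : ∀ y₁ ∈ Q, a⁻¹ * (y₁ * a * y₁⁻¹) ∈ L := by
        intro y₁ hy₁
        have h1 : a⁻¹ * (y₁ * a * y₁⁻¹) ∈ A := A.mul_mem (A.inv_mem ha) (An y₁ (hQG hy₁) a ha)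
        have h2 : a⁻¹ * y₁ * a ∈ Q := by
          apply (haQ _).mp
          have h3 : a * (a⁻¹ * y₁ * a) * a⁻¹ = y₁ := by group
          rw [h3]
          exact hy₁
        have h3 : a⁻¹ * (y₁ * a * y₁⁻¹) ∈ Q := by
          have h4 : a⁻¹ * (y₁ * a * y₁⁻¹) = (a⁻¹ * y₁ * a) * y₁⁻¹ := by group
          rw [h4]
          exact Q.mul_mem h2 (Q.inv_mem hy₁)
        exact two_mem_of_odd hLA LnA hoddA hQ h1 h3
      let D : ActD A L Q := ⟨hLA, LnA, hcomm, fun y hy k hk => An y (hQG hy) k hk,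
        fun y hy l hl => Ln y (hQG hy) l hl, hQ, hoddA⟩
      obtain ⟨b, hbL, hbQ, hba⟩ := act_exists D ha hfix haL
      let Z : Subgroup Γ := prodS A Q (fun y hy k hk => An y (hQG hy) k hk)
      have hAZ : A ≤ Z := fun k hk => ⟨k, hk, 1, Q.one_mem, by simp⟩
      have hQZ : Q ≤ Z := fun y hy => ⟨1, A.one_mem, y, hy, by simp⟩
      have hZG : Z ≤ G := by
        rintro _ ⟨k, hk, y, hy, rfl⟩
        exact G.mul_mem (hAG hk) (hQG hy)
      obtain ⟨μ, hμ1, -⟩ := glue hAZ hQZ (fun z hz => hz) (fun y hy k hk => An y (hQG hy) k hk) b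
        (1 : Q →* ℂˣ) hbQ (by
          intro x h₁ h₂
          rw [hbL ⟨x, h₁⟩ (two_mem_of_odd hLA LnA hoddA hQ h₁ h₂)]
          rfl)
      have hZodd : Odd (Z.relIndex G) := by
        have h1 := Subgroup.relIndex_mul_relIndex Q Z G hQZ hZG
        rw [← h1] at hodd
        exact (Nat.odd_mul.mp hodd).2
      obtain ⟨χ, hχ, hov⟩ := odd_over hZG hZodd μ
      have hχc := IsIrrCharacter.isCharacter χ.2
      have h1 : Over hAG (χ : G → ℂ) b := over_down' hAZ hZG hAG hχc hμ1 hov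
      have h2 : Over hLG (χ : G → ℂ) 1 := over_down' hLA hAG hLG hχc (by
        ext x
        show ((b ⟨x, hLA x.2⟩ : ℂˣ) : ℂ) = _
        rw [hbL ⟨x, hLA x.2⟩ x.2]
        rfl) h1
      have hr := hA χ hχ h2
      have hb : RealH b := lin_real_of_over hAG An χ ⟨hr, hχ⟩ b h1
      apply hba
      refine eq_one_of_coprime (m := 2) (n := L.relIndex A) (Nat.coprime_two_left.mpr hoddA) ?_ ?_
      · rw [pow_two]
        exact hb _
      · rw [← map_pow]
        apply hbL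
        simpa using pow_mem_of_index LnA ha
    · obtain ⟨l, hl, y', hy', rfl⟩ := hform a ha
      exact ⟨l, hl, y' * y, Q.mul_mem hy' hy, by group⟩

/-- A character of odd degree has a linear constituent on a `2`-subgroup. -/
theorem exists_lin_const {Q X : Subgroup Γ} (hQX : Q ≤ X) (hQ : IsPGroup 2 Q) (χ : IrrCharacter X)
    (hodd : Odd (charDegree (χ : X → ℂ))) : ∃ f : Q →* ℂˣ, Over hQX (χ : X → ℂ) f := by
  classical
  haveI : Fact (Nat.Prime 2) := ⟨Nat.prime_two⟩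
  have hχc := IsIrrCharacter.isCharacter χ.2
  obtain ⟨m, hm⟩ := exists_nat_decomp (isChar_res hQX hχc)
  have hmval : ∀ η : IrrCharacter Q, classInner (res hQX (χ : X → ℂ)) (η : Q → ℂ) = m η := by
    intro η
    have := classInner_nat_decomp m (η : Q → ℂ) η.2
    rw [← hm] at this
    exact this
  have hdeg : charDegree (χ : X → ℂ) = ∑ η : IrrCharacter Q, m η * charDegree (η : Q → ℂ) := by
    have h1 := congrFun hm 1
    simp only [Finset.sum_apply, Pi.smul_apply] at h1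
    simp only [nsmul_eq_mul] at h1
    have h2 : ((charDegree (χ : X → ℂ) : ℕ) : ℂ) =
        ((∑ η : IrrCharacter Q, m η * charDegree (η : Q → ℂ) : ℕ) : ℂ) := by
      rw [← one_eq_charDegree hχc]
      show res hQX (χ : X → ℂ) 1 = _
      rw [h1]
      push_cast
      refine Finset.sum_congr rfl fun η _ => ?_
      rw [one_eq_charDegree (IsIrrCharacter.isCharacter η.2)]
    exact_mod_cast h2
  have hex : ∃ η : IrrCharacter Q, Odd (m η * charDegree (η : Q → ℂ)) := by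
    by_contra hcon
    push Not at hcon
    simp only [Nat.not_odd_iff_even] at hcon
    have h2 : Even (∑ η : IrrCharacter Q, m η * charDegree (η : Q → ℂ)) :=
      Finset.even_sum _ (fun η _ => hcon η)
    rw [← hdeg] at h2
    exact (Nat.not_even_iff_odd.mpr hodd) h2
  obtain ⟨η, hη⟩ := hex
  have h1 : m η ≠ 0 := by
    intro h0
    rw [h0] at hη
    simp at hη
  have h2 := (Nat.odd_mul.mp hη).2
  have h3 : charDegree (η : Q → ℂ) = 1 := by
    rcases Cfsg.Agent.Lib.CharCentral.pGroup_degree_one_or_dvd hQ η.2 with h | h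
    · exact h
    · exact absurd h h2.not_two_dvd_nat
  obtain ⟨f, hf⟩ := exists_hom_of_degree_one (IsIrrCharacter.isCharacter η.2) (by
    have h4 := one_eq_charDegree (IsIrrCharacter.isCharacter η.2)
    rw [h3] at h4
    simpa using h4)
  refine ⟨f, ?_⟩
  have h5 : lin f = (η : Q → ℂ) := (funext hf).symm
  unfold Over
  rw [h5, hmval]
  exact_mod_cast h1

/-- A constituent in the middle. -/
theorem exists_middle {Y X W : Subgroup Γ} (hYX : Y ≤ X) (hXW : X ≤ W) {F : W → ℂ}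
    (hF : IsCharacter W F) {β : Y → ℂ} (hβ : IsIrrCharacter Y β)
    (h : classInner (res (hYX.trans hXW) F) β ≠ 0) :
    ∃ i : IrrCharacter X, classInner (res hXW F) (i : X → ℂ) ≠ 0 ∧
      classInner (res hYX (i : X → ℂ)) β ≠ 0 := by
  classical
  obtain ⟨a, b, n, ha, hb, hn, hsum⟩ := exists_nat_sum hYX hXW hF hβ
  have h1 : n ≠ 0 := by
    intro h0
    apply h
    rw [hn, h0]
    simp
  rw [hsum] at h1
  obtain ⟨i, -, hi⟩ := Finset.exists_ne_zero_of_sum_ne_zero h1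
  refine ⟨i, ?_, ?_⟩
  · rw [ha]
    exact_mod_cast left_ne_zero_of_mul hi
  · rw [hb]
    exact_mod_cast right_ne_zero_of_mul hi

/-- The setting at an odd section. -/
theorem setup_odd {G L Q P K : Subgroup Γ} {ν : L →* ℂˣ} (D : Setup G L Q P ν) (hLK : L ≤ K) (hKG : K ≤ G)
    (Kn : ∀ g ∈ G, ∀ a ∈ K, g * a * g⁻¹ ∈ K) (θ : K →* ℂˣ) (hθr : RealH θ)
    (hθinv : ∀ g ∈ G, ∀ k k' : K, (k' : Γ) = g * k * g⁻¹ → θ k' = θ k) :
    Setup G K Q (prodS K Q (fun y hy k hk => Kn y (D.PG (D.QP hy)) k hk)) θ :=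
  { LP := fun k hk => ⟨k, hk, 1, Q.one_mem, by simp⟩
    QP := fun y hy => ⟨1, K.one_mem, y, hy, by simp⟩
    PG := by
      rintro _ ⟨k, hk, y, hy, rfl⟩
      exact G.mul_mem (hKG hk) (D.PG (D.QP hy))
    form := fun x hx => hx
    Ln := Kn
    two := D.two
    oddI := D.oddI
    real := hθr
    inv := fun y hy => hθinv y (D.PG (D.QP hy)) }

/-- Odd character over a real invariant character at an abelian odd section. -/
theorem over_odd_section {G L Q P K : Subgroup Γ} {ν : L →* ℂˣ} (D : Setup G L Q P ν) (hLK : L ≤ K) (hKG : K ≤ G)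
    (Kn : ∀ g ∈ G, ∀ a ∈ K, g * a * g⁻¹ ∈ K) (hodd : Odd (L.relIndex K))
    (hcomm : ∀ a ∈ K, ∀ b ∈ K, a * b * a⁻¹ * b⁻¹ ∈ L)
    (νinv : ∀ g ∈ G, ∀ l l' : L, (l' : Γ) = g * l * g⁻¹ → ν l' = ν l)
    (hN : ∀ m ∈ G, (∀ x, m * x * m⁻¹ ∈ Q ↔ x ∈ Q) → m ∈ P)
    (θ : K →* ℂˣ) (hθ : rs hLK θ = ν)
    (hθinv : ∀ g ∈ G, ∀ k k' : K, (k' : Γ) = g * k * g⁻¹ → θ k' = θ k)
    (χ : IrrCharacter G) (hχ : Odd (charDegree (χ : G → ℂ)))
    (hov : Over (D.LP.trans D.PG) (χ : G → ℂ) ν) : Over hKG (χ : G → ℂ) θ := by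
  classical
  haveI : Fact (Nat.Prime 2) := ⟨Nat.prime_two⟩
  have hQG : Q ≤ G := D.QP.trans D.PG
  have LnK : ∀ g ∈ K, ∀ a ∈ L, g * a * g⁻¹ ∈ L := fun g hg a ha => D.Ln g (hKG hg) a ha
  obtain ⟨ω, h1, -, h3, -⟩ := fix_const hKG Kn hQG D.two χ hχ
  obtain ⟨i, hi⟩ := exists_irr_const hLK ω.2
  have h2 := trans_ne hLK hKG (IsIrrCharacter.isCharacter χ.2) ω.2 i.2 h1 hi
  have h4 : (i : L → ℂ) = lin ν := const_eq (hLK.trans hKG) D.Ln χ ν νinv hov i.2 h2
  rw [h4] at hi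
  -- the twist
  have hψ := Cfsg.Agent.Lib.DetChar.isIrr_mul_hom θ⁻¹ ω.2
  set ψ : K → ℂ := (fun g => (((θ⁻¹ : K →* ℂˣ) g : ℂˣ) : ℂ)) * (ω : K → ℂ) with hψdef
  have hsc := scalar_mul hLK LnK ω ν (fun g hg => νinv g (hKG hg)) hi
  have hθl : ∀ l : L, θ ⟨l, hLK l.2⟩ = ν l := fun l => by
    rw [← hθ]
    rfl
  have hψL : ∀ (l : L) (g : K), ψ (⟨l, hLK l.2⟩ * g) = ψ g := by
    intro l g
    show (((θ⁻¹ : K →* ℂˣ) (⟨l, hLK l.2⟩ * g) : ℂˣ) : ℂ) * (ω : K → ℂ) (⟨l, hLK l.2⟩ * g) =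
      (((θ⁻¹ : K →* ℂˣ) g : ℂˣ) : ℂ) * (ω : K → ℂ) g
    rw [hsc l g, map_mul, MonoidHom.inv_apply, hθl]
    show ((((ν l)⁻¹ * (θ⁻¹ : K →* ℂˣ) g : ℂˣ)) : ℂ) * (((ν l : ℂˣ) : ℂ) * _) = _
    push_cast
    have h5 : ((ν l : ℂˣ) : ℂ)⁻¹ * ((ν l : ℂˣ) : ℂ) = 1 := inv_mul_cancel₀ (Units.ne_zero _)
    linear_combination ((((θ⁻¹ : K →* ℂˣ) g : ℂˣ) : ℂ) * (ω : K → ℂ) g) * h5
  have hψ1 : ∀ l : L, ψ ⟨l, hLK l.2⟩ = ψ 1 := by
    intro l
    have := hψL l 1
    rwa [mul_one] at this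
  have hdeg : charDegree ψ = 1 := by
    apply Cfsg.Agent.Lib.RelDeg2.charDegree_eq_one_of_comm hψ
    intro a b
    have h5 : ((a * b * a⁻¹ * b⁻¹ : K) : Γ) ∈ L := hcomm a a.2 b b.2
    exact hψ1 ⟨_, h5⟩
  have hψone : ψ 1 = 1 := by
    have h5 := one_eq_charDegree (IsIrrCharacter.isCharacter hψ)
    rw [hdeg] at h5
    simpa using h5
  obtain ⟨b, hb⟩ := exists_hom_of_degree_one (IsIrrCharacter.isCharacter hψ) hψone
  have hbL : ∀ l : K, (l : Γ) ∈ L → b l = 1 := by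
    intro l hl
    apply Units.ext
    rw [← hb l]
    have h5 := hψ1 ⟨l, hl⟩
    simpa [hψone] using h5
  have hbQ : ∀ y ∈ Q, ∀ k k' : K, (k' : Γ) = y * k * y⁻¹ → b k' = b k := by
    intro y hy k k' h
    apply Units.ext
    rw [← hb k', ← hb k]
    show (((θ⁻¹ : K →* ℂˣ) k' : ℂˣ) : ℂ) * (ω : K → ℂ) k' = (((θ⁻¹ : K →* ℂˣ) k : ℂˣ) : ℂ) * (ω : K → ℂ) k
    rw [h3 y hy k k' h, MonoidHom.inv_apply, MonoidHom.inv_apply, hθinv y (hQG hy) k k' h]
  have hfix : ∀ a ∈ K, (∀ y ∈ Q, a⁻¹ * (y * a * y⁻¹) ∈ L) → a ∈ L := by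
    intro a ha hay
    have haG : a ∈ G := hKG ha
    have hcjQ : cj Q a⁻¹ ≤ P := by
      intro x hx
      have hy : a * x * a⁻¹ ∈ Q := by
        have := mem_cj.mp hx
        simpa using this
      have h5 := hay _ hy
      have h6 : x = (a⁻¹ * ((a * x * a⁻¹) * a * (a * x * a⁻¹)⁻¹)) * (a * x * a⁻¹) := by group
      rw [h6]
      exact P.mul_mem (D.LP h5) (D.QP hy)
    have hS₁ : IsSylowIn 2 Q P := sylow_in_one D.two D.oddI D.PG hQG D.QP
    have hS₂ : IsSylowIn 2 (cj Q a⁻¹) P := sylow_in D.two D.oddI D.PG (G.inv_mem haG) hQG hcjQ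
    obtain ⟨h, hh, hcj⟩ := hS₁.exists_conj hS₂
    have hnG : h⁻¹ * a⁻¹ ∈ G := G.mul_mem (G.inv_mem (D.PG hh)) (G.inv_mem haG)
    have hnQ : ∀ x, (h⁻¹ * a⁻¹) * x * (h⁻¹ * a⁻¹)⁻¹ ∈ Q ↔ x ∈ Q := by
      intro x
      have h1 : (h⁻¹ * a⁻¹) * x * (h⁻¹ * a⁻¹)⁻¹ ∈ Q ↔ a⁻¹ * x * a⁻¹⁻¹ ∈ cj Q h := by
        rw [mem_cj]
        have h2 : h⁻¹ * (a⁻¹ * x * a⁻¹⁻¹) * h = (h⁻¹ * a⁻¹) * x * (h⁻¹ * a⁻¹)⁻¹ := by
          group
        rw [h2]
      rw [h1, ← hcj, mem_cj]
      have h2 : a⁻¹⁻¹ * (a⁻¹ * x * a⁻¹⁻¹) * a⁻¹ = x := by group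
      rw [h2]
    have hnP := hN _ hnG hnQ
    have haP : a ∈ P := by
      have h1 : a⁻¹ = h * (h⁻¹ * a⁻¹) := by group
      have h2 : a⁻¹ ∈ P := by
        rw [h1]
        exact P.mul_mem hh hnP
      simpa using P.inv_mem h2
    obtain ⟨l, hl, y, hy, hal⟩ := D.form a haP
    have hyK : y ∈ K := by
      have h1 : y = l⁻¹ * a := by
        rw [hal]
        group
      rw [h1]
      exact K.mul_mem (K.inv_mem (hLK hl)) ha
    rw [hal]
    exact L.mul_mem hl (two_mem_of_odd hLK LnK hodd D.two hyK hy)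
  let DA : ActD K L Q := ⟨hLK, LnK, hcomm, fun y hy k hk => Kn y (hQG hy) k hk,
    fun y hy l hl => D.Ln y (hQG hy) l hl, D.two, hodd⟩
  have hb1 : b = 1 := act_trivial DA hfix b hbL hbQ
  have hω : (ω : K → ℂ) = lin θ := by
    funext k
    have h5 := hb k
    rw [hb1] at h5
    have h60 : ψ k = 1 := by
      simpa using h5
    have h6 : (((θ⁻¹ : K →* ℂˣ) k : ℂˣ) : ℂ) * (ω : K → ℂ) k = 1 := h60
    rw [MonoidHom.inv_apply] at h6
    have h7 : ((θ k : ℂˣ) : ℂ) * ((θ k)⁻¹ : ℂˣ) = 1 := by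
      simp
    show (ω : K → ℂ) k = ((θ k : ℂˣ) : ℂ)
    linear_combination ((θ k : ℂˣ) : ℂ) * h6 - (ω : K → ℂ) k * h7
  rw [hω] at h1
  exact h1

/-- **Reality from the normalizer condition.** -/
theorem real_of_norm : ∀ (n : ℕ) (G L Q P : Subgroup Γ) (ν : L →* ℂˣ) (D : Setup G L Q P ν),
    Group.IsSolvable G → L.relIndex G = n →
    (∀ m ∈ G, (∀ x, m * x * m⁻¹ ∈ Q ↔ x ∈ Q) → m ∈ P) → (∀ f : Q →* ℂˣ, RealH f) →
    ∀ χ : IrrCharacter G, Odd (charDegree (χ : G → ℂ)) → Over (D.LP.trans D.PG) (χ : G → ℂ) ν →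
      ∀ g, conj ((χ : G → ℂ) g) = (χ : G → ℂ) g := by
  intro n
  induction n using Nat.strong_induction_on with
  | _ n IH =>
    intro G L Q P ν D hs hn hN hR χ hχ hov
    have hLG : L ≤ G := D.LP.trans D.PG
    have hQG : Q ≤ G := D.QP.trans D.PG
    have hχc := IsIrrCharacter.isCharacter χ.2
    by_cases hinv : ∀ g ∈ G, ∀ l l' : L, (l' : Γ) = g * l * g⁻¹ → ν l' = ν l
    · by_cases hGL : G ≤ L
      · obtain rfl : G = L := le_antisymm hGL hLG
        have hres : ∀ (f : G → ℂ), res (D.LP.trans D.PG) f = f := fun f => rfl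
        unfold Over at hov
        rw [hres] at hov
        have h1 : (χ : G → ℂ) = lin ν := by
          by_contra hne
          exact hov (classInner_irr_ne χ.2 (lin_irr ν) hne)
        rw [h1]
        exact (realH_iff ν).mp D.real
      · obtain ⟨A, hLA, hAG, An, hAL, hcomm, hcase⟩ := find_A hLG D.Ln hQG D.two D.oddI hs hGL
        have hlt : A.relIndex G < n := hn ▸ idx_lt' hLA hAG hAL
        have LnA : ∀ g ∈ A, ∀ l ∈ L, g * l * g⁻¹ ∈ L := fun g hg l hl => D.Ln g (hAG hg) l hl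
        rcases hcase with hodd | ⟨hk, hform⟩
        · -- the odd section
          obtain ⟨θ, hθ, hθr⟩ := real_ext hLA LnA hodd ν D.real (fun g hg => hinv g (hAG hg))
          have hθinv : ∀ g ∈ G, ∀ k k' : A, (k' : Γ) = g * k * g⁻¹ → θ k' = θ k := by
            intro g hg k k' h
            exact real_ext_inv hLA LnA hodd ν D.real θ hθ hθr g (norm_iff An hg) (hinv g hg)
              (norm_iff D.Ln hg) k k' h
          have h1 := over_odd_section D hLA hAG An hodd hcomm hinv hN θ hθ hθinv χ hχ hov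
          let E := setup_odd D hLA hAG An θ hθr hθinv
          refine IH _ hlt G A Q _ θ E hs rfl ?_ hR χ hχ h1
          intro m hm hmQ
          obtain ⟨l, hl, y, hy, hml⟩ := D.form m (hN m hm hmQ)
          exact ⟨l, hLA hl, y, hy, hml⟩
        · -- the `2`-section
          have hAP : A ≤ P := by
            intro a ha
            obtain ⟨l, hl, y, hy, rfl⟩ := hform a ha
            exact P.mul_mem (D.LP hl) (D.QP hy)
          -- a linear constituent on `Q`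
          obtain ⟨f, hf⟩ := exists_lin_const hQG D.two χ hχ
          have hSA : A ⊓ Q ≤ A := inf_le_left
          have hSQ : A ⊓ Q ≤ Q := inf_le_right
          have h1 : classInner (res (hSA.trans hAG) (χ : G → ℂ)) (lin (rs hSQ f)) ≠ 0 :=
            over_down hSQ hQG hχc hf
          obtain ⟨ω, h2, h3⟩ := exists_middle hSA hAG hχc (lin_irr _) h1
          obtain ⟨i, hi⟩ := exists_irr_const hLA ω.2
          have h4 := trans_ne hLA hAG hχc ω.2 i.2 h2 hi
          have h5 : (i : L → ℂ) = lin ν := const_eq (hLA.trans hAG) D.Ln χ ν hinv hov i.2 h4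
          rw [h5] at hi
          have h6 : Odd (charDegree (ω : A → ℂ)) :=
            Odd.of_dvd_nat hχ (degree_div_amb hAG An χ ω h2).1
          obtain ⟨ν₁, hν₁⟩ := lin_of_odd hLA LnA hk ν ω hi h6
          rw [hν₁] at hi h2 h3
          rw [res_lin] at hi h3
          have h7 : rs hLA ν₁ = ν := eq_of_inner hi
          have h8 : rs hSA ν₁ = rs hSQ f := eq_of_inner h3
          have hν₁r : RealH ν₁ := by
            intro a
            obtain ⟨l, hl, y, hy, hal⟩ := hform a a.2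
            have hyA : y ∈ A := by
              have h9 : y = l⁻¹ * a := by
                rw [hal]
                group
              rw [h9]
              exact A.mul_mem (A.inv_mem (hLA hl)) a.2
            have h9 : a = ⟨l, hLA hl⟩ * ⟨y, hyA⟩ := Subtype.ext hal
            rw [h9, map_mul, mul_mul_mul_comm]
            have h10 : ν₁ ⟨l, hLA hl⟩ = ν ⟨l, hl⟩ := by
              rw [← h7]
              rfl
            have h11 : ν₁ ⟨y, hyA⟩ = f ⟨y, hy⟩ := by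
              have h12 : rs hSA ν₁ ⟨y, ⟨hyA, hy⟩⟩ = rs hSQ f ⟨y, ⟨hyA, hy⟩⟩ := by
                rw [h8]
              exact h12
            rw [h10, h11, D.real, hR, mul_one]
          obtain ⟨ν₂, h12, h13, -, h15⟩ :=
            const_two hLA hAG An D.Ln hQG D.two hk hinv χ hχ hov
          obtain ⟨g, hg, hgc⟩ := amb_conj hAG An χ (lin_irr ν₂) (lin_irr ν₁) h15 h2
          have hν₂r : RealH ν₂ := by
            intro a
            let a₀ : A := ⟨g⁻¹ * a * g, by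
              have := An g⁻¹ (G.inv_mem hg) a a.2
              simpa using this⟩
            have h16 := hgc a₀ a (by
              show (a : Γ) = g * (g⁻¹ * a * g) * g⁻¹
              group)
            have h17 : ν₂ a = ν₁ a₀ := Units.ext h16
            rw [h17]
            exact hν₁r a₀
          let E := setup_inertia D hLA hAP An ν₂ hν₂r h13
          have hTG : inertia G A (lin ν₂) An ≤ G := fun g hg => hg.1
          have hAT : A ≤ inertia G A (lin ν₂) An := E.LP.trans E.PG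
          obtain ⟨ζ, z1, z2⟩ := relCl_B (relD hAG An ν₂) χ h15
          have z3 := relCl_deg (relD hAG An ν₂) ζ z1 χ z2
          have z4 : Odd (charDegree (ζ : ↥(inertia G A (lin ν₂) An) → ℂ)) := by
            rw [z3] at hχ
            exact (Nat.odd_mul.mp hχ).2
          have z5 := IH _ (lt_of_le_of_lt (idx_le hAT hTG) hlt) _ A Q P ν₂ E (solv_le hTG hs) rfl
            (fun m hm => hN m (hTG hm)) hR ζ z4 z1
          exact real_up (relD hAG An ν₂) χ ζ z5 z1 z2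
    · -- not invariant
      have hTG : inertia G L (lin ν) D.Ln ≤ G := fun g hg => hg.1
      have hLT : L ≤ inertia G L (lin ν) D.Ln := (relD hLG D.Ln ν).LT
      have hne : ¬ G ≤ inertia G L (lin ν) D.Ln := by
        intro hle
        apply hinv
        intro g hg l l' h
        apply Units.ext
        exact (hle hg).2 l l' h
      let E := setup_inertia (A := L) D le_rfl D.LP D.Ln ν D.real D.inv
      obtain ⟨ζ, z1, z2⟩ := relCl_B (relD hLG D.Ln ν) χ hov
      have z3 := relCl_deg (relD hLG D.Ln ν) ζ z1 χ z2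
      have z4 : Odd (charDegree (ζ : ↥(inertia G L (lin ν) D.Ln) → ℂ)) := by
        rw [z3] at hχ
        exact (Nat.odd_mul.mp hχ).2
      have z5 := IH _ (hn ▸ idx_lt hLT hTG hne) _ L Q P ν E (solv_le hTG hs) rfl
        (fun m hm => hN m (hTG hm)) hR ζ z4 z1
      exact real_up (relD hLG D.Ln ν) χ ζ z5 z1 z2

end Cfsg.Agent.Lib.SolRo
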