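import Mathlib
import Cfsg.Agent.Lib.SolRoF

/-!
# Real characters of odd degree: the final statements
-/

set_option autoImplicit false
set_option linter.unusedVariables false
set_option linter.unusedSectionVars false
set_option linter.style.haveILetI false

namespace Cfsg.Agent.Lib.SolRo

open Cfsg Cfsg.Agent.Lib.CharBasic Cfsg.Agent.Lib.CharInd Cfsg.Agent.Lib.CharInduction
open Cfsg.Agent.Lib.Clifford Cfsg.Agent.Lib.CharClifford Cfsg.Agent.Lib.IsaCliff
open Cfsg.Agent.Lib.CharKernel Cfsg.Agent.Lib.RealChars Cfsg.Agent.Lib.GlaubCorr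
open Cfsg.Agent.Lib.CharAut Cfsg.Agent.Lib.CoprimeInv
open scoped ComplexConjugate

universe u

/-- Irreducible characters under an isomorphism. -/
noncomputable def irrEqv {A B : Type*} [Group A] [Group B] (e : A ≃* B) : IrrCharacter A ≃ IrrCharacter B where
  toFun χ := ⟨χ.1 ∘ e.symm, isIrrCharacter_comp_of_surjective e.symm.toMonoidHom e.symm.surjective χ.2⟩
  invFun ψ := ⟨ψ.1 ∘ e, isIrrCharacter_comp_of_surjective e.toMonoidHom e.surjective ψ.2⟩
  left_inv χ := by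
    apply Subtype.ext
    funext g
    simp
  right_inv ψ := by
    apply Subtype.ext
    funext g
    simp

/-- Two surjections with the same fibres. -/
theorem card_of_common {A B C : Type*} (φ : C → A) (ψ : C → B) (hφ : Function.Surjective φ)
    (hψ : Function.Surjective ψ) (h : ∀ c c', φ c = φ c' ↔ ψ c = ψ c') : Nat.card A = Nat.card B := by
  refine Nat.card_congr (Equiv.ofBijective (fun a => ψ (Function.surjInv hφ a)) ⟨?_, ?_⟩)
  · intro a a' haa
    have h1 := (h _ _).mpr haa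
    rwa [Function.surjInv_eq hφ, Function.surjInv_eq hφ] at h1
  · intro b
    obtain ⟨c, rfl⟩ := hψ b
    refine ⟨φ c, ?_⟩
    apply (h _ _).mp
    rw [Function.surjInv_eq hφ]

variable {Γ : Type u} [Group Γ] [Finite Γ] [fX : ∀ X : Subgroup Γ, Fintype X]

theorem over_bot {X : Subgroup Γ} (χ : IrrCharacter X) :
    Over (bot_le : (⊥ : Subgroup Γ) ≤ X) (χ : X → ℂ) 1 := by
  unfold Over classInner
  have h1 : (Nat.card (⊥ : Subgroup Γ) : ℂ) = 1 := by
    simp
  rw [h1, Fintype.sum_eq_single (1 : (⊥ : Subgroup Γ)) (fun x hx => absurd (Subsingleton.elim _ _) hx)]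
  have h2 := Cfsg.Agent.Lib.Clifford.irr_degree_ne_zero χ.2
  have h3 : res (bot_le : (⊥ : Subgroup Γ) ≤ X) (χ : X → ℂ) 1 = (χ : X → ℂ) 1 := rfl
  have h4 : lin (1 : (⊥ : Subgroup Γ) →* ℂˣ) 1 = 1 := by
    simp [lin]
  rw [h3, h4]
  simpa using h2

theorem setup_bot {X Q : Subgroup Γ} (hQX : Q ≤ X) (h2 : IsPGroup 2 Q) (hodd : Odd (Q.relIndex X)) :
    Setup X ⊥ Q Q (1 : (⊥ : Subgroup Γ) →* ℂˣ) where
  LP := bot_le
  QP := le_rfl
  PG := hQX
  form := fun x hx => ⟨1, Subgroup.one_mem _, x, hx, by simp⟩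
  Ln := fun g hg l hl => by
    rw [Subgroup.mem_bot] at hl ⊢
    rw [hl]
    simp
  two := h2
  oddI := hodd
  real := fun x => by simp
  inv := fun _ _ _ _ _ => rfl

theorem rs_bot {Q : Subgroup Γ} (f : Q →* ℂˣ) (h : (⊥ : Subgroup Γ) ≤ Q) : rs h f = 1 := by
  ext x
  have h1 : x = 1 := Subsingleton.elim _ _
  rw [h1, map_one]
  rfl

/-- **The parametrization.** -/
theorem param {P₀ X : Subgroup Γ} (hPX : P₀ ≤ X)
    (hnX : ∀ n, (∀ x, n * x * n⁻¹ ∈ P₀ ↔ x ∈ P₀) → n ∈ X) (h2 : IsPGroup 2 P₀)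
    (hodd : Odd (P₀.relIndex X)) (hs : Group.IsSolvable X) :
    ∃ φ : {f : P₀ →* ℂˣ // RealH f} → {χ : IrrCharacter X // RO (χ : X → ℂ)},
      Function.Surjective φ ∧ ∀ f f', φ f = φ f' ↔ ∃ n, (∀ x, n * x * n⁻¹ ∈ P₀ ↔ x ∈ P₀) ∧
        ∀ x x' : P₀, (x' : Γ) = n * x * n⁻¹ → f'.1 x' = f.1 x := by
  have D := setup_bot hPX h2 hodd
  have C := main_conc _ X ⊥ P₀ P₀ 1 D hs rfl
  have hb : ∀ f : {f : P₀ →* ℂˣ // RealH f}, ∃ χ : {χ : IrrCharacter X // RO (χ : X → ℂ)},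
      Over hPX ((χ : IrrCharacter X) : X → ℂ) f.1 := fun f => by
    obtain ⟨χ, h1, h2⟩ := C.b f.1 (rs_bot _ _) f.2
    exact ⟨⟨χ, h1⟩, h2⟩
  choose φ hφ using hb
  refine ⟨φ, ?_, ?_⟩
  · rintro ⟨χ, hχ⟩
    obtain ⟨f, hf, hov⟩ := C.a χ hχ (over_bot χ)
    have hr := C.e χ hχ f hf hov
    refine ⟨⟨f, hr⟩, ?_⟩
    apply Subtype.ext
    exact C.c _ _ (φ _).2 hχ f hf (hφ _) hov
  · intro f f'
    constructor
    · intro h
      have h1 := hφ f
      have h2 := hφ f'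
      rw [h] at h1
      obtain ⟨n, hn, hnQ, -, hC⟩ := C.d (φ f').1 (φ f').2 f.1 f'.1 (rs_bot _ _) (rs_bot _ _) h1 h2
      exact ⟨n, hnQ, hC⟩
    · rintro ⟨n, hn, hC⟩
      have hnX' := hnX n hn
      have h1 := over_cjh hPX (φ f).1 hnX' hn (hφ f)
      have h2 : cjh n hn f.1 = f'.1 := by
        ext x
        have hx₀ : n⁻¹ * x * n ∈ P₀ := by
          apply (hn _).mp
          have : n * (n⁻¹ * x * n) * n⁻¹ = x := by group
          rw [this]
          exact x.2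
        have h3 : (x : Γ) = n * (n⁻¹ * x * n) * n⁻¹ := by group
        have h4 := cjh_apply n hn f.1 ⟨_, hx₀⟩ x h3
        have h5 := hC ⟨_, hx₀⟩ x h3
        rw [h4, h5]
      rw [h2] at h1
      apply Subtype.ext
      exact C.c _ _ (φ f).2 (φ f').2 f'.1 (rs_bot _ _) h1 (hφ f')

/-- **The count.** -/
theorem part1 {P₀ : Subgroup Γ} (h2 : IsPGroup 2 P₀) (hodd : Odd P₀.index) (hs : Group.IsSolvable Γ) :
    Nat.card {χ : IrrCharacter (⊤ : Subgroup Γ) // RO (χ : (⊤ : Subgroup Γ) → ℂ)} =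
      Nat.card {χ : IrrCharacter (Subgroup.normalizer (P₀ : Set Γ)) //
        RO (χ : (Subgroup.normalizer (P₀ : Set Γ)) → ℂ)} := by
  have hsX : ∀ X : Subgroup Γ, Group.IsSolvable X := fun X =>
    Group.isSolvable_of_isSolvable_injective (Subgroup.subtype_injective X)
  have hnorm : ∀ n, (∀ x, n * x * n⁻¹ ∈ P₀ ↔ x ∈ P₀) → n ∈ Subgroup.normalizer (P₀ : Set Γ) := by
    intro n hn
    rw [Subgroup.mem_normalizer_iff]
    intro h
    exact (hn h).symm
  have hodd₁ : Odd (P₀.relIndex ⊤) := by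
    rwa [Subgroup.relIndex_top_right]
  have hodd₂ : Odd (P₀.relIndex (Subgroup.normalizer (P₀ : Set Γ))) := by
    have h1 := Subgroup.relIndex_mul_relIndex P₀ (Subgroup.normalizer (P₀ : Set Γ)) ⊤
      Subgroup.le_normalizer le_top
    rw [← h1] at hodd₁
    exact (Nat.odd_mul.mp hodd₁).1
  obtain ⟨φ, hφ, hφ'⟩ := param (X := ⊤) le_top (fun n _ => Subgroup.mem_top n) h2 hodd₁ (hsX _)
  obtain ⟨ψ, hψ, hψ'⟩ := param (X := Subgroup.normalizer (P₀ : Set Γ)) Subgroup.le_normalizer hnorm h2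
    hodd₂ (hsX _)
  exact card_of_common φ ψ hφ hψ (fun c c' => (hφ' c c').trans (hψ' c c').symm)

/-- **All characters of odd degree are real iff ...** -/
theorem part2 {P₀ : Subgroup Γ} (h2 : IsPGroup 2 P₀) (hodd : Odd P₀.index) (hs : Group.IsSolvable Γ) :
    (∀ χ : IrrCharacter (⊤ : Subgroup Γ), Odd (charDegree (χ : (⊤ : Subgroup Γ) → ℂ)) →
      ∀ g, conj ((χ : (⊤ : Subgroup Γ) → ℂ) g) = (χ : (⊤ : Subgroup Γ) → ℂ) g) ↔
    (commutator P₀ = frattini P₀ ∧ Subgroup.normalizer (P₀ : Set Γ) = P₀) := by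
  haveI : Fact (Nat.Prime 2) := ⟨Nat.prime_two⟩
  have hsT : Group.IsSolvable (⊤ : Subgroup Γ) :=
    Group.isSolvable_of_isSolvable_injective (Subgroup.subtype_injective _)
  have hodd₁ : Odd (P₀.relIndex ⊤) := by
    rwa [Subgroup.relIndex_top_right]
  have D := setup_bot (le_top : P₀ ≤ ⊤) h2 hodd₁
  have hP : IsPGroup 2 P₀ := h2
  constructor
  · intro hreal
    have C := main_conc _ ⊤ ⊥ P₀ P₀ 1 D hsT rfl
    have hR : ∀ f : P₀ →* ℂˣ, RealH f := by
      intro f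
      obtain ⟨χ, hχ, hov⟩ := odd_over (le_top : P₀ ≤ ⊤) hodd₁ f
      exact C.e χ ⟨hreal χ hχ, hχ⟩ f (rs_bot _ _) hov
    constructor
    · apply le_antisymm (Cfsg.Agent.Lib.Frat.commutator_le_frattini hP)
      refine Cfsg.Agent.Lib.Frat.frattini_le_of_commutator_pow (p := 2) _ le_rfl ?_
      intro x
      by_contra hx
      have h1 : Abelianization.of (x ^ 2) ≠ 1 := by
        intro h3
        apply hx
        rw [← Abelianization.ker_of]
        exact h3
      obtain ⟨γ, hγ⟩ := Cfsg.Agent.Lib.CharTwist.exists_hom_ne_one h1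
      apply hγ
      have h3 := hR (γ.comp Abelianization.of) x
      show (γ.comp Abelianization.of) (x ^ 2) = 1
      rw [map_pow, pow_two]
      exact h3
    · apply le_antisymm _ Subgroup.le_normalizer
      intro n hn
      rw [Subgroup.mem_normalizer_iff] at hn
      obtain ⟨l, hl, y, hy, rfl⟩ := norm_of_real _ ⊤ ⊥ P₀ bot_le le_top D.Ln h2 hodd₁ hsT rfl
        (fun χ hχ _ => hreal χ hχ) n (Subgroup.mem_top n) (fun x => (hn x).symm)
      rw [Subgroup.mem_bot] at hl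
      rw [hl, one_mul]
      exact hy
  · rintro ⟨hc, hn⟩ χ hχ
    have hR : ∀ f : P₀ →* ℂˣ, RealH f := by
      intro f x
      have h3 := Cfsg.Agent.Lib.Frat.pow_mem_frattini hP x
      rw [← hc] at h3
      have h4 := Abelianization.commutator_subset_ker f h3
      rw [MonoidHom.mem_ker, map_pow, pow_two] at h4
      exact h4
    refine real_of_norm _ ⊤ ⊥ P₀ P₀ 1 D hsT rfl ?_ hR χ hχ (over_bot χ)
    intro m _ hm
    rw [← hn, Subgroup.mem_normalizer_iff]
    intro h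
    exact (hm h).symm

end Cfsg.Agent.Lib.SolRo
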