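import Mathlib
import Cfsg.Prelude.Def_GeometricClasses
import Cfsg.Agent.Lib.SympT
import Cfsg.Agent.Lib.SympDecomp

/-!
# Sp_2m(q): totally singular subspaces and orthogonal decompositions, any m (copied from the m ≥ 7 proofs, where m ≥ 7 is not used)
-/

set_option autoImplicit false
set_option linter.unusedSectionVars false
set_option linter.unusedVariables false
open Cfsg

namespace Cfsg.Agent.Lib.Sp4E97A

open Matrix Cfsg.Geo Cfsg.Agent.Lib.TvGL Cfsg.Agent.Lib.SympT Cfsg.Agent.Lib.SympForm
  Cfsg.Agent.Lib.SympDecomp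

local notation:70 g:71 " ⋆ " x:70 => Matrix.mulVec (Units.val g) x

theorem ts_max {F : Type*} [Field F] [Fintype F] (m : ℕ) (W : Submodule F (Fin m ⊕ Fin m → F)) (hW0 : W ≠ ⊥) (hW : Cfsg.Geo.IsTotallySingularFor (Cfsg.sympForm m F) W) : Cfsg.Geo.IsMaximalIn (Cfsg.spGL m F) (Cfsg.Geo.subspaceStabilizer W ⊓ Cfsg.spGL m F) := by
  have hS := sympForm_isSymplectic (m := m) (F := F)
  have hbil := hS.bilinear
  have hperpW : W ≤ perp hS W := fun w hw => (mem_perp hS).2 (fun w' hw' => hW w' hw' w hw)
  have hperp_ne : ∀ x, x ∉ perp hS W → ∃ w ∈ W, sympForm m F w x ≠ 0 := by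
    intro x hx
    by_contra hcon
    push Not at hcon
    exact hx ((mem_perp hS).2 hcon)
  -- transvections with centre in the orthogonal lie in the stabiliser
  have hperpH : ∀ a ∈ perp hS W, ∀ c, tvS hS a c ∈ subspaceStabilizer W ⊓ spGL m F := by
    intro a ha c
    refine ⟨mem_stab_of_map_le W _ ?_, tvS_pres hS a c⟩
    intro w hw
    rw [tvS_apply, (mem_perp hS).1 ha w hw]
    simpa using hw
  refine ⟨lt_of_le_of_ne inf_le_right ?_, ?_⟩
  · -- properness
    intro he
    obtain ⟨w, hw, hw0⟩ := Submodule.exists_mem_ne_zero_of_ne_bot hW0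
    obtain ⟨v, hv⟩ := exists_sympForm_ne_zero hw0
    have hvW : v ∉ W := fun hvW => hv (hW w hw v hvW)
    have : tvS hS v 1 ∈ subspaceStabilizer W ⊓ spGL m F := by
      rw [he]
      exact tvS_pres hS v 1
    exact tvS_not_stab hS hvW hw hv this.1
  · intro M hHM hMS
    by_cases hne : M = subspaceStabilizer W ⊓ spGL m F
    · exact Or.inl hne
    · right
      obtain ⟨g, hgM, hgH⟩ : ∃ g ∈ M, g ∉ subspaceStabilizer W ⊓ spGL m F := by
        by_contra hcon
        push Not at hcon
        exact hne (le_antisymm hcon hHM)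
      have hgS : g ∉ subspaceStabilizer W := fun h => hgH ⟨h, hMS hgM⟩
      have hMpres : ∀ k ∈ M, k ∈ preserving (glToMat (Fin m ⊕ Fin m) F) (sympForm m F) :=
        fun k hk => hMS hk
      have hT1 : ∀ a ∈ perp hS W, a ∈ TS hS M := fun a ha c => hHM (hperpH a ha c)
      -- a centre outside the orthogonal
      have hout : ∃ v ∈ TS hS M, v ∉ perp hS W := by
        by_contra hcon
        push Not at hcon
        obtain ⟨w₀, hw₀, hu⟩ : ∃ w ∈ W, (g ⋆ w) ∉ W := by
          by_contra h
          push Not at h
          exact hgS (mem_stab_of_map_le W g h)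
        have hginv : g⁻¹ ∉ subspaceStabilizer W := fun h => hgS (by
          have := Subgroup.inv_mem _ h
          simpa using this)
        obtain ⟨w₁, hw₁, hy⟩ : ∃ w ∈ W, (g⁻¹ ⋆ w) ∉ W := by
          by_contra h
          push Not at h
          exact hginv (mem_stab_of_map_le W _ h)
        set u := g ⋆ w₀ with hudef
        set y := g⁻¹ ⋆ w₁ with hydef
        have hut : u ∈ perp hS W := hcon _ (TS_conj hS hgM (hMS hgM) (hT1 _ (hperpW hw₀)))
        have hyt : y ∈ perp hS W := hcon _ (TS_conj hS (M.inv_mem hgM) (hMpres _ (M.inv_mem hgM))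
          (hT1 _ (hperpW hw₁)))
        obtain ⟨a₁, ha₁, h1⟩ := exists_perp_of_notMem hS hu
        obtain ⟨a₂, ha₂, h2⟩ := exists_perp_of_notMem hS hy
        obtain ⟨a, ha, h3, h4⟩ := exists_two hS (perp hS W) ⟨a₁, ha₁, h1⟩ ⟨a₂, ha₂, h2⟩
        -- the element `g h g`
        have hkey : ∀ c : F, sympForm m F y u + c * sympForm m F u a * sympForm m F y a = 0 := by
          intro c
          have hk : g * tvS hS a c * g ∈ M := M.mul_mem (M.mul_mem hgM (hHM (hperpH a ha c))) hgM
          have h5 := hcon _ (TS_conj hS hk (hMS hk) (hT1 _ (hperpW hw₀)))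
          have h6 := (mem_perp hS).1 h5 w₁ hw₁
          rw [mulVec_mul_GL, mulVec_mul_GL] at h6
          have h7 : sympForm m F w₁ (g ⋆ (tvS hS a c ⋆ u)) = sympForm m F y (tvS hS a c ⋆ u) := by
            have := hMpres g hgM y (tvS hS a c ⋆ u)
            rw [← this]
            show sympForm m F w₁ _ = sympForm m F (g ⋆ (g⁻¹ ⋆ w₁)) _
            rw [mulVec_inv_GL]
            rfl
          rw [h7, tvS_apply, hbil.add_right, hbil.smul_right] at h6
          rw [← h6]
        have h8 := hkey 0
        simp only [zero_mul, add_zero] at h8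
        have h9 := hkey 1
        rw [h8] at h9
        simp only [zero_add, one_mul] at h9
        exact (mul_ne_zero h3 h4) h9
      obtain ⟨v, hvT, hvp⟩ := hout
      -- everything is a centre
      have hall : ∀ x, x ∈ TS hS M := by
        intro x
        by_cases hx : x ∈ perp hS W
        · exact hT1 x hx
        · obtain ⟨w, hw, h1⟩ := hperp_ne v hvp
          obtain ⟨w', hw', h2⟩ := hperp_ne x hx
          obtain ⟨a, haW, h3, h4⟩ : ∃ a ∈ W, sympForm m F a v ≠ 0 ∧ sympForm m F a x ≠ 0 := by
            have hv' : ∃ z ∈ W, sympForm m F v z ≠ 0 := ⟨w, hw, by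
              rw [hS.skew]
              simpa using h1⟩
            have hx' : ∃ z ∈ W, sympForm m F x z ≠ 0 := ⟨w', hw', by
              rw [hS.skew]
              simpa using h2⟩
            obtain ⟨z, hz, h5, h6⟩ := exists_two hS W hv' hx'
            refine ⟨z, hz, ?_, ?_⟩
            · rw [hS.skew]
              simpa using h5
            · rw [hS.skew]
              simpa using h6
          set l := sympForm m F a v / sympForm m F a x with hl
          have hl0 : l ≠ 0 := div_ne_zero h3 h4
          set x' := l • x with hx'def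
          set b := x' - v with hbdef
          have hab : sympForm m F a b = 0 := by
            rw [hbdef, f_sub_right hbil, hx'def, hbil.smul_right, hl]
            field_simp
            ring
          have hva : sympForm m F v a ≠ 0 := by
            rw [hS.skew]
            simpa using h3
          set c := (sympForm m F v a)⁻¹ with hc
          have hsg : sg hS a b c ∈ M := by
            refine hHM ⟨mem_stab_of_map_le W _ ?_, sg_pres hS a b c⟩
            intro z hz
            rw [sg_apply hS hab, hW z hz a haW]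
            simpa using W.add_mem hz (W.smul_mem _ haW)
          have hv' := TS_conj hS hsg (hMS hsg) hvT
          rw [sg_apply hS hab, hc, inv_mul_cancel₀ hva, one_smul, hbdef, add_sub_cancel] at hv'
          have haT : a ∈ TS hS M := hT1 a (hperpW haW)
          set κ := (sympForm m F v a)⁻¹ * sympForm m F v (x' - v) with hκ
          have hfa : sympForm m F (x' + κ • a) a ≠ 0 := by
            rw [hbil.add_left, hbil.smul_left κ a a, hS.alternating, mul_zero, add_zero, hS.skew,
              hx'def, hbil.smul_right, hl]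
            have : sympForm m F a v / sympForm m F a x * sympForm m F a x = sympForm m F a v := by
              field_simp
            rw [this]
            simpa using h3
          have h7 := TS_step hS hv' haT hfa (-κ)
          have h8 : x' + κ • a + (-κ) • a = x' := by
            rw [add_assoc, ← add_smul, add_neg_cancel, zero_smul, add_zero]
          rw [h8] at h7
          have h9 := TS_smul hS h7 l⁻¹
          rw [hx'def, smul_smul, inv_mul_cancel₀ hl0, one_smul] at h9
          exact h9
      exact le_antisymm hMS (spGL_le M (fun v c => hall v c))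


theorem dec_max {F : Type*} [Field F] [Fintype F] (m : ℕ) {t : ℕ} (k : ℕ) (D : Fin t → Submodule F (Fin m ⊕ Fin m → F)) (hD : Cfsg.Geo.IsNondegenerateMDecomposition (Cfsg.sympForm m F) k D) (hex : ¬ (k = 2 ∧ Fintype.card F = 2)) : Cfsg.Geo.IsMaximalIn (Cfsg.spGL m F) (Cfsg.Geo.decompositionStabilizer D ⊓ Cfsg.spGL m F) := by
  classical
  have hS := sympForm_isSymplectic (m := m) (F := F)
  have hbil := hS.bilinear
  have h2t : 2 ≤ t := hD.decomp.two_le
  have hfin : ∀ i, Module.finrank F (D i) = k := hD.decomp.finrank_eq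
  have hk : 0 < k := hD.decomp.pos
  have htop : iSup D = ⊤ := hD.decomp.iSup_eq_top
  have horth : ∀ i j, i ≠ j → ∀ u ∈ D i, ∀ v ∈ D j, sympForm m F u v = 0 := hD.orthogonal
  have hnd : ∀ i, ∀ a ∈ D i, a ≠ 0 → ∃ z ∈ D i, sympForm m F a z ≠ 0 :=
    fun i a ha h0 => (hD.nondegenerate i a ha h0).2
  have hnd' : ∀ i, ∀ a ∈ D i, a ≠ 0 → ∃ z ∈ D i, sympForm m F z a ≠ 0 :=
    fun i a ha h0 => (hD.nondegenerate i a ha h0).1
  have hne : ∀ i, ∃ z ∈ D i, z ≠ 0 := by
    intro i
    apply Submodule.exists_mem_ne_zero_of_ne_bot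
    intro h0
    have := hfin i
    rw [h0, finrank_bot] at this
    omega
  have hDH : ∀ i, ∀ a ∈ D i, ∀ c, tvS hS a c ∈ decompositionStabilizer D ⊓ spGL m F := by
    intro i a ha c
    refine ⟨decomp_of_maps hfin _ 1 ?_, tvS_pres hS a c⟩
    intro j x hx
    rw [tvS_apply]
    by_cases hji : j = i
    · subst hji
      exact (D j).add_mem hx ((D j).smul_mem _ ha)
    · rw [horth j i hji x hx a ha]
      simpa using hx
  have hb : ∀ i, ∀ a ∈ D i, a ≠ 0 → ∃ b ∈ D i, sympForm m F a b = 0 ∧ b ≠ 0 ∧ b ≠ a := by
    intro i a ha h0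
    by_cases hl : ∃ l : F, l ≠ 0 ∧ l ≠ 1
    · obtain ⟨l, hl0, hl1⟩ := hl
      refine ⟨l • a, (D i).smul_mem _ ha, ?_, smul_ne_zero hl0 h0, ?_⟩
      · rw [hbil.smul_right, hS.alternating, mul_zero]
      · intro h1
        apply hl1
        have h2 : (l - 1) • a = 0 := by
          rw [sub_smul, one_smul, h1, sub_self]
        rcases smul_eq_zero.mp h2 with h3 | h3
        · exact sub_eq_zero.mp h3
        · exact absurd h3 h0
    · push Not at hl
      have hcard : Fintype.card F = 2 := by
        apply le_antisymm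
        · have hsub : (Finset.univ : Finset F) ⊆ {0, 1} := by
            intro l _
            by_cases hl0 : l = 0
            · simp [hl0]
            · simp [hl l hl0]
          have := Finset.card_le_card hsub
          rw [Finset.card_univ] at this
          exact this.trans (Finset.card_le_two)
        · exact Fintype.one_lt_card
      have hk2 : k ≠ 2 := fun h => hex ⟨h, hcard⟩
      set a' : ↥(D i) := ⟨a, ha⟩ with ha'
      have ha'0 : a' ≠ 0 := fun h => h0 (congrArg Subtype.val h)
      have hk1 : k ≠ 1 := by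
        intro h1
        have h2 : Module.finrank F ↥(D i) = 1 := (hfin i).trans h1
        rw [finrank_eq_one_iff_of_nonzero' a' ha'0] at h2
        obtain ⟨z, hz, hfz⟩ := hnd i a ha h0
        obtain ⟨c, hc⟩ := h2 ⟨z, hz⟩
        have h3 : c • a = z := congrArg Subtype.val hc
        apply hfz
        rw [← h3, hbil.smul_right, hS.alternating, mul_zero]
      have hk3 : 3 ≤ k := by omega
      let φ : ↥(D i) →ₗ[F] F := ((Bf hbil) a).comp (D i).subtype
      have hrn := LinearMap.finrank_range_add_finrank_ker φ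
      have hr1 : Module.finrank F (LinearMap.range φ) ≤ 1 := by
        have := Submodule.finrank_le (LinearMap.range φ)
        rwa [Module.finrank_self] at this
      have hnot : ¬ LinearMap.ker φ ≤ Submodule.span F {a'} := by
        intro hle
        have h3 := Submodule.finrank_mono hle
        rw [finrank_span_singleton ha'0] at h3
        rw [hfin] at hrn
        omega
      obtain ⟨y, hy, hy2⟩ := SetLike.not_le_iff_exists.mp hnot
      refine ⟨y.1, y.2, hy, ?_, ?_⟩
      · intro h3
        apply hy2
        have : y = 0 := Subtype.ext h3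
        rw [this]
        exact Submodule.zero_mem _
      · intro h3
        apply hy2
        have : y = a' := Subtype.ext h3
        rw [this]
        exact Submodule.mem_span_singleton_self a'
  refine ⟨lt_of_le_of_ne inf_le_right ?_, ?_⟩
  · -- properness
    intro he
    let i₀ : Fin t := ⟨0, by omega⟩
    let i₁ : Fin t := ⟨1, by omega⟩
    have h01 : i₀ ≠ i₁ := by
      intro h
      have := congrArg Fin.val h
      simp [i₀, i₁] at this
    obtain ⟨w₁, hw₁, hw₁0⟩ := hne i₀
    obtain ⟨w₂, hw₂, hw₂0⟩ := hne i₁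
    have hmem : tvS hS (w₁ + w₂) 1 ∈ decompositionStabilizer D ⊓ spGL m F := by
      rw [he]
      exact tvS_pres hS _ 1
    obtain ⟨σ, hσ⟩ := hmem.1
    obtain ⟨x, hx, hfx⟩ := hnd' i₀ w₁ hw₁ hw₁0
    have hy : tvS hS (w₁ + w₂) 1 ⋆ x ∈ D (σ i₀) := by
      rw [← hσ i₀]
      exact ⟨x, hx, rfl⟩
    have hc : sympForm m F x (w₁ + w₂) = sympForm m F x w₁ := by
      rw [hbil.add_right, horth i₀ i₁ h01 x hx w₂ hw₂, add_zero]
    rw [tvS_apply, one_mul, hc] at hy
    by_cases hj : σ i₀ = i₁
    · have h3 := horth i₁ i₀ (Ne.symm h01) _ (hj ▸ hy) w₁ hw₁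
      rw [hbil.add_left, hbil.smul_left, hbil.add_left, hS.alternating,
        horth i₁ i₀ (Ne.symm h01) w₂ hw₂ w₁ hw₁] at h3
      apply hfx
      simpa using h3
    · obtain ⟨z, hz, hfz⟩ := hnd i₁ w₂ hw₂ hw₂0
      have h3 := horth (σ i₀) i₁ hj _ hy z hz
      rw [hbil.add_left, hbil.smul_left, hbil.add_left, horth i₀ i₁ h01 x hx z hz,
        horth i₀ i₁ h01 w₁ hw₁ z hz] at h3
      simp only [zero_add] at h3
      exact (mul_ne_zero hfx hfz) h3
  · intro M hHM hMS
    by_cases hne' : M = decompositionStabilizer D ⊓ spGL m F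
    · exact Or.inl hne'
    · right
      obtain ⟨g, hgM, hgH⟩ : ∃ g ∈ M, g ∉ decompositionStabilizer D ⊓ spGL m F := by
        by_contra hcon
        push Not at hcon
        exact hne' (le_antisymm hcon hHM)
      have hgS : g ∉ decompositionStabilizer D := fun h => hgH ⟨h, hMS hgM⟩
      have hDT : ∀ i, ∀ a ∈ D i, a ∈ TS hS M := fun i a ha c => hHM (hDH i a ha c)
      have hmix : ∃ x ∈ TS hS M, ∀ j, x ∉ D j := by
        by_contra hcon
        push Not at hcon
        apply hgS
        refine stab_of_cover hS horth hnd hfin hne g ?_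
        intro i w hw
        exact hcon _ (TS_conj hS hgM (hMS hgM) (hDT i w hw))
      have hswap : ∀ p q : Fin t, p ≠ q → ∃ g ∈ M, g ∈ preserving (glToMat (Fin m ⊕ Fin m) F) (sympForm m F) ∧
          ∀ i, ∀ x ∈ D i, g ⋆ x ∈ D (Equiv.swap p q i) := by
        intro p q hpq
        obtain ⟨φ, hφ⟩ := exists_isometry_alt ((Bf hbil).restrict (D p)) ((Bf hbil).restrict (D q))
          (fun x => hS.alternating x.1) (fun x => hS.alternating x.1)
          (fun x hx => by
            obtain ⟨z, hz, hfz⟩ := hnd p x.1 x.2 (fun h => hx (Subtype.ext h))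
            exact ⟨⟨z, hz⟩, hfz⟩)
          (fun x hx => by
            obtain ⟨z, hz, hfz⟩ := hnd q x.1 x.2 (fun h => hx (Subtype.ext h))
            exact ⟨⟨z, hz⟩, hfz⟩)
          ((hfin p).trans (hfin q).symm)
        obtain ⟨g', hg'1, hg'2⟩ := exists_swap hS horth hnd hpq φ hφ
        exact ⟨g', hHM ⟨decomp_of_maps hfin g' _ hg'2, hg'1⟩, hg'1, hg'2⟩
      have hall := core hS horth hnd hDT h2t htop hb hswap hne hmix
      exact le_antisymm hMS (spGL_le M (fun v c => hall v c))


end Cfsg.Agent.Lib.Sp4E97A
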