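import Mathlib
import Cfsg.Agent.Lib.ExtSpE

/-!
# Extension field normalisers in Sp_2m(q), q ≥ 3 (any m ≥ 2): variant of `ExtSpE.main` for the case F ≠ F₂
-/

set_option autoImplicit false
set_option linter.unusedSectionVars false
set_option linter.unusedSimpArgs false
set_option linter.unusedVariables false
set_option linter.style.haveILetI false

namespace Cfsg.Agent.Lib.Sp4E97C

open Module Matrix Cfsg Cfsg.Geo
open Cfsg.Agent.Lib.ExtA Cfsg.Agent.Lib.ExtB Cfsg.Agent.Lib.ExtC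
  Cfsg.Agent.Lib.ExtSpA Cfsg.Agent.Lib.ExtSpB Cfsg.Agent.Lib.ExtSpC Cfsg.Agent.Lib.ExtSpD
  Cfsg.Agent.Lib.ExtSpE
open scoped MatrixGroups

universe u

section main

variable {F : Type u} [Field F] [Fintype F] {m : ℕ} {L : Type u} [Field L] [Algebra F L]
  [Module L (Fin m ⊕ Fin m → F)] [IsScalarTower F L (Fin m ⊕ Fin m → F)] [Module.Finite F L]
  [Module.Finite L (Fin m ⊕ Fin m → F)]
  {K : Subalgebra F (Matrix (Fin m ⊕ Fin m) (Fin m ⊕ Fin m) F)}
  {φ : L →ₐ[F] Matrix (Fin m ⊕ Fin m) (Fin m ⊕ Fin m) F}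

theorem core_Mq (hr : (finrank F L).Prime) (hm2 : 2 ≤ finrank L (Fin m ⊕ Fin m → F))
    (hq : ∃ t0 : F, t0 ≠ 0 ∧ t0 ≠ 1)
    (hinj : Function.Injective φ) (hmem : ∀ k, k ∈ K ↔ ∃ a, φ a = k)
    (hsmul : ∀ (a : L) (v : Fin m ⊕ Fin m → F), a • v = φ a *ᵥ v)
    {h : LinearMap.BilinForm L (Fin m ⊕ Fin m → F)} (H : SpH h) {lam : L →ₗ[F] F} (hlam : lam ≠ 0)
    (hf : ∀ u v, sympForm m F u v = lam (h u v))
    {M : Subgroup (GL (Fin m ⊕ Fin m) F)} (hM1 : subalgebraNormalizer K ⊓ spGL m F ≤ M)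
    (hM2 : M ≤ spGL m F) {y : GL (Fin m ⊕ Fin m) F} (hyM : y ∈ M)
    (hyN : y ∉ subalgebraNormalizer K) : spGL m F ≤ M := by
  let X : Subgroup ((Fin m ⊕ Fin m → F) ≃ₗ[F] (Fin m ⊕ Fin m → F)) :=
    M.comap (Thi (Fin m ⊕ Fin m) F).symm.toMonoidHom
  have hXmem : ∀ e, e ∈ X ↔ (Thi (Fin m ⊕ Fin m) F).symm e ∈ M := fun e => Iff.rfl
  have hX : HS h X := by
    intro g hg
    rw [hXmem]
    apply hM1
    refine Subgroup.mem_inf.mpr ⟨?_, ?_⟩
    · rw [← semi_iff hinj hmem hsmul]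
      simpa using semi_toF (F := F) g
    · intro u v
      have e : ∀ w, (glToMat (Fin m ⊕ Fin m) F ((Thi (Fin m ⊕ Fin m) F).symm (toF (F := F) g))) *ᵥ w =
          g w := by
        intro w
        have := Thi_apply ((Thi (Fin m ⊕ Fin m) F).symm (toF (F := F) g)) w
        rw [MulEquiv.apply_symm_apply, toF_apply] at this
        exact this.symm
      rw [e, e, hf, hf, hg]
  have hiso : ∀ g ∈ X, ∀ u v, lam (h (g u) (g v)) = lam (h u v) := by
    intro g hg u v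
    have h1 := hM2 ((hXmem g).mp hg)
    have h2 := h1 u v
    have e : ∀ w, (glToMat (Fin m ⊕ Fin m) F ((Thi (Fin m ⊕ Fin m) F).symm g)) *ᵥ w = g w := by
      intro w
      have := Thi_apply ((Thi (Fin m ⊕ Fin m) F).symm g) w
      rw [MulEquiv.apply_symm_apply] at this
      exact this.symm
    rw [e, e, hf, hf] at h2
    exact h2
  have hxX : Thi (Fin m ⊕ Fin m) F y ∈ X := by
    rw [hXmem]
    simpa using hyM
  have hS : ¬ Semi (L := L) (Thi (Fin m ⊕ Fin m) F y) :=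
    fun h => hyN ((semi_iff hinj hmem hsmul y).mp h)
  have hcore : ∀ (w : Fin m ⊕ Fin m → F) (c : F), ∃ τ ∈ X, ∀ z, τ z = z + (c * lam (h z w)) • w := by
    exact core_sp1 hr hm2 H hX hlam hiso hxX hS (Or.inl hq)
  apply Cfsg.Agent.Lib.SympT.spGL_le
  intro w c
  obtain ⟨τ, hτ, hτa⟩ := hcore w c
  have e : Cfsg.Agent.Lib.SympT.tvS (Cfsg.Agent.Lib.SympT.sympForm_isSymplectic (m := m) (F := F)) w c =
      (Thi (Fin m ⊕ Fin m) F).symm τ := by
    rw [MulEquiv.eq_symm_apply]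
    ext1 z
    rw [Thi_apply, Cfsg.Agent.Lib.SympT.tvS_apply, hτa, hf]
  rw [e]
  exact (hXmem τ).mp hτ

theorem main_of_moduleq (hr : (finrank F L).Prime) (hm2 : 2 ≤ finrank L (Fin m ⊕ Fin m → F))
    (hq : ∃ t0 : F, t0 ≠ 0 ∧ t0 ≠ 1)
    (hinj : Function.Injective φ) (hmem : ∀ k, k ∈ K ↔ ∃ a, φ a = k)
    (hsmul : ∀ (a : L) (v : Fin m ⊕ Fin m → F), a • v = φ a *ᵥ v)
    (hsa : IsSelfAdjointFor (sympForm m F) K)
    (halt : ∀ k ∈ K, ∀ v : (Fin m ⊕ Fin m → F), sympForm m F (k *ᵥ v) v = 0) :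
    IsMaximalIn (spGL m F) (subalgebraNormalizer K ⊓ spGL m F) := by
  obtain ⟨lam, hlamR⟩ := exists_retr (F := F) (L := L)
  have hl1 : lam 1 = 1 := by simpa using hlamR 1
  have hlam : lam ≠ 0 := by
    rintro rfl
    simp at hl1
  obtain ⟨h, H, hf⟩ := exists_form (V := Fin m ⊕ Fin m → F) (f := sympForm m F) hlam
    Cfsg.Agent.Lib.SympForm.sympForm_add_left Cfsg.Agent.Lib.SympForm.sympForm_smul_left
    Cfsg.Agent.Lib.SympForm.sympForm_add_right
    (fun a u v => by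
      rw [hsmul, hsmul]
      exact hsa (φ a) ((hmem _).mpr ⟨a, rfl⟩) u v)
    (fun a v => by
      rw [hsmul]
      exact halt (φ a) ((hmem _).mpr ⟨a, rfl⟩) v)
    (fun u hu => Cfsg.Agent.Lib.SympForm.exists_sympForm_ne_zero hu)
  refine ⟨?_, ?_⟩
  · rw [SetLike.lt_iff_le_and_exists]
    refine ⟨inf_le_right, ?_⟩
    have : Nontrivial (Fin m ⊕ Fin m → F) := Module.nontrivial_of_finrank_pos (R := L) (by omega)
    obtain ⟨w, hw⟩ := exists_ne (0 : Fin m ⊕ Fin m → F)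
    obtain ⟨z, hz⟩ := exists_frame_sp H hw
    have hs := Cfsg.Agent.Lib.SympT.sympForm_isSymplectic (m := m) (F := F)
    refine ⟨Cfsg.Agent.Lib.SympT.tvS hs w 1, Cfsg.Agent.Lib.SympT.tvS_pres hs w 1, fun h0 => ?_⟩
    have h1 := (semi_iff hinj hmem hsmul _).mpr h0.1
    obtain ⟨θ, hθ⟩ := exists_not_alg (F := F) (L := L) hr
    obtain ⟨θ', hθ'⟩ := h1 θ
    have ea : ∀ x, Thi (Fin m ⊕ Fin m) F (Cfsg.Agent.Lib.SympT.tvS hs w 1) x =
        x + lam (h x w) • w := by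
      intro x
      rw [Thi_apply, Cfsg.Agent.Lib.SympT.tvS_apply, one_mul, hf]
    have e1 := hθ' w
    rw [ea, ea, map_smul, LinearMap.smul_apply, H.alt, smul_zero, map_zero, zero_smul,
      add_zero, add_zero] at e1
    have e2 : θ = θ' := by
      have h4 : (θ - θ') • w = 0 := by rw [sub_smul, e1, sub_self]
      exact sub_eq_zero.mp ((smul_eq_zero.mp h4).resolve_right hw)
    subst e2
    have e3 := hθ' z
    rw [ea, ea, map_smul, LinearMap.smul_apply, hz, smul_eq_mul, mul_one, hl1, one_smul, smul_add] at e3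
    have e4 : lam θ • w = θ • w := add_left_cancel e3
    apply hθ (lam θ)
    have h7 : (algebraMap F L (lam θ) - θ) • w = 0 := by
      rw [sub_smul, algebraMap_smul, e4, sub_self]
    exact sub_eq_zero.mp ((smul_eq_zero.mp h7).resolve_right hw)
  · intro M hM1 hM2
    by_cases hMN : M ≤ subalgebraNormalizer K
    · left
      exact le_antisymm (le_inf hMN hM2) hM1
    · right
      obtain ⟨y, hyM, hyN⟩ := SetLike.not_le_iff_exists.mp hMN
      exact le_antisymm hM2 (core_Mq hr hm2 hq hinj hmem hsmul H hlam hf hM1 hM2 hyM hyN)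

end main

theorem mainq {F : Type u} [Field F] [Fintype F] (m : ℕ) (hm : 2 ≤ m) (hq : ∃ t0 : F, t0 ≠ 0 ∧ t0 ≠ 1) (r : ℕ) (hr : r.Prime)
    (K : Subalgebra F (Matrix (Fin m ⊕ Fin m) (Fin m ⊕ Fin m) F)) (hK : IsFieldSubalgebra r K)
    (hsa : IsSelfAdjointFor (sympForm m F) K)
    (halt : ∀ k ∈ K, ∀ v : (Fin m ⊕ Fin m → F), sympForm m F (k *ᵥ v) v = 0) :
    IsMaximalIn (spGL m F) (subalgebraNormalizer K ⊓ spGL m F) := by
  obtain ⟨L, _, _, φ, hinj, hmem, hfr⟩ := Cfsg.Agent.Lib.FieldModel.exists_model hr.ne_zero hK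
  letI modL : Module L (Fin m ⊕ Fin m → F) :=
    { smul := fun e v => (φ e) *ᵥ v
      one_smul := fun v => by change (φ 1) *ᵥ v = v; simp
      mul_smul := fun a b v => by
        change (φ (a * b)) *ᵥ v = (φ a) *ᵥ ((φ b) *ᵥ v)
        simp [Matrix.mulVec_mulVec]
      smul_zero := fun a => Matrix.mulVec_zero _
      smul_add := fun a v w => Matrix.mulVec_add _ _ _
      add_smul := fun a b v => by
        change (φ (a + b)) *ᵥ v = (φ a) *ᵥ v + (φ b) *ᵥ v
        simp [Matrix.add_mulVec]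
      zero_smul := fun v => by
        change (φ 0) *ᵥ v = 0
        simp }
  have hsmul : ∀ (a : L) (v : Fin m ⊕ Fin m → F), a • v = φ a *ᵥ v := fun _ _ => rfl
  haveI tower : IsScalarTower F L (Fin m ⊕ Fin m → F) := ⟨fun c e v => by
    rw [hsmul, hsmul, map_smul, Matrix.smul_mulVec]⟩
  haveI : Module.Finite F L := Module.finite_of_finrank_pos (by rw [hfr]; exact hr.pos)
  haveI : Module.Finite L (Fin m ⊕ Fin m → F) :=
    Module.Finite.of_restrictScalars_finite F L (Fin m ⊕ Fin m → F)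
  have hprod : finrank F L * finrank L (Fin m ⊕ Fin m → F) = m + m := by
    rw [Module.finrank_mul_finrank]
    simp
  rw [hfr] at hprod
  have hm2 : 2 ≤ finrank L (Fin m ⊕ Fin m → F) := by
    by_contra h
    have h1 : finrank L (Fin m ⊕ Fin m → F) = 0 ∨ finrank L (Fin m ⊕ Fin m → F) = 1 := by omega
    rcases h1 with h1 | h1
    · rw [h1] at hprod
      omega
    · rw [h1, mul_one] at hprod
      have h2 : 2 ∣ r := ⟨m, by omega⟩
      have h3 := (Nat.prime_dvd_prime_iff_eq Nat.prime_two hr).mp h2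
      omega
  exact main_of_moduleq (by rw [hfr]; exact hr) hm2 hq hinj hmem hsmul hsa halt

end Cfsg.Agent.Lib.Sp4E97C
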