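-- Shared library: data for Sp6(2): labels of a central extension by a group of order two.
import Mathlib
import Cfsg.Agent.Lib.SchurLoop
import Cfsg.Agent.Lib.SchurPackD
import Cfsg.Agent.Lib.Sp62Tab


set_option autoImplicit false
set_option maxRecDepth 100000
set_option linter.all false

namespace Cfsg.Agent.Lib.Sp62Loop

open Cfsg.Agent.Lib.SchurLoop Cfsg.Agent.Lib.SchurPackD

def tU : ℕ := 0x40000040000041001040040040040001041000000040040041001040000041001001001040000001001040040000000000000000040041041041001000040000000041041040040000000040040040040000040000000040000000040000000000040040000000040040000001001000000000040040000000000040040041041041041041001000000000000041001000040000040041001041001001041000000001041040040040040040000041001041001000000040000001001041001000000000000040000041001040040000040040040000000001041000040001001001041040040041001000000040040040000040040040000041041000000000000040000040000040000040000000040040000041001041001040000000000040000000000000000001001041041041001040000041001040000040040000040000040001001041001000000000000001001041001000000040000041041000000040040001001040040000000040000040000000000040000041041041001040000040000040000040000040000040000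040000001041041001040040041001040000040000000000041001040040040000040000000000041001000040000000041041000000040040000000040000040040041001040000000000041001040000041001001041000000040000000040040000000000000000000000041001041001041001040000000000000000000000040000040040000000000040000000001001000000041001000000000000000040000000041001000000040000040000000000000000040000000000040000000000000000040000040000000000000040001001000000000000040000000000000000040000041041000000040000040000040000000000000000000000000000040000000000000000040000000000000000000000040000000000000000000000000040000000000000040000040000040000000000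

/-- The relators. -/
def relsL : List (List ℕ) := [[0,0,0,0,0,0,0],
  [2,2,2,2,2,2,2],
  [0,2,0,2,0,2,0,2,0,2],
  [0,0,3,0,0,3,0,0,3,0,0,3],
  [0,2,2,1,3,3,0,2,2,1,3,3],
  [0,0,0,2,1,1,1,2,0,0,0,2,1,1,1,2],
  [0,0,3,0,2,0,3,0,2,1,2,1,1,2,1,3],
  [0,0,0,3,1,3,1,2,2,2,0,3,3,3,0,2,0,2],
  [5,0],
  [7,0,3,0,0,3],
  [4,4,4,4,4,4,4],
  [6,6,6,6,6,6,6],
  [4,6,4,6],
  [4,4,4,7,4,6,6,5,5,5,6,6,4,7],
  [4,4,4,6,5,5,6,5,6,6,5,6,5,6,6,4,4,7]]
/-- Their values. -/
def tvL : List ℕ := [0,0,0,0,1,0,1,0,0,0,0,0,0,0,0]
/-- The relators which give the digits. -/
def basL : List ℕ := [4]

/-- The certificate. -/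
def lcert : LoopC where
  n := 240
  m := 4
  R := 15
  g := 1
  M := 2
  W := 6
  w := 1
  T := Cfsg.Agent.Lib.Sp62Tab.T4
  par := Cfsg.Agent.Lib.Sp62Tab.par4
  rels := fun j => relsL.getD j []
  U := fun e => fld tU 6 63 e
  tv := fun j => tvL.getD j 0
  hm := 62
  genJ := fun i => basL.getD i 0

theorem lcert_ok : lcert.check = true := by decide +kernel

end Cfsg.Agent.Lib.Sp62Loop
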