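-- Shared library: data for Sp6(2): generators, and words for the transvections.
import Mathlib

set_option autoImplicit false
set_option maxRecDepth 100000
set_option linter.all false

namespace Cfsg.Agent.Lib.Sp62Words

/-- The codes of the letters. -/
def lC : List ℕ := [30835025883, 24585453407, 46056167612, 43311032975, 30835025883, 24585453407, 45182891838, 29755229724]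

/-- Words for the transvections. -/
def wordsL : List (List ℕ) := [[], [1, 3, 1, 0, 0, 2, 0, 3, 0, 0, 2, 0, 3, 0, 0, 2, 0, 3, 0, 2, 0], [3, 0, 2, 0, 0, 2, 0, 3, 0, 0, 2, 0, 3, 0, 0, 2, 0, 3, 3, 1, 2], [0, 2, 1, 3, 0, 0, 2, 0, 3, 0, 0, 2, 0, 3, 0, 0, 2, 0, 3, 2, 0, 3, 1], [3, 0, 2, 1, 0, 0, 2, 0, 3, 0, 0, 2, 0, 3, 0, 0, 2, 0, 3, 0, 3, 1, 2], [0, 2, 1, 0, 0, 2, 0, 3, 0, 0, 2, 0, 3, 0, 0, 2, 0, 3, 0, 3, 1], [0, 3, 1, 3, 0, 0, 2, 0, 3, 0, 0, 2, 0, 3, 0, 0, 2, 0, 3, 2, 0, 2, 1], [0, 2, 0, 0, 0, 2, 0, 3, 0, 0, 2, 0, 3, 0, 0, 2, 0, 3, 1, 3, 1], [0, 3, 3, 0, 0, 2, 0, 3, 0, 0, 2, 0, 3, 0, 0, 2, 0, 3, 2, 2, 1], [2, 2, 2, 0, 0, 2, 0, 3, 0, 0, 2, 0, 3, 0, 0,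 2, 0, 3, 3, 3, 3], [3, 3, 1, 0, 0, 2, 0, 3, 0, 0, 2, 0, 3, 0, 0, 2, 0, 3, 0, 2, 2], [2, 0, 3, 0, 0, 0, 2, 0, 3, 0, 0, 2, 0, 3, 0, 0, 2, 0, 3, 1, 2, 1, 3], [0, 2, 2, 0, 0, 0, 2, 0, 3, 0, 0, 2, 0, 3, 0, 0, 2, 0, 3, 1, 3, 3, 1], [2, 2, 2, 1, 0, 0, 2, 0, 3, 0, 0, 2, 0, 3, 0, 0, 2, 0, 3, 0, 3, 3, 3], [3, 1, 3, 0, 0, 2, 0, 3, 0, 0, 2, 0, 3, 0, 0, 2, 0, 3, 2, 0, 2], [2, 0, 0, 2, 0, 0, 2, 0, 3, 0, 0, 2, 0, 3, 0, 0, 2, 0, 3, 3, 1, 1, 3], [1, 3, 1, 2, 0, 0, 2, 0, 3, 0, 0, 2, 0, 3, 0, 0, 2, 0, 3, 3, 0, 2, 0], [3, 1, 3, 1, 0, 0, 2, 0, 3, 0, 0, 2, 0, 3, 0, 0, 2, 0, 3, 0, 2, 0, 2], [3, 0, 0, 2, 0, 3, 0, 0, 2, 0, 3, 0, 0, 2, 0, 3, 2], [3, 1, 0, 0, 2, 0, 3, 0, 0,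 2, 0, 3, 0, 0, 2, 0, 3, 0, 2], [0, 2, 1, 1, 0, 0, 2, 0, 3, 0, 0, 2, 0, 3, 0, 0, 2, 0, 3, 0, 0, 3, 1], [1, 3, 1, 3, 0, 0, 2, 0, 3, 0, 0, 2, 0, 3, 0, 0, 2, 0, 3, 2, 0, 2, 0], [1, 3, 0, 0, 2, 0, 3, 0, 0, 2, 0, 3, 0, 0, 2, 0, 3, 2, 0], [0, 0, 0, 0, 2, 0, 3, 0, 0, 2, 0, 3, 0, 0, 2, 0, 3, 1, 1], [2, 1, 1, 0, 0, 2, 0, 3, 0, 0, 2, 0, 3, 0, 0, 2, 0, 3, 0, 0, 3], [2, 0, 0, 0, 2, 0, 3, 0, 0, 2, 0, 3, 0, 0, 2, 0, 3, 1, 3], [1, 3, 3, 0, 0, 2, 0, 3, 0, 0, 2, 0, 3, 0, 0, 2, 0, 3, 2, 2, 0], [3, 3, 0, 0, 2, 0, 3, 0, 0, 2, 0, 3, 0, 0, 2, 0, 3, 2, 2], [1, 1, 3, 0, 0, 0, 2, 0, 3, 0, 0, 2, 0, 3, 0, 0, 2, 0, 3, 1, 2, 0, 0], [2, 1, 2, 0, 0, 0, 2, 0, 3, 0, 0, 2, 0, 3, 0,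 0, 2, 0, 3, 1, 3, 0, 3], [0, 2, 0, 0, 0, 0, 2, 0, 3, 0, 0, 2, 0, 3, 0, 0, 2, 0, 3, 1, 1, 3, 1], [3, 0, 0, 0, 0, 2, 0, 3, 0, 0, 2, 0, 3, 0, 0, 2, 0, 3, 1, 1, 2], [0, 3, 0, 0, 2, 0, 3, 0, 0, 2, 0, 3, 0, 0, 2, 0, 3, 2, 1], [0, 0, 2, 1, 0, 0, 2, 0, 3, 0, 0, 2, 0, 3, 0, 0, 2, 0, 3, 0, 3, 1, 1], [0, 0, 0, 2, 0, 3, 0, 0, 2, 0, 3, 0, 0, 2, 0, 3, 1], [2, 2, 1, 0, 0, 2, 0, 3, 0, 0, 2, 0, 3, 0, 0, 2, 0, 3, 0, 3, 3], [2, 0, 0, 2, 0, 3, 0, 0, 2, 0, 3, 0, 0, 2, 0, 3, 3], [3, 0, 0, 0, 2, 0, 3, 0, 0, 2, 0, 3, 0, 0, 2, 0, 3, 1, 2], [1, 3, 0, 0, 0, 2, 0, 3, 0, 0, 2, 0, 3, 0, 0, 2, 0, 3, 1, 2, 0], [1, 2, 2, 0, 0, 2, 0, 3, 0, 0, 2, 0, 3, 0, 0, 2, 0, 3, 3, 3, 0], [3, 3,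 3, 1, 0, 0, 2, 0, 3, 0, 0, 2, 0, 3, 0, 0, 2, 0, 3, 0, 2, 2, 2], [0, 0, 2, 0, 0, 0, 0, 2, 0, 3, 0, 0, 2, 0, 3, 0, 0, 2, 0, 3, 1, 1, 3, 1, 1], [0, 2, 0, 0, 2, 0, 3, 0, 0, 2, 0, 3, 0, 0, 2, 0, 3, 3, 1], [1, 0, 0, 2, 0, 3, 0, 0, 2, 0, 3, 0, 0, 2, 0, 3, 0], [0, 0, 2, 0, 0, 2, 0, 3, 0, 0, 2, 0, 3, 0, 0, 2, 0, 3, 3, 1, 1], [3, 3, 3, 0, 0, 2, 0, 3, 0, 0, 2, 0, 3, 0, 0, 2, 0, 3, 2, 2, 2], [2, 0, 0, 0, 0, 2, 0, 3, 0, 0, 2, 0, 3, 0, 0, 2, 0, 3, 1, 1, 3], [3, 1, 2, 0, 0, 2, 0, 3, 0, 0, 2, 0, 3, 0, 0, 2, 0, 3, 3, 0, 2], [3, 1, 3, 0, 0, 0, 2, 0, 3, 0, 0, 2, 0, 3, 0, 0, 2, 0, 3, 1, 2, 0, 2], [1, 2, 0, 0, 2, 0, 3, 0, 0, 2, 0, 3, 0, 0, 2, 0, 3, 3, 0], [2, 1, 2, 0,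 0, 2, 0, 3, 0, 0, 2, 0, 3, 0, 0, 2, 0, 3, 3, 0, 3], [1, 1, 0, 0, 2, 0, 3, 0, 0, 2, 0, 3, 0, 0, 2, 0, 3, 0, 0], [2, 1, 0, 0, 2, 0, 3, 0, 0, 2, 0, 3, 0, 0, 2, 0, 3, 0, 3], [1, 1, 3, 0, 0, 2, 0, 3, 0, 0, 2, 0, 3, 0, 0, 2, 0, 3, 2, 0, 0], [2, 2, 0, 0, 2, 0, 3, 0, 0, 2, 0, 3, 0, 0, 2, 0, 3, 3, 3], [1, 2, 0, 0, 0, 2, 0, 3, 0, 0, 2, 0, 3, 0, 0, 2, 0, 3, 1, 3, 0], [2, 2, 0, 0, 0, 2, 0, 3, 0, 0, 2, 0, 3, 0, 0, 2, 0, 3, 1, 3, 3], [0, 3, 0, 0, 0, 2, 0, 3, 0, 0, 2, 0, 3, 0, 0, 2, 0, 3, 1, 2, 1], [2, 1, 3, 0, 0, 2, 0, 3, 0, 0, 2, 0, 3, 0, 0, 2, 0, 3, 2, 0, 3], [2, 0, 2, 0, 0, 0, 2, 0, 3, 0, 0, 2, 0, 3, 0, 0, 2, 0, 3, 1, 3, 1, 3], [3, 1, 3, 3, 0, 0, 2, 0, 3, 0,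 0, 2, 0, 3, 0, 0, 2, 0, 3, 2, 2, 0, 2], [3, 3, 1, 3, 0, 0, 2, 0, 3, 0, 0, 2, 0, 3, 0, 0, 2, 0, 3, 2, 0, 2, 2], [1, 1, 2, 0, 0, 2, 0, 3, 0, 0, 2, 0, 3, 0, 0, 2, 0, 3, 3, 0, 0], [0, 0, 2, 0, 3, 0, 0, 2, 0, 3, 0, 0, 2, 0, 3]]

end Cfsg.Agent.Lib.Sp62Words
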