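import Cfsg.Agent.Lib.ProgChain

/-!
# Enumeration of the solutions of equations in a permutation group along a stabilizer chain

Elements are products of transversal elements, given by tables (`imW`), and are only evaluated at the points needed
(`evalL`). An unknown element `y` of the group with known equations `w (y p) = y q` is searched by depth first search:
once the points `p` and `q` are among the base points already seen, the value of the equation is known.
-/

set_option autoImplicit false
set_option linter.unusedSectionVars false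

namespace Cfsg.Agent.Lib.SparseDfs

open Cfsg.Agent.Lib.PermChain Cfsg.Agent.Lib.ProgBits Cfsg.Agent.Lib.TcBits

/-- the value at `i` of a table with fields of `W` bits, `M` the mask -/
def imW (W M c i : ℕ) : ℕ := Nat.land (Nat.shiftRight c (Nat.mul W i)) M

variable {n : ℕ} {W M : ℕ}

/-- `c` is a table of `x` -/
def RepW (W M : ℕ) (x : Equiv.Perm (Fin n)) (c : ℕ) : Prop := ∀ i : Fin n, (x i).val = imW W M c i.val

/-- evaluation of a product of tables, the head of the list is applied first -/
def evalL (W M : ℕ) : List ℕ → ℕ → ℕ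
  | [], p => p
  | t :: L, p => evalL W M L (imW W M t p)

/-- the product `L` evaluates `x` -/
def RepL (W M : ℕ) (x : Equiv.Perm (Fin n)) (L : List ℕ) : Prop :=
  ∀ i : Fin n, (x i).val = evalL W M L i.val

theorem repL_one : RepL W M (1 : Equiv.Perm (Fin n)) [] := fun _ => rfl

theorem repL_cons {x y : Equiv.Perm (Fin n)} {t : ℕ} {L : List ℕ} (hx : RepL W M x L) (hy : RepW W M y t) :
    RepL W M (x * y) (t :: L) := by
  intro i
  rw [Equiv.Perm.mul_apply, hx, evalL, hy]

theorem repL_of_repW {x : Equiv.Perm (Fin n)} {t : ℕ} (hx : RepW W M x t) : RepL W M x [t] := by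
  simpa using repL_cons (repL_one (n := n)) hx

theorem repL_append {x y : Equiv.Perm (Fin n)} {L₁ L₂ : List ℕ} (hx : RepL W M x L₁) (hy : RepL W M y L₂) :
    RepL W M (x * y) (L₂ ++ L₁) := by
  intro i
  have key : ∀ (L₂ : List ℕ) (p : ℕ), evalL W M (L₂ ++ L₁) p = evalL W M L₁ (evalL W M L₂ p) := by
    intro L₂
    induction L₂ with
    | nil => intro p; rfl
    | cons t L ih => intro p; simp only [List.cons_append, evalL, ih]
  rw [Equiv.Perm.mul_apply, key, ← hy, ← hx]

theorem repL_pow {x : Equiv.Perm (Fin n)} {t : ℕ} (hx : RepW W M x t) : ∀ k, RepL W M (x ^ k) (List.replicate k t)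
  | 0 => by simpa using repL_one (n := n)
  | k + 1 => by
    rw [pow_succ, List.replicate_succ]
    exact repL_cons (repL_pow hx k) hx

/-- an equation `w (y p) = y q`, written `(w, p, q)` -/
abbrev Eqn := ℕ × ℕ × ℕ

/-- does the product satisfy the equation -/
def eqSat (W M : ℕ) (L : List ℕ) (e : Eqn) : Bool :=
  Nat.beq (imW W M e.1 (evalL W M L e.2.1)) (evalL W M L e.2.2)

/-- the search: at each level a base point, a list of tables, and equations -/
def dfsE (W M : ℕ) (test : List ℕ → Bool) : List (ℕ × List ℕ) → List (List Eqn) → List ℕ → Bool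
  | [], _, L => test L
  | (_, ts) :: Ls, Es, L => ts.all fun t =>
      !((Es.headD []).all (eqSat W M (t :: L))) || dfsE W M test Ls Es.tail (t :: L)

/-- all the points of the equations have been seen in the chain -/
def eqsOK (Bs : List ℕ) : List (ℕ × List ℕ) → List (List Eqn) → Bool
  | [], _ => true
  | (b, _) :: Ls, Es =>
      (Es.headD []).all (fun e => (b :: Bs).elem e.2.1 && (b :: Bs).elem e.2.2) && eqsOK (b :: Bs) Ls Es.tail

/-- A chain of stabilizers with base points and tables of the transversals. -/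
inductive ChainT (W M : ℕ) {n : ℕ} (K : Subgroup (Equiv.Perm (Fin n))) :
    Subgroup (Equiv.Perm (Fin n)) → List (ℕ × List ℕ) → Prop
  | nil : ChainT W M K K []
  | cons {H H' : Subgroup (Equiv.Perm (Fin n))} {b : Fin n} {U : Fin n → Equiv.Perm (Fin n)} {O : Finset (Fin n)}
      (L : Level H H' b U O) {b' : ℕ} (hb : b.val = b') {ts : List ℕ} {Ls : List (ℕ × List ℕ)}
      (hts : ∀ p ∈ O, ∃ t ∈ ts, RepW W M (U p) t) (rest : ChainT W M K H' Ls) :
      ChainT W M K H ((b', ts) :: Ls)

/-- the element satisfies the equation -/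
def SatE (W M : ℕ) (y : Equiv.Perm (Fin n)) (e : Eqn) : Prop :=
  ∀ (hp : e.2.1 < n) (hq : e.2.2 < n), imW W M e.1 (y ⟨e.2.1, hp⟩).val = (y ⟨e.2.2, hq⟩).val

theorem dfsE_spec {K H : Subgroup (Equiv.Perm (Fin n))} {Ls : List (ℕ × List ℕ)} (test : List ℕ → Bool)
    (hC : ChainT W M K H Ls) (y : Equiv.Perm (Fin n)) :
    ∀ (Bs : List ℕ) (Es : List (List Eqn)) (_ : ∀ p ∈ Bs, p < n)
      (_ : ∀ h ∈ H, ∀ p ∈ Bs, ∀ hp : p < n, h ⟨p, hp⟩ = ⟨p, hp⟩)
      (_ : eqsOK Bs Ls Es = true) (_ : ∀ eqs ∈ Es, ∀ e ∈ eqs, SatE W M y e)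
      (L : List ℕ) (_ : dfsE W M test Ls Es L = true) (x : Equiv.Perm (Fin n)) (_ : RepL W M x L)
      (h : Equiv.Perm (Fin n)) (_ : h ∈ H) (_ : x * h = y),
      ∃ (L' : List ℕ) (x' k : Equiv.Perm (Fin n)), k ∈ K ∧ RepL W M x' L' ∧ y = x' * k ∧ test L' = true := by
  induction hC with
  | nil =>
    intro Bs Es _ _ _ _ L hd x hx h hh he
    exact ⟨L, x, h, hh, hx, he.symm, hd⟩
  | @cons H H' b U O Lv b' hb ts Ls hts rest ih =>
    intro Bs Es hBs hfix hok hsat L hd x hx h hh he
    subst hb
    obtain ⟨h1, h2⟩ := Lv.cover h hh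
    obtain ⟨t, ht, hrep⟩ := hts _ h1
    simp only [dfsE, List.all_eq_true] at hd
    have h3 := hd t ht
    simp only [eqsOK, Bool.and_eq_true, List.all_eq_true] at hok
    obtain ⟨hok1, hok2⟩ := hok
    have hBs' : ∀ p ∈ (b.val :: Bs), p < n := by
      intro p hp
      rcases List.mem_cons.mp hp with rfl | hp
      · exact b.isLt
      · exact hBs p hp
    have hfix' : ∀ g ∈ H', ∀ p ∈ (b.val :: Bs), ∀ hp : p < n, g ⟨p, hp⟩ = ⟨p, hp⟩ := by
      intro g hg p hp hpn
      rcases List.mem_cons.mp hp with rfl | hp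
      · exact Lv.fix g hg
      · exact hfix g (Lv.le hg) p hp hpn
    have hr' := repL_cons hx hrep
    have heq : y = (x * U (h b)) * ((U (h b))⁻¹ * h) := by rw [← he]; group
    have hval : ∀ p ∈ (b.val :: Bs), ∀ hp : p < n, (y ⟨p, hp⟩).val = evalL W M (t :: L) p := by
      intro p hp hpn
      have h4 := hfix' _ h2 p hp hpn
      conv_lhs => rw [heq, Equiv.Perm.mul_apply, h4]
      exact hr' ⟨p, hpn⟩
    have hsat0 : (Es.headD []).all (eqSat W M (t :: L)) = true := by
      rw [List.all_eq_true]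
      intro e he2
      have hmem : e ∈ Es.headD [] := he2
      have hEs : ∀ e ∈ Es.headD [], SatE W M y e := by
        intro e' he'
        cases Es with
        | nil => simp at he'
        | cons a Es' => exact hsat a (List.mem_cons_self) e' he'
      have h5 := hok1 e hmem
      simp only [List.elem_eq_mem, decide_eq_true_eq] at h5
      have hp := hBs' _ h5.1
      have hq := hBs' _ h5.2
      have h6 := hEs e hmem hp hq
      rw [hval _ h5.1 hp, hval _ h5.2 hq] at h6
      show Nat.beq _ _ = true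
      rw [h6]
      exact Nat.beq_refl _
    rw [hsat0] at h3
    simp only [Bool.not_true, Bool.false_or] at h3
    refine ih (b.val :: Bs) Es.tail hBs' hfix' hok2 ?_ (t :: L) h3 _ hr' _ h2 heq.symm
    intro eqs he3 e he4
    exact hsat eqs (List.mem_of_mem_tail he3) e he4

/-- An element of the top of a chain to the trivial group fixing the base points is trivial. -/
theorem eq_one_of_base {H : Subgroup (Equiv.Perm (Fin n))} {Ls : List (ℕ × List ℕ)}
    (hC : ChainT W M (⊥ : Subgroup (Equiv.Perm (Fin n))) H Ls) :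
    ∀ h ∈ H, (∀ p ∈ Ls.map Prod.fst, ∀ hp : p < n, h ⟨p, hp⟩ = ⟨p, hp⟩) → h = 1 := by
  induction hC with
  | nil =>
    intro h hh _
    exact Subgroup.mem_bot.mp hh
  | @cons H H' b U O Lv b' hb ts Ls hts rest ih =>
    intro h hh hf
    subst hb
    have h1 : h ∈ H' := by
      rw [Lv.stab]
      exact ⟨hh, hf b.val (by simp) b.isLt⟩
    exact ih h h1 fun p hp hpn => hf p (by simp [hp]) hpn

/-- Two elements of the group agreeing on the base are equal. -/
theorem eq_of_base {H : Subgroup (Equiv.Perm (Fin n))} {Ls : List (ℕ × List ℕ)}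
    (hC : ChainT W M (⊥ : Subgroup (Equiv.Perm (Fin n))) H Ls) {x y : Equiv.Perm (Fin n)} (hx : x ∈ H) (hy : y ∈ H)
    (h : ∀ p ∈ Ls.map Prod.fst, ∀ hp : p < n, x ⟨p, hp⟩ = y ⟨p, hp⟩) : x = y := by
  have h1 := eq_one_of_base hC (y⁻¹ * x) (H.mul_mem (H.inv_mem hy) hx) (by
    intro p hp hpn
    rw [Equiv.Perm.mul_apply, h p hp hpn]
    simp)
  exact (inv_mul_eq_one.mp h1).symm

/-- the base agreement of two products -/
def agree (W M : ℕ) (base : List ℕ) (L A : List ℕ) : Bool :=
  base.all fun b => Nat.beq (evalL W M L b) (evalL W M A b)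

theorem eq_of_agree {H : Subgroup (Equiv.Perm (Fin n))} {Ls : List (ℕ × List ℕ)}
    (hC : ChainT W M (⊥ : Subgroup (Equiv.Perm (Fin n))) H Ls) {x y : Equiv.Perm (Fin n)} (hx : x ∈ H) (hy : y ∈ H)
    {L A : List ℕ} (hL : RepL W M x L) (hA : RepL W M y A) (h : agree W M (Ls.map Prod.fst) L A = true) : x = y := by
  apply eq_of_base hC hx hy
  intro p hp hpn
  simp only [agree, List.all_eq_true] at h
  have h1 := Nat.eq_of_beq_eq_true (h p hp)
  apply Fin.ext
  rw [hL ⟨p, hpn⟩, hA ⟨p, hpn⟩]
  exact h1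

/-! ### tables from programs -/

/-- the value of the bits at `i` of a list of numbers -/
def bitsOf (i : ℕ) : List ℕ → ℕ
  | [] => 0
  | s :: S => Nat.add (Nat.land (Nat.shiftRight s i) 1) (Nat.mul 2 (bitsOf i S))

theorem bitsOf_eq (i : ℕ) : ∀ (S : List ℕ) (v : ℕ), v < 2 ^ S.length →
    (∀ j (hj : j < S.length), (S.get ⟨j, hj⟩).testBit i = v.testBit j) → bitsOf i S = v := by
  intro S
  induction S with
  | nil =>
    intro v hv _
    simp at hv
    simp [bitsOf, hv]
  | cons s S ih =>
    intro v hv h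
    have h0 := h 0 (by simp)
    simp only [List.length_cons, List.get_eq_getElem, List.getElem_cons_zero] at h0
    have h1 : bitsOf i S = v / 2 := by
      apply ih
      · rw [List.length_cons, pow_succ] at hv
        omega
      · intro j hj
        have h2 := h (j + 1) (by simp [hj])
        simp only [List.get_eq_getElem, List.getElem_cons_succ] at h2 ⊢
        rw [h2, Nat.testBit_succ]
    show Nat.land (Nat.shiftRight s i) 1 + 2 * bitsOf i S = v
    rw [h1]
    have h3 : Nat.land (Nat.shiftRight s i) 1 = v % 2 := by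
      have h4 : Nat.land (Nat.shiftRight s i) 1 = (s >>> i) &&& 1 := rfl
      rw [h4, Nat.and_one_is_mod]
      have h5 : (s >>> i) % 2 = (s.testBit i).toNat := by
        rw [Nat.testBit, Nat.and_comm, Nat.and_one_is_mod]
        rcases Nat.mod_two_eq_zero_or_one (s >>> i) with h | h <;> simp [h, bne]
      have h6 : v % 2 = (v.testBit 0).toNat := by
        rw [Nat.testBit, Nat.shiftRight_zero, Nat.and_comm, Nat.and_one_is_mod]
        rcases Nat.mod_two_eq_zero_or_one v with h | h <;> simp [h, bne]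
      rw [h5, h6, h0]
    rw [h3]
    omega

/-- the slices of a number -/
def slicesOf (k L X : ℕ) : List ℕ := (List.range k).map fun j => Nat.shiftRight X (Nat.mul j L)

/-- the check of a table against the slices -/
def chkSlices (W M n i0 : ℕ) (S : List ℕ) (c : ℕ) : Bool :=
  (List.range' i0 n).all fun i => Nat.beq (imW W M c i) (bitsOf i S)

/-- the check of a table against a word -/
def chkRep (W M n k : ℕ) (R Y : ℕ) (pr : ℕ → List (ℕ × ℕ)) (w : List ℕ) (c : ℕ) : Bool :=
  chkSlices W M n 0 (slicesOf k (2 ^ k) (xWord R pr Y w)) c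

theorem repW_of_chk {k : ℕ} {pr : ℕ → List (ℕ × ℕ)} {R Y : ℕ} (C : Ctx n k pr R Y) {w : List ℕ} {c : ℕ}
    (h : chkRep W M n k R Y pr w c = true) : RepW W M (prodW (lp pr n) w) c := by
  intro i
  rw [C.prodW_apply]
  simp only [chkRep, chkSlices, List.all_eq_true] at h
  have h1 := Nat.eq_of_beq_eq_true (h i.val (by
    rw [List.mem_range'_1]; exact ⟨Nat.zero_le _, by simpa using i.isLt⟩))
  rw [h1]
  symm
  have hi : i.val < 2 ^ k := lt_of_lt_of_le i.isLt C.hn
  have hv := C.hv
  have hlt := wordPerm_lt (L := 2 ^ k) (pr := pr) (w := w) (fun e _ => hv e) hi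
  apply bitsOf_eq
  · simpa [slicesOf] using hlt
  · intro j hj
    have hj' : j < k := by simpa [slicesOf] using hj
    simp only [slicesOf, List.get_eq_getElem, List.getElem_map, List.getElem_range]
    have h2 : Nat.shiftRight (xWord R pr Y w) (Nat.mul j (2 ^ k)) = (xWord R pr Y w) >>> (j * 2 ^ k) := rfl
    rw [h2, Nat.testBit_shiftRight]
    have h3 := testBit_xWord (J := k) (L := 2 ^ k) (pr := pr) (w := w) (fun e _ => hv e) (yId k) hj' hi
    rw [C.hR, C.hY]
    rw [h3, testBit_yId hj' hlt]

end Cfsg.Agent.Lib.SparseDfs
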