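import Cfsg.Agent.Lib.SparseDfs

/-!
# Using the search of `SparseDfs`: tests at the leaves
-/

set_option autoImplicit false
set_option linter.unusedSectionVars false

namespace Cfsg.Agent.Lib.SparseDfs2

open Cfsg.Agent.Lib.PermChain Cfsg.Agent.Lib.ProgBits Cfsg.Agent.Lib.SparseDfs

variable {n : ℕ} {W M : ℕ}

theorem satE_of_comm {y X₁ X₂ : Equiv.Perm (Fin n)} {t₂ p q : ℕ} (hc : y * X₁ = X₂ * y)
    (hX₁ : ∀ (hp : p < n) (hq : q < n), X₁ ⟨p, hp⟩ = ⟨q, hq⟩) (hX₂ : RepW W M X₂ t₂) :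
    SatE W M y (t₂, p, q) := by
  intro hp hq
  show imW W M t₂ (y ⟨p, hp⟩).val = (y ⟨q, hq⟩).val
  have h1 := congrArg (fun z : Equiv.Perm (Fin n) => z ⟨p, hp⟩) hc
  simp only [Equiv.Perm.mul_apply] at h1
  rw [hX₁ hp hq] at h1
  rw [← hX₂, h1]

/-- the equation `y x₁ = x₂ y` on the base -/
def eqB (W M : ℕ) (base : List ℕ) (t₁ t₂ : ℕ) (L : List ℕ) : Bool :=
  base.all fun b => Nat.beq (imW W M t₂ (evalL W M L b)) (evalL W M L (imW W M t₁ b))

theorem eqB_of {base : List ℕ} {y X₁ X₂ : Equiv.Perm (Fin n)} {t₁ t₂ : ℕ} {L : List ℕ}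
    (hbase : ∀ b ∈ base, b < n) (hL : RepL W M y L) (h₁ : RepW W M X₁ t₁) (h₂ : RepW W M X₂ t₂)
    (hc : y * X₁ = X₂ * y) : eqB W M base t₁ t₂ L = true := by
  rw [eqB, List.all_eq_true]
  intro b hb
  have hbn := hbase b hb
  have h1 := congrArg (fun z : Equiv.Perm (Fin n) => z ⟨b, hbn⟩) hc
  simp only [Equiv.Perm.mul_apply] at h1
  have h2 : (y (X₁ ⟨b, hbn⟩)).val = evalL W M L (imW W M t₁ b) := by
    rw [hL, h₁]
  have h3 : (X₂ (y ⟨b, hbn⟩)).val = imW W M t₂ (evalL W M L b) := by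
    rw [h₂, hL]
  rw [← h2, ← h3, h1]
  exact Nat.beq_refl _

theorem dfs_H {H : Subgroup (Equiv.Perm (Fin n))} {Ls : List (ℕ × List ℕ)}
    (hC : ChainT W M (⊥ : Subgroup (Equiv.Perm (Fin n))) H Ls) (test : List ℕ → Bool) {Es : List (List Eqn)}
    (hok : eqsOK [] Ls Es = true) {y : Equiv.Perm (Fin n)} (hy : y ∈ H)
    (hsat : ∀ eqs ∈ Es, ∀ e ∈ eqs, SatE W M y e) (hd : dfsE W M test Ls Es [] = true) :
    ∃ L', RepL W M y L' ∧ test L' = true := by
  obtain ⟨L', x', k, hk, h1, h2, h3⟩ := dfsE_spec test hC y [] Es (by simp) (by simp) hok hsat [] hd 1 repL_one y hy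
    (one_mul y)
  rw [Subgroup.mem_bot] at hk
  subst hk
  rw [mul_one] at h2
  subst h2
  exact ⟨L', h1, h3⟩

theorem dfs_top {G H : Subgroup (Equiv.Perm (Fin n))} {b₀ : Fin n} {U : Fin n → Equiv.Perm (Fin n)} {O : Finset (Fin n)}
    (L0 : Level G H b₀ U O) {Ls : List (ℕ × List ℕ)}
    (hC : ChainT W M (⊥ : Subgroup (Equiv.Perm (Fin n))) H Ls) (test : List ℕ → Bool) {Es : List (List Eqn)}
    (hok : eqsOK [] Ls Es = true) {y : Equiv.Perm (Fin n)} (hy : y ∈ G)
    (hsat : ∀ eqs ∈ Es, ∀ e ∈ eqs, SatE W M y e) {T : ℕ} (hT : RepW W M (U (y b₀)) T)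
    (hd : dfsE W M test Ls Es [T] = true) :
    ∃ L', RepL W M y L' ∧ test L' = true := by
  obtain ⟨h1, h2⟩ := L0.cover y hy
  obtain ⟨L', x', k, hk, h3, h4, h5⟩ := dfsE_spec test hC y [] Es (by simp) (by simp) hok hsat [T] hd _
    (repL_of_repW hT) _ h2 (mul_inv_cancel_left _ _)
  rw [Subgroup.mem_bot] at hk
  subst hk
  rw [mul_one] at h4
  subst h4
  exact ⟨L', h3, h5⟩

theorem eq_of_agree_top {G H : Subgroup (Equiv.Perm (Fin n))} {b₀ : Fin n} {U : Fin n → Equiv.Perm (Fin n)}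
    {O : Finset (Fin n)} (L0 : Level G H b₀ U O) {Ls : List (ℕ × List ℕ)}
    (hC : ChainT W M (⊥ : Subgroup (Equiv.Perm (Fin n))) H Ls) {x y : Equiv.Perm (Fin n)} (hx : x ∈ G) (hy : y ∈ G)
    {L A : List ℕ} (hL : RepL W M x L) (hA : RepL W M y A)
    (h : agree W M (b₀.val :: Ls.map Prod.fst) L A = true) : x = y := by
  simp only [agree, List.all_eq_true] at h
  have hag : ∀ p ∈ (b₀.val :: Ls.map Prod.fst), ∀ hp : p < n, x ⟨p, hp⟩ = y ⟨p, hp⟩ := by
    intro p hp hpn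
    apply Fin.ext
    rw [hL, hA]
    exact Nat.eq_of_beq_eq_true (h p hp)
  have hz : y⁻¹ * x ∈ H := by
    rw [L0.stab]
    refine ⟨G.mul_mem (G.inv_mem hy) hx, ?_⟩
    show (y⁻¹ * x) b₀ = b₀
    have := hag b₀.val (by simp) b₀.isLt
    rw [Equiv.Perm.mul_apply]
    have h2 : x b₀ = y b₀ := this
    rw [h2]
    simp
  have h1 := eq_one_of_base hC _ hz (by
    intro p hp hpn
    rw [Equiv.Perm.mul_apply, hag p (List.mem_cons_of_mem _ hp) hpn]
    simp)
  exact (inv_mul_eq_one.mp h1).symm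

/-- evaluation of a word in given letters, the head of the word is applied last -/
def evalLet (W M : ℕ) (S : ℕ → List ℕ) : List ℕ → ℕ → ℕ
  | [], p => p
  | e :: R, p => evalL W M (S e) (evalLet W M S R p)

theorem evalLet_spec {s : ℕ → Equiv.Perm (Fin n)} {S : ℕ → List ℕ} (h : ∀ e, RepL W M (s e) (S e)) :
    ∀ (R : List ℕ) (i : Fin n), (prodW s R i).val = evalLet W M S R i.val := by
  intro R i
  induction R with
  | nil => simp [prodW_nil, evalLet]
  | cons e R ih =>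
    rw [prodW_cons, Equiv.Perm.mul_apply, h e, evalLet, ih]

theorem relsOK_of {base : List ℕ} {s : ℕ → Equiv.Perm (Fin n)} {S : ℕ → List ℕ} (h : ∀ e, RepL W M (s e) (S e))
    (hbase : ∀ b ∈ base, b < n) {R : List ℕ} (hR : prodW s R = 1) :
    base.all (fun b => Nat.beq (evalLet W M S R b) b) = true := by
  rw [List.all_eq_true]
  intro b hb
  have h1 := evalLet_spec h R ⟨b, hbase b hb⟩
  rw [hR] at h1
  simp only [Equiv.Perm.one_apply] at h1
  rw [← h1]
  exact Nat.beq_refl _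

/-- the letter function of three elements -/
def sel3 {Γ : Type*} (a b c : Γ) (e : ℕ) : Γ := if e = 0 then a else if e = 1 then b else c

theorem sel3_map {Γ Δ : Type*} (φ : Γ → Δ) (a b c : Γ) (e : ℕ) :
    φ (sel3 a b c e) = sel3 (φ a) (φ b) (φ c) e := by
  unfold sel3
  split_ifs <;> rfl

/-- a product of letters in a group -/
def prodG {Γ : Type*} [Monoid Γ] (s : ℕ → Γ) (R : List ℕ) : Γ := (R.map s).prod

theorem map_prodG {Γ Δ : Type*} [Monoid Γ] [Monoid Δ] (φ : Γ →* Δ) (s : ℕ → Γ) (R : List ℕ) :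
    φ (prodG s R) = prodG (fun e => φ (s e)) R := by
  unfold prodG
  rw [map_list_prod, List.map_map]
  rfl

theorem prodG_conj {Γ : Type*} [Group Γ] (c : Γ) (s : ℕ → Γ) (R : List ℕ) :
    prodG (fun e => c * s e * c⁻¹) R = c * prodG s R * c⁻¹ := by
  have h := map_prodG (MulAut.conj c).toMonoidHom s R
  simpa [MulAut.conj_apply] using h.symm

theorem prodG_flatMap {g : ℕ → Equiv.Perm (Fin n)} (wS : ℕ → List ℕ) (R : List ℕ) :
    prodG (fun e => prodW g (wS e)) R = prodW g (R.flatMap wS) := by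
  induction R with
  | nil => rfl
  | cons e R ih =>
    have h1 : prodG (fun e => prodW g (wS e)) (e :: R) = prodW g (wS e) * prodG (fun e => prodW g (wS e)) R := by
      simp [prodG]
    rw [h1, ih, List.flatMap_cons]
    simp [prodW]

/-- table covering of the transversal -/
def covers (chk : ℕ → ℕ → Bool) : List ℕ → List ℕ → Bool
  | [], _ => true
  | _ :: _, [] => false
  | p :: Ol, t :: ts => chk p t && covers chk Ol ts

theorem of_covers {chk : ℕ → ℕ → Bool} : ∀ {Ol ts : List ℕ}, covers chk Ol ts = true →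
    ∀ p ∈ Ol, ∃ t ∈ ts, chk p t = true
  | [], _, _, _, hp => by simp at hp
  | _ :: _, [], h, _, _ => by simp [covers] at h
  | q :: Ol, t :: ts, h, p, hp => by
    simp only [covers, Bool.and_eq_true] at h
    rcases List.mem_cons.mp hp with rfl | hp
    · exact ⟨t, List.mem_cons_self, h.1⟩
    · obtain ⟨t', ht', h2⟩ := of_covers h.2 p hp
      exact ⟨t', List.mem_cons_of_mem _ ht', h2⟩

end Cfsg.Agent.Lib.SparseDfs2
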