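import Cfsg.Agent.Lib.SparseDfs2

/-!
# Words in letters given by tables

The letters of a word are given by tables; a table of a word is checked by composition, and an equality of words in a
group with a chain is checked on the base only.
-/

set_option autoImplicit false
set_option linter.unusedSectionVars false

namespace Cfsg.Agent.Lib.SparseDfs3

open Cfsg.Agent.Lib.PermChain Cfsg.Agent.Lib.SparseDfs Cfsg.Agent.Lib.SparseDfs2

variable {n W M : ℕ}

/-- the tables of a word -/
def tL (lT : ℕ → ℕ) (w : List ℕ) : List ℕ := (w.map lT).reverse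

/-- the letters of a word are known -/
def wordOK (tot : ℕ) (w : List ℕ) : Bool := w.all fun e => Nat.ble (Nat.succ e) tot

theorem repL_word {g : ℕ → Equiv.Perm (Fin n)} {lT : ℕ → ℕ} {tot : ℕ} (h : ∀ e, e < tot → RepW W M (g e) (lT e)) :
    ∀ w : List ℕ, wordOK tot w = true → RepL W M (prodW g w) (tL lT w)
  | [], _ => by simpa [tL, prodW_nil] using repL_one
  | e :: w, hw => by
    simp only [wordOK, List.all_cons, Bool.and_eq_true] at hw
    rw [prodW_cons]
    have h1 : tL lT (e :: w) = tL lT w ++ [lT e] := by simp [tL]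
    rw [h1]
    exact repL_append (repL_of_repW (h e (Nat.le_of_ble_eq_true hw.1))) (repL_word h w hw.2)

/-- the check of a table against the tables of the letters -/
def tabChk (W M n : ℕ) (lT : ℕ → ℕ) (tot : ℕ) (w : List ℕ) (t : ℕ) : Bool :=
  wordOK tot w && (List.range n).all fun i => Nat.beq (evalL W M (tL lT w) i) (imW W M t i)

theorem repW_of_tabChk {g : ℕ → Equiv.Perm (Fin n)} {lT : ℕ → ℕ} {tot : ℕ}
    (h : ∀ e, e < tot → RepW W M (g e) (lT e)) {w : List ℕ} {t : ℕ} (hc : tabChk W M n lT tot w t = true) :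
    RepW W M (prodW g w) t := by
  intro i
  simp only [tabChk, Bool.and_eq_true, List.all_eq_true, List.mem_range] at hc
  have h1 := Nat.eq_of_beq_eq_true (hc.2 i.val i.isLt)
  rw [repL_word h w hc.1 i, h1]

/-- the check of an equality of words on the base -/
def eqWChk (W M : ℕ) (lT : ℕ → ℕ) (tot : ℕ) (base : List ℕ) (w₁ w₂ : List ℕ) : Bool :=
  wordOK tot w₁ && wordOK tot w₂ && agree W M base (tL lT w₁) (tL lT w₂)

theorem ne_one_of_moved {g : ℕ → Equiv.Perm (Fin n)} {lT : ℕ → ℕ} {tot : ℕ}
    (h : ∀ e, e < tot → RepW W M (g e) (lT e)) {w : List ℕ} (hw : wordOK tot w = true) (p : ℕ) (hp : p < n)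
    (hm : Nat.beq (evalL W M (tL lT w) p) p = false) : prodW g w ≠ 1 := by
  intro h1
  have h2 := repL_word h w hw ⟨p, hp⟩
  rw [h1] at h2
  simp only [Equiv.Perm.one_apply] at h2
  rw [← h2] at hm
  simp at hm

end Cfsg.Agent.Lib.SparseDfs3
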