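import Mathlib
import Cfsg.Agent.Lib.Spec5Q
import Cfsg.Agent.Lib.ClassicalSmall
import Cfsg.Agent.S3050
import Cfsg.Agent.S0494

/-!
# Local analysis of a normal 2-subgroup `R` of `L` with `L / R ≅ A₅`.
-/

set_option autoImplicit false

namespace Cfsg.Agent.Lib.Spec5

universe u

/-- `SL₂(4) ≅ A₅`. -/
theorem exists_sl2 : ∃ (K : Type) (_ : Field K) (_ : Fintype K), Fintype.card K = 2 ^ 2 ∧
    Nonempty (A5 ≃* Matrix.SpecialLinearGroup (Fin 2) K) := by
  haveI : Fact (Nat.Prime 2) := ⟨Nat.prime_two⟩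
  let K := GaloisField 2 2
  haveI : Finite K := by
    apply Nat.finite_of_card_ne_zero
    rw [GaloisField.card 2 2 (by norm_num)]
    norm_num
  letI : Fintype K := Fintype.ofFinite K
  have hK : Fintype.card K = 4 := by
    rw [← Nat.card_eq_fintype_card, GaloisField.card 2 2 (by norm_num)]
    norm_num
  refine ⟨K, inferInstance, inferInstance, by rw [hK]; norm_num, ?_⟩
  have h1 := Cfsg.Agent.Lib.ClassicalSmall.card_PSL2 (F := K)
  have h2 := Cfsg.Agent.Lib.ClassicalSmall.card_SL2 (F := K)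
  rw [hK] at h1 h2
  norm_num at h1 h2
  haveI hs : IsSimpleGroup (Matrix.ProjectiveSpecialLinearGroup (Fin 2) K) :=
    Matrix.ProjectiveSpecialLinearGroup.rank_two_simple (by rw [Nat.card_eq_fintype_card, hK])
  obtain ⟨e⟩ := Cfsg.Agent.S0494.result (G := Matrix.ProjectiveSpecialLinearGroup (Fin 2) K) h1
  let f : Matrix.SpecialLinearGroup (Fin 2) K →* Matrix.ProjectiveSpecialLinearGroup (Fin 2) K :=
    QuotientGroup.mk' _
  have hf : Function.Surjective f := QuotientGroup.mk'_surjective _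
  have hb : Function.Bijective f := hf.bijective_of_nat_card_le (by rw [h1, h2])
  exact ⟨e.symm.trans (MulEquiv.ofBijective f hb).symm⟩

/-- Local data. -/
structure AD {L : Type u} [Group L] (R : Subgroup L) (π : L →* A5) : Prop where
  q : IsQ L
  r2 : IsPGroup 2 R
  surj : Function.Surjective π
  ker : ∀ g, π g = 1 ↔ g ∈ R

/-- The centralizer of `u` in `R`. -/
def Cu {L : Type u} [Group L] (R : Subgroup L) (u : L) : Subgroup L :=
  R ⊓ Subgroup.centralizer ({u} : Set L)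

lemma mem_Cu {L : Type u} [Group L] {R : Subgroup L} {u c : L} : c ∈ Cu R u ↔ c ∈ R ∧ u * c * u⁻¹ = c := by
  unfold Cu
  rw [Subgroup.mem_inf, Subgroup.mem_centralizer_singleton_iff]
  constructor
  · rintro ⟨h1, h2⟩
    refine ⟨h1, ?_⟩
    rw [mul_inv_eq_iff_eq_mul]
    exact h2.symm
  · rintro ⟨h1, h2⟩
    refine ⟨h1, ?_⟩
    rw [mul_inv_eq_iff_eq_mul] at h2
    exact h2.symm

section Loc

variable {L : Type u} [Group L] [Finite L] {R : Subgroup L} {π : L →* A5}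

include π in
lemma AD.conj (h : AD R π) {r : L} (hr : r ∈ R) (g : L) : g * r * g⁻¹ ∈ R := by
  rw [← h.ker, map_mul, map_mul, (h.ker r).mpr hr, map_inv]
  group

lemma AD.normal (h : AD R π) : R.Normal := ⟨fun r hr g => h.conj hr g⟩

lemma AD.mem_Nr (h : AD R π) (g : L) : g ∈ Nr R := mem_Nr_of_conj (fun r hr => h.conj hr g)

lemma AD.fix_odd (h : AD R π) {g r : L} (hodd : Odd (orderOf g)) (hg : g ≠ 1) (hr : r ∈ R)
    (hc : g * r * g⁻¹ = r) : r = 1 := by
  have h1 : r * g = g * r := by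
    rw [mul_inv_eq_iff_eq_mul] at hc
    exact hc.symm
  rcases h.q.toP.comm_two_odd h1 (two_of_mem h.r2 hr) hodd with h2 | h2
  · exact h2
  · exact absurd h2 hg

lemma AD.ord3 (h : AD R π) {g : L} (h3 : π g ^ 3 = 1) (h1 : π g ≠ 1) : orderOf g = 3 := by
  apply h.q.ord_three
  rw [← order_three_of _ h3 h1]
  exact orderOf_map_dvd π g

lemma AD.ord5 (h : AD R π) {g : L} (h3 : π g ^ 5 = 1) (h1 : π g ≠ 1) : orderOf g = 5 := by
  apply h.q.ord_five
  rw [← order_five_of _ h3 h1]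
  exact orderOf_map_dvd π g

lemma AD.ne_one_of (_h : AD R π) {g : L} (h1 : π g ≠ 1) : g ≠ 1 := by
  rintro rfl
  exact h1 (map_one π)

lemma AD.fix3 (h : AD R π) {g r : L} (h3 : π g ^ 3 = 1) (h1 : π g ≠ 1) (hr : r ∈ R)
    (hc : g * r * g⁻¹ = r) : r = 1 :=
  h.fix_odd (by rw [h.ord3 h3 h1]; decide) (h.ne_one_of h1) hr hc

/-- `R` is elementary abelian. -/
theorem AD.elem (h : AD R π) : (∀ a ∈ R, ∀ b ∈ R, a * b = b * a) ∧ ∀ a ∈ R, a * a = 1 := by
  obtain ⟨K, i1, i2, hK, ⟨e₁⟩⟩ := exists_sl2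
  haveI := h.normal
  have hker : π.ker = R := by
    ext g
    rw [MonoidHom.mem_ker, h.ker]
  let e₀ : L ⧸ R ≃* A5 :=
    (QuotientGroup.quotientMulEquivOfEq hker.symm).trans (QuotientGroup.quotientKerEquivOfSurjective π h.surj)
  obtain ⟨x, hx⟩ := h.surj xb
  obtain ⟨h3, h1, -⟩ := xb_facts
  have hx3 : orderOf x = 3 := h.ord3 (by rw [hx, h3]) (by rw [hx]; exact h1)
  have key := Cfsg.Agent.S3050.result R h.r2 2 le_rfl K hK (e₀.trans e₁) x hx3
    (fun q hq hc => h.fix3 (by rw [hx, h3]) (by rw [hx]; exact h1) hq hc)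
  obtain ⟨⟨hc, hs⟩, -⟩ := key
  refine ⟨fun a ha b hb => ?_, fun a ha => ?_⟩
  · have := hc.is_comm.comm (⟨a, ha⟩ : R) ⟨b, hb⟩
    exact congrArg Subtype.val this
  · have := hs a ha
    rwa [sq] at this

/-- The commutator map. -/
theorem AD.cent (h : AD R π) {u : L} (hu2 : π u * π u = 1) (hu1 : π u ≠ 1) :
    Nat.card (Cu R u) * Nat.card (Cu R u) = Nat.card R ∧ ∀ c ∈ Cu R u, ∃ r ∈ R, u * r * u⁻¹ * r⁻¹ = c := by
  classical
  obtain ⟨hcomm, hel⟩ := h.elem
  haveI := h.normal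
  have hsq : u * u ∈ R := by
    rw [← h.ker, map_mul, hu2]
  have hinv : ∀ a ∈ R, a⁻¹ = a := fun a ha => inv_eq_of_mul_eq_one_left (hel a ha)
  -- Step A
  have hA : Nat.card (Cu R u) * Nat.card (Cu R u) ≤ Nat.card R := by
    obtain ⟨wb, hw3, hw1, hwi⟩ := A5_inv_inverts (π u) hu2 hu1
    obtain ⟨w, rfl⟩ := h.surj wb
    set B := (Cu R u).map (MulAut.conj w).toMonoidHom with hB
    have hBcard : Nat.card B = Nat.card (Cu R u) :=
      Subgroup.card_map_of_injective (MulAut.conj w).injective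
    have hmul : ∀ a ∈ Cu R u, ∀ b ∈ B, a * b ∈ R := by
      rintro a ha _ ⟨d, hd, rfl⟩
      exact mul_mem (mem_Cu.mp ha).1 (h.conj (mem_Cu.mp hd).1 w)
    have h1 := card_mul_le (Cu R u) B R hmul
    have hbot : Cu R u ⊓ B = ⊥ := by
      rw [eq_bot_iff]
      rintro c ⟨hc, d, hd, hdc⟩
      have hdc' : w * d * w⁻¹ = c := hdc
      obtain ⟨hcR, hcu⟩ := mem_Cu.mp hc
      obtain ⟨hdR, hdu⟩ := mem_Cu.mp hd
      set g := w * u * w⁻¹ * u⁻¹ with hg
      have hπg : π g = π w * π w := by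
        rw [hg, map_mul, map_mul, map_mul, map_inv, map_inv]
        have e1 : π u * (π w)⁻¹ * (π u)⁻¹ = π w := by
          calc π u * (π w)⁻¹ * (π u)⁻¹ = (π u * π w * (π u)⁻¹)⁻¹ := by group
            _ = π w := by rw [hwi, inv_inv]
        calc π w * π u * (π w)⁻¹ * (π u)⁻¹ = π w * (π u * (π w)⁻¹ * (π u)⁻¹) := by group
          _ = π w * π w := by rw [e1]
      have hπ3 : π g ^ 3 = 1 := by
        rw [hπg, ← sq, ← pow_mul, mul_comm, pow_mul, hw3, one_pow]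
      have hπ1 : π g ≠ 1 := by
        rw [hπg]
        intro h2
        apply hw1
        have : π w ^ 3 = π w * (π w * π w) := pow_three _
        rw [h2, mul_one] at this
        rw [← this, hw3]
      have e1 : (w * u * w⁻¹) * c * (w * u * w⁻¹)⁻¹ = c := by
        rw [← hdc']
        calc (w * u * w⁻¹) * (w * d * w⁻¹) * (w * u * w⁻¹)⁻¹ = w * (u * d * u⁻¹) * w⁻¹ := by group
          _ = w * d * w⁻¹ := by rw [hdu]
      have e2 : u⁻¹ * c * u = c := by
        nth_rewrite 1 [← hcu]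
        group
      have e3 : g * c * g⁻¹ = c := by
        calc g * c * g⁻¹ = (w * u * w⁻¹) * (u⁻¹ * c * u) * (w * u * w⁻¹)⁻¹ := by rw [hg]; group
          _ = c := by rw [e2, e1]
      rw [Subgroup.mem_bot]
      exact h.fix3 hπ3 hπ1 hcR e3
    rw [hBcard, hbot, Subgroup.card_bot, mul_one] at h1
    exact h1
  -- Step B : the commutator hom
  let f : R →* R :=
    { toFun := fun r => ⟨u * r * u⁻¹ * (r : L)⁻¹, mul_mem (h.conj r.2 u) (inv_mem r.2)⟩
      map_one' := by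
        apply Subtype.ext
        simp
      map_mul' := by
        intro r s
        apply Subtype.ext
        have e := hcomm (r : L)⁻¹ (inv_mem r.2) (u * s * u⁻¹ * (s : L)⁻¹) (mul_mem (h.conj s.2 u) (inv_mem s.2))
        show u * ((r : L) * s) * u⁻¹ * ((r : L) * s)⁻¹ = (u * r * u⁻¹ * (r : L)⁻¹) * (u * s * u⁻¹ * (s : L)⁻¹)
        calc u * ((r : L) * s) * u⁻¹ * ((r : L) * s)⁻¹
            = (u * r * u⁻¹) * ((u * s * u⁻¹ * (s : L)⁻¹) * (r : L)⁻¹) := by group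
          _ = (u * r * u⁻¹) * ((r : L)⁻¹ * (u * s * u⁻¹ * (s : L)⁻¹)) := by rw [e]
          _ = _ := by group }
  have hf : ∀ r : R, ((f r : R) : L) = u * r * u⁻¹ * (r : L)⁻¹ := fun _ => rfl
  have hker : Nat.card f.ker = Nat.card (Cu R u) := by
    apply Nat.card_congr
    refine ⟨fun r => ⟨(r : R), mem_Cu.mpr ⟨(r : R).2, ?_⟩⟩, fun c => ⟨⟨c, (mem_Cu.mp c.2).1⟩, ?_⟩,
      fun _ => rfl, fun _ => rfl⟩
    · have h1 : f r = 1 := r.2
      have h2 := congrArg Subtype.val h1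
      rw [hf] at h2
      exact mul_inv_eq_one.mp h2
    · rw [MonoidHom.mem_ker]
      apply Subtype.ext
      rw [hf]
      exact mul_inv_eq_one.mpr (mem_Cu.mp c.2).2
  have hrange : ∀ r : R, ((f r : R) : L) ∈ Cu R u := by
    intro r
    refine mem_Cu.mpr ⟨(f r).2, ?_⟩
    rw [hf]
    have e1 : (u * u) * (r : L) * (u * u)⁻¹ = r := by
      have := hcomm _ hsq _ r.2
      rw [this]
      group
    have e2 : u * (u * r * u⁻¹) * u⁻¹ = r := by
      calc u * (u * r * u⁻¹) * u⁻¹ = (u * u) * (r : L) * (u * u)⁻¹ := by group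
        _ = r := e1
    have hd := hinv _ (mul_mem (h.conj r.2 u) (inv_mem r.2))
    calc u * (u * r * u⁻¹ * (r : L)⁻¹) * u⁻¹ = (u * (u * r * u⁻¹) * u⁻¹) * (u * (r : L) * u⁻¹)⁻¹ := by group
      _ = (r : L) * (u * (r : L) * u⁻¹)⁻¹ := by rw [e2]
      _ = (u * r * u⁻¹ * (r : L)⁻¹)⁻¹ := by group
      _ = u * r * u⁻¹ * (r : L)⁻¹ := hd
  let g₀ : f.range → Cu R u := fun x => ⟨((x : R) : L), by
    obtain ⟨r, hr⟩ := x.2
    rw [← hr]
    exact hrange r⟩
  have hg₀ : Function.Injective g₀ := by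
    intro a b hab
    apply Subtype.ext
    apply Subtype.ext
    have := congrArg (fun z : Cu R u => (z : L)) hab
    exact this
  have h1 := Subgroup.card_mul_index f.ker
  rw [Subgroup.index_ker, hker] at h1
  have h2 : Nat.card f.range ≤ Nat.card (Cu R u) := Nat.card_le_card_of_injective g₀ hg₀
  have hpos : 0 < Nat.card (Cu R u) := Nat.card_pos
  have h3 : Nat.card f.range = Nat.card (Cu R u) := by
    apply le_antisymm h2
    by_contra hc
    push Not at hc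
    have : Nat.card (Cu R u) * Nat.card f.range < Nat.card (Cu R u) * Nat.card (Cu R u) :=
      Nat.mul_lt_mul_of_pos_left hc hpos
    omega
  refine ⟨by rw [← h1, h3], ?_⟩
  intro c hc
  have hbij := hg₀.bijective_of_nat_card_le (le_of_eq h3.symm)
  obtain ⟨⟨x, r, hr⟩, hx⟩ := hbij.2 ⟨c, hc⟩
  refine ⟨r, r.2, ?_⟩
  have e := congrArg Subtype.val hx
  have e2 : ((x : R) : L) = c := e
  rw [← e2, ← hr, hf]

/-- Involutory lifts. -/
theorem AD.lift (h : AD R π) {u : L} (hu2 : π u * π u = 1) (hu1 : π u ≠ 1) :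
    ∃ t, π t = π u ∧ t * t = 1 ∧ t ≠ 1 := by
  obtain ⟨hcomm, hel⟩ := h.elem
  have hsq : u * u ∈ R := by
    rw [← h.ker, map_mul, hu2]
  have hc : u * u ∈ Cu R u := mem_Cu.mpr ⟨hsq, by group⟩
  obtain ⟨r, hr, he⟩ := (h.cent hu2 hu1).2 _ hc
  have hrR : π r = 1 := (h.ker r).mpr hr
  refine ⟨u * r, by rw [map_mul, hrR, mul_one], ?_, ?_⟩
  · have e1 : u * r * u⁻¹ = (u * u) * r := by
      rw [← he]
      group
    have e2 := hel _ hsq
    have e3 := hel _ hr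
    calc u * r * (u * r) = (u * r * u⁻¹) * ((u * u) * r) := by group
      _ = ((u * u) * r) * ((u * u) * r) := by rw [e1]
      _ = ((u * u) * r) * (r * (u * u)) := by rw [hcomm _ hsq _ hr]
      _ = (u * u) * (r * r) * (u * u) := by group
      _ = 1 := by rw [e3, mul_one, e2]
  · intro h1
    apply hu1
    have : π (u * r) = 1 := by rw [h1, map_one]
    rwa [map_mul, hrR, mul_one] at this

/-- Real elements of order three and five. -/
theorem AD.real3 (h : AD R π) : ∃ t g : L, t * t = 1 ∧ t ≠ 1 ∧ orderOf g = 3 ∧ t * g * t⁻¹ = g⁻¹ := by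
  obtain ⟨a1, a2, -, -, a3, a4, -, -⟩ := t_facts
  obtain ⟨i1, -, -, i2, -⟩ := v_inv
  obtain ⟨u, hu⟩ := h.surj va
  obtain ⟨v, hv⟩ := h.surj t3
  obtain ⟨t₁, h1, h2, h3⟩ := h.lift (u := u) (by rw [hu, i1]) (by rw [hu]; exact i2)
  obtain ⟨t₂, h4, h5, -⟩ := h.lift (u := v) (by rw [hv, a1]) (by rw [hv]; exact a2)
  refine ⟨t₁, t₁ * t₂, h2, h3, h.ord3 (by rw [map_mul, h1, h4, hu, hv, a3]) (by rw [map_mul, h1, h4, hu, hv]; exact a4), ?_⟩
  have e1 : t₁⁻¹ = t₁ := inv_eq_of_mul_eq_one_left h2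
  have e2 : t₂⁻¹ = t₂ := inv_eq_of_mul_eq_one_left h5
  rw [mul_inv_rev, e1, e2, ← mul_assoc, h2, one_mul]

theorem AD.real5 (h : AD R π) : ∃ t g : L, t * t = 1 ∧ t ≠ 1 ∧ orderOf g = 5 ∧ t * g * t⁻¹ = g⁻¹ := by
  obtain ⟨-, -, a1, a2, -, -, a3, a4⟩ := t_facts
  obtain ⟨i1, -, -, i2, -⟩ := v_inv
  obtain ⟨u, hu⟩ := h.surj va
  obtain ⟨v, hv⟩ := h.surj t5
  obtain ⟨t₁, h1, h2, h3⟩ := h.lift (u := u) (by rw [hu, i1]) (by rw [hu]; exact i2)
  obtain ⟨t₂, h4, h5, -⟩ := h.lift (u := v) (by rw [hv, a1]) (by rw [hv]; exact a2)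
  refine ⟨t₁, t₁ * t₂, h2, h3, h.ord5 (by rw [map_mul, h1, h4, hu, hv, a3]) (by rw [map_mul, h1, h4, hu, hv]; exact a4), ?_⟩
  have e1 : t₁⁻¹ = t₁ := inv_eq_of_mul_eq_one_left h2
  have e2 : t₂⁻¹ = t₂ := inv_eq_of_mul_eq_one_left h5
  rw [mul_inv_rev, e1, e2, ← mul_assoc, h2, one_mul]

/-- A lift of `xb`. -/
lemma AD.exists_x (h : AD R π) : ∃ x, π x = xb ∧ x * x * x = 1 ∧ orderOf x = 3 := by
  obtain ⟨x, hx⟩ := h.surj xb
  obtain ⟨h3, h1, -⟩ := xb_facts
  have hx3 : orderOf x = 3 := h.ord3 (by rw [hx, h3]) (by rw [hx]; exact h1)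
  refine ⟨x, hx, ?_, hx3⟩
  have := pow_orderOf_eq_one x
  rw [hx3] at this
  rw [← this, pow_three']

lemma AD.x_stable (h : AD R π) {x u c : L} (hx : π x = xb) (hxx : x * x * x = 1) (hu : IsV (π u)) (hc : c ∈ R)
    (huc : u * c * u⁻¹ = c) : u * (x * c * x⁻¹) * u⁻¹ = x * c * x⁻¹ := by
  obtain ⟨h3, h1⟩ := hu.xmul
  obtain ⟨hb3, hb1, -⟩ := xb_facts
  have hfx : ∀ c ∈ R, x * c * x⁻¹ = c → c = 1 :=
    fun c hc hfix => h.fix3 (g := x) (by rw [hx, hb3]) (by rw [hx]; exact hb1) hc hfix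
  have hxu : π (x * u) = xb * π u := by rw [map_mul, hx]
  have hfy : ∀ c ∈ R, (x * u) * c * (x * u)⁻¹ = c → c = 1 :=
    fun c hc hfix => h.fix3 (g := x * u) (by rw [hxu, h3]) (by rw [hxu]; exact h1) hc hfix
  have hy3 : (x * u) * (x * u) * (x * u) = 1 := by
    have := pow_orderOf_eq_one (x * u)
    rw [h.ord3 (by rw [hxu, h3]) (by rw [hxu]; exact h1)] at this
    rw [← this, pow_three']
  have n1 := norm3 (h.mem_Nr x) hxx hfx hc
  have n2 := norm3 (h.mem_Nr (x * u)) hy3 hfy hc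
  have e1 : (x * u) * c * (x * u)⁻¹ = x * c * x⁻¹ := by
    calc (x * u) * c * (x * u)⁻¹ = x * (u * c * u⁻¹) * x⁻¹ := by group
      _ = x * c * x⁻¹ := by rw [huc]
  rw [e1] at n2
  have e2 : (x * u) * (x * c * x⁻¹) * (x * u)⁻¹ = x * (x * c * x⁻¹) * x⁻¹ := by
    have := mul_left_cancel (n2.trans n1.symm)
    exact this
  have e3 : x * (u * (x * c * x⁻¹) * u⁻¹) * x⁻¹ = x * (x * c * x⁻¹) * x⁻¹ := by
    rw [← e2]
    group
  have e4 := mul_right_cancel e3
  exact mul_left_cancel e4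

lemma AD.same_image (h : AD R π) {u v c : L} (he : π v = π u) (hc : c ∈ R) (huc : u * c * u⁻¹ = c) :
    v * c * v⁻¹ = c := by
  obtain ⟨hcomm, -⟩ := h.elem
  have hr : u⁻¹ * v ∈ R := by
    rw [← h.ker, map_mul, map_inv, he, inv_mul_cancel]
  have e := hcomm _ hr _ hc
  calc v * c * v⁻¹ = u * ((u⁻¹ * v) * c) * (u⁻¹ * v)⁻¹ * u⁻¹ := by group
    _ = u * (c * (u⁻¹ * v)) * (u⁻¹ * v)⁻¹ * u⁻¹ := by rw [e]
    _ = u * c * u⁻¹ := by group
    _ = c := huc

lemma AD.x_conj (h : AD R π) {x u v c : L} (hx : π x = xb) (hxx : x * x * x = 1) (hu : IsV (π u))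
    (he : π v = xb * π u * xb⁻¹) (hc : c ∈ R) (huc : u * c * u⁻¹ = c) : v * c * v⁻¹ = c := by
  have he' : π v = π (x * u * x⁻¹) := by
    rw [he, map_mul, map_mul, map_inv, hx]
  apply h.same_image he' hc
  have h1 := h.x_stable hx hxx hu hc huc
  have h2 := h.x_stable hx hxx hu (h.conj hc x) h1
  have hxi : x⁻¹ = x * x := by
    rw [inv_eq_iff_mul_eq_one, ← mul_assoc]
    exact hxx
  have e : x⁻¹ * c * x = x * (x * c * x⁻¹) * x⁻¹ := by
    have hxi2 : x = x⁻¹ * x⁻¹ := by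
      rw [hxi]
      calc x = x * x * x * x := by rw [hxx, one_mul]
        _ = x * x * (x * x) := by group
    calc x⁻¹ * c * x = (x * x) * c * (x⁻¹ * x⁻¹) := by rw [← hxi2, hxi]
      _ = _ := by group
  calc (x * u * x⁻¹) * c * (x * u * x⁻¹)⁻¹ = x * (u * (x⁻¹ * c * x) * u⁻¹) * x⁻¹ := by group
    _ = x * (x⁻¹ * c * x) * x⁻¹ := by rw [e, h2]
    _ = c := by group

/-- All of the elements over the four-group have the same centralizer in `R`. -/
theorem AD.cent_eq (h : AD R π) {u v c : L} (hu : IsV (π u)) (hv : IsV (π v)) (hc : c ∈ R)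
    (huc : u * c * u⁻¹ = c) : v * c * v⁻¹ = c := by
  obtain ⟨x, hx, hxx, -⟩ := h.exists_x
  rcases hu.reach hv with e | e | e
  · exact h.same_image e hc huc
  · exact h.x_conj hx hxx hu e hc huc
  · obtain ⟨w, hw⟩ := h.surj (xb * π u * xb⁻¹)
    have h1 := h.x_conj hx hxx hu hw hc huc
    have hw' : IsV (π w) := by rw [hw]; exact hu.xconj
    exact h.x_conj hx hxx hw' (by rw [e, hw]) hc h1

/-- The preimage of the four-group. -/
def T1 (π : L →* A5) : Subgroup L := V4.comap π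

lemma mem_T1 {g : L} : g ∈ T1 π ↔ π g = 1 ∨ IsV (π g) := Iff.rfl

/-- The order of `L`. -/
theorem AD.card_L (h : AD R π) : Nat.card L = Nat.card R * 60 := by
  have hker : π.ker = R := by
    ext g
    rw [MonoidHom.mem_ker, h.ker]
  have h1 := Subgroup.card_mul_index π.ker
  rw [Subgroup.index_ker, MonoidHom.range_eq_top.mpr h.surj, Subgroup.card_top, card_A5, hker] at h1
  exact h1.symm

theorem AD.card_T1 (h : AD R π) : Nat.card (T1 π) = 4 * Nat.card R := by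
  have h1 := Subgroup.card_mul_index (T1 π)
  have h2 : (T1 π).index = V4.index := Subgroup.index_comap_of_surjective V4 h.surj
  have h3 := Subgroup.card_mul_index V4
  rw [card_A5, card_V4] at h3
  have h4 : V4.index = 15 := by omega
  rw [h2, h4, h.card_L] at h1
  have : 0 < Nat.card R := Nat.card_pos
  omega

lemma AD.T1_two (h : AD R π) : IsPGroup 2 (T1 π) := by
  apply isPGroup_of_two
  intro g hg
  rcases hg with hg | hg
  · exact two_of_mem h.r2 ((h.ker g).mp hg)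
  · obtain ⟨h2, h1⟩ := hg.inv
    have hd : 2 ∣ orderOf g := by
      rw [← order_two_of _ h2 h1]
      exact orderOf_map_dvd π g
    have := h.q.pow_four_of_two hd
    have hd4 : orderOf g ∣ 2 ^ 2 := orderOf_dvd_of_pow_eq_one (by norm_num; exact this)
    obtain ⟨j, -, hj⟩ := (Nat.dvd_prime_pow Nat.prime_two).mp hd4
    exact ⟨j, hj⟩

lemma AD.R_le_T1 (h : AD R π) : R ≤ T1 π := fun r hr => Or.inl ((h.ker r).mpr hr)


/-- The centralizer in `R` of the preimage of the four-group. -/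
def ZZ (R : Subgroup L) (π : L →* A5) : Subgroup L := R ⊓ Subgroup.centralizer (T1 π : Set L)

lemma mem_ZZ {c : L} : c ∈ ZZ R π ↔ c ∈ R ∧ ∀ t ∈ T1 π, t * c * t⁻¹ = c := by
  unfold ZZ
  rw [Subgroup.mem_inf, Subgroup.mem_centralizer_iff]
  constructor
  · rintro ⟨h1, h2⟩
    refine ⟨h1, fun t ht => ?_⟩
    rw [h2 t ht]
    group
  · rintro ⟨h1, h2⟩
    refine ⟨h1, fun t ht => ?_⟩
    have := h2 t ht
    rw [mul_inv_eq_iff_eq_mul] at this
    exact this

theorem AD.Cu_eq (h : AD R π) {u : L} (hu : IsV (π u)) : Cu R u = ZZ R π := by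
  obtain ⟨hcomm, -⟩ := h.elem
  ext c
  rw [mem_Cu, mem_ZZ]
  constructor
  · rintro ⟨hc, huc⟩
    refine ⟨hc, fun t ht => ?_⟩
    rcases ht with ht | ht
    · rw [hcomm _ ((h.ker t).mp ht) _ hc]
      group
    · exact h.cent_eq hu ht hc huc
  · rintro ⟨hc, hall⟩
    exact ⟨hc, hall u (Or.inr hu)⟩

theorem AD.card_ZZ (h : AD R π) : Nat.card (ZZ R π) * Nat.card (ZZ R π) = Nat.card R := by
  obtain ⟨u, hu⟩ := h.surj va
  have hV : IsV (π u) := by rw [hu]; exact Or.inl rfl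
  have := (h.cent hV.inv.1 hV.inv.2).1
  rwa [h.Cu_eq hV] at this

theorem AD.comm_surj (h : AD R π) {u : L} (hu : IsV (π u)) {c : L} (hc : c ∈ ZZ R π) :
    ∃ r ∈ R, u * r * u⁻¹ * r⁻¹ = c := by
  apply (h.cent hu.inv.1 hu.inv.2).2
  rwa [h.Cu_eq hu]

/-- Elements of `R` centralized by an element over a non-identity element of the four-group. -/
theorem AD.mem_ZZ_of (h : AD R π) {u c : L} (hu : IsV (π u)) (hc : c ∈ R) (huc : u * c * u⁻¹ = c) :
    c ∈ ZZ R π := by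
  rw [← h.Cu_eq hu]
  exact mem_Cu.mpr ⟨hc, huc⟩

theorem AD.x_ZZ (h : AD R π) {x c : L} (hx : π x = xb) (hxx : x * x * x = 1) (hc : c ∈ ZZ R π) :
    x * c * x⁻¹ ∈ ZZ R π := by
  obtain ⟨u, hu⟩ := h.surj va
  have hV : IsV (π u) := by rw [hu]; exact Or.inl rfl
  obtain ⟨hcR, hall⟩ := mem_ZZ.mp hc
  exact h.mem_ZZ_of hV (h.conj hcR x) (h.x_stable hx hxx hV hcR (hall u (Or.inr hV)))

/-- Fixed points of an automorphism of order three. -/
theorem card_mod_of_fpf3 {G : Type*} [Group G] [Finite G] (A : Subgroup G) (x : G) (hxx : x * x * x = 1)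
    (hn : ∀ a ∈ A, x * a * x⁻¹ ∈ A) (hfix : ∀ a ∈ A, x * a * x⁻¹ = a → a = 1) : Nat.card A % 3 = 1 := by
  classical
  haveI : Fact (Nat.Prime 3) := ⟨by norm_num⟩
  letI : Fintype A := Fintype.ofFinite A
  let F : Function.End A := fun a => ⟨x * a * x⁻¹, hn a a.2⟩
  have hF : F ^ 3 ^ 1 = 1 := by
    funext a
    apply Subtype.ext
    show x * (x * (x * (a : G) * x⁻¹) * x⁻¹) * x⁻¹ = a
    calc x * (x * (x * (a : G) * x⁻¹) * x⁻¹) * x⁻¹ = (x * x * x) * (a : G) * (x * x * x)⁻¹ := by group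
      _ = a := by rw [hxx]; group
  have h1 := Equiv.Perm.card_fixedPoints_modEq (f := F) (p := 3) (n := 1) hF
  have h2 : Fintype.card (Function.fixedPoints F) = 1 := by
    rw [Fintype.card_eq_one_iff]
    refine ⟨⟨1, ?_⟩, ?_⟩
    · apply Subtype.ext
      show x * 1 * x⁻¹ = 1
      group
    · rintro ⟨a, ha⟩
      apply Subtype.ext
      apply Subtype.ext
      have : x * (a : G) * x⁻¹ = a := congrArg Subtype.val ha
      exact hfix a a.2 this
  rw [h2, ← Nat.card_eq_fintype_card] at h1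
  exact h1

theorem AD.card_Z_cases (h : AD R π) (hR : R ≠ ⊥) : Nat.card (ZZ R π) = 4 ∨ 16 ≤ Nat.card (ZZ R π) := by
  have hZ2 : IsPGroup 2 (ZZ R π) := h.r2.to_le inf_le_left
  obtain ⟨k, hk⟩ := IsPGroup.iff_card.mp hZ2
  obtain ⟨x, hx, hxx, hx3⟩ := h.exists_x
  obtain ⟨hb3, hb1, -⟩ := xb_facts
  have hm := card_mod_of_fpf3 (ZZ R π) x hxx (fun a ha => h.x_ZZ hx hxx ha)
    (fun a ha hfix => h.fix3 (g := x) (by rw [hx, hb3]) (by rw [hx]; exact hb1) (mem_ZZ.mp ha).1 hfix)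
  have hc := h.card_ZZ
  have hR1 : Nat.card R ≠ 1 := fun h1 => hR (Subgroup.card_eq_one.mp h1)
  rw [hk] at hm hc ⊢
  have hk0 : k ≠ 0 := by
    rintro rfl
    simp at hc
    exact hR1 hc.symm
  have hk1 : k ≠ 1 := by
    rintro rfl
    norm_num at hm
  have hk3 : k ≠ 3 := by
    rintro rfl
    norm_num at hm
  by_cases hk2 : k = 2
  · left
    rw [hk2]
    norm_num
  · right
    have : 4 ≤ k := by omega
    calc 16 = 2 ^ 4 := by norm_num
      _ ≤ 2 ^ k := Nat.pow_le_pow_right (by norm_num) this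


end Loc

end Cfsg.Agent.Lib.Spec5
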