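import Mathlib
import Cfsg.Agent.Lib.Spec5Tame7
import Cfsg.Agent.S0112
import Cfsg.Agent.S3919

/-!
# The Sylow 2-subgroup is dihedral: generation by two involutions.
-/

set_option autoImplicit false

namespace Cfsg.Agent.Lib.Spec5

universe u

open scoped commutatorElement

variable {G : Type u} [Group G] [Finite G] {T : Sylow 2 G} {R : Subgroup G} {y : G}

/-- A cyclic group in which all squares are trivial has at most two elements. -/
lemma card_le_two_of_cyclic {X : Type*} [Group X] [Finite X] [IsCyclic X] (h : ∀ a : X, a * a = 1) :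
    Nat.card X ≤ 2 := by
  obtain ⟨g, hg⟩ := IsCyclic.exists_ofOrder_eq_natCard (α := X)
  rw [← hg]
  have h1 : g ^ 2 = 1 := by
    rw [sq]
    exact h g
  exact Nat.le_of_dvd (by norm_num) (orderOf_dvd_of_pow_eq_one h1)

section

variable (hP : IsP G) (hS : SmallT T R y) (hV : R ≤ omZ R) {z : G} (hz : z ∈ omZ (T : Subgroup G)) (hz1 : z ≠ 1)

include hP hS hV hz hz1

/-- The non-commutativity of `T`. -/
theorem SmallT.exists_noncentral : ∃ x ∈ (T : Subgroup G), ∃ t ∈ (T : Subgroup G), x * t ≠ t * x := by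
  obtain ⟨x, hx, hx1, hxz⟩ := hS.exists_x hP hz hz1
  refine ⟨x, hS.tame.le hx.1, ?_⟩
  by_contra hc
  push Not at hc
  apply hxz
  exact hS.z_unique hP hz hz1 ⟨hS.tame.le hx.1, hc, hx.2.2⟩ hx1

/-- `T` has self-centralizing non-cyclic subgroups. -/
theorem SmallT.self_cent : ∀ H : Subgroup (T : Subgroup G), ¬ IsCyclic ↥H →
    Subgroup.centralizer (H : Set (T : Subgroup G)) ≤ H := by
  haveI : Fact (Nat.Prime 2) := ⟨Nat.prime_two⟩
  obtain ⟨x, hx, hx1, hxz⟩ := hS.exists_x hP hz hz1
  have hRT := hS.tame.le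
  obtain ⟨n, hn⟩ := IsPGroup.iff_card.mp T.isPGroup'
  set A : Subgroup (T : Subgroup G) := R.subgroupOf T with hA
  have hAcard : Nat.card A = 2 ^ 2 := by
    have h1 : Nat.card A = Nat.card R := Nat.card_congr (Subgroup.subgroupOfEquivOfLe hRT).toEquiv
    have h2 : R = omZ R := le_antisymm hV (omZ_le R)
    rw [h1, h2, ← h2, h2, hS.card]
    norm_num
  have hC : Subgroup.centralizer (A : Set (T : Subgroup G)) = A := by
    apply le_antisymm
    · intro c hc
      rw [Subgroup.mem_centralizer_iff] at hc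
      have h1 := hc ⟨x, hRT hx.1⟩ (Subgroup.mem_subgroupOf.mpr hx.1)
      have h2 : x * (c : G) = (c : G) * x := congrArg Subtype.val h1
      exact Subgroup.mem_subgroupOf.mpr (hS.cent_le hP hz hz1 hx hx1 hxz c.2 h2.symm)
    · intro a ha
      rw [Subgroup.mem_centralizer_iff]
      intro b hb
      apply Subtype.ext
      have h1 : (a : G) ∈ R := Subgroup.mem_subgroupOf.mp ha
      have h2 : (b : G) ∈ R := Subgroup.mem_subgroupOf.mp hb
      exact (hV h2).2.1 _ h1
  have hcl := Cfsg.Agent.S0112.result (p := 2) n hn A hAcard hC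
  have hn2 : 2 ≤ n := by
    have h1 : Nat.card A ∣ Nat.card (T : Subgroup G) := Subgroup.card_subgroup_dvd_card A
    rw [hAcard, hn] at h1
    exact (Nat.pow_dvd_pow_iff_le_right (by norm_num)).mp h1
  have hna : ¬ IsMulCommutative (T : Subgroup G) := by
    intro hcomm
    obtain ⟨a, ha, b, hb, hab⟩ := hS.exists_noncentral hP hV hz hz1
    apply hab
    have := hcomm.is_comm.comm ⟨a, ha⟩ ⟨b, hb⟩
    exact congrArg Subtype.val this
  refine (Cfsg.Agent.S3919.result hna n hn).mpr ?_
  intro hb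
  haveI : Group.IsNilpotent ↥(T : Subgroup G) := T.isPGroup'.isNilpotent
  rw [Subgroup.lowerCentralSeries_eq_bot_iff_nilpotencyClass_le, hcl] at hb
  omega

/-- Tame subgroups are of exponent two. -/
theorem SmallT.tame_el {R' : Subgroup G} (h' : Tame T R') (hIH : SolH G) : ∀ r ∈ R', r * r = 1 := by
  obtain ⟨y', hL'⟩ := h'.exists_loc hP hIH
  have hRT := h'.le
  have hcard : ¬ Nat.card (omZ R') ≤ 2 := by
    intro h2
    have h3 := card_four_of_le hP hL' h'.two h'.ne_bot (h2.trans (by norm_num))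
    omega
  have hET : omZ R' ≤ (T : Subgroup G) := (omZ_le R').trans hRT
  have hcardH : Nat.card ((omZ R').subgroupOf T) = Nat.card (omZ R') :=
    Nat.card_congr (Subgroup.subgroupOfEquivOfLe hET).toEquiv
  have hnc : ¬ IsCyclic ↥((omZ R').subgroupOf T) := by
    intro hc
    apply hcard
    rw [← hcardH]
    apply card_le_two_of_cyclic
    rintro ⟨⟨a, haT⟩, ha⟩
    apply Subtype.ext
    apply Subtype.ext
    exact (Subgroup.mem_subgroupOf.mp ha).2.2
  have h1 := hS.self_cent hP hV hz hz1 _ hnc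
  intro r hr
  have h2 : (⟨r, hRT hr⟩ : (T : Subgroup G)) ∈ Subgroup.centralizer (((omZ R').subgroupOf T : Subgroup (T : Subgroup G)) : Set (T : Subgroup G)) := by
    rw [Subgroup.mem_centralizer_iff]
    intro e he
    apply Subtype.ext
    exact ((Subgroup.mem_subgroupOf.mp he).2.1 r hr)
  have h3 := h1 h2
  exact (Subgroup.mem_subgroupOf.mp h3).2.2

/-- The commutator subgroup is large. -/
theorem SmallT.card_le_comm : Nat.card (T : Subgroup G) ≤ 4 * Nat.card ↥⁅(T : Subgroup G), (T : Subgroup G)⁆ := by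
  obtain ⟨x, hx, hx1, hxz⟩ := hS.exists_x hP hz hz1
  have hRT := hS.tame.le
  have hxT : x ∈ (T : Subgroup G) := hRT hx.1
  set A : Subgroup (T : Subgroup G) := R.subgroupOf T with hA
  have hAcard : Nat.card A = 4 := by
    have h1 : Nat.card A = Nat.card R := Nat.card_congr (Subgroup.subgroupOfEquivOfLe hRT).toEquiv
    have h2 : R = omZ R := le_antisymm hV (omZ_le R)
    rw [h1, h2, ← h2, h2, hS.card]
  let φ : ↥(T : Subgroup G) → ↥⁅(T : Subgroup G), (T : Subgroup G)⁆ := fun g =>
    ⟨(g : G) * x * (g : G)⁻¹ * x⁻¹, Subgroup.commutator_mem_commutator g.2 hxT⟩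
  have hφ : ∀ g h : ↥(T : Subgroup G), φ g = φ h ↔ g⁻¹ * h ∈ A := by
    intro g h
    constructor
    · intro e
      have e1 : (g : G) * x * (g : G)⁻¹ * x⁻¹ = (h : G) * x * (h : G)⁻¹ * x⁻¹ := congrArg Subtype.val e
      have e2 : (g : G) * x * (g : G)⁻¹ = (h : G) * x * (h : G)⁻¹ := mul_right_cancel e1
      apply Subgroup.mem_subgroupOf.mpr
      have hmem : ((g⁻¹ * h : ↥(T : Subgroup G)) : G) ∈ (T : Subgroup G) := (g⁻¹ * h).2
      apply hS.cent_le hP hz hz1 hx hx1 hxz hmem
      simp only [Subgroup.coe_mul, Subgroup.coe_inv]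
      calc (g : G)⁻¹ * h * x = (g : G)⁻¹ * (h * x * (h : G)⁻¹) * h := by group
        _ = (g : G)⁻¹ * (g * x * (g : G)⁻¹) * h := by rw [e2]
        _ = x * ((g : G)⁻¹ * h) := by group
    · intro hm
      have hm' : (g : G)⁻¹ * h ∈ R := by
        have := Subgroup.mem_subgroupOf.mp hm
        simpa using this
      have hc : x * ((g : G)⁻¹ * h) = ((g : G)⁻¹ * h) * x := hx.2.1 _ hm'
      apply Subtype.ext
      change (g : G) * x * (g : G)⁻¹ * x⁻¹ = (h : G) * x * (h : G)⁻¹ * x⁻¹
      congr 1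
      calc (g : G) * x * (g : G)⁻¹ = g * (x * ((g : G)⁻¹ * h)) * (h : G)⁻¹ := by group
        _ = g * (((g : G)⁻¹ * h) * x) * (h : G)⁻¹ := by rw [hc]
        _ = (h : G) * x * (h : G)⁻¹ := by group
  let f : ↥(T : Subgroup G) ⧸ A → ↥⁅(T : Subgroup G), (T : Subgroup G)⁆ :=
    Quotient.lift φ (by
      intro a b hab
      have h1 : a⁻¹ * b ∈ A := QuotientGroup.leftRel_apply.mp hab
      exact (hφ a b).mpr h1)
  have hf : Function.Injective f := by
    intro a b
    induction a using Quotient.inductionOn with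
    | h a =>
      induction b using Quotient.inductionOn with
      | h b =>
        intro hab
        have h1 : φ a = φ b := hab
        exact Quotient.sound (QuotientGroup.leftRel_apply.mpr ((hφ a b).mp h1))
  have h1 := Nat.card_le_card_of_injective f hf
  rw [Subgroup.card_eq_card_quotient_mul_card_subgroup A, hAcard, mul_comm]
  exact Nat.mul_le_mul_left 4 h1

end

end Cfsg.Agent.Lib.Spec5
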