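import Mathlib
import Cfsg.Agent.Lib.SylowNum

/-!
# Groups all of whose conjugacy classes have squarefree size: basics and Sylow estimates.
-/

set_option autoImplicit false
set_option linter.unusedSectionVars false
set_option linter.unusedVariables false
set_option linter.style.haveILetI false

namespace Cfsg.Agent.Lib.SqfClass

open Subgroup
open scoped commutatorElement Pointwise

universe u

/-- All conjugacy classes have squarefree size. -/
def SqfC (G : Type u) [Group G] : Prop :=
  ∀ x : G, Squarefree (centralizer ({x} : Set G)).index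

variable {G : Type u} [Group G]

theorem SqfC.relIndex_squarefree (h : SqfC G) (x : G) (N : Subgroup G) [N.Normal] [Finite G] :
    Squarefree ((centralizer ({x} : Set G)).relIndex N) :=
  (h x).squarefree_of_dvd (SylowNum.relIndex_normal_dvd_index _ N)

theorem SqfC.normal [Finite G] (h : SqfC G) (N : Subgroup G) [N.Normal] : SqfC N := by
  intro x
  have : centralizer ({x} : Set N) = (centralizer ({(x : G)} : Set G)).subgroupOf N := by
    ext y
    simp [mem_centralizer_singleton_iff, Subgroup.mem_subgroupOf, Subtype.ext_iff]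
  rw [this]
  exact h.relIndex_squarefree x N

theorem SqfC.quotient [Finite G] (h : SqfC G) (N : Subgroup G) [N.Normal] : SqfC (G ⧸ N) := by
  intro x
  obtain ⟨g, rfl⟩ := QuotientGroup.mk'_surjective N x
  have hle : centralizer ({g} : Set G) ≤
      (centralizer ({QuotientGroup.mk' N g} : Set (G ⧸ N))).comap (QuotientGroup.mk' N) := by
    intro y hy
    rw [mem_centralizer_singleton_iff] at hy
    rw [Subgroup.mem_comap, mem_centralizer_singleton_iff, ← map_mul, ← map_mul, hy]
  have h1 := index_comap_of_surjective (centralizer ({QuotientGroup.mk' N g} : Set (G ⧸ N)))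
    (QuotientGroup.mk'_surjective N)
  rw [← h1]
  exact (h g).squarefree_of_dvd (index_dvd_of_le hle)

/-- A transitive action of a finite group on a set with at least two points has a derangement:
a proper subgroup does not meet all the conjugacy classes. -/
theorem exists_derangement [Finite G] (H : Subgroup G) (hH : H ≠ ⊤) :
    ∃ g : G, ∀ a : G, a⁻¹ * g * a ∉ H := by
  classical
  haveI := Fintype.ofFinite G
  haveI : Fintype (G ⧸ H) := Fintype.ofFinite _
  by_contra hcon
  push Not at hcon
  have hburn := MulAction.sum_card_fixedBy_eq_card_orbits_mul_card_group G (G ⧸ H)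
  haveI : Fintype (MulAction.orbitRel.Quotient G (G ⧸ H)) := Fintype.ofFinite _
  have hone : Fintype.card (MulAction.orbitRel.Quotient G (G ⧸ H)) = 1 := by
    rw [Fintype.card_eq_one_iff]
    refine ⟨Quotient.mk'' (QuotientGroup.mk 1), ?_⟩
    intro y
    induction y using Quotient.inductionOn' with
    | h y =>
      apply Quotient.sound'
      rw [MulAction.orbitRel_apply]
      exact MulAction.mem_orbit_iff.2 (MulAction.exists_smul_eq G _ _)
  have hpos : ∀ g : G, 1 ≤ Fintype.card (MulAction.fixedBy (G ⧸ H) g) := by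
    intro g
    obtain ⟨a, ha⟩ := hcon g
    refine Fintype.card_pos_iff.2 ⟨⟨(QuotientGroup.mk a : G ⧸ H), ?_⟩⟩
    rw [MulAction.mem_fixedBy]
    show (QuotientGroup.mk (g * a) : G ⧸ H) = QuotientGroup.mk a
    rw [QuotientGroup.eq]
    have : (g * a)⁻¹ * a = (a⁻¹ * g * a)⁻¹ * (a⁻¹ * a) := by group
    rw [this, inv_mul_cancel, mul_one]
    exact H.inv_mem ha
  have hone' : 1 < Fintype.card (MulAction.fixedBy (G ⧸ H) (1 : G)) := by
    obtain ⟨b, hb⟩ : ∃ b : G, b ∉ H := by
      by_contra hc
      push Not at hc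
      exact hH (top_le_iff.1 (fun x _ => hc x))
    refine Fintype.one_lt_card_iff.2 ⟨⟨(QuotientGroup.mk 1 : G ⧸ H), by simp⟩,
      ⟨(QuotientGroup.mk b : G ⧸ H), by simp⟩, ?_⟩
    intro heq
    have h2 := congrArg Subtype.val heq
    simp only at h2
    rw [QuotientGroup.eq] at h2
    simp at h2
    exact hb h2
  have hlt : ∑ g : G, 1 < ∑ g : G, Fintype.card (MulAction.fixedBy (G ⧸ H) g) :=
    Finset.sum_lt_sum (fun g _ => hpos g) ⟨1, Finset.mem_univ _, hone'⟩
  have hfin : ∑ g : G, Fintype.card (MulAction.fixedBy (G ⧸ H) g)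
      = Fintype.card (MulAction.orbitRel.Quotient G (G ⧸ H)) * Fintype.card G := by
    convert hburn
  rw [hfin, hone] at hlt
  simp at hlt

/-- Each element centralizes a subgroup of index at most `p` in a Sylow `p`-subgroup. -/
theorem SqfC.exists_sylow_large {p : ℕ} [hp : Fact p.Prime] [Finite G] (h : SqfC G) (x : G) :
    ∃ (P' : Sylow p G) (S : Subgroup G), S ≤ P' ∧ S ≤ centralizer ({x} : Set G) ∧
      Nat.card P' ≤ p * Nat.card S := by
  set C := centralizer ({x} : Set G) with hC
  obtain ⟨Q⟩ : Nonempty (Sylow p C) := inferInstance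
  set S : Subgroup G := (Q : Subgroup C).map C.subtype with hS
  have hSp : IsPGroup p S := by
    refine (Q.isPGroup').map C.subtype
  obtain ⟨P', hP'⟩ := hSp.exists_le_sylow
  refine ⟨P', S, hP', ?_, ?_⟩
  · rw [hS]
    exact Subgroup.map_subtype_le _
  · have hcS : Nat.card S = Nat.card (Q : Subgroup C) :=
      Nat.card_congr (Subgroup.equivMapOfInjective _ C.subtype C.subtype_injective).symm.toEquiv
    rw [hcS, P'.card_eq_multiplicity, Q.card_eq_multiplicity]
    have hmul : Nat.card C * C.index = Nat.card G := C.card_mul_index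
    have hf : (Nat.card G).factorization p = (Nat.card C).factorization p + C.index.factorization p := by
      rw [← hmul, Nat.factorization_mul Nat.card_pos.ne' (Subgroup.index_ne_zero_of_finite)]
      rfl
    have hle : C.index.factorization p ≤ 1 := (h x).natFactorization_le_one p
    rw [hf, pow_add, mul_comm]
    exact Nat.mul_le_mul_right _ (by
      calc p ^ C.index.factorization p ≤ p ^ 1 := Nat.pow_le_pow_right hp.out.pos hle
        _ = p := pow_one p)

/-- The intersection of the subgroups of index at most `p` in `P`. -/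
def Tp (p : ℕ) (P : Subgroup G) : Subgroup G :=
  sInf {M | M ≤ P ∧ Nat.card P ≤ p * Nat.card M}

theorem SqfC.exists_conj_mem_centralizer_Tp {p : ℕ} [hp : Fact p.Prime] [Finite G] (h : SqfC G)
    (P : Sylow p G) (x : G) : ∃ a : G, a⁻¹ * x * a ∈ centralizer (Tp p (P : Subgroup G) : Set G) := by
  obtain ⟨P', S, hSP, hSx, hcard⟩ := h.exists_sylow_large (p := p) x
  obtain ⟨g, hg⟩ := MulAction.exists_smul_eq G P P'
  refine ⟨g, ?_⟩
  rw [mem_centralizer_iff]
  intro t ht
  set M : Subgroup G := S.map (MulAut.conj g⁻¹).toMonoidHom with hM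
  have hMcard : Nat.card M = Nat.card S :=
    Nat.card_congr (Subgroup.equivMapOfInjective _ _ (MulAut.conj g⁻¹).injective).symm.toEquiv
  have hPc : Nat.card (P : Subgroup G) = Nat.card (P' : Subgroup G) := by
    rw [P.card_eq_multiplicity, P'.card_eq_multiplicity]
  have hMP : M ≤ (P : Subgroup G) := by
    rintro _ ⟨w, hw, rfl⟩
    have h1 : w ∈ (P' : Subgroup G) := hSP hw
    rw [← hg, Sylow.coe_subgroup_smul, Subgroup.mem_pointwise_smul_iff_inv_smul_mem] at h1
    simpa [MulAut.smul_def, mul_assoc] using h1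
  have htM : t ∈ M := by
    have : Tp p (P : Subgroup G) ≤ M := sInf_le ⟨hMP, by rw [hMcard, hPc]; exact hcard⟩
    exact this ht
  obtain ⟨w, hw, rfl⟩ := htM
  have hwx := hSx hw
  rw [mem_centralizer_singleton_iff] at hwx
  simp only [MulEquiv.coe_toMonoidHom, MulAut.conj_apply, inv_inv]
  have : g⁻¹ * w * g * (g⁻¹ * x * g) = g⁻¹ * (w * x) * g := by group
  rw [this, hwx]
  group

theorem SqfC.Tp_le_center {p : ℕ} [hp : Fact p.Prime] [Finite G] (h : SqfC G)
    (P : Sylow p G) : Tp p (P : Subgroup G) ≤ center G := by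
  have hC : centralizer (Tp p (P : Subgroup G) : Set G) = ⊤ := by
    by_contra hne
    obtain ⟨x, hx⟩ := exists_derangement _ hne
    obtain ⟨a, ha⟩ := h.exists_conj_mem_centralizer_Tp P x
    exact hx a ha
  intro t ht
  rw [mem_center_iff]
  intro g
  have : g ∈ centralizer (Tp p (P : Subgroup G) : Set G) := by rw [hC]; trivial
  rw [mem_centralizer_iff] at this
  exact (this t ht).symm

/-- Membership of `p`-th powers and commutators in subgroups of index at most `p`. -/
theorem mem_of_index_le {p : ℕ} [hp : Fact p.Prime] [Finite G] {P M : Subgroup G} (hP : IsPGroup p P)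
    (hM : M ≤ P) (hc : Nat.card P ≤ p * Nat.card M) {a b : G} (ha : a ∈ P) (hb : b ∈ P) :
    a ^ p ∈ M ∧ ⁅a, b⁆ ∈ M := by
  by_cases hMP : M = P
  · subst hMP
    exact ⟨M.pow_mem ha p, M.mul_mem (M.mul_mem (M.mul_mem ha hb) (M.inv_mem ha)) (M.inv_mem hb)⟩
  · set M₀ : Subgroup P := M.subgroupOf P with hM₀
    have hcardM₀ : Nat.card M₀ = Nat.card M := Nat.card_congr (Subgroup.subgroupOfEquivOfLe hM).toEquiv
    have hidx : M₀.index * Nat.card M = Nat.card P := by
      rw [← hcardM₀, mul_comm]; exact M₀.card_mul_index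
    have hpos : 0 < Nat.card M := Nat.card_pos
    have hle : M₀.index ≤ p := by
      by_contra hlt
      push Not at hlt
      have : p * Nat.card M < M₀.index * Nat.card M := Nat.mul_lt_mul_of_pos_right hlt hpos
      omega
    have hne1 : M₀.index ≠ 1 := by
      intro h1
      rw [h1, one_mul] at hidx
      exact hMP (Subgroup.eq_of_le_of_card_ge hM (by omega))
    obtain ⟨k, hk⟩ : ∃ k, M₀.index = p ^ k := by
      have hd : M₀.index ∣ p ^ (Nat.card P).factorization p := by
        have : M₀.index ∣ Nat.card P := ⟨_, hidx.symm⟩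
        obtain ⟨n, hn⟩ := IsPGroup.iff_card.1 hP
        rw [hn] at this ⊢
        rw [Nat.Prime.factorization_self hp.out |> fun _ => (Nat.factorization_pow p n)]
        simpa [hp.out.factorization_self] using this
      obtain ⟨k, -, hk⟩ := (Nat.dvd_prime_pow hp.out).1 hd
      exact ⟨k, hk⟩
    have hidxp : M₀.index = p := by
      rcases k with _ | k
      · rw [pow_zero] at hk; exact absurd hk hne1
      · have : p ≤ p ^ (k + 1) := by
          calc p = p ^ 1 := (pow_one p).symm
            _ ≤ p ^ (k + 1) := Nat.pow_le_pow_right hp.out.pos (by omega)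
        omega
    have hmin : (Nat.card P).minFac = p := by
      obtain ⟨n, hn⟩ := IsPGroup.iff_card.1 hP
      have hn0 : n ≠ 0 := by
        rintro rfl
        rw [pow_zero] at hn
        have := hidx
        rw [hn, hidxp] at this
        have h2 := hp.out.two_le
        have h3 : 1 < p * Nat.card M := by nlinarith
        omega
      rw [hn]
      exact (Nat.Prime.pow_minFac hp.out hn0)
    have hN : M₀.Normal := normal_of_index_eq_minFac_card (by rw [hidxp, hmin])
    have hcq : Nat.card (P ⧸ M₀) = p := by rw [← Subgroup.index_eq_card]; exact hidxp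
    haveI : IsCyclic (P ⧸ M₀) := isCyclic_of_prime_card hcq
    set A : P := ⟨a, ha⟩
    set B : P := ⟨b, hb⟩
    have h1 : (A ^ p : P) ∈ M₀ := by
      rw [← QuotientGroup.eq_one_iff, QuotientGroup.mk_pow, ← hcq]
      exact pow_card_eq_one'
    have h2 : (⁅A, B⁆ : P) ∈ M₀ := by
      rw [← QuotientGroup.eq_one_iff]
      have : ((A : P ⧸ M₀) * (B : P ⧸ M₀)) = (B : P ⧸ M₀) * (A : P ⧸ M₀) := by
        letI := IsCyclic.commGroup (α := P ⧸ M₀)
        exact mul_comm _ _
      have hh : ((⁅A, B⁆ : P) : P ⧸ M₀) = ⁅(A : P ⧸ M₀), (B : P ⧸ M₀)⁆ := rfl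
      rw [hh, commutatorElement_eq_one_iff_mul_comm]
      exact this
    refine ⟨?_, ?_⟩
    · have := Subgroup.mem_subgroupOf.1 h1
      simpa [A] using this
    · have := Subgroup.mem_subgroupOf.1 h2
      simpa [A, B, commutatorElement_def] using this

theorem SqfC.sylow_elementary {p : ℕ} [hp : Fact p.Prime] [Finite G] (h : SqfC G)
    (hZ : center G = ⊥) (P : Sylow p G) :
    (∀ a ∈ (P : Subgroup G), a ^ p = 1) ∧ ∀ a ∈ (P : Subgroup G), ∀ b ∈ (P : Subgroup G), a * b = b * a := by
  have hT : Tp p (P : Subgroup G) = ⊥ := le_bot_iff.1 (hZ ▸ h.Tp_le_center P)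
  have hmem : ∀ a ∈ (P : Subgroup G), ∀ b ∈ (P : Subgroup G),
      a ^ p ∈ Tp p (P : Subgroup G) ∧ ⁅a, b⁆ ∈ Tp p (P : Subgroup G) := by
    intro a ha b hb
    constructor
    · rw [Tp, mem_sInf]
      rintro M ⟨hM, hc⟩
      exact (mem_of_index_le P.isPGroup' hM hc ha hb).1
    · rw [Tp, mem_sInf]
      rintro M ⟨hM, hc⟩
      exact (mem_of_index_le P.isPGroup' hM hc ha hb).2
  rw [hT] at hmem
  refine ⟨fun a ha => (Subgroup.mem_bot.1 (hmem a ha a ha).1), fun a ha b hb => ?_⟩
  exact commutatorElement_eq_one_iff_mul_comm.1 (Subgroup.mem_bot.1 (hmem a ha b hb).2)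

section count

open Classical in
/-- Double counting of commuting pairs with one member in a conjugation-closed set. -/
theorem sum_commuting_count [Fintype G] (Ω : Finset G)
    (hΩ : ∀ τ ∈ Ω, ∀ g : G, g * τ * g⁻¹ ∈ Ω) :
    ∑ x : G, (Ω.filter fun τ => τ * x = x * τ).card
      = (Ω.image (ConjClasses.mk)).card * Fintype.card G := by
  have h1 : ∑ x : G, (Ω.filter fun τ => τ * x = x * τ).card
      = ∑ τ ∈ Ω, (Finset.univ.filter fun x : G => τ * x = x * τ).card := by
    simp only [Finset.card_filter]
    rw [Finset.sum_comm]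
  rw [h1]
  rw [← Finset.sum_fiberwise_of_maps_to (g := ConjClasses.mk) (t := Ω.image ConjClasses.mk)
    (fun τ hτ => Finset.mem_image_of_mem _ hτ)]
  rw [Finset.card_eq_sum_ones, Finset.sum_mul]
  refine Finset.sum_congr rfl ?_
  intro c hc
  obtain ⟨τ₀, hτ₀, rfl⟩ := Finset.mem_image.1 hc
  set Fib := Ω.filter (fun τ => ConjClasses.mk τ = ConjClasses.mk τ₀) with hFib
  have hcentr : ∀ τ : G, (Finset.univ.filter fun x : G => τ * x = x * τ).card
      = Nat.card (centralizer ({τ} : Set G)) := by
    intro τ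
    rw [Nat.card_eq_fintype_card, Fintype.card_subtype]
    congr 1
    ext x
    simp [mem_centralizer_singleton_iff, eq_comm]
  have hfib : ∀ τ ∈ Fib, Fib.card = (centralizer ({τ} : Set G)).index := by
    intro τ hτ
    have hτ' := (Finset.mem_filter.1 hτ)
    have hcar := ConjClasses.card_carrier τ
    have hidx : (centralizer ({τ} : Set G)).index
        = Fintype.card (ConjClasses.mk τ).carrier := by
      rw [hcar]
      have h2 := (centralizer ({τ} : Set G)).card_mul_index
      rw [Subgroup.nat_card_centralizer_nat_card_stabilizer, Nat.card_eq_fintype_card,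
        Nat.card_eq_fintype_card] at h2
      exact Nat.eq_div_of_mul_eq_right Fintype.card_pos.ne' h2 |>.trans rfl
    rw [hidx, hτ'.2, Fintype.card_of_finset' Fib]
    intro y
    rw [hFib, Finset.mem_filter, ConjClasses.mem_carrier_iff_mk_eq]
    constructor
    · exact fun h => h.2
    · intro hy
      refine ⟨?_, hy⟩
      have : IsConj τ₀ y := ConjClasses.mk_eq_mk_iff_isConj.1 hy.symm
      obtain ⟨g, hg⟩ := isConj_iff.1 this
      rw [← hg]
      exact hΩ τ₀ hτ₀ g
  have hne : Fib.card ≠ 0 := by
    have : τ₀ ∈ Fib := Finset.mem_filter.2 ⟨hτ₀, rfl⟩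
    exact Finset.card_ne_zero_of_mem this
  have hkey : Fib.card * ∑ τ ∈ Fib, (Finset.univ.filter fun x : G => τ * x = x * τ).card
      = Fib.card * Fintype.card G := by
    rw [Finset.mul_sum]
    calc ∑ τ ∈ Fib, Fib.card * (Finset.univ.filter fun x : G => τ * x = x * τ).card
        = ∑ τ ∈ Fib, Fintype.card G := by
          refine Finset.sum_congr rfl ?_
          intro τ hτ
          rw [hcentr τ, hfib τ hτ, mul_comm, Subgroup.card_mul_index, Nat.card_eq_fintype_card]
      _ = Fib.card * Fintype.card G := by simp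
  have := Nat.eq_of_mul_eq_mul_left (Nat.pos_of_ne_zero hne) hkey
  rw [this]
  simp

end count

section orbit

theorem conj_iterate (y z : G) (n : ℕ) :
    (fun w => y * w * y⁻¹)^[n] z = y ^ n * z * (y ^ n)⁻¹ := by
  induction n with
  | zero => simp
  | succ n ih =>
    rw [Function.iterate_succ_apply', ih, pow_succ']
    group

theorem card_orbit_ge {q : ℕ} (hq : q.Prime) {y v : G} (h1 : y ^ q * v = v * y ^ q)
    (h2 : y * v ≠ v * y) (s : Finset G) (hs : v ∈ s) (hs2 : ∀ w ∈ s, y * w * y⁻¹ ∈ s) :
    q ≤ s.card := by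
  classical
  set σ : G → G := fun w => y * w * y⁻¹ with hσ
  have hper : Function.IsPeriodicPt σ q v := by
    show σ^[q] v = v
    rw [hσ, conj_iterate, h1]
    group
  have hd := hper.minimalPeriod_dvd
  have hne1 : Function.minimalPeriod σ v ≠ 1 := by
    intro h3
    have h4 := Function.minimalPeriod_eq_one_iff_isFixedPt.1 h3
    have h5 : y * v * y⁻¹ = v := h4
    exact h2 (mul_inv_eq_iff_eq_mul.1 h5)
  have hmin : Function.minimalPeriod σ v = q := by
    rcases (Nat.dvd_prime hq).1 hd with h | h
    · exact absurd h hne1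
    · exact h
  have hmem : ∀ i : ℕ, σ^[i] v ∈ s := by
    intro i
    induction i with
    | zero => simpa using hs
    | succ i ih =>
      rw [Function.iterate_succ_apply']
      exact hs2 _ ih
  have hinj : Set.InjOn (fun i : ℕ => σ^[i] v) (Finset.range q : Set ℕ) := by
    have h3 := Function.iterate_injOn_Iio_minimalPeriod (f := σ) (x := v)
    rw [hmin] at h3
    intro a ha b hb hab
    exact h3 (by simpa using ha) (by simpa using hb) hab
  have := Finset.card_le_card_of_injOn (fun i : ℕ => σ^[i] v) (fun i _ => hmem i) hinj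
  simpa using this

theorem mem_of_pow_mem_of_coprime {H : Subgroup G} {y : G} {a b : ℕ} (ha : y ^ a ∈ H) (hb : y ^ b ∈ H)
    (hab : a.Coprime b) : y ∈ H := by
  have h1 : y ^ (Nat.gcd a b : ℤ) ∈ H := by
    rw [Nat.gcd_eq_gcd_ab, zpow_add, zpow_mul, zpow_mul]
    simp only [zpow_natCast]
    exact H.mul_mem (H.zpow_mem ha _) (H.zpow_mem hb _)
  rw [Nat.Coprime] at hab
  rw [hab] at h1
  simpa using h1

/-- The commutator map of `y` on an abelian `y`-invariant subgroup. -/
def commHom (P : Subgroup G) (hab : ∀ a ∈ P, ∀ b ∈ P, a * b = b * a) (y : G)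
    (hN : ∀ a ∈ P, y * a * y⁻¹ ∈ P) : P →* G :=
  MonoidHom.mk' (fun v => (v : G)⁻¹ * (y * v * y⁻¹)) (by
    intro u v
    have hu : (u : G)⁻¹ * (y * u * y⁻¹) ∈ P := P.mul_mem (P.inv_mem u.2) (hN _ u.2)
    have hc : (v : G)⁻¹ * ((u : G)⁻¹ * (y * u * y⁻¹)) = ((u : G)⁻¹ * (y * u * y⁻¹)) * (v : G)⁻¹ :=
      hab _ (P.inv_mem v.2) _ hu
    have e1 : ((u * v : P) : G)⁻¹ * (y * (u * v : P) * y⁻¹)
        = (v : G)⁻¹ * ((u : G)⁻¹ * (y * u * y⁻¹)) * (y * v * y⁻¹) := by
      simp only [Subgroup.coe_mul]
      group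
    rw [e1, hc]
    group)

@[simp] theorem commHom_apply (P : Subgroup G) (hab : ∀ a ∈ P, ∀ b ∈ P, a * b = b * a) (y : G)
    (hN : ∀ a ∈ P, y * a * y⁻¹ ∈ P) (v : P) :
    commHom P hab y hN v = (v : G)⁻¹ * (y * v * y⁻¹) := rfl

theorem commHom_eq_one_iff (P : Subgroup G) (hab : ∀ a ∈ P, ∀ b ∈ P, a * b = b * a) (y : G)
    (hN : ∀ a ∈ P, y * a * y⁻¹ ∈ P) (v : P) :
    commHom P hab y hN v = 1 ↔ y * (v : G) = v * y := by
  rw [commHom_apply]
  constructor
  · intro h
    have h1 : y * (v : G) * y⁻¹ = v := by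
      have := congrArg (fun t => (v : G) * t) h
      simpa using this
    exact mul_inv_eq_iff_eq_mul.1 h1
  · intro h
    rw [h]
    group

/-- The size of the image of the commutator map. -/
theorem card_range_commHom (P : Subgroup G) (hab : ∀ a ∈ P, ∀ b ∈ P, a * b = b * a) (y : G)
    (hN : ∀ a ∈ P, y * a * y⁻¹ ∈ P) :
    Nat.card (commHom P hab y hN).range * Nat.card (P ⊓ centralizer ({y} : Set G) : Subgroup G)
      = Nat.card P := by
  have h1 := (commHom P hab y hN).ker.card_mul_index
  rw [Subgroup.index_ker] at h1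
  rw [← h1, mul_comm]
  congr 1
  refine Nat.card_congr ?_
  refine (Subgroup.subgroupOfEquivOfLe (inf_le_left : P ⊓ centralizer ({y} : Set G) ≤ P)).symm.toEquiv.trans
    (Equiv.setCongr ?_)
  ext v
  simp only [Subgroup.mem_subgroupOf, MonoidHom.mem_ker, commHom_eq_one_iff, SetLike.mem_coe,
    Subgroup.mem_inf, mem_centralizer_singleton_iff]
  constructor
  · rintro ⟨-, h⟩
    exact h.symm
  · intro h
    exact ⟨v.2, h.symm⟩

/-- An automorphism of prime order `q > p` of an elementary abelian `p`-group moves a subgroup of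
rank at least two. -/
theorem card_centralizer_mul_sq_le {p q : ℕ} [hp : Fact p.Prime] (hq : q.Prime) (hpq : p < q) [Finite G]
    (P : Subgroup G) (hexp : ∀ a ∈ P, a ^ p = 1) (hab : ∀ a ∈ P, ∀ b ∈ P, a * b = b * a) (y : G)
    (hN : ∀ a ∈ P, y * a * y⁻¹ ∈ P) (hnc : ∃ a ∈ P, y * a ≠ a * y)
    (hqy : ∀ a ∈ P, y ^ q * a = a * y ^ q) :
    Nat.card (P ⊓ centralizer ({y} : Set G) : Subgroup G) * p ^ 2 ≤ Nat.card P := by
  classical
  haveI := Fintype.ofFinite G
  set f := commHom P hab y hN with hf
  set R := f.range with hR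
  have hcard := card_range_commHom P hab y hN
  rw [← hf, ← hR] at hcard
  have hRP : ∀ w ∈ R, w ∈ P := by
    rintro _ ⟨v, rfl⟩
    rw [hf, commHom_apply]
    exact P.mul_mem (P.inv_mem v.2) (hN _ v.2)
  have hRp : IsPGroup p R := by
    intro a
    refine ⟨1, ?_⟩
    apply Subtype.ext
    simpa using hexp _ (hRP _ a.2)
  obtain ⟨j, hj⟩ := IsPGroup.iff_card.1 hRp
  rcases j with _ | _ | j
  · exfalso
    rw [pow_zero] at hj
    have hbot : R = ⊥ := Subgroup.card_eq_one.1 hj
    obtain ⟨a, ha, hne⟩ := hnc
    apply hne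
    have : f ⟨a, ha⟩ ∈ R := ⟨_, rfl⟩
    rw [hbot, Subgroup.mem_bot] at this
    exact (commHom_eq_one_iff P hab y hN ⟨a, ha⟩).1 this
  · exfalso
    rw [zero_add, pow_one] at hj
    have hcomm : ∀ w ∈ R, y * w = w * y := by
      intro w hw
      by_contra hne
      set T : Finset G := (Finset.univ.filter (fun z : G => z ∈ R)).erase 1 with hT
      have hTcard : T.card + 1 = p := by
        have h1 : (1 : G) ∈ Finset.univ.filter (fun z : G => z ∈ R) := by
          simp [R.one_mem]
        rw [hT, Finset.card_erase_add_one h1, ← hj, Nat.card_eq_fintype_card, Fintype.card_subtype]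
      have hwT : w ∈ T := by
        rw [hT, Finset.mem_erase]
        refine ⟨?_, by simpa using hw⟩
        rintro rfl
        exact hne (by simp)
      have hclosed : ∀ z ∈ T, y * z * y⁻¹ ∈ T := by
        intro z hz
        rw [hT, Finset.mem_erase] at hz ⊢
        refine ⟨?_, ?_⟩
        · intro h1
          apply hz.1
          have : z = y⁻¹ * (y * z * y⁻¹) * y := by group
          rw [this, h1]
          group
        · have hzR : z ∈ R := by simpa using hz.2
          obtain ⟨v, rfl⟩ := hzR
          simp only [Finset.mem_filter, Finset.mem_univ, true_and]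
          refine ⟨⟨y * v * y⁻¹, hN _ v.2⟩, ?_⟩
          simp only [hf, commHom_apply]
          group
      have := card_orbit_ge hq (hqy w (hRP w hw)) hne T hwT hclosed
      omega
    obtain ⟨a, ha, hne⟩ := hnc
    apply hne
    rw [← commHom_eq_one_iff P hab y hN ⟨a, ha⟩, ← hf]
    set w := f ⟨a, ha⟩ with hw
    have hwR : w ∈ R := ⟨_, rfl⟩
    have hyw := hcomm w hwR
    have hstep : y * a = a * w * y := by
      rw [hw, hf, commHom_apply]
      simp only
      group
    have hpow : ∀ k : ℕ, y ^ k * a = a * w ^ k * y ^ k := by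
      intro k
      induction k with
      | zero => simp
      | succ k ih =>
        have hc : Commute y (w ^ k) := (show Commute y w from hyw).pow_right k
        calc y ^ (k + 1) * a = y * (y ^ k * a) := by rw [pow_succ']; group
          _ = y * (a * w ^ k * y ^ k) := by rw [ih]
          _ = (y * a) * w ^ k * y ^ k := by group
          _ = (a * w * y) * w ^ k * y ^ k := by rw [hstep]
          _ = a * w * (y * w ^ k) * y ^ k := by group
          _ = a * w * (w ^ k * y) * y ^ k := by rw [hc.eq]
          _ = a * w ^ (k + 1) * y ^ (k + 1) := by rw [pow_succ', pow_succ']; group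
    have hwq : w ^ q = 1 := by
      have h1 := hpow q
      rw [hqy a ha] at h1
      have h2 : a * y ^ q = (a * w ^ q) * y ^ q := h1
      have h3 := mul_right_cancel h2
      have h4 : a * 1 = a * w ^ q := by rw [mul_one]; exact h3
      exact (mul_left_cancel h4).symm
    have hwp : w ^ p = 1 := hexp w (hRP w hwR)
    have hco : q.Coprime p := (Nat.coprime_primes hq hp.out).2 (by omega)
    have : w ∈ (⊥ : Subgroup G) :=
      mem_of_pow_mem_of_coprime (by simp [hwq]) (by simp [hwp]) hco
    exact Subgroup.mem_bot.1 this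
  · rw [← hcard, mul_comm]
    apply Nat.mul_le_mul_right
    rw [hj]
    exact Nat.pow_le_pow_right hp.out.pos (by omega)

end orbit

theorem exists_prime_action {p : ℕ} [hp : Fact p.Prime] [Finite G] (P : Sylow p G)
    (hab : ∀ a ∈ (P : Subgroup G), ∀ b ∈ (P : Subgroup G), a * b = b * a) {y₀ : G}
    (hN : y₀ ∈ normalizer ((P : Subgroup G) : Set G))
    (hC : y₀ ∉ centralizer ((P : Subgroup G) : Set G)) :
    ∃ (y : G) (q : ℕ), q.Prime ∧ q ≠ p ∧ q ∣ Nat.card G ∧ y ∈ normalizer ((P : Subgroup G) : Set G) ∧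
      y ∉ centralizer ((P : Subgroup G) : Set G) ∧ y ^ q ∈ centralizer ((P : Subgroup G) : Set G) := by
  classical
  set H := centralizer ((P : Subgroup G) : Set G) with hH
  have hPH : (P : Subgroup G) ≤ H := by
    intro a ha
    rw [hH, mem_centralizer_iff]
    intro b hb
    exact hab b hb a ha
  have hex : ∃ d : ℕ, 0 < d ∧ y₀ ^ d ∈ H :=
    ⟨orderOf y₀, orderOf_pos y₀, by rw [pow_orderOf_eq_one]; exact H.one_mem⟩
  set d := Nat.find hex with hd
  obtain ⟨hd0, hdH⟩ := Nat.find_spec hex
  have hdmin : ∀ m, 0 < m → m < d → y₀ ^ m ∉ H := by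
    intro m hm hmd hmem
    exact Nat.find_min hex hmd ⟨hm, hmem⟩
  have hd1 : d ≠ 1 := by
    intro h1
    rw [← hd, h1, pow_one] at hdH
    exact hC hdH
  set q := d.minFac with hq
  have hqp : q.Prime := Nat.minFac_prime hd1
  obtain ⟨e, he⟩ : q ∣ d := Nat.minFac_dvd d
  have hy : y₀ ^ e ∉ H := by
    apply hdmin e
    · rcases Nat.eq_zero_or_pos e with h | h
      · rw [h, mul_zero] at he; omega
      · exact h
    · have : 1 < q := hqp.one_lt
      have he0 : 0 < e := by
        rcases Nat.eq_zero_or_pos e with h | h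
        · rw [h, mul_zero] at he; omega
        · exact h
      nlinarith
  have hyq : (y₀ ^ e) ^ q ∈ H := by
    rw [← pow_mul, mul_comm, ← he]
    exact hdH
  refine ⟨y₀ ^ e, q, hqp, ?_, ?_, Subgroup.pow_mem _ hN _, hy, hyq⟩
  · intro hqe
    rw [hqe] at hyq
    set y := y₀ ^ e with hydef
    have hyN : y ∈ normalizer ((P : Subgroup G) : Set G) := Subgroup.pow_mem _ hN _
    obtain ⟨a, b, hb, hab'⟩ := Nat.exists_eq_pow_mul_and_not_dvd (orderOf_pos y).ne' p hp.out.ne_one
    set u := y ^ b with hu
    have huo : u ^ p ^ a = 1 := by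
      rw [hu, ← pow_mul, mul_comm, ← hab', pow_orderOf_eq_one]
    have hup : IsPGroup p (zpowers u) := by
      intro x
      obtain ⟨k, hk⟩ := x.2
      refine ⟨a, ?_⟩
      apply Subtype.ext
      simp only [Subgroup.coe_pow, Subgroup.coe_one]
      rw [← hk]
      simp only
      rw [← zpow_natCast, ← zpow_mul, mul_comm, zpow_mul, zpow_natCast, huo, one_zpow]
    have huN : u ∈ normalizer ((P : Subgroup G) : Set G) := Subgroup.pow_mem _ hyN _
    have hinf : zpowers u ⊓ normalizer ((P : Subgroup G) : Set G) = zpowers u ⊓ (P : Subgroup G) :=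
      hup.inf_normalizer_sylow P
    have huP : u ∈ (P : Subgroup G) := by
      have h1 : u ∈ zpowers u ⊓ normalizer ((P : Subgroup G) : Set G) := ⟨mem_zpowers u, huN⟩
      rw [hinf] at h1
      exact h1.2
    have hcop : b.Coprime p := ((Nat.Prime.coprime_iff_not_dvd hp.out).2 hb).symm
    exact hy (mem_of_pow_mem_of_coprime (hPH huP) hyq hcop)
  · set y := y₀ ^ e with hydef
    have hdvd : q ∣ orderOf y := by
      by_contra hnd
      have hcop : q.Coprime (orderOf y) := (Nat.Prime.coprime_iff_not_dvd hqp).2 hnd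
      exact hy (mem_of_pow_mem_of_coprime hyq (by rw [pow_orderOf_eq_one]; exact H.one_mem) hcop)
    exact hdvd.trans (orderOf_dvd_natCard y)

open Classical in
/-- A non-abelian simple group has a class of size divisible by the square of a prime. -/
theorem SqfC.not_simple [Finite G] (h : SqfC G) (hs : IsSimpleGroup G) (hna : ∃ a b : G, a * b ≠ b * a) :
    False := by
  haveI := Fintype.ofFinite G
  have hZ : center G = ⊥ := by
    rcases (inferInstance : (center G).Normal).eq_bot_or_eq_top with h1 | h1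
    · exact h1
    · exfalso
      obtain ⟨a, b, hab⟩ := hna
      have : a ∈ center G := by rw [h1]; trivial
      exact hab ((mem_center_iff.1 this b).symm)
  have hne1 : Nat.card G ≠ 1 := by
    intro h1
    haveI := (Nat.card_eq_one_iff_unique.1 h1).1
    obtain ⟨a, b, hab⟩ := hna
    exact hab (Subsingleton.elim _ _)
  set p := (Nat.card G).minFac with hpdef
  haveI hp : Fact p.Prime := ⟨Nat.minFac_prime hne1⟩
  have hpd : p ∣ Nat.card G := Nat.minFac_dvd _
  obtain ⟨P⟩ : Nonempty (Sylow p G) := inferInstance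
  have helem := fun Q : Sylow p G => h.sylow_elementary hZ Q
  obtain ⟨hexp, hab⟩ := helem P
  -- the action on `P` is nontrivial
  have hnot : ¬ normalizer ((P : Subgroup G) : Set G) ≤ centralizer ((P : Subgroup G) : Set G) := by
    intro hle
    have hc := MonoidHom.ker_transferSylow_isComplement' P hle
    set K := (MonoidHom.transferSylow P hle).ker with hK
    have hKn : K.Normal := inferInstance
    have hcard : Nat.card K * Nat.card (P : Subgroup G) = Nat.card G := hc.card_mul_card
    rcases hKn.eq_bot_or_eq_top with h1 | h1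
    · rw [h1] at hcard
      simp only [Subgroup.card_bot, one_mul] at hcard
      have htop : (P : Subgroup G) = ⊤ := by
        apply Subgroup.eq_top_of_card_eq
        exact hcard
      obtain ⟨a, b, hne⟩ := hna
      exact hne (hab a (by rw [htop]; trivial) b (by rw [htop]; trivial))
    · rw [h1] at hcard
      simp only [Subgroup.card_top] at hcard
      have hP1 : Nat.card (P : Subgroup G) = 1 := by
        have hpos : 0 < Nat.card G := Nat.card_pos
        nlinarith [Nat.card_pos (α := (P : Subgroup G))]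
      rw [P.card_eq_multiplicity] at hP1
      have hfac : 1 ≤ (Nat.card G).factorization p :=
        hp.out.factorization_pos_of_dvd Nat.card_pos.ne' hpd
      have : 1 < p ^ (Nat.card G).factorization p := Nat.one_lt_pow (by omega) hp.out.one_lt
      omega
  obtain ⟨y₀, hy₀N, hy₀C⟩ := Set.not_subset.1 hnot
  obtain ⟨y, q, hq, hqp, hqd, hyN, hyC, hyq⟩ := exists_prime_action P hab hy₀N hy₀C
  have hpltq : p < q := by
    have : p ≤ q := Nat.minFac_le_of_dvd hq.two_le hqd
    omega
  have hNP : ∀ a ∈ (P : Subgroup G), y * a * y⁻¹ ∈ (P : Subgroup G) := by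
    intro a ha
    exact (mem_normalizer_iff.1 hyN a).1 ha
  have hnc : ∃ a ∈ (P : Subgroup G), y * a ≠ a * y := by
    by_contra hcon
    push Not at hcon
    apply hyC
    rw [mem_centralizer_iff]
    intro a ha
    exact (hcon a ha).symm
  have hqy : ∀ a ∈ (P : Subgroup G), y ^ q * a = a * y ^ q := by
    intro a ha
    exact ((mem_centralizer_iff.1 hyq) a ha).symm
  set C : Subgroup G := (P : Subgroup G) ⊓ centralizer ({y} : Set G) with hC
  have hsq := card_centralizer_mul_sq_le hq hpltq (P : Subgroup G) hexp hab y hNP hnc hqy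
  rw [← hC] at hsq
  set n := Nat.card (P : Subgroup G) with hn
  set f := Nat.card C with hf
  have hcardeq : ∀ Q : Sylow p G, Nat.card (Q : Subgroup G) = n := by
    intro Q
    rw [hn, Q.card_eq_multiplicity, P.card_eq_multiplicity]
  have hfac : (Nat.card G).factorization p ≠ 0 :=
    (hp.out.factorization_pos_of_dvd Nat.card_pos.ne' hpd).ne'
  have hpn : p ∣ n := by
    rw [hn, P.card_eq_multiplicity]
    exact dvd_pow_self p hfac
  obtain ⟨s, hs'⟩ := hpn
  have hnpos : 0 < n := Nat.card_pos
  have hspos : 0 < s := by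
    rcases Nat.eq_zero_or_pos s with h0 | h0
    · rw [h0, mul_zero] at hs'; omega
    · exact h0
  have hp2 : 2 ≤ p := hp.out.two_le
  have hsn : s < n := by rw [hs']; nlinarith
  have hfpos : 0 < f := Nat.card_pos
  set Ω : Finset G := Finset.univ.filter (fun τ => orderOf τ = p) with hΩ
  have hΩconj : ∀ τ ∈ Ω, ∀ g : G, g * τ * g⁻¹ ∈ Ω := by
    intro τ hτ g
    rw [hΩ, Finset.mem_filter] at hτ ⊢
    refine ⟨Finset.mem_univ _, ?_⟩
    have : orderOf (g * τ * g⁻¹) = orderOf τ := by
      have h1 := MulEquiv.orderOf_eq (MulAut.conj g) τ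
      simpa [MulAut.conj_apply] using h1
    rw [this]
    exact hτ.2
  have hsum := sum_commuting_count Ω hΩconj
  set c := (Ω.image ConjClasses.mk).card with hc
  -- elements of Sylow subgroups
  have hΩmem : ∀ (Q : Sylow p G) (z : G), z ∈ (Q : Subgroup G) → z ≠ 1 → z ∈ Ω := by
    intro Q z hz hz1
    rw [hΩ, Finset.mem_filter]
    refine ⟨Finset.mem_univ _, ?_⟩
    exact orderOf_eq_prime ((helem Q).1 z hz) hz1
  have hcardT : ∀ S : Subgroup G, ((Finset.univ.filter (fun z : G => z ∈ S)).erase 1).card + 1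
      = Nat.card S := by
    intro S
    have h1 : (1 : G) ∈ Finset.univ.filter (fun z : G => z ∈ S) := by simp [S.one_mem]
    rw [Finset.card_erase_add_one h1, Nat.card_eq_fintype_card, Fintype.card_subtype]
  have hlow : ∀ x : G, s ≤ (Ω.filter fun τ => τ * x = x * τ).card + 1 := by
    intro x
    obtain ⟨P', S, hSP, hSx, hcP⟩ := h.exists_sylow_large (p := p) x
    rw [hcardeq P', hs'] at hcP
    have hsS : s ≤ Nat.card S := Nat.le_of_mul_le_mul_left hcP hp.out.pos
    have hsub : (Finset.univ.filter (fun z : G => z ∈ S)).erase 1 ⊆ Ω.filter fun τ => τ * x = x * τ := by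
      intro z hz
      rw [Finset.mem_erase, Finset.mem_filter] at hz
      rw [Finset.mem_filter]
      refine ⟨hΩmem P' z (hSP hz.2.2) hz.1, ?_⟩
      have := hSx hz.2.2
      rw [mem_centralizer_singleton_iff] at this
      exact this
    have h1 := Finset.card_le_card hsub
    have h2 := hcardT S
    omega
  have hlow1 : s < (Ω.filter fun τ => τ * (1 : G) = 1 * τ).card + 1 := by
    have hsub : (Finset.univ.filter (fun z : G => z ∈ (P : Subgroup G))).erase 1
        ⊆ Ω.filter fun τ => τ * (1 : G) = 1 * τ := by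
      intro z hz
      rw [Finset.mem_erase, Finset.mem_filter] at hz
      rw [Finset.mem_filter]
      exact ⟨hΩmem P z hz.2.2 hz.1, by simp⟩
    have h1 := Finset.card_le_card hsub
    have h2 := hcardT (P : Subgroup G)
    omega
  have hcs : s ≤ c := by
    by_contra hlt
    push Not at hlt
    have hlt2 : ∑ x : G, s < ∑ x : G, ((Ω.filter fun τ => τ * x = x * τ).card + 1) :=
      Finset.sum_lt_sum (fun x _ => hlow x) ⟨1, Finset.mem_univ _, hlow1⟩
    rw [Finset.sum_add_distrib, hsum] at hlt2
    simp only [Finset.sum_const, Finset.card_univ, smul_eq_mul, mul_one] at hlt2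
    have hG : 0 < Fintype.card G := Fintype.card_pos
    nlinarith
  -- the upper bound
  set F₀ : Finset G := (Finset.univ.filter (fun z : G => z ∈ C)).erase 1 with hF₀
  set E : Finset G := (Finset.univ.filter (fun z : G => z ∈ (P : Subgroup G))).filter
    (fun z => ¬ y * z = z * y) with hE
  have hF₀card : F₀.card + 1 = f := hcardT C
  have hEcard : E.card + f = n := by
    have h1 := Finset.card_filter_add_card_filter_not
      (s := Finset.univ.filter (fun z : G => z ∈ (P : Subgroup G))) (fun z => y * z = z * y)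
    have h2 : (Finset.univ.filter (fun z : G => z ∈ (P : Subgroup G))).card = n := by
      rw [hn, Nat.card_eq_fintype_card, Fintype.card_subtype]
    have h3 : ((Finset.univ.filter (fun z : G => z ∈ (P : Subgroup G))).filter
        (fun z => y * z = z * y)).card = f := by
      rw [hf, Nat.card_eq_fintype_card, Fintype.card_subtype]
      congr 1
      ext z
      simp only [Finset.mem_filter, Finset.mem_univ, true_and, hC, Subgroup.mem_inf,
        mem_centralizer_singleton_iff]
      constructor
      · rintro ⟨a, b⟩; exact ⟨a, b.symm⟩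
      · rintro ⟨a, b⟩; exact ⟨a, b.symm⟩
    rw [h3, h2] at h1
    rw [add_comm]
    convert h1 using 2
  have himg : Ω.image ConjClasses.mk ⊆ F₀.image ConjClasses.mk ∪ E.image ConjClasses.mk := by
    intro b hb
    obtain ⟨τ, hτ, rfl⟩ := Finset.mem_image.1 hb
    have hτo : orderOf τ = p := (Finset.mem_filter.1 hτ).2
    have hτp : IsPGroup p (zpowers τ) := by
      intro x
      obtain ⟨k, hk⟩ := x.2
      refine ⟨1, ?_⟩
      apply Subtype.ext
      simp only [Subgroup.coe_pow, Subgroup.coe_one, pow_one]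
      rw [← hk]
      simp only
      rw [← zpow_natCast, ← zpow_mul, mul_comm, zpow_mul, zpow_natCast, ← hτo, pow_orderOf_eq_one,
        one_zpow]
    obtain ⟨P', hP'⟩ := hτp.exists_le_sylow
    obtain ⟨g, hg⟩ := MulAction.exists_smul_eq G P P'
    set v := g⁻¹ * τ * g with hv
    have hvP : v ∈ (P : Subgroup G) := by
      have h1 : τ ∈ (P' : Subgroup G) := hP' (mem_zpowers τ)
      rw [← hg, Sylow.coe_subgroup_smul, Subgroup.mem_pointwise_smul_iff_inv_smul_mem] at h1
      simpa [MulAut.smul_def, mul_assoc, hv] using h1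
    have hmk : ConjClasses.mk τ = ConjClasses.mk v := by
      rw [ConjClasses.mk_eq_mk_iff_isConj, isConj_iff]
      exact ⟨g⁻¹, by rw [hv]; group⟩
    have hv1 : v ≠ 1 := by
      intro h1
      have : τ = 1 := by
        have h2 : τ = g * v * g⁻¹ := by rw [hv]; group
        rw [h2, h1]; group
      rw [this, orderOf_one] at hτo
      omega
    rw [hmk, Finset.mem_union]
    by_cases hcv : y * v = v * y
    · left
      refine Finset.mem_image_of_mem _ ?_
      rw [hF₀, Finset.mem_erase, Finset.mem_filter]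
      refine ⟨hv1, Finset.mem_univ _, ?_⟩
      rw [hC]
      exact ⟨hvP, mem_centralizer_singleton_iff.2 hcv.symm⟩
    · right
      refine Finset.mem_image_of_mem _ ?_
      rw [hE, Finset.mem_filter, Finset.mem_filter]
      exact ⟨⟨Finset.mem_univ _, hvP⟩, hcv⟩
  have hcle : c ≤ F₀.card + (E.image ConjClasses.mk).card := by
    calc c ≤ (F₀.image ConjClasses.mk ∪ E.image ConjClasses.mk).card := Finset.card_le_card himg
      _ ≤ (F₀.image ConjClasses.mk).card + (E.image ConjClasses.mk).card := Finset.card_union_le _ _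
      _ ≤ F₀.card + (E.image ConjClasses.mk).card := by
          gcongr
          exact Finset.card_image_le
  have hqE : q * (E.image ConjClasses.mk).card ≤ E.card := by
    apply Finset.mul_card_image_le_card
    intro b hb
    obtain ⟨v, hv, rfl⟩ := Finset.mem_image.1 hb
    have hvE := hv
    rw [hE, Finset.mem_filter, Finset.mem_filter] at hv
    apply card_orbit_ge hq (hqy v hv.1.2) hv.2
    · exact Finset.mem_filter.2 ⟨hvE, rfl⟩
    · intro w hw
      rw [Finset.mem_filter, hE, Finset.mem_filter, Finset.mem_filter] at hw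
      rw [Finset.mem_filter, hE, Finset.mem_filter, Finset.mem_filter]
      refine ⟨⟨⟨Finset.mem_univ _, hNP _ hw.1.1.2⟩, ?_⟩, ?_⟩
      · intro h1
        apply hw.1.2
        have h2 : y * (y * w * y⁻¹) = (y * w * y⁻¹) * y := h1
        have h3 : y * (y * w) * y⁻¹ = y * w := by
          calc y * (y * w) * y⁻¹ = y * (y * w * y⁻¹) := by group
            _ = (y * w * y⁻¹) * y := h2
            _ = y * w := by group
        have h4 : y * w * y⁻¹ = w := by
          have := mul_left_cancel (a := y) (b := y * w * y⁻¹) (c := w) (by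
            calc y * (y * w * y⁻¹) = y * (y * w) * y⁻¹ := by group
              _ = y * w := h3)
          exact this
        exact mul_inv_eq_iff_eq_mul.1 h4
      · rw [← hw.2, ConjClasses.mk_eq_mk_iff_isConj, isConj_iff]
        exact ⟨y⁻¹, by group⟩
  -- arithmetic
  obtain ⟨a, rfl⟩ : ∃ a, q = p + 1 + a := ⟨q - (p + 1), by omega⟩
  obtain ⟨b, hb⟩ : ∃ b, p = 2 + b := ⟨p - 2, by omega⟩
  have hfp : f * p ≤ s := by
    have : p * (f * p) ≤ p * s := by rw [← hs']; nlinarith
    exact Nat.le_of_mul_le_mul_left this hp.out.pos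
  zify at hcs hcle hqE hEcard hF₀card hfp hs' hfpos hspos
  set e := ((E.image ConjClasses.mk).card : ℤ)
  have hfE : (F₀.card : ℤ) = (f : ℤ) - 1 := by linarith
  have hEc : (E.card : ℤ) = (n : ℤ) - f := by linarith
  rw [hfE] at hcle
  rw [hEc] at hqE
  have hb0 : (0 : ℤ) ≤ b := by positivity
  have ha0 : (0 : ℤ) ≤ a := by positivity
  have hpz : (p : ℤ) = 2 + b := by exact_mod_cast hb
  push_cast at hqE
  nlinarith [mul_nonneg ha0 hb0, mul_nonneg (mul_nonneg ha0 hb0) (Int.le_of_lt hfpos),
    mul_nonneg ha0 (Int.le_of_lt hfpos), mul_nonneg ha0 hb0,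
    mul_le_mul_of_nonneg_left hcs (show (0 : ℤ) ≤ (p : ℤ) + 1 + a by positivity),
    mul_le_mul_of_nonneg_left hcle (show (0 : ℤ) ≤ (p : ℤ) + 1 + a by positivity),
    mul_le_mul_of_nonneg_left hfp (show (0 : ℤ) ≤ (a : ℤ) + 1 by positivity)]

end Cfsg.Agent.Lib.SqfClass
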