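import Mathlib

/-!
# A parity argument on a strongly regular graph

An automorphism `z` of order three without fixed points of a strongly regular graph with parameters
`(306936, 31671, 3510, 3240)` sends some vertex to a neighbour: the eigenspace of dimension `57477` is
stable under `z`, and on the part where `1 + z + z²` vanishes the operator `2 z + 1` squares to `-3`, so that part has even
dimension.
-/

set_option autoImplicit false
set_option linter.all false

namespace Cfsg.Agent.Lib.SrgPar4

open Matrix

variable {V : Type*} [Fintype V] [DecidableEq V]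

/-- The matrix of a permutation. -/
def mM (z : Equiv.Perm V) : Matrix V V ℚ := Matrix.of fun i j => if z i = j then (1 : ℚ) else 0

theorem mul_mM (B : Matrix V V ℚ) (z : Equiv.Perm V) (i j : V) : (B * mM z) i j = B i (z.symm j) := by
  rw [Matrix.mul_apply]
  have : ∀ k, B i k * mM z k j = if k = z.symm j then B i k else 0 := by
    intro k
    simp only [mM, Matrix.of_apply]
    by_cases h : z k = j
    · have : k = z.symm j := by rw [← h]; simp
      simp [h, this]
    · have : k ≠ z.symm j := by
        intro h1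
        apply h
        rw [h1]; simp
      simp [h, this]
  simp only [this]
  simp

theorem mM_mul (B : Matrix V V ℚ) (z : Equiv.Perm V) (i j : V) : (mM z * B) i j = B (z i) j := by
  rw [Matrix.mul_apply]
  simp [mM, Matrix.of_apply]

theorem exists_adj (G : SimpleGraph V) [DecidableRel G.Adj] (hG : G.IsSRGWith 306936 31671 3510 3240)
    (z : Equiv.Perm V) (hz3 : ∀ v, z (z (z v)) = v) (hfix : ∀ v, z v ≠ v)
    (hinv : ∀ a b, G.Adj (z a) (z b) ↔ G.Adj a b) : ∃ v, G.Adj v (z v) := by
  classical
  by_contra hno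
  push Not at hno
  -- notation
  set A : Matrix V V ℚ := G.adjMatrix ℚ with hA
  set J : Matrix V V ℚ := Matrix.of fun _ _ => (1 : ℚ) with hJ
  set M : Matrix V V ℚ := mM z with hM
  set M2 : Matrix V V ℚ := M * M with hM2
  have hn : Fintype.card V = 306936 := hG.card
  have hsymm : ∀ v, z.symm v = z (z v) := by
    intro v
    rw [Equiv.symm_apply_eq, hz3]
  have hMapp : ∀ i j, M i j = if z i = j then (1 : ℚ) else 0 := fun i j => rfl
  have hM2app : ∀ i j, M2 i j = if z (z i) = j then (1 : ℚ) else 0 := by
    intro i j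
    rw [hM2, hM, mM_mul]
    rfl
  have hMM2 : M * M2 = 1 := by
    ext i j
    rw [hM, mM_mul, hM2app, Matrix.one_apply, hz3]
  have hM2M : M2 * M = 1 := by
    rw [hM2, mul_assoc]
    exact hMM2
  have hM2M2 : M2 * M2 = M := by
    calc M2 * M2 = M2 * M * M := (mul_assoc M2 M M).symm
      _ = M := by rw [hM2M, one_mul]
  have hAM : A * M = M * A := by
    ext i j
    rw [hM, mul_mM, mM_mul, hA, SimpleGraph.adjMatrix_apply, SimpleGraph.adjMatrix_apply]
    have : G.Adj (z i) j ↔ G.Adj i (z.symm j) := by
      rw [← hinv i (z.symm j)]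
      simp
    simp [this]
  have hJM : J * M = J := by
    ext i j
    rw [hM, mul_mM]
    rfl
  have hMJ : M * J = J := by
    ext i j
    rw [hM, mM_mul]
    rfl
  have hAJ : A * J = (31671 : ℚ) • J := by
    ext i j
    rw [hA, SimpleGraph.adjMatrix_mul_apply]
    simp [hJ, hG.regular i]
  have hJA : J * A = (31671 : ℚ) • J := by
    ext i j
    rw [hA, SimpleGraph.mul_adjMatrix_apply]
    simp [hJ, hG.regular j]
  have hJJ : J * J = (306936 : ℚ) • J := by
    ext i j
    rw [Matrix.mul_apply]
    simp [hJ, hn]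
  have hcompl : Gᶜ.adjMatrix ℚ = J - 1 - A := by
    have h1 := G.one_add_adjMatrix_add_compl_adjMatrix_eq_of_one (α := ℚ)
    have h2 : (Gᶜ.adjMatrix ℚ) = (G.adjMatrix ℚ).compl := (G.compl_adjMatrix_eq_adjMatrix_compl ℚ).symm
    have h3 : J = 1 + A + (G.adjMatrix ℚ).compl := h1.symm
    rw [h2, h3]
    abel
  have hAA : A * A = (28431 : ℚ) • (1 : Matrix V V ℚ) + (270 : ℚ) • A + (3240 : ℚ) • J := by
    have h1 := hG.matrix_eq (α := ℚ)
    rw [pow_two, hcompl] at h1
    rw [h1]
    have e1 : ∀ (n : ℕ) (X : Matrix V V ℚ), n • X = (n : ℚ) • X := by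
      intro n X
      exact (Nat.cast_smul_eq_nsmul ℚ n X).symm
    rw [e1, e1, e1]
    push_cast
    module
  -- the operators
  set B : Matrix V V ℚ := A + (81 : ℚ) • (1 : Matrix V V ℚ) - (3 / 29 : ℚ) • J with hB
  have hBB : B * B = (432 : ℚ) • B := by
    rw [hB]
    simp only [mul_sub, sub_mul, mul_add, add_mul, smul_mul_assoc, mul_smul_comm, one_mul, mul_one, hAA, hAJ, hJA, hJJ,
      smul_add, smul_sub, smul_smul]
    module
  have hBM : B * M = M * B := by
    rw [hB]
    simp only [mul_sub, sub_mul, mul_add, add_mul, smul_mul_assoc, mul_smul_comm, one_mul, mul_one, hAM, hJM, hMJ]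
  have hBM2 : B * M2 = M2 * B := by
    rw [hM2]
    calc B * (M * M) = (B * M) * M := (mul_assoc _ _ _).symm
      _ = (M * B) * M := by rw [hBM]
      _ = M * (B * M) := mul_assoc _ _ _
      _ = M * (M * B) := by rw [hBM]
      _ = _ := (mul_assoc _ _ _).symm
  set Q : Matrix V V ℚ := (2 : ℚ) • (1 : Matrix V V ℚ) - M - M2 with hQ
  have hMMeq : M * M = M2 := rfl
  have hQQ : Q * Q = (3 : ℚ) • Q := by
    rw [hQ]
    simp only [mul_sub, sub_mul, smul_mul_assoc, mul_smul_comm, one_mul, mul_one, hMM2, hM2M, hM2M2, hMMeq,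
      smul_sub, smul_smul]
    module
  have hBQ : B * Q = Q * B := by
    rw [hQ]
    simp only [mul_sub, sub_mul, smul_mul_assoc, mul_smul_comm, one_mul, mul_one, hBM, hBM2]
  set P : Matrix V V ℚ := (1 / 1296 : ℚ) • (B * Q) with hP
  have hPP : P * P = P := by
    rw [hP]
    simp only [smul_mul_assoc, mul_smul_comm, smul_smul]
    have : B * Q * (B * Q) = (1296 : ℚ) • (B * Q) := by
      calc B * Q * (B * Q) = B * (Q * B) * Q := by simp only [mul_assoc]
        _ = B * (B * Q) * Q := by rw [hBQ]
        _ = (B * B) * (Q * Q) := by simp only [mul_assoc]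
        _ = _ := by
          rw [hBB, hQQ]
          simp only [smul_mul_assoc, mul_smul_comm, smul_smul]
          norm_num
    rw [this, smul_smul]
    norm_num
  set T : Matrix V V ℚ := (2 : ℚ) • M + (1 : Matrix V V ℚ) with hT
  have hTQ : T * T * Q = (-3 : ℚ) • Q := by
    rw [hT, hQ]
    simp only [mul_sub, sub_mul, mul_add, add_mul, smul_mul_assoc, mul_smul_comm, one_mul, mul_one, hMM2, hM2M, hM2M2,
      hMMeq, smul_add, smul_sub, smul_smul]
    module
  have hMQ : M * Q = Q * M := by
    rw [hQ]
    simp only [mul_sub, sub_mul, smul_mul_assoc, mul_smul_comm, one_mul, mul_one, hMM2, hM2M, hMMeq]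
  have hMP : M * P = P * M := by
    rw [hP]
    simp only [smul_mul_assoc, mul_smul_comm]
    congr 1
    calc M * (B * Q) = (M * B) * Q := (mul_assoc _ _ _).symm
      _ = (B * M) * Q := by rw [hBM]
      _ = B * (M * Q) := mul_assoc _ _ _
      _ = B * (Q * M) := by rw [hMQ]
      _ = _ := (mul_assoc _ _ _).symm
  have hTP : T * P = P * T := by
    rw [hT]
    simp only [mul_add, add_mul, smul_mul_assoc, mul_smul_comm, one_mul, mul_one, hMP]
  have hTTP : T * T * P = (-3 : ℚ) • P := by
    rw [hP]
    simp only [mul_smul_comm, smul_smul]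
    have : T * T * (B * Q) = (-3 : ℚ) • (B * Q) := by
      have hTB : T * B = B * T := by
        rw [hT]
        simp only [mul_add, add_mul, smul_mul_assoc, mul_smul_comm, one_mul, mul_one, hBM]
      calc T * T * (B * Q) = B * (T * T * Q) := by
            calc T * T * (B * Q) = T * (T * B) * Q := by simp only [mul_assoc]
              _ = T * (B * T) * Q := by rw [hTB]
              _ = (T * B) * T * Q := by simp only [mul_assoc]
              _ = (B * T) * T * Q := by rw [hTB]
              _ = _ := by simp only [mul_assoc]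
        _ = _ := by rw [hTQ, mul_smul_comm]
    rw [this, smul_smul]
    ring_nf
  -- the traces
  have tr1 : Matrix.trace (1 : Matrix V V ℚ) = 306936 := by
    simp [Matrix.trace_one, hn]
  have trA : Matrix.trace A = 0 := by
    simp [Matrix.trace, hA, SimpleGraph.adjMatrix_apply]
  have trJ : Matrix.trace J = 306936 := by
    simp [Matrix.trace, hJ, hn]
  have trM : Matrix.trace M = 0 := by
    simp only [Matrix.trace, Matrix.diag, hMapp]
    apply Finset.sum_eq_zero
    intro i _
    simp [hfix i]
  have trM2 : Matrix.trace M2 = 0 := by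
    simp only [Matrix.trace, Matrix.diag, hM2app]
    apply Finset.sum_eq_zero
    intro i _
    have : z (z i) ≠ i := by
      intro h
      have h1 := hz3 i
      rw [h] at h1
      exact hfix i h1
    simp [this]
  have trAM : Matrix.trace (A * M) = 0 := by
    simp only [Matrix.trace, Matrix.diag]
    apply Finset.sum_eq_zero
    intro i _
    rw [hM, mul_mM, hA, SimpleGraph.adjMatrix_apply]
    have h1 : ¬ G.Adj i (z.symm i) := by
      intro h
      have h2 := (hinv _ _).2 h
      simp only [Equiv.apply_symm_apply] at h2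
      exact hno i h2.symm
    simp [h1]
  have trAM2 : Matrix.trace (A * M2) = 0 := by
    simp only [Matrix.trace, Matrix.diag]
    apply Finset.sum_eq_zero
    intro i _
    rw [hM2, ← mul_assoc, hM, mul_mM, mul_mM, hA, SimpleGraph.adjMatrix_apply]
    have h1 : ¬ G.Adj i (z.symm (z.symm i)) := by
      rw [hsymm, hsymm, hz3]
      exact hno i
    simp [h1]
  have trJM : Matrix.trace (J * M) = 306936 := by rw [hJM, trJ]
  have trJM2 : Matrix.trace (J * M2) = 306936 := by
    rw [hM2, ← mul_assoc, hJM, hJM, trJ]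
  have trP : Matrix.trace P = 38367 := by
    rw [hP, hQ, hB]
    simp only [mul_sub, sub_mul, add_mul, smul_mul_assoc, mul_smul_comm, one_mul, mul_one, Matrix.trace_smul,
      Matrix.trace_sub, Matrix.trace_add, mul_add, tr1, trA, trJ, trM, trM2, trAM, trAM2, trJM, trJM2, smul_eq_mul]
    norm_num
  -- the subspace
  set p : (V → ℚ) →ₗ[ℚ] (V → ℚ) := Matrix.toLin' P with hp
  set t : (V → ℚ) →ₗ[ℚ] (V → ℚ) := Matrix.toLin' T with ht
  have hpp : IsIdempotentElem p := by
    show p * p = p
    rw [hp, Module.End.mul_eq_comp, ← Matrix.toLin'_mul, hPP]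
  have hproj := LinearMap.IsIdempotentElem.isProj_range _ hpp
  have htr : LinearMap.trace ℚ _ p = 38367 := by
    rw [hp, LinearMap.trace_eq_matrix_trace ℚ (Pi.basisFun ℚ V), LinearMap.toMatrix_eq_toMatrix', LinearMap.toMatrix'_toLin']
    exact trP
  have hdim : Module.finrank ℚ (LinearMap.range p) = 38367 := by
    have h1 := hproj.trace
    rw [htr] at h1
    exact_mod_cast h1.symm
  have htp : ∀ x, t (p x) = p (t x) := by
    intro x
    have h1 : t ∘ₗ p = p ∘ₗ t := by
      rw [hp, ht, ← Matrix.toLin'_mul, ← Matrix.toLin'_mul, hTP]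
    exact LinearMap.congr_fun h1 x
  have hinvar : ∀ x ∈ LinearMap.range p, t x ∈ LinearMap.range p := by
    rintro _ ⟨y, rfl⟩
    exact ⟨t y, (htp y).symm⟩
  set t' := t.restrict hinvar with ht'
  have hsq : t' * t' = (-3 : ℚ) • (1 : Module.End ℚ (LinearMap.range p)) := by
    ext ⟨_, y, rfl⟩ i
    have h1 := congrArg (fun X => Matrix.toLin' X y) hTTP
    simp only [Matrix.toLin'_mul] at h1
    have h2 := congrFun h1 i
    simpa [ht', LinearMap.restrict_apply, hp, ht] using h2
  have hdet := congrArg LinearMap.det hsq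
  rw [map_mul, LinearMap.det_smul, hdim] at hdet
  have h1 : LinearMap.det (1 : Module.End ℚ (LinearMap.range p)) = 1 := by
    exact LinearMap.det_id
  rw [h1, mul_one] at hdet
  have h2 := mul_self_nonneg (LinearMap.det t')
  rw [hdet] at h2
  have h3 : ((-3 : ℚ)) ^ 38367 < 0 := Odd.pow_neg (by decide) (by norm_num)
  exact (not_le.mpr h3) h2

end Cfsg.Agent.Lib.SrgPar4
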