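import Mathlib
import Cfsg.Agent.Lib.CRFusion
import Cfsg.Agent.Lib.StableCtrl
import Cfsg.Agent.S3836
import Cfsg.Agent.S5246
import Cfsg.Agent.S5076

/-!
# Fusion systems of `p`-stable groups (`p` odd) are constrained

`Step B` of the centric radical argument for `p`-stable groups: if `Q` is normal in the fusion system and
`C_P(Q) ≰ Q` then `Q` is properly contained in a larger normal subgroup of the fusion system.
-/

set_option autoImplicit false
set_option linter.unusedSectionVars false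
set_option linter.unusedVariables false
set_option linter.style.haveILetI false

open scoped commutatorElement

namespace Cfsg.Agent.Lib.StableConstr

open Cfsg Cfsg.Agent.Lib.ControlSec Cfsg.Agent.Lib.AlperinControl Cfsg.Agent.Lib.ZJControl
open Cfsg.Agent.Lib.CRFusion Cfsg.Agent.Lib.PCore Cfsg.Agent.Lib.PPrimeP

universe u

variable {p : ℕ} [hp : Fact p.Prime]

/-- Control in a `p`-stable subgroup of an arbitrary ambient group. -/
theorem control_in_sub (hp2 : p ≠ 2) {X : Type u} [Group X] [Finite X] {K T D : Subgroup X}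
    (hK : IsNormalizerPStable p ↥K) (hT : IsSyl p T K) (hDT : D ≤ T)
    (hDs : ∀ d ∈ D, ∀ g ∈ K, g * d * g⁻¹ ∈ T → g * d * g⁻¹ ∈ D)
    {Q : Subgroup X} (hQ : Q ≤ T) {h : X} (hh : h ∈ K) (hhQ : cj h Q ≤ T) :
    Agrees (K ⊓ NN (WW 0 D)) Q h := by
  classical
  obtain ⟨S, hS⟩ := hT.sylow_exists
  have hTK : T ≤ K := hT.le
  have hD' : IsStronglyClosed (D.subgroupOf K) (S : Subgroup K) := by
    rw [hS]
    refine ⟨fun x hx => Subgroup.mem_subgroupOf.mpr (hDT (Subgroup.mem_subgroupOf.mp hx)), ?_⟩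
    intro x hx g hg
    rw [Subgroup.mem_subgroupOf] at hx hg ⊢
    exact hDs _ hx _ g.2 hg
  have hA : ((Q.subgroupOf K : Subgroup K) : Set K) ⊆ (S : Subgroup K) := by
    rw [hS]
    intro x hx
    exact Subgroup.mem_subgroupOf.mpr (hQ (Subgroup.mem_subgroupOf.mp hx))
  have h1 := (Cfsg.Agent.Lib.StableCtrl.control_strong_new hp2 (e := 0) (dvd_zero p) hK S _ hD' _ hA).2
    (⟨h, hh⟩ : K) (by
      rintro _ ⟨a, ha, rfl⟩
      rw [hS]
      apply Subgroup.mem_subgroupOf.mpr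
      exact hhQ (conj_mem_cj (g := h) (Subgroup.mem_subgroupOf.mp ha)))
  obtain ⟨x, hx, hxa⟩ := h1
  have hDK : D ≤ K := hDT.trans hTK
  have hWmap : (WW 0 (D.subgroupOf K)).map K.subtype = WW 0 D := by
    have h2 := map_WW 0 K.subtype (D := D.subgroupOf K) (fun _ _ _ _ h => K.subtype_injective h)
    rw [h2]
    congr 1
    rw [Subgroup.map_subgroupOf_eq_of_le hDK]
  refine ⟨x, ⟨x.2, ?_⟩, ?_⟩
  · rw [← hWmap]
    apply mem_NN_of_forall
    rintro _ ⟨y, hy, rfl⟩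
    exact ⟨x * y * x⁻¹, conj_mem_of_mem_NN hx hy, rfl⟩
  · intro a ha
    have haK : a ∈ K := hTK (hQ ha)
    have h3 := hxa ⟨a, haK⟩ (Subgroup.mem_subgroupOf.mpr ha)
    exact (congrArg Subtype.val h3).symm

/-- An image of a `p`-stable group in a section is stable. -/
theorem stable_img (hp2 : p ≠ 2) {G : Type u} [Group G] [Finite G] {L V₀ M : Subgroup G}
    [hVn : (V₀.subgroupOf L).Normal] (hML : M ≤ L) (hst : IsNormalizerPStable p ↥M)
    (hV₀M : V₀ ≤ M) (hV₀p : IsPGroup p V₀)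
    (hcen : ∀ s : M, (orderOf s).Coprime p → ∀ u ∈ V₀, (s : G) * u * (s : G)⁻¹ = u) :
    IsNormalizerPStable p ↥(img L V₀ M) := by
  classical
  let f : ↥M →* ↥(img L V₀ M) :=
    { toFun := fun x => ⟨pp L V₀ ⟨x, hML x.2⟩, mem_img_of (H := L) (V₀ := V₀) (y := ⟨x, hML x.2⟩) x.2⟩
      map_one' := by
        apply Subtype.ext
        exact map_one (pp L V₀)
      map_mul' := by
        intro a b
        apply Subtype.ext
        exact map_mul (pp L V₀) ⟨a, hML a.2⟩ ⟨b, hML b.2⟩ }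
  have hfs : Function.Surjective f := by
    rintro ⟨_, y, hy, rfl⟩
    exact ⟨⟨y, hy⟩, Subtype.ext rfl⟩
  have hker : ∀ x : ↥M, x ∈ f.ker ↔ (x : G) ∈ V₀ := by
    intro x
    rw [MonoidHom.mem_ker]
    constructor
    · intro h
      have h1 : pp L V₀ ⟨x, hML x.2⟩ = 1 := congrArg Subtype.val h
      exact (pp_eq_one_iff (H := L) (V₀ := V₀)).mp h1
    · intro h
      apply Subtype.ext
      exact (pp_eq_one_iff (H := L) (V₀ := V₀)).mpr h
  have hUp : IsPGroup p f.ker := by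
    have h1 : IsPGroup p (V₀.subgroupOf M) := hV₀p.comap_of_injective M.subtype M.subtype_injective
    refine h1.to_le ?_
    intro x hx
    exact Subgroup.mem_subgroupOf.mpr ((hker x).mp hx)
  have h2 := Cfsg.Agent.Lib.StableQuot.quotient_stable hp2 hst f.ker hUp (by
    intro s hs u hu
    apply Subtype.ext
    exact hcen s hs u ((hker u).mp hu))
  exact Cfsg.Agent.Lib.QdNotStable.stable_congr (QuotientGroup.quotientKerEquivOfSurjective f hfs) h2

/-- **Step B** for `p`-stable groups. -/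
theorem step_B (hp2 : p ≠ 2) {G : Type u} [Group G] [Finite G] (hG : IsNormalizerPStable p G) (P : Sylow p G)
    {Q : Subgroup G} (hQP : Q ≤ P) (hPQ : (P : Subgroup G) ≤ NN Q) (hctl : Ctl (P : Subgroup G) Q)
    (hD : ¬ ((P : Subgroup G) ⊓ Subgroup.centralizer (Q : Set G)) ≤ Q) :
    ∃ Y, Q < Y ∧ Y ≤ P ∧ (P : Subgroup G) ≤ NN Y ∧ Ctl (P : Subgroup G) Y := by
  classical
  set L := NN Q with hL
  set CQ := Subgroup.centralizer (Q : Set G) with hCQ
  set V₀ := Q ⊓ CQ with hV₀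
  set D := (P : Subgroup G) ⊓ CQ with hDdef
  set L₂ := CQ ⊔ (P : Subgroup G) with hL₂
  have hCL : CQ ≤ L := by
    intro c hc
    apply mem_NN_of_forall
    intro x hx
    have h1 := Subgroup.mem_centralizer_iff.mp hc x hx
    have e : c * x * c⁻¹ = x := by
      rw [← h1]
      group
    rw [e]
    exact hx
  have hLCQ : L ≤ NN CQ := le_NN_centralizer le_rfl
  have hL₂L : L₂ ≤ L := sup_le hCL hPQ
  haveI hVn : (V₀.subgroupOf L).Normal := by
    constructor
    intro v hv l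
    exact ⟨conj_mem_of_mem_NN l.2 hv.1, conj_mem_of_mem_NN (hLCQ l.2) hv.2⟩
  have hV₀P : V₀ ≤ P := inf_le_left.trans hQP
  have hV₀p : IsPGroup p V₀ := P.isPGroup'.to_le hV₀P
  have hV₀D : V₀ ≤ D := le_inf hV₀P inf_le_right
  have hDL : D ≤ L := inf_le_left.trans hPQ
  have hSL : IsSyl p (P : Subgroup G) L := isSyl_of_le (isSyl_of_sylow P) hPQ le_top
  have hSL₂ : IsSyl p (P : Subgroup G) L₂ := isSyl_of_le (isSyl_of_sylow P) le_sup_right le_top
  have hTt : IsSyl p (img L V₀ (P : Subgroup G)) ⊤ := isSyl_img hV₀p hSL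
  set Pt := img L V₀ (P : Subgroup G) with hPt
  set Dt := img L V₀ D with hDt
  set Wt := WW 0 Dt with hWt
  set Y₁ := pre Wt with hY₁
  set Y := Q ⊔ Y₁ with hY
  have hWtD : Wt ≤ Dt := WW_le 0 Dt
  have hY₁D : Y₁ ≤ D := by
    have h1 := pre_mono hWtD
    rwa [hDt, pre_img hV₀D hDL] at h1
  have hconjY₁ : ∀ x : ↥L, pp L V₀ x ∈ NN Wt → (x : G) ∈ NN Y₁ := by
    intro x hx
    apply mem_NN_of_forall
    intro a ha
    have haL : a ∈ L := pre_le_H _ ha
    have e : (x : G) * a * (x : G)⁻¹ = ((x * ⟨a, haL⟩ * x⁻¹ : ↥L) : G) := rfl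
    rw [e]
    apply mem_pre_of
    rw [map_mul, map_mul, map_inv]
    exact conj_mem_of_mem_NN hx (mem_of_mem_pre ha)
  have hNY₁ : ∀ x : ↥L, (x : G) ∈ NN D → pp L V₀ x ∈ NN Wt := by
    intro x hx
    apply mem_NN_WW 0
    apply mem_NN_of_forall
    rintro _ ⟨d, hd, rfl⟩
    refine ⟨x * d * x⁻¹, conj_mem_of_mem_NN hx hd, by simp [map_mul, map_inv]⟩
  have hPD : (P : Subgroup G) ≤ NN D := by
    intro t ht
    apply mem_NN_of_forall
    intro a ha
    exact ⟨Subgroup.mul_mem _ (Subgroup.mul_mem _ ht ha.1) (Subgroup.inv_mem _ ht),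
      conj_mem_of_mem_NN (hLCQ (hPQ ht)) ha.2⟩
  set Lt := img L V₀ L₂ with hLt
  have hPLt : Pt ≤ Lt := by
    rintro _ ⟨t, ht, rfl⟩
    exact mem_img_of ((le_sup_right : (P : Subgroup G) ≤ L₂) ht)
  -- the `p`-stability of the section
  have hV₀L₂ : V₀ ≤ L₂ := hV₀P.trans le_sup_right
  have hcen : ∀ s : L₂, (orderOf s).Coprime p → ∀ u ∈ V₀, (s : G) * u * (s : G)⁻¹ = u := by
    intro s hs u hu
    -- the image of `s` in `L / C` is a `p`-element
    let C₁ : Subgroup L := CQ.subgroupOf L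
    haveI hC₁ : C₁.Normal := by
      constructor
      intro n hn g
      exact conj_mem_of_mem_NN (hLCQ g.2) hn
    let π : L →* L ⧸ C₁ := QuotientGroup.mk' C₁
    have hπ : ∀ c : L, (c : G) ∈ CQ → π c = 1 := by
      intro c hc
      exact (QuotientGroup.eq_one_iff c).mpr hc
    let P₁ : Subgroup L := (P : Subgroup G).subgroupOf L
    have hP₁p : IsPGroup p P₁ := P.isPGroup'.comap_of_injective L.subtype L.subtype_injective
    have himg : (L₂.subgroupOf L).map π ≤ P₁.map π := by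
      have hle : L₂.subgroupOf L ≤ C₁ ⊔ P₁ := by
        intro x hx
        have hx' : (x : G) ∈ CQ ⊔ (P : Subgroup G) := Subgroup.mem_subgroupOf.mp hx
        have hmap : (C₁ ⊔ P₁).map L.subtype = CQ ⊔ (P : Subgroup G) := by
          rw [Subgroup.map_sup, Subgroup.map_subgroupOf_eq_of_le hCL, Subgroup.map_subgroupOf_eq_of_le hPQ]
        rw [← hmap] at hx'
        obtain ⟨y, hy, hyx⟩ := hx'
        have : y = x := Subtype.ext hyx
        rwa [← this]
      refine (Subgroup.map_mono hle).trans ?_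
      rw [Subgroup.map_sup]
      refine sup_le ?_ le_rfl
      rintro _ ⟨c, hc, rfl⟩
      rw [hπ c hc]
      exact Subgroup.one_mem _
    have hmemπ : π ⟨s, hL₂L s.2⟩ ∈ P₁.map π := himg ⟨⟨s, hL₂L s.2⟩, Subgroup.mem_subgroupOf.mpr s.2, rfl⟩
    have hcop : π ⟨s, hL₂L s.2⟩ = 1 := by
      have hp1 : IsPGroup p (P₁.map π) := hP₁p.map π
      obtain ⟨k, hk⟩ := hp1 ⟨_, hmemπ⟩
      have hk' : (π ⟨s, hL₂L s.2⟩) ^ p ^ k = 1 := by simpa using congrArg Subtype.val hk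
      have hs' : (π ⟨s, hL₂L s.2⟩) ^ orderOf s = 1 := by
        have h5 : (⟨s, hL₂L s.2⟩ : L) ^ orderOf s = 1 := by
          apply Subtype.ext
          have h6 : ((s ^ orderOf s : ↥L₂) : G) = 1 := by
            rw [pow_orderOf_eq_one]
            rfl
          rw [Subgroup.coe_pow] at h6
          rw [Subgroup.coe_pow]
          exact h6
        rw [← map_pow, h5, map_one]
      have h7 := orderOf_dvd_of_pow_eq_one hk'
      have h8 := orderOf_dvd_of_pow_eq_one hs'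
      have hcop : (p ^ k).Coprime (orderOf s) := Nat.Coprime.pow_left k (hs.symm)
      have := Nat.eq_one_of_dvd_coprimes hcop h7 h8
      exact orderOf_eq_one_iff.mp this
    have hsC : (s : G) ∈ CQ :=
      Subgroup.mem_subgroupOf.mp ((QuotientGroup.eq_one_iff (⟨s, hL₂L s.2⟩ : L)).mp hcop)
    have h9 := Subgroup.mem_centralizer_iff.mp hsC u hu.1
    rw [← h9]
    group
  have hLtst : IsNormalizerPStable p ↥Lt :=
    stable_img hp2 hL₂L (Cfsg.Agent.S3836.result hG L₂) hV₀L₂ hV₀p hcen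
  have hPtLt : IsSyl p Pt Lt := isSyl_of_le hTt hPLt le_top
  have hDtP : Dt ≤ Pt := by
    rintro _ ⟨d, hd, rfl⟩
    exact mem_img_of hd.1
  have hDtS : ∀ d ∈ Dt, ∀ g ∈ Lt, g * d * g⁻¹ ∈ Pt → g * d * g⁻¹ ∈ Dt := by
    rintro _ ⟨d, hd, rfl⟩ _ ⟨g₀, -, rfl⟩ hg
    rw [← map_inv, ← map_mul, ← map_mul] at hg
    rw [← map_inv, ← map_mul, ← map_mul]
    have h1 := mem_of_mem_img hV₀P hg
    exact mem_img_of ⟨h1, conj_mem_of_mem_NN (hLCQ g₀.2) hd.2⟩
  have hc : ∀ Qt ≤ img L V₀ (P : Subgroup G), ∀ ht ∈ Lt, cj ht Qt ≤ img L V₀ (P : Subgroup G) →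
      Agrees (Lt ⊓ NN Wt) Qt ht := fun Qt hQt ht hht hcj =>
    control_in_sub hp2 hLtst hPtLt hDtP hDtS hQt hht hcj
  have hL₂' : L₂ ≤ (P : Subgroup G) ⊔ (L₂ ⊓ Subgroup.centralizer (V₀ : Set G)) := by
    refine sup_le (le_sup_of_le_right (le_inf le_sup_left ?_)) le_sup_left
    intro c hc'
    rw [Subgroup.mem_centralizer_iff]
    intro v hv
    exact Subgroup.mem_centralizer_iff.mp hc' v hv.1
  have hTX : img L V₀ (P : Subgroup G) ≤ NN Wt := by
    rintro _ ⟨t, ht, rfl⟩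
    exact hNY₁ t (hPD ht)
  have hlift := lift_control hL₂L hSL₂ hV₀p hV₀P hL₂' (NN Wt) hTX hc
  have hXle : L₂ ⊓ pre (NN Wt) ≤ L ⊓ NN Y := by
    rintro x ⟨hx1, hx2⟩
    have hxL := hL₂L hx1
    refine ⟨hxL, mem_NN_sup hxL ?_⟩
    exact hconjY₁ ⟨x, hxL⟩ (mem_of_mem_pre hx2)
  have hfinal := step_normal (H := L) (N := CQ) (T := (P : Subgroup G)) (X := L ⊓ NN Y) hLCQ hSL
    (by
      rintro n ⟨hn1, hn2⟩
      exact ⟨hn1, mem_NN_sup hn1 (hconjY₁ ⟨n, hn1⟩ (hNY₁ ⟨n, hn1⟩ hn2))⟩)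
    (by
      intro Q' hQ' h hh hcj
      obtain ⟨x, hx, hxa⟩ := hlift Q' hQ' h ((le_sup_left : CQ ≤ L₂) hh) hcj
      exact ⟨x, hXle hx, hxa⟩)
  refine ⟨Y, ?_, sup_le hQP (hY₁D.trans inf_le_left), ?_, ?_⟩
  · have hDtne : Dt ≠ ⊥ := by
      intro h0
      obtain ⟨d, hd, hdQ⟩ := SetLike.not_le_iff_exists.mp hD
      have h1 : pp L V₀ ⟨d, hDL hd⟩ ∈ Dt := mem_img_of hd
      rw [h0, Subgroup.mem_bot] at h1
      exact hdQ (pp_eq_one_iff.mp h1).1
    have hDtp : IsPGroup p Dt := hTt.pgrp.to_le hDtP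
    have hWne : Wt ≠ ⊥ := WW_ne_bot (dvd_zero p) hDtp hDtne
    obtain ⟨⟨w, hw⟩, hw1⟩ := Subgroup.ne_bot_iff_exists_ne_one.mp hWne
    obtain ⟨y₀, rfl⟩ := pp_surjective w
    have hy₀ : (y₀ : G) ∈ Y₁ := mem_pre_of hw
    refine lt_of_le_not_ge le_sup_left fun h => ?_
    have hy₀Q : (y₀ : G) ∈ Q := h (le_sup_right (a := Q) hy₀)
    apply hw1
    apply Subtype.ext
    exact pp_eq_one_iff.mpr ⟨hy₀Q, (hY₁D hy₀).2⟩
  · intro t ht
    exact mem_NN_sup (hPQ ht) (hconjY₁ ⟨t, hPQ ht⟩ (hNY₁ ⟨t, hPQ ht⟩ (hPD ht)))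
  · intro A hA g hcj
    obtain ⟨x, hx, hxa⟩ := hctl A hA g hcj
    have hcjx : cj x A ≤ P := by
      rw [cj_le_iff]
      intro a ha
      rw [hxa a ha]
      exact hcj (conj_mem_cj ha)
    obtain ⟨y, hy, hya⟩ := hfinal A hA x hx hcjx
    exact ⟨y, hy.2, fun a ha => (hya a ha).trans (hxa a ha)⟩

/-- In a `p`-stable group there is a subgroup of `P` normalized by `P`, whose normalizer controls strong
fusion in `P`, containing its centralizer in `P`. -/
theorem exists_centric (hp2 : p ≠ 2) {G : Type u} [Group G] [Finite G] (hG : IsNormalizerPStable p G) (P : Sylow p G) :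
    ∃ Q : Subgroup G, Q ≤ P ∧ (P : Subgroup G) ≤ NN Q ∧ Ctl (P : Subgroup G) Q ∧
      (P : Subgroup G) ⊓ Subgroup.centralizer (Q : Set G) ≤ Q := by
  classical
  let 𝒮 : Set (Subgroup G) := {Q | Q ≤ P ∧ (P : Subgroup G) ≤ NN Q ∧ Ctl (P : Subgroup G) Q}
  have hbot : (⊥ : Subgroup G) ∈ 𝒮 := by
    refine ⟨bot_le, ?_, ?_⟩
    · intro t _
      apply mem_NN_of_forall
      intro x hx
      rw [Subgroup.mem_bot] at hx ⊢
      rw [hx]
      simp
    · intro A _ g _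
      refine Agrees.of_mem ?_
      apply mem_NN_of_forall
      intro x hx
      rw [Subgroup.mem_bot] at hx ⊢
      rw [hx]
      simp
  obtain ⟨Q, hQ, hmax⟩ := Set.exists_max_image 𝒮 (fun Q : Subgroup G => Nat.card Q) (Set.toFinite _) ⟨⊥, hbot⟩
  obtain ⟨hQP, hPQ, hctl⟩ := hQ
  have hcent : (P : Subgroup G) ⊓ Subgroup.centralizer (Q : Set G) ≤ Q := by
    by_contra hD
    obtain ⟨Y, hlt, hYP, hPY, hY⟩ := step_B hp2 hG P hQP hPQ hctl hD
    have h1 := hmax Y ⟨hYP, hPY, hY⟩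
    exact hlt.ne (Subgroup.eq_of_le_of_card_ge hlt.le h1)
  exact ⟨Q, hQP, hPQ, hctl, hcent⟩

/-- A subgroup whose normalizer controls strong fusion in `P` is normal in the fusion system. -/
theorem isNormal_of_ctl {G : Type*} [Group G] [Finite G] {P U : Subgroup G} (hUP : U ≤ P) (hctl : Ctl P U) :
    (groupFusionSystem P).IsNormal U := by
  classical
  refine ⟨hUP, ?_⟩
  rintro R φ ⟨hR, hφP, g, hg⟩
  have hcj : cj g R ≤ P := by
    rw [cj_le_iff]
    intro a ha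
    have := hφP ⟨a, ha⟩
    rwa [hg] at this
  obtain ⟨n, hn, hna⟩ := hctl R hR g hcj
  have hsupP : R ⊔ U ≤ P := sup_le hR hUP
  have hconjP : ∀ x ∈ R ⊔ U, n * x * n⁻¹ ∈ P := by
    have hle : cj n (R ⊔ U) ≤ P := by
      show (R ⊔ U).map _ ≤ _
      rw [Subgroup.map_sup]
      refine sup_le ?_ ?_
      · rintro _ ⟨a, ha, rfl⟩
        have : (MulAut.conj n).toMonoidHom a = n * a * n⁻¹ := rfl
        rw [this, hna a ha]
        exact hcj (conj_mem_cj ha)
      · rintro _ ⟨a, ha, rfl⟩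
        exact hUP (conj_mem_of_mem_NN hn ha)
    exact fun x hx => hle (conj_mem_cj hx)
  refine ⟨conjHom (R ⊔ U) n, ⟨hsupP, fun x => hconjP x x.2, n, fun x => rfl⟩, ?_, ?_⟩
  · intro x
    show n * (x : G) * n⁻¹ = φ x
    rw [hna x x.2, hg]
  · ext y
    constructor
    · rintro ⟨⟨x, hx'⟩, hx, rfl⟩
      exact conj_mem_of_mem_NN hn (Subgroup.mem_subgroupOf.mp hx)
    · intro hy
      have h1 : n⁻¹ * y * n⁻¹⁻¹ ∈ U := conj_mem_of_mem_NN (Subgroup.inv_mem _ hn) hy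
      refine ⟨⟨n⁻¹ * y * n⁻¹⁻¹, (le_sup_right : U ≤ R ⊔ U) h1⟩, Subgroup.mem_subgroupOf.mpr h1, ?_⟩
      show n * (n⁻¹ * y * n⁻¹⁻¹) * n⁻¹ = y
      group

/-- A subgroup whose normalizer controls strong fusion and containing its centralizer in `P` is centric. -/
theorem isCentric_of_ctl {G : Type*} [Group G] [Finite G] {P U : Subgroup G} (hUP : U ≤ P) (hctl : Ctl P U)
    (hcen : P ⊓ Subgroup.centralizer (U : Set G) ≤ U) : (groupFusionSystem P).IsCentric U := by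
  refine ⟨hUP, ?_⟩
  rintro U' ⟨φ, ⟨hR, hφP, g, hg⟩, hr⟩
  have hcj : cj g U ≤ P := by
    rw [cj_le_iff]
    intro a ha
    have := hφP ⟨a, ha⟩
    rwa [hg] at this
  obtain ⟨n, hn, hna⟩ := hctl U hR g hcj
  have hU' : U' = U := by
    rw [← hr]
    ext y
    constructor
    · rintro ⟨x, rfl⟩
      rw [hg, ← hna x x.2]
      exact conj_mem_of_mem_NN hn x.2
    · intro hy
      have h1 : n⁻¹ * y * n⁻¹⁻¹ ∈ U := conj_mem_of_mem_NN (Subgroup.inv_mem _ hn) hy
      refine ⟨⟨_, h1⟩, ?_⟩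
      rw [hg, ← hna _ h1]
      group
  rw [hU']
  exact hcen

/-- **Fusion systems of `p`-stable groups are constrained** (`p` odd). -/
theorem isConstrained (hp2 : p ≠ 2) {G : Type u} [Group G] [Finite G] (hG : IsNormalizerPStable p G) (P : Sylow p G) :
    (groupFusionSystem (P : Subgroup G)).IsConstrained p := by
  obtain ⟨Q, hQP, -, hctl, hcen⟩ := exists_centric hp2 hG P
  exact ⟨Cfsg.Agent.S5076.result p P, Q, isNormal_of_ctl hQP hctl, isCentric_of_ctl hQP hctl hcen⟩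

/-- The nontrivial normal subgroup `Z(J(P))`. -/
theorem core_ne_bot (hp2 : p ≠ 2) {G : Type u} [Group G] [Finite G] (hG : IsNormalizerPStable p G) (P : Sylow p G)
    (hP : (P : Subgroup G) ≠ ⊥) : (groupFusionSystem (P : Subgroup G)).core ≠ ⊥ := by
  classical
  have hW : WW 0 (P : Subgroup G) ≠ ⊥ := WW_ne_bot (dvd_zero p) P.isPGroup' hP
  have hWP : WW 0 (P : Subgroup G) ≤ P := WW_le 0 _
  have hctl : Ctl (P : Subgroup G) (WW 0 (P : Subgroup G)) := by
    intro A hA g hg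
    obtain ⟨x, hx, hxa⟩ := (Cfsg.Agent.Lib.StableCtrl.control_strong_new hp2 (e := 0) (dvd_zero p) hG P (P : Subgroup G)
      ⟨le_rfl, fun x _ g h => h⟩ (A : Set G) hA).2 g (by
        rintro _ ⟨a, ha, rfl⟩
        exact hg (conj_mem_cj ha))
    exact ⟨x, hx, fun a ha => (hxa a ha).symm⟩
  have hN := isNormal_of_ctl hWP hctl
  intro h0
  apply hW
  have h1 : WW 0 (P : Subgroup G) ≤ (groupFusionSystem (P : Subgroup G)).core := le_sSup hN
  rw [h0] at h1
  exact le_bot_iff.mp h1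

end Cfsg.Agent.Lib.StableConstr
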