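import Mathlib
import Cfsg.Agent.Lib.StableConstr
import Cfsg.Agent.Lib.FusionStrongClosed

/-!
# Factor systems of fusion systems of `p`-stable sections have nontrivial normal subgroups
-/

set_option autoImplicit false
set_option linter.unusedSectionVars false
set_option linter.unusedVariables false
set_option linter.style.haveILetI false

namespace Cfsg.Agent.Lib.StableFactor

open Cfsg Cfsg.FusionSystem Cfsg.Agent.Lib.ControlSec Cfsg.Agent.Lib.AlperinControl Cfsg.Agent.Lib.ZJControl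
open Cfsg.Agent.Lib.CRFusion Cfsg.Agent.Lib.FusionFactor

universe u

variable {p : ℕ} [hp : Fact p.Prime]

/-- If `R` is strongly closed in `F_P(G)`, `R ≠ P`, and `N_G(R) / R` is `p`-stable (`p` odd), then each factor
system of `F_P(G)` modulo `R` has a nontrivial normal subgroup. -/
theorem factor_core_ne_bot (hp2 : p ≠ 2) {G : Type u} [Group G] [Finite G] {S : Subgroup G} (hSs : IsSyl p S ⊤) (R : Subgroup G)
    (hR : (groupFusionSystem S).StronglyClosed R) (hne : R ≠ S) [hRn : (R.subgroupOf S).Normal]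
    (hst : IsNormalizerPStable p (QQ (NN R) R))
    (E : FusionSystem (⊤ : Subgroup (S ⧸ R.subgroupOf S)))
    (hE : (groupFusionSystem S).IsFactorSystem R (QuotientGroup.mk' (R.subgroupOf S)) E) :
    E.core ≠ ⊥ := by
  classical
  have hRS : R ≤ S := hR.1
  set L : Subgroup G := NN R with hL
  -- conjugates of elements of `R`
  have hconj : ∀ g : G, (∀ x ∈ R, g * x * g⁻¹ ∈ S) → g ∈ L := by
    intro g hg
    apply mem_NN_of_forall
    intro x hx
    have hm : conjHom R g ∈ (groupFusionSystem S).Hom R := ⟨hRS, fun y => hg y y.2, g, fun y => rfl⟩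
    exact hR.2 R le_rfl _ hm ⟨x, hx⟩
  have hSL : S ≤ L := fun s hs => hconj s fun x hx => S.mul_mem (S.mul_mem hs (hRS hx)) (S.inv_mem hs)
  haveI hVn : (R.subgroupOf L).Normal := Subgroup.normal_in_normalizer
  have hRp : IsPGroup p R := hSs.pgrp.to_le hRS
  set θ := QuotientGroup.mk' (R.subgroupOf S) with hθ
  have hθk : ∀ s : S, θ s = 1 ↔ (s : G) ∈ R := by
    intro s
    rw [hθ, QuotientGroup.mk'_apply, QuotientGroup.eq_one_iff]
    rfl
  have hθr : θ.range = ⊤ := by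
    rw [MonoidHom.range_eq_top]
    exact QuotientGroup.mk'_surjective _
  -- the comparison map
  let η : S →* QQ L R := (pp L R).comp (Subgroup.inclusion hSL)
  have hηk : ∀ s : S, η s = 1 ↔ (s : G) ∈ R := by
    intro s
    exact pp_eq_one_iff (H := L) (V₀ := R) (x := Subgroup.inclusion hSL s)
  let ν : (S ⧸ R.subgroupOf S) →* QQ L R := QuotientGroup.lift (R.subgroupOf S) η (by
    intro x hx
    exact (hηk x).mpr (Subgroup.mem_subgroupOf.mp hx))
  have hνθ : ∀ s : S, ν (θ s) = η s := fun s => rfl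
  have hθs : ∀ z : S ⧸ R.subgroupOf S, ∃ s : S, θ s = z := QuotientGroup.mk'_surjective _
  have hνinj : Function.Injective ν := by
    rw [injective_iff_map_eq_one]
    intro z hz
    obtain ⟨s, rfl⟩ := hθs z
    rw [hνθ] at hz
    exact (hθk s).mpr ((hηk s).mp hz)
  set Pt := img L R S with hPt
  have hTt : IsSyl p Pt ⊤ := isSyl_img hRp (isSyl_of_le hSs hSL le_top)
  let PS : Sylow p (QQ L R) := sylowOf hTt
  have hPS : (PS : Subgroup (QQ L R)) = Pt := rfl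
  have hνr : ∀ z, ν z ∈ Pt := by
    intro z
    obtain ⟨s, rfl⟩ := hθs z
    exact mem_img_of (H := L) (V₀ := R) (y := Subgroup.inclusion hSL s) s.2
  have hνs : ∀ y ∈ Pt, ∃ z, ν z = y := by
    rintro _ ⟨y, hy, rfl⟩
    exact ⟨θ ⟨y, hy⟩, rfl⟩
  set Wt := WW 0 Pt with hWt
  have hWtP : Wt ≤ Pt := WW_le 0 Pt
  set W : Subgroup (S ⧸ R.subgroupOf S) := Wt.comap ν with hW
  have hPtne : Pt ≠ ⊥ := by
    intro h0
    apply hne
    apply le_antisymm hRS
    intro s hs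
    have h1 : η ⟨s, hs⟩ ∈ Pt := mem_img_of (H := L) (V₀ := R) (y := Subgroup.inclusion hSL ⟨s, hs⟩) hs
    rw [h0, Subgroup.mem_bot] at h1
    exact (hηk ⟨s, hs⟩).mp h1
  have hWtne : Wt ≠ ⊥ := WW_ne_bot (dvd_zero p) hTt.pgrp hPtne
  have hWne : W ≠ ⊥ := by
    intro h0
    apply hWtne
    rw [eq_bot_iff]
    intro y hy
    obtain ⟨z, rfl⟩ := hνs y (hWtP hy)
    have h1 : z ∈ W := hy
    rw [h0, Subgroup.mem_bot] at h1
    rw [h1, map_one]
    exact Subgroup.one_mem _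
  have hWn : E.IsNormal W := by
    refine ⟨le_top, ?_⟩
    intro P' φ' hφ'
    obtain ⟨-, φ, hφ, hind⟩ := (hE.2.2.2 P' φ').mp hφ'
    obtain ⟨hY₀, hφS, g, hg⟩ := hφ
    obtain ⟨hP0, hφS', hP1, hind⟩ := hind
    set Y₀ := preimageAlong θ P' with hY₀def
    have hmemY₀ : ∀ s : S, θ s ∈ P' → (s : G) ∈ Y₀ := fun s hs =>
      (mem_preimageAlong θ P' _).mpr ⟨s.2, hs⟩
    have hRY₀ : R ≤ Y₀ := by
      intro x hx
      refine (mem_preimageAlong θ P' _).mpr ⟨hRS hx, ?_⟩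
      rw [(hθk ⟨x, hRS hx⟩).mpr hx]
      exact P'.one_mem
    have hgL : g ∈ L := by
      apply hconj
      intro x hx
      have := hφS ⟨x, hRY₀ hx⟩
      rwa [hg] at this
    let gb : QQ L R := pp L R ⟨g, hgL⟩
    set A : Subgroup (QQ L R) := P'.map ν with hA
    have hAP : (A : Set (QQ L R)) ⊆ (PS : Subgroup (QQ L R)) := by
      rintro _ ⟨z, -, rfl⟩
      exact hνr z
    -- the conjugate of an element by `g`
    have hgS : ∀ s : S, (s : G) ∈ Y₀ → g * s * g⁻¹ ∈ S := by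
      intro s hs
      have h2 := hφS ⟨s, hs⟩
      rwa [hg] at h2
    have hgbe : ∀ (s : S) (hs : (s : G) ∈ Y₀), gb * ν (θ s) * gb⁻¹ = η ⟨g * s * g⁻¹, hgS s hs⟩ := by
      intro s hs
      rw [hνθ]
      show pp L R _ * pp L R _ * (pp L R _)⁻¹ = pp L R _
      rw [← map_inv, ← map_mul, ← map_mul]
      rfl
    have hcj : (fun a => gb * a * gb⁻¹) '' (A : Set (QQ L R)) ⊆ (PS : Subgroup (QQ L R)) := by
      rintro _ ⟨_, ⟨z, hz, rfl⟩, rfl⟩
      obtain ⟨s, rfl⟩ := hθs z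
      have hs := hmemY₀ s hz
      show gb * ν (θ s) * gb⁻¹ ∈ Pt
      rw [hgbe s hs]
      exact hνr (θ _)
    obtain ⟨nt, hnt, hntA⟩ := (Cfsg.Agent.Lib.StableCtrl.control_strong_new hp2 (e := 0) (dvd_zero p) hst PS
      (PS : Subgroup (QQ L R)) ⟨le_rfl, fun x _ g h => h⟩ (A : Set (QQ L R)) hAP).2 gb hcj
    obtain ⟨n, hnn⟩ := pp_surjective nt
    -- the image of `Z` under conjugation by `n` stays in `Pt`
    set Z : Subgroup (S ⧸ R.subgroupOf S) := P' ⊔ W with hZ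
    have hU : ∀ z ∈ Z, nt * ν z * nt⁻¹ ∈ Pt := by
      let U : Subgroup (S ⧸ R.subgroupOf S) := (Pt.comap (MulAut.conj nt).toMonoidHom).comap ν
      have hZU : Z ≤ U := by
        refine sup_le ?_ ?_
        · intro z hz
          show nt * ν z * nt⁻¹ ∈ Pt
          rw [← hntA _ ⟨z, hz, rfl⟩]
          exact hcj ⟨_, ⟨z, hz, rfl⟩, rfl⟩
        · intro z hz
          show nt * ν z * nt⁻¹ ∈ Pt
          exact hWtP (conj_mem_of_mem_NN hnt hz)
      exact fun z hz => hZU hz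
    have hnS : ∀ s : S, θ s ∈ Z → (n : G) * s * (n : G)⁻¹ ∈ S := by
      intro s hs
      have h1 := hU _ hs
      rw [hνθ] at h1
      have h2 : nt * η s * nt⁻¹ = pp L R (n * Subgroup.inclusion hSL s * n⁻¹) := by
        rw [map_mul, map_mul, map_inv, hnn]
        rfl
      rw [h2] at h1
      exact mem_of_mem_img (H := L) (V₀ := R) hRS h1
    set Y := preimageAlong θ Z with hYdef
    have hYS : Y ≤ S := preimageAlong_le θ Z
    have hYZ : ∀ y : Y, θ ⟨y, hYS y.2⟩ ∈ Z := fun y => by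
      obtain ⟨_, h⟩ := (mem_preimageAlong θ Z _).mp y.2
      exact h
    let χ : Y →* G := conjHom Y (n : G)
    have hχ : χ ∈ (groupFusionSystem S).Hom Y := ⟨hYS, fun y => hnS ⟨y, hYS y.2⟩ (hYZ y), n, fun y => rfl⟩
    obtain ⟨ψ', hind'⟩ := Cfsg.Agent.Lib.FusionStrongClosed.exists_induced hR hθk hθr (le_top : Z ≤ ⊤) hχ
    have hψ' : ψ' ∈ E.Hom Z := (hE.2.2.2 Z ψ').mpr ⟨le_top, χ, hχ, hind'⟩
    -- key formula
    have hkey : ∀ s : S, ∀ hs : θ s ∈ Z, ν (ψ' ⟨θ s, hs⟩) = nt * ν (θ s) * nt⁻¹ := by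
      intro s hs
      obtain ⟨h0, h1, h2, h3⟩ := hind'
      have hsY : (s : G) ∈ Y := (mem_preimageAlong θ Z _).mpr ⟨s.2, hs⟩
      have h4 := h3 ⟨s, hsY⟩
      have h5 : (⟨θ ⟨((⟨s, hsY⟩ : Y) : G), h0 (⟨s, hsY⟩ : Y).2⟩, h2 ⟨s, hsY⟩⟩ : Z) = ⟨θ s, hs⟩ := rfl
      rw [h5] at h4
      rw [h4, hνθ, hνθ]
      have e : (χ ⟨s, hsY⟩ : G) = (n : G) * s * (n : G)⁻¹ := rfl
      show pp L R _ = _
      show pp L R (Subgroup.inclusion hSL ⟨χ ⟨s, hsY⟩, h1 ⟨s, hsY⟩⟩) = nt * pp L R (Subgroup.inclusion hSL s) * nt⁻¹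
      rw [← hnn, ← map_inv, ← map_mul, ← map_mul]
      rfl
    refine ⟨ψ', hψ', ?_, ?_⟩
    · intro x
      obtain ⟨s, hs⟩ := hθs x
      have hsP' : θ s ∈ P' := by rw [hs]; exact x.2
      have hsZ : θ s ∈ Z := Subgroup.mem_sup_left hsP'
      have hsY₀ := hmemY₀ s hsP'
      apply hνinj
      have h1 : (Subgroup.inclusion le_sup_left x : Z) = ⟨θ s, hsZ⟩ := Subtype.ext hs.symm
      rw [h1, hkey s hsZ]
      have h2 : (x : S ⧸ R.subgroupOf S) = θ s := hs.symm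
      have hx0 : x = ⟨θ s, hsP'⟩ := Subtype.ext h2
      rw [hx0]
      have h3 := hind ⟨s, hsY₀⟩
      have h4 : (⟨θ ⟨((⟨s, hsY₀⟩ : Y₀) : G), hP0 (⟨s, hsY₀⟩ : Y₀).2⟩, hP1 ⟨s, hsY₀⟩⟩ : P') = ⟨θ s, hsP'⟩ := rfl
      rw [h4] at h3
      rw [h3, ← hntA _ ⟨θ s, hsP', rfl⟩, hgbe s hsY₀, hνθ]
      congr 1
      apply Subtype.ext
      exact (hg ⟨s, hsY₀⟩).symm
    · ext w
      constructor
      · rintro ⟨⟨z, hzZ⟩, hz, rfl⟩
        obtain ⟨s, rfl⟩ := hθs z
        have hzW : θ s ∈ W := Subgroup.mem_subgroupOf.mp hz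
        show ν (ψ' ⟨θ s, hzZ⟩) ∈ Wt
        rw [hkey s hzZ]
        exact conj_mem_of_mem_NN hnt hzW
      · intro hw
        have h1 : nt⁻¹ * ν w * nt⁻¹⁻¹ ∈ Wt := conj_mem_of_mem_NN (Subgroup.inv_mem _ hnt) hw
        obtain ⟨z, hz⟩ := hνs _ (hWtP h1)
        have hzW : z ∈ W := by
          show ν z ∈ Wt
          rw [hz]
          exact h1
        have hzZ : z ∈ Z := Subgroup.mem_sup_right hzW
        refine ⟨⟨z, hzZ⟩, Subgroup.mem_subgroupOf.mpr hzW, ?_⟩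
        apply hνinj
        obtain ⟨s, rfl⟩ := hθs z
        have := hkey s hzZ
        show ν (ψ' ⟨θ s, hzZ⟩) = ν w
        rw [this, hz]
        group
  intro h0
  apply hWne
  have h1 : W ≤ E.core := le_sSup hWn
  rw [h0] at h1
  exact le_bot_iff.mp h1

end Cfsg.Agent.Lib.StableFactor
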