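import Mathlib
import Cfsg.Agent.Lib.NCFree
import Cfsg.Agent.Lib.ActionStable
import Cfsg.Agent.Lib.PCore
import Cfsg.Agent.Lib.CharTwoLocal
import Cfsg.Agent.Lib.BGTrans

/-!
# Elements acting quadratically on the Fitting subgroup of a solvable group.

If `S` is solvable and `2, 3` do not divide `|F(S)|`, an element `x` with `[F(S), x, x] = 1` lies in `F(S)`.
-/

set_option autoImplicit false
set_option linter.unusedSectionVars false
set_option linter.style.haveILetI false
set_option linter.unusedVariables false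

open Subgroup
open scoped commutatorElement

namespace Cfsg.Agent.Lib.StableFit

open Cfsg Cfsg.Agent.Lib.QuadP Cfsg.Agent.Lib.PCore

theorem not_solvable_SLp {r : ℕ} [hr : Fact r.Prime] (h5 : 5 ≤ r) : ¬ Group.IsSolvable (SLp r) := by
  have ha : (2 : ZMod r) ≠ 0 := by
    intro h
    have h1 : ((2 : ℕ) : ZMod r) = 0 := by exact_mod_cast h
    rw [ZMod.natCast_eq_zero_iff] at h1
    have := Nat.le_of_dvd (by norm_num) h1
    omega
  have hasq : (2 : ZMod r) ^ 2 ≠ 1 := by
    intro h
    have h1 : ((3 : ℕ) : ZMod r) = 0 := by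
      push_cast
      linear_combination h
    rw [ZMod.natCast_eq_zero_iff] at h1
    have := Nat.le_of_dvd (by norm_num) h1
    omega
  haveI : Group.IsPerfect (SLp r) := ⟨Matrix.SL2.commutator_eq_top ha hasq⟩
  haveI : Nontrivial (SLp r) := (QuotientGroup.mk'_surjective (Subgroup.center (SLp r))).nontrivial
  exact Group.IsPerfect.not_isSolvable _

theorem not_involves {Γ : Type*} [Group Γ] [Group.IsSolvable Γ] {r : ℕ} [hr : Fact r.Prime]
    (h5 : 5 ≤ r) : ¬ Involves (SLp r) Γ := by
  rintro ⟨K, R, hn, ⟨e⟩⟩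
  haveI : Group.IsSolvable (SLp r) := Group.isSolvable_of_surjective (f := e.toMonoidHom) e.surjective
  exact not_solvable_SLp h5 this

variable {S : Type*} [Group S] [Finite S]

/-- A quadratic element lies in the `r`-core of the automizer. -/
theorem mk_mem_pCore [Group.IsSolvable S] {r : ℕ} [hr : Fact r.Prime] (h5 : 5 ≤ r)
    (V : Subgroup S) [V.Normal] (hV : IsPGroup r V) {x : S} (hx : ∀ v ∈ V, ⁅⁅v, x⁆, x⁆ = 1) :
    (QuotientGroup.mk x : S ⧸ centralizer (V : Set S)) ∈ pCore r (S ⧸ centralizer (V : Set S)) := by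
  have h2 : r ≠ 2 := by omega
  have key := Cfsg.Agent.Lib.NCFree.mem_pCore_or_involves h2 hV
    (Cfsg.Agent.Lib.ActionStable.quotConj V) (Cfsg.Agent.Lib.ActionStable.quotConj_injective V)
    (a := (QuotientGroup.mk x : S ⧸ centralizer (V : Set S))) (by
      intro v
      apply Subtype.ext
      rw [Cfsg.Agent.Lib.ActionStable.quotConj_mk]
      have e : ((Cfsg.Agent.Lib.ActionStable.quotConj V
          (QuotientGroup.mk x : S ⧸ centralizer (V : Set S)) v * v⁻¹ : V) : S) = x * v * x⁻¹ * (v : S)⁻¹ := by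
        rw [Subgroup.coe_mul, Subgroup.coe_inv, Cfsg.Agent.Lib.ActionStable.quotConj_mk]
      rw [e]
      have h3 := hx v v.2
      have h4 : ⁅(v : S), x⁆ * x = x * ⁅(v : S), x⁆ := commutatorElement_eq_one_iff_mul_comm.mp h3
      have e2 : x * v * x⁻¹ * (v : S)⁻¹ = ⁅(v : S), x⁆⁻¹ := by
        simp only [commutatorElement_def]
        group
      rw [e2]
      have h5 : ⁅(v : S), x⁆⁻¹ * x = x * ⁅(v : S), x⁆⁻¹ :=
        (show Commute ⁅(v : S), x⁆ x from h4).inv_left.eq
      rw [← h5]
      group)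
  rcases key with h | h
  · exact h
  · exact absurd h (not_involves h5)

/-- A coprime quadratic element centralizes. -/
theorem commute_of_quad {r : ℕ} [hr : Fact r.Prime] {x : S} {k : ℕ} (hxr : x ^ r ^ k = 1)
    {v : S} (hv : ⁅⁅v, x⁆, x⁆ = 1) (hc : (orderOf ⁅v, x⁆).Coprime r) : ⁅v, x⁆ = 1 := by
  have h1 : ⁅v, x⁆ * x = x * ⁅v, x⁆ := commutatorElement_eq_one_iff_mul_comm.mp hv
  have h2 : Commute ⁅v, x⁆ x := h1
  -- `[v, x^n] = [v, x] ^ n`
  have h3 : ∀ n : ℕ, v * x ^ n * v⁻¹ * (x ^ n)⁻¹ = ⁅v, x⁆ ^ n := by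
    intro n
    induction n with
    | zero => simp
    | succ n ih =>
      have e : v * x ^ (n + 1) * v⁻¹ * (x ^ (n + 1))⁻¹ =
          (v * x ^ n * v⁻¹ * (x ^ n)⁻¹) * (x ^ n * ⁅v, x⁆ * (x ^ n)⁻¹) := by
        simp only [commutatorElement_def, pow_succ]
        group
      rw [e, ih, ((h2.pow_right n).eq).symm, mul_assoc, mul_inv_cancel, mul_one, pow_succ]
  have h4 := h3 (r ^ k)
  rw [hxr] at h4
  simp only [mul_one, mul_inv_cancel, inv_one] at h4
  have h5 : orderOf ⁅v, x⁆ ∣ r ^ k := orderOf_dvd_of_pow_eq_one h4.symm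
  have h6 : orderOf ⁅v, x⁆ = 1 := Nat.eq_one_of_dvd_coprimes (hc.pow_right k) dvd_rfl h5
  exact orderOf_eq_one_iff.mp h6

/-- The main lemma for `r`-elements. -/
theorem mem_fitting_of_quad [Group.IsSolvable S]
    (hF : ∀ q : ℕ, q.Prime → q ∣ Nat.card (fittingSubgroup S) → 5 ≤ q)
    {r : ℕ} [hr : Fact r.Prime] {x : S} {k : ℕ} (hxr : x ^ r ^ k = 1)
    (hx : ∀ f ∈ fittingSubgroup S, ⁅⁅f, x⁆, x⁆ = 1) : x ∈ fittingSubgroup S := by
  classical
  obtain ⟨F₀, hF₀⟩ : ∃ F₀, F₀ = fittingSubgroup S := ⟨_, rfl⟩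
  rw [← hF₀] at hF hx ⊢
  have hF₀n : F₀.Normal := by
    rw [hF₀]
    exact inferInstance
  haveI := hF₀n
  have hQF : pCore r S ≤ F₀ := by
    rw [hF₀]
    exact pCore_le_fittingSubgroup r
  obtain ⟨W, hW⟩ : ∃ W, W = pPrimeCore r S ⊓ F₀ := ⟨_, rfl⟩
  haveI hWn : W.Normal := by
    rw [hW]
    exact Subgroup.normal_inf_normal _ _
  have hWF : W ≤ F₀ := by
    rw [hW]
    exact inf_le_right
  have hWc : ∀ w ∈ W, (orderOf w).Coprime r := by
    intro w hw
    have hw' : w ∈ pPrimeCore r S := by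
      rw [hW] at hw
      exact hw.1
    exact Nat.Coprime.coprime_dvd_left (Subgroup.orderOf_dvd_natCard _ hw') (card_pPrimeCore_coprime r)
  -- `F₀ = O_r · W`
  have hFsup : ∀ f ∈ F₀, ∃ q ∈ pCore r S, ∃ w ∈ W, f = q * w := by
    intro f hf
    have h1 : f ∈ pCore r S ⊔ pPrimeCore r S := by
      apply fittingSubgroup_le_sup r
      rw [← hF₀]
      exact hf
    obtain ⟨q, hq, w, hw, e⟩ := Cfsg.Agent.Lib.CharTwoLocal.exists_mul_of_mem_sup
      (by rw [Subgroup.normalizer_eq_top _]; exact le_top) h1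
    refine ⟨q, hq, w, ?_, e⟩
    rw [hW]
    refine Subgroup.mem_inf.2 ⟨hw, ?_⟩
    have : w = q⁻¹ * f := by rw [e]; group
    rw [this]
    exact mul_mem (inv_mem (hQF hq)) hf
  -- commuting parts
  have hcomm : ∀ q ∈ pCore r S, ∀ w ∈ W, q * w = w * q := by
    intro q hq w hw
    have h1 : ⁅q, w⁆ ∈ pCore r S := by
      have e : ⁅q, w⁆ = q * (w * q⁻¹ * w⁻¹) := by
        simp only [commutatorElement_def]
        group
      rw [e]
      exact mul_mem hq (Subgroup.Normal.conj_mem inferInstance _ (inv_mem hq) w)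
    have h2 : ⁅q, w⁆ ∈ W := by
      have e : ⁅q, w⁆ = (q * w * q⁻¹) * w⁻¹ := by
        simp only [commutatorElement_def]
      rw [e]
      exact mul_mem (hWn.conj_mem w hw q) (inv_mem hw)
    have h3 := hWc _ h2
    have hp : IsPGroup r (pCore r S) := isPGroup_pCore r
    obtain ⟨l, hl⟩ := hp ⟨⁅q, w⁆, h1⟩
    have h4 : ⁅q, w⁆ ^ r ^ l = 1 := congrArg Subtype.val hl
    have h5 : orderOf ⁅q, w⁆ ∣ r ^ l := orderOf_dvd_of_pow_eq_one h4
    have h6 : orderOf ⁅q, w⁆ = 1 := Nat.eq_one_of_dvd_coprimes (h3.pow_right l) dvd_rfl h5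
    exact commutatorElement_eq_one_iff_mul_comm.mp (orderOf_eq_one_iff.mp h6)
  -- `x` centralizes `W`
  have hxW : x ∈ centralizer (W : Set S) := by
    rw [Subgroup.mem_centralizer_iff]
    intro w hw
    have h1 := commute_of_quad hxr (hx w (hWF hw)) (hWc _ (by
      have e : ⁅w, x⁆ = w * (x * w⁻¹ * x⁻¹) := by
        simp only [commutatorElement_def]
        group
      rw [e]
      exact mul_mem hw (hWn.conj_mem _ (inv_mem hw) x)))
    exact (commutatorElement_eq_one_iff_mul_comm.mp h1)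
  -- `x` in the `r`-core of the automizer
  obtain ⟨C, hC⟩ : ∃ C, C = centralizer ((pCore r S : Subgroup S) : Set S) := ⟨_, rfl⟩
  have hxY : (QuotientGroup.mk x : S ⧸ centralizer ((pCore r S : Subgroup S) : Set S)) ∈
      pCore r (S ⧸ centralizer ((pCore r S : Subgroup S) : Set S)) := by
    by_cases h5 : 5 ≤ r
    · exact mk_mem_pCore h5 _ (isPGroup_pCore r) (fun v hv => hx v (hQF hv))
    · have hbot : pCore r S = ⊥ := by
        by_contra hne
        have h1 : Nat.card (pCore r S) ≠ 1 := by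
          intro h
          exact hne (Subgroup.eq_bot_of_card_eq _ h)
        obtain ⟨j, hj⟩ := IsPGroup.iff_card.mp (isPGroup_pCore (G := S) r)
        have h2 : r ∣ Nat.card (pCore r S) := by
          rw [hj] at h1 ⊢
          apply dvd_pow_self
          rintro rfl
          exact h1 (pow_zero r)
        have h3 : r ∣ Nat.card F₀ := h2.trans (Subgroup.card_dvd_of_le hQF)
        exact h5 (hF r hr.out h3)
      have h1 : x ∈ centralizer ((pCore r S : Subgroup S) : Set S) := by
        rw [Subgroup.mem_centralizer_iff]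
        intro g hg
        have : g = 1 := by
          rw [hbot] at hg
          exact hg
        rw [this]
        group
      rw [(QuotientGroup.eq_one_iff x).mpr h1]
      exact one_mem _
  let Y : Subgroup S := (pCore r (S ⧸ centralizer ((pCore r S : Subgroup S) : Set S))).comap
    (QuotientGroup.mk' _)
  haveI hYn : Y.Normal := Subgroup.Normal.comap inferInstance _
  let M : Subgroup S := centralizer (W : Set S) ⊓ Y
  haveI hMn : M.Normal := Subgroup.normal_inf_normal _ _
  have hxM : x ∈ M := Subgroup.mem_inf.2 ⟨hxW, hxY⟩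
  -- `M` is nilpotent
  have hMnil : Group.IsNilpotent M := by
    let Z : Subgroup M := W.subgroupOf M
    haveI : Z.Normal := Subgroup.Normal.subgroupOf inferInstance M
    have hZcen : Z ≤ center M := by
      intro z hz
      rw [Subgroup.mem_center_iff]
      intro u
      apply Subtype.ext
      have hzW : (z : S) ∈ W := hz
      exact ((Subgroup.mem_centralizer_iff.mp u.2.1) _ hzW).symm
    have hquot : IsPGroup r (M ⧸ Z) := by
      intro y
      obtain ⟨u, rfl⟩ := QuotientGroup.mk_surjective y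
      -- the power in the centralizer of `O_r`
      have h1 : (QuotientGroup.mk (u : S) : S ⧸ centralizer ((pCore r S : Subgroup S) : Set S)) ∈
          pCore r (S ⧸ centralizer ((pCore r S : Subgroup S) : Set S)) := u.2.2
      obtain ⟨a, ha⟩ := (isPGroup_pCore r) ⟨_, h1⟩
      have h2 : ((QuotientGroup.mk ((u : S) ^ r ^ a)) : S ⧸ centralizer ((pCore r S : Subgroup S) : Set S)) = 1 := by
        have := congrArg Subtype.val ha
        simpa using this
      have h3 : (u : S) ^ r ^ a ∈ centralizer ((pCore r S : Subgroup S) : Set S) :=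
        (QuotientGroup.eq_one_iff _).mp h2
      have h4 : (u : S) ^ r ^ a ∈ centralizer (W : Set S) := pow_mem u.2.1 _
      -- so it centralizes `F₀`
      have h5 : (u : S) ^ r ^ a ∈ F₀ := by
        have h6 : (u : S) ^ r ^ a ∈ centralizer ((fittingSubgroup S : Subgroup S) : Set S) := by
          rw [Subgroup.mem_centralizer_iff]
          intro f hf
          rw [← hF₀] at hf
          obtain ⟨q, hq, w, hw, rfl⟩ := hFsup f hf
          have h7 := (Subgroup.mem_centralizer_iff.mp h3) q hq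
          have h8 := (Subgroup.mem_centralizer_iff.mp h4) w hw
          calc q * w * (u : S) ^ r ^ a = q * (w * (u : S) ^ r ^ a) := by group
            _ = q * ((u : S) ^ r ^ a * w) := by rw [h8]
            _ = (q * (u : S) ^ r ^ a) * w := by group
            _ = ((u : S) ^ r ^ a * q) * w := by rw [h7]
            _ = (u : S) ^ r ^ a * (q * w) := by group
        have := centralizer_fittingSubgroup_le (G := S) h6
        rw [hF₀]
        exact this
      obtain ⟨q, hq, w, hw, e⟩ := hFsup _ h5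
      obtain ⟨b, hb⟩ := (isPGroup_pCore r) ⟨q, hq⟩
      have hb' : q ^ r ^ b = 1 := congrArg Subtype.val hb
      have h9 : (u : S) ^ r ^ (a + b) = w ^ r ^ b := by
        rw [pow_add, pow_mul, e, (show Commute q w from hcomm q hq w hw).mul_pow, hb', one_mul]
      refine ⟨a + b, ?_⟩
      have h10 : (u ^ r ^ (a + b) : M) ∈ Z := by
        show ((u ^ r ^ (a + b) : M) : S) ∈ W
        rw [Subgroup.coe_pow, h9]
        exact pow_mem hw _
      rw [← QuotientGroup.mk_pow]
      exact (QuotientGroup.eq_one_iff _).mpr h10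
    haveI : Group.IsNilpotent (M ⧸ Z) := hquot.isNilpotent
    apply Subgroup.isNilpotent_of_ker_le_center (QuotientGroup.mk' Z)
    rw [QuotientGroup.ker_mk']
    exact hZcen
  have hle : M ≤ fittingSubgroup S := le_fittingSubgroup hMn hMnil
  rw [hF₀]
  exact hle hxM

/-- A subgroup containing all prime-power-order elements. -/
theorem le_of_pElements (L K : Subgroup S)
    (h : ∀ x ∈ L, ∀ (r k : ℕ), r.Prime → x ^ r ^ k = 1 → x ∈ K) : L ≤ K := by
  classical
  have hidx : (K.subgroupOf L).index = 1 := by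
    by_contra hne
    obtain ⟨r, hr, hd⟩ := Nat.exists_prime_and_dvd hne
    haveI : Fact r.Prime := ⟨hr⟩
    obtain ⟨P⟩ : Nonempty (Sylow r L) := inferInstance
    have hPle : (P : Subgroup L) ≤ K.subgroupOf L := by
      intro y hy
      obtain ⟨k, hk⟩ := P.isPGroup' ⟨y, hy⟩
      have h1 : (y : S) ^ r ^ k = 1 := by
        have := congrArg (fun z : P => ((z : L) : S)) hk
        simpa using this
      exact h y y.2 r k hr h1
    exact P.not_dvd_index (hd.trans (Subgroup.index_dvd_of_le hPle))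
  have htop : K.subgroupOf L = ⊤ := Subgroup.index_eq_one.mp hidx
  exact Subgroup.subgroupOf_eq_top.mp htop

/-- The subgroup form. -/
theorem le_fitting_of_quad [Group.IsSolvable S]
    (hF : ∀ q : ℕ, q.Prime → q ∣ Nat.card (fittingSubgroup S) → 5 ≤ q) (L : Subgroup S)
    (hL : ∀ x ∈ L, ∀ f ∈ fittingSubgroup S, ⁅⁅f, x⁆, x⁆ = 1) : L ≤ fittingSubgroup S := by
  apply le_of_pElements
  intro x hx r k hr hk
  haveI : Fact r.Prime := ⟨hr⟩
  exact mem_fitting_of_quad hF hk (hL x hx)

end Cfsg.Agent.Lib.StableFit
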