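import Mathlib
import Cfsg.Prelude.Def_KGroupFacts
import Cfsg.Agent.Lib.TransferEval

set_option autoImplicit false
set_option linter.unusedSectionVars false
set_option linter.unusedVariables false

/-!
# Stem extensions and Sylow subgroups

The kernel `K` of a stem extension `σ : Γ → G` meets a Sylow `p`-subgroup `P` of `Γ` inside `P'`; Sylow subgroups of `Γ`
may be chosen over a given Sylow subgroup of `G`.  Criteria to get `K = 1` from the structure of the Sylow subgroups of `G`: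
cyclic Sylow subgroups; elementary abelian subgroups of order `p²` with a suitable fusion; semidihedral groups of order `16`.
-/

namespace Cfsg.Agent.Lib.StemSylow

open Subgroup Cfsg
open scoped commutatorElement

variable {Γ G : Type*} [Group Γ] [Group G] {σ : Γ →* G} {p : ℕ} [hp : Fact p.Prime]

/-- the kernel of a stem extension meets a Sylow subgroup inside its commutator subgroup -/
theorem ker_mem_commutator [Finite Γ] (hσ : IsStemExtension σ) (P : Sylow p Γ) {z : Γ} (hz : z ∈ σ.ker)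
    (hzP : z ∈ (P : Subgroup Γ)) : (⟨z, hzP⟩ : ↥(P : Subgroup Γ)) ∈ commutator ↥(P : Subgroup Γ) := by
  have hz1 : z ∈ center Γ := hσ.2.1 hz
  have hz2 : z ∈ commutator Γ := hσ.2.2 hz
  have hpow : z ^ (P : Subgroup Γ).index ∈ (P : Subgroup Γ) := pow_mem hzP _
  let ϕ : ↥(P : Subgroup Γ) →* Abelianization ↥(P : Subgroup Γ) := Abelianization.of
  have h1 := Cfsg.Agent.Lib.TransferEval.pow_index_mem_ker ϕ hz1 hz2 hpow
  have h2 : ϕ ⟨z, hzP⟩ ^ (P : Subgroup Γ).index = 1 := by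
    rw [← map_pow]
    exact h1
  have h3 : orderOf (ϕ ⟨z, hzP⟩) ∣ (P : Subgroup Γ).index := orderOf_dvd_of_pow_eq_one h2
  obtain ⟨k, hk⟩ : ∃ k, Nat.card ↥(P : Subgroup Γ) = p ^ k := (P.2).exists_card_eq
  have h4 : orderOf (ϕ ⟨z, hzP⟩) ∣ p ^ k := by
    rw [← hk]
    exact (orderOf_map_dvd ϕ _).trans (orderOf_dvd_natCard _)
  have h5 : Nat.Coprime (p ^ k) (P : Subgroup Γ).index := by
    rw [← hk]
    exact P.card_coprime_index
  have h6 : orderOf (ϕ ⟨z, hzP⟩) = 1 := Nat.eq_one_of_dvd_coprimes h5 h4 h3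
  have h7 : ϕ ⟨z, hzP⟩ = 1 := orderOf_eq_one_iff.1 h6
  exact (QuotientGroup.eq_one_iff _).1 h7

theorem mem_smul_sylow' {K : Type*} [Group K] {q : ℕ} (g x : K) (P : Sylow q K) :
    x ∈ ((g • P : Sylow q K) : Subgroup K) ↔ g⁻¹ * x * g ∈ (P : Subgroup K) := by
  rw [Sylow.coe_subgroup_smul, Subgroup.mem_pointwise_smul_iff_inv_smul_mem]
  have e1 : (MulAut.conj g)⁻¹ • x = g⁻¹ * x * g := by
    rw [MulAut.smul_def, MulAut.inv_def]
    simp
  rw [e1]

/-- a Sylow subgroup of `Γ` containing a given central `p`-element over a given Sylow subgroup of `G` -/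
theorem exists_sylow_over [Finite Γ] [Finite G] (hsurj : Function.Surjective σ) (U : Sylow p G) {z : Γ}
    (hz : z ∈ center Γ) (hzo : orderOf z = p) :
    ∃ P : Sylow p Γ, z ∈ (P : Subgroup Γ) ∧ (P : Subgroup Γ).map σ = (U : Subgroup G) := by
  have hzp : IsPGroup p (zpowers z) := by
    apply IsPGroup.of_card (n := 1)
    rw [pow_one, Nat.card_zpowers, hzo]
  obtain ⟨P₁, hP₁⟩ := hzp.exists_le_sylow
  obtain ⟨g, hg⟩ := MulAction.exists_smul_eq G (P₁.mapSurjective hsurj) U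
  obtain ⟨g', rfl⟩ := hsurj g
  refine ⟨g' • P₁, ?_, ?_⟩
  · rw [mem_smul_sylow']
    have h1 := (Subgroup.mem_center_iff.1 hz) g'
    have : g'⁻¹ * z * g' = z := by
      rw [mul_assoc, ← h1, ← mul_assoc, inv_mul_cancel, one_mul]
    rw [this]
    exact hP₁ (mem_zpowers z)
  · rw [← hg]
    ext x
    constructor
    · rintro ⟨y, hy, rfl⟩
      have hy' : y ∈ ((g' • P₁ : Sylow p Γ) : Subgroup Γ) := hy
      rw [mem_smul_sylow'] at hy'
      show σ y ∈ ((σ g' • P₁.mapSurjective hsurj : Sylow p G) : Subgroup G)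
      rw [mem_smul_sylow']
      exact ⟨_, hy', by simp⟩
    · intro hx
      have hx' : x ∈ ((σ g' • P₁.mapSurjective hsurj : Sylow p G) : Subgroup G) := hx
      rw [mem_smul_sylow'] at hx'
      obtain ⟨y, hy, hyx⟩ := hx'
      refine ⟨g' * y * g'⁻¹, ?_, ?_⟩
      · show _ ∈ ((g' • P₁ : Sylow p Γ) : Subgroup Γ)
        rw [mem_smul_sylow']
        have e1 : g'⁻¹ * (g' * y * g'⁻¹) * g' = y := by group
        rw [e1]
        exact hy
      · simp only [map_mul, map_inv]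
        have : (σ g')⁻¹ * x * σ g' = σ y := hyx.symm
        rw [← this]
        group

/-- a group whose elements are products of powers of two commuting elements and central elements is commutative -/
theorem comm_of_normal_form {P : Subgroup Γ} {K : Subgroup Γ} (hK : K ≤ center Γ) {x y : Γ} (hxy : x * y = y * x)
    (h : ∀ s ∈ P, ∃ (i j : ℕ) (k : Γ), k ∈ K ∧ s = x ^ i * y ^ j * k) :
    ∀ s ∈ P, ∀ t ∈ P, s * t = t * s := by
  intro s hs t ht
  obtain ⟨i, j, k, hk, rfl⟩ := h s hs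
  obtain ⟨l, m, k', hk', rfl⟩ := h t ht
  have c0 : Commute x y := hxy
  have ck : Commute k (x ^ l * y ^ m * k') := (Subgroup.mem_center_iff.1 (hK hk) _).symm
  have ck' : Commute (x ^ i * y ^ j) k' := (Subgroup.mem_center_iff.1 (hK hk') _)
  have c1 : Commute (x ^ i * y ^ j) (x ^ l * y ^ m) := by
    apply Commute.mul_left
    · apply Commute.mul_right
      · exact (Commute.refl x).pow_pow i l
      · exact c0.pow_pow i m
    · apply Commute.mul_right
      · exact (c0.pow_pow l j).symm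
      · exact (Commute.refl y).pow_pow j m
  have c2 : Commute (x ^ i * y ^ j) (x ^ l * y ^ m * k') := c1.mul_right ck'
  exact Commute.mul_left c2 ck

theorem commutator_eq_bot_of_comm {P : Subgroup Γ} (h : ∀ s ∈ P, ∀ t ∈ P, s * t = t * s) :
    commutator ↥P = ⊥ := by
  rw [eq_bot_iff, _root_.commutator_def, Subgroup.commutator_le]
  intro g₁ _ g₂ _
  rw [Subgroup.mem_bot, commutatorElement_eq_one_iff_commute]
  exact Subtype.ext (h _ g₁.2 _ g₂.2)

/-- normal forms in a Sylow subgroup from normal forms in its image -/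
theorem normal_form {P : Subgroup Γ} {x y : Γ} {a b : G} (hx : σ x = a) (hy : σ y = b) (hxP : x ∈ P) (hyP : y ∈ P)
    (h : ∀ s ∈ P.map σ, ∃ i j : ℕ, s = a ^ i * b ^ j) :
    ∀ s ∈ P, ∃ (i j : ℕ) (k : Γ), k ∈ σ.ker ⊓ P ∧ s = x ^ i * y ^ j * k := by
  intro s hs
  obtain ⟨i, j, hij⟩ := h (σ s) ⟨s, hs, rfl⟩
  refine ⟨i, j, (x ^ i * y ^ j)⁻¹ * s, ⟨?_, ?_⟩, by group⟩
  · show _ ∈ σ.ker
    rw [MonoidHom.mem_ker, map_mul, map_inv, map_mul, map_pow, map_pow, hx, hy, hij]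
    group
  · exact P.mul_mem (P.inv_mem (P.mul_mem (P.pow_mem hxP _) (P.pow_mem hyP _))) hs

/-- a stem extension has no central `p`-element over a cyclic Sylow subgroup -/
theorem crit_cyclic [Finite Γ] [Finite G] (hσ : IsStemExtension σ) (P : Sylow p Γ) (hc : IsCyclic ((P : Subgroup Γ).map σ))
    {z : Γ} (hz : z ∈ σ.ker) (hzP : z ∈ (P : Subgroup Γ)) : z = 1 := by
  obtain ⟨⟨g, hg⟩, hgen⟩ := hc.exists_generator
  obtain ⟨x, hxP, rfl⟩ := hg
  have hform : ∀ s ∈ (P : Subgroup Γ).map σ, ∃ i j : ℕ, s = (σ x) ^ i * (1 : G) ^ j := by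
    intro s hs
    have h1 := hgen ⟨s, hs⟩
    rw [Subgroup.mem_zpowers_iff] at h1
    obtain ⟨n, hn⟩ := h1
    have h2 : (σ x) ^ n = s := congrArg Subtype.val hn
    have h3 : s ∈ Submonoid.powers (σ x) := by
      rw [mem_powers_iff_mem_zpowers, Subgroup.mem_zpowers_iff]
      exact ⟨n, h2⟩
    obtain ⟨i, hi⟩ := h3
    exact ⟨i, 0, by simp [← hi]⟩
  have hnf := normal_form (y := 1) rfl (map_one σ) hxP (one_mem _) hform
  have hcomm := comm_of_normal_form (K := σ.ker ⊓ (P : Subgroup Γ)) (fun u hu => hσ.2.1 hu.1) (x := x) (y := 1)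
    (by simp) hnf
  have hb := commutator_eq_bot_of_comm hcomm
  have h := ker_mem_commutator hσ P hz hzP
  rw [hb, Subgroup.mem_bot] at h
  exact congrArg Subtype.val h

theorem comm_central {K : Type*} [Group K] (c d y x : K) (hc : ∀ w, c * w = w * c) (hd : ∀ w, d * w = w * d) :
    c * y * (d * x) * (c * y)⁻¹ * (d * x)⁻¹ = y * x * y⁻¹ * x⁻¹ := by
  have h1 : c * y * (d * x) = (c * d) * (y * x) := by
    rw [mul_assoc c y, ← mul_assoc y d x, ← hd y, mul_assoc d y x, ← mul_assoc c]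
  have h2 : d * x * (c * y) = (c * d) * (x * y) := by
    rw [mul_assoc d x, ← mul_assoc x c y, ← hc x, mul_assoc c x y, ← mul_assoc d, hd c]
  have hcd : ∀ w, (c * d) * w = w * (c * d) := by
    intro w
    rw [mul_assoc, hd, ← mul_assoc, hc, mul_assoc]
  calc c * y * (d * x) * (c * y)⁻¹ * (d * x)⁻¹ = (c * y * (d * x)) * (d * x * (c * y))⁻¹ := by group
    _ = (c * d) * (y * x) * ((x * y)⁻¹ * (c * d)⁻¹) := by rw [h1, h2, mul_inv_rev]
    _ = (y * x) * (c * d) * ((x * y)⁻¹ * (c * d)⁻¹) := by rw [hcd]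
    _ = (y * x) * ((c * d) * (x * y)⁻¹) * (c * d)⁻¹ := by group
    _ = (y * x) * ((x * y)⁻¹ * (c * d)) * (c * d)⁻¹ := by rw [hcd]
    _ = y * x * y⁻¹ * x⁻¹ := by group

/-- elementary abelian type: a fusion element interchanging the two generators -/
theorem crit_swap [Finite Γ] [Finite G] (hσ : IsStemExtension σ) (hp2 : p ≠ 2) (P : Sylow p Γ) {u v g : G} (huv : u * v = v * u)
    (hgu : g * u * g⁻¹ = v) (hgv : g * v * g⁻¹ = u)
    (hu : u ∈ (P : Subgroup Γ).map σ) (hv : v ∈ (P : Subgroup Γ).map σ)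
    (hform : ∀ s ∈ (P : Subgroup Γ).map σ, ∃ i j : ℕ, s = u ^ i * v ^ j)
    {z : Γ} (hz : z ∈ σ.ker) (hzP : z ∈ (P : Subgroup Γ)) : z = 1 := by
  obtain ⟨x, hxP, hx⟩ := hu
  obtain ⟨y, hyP, hy⟩ := hv
  obtain ⟨g', rfl⟩ := hσ.1 g
  have hcen : ∀ k ∈ σ.ker, ∀ w, k * w = w * k := fun k hk w =>
    ((Subgroup.mem_center_iff.1 (hσ.2.1 hk)) w).symm
  -- the commutator of `x` and `y`
  have hw : x * y * x⁻¹ * y⁻¹ ∈ σ.ker := by
    rw [MonoidHom.mem_ker]
    simp only [map_mul, map_inv, hx, hy]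
    rw [huv]
    group
  set w := x * y * x⁻¹ * y⁻¹ with hwdef
  -- the images under `g'`
  have k1 : g' * x * g'⁻¹ * y⁻¹ ∈ σ.ker := by
    rw [MonoidHom.mem_ker]
    simp only [map_mul, map_inv, hy, hx]
    rw [hgu]
    group
  have k2 : g' * y * g'⁻¹ * x⁻¹ ∈ σ.ker := by
    rw [MonoidHom.mem_ker]
    simp only [map_mul, map_inv, hy, hx]
    rw [hgv]
    group
  set c1 := g' * x * g'⁻¹ * y⁻¹ with hc1
  set c2 := g' * y * g'⁻¹ * x⁻¹ with hc2
  have e1 : g' * x * g'⁻¹ = c1 * y := by rw [hc1]; group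
  have e2 : g' * y * g'⁻¹ = c2 * x := by rw [hc2]; group
  have e3 : g' * w * g'⁻¹ = w⁻¹ := by
    have h0 : g' * w * g'⁻¹ = (g' * x * g'⁻¹) * (g' * y * g'⁻¹) * (g' * x * g'⁻¹)⁻¹ * (g' * y * g'⁻¹)⁻¹ := by
      rw [hwdef]; group
    rw [h0, e1, e2, hwdef]
    have a1 := comm_central c1 c2 y x (hcen c1 k1) (hcen c2 k2)
    rw [a1]
    group
  have e4 : g' * w * g'⁻¹ = w := by
    rw [(hcen w hw g').symm, mul_assoc, mul_inv_cancel, mul_one]
  have hww : w * w = 1 := by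
    have h5 : w = w⁻¹ := e4.symm.trans e3
    calc w * w = w * w⁻¹ := congrArg (w * ·) h5
      _ = 1 := mul_inv_cancel w
  -- `w` lies in the `p`-group `P`
  have hwP : w ∈ (P : Subgroup Γ) := by
    rw [hwdef]
    exact mul_mem (mul_mem (mul_mem hxP hyP) (inv_mem hxP)) (inv_mem hyP)
  have hw1 : w = 1 := by
    obtain ⟨k, hk⟩ : ∃ k, Nat.card ↥(P : Subgroup Γ) = p ^ k := (P.2).exists_card_eq
    have h6 : orderOf (⟨w, hwP⟩ : ↥(P : Subgroup Γ)) ∣ p ^ k := by
      rw [← hk]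
      exact orderOf_dvd_natCard _
    have h7 : orderOf (⟨w, hwP⟩ : ↥(P : Subgroup Γ)) ∣ 2 := by
      apply orderOf_dvd_of_pow_eq_one
      apply Subtype.ext
      show w ^ 2 = 1
      rw [pow_two, hww]
    have h8 : Nat.Coprime (p ^ k) 2 := by
      apply Nat.Coprime.pow_left
      exact (Nat.coprime_primes hp.out Nat.prime_two).2 hp2
    have h9 := Nat.eq_one_of_dvd_coprimes h8 h6 h7
    have h10 := orderOf_eq_one_iff.1 h9
    exact congrArg Subtype.val h10
  have hxy : x * y = y * x := by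
    have h5 : x * y * x⁻¹ * y⁻¹ = 1 := hw1
    rw [mul_inv_eq_one, mul_inv_eq_iff_eq_mul] at h5
    exact h5
  have hnf := normal_form hx hy hxP hyP hform
  have hcomm := comm_of_normal_form (K := σ.ker ⊓ (P : Subgroup Γ)) (fun u hu => hσ.2.1 hu.1) hxy hnf
  have hb := commutator_eq_bot_of_comm hcomm
  have h := ker_mem_commutator hσ P hz hzP
  rw [hb, Subgroup.mem_bot] at h
  exact congrArg Subtype.val h

/-- semidihedral type: relations `b² = 1`, `b a b⁻¹ = a³` and `a` of order `8` -/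
theorem crit_sd [Finite Γ] [Finite G] (hσ : IsStemExtension σ) (P : Sylow p Γ) {a b : G} (hb2 : b * b = 1)
    (hba : b * a * b⁻¹ = a ^ 3) (ha : ∀ n : ℕ, (a ^ 2) ^ n = 1 → 4 ∣ n)
    (haP : a ∈ (P : Subgroup Γ).map σ) (hbP : b ∈ (P : Subgroup Γ).map σ)
    (hform : ∀ s ∈ (P : Subgroup Γ).map σ, ∃ i j : ℕ, s = a ^ i * b ^ j)
    {z : Γ} (hz : z ∈ σ.ker) (hzP : z ∈ (P : Subgroup Γ)) : z = 1 := by
  obtain ⟨x, hxP, hx⟩ := haP
  obtain ⟨y, hyP, hy⟩ := hbP
  have hcen : ∀ k ∈ σ.ker, ∀ w, k * w = w * k := fun k hk w =>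
    ((Subgroup.mem_center_iff.1 (hσ.2.1 hk)) w).symm
  have hcen' : ∀ k ∈ σ.ker, ∀ w, k⁻¹ * w = w * k⁻¹ := fun k hk w => by
    rw [inv_mul_eq_iff_eq_mul, ← mul_assoc, hcen k hk, mul_assoc, mul_inv_cancel, mul_one]
  have hy2 : y * y ∈ σ.ker := by
    rw [MonoidHom.mem_ker, map_mul, hy, hb2]
  have k1mem : y * x * y⁻¹ * (x ^ 3)⁻¹ ∈ σ.ker := by
    rw [MonoidHom.mem_ker]
    simp only [map_mul, map_inv, map_pow, hx, hy, hba]
    group
  set k1 := y * x * y⁻¹ * (x ^ 3)⁻¹ with hk1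
  have e1 : y * x * y⁻¹ = x ^ 3 * k1 := by
    have : k1 * x ^ 3 = y * x * y⁻¹ := by rw [hk1]; group
    rw [← this, hcen k1 k1mem]
  -- the element generating the commutator subgroup
  set c := x ^ 2 * k1 with hc
  have hcdef : y * x * y⁻¹ * x⁻¹ = c := by
    rw [e1, hc]
    have : x ^ 3 * k1 * x⁻¹ = x ^ 3 * (k1 * x⁻¹) := by group
    rw [this, hcen k1 k1mem]
    group
  have hcP : c ∈ (P : Subgroup Γ) := by
    rw [← hcdef]
    exact mul_mem (mul_mem (mul_mem hyP hxP) (inv_mem hyP)) (inv_mem hxP)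
  have hyk : y * k1 * y⁻¹ = k1 := by
    rw [← hcen k1 k1mem y, mul_assoc, mul_inv_cancel, mul_one]
  have hyc : y * c * y⁻¹ = c ^ 3 := by
    have h1 : y * c * y⁻¹ = (y * x * y⁻¹) ^ 2 * (y * k1 * y⁻¹) := by
      rw [hc, ← conj_mul, conj_pow]
    rw [h1, e1, hyk, hc]
    have c1 : Commute (x ^ 3) k1 := (hcen k1 k1mem _).symm
    have c2 : Commute (x ^ 2) k1 := (hcen k1 k1mem _).symm
    rw [c1.mul_pow, c2.mul_pow, mul_assoc, ← pow_succ, ← pow_mul, ← pow_mul]
  have hxc : x * c * x⁻¹ = c := by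
    rw [hc]
    have : x * (x ^ 2 * k1) * x⁻¹ = x * x ^ 2 * (k1 * x⁻¹) := by group
    rw [this, hcen k1 k1mem]
    group
  have hc4 : c ^ 4 = 1 := by
    have h1 : (y * y) * x * (y * y)⁻¹ = x := by
      rw [hcen _ hy2 x, mul_assoc, mul_inv_cancel, mul_one]
    have h2 : (y * y) * x * (y * y)⁻¹ = y * (y * x * y⁻¹) * y⁻¹ := by group
    have h3 : y * (y * x * y⁻¹) * y⁻¹ = (y * x * y⁻¹) ^ 3 * (y * k1 * y⁻¹) := by
      calc y * (y * x * y⁻¹) * y⁻¹ = y * (x ^ 3 * k1) * y⁻¹ := by rw [e1]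
        _ = (y * x ^ 3 * y⁻¹) * (y * k1 * y⁻¹) := conj_mul.symm
        _ = (y * x * y⁻¹) ^ 3 * (y * k1 * y⁻¹) := by rw [conj_pow]
    rw [h2, h3, e1, hyk] at h1
    have c1 : Commute (x ^ 3) k1 := (hcen k1 k1mem _).symm
    rw [c1.mul_pow] at h1
    have h4 : x ^ 8 * k1 ^ 4 * x = x := by
      have h5 : (x ^ 3) ^ 3 * k1 ^ 3 * k1 = x ^ 9 * k1 ^ 4 := by
        rw [← pow_mul, mul_assoc, ← pow_succ]
      rw [h5] at h1
      have h6 : x ^ 9 * k1 ^ 4 = x ^ 8 * k1 ^ 4 * x := by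
        have c3 : Commute (k1 ^ 4) x := (Commute.pow_left (hcen k1 k1mem x) 4)
        calc x ^ 9 * k1 ^ 4 = x ^ 8 * (x * k1 ^ 4) := by rw [pow_succ x 8]; group
          _ = x ^ 8 * (k1 ^ 4 * x) := by rw [c3.eq]
          _ = x ^ 8 * k1 ^ 4 * x := by group
      rw [h6] at h1
      exact h1
    have h5 : x ^ 8 * k1 ^ 4 = 1 := by
      exact mul_eq_right.1 h4
    rw [hc, (show Commute (x ^ 2) k1 from (hcen k1 k1mem _).symm).mul_pow, ← pow_mul]
    exact h5
  -- normal forms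
  have hnf := normal_form hx hy hxP hyP hform
  let c' : ↥(P : Subgroup Γ) := ⟨c, hcP⟩
  let N : Subgroup ↥(P : Subgroup Γ) := zpowers c'
  have hconj : ∀ s ∈ (P : Subgroup Γ), ∃ m : ℕ, s * c * s⁻¹ = c ^ m := by
    intro s hs
    obtain ⟨i, j, k, hk, rfl⟩ := hnf s hs
    have hk' : k * c * k⁻¹ = c := by
      rw [hcen k hk.1 c, mul_assoc, mul_inv_cancel, mul_one]
    have hyj : ∀ j : ℕ, y ^ j * c * (y ^ j)⁻¹ = c ^ (3 ^ j) := by
      intro j
      induction j with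
      | zero => simp
      | succ j ih =>
        have h1 : y ^ (j + 1) * c * (y ^ (j + 1))⁻¹ = y ^ j * (y * c * y⁻¹) * (y ^ j)⁻¹ := by
          rw [pow_succ]; group
        rw [h1, hyc]
        have h2 : y ^ j * c ^ 3 * (y ^ j)⁻¹ = (y ^ j * c * (y ^ j)⁻¹) ^ 3 := by
          rw [conj_pow]
        rw [h2, ih, ← pow_mul, pow_succ]
    have hxi : ∀ (i : ℕ) (m : ℕ), x ^ i * c ^ m * (x ^ i)⁻¹ = c ^ m := by
      intro i m
      induction i with
      | zero => simp
      | succ i ih =>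
        have h1 : x ^ (i + 1) * c ^ m * (x ^ (i + 1))⁻¹ = x ^ i * (x * c ^ m * x⁻¹) * (x ^ i)⁻¹ := by
          rw [pow_succ]; group
        have h2 : x * c ^ m * x⁻¹ = c ^ m := by
          rw [← conj_pow, hxc]
        rw [h1, h2, ih]
    refine ⟨3 ^ j, ?_⟩
    calc x ^ i * y ^ j * k * c * (x ^ i * y ^ j * k)⁻¹
        = x ^ i * (y ^ j * (k * c * k⁻¹) * (y ^ j)⁻¹) * (x ^ i)⁻¹ := by group
      _ = c ^ 3 ^ j := by rw [hk', hyj, hxi]
  have hN : N.Normal := by
    refine ⟨fun n hn g => ?_⟩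
    obtain ⟨m, hm⟩ := Subgroup.mem_zpowers_iff.1 hn
    obtain ⟨l, hl⟩ := hconj g g.2
    have h1 : g * c' * g⁻¹ = c' ^ l := by
      apply Subtype.ext
      exact hl
    rw [← hm, ← conj_zpow, h1]
    exact zpow_mem (pow_mem (mem_zpowers c') _) _
  -- the quotient is commutative
  have hcomm : ∀ s t : ↥(P : Subgroup Γ), ⁅s, t⁆ ∈ N := by
    let π : ↥(P : Subgroup Γ) →* ↥(P : Subgroup Γ) ⧸ N := QuotientGroup.mk' N
    have hπ : ∀ s, s ∈ N ↔ π s = 1 := fun s => (QuotientGroup.eq_one_iff s).symm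
    let X : ↥(P : Subgroup Γ) := ⟨x, hxP⟩
    let Y : ↥(P : Subgroup Γ) := ⟨y, hyP⟩
    have hXY : Commute (π X) (π Y) := by
      have h1 : Y * X * Y⁻¹ * X⁻¹ ∈ N := by
        have : Y * X * Y⁻¹ * X⁻¹ = c' := Subtype.ext hcdef
        rw [this]
        exact mem_zpowers c'
      have h2 := (hπ _).1 h1
      simp only [map_mul, map_inv] at h2
      have h3 : π Y * π X = π X * π Y := by
        rw [mul_inv_eq_one, mul_inv_eq_iff_eq_mul] at h2
        exact h2
      exact h3.symm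
    have hform' : ∀ s : ↥(P : Subgroup Γ), ∃ (i j : ℕ) (k : ↥(P : Subgroup Γ)), (k : Γ) ∈ σ.ker ∧
        s = X ^ i * Y ^ j * k := by
      intro s
      obtain ⟨i, j, k, hk, hs⟩ := hnf s s.2
      exact ⟨i, j, ⟨k, hk.2⟩, hk.1, Subtype.ext hs⟩
    have hcentral : ∀ k : ↥(P : Subgroup Γ), (k : Γ) ∈ σ.ker → ∀ t, Commute k t := by
      intro k hk t
      exact Subtype.ext (hcen k hk t)
    intro s t
    rw [hπ, map_commutatorElement, commutatorElement_eq_one_iff_commute]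
    obtain ⟨i, j, k, hk, rfl⟩ := hform' s
    obtain ⟨l, m, k', hk', rfl⟩ := hform' t
    simp only [map_mul, map_pow]
    have ck : Commute (π k) (π X ^ l * π Y ^ m * π k') := by
      have := (hcentral k hk (X ^ l * Y ^ m * k')).map π
      simpa only [map_mul, map_pow] using this
    have ck' : Commute (π X ^ i * π Y ^ j) (π k') := by
      have := ((hcentral k' hk' (X ^ i * Y ^ j)).map π).symm
      simpa only [map_mul, map_pow] using this
    have c1 : Commute (π X ^ i * π Y ^ j) (π X ^ l * π Y ^ m) := by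
      apply Commute.mul_left
      · apply Commute.mul_right
        · exact (Commute.refl (π X)).pow_pow i l
        · exact hXY.pow_pow i m
      · apply Commute.mul_right
        · exact (hXY.pow_pow l j).symm
        · exact (Commute.refl (π Y)).pow_pow j m
    exact Commute.mul_left (c1.mul_right ck') ck
  have hle : commutator ↥(P : Subgroup Γ) ≤ N := by
    rw [_root_.commutator_def, Subgroup.commutator_le]
    intro s _ t _
    exact hcomm s t
  have h := hle (ker_mem_commutator hσ P hz hzP)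
  obtain ⟨n, hn⟩ := Subgroup.mem_zpowers_iff.1 h
  have hn' : c ^ n = z := congrArg Subtype.val hn
  -- the order of `c`
  have hσc : σ c = a ^ 2 := by
    rw [← hcdef]
    simp only [map_mul, map_inv, hx, hy, hba]
    group
  have hc4' : orderOf c ∣ 4 := orderOf_dvd_of_pow_eq_one hc4
  have hn2 : c ^ ((n % 4).toNat) = z := by
    rw [← hn', ← zpow_natCast, Int.toNat_of_nonneg (Int.emod_nonneg _ (by norm_num))]
    have h1 : c ^ (4 : ℤ) = 1 := by
      rw [show (4 : ℤ) = ((4 : ℕ) : ℤ) from rfl, zpow_natCast, hc4]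
    conv_rhs => rw [← Int.emod_add_mul_ediv n 4]
    rw [zpow_add, zpow_mul, h1, one_zpow, mul_one]
  have hz1 : σ z = 1 := hz
  rw [← hn2, map_pow, hσc] at hz1
  have hd := ha _ hz1
  have hlt : (n % 4).toNat < 4 := by omega
  have h0 : (n % 4).toNat = 0 := Nat.eq_zero_of_dvd_of_lt hd hlt
  rw [← hn2, h0, pow_zero]

end Cfsg.Agent.Lib.StemSylow
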